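import Mathlib
import Cfsg.Prelude.Def_Solvable
import Cfsg.Prelude.Def_Transfer

set_option autoImplicit false

namespace Cfsg.Agent.Lib.Helper7

open Cfsg

section pCore
variable {G : Type*} [Group G] {p : ℕ}

theorem pCore_normal (p : ℕ) (G : Type*) [Group G] : (pCore p G).Normal :=
  Subgroup.sSup_normal _ (fun _ h => h.1)

instance pCore_normal_inst (p : ℕ) (G : Type*) [Group G] : (pCore p G).Normal := pCore_normal p G

theorem pCore_isPGroup (p : ℕ) (G : Type*) [Group G] : IsPGroup p (pCore p G) :=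
  Sylow.sSup_of_normal _ (fun _ h => h.2) (fun _ h => h.1)

theorem le_pCore {N : Subgroup G} (hn : N.Normal) (hp : IsPGroup p N) : N ≤ pCore p G :=
  le_sSup ⟨hn, hp⟩

theorem pCore_le_sylow [Fact p.Prime] (P : Sylow p G) : pCore p G ≤ (P : Subgroup G) :=
  (pCore_isPGroup p G).le_sylow_of_normal P

theorem pCore_characteristic (p : ℕ) (G : Type*) [Group G] : (pCore p G).Characteristic := by
  rw [Subgroup.characteristic_iff_map_le]
  intro φ
  refine le_pCore ?_ ((pCore_isPGroup p G).map _)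
  exact Subgroup.Normal.map (pCore_normal p G) φ.toMonoidHom φ.surjective

/-- `pCore` transported along an isomorphism. -/
theorem pCore_map_equiv {H : Type*} [Group H] (e : G ≃* H) :
    (pCore p G).map e.toMonoidHom = pCore p H := by
  apply le_antisymm
  · refine le_pCore ?_ ((pCore_isPGroup p G).map _)
    exact Subgroup.Normal.map (pCore_normal p G) e.toMonoidHom e.surjective
  · have h2 : (pCore p H).map e.symm.toMonoidHom ≤ pCore p G := by
      refine le_pCore ?_ ((pCore_isPGroup p H).map _)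
      exact Subgroup.Normal.map (pCore_normal p H) e.symm.toMonoidHom e.symm.surjective
    intro x hx
    refine ⟨e.symm x, h2 ⟨x, hx, rfl⟩, ?_⟩
    simp

end pCore

section Frattini

set_option linter.style.haveILetI false

theorem exists_dual_eq_one_zmod (p : ℕ) [Fact p.Prime] {E : Type*} [AddCommGroup E] [Module (ZMod p) E]
    (v : E) (hv : v ≠ 0) : ∃ f : E →+ ZMod p, f v = 1 := by
  obtain ⟨f, hf⟩ := Module.Projective.exists_dual_eq_one (ZMod p) hv
  exact ⟨f.toAddMonoidHom, hf⟩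

theorem exists_hom_zmod_of_elemAb (p : ℕ) [Fact p.Prime] {E : Type*} [CommGroup E]
    (hE : ∀ e : E, e ^ p = 1) (v : E) (hv : v ≠ 1) : ∃ f : E →* Multiplicative (ZMod p), f v ≠ 1 := by
  letI instM : Module (ZMod p) (Additive E) := AddCommGroup.zmodModule (n := p) (by
    intro x
    induction x using Additive.rec with
    | ofMul x => rw [← ofMul_pow, hE x]; rfl)
  have hv' : (Additive.ofMul v) ≠ 0 := fun h => hv h
  obtain ⟨f, hf⟩ := exists_dual_eq_one_zmod p _ hv'
  refine ⟨AddMonoidHom.toMultiplicative f, ?_⟩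
  intro h
  have : f (Additive.ofMul v) = 0 := h
  rw [hf] at this
  exact one_ne_zero this

theorem isCoatom_ker_of_prime_card {P C : Type*} [Group P] [Group C] [Finite C] {p : ℕ} [Fact p.Prime]
    (hC : Nat.card C = p) (ψ : P →* C) (x : P) (hx : ψ x ≠ 1) : IsCoatom ψ.ker := by
  refine ⟨fun h => hx ?_, fun L hL => ?_⟩
  · have : x ∈ ψ.ker := h ▸ Subgroup.mem_top x
    exact this
  · obtain ⟨y, hyL, hyM⟩ := SetLike.exists_of_lt hL
    have hy1 : ψ y ≠ 1 := hyM
    have htop : Subgroup.zpowers (ψ y) = ⊤ := zpowers_eq_top_of_prime_card hC hy1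
    rw [eq_top_iff]
    intro z _
    have hz : ψ z ∈ Subgroup.zpowers (ψ y) := htop ▸ Subgroup.mem_top _
    obtain ⟨k, hk⟩ := Subgroup.mem_zpowers_iff.mp hz
    have hzM : z * (y ^ k)⁻¹ ∈ ψ.ker := by
      rw [MonoidHom.mem_ker, map_mul, map_inv, map_zpow, hk, mul_inv_cancel]
    have : z = (z * (y ^ k)⁻¹) * y ^ k := by group
    rw [this]
    exact L.mul_mem (hL.le hzM) (L.zpow_mem hyL k)

theorem frattini_le_ker_of_elemAb {P : Type*} [Group P] (p : ℕ) [Fact p.Prime] {E : Type*} [CommGroup E]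
    (hE : ∀ e : E, e ^ p = 1) (g : P →* E) : frattini P ≤ g.ker := by
  intro x hx
  by_contra hxK
  obtain ⟨f, hf⟩ := exists_hom_zmod_of_elemAb p hE (g x) hxK
  have hco : IsCoatom (f.comp g).ker :=
    isCoatom_ker_of_prime_card (p := p) (by simp [Nat.card_eq_fintype_card]) (f.comp g) x hf
  exact hf (frattini_le_coatom hco hx)

theorem frattini_le_of_elemAb_quotient {P : Type*} [Group P] (p : ℕ) [Fact p.Prime] (K : Subgroup P)
    (hc : ∀ x y : P, x * y * x⁻¹ * y⁻¹ ∈ K) (hp : ∀ x : P, x ^ p ∈ K) : frattini P ≤ K := by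
  haveI hKn : K.Normal := ⟨fun x hx g => by
    have h1 := hc g x
    have : g * x * g⁻¹ = (g * x * g⁻¹ * x⁻¹) * x := by group
    rw [this]
    exact K.mul_mem h1 hx⟩
  letI instC : CommGroup (P ⧸ K) :=
    { (inferInstance : Group (P ⧸ K)) with
      mul_comm := by
        intro a b
        induction a using QuotientGroup.induction_on with
        | H a =>
        induction b using QuotientGroup.induction_on with
        | H b =>
          rw [← QuotientGroup.mk_mul, ← QuotientGroup.mk_mul, QuotientGroup.eq]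
          have := hc b⁻¹ a⁻¹
          have e : (a * b)⁻¹ * (b * a) = b⁻¹ * a⁻¹ * b⁻¹⁻¹ * a⁻¹⁻¹ := by group
          rw [e]; exact this }
  have hE : ∀ e : P ⧸ K, e ^ p = 1 := by
    intro x
    induction x using QuotientGroup.induction_on with
    | H x =>
      rw [← QuotientGroup.mk_pow]
      exact (QuotientGroup.eq_one_iff _).mpr (hp x)
  have := frattini_le_ker_of_elemAb p hE (QuotientGroup.mk' K)
  rwa [QuotientGroup.ker_mk'] at this

end Frattini

section Coprime

open scoped commutatorElement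

/-- If `y` centralizes `⁅k, y⁆` then `⁅k, y ^ n⁆ = ⁅k, y⁆ ^ n`. -/
theorem commutatorElement_pow_right {G : Type*} [Group G] (k y : G) (h : y * ⁅k, y⁆ = ⁅k, y⁆ * y) (n : ℕ) :
    ⁅k, y ^ n⁆ = ⁅k, y⁆ ^ n := by
  induction n with
  | zero => simp
  | succ n ih =>
    have hc : Commute y ⁅k, y⁆ := h
    have hcn : Commute (y ^ n) ⁅k, y⁆ := hc.pow_left n
    have e : ⁅k, y ^ (n + 1)⁆ = ⁅k, y ^ n⁆ * (y ^ n * ⁅k, y⁆ * (y ^ n)⁻¹) := by
      simp only [commutatorElement_def, pow_succ]; group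
    rw [e, ih, hcn.eq, mul_inv_cancel_right, pow_succ]

/-- If the `p'`-element `x` commutes with `⁅r, x⁆` and `⁅r, x⁆` is a `p`-element, then `x` commutes with `r`. -/
theorem commute_of_coprime_of_commute_commutator {G : Type*} [Group G] {p : ℕ} (r x : G)
    (hx : (orderOf x).Coprime p) (hcx : x * ⁅r, x⁆ = ⁅r, x⁆ * x) (k : ℕ) (hk : ⁅r, x⁆ ^ (p ^ k) = 1) :
    r * x = x * r := by
  have h1 : ⁅r, x⁆ ^ orderOf x = 1 := by
    rw [← commutatorElement_pow_right r x hcx, pow_orderOf_eq_one, commutatorElement_one_right]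
  have hd1 : orderOf ⁅r, x⁆ ∣ orderOf x := orderOf_dvd_of_pow_eq_one h1
  have hd2 : orderOf ⁅r, x⁆ ∣ p ^ k := orderOf_dvd_of_pow_eq_one hk
  have hcop : (orderOf x).Coprime (p ^ k) := Nat.Coprime.pow_right k hx
  have : orderOf ⁅r, x⁆ = 1 := Nat.eq_one_of_dvd_coprimes hcop hd1 hd2
  have h2 : ⁅r, x⁆ = 1 := orderOf_eq_one_iff.mp this
  exact commutatorElement_eq_one_iff_mul_comm.mp h2

/-- A `p`-element that is also a `p'`-element is trivial. -/
theorem eq_one_of_coprime_of_pow_eq_one {G : Type*} [Group G] {p : ℕ} (x : G)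
    (hx : (orderOf x).Coprime p) (k : ℕ) (hk : x ^ (p ^ k) = 1) : x = 1 := by
  have hd2 : orderOf x ∣ p ^ k := orderOf_dvd_of_pow_eq_one hk
  have hcop : (orderOf x).Coprime (p ^ k) := Nat.Coprime.pow_right k hx
  exact orderOf_eq_one_iff.mp (Nat.eq_one_of_dvd_coprimes hcop dvd_rfl hd2)

/-- A subgroup of a finite group all of whose `p'`-elements are trivial is a `p`-group. -/
theorem isPGroup_of_coprime_trivial {G : Type*} [Group G] [Finite G] {p : ℕ} [Fact p.Prime]
    (L : Subgroup G) (key : ∀ x ∈ L, (orderOf x).Coprime p → x = 1) : IsPGroup p ↥L := by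
  have hp : p.Prime := Fact.out
  intro g
  have hpos : orderOf (g : G) ≠ 0 := (orderOf_pos (g : G)).ne'
  obtain ⟨a, m, hm, hnm⟩ := Nat.exists_eq_pow_mul_and_not_dvd hpos p hp.ne_one
  refine ⟨a, Subtype.ext ?_⟩
  rw [Subgroup.coe_pow, Subgroup.coe_one]
  apply key _ (L.pow_mem g.2 _)
  have h1 : ((g : G) ^ p ^ a) ^ m = 1 := by
    rw [← pow_mul, ← hnm, pow_orderOf_eq_one]
  have hd : orderOf ((g : G) ^ p ^ a) ∣ m := orderOf_dvd_of_pow_eq_one h1
  have hcm : m.Coprime p := ((Nat.Prime.coprime_iff_not_dvd hp).mpr hm).symm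
  exact Nat.Coprime.coprime_dvd_left hd hcm

theorem pow_eq_one_of_mem_isPGroup {G : Type*} [Group G] {p : ℕ} {R : Subgroup G} (hR : IsPGroup p ↥R)
    {x : G} (hx : x ∈ R) : ∃ k : ℕ, x ^ (p ^ k) = 1 := by
  obtain ⟨k, hk⟩ := hR ⟨x, hx⟩
  refine ⟨k, ?_⟩
  have := congrArg Subtype.val hk
  simpa using this

end Coprime

end Cfsg.Agent.Lib.Helper7
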