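import Mathlib
import Cfsg.Agent.Lib.Helper7.Core

set_option autoImplicit false

namespace Cfsg.Agent.Lib.Helper7

open Cfsg
open scoped Pointwise

section

variable {G : Type*} [Group G]

/-- `P` is a Sylow `p`-subgroup of the subgroup `H` (both subgroups of the same ambient group),
formulated by orders. -/
def IsSylowIn (p : ℕ) (P H : Subgroup G) : Prop :=
  P ≤ H ∧ Nat.card P = p ^ (Nat.card H).factorization p

theorem card_subgroupOf_of_le {H K : Subgroup G} (h : H ≤ K) :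
    Nat.card ↥(H.subgroupOf K) = Nat.card ↥H :=
  Nat.card_congr (Subgroup.subgroupOfEquivOfLe h).toEquiv

/-- From a `Sylow p ↥H` to `IsSylowIn`. -/
theorem IsSylowIn.of_sylow {p : ℕ} [Fact p.Prime] {H : Subgroup G} [Finite H] (R : Sylow p ↥H) :
    IsSylowIn p ((R : Subgroup H).map H.subtype) H := by
  refine ⟨Subgroup.map_subtype_le _, ?_⟩
  rw [Subgroup.card_map_of_injective H.subtype_injective]
  exact R.card_eq_multiplicity

/-- From `IsSylowIn` to a `Sylow p ↥H`. -/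
theorem IsSylowIn.exists_sylow {p : ℕ} [Fact p.Prime] {P H : Subgroup G} [Finite H]
    (h : IsSylowIn p P H) : ∃ R : Sylow p ↥H, (R : Subgroup H) = P.subgroupOf H := by
  refine ⟨Sylow.ofCard (P.subgroupOf H) ?_, rfl⟩
  rw [card_subgroupOf_of_le h.1]
  exact h.2

theorem isSylowIn_iff_exists_sylow {p : ℕ} [Fact p.Prime] {P H : Subgroup G} [Finite H] (hPH : P ≤ H) :
    IsSylowIn p P H ↔ ∃ R : Sylow p ↥H, (R : Subgroup H) = P.subgroupOf H := by
  constructor
  · exact IsSylowIn.exists_sylow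
  · rintro ⟨R, hR⟩
    refine ⟨hPH, ?_⟩
    rw [← card_subgroupOf_of_le hPH, ← hR]
    exact R.card_eq_multiplicity

theorem IsSylowIn.isPGroup {p : ℕ} {P H : Subgroup G} (h : IsSylowIn p P H) : IsPGroup p ↥P :=
  IsPGroup.of_card h.2

/-- A Sylow subgroup of `G`, as `IsSylowIn ⊤`. -/
theorem IsSylowIn.of_sylow_top {p : ℕ} [Fact p.Prime] [Finite G] (P : Sylow p G) :
    IsSylowIn p (P : Subgroup G) ⊤ := by
  refine ⟨le_top, ?_⟩
  rw [P.card_eq_multiplicity, Subgroup.card_top]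

/-- A Sylow `p`-subgroup of `G` contained in `H` is a Sylow `p`-subgroup of `H`. -/
theorem IsSylowIn.of_sylow_le {p : ℕ} [Fact p.Prime] [Finite G] (P : Sylow p G) {H : Subgroup G}
    (hPH : (P : Subgroup G) ≤ H) : IsSylowIn p (P : Subgroup G) H := by
  refine ⟨hPH, ?_⟩
  have h1 := (P.subtype hPH).card_eq_multiplicity
  have h2 : Nat.card ↥(P.subtype hPH) = Nat.card ↥(P : Subgroup G) := by
    show Nat.card ↥((P.subtype hPH : Sylow p ↥H) : Subgroup ↥H) = _
    rw [Sylow.coe_subtype]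
    exact card_subgroupOf_of_le hPH
  exact h2.symm.trans h1

/-- A `p`-subgroup of `H` is contained in a Sylow `p`-subgroup of `H` (ambient version). -/
theorem exists_isSylowIn_ge {p : ℕ} [Fact p.Prime] [Finite G] {Q H : Subgroup G} (hQ : IsPGroup p ↥Q)
    (hQH : Q ≤ H) : ∃ P : Subgroup G, IsSylowIn p P H ∧ Q ≤ P := by
  obtain ⟨R, hR⟩ := (hQ.comap_subtype (K := H)).exists_le_sylow
  refine ⟨(R : Subgroup H).map H.subtype, IsSylowIn.of_sylow R, ?_⟩
  intro x hx
  exact ⟨⟨x, hQH hx⟩, hR (Subgroup.mem_subgroupOf.mpr hx), rfl⟩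

/-- Sylow's theorem in the ambient form: two Sylow `p`-subgroups of `H` are conjugate by an element of `H`. -/
theorem IsSylowIn.conj {p : ℕ} [Fact p.Prime] [Finite G] {P Q H : Subgroup G} (hP : IsSylowIn p P H)
    (hQ : IsSylowIn p Q H) : ∃ h ∈ H, Q = P.map (MulAut.conj h).toMonoidHom := by
  obtain ⟨RP, hRP⟩ := hP.exists_sylow
  obtain ⟨RQ, hRQ⟩ := hQ.exists_sylow
  obtain ⟨h, hh⟩ := MulAction.exists_smul_eq ↥H RP RQ
  refine ⟨h, h.2, ?_⟩
  have e : ((h • RP : Sylow p ↥H) : Subgroup ↥H) = (RQ : Subgroup ↥H) := by rw [hh]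
  rw [Sylow.coe_subgroup_smul, hRP, hRQ] at e
  ext x
  constructor
  · intro hx
    have hxH : x ∈ H := hQ.1 hx
    have : (⟨x, hxH⟩ : ↥H) ∈ Q.subgroupOf H := Subgroup.mem_subgroupOf.mpr hx
    rw [← e] at this
    obtain ⟨y, hy, hyx⟩ := this
    refine ⟨y, Subgroup.mem_subgroupOf.mp hy, ?_⟩
    have := congrArg Subtype.val hyx
    simpa [MulAut.conj_apply] using this
  · rintro ⟨y, hy, rfl⟩
    have hyH : y ∈ H := hP.1 hy
    have h1 : (MulAut.conj h • (⟨y, hyH⟩ : ↥H)) ∈ MulAut.conj h • P.subgroupOf H :=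
      Subgroup.smul_mem_pointwise_smul _ _ _ (Subgroup.mem_subgroupOf.mpr hy)
    rw [e] at h1
    have := Subgroup.mem_subgroupOf.mp h1
    simpa [MulAut.conj_apply] using this

/-- The intersection of a Sylow `p`-subgroup of `G` with a normal subgroup `N` is a Sylow `p`-subgroup
of `N`. -/
theorem IsSylowIn.inf_normal {p : ℕ} [Fact p.Prime] [Finite G] {P K : Subgroup G}
    (hP : IsSylowIn p P K) (N : Subgroup G) (hNK : N ≤ K) (hN : K ≤ Subgroup.normalizer (N : Set G)) :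
    IsSylowIn p (P ⊓ N) N := by
  refine ⟨inf_le_right, ?_⟩
  -- a Sylow subgroup R₀ of N, inside a Sylow subgroup Q of K
  obtain ⟨R₀, hR₀, -⟩ := exists_isSylowIn_ge (p := p) (Q := ⊥) (H := N) IsPGroup.of_bot bot_le
  obtain ⟨Q, hQ, hR₀Q⟩ := exists_isSylowIn_ge hR₀.isPGroup (hR₀.1.trans hNK)
  -- Q ⊓ N = R₀
  have hQN : Q ⊓ N = R₀ := by
    apply le_antisymm
    · obtain ⟨R, hR⟩ := hR₀.exists_sylow
      have hle : R₀.subgroupOf N ≤ (Q ⊓ N).subgroupOf N :=
        Subgroup.subgroupOf_mono _ (le_inf hR₀Q hR₀.1)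
      have hp' : IsPGroup p ↥((Q ⊓ N).subgroupOf N) := (hQ.isPGroup.to_inf_left).comap_subtype
      have := R.is_maximal' hp' (hR ▸ hle)
      rw [hR] at this
      intro x hx
      have hx' : (⟨x, hx.2⟩ : ↥N) ∈ (Q ⊓ N).subgroupOf N := Subgroup.mem_subgroupOf.mpr hx
      rw [this] at hx'
      exact Subgroup.mem_subgroupOf.mp hx'
    · exact le_inf hR₀Q hR₀.1
  obtain ⟨k, hk, hPk⟩ := hQ.conj hP
  -- P ⊓ N is the image of Q ⊓ N under conjugation by k
  have hmap : P ⊓ N = (Q ⊓ N).map (MulAut.conj k).toMonoidHom := by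
    rw [Subgroup.map_inf_eq _ _ _ (MulAut.conj k).injective, ← hPk]
    congr 1
    have hkN := hN hk
    ext x
    constructor
    · intro hx
      refine ⟨k⁻¹ * x * k, ?_, by simp [MulAut.conj_apply, mul_assoc]⟩
      have := (Subgroup.mem_normalizer_iff.mp (Subgroup.inv_mem _ hkN) x).mp hx
      simpa using this
    · rintro ⟨y, hy, rfl⟩
      exact (Subgroup.mem_normalizer_iff.mp hkN y).mp hy
  rw [hmap, Subgroup.card_map_of_injective (MulAut.conj k).injective, hQN]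
  exact hR₀.2

end

end Cfsg.Agent.Lib.Helper7
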