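import Mathlib
import Cfsg.Agent.Lib.Helper7.Core

set_option autoImplicit false

namespace Cfsg.Agent.Lib.Helper7

open scoped commutatorElement

section
variable {G : Type*} [Group G]

/-- A `p`-group `P` acting on a `p`-group `U` with `⁅U, P⁆ = U` forces `U = ⊥`. -/
theorem eq_bot_of_commutator_eq_self {p : ℕ} [Fact p.Prime] [Finite G] (U P : Subgroup G)
    (hU : IsPGroup p ↥U) (hP : IsPGroup p ↥P) (hPU : P ≤ Subgroup.normalizer (U : Set G))
    (h : ⁅U, P⁆ = U) : U = ⊥ := by
  have hK : IsPGroup p ↥(U ⊔ P) := IsPGroup.to_sup_of_normal_left' hU hP hPU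
  haveI : Group.IsNilpotent ↥(U ⊔ P) := hK.isNilpotent
  obtain ⟨n, hn⟩ := (Subgroup.isNilpotent_iff_lowerCentralSeries (U ⊔ P)).mp inferInstance
  have key : ∀ m, U ≤ (U ⊔ P).lowerCentralSeries m := by
    intro m
    induction m with
    | zero => exact le_sup_left
    | succ m ih =>
      rw [Subgroup.lowerCentralSeries_succ]
      calc U = ⁅U, P⁆ := h.symm
        _ ≤ ⁅(U ⊔ P).lowerCentralSeries m, U ⊔ P⁆ := Subgroup.commutator_mono ih le_sup_right
  exact le_bot_iff.mp (hn ▸ key n)

/-- If `g` normalizes `U` and centralizes `Q` then `g` normalizes `⁅U, Q⁆`. -/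
theorem commutator_map_conj_le (U Q : Subgroup G) (g : G)
    (hgU : g ∈ Subgroup.normalizer (U : Set G)) (hgQ : g ∈ Subgroup.normalizer (Q : Set G)) :
    g ∈ Subgroup.normalizer ((⁅U, Q⁆ : Subgroup G) : Set G) := by
  have hmap : ∀ k : G, k ∈ Subgroup.normalizer (U : Set G) → k ∈ Subgroup.normalizer (Q : Set G) →
      ∀ x ∈ ⁅U, Q⁆, k * x * k⁻¹ ∈ ⁅U, Q⁆ := by
    intro k hkU hkQ x hx
    have : (⁅U, Q⁆).map (MulAut.conj k).toMonoidHom ≤ ⁅U, Q⁆ := by
      rw [Subgroup.map_commutator]
      apply Subgroup.commutator_mono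
      · rintro _ ⟨u, hu, rfl⟩
        exact (Subgroup.mem_normalizer_iff.mp hkU u).mp hu
      · rintro _ ⟨q, hq, rfl⟩
        exact (Subgroup.mem_normalizer_iff.mp hkQ q).mp hq
    exact this ⟨x, hx, by simp [MulAut.conj_apply]⟩
  rw [Subgroup.mem_normalizer_iff]
  intro x
  constructor
  · exact hmap g hgU hgQ x
  · intro hx
    have := hmap g⁻¹ (Subgroup.inv_mem _ hgU) (Subgroup.inv_mem _ hgQ) _ hx
    simpa [mul_assoc] using this

/-- **Thompson's `P × Q` lemma.** -/
theorem pq_lemma [Finite G] (p : ℕ) [Fact p.Prime]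
    (P Q : Subgroup G) (hP : IsPGroup p P) (hQ : (Nat.card Q).Coprime p)
    (hPQ : P ≤ Subgroup.centralizer (Q : Set G)) :
    ∀ (n : ℕ) (U : Subgroup G), Nat.card U = n → IsPGroup p U →
    P ≤ Subgroup.normalizer (U : Set G) → Q ≤ Subgroup.normalizer (U : Set G) →
    U ⊓ Subgroup.centralizer (P : Set G) ≤ Subgroup.centralizer (Q : Set G) →
    Q ≤ Subgroup.centralizer (U : Set G) := by
  intro n
  induction n using Nat.strong_induction_on with
  | _ n ih =>
  intro U hn hU hPU hQU hC
  have hQP : Q ≤ Subgroup.centralizer (P : Set G) := Subgroup.le_centralizer_iff.mp hPQ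
  have hPnQ : P ≤ Subgroup.normalizer (Q : Set G) := by
    intro g hg
    rw [Subgroup.mem_normalizer_iff]
    intro q
    have hcomm : ∀ y ∈ Q, g * y * g⁻¹ = y := by
      intro y hy
      have := Subgroup.mem_centralizer_iff.mp (hPQ hg) y hy
      rw [← this, mul_inv_cancel_right]
    constructor
    · intro hq; rw [hcomm q hq]; exact hq
    · intro hq
      have h2 := hcomm _ hq
      have : g * q * g⁻¹ = q := by
        have h3 : g * (g * q * g⁻¹) * g⁻¹ = g * q * g⁻¹ := h2
        have := mul_left_cancel (mul_right_cancel h3)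
        exact this
      rw [← this]; exact hq
  have hQnP : Q ≤ Subgroup.normalizer (P : Set G) := by
    intro g hg
    rw [Subgroup.mem_normalizer_iff]
    intro q
    have hcomm : ∀ y ∈ P, g * y * g⁻¹ = y := by
      intro y hy
      have := Subgroup.mem_centralizer_iff.mp (hQP hg) y hy
      rw [← this, mul_inv_cancel_right]
    constructor
    · intro hq; rw [hcomm q hq]; exact hq
    · intro hq
      have h2 := hcomm _ hq
      have : g * q * g⁻¹ = q := by
        have h3 : g * (g * q * g⁻¹) * g⁻¹ = g * q * g⁻¹ := h2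
        have := mul_left_cancel (mul_right_cancel h3)
        exact this
      rw [← this]; exact hq
  -- W = ⁅U, Q⁆
  set W : Subgroup G := ⁅U, Q⁆ with hW
  have hWU : W ≤ U := Subgroup.le_normalizer_iff_commutator_le_left.mp hQU
  have hcardle : Nat.card W ≤ Nat.card U := Subgroup.card_le_of_le hWU
  -- orders of elements of Q are coprime to p
  have hqcop : ∀ q ∈ Q, (orderOf q).Coprime p := by
    intro q hq
    have h1 : orderOf (⟨q, hq⟩ : Q) ∣ Nat.card Q := orderOf_dvd_natCard _
    have h2 : orderOf (⟨q, hq⟩ : Q) = orderOf q := Subgroup.orderOf_mk q hq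
    rw [h2] at h1
    exact Nat.Coprime.coprime_dvd_left h1 hQ
  rcases lt_or_eq_of_le hcardle with hlt | heq
  · -- Case 1: W < U, induction applies to W
    have hPW : P ≤ Subgroup.normalizer (W : Set G) := fun g hg =>
      commutator_map_conj_le U Q g (hPU hg) (hPnQ hg)
    have hQW : Q ≤ Subgroup.normalizer (W : Set G) := Subgroup.normalizer_commutator_ge_right U Q
    have hCW : W ⊓ Subgroup.centralizer (P : Set G) ≤ Subgroup.centralizer (Q : Set G) :=
      (inf_le_inf_right _ hWU).trans hC
    have h1 : Q ≤ Subgroup.centralizer (W : Set G) :=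
      ih (Nat.card W) (hn ▸ hlt) W rfl (hU.to_le hWU) hPW hQW hCW
    -- each q ∈ Q acts quadratically, hence trivially
    intro q hq
    rw [Subgroup.mem_centralizer_iff]
    intro u hu
    have hcW : ⁅u, q⁆ ∈ W := Subgroup.commutator_mem_commutator hu hq
    have hcomm : ⁅u, q⁆ * q = q * ⁅u, q⁆ := Subgroup.mem_centralizer_iff.mp (h1 hq) _ hcW
    obtain ⟨k, hk⟩ := pow_eq_one_of_mem_isPGroup hU (hWU hcW)
    exact commute_of_coprime_of_commute_commutator u q (hqcop q hq) hcomm.symm k hk
  · -- Case 2: W = U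
    have hWeq : W = U := by
      have hfin : Finite ↥U := inferInstance
      exact SetLike.coe_injective (Set.eq_of_subset_of_ncard_le (by exact_mod_cast hWU)
        (by
          rw [← Nat.card_coe_set_eq, ← Nat.card_coe_set_eq]
          exact le_of_eq heq.symm) (Set.toFinite _))
    set V : Subgroup G := ⁅U, P⁆ with hV
    have hVU : V ≤ U := Subgroup.le_normalizer_iff_commutator_le_left.mp hPU
    have hcardV : Nat.card V ≤ Nat.card U := Subgroup.card_le_of_le hVU
    rcases lt_or_eq_of_le hcardV with hltV | heqV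
    · have hPV : P ≤ Subgroup.normalizer (V : Set G) := Subgroup.normalizer_commutator_ge_right U P
      have hQV : Q ≤ Subgroup.normalizer (V : Set G) := fun g hg =>
        commutator_map_conj_le U P g (hQU hg) (hQnP hg)
      have hCV : V ⊓ Subgroup.centralizer (P : Set G) ≤ Subgroup.centralizer (Q : Set G) :=
        (inf_le_inf_right _ hVU).trans hC
      have h1 : Q ≤ Subgroup.centralizer (V : Set G) :=
        ih (Nat.card V) (hn ▸ hltV) V rfl (hU.to_le hVU) hPV hQV hCV
      have e1 : ⁅⁅U, P⁆, Q⁆ = ⊥ :=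
        Subgroup.commutator_eq_bot_iff_le_centralizer.mpr (Subgroup.le_centralizer_iff.mp h1)
      have e2 : ⁅⁅P, Q⁆, U⁆ = ⊥ := by
        have : ⁅P, Q⁆ = ⊥ := Subgroup.commutator_eq_bot_iff_le_centralizer.mpr hPQ
        rw [this, Subgroup.commutator_bot_left]
      have e3 : ⁅⁅Q, U⁆, P⁆ = ⊥ := Subgroup.commutator_commutator_eq_bot_of_rotate e1 e2
      rw [Subgroup.commutator_comm Q U, ← hW, hWeq] at e3
      have hUP : U ≤ Subgroup.centralizer (P : Set G) :=
        Subgroup.commutator_eq_bot_iff_le_centralizer.mp e3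
      exact Subgroup.le_centralizer_iff.mp ((le_inf le_rfl hUP).trans hC)
    · have hVeq : V = U := by
        exact SetLike.coe_injective (Set.eq_of_subset_of_ncard_le (by exact_mod_cast hVU)
          (by
            rw [← Nat.card_coe_set_eq, ← Nat.card_coe_set_eq]
            exact le_of_eq heqV.symm) (Set.toFinite _))
      have : U = ⊥ := eq_bot_of_commutator_eq_self U P hU hP hPU hVeq
      rw [this]
      intro q _
      rw [Subgroup.mem_centralizer_iff]
      intro u hu
      rw [Subgroup.coe_bot, Set.mem_singleton_iff] at hu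
      rw [hu, one_mul, mul_one]

end

end Cfsg.Agent.Lib.Helper7
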