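import Mathlib
import Cfsg.Agent.Lib.Helper7.Core

set_option autoImplicit false

namespace Cfsg.Agent.Lib.Helper7

open Cfsg
open scoped commutatorElement

/-- `G` has characteristic `p`: `C_G(O_p(G)) ≤ O_p(G)`. -/
def IsCharP (p : ℕ) (G : Type*) [Group G] : Prop :=
  Subgroup.centralizer (pCore p G : Set G) ≤ pCore p G

theorem isCharP_iff (p : ℕ) (G : Type*) [Group G] :
    IsCharP p G ↔ Subgroup.centralizer (pCore p G : Set G) ≤ pCore p G := Iff.rfl

theorem IsCharP.of_equiv {p : ℕ} {G G' : Type*} [Group G] [Group G'] (e : G ≃* G')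
    (h : IsCharP p G) : IsCharP p G' := by
  intro x' hx'
  have h1 : e.symm x' ∈ Subgroup.centralizer (pCore p G : Set G) := by
    rw [Subgroup.mem_centralizer_iff]
    intro q hq
    have hq' : e q ∈ pCore p G' := by
      rw [← pCore_map_equiv e]
      exact ⟨q, hq, rfl⟩
    have := Subgroup.mem_centralizer_iff.mp hx' (e q) hq'
    have := congrArg e.symm this
    simpa using this
  have h2 := h h1
  rw [← pCore_map_equiv e]
  exact ⟨e.symm x', h2, by simp⟩

/-- The image in `G` of `O_p(N)` for a normal subgroup `N` lies in `O_p(G)`. -/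
theorem pCore_map_subtype_le_of_normal {p : ℕ} {G : Type*} [Group G] (N : Subgroup G) [N.Normal] :
    (pCore p ↥N).map N.subtype ≤ pCore p G := by
  haveI := pCore_characteristic p ↥N
  exact le_pCore (ConjAct.normal_of_characteristic_of_normal) ((pCore_isPGroup p ↥N).map _)

/-- For `Q` normal `p`-subgroup of `G`, `Q ∩ N` sits inside `O_p(N)`. -/
theorem subgroupOf_le_pCore {p : ℕ} {G : Type*} [Group G] (N Q : Subgroup G) [Q.Normal]
    (hQ : IsPGroup p ↥Q) : Q.subgroupOf N ≤ pCore p ↥N :=
  le_pCore inferInstance hQ.comap_subtype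

/-- A normal subgroup of a finite group of characteristic `p` has characteristic `p`. -/
theorem IsCharP.normal {p : ℕ} [Fact p.Prime] {G : Type*} [Group G] [Finite G] (h : IsCharP p G)
    (N : Subgroup G) [hN : N.Normal] : IsCharP p ↥N := by
  have hQ : IsPGroup p ↥(pCore p G) := pCore_isPGroup p G
  have hR : IsPGroup p ↥(pCore p ↥N) := pCore_isPGroup p ↥N
  have hCn : (Subgroup.centralizer (pCore p ↥N : Set ↥N)).Normal := inferInstance
  refine le_pCore hCn ?_
  apply isPGroup_of_coprime_trivial
  intro x hxC hx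
  -- x centralizes O_p(G)
  have hcen : (x : G) ∈ Subgroup.centralizer (pCore p G : Set G) := by
    rw [Subgroup.mem_centralizer_iff]
    intro q hq
    have hcQ : ⁅q, (x : G)⁆ ∈ pCore p G := by
      have : ⁅q, (x : G)⁆ = q * ((x : G) * q⁻¹ * (x : G)⁻¹) := by
        rw [commutatorElement_def]; group
      rw [this]
      exact Subgroup.mul_mem _ hq ((pCore_normal p G).conj_mem _ (Subgroup.inv_mem _ hq) x)
    have hcN : ⁅q, (x : G)⁆ ∈ N := by
      have : ⁅q, (x : G)⁆ = (q * (x : G) * q⁻¹) * (x : G)⁻¹ := by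
        rw [commutatorElement_def]
      rw [this]
      exact N.mul_mem (hN.conj_mem _ x.2 q) (N.inv_mem x.2)
    have hcR : (⟨⁅q, (x : G)⁆, hcN⟩ : ↥N) ∈ pCore p ↥N :=
      subgroupOf_le_pCore N (pCore p G) hQ (Subgroup.mem_subgroupOf.mpr hcQ)
    have hcomm := Subgroup.mem_centralizer_iff.mp hxC _ hcR
    have hcomm' : ⁅q, (x : G)⁆ * (x : G) = (x : G) * ⁅q, (x : G)⁆ := by
      have := congrArg Subtype.val hcomm
      simpa using this
    obtain ⟨k, hk⟩ := pow_eq_one_of_mem_isPGroup hQ hcQ
    have hx' : (orderOf (x : G)).Coprime p := by rwa [Subgroup.orderOf_coe]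
    exact commute_of_coprime_of_commute_commutator q (x : G) hx' hcomm'.symm k hk
  obtain ⟨k, hk⟩ := pow_eq_one_of_mem_isPGroup hQ (h hcen)
  have hk' : x ^ (p ^ k) = 1 := Subtype.ext (by simpa using hk)
  exact eq_one_of_coprime_of_pow_eq_one x hx k hk'

/-- The top subgroup of a group of characteristic `p` has characteristic `p`. -/
theorem IsCharP.top {p : ℕ} {G : Type*} [Group G] (h : IsCharP p G) : IsCharP p ↥(⊤ : Subgroup G) :=
  h.of_equiv Subgroup.topEquiv.symm

/-- A subnormal subgroup of a finite group of characteristic `p` has characteristic `p`. -/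
theorem IsCharP.subnormal {p : ℕ} [Fact p.Prime] {G : Type*} [Group G] [Finite G] (h : IsCharP p G)
    (Y : Subgroup G) (hY : Y.IsSubnormal) : IsCharP p ↥Y := by
  induction hY with
  | top => exact h.top
  | step H K h_le _ hN ih =>
    haveI := hN
    have h1 : IsCharP p ↥(H.subgroupOf K) := IsCharP.normal ih (H.subgroupOf K)
    exact h1.of_equiv (Subgroup.subgroupOfEquivOfLe h_le)

/-- A subgroup containing `O_p(G)` of a group of characteristic `p` has characteristic `p`. -/
theorem IsCharP.of_pCore_le {p : ℕ} {G : Type*} [Group G] (h : IsCharP p G)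
    (M : Subgroup G) (hM : pCore p G ≤ M) : IsCharP p ↥M := by
  have hQ : IsPGroup p ↥(pCore p G) := pCore_isPGroup p G
  have hle : (pCore p G).subgroupOf M ≤ pCore p ↥M := subgroupOf_le_pCore M (pCore p G) hQ
  intro x hx
  apply hle
  rw [Subgroup.mem_subgroupOf]
  apply h
  rw [Subgroup.mem_centralizer_iff]
  intro q hq
  have hq' : (⟨q, hM hq⟩ : ↥M) ∈ pCore p ↥M := hle (Subgroup.mem_subgroupOf.mpr hq)
  have := Subgroup.mem_centralizer_iff.mp hx _ hq'
  have := congrArg Subtype.val this
  simpa using this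

/-- If `O_p(G)` normalizes `L` then `L` has characteristic `p` (for `G` finite of characteristic `p`). -/
theorem IsCharP.of_pCore_le_normalizer {p : ℕ} [Fact p.Prime] {G : Type*} [Group G] [Finite G]
    (h : IsCharP p G) (L : Subgroup G) (hL : pCore p G ≤ Subgroup.normalizer (L : Set G)) :
    IsCharP p ↥L := by
  have h1 : IsCharP p ↥(L ⊔ pCore p G) := h.of_pCore_le _ le_sup_right
  have hn : (L.subgroupOf (L ⊔ pCore p G)).Normal :=
    (Subgroup.normal_subgroupOf_iff_le_normalizer le_sup_left).mpr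
      (sup_le Subgroup.le_normalizer hL)
  have h2 : IsCharP p ↥(L.subgroupOf (L ⊔ pCore p G)) := IsCharP.normal h1 _
  exact h2.of_equiv (Subgroup.subgroupOfEquivOfLe le_sup_left)

/-- Extension: if `K ⊴ H` has characteristic `p` and contains all `p'`-elements of `H`, then `H` has
characteristic `p`. -/
theorem IsCharP.of_normal_of_coprime_mem {p : ℕ} [Fact p.Prime] {H : Type*} [Group H] [Finite H]
    (K : Subgroup H) [hK : K.Normal] (h : IsCharP p ↥K)
    (hcop : ∀ x : H, (orderOf x).Coprime p → x ∈ K) : IsCharP p H := by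
  have hP : IsPGroup p ↥(pCore p H) := pCore_isPGroup p H
  have hR : IsPGroup p ↥(pCore p ↥K) := pCore_isPGroup p ↥K
  have hCn : (Subgroup.centralizer (pCore p H : Set H)).Normal := inferInstance
  refine le_pCore hCn ?_
  apply isPGroup_of_coprime_trivial
  intro x hxC hx
  have hxK : x ∈ K := hcop x hx
  have hcen : (⟨x, hxK⟩ : ↥K) ∈ Subgroup.centralizer (pCore p ↥K : Set ↥K) := by
    rw [Subgroup.mem_centralizer_iff]
    intro r hr
    have hr' : (r : H) ∈ pCore p H := pCore_map_subtype_le_of_normal K ⟨r, hr, rfl⟩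
    have := Subgroup.mem_centralizer_iff.mp hxC _ hr'
    exact Subtype.ext this
  obtain ⟨k, hk⟩ := pow_eq_one_of_mem_isPGroup hR (h hcen)
  have hk' : x ^ (p ^ k) = 1 := by
    have := congrArg Subtype.val hk
    simpa using this
  exact eq_one_of_coprime_of_pow_eq_one x hx k hk'

theorem pResidual_normal (p : ℕ) (G : Type*) [Group G] : (pResidual p G).Normal := by
  refine ⟨fun n hn g => ?_⟩
  have : (pResidual p G).map (MulAut.conj g).toMonoidHom ≤ pResidual p G := by
    unfold pResidual
    rw [MonoidHom.map_closure, Subgroup.closure_le]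
    rintro _ ⟨x, hx, rfl⟩
    apply Subgroup.subset_closure
    show Nat.Coprime (orderOf ((MulAut.conj g) x)) p
    rw [MulEquiv.orderOf_eq]
    exact hx
  exact this ⟨n, hn, by simp [MulAut.conj_apply]⟩

theorem mem_pResidual_of_coprime {p : ℕ} {G : Type*} [Group G] {x : G}
    (hx : (orderOf x).Coprime p) : x ∈ pResidual p G :=
  Subgroup.subset_closure hx

end Cfsg.Agent.Lib.Helper7
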