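import Mathlib
import Cfsg.Agent.Lib.Helper7.SylowLib

set_option autoImplicit false

namespace Cfsg.Agent.Lib.Helper7

open Cfsg

/-- If `Q` is a Sylow `p`-subgroup of `G`, `N` is normal and `R ≤ NQ` is a `p`-subgroup, then some
`N`-conjugate of `R` lies in `Q`. -/
theorem exists_conj_le_sylow_of_le_sup {G : Type*} [Group G] [Finite G] {p : ℕ} [Fact p.Prime]
    (Q : Sylow p G) (N : Subgroup G) [N.Normal] (R : Subgroup G) (hRp : IsPGroup p ↥R)
    (hR : R ≤ N ⊔ (Q : Subgroup G)) : ∃ n ∈ N, ∀ z ∈ R, n⁻¹ * z * n ∈ (Q : Subgroup G) := by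
  have hQ : IsSylowIn p (Q : Subgroup G) (N ⊔ (Q : Subgroup G)) := IsSylowIn.of_sylow_le Q le_sup_right
  obtain ⟨P', hP', hRP'⟩ := exists_isSylowIn_ge hRp hR
  obtain ⟨h, hh, hP'Q⟩ := hQ.conj hP'
  have hh' : h ∈ ((N ⊔ (Q : Subgroup G) : Subgroup G) : Set G) := hh
  rw [Subgroup.normal_mul] at hh'
  obtain ⟨n, hn, q', hq', rfl⟩ := Set.mem_mul.mp hh'
  refine ⟨n, hn, fun z hz => ?_⟩
  have hz' : z ∈ P' := hRP' hz
  rw [hP'Q] at hz'
  obtain ⟨q, hq, hqz⟩ := hz'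
  have : n⁻¹ * z * n = q' * q * q'⁻¹ := by
    rw [← hqz]
    simp [MulAut.conj_apply]
    group
  rw [this]
  exact Subgroup.mul_mem _ (Subgroup.mul_mem _ hq' hq) (Subgroup.inv_mem _ hq')

/-- Lifting fusion from a quotient: if `γ` conjugates the image of `P ≤ S` into the image of `S` in `G ⧸ N`,
some `g` inducing the same conjugation on `P` conjugates `P` into `S`. -/
theorem exists_lift_conj_of_quotient {G : Type*} [Group G] [Finite G] {p : ℕ} [Fact p.Prime]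
    (N : Subgroup G) [N.Normal] (S : Sylow p G) (P : Subgroup G) (hP : P ≤ (S : Subgroup G))
    (γ : G ⧸ N)
    (hγ : ∀ x ∈ P, γ * QuotientGroup.mk x * γ⁻¹ ∈ ((S : Subgroup G).map (QuotientGroup.mk' N))) :
    ∃ g : G, ∀ x ∈ P, g * x * g⁻¹ ∈ S ∧
      (QuotientGroup.mk (g * x * g⁻¹) : G ⧸ N) = γ * QuotientGroup.mk x * γ⁻¹ := by
  obtain ⟨g₀, rfl⟩ := QuotientGroup.mk_surjective γ
  have hRp : IsPGroup p ↥(P.map (MulAut.conj g₀).toMonoidHom) := (S.isPGroup'.to_le hP).map _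
  have hR : P.map (MulAut.conj g₀).toMonoidHom ≤ N ⊔ (S : Subgroup G) := by
    rintro _ ⟨x, hx, rfl⟩
    obtain ⟨q, hq, hqz⟩ := hγ x hx
    have hqz' : (QuotientGroup.mk q : G ⧸ N) = QuotientGroup.mk (g₀ * x * g₀⁻¹) := by
      rw [QuotientGroup.mk_mul, QuotientGroup.mk_mul, QuotientGroup.mk_inv]
      exact hqz
    have : q⁻¹ * (g₀ * x * g₀⁻¹) ∈ N := by
      rw [← QuotientGroup.eq]
      exact hqz'
    have e : (MulAut.conj g₀).toMonoidHom x = q * (q⁻¹ * (g₀ * x * g₀⁻¹)) := by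
      simp [MulAut.conj_apply]
    rw [e]
    exact Subgroup.mul_mem _ (Subgroup.mem_sup_right hq) (Subgroup.mem_sup_left this)
  obtain ⟨n, hn, hconj⟩ := exists_conj_le_sylow_of_le_sup S N _ hRp hR
  have h1 : (QuotientGroup.mk n : G ⧸ N) = 1 := (QuotientGroup.eq_one_iff n).mpr hn
  refine ⟨n⁻¹ * g₀, fun x hx => ⟨?_, ?_⟩⟩
  · have := hconj _ ⟨x, hx, rfl⟩
    have e : n⁻¹ * g₀ * x * (n⁻¹ * g₀)⁻¹ = n⁻¹ * (MulAut.conj g₀).toMonoidHom x * n := by
      simp [MulAut.conj_apply]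
      group
    rw [e]
    exact this
  · simp only [QuotientGroup.mk_mul, QuotientGroup.mk_inv, h1, inv_one, one_mul, mul_inv_rev, inv_inv, mul_one]

end Cfsg.Agent.Lib.Helper7
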