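import Mathlib
import Cfsg.Prelude.Def_LocalStructure
import Cfsg.Agent.Lib.Helper7.Core
import Cfsg.Agent.Lib.Helper7.CharP
import Cfsg.Agent.Lib.Helper7.SylowLib
import Cfsg.Agent.H1.PResidual

set_option autoImplicit false

namespace Cfsg.Agent.Lib.Helper7

open Cfsg
open scoped commutatorElement

variable {H : Type*} [Group H] {p : ℕ} [Fact p.Prime]

/-- A normal subgroup `N` with `[N, H] ≤ O_p(H)` is `p`-closed. -/
theorem isPClosed_of_commutator_le_pCore (N : Subgroup H) [N.Normal]
    (hc : ⁅N, (⊤ : Subgroup H)⁆ ≤ pCore p H) : IsPClosed p ↥N := by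
  intro P
  constructor
  intro x hx n
  have e : n * x * n⁻¹ = ⁅n, x⁆ * x := by simp [commutatorElement_def]
  rw [e]
  apply (P : Subgroup ↥N).mul_mem _ hx
  apply pCore_le_sylow P
  haveI : (pCore p H).Normal := pCore_normal p H
  apply subgroupOf_le_pCore N (pCore p H) (pCore_isPGroup p H)
  rw [Subgroup.mem_subgroupOf]
  apply hc
  have : ((⁅n, x⁆ : ↥N) : H) = ⁅(n : H), (x : H)⁆ := by
    simp [commutatorElement_def]
  rw [this]
  exact Subgroup.commutator_mem_commutator n.2 (Subgroup.mem_top _)

theorem isPIrreducible_of_isStronglyPIrreducible (hH : IsStronglyPIrreducible p H) :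
    IsPIrreducible p H := by
  refine ⟨hH.1, fun N hN hNc => hH.2 N hN ?_⟩
  intro hcomm
  exact hNc (isPClosed_of_commutator_le_pCore N hcomm)

end Cfsg.Agent.Lib.Helper7

namespace Cfsg.Agent.Lib.Helper7

open Cfsg
open scoped commutatorElement

variable {H : Type*} [Group H] {p : ℕ} [Fact p.Prime]

theorem isPClosed_iff_normal [Finite H] (T : Sylow p H) :
    IsPClosed p H ↔ (T : Subgroup H).Normal := by
  constructor
  · intro h; exact h T
  · intro hT Q
    obtain ⟨g, rfl⟩ := MulAction.exists_smul_eq H T Q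
    rw [Sylow.smul_eq_of_normal]; exact hT

/-- If `H = TN` with `T` a `p`-subgroup and `N` normal then `O^p(H) ≤ N`. -/
theorem pResidual_le_of_sup_eq_top {T : Subgroup H} (hT : IsPGroup p ↥T) (N : Subgroup H) [N.Normal]
    (h : T ⊔ N = ⊤) : pResidual p H ≤ N := by
  apply Cfsg.Agent.H1.pResidual_le_of_isPGroup_quotient
  have hsurj : Function.Surjective ((QuotientGroup.mk' N).comp T.subtype) := by
    intro x
    obtain ⟨g, rfl⟩ := QuotientGroup.mk_surjective x
    have hg : g ∈ ((T ⊔ N : Subgroup H) : Set H) := by rw [h]; trivial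
    rw [Subgroup.mul_normal] at hg
    obtain ⟨t, ht, n, hn, rfl⟩ := Set.mem_mul.mp hg
    refine ⟨⟨t, ht⟩, ?_⟩
    show (QuotientGroup.mk t : H ⧸ N) = QuotientGroup.mk (t * n)
    rw [QuotientGroup.eq]
    simpa using hn
  exact hT.of_surjective _ hsurj

theorem isCoatom_map_of_surjective {K : Type*} [Group K] {f : H →* K} (hf : Function.Surjective f)
    {M : Subgroup H} (hM : IsCoatom M) (hker : f.ker ≤ M) : IsCoatom (M.map f) := by
  have hcm : (M.map f).comap f = M := Subgroup.comap_map_eq_self hker
  constructor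
  · intro htop
    apply hM.1
    rw [← hcm, htop, Subgroup.comap_top]
  · intro K' hK'
    have h1 : (M.map f).comap f < K'.comap f := (Subgroup.comap_lt_comap_of_surjective hf).mpr hK'
    rw [hcm] at h1
    have h2 := hM.2 _ h1
    apply Subgroup.comap_injective hf
    rw [h2, Subgroup.comap_top]

/-- A group minimal over its Sylow `p`-subgroup `T`, and a normal subgroup `N`: either `H = TN`
or `N` lies in the unique maximal subgroup containing `T`. -/
theorem IsMinimalOver.sup_eq_top_or_le [Finite H] {T : Subgroup H} (hmin : IsMinimalOver T)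
    (K : Subgroup H) (hTK : T ≤ K) : K = ⊤ ∨ ∀ M : Subgroup H, IsCoatom M → T ≤ M → K ≤ M := by
  obtain ⟨-, M, ⟨hM, hTM⟩, huniq⟩ := hmin
  rcases eq_top_or_exists_le_coatom K with h | ⟨M', hM', hKM'⟩
  · exact Or.inl h
  · right
    intro M'' hM'' hTM''
    have e1 : M' = M := huniq M' ⟨hM', hTK.trans hKM'⟩
    have e2 : M'' = M := huniq M'' ⟨hM'', hTM''⟩
    rw [e2, ← e1]; exact hKM'

theorem isPIrreducible_of_isMinimalOver [Finite H] (T : Sylow p H)
    (hmin : IsMinimalOver (T : Subgroup H)) : IsPIrreducible p H := by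
  obtain ⟨hnc, M, ⟨hM, hTM⟩, huniq⟩ := id hmin
  refine ⟨?_, ?_⟩
  · intro hc
    have hTn : (T : Subgroup H).Normal := hc T
    rw [Subgroup.normalClosure_eq_self] at hnc
    apply hM.1
    rw [eq_top_iff, ← hnc]; exact hTM
  · intro N hN hNc
    have hQ : IsSylowIn p ((T : Subgroup H) ⊓ N) N :=
      (IsSylowIn.of_sylow_top T).inf_normal N le_top
        (by rw [Subgroup.normalizer_eq_top_iff.mpr hN])
    obtain ⟨R, hR⟩ := hQ.exists_sylow
    have hfr := Sylow.normalizer_sup_eq_top R
    have hmap : (R : Subgroup ↥N).map N.subtype = (T : Subgroup H) ⊓ N := by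
      rw [hR, Subgroup.subgroupOf_map_subtype, inf_assoc, inf_idem]
    rw [hmap] at hfr
    have hTle : (T : Subgroup H) ≤ Subgroup.normalizer (((T : Subgroup H) ⊓ N : Subgroup H) : Set H) := by
      intro t ht
      rw [Subgroup.mem_normalizer_iff]
      intro x
      constructor
      · rintro ⟨hx1, hx2⟩
        exact ⟨(T : Subgroup H).mul_mem ((T : Subgroup H).mul_mem ht hx1) ((T : Subgroup H).inv_mem ht),
          hN.conj_mem x hx2 t⟩
      · rintro ⟨hx1, hx2⟩
        refine ⟨?_, ?_⟩
        · have := (T : Subgroup H).mul_mem ((T : Subgroup H).mul_mem ((T : Subgroup H).inv_mem ht) hx1) ht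
          have e : t⁻¹ * (t * x * t⁻¹) * t = x := by group
          rw [e] at this
          exact this
        · have := hN.conj_mem _ hx2 t⁻¹
          have e : t⁻¹ * (t * x * t⁻¹) * t⁻¹⁻¹ = x := by group
          rw [e] at this
          exact this
    rcases IsMinimalOver.sup_eq_top_or_le hmin _ hTle with h | h
    · -- T ⊓ N normal in H, so N is p-closed
      exfalso
      apply hNc
      rw [isPClosed_iff_normal R, hR]
      have : ((T : Subgroup H) ⊓ N).Normal := Subgroup.normalizer_eq_top_iff.mp h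
      infer_instance
    · have hNM : ¬ N ≤ M := by
        intro hNM
        apply hM.1
        rw [eq_top_iff, ← hfr]
        exact sup_le (h M hM hTM) hNM
      have hTN : (T : Subgroup H) ⊔ N = ⊤ := by
        rcases IsMinimalOver.sup_eq_top_or_le hmin ((T : Subgroup H) ⊔ N) le_sup_left with h' | h'
        · exact h'
        · exact absurd (le_sup_right.trans (h' M hM hTM)) hNM
      exact pResidual_le_of_sup_eq_top T.isPGroup' N hTN

theorem isMinimalOver_quotient [Finite H] (T : Sylow p H)
    (hmin : IsMinimalOver (T : Subgroup H)) (N : Subgroup H) [N.Normal] :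
    IsPGroup p (H ⧸ N) ∨ IsMinimalOver ((T : Subgroup H).map (QuotientGroup.mk' N)) := by
  obtain ⟨hnc, M, ⟨hM, hTM⟩, huniq⟩ := id hmin
  have hsurj : Function.Surjective (QuotientGroup.mk' N) := QuotientGroup.mk'_surjective N
  rcases IsMinimalOver.sup_eq_top_or_le hmin ((T : Subgroup H) ⊔ N) le_sup_left with h | h
  · left
    have hsurj' : Function.Surjective ((QuotientGroup.mk' N).comp (T : Subgroup H).subtype) := by
      intro x
      obtain ⟨g, rfl⟩ := QuotientGroup.mk_surjective x
      have hg : g ∈ (((T : Subgroup H) ⊔ N : Subgroup H) : Set H) := by rw [h]; trivial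
      rw [Subgroup.mul_normal] at hg
      obtain ⟨t, ht, n, hn, rfl⟩ := Set.mem_mul.mp hg
      refine ⟨⟨t, ht⟩, ?_⟩
      show (QuotientGroup.mk t : H ⧸ N) = QuotientGroup.mk (t * n)
      rw [QuotientGroup.eq]
      simpa using hn
    exact T.isPGroup'.of_surjective _ hsurj'
  · right
    have hNM : N ≤ M := le_sup_right.trans (h M hM hTM)
    refine ⟨?_, M.map (QuotientGroup.mk' N), ⟨?_, Subgroup.map_mono hTM⟩, ?_⟩
    · have := Subgroup.map_normalClosure ((T : Subgroup H) : Set H) (QuotientGroup.mk' N) hsurj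
      rw [hnc, Subgroup.map_top_of_surjective _ hsurj] at this
      rw [Subgroup.coe_map]
      exact this.symm
    · apply isCoatom_map_of_surjective hsurj hM
      rw [QuotientGroup.ker_mk']; exact hNM
    · rintro M' ⟨hM', hTM'⟩
      have h1 : IsCoatom (M'.comap (QuotientGroup.mk' N)) := Subgroup.isCoatom_comap_of_surjective hsurj hM'
      have h2 : (T : Subgroup H) ≤ M'.comap (QuotientGroup.mk' N) := by
        rw [← Subgroup.map_le_iff_le_comap]; exact hTM'
      have h3 := huniq _ ⟨h1, h2⟩
      rw [← h3, Subgroup.map_comap_eq_self_of_surjective hsurj]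

end Cfsg.Agent.Lib.Helper7
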