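import Mathlib
import Cfsg.Prelude.Def_LocalStructure
import Cfsg.Agent.Lib.Lead.Conj
import Cfsg.Agent.Lib.Helper7.PIrreducible

set_option autoImplicit false

namespace Cfsg.Agent.Lib.Helper7

open Cfsg Cfsg.Agent.Lib.Lead.Conj
open scoped commutatorElement

variable {H : Type*} [Group H] {p : ℕ} [Fact p.Prime]

/-- If the normal subgroup `N` is `p`-closed, then every `p`-subgroup of `N` lies in `O_p(H)`. -/
theorem le_pCore_of_isPClosed [Finite H] (N : Subgroup H) [hN : N.Normal] (hc : IsPClosed p ↥N)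
    {Y : Subgroup H} (hYN : Y ≤ N) (hY : IsPGroup p ↥Y) : Y ≤ pCore p H := by
  obtain ⟨R, hR⟩ := (hY.comap_subtype (K := N)).exists_le_sylow
  have hRn : (R : Subgroup ↥N).Normal := hc R
  have hRc : (R : Subgroup ↥N).Characteristic := Sylow.characteristic_of_normal R hRn
  have hn : ((R : Subgroup ↥N).map N.subtype).Normal := ConjAct.normal_of_characteristic_of_normal
  refine le_trans ?_ (le_pCore hn (R.isPGroup'.map _))
  intro y hy
  exact ⟨⟨y, hYN hy⟩, hR (Subgroup.mem_subgroupOf.mpr hy), rfl⟩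

omit [Fact p.Prime] in
theorem normal_of_commutator_le {K : Subgroup H} (h : commutator H ≤ K) : K.Normal := by
  constructor
  intro k hk g
  have e : g * k * g⁻¹ = ⁅g, k⁆ * k := by simp [commutatorElement_def]
  rw [e]
  apply K.mul_mem _ hk
  apply h
  rw [commutator_def]
  exact Subgroup.commutator_mem_commutator (Subgroup.mem_top _) (Subgroup.mem_top _)

omit [Fact p.Prime] in
/-- `⁅R, Y⁆` is normalized by `Y` when `R` is normal. -/
theorem le_normalizer_commutator_of_normal (R Y : Subgroup H) [hR : R.Normal] :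
    Y ≤ Subgroup.normalizer ((⁅R, Y⁆ : Subgroup H) : Set H) := by
  have key : ∀ y ∈ Y, (⁅R, Y⁆ : Subgroup H).map (MulAut.conj y).toMonoidHom ≤ ⁅R, Y⁆ := by
    intro y hy
    rw [Subgroup.map_commutator]
    apply Subgroup.commutator_mono
    · rintro _ ⟨r, hr, rfl⟩
      exact hR.conj_mem r hr y
    · rintro _ ⟨z, hz, rfl⟩
      exact Y.mul_mem (Y.mul_mem hy hz) (Y.inv_mem hy)
  intro y hy
  rw [Subgroup.mem_normalizer_iff]
  intro x
  constructor
  · intro hx
    exact key y hy ⟨x, hx, rfl⟩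
  · intro hx
    have := key y⁻¹ (Y.inv_mem hy) ⟨_, hx, rfl⟩
    simpa [MulAut.conj_apply, mul_assoc] using this

theorem pIrreducible_generation [Finite H] (hH : IsPIrreducible p H) (T : Sylow p H) :
    Subgroup.normalClosure ((T : Subgroup H) : Set H) = ⊤ ∧
    commutator H ⊔ (T : Subgroup H) = ⊤ ∧
    pResidual p H ≤ commutator H ∧
    ∀ Y : Subgroup H, Y ≤ (T : Subgroup H) → (T : Subgroup H) ≤ Subgroup.normalizer (Y : Set H) →
      ¬ Y ≤ pCore p H →
      ⁅pResidual p H, Y⁆ = pResidual p H ∧ pResidual p H ≤ Subgroup.normalClosure (Y : Set H) := by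
  have hRT := Cfsg.Agent.H1.pResidual_sup_sylow T
  have h1 : Subgroup.normalClosure ((T : Subgroup H) : Set H) = ⊤ := by
    have hTN : (T : Subgroup H) ≤ Subgroup.normalClosure ((T : Subgroup H) : Set H) :=
      Subgroup.le_normalClosure
    have hnc : ¬ IsPClosed p ↥(Subgroup.normalClosure ((T : Subgroup H) : Set H)) := by
      intro hc
      apply hH.1
      rw [isPClosed_iff_normal T]
      have hle := le_pCore_of_isPClosed _ hc hTN T.isPGroup'
      have : (T : Subgroup H) = pCore p H := le_antisymm hle (pCore_le_sylow T)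
      rw [this]; exact pCore_normal p H
    have := hH.2 _ inferInstance hnc
    rw [eq_top_iff, ← hRT]
    exact sup_le this hTN
  have h2 : commutator H ⊔ (T : Subgroup H) = ⊤ := by
    have hn : (commutator H ⊔ (T : Subgroup H)).Normal := normal_of_commutator_le le_sup_left
    rw [eq_top_iff, ← h1]
    exact Subgroup.normalClosure_le_normal (show ((T : Subgroup H) : Set H) ⊆ _ from (le_sup_right : (T : Subgroup H) ≤ commutator H ⊔ (T : Subgroup H)))
  have h3 : pResidual p H ≤ commutator H :=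
    pResidual_le_of_sup_eq_top T.isPGroup' (commutator H) (by rw [sup_comm]; exact h2)
  refine ⟨h1, h2, h3, ?_⟩
  intro Y hYT hTY hYO
  have hYp : IsPGroup p ↥Y := T.isPGroup'.to_le hYT
  have h4 : pResidual p H ≤ Subgroup.normalClosure (Y : Set H) := by
    apply hH.2 _ inferInstance
    intro hc
    exact hYO (le_pCore_of_isPClosed _ hc Subgroup.le_normalClosure hYp)
  refine ⟨?_, h4⟩
  haveI hRn : (pResidual p H).Normal := pResidual_normal p H
  apply le_antisymm (Subgroup.commutator_le_left _ _)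
  set C : Subgroup H := ⁅pResidual p H, Y⁆ with hC
  -- the normal closure of `Y` lies in `C ⊔ Y`
  have h5 : Subgroup.normalClosure (Y : Set H) ≤ C ⊔ Y := by
    unfold Subgroup.normalClosure
    rw [Subgroup.closure_le]
    intro x hx
    rw [Group.mem_conjugatesOfSet_iff] at hx
    obtain ⟨y, hy, hconj⟩ := hx
    rw [isConj_iff] at hconj
    obtain ⟨h, rfl⟩ := hconj
    have hh : h ∈ ((pResidual p H ⊔ (T : Subgroup H) : Subgroup H) : Set H) := by rw [hRT]; trivial
    rw [Subgroup.normal_mul] at hh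
    obtain ⟨r, hr, t, ht, rfl⟩ := Set.mem_mul.mp hh
    have hy' : t * y * t⁻¹ ∈ Y := (Subgroup.mem_normalizer_iff.mp (hTY ht) y).mp hy
    have e : r * t * y * (r * t)⁻¹ = ⁅r, t * y * t⁻¹⁆ * (t * y * t⁻¹) := by
      simp only [commutatorElement_def]; group
    rw [e]
    apply Subgroup.mul_mem
    · exact (le_sup_left : C ≤ C ⊔ Y) (Subgroup.commutator_mem_commutator hr hy')
    · exact (le_sup_right : Y ≤ C ⊔ Y) hy'
  -- `C` is normal in `C ⊔ Y` with `p`-group quotient
  have hCn : (C.subgroupOf (C ⊔ Y)).Normal := by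
    rw [Subgroup.normal_subgroupOf_iff_le_normalizer le_sup_left]
    exact sup_le Subgroup.le_normalizer (le_normalizer_commutator_of_normal _ Y)
  have hsup : Y.subgroupOf (C ⊔ Y) ⊔ C.subgroupOf (C ⊔ Y) = ⊤ := by
    rw [← Subgroup.subgroupOf_sup le_sup_right le_sup_left, sup_comm, Subgroup.subgroupOf_self]
  have h6 := pResidual_le_of_sup_eq_top (p := p) (hYp.comap_subtype (K := C ⊔ Y)) (C.subgroupOf (C ⊔ Y)) hsup
  show pResidual p H ≤ C
  unfold pResidual
  rw [Subgroup.closure_le]
  intro x hx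
  have hxR : x ∈ pResidual p H := Subgroup.subset_closure hx
  have hxL : x ∈ C ⊔ Y := h5 (h4 hxR)
  have : (⟨x, hxL⟩ : ↥(C ⊔ Y)) ∈ pResidual p ↥(C ⊔ Y) := by
    apply Subgroup.subset_closure
    show (orderOf (⟨x, hxL⟩ : ↥(C ⊔ Y))).Coprime p
    rw [Subgroup.orderOf_mk]
    exact hx
  exact Subgroup.mem_subgroupOf.mp (h6 this)

end Cfsg.Agent.Lib.Helper7
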