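import Mathlib
import Cfsg.Prelude.Def_LocalStructure
import Cfsg.Agent.Lib.Lead.Conj
import Cfsg.Agent.Lib.Lead.PResidual
import Cfsg.Agent.Lib.Helper7.PIrreducible2

set_option autoImplicit false

namespace Cfsg.Agent.Lib.Helper7

open Cfsg Cfsg.Agent.Lib.Lead.Conj
open scoped commutatorElement

variable {A B : Type*} [Group A] [Group B] {p : ℕ} [Fact p.Prime]

/-- `p`-closedness passes through surjections with `p`-group kernel, in both directions. -/
theorem isPClosed_iff_of_surjective [Finite A] (f : A →* B) (hf : Function.Surjective f)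
    (hker : IsPGroup p f.ker) : IsPClosed p A ↔ IsPClosed p B := by
  constructor
  · intro h Q
    obtain ⟨T, rfl⟩ := Sylow.mapSurjective_surjective hf p Q
    rw [Sylow.coe_mapSurjective]
    exact (h T).map f hf
  · intro h T
    have hn : ((T.mapSurjective hf : Sylow p B) : Subgroup B).Normal := h _
    have hr : ((T.mapSurjective hf : Sylow p B) : Subgroup B) ≤ f.range := by
      rw [MonoidHom.range_eq_top.mpr hf]; exact le_top
    have hle : (T : Subgroup A) ≤ ((T.mapSurjective hf).comapOfKerIsPGroup f hker hr : Sylow p A) := by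
      rw [Sylow.coe_comapOfKerIsPGroup, Sylow.coe_mapSurjective]
      exact Subgroup.le_comap_map f _
    have heq := T.is_maximal' (Sylow.isPGroup' _) hle
    rw [← heq, Sylow.coe_comapOfKerIsPGroup]
    exact hn.comap f

theorem pResidual_map_of_surjective [Finite A] (f : A →* B) (hf : Function.Surjective f) :
    (pResidual p A).map f = pResidual p B := by
  apply le_antisymm
  · rw [Subgroup.map_le_iff_le_comap]
    unfold pResidual
    rw [Subgroup.closure_le]
    intro g hg
    apply Subgroup.subset_closure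
    show (orderOf (f g)).Coprime p
    exact Nat.Coprime.coprime_dvd_left (orderOf_map_dvd f g) hg
  · haveI : (pResidual p A).Normal := pResidual_normal p A
    haveI hn : ((pResidual p A).map f).Normal := Subgroup.Normal.map inferInstance f hf
    apply Cfsg.Agent.H1.pResidual_le_of_isPGroup_quotient
    intro x
    obtain ⟨b, rfl⟩ := QuotientGroup.mk_surjective x
    obtain ⟨a, rfl⟩ := hf b
    obtain ⟨k, hk⟩ := Cfsg.Agent.Lib.Lead.PResidual.exists_pow_mem (p := p) a
    refine ⟨k, ?_⟩
    rw [← QuotientGroup.mk_pow, QuotientGroup.eq_one_iff, ← map_pow]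
    exact ⟨_, hk, rfl⟩

omit [Fact p.Prime] in
theorem pCore_comap_of_surjective (f : A →* B) (hf : Function.Surjective f)
    (hker : IsPGroup p f.ker) : (pCore p B).comap f = pCore p A := by
  apply le_antisymm
  · haveI : (pCore p B).Normal := pCore_normal p B
    exact le_pCore inferInstance ((pCore_isPGroup p B).comap_of_ker_isPGroup f hker)
  · rw [← Subgroup.map_le_iff_le_comap]
    haveI : (pCore p A).Normal := pCore_normal p A
    exact le_pCore (Subgroup.Normal.map inferInstance f hf) ((pCore_isPGroup p A).map f)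

/-- If `O^p(H) ≤ N D` with `N` normal and `D` a `p`-group then `O^p(H) ≤ N`. -/
theorem pResidual_le_of_le_sup [Finite A] (N D : Subgroup A) [N.Normal] (hD : IsPGroup p ↥D)
    (h : pResidual p A ≤ N ⊔ D) : pResidual p A ≤ N := by
  apply Cfsg.Agent.H1.pResidual_le_of_isPGroup_quotient
  intro x
  obtain ⟨g, rfl⟩ := QuotientGroup.mk_surjective x
  obtain ⟨k, hk⟩ := Cfsg.Agent.Lib.Lead.PResidual.exists_pow_mem (p := p) g
  have hg : g ^ p ^ k ∈ ((N ⊔ D : Subgroup A) : Set A) := h hk
  rw [Subgroup.normal_mul] at hg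
  obtain ⟨n, hn, d, hd, hnd⟩ := Set.mem_mul.mp hg
  obtain ⟨j, hj⟩ := hD ⟨d, hd⟩
  have hj' : d ^ p ^ j = 1 := congrArg Subtype.val hj
  refine ⟨k + j, ?_⟩
  rw [pow_add, pow_mul, ← QuotientGroup.mk_pow, ← hnd]
  have e : ((n * d : A) : A ⧸ N) = ((d : A) : A ⧸ N) := by
    rw [QuotientGroup.eq]
    have : (n * d)⁻¹ * d = d⁻¹ * n⁻¹ * d := by group
    rw [this]
    have h2 := (inferInstance : N.Normal).conj_mem n⁻¹ (N.inv_mem hn) d⁻¹
    simpa using h2
  rw [e, ← QuotientGroup.mk_pow, hj']
  rfl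


omit [Fact p.Prime] in
theorem isPClosed_congr {N M : Subgroup A} (h : N = M) : IsPClosed p ↥N ↔ IsPClosed p ↥M := by
  subst h; rfl

variable {H : Type*} [Group H] [Finite H]

theorem isPClosed_map_iff (f : H →* B) (hker : IsPGroup p f.ker) (N : Subgroup H) :
    IsPClosed p ↥N ↔ IsPClosed p ↥(N.map f) := by
  apply isPClosed_iff_of_surjective (f.subgroupMap N) (f.subgroupMap_surjective N)
  rintro ⟨x, hx⟩
  have hx' : (x : H) ∈ f.ker := by
    rw [MonoidHom.mem_ker] at hx ⊢
    exact congrArg Subtype.val hx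
  obtain ⟨k, hk⟩ := hker ⟨x, hx'⟩
  refine ⟨k, ?_⟩
  have h1 : (x : H) ^ p ^ k = 1 := congrArg Subtype.val hk
  apply Subtype.ext
  apply Subtype.ext
  simpa using h1

theorem pIrreducible_quotient_iff (D : Subgroup H) [D.Normal] (hD : IsPGroup p ↥D) :
    (IsPIrreducible p H ↔ IsPIrreducible p (H ⧸ D)) ∧
    (IsStronglyPIrreducible p H ↔ IsStronglyPIrreducible p (H ⧸ D)) := by
  have hsurj : Function.Surjective (QuotientGroup.mk' D) := QuotientGroup.mk'_surjective D
  have hker : IsPGroup p (QuotientGroup.mk' D).ker := by rw [QuotientGroup.ker_mk']; exact hD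
  have hcl := isPClosed_iff_of_surjective (QuotientGroup.mk' D) hsurj hker
  have hres := pResidual_map_of_surjective (p := p) (QuotientGroup.mk' D) hsurj
  have hcore := pCore_comap_of_surjective (p := p) (QuotientGroup.mk' D) hsurj hker
  have key1 : ∀ N : Subgroup H, N.Normal →
      (pResidual p (H ⧸ D) ≤ N.map (QuotientGroup.mk' D) → pResidual p H ≤ N) := by
    intro N hN h
    apply pResidual_le_of_le_sup N D hD
    rw [← hres, Subgroup.map_le_iff_le_comap, Subgroup.comap_map_eq, QuotientGroup.ker_mk'] at h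
    exact h
  have key2 : ∀ N' : Subgroup (H ⧸ D), pResidual p H ≤ N'.comap (QuotientGroup.mk' D) →
      pResidual p (H ⧸ D) ≤ N' := by
    intro N' h
    rw [← hres, Subgroup.map_le_iff_le_comap]; exact h
  refine ⟨⟨?_, ?_⟩, ⟨?_, ?_⟩⟩
  · rintro ⟨h1, h2⟩
    refine ⟨fun h => h1 (hcl.mpr h), fun N' hN' hnc => key2 N' (h2 _ (hN'.comap _) ?_)⟩
    intro hc
    apply hnc
    have := (isPClosed_map_iff (QuotientGroup.mk' D) hker (N'.comap (QuotientGroup.mk' D))).mp hc
    exact (isPClosed_congr (Subgroup.map_comap_eq_self_of_surjective hsurj N')).mp this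
  · rintro ⟨h1, h2⟩
    refine ⟨fun h => h1 (hcl.mp h), fun N hN hnc => key1 N hN (h2 _ (hN.map _ hsurj) ?_)⟩
    intro hc
    exact hnc ((isPClosed_map_iff (QuotientGroup.mk' D) hker N).mpr hc)
  · rintro ⟨h1, h2⟩
    refine ⟨fun h => h1 (hcl.mpr h), fun N' hN' hnc => key2 N' (h2 _ (hN'.comap _) ?_)⟩
    intro hc
    apply hnc
    have h3 : (⁅N'.comap (QuotientGroup.mk' D), (⊤ : Subgroup H)⁆).map (QuotientGroup.mk' D) = ⁅N', ⊤⁆ := by
      rw [Subgroup.map_commutator, Subgroup.map_comap_eq_self_of_surjective hsurj,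
        Subgroup.map_top_of_surjective _ hsurj]
    rw [← h3, Subgroup.map_le_iff_le_comap, hcore]; exact hc
  · rintro ⟨h1, h2⟩
    refine ⟨fun h => h1 (hcl.mp h), fun N hN hnc => key1 N hN (h2 _ (hN.map _ hsurj) ?_)⟩
    intro hc
    apply hnc
    have h3 : (⁅N, (⊤ : Subgroup H)⁆).map (QuotientGroup.mk' D) = ⁅N.map (QuotientGroup.mk' D), ⊤⁆ := by
      rw [Subgroup.map_commutator, Subgroup.map_top_of_surjective _ hsurj]
    rw [← h3, Subgroup.map_le_iff_le_comap, hcore] at hc; exact hc

end Cfsg.Agent.Lib.Helper7
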