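import Mathlib
import Cfsg.Prelude.Def_EvenType
import Cfsg.Agent.Lib.Lead.StronglyEmbedded
import Cfsg.Agent.Lib.Helper7.SylowLib

set_option autoImplicit false

namespace Cfsg.Agent.Lib.Helper7

open Cfsg Cfsg.Agent.Lib.Lead.Conj Cfsg.Agent.Lib.Lead.StronglyEmbedded

variable {G : Type*} [Group G] [Finite G] {p : ℕ} [Fact p.Prime]

/-- If `M` contains the normalizers of its nontrivial `p`-subgroups and `p ∣ |M|`, then `M` contains a Sylow
`p`-subgroup of `G`. -/
theorem exists_sylow_le_of_normalizer_le {M : Subgroup G} (hpM : p ∣ Nat.card M)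
    (h : ∀ A : Subgroup G, A ≤ M → IsPGroup p ↥A → A ≠ ⊥ → Subgroup.normalizer (A : Set G) ≤ M) :
    ∃ P : Sylow p G, (P : Subgroup G) ≤ M := by
  have hp : p.Prime := Fact.out
  obtain ⟨P₀, hP₀, -⟩ := exists_isSylowIn_ge (p := p) (Q := ⊥) (H := M) IsPGroup.of_bot bot_le
  have hP₀ne : P₀ ≠ ⊥ := by
    intro hb
    have h1 := hP₀.2
    rw [hb, Subgroup.card_bot] at h1
    have hpos : 0 < (Nat.card ↥M).factorization p := hp.factorization_pos_of_dvd Nat.card_pos.ne' hpM
    have : 1 < p ^ (Nat.card ↥M).factorization p := Nat.one_lt_pow hpos.ne' hp.one_lt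
    omega
  obtain ⟨P, hP⟩ := hP₀.isPGroup.exists_le_sylow
  refine ⟨P, ?_⟩
  -- R = P ⊓ M equals P₀
  have hR : (P : Subgroup G) ⊓ M = P₀ := by
    symm
    apply Subgroup.eq_of_le_of_card_ge (le_inf hP hP₀.1)
    have hRp : IsPGroup p ↥((P : Subgroup G) ⊓ M) := P.isPGroup'.to_inf_left
    obtain ⟨k, hk⟩ := hRp.exists_card_eq
    have hdvd : p ^ k ∣ Nat.card ↥M := by rw [← hk]; exact Subgroup.card_dvd_of_le inf_le_right
    rw [hk, hP₀.2]
    exact Nat.pow_le_pow_right hp.pos ((hp.pow_dvd_iff_le_factorization Nat.card_pos.ne').mp hdvd)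
  by_contra hnot
  -- the subgroup K = (P ⊓ M) of P is proper, so its normalizer in P is bigger
  have : Group.IsNilpotent ↥(P : Subgroup G) := P.isPGroup'.isNilpotent
  have hKlt : ((P : Subgroup G) ⊓ M).subgroupOf (P : Subgroup G) < ⊤ := by
    rw [lt_top_iff_ne_top]
    intro htop
    apply hnot
    intro x hx
    have : (⟨x, hx⟩ : ↥(P : Subgroup G)) ∈ ((P : Subgroup G) ⊓ M).subgroupOf (P : Subgroup G) := by
      rw [htop]; exact Subgroup.mem_top _
    exact (Subgroup.mem_subgroupOf.mp this).2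
  have hnc := Group.normalizerCondition_of_isNilpotent (G := ↥(P : Subgroup G)) _ hKlt
  obtain ⟨x, hxN, hxK⟩ := SetLike.exists_of_lt hnc
  apply hxK
  rw [Subgroup.mem_subgroupOf]
  refine ⟨x.2, ?_⟩
  have hN : Subgroup.normalizer (((P : Subgroup G) ⊓ M : Subgroup G) : Set G) ≤ M := by
    rw [hR]
    exact h P₀ hP₀.1 hP₀.isPGroup hP₀ne
  apply hN
  apply mem_normalizer_of_conj_mem
  intro r hr
  have hrP : r ∈ (P : Subgroup G) := hr.1
  have h1 := (Subgroup.mem_normalizer_iff.mp hxN ⟨r, hrP⟩).mp (Subgroup.mem_subgroupOf.mpr hr)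
  exact Subgroup.mem_subgroupOf.mp h1

theorem isStronglyPEmbedded_of_normalizer_le {M : Subgroup G} (hM : M ≠ ⊤) (hpM : p ∣ Nat.card M)
    (h : ∀ A : Subgroup G, A ≤ M → IsPGroup p ↥A → A ≠ ⊥ → Subgroup.normalizer (A : Set G) ≤ M) :
    IsStronglyPEmbedded p M := by
  refine ⟨dvd_trans hpM (Subgroup.card_subgroup_dvd_card M), hM, ?_⟩
  obtain ⟨P, hPM⟩ := exists_sylow_le_of_normalizer_le hpM h
  refine ⟨P, ?_⟩
  unfold kGeneratedCore
  apply iSup_le
  rintro ⟨Q, hQP, hQr⟩
  exact h Q (hQP.trans hPM) (P.isPGroup'.to_le hQP) (ne_bot_of_not_pRankLE_zero Q hQr)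

theorem isStronglyPEmbedded_iff_normalizer_le {M : Subgroup G} (hM : M ≠ ⊤) (hpM : p ∣ Nat.card M) :
    IsStronglyPEmbedded p M ↔
      ∀ A : Subgroup G, A ≤ M → IsPGroup p ↥A → A ≠ ⊥ → Subgroup.normalizer (A : Set G) ≤ M :=
  ⟨fun h A hA hAp hAne => normalizer_le h hA hAp hAne, isStronglyPEmbedded_of_normalizer_le hM hpM⟩

theorem isStronglyPEmbedded_iff_conj {M : Subgroup G} (hM : M ≠ ⊤) (hpM : p ∣ Nat.card M) :
    IsStronglyPEmbedded p M ↔
      ∀ g : G, g ∉ M → ¬ p ∣ Nat.card ↥(M ⊓ M.map (MulAut.conj g).toMonoidHom) := by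
  constructor
  · intro h g hg hdvd
    obtain ⟨t, ht⟩ := exists_prime_orderOf_dvd_card' p hdvd
    have hto : orderOf (t : G) = p := by rw [← ht]; exact Subgroup.orderOf_coe t
    have htM : (t : G) ∈ M := t.2.1
    have htg : g⁻¹ * (t : G) * g ∈ M := (mem_map_conj M g t).mp t.2.2
    exact hg (mem_of_conj_mem h htM hto htg)
  · intro h
    apply isStronglyPEmbedded_of_normalizer_le hM hpM
    intro A hAM hAp hAne n hn
    by_contra hnM
    apply h n hnM
    have hle : A ≤ M ⊓ M.map (MulAut.conj n).toMonoidHom := by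
      intro a ha
      refine ⟨hAM ha, ?_⟩
      show a ∈ M.map (MulAut.conj n).toMonoidHom
      rw [mem_map_conj]
      apply hAM
      have := (Subgroup.mem_normalizer_iff.mp (Subgroup.inv_mem _ hn) a).mp ha
      simpa using this
    have hpA : p ∣ Nat.card ↥A := by
      obtain ⟨x, hx, hox⟩ := exists_orderOf_eq_of_ne_bot hAp hAne
      rw [← hox, ← Subgroup.orderOf_mk x hx]
      exact orderOf_dvd_natCard _
    exact dvd_trans hpA (Subgroup.card_dvd_of_le hle)

omit [Finite G] [Fact p.Prime] in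
theorem map_conj_inv_map_conj (A : Subgroup G) (g : G) :
    (A.map (MulAut.conj g⁻¹).toMonoidHom).map (MulAut.conj g).toMonoidHom = A := by
  ext x
  rw [mem_map_conj, mem_map_conj]
  simp [mul_assoc]

omit [Finite G] [Fact p.Prime] in
theorem map_conj_ne_bot {A : Subgroup G} (hA : A ≠ ⊥) (g : G) : A.map (MulAut.conj g).toMonoidHom ≠ ⊥ := by
  intro h
  apply hA
  rw [Subgroup.map_eq_bot_iff_of_injective _ (MulAut.conj g).injective] at h
  exact h

theorem isStronglyPEmbedded_iff_exists_conj_le (T : Sylow p G) {M : Subgroup G} (hM : M ≠ ⊤)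
    (hpM : p ∣ Nat.card M) :
    IsStronglyPEmbedded p M ↔
      ∃ g : G, (⨆ A : {A : Subgroup G // A ≤ (T : Subgroup G) ∧ A ≠ ⊥},
        Subgroup.normalizer ((A : Subgroup G) : Set G)).map (MulAut.conj g).toMonoidHom ≤ M := by
  constructor
  · intro h
    obtain ⟨P, hPM, -⟩ := sylow_le h
    obtain ⟨g, hg⟩ := MulAction.exists_smul_eq G T P
    have hTg : (T : Subgroup G).map (MulAut.conj g).toMonoidHom = (P : Subgroup G) := by
      rw [← hg, Sylow.coe_subgroup_smul]
      rfl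
    refine ⟨g, ?_⟩
    rw [Subgroup.map_iSup]
    apply iSup_le
    rintro ⟨A, hAT, hAne⟩
    have e : (Subgroup.normalizer (A : Set G)).map (MulAut.conj g).toMonoidHom =
        Subgroup.normalizer ((A.map (MulAut.conj g).toMonoidHom : Subgroup G) : Set G) :=
      Subgroup.map_equiv_normalizer_eq A (MulAut.conj g)
    show (Subgroup.normalizer (A : Set G)).map (MulAut.conj g).toMonoidHom ≤ M
    rw [e]
    have hAP : A.map (MulAut.conj g).toMonoidHom ≤ (P : Subgroup G) := by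
      rw [← hTg]; exact Subgroup.map_mono hAT
    exact normalizer_le h (hAP.trans hPM) (P.isPGroup'.to_le hAP) (map_conj_ne_bot hAne g)
  · rintro ⟨g, hg⟩
    refine ⟨dvd_trans hpM (Subgroup.card_subgroup_dvd_card M), hM, g • T, ?_⟩
    have hTg : ((g • T : Sylow p G) : Subgroup G) = (T : Subgroup G).map (MulAut.conj g).toMonoidHom := by
      rw [Sylow.coe_subgroup_smul]
      rfl
    unfold kGeneratedCore
    apply iSup_le
    rintro ⟨Q, hQP, hQr⟩
    refine le_trans ?_ hg
    have hQne : Q ≠ ⊥ := ne_bot_of_not_pRankLE_zero Q hQr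
    have hA : Q.map (MulAut.conj g⁻¹).toMonoidHom ≤ (T : Subgroup G) := by
      have := Subgroup.map_mono (f := (MulAut.conj g⁻¹).toMonoidHom) hQP
      rw [hTg] at this
      have e := map_conj_inv_map_conj (T : Subgroup G) g⁻¹
      rw [inv_inv] at e
      rwa [e] at this
    have e : (Subgroup.normalizer ((Q.map (MulAut.conj g⁻¹).toMonoidHom : Subgroup G) : Set G)).map
        (MulAut.conj g).toMonoidHom = Subgroup.normalizer (Q : Set G) := by
      rw [Subgroup.map_equiv_normalizer_eq _ (MulAut.conj g), map_conj_inv_map_conj]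
    show Subgroup.normalizer (Q : Set G) ≤ _
    rw [← e]
    apply Subgroup.map_mono
    exact le_iSup_of_le ⟨Q.map (MulAut.conj g⁻¹).toMonoidHom, hA, map_conj_ne_bot hQne g⁻¹⟩ le_rfl

end Cfsg.Agent.Lib.Helper7
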