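import Mathlib
import Cfsg.Prelude.Def_EvenType
import Cfsg.Prelude.Def_Amalgam
import Cfsg.Agent.Lib.Lead.StronglyEmbedded
import Cfsg.Agent.Lib.Lead.PiCore
import Cfsg.Agent.Lib.Helper7.SylowLib
import Cfsg.Agent.Lib.Helper7.StrEmb

set_option autoImplicit false

namespace Cfsg.Agent.Lib.Helper7

open Cfsg Cfsg.Agent.Lib.Lead.Conj Cfsg.Agent.Lib.Lead.StronglyEmbedded

variable {G : Type*} [Group G] [Finite G] {p : ℕ} [Fact p.Prime]

/-- A nontrivial Sylow-type subgroup: `IsSylowIn p A Y` with `p ∣ |Y|` is nontrivial. -/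
theorem IsSylowIn.ne_bot {A Y : Subgroup G} (hA : IsSylowIn p A Y) (hpY : p ∣ Nat.card Y) : A ≠ ⊥ := by
  have hp : p.Prime := Fact.out
  intro hb
  have h1 := hA.2
  rw [hb, Subgroup.card_bot] at h1
  have hpos : 0 < (Nat.card ↥Y).factorization p := hp.factorization_pos_of_dvd Nat.card_pos.ne' hpY
  have : 1 < p ^ (Nat.card ↥Y).factorization p := Nat.one_lt_pow hpos.ne' hp.one_lt
  omega

/-- If `X` contains a Sylow `p`-subgroup of `G`, `N` is normal and `R ≤ NX` is a `p`-subgroup, then some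
`N`-conjugate of `R` lies in `X`. -/
theorem exists_conj_le_of_le_sup (Q : Sylow p G) {X : Subgroup G} (hQX : (Q : Subgroup G) ≤ X)
    (N : Subgroup G) [N.Normal] (R : Subgroup G) (hRp : IsPGroup p ↥R) (hR : R ≤ N ⊔ X) :
    ∃ n ∈ N, ∀ z ∈ R, n⁻¹ * z * n ∈ X := by
  have hQ : IsSylowIn p (Q : Subgroup G) (N ⊔ X) := IsSylowIn.of_sylow_le Q (hQX.trans le_sup_right)
  obtain ⟨P', hP', hRP'⟩ := exists_isSylowIn_ge hRp hR
  obtain ⟨h, hh, hP'Q⟩ := hQ.conj hP'
  have hh' : h ∈ ((N ⊔ X : Subgroup G) : Set G) := hh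
  rw [Subgroup.normal_mul] at hh'
  obtain ⟨n, hn, x, hx, rfl⟩ := Set.mem_mul.mp hh'
  refine ⟨n, hn, fun z hz => ?_⟩
  have hz' : z ∈ P' := hRP' hz
  rw [hP'Q] at hz'
  obtain ⟨q, hq, hqz⟩ := hz'
  have : n⁻¹ * z * n = x * q * x⁻¹ := by
    rw [← hqz]
    simp [MulAut.conj_apply]
    group
  rw [this]
  exact Subgroup.mul_mem _ (Subgroup.mul_mem _ hx (hQX hq)) (Subgroup.inv_mem _ hx)

theorem exists_orderOf_eq_mem_of_stronglyPEmbedded {X : Subgroup G} (hX : IsStronglyPEmbedded p X) :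
    ∃ (P : Sylow p G), (P : Subgroup G) ≤ X ∧ ∃ t ∈ (P : Subgroup G), orderOf t = p := by
  obtain ⟨P, hPX, -⟩ := sylow_le hX
  refine ⟨P, hPX, ?_⟩
  have hne : (P : Subgroup G) ≠ ⊥ :=
    (IsSylowIn.of_sylow_top P).ne_bot (by rw [Subgroup.card_top]; exact hX.1)
  exact exists_orderOf_eq_of_ne_bot P.isPGroup' hne

/-- The image of a strongly `p`-embedded subgroup modulo a normal `p'`-subgroup `N` with `XN ≠ G` is
strongly `p`-embedded. -/
theorem stronglyPEmbedded_map_quotient {X : Subgroup G} (hX : IsStronglyPEmbedded p X) (N : Subgroup G)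
    [N.Normal] (hN : (Nat.card N).Coprime p) (hne : X ⊔ N ≠ ⊤) :
    IsStronglyPEmbedded p (X.map (QuotientGroup.mk' N)) := by
  have hp : p.Prime := Fact.out
  obtain ⟨P, hPX, t, htP, hto⟩ := exists_orderOf_eq_mem_of_stronglyPEmbedded hX
  have hker : (QuotientGroup.mk' N).ker = N := QuotientGroup.ker_mk' N
  have hM : X.map (QuotientGroup.mk' N) ≠ ⊤ := by
    intro htop
    apply hne
    have := Subgroup.comap_map_eq (QuotientGroup.mk' N) X
    rw [htop, Subgroup.comap_top, hker] at this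
    exact this.symm
  -- lifting membership
  have hlift : ∀ y : G, (QuotientGroup.mk y : G ⧸ N) ∈ X.map (QuotientGroup.mk' N) → y ∈ N ⊔ X := by
    intro y hy
    have : y ∈ (X.map (QuotientGroup.mk' N)).comap (QuotientGroup.mk' N) := hy
    rw [Subgroup.comap_map_eq, hker, sup_comm] at this
    exact this
  have hpM : p ∣ Nat.card ↥(X.map (QuotientGroup.mk' N)) := by
    have htN : t ∉ N := by
      intro h
      have h1 : orderOf t ∣ Nat.card ↥N := by
        rw [← Subgroup.orderOf_mk t h]; exact orderOf_dvd_natCard _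
      rw [hto] at h1
      have h2 : p ∣ Nat.gcd (Nat.card ↥N) p := Nat.dvd_gcd h1 dvd_rfl
      rw [hN.gcd_eq_one] at h2
      exact hp.one_lt.ne' (Nat.eq_one_of_dvd_one h2)
    have ho : orderOf (QuotientGroup.mk t : G ⧸ N) = p := by
      apply orderOf_eq_prime
      · rw [← QuotientGroup.mk_pow, ← hto, pow_orderOf_eq_one]
        rfl
      · intro h
        exact htN ((QuotientGroup.eq_one_iff t).mp h)
    have hmem : (QuotientGroup.mk t : G ⧸ N) ∈ X.map (QuotientGroup.mk' N) := ⟨t, hPX htP, rfl⟩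
    rw [← ho, ← Subgroup.orderOf_mk _ hmem]
    exact orderOf_dvd_natCard _
  rw [isStronglyPEmbedded_iff_conj hM hpM]
  intro gbar hgbar hdvd
  obtain ⟨g, rfl⟩ := QuotientGroup.mk_surjective gbar
  set D := X.map (QuotientGroup.mk' N) ⊓ (X.map (QuotientGroup.mk' N)).map
    (MulAut.conj (QuotientGroup.mk g : G ⧸ N)).toMonoidHom with hD
  set Y := D.comap (QuotientGroup.mk' N) with hY
  have hpY : p ∣ Nat.card ↥Y := by
    have h1 : Y.map (QuotientGroup.mk' N) = D :=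
      Subgroup.map_comap_eq_self_of_surjective (QuotientGroup.mk'_surjective N) D
    have h2 := Subgroup.card_map_dvd (H := Y) (QuotientGroup.mk' N)
    rw [h1] at h2
    exact dvd_trans hdvd h2
  obtain ⟨A, hA, -⟩ := exists_isSylowIn_ge (p := p) (Q := ⊥) (H := Y) IsPGroup.of_bot bot_le
  have hAne : A ≠ ⊥ := hA.ne_bot hpY
  have hA1 : A ≤ N ⊔ X := by
    intro a ha
    apply hlift
    exact (hA.1 ha : _ ∈ D).1
  have hA2 : A.map (MulAut.conj g⁻¹).toMonoidHom ≤ N ⊔ X := by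
    rintro _ ⟨a, ha, rfl⟩
    apply hlift
    have h1 : (QuotientGroup.mk a : G ⧸ N) ∈ (X.map (QuotientGroup.mk' N)).map
        (MulAut.conj (QuotientGroup.mk g : G ⧸ N)).toMonoidHom := (hA.1 ha : _ ∈ D).2
    rw [mem_map_conj] at h1
    simpa [MulAut.conj_apply] using h1
  obtain ⟨n₁, hn₁, h1⟩ := exists_conj_le_of_le_sup P hPX N A hA.isPGroup hA1
  obtain ⟨n₂, hn₂, h2⟩ := exists_conj_le_of_le_sup P hPX N _ (hA.isPGroup.map _) hA2
  obtain ⟨s, hs, hso⟩ := exists_orderOf_eq_of_ne_bot hA.isPGroup hAne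
  have hs1 : n₁⁻¹ * s * n₁ ∈ X := h1 s hs
  have hs1o : orderOf (n₁⁻¹ * s * n₁) = p := by rw [orderOf_conj', hso]
  have hs2 : n₂⁻¹ * (g⁻¹ * s * g) * n₂ ∈ X := by
    have := h2 _ ⟨s, hs, rfl⟩
    simpa [MulAut.conj_apply] using this
  have hh : (n₁⁻¹ * g * n₂)⁻¹ * (n₁⁻¹ * s * n₁) * (n₁⁻¹ * g * n₂) ∈ X := by
    have e : (n₁⁻¹ * g * n₂)⁻¹ * (n₁⁻¹ * s * n₁) * (n₁⁻¹ * g * n₂) = n₂⁻¹ * (g⁻¹ * s * g) * n₂ := by group
    rw [e]; exact hs2
  have hmem := mem_of_conj_mem hX hs1 hs1o hh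
  apply hgbar
  refine ⟨n₁⁻¹ * g * n₂, hmem, ?_⟩
  have e1 : (QuotientGroup.mk n₁ : G ⧸ N) = 1 := (QuotientGroup.eq_one_iff n₁).mpr hn₁
  have e2 : (QuotientGroup.mk n₂ : G ⧸ N) = 1 := (QuotientGroup.eq_one_iff n₂).mpr hn₂
  simp [e1, e2]

/-- A strongly `p`-embedded subgroup meets a subgroup `H ≰ X` with `p ∣ |H ∩ X|` in a strongly `p`-embedded
subgroup of `H`. -/
theorem stronglyPEmbedded_inf_subgroupOf {X : Subgroup G} (hX : IsStronglyPEmbedded p X) (H : Subgroup G)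
    (hHX : ¬ H ≤ X) (hdvd : p ∣ Nat.card ↥(H ⊓ X)) :
    IsStronglyPEmbedded p ((H ⊓ X).subgroupOf H) := by
  apply isStronglyPEmbedded_of_normalizer_le
  · intro htop
    apply hHX
    intro h hh
    have : (⟨h, hh⟩ : ↥H) ∈ (H ⊓ X).subgroupOf H := by rw [htop]; exact Subgroup.mem_top _
    exact (Subgroup.mem_subgroupOf.mp this).2
  · rw [card_subgroupOf_of_le inf_le_left]
    exact hdvd
  · intro A' hA'M hA'p hA'ne n hn
    rw [Subgroup.mem_subgroupOf]
    refine ⟨n.2, ?_⟩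
    have hAX : A'.map H.subtype ≤ X := by
      rintro _ ⟨a, ha, rfl⟩
      exact (Subgroup.mem_subgroupOf.mp (hA'M ha)).2
    have hAne : A'.map H.subtype ≠ ⊥ := by
      intro h
      apply hA'ne
      rwa [Subgroup.map_eq_bot_iff_of_injective _ H.subtype_injective] at h
    apply normalizer_le hX hAX (hA'p.map _) hAne
    apply mem_normalizer_of_conj_mem
    rintro _ ⟨a, ha, rfl⟩
    exact ⟨n * a * n⁻¹, (Subgroup.mem_normalizer_iff.mp hn a).mp ha, rfl⟩

theorem stronglyPEmbedded_subgroupOf_pElementClosure {X : Subgroup G} (hX : IsStronglyPEmbedded p X) :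
    IsStronglyPEmbedded p (X.subgroupOf (pElementClosure p (⊤ : Subgroup G))) := by
  obtain ⟨P, hPX, t, htP, hto⟩ := exists_orderOf_eq_mem_of_stronglyPEmbedded hX
  have hmemY : ∀ s : G, orderOf s = p → s ∈ pElementClosure p (⊤ : Subgroup G) := by
    intro s hs
    apply Subgroup.subset_closure
    exact ⟨Subgroup.mem_top s, 1, by rw [hs, pow_one]⟩
  have h1 := stronglyPEmbedded_inf_subgroupOf hX (pElementClosure p (⊤ : Subgroup G)) ?_ ?_
  · rwa [Subgroup.inf_subgroupOf_left] at h1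
  · intro hYX
    apply hX.2.1
    rw [eq_top_iff]
    intro g _
    have h3 : orderOf (g⁻¹ * t * g) = p := by rw [orderOf_conj' g t, hto]
    have h2 : g⁻¹ * t * g ∈ X := hYX (hmemY _ h3)
    exact mem_of_conj_mem hX (hPX htP) hto h2
  · have hmem : t ∈ pElementClosure p (⊤ : Subgroup G) ⊓ X := ⟨hmemY t hto, hPX htP⟩
    have h4 := orderOf_dvd_natCard (⟨t, hmem⟩ : ↥(pElementClosure p (⊤ : Subgroup G) ⊓ X))
    rwa [Subgroup.orderOf_mk, hto] at h4

end Cfsg.Agent.Lib.Helper7
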