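import Mathlib
import Cfsg.Prelude.Def_FusionSystem

set_option autoImplicit false

namespace Cfsg.Agent.Lib.Helper7

open Cfsg Cfsg.FusionSystem

variable {Ω : Type*} [Group Ω] {S : Subgroup Ω}

/-- The inclusion of a subgroup of `S` is a map of the system. -/
theorem fs_subtype_mem (F : FusionSystem S) {P : Subgroup Ω} (hP : P ≤ S) : P.subtype ∈ F.Hom P := by
  have h := F.conj_mem (g := 1) hP S.one_mem
  have e : conjHom P (1 : Ω) = P.subtype := by
    ext x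
    simp [conjHom]
  rwa [e] at h

/-- Restriction of a map of the system to a smaller subgroup. -/
theorem fs_restrict_mem (F : FusionSystem S) {P R : Subgroup Ω} (h : R ≤ P) {φ : P →* Ω}
    (hφ : φ ∈ F.Hom P) : φ.comp (Subgroup.inclusion h) ∈ F.Hom R := by
  have hP := (F.le_of_mem hφ).1
  have h1 := fs_subtype_mem F (h.trans hP)
  have h2 := F.comp_mem h1 hφ (fun x => h x.2)
  have e : φ.comp (R.subtype.codRestrict P (fun x => h x.2)) = φ.comp (Subgroup.inclusion h) := by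
    ext x
    rfl
  rwa [e] at h2

/-- Transport of a map along an equality of source subgroups. -/
theorem fs_mem_of_eq (F : FusionSystem S) {P R : Subgroup Ω} (h : R = P) {φ : P →* Ω}
    (hφ : φ ∈ F.Hom P) : φ.comp (Subgroup.inclusion (le_of_eq h)) ∈ F.Hom R :=
  fs_restrict_mem F (le_of_eq h) hφ

theorem mem_extender_of_mem {S P : Subgroup Ω} {φ : P →* Ω} {g : Ω} (hgS : g ∈ S)
    (hgN : g ∈ Subgroup.normalizer (P : Set Ω))
    (h : ∃ h ∈ S, ∀ (x : P) (hx : g * (x : Ω) * g⁻¹ ∈ P), φ ⟨g * x * g⁻¹, hx⟩ = h * φ x * h⁻¹) :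
    g ∈ extender S P φ :=
  Subgroup.subset_closure ⟨hgS, hgN, h⟩

theorem centralizerIn_le_extender (S P : Subgroup Ω) (φ : P →* Ω) :
    centralizerIn S P ≤ extender S P φ := by
  intro g hg
  have hgS : g ∈ S := hg.1
  have hgC : g ∈ Subgroup.centralizer (P : Set Ω) := hg.2
  apply mem_extender_of_mem hgS (Subgroup.centralizer_le_normalizer _ hgC)
  refine ⟨1, S.one_mem, fun x hx => ?_⟩
  have : g * (x : Ω) * g⁻¹ = x := by
    have := (Subgroup.mem_centralizer_iff.mp hgC) x x.2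
    rw [← this]; group
  simp only [this, one_mul, inv_one, mul_one]

theorem le_extender (F : FusionSystem S) {P : Subgroup Ω} {φ : P →* Ω} (hφ : φ ∈ F.Hom P) :
    P ≤ extender S P φ := by
  intro g hg
  have hPS := (F.le_of_mem hφ).1
  apply mem_extender_of_mem (hPS hg) (Subgroup.le_normalizer hg)
  refine ⟨φ ⟨g, hg⟩, (F.le_of_mem hφ).2 _, fun x hx => ?_⟩
  have : (⟨g * (x : Ω) * g⁻¹, hx⟩ : P) = ⟨g, hg⟩ * x * ⟨g, hg⟩⁻¹ := by
    apply Subtype.ext; simp
  rw [this, map_mul, map_mul, map_inv]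

/-- A receptive subgroup is fully centralized. -/
theorem isFullyCentralized_of_isReceptive [Finite S] (F : FusionSystem S) (P : Subgroup Ω)
    (hP : F.IsReceptive P) : F.IsFullyCentralized P := by
  refine ⟨hP.1, ?_⟩
  rintro Q ⟨φ, hφ, rfl⟩
  obtain ⟨ψ, hψ, hψφ⟩ := F.inv_mem hφ
  have hrange : ψ.range = P := by
    ext y
    constructor
    · rintro ⟨⟨_, x, rfl⟩, rfl⟩
      rw [hψφ]; exact x.2
    · intro hy
      exact ⟨⟨φ ⟨y, hy⟩, ⟨⟨y, hy⟩, rfl⟩⟩, hψφ ⟨y, hy⟩⟩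
  obtain ⟨χ, hχ, hχψ⟩ := hP.2 φ.range ψ hψ hrange
  have hCN : centralizerIn S φ.range ≤ extender S φ.range ψ := centralizerIn_le_extender S φ.range ψ
  have hQN : φ.range ≤ extender S φ.range ψ := le_extender F hψ
  -- the map C_S(Q) → C_S(P)
  have hmap : ∀ c : centralizerIn S φ.range, χ ⟨c, hCN c.2⟩ ∈ centralizerIn S P := by
    intro c
    refine ⟨(F.le_of_mem hχ).2 _, ?_⟩
    show _ ∈ Subgroup.centralizer (P : Set Ω)
    rw [Subgroup.mem_centralizer_iff]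
    intro y hy
    -- y = ψ (φ y) = χ (φ y)
    have hy' : y = χ ⟨φ ⟨y, hy⟩, hQN ⟨⟨y, hy⟩, rfl⟩⟩ := by
      rw [hχψ _ ⟨⟨y, hy⟩, rfl⟩, hψφ]
    have hcomm : (⟨φ ⟨y, hy⟩, hQN ⟨⟨y, hy⟩, rfl⟩⟩ : extender S φ.range ψ) * ⟨c, hCN c.2⟩ = ⟨c, hCN c.2⟩ * ⟨φ ⟨y, hy⟩, hQN ⟨⟨y, hy⟩, rfl⟩⟩ := by
      apply Subtype.ext
      exact (Subgroup.mem_centralizer_iff.mp c.2.2) _ ⟨⟨y, hy⟩, rfl⟩
    have := congrArg χ hcomm
    rw [map_mul, map_mul, ← hy'] at this
    exact this
  have hfin : Finite (centralizerIn S P) :=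
    Finite.of_injective (fun c : centralizerIn S P => (⟨c, c.2.1⟩ : S)) (fun a b hab => Subtype.ext (congrArg (fun z : S => (z : Ω)) hab))
  apply Nat.card_le_card_of_injective (fun c : centralizerIn S φ.range => (⟨χ ⟨c, hCN c.2⟩, hmap c⟩ : centralizerIn S P))
  intro a b hab
  have h1 : χ ⟨a, hCN a.2⟩ = χ ⟨b, hCN b.2⟩ := congrArg Subtype.val hab
  have h2 := F.injective_of_mem hχ h1
  exact Subtype.ext (congrArg (fun z : extender S φ.range ψ => (z : Ω)) h2)

/-- An injective hom `ψ` on `P ⊔ Q` carrying `Q` onto `Q` carries each characteristic subgroup `U` of `Q`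
onto itself. -/
theorem map_char_eq_of_map_eq {R Q U : Subgroup Ω} (hQR : Q ≤ R) (hUQ : U ≤ Q)
    (hU : (U.subgroupOf Q).Characteristic) (ψ : R →* Ω) (hinj : Function.Injective ψ)
    (hψQ : (Q.subgroupOf R).map ψ = Q) : (U.subgroupOf R).map ψ = U := by
  have hmem : ∀ x : Q, ψ (Subgroup.inclusion hQR x) ∈ Q := by
    intro x
    exact hψQ.le ⟨Subgroup.inclusion hQR x, Subgroup.mem_subgroupOf.mpr x.2, rfl⟩
  let f : Q →* Q := (ψ.comp (Subgroup.inclusion hQR)).codRestrict Q hmem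
  have hf : Function.Bijective f := by
    constructor
    · intro a b hab
      have h1 : ψ (Subgroup.inclusion hQR a) = ψ (Subgroup.inclusion hQR b) := congrArg Subtype.val hab
      exact Subgroup.inclusion_injective hQR (hinj h1)
    · intro y
      have hy : (y : Ω) ∈ (Q.subgroupOf R).map ψ := by rw [hψQ]; exact y.2
      obtain ⟨r, hr, hry⟩ := hy
      refine ⟨⟨r, Subgroup.mem_subgroupOf.mp hr⟩, ?_⟩
      apply Subtype.ext
      show ψ (Subgroup.inclusion hQR ⟨r, _⟩) = y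
      rw [← hry]
      rfl
  let α : Q ≃* Q := MulEquiv.ofBijective f hf
  have hα : (U.subgroupOf Q).map α.toMonoidHom = U.subgroupOf Q :=
    Subgroup.characteristic_iff_map_eq.mp hU α
  ext y
  constructor
  · rintro ⟨r, hr, rfl⟩
    have hrU : (r : Ω) ∈ U := Subgroup.mem_subgroupOf.mp hr
    have h1 : α ⟨r, hUQ hrU⟩ ∈ U.subgroupOf Q := by
      rw [← hα]
      exact ⟨⟨r, hUQ hrU⟩, Subgroup.mem_subgroupOf.mpr hrU, rfl⟩
    have h2 := Subgroup.mem_subgroupOf.mp h1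
    exact h2
  · intro hy
    have h1 : (⟨y, hUQ hy⟩ : Q) ∈ (U.subgroupOf Q).map α.toMonoidHom := by
      rw [hα]; exact Subgroup.mem_subgroupOf.mpr hy
    obtain ⟨q, hq, hqy⟩ := h1
    refine ⟨Subgroup.inclusion hQR q, ?_, ?_⟩
    · exact Subgroup.mem_subgroupOf.mpr (Subgroup.mem_subgroupOf.mp hq)
    · exact congrArg Subtype.val hqy

/-- A characteristic subgroup of a subgroup normal in the system is normal in the system. -/
theorem isNormal_of_characteristic (F : FusionSystem S) (Q U : Subgroup Ω) (hQ : F.IsNormal Q)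
    (hUQ : U ≤ Q) (hU : (U.subgroupOf Q).Characteristic) : F.IsNormal U := by
  refine ⟨hUQ.trans hQ.1, fun P φ hφ => ?_⟩
  obtain ⟨ψ, hψ, hψφ, hψQ⟩ := hQ.2 P φ hφ
  have hle : P ⊔ U ≤ P ⊔ Q := sup_le_sup_left hUQ P
  refine ⟨ψ.comp (Subgroup.inclusion hle), fs_restrict_mem F hle hψ, fun x => hψφ x, ?_⟩
  have h1 := map_char_eq_of_map_eq (R := P ⊔ Q) le_sup_right hUQ hU ψ (F.injective_of_mem hψ) hψQ
  ext y
  constructor
  · rintro ⟨r, hr, rfl⟩
    exact h1.le ⟨Subgroup.inclusion hle r, Subgroup.mem_subgroupOf.mpr (Subgroup.mem_subgroupOf.mp hr), rfl⟩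
  · intro hy
    obtain ⟨r, hr, rfl⟩ := h1.ge hy
    have hrU : (r : Ω) ∈ U := Subgroup.mem_subgroupOf.mp hr
    exact ⟨⟨r, Subgroup.mem_sup_right hrU⟩, Subgroup.mem_subgroupOf.mpr hrU, rfl⟩

end Cfsg.Agent.Lib.Helper7
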