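import Mathlib
import Cfsg.Prelude.Def_FusionSystem
import Cfsg.Agent.Lib.Helper7.Fusion
import Cfsg.Agent.Lib.Helper7.SylowLib

set_option autoImplicit false

namespace Cfsg.Agent.Lib.Helper7

open Cfsg Cfsg.FusionSystem

/-- A normal `p`-subgroup of `G` is normal in the fusion system of `G` on a Sylow `p`-subgroup. -/
theorem groupFusionSystem_isNormal_of_normal {G : Type*} [Group G] [Finite G] (p : ℕ) [Fact p.Prime]
    (S : Sylow p G) (R : Subgroup G) [hRn : R.Normal] (hR : IsPGroup p R) :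
    (groupFusionSystem (S : Subgroup G)).IsNormal R := by
  have hRS : R ≤ (S : Subgroup G) := hR.le_sylow_of_normal S
  refine ⟨hRS, ?_⟩
  rintro P φ ⟨hP, hφS, g, hg⟩
  have hval : ∀ x : ↥(P ⊔ R), g * (x : G) * g⁻¹ ∈ (S : Subgroup G) := by
    intro x
    have hle : (P ⊔ R).map (MulAut.conj g).toMonoidHom ≤ (S : Subgroup G) := by
      rw [Subgroup.map_sup]
      apply sup_le
      · rintro _ ⟨a, ha, rfl⟩
        have := hφS ⟨a, ha⟩
        rw [hg] at this
        exact this
      · rintro _ ⟨b, hb, rfl⟩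
        exact hRS (hRn.conj_mem b hb g)
    exact hle ⟨x, x.2, rfl⟩
  refine ⟨conjHom (P ⊔ R) g, ⟨sup_le hP hRS, hval, g, fun x => rfl⟩, fun x => (hg x).symm, ?_⟩
  ext y
  constructor
  · rintro ⟨r, hr, rfl⟩
    exact hRn.conj_mem _ (Subgroup.mem_subgroupOf.mp hr) g
  · intro hy
    refine ⟨⟨g⁻¹ * y * g, Subgroup.mem_sup_right ?_⟩, ?_, ?_⟩
    · simpa using hRn.conj_mem _ hy g⁻¹
    · apply Subgroup.mem_subgroupOf.mpr
      simpa using hRn.conj_mem _ hy g⁻¹
    · show g * (g⁻¹ * y * g) * g⁻¹ = y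
      group

end Cfsg.Agent.Lib.Helper7

namespace Cfsg.Agent.Lib.Helper7

open Cfsg Cfsg.FusionSystem

section GroupFusion

variable {G : Type*} [Group G]

theorem gfs_isConj_iff (S P Q : Subgroup G) (hP : P ≤ S) :
    (groupFusionSystem S).IsConj P Q ↔
      ∃ g : G, P.map (MulAut.conj g).toMonoidHom = Q ∧ Q ≤ S := by
  constructor
  · rintro ⟨φ, ⟨-, hφS, g, hg⟩, rfl⟩
    refine ⟨g, ?_, ?_⟩
    · ext y
      constructor
      · rintro ⟨x, hx, rfl⟩
        exact ⟨⟨x, hx⟩, by rw [hg]; rfl⟩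
      · rintro ⟨x, rfl⟩
        exact ⟨x, x.2, by rw [hg]; rfl⟩
    · rintro _ ⟨x, rfl⟩
      exact hφS x
  · rintro ⟨g, rfl, hQ⟩
    refine ⟨conjHom P g, ⟨hP, fun x => hQ ⟨x, x.2, rfl⟩, g, fun x => rfl⟩, ?_⟩
    ext y
    constructor
    · rintro ⟨x, rfl⟩
      exact ⟨x, x.2, rfl⟩
    · rintro ⟨x, hx, rfl⟩
      exact ⟨⟨x, hx⟩, rfl⟩

theorem centralizer_map_conj (P : Subgroup G) (g : G) :
    Subgroup.centralizer ((P.map (MulAut.conj g).toMonoidHom : Subgroup G) : Set G) =
      (Subgroup.centralizer (P : Set G)).map (MulAut.conj g).toMonoidHom := by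
  ext x
  constructor
  · intro hx
    refine ⟨g⁻¹ * x * g, ?_, ?_⟩
    · show _ ∈ Subgroup.centralizer (P : Set G)
      rw [Subgroup.mem_centralizer_iff]
      intro y hy
      have := (Subgroup.mem_centralizer_iff.mp hx) (g * y * g⁻¹) ⟨y, hy, rfl⟩
      calc y * (g⁻¹ * x * g) = g⁻¹ * ((g * y * g⁻¹) * x) * g := by group
        _ = g⁻¹ * (x * (g * y * g⁻¹)) * g := by rw [this]
        _ = g⁻¹ * x * g * y := by group
    · simp [MulAut.conj_apply]
      group
  · rintro ⟨c, hc, rfl⟩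
    rw [Subgroup.mem_centralizer_iff]
    rintro _ ⟨y, hy, rfl⟩
    have := (Subgroup.mem_centralizer_iff.mp hc) y hy
    simp only [MulEquiv.coe_toMonoidHom, MulAut.conj_apply]
    calc g * y * g⁻¹ * (g * c * g⁻¹) = g * (y * c) * g⁻¹ := by group
      _ = g * (c * y) * g⁻¹ := by rw [this]
      _ = g * c * g⁻¹ * (g * y * g⁻¹) := by group

theorem normalizer_map_conj (P : Subgroup G) (g : G) :
    Subgroup.normalizer ((P.map (MulAut.conj g).toMonoidHom : Subgroup G) : Set G) =
      (Subgroup.normalizer (P : Set G)).map (MulAut.conj g).toMonoidHom :=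
  (Subgroup.map_equiv_normalizer_eq P (MulAut.conj g)).symm

/-- Abstract form of "fully normalized / fully centralized iff Sylow". -/
theorem fully_iff_isSylowIn [Finite G] {p : ℕ} [Fact p.Prime] (X : Subgroup G → Subgroup G)
    (hXconj : ∀ (P : Subgroup G) (g : G),
      X (P.map (MulAut.conj g).toMonoidHom) = (X P).map (MulAut.conj g).toMonoidHom)
    (hXN : ∀ P : Subgroup G, X P ≤ Subgroup.normalizer (P : Set G))
    (S : Sylow p G) (P : Subgroup G) (hP : P ≤ S) :
    (∀ g : G, P.map (MulAut.conj g).toMonoidHom ≤ S →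
      Nat.card ↥((S : Subgroup G) ⊓ X (P.map (MulAut.conj g).toMonoidHom)) ≤
        Nat.card ↥((S : Subgroup G) ⊓ X P)) ↔ IsSylowIn p ((S : Subgroup G) ⊓ X P) (X P) := by
  constructor
  · intro h
    have hp1 : IsPGroup p ↥((S : Subgroup G) ⊓ X P) := S.isPGroup'.to_inf_left
    obtain ⟨T, hT, hle⟩ := exists_isSylowIn_ge (H := X P) hp1 inf_le_right
    have hTP : IsPGroup p ↥(T ⊔ P) :=
      hT.isPGroup.to_sup_of_normal_right' (S.isPGroup'.to_le hP) (hT.1.trans (hXN P))
    obtain ⟨S', hS'⟩ := hTP.exists_le_sylow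
    obtain ⟨g, hg⟩ := MulAction.exists_smul_eq G S' S
    have hmapS : ∀ K : Subgroup G, K ≤ T ⊔ P → K.map (MulAut.conj g).toMonoidHom ≤ (S : Subgroup G) := by
      intro K hK
      rw [← hg, Sylow.coe_subgroup_smul]
      rintro _ ⟨x, hx, rfl⟩
      exact Subgroup.smul_mem_pointwise_smul _ _ _ (hS' (hK hx))
    have hQ := hmapS P le_sup_right
    have hT1 : T.map (MulAut.conj g).toMonoidHom ≤ (S : Subgroup G) ⊓ X (P.map (MulAut.conj g).toMonoidHom) := by
      apply le_inf (hmapS T le_sup_left)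
      rw [hXconj]
      exact Subgroup.map_mono hT.1
    have hc1 : Nat.card ↥T ≤ Nat.card ↥((S : Subgroup G) ⊓ X (P.map (MulAut.conj g).toMonoidHom)) := by
      rw [← Subgroup.card_map_of_injective (K := T) (f := (MulAut.conj g).toMonoidHom) (MulAut.conj g).injective]
      exact Subgroup.card_le_of_le hT1
    have hc2 := h g hQ
    have hc3 : Nat.card ↥((S : Subgroup G) ⊓ X P) ≤ Nat.card ↥T := Subgroup.card_le_of_le hle
    refine ⟨inf_le_right, ?_⟩
    rw [← hT.2]
    omega
  · intro h g hQ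
    set Q := P.map (MulAut.conj g).toMonoidHom with hQdef
    have hp1 : IsPGroup p ↥((S : Subgroup G) ⊓ X Q) := S.isPGroup'.to_inf_left
    obtain ⟨k, hk⟩ := hp1.exists_card_eq
    have hdvd : p ^ k ∣ Nat.card ↥(X Q) := by
      rw [← hk]
      exact Subgroup.card_dvd_of_le inf_le_right
    have hcardX : Nat.card ↥(X Q) = Nat.card ↥(X P) := by
      rw [hXconj]
      exact Subgroup.card_map_of_injective (f := (MulAut.conj g).toMonoidHom) (MulAut.conj g).injective
    rw [hcardX] at hdvd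
    rw [hk, h.2]
    have hp : p.Prime := Fact.out
    apply Nat.pow_le_pow_right hp.pos
    exact (hp.pow_dvd_iff_le_factorization Nat.card_pos.ne').mp hdvd

end GroupFusion

end Cfsg.Agent.Lib.Helper7

namespace Cfsg.Agent.Lib.Helper7

open Cfsg Cfsg.FusionSystem

theorem gfs_isFullyNormalized_iff {G : Type*} [Group G] [Finite G] (p : ℕ) [Fact p.Prime] (S : Sylow p G)
    (P : Subgroup G) (hP : P ≤ S) :
    (groupFusionSystem (S : Subgroup G)).IsFullyNormalized P ↔
      IsSylowIn p (normalizerIn (S : Subgroup G) P) (Subgroup.normalizer (P : Set G)) := by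
  have key := fully_iff_isSylowIn (p := p) (fun P : Subgroup G => Subgroup.normalizer (P : Set G))
    (fun P g => normalizer_map_conj P g) (fun P => le_rfl) S P hP
  rw [show normalizerIn (S : Subgroup G) P = (S : Subgroup G) ⊓ Subgroup.normalizer (P : Set G) from rfl,
    ← key]
  constructor
  · rintro ⟨-, h⟩ g hQ
    exact h _ ((gfs_isConj_iff _ _ _ hP).mpr ⟨g, rfl, hQ⟩)
  · intro h
    refine ⟨hP, fun Q hQ => ?_⟩
    obtain ⟨g, rfl, hQS⟩ := (gfs_isConj_iff _ _ _ hP).mp hQ
    exact h g hQS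

theorem gfs_isFullyCentralized_iff {G : Type*} [Group G] [Finite G] (p : ℕ) [Fact p.Prime] (S : Sylow p G)
    (P : Subgroup G) (hP : P ≤ S) :
    (groupFusionSystem (S : Subgroup G)).IsFullyCentralized P ↔
      IsSylowIn p (centralizerIn (S : Subgroup G) P) (Subgroup.centralizer (P : Set G)) := by
  have key := fully_iff_isSylowIn (p := p) (fun P : Subgroup G => Subgroup.centralizer (P : Set G))
    (fun P g => centralizer_map_conj P g) (fun P => Subgroup.centralizer_le_normalizer _) S P hP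
  rw [show centralizerIn (S : Subgroup G) P = (S : Subgroup G) ⊓ Subgroup.centralizer (P : Set G) from rfl,
    ← key]
  constructor
  · rintro ⟨-, h⟩ g hQ
    exact h _ ((gfs_isConj_iff _ _ _ hP).mpr ⟨g, rfl, hQ⟩)
  · intro h
    refine ⟨hP, fun Q hQ => ?_⟩
    obtain ⟨g, rfl, hQS⟩ := (gfs_isConj_iff _ _ _ hP).mp hQ
    exact h g hQS

end Cfsg.Agent.Lib.Helper7
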