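import Mathlib
import Cfsg.Prelude.Def_LocalStructure
import Cfsg.Agent.Lib.Lead.Conj
import Cfsg.Agent.Lib.Helper7.SylowLib
import Cfsg.Agent.Lib.Helper7.GroupFusion

set_option autoImplicit false

namespace Cfsg.Agent.Lib.Helper7

open Cfsg Cfsg.Agent.Lib.Lead.Conj
open scoped Pointwise

variable {H : Type*} [Group H]

/-- The conjugate `g Q g⁻¹`. -/
abbrev cj (g : H) (Q : Subgroup H) : Subgroup H := Q.map (MulAut.conj g).toMonoidHom

theorem cj_mul (g h : H) (Q : Subgroup H) : cj g (cj h Q) = cj (g * h) Q := by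
  unfold cj
  rw [Subgroup.map_map]
  congr 1
  ext x
  simp [MulAut.conj_apply, mul_assoc]

theorem cj_one (Q : Subgroup H) : cj (1 : H) Q = Q := by
  ext x; simp [cj]

theorem cj_inv_cj (g : H) (Q : Subgroup H) : cj g⁻¹ (cj g Q) = Q := by
  rw [cj_mul, inv_mul_cancel, cj_one]

theorem cj_cj_inv (g : H) (Q : Subgroup H) : cj g (cj g⁻¹ Q) = Q := by
  rw [cj_mul, mul_inv_cancel, cj_one]

theorem cj_mono (g : H) {Q R : Subgroup H} (h : Q ≤ R) : cj g Q ≤ cj g R := Subgroup.map_mono h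

theorem cj_le_iff (g : H) (Q R : Subgroup H) : cj g Q ≤ R ↔ Q ≤ cj g⁻¹ R := by
  constructor
  · intro h
    have := cj_mono g⁻¹ h
    rwa [cj_inv_cj] at this
  · intro h
    have := cj_mono g h
    rwa [cj_cj_inv] at this

theorem mem_cj (g x : H) (Q : Subgroup H) : x ∈ cj g Q ↔ g⁻¹ * x * g ∈ Q := mem_map_conj Q g x

theorem cj_eq_of_mem_normalizer {g : H} {Q : Subgroup H} (hg : g ∈ Subgroup.normalizer (Q : Set H)) :
    cj g Q = Q := by
  ext x
  rw [mem_cj]
  have := (Subgroup.mem_normalizer_iff.mp (Subgroup.inv_mem _ hg) x)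
  rw [inv_inv] at this
  exact this.symm

theorem mem_normalizer_of_cj_eq {g : H} {Q : Subgroup H} (h : cj g Q = Q) :
    g ∈ Subgroup.normalizer (Q : Set H) := by
  rw [Subgroup.mem_normalizer_iff]
  intro x
  constructor
  · intro hx
    rw [← h]
    exact conj_mem_map_conj Q g hx
  · intro hx
    rw [← h, mem_cj] at hx
    have e : g⁻¹ * (g * x * g⁻¹) * g = x := by group
    rwa [e] at hx

theorem mem_normalizer_of_cj_le [Finite H] {g : H} {Q : Subgroup H} (h : cj g Q ≤ Q) :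
    g ∈ Subgroup.normalizer (Q : Set H) :=
  mem_normalizer_of_cj_eq (map_conj_eq_of_le Q g h)

theorem card_cj (g : H) (Q : Subgroup H) : Nat.card ↥(cj g Q) = Nat.card ↥Q := card_map_conj Q g

theorem isPGroup_cj {p : ℕ} (g : H) {Q : Subgroup H} (hQ : IsPGroup p ↥Q) : IsPGroup p ↥(cj g Q) :=
  hQ.map _

theorem normalizer_cj (g : H) (Q : Subgroup H) :
    Subgroup.normalizer ((cj g Q : Subgroup H) : Set H) = cj g (Subgroup.normalizer (Q : Set H)) :=
  normalizer_map_conj Q g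

theorem cj_sylow {p : ℕ} [Fact p.Prime] (g : H) (T : Sylow p H) :
    ((g • T : Sylow p H) : Subgroup H) = cj g (T : Subgroup H) := by
  rw [Sylow.coe_subgroup_smul]
  rfl

/-- Two conjugate normal subgroups of a Sylow subgroup are conjugate in its normalizer (Burnside). -/
theorem exists_normalizer_conj [Finite H] {p : ℕ} [Fact p.Prime] (T : Sylow p H) (A : Subgroup H) (g : H)
    (hA : (T : Subgroup H) ≤ Subgroup.normalizer (A : Set H))
    (hB : (T : Subgroup H) ≤ Subgroup.normalizer ((cj g A : Subgroup H) : Set H)) :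
    ∃ n ∈ Subgroup.normalizer (((T : Subgroup H)) : Set H), cj n A = cj g A := by
  have hB' : ((g • T : Sylow p H) : Subgroup H) ≤ Subgroup.normalizer ((cj g A : Subgroup H) : Set H) := by
    rw [cj_sylow, normalizer_cj]
    exact cj_mono g hA
  have h1 := IsSylowIn.of_sylow_le T hB
  have h2 := IsSylowIn.of_sylow_le (g • T) hB'
  obtain ⟨x, hx, hxe⟩ := h2.conj h1
  rw [cj_sylow] at hxe
  have hxe' : (T : Subgroup H) = cj (x * g) (T : Subgroup H) := by
    rw [← cj_mul]; exact hxe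
  refine ⟨x * g, mem_normalizer_of_cj_eq hxe'.symm, ?_⟩
  rw [← cj_mul]
  exact cj_eq_of_mem_normalizer hx

/-- In a finite `p`-group `R`, a proper subgroup `M` is properly contained in its normalizer. -/
theorem exists_mem_normalizer_not_mem [Finite H] {p : ℕ} [Fact p.Prime] {R M : Subgroup H}
    (hR : IsPGroup p ↥R) (hMR : M ≤ R) (hne : M ≠ R) : ∃ x ∈ R, x ∉ M ∧ cj x M = M := by
  have : Group.IsNilpotent ↥R := hR.isNilpotent
  have hlt : M.subgroupOf R < ⊤ := by
    rw [lt_top_iff_ne_top]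
    intro htop
    apply hne
    apply le_antisymm hMR
    intro x hx
    have : (⟨x, hx⟩ : ↥R) ∈ M.subgroupOf R := by rw [htop]; exact Subgroup.mem_top _
    exact Subgroup.mem_subgroupOf.mp this
  have hnc := Group.normalizerCondition_of_isNilpotent (G := ↥R) _ hlt
  obtain ⟨x, hxN, hxK⟩ := SetLike.exists_of_lt hnc
  refine ⟨x, x.2, fun h => hxK (Subgroup.mem_subgroupOf.mpr h), ?_⟩
  apply map_conj_eq_of_le
  rintro _ ⟨m, hm, rfl⟩
  have := (Subgroup.mem_normalizer_iff.mp hxN ⟨m, hMR hm⟩).mp (Subgroup.mem_subgroupOf.mpr hm)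
  exact Subgroup.mem_subgroupOf.mp this

section WC

variable [Finite H] {p : ℕ} [Fact p.Prime]

/-- Weak closure in one Sylow subgroup passes to every Sylow subgroup containing `Q`. -/
theorem IsWeaklyClosed.of_sylow {Q : Subgroup H} {T : Sylow p H} (h : IsWeaklyClosed Q (T : Subgroup H))
    (T' : Sylow p H) (hQT' : Q ≤ (T' : Subgroup H)) : IsWeaklyClosed Q (T' : Subgroup H) := by
  refine ⟨hQT', ?_⟩
  obtain ⟨a, rfl⟩ := MulAction.exists_smul_eq H T T'
  rw [cj_sylow] at hQT' ⊢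
  -- Q ≤ a T a⁻¹, so a⁻¹ Q a ≤ T
  have h1 : cj a⁻¹ Q = Q := h.2 a⁻¹ (by
    have := cj_mono a⁻¹ hQT'
    rwa [cj_inv_cj] at this)
  intro g hg
  have h2 : cj (a⁻¹ * g) Q = Q := h.2 (a⁻¹ * g) (by
    have := cj_mono a⁻¹ hg
    rwa [cj_inv_cj, cj_mul] at this)
  have h3 : cj g Q = cj a (cj (a⁻¹ * g) Q) := by
    rw [cj_mul]; congr 1; group
  show cj g Q = Q
  rw [h3, h2]
  have h4 : cj a (cj a⁻¹ Q) = Q := cj_cj_inv a Q
  rw [h1] at h4
  exact h4

/-- A weakly closed subgroup is the only conjugate of itself in any `p`-group containing it. -/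
theorem IsWeaklyClosedSubgroup.eq_of_le {Q : Subgroup H} (h : IsWeaklyClosedSubgroup p Q) {R : Subgroup H}
    (hR : IsPGroup p ↥R) (hQR : Q ≤ R) {g : H} (hg : cj g Q ≤ R) : cj g Q = Q := by
  obtain ⟨T, hT⟩ := h
  obtain ⟨T', hT'⟩ := hR.exists_le_sylow
  exact (IsWeaklyClosed.of_sylow hT T' (hQR.trans hT')).2 g (hg.trans hT')

theorem IsWeaklyClosedSubgroup.normalizer_le {Q : Subgroup H} (h : IsWeaklyClosedSubgroup p Q)
    {R : Subgroup H} (hR : IsPGroup p ↥R) (hQR : Q ≤ R) :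
    Subgroup.normalizer (R : Set H) ≤ Subgroup.normalizer (Q : Set H) := by
  intro n hn
  apply mem_normalizer_of_cj_eq
  apply IsWeaklyClosedSubgroup.eq_of_le h hR hQR
  have := cj_mono n hQR
  rwa [cj_eq_of_mem_normalizer hn] at this

theorem isWeaklyClosedSubgroup_of_normalizer_le {Q : Subgroup H} (hQp : IsPGroup p ↥Q)
    (h : ∀ R : Subgroup H, IsPGroup p ↥R → Q ≤ R →
      Subgroup.normalizer (R : Set H) ≤ Subgroup.normalizer (Q : Set H)) :
    IsWeaklyClosedSubgroup p Q := by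
  obtain ⟨T, hT⟩ := hQp.exists_le_sylow
  refine ⟨T, hT, ?_⟩
  intro g hg
  have hN := h T T.isPGroup' hT
  have hA : (T : Subgroup H) ≤ Subgroup.normalizer (Q : Set H) := Subgroup.le_normalizer.trans hN
  have hB : (T : Subgroup H) ≤ Subgroup.normalizer ((cj g Q : Subgroup H) : Set H) := by
    rw [normalizer_cj, ← cj_cj_inv g (T : Subgroup H)]
    apply cj_mono
    have hQ' : Q ≤ cj g⁻¹ (T : Subgroup H) := (cj_le_iff g Q _).mp hg
    exact Subgroup.le_normalizer.trans (h _ (isPGroup_cj g⁻¹ T.isPGroup') hQ')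
  obtain ⟨n, hn, hne⟩ := exists_normalizer_conj T Q g hA hB
  show cj g Q = Q
  rw [← hne]
  exact cj_eq_of_mem_normalizer (hN hn)

/-- Key step: conjugates of `Q` in a common `p`-group are equal, if mutually normalizing conjugates are. -/
theorem conj_eq_of_mutual {Q : Subgroup H} (hQp : IsPGroup p ↥Q)
    (hb : ∀ g : H, ⁅Q, cj g Q⁆ ≤ Q ⊓ cj g Q → cj g Q = Q) :
    ∀ n : ℕ, ∀ (R : Subgroup H), IsPGroup p ↥R → Nat.card ↥R ≤ n → ∀ a b : H,
      cj a Q ≤ R → cj b Q ≤ R → cj a Q = cj b Q := by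
  intro n
  induction n with
  | zero =>
    intro R _ hcard
    exact absurd hcard (by have := Nat.card_pos (α := ↥R); omega)
  | succ n ih =>
    intro R hR hcard a b ha hb'
    by_cases hn : R ≤ Subgroup.normalizer ((cj a Q : Subgroup H) : Set H) ∧
        R ≤ Subgroup.normalizer ((cj b Q : Subgroup H) : Set H)
    · obtain ⟨hn1, hn2⟩ := hn
      -- mutually normalizing
      have h1 : ⁅cj a Q, cj b Q⁆ ≤ cj a Q :=
        Subgroup.le_normalizer_iff_commutator_le_left.mp (hb'.trans hn1)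
      have h2 : ⁅cj a Q, cj b Q⁆ ≤ cj b Q :=
        Subgroup.le_normalizer_iff_commutator_le_right.mp (ha.trans hn2)
      have h3 : ⁅Q, cj (a⁻¹ * b) Q⁆ ≤ Q ⊓ cj (a⁻¹ * b) Q := by
        have e1 : cj a⁻¹ ⁅cj a Q, cj b Q⁆ = ⁅Q, cj (a⁻¹ * b) Q⁆ := by
          unfold cj
          rw [Subgroup.map_commutator]
          have := cj_inv_cj a Q
          have := cj_mul a⁻¹ b Q
          unfold cj at *
          simp_all
        rw [← e1]
        apply le_inf
        · have := cj_mono a⁻¹ h1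
          rwa [cj_inv_cj] at this
        · have := cj_mono a⁻¹ h2
          rwa [cj_mul] at this
      have h4 := hb _ h3
      have h5 : cj b Q = cj a (cj (a⁻¹ * b) Q) := by
        rw [cj_mul]; congr 1; group
      rw [h5, h4]
    · exfalso
      -- WLOG R does not normalize some conjugate c Q ≤ R
      have key : ∀ c : H, cj c Q ≤ R → ¬ R ≤ Subgroup.normalizer ((cj c Q : Subgroup H) : Set H) → False := by
        intro c hc hnc
        have hMR : R ⊓ Subgroup.normalizer ((cj c Q : Subgroup H) : Set H) ≤ R := inf_le_left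
        have hne : R ⊓ Subgroup.normalizer ((cj c Q : Subgroup H) : Set H) ≠ R := by
          intro he
          exact hnc (he ▸ inf_le_right)
        obtain ⟨x, hxR, hxM, hxe⟩ := exists_mem_normalizer_not_mem hR hMR hne
        have hQM : cj c Q ≤ R ⊓ Subgroup.normalizer ((cj c Q : Subgroup H) : Set H) :=
          le_inf hc Subgroup.le_normalizer
        have hxQM : cj (x * c) Q ≤ R ⊓ Subgroup.normalizer ((cj c Q : Subgroup H) : Set H) := by
          have := cj_mono x hQM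
          rwa [hxe, cj_mul] at this
        have hlt : Nat.card ↥(R ⊓ Subgroup.normalizer ((cj c Q : Subgroup H) : Set H)) < Nat.card ↥R := by
          apply lt_of_le_of_ne (Subgroup.card_le_of_le hMR)
          intro hcard'
          exact hne (Subgroup.eq_of_le_of_card_ge hMR hcard'.ge)
        have := ih _ (hR.to_le hMR) (by omega) c (x * c) hQM hxQM
        apply hxM
        refine ⟨hxR, ?_⟩
        apply mem_normalizer_of_cj_eq
        rw [cj_mul, ← this]
      by_cases hn1 : R ≤ Subgroup.normalizer ((cj a Q : Subgroup H) : Set H)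
      · exact key b hb' (fun h => hn ⟨hn1, h⟩)
      · exact key a ha hn1

theorem isWeaklyClosedSubgroup_of_mutual {Q : Subgroup H} (hQp : IsPGroup p ↥Q)
    (hb : ∀ g : H, ⁅Q, cj g Q⁆ ≤ Q ⊓ cj g Q → cj g Q = Q) : IsWeaklyClosedSubgroup p Q := by
  obtain ⟨T, hT⟩ := hQp.exists_le_sylow
  refine ⟨T, hT, ?_⟩
  intro g hg
  have := conj_eq_of_mutual hQp hb _ T T.isPGroup' le_rfl g 1 hg (by rw [cj_one]; exact hT)
  show cj g Q = Q
  rw [this, cj_one]

theorem IsWeaklyClosedSubgroup.eq_of_mutual {Q : Subgroup H} (hQp : IsPGroup p ↥Q)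
    (h : IsWeaklyClosedSubgroup p Q) (g : H) (hg : ⁅Q, cj g Q⁆ ≤ Q ⊓ cj g Q) : cj g Q = Q := by
  have h1 : cj g Q ≤ Subgroup.normalizer (Q : Set H) :=
    Subgroup.le_normalizer_iff_commutator_le_left.mpr (hg.trans inf_le_left)
  have hR : IsPGroup p ↥(Q ⊔ cj g Q) := IsPGroup.to_sup_of_normal_left' hQp (isPGroup_cj g hQp) h1
  exact IsWeaklyClosedSubgroup.eq_of_le h hR le_sup_left le_sup_right

theorem weaklyClosedSubgroup_equiv (Q : Subgroup H) (hQp : IsPGroup p ↥Q) :
    (IsWeaklyClosedSubgroup p Q ↔ ∀ g : H, ⁅Q, Q.map (MulAut.conj g).toMonoidHom⁆ ≤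
        Q ⊓ Q.map (MulAut.conj g).toMonoidHom → Q.map (MulAut.conj g).toMonoidHom = Q) ∧
    (IsWeaklyClosedSubgroup p Q ↔ ∀ R : Subgroup H, IsPGroup p ↥R → Q ≤ R →
      Subgroup.normalizer (R : Set H) ≤ Subgroup.normalizer (Q : Set H)) :=
  ⟨⟨fun h g hg => IsWeaklyClosedSubgroup.eq_of_mutual hQp h g hg, fun h => isWeaklyClosedSubgroup_of_mutual hQp h⟩,
   ⟨fun h R hR hQR => IsWeaklyClosedSubgroup.normalizer_le h hR hQR, fun h => isWeaklyClosedSubgroup_of_normalizer_le hQp h⟩⟩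

end WC

end Cfsg.Agent.Lib.Helper7
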