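import Mathlib
import Cfsg.Prelude.Def_LocalStructure
import Cfsg.Agent.Lib.Lead.Conj
import Cfsg.Agent.Lib.Helper7.WeaklyClosed
import Cfsg.Agent.Lib.Helper7.StrEmb3
import Cfsg.Agent.H1.PResidual

set_option autoImplicit false

namespace Cfsg.Agent.Lib.Helper7

open Cfsg Cfsg.Agent.Lib.Lead.Conj
open scoped Pointwise

variable {H : Type*} [Group H]

theorem map_cj {K : Type*} [Group K] (f : H →* K) (g : H) (Q : Subgroup H) :
    (cj g Q).map f = cj (f g) (Q.map f) := by
  unfold cj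
  rw [Subgroup.map_map, Subgroup.map_map]
  congr 1
  ext x
  simp [MulAut.conj_apply]

theorem map_subtype_cj (K : Subgroup H) (k : ↥K) (A : Subgroup ↥K) :
    (cj k A).map K.subtype = cj (k : H) (A.map K.subtype) := map_cj K.subtype k A

variable [Finite H] {p : ℕ} [Fact p.Prime]

/-- `H`-conjugates of a weakly closed subgroup inside `K ≥ Q` are `K`-conjugates. -/
theorem IsWeaklyClosedSubgroup.exists_conj_of_le {Q : Subgroup H} (hQp : IsPGroup p ↥Q)
    (hwc : IsWeaklyClosedSubgroup p Q) {K : Subgroup H} (hQK : Q ≤ K) (g : H) (hg : cj g Q ≤ K) :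
    ∃ k ∈ K, cj g Q = cj k Q := by
  obtain ⟨R₁, hR₁, hQR₁⟩ := exists_isSylowIn_ge hQp hQK
  obtain ⟨R₂, hR₂, hQR₂⟩ := exists_isSylowIn_ge (isPGroup_cj g hQp) hg
  obtain ⟨k, hk, hke⟩ := hR₁.conj hR₂
  refine ⟨k, hk, ?_⟩
  have h1 : cj (k⁻¹ * g) Q ≤ R₁ := by
    rw [← cj_mul, cj_le_iff, inv_inv]
    exact hQR₂.trans hke.le
  have h2 := IsWeaklyClosedSubgroup.eq_of_le hwc hR₁.isPGroup hQR₁ h1
  have h3 : cj g Q = cj k (cj (k⁻¹ * g) Q) := by
    rw [cj_mul]; congr 1; group
  rw [h3, h2]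

theorem weaklyClosed_overgroups_quotients (Q : Subgroup H) (hQp : IsPGroup p ↥Q)
    (hwc : IsWeaklyClosedSubgroup p Q) (K : Subgroup H) (hQK : Q ≤ K) (N' : Subgroup H) [hN' : N'.Normal] :
    IsWeaklyClosedSubgroup p (Q.subgroupOf K) ∧
    (∀ g : H, Q.map (MulAut.conj g).toMonoidHom ≤ K →
      ∃ k ∈ K, Q.map (MulAut.conj g).toMonoidHom = Q.map (MulAut.conj k).toMonoidHom) ∧
    IsParabolic p ((Subgroup.normalizer (Q : Set H)).subgroupOf K) ∧
    (N' ⊓ Subgroup.normalizer (Q : Set H)) ⊔ (pResidual p ↥N').map N'.subtype = N' ∧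
    IsWeaklyClosedSubgroup p (Q.map (QuotientGroup.mk' N')) := by
  obtain ⟨TK, hTK⟩ := (hQp.comap_subtype (K := K)).exists_le_sylow
  have hRp : IsPGroup p ↥((TK : Subgroup ↥K).map K.subtype) := TK.isPGroup'.map _
  have hQR : Q ≤ (TK : Subgroup ↥K).map K.subtype := by
    intro x hx
    exact ⟨⟨x, hQK hx⟩, hTK (Subgroup.mem_subgroupOf.mpr hx), rfl⟩
  have hQ'map : (Q.subgroupOf K).map K.subtype = Q := Subgroup.map_subgroupOf_eq_of_le hQK
  refine ⟨⟨TK, hTK, ?_⟩, fun g hg => IsWeaklyClosedSubgroup.exists_conj_of_le hQp hwc hQK g hg,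
    ⟨TK, ?_⟩, ?_, ?_⟩
  · intro k hk
    apply Subgroup.map_injective K.subtype_injective
    show (cj k (Q.subgroupOf K)).map K.subtype = _
    rw [map_subtype_cj, hQ'map]
    apply IsWeaklyClosedSubgroup.eq_of_le hwc hRp hQR
    rw [← hQ'map, ← map_subtype_cj]
    exact Subgroup.map_mono hk
  · intro t ht
    rw [Subgroup.mem_subgroupOf]
    have h1 : (t : H) ∈ (TK : Subgroup ↥K).map K.subtype := ⟨t, ht, rfl⟩
    exact IsWeaklyClosedSubgroup.normalizer_le hwc hRp hQR (Subgroup.le_normalizer h1)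
  · obtain ⟨T, hT⟩ := hQp.exists_le_sylow
    have hTN : (T : Subgroup H) ≤ Subgroup.normalizer (Q : Set H) :=
      Subgroup.le_normalizer.trans (IsWeaklyClosedSubgroup.normalizer_le hwc T.isPGroup' hT)
    have hS : IsSylowIn p ((T : Subgroup H) ⊓ N') N' :=
      (IsSylowIn.of_sylow_top T).inf_normal N' le_top
        (by rw [Subgroup.normalizer_eq_top_iff.mpr hN'])
    obtain ⟨R, hR⟩ := hS.exists_sylow
    have h1 := Cfsg.Agent.H1.pResidual_sup_sylow R
    have e1 : (⊤ : Subgroup ↥N').map N'.subtype = N' := by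
      rw [← MonoidHom.range_eq_map, Subgroup.range_subtype]
    have e2 : (pResidual p ↥N' ⊔ (R : Subgroup ↥N')).map N'.subtype =
        (pResidual p ↥N').map N'.subtype ⊔ (R : Subgroup ↥N').map N'.subtype := Subgroup.map_sup _ _ _
    have e3 : (R : Subgroup ↥N').map N'.subtype = (T : Subgroup H) ⊓ N' := by
      rw [hR, Subgroup.subgroupOf_map_subtype, inf_assoc, inf_idem]
    rw [h1, e1, e3] at e2
    apply le_antisymm
    · exact sup_le inf_le_left (Subgroup.map_subtype_le _)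
    · have h3 : (T : Subgroup H) ⊓ N' ≤ N' ⊓ Subgroup.normalizer (Q : Set H) :=
        le_inf inf_le_right (inf_le_left.trans hTN)
      calc N' = (pResidual p ↥N').map N'.subtype ⊔ (T : Subgroup H) ⊓ N' := e2
        _ ≤ (pResidual p ↥N').map N'.subtype ⊔ N' ⊓ Subgroup.normalizer (Q : Set H) := sup_le_sup_left h3 _
        _ = _ := sup_comm _ _
  · obtain ⟨T, hT⟩ := hQp.exists_le_sylow
    have hsurj : Function.Surjective (QuotientGroup.mk' N') := QuotientGroup.mk'_surjective N'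
    refine ⟨T.mapSurjective hsurj, ?_, ?_⟩
    · rw [Sylow.coe_mapSurjective]; exact Subgroup.map_mono hT
    · intro x hx
      obtain ⟨g, rfl⟩ := hsurj x
      rw [Sylow.coe_mapSurjective] at hx
      have hx' : (cj g Q).map (QuotientGroup.mk' N') ≤ (T : Subgroup H).map (QuotientGroup.mk' N') := by
        rw [map_cj]; exact hx
      have h1 : cj g Q ≤ N' ⊔ (T : Subgroup H) := by
        have := (Subgroup.map_le_iff_le_comap.mp hx')
        rw [Subgroup.comap_map_eq, QuotientGroup.ker_mk', sup_comm] at this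
        exact this
      obtain ⟨n, hn, hn'⟩ := exists_conj_le_of_le_sup T le_rfl N' (cj g Q) (isPGroup_cj g hQp) h1
      have h2 : cj (n⁻¹ * g) Q ≤ (T : Subgroup H) := by
        rw [← cj_mul]
        rintro _ ⟨z, hz, rfl⟩
        have := hn' z hz
        simpa [MulAut.conj_apply] using this
      have h3 := IsWeaklyClosedSubgroup.eq_of_le hwc T.isPGroup' hT h2
      show cj (QuotientGroup.mk' N' g) (Q.map (QuotientGroup.mk' N')) = _
      have h4 : QuotientGroup.mk' N' g = QuotientGroup.mk' N' (n⁻¹ * g) := by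
        rw [map_mul]
        have : QuotientGroup.mk' N' n⁻¹ = 1 := by
          rw [QuotientGroup.mk'_apply, QuotientGroup.eq_one_iff]
          exact N'.inv_mem hn
        rw [this, one_mul]
      rw [h4, ← map_cj, h3]

end Cfsg.Agent.Lib.Helper7
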