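import Mathlib
import Cfsg.Prelude.Def_LocalStructure
import Cfsg.Agent.Lib.Helper7.WeaklyClosed2
import Cfsg.Agent.Lib.Helper7.PIrreducible3
import Cfsg.Agent.H1.PResidual

set_option autoImplicit false

namespace Cfsg.Agent.Lib.Helper7

open Cfsg
open scoped commutatorElement

variable {H : Type*} [Group H] [Finite H]

theorem card_lt_card_of_lt {B D : Subgroup H} (h : B < D) : Nat.card ↥B < Nat.card ↥D := by
  by_contra hge
  push Not at hge
  exact h.ne (Subgroup.eq_of_le_of_card_ge h.le hge)

/-- In a finite group satisfying the normalizer condition every subgroup is subnormal. -/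
theorem isSubnormal_of_normalizerCondition (hNC : NormalizerCondition H) (B : Subgroup H) :
    B.IsSubnormal := by
  induction hn : Nat.card H - Nat.card ↥B using Nat.strong_induction_on generalizing B with
  | _ n ih =>
    by_cases htop : B = ⊤
    · rw [htop]; exact Subgroup.IsSubnormal.top
    · have hlt : B < Subgroup.normalizer (B : Set H) := hNC B (lt_top_iff_ne_top.mpr htop)
      have hcard := card_lt_card_of_lt hlt
      have hle : Nat.card ↥(Subgroup.normalizer (B : Set H)) ≤ Nat.card H :=
        Subgroup.card_le_card_group _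
      have hsn : (Subgroup.normalizer (B : Set H)).IsSubnormal :=
        ih (Nat.card H - Nat.card ↥(Subgroup.normalizer (B : Set H))) (by omega) _ rfl
      exact Subgroup.IsSubnormal.step B _ hlt.le hsn Subgroup.normal_in_normalizer

theorem isSubnormal_of_isPGroup {p : ℕ} [Fact p.Prime] (hP : IsPGroup p H) (B : Subgroup H) :
    B.IsSubnormal := by
  haveI : Group.IsNilpotent H := hP.isNilpotent
  exact isSubnormal_of_normalizerCondition Group.normalizerCondition_of_isNilpotent B

theorem sInf_mem_of_nonempty_of_inf_closed (S : Set (Subgroup H)) (hne : S.Nonempty)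
    (hinf : ∀ A ∈ S, ∀ B ∈ S, A ⊓ B ∈ S) : sInf S ∈ S := by
  haveI : Nonempty S := hne.to_subtype
  obtain ⟨M, hM⟩ := Finite.exists_min (fun A : S => Nat.card ↥A.1)
  have hle : ∀ A ∈ S, M.1 ≤ A := by
    intro A hA
    have h1 := hM ⟨M.1 ⊓ A, hinf _ M.2 _ hA⟩
    have h2 : M.1 ⊓ A = M.1 := Subgroup.eq_of_le_of_card_ge inf_le_left h1
    exact h2.ge.trans inf_le_right
  have : sInf S = M.1 := le_antisymm (sInf_le M.2) (le_sInf hle)
  rw [this]; exact M.2

theorem subnormalClosure_mem (A : Subgroup H) :
    A ≤ subnormalClosure A ∧ (subnormalClosure A).IsSubnormal :=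
  sInf_mem_of_nonempty_of_inf_closed {K : Subgroup H | A ≤ K ∧ K.IsSubnormal}
    ⟨⊤, le_top, Subgroup.IsSubnormal.top⟩
    (fun B hB D hD => ⟨le_inf hB.1 hD.1, hB.2.inf hD.2⟩)

omit [Finite H] in
theorem subnormalClosure_le {A K : Subgroup H} (hAK : A ≤ K) (hK : K.IsSubnormal) :
    subnormalClosure A ≤ K := sInf_le ⟨hAK, hK⟩

omit [Finite H] in
theorem isSubnormal_cj {S : Subgroup H} (hS : S.IsSubnormal) (g : H) : (cj g S).IsSubnormal :=
  hS.map (MulAut.conj g).surjective

theorem normalizer_le_normalizer_subnormalClosure (A : Subgroup H) :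
    Subgroup.normalizer (A : Set H) ≤ Subgroup.normalizer ((subnormalClosure A : Subgroup H) : Set H) := by
  intro g hg
  apply mem_normalizer_of_cj_le
  apply le_sInf
  rintro S ⟨hAS, hS⟩
  rw [cj_le_iff]
  apply subnormalClosure_le _ (isSubnormal_cj hS g⁻¹)
  have : cj g⁻¹ A = A := cj_eq_of_mem_normalizer (Subgroup.inv_mem _ hg)
  rw [← this]
  exact cj_mono _ hAS

omit [Finite H] in
/-- A subnormal subgroup of the subnormal closure `K` of `A` containing `A` is all of `K`. -/
theorem eq_top_of_isSubnormal_of_le {A K : Subgroup H} (hAK : A ≤ K) (hKsn : K.IsSubnormal)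
    (hmin : ∀ S : Subgroup H, A ≤ S → S.IsSubnormal → K ≤ S) (B : Subgroup ↥K)
    (hB : B.IsSubnormal) (hAB : A.subgroupOf K ≤ B) : B = ⊤ := by
  have h1 : (B.map K.subtype).IsSubnormal := by
    apply Subgroup.IsSubnormal.trans (Subgroup.map_subtype_le B) _ hKsn
    have : (B.map K.subtype).subgroupOf K = B :=
      Subgroup.comap_map_eq_self_of_injective K.subtype_injective B
    rw [this]; exact hB
  have h2 : A ≤ B.map K.subtype := by
    have := Subgroup.map_mono (f := K.subtype) hAB
    rwa [Subgroup.map_subgroupOf_eq_of_le hAK] at this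
  have h3 : K ≤ B.map K.subtype := hmin _ h2 h1
  rw [eq_top_iff]
  intro x _
  obtain ⟨y, hy, hyx⟩ := h3 x.2
  have : y = x := Subtype.ext hyx
  rw [← this]; exact hy

theorem subnormal_closure_properties {p : ℕ} [Fact p.Prime] (A : Subgroup H) (K : Subgroup H)
    (hK : K = subnormalClosure A) :
    (Subgroup.normalClosure ((A.subgroupOf K : Subgroup ↥K) : Set ↥K)).map K.subtype = K ∧
    Subgroup.normalizer (A : Set H) ≤ Subgroup.normalizer (K : Set H) ∧
    A ⊔ (pResidual p ↥K).map K.subtype = K ∧
    (IsPGroup p ↥A → ⁅(pResidual p ↥K).map K.subtype, A⁆ = (pResidual p ↥K).map K.subtype) := by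
  have hAK : A ≤ K := by rw [hK]; exact (subnormalClosure_mem A).1
  have hKsn : K.IsSubnormal := by rw [hK]; exact (subnormalClosure_mem A).2
  have hmin : ∀ S : Subgroup H, A ≤ S → S.IsSubnormal → K ≤ S := by
    intro S h1 h2; rw [hK]; exact subnormalClosure_le h1 h2
  have htop : (⊤ : Subgroup ↥K).map K.subtype = K := by
    rw [← MonoidHom.range_eq_map, Subgroup.range_subtype]
  set A' := A.subgroupOf K with hA'
  have hA'map : A'.map K.subtype = A := Subgroup.map_subgroupOf_eq_of_le hAK
  set R := pResidual p ↥K with hR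
  haveI hRn : R.Normal := Cfsg.Agent.Lib.Lead.PResidual.normal p ↥K
  -- (3) internal
  have h3 : A' ⊔ R = ⊤ := by
    apply eq_top_of_isSubnormal_of_le hAK hKsn hmin _ _ le_sup_left
    have hq : IsPGroup p (↥K ⧸ R) := Cfsg.Agent.H1.isPGroup_quotient_pResidual p
    have h1 : ((A' ⊔ R).map (QuotientGroup.mk' R)).IsSubnormal := isSubnormal_of_isPGroup hq _
    have h2 := h1.comap (QuotientGroup.mk' R)
    rw [Subgroup.comap_map_eq, QuotientGroup.ker_mk', sup_assoc, sup_idem] at h2
    exact h2
  refine ⟨?_, ?_, ?_, ?_⟩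
  · have : Subgroup.normalClosure ((A' : Subgroup ↥K) : Set ↥K) = ⊤ :=
      eq_top_of_isSubnormal_of_le hAK hKsn hmin _
        (Subgroup.normalClosure_normal.isSubnormal) Subgroup.le_normalClosure
    rw [this, htop]
  · rw [hK]; exact normalizer_le_normalizer_subnormalClosure A
  · have := congrArg (Subgroup.map K.subtype) h3
    rw [Subgroup.map_sup, hA'map, htop] at this
    exact this
  · intro hAp
    have hA'p : IsPGroup p ↥A' := hAp.comap_subtype
    set R₁ := ⁅R, A'⁆ with hR₁
    have hR₁R : R₁ ≤ R := Subgroup.commutator_le_left R A'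
    haveI hR₁n : R₁.Normal := by
      rw [← Subgroup.normalizer_eq_top_iff, eq_top_iff, ← h3]
      exact sup_le (Subgroup.normalizer_commutator_ge_right R A')
        (Subgroup.normalizer_commutator_ge_left R A')
    have hn : (A' ⊔ R₁).Normal := by
      rw [← Subgroup.normalizer_eq_top_iff, eq_top_iff, ← h3]
      apply sup_le
      · exact (le_inf Subgroup.le_normalizer (Subgroup.normalizer_commutator_ge_right R A')).trans
          (Subgroup.normalizer_inf_normalizer_le_normalizer_sup A' R₁)
      · intro r hr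
        apply mem_normalizer_of_cj_le
        show Subgroup.map _ (A' ⊔ R₁) ≤ A' ⊔ R₁
        rw [Subgroup.map_sup]
        apply sup_le
        · rintro _ ⟨a, ha, rfl⟩
          show r * a * r⁻¹ ∈ A' ⊔ R₁
          have e : r * a * r⁻¹ = ⁅r, a⁆ * a := by rw [commutatorElement_def]; group
          rw [e]
          exact Subgroup.mul_mem _
            (Subgroup.mem_sup_right (Subgroup.commutator_mem_commutator hr ha))
            (Subgroup.mem_sup_left ha)
        · rintro _ ⟨x, hx, rfl⟩
          exact Subgroup.mem_sup_right (hR₁n.conj_mem x hx r)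
    have h4 : A' ⊔ R₁ = ⊤ :=
      eq_top_of_isSubnormal_of_le hAK hKsn hmin _ hn.isSubnormal le_sup_left
    have h5 : R ≤ R₁ := pResidual_le_of_sup_eq_top hA'p R₁ h4
    have h6 : ⁅R, A'⁆ = R := le_antisymm hR₁R h5
    have := congrArg (Subgroup.map K.subtype) h6
    rw [Subgroup.map_commutator, hA'map] at this
    exact this

end Cfsg.Agent.Lib.Helper7
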