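import Mathlib
import Cfsg.Prelude.Def_FusionSystem
import Cfsg.Agent.Lib.Helper7.GroupFusion

set_option autoImplicit false

namespace Cfsg.Agent.Lib.Helper7

open Cfsg Cfsg.FusionSystem

section

variable {Ω : Type*} [Group Ω]

theorem mem_autInducedBy_iff (K P : Subgroup Ω) (α : MulAut P) :
    α ∈ autInducedBy K P ↔ ∃ g ∈ K, ∀ x : P, ((α x : P) : Ω) = g * (x : Ω) * g⁻¹ := by
  constructor
  · intro h
    induction h using Subgroup.closure_induction with
    | mem a ha => exact ha
    | one => exact ⟨1, K.one_mem, fun x => by simp⟩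
    | mul a b _ _ iha ihb =>
      obtain ⟨g, hg, hga⟩ := iha
      obtain ⟨k, hk, hkb⟩ := ihb
      refine ⟨g * k, K.mul_mem hg hk, fun x => ?_⟩
      rw [MulAut.mul_apply, hga, hkb]
      group
    | inv a _ iha =>
      obtain ⟨g, hg, hga⟩ := iha
      refine ⟨g⁻¹, K.inv_mem hg, fun x => ?_⟩
      have := hga (a⁻¹ x)
      rw [MulAut.apply_inv_self] at this
      rw [this]
      group
  · intro h
    exact Subgroup.subset_closure h

theorem autInducedBy_eq_map (K P : Subgroup Ω) :
    autInducedBy K P =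
      ((K ⊓ Subgroup.normalizer (P : Set Ω)).subgroupOf (Subgroup.normalizer (P : Set Ω))).map
        P.normalizerMonoidHom := by
  ext α
  rw [mem_autInducedBy_iff]
  constructor
  · rintro ⟨g, hg, hα⟩
    have hgN : g ∈ Subgroup.normalizer (P : Set Ω) := by
      rw [Subgroup.mem_normalizer_iff]
      intro x
      constructor
      · intro hx
        rw [← hα ⟨x, hx⟩]
        exact (α ⟨x, hx⟩).2
      · intro hx
        have h1 := hα (α⁻¹ ⟨g * x * g⁻¹, hx⟩)
        rw [MulAut.apply_inv_self] at h1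
        have h2 : x = ((α⁻¹ ⟨g * x * g⁻¹, hx⟩ : P) : Ω) := by
          have : g * x * g⁻¹ = g * ((α⁻¹ ⟨g * x * g⁻¹, hx⟩ : P) : Ω) * g⁻¹ := h1
          exact mul_left_cancel (mul_right_cancel this)
        rw [h2]
        exact (α⁻¹ ⟨g * x * g⁻¹, hx⟩).2
    refine ⟨⟨g, hgN⟩, Subgroup.mem_subgroupOf.mpr ⟨hg, hgN⟩, ?_⟩
    ext x
    rw [hα]
    rfl
  · rintro ⟨n, hn, rfl⟩
    exact ⟨n, (Subgroup.mem_subgroupOf.mp hn).1, fun x => rfl⟩

end

/-- The image of a Sylow subgroup under a homomorphism is a Sylow subgroup of the range. -/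
theorem isSylowIn_map_range {N A : Type*} [Group N] [Finite N] [Group A] {p : ℕ} [Fact p.Prime]
    (f : N →* A) (R : Sylow p N) : IsSylowIn p ((R : Subgroup N).map f) f.range := by
  have hsurj : Function.Surjective f.rangeRestrict := f.rangeRestrict_surjective
  have : Finite ↥f.range := Finite.of_surjective _ hsurj
  have := IsSylowIn.of_sylow (R.mapSurjective hsurj)
  rw [Sylow.coe_mapSurjective, Subgroup.map_map, MonoidHom.subtype_comp_rangeRestrict] at this
  exact this

end Cfsg.Agent.Lib.Helper7
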