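import Mathlib
import Cfsg.Prelude.Def_FusionSystem
import Cfsg.Agent.Lib.Helper7.GroupFusion
import Cfsg.Agent.Lib.Helper7.AutInduced

set_option autoImplicit false

namespace Cfsg.Agent.Lib.Helper7

open Cfsg Cfsg.FusionSystem
open scoped Pointwise

theorem map_conj_mul {G : Type*} [Group G] (P : Subgroup G) (h g : G) :
    (P.map (MulAut.conj g).toMonoidHom).map (MulAut.conj h).toMonoidHom =
      P.map (MulAut.conj (h * g)).toMonoidHom := by
  rw [Subgroup.map_map]
  congr 1
  ext x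
  simp [MulAut.conj_apply, mul_assoc]

theorem gfs_exists_conj_isSylowIn_normalizer {G : Type*} [Group G] [Finite G] (p : ℕ) [Fact p.Prime]
    (S : Sylow p G) (P : Subgroup G) (hP : P ≤ S) :
    ∃ g : G, P.map (MulAut.conj g).toMonoidHom ≤ S ∧
      IsSylowIn p (normalizerIn (S : Subgroup G) (P.map (MulAut.conj g).toMonoidHom))
        (Subgroup.normalizer ((P.map (MulAut.conj g).toMonoidHom : Subgroup G) : Set G)) := by
  let A := {g : G // P.map (MulAut.conj g).toMonoidHom ≤ (S : Subgroup G)}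
  have hne : Nonempty A := ⟨⟨1, by
    rintro _ ⟨x, hx, rfl⟩
    simpa using hP hx⟩⟩
  obtain ⟨g₀, hmax⟩ := Finite.exists_max
    (fun g : A => Nat.card ↥(normalizerIn (S : Subgroup G) (P.map (MulAut.conj g.1).toMonoidHom)))
  refine ⟨g₀.1, g₀.2, ?_⟩
  rw [← gfs_isFullyNormalized_iff p S _ g₀.2]
  refine ⟨g₀.2, fun Q hQ => ?_⟩
  obtain ⟨h, rfl, hQS⟩ := (gfs_isConj_iff _ _ _ g₀.2).mp hQ
  rw [map_conj_mul] at hQS ⊢
  exact hmax ⟨h * g₀.1, hQS⟩

theorem normalizer_le_normalizer_centralizer {G : Type*} [Group G] (Q : Subgroup G) :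
    Subgroup.normalizer (Q : Set G) ≤
      Subgroup.normalizer ((Subgroup.centralizer (Q : Set G) : Subgroup G) : Set G) := by
  intro n hn
  have key : ∀ m ∈ Subgroup.normalizer (Q : Set G), ∀ c ∈ Subgroup.centralizer (Q : Set G),
      m * c * m⁻¹ ∈ Subgroup.centralizer (Q : Set G) := by
    intro m hm c hc
    rw [Subgroup.mem_centralizer_iff]
    intro y hy
    have hy' : m⁻¹ * y * m ∈ Q := by
      have := (Subgroup.mem_normalizer_iff.mp (Subgroup.inv_mem _ hm) y).mp hy
      simpa using this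
    have := (Subgroup.mem_centralizer_iff.mp hc) _ hy'
    calc y * (m * c * m⁻¹) = m * ((m⁻¹ * y * m) * c) * m⁻¹ := by group
      _ = m * (c * (m⁻¹ * y * m)) * m⁻¹ := by rw [this]
      _ = m * c * m⁻¹ * y := by group
  rw [Subgroup.mem_normalizer_iff]
  intro c
  constructor
  · exact key n hn c
  · intro h
    have := key n⁻¹ (Subgroup.inv_mem _ hn) _ h
    simpa [mul_assoc] using this

theorem gfs_isSylowIn_centralizer_of_normalizer {G : Type*} [Group G] [Finite G] (p : ℕ) [Fact p.Prime]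
    (S Q : Subgroup G)
    (h : IsSylowIn p (normalizerIn S Q) (Subgroup.normalizer (Q : Set G))) :
    IsSylowIn p (centralizerIn S Q) (Subgroup.centralizer (Q : Set G)) := by
  have := h.inf_normal (Subgroup.centralizer (Q : Set G)) (Subgroup.centralizer_le_normalizer _)
    (normalizer_le_normalizer_centralizer Q)
  have e : normalizerIn S Q ⊓ Subgroup.centralizer (Q : Set G) = centralizerIn S Q := by
    show S ⊓ Subgroup.normalizer (Q : Set G) ⊓ Subgroup.centralizer (Q : Set G) = S ⊓ Subgroup.centralizer (Q : Set G)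
    rw [inf_assoc, inf_eq_right.mpr (Subgroup.centralizer_le_normalizer _)]
  rwa [e] at this

theorem gfs_isSylowIn_autInducedBy_of_normalizer {G : Type*} [Group G] [Finite G] (p : ℕ) [Fact p.Prime]
    (S Q : Subgroup G)
    (h : IsSylowIn p (normalizerIn S Q) (Subgroup.normalizer (Q : Set G))) :
    IsSylowIn p (autInducedBy S Q) (autInducedBy ⊤ Q) := by
  obtain ⟨R, hR⟩ := h.exists_sylow
  have h1 := isSylowIn_map_range Q.normalizerMonoidHom R
  have e1 : autInducedBy ⊤ Q = Q.normalizerMonoidHom.range := by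
    rw [autInducedBy_eq_map, MonoidHom.range_eq_map]
    congr 1
    ext x
    simp
  have e2 : autInducedBy S Q = (R : Subgroup _).map Q.normalizerMonoidHom := by
    rw [autInducedBy_eq_map, hR]
    rfl
  rw [e1, e2]
  exact h1

/-- A Sylow subgroup of `K` lying in an intermediate subgroup `H` is a Sylow subgroup of `H`. -/
theorem IsSylowIn.of_le_of_le {G : Type*} [Group G] [Finite G] {p : ℕ} [Fact p.Prime] {P H K : Subgroup G}
    (h : IsSylowIn p P K) (hPH : P ≤ H) (hHK : H ≤ K) : IsSylowIn p P H := by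
  refine ⟨hPH, ?_⟩
  have hp : p.Prime := Fact.out
  rw [h.2]
  congr 1
  apply le_antisymm
  · have h1 : p ^ (Nat.card ↥K).factorization p ∣ Nat.card ↥H := by
      rw [← h.2]; exact Subgroup.card_dvd_of_le hPH
    exact (hp.pow_dvd_iff_le_factorization Nat.card_pos.ne').mp h1
  · have h2 : Nat.card ↥H ∣ Nat.card ↥K := Subgroup.card_dvd_of_le hHK
    exact (Nat.factorization_le_iff_dvd Nat.card_pos.ne' Nat.card_pos.ne').mpr h2 p

theorem gfs_extension_conj {G : Type*} [Group G] [Finite G] (p : ℕ) [Fact p.Prime] (S : Sylow p G)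
    (P Q : Subgroup G) (g : G)
    (hN : IsSylowIn p (normalizerIn (S : Subgroup G) Q) (Subgroup.normalizer (Q : Set G))) :
    ∃ h ∈ Subgroup.centralizer (Q : Set G),
      ((normalizerIn (S : Subgroup G) P) ⊓
        (normalizerIn (S : Subgroup G) Q ⊔ Subgroup.centralizer (Q : Set G)).comap
          (MulAut.conj g).toMonoidHom).map (MulAut.conj (h * g)).toMonoidHom ≤ S := by
  set C : Subgroup G := Subgroup.centralizer (Q : Set G) with hC
  set NS : Subgroup G := normalizerIn (S : Subgroup G) Q with hNS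
  set D : Subgroup G := (normalizerIn (S : Subgroup G) P) ⊓ (NS ⊔ C).comap (MulAut.conj g).toMonoidHom with hD
  have hNSn : NS ≤ Subgroup.normalizer (Q : Set G) := inf_le_right
  have hHK : NS ⊔ C ≤ Subgroup.normalizer (Q : Set G) :=
    sup_le hNSn (Subgroup.centralizer_le_normalizer _)
  have hsyl : IsSylowIn p NS (NS ⊔ C) := hN.of_le_of_le le_sup_left hHK
  have hDp : IsPGroup p ↥(D.map (MulAut.conj g).toMonoidHom) := by
    apply IsPGroup.map
    exact S.isPGroup'.to_le (inf_le_left.trans inf_le_left)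
  have hDH : D.map (MulAut.conj g).toMonoidHom ≤ NS ⊔ C := by
    rw [Subgroup.map_le_iff_le_comap]
    exact inf_le_right
  obtain ⟨T, hT, hDT⟩ := exists_isSylowIn_ge hDp hDH
  obtain ⟨a, ha, hTa⟩ := hsyl.conj hT
  have ha' : a ∈ ((C ⊔ NS : Subgroup G) : Set G) := by rw [sup_comm]; exact ha
  rw [Subgroup.coe_mul_of_right_le_normalizer_left C NS
    (hNSn.trans (normalizer_le_normalizer_centralizer Q))] at ha'
  obtain ⟨c, hc, s, hs, rfl⟩ := Set.mem_mul.mp ha'
  refine ⟨c⁻¹, Subgroup.inv_mem _ hc, ?_⟩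
  rintro _ ⟨x, hx, rfl⟩
  have h1 : g * x * g⁻¹ ∈ T := hDT ⟨x, hx, rfl⟩
  rw [hTa] at h1
  obtain ⟨y, hy, hyx⟩ := h1
  have h2 : (MulAut.conj (c⁻¹ * g)).toMonoidHom x = s * y * s⁻¹ := by
    simp only [MulEquiv.coe_toMonoidHom, MulAut.conj_apply] at hyx ⊢
    calc c⁻¹ * g * x * (c⁻¹ * g)⁻¹ = c⁻¹ * (g * x * g⁻¹) * c := by group
      _ = c⁻¹ * (c * s * y * (c * s)⁻¹) * c := by rw [hyx]
      _ = s * y * s⁻¹ := by group
  rw [h2]
  have : s * y * s⁻¹ ∈ NS := Subgroup.mul_mem _ (Subgroup.mul_mem _ hs hy) (Subgroup.inv_mem _ hs)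
  exact this.1

end Cfsg.Agent.Lib.Helper7
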