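import Mathlib
import Cfsg.Prelude.Def_LocalStructure
import Cfsg.Agent.Lib.Lead.Conj
import Cfsg.Agent.Lib.Helper7.WeaklyClosed2

set_option autoImplicit false

namespace Cfsg.Agent.Lib.Helper7

open Cfsg Cfsg.Agent.Lib.Lead.Conj
open scoped Pointwise

variable {H : Type*} [Group H] [Finite H] {p : ℕ} [Fact p.Prime]

omit [Fact p.Prime] in
theorem iSup_cj_normal (Q : Subgroup H) : (⨆ k : H, cj k Q).Normal := by
  rw [← Subgroup.normalizer_eq_top_iff, eq_top_iff]
  intro x _
  apply mem_normalizer_of_cj_le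
  unfold cj
  rw [Subgroup.map_iSup]
  apply iSup_le
  intro k
  have := cj_mul x k Q
  unfold cj at this
  rw [this]
  exact le_iSup (fun k : H => Q.map (MulAut.conj k).toMonoidHom) (x * k)

theorem IsWeaklyClosedSubgroup.cj_le_of_isSubnormal {Q : Subgroup H} (hQp : IsPGroup p ↥Q)
    (hwc : IsWeaklyClosedSubgroup p Q) {S : Subgroup H} (hS : S.IsSubnormal) :
    Q ≤ S → ∀ k : H, cj k Q ≤ S := by
  induction hS with
  | top => intro _ k; exact le_top
  | step A B h_le hSubn hN ih =>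
    intro hQA k
    have h1 : cj k Q ≤ B := ih (hQA.trans h_le) k
    obtain ⟨b, hb, hbe⟩ := IsWeaklyClosedSubgroup.exists_conj_of_le hQp hwc (hQA.trans h_le) k h1
    rw [hbe]
    have hBn : B ≤ Subgroup.normalizer (A : Set H) :=
      (Subgroup.normal_subgroupOf_iff_le_normalizer h_le).mp hN
    have := cj_mono b hQA
    rwa [cj_eq_of_mem_normalizer (hBn hb)] at this

theorem subnormalClosure_eq_iSup_cj {Q : Subgroup H} (hQp : IsPGroup p ↥Q)
    (hwc : IsWeaklyClosedSubgroup p Q) : subnormalClosure Q = ⨆ k : H, cj k Q := by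
  apply le_antisymm
  · apply sInf_le
    refine ⟨?_, (iSup_cj_normal Q).isSubnormal⟩
    have := le_iSup (fun k : H => cj k Q) 1
    simpa [cj_one] using this
  · apply le_sInf
    rintro S ⟨hQS, hS⟩
    apply iSup_le
    intro k
    exact IsWeaklyClosedSubgroup.cj_le_of_isSubnormal hQp hwc hS hQS k

theorem weakClosure_in_overgroup (Q : Subgroup H) (hQp : IsPGroup p ↥Q)
    (hwc : IsWeaklyClosedSubgroup p Q) (K : Subgroup H) (hQK : Q ≤ K) (Kc : Subgroup H)
    (hKc : Kc = weakClosure Q K) :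
    Kc = ⨆ k : ↥K, Q.map (MulAut.conj (k : H)).toMonoidHom ∧
    Kc = (subnormalClosure (Q.subgroupOf K)).map K.subtype := by
  have h1 : Kc = ⨆ k : ↥K, Q.map (MulAut.conj (k : H)).toMonoidHom := by
    rw [hKc]
    unfold weakClosure
    apply le_antisymm
    · apply iSup_le
      rintro ⟨g, hg⟩
      obtain ⟨k, hk, hke⟩ := IsWeaklyClosedSubgroup.exists_conj_of_le hQp hwc hQK g hg
      show cj g Q ≤ _
      rw [hke]
      exact le_iSup (fun k : ↥K => Q.map (MulAut.conj (k : H)).toMonoidHom) ⟨k, hk⟩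
    · apply iSup_le
      intro k
      have hk : Q.map (MulAut.conj (k : H)).toMonoidHom ≤ K := by
        rintro _ ⟨q, hq, rfl⟩
        exact K.mul_mem (K.mul_mem k.2 (hQK hq)) (K.inv_mem k.2)
      exact le_iSup (fun g : {g : H // Q.map (MulAut.conj g).toMonoidHom ≤ K} =>
        Q.map (MulAut.conj (g : H)).toMonoidHom) ⟨k, hk⟩
  refine ⟨h1, ?_⟩
  have hwc' := (weaklyClosed_overgroups_quotients Q hQp hwc K hQK ⊥).1
  have hQp' : IsPGroup p ↥(Q.subgroupOf K) := hQp.comap_subtype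
  rw [subnormalClosure_eq_iSup_cj hQp' hwc', Subgroup.map_iSup, h1]
  congr 1
  ext k : 1
  rw [map_subtype_cj, Subgroup.map_subgroupOf_eq_of_le hQK]

end Cfsg.Agent.Lib.Helper7
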