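import Mathlib
import Cfsg.Prelude.Def_LocalStructure
import Cfsg.Agent.Lib.Lead.Conj
import Cfsg.Agent.Lib.Helper7.WeaklyClosed3
import Cfsg.Agent.Lib.Helper7.GroupFusion2

set_option autoImplicit false

namespace Cfsg.Agent.Lib.Helper7

open Cfsg Cfsg.Agent.Lib.Lead.Conj
open scoped Pointwise

variable {H : Type*} [Group H]

theorem centralizer_cj (g : H) (Q : Subgroup H) :
    Subgroup.centralizer ((cj g Q : Subgroup H) : Set H) = cj g (Subgroup.centralizer (Q : Set H)) :=
  centralizer_map_conj Q g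

theorem cj_ne_bot {Q : Subgroup H} (hQ : Q ≠ ⊥) (g : H) : cj g Q ≠ ⊥ := by
  intro h
  apply hQ
  rw [Subgroup.map_eq_bot_iff_of_injective _ (MulAut.conj g).injective] at h
  exact h

theorem isLarge_cj {Q : Subgroup H} (hL : IsLarge Q) (g : H) : IsLarge (cj g Q) := by
  refine ⟨?_, ?_⟩
  · rw [centralizer_cj]; exact cj_mono g hL.1
  · intro U hU hU1
    rw [centralizer_cj, ← cj_cj_inv g U] at hU
    have h1 : cj g⁻¹ U ≤ Subgroup.centralizer (Q : Set H) := by
      have := cj_mono g⁻¹ hU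
      rwa [cj_inv_cj, cj_inv_cj] at this
    have h2 := hL.2 _ h1 (cj_ne_bot hU1 g⁻¹)
    have h3 := cj_mono g h2
    rwa [← normalizer_cj, ← normalizer_cj, cj_cj_inv] at h3

/-- The centre of `R`, inside the ambient group. -/
theorem normalizer_le_normalizer_inf_centralizer (R : Subgroup H) :
    Subgroup.normalizer (R : Set H) ≤
      Subgroup.normalizer ((R ⊓ Subgroup.centralizer (R : Set H) : Subgroup H) : Set H) := by
  intro n hn
  have h2 := normalizer_le_normalizer_centralizer R hn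
  rw [Subgroup.mem_normalizer_iff] at hn h2 ⊢
  intro x
  rw [Subgroup.mem_inf, Subgroup.mem_inf, ← hn x, ← h2 x]

variable [Finite H] {p : ℕ} [Fact p.Prime]

theorem inf_centralizer_ne_bot {R : Subgroup H} (hR : IsPGroup p ↥R) (hR1 : R ≠ ⊥) :
    R ⊓ Subgroup.centralizer (R : Set H) ≠ ⊥ := by
  have hnt : Nontrivial ↥R := (Subgroup.nontrivial_iff_ne_bot R).mpr hR1
  have hc := hR.center_nontrivial
  obtain ⟨z, hz⟩ := exists_ne (1 : ↥(Subgroup.center ↥R))
  intro hb
  apply hz
  have hmem : ((z : ↥R) : H) ∈ R ⊓ Subgroup.centralizer (R : Set H) := by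
    refine Subgroup.mem_inf.mpr ⟨(z : ↥R).2, ?_⟩
    rw [Subgroup.mem_centralizer_iff]
    intro r hr
    have := Subgroup.mem_center_iff.mp z.2 ⟨r, hr⟩
    exact congrArg Subtype.val this
  rw [hb, Subgroup.mem_bot] at hmem
  apply Subtype.ext
  apply Subtype.ext
  exact hmem

/-- A nontrivial large `p`-subgroup is a weakly closed subgroup. -/
theorem isLarge_isWeaklyClosedSubgroup {Q : Subgroup H} (hQp : IsPGroup p ↥Q) (hQ1 : Q ≠ ⊥)
    (hL : IsLarge Q) : IsWeaklyClosedSubgroup p Q := by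
  apply isWeaklyClosedSubgroup_of_normalizer_le hQp
  intro R hR hQR
  have hR1 : R ≠ ⊥ := by
    intro h
    apply hQ1
    rw [eq_bot_iff, ← h]; exact hQR
  have hU1 := inf_centralizer_ne_bot hR hR1
  have hU : R ⊓ Subgroup.centralizer (R : Set H) ≤ Subgroup.centralizer (Q : Set H) :=
    inf_le_right.trans (Subgroup.centralizer_le hQR)
  exact (normalizer_le_normalizer_inf_centralizer R).trans (hL.2 _ hU hU1)

theorem isLarge_centralizer_inf_eq_bot {Q : Subgroup H} (hQp : IsPGroup p ↥Q) (hQ1 : Q ≠ ⊥)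
    (hL : IsLarge Q) {g : H} (hg : g ∉ Subgroup.normalizer (Q : Set H)) :
    Subgroup.centralizer (Q : Set H) ⊓ Subgroup.centralizer ((cj g Q : Subgroup H) : Set H) = ⊥ := by
  by_contra hU1
  apply hg
  apply mem_normalizer_of_cj_eq
  apply IsWeaklyClosedSubgroup.eq_of_mutual hQp (isLarge_isWeaklyClosedSubgroup hQp hQ1 hL)
  have h1 := hL.2 _ inf_le_left hU1
  have h2 := (isLarge_cj hL g).2 _ inf_le_right hU1
  -- Q and cj g Q centralize U
  have hQU : Q ≤ Subgroup.normalizer
      ((Subgroup.centralizer (Q : Set H) ⊓ Subgroup.centralizer ((cj g Q : Subgroup H) : Set H) :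
        Subgroup H) : Set H) :=
    (Subgroup.le_centralizer_iff.mp inf_le_left).trans (Subgroup.centralizer_le_normalizer _)
  have hQgU : cj g Q ≤ Subgroup.normalizer
      ((Subgroup.centralizer (Q : Set H) ⊓ Subgroup.centralizer ((cj g Q : Subgroup H) : Set H) :
        Subgroup H) : Set H) :=
    (Subgroup.le_centralizer_iff.mp inf_le_right).trans (Subgroup.centralizer_le_normalizer _)
  apply le_inf
  · exact Subgroup.le_normalizer_iff_commutator_le_left.mp (hQgU.trans h1)
  · exact Subgroup.le_normalizer_iff_commutator_le_right.mp (hQU.trans h2)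

theorem large_subgroup_props (Q : Subgroup H) (hQp : IsPGroup p ↥Q) (hQ1 : Q ≠ ⊥) (hL : IsLarge Q)
    (Qb : Subgroup H) (hQb : Qb = largeBullet p Q) :
    (∀ g : H, g ∉ Subgroup.normalizer (Q : Set H) →
      Subgroup.centralizer (Q : Set H) ⊓
        Subgroup.centralizer ((Q.map (MulAut.conj g).toMonoidHom : Subgroup H) : Set H) = ⊥ ∧
      Subgroup.centralizer (Qb : Set H) ⊓
        Subgroup.centralizer ((Qb.map (MulAut.conj g).toMonoidHom : Subgroup H) : Set H) = ⊥ ∧
      (Q ⊓ Subgroup.centralizer (Q : Set H)) ⊓ (Q.map (MulAut.conj g).toMonoidHom ⊓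
        Subgroup.centralizer ((Q.map (MulAut.conj g).toMonoidHom : Subgroup H) : Set H)) = ⊥ ∧
      (Qb ⊓ Subgroup.centralizer (Qb : Set H)) ⊓ (Qb.map (MulAut.conj g).toMonoidHom ⊓
        Subgroup.centralizer ((Qb.map (MulAut.conj g).toMonoidHom : Subgroup H) : Set H)) = ⊥) ∧
    Subgroup.normalizer (Q : Set H) = Subgroup.normalizer (Qb : Set H) ∧ IsLarge Qb := by
  have hwc := isLarge_isWeaklyClosedSubgroup hQp hQ1 hL
  have hQbp : IsPGroup p ↥Qb := by
    rw [hQb]; exact (pCore_isPGroup p _).map _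
  have hQQb : Q ≤ Qb := by
    rw [hQb]
    intro q hq
    have hn : (Q.subgroupOf (Subgroup.normalizer (Q : Set H))).Normal := Subgroup.normal_in_normalizer
    have hle := le_pCore hn (hQp.comap_subtype (K := Subgroup.normalizer (Q : Set H)))
    exact ⟨⟨q, Subgroup.le_normalizer hq⟩, hle (Subgroup.mem_subgroupOf.mpr hq), rfl⟩
  have hN : Subgroup.normalizer (Q : Set H) = Subgroup.normalizer (Qb : Set H) := by
    apply le_antisymm
    · intro n hn
      apply mem_normalizer_of_conj_mem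
      intro r hr
      rw [hQb] at hr ⊢
      obtain ⟨r', hr', rfl⟩ := hr
      have := (pCore_normal p ↥(Subgroup.normalizer (Q : Set H))).conj_mem r' hr' ⟨n, hn⟩
      exact ⟨_, this, rfl⟩
    · exact IsWeaklyClosedSubgroup.normalizer_le hwc hQbp hQQb
  have hLb : IsLarge Qb := by
    refine ⟨((Subgroup.centralizer_le hQQb).trans hL.1).trans hQQb, ?_⟩
    intro U hU hU1
    rw [← hN]
    exact hL.2 U (hU.trans (Subgroup.centralizer_le hQQb)) hU1
  refine ⟨?_, hN, hLb⟩
  intro g hg
  have ha := isLarge_centralizer_inf_eq_bot hQp hQ1 hL hg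
  have hb : Subgroup.centralizer (Qb : Set H) ⊓
      Subgroup.centralizer ((Qb.map (MulAut.conj g).toMonoidHom : Subgroup H) : Set H) = ⊥ := by
    rw [eq_bot_iff, ← ha]
    exact inf_le_inf (Subgroup.centralizer_le hQQb) (Subgroup.centralizer_le (cj_mono g hQQb))
  refine ⟨ha, hb, ?_, ?_⟩
  · rw [eq_bot_iff, ← ha]
    exact inf_le_inf inf_le_right inf_le_right
  · rw [eq_bot_iff, ← hb]
    exact inf_le_inf inf_le_right inf_le_right

end Cfsg.Agent.Lib.Helper7
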