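import Mathlib
import Cfsg.Prelude.Def_LocalStructure
import Cfsg.Agent.Lib.Lead.Conj
import Cfsg.Agent.Lib.Helper7.Large
import Cfsg.Agent.Lib.Helper7.CharP

set_option autoImplicit false

namespace Cfsg.Agent.Lib.Helper7

open Cfsg Cfsg.Agent.Lib.Lead.Conj
open scoped Pointwise commutatorElement

variable {H : Type*} [Group H] [Finite H] {p : ℕ} [Fact p.Prime]

/-- A `p`-group `P` normalizing a nontrivial `p`-group `Y` centralizes a nontrivial element of `Y`. -/
theorem inf_centralizer_ne_bot_of_le_normalizer {Y P : Subgroup H} (hY : IsPGroup p ↥Y) (hY1 : Y ≠ ⊥)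
    (hP : IsPGroup p ↥P) (hPY : P ≤ Subgroup.normalizer (Y : Set H)) :
    Y ⊓ Subgroup.centralizer (P : Set H) ≠ ⊥ := by
  have hR : IsPGroup p ↥(Y ⊔ P) := IsPGroup.to_sup_of_normal_left' hY hP hPY
  have hYn : (Y.subgroupOf (Y ⊔ P)).Normal := by
    rw [Subgroup.normal_subgroupOf_iff_le_normalizer le_sup_left]
    exact sup_le Subgroup.le_normalizer hPY
  have hYnt : Nontrivial ↥Y := (Subgroup.nontrivial_iff_ne_bot Y).mpr hY1
  have hcard : p ∣ Nat.card ↥(Y.subgroupOf (Y ⊔ P)) := by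
    rw [card_subgroupOf_of_le le_sup_left]
    obtain ⟨n, hn⟩ := IsPGroup.iff_card.mp hY
    rw [hn]
    have : n ≠ 0 := by
      rintro rfl
      rw [pow_zero] at hn
      have := Finite.one_lt_card (α := ↥Y)
      omega
    exact dvd_pow_self p this
  have hfix : (1 : ↥(Y.subgroupOf (Y ⊔ P))) ∈
      MulAction.fixedPoints (ConjAct ↥(Y ⊔ P)) ↥(Y.subgroupOf (Y ⊔ P)) := by
    intro g
    exact smul_one g
  obtain ⟨b, hb, hb1⟩ := (hR.of_equiv ConjAct.toConjAct).exists_fixed_point_of_prime_dvd_card_of_fixed_point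
    (↥(Y.subgroupOf (Y ⊔ P))) hcard hfix
  intro hbot
  apply hb1
  have hmem : ((b : ↥(Y ⊔ P)) : H) ∈ Y ⊓ Subgroup.centralizer (P : Set H) := by
    refine Subgroup.mem_inf.mpr ⟨Subgroup.mem_subgroupOf.mp b.2, ?_⟩
    rw [Subgroup.mem_centralizer_iff]
    intro x hx
    have h1 := hb (ConjAct.toConjAct (⟨x, (le_sup_right : P ≤ Y ⊔ P) hx⟩ : ↥(Y ⊔ P)))
    have h2 := congrArg (fun t : ↥(Y.subgroupOf (Y ⊔ P)) => ((t : ↥(Y ⊔ P)) : H)) h1
    simp only [ConjAct.Subgroup.val_conj_smul, ConjAct.smul_def, ConjAct.ofConjAct_toConjAct,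
      Subgroup.coe_mul, Subgroup.coe_inv] at h2
    calc x * ((b : ↥(Y ⊔ P)) : H) = (x * ((b : ↥(Y ⊔ P)) : H) * x⁻¹) * x := by group
      _ = ((b : ↥(Y ⊔ P)) : H) * x := by rw [h2]
  rw [hbot, Subgroup.mem_bot] at hmem
  symm
  apply Subtype.ext
  apply Subtype.ext
  exact hmem


/-- A `p`-subgroup `P` normal in a normal subgroup `D` lies in `O_p(G)`. -/
theorem le_pCore_of_normal_in_normal {G : Type*} [Group G] {D P : Subgroup G} [D.Normal] (hPD : P ≤ D)
    (hn : D ≤ Subgroup.normalizer (P : Set G)) (hP : IsPGroup p ↥P) : P ≤ pCore p G := by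
  have hPn : (P.subgroupOf D).Normal := (Subgroup.normal_subgroupOf_iff_le_normalizer hPD).mpr hn
  have h1 : P.subgroupOf D ≤ pCore p ↥D := le_pCore hPn hP.comap_subtype
  have h2 := Subgroup.map_mono (f := D.subtype) h1
  rw [Subgroup.map_subgroupOf_eq_of_le hPD] at h2
  exact h2.trans (pCore_map_subtype_le_of_normal D)

omit [Finite H] [Fact p.Prime] in
theorem cj_iSup {ι : Sort*} (g : H) (f : ι → Subgroup H) : cj g (⨆ i, f i) = ⨆ i, cj g (f i) :=
  Subgroup.map_iSup _ _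

omit [Fact p.Prime] in
theorem normalizer_le_normalizer_centralizer' (Y : Subgroup H) :
    Subgroup.normalizer (Y : Set H) ≤
      Subgroup.normalizer ((Subgroup.centralizer (Y : Set H) : Subgroup H) : Set H) :=
  normalizer_le_normalizer_centralizer Y

theorem large_weakClosure_centralizer (Q : Subgroup H) (hQp : IsPGroup p ↥Q) (hQ1 : Q ≠ ⊥)
    (hL : IsLarge Q) (L : Subgroup H) (hQL : Q ≤ L) (Y : Subgroup H) (hYp : IsPGroup p ↥Y) (hY1 : Y ≠ ⊥)
    (hLY : L ≤ Subgroup.normalizer (Y : Set H)) :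
    weakClosure Q L = weakClosure Q (L ⊔ Subgroup.centralizer (Y : Set H)) ∧
    ⁅weakClosure Q L, Subgroup.centralizer (Y : Set H)⁆ ≤ pCoreOf p (weakClosure Q L) ∧
    Subgroup.centralizer (Y : Set H) ≤ Subgroup.normalizer ((weakClosure Q L : Subgroup H) : Set H) := by
  have hwc := isLarge_isWeaklyClosedSubgroup hQp hQ1 hL
  -- Step B
  have hB : ∀ g : H, cj g Q ≤ Subgroup.normalizer (Y : Set H) →
      Subgroup.centralizer (Y : Set H) ≤ Subgroup.normalizer ((cj g Q : Subgroup H) : Set H) := by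
    intro g hg
    have hU1 := inf_centralizer_ne_bot_of_le_normalizer hYp hY1 (isPGroup_cj g hQp) hg
    have h1 := (isLarge_cj hL g).2 _ inf_le_right hU1
    refine le_trans ?_ h1
    refine le_trans ?_ (Subgroup.centralizer_le_normalizer _)
    exact Subgroup.centralizer_le (show ((Y ⊓ Subgroup.centralizer ((cj g Q : Subgroup H) : Set H) :
      Subgroup H) : Set H) ⊆ Y from inf_le_left)
  have hCY : Subgroup.centralizer (Y : Set H) ≤ Subgroup.normalizer (Y : Set H) :=
    Subgroup.centralizer_le_normalizer _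
  -- generators
  have hgen : ∀ g : H, cj g Q ≤ L → cj g Q ≤ weakClosure Q L := by
    intro g hg
    unfold weakClosure
    exact le_iSup (fun g : {g : H // Q.map (MulAut.conj g).toMonoidHom ≤ L} =>
        Q.map (MulAut.conj (g : H)).toMonoidHom) ⟨g, hg⟩
  have hLcL : weakClosure Q L ≤ L := by
    unfold weakClosure
    apply iSup_le
    rintro ⟨g, hg⟩
    exact hg
  -- Step C
  have hC : Subgroup.centralizer (Y : Set H) ≤
      Subgroup.normalizer ((weakClosure Q L : Subgroup H) : Set H) := by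
    intro c hc
    apply mem_normalizer_of_cj_le
    unfold weakClosure
    rw [cj_iSup]
    apply iSup_le
    rintro ⟨g, hg⟩
    have h1 : c ∈ Subgroup.normalizer ((cj g Q : Subgroup H) : Set H) := hB g (hg.trans hLY) hc
    show cj c (cj g Q) ≤ _
    rw [cj_eq_of_mem_normalizer h1]
    exact le_iSup (fun g : {g : H // Q.map (MulAut.conj g).toMonoidHom ≤ L} =>
        Q.map (MulAut.conj (g : H)).toMonoidHom) ⟨g, hg⟩
  -- Step D
  have hD : weakClosure Q L = weakClosure Q (L ⊔ Subgroup.centralizer (Y : Set H)) := by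
    apply le_antisymm
    · unfold weakClosure
      apply iSup_le
      rintro ⟨g, hg⟩
      exact le_iSup (fun g : {g : H // Q.map (MulAut.conj g).toMonoidHom ≤
          L ⊔ Subgroup.centralizer (Y : Set H)} =>
        Q.map (MulAut.conj (g : H)).toMonoidHom) ⟨g, hg.trans le_sup_left⟩
    · show weakClosure Q (L ⊔ Subgroup.centralizer (Y : Set H)) ≤ weakClosure Q L
      unfold weakClosure
      apply iSup_le
      rintro ⟨g, hg⟩
      obtain ⟨m, hm, hme⟩ := IsWeaklyClosedSubgroup.exists_conj_of_le hQp hwc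
        (hQL.trans le_sup_left) g hg
      have hLn : L ≤ Subgroup.normalizer ((Subgroup.centralizer (Y : Set H) : Subgroup H) : Set H) :=
        hLY.trans (normalizer_le_normalizer_centralizer' Y)
      have hm' : m ∈ ((Subgroup.centralizer (Y : Set H) ⊔ L : Subgroup H) : Set H) := by
        rw [sup_comm]; exact hm
      rw [Subgroup.coe_mul_of_right_le_normalizer_left _ _ hLn] at hm'
      obtain ⟨c, hc, l, hl, rfl⟩ := Set.mem_mul.mp hm'
      have hlQ : cj l Q ≤ L := by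
        rintro _ ⟨q, hq, rfl⟩
        exact L.mul_mem (L.mul_mem hl (hQL hq)) (L.inv_mem hl)
      have h1 : c ∈ Subgroup.normalizer ((cj l Q : Subgroup H) : Set H) := hB l (hlQ.trans hLY) hc
      show cj g Q ≤ _
      rw [hme, ← cj_mul, cj_eq_of_mem_normalizer h1]
      exact hgen l hlQ
  refine ⟨hD, ?_, hC⟩
  -- Step E
  set Lc := weakClosure Q L with hLc
  have hLcY : Lc ≤ Subgroup.normalizer (Y : Set H) := hLcL.trans hLY
  -- O is normalized by Lc
  have hOn : ∀ a ∈ Lc, ∀ o ∈ pCoreOf p Lc, a * o * a⁻¹ ∈ pCoreOf p Lc := by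
    rintro a ha _ ⟨o', ho', rfl⟩
    have := (pCore_normal p ↥Lc).conj_mem o' ho' ⟨a, ha⟩
    exact ⟨_, this, rfl⟩
  -- D := Lc ⊓ C is normal in Lc
  have hDn : ((Lc ⊓ Subgroup.centralizer (Y : Set H)).subgroupOf Lc).Normal := by
    rw [Subgroup.normal_subgroupOf_iff_le_normalizer inf_le_left]
    intro a ha
    have h1 : a ∈ Subgroup.normalizer (Lc : Set H) := Subgroup.le_normalizer ha
    have h2 : a ∈ Subgroup.normalizer ((Subgroup.centralizer (Y : Set H) : Subgroup H) : Set H) :=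
      normalizer_le_normalizer_centralizer' Y (hLcY ha)
    rw [Subgroup.mem_normalizer_iff] at h1 h2 ⊢
    intro x
    rw [Subgroup.mem_inf, Subgroup.mem_inf, ← h1 x, ← h2 x]
  -- each generator has commutator with C inside O
  have hgenO : ∀ g : H, cj g Q ≤ L → ⁅cj g Q, Subgroup.centralizer (Y : Set H)⁆ ≤ pCoreOf p Lc := by
    intro g hg
    have hA1 : ⁅cj g Q, Subgroup.centralizer (Y : Set H)⁆ ≤ cj g Q :=
      Subgroup.le_normalizer_iff_commutator_le_left.mp (hB g (hg.trans hLY))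
    have hA2 : ⁅cj g Q, Subgroup.centralizer (Y : Set H)⁆ ≤ Subgroup.centralizer (Y : Set H) :=
      Subgroup.le_normalizer_iff_commutator_le_right.mp
        ((hg.trans hLY).trans (normalizer_le_normalizer_centralizer' Y))
    have hAL : cj g Q ≤ Lc := hgen g hg
    -- P := cj g Q ⊓ (Lc ⊓ C)
    have hPle : cj g Q ⊓ (Lc ⊓ Subgroup.centralizer (Y : Set H)) ≤ Lc := inf_le_right.trans inf_le_left
    have hP : IsPGroup p ↥(cj g Q ⊓ (Lc ⊓ Subgroup.centralizer (Y : Set H))) :=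
      (isPGroup_cj g hQp).to_inf_left
    have hPD : (cj g Q ⊓ (Lc ⊓ Subgroup.centralizer (Y : Set H))).subgroupOf Lc ≤
        (Lc ⊓ Subgroup.centralizer (Y : Set H)).subgroupOf Lc :=
      Subgroup.subgroupOf_mono _ inf_le_right
    have hnorm : (Lc ⊓ Subgroup.centralizer (Y : Set H)).subgroupOf Lc ≤ Subgroup.normalizer
        (((cj g Q ⊓ (Lc ⊓ Subgroup.centralizer (Y : Set H))).subgroupOf Lc : Subgroup ↥Lc) : Set ↥Lc) := by
      intro d hd
      have hd' : (d : H) ∈ Lc ⊓ Subgroup.centralizer (Y : Set H) := Subgroup.mem_subgroupOf.mp hd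
      have h1 : (d : H) ∈ Subgroup.normalizer ((cj g Q : Subgroup H) : Set H) :=
        hB g (hg.trans hLY) hd'.2
      have h2 : (d : H) ∈ Subgroup.normalizer
          ((Lc ⊓ Subgroup.centralizer (Y : Set H) : Subgroup H) : Set H) := Subgroup.le_normalizer hd'
      rw [Subgroup.mem_normalizer_iff] at h1 h2 ⊢
      intro x
      rw [Subgroup.mem_subgroupOf, Subgroup.mem_subgroupOf]
      constructor
      · intro hx
        exact Subgroup.mem_inf.mpr ⟨(h1 (x : H)).mp hx.1, (h2 (x : H)).mp hx.2⟩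
      · intro hx
        have hx' : (d : H) * (x : H) * (d : H)⁻¹ ∈ cj g Q ⊓ (Lc ⊓ Subgroup.centralizer (Y : Set H)) := hx
        exact Subgroup.mem_inf.mpr ⟨(h1 (x : H)).mpr hx'.1, (h2 (x : H)).mpr hx'.2⟩
    have h3 := @le_pCore_of_normal_in_normal p _ ↥Lc _ _ _ hDn hPD hnorm hP.comap_subtype
    intro z hz
    have hzP : z ∈ cj g Q ⊓ (Lc ⊓ Subgroup.centralizer (Y : Set H)) :=
      ⟨hA1 hz, hAL (hA1 hz), hA2 hz⟩
    exact ⟨⟨z, hPle hzP⟩, h3 (Subgroup.mem_subgroupOf.mpr hzP), rfl⟩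
  rw [Subgroup.commutator_le]
  intro a ha c hc
  have key : a ∈ Lc ∧ ⁅a, c⁆ ∈ pCoreOf p Lc := by
    have ha' : a ∈ ⨆ g : {g : H // Q.map (MulAut.conj g).toMonoidHom ≤ L},
        Q.map (MulAut.conj (g : H)).toMonoidHom := ha
    refine Subgroup.iSup_induction _ (C := fun a => a ∈ Lc ∧ ⁅a, c⁆ ∈ pCoreOf p Lc) ha' ?_ ?_ ?_
    · rintro ⟨g, hg⟩ x hx
      exact ⟨hgen g hg hx, hgenO g hg (Subgroup.commutator_mem_commutator hx hc)⟩
    · refine ⟨Lc.one_mem, ?_⟩
      rw [commutatorElement_one_left]; exact Subgroup.one_mem _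
    · rintro x y ⟨hx1, hx2⟩ ⟨hy1, hy2⟩
      refine ⟨Lc.mul_mem hx1 hy1, ?_⟩
      rw [commutatorElement_mul_left_eq_conj_mul]
      exact Subgroup.mul_mem _ (hOn x hx1 _ hy2) hx2
  exact key.2

end Cfsg.Agent.Lib.Helper7
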