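import Mathlib
import Cfsg.Prelude.Def_LocalStructure
import Cfsg.Agent.Lib.Lead.Conj
import Cfsg.Agent.Lib.Helper7.Large2

set_option autoImplicit false

namespace Cfsg.Agent.Lib.Helper7

open Cfsg Cfsg.Agent.Lib.Lead.Conj
open scoped Pointwise commutatorElement

variable {H : Type*} [Group H] [Finite H] {p : ℕ} [Fact p.Prime]

omit [Finite H] [Fact p.Prime] in
theorem pCoreOf_isPGroup (L : Subgroup H) : IsPGroup p ↥(pCoreOf p L) :=
  (pCore_isPGroup p ↥L).map _

omit [Finite H] [Fact p.Prime] in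
theorem le_normalizer_pCoreOf (L : Subgroup H) : L ≤ Subgroup.normalizer ((pCoreOf p L : Subgroup H) : Set H) := by
  intro l hl
  rw [Subgroup.mem_normalizer_iff]
  intro x
  constructor
  · rintro ⟨x', hx', rfl⟩
    exact ⟨_, (pCore_normal p ↥L).conj_mem x' hx' ⟨l, hl⟩, rfl⟩
  · rintro ⟨y', hy', hy⟩
    have := (pCore_normal p ↥L).conj_mem y' hy' ⟨l, hl⟩⁻¹
    refine ⟨_, this, ?_⟩
    simp only [Subgroup.coe_subtype, Subgroup.coe_mul, Subgroup.coe_inv, inv_inv]
    have hy2 : (y' : H) = l * x * l⁻¹ := hy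
    rw [hy2]; group

omit [Finite H] [Fact p.Prime] in
theorem pCoreOf_le (L : Subgroup H) : pCoreOf p L ≤ L := Subgroup.map_subtype_le _

omit [Finite H] [Fact p.Prime] in
/-- A `p`-subgroup of `L` normalized by `L` lies in `O_p(L)`. -/
theorem le_pCoreOf {L P : Subgroup H} (hPL : P ≤ L) (hn : L ≤ Subgroup.normalizer (P : Set H))
    (hP : IsPGroup p ↥P) : P ≤ pCoreOf p L := by
  have hPn : (P.subgroupOf L).Normal := (Subgroup.normal_subgroupOf_iff_le_normalizer hPL).mpr hn
  have h1 : P.subgroupOf L ≤ pCore p ↥L := le_pCore hPn hP.comap_subtype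
  have h2 := Subgroup.map_mono (f := L.subtype) h1
  rw [Subgroup.map_subgroupOf_eq_of_le hPL] at h2
  exact h2

/-- `O_p(N) ≤ O_p(L)` for `N ≤ L` normalized by `L`. -/
theorem pCoreOf_le_pCoreOf_of_normal {L N : Subgroup H} (hNL : N ≤ L)
    (hn : L ≤ Subgroup.normalizer (N : Set H)) : pCoreOf p N ≤ pCoreOf p L := by
  have hDn : (N.subgroupOf L).Normal := (Subgroup.normal_subgroupOf_iff_le_normalizer hNL).mpr hn
  have hPD : (pCoreOf p N).subgroupOf L ≤ N.subgroupOf L := Subgroup.subgroupOf_mono _ (pCoreOf_le N)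
  have hnorm : N.subgroupOf L ≤ Subgroup.normalizer
      (((pCoreOf p N).subgroupOf L : Subgroup ↥L) : Set ↥L) := by
    intro d hd
    have h1 : (d : H) ∈ Subgroup.normalizer ((pCoreOf p N : Subgroup H) : Set H) :=
      le_normalizer_pCoreOf N (Subgroup.mem_subgroupOf.mp hd)
    rw [Subgroup.mem_normalizer_iff] at h1 ⊢
    intro x
    rw [Subgroup.mem_subgroupOf, Subgroup.mem_subgroupOf]
    exact h1 (x : H)
  have h3 := @le_pCore_of_normal_in_normal p _ ↥L _ _ _ hDn hPD hnorm
    ((pCoreOf_isPGroup N).comap_subtype)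
  have h4 := Subgroup.map_mono (f := L.subtype) h3
  rw [Subgroup.map_subgroupOf_eq_of_le ((pCoreOf_le N).trans hNL)] at h4
  exact h4

omit [Fact p.Prime] in
theorem le_normalizer_weakClosure (Q L : Subgroup H) :
    L ≤ Subgroup.normalizer ((weakClosure Q L : Subgroup H) : Set H) := by
  intro l hl
  apply mem_normalizer_of_cj_le
  unfold weakClosure
  rw [cj_iSup]
  apply iSup_le
  rintro ⟨g, hg⟩
  have h1 : cj (l * g) Q ≤ L := by
    rw [← cj_mul]
    rintro _ ⟨x, hx, rfl⟩
    exact L.mul_mem (L.mul_mem hl (hg hx)) (L.inv_mem hl)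
  show cj l (cj g Q) ≤ _
  rw [cj_mul]
  exact le_iSup (fun g : {g : H // Q.map (MulAut.conj g).toMonoidHom ≤ L} =>
        Q.map (MulAut.conj (g : H)).toMonoidHom) ⟨l * g, h1⟩

omit [Finite H] [Fact p.Prime] in
theorem weakClosure_le (Q L : Subgroup H) : weakClosure Q L ≤ L := by
  unfold weakClosure
  apply iSup_le
  rintro ⟨g, hg⟩
  exact hg

omit [Finite H] [Fact p.Prime] in
theorem cj_le_weakClosure {Q L : Subgroup H} {g : H} (hg : cj g Q ≤ L) : cj g Q ≤ weakClosure Q L := by
  unfold weakClosure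
  exact le_iSup (fun g : {g : H // Q.map (MulAut.conj g).toMonoidHom ≤ L} =>
        Q.map (MulAut.conj (g : H)).toMonoidHom) ⟨g, hg⟩

omit [Finite H] [Fact p.Prime] in
theorem le_weakClosure {Q L : Subgroup H} (hQL : Q ≤ L) : Q ≤ weakClosure Q L := by
  have := cj_le_weakClosure (Q := Q) (L := L) (g := 1) (by rw [cj_one]; exact hQL)
  rwa [cj_one] at this

theorem large_local_props (Q : Subgroup H) (hQp : IsPGroup p ↥Q) (hQ1 : Q ≠ ⊥) (hL : IsLarge Q)
    (L : Subgroup H) (hQL : Q ≤ L) (hO : pCore p ↥L ≠ ⊥) :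
    IsPGroup p ↥(Subgroup.centralizer ((pCoreOf p L : Subgroup H) : Set H)) ∧
    Subgroup.centralizer (pCore p ↥L : Set ↥L) ≤ pCore p ↥L ∧
    (weakClosure Q L = Q ∨ Subgroup.centralizer ((weakClosure Q L : Subgroup H) : Set H) = ⊥) := by
  have hY1 : pCoreOf p L ≠ ⊥ := by
    intro h
    apply hO
    unfold pCoreOf at h
    rwa [Subgroup.map_eq_bot_iff_of_injective _ L.subtype_injective] at h
  have hYp : IsPGroup p ↥(pCoreOf p L) := pCoreOf_isPGroup L
  have hLY := le_normalizer_pCoreOf (p := p) L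
  obtain ⟨-, h2, -⟩ := large_weakClosure_centralizer Q hQp hQ1 hL L hQL (pCoreOf p L) hYp hY1 hLY
  have h3 : pCoreOf p (weakClosure Q L) ≤ pCoreOf p L :=
    pCoreOf_le_pCoreOf_of_normal (weakClosure_le Q L) (le_normalizer_weakClosure Q L)
  have h4 : ⁅Q, Subgroup.centralizer ((pCoreOf p L : Subgroup H) : Set H)⁆ ≤ pCoreOf p L :=
    (Subgroup.commutator_mono (le_weakClosure hQL) le_rfl).trans (h2.trans h3)
  have hD : IsPGroup p ↥(Subgroup.centralizer ((pCoreOf p L : Subgroup H) : Set H)) := by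
    apply isPGroup_of_coprime_trivial
    intro x hx hxc
    -- x centralizes Q
    have hxQ : x ∈ Subgroup.centralizer (Q : Set H) := by
      rw [Subgroup.mem_centralizer_iff]
      intro q hq
      have hc : ⁅q, x⁆ ∈ pCoreOf p L := h4 (Subgroup.commutator_mem_commutator hq hx)
      obtain ⟨k, hk⟩ := pow_eq_one_of_mem_isPGroup hYp hc
      have hcx : x * ⁅q, x⁆ = ⁅q, x⁆ * x := (Subgroup.mem_centralizer_iff.mp hx _ hc).symm
      exact commute_of_coprime_of_commute_commutator q x hxc hcx k hk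
    obtain ⟨k, hk⟩ := pow_eq_one_of_mem_isPGroup hQp (hL.1 hxQ)
    exact eq_one_of_coprime_of_pow_eq_one x hxc k hk
  refine ⟨hD, ?_, ?_⟩
  · -- characteristic p
    have hCn : L ≤ Subgroup.normalizer
        ((Subgroup.centralizer ((pCoreOf p L : Subgroup H) : Set H) : Subgroup H) : Set H) :=
      hLY.trans (normalizer_le_normalizer_centralizer' _)
    have hle : L ⊓ Subgroup.centralizer ((pCoreOf p L : Subgroup H) : Set H) ≤ pCoreOf p L := by
      apply le_pCoreOf inf_le_left _ hD.to_inf_right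
      intro l hl
      have h1 : l ∈ Subgroup.normalizer (L : Set H) := Subgroup.le_normalizer hl
      have h2 := hCn hl
      rw [Subgroup.mem_normalizer_iff] at h1 h2 ⊢
      intro x
      rw [Subgroup.mem_inf, Subgroup.mem_inf, ← h1 x, ← h2 x]
    intro z hz
    have hz' : (z : H) ∈ L ⊓ Subgroup.centralizer ((pCoreOf p L : Subgroup H) : Set H) := by
      refine Subgroup.mem_inf.mpr ⟨z.2, ?_⟩
      rw [Subgroup.mem_centralizer_iff]
      rintro _ ⟨y, hy, rfl⟩
      have := Subgroup.mem_centralizer_iff.mp hz y hy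
      exact congrArg Subtype.val this
    obtain ⟨w, hw, hwe⟩ := hle hz'
    have : w = z := Subtype.ext hwe
    rw [← this]; exact hw
  · by_cases hall : ∀ g : H, cj g Q ≤ L → cj g Q = Q
    · left
      apply le_antisymm _ (le_weakClosure hQL)
      unfold weakClosure
      apply iSup_le
      rintro ⟨g, hg⟩
      exact (hall g hg).le
    · right
      push Not at hall
      obtain ⟨g, hg, hne⟩ := hall
      have hgN : g ∉ Subgroup.normalizer (Q : Set H) := fun h => hne (cj_eq_of_mem_normalizer h)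
      have := isLarge_centralizer_inf_eq_bot hQp hQ1 hL hgN
      rw [eq_bot_iff, ← this]
      exact le_inf (Subgroup.centralizer_le (le_weakClosure hQL))
        (Subgroup.centralizer_le (cj_le_weakClosure hg))

theorem large_parabolic_characteristic (Q : Subgroup H) (hQp : IsPGroup p ↥Q) (hQ1 : Q ≠ ⊥)
    (hL : IsLarge Q) :
    (∀ L : Subgroup H, Q ≤ L → pCore p ↥L ≠ ⊥ →
      IsPGroup p ↥(Subgroup.centralizer ((pCoreOf p L : Subgroup H) : Set H)) ∧
      Subgroup.centralizer (pCore p ↥L : Set ↥L) ≤ pCore p ↥L ∧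
      (weakClosure Q L = Q ∨ Subgroup.centralizer ((weakClosure Q L : Subgroup H) : Set H) = ⊥)) ∧
    (∀ R : Subgroup H, IsParabolic p R → pCore p ↥R ≠ ⊥ →
      Subgroup.centralizer ((pCoreOf p R : Subgroup H) : Set H) ≤ pCoreOf p R) ∧
    IsOfParabolicCharacteristic p H := by
  have h1 := fun L hQL hO => large_local_props Q hQp hQ1 hL L hQL hO
  have h2 : ∀ R : Subgroup H, IsParabolic p R → pCore p ↥R ≠ ⊥ →
      Subgroup.centralizer ((pCoreOf p R : Subgroup H) : Set H) ≤ pCoreOf p R := by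
    rintro R ⟨T, hTR⟩ hO
    obtain ⟨T', hT'⟩ := hQp.exists_le_sylow
    obtain ⟨a, rfl⟩ := MulAction.exists_smul_eq H T T'
    rw [cj_sylow] at hT'
    have hQ₁R : cj a⁻¹ Q ≤ R := by
      have := cj_mono a⁻¹ hT'
      rw [cj_inv_cj] at this
      exact this.trans hTR
    obtain ⟨hD, -, -⟩ := large_local_props (cj a⁻¹ Q) (isPGroup_cj a⁻¹ hQp) (cj_ne_bot hQ1 a⁻¹)
      (isLarge_cj hL a⁻¹) R hQ₁R hO
    have hRn : R ≤ Subgroup.normalizer
        ((Subgroup.centralizer ((pCoreOf p R : Subgroup H) : Set H) : Subgroup H) : Set H) :=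
      (le_normalizer_pCoreOf R).trans (normalizer_le_normalizer_centralizer' _)
    have hDT : IsPGroup p ↥(Subgroup.centralizer ((pCoreOf p R : Subgroup H) : Set H) ⊔ (T : Subgroup H)) :=
      IsPGroup.to_sup_of_normal_left' hD T.isPGroup' (hTR.trans hRn)
    have hTeq := T.is_maximal' hDT le_sup_right
    have hDR : Subgroup.centralizer ((pCoreOf p R : Subgroup H) : Set H) ≤ R := by
      refine le_trans ?_ hTR
      rw [← hTeq]; exact le_sup_left
    exact le_pCoreOf hDR hRn hD
  refine ⟨h1, h2, ?_⟩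
  intro R hR hR1 hpar
  have hO : pCore p ↥(Subgroup.normalizer (R : Set H)) ≠ ⊥ := by
    intro hb
    apply hR1
    have hn : (R.subgroupOf (Subgroup.normalizer (R : Set H))).Normal := Subgroup.normal_in_normalizer
    have hle := le_pCore hn (hR.comap_subtype (K := Subgroup.normalizer (R : Set H)))
    rw [hb, le_bot_iff] at hle
    rw [eq_bot_iff]
    intro r hr
    have : (⟨r, Subgroup.le_normalizer hr⟩ : ↥(Subgroup.normalizer (R : Set H))) ∈
        R.subgroupOf (Subgroup.normalizer (R : Set H)) := Subgroup.mem_subgroupOf.mpr hr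
    rw [hle, Subgroup.mem_bot] at this
    exact congrArg Subtype.val this
  have h3 := h2 _ hpar hO
  intro z hz
  have hz' : (z : H) ∈ Subgroup.centralizer
      ((pCoreOf p (Subgroup.normalizer (R : Set H)) : Subgroup H) : Set H) := by
    rw [Subgroup.mem_centralizer_iff]
    rintro _ ⟨y, hy, rfl⟩
    have := Subgroup.mem_centralizer_iff.mp hz y hy
    exact congrArg Subtype.val this
  obtain ⟨w, hw, hwe⟩ := h3 hz'
  have : w = z := Subtype.ext hwe
  rw [← this]; exact hw

end Cfsg.Agent.Lib.Helper7
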