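import Mathlib
import Cfsg.Prelude.Def_Transfer
import Cfsg.Agent.Lib.Helper7.SylowLib

set_option autoImplicit false

namespace Cfsg.Agent.Lib.Helper7

open Cfsg

section

variable {G : Type*} [Group G]

theorem isElementaryAbelian_iff {p : ℕ} (A : Subgroup G) :
    IsElementaryAbelian p A ↔ (∀ a ∈ A, ∀ b ∈ A, a * b = b * a) ∧ ∀ a ∈ A, a ^ p = 1 := by
  unfold IsElementaryAbelian
  rw [isMulCommutative_iff]
  constructor
  · rintro ⟨h1, h2⟩
    refine ⟨fun a ha b hb => ?_, h2⟩
    exact congrArg Subtype.val (h1 ⟨a, ha⟩ ⟨b, hb⟩)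
  · rintro ⟨h1, h2⟩
    refine ⟨fun a b => Subtype.ext (h1 a a.2 b b.2), h2⟩

theorem isElementaryAbelian_map_iff {H : Type*} [Group H] {p : ℕ} (f : G →* H) (hf : Function.Injective f)
    (A : Subgroup G) : IsElementaryAbelian p (A.map f) ↔ IsElementaryAbelian p A := by
  rw [isElementaryAbelian_iff, isElementaryAbelian_iff]
  constructor
  · rintro ⟨h1, h2⟩
    refine ⟨fun a ha b hb => ?_, fun a ha => ?_⟩
    · apply hf
      rw [map_mul, map_mul]
      exact h1 _ ⟨a, ha, rfl⟩ _ ⟨b, hb, rfl⟩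
    · apply hf
      rw [map_pow, map_one]
      exact h2 _ ⟨a, ha, rfl⟩
  · rintro ⟨h1, h2⟩
    refine ⟨?_, ?_⟩
    · rintro _ ⟨a, ha, rfl⟩ _ ⟨b, hb, rfl⟩
      rw [← map_mul, ← map_mul, h1 a ha b hb]
    · rintro _ ⟨a, ha, rfl⟩
      rw [← map_pow, h2 a ha, map_one]

/-- Ambient form of "`A` is an elementary abelian subgroup of `P` of largest order". -/
def IsMaxEA (p : ℕ) (P A : Subgroup G) : Prop :=
  A ≤ P ∧ IsElementaryAbelian p A ∧
    ∀ B : Subgroup G, B ≤ P → IsElementaryAbelian p B → Nat.card B ≤ Nat.card A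

theorem mem_maxEA_iff {p : ℕ} (P : Subgroup G) (A' : Subgroup ↥P) :
    A' ∈ maxElementaryAbelianSubgroups p ↥P ↔ IsMaxEA p P (A'.map P.subtype) := by
  constructor
  · rintro ⟨h1, h2⟩
    refine ⟨Subgroup.map_subtype_le _, (isElementaryAbelian_map_iff _ P.subtype_injective _).mpr h1, ?_⟩
    intro B hB hBe
    have hB' : IsElementaryAbelian p (B.subgroupOf P) := by
      rw [← isElementaryAbelian_map_iff _ P.subtype_injective, Subgroup.subgroupOf_map_subtype,
        inf_eq_left.mpr hB]
      exact hBe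
    have := h2 _ hB'
    rw [card_subgroupOf_of_le hB] at this
    rw [Subgroup.card_map_of_injective P.subtype_injective]
    exact this
  · rintro ⟨-, h1, h2⟩
    refine ⟨(isElementaryAbelian_map_iff _ P.subtype_injective _).mp h1, ?_⟩
    intro B' hB'
    have := h2 (B'.map P.subtype) (Subgroup.map_subtype_le _)
      ((isElementaryAbelian_map_iff _ P.subtype_injective _).mpr hB')
    rw [Subgroup.card_map_of_injective P.subtype_injective,
      Subgroup.card_map_of_injective P.subtype_injective] at this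
    exact this

theorem IsMaxEA.le_thompsonSubgroupOf {p : ℕ} {P A : Subgroup G} (h : IsMaxEA p P A) :
    A ≤ thompsonSubgroupOf p P := by
  have h1 : A.subgroupOf P ∈ maxElementaryAbelianSubgroups p ↥P := by
    rw [mem_maxEA_iff, Subgroup.subgroupOf_map_subtype, inf_eq_left.mpr h.1]
    exact h
  have h2 : A.subgroupOf P ≤ thompsonSubgroup p ↥P := le_sSup h1
  have h3 := Subgroup.map_mono (f := P.subtype) h2
  rw [Subgroup.subgroupOf_map_subtype, inf_eq_left.mpr h.1] at h3
  exact h3

theorem thompsonSubgroupOf_le_of {p : ℕ} {P K : Subgroup G} (h : ∀ A, IsMaxEA p P A → A ≤ K) :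
    thompsonSubgroupOf p P ≤ K := by
  unfold thompsonSubgroupOf thompsonSubgroup
  rw [Subgroup.map_le_iff_le_comap]
  apply sSup_le
  intro A' hA'
  rw [← Subgroup.map_le_iff_le_comap]
  exact h _ ((mem_maxEA_iff P A').mp hA')

theorem thompsonSubgroupOf_le {p : ℕ} (P : Subgroup G) : thompsonSubgroupOf p P ≤ P :=
  Subgroup.map_subtype_le _

theorem map_conj_mul' (P : Subgroup G) (h g : G) :
    (P.map (MulAut.conj g).toMonoidHom).map (MulAut.conj h).toMonoidHom =
      P.map (MulAut.conj (h * g)).toMonoidHom := by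
  rw [Subgroup.map_map]
  congr 1
  ext x
  simp [MulAut.conj_apply, mul_assoc]

theorem map_conj_one (P : Subgroup G) : P.map (MulAut.conj (1 : G)).toMonoidHom = P := by
  ext x
  simp

theorem IsMaxEA.map_conj {p : ℕ} {P A : Subgroup G} (h : IsMaxEA p P A) (a : G) :
    IsMaxEA p (P.map (MulAut.conj a).toMonoidHom) (A.map (MulAut.conj a).toMonoidHom) := by
  refine ⟨Subgroup.map_mono h.1, (isElementaryAbelian_map_iff _ (MulAut.conj a).injective _).mpr h.2.1, ?_⟩
  intro B hB hBe
  have hB' : B.map (MulAut.conj a⁻¹).toMonoidHom ≤ P := by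
    have := Subgroup.map_mono (f := (MulAut.conj a⁻¹).toMonoidHom) hB
    rw [map_conj_mul', inv_mul_cancel, map_conj_one] at this
    exact this
  have := h.2.2 _ hB' ((isElementaryAbelian_map_iff _ (MulAut.conj a⁻¹).injective _).mpr hBe)
  rw [Subgroup.card_map_of_injective (f := (MulAut.conj a⁻¹).toMonoidHom) (MulAut.conj a⁻¹).injective] at this
  rw [Subgroup.card_map_of_injective (f := (MulAut.conj a).toMonoidHom) (MulAut.conj a).injective]
  exact this

theorem thompsonSubgroupOf_map_conj {p : ℕ} (P : Subgroup G) (a : G) :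
    thompsonSubgroupOf p (P.map (MulAut.conj a).toMonoidHom) =
      (thompsonSubgroupOf p P).map (MulAut.conj a).toMonoidHom := by
  apply le_antisymm
  · apply thompsonSubgroupOf_le_of
    intro A hA
    have h1 := hA.map_conj a⁻¹
    rw [map_conj_mul', inv_mul_cancel, map_conj_one] at h1
    have h2 := Subgroup.map_mono (f := (MulAut.conj a).toMonoidHom) h1.le_thompsonSubgroupOf
    rw [map_conj_mul', mul_inv_cancel, map_conj_one] at h2
    exact h2
  · rw [Subgroup.map_le_iff_le_comap]
    apply thompsonSubgroupOf_le_of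
    intro A hA
    rw [← Subgroup.map_le_iff_le_comap]
    exact (hA.map_conj a).le_thompsonSubgroupOf

/-- If a conjugate of `J(P)` lies in another conjugate `P^a`, it equals `J(P^a)`. -/
theorem thompson_conj_eq_of_le [Finite G] {p : ℕ} (P : Subgroup G) (a b : G)
    (h : (thompsonSubgroupOf p P).map (MulAut.conj b).toMonoidHom ≤ P.map (MulAut.conj a).toMonoidHom) :
    (thompsonSubgroupOf p P).map (MulAut.conj b).toMonoidHom =
      (thompsonSubgroupOf p P).map (MulAut.conj a).toMonoidHom := by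
  have hle : (thompsonSubgroupOf p P).map (MulAut.conj b).toMonoidHom ≤
      (thompsonSubgroupOf p P).map (MulAut.conj a).toMonoidHom := by
    rw [← thompsonSubgroupOf_map_conj P b, ← thompsonSubgroupOf_map_conj P a]
    apply thompsonSubgroupOf_le_of
    intro A hA
    apply IsMaxEA.le_thompsonSubgroupOf
    refine ⟨?_, hA.2.1, ?_⟩
    · exact (hA.le_thompsonSubgroupOf.trans (by rw [thompsonSubgroupOf_map_conj])).trans h
    · intro B hB hBe
      -- move B into P^b
      have hB' : B.map (MulAut.conj (b * a⁻¹)).toMonoidHom ≤ P.map (MulAut.conj b).toMonoidHom := by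
        have := Subgroup.map_mono (f := (MulAut.conj (b * a⁻¹)).toMonoidHom) hB
        rw [map_conj_mul'] at this
        simpa using this
      have := hA.2.2 _ hB' ((isElementaryAbelian_map_iff _ (MulAut.conj (b * a⁻¹)).injective _).mpr hBe)
      rw [Subgroup.card_map_of_injective (f := (MulAut.conj (b * a⁻¹)).toMonoidHom)
        (MulAut.conj (b * a⁻¹)).injective] at this
      exact this
  apply Subgroup.eq_of_le_of_card_ge hle
  rw [Subgroup.card_map_of_injective (f := (MulAut.conj a).toMonoidHom) (MulAut.conj a).injective,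
    Subgroup.card_map_of_injective (f := (MulAut.conj b).toMonoidHom) (MulAut.conj b).injective]

end

/-- Burnside-type fusion for `Z(J(P))`: conjugate elements of `Z(J(P))` are conjugate in `N(J(P))`. -/
theorem thompson_center_fusion {X : Type*} [Group X] [Finite X] (p : ℕ) [Fact p.Prime] (P : Sylow p X)
    (J : Subgroup X) (hJ : J = thompsonSubgroupOf p (P : Subgroup X))
    (x y : X) (hx : x ∈ J ∧ ∀ j ∈ J, Commute j x) (hy : y ∈ J ∧ ∀ j ∈ J, Commute j y) (g : X)
    (hg : g * x * g⁻¹ = y) :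
    ∃ n ∈ Subgroup.normalizer (J : Set X), n * x * n⁻¹ = y := by
  set C : Subgroup X := Subgroup.centralizer ({y} : Set X) with hC
  have hJP : J ≤ (P : Subgroup X) := hJ ▸ thompsonSubgroupOf_le _
  have hJp : IsPGroup p ↥J := P.isPGroup'.to_le hJP
  have hJC : J ≤ C := by
    intro j hj
    rw [hC, Subgroup.mem_centralizer_singleton_iff]
    exact (hy.2 j hj).eq
  have hJgC : J.map (MulAut.conj g).toMonoidHom ≤ C := by
    rintro _ ⟨j, hj, rfl⟩
    rw [hC, Subgroup.mem_centralizer_singleton_iff]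
    have := (hx.2 j hj).eq
    simp only [MulEquiv.coe_toMonoidHom, MulAut.conj_apply]
    rw [← hg]
    calc g * j * g⁻¹ * (g * x * g⁻¹) = g * (j * x) * g⁻¹ := by group
      _ = g * (x * j) * g⁻¹ := by rw [this]
      _ = g * x * g⁻¹ * (g * j * g⁻¹) := by group
  obtain ⟨T, hT, hJT⟩ := exists_isSylowIn_ge hJp hJC
  obtain ⟨T₂, hT₂, hJT₂⟩ := exists_isSylowIn_ge (hJp.map (MulAut.conj g).toMonoidHom) hJgC
  obtain ⟨c, hc, hTc⟩ := hT.conj hT₂
  -- J^{c⁻¹ g} ≤ T
  have hJn : J.map (MulAut.conj (c⁻¹ * g)).toMonoidHom ≤ T := by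
    have := Subgroup.map_mono (f := (MulAut.conj c⁻¹).toMonoidHom) hJT₂
    rw [hTc, map_conj_mul', map_conj_mul', inv_mul_cancel, map_conj_one] at this
    exact this
  obtain ⟨P₁, hP₁⟩ := hT.isPGroup.exists_le_sylow
  obtain ⟨a, ha⟩ := MulAction.exists_smul_eq X P P₁
  have hP₁' : (P₁ : Subgroup X) = (P : Subgroup X).map (MulAut.conj a).toMonoidHom := by
    rw [← ha, Sylow.coe_subgroup_smul]
    rfl
  have h1 : J.map (MulAut.conj (1 : X)).toMonoidHom ≤ (P : Subgroup X).map (MulAut.conj a).toMonoidHom := by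
    rw [map_conj_one, ← hP₁']
    exact hJT.trans hP₁
  have h2 : J.map (MulAut.conj (c⁻¹ * g)).toMonoidHom ≤ (P : Subgroup X).map (MulAut.conj a).toMonoidHom := by
    rw [← hP₁']
    exact hJn.trans hP₁
  rw [hJ] at h1 h2
  have e1 := thompson_conj_eq_of_le (P : Subgroup X) a 1 h1
  have e2 := thompson_conj_eq_of_le (P : Subgroup X) a (c⁻¹ * g) h2
  rw [← hJ] at e1 e2
  have e3 : J.map (MulAut.conj (c⁻¹ * g)).toMonoidHom = J := by
    rw [e2, ← e1, map_conj_one]
  refine ⟨c⁻¹ * g, ?_, ?_⟩
  · rw [Subgroup.mem_normalizer_iff]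
    intro j
    constructor
    · intro hj
      rw [← e3]
      exact ⟨j, hj, rfl⟩
    · intro hj
      rw [← e3] at hj
      obtain ⟨j', hj', hjj'⟩ := hj
      have : j' = j := by
        apply (MulAut.conj (c⁻¹ * g)).injective
        rw [MulAut.conj_apply, MulAut.conj_apply]
        exact hjj'
      rw [← this]
      exact hj'
  · have hcy : c * y = y * c := by
      have := Subgroup.mem_centralizer_singleton_iff.mp (hC ▸ hc)
      exact this
    calc c⁻¹ * g * x * (c⁻¹ * g)⁻¹ = c⁻¹ * (g * x * g⁻¹) * c := by group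
      _ = c⁻¹ * y * c := by rw [hg]
      _ = c⁻¹ * (y * c) := by group
      _ = c⁻¹ * (c * y) := by rw [hcy]
      _ = y := by group

end Cfsg.Agent.Lib.Helper7
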