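import Mathlib
import Cfsg.Prelude.Def_LocalStructure
import Cfsg.Prelude.Def_LocalEven
import Cfsg.Agent.Lib.Helper7.Core
import Cfsg.Agent.Lib.Helper7.Thompson
import Cfsg.Agent.H1.Cores

set_option autoImplicit false

namespace Cfsg.Agent.Lib.Helper7

open Cfsg

variable {L : Type*} [Group L] {p : ℕ}

theorem centralizer_sup_eq (V₁ V₂ : Subgroup L) :
    Subgroup.centralizer ((V₁ ⊔ V₂ : Subgroup L) : Set L) =
      Subgroup.centralizer (V₁ : Set L) ⊓ Subgroup.centralizer (V₂ : Set L) := by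
  apply le_antisymm
  · exact le_inf (Subgroup.centralizer_le (show (V₁ : Set L) ⊆ ((V₁ ⊔ V₂ : Subgroup L) : Set L) from (le_sup_left : V₁ ≤ V₁ ⊔ V₂)))
      (Subgroup.centralizer_le (show (V₂ : Set L) ⊆ ((V₁ ⊔ V₂ : Subgroup L) : Set L) from (le_sup_right : V₂ ≤ V₁ ⊔ V₂)))
  · rw [Subgroup.le_centralizer_iff]
    apply sup_le
    · rw [← Subgroup.le_centralizer_iff]; exact inf_le_left
    · rw [← Subgroup.le_centralizer_iff]; exact inf_le_right

theorem isPReducedNormal_bot : IsPReducedNormal p (⊥ : Subgroup L) := by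
  refine ⟨inferInstance, ?_, ?_⟩
  · rw [isElementaryAbelian_iff]
    constructor
    · intro a ha b hb
      rw [Subgroup.mem_bot] at ha hb
      rw [ha, hb]
    · intro a ha
      rw [Subgroup.mem_bot] at ha
      rw [ha, one_pow]
  · have hC : Subgroup.centralizer ((⊥ : Subgroup L) : Set L) = ⊤ := by
      rw [eq_top_iff]
      intro x _
      rw [Subgroup.mem_centralizer_iff]
      intro y hy
      have : y = 1 := hy
      rw [this, one_mul, mul_one]
    have hn : (Subgroup.centralizer ((⊥ : Subgroup L) : Set L)).Normal := by rw [hC]; infer_instance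
    refine ⟨hn, ?_⟩
    rw [eq_bot_iff]
    intro x _
    obtain ⟨g, rfl⟩ := QuotientGroup.mk_surjective x
    rw [Subgroup.mem_bot, QuotientGroup.eq_one_iff, hC]
    trivial

/-- In a quotient, a normal subgroup all of whose elements have `p`-power order modulo the kernel maps
into `O_p`. -/
theorem pCore_le_of_quotient_pCore_eq_bot (C : Subgroup L) [C.Normal]
    (h : pCore p (L ⧸ C) = ⊥) (P : Subgroup L) [hP : P.Normal]
    (hPp : ∀ x ∈ P, ∃ k : ℕ, x ^ p ^ k ∈ C) : P ≤ C := by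
  have hn : (P.map (QuotientGroup.mk' C)).Normal :=
    Subgroup.Normal.map hP _ (QuotientGroup.mk'_surjective C)
  have hp : IsPGroup p ↥(P.map (QuotientGroup.mk' C)) := by
    rintro ⟨_, x, hx, rfl⟩
    obtain ⟨k, hk⟩ := hPp x hx
    refine ⟨k, ?_⟩
    apply Subtype.ext
    simp only [Subgroup.coe_pow, Subgroup.coe_one]
    rw [← map_pow]
    exact (QuotientGroup.eq_one_iff _).mpr hk
  have hle := le_pCore hn hp
  rw [h, le_bot_iff] at hle
  intro x hx
  have : QuotientGroup.mk' C x ∈ P.map (QuotientGroup.mk' C) := ⟨x, hx, rfl⟩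
  rw [hle, Subgroup.mem_bot] at this
  exact (QuotientGroup.eq_one_iff x).mp this

theorem isPReducedNormal_le_center_pCore
    (hchar : Subgroup.centralizer (pCore p L : Set L) ≤ pCore p L) {V : Subgroup L}
    (hV : IsPReducedNormal p V) : V ≤ pCore p L ⊓ Subgroup.centralizer (pCore p L : Set L) := by
  obtain ⟨hVn, hVe, hCn, hO⟩ := hV
  haveI := hCn
  haveI : (pCore p L).Normal := pCore_normal p L
  have h1 : pCore p L ≤ Subgroup.centralizer (V : Set L) := by
    apply pCore_le_of_quotient_pCore_eq_bot _ hO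
    intro x hx
    obtain ⟨k, hk⟩ := pow_eq_one_of_mem_isPGroup (pCore_isPGroup p L) hx
    exact ⟨k, by rw [hk]; exact Subgroup.one_mem _⟩
  have h2 : V ≤ Subgroup.centralizer (pCore p L : Set L) := Subgroup.le_centralizer_iff.mp h1
  exact le_inf (h2.trans hchar) h2

theorem isPReducedNormal_sup (hchar : Subgroup.centralizer (pCore p L : Set L) ≤ pCore p L)
    {V₁ V₂ : Subgroup L} (h₁ : IsPReducedNormal p V₁) (h₂ : IsPReducedNormal p V₂) :
    IsPReducedNormal p (V₁ ⊔ V₂) := by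
  have hle₁ := isPReducedNormal_le_center_pCore hchar h₁
  have hle₂ := isPReducedNormal_le_center_pCore hchar h₂
  obtain ⟨hV₁n, hV₁e, hC₁n, hO₁⟩ := h₁
  obtain ⟨hV₂n, hV₂e, hC₂n, hO₂⟩ := h₂
  haveI := hV₁n
  haveI := hV₂n
  haveI := hC₁n
  haveI := hC₂n
  have hZcomm : ∀ a ∈ pCore p L ⊓ Subgroup.centralizer (pCore p L : Set L),
      ∀ b ∈ pCore p L ⊓ Subgroup.centralizer (pCore p L : Set L), a * b = b * a := by
    intro a ha b hb
    exact Subgroup.mem_centralizer_iff.mp hb.2 a ha.1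
  -- the subgroup of elements of Z of order dividing p
  let Ω : Subgroup L :=
    { carrier := {z | z ∈ pCore p L ⊓ Subgroup.centralizer (pCore p L : Set L) ∧ z ^ p = 1}
      one_mem' := ⟨Subgroup.one_mem _, one_pow _⟩
      mul_mem' := by
        rintro a b ⟨ha, hap⟩ ⟨hb, hbp⟩
        refine ⟨Subgroup.mul_mem _ ha hb, ?_⟩
        rw [(show Commute a b from hZcomm a ha b hb).mul_pow, hap, hbp, one_mul]
      inv_mem' := by
        rintro a ⟨ha, hap⟩
        exact ⟨Subgroup.inv_mem _ ha, by rw [inv_pow, hap, inv_one]⟩ }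
  have hΩ : V₁ ⊔ V₂ ≤ Ω := by
    apply sup_le
    · intro v hv
      exact ⟨hle₁ hv, ((isElementaryAbelian_iff V₁).mp hV₁e).2 v hv⟩
    · intro v hv
      exact ⟨hle₂ hv, ((isElementaryAbelian_iff V₂).mp hV₂e).2 v hv⟩
  have hCeq := centralizer_sup_eq V₁ V₂
  have hCn : (Subgroup.centralizer ((V₁ ⊔ V₂ : Subgroup L) : Set L)).Normal := by
    rw [hCeq]; infer_instance
  refine ⟨inferInstance, ?_, hCn, ?_⟩
  · rw [isElementaryAbelian_iff]
    exact ⟨fun a ha b hb => hZcomm a (hΩ ha).1 b (hΩ hb).1, fun a ha => (hΩ ha).2⟩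
  · haveI := hCn
    set C := Subgroup.centralizer ((V₁ ⊔ V₂ : Subgroup L) : Set L) with hC
    haveI hOn : (pCore p (L ⧸ C)).Normal := pCore_normal p (L ⧸ C)
    haveI hPn : ((pCore p (L ⧸ C)).comap (QuotientGroup.mk' C)).Normal := hOn.comap _
    have hPp : ∀ x ∈ (pCore p (L ⧸ C)).comap (QuotientGroup.mk' C), ∃ k : ℕ, x ^ p ^ k ∈ C := by
      intro x hx
      obtain ⟨k, hk⟩ := pow_eq_one_of_mem_isPGroup (pCore_isPGroup p (L ⧸ C)) hx
      refine ⟨k, ?_⟩
      rw [← map_pow] at hk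
      exact (QuotientGroup.eq_one_iff _).mp hk
    have hP₁ : (pCore p (L ⧸ C)).comap (QuotientGroup.mk' C) ≤ Subgroup.centralizer (V₁ : Set L) := by
      apply pCore_le_of_quotient_pCore_eq_bot _ hO₁
      intro x hx
      obtain ⟨k, hk⟩ := hPp x hx
      exact ⟨k, (hCeq.le hk).1⟩
    have hP₂ : (pCore p (L ⧸ C)).comap (QuotientGroup.mk' C) ≤ Subgroup.centralizer (V₂ : Set L) := by
      apply pCore_le_of_quotient_pCore_eq_bot _ hO₂
      intro x hx
      obtain ⟨k, hk⟩ := hPp x hx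
      exact ⟨k, (hCeq.le hk).2⟩
    rw [eq_bot_iff]
    intro x hx
    obtain ⟨g, rfl⟩ := QuotientGroup.mk_surjective x
    have hg : g ∈ (pCore p (L ⧸ C)).comap (QuotientGroup.mk' C) := hx
    have hgC : g ∈ C := hCeq.ge ⟨hP₁ hg, hP₂ hg⟩
    rw [Subgroup.mem_bot]
    exact (QuotientGroup.eq_one_iff g).mpr hgC

theorem exists_largest_pReduced [Finite L]
    (hchar : Subgroup.centralizer (pCore p L : Set L) ≤ pCore p L) :
    ∃ Y : Subgroup L, IsPReducedNormal p Y ∧ ∀ V : Subgroup L, IsPReducedNormal p V → V ≤ Y := by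
  refine ⟨sSup {V : Subgroup L | IsPReducedNormal p V}, ?_, fun V hV => le_sSup hV⟩
  exact Cfsg.Agent.H1.sSup_mem_of_sup_closed {V : Subgroup L | IsPReducedNormal p V}
    isPReducedNormal_bot (fun A hA B hB => isPReducedNormal_sup hchar hA hB)

end Cfsg.Agent.Lib.Helper7
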