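import Mathlib
import Cfsg.Prelude.Def_LocalStructure
import Cfsg.Prelude.Def_LocalEven
import Cfsg.Prelude.Def_Amalgam
import Cfsg.Agent.Lib.Helper7.PReduced
import Cfsg.Agent.Lib.Helper7.SylowLib

set_option autoImplicit false

namespace Cfsg.Agent.Lib.Helper7

open Cfsg

variable {L : Type*} [Group L] {p : ℕ}

/-- `Ω₁(Z(A))` commutes with injective maps. -/
theorem omegaOne_center_map {X : Type*} [Group X] (f : L →* X) (hf : Function.Injective f)
    (A : Subgroup L) :
    omegaOne p (A.map f ⊓ Subgroup.centralizer ((A.map f : Subgroup X) : Set X)) =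
      (omegaOne p (A ⊓ Subgroup.centralizer (A : Set L))).map f := by
  unfold omegaOne
  rw [MonoidHom.map_closure]
  congr 1
  ext x
  simp only [Set.mem_ofPred_eq, Set.mem_image]
  constructor
  · rintro ⟨⟨⟨a, ha, rfl⟩, hc⟩, hp⟩
    refine ⟨a, ⟨⟨ha, ?_⟩, ?_⟩, rfl⟩
    · show a ∈ Subgroup.centralizer (A : Set L)
      rw [Subgroup.mem_centralizer_iff]
      intro b hb
      apply hf
      rw [map_mul, map_mul]
      exact Subgroup.mem_centralizer_iff.mp hc (f b) ⟨b, hb, rfl⟩
    · apply hf
      rw [map_pow, hp, map_one]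
  · rintro ⟨a, ⟨⟨ha, hc⟩, hp⟩, rfl⟩
    refine ⟨⟨⟨a, ha, rfl⟩, ?_⟩, ?_⟩
    · show f a ∈ Subgroup.centralizer ((A.map f : Subgroup X) : Set X)
      rw [Subgroup.mem_centralizer_iff]
      rintro _ ⟨b, hb, rfl⟩
      rw [← map_mul, ← map_mul, Subgroup.mem_centralizer_iff.mp hc b hb]
    · rw [← map_pow, hp, map_one]

/-- The internal version of `sylowCenterClosure`. -/
def zClosure (p : ℕ) (L : Type*) [Group L] : Subgroup L :=
  ⨆ S : Sylow p L, omegaOne p ((S : Subgroup L) ⊓ Subgroup.centralizer ((S : Subgroup L) : Set L))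

theorem sylowCenterClosure_eq_map {H : Type*} [Group H] (K : Subgroup H) :
    sylowCenterClosure p K = (zClosure p ↥K).map K.subtype := by
  unfold sylowCenterClosure zClosure
  rw [Subgroup.map_iSup]
  congr 1
  funext S
  exact omegaOne_center_map K.subtype K.subtype_injective _

theorem zClosure_normal [Fact p.Prime] : (zClosure p L).Normal := by
  constructor
  intro n hn g
  have hmap : (zClosure p L).map (MulAut.conj g).toMonoidHom ≤ zClosure p L := by
    unfold zClosure
    rw [Subgroup.map_iSup]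
    apply iSup_le
    intro S
    have e := omegaOne_center_map (p := p) (MulAut.conj g).toMonoidHom (MulAut.conj g).injective
      (S : Subgroup L)
    rw [← e]
    have : (S : Subgroup L).map (MulAut.conj g).toMonoidHom = ((g • S : Sylow p L) : Subgroup L) := by
      rw [Sylow.coe_subgroup_smul]
      rfl
    rw [this]
    exact le_iSup (fun S : Sylow p L =>
      omegaOne p ((S : Subgroup L) ⊓ Subgroup.centralizer ((S : Subgroup L) : Set L))) (g • S)
  have : (MulAut.conj g).toMonoidHom n ∈ (zClosure p L).map (MulAut.conj g).toMonoidHom :=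
    ⟨n, hn, rfl⟩
  exact hmap this

/-- `Ω₁(Z(O_p(L)))` as an explicit set (a subgroup since `Z(O_p(L))` is abelian). -/
def omegaCenterPCore (p : ℕ) (L : Type*) [Group L] : Subgroup L where
  carrier := {z | z ∈ pCore p L ⊓ Subgroup.centralizer (pCore p L : Set L) ∧ z ^ p = 1}
  one_mem' := ⟨Subgroup.one_mem _, one_pow _⟩
  mul_mem' := by
    rintro a b ⟨ha, hap⟩ ⟨hb, hbp⟩
    refine ⟨Subgroup.mul_mem _ ha hb, ?_⟩
    have hc : Commute a b := (Subgroup.mem_centralizer_iff.mp hb.2 a ha.1)
    rw [hc.mul_pow, hap, hbp, one_mul]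
  inv_mem' := by
    rintro a ⟨ha, hap⟩
    exact ⟨Subgroup.inv_mem _ ha, by rw [inv_pow, hap, inv_one]⟩

theorem mem_omegaCenterPCore {z : L} : z ∈ omegaCenterPCore p L ↔
    z ∈ pCore p L ⊓ Subgroup.centralizer (pCore p L : Set L) ∧ z ^ p = 1 := Iff.rfl

theorem omegaCenterPCore_le_omegaOne :
    omegaCenterPCore p L ≤ omegaOne p (pCore p L ⊓ Subgroup.centralizer (pCore p L : Set L)) := by
  intro z hz
  exact Subgroup.subset_closure hz

theorem isElementaryAbelian_of_le_omegaCenterPCore {V : Subgroup L} (hV : V ≤ omegaCenterPCore p L) :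
    IsElementaryAbelian p V := by
  rw [isElementaryAbelian_iff]
  refine ⟨fun a ha b hb => ?_, fun a ha => (hV ha).2⟩
  exact Subgroup.mem_centralizer_iff.mp (hV hb).1.2 a (hV ha).1.1

theorem zClosure_le_omegaCenterPCore [Fact p.Prime]
    (hchar : Subgroup.centralizer (pCore p L : Set L) ≤ pCore p L) :
    zClosure p L ≤ omegaCenterPCore p L := by
  unfold zClosure
  apply iSup_le
  intro S
  unfold omegaOne
  rw [Subgroup.closure_le]
  rintro z ⟨⟨hzS, hzC⟩, hzp⟩
  have h1 : z ∈ Subgroup.centralizer (pCore p L : Set L) :=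
    Subgroup.centralizer_le (show (pCore p L : Set L) ⊆ (S : Subgroup L) from
      Cfsg.Agent.H1.pCore_le_sylow S) hzC
  exact ⟨⟨hchar h1, h1⟩, hzp⟩

theorem isPReducedNormal_zClosure [Finite L] [Fact p.Prime]
    (hchar : Subgroup.centralizer (pCore p L : Set L) ≤ pCore p L) :
    IsPReducedNormal p (zClosure p L) := by
  haveI hn : (zClosure p L).Normal := zClosure_normal
  refine ⟨hn, isElementaryAbelian_of_le_omegaCenterPCore (zClosure_le_omegaCenterPCore hchar),
    inferInstance, ?_⟩
  set C := Subgroup.centralizer ((zClosure p L : Subgroup L) : Set L) with hC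
  rw [eq_bot_iff]
  intro x hx
  obtain ⟨g, rfl⟩ := QuotientGroup.mk_surjective x
  rw [Subgroup.mem_bot]
  refine (QuotientGroup.eq_one_iff g).mpr ?_
  -- g centralizes every Ω₁(Z(S))
  show g ∈ Subgroup.centralizer ((zClosure p L : Subgroup L) : Set L)
  rw [Subgroup.mem_centralizer_iff_commutator_eq_one]
  have hle : zClosure p L ≤ Subgroup.centralizer ({g} : Set L) := by
    unfold zClosure
    apply iSup_le
    intro S
    unfold omegaOne
    rw [Subgroup.closure_le]
    rintro z ⟨⟨hzS, hzC⟩, hzp⟩
    have hS := Cfsg.Agent.H1.pCore_le_sylow (S.mapSurjective (QuotientGroup.mk'_surjective C))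
    have hg : QuotientGroup.mk' C g ∈ (S : Subgroup L).map (QuotientGroup.mk' C) := hS hx
    obtain ⟨s, hs, hsg⟩ := hg
    have hc : s⁻¹ * g ∈ C := by
      rw [← QuotientGroup.eq]
      exact hsg
    have hzV : z ∈ zClosure p L := by
      have : omegaOne p ((S : Subgroup L) ⊓ Subgroup.centralizer ((S : Subgroup L) : Set L)) ≤
          zClosure p L :=
        le_iSup (fun S : Sylow p L =>
          omegaOne p ((S : Subgroup L) ⊓ Subgroup.centralizer ((S : Subgroup L) : Set L))) S
      exact this (Subgroup.subset_closure ⟨⟨hzS, hzC⟩, hzp⟩)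
    have h1 : z * (s⁻¹ * g) = (s⁻¹ * g) * z := (Subgroup.mem_centralizer_iff.mp hc z hzV)
    have h2 : s * z = z * s := Subgroup.mem_centralizer_iff.mp hzC s hs
    show z ∈ Subgroup.centralizer ({g} : Set L)
    rw [Subgroup.mem_centralizer_iff]
    intro y hy
    rw [Set.mem_singleton_iff] at hy
    subst hy
    have : y = s * (s⁻¹ * y) := by group
    rw [this, mul_assoc, ← h1, ← mul_assoc, h2, mul_assoc]
  intro y hy
  have := Subgroup.mem_centralizer_iff.mp (hle hy) g rfl
  rw [commutatorElement_def, ← this]; group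

theorem isPReducedNormal_largestPReduced [Finite L]
    (hchar : Subgroup.centralizer (pCore p L : Set L) ≤ pCore p L) :
    IsPReducedNormal p (largestPReduced p L) := by
  obtain ⟨Y, hY, hmax⟩ := exists_largest_pReduced hchar
  have : largestPReduced p L = Y := by
    apply le_antisymm
    · exact sSup_le (fun V hV => hmax V hV)
    · exact le_sSup hY
  rw [this]; exact hY

theorem zClosure_le_largestPReduced [Finite L] [Fact p.Prime]
    (hchar : Subgroup.centralizer (pCore p L : Set L) ≤ pCore p L) :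
    zClosure p L ≤ largestPReduced p L :=
  le_sSup (isPReducedNormal_zClosure hchar)

theorem largestPReduced_le_omegaCenterPCore [Finite L]
    (hchar : Subgroup.centralizer (pCore p L : Set L) ≤ pCore p L) :
    largestPReduced p L ≤ omegaCenterPCore p L := by
  have h := isPReducedNormal_largestPReduced hchar
  intro y hy
  exact ⟨isPReducedNormal_le_center_pCore hchar h hy,
    ((isElementaryAbelian_iff _).mp h.2.1).2 y hy⟩

end Cfsg.Agent.Lib.Helper7
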