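import Mathlib
import Cfsg.Prelude.Def_LocalStructure
import Cfsg.Prelude.Def_LocalEven
import Cfsg.Prelude.Def_Amalgam
import Cfsg.Agent.Lib.Helper7.PReduced2

set_option autoImplicit false

namespace Cfsg.Agent.Lib.Helper7

open Cfsg

variable {H : Type*} [Group H] {p : ℕ}

theorem largestPReducedOf_le (L : Subgroup H) : largestPReducedOf p L ≤ L :=
  Subgroup.map_subtype_le _

theorem le_normalizer_map_subtype_of_normal (L : Subgroup H) (Y : Subgroup ↥L) [hY : Y.Normal] :
    L ≤ Subgroup.normalizer ((Y.map L.subtype : Subgroup H) : Set H) := by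
  intro g hg
  have h1 : (⟨g, hg⟩ : ↥L) ∈ Subgroup.normalizer (Y : Set ↥L) := by
    rw [Subgroup.normalizer_eq_top]; trivial
  exact Subgroup.le_normalizer_map L.subtype ⟨⟨g, hg⟩, h1, rfl⟩

/-- `L` normalizes `Y_L`. -/
theorem le_normalizer_largestPReducedOf [Finite H] (L : Subgroup H)
    (hL : Subgroup.centralizer (pCore p ↥L : Set ↥L) ≤ pCore p ↥L) :
    L ≤ Subgroup.normalizer (largestPReducedOf p L : Set H) := by
  haveI : (largestPReduced p ↥L).Normal := (isPReducedNormal_largestPReduced hL).1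
  exact le_normalizer_map_subtype_of_normal L _

theorem normalizer_le_normalizer_centralizer'' (Y : Subgroup H) :
    Subgroup.normalizer (Y : Set H) ≤
      Subgroup.normalizer ((Subgroup.centralizer (Y : Set H) : Subgroup H) : Set H) := by
  intro g hg
  rw [Subgroup.mem_normalizer_iff] at hg ⊢
  have key : ∀ k : H, (∀ y, y ∈ Y ↔ k * y * k⁻¹ ∈ Y) → ∀ c ∈ Subgroup.centralizer (Y : Set H),
      k * c * k⁻¹ ∈ Subgroup.centralizer (Y : Set H) := by
    intro k hk c hc
    rw [Subgroup.mem_centralizer_iff]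
    intro y hy
    have hy' : k⁻¹ * y * k ∈ Y := by
      rw [hk]
      have e0 : k * (k⁻¹ * y * k) * k⁻¹ = y := by group
      rw [e0]; exact hy
    have := Subgroup.mem_centralizer_iff.mp hc _ hy'
    have e1 : y * (k * c * k⁻¹) = k * ((k⁻¹ * y * k) * c) * k⁻¹ := by group
    have e2 : k * c * k⁻¹ * y = k * (c * (k⁻¹ * y * k)) * k⁻¹ := by group
    rw [e1, e2, this]
  intro c
  constructor
  · exact key g hg c
  · intro hc
    have hg' : ∀ y, y ∈ Y ↔ g⁻¹ * y * g⁻¹⁻¹ ∈ Y := by
      intro y
      rw [hg (g⁻¹ * y * g⁻¹⁻¹)]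
      have : g * (g⁻¹ * y * g⁻¹⁻¹) * g⁻¹ = y := by group
      rw [this]
    have := key g⁻¹ hg' _ hc
    convert this using 1; group

theorem largest_pReduced_sylow_props [Finite H] [Fact p.Prime] (T : Sylow p H) (L : Subgroup H)
    (hTL : (T : Subgroup H) ≤ L)
    (hL : Subgroup.centralizer (pCore p ↥L : Set ↥L) ≤ pCore p ↥L) (T₀ : Subgroup H)
    (hT₀ : T₀ = (T : Subgroup H) ⊓
      Subgroup.centralizer (((largestPReducedOf p L) : Subgroup H) : Set H)) :
    (∃ P : Sylow p ↥(Subgroup.centralizer (((largestPReducedOf p L) : Subgroup H) : Set H)),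
      (P : Subgroup ↥(Subgroup.centralizer (((largestPReducedOf p L) : Subgroup H) : Set H))) =
        T₀.subgroupOf (Subgroup.centralizer (((largestPReducedOf p L) : Subgroup H) : Set H))) ∧
    (pCoreOf p L) ≤ T₀ ∧
    T₀ ≤ L ⊓ Subgroup.centralizer (((largestPReducedOf p L) : Subgroup H) : Set H) ∧
    (omegaOne p ((T : Subgroup H) ⊓ Subgroup.centralizer (((T : Subgroup H) : Subgroup H) : Set H))) ≤
      sylowCenterClosure p L ∧
    sylowCenterClosure p L ≤ (largestPReducedOf p L) ∧
    (largestPReducedOf p L) ≤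
      (omegaOne p ((pCoreOf p L) ⊓ Subgroup.centralizer (((pCoreOf p L) : Subgroup H) : Set H))) := by
  set Y := largestPReducedOf p L with hY
  set C := Subgroup.centralizer ((Y : Subgroup H) : Set H) with hC
  have hYint := largestPReduced_le_omegaCenterPCore hL
  -- T normalizes C
  have hTN : (T : Subgroup H) ≤ Subgroup.normalizer ((C : Subgroup H) : Set H) :=
    hTL.trans ((le_normalizer_largestPReducedOf L hL).trans
      (normalizer_le_normalizer_centralizer'' Y))
  refine ⟨?_, ?_, ?_, ?_, ?_, ?_⟩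
  · -- Sylow
    have hK : IsSylowIn p (T : Subgroup H) ((T : Subgroup H) ⊔ C) :=
      IsSylowIn.of_sylow_le T le_sup_left
    have hN : (T : Subgroup H) ⊔ C ≤ Subgroup.normalizer ((C : Subgroup H) : Set H) :=
      sup_le hTN Subgroup.le_normalizer
    have := IsSylowIn.inf_normal hK C le_sup_right hN
    obtain ⟨P, hP⟩ := this.exists_sylow
    exact ⟨P, by rw [hP, hT₀]⟩
  · rw [hT₀]
    apply le_inf
    · -- O_p(L) ≤ T
      rintro _ ⟨x, hx, rfl⟩
      have : x ∈ ((T.subtype hTL : Sylow p ↥L) : Subgroup ↥L) :=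
        Cfsg.Agent.H1.pCore_le_sylow (T.subtype hTL) hx
      rw [Sylow.coe_subtype] at this
      exact Subgroup.mem_subgroupOf.mp this
    · rintro _ ⟨x, hx, rfl⟩
      show (L.subtype x) ∈ Subgroup.centralizer ((Y : Subgroup H) : Set H)
      rw [Subgroup.mem_centralizer_iff]
      rintro _ ⟨y, hy, rfl⟩
      have := Subgroup.mem_centralizer_iff.mp (hYint hy).1.2 x hx
      rw [← map_mul, ← map_mul, this]
  · rw [hT₀]
    exact inf_le_inf_right _ hTL
  · rw [sylowCenterClosure]
    have hmap : ((T.subtype hTL : Sylow p ↥L) : Subgroup ↥L).map L.subtype = (T : Subgroup H) := by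
      rw [Sylow.coe_subtype]
      exact Subgroup.map_subgroupOf_eq_of_le hTL
    have := le_iSup (fun S : Sylow p ↥L => omegaOne p (((S : Subgroup ↥L).map L.subtype) ⊓
      Subgroup.centralizer (((S : Subgroup ↥L).map L.subtype : Subgroup H) : Set H))) (T.subtype hTL)
    simp only [hmap] at this
    exact this
  · rw [sylowCenterClosure_eq_map, hY, largestPReducedOf]
    exact Subgroup.map_mono (zClosure_le_largestPReduced hL)
  · rw [hY, largestPReducedOf, pCoreOf, omegaOne_center_map L.subtype L.subtype_injective]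
    exact Subgroup.map_mono (hYint.trans omegaCenterPCore_le_omegaOne)

end Cfsg.Agent.Lib.Helper7
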