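import Mathlib
import Cfsg.Prelude.Def_LocalStructure
import Cfsg.Prelude.Def_LocalEven
import Cfsg.Prelude.Def_Amalgam
import Cfsg.Agent.Lib.Helper7.PReduced3

set_option autoImplicit false

namespace Cfsg.Agent.Lib.Helper7

open Cfsg

section internal
variable {L : Type*} [Group L] {p : ℕ}

theorem pCore_quotient_eq_bot_of_forall (C : Subgroup L) [C.Normal]
    (h : ∀ P : Subgroup L, P.Normal → (∀ x ∈ P, ∃ k : ℕ, x ^ p ^ k ∈ C) → P ≤ C) :
    pCore p (L ⧸ C) = ⊥ := by
  haveI hOn : (pCore p (L ⧸ C)).Normal := pCore_normal p (L ⧸ C)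
  have hPn : ((pCore p (L ⧸ C)).comap (QuotientGroup.mk' C)).Normal := hOn.comap _
  have hPp : ∀ x ∈ (pCore p (L ⧸ C)).comap (QuotientGroup.mk' C), ∃ k : ℕ, x ^ p ^ k ∈ C := by
    intro x hx
    obtain ⟨k, hk⟩ := pow_eq_one_of_mem_isPGroup (pCore_isPGroup p (L ⧸ C)) hx
    refine ⟨k, ?_⟩
    rw [← map_pow] at hk
    exact (QuotientGroup.eq_one_iff _).mp hk
  have hle := h _ hPn hPp
  rw [eq_bot_iff]
  intro x hx
  obtain ⟨g, rfl⟩ := QuotientGroup.mk_surjective x
  rw [Subgroup.mem_bot]
  exact (QuotientGroup.eq_one_iff g).mpr (hle hx)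

theorem exists_pow_mul_eq (C : Subgroup L) {d c : L} (hd : d ∈ Subgroup.normalizer (C : Set L))
    (hc : c ∈ C) (n : ℕ) : ∃ c' ∈ C, (d * c) ^ n = d ^ n * c' := by
  induction n with
  | zero => exact ⟨1, Subgroup.one_mem _, by simp⟩
  | succ n ih =>
    obtain ⟨c', hc', e⟩ := ih
    refine ⟨d⁻¹ * c' * d * c, ?_, ?_⟩
    · apply Subgroup.mul_mem _ _ hc
      have := (Subgroup.mem_normalizer_iff'.mp hd (d⁻¹ * c')).mpr (by
        have e0 : d * (d⁻¹ * c') = c' := by group
        rw [e0]; exact hc')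
      exact this
    · rw [pow_succ, e, pow_succ]; group

end internal

variable {H : Type*} [Group H] {p : ℕ}

theorem largestPReducedOf_le_sylow [Finite H] [Fact p.Prime] (T : Sylow p H) (M : Subgroup H)
    (hTM : (T : Subgroup H) ≤ M)
    (hM : Subgroup.centralizer (pCore p ↥M : Set ↥M) ≤ pCore p ↥M) :
    largestPReducedOf p M ≤ T := by
  rintro _ ⟨y, hy, rfl⟩
  have h1 : y ∈ pCore p ↥M := (largestPReduced_le_omegaCenterPCore hM hy).1.1
  have : y ∈ ((T.subtype hTM : Sylow p ↥M) : Subgroup ↥M) :=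
    Cfsg.Agent.H1.pCore_le_sylow (T.subtype hTM) h1
  rw [Sylow.coe_subtype] at this
  exact Subgroup.mem_subgroupOf.mp this

theorem largestPReducedOf_le_of_sup_eq [Finite H] [Fact p.Prime] (T : Sylow p H) (L M : Subgroup H)
    (hTL : (T : Subgroup H) ≤ L) (hTM : (T : Subgroup H) ≤ M)
    (hM : Subgroup.centralizer (pCore p ↥M : Set ↥M) ≤ pCore p ↥M)
    (h : L ⊔ Subgroup.centralizer (((largestPReducedOf p M) : Subgroup H) : Set H) =
      M ⊔ Subgroup.centralizer (((largestPReducedOf p M) : Subgroup H) : Set H)) :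
    largestPReducedOf p M ≤ largestPReducedOf p L := by
  set Y := largestPReducedOf p M with hY
  set C := Subgroup.centralizer ((Y : Subgroup H) : Set H) with hC
  have hY'red := isPReducedNormal_largestPReduced hM
  obtain ⟨hY'n, hY'e, hCY'n, hO⟩ := hY'red
  haveI := hCY'n
  have hYT : Y ≤ T := largestPReducedOf_le_sylow T M hTM hM
  have hYL : Y ≤ L := hYT.trans hTL
  have hMNY : M ≤ Subgroup.normalizer ((Y : Subgroup H) : Set H) :=
    le_normalizer_largestPReducedOf M hM
  have hCNY : C ≤ Subgroup.normalizer ((Y : Subgroup H) : Set H) :=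
    Subgroup.centralizer_le_normalizer _
  have hNY : L ≤ Subgroup.normalizer ((Y : Subgroup H) : Set H) :=
    (le_sup_left.trans h.le).trans (sup_le hMNY hCNY)
  have hNC := normalizer_le_normalizer_centralizer'' Y
  have hLC : L ≤ Subgroup.normalizer ((C : Subgroup H) : Set H) := hNY.trans hNC
  have hMC : M ≤ Subgroup.normalizer ((C : Subgroup H) : Set H) := hMNY.trans hNC
  set V : Subgroup ↥L := Y.subgroupOf L with hV
  haveI hVn : V.Normal := (Subgroup.normal_subgroupOf_iff_le_normalizer hYL).mpr hNY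
  have hVe : IsElementaryAbelian p V := by
    rw [isElementaryAbelian_iff]
    rw [isElementaryAbelian_iff] at hY'e
    constructor
    · intro a ha b hb
      obtain ⟨a', ha', hae⟩ := Subgroup.mem_subgroupOf.mp ha
      obtain ⟨b', hb', hbe⟩ := Subgroup.mem_subgroupOf.mp hb
      apply Subtype.ext
      have := congrArg (fun z : ↥M => (z : H)) (hY'e.1 a' ha' b' hb')
      simp only [Subgroup.coe_mul] at this
      rw [Subgroup.coe_mul, Subgroup.coe_mul]
      rw [show (a : H) = M.subtype a' from hae.symm, show (b : H) = M.subtype b' from hbe.symm]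
      exact this
    · intro a ha
      obtain ⟨a', ha', hae⟩ := Subgroup.mem_subgroupOf.mp ha
      apply Subtype.ext
      have := congrArg (fun z : ↥M => (z : H)) (hY'e.2 a' ha')
      simp only [Subgroup.coe_pow, Subgroup.coe_one] at this
      rw [Subgroup.coe_pow, Subgroup.coe_one, show (a : H) = M.subtype a' from hae.symm]
      exact this
  have hCV : ∀ x : ↥L, x ∈ Subgroup.centralizer (V : Set ↥L) ↔ (x : H) ∈ C := by
    intro x
    rw [Subgroup.mem_centralizer_iff, hC, Subgroup.mem_centralizer_iff]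
    constructor
    · intro hx y hy
      have := congrArg (fun z : ↥L => (z : H)) (hx ⟨y, hYL hy⟩ (Subgroup.mem_subgroupOf.mpr hy))
      simpa using this
    · intro hx v hv
      apply Subtype.ext
      rw [Subgroup.coe_mul, Subgroup.coe_mul]
      exact hx v (Subgroup.mem_subgroupOf.mp hv)
  have hCY' : ∀ x : ↥M, x ∈ Subgroup.centralizer ((largestPReduced p ↥M : Subgroup ↥M) : Set ↥M) ↔
      (x : H) ∈ C := by
    intro x
    rw [Subgroup.mem_centralizer_iff, hC, Subgroup.mem_centralizer_iff]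
    constructor
    · rintro hx _ ⟨y, hy, rfl⟩
      have := congrArg (fun z : ↥M => (z : H)) (hx y hy)
      simpa using this
    · intro hx v hv
      apply Subtype.ext
      rw [Subgroup.coe_mul, Subgroup.coe_mul]
      exact hx v ⟨v, hv, rfl⟩
  have hred : IsPReducedNormal p V := by
    refine ⟨hVn, hVe, inferInstance, ?_⟩
    apply pCore_quotient_eq_bot_of_forall
    intro P hPn hPp
    haveI := hPn
    set P' := P.map L.subtype with hP'
    have hP'L : P' ≤ L := Subgroup.map_subtype_le _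
    have hP'N : L ≤ Subgroup.normalizer ((P' : Subgroup H) : Set H) :=
      le_normalizer_map_subtype_of_normal L P
    have hLsup : L ⊔ C ≤ Subgroup.normalizer (((P' ⊔ C : Subgroup H)) : Set H) := by
      apply sup_le
      · exact (le_inf hP'N hLC).trans (Subgroup.normalizer_inf_normalizer_le_normalizer_sup P' C)
      · exact le_sup_right.trans Subgroup.le_normalizer
    have hMsup : M ≤ Subgroup.normalizer (((P' ⊔ C : Subgroup H)) : Set H) :=
      (le_sup_left.trans h.ge).trans hLsup
    set Q : Subgroup ↥M := (P' ⊔ C).subgroupOf M with hQ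
    haveI hQn : Q.Normal := Subgroup.normal_subgroupOf_of_le_normalizer hMsup
    have hQp : ∀ x ∈ Q, ∃ k : ℕ,
        x ^ p ^ k ∈ Subgroup.centralizer ((largestPReduced p ↥M : Subgroup ↥M) : Set ↥M) := by
      intro x hx
      have hx' : (x : H) ∈ ((P' ⊔ C : Subgroup H) : Set H) := Subgroup.mem_subgroupOf.mp hx
      rw [Subgroup.coe_mul_of_left_le_normalizer_right P' C (hP'L.trans hLC)] at hx'
      obtain ⟨d, hd, c, hc, hdc⟩ := hx'
      obtain ⟨d', hd', rfl⟩ := hd
      obtain ⟨k, hk⟩ := hPp d' hd'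
      refine ⟨k, ?_⟩
      rw [hCY']
      obtain ⟨c', hc', e⟩ := exists_pow_mul_eq C (hLC d'.2) hc (p ^ k)
      have hdk : (d' : H) ^ p ^ k ∈ C := by
        have := (hCV _).mp hk
        simpa using this
      rw [Subgroup.coe_pow]
      have hdc' : (x : H) = (d' : H) * c := hdc.symm
      rw [hdc', e]
      exact Subgroup.mul_mem _ hdk hc'
    have hQle := pCore_le_of_quotient_pCore_eq_bot _ hO Q hQp
    intro x hx
    rw [hCV]
    have hxsup : (x : H) ∈ ((M ⊔ C : Subgroup H) : Set H) := by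
      have : (x : H) ∈ L ⊔ C := Subgroup.mem_sup_left x.2
      rw [h] at this
      exact this
    rw [Subgroup.coe_mul_of_left_le_normalizer_right M C hMC] at hxsup
    obtain ⟨m, hm, c, hc, hmc⟩ := hxsup
    have hmQ : (⟨m, hm⟩ : ↥M) ∈ Q := by
      rw [hQ, Subgroup.mem_subgroupOf]
      show m ∈ P' ⊔ C
      have : m = (x : H) * c⁻¹ := by rw [← hmc]; group
      rw [this]
      exact Subgroup.mul_mem _ (Subgroup.mem_sup_left ⟨x, hx, rfl⟩)
        (Subgroup.mem_sup_right (Subgroup.inv_mem _ hc))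
    have hmC : m ∈ C := (hCY' ⟨m, hm⟩).mp (hQle hmQ)
    rw [← hmc]
    exact Subgroup.mul_mem _ hmC hc
  have hle : V ≤ largestPReduced p ↥L := le_sSup hred
  have := Subgroup.map_mono (f := L.subtype) hle
  rw [hV, Subgroup.map_subgroupOf_eq_of_le hYL] at this
  exact this

end Cfsg.Agent.Lib.Helper7
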