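import Mathlib
import Cfsg.Prelude.Def_LocalStructure
import Cfsg.Prelude.Def_LocalEven
import Cfsg.Prelude.Def_Amalgam
import Cfsg.Agent.Lib.Helper7.Large3
import Cfsg.Agent.Lib.Helper7.PReduced4

set_option autoImplicit false

namespace Cfsg.Agent.Lib.Helper7

open Cfsg
open scoped commutatorElement

variable {H : Type*} [Group H] {p : ℕ}

/-- Ambient version of `O^p(B)`. -/
def pRes (p : ℕ) (B : Subgroup H) : Subgroup H :=
  Subgroup.closure {x : H | x ∈ B ∧ Nat.Coprime (orderOf x) p}

theorem pResidual_map_subtype_eq (B : Subgroup H) :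
    (pResidual p ↥B).map B.subtype = pRes p B := by
  unfold pResidual pRes
  rw [MonoidHom.map_closure]
  congr 1
  ext x
  simp only [Set.mem_image, Set.mem_ofPred_eq]
  constructor
  · rintro ⟨b, hb, rfl⟩
    refine ⟨b.2, ?_⟩
    rw [Subgroup.coe_subtype, Subgroup.orderOf_coe]
    exact hb
  · rintro ⟨hx, hc⟩
    refine ⟨⟨x, hx⟩, ?_, rfl⟩
    rw [← Subgroup.orderOf_coe]
    exact hc

theorem pRes_le (B : Subgroup H) : pRes p B ≤ B := by
  unfold pRes
  rw [Subgroup.closure_le]
  exact fun x hx => hx.1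

theorem pRes_mono {B K : Subgroup H} (h : B ≤ K) : pRes p B ≤ pRes p K := by
  unfold pRes
  exact Subgroup.closure_mono (fun x hx => ⟨h hx.1, hx.2⟩)

theorem mem_pRes {B : Subgroup H} {x : H} (hx : x ∈ B) (hc : Nat.Coprime (orderOf x) p) :
    x ∈ pRes p B := Subgroup.subset_closure ⟨hx, hc⟩

theorem conj_mem_pRes {B : Subgroup H} {g : H} (hg : ∀ b ∈ B, g * b * g⁻¹ ∈ B) {x : H}
    (hx : x ∈ pRes p B) : g * x * g⁻¹ ∈ pRes p B := by
  have hle : pRes p B ≤ (pRes p B).comap (MulAut.conj g).toMonoidHom := by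
    conv_lhs => unfold pRes
    rw [Subgroup.closure_le]
    rintro y ⟨hy, hc⟩
    show g * y * g⁻¹ ∈ pRes p B
    apply mem_pRes (hg y hy)
    have : orderOf (g * y * g⁻¹) = orderOf y := by
      have := orderOf_injective (MulAut.conj g).toMonoidHom (MulAut.conj g).injective y
      simpa [MulAut.conj_apply] using this
    rw [this]; exact hc
  exact hle hx

theorem normalizer_le_normalizer_pRes (B : Subgroup H) :
    Subgroup.normalizer (B : Set H) ≤ Subgroup.normalizer ((pRes p B : Subgroup H) : Set H) := by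
  intro g hg
  rw [Subgroup.mem_normalizer_iff]
  have h1 : ∀ b ∈ B, g * b * g⁻¹ ∈ B := fun b hb => (Subgroup.mem_normalizer_iff.mp hg b).mp hb
  have h2 : ∀ b ∈ B, g⁻¹ * b * g⁻¹⁻¹ ∈ B := fun b hb => by
    rw [Subgroup.mem_normalizer_iff.mp hg]
    have : g * (g⁻¹ * b * g⁻¹⁻¹) * g⁻¹ = b := by group
    rw [this]; exact hb
  intro x
  constructor
  · exact conj_mem_pRes h1
  · intro hx
    have := conj_mem_pRes h2 hx
    have e : g⁻¹ * (g * x * g⁻¹) * g⁻¹⁻¹ = x := by group
    rw [e] at this; exact this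

/-- An element of order prime to `p` lies in any subgroup containing one of its `p`-power powers. -/
theorem mem_of_pow_mem_of_coprime [Fact p.Prime] {X : Subgroup H} {y : H} (hc : Nat.Coprime (orderOf y) p)
    {k : ℕ} (hk : y ^ p ^ k ∈ X) : y ∈ X := by
  have hc' : Nat.Coprime (p ^ k) (orderOf y) := (Nat.Coprime.pow_right k hc).symm
  obtain ⟨m, hm⟩ := exists_pow_eq_self_of_coprime hc'
  rw [← hm]
  exact Subgroup.pow_mem _ hk m

theorem orderOf_conj' (g y : H) : orderOf (g * y * g⁻¹) = orderOf y := by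
  have := orderOf_injective (MulAut.conj g).toMonoidHom (MulAut.conj g).injective y
  simpa [MulAut.conj_apply] using this

/-- A normal `p`-subgroup normalizes `O^p(B)` for every subnormal subgroup `B`. -/
theorem normal_pGroup_le_normalizer_pRes [Fact p.Prime] (Q : Subgroup H) [hQn : Q.Normal]
    (hQ : IsPGroup p ↥Q) {B : Subgroup H} (hB : B.IsSubnormal) :
    Q ≤ Subgroup.normalizer ((pRes p B : Subgroup H) : Set H) := by
  induction hB with
  | top =>
    refine le_trans ?_ (normalizer_le_normalizer_pRes (⊤ : Subgroup H))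
    rw [Subgroup.normalizer_eq_top]
    exact le_top
  | step B K hle hK hN ih =>
    have hKB : K ≤ Subgroup.normalizer (B : Set H) :=
      (Subgroup.normal_subgroupOf_iff_le_normalizer hle).mp hN
    have hKB' : K ≤ Subgroup.normalizer ((pRes p B : Subgroup H) : Set H) :=
      hKB.trans (normalizer_le_normalizer_pRes B)
    have key : ∀ q ∈ Q, ∀ x ∈ pRes p B, q * x * q⁻¹ ∈ pRes p B := by
      intro q hq
      have hle' : pRes p B ≤ (pRes p B).comap (MulAut.conj q).toMonoidHom := by
        conv_lhs => unfold pRes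
        rw [Subgroup.closure_le]
        rintro b ⟨hb, hc⟩
        show q * b * q⁻¹ ∈ pRes p B
        have hcQ : q * b * q⁻¹ * b⁻¹ ∈ Q := by
          have : q * b * q⁻¹ * b⁻¹ = q * (b * q⁻¹ * b⁻¹) := by group
          rw [this]
          exact Q.mul_mem hq (hQn.conj_mem _ (Q.inv_mem hq) b)
        have hbB : b ∈ pRes p B := mem_pRes hb hc
        have hbR : b ∈ pRes p K := pRes_mono hle hbB
        have hyR : q * b * q⁻¹ ∈ pRes p K := (Subgroup.mem_normalizer_iff.mp (ih hq) b).mp hbR
        have hcK : q * b * q⁻¹ * b⁻¹ ∈ K :=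
          pRes_le K (Subgroup.mul_mem _ hyR (Subgroup.inv_mem _ hbR))
        obtain ⟨k, hk⟩ := pow_eq_one_of_mem_isPGroup hQ hcQ
        obtain ⟨b', hb', e⟩ := exists_pow_mul_eq (pRes p B) (hKB' hcK) hbB (p ^ k)
        have hy : q * b * q⁻¹ = (q * b * q⁻¹ * b⁻¹) * b := by group
        have hpow : (q * b * q⁻¹) ^ p ^ k ∈ pRes p B := by
          rw [hy, e, hk, one_mul]; exact hb'
        have hco : Nat.Coprime (orderOf (q * b * q⁻¹)) p := by
          rw [orderOf_conj']; exact hc
        exact mem_of_pow_mem_of_coprime hco hpow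
      exact fun x hx => hle' hx
    intro q hq
    rw [Subgroup.mem_normalizer_iff]
    intro x
    constructor
    · exact key q hq x
    · intro hx
      have := key q⁻¹ (Q.inv_mem hq) _ hx
      have e : q⁻¹ * (q * x * q⁻¹) * q⁻¹⁻¹ = x := by group
      rw [e] at this; exact this

/-- A subnormal `p`-subgroup lies in `O_p`. -/
theorem pCoreOf_le_pCore_of_isSubnormal [Finite H] [Fact p.Prime] {A : Subgroup H}
    (hA : A.IsSubnormal) : pCoreOf p A ≤ pCore p H := by
  induction hA with
  | top =>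
    have hn : (pCoreOf p (⊤ : Subgroup H)).Normal := by
      rw [← Subgroup.normalizer_eq_top_iff, eq_top_iff]
      exact le_normalizer_pCoreOf ⊤
    exact le_pCore hn (pCoreOf_isPGroup ⊤)
  | step A K hle hK hN ih =>
    have hKA : K ≤ Subgroup.normalizer (A : Set H) :=
      (Subgroup.normal_subgroupOf_iff_le_normalizer hle).mp hN
    exact (pCoreOf_le_pCoreOf_of_normal hle hKA).trans ih

theorem le_pCore_of_isSubnormal_of_isPGroup [Finite H] [Fact p.Prime] {A : Subgroup H}
    (hA : A.IsSubnormal) (hAp : IsPGroup p ↥A) : A ≤ pCore p H :=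
  (le_pCoreOf le_rfl Subgroup.le_normalizer hAp).trans (pCoreOf_le_pCore_of_isSubnormal hA)

theorem subnormal_pGroup_normalizes [Finite H] [Fact p.Prime] (A B : Subgroup H)
    (hA : A.IsSubnormal) (hB : B.IsSubnormal) (hAp : IsPGroup p ↥A)
    (hBres : (pResidual p ↥B).map B.subtype = B) :
    A ≤ Subgroup.normalizer (B : Set H) ∧
      (pResidual p ↥(A ⊔ B)).map (A ⊔ B).subtype = B := by
  rw [pResidual_map_subtype_eq] at hBres
  rw [pResidual_map_subtype_eq]
  haveI : (pCore p H).Normal := pCore_normal p H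
  have hAN : A ≤ Subgroup.normalizer (B : Set H) := by
    have h1 := normal_pGroup_le_normalizer_pRes (pCore p H) (pCore_isPGroup p H) hB
    rw [hBres] at h1
    exact (le_pCore_of_isSubnormal_of_isPGroup hA hAp).trans h1
  refine ⟨hAN, ?_⟩
  apply le_antisymm
  · unfold pRes
    rw [Subgroup.closure_le]
    rintro y ⟨hy, hc⟩
    have hy' : y ∈ ((A ⊔ B : Subgroup H) : Set H) := hy
    rw [Subgroup.coe_mul_of_left_le_normalizer_right A B hAN] at hy'
    obtain ⟨a, ha, b, hb, rfl⟩ := hy'
    obtain ⟨k, hk⟩ := pow_eq_one_of_mem_isPGroup hAp ha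
    obtain ⟨b', hb', e⟩ := exists_pow_mul_eq B (hAN ha) hb (p ^ k)
    have hpow : (a * b) ^ p ^ k ∈ B := by
      rw [e, hk, one_mul]; exact hb'
    exact mem_of_pow_mem_of_coprime hc hpow
  · conv_lhs => rw [← hBres]
    exact pRes_mono le_sup_right

end Cfsg.Agent.Lib.Helper7
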