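import Mathlib
import Cfsg.Agent.S0022
import Cfsg.Agent.S0023
import Cfsg.Agent.H1.PQ
import Cfsg.Agent.Lib.Lead.Conj
import Cfsg.Agent.Lib.Helper7.SubnormalPRes
import Cfsg.Agent.Lib.Helper7.SubnormalClosure

set_option autoImplicit false

namespace Cfsg.Agent.Lib.Helper7

open Cfsg.Agent.Lib.Lead.Conj

section identity
variable {M : Type*} [CommMonoid M] {p : ℕ} [Fact p.Prime]

/-- The "lines through the origin" identity in `(ZMod p)²`. -/
theorem prod_lines_identity (F : ZMod p → ZMod p → M) :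
    (∏ k, ∏ i, F i (k * i)) * ∏ j, F 0 j = F 0 0 ^ p * ∏ i, ∏ j, F i j := by
  classical
  rw [Finset.prod_comm]
  have h1 : ∀ i : ZMod p, i ≠ 0 → ∏ k, F i (k * i) = ∏ j, F i j := by
    intro i hi
    exact Fintype.prod_equiv (Equiv.mulRight₀ i hi) _ _ (fun k => rfl)
  rw [← Finset.mul_prod_erase Finset.univ (fun i => ∏ k, F i (k * i)) (Finset.mem_univ 0)]
  rw [← Finset.mul_prod_erase Finset.univ (fun i => ∏ j, F i j) (Finset.mem_univ 0)]
  have h2 : ∏ k : ZMod p, F 0 (k * 0) = F 0 0 ^ p := by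
    simp [Finset.prod_const, ZMod.card]
  have h3 : ∏ i ∈ Finset.univ.erase (0 : ZMod p), ∏ k, F i (k * i)
      = ∏ i ∈ Finset.univ.erase (0 : ZMod p), ∏ j, F i j :=
    Finset.prod_congr rfl (fun i hi => h1 i (Finset.ne_of_mem_erase hi))
  rw [h2, h3]
  set X := ∏ i ∈ Finset.univ.erase (0 : ZMod p), ∏ j, F i j
  set Y := ∏ j, F 0 j
  rw [mul_assoc, mul_comm X Y]

end identity

section epow
variable {G : Type*} [Group G] {p : ℕ} [Fact p.Prime]

theorem pow_val_add {x : G} (hx : x ^ p = 1) (i j : ZMod p) :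
    x ^ (i + j).val = x ^ i.val * x ^ j.val := by
  rw [ZMod.val_add, ← pow_eq_pow_mod _ hx, pow_add]

theorem pow_val_mul {x : G} (hx : x ^ p = 1) (k i : ZMod p) :
    x ^ (k * i).val = (x ^ k.val) ^ i.val := by
  rw [ZMod.val_mul, ← pow_eq_pow_mod _ hx, pow_mul]

end epow

section quot
variable {G : Type*} [Group G] {Q : Type*} [CommGroup Q] (K : Subgroup G) (φ : ↥K →* Q)

/-- extension by `1` of a hom defined on a subgroup -/
noncomputable def extendHom (g : G) : Q := by
  classical exact if h : g ∈ K then φ ⟨g, h⟩ else 1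

theorem extendHom_of_mem {g : G} (h : g ∈ K) : extendHom K φ g = φ ⟨g, h⟩ := by
  unfold extendHom; rw [dif_pos h]

theorem extendHom_mul {g h : G} (hg : g ∈ K) (hh : h ∈ K) :
    extendHom K φ (g * h) = extendHom K φ g * extendHom K φ h := by
  rw [extendHom_of_mem K φ hg, extendHom_of_mem K φ hh, extendHom_of_mem K φ (mul_mem hg hh),
    ← map_mul]
  rfl

theorem extendHom_one : extendHom K φ 1 = 1 := by
  rw [extendHom_of_mem K φ (one_mem K)]
  exact map_one φ

theorem extendHom_inv {g : G} (hg : g ∈ K) : extendHom K φ g⁻¹ = (extendHom K φ g)⁻¹ := by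
  rw [extendHom_of_mem K φ hg, extendHom_of_mem K φ (inv_mem hg), ← map_inv]
  rfl

theorem extendHom_pow {g : G} (hg : g ∈ K) (n : ℕ) : extendHom K φ (g ^ n) = (extendHom K φ g) ^ n := by
  rw [extendHom_of_mem K φ hg, extendHom_of_mem K φ (pow_mem hg n), ← map_pow]
  rfl

theorem extendHom_list_prod (l : List G) (hl : ∀ g ∈ l, g ∈ K) :
    extendHom K φ l.prod = (l.map (extendHom K φ)).prod := by
  induction l with
  | nil => simp [extendHom_one]
  | cons g l ih =>
    rw [List.prod_cons, List.map_cons, List.prod_cons,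
      extendHom_mul K φ (hl g (by simp))
        (Subgroup.list_prod_mem _ (fun x hx => hl x (by simp [hx]))),
      ih (fun x hx => hl x (by simp [hx]))]

end quot

section main
variable {G : Type*} [Group G] [Finite G] {p : ℕ} [Fact p.Prime]

/-- norm-type products over `⟨x⟩` die in the quotient when `C_K(x)` does -/
theorem prod_conj_eq_one {Q : Type*} [CommGroup Q] {K N : Subgroup G} (φ : ↥K →* Q)
    (hker : ∀ g (hg : g ∈ K), φ ⟨g, hg⟩ = 1 ↔ g ∈ N)
    (hNK : N ≤ K) (hKN : K ≤ Subgroup.normalizer (N : Set G))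
    {x : G} (hxK : x ∈ Subgroup.normalizer (K : Set G)) (hxN : x ∈ Subgroup.normalizer (N : Set G))
    (hxp : x ^ p = 1) (hcop : (Nat.card (Subgroup.zpowers x)).Coprime (Nat.card K))
    (hC : K ⊓ Subgroup.centralizer {x} ≤ N) {k : G} (hk : k ∈ K) :
    ∏ i : ZMod p, extendHom K φ (x ^ i.val * k * (x ^ i.val)⁻¹) = 1 := by
  classical
  set c : ZMod p → G := fun i => x ^ i.val * k * (x ^ i.val)⁻¹ with hc
  have hcK : ∀ i, c i ∈ K := fun i =>
    (Subgroup.mem_normalizer_iff.mp (Subgroup.pow_mem _ hxK i.val) k).mp hk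
  set L : List (ZMod p) := (Finset.univ : Finset (ZMod p)).toList with hL
  set n : G := (L.map c).prod with hn
  have hmemK : ∀ (f : ZMod p → G), (∀ i, f i ∈ K) → ∀ g ∈ L.map f, g ∈ K := by
    intro f hf g hg
    rw [List.mem_map] at hg
    obtain ⟨i, -, rfl⟩ := hg
    exact hf i
  have hnK : n ∈ K := Subgroup.list_prod_mem _ (hmemK c hcK)
  have h1 : extendHom K φ n = ∏ i, extendHom K φ (c i) := by
    rw [hn, extendHom_list_prod K φ _ (hmemK c hcK), List.map_map, hL, Finset.prod_map_toList]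
    rfl
  have hstep : ∀ i, x * c i * x⁻¹ = c (i + 1) := by
    intro i
    simp only [hc]
    have h1p : ((1 : ZMod p)).val = 1 := by
      haveI : Fact (1 < p) := ⟨(Fact.out : p.Prime).one_lt⟩
      exact ZMod.val_one p
    rw [pow_val_add hxp, h1p, pow_one]
    have : x ^ i.val * x = x * x ^ i.val := (pow_mul_comm' x i.val)
    rw [this]; group
  have h2 : x * n * x⁻¹ = (L.map (fun i => c (i + 1))).prod := by
    have h := map_list_prod (MulAut.conj x).toMonoidHom (L.map c)
    rw [List.map_map] at h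
    calc x * n * x⁻¹ = (MulAut.conj x).toMonoidHom n := rfl
      _ = _ := h
      _ = _ := by
        congr 1
        apply List.map_congr_left
        intro i _
        exact hstep i
  have h3 : extendHom K φ (x * n * x⁻¹) = extendHom K φ n := by
    rw [h2, extendHom_list_prod K φ _ (hmemK _ (fun i => hcK (i + 1))), List.map_map, hL,
      Finset.prod_map_toList, h1]
    exact Fintype.prod_equiv (Equiv.addRight 1) _ _ (fun i => rfl)
  have hxnK : x * n * x⁻¹ ∈ K := (Subgroup.mem_normalizer_iff.mp hxK n).mp hnK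
  have h4 : x * n * x⁻¹ * n⁻¹ ∈ N := by
    have hmem : x * n * x⁻¹ * n⁻¹ ∈ K := mul_mem hxnK (inv_mem hnK)
    rw [← hker _ hmem, ← extendHom_of_mem K φ hmem, extendHom_mul K φ hxnK (inv_mem hnK),
      extendHom_inv K φ hnK, h3, mul_inv_cancel]
  -- all powers of x
  have h5 : ∀ m : ℕ, x ^ m * n * (x ^ m)⁻¹ * n⁻¹ ∈ N := by
    intro m
    induction m with
    | zero => simp
    | succ m ih =>
      have hxm : x ^ m ∈ Subgroup.normalizer (N : Set G) := Subgroup.pow_mem _ hxN m
      have h6 : x ^ m * (x * n * x⁻¹ * n⁻¹) * (x ^ m)⁻¹ ∈ N :=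
        (Subgroup.mem_normalizer_iff.mp hxm _).mp h4
      have := mul_mem h6 ih
      have e : x ^ m * (x * n * x⁻¹ * n⁻¹) * (x ^ m)⁻¹ * (x ^ m * n * (x ^ m)⁻¹ * n⁻¹)
          = x ^ (m + 1) * n * (x ^ (m + 1))⁻¹ * n⁻¹ := by
        rw [pow_succ]; group
      rwa [e] at this
  have hfix : ∀ y ∈ Subgroup.zpowers x, y * n * y⁻¹ * n⁻¹ ∈ N := by
    intro y hy
    rw [← (isOfFinOrder_of_finite x).mem_powers_iff_mem_zpowers, Submonoid.mem_powers_iff] at hy
    obtain ⟨m, rfl⟩ := hy
    exact h5 m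
  obtain ⟨c', hc', hnc'⟩ := Cfsg.Agent.S0022.result (Subgroup.zpowers x) K
    (Subgroup.zpowers_le.mpr hxK) hcop (Or.inl inferInstance) N hNK hKN
    (Subgroup.zpowers_le.mpr hxN) n hnK hfix
  have hc'N : c' ∈ N := by
    apply hC
    refine Subgroup.mem_inf.mpr ⟨(Subgroup.mem_inf.mp hc').1, ?_⟩
    have := (Subgroup.mem_inf.mp hc').2
    exact Subgroup.centralizer_le (Set.singleton_subset_iff.mpr (Subgroup.mem_zpowers x)) this
  have hnN : n ∈ N := by
    have h7 : n⁻¹ ∈ N := by
      have := mul_mem hnc' (inv_mem hc'N)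
      rwa [mul_inv_cancel_right] at this
    simpa using inv_mem h7
  rw [← h1, extendHom_of_mem K φ hnK]
  exact (hker n hnK).mpr hnN


/-- the quotient step: if `K/N` is abelian and every `C_K(x)`, `x ∈ A#`, lies in `N`, then `K = N`,
for `A` abelian containing a rank-two elementary abelian `⟨a, b⟩`. -/
theorem le_of_centralizers_le {Q : Type*} [CommGroup Q] {A K N : Subgroup G} (φ : ↥K →* Q)
    (hker : ∀ g (hg : g ∈ K), φ ⟨g, hg⟩ = 1 ↔ g ∈ N)
    (hNK : N ≤ K) (hKN : K ≤ Subgroup.normalizer (N : Set G))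
    (hAK : A ≤ Subgroup.normalizer (K : Set G)) (hAN : A ≤ Subgroup.normalizer (N : Set G))
    (hcomm : ∀ x ∈ A, ∀ y ∈ A, x * y = y * x)
    (hcop : (Nat.card A).Coprime (Nat.card K))
    {a b : G} (ha : a ∈ A) (hb : b ∈ A) (hap : a ^ p = 1) (hbp : b ^ p = 1) (hb1 : b ≠ 1)
    (hab : ∀ m : ℕ, a * b ^ m ≠ 1)
    (hC : ∀ x ∈ A, x ≠ 1 → K ⊓ Subgroup.centralizer {x} ≤ N) : K ≤ N := by
  intro k hk
  set F : ZMod p → ZMod p → Q := fun i j =>
    extendHom K φ ((a ^ i.val * b ^ j.val) * k * (a ^ i.val * b ^ j.val)⁻¹) with hF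
  have hid := prod_lines_identity F
  have hF1 : ∀ x ∈ A, x ≠ 1 → x ^ p = 1 → ∀ k' ∈ K,
      ∏ i : ZMod p, extendHom K φ (x ^ i.val * k' * (x ^ i.val)⁻¹) = 1 := by
    intro x hx hx1 hxp k' hk'
    exact prod_conj_eq_one φ hker hNK hKN (hAK hx) (hAN hx) hxp
      (Nat.Coprime.coprime_dvd_left (Subgroup.card_dvd_of_le (Subgroup.zpowers_le.mpr hx)) hcop)
      (hC x hx hx1) hk'
  have hcab : Commute a b := hcomm a ha b hb
  have e1 : ∀ k' : ZMod p, ∏ i, F i (k' * i) = 1 := by
    intro k'
    have hx : a * b ^ k'.val ∈ A := mul_mem ha (pow_mem hb _)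
    have hxp : (a * b ^ k'.val) ^ p = 1 := by
      rw [(hcab.pow_right _).mul_pow, hap, ← pow_mul, mul_comm, pow_mul, hbp, one_pow, one_mul]
    have h := hF1 _ hx (hab _) hxp k hk
    rw [← h]
    apply Finset.prod_congr rfl
    intro i _
    have key : a ^ i.val * b ^ (k' * i).val = (a * b ^ k'.val) ^ i.val := by
      rw [pow_val_mul hbp, (hcab.pow_right _).mul_pow]
    simp only [hF]
    rw [key]
  have e2 : ∏ j, F 0 j = 1 := by
    have h := hF1 b hb hb1 hbp k hk
    rw [← h]
    apply Finset.prod_congr rfl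
    intro j _
    simp only [hF, ZMod.val_zero, pow_zero, one_mul]
  have e3 : ∀ i, ∏ j, F i j = 1 := by
    intro i
    have hk' : a ^ i.val * k * (a ^ i.val)⁻¹ ∈ K :=
      (Subgroup.mem_normalizer_iff.mp (Subgroup.pow_mem _ (hAK ha) i.val) k).mp hk
    have h := hF1 b hb hb1 hbp _ hk'
    rw [← h]
    apply Finset.prod_congr rfl
    intro j _
    simp only [hF]
    congr 1
    have hc : a ^ i.val * b ^ j.val = b ^ j.val * a ^ i.val := ((hcab.pow_left _).pow_right _)
    rw [hc]; group
  have e4 : F 0 0 = extendHom K φ k := by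
    simp only [hF, ZMod.val_zero, pow_zero, one_mul, inv_one, mul_one]
  rw [Finset.prod_congr rfl (fun k' _ => e1 k'), Finset.prod_congr rfl (fun i _ => e3 i), e2, e4]
    at hid
  simp only [Finset.prod_const_one, mul_one] at hid
  -- hid : 1 = extendHom k ^ p
  have hkp : k ^ p ∈ N := by
    rw [← hker _ (pow_mem hk p), ← extendHom_of_mem K φ (pow_mem hk p), extendHom_pow K φ hk]
    exact hid.symm
  have hpA : p ∣ Nat.card A := by
    have h1 : orderOf b = p := orderOf_eq_prime hbp hb1
    have h2 : orderOf (⟨b, hb⟩ : A) = orderOf b := Subgroup.orderOf_mk b hb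
    rw [← h1, ← h2]
    exact orderOf_dvd_natCard _
  have hco : Nat.Coprime (orderOf k) p := by
    have h1 : orderOf k ∣ Nat.card K := by
      have h2 : orderOf (⟨k, hk⟩ : K) = orderOf k := Subgroup.orderOf_mk k hk
      rw [← h2]
      exact orderOf_dvd_natCard _
    exact (Nat.Coprime.coprime_dvd_left hpA (Nat.Coprime.coprime_dvd_right h1 hcop)).symm
  exact mem_of_pow_mem_of_coprime (p := p) (k := 1) hco (by simpa using hkp)

end main

section cgen
open scoped commutatorElement

/-- the subgroup of `K` generated by the centralizers in `K` of nonidentity elements of `A` -/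
def cgen {G : Type*} [Group G] (A K : Subgroup G) : Subgroup G :=
  ⨆ x ∈ {x : G | x ∈ A ∧ x ≠ 1}, K ⊓ Subgroup.centralizer {x}

variable {G : Type*} [Group G]

theorem cgen_le (A K : Subgroup G) : cgen A K ≤ K := iSup₂_le (fun _ _ => inf_le_left)

theorem le_cgen {A K : Subgroup G} {x : G} (hx : x ∈ A) (hx1 : x ≠ 1) :
    K ⊓ Subgroup.centralizer {x} ≤ cgen A K :=
  le_iSup₂_of_le (f := fun x (_ : x ∈ {x : G | x ∈ A ∧ x ≠ 1}) => K ⊓ Subgroup.centralizer {x})
    x ⟨hx, hx1⟩ le_rfl

theorem cgen_mono {A H K : Subgroup G} (h : H ≤ K) : cgen A H ≤ cgen A K :=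
  iSup₂_mono (fun _ _ => inf_le_inf_right _ h)

theorem cgen_mono_left {A B K : Subgroup G} (h : A ≤ B) : cgen A K ≤ cgen B K :=
  iSup₂_le fun _ hx => le_cgen (h hx.1) hx.2

theorem le_normalizer_cgen [Finite G] {A K : Subgroup G} (hcomm : ∀ x ∈ A, ∀ y ∈ A, x * y = y * x)
    (hAK : A ≤ Subgroup.normalizer (K : Set G)) :
    A ≤ Subgroup.normalizer (cgen A K : Set G) := by
  intro y hy
  apply mem_normalizer_of_conj_mem
  intro h hh
  have hmap : (cgen A K).map (MulAut.conj y).toMonoidHom ≤ cgen A K := by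
    unfold cgen
    rw [Subgroup.map_iSup]
    apply iSup_le; intro x
    rw [Subgroup.map_iSup]
    apply iSup_le; intro hx
    rintro _ ⟨k, hk, rfl⟩
    have hk' := Subgroup.mem_inf.mp hk
    apply le_cgen hx.1 hx.2
    refine Subgroup.mem_inf.mpr ⟨(Subgroup.mem_normalizer_iff.mp (hAK hy) k).mp hk'.1, ?_⟩
    rw [Subgroup.mem_centralizer_singleton_iff]
    have h1 : k * x = x * k := Subgroup.mem_centralizer_singleton_iff.mp hk'.2
    have h2 : y * x = x * y := hcomm y hy x hx.1
    show y * k * y⁻¹ * x = x * (y * k * y⁻¹)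
    have h3 : y⁻¹ * x = x * y⁻¹ := by
      rw [inv_mul_eq_iff_eq_mul, ← mul_assoc, h2, mul_inv_cancel_right]
    calc y * k * y⁻¹ * x = y * k * (y⁻¹ * x) := by group
      _ = y * k * (x * y⁻¹) := by rw [h3]
      _ = y * (k * x) * y⁻¹ := by group
      _ = y * (x * k) * y⁻¹ := by rw [h1]
      _ = (y * x) * k * y⁻¹ := by group
      _ = (x * y) * k * y⁻¹ := by rw [h2]
      _ = x * (y * k * y⁻¹) := by group
  exact hmap ⟨h, hh, rfl⟩

/-- **Generation by centralizers** (coprime action of an abelian group containing a rank two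
elementary abelian `p`-subgroup `⟨a, b⟩`). -/
theorem cgen_eq_of_rank_two [Finite G] {p : ℕ} [Fact p.Prime] {A : Subgroup G}
    (hcomm : ∀ x ∈ A, ∀ y ∈ A, x * y = y * x)
    {a b : G} (ha : a ∈ A) (hb : b ∈ A) (hap : a ^ p = 1) (hbp : b ^ p = 1) (hb1 : b ≠ 1)
    (hab : ∀ m : ℕ, a * b ^ m ≠ 1) :
    ∀ (n : ℕ) (K : Subgroup G), Nat.card K = n → A ≤ Subgroup.normalizer (K : Set G) →
      (Nat.card A).Coprime (Nat.card K) → cgen A K = K := by
  intro n
  induction n using Nat.strong_induction_on with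
  | _ n ih =>
  intro K hKn hAK hcop
  by_contra hne
  have hK₀K : cgen A K ≤ K := cgen_le A K
  have hlt : cgen A K < K := lt_of_le_of_ne hK₀K hne
  have hAK₀ : A ≤ Subgroup.normalizer (cgen A K : Set G) := le_normalizer_cgen hcomm hAK
  have hinv : ∀ H : Subgroup G, H < K → A ≤ Subgroup.normalizer (H : Set G) → H ≤ cgen A K := by
    intro H hH hAH
    have h1 : Nat.card H < n := hKn ▸ card_lt_card_of_lt hH
    have h2 := ih _ h1 H rfl hAH
      (Nat.Coprime.coprime_dvd_right (Subgroup.card_dvd_of_le hH.le) hcop)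
    rw [← h2]; exact cgen_mono hH.le
  by_cases hq : ∃ q : ℕ, q.Prime ∧ IsPGroup q K
  · obtain ⟨q, hqp, hKq⟩ := hq
    haveI : Fact q.Prime := ⟨hqp⟩
    have hKne : K ≠ ⊥ := by
      rintro rfl
      exact hne (le_antisymm hK₀K bot_le)
    have h1 : K ≤ Subgroup.normalizer (cgen A K : Set G) := by
      have hK₀M : cgen A K < K ⊓ Subgroup.normalizer (cgen A K : Set G) := by
        haveI : Group.IsNilpotent ↥K := hKq.isNilpotent
        have hlt' : (cgen A K).subgroupOf K < ⊤ := by
          rw [lt_top_iff_ne_top]; intro htop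
          exact hne (le_antisymm hK₀K (Subgroup.subgroupOf_eq_top.mp htop))
        have hnc := Group.normalizerCondition_of_isNilpotent (G := ↥K) _ hlt'
        obtain ⟨x, hxN, hxK⟩ := SetLike.exists_of_lt hnc
        rw [← Subgroup.subgroupOf_normalizer_eq hK₀K] at hxN
        refine lt_of_le_of_ne (le_inf hK₀K Subgroup.le_normalizer) ?_
        intro heq
        apply hxK
        rw [Subgroup.mem_subgroupOf, heq]
        exact Subgroup.mem_inf.mpr ⟨x.2, Subgroup.mem_subgroupOf.mp hxN⟩
      have hAM : A ≤ Subgroup.normalizer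
          ((K ⊓ Subgroup.normalizer (cgen A K : Set G) : Subgroup G) : Set G) := by
        intro y hy
        apply mem_normalizer_of_conj_mem
        intro g hg
        obtain ⟨hgK, hgN⟩ := Subgroup.mem_inf.mp hg
        refine Subgroup.mem_inf.mpr ⟨(Subgroup.mem_normalizer_iff.mp (hAK hy) g).mp hgK, ?_⟩
        exact mul_mem (mul_mem (hAK₀ hy) hgN) (inv_mem (hAK₀ hy))
      by_contra hnot
      have hMK : K ⊓ Subgroup.normalizer (cgen A K : Set G) < K :=
        lt_of_le_of_ne inf_le_left (fun h => hnot (h.symm.le.trans inf_le_right))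
      exact absurd (hinv _ hMK hAM) (not_le_of_gt hK₀M)
    have h2 : ⁅K, K⁆ ≤ cgen A K := by
      apply hinv
      · exact Cfsg.Agent.H1.commutator_lt_of_pgroup K K hKq hKq Subgroup.le_normalizer hKne
      · exact Cfsg.Agent.H1.le_normalizer_commutator A K K hAK hAK
    haveI hnorm : ((cgen A K).subgroupOf K).Normal := by
      constructor
      intro n hn g
      rw [Subgroup.mem_subgroupOf] at hn ⊢
      exact (Subgroup.mem_normalizer_iff.mp (h1 g.2) n).mp hn
    letI : CommGroup (↥K ⧸ (cgen A K).subgroupOf K) :=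
      { (inferInstance : Group (↥K ⧸ (cgen A K).subgroupOf K)) with
        mul_comm := by
          intro u v
          induction u using QuotientGroup.induction_on with
          | _ u =>
          induction v using QuotientGroup.induction_on with
          | _ v =>
          rw [← QuotientGroup.mk_mul, ← QuotientGroup.mk_mul, QuotientGroup.eq,
            Subgroup.mem_subgroupOf]
          apply h2
          have : (((u * v)⁻¹ * (v * u) : ↥K) : G) = ⁅(v : G)⁻¹, (u : G)⁻¹⁆ := by
            rw [commutatorElement_def]; push_cast; group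
          rw [this]
          exact Subgroup.commutator_mem_commutator (inv_mem v.2) (inv_mem u.2) }
    have hker : ∀ g (hg : g ∈ K),
        (QuotientGroup.mk' ((cgen A K).subgroupOf K)) ⟨g, hg⟩ = 1 ↔ g ∈ cgen A K := by
      intro g hg
      rw [QuotientGroup.mk'_apply, QuotientGroup.eq_one_iff]
      exact Subgroup.mem_subgroupOf
    have := le_of_centralizers_le (p := p) (QuotientGroup.mk' ((cgen A K).subgroupOf K)) hker
      hK₀K h1 hAK hAK₀ hcomm hcop ha hb hap hbp hb1 hab (fun x hx hx1 => le_cgen hx hx1)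
    exact hne (le_antisymm hK₀K this)
  · push Not at hq
    have hsolv : Group.IsSolvable ↥A :=
      Group.isSolvable_of_comm (fun x y => Subtype.ext (hcomm x x.2 y y.2))
    have hsyl : ∀ q : ℕ, q.Prime →
        q ^ (Nat.card K).factorization q ∣ Nat.card (cgen A K) := by
      intro q hqp
      haveI : Fact q.Prime := ⟨hqp⟩
      obtain ⟨P, hP⟩ := Cfsg.Agent.S0023.result A K hAK hcop (Or.inl hsolv) q
      have hPK : (P : Subgroup K).map K.subtype ≤ K := Subgroup.map_subtype_le _
      have hPp : IsPGroup q ↥((P : Subgroup K).map K.subtype) := P.isPGroup'.map _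
      have hPlt : (P : Subgroup K).map K.subtype < K := by
        refine lt_of_le_of_ne hPK ?_
        intro heq
        apply hq q hqp
        rw [heq] at hPp
        exact hPp
      have hle := hinv _ hPlt hP
      have hcard : Nat.card ↥((P : Subgroup K).map K.subtype)
          = q ^ (Nat.card K).factorization q := by
        rw [Subgroup.card_map_of_injective K.subtype_injective]
        exact P.card_eq_multiplicity
      rw [← hcard]
      exact Subgroup.card_dvd_of_le hle
    have hdvd : Nat.card K ∣ Nat.card (cgen A K) := by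
      rw [← Nat.factorization_prime_le_iff_dvd Nat.card_pos.ne' Nat.card_pos.ne']
      intro q hqp
      exact (hqp.pow_dvd_iff_le_factorization Nat.card_pos.ne').mp (hsyl q hqp)
    exact hne (Subgroup.eq_of_le_of_card_ge hK₀K (Nat.le_of_dvd Nat.card_pos hdvd))

end cgen

end Cfsg.Agent.Lib.Helper7
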