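import Mathlib
import Cfsg.Agent.Lib.Helper7.CoprimeGen

set_option autoImplicit false

namespace Cfsg.Agent.Lib.Helper7

open Finset

section rank
variable {α : Type*} [Group α] [Fintype α] [DecidableEq α]

/-- if each `p`-torsion set of a finite abelian group has at most `p` elements, so does every
`n`-torsion set -/
theorem card_pow_eq_one_le_of_prime (hcomm : ∀ x y : α, x * y = y * x)
    (hp : ∀ p : ℕ, p.Prime → #{a : α | a ^ p = 1} ≤ p) :
    ∀ n : ℕ, 0 < n → #{a : α | a ^ n = 1} ≤ n := by
  intro n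
  induction n using Nat.strong_induction_on with
  | _ n ih =>
  intro hn
  rcases Nat.lt_or_ge 1 n with h1 | h1
  · -- n = p * m
    have hpp : (n.minFac).Prime := Nat.minFac_prime (by omega)
    obtain ⟨m, hm⟩ := Nat.minFac_dvd n
    have hmpos : 0 < m := by
      rcases Nat.eq_zero_or_pos m with h | h
      · rw [h, mul_zero] at hm; omega
      · exact h
    have hmlt : m < n := by
      have := hpp.two_le
      nlinarith
    set p := n.minFac with hpdef
    have himg : ({a : α | a ^ n = 1} : Finset α).image (fun a => a ^ p) ⊆ ({a : α | a ^ m = 1} : Finset α) := by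
      intro c hc
      rw [mem_image] at hc
      obtain ⟨a, ha, rfl⟩ := hc
      rw [mem_filter] at ha ⊢
      refine ⟨mem_univ _, ?_⟩
      rw [← pow_mul, ← hm]; exact ha.2
    have hfib : ∀ c ∈ ({a : α | a ^ n = 1} : Finset α).image (fun a => a ^ p),
        #{x ∈ ({a : α | a ^ n = 1} : Finset α) | x ^ p = c} ≤ p := by
      intro c hc
      rw [mem_image] at hc
      obtain ⟨a, -, rfl⟩ := hc
      refine le_trans ?_ (hp p hpp)
      apply Finset.card_le_card_of_injOn (fun x => x * a⁻¹)
      · intro x hx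
        have hx' : x ^ p = a ^ p := (by simpa using hx : x ^ n = 1 ∧ x ^ p = a ^ p).2
        simp only [coe_filter, mem_univ, true_and, Set.mem_ofPred_eq]
        have hc : Commute x a⁻¹ := hcomm x a⁻¹
        rw [hc.mul_pow, hx', inv_pow, mul_inv_cancel]
      · intro x _ y _ hxy
        exact mul_right_cancel hxy
    calc #{a : α | a ^ n = 1} ≤ p * #(({a : α | a ^ n = 1} : Finset α).image (fun a => a ^ p)) :=
          Finset.card_le_mul_card_image _ p hfib
      _ ≤ p * #{a : α | a ^ m = 1} := Nat.mul_le_mul_left _ (Finset.card_le_card himg)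
      _ ≤ p * m := Nat.mul_le_mul_left _ (ih m hmlt hmpos)
      _ = n := hm.symm
  · have : n = 1 := by omega
    subst this
    simp [Finset.filter_eq']

/-- a finite noncyclic abelian group contains a rank two elementary abelian `p`-subgroup -/
theorem exists_prime_rank_two_of_not_isCyclic (hcomm : ∀ x y : α, x * y = y * x)
    (hnc : ¬ IsCyclic α) :
    ∃ p : ℕ, p.Prime ∧ ∃ a b : α, a ^ p = 1 ∧ b ^ p = 1 ∧ b ≠ 1 ∧ ∀ m : ℕ, a * b ^ m ≠ 1 := by
  by_contra hno
  apply hnc
  apply isCyclic_of_card_pow_eq_one_le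
  apply card_pow_eq_one_le_of_prime hcomm
  intro p hpp
  by_contra hlt
  push Not at hlt
  apply hno
  refine ⟨p, hpp, ?_⟩
  -- pick b ≠ 1
  have h2 : 1 < #{a : α | a ^ p = 1} := lt_of_le_of_lt hpp.one_le hlt
  obtain ⟨b, hb, hb1⟩ := Finset.exists_mem_ne h2 (1 : α)
  have hbp : b ^ p = 1 := (mem_filter.mp hb).2
  haveI : Fact p.Prime := ⟨hpp⟩
  have hob : orderOf b = p := orderOf_eq_prime hbp hb1
  -- pick a outside zpowers b
  have hex : ∃ a ∈ ({a : α | a ^ p = 1} : Finset α), a ∉ Subgroup.zpowers b := by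
    by_contra hall
    push Not at hall
    have hsub : ((({a : α | a ^ p = 1} : Finset α) : Set α)) ⊆ (Subgroup.zpowers b : Set α) := by
      intro a ha
      exact hall a (by simpa using ha)
    have hc := Set.ncard_le_ncard hsub (Set.toFinite _)
    rw [Set.ncard_coe_finset] at hc
    have : (Subgroup.zpowers b : Set α).ncard = p := by
      rw [← hob, ← Nat.card_zpowers]
      rfl
    omega
  obtain ⟨a, ha, hab⟩ := hex
  refine ⟨a, b, (mem_filter.mp ha).2, hbp, hb1, ?_⟩
  intro m h
  apply hab
  have : a = (b ^ m)⁻¹ := eq_inv_of_mul_eq_one_left h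
  rw [this]
  exact inv_mem (pow_mem (Subgroup.mem_zpowers _) m)

end rank

/-- **Generation by centralisers** (S0058 form). -/
theorem cgen_eq_of_not_isCyclic {G : Type*} [Group G] [Finite G] (A K : Subgroup G)
    [IsMulCommutative A] (hA : ¬ IsCyclic A) (hAK : A ≤ Subgroup.normalizer (K : Set G))
    (hcop : (Nat.card A).Coprime (Nat.card K)) : cgen A K = K := by
  classical
  haveI : Fintype ↥A := Fintype.ofFinite _
  have hcomm : ∀ x y : ↥A, x * y = y * x := fun x y => IsMulCommutative.is_comm.comm x y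
  obtain ⟨p, hpp, a, b, hap, hbp, hb1, hab⟩ := exists_prime_rank_two_of_not_isCyclic hcomm hA
  haveI : Fact p.Prime := ⟨hpp⟩
  have hcomm' : ∀ x ∈ A, ∀ y ∈ A, x * y = y * x := fun x hx y hy =>
    congrArg Subtype.val (hcomm ⟨x, hx⟩ ⟨y, hy⟩)
  refine cgen_eq_of_rank_two (p := p) hcomm' a.2 b.2 ?_ ?_ ?_ ?_ _ K rfl hAK hcop
  · have := congrArg Subtype.val hap; simpa using this
  · have := congrArg Subtype.val hbp; simpa using this
  · intro h; exact hb1 (Subtype.ext h)
  · intro m h
    apply hab m
    apply Subtype.ext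
    simpa using h

end Cfsg.Agent.Lib.Helper7
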