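import Mathlib
import Cfsg.Agent.Lib.Helper4.GTZJ
import Cfsg.Agent.S0630
import Cfsg.Agent.S3836
import Cfsg.Agent.Lib.Helper7.SylowLift

/-!
# Local control of strong fusion in a `p`-constrained, normalizer-`p`-stable group
-/

set_option autoImplicit false
set_option linter.style.haveILetI false
set_option linter.unusedVariables false
set_option linter.unusedSectionVars false

open scoped commutatorElement

namespace Cfsg.Agent.Lib.Helper7

open Cfsg Cfsg.Agent.Lib.Helper4.GT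

universe u

section quot
variable {N : Type u} [Group N] [Finite N] {p : ℕ} [Fact p.Prime]

/-- normalizer-`p`-stability gives `p`-stability on the normal `p`-subgroups of the quotient by a normal `p'`-subgroup -/
theorem isPStableOn_quot_of_normalizerPStable (hst : Cfsg.IsNormalizerPStable p N) (M : Subgroup N)
    [hMn : M.Normal] (hM : (Nat.card M).Coprime p) (V : Subgroup (N ⧸ M)) [hVn : V.Normal]
    (hV : IsPGroup p V) : Cfsg.IsPStableOn p V := by
  intro a hq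
  have hs := QuotientGroup.mk'_surjective M
  obtain ⟨Q₀, -, hQ₀p, hQ₀V⟩ := Cfsg.Agent.H1.exists_pgroup_map_eq (QuotientGroup.mk' M)
    (V.comap (QuotientGroup.mk' M)) V hV (Subgroup.map_comap_eq_self_of_surjective hs V)
  have hinf : M ⊓ Q₀ = ⊥ := Cfsg.Agent.H1.inf_eq_bot_of_pgroup_coprime M Q₀ hQ₀p hM
  -- lifting elements to the normalizer of `Q₀`
  have hlift : ∀ g : N, ∃ n ∈ Subgroup.normalizer (Q₀ : Set N),
      QuotientGroup.mk' M n = QuotientGroup.mk' M g := by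
    intro g
    apply exists_mem_normalizer_lift M Q₀ hQ₀p hM
    rw [hQ₀V]
    exact (Subgroup.normalizer_eq_top V).symm ▸ Subgroup.mem_top _
  obtain ⟨g, rfl⟩ := hs a
  obtain ⟨n, hn, hng⟩ := hlift g
  rw [← hng] at hq ⊢
  -- `n` acts quadratically on `Q₀`
  have hquad : ⁅⁅Q₀, Subgroup.zpowers n⁆, Subgroup.zpowers n⁆ = ⊥ := by
    have hzn : Subgroup.zpowers n ≤ Subgroup.normalizer (Q₀ : Set N) := Subgroup.zpowers_le.mpr hn
    have h1 : ⁅Q₀, Subgroup.zpowers n⁆ ≤ Q₀ := by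
      rw [Subgroup.commutator_le]
      intro x hx y hy
      have hy' := hzn hy
      rw [commutatorElement_def]
      have h2 : y * x⁻¹ * y⁻¹ ∈ Q₀ := (Subgroup.mem_normalizer_iff.mp hy' x⁻¹).mp (Q₀.inv_mem hx)
      have e : x * y * x⁻¹ * y⁻¹ = x * (y * x⁻¹ * y⁻¹) := by group
      rw [e]; exact Q₀.mul_mem hx h2
    have h2 : ⁅⁅Q₀, Subgroup.zpowers n⁆, Subgroup.zpowers n⁆ ≤ Q₀ := by
      rw [Subgroup.commutator_le]
      intro x hx y hy
      have hy' := hzn hy
      have hx' := h1 hx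
      rw [commutatorElement_def]
      have h2 : y * x⁻¹ * y⁻¹ ∈ Q₀ := (Subgroup.mem_normalizer_iff.mp hy' x⁻¹).mp (Q₀.inv_mem hx')
      have e : x * y * x⁻¹ * y⁻¹ = x * (y * x⁻¹ * y⁻¹) := by group
      rw [e]; exact Q₀.mul_mem hx' h2
    have h3 : ⁅⁅Q₀, Subgroup.zpowers n⁆, Subgroup.zpowers n⁆ ≤ M := by
      have h4 : (⁅⁅Q₀, Subgroup.zpowers n⁆, Subgroup.zpowers n⁆).map (QuotientGroup.mk' M) = ⊥ := by
        rw [Subgroup.map_commutator, Subgroup.map_commutator, MonoidHom.map_zpowers, hQ₀V]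
        exact hq
      rw [← QuotientGroup.ker_mk' M]
      exact (Subgroup.map_eq_bot_iff _).mp h4
    rw [eq_bot_iff, ← hinf]
    exact le_inf h3 h2
  have h1 := hst Q₀ hQ₀p n hn hquad
  -- the comparison homomorphism
  let φ : ↥(Subgroup.normalizer (Q₀ : Set N)) →* (N ⧸ M) ⧸ Subgroup.centralizer (V : Set (N ⧸ M)) :=
    (QuotientGroup.mk' (Subgroup.centralizer (V : Set (N ⧸ M)))).comp
      ((QuotientGroup.mk' M).comp (Subgroup.normalizer (Q₀ : Set N)).subtype)
  have hker : (Subgroup.centralizer (Q₀ : Set N)).subgroupOf (Subgroup.normalizer (Q₀ : Set N)) ≤ φ.ker := by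
    intro c hc
    rw [Subgroup.mem_subgroupOf] at hc
    rw [MonoidHom.mem_ker]
    show QuotientGroup.mk' _ (QuotientGroup.mk' M (c : N)) = 1
    rw [QuotientGroup.mk'_apply, QuotientGroup.eq_one_iff, Subgroup.mem_centralizer_iff]
    intro v hv
    rw [← hQ₀V] at hv
    obtain ⟨q, hq', rfl⟩ := hv
    have h2 := Subgroup.mem_centralizer_iff.mp hc q hq'
    rw [← map_mul, ← map_mul, h2]
  let ψ := QuotientGroup.lift
    ((Subgroup.centralizer (Q₀ : Set N)).subgroupOf (Subgroup.normalizer (Q₀ : Set N))) φ hker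
  have hψs : Function.Surjective ψ := by
    intro x
    obtain ⟨y, rfl⟩ := QuotientGroup.mk'_surjective _ x
    obtain ⟨g', rfl⟩ := hs y
    obtain ⟨n', hn', hng'⟩ := hlift g'
    refine ⟨QuotientGroup.mk (⟨n', hn'⟩ : ↥(Subgroup.normalizer (Q₀ : Set N))), ?_⟩
    show QuotientGroup.mk' _ (QuotientGroup.mk' M n') = _
    rw [hng']
  haveI hPn : (Cfsg.pCore p (↥(Subgroup.normalizer (Q₀ : Set N)) ⧸
      (Subgroup.centralizer (Q₀ : Set N)).subgroupOf (Subgroup.normalizer (Q₀ : Set N)))).Normal :=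
    Cfsg.Agent.H9.pCore_normal p _
  haveI himn : ((Cfsg.pCore p (↥(Subgroup.normalizer (Q₀ : Set N)) ⧸
      (Subgroup.centralizer (Q₀ : Set N)).subgroupOf (Subgroup.normalizer (Q₀ : Set N)))).map ψ).Normal :=
    hPn.map ψ hψs
  have himp : IsPGroup p ↥((Cfsg.pCore p (↥(Subgroup.normalizer (Q₀ : Set N)) ⧸
      (Subgroup.centralizer (Q₀ : Set N)).subgroupOf (Subgroup.normalizer (Q₀ : Set N)))).map ψ) :=
    (Cfsg.Agent.H9.pCore_isPGroup p _).map ψ
  have hle := Cfsg.Agent.H9.le_pCore _ himp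
  apply hle
  refine ⟨_, h1, ?_⟩
  rfl

/-- strong closure passes to the quotient by a normal `p'`-subgroup (after helper4's `gt_quot_p'`) -/
theorem isStronglyClosed_quot (M : Subgroup N) [hMn : M.Normal] (P : Sylow p N) (D : Subgroup N)
    (hD : Cfsg.IsStronglyClosed D (P : Subgroup N)) :
    Cfsg.IsStronglyClosed (D.map (QuotientGroup.mk' M))
      ((P : Subgroup N).map (QuotientGroup.mk' M)) := by
  have hs := QuotientGroup.mk'_surjective M
  have hPp : IsPGroup p ↥(P : Subgroup N) := P.isPGroup'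
  refine ⟨Subgroup.map_mono hD.1, ?_⟩
  rintro _ ⟨x, hx, rfl⟩ gbar hg
  obtain ⟨g, rfl⟩ := hs gbar
  obtain ⟨y, hy, hyg⟩ := hg
  have hgx : g * x * g⁻¹ ∈ M ⊔ (P : Subgroup N) := by
    have h1 : (QuotientGroup.mk' M) (y⁻¹ * (g * x * g⁻¹)) = 1 := by
      rw [map_mul, map_inv, hyg]
      simp only [map_mul, map_inv]
      group
    rw [QuotientGroup.mk'_apply, QuotientGroup.eq_one_iff] at h1
    have e : g * x * g⁻¹ = y * (y⁻¹ * (g * x * g⁻¹)) := by group
    rw [e]
    exact Subgroup.mul_mem _ (Subgroup.mem_sup_right hy) (Subgroup.mem_sup_left h1)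
  have hzp : IsPGroup p ↥(Subgroup.zpowers (g * x * g⁻¹)) := by
    have h1 : Subgroup.zpowers (g * x * g⁻¹) =
        (Subgroup.zpowers x).map (MulAut.conj g).toMonoidHom := by
      rw [MonoidHom.map_zpowers]; rfl
    rw [h1]
    exact (hPp.to_le (Subgroup.zpowers_le.mpr (hD.1 hx))).map _
  obtain ⟨n, hn, hnz⟩ := exists_conj_le_sylow_of_le_sup P M
    (Subgroup.zpowers (g * x * g⁻¹)) hzp (Subgroup.zpowers_le.mpr hgx)
  have h2 := hnz _ (Subgroup.mem_zpowers _)
  have e2 : n⁻¹ * (g * x * g⁻¹) * n = (n⁻¹ * g) * x * (n⁻¹ * g)⁻¹ := by group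
  rw [e2] at h2
  have h3 := hD.2 x hx (n⁻¹ * g) h2
  refine ⟨(n⁻¹ * g) * x * (n⁻¹ * g)⁻¹, h3, ?_⟩
  have hn1 : (QuotientGroup.mk' M) n = 1 := by
    rw [QuotientGroup.mk'_apply, QuotientGroup.eq_one_iff]; exact hn
  simp only [map_mul, map_inv, hn1, inv_one, one_mul]

/-- Lifting fusion along a surjection: if `γ` conjugates the image of `P ≤ S` into the image of `S`,
some `g` inducing the same conjugation on `P` conjugates `P` into `S`. -/
theorem exists_lift_conj_of_surjective {G H : Type*} [Group G] [Finite G] [Group H] {p : ℕ} [Fact p.Prime]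
    (f : G →* H) (hf : Function.Surjective f) (S : Sylow p G) (P : Subgroup G)
    (hP : P ≤ (S : Subgroup G)) (γ : H)
    (hγ : ∀ x ∈ P, γ * f x * γ⁻¹ ∈ ((S : Subgroup G).map f)) :
    ∃ g : G, ∀ x ∈ P, g * x * g⁻¹ ∈ S ∧ f (g * x * g⁻¹) = γ * f x * γ⁻¹ := by
  obtain ⟨g₀, rfl⟩ := hf γ
  have hRp : IsPGroup p ↥(P.map (MulAut.conj g₀).toMonoidHom) := (S.isPGroup'.to_le hP).map _
  have hR : P.map (MulAut.conj g₀).toMonoidHom ≤ f.ker ⊔ (S : Subgroup G) := by
    rintro _ ⟨x, hx, rfl⟩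
    obtain ⟨q, hq, hqz⟩ := hγ x hx
    have : q⁻¹ * (g₀ * x * g₀⁻¹) ∈ f.ker := by
      rw [MonoidHom.mem_ker, map_mul, map_inv, hqz]
      simp only [map_mul, map_inv]
      group
    have e : (MulAut.conj g₀).toMonoidHom x = q * (q⁻¹ * (g₀ * x * g₀⁻¹)) := by
      simp [MulAut.conj_apply]
    rw [e]
    exact Subgroup.mul_mem _ (Subgroup.mem_sup_right hq) (Subgroup.mem_sup_left this)
  obtain ⟨n, hn, hconj⟩ := exists_conj_le_sylow_of_le_sup S f.ker _ hRp hR
  have h1 : f n = 1 := hn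
  refine ⟨n⁻¹ * g₀, fun x hx => ⟨?_, ?_⟩⟩
  · have := hconj _ ⟨x, hx, rfl⟩
    have e : n⁻¹ * g₀ * x * (n⁻¹ * g₀)⁻¹ = n⁻¹ * (MulAut.conj g₀).toMonoidHom x * n := by
      simp [MulAut.conj_apply]
      group
    rw [e]
    exact this
  · simp only [map_mul, map_inv, h1, inv_one, one_mul, mul_inv_rev, inv_inv, mul_one]

end quot

section localctl
variable {p : ℕ} [Fact p.Prime] {W : ∀ (X : Type u) [Group X], Subgroup X → Subgroup X}

/-- **Local control.** In a `p`-constrained, normalizer-`p`-stable group `N` (`p` odd) with a subgroup `D`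
strongly closed in a Sylow `p`-subgroup `R`, the normalizer of `W(D)` controls strong fusion in `R`. -/
theorem local_control (hp2 : p ≠ 2) (hW : PFunctor p W) (N : Type u) [Group N] [Finite N]
    (hst : Cfsg.IsNormalizerPStable p N) (hc : Cfsg.IsPConstrained p N) (R : Sylow p N)
    (D : Subgroup N) (hD : Cfsg.IsStronglyClosed D (R : Subgroup N)) (A : Set N)
    (hA : A ⊆ ((R : Subgroup N) : Set N)) (m : N) (hm : ∀ a ∈ A, m * a * m⁻¹ ∈ (R : Subgroup N)) :
    ∃ x ∈ Subgroup.normalizer (W N D : Set N), ∀ a ∈ A, x * a * x⁻¹ = m * a * m⁻¹ := by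
  haveI hMn : (Cfsg.pPrimeCore p N).Normal := Cfsg.Agent.H1.pPrimeCore_normal p
  have hM : (Nat.card ↥(Cfsg.pPrimeCore p N)).Coprime p := Cfsg.Agent.H1.pPrimeCore_coprime p
  obtain ⟨M, hMdef⟩ : ∃ M : Subgroup N, M = Cfsg.pPrimeCore p N := ⟨_, rfl⟩
  have hcent := (Cfsg.Agent.S0630.isPConstrained_iff).1 hc
  have hs := QuotientGroup.mk'_surjective (Cfsg.pPrimeCore p N)
  have hRp : IsPGroup p ↥(R : Subgroup N) := R.isPGroup'
  have hinf : Cfsg.pPrimeCore p N ⊓ (R : Subgroup N) = ⊥ :=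
    Cfsg.Agent.H1.inf_eq_bot_of_pgroup_coprime _ _ hRp hM
  have hinjR : ∀ x ∈ (R : Subgroup N), QuotientGroup.mk' (Cfsg.pPrimeCore p N) x = 1 → x = 1 := by
    intro x hx h1
    rw [QuotientGroup.mk'_apply, QuotientGroup.eq_one_iff] at h1
    have h2 : x ∈ Cfsg.pPrimeCore p N ⊓ (R : Subgroup N) := ⟨h1, hx⟩
    rw [hinf] at h2
    exact Subgroup.mem_bot.mp h2
  have hcl : Cfsg.IsStronglyClosed (D.map (QuotientGroup.mk' (Cfsg.pPrimeCore p N)))
      ((R.mapSurjective hs : Sylow p (N ⧸ Cfsg.pPrimeCore p N)) : Subgroup (N ⧸ Cfsg.pPrimeCore p N)) := by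
    rw [Sylow.coe_mapSurjective]
    exact isStronglyClosed_quot _ R D hD
  have hnorm := hW.normal (N ⧸ Cfsg.pPrimeCore p N) (R.mapSurjective hs) _ hcl hcent
    (fun V _ hV => isPStableOn_quot_of_normalizerPStable hst _ hM V hV)
  have hWmap := hW.map N (N ⧸ Cfsg.pPrimeCore p N) (QuotientGroup.mk' (Cfsg.pPrimeCore p N)) D
    (fun x hx => hinjR x (hD.1 hx))
  have hWp : IsPGroup p ↥(W N D) := hRp.to_le ((hW.le N D).trans hD.1)
  have hY : ∀ g : N, ∃ n ∈ Subgroup.normalizer (W N D : Set N),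
      QuotientGroup.mk' (Cfsg.pPrimeCore p N) n = QuotientGroup.mk' (Cfsg.pPrimeCore p N) g := by
    intro g
    apply exists_mem_normalizer_lift _ (W N D) hWp hM
    rw [← hWmap]
    haveI := hnorm
    rw [Subgroup.normalizer_eq_top]
    exact Subgroup.mem_top _
  have hRY : (R : Subgroup N) ≤ Subgroup.normalizer (W N D : Set N) :=
    (Cfsg.Agent.Lib.Helper4.ZJ2.sylow_le_normalizer_of_stronglyClosed _ D hD).trans
      (normalizer_le_normalizer_W hW D)
  obtain ⟨Y, hYdef⟩ : ∃ Y : Subgroup N, Y = Subgroup.normalizer (W N D : Set N) := ⟨_, rfl⟩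
  rw [← hYdef] at hY hRY ⊢
  -- the restriction of the quotient map to `Y`
  let f : ↥Y →* N ⧸ Cfsg.pPrimeCore p N := (QuotientGroup.mk' (Cfsg.pPrimeCore p N)).comp Y.subtype
  have hf : Function.Surjective f := by
    intro x
    obtain ⟨g, rfl⟩ := hs x
    obtain ⟨n, hn, hng⟩ := hY g
    exact ⟨⟨n, hn⟩, hng⟩
  have hmB : ∀ x ∈ Subgroup.closure A, m * x * m⁻¹ ∈ (R : Subgroup N) := by
    intro x hx
    induction hx using Subgroup.closure_induction with
    | mem a ha => exact hm a ha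
    | one => simp
    | mul a b _ _ iha ihb =>
      have e : m * (a * b) * m⁻¹ = (m * a * m⁻¹) * (m * b * m⁻¹) := by group
      rw [e]; exact Subgroup.mul_mem _ iha ihb
    | inv a _ iha =>
      have e : m * a⁻¹ * m⁻¹ = (m * a * m⁻¹)⁻¹ := by group
      rw [e]; exact Subgroup.inv_mem _ iha
  have hBR : Subgroup.closure A ≤ (R : Subgroup N) := (Subgroup.closure_le _).mpr hA
  obtain ⟨g, hg⟩ := exists_lift_conj_of_surjective f hf (R.subtype hRY)
    ((Subgroup.closure A).subgroupOf Y) (by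
      intro x hx
      rw [Sylow.coe_subtype, Subgroup.mem_subgroupOf]
      exact hBR (Subgroup.mem_subgroupOf.mp hx))
    (QuotientGroup.mk' (Cfsg.pPrimeCore p N) m) (by
      intro x hx
      have hx' : (x : N) ∈ Subgroup.closure A := Subgroup.mem_subgroupOf.mp hx
      have h1 := hmB _ hx'
      refine ⟨⟨m * (x : N) * m⁻¹, hRY h1⟩, ?_, ?_⟩
      · rw [SetLike.mem_coe, Sylow.coe_subtype, Subgroup.mem_subgroupOf]
        exact h1
      · show QuotientGroup.mk' (Cfsg.pPrimeCore p N) (m * (x : N) * m⁻¹) = _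
        simp only [map_mul, map_inv]
        rfl)
  refine ⟨(g : N), g.2, fun a ha => ?_⟩
  have haY : a ∈ Y := hRY (hA ha)
  have haB : (⟨a, haY⟩ : ↥Y) ∈ (Subgroup.closure A).subgroupOf Y :=
    Subgroup.mem_subgroupOf.mpr (Subgroup.subset_closure ha)
  obtain ⟨h1, h2⟩ := hg ⟨a, haY⟩ haB
  have h1' : (g : N) * a * (g : N)⁻¹ ∈ (R : Subgroup N) := by
    have h1'' : g * ⟨a, haY⟩ * g⁻¹ ∈ ((R.subtype hRY : Sylow p ↥Y) : Subgroup ↥Y) := h1
    rw [Sylow.coe_subtype] at h1''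
    exact Subgroup.mem_subgroupOf.mp h1''
  have h2' : QuotientGroup.mk' (Cfsg.pPrimeCore p N) ((g : N) * a * (g : N)⁻¹) =
      QuotientGroup.mk' (Cfsg.pPrimeCore p N) (m * a * m⁻¹) := by
    have e : QuotientGroup.mk' (Cfsg.pPrimeCore p N) (m * a * m⁻¹) =
        QuotientGroup.mk' (Cfsg.pPrimeCore p N) m * f ⟨a, haY⟩ *
          (QuotientGroup.mk' (Cfsg.pPrimeCore p N) m)⁻¹ := by
      simp only [map_mul, map_inv]; rfl
    rw [e, ← h2]
    rfl
  have h3 : ((g : N) * a * (g : N)⁻¹) * (m * a * m⁻¹)⁻¹ ∈ (R : Subgroup N) :=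
    Subgroup.mul_mem _ h1' (Subgroup.inv_mem _ (hm a ha))
  have h4 := hinjR _ h3 (by rw [map_mul, map_inv, h2']; group)
  exact mul_inv_eq_one.mp h4

end localctl

end Cfsg.Agent.Lib.Helper7
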