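import Mathlib
import Cfsg.Agent.Lib.Helper7.GlaubLocal
import Cfsg.Agent.S1959
import Cfsg.Agent.Lib.Lead.PGroup

/-!
# Glauberman: control of strong fusion by `N_G(W(D))`, `D` strongly closed, in a group whose
`p`-local subgroups are `p`-constrained and which is normalizer-`p`-stable
-/

set_option autoImplicit false
set_option linter.style.haveILetI false
set_option linter.unusedVariables false
set_option linter.unusedSectionVars false

open scoped commutatorElement

namespace Cfsg.Agent.Lib.Helper7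

open Cfsg Cfsg.Agent.Lib.Helper4.GT Cfsg.Agent.Lib.Lead.Conj

universe u

section fused
variable {G : Type u} [Group G]

/-- the subgroup generated by the elements of `R` fused into `D` -/
def fusedPart (D R : Subgroup G) : Subgroup G :=
  Subgroup.closure {x | x ∈ R ∧ ∃ g : G, g * x * g⁻¹ ∈ D}

theorem fusedPart_le (D R : Subgroup G) : fusedPart D R ≤ R :=
  (Subgroup.closure_le _).mpr (fun x hx => hx.1)

theorem fusedPart_conj (D R : Subgroup G) (g : G) :
    fusedPart D (R.map (MulAut.conj g).toMonoidHom) =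
      (fusedPart D R).map (MulAut.conj g).toMonoidHom := by
  unfold fusedPart
  rw [MonoidHom.map_closure]
  congr 1
  ext y
  constructor
  · rintro ⟨⟨x, hx, rfl⟩, k, hk⟩
    refine ⟨x, ⟨hx, k * g, ?_⟩, rfl⟩
    have e : k * g * x * (k * g)⁻¹ = k * ((MulAut.conj g).toMonoidHom x) * k⁻¹ := by
      simp [MulAut.conj_apply]; group
    rw [e]; exact hk
  · rintro ⟨x, ⟨hx, k, hk⟩, rfl⟩
    refine ⟨⟨x, hx, rfl⟩, k * g⁻¹, ?_⟩
    have e : k * g⁻¹ * ((MulAut.conj g).toMonoidHom x) * (k * g⁻¹)⁻¹ = k * x * k⁻¹ := by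
      simp [MulAut.conj_apply]; group
    rw [e]; exact hk

theorem fusedPart_eq_inf {P D R : Subgroup G} (hD : Cfsg.IsStronglyClosed D P) (hR : R ≤ P) :
    fusedPart D R = D ⊓ R := by
  apply le_antisymm
  · unfold fusedPart
    rw [Subgroup.closure_le]
    rintro x ⟨hxR, g, hg⟩
    refine ⟨?_, hxR⟩
    have h1 := hD.2 (g * x * g⁻¹) hg g⁻¹ (by
      have e : g⁻¹ * (g * x * g⁻¹) * g⁻¹⁻¹ = x := by group
      rw [e]; exact hR hxR)
    have e : g⁻¹ * (g * x * g⁻¹) * g⁻¹⁻¹ = x := by group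
    rwa [e] at h1
  · intro x hx
    exact Subgroup.subset_closure ⟨hx.2, 1, by simpa using hx.1⟩

open scoped Classical in
/-- the conjugacy functor `R ↦ W(D ∩ R)` (with a default value when no element of `R` is fused into `D`) -/
noncomputable def fusedFunctor (W : ∀ (X : Type u) [Group X], Subgroup X → Subgroup X) (D : Subgroup G)
    (R : Subgroup G) : Subgroup G :=
  if fusedPart D R = ⊥ then R else W G (fusedPart D R)

theorem fusedFunctor_of_ne_bot (W : ∀ (X : Type u) [Group X], Subgroup X → Subgroup X) {D R : Subgroup G}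
    (h : fusedPart D R ≠ ⊥) : fusedFunctor W D R = W G (fusedPart D R) := by
  unfold fusedFunctor
  rw [if_neg h]

theorem fusedFunctor_of_eq_bot (W : ∀ (X : Type u) [Group X], Subgroup X → Subgroup X) {D R : Subgroup G}
    (h : fusedPart D R = ⊥) : fusedFunctor W D R = R := by
  unfold fusedFunctor
  rw [if_pos h]

theorem isConjugacyFunctor_fusedFunctor [Finite G] {p : ℕ} [Fact p.Prime]
    {W : ∀ (X : Type u) [Group X], Subgroup X → Subgroup X} (hW : PFunctor p W) (D : Subgroup G) :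
    Cfsg.IsConjugacyFunctor p (fusedFunctor W D) := by
  intro R hR
  refine ⟨?_, ?_, ?_⟩
  · by_cases h : fusedPart D R = ⊥
    · rw [fusedFunctor_of_eq_bot W h]
    · rw [fusedFunctor_of_ne_bot W h]
      exact (hW.le G _).trans (fusedPart_le D R)
  · intro hne
    by_cases h : fusedPart D R = ⊥
    · rw [fusedFunctor_of_eq_bot W h]; exact hne
    · rw [fusedFunctor_of_ne_bot W h]
      exact hW.ne_bot G _ (hR.to_le (fusedPart_le D R)) h
  · intro g
    have hinj : Function.Injective (MulAut.conj g).toMonoidHom := (MulAut.conj g).injective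
    by_cases h : fusedPart D R = ⊥
    · have h' : fusedPart D (R.map (MulAut.conj g).toMonoidHom) = ⊥ := by
        rw [fusedPart_conj, h, Subgroup.map_bot]
      rw [fusedFunctor_of_eq_bot W h, fusedFunctor_of_eq_bot W h']
    · have h' : fusedPart D (R.map (MulAut.conj g).toMonoidHom) ≠ ⊥ := by
        rw [fusedPart_conj]
        intro h0
        exact h ((Subgroup.map_eq_bot_iff_of_injective _ hinj).mp h0)
      rw [fusedFunctor_of_ne_bot W h, fusedFunctor_of_ne_bot W h', fusedPart_conj]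
      exact W_map_conj hW _ g

end fused

section main
variable {G : Type u} [Group G] [Finite G] {p : ℕ} [Fact p.Prime]
  {W : ∀ (X : Type u) [Group X], Subgroup X → Subgroup X}

theorem coe_mem_normalizer_map_subtype (H : Subgroup G) (K : Subgroup ↥H) {x : ↥H}
    (hx : x ∈ Subgroup.normalizer (K : Set ↥H)) :
    (x : G) ∈ Subgroup.normalizer ((K.map H.subtype : Subgroup G) : Set G) := by
  apply mem_normalizer_of_conj_mem
  rintro _ ⟨k, hk, rfl⟩
  exact ⟨x * k * x⁻¹, (Subgroup.mem_normalizer_iff.mp hx k).mp hk, rfl⟩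

/-- the local hypothesis of the Alperin–Gorenstein theorem -/
theorem local_family_control (hp2 : p ≠ 2) (hW : PFunctor p W) (P : Sylow p G) (D : Subgroup G)
    (hD : Cfsg.IsStronglyClosed D (P : Subgroup G)) (hst : Cfsg.IsNormalizerPStable p G)
    (hc : ∀ U : Subgroup G, U ≤ (P : Subgroup G) → U ≠ ⊥ →
      Cfsg.IsPConstrained p ↥(Subgroup.normalizer (U : Set G)))
    (hZ : ∀ T : Subgroup G, T ≤ (P : Subgroup G) →
      D ⊓ ((P : Subgroup G) ⊓ Subgroup.normalizer (T : Set G)) ≠ ⊥)
    (T : Subgroup G) (hTP : T ≤ (P : Subgroup G)) (hTne : T ≠ ⊥)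
    (hfn : ¬ p ∣ ((P : Subgroup G) ⊓ Subgroup.normalizer ((T : Subgroup G) : Set G)).relIndex
      (Subgroup.normalizer ((T : Subgroup G) : Set G))) :
    Cfsg.FamilyControlsStrongFusionIn p {fusedFunctor W D}
      (Subgroup.normalizer ((T : Subgroup G) : Set G)) := by
  obtain ⟨H, hH⟩ : ∃ H : Subgroup G, H = Subgroup.normalizer (T : Set G) := ⟨_, rfl⟩
  have hcH : Cfsg.IsPConstrained p ↥H := by rw [hH]; exact hc T hTP hTne
  have hZT := hZ T hTP
  rw [← hH] at hfn hZT ⊢
  obtain ⟨T', hT'⟩ : ∃ T' : Subgroup G, T' = (P : Subgroup G) ⊓ H := ⟨_, rfl⟩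
  rw [← hT'] at hfn hZT
  have hT'P : T' ≤ (P : Subgroup G) := by rw [hT']; exact inf_le_left
  have hT'H : T' ≤ H := by rw [hT']; exact inf_le_right
  have hT'p : IsPGroup p ↥T' := P.isPGroup'.to_le hT'P
  refine ⟨T', hT'H, hT'p, hfn, ?_⟩
  intro A h hh hA hhA
  -- pass to the group `↥H`
  have hstH : Cfsg.IsNormalizerPStable p ↥H := Cfsg.Agent.S3836.result hst H
  have hT'p' : IsPGroup p ↥(T'.subgroupOf H) := hT'p.comap_subtype
  let R : Sylow p ↥H := hT'p'.toSylow hfn
  have hR : (R : Subgroup ↥H) = T'.subgroupOf H := IsPGroup.toSylow_coe _ _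
  have hDN : Cfsg.IsStronglyClosed ((D ⊓ T').subgroupOf H) (R : Subgroup ↥H) := by
    rw [hR]
    refine ⟨fun x hx => ?_, ?_⟩
    · rw [Subgroup.mem_subgroupOf] at hx ⊢
      exact hx.2
    · intro x hx g hg
      rw [Subgroup.mem_subgroupOf] at hx hg ⊢
      have hg' : (g : G) * (x : G) * (g : G)⁻¹ ∈ T' := hg
      exact ⟨hD.2 _ hx.1 (g : G) (hT'P hg'), hg'⟩
  have hAN : (H.subtype ⁻¹' A) ⊆ ((R : Subgroup ↥H) : Set ↥H) := by
    intro a ha
    rw [hR, SetLike.mem_coe, Subgroup.mem_subgroupOf]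
    exact hA ha
  have hmN : ∀ a ∈ (H.subtype ⁻¹' A), (⟨h, hh⟩ : ↥H) * a * (⟨h, hh⟩ : ↥H)⁻¹ ∈ (R : Subgroup ↥H) := by
    intro a ha
    rw [hR, Subgroup.mem_subgroupOf]
    exact hhA ⟨(a : G), ha, rfl⟩
  obtain ⟨x, hxN, hxa⟩ := local_control hp2 hW ↥H hstH hcH R _ hDN _ hAN ⟨h, hh⟩ hmN
  -- back to `G`
  have hxG := coe_mem_normalizer_map_subtype H _ hxN
  have hle : D ⊓ T' ≤ H := inf_le_right.trans hT'H
  have hmap := hW.map ↥H G H.subtype ((D ⊓ T').subgroupOf H)
    (fun y _ hy => Subtype.ext (by simpa using hy))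
  rw [Subgroup.map_subgroupOf_eq_of_le hle] at hmap
  rw [← hmap] at hxG
  have hfp : fusedPart D T' = D ⊓ T' := fusedPart_eq_inf hD hT'P
  have hff : fusedFunctor W D T' = W G (D ⊓ T') := by
    rw [fusedFunctor_of_ne_bot W (by rw [hfp]; exact hZT), hfp]
  have hact : ∀ a ∈ A, (x : G) * a * (x : G)⁻¹ = h * a * h⁻¹ := by
    intro a ha
    have haH : a ∈ H := hT'H (hA ha)
    have := hxa ⟨a, haH⟩ ha
    exact congrArg Subtype.val this
  refine ⟨1, ![1, (x : G)], rfl, ?_, ?_, ?_⟩
  · intro i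
    refine ⟨fusedFunctor W D, rfl, ?_⟩
    have hi : i = 0 := Subsingleton.elim _ _
    subst hi
    have e : (![1, (x : G)] : Fin 2 → G) (Fin.succ 0) * ((![1, (x : G)] : Fin 2 → G) (Fin.castSucc 0))⁻¹
        = (x : G) := by simp
    rw [e, hff]
    exact ⟨x.2, hxG⟩
  · intro i
    fin_cases i
    · rintro _ ⟨a, ha, rfl⟩
      simpa using hA ha
    · rintro _ ⟨a, ha, rfl⟩
      have := hact a ha
      simp only [Fin.mk_one, Matrix.cons_val_one, Matrix.cons_val_fin_one]
      rw [this]
      exact hhA ⟨a, ha, rfl⟩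
  · intro a ha
    exact hact a ha

/-- **Glauberman.** For odd `p`, a normalizer-`p`-stable group `G` whose `p`-local subgroups `N_G(U)`, `1 ≠ U ≤ P`,
are `p`-constrained, and `D` strongly closed in the Sylow `p`-subgroup `P`: `N_G(W(D))` controls strong fusion in `P`. -/
theorem glauberman_control (hp2 : p ≠ 2) (hW : PFunctor p W) (P : Sylow p G) (D : Subgroup G)
    (hD : Cfsg.IsStronglyClosed D (P : Subgroup G)) (hst : Cfsg.IsNormalizerPStable p G)
    (hc : ∀ U : Subgroup G, U ≤ (P : Subgroup G) → U ≠ ⊥ →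
      Cfsg.IsPConstrained p ↥(Subgroup.normalizer (U : Set G)))
    (A : Set G) (hA : A ⊆ ((P : Subgroup G) : Set G)) :
    Cfsg.ControlsStrongFusionOf (Subgroup.normalizer ((W G D : Subgroup G) : Set G)) (P : Subgroup G) A := by
  refine ⟨hA, fun g hgA => ?_⟩
  by_cases hD0 : D = ⊥
  · have hWbot : W G D = ⊥ := by
      rw [eq_bot_iff, ← hD0]; exact hW.le G D
    refine ⟨g, ?_, fun a _ => rfl⟩
    rw [Subgroup.mem_normalizer_iff]
    intro h
    rw [hWbot, Subgroup.mem_bot, Subgroup.mem_bot, conj_eq_one_iff]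
  · -- a central element of `P` in `D`
    have hPn : (P : Subgroup G) ≤ Subgroup.normalizer (D : Set G) :=
      Cfsg.Agent.Lib.Helper4.ZJ2.sylow_le_normalizer_of_stronglyClosed _ D hD
    haveI hDn : (D.subgroupOf (P : Subgroup G)).Normal :=
      (Subgroup.normal_subgroupOf_iff_le_normalizer hD.1).mpr hPn
    have hne' : D.subgroupOf (P : Subgroup G) ≠ ⊥ := by
      intro h0
      apply hD0
      rw [eq_bot_iff]
      intro x hx
      have : (⟨x, hD.1 hx⟩ : ↥(P : Subgroup G)) ∈ D.subgroupOf (P : Subgroup G) :=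
        Subgroup.mem_subgroupOf.mpr hx
      rw [h0, Subgroup.mem_bot] at this
      exact Subgroup.mem_bot.mpr (congrArg Subtype.val this)
    obtain ⟨z, hzD, hzZ, hz1⟩ := Cfsg.Agent.Lib.Lead.PGroup.exists_mem_center_of_normal
      (P.isPGroup' : IsPGroup p ↥(P : Subgroup G)) (D.subgroupOf (P : Subgroup G)) hne'
    have hZ : ∀ T : Subgroup G, T ≤ (P : Subgroup G) →
        D ⊓ ((P : Subgroup G) ⊓ Subgroup.normalizer (T : Set G)) ≠ ⊥ := by
      intro T hTP h0
      have hzT : (z : G) ∈ Subgroup.normalizer (T : Set G) := by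
        apply mem_normalizer_of_conj_mem
        intro t ht
        have h1 := Subgroup.mem_center_iff.mp hzZ ⟨t, hTP ht⟩
        have h2 : t * (z : G) = (z : G) * t := congrArg Subtype.val h1
        have e : (z : G) * t * (z : G)⁻¹ = t := by rw [← h2]; group
        rw [e]; exact ht
      have : (z : G) ∈ D ⊓ ((P : Subgroup G) ⊓ Subgroup.normalizer (T : Set G)) :=
        ⟨Subgroup.mem_subgroupOf.mp hzD, z.2, hzT⟩
      rw [h0, Subgroup.mem_bot] at this
      exact hz1 (Subtype.ext this)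
    have h𝓦 : ∀ W' ∈ ({fusedFunctor W D} : Set (Subgroup G → Subgroup G)),
        Cfsg.IsConjugacyFunctor p W' := by
      rintro _ rfl
      exact isConjugacyFunctor_fusedFunctor hW D
    have hfam := Cfsg.Agent.S1959.result P {fusedFunctor W D} h𝓦
      (fun T hTP hTne hfn => local_family_control hp2 hW P D hD hst hc hZ T hTP hTne hfn)
    have hN : IsSylowIn p (P : Subgroup G) ⊤ := IsSylowIn.of_sylow_le P le_top
    obtain ⟨n, c, hc0, hstep, -, hlast⟩ := Cfsg.Agent.S1959.family_control_any_sylow h𝓦 hfam hN A g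
      (Subgroup.mem_top g) hA hgA
    have hfp : fusedPart D (P : Subgroup G) = D := by
      rw [fusedPart_eq_inf hD le_rfl]; exact inf_eq_left.mpr hD.1
    have hff : fusedFunctor W D (P : Subgroup G) = W G D := by
      rw [fusedFunctor_of_ne_bot W (by rw [hfp]; exact hD0), hfp]
    have hall : ∀ i : Fin (n + 1), c i ∈ Subgroup.normalizer ((W G D : Subgroup G) : Set G) := by
      intro i
      induction i using Fin.induction with
      | zero => rw [hc0]; exact Subgroup.one_mem _
      | succ i ih =>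
        obtain ⟨W', hW', hi⟩ := hstep i
        have hW'' : W' = fusedFunctor W D := hW'
        rw [hW'', hff] at hi
        have e : c i.succ = c i.succ * (c i.castSucc)⁻¹ * c i.castSucc := by group
        rw [e]
        exact Subgroup.mul_mem _ hi.2 ih
    exact ⟨c (Fin.last n), hall _, fun a ha => (hlast a ha).symm⟩

end main

end Cfsg.Agent.Lib.Helper7
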