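import Mathlib
import Cfsg.Agent.Lib.Helper7.CoprimeGen

set_option autoImplicit false

namespace Cfsg.Agent.Lib.Helper7

open Cfsg.Agent.Lib.Lead.Conj

section periodic
variable {G : Type*} [Group G]

/-- conjugation by powers of `x` on `k` is `p`-periodic when `x ^ p` commutes with `k` -/
theorem conj_pow_mod {x k : G} {p : ℕ} (hx : x ^ p * k = k * x ^ p) (m : ℕ) :
    x ^ (m % p) * k * (x ^ (m % p))⁻¹ = x ^ m * k * (x ^ m)⁻¹ := by
  have key : ∀ t r : ℕ, x ^ (r + p * t) * k * (x ^ (r + p * t))⁻¹ = x ^ r * k * (x ^ r)⁻¹ := by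
    intro t
    induction t with
    | zero => intro r; simp
    | succ t ih =>
      intro r
      have e : r + p * (t + 1) = (r + p * t) + p := by ring
      rw [e, pow_add]
      have : x ^ (r + p * t) * x ^ p * k * (x ^ (r + p * t) * x ^ p)⁻¹
          = x ^ (r + p * t) * (x ^ p * k * (x ^ p)⁻¹) * (x ^ (r + p * t))⁻¹ := by group
      rw [this, hx, mul_inv_cancel_right, ih r]
  have := key (m / p) (m % p)
  rw [Nat.mod_add_div] at this
  exact this.symm

end periodic

section main
variable {G : Type*} [Group G] [Finite G] {p : ℕ} [Fact p.Prime]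

/-- norm-type products over `⟨x⟩` die in the quotient when `C_K(x)` does (`x ^ p` acting trivially) -/
theorem prod_conj_eq_one' {Q : Type*} [CommGroup Q] {K N : Subgroup G} (φ : ↥K →* Q)
    (hker : ∀ g (hg : g ∈ K), φ ⟨g, hg⟩ = 1 ↔ g ∈ N)
    (hNK : N ≤ K) (hKN : K ≤ Subgroup.normalizer (N : Set G))
    {x : G} (hxK : x ∈ Subgroup.normalizer (K : Set G)) (hxN : x ∈ Subgroup.normalizer (N : Set G))
    (hxp : x ^ p ∈ Subgroup.centralizer (K : Set G))
    (hcop : (Nat.card (Subgroup.zpowers x)).Coprime (Nat.card K))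
    (hC : K ⊓ Subgroup.centralizer {x} ≤ N) {k : G} (hk : k ∈ K) :
    ∏ i : ZMod p, extendHom K φ (x ^ i.val * k * (x ^ i.val)⁻¹) = 1 := by
  classical
  set c : ZMod p → G := fun i => x ^ i.val * k * (x ^ i.val)⁻¹ with hc
  have hcK : ∀ i, c i ∈ K := fun i =>
    (Subgroup.mem_normalizer_iff.mp (Subgroup.pow_mem _ hxK i.val) k).mp hk
  set L : List (ZMod p) := (Finset.univ : Finset (ZMod p)).toList with hL
  set n : G := (L.map c).prod with hn
  have hmemK : ∀ (f : ZMod p → G), (∀ i, f i ∈ K) → ∀ g ∈ L.map f, g ∈ K := by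
    intro f hf g hg
    rw [List.mem_map] at hg
    obtain ⟨i, -, rfl⟩ := hg
    exact hf i
  have hnK : n ∈ K := Subgroup.list_prod_mem _ (hmemK c hcK)
  have h1 : extendHom K φ n = ∏ i, extendHom K φ (c i) := by
    rw [hn, extendHom_list_prod K φ _ (hmemK c hcK), List.map_map, hL, Finset.prod_map_toList]
    rfl
  have hxk : x ^ p * k = k * x ^ p := (Subgroup.mem_centralizer_iff.mp hxp k hk).symm
  have hstep : ∀ i, x * c i * x⁻¹ = c (i + 1) := by
    intro i
    simp only [hc]
    have h1p : ((1 : ZMod p)).val = 1 := by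
      haveI : Fact (1 < p) := ⟨(Fact.out : p.Prime).one_lt⟩
      exact ZMod.val_one p
    rw [ZMod.val_add, h1p, conj_pow_mod hxk, pow_succ']
    group
  have h2 : x * n * x⁻¹ = (L.map (fun i => c (i + 1))).prod := by
    have h := map_list_prod (MulAut.conj x).toMonoidHom (L.map c)
    rw [List.map_map] at h
    calc x * n * x⁻¹ = (MulAut.conj x).toMonoidHom n := rfl
      _ = _ := h
      _ = _ := by
        congr 1
        apply List.map_congr_left
        intro i _
        exact hstep i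
  have h3 : extendHom K φ (x * n * x⁻¹) = extendHom K φ n := by
    rw [h2, extendHom_list_prod K φ _ (hmemK _ (fun i => hcK (i + 1))), List.map_map, hL,
      Finset.prod_map_toList, h1]
    exact Fintype.prod_equiv (Equiv.addRight 1) _ _ (fun i => rfl)
  have hxnK : x * n * x⁻¹ ∈ K := (Subgroup.mem_normalizer_iff.mp hxK n).mp hnK
  have h4 : x * n * x⁻¹ * n⁻¹ ∈ N := by
    have hmem : x * n * x⁻¹ * n⁻¹ ∈ K := mul_mem hxnK (inv_mem hnK)
    rw [← hker _ hmem, ← extendHom_of_mem K φ hmem, extendHom_mul K φ hxnK (inv_mem hnK),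
      extendHom_inv K φ hnK, h3, mul_inv_cancel]
  have h5 : ∀ m : ℕ, x ^ m * n * (x ^ m)⁻¹ * n⁻¹ ∈ N := by
    intro m
    induction m with
    | zero => simp
    | succ m ih =>
      have hxm : x ^ m ∈ Subgroup.normalizer (N : Set G) := Subgroup.pow_mem _ hxN m
      have h6 : x ^ m * (x * n * x⁻¹ * n⁻¹) * (x ^ m)⁻¹ ∈ N :=
        (Subgroup.mem_normalizer_iff.mp hxm _).mp h4
      have := mul_mem h6 ih
      have e : x ^ m * (x * n * x⁻¹ * n⁻¹) * (x ^ m)⁻¹ * (x ^ m * n * (x ^ m)⁻¹ * n⁻¹)
          = x ^ (m + 1) * n * (x ^ (m + 1))⁻¹ * n⁻¹ := by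
        rw [pow_succ]; group
      rwa [e] at this
  have hfix : ∀ y ∈ Subgroup.zpowers x, y * n * y⁻¹ * n⁻¹ ∈ N := by
    intro y hy
    rw [← (isOfFinOrder_of_finite x).mem_powers_iff_mem_zpowers, Submonoid.mem_powers_iff] at hy
    obtain ⟨m, rfl⟩ := hy
    exact h5 m
  obtain ⟨c', hc', hnc'⟩ := Cfsg.Agent.S0022.result (Subgroup.zpowers x) K
    (Subgroup.zpowers_le.mpr hxK) hcop (Or.inl inferInstance) N hNK hKN
    (Subgroup.zpowers_le.mpr hxN) n hnK hfix
  have hc'N : c' ∈ N := by
    apply hC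
    refine Subgroup.mem_inf.mpr ⟨(Subgroup.mem_inf.mp hc').1, ?_⟩
    have := (Subgroup.mem_inf.mp hc').2
    exact Subgroup.centralizer_le (Set.singleton_subset_iff.mpr (Subgroup.mem_zpowers x)) this
  have hnN : n ∈ N := by
    have h7 : n⁻¹ ∈ N := by
      have := mul_mem hnc' (inv_mem hc'N)
      rwa [mul_inv_cancel_right] at this
    simpa using inv_mem h7
  rw [← h1, extendHom_of_mem K φ hnK]
  exact (hker n hnK).mpr hnN

/-- the quotient step, general form: `S ⊆ A` contains `b` and all `a * b ^ m`, where `a ^ p` and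
`b ^ p` centralize `K`. -/
theorem le_of_centralizers_le' {Q : Type*} [CommGroup Q] {A K N : Subgroup G} (φ : ↥K →* Q)
    (hker : ∀ g (hg : g ∈ K), φ ⟨g, hg⟩ = 1 ↔ g ∈ N)
    (hNK : N ≤ K) (hKN : K ≤ Subgroup.normalizer (N : Set G))
    (hAK : A ≤ Subgroup.normalizer (K : Set G)) (hAN : A ≤ Subgroup.normalizer (N : Set G))
    (hcomm : ∀ x ∈ A, ∀ y ∈ A, x * y = y * x)
    (hcop : (Nat.card A).Coprime (Nat.card K)) (hpA : p ∣ Nat.card A)
    {a b : G} (ha : a ∈ A) (hb : b ∈ A) (hap : a ^ p ∈ Subgroup.centralizer (K : Set G))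
    (hbp : b ^ p ∈ Subgroup.centralizer (K : Set G)) {S : Set G} (hbS : b ∈ S)
    (habS : ∀ m : ℕ, a * b ^ m ∈ S)
    (hC : ∀ x ∈ A, x ∈ S → K ⊓ Subgroup.centralizer {x} ≤ N) : K ≤ N := by
  intro k hk
  set F : ZMod p → ZMod p → Q := fun i j =>
    extendHom K φ ((a ^ i.val * b ^ j.val) * k * (a ^ i.val * b ^ j.val)⁻¹) with hF
  have hid := prod_lines_identity F
  have hF1 : ∀ x ∈ A, x ∈ S → x ^ p ∈ Subgroup.centralizer (K : Set G) → ∀ k' ∈ K,
      ∏ i : ZMod p, extendHom K φ (x ^ i.val * k' * (x ^ i.val)⁻¹) = 1 := by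
    intro x hx hxS hxp k' hk'
    exact prod_conj_eq_one' φ hker hNK hKN (hAK hx) (hAN hx) hxp
      (Nat.Coprime.coprime_dvd_left (Subgroup.card_dvd_of_le (Subgroup.zpowers_le.mpr hx)) hcop)
      (hC x hx hxS) hk'
  have hcab : Commute a b := hcomm a ha b hb
  have hbk : ∀ k' ∈ K, b ^ p * k' = k' * b ^ p :=
    fun k' hk' => (Subgroup.mem_centralizer_iff.mp hbp k' hk').symm
  have e1 : ∀ k' : ZMod p, ∏ i, F i (k' * i) = 1 := by
    intro k'
    have hx : a * b ^ k'.val ∈ A := mul_mem ha (pow_mem hb _)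
    have hxp : (a * b ^ k'.val) ^ p ∈ Subgroup.centralizer (K : Set G) := by
      rw [(hcab.pow_right _).mul_pow, ← pow_mul, mul_comm k'.val p, pow_mul]
      exact mul_mem hap (pow_mem hbp _)
    have h := hF1 _ hx (habS _) hxp k hk
    rw [← h]
    apply Finset.prod_congr rfl
    intro i _
    simp only [hF]
    congr 1
    rw [(hcab.pow_right _).mul_pow, ← pow_mul, ZMod.val_mul]
    have h1 := conj_pow_mod (hbk k hk) (k'.val * i.val)
    calc a ^ i.val * b ^ (k'.val * i.val % p) * k * (a ^ i.val * b ^ (k'.val * i.val % p))⁻¹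
        = a ^ i.val * (b ^ (k'.val * i.val % p) * k * (b ^ (k'.val * i.val % p))⁻¹)
          * (a ^ i.val)⁻¹ := by group
      _ = a ^ i.val * (b ^ (k'.val * i.val) * k * (b ^ (k'.val * i.val))⁻¹)
          * (a ^ i.val)⁻¹ := by rw [h1]
      _ = _ := by group
  have e2 : ∏ j, F 0 j = 1 := by
    have h := hF1 b hb hbS hbp k hk
    rw [← h]
    apply Finset.prod_congr rfl
    intro j _
    simp only [hF, ZMod.val_zero, pow_zero, one_mul]
  have e3 : ∀ i, ∏ j, F i j = 1 := by
    intro i
    have hk' : a ^ i.val * k * (a ^ i.val)⁻¹ ∈ K :=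
      (Subgroup.mem_normalizer_iff.mp (Subgroup.pow_mem _ (hAK ha) i.val) k).mp hk
    have h := hF1 b hb hbS hbp _ hk'
    rw [← h]
    apply Finset.prod_congr rfl
    intro j _
    simp only [hF]
    congr 1
    have hc : a ^ i.val * b ^ j.val = b ^ j.val * a ^ i.val := ((hcab.pow_left _).pow_right _)
    rw [hc]; group
  have e4 : F 0 0 = extendHom K φ k := by
    simp only [hF, ZMod.val_zero, pow_zero, one_mul, inv_one, mul_one]
  rw [Finset.prod_congr rfl (fun k' _ => e1 k'), Finset.prod_congr rfl (fun i _ => e3 i), e2, e4]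
    at hid
  simp only [Finset.prod_const_one, mul_one] at hid
  have hkp : k ^ p ∈ N := by
    rw [← hker _ (pow_mem hk p), ← extendHom_of_mem K φ (pow_mem hk p), extendHom_pow K φ hk]
    exact hid.symm
  have hco : Nat.Coprime (orderOf k) p := by
    have h1 : orderOf k ∣ Nat.card K := by
      have h2 : orderOf (⟨k, hk⟩ : K) = orderOf k := Subgroup.orderOf_mk k hk
      rw [← h2]
      exact orderOf_dvd_natCard _
    exact (Nat.Coprime.coprime_dvd_left hpA (Nat.Coprime.coprime_dvd_right h1 hcop)).symm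
  exact mem_of_pow_mem_of_coprime (p := p) (k := 1) hco (by simpa using hkp)

end main

section cgenS
open scoped commutatorElement

/-- the subgroup of `K` generated by the centralizers in `K` of the elements of `S` -/
def cgenS {G : Type*} [Group G] (S : Set G) (K : Subgroup G) : Subgroup G :=
  ⨆ x ∈ S, K ⊓ Subgroup.centralizer {x}

variable {G : Type*} [Group G]

theorem cgenS_le (S : Set G) (K : Subgroup G) : cgenS S K ≤ K := iSup₂_le (fun _ _ => inf_le_left)

theorem le_cgenS {S : Set G} {K : Subgroup G} {x : G} (hx : x ∈ S) :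
    K ⊓ Subgroup.centralizer {x} ≤ cgenS S K :=
  le_iSup₂_of_le (f := fun x (_ : x ∈ S) => K ⊓ Subgroup.centralizer {x}) x hx le_rfl

theorem cgenS_mono {S : Set G} {H K : Subgroup G} (h : H ≤ K) : cgenS S H ≤ cgenS S K :=
  iSup₂_mono (fun _ _ => inf_le_inf_right _ h)

theorem le_normalizer_cgenS [Finite G] {A K : Subgroup G} {S : Set G} (hS : S ⊆ A)
    (hcomm : ∀ x ∈ A, ∀ y ∈ A, x * y = y * x)
    (hAK : A ≤ Subgroup.normalizer (K : Set G)) :
    A ≤ Subgroup.normalizer (cgenS S K : Set G) := by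
  intro y hy
  apply mem_normalizer_of_conj_mem
  intro h hh
  have hmap : (cgenS S K).map (MulAut.conj y).toMonoidHom ≤ cgenS S K := by
    unfold cgenS
    rw [Subgroup.map_iSup]
    apply iSup_le; intro x
    rw [Subgroup.map_iSup]
    apply iSup_le; intro hx
    rintro _ ⟨k, hk, rfl⟩
    have hk' := Subgroup.mem_inf.mp hk
    apply le_cgenS hx
    refine Subgroup.mem_inf.mpr ⟨(Subgroup.mem_normalizer_iff.mp (hAK hy) k).mp hk'.1, ?_⟩
    rw [Subgroup.mem_centralizer_singleton_iff]
    have h1 : k * x = x * k := Subgroup.mem_centralizer_singleton_iff.mp hk'.2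
    have h2 : y * x = x * y := hcomm y hy x (hS hx)
    show y * k * y⁻¹ * x = x * (y * k * y⁻¹)
    have h3 : y⁻¹ * x = x * y⁻¹ := by
      rw [inv_mul_eq_iff_eq_mul, ← mul_assoc, h2, mul_inv_cancel_right]
    calc y * k * y⁻¹ * x = y * k * (y⁻¹ * x) := by group
      _ = y * k * (x * y⁻¹) := by rw [h3]
      _ = y * (k * x) * y⁻¹ := by group
      _ = y * (x * k) * y⁻¹ := by rw [h1]
      _ = (y * x) * k * y⁻¹ := by group
      _ = (x * y) * k * y⁻¹ := by rw [h2]
      _ = x * (y * k * y⁻¹) := by group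
  exact hmap ⟨h, hh, rfl⟩

/-- **Generation by centralizers, general form**: `A` abelian acting coprimely on `K`, `Z ≤ A`
acting trivially, `a, b ∈ A` with `a ^ p, b ^ p ∈ Z`, and `S ⊆ A` containing `b` and every
`a * b ^ m`. Then `K = ⟨C_K(x) : x ∈ S⟩`. -/
theorem cgenS_eq [Finite G] {p : ℕ} [Fact p.Prime] {A Z : Subgroup G} {S : Set G}
    (hS : S ⊆ A) (hcomm : ∀ x ∈ A, ∀ y ∈ A, x * y = y * x) (hpA : p ∣ Nat.card A)
    {a b : G} (ha : a ∈ A) (hb : b ∈ A) (hap : a ^ p ∈ Z) (hbp : b ^ p ∈ Z) (hbS : b ∈ S)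
    (habS : ∀ m : ℕ, a * b ^ m ∈ S) :
    ∀ (n : ℕ) (K : Subgroup G), Nat.card K = n → A ≤ Subgroup.normalizer (K : Set G) →
      (Nat.card A).Coprime (Nat.card K) → Z ≤ Subgroup.centralizer (K : Set G) →
      cgenS S K = K := by
  intro n
  induction n using Nat.strong_induction_on with
  | _ n ih =>
  intro K hKn hAK hcop hZK
  by_contra hne
  have hK₀K : cgenS S K ≤ K := cgenS_le S K
  have hlt : cgenS S K < K := lt_of_le_of_ne hK₀K hne
  have hAK₀ : A ≤ Subgroup.normalizer (cgenS S K : Set G) := le_normalizer_cgenS hS hcomm hAK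
  have hinv : ∀ H : Subgroup G, H < K → A ≤ Subgroup.normalizer (H : Set G) → H ≤ cgenS S K := by
    intro H hH hAH
    have h1 : Nat.card H < n := hKn ▸ card_lt_card_of_lt hH
    have h2 := ih _ h1 H rfl hAH
      (Nat.Coprime.coprime_dvd_right (Subgroup.card_dvd_of_le hH.le) hcop)
      (hZK.trans (Subgroup.centralizer_le (show (H : Set G) ⊆ K from hH.le)))
    rw [← h2]; exact cgenS_mono hH.le
  by_cases hq : ∃ q : ℕ, q.Prime ∧ IsPGroup q K
  · obtain ⟨q, hqp, hKq⟩ := hq
    haveI : Fact q.Prime := ⟨hqp⟩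
    have hKne : K ≠ ⊥ := by
      rintro rfl
      exact hne (le_antisymm hK₀K bot_le)
    have h1 : K ≤ Subgroup.normalizer (cgenS S K : Set G) := by
      have hK₀M : cgenS S K < K ⊓ Subgroup.normalizer (cgenS S K : Set G) := by
        haveI : Group.IsNilpotent ↥K := hKq.isNilpotent
        have hlt' : (cgenS S K).subgroupOf K < ⊤ := by
          rw [lt_top_iff_ne_top]; intro htop
          exact hne (le_antisymm hK₀K (Subgroup.subgroupOf_eq_top.mp htop))
        have hnc := Group.normalizerCondition_of_isNilpotent (G := ↥K) _ hlt'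
        obtain ⟨x, hxN, hxK⟩ := SetLike.exists_of_lt hnc
        rw [← Subgroup.subgroupOf_normalizer_eq hK₀K] at hxN
        refine lt_of_le_of_ne (le_inf hK₀K Subgroup.le_normalizer) ?_
        intro heq
        apply hxK
        rw [Subgroup.mem_subgroupOf, heq]
        exact Subgroup.mem_inf.mpr ⟨x.2, Subgroup.mem_subgroupOf.mp hxN⟩
      have hAM : A ≤ Subgroup.normalizer
          ((K ⊓ Subgroup.normalizer (cgenS S K : Set G) : Subgroup G) : Set G) := by
        intro y hy
        apply mem_normalizer_of_conj_mem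
        intro g hg
        obtain ⟨hgK, hgN⟩ := Subgroup.mem_inf.mp hg
        refine Subgroup.mem_inf.mpr ⟨(Subgroup.mem_normalizer_iff.mp (hAK hy) g).mp hgK, ?_⟩
        exact mul_mem (mul_mem (hAK₀ hy) hgN) (inv_mem (hAK₀ hy))
      by_contra hnot
      have hMK : K ⊓ Subgroup.normalizer (cgenS S K : Set G) < K :=
        lt_of_le_of_ne inf_le_left (fun h => hnot (h.symm.le.trans inf_le_right))
      exact absurd (hinv _ hMK hAM) (not_le_of_gt hK₀M)
    have h2 : ⁅K, K⁆ ≤ cgenS S K := by
      apply hinv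
      · exact Cfsg.Agent.H1.commutator_lt_of_pgroup K K hKq hKq Subgroup.le_normalizer hKne
      · exact Cfsg.Agent.H1.le_normalizer_commutator A K K hAK hAK
    haveI hnorm : ((cgenS S K).subgroupOf K).Normal := by
      constructor
      intro n hn g
      rw [Subgroup.mem_subgroupOf] at hn ⊢
      exact (Subgroup.mem_normalizer_iff.mp (h1 g.2) n).mp hn
    letI : CommGroup (↥K ⧸ (cgenS S K).subgroupOf K) :=
      { (inferInstance : Group (↥K ⧸ (cgenS S K).subgroupOf K)) with
        mul_comm := by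
          intro u v
          induction u using QuotientGroup.induction_on with
          | _ u =>
          induction v using QuotientGroup.induction_on with
          | _ v =>
          rw [← QuotientGroup.mk_mul, ← QuotientGroup.mk_mul, QuotientGroup.eq,
            Subgroup.mem_subgroupOf]
          apply h2
          have : (((u * v)⁻¹ * (v * u) : ↥K) : G) = ⁅(v : G)⁻¹, (u : G)⁻¹⁆ := by
            rw [commutatorElement_def]; push_cast; group
          rw [this]
          exact Subgroup.commutator_mem_commutator (inv_mem v.2) (inv_mem u.2) }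
    have hker : ∀ g (hg : g ∈ K),
        (QuotientGroup.mk' ((cgenS S K).subgroupOf K)) ⟨g, hg⟩ = 1 ↔ g ∈ cgenS S K := by
      intro g hg
      rw [QuotientGroup.mk'_apply, QuotientGroup.eq_one_iff]
      exact Subgroup.mem_subgroupOf
    have := le_of_centralizers_le' (p := p) (QuotientGroup.mk' ((cgenS S K).subgroupOf K)) hker
      hK₀K h1 hAK hAK₀ hcomm hcop hpA ha hb (hZK hap) (hZK hbp) hbS habS
      (fun x _ hxS => le_cgenS hxS)
    exact hne (le_antisymm hK₀K this)
  · push Not at hq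
    have hsolv : Group.IsSolvable ↥A :=
      Group.isSolvable_of_comm (fun x y => Subtype.ext (hcomm x x.2 y y.2))
    have hsyl : ∀ q : ℕ, q.Prime →
        q ^ (Nat.card K).factorization q ∣ Nat.card (cgenS S K) := by
      intro q hqp
      haveI : Fact q.Prime := ⟨hqp⟩
      obtain ⟨P, hP⟩ := Cfsg.Agent.S0023.result A K hAK hcop (Or.inl hsolv) q
      have hPK : (P : Subgroup K).map K.subtype ≤ K := Subgroup.map_subtype_le _
      have hPp : IsPGroup q ↥((P : Subgroup K).map K.subtype) := P.isPGroup'.map _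
      have hPlt : (P : Subgroup K).map K.subtype < K := by
        refine lt_of_le_of_ne hPK ?_
        intro heq
        apply hq q hqp
        rw [heq] at hPp
        exact hPp
      have hle := hinv _ hPlt hP
      have hcard : Nat.card ↥((P : Subgroup K).map K.subtype)
          = q ^ (Nat.card K).factorization q := by
        rw [Subgroup.card_map_of_injective K.subtype_injective]
        exact P.card_eq_multiplicity
      rw [← hcard]
      exact Subgroup.card_dvd_of_le hle
    have hdvd : Nat.card K ∣ Nat.card (cgenS S K) := by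
      rw [← Nat.factorization_prime_le_iff_dvd Nat.card_pos.ne' Nat.card_pos.ne']
      intro q hqp
      exact (hqp.pow_dvd_iff_le_factorization Nat.card_pos.ne').mp (hsyl q hqp)
    exact hne (Subgroup.eq_of_le_of_card_ge hK₀K (Nat.le_of_dvd Nat.card_pos hdvd))

end cgenS

end Cfsg.Agent.Lib.Helper7
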