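import Mathlib
import Cfsg.Agent.S0026
import Cfsg.Agent.S0027
import Cfsg.Agent.H1.CoprimeAction
import Cfsg.Agent.Lib.Helper7.CoprimeGen3
import Cfsg.Agent.Lib.Helper7.CoprimeGen4

set_option autoImplicit false

namespace Cfsg.Agent.Lib.Helper7

open Cfsg.Agent.Lib.Lead.Conj
open scoped commutatorElement

variable {X : Type*} [Group X]

/-- the subgroups `B ≤ A` with `A / B` cyclic -/
def cocyclic (A : Subgroup X) : Set (Subgroup X) :=
  {B : Subgroup X | B ≤ A ∧ ∃ a ∈ A, B ⊔ Subgroup.zpowers a = A}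

/-- the subgroup of `K` generated by the `C_K(B)`, `A / B` cyclic -/
def hgen (A K : Subgroup X) : Subgroup X :=
  ⨆ B ∈ cocyclic A, K ⊓ Subgroup.centralizer (B : Set X)

theorem hgen_le (A K : Subgroup X) : hgen A K ≤ K := iSup₂_le (fun _ _ => inf_le_left)

theorem hgen_mono {A H K : Subgroup X} (h : H ≤ K) : hgen A H ≤ hgen A K :=
  iSup₂_mono (fun _ _ => inf_le_inf_right _ h)

theorem le_hgen {A K B : Subgroup X} (hB : B ∈ cocyclic A) :
    K ⊓ Subgroup.centralizer (B : Set X) ≤ hgen A K :=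
  le_iSup₂_of_le (f := fun B (_ : B ∈ cocyclic A) => K ⊓ Subgroup.centralizer (B : Set X))
    B hB le_rfl

/-- a subgroup normalizing every member of a family normalizes its supremum -/
theorem le_normalizer_iSup₂ [Finite X] {ι : Type*} {P : ι → Prop} (H : ι → Subgroup X) (Y : Subgroup X)
    (h : ∀ i, P i → Y ≤ Subgroup.normalizer (H i : Set X)) :
    Y ≤ Subgroup.normalizer ((⨆ i, ⨆ (_ : P i), H i : Subgroup X) : Set X) := by
  intro y hy
  apply mem_normalizer_of_conj_mem
  intro g hg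
  have hmap : (⨆ i, ⨆ (_ : P i), H i : Subgroup X).map (MulAut.conj y).toMonoidHom
      ≤ ⨆ i, ⨆ (_ : P i), H i := by
    rw [Subgroup.map_iSup]
    apply iSup_le; intro i
    rw [Subgroup.map_iSup]
    apply iSup_le; intro hi
    refine le_trans ?_ (le_iSup₂_of_le (f := fun i (_ : P i) => H i) i hi le_rfl)
    rintro _ ⟨k, hk, rfl⟩
    exact (Subgroup.mem_normalizer_iff.mp (h i hi hy) k).mp hk
  exact hmap ⟨g, hg, rfl⟩

section main
variable [Finite X]

theorem centralizer_singleton_inf_normalized {A K : Subgroup X}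
    (hcomm : ∀ x ∈ A, ∀ y ∈ A, x * y = y * x) (hAK : A ≤ Subgroup.normalizer (K : Set X))
    {B : Set X} (hB : B ⊆ A) :
    A ≤ Subgroup.normalizer ((K ⊓ Subgroup.centralizer B : Subgroup X) : Set X) := by
  intro y hy
  apply mem_normalizer_of_conj_mem
  intro k hk
  have hk' := Subgroup.mem_inf.mp hk
  refine Subgroup.mem_inf.mpr ⟨(Subgroup.mem_normalizer_iff.mp (hAK hy) k).mp hk'.1, ?_⟩
  rw [Subgroup.mem_centralizer_iff]
  intro x hx
  have h1 : x * k = k * x := Subgroup.mem_centralizer_iff.mp hk'.2 x hx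
  have h2 : y * x = x * y := hcomm y hy x (hB hx)
  have h3 : y⁻¹ * x = x * y⁻¹ := by
    rw [inv_mul_eq_iff_eq_mul, ← mul_assoc, h2, mul_inv_cancel_right]
  calc x * (y * k * y⁻¹) = (x * y) * k * y⁻¹ := by group
    _ = (y * x) * k * y⁻¹ := by rw [h2]
    _ = y * (x * k) * y⁻¹ := by group
    _ = y * (k * x) * y⁻¹ := by rw [h1]
    _ = y * k * (x * y⁻¹) := by group
    _ = y * k * (y⁻¹ * x) := by rw [h3]
    _ = y * k * y⁻¹ * x := by group

/-- **Generation by centralizers of cocyclic subgroups** -/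
theorem hgen_eq {A : Subgroup X} (hcomm : ∀ x ∈ A, ∀ y ∈ A, x * y = y * x) :
    ∀ (n : ℕ) (K : Subgroup X), Nat.card K = n → A ≤ Subgroup.normalizer (K : Set X) →
      (Nat.card A).Coprime (Nat.card K) → hgen A K = K := by
  classical
  intro n
  induction n using Nat.strong_induction_on with
  | _ n ih =>
  intro K hKn hAK hcop
  apply le_antisymm (hgen_le A K)
  by_cases hcyc : ∃ a ∈ A, (A ⊓ Subgroup.centralizer (K : Set X)) ⊔ Subgroup.zpowers a = A
  · have hB : (A ⊓ Subgroup.centralizer (K : Set X)) ∈ cocyclic A := ⟨inf_le_left, hcyc⟩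
    refine le_trans ?_ (le_hgen hB)
    refine le_inf le_rfl ?_
    rw [Subgroup.le_centralizer_iff]
    exact inf_le_right
  · push Not at hcyc
    -- the quotient A / C_A(K)
    set A₀ : Subgroup X := A ⊓ Subgroup.centralizer (K : Set X) with hA₀
    have hcommA : ∀ x y : ↥A, x * y = y * x := fun x y => Subtype.ext (hcomm x x.2 y y.2)
    haveI : (A₀.subgroupOf A).Normal := by
      constructor
      intro n hn g
      have : g * n * g⁻¹ = n := by rw [hcommA g n, mul_inv_cancel_right]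
      rw [this]; exact hn
    have hcommQ : ∀ x y : ↥A ⧸ A₀.subgroupOf A, x * y = y * x := by
      intro x y
      induction x using QuotientGroup.induction_on with
      | _ x =>
      induction y using QuotientGroup.induction_on with
      | _ y =>
      rw [← QuotientGroup.mk_mul, ← QuotientGroup.mk_mul, hcommA x y]
    have hncQ : ¬ IsCyclic (↥A ⧸ A₀.subgroupOf A) := by
      intro hc
      obtain ⟨g, hg⟩ := hc.exists_generator
      induction g using QuotientGroup.induction_on with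
      | _ g =>
      apply hcyc (g : X) g.2
      apply le_antisymm (sup_le inf_le_left (Subgroup.zpowers_le.mpr g.2))
      intro x hx
      obtain ⟨m, hm⟩ := Subgroup.mem_zpowers_iff.mp (hg (QuotientGroup.mk (⟨x, hx⟩ : ↥A)))
      rw [← QuotientGroup.mk_zpow, QuotientGroup.eq] at hm
      -- (g^m)⁻¹ * x ∈ A₀
      have h1 : (((g ^ m)⁻¹ * ⟨x, hx⟩ : ↥A) : X) ∈ A₀ := Subgroup.mem_subgroupOf.mp hm
      have h2 : x = (g : X) ^ m * (((g ^ m)⁻¹ * ⟨x, hx⟩ : ↥A) : X) := by
        push_cast; group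
      rw [h2]
      exact mul_mem (Subgroup.mem_sup_right (Subgroup.zpow_mem_zpowers _ m))
        (Subgroup.mem_sup_left h1)
    haveI : Fintype (↥A ⧸ A₀.subgroupOf A) := Fintype.ofFinite _
    obtain ⟨p, hpp, a', b', hap, hbp, hb1, hab⟩ :=
      exists_prime_rank_two_of_not_isCyclic hcommQ hncQ
    haveI : Fact p.Prime := ⟨hpp⟩
    induction a' using QuotientGroup.induction_on with
    | _ a =>
    induction b' using QuotientGroup.induction_on with
    | _ b =>
    have hap' : (a : X) ^ p ∈ A₀ := by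
      rw [← QuotientGroup.mk_pow, QuotientGroup.eq_one_iff, Subgroup.mem_subgroupOf] at hap
      simpa using hap
    have hbp' : (b : X) ^ p ∈ A₀ := by
      rw [← QuotientGroup.mk_pow, QuotientGroup.eq_one_iff, Subgroup.mem_subgroupOf] at hbp
      simpa using hbp
    have hb1' : (b : X) ∉ A₀ := by
      intro h
      apply hb1
      rw [QuotientGroup.eq_one_iff, Subgroup.mem_subgroupOf]
      exact h
    have hab' : ∀ m : ℕ, (a : X) * (b : X) ^ m ∉ A₀ := by
      intro m h
      apply hab m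
      rw [← QuotientGroup.mk_pow, ← QuotientGroup.mk_mul, QuotientGroup.eq_one_iff,
        Subgroup.mem_subgroupOf]
      simpa using h
    have hpA : p ∣ Nat.card A := by
      have h1 : orderOf (QuotientGroup.mk b : ↥A ⧸ A₀.subgroupOf A) = p :=
        orderOf_eq_prime hbp hb1
      have h2 : p ∣ Nat.card (↥A ⧸ A₀.subgroupOf A) := by
        rw [← h1]; exact orderOf_dvd_natCard _
      exact h2.trans (Subgroup.card_quotient_dvd_card _)
    set S : Set X := {x | x ∈ A ∧ x ∉ A₀} with hS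
    have hgenS : cgenS S K = K :=
      cgenS_eq (p := p) (Z := A₀) (S := S) (fun x hx => hx.1) hcomm hpA a.2 b.2 hap' hbp'
        ⟨b.2, hb1'⟩ (fun m => ⟨mul_mem a.2 (pow_mem b.2 m), hab' m⟩) _ K rfl hAK hcop inf_le_right
    conv_lhs => rw [← hgenS]
    unfold cgenS
    apply iSup₂_le
    intro x hx
    -- H = C_K(x) < K
    have hlt : K ⊓ Subgroup.centralizer ({x} : Set X) < K := by
      refine lt_of_le_of_ne inf_le_left ?_
      intro heq
      apply hx.2
      refine Subgroup.mem_inf.mpr ⟨hx.1, ?_⟩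
      rw [Subgroup.mem_centralizer_iff]
      intro k hk
      have : k ∈ K ⊓ Subgroup.centralizer ({x} : Set X) := by rw [heq]; exact hk
      exact (Subgroup.mem_centralizer_singleton_iff.mp (Subgroup.mem_inf.mp this).2)
    have hAH : A ≤ Subgroup.normalizer
        ((K ⊓ Subgroup.centralizer ({x} : Set X) : Subgroup X) : Set X) :=
      centralizer_singleton_inf_normalized hcomm hAK (Set.singleton_subset_iff.mpr hx.1)
    have h1 : Nat.card ↥(K ⊓ Subgroup.centralizer ({x} : Set X)) < n :=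
      hKn ▸ card_lt_card_of_lt hlt
    have h2 := ih _ h1 _ rfl hAH
      (Nat.Coprime.coprime_dvd_right (Subgroup.card_dvd_of_le hlt.le) hcop)
    rw [← h2]
    exact hgen_mono hlt.le

/-- **Commutator version**: `[K, A]` is generated by the `[C_K(B), A]`, `A / B` cyclic. -/
theorem hgen_commutator {A K : Subgroup X} (hcomm : ∀ x ∈ A, ∀ y ∈ A, x * y = y * x)
    (hAK : A ≤ Subgroup.normalizer (K : Set X)) (hcop : (Nat.card A).Coprime (Nat.card K)) :
    (⨆ B ∈ cocyclic A, ⁅K ⊓ Subgroup.centralizer (B : Set X), A⁆) = ⁅K, A⁆ := by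
  have hsolv : Group.IsSolvable ↥A :=
    Group.isSolvable_of_comm (fun x y => Subtype.ext (hcomm x x.2 y y.2))
  apply le_antisymm
  · exact iSup₂_le (fun B _ => Subgroup.commutator_mono inf_le_left le_rfl)
  set W : Subgroup X := ⨆ B ∈ cocyclic A, ⁅K ⊓ Subgroup.centralizer (B : Set X), A⁆ with hW
  have hK₁K : ⁅K, A⁆ ≤ K := Subgroup.le_normalizer_iff_commutator_le_left.mp hAK
  have hAK₁ : A ≤ Subgroup.normalizer ((⁅K, A⁆ : Subgroup X) : Set X) :=
    Cfsg.Agent.H1.le_normalizer_commutator A K A hAK Subgroup.le_normalizer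
  have hcop₁ : (Nat.card A).Coprime (Nat.card ↥(⁅K, A⁆)) :=
    Nat.Coprime.coprime_dvd_right (Subgroup.card_dvd_of_le hK₁K) hcop
  have hWK₁ : W ≤ ⁅K, A⁆ := iSup₂_le (fun B _ => Subgroup.commutator_mono inf_le_left le_rfl)
  -- C₁ = C_{K₁}(A)
  have hC₁W : ⁅K, A⁆ ⊓ Subgroup.centralizer (A : Set X) ≤ Subgroup.normalizer (W : Set X) := by
    apply le_normalizer_iSup₂ (P := fun B => B ∈ cocyclic A)
      (fun B => ⁅K ⊓ Subgroup.centralizer (B : Set X), A⁆)
    intro B hB
    apply Cfsg.Agent.H1.le_normalizer_commutator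
    · refine le_trans ?_ Subgroup.le_normalizer
      exact inf_le_inf hK₁K (Subgroup.centralizer_le (show (B : Set X) ⊆ A from hB.1))
    · exact inf_le_right.trans (Subgroup.centralizer_le_normalizer _)
  have hAW : A ≤ Subgroup.normalizer (W : Set X) := by
    apply le_normalizer_iSup₂ (P := fun B => B ∈ cocyclic A)
      (fun B => ⁅K ⊓ Subgroup.centralizer (B : Set X), A⁆)
    intro B hB
    apply Cfsg.Agent.H1.le_normalizer_commutator
    · exact centralizer_singleton_inf_normalized hcomm hAK hB.1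
    · exact Subgroup.le_normalizer
  -- K₁ ≤ W ⊔ C₁
  have hK₁ : ⁅K, A⁆ ≤ W ⊔ (⁅K, A⁆ ⊓ Subgroup.centralizer (A : Set X)) := by
    have h1 := hgen_eq hcomm _ ⁅K, A⁆ rfl hAK₁ hcop₁
    conv_lhs => rw [← h1]
    unfold hgen
    apply iSup₂_le
    intro B hB
    have hAD : A ≤ Subgroup.normalizer
        ((⁅K, A⁆ ⊓ Subgroup.centralizer (B : Set X) : Subgroup X) : Set X) :=
      centralizer_singleton_inf_normalized hcomm hAK₁ hB.1
    have h2 := Cfsg.Agent.S0026.result A (⁅K, A⁆ ⊓ Subgroup.centralizer (B : Set X)) hAD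
      (Nat.Coprime.coprime_dvd_right (Subgroup.card_dvd_of_le inf_le_left) hcop₁) (Or.inl hsolv)
    conv_lhs => rw [← h2]
    apply sup_le_sup
    · refine le_trans ?_ (le_iSup₂_of_le (f := fun B (_ : B ∈ cocyclic A) =>
        ⁅K ⊓ Subgroup.centralizer (B : Set X), A⁆) B hB le_rfl)
      exact Subgroup.commutator_mono (inf_le_inf_right _ hK₁K) le_rfl
    · exact inf_le_inf_right _ inf_le_left
  -- [K₁, A] ≤ W
  have hcomW : ⁅⁅K, A⁆, A⁆ ≤ W := by
    rw [Subgroup.commutator_le]
    intro k hk y hy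
    obtain ⟨w, hw, c, hc, rfl⟩ := (Cfsg.Agent.H1.mem_sup_of_le_normalizer W _ hC₁W).mp (hK₁ hk)
    have hcy : y * c = c * y := Subgroup.mem_centralizer_iff.mp (Subgroup.mem_inf.mp hc).2 y hy
    have e : ⁅w * c, y⁆ = w * (y * w⁻¹ * y⁻¹) := by
      rw [commutatorElement_def]
      calc w * c * y * (w * c)⁻¹ * y⁻¹ = w * (c * y) * c⁻¹ * w⁻¹ * y⁻¹ := by group
        _ = w * (y * c) * c⁻¹ * w⁻¹ * y⁻¹ := by rw [hcy]
        _ = w * (y * w⁻¹ * y⁻¹) := by group
    rw [e]
    exact mul_mem hw ((Subgroup.mem_normalizer_iff.mp (hAW hy) _).mp (inv_mem hw))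
  rw [← Cfsg.Agent.S0027.result A K hAK hcop (Or.inl hsolv)]
  exact hcomW

/-- S3734 -/
theorem abelian_coprime_generation (A G : Subgroup X) (hAab : IsMulCommutative A)
    (hAG : A ≤ Subgroup.normalizer (G : Set X)) (hcop : (Nat.card A).Coprime (Nat.card G)) :
    (⨆ B ∈ {B : Subgroup X | B ≤ A ∧ ∃ a ∈ A, B ⊔ Subgroup.zpowers a = A},
        G ⊓ Subgroup.centralizer (B : Set X)) = G ∧
    (⨆ B ∈ {B : Subgroup X | B ≤ A ∧ ∃ a ∈ A, B ⊔ Subgroup.zpowers a = A},
        ⁅G ⊓ Subgroup.centralizer (B : Set X), A⁆) = ⁅G, A⁆ := by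
  have hcomm : ∀ x ∈ A, ∀ y ∈ A, x * y = y * x := fun x hx y hy =>
    congrArg Subtype.val (hAab.is_comm.comm ⟨x, hx⟩ ⟨y, hy⟩)
  exact ⟨hgen_eq hcomm _ G rfl hAG hcop, hgen_commutator hcomm hAG hcop⟩

end main

end Cfsg.Agent.Lib.Helper7
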