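import Mathlib
import Cfsg.Prelude.Def_LocalStructure
import Cfsg.Prelude.Def_LocalEven
import Cfsg.Agent.H2.LocalFStar2

set_option autoImplicit false
open Cfsg
open scoped commutatorElement

namespace Cfsg.Agent.Lib.Helper7

open Cfsg.Agent.H2

/-- If `z ≠ 1` is central in the `p`-subgroup `T` and `F*(C_G(z)) = O_p(C_G(z))`, then
`F*(N_G(T)) = O_p(N_G(T))`. (General-`p` version of helper2's S1292 argument.) -/
theorem fstar_normalizer_of_fstar_centralizer {G : Type*} [Group G] [Finite G] {p : ℕ} [Fact p.Prime]
    (T : Subgroup G) (hT : IsPGroup p ↥T) (t : G) (htT : t ∈ T)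
    (htc : ∀ x ∈ T, x * t = t * x)
    (h : Cfsg.generalizedFittingSubgroup ↥(Subgroup.centralizer ({t} : Set G))
      = Cfsg.pCore p ↥(Subgroup.centralizer ({t} : Set G))) :
    Cfsg.generalizedFittingSubgroup ↥(Subgroup.normalizer (T : Set G))
      = Cfsg.pCore p ↥(Subgroup.normalizer (T : Set G)) := by
  set H := Subgroup.centralizer ({t} : Set G) with hH
  set N := Subgroup.normalizer (T : Set G) with hN
  have hQ : Subgroup.centralizer ((Cfsg.pCore p H : Subgroup H) : Set H) ≤ Cfsg.pCore p H := by
    have := centralizer_generalizedFittingSubgroup_le (G := H)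
    rwa [h] at this
  have hTH : T ≤ H := by
    intro x hx
    rw [hH, Subgroup.mem_centralizer_singleton_iff]
    exact htc x hx
  have hTN : T ≤ N := Subgroup.le_normalizer
  have hcentH : ∀ Y : Subgroup G, Y ≤ Subgroup.centralizer (T : Set G) → Y ≤ H := by
    intro Y hY y hy
    rw [hH, Subgroup.mem_centralizer_singleton_iff]
    exact (Subgroup.mem_centralizer_iff.1 (hY hy) t htT).symm
  obtain ⟨hM1, hM2⟩ := local_of_subgroup p H hQ T (N ⊓ H) hT (le_inf hTN hTH) inf_le_right
    inf_le_left (inf_le_inf_right _ (Subgroup.centralizer_le_normalizer _))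
  apply generalizedFittingSubgroup_eq_pCore_of_forall
  · rw [eq_bot_iff]
    apply layer_le_iff.2
    intro K hK
    exfalso
    have hK'N : K.map N.subtype ≤ N := Subgroup.map_subtype_le _
    have hKeq : (K.map N.subtype).subgroupOf N = K :=
      Subgroup.comap_map_eq_self_of_injective N.subtype_injective K
    have hqs : Cfsg.IsQuasisimple (K.map N.subtype) :=
      (isQuasisimple_map_of_injective _ N.subtype_injective K).2 hK.2
    have hTn : (T.subgroupOf N).Normal := (Subgroup.normal_subgroupOf_iff_le_normalizer hTN).2 le_rfl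
    have hTs : Group.IsSolvable (T.subgroupOf N) := by
      have : Group.IsNilpotent (T.subgroupOf N) :=
        (hT.comap_of_injective N.subtype N.subtype_injective).isNilpotent
      infer_instance
    have hKT : K.map N.subtype ≤ Subgroup.centralizer (T : Set G) := by
      rw [← Subgroup.commutator_eq_bot_iff_le_centralizer,
        ← commutator_subgroupOf_eq_bot_iff hK'N hTN, hKeq]
      exact component_commutator_normal_solvable hK _ hTs
    have hKM : K.map N.subtype ≤ N ⊓ H := le_inf hK'N (hcentH _ hKT)
    have hcomp : Cfsg.IsComponent ((K.map N.subtype).subgroupOf (N ⊓ H)) := by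
      refine ⟨?_, (isQuasisimple_subgroupOf hKM).2 hqs⟩
      apply isSubnormal_subgroupOf_of_le (inf_le_left : N ⊓ H ≤ N)
      rw [hKeq]; exact hK.1
    have := component_le_layer hcomp
    rw [hM1, le_bot_iff] at this
    exact quasisimple_ne_bot hcomp.2 this
  · intro q hq hqp
    have := Fact.mk hq
    set Y := (Cfsg.pCore q N).map N.subtype with hYdef
    have hYq : IsPGroup q Y := (Cfsg.Agent.H1.pCore_isPGroup q).map _
    have hYN : Y ≤ N := Subgroup.map_subtype_le _
    have hNY : N ≤ Subgroup.normalizer (Y : Set G) := le_normalizer_map_subtype_of_normal N _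
    have hYT : Y ≤ Subgroup.centralizer (T : Set G) := by
      rw [← Subgroup.commutator_eq_bot_iff_le_centralizer]
      apply commutator_eq_bot_of_disjoint hYN (hTN.trans hNY)
      exact (IsPGroup.disjoint_of_ne q p hqp Y T hYq hT).eq_bot
    have hYM : Y ≤ N ⊓ H := le_inf hYN (hcentH _ hYT)
    have hYn : (Y.subgroupOf (N ⊓ H)).Normal :=
      (Subgroup.normal_subgroupOf_iff_le_normalizer hYM).2 (inf_le_left.trans hNY)
    have hYq' : IsPGroup q (Y.subgroupOf (N ⊓ H)) :=
      hYq.comap_of_injective _ (Subgroup.subtype_injective _)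
    have h3 : Y.subgroupOf (N ⊓ H) ≤ Cfsg.pCore q (N ⊓ H : Subgroup G) :=
      Cfsg.Agent.H1.le_pCore hYn hYq'
    rw [hM2 q hq hqp, le_bot_iff, Subgroup.subgroupOf_eq_bot, disjoint_iff,
      inf_eq_left.2 hYM] at h3
    rw [hYdef] at h3
    exact (Subgroup.map_eq_bot_iff_of_injective _ N.subtype_injective).1 h3

end Cfsg.Agent.Lib.Helper7
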