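import Mathlib
import Cfsg.Prelude.Def_EvenType
import Cfsg.Prelude.Def_AlmostLie
import Cfsg.Prelude.Def_LocalEven
import Cfsg.Agent.Lib.Helper7.StrEmb
import Cfsg.Agent.Lib.Helper7.Core

set_option autoImplicit false
open Cfsg

namespace Cfsg.Agent.Lib.Helper7

open Cfsg.Agent.Lib.Lead.Conj Cfsg.Agent.Lib.Lead.StronglyEmbedded

variable {G : Type*} [Group G] [Finite G] {p : ℕ} [Fact p.Prime]

/-- Sylow maximality for `IsSylowIn` -/
theorem IsSylowIn.eq_of_le {R R' K : Subgroup G} (hR : IsSylowIn p R K) (hRR' : R ≤ R')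
    (hR'K : R' ≤ K) (hR' : IsPGroup p ↥R') : R' = R := by
  have hp : p.Prime := Fact.out
  symm
  apply Subgroup.eq_of_le_of_card_ge hRR'
  obtain ⟨k, hk⟩ := hR'.exists_card_eq
  have hdvd : p ^ k ∣ Nat.card ↥K := by rw [← hk]; exact Subgroup.card_dvd_of_le hR'K
  rw [hk, hR.2]
  exact Nat.pow_le_pow_right hp.pos ((hp.pow_dvd_iff_le_factorization Nat.card_pos.ne').mp hdvd)

/-- a `p`-element of `K` normalizing a Sylow `p`-subgroup `R` of `K` lies in `R` -/
theorem IsSylowIn.mem_of_normalizes {R K : Subgroup G} (hR : IsSylowIn p R K) {t : G} (htK : t ∈ K)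
    (htp : IsPGroup p ↥(Subgroup.zpowers t)) (htN : t ∈ Subgroup.normalizer (R : Set G)) : t ∈ R := by
  have h1 : IsPGroup p ↥(R ⊔ Subgroup.zpowers t) :=
    IsPGroup.to_sup_of_normal_left' hR.isPGroup htp (Subgroup.zpowers_le.mpr htN)
  have h2 := hR.eq_of_le le_sup_left (sup_le hR.1 (Subgroup.zpowers_le.mpr htK)) h1
  rw [← h2]
  exact Subgroup.mem_sup_right (Subgroup.mem_zpowers t)

theorem pCentral_fusion_control_normalizer_le (H : Subgroup G) (x : G) (hxH : x ∈ H)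
    (hxp : orderOf x = p) (hx : Cfsg.IsPCentral p x)
    (hC : Subgroup.centralizer ({x} : Set G) ≤ H)
    (hfus : ∀ g : G, g * x * g⁻¹ ∈ H → ∃ h ∈ H, h * x * h⁻¹ = g * x * g⁻¹)
    (E : Subgroup G) (hEH : E ≤ H) (hEp : IsPGroup p E)
    (hchar : Subgroup.centralizer (Cfsg.pCore p ↥(Subgroup.normalizer (E : Set G)) :
        Set ↥(Subgroup.normalizer (E : Set G))) ≤ Cfsg.pCore p ↥(Subgroup.normalizer (E : Set G))) :
    Subgroup.normalizer (E : Set G) ≤ H := by
  have hp : p.Prime := Fact.out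
  -- the trick
  have trick : ∀ g : G, g * x * g⁻¹ ∈ H → g ∈ H := by
    intro g hg
    obtain ⟨h, hh, heq⟩ := hfus g hg
    have h1 : h⁻¹ * g ∈ Subgroup.centralizer ({x} : Set G) := by
      rw [Subgroup.mem_centralizer_singleton_iff]
      have : h⁻¹ * (g * x * g⁻¹) * h = x := by rw [← heq]; group
      calc h⁻¹ * g * x = h⁻¹ * (g * x * g⁻¹) * h * (h⁻¹ * g) := by group
        _ = x * (h⁻¹ * g) := by rw [this]
    have := mul_mem hh (hC h1)
    rwa [mul_inv_cancel_left] at this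
  obtain ⟨S, hS⟩ := hx.2
  have hSH : (S : Subgroup G) ≤ H := hS.trans hC
  have hSsyl : IsSylowIn p (S : Subgroup G) H := IsSylowIn.of_sylow_le S hSH
  set N : Subgroup G := Subgroup.normalizer (E : Set G) with hN
  have hEN : E ≤ N := Subgroup.le_normalizer
  -- R Sylow in H ⊓ N containing E
  obtain ⟨R, hR, hER⟩ := exists_isSylowIn_ge (p := p) (Q := E) (H := H ⊓ N) hEp (le_inf hEH hEN)
  have hRH : R ≤ H := hR.1.trans inf_le_left
  have hRN : R ≤ N := hR.1.trans inf_le_right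
  -- an H-conjugate x' of x centralizing R
  obtain ⟨P', hP', hRP'⟩ := exists_isSylowIn_ge (p := p) (Q := R) (H := H) hR.isPGroup hRH
  obtain ⟨h, hh, hP'eq⟩ := IsSylowIn.conj hSsyl hP'
  have hx'H : h * x * h⁻¹ ∈ H := mul_mem (mul_mem hh hxH) (inv_mem hh)
  have hx'R : ∀ r ∈ R, r * (h * x * h⁻¹) = (h * x * h⁻¹) * r := by
    intro r hr
    have h1 : r ∈ (S : Subgroup G).map (MulAut.conj h).toMonoidHom := hP'eq ▸ hRP' hr
    rw [mem_map_conj] at h1
    have h2 : (h⁻¹ * r * h) * x = x * (h⁻¹ * r * h) :=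
      Subgroup.mem_centralizer_singleton_iff.mp (hS h1)
    calc r * (h * x * h⁻¹) = h * ((h⁻¹ * r * h) * x) * h⁻¹ := by group
      _ = h * (x * (h⁻¹ * r * h)) * h⁻¹ := by rw [h2]
      _ = (h * x * h⁻¹) * r := by group
  have hox' : orderOf (h * x * h⁻¹) = p := by rw [orderOf_conj]; exact hxp
  have hx'cR : h * x * h⁻¹ ∈ Subgroup.centralizer (R : Set G) := by
    rw [Subgroup.mem_centralizer_iff]; exact hx'R
  have hx'N : h * x * h⁻¹ ∈ N := by
    apply Subgroup.centralizer_le_normalizer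
    exact Subgroup.centralizer_le (show (E : Set G) ⊆ R from hER) hx'cR
  have hx'memR : h * x * h⁻¹ ∈ R :=
    hR.mem_of_normalizes (Subgroup.mem_inf.mpr ⟨hx'H, hx'N⟩) (isPGroup_zpowers hox')
      (Subgroup.centralizer_le_normalizer _ hx'cR)
  have trick' : ∀ g : G, g * (h * x * h⁻¹) * g⁻¹ ∈ H → g ∈ H := by
    intro g hg
    have e : g * (h * x * h⁻¹) * g⁻¹ = (g * h) * x * (g * h)⁻¹ := by group
    rw [e] at hg
    have := mul_mem (trick _ hg) (inv_mem hh)
    rwa [mul_inv_cancel_right] at this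
  -- T Sylow in N containing R; R = T
  obtain ⟨T, hT, hRT⟩ := exists_isSylowIn_ge (p := p) (Q := R) (H := N) hR.isPGroup hRN
  have hRT' : R = T := by
    by_contra hne
    have hlt : R < T := lt_of_le_of_ne hRT hne
    haveI : Group.IsNilpotent ↥T := hT.isPGroup.isNilpotent
    have hlt' : R.subgroupOf T < ⊤ := by
      rw [lt_top_iff_ne_top]; intro htop
      exact hne (le_antisymm hRT (Subgroup.subgroupOf_eq_top.mp htop))
    have hnc := Group.normalizerCondition_of_isNilpotent (G := ↥T) _ hlt'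
    obtain ⟨t, htN, htR⟩ := SetLike.exists_of_lt hnc
    rw [← Subgroup.subgroupOf_normalizer_eq hRT] at htN
    have htN' : (t : G) ∈ Subgroup.normalizer (R : Set G) := Subgroup.mem_subgroupOf.mp htN
    apply htR
    rw [Subgroup.mem_subgroupOf]
    have htH : (t : G) ∈ H := by
      apply trick'
      exact hRH ((Subgroup.mem_normalizer_iff.mp htN' _).mp hx'memR)
    have htp : IsPGroup p ↥(Subgroup.zpowers (t : G)) :=
      hT.isPGroup.to_le (Subgroup.zpowers_le.mpr t.2)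
    exact hR.mem_of_normalizes (Subgroup.mem_inf.mpr ⟨htH, hT.1 t.2⟩) htp htN'
  have hRsylN : IsSylowIn p R N := hRT' ▸ hT
  obtain ⟨RN, hRN'⟩ := hRsylN.exists_sylow
  have hcore_le : Cfsg.pCore p ↥N ≤ R.subgroupOf N := by
    rw [← hRN']; exact pCore_le_sylow RN
  -- x'' ∈ O_p(N)
  have hx''core : (⟨h * x * h⁻¹, hx'N⟩ : ↥N) ∈ Cfsg.pCore p ↥N := by
    apply hchar
    rw [Subgroup.mem_centralizer_iff]
    intro q hq
    have hqR : (q : G) ∈ R := Subgroup.mem_subgroupOf.mp (hcore_le hq)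
    apply Subtype.ext
    exact hx'R q hqR
  intro n hn
  apply trick'
  haveI : (Cfsg.pCore p ↥N).Normal := pCore_normal p ↥N
  have h1 : (⟨n, hn⟩ : ↥N) * ⟨h * x * h⁻¹, hx'N⟩ * (⟨n, hn⟩ : ↥N)⁻¹ ∈ Cfsg.pCore p ↥N :=
    Subgroup.Normal.conj_mem inferInstance _ hx''core _
  have h2 := Subgroup.mem_subgroupOf.mp (hcore_le h1)
  exact hRH h2

theorem pCentral_fusion_control_strongly_embedded (H : Subgroup G) (hH : H ≠ ⊤) (x : G)
    (hxH : x ∈ H) (hxp : orderOf x = p) (hx : Cfsg.IsPCentral p x)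
    (hC : Subgroup.centralizer ({x} : Set G) ≤ H)
    (hfus : ∀ g : G, g * x * g⁻¹ ∈ H → ∃ h ∈ H, h * x * h⁻¹ = g * x * g⁻¹) :
    (∀ E : Subgroup G, E ≤ H → IsPGroup p E → E ≠ ⊥ →
      Subgroup.centralizer (Cfsg.pCore p ↥(Subgroup.normalizer (E : Set G)) :
        Set ↥(Subgroup.normalizer (E : Set G))) ≤ Cfsg.pCore p ↥(Subgroup.normalizer (E : Set G)) →
      Subgroup.normalizer (E : Set G) ≤ H) ∧
    (Cfsg.IsOfLocalCharacteristic p G → Cfsg.IsStronglyPEmbedded p H) := by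
  refine ⟨fun E hEH hEp _ hchar =>
    pCentral_fusion_control_normalizer_le H x hxH hxp hx hC hfus E hEH hEp hchar, ?_⟩
  intro hloc
  have hpH : p ∣ Nat.card H := by
    rw [← hxp, ← Subgroup.orderOf_mk x hxH]
    exact orderOf_dvd_natCard _
  apply isStronglyPEmbedded_of_normalizer_le hH hpH
  intro A hAH hAp hAne
  exact pCentral_fusion_control_normalizer_le H x hxH hxp hx hC hfus A hAH hAp (hloc.2 A hAp hAne)

end Cfsg.Agent.Lib.Helper7
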