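import Mathlib
import Cfsg.Prelude.Def_LocalStructure
import Cfsg.Prelude.Def_LocalEven
import Cfsg.Agent.H2.LocalFStar2
import Cfsg.Agent.S0065
import Cfsg.Agent.Lib.Lead.StronglyEmbedded
import Cfsg.Agent.Lib.Helper7.CharP
import Cfsg.Agent.Lib.Helper7.StrEmb6
import Cfsg.Agent.Lib.Helper7.FStarLocal
import Cfsg.Agent.Lib.Helper7.Large

set_option autoImplicit false
open Cfsg
open scoped commutatorElement

namespace Cfsg.Agent.Lib.Helper7

open Cfsg.Agent.H2 Cfsg.Agent.Lib.Lead.Conj Cfsg.Agent.Lib.Lead.StronglyEmbedded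

section equiv
variable {A B : Type*} [Group A] [Group B]

theorem fstar_eq_pCore_of_equiv {p : ℕ} (e : A ≃* B)
    (h : Cfsg.generalizedFittingSubgroup A = Cfsg.pCore p A) :
    Cfsg.generalizedFittingSubgroup B = Cfsg.pCore p B := by
  rw [← generalizedFittingSubgroup_map_equiv e, ← Cfsg.Agent.H2.pCore_map_equiv p e, h]

end equiv

section
variable {G : Type*} [Group G] [Finite G] {p : ℕ} [Fact p.Prime]

theorem fstar_eq_pCore_iff_isCharP :
    Cfsg.generalizedFittingSubgroup G = Cfsg.pCore p G ↔ IsCharP p G := by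
  constructor
  · intro h
    have := centralizer_generalizedFittingSubgroup_le (G := G)
    rwa [h] at this
  · intro hQ
    have h1 := generalizedFittingSubgroup_eq_pCore_of_local p hQ ⊥ ⊤ IsPGroup.of_bot bot_le
      (by rw [Subgroup.normalizer_eq_top]) le_top
    exact fstar_eq_pCore_of_equiv Subgroup.topEquiv h1

omit [Finite G] [Fact p.Prime] in
theorem fstar_eq_pCore_of_eq {K K' : Subgroup G} (hKK' : K = K')
    (h : Cfsg.generalizedFittingSubgroup ↥K = Cfsg.pCore p ↥K) :
    Cfsg.generalizedFittingSubgroup ↥K' = Cfsg.pCore p ↥K' := by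
  subst hKK'; exact h

omit [Finite G] [Fact p.Prime] in
theorem map_conj_centralizer_singleton (g z : G) :
    (Subgroup.centralizer ({z} : Set G)).map (MulAut.conj g).toMonoidHom
      = Subgroup.centralizer ({g * z * g⁻¹} : Set G) := by
  ext x
  rw [mem_map_conj, Subgroup.mem_centralizer_singleton_iff, Subgroup.mem_centralizer_singleton_iff]
  constructor
  · intro h
    calc x * (g * z * g⁻¹) = g * (g⁻¹ * x * g * z) * g⁻¹ := by group
      _ = g * (z * (g⁻¹ * x * g)) * g⁻¹ := by rw [h]
      _ = g * z * g⁻¹ * x := by group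
  · intro h
    calc g⁻¹ * x * g * z = g⁻¹ * (x * (g * z * g⁻¹)) * g := by group
      _ = g⁻¹ * (g * z * g⁻¹ * x) * g := by rw [h]
      _ = z * (g⁻¹ * x * g) := by group

omit [Finite G] [Fact p.Prime] in
/-- the hypothesis `F*(C_G(z)) = O_p(C_G(z))` is conjugation invariant -/
theorem fstar_centralizer_conj (g z : G)
    (h : Cfsg.generalizedFittingSubgroup ↥(Subgroup.centralizer ({z} : Set G))
      = Cfsg.pCore p ↥(Subgroup.centralizer ({z} : Set G))) :
    Cfsg.generalizedFittingSubgroup ↥(Subgroup.centralizer ({g * z * g⁻¹} : Set G))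
      = Cfsg.pCore p ↥(Subgroup.centralizer ({g * z * g⁻¹} : Set G)) := by
  have h1 := fstar_eq_pCore_of_equiv
    ((MulAut.conj g).subgroupMap (Subgroup.centralizer ({z} : Set G))) h
  exact fstar_eq_pCore_of_eq (map_conj_centralizer_singleton g z) h1

omit [Finite G] [Fact p.Prime] in
theorem centralizer_singleton_eq_centralizer_zpowers (z : G) :
    Subgroup.centralizer ({z} : Set G)
      = Subgroup.centralizer ((Subgroup.zpowers z : Subgroup G) : Set G) := by
  apply le_antisymm
  · intro x hx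
    have hxz : x * z = z * x := Subgroup.mem_centralizer_singleton_iff.mp hx
    rw [Subgroup.mem_centralizer_iff]
    intro y hy
    obtain ⟨n, rfl⟩ := Subgroup.mem_zpowers_iff.mp hy
    exact ((Commute.zpow_right (show Commute x z from hxz) n).eq).symm
  · exact Subgroup.centralizer_le (Set.singleton_subset_iff.mpr (Subgroup.mem_zpowers z))

/-- In a Sylow `p`-subgroup `T`, a nontrivial subgroup `R` normalized by `T` contains an element of
order `p` of `Z(T)`. -/
theorem exists_central_orderOf_eq_of_normal (T : Subgroup G) (hT : IsPGroup p ↥T) (R : Subgroup G)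
    (hRT : R ≤ T) (hTR : T ≤ Subgroup.normalizer (R : Set G)) (hR1 : R ≠ ⊥) :
    ∃ z ∈ R, orderOf z = p ∧ z ∈ Subgroup.centralizer (T : Set G) := by
  haveI : Group.IsNilpotent ↥T := hT.isNilpotent
  haveI : (R.subgroupOf T).Normal := (Subgroup.normal_subgroupOf_iff_le_normalizer hRT).mpr hTR
  have hne : R.subgroupOf T ≠ ⊥ := by
    intro hb
    apply hR1
    rw [Subgroup.subgroupOf_eq_bot, disjoint_iff, inf_eq_left.mpr hRT] at hb
    exact hb
  have h1 := Cfsg.Agent.S0065.result (R.subgroupOf T) hne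
  have hp1 : IsPGroup p ↥((R.subgroupOf T ⊓ Subgroup.center ↥T).map T.subtype) :=
    (hT.to_subgroup _).map _
  have hne' : (R.subgroupOf T ⊓ Subgroup.center ↥T).map T.subtype ≠ ⊥ := by
    intro hb
    apply h1
    exact (Subgroup.map_eq_bot_iff_of_injective _ T.subtype_injective).mp hb
  obtain ⟨z, hz, hoz⟩ := exists_orderOf_eq_of_ne_bot hp1 hne'
  obtain ⟨z', hz', rfl⟩ := hz
  obtain ⟨hz'R, hz'C⟩ := Subgroup.mem_inf.mp hz'
  refine ⟨z', Subgroup.mem_subgroupOf.mp hz'R, hoz, ?_⟩
  rw [Subgroup.mem_centralizer_iff]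
  intro t ht
  have := Subgroup.mem_center_iff.mp hz'C ⟨t, ht⟩
  exact congrArg Subtype.val this

theorem charP_local_criteria (hdiv : p ∣ Nat.card G) (S : Sylow p G) (X : Subgroup G)
    (hX : X ≤ (S : Subgroup G)) :
    (∀ z : G, z ≠ 1 → z ∈ X → (∀ x ∈ X, x * z = z * x) →
      Cfsg.generalizedFittingSubgroup ↥(Subgroup.centralizer ({z} : Set G))
        = Cfsg.pCore p ↥(Subgroup.centralizer ({z} : Set G)) →
      Cfsg.generalizedFittingSubgroup ↥(Subgroup.normalizer (X : Set G))
        = Cfsg.pCore p ↥(Subgroup.normalizer (X : Set G))) ∧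
    (Cfsg.IsOfParabolicCharacteristic p G ↔ ∀ z : G, z ≠ 1 →
      z ∈ Cfsg.omegaOne p ((S : Subgroup G) ⊓ Subgroup.centralizer ((S : Subgroup G) : Set G)) →
      Cfsg.generalizedFittingSubgroup ↥(Subgroup.centralizer ({z} : Set G))
        = Cfsg.pCore p ↥(Subgroup.centralizer ({z} : Set G))) ∧
    ((∀ z : G, z ∈ (S : Subgroup G) → orderOf z = p →
      Cfsg.generalizedFittingSubgroup ↥(Subgroup.centralizer ({z} : Set G))
        = Cfsg.pCore p ↥(Subgroup.centralizer ({z} : Set G))) →
      Cfsg.IsOfLocalCharacteristic p G) := by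
  have hp : p.Prime := Fact.out
  have homega_le : Cfsg.omegaOne p ((S : Subgroup G) ⊓ Subgroup.centralizer ((S : Subgroup G) : Set G))
      ≤ (S : Subgroup G) ⊓ Subgroup.centralizer ((S : Subgroup G) : Set G) := by
    unfold Cfsg.omegaOne
    rw [Subgroup.closure_le]
    intro x hx
    exact hx.1
  refine ⟨?_, ⟨?_, ?_⟩, ?_⟩
  · intro z _ hzX hzc h
    exact fstar_normalizer_of_fstar_centralizer X (S.isPGroup'.to_le hX) z hzX hzc h
  · -- parabolic char p ⇒ centralizers
    intro hpar z hz1 hz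
    obtain ⟨hzS, hzC⟩ := Subgroup.mem_inf.mp (homega_le hz)
    have hzp : IsPGroup p ↥(Subgroup.zpowers z) := S.isPGroup'.to_le (Subgroup.zpowers_le.mpr hzS)
    have hzne : Subgroup.zpowers z ≠ ⊥ := by rw [Ne, Subgroup.zpowers_eq_bot]; exact hz1
    have hSz : (S : Subgroup G) ≤ Subgroup.centralizer ((Subgroup.zpowers z : Subgroup G) : Set G) := by
      rw [Subgroup.le_centralizer_iff, Subgroup.zpowers_le]
      exact hzC
    have hparz : Cfsg.IsParabolic p
        (Subgroup.normalizer ((Subgroup.zpowers z : Subgroup G) : Set G)) :=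
      ⟨S, hSz.trans (Subgroup.centralizer_le_normalizer _)⟩
    have hchar : IsCharP p ↥(Subgroup.normalizer ((Subgroup.zpowers z : Subgroup G) : Set G)) :=
      hpar _ hzp hzne hparz
    have hCN : Subgroup.centralizer ({z} : Set G)
        ≤ Subgroup.normalizer ((Subgroup.zpowers z : Subgroup G) : Set G) := by
      rw [centralizer_singleton_eq_centralizer_zpowers]
      exact Subgroup.centralizer_le_normalizer _
    haveI : ((Subgroup.centralizer ({z} : Set G)).subgroupOf
        (Subgroup.normalizer ((Subgroup.zpowers z : Subgroup G) : Set G))).Normal := by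
      rw [Subgroup.normal_subgroupOf_iff_le_normalizer hCN,
        centralizer_singleton_eq_centralizer_zpowers]
      exact normalizer_le_normalizer_centralizer _
    have h1 := hchar.normal ((Subgroup.centralizer ({z} : Set G)).subgroupOf
        (Subgroup.normalizer ((Subgroup.zpowers z : Subgroup G) : Set G)))
    have h2 : IsCharP p ↥(Subgroup.centralizer ({z} : Set G)) :=
      h1.of_equiv (Subgroup.subgroupOfEquivOfLe hCN)
    exact fstar_eq_pCore_iff_isCharP.mpr h2
  · -- centralizers ⇒ parabolic char p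
    intro hz R hR hRne ⟨T, hTN⟩
    obtain ⟨g, hg⟩ := MulAction.exists_smul_eq G S T
    have hTg : (T : Subgroup G) = (S : Subgroup G).map (MulAut.conj g).toMonoidHom := by
      rw [← hg, Sylow.coe_subgroup_smul]
      rfl
    have hTsyl : IsSylowIn p (T : Subgroup G) (Subgroup.normalizer (R : Set G)) :=
      IsSylowIn.of_sylow_le T hTN
    have hRT : R ≤ (T : Subgroup G) := by
      have h1 : IsPGroup p ↥((T : Subgroup G) ⊔ R) :=
        IsPGroup.to_sup_of_normal_right' T.isPGroup' hR hTN
      have h2 := hTsyl.eq_of_le le_sup_left (sup_le hTN Subgroup.le_normalizer) h1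
      rw [← h2]; exact le_sup_right
    obtain ⟨z', hz'R, hoz', hz'C⟩ :=
      exists_central_orderOf_eq_of_normal (T : Subgroup G) T.isPGroup' R hRT hTN hRne
    -- z = g⁻¹ z' g ∈ Ω₁ Z(S)
    have hz'T : z' ∈ (T : Subgroup G) := hRT hz'R
    have hzS : g⁻¹ * z' * g ∈ (S : Subgroup G) := by
      rw [hTg, mem_map_conj] at hz'T; exact hz'T
    have hzC : g⁻¹ * z' * g ∈ Subgroup.centralizer ((S : Subgroup G) : Set G) := by
      rw [Subgroup.mem_centralizer_iff]
      intro s hs
      have hsT : g * s * g⁻¹ ∈ (T : Subgroup G) := by rw [hTg]; exact ⟨s, hs, rfl⟩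
      have h1 : g * s * g⁻¹ * z' = z' * (g * s * g⁻¹) := Subgroup.mem_centralizer_iff.mp hz'C _ hsT
      calc s * (g⁻¹ * z' * g) = g⁻¹ * (g * s * g⁻¹ * z') * g := by group
        _ = g⁻¹ * (z' * (g * s * g⁻¹)) * g := by rw [h1]
        _ = g⁻¹ * z' * g * s := by group
    have hoz : orderOf (g⁻¹ * z' * g) = p := by rw [orderOf_conj']; exact hoz'
    have hzΩ : g⁻¹ * z' * g ∈ Cfsg.omegaOne p
        ((S : Subgroup G) ⊓ Subgroup.centralizer ((S : Subgroup G) : Set G)) := by
      apply Subgroup.subset_closure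
      refine ⟨Subgroup.mem_inf.mpr ⟨hzS, hzC⟩, ?_⟩
      rw [← hoz]; exact pow_orderOf_eq_one _
    have h1 := hz _ (ne_one_of_orderOf hoz) hzΩ
    have h2 := fstar_centralizer_conj g _ h1
    have e : g * (g⁻¹ * z' * g) * g⁻¹ = z' := by group
    rw [e] at h2
    have h3 := fstar_normalizer_of_fstar_centralizer R hR z' hz'R
      (fun x hx => Subgroup.mem_centralizer_iff.mp hz'C x (hRT hx)) h2
    exact fstar_eq_pCore_iff_isCharP.mp h3
  · -- local characteristic
    intro hz
    refine ⟨hdiv, ?_⟩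
    intro T hT hTne
    obtain ⟨P, hTP⟩ := hT.exists_le_sylow
    obtain ⟨g, hg⟩ := MulAction.exists_smul_eq G S P
    have hPg : (P : Subgroup G) = (S : Subgroup G).map (MulAut.conj g).toMonoidHom := by
      rw [← hg, Sylow.coe_subgroup_smul]
      rfl
    obtain ⟨z', hz', hoz'⟩ := exists_orderOf_eq_of_ne_bot (hT.to_le inf_le_left)
      (inf_centralizer_ne_bot hT hTne)
    obtain ⟨hz'T, hz'C⟩ := Subgroup.mem_inf.mp hz'
    have hzS : g⁻¹ * z' * g ∈ (S : Subgroup G) := by
      have := hTP hz'T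
      rw [hPg, mem_map_conj] at this; exact this
    have hoz : orderOf (g⁻¹ * z' * g) = p := by rw [orderOf_conj']; exact hoz'
    have h1 := hz _ hzS hoz
    have h2 := fstar_centralizer_conj g _ h1
    have e : g * (g⁻¹ * z' * g) * g⁻¹ = z' := by group
    rw [e] at h2
    have h3 := fstar_normalizer_of_fstar_centralizer T hT z' hz'T
      (fun x hx => Subgroup.mem_centralizer_iff.mp hz'C x hx) h2
    exact fstar_eq_pCore_iff_isCharP.mp h3

end

end Cfsg.Agent.Lib.Helper7
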