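import Mathlib
import Cfsg.Agent.H2.LocalFStar2
import Cfsg.Agent.Lib.Helper7.CharP
import Cfsg.Agent.Lib.Helper7.FStarLocal2

set_option autoImplicit false
open Cfsg
open scoped commutatorElement

namespace Cfsg.Agent.Lib.Helper7

open Cfsg.Agent.H2

variable {X : Type*} [Group X] [Finite X] {p : ℕ} [Fact p.Prime]

omit [Fact p.Prime] in
/-- If `D = C_L(O_p(L))` has characteristic `p` then `L` has characteristic `p`. -/
theorem isCharP_of_isCharP_centralizer_pCore {L : Type*} [Group L] [Finite L]
    (h : IsCharP p ↥(Subgroup.centralizer (pCore p L : Set L))) : IsCharP p L := by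
  set D : Subgroup L := Subgroup.centralizer (pCore p L : Set L) with hD
  haveI : D.Normal := by
    haveI : (pCore p L).Normal := pCore_normal p L
    exact Subgroup.normal_centralizer
  intro d hd
  have h1 : (⟨d, hd⟩ : ↥D) ∈ pCore p ↥D := by
    apply h
    rw [Subgroup.mem_centralizer_iff]
    intro q hq
    have hq' : (q : L) ∈ pCore p L := pCore_map_subtype_le_of_normal D ⟨q, hq, rfl⟩
    apply Subtype.ext
    exact Subgroup.mem_centralizer_iff.mp hd _ hq'
  exact pCore_map_subtype_le_of_normal D ⟨⟨d, hd⟩, h1, rfl⟩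

theorem charP_normalizer_centralizer_of_normal_subgroup (B C : Subgroup X) (hB : IsPGroup p ↥B)
    (hCB : C ≤ B) (hCn : (C.subgroupOf B).Normal)
    (hC : Cfsg.generalizedFittingSubgroup ↥(Subgroup.normalizer (C : Set X))
      = Cfsg.pCore p ↥(Subgroup.normalizer (C : Set X))) :
    Cfsg.generalizedFittingSubgroup ↥(Subgroup.normalizer (B : Set X))
      = Cfsg.pCore p ↥(Subgroup.normalizer (B : Set X)) ∧
    Cfsg.generalizedFittingSubgroup ↥(Subgroup.centralizer (B : Set X))
      = Cfsg.pCore p ↥(Subgroup.centralizer (B : Set X)) := by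
  set H : Subgroup X := Subgroup.normalizer (C : Set X) with hH
  have hQ : Subgroup.centralizer ((Cfsg.pCore p H : Subgroup H) : Set H) ≤ Cfsg.pCore p H :=
    fstar_eq_pCore_iff_isCharP.mp hC
  have hBH : B ≤ H := (Subgroup.normal_subgroupOf_iff_le_normalizer hCB).mp hCn
  have hCBH : Subgroup.centralizer (B : Set X) ≤ H :=
    (Subgroup.centralizer_le (show (C : Set X) ⊆ B from hCB)).trans
      (Subgroup.centralizer_le_normalizer _)
  -- M = N_H(B) has characteristic p
  obtain ⟨hM1, hM2⟩ := local_of_subgroup p H hQ B (Subgroup.normalizer (B : Set X) ⊓ H) hB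
    (le_inf Subgroup.le_normalizer hBH) inf_le_right inf_le_left
    (inf_le_inf_right _ (Subgroup.centralizer_le_normalizer _))
  have hMfs := generalizedFittingSubgroup_eq_pCore_of_forall p hM1 hM2
  have hMchar : IsCharP p ↥(Subgroup.normalizer (B : Set X) ⊓ H) := fstar_eq_pCore_iff_isCharP.mp hMfs
  -- C_X(B) ⊴ M
  have hCM : Subgroup.centralizer (B : Set X) ≤ Subgroup.normalizer (B : Set X) ⊓ H :=
    le_inf (Subgroup.centralizer_le_normalizer _) hCBH
  haveI : ((Subgroup.centralizer (B : Set X)).subgroupOf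
      (Subgroup.normalizer (B : Set X) ⊓ H)).Normal := by
    rw [Subgroup.normal_subgroupOf_iff_le_normalizer hCM]
    exact inf_le_left.trans (normalizer_le_normalizer_centralizer B)
  have hCchar : IsCharP p ↥(Subgroup.centralizer (B : Set X)) :=
    (hMchar.normal _).of_equiv (Subgroup.subgroupOfEquivOfLe hCM)
  refine ⟨?_, fstar_eq_pCore_iff_isCharP.mpr hCchar⟩
  -- L = N_X(B)
  rw [fstar_eq_pCore_iff_isCharP]
  apply isCharP_of_isCharP_centralizer_pCore
  set L : Subgroup X := Subgroup.normalizer (B : Set X) with hL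
  set D : Subgroup ↥L := Subgroup.centralizer (pCore p ↥L : Set ↥L) with hD
  haveI hDn : D.Normal := by
    haveI : (pCore p ↥L).Normal := pCore_normal p ↥L
    exact Subgroup.normal_centralizer
  have hCL : Subgroup.centralizer (B : Set X) ≤ L := Subgroup.centralizer_le_normalizer _
  -- D ≤ CB_L
  have hBL : B ≤ L := Subgroup.le_normalizer
  haveI : (B.subgroupOf L).Normal := (Subgroup.normal_subgroupOf_iff_le_normalizer hBL).mpr le_rfl
  have hBcore : B.subgroupOf L ≤ pCore p ↥L :=
    le_pCore inferInstance (hB.comap_of_injective L.subtype L.subtype_injective)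
  have hDle : D ≤ (Subgroup.centralizer (B : Set X)).subgroupOf L := by
    intro d hd
    rw [Subgroup.mem_subgroupOf, Subgroup.mem_centralizer_iff]
    intro b hb
    have := Subgroup.mem_centralizer_iff.mp hd ⟨b, hBL hb⟩ (hBcore (Subgroup.mem_subgroupOf.mpr hb))
    exact congrArg Subtype.val this
  have hCLchar : IsCharP p ↥((Subgroup.centralizer (B : Set X)).subgroupOf L) :=
    hCchar.of_equiv (Subgroup.subgroupOfEquivOfLe hCL).symm
  haveI : (D.subgroupOf ((Subgroup.centralizer (B : Set X)).subgroupOf L)).Normal := by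
    rw [Subgroup.normal_subgroupOf_iff_le_normalizer hDle, Subgroup.normalizer_eq_top]
    exact le_top
  exact (hCLchar.normal _).of_equiv (Subgroup.subgroupOfEquivOfLe hDle)

end Cfsg.Agent.Lib.Helper7
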