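import Mathlib
import Cfsg.Prelude.Def_LocalStructure
import Cfsg.Prelude.Def_LocalEven
import Cfsg.Prelude.Def_Amalgam
import Cfsg.Agent.Lib.Helper7.PReduced4
import Cfsg.Agent.Lib.Helper7.WeaklyClosed2

set_option autoImplicit false

namespace Cfsg.Agent.Lib.Helper7

open Cfsg
open scoped commutatorElement

variable {G : Type*} [Group G] {p : ℕ}

theorem isElementaryAbelian_closure {X : Set G} (hc : ∀ a ∈ X, ∀ b ∈ X, a * b = b * a)
    (hp : ∀ a ∈ X, a ^ p = 1) : IsElementaryAbelian p (Subgroup.closure X) := by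
  have h1 : Subgroup.closure X ≤ Subgroup.centralizer X := by
    rw [Subgroup.closure_le]
    intro a ha
    show a ∈ Subgroup.centralizer X
    rw [Subgroup.mem_centralizer_iff]
    intro b hb
    exact hc b hb a ha
  have h2 : Subgroup.closure X ≤ Subgroup.centralizer ((Subgroup.closure X : Subgroup G) : Set G) := by
    rw [Subgroup.centralizer_closure]
    exact h1
  rw [isElementaryAbelian_iff]
  refine ⟨fun a ha b hb => Subgroup.mem_centralizer_iff.mp (h2 hb) a ha, ?_⟩
  intro a ha
  induction ha using Subgroup.closure_induction with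
  | mem x hx => exact hp x hx
  | one => exact one_pow _
  | mul x y hx hy hx1 hy1 =>
    have hcomm : Commute x y := Subgroup.mem_centralizer_iff.mp (h2 hy) x hx
    rw [hcomm.mul_pow, hx1, hy1, one_mul]
  | inv x hx hx1 => rw [inv_pow, hx1, inv_one]

/-- internal char p from membership in `charPSubgroups`. -/
theorem charP_internal_of_mem_charPSubgroups {M : Subgroup G} (hM : M ∈ charPSubgroups p G) :
    Subgroup.centralizer (pCore p ↥M : Set ↥M) ≤ pCore p ↥M := by
  intro x hx
  have h1 : (x : G) ∈ Subgroup.centralizer (((pCore p ↥M).map M.subtype : Subgroup G) : Set G) := by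
    rw [Subgroup.mem_centralizer_iff]
    rintro _ ⟨y, hy, rfl⟩
    have := congrArg (fun z : ↥M => (z : G)) (Subgroup.mem_centralizer_iff.mp hx y hy)
    simpa using this
  obtain ⟨y, hy, hyx⟩ := hM.2 h1
  have : y = x := Subtype.ext hyx
  rw [← this]; exact hy

theorem largestPReducedOf_isElementaryAbelian [Finite G] (M : Subgroup G)
    (hM : Subgroup.centralizer (pCore p ↥M : Set ↥M) ≤ pCore p ↥M) :
    IsElementaryAbelian p (largestPReducedOf p M) := by
  unfold largestPReducedOf
  rw [isElementaryAbelian_map_iff _ M.subtype_injective]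
  exact (isPReducedNormal_largestPReduced hM).2.1

theorem asymmetric_normal_closure_elementary_abelian [Finite G] (Y : Subgroup G)
    (hYe : IsElementaryAbelian p Y) (hasym : ¬ IsSymmetricIn Y) (R : Subgroup G) (hYR : Y ≤ R)
    (hRN : R ≤ Subgroup.normalizer (Y : Set G)) :
    IsElementaryAbelian p ((Subgroup.normalClosure (((Y.subgroupOf
      (Subgroup.normalizer ((R : Subgroup G) : Set G)) :
        Subgroup ↥(Subgroup.normalizer ((R : Subgroup G) : Set G))) :
          Set ↥(Subgroup.normalizer ((R : Subgroup G) : Set G))))).map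
            (Subgroup.normalizer ((R : Subgroup G) : Set G)).subtype) := by
  set N := Subgroup.normalizer ((R : Subgroup G) : Set G) with hN
  rw [isElementaryAbelian_map_iff _ N.subtype_injective]
  rw [isElementaryAbelian_iff] at hYe
  -- key commuting fact
  have key : ∀ k ∈ N, ∀ y ∈ Y, ∀ y' ∈ Y, y * (k * y' * k⁻¹) = (k * y' * k⁻¹) * y := by
    intro k hk
    have hYk : cj k Y ≤ R := by
      have h1 : cj k Y ≤ cj k R := cj_mono k hYR
      rwa [cj_eq_of_mem_normalizer hk] at h1
    have hRNk : R ≤ Subgroup.normalizer ((cj k Y : Subgroup G) : Set G) := by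
      have h1 : cj k R ≤ cj k (Subgroup.normalizer (Y : Set G)) := cj_mono k hRN
      rw [cj_eq_of_mem_normalizer hk, ← normalizer_cj] at h1
      exact h1
    have hle : ⁅Y, cj k Y⁆ ≤ Y ⊓ cj k Y := by
      rw [Subgroup.commutator_le]
      intro y hy z hz
      refine Subgroup.mem_inf.mpr ⟨?_, ?_⟩
      · have hzN := hRN (hYk hz)
        have : ⁅y, z⁆ = y * (z * y⁻¹ * z⁻¹) := by rw [commutatorElement_def]; group
        rw [this]
        exact Subgroup.mul_mem _ hy
          ((Subgroup.mem_normalizer_iff.mp hzN _).mp (Subgroup.inv_mem _ hy))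
      · have hyN := hRNk (hYR hy)
        have : ⁅y, z⁆ = (y * z * y⁻¹) * z⁻¹ := by rw [commutatorElement_def]
        rw [this]
        exact Subgroup.mul_mem _ ((Subgroup.mem_normalizer_iff.mp hyN _).mp hz)
          (Subgroup.inv_mem _ hz)
    have hbot : ⁅Y, cj k Y⁆ = ⊥ := by
      by_contra hne
      exact hasym ⟨k, hne, hle⟩
    rw [Subgroup.commutator_eq_bot_iff_le_centralizer] at hbot
    intro y hy y' hy'
    have hz : k * y' * k⁻¹ ∈ cj k Y := ⟨y', hy', rfl⟩
    exact (Subgroup.mem_centralizer_iff.mp (hbot hy) _ hz).symm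
  unfold Subgroup.normalClosure
  apply isElementaryAbelian_closure
  · intro a ha b hb
    rw [Group.mem_conjugatesOfSet_iff] at ha hb
    obtain ⟨y, hy, hya⟩ := ha
    obtain ⟨y', hy', hyb⟩ := hb
    rw [isConj_iff] at hya hyb
    obtain ⟨g, rfl⟩ := hya
    obtain ⟨h, rfl⟩ := hyb
    apply Subtype.ext
    have hyY : (y : G) ∈ Y := Subgroup.mem_subgroupOf.mp hy
    have hy'Y : (y' : G) ∈ Y := Subgroup.mem_subgroupOf.mp hy'
    have hk : (g : G)⁻¹ * h ∈ N := Subgroup.mul_mem _ (Subgroup.inv_mem _ g.2) h.2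
    have := key _ hk _ hyY _ hy'Y
    simp only [Subgroup.coe_mul, Subgroup.coe_inv]
    have e1 : (g : G) * y * (g : G)⁻¹ * ((h : G) * y' * (h : G)⁻¹) =
        g * ((y : G) * (((g : G)⁻¹ * h) * y' * ((g : G)⁻¹ * h)⁻¹)) * (g : G)⁻¹ := by group
    have e2 : ((h : G) * y' * (h : G)⁻¹) * ((g : G) * y * (g : G)⁻¹) =
        g * ((((g : G)⁻¹ * h) * y' * ((g : G)⁻¹ * h)⁻¹) * (y : G)) * (g : G)⁻¹ := by group
    rw [e1, e2, this]
  · intro a ha
    rw [Group.mem_conjugatesOfSet_iff] at ha
    obtain ⟨y, hy, hya⟩ := ha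
    rw [isConj_iff] at hya
    obtain ⟨g, rfl⟩ := hya
    have hyY : (y : G) ∈ Y := Subgroup.mem_subgroupOf.mp hy
    have hyp : y ^ p = 1 := Subtype.ext (by simpa using hYe.2 _ hyY)
    rw [conj_pow, hyp, mul_one, mul_inv_cancel]

theorem sup_centralizer_le_normalizer_largestPReducedOf [Finite G] (M : Subgroup G)
    (hM : Subgroup.centralizer (pCore p ↥M : Set ↥M) ≤ pCore p ↥M) :
    M ⊔ Subgroup.centralizer (((largestPReducedOf p M) : Subgroup G) : Set G) ≤
      Subgroup.normalizer (((largestPReducedOf p M) : Subgroup G) : Set G) :=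
  sup_le (le_normalizer_largestPReducedOf M hM) (Subgroup.centralizer_le_normalizer _)

theorem frakM_asymmetric_normal_closure [Finite G] (M : Subgroup G) (hM : IsInFrakM p M)
    (hasym : ¬ IsSymmetricIn (largestPReducedOf p M)) (R : Subgroup G)
    (hYR : (largestPReducedOf p M) ≤ R)
    (hRM : R ≤ (M ⊔ Subgroup.centralizer (((largestPReducedOf p M) : Subgroup G) : Set G))) :
    IsElementaryAbelian p ((Subgroup.normalClosure ((((largestPReducedOf p M)).subgroupOf
      (Subgroup.normalizer ((R : Subgroup G) : Set G)) :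
        Subgroup ↥(Subgroup.normalizer ((R : Subgroup G) : Set G))) :
          Set ↥(Subgroup.normalizer ((R : Subgroup G) : Set G)))).map
            (Subgroup.normalizer ((R : Subgroup G) : Set G)).subtype) := by
  have hchar := charP_internal_of_mem_charPSubgroups hM.1
  exact asymmetric_normal_closure_elementary_abelian _
    (largestPReducedOf_isElementaryAbelian M hchar) hasym R hYR
    (hRM.trans (sup_centralizer_le_normalizer_largestPReducedOf M hchar))

end Cfsg.Agent.Lib.Helper7
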