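import Mathlib
import Cfsg.Prelude.Def_LocalStructure
import Cfsg.Prelude.Def_LocalEven
import Cfsg.Agent.Lib.Helper7.PReduced4
import Cfsg.Agent.Lib.Helper7.FrakM

set_option autoImplicit false

namespace Cfsg.Agent.Lib.Helper7

open Cfsg

variable {L : Type*} [Group L] {p : ℕ}

/-- `O_p(R)` centralizes every `p`-reduced normal subgroup of `R`. -/
theorem pCore_le_centralizer_of_isPReducedNormal {V : Subgroup L} (hV : IsPReducedNormal p V) :
    pCore p L ≤ Subgroup.centralizer (V : Set L) := by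
  obtain ⟨hVn, hVe, hCn, hO⟩ := hV
  haveI := hCn
  haveI : (pCore p L).Normal := pCore_normal p L
  apply pCore_le_of_quotient_pCore_eq_bot _ hO
  intro x hx
  obtain ⟨k, hk⟩ := pow_eq_one_of_mem_isPGroup (pCore_isPGroup p L) hx
  exact ⟨k, by rw [hk]; exact Subgroup.one_mem _⟩

theorem omegaCenterPCore_normal : (omegaCenterPCore p L).Normal := by
  haveI : (pCore p L).Normal := pCore_normal p L
  constructor
  intro z hz g
  obtain ⟨⟨hz1, hz2⟩, hz3⟩ := hz
  refine ⟨Subgroup.mem_inf.mpr ⟨?_, ?_⟩, ?_⟩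
  · exact (pCore_normal p L).conj_mem z hz1 g
  · exact (inferInstance : (Subgroup.centralizer (pCore p L : Set L)).Normal).conj_mem z hz2 g
  · rw [conj_pow, hz3, mul_one, mul_inv_cancel]

theorem normalClosure_pReduced [Finite L] [Fact p.Prime]
    (hchar : Subgroup.centralizer (pCore p L : Set L) ≤ pCore p L) (T : Sylow p L) (R : Subgroup L)
    (hTR : (T : Subgroup L) ≤ R) (X : Subgroup ↥R) (hX : IsPReducedNormal p X) :
    IsPReducedNormal p (Subgroup.normalClosure ((X.map R.subtype : Subgroup L) : Set L)) := by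
  have hOX := pCore_le_centralizer_of_isPReducedNormal hX
  obtain ⟨hXn, hXe, hCXn, hOR⟩ := hX
  haveI := hCXn
  set X' := X.map R.subtype with hX'
  set V := Subgroup.normalClosure ((X' : Subgroup L) : Set L) with hV
  haveI hVn : V.Normal := Subgroup.normalClosure_normal
  -- O_p(L) ≤ R and O_p(L).subgroupOf R ≤ O_p(R)
  have hOLT : pCore p L ≤ T := Cfsg.Agent.H1.pCore_le_sylow T
  have hOLR : pCore p L ≤ R := hOLT.trans hTR
  have hOLR' : (pCore p L).subgroupOf R ≤ pCore p ↥R := by
    haveI : (pCore p L).Normal := pCore_normal p L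
    exact le_pCore inferInstance ((pCore_isPGroup p L).comap_subtype)
  -- X' ≤ Ω₁Z(O_p(L))
  have hX'Ω : X' ≤ omegaCenterPCore p L := by
    rintro _ ⟨x, hx, rfl⟩
    have hxc : (x : L) ∈ Subgroup.centralizer (pCore p L : Set L) := by
      rw [Subgroup.mem_centralizer_iff]
      intro y hy
      have hy' : (⟨y, hOLR hy⟩ : ↥R) ∈ Subgroup.centralizer (X : Set ↥R) :=
        hOX (hOLR' (Subgroup.mem_subgroupOf.mpr hy))
      have := Subgroup.mem_centralizer_iff.mp hy' x hx
      have := congrArg (fun z : ↥R => (z : L)) this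
      simpa using this.symm
    refine ⟨Subgroup.mem_inf.mpr ⟨hchar hxc, hxc⟩, ?_⟩
    have := ((isElementaryAbelian_iff X).mp hXe).2 x hx
    have := congrArg (fun z : ↥R => (z : L)) this
    simpa using this
  have hVΩ : V ≤ omegaCenterPCore p L := by
    haveI := omegaCenterPCore_normal (p := p) (L := L)
    exact Subgroup.normalClosure_le_normal hX'Ω
  refine ⟨hVn, isElementaryAbelian_of_le_omegaCenterPCore hVΩ, inferInstance, ?_⟩
  set C := Subgroup.centralizer (V : Set L) with hC
  rw [eq_bot_iff]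
  intro q hq
  obtain ⟨g, rfl⟩ := QuotientGroup.mk_surjective q
  rw [Subgroup.mem_bot]
  refine (QuotientGroup.eq_one_iff g).mpr ?_
  -- D: preimage of O_p(L/C)
  set D := (pCore p (L ⧸ C)).comap (QuotientGroup.mk' C) with hD
  haveI hDn : D.Normal := (pCore_normal p (L ⧸ C)).comap _
  have hCD : C ≤ D := by
    intro c hc
    show QuotientGroup.mk' C c ∈ pCore p (L ⧸ C)
    have : QuotientGroup.mk' C c = 1 := (QuotientGroup.eq_one_iff c).mpr hc
    rw [this]
    exact Subgroup.one_mem _
  have hDp : ∀ x ∈ D, ∃ k : ℕ, x ^ p ^ k ∈ C := by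
    intro x hx
    obtain ⟨k, hk⟩ := pow_eq_one_of_mem_isPGroup (pCore_isPGroup p (L ⧸ C)) hx
    refine ⟨k, ?_⟩
    rw [← map_pow] at hk
    exact (QuotientGroup.eq_one_iff _).mp hk
  have hCX' : C ≤ Subgroup.centralizer (X' : Set L) :=
    Subgroup.centralizer_le (show (X' : Set L) ⊆ (V : Set L) from Subgroup.le_normalClosure)
  -- D_R ≤ C_R(X)
  have hDR : D.subgroupOf R ≤ Subgroup.centralizer (X : Set ↥R) := by
    haveI : (D.subgroupOf R).Normal := hDn.subgroupOf R
    apply pCore_le_of_quotient_pCore_eq_bot _ hOR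
    intro x hx
    obtain ⟨k, hk⟩ := hDp (x : L) (Subgroup.mem_subgroupOf.mp hx)
    refine ⟨k, ?_⟩
    rw [Subgroup.mem_centralizer_iff]
    intro y hy
    apply Subtype.ext
    have := Subgroup.mem_centralizer_iff.mp (hCX' hk) (y : L) ⟨y, hy, rfl⟩
    simpa using this
  -- D ≤ C_L(X')
  have hDX' : D ≤ Subgroup.centralizer (X' : Set L) := by
    intro x hx
    have hS := Cfsg.Agent.H1.pCore_le_sylow (T.mapSurjective (QuotientGroup.mk'_surjective C))
    have hx' : QuotientGroup.mk' C x ∈ (T : Subgroup L).map (QuotientGroup.mk' C) := hS hx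
    obtain ⟨t, ht, htx⟩ := hx'
    have hc : t⁻¹ * x ∈ C := by
      rw [← QuotientGroup.eq]; exact htx
    have htD : t ∈ D := by
      have : t = x * (t⁻¹ * x)⁻¹ := by group
      rw [this]
      exact Subgroup.mul_mem _ hx (Subgroup.inv_mem _ (hCD hc))
    have htR : t ∈ R := hTR ht
    have htX : t ∈ Subgroup.centralizer (X' : Set L) := by
      have h1 : (⟨t, htR⟩ : ↥R) ∈ Subgroup.centralizer (X : Set ↥R) :=
        hDR (Subgroup.mem_subgroupOf.mpr htD)
      rw [Subgroup.mem_centralizer_iff]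
      rintro _ ⟨y, hy, rfl⟩
      have := Subgroup.mem_centralizer_iff.mp h1 y hy
      have := congrArg (fun z : ↥R => (z : L)) this
      simpa using this
    have : x = t * (t⁻¹ * x) := by group
    rw [this]
    exact Subgroup.mul_mem _ htX (hCX' hc)
  -- D centralizes V
  have hDV : D ≤ C := by
    rw [hC, Subgroup.le_centralizer_iff]
    haveI : (Subgroup.centralizer (D : Set L)).Normal := inferInstance
    apply Subgroup.normalClosure_le_normal
    exact Subgroup.le_centralizer_iff.mp hDX'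
  exact hDV hq

end Cfsg.Agent.Lib.Helper7
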