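import Mathlib
import Cfsg.Prelude.Def_LocalStructure
import Cfsg.Prelude.Def_LocalEven
import Cfsg.Agent.Lib.Helper7.PReduced6
import Cfsg.Agent.Lib.Helper7.Large3

set_option autoImplicit false

namespace Cfsg.Agent.Lib.Helper7

open Cfsg
open scoped Pointwise

variable {L : Type*} [Group L] {p : ℕ}

theorem mem_of_pow_mem_of_pow_mem_of_coprime {S : Subgroup L} {x : L} {m n : ℕ} (hmn : Nat.Coprime m n)
    (hm : x ^ m ∈ S) (hn : x ^ n ∈ S) : x ∈ S := by
  rcases Nat.lt_or_ge 1 n with h1 | h1
  · obtain ⟨a, -, ha⟩ := Nat.exists_mul_mod_eq_one_of_coprime hmn h1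
    have e : m * a = n * (m * a / n) + 1 := by
      have := Nat.div_add_mod (m * a) n
      rw [ha] at this
      exact this.symm
    have h2 : x ^ (m * a) ∈ S := by rw [pow_mul]; exact Subgroup.pow_mem _ hm a
    have h3 : x ^ (n * (m * a / n)) ∈ S := by rw [pow_mul]; exact Subgroup.pow_mem _ hn _
    have h4 : x ^ (m * a) = x ^ (n * (m * a / n)) * x := by
      conv_lhs => rw [e]
      rw [pow_succ]
    have h5 : x = (x ^ (n * (m * a / n)))⁻¹ * x ^ (m * a) := by
      rw [h4, inv_mul_cancel_left]
    rw [h5]
    exact Subgroup.mul_mem _ (Subgroup.inv_mem _ h3) h2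
  · interval_cases n
    · rw [Nat.coprime_zero_right] at hmn
      rw [hmn, pow_one] at hm
      exact hm
    · rw [pow_one] at hn; exact hn

theorem normalizer_le_normalizer_omegaOne (A : Subgroup L) :
    Subgroup.normalizer (A : Set L) ≤ Subgroup.normalizer ((omegaOne p A : Subgroup L) : Set L) := by
  have key : ∀ g : L, (∀ b ∈ A, g * b * g⁻¹ ∈ A) → ∀ x ∈ omegaOne p A, g * x * g⁻¹ ∈ omegaOne p A := by
    intro g hg
    have hle : omegaOne p A ≤ (omegaOne p A).comap (MulAut.conj g).toMonoidHom := by
      conv_lhs => unfold omegaOne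
      rw [Subgroup.closure_le]
      rintro y ⟨hy, hyp⟩
      show g * y * g⁻¹ ∈ omegaOne p A
      apply Subgroup.subset_closure
      refine ⟨hg y hy, ?_⟩
      rw [conj_pow, hyp, mul_one, mul_inv_cancel]
    exact fun x hx => hle hx
  intro g hg
  rw [Subgroup.mem_normalizer_iff]
  have h1 : ∀ b ∈ A, g * b * g⁻¹ ∈ A := fun b hb => (Subgroup.mem_normalizer_iff.mp hg b).mp hb
  have h2 : ∀ b ∈ A, g⁻¹ * b * g⁻¹⁻¹ ∈ A := fun b hb => by
    rw [Subgroup.mem_normalizer_iff.mp hg]
    have : g * (g⁻¹ * b * g⁻¹⁻¹) * g⁻¹ = b := by group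
    rw [this]; exact hb
  intro x
  constructor
  · exact key g h1 x
  · intro hx
    have := key g⁻¹ h2 _ hx
    have e : g⁻¹ * (g * x * g⁻¹) * g⁻¹⁻¹ = x := by group
    rw [e] at this; exact this

section main
variable [Finite L] [Fact p.Prime]

omit [Finite L] [Fact p.Prime] in
/-- Setting: `C ⊴ L` with `O_p(L/C) = 1` and `L = N C`. A subgroup normalized by `N` all of whose
elements have `p`-power order modulo `C` lies in `C`. -/
theorem le_of_normalized_of_pow_mem (C N : Subgroup L) [hCn : C.Normal]
    (hO : pCore p (L ⧸ C) = ⊥) (hNC : N ⊔ C = ⊤) (P' : Subgroup L)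
    (hP'N : N ≤ Subgroup.normalizer (P' : Set L)) (hp : ∀ x ∈ P', ∃ k : ℕ, x ^ p ^ k ∈ C) :
    P' ≤ C := by
  have hCN : (⊤ : Subgroup L) ≤ Subgroup.normalizer (C : Set L) := by
    rw [Subgroup.normalizer_eq_top]
  haveI hn : (P' ⊔ C).Normal := by
    rw [← Subgroup.normalizer_eq_top_iff, eq_top_iff, ← hNC]
    apply sup_le
    · exact (le_inf hP'N (le_top.trans hCN)).trans
        (Subgroup.normalizer_inf_normalizer_le_normalizer_sup P' C)
    · exact le_sup_right.trans Subgroup.le_normalizer
  have hpp : ∀ x ∈ P' ⊔ C, ∃ k : ℕ, x ^ p ^ k ∈ C := by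
    intro x hx
    have hx' : x ∈ ((P' ⊔ C : Subgroup L) : Set L) := hx
    rw [Subgroup.mul_normal] at hx'
    obtain ⟨d, hd, c, hc, rfl⟩ := hx'
    obtain ⟨k, hk⟩ := hp d hd
    refine ⟨k, ?_⟩
    obtain ⟨c', hc', e⟩ := exists_pow_mul_eq C (hCN (Subgroup.mem_top d)) hc (p ^ k)
    rw [e]
    exact Subgroup.mul_mem _ hk hc'
  exact le_sup_left.trans (pCore_le_of_quotient_pCore_eq_bot C hO (P' ⊔ C) hpp)

theorem largest_pReduced_structure
    (hchar : Subgroup.centralizer (pCore p L : Set L) ≤ pCore p L) (T : Sylow p L) (Y : Subgroup L)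
    (hY : (IsPReducedNormal p Y ∧ ∀ V : Subgroup L, IsPReducedNormal p V → V ≤ Y))
    (TL : Subgroup L) (hTL : TL = (T : Subgroup L) ⊓ Subgroup.centralizer (Y : Set L)) :
    (∀ g : L, ∃ a ∈ Subgroup.normalizer (TL : Set L), ∃ c ∈ Subgroup.centralizer (Y : Set L),
      g = a * c) ∧
    (pCore p ↥(Subgroup.normalizer (TL : Set L))).map (Subgroup.normalizer (TL : Set L)).subtype = TL ∧
    Y = omegaOne p (TL ⊓ Subgroup.centralizer (TL : Set L)) := by
  obtain ⟨hYred, hYmax⟩ := hY
  have hYZ := isPReducedNormal_le_center_pCore hchar hYred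
  obtain ⟨hYn, hYe, hCn, hO⟩ := hYred
  haveI := hYn
  haveI := hCn
  set C := Subgroup.centralizer (Y : Set L) with hC
  set N := Subgroup.normalizer (TL : Set L) with hN
  have hTLp : IsPGroup p ↥TL := by rw [hTL]; exact T.isPGroup'.to_inf_left
  have hTLC : TL ≤ C := by rw [hTL]; exact inf_le_right
  have hTLT : TL ≤ T := by rw [hTL]; exact inf_le_left
  -- Sylow in C
  have hSyl : IsSylowIn p TL C := by
    rw [hTL]
    exact IsSylowIn.inf_normal (IsSylowIn.of_sylow_top T) C le_top
      (by rw [Subgroup.normalizer_eq_top])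
  obtain ⟨P, hP⟩ := hSyl.exists_sylow
  have hPmap : (P : Subgroup ↥C).map C.subtype = TL := by
    rw [hP, Subgroup.map_subgroupOf_eq_of_le hTLC]
  -- (a) Frattini
  have hNC : N ⊔ C = ⊤ := by
    have := Sylow.normalizer_sup_eq_top P
    rw [hPmap] at this
    exact this
  have hYab : Y ≤ C := by
    rw [isElementaryAbelian_iff] at hYe
    intro y hy
    rw [hC, Subgroup.mem_centralizer_iff]
    intro z hz
    exact hYe.1 z hz y hy
  have hYT : Y ≤ T := fun y hy => Cfsg.Agent.H1.pCore_le_sylow T (hYZ hy).1
  have hYTL : Y ≤ TL := by rw [hTL]; exact le_inf hYT hYab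
  have hYCTL : Y ≤ Subgroup.centralizer (TL : Set L) := Subgroup.le_centralizer_iff.mp hTLC
  refine ⟨?_, ?_, ?_⟩
  · intro g
    have hg : g ∈ ((N ⊔ C : Subgroup L) : Set L) := by rw [hNC]; trivial
    rw [Subgroup.mul_normal] at hg
    obtain ⟨a, ha, c, hc, rfl⟩ := hg
    exact ⟨a, ha, c, hc, rfl⟩
  · -- (b)
    show pCoreOf p N = TL
    apply le_antisymm
    · have h1 : pCoreOf p N ≤ C := by
        apply le_of_normalized_of_pow_mem C N hO hNC _ (le_normalizer_pCoreOf N)
        intro x hx
        obtain ⟨k, hk⟩ := pow_eq_one_of_mem_isPGroup (pCoreOf_isPGroup N) hx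
        exact ⟨k, by rw [hk]; exact Subgroup.one_mem _⟩
      have h2 : pCoreOf p N ≤ N := pCoreOf_le N
      have h3 : IsPGroup p ↥(pCoreOf p N ⊔ TL) :=
        IsPGroup.to_sup_of_normal_right' (pCoreOf_isPGroup N) hTLp h2
      have h4 : pCoreOf p N ⊔ TL ≤ C := sup_le h1 hTLC
      have h5 : (pCoreOf p N ⊔ TL).subgroupOf C = (P : Subgroup ↥C) :=
        P.is_maximal' (h3.comap_subtype (K := C))
          (by rw [hP]; exact Subgroup.subgroupOf_mono _ le_sup_right)
      intro x hx
      have hx' : (⟨x, h1 hx⟩ : ↥C) ∈ (pCoreOf p N ⊔ TL).subgroupOf C :=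
        Subgroup.mem_subgroupOf.mpr (Subgroup.mem_sup_left hx)
      rw [h5, hP] at hx'
      exact Subgroup.mem_subgroupOf.mp hx'
    · exact le_pCoreOf Subgroup.le_normalizer le_rfl hTLp
  · -- (c)
    set W := omegaOne p (TL ⊓ Subgroup.centralizer (TL : Set L)) with hW
    apply le_antisymm
    · intro y hy
      rw [isElementaryAbelian_iff] at hYe
      exact Subgroup.subset_closure ⟨Subgroup.mem_inf.mpr ⟨hYTL hy, hYCTL hy⟩, hYe.2 y hy⟩
    · -- W is p-reduced in N
      have hWTL : W ≤ TL ⊓ Subgroup.centralizer (TL : Set L) := by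
        rw [hW]; unfold omegaOne
        rw [Subgroup.closure_le]
        exact fun x hx => hx.1
      have hWN : W ≤ N := (hWTL.trans inf_le_left).trans Subgroup.le_normalizer
      have hYW : Y ≤ W := by
        intro y hy
        rw [isElementaryAbelian_iff] at hYe
        exact Subgroup.subset_closure ⟨Subgroup.mem_inf.mpr ⟨hYTL hy, hYCTL hy⟩, hYe.2 y hy⟩
      have hTLCW : TL ≤ Subgroup.centralizer (W : Set L) :=
        Subgroup.le_centralizer_iff.mp (hWTL.trans inf_le_right)
      have hCWC : Subgroup.centralizer (W : Set L) ≤ C :=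
        Subgroup.centralizer_le (show (Y : Set L) ⊆ (W : Set L) from hYW)
      have hNW : N ≤ Subgroup.normalizer ((W : Subgroup L) : Set L) := by
        refine le_trans ?_ (normalizer_le_normalizer_omegaOne _)
        exact (le_inf le_rfl (normalizer_le_normalizer_centralizer'' TL)).trans
          Subgroup.inf_normalizer_le_normalizer_inf
      have hWe : IsElementaryAbelian p W := by
        rw [hW]; unfold omegaOne
        apply isElementaryAbelian_closure
        · intro a ha b hb
          exact Subgroup.mem_centralizer_iff.mp (Subgroup.mem_inf.mp hb.1).2 a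
            (Subgroup.mem_inf.mp ha.1).1
        · exact fun a ha => ha.2
      set W' : Subgroup ↥N := W.subgroupOf N with hW'
      have hW'map : W'.map N.subtype = W := Subgroup.map_subgroupOf_eq_of_le hWN
      haveI hW'n : W'.Normal := (Subgroup.normal_subgroupOf_iff_le_normalizer hWN).mpr hNW
      have hCW' : ∀ x : ↥N, x ∈ Subgroup.centralizer (W' : Set ↥N) ↔
          (x : L) ∈ Subgroup.centralizer (W : Set L) := by
        intro x
        rw [Subgroup.mem_centralizer_iff, Subgroup.mem_centralizer_iff]
        constructor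
        · intro hx y hy
          have := congrArg (fun z : ↥N => (z : L)) (hx ⟨y, hWN hy⟩ (Subgroup.mem_subgroupOf.mpr hy))
          simpa using this
        · intro hx v hv
          apply Subtype.ext
          rw [Subgroup.coe_mul, Subgroup.coe_mul]
          exact hx v (Subgroup.mem_subgroupOf.mp hv)
      have hW'red : IsPReducedNormal p W' := by
        refine ⟨hW'n, ?_, inferInstance, ?_⟩
        · rw [← isElementaryAbelian_map_iff _ N.subtype_injective, hW'map]; exact hWe
        · apply pCore_quotient_eq_bot_of_forall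
          intro Pn hPn hPp
          haveI := hPn
          set P' := Pn.map N.subtype with hP'
          have hP'N : N ≤ Subgroup.normalizer ((P' : Subgroup L) : Set L) :=
            le_normalizer_map_subtype_of_normal N Pn
          have hP'C : P' ≤ C := by
            apply le_of_normalized_of_pow_mem C N hO hNC P' hP'N
            rintro _ ⟨x, hx, rfl⟩
            obtain ⟨k, hk⟩ := hPp x hx
            refine ⟨k, hCWC ?_⟩
            have := (hCW' _).mp hk
            simpa using this
          intro x hx
          rw [hCW']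
          obtain ⟨k, hk⟩ := hPp x hx
          have hk' : (x : L) ^ p ^ k ∈ Subgroup.centralizer (W : Set L) := by
            have := (hCW' _).mp hk
            simpa using this
          -- the p'-power
          set G' := C ⊓ N with hG'
          have hxG' : (x : L) ∈ G' := Subgroup.mem_inf.mpr ⟨hP'C ⟨x, hx, rfl⟩, x.2⟩
          have hTLG' : TL ≤ G' := le_inf hTLC Subgroup.le_normalizer
          haveI hTLn : (TL.subgroupOf G').Normal :=
            (Subgroup.normal_subgroupOf_iff_le_normalizer hTLG').mpr inf_le_right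
          have hm := Subgroup.pow_index_mem (TL.subgroupOf G') (⟨(x : L), hxG'⟩ : ↥G')
          have hm' : (x : L) ^ TL.relIndex G' ∈ TL := by
            have := Subgroup.mem_subgroupOf.mp hm
            simpa [Subgroup.relIndex] using this
          have hcop : Nat.Coprime (TL.relIndex G') (p ^ k) := by
            apply Nat.Coprime.pow_right
            have h1 : TL.relIndex G' ∣ TL.relIndex C :=
              Dvd.intro _ (Subgroup.relIndex_mul_relIndex TL G' C hTLG' inf_le_left)
            have h2 : ¬ p ∣ TL.relIndex C := by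
              have := P.not_dvd_index
              rw [hP] at this
              exact this
            have hp : p.Prime := Fact.out
            exact (Nat.Coprime.symm ((Nat.Prime.coprime_iff_not_dvd hp).mpr
              (fun h => h2 (h.trans h1))))
          exact mem_of_pow_mem_of_pow_mem_of_coprime hcop (hTLCW hm') hk'
      have hcl := normalClosure_pReduced hchar T N
        (hTLT |> fun _ => by
          -- T normalizes TL
          intro t ht
          rw [hN, hTL]
          apply Subgroup.inf_normalizer_le_normalizer_inf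
          refine Subgroup.mem_inf.mpr ⟨Subgroup.le_normalizer ht, ?_⟩
          rw [Subgroup.normalizer_eq_top]; trivial) W' hW'red
      rw [hW'map] at hcl
      exact Subgroup.le_normalClosure.trans (hYmax _ hcl)

end main

end Cfsg.Agent.Lib.Helper7
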