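import Mathlib
import Cfsg.Prelude.Def_LocalStructure
import Cfsg.Prelude.Def_LocalEven
import Cfsg.Prelude.Def_Amalgam
import Cfsg.Agent.Lib.Helper7.PReduced7
import Cfsg.Agent.Lib.Helper7.FStarLocal3
import Cfsg.Agent.Lib.Lead.Conj

set_option autoImplicit false

namespace Cfsg.Agent.Lib.Helper7

open Cfsg

section frat
variable {G : Type*} [Group G] [Finite G] {p : ℕ} [Fact p.Prime]

/-- Frattini argument, ambient form. -/
theorem IsSylowIn.frattini {P N K : Subgroup G} (hP : IsSylowIn p P N) (hNK : N ≤ K)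
    (hN : K ≤ Subgroup.normalizer (N : Set G)) :
    K ≤ (K ⊓ Subgroup.normalizer (P : Set G)) ⊔ N := by
  intro k hk
  have hkN := hN hk
  have hPk : IsSylowIn p (P.map (MulAut.conj k).toMonoidHom) N := by
    refine ⟨?_, ?_⟩
    · rintro _ ⟨x, hx, rfl⟩
      exact (Subgroup.mem_normalizer_iff.mp hkN x).mp (hP.1 hx)
    · rw [Cfsg.Agent.Lib.Lead.Conj.card_map_conj]; exact hP.2
  obtain ⟨n, hn, e⟩ := hP.conj hPk
  have hmem : n⁻¹ * k ∈ Subgroup.normalizer (P : Set G) := by
    apply Cfsg.Agent.Lib.Lead.Conj.mem_normalizer_of_conj_mem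
    intro r hr
    have h1 : k * r * k⁻¹ ∈ P.map (MulAut.conj k).toMonoidHom :=
      Cfsg.Agent.Lib.Lead.Conj.conj_mem_map_conj P k hr
    rw [e, Cfsg.Agent.Lib.Lead.Conj.mem_map_conj] at h1
    convert h1 using 1
    group
  have e2 : k = (n⁻¹ * k) * ((n⁻¹ * k)⁻¹ * n * (n⁻¹ * k)) := by group
  rw [e2]
  apply Subgroup.mul_mem_sup
  · exact Subgroup.mem_inf.mpr ⟨Subgroup.mul_mem _ (Subgroup.inv_mem _ (hNK hn)) hk, hmem⟩
  · have hnk : n⁻¹ * k ∈ Subgroup.normalizer (N : Set G) :=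
      Subgroup.mul_mem _ (Subgroup.inv_mem _ (Subgroup.le_normalizer hn)) hkN
    have := (Subgroup.mem_normalizer_iff.mp (Subgroup.inv_mem _ hnk) n).mp hn
    rw [inv_inv] at this
    exact this

end frat

variable {H : Type*} [Group H] [Finite H] {p : ℕ} [Fact p.Prime]

/-- Relative `p`-local subgroups of a subgroup of characteristic `p` have characteristic `p`. -/
theorem isCharP_of_relative_local (M : Subgroup H)
    (hM : Subgroup.centralizer (pCore p ↥M : Set ↥M) ≤ pCore p ↥M)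
    (P N : Subgroup H) (hP : IsPGroup p ↥P) (hPN : P ≤ N) (hNM : N ≤ M)
    (hNP : N ≤ Subgroup.normalizer (P : Set H))
    (hC : Subgroup.centralizer (P : Set H) ⊓ M ≤ N) :
    Subgroup.centralizer (pCore p ↥N : Set ↥N) ≤ pCore p ↥N := by
  obtain ⟨h1, h2⟩ := Cfsg.Agent.H2.local_of_subgroup p M hM P N hP hPN hNM hNP hC
  exact fstar_eq_pCore_iff_isCharP.mp
    (Cfsg.Agent.H2.generalizedFittingSubgroup_eq_pCore_of_forall p h1 h2)

/-- `Y_L = Ω₁(Z(C_T(Y_L)))` in the ambient group. -/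
theorem largestPReducedOf_eq_omegaOne (T : Sylow p H) (L : Subgroup H)
    (hTL : (T : Subgroup H) ≤ L)
    (hL : Subgroup.centralizer (pCore p ↥L : Set ↥L) ≤ pCore p ↥L) (T₀ : Subgroup H)
    (hT₀ : T₀ = (T : Subgroup H) ⊓
      Subgroup.centralizer (((largestPReducedOf p L) : Subgroup H) : Set H)) :
    largestPReducedOf p L = omegaOne p (T₀ ⊓ Subgroup.centralizer ((T₀ : Subgroup H) : Set H)) := by
  have hstr := largest_pReduced_structure hL (T.subtype hTL) (largestPReduced p ↥L)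
    ⟨isPReducedNormal_largestPReduced hL, fun V hV => le_sSup hV⟩ _ rfl
  obtain ⟨-, -, h3⟩ := hstr
  have hmap : (((T.subtype hTL : Sylow p ↥L) : Subgroup ↥L) ⊓
      Subgroup.centralizer ((largestPReduced p ↥L : Subgroup ↥L) : Set ↥L)).map L.subtype = T₀ := by
    rw [hT₀]
    ext x
    constructor
    · rintro ⟨y, hy, rfl⟩
      obtain ⟨hy1, hy2⟩ := Subgroup.mem_inf.mp hy
      rw [Sylow.coe_subtype] at hy1
      refine Subgroup.mem_inf.mpr ⟨Subgroup.mem_subgroupOf.mp hy1, ?_⟩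
      rw [Subgroup.mem_centralizer_iff]
      rintro _ ⟨z, hz, rfl⟩
      have := Subgroup.mem_centralizer_iff.mp hy2 z hz
      rw [← map_mul, ← map_mul, this]
    · intro hx
      obtain ⟨hx1, hx2⟩ := Subgroup.mem_inf.mp hx
      refine ⟨⟨x, hTL hx1⟩, Subgroup.mem_inf.mpr ⟨?_, ?_⟩, rfl⟩
      · rw [Sylow.coe_subtype]
        exact Subgroup.mem_subgroupOf.mpr hx1
      · rw [Subgroup.mem_centralizer_iff]
        intro z hz
        apply Subtype.ext
        rw [Subgroup.coe_mul, Subgroup.coe_mul]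
        exact Subgroup.mem_centralizer_iff.mp hx2 _ ⟨z, hz, rfl⟩
  rw [← hmap, omegaOne_center_map L.subtype L.subtype_injective, ← h3]
  rfl

theorem largest_pReduced_transfer (T : Sylow p H) (L M : Subgroup H)
    (hTL : (T : Subgroup H) ≤ L) (hTM : (T : Subgroup H) ≤ M)
    (hL : Subgroup.centralizer (Cfsg.pCore p ↥L : Set ↥L) ≤ Cfsg.pCore p ↥L)
    (hM : Subgroup.centralizer (Cfsg.pCore p ↥M : Set ↥M) ≤ Cfsg.pCore p ↥M) (T₀ : Subgroup H)
    (hT₀ : T₀ = (T : Subgroup H) ⊓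
      Subgroup.centralizer (((Cfsg.largestPReducedOf p L) : Subgroup H) : Set H))
    (hfac : M ⊔ Subgroup.centralizer (((Cfsg.largestPReducedOf p L) : Subgroup H) : Set H) =
      L ⊔ Subgroup.centralizer (((Cfsg.largestPReducedOf p L) : Subgroup H) : Set H))
    (Ls : Subgroup H) (hLs : Ls = M ⊓ Subgroup.normalizer ((T₀ : Subgroup H) : Set H)) :
    (Cfsg.largestPReducedOf p Ls) = (Cfsg.largestPReducedOf p L) ∧
      L ⊔ Subgroup.centralizer (((Cfsg.largestPReducedOf p L) : Subgroup H) : Set H) =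
        Ls ⊔ Subgroup.centralizer (((Cfsg.largestPReducedOf p L) : Subgroup H) : Set H) := by
  set Y := largestPReducedOf p L with hY
  set C := Subgroup.centralizer ((Y : Subgroup H) : Set H) with hC
  have hLNY : L ≤ Subgroup.normalizer ((Y : Subgroup H) : Set H) :=
    le_normalizer_largestPReducedOf L hL
  have hNC := normalizer_le_normalizer_centralizer'' Y
  have hCNY : C ≤ Subgroup.normalizer ((Y : Subgroup H) : Set H) :=
    Subgroup.centralizer_le_normalizer _
  have hMNY : M ≤ Subgroup.normalizer ((Y : Subgroup H) : Set H) :=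
    (le_sup_left.trans hfac.le).trans (sup_le hLNY hCNY)
  have hMNC : M ≤ Subgroup.normalizer ((C : Subgroup H) : Set H) := hMNY.trans hNC
  have hTNC : (T : Subgroup H) ≤ Subgroup.normalizer ((C : Subgroup H) : Set H) := hTM.trans hMNC
  have hT₀p : IsPGroup p ↥T₀ := by rw [hT₀]; exact T.isPGroup'.to_inf_left
  have hT₀T : T₀ ≤ T := by rw [hT₀]; exact inf_le_left
  have hT₀C : T₀ ≤ C := by rw [hT₀]; exact inf_le_right
  -- T normalizes T₀
  have hTNT₀ : (T : Subgroup H) ≤ Subgroup.normalizer ((T₀ : Subgroup H) : Set H) := by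
    rw [hT₀]
    exact (le_inf Subgroup.le_normalizer hTNC).trans Subgroup.inf_normalizer_le_normalizer_inf
  have hTLs : (T : Subgroup H) ≤ Ls := by rw [hLs]; exact le_inf hTM hTNT₀
  have hLsM : Ls ≤ M := by rw [hLs]; exact inf_le_left
  -- T₀ is Sylow in M ⊓ C
  have hMMC : M ≤ Subgroup.normalizer ((M ⊓ C : Subgroup H) : Set H) :=
    (le_inf Subgroup.le_normalizer hMNC).trans Subgroup.inf_normalizer_le_normalizer_inf
  have hSyl : IsSylowIn p T₀ (M ⊓ C) := by
    have h1 := IsSylowIn.inf_normal (IsSylowIn.of_sylow_le T hTM) (M ⊓ C) inf_le_left hMMC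
    have e : (T : Subgroup H) ⊓ (M ⊓ C) = T₀ := by
      rw [hT₀, ← inf_assoc, inf_eq_left.mpr hTM]
    rwa [e] at h1
  -- Frattini
  have hfr : M ≤ Ls ⊔ C := by
    have := hSyl.frattini inf_le_left hMMC
    rw [← hLs] at this
    exact this.trans (sup_le_sup_left inf_le_right _)
  have hB : L ⊔ C = Ls ⊔ C := by
    rw [← hfac]
    apply le_antisymm
    · exact sup_le hfr le_sup_right
    · exact sup_le_sup_right hLsM _
  refine ⟨?_, hB⟩
  -- Ls has characteristic p
  have hLschar : Subgroup.centralizer (pCore p ↥Ls : Set ↥Ls) ≤ pCore p ↥Ls := by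
    apply isCharP_of_relative_local M hM T₀ Ls hT₀p (hT₀T.trans hTLs) hLsM
    · rw [hLs]; exact inf_le_right
    · rw [hLs]
      exact le_inf inf_le_right (inf_le_left.trans (Subgroup.centralizer_le_normalizer _))
  -- Y ≤ Y_{Ls}
  have hle : Y ≤ largestPReducedOf p Ls :=
    largestPReducedOf_le_of_sup_eq T Ls L hTLs hTL hL hB.symm
  -- T ⊓ C(Y_{Ls}) = T₀
  have hT₀eq : (T : Subgroup H) ⊓
      Subgroup.centralizer (((largestPReducedOf p Ls) : Subgroup H) : Set H) = T₀ := by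
    apply le_antisymm
    · rw [hT₀]
      exact inf_le_inf_left _ (Subgroup.centralizer_le hle)
    · have h1 : T₀ ≤ pCoreOf p Ls := by
        apply le_pCoreOf (hT₀T.trans hTLs) _ hT₀p
        rw [hLs]; exact inf_le_right
      exact h1.trans (largest_pReduced_sylow_props T Ls hTLs hLschar _ rfl).2.1
  rw [largestPReducedOf_eq_omegaOne T Ls hTLs hLschar _ rfl, hT₀eq,
    ← largestPReducedOf_eq_omegaOne T L hTL hL T₀ hT₀]

end Cfsg.Agent.Lib.Helper7
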