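import Mathlib
import Cfsg.Prelude.Def_LocalEven
import Cfsg.Prelude.Def_Amalgam
import Cfsg.Agent.Lib.Lead.Conj
import Cfsg.Agent.Lib.Helper7.SylowLib
import Cfsg.Agent.Lib.Helper7.PReduced8

set_option autoImplicit false

namespace Cfsg.Agent.Lib.Helper7

open Cfsg Cfsg.Agent.Lib.Lead.Conj
open scoped Pointwise

section typeLevel

variable {H : Type*} [Group H] [Finite H] {p : ℕ} [Fact p.Prime]

/-- the defining property of `p`-minimality at one Sylow subgroup, without coatoms -/
def PMinAt (S M : Subgroup H) : Prop :=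
  M ≠ ⊤ ∧ S ≤ M ∧ ∀ X : Subgroup H, S ≤ X → X ≠ ⊤ → X ≤ M

omit [Finite H] in
theorem PMinAt.isCoatom {S M : Subgroup H} (h : PMinAt S M) : IsCoatom M := by
  refine ⟨h.1, fun X hX => ?_⟩
  by_contra hne
  exact (lt_irrefl M) (lt_of_lt_of_le hX (h.2.2 X (h.2.1.trans hX.le) hne))

omit [Finite H] in
theorem PMinAt.existsUnique {S M : Subgroup H} (h : PMinAt S M) :
    ∃! M' : Subgroup H, IsCoatom M' ∧ S ≤ M' := by
  refine ⟨M, ⟨h.isCoatom, h.2.1⟩, ?_⟩
  rintro M' ⟨hM'c, hSM'⟩
  have hle : M' ≤ M := h.2.2 M' hSM' hM'c.1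
  rcases eq_or_lt_of_le hle with h1 | h1
  · exact h1
  · exact absurd (hM'c.2 M h1) h.1

omit [Finite H] in
theorem PMinAt.smul {S M : Subgroup H} (h : PMinAt S M) (g : H) :
    PMinAt (MulAut.conj g • S) (MulAut.conj g • M) := by
  refine ⟨?_, ?_, ?_⟩
  · intro htop
    apply h.1
    have : (MulAut.conj g)⁻¹ • (MulAut.conj g • M) = (MulAut.conj g)⁻¹ • (⊤ : Subgroup H) := by rw [htop]
    rw [inv_smul_smul] at this
    rw [this]
    ext x
    simp [Subgroup.mem_pointwise_smul_iff_inv_smul_mem]
  · exact Subgroup.pointwise_smul_le_pointwise_smul_iff.mpr h.2.1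
  · intro X hSX hX
    rw [Subgroup.subset_pointwise_smul_iff]
    apply h.2.2
    · rw [← Subgroup.pointwise_smul_subset_iff]; exact hSX
    · intro htop
      apply hX
      have : MulAut.conj g • ((MulAut.conj g)⁻¹ • X) = MulAut.conj g • (⊤ : Subgroup H) := by rw [htop]
      rw [smul_inv_smul] at this
      rw [this]
      ext x
      simp [Subgroup.mem_pointwise_smul_iff_inv_smul_mem]

theorem isPMinimal_iff (S : Sylow p H) :
    IsPMinimal p H ↔ ¬ (S : Subgroup H).Normal ∧ ∃ M : Subgroup H, PMinAt (S : Subgroup H) M := by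
  constructor
  · intro h
    obtain ⟨hn, M, ⟨hMc, hSM⟩, huniq⟩ := h S
    refine ⟨hn, M, hMc.1, hSM, ?_⟩
    intro X hSX hX
    obtain ⟨M', hM'c, hXM'⟩ := (eq_top_or_exists_le_coatom X).resolve_left hX
    have := huniq M' ⟨hM'c, hSX.trans hXM'⟩
    rw [← this]; exact hXM'
  · rintro ⟨hn, M, hM⟩ S'
    obtain ⟨g, rfl⟩ := MulAction.exists_smul_eq H S S'
    refine ⟨?_, ?_⟩
    · intro hnorm
      apply hn
      haveI : ((g • S : Sylow p H) : Subgroup H).Normal := hnorm
      have h1 : g⁻¹ • (g • S) = g • S := Sylow.smul_eq_of_normal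
      rw [inv_smul_smul] at h1
      rw [h1]; exact hnorm
    · rw [Sylow.coe_subgroup_smul]
      exact (hM.smul g).existsUnique

end typeLevel

section ambient

variable {G : Type*} [Group G] [Finite G] {p : ℕ} [Fact p.Prime]

/-- ambient version of `PMinAt`: `M` is the unique maximal subgroup of `P` containing `S` -/
def PMinIn (S P M : Subgroup G) : Prop :=
  M ≤ P ∧ M ≠ P ∧ S ≤ M ∧ ∀ X : Subgroup G, S ≤ X → X ≤ P → X ≠ P → X ≤ M

omit [Finite G] in
theorem map_subtype_eq_self_iff (P : Subgroup G) (X : Subgroup ↥P) : X.map P.subtype = P ↔ X = ⊤ := by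
  constructor
  · intro h
    rw [eq_top_iff]
    intro x _
    have hx : (x : G) ∈ X.map P.subtype := by rw [h]; exact x.2
    obtain ⟨y, hy, hyx⟩ := hx
    have : y = x := Subtype.ext hyx
    rw [← this]; exact hy
  · rintro rfl
    ext x
    constructor
    · rintro ⟨y, -, rfl⟩; exact y.2
    · intro hx; exact ⟨⟨x, hx⟩, Subgroup.mem_top _, rfl⟩

theorem isPMinimal_subgroup_iff (S : Sylow p G) (P : Subgroup G) (hSP : (S : Subgroup G) ≤ P) :
    IsPMinimal p ↥P ↔ ¬ (P ≤ Subgroup.normalizer ((S : Subgroup G) : Set G)) ∧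
      ∃ M : Subgroup G, PMinIn (S : Subgroup G) P M := by
  rw [isPMinimal_iff (S.subtype hSP), Sylow.coe_subtype,
    Subgroup.normal_subgroupOf_iff_le_normalizer hSP]
  refine and_congr Iff.rfl ?_
  constructor
  · rintro ⟨M', hM'top, hSM', hM'⟩
    refine ⟨M'.map P.subtype, Subgroup.map_subtype_le _, ?_, ?_, ?_⟩
    · intro h
      exact hM'top ((map_subtype_eq_self_iff P M').mp h)
    · intro s hs
      exact ⟨⟨s, hSP hs⟩, hSM' (Subgroup.mem_subgroupOf.mpr hs), rfl⟩
    · intro X hSX hXP hX
      have h1 : X.subgroupOf P ≤ M' := by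
        apply hM'
        · exact Subgroup.subgroupOf_mono _ hSX
        · intro htop
          rw [Subgroup.subgroupOf_eq_top] at htop
          exact hX (le_antisymm hXP htop)
      rw [← Subgroup.map_subgroupOf_eq_of_le hXP]
      exact Subgroup.map_mono h1
  · rintro ⟨M, hMP, hMne, hSM, hM⟩
    refine ⟨M.subgroupOf P, ?_, Subgroup.subgroupOf_mono _ hSM, ?_⟩
    · intro htop
      rw [Subgroup.subgroupOf_eq_top] at htop
      exact hMne (le_antisymm hMP htop)
    · intro X hSX hX
      have h1 : X.map P.subtype ≤ M := by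
        apply hM
        · intro s hs
          exact ⟨⟨s, hSP hs⟩, hSX (Subgroup.mem_subgroupOf.mpr hs), rfl⟩
        · exact Subgroup.map_subtype_le _
        · intro h
          exact hX ((map_subtype_eq_self_iff P X).mp h)
      intro x hx
      rw [Subgroup.mem_subgroupOf]
      exact h1 ⟨x, hx, rfl⟩

end ambient

section mcbride

variable {G : Type*} [Group G] [Finite G] {p : ℕ} [Fact p.Prime]

omit [Finite G] [Fact p.Prime] in
theorem pElementClosure_le (H : Subgroup G) : pElementClosure p H ≤ H := by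
  rw [pElementClosure, Subgroup.closure_le]
  intro x hx
  exact hx.1

omit [Finite G] [Fact p.Prime] in
theorem pElementClosure_mono {H K : Subgroup G} (h : H ≤ K) : pElementClosure p H ≤ pElementClosure p K := by
  apply Subgroup.closure_mono
  intro x hx
  exact ⟨h hx.1, hx.2⟩

theorem le_pElementClosure_of_isPGroup {Q H : Subgroup G} (hQ : IsPGroup p ↥Q) (hQH : Q ≤ H) :
    Q ≤ pElementClosure p H := by
  intro x hx
  apply Subgroup.subset_closure
  refine ⟨hQH hx, ?_⟩
  obtain ⟨k, hk⟩ := hQ ⟨x, hx⟩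
  have hk' : x ^ (p ^ k) = 1 := by
    have := congrArg Subtype.val hk
    simpa using this
  obtain ⟨j, -, hj⟩ := (Nat.dvd_prime_pow Fact.out).mp (orderOf_dvd_of_pow_eq_one hk')
  exact ⟨j, hj⟩

omit [Fact p.Prime] in
theorem le_normalizer_pElementClosure (H : Subgroup G) :
    H ≤ Subgroup.normalizer (pElementClosure p H : Set G) := by
  intro h hh
  apply mem_normalizer_of_conj_mem
  intro r hr
  have key : ∀ r ∈ pElementClosure p H, h * r * h⁻¹ ∈ pElementClosure p H := by
    intro r hr
    induction hr using Subgroup.closure_induction with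
    | mem x hx =>
      apply Subgroup.subset_closure
      refine ⟨H.mul_mem (H.mul_mem hh hx.1) (H.inv_mem hh), ?_⟩
      obtain ⟨k, hk⟩ := hx.2
      exact ⟨k, by rw [orderOf_conj, hk]⟩
    | one => simp
    | mul x y _ _ hx hy =>
      have e : h * (x * y) * h⁻¹ = (h * x * h⁻¹) * (h * y * h⁻¹) := by group
      rw [e]; exact Subgroup.mul_mem _ hx hy
    | inv x _ hx =>
      have e : h * x⁻¹ * h⁻¹ = (h * x * h⁻¹)⁻¹ := by group
      rw [e]; exact Subgroup.inv_mem _ hx
  exact key r hr

/-- a `p`-minimal subgroup containing `S` is generated by its `p`-elements -/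
theorem pElementClosure_eq_of_isPMinimal (S : Sylow p G) (P : Subgroup G) (hSP : (S : Subgroup G) ≤ P)
    (hP : IsPMinimal p ↥P) : pElementClosure p P = P := by
  obtain ⟨hn, M, hMP, hMne, hSM, hM⟩ := (isPMinimal_subgroup_iff S P hSP).mp hP
  by_contra hne
  have hSR : (S : Subgroup G) ≤ pElementClosure p P := le_pElementClosure_of_isPGroup S.2 hSP
  have hRM : pElementClosure p P ≤ M := hM _ hSR (pElementClosure_le P) hne
  have hNM : P ⊓ Subgroup.normalizer ((S : Subgroup G) : Set G) ≤ M := by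
    apply hM _ (le_inf hSP Subgroup.le_normalizer) inf_le_left
    intro h
    exact hn (h ▸ inf_le_right)
  have hfr := (IsSylowIn.of_sylow_le S hSR).frattini (pElementClosure_le P) (le_normalizer_pElementClosure P)
  exact hMne (le_antisymm hMP (hfr.trans (sup_le hNM hRM)))

omit [Finite G] in
theorem map_conj_map_conj_inv (X : Subgroup G) (n : G) :
    (X.map (MulAut.conj n).toMonoidHom).map (MulAut.conj n⁻¹).toMonoidHom = X := by
  ext x
  rw [mem_map_conj, mem_map_conj]
  have e : n⁻¹ * (n⁻¹⁻¹ * x * n⁻¹) * n = x := by group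
  rw [e]

omit [Finite G] in
theorem map_conj_inv_map_conj' (X : Subgroup G) (n : G) :
    (X.map (MulAut.conj n⁻¹).toMonoidHom).map (MulAut.conj n).toMonoidHom = X := by
  have := map_conj_map_conj_inv X n⁻¹
  rwa [inv_inv] at this

omit [Finite G] in
theorem PMinIn.map_conj {S P M : Subgroup G} (h : PMinIn S P M) (n : G) :
    PMinIn (S.map (MulAut.conj n).toMonoidHom) (P.map (MulAut.conj n).toMonoidHom)
      (M.map (MulAut.conj n).toMonoidHom) := by
  obtain ⟨hMP, hMne, hSM, hM⟩ := h
  refine ⟨Subgroup.map_mono hMP, ?_, Subgroup.map_mono hSM, ?_⟩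
  · intro heq
    apply hMne
    have := congrArg (fun X => X.map (MulAut.conj n⁻¹).toMonoidHom) heq
    simp only [map_conj_map_conj_inv] at this
    exact this
  · intro X hSX hXP hX
    have h1 : X.map (MulAut.conj n⁻¹).toMonoidHom ≤ M := by
      apply hM
      · have := Subgroup.map_mono (f := (MulAut.conj n⁻¹).toMonoidHom) hSX
        rwa [map_conj_map_conj_inv] at this
      · have := Subgroup.map_mono (f := (MulAut.conj n⁻¹).toMonoidHom) hXP
        rwa [map_conj_map_conj_inv] at this
      · intro heq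
        apply hX
        have := congrArg (fun X => X.map (MulAut.conj n).toMonoidHom) heq
        simp only [map_conj_inv_map_conj'] at this
        exact this
    have := Subgroup.map_mono (f := (MulAut.conj n).toMonoidHom) h1
    rwa [map_conj_inv_map_conj'] at this

/-- the subgroup generated by `S` and the `p`-minimal subgroups containing `S` -/
def mcbrideL (S : Sylow p G) : Subgroup G :=
  (S : Subgroup G) ⊔ ⨆ P : {P : Subgroup G // (S : Subgroup G) ≤ P ∧ IsPMinimal p ↥P}, (P : Subgroup G)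

theorem map_conj_eq_self_of_mem_normalizer (S : Subgroup G) {n : G}
    (hn : n ∈ Subgroup.normalizer (S : Set G)) : S.map (MulAut.conj n).toMonoidHom = S := by
  apply map_conj_eq_of_le
  rintro _ ⟨s, hs, rfl⟩
  exact (Subgroup.mem_normalizer_iff.mp hn s).mp hs

theorem isPMinimal_map_conj (S : Sylow p G) {n : G}
    (hn : n ∈ Subgroup.normalizer ((S : Subgroup G) : Set G)) (P : Subgroup G) (hSP : (S : Subgroup G) ≤ P)
    (hP : IsPMinimal p ↥P) :
    (S : Subgroup G) ≤ P.map (MulAut.conj n).toMonoidHom ∧ IsPMinimal p ↥(P.map (MulAut.conj n).toMonoidHom) := by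
  have hS := map_conj_eq_self_of_mem_normalizer (S : Subgroup G) hn
  have hSP' : (S : Subgroup G) ≤ P.map (MulAut.conj n).toMonoidHom := by
    have := Subgroup.map_mono (f := (MulAut.conj n).toMonoidHom) hSP
    rwa [hS] at this
  refine ⟨hSP', ?_⟩
  obtain ⟨hnn, M, hM⟩ := (isPMinimal_subgroup_iff S P hSP).mp hP
  rw [isPMinimal_subgroup_iff S _ hSP']
  refine ⟨?_, M.map (MulAut.conj n).toMonoidHom, ?_⟩
  · intro hle
    apply hnn
    have h1 := Subgroup.map_mono (f := (MulAut.conj n⁻¹).toMonoidHom) hle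
    rw [map_conj_map_conj_inv] at h1
    refine h1.trans ?_
    rintro _ ⟨y, hy, rfl⟩
    exact Subgroup.mul_mem _ (Subgroup.mul_mem _ (Subgroup.inv_mem _ hn) hy) (by simpa using hn)
  · have := hM.map_conj n
    rwa [hS] at this

theorem normalizer_le_normalizer_mcbrideL (S : Sylow p G) :
    Subgroup.normalizer ((S : Subgroup G) : Set G) ≤ Subgroup.normalizer (mcbrideL S : Set G) := by
  intro n hn
  apply mem_normalizer_of_conj_mem
  have hle : (mcbrideL S).map (MulAut.conj n).toMonoidHom ≤ mcbrideL S := by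
    rw [mcbrideL, Subgroup.map_sup, Subgroup.map_iSup]
    apply sup_le
    · rw [map_conj_eq_self_of_mem_normalizer _ hn]; exact le_sup_left
    · apply iSup_le
      rintro ⟨P, hSP, hP⟩
      obtain ⟨h1, h2⟩ := isPMinimal_map_conj S hn P hSP hP
      exact le_trans (le_iSup (fun P : {P : Subgroup G // (S : Subgroup G) ≤ P ∧ IsPMinimal p ↥P} =>
        (P : Subgroup G)) ⟨_, h1, h2⟩) le_sup_right
  intro r hr
  exact hle ⟨r, hr, rfl⟩

theorem le_mcbrideL_sup_normalizer (S : Sylow p G) : ∀ (n : ℕ) (H : Subgroup G), Nat.card ↥H = n →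
    (S : Subgroup G) ≤ H → H ≤ mcbrideL S ⊔ Subgroup.normalizer ((S : Subgroup G) : Set G) := by
  intro n
  induction n using Nat.strong_induction_on with
  | _ n ih =>
    intro H hn hSH
    by_cases h1 : H ≤ Subgroup.normalizer ((S : Subgroup G) : Set G)
    · exact h1.trans le_sup_right
    by_cases h2 : ∃ M : Subgroup G, PMinIn (S : Subgroup G) H M
    · have hP : IsPMinimal p ↥H := (isPMinimal_subgroup_iff S H hSH).mpr ⟨h1, h2⟩
      refine le_trans ?_ le_sup_left
      exact le_trans (le_iSup (fun P : {P : Subgroup G // (S : Subgroup G) ≤ P ∧ IsPMinimal p ↥P} =>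
        (P : Subgroup G)) ⟨H, hSH, hP⟩) le_sup_right
    · -- `H` is generated by its proper subgroups containing `S`
      set J : Subgroup G := ⨆ X : {X : Subgroup G // (S : Subgroup G) ≤ X ∧ X ≤ H ∧ X ≠ H}, (X : Subgroup G)
        with hJ
      have hJH : J ≤ H := iSup_le (fun X => X.2.2.1)
      have hJeq : J = H := by
        by_contra hne
        apply h2
        refine ⟨J, hJH, hne, ?_, ?_⟩
        · have hSne : (S : Subgroup G) ≠ H := by
            intro h
            apply h1
            rw [← h]; exact Subgroup.le_normalizer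
          exact le_iSup (fun X : {X : Subgroup G // (S : Subgroup G) ≤ X ∧ X ≤ H ∧ X ≠ H} =>
            (X : Subgroup G)) ⟨(S : Subgroup G), le_rfl, hSH, hSne⟩
        · intro X hSX hXH hX
          exact le_iSup (fun X : {X : Subgroup G // (S : Subgroup G) ≤ X ∧ X ≤ H ∧ X ≠ H} =>
            (X : Subgroup G)) ⟨X, hSX, hXH, hX⟩
      rw [← hJeq]
      apply iSup_le
      rintro ⟨X, hSX, hXH, hX⟩
      have hlt : Nat.card ↥X < n := by
        rw [← hn]
        by_contra hge
        push Not at hge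
        exact hX (Subgroup.eq_of_le_of_card_ge hXH hge)
      exact ih _ hlt X rfl hSX

theorem mcbride_main (S : Sylow p G) :
    mcbrideL S = pElementClosure p (⊤ : Subgroup G) ∧
    (∀ g : G, ∃ x ∈ pElementClosure p (⊤ : Subgroup G),
      ∃ y ∈ Subgroup.normalizer ((S : Subgroup G) : Set G), g = x * y) := by
  have hSO : (S : Subgroup G) ≤ pElementClosure p (⊤ : Subgroup G) :=
    le_pElementClosure_of_isPGroup S.2 le_top
  have hLO : mcbrideL S ≤ pElementClosure p (⊤ : Subgroup G) := by
    apply sup_le hSO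
    apply iSup_le
    rintro ⟨P, hSP, hP⟩
    show P ≤ _
    rw [← pElementClosure_eq_of_isPMinimal S P hSP hP]
    exact pElementClosure_mono le_top
  have hOn : (pElementClosure p (⊤ : Subgroup G)).Normal :=
    Subgroup.normalizer_eq_top_iff.mp (top_le_iff.mp (le_normalizer_pElementClosure ⊤))
  have hLn : (mcbrideL S).Normal := by
    apply Subgroup.normalizer_eq_top_iff.mp
    rw [eq_top_iff]
    refine (le_mcbrideL_sup_normalizer S _ ⊤ rfl le_top).trans ?_
    exact sup_le Subgroup.le_normalizer (normalizer_le_normalizer_mcbrideL S)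
  refine ⟨le_antisymm hLO ?_, ?_⟩
  · rw [pElementClosure, Subgroup.closure_le]
    rintro x ⟨-, k, hk⟩
    have hxp : IsPGroup p ↥(Subgroup.zpowers x) := IsPGroup.of_card (n := k) (by rw [Nat.card_zpowers, hk])
    obtain ⟨S', hS'⟩ := hxp.exists_le_sylow
    obtain ⟨g, rfl⟩ := MulAction.exists_smul_eq G S S'
    have hx : x ∈ ((g • S : Sylow p G) : Subgroup G) := hS' (Subgroup.mem_zpowers x)
    rw [Sylow.coe_subgroup_smul, Subgroup.mem_pointwise_smul_iff_inv_smul_mem] at hx
    have hx' : g⁻¹ * x * g ∈ (S : Subgroup G) := by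
      simpa [MulAut.smul_def, MulAut.conj_inv_apply] using hx
    have hxL : g⁻¹ * x * g ∈ mcbrideL S := (le_sup_left : (S : Subgroup G) ≤ mcbrideL S) hx'
    have := hLn.conj_mem _ hxL g
    have e : g * (g⁻¹ * x * g) * g⁻¹ = x := by group
    rw [e] at this
    exact this
  · intro g
    have hfr := (IsSylowIn.of_sylow_le S hSO).frattini (K := ⊤) le_top (le_normalizer_pElementClosure ⊤)
    have hg : g ∈ pElementClosure p (⊤ : Subgroup G) ⊔ (⊤ ⊓ Subgroup.normalizer ((S : Subgroup G) : Set G)) := by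
      rw [sup_comm]; exact hfr (Subgroup.mem_top g)
    haveI := hOn
    rw [← SetLike.mem_coe, Subgroup.normal_mul, Set.mem_mul] at hg
    obtain ⟨x, hx, y, hy, rfl⟩ := hg
    exact ⟨x, hx, y, hy.2, rfl⟩

end mcbride

end Cfsg.Agent.Lib.Helper7
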