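import Mathlib
import Cfsg.Prelude.Def_LocalEven
import Cfsg.Prelude.Def_Transfer
import Cfsg.Agent.Lib.Lead.Conj
import Cfsg.Agent.Lib.Lead.Subnormal
import Cfsg.Agent.Lib.Lead.PResidual
import Cfsg.Agent.Lib.Helper7.PMinimal
import Cfsg.Agent.Lib.Helper7.PIrreducible
import Cfsg.Agent.S0023

set_option autoImplicit false

namespace Cfsg.Agent.Lib.Helper7

open Cfsg Cfsg.Agent.Lib.Lead.Conj
open scoped Pointwise

section pmin

variable {P : Type*} [Group P] [Finite P] {p : ℕ} [Fact p.Prime]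

theorem pMinAt_of_isCoatom (hP : IsPMinimal p P) (S : Sylow p P) (M : Subgroup P) (hM : IsCoatom M)
    (hSM : (S : Subgroup P) ≤ M) : PMinAt (S : Subgroup P) M := by
  obtain ⟨-, M₀, hM₀⟩ := (isPMinimal_iff S).mp hP
  obtain ⟨M₁, -, huniq⟩ := hM₀.existsUnique
  have h1 := huniq M ⟨hM, hSM⟩
  have h2 := huniq M₀ ⟨hM₀.isCoatom, hM₀.2.1⟩
  rw [h1, ← h2]; exact hM₀

variable (S : Sylow p P) (M : Subgroup P) (hSM : PMinAt (S : Subgroup P) M)

include hSM in
theorem PMinAt.pResidual_not_le : ¬ pResidual p P ≤ M := by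
  intro h
  apply hSM.1
  rw [eq_top_iff, ← Cfsg.Agent.Lib.Lead.PResidual.sup_eq_top (S : Subgroup P) S.not_dvd_index]
  exact sup_le hSM.2.1 h

include hSM in
theorem PMinAt.pResidual_le_or_le (N : Subgroup P) (hN : N.Normal) :
    pResidual p P ≤ N ∨ N ≤ M.normalCore := by
  by_cases h : N ≤ M
  · exact Or.inr (Subgroup.normal_le_normalCore.mpr h)
  · left
    haveI := hN
    apply pResidual_le_of_sup_eq_top S.2 N
    by_contra hne
    exact h (le_sup_right.trans (hSM.2.2 _ le_sup_left hne))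

include hSM in
/-- the core of `M` has a normal Sylow `p`-subgroup, contained in `O_p(P)` -/
theorem PMinAt.normalCore_inf_le_pCore : M.normalCore ⊓ (S : Subgroup P) ≤ pCore p P := by
  haveI hFn : M.normalCore.Normal := Subgroup.normalCore_normal M
  have hQ : IsSylowIn p ((S : Subgroup P) ⊓ M.normalCore) M.normalCore :=
    (IsSylowIn.of_sylow_top S).inf_normal M.normalCore le_top
      (by rw [Subgroup.normalizer_eq_top_iff.mpr hFn])
  have hfr := hQ.frattini (K := ⊤) le_top (by rw [Subgroup.normalizer_eq_top_iff.mpr hFn])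
  have hSle : (S : Subgroup P) ≤ Subgroup.normalizer (((S : Subgroup P) ⊓ M.normalCore : Subgroup P) : Set P) := by
    intro s hs
    apply mem_normalizer_of_conj_mem
    rintro r ⟨hr1, hr2⟩
    exact ⟨Subgroup.mul_mem _ (Subgroup.mul_mem _ hs hr1) (Subgroup.inv_mem _ hs), hFn.conj_mem r hr2 s⟩
  have hNtop : Subgroup.normalizer (((S : Subgroup P) ⊓ M.normalCore : Subgroup P) : Set P) = ⊤ := by
    by_contra hne
    have h1 := hSM.2.2 _ hSle hne
    apply hSM.1
    rw [eq_top_iff]
    refine hfr.trans (sup_le (inf_le_right.trans h1) (Subgroup.normalCore_le M))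
  rw [inf_comm]
  exact le_pCore (Subgroup.normalizer_eq_top_iff.mp hNtop) (S.2.to_inf_left)

end pmin

section conjClosure

variable {P : Type*} [Group P]

/-- the subgroup generated by the `Y`-conjugates of `X` -/
def conjClosure (X Y : Subgroup P) : Subgroup P :=
  ⨆ y : ↥Y, X.map (MulAut.conj (y : P)).toMonoidHom

theorem le_conjClosure (X Y : Subgroup P) : X ≤ conjClosure X Y := by
  refine le_trans ?_ (le_iSup (fun y : ↥Y => X.map (MulAut.conj (y : P)).toMonoidHom) 1)
  intro x hx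
  exact ⟨x, hx, by simp⟩

theorem conjClosure_le {X Y Z : Subgroup P} (hXZ : X ≤ Z) (hYZ : Y ≤ Subgroup.normalizer (Z : Set P)) :
    conjClosure X Y ≤ Z := by
  apply iSup_le
  rintro ⟨y, hy⟩ _ ⟨x, hx, rfl⟩
  exact (Subgroup.mem_normalizer_iff.mp (hYZ hy) x).mp (hXZ hx)

theorem conj_mem_conjClosure {X Y : Subgroup P} {g : P}
    (hgX : ∀ x ∈ X, g * x * g⁻¹ ∈ X) (hgY : ∀ y ∈ Y, g * y * g⁻¹ ∈ Y) :
    ∀ r ∈ conjClosure X Y, g * r * g⁻¹ ∈ conjClosure X Y := by
  intro r hr
  have hle : (conjClosure X Y).map (MulAut.conj g).toMonoidHom ≤ conjClosure X Y := by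
    rw [conjClosure, Subgroup.map_iSup]
    apply iSup_le
    rintro ⟨y, hy⟩ _ ⟨_, ⟨x, hx, rfl⟩, rfl⟩
    have h1 : g * x * g⁻¹ ∈ X := hgX x hx
    have h2 : g * y * g⁻¹ ∈ Y := hgY y hy
    refine (le_iSup (fun y : ↥Y => X.map (MulAut.conj (y : P)).toMonoidHom) ⟨_, h2⟩) ?_
    refine ⟨g * x * g⁻¹, h1, ?_⟩
    simp only [MulEquiv.coe_toMonoidHom, MulAut.conj_apply]
    group
  exact hle ⟨r, hr, rfl⟩

theorem le_normalizer_conjClosure [Finite P] (X Y : Subgroup P) :
    Y ≤ Subgroup.normalizer (conjClosure X Y : Set P) := by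
  intro g hg
  apply Cfsg.Agent.Lib.Lead.Conj.mem_normalizer_of_conj_mem
  intro r hr
  have hle : (conjClosure X Y).map (MulAut.conj g).toMonoidHom ≤ conjClosure X Y := by
    rw [conjClosure, Subgroup.map_iSup]
    apply iSup_le
    rintro ⟨y, hy⟩ _ ⟨_, ⟨x, hx, rfl⟩, rfl⟩
    refine (le_iSup (fun y : ↥Y => X.map (MulAut.conj (y : P)).toMonoidHom) ⟨g * y, Y.mul_mem hg hy⟩) ?_
    refine ⟨x, hx, ?_⟩
    simp only [MulEquiv.coe_toMonoidHom, MulAut.conj_apply]
    group
  exact hle ⟨r, hr, rfl⟩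

end conjClosure

section pmin2

variable {P : Type*} [Group P] [Finite P] {p : ℕ} [Fact p.Prime]
  (S : Sylow p P) (M : Subgroup P) (hSM : PMinAt (S : Subgroup P) M)

include hSM in
theorem PMinAt.subnormal_aux : ∀ (n : ℕ) (Y X : Subgroup P), Nat.card ↥Y - Nat.card ↥X = n → Y.Normal →
    pResidual p P ≤ Y → X ≤ Y → X.IsSubnormal → (S : Subgroup P) ≤ Subgroup.normalizer (X : Set P) →
    (pResidual p P ≤ X ∨ X ⊓ (S : Subgroup P) ≤ pCore p P) := by
  intro n
  induction n using Nat.strong_induction_on with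
  | _ n ih =>
    intro Y X hn hYn hOY hXY hX hSX
    by_cases hne : X = Y
    · left; rw [hne]; exact hOY
    have hsub : (X.subgroupOf Y).IsSubnormal := hX.subgroupOf
    have hnetop : X.subgroupOf Y ≠ ⊤ := by
      intro h
      rw [Subgroup.subgroupOf_eq_top] at h
      exact hne (le_antisymm hXY h)
    obtain ⟨K', hK'n, hXK', hK'lt⟩ := hsub.exists_normal_and_le_and_lt_top_of_ne hnetop
    have hX₁K : conjClosure X Y ≤ K'.map Y.subtype := by
      apply conjClosure_le
      · intro x hx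
        exact ⟨⟨x, hXY hx⟩, hXK' (Subgroup.mem_subgroupOf.mpr hx), rfl⟩
      · intro y hy
        apply mem_normalizer_of_conj_mem
        rintro _ ⟨k, hk, rfl⟩
        exact ⟨⟨y, hy⟩ * k * ⟨y, hy⟩⁻¹, hK'n.conj_mem k hk ⟨y, hy⟩, rfl⟩
    have hX₁Y : conjClosure X Y ≤ Y := hX₁K.trans (Subgroup.map_subtype_le _)
    have hX₁ne : conjClosure X Y ≠ Y := by
      intro h
      have h2 : K'.map Y.subtype = Y := le_antisymm (Subgroup.map_subtype_le _) ((le_of_eq h.symm).trans hX₁K)
      exact hK'lt.ne ((map_subtype_eq_self_iff Y K').mp h2)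
    have hSX₁ : (S : Subgroup P) ≤ Subgroup.normalizer (conjClosure X Y : Set P) := by
      intro s hs
      apply mem_normalizer_of_conj_mem
      apply conj_mem_conjClosure
      · intro x hx
        exact (Subgroup.mem_normalizer_iff.mp (hSX hs) x).mp hx
      · intro y hy
        exact hYn.conj_mem y hy s
    have hX₁n : (conjClosure X Y).Normal := by
      apply Subgroup.normalizer_eq_top_iff.mp
      rw [eq_top_iff, ← Cfsg.Agent.Lib.Lead.PResidual.sup_eq_top (S : Subgroup P) S.not_dvd_index]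
      exact sup_le hSX₁ (hOY.trans (le_normalizer_conjClosure X Y))
    rcases hSM.pResidual_le_or_le S M _ hX₁n with h1 | h1
    · have hlt : Nat.card ↥(conjClosure X Y) - Nat.card ↥X < n := by
        have h3 : Nat.card ↥(conjClosure X Y) < Nat.card ↥Y := by
          by_contra hge
          push Not at hge
          exact hX₁ne (Subgroup.eq_of_le_of_card_ge hX₁Y hge)
        have h4 : Nat.card ↥X ≤ Nat.card ↥(conjClosure X Y) :=
          Subgroup.card_le_of_le (le_conjClosure X Y)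
        omega
      exact ih _ hlt (conjClosure X Y) X rfl hX₁n h1 (le_conjClosure X Y) hX hSX
    · right
      exact (inf_le_inf_right _ ((le_conjClosure X Y).trans h1)).trans (hSM.normalCore_inf_le_pCore S M)

include hSM in
/-- subnormal subgroups inside `M` meet `S` inside `O_p(P)` -/
theorem PMinAt.subnormal_inf_le_pCore (N : Subgroup P) (hN : N.IsSubnormal) (hNM : N ≤ M) :
    N ⊓ (S : Subgroup P) ≤ pCore p P := by
  -- the join of the `S`-conjugates of `N`
  set X : Subgroup P := ⨆ s : ↥(S : Subgroup P), N.map (MulAut.conj (s : P)).toMonoidHom with hX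
  have hXsub : X.IsSubnormal := by
    rw [hX, ← sSup_range]
    apply Cfsg.Agent.Lib.Lead.Subnormal.sSup_isSubnormal
    rintro U ⟨s, rfl⟩
    exact hN.map (f := (MulAut.conj (s : P)).toMonoidHom) (MulAut.conj (s : P)).surjective
  have hNX : N ≤ X := by
    refine le_trans ?_ (le_iSup (fun s : ↥(S : Subgroup P) => N.map (MulAut.conj (s : P)).toMonoidHom) 1)
    intro x hx
    exact ⟨x, hx, by simp⟩
  have hXM : X ≤ M := by
    apply iSup_le
    rintro ⟨s, hs⟩ _ ⟨x, hx, rfl⟩
    exact M.mul_mem (M.mul_mem (hSM.2.1 hs) (hNM hx)) (M.inv_mem (hSM.2.1 hs))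
  have hSX : (S : Subgroup P) ≤ Subgroup.normalizer (X : Set P) := by
    intro t ht
    apply mem_normalizer_of_conj_mem
    have hle : X.map (MulAut.conj t).toMonoidHom ≤ X := by
      rw [hX, Subgroup.map_iSup]
      apply iSup_le
      rintro ⟨s, hs⟩ _ ⟨_, ⟨x, hx, rfl⟩, rfl⟩
      refine (le_iSup (fun s : ↥(S : Subgroup P) => N.map (MulAut.conj (s : P)).toMonoidHom)
        ⟨t * s, Subgroup.mul_mem _ ht hs⟩) ?_
      refine ⟨x, hx, ?_⟩
      simp only [MulEquiv.coe_toMonoidHom, MulAut.conj_apply]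
      group
    intro r hr
    exact hle ⟨r, hr, rfl⟩
  rcases hSM.subnormal_aux S M _ ⊤ X rfl inferInstance le_top le_top hXsub hSX with h | h
  · exact absurd (h.trans hXM) (hSM.pResidual_not_le S M)
  · exact (inf_le_inf_right _ hNX).trans h

end pmin2

section cardsup

theorem card_sup_dvd_of_le_normalizer {G : Type*} [Group G] [Finite G] (H K : Subgroup G)
    (h : H ≤ Subgroup.normalizer (K : Set G)) : Nat.card ↥(H ⊔ K) ∣ Nat.card ↥H * Nat.card ↥K := by
  haveI : (K.subgroupOf (Subgroup.normalizer (K : Set G))).Normal :=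
    (Subgroup.normal_subgroupOf_iff_le_normalizer Subgroup.le_normalizer).mpr le_rfl
  have h1 := Cfsg.Agent.Lib.Lead.PiCore.card_sup_dvd (H.subgroupOf (Subgroup.normalizer (K : Set G)))
    (K.subgroupOf (Subgroup.normalizer (K : Set G)))
  rw [← Subgroup.subgroupOf_sup h Subgroup.le_normalizer, card_subgroupOf_of_le h,
    card_subgroupOf_of_le Subgroup.le_normalizer,
    card_subgroupOf_of_le (sup_le h Subgroup.le_normalizer)] at h1
  exact h1

end cardsup

section pmin3

variable {P : Type*} [Group P] [Finite P] {p : ℕ} [Fact p.Prime]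
  (S : Sylow p P) (M : Subgroup P) (hSM : PMinAt (S : Subgroup P) M)

include hSM in
theorem PMinAt.card_primeFactors_le_two
    (hcl : ∀ T : Sylow p ↥(pResidual p P), (T : Subgroup ↥(pResidual p P)).Normal) :
    (Nat.card P).primeFactors.card ≤ 2 := by
  have hp : p.Prime := Fact.out
  haveI hOn : (pResidual p P).Normal := Cfsg.Agent.Lib.Lead.PResidual.normal p P
  -- the normal Sylow subgroup of `O^p(P)`
  have hT₀ : IsSylowIn p ((S : Subgroup P) ⊓ pResidual p P) (pResidual p P) :=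
    (IsSylowIn.of_sylow_top S).inf_normal _ le_top (by rw [Subgroup.normalizer_eq_top_iff.mpr hOn])
  obtain ⟨R, hR⟩ := hT₀.exists_sylow
  haveI hRchar : (R : Subgroup ↥(pResidual p P)).Characteristic := Sylow.characteristic_of_normal R (hcl R)
  haveI hT₀n : ((S : Subgroup P) ⊓ pResidual p P).Normal := by
    have h1 : ((R : Subgroup ↥(pResidual p P)).map (pResidual p P).subtype).Normal :=
      ConjAct.normal_of_characteristic_of_normal
    rw [hR, Subgroup.map_subgroupOf_eq_of_le inf_le_right] at h1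
    exact h1
  -- `p`-elements of `O^p(P)` lie in `T₀`
  have hpel : ∀ u ∈ pResidual p P, ∀ k : ℕ, u ^ (p ^ k) = 1 → u ∈ (S : Subgroup P) ⊓ pResidual p P := by
    intro u hu k hk
    have hup : IsPGroup p ↥(Subgroup.zpowers (⟨u, hu⟩ : ↥(pResidual p P))) := by
      obtain ⟨j, -, hj⟩ := (Nat.dvd_prime_pow hp).mp
        (orderOf_dvd_of_pow_eq_one (x := (⟨u, hu⟩ : ↥(pResidual p P))) (n := p ^ k)
          (Subtype.ext (by simpa using hk)))
      exact IsPGroup.of_card (n := j) (by rw [Nat.card_zpowers, hj])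
    obtain ⟨R', hR'⟩ := hup.exists_le_sylow
    obtain ⟨g, rfl⟩ := MulAction.exists_smul_eq ↥(pResidual p P) R R'
    haveI : ((R : Sylow p ↥(pResidual p P)) : Subgroup ↥(pResidual p P)).Normal := hcl R
    rw [Sylow.smul_eq_of_normal] at hR'
    have h1 : (⟨u, hu⟩ : ↥(pResidual p P)) ∈ (R : Subgroup ↥(pResidual p P)) :=
      hR' (Subgroup.mem_zpowers _)
    rw [hR, Subgroup.mem_subgroupOf] at h1
    exact h1
  set T₀ : Subgroup P := (S : Subgroup P) ⊓ pResidual p P with hT₀def
  have hker : (QuotientGroup.mk' T₀).ker = T₀ := QuotientGroup.ker_mk' T₀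
  have hsurj : Function.Surjective (QuotientGroup.mk' T₀) := QuotientGroup.mk'_surjective T₀
  set Ob : Subgroup (P ⧸ T₀) := (pResidual p P).map (QuotientGroup.mk' T₀) with hOb
  set Sb : Subgroup (P ⧸ T₀) := (S : Subgroup P).map (QuotientGroup.mk' T₀) with hSb
  set Mb : Subgroup (P ⧸ T₀) := M.map (QuotientGroup.mk' T₀) with hMb
  haveI hObn : Ob.Normal := Subgroup.Normal.map hOn _ hsurj
  have hSbp : IsPGroup p ↥Sb := S.2.map _
  -- `|Ob|` is prime to `p`
  have hObcop : (Nat.card ↥Ob).Coprime p := by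
    rw [Nat.coprime_comm, Nat.Prime.coprime_iff_not_dvd hp]
    intro hdvd
    obtain ⟨ub, hub⟩ := exists_prime_orderOf_dvd_card' p hdvd
    obtain ⟨u, hu, hue⟩ := ub.2
    have h1 : (ub : P ⧸ T₀) ^ p = 1 := by
      have := pow_orderOf_eq_one ub
      rw [hub] at this
      exact congrArg Subtype.val this
    rw [← hue, ← map_pow] at h1
    have h2 : u ^ p ∈ T₀ := by rw [← hker]; exact h1
    obtain ⟨j, hj⟩ := (S.2.to_inf_left (K := pResidual p P)) ⟨u ^ p, h2⟩
    have hj' : (u ^ p) ^ (p ^ j) = 1 := by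
      have := congrArg Subtype.val hj
      simpa using this
    have h3 : u ∈ T₀ := hpel u hu (j + 1) (by rw [pow_succ', pow_mul]; exact hj')
    have h4 : (QuotientGroup.mk' T₀) u = 1 := by rw [← MonoidHom.mem_ker, hker]; exact h3
    have h5 : ub = 1 := Subtype.ext (by rw [← hue, h4]; rfl)
    rw [h5, orderOf_one] at hub
    exact hp.one_lt.ne hub
  -- `Ob ≰ Mb`
  have hT₀M : T₀ ≤ M := inf_le_left.trans hSM.2.1
  have hObM : ¬ Ob ≤ Mb := by
    intro hle
    apply hSM.pResidual_not_le S M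
    have h1 := Subgroup.comap_mono (f := QuotientGroup.mk' T₀) hle
    rw [hOb, hMb, Subgroup.comap_map_eq, Subgroup.comap_map_eq, hker, sup_eq_left.mpr hT₀M] at h1
    exact le_sup_left.trans h1
  -- a prime `q` at which `Ob ⊓ Mb` is too small
  obtain ⟨q, hq⟩ : ∃ q : ℕ, (Nat.card ↥(Ob ⊓ Mb)).factorization q < (Nat.card ↥Ob).factorization q := by
    by_contra hcon
    push Not at hcon
    have hdvd : Nat.card ↥(Ob ⊓ Mb) ∣ Nat.card ↥Ob := Subgroup.card_dvd_of_le inf_le_left
    have hle := (Nat.factorization_le_iff_dvd Nat.card_pos.ne' Nat.card_pos.ne').mpr hdvd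
    have heq : Nat.card ↥(Ob ⊓ Mb) = Nat.card ↥Ob := by
      apply Nat.eq_of_factorization_eq Nat.card_pos.ne' Nat.card_pos.ne'
      intro r
      exact le_antisymm (hle r) (hcon r)
    apply hObM
    have := Subgroup.eq_of_le_of_card_ge (inf_le_left : Ob ⊓ Mb ≤ Ob) (le_of_eq heq.symm)
    rw [← this]; exact inf_le_right
  have hqprime : q.Prime := by
    by_contra hnp
    rw [Nat.factorization_eq_zero_of_not_prime (Nat.card ↥Ob) hnp] at hq
    exact Nat.not_lt_zero _ hq
  haveI : Fact q.Prime := ⟨hqprime⟩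
  -- an `Sb`-invariant Sylow `q`-subgroup of `Ob`
  have hAK : Sb ≤ Subgroup.normalizer (Ob : Set (P ⧸ T₀)) := by
    rw [Subgroup.normalizer_eq_top_iff.mpr hObn]; exact le_top
  have hcop : (Nat.card ↥Sb).Coprime (Nat.card ↥Ob) := by
    obtain ⟨b, hb⟩ := hSbp.exists_card_eq
    rw [hb]
    exact Nat.Coprime.pow_left _ hObcop.symm
  haveI : Group.IsNilpotent ↥Sb := hSbp.isNilpotent
  obtain ⟨Qb, hQb⟩ := Cfsg.Agent.S0023.result Sb Ob hAK hcop (Or.inl inferInstance) q
  set Qb' : Subgroup (P ⧸ T₀) := (Qb : Subgroup ↥Ob).map Ob.subtype with hQb'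
  have hQbcard : Nat.card ↥Qb' = q ^ (Nat.card ↥Ob).factorization q := by
    rw [hQb', Subgroup.card_map_of_injective Ob.subtype_injective]
    exact Qb.card_eq_multiplicity
  have hQbOb : Qb' ≤ Ob := Subgroup.map_subtype_le _
  have hQbM : ¬ Qb' ≤ Mb := by
    intro hle
    have h1 : Nat.card ↥Qb' ∣ Nat.card ↥(Ob ⊓ Mb) := Subgroup.card_dvd_of_le (le_inf hQbOb hle)
    rw [hQbcard] at h1
    have h2 := (hqprime.pow_dvd_iff_le_factorization Nat.card_pos.ne').mp h1
    omega
  -- the preimage of `Qb' Sb` is everything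
  have hXtop : (Qb' ⊔ Sb).comap (QuotientGroup.mk' T₀) = ⊤ := by
    by_contra hne
    have hSX : (S : Subgroup P) ≤ (Qb' ⊔ Sb).comap (QuotientGroup.mk' T₀) := by
      intro s hs
      rw [Subgroup.mem_comap]
      exact Subgroup.mem_sup_right ⟨s, hs, rfl⟩
    have h1 := hSM.2.2 _ hSX hne
    apply hQbM
    have h2 := Subgroup.map_mono (f := QuotientGroup.mk' T₀) h1
    rw [Subgroup.map_comap_eq_self_of_surjective hsurj] at h2
    exact le_sup_left.trans h2
  have hQStop : Qb' ⊔ Sb = ⊤ := by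
    have := congrArg (Subgroup.map (QuotientGroup.mk' T₀)) hXtop
    rw [Subgroup.map_comap_eq_self_of_surjective hsurj, Subgroup.map_top_of_surjective _ hsurj] at this
    exact this
  have hcardQ : Nat.card (P ⧸ T₀) ∣ q ^ (Nat.card ↥Ob).factorization q * Nat.card ↥Sb := by
    have h1 := card_sup_dvd_of_le_normalizer Sb Qb' hQb
    rw [sup_comm, hQStop, Subgroup.card_top, hQbcard, mul_comm] at h1
    exact h1
  obtain ⟨b, hb⟩ := hSbp.exists_card_eq
  obtain ⟨c, hc⟩ := (S.2.to_inf_left (K := pResidual p P)).exists_card_eq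
  have hcardP : Nat.card P ∣ q ^ (Nat.card ↥Ob).factorization q * p ^ b * p ^ c := by
    rw [Subgroup.card_eq_card_quotient_mul_card_subgroup T₀, hc, ← hb]
    exact Nat.mul_dvd_mul_right hcardQ _
  have hne0 : q ^ (Nat.card ↥Ob).factorization q * p ^ b * p ^ c ≠ 0 := by
    have h1 := pow_pos hqprime.pos ((Nat.card ↥Ob).factorization q)
    have h2 := pow_pos hp.pos b
    have h3 := pow_pos hp.pos c
    positivity
  have hsub : (Nat.card P).primeFactors ⊆ {q, p} := by
    intro r hr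
    have hrp := Nat.prime_of_mem_primeFactors hr
    have hrd := (Nat.dvd_of_mem_primeFactors hr).trans hcardP
    rw [Finset.mem_insert, Finset.mem_singleton]
    rcases (Nat.Prime.dvd_mul hrp).mp hrd with h1 | h1
    · rcases (Nat.Prime.dvd_mul hrp).mp h1 with h2 | h2
      · left; exact (Nat.prime_dvd_prime_iff_eq hrp hqprime).mp (hrp.dvd_of_dvd_pow h2)
      · right; exact (Nat.prime_dvd_prime_iff_eq hrp hp).mp (hrp.dvd_of_dvd_pow h2)
    · right; exact (Nat.prime_dvd_prime_iff_eq hrp hp).mp (hrp.dvd_of_dvd_pow h1)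
  calc (Nat.card P).primeFactors.card ≤ ({q, p} : Finset ℕ).card := Finset.card_le_card hsub
    _ ≤ 2 := Finset.card_le_two

end pmin3

theorem pMinimal_structure {P : Type*} [Group P] [Finite P] {p : ℕ} [Fact p.Prime] (hP : IsPMinimal p P)
    (S : Sylow p P) (M : Subgroup P) (hM : IsCoatom M) (hSM : (S : Subgroup P) ≤ M) :
    (∀ N : Subgroup P, N.IsSubnormal → N ≤ M → N ⊓ (S : Subgroup P) ≤ pCore p P) ∧
    ((∀ T : Sylow p ↥(pResidual p P), (T : Subgroup ↥(pResidual p P)).Normal) →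
      (Nat.card P).primeFactors.card ≤ 2) ∧
    (∀ N : Subgroup P, N.Normal → pResidual p P ≤ N ∨ N ≤ M.normalCore) ∧
    (∀ N : Subgroup P, N.Normal → M.normalCore ≤ N → N ≤ pResidual p P ⊔ M.normalCore →
      N = M.normalCore ∨ N = pResidual p P ⊔ M.normalCore) ∧
    M.normalCore < pResidual p P ⊔ M.normalCore := by
  have hat := pMinAt_of_isCoatom hP S M hM hSM
  refine ⟨hat.subnormal_inf_le_pCore S M, hat.card_primeFactors_le_two S M, hat.pResidual_le_or_le S M, ?_, ?_⟩
  · intro N hN hFN hNle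
    rcases hat.pResidual_le_or_le S M N hN with h | h
    · right; exact le_antisymm hNle (sup_le h hFN)
    · left; exact le_antisymm h hFN
  · refine lt_of_le_of_ne le_sup_right ?_
    intro heq
    apply hat.pResidual_not_le S M
    have : pResidual p P ≤ M.normalCore := by rw [heq]; exact le_sup_left
    exact this.trans (Subgroup.normalCore_le M)

end Cfsg.Agent.Lib.Helper7
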