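import Mathlib

set_option autoImplicit false

namespace Cfsg.Agent.Lib.Helper7.MaxClass

open Subgroup

universe u

/-- Facts on the centre of a nontrivial `p`-group of order `p ^ m`. -/
theorem center_card_cases {P : Type u} [Group P] [Finite P] (p : ℕ) [Fact p.Prime] {m : ℕ}
    (hm : 1 ≤ m) (hP : Nat.card P = p ^ m) :
    ∃ j, 1 ≤ j ∧ j ≤ m ∧ Nat.card (center P) = p ^ j ∧ Nat.card (P ⧸ center P) = p ^ (m - j) ∧
      m - j ≠ 1 := by
  have hp : p.Prime := Fact.out
  obtain ⟨j, hj0, hj⟩ := IsPGroup.card_center_eq_prime_pow hP (by omega : 0 < m)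
  have hjm : j ≤ m := by
    have h1 : Nat.card (center P) ∣ Nat.card P := Subgroup.card_subgroup_dvd_card _
    rw [hj, hP] at h1
    exact (Nat.pow_dvd_pow_iff_le_right hp.one_lt).mp h1
  have hq : Nat.card (P ⧸ center P) = p ^ (m - j) := by
    have h1 := (center P).card_mul_index
    rw [hj, hP] at h1
    have h2 : p ^ j * p ^ (m - j) = p ^ m := by rw [← pow_add]; congr 1; omega
    rw [← h2] at h1
    exact Nat.eq_of_mul_eq_mul_left (pow_pos hp.pos j) h1
  refine ⟨j, hj0, hjm, hj, hq, ?_⟩
  intro h1
  rw [h1, pow_one] at hq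
  have hcyc : IsCyclic (P ⧸ center P) := isCyclic_of_prime_card hq
  have hcomm := (QuotientGroup.mk' (center P)).isMulCommutative_of_isCyclic_of_ker_le_center
    (by rw [QuotientGroup.ker_mk'])
  have htop : center P = ⊤ := by
    rw [eq_top_iff]
    intro x _
    rw [Subgroup.mem_center_iff]
    intro g
    exact hcomm.is_comm.comm g x
  have : Nat.card (P ⧸ center P) = 1 := by
    rw [htop]
    exact Nat.card_eq_one_iff_unique.mpr ⟨QuotientGroup.subsingleton_quotient_top, ⟨1⟩⟩
  rw [hq] at this
  exact hp.one_lt.ne' this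

/-- A group of order `p ^ m`, `m ≥ 2`, has class at most `m - 1`. -/
theorem nilpotencyClass_le_of_card (p : ℕ) [Fact p.Prime] :
    ∀ (m : ℕ) (P : Type u) [Group P] [Finite P], 2 ≤ m → Nat.card P = p ^ m →
      Group.nilpotencyClass P ≤ m - 1 := by
  intro m
  induction m using Nat.strong_induction_on with
  | _ m ih =>
    intro P _ _ hm hP
    have hp : p.Prime := Fact.out
    have hnil : Group.IsNilpotent P := (IsPGroup.of_card hP).isNilpotent
    have hnt : Nontrivial P := by
      rw [← Finite.one_lt_card_iff_nontrivial, hP]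
      exact Nat.one_lt_pow (by omega) hp.one_lt
    obtain ⟨j, hj1, hjm, hj, hq, hne⟩ := center_card_cases p (by omega) hP
    rw [Group.nilpotencyClass_eq_quotient_center_plus_one]
    by_cases h0 : m - j = 0
    · have hsub : Subsingleton (P ⧸ center P) := by
        rw [h0, pow_zero] at hq
        exact (Nat.card_eq_one_iff_unique.mp hq).1
      have hnilq : Group.IsNilpotent (P ⧸ center P) := inferInstance
      have := (Group.nilpotencyClass_zero_iff_subsingleton (G := P ⧸ center P)).mpr hsub
      omega
    · have h2 : 2 ≤ m - j := by omega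
      have := ih (m - j) (by omega) (P ⧸ center P) h2 hq
      omega

/-- Maximal class: the centre has order `p`. -/
theorem card_center_of_maxClass {P : Type u} [Group P] [Finite P] (p : ℕ) [Fact p.Prime] {m : ℕ}
    (hm : 3 ≤ m) (hP : Nat.card P = p ^ m) (hcl : m - 1 ≤ Group.nilpotencyClass P) :
    Nat.card (center P) = p := by
  have hp : p.Prime := Fact.out
  have hnil : Group.IsNilpotent P := (IsPGroup.of_card hP).isNilpotent
  obtain ⟨j, hj1, hjm, hj, hq, hne⟩ := center_card_cases p (by omega) hP
  have hcq := Group.nilpotencyClass_quotient_center (G := P)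
  have h0 : m - j ≠ 0 := by
    intro h0
    have hsub : Subsingleton (P ⧸ center P) := by
      rw [h0, pow_zero] at hq
      exact (Nat.card_eq_one_iff_unique.mp hq).1
    have := (Group.nilpotencyClass_zero_iff_subsingleton (G := P ⧸ center P)).mpr hsub
    omega
  have h2 : 2 ≤ m - j := by omega
  have := nilpotencyClass_le_of_card p (m - j) (P ⧸ center P) h2 hq
  have hj1' : j = 1 := by omega
  rw [hj, hj1', pow_one]

theorem nilpotencyClass_quotient_center_ge {P : Type u} [Group P] {c : ℕ}
    (hcl : c ≤ Group.nilpotencyClass P) : c - 1 ≤ Group.nilpotencyClass (P ⧸ center P) := by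
  rw [Group.nilpotencyClass_quotient_center]
  omega

/-- Maximal class: the second centre has order `p²`. -/
theorem card_upperCentralSeries_two_of_maxClass {P : Type u} [Group P] [Finite P] (p : ℕ)
    [Fact p.Prime] {m : ℕ} (hm : 4 ≤ m) (hP : Nat.card P = p ^ m)
    (hcl : m - 1 ≤ Group.nilpotencyClass P) :
    Nat.card (Subgroup.upperCentralSeries P 2) = p ^ 2 := by
  have hp : p.Prime := Fact.out
  have hZ := card_center_of_maxClass p (by omega) hP hcl
  have hq : Nat.card (P ⧸ center P) = p ^ (m - 1) := by
    have h1 := (center P).card_mul_index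
    rw [hZ, hP] at h1
    have h2 : p * p ^ (m - 1) = p ^ m := by rw [← pow_succ']; congr 1; omega
    rw [← h2] at h1
    exact Nat.eq_of_mul_eq_mul_left hp.pos h1
  have hclq : (m - 1) - 1 ≤ Group.nilpotencyClass (P ⧸ center P) :=
    nilpotencyClass_quotient_center_ge hcl
  have hZq := card_center_of_maxClass p (by omega : 3 ≤ m - 1) hq hclq
  have hcomap := Subgroup.comap_upperCentralSeries_quotient_center (G := P) 1
  rw [Subgroup.upperCentralSeries_one] at hcomap
  have hidx : (Subgroup.upperCentralSeries P 2).index = (center (P ⧸ center P)).index := by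
    rw [← hcomap]
    exact Subgroup.index_comap_of_surjective _ (QuotientGroup.mk'_surjective _)
  have h1 := (Subgroup.upperCentralSeries P 2).card_mul_index
  have h2 := (center (P ⧸ center P)).card_mul_index
  rw [hZq, hq] at h2
  rw [hidx, hP] at h1
  have hidx' : (center (P ⧸ center P)).index = p ^ (m - 2) := by
    have h3 : p * p ^ (m - 2) = p ^ (m - 1) := by rw [← pow_succ']; congr 1; omega
    rw [← h3] at h2
    exact Nat.eq_of_mul_eq_mul_left hp.pos h2
  rw [hidx'] at h1
  have h4 : p ^ 2 * p ^ (m - 2) = p ^ m := by rw [← pow_add]; congr 1; omega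
  rw [← h4] at h1
  exact Nat.eq_of_mul_eq_mul_right (pow_pos hp.pos _) h1

end Cfsg.Agent.Lib.Helper7.MaxClass
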