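import Mathlib
import Cfsg.Prelude.Def_Transfer
import Cfsg.Agent.Lib.Helper7.WeaklyClosed
import Cfsg.Agent.Lib.Helper7.PReduced3
import Cfsg.Agent.Lib.Helper7.Large

set_option autoImplicit false

namespace Cfsg.Agent.Lib.Helper7

open Cfsg

variable {X : Type*} [Group X] [Finite X]

theorem card_mul_card_le_card_sup_mul_card_inf (H K : Subgroup X) :
    Nat.card ↥H * Nat.card ↥K ≤ Nat.card ↥(H ⊔ K) * Nat.card ↥(H ⊓ K) := by
  have h1 : Nat.card ↥(H ⊓ K) * H.relIndex K = Nat.card ↥K := by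
    rw [← Subgroup.inf_relIndex_right, ← Subgroup.relIndex_bot_left, ← Subgroup.relIndex_bot_left,
      Subgroup.relIndex_mul_relIndex _ _ _ bot_le inf_le_right]
  have h2 : Nat.card ↥H * H.relIndex (H ⊔ K) = Nat.card ↥(H ⊔ K) := by
    rw [← Subgroup.relIndex_bot_left, ← Subgroup.relIndex_bot_left,
      Subgroup.relIndex_mul_relIndex _ _ _ bot_le le_sup_left]
  have h3 : H.relIndex K ≤ H.relIndex (H ⊔ K) := by
    apply Subgroup.relIndex_le_of_le_right le_sup_right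
    intro h0
    rw [h0, mul_zero] at h2
    exact (Nat.card_pos (α := ↥(H ⊔ K))).ne' h2.symm
  calc Nat.card ↥H * Nat.card ↥K = Nat.card ↥H * (Nat.card ↥(H ⊓ K) * H.relIndex K) := by rw [h1]
    _ ≤ Nat.card ↥H * (Nat.card ↥(H ⊓ K) * H.relIndex (H ⊔ K)) := by gcongr
    _ = Nat.card ↥(H ⊔ K) * Nat.card ↥(H ⊓ K) := by rw [← h2]; ring

/-- The Chermak–Delgado measure. -/
noncomputable def cdMeasure (V : Subgroup X) (α : ℝ) (B : Subgroup X) : ℝ :=
  (Nat.card ↥B : ℝ) ^ α * (Nat.card ↥(V ⊓ Subgroup.centralizer (B : Set X)) : ℝ)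

theorem cdMeasure_mul_le (V : Subgroup X) {α : ℝ} (hα : 0 < α) (B D : Subgroup X) :
    cdMeasure V α B * cdMeasure V α D ≤ cdMeasure V α (B ⊔ D) * cdMeasure V α (B ⊓ D) := by
  unfold cdMeasure
  have hc1 : V ⊓ Subgroup.centralizer ((B ⊔ D : Subgroup X) : Set X) =
      (V ⊓ Subgroup.centralizer (B : Set X)) ⊓ (V ⊓ Subgroup.centralizer (D : Set X)) := by
    rw [centralizer_sup_eq]
    ext x
    simp only [Subgroup.mem_inf]
    tauto
  have hc2 : (V ⊓ Subgroup.centralizer (B : Set X)) ⊔ (V ⊓ Subgroup.centralizer (D : Set X)) ≤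
      V ⊓ Subgroup.centralizer ((B ⊓ D : Subgroup X) : Set X) := by
    apply sup_le
    · exact inf_le_inf_left _ (Subgroup.centralizer_le
        (show ((B ⊓ D : Subgroup X) : Set X) ⊆ (B : Set X) from (inf_le_left : B ⊓ D ≤ B)))
    · exact inf_le_inf_left _ (Subgroup.centralizer_le
        (show ((B ⊓ D : Subgroup X) : Set X) ⊆ (D : Set X) from (inf_le_right : B ⊓ D ≤ D)))
  have hn1 := card_mul_card_le_card_sup_mul_card_inf B D
  have hn2 := card_mul_card_le_card_sup_mul_card_inf (V ⊓ Subgroup.centralizer (B : Set X))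
    (V ⊓ Subgroup.centralizer (D : Set X))
  have hn3 : Nat.card ↥((V ⊓ Subgroup.centralizer (B : Set X)) ⊔ (V ⊓ Subgroup.centralizer (D : Set X))) ≤
      Nat.card ↥(V ⊓ Subgroup.centralizer ((B ⊓ D : Subgroup X) : Set X)) :=
    Subgroup.card_le_of_le hc2
  rw [← hc1] at hn2
  have hn4 : Nat.card ↥(V ⊓ Subgroup.centralizer (B : Set X)) *
      Nat.card ↥(V ⊓ Subgroup.centralizer (D : Set X)) ≤
      Nat.card ↥(V ⊓ Subgroup.centralizer ((B ⊔ D : Subgroup X) : Set X)) *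
        Nat.card ↥(V ⊓ Subgroup.centralizer ((B ⊓ D : Subgroup X) : Set X)) := by
    calc _ ≤ _ := hn2
      _ ≤ _ := by rw [mul_comm]; gcongr
  have hr1 : (Nat.card ↥B : ℝ) ^ α * (Nat.card ↥D : ℝ) ^ α ≤
      (Nat.card ↥(B ⊔ D) : ℝ) ^ α * (Nat.card ↥(B ⊓ D) : ℝ) ^ α := by
    rw [← Real.mul_rpow (Nat.cast_nonneg _) (Nat.cast_nonneg _),
      ← Real.mul_rpow (Nat.cast_nonneg _) (Nat.cast_nonneg _)]
    apply Real.rpow_le_rpow (by positivity) _ hα.le
    exact_mod_cast hn1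
  have hr2 : (Nat.card ↥(V ⊓ Subgroup.centralizer (B : Set X)) : ℝ) *
      (Nat.card ↥(V ⊓ Subgroup.centralizer (D : Set X)) : ℝ) ≤
      (Nat.card ↥(V ⊓ Subgroup.centralizer ((B ⊔ D : Subgroup X) : Set X)) : ℝ) *
        (Nat.card ↥(V ⊓ Subgroup.centralizer ((B ⊓ D : Subgroup X) : Set X)) : ℝ) := by
    exact_mod_cast hn4
  calc _ = ((Nat.card ↥B : ℝ) ^ α * (Nat.card ↥D : ℝ) ^ α) *
        ((Nat.card ↥(V ⊓ Subgroup.centralizer (B : Set X)) : ℝ) *
          (Nat.card ↥(V ⊓ Subgroup.centralizer (D : Set X)) : ℝ)) := by ring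
    _ ≤ ((Nat.card ↥(B ⊔ D) : ℝ) ^ α * (Nat.card ↥(B ⊓ D) : ℝ) ^ α) *
        ((Nat.card ↥(V ⊓ Subgroup.centralizer ((B ⊔ D : Subgroup X) : Set X)) : ℝ) *
        (Nat.card ↥(V ⊓ Subgroup.centralizer ((B ⊓ D : Subgroup X) : Set X)) : ℝ)) := by
      apply mul_le_mul hr1 hr2 (by positivity) (by positivity)
    _ = _ := by ring

theorem cdMeasure_pos (V : Subgroup X) (α : ℝ) (B : Subgroup X) : 0 < cdMeasure V α B := by
  unfold cdMeasure
  have h1 : (0 : ℝ) < (Nat.card ↥B : ℝ) := by exact_mod_cast Nat.card_pos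
  have h2 : (0 : ℝ) < (Nat.card ↥(V ⊓ Subgroup.centralizer (B : Set X)) : ℝ) := by
    exact_mod_cast Nat.card_pos
  positivity

theorem cdMeasure_cj (V : Subgroup X) (α : ℝ) (B : Subgroup X) {g : X}
    (hg : g ∈ Subgroup.normalizer (V : Set X)) : cdMeasure V α (cj g B) = cdMeasure V α B := by
  unfold cdMeasure
  have h1 : V ⊓ Subgroup.centralizer ((cj g B : Subgroup X) : Set X) =
      cj g (V ⊓ Subgroup.centralizer (B : Set X)) := by
    show _ = Subgroup.map _ _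
    rw [Subgroup.map_inf_eq _ _ _ (MulAut.conj g).injective]
    have e1 : Subgroup.map (MulAut.conj g).toMonoidHom V = V := cj_eq_of_mem_normalizer hg
    rw [e1]
    congr 1
    exact (centralizer_cj g B)
  rw [h1, card_cj, card_cj]

theorem cd_bound (V G : Subgroup X)
    (hGV : G ≤ Subgroup.normalizer (V : Set X)) (hfaith : G ⊓ Subgroup.centralizer (V : Set X) = ⊥)
    (hirr : ∀ W : Subgroup X, W ≤ V → G ≤ Subgroup.normalizer (W : Set X) → W = ⊥ ∨ W = V)
    (A : Subgroup X) (hA : A ≤ G) (hA1 : A ≠ ⊥) (α : ℝ) (hα : 0 < α)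
    (hbig : (Nat.card V : ℝ) ≤ (Nat.card A : ℝ) ^ α *
      (Nat.card ↥(V ⊓ Subgroup.centralizer (A : Set X)) : ℝ)) :
    (Nat.card V : ℝ) ≤ (Nat.card G : ℝ) ^ α := by
  haveI : Nonempty {B : Subgroup X // B ≤ G} := ⟨⟨⊥, bot_le⟩⟩
  obtain ⟨B₀, hB₀⟩ := Finite.exists_max (fun B : {B : Subgroup X // B ≤ G} => cdMeasure V α B.1)
  set m := cdMeasure V α B₀.1 with hm
  have hmax : ∀ D : Subgroup X, D ≤ G → cdMeasure V α D ≤ m := fun D hD => hB₀ ⟨D, hD⟩
  haveI : Nonempty {B : {B : Subgroup X // B ≤ G} // cdMeasure V α B.1 = m} := ⟨⟨B₀, rfl⟩⟩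
  obtain ⟨Bs, hBs⟩ := Finite.exists_max
    (fun B : {B : {B : Subgroup X // B ≤ G} // cdMeasure V α B.1 = m} => Nat.card ↥B.1.1)
  set B := Bs.1.1 with hB
  have hBG : B ≤ G := Bs.1.2
  have hBm : cdMeasure V α B = m := Bs.2
  have hmpos : 0 < m := cdMeasure_pos V α _
  -- every maximizer lies in B
  have hle : ∀ D : Subgroup X, D ≤ G → cdMeasure V α D = m → D ≤ B := by
    intro D hDG hDm
    have h1 := cdMeasure_mul_le V hα B D
    rw [hBm, hDm] at h1
    have h2 := hmax (B ⊔ D) (sup_le hBG hDG)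
    have h3 := hmax (B ⊓ D) (inf_le_left.trans hBG)
    have h4 : cdMeasure V α (B ⊔ D) = m := by
      apply le_antisymm h2
      by_contra hlt
      push Not at hlt
      have h5 : cdMeasure V α (B ⊔ D) * cdMeasure V α (B ⊓ D) < m * m := by
        calc cdMeasure V α (B ⊔ D) * cdMeasure V α (B ⊓ D)
            ≤ cdMeasure V α (B ⊔ D) * m := by
              apply mul_le_mul_of_nonneg_left h3 (cdMeasure_pos V α _).le
          _ < m * m := by
              apply mul_lt_mul_of_pos_right hlt hmpos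
      exact absurd h1 (not_le.mpr h5)
    have h6 := hBs ⟨⟨B ⊔ D, sup_le hBG hDG⟩, h4⟩
    have h7 : B ⊔ D = B := (Subgroup.eq_of_le_of_card_ge le_sup_left h6).symm
    rw [← h7]; exact le_sup_right
  -- B is normalized by G
  have hBn : G ≤ Subgroup.normalizer (B : Set X) := by
    intro g hg
    apply mem_normalizer_of_cj_le
    apply hle
    · have : cj g B ≤ cj g G := cj_mono g hBG
      rwa [cj_eq_of_mem_normalizer (Subgroup.le_normalizer hg)] at this
    · rw [cdMeasure_cj V α B (hGV hg), hBm]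
  set W := V ⊓ Subgroup.centralizer (B : Set X) with hW
  have hWn : G ≤ Subgroup.normalizer (W : Set X) :=
    (le_inf hGV (hBn.trans (normalizer_le_normalizer_centralizer'' B))).trans
      Subgroup.inf_normalizer_le_normalizer_inf
  have hAm : (Nat.card V : ℝ) ≤ cdMeasure V α A := hbig
  rcases hirr W inf_le_left hWn with hW0 | hWV
  · -- W = ⊥
    have h1 : m = (Nat.card ↥B : ℝ) ^ α := by
      rw [← hBm]
      unfold cdMeasure
      rw [← hW, hW0, Subgroup.card_bot, Nat.cast_one, mul_one]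
    have h2 : (Nat.card ↥B : ℝ) ^ α ≤ (Nat.card ↥G : ℝ) ^ α := by
      apply Real.rpow_le_rpow (Nat.cast_nonneg _) _ hα.le
      exact_mod_cast Subgroup.card_le_of_le hBG
    calc (Nat.card V : ℝ) ≤ cdMeasure V α A := hAm
      _ ≤ m := hmax A hA
      _ = (Nat.card ↥B : ℝ) ^ α := h1
      _ ≤ _ := h2
  · -- W = V
    exfalso
    have h1 : V ≤ Subgroup.centralizer (B : Set X) := by
      rw [← hWV]; exact inf_le_right
    have h2 : B ≤ Subgroup.centralizer (V : Set X) := Subgroup.le_centralizer_iff.mp h1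
    have h3 : B = ⊥ := by
      rw [eq_bot_iff, ← hfaith]
      exact le_inf hBG h2
    have h4 : m = (Nat.card V : ℝ) := by
      rw [← hBm]
      unfold cdMeasure
      rw [← hW, hWV, h3, Subgroup.card_bot, Nat.cast_one, Real.one_rpow, one_mul]
    have h5 : cdMeasure V α A = m := le_antisymm (hmax A hA) (h4 ▸ hAm)
    have h6 := hle A hA h5
    rw [h3, le_bot_iff] at h6
    exact hA1 h6

end Cfsg.Agent.Lib.Helper7
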