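import Mathlib
import Cfsg.Agent.Lib.Helper7.ChermakDelgado

set_option autoImplicit false

namespace Cfsg.Agent.Lib.Helper7

open Cfsg

variable {X : Type*} [Group X] [Finite X]

/-- Equality in the product formula forces `H ⊔ K = K H` elementwise. -/
theorem exists_mul_of_card_sup_mul_card_inf_le (H K : Subgroup X)
    (h : Nat.card ↥(H ⊔ K) * Nat.card ↥(H ⊓ K) ≤ Nat.card ↥H * Nat.card ↥K) :
    ∀ x ∈ H ⊔ K, ∃ k ∈ K, ∃ a ∈ H, x = k * a := by
  have h1 : Nat.card ↥(H ⊓ K) * H.relIndex K = Nat.card ↥K := by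
    rw [← Subgroup.inf_relIndex_right, ← Subgroup.relIndex_bot_left, ← Subgroup.relIndex_bot_left,
      Subgroup.relIndex_mul_relIndex _ _ _ bot_le inf_le_right]
  have h2 : Nat.card ↥H * H.relIndex (H ⊔ K) = Nat.card ↥(H ⊔ K) := by
    rw [← Subgroup.relIndex_bot_left, ← Subgroup.relIndex_bot_left,
      Subgroup.relIndex_mul_relIndex _ _ _ bot_le le_sup_left]
  have h3 : H.relIndex (H ⊔ K) ≤ H.relIndex K := by
    rw [← h1, ← h2] at h
    have hpos : 0 < Nat.card ↥H * Nat.card ↥(H ⊓ K) := Nat.mul_pos Nat.card_pos Nat.card_pos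
    have : Nat.card ↥H * Nat.card ↥(H ⊓ K) * H.relIndex (H ⊔ K) ≤
        Nat.card ↥H * Nat.card ↥(H ⊓ K) * H.relIndex K := by
      calc _ = Nat.card ↥H * H.relIndex (H ⊔ K) * Nat.card ↥(H ⊓ K) := by ring
        _ ≤ Nat.card ↥H * (Nat.card ↥(H ⊓ K) * H.relIndex K) := h
        _ = _ := by ring
    exact Nat.le_of_mul_le_mul_left this hpos
  -- the embedding of coset spaces is a bijection
  let f := Subgroup.quotientSubgroupOfEmbeddingOfLE H (le_sup_right : K ≤ H ⊔ K)
  have hsurj : Function.Surjective f := by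
    have hb : Function.Bijective f := by
      apply Function.Injective.bijective_of_nat_card_le f.injective
      exact h3
    exact hb.2
  intro x hx
  obtain ⟨q, hq⟩ := hsurj (QuotientGroup.mk ⟨x, hx⟩)
  obtain ⟨k, rfl⟩ := QuotientGroup.mk_surjective q
  rw [Subgroup.quotientSubgroupOfEmbeddingOfLE_apply_mk, QuotientGroup.eq] at hq
  have hq' : ((Subgroup.inclusion (le_sup_right : K ≤ H ⊔ K) k)⁻¹ * ⟨x, hx⟩ : ↥(H ⊔ K)) ∈
      H.subgroupOf (H ⊔ K) := hq
  rw [Subgroup.mem_subgroupOf] at hq'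
  refine ⟨k, k.2, _, hq', ?_⟩
  simp

/-- The classical Chermak–Delgado measure `|B| · |C(B)|`. -/
noncomputable def cdm (B : Subgroup X) : ℕ :=
  Nat.card ↥B * Nat.card ↥(Subgroup.centralizer (B : Set X))

theorem cdm_pos (B : Subgroup X) : 0 < cdm B := Nat.mul_pos Nat.card_pos Nat.card_pos

theorem card_centralizer_mul_le (B D : Subgroup X) :
    Nat.card ↥(Subgroup.centralizer (B : Set X)) * Nat.card ↥(Subgroup.centralizer (D : Set X)) ≤
      Nat.card ↥(Subgroup.centralizer ((B ⊔ D : Subgroup X) : Set X)) *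
        Nat.card ↥(Subgroup.centralizer ((B ⊓ D : Subgroup X) : Set X)) := by
  have hc2 : Subgroup.centralizer (B : Set X) ⊔ Subgroup.centralizer (D : Set X) ≤
      Subgroup.centralizer ((B ⊓ D : Subgroup X) : Set X) := by
    apply sup_le
    · exact Subgroup.centralizer_le
        (show ((B ⊓ D : Subgroup X) : Set X) ⊆ (B : Set X) from (inf_le_left : B ⊓ D ≤ B))
    · exact Subgroup.centralizer_le
        (show ((B ⊓ D : Subgroup X) : Set X) ⊆ (D : Set X) from (inf_le_right : B ⊓ D ≤ D))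
  have hn2 := card_mul_card_le_card_sup_mul_card_inf (Subgroup.centralizer (B : Set X))
    (Subgroup.centralizer (D : Set X))
  rw [← centralizer_sup_eq] at hn2
  calc _ ≤ _ := hn2
    _ ≤ _ := by
      rw [mul_comm]
      exact Nat.mul_le_mul_left _ (Subgroup.card_le_of_le hc2)

theorem cdm_mul_le (B D : Subgroup X) : cdm B * cdm D ≤ cdm (B ⊔ D) * cdm (B ⊓ D) := by
  unfold cdm
  have h1 := card_mul_card_le_card_sup_mul_card_inf B D
  have h2 := card_centralizer_mul_le B D
  calc _ = (Nat.card ↥B * Nat.card ↥D) * (Nat.card ↥(Subgroup.centralizer (B : Set X)) *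
        Nat.card ↥(Subgroup.centralizer (D : Set X))) := by ring
    _ ≤ (Nat.card ↥(B ⊔ D) * Nat.card ↥(B ⊓ D)) *
        (Nat.card ↥(Subgroup.centralizer ((B ⊔ D : Subgroup X) : Set X)) *
        Nat.card ↥(Subgroup.centralizer ((B ⊓ D : Subgroup X) : Set X))) := Nat.mul_le_mul h1 h2
    _ = _ := by ring

omit [Finite X] in
theorem cdm_cj (g : X) (B : Subgroup X) : cdm (cj g B) = cdm B := by
  unfold cdm
  rw [centralizer_cj, card_cj, card_cj]

/-- If `B` and `D` both attain the maximum `m` of the measure, so does `B ⊔ D`, and the product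
formula is an equality. -/
theorem cdm_sup_of_max {m : ℕ} (hmax : ∀ D : Subgroup X, cdm D ≤ m) {B D : Subgroup X}
    (hB : cdm B = m) (hD : cdm D = m) :
    cdm (B ⊔ D) = m ∧ Nat.card ↥(B ⊔ D) * Nat.card ↥(B ⊓ D) ≤ Nat.card ↥B * Nat.card ↥D := by
  have hmpos : 0 < m := hB ▸ cdm_pos B
  have h1 := cdm_mul_le B D
  rw [hB, hD] at h1
  have h2 := hmax (B ⊔ D)
  have h3 := hmax (B ⊓ D)
  have h4 : cdm (B ⊔ D) = m := by
    apply le_antisymm h2
    by_contra hlt
    push Not at hlt
    have h5 : cdm (B ⊔ D) * cdm (B ⊓ D) < m * m :=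
      calc cdm (B ⊔ D) * cdm (B ⊓ D) ≤ cdm (B ⊔ D) * m := Nat.mul_le_mul_left _ h3
        _ < m * m := Nat.mul_lt_mul_of_pos_right hlt hmpos
    exact absurd h1 (not_le.mpr h5)
  have h6 : cdm (B ⊓ D) = m := by
    apply le_antisymm h3
    by_contra hlt
    push Not at hlt
    have h5 : cdm (B ⊔ D) * cdm (B ⊓ D) < m * m := by
      rw [h4]
      exact Nat.mul_lt_mul_of_pos_left hlt hmpos
    exact absurd h1 (not_le.mpr h5)
  refine ⟨h4, ?_⟩
  -- equality in the first factor
  by_contra hlt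
  push Not at hlt
  have hc := card_centralizer_mul_le B D
  have hcpos : 0 < Nat.card ↥(Subgroup.centralizer (B : Set X)) *
      Nat.card ↥(Subgroup.centralizer (D : Set X)) := Nat.mul_pos Nat.card_pos Nat.card_pos
  have : cdm B * cdm D < cdm (B ⊔ D) * cdm (B ⊓ D) := by
    unfold cdm
    calc _ = (Nat.card ↥B * Nat.card ↥D) * (Nat.card ↥(Subgroup.centralizer (B : Set X)) *
          Nat.card ↥(Subgroup.centralizer (D : Set X))) := by ring
      _ < (Nat.card ↥(B ⊔ D) * Nat.card ↥(B ⊓ D)) * (Nat.card ↥(Subgroup.centralizer (B : Set X)) *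
          Nat.card ↥(Subgroup.centralizer (D : Set X))) := Nat.mul_lt_mul_of_pos_right hlt hcpos
      _ ≤ (Nat.card ↥(B ⊔ D) * Nat.card ↥(B ⊓ D)) *
          (Nat.card ↥(Subgroup.centralizer ((B ⊔ D : Subgroup X) : Set X)) *
          Nat.card ↥(Subgroup.centralizer ((B ⊓ D : Subgroup X) : Set X))) :=
        Nat.mul_le_mul_left _ hc
      _ = _ := by ring
  rw [hB, hD, h4, h6] at this
  exact lt_irrefl _ this

omit [Finite X] in
theorem cdm_bot : cdm (⊥ : Subgroup X) = Nat.card X := by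
  unfold cdm
  have : Subgroup.centralizer (((⊥ : Subgroup X) : Subgroup X) : Set X) = ⊤ := by
    rw [eq_top_iff]
    intro x _
    rw [Subgroup.mem_centralizer_iff]
    intro y hy
    have : y = 1 := hy
    rw [this, one_mul, mul_one]
  rw [this, Subgroup.card_bot, Subgroup.card_top, one_mul]

omit [Finite X] in
theorem cdm_top : cdm (⊤ : Subgroup X) = Nat.card X * Nat.card ↥(Subgroup.center X) := by
  unfold cdm
  rw [Subgroup.coe_top, Subgroup.centralizer_univ, Subgroup.card_top]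

theorem simple_card_mul_card_centralizer_lt {G : Type*} [Group G] [Finite G] [hS : IsSimpleGroup G]
    (hG : ¬ IsMulCommutative G) (A : Subgroup G) (hA1 : A ≠ ⊥) (hA2 : A ≠ ⊤) :
    Nat.card A * Nat.card ↥(Subgroup.centralizer (A : Set G)) < Nat.card G := by
  -- trivial centre
  have hZ : Subgroup.center G = ⊥ := by
    rcases (inferInstance : (Subgroup.center G).Normal).eq_bot_or_eq_top with h | h
    · exact h
    · exfalso
      apply hG
      refine ⟨⟨fun a b => ?_⟩⟩
      have ha : b ∈ Subgroup.center G := by rw [h]; trivial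
      exact (Subgroup.mem_center_iff.mp ha a)
  obtain ⟨B₀, hB₀⟩ := Finite.exists_max (fun B : Subgroup G => cdm B)
  set m := cdm B₀ with hm
  have hmax : ∀ D : Subgroup G, cdm D ≤ m := hB₀
  -- the largest maximizer
  haveI : Nonempty {B : Subgroup G // cdm B = m} := ⟨⟨B₀, rfl⟩⟩
  obtain ⟨Ts, hTs⟩ := Finite.exists_max (fun B : {B : Subgroup G // cdm B = m} => Nat.card ↥B.1)
  set T := Ts.1 with hT
  have hTm : cdm T = m := Ts.2
  have hTle : ∀ D : Subgroup G, cdm D = m → D ≤ T := by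
    intro D hD
    obtain ⟨h4, -⟩ := cdm_sup_of_max hmax hTm hD
    have h6 := hTs ⟨T ⊔ D, h4⟩
    have h7 : T ⊔ D = T := (Subgroup.eq_of_le_of_card_ge le_sup_left h6).symm
    exact le_sup_right.trans h7.le
  have hTn : T.Normal := by
    rw [← Subgroup.normalizer_eq_top_iff, eq_top_iff]
    intro g _
    apply mem_normalizer_of_cj_le
    apply hTle
    rw [cdm_cj, hTm]
  have hmG : m = Nat.card G := by
    rcases hTn.eq_bot_or_eq_top with h | h
    · rw [← hTm, h, cdm_bot]
    · rw [← hTm, h, cdm_top, hZ, Subgroup.card_bot, mul_one]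
  by_contra hlt
  push Not at hlt
  have hAm : cdm A = m := le_antisymm (hmax A) (hmG ▸ hlt)
  -- a proper maximizer of largest order
  haveI : Nonempty {B : Subgroup G // cdm B = m ∧ B ≠ ⊤} := ⟨⟨A, hAm, hA2⟩⟩
  obtain ⟨Ks, hKs⟩ := Finite.exists_max
    (fun B : {B : Subgroup G // cdm B = m ∧ B ≠ ⊤} => Nat.card ↥B.1)
  set K := Ks.1 with hK
  have hKm : cdm K = m := Ks.2.1
  have hKtop : K ≠ ⊤ := Ks.2.2
  have hKn : K.Normal := by
    rw [← Subgroup.normalizer_eq_top_iff, eq_top_iff]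
    intro g _
    apply mem_normalizer_of_cj_le
    have hK'm : cdm (cj g K) = m := by rw [cdm_cj, hKm]
    obtain ⟨h4, h5⟩ := cdm_sup_of_max hmax hKm hK'm
    by_cases htop : K ⊔ cj g K = ⊤
    · exfalso
      obtain ⟨k', hk', a, ha, hg⟩ := exists_mul_of_card_sup_mul_card_inf_le K (cj g K) h5 g
        (by rw [htop]; trivial)
      have e1 : cj g K = cj k' K := by
        rw [hg, ← cj_mul, cj_eq_of_mem_normalizer (Subgroup.le_normalizer ha)]
      have e2 : cj k'⁻¹ (cj g K) = cj g K :=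
        cj_eq_of_mem_normalizer (Subgroup.le_normalizer (Subgroup.inv_mem _ hk'))
      have e3 : cj g K = K := by
        rw [← e2]
        conv_lhs => rw [e1]
        rw [cj_inv_cj]
      rw [e3, sup_idem] at htop
      exact hKtop htop
    · have h6 := hKs ⟨K ⊔ cj g K, h4, htop⟩
      have h7 : K ⊔ cj g K = K := (Subgroup.eq_of_le_of_card_ge le_sup_left h6).symm
      exact le_sup_right.trans h7.le
  have hKbot : K = ⊥ := (hKn.eq_bot_or_eq_top).resolve_right hKtop
  have h8 := hKs ⟨A, hAm, hA2⟩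
  have h9 : Nat.card ↥A ≤ 1 := by
    have : Nat.card ↥K = 1 := by rw [hKbot, Subgroup.card_bot]
    rw [← this]; exact h8
  apply hA1
  rw [← Subgroup.card_le_one_iff_eq_bot]
  exact h9

end Cfsg.Agent.Lib.Helper7
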