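import Mathlib
import Cfsg.Prelude.Def_BaumannBlocks
import Cfsg.Agent.Lib.Helper7.ChermakDelgado2

set_option autoImplicit false

namespace Cfsg.Agent.Lib.Helper7

open Cfsg
open scoped Pointwise

variable {X : Type*} [Group X] [Finite X]

theorem cdm_inf_of_max {m : ℕ} (hmax : ∀ D : Subgroup X, cdm D ≤ m) {B D : Subgroup X}
    (hB : cdm B = m) (hD : cdm D = m) :
    cdm (B ⊓ D) = m ∧
      Nat.card ↥(Subgroup.centralizer ((B ⊔ D : Subgroup X) : Set X)) *
        Nat.card ↥(Subgroup.centralizer ((B ⊓ D : Subgroup X) : Set X)) ≤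
      Nat.card ↥(Subgroup.centralizer (B : Set X)) * Nat.card ↥(Subgroup.centralizer (D : Set X)) := by
  have hmpos : 0 < m := hB ▸ cdm_pos B
  obtain ⟨h4, h5⟩ := cdm_sup_of_max hmax hB hD
  have h1 := cdm_mul_le B D
  rw [hB, hD, h4] at h1
  have h3 := hmax (B ⊓ D)
  have h6 : cdm (B ⊓ D) = m := by
    apply le_antisymm h3
    exact Nat.le_of_mul_le_mul_left h1 hmpos
  refine ⟨h6, ?_⟩
  by_contra hlt
  push Not at hlt
  have hn1 := card_mul_card_le_card_sup_mul_card_inf B D
  have hpos : 0 < Nat.card ↥B * Nat.card ↥D := Nat.mul_pos Nat.card_pos Nat.card_pos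
  have : cdm B * cdm D < cdm (B ⊔ D) * cdm (B ⊓ D) := by
    unfold cdm
    calc _ = (Nat.card ↥B * Nat.card ↥D) * (Nat.card ↥(Subgroup.centralizer (B : Set X)) *
          Nat.card ↥(Subgroup.centralizer (D : Set X))) := by ring
      _ < (Nat.card ↥B * Nat.card ↥D) *
          (Nat.card ↥(Subgroup.centralizer ((B ⊔ D : Subgroup X) : Set X)) *
          Nat.card ↥(Subgroup.centralizer ((B ⊓ D : Subgroup X) : Set X))) :=
        Nat.mul_lt_mul_of_pos_left hlt hpos
      _ ≤ (Nat.card ↥(B ⊔ D) * Nat.card ↥(B ⊓ D)) *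
          (Nat.card ↥(Subgroup.centralizer ((B ⊔ D : Subgroup X) : Set X)) *
          Nat.card ↥(Subgroup.centralizer ((B ⊓ D : Subgroup X) : Set X))) :=
        Nat.mul_le_mul_right _ hn1
      _ = _ := by ring
  rw [hB, hD, h4, h6] at this
  exact lt_irrefl _ this

omit [Finite X] in
theorem le_centralizer_centralizer (Q : Subgroup X) :
    Q ≤ Subgroup.centralizer ((Subgroup.centralizer (Q : Set X) : Subgroup X) : Set X) := by
  intro q hq
  rw [Subgroup.mem_centralizer_iff]
  intro c hc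
  exact (Subgroup.mem_centralizer_iff.mp hc q hq).symm

theorem cdm_centralizer_of_max {m : ℕ} (hmax : ∀ D : Subgroup X, cdm D ≤ m) {Q : Subgroup X}
    (hQ : cdm Q = m) :
    cdm (Subgroup.centralizer (Q : Set X)) = m ∧
      Q = Subgroup.centralizer ((Subgroup.centralizer (Q : Set X) : Subgroup X) : Set X) := by
  have h1 := hmax (Subgroup.centralizer (Q : Set X))
  have h2 : Nat.card ↥Q ≤
      Nat.card ↥(Subgroup.centralizer ((Subgroup.centralizer (Q : Set X) : Subgroup X) : Set X)) :=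
    Subgroup.card_le_of_le (le_centralizer_centralizer Q)
  have h3 : m ≤ cdm (Subgroup.centralizer (Q : Set X)) := by
    rw [← hQ]
    unfold cdm
    rw [mul_comm]
    exact Nat.mul_le_mul_left _ h2
  have h4 := le_antisymm h1 h3
  refine ⟨h4, ?_⟩
  apply Subgroup.eq_of_le_of_card_ge (le_centralizer_centralizer Q)
  have h5 : cdm (Subgroup.centralizer (Q : Set X)) = cdm Q := by rw [h4, hQ]
  unfold cdm at h5
  have hpos : 0 < Nat.card ↥(Subgroup.centralizer (Q : Set X)) := Nat.card_pos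
  rw [mul_comm (Nat.card ↥Q)] at h5
  exact (Nat.eq_of_mul_eq_mul_left hpos h5).le

/-- `H ⊔ K = H K` as sets when the product formula is an equality. -/
theorem coe_sup_eq_mul_of_card_le (H K : Subgroup X)
    (h : Nat.card ↥(H ⊔ K) * Nat.card ↥(H ⊓ K) ≤ Nat.card ↥H * Nat.card ↥K) :
    ((H ⊔ K : Subgroup X) : Set X) = (H : Set X) * (K : Set X) := by
  apply Set.Subset.antisymm
  · intro x hx
    have h' : Nat.card ↥(K ⊔ H) * Nat.card ↥(K ⊓ H) ≤ Nat.card ↥K * Nat.card ↥H := by
      rw [sup_comm, inf_comm, mul_comm (Nat.card ↥K)]; exact h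
    obtain ⟨a, ha, b, hb, rfl⟩ := exists_mul_of_card_sup_mul_card_inf_le K H h' x
      (by rw [sup_comm]; exact hx)
    exact ⟨a, ha, b, hb, rfl⟩
  · rintro _ ⟨a, ha, b, hb, rfl⟩
    exact Subgroup.mul_mem _ (Subgroup.mem_sup_left ha) (Subgroup.mem_sup_right hb)

theorem cd_lattice_props {m : ℕ} (hmax : ∀ D : Subgroup X, cdm D ≤ m) {Q R : Subgroup X}
    (hQ : cdm Q = m) (hR : cdm R = m) :
    ((Q ⊔ R : Subgroup X) : Set X) = (Q : Set X) * (R : Set X) ∧ cdm (Q ⊔ R) = m ∧
    cdm (Q ⊓ R) = m ∧ cdm (Subgroup.centralizer (Q : Set X)) = m ∧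
    Q = Subgroup.centralizer ((Subgroup.centralizer (Q : Set X) : Subgroup X) : Set X) ∧
    ((Subgroup.centralizer (Q : Set X) ⊔ Subgroup.centralizer (R : Set X) : Subgroup X) : Set X) =
      (Subgroup.centralizer (Q : Set X) : Set X) * (Subgroup.centralizer (R : Set X) : Set X) ∧
    Subgroup.centralizer ((Q ⊓ R : Subgroup X) : Set X) =
      Subgroup.centralizer (Q : Set X) ⊔ Subgroup.centralizer (R : Set X) := by
  obtain ⟨h1, h2⟩ := cdm_sup_of_max hmax hQ hR
  obtain ⟨h3, h4⟩ := cdm_inf_of_max hmax hQ hR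
  obtain ⟨h5, h6⟩ := cdm_centralizer_of_max hmax hQ
  -- the chain for centralizers
  have hc2 : Subgroup.centralizer (Q : Set X) ⊔ Subgroup.centralizer (R : Set X) ≤
      Subgroup.centralizer ((Q ⊓ R : Subgroup X) : Set X) := by
    apply sup_le
    · exact Subgroup.centralizer_le
        (show ((Q ⊓ R : Subgroup X) : Set X) ⊆ (Q : Set X) from (inf_le_left : Q ⊓ R ≤ Q))
    · exact Subgroup.centralizer_le
        (show ((Q ⊓ R : Subgroup X) : Set X) ⊆ (R : Set X) from (inf_le_right : Q ⊓ R ≤ R))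
  have hn2 := card_mul_card_le_card_sup_mul_card_inf (Subgroup.centralizer (Q : Set X))
    (Subgroup.centralizer (R : Set X))
  rw [← centralizer_sup_eq] at hn2
  have hcard : Nat.card ↥(Subgroup.centralizer (Q : Set X) ⊔ Subgroup.centralizer (R : Set X)) ≤
      Nat.card ↥(Subgroup.centralizer ((Q ⊓ R : Subgroup X) : Set X)) := Subgroup.card_le_of_le hc2
  have hpos : 0 < Nat.card ↥(Subgroup.centralizer ((Q ⊔ R : Subgroup X) : Set X)) := Nat.card_pos
  -- both inequalities are equalities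
  have he1 : Nat.card ↥(Subgroup.centralizer ((Q ⊓ R : Subgroup X) : Set X)) ≤
      Nat.card ↥(Subgroup.centralizer (Q : Set X) ⊔ Subgroup.centralizer (R : Set X)) := by
    have : Nat.card ↥(Subgroup.centralizer ((Q ⊔ R : Subgroup X) : Set X)) *
        Nat.card ↥(Subgroup.centralizer ((Q ⊓ R : Subgroup X) : Set X)) ≤
        Nat.card ↥(Subgroup.centralizer ((Q ⊔ R : Subgroup X) : Set X)) *
        Nat.card ↥(Subgroup.centralizer (Q : Set X) ⊔ Subgroup.centralizer (R : Set X)) := by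
      calc _ ≤ _ := h4
        _ ≤ _ := hn2
        _ = _ := by ring
    exact Nat.le_of_mul_le_mul_left this hpos
  have he2 : Nat.card ↥(Subgroup.centralizer (Q : Set X) ⊔ Subgroup.centralizer (R : Set X)) *
      Nat.card ↥(Subgroup.centralizer (Q : Set X) ⊓ Subgroup.centralizer (R : Set X)) ≤
      Nat.card ↥(Subgroup.centralizer (Q : Set X)) * Nat.card ↥(Subgroup.centralizer (R : Set X)) := by
    rw [← centralizer_sup_eq]
    calc _ ≤ Nat.card ↥(Subgroup.centralizer ((Q ⊓ R : Subgroup X) : Set X)) *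
          Nat.card ↥(Subgroup.centralizer ((Q ⊔ R : Subgroup X) : Set X)) :=
        Nat.mul_le_mul_right _ hcard
      _ = _ := by ring
      _ ≤ _ := h4
  refine ⟨coe_sup_eq_mul_of_card_le Q R h2, h1, h3, h5, h6,
    coe_sup_eq_mul_of_card_le _ _ he2, ?_⟩
  exact (Subgroup.eq_of_le_of_card_ge hc2 he1).symm

theorem cdm_set_finite :
    {k : ℕ | ∃ R : Subgroup X, Nat.card ↥R * Nat.card ↥(Subgroup.centralizer (R : Set X)) = k}.Finite := by
  have : {k : ℕ | ∃ R : Subgroup X, Nat.card ↥R * Nat.card ↥(Subgroup.centralizer (R : Set X)) = k} =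
      Set.range (fun R : Subgroup X => cdm R) := by
    ext k; rfl
  rw [this]
  exact Set.finite_range _

theorem cdm_le_maxCentralizerProduct (D : Subgroup X) : cdm D ≤ maxCentralizerProduct X :=
  le_csSup cdm_set_finite.bddAbove ⟨D, rfl⟩

theorem exists_cdm_eq_maxCentralizerProduct :
    ∃ D : Subgroup X, cdm D = maxCentralizerProduct X := by
  have hne : {k : ℕ | ∃ R : Subgroup X,
      Nat.card ↥R * Nat.card ↥(Subgroup.centralizer (R : Set X)) = k}.Nonempty := ⟨_, ⊥, rfl⟩
  exact hne.csSup_mem cdm_set_finite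

omit [Finite X] in
theorem isCentralizerLarge_iff_cdm (Q : Subgroup X) :
    IsCentralizerLarge Q ↔ cdm Q = maxCentralizerProduct X := Iff.rfl

theorem chermak_delgado_lattice (Q R : Subgroup X) (hQ : IsCentralizerLarge Q)
    (hR : IsCentralizerLarge R) :
    ((Q ⊔ R : Subgroup X) : Set X) = (Q : Set X) * (R : Set X) ∧ IsCentralizerLarge (Q ⊔ R) ∧
    IsCentralizerLarge (Q ⊓ R) ∧ IsCentralizerLarge (Subgroup.centralizer (Q : Set X)) ∧
    Q = Subgroup.centralizer ((Subgroup.centralizer (Q : Set X) : Subgroup X) : Set X) ∧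
    ((Subgroup.centralizer (Q : Set X) ⊔ Subgroup.centralizer (R : Set X) : Subgroup X) : Set X) =
      (Subgroup.centralizer (Q : Set X) : Set X) * (Subgroup.centralizer (R : Set X) : Set X) ∧
    Subgroup.centralizer ((Q ⊓ R : Subgroup X) : Set X) =
      Subgroup.centralizer (Q : Set X) ⊔ Subgroup.centralizer (R : Set X) :=
  cd_lattice_props cdm_le_maxCentralizerProduct hQ hR

end Cfsg.Agent.Lib.Helper7
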