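import Mathlib
import Cfsg.Prelude.Def_BaumannBlocks
import Cfsg.Agent.Lib.Helper7.ChermakDelgado3

set_option autoImplicit false

namespace Cfsg.Agent.Lib.Helper7

open Cfsg
open scoped Pointwise

variable {X : Type*} [Group X]

theorem map_center_subtype (R : Subgroup X) :
    (Subgroup.center ↥R).map R.subtype = R ⊓ Subgroup.centralizer (R : Set X) := by
  ext x
  constructor
  · rintro ⟨y, hy, rfl⟩
    refine Subgroup.mem_inf.mpr ⟨y.2, ?_⟩
    rw [Subgroup.mem_centralizer_iff]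
    intro g hg
    have := Subgroup.mem_center_iff.mp hy ⟨g, hg⟩
    exact congrArg Subtype.val this
  · intro hx
    obtain ⟨hxR, hxC⟩ := Subgroup.mem_inf.mp hx
    refine ⟨⟨x, hxR⟩, ?_, rfl⟩
    show (⟨x, hxR⟩ : ↥R) ∈ Subgroup.center ↥R
    rw [Subgroup.mem_center_iff]
    intro g
    apply Subtype.ext
    exact Subgroup.mem_centralizer_iff.mp hxC g g.2

theorem card_center_subgroup (R : Subgroup X) :
    Nat.card ↥(Subgroup.center ↥R) = Nat.card ↥(R ⊓ Subgroup.centralizer (R : Set X)) := by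
  rw [← map_center_subtype, Subgroup.card_map_of_injective R.subtype_injective]

/-- The measure `|R| · |Z(R)|`. -/
noncomputable def zm (R : Subgroup X) : ℕ :=
  Nat.card ↥R * Nat.card ↥(R ⊓ Subgroup.centralizer (R : Set X))

theorem isCentrallyLarge_iff_zm (R : Subgroup X) : IsCentrallyLarge R ↔ zm R = maxCentralProduct X := by
  unfold IsCentrallyLarge zm
  rw [card_center_subgroup]

variable [Finite X]

theorem zm_le_cdm (R : Subgroup X) : zm R ≤ cdm R :=
  Nat.mul_le_mul_left _ (Subgroup.card_le_of_le inf_le_right)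

theorem zm_set_finite :
    {k : ℕ | ∃ R : Subgroup X, Nat.card ↥R * Nat.card ↥(Subgroup.center ↥R) = k}.Finite := by
  have : {k : ℕ | ∃ R : Subgroup X, Nat.card ↥R * Nat.card ↥(Subgroup.center ↥R) = k} =
      Set.range (fun R : Subgroup X => Nat.card ↥R * Nat.card ↥(Subgroup.center ↥R)) := by
    ext k; rfl
  rw [this]
  exact Set.finite_range _

theorem zm_le_maxCentralProduct (D : Subgroup X) : zm D ≤ maxCentralProduct X := by
  unfold zm
  rw [← card_center_subgroup]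
  exact le_csSup zm_set_finite.bddAbove ⟨D, rfl⟩

theorem exists_zm_eq_maxCentralProduct : ∃ D : Subgroup X, zm D = maxCentralProduct X := by
  have hne : {k : ℕ | ∃ R : Subgroup X,
      Nat.card ↥R * Nat.card ↥(Subgroup.center ↥R) = k}.Nonempty := ⟨_, ⊥, rfl⟩
  obtain ⟨D, hD⟩ := hne.csSup_mem zm_set_finite
  refine ⟨D, ?_⟩
  unfold zm
  rw [← card_center_subgroup]
  exact hD

theorem maxCentralProduct_eq : maxCentralProduct X = maxCentralizerProduct X := by
  apply le_antisymm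
  · obtain ⟨D, hD⟩ := exists_zm_eq_maxCentralProduct (X := X)
    rw [← hD]
    exact (zm_le_cdm D).trans (cdm_le_maxCentralizerProduct D)
  · obtain ⟨Q, hQ⟩ := exists_cdm_eq_maxCentralizerProduct (X := X)
    obtain ⟨-, -, -, hCQ, hQCC, -, -⟩ :=
      cd_lattice_props cdm_le_maxCentralizerProduct hQ hQ
    obtain ⟨-, hT, -, -, -, -, -⟩ := cd_lattice_props cdm_le_maxCentralizerProduct hQ hCQ
    set T := Q ⊔ Subgroup.centralizer (Q : Set X) with hTdef
    have hCT : Subgroup.centralizer (T : Set X) = Q ⊓ Subgroup.centralizer (Q : Set X) := by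
      rw [hTdef, centralizer_sup_eq, ← hQCC, inf_comm]
    have hle : Subgroup.centralizer (T : Set X) ≤ T := by
      rw [hCT]; exact inf_le_left.trans le_sup_left
    have : zm T = cdm T := by
      unfold zm cdm
      rw [inf_eq_right.mpr hle]
    rw [← hT, ← this]
    exact zm_le_maxCentralProduct T

theorem isCentrallyLarge_iff (Q : Subgroup X) :
    IsCentrallyLarge Q ↔ IsCentralizerLarge Q ∧ Subgroup.centralizer (Q : Set X) ≤ Q := by
  rw [isCentrallyLarge_iff_zm, isCentralizerLarge_iff_cdm, maxCentralProduct_eq]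
  constructor
  · intro h
    have h1 : cdm Q = maxCentralizerProduct X :=
      le_antisymm (cdm_le_maxCentralizerProduct Q) (h ▸ zm_le_cdm Q)
    refine ⟨h1, ?_⟩
    have h2 : zm Q = cdm Q := by rw [h, h1]
    unfold zm cdm at h2
    have h3 := Nat.eq_of_mul_eq_mul_left (Nat.card_pos (α := ↥Q)) h2
    have h4 : Q ⊓ Subgroup.centralizer (Q : Set X) = Subgroup.centralizer (Q : Set X) :=
      Subgroup.eq_of_le_of_card_ge inf_le_right h3.ge
    rw [← h4]; exact inf_le_left
  · rintro ⟨h1, h2⟩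
    rw [← h1]
    unfold zm cdm
    rw [inf_eq_right.mpr h2]

theorem sSup_mem_of_nonempty_of_sup_closed (S : Set (Subgroup X)) (hne : S.Nonempty)
    (hsup : ∀ A ∈ S, ∀ B ∈ S, A ⊔ B ∈ S) : sSup S ∈ S := by
  haveI : Nonempty S := hne.to_subtype
  obtain ⟨M, hM⟩ := Finite.exists_max (fun A : S => Nat.card ↥A.1)
  have hle : ∀ A ∈ S, A ≤ M.1 := by
    intro A hA
    have h1 := hM ⟨M.1 ⊔ A, hsup _ M.2 _ hA⟩
    have h2 : M.1 ⊔ A = M.1 := (Subgroup.eq_of_le_of_card_ge le_sup_left h1).symm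
    exact le_sup_right.trans h2.le
  have : sSup S = M.1 := le_antisymm (sSup_le hle) (le_sSup M.2)
  rw [this]; exact M.2

theorem sSup_mem_of_subset_of_sup_closed (S S' : Set (Subgroup X)) (hne : S'.Nonempty)
    (hsub : S' ⊆ S) (hsup : ∀ A ∈ S, ∀ B ∈ S, A ⊔ B ∈ S) : sSup S' ∈ S := by
  set T : Set (Subgroup X) := {R | R ∈ S ∧ R ≤ sSup S'} with hT
  have hTne : T.Nonempty := by
    obtain ⟨A, hA⟩ := hne
    exact ⟨A, hsub hA, le_sSup hA⟩
  have hTsup : ∀ A ∈ T, ∀ B ∈ T, A ⊔ B ∈ T := fun A hA B hB =>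
    ⟨hsup A hA.1 B hB.1, sup_le hA.2 hB.2⟩
  have h1 := sSup_mem_of_nonempty_of_sup_closed T hTne hTsup
  have h2 : sSup T = sSup S' := by
    apply le_antisymm
    · exact sSup_le (fun A hA => hA.2)
    · exact sSup_le_sSup (fun A hA => ⟨hsub hA, le_sSup hA⟩)
  rw [← h2]; exact h1.1

theorem centrallyLarge_sup {Q R : Subgroup X} (hQ : IsCentrallyLarge Q) (hR : IsCentrallyLarge R) :
    ((Q ⊔ R : Subgroup X) : Set X) = (Q : Set X) * (R : Set X) ∧ IsCentrallyLarge (Q ⊔ R) := by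
  rw [isCentrallyLarge_iff] at hQ hR
  obtain ⟨h1, h2, -, -, -, -, -⟩ := chermak_delgado_lattice Q R hQ.1 hR.1
  refine ⟨h1, ?_⟩
  rw [isCentrallyLarge_iff]
  refine ⟨h2, ?_⟩
  rw [centralizer_sup_eq]
  exact inf_le_left.trans (hQ.2.trans le_sup_left)

theorem exists_isCentrallyLarge : ∃ Q : Subgroup X, IsCentrallyLarge Q := by
  obtain ⟨D, hD⟩ := exists_zm_eq_maxCentralProduct (X := X)
  exact ⟨D, (isCentrallyLarge_iff_zm D).mpr hD⟩

theorem exists_isMinimalCentrallyLarge : ∃ Q : Subgroup X, IsMinimalCentrallyLarge Q := by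
  haveI : Nonempty {Q : Subgroup X // IsCentrallyLarge Q} :=
    let ⟨Q, hQ⟩ := exists_isCentrallyLarge (X := X); ⟨⟨Q, hQ⟩⟩
  obtain ⟨M, hM⟩ := Finite.exists_min (fun A : {Q : Subgroup X // IsCentrallyLarge Q} => Nat.card ↥A.1)
  refine ⟨M.1, M.2, ?_⟩
  intro R' hR' hCL
  exact Subgroup.eq_of_le_of_card_ge hR' (hM ⟨R', hCL⟩)

theorem centrally_large_basic :
    (∀ Q : Subgroup X, IsCentrallyLarge Q → IsCentralizerLarge Q ∧
      Subgroup.centralizer (Q : Set X) = Q ⊓ Subgroup.centralizer (Q : Set X)) ∧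
    (∀ Q : Subgroup X, IsCentralizerLarge Q →
      (IsCentrallyLarge Q ↔ Subgroup.centralizer (Q : Set X) ≤ Q)) ∧
    (∀ Q R : Subgroup X, IsCentrallyLarge Q → IsCentrallyLarge R →
      ((Q ⊔ R : Subgroup X) : Set X) = (Q : Set X) * (R : Set X) ∧ IsCentrallyLarge (Q ⊔ R)) ∧
    IsCentrallyLarge (centrallyLargeJoin X) ∧ IsCentrallyLarge (minimalCentrallyLargeJoin X) := by
  refine ⟨?_, ?_, ?_, ?_, ?_⟩
  · intro Q hQ
    rw [isCentrallyLarge_iff] at hQ
    exact ⟨hQ.1, (inf_eq_right.mpr hQ.2).symm⟩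
  · intro Q hQ
    rw [isCentrallyLarge_iff]
    exact ⟨fun h => h.2, fun h => ⟨hQ, h⟩⟩
  · intro Q R hQ hR
    exact centrallyLarge_sup hQ hR
  · exact sSup_mem_of_nonempty_of_sup_closed {R : Subgroup X | IsCentrallyLarge R}
      exists_isCentrallyLarge (fun A hA B hB => (centrallyLarge_sup hA hB).2)
  · exact sSup_mem_of_subset_of_sup_closed {R : Subgroup X | IsCentrallyLarge R}
      {R : Subgroup X | IsMinimalCentrallyLarge R} exists_isMinimalCentrallyLarge
      (fun R hR => hR.1) (fun A hA B hB => (centrallyLarge_sup hA hB).2)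

end Cfsg.Agent.Lib.Helper7
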