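import Mathlib
import Cfsg.Prelude.Def_BaumannBlocks
import Cfsg.Prelude.Def_PLocal
import Cfsg.Agent.Lib.Helper7.CentrallyLarge

set_option autoImplicit false

namespace Cfsg.Agent.Lib.Helper7

open Cfsg
open scoped Pointwise

variable {X : Type*} [Group X]

theorem isMulCommutative_iff_le_centralizer (A : Subgroup X) :
    IsMulCommutative ↥A ↔ A ≤ Subgroup.centralizer (A : Set X) := by
  rw [isMulCommutative_iff]
  constructor
  · intro h a ha
    rw [Subgroup.mem_centralizer_iff]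
    intro b hb
    exact congrArg Subtype.val (h ⟨b, hb⟩ ⟨a, ha⟩)
  · intro h a b
    apply Subtype.ext
    exact Subgroup.mem_centralizer_iff.mp (h b.2) a a.2

variable [Finite X]

/-- An abelian subgroup of largest order is self-centralizing. -/
theorem centralizer_eq_of_mem_maxAbelianSubgroups {A : Subgroup X} (hA : A ∈ maxAbelianSubgroups X) :
    Subgroup.centralizer (A : Set X) = A := by
  have hAc : A ≤ Subgroup.centralizer (A : Set X) := (isMulCommutative_iff_le_centralizer A).mp hA.1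
  apply le_antisymm _ hAc
  intro x hx
  set B := A ⊔ Subgroup.zpowers x with hB
  have hBc : IsMulCommutative ↥B := by
    rw [isMulCommutative_iff_le_centralizer, hB, centralizer_sup_eq]
    have hxA : Subgroup.zpowers x ≤ Subgroup.centralizer (A : Set X) := Subgroup.zpowers_le.mpr hx
    have hAx : A ≤ Subgroup.centralizer ((Subgroup.zpowers x : Subgroup X) : Set X) :=
      Subgroup.le_centralizer_iff.mp hxA
    have hxx : Subgroup.zpowers x ≤ Subgroup.centralizer ((Subgroup.zpowers x : Subgroup X) : Set X) := by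
      rw [Subgroup.zpowers_le, Subgroup.mem_centralizer_iff]
      intro y hy
      obtain ⟨k, rfl⟩ := Subgroup.mem_zpowers_iff.mp hy
      exact (Commute.zpow_left (Commute.refl x) k).eq
    exact sup_le (le_inf hAc hAx) (le_inf hxA hxx)
  have h1 := hA.2 B hBc
  have h2 : B = A := (Subgroup.eq_of_le_of_card_ge le_sup_left h1).symm
  rw [← h2]
  exact Subgroup.mem_sup_right (Subgroup.mem_zpowers x)

theorem exists_mem_maxAbelianSubgroups : ∃ A : Subgroup X, A ∈ maxAbelianSubgroups X := by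
  haveI : Nonempty {B : Subgroup X // IsMulCommutative ↥B} :=
    ⟨⟨⊥, (isMulCommutative_iff_le_centralizer ⊥).mpr bot_le⟩⟩
  obtain ⟨M, hM⟩ := Finite.exists_max (fun A : {B : Subgroup X // IsMulCommutative ↥B} => Nat.card ↥A.1)
  exact ⟨M.1, M.2, fun B hB => hM ⟨B, hB⟩⟩

theorem centrallyLarge_sup_maxAbelian (Q A : Subgroup X) (hQ : IsCentrallyLarge Q)
    (hA : A ∈ maxAbelianSubgroups X) :
    ((Q ⊔ A : Subgroup X) : Set X) = (Q : Set X) * (A : Set X) ∧ IsCentrallyLarge (Q ⊔ A) ∧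
    (Q ⊔ A) ⊓ Subgroup.centralizer ((Q ⊓ A : Subgroup X) : Set X) =
      (Q ⊓ Subgroup.centralizer (Q : Set X)) ⊔ A ∧
    (((Q ⊓ Subgroup.centralizer (Q : Set X)) ⊔ A : Subgroup X) : Set X) =
      ((Q ⊓ Subgroup.centralizer (Q : Set X) : Subgroup X) : Set X) * (A : Set X) := by
  rw [isCentrallyLarge_iff] at hQ
  obtain ⟨hQcz, hCQle⟩ := hQ
  set Z := Q ⊓ Subgroup.centralizer (Q : Set X) with hZ
  set D := Q ⊓ A with hD
  set W := Q ⊔ A with hW
  have hCQ : Subgroup.centralizer (Q : Set X) = Z := (inf_eq_right.mpr hCQle).symm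
  have hCA : Subgroup.centralizer (A : Set X) = A := centralizer_eq_of_mem_maxAbelianSubgroups hA
  have hZQ : Z ≤ Q := inf_le_left
  have hDQ : D ≤ Q := inf_le_left
  have hDA : D ≤ A := inf_le_right
  have hZCQ : Z ≤ Subgroup.centralizer (Q : Set X) := inf_le_right
  have hCQD : Subgroup.centralizer (Q : Set X) ≤ Subgroup.centralizer (D : Set X) :=
    Subgroup.centralizer_le (show (D : Set X) ⊆ (Q : Set X) from hDQ)
  have hCAD : Subgroup.centralizer (A : Set X) ≤ Subgroup.centralizer (D : Set X) :=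
    Subgroup.centralizer_le (show (D : Set X) ⊆ (A : Set X) from hDA)
  have hZCD : Z ≤ Subgroup.centralizer (D : Set X) := hZCQ.trans hCQD
  have hDCZ : D ≤ Subgroup.centralizer (Z : Set X) := Subgroup.le_centralizer_iff.mp hZCD
  have hQCZ : Q ≤ Subgroup.centralizer (Z : Set X) := Subgroup.le_centralizer_iff.mp hZCQ
  have hACD : A ≤ Subgroup.centralizer (D : Set X) := by
    rw [← hCA]; exact hCAD
  -- A₁ = D ⊔ Z is abelian
  have hA₁c : IsMulCommutative ↥(D ⊔ Z) := by
    rw [isMulCommutative_iff_le_centralizer, centralizer_sup_eq]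
    exact sup_le (le_inf (hDA.trans hACD) hDCZ) (le_inf hZCD (hZQ.trans hQCZ))
  have hA₁card : Nat.card ↥(D ⊔ Z) ≤ Nat.card ↥A := hA.2 _ hA₁c
  have hii0 := card_mul_card_le_card_sup_mul_card_inf D Z
  have hDZle : Nat.card ↥(D ⊓ Z) ≤ Nat.card ↥(A ⊓ Z) :=
    Subgroup.card_le_of_le (inf_le_inf_right _ hDA)
  have hii : Nat.card ↥D * Nat.card ↥Z ≤ Nat.card ↥A * Nat.card ↥(A ⊓ Z) :=
    hii0.trans (Nat.mul_le_mul hA₁card hDZle)
  -- the centralizer of W
  have hCW : Subgroup.centralizer (W : Set X) = A ⊓ Z := by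
    rw [hW, centralizer_sup_eq, hCQ, hCA, inf_comm]
  have hWcard := card_mul_card_le_card_sup_mul_card_inf Q A
  have hcdmQ : cdm Q = Nat.card ↥Q * Nat.card ↥Z := by unfold cdm; rw [hCQ]
  have hcdmW : cdm W = Nat.card ↥W * Nat.card ↥(A ⊓ Z) := by unfold cdm; rw [hCW]
  have hDpos : 0 < Nat.card ↥D := Nat.card_pos
  have hchain : cdm Q * Nat.card ↥D ≤ cdm W * Nat.card ↥D := by
    rw [hcdmQ, hcdmW]
    calc Nat.card ↥Q * Nat.card ↥Z * Nat.card ↥D = Nat.card ↥Q * (Nat.card ↥D * Nat.card ↥Z) := by ring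
      _ ≤ Nat.card ↥Q * (Nat.card ↥A * Nat.card ↥(A ⊓ Z)) := Nat.mul_le_mul_left _ hii
      _ = (Nat.card ↥Q * Nat.card ↥A) * Nat.card ↥(A ⊓ Z) := by ring
      _ ≤ (Nat.card ↥W * Nat.card ↥D) * Nat.card ↥(A ⊓ Z) := Nat.mul_le_mul_right _ hWcard
      _ = _ := by ring
  have hWmax : cdm W = maxCentralizerProduct X := by
    apply le_antisymm (cdm_le_maxCentralizerProduct W)
    rw [← (isCentralizerLarge_iff_cdm Q).mp hQcz]
    exact Nat.le_of_mul_le_mul_right hchain hDpos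
  have hWQ : cdm W = cdm Q := by rw [hWmax, (isCentralizerLarge_iff_cdm Q).mp hQcz]
  -- equality (e1)
  have he1 : Nat.card ↥W * Nat.card ↥D ≤ Nat.card ↥Q * Nat.card ↥A := by
    by_contra hlt
    push Not at hlt
    have : cdm Q * Nat.card ↥D < cdm W * Nat.card ↥D := by
      rw [hcdmQ, hcdmW]
      calc Nat.card ↥Q * Nat.card ↥Z * Nat.card ↥D = Nat.card ↥Q * (Nat.card ↥D * Nat.card ↥Z) := by ring
        _ ≤ Nat.card ↥Q * (Nat.card ↥A * Nat.card ↥(A ⊓ Z)) := Nat.mul_le_mul_left _ hii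
        _ = (Nat.card ↥Q * Nat.card ↥A) * Nat.card ↥(A ⊓ Z) := by ring
        _ < (Nat.card ↥W * Nat.card ↥D) * Nat.card ↥(A ⊓ Z) :=
          Nat.mul_lt_mul_of_pos_right hlt Nat.card_pos
        _ = _ := by ring
    rw [hWQ] at this
    exact lt_irrefl _ this
  -- equality (e2)
  have he2 : Nat.card ↥A * Nat.card ↥(A ⊓ Z) ≤ Nat.card ↥D * Nat.card ↥Z := by
    by_contra hlt
    push Not at hlt
    have : cdm Q * Nat.card ↥D < cdm W * Nat.card ↥D := by
      rw [hcdmQ, hcdmW]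
      calc Nat.card ↥Q * Nat.card ↥Z * Nat.card ↥D = Nat.card ↥Q * (Nat.card ↥D * Nat.card ↥Z) := by ring
        _ < Nat.card ↥Q * (Nat.card ↥A * Nat.card ↥(A ⊓ Z)) :=
          Nat.mul_lt_mul_of_pos_left hlt Nat.card_pos
        _ = (Nat.card ↥Q * Nat.card ↥A) * Nat.card ↥(A ⊓ Z) := by ring
        _ ≤ (Nat.card ↥W * Nat.card ↥D) * Nat.card ↥(A ⊓ Z) := Nat.mul_le_mul_right _ hWcard
        _ = _ := by ring
    rw [hWQ] at this
    exact lt_irrefl _ this
  have hA₁max : D ⊔ Z ∈ maxAbelianSubgroups X := by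
    refine ⟨hA₁c, fun B hB => (hA.2 B hB).trans ?_⟩
    have h1 : Nat.card ↥A * Nat.card ↥(A ⊓ Z) ≤ Nat.card ↥(D ⊔ Z) * Nat.card ↥(A ⊓ Z) :=
      calc _ ≤ _ := he2
        _ ≤ _ := hii0
        _ ≤ _ := Nat.mul_le_mul_left _ hDZle
    exact Nat.le_of_mul_le_mul_right h1 Nat.card_pos
  have hCA₁ := centralizer_eq_of_mem_maxAbelianSubgroups hA₁max
  have hprod : ((W : Subgroup X) : Set X) = (Q : Set X) * (A : Set X) :=
    coe_sup_eq_mul_of_card_le Q A he1
  -- key: elements of W centralizing D lie in Z * A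
  have hkey : ∀ x ∈ W, x ∈ Subgroup.centralizer (D : Set X) → x ∈ (Z : Set X) * (A : Set X) := by
    intro x hxW hxD
    have hx' : x ∈ ((W : Subgroup X) : Set X) := hxW
    rw [hprod] at hx'
    obtain ⟨q, hq, a, ha, rfl⟩ := hx'
    have hqD : q ∈ Subgroup.centralizer (D : Set X) := by
      have : q = (q * a) * a⁻¹ := by group
      rw [this]
      exact Subgroup.mul_mem _ hxD (Subgroup.inv_mem _ (hACD ha))
    have hqA₁ : q ∈ D ⊔ Z := by
      rw [← hCA₁, centralizer_sup_eq]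
      exact Subgroup.mem_inf.mpr ⟨hqD, hQCZ hq⟩
    have hq' : q ∈ ((D ⊔ Z : Subgroup X) : Set X) := hqA₁
    rw [Subgroup.coe_mul_of_left_le_normalizer_right D Z
      (hDCZ.trans (Subgroup.centralizer_le_normalizer _))] at hq'
    obtain ⟨d, hd, z, hz, rfl⟩ := hq'
    have hcomm : d * z = z * d := Subgroup.mem_centralizer_iff.mp (hDCZ hd) z hz |>.symm
    refine ⟨z, hz, d * a, Subgroup.mul_mem _ (hDA hd) ha, ?_⟩
    show z * (d * a) = d * z * a
    rw [hcomm]; group
  have hmulsub : (Z : Set X) * (A : Set X) ⊆ ((Z ⊔ A : Subgroup X) : Set X) := by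
    rintro _ ⟨z, hz, a, ha, rfl⟩
    exact Subgroup.mul_mem _ (Subgroup.mem_sup_left hz) (Subgroup.mem_sup_right ha)
  have hZAle : Z ⊔ A ≤ W ⊓ Subgroup.centralizer (D : Set X) :=
    sup_le (le_inf (hZQ.trans le_sup_left) hZCD) (le_inf le_sup_right hACD)
  refine ⟨hprod, ?_, ?_, ?_⟩
  · rw [isCentrallyLarge_iff]
    refine ⟨hWmax, ?_⟩
    rw [hCW]
    exact inf_le_left.trans le_sup_right
  · apply le_antisymm
    · intro x hx
      obtain ⟨hxW, hxD⟩ := Subgroup.mem_inf.mp hx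
      exact hmulsub (hkey x hxW hxD)
    · exact hZAle
  · apply Set.Subset.antisymm
    · intro x hx
      obtain ⟨hxW, hxD⟩ := Subgroup.mem_inf.mp (hZAle hx)
      exact hkey x hxW hxD
    · exact hmulsub

theorem isCentrallyLarge_centrallyLargeJoin : IsCentrallyLarge (centrallyLargeJoin X) :=
  centrally_large_basic.2.2.2.1

theorem maxAbelian_le_centrallyLargeJoin {A : Subgroup X} (hA : A ∈ maxAbelianSubgroups X) :
    A ≤ centrallyLargeJoin X := by
  have h := (centrallyLarge_sup_maxAbelian _ A isCentrallyLarge_centrallyLargeJoin hA).2.1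
  have : centrallyLargeJoin X ⊔ A ≤ centrallyLargeJoin X := le_sSup h
  exact le_sup_right.trans this

theorem centralizer_center_thompsonA_le :
    Subgroup.centralizer ((thompsonSubgroupA X ⊓
      Subgroup.centralizer (thompsonSubgroupA X : Set X) : Subgroup X) : Set X) ≤
      centrallyLargeJoin X := by
  set Q₀ := centrallyLargeJoin X with hQ₀
  have hCL : IsCentrallyLarge Q₀ := isCentrallyLarge_centrallyLargeJoin
  set Z₀ := Q₀ ⊓ Subgroup.centralizer (Q₀ : Set X) with hZ₀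
  have hJle : thompsonSubgroupA X ≤ Q₀ := sSup_le (fun A hA => maxAbelian_le_centrallyLargeJoin hA)
  -- Z(Q₀) lies in every abelian subgroup of largest order
  have hZA : ∀ A ∈ maxAbelianSubgroups X, Z₀ ≤ A := by
    intro A hA
    have hAQ : A ≤ Q₀ := maxAbelian_le_centrallyLargeJoin hA
    have h3 := (centrallyLarge_sup_maxAbelian Q₀ A hCL hA).2.2.1
    rw [sup_eq_left.mpr hAQ, inf_eq_right.mpr hAQ, centralizer_eq_of_mem_maxAbelianSubgroups hA,
      inf_eq_right.mpr hAQ] at h3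
    rw [h3]; exact le_sup_left
  obtain ⟨A, hA⟩ := exists_mem_maxAbelianSubgroups (X := X)
  have hZJ : Z₀ ≤ thompsonSubgroupA X ⊓ Subgroup.centralizer (thompsonSubgroupA X : Set X) := by
    apply le_inf
    · exact (hZA A hA).trans (le_sSup hA)
    · exact inf_le_right.trans (Subgroup.centralizer_le
        (show (thompsonSubgroupA X : Set X) ⊆ (Q₀ : Set X) from hJle))
  have hCL' := (isCentrallyLarge_iff Q₀).mp hCL
  have hCQ₀ : Subgroup.centralizer (Q₀ : Set X) = Z₀ := (inf_eq_right.mpr hCL'.2).symm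
  have hdual : Q₀ = Subgroup.centralizer ((Subgroup.centralizer (Q₀ : Set X) : Subgroup X) : Set X) :=
    (chermak_delgado_lattice Q₀ Q₀ hCL'.1 hCL'.1).2.2.2.2.1
  rw [hCQ₀] at hdual
  conv_rhs => rw [hdual]
  exact Subgroup.centralizer_le (show (Z₀ : Set X) ⊆ _ from hZJ)

theorem centrally_large_and_abelian (Q A : Subgroup X) (hQ : IsCentrallyLarge Q)
    (hA : A ∈ maxAbelianSubgroups X) :
    ((Q ⊔ A : Subgroup X) : Set X) = (Q : Set X) * (A : Set X) ∧ IsCentrallyLarge (Q ⊔ A) ∧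
    (Q ⊔ A) ⊓ Subgroup.centralizer ((Q ⊓ A : Subgroup X) : Set X) =
      (Q ⊓ Subgroup.centralizer (Q : Set X)) ⊔ A ∧
    (((Q ⊓ Subgroup.centralizer (Q : Set X)) ⊔ A : Subgroup X) : Set X) =
      ((Q ⊓ Subgroup.centralizer (Q : Set X)) : Set X) * (A : Set X) ∧
    Subgroup.centralizer ((thompsonSubgroupA X ⊓
      Subgroup.centralizer (thompsonSubgroupA X : Set X) : Subgroup X) : Set X) ≤
      centrallyLargeJoin X := by
  obtain ⟨h1, h2, h3, h4⟩ := centrallyLarge_sup_maxAbelian Q A hQ hA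
  exact ⟨h1, h2, h3, h4, centralizer_center_thompsonA_le⟩

end Cfsg.Agent.Lib.Helper7
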