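import Mathlib
import Cfsg.Prelude.Def_OddOrderLocal
import Cfsg.Agent.Lib.Helper7.Core
import Cfsg.Agent.Lib.Helper4.NarrowSolv
import Cfsg.Agent.Lib.Helper4.Rank2Aut2
import Cfsg.Agent.S1448
import Cfsg.Agent.S1449

set_option autoImplicit false
set_option linter.style.haveILetI false

namespace Cfsg.Agent.Lib.Helper7.Narrow55

open Cfsg
open scoped commutatorElement

/-- if `A' ≤ O_p(A)` then `O_p(A)` is a Sylow `p`-subgroup -/
theorem index_pCore_coprime {A : Type*} [Group A] [Finite A] {p : ℕ} [hp : Fact p.Prime]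
    (h : commutator A ≤ Cfsg.pCore p A) : ((Cfsg.pCore p A).index).Coprime p := by
  obtain ⟨S⟩ : Nonempty (Sylow p A) := inferInstance
  have hRS : pCore p A ≤ (S : Subgroup A) := Cfsg.Agent.Lib.Helper7.pCore_le_sylow S
  haveI hSn : (S : Subgroup A).Normal :=
    Cfsg.Agent.Lib.Helper4.Rank2Solv.normal_of_commutator_le (h.trans hRS)
  have hSR : (S : Subgroup A) ≤ pCore p A := Cfsg.Agent.Lib.Helper7.le_pCore hSn S.isPGroup'
  have heq : pCore p A = (S : Subgroup A) := le_antisymm hRS hSR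
  rw [heq]
  exact ((Nat.Prime.coprime_iff_not_dvd hp.out).mpr S.not_dvd_index).symm

/-- counting lemma: an automorphism of prime order `q` of a group of order `p ^ j`, `j ≤ 2`,
with `q ≠ p`, `q ∤ p - 1`, forces `q ∣ p + 1` -/
theorem dvd_succ_of_aut {V : Type*} [Group V] [Finite V] {p q j : ℕ} (hp : p.Prime) (hq : q.Prime)
    (hcard : Nat.card V = p ^ j) (hj : j ≤ 2) (τ : MulAut V) (hτq : τ ^ q = 1) (hτ1 : τ ≠ 1)
    (hqp : q ≠ p) (hq1 : ¬ q ∣ p - 1) : q ∣ p + 1 := by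
  classical
  haveI : Fact q.Prime := ⟨hq⟩
  set Z := Subgroup.zpowers τ with hZ
  have hord : orderOf τ = q := by
    have h1 : orderOf τ ∣ q := orderOf_dvd_of_pow_eq_one hτq
    rcases (Nat.dvd_prime hq).mp h1 with h | h
    · exact absurd (orderOf_eq_one_iff.mp h) hτ1
    · exact h
  have hZp : IsPGroup q ↥Z := by
    apply IsPGroup.of_card (n := 1)
    rw [pow_one, hZ, Nat.card_zpowers, hord]
  -- the fixed subgroup
  let F : Subgroup V :=
    { carrier := {v | τ v = v}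
      one_mem' := map_one τ
      mul_mem' := fun {a b} ha hb => by
        change τ (a * b) = a * b
        rw [map_mul, ha, hb]
      inv_mem' := fun {a} ha => by
        change τ a⁻¹ = a⁻¹
        rw [map_inv, ha] }
  have hfix : (MulAction.fixedPoints ↥Z V) = (F : Set V) := by
    ext v
    constructor
    · intro hv
      have := hv ⟨τ, Subgroup.mem_zpowers τ⟩
      exact this
    · intro hv z
      have hle : Z ≤ MulAction.stabilizer (MulAut V) v := by
        rw [hZ, Subgroup.zpowers_le]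
        exact hv
      exact hle z.2
  have hmod := hZp.card_modEq_card_fixedPoints V
  have hFcard : Nat.card (MulAction.fixedPoints ↥Z V) = Nat.card ↥F := by
    rw [hfix]
    rfl
  rw [hFcard, hcard] at hmod
  have hFd : Nat.card ↥F ∣ p ^ j := hcard ▸ Subgroup.card_subgroup_dvd_card F
  obtain ⟨i, hij, hi⟩ := (Nat.dvd_prime_pow hp).mp hFd
  have hne : i ≠ j := by
    intro h
    apply hτ1
    have htop : F = ⊤ := by
      apply Subgroup.eq_top_of_card_eq
      rw [hi, h, hcard]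
    apply MulEquiv.ext
    intro v
    have : v ∈ F := by rw [htop]; trivial
    exact this
  have hlt : i < j := lt_of_le_of_ne hij hne
  rw [hi] at hmod
  have hdvd : q ∣ p ^ j - p ^ i :=
    (Nat.modEq_iff_dvd' (Nat.pow_le_pow_right hp.pos hij)).mp hmod.symm
  have h2 := hp.two_le
  have hcases : (i = 0 ∧ j = 1) ∨ (i = 0 ∧ j = 2) ∨ (i = 1 ∧ j = 2) := by omega
  rcases hcases with ⟨rfl, rfl⟩ | ⟨rfl, rfl⟩ | ⟨rfl, rfl⟩
  · exfalso
    apply hq1
    simpa using hdvd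
  · have h3 : p ^ 2 - p ^ 0 = (p - 1) * (p + 1) := by
      obtain ⟨k, rfl⟩ : ∃ k, p = k + 1 := ⟨p - 1, by omega⟩
      simp only [pow_zero, Nat.add_sub_cancel]
      have : (k + 1) ^ 2 = k * (k + 1 + 1) + 1 := by ring
      rw [this]
      simp
    rw [h3] at hdvd
    rcases (Nat.Prime.dvd_mul hq).mp hdvd with h | h
    · exact absurd h hq1
    · exact h
  · exfalso
    have h3 : p ^ 2 - p ^ 1 = p * (p - 1) := by
      obtain ⟨k, rfl⟩ : ∃ k, p = k + 1 := ⟨p - 1, by omega⟩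
      simp only [pow_one, Nat.add_sub_cancel]
      have : (k + 1) ^ 2 = (k + 1) * k + (k + 1) := by ring
      rw [this]
      simp
    rw [h3] at hdvd
    rcases (Nat.Prime.dvd_mul hq).mp hdvd with h | h
    · exact hqp ((Nat.prime_dvd_prime_iff_eq hq hp).mp h)
    · exact hq1 h


open Cfsg.Agent.Lib.Helper4.Rank2Aut Cfsg.Agent.Lib.Helper4.Rank2Aut2

section main

variable {G : Type*} [Group G] [Finite G] {p : ℕ} [hp' : Fact p.Prime]

/-- in the narrow case of rank at least three, the automorphism group is as in B&G 5.5 -/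
theorem autNarrow_of_narrow (hp : p ≠ 2) (R : Subgroup G) (hR : IsPGroup p R)
    (hRn : Cfsg.IsNarrow p R) (hr : ¬ Cfsg.PRankLE p 2 R) :
    Cfsg.Agent.Lib.Helper4.NarrowSolv.AutNarrow p ↥R := by
  rcases hRn with h | ⟨R₀, R₁, h0, h1, -, hcomm, hC⟩
  · exact absurd h hr
  have hE₀ : IsElementaryAbelian p R₀ := by
    haveI : IsCyclic ↥R₀ := isCyclic_of_prime_card h0
    refine ⟨IsCyclic.isMulCommutative, fun a ha => ?_⟩
    have := pow_card_eq_one' (G := ↥R₀) (x := ⟨a, ha⟩)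
    rw [h0] at this
    have h9 := congrArg Subtype.val this
    simpa using h9
  have hc : PRankLE p 2 ↥(Subgroup.centralizer (R₀ : Set ↥R)) := by
    rw [← hC]
    exact Cfsg.Agent.Lib.Helper4.NarrowSolv.pRankLE_of_mul R₀ R₁ h0 h1 hcomm
  exact Cfsg.Agent.Lib.Helper4.NarrowData.narrow_aut hp hR hr R₀ hE₀ hc

/-- part (1a): `A'` is a `p`-group -/
theorem isPGroup_commutator (hp : p ≠ 2) (R A : Subgroup G) (hR : IsPGroup p R)
    (hRn : Cfsg.IsNarrow p R) (hA : A ≤ Subgroup.normalizer (R : Set G))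
    (hAs : Group.IsSolvable A) (hAodd : Odd (Nat.card A))
    (hfaith : A ⊓ Subgroup.centralizer (R : Set G) = ⊥) : IsPGroup p ↥(commutator ↥A) := by
  by_cases hr : Cfsg.PRankLE p 2 R
  · have h1 := Cfsg.Agent.S1449.result p hp R A hR hr hA hAs hAodd hfaith
    rintro ⟨y, hy⟩
    have hmem : (y : G) ∈ ⁅A, A⁆ := by
      rw [← Subgroup.map_subtype_commutator]
      exact Subgroup.mem_map_of_mem _ hy
    obtain ⟨k, hk⟩ := h1 ⟨_, hmem⟩
    refine ⟨k, ?_⟩
    have h2 := congrArg Subtype.val hk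
    apply Subtype.ext
    apply Subtype.ext
    simpa using h2
  · have hAN := autNarrow_of_narrow hp R hR hRn hr
    have hinj := Cfsg.Agent.Lib.Helper4.Rank2Aut.conjHom_injective R A hA hfaith
    set c := Cfsg.Agent.Lib.Helper4.Rank2Aut.conjHom R A hA with hc
    rintro ⟨y, hy⟩
    have hmem : c y ∈ commutator (MulAut ↥R) :=
      Cfsg.Agent.Lib.Helper4.Rank2Aut.map_commutator_le c (Subgroup.mem_map_of_mem _ hy)
    obtain ⟨k, hk⟩ := hAN.2 _ hmem
    refine ⟨k, ?_⟩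
    have h3 : c (y ^ p ^ k) = 1 := by rw [map_pow]; exact hk
    have h4 : y ^ p ^ k = 1 := hinj (by rw [h3, map_one])
    apply Subtype.ext
    simpa using h4

/-- part (2) -/
theorem orderOf_dvd_pred (hp : p ≠ 2) (R A : Subgroup G) (hR : IsPGroup p R)
    (hRn : Cfsg.IsNarrow p R) (hA : A ≤ Subgroup.normalizer (R : Set G))
    (hfaith : A ⊓ Subgroup.centralizer (R : Set G) = ⊥) (hr : ¬ Cfsg.PRankLE p 2 R)
    (a : G) (ha : a ∈ A) (hcop : (orderOf a).Coprime p) : orderOf a ∣ p - 1 := by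
  have hAN := autNarrow_of_narrow hp R hR hRn hr
  have hinj := Cfsg.Agent.Lib.Helper4.Rank2Aut.conjHom_injective R A hA hfaith
  set c := Cfsg.Agent.Lib.Helper4.Rank2Aut.conjHom R A hA with hc
  have h1 : (c ⟨a, ha⟩) ^ (orderOf a) = 1 := by
    rw [← map_pow]
    have : (⟨a, ha⟩ : ↥A) ^ orderOf a = 1 := by
      apply Subtype.ext
      simp [pow_orderOf_eq_one]
    rw [this, map_one]
  have h2 := hAN.1 _ _ h1 hcop
  rw [← map_pow] at h2
  have h3 : (⟨a, ha⟩ : ↥A) ^ (p - 1) = 1 := hinj (by rw [h2, map_one])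
  have h4 : a ^ (p - 1) = 1 := by
    have := congrArg Subtype.val h3
    simpa using this
  exact orderOf_dvd_of_pow_eq_one h4

end main

/-! ### auxiliary lemmas for part (3) -/

/-- an automorphism of prime order `q` (`q ≠ p`, `q ∤ p - 1`) of a cyclic `p`-group is trivial -/
theorem aut_cyclic_eq_one {T : Type*} [Group T] [Finite T] [IsCyclic T] {p q : ℕ} (hp : p.Prime)
    (hq : q.Prime) (hT : IsPGroup p T) (ρ : MulAut T) (hρ : ρ ^ q = 1) (hqp : q ≠ p)
    (hq1 : ¬ q ∣ p - 1) : ρ = 1 := by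
  haveI : Fact p.Prime := ⟨hp⟩
  obtain ⟨e, he⟩ := IsPGroup.iff_card.mp hT
  have hcard := IsCyclic.card_mulAut T
  have h1 : orderOf ρ ∣ q := orderOf_dvd_of_pow_eq_one hρ
  have h2 : orderOf ρ ∣ Nat.card (MulAut T) := orderOf_dvd_natCard ρ
  rcases (Nat.dvd_prime hq).mp h1 with h | h
  · exact orderOf_eq_one_iff.mp h
  · exfalso
    rw [h, hcard, he] at h2
    rcases Nat.eq_zero_or_pos e with h0 | h0
    · rw [h0, pow_zero, Nat.totient_one] at h2
      exact hq.one_lt.ne' (Nat.dvd_one.mp h2)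
    · rw [Nat.totient_prime_pow hp h0] at h2
      rcases (Nat.Prime.dvd_mul hq).mp h2 with h3 | h3
      · exact hqp ((Nat.prime_dvd_prime_iff_eq hq hp).mp (hq.dvd_of_dvd_pow h3))
      · exact hq1 h3

/-- elements of the join of two elementwise commuting subgroups are products -/
theorem exists_mul_of_mem_sup {G : Type*} [Group G] (R₁ R₂ : Subgroup G)
    (hcomm : ∀ a ∈ R₁, ∀ b ∈ R₂, a * b = b * a) {x : G} (hx : x ∈ R₁ ⊔ R₂) :
    ∃ a ∈ R₁, ∃ b ∈ R₂, x = a * b := by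
  let P : Subgroup G :=
    { carrier := {x | ∃ a ∈ R₁, ∃ b ∈ R₂, x = a * b}
      one_mem' := ⟨1, R₁.one_mem, 1, R₂.one_mem, (mul_one 1).symm⟩
      mul_mem' := by
        rintro x y ⟨a, ha, b, hb, rfl⟩ ⟨c, hc, d, hd, rfl⟩
        refine ⟨a * c, R₁.mul_mem ha hc, b * d, R₂.mul_mem hb hd, ?_⟩
        calc a * b * (c * d) = a * (b * c) * d := by group
          _ = a * (c * b) * d := by rw [hcomm c hc b hb]
          _ = a * c * (b * d) := by group
      inv_mem' := by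
        rintro x ⟨a, ha, b, hb, rfl⟩
        refine ⟨a⁻¹, R₁.inv_mem ha, b⁻¹, R₂.inv_mem hb, ?_⟩
        rw [mul_inv_rev, hcomm a⁻¹ (R₁.inv_mem ha) b⁻¹ (R₂.inv_mem hb)] }
  have h1 : R₁ ≤ P := fun a ha => ⟨a, ha, 1, R₂.one_mem, (mul_one a).symm⟩
  have h2 : R₂ ≤ P := fun b hb => ⟨1, R₁.one_mem, b, hb, (one_mul b).symm⟩
  exact (sup_le h1 h2) hx

/-- in a central product of a group of exponent `p` and an abelian group, the `p`-th power map is
multiplicative with values in the abelian factor -/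
theorem pow_of_mem_sup {G : Type*} [Group G] (R₁ R₂ : Subgroup G)
    (hcomm : ∀ a ∈ R₁, ∀ b ∈ R₂, a * b = b * a) {p : ℕ} (h1 : ∀ a ∈ R₁, a ^ p = 1)
    {x : G} (hx : x ∈ R₁ ⊔ R₂) : x ^ p ∈ R₂ := by
  obtain ⟨a, ha, b, hb, rfl⟩ := exists_mul_of_mem_sup R₁ R₂ hcomm hx
  have hc : Commute a b := hcomm a ha b hb
  rw [hc.mul_pow, h1 a ha, one_mul]
  exact R₂.pow_mem hb p

theorem mul_pow_of_mem_sup {G : Type*} [Group G] (R₁ R₂ : Subgroup G)
    (hcomm : ∀ a ∈ R₁, ∀ b ∈ R₂, a * b = b * a) {p : ℕ} (h1 : ∀ a ∈ R₁, a ^ p = 1)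
    (h2 : ∀ b ∈ R₂, ∀ d ∈ R₂, b * d = d * b)
    {x y : G} (hx : x ∈ R₁ ⊔ R₂) (hy : y ∈ R₁ ⊔ R₂) : (x * y) ^ p = x ^ p * y ^ p := by
  obtain ⟨a, ha, b, hb, rfl⟩ := exists_mul_of_mem_sup R₁ R₂ hcomm hx
  obtain ⟨c, hc, d, hd, rfl⟩ := exists_mul_of_mem_sup R₁ R₂ hcomm hy
  have hab : Commute a b := hcomm a ha b hb
  have hcd : Commute c d := hcomm c hc d hd
  have hbd : Commute b d := h2 b hb d hd
  have hacbd : Commute (a * c) (b * d) := hcomm _ (R₁.mul_mem ha hc) _ (R₂.mul_mem hb hd)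
  have e : a * b * (c * d) = a * c * (b * d) := by
    calc a * b * (c * d) = a * (b * c) * d := by group
      _ = a * (c * b) * d := by rw [hcomm c hc b hb]
      _ = a * c * (b * d) := by group
  rw [e, hacbd.mul_pow, h1 _ (R₁.mul_mem ha hc), one_mul, hbd.mul_pow, hab.mul_pow, hcd.mul_pow,
    h1 a ha, h1 c hc, one_mul, one_mul]

/-- B&G 5.5(c) key step: `R = R₁R₂` central product with `R₁` of exponent `p` and `R₂` cyclic,
`A` of prime order `q ∤ p(p-1)` normalizing `R` with `[R,A] = R`; then `R` has exponent `p` -/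
theorem pow_eq_one_of_cprod {G : Type*} [Group G] [Finite G] {p : ℕ} [hp' : Fact p.Prime]
    (R A R₁ R₂ : Subgroup G) (hR : IsPGroup p R) (hA : A ≤ Subgroup.normalizer (R : Set G))
    (hq : (Nat.card A).Prime) (hqp : Nat.card A ≠ p) (hq1 : ¬ Nat.card A ∣ p - 1)
    (hRA : ⁅R, A⁆ = R) (h12 : R₁ ⊔ R₂ = R) (hcomm : ∀ a ∈ R₁, ∀ b ∈ R₂, a * b = b * a)
    (h1 : ∀ a ∈ R₁, a ^ p = 1) [hcyc : IsCyclic R₂] : ∀ x ∈ R, x ^ p = 1 := by
  have h2 : ∀ b ∈ R₂, ∀ d ∈ R₂, b * d = d * b := by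
    intro b hb d hd
    haveI : IsMulCommutative ↥R₂ := IsCyclic.isMulCommutative
    have := IsMulCommutative.is_comm.comm (⟨b, hb⟩ : ↥R₂) ⟨d, hd⟩
    exact congrArg Subtype.val this
  have hmul : ∀ x ∈ R, ∀ y ∈ R, (x * y) ^ p = x ^ p * y ^ p := by
    intro x hx y hy
    rw [← h12] at hx hy
    exact mul_pow_of_mem_sup R₁ R₂ hcomm h1 h2 hx hy
  have hpowR2 : ∀ x ∈ R, x ^ p ∈ R₂ := fun x hx => pow_of_mem_sup R₁ R₂ hcomm h1 (h12 ▸ hx)
  -- T
  let T : Subgroup G :=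
    { carrier := {y | ∃ x ∈ R, x ^ p = y}
      one_mem' := ⟨1, R.one_mem, one_pow p⟩
      mul_mem' := by
        rintro _ _ ⟨x, hx, rfl⟩ ⟨y, hy, rfl⟩
        exact ⟨x * y, R.mul_mem hx hy, hmul x hx y hy⟩
      inv_mem' := by
        rintro _ ⟨x, hx, rfl⟩
        exact ⟨x⁻¹, R.inv_mem hx, inv_pow x p⟩ }
  have hTR2 : T ≤ R₂ := by rintro _ ⟨x, hx, rfl⟩; exact hpowR2 x hx
  have hTR : T ≤ R := by rintro _ ⟨x, hx, rfl⟩; exact R.pow_mem hx p
  haveI : IsCyclic ↥T := Subgroup.isCyclic_of_le hTR2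
  have hTp : IsPGroup p ↥T := hR.to_le hTR
  have hAT : A ≤ Subgroup.normalizer (T : Set G) := by
    intro a ha
    rw [Subgroup.mem_normalizer_iff]
    intro t
    constructor
    · rintro ⟨x, hx, rfl⟩
      refine ⟨a * x * a⁻¹, (Subgroup.mem_normalizer_iff.mp (hA ha) x).mp hx, ?_⟩
      rw [conj_pow]
    · rintro ⟨x, hx, hxt⟩
      refine ⟨a⁻¹ * x * a, ?_, ?_⟩
      · have := (Subgroup.mem_normalizer_iff.mp (Subgroup.inv_mem _ (hA ha)) x).mp hx
        simpa using this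
      · have : a⁻¹ * x * a = a⁻¹ * x * a⁻¹⁻¹ := by rw [inv_inv]
        rw [this, conj_pow, hxt]; group
  -- every a ∈ A centralizes T
  have hfix : ∀ a ∈ A, ∀ t ∈ T, a * t * a⁻¹ = t := by
    intro a ha t ht
    set ρ := Cfsg.Agent.Lib.Helper4.Rank2Aut.conjHom T A hAT ⟨a, ha⟩ with hρ
    have hρq : ρ ^ (Nat.card A) = 1 := by
      rw [hρ, ← map_pow, pow_card_eq_one', map_one]
    have h1' := aut_cyclic_eq_one hp'.out hq hTp ρ hρq hqp hq1
    have := congrArg (fun σ : MulAut ↥T => ((σ ⟨t, ht⟩ : ↥T) : G)) h1'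
    simpa [hρ, Cfsg.Agent.Lib.Helper4.Rank2Aut.conjHom_apply] using this
  -- K
  let K : Subgroup G :=
    { carrier := {x | x ∈ R ∧ x ^ p = 1}
      one_mem' := ⟨R.one_mem, one_pow p⟩
      mul_mem' := by
        rintro x y ⟨hx, hx1⟩ ⟨hy, hy1⟩
        exact ⟨R.mul_mem hx hy, by rw [hmul x hx y hy, hx1, hy1, one_mul]⟩
      inv_mem' := by
        rintro x ⟨hx, hx1⟩
        exact ⟨R.inv_mem hx, by rw [inv_pow, hx1, inv_one]⟩ }
  have hle : ⁅R, A⁆ ≤ K := by
    rw [Subgroup.commutator_le]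
    intro r hr a ha
    have hy : a * r⁻¹ * a⁻¹ ∈ R := (Subgroup.mem_normalizer_iff.mp (hA ha) r⁻¹).mp (R.inv_mem hr)
    have e : ⁅r, a⁆ = r * (a * r⁻¹ * a⁻¹) := by rw [commutatorElement_def]; group
    rw [e]
    refine ⟨R.mul_mem hr hy, ?_⟩
    rw [hmul r hr _ hy, conj_pow, hfix a ha _ ⟨r⁻¹, R.inv_mem hr, rfl⟩, inv_pow, mul_inv_cancel]
  intro x hx
  rw [← hRA] at hx
  exact (hle hx).2

section main2

variable {G : Type*} [Group G] [Finite G] {p : ℕ} [hp' : Fact p.Prime]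

theorem exists_ne_one_of_prime_card (A : Subgroup G) (hq : (Nat.card A).Prime) :
    ∃ a : ↥A, a ≠ 1 := by
  haveI : Nontrivial ↥A := by
    rw [← Finite.one_lt_card_iff_nontrivial]
    exact hq.one_lt
  exact exists_ne 1

/-- in part (3) the rank is at most two -/
theorem pRankLE_of_prime_card (hp : p ≠ 2) (R A : Subgroup G) (hR : IsPGroup p R)
    (hRn : Cfsg.IsNarrow p R) (hA : A ≤ Subgroup.normalizer (R : Set G))
    (hfaith : A ⊓ Subgroup.centralizer (R : Set G) = ⊥)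
    (hq : (Nat.card A).Prime) (hqp : Nat.card A ≠ p) (hq1 : ¬ Nat.card A ∣ p - 1) :
    Cfsg.PRankLE p 2 R := by
  by_contra hr
  obtain ⟨a, ha1⟩ := exists_ne_one_of_prime_card A hq
  have hord : orderOf a = Nat.card A := by
    rcases (Nat.dvd_prime hq).mp (orderOf_dvd_natCard a) with h | h
    · exact absurd (orderOf_eq_one_iff.mp h) ha1
    · exact h
  have hord' : orderOf (a : G) = Nat.card A := by rw [Subgroup.orderOf_coe, hord]
  have hcop : (orderOf (a : G)).Coprime p := by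
    rw [hord']
    exact (Nat.coprime_primes hq hp'.out).mpr hqp
  have := orderOf_dvd_pred hp R A hR hRn hA hfaith hr a.1 a.2 hcop
  rw [hord'] at this
  exact hq1 this

/-- part (3a) -/
theorem two_mul_dvd_succ (hp : p ≠ 2) (R A : Subgroup G) (hR : IsPGroup p R)
    (hr : Cfsg.PRankLE p 2 R) (hA : A ≤ Subgroup.normalizer (R : Set G))
    (hAodd : Odd (Nat.card A)) (hfaith : A ⊓ Subgroup.centralizer (R : Set G) = ⊥)
    (hq : (Nat.card A).Prime) (hqp : Nat.card A ≠ p) (hq1 : ¬ Nat.card A ∣ p - 1) :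
    2 * Nat.card A ∣ p + 1 := by
  obtain ⟨a, ha1⟩ := exists_ne_one_of_prime_card A hq
  obtain ⟨C, hC, hmul, hE, j, hj2, hj⟩ := exists_setup hp hR hr
  have hinj := Cfsg.Agent.Lib.Helper4.Rank2Aut.conjHom_injective R A hA hfaith
  set σ := Cfsg.Agent.Lib.Helper4.Rank2Aut.conjHom R A hA a with hσ
  have hσq : σ ^ (Nat.card A) = 1 := by rw [hσ, ← map_pow, pow_card_eq_one', map_one]
  have hσ1 : σ ≠ 1 := fun h => ha1 (hinj (by rw [← hσ, h, map_one]))
  have hcop : (Nat.card A).Coprime p := (Nat.coprime_primes hq hp'.out).mpr hqp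
  set τ := abAut ↥(omega C hmul) (resInv (omega C hmul) hE σ) with hτ
  have hτq : τ ^ (Nat.card A) = 1 := by rw [hτ, ← map_pow, ← map_pow, hσq, map_one, map_one]
  have hτ1 : τ ≠ 1 := fun h => hσ1 (eq_one_of_abAut_eq_one hC hR hmul hE σ h hσq hcop)
  have hdvd : Nat.card A ∣ p + 1 := dvd_succ_of_aut hp'.out hq hj hj2 τ hτq hτ1 hqp hq1
  have h2 : 2 ∣ p + 1 := by
    rcases hp'.out.eq_two_or_odd' with h | h
    · exact absurd h hp
    · obtain ⟨k, hk⟩ := h
      exact ⟨k + 1, by omega⟩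
  have hc2 : Nat.Coprime 2 (Nat.card A) := Nat.coprime_two_left.mpr hAodd
  exact hc2.mul_dvd_of_dvd_of_dvd h2 hdvd

/-- part (3b) -/
theorem card_eq_cube (hp : p ≠ 2) (R A : Subgroup G) (hR : IsPGroup p R)
    (hr : Cfsg.PRankLE p 2 R) (hA : A ≤ Subgroup.normalizer (R : Set G))
    (hAodd : Odd (Nat.card A))
    (hq : (Nat.card A).Prime) (hqp : Nat.card A ≠ p) (hq1 : ¬ Nat.card A ∣ p - 1)
    (hRA : ⁅R, A⁆ = R) (hnc : ¬ IsMulCommutative R) : Nat.card R = p ^ 3 := by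
  have hR1 : R ≠ ⊥ := by
    rintro rfl
    apply hnc
    exact ⟨⟨fun a b => Subsingleton.elim _ _⟩⟩
  have hcop : (Nat.card A).Coprime p := (Nat.coprime_primes hq hp'.out).mpr hqp
  obtain ⟨-, h | ⟨R₁, R₂, h12, hcomm, -, hR1card, hexp, hcyc, hcl⟩⟩ :=
    Cfsg.Agent.S1448.result p hp R A hR hR1 hr hA hcop hAodd hRA
  · exact absurd h hnc
  haveI := hcyc
  have h1 : ∀ a ∈ R₁, a ^ p = 1 := by
    intro a ha
    have := Monoid.pow_exponent_eq_one (⟨a, ha⟩ : ↥R₁)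
    rw [hexp] at this
    have h9 := congrArg Subtype.val this
    simpa using h9
  have hexpR := pow_eq_one_of_cprod R A R₁ R₂ hR hA hq hqp hq1 hRA h12 hcomm h1
  have hR2R : R₂ ≤ R := h12 ▸ le_sup_right
  have hR2R1 : R₂ ≤ R₁ := by
    intro x hx
    have hxc : x ∈ Subgroup.closure {x : G | x ∈ R₂ ∧ x ^ p = 1} :=
      Subgroup.subset_closure ⟨hx, hexpR x (hR2R hx)⟩
    rw [hcl] at hxc
    have hle : ⁅R₁, R₁⁆ ≤ R₁ := by
      rw [Subgroup.commutator_le]
      intro a ha b hb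
      rw [commutatorElement_def]
      exact R₁.mul_mem (R₁.mul_mem (R₁.mul_mem ha hb) (R₁.inv_mem ha)) (R₁.inv_mem hb)
    exact hle hxc
  have : R = R₁ := by rw [← h12]; exact sup_eq_left.mpr hR2R1
  rw [this, hR1card]

/-- B&G Theorem 5.5 (as stated in S1454) -/
theorem main_theorem (hp : p ≠ 2) (R A : Subgroup G) (hR : IsPGroup p R)
    (hRn : Cfsg.IsNarrow p R) (hA : A ≤ Subgroup.normalizer (R : Set G))
    (hAs : Group.IsSolvable A) (hAodd : Odd (Nat.card A))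
    (hfaith : A ⊓ Subgroup.centralizer (R : Set G) = ⊥) :
    (commutator ↥A ≤ Cfsg.pCore p ↥A ∧ ((Cfsg.pCore p ↥A).index).Coprime p) ∧
      (¬ Cfsg.PRankLE p 2 R → ∀ a ∈ A, (orderOf a).Coprime p → orderOf a ∣ p - 1) ∧
      ((Nat.card A).Prime → ¬ Nat.card A ∣ p * (p - 1) →
        2 * Nat.card A ∣ p + 1 ∧ (⁅R, A⁆ = R → ¬ IsMulCommutative R → Nat.card R = p ^ 3)) := by
  have h1 := isPGroup_commutator hp R A hR hRn hA hAs hAodd hfaith
  have h1' : commutator ↥A ≤ Cfsg.pCore p ↥A :=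
    Cfsg.Agent.Lib.Helper7.le_pCore (inferInstance : (commutator ↥A).Normal) h1
  refine ⟨⟨h1', index_pCore_coprime h1'⟩,
    fun hr a ha hcop => orderOf_dvd_pred hp R A hR hRn hA hfaith hr a ha hcop, ?_⟩
  intro hq hnd
  have hqp : Nat.card A ≠ p := fun h => hnd (h ▸ Dvd.intro _ rfl)
  have hq1 : ¬ Nat.card A ∣ p - 1 := fun h => hnd (Dvd.dvd.mul_left h p)
  have hr := pRankLE_of_prime_card hp R A hR hRn hA hfaith hq hqp hq1
  exact ⟨two_mul_dvd_succ hp R A hR hr hA hAodd hfaith hq hqp hq1,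
    fun hRA hnc => card_eq_cube hp R A hR hr hA hAodd hq hqp hq1 hRA hnc⟩

end main2

end Cfsg.Agent.Lib.Helper7.Narrow55
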