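import Mathlib
import Cfsg.Prelude.Def_OddOrderLocal
import Cfsg.Agent.Lib.Helper8.BGTenA
import Cfsg.Agent.Lib.Lead.PiCore

set_option autoImplicit false
set_option linter.unusedVariables false
set_option linter.unusedSectionVars false
set_option linter.style.haveILetI false

namespace Cfsg.Agent.Lib.BG127H7

open Cfsg Cfsg.Agent.Lib.Helper8.BGTen Cfsg.Agent.Lib.Lead.Conj

universe u
variable {G : Type u} [Group G]

/-- a subgroup of prime order is generated by each of its non-identity elements -/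
theorem zpowers_eq_of_prime_card {p : ℕ} (hp : p.Prime) {X : Subgroup G} (hX : Nat.card ↥X = p)
    {x : G} (hx : x ∈ X) (hx1 : x ≠ 1) : Subgroup.zpowers x = X := by
  haveI : Finite ↥X := Nat.finite_of_card_ne_zero (by rw [hX]; exact hp.ne_zero)
  have hle : Subgroup.zpowers x ≤ X := by rw [Subgroup.zpowers_le]; exact hx
  apply Subgroup.eq_of_le_of_card_ge hle
  rw [hX, Nat.card_zpowers]
  have h1 : orderOf x ∣ p := by
    have := Subgroup.card_dvd_of_le hle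
    rwa [Nat.card_zpowers, hX] at this
  rcases (Nat.dvd_prime hp).mp h1 with h | h
  · exact absurd (orderOf_eq_one_iff.mp h) hx1
  · exact h.ge

theorem orderOf_eq_of_prime_card {p : ℕ} (hp : p.Prime) {X : Subgroup G} (hX : Nat.card ↥X = p)
    {x : G} (hx : x ∈ X) (hx1 : x ≠ 1) : orderOf x = p := by
  rw [← Nat.card_zpowers, zpowers_eq_of_prime_card hp hX hx hx1, hX]

/-- two distinct subgroups of the same prime order meet trivially -/
theorem mem_inf_prime_card {p : ℕ} (hp : p.Prime) {X Y : Subgroup G} (hX : Nat.card ↥X = p)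
    (hY : Nat.card ↥Y = p) (hne : X ≠ Y) {x : G} (hxX : x ∈ X) (hxY : x ∈ Y) : x = 1 := by
  by_contra hx1
  apply hne
  rw [← zpowers_eq_of_prime_card hp hX hxX hx1, ← zpowers_eq_of_prime_card hp hY hxY hx1]

theorem exists_ne_one_of_card_prime {p : ℕ} (hp : p.Prime) {X : Subgroup G} (hX : Nat.card ↥X = p) :
    ∃ x ∈ X, x ≠ 1 := by
  haveI : Finite ↥X := Nat.finite_of_card_ne_zero (by rw [hX]; exact hp.ne_zero)
  by_contra hcon
  push_neg at hcon
  have : X = ⊥ := by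
    rw [eq_bot_iff]; intro x hx; exact Subgroup.mem_bot.mpr (hcon x hx)
  rw [this, Subgroup.card_bot] at hX
  exact hp.one_lt.ne hX


theorem comm_of_elem {p : ℕ} {A : Subgroup G} (hA : Cfsg.IsElementaryAbelian p A) {a b : G}
    (ha : a ∈ A) (hb : b ∈ A) : a * b = b * a := by
  have := hA.1.is_comm.comm (⟨a, ha⟩ : ↥A) ⟨b, hb⟩
  exact congrArg Subtype.val this

/-- elements of the join of two elementwise commuting subgroups are products -/
theorem mem_sup_comm (R₁ R₂ : Subgroup G)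
    (hcomm : ∀ a ∈ R₁, ∀ b ∈ R₂, a * b = b * a) {x : G} (hx : x ∈ R₁ ⊔ R₂) :
    ∃ a ∈ R₁, ∃ b ∈ R₂, x = a * b := by
  let P : Subgroup G :=
    { carrier := {x | ∃ a ∈ R₁, ∃ b ∈ R₂, x = a * b}
      one_mem' := ⟨1, R₁.one_mem, 1, R₂.one_mem, (mul_one 1).symm⟩
      mul_mem' := by
        rintro x y ⟨a, ha, b, hb, rfl⟩ ⟨c, hc, d, hd, rfl⟩
        refine ⟨a * c, R₁.mul_mem ha hc, b * d, R₂.mul_mem hb hd, ?_⟩
        calc a * b * (c * d) = a * (b * c) * d := by group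
          _ = a * (c * b) * d := by rw [hcomm c hc b hb]
          _ = a * c * (b * d) := by group
      inv_mem' := by
        rintro x ⟨a, ha, b, hb, rfl⟩
        refine ⟨a⁻¹, R₁.inv_mem ha, b⁻¹, R₂.inv_mem hb, ?_⟩
        rw [mul_inv_rev, hcomm a⁻¹ (R₁.inv_mem ha) b⁻¹ (R₂.inv_mem hb)] }
  have h1 : R₁ ≤ P := fun a ha => ⟨a, ha, 1, R₂.one_mem, (mul_one a).symm⟩
  have h2 : R₂ ≤ P := fun b hb => ⟨1, R₁.one_mem, b, hb, (one_mul b).symm⟩
  exact (sup_le h1 h2) hx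

section lines

variable {p : ℕ} {A Z0 : Subgroup G}

/-- coordinates in an elementary abelian group of order `p²` -/
theorem exists_pow_mul (hp : p.Prime) (hAel : Cfsg.IsElementaryAbelian p A) (hAc : Nat.card ↥A = p ^ 2)
    (hZ0A : Z0 ≤ A) (hZ0c : Nat.card ↥Z0 = p) {x : G} (hxA : x ∈ A) (hxZ : x ∉ Z0) {a : G}
    (ha : a ∈ A) : ∃ i : ℕ, ∃ w ∈ Z0, a = x ^ i * w := by
  haveI : Finite ↥A := Nat.finite_of_card_ne_zero (by rw [hAc]; exact pow_ne_zero _ hp.ne_zero)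
  set H : Subgroup G := Subgroup.zpowers x ⊔ Z0 with hH
  have hHA : H ≤ A := sup_le (by rw [Subgroup.zpowers_le]; exact hxA) hZ0A
  haveI : Finite ↥H := Finite.of_injective (Subgroup.inclusion hHA) (Subgroup.inclusion_injective hHA)
  have hxH : x ∈ H := (le_sup_left : Subgroup.zpowers x ≤ H) (Subgroup.mem_zpowers x)
  have hZH : Z0 ≤ H := le_sup_right
  have hcard : Nat.card ↥H = p ^ 2 := by
    have h1 : Nat.card ↥H ∣ p ^ 2 := hAc ▸ Subgroup.card_dvd_of_le hHA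
    obtain ⟨m, hm, hHm⟩ := (Nat.dvd_prime_pow hp).mp h1
    interval_cases m
    · exfalso
      rw [pow_zero] at hHm
      have : H = ⊥ := Subgroup.card_eq_one.mp hHm
      rw [this, Subgroup.mem_bot] at hxH
      exact hxZ (hxH ▸ Z0.one_mem)
    · exfalso
      rw [pow_one] at hHm
      have : Z0 = H := Subgroup.eq_of_le_of_card_ge hZH (by rw [hHm, hZ0c])
      exact hxZ (this ▸ hxH)
    · exact hHm
  have hHeq : H = A := Subgroup.eq_of_le_of_card_ge hHA (by rw [hcard, hAc])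
  have haH : a ∈ H := hHeq ▸ ha
  obtain ⟨u, hu, w, hw, rfl⟩ := mem_sup_comm (Subgroup.zpowers x) Z0
    (fun u hu w hw => comm_of_elem hAel
      ((by rw [Subgroup.zpowers_le]; exact hxA : Subgroup.zpowers x ≤ A) hu) (hZ0A hw)) haH
  have hfin : IsOfFinOrder x := isOfFinOrder_iff_pow_eq_one.mpr ⟨p, hp.pos, hAel.2 x hxA⟩
  obtain ⟨i, rfl⟩ := (Submonoid.mem_powers_iff _ _).mp (hfin.mem_powers_iff_mem_zpowers.mpr hu)
  exact ⟨i, w, hw, rfl⟩


theorem conj_pow_mul_eq {y : G} {Z0 : Subgroup G} (hyZ : y ∈ Subgroup.centralizer (Z0 : Set G))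
    {w : G} (hw : w ∈ Z0) : y * w * y⁻¹ = w := by
  have := (Subgroup.mem_centralizer_iff.mp hyZ) w hw
  rw [← this]; group

/-- **Lines lemma**: a `p`-element `y` normalizing `A ≅ E_{p²}`, centralizing the line `Z0` and not
centralizing `A` permutes the other `p` lines of `A` transitively -/
theorem lines (hp : p.Prime) (hAel : Cfsg.IsElementaryAbelian p A) (hAc : Nat.card ↥A = p ^ 2)
    (hZ0A : Z0 ≤ A) (hZ0c : Nat.card ↥Z0 = p)
    {y : G} (hyN : y ∈ Subgroup.normalizer (A : Set G)) (hyZ : y ∈ Subgroup.centralizer (Z0 : Set G))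
    (hyA : y ∉ Subgroup.centralizer (A : Set G)) {k : ℕ} (hyk : y ^ (p ^ k) = 1)
    {X0 X : Subgroup G} (hX0A : X0 ≤ A) (hX0c : Nat.card ↥X0 = p) (hX0Z : X0 ≠ Z0)
    (hXA : X ≤ A) (hXc : Nat.card ↥X = p) (hXZ : X ≠ Z0) :
    ∃ n : ℕ, X = cj (y ^ n) X0 := by
  haveI : Fact p.Prime := ⟨hp⟩
  obtain ⟨x, hxX0, hx1⟩ := exists_ne_one_of_card_prime hp hX0c
  have hxA : x ∈ A := hX0A hxX0
  have hxZ : x ∉ Z0 := fun h => hx1 (mem_inf_prime_card hp hX0c hZ0c hX0Z hxX0 h)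
  have hxo : orderOf x = p := orderOf_eq_of_prime_card hp hX0c hxX0 hx1
  have hconjA : ∀ a ∈ A, y * a * y⁻¹ ∈ A := fun a ha =>
    (Subgroup.mem_normalizer_iff.mp hyN a).mp ha
  have hcz : ∀ w ∈ Z0, y * w * y⁻¹ = w := fun w hw => conj_pow_mul_eq hyZ hw
  obtain ⟨i, w, hw, hyx⟩ := exists_pow_mul hp hAel hAc hZ0A hZ0c hxA hxZ (hconjA x hxA)
  have hcomm : ∀ a ∈ A, ∀ b ∈ A, Commute a b := fun a ha b hb => comm_of_elem hAel ha hb
  -- iterate
  have hiter : ∀ n : ℕ, ∃ wn ∈ Z0, y ^ n * x * (y ^ n)⁻¹ = x ^ (i ^ n) * wn := by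
    intro n
    induction n with
    | zero => exact ⟨1, Z0.one_mem, by simp⟩
    | succ n ih =>
      obtain ⟨wn, hwn, hn⟩ := ih
      refine ⟨w ^ (i ^ n) * wn, Z0.mul_mem (Z0.pow_mem hw _) hwn, ?_⟩
      have e1 : y ^ (n + 1) * x * (y ^ (n + 1))⁻¹ = y * (y ^ n * x * (y ^ n)⁻¹) * y⁻¹ := by
        rw [pow_succ']; group
      rw [e1, hn]
      have e2 : y * (x ^ (i ^ n) * wn) * y⁻¹ = (y * x * y⁻¹) ^ (i ^ n) * (y * wn * y⁻¹) := by
        rw [conj_pow]; group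
      rw [e2, hyx, hcz wn hwn,
        (hcomm _ (A.pow_mem hxA _) _ (hZ0A hw)).mul_pow, ← pow_mul, pow_succ', mul_assoc]
  -- i ≡ 1 mod p
  have hi : x ^ i = x := by
    obtain ⟨w', hw', h1⟩ := hiter (p ^ k)
    rw [hyk, one_mul, inv_one, mul_one] at h1
    have hw1 : w' = 1 := by
      apply mem_inf_prime_card hp hX0c hZ0c hX0Z _ hw'
      have : w' = (x ^ (i ^ (p ^ k)))⁻¹ * x := eq_inv_mul_of_mul_eq h1.symm
      rw [this]
      exact X0.mul_mem (X0.inv_mem (X0.pow_mem hxX0 _)) hxX0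
    rw [hw1, mul_one] at h1
    have h2 : x ^ (i ^ (p ^ k)) = x ^ 1 := by rw [pow_one]; exact h1.symm
    rw [pow_eq_pow_iff_modEq, hxo] at h2
    have h3 : ((i ^ (p ^ k) : ℕ) : ZMod p) = ((1 : ℕ) : ZMod p) :=
      (ZMod.natCast_eq_natCast_iff _ _ _).mpr h2
    rw [Nat.cast_pow, ZMod.pow_card_pow] at h3
    have h4 : i ≡ 1 [MOD p] := (ZMod.natCast_eq_natCast_iff _ _ _).mp h3
    have h5 : x ^ i = x ^ 1 := by rw [pow_eq_pow_iff_modEq, hxo]; exact h4
    rw [h5, pow_one]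
  rw [hi] at hyx
  -- w ≠ 1
  have hw1 : w ≠ 1 := by
    intro hw1
    apply hyA
    rw [Subgroup.mem_centralizer_iff]
    intro a ha
    obtain ⟨j, w', hw', rfl⟩ := exists_pow_mul hp hAel hAc hZ0A hZ0c hxA hxZ ha
    rw [hw1, mul_one] at hyx
    have e : y * (x ^ j * w') * y⁻¹ = x ^ j * w' := by
      have : y * (x ^ j * w') * y⁻¹ = (y * x * y⁻¹) ^ j * (y * w' * y⁻¹) := by
        rw [conj_pow]; group
      rw [this, hyx, hcz w' hw']
    calc x ^ j * w' * y = (y * (x ^ j * w') * y⁻¹) * y := by rw [e]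
      _ = y * (x ^ j * w') := by group
  have hZw : Subgroup.zpowers w = Z0 := zpowers_eq_of_prime_card hp hZ0c hw hw1
  -- conjugates of x
  have hconj : ∀ n : ℕ, y ^ n * x * (y ^ n)⁻¹ = x * w ^ n := by
    intro n
    induction n with
    | zero => simp
    | succ n ih =>
      have e1 : y ^ (n + 1) * x * (y ^ (n + 1))⁻¹ = y * (y ^ n * x * (y ^ n)⁻¹) * y⁻¹ := by
        rw [pow_succ']; group
      rw [e1, ih]
      have e2 : y * (x * w ^ n) * y⁻¹ = (y * x * y⁻¹) * (y * w ^ n * y⁻¹) := by group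
      rw [e2, hyx, hcz _ (Z0.pow_mem hw n), mul_assoc, ← pow_succ']
  -- the line X
  obtain ⟨x', hx'X, hx'1⟩ := exists_ne_one_of_card_prime hp hXc
  have hx'Z : x' ∉ Z0 := fun h => hx'1 (mem_inf_prime_card hp hXc hZ0c hXZ hx'X h)
  obtain ⟨j, w', hw', hx'⟩ := exists_pow_mul hp hAel hAc hZ0A hZ0c hxA hxZ (hXA hx'X)
  have hjp : ¬ p ∣ j := by
    intro hd
    have : x ^ j = 1 := by rw [← hxo] at hd; exact orderOf_dvd_iff_pow_eq_one.mp hd
    rw [this, one_mul] at hx'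
    exact hx'Z (hx' ▸ hw')
  have hcop : Nat.Coprime j p := ((Nat.Prime.coprime_iff_not_dvd hp).mpr hjp).symm
  obtain ⟨m, -, hm⟩ := Nat.exists_mul_mod_eq_one_of_coprime hcop hp.one_lt
  have hx'm : x' ^ m = x * w' ^ m := by
    rw [hx', (hcomm _ (A.pow_mem hxA _) _ (hZ0A hw')).mul_pow, ← pow_mul]
    congr 1
    rw [← pow_mod_orderOf, hxo, hm, pow_one]
  have hfinw : IsOfFinOrder w := isOfFinOrder_iff_pow_eq_one.mpr ⟨p, hp.pos, hAel.2 w (hZ0A hw)⟩
  have hmem : w' ^ m ∈ Subgroup.zpowers w := hZw ▸ Z0.pow_mem hw' m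
  obtain ⟨n, hn⟩ := (Submonoid.mem_powers_iff _ _).mp (hfinw.mem_powers_iff_mem_zpowers.mpr hmem)
  refine ⟨n, ?_⟩
  have hx'm2 : x' ^ m = y ^ n * x * (y ^ n)⁻¹ := by rw [hconj, hx'm, hn]
  have hne : x' ^ m ≠ 1 := by
    intro h
    rw [hx'm] at h
    apply hxZ
    have : x = (w' ^ m)⁻¹ := eq_inv_of_mul_eq_one_left h
    rw [this]
    exact Z0.inv_mem (Z0.pow_mem hw' m)
  have hXz : Subgroup.zpowers (x' ^ m) = X := zpowers_eq_of_prime_card hp hXc (X.pow_mem hx'X m) hne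
  have hle : X ≤ cj (y ^ n) X0 := by
    rw [← hXz, Subgroup.zpowers_le, hx'm2]
    exact conj_mem_cj hxX0
  haveI : Finite ↥(cj (y ^ n) X0) :=
    Nat.finite_of_card_ne_zero (by rw [card_cj, hX0c]; exact hp.ne_zero)
  exact Subgroup.eq_of_le_of_card_ge hle (by rw [card_cj, hX0c, hXc])

end lines


/-- if `N = T E` then `|N : E| = |T : T ∩ E|` -/
theorem relIndex_eq_of_factor {N T E : Subgroup G} (hTN : T ≤ N)
    (h : ∀ n ∈ N, ∃ s ∈ T, ∃ e ∈ E, n = s * e) : E.relIndex N = E.relIndex T := by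
  unfold Subgroup.relIndex
  rw [Subgroup.index_eq_card, Subgroup.index_eq_card]
  symm
  apply Nat.card_congr
  apply Equiv.ofBijective (Subgroup.quotientSubgroupOfEmbeddingOfLE E hTN)
  refine ⟨(Subgroup.quotientSubgroupOfEmbeddingOfLE E hTN).injective, ?_⟩
  intro q
  induction q using QuotientGroup.induction_on with
  | H n =>
    obtain ⟨s, hs, e, he, hn⟩ := h n n.2
    refine ⟨QuotientGroup.mk ⟨s, hs⟩, ?_⟩
    rw [Subgroup.quotientSubgroupOfEmbeddingOfLE_apply_mk, QuotientGroup.eq, Subgroup.mem_subgroupOf]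
    simp only [Subgroup.coe_mul, Subgroup.coe_inv, Subgroup.coe_inclusion]
    rw [hn, inv_mul_cancel_left]
    exact he

/-- if `N = T E` with `T` a `p`-group then `|N : E|` is a power of `p` -/
theorem relIndex_pow_of_factor [Finite G] {p : ℕ} (hp : p.Prime) {N T E : Subgroup G} (hTN : T ≤ N)
    (hT : IsPGroup p ↥T)
    (h : ∀ n ∈ N, ∃ s ∈ T, ∃ e ∈ E, n = s * e) : ∃ j : ℕ, E.relIndex N = p ^ j := by
  haveI : Fact p.Prime := ⟨hp⟩
  rw [relIndex_eq_of_factor hTN h]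
  obtain ⟨a, ha⟩ := IsPGroup.iff_card.mp hT
  have h1 : E.relIndex T ∣ p ^ a := ha ▸ Subgroup.relIndex_dvd_card E T
  obtain ⟨j, -, hj⟩ := (Nat.dvd_prime_pow hp).mp h1
  exact ⟨j, hj⟩

end Cfsg.Agent.Lib.BG127H7
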