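import Mathlib
import Cfsg.Prelude.Def_OddOrderLocal
import Cfsg.Prelude.Def_OddOrder
import Cfsg.Agent.Lib.Helper7.BG127A
import Cfsg.Agent.S1453

set_option autoImplicit false
set_option linter.unusedVariables false
set_option linter.unusedSectionVars false
set_option linter.style.haveILetI false

namespace Cfsg.Agent.Lib.BG127H7

open Cfsg Cfsg.Agent.Lib.Helper8.BGTen Cfsg.Agent.Lib.Lead.Conj
open Cfsg.Agent.Lib.Helper7 (IsSylowIn exists_isSylowIn_ge card_subgroupOf_of_le)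

universe u
variable {G : Type u} [Group G]

/-- the statement of S1412 for the group `G` -/
def Hyp1412 (G : Type u) [Group G] : Prop :=
  ∀ (p : ℕ) [Fact p.Prime] (P : Sylow p G) (hr : Cfsg.PRankLE p 2 (P : Subgroup G)),
    IsMulCommutative (P : Subgroup G) ∨ ∃ P₁ P₂ : Subgroup G, P₁ ⊔ P₂ = (P : Subgroup G) ∧ (∀ a ∈ P₁, ∀ b ∈ P₂, a * b = b * a) ∧
        ¬ IsMulCommutative P₁ ∧ Nat.card P₁ = p ^ 3 ∧ Monoid.exponent P₁ = p ∧ IsCyclic P₂ ∧
        Subgroup.closure {x : G | x ∈ P₂ ∧ x ^ p = 1} = P₁ ⊓ Subgroup.centralizer (P₁ : Set G)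

/-- the statement of S1416 for the group `G` -/
def Hyp1416 (G : Type u) [Group G] : Prop :=
  ∀ (M : Subgroup G) (hM : IsCoatom M) (p : ℕ) [Fact p.Prime] (A : Subgroup G) (hA : (A ≤ M ∧ Cfsg.IsElementaryAbelian p A ∧ Nat.card A = p ^ 2)),
    Subgroup.centralizer (A : Set G) ≤ M ∧
      ((∀ A₀ : Subgroup G, A₀ ≤ A → Nat.card A₀ = p →
          ¬ (Subgroup.normalizer (A₀ : Set G) ≤ M ∧ ∀ L : Subgroup G, IsCoatom L → Subgroup.normalizer (A₀ : Set G) ≤ L → L = M)) →
        p ∈ Cfsg.sigma M ∧ Cfsg.alphaCore M = ⊥ ∧ Group.IsNilpotent (Cfsg.sigmaCore M))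

/-- the statement of S1417 for the group `G` -/
def Hyp1417 (G : Type u) [Group G] : Prop :=
  ∀ (M : Subgroup G) (hM : IsCoatom M) (p : ℕ) [Fact p.Prime] (hp : p ∈ Cfsg.tau2 M) (A : Subgroup G) (hA : (A ≤ M ∧ Cfsg.IsElementaryAbelian p A ∧ Nat.card A = p ^ 2)),
    Group.IsNilpotent (Cfsg.sigmaCore M) ∧
      (∀ P : Sylow p M, IsMulCommutative (P : Subgroup M) ∧
        (A ≤ (P : Subgroup M).map M.subtype →
          (∀ x ∈ (P : Subgroup M).map M.subtype, x ^ p = 1 ↔ x ∈ A) ∧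
          ¬ Subgroup.normalizer ((((P : Subgroup M).map M.subtype : Subgroup G)) : Set G) ≤ M)) ∧
      M ≤ Subgroup.normalizer ((Cfsg.sigmaCore M ⊔ A : Subgroup G) : Set G) ∧
      Cfsg.sigmaCore M ⊓ Subgroup.centralizer (A : Set G) = ⊥ ∧
      (∀ Mstar : Subgroup G, IsCoatom Mstar → Mstar ≠ M → A ≤ Mstar → Cfsg.sigmaCore M ⊓ Mstar = ⊥) ∧
      ∃ A₁ : Subgroup G, A₁ ≤ A ∧ Nat.card A₁ = p ∧ Cfsg.sigmaCore M ⊓ Subgroup.centralizer (A₁ : Set G) = ⊥

/-- the statement of S1418 for the group `G` -/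
def Hyp1418 (G : Type u) [Group G] : Prop :=
  ∀ (M : Subgroup G) (hM : IsCoatom M) (E : Subgroup G) (hE : Cfsg.IsComplIn E (Cfsg.sigmaCore M) M) (p : ℕ) [Fact p.Prime] (hp : p ∈ Cfsg.tau2 M) (A : Subgroup G) (hA : (A ≤ E ∧ Cfsg.IsElementaryAbelian p A ∧ Nat.card A = p ^ 2)),
    (E ≤ Subgroup.normalizer (A : Set G) ∧ ∀ X : Subgroup G, X ≤ E → Nat.card X = p → X ≤ A) ∧
      (Subgroup.centralizer (A : Set G) ≤ M ⊓ Subgroup.normalizer (A : Set G) ∧ M ⊓ Subgroup.normalizer (A : Set G) = E ∧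
        ¬ Subgroup.normalizer (A : Set G) ≤ M) ∧
      ∀ X : Subgroup G, X ≤ A → Nat.card X = p → Cfsg.sigmaCore M ⊓ Subgroup.centralizer (X : Set G) ≠ ⊥ → (Subgroup.centralizer (X : Set G) ≤ M ∧ ∀ L : Subgroup G, IsCoatom L → Subgroup.centralizer (X : Set G) ≤ L → L = M)

/-- a proper subgroup of a group of order `p²` containing a subgroup of order `p` equals it -/
theorem eq_of_le_of_ne_sq {H : Type u} [Group H] {p : ℕ} (hp : p.Prime) {A Z0 K : Subgroup H}
    (hAc : Nat.card ↥A = p ^ 2) (hZ0c : Nat.card ↥Z0 = p) (hZK : Z0 ≤ K) (hKA : K ≤ A) (hne : K ≠ A) :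
    K = Z0 := by
  haveI : Finite ↥A := Nat.finite_of_card_ne_zero (by rw [hAc]; exact pow_ne_zero _ hp.ne_zero)
  haveI : Finite ↥K := Finite.of_injective (Subgroup.inclusion hKA) (Subgroup.inclusion_injective hKA)
  have h1 : Nat.card ↥K ∣ p ^ 2 := hAc ▸ Subgroup.card_dvd_of_le hKA
  have h2 : p ∣ Nat.card ↥K := hZ0c ▸ Subgroup.card_dvd_of_le hZK
  obtain ⟨m, hm, hKm⟩ := (Nat.dvd_prime_pow hp).mp h1
  interval_cases m
  · exfalso
    rw [hKm, pow_zero] at h2
    exact hp.one_lt.ne' (Nat.dvd_one.mp h2)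
  · rw [pow_one] at hKm
    exact (Subgroup.eq_of_le_of_card_ge hZK (by rw [hKm, hZ0c])).symm
  · exfalso
    exact hne (Subgroup.eq_of_le_of_card_ge hKA (by rw [hKm, hAc]))


variable [Finite G]

/-- **Claim Ω**: `p`-th powers of order dividing `p` of elements of `S` lying in `A` lie in `Z0` -/
theorem pow_mem_Z0 (hG : Cfsg.IsMinSimpleOddOrder G) (h12 : Hyp1412 G) {p : ℕ} [hpf : Fact p.Prime]
    (S : Sylow p G) (hSna : ¬ IsMulCommutative (S : Subgroup G))
    {A Z0 : Subgroup G} (hAS : A ≤ (S : Subgroup G)) (hAel : Cfsg.IsElementaryAbelian p A)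
    (hAc : Nat.card ↥A = p ^ 2)
    (hAmax : ∀ B : Subgroup G, Cfsg.IsElementaryAbelian p B → A ≤ B → B = A)
    (hZ0A : Z0 ≤ A) (hZ0c : Nat.card ↥Z0 = p)
    (hSZ0 : (S : Subgroup G) ≤ Subgroup.centralizer (Z0 : Set G))
    (hAnc : ¬ (S : Subgroup G) ≤ Subgroup.centralizer (A : Set G))
    {w : G} (hwS : w ∈ (S : Subgroup G)) (hwA : w ^ p ∈ A) : w ^ p ∈ Z0 := by
  have hp : p.Prime := hpf.out
  have hp2 : p ≠ 2 := by
    rintro rfl
    have h1 : 2 ∣ Nat.card ↥A := by rw [hAc]; exact dvd_pow_self 2 (by norm_num)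
    have h2 : 2 ∣ Nat.card G := h1.trans (Subgroup.card_subgroup_dvd_card A)
    exact hG.1.not_two_dvd_nat h2
  by_cases hr : Cfsg.PRankLE p 2 ↥(S : Subgroup G)
  · -- rank ≤ 2: S1412
    rcases h12 p S hr with h | ⟨P₁, P₂, h12', hcomm, -, -, hexp, hcyc, -⟩
    · exact absurd h hSna
    · have h1 : ∀ a ∈ P₁, a ^ p = 1 := by
        intro a ha
        have := Monoid.pow_exponent_eq_one (⟨a, ha⟩ : ↥P₁)
        rw [hexp] at this
        exact congrArg Subtype.val this
      have hw12 : w ∈ P₁ ⊔ P₂ := h12' ▸ hwS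
      obtain ⟨a, ha, b, hb, rfl⟩ := mem_sup_comm P₁ P₂ hcomm hw12
      have hc : Commute a b := hcomm a ha b hb
      have hwp : (a * b) ^ p = b ^ p := by rw [hc.mul_pow, h1 a ha, one_mul]
      have h2 : ∀ b ∈ P₂, ∀ d ∈ P₂, b * d = d * b := by
        intro b hb d hd
        haveI := hcyc
        haveI : IsMulCommutative ↥P₂ := IsCyclic.isMulCommutative
        have := IsMulCommutative.is_comm.comm (⟨b, hb⟩ : ↥P₂) ⟨d, hd⟩
        exact congrArg Subtype.val this
      -- b ^ p is central in S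
      have hbc : b ^ p ∈ Subgroup.centralizer ((S : Subgroup G) : Set G) := by
        rw [Subgroup.mem_centralizer_iff]
        intro s hs
        have hs12 : s ∈ P₁ ⊔ P₂ := h12' ▸ hs
        obtain ⟨c, hc', d, hd, rfl⟩ := mem_sup_comm P₁ P₂ hcomm hs12
        have e1 : c * b ^ p = b ^ p * c := hcomm c hc' _ (P₂.pow_mem hb p)
        have e2 : d * b ^ p = b ^ p * d := h2 d hd _ (P₂.pow_mem hb p)
        calc c * d * b ^ p = c * (d * b ^ p) := by group
          _ = c * (b ^ p * d) := by rw [e2]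
          _ = (c * b ^ p) * d := by group
          _ = b ^ p * c * d := by rw [e1]
          _ = b ^ p * (c * d) := by group
      set K : Subgroup G := A ⊓ Subgroup.centralizer ((S : Subgroup G) : Set G) with hK
      have hKZ : K = Z0 := by
        apply eq_of_le_of_ne_sq hp hAc hZ0c (le_inf hZ0A ?_) inf_le_left
        · intro hKA
          apply hAnc
          have : A ≤ Subgroup.centralizer ((S : Subgroup G) : Set G) := by
            rw [← hKA]; exact inf_le_right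
          exact Subgroup.le_centralizer_iff.mp this
        · exact Subgroup.le_centralizer_iff.mp hSZ0
      rw [← hKZ]
      refine ⟨hwA, ?_⟩
      rw [hwp]
      exact hbc
  · -- rank ≥ 3: S1453
    set E' : Subgroup ↥(S : Subgroup G) := A.subgroupOf (S : Subgroup G) with hE'
    have hE'el : Cfsg.IsElementaryAbelian p E' := by
      refine ⟨?_, ?_⟩
      · haveI := hAel.1
        exact inferInstance
      · intro a ha
        exact Subtype.ext (hAel.2 (a : G) (Subgroup.mem_subgroupOf.mp ha))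
    have hE'c : Nat.card ↥E' = p ^ 2 := by rw [hE', card_subgroupOf_of_le hAS, hAc]
    have hE'max : ∀ B : Subgroup ↥(S : Subgroup G), Cfsg.IsElementaryAbelian p B → E' ≤ B → B = E' := by
      intro B hB hle
      have hBel : Cfsg.IsElementaryAbelian p (B.map (S : Subgroup G).subtype) := by
        refine ⟨?_, ?_⟩
        · haveI := hB.1
          exact inferInstance
        · rintro _ ⟨b, hb, rfl⟩
          have := hB.2 b hb
          exact congrArg Subtype.val this
      have hAB : A ≤ B.map (S : Subgroup G).subtype := by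
        intro a ha
        exact ⟨⟨a, hAS ha⟩, hle (Subgroup.mem_subgroupOf.mpr ha), rfl⟩
      have h1 := hAmax _ hBel hAB
      apply le_antisymm _ hle
      intro b hb
      rw [hE', Subgroup.mem_subgroupOf, ← h1]
      exact ⟨b, hb, rfl⟩
    obtain ⟨hnle, -, -, hchar, hidx⟩ :=
      Cfsg.Agent.S1453.result (R := ↥(S : Subgroup G)) p hp2 S.isPGroup' hr E' hE'el hE'c hE'max
    set T := Subgroup.centralizer ((Subgroup.closure {x : ↥(S : Subgroup G) |
      x ∈ Subgroup.upperCentralSeries ↥(S : Subgroup G) 2 ∧ x ^ p = 1} : Subgroup ↥(S : Subgroup G)) :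
        Set ↥(S : Subgroup G)) with hT
    haveI := hchar
    haveI hTn : T.Normal := Subgroup.normal_of_characteristic T
    have hwT : (⟨w, hwS⟩ : ↥(S : Subgroup G)) ^ p ∈ T := by
      have := Subgroup.pow_index_mem T (⟨w, hwS⟩ : ↥(S : Subgroup G))
      rwa [hidx] at this
    set Z0' : Subgroup ↥(S : Subgroup G) := Z0.subgroupOf (S : Subgroup G) with hZ0'
    have hZ0S : Z0 ≤ (S : Subgroup G) := hZ0A.trans hAS
    have hZ0'c : Nat.card ↥Z0' = p := by rw [hZ0', card_subgroupOf_of_le hZ0S, hZ0c]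
    have hZ0'T : Z0' ≤ T := by
      intro z hz
      rw [hT, Subgroup.mem_centralizer_iff]
      intro x _
      have h1 := (Subgroup.mem_centralizer_iff.mp (hSZ0 x.2)) (z : G) (Subgroup.mem_subgroupOf.mp hz)
      exact Subtype.ext h1.symm
    have hKZ : E' ⊓ T = Z0' := by
      apply eq_of_le_of_ne_sq hp hE'c hZ0'c (le_inf (Subgroup.subgroupOf_mono _ hZ0A) hZ0'T)
        inf_le_left
      intro h
      apply hnle
      rw [← h]
      exact inf_le_right
    have hmem : (⟨w, hwS⟩ : ↥(S : Subgroup G)) ^ p ∈ E' ⊓ T := by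
      refine ⟨?_, hwT⟩
      show (⟨w, hwS⟩ : ↥(S : Subgroup G)) ^ p ∈ A.subgroupOf (S : Subgroup G)
      rw [Subgroup.mem_subgroupOf]
      exact hwA
    rw [hKZ, hZ0', Subgroup.mem_subgroupOf] at hmem
    exact hmem

end Cfsg.Agent.Lib.BG127H7
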