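import Mathlib
import Cfsg.Prelude.Def_OddOrderLocal
import Cfsg.Prelude.Def_OddOrder
import Cfsg.Agent.Lib.Helper7.BG127B
import Cfsg.Agent.Lib.Helper8.BGTenK

set_option autoImplicit false
set_option linter.unusedVariables false
set_option linter.unusedSectionVars false
set_option linter.style.haveILetI false

namespace Cfsg.Agent.Lib.BG127H7

open Cfsg Cfsg.Agent.Lib.Helper8.BGTen Cfsg.Agent.Lib.Lead.Conj
open Cfsg.Agent.Lib.Helper7 (IsSylowIn exists_isSylowIn_ge card_subgroupOf_of_le)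

universe u
variable {G : Type u} [Group G] [Finite G]

/-- the standing context of B&G Theorem 12.7 -/
structure Ctx (M E A : Subgroup G) (p : ℕ) : Prop where
  hM : IsCoatom M
  hE : Cfsg.IsComplIn E (Cfsg.sigmaCore M) M
  hp : p ∈ Cfsg.tau2 M
  hAE : A ≤ E
  hAel : Cfsg.IsElementaryAbelian p A
  hAc : Nat.card ↥A = p ^ 2

namespace Ctx

variable {M E A : Subgroup G} {p : ℕ}

theorem hEM (c : Ctx M E A p) : E ≤ M := c.hE.1
theorem hAM (c : Ctx M E A p) : A ≤ M := c.hAE.trans c.hEM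
theorem tripleM (c : Ctx M E A p) : A ≤ M ∧ Cfsg.IsElementaryAbelian p A ∧ Nat.card ↥A = p ^ 2 :=
  ⟨c.hAM, c.hAel, c.hAc⟩
theorem tripleE (c : Ctx M E A p) : A ≤ E ∧ Cfsg.IsElementaryAbelian p A ∧ Nat.card ↥A = p ^ 2 :=
  ⟨c.hAE, c.hAel, c.hAc⟩
theorem prime (c : Ctx M E A p) : p.Prime := c.hp.1
theorem not_sigma (c : Ctx M E A p) : p ∉ Cfsg.sigma M := c.hp.2.1

theorem isPGroup (c : Ctx M E A p) : IsPGroup p ↥A := by
  haveI : Fact p.Prime := ⟨c.prime⟩
  exact IsPGroup.of_card c.hAc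

theorem ne_bot (c : Ctx M E A p) : A ≠ ⊥ := by
  intro h
  have h1 := c.hAc
  rw [h, Subgroup.card_bot] at h1
  have := c.prime.one_lt
  have h2 : 1 < p ^ 2 := Nat.one_lt_pow (by norm_num) this
  omega

theorem ne_top (c : Ctx M E A p) : A ≠ ⊤ := ne_top_of_le_coatom c.hM c.hAM

end Ctx

variable {M E A : Subgroup G} {p : ℕ}

/-- `M_σ ≠ 1` -/
theorem sigmaCore_ne_bot (hG : Cfsg.IsMinSimpleOddOrder G) (h18 : Hyp1418 G) [Fact p.Prime]
    (c : Ctx M E A p) : Cfsg.sigmaCore M ≠ ⊥ := by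
  intro hbot
  obtain ⟨-, ⟨-, hMN, hnN⟩, -⟩ := h18 M c.hM E c.hE p c.hp A c.tripleE
  have hME : M ≤ E := by
    intro m hm
    obtain ⟨a, ha, b, hb, rfl⟩ := c.hE.2.2.2 m hm
    rw [hbot, Subgroup.mem_bot] at hb
    rw [hb, mul_one]; exact ha
  have hEq : E = M := le_antisymm c.hEM hME
  rw [hEq] at hMN
  have hMle : M ≤ Subgroup.normalizer (A : Set G) := inf_eq_left.mp hMN
  have hNt : Subgroup.normalizer (A : Set G) ≠ ⊤ := normalizer_ne_top' hG c.ne_bot c.ne_top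
  rcases eq_or_lt_of_le hMle with h | h
  · exact hnN h.ge
  · exact hNt (c.hM.2 _ h)

/-- a subgroup `A★` of order `p` with `N(A★) ≤ M` -/
theorem exists_Astar (h16 : Hyp1416 G) [Fact p.Prime] (c : Ctx M E A p) :
    ∃ Astar : Subgroup G, Astar ≤ A ∧ Nat.card ↥Astar = p ∧
      Subgroup.normalizer (Astar : Set G) ≤ M := by
  by_contra hcon
  push Not at hcon
  obtain ⟨-, h2⟩ := h16 M c.hM p A c.tripleM
  have := h2 (fun A₀ hA₀ hc h => hcon A₀ hA₀ hc h.1)
  exact c.not_sigma this.1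

/-- a Sylow `p`-subgroup of `M` containing `A` -/
theorem exists_sylow_M (h17 : Hyp1417 G) [Fact p.Prime] (c : Ctx M E A p) :
    ∃ PG : Subgroup G, IsSylowIn p PG M ∧ A ≤ PG ∧ (∀ x ∈ PG, ∀ y ∈ PG, x * y = y * x) ∧
      (∀ x ∈ PG, x ^ p = 1 ↔ x ∈ A) ∧ ¬ Subgroup.normalizer (PG : Set G) ≤ M := by
  obtain ⟨PG, hPG, hAPG⟩ := exists_isSylowIn_ge c.isPGroup c.hAM
  obtain ⟨P, hP⟩ := hPG.exists_sylow
  have hmap : (P : Subgroup M).map M.subtype = PG := by
    rw [hP, Subgroup.map_subgroupOf_eq_of_le hPG.1]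
  obtain ⟨-, h2, -⟩ := h17 M c.hM p c.hp A c.tripleM
  obtain ⟨hcomm, h3⟩ := h2 P
  rw [hmap] at h3
  obtain ⟨h4, h5⟩ := h3 hAPG
  refine ⟨PG, hPG, hAPG, ?_, h4, h5⟩
  intro x hx y hy
  have hx' : (⟨x, hPG.1 hx⟩ : ↥M) ∈ (P : Subgroup M) := by
    rw [hP, Subgroup.mem_subgroupOf]; exact hx
  have hy' : (⟨y, hPG.1 hy⟩ : ↥M) ∈ (P : Subgroup M) := by
    rw [hP, Subgroup.mem_subgroupOf]; exact hy
  have := hcomm.is_comm.comm (⟨_, hx'⟩ : ↥(P : Subgroup M)) ⟨_, hy'⟩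
  exact congrArg (fun t : ↥(P : Subgroup M) => ((t : ↥M) : G)) this

/-- `p`-subgroups of `M` are abelian -/
theorem comm_of_pGroup_le (h17 : Hyp1417 G) [Fact p.Prime] (c : Ctx M E A p) {Q : Subgroup G}
    (hQM : Q ≤ M) (hQ : IsPGroup p ↥Q) {x y : G} (hx : x ∈ Q) (hy : y ∈ Q) : x * y = y * x := by
  obtain ⟨PG, hPG, hQPG⟩ := exists_isSylowIn_ge hQ hQM
  obtain ⟨P, hP⟩ := hPG.exists_sylow
  obtain ⟨-, h2, -⟩ := h17 M c.hM p c.hp A c.tripleM
  obtain ⟨hcomm, -⟩ := h2 P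
  have hx' : (⟨x, hQM hx⟩ : ↥M) ∈ (P : Subgroup M) := by
    rw [hP, Subgroup.mem_subgroupOf]; exact hQPG hx
  have hy' : (⟨y, hQM hy⟩ : ↥M) ∈ (P : Subgroup M) := by
    rw [hP, Subgroup.mem_subgroupOf]; exact hQPG hy
  have := hcomm.is_comm.comm (⟨_, hx'⟩ : ↥(P : Subgroup M)) ⟨_, hy'⟩
  exact congrArg (fun t : ↥(P : Subgroup M) => ((t : ↥M) : G)) this

/-- a Sylow `p`-subgroup of `G` (nonabelian) is not contained in `M` -/
theorem sylow_not_le (h17 : Hyp1417 G) [Fact p.Prime] (c : Ctx M E A p) (S : Sylow p G)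
    (hS : ¬ IsMulCommutative (S : Subgroup G)) : ¬ (S : Subgroup G) ≤ M := by
  intro hSM
  apply hS
  refine ⟨⟨fun a b => ?_⟩⟩
  exact Subtype.ext (comm_of_pGroup_le h17 c hSM S.isPGroup' a.2 b.2)


/-- a subgroup of a group of order `p²` that is neither trivial nor everything has order `p` -/
theorem card_eq_of_proper {H : Type u} [Group H] {p : ℕ} (hp : p.Prime) {A K : Subgroup H}
    (hAc : Nat.card ↥A = p ^ 2) (hKA : K ≤ A) (hK1 : K ≠ ⊥) (hne : K ≠ A) : Nat.card ↥K = p := by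
  haveI : Finite ↥A := Nat.finite_of_card_ne_zero (by rw [hAc]; exact pow_ne_zero _ hp.ne_zero)
  haveI : Finite ↥K := Finite.of_injective (Subgroup.inclusion hKA) (Subgroup.inclusion_injective hKA)
  have h1 : Nat.card ↥K ∣ p ^ 2 := hAc ▸ Subgroup.card_dvd_of_le hKA
  obtain ⟨m, hm, hKm⟩ := (Nat.dvd_prime_pow hp).mp h1
  interval_cases m
  · exfalso
    rw [pow_zero] at hKm
    exact hK1 (Subgroup.card_eq_one.mp hKm)
  · rw [pow_one] at hKm; exact hKm
  · exfalso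
    exact hne (Subgroup.eq_of_le_of_card_ge hKA (by rw [hKm, hAc]))

/-- the local data around a nonabelian Sylow `p`-subgroup `S ⊇ A` of `G` -/
structure Data (M A : Subgroup G) (p : ℕ) [Fact p.Prime] (S : Sylow p G) (PG Astar Z0 : Subgroup G) :
    Prop where
  hPGsyl : IsSylowIn p PG M
  hAPG : A ≤ PG
  hPGS : PG ≤ (S : Subgroup G)
  hPGcomm : ∀ x ∈ PG, ∀ y ∈ PG, x * y = y * x
  hOmega : ∀ x ∈ PG, x ^ p = 1 ↔ x ∈ A
  hSCA : (S : Subgroup G) ⊓ Subgroup.centralizer (A : Set G) = PG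
  hSM : (S : Subgroup G) ⊓ M = PG
  hAstarA : Astar ≤ A
  hAstarc : Nat.card ↥Astar = p
  hAstarN : Subgroup.normalizer (Astar : Set G) ≤ M
  hZ0A : Z0 ≤ A
  hZ0c : Nat.card ↥Z0 = p
  hSZ0 : (S : Subgroup G) ≤ Subgroup.centralizer (Z0 : Set G)
  hNS : Subgroup.normalizer ((S : Subgroup G) : Set G) ≤ Subgroup.normalizer (Z0 : Set G)
  lines : ∀ X : Subgroup G, X ≤ A → Nat.card ↥X = p → X ≠ Z0 →
    ∃ s ∈ (S : Subgroup G), s ∈ Subgroup.normalizer (A : Set G) ∧ X = cj s Astar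
  hnSM : ¬ (S : Subgroup G) ≤ M
  hna : ∀ T : Sylow p G, ¬ IsMulCommutative (T : Subgroup G)

theorem exists_data (hG : Cfsg.IsMinSimpleOddOrder G) (h16 : Hyp1416 G) (h17 : Hyp1417 G)
    [hpf : Fact p.Prime] (c : Ctx M E A p) (hS : ∀ S : Sylow p G, ¬ IsMulCommutative (S : Subgroup G)) :
    ∃ (S : Sylow p G) (PG Astar Z0 : Subgroup G), Data M A p S PG Astar Z0 := by
  have hp : p.Prime := hpf.out
  obtain ⟨PG, hPGsyl, hAPG, hPGcomm, hOmega, -⟩ := exists_sylow_M h17 c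
  obtain ⟨S, hPGS⟩ := hPGsyl.isPGroup.exists_le_sylow
  have hnSM := sylow_not_le h17 c S (hS S)
  have hSMeq : (S : Subgroup G) ⊓ M = PG :=
    sylIn_eq_of_le hPGsyl inf_le_right (S.isPGroup'.to_inf_left) (le_inf hPGS hPGsyl.1)
  have hPGCA : PG ≤ Subgroup.centralizer (A : Set G) := by
    intro x hx
    rw [Subgroup.mem_centralizer_iff]
    intro a ha
    exact hPGcomm a (hAPG ha) x hx
  have hCAM : Subgroup.centralizer (A : Set G) ≤ M := (h16 M c.hM p A c.tripleM).1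
  have hSCA : (S : Subgroup G) ⊓ Subgroup.centralizer (A : Set G) = PG := by
    apply le_antisymm
    · rw [← hSMeq]
      exact inf_le_inf_left _ hCAM
    · exact le_inf hPGS hPGCA
  have hAS : A ≤ (S : Subgroup G) := hAPG.trans hPGS
  -- the centre of S
  set ZS : Subgroup G := (S : Subgroup G) ⊓ Subgroup.centralizer ((S : Subgroup G) : Set G) with hZS
  have hZSPG : ZS ≤ PG := by
    rw [← hSCA]
    exact inf_le_inf_left _ (Subgroup.centralizer_le hAS)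
  set Z0 : Subgroup G := ZS ⊓ A with hZ0
  have hZ0A : Z0 ≤ A := inf_le_right
  have hPGneS : PG ≠ (S : Subgroup G) := by
    intro h
    apply hnSM
    rw [← h]; exact hPGsyl.1
  have hZ0ne : Z0 ≠ A := by
    intro h
    have h1 : A ≤ Subgroup.centralizer ((S : Subgroup G) : Set G) := by
      rw [← h]; exact inf_le_left.trans inf_le_right
    have h2 : (S : Subgroup G) ≤ Subgroup.centralizer (A : Set G) := Subgroup.le_centralizer_iff.mp h1
    apply hPGneS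
    rw [← hSCA]
    exact inf_eq_left.mpr h2
  have hZ0bot : Z0 ≠ ⊥ := by
    -- a central element of order p
    haveI : Nontrivial ↥(S : Subgroup G) := by
      rw [Subgroup.nontrivial_iff_ne_bot]
      intro h
      apply c.ne_bot
      rw [eq_bot_iff, ← h]; exact hAS
    haveI hnt : Nontrivial ↥(Subgroup.center ↥(S : Subgroup G)) :=
      (Subgroup.nontrivial_iff_ne_bot _).mpr
        ((Subgroup.nontrivial_iff_ne_bot _).mp (IsPGroup.center_nontrivial S.isPGroup'))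
    have hcp : IsPGroup p ↥(Subgroup.center ↥(S : Subgroup G)) := S.isPGroup'.to_subgroup _
    obtain ⟨n, hn0, hn⟩ := (IsPGroup.nontrivial_iff_card hcp).mp hnt
    have hdvd : p ∣ Nat.card ↥(Subgroup.center ↥(S : Subgroup G)) := by
      rw [hn]; exact dvd_pow_self p hn0.ne'
    obtain ⟨z, hz⟩ := exists_prime_orderOf_dvd_card' p hdvd
    have hzS : ((z : ↥(S : Subgroup G)) : G) ∈ (S : Subgroup G) := (z : ↥(S : Subgroup G)).2
    have hzC : ((z : ↥(S : Subgroup G)) : G) ∈ Subgroup.centralizer ((S : Subgroup G) : Set G) := by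
      rw [Subgroup.mem_centralizer_iff]
      intro s hs
      have := (Subgroup.mem_center_iff.mp z.2) ⟨s, hs⟩
      exact congrArg Subtype.val this
    have hzo : orderOf ((z : ↥(S : Subgroup G)) : G) = p := by
      rw [Subgroup.orderOf_coe, Subgroup.orderOf_coe]; exact hz
    have hzp : ((z : ↥(S : Subgroup G)) : G) ^ p = 1 := by
      have := pow_orderOf_eq_one ((z : ↥(S : Subgroup G)) : G)
      rwa [hzo] at this
    have hzZS : ((z : ↥(S : Subgroup G)) : G) ∈ ZS := ⟨hzS, hzC⟩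
    have hzA : ((z : ↥(S : Subgroup G)) : G) ∈ A := (hOmega _ (hZSPG hzZS)).mp hzp
    intro hbot
    have hz0 : ((z : ↥(S : Subgroup G)) : G) ∈ Z0 := ⟨hzZS, hzA⟩
    rw [hbot, Subgroup.mem_bot] at hz0
    rw [hz0, orderOf_one] at hzo
    exact hp.one_lt.ne hzo
  have hZ0c : Nat.card ↥Z0 = p := card_eq_of_proper hp c.hAc hZ0A hZ0bot hZ0ne
  have hSZ0 : (S : Subgroup G) ≤ Subgroup.centralizer (Z0 : Set G) := by
    apply Subgroup.le_centralizer_iff.mp
    exact inf_le_left.trans inf_le_right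
  have hNS : Subgroup.normalizer ((S : Subgroup G) : Set G) ≤ Subgroup.normalizer (Z0 : Set G) := by
    intro g hg
    apply mem_normalizer_of_conj_mem
    intro z hz
    have hcjS : cj g (S : Subgroup G) = (S : Subgroup G) := cj_eq_of_mem_normalizer hg
    have hcjZ : cj g ZS = ZS := by
      rw [hZS]
      have h1 : cj g ((S : Subgroup G) ⊓ Subgroup.centralizer ((S : Subgroup G) : Set G)) =
          cj g (S : Subgroup G) ⊓ cj g (Subgroup.centralizer ((S : Subgroup G) : Set G)) :=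
        Subgroup.map_inf_eq _ _ _ (MulAut.conj g).injective
      rw [h1, cj_centralizer, hcjS]
    have h1 : g * z * g⁻¹ ∈ ZS := by
      rw [← hcjZ]; exact conj_mem_cj hz.1
    refine ⟨h1, ?_⟩
    apply (hOmega _ (hZSPG h1)).mp
    rw [conj_pow, c.hAel.2 z hz.2]; group
  obtain ⟨Astar, hAstarA, hAstarc, hAstarN⟩ := exists_Astar h16 c
  have hAstarZ : Astar ≠ Z0 := by
    intro h
    apply hnSM
    rw [h] at hAstarN
    exact (hSZ0.trans (Subgroup.centralizer_le_normalizer _)).trans hAstarN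
  -- the element y
  obtain ⟨y, hyS, hyN, hyPG⟩ := exists_mem_normalizer_not_mem S.isPGroup' hPGS hPGneS
  have hyNA : y ∈ Subgroup.normalizer (A : Set G) := by
    apply mem_normalizer_of_conj_mem
    intro a ha
    have h1 : y * a * y⁻¹ ∈ PG := (Subgroup.mem_normalizer_iff.mp hyN a).mp (hAPG ha)
    apply (hOmega _ h1).mp
    rw [conj_pow, c.hAel.2 a ha]; group
  have hyCA : y ∉ Subgroup.centralizer (A : Set G) := by
    intro h
    apply hyPG
    rw [← hSCA]; exact ⟨hyS, h⟩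
  obtain ⟨k, hk⟩ := S.isPGroup' ⟨y, hyS⟩
  have hyk : y ^ (p ^ k) = 1 := congrArg Subtype.val hk
  refine ⟨S, PG, Astar, Z0, ⟨hPGsyl, hAPG, hPGS, hPGcomm, hOmega, hSCA, hSMeq, hAstarA, hAstarc, hAstarN,
    hZ0A, hZ0c, hSZ0, hNS, ?_, hnSM, hS⟩⟩
  intro X hXA hXc hXZ
  obtain ⟨n, hn⟩ := lines hp c.hAel c.hAc hZ0A hZ0c hyNA (hSZ0 hyS) hyCA hyk hAstarA hAstarc hAstarZ
    hXA hXc hXZ
  exact ⟨y ^ n, (S : Subgroup G).pow_mem hyS n, Subgroup.pow_mem _ hyNA n, hn⟩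

end Cfsg.Agent.Lib.BG127H7
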