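import Mathlib
import Cfsg.Prelude.Def_OddOrderLocal
import Cfsg.Prelude.Def_OddOrder
import Cfsg.Agent.Lib.Helper7.BG127C
import Cfsg.Agent.Lib.Helper4.BGTransA
import Cfsg.Agent.S0058

set_option autoImplicit false
set_option linter.unusedVariables false
set_option linter.unusedSectionVars false
set_option linter.style.haveILetI false

namespace Cfsg.Agent.Lib.BG127H7

open Cfsg Cfsg.Agent.Lib.Helper8.BGTen Cfsg.Agent.Lib.Lead.Conj Cfsg.Agent.Lib.Lead.PiCore
open Cfsg.Agent.Lib.Helper7 (IsSylowIn exists_isSylowIn_ge card_subgroupOf_of_le)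
open Cfsg.Agent.Lib.Helper4.BGTrans (piCoreOf_le le_normalizer_piCoreOf isPiNat_piCoreOf le_piCoreOf le_normalizer_inf)

universe u
variable {G : Type u} [Group G] [Finite G]
variable {M E A : Subgroup G} {p : ℕ}

theorem sigmaCore_le (M : Subgroup G) : Cfsg.sigmaCore M ≤ M := piCoreOf_le (Cfsg.sigma M) M

theorem le_normalizer_sigmaCore (M : Subgroup G) :
    M ≤ Subgroup.normalizer ((Cfsg.sigmaCore M : Subgroup G) : Set G) :=
  le_normalizer_piCoreOf (Cfsg.sigma M) M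

theorem coprime_card_sigmaCore (hp : p.Prime) (h : p ∉ Cfsg.sigma M) :
    (Nat.card ↥(Cfsg.sigmaCore M)).Coprime p := by
  apply Nat.Coprime.symm
  rw [Nat.Prime.coprime_iff_not_dvd hp]
  intro hd
  exact h (isPiNat_piCoreOf (Cfsg.sigma M) M p hp hd)

/-- a conjugate of a Sylow subgroup, as a Sylow subgroup -/
theorem exists_sylow_eq_cj [Fact p.Prime] (S : Sylow p G) (g : G) :
    ∃ T : Sylow p G, (T : Subgroup G) = cj g (S : Subgroup G) :=
  ⟨Sylow.ofCard (cj g (S : Subgroup G)) (by rw [card_cj, S.card_eq_multiplicity]), Sylow.coe_ofCard _ _⟩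

section data

variable [hpf : Fact p.Prime] {S : Sylow p G} {PG Astar Z0 : Subgroup G}

/-- no conjugate of `A★` inside `A` is `Z0` -/
theorem cj_Astar_ne_Z0 (h17 : Hyp1417 G) (c : Ctx M E A p) (d : Data M A p S PG Astar Z0) (n : G) :
    cj n Astar ≠ Z0 := by
  intro h
  have h1 : Subgroup.normalizer ((cj n Astar : Subgroup G) : Set G) ≤ cj n M := by
    rw [← cj_normalizer]; exact cj_mono n d.hAstarN
  rw [h] at h1
  have h2 : (S : Subgroup G) ≤ cj n M := (d.hSZ0.trans (Subgroup.centralizer_le_normalizer _)).trans h1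
  have h3 : cj n⁻¹ (S : Subgroup G) ≤ M := by
    have := cj_mono n⁻¹ h2
    rwa [cj_inv_cj] at this
  obtain ⟨T, hT⟩ := exists_sylow_eq_cj S n⁻¹
  exact sylow_not_le h17 c T (d.hna T) (hT ▸ h3)

/-- `N(A) = (S ∩ N(A)) E` -/
theorem normalizer_factor (h17 : Hyp1417 G) (h18 : Hyp1418 G) (c : Ctx M E A p)
    (d : Data M A p S PG Astar Z0) {n : G} (hn : n ∈ Subgroup.normalizer (A : Set G)) :
    ∃ s ∈ (S : Subgroup G) ⊓ Subgroup.normalizer (A : Set G), ∃ e ∈ E, n = s * e := by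
  obtain ⟨-, ⟨-, hMN, -⟩, -⟩ := h18 M c.hM E c.hE p c.hp A c.tripleE
  have hXA : cj n Astar ≤ A := by
    have := cj_mono n d.hAstarA
    rwa [cj_eq_of_mem_normalizer hn] at this
  obtain ⟨s, hsS, hsN, hs⟩ := d.lines (cj n Astar) hXA (by rw [card_cj, d.hAstarc])
    (cj_Astar_ne_Z0 h17 c d n)
  refine ⟨s, ⟨hsS, hsN⟩, s⁻¹ * n, ?_, by group⟩
  rw [← hMN]
  refine ⟨d.hAstarN ?_, Subgroup.mul_mem _ (Subgroup.inv_mem _ hsN) hn⟩
  apply mem_normalizer_of_cj_eq
  rw [cj_mul, hs, cj_inv_cj]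

/-- `N(A) ≤ N(Z0)` -/
theorem normalizer_le_normalizer_Z0 (h17 : Hyp1417 G) (c : Ctx M E A p)
    (d : Data M A p S PG Astar Z0) :
    Subgroup.normalizer (A : Set G) ≤ Subgroup.normalizer (Z0 : Set G) := by
  intro n hn
  apply mem_normalizer_of_cj_eq
  by_contra hne
  have hXA : cj n Z0 ≤ A := by
    have := cj_mono n d.hZ0A
    rwa [cj_eq_of_mem_normalizer hn] at this
  obtain ⟨s, hsS, hsN, hs⟩ := d.lines (cj n Z0) hXA (by rw [card_cj, d.hZ0c]) hne
  apply cj_Astar_ne_Z0 h17 c d (n⁻¹ * s)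
  rw [cj_mul, ← hs, cj_inv_cj]

/-- `|N(A) : E|` is a power of `p` -/
theorem relIndex_normalizer (h17 : Hyp1417 G) (h18 : Hyp1418 G) (c : Ctx M E A p)
    (d : Data M A p S PG Astar Z0) : ∃ j : ℕ, E.relIndex (Subgroup.normalizer (A : Set G)) = p ^ j :=
  relIndex_pow_of_factor hpf.out (T := (S : Subgroup G) ⊓ Subgroup.normalizer (A : Set G)) inf_le_right
    (S.isPGroup'.to_inf_left) (fun n hn => normalizer_factor h17 h18 c d hn)

/-- `C_{M_σ}(Z0) = 1` -/
theorem sigmaCore_inf_centralizer_Z0 (h18 : Hyp1418 G) (c : Ctx M E A p)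
    (d : Data M A p S PG Astar Z0) :
    Cfsg.sigmaCore M ⊓ Subgroup.centralizer (Z0 : Set G) = ⊥ := by
  by_contra hne
  obtain ⟨-, -, h3⟩ := h18 M c.hM E c.hE p c.hp A c.tripleE
  exact d.hnSM (d.hSZ0.trans (h3 Z0 d.hZ0A d.hZ0c hne).1)

theorem ne_bot_of_ctx (c : Ctx M E A p) : M ≠ ⊥ := by
  intro h
  apply c.ne_bot
  rw [eq_bot_iff, ← h]; exact c.hAM

/-- for `s ∈ N(A) ∖ M`, `M_σ ∩ M^s = 1` -/
theorem sigmaCore_inf_cj (hG : Cfsg.IsMinSimpleOddOrder G) (h17 : Hyp1417 G) (c : Ctx M E A p)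
    {s : G} (hsN : s ∈ Subgroup.normalizer (A : Set G)) (hsM : s ∉ M) :
    Cfsg.sigmaCore M ⊓ cj s M = ⊥ := by
  obtain ⟨-, -, -, -, h5, -⟩ := h17 M c.hM p c.hp A c.tripleM
  apply h5 (cj s M) (isCoatom_cj c.hM s)
  · intro h
    apply hsM
    have := mem_normalizer_of_cj_eq h
    rwa [normalizer_coatom hG c.hM (ne_bot_of_ctx c)] at this
  · have := cj_mono s c.hAM
    rwa [cj_eq_of_mem_normalizer hsN] at this

/-- elements of `S ∩ M` centralize `A★` -/
theorem cj_Astar_of_mem (d : Data M A p S PG Astar Z0) {s : G} (hsS : s ∈ (S : Subgroup G))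
    (hsM : s ∈ M) : cj s Astar = Astar := by
  apply cj_eq_of_mem_centralizer
  have h1 : s ∈ PG := by rw [← d.hSM]; exact ⟨hsS, hsM⟩
  have h2 : s ∈ Subgroup.centralizer (A : Set G) := by
    rw [← d.hSCA] at h1; exact h1.2
  exact Subgroup.centralizer_le d.hAstarA h2

/-- `C_{M_σ}(X) = 1` for the lines `X ≠ A★` of `A` -/
theorem sigmaCore_inf_centralizer_line (hG : Cfsg.IsMinSimpleOddOrder G) (h17 : Hyp1417 G)
    (h18 : Hyp1418 G) (c : Ctx M E A p) (d : Data M A p S PG Astar Z0) {X : Subgroup G} (hXA : X ≤ A)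
    (hXc : Nat.card ↥X = p) (hX : X ≠ Astar) :
    Cfsg.sigmaCore M ⊓ Subgroup.centralizer (X : Set G) = ⊥ := by
  by_cases hXZ : X = Z0
  · rw [hXZ]; exact sigmaCore_inf_centralizer_Z0 h18 c d
  · obtain ⟨s, hsS, hsN, hs⟩ := d.lines X hXA hXc hXZ
    have hsM : s ∉ M := fun h => hX (by rw [hs, cj_Astar_of_mem d hsS h])
    rw [eq_bot_iff, ← sigmaCore_inf_cj hG h17 c hsN hsM]
    apply inf_le_inf_left
    rw [hs, ← cj_centralizer]
    exact cj_mono s ((Subgroup.centralizer_le_normalizer _).trans d.hAstarN)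


/-- an elementary abelian group of order `p²` is not cyclic -/
theorem not_isCyclic_of_elem (hp : p.Prime) {A : Subgroup G} (hAel : Cfsg.IsElementaryAbelian p A)
    (hAc : Nat.card ↥A = p ^ 2) : ¬ IsCyclic ↥A := by
  intro hcyc
  obtain ⟨g, hg⟩ := hcyc.exists_generator
  have h1 : orderOf g = p ^ 2 := by
    rw [orderOf_eq_card_of_forall_mem_zpowers hg, hAc]
  have h2 : g ^ p = 1 := Subtype.ext (hAel.2 (g : G) g.2)
  have h3 : p ^ 2 ∣ p := h1 ▸ orderOf_dvd_of_pow_eq_one h2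
  have h4 : p ^ 2 ≤ p := Nat.le_of_dvd hp.pos h3
  have h5 : p * 2 ≤ p ^ 2 := by rw [sq]; exact Nat.mul_le_mul_left p hp.two_le
  have := hp.pos
  omega

/-- `A★` centralizes `M_σ` -/
theorem Astar_le_centralizer (hG : Cfsg.IsMinSimpleOddOrder G) (h17 : Hyp1417 G)
    (h18 : Hyp1418 G) (c : Ctx M E A p) (d : Data M A p S PG Astar Z0) :
    Astar ≤ Subgroup.centralizer ((Cfsg.sigmaCore M : Subgroup G) : Set G) := by
  have hp : p.Prime := hpf.out
  haveI := c.hAel.1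
  have hAN : A ≤ Subgroup.normalizer ((Cfsg.sigmaCore M : Subgroup G) : Set G) :=
    c.hAM.trans (le_normalizer_sigmaCore M)
  have hcop : (Nat.card ↥A).Coprime (Nat.card ↥(Cfsg.sigmaCore M)) := by
    rw [c.hAc]
    exact Nat.Coprime.pow_left 2 (coprime_card_sigmaCore hp c.not_sigma).symm
  have hgen := Cfsg.Agent.S0058.result A (Cfsg.sigmaCore M) (not_isCyclic_of_elem hp c.hAel c.hAc)
    hAN hcop
  apply Subgroup.le_centralizer_iff.mp
  rw [← hgen]
  apply iSup₂_le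
  rintro a ⟨haA, ha1⟩
  have hXc : Nat.card ↥(Subgroup.zpowers a) = p := by
    rw [Nat.card_zpowers]
    have h1 : orderOf a ∣ p := orderOf_dvd_of_pow_eq_one (c.hAel.2 a haA)
    rcases (Nat.dvd_prime hp).mp h1 with h | h
    · exact absurd (orderOf_eq_one_iff.mp h) ha1
    · exact h
  have hXA : Subgroup.zpowers a ≤ A := by rw [Subgroup.zpowers_le]; exact haA
  rw [← centralizer_zpowers_eq]
  by_cases hX : Subgroup.zpowers a = Astar
  · rw [hX]; exact inf_le_right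
  · rw [sigmaCore_inf_centralizer_line hG h17 h18 c d hXA hXc hX]; exact bot_le

/-- `C_A(M_σ) = A★` -/
theorem inf_centralizer_eq_Astar (hG : Cfsg.IsMinSimpleOddOrder G) (h17 : Hyp1417 G)
    (h18 : Hyp1418 G) (c : Ctx M E A p) (d : Data M A p S PG Astar Z0) :
    A ⊓ Subgroup.centralizer ((Cfsg.sigmaCore M : Subgroup G) : Set G) = Astar := by
  apply eq_of_le_of_ne_sq hpf.out c.hAc d.hAstarc (le_inf d.hAstarA (Astar_le_centralizer hG h17 h18 c d))
    inf_le_left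
  intro h
  obtain ⟨-, -, -, h4, -⟩ := h17 M c.hM p c.hp A c.tripleM
  apply sigmaCore_ne_bot hG h18 c
  rw [eq_bot_iff, ← h4]
  refine le_inf le_rfl ?_
  apply Subgroup.le_centralizer_iff.mp
  rw [← h]; exact inf_le_right

/-- part (3) of the theorem -/
theorem part_three (hG : Cfsg.IsMinSimpleOddOrder G) (h17 : Hyp1417 G)
    (h18 : Hyp1418 G) (c : Ctx M E A p) (d : Data M A p S PG Astar Z0) {X : Subgroup G} (hXE : X ≤ E)
    (hXc : Nat.card ↥X = p)
    (hX : X ≠ A ⊓ Subgroup.centralizer ((Cfsg.sigmaCore M : Subgroup G) : Set G)) :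
    Cfsg.sigmaCore M ⊓ Subgroup.centralizer (X : Set G) = ⊥ ∧ ¬ Subgroup.centralizer (X : Set G) ≤ M := by
  rw [inf_centralizer_eq_Astar hG h17 h18 c d] at hX
  obtain ⟨⟨-, h1⟩, -, -⟩ := h18 M c.hM E c.hE p c.hp A c.tripleE
  have hXA : X ≤ A := h1 X hXE hXc
  refine ⟨sigmaCore_inf_centralizer_line hG h17 h18 c d hXA hXc hX, ?_⟩
  by_cases hXZ : X = Z0
  · rw [hXZ]
    intro h
    exact d.hnSM (d.hSZ0.trans h)
  · obtain ⟨s, hsS, hsN, hs⟩ := d.lines X hXA hXc hXZ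
    have hsM : s ∉ M := fun h => hX (by rw [hs, cj_Astar_of_mem d hsS h])
    intro hC
    have h2 : cj s (Cfsg.sigmaCore M) ≤ M := by
      refine le_trans ?_ hC
      rw [hs, ← cj_centralizer]
      apply cj_mono
      exact Subgroup.le_centralizer_iff.mp (Astar_le_centralizer hG h17 h18 c d)
    have h3 : Cfsg.sigmaCore M ≤ cj s⁻¹ M := by
      have := cj_mono s⁻¹ h2
      rwa [cj_inv_cj] at this
    have hs'M : s⁻¹ ∉ M := fun h => hsM (by simpa using M.inv_mem h)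
    have h4 := sigmaCore_inf_cj hG h17 c (Subgroup.inv_mem _ hsN) hs'M
    apply sigmaCore_ne_bot hG h18 c
    rw [eq_bot_iff, ← h4]
    exact le_inf le_rfl h3

end data

end Cfsg.Agent.Lib.BG127H7
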