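import Mathlib
import Cfsg.Prelude.Def_OddOrderLocal
import Cfsg.Prelude.Def_OddOrder
import Cfsg.Agent.Lib.Helper7.BG127D
import Cfsg.Agent.Lib.Helper4.Rank2Fit
import Cfsg.Agent.H2.BGU.Basic
import Cfsg.Agent.S1408

set_option autoImplicit false
set_option linter.unusedVariables false
set_option linter.unusedSectionVars false
set_option linter.style.haveILetI false

namespace Cfsg.Agent.Lib.BG127H7

open Cfsg Cfsg.Agent.Lib.Helper8.BGTen Cfsg.Agent.Lib.Lead.Conj Cfsg.Agent.Lib.Lead.PiCore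
open Cfsg.Agent.Lib.Helper7 (IsSylowIn exists_isSylowIn_ge card_subgroupOf_of_le)
open Cfsg.Agent.Lib.Helper4.BGTrans (piCoreOf_le le_normalizer_piCoreOf isPiNat_piCoreOf le_piCoreOf le_normalizer_inf)

universe u
variable {G : Type u} [Group G] [Finite G]

/-- the order of a product of complements -/
theorem card_of_isComplIn {A B M : Subgroup G} (h : Cfsg.IsComplIn A B M) :
    Nat.card ↥M = Nat.card ↥A * Nat.card ↥B := by
  obtain ⟨hAM, hBM, hdisj, hprod⟩ := h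
  have hcompl : (A.subgroupOf M).IsComplement' (B.subgroupOf M) := by
    apply Subgroup.isComplement'_of_disjoint_and_mul_eq_univ
    · rw [disjoint_iff, eq_bot_iff]
      rintro x ⟨hx1, hx2⟩
      have h1 : (x : G) ∈ A ⊓ B := ⟨Subgroup.mem_subgroupOf.mp hx1, Subgroup.mem_subgroupOf.mp hx2⟩
      rw [hdisj] at h1
      exact Subgroup.mem_bot.mpr (Subtype.ext (Subgroup.mem_bot.mp h1))
    · rw [Set.eq_univ_iff_forall]
      intro m
      obtain ⟨a, ha, b, hb, hab⟩ := hprod m m.2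
      refine Set.mem_mul.mpr ⟨⟨a, hAM ha⟩, Subgroup.mem_subgroupOf.mpr ha, ⟨b, hBM hb⟩,
        Subgroup.mem_subgroupOf.mpr hb, ?_⟩
      exact Subtype.ext hab.symm
  have := hcompl.card_mul
  rw [card_subgroupOf_of_le hAM, card_subgroupOf_of_le hBM] at this
  exact this.symm

/-- a Sylow `r`-subgroup of a complement of a normal `r'`-subgroup is a Sylow subgroup of the whole -/
theorem sylowIn_of_isComplIn {A B M R : Subgroup G} {r : ℕ} [hr : Fact r.Prime]
    (h : Cfsg.IsComplIn A B M) (hB : (Nat.card ↥B).Coprime r) (hR : IsSylowIn r R A) :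
    IsSylowIn r R M := by
  refine ⟨hR.1.trans h.1, ?_⟩
  rw [hR.2, card_of_isComplIn h, Nat.factorization_mul Nat.card_pos.ne' Nat.card_pos.ne']
  have : (Nat.card ↥B).factorization r = 0 := by
    apply Nat.factorization_eq_zero_of_not_dvd
    intro hd
    exact (Nat.Prime.coprime_iff_not_dvd hr.out).mp hB.symm hd
  simp [this]

/-- an elementary abelian subgroup of order `r²` of `M` for `r ∈ τ₂(M)` -/
theorem exists_elem_of_tau2 {M : Subgroup G} {r : ℕ} (hr : r ∈ Cfsg.tau2 M) :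
    ∃ B : Subgroup G, B ≤ M ∧ Cfsg.IsElementaryAbelian r B ∧ Nat.card ↥B = r ^ 2 := by
  obtain ⟨hrp, -, h2, h1⟩ := hr
  haveI : Fact r.Prime := ⟨hrp⟩
  unfold Cfsg.PRankLE at h1
  push Not at h1
  obtain ⟨B0, hB0c, hB0e, hB0card⟩ := h1
  have hle := h2 B0 hB0c hB0e
  have hpg : IsPGroup r ↥B0 := by
    intro b
    refine ⟨1, ?_⟩
    rw [pow_one]
    exact Subtype.ext (hB0e b.1 b.2)
  obtain ⟨k, hk⟩ := IsPGroup.iff_card.mp hpg
  have hk2 : k = 2 := by
    rw [hk] at hle hB0card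
    rw [pow_one] at hB0card
    have h3 : k ≤ 2 := (Nat.pow_le_pow_iff_right hrp.one_lt).mp hle
    have h4 : 1 < k := by
      by_contra hcon
      push Not at hcon
      have : r ^ k ≤ r ^ 1 := Nat.pow_le_pow_right hrp.pos hcon
      rw [pow_one] at this
      omega
    omega
  refine ⟨B0.map M.subtype, Subgroup.map_subtype_le _, ⟨?_, ?_⟩, ?_⟩
  · haveI := hB0c
    exact inferInstance
  · rintro _ ⟨b, hb, rfl⟩
    exact congrArg Subtype.val (hB0e b hb)
  · rw [Subgroup.card_map_of_injective M.subtype_injective, hk, hk2]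


theorem isElementaryAbelian_cj {r : ℕ} {B : Subgroup G} (hB : Cfsg.IsElementaryAbelian r B) (g : G) :
    Cfsg.IsElementaryAbelian r (cj g B) := by
  refine ⟨?_, ?_⟩
  · haveI := hB.1
    exact inferInstance
  · rintro _ ⟨b, hb, rfl⟩
    show (g * b * g⁻¹) ^ r = 1
    rw [conj_pow, hB.2 b hb]; group

/-- an elementary abelian subgroup of order `r²` of the complement `E` for `r ∈ τ₂(M)` -/
theorem exists_elem_le_compl {M E : Subgroup G} {r : ℕ} [hrf : Fact r.Prime]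
    (hE : Cfsg.IsComplIn E (Cfsg.sigmaCore M) M) (hr : r ∈ Cfsg.tau2 M) :
    ∃ B : Subgroup G, B ≤ E ∧ Cfsg.IsElementaryAbelian r B ∧ Nat.card ↥B = r ^ 2 := by
  obtain ⟨B1, hB1M, hB1el, hB1c⟩ := exists_elem_of_tau2 hr
  have hB1p : IsPGroup r ↥B1 := IsPGroup.of_card hB1c
  obtain ⟨RE, hRE, -⟩ := exists_isSylowIn_ge (p := r) (Q := ⊥) (H := E) IsPGroup.of_bot bot_le
  have hREM : IsSylowIn r RE M :=
    sylowIn_of_isComplIn hE (coprime_card_sigmaCore hrf.out hr.2.1) hRE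
  obtain ⟨R1, hR1, hB1R1⟩ := exists_isSylowIn_ge hB1p hB1M
  obtain ⟨h, hh, hconj⟩ := hR1.conj hREM
  refine ⟨cj h B1, ?_, isElementaryAbelian_cj hB1el h, by rw [card_cj, hB1c]⟩
  refine le_trans ?_ hRE.1
  have : RE = cj h R1 := hconj
  rw [this]
  exact cj_mono h hB1R1

section two

variable {M E A B : Subgroup G} {p r : ℕ}

/-- the normal subgroups `A`, `B` of `E` of coprime orders commute -/
theorem le_centralizer_of_ctx (h18 : Hyp1418 G) [Fact p.Prime] [Fact r.Prime] (cA : Ctx M E A p)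
    (cB : Ctx M E B r) (hpr : p ≠ r) : B ≤ Subgroup.centralizer (A : Set G) := by
  obtain ⟨⟨hEA, -⟩, -, -⟩ := h18 M cA.hM E cA.hE p cA.hp A cA.tripleE
  obtain ⟨⟨hEB, -⟩, -, -⟩ := h18 M cB.hM E cB.hE r cB.hp B cB.tripleE
  apply Cfsg.Agent.H2.BGU.le_centralizer_of_coprime (cB.hAE.trans hEA) (cA.hAE.trans hEB)
  rw [cA.hAc, cB.hAc]
  exact Nat.Coprime.pow 2 2 ((Nat.coprime_primes cB.prime cA.prime).mpr hpr.symm)

/-- `N(A) ≤ N(B)` -/
theorem normalizer_le_of_ctx (h18 : Hyp1418 G) [Fact p.Prime] [Fact r.Prime] (cA : Ctx M E A p)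
    (cB : Ctx M E B r) (hBA : B ≤ Subgroup.centralizer (A : Set G)) :
    Subgroup.normalizer (A : Set G) ≤ Subgroup.normalizer (B : Set G) := by
  obtain ⟨-, ⟨hCA, hMN, -⟩, -⟩ := h18 M cA.hM E cA.hE p cA.hp A cA.tripleE
  obtain ⟨⟨-, hBall⟩, -, -⟩ := h18 M cB.hM E cB.hE r cB.hp B cB.tripleE
  intro n hn
  apply mem_normalizer_of_conj_mem
  intro b hb
  have h1 : n * b * n⁻¹ ∈ Subgroup.centralizer (A : Set G) := by
    have h2 : n * b * n⁻¹ ∈ cj n (Subgroup.centralizer (A : Set G)) := conj_mem_cj (hBA hb)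
    rwa [cj_centralizer, cj_eq_of_mem_normalizer hn] at h2
  have h3 : n * b * n⁻¹ ∈ E := by rw [← hMN]; exact hCA h1
  have h4 : (n * b * n⁻¹) ^ r = 1 := by rw [conj_pow, cB.hAel.2 b hb]; group
  by_cases h5 : n * b * n⁻¹ = 1
  · rw [h5]; exact B.one_mem
  · have hXc : Nat.card ↥(Subgroup.zpowers (n * b * n⁻¹)) = r := by
      rw [Nat.card_zpowers]
      rcases (Nat.dvd_prime cB.prime).mp (orderOf_dvd_of_pow_eq_one h4) with h | h
      · exact absurd (orderOf_eq_one_iff.mp h) h5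
      · exact h
    have hXE : Subgroup.zpowers (n * b * n⁻¹) ≤ E := by rw [Subgroup.zpowers_le]; exact h3
    exact hBall _ hXE hXc (Subgroup.mem_zpowers _)

end two


/-- if one Sylow `r`-subgroup is abelian, all are -/
theorem comm_of_sylow {r : ℕ} [Fact r.Prime] (R : Sylow r G) (hR : IsMulCommutative (R : Subgroup G))
    (R1 : Sylow r G) {x y : G} (hx : x ∈ (R1 : Subgroup G)) (hy : y ∈ (R1 : Subgroup G)) :
    x * y = y * x := by
  let e : ↥(R1 : Subgroup G) ≃* ↥(R : Subgroup G) := Sylow.equiv R1 R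
  have h1 := hR.is_comm.comm (e ⟨x, hx⟩) (e ⟨y, hy⟩)
  rw [← map_mul, ← map_mul] at h1
  exact congrArg Subtype.val (e.injective h1)

theorem comm_of_isSylowIn_top {r : ℕ} [Fact r.Prime] (R : Sylow r G)
    (hR : IsMulCommutative (R : Subgroup G)) {T : Subgroup G} (hT : IsSylowIn r T ⊤)
    {x y : G} (hx : x ∈ T) (hy : y ∈ T) : x * y = y * x := by
  have hc : Nat.card ↥T = r ^ (Nat.card G).factorization r := by rw [hT.2, Subgroup.card_top]
  have := comm_of_sylow R hR (Sylow.ofCard T hc) (x := x) (y := y)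
  rw [Sylow.coe_ofCard] at this
  exact this hx hy

section two'

variable {M E A B : Subgroup G} {p r : ℕ}

/-- (1a): the Sylow `r`-subgroups of `G` are abelian -/
theorem exists_comm_sylow (hG : Cfsg.IsMinSimpleOddOrder G) (h16 : Hyp1416 G) (h17 : Hyp1417 G)
    (h18 : Hyp1418 G) [hpf : Fact p.Prime] [hrf : Fact r.Prime] (cA : Ctx M E A p)
    {S : Sylow p G} {PG Astar Z0 : Subgroup G} (dA : Data M A p S PG Astar Z0)
    (cB : Ctx M E B r) (hpr : p ≠ r) : ∃ R : Sylow r G, IsMulCommutative (R : Subgroup G) := by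
  by_contra hcon
  push Not at hcon
  obtain ⟨S', PG', Astar', Z0', dB⟩ := exists_data hG h16 h17 cB hcon
  have hBA := le_centralizer_of_ctx h18 cA cB hpr
  have hAB : A ≤ Subgroup.centralizer (B : Set G) := Subgroup.le_centralizer_iff.mp hBA
  have hN : Subgroup.normalizer (A : Set G) = Subgroup.normalizer (B : Set G) :=
    le_antisymm (normalizer_le_of_ctx h18 cA cB hBA) (normalizer_le_of_ctx h18 cB cA hAB)
  obtain ⟨j, hj⟩ := relIndex_normalizer h17 h18 cA dA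
  obtain ⟨j', hj'⟩ := relIndex_normalizer h17 h18 cB dB
  rw [← hN, hj] at hj'
  have hj0 : j = 0 := by
    by_contra h0
    have h1 : p ∣ r ^ j' := by rw [← hj']; exact dvd_pow_self p h0
    have h2 : p ∣ r := hpf.out.dvd_of_dvd_pow h1
    exact hpr ((Nat.prime_dvd_prime_iff_eq hpf.out hrf.out).mp h2)
  rw [hj0, pow_zero] at hj
  have h3 : Subgroup.normalizer (A : Set G) ≤ E := Subgroup.relIndex_eq_one.mp hj
  obtain ⟨-, ⟨-, -, hnN⟩, -⟩ := h18 M cA.hM E cA.hE p cA.hp A cA.tripleE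
  exact hnN (h3.trans cA.hEM)

/-- `G` has `r`-rank 2 -/
theorem pRankLE_two_of_comm_sylow (hG : Cfsg.IsMinSimpleOddOrder G) [hrf : Fact r.Prime]
    (cB : Ctx M E B r) (R : Sylow r G) (hR : IsMulCommutative (R : Subgroup G)) :
    Cfsg.PRankLE r 2 G := by
  obtain ⟨-, hmax⟩ := Cfsg.Agent.S1408.result hG M cB.hM r cB.hp.2.1 cB.hp.2.2.1 cB.hp.2.2.2
  intro F hFc hFe
  have hFp : IsPGroup r ↥F := by
    intro f
    refine ⟨1, ?_⟩
    rw [pow_one]
    exact Subtype.ext (hFe f.1 f.2)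
  obtain ⟨R2, hFR2⟩ := hFp.exists_le_sylow
  obtain ⟨R1, hBR1⟩ := cB.isPGroup.exists_le_sylow
  obtain ⟨h, -, hconj⟩ := (IsSylowIn.of_sylow_top R2).conj (IsSylowIn.of_sylow_top R1)
  have hconj' : (R1 : Subgroup G) = cj h (R2 : Subgroup G) := hconj
  have hF'R1 : cj h F ≤ (R1 : Subgroup G) := by rw [hconj']; exact cj_mono h hFR2
  have hF'el : Cfsg.IsElementaryAbelian r (cj h F) := isElementaryAbelian_cj ⟨hFc, hFe⟩ h
  have hcomm : ∀ x ∈ (R1 : Subgroup G), ∀ y ∈ (R1 : Subgroup G), x * y = y * x :=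
    fun x hx y hy => comm_of_sylow R hR R1 hx hy
  have hWR1 : B ⊔ cj h F ≤ (R1 : Subgroup G) := sup_le hBR1 hF'R1
  have hWel : Cfsg.IsElementaryAbelian r (B ⊔ cj h F) := by
    refine ⟨⟨⟨fun a b => Subtype.ext (hcomm _ (hWR1 a.2) _ (hWR1 b.2))⟩⟩, ?_⟩
    intro x hx
    obtain ⟨a, ha, b, hb, rfl⟩ := mem_sup_comm B (cj h F)
      (fun a ha b hb => hcomm a (hBR1 ha) b (hF'R1 hb)) hx
    have hc : Commute a b := hcomm a (hBR1 ha) b (hF'R1 hb)
    rw [hc.mul_pow, cB.hAel.2 a ha, hF'el.2 b hb, one_mul]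
  have hW := hmax B cB.hAM cB.hAel cB.hAc (B ⊔ cj h F) hWel le_sup_left
  have hF'B : cj h F ≤ B := by rw [← hW]; exact le_sup_right
  have := Subgroup.card_le_of_le hF'B
  rwa [card_cj, cB.hAc] at this

end two'

end Cfsg.Agent.Lib.BG127H7
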