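import Mathlib
import Cfsg.Prelude.Def_OddOrderLocal
import Cfsg.Prelude.Def_OddOrder
import Cfsg.Agent.Lib.Helper7.BG127E
import Cfsg.Agent.Lib.Helper5.BGTwelveA
import Cfsg.Agent.Lib.Helper8.BGTenG
import Cfsg.Agent.Lib.Helper8.BGTenJ
import Cfsg.Agent.H2.BGU.Nilp
import Cfsg.Agent.S0023

set_option autoImplicit false
set_option linter.unusedVariables false
set_option linter.unusedSectionVars false
set_option linter.style.haveILetI false

open scoped commutatorElement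

namespace Cfsg.Agent.Lib.BG127H7

open Cfsg Cfsg.Agent.Lib.Helper8.BGTen Cfsg.Agent.Lib.Lead.Conj Cfsg.Agent.Lib.Lead.PiCore
open Cfsg.Agent.Lib.Helper7 (IsSylowIn exists_isSylowIn_ge card_subgroupOf_of_le)
open Cfsg.Agent.Lib.Helper4.BGTrans (piCoreOf_le le_normalizer_piCoreOf isPiNat_piCoreOf le_piCoreOf le_normalizer_inf)

universe u
variable {G : Type u} [Group G] [Finite G]

/-- a `p`-subgroup of `L` lies in the normal Hall `π`-subgroup `O_π(L)` when `p ∈ π` -/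
theorem pGroup_le_piCoreOf {π : Set ℕ} {L Q : Subgroup G} {p : ℕ} (hp : p.Prime)
    (hH : Cfsg.IsPiHallOf π (Cfsg.piCoreOf π L) L) (hpπ : p ∈ π) (hQ : IsPGroup p ↥Q) (hQL : Q ≤ L) :
    Q ≤ Cfsg.piCoreOf π L := by
  have h1 : ¬ p ∣ (Cfsg.piCore π ↥L).index := by
    have := hH.2.2 p hp hpπ
    unfold Cfsg.piCoreOf at this
    rwa [relIndex_map_subtype_self] at this
  have h2 : Q.subgroupOf L ≤ Cfsg.piCore π ↥L :=
    Cfsg.Agent.Lib.Helper5.BGTwelve.pGroup_le_of_not_dvd_index hp (hQ.comap_subtype) h1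
  intro x hx
  exact ⟨⟨x, hQL hx⟩, h2 (Subgroup.mem_subgroupOf.mpr hx), rfl⟩

theorem pGroup_le_sigmaCore (hG : Cfsg.IsMinSimpleOddOrder G) (hU : UniqThm G) {L Q : Subgroup G}
    (hL : IsCoatom L) {p : ℕ} (hp : p.Prime) (hpσ : p ∈ Cfsg.sigma L) (hQ : IsPGroup p ↥Q)
    (hQL : Q ≤ L) : Q ≤ Cfsg.sigmaCore L :=
  pGroup_le_piCoreOf hp (sigmaCore_hall hG hU L hL).1 hpσ hQ hQL

theorem pGroup_le_alphaCore (hG : Cfsg.IsMinSimpleOddOrder G) (hU : UniqThm G) {L Q : Subgroup G}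
    (hL : IsCoatom L) {p : ℕ} (hp : p.Prime) (hpα : p ∈ Cfsg.alpha L) (hQ : IsPGroup p ↥Q)
    (hQL : Q ≤ L) : Q ≤ Cfsg.alphaCore L :=
  pGroup_le_piCoreOf hp (alphaCore_hall hG hU L hL).1 hpα hQ hQL

/-- a Sylow subgroup of `G` whose normalizer lies in `L` puts its prime in `σ(L)` -/
theorem mem_sigma_of_sylow {L : Subgroup G} {p : ℕ} [hpf : Fact p.Prime] (S : Sylow p G)
    (hSL : (S : Subgroup G) ≤ L) (hS1 : (S : Subgroup G) ≠ ⊥)
    (hN : Subgroup.normalizer ((S : Subgroup G) : Set G) ≤ L) : p ∈ Cfsg.sigma L := by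
  refine ⟨hpf.out, ?_, ?_⟩
  · have h1 : p ∣ Nat.card ↥(S : Subgroup G) := by
      obtain ⟨n, hn⟩ := IsPGroup.iff_card.mp S.isPGroup'
      rw [hn]
      apply dvd_pow_self
      rintro rfl
      rw [pow_zero] at hn
      exact hS1 (Subgroup.card_eq_one.mp hn)
    exact h1.trans (Subgroup.card_dvd_of_le hSL)
  · obtain ⟨P, hP⟩ := (IsSylowIn.of_sylow_le S hSL).exists_sylow
    refine ⟨P, ?_⟩
    rw [hP, Subgroup.map_subgroupOf_eq_of_le hSL]
    exact hN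

/-- `r`-rank of subgroups -/
theorem pRankLE_subgroup {r k : ℕ} (h : Cfsg.PRankLE r k G) (L : Subgroup G) : Cfsg.PRankLE r k ↥L :=
  Cfsg.Agent.Lib.Helper4.Rank2Fit.pRankLE_of_injective L.subtype L.subtype_injective h

theorem not_pRankLE_of_le {r k : ℕ} {B L : Subgroup G} (hBL : B ≤ L)
    (hB : Cfsg.IsElementaryAbelian r B) (hc : r ^ k < Nat.card ↥B) : ¬ Cfsg.PRankLE r k ↥L := by
  intro h
  have h1 := h (B.subgroupOf L) (by haveI := hB.1; exact inferInstance)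
    (fun a ha => Subtype.ext (hB.2 (a : G) (Subgroup.mem_subgroupOf.mp ha)))
  rw [card_subgroupOf_of_le hBL] at h1
  omega


/-- **Lemma Q**: in `L'`, a `p`-subgroup and an `r`-subgroup (`p ≠ r`) commute modulo `L_α` -/
theorem commutator_mem_alphaCore (hG : Cfsg.IsMinSimpleOddOrder G) (hU : UniqThm G) {L : Subgroup G}
    (hL : IsCoatom L) {p r : ℕ} [hpf : Fact p.Prime] [hrf : Fact r.Prime] (hpr : p ≠ r)
    {X Y : Subgroup G} (hX : IsPGroup p ↥X) (hY : IsPGroup r ↥Y) (hXL : X ≤ ⁅L, L⁆) (hYL : Y ≤ ⁅L, L⁆)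
    {x y : G} (hx : x ∈ X) (hy : y ∈ Y) : x * y * x⁻¹ * y⁻¹ ∈ Cfsg.alphaCore L := by
  obtain ⟨-, -, -, -, hnil⟩ := alphaCore_hall hG hU L hL
  set K := Cfsg.piCore (Cfsg.alpha L) ↥L with hK
  set f := QuotientGroup.mk' K with hf
  set D := _root_.commutator ↥L with hD
  have hLL : ⁅L, L⁆ ≤ L := Subgroup.commutator_le_self L
  have hsub : ∀ {Z : Subgroup G}, Z ≤ ⁅L, L⁆ → Z.subgroupOf L ≤ D := by
    intro Z hZ z hz
    have h1 : (z : G) ∈ ⁅L, L⁆ := hZ (Subgroup.mem_subgroupOf.mp hz)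
    rw [← Subgroup.map_subtype_commutator] at h1
    obtain ⟨d, hd, hdz⟩ := h1
    have : d = z := Subtype.ext hdz
    rw [← this]; exact hd
  have hXQ : (X.subgroupOf L).map f ≤ D.map f := Subgroup.map_mono (hsub hXL)
  have hYQ : (Y.subgroupOf L).map f ≤ D.map f := Subgroup.map_mono (hsub hYL)
  have hXp : IsPGroup p ↥((X.subgroupOf L).map f) := (hX.comap_subtype).map f
  have hYp : IsPGroup r ↥((Y.subgroupOf L).map f) := (hY.comap_subtype).map f
  have h1 := Cfsg.Agent.H2.BGU.le_Oq_of_isPGroup hnil hXQ hXp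
  have h2 := Cfsg.Agent.H2.BGU.le_Oq_of_isPGroup hnil hYQ hYp
  have h3 := Cfsg.Agent.H2.BGU.Oq_commute hpf.out hrf.out hpr (D.map f)
  set x' : ↥L := ⟨x, hLL (hXL hx)⟩ with hx'
  set y' : ↥L := ⟨y, hLL (hYL hy)⟩ with hy'
  have hfx : f x' ∈ (X.subgroupOf L).map f := ⟨x', Subgroup.mem_subgroupOf.mpr hx, rfl⟩
  have hfy : f y' ∈ (Y.subgroupOf L).map f := ⟨y', Subgroup.mem_subgroupOf.mpr hy, rfl⟩
  have hc : f y' * f x' = f x' * f y' :=
    (Subgroup.mem_centralizer_iff.mp (h3 (h1 hfx))) (f y') (h2 hfy)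
  have h4 : f (x' * y' * x'⁻¹ * y'⁻¹) = 1 := by
    rw [map_mul, map_mul, map_mul, map_inv, map_inv, ← hc]; group
  have h5 : x' * y' * x'⁻¹ * y'⁻¹ ∈ K := (QuotientGroup.eq_one_iff _).mp h4
  exact ⟨x' * y' * x'⁻¹ * y'⁻¹, h5, rfl⟩


/-- for `p ∈ σ(L)`, `p`-subgroups of `L` lie in `L'` -/
theorem pGroup_le_commutator (hG : Cfsg.IsMinSimpleOddOrder G) (hU : UniqThm G) {L X : Subgroup G}
    (hL : IsCoatom L) {p : ℕ} [hpf : Fact p.Prime] (hpσ : p ∈ Cfsg.sigma L) (hX : IsPGroup p ↥X)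
    (hXL : X ≤ L) : X ≤ ⁅L, L⁆ := by
  obtain ⟨P, hP⟩ := (hX.comap_subtype (K := L)).exists_le_sylow
  have h1 := sylow_le_commutator_sub hG hU hL hpσ P
  rw [← Subgroup.map_subtype_commutator]
  intro x hx
  exact ⟨⟨x, hXL hx⟩, h1 (hP (Subgroup.mem_subgroupOf.mpr hx)), rfl⟩

/-- `|HN|` divides `|H||N|` when `H` normalizes `N` -/
theorem card_sup_dvd_of_le_normalizer {H N : Subgroup G}
    (h : H ≤ Subgroup.normalizer (N : Set G)) :
    Nat.card ↥(H ⊔ N) ∣ Nat.card ↥H * Nat.card ↥N := by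
  set T := H ⊔ N with hT
  have hHT : H ≤ T := le_sup_left
  have hNT : N ≤ T := le_sup_right
  haveI : (N.subgroupOf T).Normal :=
    Subgroup.normal_subgroupOf_of_le_normalizer (sup_le h Subgroup.le_normalizer)
  have h1 := card_sup_dvd (H.subgroupOf T) (N.subgroupOf T)
  rw [card_subgroupOf_of_le hHT, card_subgroupOf_of_le hNT] at h1
  have h2 : H.subgroupOf T ⊔ N.subgroupOf T = ⊤ := by
    rw [← Subgroup.subgroupOf_sup hHT hNT]
    exact Subgroup.subgroupOf_self T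
  rw [h2, Subgroup.card_top] at h1
  exact h1

/-- two primes of `σ(L) ∖ α(L)`: some Sylow `p`-subgroup of `G` centralizes a given `r`-subgroup of `L` -/
theorem exists_sylow_le_centralizer (hG : Cfsg.IsMinSimpleOddOrder G) (hU : UniqThm G)
    {L : Subgroup G} (hL : IsCoatom L) {p r : ℕ} [hpf : Fact p.Prime] [hrf : Fact r.Prime]
    (hpr : p ≠ r) (hpσ : p ∈ Cfsg.sigma L) (hrσ : r ∈ Cfsg.sigma L) (hpα : p ∉ Cfsg.alpha L)
    (hrα : r ∉ Cfsg.alpha L) (S : Sylow p G) (hSL : (S : Subgroup G) ≤ L) {R : Subgroup G}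
    (hR : IsPGroup r ↥R) (hRL : R ≤ L) :
    ∃ S1 : Sylow p G, (S1 : Subgroup G) ≤ Subgroup.centralizer (R : Set G) := by
  have hp : p.Prime := hpf.out
  have hr : r.Prime := hrf.out
  set Lα := Cfsg.alphaCore L with hLα
  have hLαL : Lα ≤ L := alphaCore_le L
  have hLαn : L ≤ Subgroup.normalizer (Lα : Set G) := le_normalizer_alphaCore L
  have hRc : R ≤ ⁅L, L⁆ := pGroup_le_commutator hG hU hL hrσ hR hRL
  have hSc : (S : Subgroup G) ≤ ⁅L, L⁆ := pGroup_le_commutator hG hU hL hpσ S.isPGroup' hSL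
  set K1 : Subgroup G := (S : Subgroup G) ⊔ Lα with hK1
  have hK1L : K1 ≤ L := sup_le hSL hLαL
  -- R normalizes K1
  have hRK1 : R ≤ Subgroup.normalizer (K1 : Set G) := by
    intro t ht
    apply mem_normalizer_of_cj_eq
    apply map_conj_eq_of_le
    show cj t K1 ≤ K1
    have h1 : cj t K1 = cj t (S : Subgroup G) ⊔ cj t Lα := Subgroup.map_sup _ _ _
    rw [h1]
    apply sup_le
    · rintro _ ⟨s, hs, rfl⟩
      show t * s * t⁻¹ ∈ K1
      have h2 : t * s * t⁻¹ * s⁻¹ ∈ Lα :=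
        commutator_mem_alphaCore hG hU hL hpr.symm hR S.isPGroup' hRc hSc ht hs
      have e : t * s * t⁻¹ = (t * s * t⁻¹ * s⁻¹) * s := by group
      rw [e]
      exact K1.mul_mem ((le_sup_right : Lα ≤ K1) h2) ((le_sup_left : (S : Subgroup G) ≤ K1) hs)
    · rw [cj_eq_of_mem_normalizer (hLαn (hRL ht))]
      exact le_sup_right
  -- coprimality
  have hcardLα : ¬ r ∣ Nat.card ↥Lα := fun hd => hrα (mem_alpha_of_dvd_alphaCore L hr hd)
  have hcardLα' : ¬ p ∣ Nat.card ↥Lα := fun hd => hpα (mem_alpha_of_dvd_alphaCore L hp hd)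
  have hcardS : ¬ r ∣ Nat.card ↥(S : Subgroup G) := by
    obtain ⟨n, hn⟩ := IsPGroup.iff_card.mp S.isPGroup'
    rw [hn]
    intro hd
    exact hpr ((Nat.prime_dvd_prime_iff_eq hr hp).mp (hr.dvd_of_dvd_pow hd)).symm
  have hdvdK1 : Nat.card ↥K1 ∣ Nat.card ↥(S : Subgroup G) * Nat.card ↥Lα :=
    card_sup_dvd_of_le_normalizer (hSL.trans hLαn)
  have hcop : (Nat.card ↥R).Coprime (Nat.card ↥K1) := by
    obtain ⟨n, hn⟩ := IsPGroup.iff_card.mp hR
    rw [hn]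
    apply Nat.Coprime.pow_left
    rw [Nat.Prime.coprime_iff_not_dvd hr]
    intro hd
    rcases (Nat.Prime.dvd_mul hr).mp (hd.trans hdvdK1) with h | h
    · exact hcardS h
    · exact hcardLα h
  haveI : Group.IsNilpotent ↥R := hR.isNilpotent
  obtain ⟨P, hP⟩ := Cfsg.Agent.S0023.result R K1 hRK1 hcop (Or.inl inferInstance) p
  set S1 : Subgroup G := (P : Subgroup K1).map K1.subtype with hS1
  have hS1K1 : S1 ≤ K1 := Subgroup.map_subtype_le _
  have hS1p : IsPGroup p ↥S1 := P.isPGroup'.map _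
  -- S1 is a Sylow subgroup of G
  have hS1card : Nat.card ↥(S : Subgroup G) ≤ Nat.card ↥S1 := by
    rw [hS1, Subgroup.card_map_of_injective K1.subtype_injective, P.card_eq_multiplicity,
      S.card_eq_multiplicity]
    apply Nat.pow_le_pow_right hp.pos
    have h1 : Nat.card ↥(S : Subgroup G) ∣ Nat.card ↥K1 :=
      Subgroup.card_dvd_of_le (le_sup_left : (S : Subgroup G) ≤ K1)
    rw [S.card_eq_multiplicity] at h1
    exact (hp.pow_dvd_iff_le_factorization Nat.card_pos.ne').mp h1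
  have hS1syl : IsSylowIn p S1 ⊤ :=
    sylIn_of_card_ge (IsSylowIn.of_sylow_top S) le_top hS1p hS1card
  have hc : Nat.card ↥S1 = p ^ (Nat.card G).factorization p := by rw [hS1syl.2, Subgroup.card_top]
  refine ⟨Sylow.ofCard S1 hc, ?_⟩
  rw [Sylow.coe_ofCard]
  have hS1c : S1 ≤ ⁅L, L⁆ := pGroup_le_commutator hG hU hL hpσ hS1p (hS1K1.trans hK1L)
  have hdisj : S1 ⊓ Lα = ⊥ := by
    rw [← disjoint_iff]
    apply Subgroup.disjoint_of_coprime_natCard
    obtain ⟨n, hn⟩ := IsPGroup.iff_card.mp hS1p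
    rw [hn]
    apply Nat.Coprime.pow_left
    rw [Nat.Prime.coprime_iff_not_dvd hp]
    exact hcardLα'
  intro s hs
  rw [Subgroup.mem_centralizer_iff]
  intro t ht
  have h1 : s * t * s⁻¹ * t⁻¹ ∈ Lα :=
    commutator_mem_alphaCore hG hU hL hpr hS1p hR hS1c hRc hs ht
  have h2 : s * t * s⁻¹ * t⁻¹ ∈ S1 := by
    have h3 : t * s⁻¹ * t⁻¹ ∈ S1 :=
      (Subgroup.mem_normalizer_iff.mp (hP ht) s⁻¹).mp (S1.inv_mem hs)
    have e : s * t * s⁻¹ * t⁻¹ = s * (t * s⁻¹ * t⁻¹) := by group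
    rw [e]; exact S1.mul_mem hs h3
  have h4 : s * t * s⁻¹ * t⁻¹ ∈ S1 ⊓ Lα := ⟨h2, h1⟩
  rw [hdisj, Subgroup.mem_bot] at h4
  have : s * t = t * s := by
    calc s * t = (s * t * s⁻¹ * t⁻¹) * (t * s) := by group
      _ = t * s := by rw [h4, one_mul]
  exact this.symm

end Cfsg.Agent.Lib.BG127H7
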