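import Mathlib
import Cfsg.Prelude.Def_OddOrderLocal
import Cfsg.Prelude.Def_OddOrder
import Cfsg.Agent.Lib.Helper7.BG127F

set_option autoImplicit false
set_option linter.unusedVariables false
set_option linter.unusedSectionVars false
set_option linter.style.haveILetI false

open scoped commutatorElement

namespace Cfsg.Agent.Lib.BG127H7

open Cfsg Cfsg.Agent.Lib.Helper8.BGTen Cfsg.Agent.Lib.Lead.Conj Cfsg.Agent.Lib.Lead.PiCore
open Cfsg.Agent.Lib.Helper7 (IsSylowIn exists_isSylowIn_ge card_subgroupOf_of_le)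
open Cfsg.Agent.Lib.Helper4.BGTrans (piCoreOf_le le_normalizer_piCoreOf isPiNat_piCoreOf le_piCoreOf le_normalizer_inf)

universe u
variable {G : Type u} [Group G] [Finite G]
variable {M E A : Subgroup G} {p : ℕ}

/-- **(1)** `τ₂(M) ⊆ {p}` -/
theorem eq_of_mem_tau2 (hG : Cfsg.IsMinSimpleOddOrder G) (hU : UniqThm G) (h16 : Hyp1416 G)
    (h17 : Hyp1417 G) (h18 : Hyp1418 G) [hpf : Fact p.Prime] (cA : Ctx M E A p)
    {S : Sylow p G} {PG Astar Z0 : Subgroup G} (dA : Data M A p S PG Astar Z0)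
    {r : ℕ} (hr : r ∈ Cfsg.tau2 M) : r = p := by
  by_contra hrp
  have hpr : p ≠ r := fun h => hrp h.symm
  have hp : p.Prime := hpf.out
  haveI hrf : Fact r.Prime := ⟨hr.1⟩
  have hrP : r.Prime := hr.1
  obtain ⟨B, hBE, hBel, hBc⟩ := exists_elem_le_compl cA.hE hr
  have cB : Ctx M E B r := ⟨cA.hM, cA.hE, hr, hBE, hBel, hBc⟩
  have hBA := le_centralizer_of_ctx h18 cA cB hpr
  have hAB : A ≤ Subgroup.centralizer (B : Set G) := Subgroup.le_centralizer_iff.mp hBA
  obtain ⟨R, hR⟩ := exists_comm_sylow hG h16 h17 h18 cA dA cB hpr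
  have hrk : Cfsg.PRankLE r 2 G := pRankLE_two_of_comm_sylow hG cB R hR
  -- the subgroup L
  have hZ0bot : Z0 ≠ ⊥ := by
    intro h
    have := dA.hZ0c
    rw [h, Subgroup.card_bot] at this
    exact hp.one_lt.ne this
  have hZ0top : Z0 ≠ ⊤ := ne_top_of_le_coatom cA.hM (dA.hZ0A.trans cA.hAM)
  obtain ⟨L, hL, hNL⟩ := exists_coatom_ge (normalizer_ne_top' hG hZ0bot hZ0top)
  have hSL : (S : Subgroup G) ≤ L := (dA.hSZ0.trans (Subgroup.centralizer_le_normalizer _)).trans hNL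
  have hNSL : Subgroup.normalizer ((S : Subgroup G) : Set G) ≤ L := dA.hNS.trans hNL
  have hNAL : Subgroup.normalizer (A : Set G) ≤ L := (normalizer_le_normalizer_Z0 h17 cA dA).trans hNL
  obtain ⟨⟨hEN, -⟩, -, -⟩ := h18 M cA.hM E cA.hE p cA.hp A cA.tripleE
  obtain ⟨-, ⟨hCB, hMNB, -⟩, -⟩ := h18 M cB.hM E cB.hE r cB.hp B cB.tripleE
  have hEL : E ≤ L := hEN.trans hNAL
  have hAL : A ≤ L := cA.hAE.trans hEL
  have hBL : B ≤ L := hBE.trans hEL
  have hAS : A ≤ (S : Subgroup G) := dA.hAPG.trans dA.hPGS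
  have hLM : L ≠ M := fun h => dA.hnSM (h ▸ hSL)
  have hS1 : (S : Subgroup G) ≠ ⊥ := by
    intro h
    apply cA.ne_bot
    rw [eq_bot_iff, ← h]; exact hAS
  have hpσL : p ∈ Cfsg.sigma L := mem_sigma_of_sylow S hSL hS1 hNSL
  have hrαL : r ∉ Cfsg.alpha L := fun h => h.2 (pRankLE_subgroup hrk L)
  have hCBM : Subgroup.centralizer (B : Set G) ≤ M := hCB.trans inf_le_left
  by_cases hrσL : r ∈ Cfsg.sigma L
  · -- (1c)
    obtain ⟨RL, hRL, hBRL⟩ := exists_isSylowIn_ge cB.isPGroup hBL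
    have hRLtop : IsSylowIn r RL ⊤ := sigma_sylow_top hrσL hRL
    have hRLCB : RL ≤ Subgroup.centralizer (B : Set G) := by
      intro x hx
      rw [Subgroup.mem_centralizer_iff]
      intro b hb
      exact comm_of_isSylowIn_top R hR hRLtop (hBRL hb) hx
    by_cases hpαL : p ∈ Cfsg.alpha L
    · have hSα : (S : Subgroup G) ≤ Cfsg.alphaCore L :=
        pGroup_le_alphaCore hG hU hL hp hpαL S.isPGroup' hSL
      have hAα : A ≤ Cfsg.alphaCore L ⊓ Subgroup.centralizer (B : Set G) :=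
        le_inf (hAS.trans hSα) hAB
      have hXα : ∀ q : ℕ, q.Prime → q ∣ Nat.card ↥B → q ∉ Cfsg.alpha L := by
        intro q hq hd
        rw [hBc] at hd
        have : q = r := (Nat.prime_dvd_prime_iff_eq hq hrP).mp (hq.dvd_of_dvd_pow hd)
        rw [this]; exact hrαL
      have hrk1 : ¬ Cfsg.RankLE 1 ↥(Cfsg.alphaCore L ⊓ Subgroup.centralizer (B : Set G)) := by
        intro h
        have h1 := h p hp (A.subgroupOf _) (by haveI := cA.hAel.1; exact inferInstance)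
          (fun a ha => Subtype.ext (cA.hAel.2 (a : G) (Subgroup.mem_subgroupOf.mp ha)))
        rw [card_subgroupOf_of_le hAα, cA.hAc, pow_one, sq] at h1
        have := hp.one_lt
        nlinarith
      obtain ⟨M', -, huniq⟩ := s1406 hU hG L hL B hBL hXα hrk1
      have e1 : L = M' := huniq L ⟨hL, inf_le_left⟩
      have e2 : M = M' := huniq M ⟨cA.hM, inf_le_right.trans hCBM⟩
      exact hLM (e1.trans e2.symm)
    · obtain ⟨S1, hS1C⟩ := exists_sylow_le_centralizer hG hU hL hpr hpσL hrσL hpαL hrαL S hSL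
        hRL.isPGroup hRL.1
      have h1 : (S1 : Subgroup G) ≤ M :=
        (hS1C.trans (Subgroup.centralizer_le hBRL)).trans hCBM
      exact sylow_not_le h17 cA S1 (dA.hna S1) h1
  · -- (1b)
    have hrτL : r ∈ Cfsg.tau2 L :=
      ⟨hrP, hrσL, pRankLE_subgroup hrk L,
        not_pRankLE_of_le hBL hBel (by rw [hBc, pow_one, sq]; nlinarith [hrP.one_lt])⟩
    obtain ⟨-, -, -, -, h5, -⟩ := h17 L hL r hrτL B ⟨hBL, hBel, hBc⟩
    have h6 := h5 M cA.hM (fun h => hLM h.symm) cB.hAM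
    have hSσ : (S : Subgroup G) ≤ Cfsg.sigmaCore L :=
      pGroup_le_sigmaCore hG hU hL hp hpσL S.isPGroup' hSL
    apply cA.ne_bot
    rw [eq_bot_iff, ← h6]
    exact le_inf (hAS.trans hSσ) cA.hAM

/-- **(1)** `τ₂(M) = {p}` -/
theorem tau2_eq (hG : Cfsg.IsMinSimpleOddOrder G) (hU : UniqThm G) (h16 : Hyp1416 G)
    (h17 : Hyp1417 G) (h18 : Hyp1418 G) [hpf : Fact p.Prime] (cA : Ctx M E A p)
    {S : Sylow p G} {PG Astar Z0 : Subgroup G} (dA : Data M A p S PG Astar Z0) :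
    Cfsg.tau2 M = {p} := by
  ext r
  rw [Set.mem_singleton_iff]
  constructor
  · exact eq_of_mem_tau2 hG hU h16 h17 h18 cA dA
  · rintro rfl
    exact cA.hp

end Cfsg.Agent.Lib.BG127H7
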