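import Mathlib
import Cfsg.Prelude.Def_OddOrderLocal
import Cfsg.Prelude.Def_OddOrder
import Cfsg.Agent.Lib.Helper7.BG127G
import Cfsg.Agent.H2.BGU.Fit
import Cfsg.Agent.S1409

set_option autoImplicit false
set_option linter.unusedVariables false
set_option linter.unusedSectionVars false
set_option linter.style.haveILetI false

open scoped commutatorElement

namespace Cfsg.Agent.Lib.BG127H7

open Cfsg Cfsg.Agent.Lib.Helper8.BGTen Cfsg.Agent.Lib.Lead.Conj Cfsg.Agent.Lib.Lead.PiCore
open Cfsg.Agent.Lib.Helper7 (IsSylowIn exists_isSylowIn_ge card_subgroupOf_of_le)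
open Cfsg.Agent.Lib.Helper4.BGTrans (piCoreOf_le le_normalizer_piCoreOf isPiNat_piCoreOf le_piCoreOf le_normalizer_inf normalizer_le_normalizer_centralizer)
open Cfsg.Agent.H2.BGU (Oq Zq fittingOf_le fittingOf_nilpotent le_fittingOf le_of_forall_Oq_le isPGroup_Oq isPGroup_Zq le_normalizer_Oq_fittingOf le_normalizer_Zq_fittingOf Zq_ne_bot_of_dvd Zq_le Zq_le_centralizer Oq_le le_centralizer_of_coprime)

universe u
variable {G : Type u} [Group G] [Finite G]
variable {M E A : Subgroup G} {p : ℕ}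

/-- a nontrivial normal `q`-subgroup of `M` with `q ∉ σ(M)` forces `q ∈ τ₂(M)` -/
theorem mem_tau2_of_normal (hG : Cfsg.IsMinSimpleOddOrder G) (hU : UniqThm G) (hM : IsCoatom M)
    {q : ℕ} [hqf : Fact q.Prime] (hqσ : q ∉ Cfsg.sigma M) {Y : Subgroup G} (hYM : Y ≤ M)
    (hYn : M ≤ Subgroup.normalizer (Y : Set G)) (hYq : IsPGroup q ↥Y) (hY1 : Y ≠ ⊥)
    (hYc : ∀ a ∈ Y, ∀ b ∈ Y, a * b = b * a) : q ∈ Cfsg.tau2 M := by
  have hq : q.Prime := hqf.out
  -- W = Ω₁(Y)
  let W : Subgroup G :=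
    { carrier := {z | z ∈ Y ∧ z ^ q = 1}
      one_mem' := ⟨Y.one_mem, one_pow q⟩
      mul_mem' := by
        rintro a b ⟨ha, ha1⟩ ⟨hb, hb1⟩
        refine ⟨Y.mul_mem ha hb, ?_⟩
        have hc : Commute a b := hYc a ha b hb
        rw [hc.mul_pow, ha1, hb1, one_mul]
      inv_mem' := by
        rintro a ⟨ha, ha1⟩
        exact ⟨Y.inv_mem ha, by rw [inv_pow, ha1, inv_one]⟩ }
  have hWY : W ≤ Y := fun z hz => hz.1
  have hWM : W ≤ M := hWY.trans hYM
  have hWel : Cfsg.IsElementaryAbelian q W :=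
    ⟨⟨⟨fun a b => Subtype.ext (hYc _ (hWY a.2) _ (hWY b.2))⟩⟩, fun a ha => ha.2⟩
  have hWn : M ≤ Subgroup.normalizer (W : Set G) := by
    intro m hm
    apply mem_normalizer_of_conj_mem
    rintro z ⟨hz, hz1⟩
    refine ⟨(Subgroup.mem_normalizer_iff.mp (hYn hm) z).mp hz, ?_⟩
    rw [conj_pow, hz1]; group
  have hW1 : W ≠ ⊥ := by
    haveI : Nontrivial ↥Y := (Subgroup.nontrivial_iff_ne_bot Y).mpr hY1
    obtain ⟨n, hn0, hn⟩ := (IsPGroup.nontrivial_iff_card hYq).mp inferInstance
    have hdvd : q ∣ Nat.card ↥Y := by rw [hn]; exact dvd_pow_self q hn0.ne'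
    obtain ⟨z, hz⟩ := exists_prime_orderOf_dvd_card' q hdvd
    intro hbot
    have hzW : (z : G) ∈ W := by
      refine ⟨z.2, ?_⟩
      have := pow_orderOf_eq_one z
      rw [hz] at this
      exact congrArg Subtype.val this
    rw [hbot, Subgroup.mem_bot] at hzW
    have : z = 1 := Subtype.ext hzW
    rw [this, orderOf_one] at hz
    exact hq.one_lt.ne hz
  have hWq : IsPGroup q ↥W := hYq.to_le hWY
  obtain ⟨k, hk⟩ := IsPGroup.iff_card.mp hWq
  have hqα : q ∉ Cfsg.alpha M := fun h => hqσ (alpha_subset_sigma hG hU hM h)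
  have hr2 : Cfsg.PRankLE q 2 ↥M := pRankLE_of_not_mem_alpha hq hqα
  refine ⟨hq, hqσ, hr2, ?_⟩
  have hk0 : k ≠ 0 := by
    rintro rfl
    rw [pow_zero] at hk
    exact hW1 (Subgroup.card_eq_one.mp hk)
  by_cases hk1 : k = 1
  · rw [hk1, pow_one] at hk
    have hNW : Subgroup.normalizer (W : Set G) ≤ M := by
      have hWt : W ≠ ⊤ := ne_top_of_le_coatom hM hWM
      rcases eq_or_lt_of_le hWn with h | h
      · exact h.ge
      · exact absurd (hM.2 _ h) (normalizer_ne_top' hG hW1 hWt)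
    exact (Cfsg.Agent.S1409.result hG M hM q hqσ W hk hNW).1.2
  · apply not_pRankLE_of_le hWM hWel
    rw [hk, pow_one]
    have : 2 ≤ k := by omega
    calc q < q ^ 2 := by rw [sq]; nlinarith [hq.one_lt]
      _ ≤ q ^ k := Nat.pow_le_pow_right hq.pos this


section fit

variable [hpf : Fact p.Prime] {S : Sylow p G} {PG Astar Z0 : Subgroup G}

/-- `C_A(M_σ)` is normal in `M` -/
theorem le_normalizer_inf_centralizer (h18 : Hyp1418 G) (cA : Ctx M E A p) :
    M ≤ Subgroup.normalizer
      ((A ⊓ Subgroup.centralizer ((Cfsg.sigmaCore M : Subgroup G) : Set G) : Subgroup G) : Set G) := by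
  obtain ⟨⟨hEN, -⟩, -, -⟩ := h18 M cA.hM E cA.hE p cA.hp A cA.tripleE
  intro m hm
  obtain ⟨e, he, b, hb, rfl⟩ := cA.hE.2.2.2 m hm
  apply Subgroup.mul_mem
  · have h1 : Subgroup.zpowers e ≤ Subgroup.normalizer (A : Set G) := by
      rw [Subgroup.zpowers_le]; exact hEN he
    have h2 : Subgroup.zpowers e ≤ Subgroup.normalizer
        ((Subgroup.centralizer ((Cfsg.sigmaCore M : Subgroup G) : Set G) : Subgroup G) : Set G) := by
      rw [Subgroup.zpowers_le]
      exact normalizer_le_normalizer_centralizer _ (le_normalizer_sigmaCore M (cA.hEM he))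
    exact le_normalizer_inf h1 h2 (Subgroup.mem_zpowers e)
  · apply Subgroup.centralizer_le_normalizer
    have : Cfsg.sigmaCore M ≤ Subgroup.centralizer
        ((A ⊓ Subgroup.centralizer ((Cfsg.sigmaCore M : Subgroup G) : Set G) : Subgroup G) : Set G) :=
      Subgroup.le_centralizer_iff.mp inf_le_right
    exact this hb

theorem Astar_ne_Z0 (dA : Data M A p S PG Astar Z0) : Astar ≠ Z0 := by
  intro h
  apply dA.hnSM
  have := dA.hAstarN
  rw [h] at this
  exact (dA.hSZ0.trans (Subgroup.centralizer_le_normalizer _)).trans this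

/-- **(2b)** `F(M) = M_σ × C_A(M_σ)` -/
theorem fittingOf_eq (hG : Cfsg.IsMinSimpleOddOrder G) (hU : UniqThm G) (h12 : Hyp1412 G)
    (h16 : Hyp1416 G) (h17 : Hyp1417 G) (h18 : Hyp1418 G) (cA : Ctx M E A p)
    (dA : Data M A p S PG Astar Z0) :
    Cfsg.fittingOf M =
      Cfsg.sigmaCore M ⊔ (A ⊓ Subgroup.centralizer ((Cfsg.sigmaCore M : Subgroup G) : Set G)) := by
  have hp : p.Prime := hpf.out
  have hA0 := inf_centralizer_eq_Astar hG h17 h18 cA dA
  obtain ⟨hnil, -, -, -, -, -⟩ := h17 M cA.hM p cA.hp A cA.tripleM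
  have hcopσ : (Nat.card ↥(Cfsg.sigmaCore M)).Coprime p := coprime_card_sigmaCore hp cA.not_sigma
  apply le_antisymm
  · -- F(M) ≤ M_σ ⊔ A0
    apply le_of_forall_Oq_le (fittingOf_nilpotent M)
    intro q hq
    haveI hqf : Fact q.Prime := ⟨hq⟩
    set Y := Oq q (Cfsg.fittingOf M) with hY
    have hYF : Y ≤ Cfsg.fittingOf M := Oq_le q _
    have hYM : Y ≤ M := hYF.trans (fittingOf_le M)
    have hYn : M ≤ Subgroup.normalizer (Y : Set G) := le_normalizer_Oq_fittingOf q M
    have hYq : IsPGroup q ↥Y := isPGroup_Oq hq _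
    by_cases hqσ : q ∈ Cfsg.sigma M
    · refine le_trans ?_ le_sup_left
      apply le_piCoreOf hYM hYn
      intro q' hq' hd
      obtain ⟨n, hn⟩ := IsPGroup.iff_card.mp hYq
      rw [hn] at hd
      rw [(Nat.prime_dvd_prime_iff_eq hq' hq).mp (hq'.dvd_of_dvd_pow hd)]
      exact hqσ
    · by_cases hqp : q = p
      · subst hqp
        refine le_trans ?_ le_sup_right
        have hYPG : Y ≤ PG := sylIn_normal_le dA.hPGsyl hYM hYq hYn
        have hYC : Y ≤ Subgroup.centralizer ((Cfsg.sigmaCore M : Subgroup G) : Set G) := by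
          apply le_centralizer_of_coprime (hYM.trans (le_normalizer_sigmaCore M))
            ((sigmaCore_le M).trans hYn)
          obtain ⟨n, hn⟩ := IsPGroup.iff_card.mp hYq
          rw [hn]
          exact Nat.Coprime.pow_left n hcopσ.symm
        have hAmax := (Cfsg.Agent.S1408.result hG M cA.hM q cA.hp.2.1 cA.hp.2.2.1 cA.hp.2.2.2).2 A
          cA.hAM cA.hAel cA.hAc
        have hAS : A ≤ (S : Subgroup G) := dA.hAPG.trans dA.hPGS
        have hAnc : ¬ (S : Subgroup G) ≤ Subgroup.centralizer (A : Set G) := by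
          intro h
          apply dA.hnSM
          have : (S : Subgroup G) = PG := by rw [← dA.hSCA]; exact (inf_eq_left.mpr h).symm
          rw [this]; exact dA.hPGsyl.1
        intro v hv
        have hvp : v ^ q = 1 := by
          by_contra hne
          obtain ⟨k, hk⟩ := (IsPGroup.iff_orderOf.mp hYq) ⟨v, hv⟩
          rw [Subgroup.orderOf_mk] at hk
          have hk2 : 2 ≤ k := by
            by_contra hlt
            push Not at hlt
            apply hne
            apply orderOf_dvd_iff_pow_eq_one.mp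
            rw [hk]
            calc q ^ k ∣ q ^ 1 := pow_dvd_pow q (by omega)
              _ = q := pow_one q
          set w := v ^ (q ^ (k - 2)) with hw
          have hwY : w ∈ Y := Y.pow_mem hv _
          have hwS : w ∈ (S : Subgroup G) := dA.hPGS (hYPG hwY)
          have hwpp : (w ^ q) ^ q = 1 := by
            have e : q ^ (k - 2) * (q * q) = q ^ k := by
              have h2 : k = (k - 2) + 2 := by omega
              conv_rhs => rw [h2, pow_add, sq]
            rw [hw, ← pow_mul, ← pow_mul, e, ← hk]; exact pow_orderOf_eq_one v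
          have hwpA : w ^ q ∈ A := (dA.hOmega _ (PG.pow_mem (hYPG hwY) q)).mp hwpp
          have hwZ0 : w ^ q ∈ Z0 := pow_mem_Z0 hG h12 S (dA.hna S) hAS cA.hAel cA.hAc hAmax dA.hZ0A
            dA.hZ0c dA.hSZ0 hAnc hwS hwpA
          have hwAstar : w ^ q ∈ Astar := by
            rw [← hA0]; exact ⟨hwpA, hYC (Y.pow_mem hwY q)⟩
          have hw1 : w ^ q = 1 :=
            mem_inf_prime_card hp dA.hAstarc dA.hZ0c (Astar_ne_Z0 dA) hwAstar hwZ0
          rw [hw, ← pow_mul, ← pow_succ] at hw1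
          have hd := orderOf_dvd_of_pow_eq_one hw1
          rw [hk] at hd
          have := (Nat.pow_dvd_pow_iff_le_right hp.one_lt).mp hd
          omega
        exact ⟨(dA.hOmega _ (hYPG hv)).mp hvp, hYC hv⟩
      · -- q ∉ σ(M), q ≠ p : Y = 1
        have hYbot : Y = ⊥ := by
          by_contra hY1
          have hdF : q ∣ Nat.card ↥(Cfsg.fittingOf M) := by
            haveI : Nontrivial ↥Y := (Subgroup.nontrivial_iff_ne_bot Y).mpr hY1
            obtain ⟨n, hn0, hn⟩ := (IsPGroup.nontrivial_iff_card hYq).mp inferInstance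
            have : q ∣ Nat.card ↥Y := by rw [hn]; exact dvd_pow_self q hn0.ne'
            exact this.trans (Subgroup.card_dvd_of_le hYF)
          have hZ1 : Zq q (Cfsg.fittingOf M) ≠ ⊥ := Zq_ne_bot_of_dvd (fittingOf_nilpotent M) hdF
          have hZF : Zq q (Cfsg.fittingOf M) ≤ Cfsg.fittingOf M := Zq_le q _
          have hZc : ∀ a ∈ Zq q (Cfsg.fittingOf M), ∀ b ∈ Zq q (Cfsg.fittingOf M), a * b = b * a := by
            intro a ha b hb
            exact ((Subgroup.mem_centralizer_iff.mp (Zq_le_centralizer q _ hb)) a (hZF ha))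
          have hτ := mem_tau2_of_normal hG hU cA.hM hqσ (hZF.trans (fittingOf_le M))
            (le_normalizer_Zq_fittingOf q M) (isPGroup_Zq hq _) hZ1 hZc
          exact hqp (eq_of_mem_tau2 hG hU h16 h17 h18 cA dA hτ)
        rw [hYbot]; exact bot_le
  · -- M_σ ⊔ A0 ≤ F(M)
    apply sup_le
    · exact le_fittingOf (sigmaCore_le M) (le_normalizer_sigmaCore M) hnil
    · apply le_fittingOf (inf_le_left.trans cA.hAM) (le_normalizer_inf_centralizer h18 cA)
      rw [hA0]
      exact (IsPGroup.of_card (n := 1) (by rw [dA.hAstarc, pow_one])).isNilpotent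

end fit

end Cfsg.Agent.Lib.BG127H7
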