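import Mathlib
import Cfsg.Prelude.Def_OddOrderLocal
import Cfsg.Prelude.Def_OddOrder
import Cfsg.Agent.Lib.Helper7.BG127H

/-!
# B&G Theorem 12.7 (statement S1419), conditionally on the statements of S1403, S1412, S1416, S1417, S1418
-/

set_option autoImplicit false
set_option linter.unusedVariables false
set_option linter.unusedSectionVars false
set_option linter.style.haveILetI false

namespace Cfsg.Agent.Lib.BG127H7

open Cfsg Cfsg.Agent.Lib.Helper8.BGTen

universe u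
variable {G : Type u} [Group G] [Finite G]

/-- **B&G Theorem 12.7** from the statements of S1403 (`hU`), S1412, S1416, S1417, S1418 for `G` -/
theorem s1419_of_hyps (hG : Cfsg.IsMinSimpleOddOrder G) (hU : UniqThm G) (h12 : Hyp1412 G)
    (h16 : Hyp1416 G) (h17 : Hyp1417 G) (h18 : Hyp1418 G)
    (M : Subgroup G) (hM : IsCoatom M) (E : Subgroup G) (hE : Cfsg.IsComplIn E (Cfsg.sigmaCore M) M)
    (p : ℕ) [Fact p.Prime] (hp : p ∈ Cfsg.tau2 M)
    (hS : ∀ S : Sylow p G, ¬ IsMulCommutative (S : Subgroup G))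
    (A : Subgroup G) (hA : (A ≤ E ∧ Cfsg.IsElementaryAbelian p A ∧ Nat.card A = p ^ 2)) :
    Cfsg.tau2 M = {p} ∧
      (Nat.card ↥(A ⊓ Subgroup.centralizer (Cfsg.sigmaCore M : Set G)) = p ∧
        Cfsg.fittingOf M = Cfsg.sigmaCore M ⊔ (A ⊓ Subgroup.centralizer (Cfsg.sigmaCore M : Set G))) ∧
      ∀ X : Subgroup G, X ≤ E → Nat.card X = p → X ≠ A ⊓ Subgroup.centralizer (Cfsg.sigmaCore M : Set G) →
        Cfsg.sigmaCore M ⊓ Subgroup.centralizer (X : Set G) = ⊥ ∧ ¬ Subgroup.centralizer (X : Set G) ≤ M := by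
  have cA : Ctx M E A p := ⟨hM, hE, hp, hA.1, hA.2.1, hA.2.2⟩
  obtain ⟨S, PG, Astar, Z0, dA⟩ := exists_data hG h16 h17 cA hS
  refine ⟨tau2_eq hG hU h16 h17 h18 cA dA, ⟨?_, fittingOf_eq hG hU h12 h16 h17 h18 cA dA⟩, ?_⟩
  · rw [inf_centralizer_eq_Astar hG h17 h18 cA dA]
    exact dA.hAstarc
  · intro X hXE hXc hX
    exact part_three hG h17 h18 cA dA hXE hXc hX

end Cfsg.Agent.Lib.BG127H7
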