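import Mathlib
import Cfsg.Prelude.Def_FusionSystem
import Cfsg.Agent.Lib.Helper7.Fusion
import Cfsg.Agent.Lib.Helper7.AutInduced
import Cfsg.Agent.Lib.Lead.Conj
import Cfsg.Agent.Lib.Helper7.SylowLib

set_option autoImplicit false

namespace Cfsg.Agent.Lib.Helper7

open Cfsg Cfsg.FusionSystem

variable {Ω : Type*} [Group Ω] {S : Subgroup Ω}

theorem mem_autGroup_iff (F : FusionSystem S) {P : Subgroup Ω} (hP : P ≤ S) (α : MulAut P) :
    α ∈ F.autGroup P ↔ P.subtype.comp α.toMonoidHom ∈ F.Hom P := by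
  constructor
  · intro h
    induction h using Subgroup.closure_induction with
    | mem a ha => exact ha
    | one =>
      have := fs_subtype_mem F hP
      convert this using 1
      ext x
      rfl
    | mul a b _ _ iha ihb =>
      have := F.comp_mem ihb iha (fun x => (b x).2)
      convert this using 1
      ext x
      rfl
    | inv a _ iha =>
      obtain ⟨ψ, hψ, hψe⟩ := F.inv_mem iha
      have hr : P = (P.subtype.comp a.toMonoidHom).range := by
        ext x
        constructor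
        · intro hx
          exact ⟨a⁻¹ ⟨x, hx⟩, by simp⟩
        · rintro ⟨y, rfl⟩
          exact (a y).2
      have := fs_mem_of_eq F hr hψ
      convert this using 1
      ext x
      have h1 := hψe (a⁻¹ x)
      simp only [MonoidHom.comp_apply, Subgroup.coe_subtype, MulEquiv.coe_toMonoidHom] at h1 ⊢
      rw [← h1]
      congr 1
      apply Subtype.ext
      show ((a (a⁻¹ x) : P) : Ω) = (x : Ω)
      simp
  · intro h
    exact Subgroup.subset_closure h


/-- The isomorphism `Q ≃* P` induced by an injective homomorphism with range `P`. -/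
noncomputable def isoOfRange {Q P : Subgroup Ω} (ψ : Q →* Ω) (hinj : Function.Injective ψ)
    (hr : ψ.range = P) : Q ≃* P :=
  (MonoidHom.ofInjective hinj).trans (MulEquiv.subgroupCongr hr)

theorem isoOfRange_coe {Q P : Subgroup Ω} (ψ : Q →* Ω) (hinj : Function.Injective ψ)
    (hr : ψ.range = P) (x : Q) : ((isoOfRange ψ hinj hr x : P) : Ω) = ψ x := rfl

theorem isoOfRange_symm_apply {Q P : Subgroup Ω} (ψ : Q →* Ω) (hinj : Function.Injective ψ)
    (hr : ψ.range = P) (y : P) : ψ ((isoOfRange ψ hinj hr).symm y) = (y : Ω) := by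
  have := isoOfRange_coe ψ hinj hr ((isoOfRange ψ hinj hr).symm y)
  rw [MulEquiv.apply_symm_apply] at this
  exact this.symm

/-- The inverse of an isomorphism of the system is a map of the system. -/
theorem fs_iso_symm_mem (F : FusionSystem S) {Q P : Subgroup Ω} {ψ : Q →* Ω} (hψ : ψ ∈ F.Hom Q)
    (hr : ψ.range = P) :
    Q.subtype.comp (isoOfRange ψ (F.injective_of_mem hψ) hr).symm.toMonoidHom ∈ F.Hom P := by
  obtain ⟨χ, hχ, hχe⟩ := F.inv_mem hψ
  have := fs_mem_of_eq F hr.symm hχ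
  convert this using 1
  ext y
  have h1 := hχe ((isoOfRange ψ (F.injective_of_mem hψ) hr).symm y)
  simp only [MonoidHom.comp_apply, Subgroup.coe_subtype, MulEquiv.coe_toMonoidHom]
  rw [← h1]
  congr 1
  apply Subtype.ext
  exact isoOfRange_symm_apply ψ _ hr y

/-- Transport of automorphisms of the system along an isomorphism of the system. -/
theorem autGroup_congr (F : FusionSystem S) {Q P : Subgroup Ω} {ψ : Q →* Ω} (hψ : ψ ∈ F.Hom Q)
    (hr : ψ.range = P) {α : MulAut Q} (hα : α ∈ F.autGroup Q) :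
    MulAut.congr (isoOfRange ψ (F.injective_of_mem hψ) hr) α ∈ F.autGroup P := by
  have hQ : Q ≤ S := (F.le_of_mem hψ).1
  have hP : P ≤ S := by
    rw [← hr]; rintro _ ⟨x, rfl⟩; exact (F.le_of_mem hψ).2 x
  rw [mem_autGroup_iff F hQ] at hα
  rw [mem_autGroup_iff F hP]
  set e := isoOfRange ψ (F.injective_of_mem hψ) hr with he
  have h1 := fs_iso_symm_mem F hψ hr
  have h2 := F.comp_mem h1 hα (fun y => (e.symm y).2)
  have h3 := F.comp_mem h2 hψ (fun y => (α (e.symm y)).2)
  convert h3 using 1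
  ext y
  simp only [MonoidHom.comp_apply, Subgroup.coe_subtype, MulEquiv.coe_toMonoidHom]
  rfl


theorem isPGroup_autInducedBy {p : ℕ} (K P : Subgroup Ω) (hK : IsPGroup p ↥K) :
    IsPGroup p ↥(autInducedBy K P) := by
  rw [autInducedBy_eq_map]
  apply IsPGroup.map
  have : IsPGroup p ↥(K ⊓ Subgroup.normalizer (P : Set Ω)) := hK.to_le inf_le_left
  exact this.comap_subtype

theorem autInducedBy_le_autGroup (F : FusionSystem S) {P : Subgroup Ω} (hP : P ≤ S) :
    autInducedBy S P ≤ F.autGroup P := by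
  intro α hα
  rw [mem_autInducedBy_iff] at hα
  obtain ⟨g, hg, hα⟩ := hα
  rw [mem_autGroup_iff F hP]
  have := F.conj_mem (g := g) hP hg
  convert this using 1
  ext x
  exact hα x

/-- Sylow conjugation inside `Aut_F(P)`. -/
theorem exists_conj_le_autInducedBy [Finite S] (p : ℕ) [Fact p.Prime] (F : FusionSystem S)
    {P : Subgroup Ω} (h₁ : F.IsFullyAutomized p P) (B : Subgroup (MulAut P)) (hBp : IsPGroup p ↥B)
    (hB : B ≤ F.autGroup P) :
    ∃ a ∈ F.autGroup P, ∀ β ∈ B, a * β * a⁻¹ ∈ autInducedBy S P := by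
  obtain ⟨hPS, R, hR⟩ := h₁
  haveI : Finite ↥P := Finite.of_injective (Subgroup.inclusion hPS) (Subgroup.inclusion_injective hPS)
  haveI : Finite (MulAut ↥P) := inferInstance
  have hsyl : IsSylowIn p (autInducedBy S P) (F.autGroup P) :=
    (isSylowIn_iff_exists_sylow (autInducedBy_le_autGroup F hPS)).mpr ⟨R, hR⟩
  obtain ⟨T, hT, hBT⟩ := exists_isSylowIn_ge hBp hB
  obtain ⟨a, ha, hconj⟩ := hT.conj hsyl
  refine ⟨a, ha, fun β hβ => ?_⟩
  rw [hconj]
  exact ⟨β, hBT hβ, by simp [MulAut.conj_apply]⟩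

theorem hom_normalizer_of_fullyAutomized_receptive [Finite S] (p : ℕ) [Fact p.Prime]
    (hS : IsPGroup p S) (F : FusionSystem S) (P Q : Subgroup Ω) (h₁ : F.IsFullyAutomized p P)
    (h₂ : F.IsReceptive P) (hQ : F.IsConj Q P) :
    ∃ φ ∈ F.Hom (normalizerIn S Q), (∀ x, φ x ∈ normalizerIn S P) ∧
      (Q.subgroupOf (normalizerIn S Q)).map φ = P := by
  obtain ⟨ψ, hψ, hr⟩ := hQ
  have hPS : P ≤ S := h₁.1
  have hQS : Q ≤ S := (F.le_of_mem hψ).1
  set e := isoOfRange ψ (F.injective_of_mem hψ) hr with he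
  set B : Subgroup (MulAut P) := (autInducedBy S Q).map (MulAut.congr e).toMonoidHom with hB
  have hBp : IsPGroup p ↥B := (isPGroup_autInducedBy S Q hS).map _
  have hBle : B ≤ F.autGroup P := by
    rintro _ ⟨α, hα, rfl⟩
    exact autGroup_congr F hψ hr (autInducedBy_le_autGroup F hQS hα)
  obtain ⟨a, ha, hconj⟩ := exists_conj_le_autInducedBy p F h₁ B hBp hBle
  -- the modified isomorphism
  set χ : Q →* Ω := (P.subtype.comp a.toMonoidHom).comp e.toMonoidHom with hχdef
  have hχ : χ ∈ F.Hom Q := by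
    have := F.comp_mem hψ ((mem_autGroup_iff F hPS a).mp ha)
      (fun x => by rw [← hr]; exact ⟨x, rfl⟩)
    convert this using 1
    ext x
    rfl
  have hχrange : χ.range = P := by
    ext y
    constructor
    · rintro ⟨x, rfl⟩
      exact (a (e x)).2
    · intro hy
      refine ⟨e.symm (a⁻¹ ⟨y, hy⟩), ?_⟩
      simp [hχdef]
  -- N_S(Q) ≤ extender
  have hNle : normalizerIn S Q ≤ extender S Q χ := by
    intro g hg
    obtain ⟨hgS, hgN⟩ := hg
    apply mem_extender_of_mem hgS hgN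
    set γ : MulAut Q := Q.normalizerMonoidHom ⟨g, hgN⟩ with hγ
    have hγmem : γ ∈ autInducedBy S Q :=
      (mem_autInducedBy_iff S Q γ).mpr ⟨g, hgS, fun x => rfl⟩
    have hβ : MulAut.congr e γ ∈ B := ⟨γ, hγmem, rfl⟩
    obtain ⟨h, hhS, hh⟩ := (mem_autInducedBy_iff S P _).mp (hconj _ hβ)
    refine ⟨h, hhS, fun x hx => ?_⟩
    have e1 : (⟨g * (x : Ω) * g⁻¹, hx⟩ : Q) = γ x := Subtype.ext rfl
    have e2 := hh (a (e x))
    rw [e1]
    show ((a (e (γ x)) : P) : Ω) = h * ((a (e x) : P) : Ω) * h⁻¹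
    rw [← e2]
    simp [MulAut.congr_apply]
  obtain ⟨-, hrec⟩ := h₂
  obtain ⟨χ', hχ', hext⟩ := hrec Q χ hχ hχrange
  have hφ := fs_restrict_mem F hNle hχ'
  set φ := χ'.comp (Subgroup.inclusion hNle) with hφdef
  have hQN : Q ≤ normalizerIn S Q := le_inf hQS Subgroup.le_normalizer
  have hagree : ∀ (x : Ω) (hx : x ∈ Q), φ ⟨x, hQN hx⟩ = χ ⟨x, hx⟩ := by
    intro x hx
    exact hext x hx (hNle (hQN hx))
  have hconjP : ∀ g : normalizerIn S Q, ∀ y ∈ P, φ g * y * (φ g)⁻¹ ∈ P := by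
    intro g y hy
    rw [← hχrange] at hy
    obtain ⟨x, rfl⟩ := hy
    have hgx : (g : Ω) * x * (g : Ω)⁻¹ ∈ Q := (Subgroup.mem_normalizer_iff.mp g.2.2 x).mp x.2
    have e1 : φ g * χ x * (φ g)⁻¹ = χ ⟨(g : Ω) * x * (g : Ω)⁻¹, hgx⟩ := by
      rw [← hagree x x.2, ← hagree _ hgx, ← map_inv, ← map_mul, ← map_mul]
      rfl
    rw [e1, ← hχrange]
    exact ⟨_, rfl⟩
  refine ⟨φ, hφ, fun g => ⟨(F.le_of_mem hφ).2 g, ?_⟩, ?_⟩
  · show φ g ∈ Subgroup.normalizer (P : Set Ω)
    rw [Subgroup.mem_normalizer_iff]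
    intro y
    constructor
    · exact hconjP g y
    · intro hy
      have := hconjP g⁻¹ _ hy
      rw [map_inv] at this
      convert this using 1
      group
  · ext y
    constructor
    · rintro ⟨x, hx, rfl⟩
      have hxQ : (x : Ω) ∈ Q := Subgroup.mem_subgroupOf.mp hx
      have : φ x = χ ⟨x, hxQ⟩ := hagree x hxQ
      rw [this, ← hχrange]
      exact ⟨_, rfl⟩
    · intro hy
      rw [← hχrange] at hy
      obtain ⟨x, rfl⟩ := hy
      exact ⟨⟨x, hQN x.2⟩, Subgroup.mem_subgroupOf.mpr x.2, hagree x x.2⟩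

end Cfsg.Agent.Lib.Helper7
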