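import Mathlib
import Cfsg.Prelude.Def_FusionSystem
import Cfsg.Agent.Lib.Helper7.FusionSat

set_option autoImplicit false

namespace Cfsg.Agent.Lib.Helper7

open Cfsg Cfsg.FusionSystem

variable {Ω : Type*} [Group Ω] {S : Subgroup Ω}

theorem subgroupOf_sup_eq_top (P Q : Subgroup Ω) :
    P.subgroupOf (P ⊔ Q) ⊔ Q.subgroupOf (P ⊔ Q) = ⊤ := by
  rw [← Subgroup.subgroupOf_sup le_sup_left le_sup_right, Subgroup.subgroupOf_self]

/-- A hom on `P ⊔ Q` is controlled by its values on `P` and on `Q`. -/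
theorem map_top_sup {P Q : Subgroup Ω} (ψ : ↥(P ⊔ Q) →* Ω) :
    ψ.range = (P.subgroupOf (P ⊔ Q)).map ψ ⊔ (Q.subgroupOf (P ⊔ Q)).map ψ := by
  rw [← Subgroup.map_sup, subgroupOf_sup_eq_top, MonoidHom.range_eq_map]

theorem range_of_extends {P Q : Subgroup Ω} (ψ : ↥(P ⊔ Q) →* Ω) (φ : P →* Ω) (k : MulAut Q)
    (hφ : ∀ x : P, ψ (Subgroup.inclusion le_sup_left x) = φ x)
    (hk : ∀ x : Q, ψ (Subgroup.inclusion le_sup_right x) = k x) : ψ.range = φ.range ⊔ Q := by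
  rw [map_top_sup]
  congr 1
  · ext y
    constructor
    · rintro ⟨x, hx, rfl⟩
      refine ⟨⟨x, Subgroup.mem_subgroupOf.mp hx⟩, ?_⟩
      rw [← hφ]; rfl
    · rintro ⟨x, rfl⟩
      exact ⟨Subgroup.inclusion le_sup_left x, Subgroup.mem_subgroupOf.mpr x.2, hφ x⟩
  · ext y
    constructor
    · rintro ⟨x, hx, rfl⟩
      have := hk ⟨x, Subgroup.mem_subgroupOf.mp hx⟩
      have e : Subgroup.inclusion le_sup_right (⟨x, Subgroup.mem_subgroupOf.mp hx⟩ : Q) = x :=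
        Subtype.ext rfl
      rw [e] at this
      rw [this]; exact (k _).2
    · intro hy
      refine ⟨Subgroup.inclusion le_sup_right (k⁻¹ ⟨y, hy⟩), Subgroup.mem_subgroupOf.mpr (k⁻¹ ⟨y, hy⟩).2, ?_⟩
      rw [hk]; simp

/-- The subsystem of `F` of the maps `φ` that extend to `P ⊔ Q` acting on `Q` as an element of `K`
(`K = ⊤`: the normalizer system; `K = ⊥`: the centralizer system), for `Q ⊴ S` with `Aut_S(Q) ≤ K`. -/
def extSystem (F : FusionSystem S) (Q : Subgroup Ω) (K : Subgroup (MulAut Q)) (hQS : Q ≤ S)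
    (hN : S ≤ Subgroup.normalizer (Q : Set Ω)) (hK : autInducedBy S Q ≤ K) : FusionSystem S where
  Hom P := {φ | φ ∈ F.Hom P ∧ ∃ ψ ∈ F.Hom (P ⊔ Q),
    (∀ x : P, ψ (Subgroup.inclusion le_sup_left x) = φ x) ∧
      ∃ k ∈ K, ∀ x : Q, ψ (Subgroup.inclusion le_sup_right x) = k x}
  le_of_mem h := F.le_of_mem h.1
  injective_of_mem h := F.injective_of_mem h.1
  conj_mem := by
    intro P g hP hg
    refine ⟨F.conj_mem hP hg, conjHom (P ⊔ Q) g, F.conj_mem (sup_le hP hQS) hg, fun x => rfl,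
      Q.normalizerMonoidHom ⟨g, hN hg⟩, hK ((mem_autInducedBy_iff S Q _).mpr ⟨g, hg, fun x => rfl⟩),
      fun x => rfl⟩
  comp_mem := by
    rintro P P' φ₁ φ₂ ⟨hφ₁, ψ₁, hψ₁, he₁, k₁, hk₁, hkk₁⟩ ⟨hφ₂, ψ₂, hψ₂, he₂, k₂, hk₂, hkk₂⟩ h
    refine ⟨F.comp_mem hφ₁ hφ₂ h, ?_⟩
    have h' : ∀ y : ↥(P ⊔ Q), ψ₁ y ∈ P' ⊔ Q := by
      intro y
      have hy : ψ₁ y ∈ ψ₁.range := ⟨y, rfl⟩
      rw [range_of_extends ψ₁ φ₁ k₁ he₁ hkk₁] at hy
      refine (sup_le_sup_right ?_ Q) hy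
      rintro _ ⟨x, rfl⟩
      exact h x
    refine ⟨_, F.comp_mem hψ₁ hψ₂ h', fun x => ?_, k₂ * k₁, K.mul_mem hk₂ hk₁, fun x => ?_⟩
    · show ψ₂ (ψ₁.codRestrict (P' ⊔ Q) h' (Subgroup.inclusion le_sup_left x)) =
        φ₂ (φ₁.codRestrict P' h x)
      rw [← he₂]
      congr 1
      apply Subtype.ext
      exact he₁ x
    · show ψ₂ (ψ₁.codRestrict (P' ⊔ Q) h' (Subgroup.inclusion le_sup_right x)) = ((k₂ * k₁) x : Q)
      rw [MulAut.mul_apply, ← hkk₂]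
      congr 1
      apply Subtype.ext
      exact hkk₁ x
  inv_mem := by
    rintro P φ ⟨hφ, ψ, hψ, he, k, hk, hkk⟩
    obtain ⟨ψ', hψ', hinv⟩ := F.inv_mem hψ
    have hrange : φ.range ⊔ Q = ψ.range := (range_of_extends ψ φ k he hkk).symm
    have hψ'' := fs_mem_of_eq F hrange hψ'
    have hχ := fs_restrict_mem F (le_sup_left : φ.range ≤ φ.range ⊔ Q) hψ''
    refine ⟨_, ⟨hχ, _, hψ'', fun x => rfl, k⁻¹, K.inv_mem hk, fun q => ?_⟩, fun x => ?_⟩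
    · show ψ' ⟨(q : Ω), _⟩ = ((k⁻¹ q : Q) : Ω)
      have h1 := hinv (Subgroup.inclusion le_sup_right (k⁻¹ q))
      have h2 : ψ (Subgroup.inclusion le_sup_right (k⁻¹ q)) = q := by
        rw [hkk]; simp
      refine Eq.trans ?_ h1
      congr 1
      apply Subtype.ext
      exact h2.symm
    · show ψ' ⟨φ x, _⟩ = (x : Ω)
      have h1 := hinv (Subgroup.inclusion le_sup_left x)
      refine Eq.trans ?_ h1
      congr 1
      apply Subtype.ext
      exact (he x).symm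

end Cfsg.Agent.Lib.Helper7
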