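import Mathlib
import Cfsg.Prelude.Def_FusionSystem
import Cfsg.Agent.Lib.Helper7.FusionSat

set_option autoImplicit false

namespace Cfsg.Agent.Lib.Helper7

open Cfsg Cfsg.FusionSystem

variable {Ω : Type*} [Group Ω] {S : Subgroup Ω}

theorem mem_normalizer_of_conj_mem_finite {R : Subgroup Ω} [Finite R] {g : Ω}
    (h : ∀ r ∈ R, g * r * g⁻¹ ∈ R) : g ∈ Subgroup.normalizer (R : Set Ω) := by
  rw [Subgroup.mem_normalizer_iff]
  intro x
  refine ⟨h x, fun hx => ?_⟩
  let f : R → R := fun r => ⟨g * r * g⁻¹, h r r.2⟩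
  have hinj : Function.Injective f := by
    intro a b hab
    have := congrArg Subtype.val hab
    simp only [f] at this
    exact Subtype.ext (mul_left_cancel (mul_right_cancel this))
  obtain ⟨r, hr⟩ := (Finite.injective_iff_surjective.mp hinj) ⟨g * x * g⁻¹, hx⟩
  have := congrArg Subtype.val hr
  simp only [f] at this
  have e : (r : Ω) = x := mul_left_cancel (mul_right_cancel this)
  rw [← e]; exact r.2

theorem finite_of_le [Finite S] {P : Subgroup Ω} (hP : P ≤ S) : Finite ↥P :=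
  Finite.of_injective (Subgroup.inclusion hP) (Subgroup.inclusion_injective hP)

theorem isConj_symm (F : FusionSystem S) {Q P : Subgroup Ω} (h : F.IsConj Q P) : F.IsConj P Q := by
  obtain ⟨ψ, hψ, hr⟩ := h
  refine ⟨_, fs_iso_symm_mem F hψ hr, ?_⟩
  ext y
  constructor
  · rintro ⟨x, rfl⟩
    exact ((isoOfRange ψ (F.injective_of_mem hψ) hr).symm x).2
  · intro hy
    refine ⟨isoOfRange ψ (F.injective_of_mem hψ) hr ⟨y, hy⟩, ?_⟩
    simp

theorem isConj_le (F : FusionSystem S) {Q P : Subgroup Ω} (h : F.IsConj Q P) : Q ≤ S ∧ P ≤ S := by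
  obtain ⟨ψ, hψ, hr⟩ := h
  refine ⟨(F.le_of_mem hψ).1, ?_⟩
  rw [← hr]; rintro _ ⟨x, rfl⟩; exact (F.le_of_mem hψ).2 x

theorem card_autGroup_le_of_isConj [Finite S] (F : FusionSystem S) {Q P : Subgroup Ω}
    (h : F.IsConj Q P) : Nat.card (F.autGroup Q) ≤ Nat.card (F.autGroup P) := by
  have hP := (isConj_le F h).2
  obtain ⟨ψ, hψ, hr⟩ := h
  haveI := finite_of_le hP
  haveI : Finite (MulAut ↥P) := inferInstance
  apply Nat.card_le_card_of_injective
    (fun α : F.autGroup Q => (⟨MulAut.congr (isoOfRange ψ (F.injective_of_mem hψ) hr) α,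
      autGroup_congr F hψ hr α.2⟩ : F.autGroup P))
  intro a b hab
  have := congrArg Subtype.val hab
  simp only at this
  exact Subtype.ext ((MulAut.congr _).injective this)

theorem card_autGroup_eq_of_isConj [Finite S] (F : FusionSystem S) {Q P : Subgroup Ω}
    (h : F.IsConj Q P) : Nat.card (F.autGroup Q) = Nat.card (F.autGroup P) :=
  le_antisymm (card_autGroup_le_of_isConj F h) (card_autGroup_le_of_isConj F (isConj_symm F h))


/-- Transfer of full automization along an isomorphism `N_S(P) ≅ N_S(R)` of the system. -/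
theorem isFullyAutomized_of_hom [Finite S] (p : ℕ) [Fact p.Prime] (hS : IsPGroup p S)
    (F : FusionSystem S) {P R : Subgroup Ω} (hPS : P ≤ S) (hR : F.IsFullyAutomized p R)
    (φ : normalizerIn S P →* Ω) (hφ : φ ∈ F.Hom (normalizerIn S P))
    (hφP : (P.subgroupOf (normalizerIn S P)).map φ = R)
    (hsurj : normalizerIn S R ≤ φ.range) : F.IsFullyAutomized p P := by
  have hp : p.Prime := Fact.out
  have hPN : P ≤ normalizerIn S P := le_inf hPS Subgroup.le_normalizer
  have hφ' := fs_restrict_mem F hPN hφ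
  set φP := φ.comp (Subgroup.inclusion hPN) with hφPdef
  have hr : φP.range = R := by
    rw [← hφP]
    ext y
    constructor
    · rintro ⟨x, rfl⟩
      exact ⟨Subgroup.inclusion hPN x, Subgroup.mem_subgroupOf.mpr x.2, rfl⟩
    · rintro ⟨x, hx, rfl⟩
      exact ⟨⟨x, Subgroup.mem_subgroupOf.mp hx⟩, rfl⟩
  have hconj : F.IsConj P R := ⟨φP, hφ', hr⟩
  obtain ⟨hRS, Rs, hRs⟩ := id hR
  haveI := finite_of_le hPS
  haveI := finite_of_le hRS
  haveI : Finite (MulAut ↥P) := inferInstance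
  haveI : Finite (MulAut ↥R) := inferInstance
  set e := isoOfRange φP (F.injective_of_mem hφ') hr with he
  have hcardF := card_autGroup_eq_of_isConj F hconj
  have hsylR : IsSylowIn p (autInducedBy S R) (F.autGroup R) :=
    (isSylowIn_iff_exists_sylow (autInducedBy_le_autGroup F hRS)).mpr ⟨Rs, hRs⟩
  -- Aut_S(R) ≤ image of Aut_S(P)
  have hle : autInducedBy S R ≤ (autInducedBy S P).map (MulAut.congr e).toMonoidHom := by
    intro β hβ
    rw [autInducedBy_eq_map] at hβ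
    obtain ⟨n, hn, rfl⟩ := hβ
    have hnS : (n : Ω) ∈ normalizerIn S R := Subgroup.mem_subgroupOf.mp hn
    obtain ⟨m, hm⟩ := hsurj hnS
    refine ⟨P.normalizerMonoidHom ⟨m, m.2.2⟩,
      (mem_autInducedBy_iff S P _).mpr ⟨m, m.2.1, fun x => rfl⟩, ?_⟩
    ext y
    show ((e (P.normalizerMonoidHom ⟨m, m.2.2⟩ (e.symm y)) : R) : Ω) = (n : Ω) * y * (n : Ω)⁻¹
    rw [isoOfRange_coe]
    have e1 : Subgroup.inclusion hPN (P.normalizerMonoidHom ⟨(m : Ω), m.2.2⟩ (e.symm y)) =
        m * Subgroup.inclusion hPN (e.symm y) * m⁻¹ := by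
      apply Subtype.ext; rfl
    rw [hφPdef, MonoidHom.comp_apply, e1, map_mul, map_mul, map_inv, hm]
    have e2 : φ (Subgroup.inclusion hPN (e.symm y)) = (y : Ω) := isoOfRange_symm_apply φP _ hr y
    rw [e2]
  have hcard1 : Nat.card ↥(autInducedBy S R) ≤ Nat.card ↥(autInducedBy S P) := by
    have h1 := Subgroup.card_le_of_le hle
    rwa [Subgroup.card_map_of_injective (MulAut.congr e).injective] at h1
  have hPp : IsPGroup p ↥(autInducedBy S P) := isPGroup_autInducedBy S P hS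
  obtain ⟨k, hk⟩ := IsPGroup.iff_card.mp hPp
  have hPle := autInducedBy_le_autGroup F hPS
  have hdvd : p ^ k ∣ Nat.card ↥(F.autGroup P) := by
    rw [← hk]; exact Subgroup.card_dvd_of_le hPle
  have hkv : k ≤ (Nat.card ↥(F.autGroup P)).factorization p :=
    (hp.pow_dvd_iff_le_factorization Nat.card_pos.ne').mp hdvd
  have hsyl : IsSylowIn p (autInducedBy S P) (F.autGroup P) := by
    refine ⟨hPle, ?_⟩
    apply le_antisymm
    · rw [hk]; exact Nat.pow_le_pow_right hp.pos hkv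
    · rw [hcardF, ← hsylR.2]; exact hcard1
  exact ⟨hPS, (isSylowIn_iff_exists_sylow hPle).mp hsyl⟩


/-- Transfer of receptivity along a map `N_S(P) → N_S(R)` of the system whose image contains
`C_S(R)`. -/
theorem isReceptive_of_hom [Finite S] (F : FusionSystem S) {P R : Subgroup Ω} (hPS : P ≤ S)
    (hR : F.IsReceptive R)
    (φ : normalizerIn S P →* Ω) (hφ : φ ∈ F.Hom (normalizerIn S P))
    (hφP : (P.subgroupOf (normalizerIn S P)).map φ = R)
    (hsurj : centralizerIn S R ≤ φ.range) : F.IsReceptive P := by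
  refine ⟨hPS, ?_⟩
  intro P' φ' hφ' hr'
  haveI := finite_of_le hPS
  have hPN : P ≤ (normalizerIn S P) := le_inf hPS Subgroup.le_normalizer
  have hφ'N : ∀ x : P', φ' x ∈ (normalizerIn S P) := fun x => hPN (by rw [← hr']; exact ⟨x, rfl⟩)
  have hχ := F.comp_mem hφ' hφ hφ'N
  set χ : P' →* Ω := φ.comp (φ'.codRestrict (normalizerIn S P) hφ'N) with hχdef
  have hχr : χ.range = R := by
    rw [← hφP]
    ext y
    constructor
    · rintro ⟨x, rfl⟩
      refine ⟨φ'.codRestrict (normalizerIn S P) hφ'N x, Subgroup.mem_subgroupOf.mpr ?_, rfl⟩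
      show φ' x ∈ P
      rw [← hr']; exact ⟨x, rfl⟩
    · rintro ⟨n, hn, rfl⟩
      have hnP : (n : Ω) ∈ P := Subgroup.mem_subgroupOf.mp hn
      have hnP' : (n : Ω) ∈ φ'.range := by rw [hr']; exact hnP
      obtain ⟨x, hx⟩ := hnP'
      refine ⟨x, ?_⟩
      show φ (φ'.codRestrict (normalizerIn S P) hφ'N x) = φ n
      congr 1
      exact Subtype.ext hx
  obtain ⟨χ', hχ', hext⟩ := hR.2 P' χ hχ hχr
  -- generators of the extender of φ' : the witness normalizes P
  have hgen : ∀ g : Ω, g ∈ S → g ∈ Subgroup.normalizer (P' : Set Ω) →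
      (∃ h ∈ S, ∀ (x : P') (hx : g * (x : Ω) * g⁻¹ ∈ P'), φ' ⟨g * x * g⁻¹, hx⟩ = h * φ' x * h⁻¹) →
      ∃ h : (normalizerIn S P), ∀ (x : P') (hx : g * (x : Ω) * g⁻¹ ∈ P'),
        χ ⟨g * x * g⁻¹, hx⟩ = φ h * χ x * (φ h)⁻¹ := by
    intro g hgS hgN ⟨h, hhS, hh⟩
    have hhN : h ∈ (normalizerIn S P) := by
      refine ⟨hhS, ?_⟩
      apply mem_normalizer_of_conj_mem_finite
      intro y hy
      rw [← hr'] at hy
      obtain ⟨x, rfl⟩ := hy
      have hx : g * (x : Ω) * g⁻¹ ∈ P' := (Subgroup.mem_normalizer_iff.mp hgN x).mp x.2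
      rw [← hh x hx, ← hr']
      exact ⟨_, rfl⟩
    refine ⟨⟨h, hhN⟩, fun x hx => ?_⟩
    show φ (φ'.codRestrict (normalizerIn S P) hφ'N ⟨g * x * g⁻¹, hx⟩) = φ ⟨h, hhN⟩ * φ (φ'.codRestrict (normalizerIn S P) hφ'N x) * (φ ⟨h, hhN⟩)⁻¹
    rw [← map_inv, ← map_mul, ← map_mul]
    congr 1
    apply Subtype.ext
    exact hh x hx
  have hle : extender S P' φ' ≤ extender S P' χ := by
    unfold extender
    apply Subgroup.closure_mono
    rintro g ⟨hgS, hgN, hw⟩
    obtain ⟨h, hh⟩ := hgen g hgS hgN hw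
    exact ⟨hgS, hgN, φ h, (F.le_of_mem hφ).2 h, hh⟩
  have hP'E : P' ≤ extender S P' χ := le_extender F hχ
  -- χ' maps the extender of φ' into the range of φ
  have hinto : extender S P' φ' ≤ ((φ.range).comap χ').map (extender S P' χ).subtype := by
    unfold extender
    rw [Subgroup.closure_le]
    rintro g ⟨hgS, hgN, hw⟩
    obtain ⟨h, hh⟩ := hgen g hgS hgN hw
    have hgE : g ∈ extender S P' χ := hle (Subgroup.subset_closure ⟨hgS, hgN, hw⟩)
    refine ⟨⟨g, hgE⟩, ?_, rfl⟩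
    show χ' ⟨g, hgE⟩ ∈ φ.range
    set t := χ' ⟨g, hgE⟩ with ht
    have htS : t ∈ S := (F.le_of_mem hχ').2 _
    have hc : (φ h)⁻¹ * t ∈ centralizerIn S R := by
      refine ⟨S.mul_mem (S.inv_mem ((F.le_of_mem hφ).2 h)) htS, ?_⟩
      show _ ∈ Subgroup.centralizer (R : Set Ω)
      rw [Subgroup.mem_centralizer_iff]
      intro y hy
      rw [← hχr] at hy
      obtain ⟨x, rfl⟩ := hy
      have hx : g * (x : Ω) * g⁻¹ ∈ P' := (Subgroup.mem_normalizer_iff.mp hgN x).mp x.2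
      have e1 : t * χ x * t⁻¹ = φ h * χ x * (φ h)⁻¹ := by
        rw [← hh x hx, ← hext _ hx (hP'E hx), ← hext _ x.2 (hP'E x.2), ht, ← map_inv, ← map_mul,
          ← map_mul]
        rfl
      have e2 : χ x * ((φ h)⁻¹ * t) = (φ h)⁻¹ * (φ h * χ x * (φ h)⁻¹) * t := by group
      rw [e2, ← e1]; group
    obtain ⟨c, hc'⟩ := hsurj hc
    refine ⟨h * c, ?_⟩
    rw [map_mul, hc']; group
  have hmem : ∀ g : extender S P' φ', χ' (Subgroup.inclusion hle g) ∈ φ.range := by
    intro g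
    obtain ⟨g', hg', hgg'⟩ := hinto g.2
    have : g' = Subgroup.inclusion hle g := Subtype.ext hgg'
    rw [← this]; exact hg'
  have h1 := fs_restrict_mem F hle hχ'
  have h2 := fs_iso_symm_mem F hφ rfl
  have h3 := F.comp_mem h1 h2 hmem
  refine ⟨_, h3, fun x hxP hxN => ?_⟩
  set e := isoOfRange φ (F.injective_of_mem hφ) rfl with he
  show ((e.symm ⟨χ' (Subgroup.inclusion hle ⟨x, hxN⟩), hmem ⟨x, hxN⟩⟩ : (normalizerIn S P)) : Ω) = φ' ⟨x, hxP⟩
  have e1 : χ' (Subgroup.inclusion hle ⟨x, hxN⟩) = χ ⟨x, hxP⟩ := hext x hxP _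
  have e2 : (⟨χ' (Subgroup.inclusion hle ⟨x, hxN⟩), hmem ⟨x, hxN⟩⟩ : φ.range) =
      e (φ'.codRestrict (normalizerIn S P) hφ'N ⟨x, hxP⟩) := by
    apply Subtype.ext
    rw [isoOfRange_coe]
    exact e1
  rw [e2, MulEquiv.symm_apply_apply]
  rfl

end Cfsg.Agent.Lib.Helper7
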