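import Mathlib
import Cfsg.Prelude.Def_FusionSystem
import Cfsg.Agent.Lib.Helper7.FusionSat2

set_option autoImplicit false

namespace Cfsg.Agent.Lib.Helper7

open Cfsg Cfsg.FusionSystem

variable {Ω : Type*} [Group Ω] {S : Subgroup Ω}

theorem isConj_refl (F : FusionSystem S) {P : Subgroup Ω} (hP : P ≤ S) : F.IsConj P P :=
  ⟨P.subtype, fs_subtype_mem F hP, Subgroup.range_subtype P⟩

theorem isConj_trans (F : FusionSystem S) {P Q R : Subgroup Ω} (h1 : F.IsConj P Q)
    (h2 : F.IsConj Q R) : F.IsConj P R := by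
  obtain ⟨φ, hφ, hr⟩ := h1
  obtain ⟨ψ, hψ, hr2⟩ := h2
  have h : ∀ x : P, φ x ∈ Q := fun x => by rw [← hr]; exact ⟨x, rfl⟩
  refine ⟨_, F.comp_mem hφ hψ h, ?_⟩
  rw [← hr2]
  ext y
  constructor
  · rintro ⟨x, rfl⟩
    exact ⟨_, rfl⟩
  · rintro ⟨q, rfl⟩
    have hq : (q : Ω) ∈ φ.range := by rw [hr]; exact q.2
    obtain ⟨x, hx⟩ := hq
    refine ⟨x, ?_⟩
    show ψ (φ.codRestrict Q h x) = ψ q
    congr 1
    exact Subtype.ext hx

theorem exists_max_conj (F : FusionSystem S) (f : Subgroup Ω → ℕ) (B : ℕ) {P : Subgroup Ω}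
    (hP : P ≤ S) (hB : ∀ Q, F.IsConj P Q → f Q ≤ B) :
    ∃ Q, F.IsConj P Q ∧ ∀ Q', F.IsConj P Q' → f Q' ≤ f Q := by
  set s : Set ℕ := {n | ∃ Q, F.IsConj P Q ∧ f Q = n} with hs
  have hne : s.Nonempty := ⟨f P, P, isConj_refl F hP, rfl⟩
  have hbdd : BddAbove s := ⟨B, by rintro n ⟨Q, hQ, rfl⟩; exact hB Q hQ⟩
  obtain ⟨Q, hQ, hfQ⟩ := Nat.sSup_mem hne hbdd
  refine ⟨Q, hQ, fun Q' hQ' => ?_⟩
  rw [hfQ]
  exact le_csSup hbdd ⟨Q', hQ', rfl⟩

theorem card_normalizerIn_le [Finite S] (P : Subgroup Ω) :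
    Nat.card (normalizerIn S P) ≤ Nat.card S :=
  Subgroup.card_le_of_le inf_le_left

theorem card_centralizerIn_le [Finite S] (P : Subgroup Ω) :
    Nat.card (centralizerIn S P) ≤ Nat.card S :=
  Subgroup.card_le_of_le inf_le_left

theorem exists_isFullyNormalized_conj [Finite S] (F : FusionSystem S) {P : Subgroup Ω} (hP : P ≤ S) :
    ∃ Q, F.IsConj P Q ∧ F.IsFullyNormalized Q := by
  obtain ⟨Q, hQ, hmax⟩ := exists_max_conj F (fun Q => Nat.card (normalizerIn S Q)) (Nat.card S) hP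
    (fun Q _ => card_normalizerIn_le Q)
  exact ⟨Q, hQ, (isConj_le F hQ).2, fun Q' hQ' => hmax Q' (isConj_trans F hQ hQ')⟩

theorem exists_isFullyCentralized_conj [Finite S] (F : FusionSystem S) {P : Subgroup Ω} (hP : P ≤ S) :
    ∃ Q, F.IsConj P Q ∧ F.IsFullyCentralized Q := by
  obtain ⟨Q, hQ, hmax⟩ := exists_max_conj F (fun Q => Nat.card (centralizerIn S Q)) (Nat.card S) hP
    (fun Q _ => card_centralizerIn_le Q)
  exact ⟨Q, hQ, (isConj_le F hQ).2, fun Q' hQ' => hmax Q' (isConj_trans F hQ hQ')⟩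

/-- A fully normalized subgroup conjugate to a fully automized receptive one: the map of
`hom_normalizer_of_fullyAutomized_receptive` is onto the normalizer. -/
theorem exists_hom_normalizer_onto [Finite S] (p : ℕ) [Fact p.Prime] (hS : IsPGroup p S)
    (F : FusionSystem S) {P R : Subgroup Ω} (hP : F.IsFullyNormalized P) (hFA : F.IsFullyAutomized p R)
    (hRec : F.IsReceptive R) (hc : F.IsConj P R) :
    ∃ φ ∈ F.Hom (normalizerIn S P), (P.subgroupOf (normalizerIn S P)).map φ = R ∧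
      φ.range = normalizerIn S R := by
  obtain ⟨φ, hφ, hφN, hφP⟩ := hom_normalizer_of_fullyAutomized_receptive p hS F R P hFA hRec hc
  refine ⟨φ, hφ, hφP, ?_⟩
  have hle : φ.range ≤ normalizerIn S R := by
    rintro _ ⟨x, rfl⟩; exact hφN x
  haveI : Finite ↥(normalizerIn S R) := finite_of_le (inf_le_left : normalizerIn S R ≤ S)
  apply Subgroup.eq_of_le_of_card_ge hle
  have h1 : Nat.card φ.range = Nat.card (normalizerIn S P) :=
    (Nat.card_congr (Equiv.ofInjective φ (F.injective_of_mem hφ))).symm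
  show Nat.card ↥(normalizerIn S R) ≤ Nat.card ↥φ.range
  rw [h1]
  exact hP.2 R hc

theorem isFullyAutomized_isReceptive_of_isFullyNormalized [Finite S] (p : ℕ) [Fact p.Prime]
    (hS : IsPGroup p S) (F : FusionSystem S) {P R : Subgroup Ω} (hP : F.IsFullyNormalized P)
    (hFA : F.IsFullyAutomized p R) (hRec : F.IsReceptive R) (hc : F.IsConj P R) :
    F.IsFullyAutomized p P ∧ F.IsReceptive P := by
  obtain ⟨φ, hφ, hφP, hr⟩ := exists_hom_normalizer_onto p hS F hP hFA hRec hc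
  refine ⟨isFullyAutomized_of_hom p hS F hP.1 hFA φ hφ hφP hr.ge,
    isReceptive_of_hom F hP.1 hRec φ hφ hφP ?_⟩
  rw [hr]
  exact inf_le_inf_left S (Subgroup.centralizer_le_normalizer _)

theorem centralizerIn_le_normalizerIn (S P : Subgroup Ω) : centralizerIn S P ≤ normalizerIn S P :=
  inf_le_inf_left S (Subgroup.centralizer_le_normalizer _)

theorem isReceptive_of_isFullyCentralized [Finite S] (p : ℕ) [Fact p.Prime]
    (hS : IsPGroup p S) (F : FusionSystem S) {P R : Subgroup Ω} (hP : F.IsFullyCentralized P)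
    (hFA : F.IsFullyAutomized p R) (hRec : F.IsReceptive R) (hc : F.IsConj P R) :
    F.IsReceptive P := by
  obtain ⟨φ, hφ, hφN, hφP⟩ := hom_normalizer_of_fullyAutomized_receptive p hS F R P hFA hRec hc
  apply isReceptive_of_hom F hP.1 hRec φ hφ hφP
  have hCN := centralizerIn_le_normalizerIn S P
  have hle : ((centralizerIn S P).subgroupOf (normalizerIn S P)).map φ ≤ centralizerIn S R := by
    rintro _ ⟨c, hc', rfl⟩
    have hcC : (c : Ω) ∈ centralizerIn S P := Subgroup.mem_subgroupOf.mp hc'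
    refine ⟨(F.le_of_mem hφ).2 c, ?_⟩
    show _ ∈ Subgroup.centralizer (R : Set Ω)
    rw [Subgroup.mem_centralizer_iff]
    intro y hy
    rw [← hφP] at hy
    obtain ⟨x, hx, rfl⟩ := hy
    have hxP : (x : Ω) ∈ P := Subgroup.mem_subgroupOf.mp hx
    rw [← map_mul, ← map_mul]
    congr 1
    apply Subtype.ext
    exact (Subgroup.mem_centralizer_iff.mp hcC.2) _ hxP
  haveI : Finite ↥(centralizerIn S R) := finite_of_le (inf_le_left : centralizerIn S R ≤ S)
  have heq : ((centralizerIn S P).subgroupOf (normalizerIn S P)).map φ = centralizerIn S R := by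
    apply Subgroup.eq_of_le_of_card_ge hle
    rw [Subgroup.card_map_of_injective (F.injective_of_mem hφ), card_subgroupOf_of_le hCN]
    exact hP.2 R hc
  rw [← heq]
  exact Subgroup.map_le_range _ _

theorem isSaturated_iff_sylow_extension [Finite S] (p : ℕ) [Fact p.Prime] (hS : IsPGroup p S)
    (F : FusionSystem S) :
    F.IsSaturated p ↔ ((∀ P : Subgroup Ω, F.IsFullyNormalized P →
      F.IsFullyCentralized P ∧ F.IsFullyAutomized p P) ∧
      (∀ P : Subgroup Ω, F.IsFullyCentralized P → F.IsReceptive P)) := by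
  constructor
  · intro hsat
    refine ⟨fun P hP => ?_, fun P hP => ?_⟩
    · obtain ⟨R, hc, hFA, hRec⟩ := hsat P hP.1
      obtain ⟨h1, h2⟩ := isFullyAutomized_isReceptive_of_isFullyNormalized p hS F hP hFA hRec hc
      exact ⟨isFullyCentralized_of_isReceptive F P h2, h1⟩
    · obtain ⟨R, hc, hFA, hRec⟩ := hsat P hP.1
      exact isReceptive_of_isFullyCentralized p hS F hP hFA hRec hc
  · rintro ⟨h1, h2⟩ P hP
    obtain ⟨Q, hQ, hFN⟩ := exists_isFullyNormalized_conj F hP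
    obtain ⟨hFC, hFA⟩ := h1 Q hFN
    exact ⟨Q, hQ, hFA, h2 Q hFC⟩

end Cfsg.Agent.Lib.Helper7
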