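import Mathlib
import Cfsg.Prelude.Def_FusionSystem
import Cfsg.Agent.Lib.Helper7.FusionSat3
import Cfsg.Agent.Lib.Helper7.WeaklyClosed

set_option autoImplicit false

namespace Cfsg.Agent.Lib.Helper7

open Cfsg Cfsg.FusionSystem

/-- A non-Sylow `p`-subgroup `B` of `K`: some `p`-element of `K` outside `B` normalizes `B`. -/
theorem exists_pElt_normalizing_of_not_isSylowIn {A : Type*} [Group A] [Finite A] {p : ℕ}
    [Fact p.Prime] {B K : Subgroup A} (hB : IsPGroup p B) (hBK : B ≤ K)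
    (hns : ¬ IsSylowIn p B K) :
    ∃ a ∈ K, a ∉ B ∧ (∀ b ∈ B, a * b * a⁻¹ ∈ B) ∧ ∃ k : ℕ, a ^ (p ^ k) = 1 := by
  obtain ⟨T, hT, hBT⟩ := exists_isSylowIn_ge hB hBK
  have hne : B ≠ T := by
    rintro rfl; exact hns hT
  obtain ⟨x, hxT, hxB, hcj⟩ := exists_mem_normalizer_not_mem hT.isPGroup hBT hne
  refine ⟨x, hT.1 hxT, hxB, fun b hb => ?_, ?_⟩
  · have : x * b * x⁻¹ ∈ cj x B := ⟨b, hb, by simp [MulAut.conj_apply]⟩
    rwa [hcj] at this
  · obtain ⟨k, hk⟩ := hT.isPGroup ⟨x, hxT⟩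
    exact ⟨k, by simpa using congrArg Subtype.val hk⟩

/-- A power of `β` of `p`-power order, with exponent `≡ 1` modulo `p ^ b`. -/
theorem exists_pow_pElt {X : Type*} [Group X] [Finite X] (p : ℕ) [Fact p.Prime] (β : X) (b : ℕ) :
    ∃ k a : ℕ, (β ^ k) ^ (p ^ a) = 1 ∧ k ≡ 1 [MOD p ^ b] := by
  have hp : p.Prime := Fact.out
  obtain ⟨a, m, hm, ho⟩ := Nat.exists_eq_pow_mul_and_not_dvd (orderOf_pos β).ne' p hp.ne_one
  have co : Nat.Coprime m (p ^ b) :=
    Nat.Coprime.pow_right b ((Nat.Prime.coprime_iff_not_dvd hp).mpr hm).symm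
  obtain ⟨k, hk0, hk1⟩ := Nat.chineseRemainder co 0 1
  refine ⟨k, a, ?_, hk1⟩
  rw [← pow_mul, ← orderOf_dvd_iff_pow_eq_one, ho, mul_comm k]
  exact Nat.mul_dvd_mul_left _ ((Nat.modEq_zero_iff_dvd).mp hk0)

variable {Ω : Type*} [Group Ω] {S : Subgroup Ω}

/-- Powers of an automorphism restricting to `α` restrict to the powers of `α`. -/
theorem restrict_pow {Q N : Subgroup Ω} (hQN : Q ≤ N) (α : MulAut Q) (β : MulAut N)
    (h : ∀ x : Q, β (Subgroup.inclusion hQN x) = Subgroup.inclusion hQN (α x)) (k : ℕ) :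
    ∀ x : Q, (β ^ k) (Subgroup.inclusion hQN x) = Subgroup.inclusion hQN ((α ^ k) x) := by
  induction k with
  | zero => intro x; simp
  | succ k ih =>
    intro x
    rw [pow_succ, pow_succ, MulAut.mul_apply, MulAut.mul_apply, h, ih]

theorem normalizerIn_le (S P : Subgroup Ω) : normalizerIn S P ≤ S := inf_le_left

theorem le_normalizerIn {S P : Subgroup Ω} (h : P ≤ S) : P ≤ normalizerIn S P :=
  le_inf h Subgroup.le_normalizer

theorem lt_normalizerIn_of_ne [Finite S] {p : ℕ} [Fact p.Prime] (hS : IsPGroup p S)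
    {Q : Subgroup Ω} (hQS : Q ≤ S) (hne : Q ≠ S) :
    ∃ x ∈ normalizerIn S Q, x ∉ Q := by
  have : Group.IsNilpotent ↥S := hS.isNilpotent
  have hlt : Q.subgroupOf S < ⊤ := by
    rw [lt_top_iff_ne_top]
    intro htop
    apply hne
    apply le_antisymm hQS
    intro x hx
    have : (⟨x, hx⟩ : ↥S) ∈ Q.subgroupOf S := by rw [htop]; exact Subgroup.mem_top _
    exact Subgroup.mem_subgroupOf.mp this
  have hnc := Group.normalizerCondition_of_isNilpotent (G := ↥S) _ hlt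
  obtain ⟨x, hxN, hxK⟩ := SetLike.exists_of_lt hnc
  refine ⟨x, ⟨x.2, ?_⟩, fun h => hxK (Subgroup.mem_subgroupOf.mpr h)⟩
  haveI := finite_of_le hQS
  apply mem_normalizer_of_conj_mem_finite
  intro r hr
  have h1 := (Subgroup.mem_normalizer_iff.mp hxN ⟨r, hQS hr⟩).mp (Subgroup.mem_subgroupOf.mpr hr)
  exact Subgroup.mem_subgroupOf.mp h1

theorem card_lt_card_normalizerIn [Finite S] {p : ℕ} [Fact p.Prime] (hS : IsPGroup p S)
    {Q : Subgroup Ω} (hQS : Q ≤ S) (hne : Q ≠ S) :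
    Nat.card Q < Nat.card (normalizerIn S Q) := by
  obtain ⟨x, hxN, hxQ⟩ := lt_normalizerIn_of_ne hS hQS hne
  haveI : Finite ↥(normalizerIn S Q) := finite_of_le (inf_le_left : normalizerIn S Q ≤ S)
  have hlt : Q < normalizerIn S Q :=
    lt_of_le_of_ne (le_inf hQS Subgroup.le_normalizer) (fun h => hxQ (by rw [h]; exact hxN))
  by_contra hge
  push Not at hge
  exact hlt.ne (Subgroup.eq_of_le_of_card_ge hlt.le hge)

theorem card_eq_of_isConj (F : FusionSystem S) {P Q : Subgroup Ω} (h : F.IsConj P Q) :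
    Nat.card P = Nat.card Q := by
  obtain ⟨φ, hφ, rfl⟩ := h
  exact Nat.card_congr (Equiv.ofInjective φ (F.injective_of_mem hφ))

/-- C1: an automorphism in `Aut_F(Q)` normalizing `Aut_S(Q)`, with `Q` receptive, extends to an
element of `Aut_F(N_S(Q))`. -/
theorem exists_extension_to_normalizer [Finite S] (F : FusionSystem S) {Q : Subgroup Ω}
    (hRec : F.IsReceptive Q) (α : MulAut Q) (hα : α ∈ F.autGroup Q)
    (hnorm : ∀ β ∈ autInducedBy S Q, α * β * α⁻¹ ∈ autInducedBy S Q) :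
    ∃ β ∈ F.autGroup (normalizerIn S Q), ∀ x : Q,
      β (Subgroup.inclusion (le_inf hRec.1 Subgroup.le_normalizer) x) =
        Subgroup.inclusion (le_inf hRec.1 Subgroup.le_normalizer) (α x) := by
  have hQS := hRec.1
  have hQN : Q ≤ normalizerIn S Q := le_inf hQS Subgroup.le_normalizer
  have hφ : Q.subtype.comp α.toMonoidHom ∈ F.Hom Q := (mem_autGroup_iff F hQS α).mp hα
  have hr : (Q.subtype.comp α.toMonoidHom).range = Q := by
    ext y
    constructor
    · rintro ⟨x, rfl⟩; exact (α x).2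
    · intro hy
      exact ⟨α⁻¹ ⟨y, hy⟩, by simp⟩
  obtain ⟨ψ, hψ, hext⟩ := hRec.2 Q _ hφ hr
  have hNE : normalizerIn S Q ≤ extender S Q (Q.subtype.comp α.toMonoidHom) := by
    rintro g ⟨hgS, hgN⟩
    apply mem_extender_of_mem hgS hgN
    have hγmem : Q.normalizerMonoidHom ⟨g, hgN⟩ ∈ autInducedBy S Q :=
      (mem_autInducedBy_iff S Q _).mpr ⟨g, hgS, fun x => rfl⟩
    obtain ⟨h, hhS, hh⟩ := (mem_autInducedBy_iff S Q _).mp (hnorm _ hγmem)
    refine ⟨h, hhS, fun x hx => ?_⟩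
    have e2 := hh (α x)
    show ((α ⟨g * (x : Ω) * g⁻¹, hx⟩ : Q) : Ω) = h * ((α x : Q) : Ω) * h⁻¹
    rw [← e2]
    simp only [MulAut.mul_apply, MulAut.inv_apply_self]
    rfl
  have hβ₀ := fs_restrict_mem F hNE hψ
  set β₀ := ψ.comp (Subgroup.inclusion hNE) with hβ₀def
  have hagree : ∀ x : Q, β₀ (Subgroup.inclusion hQN x) = ((α x : Q) : Ω) := by
    intro x
    exact hext x x.2 (hNE (hQN x.2))
  haveI := finite_of_le hQS
  have hmem : ∀ n : normalizerIn S Q, β₀ n ∈ normalizerIn S Q := by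
    intro n
    refine ⟨(F.le_of_mem hβ₀).2 n, ?_⟩
    apply mem_normalizer_of_conj_mem_finite
    intro y hy
    have hy' : y = β₀ (Subgroup.inclusion hQN (α⁻¹ ⟨y, hy⟩)) := by
      rw [hagree]; simp
    have hnx : (n : Ω) * ((α⁻¹ ⟨y, hy⟩ : Q) : Ω) * (n : Ω)⁻¹ ∈ Q :=
      (Subgroup.mem_normalizer_iff.mp n.2.2 _).mp (α⁻¹ ⟨y, hy⟩).2
    have e1 : β₀ n * y * (β₀ n)⁻¹ = β₀ (Subgroup.inclusion hQN ⟨_, hnx⟩) := by
      conv_lhs => rw [hy']
      rw [← map_inv, ← map_mul, ← map_mul]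
      rfl
    rw [e1, hagree]
    exact (α _).2
  haveI : Finite ↥(normalizerIn S Q) := finite_of_le (inf_le_left : normalizerIn S Q ≤ S)
  have hinj : Function.Injective (β₀.codRestrict (normalizerIn S Q) hmem) := by
    intro a b hab
    exact F.injective_of_mem hβ₀ (congrArg Subtype.val hab)
  have hbij : Function.Bijective (β₀.codRestrict (normalizerIn S Q) hmem) :=
    ⟨hinj, Finite.injective_iff_surjective.mp hinj⟩
  refine ⟨MulEquiv.ofBijective (β₀.codRestrict (normalizerIn S Q) hmem) hbij, ?_, fun x => ?_⟩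
  · apply (mem_autGroup_iff F (normalizerIn_le S Q) _).mpr
    convert hβ₀ using 1
    ext x
    rfl
  · apply Subtype.ext
    exact hagree x

/-- C2: the extension can be taken of `p`-power order. -/
theorem exists_pElt_extension_to_normalizer [Finite S] (p : ℕ) [Fact p.Prime] (F : FusionSystem S)
    {Q : Subgroup Ω} (hRec : F.IsReceptive Q) (α : MulAut Q) (hα : α ∈ F.autGroup Q)
    (hnorm : ∀ β ∈ autInducedBy S Q, α * β * α⁻¹ ∈ autInducedBy S Q) (b : ℕ)
    (hαp : α ^ (p ^ b) = 1) :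
    ∃ β ∈ F.autGroup (normalizerIn S Q), (∃ a : ℕ, β ^ (p ^ a) = 1) ∧ ∀ x : Q,
      β (Subgroup.inclusion (le_normalizerIn hRec.1) x) =
        Subgroup.inclusion (le_normalizerIn hRec.1) (α x) := by
  obtain ⟨β, hβ, hres⟩ := exists_extension_to_normalizer F hRec α hα hnorm
  haveI : Finite ↥(normalizerIn S Q) := finite_of_le (normalizerIn_le S Q)
  haveI : Finite (MulAut ↥(normalizerIn S Q)) := inferInstance
  obtain ⟨k, a, hka, hk1⟩ := exists_pow_pElt p β b
  refine ⟨β ^ k, Subgroup.pow_mem _ hβ k, ⟨a, hka⟩, fun x => ?_⟩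
  have h1 := restrict_pow (le_normalizerIn hRec.1) α β hres k x
  rw [h1]
  have h2 : α ^ k = α ^ 1 := by
    rw [pow_eq_pow_iff_modEq]
    exact Nat.ModEq.of_dvd (orderOf_dvd_of_pow_eq_one hαp) hk1
  rw [h2, pow_one]

theorem isPGroup_zpowers_of_pow_eq_one {X : Type*} [Group X] {p : ℕ} (g : X) (a : ℕ)
    (h : g ^ (p ^ a) = 1) : IsPGroup p ↥(Subgroup.zpowers g) := by
  rintro ⟨y, hy⟩
  obtain ⟨i, rfl⟩ := Subgroup.mem_zpowers_iff.mp hy
  refine ⟨a, Subtype.ext ?_⟩
  show (g ^ i) ^ (p ^ a) = 1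
  rw [← zpow_natCast, ← zpow_mul, mul_comm, zpow_mul, zpow_natCast, h, one_zpow]

/-- C3: a `p`-element `β` of `Aut_F(N)` becomes, after a suitable isomorphism of the system onto a fully
automized conjugate `N'`, conjugation by an element of `S`. -/
theorem exists_hom_conj_of_pElt [Finite S] (p : ℕ) [Fact p.Prime] (F : FusionSystem S)
    {N N' : Subgroup Ω} (hFA : F.IsFullyAutomized p N') (hc : F.IsConj N N')
    (β : MulAut N) (hβ : β ∈ F.autGroup N) (a : ℕ) (hβp : β ^ (p ^ a) = 1) :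
    ∃ θ ∈ F.Hom N, θ.range = N' ∧ ∃ s ∈ S, ∀ n : N, θ (β n) = s * θ n * s⁻¹ := by
  obtain ⟨θ, hθ, hr⟩ := hc
  have hN'S := hFA.1
  set e := isoOfRange θ (F.injective_of_mem hθ) hr with he
  have hβ' : MulAut.congr e β ∈ F.autGroup N' := autGroup_congr F hθ hr hβ
  have hβ'p : (MulAut.congr e β) ^ (p ^ a) = 1 := by
    rw [← map_pow, hβp, map_one]
  have hBp : IsPGroup p ↥(Subgroup.zpowers (MulAut.congr e β)) :=
    isPGroup_zpowers_of_pow_eq_one _ a hβ'p
  have hB : Subgroup.zpowers (MulAut.congr e β) ≤ F.autGroup N' := by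
    rw [Subgroup.zpowers_le]; exact hβ'
  obtain ⟨γ, hγ, hconj⟩ := exists_conj_le_autInducedBy p F hFA _ hBp hB
  obtain ⟨s, hsS, hs⟩ := (mem_autInducedBy_iff S N' _).mp
    (hconj _ (Subgroup.mem_zpowers (MulAut.congr e β)))
  have hθN' : ∀ x : N, θ x ∈ N' := fun x => by rw [← hr]; exact ⟨x, rfl⟩
  have hθ' := F.comp_mem hθ ((mem_autGroup_iff F hN'S γ).mp hγ) hθN'
  refine ⟨_, hθ', ?_, s, hsS, fun n => ?_⟩
  · ext y
    constructor
    · rintro ⟨x, rfl⟩
      exact (γ _).2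
    · intro hy
      refine ⟨e.symm (γ⁻¹ ⟨y, hy⟩), ?_⟩
      show ((γ (θ.codRestrict N' hθN' (e.symm (γ⁻¹ ⟨y, hy⟩))) : N') : Ω) = y
      have : θ.codRestrict N' hθN' (e.symm (γ⁻¹ ⟨y, hy⟩)) = γ⁻¹ ⟨y, hy⟩ := by
        apply Subtype.ext
        exact isoOfRange_symm_apply θ _ hr _
      rw [this]
      simp
  · show ((γ (θ.codRestrict N' hθN' (β n)) : N') : Ω) =
      s * ((γ (θ.codRestrict N' hθN' n) : N') : Ω) * s⁻¹
    rw [← hs]
    have e1 : θ.codRestrict N' hθN' n = e n := Subtype.ext rfl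
    have e2 : θ.codRestrict N' hθN' (β n) = e (β n) := Subtype.ext rfl
    rw [e1, e2]
    simp [MulAut.congr_apply]

/-- C4: if `Q` is fully normalized, `β ∈ Aut(N_S(Q))` restricts to `α` on `Q`, and an isomorphism `θ` of the
system on `N_S(Q)` turns `β` into conjugation by `s ∈ S`, then `α` is induced by an element of `S`. -/
theorem mem_autInducedBy_of_hom_conj [Finite S] (F : FusionSystem S) {Q : Subgroup Ω}
    (hFN : F.IsFullyNormalized Q) (α : MulAut Q) (β : MulAut (normalizerIn S Q))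
    (hres : ∀ x : Q, β (Subgroup.inclusion (le_normalizerIn hFN.1) x) =
        Subgroup.inclusion (le_normalizerIn hFN.1) (α x))
    (θ : normalizerIn S Q →* Ω) (hθ : θ ∈ F.Hom (normalizerIn S Q)) (s : Ω) (hsS : s ∈ S)
    (hs : ∀ n : normalizerIn S Q, θ (β n) = s * θ n * s⁻¹) : α ∈ autInducedBy S Q := by
  have hQS := hFN.1
  have hQN : Q ≤ normalizerIn S Q := le_normalizerIn hQS
  have hθQ := fs_restrict_mem F hQN hθ
  have hr : (θ.comp (Subgroup.inclusion hQN)).range = (Q.subgroupOf (normalizerIn S Q)).map θ := by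
    ext y
    constructor
    · rintro ⟨x, rfl⟩
      exact ⟨Subgroup.inclusion hQN x, Subgroup.mem_subgroupOf.mpr x.2, rfl⟩
    · rintro ⟨x, hx, rfl⟩
      exact ⟨⟨x, Subgroup.mem_subgroupOf.mp hx⟩, rfl⟩
  have hconj : F.IsConj Q ((Q.subgroupOf (normalizerIn S Q)).map θ) := ⟨_, hθQ, hr⟩
  have hQ'S := (isConj_le F hconj).2
  haveI := finite_of_le hQ'S
  have hmemQ' : ∀ x : Q, θ (Subgroup.inclusion hQN x) ∈ (Q.subgroupOf (normalizerIn S Q)).map θ :=
    fun x => ⟨Subgroup.inclusion hQN x, Subgroup.mem_subgroupOf.mpr x.2, rfl⟩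
  -- s normalizes Q'
  have hsN : s ∈ normalizerIn S ((Q.subgroupOf (normalizerIn S Q)).map θ) := by
    refine ⟨hsS, ?_⟩
    apply mem_normalizer_of_conj_mem_finite
    rintro _ ⟨x, hx, rfl⟩
    have hxQ : (x : Ω) ∈ Q := Subgroup.mem_subgroupOf.mp hx
    have e1 : x = Subgroup.inclusion hQN ⟨x, hxQ⟩ := Subtype.ext rfl
    rw [← hs, e1, hres]
    exact hmemQ' _
  -- θ(N) ≤ N_S(Q')
  have hle : θ.range ≤ normalizerIn S ((Q.subgroupOf (normalizerIn S Q)).map θ) := by
    rintro _ ⟨n, rfl⟩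
    refine ⟨(F.le_of_mem hθ).2 n, ?_⟩
    apply mem_normalizer_of_conj_mem_finite
    rintro _ ⟨x, hx, rfl⟩
    have hxQ : (x : Ω) ∈ Q := Subgroup.mem_subgroupOf.mp hx
    have hnx : (n : Ω) * x * (n : Ω)⁻¹ ∈ Q := (Subgroup.mem_normalizer_iff.mp n.2.2 _).mp hxQ
    refine ⟨n * x * n⁻¹, Subgroup.mem_subgroupOf.mpr hnx, ?_⟩
    rw [map_mul, map_mul, map_inv]
  haveI : Finite ↥(normalizerIn S ((Q.subgroupOf (normalizerIn S Q)).map θ)) :=
    finite_of_le (normalizerIn_le S _)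
  have heq : θ.range = normalizerIn S ((Q.subgroupOf (normalizerIn S Q)).map θ) := by
    apply Subgroup.eq_of_le_of_card_ge hle
    have h1 : Nat.card θ.range = Nat.card (normalizerIn S Q) :=
      (Nat.card_congr (Equiv.ofInjective θ (F.injective_of_mem hθ))).symm
    rw [h1]
    exact hFN.2 _ hconj
  rw [← heq] at hsN
  obtain ⟨t, ht⟩ := hsN
  apply (mem_autInducedBy_iff S Q α).mpr
  refine ⟨t, t.2.1, fun x => ?_⟩
  have e1 : θ (Subgroup.inclusion hQN (α x)) = θ (t * Subgroup.inclusion hQN x * t⁻¹) := by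
    rw [← hres, hs, map_mul, map_mul, map_inv, ht]
  have e2 := F.injective_of_mem hθ e1
  exact congrArg Subtype.val e2

/-- One step of the Roberts–Shpectorov induction. -/
theorem isFullyAutomized_step [Finite S] (p : ℕ) [Fact p.Prime] (hS : IsPGroup p S)
    (F : FusionSystem S) {Q : Subgroup Ω} (hFN : F.IsFullyNormalized Q) (hRec : F.IsReceptive Q)
    (hind : ∀ N', F.IsFullyNormalized N' → Nat.card Q < Nat.card N' → F.IsFullyAutomized p N')
    (hQS : Q ≠ S) : F.IsFullyAutomized p Q := by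
  have hQle := hFN.1
  haveI := finite_of_le hQle
  haveI : Finite (MulAut ↥Q) := inferInstance
  have hBle := autInducedBy_le_autGroup F hQle
  by_contra hnFA
  have hns : ¬ IsSylowIn p (autInducedBy S Q) (F.autGroup Q) := by
    intro h
    exact hnFA ⟨hQle, (isSylowIn_iff_exists_sylow hBle).mp h⟩
  obtain ⟨α, hα, hαB, hnorm, b, hαp⟩ :=
    exists_pElt_normalizing_of_not_isSylowIn (isPGroup_autInducedBy S Q hS) hBle hns
  obtain ⟨β, hβ, ⟨a, hβp⟩, hres⟩ :=
    exists_pElt_extension_to_normalizer p F hRec α hα hnorm b hαp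
  obtain ⟨N', hc, hFN'⟩ := exists_isFullyNormalized_conj F (normalizerIn_le S Q)
  have hcard : Nat.card Q < Nat.card N' := by
    rw [← card_eq_of_isConj F hc]
    exact card_lt_card_normalizerIn hS hQle hQS
  have hFA' := hind N' hFN' hcard
  obtain ⟨θ, hθ, -, s, hsS, hs⟩ := exists_hom_conj_of_pElt p F hFA' hc β hβ a hβp
  exact hαB (mem_autInducedBy_of_hom_conj F hFN α β hres θ hθ s hsS hs)

theorem isFullyAutomized_of_isFullyNormalized_of_receptive [Finite S] (p : ℕ) [Fact p.Prime]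
    (hS : IsPGroup p S) (F : FusionSystem S) (hFA : F.IsFullyAutomized p S)
    (hrec : ∀ P : Subgroup Ω, F.IsFullyNormalized P → F.IsReceptive P) :
    ∀ Q : Subgroup Ω, F.IsFullyNormalized Q → F.IsFullyAutomized p Q := by
  have key : ∀ n : ℕ, ∀ Q : Subgroup Ω, F.IsFullyNormalized Q →
      Nat.card S - Nat.card Q = n → F.IsFullyAutomized p Q := by
    intro n
    induction n using Nat.strong_induction_on with
    | _ n ih =>
      intro Q hFN hn
      by_cases hQS : Q = S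
      · rw [hQS]; exact hFA
      · apply isFullyAutomized_step p hS F hFN (hrec Q hFN) _ hQS
        intro N' hFN' hlt
        have hle : Nat.card N' ≤ Nat.card S := Subgroup.card_le_of_le hFN'.1
        exact ih (Nat.card S - Nat.card N') (by omega) N' hFN' rfl
  intro Q hQ
  exact key _ Q hQ rfl

theorem isSaturated_iff_top_automized [Finite S] (p : ℕ) [Fact p.Prime] (hS : IsPGroup p S)
    (F : FusionSystem S) :
    F.IsSaturated p ↔ (F.IsFullyAutomized p S ∧
      ∀ P : Subgroup Ω, F.IsFullyNormalized P → F.IsReceptive P) := by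
  constructor
  · intro hsat
    refine ⟨?_, fun P hP => ?_⟩
    · obtain ⟨R, hc, hFA, -⟩ := hsat S le_rfl
      have hRS := (isConj_le F hc).2
      have : R = S := by
        apply Subgroup.eq_of_le_of_card_ge hRS
        rw [card_eq_of_isConj F hc]
      rw [this] at hFA; exact hFA
    · obtain ⟨R, hc, hFA, hRec⟩ := hsat P hP.1
      exact (isFullyAutomized_isReceptive_of_isFullyNormalized p hS F hP hFA hRec hc).2
  · rintro ⟨hFA, hrec⟩ P hP
    obtain ⟨Q, hQ, hFN⟩ := exists_isFullyNormalized_conj F hP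
    exact ⟨Q, hQ, isFullyAutomized_of_isFullyNormalized_of_receptive p hS F hFA hrec Q hFN,
      hrec Q hFN⟩

end Cfsg.Agent.Lib.Helper7
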