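import Mathlib
import Cfsg.Prelude.Def_FusionSystem
import Cfsg.Agent.Lib.Helper7.FusionSat4

set_option autoImplicit false

namespace Cfsg.Agent.Lib.Helper7

open Cfsg Cfsg.FusionSystem

variable {Ω : Type*} [Group Ω] {S : Subgroup Ω}

theorem range_comp_inclusion {Q P : Subgroup Ω} (hQP : Q ≤ P) (ψ : P →* Ω) :
    (ψ.comp (Subgroup.inclusion hQP)).range = (Q.subgroupOf P).map ψ := by
  ext y
  constructor
  · rintro ⟨x, rfl⟩
    exact ⟨Subgroup.inclusion hQP x, Subgroup.mem_subgroupOf.mpr x.2, rfl⟩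
  · rintro ⟨x, hx, rfl⟩
    exact ⟨⟨x, Subgroup.mem_subgroupOf.mp hx⟩, rfl⟩

theorem isConj_map_of_le (F : FusionSystem S) {Q P : Subgroup Ω} (hQP : Q ≤ P) {ψ : P →* Ω}
    (hψ : ψ ∈ F.Hom P) : F.IsConj Q ((Q.subgroupOf P).map ψ) :=
  ⟨_, fs_restrict_mem F hQP hψ, range_comp_inclusion hQP ψ⟩

theorem isCentric_of_isConj (F : FusionSystem S) {Q R : Subgroup Ω} (hQ : F.IsCentric Q)
    (h : F.IsConj Q R) : F.IsCentric R :=
  ⟨(isConj_le F h).2, fun R' hR' => hQ.2 R' (isConj_trans F h hR')⟩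

theorem isCentric_of_le (F : FusionSystem S) {Q Q₁ : Subgroup Ω} (hQ : F.IsCentric Q)
    (hle : Q ≤ Q₁) (hQ₁S : Q₁ ≤ S) : F.IsCentric Q₁ := by
  refine ⟨hQ₁S, ?_⟩
  rintro R₁ ⟨ψ, hψ, rfl⟩
  have hc := isConj_map_of_le F hle hψ
  have h1 := hQ.2 _ hc
  intro c hc'
  have hcC : c ∈ centralizerIn S ((Q.subgroupOf Q₁).map ψ) := by
    refine ⟨hc'.1, ?_⟩
    show c ∈ Subgroup.centralizer _
    rw [Subgroup.mem_centralizer_iff]
    intro y hy
    exact (Subgroup.mem_centralizer_iff.mp hc'.2) y (Subgroup.map_le_range _ _ hy)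
  exact Subgroup.map_le_range _ _ (h1 hcC)

/-- Normal case: two maps on `P` agreeing on a centric subgroup `Q ⊴ P` differ by conjugation by an
element of `Z(Q)`. -/
theorem hom_eq_conj_of_agree_normal [Finite S] (p : ℕ) [Fact p.Prime] (hS : IsPGroup p S)
    (F : FusionSystem S) (hF : F.IsSaturated p) (P Q : Subgroup Ω) (hQP : Q ≤ P)
    (hnorm : P ≤ Subgroup.normalizer (Q : Set Ω)) (hQ : F.IsCentric Q) (φ φ' : P →* Ω)
    (hφ : φ ∈ F.Hom P) (hφ' : φ' ∈ F.Hom P) (h : ∀ x : P, (x : Ω) ∈ Q → φ x = φ' x) :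
    ∃ z : P, (z : Ω) ∈ Q ∧ (z : Ω) ∈ Subgroup.centralizer (Q : Set Ω) ∧
      ∀ y : P, φ' y = φ (z * y * z⁻¹) := by
  have hPS : P ≤ S := (F.le_of_mem hφ).1
  have hQS : Q ≤ S := hQP.trans hPS
  haveI := finite_of_le hPS
  haveI := finite_of_le hQS
  have hinj := F.injective_of_mem hφ
  -- step a
  have hstep : ∀ x : P, ∃ q : P, (q : Ω) ∈ Q ∧ (q : Ω) ∈ Subgroup.centralizer (Q : Set Ω) ∧
      φ' x = φ (x * q) := by
    intro x
    have hcen : (φ x)⁻¹ * φ' x ∈ centralizerIn S ((Q.subgroupOf P).map φ) := by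
      refine ⟨S.mul_mem (S.inv_mem ((F.le_of_mem hφ).2 x)) ((F.le_of_mem hφ').2 x), ?_⟩
      show _ ∈ Subgroup.centralizer _
      rw [Subgroup.mem_centralizer_iff]
      rintro _ ⟨q, hq, rfl⟩
      have hqQ : (q : Ω) ∈ Q := Subgroup.mem_subgroupOf.mp hq
      have hxq : ((x * q * x⁻¹ : P) : Ω) ∈ Q := by
        have := (Subgroup.mem_normalizer_iff.mp (hnorm x.2) q).mp hqQ
        simpa using this
      have e1 := h (x * q * x⁻¹) hxq
      rw [map_mul, map_mul, map_inv, map_mul, map_mul, map_inv, ← h q hqQ] at e1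
      have e2 : φ q * ((φ x)⁻¹ * φ' x) = (φ x)⁻¹ * (φ x * φ q * (φ x)⁻¹) * φ' x := by group
      rw [e2, e1]; group
    obtain ⟨q, hq, hqe⟩ := hQ.2 _ (isConj_map_of_le F hQP hφ) hcen
    have hqQ : (q : Ω) ∈ Q := Subgroup.mem_subgroupOf.mp hq
    refine ⟨q, hqQ, ?_, ?_⟩
    · rw [Subgroup.mem_centralizer_iff]
      intro y hy
      have hy' : φ ⟨y, hQP hy⟩ ∈ (Q.subgroupOf P).map φ :=
        ⟨⟨y, hQP hy⟩, Subgroup.mem_subgroupOf.mpr hy, rfl⟩
      have e1 := (Subgroup.mem_centralizer_iff.mp hcen.2) _ hy'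
      rw [← hqe, ← map_mul, ← map_mul] at e1
      exact congrArg Subtype.val (hinj e1)
    · rw [map_mul, hqe]; group
  have hmem : ∀ x : P, φ' x ∈ φ.range := by
    intro x
    obtain ⟨q, -, -, hq⟩ := hstep x
    exact ⟨x * q, hq.symm⟩
  set e := isoOfRange φ hinj rfl with he
  set α₀ : P →* P := (e.symm.toMonoidHom).comp (φ'.codRestrict φ.range hmem) with hα₀
  have hφα : ∀ x : P, φ (α₀ x) = φ' x := fun x => isoOfRange_symm_apply φ hinj rfl _
  have hα₀mem : P.subtype.comp α₀ ∈ F.Hom P := F.comp_mem hφ' (fs_iso_symm_mem F hφ rfl) hmem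
  have hα₀inj : Function.Injective α₀ := by
    intro a b hab
    apply F.injective_of_mem hφ'
    rw [← hφα, ← hφα, hab]
  have hbij : Function.Bijective α₀ := ⟨hα₀inj, Finite.injective_iff_surjective.mp hα₀inj⟩
  set α : MulAut P := MulEquiv.ofBijective α₀ hbij with hα
  have hαmem : α ∈ F.autGroup P := by
    apply (mem_autGroup_iff F hPS _).mpr
    convert hα₀mem using 1
    ext x
    rfl
  have hαx : ∀ x : P, ∃ q : P, (q : Ω) ∈ Q ∧ (q : Ω) ∈ Subgroup.centralizer (Q : Set Ω) ∧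
      α x = x * q := by
    intro x
    obtain ⟨q, hq1, hq2, hq3⟩ := hstep x
    refine ⟨q, hq1, hq2, ?_⟩
    apply hinj
    show φ (α₀ x) = _
    rw [hφα, hq3]
  have hαQ : ∀ q : P, (q : Ω) ∈ Q → α q = q := by
    intro q hq
    apply hinj
    show φ (α₀ q) = _
    rw [hφα, h q hq]
  -- powers
  have hpow : ∀ (k : ℕ) (x : P), ∃ q : P, (q : Ω) ∈ Q ∧ α x = x * q ∧ (α ^ k) x = x * q ^ k := by
    intro k x
    obtain ⟨q, hq1, -, hq3⟩ := hαx x
    refine ⟨q, hq1, hq3, ?_⟩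
    induction k with
    | zero => simp
    | succ k ih =>
      rw [pow_succ', MulAut.mul_apply, ih, map_mul, map_pow, hαQ q hq1, hq3, pow_succ']
      group
  obtain ⟨a, ha⟩ := (hS.to_le hQS).exists_card_eq
  have hαp : α ^ (p ^ a) = 1 := by
    ext x
    obtain ⟨q, hq1, -, hq3⟩ := hpow (p ^ a) x
    rw [hq3]
    have : (⟨(q : Ω), hq1⟩ : Q) ^ (p ^ a) = 1 := by rw [← ha]; exact pow_card_eq_one'
    have h2 : (q : Ω) ^ (p ^ a) = 1 := by simpa using congrArg Subtype.val this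
    simp [h2]
  -- step c
  obtain ⟨N', hc, hFA, -⟩ := hF P hPS
  obtain ⟨θ, hθ, -, s, hsS, hs⟩ := exists_hom_conj_of_pElt p F hFA hc α hαmem a hαp
  have hsC : s ∈ centralizerIn S ((Q.subgroupOf P).map θ) := by
    refine ⟨hsS, ?_⟩
    show _ ∈ Subgroup.centralizer _
    rw [Subgroup.mem_centralizer_iff]
    rintro _ ⟨q, hq, rfl⟩
    have hqQ : (q : Ω) ∈ Q := Subgroup.mem_subgroupOf.mp hq
    have := hs q
    rw [hαQ q hqQ] at this
    conv_lhs => rw [this]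
    group
  obtain ⟨z, hz, hze⟩ := hQ.2 _ (isConj_map_of_le F hQP hθ) hsC
  have hzQ : (z : Ω) ∈ Q := Subgroup.mem_subgroupOf.mp hz
  have hαz : ∀ n : P, α n = z * n * z⁻¹ := by
    intro n
    apply F.injective_of_mem hθ
    rw [hs, map_mul, map_mul, map_inv, hze]
  refine ⟨z, hzQ, ?_, fun y => ?_⟩
  · rw [Subgroup.mem_centralizer_iff]
    intro y hy
    have := hαz ⟨y, hQP hy⟩
    rw [hαQ _ hy] at this
    have h2 := congrArg Subtype.val this
    simp only [Subgroup.coe_mul, Subgroup.coe_inv] at h2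
    conv_lhs => rw [h2]
    group
  · rw [← hαz, ← hφα]
    rfl

theorem hom_eq_conj_of_agree [Finite S] (p : ℕ) [Fact p.Prime] (hS : IsPGroup p S)
    (F : FusionSystem S) (hF : F.IsSaturated p) (P : Subgroup Ω) (φ' : P →* Ω)
    (hφ' : φ' ∈ F.Hom P) :
    ∀ (n : ℕ) (Q : Subgroup Ω), Q ≤ P → F.IsCentric Q → ∀ φ : P →* Ω, φ ∈ F.Hom P →
      (∀ x : P, (x : Ω) ∈ Q → φ x = φ' x) → Nat.card P - Nat.card Q = n →
      ∃ z : P, (z : Ω) ∈ Q ∧ (z : Ω) ∈ Subgroup.centralizer (Q : Set Ω) ∧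
        ∀ y : P, φ' y = φ (z * y * z⁻¹) := by
  have hPS : P ≤ S := (F.le_of_mem hφ').1
  haveI := finite_of_le hPS
  have hPp : IsPGroup p P := hS.to_le hPS
  intro n
  induction n using Nat.strong_induction_on with
  | _ n ih =>
    intro Q hQP hQ φ hφ h hn
    by_cases hQeq : Q = P
    · refine ⟨1, Q.one_mem, Subgroup.one_mem _, fun y => ?_⟩
      rw [one_mul, inv_one, mul_one]
      exact (h y (by rw [hQeq]; exact y.2)).symm
    · -- Q₁ = N_P(Q)
      have hQ₁P : normalizerIn P Q ≤ P := normalizerIn_le P Q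
      have hQQ₁ : Q ≤ normalizerIn P Q := le_normalizerIn hQP
      have hcardlt : Nat.card Q < Nat.card (normalizerIn P Q) :=
        card_lt_card_normalizerIn hPp hQP hQeq
      have hφ₁ := fs_restrict_mem F hQ₁P hφ
      have hφ'₁ := fs_restrict_mem F hQ₁P hφ'
      obtain ⟨z₁, hz₁Q, hz₁C, hz₁⟩ := hom_eq_conj_of_agree_normal p hS F hF (normalizerIn P Q) Q hQQ₁
        inf_le_right hQ _ _ hφ₁ hφ'₁ (fun x hx => h (Subgroup.inclusion hQ₁P x) hx)
      -- φ₂ = φ ∘ c_{z₁}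
      have hz₁P : (z₁ : Ω) ∈ P := hQ₁P z₁.2
      have hcmem : ∀ x : P, conjHom P (z₁ : Ω) x ∈ P := fun x =>
        P.mul_mem (P.mul_mem hz₁P x.2) (P.inv_mem hz₁P)
      have hφ₂ := F.comp_mem (F.conj_mem hPS (hPS hz₁P)) hφ hcmem
      have hφ₂apply : ∀ y : P, (φ.comp ((conjHom P (z₁ : Ω)).codRestrict P hcmem)) y =
          φ (⟨z₁, hz₁P⟩ * y * ⟨z₁, hz₁P⟩⁻¹) := by
        intro y
        show φ _ = φ _
        congr 1
      have hQ₁cen : F.IsCentric (normalizerIn P Q) := isCentric_of_le F hQ hQQ₁ (hQ₁P.trans hPS)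
      have hagree : ∀ x : P, (x : Ω) ∈ normalizerIn P Q →
          (φ.comp ((conjHom P (z₁ : Ω)).codRestrict P hcmem)) x = φ' x := by
        intro x hx
        rw [hφ₂apply]
        have := hz₁ ⟨x, hx⟩
        simp only [MonoidHom.comp_apply] at this
        rw [show Subgroup.inclusion hQ₁P ⟨(x : Ω), hx⟩ = x from Subtype.ext rfl] at this
        rw [this]
        congr 1
      have hcardle : Nat.card (normalizerIn P Q) ≤ Nat.card P := Subgroup.card_le_of_le hQ₁P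
      obtain ⟨z₂, hz₂Q₁, hz₂C, hz₂⟩ := ih (Nat.card P - Nat.card (normalizerIn P Q)) (by omega)
        (normalizerIn P Q) hQ₁P hQ₁cen _ hφ₂ hagree rfl
      have hz₂CQ : (z₂ : Ω) ∈ Subgroup.centralizer (Q : Set Ω) :=
        Subgroup.centralizer_le (by exact_mod_cast hQQ₁) hz₂C
      have hz₂Q : (z₂ : Ω) ∈ Q :=
        hQ.2 Q (isConj_refl F hQ.1) ⟨hPS z₂.2, hz₂CQ⟩
      refine ⟨⟨z₁, hz₁P⟩ * z₂, Q.mul_mem hz₁Q hz₂Q, Subgroup.mul_mem _ hz₁C hz₂CQ, fun y => ?_⟩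
      rw [hz₂ y, hφ₂apply]
      congr 1
      group

end Cfsg.Agent.Lib.Helper7
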