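import Mathlib
import Cfsg.Prelude.Def_FusionSystem
import Cfsg.Agent.Lib.Helper7.Fusion

set_option autoImplicit false

namespace Cfsg.Agent.Lib.Helper7

open Cfsg Cfsg.FusionSystem

variable {Ω : Type*} [Group Ω] {S : Subgroup Ω}

/-- A family of subgroups of a finite `S`, containing `⊥` and closed under `⊔`, contains its supremum. -/
theorem sSup_mem_of_sup_closed [Finite S] (C : Set (Subgroup Ω)) (hS : ∀ Q ∈ C, Q ≤ S) (hbot : ⊥ ∈ C)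
    (hsup : ∀ Q₁ ∈ C, ∀ Q₂ ∈ C, Q₁ ⊔ Q₂ ∈ C) : sSup C ∈ C := by
  have hfin : ∀ Q ∈ C, Finite ↥Q := fun Q hQ => by
    have := hS Q hQ
    exact Finite.of_injective (Subgroup.inclusion this) (Subgroup.inclusion_injective this)
  have hbound : ∀ Q ∈ C, Nat.card ↥Q ≤ Nat.card ↥S := fun Q hQ =>
    Nat.card_le_card_of_injective (Subgroup.inclusion (hS Q hQ)) (Subgroup.inclusion_injective _)
  obtain ⟨Q₀, hQ₀, hmax⟩ : ∃ Q₀ ∈ C, ∀ Q ∈ C, Nat.card ↥Q ≤ Nat.card ↥Q₀ := by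
    by_contra hcon
    push Not at hcon
    have : ∀ n : ℕ, ∃ Q ∈ C, n ≤ Nat.card ↥Q := by
      intro n
      induction n with
      | zero => exact ⟨⊥, hbot, Nat.zero_le _⟩
      | succ n ih =>
        obtain ⟨Q, hQ, hn⟩ := ih
        obtain ⟨Q', hQ', hlt⟩ := hcon Q hQ
        exact ⟨Q', hQ', by omega⟩
    obtain ⟨Q, hQ, hn⟩ := this (Nat.card ↥S + 1)
    have := hbound Q hQ
    omega
  have hub : ∀ Q ∈ C, Q ≤ Q₀ := by
    intro Q hQ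
    have h1 := hsup Q hQ Q₀ hQ₀
    have h2 := hmax _ h1
    have := hfin _ h1
    have h3 : Q₀ = Q ⊔ Q₀ := Subgroup.eq_of_le_of_card_ge le_sup_right h2
    rw [h3]
    exact le_sup_left
  have : sSup C = Q₀ := le_antisymm (sSup_le hub) (le_sSup hQ₀)
  rw [this]
  exact hQ₀

/-- Image under a restricted map. -/
theorem map_comp_inclusion_subgroupOf {R R' K : Subgroup Ω} (hle : R' ≤ R) (hK : K ≤ R') (ψ : R →* Ω) :
    (K.subgroupOf R').map (ψ.comp (Subgroup.inclusion hle)) = (K.subgroupOf R).map ψ := by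
  ext y
  constructor
  · rintro ⟨r, hr, rfl⟩
    exact ⟨Subgroup.inclusion hle r, Subgroup.mem_subgroupOf.mpr (Subgroup.mem_subgroupOf.mp hr), rfl⟩
  · rintro ⟨r, hr, rfl⟩
    have hrK : (r : Ω) ∈ K := Subgroup.mem_subgroupOf.mp hr
    exact ⟨⟨r, hK hrK⟩, Subgroup.mem_subgroupOf.mpr hrK, rfl⟩

theorem isNormal_bot (F : FusionSystem S) : F.IsNormal ⊥ := by
  refine ⟨bot_le, fun P φ hφ => ?_⟩
  have hle : P ⊔ ⊥ ≤ P := le_of_eq (sup_bot_eq P)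
  refine ⟨φ.comp (Subgroup.inclusion hle), fs_restrict_mem F hle hφ, fun x => rfl, ?_⟩
  rw [Subgroup.bot_subgroupOf, Subgroup.map_bot]

theorem isNormal_sup (F : FusionSystem S) {Q₁ Q₂ : Subgroup Ω} (h₁ : F.IsNormal Q₁)
    (h₂ : F.IsNormal Q₂) : F.IsNormal (Q₁ ⊔ Q₂) := by
  refine ⟨sup_le h₁.1 h₂.1, fun P φ hφ => ?_⟩
  obtain ⟨ψ₁, hψ₁, e₁, m₁⟩ := h₁.2 P φ hφ
  obtain ⟨ψ₂, hψ₂, e₂, m₂⟩ := h₂.2 (P ⊔ Q₁) ψ₁ hψ₁
  have hle : P ⊔ (Q₁ ⊔ Q₂) ≤ (P ⊔ Q₁) ⊔ Q₂ := le_of_eq (sup_assoc P Q₁ Q₂).symm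
  refine ⟨ψ₂.comp (Subgroup.inclusion hle), fs_restrict_mem F hle hψ₂, fun x => ?_, ?_⟩
  · rw [← e₁ x, ← e₂]
    rfl
  · have hQ₁ : Q₁ ≤ P ⊔ (Q₁ ⊔ Q₂) := le_sup_left.trans le_sup_right
    have hQ₂ : Q₂ ≤ P ⊔ (Q₁ ⊔ Q₂) := le_sup_right.trans le_sup_right
    rw [Subgroup.subgroupOf_sup hQ₁ hQ₂, Subgroup.map_sup,
      map_comp_inclusion_subgroupOf hle hQ₁, map_comp_inclusion_subgroupOf hle hQ₂, m₂]
    congr 1
    have hcomp : ψ₂.comp (Subgroup.inclusion (le_sup_left : P ⊔ Q₁ ≤ (P ⊔ Q₁) ⊔ Q₂)) = ψ₁ := by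
      ext x
      exact e₂ x
    have h3 := map_comp_inclusion_subgroupOf (K := Q₁) (le_sup_left : P ⊔ Q₁ ≤ (P ⊔ Q₁) ⊔ Q₂) le_sup_right ψ₂
    rw [hcomp, m₁] at h3
    exact h3.symm

theorem isNormal_core [Finite S] (F : FusionSystem S) : F.IsNormal F.core :=
  sSup_mem_of_sup_closed {Q : Subgroup Ω | F.IsNormal Q} (fun _ hQ => hQ.1) (isNormal_bot F)
    (fun _ h₁ _ h₂ => isNormal_sup F h₁ h₂)

theorem isCentral_bot (F : FusionSystem S) : F.IsCentral ⊥ := by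
  refine ⟨bot_le, fun P φ hφ => ?_⟩
  have hle : P ⊔ ⊥ ≤ P := le_of_eq (sup_bot_eq P)
  refine ⟨φ.comp (Subgroup.inclusion hle), fs_restrict_mem F hle hφ, fun x => rfl, ?_⟩
  rintro ⟨x, hx⟩
  have hx1 : x = 1 := Subgroup.mem_bot.mp hx
  subst hx1
  show φ _ = 1
  have : (Subgroup.inclusion hle (Subgroup.inclusion le_sup_right (⟨1, hx⟩ : (⊥ : Subgroup Ω)))) = 1 := rfl
  rw [this, map_one]

theorem isCentral_sup (F : FusionSystem S) {Q₁ Q₂ : Subgroup Ω} (h₁ : F.IsCentral Q₁)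
    (h₂ : F.IsCentral Q₂) : F.IsCentral (Q₁ ⊔ Q₂) := by
  refine ⟨sup_le h₁.1 h₂.1, fun P φ hφ => ?_⟩
  obtain ⟨ψ₁, hψ₁, e₁, m₁⟩ := h₁.2 P φ hφ
  obtain ⟨ψ₂, hψ₂, e₂, m₂⟩ := h₂.2 (P ⊔ Q₁) ψ₁ hψ₁
  have hle : P ⊔ (Q₁ ⊔ Q₂) ≤ (P ⊔ Q₁) ⊔ Q₂ := le_of_eq (sup_assoc P Q₁ Q₂).symm
  refine ⟨ψ₂.comp (Subgroup.inclusion hle), fs_restrict_mem F hle hψ₂, fun x => ?_, ?_⟩
  · rw [← e₁ x, ← e₂]
    rfl
  · -- the fixed locus of ψ₂ is a subgroup containing Q₁ and Q₂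
    have hQ₁ : Q₁ ≤ (P ⊔ Q₁) ⊔ Q₂ := le_sup_right.trans le_sup_left
    have hQ₂ : Q₂ ≤ (P ⊔ Q₁) ⊔ Q₂ := le_sup_right
    have hfix : (Q₁ ⊔ Q₂).subgroupOf ((P ⊔ Q₁) ⊔ Q₂) ≤ MonoidHom.eqLocus ψ₂ (Subgroup.subtype _) := by
      rw [Subgroup.subgroupOf_sup hQ₁ hQ₂]
      apply sup_le
      · intro r hr
        have hr1 : (r : Ω) ∈ Q₁ := Subgroup.mem_subgroupOf.mp hr
        show ψ₂ r = r
        have := m₁ ⟨r, hr1⟩
        rw [← e₂] at this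
        exact this
      · intro r hr
        have hr2 : (r : Ω) ∈ Q₂ := Subgroup.mem_subgroupOf.mp hr
        exact m₂ ⟨r, hr2⟩
    intro x
    exact hfix (Subgroup.mem_subgroupOf.mpr x.2 : Subgroup.inclusion hle (Subgroup.inclusion le_sup_right x) ∈ _)

theorem isCentral_center [Finite S] (F : FusionSystem S) : F.IsCentral F.center :=
  sSup_mem_of_sup_closed {Q : Subgroup Ω | F.IsCentral Q} (fun _ hQ => hQ.1) (isCentral_bot F)
    (fun _ h₁ _ h₂ => isCentral_sup F h₁ h₂)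

/-- A fully centralized subgroup containing its centralizer in `S` is centric. -/
theorem isCentric_of_fullyCentralized_of_le [Finite S] (F : FusionSystem S) (U : Subgroup Ω)
    (hU : F.IsFullyCentralized U) (hC : centralizerIn S U ≤ U) : F.IsCentric U := by
  refine ⟨hU.1, ?_⟩
  rintro Q ⟨φ, hφ, rfl⟩
  have hQS : φ.range ≤ S := by
    rintro _ ⟨x, rfl⟩
    exact (F.le_of_mem hφ).2 x
  have hfinS : ∀ K : Subgroup Ω, K ≤ S → Finite ↥K := fun K hK =>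
    Finite.of_injective (Subgroup.inclusion hK) (Subgroup.inclusion_injective hK)
  -- Z(Q) ≤ C_S(Q)
  have hZ : φ.range ⊓ Subgroup.centralizer (φ.range : Set Ω) ≤ centralizerIn S φ.range :=
    inf_le_inf_right _ hQS
  have hcard1 := hU.2 φ.range ⟨φ, hφ, rfl⟩
  -- injection C_S(U) → Z(Q)
  have hmem : ∀ c : centralizerIn S U,
      φ ⟨c, hC c.2⟩ ∈ φ.range ⊓ Subgroup.centralizer (φ.range : Set Ω) := by
    intro c
    refine ⟨⟨_, rfl⟩, ?_⟩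
    show _ ∈ Subgroup.centralizer (φ.range : Set Ω)
    rw [Subgroup.mem_centralizer_iff]
    rintro _ ⟨u, rfl⟩
    rw [← map_mul, ← map_mul]
    congr 1
    apply Subtype.ext
    exact (Subgroup.mem_centralizer_iff.mp c.2.2) u u.2
  have := hfinS _ (inf_le_left.trans hQS : φ.range ⊓ Subgroup.centralizer (φ.range : Set Ω) ≤ S)
  have hcard2 : Nat.card ↥(centralizerIn S U) ≤
      Nat.card ↥(φ.range ⊓ Subgroup.centralizer (φ.range : Set Ω)) := by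
    apply Nat.card_le_card_of_injective
      (fun c : centralizerIn S U => (⟨φ ⟨c, hC c.2⟩, hmem c⟩ :
        ↥(φ.range ⊓ Subgroup.centralizer (φ.range : Set Ω))))
    intro a b hab
    have h1 : φ ⟨a, hC a.2⟩ = φ ⟨b, hC b.2⟩ := congrArg Subtype.val hab
    have h2 := F.injective_of_mem hφ h1
    exact Subtype.ext (congrArg (fun z : U => (z : Ω)) h2)
  have hfin2 : Finite ↥(centralizerIn S φ.range) := hfinS _ inf_le_left
  have heq := Subgroup.eq_of_le_of_card_ge hZ (hcard1.trans hcard2)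
  rw [← heq]
  exact inf_le_left

end Cfsg.Agent.Lib.Helper7
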