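import Mathlib
import Cfsg.Prelude.Def_FusionSystem
import Cfsg.Agent.Lib.Helper7.FusionCore
import Cfsg.Agent.Lib.Helper7.Core
import Cfsg.Agent.Lib.Lead.StronglyEmbedded

set_option autoImplicit false

namespace Cfsg.Agent.Lib.Helper7

open Cfsg Cfsg.FusionSystem

/-- A group with a strongly `p`-embedded subgroup has trivial `O_p`. -/
theorem pCore_eq_bot_of_stronglyPEmbedded {G : Type*} [Group G] [Finite G] {p : ℕ} [Fact p.Prime]
    {M : Subgroup G} (hM : IsStronglyPEmbedded p M) : pCore p G = ⊥ := by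
  by_contra hne
  obtain ⟨P, hPM, -⟩ := Cfsg.Agent.Lib.Lead.StronglyEmbedded.sylow_le hM
  have hRM : pCore p G ≤ M := (pCore_le_sylow P).trans hPM
  have h1 := Cfsg.Agent.Lib.Lead.StronglyEmbedded.normalizer_le hM hRM (pCore_isPGroup p G) hne
  have : (pCore p G).Normal := pCore_normal p G
  rw [Subgroup.normalizer_eq_top] at h1
  exact hM.2.1 (top_le_iff.mp h1)

variable {Ω : Type*} [Group Ω] {S : Subgroup Ω}

theorem inn_le_autGroup (F : FusionSystem S) {P : Subgroup Ω} (hP : P ≤ S) : Inn P ≤ F.autGroup P := by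
  rintro _ ⟨g, rfl⟩
  apply Subgroup.subset_closure
  show P.subtype.comp (MulAut.conj g).toMonoidHom ∈ F.Hom P
  have := F.conj_mem (g := (g : Ω)) hP (hP g.2)
  have e : conjHom P (g : Ω) = P.subtype.comp (MulAut.conj g).toMonoidHom := by
    ext x
    simp [conjHom, MulAut.conj_apply]
  rwa [e] at this

theorem isPGroup_inn {P : Type*} [Group P] {p : ℕ} (hP : IsPGroup p P) : IsPGroup p ↥(Inn P) :=
  hP.of_surjective (MulAut.conj : P →* MulAut P).rangeRestrict (MonoidHom.rangeRestrict_surjective _)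

/-- Essential subgroups are radical. -/
theorem isRadical_of_isEssential [Finite S] (p : ℕ) [Fact p.Prime] (hS : IsPGroup p S)
    (F : FusionSystem S) (P : Subgroup Ω) (hP : F.IsEssential p P) : F.IsRadical p P := by
  obtain ⟨⟨hPS, -⟩, -, hnorm, E, hE⟩ := hP
  refine ⟨hPS, ?_⟩
  have hfinP : Finite ↥P := Finite.of_injective (Subgroup.inclusion hPS) (Subgroup.inclusion_injective hPS)
  have hPp : IsPGroup p ↥P := hS.to_le hPS
  have hInnA : Inn ↥P ≤ F.autGroup P := inn_le_autGroup F hPS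
  set A := F.autGroup P with hA
  set I : Subgroup ↥A := (Inn ↥P).subgroupOf A with hI
  have hIp : IsPGroup p ↥I := (isPGroup_inn hPp).comap_subtype
  have hI_le : I ≤ pCore p ↥A := le_pCore hnorm hIp
  have hbot : pCore p (↥A ⧸ I) = ⊥ := pCore_eq_bot_of_stronglyPEmbedded hE
  have hle_I : pCore p ↥A ≤ I := by
    have hn : ((pCore p ↥A).map (QuotientGroup.mk' I)).Normal :=
      (pCore_normal p ↥A).map _ (QuotientGroup.mk'_surjective I)
    have hp' : IsPGroup p ↥((pCore p ↥A).map (QuotientGroup.mk' I)) := (pCore_isPGroup p ↥A).map _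
    have h1 := le_pCore hn hp'
    rw [hbot, le_bot_iff] at h1
    intro a ha
    have h2 : QuotientGroup.mk' I a ∈ (pCore p ↥A).map (QuotientGroup.mk' I) := ⟨a, ha, rfl⟩
    rw [h1, Subgroup.mem_bot] at h2
    exact (QuotientGroup.eq_one_iff a).mp h2
  have heq : pCore p ↥A = I := le_antisymm hle_I hI_le
  rw [heq, hI, Subgroup.subgroupOf_map_subtype]
  exact inf_eq_left.mpr hInnA

end Cfsg.Agent.Lib.Helper7
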