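import Mathlib
import Cfsg.Prelude.Def_EvenType
import Cfsg.Agent.Lib.Helper7.StrEmb

set_option autoImplicit false

namespace Cfsg.Agent.Lib.Helper7

open Cfsg Cfsg.Agent.Lib.Lead.Conj Cfsg.Agent.Lib.Lead.StronglyEmbedded

variable {A : Type*} [Group A] [Finite A] {p : ℕ} [Fact p.Prime]

/-- Criterion for `H / I` to be strongly `p`-embedded in `A / I`. -/
theorem stronglyPEmbedded_map_mk_of_conj_control (I : Subgroup A) [I.Normal] (hI : IsPGroup p I)
    (T : Sylow p A) (hIT : I ≤ (T : Subgroup A)) (hne : I ≠ (T : Subgroup A)) (H : Subgroup A)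
    (hTH : (T : Subgroup A) ≤ H) (hH : H ≠ ⊤)
    (hstar : ∀ α : A, (∃ t ∈ (T : Subgroup A), t ∉ I ∧ α * t * α⁻¹ ∈ (T : Subgroup A)) → α ∈ H) :
    IsStronglyPEmbedded p (H.map (QuotientGroup.mk' I)) := by
  have hp : p.Prime := Fact.out
  have hIH : I ≤ H := hIT.trans hTH
  have hmemH : ∀ x : A, QuotientGroup.mk' I x ∈ H.map (QuotientGroup.mk' I) → x ∈ H := by
    rintro x ⟨h, hh, hhx⟩
    have : h⁻¹ * x ∈ I := by
      rw [← QuotientGroup.eq]; exact hhx
    have h2 : x = h * (h⁻¹ * x) := by group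
    rw [h2]; exact H.mul_mem hh (hIH this)
  apply isStronglyPEmbedded_of_normalizer_le
  · intro htop
    apply hH
    rw [eq_top_iff]
    intro x _
    apply hmemH
    rw [htop]; exact Subgroup.mem_top _
  · -- p divides |H/I|
    obtain ⟨t, htT, htI⟩ : ∃ t ∈ (T : Subgroup A), t ∉ I := by
      by_contra hcon
      push Not at hcon
      exact hne (le_antisymm hIT hcon)
    have htne : (QuotientGroup.mk' I t) ≠ 1 := by
      intro h1
      apply htI
      exact (QuotientGroup.eq_one_iff t).mp h1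
    obtain ⟨k, hk⟩ := T.isPGroup' ⟨t, htT⟩
    have hk' : t ^ (p ^ k) = 1 := by simpa using congrArg Subtype.val hk
    have hpow : (QuotientGroup.mk' I t) ^ (p ^ k) = 1 := by rw [← map_pow, hk', map_one]
    obtain ⟨j, hj, hoj⟩ := (Nat.dvd_prime_pow hp).mp (orderOf_dvd_of_pow_eq_one hpow)
    have hj0 : j ≠ 0 := by
      intro h0
      rw [h0, pow_zero, orderOf_eq_one_iff] at hoj
      exact htne hoj
    have hmem : QuotientGroup.mk' I t ∈ H.map (QuotientGroup.mk' I) := ⟨t, hTH htT, rfl⟩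
    have h1 : orderOf (⟨_, hmem⟩ : H.map (QuotientGroup.mk' I)) ∣ Nat.card (H.map (QuotientGroup.mk' I)) :=
      orderOf_dvd_natCard _
    rw [Subgroup.orderOf_mk, hoj] at h1
    exact dvd_trans (dvd_pow_self p hj0) h1
  · intro Abar hAM hAp hAne nbar hn
    obtain ⟨n, rfl⟩ := QuotientGroup.mk'_surjective I nbar
    set A₁ := Abar.comap (QuotientGroup.mk' I) with hA₁
    have hA₁p : IsPGroup p A₁ := by
      apply hAp.comap_of_ker_isPGroup
      rw [QuotientGroup.ker_mk']; exact hI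
    have hA₁H : A₁ ≤ H := fun x hx => hmemH x (hAM hx)
    obtain ⟨a₁, ha₁, ha₁I⟩ : ∃ a₁ ∈ A₁, a₁ ∉ I := by
      obtain ⟨abar, habar, hne1⟩ := (Abar.bot_or_exists_ne_one).resolve_left hAne
      obtain ⟨a, rfl⟩ := QuotientGroup.mk'_surjective I abar
      refine ⟨a, habar, fun haI => hne1 ?_⟩
      exact (QuotientGroup.eq_one_iff a).mpr haI
    have hnA₁ : ∀ x ∈ A₁, n * x * n⁻¹ ∈ A₁ := by
      intro x hx
      show QuotientGroup.mk' I (n * x * n⁻¹) ∈ Abar
      rw [map_mul, map_mul, map_inv]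
      exact (Subgroup.mem_normalizer_iff.mp hn _).mp hx
    have hTsyl : IsSylowIn p (T : Subgroup A) H := IsSylowIn.of_sylow_le T hTH
    obtain ⟨T', hT', hA₁T'⟩ := exists_isSylowIn_ge hA₁p hA₁H
    obtain ⟨h, hhH, hconj⟩ := hT'.conj hTsyl
    have hmapT : ∀ x ∈ A₁, h * x * h⁻¹ ∈ (T : Subgroup A) := by
      intro x hx
      rw [hconj]
      exact ⟨x, hA₁T' hx, by simp [MulAut.conj_apply]⟩
    have hα : h * n * h⁻¹ ∈ H := by
      apply hstar
      refine ⟨h * a₁ * h⁻¹, hmapT a₁ ha₁, ?_, ?_⟩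
      · intro hcon
        apply ha₁I
        have := (inferInstance : I.Normal).conj_mem _ hcon h⁻¹
        simpa [mul_assoc] using this
      · have := hmapT _ (hnA₁ a₁ ha₁)
        convert this using 1
        group
    have hnH : n ∈ H := by
      have := H.mul_mem (H.mul_mem (H.inv_mem hhH) hα) hhH
      simpa [mul_assoc] using this
    exact ⟨n, hnH, rfl⟩

end Cfsg.Agent.Lib.Helper7
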