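import Mathlib
import Cfsg.Prelude.Def_FusionSystem
import Cfsg.Agent.Lib.Helper7.FusionCentric
import Cfsg.Agent.Lib.Helper7.FusionEssential
import Cfsg.Agent.Lib.Helper7.SEQuot

set_option autoImplicit false

namespace Cfsg.Agent.Lib.Helper7

open Cfsg Cfsg.FusionSystem

theorem inn_normal (P : Type*) [Group P] : (Inn P).Normal := by
  refine ⟨?_⟩
  rintro _ ⟨g, rfl⟩ α
  refine ⟨α g, ?_⟩
  ext x
  simp [MulAut.conj_apply]

variable {Ω : Type*} [Group Ω] {S : Subgroup Ω}

/-- The automorphisms of `P` that extend to a map of the system on a strictly larger subgroup. -/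
def extGen (F : FusionSystem S) (P : Subgroup Ω) : Set (MulAut P) :=
  {α : MulAut P | ∃ (Q : Subgroup Ω) (hPQ : P < Q) (φ : Q →* Ω), φ ∈ F.Hom Q ∧
    ∀ x : P, φ (Subgroup.inclusion hPQ.le x) = α x}

theorem extGen_subset_autGroup (F : FusionSystem S) (P : Subgroup Ω) :
    extGen F P ⊆ F.autGroup P := by
  rintro α ⟨Q, hPQ, φ, hφ, hα⟩
  have hPS : P ≤ S := hPQ.le.trans (F.le_of_mem hφ).1
  apply (mem_autGroup_iff F hPS α).mpr
  have := fs_restrict_mem F hPQ.le hφ
  convert this using 1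
  ext x
  exact (hα x).symm

theorem closure_extGen_le_autGroup (F : FusionSystem S) (P : Subgroup Ω) :
    Subgroup.closure (extGen F P) ≤ F.autGroup P :=
  (Subgroup.closure_le _).mpr (extGen_subset_autGroup F P)

theorem range_subtype_comp_mulAut {P : Subgroup Ω} (α : MulAut P) :
    (P.subtype.comp α.toMonoidHom).range = P := by
  ext y
  constructor
  · rintro ⟨x, rfl⟩; exact (α x).2
  · intro hy
    exact ⟨α⁻¹ ⟨y, hy⟩, by simp⟩

/-- If `α` extends (via receptivity) to an extender strictly larger than `P`, it is in `extGen`. -/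
theorem mem_extGen_of_mem_extender (F : FusionSystem S) {P : Subgroup Ω} (hRec : F.IsReceptive P)
    (α : MulAut P) (hα : α ∈ F.autGroup P) (g : Ω)
    (hg : g ∈ extender S P (P.subtype.comp α.toMonoidHom)) (hgP : g ∉ P) : α ∈ extGen F P := by
  have hPS := hRec.1
  have hφ : P.subtype.comp α.toMonoidHom ∈ F.Hom P := (mem_autGroup_iff F hPS α).mp hα
  obtain ⟨ψ, hψ, hext⟩ := hRec.2 P _ hφ (range_subtype_comp_mulAut α)
  have hle : P ≤ extender S P (P.subtype.comp α.toMonoidHom) := le_extender F hφ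
  have hlt : P < extender S P (P.subtype.comp α.toMonoidHom) :=
    lt_of_le_of_ne hle (fun h => hgP (by rw [h]; exact hg))
  exact ⟨_, hlt, ψ, hψ, fun x => hext x x.2 (hle x.2)⟩

/-- Case 1: `P` receptive with `C_S(P) ≰ P`: every automorphism extends. -/
theorem autGroup_subset_extGen_of_not_le (F : FusionSystem S) {P : Subgroup Ω} (hRec : F.IsReceptive P)
    (hnc : ¬ centralizerIn S P ≤ P) : (F.autGroup P : Set (MulAut P)) ⊆ extGen F P := by
  intro α hα
  obtain ⟨c, hc, hcP⟩ := SetLike.not_le_iff_exists.mp hnc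
  exact mem_extGen_of_mem_extender F hRec α hα c (centralizerIn_le_extender S P _ hc) hcP

/-- Case 2: `α` conjugating some non-inner element of `Aut_S(P)` into `Aut_S(P)` extends. -/
theorem mem_extGen_of_conj (F : FusionSystem S) {P : Subgroup Ω} (hRec : F.IsReceptive P)
    (α : MulAut P) (hα : α ∈ F.autGroup P) (t : MulAut P) (ht : t ∈ autInducedBy S P)
    (htI : t ∉ Inn P) (hconj : α * t * α⁻¹ ∈ autInducedBy S P) : α ∈ extGen F P := by
  rw [autInducedBy_eq_map] at ht
  obtain ⟨n, hn, rfl⟩ := ht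
  have hnS : (n : Ω) ∈ S := (Subgroup.mem_subgroupOf.mp hn).1
  obtain ⟨h, hhS, hh⟩ := (mem_autInducedBy_iff S P _).mp hconj
  apply mem_extGen_of_mem_extender F hRec α hα (n : Ω)
  · apply mem_extender_of_mem hnS n.2
    refine ⟨h, hhS, fun x hx => ?_⟩
    have e2 := hh (α x)
    show ((α ⟨(n : Ω) * (x : Ω) * (n : Ω)⁻¹, hx⟩ : P) : Ω) = h * ((α x : P) : Ω) * h⁻¹
    rw [← e2]
    simp only [MulAut.mul_apply, MulAut.inv_apply_self]
    rfl
  · intro hnP
    apply htI
    refine ⟨⟨n, hnP⟩, ?_⟩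
    ext x
    rfl

theorem autInducedBy_le_closure_extGen [Finite S] {p : ℕ} [Fact p.Prime] (hS : IsPGroup p S)
    (F : FusionSystem S) {P : Subgroup Ω} (hPS : P ≤ S) (hne : P ≠ S) :
    autInducedBy S P ≤ Subgroup.closure (extGen F P) := by
  intro t ht
  apply Subgroup.subset_closure
  rw [autInducedBy_eq_map] at ht
  obtain ⟨n, hn, rfl⟩ := ht
  have hnS : (n : Ω) ∈ S := (Subgroup.mem_subgroupOf.mp hn).1
  obtain ⟨x, hxN, hxP⟩ := lt_normalizerIn_of_ne hS hPS hne
  have hlt : P < normalizerIn S P :=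
    lt_of_le_of_ne (le_normalizerIn hPS) (fun h => hxP (by rw [h]; exact hxN))
  exact ⟨_, hlt, conjHom (normalizerIn S P) (n : Ω), F.conj_mem (normalizerIn_le S P) hnS,
    fun x => rfl⟩

/-- A receptive subgroup containing its centralizer in `S` is centric. -/
theorem isCentric_of_isReceptive [Finite S] (F : FusionSystem S) {P : Subgroup Ω}
    (hRec : F.IsReceptive P) (hC : centralizerIn S P ≤ P) : F.IsCentric P := by
  refine ⟨hRec.1, ?_⟩
  intro Q' hQ'
  obtain ⟨ψ', hψ', hr⟩ := isConj_symm F hQ'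
  obtain ⟨χ, hχ, hext⟩ := hRec.2 Q' ψ' hψ' hr
  have hCN : centralizerIn S Q' ≤ extender S Q' ψ' := centralizerIn_le_extender S Q' ψ'
  have hQN : Q' ≤ extender S Q' ψ' := le_extender F hψ'
  intro c hc
  -- χ c ∈ C_S(P)
  have hχc : χ ⟨c, hCN hc⟩ ∈ centralizerIn S P := by
    refine ⟨(F.le_of_mem hχ).2 _, ?_⟩
    show _ ∈ Subgroup.centralizer (P : Set Ω)
    rw [Subgroup.mem_centralizer_iff]
    intro y hy
    rw [← hr] at hy
    obtain ⟨q, rfl⟩ := hy
    rw [← hext q q.2 (hQN q.2), ← map_mul, ← map_mul]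
    congr 1
    apply Subtype.ext
    exact (Subgroup.mem_centralizer_iff.mp hc.2) q q.2
  have hχcP : χ ⟨c, hCN hc⟩ ∈ P := hC hχc
  rw [← hr] at hχcP
  obtain ⟨q, hq⟩ := hχcP
  rw [← hext q q.2 (hQN q.2)] at hq
  have := F.injective_of_mem hχ hq
  have h2 : (q : Ω) = c := congrArg Subtype.val this
  rw [← h2]; exact q.2

end Cfsg.Agent.Lib.Helper7
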