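import Mathlib
import Cfsg.Prelude.Def_FusionSystem
import Cfsg.Agent.Lib.Helper7.Alperin1

set_option autoImplicit false

namespace Cfsg.Agent.Lib.Helper7

open Cfsg Cfsg.FusionSystem

variable {Ω : Type*} [Group Ω] {S : Subgroup Ω}

/-- For `P` centric, fully automized, receptive and proper in `S`: if the extendable automorphisms do not
generate `Aut_F(P)`, their image in `Out_F(P)` is strongly `p`-embedded. -/
theorem stronglyPEmbedded_of_closure_extGen_ne [Finite S] (p : ℕ) [Fact p.Prime] (hS : IsPGroup p S)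
    (F : FusionSystem S) {P : Subgroup Ω} (hFA : F.IsFullyAutomized p P) (hRec : F.IsReceptive P)
    (hcen : centralizerIn S P ≤ P) (hne : P ≠ S)
    (hH : Subgroup.closure (extGen F P) ≠ F.autGroup P)
    [hnorm : ((Inn P).subgroupOf (F.autGroup P)).Normal] :
    IsStronglyPEmbedded p (((Subgroup.closure (extGen F P)).subgroupOf (F.autGroup P)).map
      (QuotientGroup.mk' ((Inn P).subgroupOf (F.autGroup P)))) := by
  obtain ⟨hPS, T, hT⟩ := hFA
  haveI := finite_of_le hPS
  haveI : Finite (MulAut ↥P) := inferInstance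
  have hPp : IsPGroup p ↥P := hS.to_le hPS
  have hIp : IsPGroup p ↥((Inn ↥P).subgroupOf (F.autGroup P)) := (isPGroup_inn hPp).comap_subtype
  have hInnS : Inn P ≤ autInducedBy S P := by
    rintro _ ⟨g, rfl⟩
    exact (mem_autInducedBy_iff S P _).mpr ⟨g, hPS g.2, fun x => rfl⟩
  apply stronglyPEmbedded_map_mk_of_conj_control _ hIp T
  · rw [hT]
    intro x hx
    exact Subgroup.mem_subgroupOf.mpr (hInnS (Subgroup.mem_subgroupOf.mp hx))
  · -- I ≠ T
    rw [hT]
    intro heq
    obtain ⟨g, hgN, hgP⟩ := lt_normalizerIn_of_ne hS hPS hne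
    have hcg : P.normalizerMonoidHom ⟨g, hgN.2⟩ ∈ autInducedBy S P :=
      (mem_autInducedBy_iff S P _).mpr ⟨g, hgN.1, fun x => rfl⟩
    have hcgA : P.normalizerMonoidHom ⟨g, hgN.2⟩ ∈ F.autGroup P :=
      autInducedBy_le_autGroup F hPS hcg
    have h1 : (⟨_, hcgA⟩ : F.autGroup P) ∈ (autInducedBy S P).subgroupOf (F.autGroup P) :=
      Subgroup.mem_subgroupOf.mpr hcg
    rw [← heq] at h1
    obtain ⟨x, hx⟩ := Subgroup.mem_subgroupOf.mp h1
    -- x⁻¹ g centralizes P
    apply hgP
    have hc : (x : Ω)⁻¹ * g ∈ centralizerIn S P := by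
      refine ⟨S.mul_mem (S.inv_mem (hPS x.2)) hgN.1, ?_⟩
      show _ ∈ Subgroup.centralizer (P : Set Ω)
      rw [Subgroup.mem_centralizer_iff]
      intro y hy
      have h2 := congrArg (fun β : MulAut P => ((β ⟨y, hy⟩ : P) : Ω)) hx
      simp only [MulAut.conj_apply] at h2
      have h3 : (x : Ω) * y * (x : Ω)⁻¹ = g * y * g⁻¹ := h2
      have h4 : y * ((x : Ω)⁻¹ * g) = (x : Ω)⁻¹ * ((x : Ω) * y * (x : Ω)⁻¹) * g := by group
      rw [h4, h3]; group
    have := P.mul_mem x.2 (hcen hc)
    simpa using this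
  · rw [hT]
    intro x hx
    exact Subgroup.mem_subgroupOf.mpr
      (autInducedBy_le_closure_extGen hS F hPS hne (Subgroup.mem_subgroupOf.mp hx))
  · intro htop
    apply hH
    apply le_antisymm (closure_extGen_le_autGroup F P)
    intro α hα
    have : (⟨α, hα⟩ : F.autGroup P) ∈ (Subgroup.closure (extGen F P)).subgroupOf (F.autGroup P) := by
      rw [htop]; exact Subgroup.mem_top _
    exact Subgroup.mem_subgroupOf.mp this
  · rintro α ⟨t, htT, htI, hconj⟩
    rw [hT] at htT hconj
    apply Subgroup.mem_subgroupOf.mpr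
    apply Subgroup.subset_closure
    exact mem_extGen_of_conj F hRec α α.2 t (Subgroup.mem_subgroupOf.mp htT)
      (fun h => htI (Subgroup.mem_subgroupOf.mpr h)) (Subgroup.mem_subgroupOf.mp hconj)

/-- A fully normalized proper subgroup that is not essential: its automorphism group is generated by the
extendable automorphisms. -/
theorem closure_extGen_eq_of_not_isEssential [Finite S] (p : ℕ) [Fact p.Prime] (hS : IsPGroup p S)
    (F : FusionSystem S) {P : Subgroup Ω} (hFN : F.IsFullyNormalized P)
    (hFA : F.IsFullyAutomized p P) (hRec : F.IsReceptive P) (hne : P ≠ S)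
    (hess : ¬ F.IsEssential p P) : Subgroup.closure (extGen F P) = F.autGroup P := by
  by_cases hcen : centralizerIn S P ≤ P
  · by_contra hH
    have hnorm : ((Inn P).subgroupOf (F.autGroup P)).Normal := (inn_normal P).subgroupOf _
    exact hess ⟨isCentric_of_isReceptive F hRec hcen, hFN, hnorm, _,
      stronglyPEmbedded_of_closure_extGen_ne p hS F hFA hRec hcen hne hH⟩
  · apply le_antisymm (closure_extGen_le_autGroup F P)
    intro α hα
    exact Subgroup.subset_closure (autGroup_subset_extGen_of_not_le F hRec hcen hα)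

end Cfsg.Agent.Lib.Helper7
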