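import Mathlib
import Cfsg.Prelude.Def_FusionSystem
import Cfsg.Agent.Lib.Helper7.Alperin2

set_option autoImplicit false

namespace Cfsg.Agent.Lib.Helper7

open Cfsg Cfsg.FusionSystem

variable {Ω : Type*} [Group Ω] {S : Subgroup Ω}

/-- Claim B: for a fully normalized proper subgroup, `Aut_F(P) ≤ Aut_E(P)` once all maps of `F` on
strictly larger subgroups lie in `E` and `E` contains `Aut_F(P)` when `P` is essential. -/
theorem autGroup_le_of_larger [Finite S] (p : ℕ) [Fact p.Prime] (hS : IsPGroup p S)
    (F E : FusionSystem S) {P : Subgroup Ω} (hFN : F.IsFullyNormalized P)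
    (hFA : F.IsFullyAutomized p P) (hRec : F.IsReceptive P) (hne : P ≠ S)
    (hE : F.IsEssential p P → F.autGroup P ≤ E.autGroup P)
    (ih : ∀ (Q : Subgroup Ω) (φ : Q →* Ω), φ ∈ F.Hom Q → Nat.card P < Nat.card Q → φ ∈ E.Hom Q) :
    F.autGroup P ≤ E.autGroup P := by
  by_cases hess : F.IsEssential p P
  · exact hE hess
  · rw [← closure_extGen_eq_of_not_isEssential p hS F hFN hFA hRec hne hess, Subgroup.closure_le]
    rintro α ⟨Q, hPQ, φ, hφ, hα⟩
    have hQS : Q ≤ S := (F.le_of_mem hφ).1
    haveI := finite_of_le hQS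
    have hcard : Nat.card P < Nat.card Q := by
      by_contra hge
      push Not at hge
      exact hPQ.ne (Subgroup.eq_of_le_of_card_ge hPQ.le hge)
    have hφE := ih Q φ hφ hcard
    apply (mem_autGroup_iff E (hPQ.le.trans hQS) α).mpr
    have := fs_restrict_mem E hPQ.le hφE
    convert this using 1
    ext x
    exact (hα x).symm

/-- Claim A. -/
theorem hom_mem_of_range_fullyNormalized [Finite S] (p : ℕ) [Fact p.Prime] (hS : IsPGroup p S)
    (F E : FusionSystem S) {P R : Subgroup Ω} (hFA : F.IsFullyAutomized p R) (hRec : F.IsReceptive R)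
    (hAut : F.autGroup R ≤ E.autGroup R) (hne : P ≠ S) (ψ : P →* Ω) (hψ : ψ ∈ F.Hom P)
    (hr : ψ.range = R)
    (ih : ∀ (Q : Subgroup Ω) (φ : Q →* Ω), φ ∈ F.Hom Q → Nat.card P < Nat.card Q → φ ∈ E.Hom Q) :
    ψ ∈ E.Hom P := by
  have hPS : P ≤ S := (F.le_of_mem hψ).1
  have hRS : R ≤ S := hFA.1
  obtain ⟨φb, hφb, -, hφbP⟩ := hom_normalizer_of_fullyAutomized_receptive p hS F R P hFA hRec ⟨ψ, hψ, hr⟩
  have hφbE := ih _ φb hφb (card_lt_card_normalizerIn hS hPS hne)
  have hPN := le_normalizerIn hPS
  have hχF := fs_restrict_mem F hPN hφb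
  have hχE := fs_restrict_mem E hPN hφbE
  have hrχ : (φb.comp (Subgroup.inclusion hPN)).range = R := by
    rw [range_comp_inclusion, hφbP]
  set χ := φb.comp (Subgroup.inclusion hPN) with hχdef
  set eχ := isoOfRange χ (F.injective_of_mem hχF) hrχ with heχ
  set eψ := isoOfRange ψ (F.injective_of_mem hψ) hr with heψ
  have hχR : ∀ x : P, χ x ∈ R := fun x => by rw [← hrχ]; exact ⟨x, rfl⟩
  have hαF : (eχ.symm.trans eψ : MulAut R) ∈ F.autGroup R := by
    apply (mem_autGroup_iff F hRS _).mpr
    have h1 := fs_iso_symm_mem F hχF hrχ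
    have h2 := F.comp_mem h1 hψ (fun y => (eχ.symm y).2)
    convert h2 using 1
    ext x
    rfl
  have hαE := (mem_autGroup_iff E hRS _).mp (hAut hαF)
  have h3 := E.comp_mem hχE hαE hχR
  convert h3 using 1
  ext x
  show ψ x = ((eψ (eχ.symm (χ.codRestrict R hχR x)) : R) : Ω)
  have : χ.codRestrict R hχR x = eχ x := Subtype.ext rfl
  rw [this, MulEquiv.symm_apply_apply]
  rfl

theorem alperin_goldschmidt [Finite S] (p : ℕ) [Fact p.Prime] (hS : IsPGroup p S)
    (F : FusionSystem S) (hF : F.IsSaturated p) (E : FusionSystem S)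
    (hE : ∀ P : Subgroup Ω, (P = S ∨ F.IsEssential p P) → F.autGroup P ≤ E.autGroup P) : F ≤ E := by
  have key : ∀ (n : ℕ) (P : Subgroup Ω) (φ : P →* Ω), φ ∈ F.Hom P →
      Nat.card S - Nat.card P = n → φ ∈ E.Hom P := by
    intro n
    induction n using Nat.strong_induction_on with
    | _ n ih =>
      intro P φ hφ hn
      have hPS : P ≤ S := (F.le_of_mem hφ).1
      haveI := finite_of_le hPS
      have hcardP : Nat.card P ≤ Nat.card S := Subgroup.card_le_of_le hPS
      by_cases hPeq : P = S
      · subst hPeq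
        have hr : φ.range = P := by
          apply Subgroup.eq_of_le_of_card_ge
          · rintro _ ⟨x, rfl⟩; exact (F.le_of_mem hφ).2 x
          · exact (Nat.card_congr (Equiv.ofInjective φ (F.injective_of_mem hφ))).le
        have hα : isoOfRange φ (F.injective_of_mem hφ) hr ∈ F.autGroup P := by
          apply (mem_autGroup_iff F le_rfl _).mpr
          convert hφ using 1
          ext x
          rfl
        have := (mem_autGroup_iff E le_rfl _).mp (hE P (Or.inl rfl) hα)
        convert this using 1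
        ext x
        rfl
      · have ih' : ∀ (Q : Subgroup Ω) (φ : Q →* Ω), φ ∈ F.Hom Q → Nat.card P < Nat.card Q →
            φ ∈ E.Hom Q := by
          intro Q χ hχ hlt
          have hQS : Q ≤ S := (F.le_of_mem hχ).1
          have hcardQ : Nat.card Q ≤ Nat.card S := Subgroup.card_le_of_le hQS
          exact ih (Nat.card S - Nat.card Q) (by omega) Q χ hχ rfl
        obtain ⟨Pst, ⟨ψ₀, hψ₀, hr₀⟩, hFN⟩ := exists_isFullyNormalized_conj F hPS
        have hc₀ : F.IsConj P Pst := ⟨ψ₀, hψ₀, hr₀⟩
        obtain ⟨R, hcR, hFAR, hRecR⟩ := hF Pst hFN.1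
        obtain ⟨hFA, hRec⟩ := isFullyAutomized_isReceptive_of_isFullyNormalized p hS F hFN hFAR hRecR hcR
        have hcardeq : Nat.card P = Nat.card Pst := card_eq_of_isConj F hc₀
        have hPstne : Pst ≠ S := by
          intro h
          apply hPeq
          apply Subgroup.eq_of_le_of_card_ge hPS
          rw [hcardeq, h]
        have hAut : F.autGroup Pst ≤ E.autGroup Pst := by
          apply autGroup_le_of_larger p hS F E hFN hFA hRec hPstne (fun h => hE Pst (Or.inr h))
          intro Q χ hχ hlt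
          exact ih' Q χ hχ (by omega)
        have hψ₀E := hom_mem_of_range_fullyNormalized p hS F E hFA hRec hAut hPeq ψ₀ hψ₀ hr₀ ih'
        -- ψ₁ = ψ₀ ∘ φ⁻¹ on φ.range
        set eφ := isoOfRange φ (F.injective_of_mem hφ) rfl with heφ
        have hφinv := fs_iso_symm_mem F hφ rfl
        have hψ₁ := F.comp_mem hφinv hψ₀ (fun y => (eφ.symm y).2)
        have hcardR : Nat.card φ.range = Nat.card P :=
          (Nat.card_congr (Equiv.ofInjective φ (F.injective_of_mem hφ))).symm
        have hRne : φ.range ≠ S := by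
          intro h
          apply hPeq
          apply Subgroup.eq_of_le_of_card_ge hPS
          rw [← hcardR, h]
        have hr₁ : (ψ₀.comp ((P.subtype.comp eφ.symm.toMonoidHom).codRestrict P
            (fun y => (eφ.symm y).2))).range = Pst := by
          rw [← hr₀]
          ext y
          constructor
          · rintro ⟨x, rfl⟩
            exact ⟨_, rfl⟩
          · rintro ⟨x, rfl⟩
            refine ⟨eφ x, ?_⟩
            show ψ₀ _ = ψ₀ x
            congr 1
            apply Subtype.ext
            show ((eφ.symm (eφ x) : P) : Ω) = x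
            rw [MulEquiv.symm_apply_apply]
        have hψ₁E := hom_mem_of_range_fullyNormalized p hS F E hFA hRec hAut hRne _ hψ₁ hr₁
          (fun Q χ hχ hlt => ih' Q χ hχ (by omega))
        have h4 := fs_iso_symm_mem E hψ₁E hr₁
        have hψ₀P : ∀ x : P, ψ₀ x ∈ Pst := fun x => by rw [← hr₀]; exact ⟨x, rfl⟩
        have h5 := E.comp_mem hψ₀E h4 hψ₀P
        convert h5 using 1
        ext x
        set e₁ := isoOfRange _ (E.injective_of_mem hψ₁E) hr₁ with he₁
        show φ x = ((e₁.symm (ψ₀.codRestrict Pst hψ₀P x) : φ.range) : Ω)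
        have : ψ₀.codRestrict Pst hψ₀P x = e₁ (eφ x) := by
          apply Subtype.ext
          rw [isoOfRange_coe]
          show ψ₀ x = ψ₀ _
          congr 1
          apply Subtype.ext
          show (x : Ω) = ((eφ.symm (eφ x) : P) : Ω)
          rw [MulEquiv.symm_apply_apply]
        rw [this, MulEquiv.symm_apply_apply]
        rfl
  intro P φ hφ
  exact key _ P φ hφ rfl

end Cfsg.Agent.Lib.Helper7
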