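import Mathlib
import Cfsg.Prelude.Def_FusionSystem
import Cfsg.Agent.Lib.Helper7.Alperin3

set_option autoImplicit false

namespace Cfsg.Agent.Lib.Helper7

open Cfsg Cfsg.FusionSystem

theorem sylow_eq_top_of_isPGroup {G : Type*} [Group G] [Finite G] {p : ℕ} [Fact p.Prime]
    (hG : IsPGroup p G) (P : Sylow p G) : (P : Subgroup G) = ⊤ := by
  have h1 : IsPGroup p (⊤ : Subgroup G) := hG.to_subgroup _
  obtain ⟨Q, hQ⟩ := h1.exists_le_sylow
  have hQtop : (Q : Subgroup G) = ⊤ := top_le_iff.mp hQ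
  obtain ⟨g, hg⟩ := MulAction.exists_smul_eq G Q P
  rw [← hg, Sylow.coe_subgroup_smul, hQtop]
  rw [eq_top_iff]
  intro x _
  exact ⟨g⁻¹ * x * g, Subgroup.mem_top _, by simp [MulAut.smul_def, MulAut.conj_apply, mul_assoc]⟩

theorem not_stronglyPEmbedded_of_isPGroup {G : Type*} [Group G] [Finite G] {p : ℕ} [Fact p.Prime]
    (hG : IsPGroup p G) (M : Subgroup G) : ¬ IsStronglyPEmbedded p M := by
  intro hM
  obtain ⟨P, hPM, -⟩ := Cfsg.Agent.Lib.Lead.StronglyEmbedded.sylow_le hM
  rw [sylow_eq_top_of_isPGroup hG P] at hPM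
  exact hM.2.1 (top_le_iff.mp hPM)

variable {Ω : Type*} [Group Ω] {S : Subgroup Ω}

theorem fusionSystem_ext {F E : FusionSystem S} (h : ∀ P : Subgroup Ω, F.Hom P = E.Hom P) : F = E := by
  cases F
  cases E
  congr
  funext P
  exact h P

theorem fusionSystem_le_antisymm {F E : FusionSystem S} (h1 : F ≤ E) (h2 : E ≤ F) : F = E :=
  fusionSystem_ext (fun P => Set.Subset.antisymm (h1 P) (h2 P))

theorem innerFusionSystem_le (F : FusionSystem S) : innerFusionSystem S ≤ F := by
  rintro P φ ⟨hP, g, hg, hφ⟩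
  have := F.conj_mem hP hg
  convert this using 1
  ext x
  exact hφ x

theorem not_isEssential_of_isPGroup [Finite S] (p : ℕ) [Fact p.Prime] (F : FusionSystem S)
    {P : Subgroup Ω} (hA : IsPGroup p (F.autGroup P)) : ¬ F.IsEssential p P := by
  rintro ⟨hcen, -, hn, M, hM⟩
  haveI := finite_of_le hcen.1
  haveI : Finite (MulAut ↥P) := inferInstance
  have hq : IsPGroup p (F.autGroup P ⧸ (Inn P).subgroupOf (F.autGroup P)) :=
    hA.to_quotient _
  exact not_stronglyPEmbedded_of_isPGroup hq M hM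

theorem isFullyAutomized_top_of_isSaturated [Finite S] (p : ℕ) [Fact p.Prime] (hS : IsPGroup p S)
    (F : FusionSystem S) (hF : F.IsSaturated p) : F.IsFullyAutomized p S :=
  ((isSaturated_iff_top_automized p hS F).mp hF).1

theorem eq_innerFusionSystem_of_isPGroup [Finite S] (p : ℕ) [Fact p.Prime] (hS : IsPGroup p S)
    (F : FusionSystem S) (hF : F.IsSaturated p)
    (h : ∀ P : Subgroup Ω, P ≤ S → IsPGroup p (F.autGroup P)) : F = innerFusionSystem S := by
  apply fusionSystem_le_antisymm _ (innerFusionSystem_le F)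
  apply alperin_goldschmidt p hS F hF
  rintro P (rfl | hess)
  · obtain ⟨-, T, hT⟩ := isFullyAutomized_top_of_isSaturated p hS F hF
    haveI : Finite (MulAut ↥P) := inferInstance
    have htop := sylow_eq_top_of_isPGroup (h P le_rfl) T
    rw [hT] at htop
    intro α hα
    have : (⟨α, hα⟩ : F.autGroup P) ∈ (autInducedBy P P).subgroupOf (F.autGroup P) := by
      rw [htop]; exact Subgroup.mem_top _
    exact autInducedBy_le_autGroup (innerFusionSystem P) le_rfl (Subgroup.mem_subgroupOf.mp this)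
  · exact absurd hess (not_isEssential_of_isPGroup p F (h P hess.1.1))

end Cfsg.Agent.Lib.Helper7
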