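import Mathlib
import Cfsg.Prelude.Def_FusionSystem
import Cfsg.Agent.Lib.Helper7.ExtSystem
import Cfsg.Agent.Lib.Helper7.FusionInner

set_option autoImplicit false

namespace Cfsg.Agent.Lib.Helper7

open Cfsg Cfsg.FusionSystem

variable {Ω : Type*} [Group Ω] {S : Subgroup Ω}

theorem extSystem_le (F : FusionSystem S) (Q : Subgroup Ω) (K : Subgroup (MulAut Q)) (hQS : Q ≤ S)
    (hN : S ≤ Subgroup.normalizer (Q : Set Ω)) (hK : autInducedBy S Q ≤ K) :
    extSystem F Q K hQS hN hK ≤ F := fun _ _ h => h.1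

theorem mem_extSystem_hom_iff (F : FusionSystem S) (Q : Subgroup Ω) (K : Subgroup (MulAut Q))
    (hQS : Q ≤ S) (hN : S ≤ Subgroup.normalizer (Q : Set Ω)) (hK : autInducedBy S Q ≤ K)
    (P : Subgroup Ω) (φ : P →* Ω) :
    φ ∈ (extSystem F Q K hQS hN hK).Hom P ↔ (φ ∈ F.Hom P ∧ ∃ ψ ∈ F.Hom (P ⊔ Q),
      (∀ x : P, ψ (Subgroup.inclusion le_sup_left x) = φ x) ∧
        ∃ k ∈ K, ∀ x : Q, ψ (Subgroup.inclusion le_sup_right x) = k x) := Iff.rfl

theorem autGroup_le_extSystem (F : FusionSystem S) (Q : Subgroup Ω) (K : Subgroup (MulAut Q))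
    (hQS : Q ≤ S) (hN : S ≤ Subgroup.normalizer (Q : Set Ω)) (hK : autInducedBy S Q ≤ K)
    {P : Subgroup Ω} (hPS : P ≤ S) (hQP : Q ≤ P)
    (h : ∀ α ∈ F.autGroup P, ∃ k ∈ K, ∀ x : Q, ((α (Subgroup.inclusion hQP x) : P) : Ω) = k x) :
    F.autGroup P ≤ (extSystem F Q K hQS hN hK).autGroup P := by
  intro α hα
  apply (mem_autGroup_iff _ hPS α).mpr
  have hφ := (mem_autGroup_iff F hPS α).mp hα
  obtain ⟨k, hk, hkk⟩ := h α hα
  have hle : P ⊔ Q ≤ P := sup_le le_rfl hQP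
  refine ⟨hφ, _, fs_restrict_mem F hle hφ, fun x => ?_, k, hk, fun x => ?_⟩
  · show ((α (Subgroup.inclusion hle (Subgroup.inclusion le_sup_left x)) : P) : Ω) = ((α x : P) : Ω)
    congr 2
  · show ((α (Subgroup.inclusion hle (Subgroup.inclusion le_sup_right x)) : P) : Ω) = k x
    rw [← hkk]
    congr 2

theorem le_extSystem_of_essential [Finite S] (p : ℕ) [Fact p.Prime] (hS : IsPGroup p S)
    (F : FusionSystem S) (hF : F.IsSaturated p) (Q : Subgroup Ω) (K : Subgroup (MulAut Q))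
    (hQS : Q ≤ S) (hN : S ≤ Subgroup.normalizer (Q : Set Ω)) (hK : autInducedBy S Q ≤ K)
    (h : ∀ P : Subgroup Ω, (P = S ∨ F.IsEssential p P) → ∃ hQP : Q ≤ P, ∀ α ∈ F.autGroup P,
      ∃ k ∈ K, ∀ x : Q, ((α (Subgroup.inclusion hQP x) : P) : Ω) = k x) :
    F ≤ extSystem F Q K hQS hN hK := by
  apply alperin_goldschmidt p hS F hF
  intro P hP
  obtain ⟨hQP, hα⟩ := h P hP
  have hPS : P ≤ S := by
    rcases hP with rfl | hess
    · exact le_rfl
    · exact hess.1.1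
  exact autGroup_le_extSystem F Q K hQS hN hK hPS hQP hα

/-- Restriction of an automorphism of `P` stabilizing `Q ≤ P` (finite) to an automorphism of `Q`. -/
theorem exists_restrict_mulAut {P Q : Subgroup Ω} [Finite Q] (hQP : Q ≤ P) (α : MulAut P)
    (h : ∀ x : Q, ((α (Subgroup.inclusion hQP x) : P) : Ω) ∈ Q) :
    ∃ k : MulAut Q, ∀ x : Q, ((α (Subgroup.inclusion hQP x) : P) : Ω) = k x := by
  let f : Q →* Q := (P.subtype.comp (α.toMonoidHom.comp (Subgroup.inclusion hQP))).codRestrict Q h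
  have hinj : Function.Injective f := by
    intro a b hab
    have h1 : ((α (Subgroup.inclusion hQP a) : P) : Ω) = ((α (Subgroup.inclusion hQP b) : P) : Ω) :=
      congrArg (fun z : Q => (z : Ω)) hab
    have h2 := α.injective (Subtype.ext h1)
    exact Subgroup.inclusion_injective hQP h2
  exact ⟨MulEquiv.ofBijective f ⟨hinj, Finite.injective_iff_surjective.mp hinj⟩, fun x => rfl⟩

end Cfsg.Agent.Lib.Helper7
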