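import Mathlib
import Cfsg.Prelude.Def_FusionSystem
import Cfsg.Agent.Lib.Helper7.ExtSystem2

set_option autoImplicit false

namespace Cfsg.Agent.Lib.Helper7

open Cfsg Cfsg.FusionSystem

variable {Ω : Type*} [Group Ω] {S : Subgroup Ω}

theorem mem_of_normalizerMonoidHom_mem_inn {P : Subgroup Ω} (hcen : centralizerIn S P ≤ P)
    (hPS : P ≤ S) {g : Ω} (hgS : g ∈ S) (hgN : g ∈ Subgroup.normalizer (P : Set Ω))
    (h : P.normalizerMonoidHom ⟨g, hgN⟩ ∈ Inn P) : g ∈ P := by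
  obtain ⟨x, hx⟩ := h
  have hc : (x : Ω)⁻¹ * g ∈ centralizerIn S P := by
    refine ⟨S.mul_mem (S.inv_mem (hPS x.2)) hgS, ?_⟩
    show _ ∈ Subgroup.centralizer (P : Set Ω)
    rw [Subgroup.mem_centralizer_iff]
    intro y hy
    have h2 := congrArg (fun β : MulAut P => ((β ⟨y, hy⟩ : P) : Ω)) hx
    simp only [MulAut.conj_apply] at h2
    have h3 : (x : Ω) * y * (x : Ω)⁻¹ = g * y * g⁻¹ := h2
    have h4 : y * ((x : Ω)⁻¹ * g) = (x : Ω)⁻¹ * ((x : Ω) * y * (x : Ω)⁻¹) * g := by group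
    rw [h4, h3]; group
  have := P.mul_mem x.2 (hcen hc)
  simpa using this

/-- A subgroup normal in the system is normal in `S`. -/
theorem le_normalizer_of_isNormal (F : FusionSystem S) {Q : Subgroup Ω} (hQ : F.IsNormal Q) :
    S ≤ Subgroup.normalizer (Q : Set Ω) := by
  have hmem : ∀ g ∈ S, ∀ x ∈ Q, g * x * g⁻¹ ∈ Q := by
    intro g hg x hx
    obtain ⟨ψ, hψ, hext, hmap⟩ := hQ.2 S (conjHom S g) (F.conj_mem le_rfl hg)
    have h1 := hext ⟨x, hQ.1 hx⟩
    have h2 : ψ (Subgroup.inclusion le_sup_left ⟨x, hQ.1 hx⟩) ∈ (Q.subgroupOf (S ⊔ Q)).map ψ :=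
      ⟨_, Subgroup.mem_subgroupOf.mpr hx, rfl⟩
    rw [hmap, h1] at h2
    exact h2
  intro g hg
  rw [Subgroup.mem_normalizer_iff]
  intro x
  refine ⟨hmem g hg x, fun hx => ?_⟩
  have := hmem g⁻¹ (S.inv_mem hg) _ hx
  simpa [mul_assoc] using this

/-- Automorphisms of `P ⊇ Q` in the system stabilize a subgroup `Q` normal in the system. -/
theorem map_eq_of_isNormal [Finite S] (F : FusionSystem S) {Q P : Subgroup Ω} (hQ : F.IsNormal Q)
    (hPS : P ≤ S) (hQP : Q ≤ P) (α : MulAut P) (hα : α ∈ F.autGroup P) :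
    (Q.subgroupOf P).map α.toMonoidHom = Q.subgroupOf P := by
  haveI := finite_of_le hPS
  have hle : (Q.subgroupOf P).map α.toMonoidHom ≤ Q.subgroupOf P := by
    rintro _ ⟨x, hx, rfl⟩
    have hxQ : (x : Ω) ∈ Q := Subgroup.mem_subgroupOf.mp hx
    obtain ⟨ψ, hψ, hext, hmap⟩ := hQ.2 P _ ((mem_autGroup_iff F hPS α).mp hα)
    have h1 := hext x
    have h2 : ψ (Subgroup.inclusion le_sup_left x) ∈ (Q.subgroupOf (P ⊔ Q)).map ψ :=
      ⟨_, Subgroup.mem_subgroupOf.mpr hxQ, rfl⟩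
    rw [hmap, h1] at h2
    exact Subgroup.mem_subgroupOf.mpr h2
  apply Subgroup.eq_of_le_of_card_ge hle
  rw [Subgroup.card_map_of_injective α.injective]

theorem autInducedBy_mono {K K' : Subgroup Ω} (h : K ≤ K') (P : Subgroup Ω) :
    autInducedBy K P ≤ autInducedBy K' P := by
  intro α hα
  obtain ⟨g, hg, hgα⟩ := (mem_autInducedBy_iff K P α).mp hα
  exact (mem_autInducedBy_iff K' P α).mpr ⟨g, h hg, hgα⟩

/-- A subgroup normal in the system is contained in every centric radical subgroup. -/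
theorem le_of_isNormal_of_centric_radical [Finite S] (p : ℕ) [Fact p.Prime] (hS : IsPGroup p S)
    (F : FusionSystem S) {Q P : Subgroup Ω} (hQ : F.IsNormal Q) (hcen : F.IsCentric P)
    (hrad : F.IsRadical p P) : Q ≤ P := by
  have hPS := hcen.1
  have hQS := hQ.1
  have hPQS : P ⊔ Q ≤ S := sup_le hPS hQS
  haveI := finite_of_le hPS
  haveI := finite_of_le hPQS
  haveI : Finite (MulAut ↥P) := inferInstance
  have hcenP : centralizerIn S P ≤ P := hcen.2 P (isConj_refl F hPS)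
  have hXA : autInducedBy (P ⊔ Q) P ≤ F.autGroup P :=
    (autInducedBy_mono hPQS P).trans (autInducedBy_le_autGroup F hPS)
  have hXp : IsPGroup p ↥(autInducedBy (P ⊔ Q) P) := isPGroup_autInducedBy _ _ (hS.to_le hPQS)
  -- X is normalized by A
  have hXnorm : ∀ α ∈ F.autGroup P, ∀ β ∈ autInducedBy (P ⊔ Q) P,
      α * β * α⁻¹ ∈ autInducedBy (P ⊔ Q) P := by
    intro α hα β hβ
    obtain ⟨g, hg, hgβ⟩ := (mem_autInducedBy_iff _ P β).mp hβ
    obtain ⟨ψ, hψ, hext, hmap⟩ := hQ.2 P _ ((mem_autGroup_iff F hPS α).mp hα)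
    have hψg : ψ ⟨g, hg⟩ ∈ P ⊔ Q := by
      have h1 : ψ ⟨g, hg⟩ ∈ ψ.range := ⟨_, rfl⟩
      rw [map_top_sup, hmap] at h1
      refine (sup_le_sup_right ?_ Q) h1
      rintro _ ⟨x, hx, rfl⟩
      have hxP : (x : Ω) ∈ P := Subgroup.mem_subgroupOf.mp hx
      have := hext ⟨x, hxP⟩
      have e : Subgroup.inclusion le_sup_left (⟨x, hxP⟩ : P) = x := Subtype.ext rfl
      rw [e] at this
      rw [this]
      exact (α _).2
    apply (mem_autInducedBy_iff _ P _).mpr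
    refine ⟨ψ ⟨g, hg⟩, hψg, fun x => ?_⟩
    show ((α (β (α⁻¹ x)) : P) : Ω) = _
    have h1 := hext (β (α⁻¹ x))
    simp only [MonoidHom.comp_apply, Subgroup.coe_subtype, MulEquiv.coe_toMonoidHom] at h1
    rw [← h1]
    have e1 : Subgroup.inclusion le_sup_left (β (α⁻¹ x)) =
        (⟨g, hg⟩ : ↥(P ⊔ Q)) * Subgroup.inclusion le_sup_left (α⁻¹ x) * (⟨g, hg⟩ : ↥(P ⊔ Q))⁻¹ := by
      apply Subtype.ext
      exact hgβ _
    rw [e1, map_mul, map_mul, map_inv, hext]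
    simp
  have hnormal : ((autInducedBy (P ⊔ Q) P).subgroupOf (F.autGroup P)).Normal := by
    refine ⟨fun n hn a => ?_⟩
    exact Subgroup.mem_subgroupOf.mpr (hXnorm a a.2 n (Subgroup.mem_subgroupOf.mp hn))
  have hle := le_pCore hnormal hXp.comap_subtype
  have hXInn : autInducedBy (P ⊔ Q) P ≤ Inn P := by
    intro β hβ
    rw [← hrad.2]
    exact ⟨⟨β, hXA hβ⟩, hle (Subgroup.mem_subgroupOf.mpr hβ), rfl⟩
  -- N_{PQ}(P) ≤ P
  by_contra hnot
  have hne : P ≠ P ⊔ Q := fun h => hnot (by rw [h]; exact le_sup_right)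
  obtain ⟨g, hgN, hgP⟩ := lt_normalizerIn_of_ne (hS.to_le hPQS) le_sup_left hne
  apply hgP
  apply mem_of_normalizerMonoidHom_mem_inn hcenP hPS (hPQS hgN.1) hgN.2
  apply hXInn
  exact (mem_autInducedBy_iff _ P _).mpr ⟨g, hgN.1, fun x => rfl⟩

theorem essential_invariant_of_isNormal [Finite S] (p : ℕ) [Fact p.Prime] (hS : IsPGroup p S)
    (F : FusionSystem S) {Q : Subgroup Ω} (hQ : F.IsNormal Q) (P : Subgroup Ω)
    (hP : P = S ∨ F.IsEssential p P) :
    Q ≤ P ∧ ∀ α ∈ F.autGroup P, (Q.subgroupOf P).map α.toMonoidHom = Q.subgroupOf P := by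
  have hPS : P ≤ S := by
    rcases hP with rfl | hess
    · exact le_rfl
    · exact hess.1.1
  have hQP : Q ≤ P := by
    rcases hP with rfl | hess
    · exact hQ.1
    · exact le_of_isNormal_of_centric_radical p hS F hQ hess.1 (isRadical_of_isEssential p hS F P hess)
  exact ⟨hQP, fun α hα => map_eq_of_isNormal F hQ hPS hQP α hα⟩

theorem isNormal_of_essential_invariant [Finite S] (p : ℕ) [Fact p.Prime] (hS : IsPGroup p S)
    (F : FusionSystem S) (hF : F.IsSaturated p) {Q : Subgroup Ω}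
    (h : ∀ P : Subgroup Ω, (P = S ∨ F.IsEssential p P) →
      (Q ≤ P ∧ ∀ α ∈ F.autGroup P, (Q.subgroupOf P).map α.toMonoidHom = Q.subgroupOf P)) :
    F.IsNormal Q := by
  have hQS : Q ≤ S := (h S (Or.inl rfl)).1
  haveI := finite_of_le hQS
  have hN : S ≤ Subgroup.normalizer (Q : Set Ω) := by
    intro g hg
    apply mem_normalizer_of_conj_mem_finite
    intro x hx
    have hα : MulAut.conj (⟨g, hg⟩ : S) ∈ F.autGroup S := inn_le_autGroup F le_rfl ⟨_, rfl⟩
    have h1 := (h S (Or.inl rfl)).2 _ hα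
    have h2 : (MulAut.conj (⟨g, hg⟩ : S)) ⟨x, hQS hx⟩ ∈
        (Q.subgroupOf S).map (MulAut.conj (⟨g, hg⟩ : S)).toMonoidHom :=
      ⟨_, Subgroup.mem_subgroupOf.mpr hx, rfl⟩
    rw [h1] at h2
    have h3 := Subgroup.mem_subgroupOf.mp h2
    simpa [MulAut.conj_apply] using h3
  have hle := le_extSystem_of_essential p hS F hF Q ⊤ hQS hN le_top (by
    intro P hP
    obtain ⟨hQP, hα⟩ := h P hP
    refine ⟨hQP, fun α hαA => ?_⟩
    obtain ⟨k, hk⟩ := exists_restrict_mulAut hQP α (by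
      intro x
      have h2 : α (Subgroup.inclusion hQP x) ∈ (Q.subgroupOf P).map α.toMonoidHom :=
        ⟨_, Subgroup.mem_subgroupOf.mpr x.2, rfl⟩
      rw [hα α hαA] at h2
      exact Subgroup.mem_subgroupOf.mp h2)
    exact ⟨k, Subgroup.mem_top _, hk⟩)
  refine ⟨hQS, fun P φ hφ => ?_⟩
  obtain ⟨-, ψ, hψ, hext, k, -, hk⟩ := hle P hφ
  refine ⟨ψ, hψ, hext, ?_⟩
  ext y
  constructor
  · rintro ⟨x, hx, rfl⟩
    have hxQ : (x : Ω) ∈ Q := Subgroup.mem_subgroupOf.mp hx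
    have := hk ⟨x, hxQ⟩
    have e : Subgroup.inclusion le_sup_right (⟨x, hxQ⟩ : Q) = x := Subtype.ext rfl
    rw [e] at this
    rw [this]; exact (k _).2
  · intro hy
    refine ⟨Subgroup.inclusion le_sup_right (k⁻¹ ⟨y, hy⟩),
      Subgroup.mem_subgroupOf.mpr (k⁻¹ ⟨y, hy⟩).2, ?_⟩
    rw [hk]; simp

theorem isNormal_iff_essential_invariant [Finite S] (p : ℕ) [Fact p.Prime] (hS : IsPGroup p S)
    (F : FusionSystem S) (hF : F.IsSaturated p) (Q : Subgroup Ω) :
    F.IsNormal Q ↔ ∀ P : Subgroup Ω, (P = S ∨ F.IsEssential p P) →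
      (Q ≤ P ∧ ∀ α ∈ F.autGroup P, (Q.subgroupOf P).map α.toMonoidHom = Q.subgroupOf P) :=
  ⟨fun hQ P hP => essential_invariant_of_isNormal p hS F hQ P hP,
    isNormal_of_essential_invariant p hS F hF⟩

theorem stronglyClosed_of_isNormal (F : FusionSystem S) {Q : Subgroup Ω} (hQ : F.IsNormal Q) :
    F.StronglyClosed Q := by
  refine ⟨hQ.1, fun R hRQ φ hφ x => ?_⟩
  obtain ⟨ψ, hψ, hext, hmap⟩ := hQ.2 R φ hφ
  have h2 : ψ (Subgroup.inclusion le_sup_left x) ∈ (Q.subgroupOf (R ⊔ Q)).map ψ :=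
    ⟨_, Subgroup.mem_subgroupOf.mpr (hRQ x.2), rfl⟩
  rw [hmap, hext] at h2
  exact h2

theorem map_eq_of_stronglyClosed [Finite S] (F : FusionSystem S) {Q P : Subgroup Ω}
    (hQ : F.StronglyClosed Q) (hPS : P ≤ S) (hQP : Q ≤ P) (α : MulAut P) (hα : α ∈ F.autGroup P) :
    (Q.subgroupOf P).map α.toMonoidHom = Q.subgroupOf P := by
  haveI := finite_of_le hPS
  have hle : (Q.subgroupOf P).map α.toMonoidHom ≤ Q.subgroupOf P := by
    rintro _ ⟨x, hx, rfl⟩
    have hxQ : (x : Ω) ∈ Q := Subgroup.mem_subgroupOf.mp hx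
    have hφ := fs_restrict_mem F hQP ((mem_autGroup_iff F hPS α).mp hα)
    have := hQ.2 Q le_rfl _ hφ ⟨x, hxQ⟩
    exact Subgroup.mem_subgroupOf.mpr this
  apply Subgroup.eq_of_le_of_card_ge hle
  rw [Subgroup.card_map_of_injective α.injective]

theorem isNormal_iff_stronglyClosed_le_centric_radical [Finite S] (p : ℕ) [Fact p.Prime]
    (hS : IsPGroup p S) (F : FusionSystem S) (hF : F.IsSaturated p) (Q : Subgroup Ω) :
    F.IsNormal Q ↔ (F.StronglyClosed Q ∧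
      ∀ P : Subgroup Ω, F.IsCentric P → F.IsRadical p P → Q ≤ P) := by
  constructor
  · intro hQ
    exact ⟨stronglyClosed_of_isNormal F hQ, fun P hcen hrad =>
      le_of_isNormal_of_centric_radical p hS F hQ hcen hrad⟩
  · rintro ⟨hsc, hle⟩
    apply isNormal_of_essential_invariant p hS F hF
    intro P hP
    have hPS : P ≤ S := by
      rcases hP with rfl | hess
      · exact le_rfl
      · exact hess.1.1
    have hQP : Q ≤ P := by
      rcases hP with rfl | hess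
      · exact hsc.1
      · exact hle P hess.1 (isRadical_of_isEssential p hS F P hess)
    exact ⟨hQP, fun α hα => map_eq_of_stronglyClosed F hsc hPS hQP α hα⟩

end Cfsg.Agent.Lib.Helper7
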