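import Mathlib
import Cfsg.Prelude.Def_FusionSystem
import Cfsg.Agent.Lib.Helper7.FusionSat4
import Cfsg.Agent.Lib.Helper7.FusionNormal

set_option autoImplicit false

namespace Cfsg.Agent.Lib.Helper7

open Cfsg Cfsg.FusionSystem

variable {Ω : Type*} [Group Ω] {S : Subgroup Ω}

/-- The `L`-normalizer of the image of `θ : U →* Ω` in `S`: the elements of `S` whose conjugation action
on the image of `θ` is, transported through `θ`, an element of `L ≤ Aut(U)`. -/
def kNorm (S : Subgroup Ω) {U : Subgroup Ω} (L : Subgroup (MulAut U)) (θ : U →* Ω) : Subgroup Ω where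
  carrier := {g | g ∈ S ∧ ∃ l ∈ L, ∀ u : U, θ (l u) = g * θ u * g⁻¹}
  one_mem' := ⟨S.one_mem, 1, L.one_mem, fun u => by simp⟩
  mul_mem' := by
    rintro a b ⟨ha, la, hla, hae⟩ ⟨hb, lb, hlb, hbe⟩
    refine ⟨S.mul_mem ha hb, la * lb, L.mul_mem hla hlb, fun u => ?_⟩
    rw [MulAut.mul_apply, hae, hbe]; group
  inv_mem' := by
    rintro a ⟨ha, la, hla, hae⟩
    refine ⟨S.inv_mem ha, la⁻¹, L.inv_mem hla, fun u => ?_⟩
    have := hae (la⁻¹ u)
    rw [MulAut.apply_inv_self] at this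
    rw [this]; group

theorem mem_kNorm {U : Subgroup Ω} (L : Subgroup (MulAut U)) (θ : U →* Ω) (g : Ω) :
    g ∈ kNorm S L θ ↔ g ∈ S ∧ ∃ l ∈ L, ∀ u : U, θ (l u) = g * θ u * g⁻¹ := Iff.rfl

theorem kNorm_le {U : Subgroup Ω} (L : Subgroup (MulAut U)) (θ : U →* Ω) : kNorm S L θ ≤ S :=
  fun _ h => h.1

theorem kNorm_le_normalizer {U : Subgroup Ω} (L : Subgroup (MulAut U)) (θ : U →* Ω) :
    kNorm S L θ ≤ Subgroup.normalizer (θ.range : Set Ω) := by
  have key : ∀ g ∈ kNorm S L θ, ∀ y ∈ θ.range, g * y * g⁻¹ ∈ θ.range := by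
    rintro g ⟨-, l, -, hl⟩ _ ⟨u, rfl⟩
    exact ⟨l u, hl u⟩
  intro g hg
  rw [Subgroup.mem_normalizer_iff]
  intro y
  refine ⟨key g hg y, fun h => ?_⟩
  have := key g⁻¹ (Subgroup.inv_mem _ hg) _ h
  simpa [mul_assoc] using this

theorem centralizerIn_le_kNorm {U : Subgroup Ω} (L : Subgroup (MulAut U)) (θ : U →* Ω) :
    centralizerIn S θ.range ≤ kNorm S L θ := by
  intro g hg
  refine ⟨hg.1, 1, L.one_mem, fun u => ?_⟩
  have := (Subgroup.mem_centralizer_iff.mp hg.2) (θ u) ⟨u, rfl⟩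
  rw [MulAut.one_apply, ← this]; group

/-- The order of a subgroup between `C_S(V)` and `N_S(V)`. -/
theorem card_eq_centralizerIn_mul_autInducedBy {V X : Subgroup Ω} [Finite X]
    (hCX : centralizerIn S V ≤ X) (hXS : X ≤ S) (hXN : X ≤ Subgroup.normalizer (V : Set Ω)) :
    Nat.card X = Nat.card (centralizerIn S V) * Nat.card (autInducedBy X V) := by
  set f : X →* MulAut V := V.normalizerMonoidHom.comp (Subgroup.inclusion hXN) with hf
  have hrange : f.range = autInducedBy X V := by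
    ext α
    rw [mem_autInducedBy_iff]
    constructor
    · rintro ⟨g, rfl⟩
      exact ⟨g, g.2, fun x => rfl⟩
    · rintro ⟨g, hg, hα⟩
      refine ⟨⟨g, hg⟩, ?_⟩
      ext x
      rw [hα]
      rfl
  have hker : f.ker.map X.subtype = centralizerIn S V := by
    ext g
    constructor
    · rintro ⟨x, hx, rfl⟩
      refine ⟨hXS x.2, ?_⟩
      show (x : Ω) ∈ Subgroup.centralizer (V : Set Ω)
      rw [Subgroup.mem_centralizer_iff]
      intro v hv
      have h1 : f x ⟨v, hv⟩ = ⟨v, hv⟩ := by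
        rw [MonoidHom.mem_ker.mp hx]; rfl
      have h2 : (x : Ω) * v * (x : Ω)⁻¹ = v := congrArg Subtype.val h1
      calc v * (x : Ω) = ((x : Ω) * v * (x : Ω)⁻¹) * x := by rw [h2]
        _ = x * v := by group
    · intro hg
      refine ⟨⟨g, hCX hg⟩, ?_, rfl⟩
      show (⟨g, hCX hg⟩ : X) ∈ f.ker
      rw [MonoidHom.mem_ker]
      ext v
      show g * (v : Ω) * g⁻¹ = v
      have := (Subgroup.mem_centralizer_iff.mp hg.2) v v.2
      rw [← this]; group
  have h1 : Nat.card X = Nat.card (X ⧸ f.ker) * Nat.card f.ker :=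
    Subgroup.card_eq_card_quotient_mul_card_subgroup f.ker
  have h2 : Nat.card (X ⧸ f.ker) = Nat.card f.range :=
    Nat.card_congr (QuotientGroup.quotientKerEquivRange f).toEquiv
  have h3 : Nat.card f.ker = Nat.card (centralizerIn S V) := by
    rw [← hker, Subgroup.card_map_of_injective X.subtype_injective]
  rw [h1, h2, h3, hrange, mul_comm]

theorem IsSylowIn.exists_conj_le {G : Type*} [Group G] [Finite G] {p : ℕ} [Fact p.Prime]
    {T A B : Subgroup G} (hT : IsSylowIn p T A) (hB : IsPGroup p B) (hBA : B ≤ A) :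
    ∃ a ∈ A, ∀ β ∈ B, a * β * a⁻¹ ∈ T := by
  obtain ⟨T', hT', hBT'⟩ := exists_isSylowIn_ge hB hBA
  obtain ⟨a, ha, hconj⟩ := hT'.conj hT
  refine ⟨a, ha, fun β hβ => ?_⟩
  rw [hconj]
  exact ⟨β, hBT' hβ, by simp [MulAut.conj_apply]⟩


theorem autInducedBy_kNorm_le {U : Subgroup Ω} (L : Subgroup (MulAut U)) :
    autInducedBy (kNorm S L U.subtype) U ≤ autInducedBy S U ⊓ L := by
  intro α hα
  obtain ⟨g, hg, hα⟩ := (mem_autInducedBy_iff _ _ _).mp hα
  refine ⟨(mem_autInducedBy_iff _ _ _).mpr ⟨g, hg.1, hα⟩, ?_⟩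
  obtain ⟨-, l, hl, hle⟩ := hg
  have : α = l := by
    ext u
    rw [hα u]
    exact (hle u).symm
  rw [this]; exact hl

/-- Extension property for `L`-normalizers (AKO I.5.2): if `U` is receptive and `Aut_S(U) ∩ L` is a
Sylow `p`-subgroup of `Aut_F(U) ∩ L`, then for every map `φ` of the system with source `U` there is a map
`ψ` of the system defined on a subgroup containing `φ(U)` and the `L`-normalizer of `φ(U)` in `S`, such that
`ψ ∘ φ ∈ L`. -/
theorem exists_kNorm_extension [Finite S] (p : ℕ) [Fact p.Prime] (hS : IsPGroup p S)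
    (F : FusionSystem S) {U : Subgroup Ω} (L : Subgroup (MulAut U)) (hrec : F.IsReceptive U)
    (hsyl : IsSylowIn p (autInducedBy S U ⊓ L) (F.autGroup U ⊓ L))
    (φ : U →* Ω) (hφ : φ ∈ F.Hom U) :
    ∃ (W : Subgroup Ω) (ψ : W →* Ω), ψ ∈ F.Hom W ∧ kNorm S L φ ≤ W ∧
      ∃ hr : φ.range ≤ W, ∃ l ∈ F.autGroup U ⊓ L, ∀ u : U, ψ ⟨φ u, hr ⟨u, rfl⟩⟩ = l u := by
  have hUS : U ≤ S := hrec.1
  haveI : Finite U := finite_of_le hUS
  have hinj := F.injective_of_mem hφ
  have hVS : φ.range ≤ S := by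
    rintro _ ⟨u, rfl⟩; exact (F.le_of_mem hφ).2 u
  obtain ⟨χ₀, hχ₀, hχ₀φ⟩ := F.inv_mem hφ
  have hr₀ : χ₀.range = U := by
    ext y
    constructor
    · rintro ⟨⟨_, x, rfl⟩, rfl⟩
      rw [hχ₀φ]; exact x.2
    · intro hy
      exact ⟨⟨φ ⟨y, hy⟩, ⟨⟨y, hy⟩, rfl⟩⟩, hχ₀φ ⟨y, hy⟩⟩
  set e := isoOfRange χ₀ (F.injective_of_mem hχ₀) hr₀ with he
  have heφ : ∀ u : U, e ⟨φ u, ⟨u, rfl⟩⟩ = u := by
    intro u
    apply Subtype.ext
    rw [he, isoOfRange_coe]
    exact hχ₀φ u
  set B : Subgroup (MulAut U) :=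
    (autInducedBy (kNorm S L φ) φ.range).map (MulAut.congr e).toMonoidHom with hB
  have hBp : IsPGroup p ↥B :=
    (isPGroup_autInducedBy _ _ (hS.to_le (kNorm_le L φ))).map _
  have hBle : B ≤ F.autGroup U ⊓ L := by
    rintro _ ⟨α, hα, rfl⟩
    refine ⟨autGroup_congr F hχ₀ hr₀
      (autInducedBy_le_autGroup F hVS (autInducedBy_mono (kNorm_le L φ) _ hα)), ?_⟩
    obtain ⟨g, hg, hαg⟩ := (mem_autInducedBy_iff _ _ _).mp hα
    obtain ⟨-, l, hl, hle⟩ := hg
    have : (MulAut.congr e).toMonoidHom α = l := by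
      ext u
      show ((e (α (e.symm u)) : U) : Ω) = l u
      have h1 : e.symm u = ⟨φ u, ⟨u, rfl⟩⟩ := by
        rw [MulEquiv.symm_apply_eq, heφ]
      have h2 : α ⟨φ u, ⟨u, rfl⟩⟩ = ⟨φ (l u), ⟨l u, rfl⟩⟩ := by
        apply Subtype.ext
        show ((α ⟨φ u, ⟨u, rfl⟩⟩ : φ.range) : Ω) = φ (l u)
        rw [hαg, hle]
      rw [h1, h2, heφ]
    rw [this]; exact hl
  obtain ⟨a, ha, hconj⟩ := hsyl.exists_conj_le hBp hBle
  set χ : φ.range →* Ω := (U.subtype.comp a.toMonoidHom).comp e.toMonoidHom with hχdef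
  have hχ : χ ∈ F.Hom φ.range := by
    have := F.comp_mem hχ₀ ((mem_autGroup_iff F hUS a).mp ha.1)
      (fun x => hr₀.le ⟨x, rfl⟩)
    convert this using 1
    ext x
    rfl
  have hχrange : χ.range = U := by
    ext y
    constructor
    · rintro ⟨x, rfl⟩
      exact (a (e x)).2
    · intro hy
      refine ⟨e.symm (a⁻¹ ⟨y, hy⟩), ?_⟩
      simp [hχdef]
  have hNle : kNorm S L φ ≤ extender S φ.range χ := by
    intro g hg
    have hgS : g ∈ S := hg.1
    have hgN : g ∈ Subgroup.normalizer (φ.range : Set Ω) := kNorm_le_normalizer L φ hg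
    apply mem_extender_of_mem hgS hgN
    set γ : MulAut φ.range := φ.range.normalizerMonoidHom ⟨g, hgN⟩ with hγ
    have hγmem : γ ∈ autInducedBy (kNorm S L φ) φ.range :=
      (mem_autInducedBy_iff _ _ γ).mpr ⟨g, hg, fun x => rfl⟩
    have hβ : (MulAut.congr e).toMonoidHom γ ∈ B := ⟨γ, hγmem, rfl⟩
    obtain ⟨h, hhS, hh⟩ := (mem_autInducedBy_iff S U _).mp (hconj _ hβ).1
    refine ⟨h, hhS, fun x hx => ?_⟩
    have e1 : (⟨g * (x : Ω) * g⁻¹, hx⟩ : φ.range) = γ x := Subtype.ext rfl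
    have e2 := hh (a (e x))
    rw [e1]
    show ((a (e (γ x)) : U) : Ω) = h * ((a (e x) : U) : Ω) * h⁻¹
    rw [← e2]
    simp [MulAut.congr_apply]
  obtain ⟨ψ, hψ, hext⟩ := hrec.2 φ.range χ hχ hχrange
  have hVW : φ.range ≤ extender S φ.range χ := le_extender F hχ
  refine ⟨extender S φ.range χ, ψ, hψ, hNle, hVW, a, ha, fun u => ?_⟩
  rw [hext (φ u) ⟨u, rfl⟩ (hVW ⟨u, rfl⟩)]
  show ((a (e ⟨φ u, ⟨u, rfl⟩⟩) : U) : Ω) = a u
  rw [heφ]


/-- AKO I.5.2, the other direction: a fully `L`-normalized subgroup is receptive and `Aut_S(U) ∩ L` is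
a Sylow `p`-subgroup of `Aut_F(U) ∩ L`. -/
theorem receptive_sylow_of_fully_kNormalized [Finite S] (p : ℕ) [Fact p.Prime] (hS : IsPGroup p S)
    (F : FusionSystem S) (hF : F.IsSaturated p) {U : Subgroup Ω} (hU : U ≤ S)
    (L : Subgroup (MulAut U))
    (hmax : ∀ χ ∈ F.Hom U, Nat.card (kNorm S L χ) ≤ Nat.card (kNorm S L U.subtype)) :
    F.IsReceptive U ∧ IsSylowIn p (autInducedBy S U ⊓ L) (F.autGroup U ⊓ L) := by
  haveI : Finite U := finite_of_le hU
  obtain ⟨U', hc, hFA, hRec⟩ := hF U hU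
  have hU'S : U' ≤ S := hRec.1
  haveI : Finite U' := finite_of_le hU'S
  obtain ⟨χ₀, hχ₀, hr₀⟩ := id hc
  set e := isoOfRange χ₀ (F.injective_of_mem hχ₀) hr₀ with he
  set T₀ : Subgroup (MulAut U) := autInducedBy S U ⊓ L with hT₀
  set A : Subgroup (MulAut U) := F.autGroup U ⊓ L with hA
  have hT₀A : T₀ ≤ A := inf_le_inf_right _ (autInducedBy_le_autGroup F hU)
  have hT₀p : IsPGroup p T₀ := (isPGroup_autInducedBy S U hS).to_le inf_le_left
  obtain ⟨T, hT, hT₀T⟩ := exists_isSylowIn_ge hT₀p hT₀A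
  set B : Subgroup (MulAut U') := T.map (MulAut.congr e).toMonoidHom with hB
  have hBp : IsPGroup p ↥B := hT.isPGroup.map _
  have hBle : B ≤ F.autGroup U' := by
    rintro _ ⟨α, hα, rfl⟩
    exact autGroup_congr F hχ₀ hr₀ (hT.1 hα).1
  obtain ⟨a, ha, hconj⟩ := exists_conj_le_autInducedBy p F hFA B hBp hBle
  set χ : U →* Ω := (U'.subtype.comp a.toMonoidHom).comp e.toMonoidHom with hχdef
  have hχ : χ ∈ F.Hom U := by
    have := F.comp_mem hχ₀ ((mem_autGroup_iff F hU'S a).mp ha) (fun x => hr₀.le ⟨x, rfl⟩)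
    convert this using 1
    ext x
    rfl
  have hχrange : χ.range = U' := by
    ext y
    constructor
    · rintro ⟨x, rfl⟩
      exact (a (e x)).2
    · intro hy
      refine ⟨e.symm (a⁻¹ ⟨y, hy⟩), ?_⟩
      simp [hχdef]
  -- every element of `T`, transported through `χ`, is induced by an element of `kNorm S L χ`
  have hclaim : ∀ t ∈ T, ∃ h ∈ kNorm S L χ, ∀ u' : U',
      (((a * (MulAut.congr e).toMonoidHom t * a⁻¹) u' : U') : Ω) = h * u' * h⁻¹ := by
    intro t ht
    obtain ⟨h, hhS, hh⟩ := (mem_autInducedBy_iff S U' _).mp (hconj _ ⟨t, ht, rfl⟩)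
    refine ⟨h, ⟨hhS, t, (hT.1 ht).2, fun u => ?_⟩, hh⟩
    have e2 := hh (a (e u))
    show ((a (e (t u)) : U') : Ω) = h * ((a (e u) : U') : Ω) * h⁻¹
    rw [← e2]
    simp [MulAut.congr_apply]
  -- counting
  have hN'fin : Finite (kNorm S L χ) := finite_of_le (kNorm_le L χ)
  have hN₀fin : Finite (kNorm S L U.subtype) := finite_of_le (kNorm_le L U.subtype)
  have hc1 : Nat.card (kNorm S L χ) =
      Nat.card (centralizerIn S U') * Nat.card (autInducedBy (kNorm S L χ) U') := by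
    apply card_eq_centralizerIn_mul_autInducedBy
    · have := centralizerIn_le_kNorm (S := S) L χ
      rwa [hχrange] at this
    · exact kNorm_le L χ
    · have := kNorm_le_normalizer (S := S) L χ
      rwa [hχrange] at this
  have hc2 : Nat.card (kNorm S L U.subtype) =
      Nat.card (centralizerIn S U) * Nat.card (autInducedBy (kNorm S L U.subtype) U) := by
    apply card_eq_centralizerIn_mul_autInducedBy
    · have := centralizerIn_le_kNorm (S := S) L U.subtype
      rwa [Subgroup.range_subtype] at this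
    · exact kNorm_le L U.subtype
    · have := kNorm_le_normalizer (S := S) L U.subtype
      rwa [Subgroup.range_subtype] at this
  have hc3 : Nat.card T ≤ Nat.card (autInducedBy (kNorm S L χ) U') := by
    set f : MulAut U →* MulAut U' :=
      (MulAut.conj a).toMonoidHom.comp (MulAut.congr e).toMonoidHom with hf
    have hfinj : Function.Injective f := by
      intro x y hxy
      have h1 : (MulAut.conj a) ((MulAut.congr e) x) = (MulAut.conj a) ((MulAut.congr e) y) := hxy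
      exact (MulAut.congr e).injective ((MulAut.conj a).injective h1)
    have hle : T.map f ≤ autInducedBy (kNorm S L χ) U' := by
      rintro _ ⟨t, ht, rfl⟩
      obtain ⟨h, hh, hhe⟩ := hclaim t ht
      exact (mem_autInducedBy_iff _ _ _).mpr ⟨h, hh, hhe⟩
    calc Nat.card T = Nat.card (T.map f) := (Subgroup.card_map_of_injective hfinj).symm
      _ ≤ _ := Subgroup.card_le_of_le hle
  have hc4 : Nat.card (autInducedBy (kNorm S L U.subtype) U) ≤ Nat.card T₀ :=
    Subgroup.card_le_of_le (autInducedBy_kNorm_le L)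
  have hc5 : Nat.card T₀ ≤ Nat.card T := Subgroup.card_le_of_le hT₀T
  have hFC' := isFullyCentralized_of_isReceptive F U' hRec
  have hc6 : Nat.card (centralizerIn S U) ≤ Nat.card (centralizerIn S U') :=
    hFC'.2 U (isConj_symm F hc)
  have hc7 := hmax χ hχ
  have hTpos : 0 < Nat.card T := Nat.card_pos
  haveI : Finite (centralizerIn S U) := finite_of_le (inf_le_left : centralizerIn S U ≤ S)
  have hCpos : 0 < Nat.card (centralizerIn S U) := Nat.card_pos
  have hmain : Nat.card (centralizerIn S U') * Nat.card T ≤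
      Nat.card (centralizerIn S U) * Nat.card T₀ := by
    calc Nat.card (centralizerIn S U') * Nat.card T
        ≤ Nat.card (centralizerIn S U') * Nat.card (autInducedBy (kNorm S L χ) U') :=
          Nat.mul_le_mul_left _ hc3
      _ = Nat.card (kNorm S L χ) := hc1.symm
      _ ≤ Nat.card (kNorm S L U.subtype) := hc7
      _ = _ := hc2
      _ ≤ _ := Nat.mul_le_mul_left _ hc4
  have hCeq : Nat.card (centralizerIn S U) = Nat.card (centralizerIn S U') := by
    apply le_antisymm hc6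
    by_contra hlt
    rw [not_le] at hlt
    have : Nat.card (centralizerIn S U) * Nat.card T₀ <
        Nat.card (centralizerIn S U') * Nat.card T :=
      calc Nat.card (centralizerIn S U) * Nat.card T₀
          ≤ Nat.card (centralizerIn S U) * Nat.card T := Nat.mul_le_mul_left _ hc5
        _ < _ := Nat.mul_lt_mul_of_pos_right hlt hTpos
    omega
  have hTeq : Nat.card T ≤ Nat.card T₀ := by
    rw [hCeq] at hmain
    exact Nat.le_of_mul_le_mul_left hmain (hCeq ▸ hCpos)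
  have hTT₀ : T₀ = T := Subgroup.eq_of_le_of_card_ge hT₀T hTeq
  refine ⟨?_, hTT₀ ▸ hT⟩
  have hFC : F.IsFullyCentralized U := by
    refine ⟨hU, fun Q hQ => ?_⟩
    rw [hCeq]
    exact hFC'.2 Q (isConj_trans F (isConj_symm F hc) hQ)
  exact isReceptive_of_isFullyCentralized p hS F hFC hFA hRec hc

end Cfsg.Agent.Lib.Helper7
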