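import Mathlib

set_option autoImplicit false
set_option linter.style.haveILetI false
set_option linter.unusedSectionVars false

namespace Cfsg.Agent.Lib.Helper7.ItoP

open scoped commutatorElement

variable {G : Type*} [Group G]

/-- The minimal configuration: a normal `p'`-subgroup `Q` and an element `x` with `x ^ p` central,
not centralizing `Q`, but centralizing every proper `x`-invariant subgroup of `Q`. -/
structure Config (p : ℕ) (Q : Subgroup G) (x : G) : Prop where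
  normal : Q.Normal
  coprime : (Nat.card Q).Coprime p
  pow_central : x ^ p ∈ Subgroup.center G
  not_comm : ∃ y ∈ Q, x * y ≠ y * x
  min : ∀ R : Subgroup G, R ≤ Q → R ≠ Q → (∀ r ∈ R, x * r * x⁻¹ ∈ R) → ∀ r ∈ R, x * r = r * x

variable {p : ℕ} {Q : Subgroup G} {x : G}

theorem conj_pow_eq {c y : G} (hxc : x * c = c * x) (hy : x * y * x⁻¹ = c * y) (i : ℕ) :
    x ^ i * y * (x ^ i)⁻¹ = c ^ i * y := by
  induction i with
  | zero => simp
  | succ i ih =>
    have h1 : x ^ (i + 1) * y * (x ^ (i + 1))⁻¹ = x * (x ^ i * y * (x ^ i)⁻¹) * x⁻¹ := by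
      rw [pow_succ']
      group
    rw [h1, ih]
    have h2 : x * (c ^ i * y) * x⁻¹ = (x * c ^ i * x⁻¹) * (x * y * x⁻¹) := by group
    rw [h2, hy]
    have h3 : x * c ^ i * x⁻¹ = c ^ i := by
      have : Commute x (c ^ i) := (show Commute x c from hxc).pow_right i
      rw [this.eq]
      group
    rw [h3, pow_succ, mul_assoc]

/-- An element of the finite `p'`-group `Q` whose `p`-th power is trivial is trivial. -/
theorem eq_one_of_pow_eq_one [Finite G] (hcop : (Nat.card Q).Coprime p) {c : G}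
    (hc : c ∈ Q) (hcp : c ^ p = 1) : c = 1 := by
  have h1 : orderOf c ∣ p := orderOf_dvd_of_pow_eq_one hcp
  have h2 : orderOf c ∣ Nat.card Q := by
    have : orderOf (⟨c, hc⟩ : Q) = orderOf c := Subgroup.orderOf_mk c hc
    rw [← this]
    exact orderOf_dvd_natCard _
  have h3 : orderOf c ∣ 1 := by
    have := Nat.dvd_gcd h2 h1
    rwa [hcop] at this
  exact orderOf_eq_one_iff.mp (Nat.dvd_one.mp h3)

theorem conj_mem_commutator {X R : Subgroup G} (hX : ∀ a ∈ X, x * a * x⁻¹ ∈ X)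
    (hR : ∀ r ∈ R, x * r * x⁻¹ ∈ R) : ∀ r ∈ ⁅X, R⁆, x * r * x⁻¹ ∈ ⁅X, R⁆ := by
  intro r hr
  have hmap : (⁅X, R⁆).map (MulAut.conj x).toMonoidHom ≤ ⁅X, R⁆ := by
    rw [Subgroup.commutator_def, MonoidHom.map_closure, Subgroup.closure_le]
    rintro _ ⟨_, ⟨a, ha, b, hb, rfl⟩, rfl⟩
    have h1 : (MulAut.conj x).toMonoidHom ⁅a, b⁆ = ⁅x * a * x⁻¹, x * b * x⁻¹⁆ := by
      show x * ⁅a, b⁆ * x⁻¹ = ⁅x * a * x⁻¹, x * b * x⁻¹⁆
      rw [commutatorElement_def, commutatorElement_def]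
      group
    rw [h1]
    exact Subgroup.subset_closure ⟨x * a * x⁻¹, hX a ha, x * b * x⁻¹, hR b hb, rfl⟩
  exact hmap ⟨r, hr, rfl⟩

theorem zpowers_comm (a : G) (ha : a ∈ Subgroup.zpowers x) : x * a = a * x := by
  obtain ⟨k, rfl⟩ := Subgroup.mem_zpowers_iff.mp ha
  exact ((Commute.refl x).zpow_right k).eq

/-- In the minimal configuration `[x, Q] = Q`. -/
theorem Config.commutator_eq [Finite G] (h : Config p Q x) :
    ⁅Subgroup.zpowers x, Q⁆ = Q := by
  haveI := h.normal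
  by_contra hne
  have hle : ⁅Subgroup.zpowers x, Q⁆ ≤ Q := Subgroup.commutator_le_right _ _
  have hinv : ∀ r ∈ ⁅Subgroup.zpowers x, Q⁆, x * r * x⁻¹ ∈ ⁅Subgroup.zpowers x, Q⁆ :=
    conj_mem_commutator (fun a ha => by rw [zpowers_comm a ha]; simpa using ha)
      (fun r hr => h.normal.conj_mem r hr x)
  have hcent := h.min _ hle hne hinv
  obtain ⟨y, hy, hxy⟩ := h.not_comm
  apply hxy
  set c := ⁅x, y⁆ with hc
  have hcR : c ∈ ⁅Subgroup.zpowers x, Q⁆ :=
    Subgroup.commutator_mem_commutator (Subgroup.mem_zpowers x) hy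
  have hxc : x * c = c * x := hcent c hcR
  have hconj : x * y * x⁻¹ = c * y := by
    rw [hc, commutatorElement_def]
    group
  have h1 := conj_pow_eq hxc hconj p
  have h2 : x ^ p * y * (x ^ p)⁻¹ = y := by
    rw [← Subgroup.mem_center_iff.mp h.pow_central y]
    group
  rw [h2] at h1
  have h3 : c ^ p = 1 := by
    have : c ^ p * y = 1 * y := by rw [← h1, one_mul]
    exact mul_right_cancel this
  have h4 : c = 1 := eq_one_of_pow_eq_one h.coprime (hle hcR) h3
  rw [h4, one_mul] at hconj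
  have : x * y = x * y * x⁻¹ * x := by group
  rw [this, hconj]

/-- In the minimal configuration with `Q' ≠ Q`, the derived subgroup of `Q` is central in `Q`. -/
theorem Config.derived_le_centralizer [Finite G] (h : Config p Q x) (hder : ⁅Q, Q⁆ ≠ Q) :
    ⁅Q, Q⁆ ≤ Subgroup.centralizer (Q : Set G) := by
  haveI := h.normal
  have hle : ⁅Q, Q⁆ ≤ Q := Subgroup.commutator_le_right _ _
  have hinv : ∀ r ∈ ⁅Q, Q⁆, x * r * x⁻¹ ∈ ⁅Q, Q⁆ :=
    conj_mem_commutator (fun r hr => h.normal.conj_mem r hr x)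
      (fun r hr => h.normal.conj_mem r hr x)
  have hcent := h.min _ hle hder hinv
  have hDX : ⁅⁅Q, Q⁆, Subgroup.zpowers x⁆ = ⊥ := by
    rw [Subgroup.commutator_eq_bot_iff_le_centralizer]
    intro r hr
    rw [Subgroup.mem_centralizer_iff]
    intro a ha
    obtain ⟨k, rfl⟩ := Subgroup.mem_zpowers_iff.mp ha
    have : Commute (x ^ k) r := (show Commute x r from hcent r hr).zpow_left k
    exact this.eq
  have h1 : ⁅⁅Q, ⁅Q, Q⁆⁆, Subgroup.zpowers x⁆ = ⊥ := by
    rw [eq_bot_iff, ← hDX]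
    exact Subgroup.commutator_mono (Subgroup.commutator_le_right _ _) le_rfl
  have h2 : ⁅⁅⁅Q, Q⁆, Subgroup.zpowers x⁆, Q⁆ = ⊥ := by
    rw [hDX, Subgroup.commutator_bot_left]
  have h3 := Subgroup.commutator_commutator_eq_bot_of_rotate h1 h2
  rw [h.commutator_eq, Subgroup.commutator_eq_bot_iff_le_centralizer] at h3
  intro d hd
  rw [Subgroup.mem_centralizer_iff]
  intro g hg
  have := h3 hg
  rw [Subgroup.mem_centralizer_iff] at this
  exact (this d hd).symm

theorem Config.comm_derived [Finite G] (h : Config p Q x) (hder : ⁅Q, Q⁆ ≠ Q) :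
    ∀ r ∈ ⁅Q, Q⁆, x * r = r * x := by
  haveI := h.normal
  exact h.min _ (Subgroup.commutator_le_right _ _) hder
    (conj_mem_commutator (fun r hr => h.normal.conj_mem r hr x)
      (fun r hr => h.normal.conj_mem r hr x))

/-- Elements of `Q` centralized by `x` are central in `Q`. -/
theorem Config.central_of_comm [Finite G] (h : Config p Q x) (hder : ⁅Q, Q⁆ ≠ Q) {y : G}
    (hy : y ∈ Q) (hxy : x * y = y * x) : ∀ g ∈ Q, g * y = y * g := by
  haveI := h.normal
  have hD := h.comm_derived hder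
  have hle : ⁅Q, Subgroup.zpowers x⁆ ≤ Subgroup.centralizer ({y} : Set G) := by
    rw [Subgroup.commutator_le]
    intro c hc a ha
    rw [Subgroup.mem_centralizer_iff]
    intro y' hy'
    rw [Set.mem_singleton_iff] at hy'
    subst hy'
    obtain ⟨k, rfl⟩ := Subgroup.mem_zpowers_iff.mp ha
    set a := x ^ k with ha'
    have hay : a * y' = y' * a := ((show Commute x y' from hxy).zpow_left k).eq
    set b := c⁻¹ with hb
    have hbQ : b ∈ Q := Q.inv_mem hc
    have hbyD : ⁅b, y'⁆ ∈ ⁅Q, Q⁆ := Subgroup.commutator_mem_commutator hbQ hy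
    have haD : a * ⁅b, y'⁆ = ⁅b, y'⁆ * a :=
      ((show Commute x ⁅b, y'⁆ from hD _ hbyD).zpow_left k).eq
    -- `b' y b'⁻¹ = b y b⁻¹`
    have hkey : (a * b * a⁻¹) * y' * (a * b * a⁻¹)⁻¹ = b * y' * b⁻¹ := by
      have e1 : (a * b * a⁻¹) * y' * (a * b * a⁻¹)⁻¹ = a * (b * (a⁻¹ * y' * a) * b⁻¹) * a⁻¹ := by
        group
      have e2 : a⁻¹ * y' * a = y' := by rw [mul_assoc, hay.symm]; group
      have e3 : b * y' * b⁻¹ = ⁅b, y'⁆ * y' := by rw [commutatorElement_def]; group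
      rw [e1, e2, e3]
      have e4 : a * (⁅b, y'⁆ * y') * a⁻¹ = (a * ⁅b, y'⁆) * (y' * a⁻¹) := by group
      have e5 : y' * a⁻¹ = a⁻¹ * y' := by
        have : a⁻¹ * (a * y') * a⁻¹ = a⁻¹ * (y' * a) * a⁻¹ := by rw [hay]
        have l : a⁻¹ * (a * y') * a⁻¹ = y' * a⁻¹ := by group
        have r : a⁻¹ * (y' * a) * a⁻¹ = a⁻¹ * y' := by group
        rw [l, r] at this
        exact this
      rw [e4, haD, e5]
      group
    have hcomm : ⁅c, a⁆ = b⁻¹ * (a * b * a⁻¹) := by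
      rw [commutatorElement_def, hb]
      group
    rw [hcomm]
    have : b⁻¹ * (a * b * a⁻¹) * y' * (b⁻¹ * (a * b * a⁻¹))⁻¹
        = b⁻¹ * ((a * b * a⁻¹) * y' * (a * b * a⁻¹)⁻¹) * b := by group
    have h2 : b⁻¹ * (a * b * a⁻¹) * y' * (b⁻¹ * (a * b * a⁻¹))⁻¹ = y' := by
      rw [this, hkey]
      group
    have h3 : y' * (b⁻¹ * (a * b * a⁻¹))
        = (b⁻¹ * (a * b * a⁻¹) * y' * (b⁻¹ * (a * b * a⁻¹))⁻¹) * (b⁻¹ * (a * b * a⁻¹)) := by
      rw [h2]
    rw [h3]
    group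
  rw [Subgroup.commutator_comm, h.commutator_eq] at hle
  intro g hg
  have := hle hg
  rw [Subgroup.mem_centralizer_iff] at this
  exact (this y rfl).symm

/-- Elements central in the nonabelian `Q` are centralized by `x`. -/
theorem Config.comm_of_central [Finite G] (h : Config p Q x)
    (hnab : ∃ a ∈ Q, ∃ b ∈ Q, a * b ≠ b * a) {z : G} (hz : z ∈ Q)
    (hzc : ∀ g ∈ Q, g * z = z * g) : x * z = z * x := by
  have hle : Q ⊓ Subgroup.centralizer (Q : Set G) ≤ Q := inf_le_left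
  have hne : Q ⊓ Subgroup.centralizer (Q : Set G) ≠ Q := by
    intro heq
    obtain ⟨a, ha, b, hb, hab⟩ := hnab
    apply hab
    have : b ∈ Q ⊓ Subgroup.centralizer (Q : Set G) := by rw [heq]; exact hb
    have h2 := (Subgroup.mem_inf.mp this).2
    rw [Subgroup.mem_centralizer_iff] at h2
    exact h2 a ha
  have hinv : ∀ r ∈ Q ⊓ Subgroup.centralizer (Q : Set G),
      x * r * x⁻¹ ∈ Q ⊓ Subgroup.centralizer (Q : Set G) := by
    intro r hr
    obtain ⟨hrQ, hrC⟩ := Subgroup.mem_inf.mp hr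
    refine Subgroup.mem_inf.mpr ⟨h.normal.conj_mem r hrQ x, ?_⟩
    rw [Subgroup.mem_centralizer_iff] at hrC ⊢
    intro g hg
    have hg' : x⁻¹ * g * x ∈ Q := by
      have := h.normal.conj_mem g hg x⁻¹
      simpa using this
    have h3 := hrC _ hg'
    have e1 : g * (x * r * x⁻¹) = x * ((x⁻¹ * g * x) * r) * x⁻¹ := by group
    have e2 : x * r * x⁻¹ * g = x * (r * (x⁻¹ * g * x)) * x⁻¹ := by group
    rw [e1, e2, h3]
  apply h.min _ hle hne hinv z
  refine Subgroup.mem_inf.mpr ⟨hz, ?_⟩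
  rw [Subgroup.mem_centralizer_iff]
  intro g hg
  exact hzc g hg

theorem eq_one_of_pow_pow_eq_one [Finite G] (hcop : (Nat.card Q).Coprime p) (m : ℕ) {c : G}
    (hc : c ∈ Q) (hcp : c ^ (p ^ m) = 1) : c = 1 := by
  have h1 : orderOf c ∣ p ^ m := orderOf_dvd_of_pow_eq_one hcp
  have h2 : orderOf c ∣ Nat.card Q := by
    have : orderOf (⟨c, hc⟩ : Q) = orderOf c := Subgroup.orderOf_mk c hc
    rw [← this]
    exact orderOf_dvd_natCard _
  have h3 : orderOf c ∣ 1 := by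
    have := Nat.dvd_gcd h2 h1
    rwa [Nat.Coprime.pow_right m hcop] at this
  exact orderOf_eq_one_iff.mp (Nat.dvd_one.mp h3)

theorem Config.comm_of_comm_pow (hp : p.Prime) (h : Config p Q x) {j : ℕ} (hj : ¬ p ∣ j) {y : G}
    (hy : x ^ j * y = y * x ^ j) : x * y = y * x := by
  have hcop : Nat.Coprime j p := ((Nat.Prime.coprime_iff_not_dvd hp).mpr hj).symm
  have hb := Int.gcd_eq_gcd_ab (j : ℤ) (p : ℤ)
  have hg : Int.gcd (j : ℤ) (p : ℤ) = 1 := by
    rw [Int.gcd_natCast_natCast]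
    exact hcop
  rw [hg] at hb
  have hx : x = (x ^ j) ^ (Int.gcdA j p) * (x ^ p) ^ (Int.gcdB j p) := by
    rw [← zpow_natCast x j, ← zpow_natCast x p, ← zpow_mul, ← zpow_mul, ← zpow_add, ← hb]
    simp
  have h1 : Commute ((x ^ j) ^ (Int.gcdA j p)) y := (show Commute (x ^ j) y from hy).zpow_left _
  have h2 : Commute ((x ^ p) ^ (Int.gcdB j p)) y := by
    apply Commute.zpow_left
    exact (Subgroup.mem_center_iff.mp h.pow_central y).symm
  have h3 : Commute ((x ^ j) ^ (Int.gcdA j p) * (x ^ p) ^ (Int.gcdB j p)) y := h1.mul_left h2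
  rw [← hx] at h3
  exact h3.eq

/-- In the minimal configuration every element of the coset `x ^ j Q`, `p ∤ j`, is conjugate
under `Q` to an element `x ^ j z` with `z` central in `Q`. -/
theorem Config.exists_conj [Finite G] (hp : p.Prime) (h : Config p Q x)
    (hnab : ∃ a ∈ Q, ∃ b ∈ Q, a * b ≠ b * a) (hder : ⁅Q, Q⁆ ≠ Q) (m : ℕ)
    (hxm : x ^ (p ^ m) = 1) {j : ℕ} (hj : ¬ p ∣ j) {y : G} (hy : y ∈ Q) :
    ∃ g ∈ Q, ∃ z ∈ Q, (∀ q ∈ Q, q * z = z * q) ∧ x ^ j * y = g * (x ^ j * z) * g⁻¹ := by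
  haveI := h.normal
  set u := x ^ j with hu
  -- `u` commutes with the centre of `Q`
  have hucent : ∀ z ∈ Q, (∀ q ∈ Q, q * z = z * q) → u * z = z * u := by
    intro z hz hzc
    exact ((show Commute x z from h.comm_of_central hnab hz hzc).pow_left j).eq
  have hmem : ∀ g : Q, u⁻¹ * (g : G) * u * (g : G)⁻¹ ∈ Q := by
    intro g
    have h1 : u⁻¹ * (g : G) * u ∈ Q := by
      have := h.normal.conj_mem g g.2 u⁻¹
      simpa using this
    exact Q.mul_mem h1 (Q.inv_mem g.2)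
  set f : Q → Q := fun g => ⟨u⁻¹ * (g : G) * u * (g : G)⁻¹, hmem g⟩ with hf
  have hcenter : ∀ z : Q, z ∈ Subgroup.center Q ↔ ∀ q ∈ Q, q * (z : G) = (z : G) * q := by
    intro z
    rw [Subgroup.mem_center_iff]
    constructor
    · intro hz q hq
      exact congrArg Subtype.val (hz ⟨q, hq⟩)
    · intro hz q
      exact Subtype.ext (hz q q.2)
  have hfconst : ∀ g k : Q, g⁻¹ * k ∈ Subgroup.center Q → f g = f k := by
    intro g k hgk
    have hz := (hcenter _).mp hgk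
    have hzu := hucent _ (g⁻¹ * k).2 hz
    apply Subtype.ext
    show u⁻¹ * (g : G) * u * (g : G)⁻¹ = u⁻¹ * (k : G) * u * (k : G)⁻¹
    have hk : (k : G) = (g : G) * ((g : G)⁻¹ * (k : G)) := by group
    set z := (g : G)⁻¹ * (k : G) with hzdef
    have hzu' : u * z = z * u := hzu
    rw [hk]
    have e1 : u⁻¹ * ((g : G) * z) * u * ((g : G) * z)⁻¹
        = u⁻¹ * (g : G) * (z * u) * z⁻¹ * (g : G)⁻¹ := by group
    rw [e1, ← hzu']
    group
  set F : Q ⧸ Subgroup.center Q → Q ⧸ Subgroup.center Q :=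
    Quotient.map' f (by
      intro g k hgk
      rw [QuotientGroup.leftRel_apply] at hgk ⊢
      rw [hfconst g k hgk]
      simp) with hF
  have hFinj : Function.Injective F := by
    intro a b hab
    obtain ⟨g, rfl⟩ := QuotientGroup.mk_surjective a
    obtain ⟨k, rfl⟩ := QuotientGroup.mk_surjective b
    have h1 : ((f g : Q) : Q ⧸ Subgroup.center Q) = ((f k : Q) : Q ⧸ Subgroup.center Q) := hab
    rw [QuotientGroup.eq] at h1 ⊢
    -- `w = (f g)⁻¹ f k` is central
    set w : Q := (f g)⁻¹ * f k with hw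
    have hwc := (hcenter w).mp h1
    have hwu : u * (w : G) = (w : G) * u := hucent _ w.2 hwc
    set kk : G := (g : G)⁻¹ * (k : G) with hkk
    have hkkQ : kk ∈ Q := Q.mul_mem (Q.inv_mem g.2) k.2
    -- `u⁻¹ kk u = w kk`
    have hfk : (f k : G) = (f g : G) * (w : G) := by
      rw [hw]
      simp
    have hfk' : u⁻¹ * (k : G) * u * (k : G)⁻¹ = u⁻¹ * (g : G) * u * (g : G)⁻¹ * (w : G) := hfk
    have hconj : u⁻¹ * kk * (u⁻¹)⁻¹ = (w : G) * kk := by
      have e1 : u⁻¹ * kk * (u⁻¹)⁻¹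
          = (u⁻¹ * (g : G) * u)⁻¹ * (u⁻¹ * (k : G) * u * (k : G)⁻¹) * (k : G) := by
        rw [hkk]; group
      rw [e1, hfk']
      have e2 : (u⁻¹ * (g : G) * u)⁻¹ * (u⁻¹ * (g : G) * u * (g : G)⁻¹ * (w : G)) * (k : G)
          = (g : G)⁻¹ * (w : G) * (k : G) := by group
      rw [e2, hkk, ← mul_assoc, hwc _ (Q.inv_mem g.2)]
    have hwu' : u⁻¹ * (w : G) = (w : G) * u⁻¹ := by
      have : u⁻¹ * (u * (w : G)) * u⁻¹ = u⁻¹ * ((w : G) * u) * u⁻¹ := by rw [hwu]
      have l : u⁻¹ * (u * (w : G)) * u⁻¹ = (w : G) * u⁻¹ := by group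
      have r : u⁻¹ * ((w : G) * u) * u⁻¹ = u⁻¹ * (w : G) := by group
      rw [l, r] at this
      exact this.symm
    have h2 := conj_pow_eq hwu' hconj (p ^ m)
    have hupow : u⁻¹ ^ (p ^ m) = 1 := by
      rw [inv_pow, hu, ← pow_mul, mul_comm, pow_mul, hxm, one_pow, inv_one]
    rw [hupow] at h2
    have h3 : (w : G) ^ (p ^ m) = 1 := by
      have : (w : G) ^ (p ^ m) * kk = 1 * kk := by
        rw [← h2]; group
      exact mul_right_cancel this
    have h4 : (w : G) = 1 := eq_one_of_pow_pow_eq_one h.coprime m w.2 h3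
    rw [h4, one_mul] at hconj
    -- so `kk` commutes with `u`, hence with `x`, hence is central
    have h5 : u * kk = kk * u := by
      have : u * (u⁻¹ * kk * (u⁻¹)⁻¹) = u * kk := by rw [hconj]
      rw [← this]
      group
    have h6 : x * kk = kk * x := h.comm_of_comm_pow hp hj h5
    have h7 := h.central_of_comm hder hkkQ h6
    exact (hcenter (g⁻¹ * k)).mpr h7
  have hFsurj : Function.Surjective F := Finite.injective_iff_surjective.mp hFinj
  obtain ⟨a, ha⟩ := hFsurj ((⟨y, hy⟩ : Q) : Q ⧸ Subgroup.center Q)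
  obtain ⟨g, rfl⟩ := QuotientGroup.mk_surjective a
  have h1 : ((f g : Q) : Q ⧸ Subgroup.center Q) = ((⟨y, hy⟩ : Q) : Q ⧸ Subgroup.center Q) := ha
  rw [QuotientGroup.eq] at h1
  set z : Q := (f g)⁻¹ * ⟨y, hy⟩ with hz
  have hzc := (hcenter z).mp h1
  refine ⟨g, g.2, z, z.2, hzc, ?_⟩
  have hy' : y = (f g : G) * (z : G) := by
    rw [hz]
    simp
  have hfg : (f g : G) = u⁻¹ * (g : G) * u * (g : G)⁻¹ := rfl
  rw [hy', hfg]
  have e1 : u * (u⁻¹ * (g : G) * u * (g : G)⁻¹ * (z : G)) = (g : G) * u * ((g : G)⁻¹ * (z : G)) := by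
    group
  rw [e1, hzc _ (Q.inv_mem g.2)]
  group

end Cfsg.Agent.Lib.Helper7.ItoP
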