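import Mathlib
import Cfsg.Prelude.Def_Characters
import Cfsg.Agent.Lib.helper3.Inflate2

set_option autoImplicit false
set_option linter.style.haveILetI false
set_option linter.unusedSectionVars false

namespace Cfsg.Agent.Lib.Helper7.FT

open Cfsg Cfsg.Agent.Lib.helper3.Irr Cfsg.Agent.Lib.helper3.CharBasic
open Cfsg.Agent.Lib.helper3.IndFun
open scoped ComplexConjugate

variable {N : Type*} [Group N] (H : Subgroup N) [Fintype H]

/-- The average of a function over the cosets of `H`. -/
noncomputable def avg (f : N → ℂ) : N → ℂ :=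
  fun g => (Nat.card H : ℂ)⁻¹ * ∑ h : H, f (g * h)

theorem avg_apply (f : N → ℂ) (g : N) :
    avg H f g = (Nat.card H : ℂ)⁻¹ * ∑ h : H, f (g * h) := rfl

theorem avg_mul_mem (f : N → ℂ) (g : N) {h : N} (hh : h ∈ H) :
    avg H f (g * h) = avg H f g := by
  rw [avg_apply, avg_apply]
  congr 1
  apply Fintype.sum_equiv (Equiv.mulLeft (⟨h, hh⟩ : H))
  intro x
  simp [mul_assoc]

theorem avg_of_const (f : N → ℂ) (hf : ∀ g : N, ∀ h ∈ H, f (g * h) = f g) :
    avg H f = f := by
  funext g
  rw [avg_apply]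
  have : ∀ h ∈ (Finset.univ : Finset H), f (g * h) = f g := fun h _ => hf g h h.2
  rw [Finset.sum_congr rfl this, Finset.sum_const, Finset.card_univ, nsmul_eq_mul,
    Nat.card_eq_fintype_card, ← mul_assoc, inv_mul_cancel₀, one_mul]
  exact_mod_cast Fintype.card_ne_zero

theorem avg_avg (f : N → ℂ) : avg H (avg H f) = avg H f :=
  avg_of_const H _ (fun g _ hh => avg_mul_mem H f g hh)

theorem avg_add (f k : N → ℂ) : avg H (f + k) = avg H f + avg H k := by
  funext g
  simp only [avg_apply, Pi.add_apply, Finset.sum_add_distrib, mul_add]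

theorem avg_smul (c : ℂ) (f : N → ℂ) : avg H (c • f) = c • avg H f := by
  funext g
  simp only [avg_apply, Pi.smul_apply, smul_eq_mul, ← Finset.mul_sum]
  ring

theorem avg_sum {ι : Type*} (s : Finset ι) (f : ι → N → ℂ) :
    avg H (∑ i ∈ s, f i) = ∑ i ∈ s, avg H (f i) := by
  classical
  induction s using Finset.induction_on with
  | empty =>
    simp only [Finset.sum_empty]
    funext g
    simp [avg_apply]
  | insert a s ha ih =>
    rw [Finset.sum_insert ha, Finset.sum_insert ha, avg_add, ih]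

theorem avg_isClassFunction [H.Normal] (f : N → ℂ) (hf : IsClassFunction N f) :
    IsClassFunction N (avg H f) := by
  intro g x
  rw [avg_apply, avg_apply]
  congr 1
  apply Fintype.sum_equiv (MulAut.conjNormal x⁻¹ : H ≃* H).toEquiv
  intro h
  have : x * g * x⁻¹ * h = x * (g * (x⁻¹ * h * x)) * x⁻¹ := by group
  rw [this, hf]
  simp

theorem sum_avg_mul_conj [Fintype N] (f k : N → ℂ) :
    ∑ g : N, avg H f g * conj (k g) = ∑ g : N, f g * conj (avg H k g) := by
  have hL : ∑ g : N, avg H f g * conj (k g)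
      = (Nat.card H : ℂ)⁻¹ * ∑ h : H, ∑ g : N, f (g * h) * conj (k g) := by
    rw [Finset.sum_comm, Finset.mul_sum]
    apply Finset.sum_congr rfl
    intro g _
    rw [avg_apply, mul_assoc, Finset.sum_mul]
  have hR : ∑ g : N, f g * conj (avg H k g)
      = (Nat.card H : ℂ)⁻¹ * ∑ h : H, ∑ g : N, f g * conj (k (g * h)) := by
    rw [Finset.sum_comm, Finset.mul_sum]
    apply Finset.sum_congr rfl
    intro g _
    rw [avg_apply, map_mul, map_inv₀, Complex.conj_natCast, map_sum, Finset.mul_sum,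
      Finset.mul_sum, Finset.mul_sum]
    apply Finset.sum_congr rfl
    intro h _
    ring
  rw [hL, hR]
  congr 1
  apply Fintype.sum_equiv (Equiv.inv H)
  intro h
  apply Fintype.sum_equiv (Equiv.mulRight (h : N))
  intro g
  simp

theorem sum_sub_avg_mul_conj [Fintype N] (f : N → ℂ) :
    ∑ g : N, (f g - avg H f g) * conj (avg H f g) = 0 := by
  have h1 := sum_avg_mul_conj H f (avg H f)
  rw [avg_avg] at h1
  simp only [sub_mul, Finset.sum_sub_distrib]
  rw [h1, sub_self]

/-- Pythagoras for the averaging projection. -/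
theorem sum_normSq_eq_add [Fintype N] (f : N → ℂ) :
    ∑ g : N, Complex.normSq (f g)
      = ∑ g : N, Complex.normSq (avg H f g) + ∑ g : N, Complex.normSq (f g - avg H f g) := by
  have h0 := sum_sub_avg_mul_conj H f
  have h1 : ∀ g : N, Complex.normSq (f g) = Complex.normSq (avg H f g)
      + Complex.normSq (f g - avg H f g)
      + 2 * ((f g - avg H f g) * conj (avg H f g)).re := by
    intro g
    have : f g = (f g - avg H f g) + avg H f g := by ring
    conv_lhs => rw [this, Complex.normSq_add]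
    ring
  rw [Finset.sum_congr rfl (fun g _ => h1 g), Finset.sum_add_distrib, Finset.sum_add_distrib,
    ← Finset.mul_sum, ← Complex.re_sum, h0]
  simp

theorem inflate_mul_mem [H.Normal] (ξ : N ⧸ H → ℂ) (g : N) {h : N} (hh : h ∈ H) :
    inflate H ξ (g * h) = inflate H ξ g := by
  rw [inflate_apply, inflate_apply, QuotientGroup.mk_mul, (QuotientGroup.eq_one_iff h).mpr hh,
    mul_one]

/-- A class function constant on the cosets of a normal subgroup is a combination of
inflated irreducible characters. -/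
theorem eq_sum_inflate [Fintype N] [H.Normal] (f : N → ℂ) (hf : IsClassFunction N f)
    (hc : ∀ g : N, ∀ h ∈ H, f (g * h) = f g) :
    f = ∑ ξ : IrrCharacter (N ⧸ H), classInner f (inflate H (ξ : N ⧸ H → ℂ)) •
      inflate H (ξ : N ⧸ H → ℂ) := by
  letI : Fintype (N ⧸ H) := Fintype.ofFinite _
  set F : N ⧸ H → ℂ := fun x => f (Quotient.out x) with hF
  have hfF : inflate H F = f := by
    funext g
    rw [inflate_apply, hF]
    simp only
    have h1 : ((Quotient.out (g : N ⧸ H) : N) : N ⧸ H) = (g : N ⧸ H) := Quotient.out_eq _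
    have h2 : g⁻¹ * Quotient.out (g : N ⧸ H) ∈ H := QuotientGroup.eq.mp h1.symm
    have h3 := hc g _ h2
    rw [← h3]
    congr 1
    group
  have hFcf : IsClassFunction (N ⧸ H) F := by
    intro x y
    obtain ⟨a, rfl⟩ := QuotientGroup.mk_surjective x
    obtain ⟨b, rfl⟩ := QuotientGroup.mk_surjective y
    have e1 : F ((b : N ⧸ H) * (a : N ⧸ H) * (b : N ⧸ H)⁻¹) = f (b * a * b⁻¹) := by
      rw [← hfF, inflate_apply]
      simp
    have e2 : F (a : N ⧸ H) = f a := by
      rw [← hfF, inflate_apply]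
    rw [e1, e2]
    exact hf a b
  have h1 := classFunction_eq_sum F hFcf
  have h2 : f = inflate H (∑ ξ : IrrCharacter (N ⧸ H), classInner F (ξ : N ⧸ H → ℂ) •
      (ξ : N ⧸ H → ℂ)) := by
    rw [← h1, hfF]
  rw [h2]
  funext g
  simp only [inflate_apply, Finset.sum_apply, Pi.smul_apply, smul_eq_mul]
  apply Finset.sum_congr rfl
  intro ξ _
  congr 1
  rw [← h2, ← hfF, classInner_inflate]

/-- The average of an irreducible character over a normal subgroup is the character itself
or zero. -/
theorem avg_irr [Fintype N] [H.Normal] {θ : N → ℂ} (hθ : IsIrrCharacter N θ) :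
    avg H θ = θ ∨ avg H θ = 0 := by
  letI : Fintype (N ⧸ H) := Fintype.ofFinite _
  by_cases hex : ∃ ξ : IrrCharacter (N ⧸ H), θ = inflate H (ξ : N ⧸ H → ℂ)
  · obtain ⟨ξ, rfl⟩ := hex
    left
    exact avg_of_const H _ (fun g h hh => inflate_mul_mem H _ g hh)
  · right
    push Not at hex
    have hcf := avg_isClassFunction H θ
      (isClassFunction_of_isCharacter (isCharacter_of_isIrrCharacter hθ))
    have h1 := eq_sum_inflate H (avg H θ) hcf (fun g h hh => avg_mul_mem H θ g hh)
    rw [h1]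
    apply Finset.sum_eq_zero
    intro ξ _
    have h2 : classInner (avg H θ) (inflate H (ξ : N ⧸ H → ℂ))
        = classInner θ (inflate H (ξ : N ⧸ H → ℂ)) := by
      rw [classInner_apply, classInner_apply, sum_avg_mul_conj,
        avg_of_const H _ (fun g h hh => inflate_mul_mem H _ g hh)]
    rw [h2, irr_classInner_eq_zero hθ (isIrrCharacter_inflate H ξ.2) (hex ξ), zero_smul]

/-- The part of a character of `N` not constant on the cosets of the normal subgroup `H` has
norm at least one. -/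
theorem card_le_sum_normSq_sub_avg [Fintype N] [H.Normal] {ψ : N → ℂ} (hψ : IsCharacter N ψ)
    (hker : ∃ h ∈ H, ψ h ≠ ψ 1) :
    (Nat.card N : ℝ) ≤ ∑ g : N, Complex.normSq (ψ g - avg H ψ g) := by
  classical
  obtain ⟨m, hm⟩ := exists_decomposition_of_isCharacter hψ
  set c : IrrCharacter N → ℕ := fun θ => if avg H (θ : N → ℂ) = 0 then m θ else 0 with hc
  have hb : ψ - avg H ψ = ∑ θ : IrrCharacter N, (c θ : ℂ) • (θ : N → ℂ) := by
    conv_lhs => rw [hm, avg_sum, ← Finset.sum_sub_distrib]
    apply Finset.sum_congr rfl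
    intro θ _
    rw [avg_smul, hc]
    simp only
    rcases avg_irr H θ.2 with h | h
    · have h0 : avg H (θ : N → ℂ) ≠ 0 := by
        rw [h]
        exact irr_ne_zero θ.2
      rw [if_neg h0, h]
      simp
    · rw [if_pos h, h]
      simp
  have hne : ψ - avg H ψ ≠ 0 := by
    intro h0
    obtain ⟨h, hh, hne⟩ := hker
    apply hne
    have h1 : ψ = avg H ψ := sub_eq_zero.mp h0
    have h2 := avg_mul_mem H ψ 1 hh
    rw [← h1, one_mul] at h2
    exact h2
  have hex : ∃ θ, c θ ≠ 0 := by
    by_contra hcon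
    push Not at hcon
    apply hne
    rw [hb]
    apply Finset.sum_eq_zero
    intro θ _
    rw [hcon θ]
    simp
  have hsum : 1 ≤ ∑ θ : IrrCharacter N, c θ ^ 2 := by
    obtain ⟨θ, hθ⟩ := hex
    calc 1 ≤ c θ ^ 2 := Nat.one_le_pow _ _ (Nat.pos_of_ne_zero hθ)
      _ ≤ ∑ θ : IrrCharacter N, c θ ^ 2 :=
        Finset.single_le_sum (f := fun θ => c θ ^ 2) (fun _ _ => Nat.zero_le _)
          (Finset.mem_univ θ)
  have hinner := classInner_self_decomposition c
  rw [← hb, classInner_apply] at hinner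
  have hN0 : (Nat.card N : ℂ) ≠ 0 := card_ne_zero_complex N
  have h3 : ∑ g : N, (ψ - avg H ψ) g * conj ((ψ - avg H ψ) g)
      = (Nat.card N : ℂ) * ((∑ θ : IrrCharacter N, c θ ^ 2 : ℕ) : ℂ) := by
    rw [← hinner, ← mul_assoc, mul_inv_cancel₀ hN0, one_mul]
  have h4 : ∑ g : N, (ψ - avg H ψ) g * conj ((ψ - avg H ψ) g)
      = ((∑ g : N, Complex.normSq (ψ g - avg H ψ g) : ℝ) : ℂ) := by
    push_cast
    apply Finset.sum_congr rfl
    intro g _
    rw [Complex.mul_conj]
    rfl
  rw [h4] at h3
  have h5 : (∑ g : N, Complex.normSq (ψ g - avg H ψ g) : ℝ)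
      = (Nat.card N : ℝ) * ((∑ θ : IrrCharacter N, c θ ^ 2 : ℕ) : ℝ) := by
    exact_mod_cast h3
  rw [h5]
  have h6 : (1 : ℝ) ≤ ((∑ θ : IrrCharacter N, c θ ^ 2 : ℕ) : ℝ) := by exact_mod_cast hsum
  have h7 : (0 : ℝ) ≤ (Nat.card N : ℝ) := Nat.cast_nonneg _
  nlinarith

end Cfsg.Agent.Lib.Helper7.FT
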