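import Mathlib

set_option autoImplicit false
set_option linter.style.haveILetI false
set_option linter.unusedSectionVars false

namespace Cfsg.Agent.Lib.Helper7.FT

variable {G : Type*} [Group G] (H : Subgroup G)

/-- The hypothesis of the Feit-Thompson lemma: every noncentral element centralizes a
nontrivial element of at most one conjugate of `H`. -/
def OneConj : Prop :=
  ∀ g : G, g ∉ Subgroup.center G → ∀ a b : G,
    Subgroup.centralizer ({g} : Set G) ⊓ H.map (MulAut.conj a).toMonoidHom ≠ ⊥ →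
    Subgroup.centralizer ({g} : Set G) ⊓ H.map (MulAut.conj b).toMonoidHom ≠ ⊥ →
    H.map (MulAut.conj a).toMonoidHom = H.map (MulAut.conj b).toMonoidHom

theorem inf_ne_bot_of {g a u : G} (hu : u ∈ H) (hu1 : u ≠ 1)
    (hc : (a * u * a⁻¹) * g = g * (a * u * a⁻¹)) :
    Subgroup.centralizer ({g} : Set G) ⊓ H.map (MulAut.conj a).toMonoidHom ≠ ⊥ := by
  intro h
  have hmem : a * u * a⁻¹ ∈ Subgroup.centralizer ({g} : Set G) ⊓
      H.map (MulAut.conj a).toMonoidHom := by
    refine Subgroup.mem_inf.mpr ⟨?_, ?_⟩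
    · rw [Subgroup.mem_centralizer_iff]
      intro x hx
      rw [Set.mem_singleton_iff] at hx
      rw [hx]
      exact hc.symm
    · exact ⟨u, hu, rfl⟩
  rw [h, Subgroup.mem_bot] at hmem
  apply hu1
  have : a * u * a⁻¹ = a * 1 * a⁻¹ := by rw [hmem]; group
  exact mul_left_cancel (mul_right_cancel this)

theorem exists_of_inf_ne_bot {g a : G}
    (h : Subgroup.centralizer ({g} : Set G) ⊓ H.map (MulAut.conj a).toMonoidHom ≠ ⊥) :
    ∃ u ∈ H, u ≠ 1 ∧ (a * u * a⁻¹) * g = g * (a * u * a⁻¹) := by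
  obtain ⟨⟨x, hx⟩, hx1⟩ := (Subgroup.ne_bot_iff_exists_ne_one).mp h
  obtain ⟨hxc, u, hu, hux⟩ := Subgroup.mem_inf.mp hx
  have hux' : a * u * a⁻¹ = x := hux
  refine ⟨u, hu, ?_, ?_⟩
  · rintro rfl
    apply hx1
    apply Subtype.ext
    show x = 1
    rw [← hux']
    simp
  · rw [hux']
    rw [Subgroup.mem_centralizer_iff] at hxc
    exact (hxc g rfl).symm

variable {H}

/-- A noncentral element commuting with a nontrivial element of `H` normalizes `H`. -/
theorem mem_normalizer_of_commute (hZ : H ⊓ Subgroup.center G = ⊥) (hone : OneConj H)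
    {g u : G} (hu : u ∈ H) (hu1 : u ≠ 1) (hc : u * g = g * u) :
    g ∈ Subgroup.normalizer (H : Set G) := by
  have huZ : u ∉ Subgroup.center G := by
    intro h
    have : u ∈ H ⊓ Subgroup.center G := Subgroup.mem_inf.mpr ⟨hu, h⟩
    rw [hZ, Subgroup.mem_bot] at this
    exact hu1 this
  have h1 : Subgroup.centralizer ({u} : Set G) ⊓ H.map (MulAut.conj (1 : G)).toMonoidHom ≠ ⊥ := by
    apply inf_ne_bot_of H hu hu1
    simp
  have h2 : Subgroup.centralizer ({u} : Set G) ⊓ H.map (MulAut.conj g).toMonoidHom ≠ ⊥ := by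
    apply inf_ne_bot_of H hu hu1
    have : g * u * g⁻¹ = u := by rw [← hc]; group
    rw [this]
  have h3 := hone u huZ 1 g h1 h2
  rw [Subgroup.mem_normalizer_iff_map_conj_eq]
  have h4 : H.map (MulAut.conj (1 : G)).toMonoidHom = H := by
    ext x
    simp
  rw [h4] at h3
  exact h3.symm

/-- Two conjugates of `H` meeting the centralizer of a noncentral element coincide, so the
conjugating elements differ by an element of the normalizer. -/
theorem inv_mul_mem_normalizer (hone : OneConj H) {g : G} (hg : g ∉ Subgroup.center G) {x y : G}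
    (hx : Subgroup.centralizer ({g} : Set G) ⊓ H.map (MulAut.conj x).toMonoidHom ≠ ⊥)
    (hy : Subgroup.centralizer ({g} : Set G) ⊓ H.map (MulAut.conj y).toMonoidHom ≠ ⊥) :
    x⁻¹ * y ∈ Subgroup.normalizer (H : Set G) := by
  have h3 := hone g hg x y hx hy
  rw [Subgroup.mem_normalizer_iff_map_conj_eq]
  ext z
  constructor
  · rintro ⟨w, hw, rfl⟩
    have : x * (x⁻¹ * y * w * (x⁻¹ * y)⁻¹) * x⁻¹ ∈ H.map (MulAut.conj x).toMonoidHom := by
      rw [h3]
      refine ⟨w, hw, ?_⟩
      simp only [MulEquiv.toMonoidHom_eq_coe, MonoidHom.coe_coe, MulAut.conj_apply]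
      group
    obtain ⟨w', hw', hww⟩ := this
    have hww' : x * w' * x⁻¹ = x * (x⁻¹ * y * w * (x⁻¹ * y)⁻¹) * x⁻¹ := hww
    have := mul_left_cancel (mul_right_cancel hww')
    simp only [MonoidHom.coe_coe, MulAut.conj_apply]
    rw [← this]
    exact hw'
  · intro hz
    have : x * z * x⁻¹ ∈ H.map (MulAut.conj y).toMonoidHom := by
      rw [← h3]
      exact ⟨z, hz, rfl⟩
    obtain ⟨w', hw', hww⟩ := this
    have hww' : y * w' * y⁻¹ = x * z * x⁻¹ := hww
    refine ⟨w', hw', ?_⟩
    simp only [MonoidHom.coe_coe, MulAut.conj_apply]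
    have : z = x⁻¹ * (x * z * x⁻¹) * x := by group
    rw [this, ← hww']
    group

/-- If `g` normalizes the finite subgroup `H` and centralizes no nontrivial element of it, every
element of the coset `g H` is conjugate to `g` under `H`. -/
theorem exists_conj_eq_mul [Finite H] {g : G} (hg : g ∈ Subgroup.normalizer (H : Set G))
    (hfree : ∀ u ∈ H, u * g = g * u → u = 1) {h : G} (hh : h ∈ H) :
    ∃ u ∈ H, u * g * u⁻¹ = g * h := by
  have hmem : ∀ u : H, g⁻¹ * (u : G) * g * (u : G)⁻¹ ∈ H := by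
    intro u
    have h1 : g⁻¹ ∈ Subgroup.normalizer (H : Set G) := inv_mem hg
    have h2 : g⁻¹ * (u : G) * g⁻¹⁻¹ ∈ H := (Subgroup.mem_normalizer_iff.mp h1 u).mp u.2
    rw [inv_inv] at h2
    exact H.mul_mem h2 (H.inv_mem u.2)
  set φ : H → H := fun u => ⟨g⁻¹ * (u : G) * g * (u : G)⁻¹, hmem u⟩ with hφ
  have hinj : Function.Injective φ := by
    intro u v huv
    have h1 : g⁻¹ * (u : G) * g * (u : G)⁻¹ = g⁻¹ * (v : G) * g * (v : G)⁻¹ :=
      congrArg Subtype.val huv
    have h2 : ((v : G)⁻¹ * u) * g = g * ((v : G)⁻¹ * u) := by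
      have h3 : (u : G) * g * (u : G)⁻¹ = (v : G) * g * (v : G)⁻¹ := by
        have := congrArg (fun z => g * z) h1
        have e1 : g * (g⁻¹ * (u : G) * g * (u : G)⁻¹) = (u : G) * g * (u : G)⁻¹ := by group
        have e2 : g * (g⁻¹ * (v : G) * g * (v : G)⁻¹) = (v : G) * g * (v : G)⁻¹ := by group
        rw [e1, e2] at this
        exact this
      have e3 : (v : G)⁻¹ * u * g = (v : G)⁻¹ * ((u : G) * g * (u : G)⁻¹) * u := by group
      rw [e3, h3]
      group
    have h4 := hfree _ (H.mul_mem (H.inv_mem v.2) u.2) h2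
    apply Subtype.ext
    have : (u : G) = v * ((v : G)⁻¹ * u) := by group
    rw [this, h4, mul_one]
  have hsurj : Function.Surjective φ := Finite.injective_iff_surjective.mp hinj
  obtain ⟨u, hu⟩ := hsurj ⟨h, hh⟩
  refine ⟨u, u.2, ?_⟩
  have h1 : g⁻¹ * (u : G) * g * (u : G)⁻¹ = h := congrArg Subtype.val hu
  rw [← h1]
  group

end Cfsg.Agent.Lib.Helper7.FT
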