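import Mathlib
import Cfsg.Prelude.Def_Characters
import Cfsg.Agent.Lib.helper3.CentralChar
import Cfsg.Agent.Lib.Helper7.FTLem1
import Cfsg.Agent.Lib.Helper7.FTLem2

set_option autoImplicit false
set_option linter.style.haveILetI false
set_option linter.unusedSectionVars false

namespace Cfsg.Agent.Lib.Helper7.FT

open Cfsg Cfsg.Agent.Lib.helper3.Irr Cfsg.Agent.Lib.helper3.CharBasic
open Cfsg.Agent.Lib.helper3.IndFun Cfsg.Agent.Lib.helper3.Central
open scoped ComplexConjugate
open Classical

variable {G : Type*} [Group G] [Fintype G]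

/-- A central element acts on an irreducible character by a scalar of absolute value one. -/
theorem exists_central_scalar {χ : G → ℂ} (hχ : IsIrrCharacter G χ) {z : G}
    (hz : z ∈ Subgroup.center G) :
    ∃ c : ℂ, Complex.normSq c = 1 ∧ ∀ g : G, χ (g * z) = c * χ g := by
  obtain ⟨d, ρ, hirr, rfl⟩ := hχ
  haveI := hirr
  obtain ⟨c, hc⟩ := exists_scalar_of_central ρ z hz
  have hV := finrank_ne_zero_of_irreducible ρ
  have hmul : ∀ g : G, ρ.character (g * z) = c * ρ.character g := by
    intro g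
    simp only [Representation.character, map_mul, hc]
    rw [mul_smul_comm, map_smul, smul_eq_mul]
    rfl
  refine ⟨c, ?_, hmul⟩
  have h1 := (norm_character_eq_finrank_iff ρ z).mpr ⟨c, hc⟩
  have h2 := hmul 1
  rw [one_mul, Representation.char_one] at h2
  rw [h2, norm_mul] at h1
  have h3 : ‖(Module.finrank ℂ (Fin d → ℂ) : ℂ)‖ = (Module.finrank ℂ (Fin d → ℂ) : ℝ) := by
    simp
  rw [h3] at h1
  have h4 : (Module.finrank ℂ (Fin d → ℂ) : ℝ) ≠ 0 := by
    intro h
    apply hV
    exact_mod_cast h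
  have h5 : ‖c‖ = 1 := by
    field_simp at h1
    exact h1
  rw [Complex.normSq_eq_norm_sq, h5]
  norm_num

theorem sum_normSq_irr {χ : G → ℂ} (hχ : IsIrrCharacter G χ) :
    ∑ g : G, Complex.normSq (χ g) = (Nat.card G : ℝ) := by
  have h1 := irr_classInner_self hχ
  rw [classInner_apply] at h1
  have hG0 : (Nat.card G : ℂ) ≠ 0 := card_ne_zero_complex G
  have h2 : ∑ g : G, χ g * conj (χ g) = (Nat.card G : ℂ) := by
    field_simp at h1
    exact h1
  have h3 : ∑ g : G, χ g * conj (χ g) = ((∑ g : G, Complex.normSq (χ g) : ℝ) : ℂ) := by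
    push_cast
    apply Finset.sum_congr rfl
    intro g _
    rw [Complex.mul_conj]
  rw [h3] at h2
  exact_mod_cast h2

variable (H : Subgroup G)

/-- Noncentral elements commuting with a nontrivial element of `H`. -/
noncomputable def MH : Finset G :=
  Finset.univ.filter (fun g => g ∉ Subgroup.center G ∧ ∃ u ∈ H, u ≠ 1 ∧ u * g = g * u)

theorem mem_MH {g : G} : g ∈ MH H ↔ g ∉ Subgroup.center G ∧ ∃ u ∈ H, u ≠ 1 ∧ u * g = g * u := by
  simp [MH]

theorem normSq_central {χ : G → ℂ} (hχ : IsIrrCharacter G χ) {z : G}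
    (hz : z ∈ Subgroup.center G) : Complex.normSq (χ z) = Complex.normSq (χ 1) := by
  obtain ⟨c, hc, hmul⟩ := exists_central_scalar hχ hz
  have := hmul 1
  rw [one_mul] at this
  rw [this, Complex.normSq_mul, hc, one_mul]

/-- The counting step. -/
theorem card_mul_sum_MH_le (hone : OneConj H) {χ : G → ℂ} (hχ : IsIrrCharacter G χ) :
    (Nat.card G : ℝ) * ∑ g ∈ MH H, Complex.normSq (χ g)
      ≤ (Nat.card (Subgroup.normalizer (H : Set G)) : ℝ) *
        ((Nat.card G : ℝ) - (Nat.card (Subgroup.center G) : ℝ) * Complex.normSq (χ 1)) := by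
  set P : G → G → Prop := fun x g => g ∉ Subgroup.center G ∧
    ∃ u ∈ H, u ≠ 1 ∧ (x * u * x⁻¹) * g = g * (x * u * x⁻¹) with hP
  have hcf := isClassFunction_of_isCharacter (isCharacter_of_isIrrCharacter hχ)
  -- (α)
  have hα : ∀ x : G, ∑ g : G, (if P x g then Complex.normSq (χ g) else 0)
      = ∑ g ∈ MH H, Complex.normSq (χ g) := by
    intro x
    rw [MH, Finset.sum_filter]
    symm
    apply Fintype.sum_equiv (MulAut.conj x).toEquiv
    intro g
    have h1 : (MulAut.conj x).toEquiv g = x * g * x⁻¹ := rfl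
    rw [h1, hcf g x]
    have h2 : P x (x * g * x⁻¹) ↔ (g ∉ Subgroup.center G ∧ ∃ u ∈ H, u ≠ 1 ∧ u * g = g * u) := by
      rw [hP]
      simp only
      constructor
      · rintro ⟨h3, u, hu, hu1, hc⟩
        refine ⟨?_, u, hu, hu1, ?_⟩
        · intro hg
          apply h3
          have : x * g * x⁻¹ = g := by
            rw [(Subgroup.mem_center_iff.mp hg x)]
            group
          rw [this]
          exact hg
        · have e1 : x * u * x⁻¹ * (x * g * x⁻¹) = x * (u * g) * x⁻¹ := by group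
          have e2 : x * g * x⁻¹ * (x * u * x⁻¹) = x * (g * u) * x⁻¹ := by group
          rw [e1, e2] at hc
          exact mul_left_cancel (mul_right_cancel hc)
      · rintro ⟨h3, u, hu, hu1, hc⟩
        refine ⟨?_, u, hu, hu1, ?_⟩
        · intro hg
          apply h3
          have h4 := (inferInstance : (Subgroup.center G).Normal).conj_mem _ hg x⁻¹
          have e0 : x⁻¹ * (x * g * x⁻¹) * x⁻¹⁻¹ = g := by group
          rw [e0] at h4
          exact h4
        · have e1 : x * u * x⁻¹ * (x * g * x⁻¹) = x * (u * g) * x⁻¹ := by group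
          have e2 : x * g * x⁻¹ * (x * u * x⁻¹) = x * (g * u) * x⁻¹ := by group
          rw [e1, e2, hc]
    by_cases hg : (g ∉ Subgroup.center G ∧ ∃ u ∈ H, u ≠ 1 ∧ u * g = g * u)
    · rw [if_pos hg, if_pos (h2.mpr hg)]
    · rw [if_neg hg, if_neg (fun h => hg (h2.mp h))]
  -- (β)
  have hβ : ∀ g : G, ∑ x : G, (if P x g then Complex.normSq (χ g) else 0)
      ≤ (if g ∈ Subgroup.center G then 0 else
        Complex.normSq (χ g) * (Nat.card (Subgroup.normalizer (H : Set G)) : ℝ)) := by
    intro g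
    by_cases hg : g ∈ Subgroup.center G
    · rw [if_pos hg]
      apply le_of_eq
      apply Finset.sum_eq_zero
      intro x _
      rw [if_neg]
      intro h
      exact h.1 hg
    · rw [if_neg hg, ← Finset.sum_filter, Finset.sum_const, nsmul_eq_mul, mul_comm]
      apply mul_le_mul_of_nonneg_left _ (Complex.normSq_nonneg _)
      norm_cast
      by_cases hempty : (Finset.univ.filter (fun x => P x g)) = ∅
      · rw [hempty]
        simp
      · obtain ⟨x₀, hx₀⟩ := Finset.nonempty_iff_ne_empty.mpr hempty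
        rw [Nat.card_eq_fintype_card, ← Finset.card_univ]
        have hx₀' : P x₀ g := (Finset.mem_filter.mp hx₀).2
        obtain ⟨_, u₀, hu₀, hu₀1, hc₀⟩ := hx₀'
        have hmem : ∀ x ∈ Finset.univ.filter (fun x => P x g),
            x₀⁻¹ * x ∈ Subgroup.normalizer (H : Set G) := by
          intro x hx
          obtain ⟨_, u, hu, hu1, hc⟩ := (Finset.mem_filter.mp hx).2
          exact inv_mul_mem_normalizer hone hg (inf_ne_bot_of H hu₀ hu₀1 hc₀)
            (inf_ne_bot_of H hu hu1 hc)
        apply Finset.card_le_card_of_injOn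
          (fun x => if hx : x₀⁻¹ * x ∈ Subgroup.normalizer (H : Set G) then
            (⟨x₀⁻¹ * x, hx⟩ : Subgroup.normalizer (H : Set G)) else 1)
        · intro x _
          exact Finset.mem_coe.mpr (Finset.mem_univ _)
        · intro x hx y hy hxy
          simp only at hxy
          rw [dif_pos (hmem x hx), dif_pos (hmem y hy)] at hxy
          have := congrArg Subtype.val hxy
          exact mul_left_cancel this
  have hD : ∑ x : G, ∑ g : G, (if P x g then Complex.normSq (χ g) else 0)
      = (Nat.card G : ℝ) * ∑ g ∈ MH H, Complex.normSq (χ g) := by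
    rw [Finset.sum_congr rfl (fun x _ => hα x), Finset.sum_const, Finset.card_univ, nsmul_eq_mul,
      Nat.card_eq_fintype_card]
  rw [← hD, Finset.sum_comm]
  calc ∑ g : G, ∑ x : G, (if P x g then Complex.normSq (χ g) else 0)
      ≤ ∑ g : G, (if g ∈ Subgroup.center G then 0 else
        Complex.normSq (χ g) * (Nat.card (Subgroup.normalizer (H : Set G)) : ℝ)) :=
        Finset.sum_le_sum (fun g _ => hβ g)
    _ = (Nat.card (Subgroup.normalizer (H : Set G)) : ℝ) *
        ((Nat.card G : ℝ) - (Nat.card (Subgroup.center G) : ℝ) * Complex.normSq (χ 1)) := by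
      have h1 : ∀ g : G, (if g ∈ Subgroup.center G then (0 : ℝ) else
          Complex.normSq (χ g) * (Nat.card (Subgroup.normalizer (H : Set G)) : ℝ))
          = Complex.normSq (χ g) * (Nat.card (Subgroup.normalizer (H : Set G)) : ℝ)
            - (if g ∈ Subgroup.center G then
              Complex.normSq (χ 1) * (Nat.card (Subgroup.normalizer (H : Set G)) : ℝ) else 0) := by
        intro g
        by_cases hg : g ∈ Subgroup.center G
        · rw [if_pos hg, if_pos hg, normSq_central hχ hg, sub_self]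
        · rw [if_neg hg, if_neg hg, sub_zero]
      rw [Finset.sum_congr rfl (fun g _ => h1 g), Finset.sum_sub_distrib, ← Finset.sum_mul,
        sum_normSq_irr hχ, ← Finset.sum_filter, Finset.sum_const, nsmul_eq_mul]
      have h2 : (Finset.univ.filter (fun g : G => g ∈ Subgroup.center G)).card
          = Nat.card (Subgroup.center G) := by
        rw [Nat.card_eq_fintype_card, Fintype.card_subtype]
      rw [h2]
      ring

theorem avg_subgroupOf [Fintype H] (K : Subgroup G) (hHK : H ≤ K) [Fintype (H.subgroupOf K)]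
    (χ : G → ℂ) (n : K) :
    avg (H.subgroupOf K) (fun k : K => χ k) n = avg H χ n := by
  rw [avg_apply, avg_apply]
  have h1 : Nat.card (H.subgroupOf K) = Nat.card H :=
    Nat.card_congr (Subgroup.subgroupOfEquivOfLe hHK).toEquiv
  rw [h1]
  congr 1
  apply Fintype.sum_equiv (Subgroup.subgroupOfEquivOfLe hHK).toEquiv
  intro h
  rfl

theorem avg_eq_of_free [Fintype H] {χ : G → ℂ} (hcf : IsClassFunction G χ) {g : G}
    (hg : g ∈ Subgroup.normalizer (H : Set G))
    (hfree : ∀ u ∈ H, u * g = g * u → u = 1) : avg H χ g = χ g := by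
  rw [avg_apply]
  have h1 : ∀ h ∈ (Finset.univ : Finset H), χ (g * h) = χ g := by
    intro h _
    obtain ⟨u, _, hu⟩ := exists_conj_eq_mul hg hfree h.2
    rw [← hu, hcf g u]
  rw [Finset.sum_congr rfl h1, Finset.sum_const, Finset.card_univ, nsmul_eq_mul,
    Nat.card_eq_fintype_card, ← mul_assoc, inv_mul_cancel₀, one_mul]
  exact_mod_cast Fintype.card_ne_zero

theorem normSq_avg_mul_central [Fintype H] {χ : G → ℂ} (hχ : IsIrrCharacter G χ) {u z : G}
    (hu : u ∈ H) (hz : z ∈ Subgroup.center G) :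
    Complex.normSq (avg H χ (u * z)) = Complex.normSq (avg H χ 1) := by
  obtain ⟨c, hc, hmul⟩ := exists_central_scalar hχ hz
  have h1 : avg H χ (u * z) = c * avg H χ 1 := by
    rw [avg_apply, avg_apply]
    have h2 : ∀ h ∈ (Finset.univ : Finset H), χ (u * z * h) = c * χ (u * h) := by
      intro h _
      have : u * z * h = u * h * z := by
        rw [mul_assoc, (Subgroup.mem_center_iff.mp hz (h : G)).symm, ← mul_assoc]
      rw [this, hmul]
    rw [Finset.sum_congr rfl h2, ← Finset.mul_sum]
    have h3 : ∑ h : H, χ (u * h) = ∑ h : H, χ (1 * h) := by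
      apply Fintype.sum_equiv (Equiv.mulLeft (⟨u, hu⟩ : H))
      intro h
      simp
    rw [h3]
    ring
  rw [h1, Complex.normSq_mul, hc, one_mul]

/-- The Feit-Thompson lemma, part (a), in averaged form. -/
theorem card_mul_normSq_avg_lt [Fintype H] (hab : ∀ a ∈ H, ∀ b ∈ H, a * b = b * a)
    (hZ : H ⊓ Subgroup.center G = ⊥) (hone : OneConj H) {χ : G → ℂ} (hχ : IsIrrCharacter G χ)
    (hker : ∃ h ∈ H, χ h ≠ χ 1) :
    (Nat.card H : ℝ) * Complex.normSq (avg H χ 1) < Complex.normSq (χ 1) := by
  obtain ⟨u₀, hu₀, hu₀χ⟩ := hker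
  have hu₀1 : u₀ ≠ 1 := by
    rintro rfl
    exact hu₀χ rfl
  have hchar := isCharacter_of_isIrrCharacter hχ
  have hcf := isClassFunction_of_isCharacter hchar
  set N : Subgroup G := Subgroup.normalizer (H : Set G) with hN
  have hHN : H ≤ N := Subgroup.le_normalizer
  have hZN : Subgroup.center G ≤ N := Subgroup.center_le_normalizer _
  haveI : (H.subgroupOf N).Normal := Subgroup.normal_in_normalizer
  have hψchar : IsCharacter N (fun n : N => χ n) := isCharacter_restrict hchar N
  -- the facts on `N`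
  have hR1 := sum_normSq_eq_add (H.subgroupOf N) (fun n : N => χ n)
  have hR2 := card_le_sum_normSq_sub_avg (H.subgroupOf N) hψchar
    ⟨⟨u₀, hHN hu₀⟩, Subgroup.mem_subgroupOf.mpr hu₀, hu₀χ⟩
  simp only [avg_subgroupOf H N hHN χ] at hR1 hR2
  -- convert to sums over `G`
  set Nf : Finset G := Finset.univ.filter (fun g => g ∈ N) with hNf
  have hconv : ∀ F : G → ℝ, ∑ n : N, F n = ∑ g ∈ Nf, F g := by
    intro F
    rw [hNf]
    exact (Finset.sum_subtype (Finset.univ.filter (fun g => g ∈ N)) (by simp) F).symm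
  rw [hconv (fun g => Complex.normSq (χ g)), hconv (fun g => Complex.normSq (avg H χ g)),
    hconv (fun g => Complex.normSq (χ g - avg H χ g))] at hR1
  rw [hconv (fun g => Complex.normSq (χ g - avg H χ g))] at hR2
  -- the set `T`
  set T : G → Prop := fun g => ∃ u ∈ H, u ≠ 1 ∧ u * g = g * u with hT
  set Zf : Finset G := Finset.univ.filter (fun g => g ∈ Subgroup.center G) with hZf
  have hTf : Nf.filter T = MH H ∪ Zf := by
    ext g
    simp only [hNf, hZf, Finset.mem_filter, Finset.mem_univ, true_and, Finset.mem_union, mem_MH]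
    constructor
    · rintro ⟨_, hTg⟩
      by_cases hg : g ∈ Subgroup.center G
      · right; exact hg
      · left; exact ⟨hg, hTg⟩
    · rintro (⟨hg, u, hu, hu1, hc⟩ | hg)
      · exact ⟨mem_normalizer_of_commute hZ hone hu hu1 hc, u, hu, hu1, hc⟩
      · exact ⟨hZN hg, u₀, hu₀, hu₀1, Subgroup.mem_center_iff.mp hg u₀⟩
  have hdisj : Disjoint (MH H) Zf := by
    rw [Finset.disjoint_left]
    intro g hg hg'
    rw [mem_MH] at hg
    simp only [hZf, Finset.mem_filter, Finset.mem_univ, true_and] at hg'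
    exact hg.1 hg'
  -- on the complement of `T` in `N`, `avg = χ`
  have hfree : ∀ g ∈ Nf.filter (fun g => ¬ T g), avg H χ g = χ g := by
    intro g hg
    simp only [hNf, Finset.mem_filter, Finset.mem_univ, true_and] at hg
    apply avg_eq_of_free H hcf hg.1
    intro u hu hc
    by_contra hu1
    exact hg.2 ⟨u, hu, hu1, hc⟩
  have hsplit : ∀ F : G → ℝ, ∑ g ∈ Nf, F g
      = ∑ g ∈ Nf.filter T, F g + ∑ g ∈ Nf.filter (fun g => ¬ T g), F g :=
    fun F => (Finset.sum_filter_add_sum_filter_not Nf T F).symm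
  have h3 : ∑ g ∈ Nf.filter T, Complex.normSq (χ g)
      = ∑ g ∈ Nf.filter T, Complex.normSq (avg H χ g)
        + ∑ g ∈ Nf, Complex.normSq (χ g - avg H χ g) := by
    have e1 : ∑ g ∈ Nf.filter (fun g => ¬ T g), Complex.normSq (χ g)
        = ∑ g ∈ Nf.filter (fun g => ¬ T g), Complex.normSq (avg H χ g) :=
      Finset.sum_congr rfl (fun g hg => by rw [hfree g hg])
    rw [hsplit (fun g => Complex.normSq (χ g)), hsplit (fun g => Complex.normSq (avg H χ g)), e1]
      at hR1
    linarith
  -- (4)
  have h4 : ∑ g ∈ Nf.filter T, Complex.normSq (χ g)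
      = ∑ g ∈ MH H, Complex.normSq (χ g)
        + (Nat.card (Subgroup.center G) : ℝ) * Complex.normSq (χ 1) := by
    rw [hTf, Finset.sum_union hdisj]
    congr 1
    have : ∀ g ∈ Zf, Complex.normSq (χ g) = Complex.normSq (χ 1) := by
      intro g hg
      simp only [hZf, Finset.mem_filter, Finset.mem_univ, true_and] at hg
      exact normSq_central hχ hg
    rw [Finset.sum_congr rfl this, Finset.sum_const, nsmul_eq_mul]
    congr 2
    rw [Nat.card_eq_fintype_card, Fintype.card_subtype]
  -- (5)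
  set Hf : Finset G := Finset.univ.filter (fun g => g ∈ H) with hHf
  have h5 : (Nat.card H : ℝ) * (Nat.card (Subgroup.center G) : ℝ) * Complex.normSq (avg H χ 1)
      ≤ ∑ g ∈ Nf.filter T, Complex.normSq (avg H χ g) := by
    have hsub : (Hf ×ˢ Zf).image (fun p : G × G => p.1 * p.2) ⊆ Nf.filter T := by
      intro g hg
      obtain ⟨⟨u, z⟩, hp, rfl⟩ := Finset.mem_image.mp hg
      simp only [hHf, hZf, Finset.mem_product, Finset.mem_filter, Finset.mem_univ, true_and] at hp
      simp only [hNf, Finset.mem_filter, Finset.mem_univ, true_and]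
      refine ⟨N.mul_mem (hHN hp.1) (hZN hp.2), u₀, hu₀, hu₀1, ?_⟩
      rw [← mul_assoc, hab u₀ hu₀ u hp.1, mul_assoc, Subgroup.mem_center_iff.mp hp.2 u₀,
        mul_assoc]
    have hinj : Set.InjOn (fun p : G × G => p.1 * p.2) (Hf ×ˢ Zf : Finset (G × G)) := by
      rintro ⟨u, z⟩ hp ⟨u', z'⟩ hp' heq
      simp only [hHf, hZf, Finset.coe_product, Set.mem_prod, Finset.mem_coe, Finset.mem_filter,
        Finset.mem_univ, true_and] at hp hp'
      simp only at heq
      have h6 : u'⁻¹ * u = z' * z⁻¹ := by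
        have : u'⁻¹ * (u * z) * z⁻¹ = u'⁻¹ * (u' * z') * z⁻¹ := by rw [heq]
        have e1 : u'⁻¹ * (u * z) * z⁻¹ = u'⁻¹ * u := by group
        have e2 : u'⁻¹ * (u' * z') * z⁻¹ = z' * z⁻¹ := by group
        rw [e1, e2] at this
        exact this
      have h7 : u'⁻¹ * u ∈ H ⊓ Subgroup.center G := by
        refine Subgroup.mem_inf.mpr ⟨H.mul_mem (H.inv_mem hp'.1) hp.1, ?_⟩
        rw [h6]
        exact (Subgroup.center G).mul_mem hp'.2 ((Subgroup.center G).inv_mem hp.2)
      rw [hZ, Subgroup.mem_bot] at h7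
      have h8 : u = u' := by
        have : u = u' * (u'⁻¹ * u) := by group
        rw [this, h7, mul_one]
      have h9 : z = z' := by
        rw [h8] at heq
        exact mul_left_cancel heq
      rw [h8, h9]
    calc (Nat.card H : ℝ) * (Nat.card (Subgroup.center G) : ℝ) * Complex.normSq (avg H χ 1)
        = ∑ g ∈ (Hf ×ˢ Zf).image (fun p : G × G => p.1 * p.2), Complex.normSq (avg H χ g) := by
          rw [Finset.sum_image hinj]
          have : ∀ p ∈ Hf ×ˢ Zf, Complex.normSq (avg H χ (p.1 * p.2))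
              = Complex.normSq (avg H χ 1) := by
            intro p hp
            simp only [hHf, hZf, Finset.mem_product, Finset.mem_filter, Finset.mem_univ,
              true_and] at hp
            exact normSq_avg_mul_central H hχ hp.1 hp.2
          rw [Finset.sum_congr rfl this, Finset.sum_const, nsmul_eq_mul, Finset.card_product]
          push_cast
          congr 2
          · rw [Nat.card_eq_fintype_card, Fintype.card_subtype]
          · rw [Nat.card_eq_fintype_card, Fintype.card_subtype]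
      _ ≤ ∑ g ∈ Nf.filter T, Complex.normSq (avg H χ g) :=
          Finset.sum_le_sum_of_subset_of_nonneg hsub (fun g _ _ => Complex.normSq_nonneg _)
  -- (1)
  have h1 := card_mul_sum_MH_le H hone hχ
  -- arithmetic
  have hγ : (0 : ℝ) < (Nat.card G : ℝ) := by exact_mod_cast Nat.card_pos
  have hν : (0 : ℝ) < (Nat.card N : ℝ) := by exact_mod_cast Nat.card_pos
  have hζ : (0 : ℝ) < (Nat.card (Subgroup.center G) : ℝ) := by exact_mod_cast Nat.card_pos
  have hn2 : 0 < Complex.normSq (χ 1) := Complex.normSq_pos.mpr (apply_one_ne_zero hχ)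
  set γ : ℝ := (Nat.card G : ℝ)
  set ν : ℝ := (Nat.card N : ℝ)
  set ζ : ℝ := (Nat.card (Subgroup.center G) : ℝ)
  set η : ℝ := (Nat.card H : ℝ)
  set n2 : ℝ := Complex.normSq (χ 1)
  set c2 : ℝ := Complex.normSq (avg H χ 1)
  set S : ℝ := ∑ g ∈ MH H, Complex.normSq (χ g)
  set B : ℝ := ∑ g ∈ Nf, Complex.normSq (χ g - avg H χ g)
  have h6 : η * ζ * c2 + ν ≤ S + ζ * n2 := by
    rw [← h4, h3]
    linarith
  have h7 : γ * (η * ζ * c2) ≤ ζ * n2 * (γ - ν) := by
    have : γ * (η * ζ * c2 + ν) ≤ γ * (S + ζ * n2) := mul_le_mul_of_nonneg_left h6 hγ.le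
    nlinarith
  have h8 : γ * (η * c2) ≤ n2 * (γ - ν) := by
    have : ζ * (γ * (η * c2)) ≤ ζ * (n2 * (γ - ν)) := by nlinarith
    exact le_of_mul_le_mul_left this hζ
  have h9 : γ * (η * c2) < γ * n2 := by nlinarith
  exact lt_of_mul_lt_mul_left h9 hγ.le

end Cfsg.Agent.Lib.Helper7.FT
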