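import Mathlib
import Cfsg.Prelude.Def_Characters
import Cfsg.Agent.Lib.helper3.Inflate2
import Cfsg.Agent.Lib.helper3.Irr13
import Cfsg.Agent.Lib.helper3.Lin

set_option autoImplicit false
set_option linter.style.haveILetI false
set_option linter.unusedSectionVars false

namespace Cfsg.Agent.Lib.Helper7.ItoP

open Cfsg Cfsg.Agent.Lib.helper3.Irr Cfsg.Agent.Lib.helper3.CharBasic
open Cfsg.Agent.Lib.helper3.IndFun
open scoped ComplexConjugate
open Classical

/-- The sum of the irreducible characters of a finite abelian group. -/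
theorem sum_irr_abelian {A : Type*} [Group A] [Fintype A] (hab : ∀ a b : A, a * b = b * a) (a : A) :
    ∑ β : IrrCharacter A, (β : A → ℂ) a = if a = 1 then (Nat.card A : ℂ) else 0 := by
  have h1 := congrFun (leftRegular_character_eq_sum (G := A)) a
  rw [leftRegular_character] at h1
  rw [h1]
  simp only [Finset.sum_apply, Pi.smul_apply, smul_eq_mul]
  apply Finset.sum_congr rfl
  intro β _
  rw [apply_one_eq_one_of_comm hab β.2, one_mul]

variable {G : Type*} [Group G] [Fintype G]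

/-- If the irreducible character `η` restricts irreducibly to the normal subgroup `N` with
abelian quotient, then the sum of `|η|²` over every coset of `N` is `|N|`. -/
theorem sum_normSq_coset (N : Subgroup G) [hN : N.Normal] [Fintype N]
    (hab : ∀ a b : G ⧸ N, a * b = b * a) {η : G → ℂ} (hη : IsIrrCharacter G η)
    (hηN : IsIrrCharacter N (fun n : N => η n)) (g₀ : G) :
    ∑ y : N, Complex.normSq (η (g₀ * y)) = (Nat.card N : ℝ) := by
  letI : Fintype (G ⧸ N) := Fintype.ofFinite _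
  have hηc := isCharacter_of_isIrrCharacter hη
  set B : IrrCharacter (G ⧸ N) → ℂ := fun β =>
    classInner (inflate N (β : G ⧸ N → ℂ) * η) η with hB
  -- linear characters of the quotient
  have hβ1 : ∀ β : IrrCharacter (G ⧸ N), (β : G ⧸ N → ℂ) 1 = 1 :=
    fun β => apply_one_eq_one_of_comm hab β.2
  have hβmul : ∀ (β : IrrCharacter (G ⧸ N)) (a b : G ⧸ N),
      (β : G ⧸ N → ℂ) (a * b) = (β : G ⧸ N → ℂ) a * (β : G ⧸ N → ℂ) b :=
    fun β a b => Cfsg.Agent.Lib.helper3.Lin.map_mul_of_apply_one_eq_one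
      (isCharacter_of_isIrrCharacter β.2) (hβ1 β) a b
  have hβinv : ∀ (β : IrrCharacter (G ⧸ N)) (a : G ⧸ N),
      conj ((β : G ⧸ N → ℂ) a) = (β : G ⧸ N → ℂ) a⁻¹ :=
    fun β a => (isCharacter_apply_inv (isCharacter_of_isIrrCharacter β.2) a).symm
  -- the key computation
  have hkey : ∀ g₁ : G, ∑ β : IrrCharacter (G ⧸ N), conj ((β : G ⧸ N → ℂ) (g₁ : G ⧸ N)) * B β
      = (Nat.card N : ℂ)⁻¹ * ∑ y : N, η (g₁ * y) * conj (η (g₁ * y)) := by
    intro g₁
    have h1 : ∀ β : IrrCharacter (G ⧸ N), conj ((β : G ⧸ N → ℂ) (g₁ : G ⧸ N)) * B β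
        = (Nat.card G : ℂ)⁻¹ * ∑ g : G, (β : G ⧸ N → ℂ) ((g₁ : G ⧸ N)⁻¹ * (g : G ⧸ N)) *
          (η g * conj (η g)) := by
      intro β
      rw [hB]
      simp only
      rw [classInner_apply, ← mul_assoc, mul_comm (conj _) ((Nat.card G : ℂ)⁻¹), mul_assoc,
        Finset.mul_sum]
      congr 1
      apply Finset.sum_congr rfl
      intro g _
      rw [Pi.mul_apply, inflate_apply, hβmul, hβinv]
      ring
    rw [Finset.sum_congr rfl (fun β _ => h1 β), ← Finset.mul_sum, Finset.sum_comm]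
    have h2 : ∀ g : G, ∑ β : IrrCharacter (G ⧸ N),
        (β : G ⧸ N → ℂ) ((g₁ : G ⧸ N)⁻¹ * (g : G ⧸ N)) * (η g * conj (η g))
        = if g₁⁻¹ * g ∈ N then (Nat.card (G ⧸ N) : ℂ) * (η g * conj (η g)) else 0 := by
      intro g
      rw [← Finset.sum_mul, sum_irr_abelian hab]
      have : ((g₁ : G ⧸ N)⁻¹ * (g : G ⧸ N) = 1) ↔ g₁⁻¹ * g ∈ N := by
        rw [← QuotientGroup.mk_inv, ← QuotientGroup.mk_mul, QuotientGroup.eq_one_iff]
      by_cases hg : g₁⁻¹ * g ∈ N
      · rw [if_pos (this.mpr hg), if_pos hg]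
      · rw [if_neg (fun h => hg (this.mp h)), if_neg hg, zero_mul]
    rw [Finset.sum_congr rfl (fun g _ => h2 g)]
    have h3 : ∑ g : G, (if g₁⁻¹ * g ∈ N then (Nat.card (G ⧸ N) : ℂ) * (η g * conj (η g)) else 0)
        = ∑ h : G, (if h ∈ N then (Nat.card (G ⧸ N) : ℂ) * (η (g₁ * h) * conj (η (g₁ * h)))
          else 0) := by
      symm
      apply Fintype.sum_equiv (Equiv.mulLeft g₁)
      intro h
      simp
    rw [h3, ← Finset.sum_filter]
    have h4 : ∑ h ∈ Finset.univ.filter (fun h : G => h ∈ N),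
        (Nat.card (G ⧸ N) : ℂ) * (η (g₁ * h) * conj (η (g₁ * h)))
        = ∑ y : N, (Nat.card (G ⧸ N) : ℂ) * (η (g₁ * y) * conj (η (g₁ * y))) :=
      Finset.sum_subtype (Finset.univ.filter (fun h : G => h ∈ N))
        (by simp) (fun h => (Nat.card (G ⧸ N) : ℂ) * (η (g₁ * h) * conj (η (g₁ * h))))
    rw [h4, ← Finset.mul_sum, ← mul_assoc]
    congr 1
    have h5 : Nat.card G = Nat.card (G ⧸ N) * Nat.card N :=
      Subgroup.card_eq_card_quotient_mul_card_subgroup N
    rw [h5]
    have hN0 : (Nat.card N : ℂ) ≠ 0 := card_ne_zero_complex N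
    have hQ0 : (Nat.card (G ⧸ N) : ℂ) ≠ 0 := card_ne_zero_complex _
    push_cast
    field_simp
  -- the values `B β`
  have hBnat : ∀ β : IrrCharacter (G ⧸ N), ∃ n : ℕ, B β = n := by
    intro β
    exact exists_nat_classInner_of_isCharacter
      (isCharacter_mul (isCharacter_comp (isCharacter_of_isIrrCharacter β.2) (QuotientGroup.mk' N))
        hηc) ⟨η, hη⟩
  choose b hb using hBnat
  set one : IrrCharacter (G ⧸ N) := ⟨fun _ => 1, isIrrCharacter_one⟩ with hone
  have hB1 : B one = 1 := by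
    rw [hB]
    simp only [hone]
    have : (inflate N (fun _ : G ⧸ N => (1 : ℂ)) * η) = η := by
      funext g
      simp [inflate_apply]
    rw [this, irr_classInner_self hη]
  have hsum1 : ∑ β : IrrCharacter (G ⧸ N), B β = 1 := by
    have h1 := hkey 1
    have h2 : ∀ β : IrrCharacter (G ⧸ N),
        conj ((β : G ⧸ N → ℂ) ((1 : G) : G ⧸ N)) * B β = B β := by
      intro β
      rw [QuotientGroup.mk_one, hβ1 β, map_one, one_mul]
    rw [Finset.sum_congr rfl (fun β _ => h2 β)] at h1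
    rw [h1]
    have h3 := irr_classInner_self hηN
    rw [classInner_apply] at h3
    simp only [one_mul]
    exact h3
  have hb1 : b one = 1 := by
    have := hb one
    rw [hB1] at this
    exact_mod_cast this.symm
  have hbsum : ∑ β : IrrCharacter (G ⧸ N), b β = 1 := by
    have : ((∑ β : IrrCharacter (G ⧸ N), b β : ℕ) : ℂ) = 1 := by
      push_cast
      rw [← hsum1]
      apply Finset.sum_congr rfl
      intro β _
      rw [hb β]
    exact_mod_cast this
  have hb0 : ∀ β : IrrCharacter (G ⧸ N), β ≠ one → b β = 0 := by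
    intro β hβ
    have h1 := Finset.add_sum_erase Finset.univ b (Finset.mem_univ one)
    rw [hbsum, hb1] at h1
    have h2 : ∑ x ∈ Finset.univ.erase one, b x = 0 := by omega
    exact (Finset.sum_eq_zero_iff.mp h2) β (Finset.mem_erase.mpr ⟨hβ, Finset.mem_univ β⟩)
  -- conclusion
  have h1 := hkey g₀
  have h2 : ∑ β : IrrCharacter (G ⧸ N), conj ((β : G ⧸ N → ℂ) (g₀ : G ⧸ N)) * B β = 1 := by
    rw [Finset.sum_eq_single one]
    · rw [hB1]
      simp [hone]
    · intro β _ hβ
      rw [hb β, hb0 β hβ]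
      simp
    · intro h
      exact absurd (Finset.mem_univ _) h
  rw [h2] at h1
  have hN0 : (Nat.card N : ℂ) ≠ 0 := card_ne_zero_complex N
  have h3 : ∑ y : N, η (g₀ * y) * conj (η (g₀ * y)) = (Nat.card N : ℂ) := by
    field_simp at h1
    exact h1.symm
  have h4 : ∑ y : N, η (g₀ * y) * conj (η (g₀ * y))
      = ((∑ y : N, Complex.normSq (η (g₀ * y)) : ℝ) : ℂ) := by
    push_cast
    apply Finset.sum_congr rfl
    intro y _
    rw [Complex.mul_conj]
  rw [h4] at h3
  exact_mod_cast h3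

end Cfsg.Agent.Lib.Helper7.ItoP
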