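import Mathlib
import Cfsg.Prelude.Def_Characters
import Cfsg.Agent.Lib.helper3.Irr10

set_option autoImplicit false
set_option linter.style.haveILetI false
set_option linter.unusedSectionVars false

namespace Cfsg.Agent.Lib.Helper7.ItoP

open Cfsg Cfsg.Agent.Lib.helper3.Irr Cfsg.Agent.Lib.helper3.CharBasic
open Cfsg.Agent.Lib.helper3.IndFun
open scoped ComplexConjugate
open Classical

theorem sum_range_mul_mod (p k : ℕ) (F : ℕ → ℝ) :
    ∑ i ∈ Finset.range (p * k), F (i % p) = k * ∑ r ∈ Finset.range p, F r := by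
  induction k with
  | zero => simp
  | succ k ih =>
    rw [Nat.mul_succ, Finset.sum_range_add, ih]
    have : ∑ r ∈ Finset.range p, F ((p * k + r) % p) = ∑ r ∈ Finset.range p, F r := by
      apply Finset.sum_congr rfl
      intro r hr
      rw [Nat.mul_add_mod, Nat.mod_eq_of_lt (Finset.mem_range.mp hr)]
    rw [this]
    push_cast
    ring

variable {G : Type*} [Group G] [Fintype G]

/-- Parseval on the cyclic group generated by `x`: if `|η|²` takes the value `d²` on the powers
`x ^ (p i)` and `1` on the other powers of `x`, then `p d ≤ d² + p - 1`. -/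
theorem cyclic_parseval {η : G → ℂ} (hη : IsCharacter G η) (x : G) {p : ℕ} (hp : p.Prime)
    (hpx : p ∣ orderOf x) (d : ℕ) (hd : η 1 = d)
    (hper : ∀ i r : ℕ, Complex.normSq (η (x ^ (r + p * i))) = Complex.normSq (η (x ^ r)))
    (hone : ∀ r : ℕ, 0 < r → r < p → Complex.normSq (η (x ^ r)) = 1) :
    p * d + 1 ≤ d * d + p := by
  set X : Subgroup G := Subgroup.zpowers x with hX
  have hres : IsCharacter X (fun g : X => η g) := isCharacter_restrict hη X
  obtain ⟨μ, hμ⟩ := exists_decomposition_of_isCharacter hres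
  have hXcomm : ∀ a b : X, a * b = b * a := by
    intro a b
    obtain ⟨k, hk⟩ := Subgroup.mem_zpowers_iff.mp a.2
    obtain ⟨l, hl⟩ := Subgroup.mem_zpowers_iff.mp b.2
    apply Subtype.ext
    show (a : G) * (b : G) = (b : G) * (a : G)
    rw [← hk, ← hl, ← zpow_add, ← zpow_add, add_comm]
  have hE3 : d = ∑ l : IrrCharacter X, μ l := by
    have h1 := congrFun hμ 1
    simp only [Finset.sum_apply, Pi.smul_apply, smul_eq_mul, OneMemClass.coe_one] at h1
    rw [hd] at h1
    have h2 : ∑ l : IrrCharacter X, (μ l : ℂ) * (l : X → ℂ) 1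
        = ((∑ l : IrrCharacter X, μ l : ℕ) : ℂ) := by
      push_cast
      apply Finset.sum_congr rfl
      intro l _
      rw [apply_one_eq_one_of_comm hXcomm l.2, mul_one]
    rw [h2] at h1
    exact_mod_cast h1
  have hE4 : ∑ l : IrrCharacter X, μ l ≤ ∑ l : IrrCharacter X, μ l ^ 2 := by
    apply Finset.sum_le_sum
    intro l _
    nlinarith [Nat.zero_le (μ l)]
  -- the norm
  have hnorm := classInner_self_decomposition μ
  rw [← hμ, classInner_apply] at hnorm
  obtain ⟨k, hk⟩ := hpx
  have hfin : IsOfFinOrder x := isOfFinOrder_of_finite x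
  have hsum : ∑ g : X, (fun g : X => η g) g * conj ((fun g : X => η g) g)
      = ((k * ((d : ℝ) ^ 2 + (p - 1)) : ℝ) : ℂ) := by
    have h1 : ∑ g : X, (fun g : X => η g) g * conj ((fun g : X => η g) g)
        = ((∑ g : X, Complex.normSq (η g) : ℝ) : ℂ) := by
      push_cast
      apply Finset.sum_congr rfl
      intro g _
      rw [Complex.mul_conj]
    rw [h1]
    congr 1
    have h2 : ∑ g : X, Complex.normSq (η g)
        = ∑ i : Fin (orderOf x), Complex.normSq (η (x ^ (i : ℕ))) := by
      symm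
      apply Fintype.sum_equiv (finEquivZPowers hfin)
      intro i
      rw [finEquivZPowers_apply]
    rw [h2, Fin.sum_univ_eq_sum_range (fun i => Complex.normSq (η (x ^ i))) (orderOf x), hk]
    have h3 : ∀ i ∈ Finset.range (p * k), Complex.normSq (η (x ^ i))
        = (fun r => Complex.normSq (η (x ^ r))) (i % p) := by
      intro i _
      simp only
      have := hper (i / p) (i % p)
      rw [Nat.mod_add_div] at this
      exact this
    rw [Finset.sum_congr rfl h3, sum_range_mul_mod p k (fun r => Complex.normSq (η (x ^ r)))]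
    congr 1
    have hp0 : 0 < p := hp.pos
    obtain ⟨p', rfl⟩ : ∃ p', p = p' + 1 := ⟨p - 1, by omega⟩
    rw [Finset.sum_range_succ']
    have h4 : ∀ r ∈ Finset.range p', Complex.normSq (η (x ^ (r + 1))) = 1 := by
      intro r hr
      exact hone (r + 1) (by omega) (by have := Finset.mem_range.mp hr; omega)
    rw [Finset.sum_congr rfl h4, pow_zero, hd, Complex.normSq_natCast]
    simp
    ring
  rw [hsum] at hnorm
  have hXcard : Nat.card X = p * k := by
    rw [hX, Nat.card_zpowers, hk]
  rw [hXcard] at hnorm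
  have hk0 : k ≠ 0 := by
    rintro rfl
    rw [mul_zero] at hk
    exact (orderOf_pos x).ne' hk
  have hreal : ((p * k : ℕ) : ℝ)⁻¹ * (k * ((d : ℝ) ^ 2 + (p - 1)))
      = ((∑ l : IrrCharacter X, μ l ^ 2 : ℕ) : ℝ) := by
    have : (((p * k : ℕ) : ℝ)⁻¹ * (k * ((d : ℝ) ^ 2 + (p - 1))) : ℂ)
        = ((∑ l : IrrCharacter X, μ l ^ 2 : ℕ) : ℂ) := by
      rw [← hnorm]
      push_cast
      ring
    exact_mod_cast this
  have hp0 : (0 : ℝ) < p := by exact_mod_cast hp.pos
  have hk0' : (0 : ℝ) < k := by exact_mod_cast Nat.pos_of_ne_zero hk0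
  have h5 : (d : ℝ) ^ 2 + (p - 1) = p * ((∑ l : IrrCharacter X, μ l ^ 2 : ℕ) : ℝ) := by
    rw [← hreal]
    push_cast
    field_simp
  have h6 : (d : ℝ) ≤ ((∑ l : IrrCharacter X, μ l ^ 2 : ℕ) : ℝ) := by
    rw [hE3]
    exact_mod_cast hE4
  have h7 : (p : ℝ) * d + 1 ≤ (d : ℝ) * d + p := by nlinarith
  exact_mod_cast h7

end Cfsg.Agent.Lib.Helper7.ItoP
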