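import Mathlib
import Cfsg.Prelude.Def_Characters
import Cfsg.Agent.Lib.helper3.Ito
import Cfsg.Agent.Lib.helper3.Clifford
import Cfsg.Agent.Lib.helper3.CycExt2
import Cfsg.Agent.Lib.Helper7.ItoP1
import Cfsg.Agent.Lib.Helper7.ItoP2
import Cfsg.Agent.Lib.Helper7.ItoP3
import Cfsg.Agent.Lib.Helper7.FTLem3

set_option autoImplicit false
set_option linter.style.haveILetI false
set_option linter.unusedSectionVars false

namespace Cfsg.Agent.Lib.Helper7.ItoP

open Cfsg Cfsg.Agent.Lib.helper3.Irr Cfsg.Agent.Lib.helper3.CharBasic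
open Cfsg.Agent.Lib.helper3.IndFun
open scoped ComplexConjugate
open Classical

theorem mem_of_pow_mem_of_coprime {G : Type*} [Group G] (H : Subgroup G) {x : G} {d p : ℕ}
    (hcop : Nat.Coprime d p) (hd : x ^ d ∈ H) (hp : x ^ p ∈ H) : x ∈ H := by
  have hb := Int.gcd_eq_gcd_ab (d : ℤ) (p : ℤ)
  have hg : Int.gcd (d : ℤ) (p : ℤ) = 1 := by
    rw [Int.gcd_natCast_natCast]
    exact hcop
  rw [hg] at hb
  have hx : x = (x ^ d) ^ (Int.gcdA d p) * (x ^ p) ^ (Int.gcdB d p) := by
    rw [← zpow_natCast x d, ← zpow_natCast x p, ← zpow_mul, ← zpow_mul, ← zpow_add, ← hb]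
    simp
  rw [hx]
  exact H.mul_mem (H.zpow_mem hd _) (H.zpow_mem hp _)

variable {G : Type*} [Group G] [Fintype G] {p : ℕ} {Q : Subgroup G} {x : G}

/-- A character of small degree has an `x`-invariant irreducible constituent on `Q`. -/
theorem exists_invariant_constituent (hp : p.Prime) [hQ : Q.Normal]
    (hxp : x ^ p ∈ Subgroup.center G) {χ : G → ℂ} (hχ : IsIrrCharacter G χ) (n : ℕ)
    (hn : χ 1 = n) (hnp : n + 1 ≤ p) :
    ∃ θ : Q → ℂ, IsIrrCharacter Q θ ∧ classInner (fun q : Q => χ q) θ ≠ 0 ∧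
      conjFun Q θ x = θ := by
  have hχc := isCharacter_of_isIrrCharacter hχ
  have hcf := isClassFunction_of_isCharacter hχc
  have hres : IsCharacter Q (fun q : Q => χ q) := isCharacter_restrict hχc Q
  have hres0 : (fun q : Q => χ q) ≠ 0 := by
    intro h0
    have := congrFun h0 1
    simp only [OneMemClass.coe_one, Pi.zero_apply] at this
    exact apply_one_ne_zero hχ this
  obtain ⟨θ, hθ⟩ := exists_constituent hres hres0
  refine ⟨θ, θ.2, hθ, ?_⟩
  by_contra hne
  -- the `p` conjugates are distinct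
  have hpow : conjFun Q (θ : Q → ℂ) (x ^ p) = θ := by
    funext q
    unfold conjFun
    have e : (⟨x ^ p * (q : G) * (x ^ p)⁻¹, hQ.conj_mem q q.2 (x ^ p)⟩ : Q) = q := by
      apply Subtype.ext
      simp only
      rw [← Subgroup.mem_center_iff.mp hxp q]
      group
    rw [e]
  have hdist : ∀ i j : ℕ, i < j → j < p →
      conjFun Q (θ : Q → ℂ) (x ^ i) ≠ conjFun Q (θ : Q → ℂ) (x ^ j) := by
    intro i j hij hjp heq
    apply hne
    have h1 := congrArg (fun ψ => conjFun Q ψ (x ^ i)⁻¹) heq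
    simp only [conjFun_mul, mul_inv_cancel, conjFun_one] at h1
    have h2 : x ^ j * (x ^ i)⁻¹ = x ^ (j - i) := by
      have : j = (j - i) + i := by omega
      conv_lhs => rw [this, pow_add]
      group
    rw [h2] at h1
    have hmem : x ∈ inertia Q (θ : Q → ℂ) := by
      apply mem_of_pow_mem_of_coprime (inertia Q (θ : Q → ℂ)) (d := j - i) (p := p)
      · apply ((Nat.Prime.coprime_iff_not_dvd hp).mpr _).symm
        intro hdvd
        have := Nat.le_of_dvd (by omega) hdvd
        omega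
      · exact h1.symm
      · exact hpow
    exact hmem
  -- count degrees
  obtain ⟨m, hm⟩ := exists_decomposition_of_isCharacter hres
  have hmθ : ∀ ψ : IrrCharacter Q, classInner (fun q : Q => χ q) (ψ : Q → ℂ) = m ψ := by
    intro ψ
    conv_lhs => rw [hm]
    exact classInner_decomposition_left _ ψ
  have hdeg : ∀ ψ : IrrCharacter Q, ∃ k : ℕ, 0 < k ∧ (ψ : Q → ℂ) 1 = k :=
    fun ψ => exists_pos_nat_apply_one ψ.2
  choose dd hddpos hdd using hdeg
  have hnsum : n = ∑ ψ : IrrCharacter Q, m ψ * dd ψ := by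
    have h1 := congrFun hm 1
    simp only [Finset.sum_apply, Pi.smul_apply, smul_eq_mul, OneMemClass.coe_one] at h1
    rw [hn] at h1
    have h2 : ∑ ψ : IrrCharacter Q, (m ψ : ℂ) * (ψ : Q → ℂ) 1
        = ((∑ ψ : IrrCharacter Q, m ψ * dd ψ : ℕ) : ℂ) := by
      push_cast
      apply Finset.sum_congr rfl
      intro ψ _
      rw [hdd ψ]
    rw [h2] at h1
    exact_mod_cast h1
  set ψi : Fin p → IrrCharacter Q :=
    fun i => ⟨conjFun Q (θ : Q → ℂ) (x ^ (i : ℕ)), isIrrCharacter_conjFun Q θ.2 _⟩ with hψi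
  have hinj : Function.Injective ψi := by
    intro i j hij
    have h1 : conjFun Q (θ : Q → ℂ) (x ^ (i : ℕ)) = conjFun Q (θ : Q → ℂ) (x ^ (j : ℕ)) :=
      congrArg Subtype.val hij
    by_contra hne'
    rcases lt_or_gt_of_ne (fun h => hne' (Fin.ext h)) with hlt | hlt
    · exact hdist i j hlt j.2 h1
    · exact hdist j i hlt i.2 h1.symm
  have hmi : ∀ i : Fin p, 1 ≤ m (ψi i) * dd (ψi i) := by
    intro i
    have h1 : m (ψi i) ≠ 0 := by
      intro h0
      have h2 := hmθ (ψi i)
      rw [h0] at h2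
      simp only [hψi] at h2
      rw [classInner_restrict_conjFun Q χ hcf] at h2
      exact hθ (by simpa using h2)
    exact Nat.mul_pos (Nat.pos_of_ne_zero h1) (hddpos _)
  have hge : p ≤ n := by
    rw [hnsum]
    calc p = ∑ _i : Fin p, 1 := by simp
      _ ≤ ∑ i : Fin p, m (ψi i) * dd (ψi i) := Finset.sum_le_sum (fun i _ => hmi i)
      _ = ∑ ψ ∈ Finset.univ.image ψi, m ψ * dd ψ := by
          rw [Finset.sum_image (fun a _ b _ hab => hinj hab)]
      _ ≤ ∑ ψ : IrrCharacter Q, m ψ * dd ψ :=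
          Finset.sum_le_sum_of_subset (Finset.subset_univ _)
  omega

theorem isCyclic_quotient_of_sup_zpowers [hQ : Q.Normal] (htop : Q ⊔ Subgroup.zpowers x = ⊤) :
    IsCyclic (G ⧸ Q) := by
  apply isCyclic_of_surjective ((QuotientGroup.mk' Q).comp (Subgroup.zpowers x).subtype)
  intro a
  obtain ⟨g, rfl⟩ := QuotientGroup.mk_surjective a
  have hg : g ∈ Q ⊔ Subgroup.zpowers x := by rw [htop]; exact Subgroup.mem_top g
  obtain ⟨q, hq, z, hz, rfl⟩ := Subgroup.mem_sup_of_normal_left.mp hg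
  refine ⟨⟨z, hz⟩, ?_⟩
  simp only [MonoidHom.coe_comp, Function.comp_apply, Subgroup.subtype_apply,
    QuotientGroup.mk'_apply]
  rw [QuotientGroup.mk_mul, (QuotientGroup.eq_one_iff q).mpr hq, one_mul]

theorem mem_center_of_comm (htop : Q ⊔ Subgroup.zpowers x = ⊤) {z : G}
    (hzQ : ∀ q ∈ Q, q * z = z * q) (hzx : x * z = z * x) : z ∈ Subgroup.center G := by
  rw [Subgroup.mem_center_iff]
  have hle : Q ⊔ Subgroup.zpowers x ≤ Subgroup.centralizer ({z} : Set G) := by
    apply sup_le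
    · intro q hq
      rw [Subgroup.mem_centralizer_iff]
      intro w hw
      rw [Set.mem_singleton_iff] at hw
      rw [hw]
      exact (hzQ q hq).symm
    · rw [Subgroup.zpowers_le]
      rw [Subgroup.mem_centralizer_iff]
      intro w hw
      rw [Set.mem_singleton_iff] at hw
      rw [hw]
      exact hzx.symm
  intro g
  have hg : g ∈ Subgroup.centralizer ({z} : Set G) := hle (by rw [htop]; exact Subgroup.mem_top g)
  rw [Subgroup.mem_centralizer_iff] at hg
  exact (hg z rfl).symm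

/-- The character-theoretic core of Itô's theorem in the minimal configuration. -/
theorem Config.degree_eq (hp : p.Prime) (h : Config p Q x)
    (htop : Q ⊔ Subgroup.zpowers x = ⊤) (hder : ⁅Q, Q⁆ ≠ Q) (m : ℕ) (hxm : x ^ (p ^ m) = 1)
    {χ : G → ℂ} (hχ : IsIrrCharacter G χ) (hfaith : ∀ g : G, χ g = χ 1 → g = 1) (n : ℕ)
    (hn : χ 1 = n) (hnp : n + 1 ≤ p) : n + 1 = p ∧ n ∣ Nat.card Q := by
  haveI hQ := h.normal
  obtain ⟨θ, hθ, hcon, hinvx⟩ := exists_invariant_constituent (Q := Q) hp h.pow_central hχ n hn hnp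
  have hθc := isCharacter_of_isIrrCharacter hθ
  have hθcf := isClassFunction_of_isCharacter hθc
  -- `θ` is invariant in `G`
  have hinert : inertia Q θ = ⊤ := by
    rw [eq_top_iff, ← htop]
    apply sup_le (le_inertia Q θ hθcf)
    rw [Subgroup.zpowers_le]
    exact hinvx
  have hinvG : ∀ g : G, conjFun Q θ g = θ := by
    intro g
    have : g ∈ inertia Q θ := by rw [hinert]; exact Subgroup.mem_top g
    exact this
  -- Clifford
  have hcl := clifford Q χ hχ θ hθ hcon
  have hset : {ψ : Q → ℂ | ∃ g : G, ψ = fun n : Q => θ ⟨g * n * g⁻¹, hQ.conj_mem n n.2 g⟩}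
      = {θ} := by
    ext ψ
    simp only [Set.mem_ofPred_eq, Set.mem_singleton_iff]
    constructor
    · rintro ⟨g, rfl⟩
      exact hinvG g
    · rintro rfl
      exact ⟨1, (hinvG 1).symm⟩
  rw [hset, finsum_mem_singleton] at hcl
  obtain ⟨c₀, hc₀⟩ := exists_nat_classInner_of_isCharacter
    (isCharacter_restrict (isCharacter_of_isIrrCharacter hχ) Q) ⟨θ, hθ⟩
  simp only at hc₀
  rw [hc₀] at hcl hcon
  have hc₀pos : 0 < c₀ := by
    apply Nat.pos_of_ne_zero
    rintro rfl
    exact hcon (by simp)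
  have hχθ : ∀ q : Q, χ q = (c₀ : ℂ) * θ q := by
    intro q
    have := congrFun hcl q
    simpa using this
  obtain ⟨d, hd, hdQ, hdpos⟩ := Cfsg.Agent.Lib.helper3.Central.irr_degree_dvd_card hθ
  have hnd : n = c₀ * d := by
    have h1 := hχθ 1
    rw [OneMemClass.coe_one, hn, hd] at h1
    exact_mod_cast h1
  have hc₀C : (c₀ : ℂ) ≠ 0 := by exact_mod_cast hc₀pos.ne'
  have hθfaith : ∀ q : Q, θ q = θ 1 → q = 1 := by
    intro q hq
    have h1 : χ q = χ 1 := by
      have h2 := hχθ q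
      have h3 := hχθ 1
      rw [OneMemClass.coe_one] at h3
      rw [h2, h3, hq]
    exact Subtype.ext (hfaith q h1)
  -- `θ` is not linear
  have hd1 : d ≠ 1 := by
    rintro rfl
    rw [Nat.cast_one] at hd
    have hmul := Cfsg.Agent.Lib.helper3.Lin.map_mul_of_apply_one_eq_one hθc hd
    obtain ⟨y, hy, hxy⟩ := h.not_comm
    apply hxy
    have h1 : θ ⟨x * y * x⁻¹, hQ.conj_mem y hy x⟩ = θ ⟨y, hy⟩ :=
      (mem_inertia_iff Q θ x).mp (by rw [hinert]; exact Subgroup.mem_top x) ⟨y, hy⟩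
    have h2 : θ (⟨x * y * x⁻¹, hQ.conj_mem y hy x⟩ * ⟨y, hy⟩⁻¹) = θ 1 := by
      rw [hmul, h1, ← hmul, mul_inv_cancel]
    have h3 := hθfaith _ h2
    have h4 : x * y * x⁻¹ * y⁻¹ = 1 := congrArg Subtype.val h3
    have : x * y = (x * y * x⁻¹ * y⁻¹) * (y * x) := by group
    rw [this, h4, one_mul]
  have hnab : ∃ a ∈ Q, ∃ b ∈ Q, a * b ≠ b * a := by
    by_contra hcon'
    push Not at hcon'
    apply hd1
    have hcomm : ∀ a b : Q, a * b = b * a := fun a b => Subtype.ext (hcon' a a.2 b b.2)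
    have := apply_one_eq_one_of_comm hcomm hθ
    rw [hd] at this
    exact_mod_cast this
  -- the extension
  have hcyc : IsCyclic (G ⧸ Q) := isCyclic_quotient_of_sup_zpowers htop
  obtain ⟨η, hη, hηres⟩ := Cfsg.Agent.Lib.helper3.CycExt.exists_extension_of_cyclic Q hcyc θ hθ
    (fun g n => congrFun (hinvG g) n)
  have hηQ : (fun q : Q => η q) = θ := funext hηres
  have hηc := isCharacter_of_isIrrCharacter hη
  have hηcf := isClassFunction_of_isCharacter hηc
  have hab : ∀ a b : G ⧸ Q, a * b = b * a := by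
    haveI := hcyc
    intro a b
    exact mul_comm' a b
  have hη1 : η 1 = d := by
    have := hηres 1
    rw [OneMemClass.coe_one] at this
    rw [this, hd]
  -- values on the cosets
  have hval : ∀ j : ℕ, ¬ p ∣ j → Complex.normSq (η (x ^ j)) = 1 := by
    intro j hj
    have h1 := sum_normSq_coset Q hab hη (by rw [hηQ]; exact hθ) (x ^ j)
    have h2 : ∀ y ∈ (Finset.univ : Finset Q), Complex.normSq (η (x ^ j * y))
        = Complex.normSq (η (x ^ j)) := by
      intro y _
      obtain ⟨g, _, z, hz, hzc, heq⟩ := h.exists_conj hp hnab hder m hxm hj y.2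
      rw [heq, hηcf]
      have hzG : z ∈ Subgroup.center G :=
        mem_center_of_comm htop hzc (h.comm_of_central hnab hz hzc)
      obtain ⟨c, hc, hmul⟩ := Cfsg.Agent.Lib.Helper7.FT.exists_central_scalar hη hzG
      rw [hmul, Complex.normSq_mul, hc, one_mul]
    rw [Finset.sum_congr rfl h2, Finset.sum_const, Finset.card_univ, nsmul_eq_mul,
      ← Nat.card_eq_fintype_card] at h1
    have hQ0 : (0 : ℝ) < (Nat.card Q : ℝ) := by exact_mod_cast Nat.card_pos
    have : (Nat.card Q : ℝ) * Complex.normSq (η (x ^ j)) = (Nat.card Q : ℝ) * 1 := by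
      rw [h1, mul_one]
    exact mul_left_cancel₀ hQ0.ne' this
  -- `p` divides the order of `x`
  have hx1 : x ≠ 1 := by
    rintro rfl
    obtain ⟨y, _, hxy⟩ := h.not_comm
    exact hxy (by simp)
  have hpx : p ∣ orderOf x := by
    have h1 : orderOf x ∣ p ^ m := orderOf_dvd_of_pow_eq_one hxm
    obtain ⟨k, _, hk⟩ := (Nat.dvd_prime_pow hp).mp h1
    rw [hk]
    have hk0 : k ≠ 0 := by
      rintro rfl
      rw [pow_zero, orderOf_eq_one_iff] at hk
      exact hx1 hk
    exact dvd_pow_self p hk0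
  have hper : ∀ i r : ℕ, Complex.normSq (η (x ^ (r + p * i))) = Complex.normSq (η (x ^ r)) := by
    intro i r
    have hz : (x ^ p) ^ i ∈ Subgroup.center G := Subgroup.pow_mem _ h.pow_central i
    obtain ⟨c, hc, hmul⟩ := Cfsg.Agent.Lib.Helper7.FT.exists_central_scalar hη hz
    rw [pow_add, pow_mul, hmul, Complex.normSq_mul, hc, one_mul]
  have hone : ∀ r : ℕ, 0 < r → r < p → Complex.normSq (η (x ^ r)) = 1 := by
    intro r hr0 hrp
    apply hval
    intro hdvd
    have := Nat.le_of_dvd hr0 hdvd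
    omega
  have hineq := cyclic_parseval hηc x hp hpx d hη1 hper hone
  -- arithmetic
  have hd2 : 2 ≤ d := by omega
  have hpd : p ≤ d + 1 := by
    by_contra hlt
    push Not at hlt
    have h1 : d + 2 ≤ p := by omega
    have h2 : (d + 2) * d + 1 ≤ p * d + 1 := by
      have := Nat.mul_le_mul_right d h1
      omega
    nlinarith
  have hc1 : c₀ = 1 := by
    have h1 : c₀ * d + 1 ≤ d + 1 := by omega
    have h2 : c₀ * d ≤ d := by omega
    have h3 : c₀ * d ≤ 1 * d := by omega
    have := Nat.le_of_mul_le_mul_right h3 hdpos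
    omega
  rw [hc1, one_mul] at hnd
  rw [hnd]
  refine ⟨by omega, ?_⟩
  rw [Nat.card_eq_fintype_card] at hdQ ⊢
  exact hdQ

end Cfsg.Agent.Lib.Helper7.ItoP
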