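import Mathlib
import Cfsg.Agent.S0559
import Cfsg.Agent.S0561
import Cfsg.Agent.S0562
import Cfsg.Agent.S0566
import Cfsg.Agent.Lib.Helper4.Nilpotent
import Cfsg.Agent.Lib.Helper7.WeaklyClosed
import Cfsg.Agent.H1.Cores

/-!
# Kegel-Wielandt: base file (factorisations, Sylow parts of nilpotent subgroups, wrappers)
-/

set_option autoImplicit false
set_option linter.style.haveILetI false

namespace Cfsg.Agent.Lib.Helper7.KW

open Cfsg Cfsg.Agent.Lib.Helper7
open scoped Pointwise

universe u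
variable {G : Type u} [Group G]


/-- `G = HK`. -/
def Fac (H K : Subgroup G) : Prop := ∀ g : G, ∃ h ∈ H, ∃ k ∈ K, g = h * k

theorem Fac.symm {H K : Subgroup G} (h : Fac H K) : Fac K H := by
  intro g
  obtain ⟨a, ha, b, hb, e⟩ := h g⁻¹
  refine ⟨b⁻¹, K.inv_mem hb, a⁻¹, H.inv_mem ha, ?_⟩
  have : g = (g⁻¹)⁻¹ := by simp
  rw [this, e]; group

theorem Fac.conj [Finite G] {H K : Subgroup G} (h : Fac H K) (c d : G) :
    Fac (cj c H) (cj d K) ∧ ∃ g : G, cj c H = cj g H ∧ cj d K = cj g K :=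
  Cfsg.Agent.S0559.result H K (cj c H) (cj d K) h ⟨c, rfl⟩ ⟨d, rfl⟩

theorem Fac.of_le {H K L : Subgroup G} (h : Fac H K) (hL : H ≤ L) :
    ∀ g ∈ L, ∃ a ∈ H, ∃ b ∈ L ⊓ K, g = a * b := by
  intro g hg
  obtain ⟨a, ha, b, hb, e⟩ := h g
  refine ⟨a, ha, b, ⟨?_, hb⟩, e⟩
  have : b = a⁻¹ * g := by rw [e]; group
  rw [this]
  exact L.mul_mem (L.inv_mem (hL ha)) hg

theorem Fac.of_le' {H K L : Subgroup G} (h : Fac H K) (hL : K ≤ L) :
    ∀ g ∈ L, ∃ a ∈ L ⊓ H, ∃ b ∈ K, g = a * b := by
  intro g hg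
  obtain ⟨a, ha, b, hb, e⟩ := h g
  refine ⟨a, ⟨?_, ha⟩, b, hb, e⟩
  have : a = g * b⁻¹ := by rw [e]; group
  rw [this]
  exact L.mul_mem hg (L.inv_mem (hL hb))

theorem inf_eq_bot_of_coprime {H K : Subgroup G}
    (hc : (Nat.card H).Coprime (Nat.card K)) : H ⊓ K = ⊥ :=
  disjoint_iff.mp (Subgroup.disjoint_of_coprime_natCard hc)

theorem Fac.isComplement' [Finite G] {H K : Subgroup G} (h : Fac H K)
    (hc : (Nat.card H).Coprime (Nat.card K)) : Subgroup.IsComplement' H K := by
  apply Subgroup.isComplement'_of_disjoint_and_mul_eq_univ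
  · exact Subgroup.disjoint_of_coprime_natCard hc
  · ext g
    simp only [Set.mem_univ, iff_true]
    obtain ⟨a, ha, b, hb, e⟩ := h g
    exact ⟨a, ha, b, hb, e.symm⟩

theorem Fac.card [Finite G] {H K : Subgroup G} (h : Fac H K)
    (hc : (Nat.card H).Coprime (Nat.card K)) : Nat.card H * Nat.card K = Nat.card G :=
  (h.isComplement' hc).card_mul_card

/-- unique factorisation -/
theorem Fac.unique [Finite G] {H K : Subgroup G}
    (hc : (Nat.card H).Coprime (Nat.card K)) {a a' b b' : G} (ha : a ∈ H) (ha' : a' ∈ H)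
    (hb : b ∈ K) (hb' : b' ∈ K) (e : a * b = a' * b') : a = a' ∧ b = b' := by
  have h1 : a'⁻¹ * a ∈ H ⊓ K := by
    refine ⟨H.mul_mem (H.inv_mem ha') ha, ?_⟩
    have : a'⁻¹ * a = b' * b⁻¹ := by
      have : a = a' * b' * b⁻¹ := by rw [← e]; group
      rw [this]; group
    rw [this]; exact K.mul_mem hb' (K.inv_mem hb)
  rw [inf_eq_bot_of_coprime hc, Subgroup.mem_bot] at h1
  have h2 : a = a' := by
    have : a = a' * (a'⁻¹ * a) := by group
    rw [this, h1, mul_one]
  refine ⟨h2, ?_⟩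
  rw [h2] at e
  exact mul_left_cancel e



/-- the subgroup of `H` generated by its `p`-elements (the Sylow `p`-subgroup when `H` is nilpotent). -/
def syl (H : Subgroup G) (p : ℕ) : Subgroup G :=
  Subgroup.closure {x | x ∈ H ∧ ∃ k : ℕ, x ^ p ^ k = 1}

theorem syl_le (H : Subgroup G) (p : ℕ) : syl H p ≤ H := by
  unfold syl
  rw [Subgroup.closure_le]
  intro x hx
  exact hx.1

theorem mem_syl_of_pow {H : Subgroup G} {p : ℕ} {x : G} (hx : x ∈ H) {k : ℕ} (hk : x ^ p ^ k = 1) :
    x ∈ syl H p := Subgroup.subset_closure ⟨hx, k, hk⟩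

theorem le_syl_of_isPGroup {H U : Subgroup G} {p : ℕ} (hU : U ≤ H) (hp : IsPGroup p U) :
    U ≤ syl H p := by
  intro x hx
  obtain ⟨k, hk⟩ := hp ⟨x, hx⟩
  have : x ^ p ^ k = 1 := by
    have := congrArg Subtype.val hk
    simpa using this
  exact mem_syl_of_pow (hU hx) this

theorem syl_mono {H L : Subgroup G} (h : H ≤ L) (p : ℕ) : syl H p ≤ syl L p := by
  unfold syl
  apply Subgroup.closure_mono
  intro x hx
  exact ⟨h hx.1, hx.2⟩

theorem syl_cj (g : G) (H : Subgroup G) (p : ℕ) : syl (cj g H) p = cj g (syl H p) := by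
  unfold syl
  show _ = Subgroup.map (MulAut.conj g).toMonoidHom _
  rw [MonoidHom.map_closure]
  congr 1
  ext x
  simp only [Set.mem_setOf_eq, Set.mem_image]
  constructor
  · rintro ⟨hx, k, hk⟩
    refine ⟨g⁻¹ * x * g, ⟨(mem_cj g x H).mp hx, k, ?_⟩, ?_⟩
    · have : (g⁻¹ * x * g) ^ p ^ k = g⁻¹ * x ^ p ^ k * g := by
        have := conj_pow (a := g⁻¹) (b := x) (i := p ^ k)
        simpa using this
      rw [this, hk]; group
    · simp [MulAut.conj_apply]; group
  · rintro ⟨y, ⟨hy, k, hk⟩, rfl⟩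
    refine ⟨?_, k, ?_⟩
    · rw [mem_cj]
      simp only [MulEquiv.coe_toMonoidHom, MulAut.conj_apply]
      have : g⁻¹ * (g * y * g⁻¹) * g = y := by group
      rw [this]; exact hy
    · simp only [MulEquiv.coe_toMonoidHom, MulAut.conj_apply]
      rw [conj_pow, hk]; group

theorem normalizer_le_normalizer_syl (H : Subgroup G) (p : ℕ) :
    Subgroup.normalizer (H : Set G) ≤ Subgroup.normalizer (syl H p : Set G) := by
  intro g hg
  apply mem_normalizer_of_cj_eq
  rw [← syl_cj, cj_eq_of_mem_normalizer hg]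

section nilp

variable [Finite G] {H : Subgroup G} {p : ℕ} [Fact p.Prime]

theorem syl_eq_map (hH : Group.IsNilpotent H) (P : Sylow p H) :
    syl H p = (P : Subgroup H).map H.subtype := by
  apply le_antisymm
  · unfold syl
    rw [Subgroup.closure_le]
    rintro x ⟨hx, k, hk⟩
    refine ⟨⟨x, hx⟩, ?_, rfl⟩
    apply Cfsg.Agent.Lib.Helper4.Nilpotent.mem_sylow_of_pow_eq_one P ⟨x, hx⟩ k
    exact Subtype.ext (by simpa using hk)
  · apply le_syl_of_isPGroup (Subgroup.map_subtype_le _)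
    exact P.isPGroup'.map _

theorem syl_isPGroup (hH : Group.IsNilpotent H) : IsPGroup p (syl H p) := by
  obtain ⟨P⟩ : Nonempty (Sylow p H) := inferInstance
  rw [syl_eq_map hH P]
  exact P.isPGroup'.map _

theorem card_syl (hH : Group.IsNilpotent H) :
    Nat.card (syl H p) = p ^ (Nat.card H).factorization p := by
  obtain ⟨P⟩ : Nonempty (Sylow p H) := inferInstance
  rw [syl_eq_map hH P, Subgroup.card_map_of_injective H.subtype_injective]
  exact P.card_eq_multiplicity

theorem mem_syl_iff (hH : Group.IsNilpotent H) {x : G} :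
    x ∈ syl H p ↔ x ∈ H ∧ ∃ k : ℕ, x ^ p ^ k = 1 := by
  constructor
  · intro hx
    refine ⟨syl_le H p hx, ?_⟩
    obtain ⟨k, hk⟩ := syl_isPGroup hH ⟨x, hx⟩
    refine ⟨k, ?_⟩
    have := congrArg Subtype.val hk
    simpa using this
  · rintro ⟨hx, k, hk⟩
    exact mem_syl_of_pow hx hk

theorem syl_ne_bot (hH : Group.IsNilpotent H) (hp : p ∣ Nat.card H) : syl H p ≠ ⊥ := by
  intro h
  have h1 := card_syl (p := p) hH
  rw [h, Subgroup.card_bot] at h1
  have h2 : 0 < (Nat.card H).factorization p :=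
    (Nat.Prime.factorization_pos_of_dvd Fact.out Nat.card_pos.ne' hp)
  have : 1 < p ^ (Nat.card H).factorization p := Nat.one_lt_pow h2.ne' (Fact.out : p.Prime).one_lt
  omega

theorem syl_eq_bot_of_not_dvd (hH : Group.IsNilpotent H) (hp : ¬ p ∣ Nat.card H) : syl H p = ⊥ := by
  rw [← Subgroup.card_eq_one, card_syl hH, Nat.factorization_eq_zero_of_not_dvd hp, pow_zero]

omit [Fact p.Prime] in
/-- elements of different Sylow subgroups of a nilpotent group commute -/
theorem commute_syl (hH : Group.IsNilpotent H) {r : ℕ} (hp : p.Prime) (hr : r.Prime) (hpr : p ≠ r)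
    {x y : G} (hx : x ∈ syl H p) (hy : y ∈ syl H r) : x * y = y * x := by
  haveI := Fact.mk hp
  haveI := Fact.mk hr
  have hxH := syl_le H p hx
  have hyH := syl_le H r hy
  obtain ⟨i, hi⟩ := (IsPGroup.iff_orderOf.mp (syl_isPGroup hH)) ⟨x, hx⟩
  obtain ⟨j, hj⟩ := (IsPGroup.iff_orderOf.mp (syl_isPGroup hH)) ⟨y, hy⟩
  rw [Subgroup.orderOf_mk] at hi hj
  have hc : (orderOf (⟨x, hxH⟩ : H)).Coprime (orderOf (⟨y, hyH⟩ : H)) := by
    rw [Subgroup.orderOf_mk, Subgroup.orderOf_mk, hi, hj]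
    exact Nat.Coprime.pow _ _ ((Nat.coprime_primes hp hr).mpr hpr)
  have := Cfsg.Agent.Lib.Helper4.Nilpotent.commute_of_coprime_orderOf H ⟨x, hxH⟩ ⟨y, hyH⟩ hc
  exact congrArg Subtype.val this

/-- an element of `H` commuting with `syl H p` and lying in it is central in `H`. -/
theorem central_of_central_syl (hH : Group.IsNilpotent H) {z : G} (hz : z ∈ syl H p)
    (hc : ∀ x ∈ syl H p, x * z = z * x) : ∀ h ∈ H, h * z = z * h := by
  obtain ⟨P⟩ : Nonempty (Sylow p H) := inferInstance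
  have hzH := syl_le H p hz
  have e := syl_eq_map hH P
  have hzP : (⟨z, hzH⟩ : H) ∈ (P : Subgroup H) := by
    rw [e] at hz
    obtain ⟨w, hw, hwz⟩ := hz
    have : w = ⟨z, hzH⟩ := Subtype.ext hwz
    rw [← this]; exact hw
  have := Cfsg.Agent.Lib.Helper4.Nilpotent.mem_center_of_mem_center_sylow P ⟨z, hzH⟩ hzP (by
    intro x hx
    have hx' : (x : G) ∈ syl H p := by rw [e]; exact ⟨x, hx, rfl⟩
    exact Subtype.ext (hc _ hx'))
  intro h hh
  have := Subgroup.mem_center_iff.mp this ⟨h, hh⟩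
  exact congrArg Subtype.val this

/-- a central element of order `p` in `H`. -/
theorem exists_central_order (hH : Group.IsNilpotent H) (hp : p ∣ Nat.card H) :
    ∃ a ∈ syl H p, orderOf a = p ∧ ∀ h ∈ H, h * a = a * h := by
  have hS := syl_isPGroup (p := p) hH
  have hne : syl H p ≠ ⊥ := syl_ne_bot hH hp
  haveI : Nontrivial (syl H p) := (Subgroup.nontrivial_iff_ne_bot _).mpr hne
  haveI := hS.center_nontrivial
  have hdvd : p ∣ Nat.card (Subgroup.center (syl H p)) := by
    obtain ⟨k, hk0, hk⟩ := (hS.to_subgroup (Subgroup.center (syl H p))).nontrivial_iff_card.mp inferInstance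
    rw [hk]; exact dvd_pow_self p hk0.ne'
  obtain ⟨z, hz⟩ := exists_prime_orderOf_dvd_card' p hdvd
  refine ⟨((z : syl H p) : G), (z : syl H p).2, ?_, ?_⟩
  · have h1 : orderOf ((z : syl H p) : G) = orderOf (z : syl H p) := Subgroup.orderOf_coe _
    have h2 : orderOf (z : syl H p) = orderOf z := Subgroup.orderOf_coe _
    rw [h1, h2, hz]
  · apply central_of_central_syl hH (z : syl H p).2
    intro x hx
    have := Subgroup.mem_center_iff.mp z.2 ⟨x, hx⟩
    exact congrArg Subtype.val this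

/-- a subgroup containing all `syl H p` contains `H`. -/
theorem le_of_forall_syl_le (hH : Group.IsNilpotent H) (L : Subgroup G)
    (h : ∀ q : ℕ, q.Prime → syl H q ≤ L) : H ≤ L := by
  have : L.subgroupOf H = ⊤ := by
    apply Cfsg.Agent.H1.eq_top_of_forall_sylow_le
    intro q hq
    obtain ⟨Q⟩ : Nonempty (Sylow q H) := inferInstance
    refine ⟨Q, ?_⟩
    intro x hx
    rw [Subgroup.mem_subgroupOf]
    apply h q hq.out
    rw [syl_eq_map hH Q]
    exact ⟨x, hx, rfl⟩
  intro x hx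
  have : (⟨x, hx⟩ : H) ∈ L.subgroupOf H := by rw [this]; trivial
  exact Subgroup.mem_subgroupOf.mp this

end nilp

/-- coprime nilpotent factorisation. -/
structure NC (H K : Subgroup G) : Prop where
  nilH : Group.IsNilpotent H
  nilK : Group.IsNilpotent K
  cop : (Nat.card H).Coprime (Nat.card K)
  fac : Fac H K

theorem NC.symm {H K : Subgroup G} (h : NC H K) : NC K H :=
  ⟨h.nilK, h.nilH, h.cop.symm, h.fac.symm⟩

theorem isNilpotent_cj (g : G) {H : Subgroup G} (hH : Group.IsNilpotent H) :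
    Group.IsNilpotent (cj g H) := by
  have e : H ≃* cj g H := H.equivMapOfInjective _ (MulAut.conj g).injective
  exact (Group.isNilpotent_congr e).mp hH

theorem NC.conj [Finite G] {H K : Subgroup G} (h : NC H K) (c d : G) : NC (cj c H) (cj d K) :=
  ⟨isNilpotent_cj c h.nilH, isNilpotent_cj d h.nilK, by rw [card_cj, card_cj]; exact h.cop,
    (h.fac.conj c d).1⟩

/-- the induction hypothesis. -/
def IH (G : Type u) [Group G] [Finite G] : Prop :=
  ∀ (G' : Type u) [Group G'] [Finite G'], Nat.card G' < Nat.card G →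
    ∀ H K : Subgroup G', NC H K → Group.IsSolvable G'

theorem card_lt_of_ne_top [Finite G] {L : Subgroup G} (hL : L ≠ ⊤) : Nat.card L < Nat.card G := by
  have h1 : Nat.card L ≤ Nat.card G := Subgroup.card_le_card_group L
  rcases h1.lt_or_eq with h | h
  · exact h
  · exact absurd ((Subgroup.card_eq_iff_eq_top L).mp h) hL

/-- a proper factorised subgroup is solvable. -/
theorem IH.solvable_sub [Finite G] (ih : IH G) {L H' K' : Subgroup G} (hL : L ≠ ⊤)
    (hH' : H' ≤ L) (hK' : K' ≤ L) (nH : Group.IsNilpotent H') (nK : Group.IsNilpotent K')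
    (hc : (Nat.card H').Coprime (Nat.card K'))
    (hf : ∀ g ∈ L, ∃ a ∈ H', ∃ b ∈ K', g = a * b) : Group.IsSolvable L := by
  apply ih L (card_lt_of_ne_top hL) (H'.subgroupOf L) (K'.subgroupOf L)
  refine ⟨?_, ?_, ?_, ?_⟩
  · exact (Group.isNilpotent_congr (Subgroup.subgroupOfEquivOfLe hH')).mpr nH
  · exact (Group.isNilpotent_congr (Subgroup.subgroupOfEquivOfLe hK')).mpr nK
  · rw [Nat.card_congr (Subgroup.subgroupOfEquivOfLe hH').toEquiv,
      Nat.card_congr (Subgroup.subgroupOfEquivOfLe hK').toEquiv]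
    exact hc
  · intro g
    obtain ⟨a, ha, b, hb, e⟩ := hf g g.2
    refine ⟨⟨a, hH' ha⟩, ?_, ⟨b, hK' hb⟩, ?_, ?_⟩
    · rw [Subgroup.mem_subgroupOf]; exact ha
    · rw [Subgroup.mem_subgroupOf]; exact hb
    · exact Subtype.ext e

/-- subgroups of nilpotent subgroups are nilpotent -/
theorem isNilpotent_of_le {U H : Subgroup G} (hH : Group.IsNilpotent H) (h : U ≤ H) :
    Group.IsNilpotent U := by
  have e : U.subgroupOf H ≃* U := Subgroup.subgroupOfEquivOfLe h
  exact (Group.isNilpotent_congr e).mp inferInstance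

theorem normal_subgroupOf_of_le_normalizer {A H : Subgroup G} (hA : A ≤ H)
    (hn : H ≤ Subgroup.normalizer (A : Set G)) : (A.subgroupOf H).Normal :=
  (Subgroup.normal_subgroupOf_iff_le_normalizer hA).mpr hn

/-- Wielandt's lemma on normalisers (S0562). -/
theorem normalizer_fac [Finite G] {H K A B : Subgroup G} (h : Fac H K) (hA : A ≤ H)
    (hAn : H ≤ Subgroup.normalizer (A : Set G)) (hB : B ≤ K)
    (hBn : K ≤ Subgroup.normalizer (B : Set G)) :
    ∀ g ∈ Subgroup.normalizer ((A ⊔ B : Subgroup G) : Set G),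
      ∃ a ∈ Subgroup.normalizer ((A ⊔ B : Subgroup G) : Set G) ⊓ H,
      ∃ b ∈ Subgroup.normalizer ((A ⊔ B : Subgroup G) : Set G) ⊓ K, g = a * b :=
  Cfsg.Agent.S0562.result H K A B h hA (normal_subgroupOf_of_le_normalizer hA hAn) hB
    (normal_subgroupOf_of_le_normalizer hB hBn)

/-- S0561 inside a solvable subgroup. -/
theorem perm_sub [Finite G] {L H' K' A B : Subgroup G} (hs : Group.IsSolvable L) (hH' : H' ≤ L)
    (hK' : K' ≤ L) (hf : ∀ g ∈ L, ∃ a ∈ H', ∃ b ∈ K', g = a * b) (hA : A ≤ H')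
    (hAn : H' ≤ Subgroup.normalizer (A : Set G)) (hB : B ≤ K')
    (hBn : K' ≤ Subgroup.normalizer (B : Set G))
    (hAh : (Nat.card A).Coprime (A.relIndex L)) (hBh : (Nat.card B).Coprime (B.relIndex L)) :
    ∃ S : Subgroup G, (S : Set G) = (A : Set G) * (B : Set G) := by
  have hAL : A ≤ L := hA.trans hH'
  have hBL : B ≤ L := hB.trans hK'
  have key := Cfsg.Agent.S0561.result (G := L) (H'.subgroupOf L) (K'.subgroupOf L)
    (A.subgroupOf L) (B.subgroupOf L) ?_ ?_ ?_ ?_ ?_ ?_ ?_ 1 1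
  · obtain ⟨S, hS⟩ := key
    refine ⟨S.map L.subtype, ?_⟩
    rw [map_one, one_smul, one_smul] at hS
    ext x
    constructor
    · rintro ⟨y, hy, rfl⟩
      have : y ∈ (S : Set L) := hy
      rw [hS] at this
      obtain ⟨a, ha, b, hb, e⟩ := this
      refine ⟨a, Subgroup.mem_subgroupOf.mp ha, b, Subgroup.mem_subgroupOf.mp hb, ?_⟩
      rw [← e]; rfl
    · rintro ⟨a, ha, b, hb, rfl⟩
      refine ⟨⟨a, hAL ha⟩ * ⟨b, hBL hb⟩, ?_, rfl⟩
      show _ ∈ (S : Set L)
      rw [hS]
      exact ⟨⟨a, hAL ha⟩, Subgroup.mem_subgroupOf.mpr ha, ⟨b, hBL hb⟩, Subgroup.mem_subgroupOf.mpr hb, rfl⟩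
  · intro g
    obtain ⟨a, ha, b, hb, e⟩ := hf g g.2
    exact ⟨⟨a, hH' ha⟩, Subgroup.mem_subgroupOf.mpr ha, ⟨b, hK' hb⟩, Subgroup.mem_subgroupOf.mpr hb,
      Subtype.ext e⟩
  · intro x hx
    exact Subgroup.mem_subgroupOf.mpr (hA (Subgroup.mem_subgroupOf.mp hx))
  · apply normal_subgroupOf_of_le_normalizer
    · intro x hx
      exact Subgroup.mem_subgroupOf.mpr (hA (Subgroup.mem_subgroupOf.mp hx))
    · intro x hx
      have := hAn (Subgroup.mem_subgroupOf.mp hx)
      rw [Subgroup.mem_normalizer_iff] at this ⊢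
      intro y
      rw [Subgroup.mem_subgroupOf, Subgroup.mem_subgroupOf]
      exact this y
  · intro x hx
    exact Subgroup.mem_subgroupOf.mpr (hB (Subgroup.mem_subgroupOf.mp hx))
  · apply normal_subgroupOf_of_le_normalizer
    · intro x hx
      exact Subgroup.mem_subgroupOf.mpr (hB (Subgroup.mem_subgroupOf.mp hx))
    · intro x hx
      have := hBn (Subgroup.mem_subgroupOf.mp hx)
      rw [Subgroup.mem_normalizer_iff] at this ⊢
      intro y
      rw [Subgroup.mem_subgroupOf, Subgroup.mem_subgroupOf]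
      exact this y
  · rw [Nat.card_congr (Subgroup.subgroupOfEquivOfLe hAL).toEquiv]
    exact hAh
  · rw [Nat.card_congr (Subgroup.subgroupOfEquivOfLe hBL).toEquiv]
    exact hBh

/-- Kegel's lemma (S0566) for normal subgroups of the factors of a simple group. -/
theorem eq_top_of_perm [Finite G] [IsSimpleGroup G] {H K A B : Subgroup G} (h : Fac H K)
    (hAn : H ≤ Subgroup.normalizer (A : Set G))
    (hBn : K ≤ Subgroup.normalizer (B : Set G)) (hA1 : A ≠ ⊥) (hB1 : B ≠ ⊥)
    (S : Subgroup G) (hS : (S : Set G) = (A : Set G) * (B : Set G)) : S = ⊤ := by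
  by_contra hS'
  obtain ⟨N, hN, hNt, hAB⟩ := Cfsg.Agent.S0566.result A B hA1 hB1 (by
    intro x
    obtain ⟨a, ha, b, hb, e⟩ := h x
    refine ⟨cj a S, ?_, ?_⟩
    · intro ht
      apply hS'
      have : cj a⁻¹ (cj a S) = S := cj_inv_cj a S
      rw [ht] at this
      rw [← this]
      ext y
      simp only [Subgroup.mem_top, iff_true]
      rw [mem_cj]; trivial
    · have hb' : cj b B = B := cj_eq_of_mem_normalizer (hBn hb)
      have ha' : cj a A = A := cj_eq_of_mem_normalizer (hAn ha)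
      have e1 : (MulAut.conj x • B : Subgroup G) = cj a B := by
        show cj x B = cj a B
        rw [e, ← cj_mul, hb']
      rw [e1]
      ext y
      constructor
      · intro hy
        have hy' : a⁻¹ * y * a ∈ (S : Set G) := (mem_cj a y S).mp hy
        rw [hS] at hy'
        obtain ⟨u, hu, v, hv, e2⟩ := hy'
        refine ⟨a * u * a⁻¹, ?_, a * v * a⁻¹, ?_, ?_⟩
        · have : a * u * a⁻¹ ∈ cj a A := by
            rw [mem_cj]; have : a⁻¹ * (a * u * a⁻¹) * a = u := by group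
            rw [this]; exact hu
          rw [ha'] at this; exact this
        · show a * v * a⁻¹ ∈ cj a B
          rw [mem_cj]; have : a⁻¹ * (a * v * a⁻¹) * a = v := by group
          rw [this]; exact hv
        · show a * u * a⁻¹ * (a * v * a⁻¹) = y
          have : a * u * a⁻¹ * (a * v * a⁻¹) = a * (u * v) * a⁻¹ := by group
          rw [this]
          have e3 : u * v = a⁻¹ * y * a := e2
          rw [e3]; group
      · rintro ⟨u, hu, v, hv, rfl⟩
        show u * v ∈ cj a S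
        rw [mem_cj]
        show _ ∈ (S : Set G)
        rw [hS]
        refine ⟨a⁻¹ * u * a, ?_, a⁻¹ * v * a, ?_, by group⟩
        · have : u ∈ cj a A := by rw [ha']; exact hu
          exact (mem_cj a u A).mp this
        · exact (mem_cj a v B).mp hv)
  rcases hN.eq_bot_or_eq_top with h0 | h0
  · rcases hAB with h1 | h1
    · exact hA1 (eq_bot_iff.mpr (h0 ▸ h1))
    · exact hB1 (eq_bot_iff.mpr (h0 ▸ h1))
  · exact hNt h0

end Cfsg.Agent.Lib.Helper7.KW
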