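import Mathlib
import Cfsg.Agent.Lib.Helper7.KWBase
import Cfsg.Agent.Lib.Helper7.SylowLib

set_option autoImplicit false
set_option linter.style.haveILetI false
set_option linter.unusedSectionVars false
set_option linter.unusedVariables false

namespace Cfsg.Agent.Lib.Helper7.KW

open Cfsg Cfsg.Agent.Lib.Helper7
open scoped Pointwise

universe u
variable {G : Type u} [Group G] [Finite G]

theorem cj_normalizer_eq {a : G} {N : Subgroup G} (ha : a ∈ Subgroup.normalizer (N : Set G)) :
    cj a N = N := cj_eq_of_mem_normalizer ha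

theorem isSylowIn_cj {t : ℕ} {T N : Subgroup G} {a : G} (ha : a ∈ Subgroup.normalizer (N : Set G))
    (hT : IsSylowIn t T N) : IsSylowIn t (cj a T) N := by
  refine ⟨?_, ?_⟩
  · have := cj_mono a hT.1
    rwa [cj_normalizer_eq ha] at this
  · rw [card_cj]; exact hT.2

/-- the Sylow subgroups of `N` in ambient form are in bijection with `Sylow t N`. -/
noncomputable def sylEquiv (t : ℕ) [Fact t.Prime] (N : Subgroup G) :
    {T : Subgroup G // IsSylowIn t T N} ≃ Sylow t N where
  toFun T := Sylow.ofCard (T.1.subgroupOf N) (by rw [card_subgroupOf_of_le T.2.1]; exact T.2.2)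
  invFun P := ⟨(P : Subgroup N).map N.subtype, IsSylowIn.of_sylow P⟩
  left_inv T := by
    apply Subtype.ext
    simp only [Sylow.coe_ofCard]
    exact Subgroup.map_subgroupOf_eq_of_le T.2.1
  right_inv P := by
    apply Sylow.ext
    simp only [Sylow.coe_ofCard]
    ext x
    rw [Subgroup.mem_subgroupOf]
    constructor
    · rintro ⟨y, hy, e⟩
      have : y = x := Subtype.ext e
      rw [← this]; exact hy
    · intro hx
      exact ⟨x, hx, rfl⟩

/-- an element of `r`-power order normalising `N`, `r ∤ |N|`, normalises some Sylow `t`-subgroup of `N`. -/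
theorem exists_invariant_sylow {N : Subgroup G} {a : G} (ha : a ∈ Subgroup.normalizer (N : Set G))
    {r n : ℕ} (hr : r.Prime) (har : a ^ r ^ n = 1) (hrN : ¬ r ∣ Nat.card N) {t : ℕ} (ht : t.Prime) :
    ∃ T : Subgroup G, IsSylowIn t T N ∧ a ∈ Subgroup.normalizer (T : Set G) := by
  classical
  haveI := Fact.mk hr
  haveI := Fact.mk ht
  haveI : Fintype {T : Subgroup G // IsSylowIn t T N} := Fintype.ofFinite _
  have hainv : a⁻¹ ∈ Subgroup.normalizer (N : Set G) := Subgroup.inv_mem _ ha
  let σ : Equiv.Perm {T : Subgroup G // IsSylowIn t T N} :=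
    { toFun := fun T => ⟨cj a T.1, isSylowIn_cj ha T.2⟩
      invFun := fun T => ⟨cj a⁻¹ T.1, isSylowIn_cj hainv T.2⟩
      left_inv := fun T => Subtype.ext (cj_inv_cj a T.1)
      right_inv := fun T => Subtype.ext (cj_cj_inv a T.1) }
  have hpow : ∀ (k : ℕ) (T : {T : Subgroup G // IsSylowIn t T N}), ((σ ^ k) T).1 = cj (a ^ k) T.1 := by
    intro k
    induction k with
    | zero => intro T; simp [cj_one]
    | succ k ihk =>
      intro T
      rw [pow_succ', Equiv.Perm.mul_apply]
      show cj a ((σ ^ k) T).1 = _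
      rw [ihk, cj_mul, pow_succ']
  have hσ : σ ^ r ^ n = 1 := by
    ext T
    rw [hpow, har, cj_one]; rfl
  have hcard : ¬ r ∣ Fintype.card {T : Subgroup G // IsSylowIn t T N} := by
    rw [← Nat.card_eq_fintype_card, Nat.card_congr (sylEquiv t N)]
    intro hd
    apply hrN
    obtain ⟨P⟩ : Nonempty (Sylow t N) := inferInstance
    exact hd.trans ((Sylow.card_dvd_index P).trans (Subgroup.index_dvd_card _))
  obtain ⟨T, hT⟩ := Equiv.Perm.exists_fixed_point_of_prime hcard hσ
  refine ⟨T.1, T.2, mem_normalizer_of_cj_eq ?_⟩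
  exact congrArg Subtype.val hT

end Cfsg.Agent.Lib.Helper7.KW
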