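import Mathlib
import Cfsg.Prelude.Def_Local
import Cfsg.Agent.Lib.Helper7.ItoP2
import Cfsg.Agent.Lib.Helper7.ItoP4
import Cfsg.Agent.Lib.Helper7.KWInv
import Cfsg.Agent.Lib.Lead.PSolvable

set_option autoImplicit false
set_option linter.style.haveILetI false
set_option linter.unusedSectionVars false

namespace Cfsg.Agent.Lib.Helper7.ItoP

open scoped commutatorElement

universe u

variable {G : Type u} [Group G] {p : ℕ}

/-- Every proper subgroup has normal Sylow `p`-subgroups. -/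
def MinNN (p : ℕ) (G : Type*) [Group G] : Prop :=
  ∀ L : Subgroup G, L ≠ ⊤ → ∀ S : Sylow p L, (S : Subgroup L).Normal

theorem conj_pow_mem {R : Subgroup G} {x : G} (hxR : ∀ r ∈ R, x * r * x⁻¹ ∈ R) (k : ℕ) :
    ∀ r ∈ R, x ^ k * r * (x ^ k)⁻¹ ∈ R := by
  induction k with
  | zero => intro r hr; simpa using hr
  | succ k ih =>
    intro r hr
    have h1 : x ^ (k + 1) * r * (x ^ (k + 1))⁻¹ = x * (x ^ k * r * (x ^ k)⁻¹) * x⁻¹ := by
      rw [pow_succ']
      group
    rw [h1]
    exact hxR _ (ih r hr)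

theorem conj_inv_mem {R : Subgroup G} {x : G} {k : ℕ} (hk : 0 < k) (hx : x ^ k = 1)
    (hxR : ∀ r ∈ R, x * r * x⁻¹ ∈ R) : ∀ r ∈ R, x⁻¹ * r * x ∈ R := by
  intro r hr
  have h1 : x⁻¹ = x ^ (k - 1) := by
    have : x ^ (k - 1) * x = 1 := by rw [← pow_succ, Nat.sub_add_cancel hk, hx]
    exact (eq_inv_of_mul_eq_one_left this).symm
  have h2 := conj_pow_mem hxR (k - 1) r hr
  rw [← h1, inv_inv] at h2
  exact h2

theorem mem_normalizer_of_conj_mem {R : Subgroup G} {x : G} {k : ℕ} (hk : 0 < k) (hx : x ^ k = 1)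
    (hxR : ∀ r ∈ R, x * r * x⁻¹ ∈ R) : x ∈ Subgroup.normalizer (R : Set G) := by
  rw [Subgroup.mem_normalizer_iff]
  intro r
  constructor
  · exact hxR r
  · intro h
    have := conj_inv_mem hk hx hxR _ h
    have e : x⁻¹ * (x * r * x⁻¹) * x = r := by group
    rwa [e] at this

/-- In a group all of whose proper subgroups have normal Sylow `p`-subgroups, a `p`-element
normalizing a `p'`-subgroup `R` with `R ⟨x⟩ ≠ G` centralizes `R`. -/
theorem MinNN.comm [Finite G] (hp : p.Prime) (hmin : MinNN p G) {R : Subgroup G}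
    (hR : (Nat.card R).Coprime p) {x : G} {m : ℕ} (hx : x ^ (p ^ m) = 1)
    (hxR : ∀ r ∈ R, x * r * x⁻¹ ∈ R) (hne : R ⊔ Subgroup.zpowers x ≠ ⊤) :
    ∀ r ∈ R, x * r = r * x := by
  haveI := Fact.mk hp
  set L := R ⊔ Subgroup.zpowers x with hL
  have hRL : R ≤ L := le_sup_left
  have hxL : x ∈ L := (le_sup_right : Subgroup.zpowers x ≤ L) (Subgroup.mem_zpowers x)
  have hZp : IsPGroup p (Subgroup.zpowers (⟨x, hxL⟩ : L)) := by
    rintro ⟨g, hg⟩
    refine ⟨m, ?_⟩
    obtain ⟨i, rfl⟩ := Subgroup.mem_zpowers_iff.mp hg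
    apply Subtype.ext
    have h1 : (⟨x, hxL⟩ : L) ^ (p ^ m) = 1 := Subtype.ext (by simpa using hx)
    show ((⟨x, hxL⟩ : L) ^ i) ^ (p ^ m) = 1
    rw [← zpow_natCast, ← zpow_mul, mul_comm, zpow_mul, zpow_natCast, h1, one_zpow]
  obtain ⟨S, hS⟩ := hZp.exists_le_sylow
  haveI hSn := hmin L hne S
  have hxN : x ∈ Subgroup.normalizer (R : Set G) :=
    mem_normalizer_of_conj_mem (pow_pos hp.pos m) hx hxR
  haveI hRn : (R.subgroupOf L).Normal :=
    (Subgroup.normal_subgroupOf_iff_le_normalizer hRL).2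
      (sup_le Subgroup.le_normalizer ((Subgroup.zpowers_le).2 hxN))
  have hdis : Disjoint (S : Subgroup L) (R.subgroupOf L) := by
    apply Subgroup.disjoint_of_coprime_natCard
    obtain ⟨k, hk⟩ := IsPGroup.iff_card.mp S.isPGroup'
    rw [hk, Cfsg.Agent.Lib.Helper7.card_subgroupOf_of_le hRL]
    exact (Nat.Coprime.pow_left k hR.symm)
  intro r hr
  have := Subgroup.commute_of_normal_of_disjoint _ _ hSn hRn hdis ⟨x, hxL⟩ ⟨r, hRL hr⟩
    (hS (Subgroup.mem_zpowers _)) (Subgroup.mem_subgroupOf.2 hr)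
  exact congrArg Subtype.val this.eq

theorem MinNN.eq_top_of_normal [Finite G] (hp : p.Prime) (hmin : MinNN p G) (P : Sylow p G)
    (hP : ¬ (P : Subgroup G).Normal) (M : Subgroup G) [hM : M.Normal]
    (hPM : (P : Subgroup G) ≤ M) : M = ⊤ := by
  haveI := Fact.mk hp
  by_contra hne
  apply hP
  have h1 : ((P.subtype hPM : Sylow p M) : Subgroup M).Normal := hmin M hne _
  haveI h2 : ((P.subtype hPM : Sylow p M) : Subgroup M).Characteristic :=
    Sylow.characteristic_of_normal _ h1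
  have h3 := ConjAct.normal_of_characteristic_of_normal (H := M)
    (K := ((P.subtype hPM : Sylow p M) : Subgroup M))
  rw [Sylow.coe_subtype, Subgroup.map_subgroupOf_eq_of_le hPM] at h3
  exact h3

open Cfsg Cfsg.Agent.Lib.Lead.PSolvable in
theorem MinNN.sup_pPrimeCore [Finite G] (hp : p.Prime) (hmin : MinNN p G)
    (hsolv : IsPSolvable p G) (P : Sylow p G) (hP : ¬ (P : Subgroup G).Normal)
    (hab : ∀ a ∈ P, ∀ b ∈ P, a * b = b * a) :
    (P : Subgroup G) ⊔ pPrimeCore p G = ⊤ := by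
  haveI := Fact.mk hp
  set M := pPrimePCore p G with hM
  haveI hMn : M.Normal := pPrimePCore_normal
  have hS : IsSylowIn p ((P : Subgroup G) ⊓ M) M :=
    (IsSylowIn.of_sylow_top P).inf_normal M le_top
      (by rw [Subgroup.normalizer_eq_top_iff.2 hMn])
  obtain ⟨R, hR⟩ := hS.exists_sylow
  have hRmap : (R : Subgroup M).map M.subtype = (P : Subgroup G) ⊓ M := by
    rw [hR, Subgroup.map_subgroupOf_eq_of_le inf_le_right]
  have hcon := (IsPSolvable.isPConstrained hsolv) R
  rw [hRmap] at hcon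
  have hPM : (P : Subgroup G) ≤ M := by
    intro a ha
    apply hcon
    rw [Subgroup.mem_centralizer_iff]
    intro b hb
    exact hab b hb.1 a ha
  have htop := hmin.eq_top_of_normal hp P hP M hPM
  have := sylow_sup_pPrimeCore R
  rw [hRmap, inf_eq_left.2 hPM, ← hM, htop] at this
  exact this

/-- an element of a `p`-group different from one has order divisible by `p`, hence its `p`-th
power has smaller order -/
theorem orderOf_pow_lt (hp : p.Prime) {x : G} {m : ℕ} (hx : x ^ (p ^ m) = 1) (hx1 : x ≠ 1) :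
    orderOf (x ^ p) < orderOf x := by
  have h1 : orderOf x ∣ p ^ m := orderOf_dvd_of_pow_eq_one hx
  obtain ⟨j, -, hj⟩ := (Nat.dvd_prime_pow hp).1 h1
  have hj0 : j ≠ 0 := by
    rintro rfl
    rw [pow_zero, orderOf_eq_one_iff] at hj
    exact hx1 hj
  have hdvd : p ∣ orderOf x := by
    rw [hj]
    exact dvd_pow_self p hj0
  rw [orderOf_pow_of_dvd hp.ne_zero hdvd]
  exact Nat.div_lt_self (by rw [hj]; exact pow_pos hp.pos j) hp.one_lt

/-- a subgroup containing, for every prime `t`, a subgroup of order the full `t`-part of `|Q|`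
contains `Q` -/
theorem le_of_forall_sylow_le [Finite G] {Q C : Subgroup G} (hCQ : C ≤ Q)
    (h : ∀ t : ℕ, t.Prime → ∃ T : Subgroup G, IsSylowIn t T Q ∧ T ≤ C) : C = Q := by
  apply Subgroup.eq_of_le_of_card_ge hCQ
  apply Nat.le_of_dvd Nat.card_pos
  rw [← Nat.factorization_le_iff_dvd Nat.card_pos.ne' Nat.card_pos.ne']
  intro t
  by_cases ht : t.Prime
  · obtain ⟨T, hT, hTC⟩ := h t ht
    rw [← ht.pow_dvd_iff_le_factorization Nat.card_pos.ne', ← hT.2]
    exact Subgroup.card_dvd_of_le hTC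
  · rw [Nat.factorization_eq_zero_of_not_prime _ ht]
    exact Nat.zero_le _

open Cfsg Cfsg.Agent.Lib.Lead.PSolvable in
/-- **The minimal configuration.** -/
theorem MinNN.exists_config [Finite G] (hp : p.Prime) (hmin : MinNN p G)
    (hsolv : IsPSolvable p G) (P : Sylow p G) (hP : ¬ (P : Subgroup G).Normal)
    (hab : ∀ a ∈ P, ∀ b ∈ P, a * b = b * a) :
    ∃ (Q : Subgroup G) (x : G) (m t k : ℕ), Config p Q x ∧ Q ⊔ Subgroup.zpowers x = ⊤ ∧
      ⁅Q, Q⁆ ≠ Q ∧ x ^ (p ^ m) = 1 ∧ t.Prime ∧ Nat.card Q = t ^ k := by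
  classical
  letI : Fintype G := Fintype.ofFinite G
  haveI := Fact.mk hp
  set K := pPrimeCore p G with hK
  haveI hKn : K.Normal := Cfsg.Agent.H1.pPrimeCore_normal p
  have hKc : (Nat.card K).Coprime p := Cfsg.Agent.H1.pPrimeCore_coprime p
  have hPK : (P : Subgroup G) ⊔ K = ⊤ := hmin.sup_pPrimeCore hp hsolv P hP hab
  -- some element of `P` does not centralize `K`
  have hex : ∃ x ∈ (P : Subgroup G), ¬ ∀ k ∈ K, x * k = k * x := by
    by_contra hcon
    push Not at hcon
    apply hP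
    rw [← Subgroup.normalizer_eq_top_iff, eq_top_iff, ← hPK]
    apply sup_le Subgroup.le_normalizer
    refine le_trans ?_ (Subgroup.centralizer_le_normalizer _)
    intro k hk
    rw [Subgroup.mem_centralizer_iff]
    intro a ha
    exact hcon a ha k hk
  -- choose one of minimal order
  obtain ⟨x, ⟨hxP, hxK⟩, hxmin⟩ := Set.exists_min_image
    {x : G | x ∈ (P : Subgroup G) ∧ ¬ ∀ k ∈ K, x * k = k * x} orderOf (Set.toFinite _)
    (by obtain ⟨x, h1, h2⟩ := hex; exact ⟨x, h1, h2⟩)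
  obtain ⟨m, hxm⟩ : ∃ m : ℕ, x ^ (p ^ m) = 1 := by
    obtain ⟨m, hm⟩ := P.isPGroup' ⟨x, hxP⟩
    exact ⟨m, by simpa using congrArg Subtype.val hm⟩
  have hx1 : x ≠ 1 := by
    rintro rfl
    apply hxK
    intro k _
    rw [one_mul, mul_one]
  have hxpK : ∀ k ∈ K, x ^ p * k = k * x ^ p := by
    by_contra hcon
    have := hxmin (x ^ p) ⟨Subgroup.pow_mem _ hxP p, hcon⟩
    exact absurd (orderOf_pow_lt hp hxm hx1) (not_lt.2 this)
  have hxKinv : ∀ r ∈ K, x * r * x⁻¹ ∈ K := fun r hr => hKn.conj_mem r hr x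
  -- choose a minimal `x`-invariant subgroup of `K` not centralized by `x`
  obtain ⟨Q, ⟨hQK, hQinv, hQx⟩, hQmin⟩ := Set.exists_min_image
    {R : Subgroup G | R ≤ K ∧ (∀ r ∈ R, x * r * x⁻¹ ∈ R) ∧ ¬ ∀ r ∈ R, x * r = r * x}
    (fun R => Nat.card R) (Set.toFinite _) ⟨K, le_refl _, hxKinv, hxK⟩
  have hQc : (Nat.card Q).Coprime p :=
    Nat.Coprime.coprime_dvd_left (Subgroup.card_dvd_of_le hQK) hKc
  have hmin' : ∀ R : Subgroup G, R ≤ Q → R ≠ Q → (∀ r ∈ R, x * r * x⁻¹ ∈ R) →
      ∀ r ∈ R, x * r = r * x := by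
    intro R hRQ hne hRinv
    by_contra hcon
    have := hQmin R ⟨hRQ.trans hQK, hRinv, hcon⟩
    exact hne (Subgroup.eq_of_le_of_card_ge hRQ this)
  have htop : Q ⊔ Subgroup.zpowers x = ⊤ := by
    by_contra hne
    exact hQx (hmin.comm hp hQc hxm hQinv hne)
  have hxN : x ∈ Subgroup.normalizer (Q : Set G) :=
    mem_normalizer_of_conj_mem (pow_pos hp.pos m) hxm hQinv
  have hQn : Q.Normal := by
    rw [← Subgroup.normalizer_eq_top_iff, eq_top_iff, ← htop]
    exact sup_le Subgroup.le_normalizer ((Subgroup.zpowers_le).2 hxN)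
  have hcfg : Config p Q x := by
    refine ⟨hQn, hQc, ?_, ?_, hmin'⟩
    · apply mem_center_of_comm htop
      · intro q hq
        exact (hxpK q (hQK hq)).symm
      · rw [← pow_succ', ← pow_succ]
    · by_contra hcon
      push Not at hcon
      exact hQx hcon
  -- `Q` is a `t`-group
  have hexT : ∃ t : ℕ, t.Prime ∧ IsSylowIn t Q Q := by
    by_contra hcon
    push Not at hcon
    apply hQx
    set C : Subgroup G := Q ⊓ Subgroup.centralizer ({x} : Set G) with hC
    have hCQ : C = Q := by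
      apply le_of_forall_sylow_le inf_le_left
      intro t ht
      obtain ⟨T, hT, hxT⟩ := KW.exists_invariant_sylow hxN hp hxm
        (by rw [← Nat.Prime.coprime_iff_not_dvd hp]; exact hQc.symm) ht
      refine ⟨T, hT, le_inf hT.1 ?_⟩
      have hTne : T ≠ Q := by
        rintro rfl
        exact hcon t ht hT
      have hTinv : ∀ r ∈ T, x * r * x⁻¹ ∈ T := by
        intro r hr
        exact ((Subgroup.mem_normalizer_iff.1 hxT) r).1 hr
      intro r hr
      rw [Subgroup.mem_centralizer_iff]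
      intro y hy
      rw [Set.mem_singleton_iff] at hy
      rw [hy]
      exact hmin' T hT.1 hTne hTinv r hr
    intro r hr
    have : r ∈ C := by rw [hCQ]; exact hr
    have h2 := (Subgroup.mem_centralizer_iff.1 this.2) x rfl
    exact h2
  obtain ⟨t, ht, hT⟩ := hexT
  -- `Q` is not perfect
  have hder : ⁅Q, Q⁆ ≠ Q := by
    haveI := Fact.mk ht
    haveI : Group.IsNilpotent Q := (IsPGroup.of_card hT.2).isNilpotent
    haveI : Nontrivial Q := by
      obtain ⟨y, hy, hxy⟩ := hcfg.not_comm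
      refine ⟨⟨⟨y, hy⟩, 1, ?_⟩⟩
      intro h
      have : y = 1 := congrArg Subtype.val h
      rw [this, mul_one, one_mul] at hxy
      exact hxy rfl
    have hlt := Group.IsSolvable.commutator_lt_top_of_nontrivial (G := Q)
    intro heq
    rw [← Subgroup.map_subtype_commutator] at heq
    apply hlt.ne
    apply Subgroup.map_injective Q.subtype_injective
    rw [heq, ← MonoidHom.range_eq_map, Subgroup.range_subtype]
  exact ⟨Q, x, m, t, _, hcfg, htop, hder, hxm, ht, hT.2⟩

end Cfsg.Agent.Lib.Helper7.ItoP
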