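import Mathlib
import Cfsg.Prelude.Def_OddOrderLocal

/-!
# B&G Section 13/14 (helper7): hypothesis `HypIV` (statement (iv) of the blueprint, Part 15)

`(iv)` = B&G 14.2(c) = S1430(3c): if `R ≤ M` has prime order `r ∈ τ₁(M) ∪ τ₃(M)` and centralizes a
non-identity element of `M_σ`, then `r ∈ σ(L)` for every maximal subgroup `L ⊇ N_G(R)`.
It is used as a `Prop` hypothesis in the proof of Theorem T / Lemma B / Theorem P (S1430(1)).
-/

set_option autoImplicit false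
open Cfsg

namespace Cfsg.Agent.Lib.Helper7.BG13

universe u

/-- statement (iv): `r ∈ τ₁(M) ∪ τ₃(M)`, `R ≤ M` of order `r`, `C_{M_σ}(R) ≠ 1`,
`L` maximal containing `N_G(R)`; then `r ∈ σ(L)`. -/
def HypIV (G : Type u) [Group G] : Prop :=
  ∀ (M : Subgroup G), IsCoatom M → ∀ (r : ℕ) (R : Subgroup G),
    (r ∈ Cfsg.tau1 M ∨ r ∈ Cfsg.tau3 M) → R ≤ M → Nat.card ↥R = r →
    Cfsg.sigmaCore M ⊓ Subgroup.centralizer (R : Set G) ≠ ⊥ →
    ∀ L : Subgroup G, IsCoatom L → Subgroup.normalizer (R : Set G) ≤ L → r ∈ Cfsg.sigma L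

end Cfsg.Agent.Lib.Helper7.BG13
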