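import Mathlib

set_option autoImplicit false

namespace Cfsg.Agent.Lib.Helper7

theorem exists_linearEquiv_of_card {W : Type*} [AddCommGroup W] (p n : ℕ) [Fact p.Prime]
    [Module (ZMod p) W] [Finite W] (hcard : Nat.card W = p ^ n) :
    Nonempty (W ≃ₗ[ZMod p] (Fin n → ZMod p)) := by
  haveI : Module.Finite (ZMod p) W := Module.Finite.of_finite
  have hfr : Module.finrank (ZMod p) W = n := by
    have h1 : Nat.card W = Nat.card (ZMod p) ^ Module.finrank (ZMod p) W :=
      Module.natCard_eq_pow_finrank
    rw [Nat.card_zmod, hcard] at h1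
    exact (Nat.pow_right_injective (Fact.out : p.Prime).two_le h1).symm
  exact ⟨(Module.finBasisOfFinrankEq (ZMod p) W hfr).equivFun⟩

/-- Additive automorphisms of a `ZMod p`-module are linear. -/
def mulAutEquivLinear {V : Type*} [CommGroup V] (p : ℕ) [Module (ZMod p) (Additive V)] :
    MulAut V ≃* (Additive V ≃ₗ[ZMod p] Additive V) where
  toFun := fun α => AddEquiv.toLinearEquiv (MulEquiv.toAdditive α)
    (fun c x => ZMod.map_smul (MulEquiv.toAdditive α) c x)
  invFun := fun f => MulEquiv.toAdditive.symm f.toAddEquiv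
  left_inv := fun α => by ext x; rfl
  right_inv := fun f => by ext x; rfl
  map_mul' := fun α β => by
    ext x
    rw [LinearEquiv.mul_apply]
    rfl

theorem mulAut_equiv_gl_of_module {V : Type*} [CommGroup V] [Finite V] (p n : ℕ) [Fact p.Prime]
    [Module (ZMod p) (Additive V)] (hcard : Nat.card V = p ^ n) :
    Nonempty (MulAut V ≃* GL (Fin n) (ZMod p)) := by
  haveI : Finite (Additive V) := inferInstanceAs (Finite V)
  obtain ⟨e₁⟩ := exists_linearEquiv_of_card (W := Additive V) p n hcard
  exact ⟨(mulAutEquivLinear p).trans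
    ((LinearMap.GeneralLinearGroup.generalLinearEquiv (ZMod p) (Additive V)).symm.trans
    ((LinearMap.GeneralLinearGroup.congrLinearEquiv e₁).trans Matrix.GeneralLinearGroup.toLin.symm))⟩

/-- The automorphism group of an elementary abelian `p`-group of order `p ^ n` is `GL n p`. -/
theorem mulAut_equiv_gl {V : Type*} [CommGroup V] [Finite V] (p n : ℕ) [Fact p.Prime]
    (hV : ∀ x : V, x ^ p = 1) (hcard : Nat.card V = p ^ n) :
    Nonempty (MulAut V ≃* GL (Fin n) (ZMod p)) := by
  have hW : ∀ x : Additive V, p • x = 0 := fun x => hV (Additive.toMul x)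
  exact @mulAut_equiv_gl_of_module V _ _ p n _ (AddCommGroup.zmodModule hW) hcard

end Cfsg.Agent.Lib.Helper7
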