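import Mathlib
import Cfsg.Agent.S0260

set_option autoImplicit false

namespace Cfsg.Agent.Lib.Helper7

open Matrix

variable (p : ℕ) [Fact p.Prime]

local notation "SL2p" => Matrix.SpecialLinearGroup (Fin 2) (ZMod p)
local notation "GL2p" => GL (Fin 2) (ZMod p)

theorem mem_range_toGL_iff (g : GL2p) :
    g ∈ (Matrix.SpecialLinearGroup.toGL : SL2p →* GL2p).range ↔
      Matrix.GeneralLinearGroup.det g = 1 := by
  constructor
  · rintro ⟨s, rfl⟩
    ext
    simp
  · intro h
    have h1 : (g : Matrix (Fin 2) (Fin 2) (ZMod p)).det = 1 := by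
      have := congrArg Units.val h
      simpa using this
    refine ⟨⟨g, h1⟩, ?_⟩
    apply Units.ext
    rfl

theorem det_eq_one_of_pow_p (g : GL2p) (hg : g ^ p = 1) :
    Matrix.GeneralLinearGroup.det g = 1 := by
  have hp : p.Prime := Fact.out
  have h1 : (Matrix.GeneralLinearGroup.det g) ^ p = 1 := by
    rw [← map_pow, hg, map_one]
  have h2 : (Matrix.GeneralLinearGroup.det g) ^ (p - 1) = 1 :=
    ZMod.units_pow_card_sub_one_eq_one p _
  have hcop : Nat.Coprime p (p - 1) := by
    have : p - 1 + 1 = p := Nat.sub_add_cancel hp.pos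
    rw [Nat.coprime_comm]
    nth_rewrite 2 [← this]
    simp
  have h3 := pow_gcd_eq_one.mpr ⟨h1, h2⟩
  rw [hcop.gcd_eq_one, pow_one] at h3
  exact h3

theorem card_sl2p_factorization :
    (Nat.card SL2p).factorization p = 1 := by
  have hp : p.Prime := Fact.out
  rw [Cfsg.Agent.S0262.card_sl_two, ZMod.card]
  have h1 : ¬ p ∣ p - 1 := by
    intro h
    have := Nat.le_of_dvd (by have := hp.two_le; omega) h
    have := hp.pos
    omega
  have h2 : ¬ p ∣ p + 1 := by
    intro h
    have := (Nat.dvd_add_right (dvd_refl p)).mp h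
    exact hp.one_lt.ne' (Nat.dvd_one.mp this)
  have hp0 : p ≠ 0 := hp.ne_zero
  have hp1 : p - 1 ≠ 0 := by have := hp.two_le; omega
  rw [Nat.factorization_mul (Nat.mul_ne_zero hp0 hp1) (by omega),
    Nat.factorization_mul hp0 hp1, Finsupp.add_apply, Finsupp.add_apply,
    Nat.factorization_eq_zero_of_not_dvd h1, Nat.factorization_eq_zero_of_not_dvd h2,
    hp.factorization_self]

/-- Two distinct subgroups of order `p` of `GL₂(p)` generate a subgroup containing `SL₂(p)`. -/
theorem range_toGL_le_sup (P₁ P₂ : Subgroup GL2p) (h₁ : Nat.card P₁ = p) (h₂ : Nat.card P₂ = p)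
    (hne : P₁ ≠ P₂) :
    (Matrix.SpecialLinearGroup.toGL : SL2p →* GL2p).range ≤ P₁ ⊔ P₂ := by
  have hinj : Function.Injective (Matrix.SpecialLinearGroup.toGL : SL2p →* GL2p) :=
    Matrix.SpecialLinearGroup.toGL_injective
  have hle : ∀ (P : Subgroup GL2p), Nat.card P = p →
      P ≤ (Matrix.SpecialLinearGroup.toGL : SL2p →* GL2p).range := by
    intro P hP g hg
    rw [mem_range_toGL_iff]
    apply det_eq_one_of_pow_p
    have h0 : (⟨g, hg⟩ : P) ^ Nat.card P = 1 := pow_card_eq_one'
    have h00 : (g : GL2p) ^ Nat.card P = 1 := congrArg Subtype.val h0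
    rw [hP] at h00
    exact h00
  have hmap : ∀ (P : Subgroup GL2p), Nat.card P = p →
      (P.comap (Matrix.SpecialLinearGroup.toGL : SL2p →* GL2p)).map
        (Matrix.SpecialLinearGroup.toGL : SL2p →* GL2p) = P := fun P hP =>
    Subgroup.map_comap_eq_self (hle P hP)
  have hcard : ∀ (P : Subgroup GL2p), Nat.card P = p →
      Nat.card (P.comap (Matrix.SpecialLinearGroup.toGL : SL2p →* GL2p)) =
        p ^ (Nat.card SL2p).factorization p := by
    intro P hP
    rw [card_sl2p_factorization, pow_one]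
    conv_rhs => rw [← hP, ← hmap P hP]
    exact (Subgroup.card_map_of_injective hinj).symm
  let S₁ : Sylow p SL2p := Sylow.ofCard _ (hcard P₁ h₁)
  let S₂ : Sylow p SL2p := Sylow.ofCard _ (hcard P₂ h₂)
  have hS : S₁ ≠ S₂ := by
    intro h
    apply hne
    have h' : (S₁ : Subgroup SL2p) = S₂ := congrArg _ h
    rw [Sylow.coe_ofCard, Sylow.coe_ofCard] at h'
    rw [← hmap P₁ h₁, ← hmap P₂ h₂, h']
  have htop := Cfsg.Agent.S0260.result p S₁ S₂ hS
  rw [Sylow.coe_ofCard, Sylow.coe_ofCard] at htop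
  rw [MonoidHom.range_eq_map, ← htop, Subgroup.map_sup, hmap P₁ h₁, hmap P₂ h₂]

end Cfsg.Agent.Lib.Helper7
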