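import Mathlib
import Cfsg.Agent.Lib.Helper7.SylowLib
import Cfsg.Agent.Lib.Helper7.KNormalizer

set_option autoImplicit false

namespace Cfsg.Agent.Lib.Helper7

open Cfsg
open scoped Pointwise

/-- In a group action, a point can be moved (by an element of `A`) so that the stabilizer in a given
Sylow subgroup `T` of `A` is a Sylow subgroup of the stabilizer in `A`. -/
theorem exists_smul_isSylowIn_stabilizer {G X : Type*} [Group G] [Finite G] [MulAction G X]
    {p : ℕ} [Fact p.Prime] {T A : Subgroup G} (hT : IsSylowIn p T A) (x : X) :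
    ∃ a ∈ A, IsSylowIn p (T ⊓ MulAction.stabilizer G (a • x))
      (A ⊓ MulAction.stabilizer G (a • x)) := by
  obtain ⟨R, hR, -⟩ := exists_isSylowIn_ge (p := p) (Q := (⊥ : Subgroup G))
    (H := A ⊓ MulAction.stabilizer G x) IsPGroup.of_bot bot_le
  have hRA : R ≤ A := hR.1.trans inf_le_left
  obtain ⟨a, ha, hconj⟩ := IsSylowIn.exists_conj_le hT hR.isPGroup hRA
  refine ⟨a, ha, ?_⟩
  set R' : Subgroup G := R.map (MulAut.conj a).toMonoidHom with hR'
  have hstab : MulAction.stabilizer G (a • x) =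
      (MulAction.stabilizer G x).map (MulAut.conj a).toMonoidHom :=
    MulAction.stabilizer_smul_eq_stabilizer_map_conj a x
  have hAmap : A.map (MulAut.conj a).toMonoidHom = A := by
    ext g
    constructor
    · rintro ⟨h, hh, rfl⟩
      exact A.mul_mem (A.mul_mem ha hh) (A.inv_mem ha)
    · intro hg
      refine ⟨a⁻¹ * g * a, A.mul_mem (A.mul_mem (A.inv_mem ha) hg) ha, ?_⟩
      simp [MulAut.conj_apply, mul_assoc]
  have hB : A ⊓ MulAction.stabilizer G (a • x) =
      (A ⊓ MulAction.stabilizer G x).map (MulAut.conj a).toMonoidHom := by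
    rw [hstab, Subgroup.map_inf_eq _ _ _ (MulAut.conj a).injective, hAmap]
  have hcardB : Nat.card ↥(A ⊓ MulAction.stabilizer G (a • x)) =
      Nat.card ↥(A ⊓ MulAction.stabilizer G x) := by
    rw [hB]
    exact Subgroup.card_map_of_injective (MulAut.conj a).injective
  have hcardR : Nat.card R' = Nat.card R :=
    Subgroup.card_map_of_injective (MulAut.conj a).injective
  have hR'T : R' ≤ T := by
    rintro _ ⟨β, hβ, rfl⟩
    exact hconj β hβ
  have hR'stab : R' ≤ MulAction.stabilizer G (a • x) := by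
    rw [hstab]
    exact Subgroup.map_mono (hR.1.trans inf_le_right)
  have hle : R' ≤ T ⊓ MulAction.stabilizer G (a • x) := le_inf hR'T hR'stab
  have hTA : T ⊓ MulAction.stabilizer G (a • x) ≤ A ⊓ MulAction.stabilizer G (a • x) :=
    inf_le_inf_right _ hT.1
  refine ⟨hTA, ?_⟩
  have hpT : IsPGroup p ↥(T ⊓ MulAction.stabilizer G (a • x)) :=
    hT.isPGroup.to_le inf_le_left
  obtain ⟨k, hk⟩ := (IsPGroup.iff_card).mp hpT
  have hp : p.Prime := Fact.out
  have h1 : Nat.card R' ∣ Nat.card ↥(T ⊓ MulAction.stabilizer G (a • x)) :=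
    Subgroup.card_dvd_of_le hle
  have h2 : Nat.card ↥(T ⊓ MulAction.stabilizer G (a • x)) ∣
      Nat.card ↥(A ⊓ MulAction.stabilizer G (a • x)) := Subgroup.card_dvd_of_le hTA
  rw [hcardR, hR.2, hk, ← hcardB] at h1
  rw [hk] at h2
  have hpos : Nat.card ↥(A ⊓ MulAction.stabilizer G (a • x)) ≠ 0 := Nat.card_pos.ne'
  have h3 : k ≤ (Nat.card ↥(A ⊓ MulAction.stabilizer G (a • x))).factorization p :=
    (hp.pow_dvd_iff_le_factorization hpos).mp h2
  have h4 : (Nat.card ↥(A ⊓ MulAction.stabilizer G (a • x))).factorization p ≤ k :=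
    (Nat.pow_dvd_pow_iff_le_right hp.one_lt).mp h1
  rw [hk, le_antisymm h3 h4]

end Cfsg.Agent.Lib.Helper7
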