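import Mathlib
import Cfsg.Prelude.Def_FusionSystem
import Cfsg.Agent.Lib.Helper7.ProdSat1
import Cfsg.Agent.Lib.Helper7.AutInduced
import Cfsg.Agent.Lib.Helper7.FusionSat

set_option autoImplicit false

namespace Cfsg.Agent.Lib.Helper7

open Cfsg Cfsg.FusionSystem
open scoped Pointwise

/-- the image of a Sylow subgroup (in the `IsSylowIn` sense) under a homomorphism is Sylow in the
image -/
theorem IsSylowIn.map_hom {G H : Type*} [Group G] [Finite G] [Group H] {p : ℕ} [Fact p.Prime]
    {X Y : Subgroup G} (h : IsSylowIn p X Y) (f : G →* H) : IsSylowIn p (X.map f) (Y.map f) := by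
  obtain ⟨R, hR⟩ := h.exists_sylow
  have := isSylowIn_map_range (f.comp Y.subtype) R
  rw [hR] at this
  have e1 : (f.comp Y.subtype).range = Y.map f := by
    rw [MonoidHom.range_comp, Subgroup.range_subtype]
  have e2 : (X.subgroupOf Y).map (f.comp Y.subtype) = X.map f := by
    rw [← Subgroup.map_map, Subgroup.map_subgroupOf_eq_of_le h.1]
  rwa [e1, e2] at this

variable {Ω : Type*} [Group Ω]

theorem stab_apply_mem_iff {Q R : Subgroup Ω} {β : MulAut R}
    (hβ : β ∈ MulAction.stabilizer (MulAut R) (Q.subgroupOf R)) (x : R) :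
    ((β x : R) : Ω) ∈ Q ↔ (x : Ω) ∈ Q := by
  have h' : β • Q.subgroupOf R = Q.subgroupOf R := hβ
  have h1 : ((β x : R) : Ω) ∈ Q ↔ β • x ∈ β • Q.subgroupOf R := by
    rw [h', Subgroup.mem_subgroupOf]; rfl
  rw [h1, Subgroup.smul_mem_pointwise_smul_iff, Subgroup.mem_subgroupOf]

theorem mem_stab_of_apply_mem_iff {Q R : Subgroup Ω} {β : MulAut R}
    (h : ∀ x : R, ((β x : R) : Ω) ∈ Q ↔ (x : Ω) ∈ Q) :
    β ∈ MulAction.stabilizer (MulAut R) (Q.subgroupOf R) := by
  show β • Q.subgroupOf R = Q.subgroupOf R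
  ext y
  rw [Subgroup.mem_pointwise_smul_iff_inv_smul_mem, Subgroup.mem_subgroupOf, Subgroup.mem_subgroupOf]
  have := h (β⁻¹ • y)
  rw [← this]
  show ((β (β⁻¹ y) : R) : Ω) ∈ Q ↔ _
  rw [MulAut.apply_inv_self]

/-- restriction of automorphisms of `R` stabilizing `Q ≤ R` -/
def resHom {Q R : Subgroup Ω} (hle : Q ≤ R) :
    MulAction.stabilizer (MulAut R) (Q.subgroupOf R) →* MulAut Q where
  toFun β :=
    { toFun := fun x => ⟨((β.1 ⟨x, hle x.2⟩ : R) : Ω), (stab_apply_mem_iff β.2 _).mpr x.2⟩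
      invFun := fun x => ⟨((β.1⁻¹ ⟨x, hle x.2⟩ : R) : Ω),
        (stab_apply_mem_iff (Subgroup.inv_mem _ β.2) _).mpr x.2⟩
      left_inv := fun x => by
        apply Subtype.ext
        show ((β.1⁻¹ ⟨((β.1 ⟨x, hle x.2⟩ : R) : Ω), _⟩ : R) : Ω) = x
        have : (⟨((β.1 ⟨x, hle x.2⟩ : R) : Ω), hle ((stab_apply_mem_iff β.2 _).mpr x.2)⟩ : R) =
          β.1 ⟨x, hle x.2⟩ := Subtype.ext rfl
        rw [this, MulAut.inv_apply_self]
      right_inv := fun x => by
        apply Subtype.ext
        show ((β.1 ⟨((β.1⁻¹ ⟨x, hle x.2⟩ : R) : Ω), _⟩ : R) : Ω) = x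
        have : (⟨((β.1⁻¹ ⟨x, hle x.2⟩ : R) : Ω),
            hle ((stab_apply_mem_iff (Subgroup.inv_mem _ β.2) _).mpr x.2)⟩ : R) =
          β.1⁻¹ ⟨x, hle x.2⟩ := Subtype.ext rfl
        rw [this, MulAut.apply_inv_self]
      map_mul' := fun x y => by
        apply Subtype.ext
        show ((β.1 (⟨x, hle x.2⟩ * ⟨y, hle y.2⟩) : R) : Ω) = _
        rw [map_mul]
        rfl }
  map_one' := by
    ext x
    rfl
  map_mul' β γ := by
    ext x
    rfl

theorem resHom_coe {Q R : Subgroup Ω} (hle : Q ≤ R)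
    (β : MulAction.stabilizer (MulAut R) (Q.subgroupOf R)) (x : Q) :
    ((resHom hle β x : Q) : Ω) = ((β.1 ⟨x, hle x.2⟩ : R) : Ω) := rfl

variable {S : Subgroup Ω}

/-- Transfer of the Sylow property of `Aut_S` from `R` to a subgroup `Q ≤ R` all of whose
`E`-automorphisms extend to `R`. -/
theorem isSylowIn_aut_of_stabilizer [Finite S] {p : ℕ} [Fact p.Prime] (E : FusionSystem S)
    {Q R : Subgroup Ω} (hle : Q ≤ R) (hRS : R ≤ S)
    (hext : ∀ α : MulAut Q, Q.subtype.comp α.toMonoidHom ∈ E.Hom Q →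
      ∃ β : MulAut R, R.subtype.comp β.toMonoidHom ∈ E.Hom R ∧
        ∀ x : Q, ((β ⟨x, hle x.2⟩ : R) : Ω) = α x)
    (hnorm : ∀ g ∈ S, g ∈ Subgroup.normalizer (Q : Set Ω) → g ∈ Subgroup.normalizer (R : Set Ω))
    (hsyl : IsSylowIn p (autInducedBy S R ⊓ MulAction.stabilizer (MulAut R) (Q.subgroupOf R))
      (E.autGroup R ⊓ MulAction.stabilizer (MulAut R) (Q.subgroupOf R))) :
    IsSylowIn p (autInducedBy S Q) (E.autGroup Q) := by
  haveI : Finite R := Finite.of_injective _ (Subgroup.inclusion_injective hRS)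
  haveI : Finite Q := Finite.of_injective _ (Subgroup.inclusion_injective hle)
  have hQS : Q ≤ S := hle.trans hRS
  set St := MulAction.stabilizer (MulAut R) (Q.subgroupOf R) with hSt
  set X : Subgroup St := (autInducedBy S R ⊓ St).subgroupOf St with hX
  set Y : Subgroup St := (E.autGroup R ⊓ St).subgroupOf St with hY
  have hXY : IsSylowIn p X Y := by
    refine ⟨fun x hx => ?_, ?_⟩
    · rw [hX, Subgroup.mem_subgroupOf] at hx
      rw [hY, Subgroup.mem_subgroupOf]
      exact hsyl.1 hx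
    rw [hX, hY, card_subgroupOf_of_le inf_le_right, card_subgroupOf_of_le inf_le_right]
    exact hsyl.2
  have key := hXY.map_hom (resHom hle)
  have eY : Y.map (resHom hle) = E.autGroup Q := by
    ext α
    constructor
    · rintro ⟨β, hβ, rfl⟩
      rw [hY, SetLike.mem_coe, Subgroup.mem_subgroupOf] at hβ
      have h1 := (mem_autGroup_iff E hRS β.1).mp hβ.1
      rw [mem_autGroup_iff E hQS]
      have h2 := fs_restrict_mem E hle h1
      have e : Q.subtype.comp (resHom hle β).toMonoidHom =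
          (R.subtype.comp (β.1).toMonoidHom).comp (Subgroup.inclusion hle) := by
        ext x
        rfl
      rw [e]; exact h2
    · intro hα
      have hα' := (mem_autGroup_iff E hQS α).mp hα
      obtain ⟨β, hβ, hβα⟩ := hext α hα'
      have hβst : β ∈ St := by
        apply mem_stab_of_apply_mem_iff
        intro x
        constructor
        · intro hx
          obtain ⟨y, hy⟩ := α.surjective ⟨_, hx⟩
          have h3 := hβα y
          rw [hy] at h3
          have h4 : β ⟨y, hle y.2⟩ = β x := Subtype.ext h3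
          have h5 := β.injective h4
          rw [← h5]; exact y.2
        · intro hx
          have h3 := hβα ⟨x, hx⟩
          have h4 : (⟨((⟨x, hx⟩ : Q) : Ω), hle hx⟩ : R) = x := Subtype.ext rfl
          rw [h4] at h3
          rw [h3]; exact (α ⟨x, hx⟩).2
      refine ⟨⟨β, hβst⟩, ?_, ?_⟩
      · rw [hY, SetLike.mem_coe, Subgroup.mem_subgroupOf]
        exact ⟨(mem_autGroup_iff E hRS β).mpr hβ, hβst⟩
      · ext x
        rw [resHom_coe]
        exact hβα x
  have eX : X.map (resHom hle) = autInducedBy S Q := by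
    ext α
    constructor
    · rintro ⟨β, hβ, rfl⟩
      rw [hX, SetLike.mem_coe, Subgroup.mem_subgroupOf] at hβ
      obtain ⟨g, hg, hgβ⟩ := (mem_autInducedBy_iff _ _ _).mp hβ.1
      rw [mem_autInducedBy_iff]
      refine ⟨g, hg, fun x => ?_⟩
      rw [resHom_coe]
      exact hgβ _
    · intro hα
      obtain ⟨g, hg, hgα⟩ := (mem_autInducedBy_iff _ _ _).mp hα
      have hgN : g ∈ Subgroup.normalizer (Q : Set Ω) := by
        rw [Subgroup.mem_normalizer_iff]
        intro h
        constructor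
        · intro hh
          rw [← hgα ⟨h, hh⟩]; exact (α _).2
        · intro hh
          obtain ⟨y, hy⟩ := α.surjective ⟨_, hh⟩
          have h3 := hgα y
          rw [hy] at h3
          have h4 : h = y := by
            have := congrArg (fun z => g⁻¹ * z * g) h3
            simpa [mul_assoc] using this
          rw [h4]; exact y.2
      have hgR := hnorm g hg hgN
      set β : MulAut R := R.normalizerMonoidHom ⟨g, hgR⟩ with hβdef
      have hβapp : ∀ x : R, ((β x : R) : Ω) = g * x * g⁻¹ := fun x => rfl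
      have hβst : β ∈ St := by
        apply mem_stab_of_apply_mem_iff
        intro x
        rw [hβapp]
        exact ((Subgroup.mem_normalizer_iff.mp hgN) x).symm
      refine ⟨⟨β, hβst⟩, ?_, ?_⟩
      · rw [hX, SetLike.mem_coe, Subgroup.mem_subgroupOf]
        exact ⟨(mem_autInducedBy_iff _ _ _).mpr ⟨g, hg, hβapp⟩, hβst⟩
      · ext x
        rw [resHom_coe, hβapp, hgα]
  rwa [eX, eY] at key

end Cfsg.Agent.Lib.Helper7
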