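import Mathlib
import Cfsg.Prelude.Def_FusionSystem
import Cfsg.Agent.Lib.Helper7.FusionInner
import Cfsg.Agent.Lib.Lead.PResidual

set_option autoImplicit false

namespace Cfsg.Agent.Lib.Helper7

open Cfsg Cfsg.FusionSystem
open scoped commutatorElement

variable {Ω : Type*} [Group Ω] {S : Subgroup Ω}

/-- The subsystem of the maps `φ` with `x⁻¹ φ(x) ∈ H` for all `x`, for a subgroup `H ⊇ [S, S]`. -/
def focalSystem (F : FusionSystem S) (H : Subgroup Ω) (hH : ⁅S, S⁆ ≤ H) : FusionSystem S where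
  Hom P := {φ | φ ∈ F.Hom P ∧ ∀ x : P, (x : Ω)⁻¹ * φ x ∈ H}
  le_of_mem h := F.le_of_mem h.1
  injective_of_mem h := F.injective_of_mem h.1
  conj_mem := by
    intro P g hP hg
    refine ⟨F.conj_mem hP hg, fun x => ?_⟩
    apply hH
    have : (x : Ω)⁻¹ * conjHom P g x = ⁅(x : Ω)⁻¹, g⁆ := by
      rw [commutatorElement_def]
      show (x : Ω)⁻¹ * (g * x * g⁻¹) = _
      group
    rw [this]
    exact Subgroup.commutator_mem_commutator (S.inv_mem (hP x.2)) hg
  comp_mem := by
    rintro P Q φ ψ ⟨hφ, hφH⟩ ⟨hψ, hψH⟩ h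
    refine ⟨F.comp_mem hφ hψ h, fun x => ?_⟩
    have h1 := hφH x
    have h2 := hψH (φ.codRestrict Q h x)
    have e : (x : Ω)⁻¹ * (ψ.comp (φ.codRestrict Q h)) x =
        ((x : Ω)⁻¹ * φ x) * ((φ x)⁻¹ * ψ (φ.codRestrict Q h x)) := by
      show (x : Ω)⁻¹ * ψ (φ.codRestrict Q h x) = _
      group
    rw [e]
    exact H.mul_mem h1 h2
  inv_mem := by
    rintro P φ ⟨hφ, hφH⟩
    obtain ⟨ψ, hψ, hinv⟩ := F.inv_mem hφ
    refine ⟨ψ, ⟨hψ, ?_⟩, hinv⟩
    rintro ⟨_, x, rfl⟩
    have h1 := H.inv_mem (hφH x)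
    have h2 := hinv x
    show (φ x)⁻¹ * ψ ⟨φ x, _⟩ ∈ H
    rw [h2]
    simpa using h1

theorem focalSubgroup_eq [Finite S] (p : ℕ) [Fact p.Prime] (hS : IsPGroup p S)
    (F : FusionSystem S) (hF : F.IsSaturated p) :
    F.focalSubgroup = F.hyperfocalSubgroup p ⊔ ⁅(S : Subgroup Ω), (S : Subgroup Ω)⁆ := by
  apply le_antisymm
  · -- via Alperin
    have hle : F ≤ focalSystem F (F.hyperfocalSubgroup p ⊔ ⁅S, S⁆) le_sup_right := by
      apply alperin_goldschmidt p hS F hF
      intro P hP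
      have hFA : F.IsFullyAutomized p P := by
        rcases hP with rfl | hess
        · exact isFullyAutomized_top_of_isSaturated p hS F hF
        · obtain ⟨R, hcR, hFAR, hRecR⟩ := hF P hess.1.1
          exact (isFullyAutomized_isReceptive_of_isFullyNormalized p hS F hess.2.1 hFAR hRecR hcR).1
      obtain ⟨hPS, T, hT⟩ := hFA
      haveI := finite_of_le hPS
      haveI : Finite (MulAut ↥P) := inferInstance
      intro α hα
      apply (mem_autGroup_iff _ hPS α).mpr
      refine ⟨(mem_autGroup_iff F hPS α).mp hα, fun y => ?_⟩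
      obtain ⟨r, hr, m, hm, hrm⟩ := Cfsg.Agent.Lib.Lead.PResidual.exists_mul (p := p)
        (T : Subgroup (F.autGroup P)) T.not_dvd_index ⟨α, hα⟩
      rw [hT] at hr
      obtain ⟨s, hsS, hs⟩ := (mem_autInducedBy_iff S P _).mp (Subgroup.mem_subgroupOf.mp hr)
      have hα' : α = (r : MulAut P) * (m : MulAut P) := congrArg Subtype.val hrm
      show (y : Ω)⁻¹ * ((α y : P) : Ω) ∈ _
      have e : (y : Ω)⁻¹ * ((α y : P) : Ω) =
          ((y : Ω)⁻¹ * (((m : MulAut P) y : P) : Ω)) *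
            ((((m : MulAut P) y : P) : Ω)⁻¹ * (s * (((m : MulAut P) y : P) : Ω) * s⁻¹)) := by
        rw [hα', MulAut.mul_apply, hs]
        group
      rw [e]
      apply Subgroup.mul_mem
      · apply Subgroup.mem_sup_left
        apply Subgroup.subset_closure
        exact ⟨P, m, y, hPS, hm, rfl⟩
      · apply Subgroup.mem_sup_right
        have e2 : (((m : MulAut P) y : P) : Ω)⁻¹ * (s * (((m : MulAut P) y : P) : Ω) * s⁻¹) =
            ⁅(((m : MulAut P) y : P) : Ω)⁻¹, s⁆ := by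
          rw [commutatorElement_def]; group
        rw [e2]
        exact Subgroup.commutator_mem_commutator (S.inv_mem (hPS ((m : MulAut P) y).2)) hsS
    unfold FusionSystem.focalSubgroup
    rw [Subgroup.closure_le]
    rintro _ ⟨P, φ, x, hφ, rfl⟩
    exact (hle P hφ).2 x
  · apply sup_le
    · unfold FusionSystem.hyperfocalSubgroup FusionSystem.focalSubgroup
      rw [Subgroup.closure_le]
      rintro _ ⟨P, α, x, hPS, -, rfl⟩
      apply Subgroup.subset_closure
      exact ⟨P, _, x, (mem_autGroup_iff F hPS α).mp α.2, rfl⟩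
    · rw [Subgroup.commutator_le]
      intro a ha b hb
      unfold FusionSystem.focalSubgroup
      apply Subgroup.subset_closure
      refine ⟨S, conjHom S b, ⟨a⁻¹, S.inv_mem ha⟩, F.conj_mem le_rfl hb, ?_⟩
      rw [commutatorElement_def]
      show _ = (a⁻¹)⁻¹ * (b * a⁻¹ * b⁻¹)
      group

end Cfsg.Agent.Lib.Helper7
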