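import Mathlib

set_option autoImplicit false

universe u

namespace Cfsg.Agent.Lib.Helper7.BisetTransfer

variable {X : Type u} {B : Type u} [Group B] (ρ : B →* Equiv.Perm X)

/-- The orbit relation of the acting group. -/
def rel : Setoid X where
  r x y := ∃ b : B, ρ b x = y
  iseqv := by
    refine ⟨fun x => ⟨1, by simp⟩, ?_, ?_⟩
    · rintro x y ⟨b, rfl⟩
      exact ⟨b⁻¹, by simp⟩
    · rintro x y w ⟨b, rfl⟩ ⟨b', rfl⟩
      exact ⟨b' * b, by simp⟩

/-- The orbit space. -/
abbrev R : Type u := Quotient (rel ρ)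

/-- The commuting group. -/
def Gr : Subgroup (Equiv.Perm X) := Subgroup.centralizer (Set.range ρ)

theorem comm_of_mem {g : Equiv.Perm X} (hg : g ∈ Gr ρ) (b : B) (x : X) : g (ρ b x) = ρ b (g x) := by
  have h1 := hg (ρ b) ⟨b, rfl⟩
  have h2 := congrArg (fun f : Equiv.Perm X => f x) h1
  exact h2.symm

/-- The induced permutation of the orbit space. -/
def barFun (g : Gr ρ) : R ρ → R ρ :=
  Quotient.map' (s₁ := rel ρ) (s₂ := rel ρ) (fun x => (g : Equiv.Perm X) x) (by
    rintro x y ⟨b, rfl⟩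
    exact ⟨b, (comm_of_mem ρ g.2 b x).symm⟩)

theorem barFun_mk (g : Gr ρ) (x : X) :
    barFun ρ g (Quotient.mk (rel ρ) x) = Quotient.mk (rel ρ) ((g : Equiv.Perm X) x) := rfl

theorem barFun_mul (g h : Gr ρ) (r : R ρ) : barFun ρ (g * h) r = barFun ρ g (barFun ρ h r) := by
  induction r using Quotient.inductionOn with
  | h x => rfl

theorem barFun_one (r : R ρ) : barFun ρ (1 : Gr ρ) r = r := by
  induction r using Quotient.inductionOn with
  | h x => rfl

/-- The induced permutation of the orbit space, as an equivalence. -/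
def bar (g : Gr ρ) : Equiv.Perm (R ρ) where
  toFun := barFun ρ g
  invFun := barFun ρ g⁻¹
  left_inv r := by rw [← barFun_mul, inv_mul_cancel, barFun_one]
  right_inv r := by rw [← barFun_mul, mul_inv_cancel, barFun_one]

section section_

variable (hfree : ∀ (b : B) (x : X), ρ b x = x → b = 1) (σ : R ρ → X)
  (hσ : ∀ r : R ρ, Quotient.mk (rel ρ) (σ r) = r)

include hσ in
theorem exists_dl (x : X) : ∃ b : B, ρ b (σ (Quotient.mk (rel ρ) x)) = x := by
  have h := hσ (Quotient.mk (rel ρ) x)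
  exact Quotient.exact h

/-- The displacement of a point from the chosen point of its orbit. -/
noncomputable def dl (x : X) : B := Classical.choose (exists_dl ρ σ hσ x)

theorem dl_spec (x : X) : ρ (dl ρ σ hσ x) (σ (Quotient.mk (rel ρ) x)) = x :=
  Classical.choose_spec (exists_dl ρ σ hσ x)

include hfree in
theorem dl_unique {x : X} {b : B} (h : ρ b (σ (Quotient.mk (rel ρ) x)) = x) : dl ρ σ hσ x = b := by
  have h1 := dl_spec ρ σ hσ x
  have h2 : ρ (b⁻¹ * dl ρ σ hσ x) (σ (Quotient.mk (rel ρ) x)) = σ (Quotient.mk (rel ρ) x) := by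
    rw [map_mul, Equiv.Perm.mul_apply, h1]
    have h4 : ρ b⁻¹ x = ρ b⁻¹ (ρ b (σ (Quotient.mk (rel ρ) x))) := by rw [h]
    rw [h4]
    simp
  have h3 := hfree _ _ h2
  rw [inv_mul_eq_one] at h3
  exact h3.symm

include hfree in
theorem dl_smul (b : B) (x : X) : dl ρ σ hσ (ρ b x) = b * dl ρ σ hσ x := by
  apply dl_unique ρ hfree σ hσ
  have e : Quotient.mk (rel ρ) (ρ b x) = Quotient.mk (rel ρ) x := Quotient.sound ⟨b⁻¹, by simp⟩
  rw [e, map_mul, Equiv.Perm.mul_apply, dl_spec]

variable [Fintype (R ρ)]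

/-- The determinant with values in the abelianization. -/
noncomputable def Dfun (g : Gr ρ) : Abelianization B :=
  ∏ r : R ρ, Abelianization.of (dl ρ σ hσ ((g : Equiv.Perm X) (σ r)))

include hfree in
theorem Dfun_mul (g h : Gr ρ) : Dfun ρ σ hσ (g * h) = Dfun ρ σ hσ g * Dfun ρ σ hσ h := by
  unfold Dfun
  have key : ∀ r : R ρ, dl ρ σ hσ (((g * h : Gr ρ) : Equiv.Perm X) (σ r)) =
      dl ρ σ hσ ((h : Equiv.Perm X) (σ r)) * dl ρ σ hσ ((g : Equiv.Perm X) (σ (bar ρ h r))) := by
    intro r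
    have h1 := dl_spec ρ σ hσ ((h : Equiv.Perm X) (σ r))
    have e : Quotient.mk (rel ρ) ((h : Equiv.Perm X) (σ r)) = bar ρ h r := by
      show _ = barFun ρ h r
      conv_rhs => rw [← hσ r]
      rfl
    rw [e] at h1
    have h2 : ((g * h : Gr ρ) : Equiv.Perm X) (σ r) =
        ρ (dl ρ σ hσ ((h : Equiv.Perm X) (σ r))) ((g : Equiv.Perm X) (σ (bar ρ h r))) := by
      show (g : Equiv.Perm X) ((h : Equiv.Perm X) (σ r)) = _
      rw [← comm_of_mem ρ g.2, h1]
    rw [h2, dl_smul ρ hfree σ hσ]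
  rw [Finset.prod_congr rfl (fun r _ => by rw [key r, map_mul]), Finset.prod_mul_distrib, mul_comm]
  congr 1
  exact Equiv.prod_comp (bar ρ h) (fun r => Abelianization.of (dl ρ σ hσ ((g : Equiv.Perm X) (σ r))))

include hfree in
theorem Dfun_one : Dfun ρ σ hσ 1 = 1 := by
  have h := Dfun_mul ρ hfree σ hσ 1 1
  rw [mul_one] at h
  exact (mul_eq_left.mp h.symm)

/-- The determinant as a homomorphism. -/
noncomputable def Dhom : Gr ρ →* Abelianization B where
  toFun := Dfun ρ σ hσ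
  map_one' := Dfun_one ρ hfree σ hσ
  map_mul' := Dfun_mul ρ hfree σ hσ

end section_

end Cfsg.Agent.Lib.Helper7.BisetTransfer
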