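import Mathlib
import Cfsg.Agent.Lib.Helper7.BisetTransfer

set_option autoImplicit false

universe u

namespace Cfsg.Agent.Lib.Helper7.BisetTransfer

variable {X : Type u} {B : Type u} [Group B] (ρ : B →* Equiv.Perm X)

/-- The induced permutation of the orbit space, as a homomorphism. -/
def barHom : Gr ρ →* Equiv.Perm (R ρ) where
  toFun := bar ρ
  map_one' := by
    ext r; exact barFun_one ρ r
  map_mul' g h := by
    ext r; exact barFun_mul ρ g h r

theorem bar_zpow (g : Gr ρ) (j : ℤ) : bar ρ (g ^ j) = (bar ρ g) ^ j := map_zpow (barHom ρ) g j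

theorem bar_mk (g : Gr ρ) (x : X) :
    bar ρ g (Quotient.mk (rel ρ) x) = Quotient.mk (rel ρ) ((g : Equiv.Perm X) x) := rfl

theorem zpow_prod_eq {A : Type*} [CommGroup A] {ι : Type*} (s : Finset ι) (a : A) (f : ι → ℤ) :
    ∏ i ∈ s, a ^ f i = a ^ ∑ i ∈ s, f i := by
  classical
  induction s using Finset.induction_on with
  | empty => simp
  | insert i s hi ih => rw [Finset.prod_insert hi, Finset.sum_insert hi, ih, zpow_add]

section central

variable (L : Gr ρ)

/-- The base point of the cycle of `r`. -/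
noncomputable def base (r : R ρ) : R ρ :=
  (Quotient.mk (Equiv.Perm.SameCycle.setoid (bar ρ L)) r).out

theorem base_spec (r : R ρ) : ∃ i : ℤ, ((bar ρ L) ^ i) (base ρ L r) = r := by
  have h : (Equiv.Perm.SameCycle.setoid (bar ρ L)).r (base ρ L r) r := Quotient.mk_out (s := Equiv.Perm.SameCycle.setoid (bar ρ L)) r
  exact h

/-- The exponent of `r` on its cycle. -/
noncomputable def expo (r : R ρ) : ℤ := Classical.choose (base_spec ρ L r)

theorem expo_spec (r : R ρ) : ((bar ρ L) ^ (expo ρ L r)) (base ρ L r) = r :=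
  Classical.choose_spec (base_spec ρ L r)

theorem base_apply (r : R ρ) : base ρ L (bar ρ L r) = base ρ L r := by
  unfold base
  congr 1
  apply Quotient.sound
  show Equiv.Perm.SameCycle (bar ρ L) (bar ρ L r) r
  rw [Equiv.Perm.sameCycle_apply_left]

/-- The section adapted to the cycles of `L`. -/
noncomputable def secz (r : R ρ) : X :=
  ((L ^ (expo ρ L r) : Gr ρ) : Equiv.Perm X) ((base ρ L r).out)

theorem secz_spec (r : R ρ) : Quotient.mk (rel ρ) (secz ρ L r) = r := by
  unfold secz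
  rw [← bar_mk, Quotient.out_eq, bar_zpow, expo_spec]

variable (z : B)
  (hL : ∀ (j : ℤ) (x : X) (b : B), ((L ^ j : Gr ρ) : Equiv.Perm X) x = ρ b x → b = z ^ (-j))

include hL in
theorem dl_secz (r : R ρ) :
    dl ρ (secz ρ L) (secz_spec ρ L) ((L : Equiv.Perm X) (secz ρ L r)) =
      z ^ (-(expo ρ L r + 1 - expo ρ L (bar ρ L r))) := by
  apply hL _ (secz ρ L (bar ρ L r))
  have h1 := dl_spec ρ (secz ρ L) (secz_spec ρ L) ((L : Equiv.Perm X) (secz ρ L r))
  have e : Quotient.mk (rel ρ) ((L : Equiv.Perm X) (secz ρ L r)) = bar ρ L r := by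
    rw [← bar_mk, secz_spec]
  rw [e] at h1
  rw [h1]
  -- left side
  have h2 : secz ρ L (bar ρ L r) =
      ((L ^ (expo ρ L (bar ρ L r)) : Gr ρ) : Equiv.Perm X) ((base ρ L r).out) := by
    unfold secz
    rw [base_apply]
  rw [h2]
  have h3 : (L : Equiv.Perm X) (secz ρ L r) =
      ((L ^ (expo ρ L r + 1) : Gr ρ) : Equiv.Perm X) ((base ρ L r).out) := by
    unfold secz
    rw [add_comm, zpow_one_add]
    rfl
  rw [h3, ← Equiv.Perm.mul_apply, ← Subgroup.coe_mul, ← zpow_add]
  congr 3
  ring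

variable [Fintype (R ρ)]

include hL in
theorem Dfun_central :
    Dfun ρ (secz ρ L) (secz_spec ρ L) L = (Abelianization.of z) ^ (-(Fintype.card (R ρ) : ℤ)) := by
  unfold Dfun
  rw [Finset.prod_congr rfl (fun r _ => by rw [dl_secz ρ L z hL r, map_zpow]), zpow_prod_eq]
  congr 1
  have h1 : ∑ r : R ρ, expo ρ L (bar ρ L r) = ∑ r : R ρ, expo ρ L r :=
    Equiv.sum_comp (bar ρ L) (fun r => expo ρ L r)
  rw [Finset.sum_neg_distrib, Finset.sum_sub_distrib, Finset.sum_add_distrib, h1]
  simp

end central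

section card

variable (hfree : ∀ (b : B) (x : X), ρ b x = x → b = 1)

include hfree in
theorem card_eq : Nat.card X = Nat.card (R ρ) * Nat.card B := by
  rw [← Nat.card_prod]
  have hσ : ∀ r : R ρ, Quotient.mk (rel ρ) (Quotient.out r) = r := fun r => Quotient.out_eq r
  refine Nat.card_congr ⟨fun x => (Quotient.mk (rel ρ) x, dl ρ Quotient.out hσ x),
    fun rb => ρ rb.2 (Quotient.out rb.1), fun x => dl_spec ρ Quotient.out hσ x, ?_⟩
  rintro ⟨r, b⟩
  have e : Quotient.mk (rel ρ) (ρ b (Quotient.out r)) = r := by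
    have : Quotient.mk (rel ρ) (ρ b (Quotient.out r)) = Quotient.mk (rel ρ) (Quotient.out r) :=
      Quotient.sound ⟨b⁻¹, by simp⟩
    rw [this, hσ]
  apply Prod.ext
  · exact e
  · show dl ρ Quotient.out hσ (ρ b (Quotient.out r)) = b
    apply dl_unique ρ hfree
    rw [e]

end card

end Cfsg.Agent.Lib.Helper7.BisetTransfer
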