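import Mathlib
import Cfsg.Agent.Lib.Helper7.BisetTransfer

/-!
# Tate's theorem for fusion systems, part B: the twisted transfer of a free set

`X` is a set with a free action `ρ` of `B`, `T` a normal subgroup of `B` and `χ : T →* C` a `B`-invariant
homomorphism into a commutative group.  For `g` in the commuting group `Gr ρ` and `b : B` such that all
displacements of `g` (with respect to a section `σ` of the orbit map) multiplied by `b` lie in `T`, we define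
`W σ g b = ∏ χ (displacement * b)`.
-/

set_option autoImplicit false

universe u

namespace Cfsg.Agent.Lib.Helper7.TateFus

open Cfsg.Agent.Lib.Helper7.BisetTransfer

variable {X : Type u} {B : Type u} [Group B] (ρ : B →* Equiv.Perm X)
  (T : Subgroup B) [hTn : T.Normal] {C : Type*} [CommGroup C] (χ : T →* C)

/-- extension of `χ` by `1` -/
noncomputable def chiE (b : B) : C := by
  classical
  exact if h : b ∈ T then χ ⟨b, h⟩ else 1

omit hTn in
theorem chiE_of_mem {b : B} (h : b ∈ T) : chiE T χ b = χ ⟨b, h⟩ := by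
  unfold chiE; rw [dif_pos h]

omit hTn in
theorem chiE_mul {a b : B} (ha : a ∈ T) (hb : b ∈ T) : chiE T χ (a * b) = chiE T χ a * chiE T χ b := by
  rw [chiE_of_mem T χ ha, chiE_of_mem T χ hb, chiE_of_mem T χ (T.mul_mem ha hb), ← map_mul]
  rfl

omit hTn in
theorem chiE_inv {a : B} (ha : a ∈ T) : chiE T χ a⁻¹ = (chiE T χ a)⁻¹ := by
  rw [chiE_of_mem T χ ha, chiE_of_mem T χ (T.inv_mem ha), ← map_inv]
  rfl

variable (hχ : ∀ (b : B) (t : B), t ∈ T → chiE T χ (b * t * b⁻¹) = chiE T χ t)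

section section_

variable (hfree : ∀ (b : B) (x : X), ρ b x = x → b = 1) (σ : R ρ → X)
  (hσ : ∀ r : R ρ, Quotient.mk (rel ρ) (σ r) = r)

/-- all displacements of `g`, multiplied by `b`, lie in `T` -/
def Adapted (g : Gr ρ) (b : B) : Prop :=
  ∀ r : R ρ, dl ρ σ hσ ((g : Equiv.Perm X) (σ r)) * b ∈ T

include hσ in
theorem mk_apply_sigma (g : Gr ρ) (r : R ρ) :
    Quotient.mk (rel ρ) ((g : Equiv.Perm X) (σ r)) = bar ρ g r := by
  show _ = barFun ρ g r
  conv_rhs => rw [← hσ r]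
  rfl

include hfree in
theorem dl_mul (g h : Gr ρ) (r : R ρ) : dl ρ σ hσ (((g * h : Gr ρ) : Equiv.Perm X) (σ r)) =
    dl ρ σ hσ ((h : Equiv.Perm X) (σ r)) * dl ρ σ hσ ((g : Equiv.Perm X) (σ (bar ρ h r))) := by
  have h1 := dl_spec ρ σ hσ ((h : Equiv.Perm X) (σ r))
  rw [mk_apply_sigma ρ σ hσ h r] at h1
  have h2 : ((g * h : Gr ρ) : Equiv.Perm X) (σ r) =
      ρ (dl ρ σ hσ ((h : Equiv.Perm X) (σ r))) ((g : Equiv.Perm X) (σ (bar ρ h r))) := by
    show (g : Equiv.Perm X) ((h : Equiv.Perm X) (σ r)) = _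
    rw [← comm_of_mem ρ g.2, h1]
  rw [h2, dl_smul ρ hfree σ hσ]

variable [Fintype (R ρ)]

/-- the twisted transfer -/
noncomputable def W (g : Gr ρ) (b : B) : C :=
  ∏ r : R ρ, chiE T χ (dl ρ σ hσ ((g : Equiv.Perm X) (σ r)) * b)

include hfree hχ hTn in
theorem adapted_mul {g h : Gr ρ} {b b' : B} (hg : Adapted ρ T σ hσ g b) (hh : Adapted ρ T σ hσ h b') :
    Adapted ρ T σ hσ (g * h) (b * b') ∧
      W ρ T χ σ hσ (g * h) (b * b') = W ρ T χ σ hσ g b * W ρ T χ σ hσ h b' := by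
  have key : ∀ r : R ρ, dl ρ σ hσ (((g * h : Gr ρ) : Equiv.Perm X) (σ r)) * (b * b') =
      (dl ρ σ hσ ((h : Equiv.Perm X) (σ r)) * b') *
        (b'⁻¹ * (dl ρ σ hσ ((g : Equiv.Perm X) (σ (bar ρ h r))) * b) * b'⁻¹⁻¹) := by
    intro r
    rw [dl_mul ρ hfree σ hσ g h r]
    group
  have hmem : ∀ r : R ρ, b'⁻¹ * (dl ρ σ hσ ((g : Equiv.Perm X) (σ (bar ρ h r))) * b) * b'⁻¹⁻¹ ∈ T :=
    fun r => hTn.conj_mem _ (hg (bar ρ h r)) _
  refine ⟨fun r => ?_, ?_⟩
  · rw [key r]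
    exact T.mul_mem (hh r) (hmem r)
  · unfold W
    rw [Finset.prod_congr rfl (fun r _ => by
      rw [key r, chiE_mul T χ (hh r) (hmem r), hχ _ _ (hg (bar ρ h r))]),
      Finset.prod_mul_distrib, mul_comm]
    congr 1
    exact Equiv.prod_comp (bar ρ h)
      (fun r => chiE T χ (dl ρ σ hσ ((g : Equiv.Perm X) (σ r)) * b))

end section_

section tele

include hTn in
/-- telescoping of `χ` along a permutation -/
theorem prod_chiE_tele {ι : Type*} [Fintype ι] (π : Equiv.Perm ι) (s : ι → B)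
    (h : ∀ r, s r * (s (π r))⁻¹ ∈ T) : ∏ r, chiE T χ (s r * (s (π r))⁻¹) = 1 := by
  classical
  let κ : ι → B := fun r => Quotient.out (QuotientGroup.mk (s r) : B ⧸ T)
  have hκ : ∀ r, κ (π r) = κ r := by
    intro r
    show Quotient.out (QuotientGroup.mk (s (π r)) : B ⧸ T) = Quotient.out (QuotientGroup.mk (s r) : B ⧸ T)
    congr 1
    rw [eq_comm, QuotientGroup.eq]
    have h1 := hTn.conj_mem _ (T.inv_mem (h r)) (s r)⁻¹
    have e : (s r)⁻¹ * (s r * (s (π r))⁻¹)⁻¹ * (s r)⁻¹⁻¹ = (s r)⁻¹ * s (π r) := by group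
    rwa [e] at h1
  have ht : ∀ r, s r * (κ r)⁻¹ ∈ T := by
    intro r
    have h1 : (QuotientGroup.mk (κ r) : B ⧸ T) = QuotientGroup.mk (s r) := QuotientGroup.out_eq' _
    rw [QuotientGroup.eq] at h1
    have h2 := hTn.conj_mem _ h1 (s r)
    have e : s r * ((κ r)⁻¹ * s r) * (s r)⁻¹ = s r * (κ r)⁻¹ := by group
    rwa [e] at h2
  have key : ∀ r, chiE T χ (s r * (s (π r))⁻¹) =
      chiE T χ (s r * (κ r)⁻¹) * (chiE T χ (s (π r) * (κ (π r))⁻¹))⁻¹ := by
    intro r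
    have e : s r * (s (π r))⁻¹ = (s r * (κ r)⁻¹) * (s (π r) * (κ (π r))⁻¹)⁻¹ := by
      rw [hκ r]; group
    rw [e, chiE_mul T χ (ht r) (T.inv_mem (ht (π r))), chiE_inv T χ (ht (π r))]
  rw [Finset.prod_congr rfl (fun r _ => key r), Finset.prod_mul_distrib, Finset.prod_inv_distrib,
    Equiv.prod_comp π (fun r => chiE T χ (s r * (κ r)⁻¹)), mul_inv_cancel]

end tele

section indep

variable (hfree : ∀ (b : B) (x : X), ρ b x = x → b = 1) (σ σ' : R ρ → X)
  (hσ : ∀ r : R ρ, Quotient.mk (rel ρ) (σ r) = r) (hσ' : ∀ r : R ρ, Quotient.mk (rel ρ) (σ' r) = r)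
  [Fintype (R ρ)]

include hfree hχ hTn in
/-- independence of the section -/
theorem W_indep (g : Gr ρ) (hg : Adapted ρ T σ hσ g 1) (hg' : Adapted ρ T σ' hσ' g 1) :
    W ρ T χ σ' hσ' g 1 = W ρ T χ σ hσ g 1 := by
  set s : R ρ → B := fun r => dl ρ σ hσ (σ' r) with hs
  have hs_spec : ∀ r, ρ (s r) (σ r) = σ' r := by
    intro r
    have := dl_spec ρ σ hσ (σ' r)
    rwa [hσ' r] at this
  set d : R ρ → B := fun r => dl ρ σ hσ ((g : Equiv.Perm X) (σ r)) with hd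
  have hd_spec : ∀ r, ρ (d r) (σ (bar ρ g r)) = (g : Equiv.Perm X) (σ r) := by
    intro r
    have := dl_spec ρ σ hσ ((g : Equiv.Perm X) (σ r))
    rwa [mk_apply_sigma ρ σ hσ g r] at this
  have hd' : ∀ r, dl ρ σ' hσ' ((g : Equiv.Perm X) (σ' r)) = s r * d r * (s (bar ρ g r))⁻¹ := by
    intro r
    apply dl_unique ρ hfree σ' hσ'
    rw [mk_apply_sigma ρ σ' hσ' g r, ← hs_spec (bar ρ g r), ← Equiv.Perm.mul_apply, ← map_mul]
    have e : s r * d r * (s (bar ρ g r))⁻¹ * s (bar ρ g r) = s r * d r := by group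
    rw [e, map_mul, Equiv.Perm.mul_apply, hd_spec r, ← comm_of_mem ρ g.2, hs_spec r]
  have hdT : ∀ r, d r ∈ T := fun r => by
    have := hg r
    rwa [mul_one] at this
  have hd'T : ∀ r, s r * d r * (s (bar ρ g r))⁻¹ ∈ T := fun r => by
    have := hg' r
    rwa [mul_one, hd' r] at this
  have h1 : ∀ r, s r * d r * (s r)⁻¹ ∈ T := fun r => hTn.conj_mem _ (hdT r) _
  have h2 : ∀ r, s r * (s (bar ρ g r))⁻¹ ∈ T := fun r => by
    have := T.mul_mem (T.inv_mem (h1 r)) (hd'T r)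
    have e : (s r * d r * (s r)⁻¹)⁻¹ * (s r * d r * (s (bar ρ g r))⁻¹) = s r * (s (bar ρ g r))⁻¹ := by
      group
    rwa [e] at this
  unfold W
  have key : ∀ r, chiE T χ (dl ρ σ' hσ' ((g : Equiv.Perm X) (σ' r)) * 1) =
      chiE T χ (dl ρ σ hσ ((g : Equiv.Perm X) (σ r)) * 1) * chiE T χ (s r * (s (bar ρ g r))⁻¹) := by
    intro r
    rw [mul_one, mul_one, hd' r]
    have e : s r * d r * (s (bar ρ g r))⁻¹ = (s r * d r * (s r)⁻¹) * (s r * (s (bar ρ g r))⁻¹) := by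
      group
    rw [e, chiE_mul T χ (h1 r) (h2 r), hχ _ _ (hdT r)]
  rw [Finset.prod_congr rfl (fun r _ => key r), Finset.prod_mul_distrib,
    prod_chiE_tele T χ (bar ρ g) s h2, mul_one]

include hfree hχ hTn in
/-- conjugation invariance -/
theorem W_conj (g g' e : Gr ρ) (he : e * g * e⁻¹ = g') (hg : Adapted ρ T σ hσ g 1)
    (hg' : Adapted ρ T σ hσ g' 1) : W ρ T χ σ hσ g' 1 = W ρ T χ σ hσ g 1 := by
  -- the transported section
  set τ : R ρ → X := fun r' => (e : Equiv.Perm X) (σ ((bar ρ e).symm r')) with hτdef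
  have hτ : ∀ r' : R ρ, Quotient.mk (rel ρ) (τ r') = r' := by
    intro r'
    show Quotient.mk (rel ρ) ((e : Equiv.Perm X) (σ ((bar ρ e).symm r'))) = r'
    rw [mk_apply_sigma ρ σ hσ e, Equiv.apply_symm_apply]
  have heg : ∀ x : X, (g' : Equiv.Perm X) ((e : Equiv.Perm X) x) =
      (e : Equiv.Perm X) ((g : Equiv.Perm X) x) := by
    intro x
    have h1 : g' * e = e * g := by rw [← he]; group
    have h2 := congrArg (fun k : Gr ρ => (k : Equiv.Perm X) x) h1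
    exact h2
  have hdτ : ∀ r' : R ρ, dl ρ τ hτ ((g' : Equiv.Perm X) (τ r')) =
      dl ρ σ hσ ((g : Equiv.Perm X) (σ ((bar ρ e).symm r'))) := by
    intro r'
    apply dl_unique ρ hfree τ hτ
    set r := (bar ρ e).symm r' with hr
    have h1 : (g' : Equiv.Perm X) (τ r') = (e : Equiv.Perm X) ((g : Equiv.Perm X) (σ r)) := heg _
    have h2 := dl_spec ρ σ hσ ((g : Equiv.Perm X) (σ r))
    rw [mk_apply_sigma ρ σ hσ g r] at h2
    have h3 : Quotient.mk (rel ρ) ((g' : Equiv.Perm X) (τ r')) = bar ρ e (bar ρ g r) := by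
      rw [h1, ← h2]
      have : Quotient.mk (rel ρ) ((e : Equiv.Perm X) (ρ (dl ρ σ hσ ((g : Equiv.Perm X) (σ r)))
          (σ (bar ρ g r)))) = Quotient.mk (rel ρ) ((e : Equiv.Perm X) (σ (bar ρ g r))) := by
        rw [comm_of_mem ρ e.2]
        exact Quotient.sound ⟨(dl ρ σ hσ ((g : Equiv.Perm X) (σ r)))⁻¹, by simp⟩
      rw [this, mk_apply_sigma ρ σ hσ e]
    rw [h3, h1]
    show ρ _ ((e : Equiv.Perm X) (σ ((bar ρ e).symm (bar ρ e (bar ρ g r))))) = _
    rw [Equiv.symm_apply_apply, ← comm_of_mem ρ e.2, h2]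
  have hadτ : Adapted ρ T τ hτ g' 1 := by
    intro r'
    rw [hdτ r']
    exact hg _
  rw [← W_indep ρ T χ hχ hfree σ τ hσ hτ g' hg' hadτ]
  unfold W
  rw [Finset.prod_congr rfl (fun r' _ => by rw [hdτ r'])]
  exact Equiv.prod_comp (bar ρ e).symm
    (fun r => chiE T χ (dl ρ σ hσ ((g : Equiv.Perm X) (σ r)) * 1))

end indep

section main

variable (hfree : ∀ (b : B) (x : X), ρ b x = x → b = 1) (σ : R ρ → X)
  (hσ : ∀ r : R ρ, Quotient.mk (rel ρ) (σ r) = r) [Fintype (R ρ)] (ι : B →* Gr ρ)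
  (had : ∀ u : B, Adapted ρ T σ hσ (ι u) u)

/-- the extension of (a power of) `χ` to `B` -/
noncomputable def lamHom : B →* C :=
  MonoidHom.mk' (fun u => W ρ T χ σ hσ (ι u) u) (by
    intro u v
    rw [map_mul]
    exact (adapted_mul ρ T χ hχ hfree σ hσ (had u) (had v)).2)

theorem lamHom_apply (u : B) :
    lamHom ρ T χ hχ hfree σ hσ ι had u = W ρ T χ σ hσ (ι u) u := rfl

include had in
theorem adapted_one_of_mem {t : B} (ht : t ∈ T) : Adapted ρ T σ hσ (ι t) 1 := by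
  intro r
  have h1 := had t r
  have h2 := T.mul_mem h1 (T.inv_mem ht)
  rw [mul_one]
  have e : dl ρ σ hσ (((ι t : Gr ρ) : Equiv.Perm X) (σ r)) * t * t⁻¹ =
      dl ρ σ hσ (((ι t : Gr ρ) : Equiv.Perm X) (σ r)) := by group
  rwa [e] at h2

/-- the transfer on `T` -/
noncomputable def VHom : T →* C :=
  MonoidHom.mk' (fun t => W ρ T χ σ hσ (ι t) 1) (by
    intro u v
    have h := (adapted_mul ρ T χ hχ hfree σ hσ (adapted_one_of_mem ρ T σ hσ ι had u.2)
      (adapted_one_of_mem ρ T σ hσ ι had v.2)).2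
    rw [mul_one] at h
    rw [← h]
    congr 1
    rw [← map_mul]
    rfl)

theorem VHom_apply (t : T) :
    VHom ρ T χ hχ hfree σ hσ ι had t = W ρ T χ σ hσ (ι t) 1 := rfl

theorem lamHom_eq (t : T) : lamHom ρ T χ hχ hfree σ hσ ι had t =
    VHom ρ T χ hχ hfree σ hσ ι had t * χ t ^ Fintype.card (R ρ) := by
  rw [lamHom_apply, VHom_apply]
  unfold W
  have key : ∀ r : R ρ, chiE T χ (dl ρ σ hσ (((ι (t : B) : Gr ρ) : Equiv.Perm X) (σ r)) * (t : B)) =
      chiE T χ (dl ρ σ hσ (((ι (t : B) : Gr ρ) : Equiv.Perm X) (σ r)) * 1) * χ t := by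
    intro r
    have h1 := adapted_one_of_mem ρ T σ hσ ι had t.2 r
    rw [mul_one] at h1 ⊢
    rw [chiE_mul T χ h1 t.2, chiE_of_mem T χ t.2]
  rw [Finset.prod_congr rfl (fun r _ => key r), Finset.prod_mul_distrib, Finset.prod_const,
    Finset.card_univ]

include hTn in
theorem VHom_conj (t t' : T) (e : Gr ρ) (he : e * ι t * e⁻¹ = ι t') :
    VHom ρ T χ hχ hfree σ hσ ι had t' = VHom ρ T χ hχ hfree σ hσ ι had t := by
  rw [VHom_apply, VHom_apply]
  exact W_conj ρ T χ hχ hfree σ hσ (ι t) (ι t') e he (adapted_one_of_mem ρ T σ hσ ι had t.2)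
    (adapted_one_of_mem ρ T σ hσ ι had t'.2)

end main

end Cfsg.Agent.Lib.Helper7.TateFus
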