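import Mathlib
import Cfsg.Agent.Lib.Helper7.BisetTransfer2
import Cfsg.Agent.Lib.Helper7.TateFusB

/-!
# Yoshida's theorem for fusion systems, part B: the commuting group of a free set acts transitively on the orbit space
-/

set_option autoImplicit false

universe u

namespace Cfsg.Agent.Lib.Helper7.YoshidaFus

open Cfsg.Agent.Lib.Helper7.BisetTransfer Cfsg.Agent.Lib.Helper7.TateFus

variable {X : Type u} {B : Type u} [Group B] (ρ : B →* Equiv.Perm X)

theorem mk_smul_eq (b : B) (x : X) : Quotient.mk (rel ρ) (ρ b x) = Quotient.mk (rel ρ) x :=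
  Quotient.sound ⟨b⁻¹, by simp⟩

theorem mem_Gr_iff (g : Equiv.Perm X) : g ∈ Gr ρ ↔ ∀ (b : B) (x : X), g (ρ b x) = ρ b (g x) := by
  constructor
  · intro hg b x
    exact comm_of_mem ρ hg b x
  · rintro hg _ ⟨b, rfl⟩
    ext x
    exact (hg b x).symm

/-- the action of the commuting group on the orbit space -/
noncomputable instance actR : MulAction (Gr ρ) (R ρ) := MulAction.compHom (R ρ) (barHom ρ)

theorem smul_R_def (g : Gr ρ) (r : R ρ) : g • r = bar ρ g r := rfl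

section section_

variable (hfree : ∀ (b : B) (x : X), ρ b x = x → b = 1) (σ : R ρ → X)
  (hσ : ∀ r : R ρ, Quotient.mk (rel ρ) (σ r) = r)

/-- the trivialization `X ≃ R × B` given by a section -/
noncomputable def prodEquiv : X ≃ R ρ × B where
  toFun x := (Quotient.mk (rel ρ) x, dl ρ σ hσ x)
  invFun rb := ρ rb.2 (σ rb.1)
  left_inv x := dl_spec ρ σ hσ x
  right_inv := by
    rintro ⟨r, b⟩
    have e : Quotient.mk (rel ρ) (ρ b (σ r)) = r := by rw [mk_smul_eq, hσ]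
    apply Prod.ext
    · exact e
    · show dl ρ σ hσ (ρ b (σ r)) = b
      apply dl_unique ρ hfree
      rw [e]

/-- the permutation of `X` induced by a permutation of the orbit space -/
noncomputable def liftPerm (π : Equiv.Perm (R ρ)) : Equiv.Perm X :=
  (prodEquiv ρ hfree σ hσ).trans ((π.prodCongr (Equiv.refl B)).trans (prodEquiv ρ hfree σ hσ).symm)

theorem liftPerm_apply (π : Equiv.Perm (R ρ)) (x : X) :
    liftPerm ρ hfree σ hσ π x = ρ (dl ρ σ hσ x) (σ (π (Quotient.mk (rel ρ) x))) := rfl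

theorem liftPerm_mem (π : Equiv.Perm (R ρ)) : liftPerm ρ hfree σ hσ π ∈ Gr ρ := by
  rw [mem_Gr_iff]
  intro b x
  rw [liftPerm_apply, liftPerm_apply, dl_smul ρ hfree σ hσ, mk_smul_eq, map_mul, Equiv.Perm.mul_apply]

theorem bar_liftPerm (π : Equiv.Perm (R ρ)) (r : R ρ) :
    bar ρ ⟨liftPerm ρ hfree σ hσ π, liftPerm_mem ρ hfree σ hσ π⟩ r = π r := by
  conv_lhs => rw [← hσ r]
  rw [bar_mk]
  show Quotient.mk (rel ρ) (liftPerm ρ hfree σ hσ π (σ r)) = π r
  rw [liftPerm_apply, mk_smul_eq, hσ, hσ]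

include hfree hσ in
/-- transitivity -/
theorem exists_smul_eq_R (r r' : R ρ) : ∃ g : Gr ρ, g • r = r' := by
  classical
  refine ⟨⟨liftPerm ρ hfree σ hσ (Equiv.swap r r'), liftPerm_mem ρ hfree σ hσ _⟩, ?_⟩
  rw [smul_R_def, bar_liftPerm, Equiv.swap_apply_left]

include hfree hσ in
theorem card_quotient_stabilizer [Finite X] (r₀ : R ρ) :
    Nat.card (↥(Gr ρ) ⧸ MulAction.stabilizer (Gr ρ) r₀) = Nat.card (R ρ) := by
  have h1 := MulAction.orbitEquivQuotientStabilizer (Gr ρ) r₀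
  rw [← Nat.card_congr h1]
  have h2 : MulAction.orbit (Gr ρ) r₀ = Set.univ := by
    ext r
    simp only [Set.mem_univ, iff_true]
    obtain ⟨g, hg⟩ := exists_smul_eq_R ρ hfree σ hσ r₀ r
    exact ⟨g, hg⟩
  rw [h2]
  exact Nat.card_congr (Equiv.Set.univ _)

end section_

section stab

variable (hfree : ∀ (b : B) (x : X), ρ b x = x → b = 1) (σ : R ρ → X)
  (hσ : ∀ r : R ρ, Quotient.mk (rel ρ) (σ r) = r) {Z : Type*} [CommGroup Z] (lam : B →* Z) (r₀ : R ρ)

theorem bar_eq_of_mem_stabilizer {g : Gr ρ} (hg : g ∈ MulAction.stabilizer (Gr ρ) r₀) :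
    bar ρ g r₀ = r₀ := by
  have := MulAction.mem_stabilizer_iff.mp hg
  rwa [smul_R_def] at this

/-- the homomorphism of the stabilizer of an orbit induced by a homomorphism of the acting group -/
noncomputable def stabHom : ↥(MulAction.stabilizer (Gr ρ) r₀) →* Z where
  toFun h := lam (dl ρ σ hσ (((h : Gr ρ) : Equiv.Perm X) (σ r₀)))
  map_one' := by
    show lam (dl ρ σ hσ (σ r₀)) = 1
    have : dl ρ σ hσ (σ r₀) = 1 := by
      apply dl_unique ρ hfree σ hσ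
      rw [map_one, hσ]
      rfl
    rw [this, map_one]
  map_mul' g h := by
    show lam (dl ρ σ hσ ((((g : Gr ρ) * (h : Gr ρ) : Gr ρ) : Equiv.Perm X) (σ r₀))) = _
    rw [dl_mul ρ hfree σ hσ, bar_eq_of_mem_stabilizer ρ r₀ h.2, map_mul, mul_comm]

/-- the displacement lemma -/
theorem stabHom_conj (t y : Gr ρ) (h : t⁻¹ * y * t ∈ MulAction.stabilizer (Gr ρ) r₀) :
    ∃ d : B, (y : Equiv.Perm X) ((t : Equiv.Perm X) (σ r₀)) = ρ d ((t : Equiv.Perm X) (σ r₀)) ∧
      stabHom ρ hfree σ hσ lam r₀ ⟨_, h⟩ = lam d := by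
  refine ⟨dl ρ σ hσ (((t⁻¹ * y * t : Gr ρ) : Equiv.Perm X) (σ r₀)), ?_, rfl⟩
  have h1 := dl_spec ρ σ hσ (((t⁻¹ * y * t : Gr ρ) : Equiv.Perm X) (σ r₀))
  rw [mk_apply_sigma ρ σ hσ, bar_eq_of_mem_stabilizer ρ r₀ h] at h1
  have h2 : (t : Equiv.Perm X) (ρ (dl ρ σ hσ (((t⁻¹ * y * t : Gr ρ) : Equiv.Perm X) (σ r₀))) (σ r₀)) =
      (t : Equiv.Perm X) (((t⁻¹ * y * t : Gr ρ) : Equiv.Perm X) (σ r₀)) := congrArg _ h1
  rw [comm_of_mem ρ t.2] at h2
  rw [h2]
  simp [Subgroup.coe_mul, Equiv.Perm.mul_apply]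

end stab

end Cfsg.Agent.Lib.Helper7.YoshidaFus
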