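import Mathlib
import Cfsg.Agent.Lib.Helper7.BisetTransfer2
import Cfsg.Agent.Lib.Helper7.TateFusB
import Cfsg.Agent.Lib.Helper7.YoshidaFusB

/-!
# Thompson transfer for fusion systems, part A: abstract lemmas
-/

set_option autoImplicit false

universe u

namespace Cfsg.Agent.Lib.Helper7.ThompsonFus

open Cfsg.Agent.Lib.Helper7.BisetTransfer Cfsg.Agent.Lib.Helper7.TateFus MulAction

/-- a `p`-group acting on a finite set: an invariant subset containing all fixed points has the same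
cardinality modulo `p` -/
theorem card_modEq_of_fixedPoints_subset {G α : Type*} [Group G] [MulAction G α] [Finite α] {p : ℕ}
    [Fact p.Prime] (hG : IsPGroup p G) (Y : Set α) (hY : ∀ (g : G) (y : α), y ∈ Y → g • y ∈ Y)
    (hfix : fixedPoints G α ⊆ Y) : Nat.card Y ≡ Nat.card α [MOD p] := by
  classical
  have hYc : ∀ (g : G) (y : α), y ∈ Yᶜ → g • y ∈ Yᶜ := by
    intro g y hy hgy
    apply hy
    have := hY g⁻¹ _ hgy
    rwa [inv_smul_smul] at this
  let Ysub : SubMulAction G α := ⟨Yᶜ, fun g {y} hy => hYc g y hy⟩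
  have h1 := hG.card_modEq_card_fixedPoints (↥Ysub)
  have h2 : IsEmpty (fixedPoints G ↥Ysub) := by
    constructor
    rintro ⟨⟨y, hy⟩, hfy⟩
    apply hy
    apply hfix
    intro g
    have := hfy g
    exact congrArg Subtype.val this
  have h5 : Nat.card (fixedPoints G ↥Ysub) = 0 := Nat.card_of_isEmpty
  rw [h5] at h1
  have h3 : Nat.card ↥Ysub = Nat.card ↥(Yᶜ : Set α) := rfl
  rw [h3] at h1
  have h4 : Nat.card α = Nat.card Y + Nat.card ↥(Yᶜ : Set α) := by
    rw [← Nat.card_sum]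
    exact Nat.card_congr (Equiv.Set.sumCompl Y).symm
  rw [h4]
  have : Nat.card Y + 0 ≡ Nat.card Y + Nat.card ↥(Yᶜ : Set α) [MOD p] := Nat.ModEq.add_left _ h1.symm
  simpa using this

/-- in a group of order two, a product of an odd number of nontrivial elements is nontrivial -/
theorem prod_ne_one_of_odd {Z : Type*} [CommGroup Z] (hZ : Nat.card Z = 2) {ι : Type*} (s : Finset ι)
    (f : ι → Z) (hf : ∀ r ∈ s, f r ≠ 1) (hs : Odd s.card) : ∏ r ∈ s, f r ≠ 1 := by
  obtain ⟨z, hz1, hz⟩ := (Nat.card_eq_two_iff' (1 : Z)).mp hZ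
  have hfin : Finite Z := Nat.finite_of_card_ne_zero (by rw [hZ]; norm_num)
  have hz2 : z ^ 2 = 1 := hZ ▸ pow_card_eq_one'
  have h1 : ∏ r ∈ s, f r = ∏ r ∈ s, z := Finset.prod_congr rfl (fun r hr => hz _ (hf r hr))
  rw [h1, Finset.prod_const]
  obtain ⟨k, hk⟩ := hs
  rw [hk, pow_succ, pow_mul, hz2, one_pow, one_mul]
  exact hz1

variable {X : Type u} {B : Type u} [Group B] (ρ : B →* Equiv.Perm X)
  (hfree : ∀ (b : B) (x : X), ρ b x = x → b = 1) (σ : R ρ → X)
  (hσ : ∀ r : R ρ, Quotient.mk (rel ρ) (σ r) = r)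

include hfree in
/-- the displacements of an involution on a two-cycle cancel -/
theorem dl_involution (g : Gr ρ) (hg : g * g = 1) (r : R ρ) :
    dl ρ σ hσ ((g : Equiv.Perm X) (σ r)) * dl ρ σ hσ ((g : Equiv.Perm X) (σ (bar ρ g r))) = 1 := by
  rw [← dl_mul ρ hfree σ hσ g g r, hg]
  apply dl_unique ρ hfree σ hσ
  show ρ 1 (σ (Quotient.mk (rel ρ) (σ r))) = σ r
  rw [map_one, hσ]
  rfl

theorem bar_involution (g : Gr ρ) (hg : g * g = 1) (r : R ρ) : bar ρ g (bar ρ g r) = r := by
  have h : barFun ρ (g * g) r = barFun ρ g (barFun ρ g r) := barFun_mul ρ g g r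
  rw [hg, barFun_one] at h
  exact h.symm

variable [Fintype (R ρ)]

include hfree in
/-- the transfer of an involution only sees the fixed orbits with nontrivial contribution -/
theorem prod_dl_eq_of_involution {Z : Type*} [CommGroup Z] (lam : B →* Z) (g : Gr ρ) (hg : g * g = 1)
    (Y : Finset (R ρ)) (hY : ∀ r ∈ Y, bar ρ g r = r)
    (h1 : ∀ r, r ∉ Y → bar ρ g r = r → lam (dl ρ σ hσ ((g : Equiv.Perm X) (σ r))) = 1) :
    ∏ r : R ρ, lam (dl ρ σ hσ ((g : Equiv.Perm X) (σ r))) =
      ∏ r ∈ Y, lam (dl ρ σ hσ ((g : Equiv.Perm X) (σ r))) := by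
  classical
  rw [← Finset.prod_sdiff (Finset.subset_univ Y)]
  have key : ∏ r ∈ Finset.univ \ Y, lam (dl ρ σ hσ ((g : Equiv.Perm X) (σ r))) = 1 := by
    apply Finset.prod_involution (fun r _ => bar ρ g r)
    · intro r _
      rw [← map_mul, dl_involution ρ hfree σ hσ g hg r, map_one]
    · intro r hr hne hfix
      rw [Finset.mem_sdiff] at hr
      exact hne (h1 r hr.2 hfix)
    · intro r hr
      rw [Finset.mem_sdiff] at hr ⊢
      refine ⟨Finset.mem_univ _, fun hmem => hr.2 ?_⟩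
      have h2 := hY _ hmem
      have h3 := bar_involution ρ g hg r
      rw [h2] at h3
      rw [← h3]; exact hmem
    · intro r _
      exact bar_involution ρ g hg r
  rw [key, one_mul]

end Cfsg.Agent.Lib.Helper7.ThompsonFus
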