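import Mathlib

set_option autoImplicit false

universe u

namespace Cfsg.Agent.Lib.Helper7.Marks

open MulAction

variable {K : Type u} [Group K]

/-- Number of fixed points of `E` on the coset space `K ⧸ D`. -/
noncomputable def fixCount (D E : Subgroup K) : ℕ := Nat.card (fixedPoints E (K ⧸ D))

/-- Conjugate of a subgroup. -/
abbrev cj (k : K) (E : Subgroup K) : Subgroup K := E.map (MulAut.conj k).toMonoidHom

theorem mem_cj {k : K} {E : Subgroup K} {x : K} : x ∈ cj k E ↔ k⁻¹ * x * k ∈ E := by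
  constructor
  · rintro ⟨y, hy, rfl⟩
    simpa [MulAut.conj_apply, mul_assoc] using hy
  · intro h
    exact ⟨k⁻¹ * x * k, h, by simp [MulAut.conj_apply, mul_assoc]⟩

theorem cj_mul (a b : K) (E : Subgroup K) : cj (a * b) E = cj a (cj b E) := by
  ext x
  simp only [mem_cj]
  constructor <;> intro h <;> convert h using 1 <;> group

theorem cj_one (E : Subgroup K) : cj 1 E = E := by
  ext x; simp [mem_cj]

theorem card_cj (k : K) (E : Subgroup K) : Nat.card (cj k E) = Nat.card E :=
  Subgroup.card_map_of_injective (MulAut.conj k).injective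

theorem mem_fixedPoints_quot {D E : Subgroup K} (k : K) :
    ((k : K ⧸ D) ∈ fixedPoints E (K ⧸ D)) ↔ ∀ e ∈ E, k⁻¹ * e * k ∈ D := by
  constructor
  · intro h e he
    have h1 := h ⟨e⁻¹, E.inv_mem he⟩
    have h2 : ((e⁻¹ * k : K) : K ⧸ D) = (k : K ⧸ D) := h1
    have h3 := QuotientGroup.eq.mp h2
    have e3 : (e⁻¹ * k)⁻¹ * k = k⁻¹ * e * k := by group
    rwa [e3] at h3
  · intro h e
    show ((e : K) * k : K ⧸ D) = (k : K ⧸ D)
    rw [QuotientGroup.eq]
    have h1 := D.inv_mem (h e e.2)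
    have e3 : ((e : K) * k)⁻¹ * k = (k⁻¹ * e * k)⁻¹ := by group
    rw [e3]; exact h1

theorem exists_of_fixCount_ne_zero {D E : Subgroup K} (h : fixCount D E ≠ 0) :
    ∃ k : K, ∀ e ∈ E, k⁻¹ * e * k ∈ D := by
  unfold fixCount at h
  have hne : Nonempty (fixedPoints E (K ⧸ D)) := by
    by_contra hcon
    rw [not_nonempty_iff] at hcon
    exact h Nat.card_of_isEmpty
  obtain ⟨⟨q, hq⟩⟩ := hne
  induction q using Quotient.inductionOn' with
  | h k => exact ⟨k, (mem_fixedPoints_quot k).mp hq⟩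

theorem fixCount_eq_zero_of_card_lt [Finite K] {D E : Subgroup K} (h : Nat.card D < Nat.card E) :
    fixCount D E = 0 := by
  by_contra hcon
  obtain ⟨k, hk⟩ := exists_of_fixCount_ne_zero hcon
  have hle : cj k⁻¹ E ≤ D := by
    intro x hx
    rw [mem_cj] at hx
    have := hk _ hx
    simpa [mul_assoc] using this
  have := Subgroup.card_le_of_le hle
  rw [card_cj] at this
  omega

theorem eq_cj_of_fixCount_ne_zero [Finite K] {D E : Subgroup K} (hc : Nat.card E = Nat.card D)
    (h : fixCount D E ≠ 0) : ∃ k : K, E = cj k D := by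
  obtain ⟨k, hk⟩ := exists_of_fixCount_ne_zero h
  refine ⟨k, ?_⟩
  have hle : E ≤ cj k D := by
    intro x hx
    rw [mem_cj]
    exact hk x hx
  apply Subgroup.eq_of_le_of_card_ge hle
  rw [card_cj, hc]

/-- Conjugation invariance in the second variable. -/
theorem fixCount_cj (D E : Subgroup K) (k : K) : fixCount D (cj k E) = fixCount D E := by
  unfold fixCount
  symm
  refine Nat.card_congr ⟨fun q => ⟨k • q.1, ?_⟩, fun q => ⟨k⁻¹ • q.1, ?_⟩, ?_, ?_⟩
  · rintro ⟨e, he⟩
    rw [mem_cj] at he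
    have h1 := q.2 ⟨k⁻¹ * e * k, he⟩
    show e • k • q.1 = k • q.1
    have h2 : (k⁻¹ * e * k) • q.1 = q.1 := h1
    calc e • k • q.1 = k • (k⁻¹ * e * k) • q.1 := by simp [smul_smul, mul_assoc]
      _ = k • q.1 := by rw [h2]
  · rintro ⟨e, he⟩
    have he' : k * e * k⁻¹ ∈ cj k E := by rw [mem_cj]; simpa [mul_assoc] using he
    have h1 : (k * e * k⁻¹) • q.1 = q.1 := q.2 ⟨k * e * k⁻¹, he'⟩
    show e • k⁻¹ • q.1 = k⁻¹ • q.1
    calc e • k⁻¹ • q.1 = k⁻¹ • (k * e * k⁻¹) • q.1 := by simp [smul_smul, mul_assoc]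
      _ = k⁻¹ • q.1 := by rw [h1]
  · intro q; ext; simp
  · intro q; ext; simp

/-- Index of `D` in its normalizer. -/
noncomputable def nd (D : Subgroup K) : ℕ :=
  Nat.card (↥(Subgroup.normalizer (D : Set K)) ⧸ D.subgroupOf (Subgroup.normalizer (D : Set K)))

theorem fixCount_self [Finite K] (D : Subgroup K) : fixCount D D = nd D := by
  unfold fixCount nd
  exact Nat.card_congr (Sylow.fixedPointsMulLeftCosetsEquivQuotient D)

theorem nd_mul_card [Finite K] (D : Subgroup K) :
    nd D * Nat.card D = Nat.card (Subgroup.normalizer (D : Set K)) := by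
  unfold nd
  have h1 := Subgroup.card_eq_card_quotient_mul_card_subgroup
    (D.subgroupOf (Subgroup.normalizer (D : Set K)))
  rw [h1]
  congr 1
  exact (Nat.card_congr (Subgroup.subgroupOfEquivOfLe Subgroup.le_normalizer).toEquiv).symm

theorem nd_pos [Finite K] (D : Subgroup K) : 0 < nd D := by
  unfold nd
  exact Nat.card_pos

theorem nd_dvd_card [Finite K] (D : Subgroup K) : nd D * Nat.card D ∣ Nat.card K := by
  rw [nd_mul_card]
  exact Subgroup.card_subgroup_dvd_card _

end Cfsg.Agent.Lib.Helper7.Marks
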