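import Mathlib
import Cfsg.Agent.Lib.Helper7.MarksA

set_option autoImplicit false

universe u v

namespace Cfsg.Agent.Lib.Helper7.Marks

open MulAction

variable {K : Type u} [Group K]

section burnside

variable {N' : Type v} [Group N'] (ψ : N' →* K) (D E : Subgroup K)

/-- The action of `N'` (through `ψ`) on the fixed points of `E`. -/
@[reducible] def fixAction (hψ : ∀ n : N', ∀ e ∈ E, (ψ n)⁻¹ * e * ψ n ∈ E) :
    MulAction N' (fixedPoints E (K ⧸ D)) where
  smul n q := ⟨ψ n • q.1, by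
    rintro ⟨e, he⟩
    have h1 : ((ψ n)⁻¹ * e * ψ n) • q.1 = q.1 := q.2 ⟨_, hψ n e he⟩
    show e • ψ n • q.1 = ψ n • q.1
    calc e • ψ n • q.1 = ψ n • ((ψ n)⁻¹ * e * ψ n) • q.1 := by simp [smul_smul, mul_assoc]
      _ = ψ n • q.1 := by rw [h1]⟩
  one_smul q := by
    apply Subtype.ext
    show ψ 1 • q.1 = q.1
    rw [map_one, one_smul]
  mul_smul a b q := by
    apply Subtype.ext
    show ψ (a * b) • q.1 = ψ a • ψ b • q.1
    rw [map_mul, mul_smul]

theorem card_dvd_sum_fixCount [Fintype N'] [Finite K]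
    (hψ : ∀ n : N', ∀ e ∈ E, (ψ n)⁻¹ * e * ψ n ∈ E) :
    Fintype.card N' ∣ ∑ n : N', fixCount D (E ⊔ Subgroup.zpowers (ψ n)) := by
  classical
  let _ := fixAction ψ D E hψ
  have : Fintype (K ⧸ D) := Fintype.ofFinite _
  have : Fintype (fixedPoints E (K ⧸ D)) := Fintype.ofFinite _
  have : ∀ n : N', Fintype (fixedBy (fixedPoints E (K ⧸ D)) n) := fun n => Fintype.ofFinite _
  have : Fintype (Quotient (orbitRel N' (fixedPoints E (K ⧸ D)))) := Fintype.ofFinite _
  have hB := sum_card_fixedBy_eq_card_orbits_mul_card_group N' (fixedPoints E (K ⧸ D))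
  have key : ∀ n : N', Fintype.card (fixedBy (fixedPoints E (K ⧸ D)) n) =
      fixCount D (E ⊔ Subgroup.zpowers (ψ n)) := by
    intro n
    unfold fixCount
    rw [← Nat.card_eq_fintype_card]
    refine Nat.card_congr ⟨fun q => ⟨q.1.1, ?_⟩, fun q => ⟨⟨q.1, ?_⟩, ?_⟩, ?_, ?_⟩
    · -- fixed by `E ⊔ ⟨ψ n⟩`
      rintro ⟨x, hx⟩
      have hstab : E ⊔ Subgroup.zpowers (ψ n) ≤ stabilizer K q.1.1 := by
        apply sup_le
        · intro e he
          exact q.1.2 ⟨e, he⟩
        · rw [Subgroup.zpowers_le]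
          have := q.2
          exact congrArg Subtype.val this
      exact hstab hx
    · rintro ⟨e, he⟩
      exact q.2 ⟨e, Subgroup.mem_sup_left he⟩
    · apply Subtype.ext
      show ψ n • q.1 = q.1
      exact q.2 ⟨ψ n, Subgroup.mem_sup_right (Subgroup.mem_zpowers _)⟩
    · intro q; rfl
    · intro q; rfl
  rw [Finset.sum_congr rfl (fun n _ => key n)] at hB
  rw [hB]
  exact Dvd.intro_left _ rfl

end burnside

end Cfsg.Agent.Lib.Helper7.Marks
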