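import Mathlib
import Cfsg.Agent.Lib.Helper7.MarksA
import Cfsg.Agent.Lib.Helper7.MarksA2

set_option autoImplicit false

universe u

namespace Cfsg.Agent.Lib.Helper7.Marks

open MulAction

variable {K : Type u} [Group K]

/-- Conjugacy of subgroups as a setoid. -/
def cjSetoid (K : Type u) [Group K] : Setoid (Subgroup K) where
  r E E' := ∃ k : K, E' = cj k E
  iseqv := by
    refine ⟨fun E => ⟨1, (cj_one E).symm⟩, ?_, ?_⟩
    · rintro E E' ⟨k, rfl⟩
      refine ⟨k⁻¹, ?_⟩
      rw [← cj_mul, inv_mul_cancel, cj_one]
    · rintro E E' E'' ⟨k, rfl⟩ ⟨l, rfl⟩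
      exact ⟨l * k, (cj_mul l k E).symm⟩

/-- A chosen representative of the conjugacy class of a subgroup. -/
noncomputable def rep (E : Subgroup K) : Subgroup K :=
  (Quotient.mk (cjSetoid K) E).out

theorem rep_conj (E : Subgroup K) : ∃ k : K, E = cj k (rep E) := by
  have h : (cjSetoid K).r (rep E) E := Quotient.exact (Quotient.out_eq (Quotient.mk (cjSetoid K) E))
  exact h

theorem rep_cj (E : Subgroup K) (k : K) : rep (cj k E) = rep E := by
  unfold rep
  congr 1
  apply Quotient.sound
  exact (cjSetoid K).symm ⟨k, rfl⟩

theorem rep_rep (E : Subgroup K) : rep (rep E) = rep E := by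
  obtain ⟨k, hk⟩ := rep_conj E
  conv_rhs => rw [hk]
  rw [rep_cj]

variable [Fintype (Subgroup K)]

/-- The marks of the `K`-set `⨆ c D • K ⧸ D`. -/
noncomputable def marks (c : Subgroup K → ℕ) (E : Subgroup K) : ℕ :=
  ∑ D : Subgroup K, c D * fixCount D E

theorem marks_cj (c : Subgroup K → ℕ) (E : Subgroup K) (k : K) : marks c (cj k E) = marks c E := by
  unfold marks
  exact Finset.sum_congr rfl (fun D _ => by rw [fixCount_cj])

theorem marks_rep (c : Subgroup K → ℕ) (E : Subgroup K) : marks c (rep E) = marks c E := by
  obtain ⟨k, hk⟩ := rep_conj E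
  conv_rhs => rw [hk]
  rw [marks_cj]

theorem marks_eq_zero [Finite K] (c : Subgroup K → ℕ) (𝒟 : Set (Subgroup K))
    (hconj : ∀ D ∈ 𝒟, ∀ k : K, cj k D ∈ 𝒟) (hsub : ∀ D ∈ 𝒟, ∀ D' ≤ D, D' ∈ 𝒟)
    (hc : ∀ D, c D ≠ 0 → D ∈ 𝒟) {E : Subgroup K} (hE : E ∉ 𝒟) : marks c E = 0 := by
  unfold marks
  apply Finset.sum_eq_zero
  intro D _
  by_cases hcD : c D = 0
  · rw [hcD, zero_mul]
  · have hD := hc D hcD
    have : fixCount D E = 0 := by
      by_contra hcon
      obtain ⟨k, hk⟩ := exists_of_fixCount_ne_zero hcon
      apply hE
      apply hsub (cj k D) (hconj D hD k)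
      intro x hx
      rw [mem_cj]
      exact hk x hx
    rw [this, mul_zero]

/-- **Uniform marks**: for a family of subgroups closed under conjugation and subgroups there is a
`K`-set with isotropy in the family whose marks depend only on the order of the subgroup. -/
theorem exists_uniform [Finite K] (𝒟 : Set (Subgroup K))
    (hconj : ∀ D ∈ 𝒟, ∀ k : K, cj k D ∈ 𝒟) (hsub : ∀ D ∈ 𝒟, ∀ D' ≤ D, D' ∈ 𝒟) :
    ∃ (c : Subgroup K → ℕ) (M : ℕ → ℕ), (∀ D, c D ≠ 0 → D ∈ 𝒟) ∧ (∀ j, 0 < M j) ∧
      ∀ E ∈ 𝒟, marks c E = M (Nat.card E) := by
  classical
  have hKpos : 0 < Nat.card K := Nat.card_pos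
  -- downward induction on the threshold
  have key : ∀ t : ℕ, ∃ (c : Subgroup K → ℕ) (M : ℕ → ℕ),
      (∀ D, c D ≠ 0 → D ∈ 𝒟) ∧ (∀ j, 0 < M j ∧ Nat.card K ∣ M j) ∧
      ∀ E ∈ 𝒟, Nat.card K + 1 - t ≤ Nat.card E → marks c E = M (Nat.card E) := by
    intro t
    induction t with
    | zero =>
      refine ⟨fun _ => 0, fun _ => Nat.card K, fun D h => absurd rfl h, fun j => ⟨hKpos, dvd_rfl⟩, ?_⟩
      intro E _ hE
      have := Subgroup.card_le_card_group E
      omega
    | succ s ih =>
      obtain ⟨c, M, hc, hM, hmarks⟩ := ih
      by_cases hs : Nat.card K + 1 - s = 0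
      · refine ⟨c, M, hc, hM, ?_⟩
        intro E hE hle
        apply hmarks E hE
        omega
      set t := Nat.card K + 1 - (s + 1) with ht
      have hts : Nat.card K + 1 - s = t + 1 := by omega
      -- the new value
      set Mt := Nat.card K * (1 + ∑ D : Subgroup K, marks c D) with hMt
      have hMtpos : 0 < Mt := Nat.mul_pos hKpos (by omega)
      have hMtge : ∀ D : Subgroup K, marks c D ≤ Mt := by
        intro D
        have h1 : marks c D ≤ ∑ D : Subgroup K, marks c D :=
          Finset.single_le_sum (f := fun D => marks c D) (fun _ _ => Nat.zero_le _) (Finset.mem_univ D)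
        calc marks c D ≤ 1 * (1 + ∑ D : Subgroup K, marks c D) := by omega
          _ ≤ Mt := Nat.mul_le_mul_right _ hKpos
      -- divisibility
      have hdiv : ∀ D ∈ 𝒟, Nat.card D = t → nd D ∣ Mt - marks c D := by
        intro D hD hDt
        have hndK : nd D ∣ Nat.card K := Dvd.dvd.trans (Dvd.intro _ rfl) (nd_dvd_card D)
        have h1 : nd D ∣ Mt := hndK.trans (Dvd.intro _ rfl)
        have h2 : nd D ∣ marks c D := by
          -- Burnside
          have : Fintype ↥(Subgroup.normalizer (D : Set K)) := Fintype.ofFinite _
          have hB : ∀ D₀ : Subgroup K, Fintype.card ↥(Subgroup.normalizer (D : Set K)) ∣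
              ∑ n : ↥(Subgroup.normalizer (D : Set K)), fixCount D₀ (D ⊔ Subgroup.zpowers (n : K)) := by
            intro D₀
            apply card_dvd_sum_fixCount (Subgroup.normalizer (D : Set K)).subtype D₀ D
            intro n e he
            have := (Subgroup.mem_normalizer_iff.mp (Subgroup.inv_mem _ n.2) e).mp he
            simpa using this
          have hB2 : Fintype.card ↥(Subgroup.normalizer (D : Set K)) ∣
              ∑ n : ↥(Subgroup.normalizer (D : Set K)), marks c (D ⊔ Subgroup.zpowers (n : K)) := by
            unfold marks
            rw [Finset.sum_comm]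
            apply Finset.dvd_sum
            intro D₀ _
            rw [← Finset.mul_sum]
            exact Dvd.dvd.mul_left (hB D₀) _
          -- split the sum
          have hsplit : ∀ n : ↥(Subgroup.normalizer (D : Set K)), (n : K) ∉ D →
              Nat.card K ∣ marks c (D ⊔ Subgroup.zpowers (n : K)) := by
            intro n hn
            by_cases hmem : D ⊔ Subgroup.zpowers (n : K) ∈ 𝒟
            · have hlt : Nat.card D < Nat.card ↥(D ⊔ Subgroup.zpowers (n : K)) := by
                by_contra hcon
                have hle : D ≤ D ⊔ Subgroup.zpowers (n : K) := le_sup_left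
                have heq := Subgroup.eq_of_le_of_card_ge hle (not_lt.mp hcon)
                apply hn
                have h9 : (n : K) ∈ D ⊔ Subgroup.zpowers (n : K) :=
                  Subgroup.mem_sup_right (Subgroup.mem_zpowers _)
                exact heq.ge h9
              rw [hmarks _ hmem (by omega)]
              exact (hM _).2
            · rw [marks_eq_zero c 𝒟 hconj hsub hc hmem]
              exact dvd_zero _
          have hsum := Finset.sum_filter_add_sum_filter_not Finset.univ
            (fun n : ↥(Subgroup.normalizer (D : Set K)) => (n : K) ∈ D)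
            (fun n => marks c (D ⊔ Subgroup.zpowers (n : K)))
          have hfirst : ∑ n ∈ Finset.univ.filter (fun n : ↥(Subgroup.normalizer (D : Set K)) => (n : K) ∈ D),
              marks c (D ⊔ Subgroup.zpowers (n : K)) = Nat.card D * marks c D := by
            have h3 : ∀ n ∈ Finset.univ.filter (fun n : ↥(Subgroup.normalizer (D : Set K)) => (n : K) ∈ D),
                marks c (D ⊔ Subgroup.zpowers (n : K)) = marks c D := by
              intro n hn
              rw [Finset.mem_filter] at hn
              have : D ⊔ Subgroup.zpowers (n : K) = D := by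
                rw [sup_eq_left, Subgroup.zpowers_le]
                exact hn.2
              rw [this]
            rw [Finset.sum_congr rfl h3, Finset.sum_const, smul_eq_mul]
            congr 1
            have h4 : Nat.card (D.subgroupOf (Subgroup.normalizer (D : Set K))) = Nat.card D :=
              Nat.card_congr (Subgroup.subgroupOfEquivOfLe Subgroup.le_normalizer).toEquiv
            rw [← h4, Nat.card_eq_fintype_card, Fintype.card_subtype]
            congr 1
          have hsecond : Nat.card K ∣ ∑ n ∈ Finset.univ.filter
              (fun n : ↥(Subgroup.normalizer (D : Set K)) => ¬ (n : K) ∈ D),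
              marks c (D ⊔ Subgroup.zpowers (n : K)) := by
            apply Finset.dvd_sum
            intro n hn
            rw [Finset.mem_filter] at hn
            exact hsplit n hn.2
          rw [← hsum, hfirst] at hB2
          have hNK : Fintype.card ↥(Subgroup.normalizer (D : Set K)) ∣ Nat.card K := by
            rw [← Nat.card_eq_fintype_card]
            exact Subgroup.card_subgroup_dvd_card _
          have h5 : Fintype.card ↥(Subgroup.normalizer (D : Set K)) ∣ Nat.card D * marks c D :=
            (Nat.dvd_add_left (hNK.trans hsecond)).mp hB2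
          rw [← Nat.card_eq_fintype_card, ← nd_mul_card, mul_comm] at h5
          exact Nat.dvd_of_mul_dvd_mul_left Nat.card_pos h5
        exact (Nat.dvd_sub h1 h2)
      -- the new multiplicity function
      set add : Subgroup K → ℕ := fun D =>
        if D ∈ 𝒟 ∧ Nat.card D = t ∧ rep D = D then (Mt - marks c D) / nd D else 0 with hadd
      refine ⟨fun D => c D + add D, fun j => if j = t then Mt else M j, ?_, ?_, ?_⟩
      · intro D hD
        by_cases hcD : c D = 0
        · have hD : c D + add D ≠ 0 := hD
          rw [hcD, zero_add] at hD
          by_contra hcon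
          apply hD
          simp only [hadd]
          rw [if_neg (fun h => hcon h.1)]
        · exact hc D hcD
      · intro j
        beta_reduce
        by_cases hj : j = t
        · rw [if_pos hj]
          exact ⟨hMtpos, Dvd.intro _ rfl⟩
        · rw [if_neg hj]
          exact hM j
      · intro E hE hle
        have hmk : marks (fun D => c D + add D) E = marks c E + ∑ D : Subgroup K, add D * fixCount D E := by
          unfold marks
          rw [← Finset.sum_add_distrib]
          exact Finset.sum_congr rfl (fun D _ => by ring)
        rw [hmk]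
        beta_reduce
        by_cases hEt : Nat.card E = t
        · rw [if_pos hEt]
          -- only `rep E` contributes
          have hrepE : rep E ∈ 𝒟 := by
            obtain ⟨k, hk⟩ := rep_conj E
            have : rep E = cj k⁻¹ E := by
              conv_rhs => rw [hk]
              rw [← cj_mul, inv_mul_cancel, cj_one]
            rw [this]
            exact hconj E hE _
          have hrepcard : Nat.card (rep E) = t := by
            obtain ⟨k, hk⟩ := rep_conj E
            rw [← hEt]
            conv_rhs => rw [hk]
            rw [card_cj]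
          have hone : ∑ D : Subgroup K, add D * fixCount D E = add (rep E) * fixCount (rep E) E := by
            apply Finset.sum_eq_single (rep E)
            · intro D _ hne
              simp only [hadd]
              by_cases hcond : D ∈ 𝒟 ∧ Nat.card D = t ∧ rep D = D
              · have : fixCount D E = 0 := by
                  by_contra hcon
                  obtain ⟨k, hk⟩ := eq_cj_of_fixCount_ne_zero (hEt.trans hcond.2.1.symm) hcon
                  apply hne
                  rw [← hcond.2.2, hk, rep_cj]
                rw [this, mul_zero]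
              · rw [if_neg hcond, zero_mul]
            · intro h; exact absurd (Finset.mem_univ _) h
          rw [hone]
          have hfc : fixCount (rep E) E = nd (rep E) := by
            obtain ⟨k, hk⟩ := rep_conj E
            have h8 : fixCount (rep E) E = fixCount (rep E) (cj k (rep E)) := by rw [← hk]
            rw [h8, fixCount_cj, fixCount_self]
          rw [hfc]
          simp only [hadd]
          rw [if_pos ⟨hrepE, hrepcard, rep_rep E⟩, Nat.div_mul_cancel (hdiv _ hrepE hrepcard), marks_rep]
          have := hMtge E
          omega
        · have hlt : t < Nat.card E := by omega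
          rw [if_neg hEt]
          have hzero : ∑ D : Subgroup K, add D * fixCount D E = 0 := by
            apply Finset.sum_eq_zero
            intro D _
            simp only [hadd]
            by_cases hcond : D ∈ 𝒟 ∧ Nat.card D = t ∧ rep D = D
            · rw [fixCount_eq_zero_of_card_lt (by omega), mul_zero]
            · rw [if_neg hcond, zero_mul]
          rw [hzero, add_zero]
          exact hmarks E hE (by omega)
  obtain ⟨c, M, hc, hM, hmarks⟩ := key (Nat.card K + 1)
  refine ⟨c, M, hc, fun j => (hM j).1, fun E hE => hmarks E hE (by omega)⟩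

end Cfsg.Agent.Lib.Helper7.Marks
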