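import Mathlib
import Cfsg.Agent.Lib.Helper7.MarksC

set_option autoImplicit false

universe u

namespace Cfsg.Agent.Lib.Helper7.Marks

open MulAction

variable {K : Type u} [Group K]

/-- Abstract saturation data on the subgroups of a finite group. -/
structure SatData (K : Type u) [Group K] where
  FC : Subgroup K → Subgroup K → Prop
  symm : ∀ {E E' : Subgroup K}, FC E E' → FC E' E
  trans : ∀ {E E' E'' : Subgroup K}, FC E E' → FC E' E'' → FC E E''
  conj : ∀ (E : Subgroup K) (k : K), FC E (cj k E)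
  card : ∀ {E E' : Subgroup K}, FC E E' → Nat.card E = Nat.card E'
  sat : ∀ E : Subgroup K, ∃ Pstar : Subgroup K, FC E Pstar ∧ ∀ E' : Subgroup K, FC E' Pstar →
    ∃ ψ : ↥(Subgroup.normalizer (E' : Set K)) →* K,
      (∀ n, ∀ e ∈ Pstar, (ψ n)⁻¹ * e * ψ n ∈ Pstar) ∧
      (∀ n : ↥(Subgroup.normalizer (E' : Set K)), (n : K) ∈ E' → ψ n ∈ Pstar) ∧
      ∀ n : ↥(Subgroup.normalizer (E' : Set K)), (n : K) ∉ E' →
        FC (E' ⊔ Subgroup.zpowers (n : K)) (Pstar ⊔ Subgroup.zpowers (ψ n))

theorem SatData.refl (D : SatData K) (E : Subgroup K) : D.FC E E := by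
  have := D.conj E 1
  rwa [cj_one] at this

variable [Fintype (Subgroup K)]

/-- The congruence of marks inside a class of maximal members. -/
theorem marks_modEq [Finite K] (D : SatData K) (𝓗 : Set (Subgroup K)) (c₀ : Subgroup K → ℕ)
    (hstable : ∀ E E' : Subgroup K, D.FC E E' → E ∉ 𝓗 → marks c₀ E = marks c₀ E')
    {E Pstar : Subgroup K} (hmax : ∀ E' ∈ 𝓗, Nat.card E' ≤ Nat.card E)
    (ψ : ↥(Subgroup.normalizer (E : Set K)) →* K)
    (h1 : ∀ n, ∀ e ∈ Pstar, (ψ n)⁻¹ * e * ψ n ∈ Pstar)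
    (h2 : ∀ n : ↥(Subgroup.normalizer (E : Set K)), (n : K) ∈ E → ψ n ∈ Pstar)
    (h3 : ∀ n : ↥(Subgroup.normalizer (E : Set K)), (n : K) ∉ E →
      D.FC (E ⊔ Subgroup.zpowers (n : K)) (Pstar ⊔ Subgroup.zpowers (ψ n))) :
    marks c₀ E ≡ marks c₀ Pstar [MOD nd E] := by
  classical
  have : Fintype ↥(Subgroup.normalizer (E : Set K)) := Fintype.ofFinite _
  -- Burnside for `E`
  have hBE : Fintype.card ↥(Subgroup.normalizer (E : Set K)) ∣
      ∑ n : ↥(Subgroup.normalizer (E : Set K)), marks c₀ (E ⊔ Subgroup.zpowers (n : K)) := by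
    unfold marks
    rw [Finset.sum_comm]
    apply Finset.dvd_sum
    intro D₀ _
    rw [← Finset.mul_sum]
    apply Dvd.dvd.mul_left
    apply card_dvd_sum_fixCount (Subgroup.normalizer (E : Set K)).subtype D₀ E
    intro n e he
    have := (Subgroup.mem_normalizer_iff.mp (Subgroup.inv_mem _ n.2) e).mp he
    simpa using this
  have hBP : Fintype.card ↥(Subgroup.normalizer (E : Set K)) ∣
      ∑ n : ↥(Subgroup.normalizer (E : Set K)), marks c₀ (Pstar ⊔ Subgroup.zpowers (ψ n)) := by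
    unfold marks
    rw [Finset.sum_comm]
    apply Finset.dvd_sum
    intro D₀ _
    rw [← Finset.mul_sum]
    apply Dvd.dvd.mul_left
    exact card_dvd_sum_fixCount ψ D₀ Pstar h1
  -- split both sums
  have hcount : (Finset.univ.filter (fun n : ↥(Subgroup.normalizer (E : Set K)) => (n : K) ∈ E)).card =
      Nat.card E := by
    have h4 : Nat.card (E.subgroupOf (Subgroup.normalizer (E : Set K))) = Nat.card E :=
      Nat.card_congr (Subgroup.subgroupOfEquivOfLe Subgroup.le_normalizer).toEquiv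
    rw [← h4, Nat.card_eq_fintype_card, Fintype.card_subtype]
    congr 1
  have hsumE := Finset.sum_filter_add_sum_filter_not Finset.univ
    (fun n : ↥(Subgroup.normalizer (E : Set K)) => (n : K) ∈ E)
    (fun n => marks c₀ (E ⊔ Subgroup.zpowers (n : K)))
  have hsumP := Finset.sum_filter_add_sum_filter_not Finset.univ
    (fun n : ↥(Subgroup.normalizer (E : Set K)) => (n : K) ∈ E)
    (fun n => marks c₀ (Pstar ⊔ Subgroup.zpowers (ψ n)))
  have hfirstE : ∑ n ∈ Finset.univ.filter (fun n : ↥(Subgroup.normalizer (E : Set K)) => (n : K) ∈ E),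
      marks c₀ (E ⊔ Subgroup.zpowers (n : K)) = Nat.card E * marks c₀ E := by
    have h5 : ∀ n ∈ Finset.univ.filter (fun n : ↥(Subgroup.normalizer (E : Set K)) => (n : K) ∈ E),
        marks c₀ (E ⊔ Subgroup.zpowers (n : K)) = marks c₀ E := by
      intro n hn
      rw [Finset.mem_filter] at hn
      have : E ⊔ Subgroup.zpowers (n : K) = E := by
        rw [sup_eq_left, Subgroup.zpowers_le]; exact hn.2
      rw [this]
    rw [Finset.sum_congr rfl h5, Finset.sum_const, smul_eq_mul, hcount]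
  have hfirstP : ∑ n ∈ Finset.univ.filter (fun n : ↥(Subgroup.normalizer (E : Set K)) => (n : K) ∈ E),
      marks c₀ (Pstar ⊔ Subgroup.zpowers (ψ n)) = Nat.card E * marks c₀ Pstar := by
    have h5 : ∀ n ∈ Finset.univ.filter (fun n : ↥(Subgroup.normalizer (E : Set K)) => (n : K) ∈ E),
        marks c₀ (Pstar ⊔ Subgroup.zpowers (ψ n)) = marks c₀ Pstar := by
      intro n hn
      rw [Finset.mem_filter] at hn
      have : Pstar ⊔ Subgroup.zpowers (ψ n) = Pstar := by
        rw [sup_eq_left, Subgroup.zpowers_le]; exact h2 n hn.2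
      rw [this]
    rw [Finset.sum_congr rfl h5, Finset.sum_const, smul_eq_mul, hcount]
  have hsecond : ∑ n ∈ Finset.univ.filter (fun n : ↥(Subgroup.normalizer (E : Set K)) => ¬ (n : K) ∈ E),
      marks c₀ (E ⊔ Subgroup.zpowers (n : K)) =
      ∑ n ∈ Finset.univ.filter (fun n : ↥(Subgroup.normalizer (E : Set K)) => ¬ (n : K) ∈ E),
      marks c₀ (Pstar ⊔ Subgroup.zpowers (ψ n)) := by
    apply Finset.sum_congr rfl
    intro n hn
    rw [Finset.mem_filter] at hn
    apply hstable _ _ (h3 n hn.2)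
    intro hmem
    have hle := hmax _ hmem
    have hlt : Nat.card E < Nat.card ↥(E ⊔ Subgroup.zpowers (n : K)) := by
      by_contra hcon
      have hle' : E ≤ E ⊔ Subgroup.zpowers (n : K) := le_sup_left
      have heq := Subgroup.eq_of_le_of_card_ge hle' (not_lt.mp hcon)
      apply hn.2
      have h9 : (n : K) ∈ E ⊔ Subgroup.zpowers (n : K) :=
        Subgroup.mem_sup_right (Subgroup.mem_zpowers _)
      exact heq.ge h9
    omega
  rw [← hsumE, hfirstE] at hBE
  rw [← hsumP, hfirstP, ← hsecond] at hBP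
  rw [← Nat.card_eq_fintype_card, ← nd_mul_card] at hBE hBP
  have h6 : Nat.card E * marks c₀ E ≡ Nat.card E * marks c₀ Pstar [MOD Nat.card E * nd E] := by
    rw [mul_comm (Nat.card E) (nd E)]
    have hE0 := (Nat.modEq_zero_iff_dvd).mpr hBE
    have hP0 := (Nat.modEq_zero_iff_dvd).mpr hBP
    exact Nat.ModEq.add_right_cancel' _ (hE0.trans hP0.symm)
  exact Nat.ModEq.mul_left_cancel' (Nat.card_pos.ne') h6

end Cfsg.Agent.Lib.Helper7.Marks
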