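import Mathlib
import Cfsg.Agent.Lib.Helper7.CharBisetA

set_option autoImplicit false

universe u

namespace Cfsg.Agent.Lib.Helper7.Marks

open MulAction

variable {K : Type u} [Group K] [Fintype (Subgroup K)]

/-- **Broto–Levi–Oliver, Lemma 5.4** in numerical form. -/
theorem blo_stabilize [Finite K] (D : SatData K) :
    ∀ (n : ℕ) (𝓗 : Set (Subgroup K)), 𝓗.ncard = n →
      (∀ E E' : Subgroup K, D.FC E E' → E ∈ 𝓗 → E' ∈ 𝓗) →
      (∀ E ∈ 𝓗, ∀ E' ≤ E, E' ∈ 𝓗) →
      ∀ c₀ : Subgroup K → ℕ,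
      (∀ E E' : Subgroup K, D.FC E E' → E ∉ 𝓗 → marks c₀ E = marks c₀ E') →
      ∃ c : Subgroup K → ℕ, (∀ D' : Subgroup K, D' ∉ 𝓗 → c D' = c₀ D') ∧
        ∀ E E' : Subgroup K, D.FC E E' → marks c E = marks c E' := by
  classical
  intro n
  induction n using Nat.strong_induction_on with
  | _ n ih =>
    intro 𝓗 hn hFC hsub c₀ hstable
    rcases Set.eq_empty_or_nonempty 𝓗 with hempty | hne
    · refine ⟨c₀, fun _ _ => rfl, fun E E' h => hstable E E' h ?_⟩
      rw [hempty]; exact Set.notMem_empty _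
    have hfin : 𝓗.Finite := Set.toFinite 𝓗
    -- a member of maximal order
    have : Nonempty ↥𝓗 := hne.to_subtype
    obtain ⟨⟨P₀, hP₀⟩, hP₀max⟩ := Finite.exists_max (fun E : ↥𝓗 => Nat.card (E : Subgroup K))
    have hmax : ∀ E' ∈ 𝓗, Nat.card E' ≤ Nat.card P₀ := fun E' hE' => hP₀max ⟨E', hE'⟩
    obtain ⟨Pstar, hP₀star, hsat⟩ := D.sat P₀
    set 𝓟 : Set (Subgroup K) := {E | D.FC E Pstar} with h𝓟
    have h𝓟sub : 𝓟 ⊆ 𝓗 := by
      intro E hE
      exact hFC P₀ E (D.trans hP₀star (D.symm hE)) hP₀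
    have h𝓟card : ∀ E ∈ 𝓟, Nat.card E = Nat.card P₀ := by
      intro E hE
      rw [D.card hE, D.card hP₀star]
    set 𝓗' : Set (Subgroup K) := 𝓗 \ 𝓟 with h𝓗'
    have hlt : 𝓗'.ncard < n := by
      rw [← hn]
      apply Set.ncard_lt_ncard _ hfin
      refine ⟨Set.sdiff_subset, fun hcon => ?_⟩
      exact (hcon hP₀).2 hP₀star
    have hFC' : ∀ E E' : Subgroup K, D.FC E E' → E ∈ 𝓗' → E' ∈ 𝓗' := by
      intro E E' h hE
      refine ⟨hFC E E' h hE.1, fun hE' => hE.2 (D.trans h hE')⟩
    have hsub' : ∀ E ∈ 𝓗', ∀ E' ≤ E, E' ∈ 𝓗' := by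
      intro E hE E' hle
      refine ⟨hsub E hE.1 E' hle, fun hE' => hE.2 ?_⟩
      have h1 := h𝓟card E' hE'
      have h2 := hmax E hE.1
      have h3 : E' = E := Subgroup.eq_of_le_of_card_ge hle (by omega)
      rw [← h3]; exact hE'
    -- congruences
    have hcong : ∀ E ∈ 𝓟, marks c₀ E ≡ marks c₀ Pstar [MOD nd E] := by
      intro E hE
      obtain ⟨ψ, h1, h2, h3⟩ := hsat E hE
      apply marks_modEq D 𝓗 c₀ hstable _ ψ h1 h2 h3
      intro E' hE'
      rw [h𝓟card E hE]
      exact hmax E' hE'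
    set L := ∑ D' : Subgroup K, marks c₀ D' with hL
    set Mval := marks c₀ Pstar + Nat.card K * L with hMval
    have hMge : ∀ E : Subgroup K, marks c₀ E ≤ Mval := by
      intro E
      have h1 : marks c₀ E ≤ L :=
        Finset.single_le_sum (f := fun D' => marks c₀ D') (fun _ _ => Nat.zero_le _) (Finset.mem_univ E)
      have h2 : L ≤ Nat.card K * L := Nat.le_mul_of_pos_left _ Nat.card_pos
      omega
    have hdiv : ∀ E ∈ 𝓟, nd E ∣ Mval - marks c₀ E := by
      intro E hE
      have h1 := hcong E hE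
      have h2 : nd E ∣ Nat.card K * L :=
        (Dvd.dvd.trans (Dvd.intro _ rfl) (nd_dvd_card E)).trans (Dvd.intro _ rfl)
      have h3 : Mval ≡ marks c₀ E [MOD nd E] := by
        have h4 : marks c₀ Pstar + Nat.card K * L ≡ marks c₀ Pstar + 0 [MOD nd E] :=
          Nat.ModEq.add_left _ ((Nat.modEq_zero_iff_dvd).mpr h2)
        rw [add_zero] at h4
        exact h4.trans h1.symm
      exact (Nat.modEq_iff_dvd' (hMge E)).mp h3.symm
    set add : Subgroup K → ℕ := fun E =>
      if E ∈ 𝓟 ∧ rep E = E then (Mval - marks c₀ E) / nd E else 0 with hadd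
    set c₁ : Subgroup K → ℕ := fun E => c₀ E + add E with hc₁
    have hmk : ∀ E : Subgroup K, marks c₁ E = marks c₀ E + ∑ D' : Subgroup K, add D' * fixCount D' E := by
      intro E
      unfold marks
      rw [← Finset.sum_add_distrib]
      exact Finset.sum_congr rfl (fun D' _ => by simp only [hc₁]; ring)
    have hrep𝓟 : ∀ E ∈ 𝓟, rep E ∈ 𝓟 := by
      intro E hE
      obtain ⟨k, hk⟩ := rep_conj E
      have h1 : D.FC (rep E) E := by
        have := D.conj (rep E) k
        rwa [← hk] at this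
      exact D.trans h1 hE
    have hmarks𝓟 : ∀ E ∈ 𝓟, marks c₁ E = Mval := by
      intro E hE
      rw [hmk]
      have hone : ∑ D' : Subgroup K, add D' * fixCount D' E = add (rep E) * fixCount (rep E) E := by
        apply Finset.sum_eq_single (rep E)
        · intro D' _ hne
          simp only [hadd]
          by_cases hcond : D' ∈ 𝓟 ∧ rep D' = D'
          · have : fixCount D' E = 0 := by
              by_contra hcon
              obtain ⟨k, hk⟩ := eq_cj_of_fixCount_ne_zero
                ((h𝓟card E hE).trans (h𝓟card D' hcond.1).symm) hcon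
              apply hne
              rw [← hcond.2, hk, rep_cj]
            rw [this, mul_zero]
          · rw [if_neg hcond, zero_mul]
        · intro h; exact absurd (Finset.mem_univ _) h
      rw [hone]
      have hfc : fixCount (rep E) E = nd (rep E) := by
        obtain ⟨k, hk⟩ := rep_conj E
        have h8 : fixCount (rep E) E = fixCount (rep E) (cj k (rep E)) := by rw [← hk]
        rw [h8, fixCount_cj, fixCount_self]
      rw [hfc]
      simp only [hadd]
      rw [if_pos ⟨hrep𝓟 E hE, rep_rep E⟩, Nat.div_mul_cancel (hdiv _ (hrep𝓟 E hE)), marks_rep]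
      have := hMge E
      omega
    have hmarksOut : ∀ E : Subgroup K, E ∉ 𝓗 → marks c₁ E = marks c₀ E := by
      intro E hE
      rw [hmk]
      have hzero : ∑ D' : Subgroup K, add D' * fixCount D' E = 0 := by
        apply Finset.sum_eq_zero
        intro D' _
        simp only [hadd]
        by_cases hcond : D' ∈ 𝓟 ∧ rep D' = D'
        · have : fixCount D' E = 0 := by
            by_contra hcon
            obtain ⟨k, hk⟩ := exists_of_fixCount_ne_zero hcon
            apply hE
            have h1 : cj k D' ∈ 𝓗 := hFC D' _ (D.conj D' k) (h𝓟sub hcond.1)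
            apply hsub _ h1
            intro x hx
            rw [mem_cj]
            exact hk x hx
          rw [this, mul_zero]
        · rw [if_neg hcond, zero_mul]
      rw [hzero, add_zero]
    have hstable₁ : ∀ E E' : Subgroup K, D.FC E E' → E ∉ 𝓗' → marks c₁ E = marks c₁ E' := by
      intro E E' h hE
      by_cases hE𝓗 : E ∈ 𝓗
      · have hE𝓟 : E ∈ 𝓟 := by
          by_contra hcon
          exact hE ⟨hE𝓗, hcon⟩
        have hE'𝓟 : E' ∈ 𝓟 := D.trans (D.symm h) hE𝓟
        rw [hmarks𝓟 E hE𝓟, hmarks𝓟 E' hE'𝓟]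
      · have hE'𝓗 : E' ∉ 𝓗 := fun h' => hE𝓗 (hFC E' E (D.symm h) h')
        rw [hmarksOut E hE𝓗, hmarksOut E' hE'𝓗]
        exact hstable E E' h hE𝓗
    obtain ⟨c, hc, hcst⟩ := ih _ hlt 𝓗' rfl hFC' hsub' c₁ hstable₁
    refine ⟨c, ?_, hcst⟩
    intro D' hD'
    have h1 : D' ∉ 𝓗' := fun h => hD' h.1
    rw [hc D' h1]
    simp only [hc₁, hadd]
    rw [if_neg (fun h => hD' (h𝓟sub h.1)), add_zero]

end Cfsg.Agent.Lib.Helper7.Marks
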