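import Mathlib
import Cfsg.Prelude.Def_FusionSystem
import Cfsg.Prelude.Def_FusionComponents
import Cfsg.Agent.Lib.Helper7.Fusion

set_option autoImplicit false

namespace Cfsg.Agent.Lib.Helper7

open Cfsg Cfsg.FusionSystem

variable {Ω₁ Ω₂ : Type*} [Group Ω₁] [Group Ω₂] {S₁ : Subgroup Ω₁} {S₂ : Subgroup Ω₂}

/-- the maps of the product system -/
def prodHom (F₁ : FusionSystem S₁) (F₂ : FusionSystem S₂) (P : Subgroup (Ω₁ × Ω₂)) :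
    Set (P →* Ω₁ × Ω₂) :=
  {φ | P ≤ S₁.prod S₂ ∧
      ∃ φ₁ ∈ F₁.Hom (P.map (MonoidHom.fst Ω₁ Ω₂)), ∃ φ₂ ∈ F₂.Hom (P.map (MonoidHom.snd Ω₁ Ω₂)),
        ∀ (x : P) (h₁ : (x : Ω₁ × Ω₂).1 ∈ P.map (MonoidHom.fst Ω₁ Ω₂))
          (h₂ : (x : Ω₁ × Ω₂).2 ∈ P.map (MonoidHom.snd Ω₁ Ω₂)),
          φ x = (φ₁ ⟨(x : Ω₁ × Ω₂).1, h₁⟩, φ₂ ⟨(x : Ω₁ × Ω₂).2, h₂⟩)}

theorem fst_mem_map {P : Subgroup (Ω₁ × Ω₂)} (x : P) :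
    (x : Ω₁ × Ω₂).1 ∈ P.map (MonoidHom.fst Ω₁ Ω₂) := ⟨x, x.2, rfl⟩

theorem snd_mem_map {P : Subgroup (Ω₁ × Ω₂)} (x : P) :
    (x : Ω₁ × Ω₂).2 ∈ P.map (MonoidHom.snd Ω₁ Ω₂) := ⟨x, x.2, rfl⟩

theorem prodHom_injective (F₁ : FusionSystem S₁) (F₂ : FusionSystem S₂) {P : Subgroup (Ω₁ × Ω₂)}
    {φ : P →* Ω₁ × Ω₂} (h : φ ∈ prodHom F₁ F₂ P) : Function.Injective φ := by
  obtain ⟨-, φ₁, hφ₁, φ₂, hφ₂, he⟩ := h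
  intro a b hab
  rw [he a (fst_mem_map a) (snd_mem_map a), he b (fst_mem_map b) (snd_mem_map b)] at hab
  have h1 := F₁.injective_of_mem hφ₁ (congrArg Prod.fst hab)
  have h2 := F₂.injective_of_mem hφ₂ (congrArg Prod.snd hab)
  apply Subtype.ext
  exact Prod.ext (congrArg Subtype.val h1) (congrArg Subtype.val h2)

def prodSystem (F₁ : FusionSystem S₁) (F₂ : FusionSystem S₂) : FusionSystem (S₁.prod S₂) where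
  Hom P := prodHom F₁ F₂ P
  le_of_mem := by
    rintro P φ ⟨hP, φ₁, hφ₁, φ₂, hφ₂, he⟩
    refine ⟨hP, fun x => ?_⟩
    rw [he x (fst_mem_map x) (snd_mem_map x)]
    exact ⟨(F₁.le_of_mem hφ₁).2 _, (F₂.le_of_mem hφ₂).2 _⟩
  injective_of_mem := fun h => prodHom_injective F₁ F₂ h
  conj_mem := by
    intro P g hP hg
    have hP₁ : P.map (MonoidHom.fst Ω₁ Ω₂) ≤ S₁ := by
      rintro _ ⟨x, hx, rfl⟩; exact (hP hx).1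
    have hP₂ : P.map (MonoidHom.snd Ω₁ Ω₂) ≤ S₂ := by
      rintro _ ⟨x, hx, rfl⟩; exact (hP hx).2
    exact ⟨hP, conjHom _ g.1, F₁.conj_mem hP₁ hg.1, conjHom _ g.2, F₂.conj_mem hP₂ hg.2,
      fun x h₁ h₂ => rfl⟩
  comp_mem := by
    rintro P Q φ ψ ⟨hP, φ₁, hφ₁, φ₂, hφ₂, he⟩ ⟨hQ, ψ₁, hψ₁, ψ₂, hψ₂, he'⟩ h
    have h1 : ∀ x : ↥(P.map (MonoidHom.fst Ω₁ Ω₂)), φ₁ x ∈ Q.map (MonoidHom.fst Ω₁ Ω₂) := by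
      rintro ⟨_, x, hx, rfl⟩
      refine ⟨φ ⟨x, hx⟩, h ⟨x, hx⟩, ?_⟩
      rw [he ⟨x, hx⟩ (fst_mem_map _) (snd_mem_map _)]
      rfl
    have h2 : ∀ x : ↥(P.map (MonoidHom.snd Ω₁ Ω₂)), φ₂ x ∈ Q.map (MonoidHom.snd Ω₁ Ω₂) := by
      rintro ⟨_, x, hx, rfl⟩
      refine ⟨φ ⟨x, hx⟩, h ⟨x, hx⟩, ?_⟩
      rw [he ⟨x, hx⟩ (fst_mem_map _) (snd_mem_map _)]
      rfl
    refine ⟨hP, _, F₁.comp_mem hφ₁ hψ₁ h1, _, F₂.comp_mem hφ₂ hψ₂ h2, fun x h₁ h₂ => ?_⟩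
    show ψ ⟨φ x, h x⟩ = _
    rw [he' ⟨φ x, h x⟩ (fst_mem_map _) (snd_mem_map _)]
    have e := he x h₁ h₂
    apply Prod.ext
    · show ψ₁ ⟨(φ x).1, _⟩ = ψ₁ ⟨φ₁ ⟨(x : Ω₁ × Ω₂).1, h₁⟩, _⟩
      congr 2
      rw [e]
    · show ψ₂ ⟨(φ x).2, _⟩ = ψ₂ ⟨φ₂ ⟨(x : Ω₁ × Ω₂).2, h₂⟩, _⟩
      congr 2
      rw [e]
  inv_mem := by
    rintro P φ ⟨hP, φ₁, hφ₁, φ₂, hφ₂, he⟩
    have hφinj : Function.Injective φ := prodHom_injective F₁ F₂ ⟨hP, φ₁, hφ₁, φ₂, hφ₂, he⟩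
    set e := MonoidHom.ofInjective hφinj with hedef
    have hsymm : ∀ x : P, e.symm ⟨φ x, ⟨x, rfl⟩⟩ = x := by
      intro x
      apply e.injective
      rw [MulEquiv.apply_symm_apply]
      exact Subtype.ext rfl
    obtain ⟨ι₁, hι₁, hι₁e⟩ := F₁.inv_mem hφ₁
    obtain ⟨ι₂, hι₂, hι₂e⟩ := F₂.inv_mem hφ₂
    have hle₁ : φ.range.map (MonoidHom.fst Ω₁ Ω₂) ≤ φ₁.range := by
      rintro _ ⟨_, ⟨x, rfl⟩, rfl⟩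
      refine ⟨⟨(x : Ω₁ × Ω₂).1, fst_mem_map x⟩, ?_⟩
      rw [he x (fst_mem_map x) (snd_mem_map x)]
      rfl
    have hle₂ : φ.range.map (MonoidHom.snd Ω₁ Ω₂) ≤ φ₂.range := by
      rintro _ ⟨_, ⟨x, rfl⟩, rfl⟩
      refine ⟨⟨(x : Ω₁ × Ω₂).2, snd_mem_map x⟩, ?_⟩
      rw [he x (fst_mem_map x) (snd_mem_map x)]
      rfl
    have hrange : φ.range ≤ S₁.prod S₂ := by
      rintro _ ⟨x, rfl⟩
      rw [he x (fst_mem_map x) (snd_mem_map x)]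
      exact ⟨(F₁.le_of_mem hφ₁).2 _, (F₂.le_of_mem hφ₂).2 _⟩
    refine ⟨P.subtype.comp e.symm.toMonoidHom, ⟨hrange, _, fs_restrict_mem F₁ hle₁ hι₁, _,
      fs_restrict_mem F₂ hle₂ hι₂, ?_⟩, fun x => ?_⟩
    · rintro ⟨_, x, rfl⟩ h₁ h₂
      show ((e.symm ⟨φ x, ⟨x, rfl⟩⟩ : P) : Ω₁ × Ω₂) = _
      rw [hsymm x]
      have e1 := he x (fst_mem_map x) (snd_mem_map x)
      apply Prod.ext
      · show (x : Ω₁ × Ω₂).1 = ι₁ ⟨(φ x).1, _⟩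
        have h3 : ι₁ ⟨φ₁ ⟨(x : Ω₁ × Ω₂).1, fst_mem_map x⟩, ⟨_, rfl⟩⟩ = (x : Ω₁ × Ω₂).1 :=
          hι₁e ⟨(x : Ω₁ × Ω₂).1, fst_mem_map x⟩
        refine h3.symm.trans ?_
        congr 2
        rw [e1]
      · show (x : Ω₁ × Ω₂).2 = ι₂ ⟨(φ x).2, _⟩
        have h3 : ι₂ ⟨φ₂ ⟨(x : Ω₁ × Ω₂).2, snd_mem_map x⟩, ⟨_, rfl⟩⟩ = (x : Ω₁ × Ω₂).2 :=
          hι₂e ⟨(x : Ω₁ × Ω₂).2, snd_mem_map x⟩
        refine h3.symm.trans ?_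
        congr 2
        rw [e1]
    · show ((e.symm ⟨φ x, ⟨x, rfl⟩⟩ : P) : Ω₁ × Ω₂) = x
      rw [hsymm x]

theorem prodSystem_isProductSystem (F₁ : FusionSystem S₁) (F₂ : FusionSystem S₂) :
    IsProductSystem F₁ F₂ (prodSystem F₁ F₂) := fun _ _ => Iff.rfl

end Cfsg.Agent.Lib.Helper7
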