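import Mathlib
import Cfsg.Prelude.Def_FusionSystem
import Cfsg.Prelude.Def_FusionComponents
import Cfsg.Agent.Lib.Helper7.ProdSat2
import Cfsg.Agent.Lib.Helper7.ProductSystem

set_option autoImplicit false

namespace Cfsg.Agent.Lib.Helper7

open Cfsg Cfsg.FusionSystem
open scoped Pointwise

variable {Ω₁ Ω₂ : Type*} [Group Ω₁] [Group Ω₂] {S₁ : Subgroup Ω₁} {S₂ : Subgroup Ω₂}

/-- the defining property of a product system, with the projections named -/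
theorem prodSys_hom_iff {F₁ : FusionSystem S₁} {F₂ : FusionSystem S₂}
    {E : FusionSystem (S₁.prod S₂)} (hE : IsProductSystem F₁ F₂ E)
    {R : Subgroup (Ω₁ × Ω₂)} {Q₁ : Subgroup Ω₁} {Q₂ : Subgroup Ω₂}
    (h1 : R.map (MonoidHom.fst Ω₁ Ω₂) = Q₁) (h2 : R.map (MonoidHom.snd Ω₁ Ω₂) = Q₂)
    (φ : R →* Ω₁ × Ω₂) :
    φ ∈ E.Hom R ↔ R ≤ S₁.prod S₂ ∧ ∃ φ₁ ∈ F₁.Hom Q₁, ∃ φ₂ ∈ F₂.Hom Q₂,
      ∀ (x : R) (h₁ : (x : Ω₁ × Ω₂).1 ∈ Q₁) (h₂ : (x : Ω₁ × Ω₂).2 ∈ Q₂),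
        φ x = (φ₁ ⟨(x : Ω₁ × Ω₂).1, h₁⟩, φ₂ ⟨(x : Ω₁ × Ω₂).2, h₂⟩) := by
  subst h1 h2
  exact hE R φ

theorem map_fst_prod (Q₁ : Subgroup Ω₁) (Q₂ : Subgroup Ω₂) :
    (Q₁.prod Q₂).map (MonoidHom.fst Ω₁ Ω₂) = Q₁ := by
  ext x
  constructor
  · rintro ⟨y, hy, rfl⟩; exact hy.1
  · intro hx; exact ⟨(x, 1), ⟨hx, Q₂.one_mem⟩, rfl⟩

theorem map_snd_prod (Q₁ : Subgroup Ω₁) (Q₂ : Subgroup Ω₂) :
    (Q₁.prod Q₂).map (MonoidHom.snd Ω₁ Ω₂) = Q₂ := by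
  ext x
  constructor
  · rintro ⟨y, hy, rfl⟩; exact hy.2
  · intro hx; exact ⟨(1, x), ⟨Q₁.one_mem, hx⟩, rfl⟩

/-- product of automorphisms -/
def prodAut (Q₁ : Subgroup Ω₁) (Q₂ : Subgroup Ω₂) :
    MulAut Q₁ × MulAut Q₂ →* MulAut ↥(Q₁.prod Q₂) where
  toFun a :=
    { toFun := fun x => ⟨((a.1 ⟨x.1.1, x.2.1⟩ : Q₁), (a.2 ⟨x.1.2, x.2.2⟩ : Q₂)),
        ⟨(a.1 _).2, (a.2 _).2⟩⟩
      invFun := fun x => ⟨((a.1⁻¹ ⟨x.1.1, x.2.1⟩ : Q₁), (a.2⁻¹ ⟨x.1.2, x.2.2⟩ : Q₂)),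
        ⟨(a.1⁻¹ _).2, (a.2⁻¹ _).2⟩⟩
      left_inv := fun x => by
        apply Subtype.ext
        apply Prod.ext
        · show ((a.1⁻¹ ⟨((a.1 ⟨x.1.1, x.2.1⟩ : Q₁) : Ω₁), _⟩ : Q₁) : Ω₁) = x.1.1
          have : (⟨((a.1 ⟨x.1.1, x.2.1⟩ : Q₁) : Ω₁), (a.1 _).2⟩ : Q₁) = a.1 ⟨x.1.1, x.2.1⟩ :=
            Subtype.ext rfl
          rw [this, MulAut.inv_apply_self]
        · show ((a.2⁻¹ ⟨((a.2 ⟨x.1.2, x.2.2⟩ : Q₂) : Ω₂), _⟩ : Q₂) : Ω₂) = x.1.2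
          have : (⟨((a.2 ⟨x.1.2, x.2.2⟩ : Q₂) : Ω₂), (a.2 _).2⟩ : Q₂) = a.2 ⟨x.1.2, x.2.2⟩ :=
            Subtype.ext rfl
          rw [this, MulAut.inv_apply_self]
      right_inv := fun x => by
        apply Subtype.ext
        apply Prod.ext
        · show ((a.1 ⟨((a.1⁻¹ ⟨x.1.1, x.2.1⟩ : Q₁) : Ω₁), _⟩ : Q₁) : Ω₁) = x.1.1
          have : (⟨((a.1⁻¹ ⟨x.1.1, x.2.1⟩ : Q₁) : Ω₁), (a.1⁻¹ _).2⟩ : Q₁) =
            a.1⁻¹ ⟨x.1.1, x.2.1⟩ := Subtype.ext rfl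
          rw [this, MulAut.apply_inv_self]
        · show ((a.2 ⟨((a.2⁻¹ ⟨x.1.2, x.2.2⟩ : Q₂) : Ω₂), _⟩ : Q₂) : Ω₂) = x.1.2
          have : (⟨((a.2⁻¹ ⟨x.1.2, x.2.2⟩ : Q₂) : Ω₂), (a.2⁻¹ _).2⟩ : Q₂) =
            a.2⁻¹ ⟨x.1.2, x.2.2⟩ := Subtype.ext rfl
          rw [this, MulAut.apply_inv_self]
      map_mul' := fun x y => by
        apply Subtype.ext
        apply Prod.ext
        · show ((a.1 (⟨x.1.1, x.2.1⟩ * ⟨y.1.1, y.2.1⟩) : Q₁) : Ω₁) = _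
          rw [map_mul]; rfl
        · show ((a.2 (⟨x.1.2, x.2.2⟩ * ⟨y.1.2, y.2.2⟩) : Q₂) : Ω₂) = _
          rw [map_mul]; rfl }
  map_one' := by
    ext x <;> rfl
  map_mul' a b := by
    ext x <;> rfl

theorem prodAut_coe (Q₁ : Subgroup Ω₁) (Q₂ : Subgroup Ω₂) (a : MulAut Q₁ × MulAut Q₂)
    (x : ↥(Q₁.prod Q₂)) :
    ((prodAut Q₁ Q₂ a x : ↥(Q₁.prod Q₂)) : Ω₁ × Ω₂) =
      (((a.1 ⟨x.1.1, x.2.1⟩ : Q₁) : Ω₁), ((a.2 ⟨x.1.2, x.2.2⟩ : Q₂) : Ω₂)) := rfl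

theorem prodAut_injective (Q₁ : Subgroup Ω₁) (Q₂ : Subgroup Ω₂) :
    Function.Injective (prodAut Q₁ Q₂) := by
  intro a b hab
  apply Prod.ext
  · ext x
    have h := congrArg (fun f => ((f ⟨((x : Ω₁), 1), ⟨x.2, Q₂.one_mem⟩⟩ : ↥(Q₁.prod Q₂)) : Ω₁ × Ω₂).1) hab
    exact h
  · ext x
    have h := congrArg (fun f => ((f ⟨(1, (x : Ω₂)), ⟨Q₁.one_mem, x.2⟩⟩ : ↥(Q₁.prod Q₂)) : Ω₁ × Ω₂).2) hab
    exact h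

theorem IsSylowIn.prod {G₁ G₂ : Type*} [Group G₁] [Group G₂] [Finite G₁] [Finite G₂] {p : ℕ}
    [Fact p.Prime] {T₁ A₁ : Subgroup G₁} {T₂ A₂ : Subgroup G₂} (h₁ : IsSylowIn p T₁ A₁)
    (h₂ : IsSylowIn p T₂ A₂) : IsSylowIn p (T₁.prod T₂) (A₁.prod A₂) := by
  refine ⟨Subgroup.prod_mono h₁.1 h₂.1, ?_⟩
  rw [Nat.card_congr (Subgroup.prodEquiv T₁ T₂).toEquiv, Nat.card_prod,
    Nat.card_congr (Subgroup.prodEquiv A₁ A₂).toEquiv, Nat.card_prod, h₁.2, h₂.2,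
    Nat.factorization_mul Nat.card_pos.ne' Nat.card_pos.ne', ← pow_add]
  rfl


theorem range_eq_of_prod_fst {Q₁ : Subgroup Ω₁} {Q₂ : Subgroup Ω₂} (β : MulAut ↥(Q₁.prod Q₂))
    (φ₁ : Q₁ →* Ω₁)
    (h : ∀ x : ↥(Q₁.prod Q₂), ((β x : ↥(Q₁.prod Q₂)) : Ω₁ × Ω₂).1 = φ₁ ⟨x.1.1, x.2.1⟩) :
    φ₁.range = Q₁ := by
  ext z
  constructor
  · rintro ⟨y, rfl⟩
    have := h ⟨((y : Ω₁), 1), ⟨y.2, Q₂.one_mem⟩⟩
    have e : (⟨((y : Ω₁), (1 : Ω₂)).1, y.2⟩ : Q₁) = y := Subtype.ext rfl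
    rw [e] at this
    rw [← this]
    exact (β _).2.1
  · intro hz
    refine ⟨⟨(β.symm ⟨(z, 1), ⟨hz, Q₂.one_mem⟩⟩).1.1, (β.symm _).2.1⟩, ?_⟩
    rw [← h, MulEquiv.apply_symm_apply]

theorem range_eq_of_prod_snd {Q₁ : Subgroup Ω₁} {Q₂ : Subgroup Ω₂} (β : MulAut ↥(Q₁.prod Q₂))
    (φ₂ : Q₂ →* Ω₂)
    (h : ∀ x : ↥(Q₁.prod Q₂), ((β x : ↥(Q₁.prod Q₂)) : Ω₁ × Ω₂).2 = φ₂ ⟨x.1.2, x.2.2⟩) :
    φ₂.range = Q₂ := by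
  ext z
  constructor
  · rintro ⟨y, rfl⟩
    have := h ⟨(1, (y : Ω₂)), ⟨Q₁.one_mem, y.2⟩⟩
    have e : (⟨((1 : Ω₁), (y : Ω₂)).2, y.2⟩ : Q₂) = y := Subtype.ext rfl
    rw [e] at this
    rw [← this]
    exact (β _).2.2
  · intro hz
    refine ⟨⟨(β.symm ⟨(1, z), ⟨Q₁.one_mem, hz⟩⟩).1.2, (β.symm _).2.2⟩, ?_⟩
    rw [← h, MulEquiv.apply_symm_apply]

theorem autGroup_prod_eq {F₁ : FusionSystem S₁} {F₂ : FusionSystem S₂}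
    {E : FusionSystem (S₁.prod S₂)} (hE : IsProductSystem F₁ F₂ E)
    {Q₁ : Subgroup Ω₁} {Q₂ : Subgroup Ω₂} (hQ₁ : Q₁ ≤ S₁) (hQ₂ : Q₂ ≤ S₂) :
    E.autGroup (Q₁.prod Q₂) =
      ((F₁.autGroup Q₁).prod (F₂.autGroup Q₂)).map (prodAut Q₁ Q₂) := by
  have hQS : Q₁.prod Q₂ ≤ S₁.prod S₂ := Subgroup.prod_mono hQ₁ hQ₂
  ext β
  constructor
  · intro hβ
    have h1 := (mem_autGroup_iff E hQS β).mp hβ
    obtain ⟨-, φ₁, hφ₁, φ₂, hφ₂, he⟩ :=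
      (prodSys_hom_iff hE (map_fst_prod Q₁ Q₂) (map_snd_prod Q₁ Q₂) _).mp h1
    have hr₁ : φ₁.range = Q₁ :=
      range_eq_of_prod_fst β φ₁ (fun x => congrArg Prod.fst (he x x.2.1 x.2.2))
    have hr₂ : φ₂.range = Q₂ :=
      range_eq_of_prod_snd β φ₂ (fun x => congrArg Prod.snd (he x x.2.1 x.2.2))
    set α₁ : MulAut Q₁ := isoOfRange φ₁ (F₁.injective_of_mem hφ₁) hr₁ with hα₁
    set α₂ : MulAut Q₂ := isoOfRange φ₂ (F₂.injective_of_mem hφ₂) hr₂ with hα₂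
    refine ⟨(α₁, α₂), ⟨?_, ?_⟩, ?_⟩
    · show α₁ ∈ F₁.autGroup Q₁
      rw [mem_autGroup_iff F₁ hQ₁]
      have : Q₁.subtype.comp α₁.toMonoidHom = φ₁ := by
        ext x; rfl
      rw [this]; exact hφ₁
    · show α₂ ∈ F₂.autGroup Q₂
      rw [mem_autGroup_iff F₂ hQ₂]
      have : Q₂.subtype.comp α₂.toMonoidHom = φ₂ := by
        ext x; rfl
      rw [this]; exact hφ₂
    · ext x
      · exact (congrArg Prod.fst (he x x.2.1 x.2.2)).symm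
      · exact (congrArg Prod.snd (he x x.2.1 x.2.2)).symm
  · rintro ⟨⟨α₁, α₂⟩, ⟨h1, h2⟩, rfl⟩
    rw [mem_autGroup_iff E hQS]
    rw [prodSys_hom_iff hE (map_fst_prod Q₁ Q₂) (map_snd_prod Q₁ Q₂)]
    exact ⟨hQS, Q₁.subtype.comp α₁.toMonoidHom, (mem_autGroup_iff F₁ hQ₁ α₁).mp h1,
      Q₂.subtype.comp α₂.toMonoidHom, (mem_autGroup_iff F₂ hQ₂ α₂).mp h2, fun x h₁ h₂ => rfl⟩

theorem autInducedBy_prod_eq (Q₁ : Subgroup Ω₁) (Q₂ : Subgroup Ω₂) :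
    autInducedBy (S₁.prod S₂) (Q₁.prod Q₂) =
      ((autInducedBy S₁ Q₁).prod (autInducedBy S₂ Q₂)).map (prodAut Q₁ Q₂) := by
  ext β
  constructor
  · intro hβ
    obtain ⟨g, hg, hgβ⟩ := (mem_autInducedBy_iff _ _ _).mp hβ
    have hr₁ : (conjHom Q₁ g.1).range = Q₁ :=
      range_eq_of_prod_fst β _ (fun x => congrArg Prod.fst (hgβ x))
    have hr₂ : (conjHom Q₂ g.2).range = Q₂ :=
      range_eq_of_prod_snd β _ (fun x => congrArg Prod.snd (hgβ x))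
    have hinj₁ : Function.Injective (conjHom Q₁ g.1) := by
      intro a b hab
      apply Subtype.ext
      have : g.1 * (a : Ω₁) * g.1⁻¹ = g.1 * (b : Ω₁) * g.1⁻¹ := hab
      simpa using this
    have hinj₂ : Function.Injective (conjHom Q₂ g.2) := by
      intro a b hab
      apply Subtype.ext
      have : g.2 * (a : Ω₂) * g.2⁻¹ = g.2 * (b : Ω₂) * g.2⁻¹ := hab
      simpa using this
    refine ⟨(isoOfRange _ hinj₁ hr₁, isoOfRange _ hinj₂ hr₂), ⟨?_, ?_⟩, ?_⟩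
    · show isoOfRange _ hinj₁ hr₁ ∈ autInducedBy S₁ Q₁
      rw [mem_autInducedBy_iff]
      exact ⟨g.1, hg.1, fun x => rfl⟩
    · show isoOfRange _ hinj₂ hr₂ ∈ autInducedBy S₂ Q₂
      rw [mem_autInducedBy_iff]
      exact ⟨g.2, hg.2, fun x => rfl⟩
    · ext x
      · exact (congrArg Prod.fst (hgβ x)).symm
      · exact (congrArg Prod.snd (hgβ x)).symm
  · rintro ⟨⟨α₁, α₂⟩, ⟨h1, h2⟩, rfl⟩
    obtain ⟨g₁, hg₁, hα₁⟩ := (mem_autInducedBy_iff _ _ _).mp h1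
    obtain ⟨g₂, hg₂, hα₂⟩ := (mem_autInducedBy_iff _ _ _).mp h2
    rw [mem_autInducedBy_iff]
    refine ⟨(g₁, g₂), ⟨hg₁, hg₂⟩, fun x => ?_⟩
    rw [prodAut_coe]
    apply Prod.ext
    · exact hα₁ _
    · exact hα₂ _

theorem isSylowIn_prod_aut [Finite S₁] [Finite S₂] {p : ℕ} [Fact p.Prime]
    {F₁ : FusionSystem S₁} {F₂ : FusionSystem S₂}
    {E : FusionSystem (S₁.prod S₂)} (hE : IsProductSystem F₁ F₂ E)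
    {Q₁ : Subgroup Ω₁} {Q₂ : Subgroup Ω₂} (hQ₁ : Q₁ ≤ S₁) (hQ₂ : Q₂ ≤ S₂)
    (h₁ : IsSylowIn p (autInducedBy S₁ Q₁) (F₁.autGroup Q₁))
    (h₂ : IsSylowIn p (autInducedBy S₂ Q₂) (F₂.autGroup Q₂)) :
    IsSylowIn p (autInducedBy (S₁.prod S₂) (Q₁.prod Q₂)) (E.autGroup (Q₁.prod Q₂)) := by
  haveI : Finite Q₁ := Finite.of_injective _ (Subgroup.inclusion_injective hQ₁)
  haveI : Finite Q₂ := Finite.of_injective _ (Subgroup.inclusion_injective hQ₂)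
  rw [autGroup_prod_eq hE hQ₁ hQ₂, autInducedBy_prod_eq]
  exact (h₁.prod h₂).map_hom _

end Cfsg.Agent.Lib.Helper7
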