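import Mathlib
import Cfsg.Prelude.Def_FusionSystem
import Cfsg.Prelude.Def_FusionComponents
import Cfsg.Agent.Lib.Helper7.ProdSat3

set_option autoImplicit false

namespace Cfsg.Agent.Lib.Helper7

open Cfsg Cfsg.FusionSystem
open scoped Pointwise

variable {Ω₁ Ω₂ : Type*} [Group Ω₁] [Group Ω₂] {S₁ : Subgroup Ω₁} {S₂ : Subgroup Ω₂}

theorem extender_le_S {Ω : Type*} [Group Ω] (S P : Subgroup Ω) (φ : P →* Ω) : extender S P φ ≤ S := by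
  unfold extender
  rw [Subgroup.closure_le]
  intro g hg
  exact hg.1

/-- a subgroup of `S₁ × S₂` with receptive projections is receptive in the product system -/
theorem isReceptive_of_proj {F₁ : FusionSystem S₁} {F₂ : FusionSystem S₂}
    {E : FusionSystem (S₁.prod S₂)} (hE : IsProductSystem F₁ F₂ E)
    {Q : Subgroup (Ω₁ × Ω₂)} {Q₁ : Subgroup Ω₁} {Q₂ : Subgroup Ω₂} (hQS : Q ≤ S₁.prod S₂)
    (h1 : Q.map (MonoidHom.fst Ω₁ Ω₂) = Q₁) (h2 : Q.map (MonoidHom.snd Ω₁ Ω₂) = Q₂)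
    (hr₁ : F₁.IsReceptive Q₁) (hr₂ : F₂.IsReceptive Q₂) : E.IsReceptive Q := by
  refine ⟨hQS, fun P φ hφ hrange => ?_⟩
  obtain ⟨hPS, φ₁, hφ₁, φ₂, hφ₂, he⟩ := (hE P φ).mp hφ
  have he' : ∀ x : P, φ x = (φ₁ ⟨(x : Ω₁ × Ω₂).1, fst_mem_map x⟩, φ₂ ⟨(x : Ω₁ × Ω₂).2, snd_mem_map x⟩) :=
    fun x => he x _ _
  have hrange₁ : φ₁.range = Q₁ := by
    rw [← h1, ← hrange]
    ext z
    constructor
    · rintro ⟨⟨_, x, hx, rfl⟩, rfl⟩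
      refine ⟨φ ⟨x, hx⟩, ⟨_, rfl⟩, ?_⟩
      rw [he' ⟨x, hx⟩]
      rfl
    · rintro ⟨_, ⟨x, rfl⟩, rfl⟩
      refine ⟨⟨(x : Ω₁ × Ω₂).1, fst_mem_map x⟩, ?_⟩
      rw [he' x]
      rfl
  have hrange₂ : φ₂.range = Q₂ := by
    rw [← h2, ← hrange]
    ext z
    constructor
    · rintro ⟨⟨_, x, hx, rfl⟩, rfl⟩
      refine ⟨φ ⟨x, hx⟩, ⟨_, rfl⟩, ?_⟩
      rw [he' ⟨x, hx⟩]
      rfl
    · rintro ⟨_, ⟨x, rfl⟩, rfl⟩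
      refine ⟨⟨(x : Ω₁ × Ω₂).2, snd_mem_map x⟩, ?_⟩
      rw [he' x]
      rfl
  obtain ⟨ψ₁, hψ₁, hψ₁e⟩ := hr₁.2 _ φ₁ hφ₁ hrange₁
  obtain ⟨ψ₂, hψ₂, hψ₂e⟩ := hr₂.2 _ φ₂ hφ₂ hrange₂
  set N := extender (S₁.prod S₂) P φ with hN
  have hNS : N ≤ S₁.prod S₂ := extender_le_S _ _ _
  have hN₁ : N.map (MonoidHom.fst Ω₁ Ω₂) ≤ extender S₁ (P.map (MonoidHom.fst Ω₁ Ω₂)) φ₁ := by
    rw [Subgroup.map_le_iff_le_comap, hN]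
    unfold extender
    rw [Subgroup.closure_le]
    rintro g ⟨hgS, hgN, h, hhS, hconj⟩
    show g.1 ∈ Subgroup.closure _
    apply Subgroup.subset_closure
    refine ⟨hgS.1, Subgroup.le_normalizer_map (MonoidHom.fst Ω₁ Ω₂) ⟨g, hgN, rfl⟩, h.1, hhS.1, ?_⟩
    rintro ⟨_, x, hx, rfl⟩ hy
    have hx' : g * x * g⁻¹ ∈ P := (Subgroup.mem_normalizer_iff.mp hgN x).mp hx
    have h3 := hconj ⟨x, hx⟩ hx'
    rw [he' ⟨x, hx⟩, he' ⟨g * x * g⁻¹, hx'⟩] at h3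
    exact congrArg Prod.fst h3
  have hN₂ : N.map (MonoidHom.snd Ω₁ Ω₂) ≤ extender S₂ (P.map (MonoidHom.snd Ω₁ Ω₂)) φ₂ := by
    rw [Subgroup.map_le_iff_le_comap, hN]
    unfold extender
    rw [Subgroup.closure_le]
    rintro g ⟨hgS, hgN, h, hhS, hconj⟩
    show g.2 ∈ Subgroup.closure _
    apply Subgroup.subset_closure
    refine ⟨hgS.2, Subgroup.le_normalizer_map (MonoidHom.snd Ω₁ Ω₂) ⟨g, hgN, rfl⟩, h.2, hhS.2, ?_⟩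
    rintro ⟨_, x, hx, rfl⟩ hy
    have hx' : g * x * g⁻¹ ∈ P := (Subgroup.mem_normalizer_iff.mp hgN x).mp hx
    have h3 := hconj ⟨x, hx⟩ hx'
    rw [he' ⟨x, hx⟩, he' ⟨g * x * g⁻¹, hx'⟩] at h3
    exact congrArg Prod.snd h3
  have hψ₁' := fs_restrict_mem F₁ hN₁ hψ₁
  have hψ₂' := fs_restrict_mem F₂ hN₂ hψ₂
  refine ⟨MonoidHom.prod
    ((ψ₁.comp (Subgroup.inclusion hN₁)).comp ((MonoidHom.fst Ω₁ Ω₂).subgroupMap N))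
    ((ψ₂.comp (Subgroup.inclusion hN₂)).comp ((MonoidHom.snd Ω₁ Ω₂).subgroupMap N)), ?_, ?_⟩
  · rw [hE N]
    exact ⟨hNS, _, hψ₁', _, hψ₂', fun x h₁ h₂ => rfl⟩
  · intro x hP hN'
    rw [he' ⟨x, hP⟩]
    apply Prod.ext
    · exact hψ₁e x.1 (fst_mem_map ⟨x, hP⟩) (hN₁ (fst_mem_map ⟨x, hN'⟩))
    · exact hψ₂e x.2 (snd_mem_map ⟨x, hP⟩) (hN₂ (snd_mem_map ⟨x, hN'⟩))

end Cfsg.Agent.Lib.Helper7
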