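import Mathlib
import Cfsg.Prelude.Def_FusionSystem
import Cfsg.Prelude.Def_FusionComponents
import Cfsg.Agent.Lib.Helper7.ProdSat4
import Cfsg.Agent.Lib.Helper7.FusionSat4

set_option autoImplicit false

namespace Cfsg.Agent.Lib.Helper7

open Cfsg Cfsg.FusionSystem
open scoped Pointwise

variable {Ω₁ Ω₂ : Type*} [Group Ω₁] [Group Ω₂] {S₁ : Subgroup Ω₁} {S₂ : Subgroup Ω₂}

theorem range_fst_eq {R : Subgroup (Ω₁ × Ω₂)} {Q₁ : Subgroup Ω₁}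
    (h1 : R.map (MonoidHom.fst Ω₁ Ω₂) = Q₁) (φ : R →* Ω₁ × Ω₂) (φ₁ : Q₁ →* Ω₁)
    (he : ∀ (x : R) (h₁ : (x : Ω₁ × Ω₂).1 ∈ Q₁), (φ x).1 = φ₁ ⟨(x : Ω₁ × Ω₂).1, h₁⟩) :
    φ₁.range = φ.range.map (MonoidHom.fst Ω₁ Ω₂) := by
  subst h1
  ext z
  constructor
  · rintro ⟨⟨_, x, hx, rfl⟩, rfl⟩
    exact ⟨φ ⟨x, hx⟩, ⟨_, rfl⟩, he ⟨x, hx⟩ _⟩
  · rintro ⟨_, ⟨x, rfl⟩, rfl⟩
    exact ⟨⟨(x : Ω₁ × Ω₂).1, fst_mem_map x⟩, (he x _).symm⟩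

theorem range_snd_eq {R : Subgroup (Ω₁ × Ω₂)} {Q₂ : Subgroup Ω₂}
    (h2 : R.map (MonoidHom.snd Ω₁ Ω₂) = Q₂) (φ : R →* Ω₁ × Ω₂) (φ₂ : Q₂ →* Ω₂)
    (he : ∀ (x : R) (h₂ : (x : Ω₁ × Ω₂).2 ∈ Q₂), (φ x).2 = φ₂ ⟨(x : Ω₁ × Ω₂).2, h₂⟩) :
    φ₂.range = φ.range.map (MonoidHom.snd Ω₁ Ω₂) := by
  subst h2
  ext z
  constructor
  · rintro ⟨⟨_, x, hx, rfl⟩, rfl⟩
    exact ⟨φ ⟨x, hx⟩, ⟨_, rfl⟩, he ⟨x, hx⟩ _⟩
  · rintro ⟨_, ⟨x, rfl⟩, rfl⟩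
    exact ⟨⟨(x : Ω₁ × Ω₂).2, snd_mem_map x⟩, (he x _).symm⟩

theorem isSylowIn_of_isFullyAutomized {Ω : Type*} [Group Ω] {S : Subgroup Ω} [Finite S] {p : ℕ}
    [Fact p.Prime] (F : FusionSystem S) {P : Subgroup Ω} (h : F.IsFullyAutomized p P) :
    IsSylowIn p (autInducedBy S P) (F.autGroup P) := by
  obtain ⟨hPS, R, hR⟩ := h
  haveI : Finite ↥P := Finite.of_injective (Subgroup.inclusion hPS) (Subgroup.inclusion_injective hPS)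
  exact (isSylowIn_iff_exists_sylow (autInducedBy_le_autGroup F hPS)).mpr ⟨R, hR⟩

theorem isFullyAutomized_of_isSylowIn {Ω : Type*} [Group Ω] {S : Subgroup Ω} [Finite S] {p : ℕ}
    [Fact p.Prime] (F : FusionSystem S) {P : Subgroup Ω} (hPS : P ≤ S)
    (h : IsSylowIn p (autInducedBy S P) (F.autGroup P)) : F.IsFullyAutomized p P := by
  haveI : Finite ↥P := Finite.of_injective (Subgroup.inclusion hPS) (Subgroup.inclusion_injective hPS)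
  exact ⟨hPS, h.exists_sylow⟩

theorem normalizer_prod_of_proj {Q : Subgroup (Ω₁ × Ω₂)} {Q₁ : Subgroup Ω₁} {Q₂ : Subgroup Ω₂}
    (h1 : Q.map (MonoidHom.fst Ω₁ Ω₂) = Q₁) (h2 : Q.map (MonoidHom.snd Ω₁ Ω₂) = Q₂)
    {g : Ω₁ × Ω₂} (hg : g ∈ Subgroup.normalizer (Q : Set (Ω₁ × Ω₂))) :
    g ∈ Subgroup.normalizer ((Q₁.prod Q₂ : Subgroup (Ω₁ × Ω₂)) : Set (Ω₁ × Ω₂)) := by
  have hg1 : g.1 ∈ Subgroup.normalizer (Q₁ : Set Ω₁) := by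
    rw [← h1]; exact Subgroup.le_normalizer_map (MonoidHom.fst Ω₁ Ω₂) ⟨g, hg, rfl⟩
  have hg2 : g.2 ∈ Subgroup.normalizer (Q₂ : Set Ω₂) := by
    rw [← h2]; exact Subgroup.le_normalizer_map (MonoidHom.snd Ω₁ Ω₂) ⟨g, hg, rfl⟩
  rw [Subgroup.mem_normalizer_iff]
  intro h
  rw [Subgroup.mem_prod, Subgroup.mem_prod]
  exact and_congr (Subgroup.mem_normalizer_iff.mp hg1 h.1) (Subgroup.mem_normalizer_iff.mp hg2 h.2)

/-- The direct product of two saturated fusion systems is saturated. -/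
theorem product_isSaturated [Finite S₁] [Finite S₂] (p : ℕ) [Fact p.Prime]
    (F₁ : FusionSystem S₁) (F₂ : FusionSystem S₂) (hF₁ : F₁.IsSaturated p) (hF₂ : F₂.IsSaturated p)
    (E : FusionSystem (S₁.prod S₂)) (hE : IsProductSystem F₁ F₂ E) : E.IsSaturated p := by
  haveI : Finite ↥(S₁.prod S₂) := Finite.of_equiv _ (Subgroup.prodEquiv S₁ S₂).symm.toEquiv
  intro P hP
  have hP₁ : P.map (MonoidHom.fst Ω₁ Ω₂) ≤ S₁ := by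
    rintro _ ⟨x, hx, rfl⟩; exact (hP hx).1
  have hP₂ : P.map (MonoidHom.snd Ω₁ Ω₂) ≤ S₂ := by
    rintro _ ⟨x, hx, rfl⟩; exact (hP hx).2
  obtain ⟨Q₁, hc₁, hFA₁, hRec₁⟩ := hF₁ _ hP₁
  obtain ⟨Q₂, hc₂, hFA₂, hRec₂⟩ := hF₂ _ hP₂
  obtain ⟨φ₁, hφ₁, hr₁⟩ := id hc₁
  obtain ⟨φ₂, hφ₂, hr₂⟩ := id hc₂
  have hQ₁ : Q₁ ≤ S₁ := hRec₁.1
  have hQ₂ : Q₂ ≤ S₂ := hRec₂.1
  haveI : Finite Q₁ := Finite.of_injective _ (Subgroup.inclusion_injective hQ₁)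
  haveI : Finite Q₂ := Finite.of_injective _ (Subgroup.inclusion_injective hQ₂)
  set R : Subgroup (Ω₁ × Ω₂) := Q₁.prod Q₂ with hR
  have hRS : R ≤ S₁.prod S₂ := Subgroup.prod_mono hQ₁ hQ₂
  haveI : Finite R := Finite.of_injective _ (Subgroup.inclusion_injective hRS)
  -- the product map on `P`
  set φ' : P →* Ω₁ × Ω₂ := MonoidHom.prod
    (φ₁.comp ((MonoidHom.fst Ω₁ Ω₂).subgroupMap P))
    (φ₂.comp ((MonoidHom.snd Ω₁ Ω₂).subgroupMap P)) with hφ'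
  have hφ'E : φ' ∈ E.Hom P := by
    rw [hE P]
    exact ⟨hP, φ₁, hφ₁, φ₂, hφ₂, fun x h₁ h₂ => rfl⟩
  have hφ'R : ∀ x : P, φ' x ∈ R := by
    intro x
    refine ⟨?_, ?_⟩
    · rw [← hr₁]; exact ⟨_, rfl⟩
    · rw [← hr₂]; exact ⟨_, rfl⟩
  set Q' : Subgroup (Ω₁ × Ω₂) := φ'.range with hQ'
  have hTA : IsSylowIn p (autInducedBy (S₁.prod S₂) R) (E.autGroup R) :=
    isSylowIn_prod_aut hE hQ₁ hQ₂ (isSylowIn_of_isFullyAutomized F₁ hFA₁)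
      (isSylowIn_of_isFullyAutomized F₂ hFA₂)
  obtain ⟨a, haA, hsyl⟩ := exists_smul_isSylowIn_stabilizer hTA (Q'.subgroupOf R)
  set Q : Subgroup (Ω₁ × Ω₂) := (a • Q'.subgroupOf R).map R.subtype with hQ
  have hQR : Q ≤ R := Subgroup.map_subtype_le _
  have hQS : Q ≤ S₁.prod S₂ := hQR.trans hRS
  have hsub : Q.subgroupOf R = a • Q'.subgroupOf R := by
    rw [hQ]
    exact Subgroup.comap_map_eq_self_of_injective (Subgroup.subtype_injective _) _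
  rw [← hsub] at hsyl
  have haE := (mem_autGroup_iff E hRS a).mp haA
  -- `P` is conjugate to `Q`
  have hconj : E.IsConj P Q := by
    refine ⟨_, E.comp_mem hφ'E haE hφ'R, ?_⟩
    ext z
    constructor
    · rintro ⟨x, rfl⟩
      refine ⟨a ⟨φ' x, hφ'R x⟩, ?_, rfl⟩
      rw [SetLike.mem_coe, Subgroup.mem_pointwise_smul_iff_inv_smul_mem]
      show a⁻¹ (a ⟨φ' x, hφ'R x⟩) ∈ _
      rw [MulAut.inv_apply_self, Subgroup.mem_subgroupOf]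
      exact ⟨x, rfl⟩
    · rintro ⟨y, hy, rfl⟩
      rw [SetLike.mem_coe, Subgroup.mem_pointwise_smul_iff_inv_smul_mem, Subgroup.mem_subgroupOf] at hy
      obtain ⟨x, hx⟩ := hy
      refine ⟨x, ?_⟩
      show ((a ⟨φ' x, hφ'R x⟩ : R) : Ω₁ × Ω₂) = y
      have : (⟨φ' x, hφ'R x⟩ : R) = a⁻¹ • y := Subtype.ext hx
      rw [this]
      show ((a (a⁻¹ y) : R) : Ω₁ × Ω₂) = y
      rw [MulAut.apply_inv_self]
  -- projections of `Q`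
  obtain ⟨ψ, hψ, hψr⟩ := id hconj
  obtain ⟨-, ψ₁, hψ₁, ψ₂, hψ₂, hψe⟩ := (hE P ψ).mp hψ
  have h1 : Q.map (MonoidHom.fst Ω₁ Ω₂) = Q₁ := by
    have hle : Q.map (MonoidHom.fst Ω₁ Ω₂) ≤ Q₁ := by
      rintro _ ⟨y, hy, rfl⟩; exact (hQR hy).1
    apply Subgroup.eq_of_le_of_card_ge hle
    have e1 := range_fst_eq rfl ψ ψ₁ (fun x h₁ => congrArg Prod.fst (hψe x h₁ (snd_mem_map x)))
    rw [hψr] at e1
    rw [← e1, ← card_eq_of_isConj F₁ hc₁]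
    exact (Nat.card_congr (Equiv.ofInjective ψ₁ (F₁.injective_of_mem hψ₁))).le
  have h2 : Q.map (MonoidHom.snd Ω₁ Ω₂) = Q₂ := by
    have hle : Q.map (MonoidHom.snd Ω₁ Ω₂) ≤ Q₂ := by
      rintro _ ⟨y, hy, rfl⟩; exact (hQR hy).2
    apply Subgroup.eq_of_le_of_card_ge hle
    have e1 := range_snd_eq rfl ψ ψ₂ (fun x h₂ => congrArg Prod.snd (hψe x (fst_mem_map x) h₂))
    rw [hψr] at e1
    rw [← e1, ← card_eq_of_isConj F₂ hc₂]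
    exact (Nat.card_congr (Equiv.ofInjective ψ₂ (F₂.injective_of_mem hψ₂))).le
  refine ⟨Q, hconj, ?_, isReceptive_of_proj hE hQS h1 h2 hRec₁ hRec₂⟩
  apply isFullyAutomized_of_isSylowIn E hQS
  refine isSylowIn_aut_of_stabilizer E hQR hRS ?_ ?_ hsyl
  · intro α hα
    obtain ⟨-, χ₁, hχ₁, χ₂, hχ₂, hχe⟩ := (prodSys_hom_iff hE h1 h2 _).mp hα
    have hαr : (Q.subtype.comp α.toMonoidHom).range = Q := by
      rw [MonoidHom.range_comp]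
      have : α.toMonoidHom.range = ⊤ := MonoidHom.range_eq_top.mpr α.surjective
      rw [this, ← MonoidHom.range_eq_map, Subgroup.range_subtype]
    have hχr₁ : χ₁.range = Q₁ := by
      rw [range_fst_eq h1 _ χ₁ (fun x h₁ => congrArg Prod.fst (hχe x h₁ (h2 ▸ snd_mem_map x))),
        hαr, h1]
    have hχr₂ : χ₂.range = Q₂ := by
      rw [range_snd_eq h2 _ χ₂ (fun x h₂ => congrArg Prod.snd (hχe x (h1 ▸ fst_mem_map x) h₂)),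
        hαr, h2]
    set α₁ : MulAut Q₁ := isoOfRange χ₁ (F₁.injective_of_mem hχ₁) hχr₁ with hα₁
    set α₂ : MulAut Q₂ := isoOfRange χ₂ (F₂.injective_of_mem hχ₂) hχr₂ with hα₂
    have hα₁A : α₁ ∈ F₁.autGroup Q₁ := by
      rw [mem_autGroup_iff F₁ hQ₁]
      have : Q₁.subtype.comp α₁.toMonoidHom = χ₁ := by
        ext x; rfl
      rw [this]; exact hχ₁
    have hα₂A : α₂ ∈ F₂.autGroup Q₂ := by
      rw [mem_autGroup_iff F₂ hQ₂]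
      have : Q₂.subtype.comp α₂.toMonoidHom = χ₂ := by
        ext x; rfl
      rw [this]; exact hχ₂
    have hβA : prodAut Q₁ Q₂ (α₁, α₂) ∈ E.autGroup R := by
      have := autGroup_prod_eq hE hQ₁ hQ₂
      rw [this]
      exact ⟨(α₁, α₂), ⟨hα₁A, hα₂A⟩, rfl⟩
    refine ⟨prodAut Q₁ Q₂ (α₁, α₂), (mem_autGroup_iff E hRS _).mp hβA, fun x => ?_⟩
    rw [prodAut_coe]
    exact (hχe x _ _).symm
  · intro g _ hgN
    exact normalizer_prod_of_proj h1 h2 hgN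

end Cfsg.Agent.Lib.Helper7
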