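import Mathlib
import Cfsg.Prelude.Def_FusionSystem
import Cfsg.Prelude.Def_FusionComponents
import Cfsg.Agent.Lib.Helper7.ProductSystem
import Cfsg.Agent.Lib.Helper7.ProdSat5
import Cfsg.Agent.Lib.Helper7.FusionSat3
import Cfsg.Agent.Lib.Helper7.CharBisetA

set_option autoImplicit false

universe u

namespace Cfsg.Agent.Lib.Helper7.CharBiset

open Cfsg Cfsg.FusionSystem Cfsg.Agent.Lib.Helper7 Cfsg.Agent.Lib.Helper7.Marks

variable {Ω : Type u} [Group Ω] {S : Subgroup Ω}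

/-- The embedding of `S × S` into `Ω × Ω`. -/
def eps (S : Subgroup Ω) : ↥S × ↥S →* Ω × Ω := MonoidHom.prodMap S.subtype S.subtype

theorem eps_apply (x : ↥S × ↥S) : eps S x = ((x.1 : Ω), (x.2 : Ω)) := rfl

theorem eps_injective : Function.Injective (eps S) := by
  rintro ⟨a, b⟩ ⟨a', b'⟩ h
  have := Prod.mk.inj h
  exact Prod.ext (Subtype.ext this.1) (Subtype.ext this.2)

theorem eps_mem (x : ↥S × ↥S) : eps S x ∈ S.prod S := ⟨x.1.2, x.2.2⟩

theorem map_eps_le (E : Subgroup (↥S × ↥S)) : E.map (eps S) ≤ S.prod S := by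
  rintro _ ⟨x, -, rfl⟩
  exact eps_mem x

/-- The inverse of `eps` on `S × S`. -/
def pull (S : Subgroup Ω) : ↥(S.prod S) →* ↥S × ↥S where
  toFun x := (⟨(x : Ω × Ω).1, x.2.1⟩, ⟨(x : Ω × Ω).2, x.2.2⟩)
  map_one' := rfl
  map_mul' _ _ := rfl

theorem eps_pull (x : ↥(S.prod S)) : eps S (pull S x) = (x : Ω × Ω) := rfl

theorem map_comap_eps {Q : Subgroup (Ω × Ω)} (hQ : Q ≤ S.prod S) :
    (Q.comap (eps S)).map (eps S) = Q := by
  ext y
  constructor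
  · rintro ⟨x, hx, rfl⟩
    exact hx
  · intro hy
    exact ⟨pull S ⟨y, hQ hy⟩, hy, rfl⟩

theorem map_eps_cj (k : ↥S × ↥S) (E : Subgroup (↥S × ↥S)) :
    (cj k E).map (eps S) = (E.map (eps S)).map (MulAut.conj (eps S k)).toMonoidHom := by
  ext y
  constructor
  · rintro ⟨_, ⟨x, hx, rfl⟩, rfl⟩
    refine ⟨eps S x, ⟨x, hx, rfl⟩, ?_⟩
    simp [MulAut.conj_apply]
  · rintro ⟨_, ⟨x, hx, rfl⟩, rfl⟩
    refine ⟨k * x * k⁻¹, ⟨x, hx, by simp [MulAut.conj_apply]⟩, ?_⟩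
    simp [MulAut.conj_apply]

/-- Conjugacy in the product system. -/
def FC (F : FusionSystem S) (E E' : Subgroup (↥S × ↥S)) : Prop :=
  (prodSystem F F).IsConj (E.map (eps S)) (E'.map (eps S))

theorem card_eq_of_isConj {Ω' : Type u} [Group Ω'] {S' : Subgroup Ω'} (F' : FusionSystem S')
    {P Q : Subgroup Ω'} (h : F'.IsConj P Q) : Nat.card P = Nat.card Q := by
  obtain ⟨φ, hφ, hr⟩ := h
  rw [← hr]
  exact Nat.card_congr (Equiv.ofInjective φ (F'.injective_of_mem hφ))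

theorem FC_conj (F : FusionSystem S) (E : Subgroup (↥S × ↥S)) (k : ↥S × ↥S) : FC F E (cj k E) := by
  unfold FC
  refine ⟨conjHom (E.map (eps S)) (eps S k), (prodSystem F F).conj_mem (map_eps_le E) (eps_mem k), ?_⟩
  rw [map_eps_cj]
  ext y
  constructor
  · rintro ⟨x, rfl⟩
    exact ⟨x, x.2, rfl⟩
  · rintro ⟨x, hx, rfl⟩
    exact ⟨⟨x, hx⟩, rfl⟩

end Cfsg.Agent.Lib.Helper7.CharBiset
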