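import Mathlib
import Cfsg.Prelude.Def_FusionSystem
import Cfsg.Prelude.Def_FusionComponents
import Cfsg.Agent.Lib.Helper7.CharBisetC

set_option autoImplicit false

universe u

namespace Cfsg.Agent.Lib.Helper7.CharBiset

open Cfsg Cfsg.FusionSystem Cfsg.Agent.Lib.Helper7 Cfsg.Agent.Lib.Helper7.Marks

variable {Ω : Type u} [Group Ω] {S : Subgroup Ω}

theorem isPGroup_prod {p : ℕ} (hS : IsPGroup p S) : IsPGroup p ↥(S.prod S) := by
  intro x
  obtain ⟨k₁, hk₁⟩ := hS ⟨(x : Ω × Ω).1, x.2.1⟩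
  obtain ⟨k₂, hk₂⟩ := hS ⟨(x : Ω × Ω).2, x.2.2⟩
  refine ⟨k₁ + k₂, ?_⟩
  apply Subtype.ext
  apply Prod.ext
  · have h1 : (x : Ω × Ω).1 ^ p ^ k₁ = 1 := congrArg Subtype.val hk₁
    show ((x : Ω × Ω) ^ p ^ (k₁ + k₂)).1 = 1
    rw [Prod.pow_fst, pow_add, pow_mul, h1, one_pow]
  · have h2 : (x : Ω × Ω).2 ^ p ^ k₂ = 1 := congrArg Subtype.val hk₂
    show ((x : Ω × Ω) ^ p ^ (k₁ + k₂)).2 = 1
    rw [Prod.pow_snd, pow_add, mul_comm, pow_mul, h2, one_pow]

theorem sat_aux [Finite S] (p : ℕ) [Fact p.Prime] (hS : IsPGroup p S) (F : FusionSystem S)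
    (hF : F.IsSaturated p) (E : Subgroup (↥S × ↥S)) :
    ∃ Pstar : Subgroup (↥S × ↥S), FC F E Pstar ∧ ∀ E' : Subgroup (↥S × ↥S), FC F E' Pstar →
    ∃ ψ : ↥(Subgroup.normalizer (E' : Set (↥S × ↥S))) →* ↥S × ↥S,
      (∀ n, ∀ e ∈ Pstar, (ψ n)⁻¹ * e * ψ n ∈ Pstar) ∧
      (∀ n : ↥(Subgroup.normalizer (E' : Set (↥S × ↥S))), (n : ↥S × ↥S) ∈ E' → ψ n ∈ Pstar) ∧
      ∀ n : ↥(Subgroup.normalizer (E' : Set (↥S × ↥S))), (n : ↥S × ↥S) ∉ E' →
        FC F (E' ⊔ Subgroup.zpowers (n : ↥S × ↥S)) (Pstar ⊔ Subgroup.zpowers (ψ n)) := by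
  have : Finite ↥(S.prod S) := Finite.of_equiv _ (Subgroup.prodEquiv S S).symm.toEquiv
  set F₀ := prodSystem F F with hF₀def
  have hF₀ : F₀.IsSaturated p := product_isSaturated p F F hF hF F₀ (prodSystem_isProductSystem F F)
  have hS₀ := isPGroup_prod hS
  obtain ⟨Q, hc, hFA, hRec⟩ := hF₀ (E.map (eps S)) (map_eps_le E)
  have hQ : Q ≤ S.prod S := hRec.1
  refine ⟨Q.comap (eps S), ?_, ?_⟩
  · unfold FC
    rw [map_comap_eps hQ]
    exact hc
  intro E' hE'
  unfold FC at hE'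
  rw [map_comap_eps hQ] at hE'
  obtain ⟨φ, hφ, hval, hmap⟩ :=
    hom_normalizer_of_fullyAutomized_receptive p hS₀ F₀ Q (E'.map (eps S)) hFA hRec hE'
  have hinc : ∀ n : ↥(Subgroup.normalizer (E' : Set (↥S × ↥S))), eps S (n : ↥S × ↥S) ∈ (normalizerIn (S.prod S) (E'.map (eps S))) := by
    intro n
    refine ⟨eps_mem _, ?_⟩
    exact Subgroup.le_normalizer_map (eps S) ⟨n, n.2, rfl⟩
  let inc : ↥(Subgroup.normalizer (E' : Set (↥S × ↥S))) →* ↥(normalizerIn (S.prod S) (E'.map (eps S))) :=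
    ((eps S).comp (Subgroup.subtype _)).codRestrict (normalizerIn (S.prod S) (E'.map (eps S))) hinc
  have hφS : ∀ n, (φ.comp inc) n ∈ S.prod S := fun n => (hval (inc n)).1
  let ψ : ↥(Subgroup.normalizer (E' : Set (↥S × ↥S))) →* ↥S × ↥S :=
    (pull S).comp ((φ.comp inc).codRestrict (S.prod S) hφS)
  have hψ : ∀ n, eps S (ψ n) = φ (inc n) := fun n => rfl
  have hψE : ∀ n : ↥(Subgroup.normalizer (E' : Set (↥S × ↥S))), (n : ↥S × ↥S) ∈ E' →
      ψ n ∈ Q.comap (eps S) := by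
    intro n hn
    rw [Subgroup.mem_comap, hψ, ← hmap]
    refine ⟨inc n, ?_, rfl⟩
    rw [SetLike.mem_coe, Subgroup.mem_subgroupOf]
    exact ⟨n, hn, rfl⟩
  refine ⟨ψ, ?_, hψE, ?_⟩
  · intro n e he
    rw [Subgroup.mem_comap] at he ⊢
    rw [map_mul, map_mul, map_inv, hψ]
    have h1 := (hval (inc n)).2
    have h2 := (Subgroup.mem_normalizer_iff.mp (Subgroup.inv_mem _ h1) (eps S e)).mp he
    simpa using h2
  · intro n _
    unfold FC
    have hRN : (E' ⊔ Subgroup.zpowers (n : ↥S × ↥S)).map (eps S) ≤ (normalizerIn (S.prod S) (E'.map (eps S))) := by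
      rintro _ ⟨x, hx, rfl⟩
      have hxN : x ∈ Subgroup.normalizer (E' : Set (↥S × ↥S)) := by
        have : E' ⊔ Subgroup.zpowers (n : ↥S × ↥S) ≤ Subgroup.normalizer (E' : Set (↥S × ↥S)) :=
          sup_le Subgroup.le_normalizer (by rw [Subgroup.zpowers_le]; exact n.2)
        exact this hx
      exact hinc ⟨x, hxN⟩
    refine ⟨φ.comp (Subgroup.inclusion hRN), fs_restrict_mem F₀ hRN hφ, ?_⟩
    apply le_antisymm
    · -- the range is contained in the image
      rintro _ ⟨⟨_, x, hx, rfl⟩, rfl⟩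
      have hle : E' ⊔ Subgroup.zpowers (n : ↥S × ↥S) ≤ Subgroup.normalizer (E' : Set (↥S × ↥S)) :=
        sup_le Subgroup.le_normalizer (by rw [Subgroup.zpowers_le]; exact n.2)
      have hxN : x ∈ Subgroup.normalizer (E' : Set (↥S × ↥S)) := hle hx
      -- the subgroup of the normalizer mapped into the target
      have hX : (E' ⊔ Subgroup.zpowers (n : ↥S × ↥S)).subgroupOf (Subgroup.normalizer (E' : Set (↥S × ↥S))) ≤
          (Q.comap (eps S) ⊔ Subgroup.zpowers (ψ n)).comap ψ := by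
        rw [Subgroup.subgroupOf_sup Subgroup.le_normalizer (by rw [Subgroup.zpowers_le]; exact n.2)]
        apply sup_le
        · intro y hy
          rw [Subgroup.mem_comap]
          exact Subgroup.mem_sup_left (hψE y (Subgroup.mem_subgroupOf.mp hy))
        · intro y hy
          rw [Subgroup.mem_subgroupOf] at hy
          obtain ⟨i, hi⟩ := Subgroup.mem_zpowers_iff.mp hy
          have hy' : y = n ^ i := by
            apply Subtype.ext
            rw [Subgroup.coe_zpow]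
            exact hi.symm
          rw [Subgroup.mem_comap, hy', map_zpow]
          exact Subgroup.mem_sup_right (Subgroup.zpow_mem _ (Subgroup.mem_zpowers _) i)
      have h1 : ψ ⟨x, hxN⟩ ∈ Q.comap (eps S) ⊔ Subgroup.zpowers (ψ n) :=
        hX (Subgroup.mem_subgroupOf.mpr hx)
      exact ⟨ψ ⟨x, hxN⟩, h1, rfl⟩
    · rw [Subgroup.map_sup, map_comap_eps hQ, MonoidHom.map_zpowers]
      apply sup_le
      · intro q hq
        rw [← hmap] at hq
        obtain ⟨y, hy, rfl⟩ := hq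
        rw [SetLike.mem_coe, Subgroup.mem_subgroupOf] at hy
        obtain ⟨x, hx, hxy⟩ := hy
        refine ⟨⟨(y : Ω × Ω), ⟨x, Subgroup.mem_sup_left hx, hxy⟩⟩, ?_⟩
        show φ (Subgroup.inclusion hRN _) = φ y
        congr 1
      · rw [Subgroup.zpowers_le]
        refine ⟨⟨eps S (n : ↥S × ↥S), ⟨n, Subgroup.mem_sup_right (Subgroup.mem_zpowers _), rfl⟩⟩, ?_⟩
        rfl

/-- The saturation data of a saturated fusion system. -/
def satData [Finite S] (p : ℕ) [Fact p.Prime] (hS : IsPGroup p S) (F : FusionSystem S)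
    (hF : F.IsSaturated p) : SatData (↥S × ↥S) where
  FC := FC F
  symm := fun h => isConj_symm (prodSystem F F) h
  trans := fun h1 h2 => isConj_trans (prodSystem F F) h1 h2
  conj := FC_conj F
  card := by
    intro E E' h
    have h1 := card_eq_of_isConj (prodSystem F F) h
    rwa [Subgroup.card_map_of_injective eps_injective, Subgroup.card_map_of_injective eps_injective] at h1
  sat := sat_aux p hS F hF

end Cfsg.Agent.Lib.Helper7.CharBiset
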