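import Mathlib
import Cfsg.Prelude.Def_FusionSystem
import Cfsg.Agent.Lib.Helper7.Fusion
import Cfsg.Agent.Lib.Helper7.FusionSat
import Cfsg.Agent.Lib.Helper7.MarksA

set_option autoImplicit false

universe u

namespace Cfsg.Agent.Lib.Helper7.Park

open Cfsg Cfsg.FusionSystem Cfsg.Agent.Lib.Helper7 Cfsg.Agent.Lib.Helper7.Marks

variable {Ω : Type u} [Group Ω] {S : Subgroup Ω}

/-- `E` is the graph of a map of the system. -/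
def IsTw (F : FusionSystem S) (E : Subgroup (↥S × ↥S)) : Prop :=
  ∃ (T : Subgroup Ω) (θ : T →* Ω), θ ∈ F.Hom T ∧
    ∀ a b : ↥S, (a, b) ∈ E ↔ ∃ h : (a : Ω) ∈ T, θ ⟨a, h⟩ = (b : Ω)

theorem isTw_of_le (F : FusionSystem S) {E E' : Subgroup (↥S × ↥S)} (hE : IsTw F E) (hle : E' ≤ E) :
    IsTw F E' := by
  obtain ⟨T, θ, hθ, hiff⟩ := hE
  set T' : Subgroup Ω := (E'.map (MonoidHom.fst ↥S ↥S)).map S.subtype with hT'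
  have hT'T : T' ≤ T := by
    rintro _ ⟨a, ⟨⟨a', b⟩, hab, rfl⟩, rfl⟩
    exact ((hiff a' b).mp (hle hab)).1
  refine ⟨T', θ.comp (Subgroup.inclusion hT'T), fs_restrict_mem F hT'T hθ, ?_⟩
  intro a b
  constructor
  · intro hab
    have ha : (a : Ω) ∈ T' := ⟨a, ⟨(a, b), hab, rfl⟩, rfl⟩
    refine ⟨ha, ?_⟩
    obtain ⟨h, e⟩ := (hiff a b).mp (hle hab)
    exact e
  · rintro ⟨ha, e⟩
    obtain ⟨a₁, ⟨⟨a', b'⟩, hab', rfl⟩, hcoe⟩ := ha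
    have haa : a' = a := Subtype.ext hcoe
    subst haa
    obtain ⟨h, e'⟩ := (hiff a' b').mp (hle hab')
    have hbb : b' = b := by
      apply Subtype.ext
      rw [← e', ← e]
      rfl
    rw [← hbb]
    exact hab'

theorem isTw_cj (F : FusionSystem S) {E : Subgroup (↥S × ↥S)} (hE : IsTw F E) (k : ↥S × ↥S) :
    IsTw F (cj k E) := by
  obtain ⟨T, θ, hθ, hiff⟩ := hE
  obtain ⟨a₀, b₀⟩ := k
  have hTS : T ≤ S := (F.le_of_mem hθ).1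
  set T'' : Subgroup Ω := T.map (MulAut.conj (a₀ : Ω)).toMonoidHom with hT''
  have hT''S : T'' ≤ S := by
    rintro _ ⟨x, hx, rfl⟩
    exact S.mul_mem (S.mul_mem a₀.2 (hTS hx)) (S.inv_mem a₀.2)
  have hφ₁ : conjHom T'' ((a₀ : Ω)⁻¹) ∈ F.Hom T'' := F.conj_mem hT''S (S.inv_mem a₀.2)
  have h₁ : ∀ x : T'', conjHom T'' ((a₀ : Ω)⁻¹) x ∈ T := by
    rintro ⟨_, x, hx, rfl⟩
    show (a₀ : Ω)⁻¹ * ((a₀ : Ω) * x * (a₀ : Ω)⁻¹) * ((a₀ : Ω)⁻¹)⁻¹ ∈ T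
    have : (a₀ : Ω)⁻¹ * ((a₀ : Ω) * x * (a₀ : Ω)⁻¹) * ((a₀ : Ω)⁻¹)⁻¹ = x := by group
    rw [this]; exact hx
  have hφ₂ := F.comp_mem hφ₁ hθ h₁
  have h₂ : ∀ x : T'', (θ.comp ((conjHom T'' ((a₀ : Ω)⁻¹)).codRestrict T h₁)) x ∈ S :=
    fun x => (F.le_of_mem hφ₂).2 x
  have hφ₃ := F.comp_mem hφ₂ (F.conj_mem (le_refl S) b₀.2) h₂
  refine ⟨T'', _, hφ₃, ?_⟩
  intro a b
  rw [mem_cj]
  have e1 : (a₀, b₀)⁻¹ * (a, b) * (a₀, b₀) = (a₀⁻¹ * a * a₀, b₀⁻¹ * b * b₀) := rfl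
  rw [e1, hiff]
  constructor
  · rintro ⟨h, e⟩
    have ha : (a : Ω) ∈ T'' := by
      refine ⟨_, h, ?_⟩
      show (a₀ : Ω) * ((a₀ : Ω)⁻¹ * a * a₀) * (a₀ : Ω)⁻¹ = a
      group
    refine ⟨ha, ?_⟩
    show (b₀ : Ω) * θ ⟨(a₀ : Ω)⁻¹ * a * ((a₀ : Ω)⁻¹)⁻¹, _⟩ * (b₀ : Ω)⁻¹ = b
    have e2 : θ ⟨(a₀ : Ω)⁻¹ * a * ((a₀ : Ω)⁻¹)⁻¹, h₁ ⟨a, ha⟩⟩ = θ ⟨((a₀⁻¹ * a * a₀ : ↥S) : Ω), h⟩ := by
      congr 1
      apply Subtype.ext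
      show (a₀ : Ω)⁻¹ * a * ((a₀ : Ω)⁻¹)⁻¹ = (a₀ : Ω)⁻¹ * a * a₀
      rw [inv_inv]
    rw [e2, e]
    show (b₀ : Ω) * ((b₀ : Ω)⁻¹ * b * b₀) * (b₀ : Ω)⁻¹ = b
    group
  · rintro ⟨ha, e⟩
    have h : ((a₀⁻¹ * a * a₀ : ↥S) : Ω) ∈ T := by
      have := h₁ ⟨a, ha⟩
      have e3 : conjHom T'' ((a₀ : Ω)⁻¹) ⟨a, ha⟩ = ((a₀⁻¹ * a * a₀ : ↥S) : Ω) := by
        show (a₀ : Ω)⁻¹ * a * ((a₀ : Ω)⁻¹)⁻¹ = (a₀ : Ω)⁻¹ * a * a₀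
        rw [inv_inv]
      rwa [e3] at this
    refine ⟨h, ?_⟩
    have e' : (b₀ : Ω) * θ ⟨(a₀ : Ω)⁻¹ * a * ((a₀ : Ω)⁻¹)⁻¹, h₁ ⟨a, ha⟩⟩ * (b₀ : Ω)⁻¹ = b := e
    have e2 : θ ⟨(a₀ : Ω)⁻¹ * a * ((a₀ : Ω)⁻¹)⁻¹, h₁ ⟨a, ha⟩⟩ = θ ⟨((a₀⁻¹ * a * a₀ : ↥S) : Ω), h⟩ := by
      congr 1
      apply Subtype.ext
      show (a₀ : Ω)⁻¹ * a * ((a₀ : Ω)⁻¹)⁻¹ = (a₀ : Ω)⁻¹ * a * a₀
      rw [inv_inv]
    rw [e2] at e'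
    show θ ⟨((a₀⁻¹ * a * a₀ : ↥S) : Ω), h⟩ = (b₀ : Ω)⁻¹ * b * b₀
    rw [← e']
    group

/-- The diagonal. -/
def diag (S : Subgroup Ω) : Subgroup (↥S × ↥S) :=
  (MonoidHom.prod (MonoidHom.id ↥S) (MonoidHom.id ↥S)).range

theorem mem_diag {a b : ↥S} : (a, b) ∈ diag S ↔ a = b := by
  constructor
  · rintro ⟨x, hx⟩
    have h1 := (Prod.mk.inj hx).1
    have h2 := (Prod.mk.inj hx).2
    simp only [MonoidHom.id_apply] at h1 h2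
    rw [← h1, ← h2]
  · rintro rfl
    exact ⟨a, rfl⟩

theorem isTw_diag (F : FusionSystem S) : IsTw F (diag S) := by
  refine ⟨S, S.subtype, fs_subtype_mem F le_rfl, ?_⟩
  intro a b
  rw [mem_diag]
  constructor
  · rintro rfl
    exact ⟨a.2, rfl⟩
  · rintro ⟨h, e⟩
    exact Subtype.ext e

theorem eq_one_of_isTw_left (F : FusionSystem S) {E : Subgroup (↥S × ↥S)} (hE : IsTw F E) {a : ↥S}
    (h : (a, 1) ∈ E) : a = 1 := by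
  obtain ⟨T, θ, hθ, hiff⟩ := hE
  obtain ⟨ha, e⟩ := (hiff a 1).mp h
  have h1 : θ ⟨a, ha⟩ = θ 1 := by rw [e, map_one]; rfl
  have h2 := F.injective_of_mem hθ h1
  apply Subtype.ext
  exact congrArg (fun x : ↥T => (x : Ω)) h2

end Cfsg.Agent.Lib.Helper7.Park
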