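import Mathlib
import Cfsg.Prelude.Def_FusionSystem
import Cfsg.Agent.Lib.Helper7.CharBisetD
import Cfsg.Agent.Lib.Helper7.ParkA

set_option autoImplicit false

universe u

namespace Cfsg.Agent.Lib.Helper7.CharBiset

open Cfsg Cfsg.FusionSystem Cfsg.Agent.Lib.Helper7 Cfsg.Agent.Lib.Helper7.Marks
  Cfsg.Agent.Lib.Helper7.Park

variable {Ω : Type u} [Group Ω] {S : Subgroup Ω}

theorem card_of_isTw (F : FusionSystem S) {E : Subgroup (↥S × ↥S)} {T : Subgroup Ω} {θ : T →* Ω}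
    (hθ : θ ∈ F.Hom T)
    (hiff : ∀ a b : ↥S, (a, b) ∈ E ↔ ∃ h : (a : Ω) ∈ T, θ ⟨a, h⟩ = (b : Ω)) :
    Nat.card E = Nat.card T := by
  have hTS := (F.le_of_mem hθ).1
  have hθS := (F.le_of_mem hθ).2
  symm
  refine Nat.card_congr ⟨fun t => ⟨(⟨t, hTS t.2⟩, ⟨θ t, hθS t⟩), (hiff _ _).mpr ⟨t.2, rfl⟩⟩,
    fun e => ⟨(e : ↥S × ↥S).1, ((hiff _ _).mp (show ((e : ↥S × ↥S).1, (e : ↥S × ↥S).2) ∈ E from e.2)).1⟩,
    fun t => rfl, fun e => ?_⟩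
  obtain ⟨⟨a, b⟩, he⟩ := e
  obtain ⟨h, hb⟩ := (hiff a b).mp he
  apply Subtype.ext
  apply Prod.ext
  · rfl
  · apply Subtype.ext
    exact hb

theorem card_dvd_of_isTw [Finite S] (F : FusionSystem S) {E : Subgroup (↥S × ↥S)} (hE : IsTw F E) :
    Nat.card E ∣ Nat.card S := by
  obtain ⟨T, θ, hθ, hiff⟩ := hE
  rw [card_of_isTw F hθ hiff]
  have hTS := (F.le_of_mem hθ).1
  have h1 : Nat.card T = Nat.card (T.subgroupOf S) :=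
    (Nat.card_congr (Subgroup.subgroupOfEquivOfLe hTS).toEquiv).symm
  rw [h1]
  exact Subgroup.card_subgroup_dvd_card _

/-- Conjugates in the product system of graphs are graphs. -/
theorem isTw_of_FC (F : FusionSystem S) {E E' : Subgroup (↥S × ↥S)} (hE : IsTw F E) (h : FC F E E') :
    IsTw F E' := by
  obtain ⟨T, θ, hθ, hiff⟩ := hE
  obtain ⟨Φ, ⟨hle, φ₁, hφ₁, φ₂, hφ₂, hΦ⟩, hrange⟩ := h
  have hTS := (F.le_of_mem hθ).1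
  have hθS := (F.le_of_mem hθ).2
  have hP₁T : ((E.map (eps S)).map (MonoidHom.fst Ω Ω)) ≤ T := by
    rintro _ ⟨_, ⟨⟨a, b⟩, hab, rfl⟩, rfl⟩
    exact ((hiff a b).mp hab).1
  have hθR : θ.comp (Subgroup.inclusion hP₁T) ∈ F.Hom ((E.map (eps S)).map (MonoidHom.fst Ω Ω)) := fs_restrict_mem F hP₁T hθ
  have hvalθ : ∀ x : ((E.map (eps S)).map (MonoidHom.fst Ω Ω)), (θ.comp (Subgroup.inclusion hP₁T)) x ∈ ((E.map (eps S)).map (MonoidHom.snd Ω Ω)) := by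
    rintro ⟨_, _, ⟨⟨a, b⟩, hab, rfl⟩, rfl⟩
    obtain ⟨ha, hb⟩ := (hiff a b).mp hab
    refine ⟨eps S (a, b), ⟨(a, b), hab, rfl⟩, ?_⟩
    exact hb.symm
  set ι₁ := isoOfRange φ₁ (F.injective_of_mem hφ₁) rfl with hι₁
  have hsymm := fs_iso_symm_mem F hφ₁ rfl
  have h1 := F.comp_mem hsymm hθR (fun y => (ι₁.symm y).2)
  have hval1 : ∀ y : φ₁.range, ((θ.comp (Subgroup.inclusion hP₁T)).comp
      ((((E.map (eps S)).map (MonoidHom.fst Ω Ω)).subtype.comp ι₁.symm.toMonoidHom).codRestrict ((E.map (eps S)).map (MonoidHom.fst Ω Ω)) (fun y => (ι₁.symm y).2))) y ∈ ((E.map (eps S)).map (MonoidHom.snd Ω Ω)) :=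
    fun y => hvalθ _
  have h2 := F.comp_mem h1 hφ₂ hval1
  refine ⟨φ₁.range, _, h2, ?_⟩
  -- membership in `E'`
  have hmemE' : ∀ a' b' : ↥S, (a', b') ∈ E' ↔ ∃ (a b : ↥S) (hab : (a, b) ∈ E),
      φ₁ ⟨(a : Ω), ⟨eps S (a, b), ⟨(a, b), hab, rfl⟩, rfl⟩⟩ = (a' : Ω) ∧
      φ₂ ⟨(b : Ω), ⟨eps S (a, b), ⟨(a, b), hab, rfl⟩, rfl⟩⟩ = (b' : Ω) := by
    intro a' b'
    have h3 : (a', b') ∈ E' ↔ eps S (a', b') ∈ E'.map (eps S) := by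
      constructor
      · intro h; exact ⟨_, h, rfl⟩
      · rintro ⟨x, hx, hxe⟩
        rw [← eps_injective hxe]; exact hx
    rw [h3, ← hrange]
    constructor
    · rintro ⟨⟨_, ⟨a, b⟩, hab, rfl⟩, hx⟩
      rw [hΦ _ (fst_mem_map _) (snd_mem_map _)] at hx
      have hx1 := (Prod.mk.inj hx).1
      have hx2 := (Prod.mk.inj hx).2
      exact ⟨a, b, hab, hx1, hx2⟩
    · rintro ⟨a, b, hab, h1, h2⟩
      refine ⟨⟨eps S (a, b), ⟨(a, b), hab, rfl⟩⟩, ?_⟩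
      rw [hΦ _ (fst_mem_map _) (snd_mem_map _)]
      exact Prod.ext h1 h2
  intro a' b'
  rw [hmemE']
  constructor
  · rintro ⟨a, b, hab, h1, h2⟩
    have ha' : (a' : Ω) ∈ φ₁.range := ⟨_, h1⟩
    refine ⟨ha', ?_⟩
    have hsym : ι₁.symm ⟨a', ha'⟩ = ⟨(a : Ω), ⟨eps S (a, b), ⟨(a, b), hab, rfl⟩, rfl⟩⟩ := by
      apply ι₁.injective
      rw [MulEquiv.apply_symm_apply]
      apply Subtype.ext
      rw [isoOfRange_coe]
      exact h1.symm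
    obtain ⟨ha, hb⟩ := (hiff a b).mp hab
    show φ₂ ⟨θ (Subgroup.inclusion hP₁T ⟨((ι₁.symm ⟨a', ha'⟩ : ((E.map (eps S)).map (MonoidHom.fst Ω Ω))) : Ω), _⟩), _⟩ = (b' : Ω)
    rw [← h2]
    congr 1
    apply Subtype.ext
    show θ (Subgroup.inclusion hP₁T ⟨((ι₁.symm ⟨a', ha'⟩ : ((E.map (eps S)).map (MonoidHom.fst Ω Ω))) : Ω), _⟩) = (b : Ω)
    rw [← hb]
    congr 1
    apply Subtype.ext
    show ((ι₁.symm ⟨a', ha'⟩ : ((E.map (eps S)).map (MonoidHom.fst Ω Ω))) : Ω) = a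
    rw [hsym]
  · rintro ⟨ha', e⟩
    obtain ⟨⟨_, _, ⟨⟨a, b⟩, hab, rfl⟩, rfl⟩, ha₁⟩ := ha'
    refine ⟨a, b, hab, ha₁, ?_⟩
    have ha'' : (a' : Ω) ∈ φ₁.range := ⟨_, ha₁⟩
    have hsym : ι₁.symm ⟨a', ha''⟩ = ⟨(a : Ω), ⟨eps S (a, b), ⟨(a, b), hab, rfl⟩, rfl⟩⟩ := by
      apply ι₁.injective
      rw [MulEquiv.apply_symm_apply]
      apply Subtype.ext
      rw [isoOfRange_coe]
      exact ha₁.symm
    obtain ⟨ha, hb⟩ := (hiff a b).mp hab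
    have e' : φ₂ ⟨θ (Subgroup.inclusion hP₁T ⟨((ι₁.symm ⟨a', ha''⟩ : ((E.map (eps S)).map (MonoidHom.fst Ω Ω))) : Ω), (ι₁.symm ⟨a', ha''⟩).2⟩),
        hval1 ⟨a', ha''⟩⟩ = (b' : Ω) := e
    rw [← e']
    congr 1
    apply Subtype.ext
    show (b : Ω) = θ (Subgroup.inclusion hP₁T ⟨((ι₁.symm ⟨a', ha''⟩ : ((E.map (eps S)).map (MonoidHom.fst Ω Ω))) : Ω), _⟩)
    rw [← hb]
    congr 1
    apply Subtype.ext
    show (a : Ω) = ((ι₁.symm ⟨a', ha''⟩ : ((E.map (eps S)).map (MonoidHom.fst Ω Ω))) : Ω)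
    rw [hsym]

end Cfsg.Agent.Lib.Helper7.CharBiset
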