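import Mathlib
import Cfsg.Prelude.Def_FusionSystem
import Cfsg.Agent.Lib.Helper7.CharBisetE
import Cfsg.Agent.Lib.Helper7.FusionInner
import Cfsg.Agent.Lib.Helper7.AutInduced

set_option autoImplicit false

universe u

namespace Cfsg.Agent.Lib.Helper7.CharBiset

open Cfsg Cfsg.FusionSystem Cfsg.Agent.Lib.Helper7 Cfsg.Agent.Lib.Helper7.Marks
  Cfsg.Agent.Lib.Helper7.Park

variable {Ω : Type u} [Group Ω] {S : Subgroup Ω}

/-- The graph of an automorphism of `S`. -/
def graph (α : MulAut ↥S) : Subgroup (↥S × ↥S) :=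
  (MonoidHom.prod (MonoidHom.id ↥S) α.toMonoidHom).range

theorem mem_graph {α : MulAut ↥S} {a b : ↥S} : (a, b) ∈ graph α ↔ α a = b := by
  constructor
  · rintro ⟨x, hx⟩
    have h1 : x = a := (Prod.mk.inj hx).1
    have h2 : α x = b := (Prod.mk.inj hx).2
    rw [← h1, h2]
  · rintro rfl
    exact ⟨a, rfl⟩

theorem graph_injective : Function.Injective (graph : MulAut ↥S → Subgroup (↥S × ↥S)) := by
  intro α β h
  ext a
  have h1 : (a, α a) ∈ graph α := mem_graph.mpr rfl
  rw [h] at h1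
  rw [mem_graph.mp h1]

theorem card_graph (α : MulAut ↥S) : Nat.card (graph α) = Nat.card S := by
  symm
  refine Nat.card_congr ⟨fun a => ⟨(a, α a), mem_graph.mpr rfl⟩, fun e => (e : ↥S × ↥S).1,
    fun a => rfl, fun e => ?_⟩
  obtain ⟨⟨a, b⟩, he⟩ := e
  apply Subtype.ext
  exact Prod.ext rfl (mem_graph.mp he)

theorem isTw_graph (F : FusionSystem S) {α : MulAut ↥S} (hα : α ∈ F.autGroup S) : IsTw F (graph α) := by
  refine ⟨S, S.subtype.comp α.toMonoidHom, (mem_autGroup_iff F le_rfl α).mp hα, ?_⟩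
  intro a b
  rw [mem_graph]
  constructor
  · rintro rfl
    exact ⟨a.2, rfl⟩
  · rintro ⟨h, e⟩
    exact Subtype.ext e

theorem exists_graph_of_isTw [Finite S] (F : FusionSystem S) {D : Subgroup (↥S × ↥S)} (hD : IsTw F D)
    (hcard : Nat.card D = Nat.card S) : ∃ α ∈ F.autGroup S, D = graph α := by
  obtain ⟨T, θ, hθ, hiff⟩ := hD
  have hTS := (F.le_of_mem hθ).1
  have hθS := (F.le_of_mem hθ).2
  have hT : T = S := by
    apply Subgroup.eq_of_le_of_card_ge hTS
    rw [← card_of_isTw F hθ hiff, hcard]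
  subst hT
  let f : ↥T →* ↥T := θ.codRestrict T hθS
  have hfinj : Function.Injective f := by
    intro a b hab
    exact F.injective_of_mem hθ (congrArg Subtype.val hab)
  have hfbij : Function.Bijective f := Finite.injective_iff_bijective.mp hfinj
  let α : MulAut ↥T := MulEquiv.ofBijective f hfbij
  have hα : ∀ a : ↥T, ((α a : ↥T) : Ω) = θ a := fun a => rfl
  refine ⟨α, ?_, ?_⟩
  · rw [mem_autGroup_iff F le_rfl]
    have e : T.subtype.comp α.toMonoidHom = θ := by
      ext a
      exact hα a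
    rw [e]; exact hθ
  · ext ⟨a, b⟩
    rw [hiff, mem_graph]
    constructor
    · rintro ⟨h, e⟩
      apply Subtype.ext
      rw [hα, ← e]
    · intro h
      refine ⟨a.2, ?_⟩
      rw [← h, hα]

theorem cj_graph (a₀ b₀ : ↥S) (α : MulAut ↥S) :
    cj (a₀, b₀) (graph α) = graph (MulAut.conj b₀ * α * (MulAut.conj a₀)⁻¹) := by
  ext ⟨a, b⟩
  rw [mem_cj, mem_graph]
  have e1 : (a₀, b₀)⁻¹ * (a, b) * (a₀, b₀) = (a₀⁻¹ * a * a₀, b₀⁻¹ * b * b₀) := rfl
  rw [e1, mem_graph]
  simp only [MulAut.mul_apply, MulAut.conj_apply, MulAut.conj_inv_apply]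
  constructor
  · intro h
    rw [h]; group
  · intro h
    rw [← h]; group

theorem graph_conj_iff (α β : MulAut ↥S) :
    (∃ k : ↥S × ↥S, graph β = cj k (graph α)) ↔ α⁻¹ * β ∈ Inn ↥S := by
  constructor
  · rintro ⟨⟨a₀, b₀⟩, h⟩
    rw [cj_graph] at h
    have h1 := graph_injective h
    refine ⟨α⁻¹ b₀ * a₀⁻¹, ?_⟩
    rw [h1]
    ext x
    simp [MulAut.mul_apply, MulAut.conj_apply, mul_assoc]
  · rintro ⟨x, hx⟩
    refine ⟨(1, α x), ?_⟩
    rw [cj_graph]
    congr 1
    have h2 : β = α * MulAut.conj x := by rw [hx]; group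
    rw [h2]
    ext y
    simp [MulAut.mul_apply, MulAut.conj_apply]

/-- Invariance of `nd` under automorphisms. -/
theorem nd_map_equiv {K : Type u} [Group K] [Finite K] (f : K ≃* K) (D : Subgroup K) :
    nd (D.map f.toMonoidHom) = nd D := by
  have h1 := nd_mul_card (D.map f.toMonoidHom)
  have h2 := nd_mul_card D
  have h3 : Nat.card (D.map f.toMonoidHom) = Nat.card D := Subgroup.card_map_of_injective f.injective
  have h4 : Nat.card (Subgroup.normalizer ((D.map f.toMonoidHom : Subgroup K) : Set K)) =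
      Nat.card (Subgroup.normalizer (D : Set K)) := by
    have := Subgroup.map_equiv_normalizer_eq D f
    rw [← this]
    exact Subgroup.card_map_of_injective f.injective
  rw [h3, h4, ← h2] at h1
  exact Nat.eq_of_mul_eq_mul_right Nat.card_pos h1

theorem nd_graph [Finite S] (α : MulAut ↥S) : nd (graph α) = nd (diag S) := by
  have h : graph α = (diag S).map (MulEquiv.prodCongr (MulEquiv.refl ↥S) α).toMonoidHom := by
    ext ⟨a, b⟩
    rw [mem_graph]
    constructor
    · rintro rfl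
      exact ⟨(a, a), mem_diag.mpr rfl, rfl⟩
    · rintro ⟨⟨x, y⟩, hxy, he⟩
      have hxy' := mem_diag.mp hxy
      subst hxy'
      have h1 : x = a := (Prod.mk.inj he).1
      have h2 : α x = b := (Prod.mk.inj he).2
      rw [← h1, h2]
  rw [h, nd_map_equiv]

theorem autInducedBy_self : autInducedBy S S = Inn ↥S := by
  ext α
  rw [mem_autInducedBy_iff]
  constructor
  · rintro ⟨g, hg, h⟩
    refine ⟨⟨g, hg⟩, ?_⟩
    ext x
    rw [h]
    simp [MulAut.conj_apply]
  · rintro ⟨g, rfl⟩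
    refine ⟨g, g.2, fun x => ?_⟩
    simp [MulAut.conj_apply]

end Cfsg.Agent.Lib.Helper7.CharBiset
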