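import Mathlib
import Cfsg.Prelude.Def_FusionSystem
import Cfsg.Agent.Lib.Helper7.CharBisetF

set_option autoImplicit false

universe u

namespace Cfsg.Agent.Lib.Helper7.CharBiset

open Cfsg Cfsg.FusionSystem Cfsg.Agent.Lib.Helper7 Cfsg.Agent.Lib.Helper7.Marks
  Cfsg.Agent.Lib.Helper7.Park

variable {Ω : Type u} [Group Ω] {S : Subgroup Ω}

theorem rep_eq_iff {K : Type u} [Group K] (E E' : Subgroup K) : rep E = rep E' ↔ ∃ k : K, E' = Marks.cj k E := by
  constructor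
  · intro h
    obtain ⟨k, hk⟩ := rep_conj E
    obtain ⟨k', hk'⟩ := rep_conj E'
    refine ⟨k' * k⁻¹, ?_⟩
    rw [Marks.cj_mul]
    have h1 : Marks.cj k⁻¹ E = rep E := by
      conv_lhs => rw [hk]
      rw [← Marks.cj_mul, inv_mul_cancel, Marks.cj_one]
    rw [h1, h, ← hk']
  · rintro ⟨k, rfl⟩
    rw [rep_cj]

/-- The top seeds. -/
def IsTopRep (F : FusionSystem S) (D : Subgroup (↥S × ↥S)) : Prop :=
  IsTw F D ∧ Nat.card D = Nat.card S ∧ rep D = D

theorem not_dvd_card_topRep [Finite S] (p : ℕ) [Fact p.Prime] (hS : IsPGroup p S)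
    (F : FusionSystem S) (hF : F.IsSaturated p) :
    ¬ p ∣ Nat.card {D : Subgroup (↥S × ↥S) // IsTopRep F D} := by
  classical
  have : Finite (MulAut ↥S) := inferInstance
  set A := F.autGroup S with hA
  set I : Subgroup ↥A := (Inn ↥S).subgroupOf A with hI
  obtain ⟨-, R, hR⟩ := isFullyAutomized_top_of_isSaturated p hS F hF
  rw [autInducedBy_self] at hR
  have hidx : ¬ p ∣ I.index := by
    rw [hI, ← hR]
    exact R.not_dvd_index
  -- the map to representatives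
  have hrepTop : ∀ α : ↥A, IsTopRep F (rep (graph (α : MulAut ↥S))) := by
    intro α
    obtain ⟨k, hk⟩ := rep_conj (graph (α : MulAut ↥S))
    have h1 : rep (graph (α : MulAut ↥S)) = Marks.cj k⁻¹ (graph (α : MulAut ↥S)) := by
      conv_rhs => rw [hk]
      rw [← Marks.cj_mul, inv_mul_cancel, Marks.cj_one]
    refine ⟨?_, ?_, rep_rep _⟩
    · rw [h1]
      exact isTw_cj F (isTw_graph F α.2) _
    · rw [h1, Marks.card_cj, card_graph]
  let f : ↥A → {D : Subgroup (↥S × ↥S) // IsTopRep F D} := fun α => ⟨rep (graph (α : MulAut ↥S)), hrepTop α⟩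
  have hfiber : ∀ r : {D : Subgroup (↥S × ↥S) // IsTopRep F D},
      Nat.card {α : ↥A // f α = r} = Nat.card I := by
    rintro ⟨D₀, hD₀⟩
    obtain ⟨α₀, hα₀, hD₀g⟩ := exists_graph_of_isTw F hD₀.1 hD₀.2.1
    have hmem : ∀ α : ↥A, f α = ⟨D₀, hD₀⟩ ↔ (⟨α₀, hα₀⟩ : ↥A)⁻¹ * α ∈ I := by
      intro α
      rw [hI, Subgroup.mem_subgroupOf]
      have e1 : (((⟨α₀, hα₀⟩ : ↥A)⁻¹ * α : ↥A) : MulAut ↥S) = α₀⁻¹ * (α : MulAut ↥S) := rfl
      rw [e1, ← graph_conj_iff, ← rep_eq_iff]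
      constructor
      · intro h
        have h1 : rep (graph (α : MulAut ↥S)) = D₀ := congrArg Subtype.val h
        rw [h1, ← hD₀g, hD₀.2.2]
      · intro h
        apply Subtype.ext
        show rep (graph (α : MulAut ↥S)) = D₀
        rw [← h, ← hD₀g, hD₀.2.2]
    refine Nat.card_congr ⟨fun α => ⟨(⟨α₀, hα₀⟩ : ↥A)⁻¹ * α.1, (hmem α.1).mp α.2⟩,
      fun γ => ⟨(⟨α₀, hα₀⟩ : ↥A) * γ.1, (hmem _).mpr (by rw [inv_mul_cancel_left]; exact γ.2)⟩, ?_, ?_⟩
    · intro α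
      apply Subtype.ext
      show (⟨α₀, hα₀⟩ : ↥A) * ((⟨α₀, hα₀⟩ : ↥A)⁻¹ * α.1) = α.1
      rw [mul_inv_cancel_left]
    · intro γ
      apply Subtype.ext
      show (⟨α₀, hα₀⟩ : ↥A)⁻¹ * ((⟨α₀, hα₀⟩ : ↥A) * γ.1) = γ.1
      rw [inv_mul_cancel_left]
  have hcardA : Nat.card ↥A = Nat.card {D : Subgroup (↥S × ↥S) // IsTopRep F D} * Nat.card I := by
    have : Finite {D : Subgroup (↥S × ↥S) // IsTopRep F D} := inferInstance
    have : Fintype {D : Subgroup (↥S × ↥S) // IsTopRep F D} := Fintype.ofFinite _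
    rw [← Nat.card_congr (Equiv.sigmaFiberEquiv f), Nat.card_sigma]
    rw [Finset.sum_congr rfl (fun r _ => hfiber r), Finset.sum_const, smul_eq_mul,
      Finset.card_univ, ← Nat.card_eq_fintype_card]
  have h2 := Subgroup.index_mul_card I
  rw [hcardA] at h2
  have h3 : I.index = Nat.card {D : Subgroup (↥S × ↥S) // IsTopRep F D} :=
    Nat.eq_of_mul_eq_mul_right Nat.card_pos h2
  rw [← h3]
  exact hidx

end Cfsg.Agent.Lib.Helper7.CharBiset
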