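import Mathlib

set_option autoImplicit false

universe u v

namespace Cfsg.Agent.Lib.Helper7.Marks

open MulAction

variable {K' : Type v} [Group K']

theorem card_fixedPoints_bot (Y : Type u) [MulAction K' Y] :
    Nat.card (fixedPoints (⊥ : Subgroup K') Y) = Nat.card Y := by
  refine Nat.card_congr ⟨fun y => y.1, fun y => ⟨y, ?_⟩, fun y => rfl, fun y => rfl⟩
  rintro ⟨k, hk⟩
  rw [Subgroup.mem_bot] at hk
  subst hk
  exact one_smul _ _

theorem mem_fixedPoints_iff_le_stabilizer {Y : Type u} [MulAction K' Y] (H : Subgroup K') (y : Y) :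
    y ∈ fixedPoints H Y ↔ H ≤ stabilizer K' y := by
  constructor
  · intro h k hk
    exact h ⟨k, hk⟩
  · intro h k
    exact h k.2

variable (K') in
/-- The complement of an orbit as a sub-action. -/
def orbitCompl (Y : Type u) [MulAction K' Y] (y₀ : Y) : SubMulAction K' Y where
  carrier := (orbit K' y₀)ᶜ
  smul_mem' := by
    intro k y hy hky
    apply hy
    obtain ⟨g, hg⟩ := hky
    refine ⟨k⁻¹ * g, ?_⟩
    show (k⁻¹ * g) • y₀ = y
    have hg' : g • y₀ = k • y := hg
    rw [mul_smul, hg', inv_smul_smul]

/-- Decomposition of the fixed point count along an orbit. -/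
theorem card_fixedPoints_split {Y : Type u} [MulAction K' Y] [Finite Y] (y₀ : Y) (H : Subgroup K') :
    Nat.card (fixedPoints H Y) =
      Nat.card {y : orbit K' y₀ // (y : Y) ∈ fixedPoints H Y} +
      Nat.card (fixedPoints H (orbitCompl K' Y y₀)) := by
  classical
  have e : fixedPoints H Y ≃ {y : orbit K' y₀ // (y : Y) ∈ fixedPoints H Y} ⊕
      fixedPoints H (orbitCompl K' Y y₀) :=
    { toFun := fun y => if h : (y : Y) ∈ orbit K' y₀ then Sum.inl ⟨⟨y.1, h⟩, y.2⟩
        else Sum.inr ⟨⟨y.1, h⟩, fun k => Subtype.ext (y.2 k)⟩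
      invFun := fun z => Sum.elim (fun y => ⟨y.1.1, y.2⟩)
        (fun y => ⟨y.1.1, fun k => congrArg Subtype.val (y.2 k)⟩) z
      left_inv := fun y => by
        by_cases h : (y : Y) ∈ orbit K' y₀
        · simp [h]
        · simp [h]
      right_inv := fun z => by
        rcases z with y | y
        · have h : (y.1 : Y) ∈ orbit K' y₀ := y.1.2
          simp [h]
        · have h : ((y.1 : ↥(orbitCompl K' Y y₀)) : Y) ∉ orbit K' y₀ := y.1.2
          simp [h] }
  rw [Nat.card_congr e, Nat.card_sum]

theorem exists_equivariant_equiv [Finite K'] :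
    ∀ (n : ℕ) (Y Y' : Type u) [MulAction K' Y] [MulAction K' Y'] [Finite Y] [Finite Y'],
      Nat.card Y = n →
      (∀ H : Subgroup K', Nat.card (fixedPoints H Y) = Nat.card (fixedPoints H Y')) →
      ∃ e : Y ≃ Y', ∀ (k : K') (y : Y), e (k • y) = k • e y := by
  intro n
  induction n using Nat.strong_induction_on with
  | _ n ih =>
    intro Y Y' _ _ _ _ hn hfix
    classical
    rcases isEmpty_or_nonempty Y with hY | hY
    · have h0 := hfix ⊥
      rw [card_fixedPoints_bot, card_fixedPoints_bot, Nat.card_of_isEmpty] at h0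
      have hY' : IsEmpty Y' := by
        rcases isEmpty_or_nonempty Y' with h | h
        · exact h
        · have : 0 < Nat.card Y' := Nat.card_pos
          omega
      exact ⟨Equiv.equivOfIsEmpty Y Y', fun k y => isEmptyElim y⟩
    · obtain ⟨y₀, hy₀⟩ := Finite.exists_max (fun y : Y => Nat.card (stabilizer K' y))
      set H := stabilizer K' y₀ with hH
      -- a point of `Y'` with the same stabilizer
      have hne : 0 < Nat.card (fixedPoints H Y) := by
        have : Nonempty (fixedPoints H Y) :=
          ⟨⟨y₀, (mem_fixedPoints_iff_le_stabilizer H y₀).mpr le_rfl⟩⟩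
        exact Nat.card_pos
      rw [hfix H] at hne
      obtain ⟨⟨y₀', hy₀'⟩⟩ := (Nat.card_pos_iff.mp hne).1
      have hle' : H ≤ stabilizer K' y₀' := (mem_fixedPoints_iff_le_stabilizer H y₀').mp hy₀'
      have hstab : stabilizer K' y₀' = H := by
        have hne2 : 0 < Nat.card (fixedPoints (stabilizer K' y₀') Y') := by
          have : Nonempty (fixedPoints (stabilizer K' y₀') Y') :=
            ⟨⟨y₀', (mem_fixedPoints_iff_le_stabilizer _ y₀').mpr le_rfl⟩⟩
          exact Nat.card_pos
        rw [← hfix] at hne2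
        obtain ⟨⟨y₁, hy₁⟩⟩ := (Nat.card_pos_iff.mp hne2).1
        have h1 : stabilizer K' y₀' ≤ stabilizer K' y₁ :=
          (mem_fixedPoints_iff_le_stabilizer _ y₁).mp hy₁
        have h2 := hy₀ y₁
        have h3 := Subgroup.card_le_of_le h1
        have h4 := Subgroup.card_le_of_le hle'
        symm
        apply Subgroup.eq_of_le_of_card_ge hle'
        exact h3.trans h2
      -- the bijection between the orbits
      let e₀ : orbit K' y₀ ≃ orbit K' y₀' :=
        (orbitEquivQuotientStabilizer K' y₀).trans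
          ((Subgroup.quotientEquivOfEq hstab.symm).trans (orbitEquivQuotientStabilizer K' y₀').symm)
      have he₀ : ∀ (g : K') (h : g • y₀ ∈ orbit K' y₀), ((e₀ ⟨g • y₀, h⟩ : orbit K' y₀') : Y') = g • y₀' := by
        intro g h
        have h1 : orbitEquivQuotientStabilizer K' y₀ ⟨g • y₀, h⟩ = (g : K' ⧸ stabilizer K' y₀) := by
          apply (orbitEquivQuotientStabilizer K' y₀).symm.injective
          rw [Equiv.symm_apply_apply]
          apply Subtype.ext
          rw [orbitEquivQuotientStabilizer_symm_apply]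
        show (((orbitEquivQuotientStabilizer K' y₀').symm
          (Subgroup.quotientEquivOfEq hstab.symm (orbitEquivQuotientStabilizer K' y₀ ⟨g • y₀, h⟩)) :
            orbit K' y₀') : Y') = g • y₀'
        rw [h1]
        have h2 : Subgroup.quotientEquivOfEq hstab.symm (g : K' ⧸ stabilizer K' y₀) =
            (g : K' ⧸ stabilizer K' y₀') := rfl
        rw [h2, orbitEquivQuotientStabilizer_symm_apply]
      have he₀smul : ∀ (k : K') (y : orbit K' y₀), ((e₀ (k • y) : orbit K' y₀') : Y') = k • (e₀ y : Y') := by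
        intro k y
        obtain ⟨g, hg⟩ := y.2
        have hg' : g • y₀ = (y : Y) := hg
        have h0 : y = ⟨g • y₀, mem_orbit y₀ g⟩ := Subtype.ext hg'.symm
        have h1 : k • y = ⟨(k * g) • y₀, mem_orbit y₀ (k * g)⟩ := by
          apply Subtype.ext
          show k • (y : Y) = (k * g) • y₀
          rw [mul_smul, hg']
        rw [h1, he₀, h0, he₀, mul_smul]
      -- the complements
      have hsumY : Nat.card Y = Nat.card (orbit K' y₀) + Nat.card (orbitCompl K' Y y₀) := by
        rw [← Nat.card_sum]
        exact (Nat.card_congr (Equiv.Set.sumCompl (orbit K' y₀))).symm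
      have hsumY' : Nat.card Y' = Nat.card (orbit K' y₀') + Nat.card (orbitCompl K' Y' y₀') := by
        rw [← Nat.card_sum]
        exact (Nat.card_congr (Equiv.Set.sumCompl (orbit K' y₀'))).symm
      have hcard : Nat.card (orbitCompl K' Y y₀) < n := by
        have : Nonempty (orbit K' y₀) := ⟨⟨y₀, mem_orbit_self y₀⟩⟩
        have hpos : 0 < Nat.card (orbit K' y₀) := Nat.card_pos
        omega
      -- fixed points inside the orbits
      have hfixO : ∀ (L : Subgroup K') (y : orbit K' y₀),
          (y : Y) ∈ fixedPoints L Y ↔ ((e₀ y : orbit K' y₀') : Y') ∈ fixedPoints L Y' := by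
        intro L y
        constructor
        · intro h l
          have h1 : (l : K') • y = y := Subtype.ext (h l)
          show (l : K') • ((e₀ y : orbit K' y₀') : Y') = _
          rw [← he₀smul, h1]
        · intro h l
          have h1 : ((e₀ ((l : K') • y) : orbit K' y₀') : Y') = (e₀ y : Y') := by
            rw [he₀smul]; exact h l
          have h2 : (l : K') • y = y := e₀.injective (Subtype.ext h1)
          exact congrArg Subtype.val h2
      have hfix₁ : ∀ L : Subgroup K', Nat.card (fixedPoints L (orbitCompl K' Y y₀)) =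
          Nat.card (fixedPoints L (orbitCompl K' Y' y₀')) := by
        intro L
        have h1 := card_fixedPoints_split y₀ L
        have h2 := card_fixedPoints_split y₀' L
        have h3 : Nat.card {y : orbit K' y₀ // (y : Y) ∈ fixedPoints L Y} =
            Nat.card {y : orbit K' y₀' // (y : Y') ∈ fixedPoints L Y'} :=
          Nat.card_congr (e₀.subtypeEquiv (hfixO L))
        have h4 := hfix L
        omega
      obtain ⟨e₁, he₁⟩ := ih _ hcard (orbitCompl K' Y y₀) (orbitCompl K' Y' y₀') rfl hfix₁
      -- glue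
      let e₁' : ((orbit K' y₀)ᶜ : Set Y) ≃ ((orbit K' y₀')ᶜ : Set Y') := e₁
      let e : Y ≃ Y' := ((Equiv.Set.sumCompl (orbit K' y₀)).symm.trans (Equiv.sumCongr e₀ e₁')).trans
        (Equiv.Set.sumCompl (orbit K' y₀'))
      have hmem : ∀ (y : Y) (h : y ∈ orbit K' y₀), e y = ((e₀ ⟨y, h⟩ : orbit K' y₀') : Y') := by
        intro y h
        show Equiv.Set.sumCompl (orbit K' y₀') (Equiv.sumCongr e₀ e₁'
          ((Equiv.Set.sumCompl (orbit K' y₀)).symm y)) = _
        rw [Equiv.Set.sumCompl_symm_apply_of_mem h]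
        rfl
      have hnmem : ∀ (y : Y) (h : y ∉ orbit K' y₀), e y = ((e₁ ⟨y, h⟩ : orbitCompl K' Y' y₀') : Y') := by
        intro y h
        show Equiv.Set.sumCompl (orbit K' y₀') (Equiv.sumCongr e₀ e₁'
          ((Equiv.Set.sumCompl (orbit K' y₀)).symm y)) = _
        rw [Equiv.Set.sumCompl_symm_apply_of_notMem h]
        rfl
      refine ⟨e, fun k y => ?_⟩
      by_cases h : y ∈ orbit K' y₀
      · have hk : k • y ∈ orbit K' y₀ := by
          obtain ⟨g, hg⟩ := h
          have hg' : g • y₀ = y := hg
          rw [← hg', ← mul_smul]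
          exact mem_orbit y₀ (k * g)
        rw [hmem _ hk, hmem _ h]
        have : (⟨k • y, hk⟩ : orbit K' y₀) = k • (⟨y, h⟩ : orbit K' y₀) := rfl
        rw [this, he₀smul]
      · have hk : k • y ∉ orbit K' y₀ := (orbitCompl K' Y y₀).smul_mem k h
        rw [hnmem _ hk, hnmem _ h]
        have : (⟨k • y, hk⟩ : orbitCompl K' Y y₀) = k • (⟨y, h⟩ : orbitCompl K' Y y₀) := rfl
        rw [this, he₁]
        rfl

end Cfsg.Agent.Lib.Helper7.Marks
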