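import Mathlib
import Cfsg.Prelude.Def_FusionSystem
import Cfsg.Agent.Lib.Helper7.CharBisetG
import Cfsg.Agent.Lib.Helper7.CharBisetB
import Cfsg.Agent.Lib.Helper7.MarksB

set_option autoImplicit false

universe u

namespace Cfsg.Agent.Lib.Helper7.CharBiset

open Cfsg Cfsg.FusionSystem Cfsg.Agent.Lib.Helper7 Cfsg.Agent.Lib.Helper7.Marks
  Cfsg.Agent.Lib.Helper7.Park

variable {Ω : Type u} [Group Ω] {S : Subgroup Ω}

theorem fixCount_bot {K : Type u} [Group K] (D : Subgroup K) : fixCount D ⊥ = D.index := by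
  unfold fixCount
  rw [Subgroup.index_eq_card]
  exact card_fixedPoints_bot (K' := K) (K ⧸ D)

/-- **Existence of a characteristic biset** (Broto–Levi–Oliver, Proposition 5.5), numerical form. -/
theorem exists_charBiset [Finite S] [Fintype (Subgroup (↥S × ↥S))] (p : ℕ) [Fact p.Prime]
    (hS : IsPGroup p S) (F : FusionSystem S) (hF : F.IsSaturated p) :
    ∃ c : Subgroup (↥S × ↥S) → ℕ, (∀ D, c D ≠ 0 → IsTw F D) ∧
      (∀ E E' : Subgroup (↥S × ↥S), FC F E E' → marks c E = marks c E') ∧
      ∃ m : ℕ, ¬ p ∣ m ∧ marks c ⊥ ≡ m * Nat.card S [MOD p * Nat.card S] := by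
  classical
  have hp : p.Prime := Fact.out
  set SD := satData p hS F hF with hSD
  set 𝓗 : Set (Subgroup (↥S × ↥S)) := {E | IsTw F E ∧ Nat.card E < Nat.card S} with h𝓗
  set c₀ : Subgroup (↥S × ↥S) → ℕ := fun D => if IsTopRep F D then 1 else 0 with hc₀
  have hc₀supp : ∀ D, c₀ D ≠ 0 → IsTw F D := by
    intro D hD
    by_contra hcon
    apply hD
    simp only [hc₀]
    rw [if_neg (fun h => hcon h.1)]
  have hFC𝓗 : ∀ E E' : Subgroup (↥S × ↥S), SD.FC E E' → E ∈ 𝓗 → E' ∈ 𝓗 := by
    intro E E' h hE
    refine ⟨isTw_of_FC F hE.1 h, ?_⟩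
    rw [← SD.card h]; exact hE.2
  have hsub𝓗 : ∀ E ∈ 𝓗, ∀ E' ≤ E, E' ∈ 𝓗 := by
    intro E hE E' hle
    exact ⟨isTw_of_le F hE.1 hle, lt_of_le_of_lt (Subgroup.card_le_of_le hle) hE.2⟩
  -- marks of the seed at the top
  have hmarksTop : ∀ E : Subgroup (↥S × ↥S), IsTw F E → Nat.card E = Nat.card S →
      marks c₀ E = nd (diag S) := by
    intro E hE hcard
    obtain ⟨k, hk⟩ := rep_conj E
    have hrepE : rep E = Marks.cj k⁻¹ E := by
      conv_rhs => rw [hk]
      rw [← Marks.cj_mul, inv_mul_cancel, Marks.cj_one]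
    have hrepTop : IsTopRep F (rep E) := by
      refine ⟨?_, ?_, rep_rep E⟩
      · rw [hrepE]; exact isTw_cj F hE _
      · rw [hrepE, Marks.card_cj, hcard]
    unfold marks
    have hone : ∑ D : Subgroup (↥S × ↥S), c₀ D * fixCount D E = c₀ (rep E) * fixCount (rep E) E := by
      apply Finset.sum_eq_single (rep E)
      · intro D _ hne
        simp only [hc₀]
        by_cases hcond : IsTopRep F D
        · have : fixCount D E = 0 := by
            by_contra hcon
            obtain ⟨k', hk'⟩ := eq_cj_of_fixCount_ne_zero (hcard.trans hcond.2.1.symm) hcon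
            apply hne
            rw [← hcond.2.2, hk', rep_cj]
          rw [this, mul_zero]
        · rw [if_neg hcond, zero_mul]
      · intro h; exact absurd (Finset.mem_univ _) h
    rw [hone]
    simp only [hc₀]
    rw [if_pos hrepTop, one_mul]
    have h8 : fixCount (rep E) E = fixCount (rep E) (Marks.cj k (rep E)) := by rw [← hk]
    rw [h8, fixCount_cj, fixCount_self]
    obtain ⟨α, -, hα⟩ := exists_graph_of_isTw F hrepTop.1 hrepTop.2.1
    rw [hα, nd_graph]
  have hstable : ∀ E E' : Subgroup (↥S × ↥S), SD.FC E E' → E ∉ 𝓗 → marks c₀ E = marks c₀ E' := by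
    intro E E' h hE
    by_cases hEtw : IsTw F E
    · have hEcard : Nat.card E = Nat.card S := by
        have h1 := Nat.le_of_dvd Nat.card_pos (card_dvd_of_isTw F hEtw)
        have h2 : ¬ Nat.card E < Nat.card S := fun h' => hE ⟨hEtw, h'⟩
        omega
      have hE'tw := isTw_of_FC F hEtw h
      have hE'card : Nat.card E' = Nat.card S := by rw [← SD.card h]; exact hEcard
      rw [hmarksTop E hEtw hEcard, hmarksTop E' hE'tw hE'card]
    · have hE'tw : ¬ IsTw F E' := fun h' => hEtw (isTw_of_FC F h' (SD.symm h))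
      rw [marks_eq_zero c₀ {E | IsTw F E} (fun D hD k => isTw_cj F hD k)
          (fun D hD D' hle => isTw_of_le F hD hle) hc₀supp hEtw,
        marks_eq_zero c₀ {E | IsTw F E} (fun D hD k => isTw_cj F hD k)
          (fun D hD D' hle => isTw_of_le F hD hle) hc₀supp hE'tw]
  obtain ⟨c, hc, hcst⟩ := blo_stabilize SD _ 𝓗 rfl hFC𝓗 hsub𝓗 c₀ hstable
  refine ⟨c, ?_, hcst, Nat.card {D : Subgroup (↥S × ↥S) // IsTopRep F D},
    not_dvd_card_topRep p hS F hF, ?_⟩
  · intro D hD
    by_cases hD𝓗 : D ∈ 𝓗
    · exact hD𝓗.1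
    · rw [hc D hD𝓗] at hD
      exact hc₀supp D hD
  · -- the count
    obtain ⟨k, hk⟩ := IsPGroup.iff_card.mp hS
    have hKcard : Nat.card (↥S × ↥S) = Nat.card S * Nat.card S := Nat.card_prod _ _
    have hterm : ∀ D : Subgroup (↥S × ↥S),
        c D * fixCount D ⊥ ≡ c₀ D * Nat.card S [MOD p * Nat.card S] := by
      intro D
      rw [fixCount_bot]
      by_cases hD𝓗 : D ∈ 𝓗
      · have h0 : c₀ D = 0 := by
          simp only [hc₀]
          rw [if_neg]
          intro h
          have := hD𝓗.2
          rw [h.2.1] at this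
          exact lt_irrefl _ this
        rw [h0, zero_mul]
        apply (Nat.modEq_zero_iff_dvd).mpr
        apply Dvd.dvd.mul_left
        -- `p * |S| ∣ index`
        have hdvd := card_dvd_of_isTw F hD𝓗.1
        rw [hk] at hdvd
        obtain ⟨j, hjk, hj⟩ := (Nat.dvd_prime_pow hp).mp hdvd
        have hlt : j < k := by
          have := hD𝓗.2
          rw [hk, hj] at this
          exact (Nat.pow_lt_pow_iff_right hp.one_lt).mp this
        have hidx := Subgroup.index_mul_card D
        rw [hKcard, hk, hj] at hidx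
        have e1 : p ^ k * p ^ k = (p * p ^ k * p ^ (k - j - 1)) * p ^ j := by
          calc p ^ k * p ^ k = p ^ (k + k) := (pow_add p k k).symm
            _ = p ^ (1 + k + (k - j - 1) + j) := by congr 1; omega
            _ = (p * p ^ k * p ^ (k - j - 1)) * p ^ j := by
              rw [pow_add, pow_add, pow_add, pow_one]
        rw [e1] at hidx
        have hidx' : D.index = p * p ^ k * p ^ (k - j - 1) :=
          Nat.eq_of_mul_eq_mul_right (pow_pos hp.pos j) hidx
        rw [hidx', hk]
        exact Dvd.intro _ rfl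
      · rw [hc D hD𝓗]
        simp only [hc₀]
        by_cases hcond : IsTopRep F D
        · rw [if_pos hcond, one_mul, one_mul]
          have hidx := Subgroup.index_mul_card D
          rw [hKcard, hcond.2.1] at hidx
          rw [Nat.eq_of_mul_eq_mul_right Nat.card_pos hidx]
        · rw [if_neg hcond, zero_mul, zero_mul]
    have hsum : marks c ⊥ ≡ ∑ D : Subgroup (↥S × ↥S), c₀ D * Nat.card S [MOD p * Nat.card S] := by
      unfold marks
      exact Nat.ModEq.sum (fun D _ => hterm D)  -- placeholder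
    have hcount : ∑ D : Subgroup (↥S × ↥S), c₀ D * Nat.card S =
        Nat.card {D : Subgroup (↥S × ↥S) // IsTopRep F D} * Nat.card S := by
      rw [← Finset.sum_mul]
      congr 1
      simp only [hc₀]
      rw [Finset.sum_boole, Nat.card_eq_fintype_card, Fintype.card_subtype]
      rfl
    rw [hcount] at hsum
    exact hsum

end Cfsg.Agent.Lib.Helper7.CharBiset
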