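import Mathlib
import Cfsg.Prelude.Def_FusionSystem
import Cfsg.Agent.Lib.Helper7.ParkA

set_option autoImplicit false

universe u

namespace Cfsg.Agent.Lib.Helper7.Park

open Cfsg Cfsg.FusionSystem Cfsg.Agent.Lib.Helper7 Cfsg.Agent.Lib.Helper7.Marks

variable {Ω : Type u} [Group Ω] {S : Subgroup Ω}

section stab

variable (F : FusionSystem S) {P : Subgroup Ω} (hP : P ≤ S) (φ : P →* Ω) (hφS : ∀ x : P, φ x ∈ S)

/-- The inclusion `P × S → S × S`. -/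
def j₀ : ↥P × ↥S →* ↥S × ↥S := MonoidHom.prodMap (Subgroup.inclusion hP) (MonoidHom.id ↥S)

/-- The twisted map `P × S → S × S`. -/
def jφ : ↥P × ↥S →* ↥S × ↥S := MonoidHom.prodMap (φ.codRestrict S hφS) (MonoidHom.id ↥S)

theorem j₀_apply (u : ↥P) (t : ↥S) : j₀ hP (u, t) = (Subgroup.inclusion hP u, t) := rfl

theorem jφ_apply (u : ↥P) (t : ↥S) : jφ φ hφS (u, t) = (⟨φ u, hφS u⟩, t) := rfl

theorem j₀_injective : Function.Injective (j₀ hP) := by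
  rintro ⟨u, t⟩ ⟨u', t'⟩ h
  rw [j₀_apply, j₀_apply] at h
  have h1 := (Prod.mk.inj h).1
  have h2 := (Prod.mk.inj h).2
  rw [Subgroup.inclusion_injective hP h1, h2]

theorem jφ_injective (hinj : Function.Injective φ) : Function.Injective (jφ φ hφS) := by
  rintro ⟨u, t⟩ ⟨u', t'⟩ h
  rw [jφ_apply, jφ_apply] at h
  have h1 := (Prod.mk.inj h).1
  have h2 := (Prod.mk.inj h).2
  have h3 : φ u = φ u' := congrArg Subtype.val h1
  rw [hinj h3, h2]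

theorem isTw_map_jφ_of_j₀ (hφ : φ ∈ F.Hom P) (H' : Subgroup (↥P × ↥S))
    (h : IsTw F (H'.map (j₀ hP))) : IsTw F (H'.map (jφ φ hφS)) := by
  obtain ⟨T, θ, hθ, hiff⟩ := h
  have hTS : T ≤ S := (F.le_of_mem hθ).1
  have hTP : T ≤ P := by
    intro a ha
    have h1 : ((⟨a, hTS ha⟩ : ↥S), (⟨θ ⟨a, ha⟩, (F.le_of_mem hθ).2 _⟩ : ↥S)) ∈ H'.map (j₀ hP) :=
      (hiff _ _).mpr ⟨ha, rfl⟩
    obtain ⟨⟨u, t⟩, -, hut⟩ := h1
    rw [j₀_apply] at hut
    have h2 := (Prod.mk.inj hut).1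
    have h3 : (u : Ω) = a := congrArg Subtype.val h2
    rw [← h3]; exact u.2
  set φT : T →* Ω := φ.comp (Subgroup.inclusion hTP) with hφT
  have hφTmem : φT ∈ F.Hom T := fs_restrict_mem F hTP hφ
  have hinj := F.injective_of_mem hφTmem
  set ι := isoOfRange φT hinj rfl with hι
  have hsymm := fs_iso_symm_mem F hφTmem rfl
  have hθ₂ := F.comp_mem hsymm hθ (fun y => (ι.symm y).2)
  refine ⟨φT.range, _, hθ₂, ?_⟩
  intro a' b
  constructor
  · rintro ⟨⟨u, t⟩, hut, he⟩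
    rw [jφ_apply] at he
    have he1 : φ u = (a' : Ω) := congrArg Subtype.val (Prod.mk.inj he).1
    have he2 : t = b := (Prod.mk.inj he).2
    have h1 : (Subgroup.inclusion hP u, t) ∈ H'.map (j₀ hP) := ⟨(u, t), hut, rfl⟩
    obtain ⟨hu, hθu⟩ := (hiff _ _).mp h1
    have hu' : (u : Ω) ∈ T := hu
    have ha' : (a' : Ω) ∈ φT.range := ⟨⟨u, hu'⟩, he1⟩
    refine ⟨ha', ?_⟩
    have h2 : ι.symm ⟨a', ha'⟩ = ⟨u, hu'⟩ := by
      apply ι.injective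
      rw [MulEquiv.apply_symm_apply]
      apply Subtype.ext
      rw [isoOfRange_coe]
      exact he1.symm
    show θ (⟨((ι.symm ⟨a', ha'⟩ : T) : Ω), _⟩) = (b : Ω)
    rw [← he2, ← hθu]
    congr 1
  · rintro ⟨ha', e⟩
    obtain ⟨u₀, hu₀⟩ := ha'
    have h2 : ι.symm ⟨a', ⟨u₀, hu₀⟩⟩ = u₀ := by
      apply ι.injective
      rw [MulEquiv.apply_symm_apply]
      apply Subtype.ext
      rw [isoOfRange_coe]
      exact hu₀.symm
    have e' : θ (⟨((ι.symm ⟨a', ⟨u₀, hu₀⟩⟩ : T) : Ω), (ι.symm ⟨a', ⟨u₀, hu₀⟩⟩).2⟩) = (b : Ω) := e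
    have e'' : θ u₀ = (b : Ω) := by
      rw [← e']
      congr 1
      rw [h2]
    have h1 : ((⟨u₀, hTS u₀.2⟩ : ↥S), b) ∈ H'.map (j₀ hP) := (hiff _ _).mpr ⟨u₀.2, e''⟩
    obtain ⟨⟨u, t⟩, hut, he⟩ := h1
    rw [j₀_apply] at he
    have he1 : (u : Ω) = u₀ := congrArg Subtype.val (Prod.mk.inj he).1
    have he2 : t = b := (Prod.mk.inj he).2
    refine ⟨(u, t), hut, ?_⟩
    rw [jφ_apply, he2]
    congr 1
    apply Subtype.ext
    show φ u = a'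
    rw [← hu₀]
    show φ u = φ (Subgroup.inclusion hTP u₀)
    congr 1
    apply Subtype.ext
    exact he1

theorem isTw_map_j₀_of_jφ (hφ : φ ∈ F.Hom P) (H' : Subgroup (↥P × ↥S))
    (h : IsTw F (H'.map (jφ φ hφS))) : IsTw F (H'.map (j₀ hP)) := by
  obtain ⟨T', θ', hθ', hiff⟩ := h
  have hinj := F.injective_of_mem hφ
  set T : Subgroup Ω := (T'.comap φ).map P.subtype with hT
  have hTP : T ≤ P := by
    rintro _ ⟨u, -, rfl⟩
    exact u.2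
  have hφT : φ.comp (Subgroup.inclusion hTP) ∈ F.Hom T := fs_restrict_mem F hTP hφ
  have hval : ∀ x : T, (φ.comp (Subgroup.inclusion hTP)) x ∈ T' := by
    rintro ⟨_, u, hu, rfl⟩
    exact hu
  have hθ := F.comp_mem hφT hθ' hval
  refine ⟨T, _, hθ, ?_⟩
  intro a b
  constructor
  · rintro ⟨⟨u, t⟩, hut, he⟩
    rw [j₀_apply] at he
    have he1 : (u : Ω) = a := congrArg Subtype.val (Prod.mk.inj he).1
    have he2 : t = b := (Prod.mk.inj he).2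
    have h1 : ((⟨φ u, hφS u⟩ : ↥S), t) ∈ H'.map (jφ φ hφS) := ⟨(u, t), hut, rfl⟩
    obtain ⟨hu, hθu⟩ := (hiff _ _).mp h1
    have ha : (a : Ω) ∈ T := ⟨u, hu, he1⟩
    refine ⟨ha, ?_⟩
    show θ' ⟨φ (Subgroup.inclusion hTP ⟨a, ha⟩), _⟩ = (b : Ω)
    rw [← he2, ← hθu]
    congr 1
    apply Subtype.ext
    show φ (Subgroup.inclusion hTP ⟨a, ha⟩) = φ u
    congr 1
    apply Subtype.ext
    exact he1.symm
  · rintro ⟨ha, e⟩
    obtain ⟨u, hu, hua⟩ := ha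
    have hu' : φ u ∈ T' := hu
    have e' : θ' ⟨φ (Subgroup.inclusion hTP ⟨a, ⟨u, hu, hua⟩⟩), hval _⟩ = (b : Ω) := e
    have e'' : θ' ⟨φ u, hu'⟩ = (b : Ω) := by
      rw [← e']
      congr 1
      apply Subtype.ext
      show φ u = φ (Subgroup.inclusion hTP ⟨a, ⟨u, hu, hua⟩⟩)
      congr 1
      apply Subtype.ext
      exact hua
    have h1 : ((⟨φ u, hφS u⟩ : ↥S), b) ∈ H'.map (jφ φ hφS) := (hiff _ _).mpr ⟨hu', e''⟩
    obtain ⟨⟨u₁, t₁⟩, hut, he⟩ := h1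
    rw [jφ_apply] at he
    have he1 : φ u₁ = φ u := congrArg Subtype.val (Prod.mk.inj he).1
    have he2 : t₁ = b := (Prod.mk.inj he).2
    have hu₁ : u₁ = u := hinj he1
    refine ⟨(u₁, t₁), hut, ?_⟩
    rw [j₀_apply, he2, hu₁]
    congr 1
    apply Subtype.ext
    exact hua

end stab

end Cfsg.Agent.Lib.Helper7.Park
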