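import Mathlib
import Cfsg.Prelude.Def_FusionSystem
import Cfsg.Agent.Lib.Helper7.CharBisetH
import Cfsg.Agent.Lib.Helper7.ParkA2
import Cfsg.Agent.Lib.Helper7.FusionCore

set_option autoImplicit false

universe u

namespace Cfsg.Agent.Lib.Helper7.CharBiset

open Cfsg Cfsg.FusionSystem Cfsg.Agent.Lib.Helper7 Cfsg.Agent.Lib.Helper7.Marks
  Cfsg.Agent.Lib.Helper7.Park

variable {Ω : Type u} [Group Ω] {S : Subgroup Ω}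

theorem eq_one_of_isTw_right (F : FusionSystem S) {E : Subgroup (↥S × ↥S)} (hE : IsTw F E) {b : ↥S}
    (h : (1, b) ∈ E) : b = 1 := by
  obtain ⟨T, θ, hθ, hiff⟩ := hE
  obtain ⟨ha, e⟩ := (hiff 1 b).mp h
  have h1 : θ ⟨((1 : ↥S) : Ω), ha⟩ = θ 1 := rfl
  rw [h1, map_one] at e
  apply Subtype.ext
  exact e.symm

theorem eq_of_isTw_of_mem_center [Finite S] (F : FusionSystem S) {E : Subgroup (↥S × ↥S)}
    (hE : IsTw F E) {a b : ↥S} (h : (a, b) ∈ E) (ha : (a : Ω) ∈ F.center) : b = a := by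
  obtain ⟨T, θ, hθ, hiff⟩ := hE
  obtain ⟨haT, e⟩ := (hiff a b).mp h
  obtain ⟨ψ, hψ, hext, hfix⟩ := (isCentral_center F).2 T θ hθ
  have h1 := hext ⟨a, haT⟩
  have h2 := hfix ⟨a, ha⟩
  have e' : Subgroup.inclusion (le_sup_left : T ≤ T ⊔ F.center) ⟨a, haT⟩ =
      Subgroup.inclusion le_sup_right (⟨a, ha⟩ : F.center) := Subtype.ext rfl
  rw [e', h2] at h1
  apply Subtype.ext
  rw [← e, ← h1]

/-- The two embeddings of a subgroup of `P × S` are conjugate in the product system. -/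
theorem FC_j₀_jφ (F : FusionSystem S) {P : Subgroup Ω} (hP : P ≤ S) (φ : P →* Ω)
    (hφS : ∀ x : P, φ x ∈ S) (hφ : φ ∈ F.Hom P) (H' : Subgroup (↥P × ↥S)) :
    FC F (H'.map (j₀ hP)) (H'.map (jφ φ hφS)) := by
  unfold FC
  have hQ₁P : ((H'.map (j₀ hP)).map (eps S)).map (MonoidHom.fst Ω Ω) ≤ P := by
    rintro _ ⟨_, ⟨_, ⟨⟨u, t⟩, -, rfl⟩, rfl⟩, rfl⟩
    exact u.2
  have hQ₂S : ((H'.map (j₀ hP)).map (eps S)).map (MonoidHom.snd Ω Ω) ≤ S := by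
    rintro _ ⟨_, ⟨_, ⟨⟨u, t⟩, -, rfl⟩, rfl⟩, rfl⟩
    exact t.2
  have hφ₁ : φ.comp (Subgroup.inclusion hQ₁P) ∈ F.Hom _ := fs_restrict_mem F hQ₁P hφ
  have hφ₂ := fs_subtype_mem F hQ₂S
  refine ⟨MonoidHom.prod ((φ.comp (Subgroup.inclusion hQ₁P)).comp
      ((MonoidHom.fst Ω Ω).subgroupMap ((H'.map (j₀ hP)).map (eps S))))
      ((MonoidHom.snd Ω Ω).comp ((H'.map (j₀ hP)).map (eps S)).subtype),
    ⟨map_eps_le _, _, hφ₁, _, hφ₂, fun x h₁ h₂ => rfl⟩, ?_⟩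
  ext y
  constructor
  · rintro ⟨⟨_, ⟨_, ⟨⟨u, t⟩, hut, rfl⟩, rfl⟩⟩, rfl⟩
    exact ⟨jφ φ hφS (u, t), ⟨(u, t), hut, rfl⟩, rfl⟩
  · rintro ⟨_, ⟨⟨u, t⟩, hut, rfl⟩, rfl⟩
    exact ⟨⟨eps S (j₀ hP (u, t)), ⟨_, ⟨(u, t), hut, rfl⟩, rfl⟩⟩, rfl⟩

end Cfsg.Agent.Lib.Helper7.CharBiset
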