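import Mathlib
import Cfsg.Agent.Lib.Helper7.MarksB

set_option autoImplicit false

universe u v w

namespace Cfsg.Agent.Lib.Helper7.Marks

open MulAction

/-- A `K`-set viewed as a `K'`-set through a homomorphism. -/
def ViaHom {K : Type v} {K' : Type w} [Group K] [Group K'] (X : Type u) [MulAction K X]
    (_j : K' →* K) : Type u := X

instance {K : Type v} {K' : Type w} [Group K] [Group K'] (X : Type u) [MulAction K X]
    (j : K' →* K) : MulAction K' (ViaHom X j) := MulAction.compHom X j

instance {K : Type v} {K' : Type w} [Group K] [Group K'] (X : Type u) [MulAction K X] [Finite X]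
    (j : K' →* K) : Finite (ViaHom X j) := inferInstanceAs (Finite X)

theorem exists_equiv_of_homs {K : Type v} {K' : Type w} [Group K] [Group K'] [Finite K']
    (X : Type u) [MulAction K X] [Finite X] (j j' : K' →* K)
    (h : ∀ H' : Subgroup K', Nat.card (fixedPoints (H'.map j) X) = Nat.card (fixedPoints (H'.map j') X)) :
    ∃ e : X ≃ X, ∀ (k' : K') (x : X), e (j k' • x) = j' k' • e x := by
  have key : ∀ (i : K' →* K) (H' : Subgroup K'),
      Nat.card (fixedPoints H' (ViaHom X i)) = Nat.card (fixedPoints (H'.map i) X) := by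
    intro i H'
    refine Nat.card_congr ⟨fun x => ⟨x.1, ?_⟩, fun x => ⟨x.1, ?_⟩, fun x => rfl, fun x => rfl⟩
    · rintro ⟨_, k', hk', rfl⟩
      exact x.2 ⟨k', hk'⟩
    · intro k'
      exact x.2 ⟨i k', k', k'.2, rfl⟩
  obtain ⟨e, he⟩ := exists_equivariant_equiv (K' := K') (Nat.card X) (ViaHom X j) (ViaHom X j') rfl
    (fun H' => by rw [key, key, h])
  exact ⟨e, he⟩

end Cfsg.Agent.Lib.Helper7.Marks
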