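import Mathlib
import Cfsg.Agent.Lib.Helper7.MarksC

set_option autoImplicit false

universe u

namespace Cfsg.Agent.Lib.Helper7.Marks

open MulAction

variable {K : Type u} [Group K]

/-- The `K`-set `⨆ c D • K ⧸ D`. -/
def XSet (c : Subgroup K → ℕ) : Type u := Σ D : Subgroup K, Fin (c D) × (K ⧸ D)

/-- Constructor. -/
def XSet.mk {c : Subgroup K → ℕ} (D : Subgroup K) (i : Fin (c D)) (q : K ⧸ D) : XSet c := ⟨D, i, q⟩

instance (c : Subgroup K → ℕ) : MulAction K (XSet c) where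
  smul k x := ⟨x.1, x.2.1, k • x.2.2⟩
  one_smul x := by
    obtain ⟨D, i, q⟩ := x
    show (⟨D, i, (1 : K) • q⟩ : XSet c) = ⟨D, i, q⟩
    rw [one_smul]
  mul_smul a b x := by
    obtain ⟨D, i, q⟩ := x
    show (⟨D, i, (a * b) • q⟩ : XSet c) = ⟨D, i, a • b • q⟩
    rw [mul_smul]

theorem XSet_smul_def (c : Subgroup K → ℕ) (k : K) (x : XSet c) :
    k • x = ⟨x.1, x.2.1, k • x.2.2⟩ := rfl

instance [Finite K] (c : Subgroup K → ℕ) : Finite (XSet c) := by
  unfold XSet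
  have : Finite (Subgroup K) := inferInstance
  infer_instance

theorem XSet_smul_eq_iff (c : Subgroup K → ℕ) (k : K) (x : XSet c) :
    k • x = x ↔ k • x.2.2 = x.2.2 := by
  obtain ⟨D, i, q⟩ := x
  constructor
  · intro h
    have h1 : (⟨D, i, k • q⟩ : XSet c) = ⟨D, i, q⟩ := h
    have h2 := eq_of_heq (Sigma.mk.inj h1).2
    exact (Prod.mk.inj h2).2
  · intro h
    show (⟨D, i, k • q⟩ : XSet c) = ⟨D, i, q⟩
    have h' : k • q = q := h
    rw [h']

theorem card_fixedPoints_XSet [Finite K] [Fintype (Subgroup K)] (c : Subgroup K → ℕ) (E : Subgroup K) :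
    Nat.card (fixedPoints E (XSet c)) = marks c E := by
  classical
  unfold marks fixCount
  have e : fixedPoints E (XSet c) ≃ Σ D : Subgroup K, Fin (c D) × fixedPoints E (K ⧸ D) :=
    { toFun := fun x => ⟨x.1.1, x.1.2.1, ⟨x.1.2.2, fun e => (XSet_smul_eq_iff c (e : K) x.1).mp (x.2 e)⟩⟩
      invFun := fun y => ⟨⟨y.1, y.2.1, y.2.2.1⟩, fun e =>
        (XSet_smul_eq_iff c (e : K) ⟨y.1, y.2.1, y.2.2.1⟩).mpr (y.2.2.2 e)⟩
      left_inv := fun x => by
        obtain ⟨⟨D, i, q⟩, hx⟩ := x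
        rfl
      right_inv := fun y => by
        obtain ⟨D, i, q, hq⟩ := y
        rfl }
  rw [Nat.card_congr e, Nat.card_sigma]
  apply Finset.sum_congr rfl
  intro D _
  rw [Nat.card_prod, Nat.card_fin]

theorem stabilizer_XSet (c : Subgroup K → ℕ) (D : Subgroup K) (i : Fin (c D)) (k : K) :
    stabilizer K (XSet.mk D i (k : K ⧸ D) : XSet c) = cj k D := by
  ext x
  rw [mem_stabilizer_iff, mem_cj]
  have h1 := XSet_smul_eq_iff c x (XSet.mk D i (k : K ⧸ D) : XSet c)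
  rw [h1]
  show ((x * k : K) : K ⧸ D) = (k : K ⧸ D) ↔ _
  rw [QuotientGroup.eq]
  have e3 : (x * k)⁻¹ * k = (k⁻¹ * x * k)⁻¹ := by group
  rw [e3, inv_mem_iff]

theorem exists_stabilizer_XSet (c : Subgroup K → ℕ) (x : XSet c) :
    ∃ (D : Subgroup K) (k : K), c D ≠ 0 ∧ stabilizer K x = cj k D := by
  obtain ⟨D, i, q⟩ := x
  induction q using Quotient.inductionOn' with
  | h k =>
    refine ⟨D, k, ?_, stabilizer_XSet c D i k⟩
    intro h
    rw [h] at i
    exact i.elim0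

end Cfsg.Agent.Lib.Helper7.Marks
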