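import Mathlib
import Cfsg.Prelude.Def_FusionSystem
import Cfsg.Agent.Lib.Helper7.CharBisetI
import Cfsg.Agent.Lib.Helper7.BisetTransfer2
import Cfsg.Agent.Lib.Helper7.MarksB2
import Cfsg.Agent.Lib.Helper7.MarksD
import Cfsg.Agent.Lib.Helper7.FusionFocal

set_option autoImplicit false

universe u

namespace Cfsg.Agent.Lib.Helper7.CharBiset

open Cfsg Cfsg.FusionSystem Cfsg.Agent.Lib.Helper7 Cfsg.Agent.Lib.Helper7.Marks
  Cfsg.Agent.Lib.Helper7.Park Cfsg.Agent.Lib.Helper7.BisetTransfer MulAction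

variable {Ω : Type u} [Group Ω] {S : Subgroup Ω}

theorem focal_inf_center_le [Finite S] (p : ℕ) [Fact p.Prime] (hS : IsPGroup p S)
    (F : FusionSystem S) (hF : F.IsSaturated p) :
    F.focalSubgroup ⊓ F.center ≤ ⁅(S : Subgroup Ω), (S : Subgroup Ω)⁆ := by
  classical
  have hp : p.Prime := Fact.out
  let _ : Fintype (Subgroup (↥S × ↥S)) := Fintype.ofFinite _
  obtain ⟨c, hc, hFC, m, hpm, hmod⟩ := exists_charBiset p hS F hF
  have hstab : ∀ x : XSet c, IsTw F (stabilizer (↥S × ↥S) x) := by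
    intro x
    obtain ⟨D, k, hcD, hst⟩ := exists_stabilizer_XSet c x
    rw [hst]
    exact isTw_cj F (hc D hcD) k
  -- the right action
  let ρ : ↥S →* Equiv.Perm (XSet c) :=
    (MulAction.toPermHom (↥S × ↥S) (XSet c)).comp (MonoidHom.inr ↥S ↥S)
  have hρ : ∀ (t : ↥S) (x : XSet c), ρ t x = ((1, t) : ↥S × ↥S) • x := fun t x => rfl
  have hfree : ∀ (b : ↥S) (x : XSet c), ρ b x = x → b = 1 := by
    intro b x h
    exact eq_one_of_isTw_right F (hstab x) (mem_stabilizer_iff.mpr h)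
  have hGmem : ∀ g : Equiv.Perm (XSet c), g ∈ Gr ρ ↔ ∀ (t : ↥S) (x : XSet c),
      g (((1, t) : ↥S × ↥S) • x) = ((1, t) : ↥S × ↥S) • g x := by
    intro g
    constructor
    · intro hg t x
      exact comm_of_mem ρ hg t x
    · rintro hg _ ⟨t, rfl⟩
      ext x
      exact (hg t x).symm
  let ι₀ : ↥S →* Equiv.Perm (XSet c) :=
    (MulAction.toPermHom (↥S × ↥S) (XSet c)).comp (MonoidHom.inl ↥S ↥S)
  have hι₀ : ∀ (s : ↥S) (x : XSet c), ι₀ s x = ((s, 1) : ↥S × ↥S) • x := fun s x => rfl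
  have hι₀G : ∀ s : ↥S, ι₀ s ∈ Gr ρ := by
    intro s
    rw [hGmem]
    intro t x
    rw [hι₀, hι₀, smul_smul, smul_smul]
    congr 1
    show ((s * 1, 1 * t) : ↥S × ↥S) = (1 * s, t * 1)
    simp
  let ι : ↥S →* Gr ρ := ι₀.codRestrict (Gr ρ) hι₀G
  have hι : ∀ (s : ↥S) (x : XSet c), ((ι s : Gr ρ) : Equiv.Perm (XSet c)) x = ((s, 1) : ↥S × ↥S) • x :=
    fun s x => rfl
  -- stability
  have hconjG : ∀ (P : Subgroup Ω) (hP : P ≤ S) (φ : P →* Ω) (hφS : ∀ x : P, φ x ∈ S), φ ∈ F.Hom P →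
      ∃ g : Gr ρ, ∀ u : P, ι ⟨φ u, hφS u⟩ = g * ι ⟨u, hP u.2⟩ * g⁻¹ := by
    intro P hP φ hφS hφ
    have : Finite ↥P := Finite.of_injective (Subgroup.inclusion hP) (Subgroup.inclusion_injective hP)
    have hfix : ∀ H' : Subgroup (↥P × ↥S),
        Nat.card (fixedPoints (H'.map (j₀ hP)) (XSet c)) =
        Nat.card (fixedPoints (H'.map (jφ φ hφS)) (XSet c)) := by
      intro H'
      rw [card_fixedPoints_XSet, card_fixedPoints_XSet]
      exact hFC _ _ (FC_j₀_jφ F hP φ hφS hφ H')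
    obtain ⟨e, he⟩ := exists_equiv_of_homs (XSet c) (j₀ hP) (jφ φ hφS) hfix
    have he' : ∀ (k' : ↥P × ↥S) (x : XSet c), e (j₀ hP k' • x) = jφ φ hφS k' • e x := he
    have heG : e ∈ Gr ρ := by
      rw [hGmem]
      intro t x
      have := he' (1, t) x
      rw [j₀_apply, jφ_apply] at this
      have e1 : Subgroup.inclusion hP (1 : ↥P) = 1 := map_one _
      have e2 : (⟨φ (1 : ↥P), hφS 1⟩ : ↥S) = 1 := Subtype.ext (map_one φ)
      rw [e1, e2] at this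
      exact this
    refine ⟨⟨e, heG⟩, fun u => ?_⟩
    rw [eq_mul_inv_iff_mul_eq]
    apply Subtype.ext
    ext x
    show ((ι ⟨φ u, hφS u⟩ : Gr ρ) : Equiv.Perm (XSet c)) (e x) = e (((ι ⟨u, hP u.2⟩ : Gr ρ) : Equiv.Perm (XSet c)) x)
    rw [hι, hι]
    have := he' (u, 1) x
    rw [j₀_apply, jφ_apply] at this
    exact this.symm
  have : Finite (R ρ) := inferInstance
  let _ : Fintype (R ρ) := Fintype.ofFinite _
  -- the element
  intro z hz
  obtain ⟨hzfoc, hzcen⟩ := hz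
  have hcenS : F.center ≤ S := (isCentral_center F).1
  have hzS : z ∈ S := hcenS hzcen
  -- (*) for `ι z`
  have hL : ∀ (j : ℤ) (x : XSet c) (b : ↥S),
      (((ι ⟨z, hzS⟩) ^ j : Gr ρ) : Equiv.Perm (XSet c)) x = ρ b x → b = (⟨z, hzS⟩ : ↥S) ^ (-j) := by
    intro j x b h
    rw [← map_zpow, hι, hρ] at h
    have h1 : (((⟨z, hzS⟩ : ↥S) ^ j, b⁻¹) : ↥S × ↥S) ∈ stabilizer (↥S × ↥S) x := by
      rw [mem_stabilizer_iff]
      have e1 : (((⟨z, hzS⟩ : ↥S) ^ j, b⁻¹) : ↥S × ↥S) =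
          ((1 : ↥S), b)⁻¹ * ((⟨z, hzS⟩ : ↥S) ^ j, (1 : ↥S)) := by
        show _ = ((1 : ↥S)⁻¹ * (⟨z, hzS⟩ : ↥S) ^ j, b⁻¹ * 1)
        rw [inv_one, one_mul, mul_one]
      rw [e1, mul_smul, h, inv_smul_smul]
    have h2 : (((⟨z, hzS⟩ : ↥S) ^ j : ↥S) : Ω) ∈ F.center := by
      rw [Subgroup.coe_zpow]
      exact F.center.zpow_mem hzcen j
    have h3 := eq_of_isTw_of_mem_center F (hstab x) h1 h2
    rw [zpow_neg, ← h3, inv_inv]
  -- the determinant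
  let D : Gr ρ →* Abelianization ↥S :=
    Dhom ρ hfree (secz ρ (ι ⟨z, hzS⟩)) (secz_spec ρ (ι ⟨z, hzS⟩))
  have hDz : D (ι ⟨z, hzS⟩) = (Abelianization.of (⟨z, hzS⟩ : ↥S)) ^ (-(Fintype.card (R ρ) : ℤ)) :=
    Dfun_central ρ (ι ⟨z, hzS⟩) ⟨z, hzS⟩ hL
  -- the focal subgroup dies
  have hker : F.focalSubgroup ≤ ((D.comp ι).ker).map S.subtype := by
    unfold focalSubgroup
    rw [Subgroup.closure_le]
    rintro _ ⟨P, φ, x, hφ, rfl⟩
    have hP : P ≤ S := (F.le_of_mem hφ).1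
    have hφS : ∀ x : P, φ x ∈ S := (F.le_of_mem hφ).2
    obtain ⟨g, hg⟩ := hconjG P hP φ hφS hφ
    refine ⟨(⟨x, hP x.2⟩ : ↥S)⁻¹ * ⟨φ x, hφS x⟩, ?_, rfl⟩
    rw [SetLike.mem_coe, MonoidHom.mem_ker, map_mul, map_inv, inv_mul_eq_one]
    show D (ι ⟨x, hP x.2⟩) = D (ι ⟨φ x, hφS x⟩)
    rw [hg x, map_mul, map_mul, map_inv, mul_comm, inv_mul_cancel_left]
  obtain ⟨z', hz'ker, hz'⟩ := hker hzfoc
  have hz'eq : z' = ⟨z, hzS⟩ := Subtype.ext hz'
  rw [hz'eq, SetLike.mem_coe, MonoidHom.mem_ker, MonoidHom.comp_apply, hDz, zpow_neg, inv_eq_one, zpow_natCast,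
    ← map_pow] at hz'ker
  -- `z ^ n` lies in the commutator subgroup of `S`
  have hcomm : (⟨z, hzS⟩ : ↥S) ^ (Fintype.card (R ρ)) ∈ commutator ↥S := by
    rw [← Abelianization.ker_of (G := ↥S)]
    exact hz'ker
  -- coprimality
  have hcardX : Nat.card (XSet c) = Nat.card (R ρ) * Nat.card ↥S := card_eq ρ hfree
  have hmarks : marks c ⊥ = Nat.card (XSet c) := by
    rw [← card_fixedPoints_XSet c ⊥, card_fixedPoints_bot]
  have hn : ¬ p ∣ Fintype.card (R ρ) := by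
    intro hdvd
    rw [hmarks, hcardX, Nat.card_eq_fintype_card (α := R ρ)] at hmod
    have hSpos : 0 < Nat.card ↥S := Nat.card_pos
    have h1 : (p * Nat.card ↥S) ∣ Fintype.card (R ρ) * Nat.card ↥S := Nat.mul_dvd_mul_right hdvd _
    have h2 : (p * Nat.card ↥S) ∣ m * Nat.card ↥S := (Nat.modEq_zero_iff_dvd.mp
      (hmod.symm.trans (Nat.modEq_zero_iff_dvd.mpr h1)))
    exact hpm (Nat.dvd_of_mul_dvd_mul_right hSpos h2)
  -- conclude
  obtain ⟨k, hk⟩ := IsPGroup.iff_card.mp hS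
  have hcop : Nat.Coprime (Fintype.card (R ρ)) (Nat.card ↥S) := by
    rw [hk]
    exact Nat.Coprime.pow_right _ ((Nat.Prime.coprime_iff_not_dvd hp).mpr hn).symm
  have hzc : (⟨z, hzS⟩ : ↥S) ∈ commutator ↥S := by
    have hord : (⟨z, hzS⟩ : ↥S) ^ (Nat.card ↥S) = 1 := pow_card_eq_one'
    obtain ⟨a, b, hab⟩ : ∃ a b : ℤ, (Fintype.card (R ρ) : ℤ) * a + (Nat.card ↥S : ℤ) * b = 1 := by
      have := Int.gcd_eq_gcd_ab (Fintype.card (R ρ)) (Nat.card ↥S)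
      rw [Int.gcd_natCast_natCast, hcop] at this
      exact ⟨_, _, this.symm⟩
    have e1 : (⟨z, hzS⟩ : ↥S) = ((⟨z, hzS⟩ : ↥S) ^ (Fintype.card (R ρ))) ^ a := by
      conv_lhs => rw [← zpow_one (⟨z, hzS⟩ : ↥S), ← hab, zpow_add, zpow_mul, zpow_mul, zpow_natCast,
        zpow_natCast, hord, one_zpow, mul_one]
    rw [e1]
    exact (commutator ↥S).zpow_mem hcomm a
  have hfin : z ∈ (commutator ↥S).map S.subtype := ⟨⟨z, hzS⟩, hzc, rfl⟩
  rw [commutator_def, Subgroup.map_commutator, ← MonoidHom.range_eq_map, Subgroup.range_subtype] at hfin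
  exact hfin

end Cfsg.Agent.Lib.Helper7.CharBiset
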