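import Mathlib
import Cfsg.Prelude.Def_FusionSystem
import Cfsg.Agent.Lib.Helper7.FusionFocal

set_option autoImplicit false

namespace Cfsg.Agent.Lib.Helper7

open Cfsg Cfsg.FusionSystem

theorem pResidual_map_le_of_injective {A B : Type*} [Group A] [Group B] (p : ℕ) (f : A →* B)
    (hf : Function.Injective f) : (pResidual p A).map f ≤ pResidual p B := by
  unfold pResidual
  rw [MonoidHom.map_closure, Subgroup.closure_le]
  rintro _ ⟨a, ha, rfl⟩
  apply Subgroup.subset_closure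
  show Nat.Coprime (orderOf (f a)) p
  rw [orderOf_injective f hf a]
  exact ha

variable {Ω : Type*} [Group Ω] {S : Subgroup Ω}

/-- The subsystem of the maps `φ` with `φ(P ∩ H) = φ(P) ∩ H`, for `H` normalized by `S`. -/
def closedSystem (F : FusionSystem S) (H : Subgroup Ω) (hH : ∀ s ∈ S, ∀ y ∈ H, s * y * s⁻¹ ∈ H) :
    FusionSystem S where
  Hom P := {φ | φ ∈ F.Hom P ∧ ∀ x : P, (x : Ω) ∈ H ↔ φ x ∈ H}
  le_of_mem h := F.le_of_mem h.1
  injective_of_mem h := F.injective_of_mem h.1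
  conj_mem := by
    intro P g hP hg
    refine ⟨F.conj_mem hP hg, fun x => ⟨fun hx => hH g hg _ hx, fun hx => ?_⟩⟩
    have := hH g⁻¹ (S.inv_mem hg) _ hx
    have e : g⁻¹ * conjHom P g x * g⁻¹⁻¹ = (x : Ω) := by
      show g⁻¹ * (g * x * g⁻¹) * g⁻¹⁻¹ = _
      group
    rwa [e] at this
  comp_mem := by
    rintro P Q φ ψ ⟨hφ, hφH⟩ ⟨hψ, hψH⟩ h
    exact ⟨F.comp_mem hφ hψ h, fun x => (hφH x).trans (hψH (φ.codRestrict Q h x))⟩
  inv_mem := by
    rintro P φ ⟨hφ, hφH⟩
    obtain ⟨ψ, hψ, hinv⟩ := F.inv_mem hφ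
    refine ⟨ψ, ⟨hψ, ?_⟩, hinv⟩
    rintro ⟨_, x, rfl⟩
    show φ x ∈ H ↔ ψ ⟨φ x, _⟩ ∈ H
    rw [hinv x]
    exact (hφH x).symm

theorem hyperfocalSubgroup_le (F : FusionSystem S) (p : ℕ) : F.hyperfocalSubgroup p ≤ S := by
  unfold FusionSystem.hyperfocalSubgroup
  rw [Subgroup.closure_le]
  rintro _ ⟨P, α, x, hPS, -, rfl⟩
  exact S.mul_mem (S.inv_mem (hPS x.2)) (hPS ((α : MulAut P) x).2)

/-- The hyperfocal subgroup is normalized by `S`. -/
theorem hyperfocalSubgroup_conj_mem (F : FusionSystem S) (p : ℕ) :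
    ∀ s ∈ S, ∀ y ∈ F.hyperfocalSubgroup p, s * y * s⁻¹ ∈ F.hyperfocalSubgroup p := by
  intro s hs y hy
  unfold FusionSystem.hyperfocalSubgroup at hy ⊢
  induction hy using Subgroup.closure_induction with
  | one => simp
  | mul a b _ _ ha hb =>
    have : s * (a * b) * s⁻¹ = (s * a * s⁻¹) * (s * b * s⁻¹) := by group
    rw [this]; exact Subgroup.mul_mem _ ha hb
  | inv a _ ha =>
    have : s * a⁻¹ * s⁻¹ = (s * a * s⁻¹)⁻¹ := by group
    rw [this]; exact Subgroup.inv_mem _ ha
  | mem y hy =>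
    obtain ⟨P, α, x, hPS, hα, rfl⟩ := hy
    apply Subgroup.subset_closure
    have hc := F.conj_mem hPS hs
    set e := isoOfRange (conjHom P s) (F.injective_of_mem hc) rfl with he
    have hP'S : (conjHom P s).range ≤ S := by
      rintro _ ⟨z, rfl⟩; exact (F.le_of_mem hc).2 z
    let f : F.autGroup P →* F.autGroup (conjHom P s).range :=
      ((MulAut.congr e).toMonoidHom.comp (F.autGroup P).subtype).codRestrict _
        (fun β => autGroup_congr F hc rfl β.2)
    have hf : Function.Injective f := by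
      intro a b hab
      have h1 : MulAut.congr e (a : MulAut P) = MulAut.congr e (b : MulAut P) :=
        congrArg Subtype.val hab
      exact Subtype.ext ((MulAut.congr e).injective h1)
    have hfα : f α ∈ pResidual p (F.autGroup (conjHom P s).range) :=
      pResidual_map_le_of_injective p f hf ⟨α, hα, rfl⟩
    refine ⟨(conjHom P s).range, f α, e x, hP'S, hfα, ?_⟩
    show s * ((x : Ω)⁻¹ * (((α : MulAut P) x : P) : Ω)) * s⁻¹ =
      ((e x : (conjHom P s).range) : Ω)⁻¹ * ((e ((α : MulAut P) (e.symm (e x))) : (conjHom P s).range) : Ω)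
    rw [MulEquiv.symm_apply_apply, isoOfRange_coe, isoOfRange_coe]
    show _ = (s * (x : Ω) * s⁻¹)⁻¹ * (s * (((α : MulAut P) x : P) : Ω) * s⁻¹)
    group

theorem hyperfocalSubgroup_stronglyClosed [Finite S] (p : ℕ) [Fact p.Prime] (hS : IsPGroup p S)
    (F : FusionSystem S) (hF : F.IsSaturated p) : F.StronglyClosed (F.hyperfocalSubgroup p) := by
  have hnorm := hyperfocalSubgroup_conj_mem F p
  have hle : F ≤ closedSystem F (F.hyperfocalSubgroup p) hnorm := by
    apply alperin_goldschmidt p hS F hF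
    intro P hP
    have hFA : F.IsFullyAutomized p P := by
      rcases hP with rfl | hess
      · exact isFullyAutomized_top_of_isSaturated p hS F hF
      · obtain ⟨R, hcR, hFAR, hRecR⟩ := hF P hess.1.1
        exact (isFullyAutomized_isReceptive_of_isFullyNormalized p hS F hess.2.1 hFAR hRecR hcR).1
    obtain ⟨hPS, T, hT⟩ := hFA
    haveI := finite_of_le hPS
    haveI : Finite (MulAut ↥P) := inferInstance
    have hfwd : ∀ α ∈ F.autGroup P, ∀ y : P, (y : Ω) ∈ F.hyperfocalSubgroup p →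
        ((α y : P) : Ω) ∈ F.hyperfocalSubgroup p := by
      intro α hα y hy
      obtain ⟨r, hr, m, hm, hrm⟩ := Cfsg.Agent.Lib.Lead.PResidual.exists_mul (p := p)
        (T : Subgroup (F.autGroup P)) T.not_dvd_index ⟨α, hα⟩
      rw [hT] at hr
      obtain ⟨s, hsS, hs⟩ := (mem_autInducedBy_iff S P _).mp (Subgroup.mem_subgroupOf.mp hr)
      have hα' : α = (r : MulAut P) * (m : MulAut P) := congrArg Subtype.val hrm
      rw [hα', MulAut.mul_apply, hs]
      apply hnorm s hsS
      have hgen : (y : Ω)⁻¹ * (((m : MulAut P) y : P) : Ω) ∈ F.hyperfocalSubgroup p :=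
        Subgroup.subset_closure ⟨P, m, y, hPS, hm, rfl⟩
      have := Subgroup.mul_mem _ hy hgen
      simpa using this
    intro α hα
    apply (mem_autGroup_iff _ hPS α).mpr
    refine ⟨(mem_autGroup_iff F hPS α).mp hα, fun y => ⟨hfwd α hα y, fun h => ?_⟩⟩
    have := hfwd α⁻¹ (Subgroup.inv_mem _ hα) (α y) h
    rwa [MulAut.inv_apply_self] at this
  refine ⟨hyperfocalSubgroup_le F p, fun R hR φ hφ x => ?_⟩
  exact ((hle R hφ).2 x).mp (hR x.2)

end Cfsg.Agent.Lib.Helper7
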