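import Mathlib
import Cfsg.Prelude.Def_FusionSystem
import Cfsg.Agent.Lib.Helper7.FusionHyperfocal

/-!
# Tate's theorem for fusion systems, part A: every map is a conjugation modulo the hyperfocal subgroup
-/

set_option autoImplicit false

namespace Cfsg.Agent.Lib.Helper7.TateFus

open Cfsg Cfsg.FusionSystem Cfsg.Agent.Lib.Helper7

variable {Ω : Type*} [Group Ω] {S : Subgroup Ω}

/-- The subsystem of the maps `φ` that are conjugations by elements of `S` modulo `H`, for `H` normalized by `S`. -/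
def congSystem (F : FusionSystem S) (H : Subgroup Ω) (hH : ∀ s ∈ S, ∀ y ∈ H, s * y * s⁻¹ ∈ H) :
    FusionSystem S where
  Hom P := {φ | φ ∈ F.Hom P ∧ ∃ s ∈ S, ∀ x : P, (s * (x : Ω) * s⁻¹)⁻¹ * φ x ∈ H}
  le_of_mem h := F.le_of_mem h.1
  injective_of_mem h := F.injective_of_mem h.1
  conj_mem := by
    intro P g hP hg
    refine ⟨F.conj_mem hP hg, g, hg, fun x => ?_⟩
    show (g * (x : Ω) * g⁻¹)⁻¹ * (g * (x : Ω) * g⁻¹) ∈ H
    rw [inv_mul_cancel]; exact H.one_mem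
  comp_mem := by
    rintro P Q φ ψ ⟨hφ, s, hs, hφs⟩ ⟨hψ, s', hs', hψs⟩ h
    refine ⟨F.comp_mem hφ hψ h, s' * s, S.mul_mem hs' hs, fun x => ?_⟩
    have h1 := hH s' hs' _ (hφs x)
    have h2 := hψs (φ.codRestrict Q h x)
    have h3 := H.mul_mem h1 h2
    have e : (s' * s * (x : Ω) * (s' * s)⁻¹)⁻¹ * (ψ.comp (φ.codRestrict Q h)) x =
        s' * ((s * (x : Ω) * s⁻¹)⁻¹ * φ x) * s'⁻¹ *
          ((s' * ((φ.codRestrict Q h x : Q) : Ω) * s'⁻¹)⁻¹ * ψ (φ.codRestrict Q h x)) := by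
      show _ = s' * ((s * (x : Ω) * s⁻¹)⁻¹ * φ x) * s'⁻¹ *
          ((s' * φ x * s'⁻¹)⁻¹ * ψ (φ.codRestrict Q h x))
      rw [MonoidHom.comp_apply]
      group
    rw [e]; exact h3
  inv_mem := by
    rintro P φ ⟨hφ, s, hs, hφs⟩
    obtain ⟨ψ, hψ, hinv⟩ := F.inv_mem hφ
    refine ⟨ψ, ⟨hψ, s⁻¹, S.inv_mem hs, ?_⟩, hinv⟩
    rintro ⟨_, x, rfl⟩
    show (s⁻¹ * φ x * s⁻¹⁻¹)⁻¹ * ψ ⟨φ x, _⟩ ∈ H
    rw [hinv x]
    have h1 := hH s⁻¹ (S.inv_mem hs) _ (H.inv_mem (hφs x))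
    have e : (s⁻¹ * φ x * s⁻¹⁻¹)⁻¹ * (x : Ω) = s⁻¹ * ((s * (x : Ω) * s⁻¹)⁻¹ * φ x)⁻¹ * s⁻¹⁻¹ := by
      group
    rw [e]; exact h1

/-- **Every map of a saturated fusion system is a conjugation modulo the hyperfocal subgroup.** -/
theorem exists_conj_mod_hyperfocal [Finite S] (p : ℕ) [Fact p.Prime] (hS : IsPGroup p S)
    (F : FusionSystem S) (hF : F.IsSaturated p) {P : Subgroup Ω} {φ : P →* Ω} (hφ : φ ∈ F.Hom P) :
    ∃ s ∈ S, ∀ x : P, (s * (x : Ω) * s⁻¹)⁻¹ * φ x ∈ F.hyperfocalSubgroup p := by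
  have hnorm := hyperfocalSubgroup_conj_mem F p
  have hle : F ≤ congSystem F (F.hyperfocalSubgroup p) hnorm := by
    apply alperin_goldschmidt p hS F hF
    intro P hP
    have hFA : F.IsFullyAutomized p P := by
      rcases hP with rfl | hess
      · exact isFullyAutomized_top_of_isSaturated p hS F hF
      · obtain ⟨R, hcR, hFAR, hRecR⟩ := hF P hess.1.1
        exact (isFullyAutomized_isReceptive_of_isFullyNormalized p hS F hess.2.1 hFAR hRecR hcR).1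
    obtain ⟨hPS, T, hT⟩ := hFA
    have := finite_of_le hPS
    have : Finite (MulAut ↥P) := inferInstance
    intro α hα
    apply (mem_autGroup_iff _ hPS α).mpr
    refine ⟨(mem_autGroup_iff F hPS α).mp hα, ?_⟩
    obtain ⟨r, hr, m, hm, hrm⟩ := Cfsg.Agent.Lib.Lead.PResidual.exists_mul (p := p)
      (T : Subgroup (F.autGroup P)) T.not_dvd_index ⟨α, hα⟩
    rw [hT] at hr
    obtain ⟨s, hsS, hs⟩ := (mem_autInducedBy_iff S P _).mp (Subgroup.mem_subgroupOf.mp hr)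
    have hα' : α = (r : MulAut P) * (m : MulAut P) := congrArg Subtype.val hrm
    refine ⟨s, hsS, fun y => ?_⟩
    show (s * (y : Ω) * s⁻¹)⁻¹ * ((α y : P) : Ω) ∈ _
    rw [hα', MulAut.mul_apply, hs]
    have hgen : (y : Ω)⁻¹ * (((m : MulAut P) y : P) : Ω) ∈ F.hyperfocalSubgroup p :=
      Subgroup.subset_closure ⟨P, m, y, hPS, hm, rfl⟩
    have := hnorm s hsS _ hgen
    have e : (s * (y : Ω) * s⁻¹)⁻¹ * (s * (((m : MulAut P) y : P) : Ω) * s⁻¹) =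
        s * ((y : Ω)⁻¹ * (((m : MulAut P) y : P) : Ω)) * s⁻¹ := by group
    rw [e]; exact this
  exact (hle P hφ).2

end Cfsg.Agent.Lib.Helper7.TateFus
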