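import Mathlib
import Cfsg.Prelude.Def_FusionSystem
import Cfsg.Agent.Lib.Helper7.TateFusA
import Cfsg.Agent.Lib.Helper7.TateFusB
import Cfsg.Agent.Lib.Helper7.CharBisetJ

/-!
# Tate's theorem for fusion systems, part C: the characteristic biset and the adapted section
-/

set_option autoImplicit false

universe u

namespace Cfsg.Agent.Lib.Helper7.TateFus

open Cfsg Cfsg.FusionSystem Cfsg.Agent.Lib.Helper7 Cfsg.Agent.Lib.Helper7.Marks
  Cfsg.Agent.Lib.Helper7.Park Cfsg.Agent.Lib.Helper7.BisetTransfer MulAction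
  Cfsg.Agent.Lib.Helper7.CharBiset

/-- existence of equivariant maps -/
theorem exists_equivariant {G X Y : Type*} [Group G] [MulAction G X] [MulAction G Y]
    (h : ∀ x : X, ∃ y : Y, ∀ g : G, g • x = x → g • y = y) :
    ∃ f : X → Y, ∀ (g : G) (x : X), f (g • x) = g • f x := by
  classical
  let x₀ : X → X := fun x => Quotient.out (Quotient.mk (MulAction.orbitRel G X) x)
  have hx₀ : ∀ x, ∃ g : G, g • x₀ x = x := by
    intro x
    have h1 : (MulAction.orbitRel G X).r (x₀ x) x := Quotient.mk_out (s := MulAction.orbitRel G X) x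
    have h2 : x ∈ MulAction.orbit G (x₀ x) := (MulAction.orbitRel G X).symm h1
    exact h2
  have hx₀g : ∀ (g : G) (x : X), x₀ (g • x) = x₀ x := by
    intro g x
    show Quotient.out _ = Quotient.out _
    congr 1
    exact Quotient.sound (MulAction.mem_orbit x g)
  let y₀ : X → Y := fun x => Classical.choose (h x)
  have hy₀ : ∀ x (g : G), g • x = x → g • y₀ x = y₀ x := fun x => Classical.choose_spec (h x)
  let γ : X → G := fun x => Classical.choose (hx₀ x)
  have hγ : ∀ x, γ x • x₀ x = x := fun x => Classical.choose_spec (hx₀ x)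
  refine ⟨fun x => γ x • y₀ (x₀ x), fun g x => ?_⟩
  show γ (g • x) • y₀ (x₀ (g • x)) = g • γ x • y₀ (x₀ x)
  rw [hx₀g g x]
  have h1 : ((g * γ x)⁻¹ * γ (g • x)) • x₀ x = x₀ x := by
    have h2 := hγ (g • x)
    rw [hx₀g g x] at h2
    rw [mul_smul, h2, inv_smul_eq_iff, mul_smul, hγ x]
  have h3 := hy₀ (x₀ x) _ h1
  rw [mul_smul, inv_smul_eq_iff, mul_smul] at h3
  exact h3

variable {Ω : Type u} [Group Ω] {S : Subgroup Ω}

/-- **The characteristic biset, packaged**: a finite `(S × S)`-set with twisted diagonal point stabilizers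
(maps of `F`), stable under the maps of `F`, with `|X| / |S|` prime to `p`. -/
theorem biset_setup [Finite S] (p : ℕ) [Fact p.Prime] (hS : IsPGroup p S)
    (F : FusionSystem S) (hF : F.IsSaturated p) :
    ∃ (X : Type u) (_ : MulAction (↥S × ↥S) X) (_ : Finite X),
      (∀ x : X, IsTw F (stabilizer (↥S × ↥S) x)) ∧
      (∀ (P : Subgroup Ω) (hP : P ≤ S) (φ : P →* Ω) (hφS : ∀ x : P, φ x ∈ S), φ ∈ F.Hom P →
        ∃ e : X ≃ X, ∀ (u : P) (t : ↥S) (x : X),
          e (((⟨u, hP u.2⟩ : ↥S), t) • x) = ((⟨φ u, hφS u⟩ : ↥S), t) • e x) ∧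
      ∃ n : ℕ, ¬ p ∣ n ∧ Nat.card X = n * Nat.card ↥S := by
  classical
  have hp : p.Prime := Fact.out
  let _ : Fintype (Subgroup (↥S × ↥S)) := Fintype.ofFinite _
  obtain ⟨c, hc, hFC, m, hpm, hmod⟩ := exists_charBiset p hS F hF
  have hstab : ∀ x : XSet c, IsTw F (stabilizer (↥S × ↥S) x) := by
    intro x
    obtain ⟨D, k, hcD, hst⟩ := exists_stabilizer_XSet c x
    rw [hst]
    exact isTw_cj F (hc D hcD) k
  refine ⟨XSet c, inferInstance, inferInstance, hstab, ?_, ?_⟩
  · intro P hP φ hφS hφ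
    have : Finite ↥P := Finite.of_injective (Subgroup.inclusion hP) (Subgroup.inclusion_injective hP)
    have hfix : ∀ H' : Subgroup (↥P × ↥S),
        Nat.card (fixedPoints (H'.map (j₀ hP)) (XSet c)) =
        Nat.card (fixedPoints (H'.map (jφ φ hφS)) (XSet c)) := by
      intro H'
      rw [card_fixedPoints_XSet, card_fixedPoints_XSet]
      exact hFC _ _ (FC_j₀_jφ F hP φ hφS hφ H')
    obtain ⟨e, he⟩ := exists_equiv_of_homs (XSet c) (j₀ hP) (jφ φ hφS) hfix
    refine ⟨e, fun u t x => ?_⟩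
    have := he (u, t) x
    rw [j₀_apply, jφ_apply] at this
    exact this
  · -- the right action
    let ρ : ↥S →* Equiv.Perm (XSet c) :=
      (MulAction.toPermHom (↥S × ↥S) (XSet c)).comp (MonoidHom.inr ↥S ↥S)
    have hfree : ∀ (b : ↥S) (x : XSet c), ρ b x = x → b = 1 := by
      intro b x h
      exact eq_one_of_isTw_right F (hstab x) (mem_stabilizer_iff.mpr h)
    have : Finite (R ρ) := inferInstance
    let _ : Fintype (R ρ) := Fintype.ofFinite _
    have hcardX : Nat.card (XSet c) = Nat.card (R ρ) * Nat.card ↥S := card_eq ρ hfree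
    have hmarks : marks c ⊥ = Nat.card (XSet c) := by
      rw [← card_fixedPoints_XSet c ⊥, card_fixedPoints_bot]
    refine ⟨Nat.card (R ρ), ?_, hcardX⟩
    intro hdvd
    rw [hmarks, hcardX] at hmod
    have hSpos : 0 < Nat.card ↥S := Nat.card_pos
    have h1 : (p * Nat.card ↥S) ∣ Nat.card (R ρ) * Nat.card ↥S := Nat.mul_dvd_mul_right hdvd _
    have h2 : (p * Nat.card ↥S) ∣ m * Nat.card ↥S := (Nat.modEq_zero_iff_dvd.mp
      (hmod.symm.trans (Nat.modEq_zero_iff_dvd.mpr h1)))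
    exact hpm (Nat.dvd_of_mul_dvd_mul_right hSpos h2)

/-- **The extension theorem**: every `S`-invariant homomorphism `χ` from the hyperfocal subgroup of a saturated
fusion system into a commutative `p`-group extends, up to a power prime to `p`, to a homomorphism of `S`. -/
theorem exists_extension_of_hyperfocal_hom [Finite S] (p : ℕ) [Fact p.Prime] (hS : IsPGroup p S)
    (F : FusionSystem S) (hF : F.IsSaturated p) {C : Type*} [CommGroup C]
    (hC : ∀ c : C, ∃ k : ℕ, c ^ p ^ k = 1)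
    (Tn : Subgroup ↥S) (hTn : Tn = (F.hyperfocalSubgroup p).subgroupOf S)
    (χ : ↥Tn →* C)
    (hχ : ∀ (b t : ↥S) (ht : t ∈ Tn) (ht' : b * t * b⁻¹ ∈ Tn), χ ⟨b * t * b⁻¹, ht'⟩ = χ ⟨t, ht⟩) :
    ∃ (n : ℕ) (lam : ↥S →* C), ¬ p ∣ n ∧ ∀ t : ↥Tn, lam (t : ↥S) = χ t ^ n := by
  classical
  have hp : p.Prime := Fact.out
  have hnorm := hyperfocalSubgroup_conj_mem F p
  have hTnormal : Tn.Normal := ⟨fun t ht b => by
    rw [hTn, Subgroup.mem_subgroupOf] at ht ⊢
    exact hnorm b b.2 t ht⟩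
  obtain ⟨X, instA, instF, hstab, hstable, n, hn, hcard⟩ := biset_setup p hS F hF
  -- the right action
  let ρ : ↥S →* Equiv.Perm X :=
    (MulAction.toPermHom (↥S × ↥S) X).comp (MonoidHom.inr ↥S ↥S)
  have hρ : ∀ (t : ↥S) (x : X), ρ t x = ((1, t) : ↥S × ↥S) • x := fun t x => rfl
  have hfree : ∀ (b : ↥S) (x : X), ρ b x = x → b = 1 := by
    intro b x h
    exact eq_one_of_isTw_right F (hstab x) (mem_stabilizer_iff.mpr h)
  have hGmem : ∀ g : Equiv.Perm X, g ∈ Gr ρ ↔ ∀ (t : ↥S) (x : X),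
      g (((1, t) : ↥S × ↥S) • x) = ((1, t) : ↥S × ↥S) • g x := by
    intro g
    constructor
    · intro hg t x
      exact comm_of_mem ρ hg t x
    · rintro hg _ ⟨t, rfl⟩
      ext x
      exact (hg t x).symm
  let ι₀ : ↥S →* Equiv.Perm X :=
    (MulAction.toPermHom (↥S × ↥S) X).comp (MonoidHom.inl ↥S ↥S)
  have hι₀ : ∀ (s : ↥S) (x : X), ι₀ s x = ((s, 1) : ↥S × ↥S) • x := fun s x => rfl
  have hι₀G : ∀ s : ↥S, ι₀ s ∈ Gr ρ := by
    intro s
    rw [hGmem]
    intro t x
    rw [hι₀, hι₀, smul_smul, smul_smul]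
    congr 1
    show ((s * 1, 1 * t) : ↥S × ↥S) = (1 * s, t * 1)
    simp
  let ι : ↥S →* Gr ρ := ι₀.codRestrict (Gr ρ) hι₀G
  have hι : ∀ (s : ↥S) (x : X), ((ι s : Gr ρ) : Equiv.Perm X) x = ((s, 1) : ↥S × ↥S) • x :=
    fun s x => rfl
  -- stability
  have hconjG : ∀ (P : Subgroup Ω) (hP : P ≤ S) (φ : P →* Ω) (hφS : ∀ x : P, φ x ∈ S), φ ∈ F.Hom P →
      ∃ g : Gr ρ, ∀ u : P, g * ι ⟨u, hP u.2⟩ * g⁻¹ = ι ⟨φ u, hφS u⟩ := by
    intro P hP φ hφS hφ
    obtain ⟨e, he⟩ := hstable P hP φ hφS hφ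
    have heG : e ∈ Gr ρ := by
      rw [hGmem]
      intro t x
      have := he 1 t x
      have e1 : (⟨((1 : ↥P) : Ω), hP (1 : ↥P).2⟩ : ↥S) = 1 := rfl
      have e2 : (⟨φ (1 : ↥P), hφS 1⟩ : ↥S) = 1 := Subtype.ext (map_one φ)
      rw [e1, e2] at this
      exact this
    refine ⟨⟨e, heG⟩, fun u => ?_⟩
    rw [mul_inv_eq_iff_eq_mul]
    apply Subtype.ext
    ext x
    show e (((ι ⟨u, hP u.2⟩ : Gr ρ) : Equiv.Perm X) x) = ((ι ⟨φ u, hφS u⟩ : Gr ρ) : Equiv.Perm X) (e x)
    rw [hι, hι]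
    exact he u 1 x
  have : Finite (R ρ) := inferInstance
  let _ : Fintype (R ρ) := Fintype.ofFinite _
  have hcardR : Fintype.card (R ρ) = n := by
    have h1 : Nat.card X = Nat.card (R ρ) * Nat.card ↥S := card_eq ρ hfree
    rw [hcard] at h1
    have hSpos : 0 < Nat.card ↥S := Nat.card_pos
    rw [← Nat.card_eq_fintype_card]
    exact (Nat.eq_of_mul_eq_mul_right hSpos h1).symm
  -- the action on `S / T`
  let actY : MulAction (↥S × ↥S) (↥S ⧸ Tn) :=
    { smul := fun g y => (QuotientGroup.mk g.1 : ↥S ⧸ Tn) * y * (QuotientGroup.mk g.2 : ↥S ⧸ Tn)⁻¹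
      one_smul := fun y => by
        show (QuotientGroup.mk (1 : ↥S × ↥S).1 : ↥S ⧸ Tn) * y *
          (QuotientGroup.mk (1 : ↥S × ↥S).2 : ↥S ⧸ Tn)⁻¹ = y
        simp
      mul_smul := fun g h y => by
        show (QuotientGroup.mk (g * h).1 : ↥S ⧸ Tn) * y * (QuotientGroup.mk (g * h).2 : ↥S ⧸ Tn)⁻¹ =
          (QuotientGroup.mk g.1 : ↥S ⧸ Tn) * ((QuotientGroup.mk h.1 : ↥S ⧸ Tn) * y *
            (QuotientGroup.mk h.2 : ↥S ⧸ Tn)⁻¹) * (QuotientGroup.mk g.2 : ↥S ⧸ Tn)⁻¹
        simp only [Prod.fst_mul, Prod.snd_mul, QuotientGroup.mk_mul, mul_inv_rev, mul_assoc] }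
  have hsmulY : ∀ (a b : ↥S) (y : ↥S ⧸ Tn), ((a, b) : ↥S × ↥S) • y =
      (QuotientGroup.mk a : ↥S ⧸ Tn) * y * (QuotientGroup.mk b : ↥S ⧸ Tn)⁻¹ := fun a b y => rfl
  obtain ⟨f, hf⟩ := @exists_equivariant (↥S × ↥S) X (↥S ⧸ Tn) _ instA actY (by
    intro x
    obtain ⟨Tx, θ, hθ, hiff⟩ := hstab x
    obtain ⟨s, hs, hsθ⟩ := exists_conj_mod_hyperfocal p hS F hF hθ
    refine ⟨(QuotientGroup.mk (⟨s, hs⟩ : ↥S) : ↥S ⧸ Tn)⁻¹, ?_⟩
    rintro ⟨a, b⟩ hab
    have hmem : ((a, b) : ↥S × ↥S) ∈ stabilizer (↥S × ↥S) x := mem_stabilizer_iff.mpr hab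
    obtain ⟨haT, hθa⟩ := (hiff a b).mp hmem
    rw [hsmulY]
    have h1 := hsθ ⟨a, haT⟩
    rw [hθa] at h1
    have h2 : ((⟨s, hs⟩ : ↥S) * a * (⟨s, hs⟩ : ↥S)⁻¹)⁻¹ * b ∈ Tn := by
      rw [hTn, Subgroup.mem_subgroupOf]
      exact h1
    have h3 : (QuotientGroup.mk ((⟨s, hs⟩ : ↥S) * a * (⟨s, hs⟩ : ↥S)⁻¹) : ↥S ⧸ Tn) =
        QuotientGroup.mk b := QuotientGroup.eq.mpr h2
    rw [QuotientGroup.mk_mul, QuotientGroup.mk_mul, QuotientGroup.mk_inv] at h3
    rw [← h3]
    group)
  have hf' : ∀ (a b : ↥S) (x : X), f (((a, b) : ↥S × ↥S) • x) =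
      (QuotientGroup.mk a : ↥S ⧸ Tn) * f x * (QuotientGroup.mk b : ↥S ⧸ Tn)⁻¹ := fun a b x => hf (a, b) x
  -- the adapted section
  let σ : R ρ → X := fun r => ρ (Quotient.out (f (Quotient.out r))) (Quotient.out r)
  have hσ : ∀ r : R ρ, Quotient.mk (rel ρ) (σ r) = r := by
    intro r
    have h1 : Quotient.mk (rel ρ) (σ r) = Quotient.mk (rel ρ) (Quotient.out r) :=
      Quotient.sound ⟨(Quotient.out (f (Quotient.out r)))⁻¹, by simp [σ]⟩
    rw [h1, Quotient.out_eq]
  have hfσ : ∀ r : R ρ, f (σ r) = 1 := by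
    intro r
    show f (ρ (Quotient.out (f (Quotient.out r))) (Quotient.out r)) = 1
    rw [hρ, hf', QuotientGroup.mk_one, one_mul, QuotientGroup.out_eq', mul_inv_cancel]
  have had : ∀ u : ↥S, Adapted ρ Tn σ hσ (ι u) u := by
    intro u r
    have h1 := dl_spec ρ σ hσ (((ι u : Gr ρ) : Equiv.Perm X) (σ r))
    generalize dl ρ σ hσ (((ι u : Gr ρ) : Equiv.Perm X) (σ r)) = d at h1 ⊢
    have h2 := congrArg f h1
    rw [hρ, hf', hfσ, hι, hf', hfσ, QuotientGroup.mk_one, one_mul, one_mul, mul_one, inv_one, mul_one] at h2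
    rw [← QuotientGroup.eq_one_iff, QuotientGroup.mk_mul, ← h2, mul_inv_cancel]
  -- the transfer homomorphisms
  have hχE : ∀ (b : ↥S) (t : ↥S), t ∈ Tn → chiE Tn χ (b * t * b⁻¹) = chiE Tn χ t := by
    intro b t ht
    have ht' : b * t * b⁻¹ ∈ Tn := hTnormal.conj_mem t ht b
    rw [chiE_of_mem Tn χ ht, chiE_of_mem Tn χ ht']
    exact hχ b t ht ht'
  set lam : ↥S →* C := lamHom ρ Tn χ hχE hfree σ hσ ι had with hlam
  set V : ↥Tn →* C := VHom ρ Tn χ hχE hfree σ hσ ι had with hV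
  have hlamV : ∀ t : ↥Tn, lam (t : ↥S) = V t * χ t ^ Fintype.card (R ρ) :=
    fun t => lamHom_eq ρ Tn χ hχE hfree σ hσ ι had t
  have hVconj : ∀ (t t' : ↥Tn) (e : Gr ρ), e * ι t * e⁻¹ = ι t' → V t' = V t :=
    fun t t' e he => VHom_conj ρ Tn χ hχE hfree σ hσ ι had t t' e he
  -- elements of the hyperfocal subgroup as elements of `Tn`
  let mkT : ∀ y : Ω, y ∈ F.hyperfocalSubgroup p → ↥Tn := fun y hy =>
    ⟨⟨y, hyperfocalSubgroup_le F p hy⟩, by rw [hTn]; exact Subgroup.mem_subgroupOf.mpr hy⟩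
  have hmkT_mul : ∀ (a b : Ω) (ha : a ∈ F.hyperfocalSubgroup p) (hb : b ∈ F.hyperfocalSubgroup p)
      (hab : a * b ∈ F.hyperfocalSubgroup p), mkT (a * b) hab = mkT a ha * mkT b hb :=
    fun a b ha hb hab => rfl
  have hmkT_inv : ∀ (a : Ω) (ha : a ∈ F.hyperfocalSubgroup p)
      (ha' : a⁻¹ ∈ F.hyperfocalSubgroup p), mkT a⁻¹ ha' = (mkT a ha)⁻¹ :=
    fun a ha ha' => rfl
  have hmkT_one : ∀ (h1 : (1 : Ω) ∈ F.hyperfocalSubgroup p), mkT 1 h1 = 1 := fun h1 => rfl
  have hmkT_congr : ∀ (a b : Ω) (ha : a ∈ F.hyperfocalSubgroup p) (hab : a = b),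
      mkT a ha = mkT b (hab ▸ ha) := by
    intro a b ha hab
    subst hab
    rfl
  have hgen : ∀ (P : Subgroup Ω) (hPS : P ≤ S) (β : F.autGroup P)
      (hβ : β ∈ pResidual p (F.autGroup P)) (x : P),
      (x : Ω)⁻¹ * (((β : MulAut P) x : P) : Ω) ∈ F.hyperfocalSubgroup p :=
    fun P hPS β hβ x => Subgroup.subset_closure ⟨P, β, x, hPS, hβ, rfl⟩
  -- invariance of `V` under automorphisms
  have hVaut : ∀ (P : Subgroup Ω) (hPS : P ≤ S) (γ : MulAut P) (hγ : γ ∈ F.autGroup P) (w : P)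
      (hw : (w : Ω) ∈ F.hyperfocalSubgroup p) (hw' : ((γ w : P) : Ω) ∈ F.hyperfocalSubgroup p),
      V (mkT _ hw') = V (mkT _ hw) := by
    intro P hPS γ hγ w hw hw'
    have hφ : P.subtype.comp γ.toMonoidHom ∈ F.Hom P := (mem_autGroup_iff F hPS γ).mp hγ
    obtain ⟨g, hg⟩ := hconjG P hPS (P.subtype.comp γ.toMonoidHom) (fun x => hPS (γ x).2) hφ
    exact hVconj (mkT _ hw) (mkT _ hw') g (hg w)
  have hVgen : ∀ (P : Subgroup Ω) (hPS : P ≤ S) (β : F.autGroup P)
      (hβ : β ∈ pResidual p (F.autGroup P)) (x : P), V (mkT _ (hgen P hPS β hβ x)) = 1 := by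
    intro P hPS
    have key : ∀ β : F.autGroup P,
        β ∈ Subgroup.closure {g : F.autGroup P | Nat.Coprime (orderOf g) p} →
        ∀ (hβ : β ∈ pResidual p (F.autGroup P)) (x : P), V (mkT _ (hgen P hPS β hβ x)) = 1 := by
      intro β hβc
      induction hβc using Subgroup.closure_induction with
      | mem β hβo =>
        intro hβ x
        have hβo' : Nat.Coprime (orderOf β) p := hβo
        have hw1 := hgen P hPS β hβ x
        have hwn : ∀ n : ℕ, (x : Ω)⁻¹ * ((((β ^ n : F.autGroup P) : MulAut P) x : P) : Ω) ∈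
            F.hyperfocalSubgroup p := fun n => hgen P hPS (β ^ n) (pow_mem hβ n) x
        have hpow : ∀ n : ℕ, V (mkT _ (hwn n)) = V (mkT _ hw1) ^ n := by
          intro n
          induction n with
          | zero =>
            have e : mkT _ (hwn 0) = 1 := by
              apply Subtype.ext; apply Subtype.ext
              show (x : Ω)⁻¹ * ((((β ^ 0 : F.autGroup P) : MulAut P) x : P) : Ω) = 1
              rw [pow_zero]
              simp
            rw [e, map_one, pow_zero]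
          | succ n ih =>
            set w : P := x⁻¹ * (β : MulAut P) x with hwdef
            have hwΩ : (w : Ω) = (x : Ω)⁻¹ * (((β : MulAut P) x : P) : Ω) := rfl
            have hw1' : (w : Ω) ∈ F.hyperfocalSubgroup p := hw1
            have hprod : (x : Ω)⁻¹ * ((((β ^ (n + 1) : F.autGroup P) : MulAut P) x : P) : Ω) =
                ((x : Ω)⁻¹ * ((((β ^ n : F.autGroup P) : MulAut P) x : P) : Ω)) *
                  (((((β ^ n : F.autGroup P) : MulAut P) w : P)) : Ω) := by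
              rw [hwdef, map_mul, map_inv, pow_succ, Subgroup.coe_mul, MulAut.mul_apply]
              simp only [Subgroup.coe_mul, Subgroup.coe_inv]
              group
            have hβw : (((((β ^ n : F.autGroup P) : MulAut P) w : P)) : Ω) ∈ F.hyperfocalSubgroup p := by
              have h1 := (F.hyperfocalSubgroup p).mul_mem ((F.hyperfocalSubgroup p).inv_mem (hwn n))
                (hwn (n + 1))
              rw [hprod, inv_mul_cancel_left] at h1
              exact h1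
            have e : mkT _ (hwn (n + 1)) = mkT _ (hwn n) * mkT _ hβw := by
              apply Subtype.ext; apply Subtype.ext
              exact hprod
            rw [e, map_mul, ih, hVaut P hPS ((β ^ n : F.autGroup P) : MulAut P) (β ^ n).2 w hw1' hβw,
              pow_succ]
            rfl
        have hm : V (mkT _ hw1) ^ orderOf β = 1 := by
          rw [← hpow (orderOf β)]
          have e : mkT _ (hwn (orderOf β)) = 1 := by
            apply Subtype.ext; apply Subtype.ext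
            show (x : Ω)⁻¹ * ((((β ^ orderOf β : F.autGroup P) : MulAut P) x : P) : Ω) = 1
            rw [pow_orderOf_eq_one]
            simp
          rw [e, map_one]
        obtain ⟨k, hk⟩ := hC (V (mkT _ hw1))
        exact eq_one_of_coprime_of_pow_eq_one _
          (Nat.Coprime.coprime_dvd_left (orderOf_dvd_of_pow_eq_one hm) hβo') k hk
      | one =>
        intro hβ x
        have e : mkT _ (hgen P hPS 1 hβ x) = 1 := by
          apply Subtype.ext; apply Subtype.ext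
          show (x : Ω)⁻¹ * ((((1 : F.autGroup P) : MulAut P) x : P) : Ω) = 1
          simp
        rw [e, map_one]
      | mul a b ha hb iha ihb =>
        intro hβ x
        have ha' : a ∈ pResidual p (F.autGroup P) := ha
        have hb' : b ∈ pResidual p (F.autGroup P) := hb
        have e : mkT _ (hgen P hPS (a * b) hβ x) =
            mkT _ (hgen P hPS b hb' x) * mkT _ (hgen P hPS a ha' ((b : MulAut P) x)) := by
          apply Subtype.ext; apply Subtype.ext
          show (x : Ω)⁻¹ * ((((a * b : F.autGroup P) : MulAut P) x : P) : Ω) =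
            ((x : Ω)⁻¹ * (((b : MulAut P) x : P) : Ω)) *
              ((((b : MulAut P) x : P) : Ω)⁻¹ * (((a : MulAut P) ((b : MulAut P) x) : P) : Ω))
          rw [Subgroup.coe_mul, MulAut.mul_apply]
          group
        rw [e, map_mul, iha ha', ihb hb', mul_one]
      | inv a ha iha =>
        intro hβ x
        have ha' : a ∈ pResidual p (F.autGroup P) := ha
        have e : mkT _ (hgen P hPS a⁻¹ hβ x) =
            (mkT _ (hgen P hPS a ha' (((a⁻¹ : F.autGroup P) : MulAut P) x)))⁻¹ := by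
          apply Subtype.ext; apply Subtype.ext
          show (x : Ω)⁻¹ * ((((a⁻¹ : F.autGroup P) : MulAut P) x : P) : Ω) =
            ((((((a⁻¹ : F.autGroup P) : MulAut P) x : P)) : Ω)⁻¹ *
              (((a : MulAut P) (((a⁻¹ : F.autGroup P) : MulAut P) x) : P) : Ω))⁻¹
          rw [Subgroup.coe_inv, MulAut.apply_inv_self]
          group
        rw [e, map_inv, iha ha', inv_one]
    intro β hβ x
    exact key β hβ hβ x
  have hV1 : ∀ t : ↥Tn, V t = 1 := by
    have key : ∀ y : Ω, y ∈ Subgroup.closure {y : Ω | ∃ (P : Subgroup Ω) (α : F.autGroup P) (x : P),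
        P ≤ S ∧ α ∈ pResidual p (F.autGroup P) ∧ y = (x : Ω)⁻¹ * ((α : MulAut P) x : P)} →
        ∀ hy : y ∈ F.hyperfocalSubgroup p, V (mkT y hy) = 1 := by
      intro y hyc
      induction hyc using Subgroup.closure_induction with
      | mem y hy =>
        obtain ⟨P, α, x, hPS, hα, rfl⟩ := hy
        intro hy'
        exact hVgen P hPS α hα x
      | one =>
        intro hy
        show V 1 = 1
        exact map_one V
      | mul a b ha hb iha ihb =>
        intro hy
        have ha' : a ∈ F.hyperfocalSubgroup p := ha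
        have hb' : b ∈ F.hyperfocalSubgroup p := hb
        show V (mkT a ha' * mkT b hb') = 1
        rw [map_mul, iha ha', ihb hb', mul_one]
      | inv a ha iha =>
        intro hy
        have ha' : a ∈ F.hyperfocalSubgroup p := ha
        show V ((mkT a ha')⁻¹) = 1
        rw [map_inv, iha ha', inv_one]
    intro t
    have ht' : (t : ↥S) ∈ (F.hyperfocalSubgroup p).subgroupOf S := by
      rw [← hTn]; exact t.2
    have ht : ((t : ↥S) : Ω) ∈ F.hyperfocalSubgroup p := Subgroup.mem_subgroupOf.mp ht'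
    exact key _ ht ht
  refine ⟨Fintype.card (R ρ), lam, by rw [hcardR]; exact hn, fun t => ?_⟩
  rw [hlamV t, hV1 t, one_mul]

end Cfsg.Agent.Lib.Helper7.TateFus
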