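import Mathlib
import Cfsg.Prelude.Def_FusionSystem
import Cfsg.Agent.Lib.Helper7.TateFusC

/-!
# Yoshida's theorem for fusion systems, part A: the characteristic biset in displacement form
-/

set_option autoImplicit false

universe u

namespace Cfsg.Agent.Lib.Helper7.YoshidaFus

open Cfsg Cfsg.FusionSystem Cfsg.Agent.Lib.Helper7 Cfsg.Agent.Lib.Helper7.Marks
  Cfsg.Agent.Lib.Helper7.Park Cfsg.Agent.Lib.Helper7.BisetTransfer MulAction
  Cfsg.Agent.Lib.Helper7.CharBiset Cfsg.Agent.Lib.Helper7.TateFus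

variable {Ω : Type u} [Group Ω] {S : Subgroup Ω}

/-- the characteristic biset, in terms of the right action `ρ`, the left action `ι` into the commuting group, and
the twisted diagonal description of the coincidences of the two actions -/
theorem biset_setup2 [Finite S] (p : ℕ) [Fact p.Prime] (hS : IsPGroup p S)
    (F : FusionSystem S) (hF : F.IsSaturated p) :
    ∃ (X : Type u) (_ : Finite X) (ρ : ↥S →* Equiv.Perm X) (ι : ↥S →* Gr ρ),
      (∀ (b : ↥S) (x : X), ρ b x = x → b = 1) ∧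
      (∀ x : X, ∃ (T : Subgroup Ω) (θ : T →* Ω), θ ∈ F.Hom T ∧
        ∀ a b : ↥S, ((ι a : Gr ρ) : Equiv.Perm X) x = ρ b x ↔
          ∃ h : (a : Ω) ∈ T, θ ⟨a, h⟩ = ((b⁻¹ : ↥S) : Ω)) ∧
      (∀ (P : Subgroup Ω) (hP : P ≤ S) (φ : P →* Ω) (hφS : ∀ x : P, φ x ∈ S), φ ∈ F.Hom P →
        ∃ g : Gr ρ, ∀ u : P, g * ι ⟨u, hP u.2⟩ * g⁻¹ = ι ⟨φ u, hφS u⟩) ∧
      ¬ p ∣ Nat.card (R ρ) := by
  classical
  obtain ⟨X, instA, instF, hstab, hstable, n, hn, hcard⟩ := biset_setup p hS F hF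
  let ρ : ↥S →* Equiv.Perm X :=
    (MulAction.toPermHom (↥S × ↥S) X).comp (MonoidHom.inr ↥S ↥S)
  have hρ : ∀ (t : ↥S) (x : X), ρ t x = ((1, t) : ↥S × ↥S) • x := fun t x => rfl
  have hfree : ∀ (b : ↥S) (x : X), ρ b x = x → b = 1 := by
    intro b x h
    exact eq_one_of_isTw_right F (hstab x) (mem_stabilizer_iff.mpr h)
  have hGmem : ∀ g : Equiv.Perm X, g ∈ Gr ρ ↔ ∀ (t : ↥S) (x : X),
      g (((1, t) : ↥S × ↥S) • x) = ((1, t) : ↥S × ↥S) • g x := by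
    intro g
    constructor
    · intro hg t x
      exact comm_of_mem ρ hg t x
    · rintro hg _ ⟨t, rfl⟩
      ext x
      exact (hg t x).symm
  let ι₀ : ↥S →* Equiv.Perm X :=
    (MulAction.toPermHom (↥S × ↥S) X).comp (MonoidHom.inl ↥S ↥S)
  have hι₀ : ∀ (s : ↥S) (x : X), ι₀ s x = ((s, 1) : ↥S × ↥S) • x := fun s x => rfl
  have hι₀G : ∀ s : ↥S, ι₀ s ∈ Gr ρ := by
    intro s
    rw [hGmem]
    intro t x
    rw [hι₀, hι₀, smul_smul, smul_smul]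
    congr 1
    show ((s * 1, 1 * t) : ↥S × ↥S) = (1 * s, t * 1)
    simp
  let ι : ↥S →* Gr ρ := ι₀.codRestrict (Gr ρ) hι₀G
  have hι : ∀ (s : ↥S) (x : X), ((ι s : Gr ρ) : Equiv.Perm X) x = ((s, 1) : ↥S × ↥S) • x :=
    fun s x => rfl
  refine ⟨X, instF, ρ, ι, hfree, ?_, ?_, ?_⟩
  · intro x
    obtain ⟨T, θ, hθ, hiff⟩ := hstab x
    refine ⟨T, θ, hθ, fun a b => ?_⟩
    rw [hι, hρ, ← hiff a b⁻¹, mem_stabilizer_iff]
    have e : ((a, b⁻¹) : ↥S × ↥S) = ((1 : ↥S), b)⁻¹ * (a, (1 : ↥S)) := by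
      show _ = ((1 : ↥S)⁻¹ * a, b⁻¹ * 1)
      rw [inv_one, one_mul, mul_one]
    rw [e, mul_smul, inv_smul_eq_iff]
  · intro P hP φ hφS hφ
    obtain ⟨e, he⟩ := hstable P hP φ hφS hφ
    have heG : e ∈ Gr ρ := by
      rw [hGmem]
      intro t x
      have := he 1 t x
      have e1 : (⟨((1 : ↥P) : Ω), hP (1 : ↥P).2⟩ : ↥S) = 1 := rfl
      have e2 : (⟨φ (1 : ↥P), hφS 1⟩ : ↥S) = 1 := Subtype.ext (map_one φ)
      rw [e1, e2] at this
      exact this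
    refine ⟨⟨e, heG⟩, fun u => ?_⟩
    rw [mul_inv_eq_iff_eq_mul]
    apply Subtype.ext
    ext x
    show e (((ι ⟨u, hP u.2⟩ : Gr ρ) : Equiv.Perm X) x) = ((ι ⟨φ u, hφS u⟩ : Gr ρ) : Equiv.Perm X) (e x)
    rw [hι, hι]
    exact he u 1 x
  · have h1 : Nat.card X = Nat.card (R ρ) * Nat.card ↥S := card_eq ρ hfree
    rw [hcard] at h1
    have hSpos : 0 < Nat.card ↥S := Nat.card_pos
    rw [← Nat.eq_of_mul_eq_mul_right hSpos h1]
    exact hn

end Cfsg.Agent.Lib.Helper7.YoshidaFus
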