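import Mathlib
import Cfsg.Prelude.Def_FusionSystem
import Cfsg.Agent.Lib.Helper7.ThompsonFusA
import Cfsg.Agent.Lib.Helper7.YoshidaFusA
import Cfsg.Agent.Lib.Helper7.FusionSat3

/-!
# Thompson transfer for fusion systems, part B: the transfer of a fully normalized involution
-/

set_option autoImplicit false
set_option linter.unusedVariables false
set_option linter.unusedSectionVars false

universe u

namespace Cfsg.Agent.Lib.Helper7.ThompsonFus

open Cfsg Cfsg.FusionSystem Cfsg.Agent.Lib.Helper7 Cfsg.Agent.Lib.Helper7.BisetTransfer MulAction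
  Cfsg.Agent.Lib.Helper7.TateFus Cfsg.Agent.Lib.Helper7.YoshidaFus

theorem eq_one_or_eq_of_mem_zpowers {G : Type*} [Group G] {j x : G} (hj : orderOf j = 2)
    (hx : x ∈ Subgroup.zpowers j) : x = 1 ∨ x = j := by
  obtain ⟨k, rfl⟩ := Subgroup.mem_zpowers_iff.mp hx
  rw [← zpow_mod_orderOf, hj]
  have h1 : (0 : ℤ) ≤ k % 2 := Int.emod_nonneg k (by norm_num)
  have h2 : k % 2 < 2 := Int.emod_lt_of_pos k (by norm_num)
  have h3 : k % 2 = 0 ∨ k % 2 = 1 := by omega
  rcases h3 with h | h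
  · left; rw [Nat.cast_ofNat, h, zpow_zero]
  · right; rw [Nat.cast_ofNat, h, zpow_one]

theorem mem_normalizer_zpowers_iff {G : Type*} [Group G] {j : G} (hj : orderOf j = 2) (s : G) :
    s ∈ Subgroup.normalizer (Subgroup.zpowers j : Set G) ↔ s * j * s⁻¹ = j := by
  constructor
  · intro hs
    have h1 : s * j * s⁻¹ ∈ Subgroup.zpowers j :=
      (Subgroup.mem_normalizer_iff.mp hs j).mp (Subgroup.mem_zpowers j)
    rcases eq_one_or_eq_of_mem_zpowers hj h1 with h | h
    · exfalso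
      have : j = 1 := by
        have := congrArg (fun z => s⁻¹ * z * s) h
        simpa [mul_assoc] using this
      rw [this, orderOf_one] at hj
      omega
    · exact h
  · intro hs
    rw [Subgroup.mem_normalizer_iff]
    intro n
    have key : ∀ n ∈ Subgroup.zpowers j, s * n * s⁻¹ = n := by
      intro n hn
      rcases eq_one_or_eq_of_mem_zpowers hj hn with h | h
      · rw [h]; group
      · rw [h]; exact hs
    constructor
    · intro hn
      rw [key n hn]; exact hn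
    · intro hn
      have h2 := key _ hn
      have h3 : s * n * s⁻¹ = n := by
        have : s⁻¹ * (s * (s * n * s⁻¹) * s⁻¹) * s = s⁻¹ * (s * n * s⁻¹) * s :=
          congrArg (fun z => s⁻¹ * z * s) h2
        have e1 : s⁻¹ * (s * (s * n * s⁻¹) * s⁻¹) * s = s * n * s⁻¹ := by group
        have e2 : s⁻¹ * (s * n * s⁻¹) * s = n := by group
        rw [e1, e2] at this
        exact this
      rw [← h3]; exact hn

variable {Ω : Type u} [Group Ω] {S : Subgroup Ω}

/-- **Thompson transfer for fusion systems**, core: an `F`-stable homomorphism `τ` that does not vanish on a fully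
normalized involution all of whose fully normalized conjugates are outside the kernel of `lam` -/
theorem transfer_involution_ne_one [Finite S] (hS : IsPGroup 2 S) (F : FusionSystem S) (hF : F.IsSaturated 2)
    {Z : Type*} [CommGroup Z] (hZ : Nat.card Z = 2) (lam : ↥S →* Z)
    (j : ↥S) (hj2 : orderOf j = 2) (hjfn : F.IsFullyNormalized (Subgroup.zpowers (j : Ω)))
    (h : ∀ w : ↥S, F.IsConjElt (j : Ω) (w : Ω) → F.IsFullyNormalized (Subgroup.zpowers (w : Ω)) → lam w ≠ 1) :
    ∃ τ : ↥S →* Z,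
      (∀ (P : Subgroup Ω) (φ : P →* Ω) (hφ : φ ∈ F.Hom P) (u : P),
        τ ⟨φ u, (F.le_of_mem hφ).2 u⟩ = τ ⟨u, (F.le_of_mem hφ).1 u.2⟩) ∧ τ j ≠ 1 := by
  classical
  have hp2 : Fact (Nat.Prime 2) := ⟨Nat.prime_two⟩
  obtain ⟨X, hXfin, ρ, ι, hfree, hT', hconj, hn⟩ := biset_setup2 2 hS F hF
  let σ : R ρ → X := Quotient.out
  have hσ : ∀ r : R ρ, Quotient.mk (rel ρ) (σ r) = r := Quotient.out_eq
  let instFR : Fintype (R ρ) := Fintype.ofFinite _
  let τ : ↥S →* Z := (Abelianization.lift lam).comp ((Dhom ρ hfree σ hσ).comp ι)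
  have hjΩ2 : orderOf (j : Ω) = 2 := by rw [Subgroup.orderOf_coe]; exact hj2
  refine ⟨τ, ?_, ?_⟩
  · intro P φ hφ u
    obtain ⟨g, hg⟩ := hconj P (F.le_of_mem hφ).1 φ (F.le_of_mem hφ).2 hφ
    have h1 := hg u
    show (Abelianization.lift lam) ((Dhom ρ hfree σ hσ) (ι ⟨φ u, _⟩)) =
      (Abelianization.lift lam) ((Dhom ρ hfree σ hσ) (ι ⟨u, _⟩))
    rw [← h1, map_mul, map_mul, map_inv, map_mul, map_mul, map_inv, mul_comm, inv_mul_cancel_left]
  · set g : Gr ρ := ι j with hgdef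
    have hgg : g * g = 1 := by
      rw [hgdef, ← map_mul, ← pow_two, ← hj2, pow_orderOf_eq_one, map_one]
    have hτj : τ j = ∏ r : R ρ, lam (dl ρ σ hσ ((g : Equiv.Perm X) (σ r))) := by
      show (Abelianization.lift lam) (Dfun ρ σ hσ g) = _
      unfold Dfun
      rw [map_prod]
      refine Finset.prod_congr rfl (fun r _ => ?_)
      exact Abelianization.lift_apply_of _ _
    -- the predicate
    let Q : X → Prop := fun x => ∃ d : ↥S, lam d ≠ 1 ∧ (g : Equiv.Perm X) x = ρ d x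
    have hQρ : ∀ (e : ↥S) (x : X), Q x → Q (ρ e x) := by
      rintro e x ⟨d, hd, hgx⟩
      refine ⟨e * d * e⁻¹, ?_, ?_⟩
      · rw [map_mul, map_mul, map_inv, mul_comm, inv_mul_cancel_left]; exact hd
      · rw [comm_of_mem ρ g.2, hgx, ← Equiv.Perm.mul_apply, ← Equiv.Perm.mul_apply, ← map_mul, ← map_mul]
        congr 2
        group
    let Y : Finset (R ρ) := Finset.univ.filter (fun r => ∃ x, Quotient.mk (rel ρ) x = r ∧ Q x)
    have hYmem : ∀ r, r ∈ Y ↔ ∃ x, Quotient.mk (rel ρ) x = r ∧ Q x := by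
      intro r
      simp only [Y, Finset.mem_filter, Finset.mem_univ, true_and]
    have hQσ : ∀ r ∈ Y, Q (σ r) := by
      intro r hr
      obtain ⟨x, hx, hQx⟩ := (hYmem r).mp hr
      have h1 : Quotient.mk (rel ρ) x = Quotient.mk (rel ρ) (σ r) := by rw [hσ]; exact hx
      obtain ⟨b, hb⟩ := Quotient.exact h1
      rw [← hb]
      exact hQρ b x hQx
    have hfixσ : ∀ (r : R ρ) (d : ↥S), (g : Equiv.Perm X) (σ r) = ρ d (σ r) → bar ρ g r = r := by
      intro r d hd
      rw [← mk_apply_sigma ρ σ hσ g r, hd, mk_smul_eq, hσ]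
    have hY : ∀ r ∈ Y, bar ρ g r = r := by
      intro r hr
      obtain ⟨d, -, hd⟩ := hQσ r hr
      exact hfixσ r d hd
    have hdl : ∀ (r : R ρ) (d : ↥S), (g : Equiv.Perm X) (σ r) = ρ d (σ r) →
        dl ρ σ hσ ((g : Equiv.Perm X) (σ r)) = d := by
      intro r d hd
      apply dl_unique ρ hfree σ hσ
      rw [mk_apply_sigma ρ σ hσ g r, hfixσ r d hd, hd]
    have hf : ∀ r ∈ Y, lam (dl ρ σ hσ ((g : Equiv.Perm X) (σ r))) ≠ 1 := by
      intro r hr
      obtain ⟨d, hd1, hd⟩ := hQσ r hr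
      rw [hdl r d hd]
      exact hd1
    have h1 : ∀ r, r ∉ Y → bar ρ g r = r → lam (dl ρ σ hσ ((g : Equiv.Perm X) (σ r))) = 1 := by
      intro r hr hfix
      by_contra hne
      apply hr
      rw [hYmem]
      refine ⟨σ r, hσ r, dl ρ σ hσ ((g : Equiv.Perm X) (σ r)), hne, ?_⟩
      have h2 := dl_spec ρ σ hσ ((g : Equiv.Perm X) (σ r))
      rw [mk_apply_sigma ρ σ hσ g r, hfix] at h2
      exact h2.symm
    rw [hτj, prod_dl_eq_of_involution ρ hfree σ hσ lam g hgg Y hY h1]
    apply prod_ne_one_of_odd hZ Y _ hf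
    -- the parity
    let C' : Subgroup ↥S := Subgroup.centralizer {j}
    let K₂ : Subgroup (Gr ρ) := C'.map ι
    have hK₂ : IsPGroup 2 K₂ := (hS.to_subgroup C').map ι
    have hYinv : ∀ (k : ↥K₂) (r : R ρ), r ∈ (Y : Set (R ρ)) → k • r ∈ (Y : Set (R ρ)) := by
      rintro ⟨_, b, hb, rfl⟩ r hr
      rw [Finset.mem_coe, hYmem] at hr ⊢
      obtain ⟨x, rfl, d, hd1, hd⟩ := hr
      refine ⟨((ι b : Gr ρ) : Equiv.Perm X) x, rfl, d, hd1, ?_⟩
      have hcomm : g * ι b = ι b * g := by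
        rw [hgdef, ← map_mul, ← map_mul]
        congr 1
        exact (Subgroup.mem_centralizer_iff.mp hb j (Set.mem_singleton j))
      have e1 : (g : Equiv.Perm X) (((ι b : Gr ρ) : Equiv.Perm X) x) =
          ((g * ι b : Gr ρ) : Equiv.Perm X) x := rfl
      rw [e1, hcomm]
      show ((ι b : Gr ρ) : Equiv.Perm X) ((g : Equiv.Perm X) x) = _
      rw [hd, comm_of_mem ρ (ι b).2]
    have hfixY : fixedPoints ↥K₂ (R ρ) ⊆ (Y : Set (R ρ)) := by
      intro r hr
      rw [Finset.mem_coe, hYmem]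
      obtain ⟨T₁, θ, hθ, hiff⟩ := hT' (σ r)
      have hCT : ∀ b : ↥S, b ∈ C' → (b : Ω) ∈ T₁ := by
        intro b hb
        have h2 : (⟨ι b, Subgroup.mem_map_of_mem ι hb⟩ : ↥K₂) • r = r := hr _
        have h3 : bar ρ (ι b) r = r := h2
        rw [← mk_apply_sigma ρ σ hσ (ι b) r] at h3
        have h4 : Quotient.mk (rel ρ) (((ι b : Gr ρ) : Equiv.Perm X) (σ r)) = Quotient.mk (rel ρ) (σ r) := by
          rw [h3, hσ]
        obtain ⟨e, he⟩ := Quotient.exact h4
        have h5 : ((ι b : Gr ρ) : Equiv.Perm X) (σ r) = ρ e⁻¹ (σ r) := by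
          have h6 : ρ e⁻¹ (ρ e (((ι b : Gr ρ) : Equiv.Perm X) (σ r))) = ρ e⁻¹ (σ r) :=
            congrArg (fun z => ρ e⁻¹ z) he
          rw [← Equiv.Perm.mul_apply, ← map_mul, inv_mul_cancel, map_one] at h6
          exact h6
        exact ((hiff b e⁻¹).mp h5).1
      have hjC : j ∈ C' := by
        rw [Subgroup.mem_centralizer_iff]
        intro y hy
        rw [Set.mem_singleton_iff.mp hy]
      have hjT : (j : Ω) ∈ T₁ := hCT j hjC
      have hwS : θ ⟨j, hjT⟩ ∈ S := (F.le_of_mem hθ).2 _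
      set w : ↥S := ⟨θ ⟨j, hjT⟩, hwS⟩ with hw
      have hgw : (g : Equiv.Perm X) (σ r) = ρ w⁻¹ (σ r) := by
        apply (hiff j w⁻¹).mpr
        refine ⟨hjT, ?_⟩
        rw [inv_inv]
      refine ⟨σ r, hσ r, w⁻¹, ?_, hgw⟩
      rw [map_inv, Ne, inv_eq_one]
      -- the conjugating map
      have hzT : Subgroup.zpowers (j : Ω) ≤ T₁ := by
        rw [Subgroup.zpowers_le]; exact hjT
      let φ : ↥(Subgroup.zpowers (j : Ω)) →* Ω := θ.comp (Subgroup.inclusion hzT)
      have hφ : φ ∈ F.Hom (Subgroup.zpowers (j : Ω)) := fs_restrict_mem F hzT hθ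
      have hφj : φ ⟨j, Subgroup.mem_zpowers _⟩ = (w : Ω) := rfl
      have hconjw : F.IsConjElt (j : Ω) (w : Ω) := ⟨φ, hφ, hφj⟩
      have hrange : φ.range = Subgroup.zpowers (w : Ω) := by
        apply le_antisymm
        · rintro _ ⟨⟨y, hy⟩, rfl⟩
          obtain ⟨k, rfl⟩ := Subgroup.mem_zpowers_iff.mp hy
          have : (⟨(j : Ω) ^ k, hy⟩ : ↥(Subgroup.zpowers (j : Ω))) =
              (⟨j, Subgroup.mem_zpowers _⟩ : ↥(Subgroup.zpowers (j : Ω))) ^ k := Subtype.ext rfl
          rw [this, map_zpow, hφj]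
          exact Subgroup.zpow_mem_zpowers _ k
        · rw [Subgroup.zpowers_le]
          exact ⟨_, hφj⟩
      have hcw : F.IsConj (Subgroup.zpowers (j : Ω)) (Subgroup.zpowers (w : Ω)) := ⟨φ, hφ, hrange⟩
      apply h w hconjw
      refine ⟨by rw [Subgroup.zpowers_le]; exact w.2, fun Q' hQ' => ?_⟩
      refine (hjfn.2 Q' (isConj_trans F hcw hQ')).trans ?_
      -- `θ` maps `N_S(⟨j⟩)` into `N_S(⟨w⟩)`
      have hwΩ2 : orderOf (w : Ω) = 2 := by
        have : orderOf (θ ⟨j, hjT⟩) = orderOf (⟨j, hjT⟩ : ↥T₁) := orderOf_injective θ (F.injective_of_mem hθ) _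
        rw [← Subgroup.orderOf_coe] at this
        exact this.trans hjΩ2
      have hNT : normalizerIn S (Subgroup.zpowers (j : Ω)) ≤ T₁ := by
        intro s hs
        have hsS : s ∈ S := hs.1
        have hs2 := (mem_normalizer_zpowers_iff hjΩ2 s).mp hs.2
        apply hCT ⟨s, hsS⟩
        rw [Subgroup.mem_centralizer_iff]
        intro y hy
        rw [Set.mem_singleton_iff.mp hy]
        apply Subtype.ext
        show (j : Ω) * s = s * j
        calc (j : Ω) * s = (s * j * s⁻¹) * s := by rw [hs2]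
          _ = s * j := by group
      have hmemN : ∀ s : ↥(normalizerIn S (Subgroup.zpowers (j : Ω))),
          θ ⟨s, hNT s.2⟩ ∈ normalizerIn S (Subgroup.zpowers (w : Ω)) := by
        intro s
        refine ⟨(F.le_of_mem hθ).2 _, ?_⟩
        apply (mem_normalizer_zpowers_iff hwΩ2 _).mpr
        have hs2 := (mem_normalizer_zpowers_iff hjΩ2 (s : Ω)).mp s.2.2
        show θ ⟨s, hNT s.2⟩ * θ ⟨j, hjT⟩ * (θ ⟨s, hNT s.2⟩)⁻¹ = θ ⟨j, hjT⟩
        rw [← map_inv, ← map_mul, ← map_mul]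
        congr 1
        exact Subtype.ext hs2
      let f : ↥(normalizerIn S (Subgroup.zpowers (j : Ω))) → ↥(normalizerIn S (Subgroup.zpowers (w : Ω))) :=
        fun s => ⟨θ ⟨s, hNT s.2⟩, hmemN s⟩
      have hfinj : Function.Injective f := by
        intro a b hab
        have h1 : θ ⟨a, hNT a.2⟩ = θ ⟨b, hNT b.2⟩ := Subtype.ext_iff.mp hab
        have h2 := F.injective_of_mem hθ h1
        exact Subtype.ext (congrArg (fun z : ↥T₁ => (z : Ω)) h2)
      have : Finite ↥(normalizerIn S (Subgroup.zpowers (w : Ω))) :=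
        Finite.of_injective (Subgroup.inclusion (inf_le_left : normalizerIn S _ ≤ S))
          (Subgroup.inclusion_injective _)
      exact Nat.card_le_card_of_injective f hfinj
    have hmod := card_modEq_of_fixedPoints_subset hK₂ (Y : Set (R ρ)) hYinv hfixY
    have hodd : ¬ 2 ∣ Nat.card ↥(Y : Set (R ρ)) := fun h2 => hn ((hmod.dvd_iff dvd_rfl).mp h2)
    have hcardY : Nat.card ↥(Y : Set (R ρ)) = Y.card := by
      rw [Nat.card_eq_fintype_card]; simp
    rw [hcardY] at hodd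
    exact Nat.odd_iff.mpr (Nat.two_dvd_ne_zero.mp hodd)

end Cfsg.Agent.Lib.Helper7.ThompsonFus
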