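import Mathlib
import Cfsg.Prelude.Def_FusionSystem
import Cfsg.Agent.Lib.Helper7.ThompsonFusB
import Cfsg.Agent.Lib.Helper7.FusionFocal

/-!
# Thompson transfer for fusion systems, part C: the theorem (S5192)
-/

set_option autoImplicit false
set_option linter.unusedVariables false
set_option linter.unusedSectionVars false

universe u

namespace Cfsg.Agent.Lib.Helper7.ThompsonFus

open Cfsg Cfsg.FusionSystem Cfsg.Agent.Lib.Helper7

variable {Ω : Type u} [Group Ω] {S : Subgroup Ω}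

theorem range_eq_zpowers {G : Type*} [Group G] {i : G} (φ : ↥(Subgroup.zpowers i) →* G) :
    φ.range = Subgroup.zpowers (φ ⟨i, Subgroup.mem_zpowers i⟩) := by
  apply le_antisymm
  · rintro _ ⟨⟨y, hy⟩, rfl⟩
    obtain ⟨k, rfl⟩ := Subgroup.mem_zpowers_iff.mp hy
    have : (⟨i ^ k, hy⟩ : ↥(Subgroup.zpowers i)) =
        (⟨i, Subgroup.mem_zpowers _⟩ : ↥(Subgroup.zpowers i)) ^ k := Subtype.ext rfl
    rw [this, map_zpow]
    exact Subgroup.zpow_mem_zpowers _ k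
  · rw [Subgroup.zpowers_le]
    exact ⟨_, rfl⟩

theorem isConjElt_trans (F : FusionSystem S) {a b c : Ω} (h1 : F.IsConjElt a b) (h2 : F.IsConjElt b c) :
    F.IsConjElt a c := by
  obtain ⟨φ, hφ, hφa⟩ := h1
  obtain ⟨ψ, hψ, hψb⟩ := h2
  have h : ∀ x : ↥(Subgroup.zpowers a), φ x ∈ Subgroup.zpowers b := by
    intro x
    have : φ x ∈ φ.range := ⟨x, rfl⟩
    rw [range_eq_zpowers, hφa] at this
    exact this
  refine ⟨_, F.comp_mem hφ hψ h, ?_⟩
  show ψ ⟨φ ⟨a, _⟩, _⟩ = c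
  rw [← hψb]
  congr 1
  exact Subtype.ext hφa

/-- **Thompson transfer for fusion systems**: the involution is not in the focal subgroup -/
theorem thompson_transfer [Finite S] (hS : IsPGroup 2 S) (F : FusionSystem S) (hF : F.IsSaturated 2)
    (T : Subgroup Ω) (hTS : T ≤ S) (hT : T.relIndex S = 2)
    (i : Ω) (hi : i ∈ S) (hi2 : orderOf i = 2)
    (h : ∀ j : Ω, F.IsConjElt i j → F.IsFullyNormalized (Subgroup.zpowers j) → j ∉ T) :
    i ∉ F.focalSubgroup := by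
  classical
  have hp2 : Fact (Nat.Prime 2) := ⟨Nat.prime_two⟩
  set T' : Subgroup ↥S := T.subgroupOf S with hT'
  have hidx : T'.index = 2 := hT
  have hT'n : T'.Normal := Subgroup.normal_of_index_eq_two hidx
  have hZ : Nat.card (↥S ⧸ T') = 2 := by
    rw [← Subgroup.index_eq_card]; exact hidx
  have hcyc : IsCyclic (↥S ⧸ T') := isCyclic_of_prime_card hZ
  let instC : CommGroup (↥S ⧸ T') :=
    { (inferInstance : Group (↥S ⧸ T')) with mul_comm := IsCyclic.commGroup.mul_comm }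
  let lam : ↥S →* ↥S ⧸ T' := QuotientGroup.mk' T'
  have hlam : ∀ s : ↥S, lam s = 1 ↔ (s : Ω) ∈ T := by
    intro s
    rw [← Subgroup.mem_subgroupOf]
    exact QuotientGroup.eq_one_iff s
  -- a fully normalized conjugate
  have hzS : Subgroup.zpowers i ≤ S := by rw [Subgroup.zpowers_le]; exact hi
  obtain ⟨Q, ⟨φ, hφ, hφr⟩, hQfn⟩ := exists_isFullyNormalized_conj F hzS
  set j : Ω := φ ⟨i, Subgroup.mem_zpowers i⟩ with hj
  have hjS : j ∈ S := (F.le_of_mem hφ).2 _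
  have hQj : Q = Subgroup.zpowers j := by rw [← hφr, range_eq_zpowers]
  have hij : F.IsConjElt i j := ⟨φ, hφ, rfl⟩
  have hj2 : orderOf (⟨j, hjS⟩ : ↥S) = 2 := by
    rw [← Subgroup.orderOf_coe]
    show orderOf (φ ⟨i, Subgroup.mem_zpowers i⟩) = 2
    rw [orderOf_injective φ (F.injective_of_mem hφ), ← Subgroup.orderOf_coe]
    exact hi2
  rw [hQj] at hQfn
  obtain ⟨τ, hτ, hτj⟩ := transfer_involution_ne_one hS F hF hZ lam ⟨j, hjS⟩ hj2 hQfn (by
    intro w hjw hwfn hlw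
    exact h (w : Ω) (isConjElt_trans F hij hjw) hwfn ((hlam w).mp hlw))
  have hτi : τ ⟨i, hi⟩ = τ ⟨j, hjS⟩ := (hτ _ φ hφ ⟨i, Subgroup.mem_zpowers i⟩).symm
  intro hifoc
  have hle : F.focalSubgroup ≤ τ.ker.map S.subtype := by
    unfold focalSubgroup
    rw [Subgroup.closure_le]
    rintro _ ⟨P, ψ, x, hψ, rfl⟩
    refine ⟨⟨x, (F.le_of_mem hψ).1 x.2⟩⁻¹ * ⟨ψ x, (F.le_of_mem hψ).2 x⟩, ?_, rfl⟩
    show τ _ = 1
    rw [map_mul, map_inv, hτ P ψ hψ x, inv_mul_cancel]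
  obtain ⟨y, hy, hyi⟩ := hle hifoc
  have : y = ⟨i, hi⟩ := Subtype.ext hyi
  rw [this] at hy
  apply hτj
  rw [← hτi]
  exact hy

end Cfsg.Agent.Lib.Helper7.ThompsonFus
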