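import Mathlib
import Cfsg.Agent.Lib.Lead.PGroup

set_option autoImplicit false

namespace Cfsg.Agent.Lib.Helper7

open scoped Pointwise

variable {G : Type*} [Group G]

/-- conjugation by an element normalizing `V`, as an endomorphism of `V` -/
def cjHom (V : Subgroup G) (g : G) (hg : g ∈ Subgroup.normalizer (V : Set G)) : ↥V →* ↥V where
  toFun v := ⟨g * v * g⁻¹, (Subgroup.mem_normalizer_iff.mp hg v).mp v.2⟩
  map_one' := by apply Subtype.ext; simp
  map_mul' a b := by apply Subtype.ext; simp [mul_assoc]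

@[simp] theorem cjHom_coe (V : Subgroup G) (g : G) (hg : g ∈ Subgroup.normalizer (V : Set G)) (v : ↥V) :
    ((cjHom V g hg v : ↥V) : G) = g * v * g⁻¹ := rfl

theorem conj_eq_conj_of_mem {T : Subgroup G} {u : G} (hu : u ∈ Subgroup.centralizer (T : Set G))
    {g g' : G} (h : g⁻¹ * g' ∈ T) : g * u * g⁻¹ = g' * u * g'⁻¹ := by
  have hc := Subgroup.mem_centralizer_iff.mp hu _ h
  have e : g' = g * (g⁻¹ * g') := by group
  generalize g⁻¹ * g' = t at hc e
  rw [e]
  calc g * u * g⁻¹ = g * (u * t) * t⁻¹ * g⁻¹ := by group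
    _ = g * (t * u) * t⁻¹ * g⁻¹ := by rw [hc]
    _ = _ := by group

variable [Finite G] {p : ℕ} [Fact p.Prime]

/-- Equivariant trace argument: if the `p`-group `P ≥ V` normalizes `V, R, T`, `|R : T|` is prime to `p`
and all `P`-fixed points of `C_V(T)` are fixed by `R`, then `R` centralizes `C_V(T)`. -/
theorem centralizer_le_of_fixed_points (V R T P : Subgroup G)
    (hVc : ∀ a ∈ V, ∀ b ∈ V, a * b = b * a) (hVp : ∀ a ∈ V, a ^ p = 1)
    (hRV : R ≤ Subgroup.normalizer (V : Set G)) (hTR : T ≤ R) (hidx : ¬ p ∣ T.relIndex R)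
    (hP : IsPGroup p P) (hVP : V ≤ P) (hPV : P ≤ Subgroup.normalizer (V : Set G))
    (hPR : P ≤ Subgroup.normalizer (R : Set G)) (hPT : P ≤ Subgroup.normalizer (T : Set G))
    (hfix : V ⊓ Subgroup.centralizer (T : Set G) ⊓ Subgroup.centralizer (P : Set G) ≤
      Subgroup.centralizer (R : Set G)) :
    V ⊓ Subgroup.centralizer (T : Set G) ≤ Subgroup.centralizer (R : Set G) := by
  have hp : p.Prime := Fact.out
  letI : CommGroup ↥V :=
    { (inferInstance : Group ↥V) with mul_comm := fun a b => Subtype.ext (hVc a a.2 b b.2) }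
  letI : Fintype (↥R ⧸ T.subgroupOf R) := Fintype.ofFinite _
  let Nm : ↥V →* ↥V :=
    { toFun := fun v => ∏ q : ↥R ⧸ T.subgroupOf R, cjHom V ((q.out : ↥R) : G) (hRV (q.out : ↥R).2) v
      map_one' := by simp
      map_mul' := fun a b => by simp [Finset.prod_mul_distrib] }
  have hNm : ∀ v, Nm v =
      ∏ q : ↥R ⧸ T.subgroupOf R, cjHom V ((q.out : ↥R) : G) (hRV (q.out : ↥R).2) v := fun v => rfl
  obtain ⟨n, hn⟩ : ∃ n, n = Fintype.card (↥R ⧸ T.subgroupOf R) := ⟨_, rfl⟩
  have hnidx : n = T.relIndex R := by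
    rw [hn, Subgroup.relIndex, Subgroup.index, Nat.card_eq_fintype_card]
  -- N1 : the norm of a `T`-fixed element is `R`-fixed
  have hN1 : ∀ u : ↥V, (u : G) ∈ Subgroup.centralizer (T : Set G) → ∀ r : ↥R,
      cjHom V (r : G) (hRV r.2) (Nm u) = Nm u := by
    intro u hu r
    rw [hNm, map_prod]
    have h2 : ∀ q : ↥R ⧸ T.subgroupOf R,
        cjHom V (r : G) (hRV r.2) (cjHom V ((q.out : ↥R) : G) (hRV (q.out : ↥R).2) u) =
          cjHom V (((r • q).out : ↥R) : G) (hRV ((r • q).out : ↥R).2) u := by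
      intro q
      have hmk : ((r • q).out : ↥R ⧸ T.subgroupOf R) = ((r * q.out : ↥R) : ↥R ⧸ T.subgroupOf R) := by
        rw [QuotientGroup.out_eq']
        conv_lhs => rw [← QuotientGroup.out_eq' q]
        rfl
      have hmem : (r * q.out)⁻¹ * (r • q).out ∈ T.subgroupOf R := QuotientGroup.eq.mp hmk.symm
      have hmemT : (((r * q.out)⁻¹ * (r • q).out : ↥R) : G) ∈ T := Subgroup.mem_subgroupOf.mp hmem
      apply Subtype.ext
      have := conj_eq_conj_of_mem hu (g := (r : G) * ((q.out : ↥R) : G))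
        (g' := (((r • q).out : ↥R) : G)) (by simpa using hmemT)
      simp only [cjHom_coe]
      rw [← this]
      group
    simp_rw [h2]
    exact Fintype.prod_equiv (MulAction.toPerm r) _ _ (fun q => rfl)
  -- N2 : on `R`-fixed elements the norm is the `n`-th power
  have hN2 : ∀ u : ↥V, (u : G) ∈ Subgroup.centralizer (R : Set G) → Nm u = u ^ n := by
    intro u hu
    rw [hNm]
    have : ∀ q : ↥R ⧸ T.subgroupOf R, cjHom V ((q.out : ↥R) : G) (hRV (q.out : ↥R).2) u = u := by
      intro q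
      apply Subtype.ext
      have hc := Subgroup.mem_centralizer_iff.mp hu _ (q.out : ↥R).2
      simp only [cjHom_coe]
      rw [hc]; group
    simp_rw [this]
    rw [Finset.prod_const, Finset.card_univ, hn]
  -- N4 : equivariance under `P`
  have hN4 : ∀ u : ↥V, (u : G) ∈ Subgroup.centralizer (T : Set G) → ∀ x (hx : x ∈ P),
      cjHom V x (hPV hx) (Nm u) = Nm (cjHom V x (hPV hx) u) := by
    intro u hu x hx
    have hxR : ∀ r : ↥R, x * (r : G) * x⁻¹ ∈ R := fun r =>
      (Subgroup.mem_normalizer_iff.mp (hPR hx) r).mp r.2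
    let σ : ↥R ⧸ T.subgroupOf R → ↥R ⧸ T.subgroupOf R := fun q =>
      ((⟨x * ((q.out : ↥R) : G) * x⁻¹, hxR _⟩ : ↥R) : ↥R ⧸ T.subgroupOf R)
    have hσ : Function.Injective σ := by
      intro q q' h
      have h1 : (⟨x * ((q.out : ↥R) : G) * x⁻¹, hxR _⟩ : ↥R)⁻¹ *
          (⟨x * ((q'.out : ↥R) : G) * x⁻¹, hxR _⟩ : ↥R) ∈ T.subgroupOf R := QuotientGroup.eq.mp h
      have h2 : (x * ((q.out : ↥R) : G) * x⁻¹)⁻¹ * (x * ((q'.out : ↥R) : G) * x⁻¹) ∈ T := by
        simpa [Subgroup.mem_subgroupOf] using h1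
      have h3 : x * (((q.out : ↥R) : G)⁻¹ * ((q'.out : ↥R) : G)) * x⁻¹ ∈ T := by
        have e : x * (((q.out : ↥R) : G)⁻¹ * ((q'.out : ↥R) : G)) * x⁻¹ =
            (x * ((q.out : ↥R) : G) * x⁻¹)⁻¹ * (x * ((q'.out : ↥R) : G) * x⁻¹) := by group
        rw [e]; exact h2
      have h4 : ((q.out : ↥R) : G)⁻¹ * ((q'.out : ↥R) : G) ∈ T :=
        (Subgroup.mem_normalizer_iff.mp (hPT hx) _).mpr h3
      have h5 : (q.out : ↥R)⁻¹ * (q'.out : ↥R) ∈ T.subgroupOf R := by
        rw [Subgroup.mem_subgroupOf]; simpa using h4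
      have := QuotientGroup.eq.mpr h5
      rwa [QuotientGroup.out_eq', QuotientGroup.out_eq'] at this
    have hσb : Function.Bijective σ := Finite.injective_iff_bijective.mp hσ
    have hu' : ((cjHom V x (hPV hx) u : ↥V) : G) ∈ Subgroup.centralizer (T : Set G) := by
      apply Subgroup.mem_centralizer_iff.mpr
      intro t ht
      have ht' : x⁻¹ * t * x ∈ T := by
        have := (Subgroup.mem_normalizer_iff.mp (hPT hx) (x⁻¹ * t * x)).mpr (by
          have e : x * (x⁻¹ * t * x) * x⁻¹ = t := by group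
          rw [e]; exact ht)
        exact this
      have hc := Subgroup.mem_centralizer_iff.mp hu _ ht'
      simp only [cjHom_coe]
      calc t * (x * (u : G) * x⁻¹) = x * ((x⁻¹ * t * x) * (u : G)) * x⁻¹ := by group
        _ = x * ((u : G) * (x⁻¹ * t * x)) * x⁻¹ := by rw [hc]
        _ = _ := by group
    rw [hNm, map_prod, hNm]
    have h2 : ∀ q : ↥R ⧸ T.subgroupOf R,
        cjHom V x (hPV hx) (cjHom V ((q.out : ↥R) : G) (hRV (q.out : ↥R).2) u) =
          cjHom V (((σ q).out : ↥R) : G) (hRV ((σ q).out : ↥R).2) (cjHom V x (hPV hx) u) := by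
      intro q
      have hmk : (((σ q).out : ↥R) : ↥R ⧸ T.subgroupOf R) =
          ((⟨x * ((q.out : ↥R) : G) * x⁻¹, hxR _⟩ : ↥R) : ↥R ⧸ T.subgroupOf R) := by
        rw [QuotientGroup.out_eq']
      have hmem := QuotientGroup.eq.mp hmk.symm
      have hmemT : (x * ((q.out : ↥R) : G) * x⁻¹)⁻¹ * (((σ q).out : ↥R) : G) ∈ T := by
        simpa [Subgroup.mem_subgroupOf] using hmem
      apply Subtype.ext
      have := conj_eq_conj_of_mem hu' hmemT
      simp only [cjHom_coe] at this ⊢
      rw [← this]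
      group
    simp_rw [h2]
    exact hσb.prod_comp (fun q => cjHom V ((q.out : ↥R) : G) (hRV (q.out : ↥R).2)
      (cjHom V x (hPV hx) u))
  -- the kernel of the norm on `C_V(T)` is trivial
  let U₁' : Subgroup ↥V := Nm.ker ⊓ (Subgroup.centralizer (T : Set G)).subgroupOf V
  have hU₁ : U₁' = ⊥ := by
    by_contra hne
    let U₁ : Subgroup G := U₁'.map V.subtype
    have hU₁V : U₁ ≤ V := Subgroup.map_subtype_le _
    have hU₁ne : U₁ ≠ ⊥ := by
      intro h
      apply hne
      exact (Subgroup.map_eq_bot_iff_of_injective _ V.subtype_injective).mp h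
    have hnorm : P ≤ Subgroup.normalizer (U₁ : Set G) := by
      have key : ∀ x ∈ P, ∀ v ∈ U₁, x * v * x⁻¹ ∈ U₁ := by
        rintro x hx _ ⟨v, hv, rfl⟩
        have hv1 : Nm v = 1 := hv.1
        have hv2 : (v : G) ∈ Subgroup.centralizer (T : Set G) := hv.2
        refine ⟨cjHom V x (hPV hx) v, ⟨?_, ?_⟩, rfl⟩
        · show Nm (cjHom V x (hPV hx) v) = 1
          rw [← hN4 v hv2 x hx, hv1, map_one]
        · show ((cjHom V x (hPV hx) v : ↥V) : G) ∈ Subgroup.centralizer (T : Set G)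
          apply Subgroup.mem_centralizer_iff.mpr
          intro t ht
          have ht' : x⁻¹ * t * x ∈ T := by
            refine (Subgroup.mem_normalizer_iff.mp (hPT hx) (x⁻¹ * t * x)).mpr ?_
            have e : x * (x⁻¹ * t * x) * x⁻¹ = t := by group
            rw [e]; exact ht
          have hc := Subgroup.mem_centralizer_iff.mp hv2 _ ht'
          simp only [cjHom_coe]
          calc t * (x * (v : G) * x⁻¹) = x * ((x⁻¹ * t * x) * (v : G)) * x⁻¹ := by group
            _ = x * ((v : G) * (x⁻¹ * t * x)) * x⁻¹ := by rw [hc]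
            _ = _ := by group
      intro x hx
      apply Subgroup.mem_normalizer_iff.mpr
      intro v
      constructor
      · exact key x hx v
      · intro h
        have := key x⁻¹ (P.inv_mem hx) _ h
        have e : x⁻¹ * (x * v * x⁻¹) * x⁻¹⁻¹ = v := by group
        rwa [e] at this
    haveI : (U₁.subgroupOf P).Normal :=
      (Subgroup.normal_subgroupOf_iff_le_normalizer (hU₁V.trans hVP)).mpr hnorm
    have hne' : U₁.subgroupOf P ≠ ⊥ := by
      intro h
      apply hU₁ne
      rw [Subgroup.subgroupOf_eq_bot] at h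
      rw [← inf_of_le_left (hU₁V.trans hVP)]
      exact disjoint_iff.mp h
    obtain ⟨z, hzU, hzZ, hz1⟩ :=
      Cfsg.Agent.Lib.Lead.PGroup.exists_mem_center_of_normal hP (U₁.subgroupOf P) hne'
    have hzU' : (z : G) ∈ U₁ := Subgroup.mem_subgroupOf.mp hzU
    obtain ⟨v, hv, hvz⟩ := hzU'
    have hv1 : Nm v = 1 := hv.1
    have hv2 : (v : G) ∈ Subgroup.centralizer (T : Set G) := hv.2
    have hvP : (v : G) ∈ Subgroup.centralizer (P : Set G) := by
      apply Subgroup.mem_centralizer_iff.mpr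
      intro y hy
      have := Subgroup.mem_center_iff.mp hzZ ⟨y, hy⟩
      have h2 := congrArg Subtype.val this
      have h3 : (V.subtype v : G) = (v : G) := rfl
      rw [← h3, hvz]
      simpa using h2
    have hvR : (v : G) ∈ Subgroup.centralizer (R : Set G) := hfix ⟨⟨v.2, hv2⟩, hvP⟩
    have h4 := hN2 v hvR
    rw [hv1] at h4
    have hvp : v ^ p = 1 := Subtype.ext (by simpa using hVp v v.2)
    have hcop : n.Coprime p := by
      rw [hnidx]; exact ((Nat.Prime.coprime_iff_not_dvd hp).mpr hidx).symm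
    have hv_one : v = 1 := by
      have h5 : orderOf v ∣ n := orderOf_dvd_of_pow_eq_one h4.symm
      have h6 : orderOf v ∣ p := orderOf_dvd_of_pow_eq_one hvp
      have h7 : orderOf v ∣ 1 := by
        have := Nat.dvd_gcd h5 h6
        rwa [hcop] at this
      exact orderOf_eq_one_iff.mp (Nat.dvd_one.mp h7)
    apply hz1
    apply Subtype.ext
    rw [← hvz, hv_one]
    simp
  -- conclusion
  intro u hu
  have huV : u ∈ V := hu.1
  have huT : u ∈ Subgroup.centralizer (T : Set G) := hu.2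
  let uu : ↥V := ⟨u, huV⟩
  have hNuR : ((Nm uu : ↥V) : G) ∈ Subgroup.centralizer (R : Set G) := by
    apply Subgroup.mem_centralizer_iff.mpr
    intro r hr
    have := congrArg Subtype.val (hN1 uu huT ⟨r, hr⟩)
    simp only [cjHom_coe] at this
    calc r * ((Nm uu : ↥V) : G) = (r * ((Nm uu : ↥V) : G) * r⁻¹) * r := by group
      _ = ((Nm uu : ↥V) : G) * r := by rw [this]
  have hy : uu ^ n * (Nm uu)⁻¹ ∈ U₁' := by
    refine ⟨?_, ?_⟩
    · show Nm (uu ^ n * (Nm uu)⁻¹) = 1
      rw [map_mul, map_pow, map_inv, hN2 (Nm uu) hNuR, mul_inv_cancel]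
    · show ((uu ^ n * (Nm uu)⁻¹ : ↥V) : G) ∈ Subgroup.centralizer (T : Set G)
      have h1 : ((Nm uu : ↥V) : G) ∈ Subgroup.centralizer (T : Set G) :=
        Subgroup.centralizer_le (by exact_mod_cast hTR) hNuR
      simp only [Subgroup.coe_mul, Subgroup.coe_pow, Subgroup.coe_inv]
      exact Subgroup.mul_mem _ (Subgroup.pow_mem _ huT _) (Subgroup.inv_mem _ h1)
  rw [hU₁, Subgroup.mem_bot] at hy
  have hun : u ^ n ∈ Subgroup.centralizer (R : Set G) := by
    have h1 : uu ^ n = Nm uu := by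
      rw [mul_inv_eq_one] at hy; exact hy
    have h2 := congrArg Subtype.val h1
    simp only [Subgroup.coe_pow] at h2
    rw [show ((uu : ↥V) : G) = u from rfl] at h2
    rw [h2]; exact hNuR
  have hcop : n.Coprime p := by
    rw [hnidx]; exact ((Nat.Prime.coprime_iff_not_dvd hp).mpr hidx).symm
  obtain ⟨m', -, hm'⟩ := Nat.exists_mul_mod_eq_one_of_coprime hcop hp.one_lt
  have h5 := Subgroup.pow_mem _ hun m'
  rw [← pow_mul, pow_eq_pow_mod _ (hVp u huV), hm', pow_one] at h5
  exact h5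

end Cfsg.Agent.Lib.Helper7
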