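import Mathlib
import Cfsg.Prelude.Def_PLocal
import Cfsg.Agent.Lib.Helper7.Kieler1
import Cfsg.Agent.Lib.Helper7.KNormalizer
import Cfsg.Agent.Lib.Helper7.SylowLib

set_option autoImplicit false

namespace Cfsg.Agent.Lib.Helper7

open Cfsg
open scoped Pointwise commutatorElement

variable {G : Type*} [Group G]

/-- `Ω₁(Z(X))` as an explicit subgroup -/
def omZ (p : ℕ) (X : Subgroup G) : Subgroup G where
  carrier := {x | x ∈ X ∧ x ∈ Subgroup.centralizer (X : Set G) ∧ x ^ p = 1}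
  one_mem' := ⟨X.one_mem, Subgroup.one_mem _, one_pow _⟩
  mul_mem' := by
    rintro a b ⟨ha, hac, hap⟩ ⟨hb, hbc, hbp⟩
    refine ⟨X.mul_mem ha hb, Subgroup.mul_mem _ hac hbc, ?_⟩
    have hcomm : Commute a b := Subgroup.mem_centralizer_iff.mp hbc a ha
    rw [hcomm.mul_pow, hap, hbp, one_mul]
  inv_mem' := by
    rintro a ⟨ha, hac, hap⟩
    exact ⟨X.inv_mem ha, Subgroup.inv_mem _ hac, by rw [inv_pow, hap, inv_one]⟩

theorem mem_omZ (p : ℕ) (X : Subgroup G) (x : G) :
    x ∈ omZ p X ↔ x ∈ X ∧ x ∈ Subgroup.centralizer (X : Set G) ∧ x ^ p = 1 := Iff.rfl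

theorem omegaOne_center_eq (p : ℕ) (X : Subgroup G) :
    omegaOne p (X ⊓ Subgroup.centralizer (X : Set G)) = omZ p X := by
  apply le_antisymm
  · unfold omegaOne
    rw [Subgroup.closure_le]
    rintro x ⟨hx, hxp⟩
    exact ⟨hx.1, hx.2, hxp⟩
  · rintro x ⟨hx, hxc, hxp⟩
    exact Subgroup.subset_closure ⟨⟨hx, hxc⟩, hxp⟩

theorem omZ_le (p : ℕ) (X : Subgroup G) : omZ p X ≤ X := fun _ h => h.1

theorem omZ_comm (p : ℕ) (X : Subgroup G) : ∀ a ∈ omZ p X, ∀ b ∈ omZ p X, a * b = b * a :=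
  fun a ha b hb => Subgroup.mem_centralizer_iff.mp hb.2.1 a ha.1

theorem omZ_pow (p : ℕ) (X : Subgroup G) : ∀ a ∈ omZ p X, a ^ p = 1 := fun _ h => h.2.2

theorem conj_mem_of_le_normalizer {K A : Subgroup G} (h : K ≤ Subgroup.normalizer (A : Set G))
    {k a : G} (hk : k ∈ K) (ha : a ∈ A) : k * a * k⁻¹ ∈ A :=
  (Subgroup.mem_normalizer_iff.mp (h hk) a).mp ha

theorem conj_mem_of_le_normalizer' {K A : Subgroup G} (h : K ≤ Subgroup.normalizer (A : Set G))
    {k a : G} (hk : k ∈ K) (ha : a ∈ A) : k⁻¹ * a * k ∈ A := by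
  have := conj_mem_of_le_normalizer h (K.inv_mem hk) ha
  simpa using this

theorem le_normalizer_of_conj {K A : Subgroup G} (h : ∀ k ∈ K, ∀ a ∈ A, k * a * k⁻¹ ∈ A) :
    K ≤ Subgroup.normalizer (A : Set G) := by
  intro k hk
  apply Subgroup.mem_normalizer_iff.mpr
  intro a
  constructor
  · exact h k hk a
  · intro ha
    have := h k⁻¹ (K.inv_mem hk) _ ha
    have e : k⁻¹ * (k * a * k⁻¹) * k⁻¹⁻¹ = a := by group
    rwa [e] at this

theorem le_normalizer_inf' {K A B : Subgroup G} (hA : K ≤ Subgroup.normalizer (A : Set G))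
    (hB : K ≤ Subgroup.normalizer (B : Set G)) : K ≤ Subgroup.normalizer ((A ⊓ B : Subgroup G) : Set G) :=
  le_normalizer_of_conj fun _ hk _ ha =>
    ⟨conj_mem_of_le_normalizer hA hk ha.1, conj_mem_of_le_normalizer hB hk ha.2⟩

theorem le_normalizer_centralizer' {K A : Subgroup G} (hA : K ≤ Subgroup.normalizer (A : Set G)) :
    K ≤ Subgroup.normalizer ((Subgroup.centralizer (A : Set G) : Subgroup G) : Set G) := by
  apply le_normalizer_of_conj
  intro k hk c hc
  apply Subgroup.mem_centralizer_iff.mpr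
  intro a ha
  have ha' : k⁻¹ * a * k ∈ A := conj_mem_of_le_normalizer' hA hk ha
  have h1 := Subgroup.mem_centralizer_iff.mp hc _ ha'
  calc a * (k * c * k⁻¹) = k * ((k⁻¹ * a * k) * c) * k⁻¹ := by group
    _ = k * (c * (k⁻¹ * a * k)) * k⁻¹ := by rw [h1]
    _ = _ := by group

theorem le_normalizer_sup' {K A B : Subgroup G} (hA : K ≤ Subgroup.normalizer (A : Set G))
    (hB : K ≤ Subgroup.normalizer (B : Set G)) : K ≤ Subgroup.normalizer ((A ⊔ B : Subgroup G) : Set G) := by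
  apply le_normalizer_of_conj
  intro k hk x hx
  have : A ⊔ B ≤ (A ⊔ B).comap (MulAut.conj k).toMonoidHom := by
    apply sup_le
    · intro a ha
      show k * a * k⁻¹ ∈ A ⊔ B
      exact (le_sup_left : A ≤ A ⊔ B) (conj_mem_of_le_normalizer hA hk ha)
    · intro b hb
      show k * b * k⁻¹ ∈ A ⊔ B
      exact (le_sup_right : B ≤ A ⊔ B) (conj_mem_of_le_normalizer hB hk hb)
  exact this hx

theorem le_normalizer_omZ {K X : Subgroup G} (p : ℕ) (hX : K ≤ Subgroup.normalizer (X : Set G)) :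
    K ≤ Subgroup.normalizer ((omZ p X : Subgroup G) : Set G) := by
  apply le_normalizer_of_conj
  rintro k hk x ⟨hx, hxc, hxp⟩
  refine ⟨conj_mem_of_le_normalizer hX hk hx,
    conj_mem_of_le_normalizer (le_normalizer_centralizer' hX) hk hxc, ?_⟩
  rw [conj_pow, hxp]; simp

theorem mem_centralizer_sup {A B : Subgroup G} {v : G}
    (hA : v ∈ Subgroup.centralizer (A : Set G)) (hB : v ∈ Subgroup.centralizer (B : Set G)) :
    v ∈ Subgroup.centralizer ((A ⊔ B : Subgroup G) : Set G) := by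
  have h : A ⊔ B ≤ Subgroup.centralizer ({v} : Set G) := by
    apply sup_le
    · intro a ha
      apply Subgroup.mem_centralizer_iff.mpr
      rintro _ rfl
      exact (Subgroup.mem_centralizer_iff.mp hA a ha).symm
    · intro b hb
      apply Subgroup.mem_centralizer_iff.mpr
      rintro _ rfl
      exact (Subgroup.mem_centralizer_iff.mp hB b hb).symm
  apply Subgroup.mem_centralizer_iff.mpr
  intro y hy
  exact (Subgroup.mem_centralizer_iff.mp (h hy) v rfl).symm

variable [Finite G] {p : ℕ} [Fact p.Prime]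

/-- a normal `p`-subgroup lies in every Sylow `p`-subgroup (ambient version) -/
theorem IsSylowIn.normal_le {S K N : Subgroup G} (hS : IsSylowIn p S K) (hNK : N ≤ K)
    (hN : K ≤ Subgroup.normalizer (N : Set G)) (hNp : IsPGroup p ↥N) : N ≤ S := by
  obtain ⟨a, ha, hconj⟩ := hS.exists_conj_le hNp hNK
  intro x hx
  have h1 : a⁻¹ * x * a ∈ N := conj_mem_of_le_normalizer' hN ha hx
  have h2 := hconj _ h1
  have e : a * (a⁻¹ * x * a) * a⁻¹ = x := by group
  rwa [e] at h2

theorem IsSylowIn.not_dvd_relIndex {S K : Subgroup G} (hS : IsSylowIn p S K) :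
    ¬ p ∣ S.relIndex K := by
  have hp : p.Prime := Fact.out
  have h1 : Nat.card ↥S * S.relIndex K = Nat.card ↥K := by
    have := Subgroup.relIndex_mul_relIndex ⊥ S K bot_le hS.1
    rwa [Subgroup.relIndex_bot_left, Subgroup.relIndex_bot_left] at this
  have hK : Nat.card ↥K ≠ 0 := Nat.card_pos.ne'
  intro hdvd
  obtain ⟨e, he⟩ : ∃ e, e = (Nat.card ↥K).factorization p := ⟨_, rfl⟩
  have hS2 : Nat.card ↥S = p ^ e := by rw [he]; exact hS.2
  have h2 : p ^ (e + 1) ∣ Nat.card ↥K := by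
    obtain ⟨c, hc⟩ := hdvd
    refine ⟨c, ?_⟩
    rw [← h1, hS2, hc, pow_succ]
    ring
  have := (hp.pow_dvd_iff_le_factorization hK).mp h2
  omega

theorem IsSylowIn.not_dvd_relIndex_of_le {S E K : Subgroup G} (hS : IsSylowIn p S K) (hSE : S ≤ E)
    (hEK : E ≤ K) : ¬ p ∣ S.relIndex E := by
  intro h
  apply hS.not_dvd_relIndex
  rw [← Subgroup.relIndex_mul_relIndex S E K hSE hEK]
  exact Dvd.dvd.mul_right h _

end Cfsg.Agent.Lib.Helper7
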