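import Mathlib
import Cfsg.Prelude.Def_LocalEven
import Cfsg.Prelude.Def_FusionReduction

set_option autoImplicit false

namespace Cfsg.Agent.Lib.Helper7

open Cfsg
open scoped Pointwise

universe u v w

section inv

variable {H : Type u} [Group H] {G : Type v} [Group G]

theorem involves_iff_exists_surjective :
    Involves H G ↔ ∃ (K : Subgroup G) (φ : ↥K →* H), Function.Surjective φ := by
  constructor
  · rintro ⟨K, R, hn, ⟨e⟩⟩
    refine ⟨K, e.toMonoidHom.comp (QuotientGroup.mk' (R.subgroupOf K)), ?_⟩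
    exact e.surjective.comp (QuotientGroup.mk'_surjective _)
  · rintro ⟨K, φ, hφ⟩
    have hker : (φ.ker.map K.subtype).subgroupOf K = φ.ker :=
      Subgroup.comap_map_eq_self_of_injective K.subtype_injective _
    have hn : ((φ.ker.map K.subtype).subgroupOf K).Normal := by rw [hker]; infer_instance
    refine ⟨K, φ.ker.map K.subtype, hn, ⟨?_⟩⟩
    exact (QuotientGroup.quotientMulEquivOfEq hker).trans
      (QuotientGroup.quotientKerEquivOfSurjective φ hφ)

theorem involves_of_injective {G' : Type w} [Group G'] (f : G →* G') (hf : Function.Injective f)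
    (h : Involves H G) : Involves H G' := by
  rw [involves_iff_exists_surjective] at h ⊢
  obtain ⟨K, φ, hφ⟩ := h
  refine ⟨K.map f, φ.comp (K.equivMapOfInjective f hf).symm.toMonoidHom, ?_⟩
  exact hφ.comp (K.equivMapOfInjective f hf).symm.surjective

theorem involves_of_le {A B : Subgroup G} (hAB : A ≤ B) (h : Involves H ↥A) : Involves H ↥B :=
  involves_of_injective (Subgroup.inclusion hAB) (Subgroup.inclusion_injective hAB) h

theorem involves_subgroup (Q : Subgroup H) (h : Involves H G) : Involves ↥Q G := by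
  rw [involves_iff_exists_surjective] at h ⊢
  obtain ⟨K, φ, hφ⟩ := h
  have hle : (Q.comap φ).map K.subtype ≤ K := Subgroup.map_subtype_le _
  have hval : ∀ x : ↥((Q.comap φ).map K.subtype), (φ.comp (Subgroup.inclusion hle)) x ∈ Q := by
    rintro ⟨x, ⟨y, hy, rfl⟩⟩
    have : Subgroup.inclusion hle ⟨K.subtype y, ⟨y, hy, rfl⟩⟩ = y := by
      apply Subtype.ext; rfl
    show φ (Subgroup.inclusion hle ⟨K.subtype y, ⟨y, hy, rfl⟩⟩) ∈ Q
    rw [this]
    exact hy
  refine ⟨(Q.comap φ).map K.subtype, (φ.comp (Subgroup.inclusion hle)).codRestrict Q hval, ?_⟩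
  rintro ⟨q, hq⟩
  obtain ⟨k, hk⟩ := hφ q
  have hkQ : k ∈ Q.comap φ := by rw [Subgroup.mem_comap, hk]; exact hq
  refine ⟨⟨K.subtype k, ⟨k, hkQ, rfl⟩⟩, ?_⟩
  apply Subtype.ext
  show φ (Subgroup.inclusion hle ⟨K.subtype k, ⟨k, hkQ, rfl⟩⟩) = q
  have : Subgroup.inclusion hle ⟨K.subtype k, ⟨k, hkQ, rfl⟩⟩ = k := by
    apply Subtype.ext; rfl
  rw [this, hk]

/-- a `p`-group involved in a finite group is involved in each of its Sylow `p`-subgroups -/
theorem involves_sylow_of_isPGroup [Finite G] {p : ℕ} [Fact p.Prime] (hH : IsPGroup p H)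
    (h : Involves H G) (P : Sylow p G) : Involves H ↥(P : Subgroup G) := by
  rw [involves_iff_exists_surjective] at h
  obtain ⟨K, φ, hφ⟩ := h
  obtain ⟨P₁⟩ : Nonempty (Sylow p ↥K) := inferInstance
  -- the image of `P₁` is everything
  have himg : (P₁ : Subgroup ↥K).map φ = ⊤ := by
    have h1 := (P₁.mapSurjective hφ).is_maximal' (Q := ⊤) (hH.to_subgroup ⊤) le_top
    rw [Sylow.coe_mapSurjective] at h1
    exact h1.symm
  -- `P₁` in `G`
  obtain ⟨P₁', hP₁'⟩ : ∃ P₁' : Subgroup G, P₁' = (P₁ : Subgroup ↥K).map K.subtype := ⟨_, rfl⟩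
  have hP₁p : IsPGroup p ↥P₁' := by rw [hP₁']; exact P₁.isPGroup'.map _
  have hle : P₁' ≤ K := by rw [hP₁']; exact Subgroup.map_subtype_le _
  have hinv : Involves H ↥P₁' := by
    rw [involves_iff_exists_surjective]
    refine ⟨⊤, (φ.comp (Subgroup.inclusion hle)).comp (Subgroup.topEquiv : ↥(⊤ : Subgroup ↥P₁') ≃* ↥P₁').toMonoidHom, ?_⟩
    intro x
    have hx : x ∈ (P₁ : Subgroup ↥K).map φ := by rw [himg]; trivial
    obtain ⟨y, hy, rfl⟩ := hx
    have hyP : (y : G) ∈ P₁' := by rw [hP₁']; exact ⟨y, hy, rfl⟩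
    refine ⟨Subgroup.topEquiv.symm ⟨(y : G), hyP⟩, ?_⟩
    show φ (Subgroup.inclusion hle (Subgroup.topEquiv (Subgroup.topEquiv.symm ⟨(y : G), hyP⟩))) = φ y
    rw [MulEquiv.apply_symm_apply]
    congr 1
  obtain ⟨P₂, hP₂⟩ := hP₁p.exists_le_sylow
  obtain ⟨g, rfl⟩ := MulAction.exists_smul_eq G P P₂
  have h2 : Involves H ↥((g • P : Sylow p G) : Subgroup G) := involves_of_le hP₂ hinv
  rw [Sylow.coe_subgroup_smul] at h2
  exact involves_of_injective (Subgroup.equivSMul (MulAut.conj g) (P : Subgroup G)).symm.toMonoidHom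
    (Subgroup.equivSMul (MulAut.conj g) (P : Subgroup G)).symm.injective h2

end inv

/-- S5299 -/
theorem isSectionFree_of_not_involves {Ω : Type u} [Group Ω] {S : Subgroup Ω} [Finite S] (p : ℕ)
    [Fact p.Prime] (F : Cfsg.FusionSystem S) (H : Type v) [Group H]
    (Q : Subgroup H) (hQ : IsPGroup p Q) (hfree : ¬ Cfsg.Involves (↥Q) (↥S)) :
    F.IsSectionFree p H := by
  intro Q' _ _ N _ L _ ι hmodel hinv
  obtain ⟨hfin, ⟨hinj, -⟩, ⟨T, hT⟩, -⟩ := hmodel
  haveI := hfin
  apply hfree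
  have h1 : Involves ↥Q L := involves_subgroup Q hinv
  have h2 : Involves ↥Q ↥(T : Subgroup L) := involves_sylow_of_isPGroup hQ h1 T
  rw [hT] at h2
  have h3 : Involves ↥Q ↥(Cfsg.FusionSystem.normalizerIn S Q') :=
    involves_of_injective (MonoidHom.ofInjective hinj).symm.toMonoidHom
      (MonoidHom.ofInjective hinj).symm.injective h2
  exact involves_of_injective
    (Subgroup.inclusion (inf_le_left : Cfsg.FusionSystem.normalizerIn S Q' ≤ S))
    (Subgroup.inclusion_injective _) h3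

end Cfsg.Agent.Lib.Helper7
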