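import Mathlib

set_option autoImplicit false
set_option linter.style.haveILetI false
set_option linter.unusedVariables false
set_option linter.unusedSectionVars false

namespace Cfsg.Agent.Lib.Helper7.ThA

section s4act

variable {Γ Ω : Type*} [Group Γ] [Finite Γ] [MulAction Γ Ω] [Finite Ω]

/-- a transitive action on `1`, `2` or `4` points in which a point stabilizer contains an element `x` of odd prime
order acting nontrivially and an element `t` inverting `x` whose square acts trivially induces the full symmetric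
group on `4` points -/
theorem surjective_toPermHom_of_four [MulAction.IsPretransitive Γ Ω]
    (hcard : Nat.card Ω ∣ 4) (ω₀ : Ω) (x t : Γ) (q : ℕ) (hq : q.Prime) (hq2 : q ≠ 2)
    (hxq : x ^ q = 1) (hxω : x • ω₀ = ω₀) (htω : t • ω₀ = ω₀) (hxne : ∃ ω : Ω, x • ω ≠ ω)
    (ht2 : ∀ ω : Ω, (t * t) • ω = ω) (htx : t * x * t⁻¹ = x⁻¹) :
    Nat.card Ω = 4 ∧ Function.Surjective (MulAction.toPermHom Γ Ω) := by
  classical
  obtain ⟨φ, hφ⟩ : ∃ φ : Γ →* Equiv.Perm Ω, φ = MulAction.toPermHom Γ Ω := ⟨_, rfl⟩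
  have hφa : ∀ (g : Γ) (ω : Ω), (φ g) ω = g • ω := by
    intro g ω; rw [hφ]; rfl
  have hφx1 : φ x ≠ 1 := by
    intro h
    obtain ⟨ω, hω⟩ := hxne
    apply hω
    have : (φ x) ω = ω := by rw [h]; rfl
    rw [hφa] at this
    exact this
  have hφxq : (φ x) ^ q = 1 := by rw [← map_pow, hxq, map_one]
  have hox : orderOf (φ x) = q := by
    have h1 : orderOf (φ x) ∣ q := orderOf_dvd_of_pow_eq_one hφxq
    rcases (Nat.dvd_prime hq).mp h1 with h | h
    · exact absurd (orderOf_eq_one_iff.mp h) hφx1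
    · exact h
  have hcardP : Nat.card (Equiv.Perm Ω) = (Nat.card Ω).factorial := by
    haveI := Fintype.ofFinite Ω
    rw [Nat.card_eq_fintype_card, Nat.card_eq_fintype_card, Fintype.card_perm]
  have hqd : q ∣ (Nat.card Ω).factorial := by
    rw [← hcardP, ← hox]; exact orderOf_dvd_natCard (φ x)
  have hΩ4 : Nat.card Ω = 4 ∧ q = 3 := by
    have hqp := hq.two_le
    have hcases : Nat.card Ω = 1 ∨ Nat.card Ω = 2 ∨ Nat.card Ω = 4 := by
      have h4 : (4 : ℕ) = 2 ^ 2 := by norm_num
      rw [h4, Nat.dvd_prime_pow Nat.prime_two] at hcard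
      obtain ⟨k, hk, hk'⟩ := hcard
      interval_cases k
      · left; simpa using hk'
      · right; left; simpa using hk'
      · right; right; simpa using hk'
    rcases hcases with h | h | h
    · rw [h] at hqd
      have : q ∣ 1 := by simpa using hqd
      have := Nat.le_of_dvd (by norm_num) this
      omega
    · rw [h] at hqd
      have : q ∣ 2 := by simpa using hqd
      have := (Nat.prime_dvd_prime_iff_eq hq Nat.prime_two).mp this
      omega
    · refine ⟨h, ?_⟩
      rw [h] at hqd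
      have h24 : q ∣ 2 ^ 3 * 3 := by
        have e : Nat.factorial 4 = 2 ^ 3 * 3 := by decide
        rwa [e] at hqd
      rcases (Nat.Prime.dvd_mul hq).mp h24 with h' | h'
      · have := (Nat.prime_dvd_prime_iff_eq hq Nat.prime_two).mp (hq.dvd_of_dvd_pow h')
        omega
      · exact (Nat.prime_dvd_prime_iff_eq hq Nat.prime_three).mp h'
  obtain ⟨hΩ, hq3⟩ := hΩ4
  refine ⟨hΩ, ?_⟩
  rw [← hφ]
  -- the image of `t`
  have hφt2 : (φ t) ^ 2 = 1 := by
    ext ω
    rw [pow_two, ← map_mul, hφa]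
    exact ht2 ω
  have hφt1 : φ t ≠ 1 := by
    intro h
    apply hφx1
    have h1 : φ (t * x * t⁻¹) = φ x⁻¹ := by rw [htx]
    rw [map_mul, map_mul, map_inv, map_inv, h, inv_one, one_mul, mul_one] at h1
    have h2 : (φ x) ^ 2 = 1 := by
      rw [pow_two]
      nth_rewrite 1 [h1]
      exact inv_mul_cancel _
    have h3 : orderOf (φ x) ∣ 2 := orderOf_dvd_of_pow_eq_one h2
    rw [hox, hq3] at h3
    norm_num at h3
  have hot : orderOf (φ t) = 2 := orderOf_eq_prime hφt2 hφt1
  -- counting
  obtain ⟨St, hSt⟩ : ∃ St : Subgroup Γ, St = MulAction.stabilizer Γ ω₀ := ⟨_, rfl⟩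
  have hidx : St.index = 4 := by
    rw [hSt, MulAction.index_stabilizer_of_transitive, hΩ]
  have hker : φ.ker ≤ St := by
    intro g hg
    rw [MonoidHom.mem_ker] at hg
    rw [hSt, MulAction.mem_stabilizer_iff]
    have : (φ g) ω₀ = ω₀ := by rw [hg]; rfl
    rw [hφa] at this
    exact this
  have h1 : φ.ker.relIndex St * St.index = φ.ker.index := Subgroup.relIndex_mul_index hker
  have h2 : φ.ker.relIndex St = Nat.card (St.map φ) := Subgroup.relIndex_ker (K := St) φ
  have h3 : φ.ker.index = Nat.card φ.range := Subgroup.index_ker φ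
  have hxSt : φ x ∈ St.map φ := ⟨x, by rw [hSt]; exact MulAction.mem_stabilizer_iff.mpr hxω, rfl⟩
  have htSt : φ t ∈ St.map φ := ⟨t, by rw [hSt]; exact MulAction.mem_stabilizer_iff.mpr htω, rfl⟩
  have h6 : 6 ∣ Nat.card (St.map φ) := by
    have d3 : 3 ∣ Nat.card (St.map φ) := by
      have := Subgroup.orderOf_dvd_natCard (St.map φ) hxSt
      rwa [hox, hq3] at this
    have d2 : 2 ∣ Nat.card (St.map φ) := by
      have := Subgroup.orderOf_dvd_natCard (St.map φ) htSt
      rwa [hot] at this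
    exact Nat.Coprime.mul_dvd_of_dvd_of_dvd (by norm_num) d2 d3
  have h24 : 24 ∣ Nat.card φ.range := by
    rw [← h3, ← h1, h2, hidx]
    obtain ⟨c, hc⟩ := h6
    rw [hc]
    exact ⟨c, by ring⟩
  have hP24 : Nat.card (Equiv.Perm Ω) = 24 := by rw [hcardP, hΩ]; decide
  have htop : φ.range = ⊤ := by
    apply Subgroup.eq_top_of_le_card
    rw [hP24]
    exact Nat.le_of_dvd Nat.card_pos h24
  exact MonoidHom.range_eq_top.mp htop

end s4act

end Cfsg.Agent.Lib.Helper7.ThA
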