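import Mathlib
import Cfsg.Agent.Lib.Helper4.GTFus8
import Cfsg.Agent.H1.Card
import Cfsg.Agent.H1.CoprimeAction

set_option autoImplicit false
set_option linter.style.haveILetI false
set_option linter.unusedVariables false
set_option linter.unusedSectionVars false

namespace Cfsg.Agent.Lib.Helper7.ThA

open Cfsg Cfsg.Agent.Lib.Helper7 Cfsg.Agent.Lib.Lead.Conj

universe u

section pw
variable {G : Type*} [Group G]

theorem mem_of_pow_mem_of_coprime (S : Subgroup G) {x : G} {m n : ℕ} (hc : Nat.Coprime m n)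
    (hm : x ^ m ∈ S) (hn : x ^ n ∈ S) : x ∈ S := by
  have h1 : (Nat.gcd m n : ℤ) = m * Nat.gcdA m n + n * Nat.gcdB m n := Nat.gcd_eq_gcd_ab m n
  rw [hc.gcd_eq_one] at h1
  have h2 : x = (x ^ m) ^ (Nat.gcdA m n) * (x ^ n) ^ (Nat.gcdB m n) := by
    rw [← zpow_natCast x m, ← zpow_natCast x n, ← zpow_mul, ← zpow_mul, ← zpow_add, ← h1]
    simp
  rw [h2]
  exact S.mul_mem (S.zpow_mem hm _) (S.zpow_mem hn _)

/-- an element of odd order whose square commutes with `f` commutes with `f` -/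
theorem commute_of_sq_commute {x f : G} {q : ℕ} (hq : ¬ 2 ∣ q) (hxq : x ^ q = 1)
    (h : (x * x) * f = f * (x * x)) : x * f = f * x := by
  have hS : x ∈ Subgroup.centralizer ({f} : Set G) := by
    apply mem_of_pow_mem_of_coprime (m := 2) (n := q) _
      ((Nat.Prime.coprime_iff_not_dvd Nat.prime_two).mpr hq)
    · rw [Subgroup.mem_centralizer_singleton_iff, pow_two]
      exact h
    · rw [hxq]; exact Subgroup.one_mem _
  rw [Subgroup.mem_centralizer_singleton_iff] at hS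
  exact hS

end pw

section inverting
variable {G : Type u} [Group G] [Finite G]

/-- if `a` inverts `x` of odd prime order modulo the normal `2`-subgroup `H`, some element of `a H`
inverts `x` -/
theorem exists_inverting (H : Subgroup G) [H.Normal] (hH : IsPGroup 2 ↥H) {q : ℕ} (hq : q.Prime)
    (hq2 : q ≠ 2) {x a : G} (hxq : x ^ q = 1) (hxH : x ∉ H) (hax : a * x * a⁻¹ * x ∈ H) :
    ∃ h₃ ∈ H, (a * h₃) * x * (a * h₃)⁻¹ = x⁻¹ := by
  haveI : Fact q.Prime := ⟨hq⟩
  have hx1 : x ≠ 1 := fun h => hxH (h ▸ H.one_mem)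
  have hox : orderOf x = q := orderOf_eq_prime hxq hx1
  obtain ⟨D, hDdef⟩ : ∃ D : Subgroup G, D = Subgroup.zpowers x := ⟨_, rfl⟩
  have hxD : x ∈ D := by rw [hDdef]; exact Subgroup.mem_zpowers x
  have hDcard : Nat.card D = q := by rw [hDdef, Nat.card_zpowers, hox]
  have hDq : IsPGroup q ↥D := IsPGroup.of_card (n := 1) (by rw [hDcard, pow_one])
  have hDH : D ⊓ H = ⊥ := by
    have := IsPGroup.disjoint_of_ne q 2 hq2 D H hDq hH
    exact disjoint_iff.mp this
  obtain ⟨L₀, hL₀def⟩ : ∃ L₀ : Subgroup G, L₀ = D ⊔ H := ⟨_, rfl⟩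
  have hDn : D ≤ Subgroup.normalizer (H : Set G) := by
    rw [Subgroup.normalizer_eq_top]; exact le_top
  have hLcard : Nat.card L₀ = q * Nat.card H := by
    have := Cfsg.Agent.H1.card_sup_mul_card_inf D H hDn
    rw [hDH, Subgroup.card_bot, mul_one, hDcard] at this
    rw [hL₀def]; exact this
  have hDsyl : IsSylowIn q D L₀ := by
    refine ⟨by rw [hL₀def]; exact le_sup_left, ?_⟩
    rw [hDcard, hLcard]
    obtain ⟨m, hm⟩ := (IsPGroup.iff_card (p := 2)).mp hH
    rw [hm]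
    have hqne : q ≠ 0 := hq.ne_zero
    have h2ne : 2 ^ m ≠ 0 := by positivity
    have h0 : (2 ^ m).factorization q = 0 := by
      apply Nat.factorization_eq_zero_of_not_dvd
      intro hd
      have := (Nat.prime_dvd_prime_iff_eq hq Nat.prime_two).mp (hq.dvd_of_dvd_pow hd)
      exact hq2 this
    rw [Nat.factorization_mul hqne h2ne, Finsupp.add_apply, Nat.Prime.factorization_self hq, h0,
      add_zero, pow_one]
  -- `a` normalises `L₀`
  have haxD : a * x * a⁻¹ ∈ L₀ := by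
    have e : a * x * a⁻¹ = (a * x * a⁻¹ * x) * x⁻¹ := by group
    rw [e, hL₀def]
    exact Subgroup.mul_mem _ (Subgroup.mem_sup_right hax) (Subgroup.mem_sup_left (D.inv_mem hxD))
  have haL : a ∈ Subgroup.normalizer (L₀ : Set G) := by
    apply mem_normalizer_of_conj_mem
    have hle : L₀ ≤ L₀.comap (MulAut.conj a).toMonoidHom := by
      rw [hL₀def]
      apply sup_le
      · rw [hDdef, Subgroup.zpowers_le, Subgroup.mem_comap, ← hDdef, ← hL₀def]
        exact haxD
      · intro h hh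
        rw [Subgroup.mem_comap]
        apply Subgroup.mem_sup_right
        exact ‹H.Normal›.conj_mem h hh a
    intro r hr
    exact hle hr
  obtain ⟨l, hl, c, hc, hac⟩ := Cfsg.Agent.Lib.Helper4.GTFus.frattini_mul_amb (p := q)
    (X := Subgroup.normalizer (L₀ : Set G)) (C := L₀) (D := D) Subgroup.le_normalizer le_rfl hDsyl haL
  rw [Subgroup.mem_inf] at hl
  -- `c = d * h`
  rw [hL₀def, sup_comm] at hc
  obtain ⟨h, hh, d, hd, hcd⟩ := (Cfsg.Agent.H1.mem_sup_of_le_normalizer H D hDn).mp hc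
  have hh' : d⁻¹ * h * d ∈ H := by
    have := ‹H.Normal›.conj_mem h hh d⁻¹
    rwa [inv_inv] at this
  refine ⟨(d⁻¹ * h * d)⁻¹, H.inv_mem hh', ?_⟩
  have hal : a * (d⁻¹ * h * d)⁻¹ = l * d := by rw [hac, hcd]; group
  rw [hal]
  have hldN : l * d ∈ Subgroup.normalizer (D : Set G) :=
    Subgroup.mul_mem _ hl.2 (Subgroup.le_normalizer hd)
  have h1 : (l * d) * x * (l * d)⁻¹ ∈ D := (Subgroup.mem_normalizer_iff.mp hldN x).mp hxD
  have h2 : (l * d) * x * (l * d)⁻¹ * x ∈ H := by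
    have e : ((l * d : G) : G ⧸ H) = (a : G ⧸ H) := by
      rw [← hal, QuotientGroup.mk_mul, (QuotientGroup.eq_one_iff _).mpr (H.inv_mem hh'), mul_one]
    rw [← QuotientGroup.eq_one_iff] at hax ⊢
    rw [QuotientGroup.mk_mul, QuotientGroup.mk_mul, QuotientGroup.mk_inv, QuotientGroup.mk_mul, e]
    rw [QuotientGroup.mk_mul, QuotientGroup.mk_mul, QuotientGroup.mk_mul, QuotientGroup.mk_inv] at hax
    exact hax
  have h3 : (l * d) * x * (l * d)⁻¹ * x ∈ D ⊓ H := Subgroup.mem_inf.mpr ⟨D.mul_mem h1 hxD, h2⟩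
  rw [hDH, Subgroup.mem_bot] at h3
  exact mul_eq_one_iff_eq_inv.mp h3

end inverting

end Cfsg.Agent.Lib.Helper7.ThA
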