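import Mathlib
import Cfsg.Agent.Lib.Helper7.ThA7
import Cfsg.Agent.Lib.Helper7.ThA9
import Cfsg.Agent.Lib.Helper7.InvolvesLib

set_option autoImplicit false
set_option linter.style.haveILetI false
set_option linter.unusedVariables false
set_option linter.unusedSectionVars false

namespace Cfsg.Agent.Lib.Helper7.ThA

open Cfsg Cfsg.Agent.Lib.Helper7 Cfsg.Agent.Lib.Lead.Conj

universe u

section caseB
variable {G : Type u} [Group G] [Finite G]

theorem involves_s4_of_action (F : Subgroup G) {q : ℕ} (hq : q.Prime) (hq2 : q ≠ 2)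
    {x t : G} (hxq : x ^ q = 1) (hinv : t * x * t⁻¹ = x⁻¹)
    (hxF : x ∈ Subgroup.normalizer (F : Set G)) (htF : t ∈ Subgroup.normalizer (F : Set G))
    (hF2 : ∀ f ∈ F, f * f = 1) (hDF : Subgroup.zpowers x ⊓ F = ⊥)
    (ht2 : ∀ f ∈ F, (t * t) * f = f * (t * t))
    (hidx : (F ⊓ Subgroup.centralizer ({x} : Set G)).relIndex F ∣ 4)
    (hnc : ¬ F ≤ Subgroup.centralizer ({x} : Set G)) :
    Cfsg.Involves (Equiv.Perm (Fin 4)) G := by
  classical
  have hqodd : ¬ 2 ∣ q := by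
    intro h
    exact hq2 ((Nat.prime_dvd_prime_iff_eq Nat.prime_two hq).mp h).symm
  obtain ⟨D, hD⟩ : ∃ D : Subgroup G, D = Subgroup.zpowers x := ⟨_, rfl⟩
  rw [← hD] at hDF
  have hxD : x ∈ D := by rw [hD]; exact Subgroup.mem_zpowers x
  obtain ⟨F₀, hF₀⟩ : ∃ F₀ : Subgroup G, F₀ = F ⊓ Subgroup.centralizer ({x} : Set G) := ⟨_, rfl⟩
  rw [← hF₀] at hidx
  have hF₀F : F₀ ≤ F := by rw [hF₀]; exact inf_le_left
  have hF₀x : ∀ r ∈ F₀, x * r = r * x := by
    intro r hr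
    rw [hF₀, Subgroup.mem_inf, Subgroup.mem_centralizer_singleton_iff] at hr
    exact hr.2.symm
  have hinv' : t * x⁻¹ * t⁻¹ = x := by
    have : t * x⁻¹ * t⁻¹ = (t * x * t⁻¹)⁻¹ := by group
    rw [this, hinv, inv_inv]
  have htD : t ∈ Subgroup.normalizer (D : Set G) := by
    apply mem_normalizer_of_conj_mem
    have hle : D ≤ D.comap (MulAut.conj t).toMonoidHom := by
      rw [hD, Subgroup.zpowers_le, Subgroup.mem_comap]
      show t * x * t⁻¹ ∈ _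
      rw [hinv]
      exact Subgroup.inv_mem _ (Subgroup.mem_zpowers x)
    intro r hr
    exact hle hr
  obtain ⟨Y₁, hY₁⟩ : ∃ Y₁ : Subgroup G, Y₁ = D ⊔ Subgroup.zpowers t := ⟨_, rfl⟩
  have hxY₁ : x ∈ Y₁ := by rw [hY₁]; exact Subgroup.mem_sup_left hxD
  have htY₁ : t ∈ Y₁ := by rw [hY₁]; exact Subgroup.mem_sup_right (Subgroup.mem_zpowers t)
  have hY₁D : Y₁ ≤ Subgroup.normalizer (D : Set G) := by
    rw [hY₁]; exact sup_le Subgroup.le_normalizer (Subgroup.zpowers_le.mpr htD)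
  have hY₁F : Y₁ ≤ Subgroup.normalizer (F : Set G) := by
    rw [hY₁, hD]; exact sup_le (Subgroup.zpowers_le.mpr hxF) (Subgroup.zpowers_le.mpr htF)
  have hxF₀ : x ∈ Subgroup.normalizer (F₀ : Set G) := by
    apply mem_normalizer_of_conj_mem
    intro r hr
    rw [hF₀x r hr, mul_inv_cancel_right]; exact hr
  have htF₀ : t ∈ Subgroup.normalizer (F₀ : Set G) := by
    apply mem_normalizer_of_conj_mem
    intro r hr
    rw [hF₀, Subgroup.mem_inf, Subgroup.mem_centralizer_singleton_iff]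
    refine ⟨(Subgroup.mem_normalizer_iff.mp htF r).mp (hF₀F hr), ?_⟩
    have h1 := hF₀x r hr
    symm
    calc x * (t * r * t⁻¹) = t * ((t⁻¹ * x * t) * r) * t⁻¹ := by group
      _ = t * (x⁻¹ * r) * t⁻¹ := by
          have : t⁻¹ * x * t = x⁻¹ := by
            calc t⁻¹ * x * t = t⁻¹ * (t * x⁻¹ * t⁻¹) * t := by rw [hinv']
              _ = x⁻¹ := by group
          rw [this]
      _ = t * (r * x⁻¹) * t⁻¹ := by
          have : x⁻¹ * r = r * x⁻¹ := by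
            rw [inv_mul_eq_iff_eq_mul, ← mul_assoc, h1, mul_inv_cancel_right]
          rw [this]
      _ = (t * r * t⁻¹) * (t * x⁻¹ * t⁻¹) := by group
      _ = (t * r * t⁻¹) * x := by rw [hinv']
  have hY₁F₀ : Y₁ ≤ Subgroup.normalizer (F₀ : Set G) := by
    rw [hY₁, hD]; exact sup_le (Subgroup.zpowers_le.mpr hxF₀) (Subgroup.zpowers_le.mpr htF₀)
  obtain ⟨Y₂, hY₂⟩ : ∃ Y₂ : Subgroup G, Y₂ = F₀ ⊔ Y₁ := ⟨_, rfl⟩
  have hY₁Y₂ : Y₁ ≤ Y₂ := by rw [hY₂]; exact le_sup_right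
  have hY₂F : Y₂ ≤ Subgroup.normalizer (F : Set G) := by
    rw [hY₂]; exact sup_le (hF₀F.trans Subgroup.le_normalizer) hY₁F
  have hFY₁ : F ⊓ Y₁ ≤ F₀ := by
    intro y hy
    rw [Subgroup.mem_inf] at hy
    rw [hF₀, Subgroup.mem_inf, Subgroup.mem_centralizer_singleton_iff]
    refine ⟨hy.1, ?_⟩
    have h1 : y * x * y⁻¹ ∈ D := (Subgroup.mem_normalizer_iff.mp (hY₁D hy.2) x).mp hxD
    have h2 : x * y⁻¹ * x⁻¹ ∈ F := (Subgroup.mem_normalizer_iff.mp hxF y⁻¹).mp (F.inv_mem hy.1)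
    have h3 : y * x * y⁻¹ * x⁻¹ ∈ D ⊓ F := by
      refine Subgroup.mem_inf.mpr ⟨D.mul_mem h1 (D.inv_mem hxD), ?_⟩
      have e : y * x * y⁻¹ * x⁻¹ = y * (x * y⁻¹ * x⁻¹) := by group
      rw [e]; exact F.mul_mem hy.1 h2
    rw [hDF, Subgroup.mem_bot] at h3
    have : y * x = x * y := by
      have e : y * x = (y * x * y⁻¹ * x⁻¹) * (x * y) := by group
      rw [e, h3, one_mul]
    exact this
  have hY₂F' : Y₂ ⊓ F = F₀ := by
    apply le_antisymm
    · intro z hz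
      rw [Subgroup.mem_inf, hY₂] at hz
      obtain ⟨f₀, hf₀, y, hy, rfl⟩ := (Cfsg.Agent.H1.mem_sup_of_le_normalizer F₀ Y₁ hY₁F₀).mp hz.1
      have hyF : y ∈ F := by
        have e : y = f₀⁻¹ * (f₀ * y) := by group
        rw [e]; exact F.mul_mem (F.inv_mem (hF₀F hf₀)) hz.2
      exact F₀.mul_mem hf₀ (hFY₁ (Subgroup.mem_inf.mpr ⟨hyF, hy⟩))
    · rw [hY₂]; exact le_inf le_sup_left hF₀F
  obtain ⟨K, hK⟩ : ∃ K : Subgroup G, K = Y₂ ⊔ F := ⟨_, rfl⟩
  have hY₂K : Y₂ ≤ K := by rw [hK]; exact le_sup_left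
  have hFK : F ≤ K := by rw [hK]; exact le_sup_right
  have hidxK : Y₂.relIndex K = F₀.relIndex F := by
    rw [hK, ← hY₂F', Cfsg.Agent.H1.relIndex_inf_eq_relIndex_sup Y₂ F hY₂F]
  have hKmem : ∀ k ∈ K, ∃ n ∈ F, ∃ y ∈ Y₂, k = n * y := by
    intro k hk
    rw [hK, sup_comm] at hk
    exact (Cfsg.Agent.H1.mem_sup_of_le_normalizer F Y₂ hY₂F).mp hk
  -- the action on the cosets of `Y₂` in `K`
  have hxK : x ∈ K := hY₂K (hY₁Y₂ hxY₁)
  have htK : t ∈ K := hY₂K (hY₁Y₂ htY₁)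
  have hcard : Nat.card (↥K ⧸ Y₂.subgroupOf K) ∣ 4 := by
    have : Nat.card (↥K ⧸ Y₂.subgroupOf K) = Y₂.relIndex K := rfl
    rw [this, hidxK]; exact hidx
  have hmemS : ∀ k : ↥K, k ∈ Y₂.subgroupOf K ↔ (k : G) ∈ Y₂ := fun k => Subgroup.mem_subgroupOf
  obtain ⟨hΩ4, hsurj⟩ := surjective_toPermHom_of_four (Γ := ↥K) (Ω := ↥K ⧸ Y₂.subgroupOf K) hcard
    ((1 : ↥K) : ↥K ⧸ Y₂.subgroupOf K) ⟨x, hxK⟩ ⟨t, htK⟩ q hq hq2 (Subtype.ext (by simpa using hxq))
    (by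
      rw [MulAction.Quotient.smul_mk, QuotientGroup.eq, hmemS]
      simp only [smul_eq_mul, mul_one, Subgroup.coe_mul, Subgroup.coe_inv, Subgroup.coe_one]
      exact Y₂.inv_mem (hY₁Y₂ hxY₁))
    (by
      rw [MulAction.Quotient.smul_mk, QuotientGroup.eq, hmemS]
      simp only [smul_eq_mul, mul_one, Subgroup.coe_mul, Subgroup.coe_inv, Subgroup.coe_one]
      exact Y₂.inv_mem (hY₁Y₂ htY₁))
    (by
      by_contra hall
      push Not at hall
      apply hnc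
      intro f hf
      rw [Subgroup.mem_centralizer_singleton_iff]
      have h1 := hall ((⟨f, hFK hf⟩ : ↥K) : ↥K ⧸ Y₂.subgroupOf K)
      rw [MulAction.Quotient.smul_mk, QuotientGroup.eq, hmemS] at h1
      simp only [smul_eq_mul, Subgroup.coe_mul, Subgroup.coe_inv] at h1
      -- `h1 : (x * f)⁻¹ * f ∈ Y₂`
      have h2 : f⁻¹ * x⁻¹ * f * x ∈ Y₂ ⊓ F := by
        refine Subgroup.mem_inf.mpr ⟨?_, ?_⟩
        · have e : f⁻¹ * x⁻¹ * f * x = ((x * f)⁻¹ * f) * x := by group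
          rw [e]; exact Y₂.mul_mem h1 (hY₁Y₂ hxY₁)
        · have h3 : x⁻¹ * f * x ∈ F := by
            have := (Subgroup.mem_normalizer_iff.mp (Subgroup.inv_mem _ hxF) f).mp hf
            rwa [inv_inv] at this
          have e : f⁻¹ * x⁻¹ * f * x = f⁻¹ * (x⁻¹ * f * x) := by group
          rw [e]; exact F.mul_mem (F.inv_mem hf) h3
      rw [hY₂F'] at h2
      have hc2 := hF2 _ (hF₀F h2)
      have hcx := hF₀x _ h2
      -- `x⁻¹ f x = f c`, `c` commuting with `x`, so `x⁻² f x² = f c c = f`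
      symm
      apply commute_of_sq_commute hqodd hxq
      have e1 : x⁻¹ * f * x = f * (f⁻¹ * x⁻¹ * f * x) := by group
      have e2 : x⁻¹ * (x⁻¹ * f * x) * x = f := by
        rw [e1]
        calc x⁻¹ * (f * (f⁻¹ * x⁻¹ * f * x)) * x
            = (x⁻¹ * f * x) * (x⁻¹ * ((f⁻¹ * x⁻¹ * f * x) * x)) := by group
          _ = (x⁻¹ * f * x) * (x⁻¹ * (x * (f⁻¹ * x⁻¹ * f * x))) := by rw [hcx]
          _ = (x⁻¹ * f * x) * (f⁻¹ * x⁻¹ * f * x) := by group
          _ = f * ((f⁻¹ * x⁻¹ * f * x) * (f⁻¹ * x⁻¹ * f * x)) := by rw [e1]; group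
          _ = f := by rw [hc2, mul_one]
      calc x * x * f = x * x * (x⁻¹ * (x⁻¹ * f * x) * x) := by rw [e2]
        _ = f * (x * x) := by group)
    (by
      intro ω
      induction ω using QuotientGroup.induction_on with
      | H k =>
        rw [MulAction.Quotient.smul_mk, QuotientGroup.eq, hmemS]
        simp only [smul_eq_mul, Subgroup.coe_mul, Subgroup.coe_inv]
        obtain ⟨n, hn, y, hy, hk⟩ := hKmem k k.2
        rw [hk]
        have h1 := ht2 n hn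
        have e : (t * t * (n * y))⁻¹ * (n * y) = y⁻¹ * (t * t)⁻¹ * y := by
          have : t * t * (n * y) = n * (t * t) * y := by rw [← mul_assoc, h1]
          rw [this]; group
        rw [e]
        exact Y₂.mul_mem (Y₂.mul_mem (Y₂.inv_mem hy) (Y₂.inv_mem (Y₂.mul_mem (hY₁Y₂ htY₁) (hY₁Y₂ htY₁)))) hy)
    (Subtype.ext (by simpa using hinv))
  rw [involves_iff_exists_surjective]
  refine ⟨K, ((Equiv.permCongrHom ((Finite.equivFin _).trans (finCongr hΩ4))).toMonoidHom).comp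
    (MulAction.toPermHom ↥K (↥K ⧸ Y₂.subgroupOf K)), ?_⟩
  exact (MulEquiv.surjective (Equiv.permCongrHom ((Finite.equivFin _).trans (finCongr hΩ4)))).comp hsurj

end caseB

end Cfsg.Agent.Lib.Helper7.ThA
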