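import Mathlib
import Cfsg.Prelude.Def_PLocal
import Cfsg.Agent.Lib.Helper4.ZJ
import Cfsg.Agent.S0653
import Cfsg.Agent.H1.ZJFactor
import Cfsg.Agent.Lib.Helper7.Thompson
import Cfsg.Agent.Lib.Helper4.GT

set_option autoImplicit false
set_option linter.style.haveILetI false
set_option linter.unusedSectionVars false
set_option linter.unusedVariables false

open scoped commutatorElement Pointwise

namespace Cfsg.Agent.Lib.Helper7.ThA

open Cfsg Cfsg.Agent.Lib.Helper4.ZJ Cfsg.Agent.Lib.Helper4.PNil Cfsg.Agent.Lib.Lead.Conj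

/-- the abelian subgroups of `P` of largest order, in ambient form -/
abbrev famA {G : Type*} [Group G] (P : Subgroup G) : Set (Subgroup G) :=
  fam (fun A : Subgroup G => IsMulCommutative A) P

section basic
variable {G : Type*} [Group G]

theorem mem_maxAb_iff (P : Subgroup G) (A' : Subgroup ↥P) :
    A' ∈ Cfsg.maxAbelianSubgroups ↥P ↔ A'.map P.subtype ∈ famA P := by
  constructor
  · rintro ⟨h1, h2⟩
    haveI := h1
    refine mem_fam.mpr ⟨Subgroup.map_subtype_le _, Subgroup.map_isMulCommutative A' P.subtype, ?_⟩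
    intro B hB hBe
    have hB' : IsMulCommutative (B.subgroupOf P) := by
      refine ⟨⟨fun x y => Subtype.ext (Subtype.ext ?_)⟩⟩
      have := hBe.is_comm.comm ⟨x.1.1, Subgroup.mem_subgroupOf.mp x.2⟩ ⟨y.1.1, Subgroup.mem_subgroupOf.mp y.2⟩
      exact (congrArg Subtype.val this : (x.1.1 * y.1.1 : G) = y.1.1 * x.1.1)
    have := h2 _ hB'
    rw [Cfsg.Agent.Lib.Helper7.card_subgroupOf_of_le hB] at this
    rw [Subgroup.card_map_of_injective P.subtype_injective]
    exact this
  · intro h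
    obtain ⟨-, h1, h2⟩ := mem_fam.mp h
    have h1' : IsMulCommutative A' := by
      refine ⟨⟨fun x y => Subtype.ext (Subtype.ext ?_)⟩⟩
      have := h1.is_comm.comm ⟨x.1.1, ⟨x.1, x.2, rfl⟩⟩ ⟨y.1.1, ⟨y.1, y.2, rfl⟩⟩
      exact (congrArg Subtype.val this : (x.1.1 * y.1.1 : G) = y.1.1 * x.1.1)
    refine ⟨h1', ?_⟩
    intro B' hB'
    haveI := hB'
    have := h2 (B'.map P.subtype) (Subgroup.map_subtype_le _) (Subgroup.map_isMulCommutative B' P.subtype)
    rw [Subgroup.card_map_of_injective P.subtype_injective,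
      Subgroup.card_map_of_injective P.subtype_injective] at this
    exact this

theorem le_JA {P A : Subgroup G} (h : A ∈ famA P) : A ≤ Cfsg.thompsonSubgroupAOf P := by
  have hAP : A ≤ P := (mem_fam.mp h).1
  have h1 : A.subgroupOf P ∈ Cfsg.maxAbelianSubgroups ↥P := by
    rw [mem_maxAb_iff, Subgroup.subgroupOf_map_subtype, inf_eq_left.mpr hAP]
    exact h
  have h2 : A.subgroupOf P ≤ Cfsg.thompsonSubgroupA ↥P := le_sSup h1
  have h3 := Subgroup.map_mono (f := P.subtype) h2
  rw [Subgroup.subgroupOf_map_subtype, inf_eq_left.mpr hAP] at h3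
  exact h3

theorem JA_le_of {P K : Subgroup G} (h : ∀ A, A ∈ famA P → A ≤ K) :
    Cfsg.thompsonSubgroupAOf P ≤ K := by
  unfold Cfsg.thompsonSubgroupAOf Cfsg.thompsonSubgroupA
  rw [Subgroup.map_le_iff_le_comap]
  apply sSup_le
  intro A' hA'
  rw [← Subgroup.map_le_iff_le_comap]
  exact h _ ((mem_maxAb_iff P A').mp hA')

theorem JA_le (P : Subgroup G) : Cfsg.thompsonSubgroupAOf P ≤ P :=
  Subgroup.map_subtype_le _

end basic

section natural
variable {X Y : Type*} [Group X] [Group Y] [Finite X] [Finite Y]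

/-- naturality of `J` (abelian version) under homomorphisms injective on `D` -/
theorem JA_map (f : X →* Y) (D : Subgroup X) (hinj : ∀ x ∈ D, f x = 1 → x = 1) :
    Cfsg.thompsonSubgroupAOf (D.map f) = (Cfsg.thompsonSubgroupAOf D).map f := by
  apply le_antisymm
  · apply JA_le_of
    intro B hB
    have h1 : B.comap f ⊓ D ∈ famA D := Cfsg.Agent.H1.comap_mem_fam' f D hinj hB
    have h2 : B.comap f ⊓ D ≤ Cfsg.thompsonSubgroupAOf D := le_JA h1
    have h3 : (B.comap f ⊓ D).map f = B := Cfsg.Agent.H1.map_comap_inf_eq f D B (mem_fam.mp hB).1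
    rw [← h3]
    exact Subgroup.map_mono h2
  · rw [Subgroup.map_le_iff_le_comap]
    apply JA_le_of
    intro A hA
    rw [← Subgroup.map_le_iff_le_comap]
    exact le_JA (Cfsg.Agent.H1.map_mem_fam f D hinj hA)

end natural

section more
variable {G : Type*} [Group G] [Finite G]

theorem JA_subgroupOf {L D : Subgroup G} (hDL : D ≤ L) :
    Cfsg.thompsonSubgroupAOf (D.subgroupOf L) = (Cfsg.thompsonSubgroupAOf D).subgroupOf L := by
  have hmap : (D.subgroupOf L).map L.subtype = D := Subgroup.map_subgroupOf_eq_of_le hDL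
  have hJmap := JA_map L.subtype (D.subgroupOf L) (fun x _ hx => by
    have h1 : L.subtype x = L.subtype 1 := by rw [hx, map_one]
    exact L.subtype_injective h1)
  rw [hmap] at hJmap
  rw [hJmap]
  exact (Subgroup.comap_map_eq_self_of_injective L.subtype_injective _).symm

theorem JA_map_conj (D : Subgroup G) (g : G) :
    Cfsg.thompsonSubgroupAOf (D.map (MulAut.conj g).toMonoidHom) =
      (Cfsg.thompsonSubgroupAOf D).map (MulAut.conj g).toMonoidHom :=
  JA_map (MulAut.conj g).toMonoidHom D (fun x _ hx => by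
    have h1 : (MulAut.conj g) x = 1 := hx
    exact (map_eq_one_iff (MulAut.conj g) (MulAut.conj g).injective).mp h1)

theorem normalizer_le_normalizer_JA (D : Subgroup G) :
    Subgroup.normalizer (D : Set G) ≤ Subgroup.normalizer (Cfsg.thompsonSubgroupAOf D : Set G) := by
  intro n hn
  apply mem_normalizer_of_conj_mem
  intro x hx
  have h1 := JA_map_conj D n
  rw [Cfsg.Agent.Lib.Helper4.GT.map_conj_eq hn] at h1
  rw [h1]
  exact ⟨x, hx, rfl⟩

theorem famA_of_le {S D A : Subgroup G} (hDS : D ≤ S) (hA : A ∈ famA S) (hAD : A ≤ D) : A ∈ famA D := by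
  obtain ⟨-, h1, h2⟩ := mem_fam.mp hA
  exact mem_fam.mpr ⟨hAD, h1, fun B hB hBab => h2 B (hB.trans hDS) hBab⟩

theorem JA_eq_of_le {S D : Subgroup G} (hJD : Cfsg.thompsonSubgroupAOf S ≤ D) (hDS : D ≤ S) :
    Cfsg.thompsonSubgroupAOf D = Cfsg.thompsonSubgroupAOf S := by
  obtain ⟨A₀, hA₀⟩ := fam_nonempty (Cfsg.Agent.S0653.goodAb (G := G)) S
  have hA₀D : A₀ ∈ famA D := famA_of_le hDS hA₀ ((le_JA hA₀).trans hJD)
  apply le_antisymm
  · apply JA_le_of
    intro A hA
    obtain ⟨hAD, hAab, hAmax⟩ := mem_fam.mp hA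
    apply le_JA
    refine mem_fam.mpr ⟨hAD.trans hDS, hAab, ?_⟩
    intro B hB hBab
    have h1 := (mem_fam.mp hA₀).2.2 B hB hBab
    have h2 := hAmax A₀ (mem_fam.mp hA₀D).1 (mem_fam.mp hA₀).2.1
    exact h1.trans h2
  · apply JA_le_of
    intro A hA
    exact le_JA (famA_of_le hDS hA ((le_JA hA).trans hJD))

theorem JA_ne_bot {D : Subgroup G} (hD : D ≠ ⊥) : Cfsg.thompsonSubgroupAOf D ≠ ⊥ := by
  obtain ⟨A₀, hA₀⟩ := fam_nonempty (Cfsg.Agent.S0653.goodAb (G := G)) D
  intro h
  have h1 : A₀ ≤ ⊥ := h ▸ le_JA hA₀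
  apply hD
  rw [eq_bot_iff]
  intro x hx
  -- zpowers x is abelian so has card ≤ card A₀ = 1
  have h2 := (mem_fam.mp hA₀).2.2 (Subgroup.zpowers x) (Subgroup.zpowers_le.mpr hx)
    (by infer_instance)
  have h3 : Nat.card A₀ = 1 := by
    rw [eq_bot_iff.mpr h1]; exact Subgroup.card_bot
  rw [h3] at h2
  have h4 : Nat.card (Subgroup.zpowers x) = 1 := le_antisymm h2 Nat.card_pos
  rw [Subgroup.card_eq_one, Subgroup.zpowers_eq_bot] at h4
  rw [h4]; exact Subgroup.one_mem _

end more

section transfer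
universe u
variable {G : Type u} [Group G] [Finite G] {p : ℕ}

theorem pnil_normalizer_JA_subgroupOf [Fact p.Prime] {L D : Subgroup G} (hDL : D ≤ L)
    (hN : PNil p (Subgroup.normalizer (Cfsg.thompsonSubgroupAOf D : Set G))) :
    PNil p (Subgroup.normalizer (Cfsg.thompsonSubgroupAOf (D.subgroupOf L) : Set ↥L)) := by
  have hJle : Cfsg.thompsonSubgroupAOf D ≤ L := (JA_le D).trans hDL
  rw [JA_subgroupOf hDL, ← Subgroup.subgroupOf_normalizer_eq hJle,
    ← Subgroup.inf_subgroupOf_right, pnil_subgroupOf_iff inf_le_right]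
  exact pnil_mono inf_le_left hN

end transfer

end Cfsg.Agent.Lib.Helper7.ThA

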