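import Mathlib
import Cfsg.Agent.Lib.Helper7.ThA1
import Cfsg.Agent.H1.ThompsonNPC
import Cfsg.Agent.Lib.Helper7.InvolvesLib
import Cfsg.Agent.Lib.Helper4.GT2

set_option autoImplicit false
set_option linter.style.haveILetI false
set_option linter.unusedSectionVars false
set_option linter.unusedVariables false

open scoped commutatorElement Pointwise

namespace Cfsg.Agent.Lib.Helper7.ThA

open Cfsg Cfsg.Agent.Lib.Helper4.ZJ Cfsg.Agent.Lib.Helper4.PNil Cfsg.Agent.Lib.Lead.Conj
  Cfsg.Agent.Lib.Helper4.GT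

universe u

/-- `p` is odd or the group is `S₄`-free -/
def Free (p : ℕ) (X : Type u) [Group X] : Prop :=
  p ≠ 2 ∨ ¬ Cfsg.Involves (Equiv.Perm (Fin 4)) X

/-- the two hypotheses of Thompson's theorem, in ambient form -/
def Hyp (p : ℕ) {X : Type u} [Group X] (P : Subgroup X) : Prop :=
  PNil p (Subgroup.normalizer (Cfsg.thompsonSubgroupAOf P : Set X)) ∧
    PNil p (Subgroup.centralizer ((P ⊓ Subgroup.centralizer (P : Set X) : Subgroup X) : Set X))

/-- Thompson's theorem for the group `X` -/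
def Holds (p : ℕ) (X : Type u) [Group X] : Prop :=
  Free p X → ∀ P : Sylow p X, Hyp p (P : Subgroup X) → PNil p (⊤ : Subgroup X)

theorem involves_of_surjective {H : Type*} [Group H] {G G' : Type*} [Group G] [Group G']
    (f : G →* G') (hf : Function.Surjective f) (h : Cfsg.Involves H G') : Cfsg.Involves H G := by
  rw [Cfsg.Agent.Lib.Helper7.involves_iff_exists_surjective] at h ⊢
  obtain ⟨K, φ, hφ⟩ := h
  refine ⟨K.comap f, φ.comp (f.subgroupComap K), ?_⟩
  exact hφ.comp (f.subgroupComap_surjective_of_surjective K hf)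

section basic
variable {p : ℕ} {G : Type u} [Group G]

theorem free_sub (L : Subgroup G) (h : Free p G) : Free p ↥L := by
  rcases h with h | h
  · exact Or.inl h
  · exact Or.inr (fun hi => h (Cfsg.Agent.Lib.Helper7.involves_of_injective L.subtype L.subtype_injective hi))

theorem free_quot (M : Subgroup G) [M.Normal] (h : Free p G) : Free p (G ⧸ M) := by
  rcases h with h | h
  · exact Or.inl h
  · exact Or.inr (fun hi => h (involves_of_surjective (QuotientGroup.mk' M)
      (QuotientGroup.mk'_surjective M) hi))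

variable [Finite G]

theorem normalizer_le_normalizer_center (R : Subgroup G) :
    Subgroup.normalizer (R : Set G) ≤
      Subgroup.normalizer ((R ⊓ Subgroup.centralizer (R : Set G) : Subgroup G) : Set G) := by
  intro n hn
  apply mem_normalizer_of_conj_mem
  intro x hx
  rw [Subgroup.mem_inf] at hx ⊢
  refine ⟨(Subgroup.mem_normalizer_iff.mp hn x).mp hx.1, ?_⟩
  rw [Subgroup.mem_centralizer_iff]
  intro r hr
  have h1 : n⁻¹ * r * n ∈ R := by
    have := (Subgroup.mem_normalizer_iff.mp (Subgroup.inv_mem _ hn) r).mp hr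
    rwa [inv_inv] at this
  have h2 := Subgroup.mem_centralizer_iff.mp hx.2 _ h1
  calc r * (n * x * n⁻¹) = n * ((n⁻¹ * r * n) * x) * n⁻¹ := by group
    _ = n * (x * (n⁻¹ * r * n)) * n⁻¹ := by rw [h2]
    _ = n * x * n⁻¹ * r := by group

theorem center_ne_bot [Fact p.Prime] {R : Subgroup G} (hR : IsPGroup p R) (hne : R ≠ ⊥) :
    R ⊓ Subgroup.centralizer (R : Set G) ≠ ⊥ := by
  obtain ⟨y, hy, hyc, -, hy1⟩ := Cfsg.Agent.H1.exists_central_order_p hR le_rfl
    Subgroup.le_normalizer hne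
  intro h
  apply hy1
  have : y ∈ R ⊓ Subgroup.centralizer (R : Set G) := ⟨hy, hyc⟩
  rw [h] at this
  exact Subgroup.mem_bot.mp this

/-- the theorem for a subgroup `L`, in ambient form -/
theorem holds_sub [Fact p.Prime] {L : Subgroup G} (ih : Holds p ↥L) (hfree : Free p G)
    (R : Subgroup G) (hRL : R ≤ L) (hRp : IsPGroup p R) (hRi : ¬ p ∣ R.relIndex L)
    (hH : Hyp p R) : PNil p L := by
  have hRp' : IsPGroup p ↥(R.subgroupOf L) :=
    hRp.comap_of_injective L.subtype L.subtype_injective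
  obtain ⟨PL, hPL⟩ : ∃ PL : Sylow p ↥L, (PL : Subgroup ↥L) = R.subgroupOf L :=
    ⟨hRp'.toSylow hRi, IsPGroup.toSylow_coe _ _⟩
  have h1 := ih (free_sub L hfree) PL
  rw [hPL] at h1
  exact (pnil_top_subtype_iff L).mp
    (h1 ⟨pnil_normalizer_JA_subgroupOf hRL hH.1,
      Cfsg.Agent.H1.pnil_centralizer_center_subgroupOf hRL hH.2⟩)

/-- reduction modulo a normal `p'`-subgroup -/
theorem holds_quot_p' [Fact p.Prime] (M : Subgroup G) [hMn : M.Normal]
    (hM : (Nat.card M).Coprime p) (ih : Holds p (G ⧸ M)) (hfree : Free p G) (P : Sylow p G)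
    (hH : Hyp p (P : Subgroup G)) : PNil p (⊤ : Subgroup G) := by
  have hs := QuotientGroup.mk'_surjective M
  have hPp : IsPGroup p ↥(P : Subgroup G) := P.isPGroup'
  have hinf : M ⊓ (P : Subgroup G) = ⊥ := Cfsg.Agent.H1.inf_eq_bot_of_pgroup_coprime M P hPp hM
  have hinj : ∀ x ∈ (P : Subgroup G), QuotientGroup.mk' M x = 1 → x = 1 := by
    intro x hx h1
    rw [QuotientGroup.mk'_apply, QuotientGroup.eq_one_iff] at h1
    have h2 : x ∈ M ⊓ (P : Subgroup G) := ⟨h1, hx⟩
    rw [hinf] at h2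
    exact Subgroup.mem_bot.mp h2
  have h1 := ih (free_quot M hfree) (P.mapSurjective hs)
  rw [Sylow.coe_mapSurjective] at h1
  apply pnil_top_of_quotient M hM
  apply h1
  refine ⟨?_, ?_⟩
  · rw [JA_map _ _ hinj]
    have hJp : IsPGroup p ↥(Cfsg.thompsonSubgroupAOf (P : Subgroup G)) := hPp.to_le (JA_le _)
    have hle : Subgroup.normalizer (((Cfsg.thompsonSubgroupAOf (P : Subgroup G)).map
        (QuotientGroup.mk' M) : Subgroup (G ⧸ M)) : Set (G ⧸ M)) ≤
        (Subgroup.normalizer (Cfsg.thompsonSubgroupAOf (P : Subgroup G) : Set G)).map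
          (QuotientGroup.mk' M) := by
      intro gbar hg
      obtain ⟨g, rfl⟩ := hs gbar
      obtain ⟨n', hn', hng⟩ := exists_mem_normalizer_lift M _ hJp hM hg
      exact ⟨n', hn', hng⟩
    exact pnil_mono hle (pnil_map (QuotientGroup.mk' M) hH.1)
  · rw [Cfsg.Agent.H1.center_map _ _ hinj]
    have hZp : IsPGroup p ↥((P : Subgroup G) ⊓
        Subgroup.centralizer ((P : Subgroup G) : Set G) : Subgroup G) := hPp.to_le inf_le_left
    exact pnil_mono (Cfsg.Agent.H1.centralizer_map_mk_le M _ hZp hM)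
      (pnil_map (QuotientGroup.mk' M) hH.2)

/-- normalizers in `G ⧸ H` of nontrivial subgroups of the image of `P` normalized by it -/
theorem pnil_normalizer_quot [Fact p.Prime] (H : Subgroup G) [hHn : H.Normal] (P : Sylow p G)
    (hHP : H ≤ (P : Subgroup G))
    (hK : ∀ K' : Subgroup G, H ≤ K' → K' ≤ (P : Subgroup G) → K' ≠ H →
      (P : Subgroup G) ≤ Subgroup.normalizer (K' : Set G) →
      PNil p (Subgroup.normalizer (K' : Set G)))
    (Wb : Subgroup (G ⧸ H)) (hWble : Wb ≤ (P : Subgroup G).map (QuotientGroup.mk' H))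
    (hWbne : Wb ≠ ⊥)
    (hPn : (P : Subgroup G).map (QuotientGroup.mk' H) ≤ Subgroup.normalizer (Wb : Set (G ⧸ H))) :
    PNil p (Subgroup.normalizer (Wb : Set (G ⧸ H))) := by
  have hs := QuotientGroup.mk'_surjective H
  have hker : ∀ x : G, QuotientGroup.mk' H x = 1 ↔ x ∈ H := by
    intro x
    rw [QuotientGroup.mk'_apply, QuotientGroup.eq_one_iff]
  have hpre : ∀ x : G, QuotientGroup.mk' H x ∈ (P : Subgroup G).map (QuotientGroup.mk' H) →
      x ∈ (P : Subgroup G) := by
    rintro x ⟨y, hy, hyx⟩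
    have h1 : (QuotientGroup.mk' H) (y⁻¹ * x) = 1 := by
      rw [map_mul, map_inv, hyx, inv_mul_cancel]
    rw [hker] at h1
    have e : x = y * (y⁻¹ * x) := by group
    rw [e]
    exact Subgroup.mul_mem _ hy (hHP h1)
  obtain ⟨K', hK'⟩ : ∃ K' : Subgroup G, K' = Wb.comap (QuotientGroup.mk' H) := ⟨_, rfl⟩
  have hHK' : H ≤ K' := by
    intro x hx
    rw [hK', Subgroup.mem_comap, (hker x).mpr hx]
    exact Wb.one_mem
  have hK'P : K' ≤ (P : Subgroup G) := by
    intro x hx
    rw [hK', Subgroup.mem_comap] at hx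
    exact hpre x (hWble hx)
  have hK'map : K'.map (QuotientGroup.mk' H) = Wb := by
    rw [hK']; exact Subgroup.map_comap_eq_self_of_surjective hs Wb
  have hK'ne : K' ≠ H := by
    intro h
    apply hWbne
    rw [← hK'map, h, eq_bot_iff]
    rintro _ ⟨x, hx, rfl⟩
    rw [Subgroup.mem_bot, hker]; exact hx
  have hNK' : Subgroup.normalizer (K' : Set G) =
      (Subgroup.normalizer (Wb : Set (G ⧸ H))).comap (QuotientGroup.mk' H) := by
    rw [hK']; exact (Subgroup.comap_normalizer_eq_of_surjective Wb hs).symm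
  have hPN : (P : Subgroup G) ≤ Subgroup.normalizer (K' : Set G) := by
    intro x hx
    rw [hNK', Subgroup.mem_comap]
    exact hPn (Subgroup.mem_map_of_mem _ hx)
  have h1 := hK K' hHK' hK'P hK'ne hPN
  have h2 : Subgroup.normalizer (Wb : Set (G ⧸ H)) =
      (Subgroup.normalizer (K' : Set G)).map (QuotientGroup.mk' H) := by
    rw [hNK']; exact (Subgroup.map_comap_eq_self_of_surjective hs _).symm
  rw [h2]; exact pnil_map _ h1

/-- reduction modulo a normal `p`-subgroup -/
theorem holds_quot_p [Fact p.Prime] (H : Subgroup G) [hHn : H.Normal]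
    (ih : Holds p (G ⧸ H)) (hfree : Free p G) (P : Sylow p G) (hHP : H ≤ (P : Subgroup G))
    (hPH : ¬ (P : Subgroup G) ≤ H)
    (hK : ∀ K' : Subgroup G, H ≤ K' → K' ≤ (P : Subgroup G) → K' ≠ H →
      (P : Subgroup G) ≤ Subgroup.normalizer (K' : Set G) →
      PNil p (Subgroup.normalizer (K' : Set G))) :
    PNil p (⊤ : Subgroup (G ⧸ H)) := by
  have hs := QuotientGroup.mk'_surjective H
  have hPp : IsPGroup p ↥(P : Subgroup G) := P.isPGroup'
  have hker : ∀ x : G, QuotientGroup.mk' H x = 1 ↔ x ∈ H := by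
    intro x
    rw [QuotientGroup.mk'_apply, QuotientGroup.eq_one_iff]
  obtain ⟨Pb, hPb⟩ : ∃ Pb : Subgroup (G ⧸ H), Pb = (P : Subgroup G).map (QuotientGroup.mk' H) :=
    ⟨_, rfl⟩
  have hPbp : IsPGroup p ↥Pb := by rw [hPb]; exact hPp.map _
  have hPbne : Pb ≠ ⊥ := by
    intro h
    apply hPH
    intro x hx
    have h1 : (QuotientGroup.mk' H) x ∈ Pb := by rw [hPb]; exact Subgroup.mem_map_of_mem _ hx
    rw [h, Subgroup.mem_bot, hker] at h1
    exact h1
  have h1 := ih (free_quot H hfree) (P.mapSurjective hs)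
  rw [Sylow.coe_mapSurjective, ← hPb] at h1
  apply h1
  refine ⟨?_, ?_⟩
  · apply pnil_normalizer_quot H P hHP hK
    · rw [← hPb]; exact JA_le Pb
    · exact JA_ne_bot hPbne
    · rw [← hPb]; exact Subgroup.le_normalizer.trans (normalizer_le_normalizer_JA Pb)
  · have h2 : PNil p (Subgroup.normalizer ((Pb ⊓ Subgroup.centralizer (Pb : Set (G ⧸ H)) :
        Subgroup (G ⧸ H)) : Set (G ⧸ H))) := by
      apply pnil_normalizer_quot H P hHP hK
      · rw [← hPb]; exact inf_le_left
      · exact center_ne_bot hPbp hPbne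
      · rw [← hPb]; exact Subgroup.le_normalizer.trans (normalizer_le_normalizer_center Pb)
    exact pnil_mono (Subgroup.centralizer_le_normalizer _) h2

end basic

end Cfsg.Agent.Lib.Helper7.ThA

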