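import Mathlib

set_option autoImplicit false
set_option linter.unusedVariables false
set_option linter.unusedSectionVars false

namespace Cfsg.Agent.Lib.Helper7.CentralTransfer

open Subgroup Subgroup.leftTransversals MulAction
open scoped Pointwise

variable {N : Type*} [Group N] (T : Subgroup N) {C : Type*} [CommGroup C] (ϕ : T →* C)

/-- The automorphisms of `N` that stabilize `T` and the homomorphism `ϕ : T →* C`. -/
def Stab : Subgroup (MulAut N) where
  carrier := {a | (∀ x, a x ∈ T ↔ x ∈ T) ∧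
    ∀ (x : N) (hx : x ∈ T) (hx' : a x ∈ T), ϕ ⟨a x, hx'⟩ = ϕ ⟨x, hx⟩}
  mul_mem' := by
    rintro a b ⟨ha1, ha2⟩ ⟨hb1, hb2⟩
    refine ⟨fun x => ?_, fun x hx hx' => ?_⟩
    · rw [MulAut.mul_apply, ha1, hb1]
    · have hbx : b x ∈ T := (hb1 x).mpr hx
      exact (ha2 (b x) hbx hx').trans (hb2 x hx hbx)
  one_mem' := ⟨fun x => Iff.rfl, fun x hx hx' => rfl⟩
  inv_mem' := by
    rintro a ⟨ha1, ha2⟩
    refine ⟨fun x => ?_, fun x hx hx' => ?_⟩
    · rw [← ha1 (a⁻¹ x), MulAut.apply_inv_self]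
    · have hx'' : a (a⁻¹ x) ∈ T := by rw [MulAut.apply_inv_self]; exact hx
      have h := ha2 (a⁻¹ x) hx' hx''
      rw [← h]
      congr 1
      ext
      simp

theorem mem_Stab {a : MulAut N} : a ∈ Stab T ϕ ↔ (∀ x, a x ∈ T ↔ x ∈ T) ∧
    ∀ (x : N) (hx : x ∈ T) (hx' : a x ∈ T), ϕ ⟨a x, hx'⟩ = ϕ ⟨x, hx⟩ := Iff.rfl

instance : QuotientAction (Stab T ϕ) T where
  inv_mul_mem a {x y} h := by
    have h1 : ((a : MulAut N) (x⁻¹ * y)) ∈ T := (a.2.1 _).mpr h
    simpa [Subgroup.smul_def, MulAut.smul_def, map_mul, map_inv] using h1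

variable [T.FiniteIndex]

theorem stab_smul_diff_smul (a : Stab T ϕ) (S R : T.LeftTransversal) :
    diff ϕ (a • S) (a • R) = diff ϕ S R := by
  letI := T.fintypeQuotientOfFiniteIndex
  have key : ∀ (x : N) (hx : x ∈ T) (y : N) (hy : y ∈ T), y = (a : MulAut N) x →
      ϕ ⟨y, hy⟩ = ϕ ⟨x, hx⟩ := by
    rintro x hx _ hy rfl
    exact a.2.2 x hx hy
  refine Fintype.prod_equiv (MulAction.toPerm a).symm _ _ fun q => ?_
  simp only [smul_apply_eq_smul_apply_inv_smul, toPerm_symm_apply]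
  apply key
  simp [Subgroup.smul_def, MulAut.smul_def]

/-- The "conjugation defect" homomorphism `Stab T ϕ →* C`. -/
noncomputable def cHom (S : T.LeftTransversal) : Stab T ϕ →* C where
  toFun a := diff ϕ (a • S) S
  map_one' := by rw [one_smul, diff_self]
  map_mul' a b := by
    rw [mul_smul, ← diff_mul_diff ϕ (a • b • S) (a • S) S, stab_smul_diff_smul, mul_comm]

theorem cHom_apply (S : T.LeftTransversal) (a : Stab T ϕ) : cHom T ϕ S a = diff ϕ (a • S) S := rfl

/-- Conjugation by an element of `T` lies in `Stab T ϕ`. -/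
def conjStab (t : T) : Stab T ϕ :=
  ⟨MulAut.conj (t : N), by
    refine ⟨fun x => ?_, fun x hx hx' => ?_⟩
    · rw [MulAut.conj_apply]
      constructor
      · intro h
        have h2 := T.mul_mem (T.mul_mem (T.inv_mem t.2) h) t.2
        simpa [mul_assoc] using h2
      · intro h
        exact T.mul_mem (T.mul_mem t.2 h) (T.inv_mem t.2)
    · have e : (⟨MulAut.conj (t : N) x, hx'⟩ : T) = t * ⟨x, hx⟩ * t⁻¹ := by
        ext; simp [MulAut.conj_apply]
      rw [e, map_mul, map_mul, map_inv, mul_comm (ϕ t), mul_assoc, mul_inv_cancel, mul_one]⟩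

theorem coe_conjStab (t : T) : ((conjStab T ϕ t : Stab T ϕ) : MulAut N) = MulAut.conj (t : N) := rfl

theorem conjStab_inv_smul (t : T) (q : N ⧸ T) : (conjStab T ϕ t)⁻¹ • q = (t : N)⁻¹ • q := by
  induction q using Quotient.inductionOn' with
  | h x =>
    show (conjStab T ϕ t)⁻¹ • (↑x : N ⧸ T) = (t : N)⁻¹ • (↑x : N ⧸ T)
    rw [MulAction.Quotient.smul_coe, MulAction.Quotient.smul_coe]
    rw [QuotientGroup.eq]
    have : ((conjStab T ϕ t)⁻¹ • x)⁻¹ * ((t : N)⁻¹ • x) = (t : N)⁻¹ := by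
      simp [Subgroup.smul_def, MulAut.smul_def, coe_conjStab, MulAut.conj_inv_apply, mul_assoc]
    rw [this]
    exact T.inv_mem t.2

theorem cHom_conjStab (S : T.LeftTransversal) (t : T) :
    cHom T ϕ S (conjStab T ϕ t) = ϕ t ^ T.index * (MonoidHom.transfer ϕ (t : N))⁻¹ := by
  letI := T.fintypeQuotientOfFiniteIndex
  rw [MonoidHom.transfer_def ϕ S, diff_inv, cHom_apply]
  have hidx : T.index = Fintype.card (N ⧸ T) := by
    rw [Subgroup.index_eq_card, Nat.card_eq_fintype_card]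
  unfold diff
  simp only
  rw [hidx, ← Finset.card_univ, ← Finset.prod_const, ← Finset.prod_mul_distrib]
  refine Finset.prod_congr rfl fun q _ => ?_
  rw [← map_mul]
  congr 1
  ext
  simp only [Subgroup.coe_mul]
  rw [smul_apply_eq_smul_apply_inv_smul, smul_apply_eq_smul_apply_inv_smul, conjStab_inv_smul]
  simp [Subgroup.smul_def, MulAut.smul_def, coe_conjStab, MulAut.conj_apply, mul_assoc]

end Cfsg.Agent.Lib.Helper7.CentralTransfer
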