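import Mathlib
import Cfsg.Prelude.Def_Transfer
import Cfsg.Agent.Lib.Helper7.CentralTransfer
import Cfsg.Agent.H1.PResidual
import Cfsg.Agent.Lib.Helper4.ZJ
import Cfsg.Agent.Lib.Helper4.PNil

set_option autoImplicit false
set_option linter.unusedVariables false
set_option linter.unusedSectionVars false

namespace Cfsg.Agent.Lib.Helper7.Tate

open Cfsg Cfsg.Agent.Lib.Helper7.CentralTransfer
open scoped commutatorElement IsMulCommutative

/-- In a nilpotent group, `[P, H] ≠ H` for a nontrivial subgroup `H`. -/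
theorem commutator_top_ne {P : Type*} [Group P] [hP : Group.IsNilpotent P] (H : Subgroup P)
    (hH : H ≠ ⊥) : ⁅(⊤ : Subgroup P), H⁆ ≠ H := by
  intro h
  apply hH
  obtain ⟨n, hn⟩ := Subgroup.nilpotent_iff_lowerCentralSeries.mp hP
  have key : ∀ k, H ≤ Subgroup.lowerCentralSeries (⊤ : Subgroup P) k := by
    intro k
    induction k with
    | zero => simp
    | succ k ih =>
      rw [Subgroup.lowerCentralSeries_succ]
      calc H = ⁅(⊤ : Subgroup P), H⁆ := h.symm
        _ = ⁅H, ⊤⁆ := Subgroup.commutator_comm _ _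
        _ ≤ ⁅Subgroup.lowerCentralSeries (⊤ : Subgroup P) k, ⊤⁆ := Subgroup.commutator_mono ih le_rfl
  rw [eq_bot_iff, ← hn]
  exact key n

/-- A homomorphism to a `p`-group is trivial on a group generated by `p'`-elements. -/
theorem hom_eq_one_of_pResidual_eq_top {N C : Type*} [Group N] [Group C] {p : ℕ} [Fact p.Prime]
    (f : N →* C) (hC : IsPGroup p C) (h : pResidual p N = ⊤) (x : N) : f x = 1 := by
  have hle : pResidual p N ≤ f.ker := by
    unfold pResidual
    rw [Subgroup.closure_le]
    intro g hg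
    have hg' : Nat.Coprime (orderOf g) p := hg
    rw [SetLike.mem_coe, MonoidHom.mem_ker]
    obtain ⟨k, hk⟩ := hC (f g)
    have h1 : orderOf (f g) ∣ p ^ k := orderOf_dvd_of_pow_eq_one hk
    have h2 : orderOf (f g) ∣ orderOf g := orderOf_map_dvd f g
    have h3 : Nat.Coprime (orderOf g) (p ^ k) := Nat.Coprime.pow_right k hg'
    have h4 : orderOf (f g) = 1 := Nat.eq_one_of_dvd_coprimes h3 h2 h1
    exact orderOf_eq_one_iff.mp h4
  have : x ∈ f.ker := hle (h ▸ Subgroup.mem_top x)
  exact MonoidHom.mem_ker.mp this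

section
variable {G : Type*} [Group G] (P N : Subgroup G) [hN : N.Normal]

/-- `N ∩ P` inside `N`. -/
abbrev TN : Subgroup ↥N := P.subgroupOf N
/-- `N ∩ P` inside `P`. -/
abbrev TP : Subgroup ↥P := N.subgroupOf P
/-- `[P, N ∩ P]` inside `P`. -/
abbrev MP : Subgroup ↥P := ⁅(⊤ : Subgroup ↥P), TP P N⁆

instance MP_normal : (MP P N).Normal := Subgroup.commutator_normal ⊤ (TP P N)

/-- The inclusion of `N ∩ P` (inside `N`) into `P`. -/
def incl : ↥(TN P N) →* ↥P where
  toFun t := ⟨t.1.1, t.2⟩
  map_one' := rfl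
  map_mul' _ _ := rfl

theorem incl_coe (t : ↥(TN P N)) : ((incl P N t : ↥P) : G) = ((t : ↥N) : G) := rfl

theorem incl_mem (t : ↥(TN P N)) : incl P N t ∈ TP P N := t.1.2

theorem comm_mem_MP (u : ↥P) {x : ↥P} (hx : x ∈ TP P N) : u * x * u⁻¹ * x⁻¹ ∈ MP P N := by
  have := Subgroup.commutator_mem_commutator (Subgroup.mem_top u) hx
  rwa [commutatorElement_def] at this

/-- The map `N ∩ P → Z(P / [P, N ∩ P])`. -/
def psi : ↥(TN P N) →* Subgroup.center (↥P ⧸ MP P N) :=
  ((QuotientGroup.mk' (MP P N)).comp (incl P N)).codRestrict _ (fun t => by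
    rw [Subgroup.mem_center_iff]
    intro y
    obtain ⟨u, rfl⟩ := QuotientGroup.mk_surjective y
    show (u : ↥P ⧸ MP P N) * ((incl P N t : ↥P) : ↥P ⧸ MP P N) = (incl P N t : ↥P) * u
    rw [← QuotientGroup.mk_mul, ← QuotientGroup.mk_mul, eq_comm, QuotientGroup.eq]
    have h := comm_mem_MP P N u⁻¹ (Subgroup.inv_mem _ (incl_mem P N t))
    have e : (incl P N t * u)⁻¹ * (u * incl P N t) = u⁻¹ * (incl P N t)⁻¹ * u⁻¹⁻¹ * (incl P N t)⁻¹⁻¹ := by
      group
    rw [e]; exact h)

theorem psi_coe (t : ↥(TN P N)) : ((psi P N t : Subgroup.center (↥P ⧸ MP P N)) : ↥P ⧸ MP P N) =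
    ((incl P N t : ↥P) : ↥P ⧸ MP P N) := rfl

/-- The surjective homomorphism `ϕ` to an abelian group. -/
def phi : ↥(TN P N) →* (psi P N).range := (psi P N).rangeRestrict

theorem phi_surjective : Function.Surjective (phi P N) := (psi P N).rangeRestrict_surjective

theorem phi_eq_iff (s t : ↥(TN P N)) : phi P N s = phi P N t ↔
    (incl P N s)⁻¹ * incl P N t ∈ MP P N := by
  unfold phi
  rw [Subtype.ext_iff, MonoidHom.coe_rangeRestrict, MonoidHom.coe_rangeRestrict, Subtype.ext_iff,
    psi_coe, psi_coe, QuotientGroup.eq]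

/-- Conjugation by an element of `P`, as an element of `Stab`. -/
def kappa : ↥P →* Stab (TN P N) (phi P N) :=
  ((MulAut.conjNormal (H := N)).comp P.subtype).codRestrict _ (fun u => by
    rw [mem_Stab]
    have hmem : ∀ x : ↥N, (MulAut.conjNormal (H := N)).comp P.subtype u x ∈ TN P N ↔ x ∈ TN P N := by
      intro x
      rw [Subgroup.mem_subgroupOf, Subgroup.mem_subgroupOf]
      show ((MulAut.conjNormal (u : G) x : ↥N) : G) ∈ P ↔ _
      rw [MulAut.conjNormal_apply]
      constructor
      · intro h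
        have h2 := P.mul_mem (P.mul_mem (P.inv_mem u.2) h) u.2
        simpa [mul_assoc] using h2
      · intro h
        exact P.mul_mem (P.mul_mem u.2 h) (P.inv_mem u.2)
    refine ⟨hmem, fun x hx hx' => ?_⟩
    rw [phi_eq_iff]
    have hxP : incl P N ⟨x, hx⟩ ∈ TP P N := incl_mem P N ⟨x, hx⟩
    have h := comm_mem_MP P N u (Subgroup.inv_mem _ hxP)
    have e : (incl P N ⟨_, hx'⟩)⁻¹ * incl P N ⟨x, hx⟩ =
        u * (incl P N ⟨x, hx⟩)⁻¹ * u⁻¹ * (incl P N ⟨x, hx⟩)⁻¹⁻¹ := by
      ext
      simp only [Subgroup.coe_mul, Subgroup.coe_inv, incl_coe]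
      show ((MulAut.conjNormal (u : G) x : ↥N) : G)⁻¹ * _ = _
      rw [MulAut.conjNormal_apply]
      group
    rw [e]; exact h)

theorem kappa_coe (u : ↥P) (x : ↥N) : ((((kappa P N u : Stab (TN P N) (phi P N)) : MulAut ↥N) x : ↥N) : G)
    = (u : G) * x * (u : G)⁻¹ := by
  show ((MulAut.conjNormal (u : G) x : ↥N) : G) = _
  rw [MulAut.conjNormal_apply]

theorem kappa_incl [Finite G] (t : ↥(TN P N)) : kappa P N (incl P N t) = conjStab (TN P N) (phi P N) t := by
  apply Subtype.ext
  apply MulEquiv.ext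
  intro x
  apply Subtype.ext
  rw [kappa_coe, coe_conjStab, MulAut.conj_apply]
  simp [incl_coe]

end

/-- **Key step of Tate's theorem**: if `N ∩ P ≤ Φ(P)` is nontrivial, then `O^p(N) ≠ N`. -/
theorem pResidual_ne_top {G : Type*} [Group G] [Finite G] {p : ℕ} [Fact p.Prime] (P : Sylow p G)
    (N : Subgroup G) [N.Normal]
    (h : N ⊓ (P : Subgroup G) ≤ (frattini P).map (P : Subgroup G).subtype)
    (hT : N ⊓ (P : Subgroup G) ≠ ⊥) : Cfsg.pResidual p ↥N ≠ ⊤ := by
  intro hres
  have hp : p.Prime := Fact.out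
  -- `C` is a `p`-group
  have hCp : IsPGroup p ↥(psi (P : Subgroup G) N).range := by
    intro y
    obtain ⟨t, rfl⟩ := phi_surjective (P : Subgroup G) N y
    obtain ⟨k, hk⟩ := P.2 (incl (P : Subgroup G) N t)
    refine ⟨k, ?_⟩
    have ht : t ^ p ^ k = 1 := by
      apply Subtype.ext; apply Subtype.ext
      have h2 : ((incl (P : Subgroup G) N t : ↥(P : Subgroup G)) : G) ^ p ^ k = 1 := by
        simpa using congrArg Subtype.val hk
      simp only [Subgroup.coe_pow, Subgroup.coe_one]
      exact h2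
    rw [← map_pow, ht, map_one]
  -- the transfer is trivial
  have htr : ∀ x : ↥N, MonoidHom.transfer (phi (P : Subgroup G) N) x = 1 :=
    fun x => hom_eq_one_of_pResidual_eq_top _ hCp hres x
  obtain ⟨S⟩ : Nonempty (TN (P : Subgroup G) N).LeftTransversal := ⟨default⟩
  set c' : ↥(P : Subgroup G) →* ↥(psi (P : Subgroup G) N).range :=
    (cHom (TN (P : Subgroup G) N) (phi (P : Subgroup G) N) S).comp (kappa (P : Subgroup G) N) with hc'def
  have hc' : ∀ t : ↥(TN (P : Subgroup G) N),
      c' (incl (P : Subgroup G) N t) = phi (P : Subgroup G) N t ^ (TN (P : Subgroup G) N).index := by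
    intro t
    show cHom (TN (P : Subgroup G) N) (phi (P : Subgroup G) N) S
      (kappa (P : Subgroup G) N (incl (P : Subgroup G) N t)) = _
    rw [kappa_incl, cHom_conjStab, htr, inv_one, mul_one]
  -- the index is prime to `p`
  have hm : ¬ p ∣ (TN (P : Subgroup G) N).index := by
    have := Cfsg.Agent.Lib.Helper4.ZJ.not_dvd_index_inf_normal (p := p) (P : Subgroup G) N P.not_dvd_index
    rwa [Subgroup.inf_subgroupOf_right] at this
  -- every element of `C` is of the form `c' (incl t)`
  have hsurj' : ∀ y : ↥(psi (P : Subgroup G) N).range, ∃ t, c' (incl (P : Subgroup G) N t) = y := by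
    intro y
    obtain ⟨t, rfl⟩ := phi_surjective (P : Subgroup G) N y
    have hcop : (orderOf (phi (P : Subgroup G) N t)).Coprime (TN (P : Subgroup G) N).index := by
      obtain ⟨k, hk⟩ := hCp (phi (P : Subgroup G) N t)
      have h1 : orderOf (phi (P : Subgroup G) N t) ∣ p ^ k := orderOf_dvd_of_pow_eq_one hk
      exact Nat.Coprime.coprime_dvd_left h1
        (Nat.Coprime.pow_left k ((Nat.Prime.coprime_iff_not_dvd hp).mpr hm))
    obtain ⟨j, hj⟩ := exists_pow_eq_self_of_coprime hcop.symm
    refine ⟨t ^ j, ?_⟩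
    rw [hc', map_pow, ← pow_mul, mul_comm, pow_mul]
    exact hj
  have hsurj : Function.Surjective c' := fun y => by
    obtain ⟨t, ht⟩ := hsurj' y
    exact ⟨_, ht⟩
  have hfr := frattini_le_comap_frattini_of_surjective hsurj
  have htop : frattini ↥(psi (P : Subgroup G) N).range = ⊤ := by
    rw [eq_top_iff]
    intro y _
    obtain ⟨t, rfl⟩ := hsurj' y
    have hmem : ((t : ↥N) : G) ∈ N ⊓ (P : Subgroup G) := ⟨t.1.2, t.2⟩
    obtain ⟨f, hf, hfe⟩ := h hmem
    have hfe' : f = incl (P : Subgroup G) N t := Subtype.ext hfe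
    rw [hfe'] at hf
    exact hfr hf
  -- `C` is nontrivial
  haveI : Group.IsNilpotent ↥(P : Subgroup G) := P.2.isNilpotent
  have hTP : TP (P : Subgroup G) N ≠ ⊥ := by
    intro hbot
    apply hT
    rw [eq_bot_iff]
    intro x hx
    have : (⟨x, hx.2⟩ : ↥(P : Subgroup G)) ∈ TP (P : Subgroup G) N := Subgroup.mem_subgroupOf.mpr hx.1
    rw [hbot, Subgroup.mem_bot] at this
    rw [Subgroup.mem_bot]
    exact congrArg Subtype.val this
  have hne := commutator_top_ne (TP (P : Subgroup G) N) hTP
  have hle : MP (P : Subgroup G) N ≤ TP (P : Subgroup G) N := Subgroup.commutator_le_right _ _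
  have hex : ∃ x ∈ TP (P : Subgroup G) N, x ∉ MP (P : Subgroup G) N := by
    by_contra hcon
    push Not at hcon
    exact hne (le_antisymm hle hcon)
  obtain ⟨x, hxT, hxM⟩ := hex
  have hxN : (x : G) ∈ N := Subgroup.mem_subgroupOf.mp hxT
  let t : ↥(TN (P : Subgroup G) N) := ⟨⟨(x : G), hxN⟩, x.2⟩
  have hphit : phi (P : Subgroup G) N t ≠ 1 := by
    intro h1
    rw [← map_one (phi (P : Subgroup G) N), phi_eq_iff] at h1
    apply hxM
    have e : (incl (P : Subgroup G) N t)⁻¹ * incl (P : Subgroup G) N 1 = x⁻¹ := by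
      rw [map_one, mul_one]; rfl
    rw [e] at h1
    simpa using Subgroup.inv_mem _ h1
  -- contradiction: a nontrivial finite group has a maximal subgroup
  rcases eq_top_or_exists_le_coatom (⊥ : Subgroup ↥(psi (P : Subgroup G) N).range) with hbt | ⟨K, hK, -⟩
  · apply hphit
    have : phi (P : Subgroup G) N t ∈ (⊥ : Subgroup ↥(psi (P : Subgroup G) N).range) := by
      rw [hbt]; exact Subgroup.mem_top _
    exact Subgroup.mem_bot.mp this
  · have := frattini_le_coatom hK
    rw [htop] at this
    exact hK.1 (top_le_iff.mp this)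

/-- `O^p` is preserved by automorphisms. -/
theorem pResidual_map_equiv {A : Type*} [Group A] (p : ℕ) (φ : A ≃* A) {y : A}
    (hy : y ∈ pResidual p A) : φ y ∈ pResidual p A := by
  unfold pResidual at hy ⊢
  induction hy using Subgroup.closure_induction with
  | mem x hx =>
    apply Subgroup.subset_closure
    show Nat.Coprime (orderOf (φ x)) p
    rw [MulEquiv.orderOf_eq]
    exact hx
  | one => rw [map_one]; exact Subgroup.one_mem _
  | mul x y _ _ hx hy => rw [map_mul]; exact mul_mem hx hy
  | inv x _ hx => rw [map_inv]; exact inv_mem hx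

open Cfsg.Agent.Lib.Helper4.PNil in
/-- **Tate's theorem**, ambient form. -/
theorem tate_pnil {G : Type*} [Group G] [Finite G] {p : ℕ} [Fact p.Prime] (P : Sylow p G) :
    ∀ (n : ℕ) (N : Subgroup G), N.Normal → Nat.card N = n →
      N ⊓ (P : Subgroup G) ≤ (frattini P).map (P : Subgroup G).subtype → PNil p N := by
  have hp : p.Prime := Fact.out
  intro n
  induction n using Nat.strong_induction_on with
  | _ n ih =>
    intro N hN hcard h
    haveI := hN
    by_cases hT : N ⊓ (P : Subgroup G) = ⊥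
    · refine ⟨N, le_rfl, Subgroup.le_normalizer, ?_, 0, ?_⟩
      · have h1 := Cfsg.Agent.Lib.Helper4.ZJ.not_dvd_index_inf_normal (p := p) (P : Subgroup G) N
          P.not_dvd_index
        rw [inf_comm, hT, Subgroup.bot_subgroupOf, Subgroup.index_bot] at h1
        exact (Nat.Prime.coprime_iff_not_dvd hp).mpr h1 |>.symm
      · rw [Subgroup.relIndex_self, pow_zero]
    · have hres := pResidual_ne_top P N h hT
      set K : Subgroup G := (pResidual p ↥N).map N.subtype with hK
      have hKN : K ≤ N := by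
        rintro _ ⟨y, -, rfl⟩
        exact y.2
      have hKsub : K.subgroupOf N = pResidual p ↥N :=
        Subgroup.comap_map_eq_self_of_injective N.subtype_injective _
      have hKnormal : K.Normal := by
        constructor
        rintro _ ⟨y, hy, rfl⟩ g
        refine ⟨MulAut.conjNormal g y, pResidual_map_equiv p _ hy, ?_⟩
        simp [MulAut.conjNormal_apply]
      have hKne : K ≠ N := by
        intro hKN'
        apply hres
        rw [← hKsub, hKN', Subgroup.subgroupOf_self]
      have hKlt : Nat.card K < Nat.card N := by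
        by_contra hcon
        push Not at hcon
        exact hKne (Subgroup.eq_of_le_of_card_ge hKN hcon)
      have hidx : ∃ j, K.relIndex N = p ^ j := by
        have h1 : IsPGroup p (↥N ⧸ pResidual p ↥N) := Cfsg.Agent.H1.isPGroup_quotient_pResidual p
        obtain ⟨j, hj⟩ := IsPGroup.iff_card.mp h1
        refine ⟨j, ?_⟩
        rw [← hj]
        show (K.subgroupOf N).index = _
        rw [hKsub, Subgroup.index_eq_card]
      obtain ⟨j, hj⟩ := hidx
      obtain ⟨M, hMK, hKM, hcop, k, hk⟩ := ih (Nat.card K) (hcard ▸ hKlt) K hKnormal rfl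
        (le_trans (inf_le_inf_right _ hKN) h)
      have hMn : ∀ g : G, ∀ x ∈ M, g * x * g⁻¹ ∈ M := by
        intro g x hx
        have h1 : g * x * g⁻¹ ∈ K := hKnormal.conj_mem x (hMK hx) g
        have h2 : (orderOf (g * x * g⁻¹)).Coprime p := by
          have e : g * x * g⁻¹ = MulAut.conj g x := rfl
          rw [e, MulEquiv.orderOf_eq]
          have h3 : orderOf x ∣ Nat.card M := by
            have := orderOf_dvd_natCard (⟨x, hx⟩ : ↥M)
            rwa [Subgroup.orderOf_mk] at this
          exact Nat.Coprime.coprime_dvd_left h3 hcop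
        exact mem_of_coprime hMK hKM hk h1 h2
      refine ⟨M, hMK.trans hKN, ?_, hcop, k + j, ?_⟩
      · intro g _
        rw [Subgroup.mem_normalizer_iff]
        intro x
        constructor
        · intro hx; exact hMn g x hx
        · intro hx
          have := hMn g⁻¹ _ hx
          simpa [mul_assoc] using this
      · rw [← Subgroup.relIndex_mul_relIndex M K N hMK hKN, hk, hj, pow_add]

/-- **Tate's theorem**. -/
theorem tate {G : Type*} [Group G] [Finite G] {p : ℕ} [Fact p.Prime] (P : Sylow p G)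
    (N : Subgroup G) [hN : N.Normal]
    (h : N ⊓ (P : Subgroup G) ≤ (frattini P).map (P : Subgroup G).subtype) :
    HasNormalPComplement p N :=
  (Cfsg.Agent.Lib.Helper4.PNil.pnil_iff_hasNormalPComplement N).mp
    (tate_pnil P _ N hN rfl h)

end Cfsg.Agent.Lib.Helper7.Tate


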