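import Mathlib
import Cfsg.Prelude.Def_IsolatedElements
import Cfsg.Prelude.Def_TwoFusion
import Cfsg.Agent.Lib.Helper7.SylowLib

set_option autoImplicit false

namespace Cfsg.Agent.Lib.Helper7

open Cfsg

/-- In a nilpotent group, an element all of whose conjugates that commute with it coincide with it
is central. -/
theorem mem_center_of_isolated_of_nilpotent {N : Type*} [Group N] [Group.IsNilpotent N] (x : N)
    (h : ∀ y : N, Commute x (y * x * y⁻¹) → y * x * y⁻¹ = x) : x ∈ Subgroup.center N := by
  by_contra hx
  set C : Subgroup N := Subgroup.centralizer ({x} : Set N) with hC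
  have hCtop : C < ⊤ := by
    rw [lt_top_iff_ne_top]
    intro htop
    apply hx
    rw [Subgroup.mem_center_iff]
    intro g
    have : g ∈ C := htop ▸ Subgroup.mem_top g
    exact Subgroup.mem_centralizer_iff.mp this x rfl |>.symm ▸ rfl
  have hnc := Group.normalizerCondition_of_isNilpotent (G := N) C hCtop
  obtain ⟨y, hyN, hyC⟩ := SetLike.exists_of_lt hnc
  apply hyC
  have hxC : x ∈ C := Subgroup.mem_centralizer_iff.mpr (fun z hz => by rw [Set.mem_singleton_iff.mp hz])
  have h1 : y * x * y⁻¹ ∈ C := (Subgroup.mem_normalizer_iff.mp hyN x).mp hxC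
  have h2 : Commute x (y * x * y⁻¹) := Subgroup.mem_centralizer_iff.mp h1 x rfl
  have h3 := h y h2
  rw [hC, Subgroup.mem_centralizer_iff]
  intro z hz
  rw [Set.mem_singleton_iff.mp hz]
  calc x * y = (y * x * y⁻¹) * y := by rw [h3]
    _ = y * x := by group

/-- An isolated element lying in a `p`-subgroup `R` of a finite group centralizes `R`. -/
theorem isIsolated_centralizes_of_mem_pGroup {G : Type*} [Group G] [Finite G] {p : ℕ} [Fact p.Prime]
    {x : G} (hiso : IsIsolated x) (R : Subgroup G) (hR : IsPGroup p ↥R) (hx : x ∈ R) :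
    x ∈ Subgroup.centralizer (R : Set G) := by
  haveI : Group.IsNilpotent ↥R := hR.isNilpotent
  have h1 : (⟨x, hx⟩ : ↥R) ∈ Subgroup.center ↥R := by
    apply mem_center_of_isolated_of_nilpotent
    intro y hy
    have hy' : Commute x ((y : G) * x * (y : G)⁻¹) := by
      have := congrArg Subtype.val hy.eq
      show x * _ = _ * x
      simpa using this
    exact Subtype.ext (hiso (y : G) hy')
  rw [Subgroup.mem_centralizer_iff]
  intro r hr
  have := Subgroup.mem_center_iff.mp h1 ⟨r, hr⟩
  exact congrArg Subtype.val this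

/-- A conjugate of an isolated element `x` lying in a `p`-subgroup that contains `x` equals `x`. -/
theorem isIsolated_conj_eq_of_mem_pGroup {G : Type*} [Group G] [Finite G] {p : ℕ} [Fact p.Prime]
    {x : G} (hiso : IsIsolated x) (R : Subgroup G) (hR : IsPGroup p ↥R) (hx : x ∈ R) (g : G)
    (hg : g * x * g⁻¹ ∈ R) : g * x * g⁻¹ = x := by
  apply hiso
  have := Subgroup.mem_centralizer_iff.mp (isIsolated_centralizes_of_mem_pGroup hiso R hR hx) _ hg
  exact this.symm

end Cfsg.Agent.Lib.Helper7
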