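import Mathlib
import Cfsg.Agent.H1.OddCount0
import Cfsg.Agent.H2.BGChief
import Cfsg.Agent.Lib.helper3.Berger1

set_option autoImplicit false
set_option linter.style.haveILetI false
set_option linter.unusedSectionVars false

/-! S4581 P3-(c): an elementary abelian chief factor above a proper normal subgroup (helper7). -/

namespace Cfsg.Agent.Lib.Helper7.OddCnt

open Cfsg Cfsg.Agent.H1.OddCount
open scoped Classical

universe u

theorem min_normal_exponent {Q : Type*} [Group Q] [Finite Q] (M : Subgroup Q) [hMn : M.Normal]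
    (hab : ∀ a ∈ M, ∀ b ∈ M, a * b = b * a)
    (hmin : ∀ K : Subgroup Q, K.Normal → K ≤ M → K = ⊥ ∨ K = M) (p : ℕ) (hp : p.Prime)
    (hpd : p ∣ Nat.card M) : ∀ m ∈ M, m ^ p = 1 := by
  haveI := Fact.mk hp
  obtain ⟨⟨y, hyM⟩, hy⟩ := exists_prime_orderOf_dvd_card' p hpd
  let B : Subgroup Q :=
    { carrier := {x | x ∈ M ∧ x ^ p = 1}
      mul_mem' := by
        rintro a b ⟨ha, ha'⟩ ⟨hb, hb'⟩
        refine ⟨M.mul_mem ha hb, ?_⟩
        rw [(show Commute a b from hab a ha b hb).mul_pow, ha', hb', one_mul]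
      one_mem' := ⟨M.one_mem, one_pow _⟩
      inv_mem' := by
        rintro a ⟨ha, ha'⟩
        exact ⟨M.inv_mem ha, by rw [inv_pow, ha', inv_one]⟩ }
  have hBM : B ≤ M := fun x hx => hx.1
  have hBn : B.Normal := by
    refine ⟨fun n hn g => ⟨hMn.conj_mem n hn.1 g, ?_⟩⟩
    rw [conj_pow, hn.2, mul_one, mul_inv_cancel]
  have hyB : y ∈ B := by
    refine ⟨hyM, ?_⟩
    have h1 : orderOf y = p := by
      rw [← hy]; exact (Subgroup.orderOf_mk y hyM).symm
    rw [← h1]; exact pow_orderOf_eq_one y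
  have hBne : B ≠ ⊥ := by
    intro h
    rw [h, Subgroup.mem_bot] at hyB
    have h1 : orderOf (⟨y, hyM⟩ : M) = 1 := by
      rw [orderOf_eq_one_iff]; exact Subtype.ext hyB
    rw [hy] at h1
    exact hp.one_lt.ne' h1
  have hBeq : B = M := (hmin B hBn hBM).resolve_left hBne
  intro m hm
  have : m ∈ B := hBeq ▸ hm
  exact this.2

variable {G : Type u} [Group G] [Fintype G]

theorem exists_factor [Group.IsSolvable G] (A : Subgroup G) (hA : A.Normal) (hne : A ≠ ⊤) :
    ∃ (B : Subgroup G) (r : ℕ), B.Normal ∧ r.Prime ∧ ElemFactor A B r ∧ A ≠ B := by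
  haveI := hA
  haveI : Nontrivial (G ⧸ A) := by
    rw [← not_subsingleton_iff_nontrivial]
    intro hs
    apply hne
    rw [eq_top_iff]
    intro g _
    have : (QuotientGroup.mk' A g) = 1 := Subsingleton.elim _ _
    exact (QuotientGroup.eq_one_iff g).mp this
  obtain ⟨N, hNn, hNb, hNmin⟩ := Cfsg.Agent.H2.BG.exists_minimal_normal (G := G ⧸ A)
  haveI := hNn
  obtain ⟨hab, r, a, hr, hNc⟩ :=
    Cfsg.Agent.Lib.helper3.Berger.minimal_normal_solvable N hNb hNmin
  have ha0 : a ≠ 0 := by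
    intro h0
    rw [h0, pow_zero] at hNc
    exact hNb (Subgroup.card_eq_one.mp hNc)
  have hexp := min_normal_exponent N hab hNmin r hr (by rw [hNc]; exact dvd_pow_self r ha0)
  refine ⟨N.comap (QuotientGroup.mk' A), r, inferInstance, hr, ⟨?_, ?_, ?_⟩, ?_⟩
  · intro x hx
    rw [Subgroup.mem_comap]
    have : QuotientGroup.mk' A x = 1 := (QuotientGroup.eq_one_iff x).mpr hx
    rw [this]; exact N.one_mem
  · intro x hx y hy
    rw [Subgroup.mem_comap] at hx hy
    rw [← QuotientGroup.eq_one_iff]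
    have h1 := hab _ hx _ hy
    change QuotientGroup.mk' A (x * y * x⁻¹ * y⁻¹) = 1
    rw [map_mul, map_mul, map_mul, map_inv, map_inv, h1]
    group
  · intro x hx
    rw [Subgroup.mem_comap] at hx
    rw [← QuotientGroup.eq_one_iff]
    change QuotientGroup.mk' A (x ^ r) = 1
    rw [map_pow]
    exact hexp _ hx
  · intro hAB
    apply hNb
    rw [Subgroup.eq_bot_iff_forall]
    intro z hz
    obtain ⟨x, rfl⟩ := QuotientGroup.mk'_surjective A z
    have : x ∈ N.comap (QuotientGroup.mk' A) := hz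
    rw [← hAB] at this
    exact (QuotientGroup.eq_one_iff x).mpr this

end Cfsg.Agent.Lib.Helper7.OddCnt
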