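import Mathlib
import Cfsg.Agent.H1.OddCount0
import Cfsg.Agent.H2.ClassProdA
import Cfsg.Agent.Lib.helper3.TransferChar
import Cfsg.Agent.Lib.helper3.Gallagher3
import Cfsg.Agent.Lib.helper3.Irr5

set_option autoImplicit false
set_option linter.style.haveILetI false
set_option linter.unusedSectionVars false

/-! S4581 P3-(f): R-even — the unique Good extension agreeing with a linear character of `P`
(helper7). -/

namespace Cfsg.Agent.Lib.Helper7.OddCnt

open Cfsg Cfsg.Agent.H1.OddCount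
open scoped Classical

universe u

variable {G : Type u} [Group G] [Fintype G]

/-- `B = (P ∩ B) A` when `B/A` is a `2`-group, `B ⊴ G`, `A ⊴ G`. -/
theorem exists_decomp (P : Sylow 2 G) (A B : Subgroup G) (hA : A.Normal) (hB : B.Normal)
    (hf : ElemFactor A B 2) (b : G) (hb : b ∈ B) :
    ∃ p ∈ (P : Subgroup G), p ∈ B ∧ ∃ a ∈ A, b = p * a := by
  haveI := hA
  haveI := hB
  obtain ⟨hAB, -, hsq⟩ := hf
  set C : Subgroup G := ((P : Subgroup G) ⊓ B) ⊔ A with hC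
  have hCB : C ≤ B := sup_le inf_le_right hAB
  -- |B : C| divides the odd number |G : P|
  have h1 : C.relIndex B ∣ (P : Subgroup G).index := by
    have h2 : C.relIndex B ∣ ((P : Subgroup G) ⊓ B).relIndex B :=
      Subgroup.relIndex_dvd_of_le_left B le_sup_left
    rw [Subgroup.inf_relIndex_right] at h2
    exact h2.trans (Cfsg.Agent.H2.ClassProd.relIndex_dvd_index_of_normal' _ B)
  -- |B : C| divides the 2-power |B : A|
  have h3 : C.relIndex B ∣ A.relIndex B := Subgroup.relIndex_dvd_of_le_left B le_sup_right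
  have h4 : ∃ n : ℕ, A.relIndex B = 2 ^ n := by
    haveI : (A.subgroupOf B).Normal := Subgroup.normal_subgroupOf
    have hpg : IsPGroup 2 (B ⧸ A.subgroupOf B) := by
      intro q
      obtain ⟨x, rfl⟩ := QuotientGroup.mk'_surjective (A.subgroupOf B) q
      refine ⟨1, ?_⟩
      rw [pow_one, ← map_pow]
      apply (QuotientGroup.eq_one_iff _).mpr
      rw [Subgroup.mem_subgroupOf]
      exact hsq x x.2
    obtain ⟨n, hn⟩ := IsPGroup.iff_card.mp hpg
    exact ⟨n, hn⟩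
  obtain ⟨n, hn⟩ := h4
  have hodd : ¬ 2 ∣ (P : Subgroup G).index := P.not_dvd_index
  have h5 : C.relIndex B = 1 := by
    rw [hn] at h3
    obtain ⟨j, -, hj⟩ := (Nat.dvd_prime_pow Nat.prime_two).mp h3
    rcases Nat.eq_zero_or_pos j with h0 | hpos
    · rw [hj, h0, pow_zero]
    · exfalso
      apply hodd
      rw [hj] at h1
      exact (dvd_pow_self 2 hpos.ne').trans h1
  have hBC : B ≤ C := Subgroup.relIndex_eq_one.mp h5
  have := hBC hb
  rw [hC, Subgroup.mem_sup_of_normal_right] at this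
  obtain ⟨p, hp, a, ha, hpa⟩ := this
  exact ⟨p, hp.1, hp.2, a, ha, hpa.symm⟩


open Cfsg.Agent.Lib.helper3 in
theorem existsUnique_good_agree_even (P : Sylow 2 G) (A : Subgroup G) (α : A → ℂ)
    (h : Datum P A α) (hinv : InvUnder ⊤ A α) (B : Subgroup G) (hB : B.Normal)
    (hf : ElemFactor A B 2) (ν : IrrCharacter ↥(P : Subgroup G))
    (hν : (ν : ↥(P : Subgroup G) → ℂ) 1 = 1)
    (hag : Agree (P : Subgroup G) A α (ν : ↥(P : Subgroup G) → ℂ)) :
    ∃! β : B → ℂ, Good P A B α β ∧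
      Agree (P : Subgroup G) B β (ν : ↥(P : Subgroup G) → ℂ) := by
  have hA := h.normal
  have hAB : A ≤ B := hf.1
  have hαc : IsCharacter A α := Irr.isCharacter_of_isIrrCharacter h.irr
  have hνc : IsCharacter (P : Subgroup G) (ν : ↥(P : Subgroup G) → ℂ) :=
    Irr.isCharacter_of_isIrrCharacter ν.2
  obtain ⟨αh, hαh⟩ : ∃ αh : A →* ℂˣ, ∀ a, ((αh a : ℂˣ) : ℂ) = α a :=
    ⟨Lin.toUnitsHom hαc h.lin, Lin.toUnitsHom_apply hαc h.lin⟩
  obtain ⟨νh, hνh⟩ : ∃ νh : (P : Subgroup G) →* ℂˣ,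
      ∀ p, ((νh p : ℂˣ) : ℂ) = (ν : ↥(P : Subgroup G) → ℂ) p :=
    ⟨Lin.toUnitsHom hνc hν, Lin.toUnitsHom_apply hνc hν⟩
  -- well-definedness
  have wd : ∀ (p p' : (P : Subgroup G)) (a a' : A), (p : G) * a = (p' : G) * a' →
      νh p * αh a = νh p' * αh a' := by
    intro p p' a a' heq
    have hz : ((p'⁻¹ * p : (P : Subgroup G)) : G) = ((a' * a⁻¹ : A) : G) := by
      push_cast
      rw [eq_mul_inv_iff_mul_eq, mul_assoc, heq, inv_mul_cancel_left]
    have h1 : νh (p'⁻¹ * p) = αh (a' * a⁻¹) := by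
      apply Units.ext
      rw [hνh, hαh]
      have hmem : ((a' * a⁻¹ : A) : G) ∈ (P : Subgroup G) := by
        rw [← hz]; exact (p'⁻¹ * p).2
      have h2 := hag (a' * a⁻¹) hmem
      have h3 : (p'⁻¹ * p : (P : Subgroup G)) = ⟨((a' * a⁻¹ : A) : G), hmem⟩ := Subtype.ext hz
      rw [h3, h2]
    rw [map_mul, map_inv, map_mul, map_inv] at h1
    calc νh p * αh a = νh p' * ((νh p')⁻¹ * νh p) * αh a := by rw [mul_inv_cancel_left]
      _ = νh p' * (αh a' * (αh a)⁻¹) * αh a := by rw [h1]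
      _ = νh p' * αh a' := by rw [mul_assoc, inv_mul_cancel_right]
  have hdec : ∀ b : B, ∃ (p : (P : Subgroup G)) (a : A), (p : G) ∈ B ∧ (b : G) = p * a := by
    intro b
    obtain ⟨p, hpP, hpB, a, haA, hba⟩ := exists_decomp P A B hA hB hf b b.2
    exact ⟨⟨p, hpP⟩, ⟨a, haA⟩, hpB, hba⟩
  choose pp aa hppB hpa using hdec
  have βval : ∀ (b : B) (p : (P : Subgroup G)) (a : A), (b : G) = p * a →
      νh (pp b) * αh (aa b) = νh p * αh a := by
    intro b p a hb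
    exact wd _ _ _ _ ((hpa b).symm.trans hb)
  have hαconj : ∀ (g : G) (a : A) (hc : g * (a : G) * g⁻¹ ∈ A), αh ⟨_, hc⟩ = αh a := by
    intro g a hc
    apply Units.ext
    rw [hαh, hαh]
    exact hinv g (Subgroup.mem_top _) a hc
  have βmul : ∀ b b' : B, νh (pp (b * b')) * αh (aa (b * b')) =
      (νh (pp b) * αh (aa b)) * (νh (pp b') * αh (aa b')) := by
    intro b b'
    have hconj : ((pp b' : G))⁻¹ * (aa b : G) * ((pp b' : G))⁻¹⁻¹ ∈ A :=
      hA.conj_mem (aa b : G) (aa b).2 ((pp b' : G))⁻¹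
    rw [βval (b * b') (pp b * pp b') (⟨_, hconj⟩ * aa b') (by
      push_cast
      rw [hpa b, hpa b']
      group)]
    rw [map_mul, map_mul, hαconj]
    exact mul_mul_mul_comm _ _ _ _
  let βh : B →* ℂˣ := MonoidHom.mk' (fun b => νh (pp b) * αh (aa b)) βmul
  have hβh : ∀ b : B, βh b = νh (pp b) * αh (aa b) := fun b => rfl
  have hgood : Good P A B α (fun b => ((βh b : ℂˣ) : ℂ)) := by
    refine ⟨?_, ?_, ?_, ?_, ?_⟩
    · exact Irr.isIrrCharacter_of_linear (Lin.isCharacter_of_hom βh) (by simp)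
    · simp
    · intro a ha
      change ((βh ⟨a, ha⟩ : ℂˣ) : ℂ) = α a
      rw [hβh, βval ⟨(a : G), ha⟩ 1 a (by simp), map_one, one_mul, hαh]
    · intro g hg b hc
      change ((βh ⟨_, hc⟩ : ℂˣ) : ℂ) = ((βh b : ℂˣ) : ℂ)
      congr 1
      have hconj : g * (aa b : G) * g⁻¹ ∈ A := hA.conj_mem (aa b : G) (aa b).2 g
      rw [hβh, hβh, βval ⟨_, hc⟩ (⟨g, hg⟩ * pp b * ⟨g, hg⟩⁻¹) ⟨_, hconj⟩ (by
        push_cast
        rw [hpa b]
        group)]
      rw [hαconj, map_mul, map_mul, map_inv, mul_comm (νh ⟨g, hg⟩), mul_inv_cancel_right]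
    · intro b
      obtain ⟨k, hk⟩ := P.isPGroup' (pp b)
      obtain ⟨k', hk'⟩ := h.pow2 (aa b)
      refine ⟨k + k', ?_⟩
      change ((βh b : ℂˣ) : ℂ) ^ 2 ^ (k + k') = 1
      rw [hβh, Units.val_mul, mul_pow, pow_add, pow_mul, pow_mul', ← Units.val_pow_eq_pow_val,
        ← map_pow, hk, map_one, Units.val_one, one_pow, one_mul, hαh, hk', one_pow]
  have hagree : Agree (P : Subgroup G) B (fun b => ((βh b : ℂˣ) : ℂ))
      (ν : ↥(P : Subgroup G) → ℂ) := by
    intro b hbP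
    change _ = ((βh b : ℂˣ) : ℂ)
    rw [hβh, βval b ⟨b, hbP⟩ 1 (by simp), map_one, mul_one, hνh]
  refine ⟨fun b => ((βh b : ℂˣ) : ℂ), ⟨hgood, hagree⟩, ?_⟩
  rintro β' ⟨⟨hirr', hone', hBA', -, -⟩, hPB'⟩
  funext b
  have hβ'c : IsCharacter B β' := Irr.isCharacter_of_isIrrCharacter hirr'
  have hb : b = (⟨(pp b : G), hppB b⟩ : B) * ⟨(aa b : G), hAB (aa b).2⟩ :=
    Subtype.ext (hpa b)
  change β' b = ((βh b : ℂˣ) : ℂ)
  rw [hβh, Units.val_mul, hνh, hαh]
  conv_lhs => rw [hb]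
  rw [Lin.map_mul_of_apply_one_eq_one hβ'c hone']
  congr 1
  · exact (hPB' ⟨(pp b : G), hppB b⟩ (pp b).2).symm
  · exact hBA' (aa b) (hAB (aa b).2)

end Cfsg.Agent.Lib.Helper7.OddCnt
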