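import Mathlib
import Cfsg.Prelude.Def_Transfer
import Cfsg.Agent.Lib.Helper7.Core
import Cfsg.Agent.H1.Frattini

set_option autoImplicit false

namespace Cfsg.Agent.Lib.Helper7

open Cfsg
open scoped commutatorElement

/-- the Heisenberg group over a commutative ring, with the multiplication of upper unitriangular
`3 × 3` matrices `(1 a b; 0 1 c; 0 0 1)` -/
@[ext]
structure H3 (K : Type*) where
  a : K
  b : K
  c : K

namespace H3

variable {K : Type*} [CommRing K]

instance : Group (H3 K) where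
  mul x y := ⟨x.a + y.a, x.b + y.b + x.a * y.c, x.c + y.c⟩
  one := ⟨0, 0, 0⟩
  inv x := ⟨-x.a, x.a * x.c - x.b, -x.c⟩
  mul_assoc x y z := by
    apply H3.ext
    · show x.a + y.a + z.a = x.a + (y.a + z.a); ring
    · show x.b + y.b + x.a * y.c + z.b + (x.a + y.a) * z.c =
        x.b + (y.b + z.b + y.a * z.c) + x.a * (y.c + z.c); ring
    · show x.c + y.c + z.c = x.c + (y.c + z.c); ring
  one_mul x := by
    apply H3.ext
    · show 0 + x.a = x.a; ring
    · show 0 + x.b + 0 * x.c = x.b; ring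
    · show 0 + x.c = x.c; ring
  mul_one x := by
    apply H3.ext
    · show x.a + 0 = x.a; ring
    · show x.b + 0 + x.a * 0 = x.b; ring
    · show x.c + 0 = x.c; ring
  inv_mul_cancel x := by
    apply H3.ext
    · show -x.a + x.a = 0; ring
    · show x.a * x.c - x.b + x.b + -x.a * x.c = 0; ring
    · show -x.c + x.c = 0; ring

theorem mul_a (x y : H3 K) : (x * y).a = x.a + y.a := rfl
theorem mul_b (x y : H3 K) : (x * y).b = x.b + y.b + x.a * y.c := rfl
theorem mul_c (x y : H3 K) : (x * y).c = x.c + y.c := rfl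
theorem one_a : (1 : H3 K).a = 0 := rfl
theorem one_b : (1 : H3 K).b = 0 := rfl
theorem one_c : (1 : H3 K).c = 0 := rfl
theorem inv_a (x : H3 K) : (x⁻¹).a = -x.a := rfl
theorem inv_b (x : H3 K) : (x⁻¹).b = x.a * x.c - x.b := rfl
theorem inv_c (x : H3 K) : (x⁻¹).c = -x.c := rfl

/-- the equivalence with triples -/
def equivTriple : H3 K ≃ K × K × K where
  toFun x := (x.a, x.b, x.c)
  invFun t := ⟨t.1, t.2.1, t.2.2⟩
  left_inv _ := rfl
  right_inv _ := rfl

theorem card_eq [Finite K] : Nat.card (H3 K) = Nat.card K ^ 3 := by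
  rw [Nat.card_congr equivTriple, Nat.card_prod, Nat.card_prod]; ring

instance [Finite K] : Finite (H3 K) := Finite.of_equiv _ equivTriple.symm

theorem pow_formula (x : H3 K) (n : ℕ) :
    (x ^ n).a = n * x.a ∧ (x ^ n).c = n * x.c ∧
      2 * (x ^ n).b = 2 * n * x.b + n * (n - 1) * (x.a * x.c) := by
  induction n with
  | zero =>
    rw [pow_zero]
    refine ⟨?_, ?_, ?_⟩
    · rw [one_a]; simp
    · rw [one_c]; simp
    · rw [one_b]; simp
  | succ n ih =>
    obtain ⟨h1, h2, h3⟩ := ih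
    rw [pow_succ]
    refine ⟨?_, ?_, ?_⟩
    · rw [mul_a, h1]; push_cast; ring
    · rw [mul_c, h2]; push_cast; ring
    · rw [mul_b, h1, mul_add, mul_add, h3]; push_cast; ring

/-- the homomorphism onto `K × K` -/
def projAC : H3 K →* Multiplicative (K × K) where
  toFun x := Multiplicative.ofAdd (x.a, x.c)
  map_one' := rfl
  map_mul' _ _ := rfl

/-- the centre (as a subgroup): `a = c = 0` -/
def Z : Subgroup (H3 K) where
  carrier := {x | x.a = 0 ∧ x.c = 0}
  one_mem' := ⟨rfl, rfl⟩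
  mul_mem' := by
    rintro x y ⟨h1, h2⟩ ⟨h3, h4⟩
    exact ⟨by rw [mul_a, h1, h3, add_zero], by rw [mul_c, h2, h4, add_zero]⟩
  inv_mem' := by
    rintro x ⟨h1, h2⟩
    exact ⟨by rw [inv_a, h1, neg_zero], by rw [inv_c, h2, neg_zero]⟩

theorem mem_Z (x : H3 K) : x ∈ Z (K := K) ↔ x.a = 0 ∧ x.c = 0 := Iff.rfl

theorem center_eq [Nontrivial K] : Subgroup.center (H3 K) = Z := by
  ext x
  rw [Subgroup.mem_center_iff, mem_Z]
  constructor
  · intro h
    have h1 := congrArg H3.b (h ⟨1, 0, 0⟩)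
    have h2 := congrArg H3.b (h ⟨0, 0, 1⟩)
    rw [mul_b, mul_b] at h1 h2
    simp only [mul_zero, add_zero, zero_add, one_mul, zero_mul, mul_one] at h1 h2
    refine ⟨?_, ?_⟩
    · have : x.b = x.b + x.a := h2
      have h3 : x.a = (x.b + x.a) - x.b := by ring
      rw [h3, ← this]; ring
    · have : x.b + x.c = x.b := h1
      have h3 : x.c = (x.b + x.c) - x.b := by ring
      rw [h3, this]; ring
  · rintro ⟨h1, h2⟩ g
    apply H3.ext
    · rw [mul_a, mul_a, add_comm]
    · rw [mul_b, mul_b, h1, h2]; ring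
    · rw [mul_c, mul_c, add_comm]

theorem comm_mem_Z (x y : H3 K) : x * y * x⁻¹ * y⁻¹ ∈ Z (K := K) := by
  rw [mem_Z]
  refine ⟨?_, ?_⟩
  · rw [mul_a, mul_a, mul_a, inv_a, inv_a]; ring
  · rw [mul_c, mul_c, mul_c, inv_c, inv_c]; ring

theorem commutator_eq : commutator (H3 K) = Z := by
  apply le_antisymm
  · rw [commutator_def, Subgroup.commutator_le]
    intro x _ y _
    rw [commutatorElement_def]
    exact comm_mem_Z x y
  · intro z hz
    rw [mem_Z] at hz
    have : z = ⁅(⟨z.b, 0, 0⟩ : H3 K), ⟨0, 0, 1⟩⁆ := by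
      rw [commutatorElement_def]
      apply H3.ext
      · simp only [mul_a, inv_a]; rw [hz.1]; ring
      · simp only [mul_a, mul_b, mul_c, inv_a, inv_b, inv_c]; ring
      · simp only [mul_c, inv_c]; rw [hz.2]; ring
    rw [this, commutator_def]
    exact Subgroup.commutator_mem_commutator (Subgroup.mem_top _) (Subgroup.mem_top _)

/-- `Z ≃ K` -/
def equivZ : (Z : Subgroup (H3 K)) ≃ K where
  toFun x := x.1.b
  invFun t := ⟨⟨0, t, 0⟩, ⟨rfl, rfl⟩⟩
  left_inv x := by
    apply Subtype.ext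
    apply H3.ext
    · exact x.2.1.symm
    · rfl
    · exact x.2.2.symm
  right_inv _ := rfl

end H3

section ZModp

variable (p : ℕ) [hp : Fact p.Prime]

theorem H3.pow_p (hp2 : p ≠ 2) (x : H3 (ZMod p)) : x ^ p = 1 := by
  obtain ⟨h1, h2, h3⟩ := H3.pow_formula x p
  have h2u : IsUnit (2 : ZMod p) := by
    have : ((2 : ℕ) : ZMod p) ≠ 0 := by
      intro h
      rw [ZMod.natCast_eq_zero_iff] at h
      have := (Nat.prime_dvd_prime_iff_eq hp.out Nat.prime_two).mp h
      exact hp2 this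
    have h' : (2 : ZMod p) ≠ 0 := by exact_mod_cast this
    exact isUnit_iff_ne_zero.mpr h'
  apply H3.ext
  · rw [h1, H3.one_a]; simp
  · have : (2 : ZMod p) * (x ^ p).b = 0 := by
      rw [h3]; simp
    rw [H3.one_b]
    exact (h2u.mul_right_eq_zero).mp this
  · rw [h2, H3.one_c]; simp

theorem H3.isPGroup : IsPGroup p (H3 (ZMod p)) := by
  apply IsPGroup.of_card (n := 3)
  rw [H3.card_eq, Nat.card_zmod]

theorem H3.isExtraspecial (hp2 : p ≠ 2) : IsExtraspecial p (H3 (ZMod p)) := by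
  have hcard : Nat.card (Subgroup.center (H3 (ZMod p))) = p := by
    rw [H3.center_eq, Nat.card_congr H3.equivZ, Nat.card_zmod]
  refine ⟨⟨H3.isPGroup p, ?_, ?_⟩, hcard⟩
  · rw [H3.center_eq]
    apply le_antisymm
    · apply frattini_le_of_elemAb_quotient p
      · exact H3.comm_mem_Z
      · intro x
        rw [H3.pow_p p hp2 x]
        exact Subgroup.one_mem _
    · rw [← H3.commutator_eq]
      exact Cfsg.Agent.H1.commutator_le_frattini (H3.isPGroup p)
  · rw [H3.center_eq, H3.commutator_eq]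

theorem H3.exponent_eq (hp2 : p ≠ 2) : Monoid.exponent (H3 (ZMod p)) = p := by
  have h1 : Monoid.exponent (H3 (ZMod p)) ∣ p :=
    Monoid.exponent_dvd_of_forall_pow_eq_one (H3.pow_p p hp2)
  rcases (Nat.dvd_prime hp.out).mp h1 with h | h
  · exfalso
    have h2 : ∀ x : H3 (ZMod p), x = 1 := by
      intro x
      have := Monoid.pow_exponent_eq_one x
      rwa [h, pow_one] at this
    have := congrArg H3.a (h2 ⟨1, 0, 0⟩)
    rw [H3.one_a] at this
    exact one_ne_zero this
  · exact h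

end ZModp

end Cfsg.Agent.Lib.Helper7
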