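import Mathlib
import Cfsg.Prelude.Def_Transfer
import Cfsg.Prelude.Def_PLocal
import Cfsg.Prelude.Def_LocalEven
import Cfsg.Agent.Lib.Helper7.Qd1

set_option autoImplicit false

namespace Cfsg.Agent.Lib.Helper7

open Cfsg

section transfer

variable {A B : Type*} [Group A] [Group B]

theorem frattini_map_mulEquiv (e : A ≃* B) : (frattini A).map e.toMonoidHom = frattini B := by
  apply le_antisymm
  · rw [Subgroup.map_le_iff_le_comap]
    exact frattini_le_comap_frattini_of_surjective e.surjective
  · have h := frattini_le_comap_frattini_of_surjective (φ := e.symm.toMonoidHom) e.symm.surjective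
    intro x hx
    refine ⟨e.symm x, h hx, ?_⟩
    simp

theorem center_map_mulEquiv (e : A ≃* B) :
    (Subgroup.center A).map e.toMonoidHom = Subgroup.center B := by
  ext x
  constructor
  · rintro ⟨a, ha, rfl⟩
    rw [SetLike.mem_coe] at ha
    rw [Subgroup.mem_center_iff] at ha ⊢
    intro g
    obtain ⟨g', rfl⟩ := e.surjective g
    show e g' * e a = e a * e g'
    rw [← map_mul, ← map_mul, ha g']
  · intro hx
    rw [Subgroup.mem_center_iff] at hx
    refine ⟨e.symm x, ?_, by simp⟩
    rw [SetLike.mem_coe, Subgroup.mem_center_iff]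
    intro g
    apply e.injective
    rw [map_mul, map_mul, MulEquiv.apply_symm_apply]
    exact hx (e g)

theorem commutator_map_mulEquiv (e : A ≃* B) :
    (commutator A).map e.toMonoidHom = commutator B := by
  rw [commutator_def, commutator_def, Subgroup.map_commutator,
    Subgroup.map_top_of_surjective _ e.surjective]

theorem isExtraspecial_of_mulEquiv {p : ℕ} (e : A ≃* B) (h : IsExtraspecial p A) :
    IsExtraspecial p B := by
  obtain ⟨⟨h1, h2, h3⟩, h4⟩ := h
  refine ⟨⟨h1.of_equiv e, ?_, ?_⟩, ?_⟩
  · rw [← frattini_map_mulEquiv e, ← center_map_mulEquiv e, h2]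
  · rw [← commutator_map_mulEquiv e, ← center_map_mulEquiv e, h3]
  · rw [← center_map_mulEquiv e, Subgroup.card_map_of_injective e.injective, h4]

end transfer

section matrices

variable {K : Type*} [Field K]

/-- upper unitriangular matrix -/
def utMat (a b c : K) : Matrix (Fin 3) (Fin 3) K := !![1, a, b; 0, 1, c; 0, 0, 1]

theorem det_utMat (a b c : K) : (utMat a b c).det = 1 := by
  simp [utMat, Matrix.det_fin_three]

def utSL (a b c : K) : Matrix.SpecialLinearGroup (Fin 3) K := ⟨utMat a b c, det_utMat a b c⟩

theorem utSL_mem (a b c : K) : utSL a b c ∈ qdOver K := by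
  apply Subgroup.subset_closure
  refine ⟨?_, ?_, ?_⟩ <;> simp [utSL, utMat]

theorem utSL_mul (a b c a' b' c' : K) :
    utSL a b c * utSL a' b' c' = utSL (a + a') (b + b' + a * c') (c + c') := by
  apply Subtype.ext
  show utMat a b c * utMat a' b' c' = utMat _ _ _
  ext i j
  fin_cases i <;> fin_cases j <;>
    simp [utMat, Matrix.mul_apply, Fin.sum_univ_three] <;> ring

theorem utSL_zero : utSL (0 : K) 0 0 = 1 := by
  apply Subtype.ext
  show utMat 0 0 0 = 1
  ext i j
  fin_cases i <;> fin_cases j <;> simp [utMat]

/-- the Heisenberg group as the unitriangular subgroup of `Qd` -/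
def utHom : H3 K →* ↥(qdOver K) where
  toFun x := ⟨utSL x.a x.b x.c, utSL_mem _ _ _⟩
  map_one' := Subtype.ext utSL_zero
  map_mul' x y := Subtype.ext (utSL_mul _ _ _ _ _ _).symm

theorem utHom_coe (x : H3 K) :
    (((utHom x : ↥(qdOver K)) : Matrix.SpecialLinearGroup (Fin 3) K) : Matrix (Fin 3) (Fin 3) K) =
      utMat x.a x.b x.c := rfl

theorem utHom_injective : Function.Injective (utHom (K := K)) := by
  intro x y h
  have h' : utMat x.a x.b x.c = utMat y.a y.b y.c := by
    rw [← utHom_coe, ← utHom_coe, h]
  apply H3.ext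
  · have := congrFun (congrFun h' 0) 1
    simpa [utMat] using this
  · have := congrFun (congrFun h' 0) 2
    simpa [utMat] using this
  · have := congrFun (congrFun h' 1) 2
    simpa [utMat] using this

end matrices

end Cfsg.Agent.Lib.Helper7
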