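import Mathlib
import Cfsg.Prelude.Def_Transfer
import Cfsg.Prelude.Def_PLocal
import Cfsg.Prelude.Def_LocalEven
import Cfsg.Agent.Lib.Helper7.Qd2
import Cfsg.Agent.S0263

set_option autoImplicit false

namespace Cfsg.Agent.Lib.Helper7

open Cfsg

variable {K : Type*} [Field K] [Fintype K] {p : ℕ} [Fact p.Prime] [CharP K p]

instance finite_qdOver : Finite ↥(qdOver K) := by
  classical
  haveI : Finite (Matrix.SpecialLinearGroup (Fin 3) K) :=
    Finite.of_injective (fun M => (M : Matrix (Fin 3) (Fin 3) K)) Subtype.val_injective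
  infer_instance

theorem card_dvd_of_isPGroup_qdOver (P : Subgroup ↥(qdOver K)) (hP : IsPGroup p P) :
    Nat.card P ∣ Nat.card K ^ 3 := by
  classical
  set f : ↥(qdOver K) →* Matrix.GeneralLinearGroup (Fin 3) K :=
    (Matrix.SpecialLinearGroup.toGL).comp (qdOver K).subtype with hf
  have hfinj : Function.Injective f :=
    Matrix.SpecialLinearGroup.toGL_injective.comp (Subgroup.subtype_injective _)
  obtain ⟨Q, hQ⟩ := (hP.map f).exists_le_sylow
  have h1 : Nat.card Q = Fintype.card K ^ (3 * (3 - 1) / 2) :=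
    Cfsg.Agent.S0263.result (F := K) rfl p 3 Q
  have h2 : Nat.card (P.map f) = Nat.card P := Subgroup.card_map_of_injective hfinj
  have h3 := Subgroup.card_dvd_of_le hQ
  rw [h2, h1] at h3
  rw [Nat.card_eq_fintype_card (α := K)]
  exact h3

theorem card_utHom_range : Nat.card (utHom (K := K)).range = Nat.card K ^ 3 := by
  rw [← H3.card_eq]
  exact (Nat.card_congr (Equiv.ofInjective _ utHom_injective)).symm

theorem isPGroup_utHom_range : IsPGroup p (utHom (K := K)).range := by
  obtain ⟨k, _, hk⟩ := FiniteField.card K p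
  apply IsPGroup.of_card (n := k * 3)
  rw [card_utHom_range, Nat.card_eq_fintype_card, hk, pow_mul]

theorem exists_sylow_eq_utHom_range :
    ∃ P : Sylow p ↥(qdOver K), (P : Subgroup ↥(qdOver K)) = (utHom (K := K)).range := by
  obtain ⟨P, hP⟩ := (isPGroup_utHom_range (K := K) (p := p)).exists_le_sylow
  refine ⟨P, ?_⟩
  symm
  apply Subgroup.eq_of_le_of_card_ge hP
  rw [card_utHom_range]
  exact Nat.le_of_dvd (pow_pos Nat.card_pos 3) (card_dvd_of_isPGroup_qdOver _ P.2)

theorem nonempty_sylow_equiv_H3 (P : Sylow p ↥(qdOver K)) : Nonempty (H3 K ≃* ↥P) := by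
  obtain ⟨P', hP'⟩ := exists_sylow_eq_utHom_range (K := K) (p := p)
  have e1 : H3 K ≃* (utHom (K := K)).range := MonoidHom.ofInjective utHom_injective
  have e2 : (utHom (K := K)).range ≃* ↥(P' : Subgroup ↥(qdOver K)) := MulEquiv.subgroupCongr hP'.symm
  exact ⟨(e1.trans e2).trans (Sylow.equiv P' P)⟩

end Cfsg.Agent.Lib.Helper7
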