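import Mathlib
import Cfsg.Prelude.Def_PLocal
import Cfsg.Prelude.Def_LocalEven
import Cfsg.Agent.Lib.Helper7.Qd3

set_option autoImplicit false

namespace Cfsg.Agent.Lib.Helper7

open Cfsg Matrix

variable {K : Type*} [Field K]

/-- last row `(0, 0, 1)` -/
def Aff (M : Matrix (Fin 3) (Fin 3) K) : Prop := M 2 0 = 0 ∧ M 2 1 = 0 ∧ M 2 2 = 1

theorem Aff.one : Aff (1 : Matrix (Fin 3) (Fin 3) K) := by
  refine ⟨?_, ?_, ?_⟩ <;> simp

theorem Aff.mul {M N : Matrix (Fin 3) (Fin 3) K} (hM : Aff M) (hN : Aff N) : Aff (M * N) := by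
  obtain ⟨m1, m2, m3⟩ := hM
  obtain ⟨n1, n2, n3⟩ := hN
  refine ⟨?_, ?_, ?_⟩ <;> simp [Matrix.mul_apply, Fin.sum_univ_three, m1, m2, m3, n1, n2, n3]

theorem Aff.adjugate {M : Matrix (Fin 3) (Fin 3) K} (hM : Aff M) (hdet : M.det = 1) :
    Aff M.adjugate := by
  obtain ⟨m1, m2, m3⟩ := hM
  rw [Matrix.det_fin_three, m1, m2, m3] at hdet
  rw [Matrix.adjugate_fin_three]
  refine ⟨?_, ?_, ?_⟩
  · simp [m1, m2]
  · simp [m1, m2]
  · simp only [Matrix.of_apply, Matrix.cons_val', Matrix.cons_val_two, Matrix.cons_val_zero,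
      Matrix.cons_val_one, Matrix.cons_val_fin_one, Matrix.head_cons, Matrix.tail_cons]
    simp at hdet ⊢
    linear_combination hdet

theorem aff_of_mem_qdOver {M : SpecialLinearGroup (Fin 3) K} (hM : M ∈ qdOver K) :
    Aff (M : Matrix (Fin 3) (Fin 3) K) := by
  unfold qdOver at hM
  induction hM using Subgroup.closure_induction with
  | mem x hx => exact hx
  | one => exact Aff.one
  | mul x y _ _ hx hy => exact Aff.mul hx hy
  | inv x _ hx =>
    exact Aff.adjugate hx x.2

theorem mem_qdOver_iff {M : SpecialLinearGroup (Fin 3) K} :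
    M ∈ qdOver K ↔ Aff (M : Matrix (Fin 3) (Fin 3) K) :=
  ⟨aff_of_mem_qdOver, fun h => Subgroup.subset_closure h⟩

/-- the affine matrix with linear part `A` and translation part `t` -/
def affMat (A : Matrix (Fin 2) (Fin 2) K) (t : Fin 2 → K) : Matrix (Fin 3) (Fin 3) K :=
  !![A 0 0, A 0 1, t 0; A 1 0, A 1 1, t 1; 0, 0, 1]

theorem det_affMat (A : Matrix (Fin 2) (Fin 2) K) (t : Fin 2 → K) : (affMat A t).det = A.det := by
  simp [affMat, Matrix.det_fin_three, Matrix.det_fin_two]

theorem affMat_mul (A B : Matrix (Fin 2) (Fin 2) K) (t s : Fin 2 → K) :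
    affMat A t * affMat B s = affMat (A * B) (A.mulVec s + t) := by
  ext i j
  fin_cases i <;> fin_cases j <;>
    simp [affMat, Matrix.mul_apply, Fin.sum_univ_three, Fin.sum_univ_two, Matrix.mulVec,
      dotProduct]

theorem affMat_one : affMat (1 : Matrix (Fin 2) (Fin 2) K) 0 = 1 := by
  ext i j
  fin_cases i <;> fin_cases j <;> simp [affMat]

/-- the element of `Qd` with linear part `A` and translation part `t` -/
def aff (A : SpecialLinearGroup (Fin 2) K) (t : Fin 2 → K) : ↥(qdOver K) :=
  ⟨⟨affMat (A : Matrix (Fin 2) (Fin 2) K) t, by rw [det_affMat]; exact A.2⟩,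
    Subgroup.subset_closure ⟨by simp [affMat], by simp [affMat], by simp [affMat]⟩⟩

theorem aff_coe (A : SpecialLinearGroup (Fin 2) K) (t : Fin 2 → K) :
    (((aff A t : ↥(qdOver K)) : SpecialLinearGroup (Fin 3) K) : Matrix (Fin 3) (Fin 3) K) =
      affMat (A : Matrix (Fin 2) (Fin 2) K) t := rfl

theorem aff_mul (A B : SpecialLinearGroup (Fin 2) K) (t s : Fin 2 → K) :
    aff A t * aff B s = aff (A * B) ((A : Matrix (Fin 2) (Fin 2) K).mulVec s + t) := by
  apply Subtype.ext
  apply Subtype.ext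
  show affMat (A : Matrix (Fin 2) (Fin 2) K) t * affMat (B : Matrix (Fin 2) (Fin 2) K) s =
    affMat ((A * B : SpecialLinearGroup (Fin 2) K) : Matrix (Fin 2) (Fin 2) K) _
  rw [affMat_mul]
  rfl

theorem aff_one : aff (1 : SpecialLinearGroup (Fin 2) K) 0 = 1 := by
  apply Subtype.ext
  apply Subtype.ext
  show affMat (1 : Matrix (Fin 2) (Fin 2) K) 0 = 1
  rw [affMat_one]

theorem aff_injective {A B : SpecialLinearGroup (Fin 2) K} {t s : Fin 2 → K}
    (h : aff A t = aff B s) : A = B ∧ t = s := by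
  have h' : affMat (A : Matrix (Fin 2) (Fin 2) K) t = affMat (B : Matrix (Fin 2) (Fin 2) K) s := by
    rw [← aff_coe, ← aff_coe, h]
  constructor
  · apply Subtype.ext
    show (A : Matrix (Fin 2) (Fin 2) K) = (B : Matrix (Fin 2) (Fin 2) K)
    ext i j
    fin_cases i <;> fin_cases j
    · simpa [affMat] using congrFun (congrFun h' 0) 0
    · simpa [affMat] using congrFun (congrFun h' 0) 1
    · simpa [affMat] using congrFun (congrFun h' 1) 0
    · simpa [affMat] using congrFun (congrFun h' 1) 1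
  · ext i
    fin_cases i
    · simpa [affMat] using congrFun (congrFun h' 0) 2
    · simpa [affMat] using congrFun (congrFun h' 1) 2

/-- the linear part of an element of `Qd` -/
def blockMat (M : Matrix (Fin 3) (Fin 3) K) : Matrix (Fin 2) (Fin 2) K :=
  !![M 0 0, M 0 1; M 1 0, M 1 1]

theorem det_blockMat {M : Matrix (Fin 3) (Fin 3) K} (hM : Aff M) : (blockMat M).det = M.det := by
  obtain ⟨m1, m2, m3⟩ := hM
  rw [Matrix.det_fin_three, Matrix.det_fin_two, m1, m2, m3]
  simp [blockMat]

theorem eq_affMat {M : Matrix (Fin 3) (Fin 3) K} (hM : Aff M) :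
    M = affMat (blockMat M) ![M 0 2, M 1 2] := by
  obtain ⟨m1, m2, m3⟩ := hM
  ext i j
  fin_cases i <;> fin_cases j <;> simp [affMat, blockMat, m1, m2, m3]

/-- the linear part as an element of `SL₂` -/
def block (g : ↥(qdOver K)) : SpecialLinearGroup (Fin 2) K :=
  ⟨blockMat g.1.1, by rw [det_blockMat (aff_of_mem_qdOver g.2)]; exact g.1.2⟩

/-- the translation part -/
def col (g : ↥(qdOver K)) : Fin 2 → K := ![g.1.1 0 2, g.1.1 1 2]

theorem eq_aff (g : ↥(qdOver K)) : g = aff (block g) (col g) := by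
  apply Subtype.ext
  apply Subtype.ext
  exact eq_affMat (aff_of_mem_qdOver g.2)

theorem block_aff (A : SpecialLinearGroup (Fin 2) K) (t : Fin 2 → K) : block (aff A t) = A :=
  (aff_injective (eq_aff (aff A t))).1.symm

theorem col_aff (A : SpecialLinearGroup (Fin 2) K) (t : Fin 2 → K) : col (aff A t) = t :=
  (aff_injective (eq_aff (aff A t))).2.symm

/-- the linear part, as a homomorphism -/
def blockHom : ↥(qdOver K) →* SpecialLinearGroup (Fin 2) K where
  toFun := block
  map_one' := by
    rw [← aff_one, block_aff]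
  map_mul' g h := by
    conv_lhs => rw [eq_aff g, eq_aff h, aff_mul, block_aff]

theorem blockHom_aff (A : SpecialLinearGroup (Fin 2) K) (t : Fin 2 → K) : blockHom (aff A t) = A :=
  block_aff A t

/-- the complement: block diagonal matrices -/
def diagHom : SpecialLinearGroup (Fin 2) K →* ↥(qdOver K) where
  toFun A := aff A 0
  map_one' := aff_one
  map_mul' A B := by
    rw [aff_mul]
    congr 1
    simp

theorem blockHom_diagHom (A : SpecialLinearGroup (Fin 2) K) : blockHom (diagHom A) = A :=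
  block_aff A 0

theorem diagHom_injective : Function.Injective (diagHom (K := K)) := by
  intro A B h
  have := congrArg blockHom h
  rwa [blockHom_diagHom, blockHom_diagHom] at this

/-- the translations -/
def translHom : Multiplicative (Fin 2 → K) →* ↥(qdOver K) where
  toFun t := aff 1 (Multiplicative.toAdd t)
  map_one' := aff_one
  map_mul' s t := by
    rw [aff_mul]
    congr 1
    · simp
    · show _ = (1 : Matrix (Fin 2) (Fin 2) K).mulVec _ + _
      rw [Matrix.one_mulVec, add_comm]
      rfl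

theorem translHom_injective : Function.Injective (translHom (K := K)) := by
  intro s t h
  exact (aff_injective h).2

theorem mem_ker_blockHom_iff (g : ↥(qdOver K)) :
    g ∈ (blockHom (K := K)).ker ↔ g.1.1 0 0 = 1 ∧ g.1.1 0 1 = 0 ∧ g.1.1 1 0 = 0 ∧ g.1.1 1 1 = 1 := by
  rw [MonoidHom.mem_ker]
  constructor
  · intro h
    have h' : blockMat g.1.1 = 1 := congrArg Subtype.val h
    refine ⟨?_, ?_, ?_, ?_⟩
    · simpa [blockMat] using congrFun (congrFun h' 0) 0
    · simpa [blockMat] using congrFun (congrFun h' 0) 1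
    · simpa [blockMat] using congrFun (congrFun h' 1) 0
    · simpa [blockMat] using congrFun (congrFun h' 1) 1
  · rintro ⟨h1, h2, h3, h4⟩
    apply Subtype.ext
    show blockMat g.1.1 = 1
    ext i j
    fin_cases i <;> fin_cases j <;> simp [blockMat, h1, h2, h3, h4]

theorem ker_blockHom_eq_range : (blockHom (K := K)).ker = (translHom (K := K)).range := by
  ext g
  constructor
  · intro hg
    rw [MonoidHom.mem_ker] at hg
    refine ⟨Multiplicative.ofAdd (col g), ?_⟩
    conv_rhs => rw [eq_aff g]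
    show aff 1 (col g) = aff (block g) (col g)
    have : block g = 1 := hg
    rw [this]
  · rintro ⟨t, rfl⟩
    rw [MonoidHom.mem_ker]
    exact blockHom_aff 1 _

theorem mem_range_diagHom_iff (g : ↥(qdOver K)) :
    g ∈ (diagHom (K := K)).range ↔ g.1.1 0 2 = 0 ∧ g.1.1 1 2 = 0 := by
  constructor
  · rintro ⟨A, rfl⟩
    constructor
    · show affMat (A : Matrix (Fin 2) (Fin 2) K) 0 0 2 = 0
      simp [affMat]
    · show affMat (A : Matrix (Fin 2) (Fin 2) K) 0 1 2 = 0
      simp [affMat]
  · rintro ⟨h1, h2⟩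
    refine ⟨block g, ?_⟩
    conv_rhs => rw [eq_aff g]
    show aff (block g) 0 = aff (block g) (col g)
    congr 1
    ext i
    fin_cases i
    · exact h1.symm
    · exact h2.symm

end Cfsg.Agent.Lib.Helper7
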