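import Mathlib
import Cfsg.Prelude.Def_PLocal
import Cfsg.Prelude.Def_LocalEven
import Cfsg.Agent.Lib.Helper7.Qd4

set_option autoImplicit false

namespace Cfsg.Agent.Lib.Helper7

open Cfsg Matrix

variable {K : Type*} [Field K]

/-- the Weyl element -/
def wSL2 : SpecialLinearGroup (Fin 2) K := ⟨!![0, 1; -1, 0], by simp [Matrix.det_fin_two]⟩

/-- the inverse of the Weyl element -/
def wSL2inv : SpecialLinearGroup (Fin 2) K := ⟨!![0, -1; 1, 0], by simp [Matrix.det_fin_two]⟩

theorem wSL2_inv : (wSL2 (K := K))⁻¹ = wSL2inv := by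
  apply inv_eq_of_mul_eq_one_right
  apply Subtype.ext
  show (!![0, 1; -1, 0] : Matrix (Fin 2) (Fin 2) K) * !![0, -1; 1, 0] = 1
  ext i j
  fin_cases i <;> fin_cases j <;> simp [Matrix.mul_apply, Fin.sum_univ_two]

theorem conj_w_entry (g : ↥(qdOver K)) :
    ((((diagHom (wSL2 (K := K)))⁻¹ * g * diagHom wSL2 : ↥(qdOver K)) :
      SpecialLinearGroup (Fin 3) K) : Matrix (Fin 3) (Fin 3) K) 1 0 =
      - ((g : SpecialLinearGroup (Fin 3) K) : Matrix (Fin 3) (Fin 3) K) 0 1 := by
  have hinv : (diagHom (wSL2 (K := K)))⁻¹ = diagHom (wSL2 (K := K))⁻¹ := (map_inv _ _).symm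
  rw [hinv]
  conv_lhs => rw [eq_aff g]
  show (aff (wSL2 (K := K))⁻¹ 0 * aff (block g) (col g) * aff wSL2 0 : ↥(qdOver K)).1.1 1 0 = _
  rw [aff_mul, aff_mul, aff_coe]
  rw [wSL2_inv]
  show affMat ((!![0, -1; 1, 0] : Matrix (Fin 2) (Fin 2) K) * (blockMat g.1.1) *
    (!![0, 1; -1, 0] : Matrix (Fin 2) (Fin 2) K)) _ 1 0 = _
  simp [affMat, blockMat, Matrix.mul_apply, Fin.sum_univ_two]

section finite

variable [Fintype K] {p : ℕ} [Fact p.Prime] [CharP K p]

theorem isPGroup_ker_blockHom : IsPGroup p (blockHom (K := K)).ker := by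
  rw [ker_blockHom_eq_range]
  have h1 : IsPGroup p (Multiplicative (Fin 2 → K)) := by
    obtain ⟨k, _, hk⟩ := FiniteField.card K p
    apply IsPGroup.of_card (n := k * 2)
    rw [Nat.card_congr (Multiplicative.toAdd : Multiplicative (Fin 2 → K) ≃ (Fin 2 → K)),
      Nat.card_fun, Nat.card_fin, Nat.card_eq_fintype_card, hk, pow_mul]
  exact h1.of_surjective (translHom (K := K)).rangeRestrict (MonoidHom.rangeRestrict_surjective _)

theorem pCore_qdOver : pCore p ↥(qdOver K) = (blockHom (K := K)).ker := by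
  apply le_antisymm
  · intro g hg
    obtain ⟨P, hP⟩ := exists_sylow_eq_utHom_range (K := K) (p := p)
    have h1 : g ∈ (utHom (K := K)).range := by
      rw [← hP]; exact pCore_le_sylow P hg
    have hn : (pCore p ↥(qdOver K)).Normal := pCore_normal p _
    have h2 : (diagHom (wSL2 (K := K)))⁻¹ * g * diagHom wSL2 ∈ (utHom (K := K)).range := by
      rw [← hP]
      apply pCore_le_sylow P
      have := hn.conj_mem g hg (diagHom (wSL2 (K := K)))⁻¹
      rwa [inv_inv] at this
    obtain ⟨x, hx⟩ := h1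
    obtain ⟨y, hy⟩ := h2
    have e1 := conj_w_entry g
    rw [← hy, utHom_coe] at e1
    rw [mem_ker_blockHom_iff, ← hx, utHom_coe]
    rw [← hx, utHom_coe] at e1
    refine ⟨by simp [utMat], ?_, by simp [utMat], by simp [utMat]⟩
    have : (0 : K) = - utMat x.a x.b x.c 0 1 := by
      rw [← e1]; simp [utMat]
    rw [← neg_eq_zero, ← this]
  · exact le_pCore (MonoidHom.normal_ker _) isPGroup_ker_blockHom

end finite

end Cfsg.Agent.Lib.Helper7
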