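import Mathlib
import Cfsg.Prelude.Def_PLocal
import Cfsg.Prelude.Def_LocalEven
import Cfsg.Agent.Lib.Helper7.Qd5

set_option autoImplicit false

namespace Cfsg.Agent.Lib.Helper7

open Cfsg Matrix

variable {K : Type*} [Field K]

theorem eq_aff_one_of_mem_ker {g : ↥(qdOver K)} (hg : g ∈ (blockHom (K := K)).ker) :
    g = aff 1 (col g) := by
  conv_lhs => rw [eq_aff g]
  have : block g = 1 := hg
  rw [this]

theorem aff_one_mem_ker (t : Fin 2 → K) : aff 1 t ∈ (blockHom (K := K)).ker := by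
  rw [MonoidHom.mem_ker]; exact blockHom_aff 1 t

theorem aff_one_mul (s t : Fin 2 → K) : aff (1 : SpecialLinearGroup (Fin 2) K) s * aff 1 t =
    aff 1 (s + t) := by
  rw [aff_mul]
  congr 1
  · simp
  · show (1 : Matrix (Fin 2) (Fin 2) K).mulVec t + s = s + t
    rw [Matrix.one_mulVec, add_comm]

/-- the translation group is `K²` -/
def kerEquiv : Additive ↥(blockHom (K := K)).ker ≃+ (Fin 2 → K) where
  toFun v := col (Additive.toMul v).1
  invFun t := Additive.ofMul ⟨aff 1 t, aff_one_mem_ker t⟩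
  left_inv v := by
    apply Additive.toMul.injective
    apply Subtype.ext
    exact (eq_aff_one_of_mem_ker (Additive.toMul v).2).symm
  right_inv t := col_aff 1 t
  map_add' v w := by
    show col ((Additive.toMul v).1 * (Additive.toMul w).1) = _
    conv_lhs => rw [eq_aff_one_of_mem_ker (Additive.toMul v).2,
      eq_aff_one_of_mem_ker (Additive.toMul w).2, aff_one_mul, col_aff]

theorem kerEquiv_apply (v : ↥(blockHom (K := K)).ker) :
    kerEquiv (Additive.ofMul v) = col v.1 := rfl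

theorem diag_conj_transl (A : SpecialLinearGroup (Fin 2) K) (t : Fin 2 → K) :
    diagHom A * aff 1 t * (diagHom A)⁻¹ = aff 1 ((A : Matrix (Fin 2) (Fin 2) K).mulVec t) := by
  have hinv : (diagHom A)⁻¹ = diagHom A⁻¹ := (map_inv _ _).symm
  rw [hinv]
  show aff A 0 * aff 1 t * aff A⁻¹ 0 = _
  rw [aff_mul, aff_mul]
  congr 1
  · simp
  · simp

theorem isNaturalSL2Module_qd (O : Subgroup ↥(qdOver K)) (hO : O = (blockHom (K := K)).ker) :
    IsNaturalSL2Module K O (diagHom (K := K)).range := by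
  subst hO
  have hn : ((blockHom (K := K)).ker).Normal := MonoidHom.normal_ker _
  refine ⟨?_, (blockHom (K := K)).comp (diagHom (K := K)).range.subtype, kerEquiv, ?_, ?_, ?_⟩
  · rw [Subgroup.normalizer_eq_top]; exact le_top
  · intro A
    exact ⟨⟨diagHom A, ⟨A, rfl⟩⟩, blockHom_diagHom A⟩
  · ext ⟨k, A, rfl⟩
    rw [MonoidHom.mem_ker, Subgroup.mem_subgroupOf]
    show blockHom (diagHom A) = 1 ↔ diagHom A ∈ _
    rw [blockHom_diagHom]
    constructor
    · intro h
      rw [h, map_one]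
      exact Subgroup.one_mem _
    · intro h
      rw [Subgroup.mem_centralizer_iff] at h
      have key : ∀ t : Fin 2 → K, (A : Matrix (Fin 2) (Fin 2) K).mulVec t = t := by
        intro t
        have h1 := h (aff 1 t) (aff_one_mem_ker t)
        have h2 : diagHom A * aff 1 t * (diagHom A)⁻¹ = aff 1 t := by
          rw [← h1]; group
        rw [diag_conj_transl] at h2
        exact (aff_injective h2).2
      apply Subtype.ext
      show (A : Matrix (Fin 2) (Fin 2) K) = 1
      ext i j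
      have := congrFun (key (Pi.single j 1)) i
      rw [Matrix.mulVec_single_one] at this
      rw [Matrix.one_apply]
      rw [Pi.single_apply] at this
      exact this
  · rintro ⟨l, A, rfl⟩ v
    refine ⟨⟨diagHom A * v.1 * (diagHom A)⁻¹, hn.conj_mem v.1 v.2 _⟩, rfl, ?_⟩
    rw [kerEquiv_apply, kerEquiv_apply]
    show col (diagHom A * v.1 * (diagHom A)⁻¹) = (blockHom (diagHom A) : Matrix (Fin 2) (Fin 2) K).mulVec _
    rw [blockHom_diagHom]
    conv_lhs => rw [eq_aff_one_of_mem_ker v.2, diag_conj_transl, col_aff]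

theorem range_diagHom_inf_ker : (diagHom (K := K)).range ⊓ (blockHom (K := K)).ker = ⊥ := by
  rw [eq_bot_iff]
  rintro g ⟨⟨A, rfl⟩, h2⟩
  have h2' : blockHom (diagHom A) = 1 := h2
  rw [blockHom_diagHom] at h2'
  rw [h2', map_one]
  exact Subgroup.mem_bot.mpr rfl

theorem range_diagHom_sup_ker : (diagHom (K := K)).range ⊔ (blockHom (K := K)).ker = ⊤ := by
  rw [eq_top_iff]
  intro g _
  have : g = diagHom (blockHom g) * ((diagHom (blockHom g))⁻¹ * g) := by group
  rw [this]
  apply Subgroup.mul_mem_sup (MonoidHom.mem_range.mpr ⟨_, rfl⟩)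
  rw [MonoidHom.mem_ker, map_mul, map_inv, blockHom_diagHom, inv_mul_cancel]

section finite

variable [Fintype K] {p : ℕ} [Fact p.Prime] [CharP K p]

theorem qd_structure :
    (∀ M : ↥(qdOver K), M ∈ pCore p ↥(qdOver K) ↔
      ((M : SpecialLinearGroup (Fin 3) K) : Matrix (Fin 3) (Fin 3) K) 0 0 = 1 ∧
      ((M : SpecialLinearGroup (Fin 3) K) : Matrix (Fin 3) (Fin 3) K) 0 1 = 0 ∧
      ((M : SpecialLinearGroup (Fin 3) K) : Matrix (Fin 3) (Fin 3) K) 1 0 = 0 ∧
      ((M : SpecialLinearGroup (Fin 3) K) : Matrix (Fin 3) (Fin 3) K) 1 1 = 1) ∧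
    ∃ L : Subgroup ↥(qdOver K),
      (∀ M : ↥(qdOver K), M ∈ L ↔
        ((M : SpecialLinearGroup (Fin 3) K) : Matrix (Fin 3) (Fin 3) K) 0 2 = 0 ∧
        ((M : SpecialLinearGroup (Fin 3) K) : Matrix (Fin 3) (Fin 3) K) 1 2 = 0) ∧
      L ⊓ pCore p ↥(qdOver K) = ⊥ ∧ L ⊔ pCore p ↥(qdOver K) = ⊤ ∧
      Nonempty (↥L ≃* SpecialLinearGroup (Fin 2) K) ∧
      IsNaturalSL2Module K (pCore p ↥(qdOver K)) L := by
  have hO : pCore p ↥(qdOver K) = (blockHom (K := K)).ker := pCore_qdOver
  refine ⟨fun M => ?_, (diagHom (K := K)).range, mem_range_diagHom_iff, ?_, ?_, ?_, ?_⟩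
  · rw [hO]; exact mem_ker_blockHom_iff M
  · rw [hO]; exact range_diagHom_inf_ker
  · rw [hO]; exact range_diagHom_sup_ker
  · exact ⟨(MonoidHom.ofInjective diagHom_injective).symm⟩
  · exact isNaturalSL2Module_qd _ hO

end finite

end Cfsg.Agent.Lib.Helper7
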