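import Mathlib
import Cfsg.Agent.Lib.Helper7.Qd6

set_option autoImplicit false

namespace Cfsg.Agent.Lib.Helper7

open Cfsg

section general

variable {G : Type*} [Group G]

/-- the normalizer of a subgroup normalizes its characteristic subgroups -/
theorem normalizer_le_normalizer_of_characteristic (U : Subgroup G) (T : Subgroup ↥U)
    (hT : T.Characteristic) :
    Subgroup.normalizer (U : Set G) ≤
      Subgroup.normalizer ((T.map U.subtype : Subgroup G) : Set G) := by
  intro g hg
  set φ : MulAut ↥U := U.normalizerMonoidHom ⟨g, hg⟩ with hφ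
  have hφa : ∀ x : U, ((φ x : U) : G) = g * x * g⁻¹ := fun x => rfl
  have key : ∀ x : U, x ∈ T ↔ φ x ∈ T := by
    intro x
    have := (Subgroup.characteristic_iff_comap_eq.mp hT) φ
    conv_lhs => rw [← this]
    exact Subgroup.mem_comap
  rw [Subgroup.mem_normalizer_iff]
  intro h
  constructor
  · rintro ⟨x, hx, rfl⟩
    exact ⟨φ x, (key x).mp hx, hφa x⟩
  · rintro ⟨y, hy, hyeq⟩
    refine ⟨φ.symm y, (key _).mpr ?_, ?_⟩
    · rw [MulEquiv.apply_symm_apply]; exact hy
    · have h1 := hφa (φ.symm y)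
      rw [MulEquiv.apply_symm_apply] at h1
      have h2 : g * ((φ.symm y : U) : G) * g⁻¹ = g * h * g⁻¹ := by
        rw [← h1]; exact hyeq
      have h3 := congrArg (fun z => g⁻¹ * z * g) h2
      simpa [mul_assoc] using h3

/-- conjugation isomorphism onto the conjugate subgroup -/
def conjEquiv (U : Subgroup G) (g : G) : ↥U ≃* ↥(U.map (MulAut.conj g).toMonoidHom) where
  toFun x := ⟨g * x * g⁻¹, ⟨x, x.2, rfl⟩⟩
  invFun y := ⟨g⁻¹ * y * g, by
    obtain ⟨x, hx, hxy⟩ := y.2
    have : g⁻¹ * (y : G) * g = x := by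
      rw [← hxy]
      show g⁻¹ * (g * x * g⁻¹) * g = x
      group
    rw [this]; exact hx⟩
  left_inv x := by
    apply Subtype.ext
    show g⁻¹ * (g * (x : G) * g⁻¹) * g = x
    group
  right_inv y := by
    apply Subtype.ext
    show g * (g⁻¹ * (y : G) * g) * g⁻¹ = y
    group
  map_mul' x y := by
    apply Subtype.ext
    show g * ((x : G) * y) * g⁻¹ = (g * x * g⁻¹) * (g * y * g⁻¹)
    group

theorem conjEquiv_coe (U : Subgroup G) (g : G) (x : U) :
    ((conjEquiv U g x : ↥(U.map (MulAut.conj g).toMonoidHom)) : G) = g * x * g⁻¹ := rfl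

theorem char_normalizer_transport (U U' : Subgroup G) (g : G)
    (hU' : U' = U.map (MulAut.conj g).toMonoidHom)
    (hU : ∀ T : Subgroup ↥U, T ≠ ⊥ → T.Characteristic →
      Subgroup.normalizer ((T.map U.subtype : Subgroup G) : Set G) =
        Subgroup.normalizer (U : Set G)) :
    ∀ T : Subgroup ↥U', T ≠ ⊥ → T.Characteristic →
      Subgroup.normalizer ((T.map U'.subtype : Subgroup G) : Set G) =
        Subgroup.normalizer (U' : Set G) := by
  subst hU'
  intro T hT hTc
  set e := conjEquiv U g with he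
  set T₀ : Subgroup ↥U := T.comap e.toMonoidHom with hT₀
  have hmem : ∀ x : U, x ∈ T₀ ↔ e x ∈ T := fun x => Subgroup.mem_comap
  have hT₀c : T₀.Characteristic := by
    rw [Subgroup.characteristic_iff_comap_eq]
    intro φ
    have h1 := (Subgroup.characteristic_iff_comap_eq.mp hTc) (e.symm.trans (φ.trans e))
    ext x
    rw [Subgroup.mem_comap, hmem, hmem]
    conv_rhs => rw [← h1]
    rw [Subgroup.mem_comap]
    show e (φ x) ∈ T ↔ e (φ (e.symm (e x))) ∈ T
    rw [MulEquiv.symm_apply_apply]
  have hT₀ne : T₀ ≠ ⊥ := by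
    intro h0
    apply hT
    rw [eq_bot_iff]
    intro y hy
    have h1 : e.symm y ∈ T₀ := by
      rw [hmem, MulEquiv.apply_symm_apply]; exact hy
    rw [h0, Subgroup.mem_bot] at h1
    rw [Subgroup.mem_bot]
    have := congrArg e h1
    rwa [MulEquiv.apply_symm_apply, map_one] at this
  have h := hU T₀ hT₀ne hT₀c
  have hmap : (T.map (U.map (MulAut.conj g).toMonoidHom).subtype : Subgroup G) =
      (T₀.map U.subtype).map (MulAut.conj g).toMonoidHom := by
    ext z
    constructor
    · rintro ⟨y, hy, rfl⟩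
      refine ⟨(e.symm y : U), ⟨e.symm y, ?_, rfl⟩, ?_⟩
      · rw [SetLike.mem_coe, hmem, MulEquiv.apply_symm_apply]; exact hy
      · have := conjEquiv_coe U g (e.symm y)
        rw [← he, MulEquiv.apply_symm_apply] at this
        exact this.symm
    · rintro ⟨_, ⟨x, hx, rfl⟩, rfl⟩
      exact ⟨e x, (hmem x).mp hx, rfl⟩
  rw [hmap, ← Subgroup.map_equiv_normalizer_eq, h, Subgroup.map_equiv_normalizer_eq]

end general

end Cfsg.Agent.Lib.Helper7
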