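import Mathlib
import Cfsg.Agent.Lib.Helper7.Qd7

set_option autoImplicit false

namespace Cfsg.Agent.Lib.Helper7

open Cfsg Matrix

theorem characteristic_comap_equiv {A B : Type*} [Group A] [Group B] (e : A ≃* B) (T : Subgroup B)
    (hT : T.Characteristic) : (T.comap e.toMonoidHom).Characteristic := by
  rw [Subgroup.characteristic_iff_comap_eq]
  intro φ
  have h1 := (Subgroup.characteristic_iff_comap_eq.mp hT) (e.symm.trans (φ.trans e))
  ext x
  rw [Subgroup.mem_comap, Subgroup.mem_comap, Subgroup.mem_comap]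
  conv_rhs => rw [← h1]
  rw [Subgroup.mem_comap]
  show e (φ x) ∈ T ↔ e (φ (e.symm (e x))) ∈ T
  rw [MulEquiv.symm_apply_apply]

variable {K : Type*} [Field K]

namespace H3

/-- an automorphism of the Heisenberg group interchanging the two "coordinate" subgroups -/
def theta : H3 K ≃* H3 K where
  toFun x := ⟨x.c, x.a * x.c - x.b, x.a⟩
  invFun x := ⟨x.c, x.a * x.c - x.b, x.a⟩
  left_inv x := by
    apply H3.ext
    · rfl
    · show x.c * x.a - (x.a * x.c - x.b) = x.b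
      ring
    · rfl
  right_inv x := by
    apply H3.ext
    · rfl
    · show x.c * x.a - (x.a * x.c - x.b) = x.b
      ring
    · rfl
  map_mul' x y := by
    apply H3.ext
    · rfl
    · show (x.a + y.a) * (x.c + y.c) - (x.b + y.b + x.a * y.c) =
        (x.a * x.c - x.b) + (y.a * y.c - y.b) + x.c * y.a
      ring
    · rfl

theorem theta_a (x : H3 K) : (theta x).a = x.c := rfl

theorem theta_mem_of_characteristic (T : Subgroup (H3 K)) (hT : T.Characteristic) {x : H3 K}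
    (hx : x ∈ T) : theta x ∈ T := by
  have := (Subgroup.characteristic_iff_comap_eq.mp hT) (theta (K := K))
  rw [← this] at hx
  exact hx

end H3

/-- upper unitriangular element of `SL₂` -/
def uSL2 (a : K) : SpecialLinearGroup (Fin 2) K := ⟨!![1, a; 0, 1], by simp [Matrix.det_fin_two]⟩

theorem uSL2_zero : uSL2 (0 : K) = 1 := by
  apply Subtype.ext
  show (!![1, 0; 0, 1] : Matrix (Fin 2) (Fin 2) K) = 1
  ext i j
  fin_cases i <;> fin_cases j <;> simp

theorem det_eq (A : SpecialLinearGroup (Fin 2) K) :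
    (A : Matrix (Fin 2) (Fin 2) K) 0 0 * (A : Matrix (Fin 2) (Fin 2) K) 1 1 -
      (A : Matrix (Fin 2) (Fin 2) K) 0 1 * (A : Matrix (Fin 2) (Fin 2) K) 1 0 = 1 := by
  have := A.2
  rwa [Matrix.det_fin_two] at this

theorem conj_uSL2_10 (A : SpecialLinearGroup (Fin 2) K) (a : K) :
    ((A * uSL2 a * A⁻¹ : SpecialLinearGroup (Fin 2) K) : Matrix (Fin 2) (Fin 2) K) 1 0 =
      - (a * (A : Matrix (Fin 2) (Fin 2) K) 1 0 ^ 2) := by
  show ((A : Matrix (Fin 2) (Fin 2) K) * !![1, a; 0, 1] *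
    adjugate (A : Matrix (Fin 2) (Fin 2) K)) 1 0 = _
  rw [Matrix.adjugate_fin_two]
  simp [Matrix.mul_apply, Fin.sum_univ_two]
  ring

theorem conj_uSL2_00 (A : SpecialLinearGroup (Fin 2) K) (a : K) :
    ((A * uSL2 a * A⁻¹ : SpecialLinearGroup (Fin 2) K) : Matrix (Fin 2) (Fin 2) K) 0 0 =
      1 - a * (A : Matrix (Fin 2) (Fin 2) K) 0 0 * (A : Matrix (Fin 2) (Fin 2) K) 1 0 := by
  have hdet := det_eq A
  show ((A : Matrix (Fin 2) (Fin 2) K) * !![1, a; 0, 1] *
    adjugate (A : Matrix (Fin 2) (Fin 2) K)) 0 0 = _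
  rw [Matrix.adjugate_fin_two]
  simp [Matrix.mul_apply, Fin.sum_univ_two]
  linear_combination hdet

theorem conj_uSL2_11 (A : SpecialLinearGroup (Fin 2) K) (a : K) :
    ((A * uSL2 a * A⁻¹ : SpecialLinearGroup (Fin 2) K) : Matrix (Fin 2) (Fin 2) K) 1 1 =
      1 + a * (A : Matrix (Fin 2) (Fin 2) K) 0 0 * (A : Matrix (Fin 2) (Fin 2) K) 1 0 := by
  have hdet := det_eq A
  show ((A : Matrix (Fin 2) (Fin 2) K) * !![1, a; 0, 1] *
    adjugate (A : Matrix (Fin 2) (Fin 2) K)) 1 1 = _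
  rw [Matrix.adjugate_fin_two]
  simp [Matrix.mul_apply, Fin.sum_univ_two]
  linear_combination hdet

theorem eq_uSL2_of_entries (M : SpecialLinearGroup (Fin 2) K)
    (h00 : (M : Matrix (Fin 2) (Fin 2) K) 0 0 = 1) (h10 : (M : Matrix (Fin 2) (Fin 2) K) 1 0 = 0)
    (h11 : (M : Matrix (Fin 2) (Fin 2) K) 1 1 = 1) :
    M = uSL2 ((M : Matrix (Fin 2) (Fin 2) K) 0 1) := by
  apply Subtype.ext
  show (M : Matrix (Fin 2) (Fin 2) K) = !![1, (M : Matrix (Fin 2) (Fin 2) K) 0 1; 0, 1]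
  ext i j
  fin_cases i <;> fin_cases j <;> simp [h00, h10, h11]

theorem utHom_eq_aff (x : H3 K) : utHom x = aff (uSL2 x.a) ![x.b, x.c] := by
  apply Subtype.ext
  apply Subtype.ext
  show utMat x.a x.b x.c = affMat (!![1, x.a; 0, 1] : Matrix (Fin 2) (Fin 2) K) ![x.b, x.c]
  ext i j
  fin_cases i <;> fin_cases j <;> simp [utMat, affMat]

theorem blockHom_utHom (x : H3 K) : blockHom (utHom x) = uSL2 x.a := by
  rw [utHom_eq_aff, blockHom_aff]

theorem mem_utHom_range_iff (h : ↥(qdOver K)) :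
    h ∈ (utHom (K := K)).range ↔ ∃ a, blockHom h = uSL2 a := by
  constructor
  · rintro ⟨x, rfl⟩
    exact ⟨x.a, blockHom_utHom x⟩
  · rintro ⟨a, ha⟩
    refine ⟨⟨a, col h 0, col h 1⟩, ?_⟩
    rw [utHom_eq_aff]
    conv_rhs => rw [eq_aff h]
    have : block h = uSL2 a := ha
    rw [this]
    congr 1

theorem conj_transl (g : ↥(qdOver K)) (t : Fin 2 → K) :
    g * aff 1 t * g⁻¹ = aff 1 ((blockHom g : Matrix (Fin 2) (Fin 2) K).mulVec t) := by
  have h1 : g * aff 1 t = aff 1 ((blockHom g : Matrix (Fin 2) (Fin 2) K).mulVec t) * g := by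
    conv_lhs => rw [eq_aff g]
    conv_rhs => rw [eq_aff g]
    rw [aff_mul, aff_mul]
    show aff (block g * 1) _ = aff (1 * block g) _
    rw [mul_one, one_mul]
    congr 1
    show (block g : Matrix (Fin 2) (Fin 2) K).mulVec t + col g =
      (1 : Matrix (Fin 2) (Fin 2) K).mulVec (col g) + (block g : Matrix (Fin 2) (Fin 2) K).mulVec t
    rw [Matrix.one_mulVec, add_comm]
  rw [h1]; group

end Cfsg.Agent.Lib.Helper7
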