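import Mathlib
import Cfsg.Agent.Lib.Helper7.BG13Hyp
import Cfsg.Agent.Lib.helper3.BG13D
import Cfsg.Agent.Lib.Helper4.BG13D
import Cfsg.Agent.Lib.Helper5.BG1218F4
import Cfsg.Agent.Lib.Helper5.BG13S4
import Cfsg.Agent.H2.BG13.E
import Cfsg.Agent.S1378
import Cfsg.Agent.S1415
import Cfsg.Agent.S1423
import Cfsg.Agent.S1426
import Cfsg.Agent.S1427
import Cfsg.Agent.H1.CyclicSub
import Cfsg.Agent.H1.CoprimeHall

/-!
# B&G Section 13 (helper7), part B: Lemma 13.2 and the structure of a complement around a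
`τ₃`-element with fixed points
-/

set_option autoImplicit false
set_option linter.unusedSectionVars false
set_option linter.unusedVariables false
set_option linter.style.haveILetI false
set_option maxHeartbeats 1000000
open Cfsg
open scoped commutatorElement Pointwise

namespace Cfsg.Agent.Lib.Helper7.BG13

open Cfsg.Agent.Lib.Helper7 (IsSylowIn exists_isSylowIn_ge card_subgroupOf_of_le)
open Cfsg.Agent.Lib.Helper8.BGTen Cfsg.Agent.Lib.Helper4.BGTrans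
open Cfsg.Agent.Lib.helper3.BG11 Cfsg.Agent.Lib.helper3.BG12 Cfsg.Agent.Lib.helper3.BG13

universe u

variable {G : Type u} [Group G] [Finite G]

/-- a maximal subgroup containing the normalizer of a nontrivial proper subgroup -/
theorem exists_coatom_normalizer_le (hG : Cfsg.IsMinSimpleOddOrder G) {X : Subgroup G}
    (hX1 : X ≠ ⊥) (hXt : X ≠ ⊤) :
    ∃ H : Subgroup G, IsCoatom H ∧ Subgroup.normalizer (X : Set G) ≤ H :=
  Cfsg.Agent.H2.BGU.exists_coatom_ge (normalizer_ne_top' hG hX1 hXt)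

/-- a nontrivial `p`-group has order divisible by `p` -/
theorem dvd_card_of_pgroup {p : ℕ} [hp : Fact p.Prime] {X : Subgroup G} (hXp : IsPGroup p ↥X)
    (hX1 : X ≠ ⊥) : p ∣ Nat.card ↥X := by
  obtain ⟨k, hk⟩ := hXp.exists_card_eq
  rcases Nat.eq_zero_or_pos k with h0 | h0
  · rw [h0, pow_zero] at hk
    exact absurd (Subgroup.card_eq_one.mp hk) hX1
  · rw [hk]
    exact dvd_pow_self p h0.ne'

/-- **not conjugate**: `p ∉ σ(M)`, `r_p(M) ≤ 1`, `1 ≠ P` a `p`-group with `N_G(P) ≤ H`; then `H` is not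
conjugate to `M` -/
theorem cj_ne_of_normalizer_le (hG : Cfsg.IsMinSimpleOddOrder G) {M H : Subgroup G}
    (hH : IsCoatom H) {p : ℕ} [hp : Fact p.Prime] (hpσ : p ∉ Cfsg.sigma M)
    (hrk : Cfsg.PRankLE p 1 ↥M) {P : Subgroup G} (hPp : IsPGroup p ↥P) (hP1 : P ≠ ⊥)
    (hNH : Subgroup.normalizer (P : Set G) ≤ H) : ∀ g : G, cj g H ≠ M := by
  intro g hg
  by_cases hσ : p ∈ Cfsg.sigma H
  · exact Cfsg.Agent.Lib.Helper4.BG1218.cj_ne_of_sigma hG hσ hpσ g hg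
  · have hτ : p ∈ Cfsg.tau2 H := aux1 hG hH hPp hP1 hNH hσ
    have h1 : p ∈ Cfsg.tau2 (cj g⁻¹ M) := by rw [← hg, cj_inv_cj]; exact hτ
    exact (Cfsg.Agent.Lib.Helper5.BG1218F.tau2_of_cj h1).2.2.2 hrk

/-- `p ∈ σ(H) ∪ τ₂(H)` is not in `τ₁(H)` -/
theorem not_tau1_of_normalizer_le (hG : Cfsg.IsMinSimpleOddOrder G) {H : Subgroup G}
    (hH : IsCoatom H) {p : ℕ} [hp : Fact p.Prime] {P : Subgroup G} (hPp : IsPGroup p ↥P)
    (hP1 : P ≠ ⊥) (hNH : Subgroup.normalizer (P : Set G) ≤ H) : p ∉ Cfsg.tau1 H := by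
  intro hτ1
  have hτ : p ∈ Cfsg.tau2 H := aux1 hG hH hPp hP1 hNH hτ1.2.1
  exact hτ.2.2.2 hτ1.2.2.2.2

/-- **B&G 13.2(b)** for a `q`-subgroup -/
theorem bg132_b (hG : Cfsg.IsMinSimpleOddOrder G) {M H : Subgroup G} (hM : IsCoatom M)
    (hH : IsCoatom H) (hncj : ∀ g : G, cj g H ≠ M) {q : ℕ} [hq : Fact q.Prime]
    (hqσ : q ∉ Cfsg.sigma M) (hqτ : q ∉ Cfsg.tau1 H) {X : Subgroup G} (hXJ : X ≤ M ⊓ H)
    (hXq : IsPGroup q ↥X) :
    X ≤ Subgroup.centralizer ((Cfsg.sigmaCore M ⊓ H : Subgroup G) : Set G) := by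
  by_cases hX1 : X = ⊥
  · rw [hX1]; exact bot_le
  by_cases hR : ⁅Cfsg.sigmaCore M ⊓ H, M ⊓ H⁆ = ⊥
  · rw [Subgroup.commutator_eq_bot_iff_le_centralizer, Subgroup.le_centralizer_iff] at hR
    exact hXJ.trans hR
  · have hd := dvd_card_of_pgroup hXq hX1
    exact bg131_a hG hM hH hncj (hd.trans (Subgroup.card_dvd_of_le (hXJ.trans inf_le_left))) hqσ
      (hd.trans (Subgroup.card_dvd_of_le (hXJ.trans inf_le_right))) hqτ hR hXJ hXq

/-- **B&G 13.2(a)**: `M_σ ∩ H = C_{M_σ}(P)` -/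
theorem bg132_a (hG : Cfsg.IsMinSimpleOddOrder G) {M H : Subgroup G} (hM : IsCoatom M)
    (hH : IsCoatom H) {p : ℕ} [hp : Fact p.Prime] (hpσ : p ∉ Cfsg.sigma M)
    (hrk : Cfsg.PRankLE p 1 ↥M) {P : Subgroup G} (hPM : P ≤ M) (hPp : IsPGroup p ↥P) (hP1 : P ≠ ⊥)
    (hNH : Subgroup.normalizer (P : Set G) ≤ H) :
    Cfsg.sigmaCore M ⊓ H = Cfsg.sigmaCore M ⊓ Subgroup.centralizer (P : Set G) := by
  have hPH : P ≤ H := Subgroup.le_normalizer.trans hNH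
  apply le_antisymm
  · refine le_inf inf_le_left ?_
    have h1 := bg132_b hG hM hH (cj_ne_of_normalizer_le hG hH hpσ hrk hPp hP1 hNH) hpσ
      (not_tau1_of_normalizer_le hG hH hPp hP1 hNH) (le_inf hPM hPH) hPp
    rwa [Subgroup.le_centralizer_iff] at h1
  · exact le_inf inf_le_left
      (inf_le_right.trans ((Subgroup.centralizer_le_normalizer _).trans hNH))

/-- **B&G 13.2(c)** -/
theorem bg132_c (hG : Cfsg.IsMinSimpleOddOrder G) {M H : Subgroup G} (hM : IsCoatom M)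
    (hH : IsCoatom H) (hncj : ∀ g : G, cj g H ≠ M) {p : ℕ} [hp : Fact p.Prime]
    (hpM : p ∣ Nat.card ↥M) (hpσ : p ∉ Cfsg.sigma M)
    (hR : ⁅Cfsg.sigmaCore M ⊓ H, M ⊓ H⁆ ≠ ⊥) {P : Subgroup G} (hPp : IsPGroup p ↥P)
    (hP1 : P ≠ ⊥) (hNH : Subgroup.normalizer (P : Set G) ≤ H) : p ∈ Cfsg.sigma H := by
  by_contra hσ
  exact bg131_b hG hM hH hncj hpM hpσ hR (aux1 hG hH hPp hP1 hNH hσ)

/-- subgroups of a cyclic subgroup are determined by their order -/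
theorem eq_of_card_eq_of_le_cyclic {C X Y : Subgroup G} (hC : IsCyclic ↥C) (hX : X ≤ C) (hY : Y ≤ C)
    (h : Nat.card ↥X = Nat.card ↥Y) : X = Y := by
  have h1 : X.subgroupOf C = Y.subgroupOf C := by
    apply Cfsg.Agent.H1.eq_of_card_eq_of_isCyclic
    rw [card_subgroupOf_of_le hX, card_subgroupOf_of_le hY, h]
  ext x
  constructor
  · intro hx
    have : (⟨x, hX hx⟩ : ↥C) ∈ X.subgroupOf C := Subgroup.mem_subgroupOf.mpr hx
    rw [h1] at this
    exact Subgroup.mem_subgroupOf.mp this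
  · intro hx
    have : (⟨x, hY hx⟩ : ↥C) ∈ Y.subgroupOf C := Subgroup.mem_subgroupOf.mpr hx
    rw [← h1] at this
    exact Subgroup.mem_subgroupOf.mp this

/-- a subgroup of a cyclic subgroup `C` is normalized by everything normalizing `C` -/
theorem le_normalizer_of_le_cyclic {C X N : Subgroup G} (hC : IsCyclic ↥C) (hX : X ≤ C)
    (hN : N ≤ Subgroup.normalizer (C : Set G)) : N ≤ Subgroup.normalizer (X : Set G) := by
  intro n hn
  apply mem_normalizer_of_cj_eq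
  apply eq_of_card_eq_of_le_cyclic hC _ hX (card_cj n X)
  calc cj n X ≤ cj n C := cj_mono n hX
    _ = C := cj_eq_of_mem_normalizer (hN hn)

/-- **E-structure**: a subgroup `R ≤ E` of order `r ∈ τ₃(M)` is normal in `E` and lies in `E'` -/
theorem tau3_sub (hG : Cfsg.IsMinSimpleOddOrder G) {M E : Subgroup G} (hM : IsCoatom M)
    (hE : Cfsg.IsComplIn E (Cfsg.sigmaCore M) M) {r : ℕ} (hr : r ∈ Cfsg.tau3 M) {R : Subgroup G}
    (hRE : R ≤ E) (hRc : Nat.card ↥R = r) :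
    E ≤ Subgroup.normalizer (R : Set G) ∧ R ≤ ⁅E, E⁆ := by
  haveI : Group.IsSolvable ↥E := Cfsg.Agent.H2.BGU.solvable_of_le_coatom hG hM hE.1
  obtain ⟨E₃, hE₃⟩ := Cfsg.Agent.H1.exists_isPiHallOf (Cfsg.tau3 M) E inferInstance
  obtain ⟨hcyc₃, hE₃', hE₃n⟩ := (Cfsg.Agent.S1415.result hG M hM E hE).2.2 E₃ hE₃
  have hRE₃ : R ≤ E₃ := by
    apply le_of_coprime_relIndex hRE hE₃.1 hE₃n
    rw [hRc, Nat.Prime.coprime_iff_not_dvd hr.1]
    exact hE₃.2.2 r hr.1 hr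
  exact ⟨le_normalizer_of_le_cyclic hcyc₃ hRE₃ hE₃n, hRE₃.trans hE₃'⟩

/-- **`τ₂(M) = ∅`** when a subgroup of order `r ∈ τ₃(M)` has a fixed point on `M_σ` (12.6(e)) -/
theorem no_tau2 (hG : Cfsg.IsMinSimpleOddOrder G) {M : Subgroup G} (hM : IsCoatom M) {r : ℕ}
    (hr : r ∈ Cfsg.tau3 M) {R : Subgroup G} (hRM : R ≤ M) (hRc : Nat.card ↥R = r)
    (hD : Cfsg.sigmaCore M ⊓ Subgroup.centralizer (R : Set G) ≠ ⊥) : ∀ q : ℕ, q ∉ Cfsg.tau2 M := by
  intro q hq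
  haveI : Fact q.Prime := ⟨hq.1⟩
  haveI : Fact r.Prime := ⟨hr.1⟩
  obtain ⟨y, hyR, hy1⟩ := Cfsg.Agent.Lib.BG127H7.exists_ne_one_of_card_prime hr.1 hRc
  have hyo : orderOf y = r := Cfsg.Agent.Lib.BG127H7.orderOf_eq_of_prime_card hr.1 hRc hyR hy1
  refine Cfsg.Agent.Lib.Helper5.BG1218F.no_tau3_elt hG hM hq hr (hRM hyR) hyo hD inf_le_left ?_
  have h1 : R ≤ Subgroup.centralizer
      ((Cfsg.sigmaCore M ⊓ Subgroup.centralizer (R : Set G) : Subgroup G) : Set G) := by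
    rw [Subgroup.le_centralizer_iff]
    exact inf_le_right
  exact h1 hyR

/-- with `τ₂(M) = ∅` all Sylow subgroups of a complement `E` are cyclic: `r_t(E) ≤ 1` for all `t` -/
theorem pRankLE_one_compl (hG : Cfsg.IsMinSimpleOddOrder G) {M E : Subgroup G} (hM : IsCoatom M)
    (hE : Cfsg.IsComplIn E (Cfsg.sigmaCore M) M) (h2 : ∀ q : ℕ, q ∉ Cfsg.tau2 M) :
    ∀ t : ℕ, t.Prime → Cfsg.PRankLE t 1 ↥E := by
  intro t ht
  haveI : Fact t.Prime := ⟨ht⟩
  by_cases hd : t ∣ Nat.card ↥E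
  · have htσ : t ∉ Cfsg.sigma M := Cfsg.Agent.H2.BG12.not_mem_sigma_of_dvd_compl hG hM hE ht hd
    have htM : t ∣ Nat.card ↥M := hd.trans (Subgroup.card_dvd_of_le hE.1)
    have hrk : Cfsg.PRankLE t 1 ↥M := by
      rcases Cfsg.Agent.H2.BG13.tau_cases hG hM ht htM htσ with h | h | h
      · exact h.2.2.2.2
      · exact absurd h (h2 t)
      · exact h.2.2.2
    exact Cfsg.Agent.Lib.Helper4.Rank2Fit.pRankLE_of_le hE.1 hrk
  · intro A hA hAe
    have hAp : IsPGroup t ↥A := by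
      intro a
      refine ⟨1, ?_⟩
      rw [pow_one]
      exact Subtype.ext (by simpa using hAe a.1 a.2)
    obtain ⟨k, hk⟩ := hAp.exists_card_eq
    rcases Nat.eq_zero_or_pos k with h0 | h0
    · rw [hk, h0, pow_zero]; exact Nat.one_le_pow _ _ ht.pos
    · exfalso
      apply hd
      have h1 : t ∣ Nat.card ↥A := by rw [hk]; exact dvd_pow_self t h0.ne'
      have h2 : Nat.card ↥A ∣ Nat.card ↥E := Subgroup.card_subgroup_dvd_card A
      exact h1.trans h2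

end Cfsg.Agent.Lib.Helper7.BG13
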