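import Mathlib
import Cfsg.Agent.Lib.Helper7.BG13B

/-!
# B&G Section 13 (helper7), part C: `E₃` is semiprime, the Frobenius formula for `R ⋊ Y`, and the
`β`-structure `C_E(P) = P`
-/

set_option autoImplicit false
set_option linter.unusedSectionVars false
set_option linter.unusedVariables false
set_option linter.style.haveILetI false
set_option maxHeartbeats 1000000
open Cfsg
open scoped commutatorElement Pointwise

namespace Cfsg.Agent.Lib.Helper7.BG13

open Cfsg.Agent.Lib.Helper7 (IsSylowIn exists_isSylowIn_ge card_subgroupOf_of_le)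
open Cfsg.Agent.Lib.Helper8.BGTen Cfsg.Agent.Lib.Helper4.BGTrans
open Cfsg.Agent.Lib.helper3.BG11 Cfsg.Agent.Lib.helper3.BG12 Cfsg.Agent.Lib.helper3.BG13

universe u

variable {G : Type u} [Group G] [Finite G]

/-- a group of prime order is a `p`-group -/
theorem isPGroup_of_card_prime {p : ℕ} [hp : Fact p.Prime] {X : Subgroup G}
    (hX : Nat.card ↥X = p) : IsPGroup p ↥X :=
  IsPGroup.of_card (n := 1) (by rw [hX, pow_one])

theorem ne_bot_of_card_prime {p : ℕ} (hp : p.Prime) {X : Subgroup G}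
    (hX : Nat.card ↥X = p) : X ≠ ⊥ := by
  intro h
  rw [h, Subgroup.card_bot] at hX
  exact hp.one_lt.ne hX

/-- `C_G(x) = C_G(X)` for a non-identity element `x` of a subgroup `X` of prime order -/
theorem centralizer_singleton_of_prime_card {p : ℕ} (hp : p.Prime) {X : Subgroup G}
    (hX : Nat.card ↥X = p) {x : G} (hx : x ∈ X) (hx1 : x ≠ 1) :
    Subgroup.centralizer ({x} : Set G) = Subgroup.centralizer (X : Set G) := by
  rw [← Cfsg.Agent.Lib.BG127H7.zpowers_eq_of_prime_card hp hX hx hx1]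
  apply le_antisymm
  · intro g hg
    have hgx : g * x = x * g := Subgroup.mem_centralizer_singleton_iff.mp hg
    rw [Subgroup.mem_centralizer_iff]
    intro y hy
    obtain ⟨n, rfl⟩ := Subgroup.mem_zpowers_iff.mp hy
    exact ((Commute.zpow_right (show Commute g x from hgx) n).eq).symm
  · exact Subgroup.centralizer_le (Set.singleton_subset_iff.mpr (Subgroup.mem_zpowers x))

/-- a subgroup of prime order meets trivially every subgroup not containing it -/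
theorem inf_eq_bot_of_prime_card {p : ℕ} (hp : p.Prime) {X K : Subgroup G}
    (hX : Nat.card ↥X = p) (h : ¬ X ≤ K) : X ⊓ K = ⊥ := by
  by_contra hne
  apply h
  have hd : Nat.card ↥(X ⊓ K : Subgroup G) ∣ p := hX ▸ Subgroup.card_dvd_of_le inf_le_left
  rcases (Nat.dvd_prime hp).mp hd with h1 | h1
  · exact absurd (Subgroup.card_eq_one.mp h1) hne
  · have : X ⊓ K = X := Subgroup.eq_of_le_of_card_ge inf_le_left (by rw [h1, hX])
    rw [← this]; exact inf_le_right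

/-- **`E₃` is semiprime**, one inclusion -/
theorem tau3_centralizer_le (hG : Cfsg.IsMinSimpleOddOrder G) {M E : Subgroup G} (hM : IsCoatom M)
    (hE : Cfsg.IsComplIn E (Cfsg.sigmaCore M) M) {r : ℕ} (hr : r ∈ Cfsg.tau3 M) {R : Subgroup G}
    (hRE : R ≤ E) (hRc : Nat.card ↥R = r)
    (hD : Cfsg.sigmaCore M ⊓ Subgroup.centralizer (R : Set G) ≠ ⊥) {r' : ℕ}
    (hr' : r' ∈ Cfsg.tau3 M) {R' : Subgroup G} (hR'E : R' ≤ E) (hR'c : Nat.card ↥R' = r') :
    Cfsg.sigmaCore M ⊓ Subgroup.centralizer (R : Set G) ≤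
      Cfsg.sigmaCore M ⊓ Subgroup.centralizer (R' : Set G) := by
  haveI : Fact r.Prime := ⟨hr.1⟩
  haveI : Fact r'.Prime := ⟨hr'.1⟩
  have hR1 : R ≠ ⊥ := ne_bot_of_card_prime hr.1 hRc
  have hRt : R ≠ ⊤ := ne_top_of_le_coatom hM (hRE.trans hE.1)
  have hRp : IsPGroup r ↥R := isPGroup_of_card_prime hRc
  obtain ⟨H, hH, hNH⟩ := exists_coatom_normalizer_le hG hR1 hRt
  have hEH : E ≤ H := (tau3_sub hG hM hE hr hRE hRc).1.trans hNH
  have hncj := cj_ne_of_normalizer_le hG hH hr.2.1 hr.2.2.2 hRp hR1 hNH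
  have hMsH := bg132_a hG hM hH hr.2.1 hr.2.2.2 (hRE.trans hE.1) hRp hR1 hNH
  have hR'H' : R' ≤ ⁅H, H⁆ :=
    (tau3_sub hG hM hE hr' hR'E hR'c).2.trans (Subgroup.commutator_mono hEH hEH)
  have hr'τ : r' ∉ Cfsg.tau1 H := by
    intro h
    apply h.2.2.2.1
    rw [← hR'c]
    exact Subgroup.card_dvd_of_le hR'H'
  have h1 := bg132_b hG hM hH hncj hr'.2.1 hr'τ (le_inf (hR'E.trans hE.1) (hR'E.trans hEH))
    (isPGroup_of_card_prime hR'c)
  rw [hMsH, Subgroup.le_centralizer_iff] at h1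
  exact le_inf inf_le_left h1

/-- **`E₃` is semiprime** -/
theorem tau3_centralizer_eq (hG : Cfsg.IsMinSimpleOddOrder G) {M E : Subgroup G} (hM : IsCoatom M)
    (hE : Cfsg.IsComplIn E (Cfsg.sigmaCore M) M) {r : ℕ} (hr : r ∈ Cfsg.tau3 M) {R : Subgroup G}
    (hRE : R ≤ E) (hRc : Nat.card ↥R = r)
    (hD : Cfsg.sigmaCore M ⊓ Subgroup.centralizer (R : Set G) ≠ ⊥) {r' : ℕ}
    (hr' : r' ∈ Cfsg.tau3 M) {R' : Subgroup G} (hR'E : R' ≤ E) (hR'c : Nat.card ↥R' = r') :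
    Cfsg.sigmaCore M ⊓ Subgroup.centralizer (R' : Set G) =
      Cfsg.sigmaCore M ⊓ Subgroup.centralizer (R : Set G) := by
  have h1 := tau3_centralizer_le hG hM hE hr hRE hRc hD hr' hR'E hR'c
  have hD' : Cfsg.sigmaCore M ⊓ Subgroup.centralizer (R' : Set G) ≠ ⊥ := by
    intro h
    rw [h, le_bot_iff] at h1
    exact hD h1
  exact le_antisymm (tau3_centralizer_le hG hM hE hr' hR'E hR'c hD' hr hRE hRc) h1

/-- **(N1)**: `R` does not centralize `M_σ` -/
theorem not_sigmaCore_le_centralizer (hG : Cfsg.IsMinSimpleOddOrder G) {M E : Subgroup G}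
    (hM : IsCoatom M) (hE : Cfsg.IsComplIn E (Cfsg.sigmaCore M) M) {r : ℕ} (hr : r ∈ Cfsg.tau3 M)
    {R : Subgroup G} (hRE : R ≤ E) (hRc : Nat.card ↥R = r) :
    ¬ Cfsg.sigmaCore M ≤ Subgroup.centralizer (R : Set G) := by
  intro hc
  haveI : Fact r.Prime := ⟨hr.1⟩
  have hR1 : R ≠ ⊥ := ne_bot_of_card_prime hr.1 hRc
  have hRt : R ≠ ⊤ := ne_top_of_le_coatom hM (hRE.trans hE.1)
  have hEN := (tau3_sub hG hM hE hr hRE hRc).1
  have hMN : M ≤ Subgroup.normalizer (R : Set G) := by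
    intro m hm
    obtain ⟨a, ha, b, hb, rfl⟩ := hE.2.2.2 m hm
    refine Subgroup.mul_mem _ (hEN ha) ?_
    have h1 : Cfsg.sigmaCore M ≤ Subgroup.centralizer (R : Set G) := by
      rwa [Subgroup.le_centralizer_iff] at hc ⊢
    exact Subgroup.centralizer_le_normalizer _ (hc hb)
  have hNM : Subgroup.normalizer (R : Set G) = M :=
    (hM.le_iff_eq (normalizer_ne_top' hG hR1 hRt)).mp hMN
  have hτ : r ∈ Cfsg.tau2 M :=
    aux1 hG hM (isPGroup_of_card_prime hRc) hR1 hNM.le hr.2.1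
  exact hτ.2.2.2 hr.2.2.2

/-- **the Frobenius formula** for `R ⋊ Y` acting on `M_σ` -/
theorem frob_formula (hG : Cfsg.IsMinSimpleOddOrder G) {M E : Subgroup G} (hM : IsCoatom M)
    (hE : Cfsg.IsComplIn E (Cfsg.sigmaCore M) M) {r : ℕ} (hr : r ∈ Cfsg.tau3 M) {R : Subgroup G}
    (hRE : R ≤ E) (hRc : Nat.card ↥R = r) {Y : Subgroup G} (hYE : Y ≤ E) (hY1 : Y ≠ ⊥)
    (hfpf : ∀ y ∈ Y, y ≠ 1 → R ⊓ Subgroup.centralizer ({y} : Set G) = ⊥) :
    Nat.card ↥(Cfsg.sigmaCore M ⊓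
        (Subgroup.centralizer (R : Set G) ⊓ Subgroup.centralizer (Y : Set G))) ^ Nat.card ↥Y *
        Nat.card ↥(Cfsg.sigmaCore M) =
      Nat.card ↥(Cfsg.sigmaCore M ⊓ Subgroup.centralizer (Y : Set G)) ^ Nat.card ↥Y *
        Nat.card ↥(Cfsg.sigmaCore M ⊓ Subgroup.centralizer (R : Set G)) := by
  have hR1 : R ≠ ⊥ := ne_bot_of_card_prime hr.1 hRc
  have hRY : R ⊓ Y = ⊥ := by
    rw [eq_bot_iff]
    rintro z ⟨hzR, hzY⟩
    by_contra hz1
    have hz1' : z ≠ 1 := fun h => hz1 (by rw [h]; exact Subgroup.one_mem _)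
    have h1 : z ∈ R ⊓ Subgroup.centralizer ({z} : Set G) :=
      ⟨hzR, Subgroup.mem_centralizer_singleton_iff.mpr rfl⟩
    rw [hfpf z hzY hz1'] at h1
    exact hz1' (Subgroup.mem_bot.mp h1)
  haveI : Group.IsSolvable ↥(Cfsg.sigmaCore M) :=
    Cfsg.Agent.H2.BGU.solvable_of_le_coatom hG hM (Cfsg.Agent.H2.BG11.sigmaCore_le M)
  have hcop : (Nat.card ↥(R ⊔ Y)).Coprime (Nat.card ↥(Cfsg.sigmaCore M)) :=
    Nat.Coprime.coprime_dvd_left (Subgroup.card_dvd_of_le (sup_le hRE hYE))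
      (Cfsg.Agent.H2.BG12.coprime_compl hG hM hE)
  exact frobenius_formula R Y (Cfsg.sigmaCore M) hR1 hY1 hRY
    (hYE.trans (tau3_sub hG hM hE hr hRE hRc).1) hfpf inferInstance
    ((hRE.trans hE.1).trans (Cfsg.Agent.H2.BG11.le_normalizer_sigmaCore M))
    ((hYE.trans hE.1).trans (Cfsg.Agent.H2.BG11.le_normalizer_sigmaCore M)) hcop

/-- a subgroup `P` of prime order not centralizing `R` acts fixed-point-freely on `R` -/
theorem fpf_of_not_le_centralizer {r p : ℕ} (hr : r.Prime) (hp : p.Prime) {R P : Subgroup G}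
    (hRc : Nat.card ↥R = r) (hPc : Nat.card ↥P = p)
    (hRP : ¬ R ≤ Subgroup.centralizer (P : Set G)) :
    ∀ y ∈ P, y ≠ 1 → R ⊓ Subgroup.centralizer ({y} : Set G) = ⊥ := by
  intro y hy hy1
  rw [centralizer_singleton_of_prime_card hp hPc hy hy1]
  exact inf_eq_bot_of_prime_card hr hRc hRP

/-- **(N2)**: `P ≤ E` of prime order not centralizing `R`: `C_{M_σ}(P) ⊄ C_{M_σ}(R)` -/
theorem not_centralizer_le_of_moves (hG : Cfsg.IsMinSimpleOddOrder G) {M E : Subgroup G}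
    (hM : IsCoatom M) (hE : Cfsg.IsComplIn E (Cfsg.sigmaCore M) M) {r : ℕ} (hr : r ∈ Cfsg.tau3 M)
    {R : Subgroup G} (hRE : R ≤ E) (hRc : Nat.card ↥R = r) {p : ℕ} (hp : p.Prime)
    {P : Subgroup G} (hPE : P ≤ E) (hPc : Nat.card ↥P = p)
    (hRP : ¬ R ≤ Subgroup.centralizer (P : Set G)) :
    ¬ Cfsg.sigmaCore M ⊓ Subgroup.centralizer (P : Set G) ≤
      Cfsg.sigmaCore M ⊓ Subgroup.centralizer (R : Set G) := by
  intro hle
  have hf := frob_formula hG hM hE hr hRE hRc hPE (ne_bot_of_card_prime hp hPc)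
    (fpf_of_not_le_centralizer hr.1 hp hRc hPc hRP)
  have h1 : Cfsg.sigmaCore M ⊓
      (Subgroup.centralizer (R : Set G) ⊓ Subgroup.centralizer (P : Set G)) =
      Cfsg.sigmaCore M ⊓ Subgroup.centralizer (P : Set G) := by
    apply le_antisymm (inf_le_inf_left _ inf_le_right)
    exact le_inf inf_le_left (le_inf (hle.trans inf_le_right) inf_le_right)
  rw [h1] at hf
  have hpos : 0 < Nat.card ↥(Cfsg.sigmaCore M ⊓ Subgroup.centralizer (P : Set G)) ^ Nat.card ↥P :=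
    pow_pos Nat.card_pos _
  have h2 : Nat.card ↥(Cfsg.sigmaCore M) =
      Nat.card ↥(Cfsg.sigmaCore M ⊓ Subgroup.centralizer (R : Set G)) :=
    Nat.eq_of_mul_eq_mul_left hpos hf
  have h3 : Cfsg.sigmaCore M ⊓ Subgroup.centralizer (R : Set G) = Cfsg.sigmaCore M :=
    Subgroup.eq_of_le_of_card_ge inf_le_left h2.le
  apply not_sigmaCore_le_centralizer hG hM hE hr hRE hRc
  rw [← h3]
  exact inf_le_right

/-- **(N3)**: `P ≤ E` of order `p ∈ τ₁(M)` centralizing `R`: `C_{M_σ}(P) ≤ C_{M_σ}(R)` -/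
theorem centralizer_le_of_commute (hG : Cfsg.IsMinSimpleOddOrder G) {M E : Subgroup G}
    (hM : IsCoatom M) (hE : Cfsg.IsComplIn E (Cfsg.sigmaCore M) M) {R : Subgroup G}
    (hRE : R ≤ E) (hRc : (Nat.card ↥R).Prime) {p : ℕ} (hp : p ∈ Cfsg.tau1 M)
    {P : Subgroup G} (hPE : P ≤ E) (hPc : Nat.card ↥P = p)
    (hRP : R ≤ Subgroup.centralizer (P : Set G)) :
    Cfsg.sigmaCore M ⊓ Subgroup.centralizer (P : Set G) ≤
      Cfsg.sigmaCore M ⊓ Subgroup.centralizer (R : Set G) :=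
  Cfsg.Agent.S1428.result hG M hM E hE p hp P hPE hPc R (le_inf hRE hRP) hRc

/-- **Claim Y**: a subgroup `Y ⊇ P` of `E` acting fixed-point-freely on `R` with
`C_{M_σ}(Y) = C_{M_σ}(P)` equals `P` (two Frobenius formulas) -/
theorem eq_of_fpf_of_centralizer_eq (hG : Cfsg.IsMinSimpleOddOrder G) {M E : Subgroup G}
    (hM : IsCoatom M) (hE : Cfsg.IsComplIn E (Cfsg.sigmaCore M) M) {r : ℕ} (hr : r ∈ Cfsg.tau3 M)
    {R : Subgroup G} (hRE : R ≤ E) (hRc : Nat.card ↥R = r) {p : ℕ} (hp : p.Prime)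
    {P : Subgroup G} (hPE : P ≤ E) (hPc : Nat.card ↥P = p)
    (hRP : ¬ R ≤ Subgroup.centralizer (P : Set G)) {Y : Subgroup G} (hYE : Y ≤ E) (hPY : P ≤ Y)
    (hfpf : ∀ y ∈ Y, y ≠ 1 → R ⊓ Subgroup.centralizer ({y} : Set G) = ⊥)
    (hDY : Cfsg.sigmaCore M ⊓ Subgroup.centralizer (Y : Set G) =
      Cfsg.sigmaCore M ⊓ Subgroup.centralizer (P : Set G)) : Y = P := by
  have hP1 : P ≠ ⊥ := ne_bot_of_card_prime hp hPc
  have hY1 : Y ≠ ⊥ := fun h => hP1 (le_bot_iff.mp (h ▸ hPY))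
  have hfY := frob_formula hG hM hE hr hRE hRc hYE hY1 hfpf
  have hfP := frob_formula hG hM hE hr hRE hRc hPE hP1
    (fpf_of_not_le_centralizer hr.1 hp hRc hPc hRP)
  have hA : Cfsg.sigmaCore M ⊓
      (Subgroup.centralizer (R : Set G) ⊓ Subgroup.centralizer (Y : Set G)) =
      Cfsg.sigmaCore M ⊓
      (Subgroup.centralizer (R : Set G) ⊓ Subgroup.centralizer (P : Set G)) := by
    apply le_antisymm
    · rintro x ⟨hx1, hx2, hx3⟩
      have : x ∈ Cfsg.sigmaCore M ⊓ Subgroup.centralizer (Y : Set G) := ⟨hx1, hx3⟩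
      rw [hDY] at this
      exact ⟨hx1, hx2, this.2⟩
    · rintro x ⟨hx1, hx2, hx3⟩
      have : x ∈ Cfsg.sigmaCore M ⊓ Subgroup.centralizer (P : Set G) := ⟨hx1, hx3⟩
      rw [← hDY] at this
      exact ⟨hx1, hx2, this.2⟩
  rw [hA, hDY] at hfY
  rw [hPc] at hfP
  set a := Nat.card ↥(Cfsg.sigmaCore M ⊓
      (Subgroup.centralizer (R : Set G) ⊓ Subgroup.centralizer (P : Set G)) : Subgroup G) with ha
  set b := Nat.card ↥(Cfsg.sigmaCore M ⊓ Subgroup.centralizer (P : Set G) : Subgroup G) with hb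
  set m := Nat.card ↥(Cfsg.sigmaCore M) with hm
  set d := Nat.card ↥(Cfsg.sigmaCore M ⊓ Subgroup.centralizer (R : Set G) : Subgroup G) with hd
  set n := Nat.card ↥Y with hn
  have ha0 : 0 < a := Nat.card_pos
  have hb0 : 0 < b := Nat.card_pos
  have hm0 : 0 < m := Nat.card_pos
  have hd0 : 0 < d := Nat.card_pos
  have hpn : p ≤ n := by
    rw [← hPc]
    exact Nat.le_of_dvd Nat.card_pos (Subgroup.card_dvd_of_le hPY)
  have hnp : n = p := by
    by_contra hne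
    obtain ⟨k, hk⟩ : ∃ k, n = p + k := ⟨n - p, by omega⟩
    have hk0 : k ≠ 0 := by omega
    have h1 : a ^ n * b ^ p * (m * d) = b ^ n * a ^ p * (m * d) := by
      calc a ^ n * b ^ p * (m * d) = (a ^ n * m) * (b ^ p * d) := by ring
        _ = (b ^ n * d) * (a ^ p * m) := by rw [hfY, hfP]
        _ = b ^ n * a ^ p * (m * d) := by ring
    have h2 : a ^ n * b ^ p = b ^ n * a ^ p :=
      Nat.eq_of_mul_eq_mul_right (Nat.mul_pos hm0 hd0) h1
    rw [hk, pow_add, pow_add] at h2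
    have h3 : a ^ k * (a ^ p * b ^ p) = b ^ k * (a ^ p * b ^ p) := by
      calc a ^ k * (a ^ p * b ^ p) = a ^ p * a ^ k * b ^ p := by ring
        _ = b ^ p * b ^ k * a ^ p := h2
        _ = b ^ k * (a ^ p * b ^ p) := by ring
    have h4 : a ^ k = b ^ k :=
      Nat.eq_of_mul_eq_mul_right (Nat.mul_pos (pow_pos ha0 p) (pow_pos hb0 p)) h3
    have h5 : a = b := Nat.pow_left_injective hk0 h4
    have h6 : Cfsg.sigmaCore M ⊓
        (Subgroup.centralizer (R : Set G) ⊓ Subgroup.centralizer (P : Set G)) =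
        Cfsg.sigmaCore M ⊓ Subgroup.centralizer (P : Set G) :=
      Subgroup.eq_of_le_of_card_ge (inf_le_inf_left _ inf_le_right) (by rw [← ha, ← hb, h5])
    apply not_centralizer_le_of_moves hG hM hE hr hRE hRc hp hPE hPc hRP
    rw [← h6]
    exact le_inf inf_le_left (inf_le_right.trans inf_le_left)
  exact (Subgroup.eq_of_le_of_card_ge hPY (by rw [hPc, ← hn, hnp])).symm

/-- **the `β`-structure**: `r ∈ τ₃(M)`, `R ≤ E` of order `r` with `C_{M_σ}(R) ≠ 1`, `P ≤ E` of order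
`p ∈ τ₁(M)` not centralizing `R`.  Then `C_E(P) = P`. -/
theorem compl_inf_centralizer_le_of_moves (hG : Cfsg.IsMinSimpleOddOrder G) {M E : Subgroup G}
    (hM : IsCoatom M) (hE : Cfsg.IsComplIn E (Cfsg.sigmaCore M) M) {r : ℕ} (hr : r ∈ Cfsg.tau3 M)
    {R : Subgroup G} (hRE : R ≤ E) (hRc : Nat.card ↥R = r)
    (hD : Cfsg.sigmaCore M ⊓ Subgroup.centralizer (R : Set G) ≠ ⊥) {p : ℕ} (hp : p ∈ Cfsg.tau1 M)
    {P : Subgroup G} (hPE : P ≤ E) (hPc : Nat.card ↥P = p)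
    (hRP : ¬ R ≤ Subgroup.centralizer (P : Set G)) :
    E ⊓ Subgroup.centralizer (P : Set G) ≤ P := by
  have h2 := no_tau2 hG hM hr (hRE.trans hE.1) hRc hD
  have hcyc := pRankLE_one_compl hG hM hE h2
  have hN2 := not_centralizer_le_of_moves hG hM hE hr hRE hRc hp.1 hPE hPc hRP
  have hPab : P ≤ Subgroup.centralizer (P : Set G) := by
    haveI : IsCyclic ↥P := isCyclic_of_prime_card (hp := ⟨hp.1⟩) hPc
    intro x hx
    rw [Subgroup.mem_centralizer_iff]
    intro y hy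
    have hc : IsMulCommutative ↥P := IsCyclic.isMulCommutative
    have := hc.is_comm.comm (⟨y, hy⟩ : ↥P) ⟨x, hx⟩
    exact congrArg Subtype.val this
  rintro y ⟨hyE, hyC⟩
  set Y : Subgroup G := Subgroup.zpowers y ⊔ P with hY
  have hzE : Subgroup.zpowers y ≤ E := (Subgroup.zpowers_le).mpr hyE
  have hzC : Subgroup.zpowers y ≤ Subgroup.centralizer (P : Set G) := (Subgroup.zpowers_le).mpr hyC
  have hYE : Y ≤ E := sup_le hzE hPE
  have hYC : Y ≤ Subgroup.centralizer (P : Set G) := sup_le hzC hPab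
  have hPY : P ≤ Y := le_sup_right
  have hDY : Cfsg.sigmaCore M ⊓ Subgroup.centralizer (Y : Set G) =
      Cfsg.sigmaCore M ⊓ Subgroup.centralizer (P : Set G) := by
    apply le_antisymm (inf_le_inf_left _ (Subgroup.centralizer_le hPY))
    refine le_inf inf_le_left ?_
    rw [hY, centralizer_sup_eq]
    refine le_inf ?_ inf_le_right
    have h1 := Cfsg.Agent.Lib.Helper4.BG13.inf_centralizer_le_centralizer hG
      (Cfsg.Agent.Lib.Helper4.BG13.hyp1428 hG) hM hE hp hPE hPc hcyc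
    have h3 : Subgroup.zpowers y ≤ Subgroup.centralizer
        ((Cfsg.sigmaCore M ⊓ Subgroup.centralizer (P : Set G) : Subgroup G) : Set G) :=
      (Subgroup.zpowers_le).mpr (h1 ⟨hyE, hyC⟩)
    rwa [Subgroup.le_centralizer_iff] at h3
  have hfpf : ∀ z ∈ Y, z ≠ 1 → R ⊓ Subgroup.centralizer ({z} : Set G) = ⊥ := by
    intro z hzY hz1
    apply inf_eq_bot_of_prime_card hr.1 hRc
    intro hRz
    -- `z` centralizes `R`
    have hzR : Subgroup.zpowers z ≤ Subgroup.centralizer (R : Set G) := by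
      rw [Subgroup.zpowers_le, Subgroup.mem_centralizer_iff]
      intro x hx
      have := Subgroup.mem_centralizer_singleton_iff.mp (hRz hx)
      exact this
    have hz0 : Subgroup.zpowers z ≠ ⊥ := by
      intro h
      exact hz1 (Subgroup.zpowers_eq_bot.mp h)
    obtain ⟨t, htf, Z₀, hZ₀z, hZ₀c⟩ := Cfsg.Agent.Lib.Helper4.BG13.exists_prime_card_le hz0
    have ht : t.Prime := htf.out
    have hZ₀Y : Z₀ ≤ Y := hZ₀z.trans ((Subgroup.zpowers_le).mpr hzY)
    have hZ₀E : Z₀ ≤ E := hZ₀Y.trans hYE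
    have hRZ₀ : R ≤ Subgroup.centralizer (Z₀ : Set G) := by
      rw [Subgroup.le_centralizer_iff]
      exact hZ₀z.trans hzR
    have h1 : Cfsg.sigmaCore M ⊓ Subgroup.centralizer (P : Set G) ≤
        Cfsg.sigmaCore M ⊓ Subgroup.centralizer (Z₀ : Set G) :=
      Cfsg.Agent.S1428.result hG M hM E hE p hp P hPE hPc Z₀ (le_inf hZ₀E (hZ₀Y.trans hYC))
        (hZ₀c ▸ ht)
    have htE : t ∣ Nat.card ↥E := hZ₀c ▸ Subgroup.card_dvd_of_le hZ₀E
    have htσ : t ∉ Cfsg.sigma M := Cfsg.Agent.H2.BG12.not_mem_sigma_of_dvd_compl hG hM hE ht htE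
    rcases Cfsg.Agent.H2.BG13.tau_cases hG hM ht (htE.trans (Subgroup.card_dvd_of_le hE.1)) htσ
      with h | h | h
    · exact hN2 (h1.trans
        (centralizer_le_of_commute hG hM hE hRE (hRc ▸ hr.1) h hZ₀E hZ₀c hRZ₀))
    · exact h2 t h
    · exact hN2 (h1.trans (tau3_centralizer_eq hG hM hE hr hRE hRc hD h hZ₀E hZ₀c).le)
  have hYP : Y = P := eq_of_fpf_of_centralizer_eq hG hM hE hr hRE hRc hp.1 hPE hPc hRP hYE hPY
    hfpf hDY
  rw [← hYP]
  exact Subgroup.mem_sup_left (Subgroup.mem_zpowers y)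

end Cfsg.Agent.Lib.Helper7.BG13
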