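import Mathlib
import Cfsg.Agent.Lib.Helper7.BG13C
import Cfsg.Agent.Lib.Helper8.BG14IVb
import Cfsg.Agent.H1.NormMap

/-!
# B&G Section 13 (helper7), part D: Lemma B, Case II (`[C_{M_σ}(R), P] ≠ 1`)
-/

set_option autoImplicit false
set_option linter.unusedSectionVars false
set_option linter.unusedVariables false
set_option linter.style.haveILetI false
set_option maxHeartbeats 1000000
open Cfsg
open scoped commutatorElement Pointwise

namespace Cfsg.Agent.Lib.Helper7.BG13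

open Cfsg.Agent.Lib.Helper7 (IsSylowIn exists_isSylowIn_ge card_subgroupOf_of_le)
open Cfsg.Agent.Lib.Helper8.BGTen Cfsg.Agent.Lib.Helper4.BGTrans
open Cfsg.Agent.Lib.helper3.BG11 Cfsg.Agent.Lib.helper3.BG12 Cfsg.Agent.Lib.helper3.BG13

universe u

variable {G : Type u} [Group G] [Finite G]

/-- statement (iv) holds (helper8) -/
theorem hypIV (hG : Cfsg.IsMinSimpleOddOrder G) : HypIV G := by
  intro M hM r R hrτ hRM hRc hD L hL hNL
  haveI : Fact r.Prime := ⟨by rcases hrτ with h | h <;> exact h.1⟩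
  exact Cfsg.Agent.Lib.Helper8.BG14IV.mem_sigma_of_kappa' hG hM hrτ hRM hRc hD hL hNL

/-- the statement of the `Σ9`-trick in `C_G(P)` (helper5's `sigma_trick`) -/
def HypSigma (G : Type u) [Group G] : Prop :=
  ∀ {M H : Subgroup G}, IsCoatom M → IsCoatom H → (∀ g : G, cj g H ≠ M) → ∀ {p : ℕ},
    p ∈ Cfsg.tau1 M → p ∈ Cfsg.tau1 H → ∀ {P : Subgroup G}, P ≤ M → P ≤ H → Nat.card ↥P = p →
    Cfsg.sigmaCore M ⊓ Subgroup.centralizer (P : Set G) ≠ ⊥ →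
    Cfsg.sigmaCore H ⊓ Subgroup.centralizer (P : Set G) ≠ ⊥ →
    M ⊓ Subgroup.centralizer (P : Set G) ≤
      (Cfsg.sigmaCore M ⊓ Subgroup.centralizer (P : Set G)) ⊔ P →
    H ⊓ Subgroup.centralizer (P : Set G) ≤
      (Cfsg.sigmaCore H ⊓ Subgroup.centralizer (P : Set G)) ⊔ P → False

/-- a group of coprime order acting on a cyclic `q`-group acts trivially or fixed-point-freely -/
theorem inf_centralizer_eq_bot_of_cyclic {q : ℕ} [hq : Fact q.Prime] {Q K : Subgroup G}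
    (hQc : IsCyclic ↥Q) (hQq : IsPGroup q ↥Q) (hKQ : K ≤ Subgroup.normalizer (Q : Set G))
    (hcop : (Nat.card ↥Q).Coprime (Nat.card ↥K))
    (hne : ¬ Q ≤ Subgroup.centralizer (K : Set G)) :
    Q ⊓ Subgroup.centralizer (K : Set G) = ⊥ := by
  rcases hQq.commutator_eq_bot_or_commutator_eq_self hKQ hcop with h | h
  · exfalso
    apply hne
    rw [Subgroup.commutator_eq_bot_iff_le_centralizer] at h
    rwa [Subgroup.le_centralizer_iff]
  · have hab : IsMulCommutative ↥Q := IsCyclic.isMulCommutative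
    have h1 := Cfsg.Agent.H1.commutator_inf_centralizer_eq_bot_of_abelian Q K hab hKQ hcop.symm
    rwa [Subgroup.commutator_comm, h] at h1

/-- a complement of `H_σ` containing a given `σ(H)'`-subgroup -/
theorem exists_compl_ge (hG : Cfsg.IsMinSimpleOddOrder G) {H : Subgroup G} (hH : IsCoatom H)
    {Y : Subgroup G} (hYH : Y ≤ H)
    (hY : (Nat.card ↥Y).Coprime (Nat.card ↥(Cfsg.sigmaCore H))) :
    ∃ EH : Subgroup G, Cfsg.IsComplIn EH (Cfsg.sigmaCore H) H ∧ Y ≤ EH := by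
  obtain ⟨E', hE'⟩ := exists_compl hG hH
  obtain ⟨m, hm, hYm⟩ := Cfsg.Agent.H2.BG12.exists_cj_compl_ge hG hH hE' hYH hY
  exact ⟨cj m E', Cfsg.Agent.H2.BG12.compl_cj hE' hm, hYm⟩

/-- **the dual configuration**: if `P ≤ E` of order `p ∈ τ₁(M)` does not centralize
`D = C_{M_σ}(R)`, then in a maximal subgroup `H ⊇ N_G(R)` there are a complement `E_H ⊇ P` and a
subgroup `X ≤ D ∩ E_H` of order `q ∈ τ₃(H)` with `R ≤ C_{H_σ}(X)`, `p ∈ τ₁(H)`, `[X, P] ≠ 1`. -/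
theorem exists_dual (hG : Cfsg.IsMinSimpleOddOrder G) {M E : Subgroup G}
    (hM : IsCoatom M) (hE : Cfsg.IsComplIn E (Cfsg.sigmaCore M) M) {r : ℕ} (hr : r ∈ Cfsg.tau3 M)
    {R : Subgroup G} (hRE : R ≤ E) (hRc : Nat.card ↥R = r)
    (hD : Cfsg.sigmaCore M ⊓ Subgroup.centralizer (R : Set G) ≠ ⊥) {p : ℕ} (hp : p ∈ Cfsg.tau1 M)
    {P : Subgroup G} (hPE : P ≤ E) (hPc : Nat.card ↥P = p)
    (hDP : ¬ Cfsg.sigmaCore M ⊓ Subgroup.centralizer (R : Set G) ≤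
      Subgroup.centralizer (P : Set G)) :
    ∃ (H EH X : Subgroup G) (q : ℕ), IsCoatom H ∧ (∀ g : G, cj g H ≠ M) ∧ P ≤ H ∧
      Cfsg.IsComplIn EH (Cfsg.sigmaCore H) H ∧ q ∈ Cfsg.tau3 H ∧ X ≤ EH ∧ Nat.card ↥X = q ∧
      Cfsg.sigmaCore H ⊓ Subgroup.centralizer (X : Set G) ≠ ⊥ ∧ p ∈ Cfsg.tau1 H ∧ P ≤ EH ∧
      ¬ X ≤ Subgroup.centralizer (P : Set G) := by
  haveI hrf : Fact r.Prime := ⟨hr.1⟩
  haveI hpf : Fact p.Prime := ⟨hp.1⟩
  have hR1 : R ≠ ⊥ := ne_bot_of_card_prime hr.1 hRc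
  have hRM : R ≤ M := hRE.trans hE.1
  have hPM : P ≤ M := hPE.trans hE.1
  have hRt : R ≠ ⊤ := ne_top_of_le_coatom hM hRM
  have hRp : IsPGroup r ↥R := isPGroup_of_card_prime hRc
  have hPp : IsPGroup p ↥P := isPGroup_of_card_prime hPc
  obtain ⟨H, hH, hNH⟩ := exists_coatom_normalizer_le hG hR1 hRt
  have hEH : E ≤ H := (tau3_sub hG hM hE hr hRE hRc).1.trans hNH
  have hRH : R ≤ H := hRE.trans hEH
  have hPH : P ≤ H := hPE.trans hEH
  have hncj := cj_ne_of_normalizer_le hG hH hr.2.1 hr.2.2.2 hRp hR1 hNH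
  have hHM : H ≠ M := by
    have := hncj 1
    rwa [cj_one] at this
  have hMsH := bg132_a hG hM hH hr.2.1 hr.2.2.2 hRM hRp hR1 hNH
  set D := Cfsg.sigmaCore M ⊓ Subgroup.centralizer (R : Set G) with hDdef
  have hDMs : D ≤ Cfsg.sigmaCore M := inf_le_left
  have hDH : D ≤ H := hMsH ▸ inf_le_right
  have hDCR : D ≤ Subgroup.centralizer (R : Set G) := inf_le_right
  -- (a) `[M_σ ∩ H, M ∩ H] ≠ 1`
  have hcomm : ⁅Cfsg.sigmaCore M ⊓ H, M ⊓ H⁆ ≠ ⊥ := by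
    intro h
    rw [Subgroup.commutator_eq_bot_iff_le_centralizer, hMsH] at h
    exact hDP (h.trans (Subgroup.centralizer_le (le_inf hPM hPH)))
  have hrM : r ∣ Nat.card ↥M := hRc ▸ Subgroup.card_dvd_of_le hRM
  have hrH : r ∈ Cfsg.sigma H := bg132_c hG hM hH hncj hrM hr.2.1 hcomm hRp hR1 hNH
  have hpH : p ∈ Cfsg.tau1 H := by
    by_contra hpτ
    have h1 := bg132_b hG hM hH hncj hp.2.1 hpτ (le_inf hPM hPH) hPp
    rw [hMsH, Subgroup.le_centralizer_iff] at h1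
    exact hDP h1
  -- (b) the subgroup `X`
  have hPD : P ≤ Subgroup.normalizer (D : Set G) := by
    rw [← hMsH]
    exact Cfsg.Agent.Lib.Helper4.BGTrans.le_normalizer_inf (hPM.trans (Cfsg.Agent.H2.BG11.le_normalizer_sigmaCore M))
      (hPH.trans Subgroup.le_normalizer)
  have hcopPD : (Nat.card ↥P).Coprime (Nat.card ↥D) := by
    refine Nat.Coprime.coprime_dvd_right (Subgroup.card_dvd_of_le hDMs) ?_
    exact Nat.Coprime.coprime_dvd_left (Subgroup.card_dvd_of_le hPE)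
      (Cfsg.Agent.H2.BG12.coprime_compl hG hM hE)
  have hDPc : ⁅D, P⁆ ≠ ⊥ := by
    intro h
    rw [Subgroup.commutator_eq_bot_iff_le_centralizer] at h
    exact hDP h
  obtain ⟨q, hqf, Q₀, hQ₀syl, hPQ₀, hQ₀P⟩ :=
    Cfsg.Agent.Lib.Helper4.BG1218.exists_sylow_commutator_ne_bot hG
      (ne_top_of_le_coatom hH hDH) hPD hcopPD hDPc
  have hq : q.Prime := hqf.out
  have hQ₀D : Q₀ ≤ D := hQ₀syl.1
  have hQ₀q : IsPGroup q ↥Q₀ := hQ₀syl.isPGroup
  have hQ₀1 : Q₀ ≠ ⊥ := by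
    intro h
    apply hQ₀P
    rw [h, Subgroup.commutator_eq_bot_iff_le_centralizer]
    exact bot_le
  have hqQ₀ : q ∣ Nat.card ↥Q₀ := dvd_card_of_pgroup hQ₀q hQ₀1
  have hqσM : q ∈ Cfsg.sigma M :=
    Cfsg.Agent.H2.BG11.mem_sigma_of_dvd_sigmaCore hG hM hq
      (hqQ₀.trans (Subgroup.card_dvd_of_le (hQ₀D.trans hDMs)))
  have hqσH : q ∉ Cfsg.sigma H := by
    intro h
    obtain ⟨g, hg⟩ := (Cfsg.Agent.S1378.result hG).2 M H hM hH ⟨q, hqσM, h⟩
    have h1 : cj g⁻¹ H = M := by rw [hg]; exact cj_inv_cj g M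
    exact hncj g⁻¹ h1
  obtain ⟨X, hXQ₀, hXc⟩ : ∃ X : Subgroup G, X ≤ Q₀ ∧ Nat.card ↥X = q := by
    obtain ⟨t, htf, X, hXQ₀, hXc⟩ := Cfsg.Agent.Lib.Helper4.BG13.exists_prime_card_le hQ₀1
    refine ⟨X, hXQ₀, ?_⟩
    have h1 : t ∣ Nat.card ↥Q₀ := hXc ▸ Subgroup.card_dvd_of_le hXQ₀
    obtain ⟨k, hk⟩ := hQ₀q.exists_card_eq
    rw [hk] at h1
    rw [hXc]
    exact (Nat.prime_dvd_prime_iff_eq htf.out hq).mp (htf.out.dvd_of_dvd_pow h1)
  have hXD : X ≤ D := hXQ₀.trans hQ₀D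
  have hX1 : X ≠ ⊥ := ne_bot_of_card_prime hq hXc
  have hRHσ : R ≤ Cfsg.sigmaCore H := Cfsg.Agent.H2.BG11.le_sigmaCore_of_pgroup hG hH hrH hRH hRp
  have hRX : R ≤ Subgroup.centralizer (X : Set G) := by
    rw [Subgroup.le_centralizer_iff]
    exact hXD.trans hDCR
  have hqτ2 : q ∉ Cfsg.tau2 H := by
    intro hτ
    obtain ⟨y, hyX, hy1⟩ := Cfsg.Agent.Lib.BG127H7.exists_ne_one_of_card_prime hq hXc
    have hyo : orderOf y = q := Cfsg.Agent.Lib.BG127H7.orderOf_eq_of_prime_card hq hXc hyX hy1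
    have hyC : y ∈ Subgroup.centralizer (R : Set G) := hDCR (hXD hyX)
    exact Cfsg.Agent.Lib.Helper5.BG1218F.no_tau2_elt hG hM hH hHM hqσM hτ
      ((hXD.trans (hDMs.trans (Cfsg.Agent.H2.BG11.sigmaCore_le M))) hyX) ((hXD.trans hDH) hyX) hyo
      hR1 hRHσ hRM hyC
  have hqH : q ∣ Nat.card ↥H := hXc ▸ Subgroup.card_dvd_of_le (hXD.trans hDH)
  have hqrk : Cfsg.PRankLE q 1 ↥H := by
    rcases Cfsg.Agent.H2.BG13.tau_cases hG hH hq hqH hqσH with h | h | h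
    · exact h.2.2.2.2
    · exact absurd h hqτ2
    · exact h.2.2.2
  have hQ₀cyc : IsCyclic ↥Q₀ :=
    Cfsg.Agent.Lib.Helper4.BGTw.isCyclic_of_pRankLE_one hG hqrk (hQ₀D.trans hDH) hQ₀q
  have hPX : P ≤ Subgroup.normalizer (X : Set G) := le_normalizer_of_le_cyclic hQ₀cyc hXQ₀ hPQ₀
  have hqp : q ≠ p := fun h => hp.2.1 (h ▸ hqσM)
  have hXP : ¬ X ≤ Subgroup.centralizer (P : Set G) := by
    intro hXP
    have hcop : (Nat.card ↥Q₀).Coprime (Nat.card ↥P) := by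
      obtain ⟨k, hk⟩ := hQ₀q.exists_card_eq
      rw [hk, hPc]
      exact Nat.Coprime.pow_left k ((Nat.coprime_primes hq hp.1).mpr hqp)
    have hne : ¬ Q₀ ≤ Subgroup.centralizer (P : Set G) := by
      intro h
      apply hQ₀P
      rwa [Subgroup.commutator_eq_bot_iff_le_centralizer]
    have h1 := inf_centralizer_eq_bot_of_cyclic hQ₀cyc hQ₀q hPQ₀ hcop hne
    have h2 : X ≤ Q₀ ⊓ Subgroup.centralizer (P : Set G) := le_inf hXQ₀ hXP
    rw [h1, le_bot_iff] at h2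
    exact hX1 h2
  -- (c) `q ∈ τ₃(H)`
  have hqτ3 : q ∈ Cfsg.tau3 H := by
    rcases Cfsg.Agent.H2.BG13.tau_cases hG hH hq hqH hqσH with h | h | h
    · exfalso
      apply h.2.2.2.1
      have hXP' : ⁅X, P⁆ = X := by
        have hle : ⁅X, P⁆ ≤ X := by
          rw [Subgroup.commutator_le]
          intro x hx y hy
          rw [commutatorElement_def]
          have h1 : y * x⁻¹ * y⁻¹ ∈ X := ((hPX hy) x⁻¹).mp (Subgroup.inv_mem _ hx)
          have h2 : x * y * x⁻¹ * y⁻¹ = x * (y * x⁻¹ * y⁻¹) := by group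
          rw [h2]
          exact Subgroup.mul_mem _ hx h1
        by_contra hne
        have h1 : ¬ X ≤ ⁅X, P⁆ := fun h' => hne (le_antisymm hle h')
        have h2 := inf_eq_bot_of_prime_card hq hXc h1
        rw [inf_eq_right.mpr hle, Subgroup.commutator_eq_bot_iff_le_centralizer] at h2
        exact hXP h2
      have hXH' : X ≤ ⁅H, H⁆ := by
        rw [← hXP']
        exact Subgroup.commutator_mono (hXD.trans hDH) hPH
      rw [← hXc]
      exact Subgroup.card_dvd_of_le hXH'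
    · exact absurd h hqτ2
    · exact h
  -- (d) a complement `E_H ⊇ X P`
  have hcopXP : (Nat.card ↥(P ⊔ X)).Coprime (Nat.card ↥(Cfsg.sigmaCore H)) := by
    apply Cfsg.Agent.Lib.Helper4.BG1218.coprime_sup_sigmaCore hG hH hPX
    · intro t ht htd
      rw [hPc] at htd
      rw [(Nat.prime_dvd_prime_iff_eq ht hp.1).mp htd]
      exact hpH.2.1
    · intro t ht htd
      rw [hXc] at htd
      rw [(Nat.prime_dvd_prime_iff_eq ht hq).mp htd]
      exact hqσH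
  obtain ⟨EH, hEHc, hXPEH⟩ := exists_compl_ge hG hH (sup_le hPH (hXD.trans hDH)) hcopXP
  have hPEH : P ≤ EH := le_sup_left.trans hXPEH
  have hXEH : X ≤ EH := le_sup_right.trans hXPEH
  have hD' : Cfsg.sigmaCore H ⊓ Subgroup.centralizer (X : Set G) ≠ ⊥ := by
    intro h
    have h1 : R ≤ Cfsg.sigmaCore H ⊓ Subgroup.centralizer (X : Set G) := le_inf hRHσ hRX
    rw [h, le_bot_iff] at h1
    exact hR1 h1
  exact ⟨H, EH, X, q, hH, hncj, hPH, hEHc, hqτ3, hXEH, hXc, hD', hpH, hPEH, hXP⟩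

/-- **Lemma B, Case II**: `[C_{M_σ}(R), P] ≠ 1` -/
theorem lemmaB_caseII (hG : Cfsg.IsMinSimpleOddOrder G) (hSg : HypSigma G) {M E : Subgroup G}
    (hM : IsCoatom M) (hE : Cfsg.IsComplIn E (Cfsg.sigmaCore M) M) {r : ℕ} (hr : r ∈ Cfsg.tau3 M)
    {R : Subgroup G} (hRE : R ≤ E) (hRc : Nat.card ↥R = r)
    (hD : Cfsg.sigmaCore M ⊓ Subgroup.centralizer (R : Set G) ≠ ⊥) {p : ℕ} (hp : p ∈ Cfsg.tau1 M)
    {P : Subgroup G} (hPE : P ≤ E) (hPc : Nat.card ↥P = p)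
    (hRP : ¬ R ≤ Subgroup.centralizer (P : Set G))
    (hDP : ¬ Cfsg.sigmaCore M ⊓ Subgroup.centralizer (R : Set G) ≤
      Subgroup.centralizer (P : Set G)) : False := by
  obtain ⟨H, EH, X, q, hH, hncj, hPH, hEHc, hqτ3, hXEH, hXc, hD', hpH, hPEH, hXP⟩ :=
    exists_dual hG hM hE hr hRE hRc hD hp hPE hPc hDP
  have hPM : P ≤ M := hPE.trans hE.1
  have hCE := compl_inf_centralizer_le_of_moves hG hM hE hr hRE hRc hD hp hPE hPc hRP
  have hN2 := not_centralizer_le_of_moves hG hM hE hr hRE hRc hp.1 hPE hPc hRP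
  have hDM' : Cfsg.sigmaCore M ⊓ Subgroup.centralizer (P : Set G) ≠ ⊥ := by
    intro h
    apply hN2
    rw [h]
    exact bot_le
  have hCEH := compl_inf_centralizer_le_of_moves hG hH hEHc hqτ3 hXEH hXc hD' hpH hPEH hPc hXP
  have hN2H := not_centralizer_le_of_moves hG hH hEHc hqτ3 hXEH hXc hp.1 hPEH hPc hXP
  have hDH' : Cfsg.sigmaCore H ⊓ Subgroup.centralizer (P : Set G) ≠ ⊥ := by
    intro h
    apply hN2H
    rw [h]
    exact bot_le
  exact hSg hM hH hncj hp hpH hPM hPH hPc hDM' hDH'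
    (Cfsg.Agent.Lib.Helper5.BG13S.centralizer_le_sup hG hM hE hPE hCE)
    (Cfsg.Agent.Lib.Helper5.BG13S.centralizer_le_sup hG hH hEHc hPEH hCEH)

end Cfsg.Agent.Lib.Helper7.BG13
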