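import Mathlib
import Cfsg.Agent.Lib.Helper7.BG13D
import Cfsg.Agent.Lib.Helper8.BG14C3
import Cfsg.Agent.H2.BG12.G

/-!
# B&G Section 13 (helper7), part E: Lemma B, Case I (`[C_{M_σ}(R), P] = 1`), and Lemma B
-/

set_option autoImplicit false
set_option linter.unusedSectionVars false
set_option linter.unusedVariables false
set_option linter.style.haveILetI false
set_option maxHeartbeats 1000000
open Cfsg
open scoped commutatorElement Pointwise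

namespace Cfsg.Agent.Lib.Helper7.BG13

open Cfsg.Agent.Lib.Helper7 (IsSylowIn exists_isSylowIn_ge card_subgroupOf_of_le)
open Cfsg.Agent.Lib.Helper8.BGTen Cfsg.Agent.Lib.Helper4.BGTrans
open Cfsg.Agent.Lib.helper3.BG11 Cfsg.Agent.Lib.helper3.BG12 Cfsg.Agent.Lib.helper3.BG13

universe u

variable {G : Type u} [Group G] [Finite G]

/-- the statement of helper8's `exists_tau1_of_inf` -/
def HypQ1 (G : Type u) [Group G] : Prop :=
  ∀ {M N : Subgroup G}, IsCoatom M → IsCoatom N → (∀ g : G, cj g N ≠ M) → ∀ {D E : Subgroup G},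
    D ≠ ⊥ → D ≤ Cfsg.sigmaCore M → D ≤ N → Cfsg.sigmaCore M ⊓ N ≤ D → M ⊓ N ≤ D ⊔ E →
    E ≤ Subgroup.centralizer (D : Set G) →
    (∀ Y : Subgroup G, Y ≤ D → (Nat.card ↥Y).Prime → Subgroup.normalizer (Y : Set G) ≤ M) →
    (∀ q : ℕ, q.Prime → q ∣ Nat.card ↥D → Cfsg.PRankLE q 1 ↥N) →
    ∃ (q : ℕ) (Y : Subgroup G), q ∈ Cfsg.tau1 N ∧ Y ≤ D ∧ Nat.card ↥Y = q

/-- primes of `D ≤ M_σ ∩ H ∩ C(R)`, `1 ≠ R ≤ H_σ ∩ M`, have rank one in `H` (1d) -/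
theorem pRankLE_one_of_dvd_card (hG : Cfsg.IsMinSimpleOddOrder G) {M H : Subgroup G}
    (hM : IsCoatom M) (hH : IsCoatom H) (hncj : ∀ g : G, cj g H ≠ M) {R : Subgroup G}
    (hR1 : R ≠ ⊥) (hRHσ : R ≤ Cfsg.sigmaCore H) (hRM : R ≤ M) {D : Subgroup G}
    (hDMs : D ≤ Cfsg.sigmaCore M) (hDH : D ≤ H)
    (hDR : D ≤ Subgroup.centralizer (R : Set G)) {q : ℕ} (hq : q.Prime)
    (hqD : q ∣ Nat.card ↥D) :
    q ∈ Cfsg.sigma M ∧ q ∉ Cfsg.sigma H ∧ Cfsg.PRankLE q 1 ↥H := by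
  haveI : Fact q.Prime := ⟨hq⟩
  have hHM : H ≠ M := by
    have := hncj 1
    rwa [cj_one] at this
  have hqσM : q ∈ Cfsg.sigma M :=
    Cfsg.Agent.H2.BG11.mem_sigma_of_dvd_sigmaCore hG hM hq
      (hqD.trans (Subgroup.card_dvd_of_le hDMs))
  have hqσH : q ∉ Cfsg.sigma H := by
    intro h
    obtain ⟨g, hg⟩ := (Cfsg.Agent.S1378.result hG).2 M H hM hH ⟨q, hqσM, h⟩
    have h1 : cj g⁻¹ H = M := by rw [hg]; exact cj_inv_cj g M
    exact hncj g⁻¹ h1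
  obtain ⟨y, hyo⟩ := exists_prime_orderOf_dvd_card' q hqD
  have hqτ2 : q ∉ Cfsg.tau2 H := by
    intro hτ
    exact Cfsg.Agent.Lib.Helper5.BG1218F.no_tau2_elt hG hM hH hHM hqσM hτ
      ((hDMs.trans (Cfsg.Agent.H2.BG11.sigmaCore_le M)) y.2) (hDH y.2)
      (by rw [← hyo]; exact (Subgroup.orderOf_coe y)) hR1 hRHσ hRM (hDR y.2)
  have hqH : q ∣ Nat.card ↥H := hqD.trans (Subgroup.card_dvd_of_le hDH)
  refine ⟨hqσM, hqσH, ?_⟩
  rcases Cfsg.Agent.H2.BG13.tau_cases hG hH hq hqH hqσH with h | h | h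
  · exact h.2.2.2.2
  · exact absurd h hqτ2
  · exact h.2.2.2

/-- in the `β`-structure (`C_E(P) ≤ P`), `E = E₃ P` -/
theorem compl_le_sup_of_moves (hG : Cfsg.IsMinSimpleOddOrder G) {M E : Subgroup G}
    (hM : IsCoatom M) (hE : Cfsg.IsComplIn E (Cfsg.sigmaCore M) M)
    (h2 : ∀ q : ℕ, q ∉ Cfsg.tau2 M) {p : ℕ} (hp : p ∈ Cfsg.tau1 M) {P : Subgroup G}
    (hPE : P ≤ E) (hPc : Nat.card ↥P = p)
    (hCE : E ⊓ Subgroup.centralizer (P : Set G) ≤ P) :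
    ∃ E₃ : Subgroup G, Cfsg.IsPiHallOf (Cfsg.tau3 M) E₃ E ∧ IsCyclic ↥E₃ ∧ E₃ ≤ ⁅E, E⁆ ∧
      E ≤ Subgroup.normalizer (E₃ : Set G) ∧ E ≤ E₃ ⊔ P := by
  haveI : Group.IsSolvable ↥E := Cfsg.Agent.H2.BGU.solvable_of_le_coatom hG hM hE.1
  obtain ⟨E₁', hE₁'⟩ := Cfsg.Agent.H1.exists_isPiHallOf (Cfsg.tau1 M) E inferInstance
  have hPπ : Cfsg.Agent.H1.PiNum (Cfsg.tau1 M) (Nat.card ↥P) := by
    intro t ht htd
    rw [hPc] at htd
    rw [(Nat.prime_dvd_prime_iff_eq ht hp.1).mp htd]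
    exact hp
  obtain ⟨g, hgE, hPg⟩ :=
    Cfsg.Agent.H1.isPiHallOf_dominance (Cfsg.tau1 M) E₁' E P inferInstance hE₁' hPE hPπ
  have hE₁ : Cfsg.IsPiHallOf (Cfsg.tau1 M) (cj g E₁') E :=
    Cfsg.Agent.H1.isPiHallOf_map_conj (Cfsg.tau1 M) E₁' E hE₁' g (Subgroup.le_normalizer hgE)
  have hS := Cfsg.Agent.S1415.result hG M hM E hE
  have hE₁cyc : IsCyclic ↥(cj g E₁') := hS.2.1 _ hE₁
  have hE₁P : cj g E₁' = P := by
    apply le_antisymm _ hPg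
    refine le_trans (le_inf hE₁.1 ?_) hCE
    have hc : IsMulCommutative ↥(cj g E₁') := IsCyclic.isMulCommutative
    intro x hx
    rw [Subgroup.mem_centralizer_iff]
    intro y hy
    exact congrArg Subtype.val (hc.is_comm.comm (⟨y, hPg hy⟩ : ↥(cj g E₁')) ⟨x, hx⟩)
  rw [hE₁P] at hE₁
  obtain ⟨E₃, hE₃⟩ := Cfsg.Agent.H1.exists_isPiHallOf (Cfsg.tau3 M) E inferInstance
  obtain ⟨hcyc₃, hE₃', hE₃n⟩ := hS.2.2 E₃ hE₃
  exact ⟨E₃, hE₃, hcyc₃, hE₃', hE₃n, Cfsg.Agent.H2.BG13.compl_le_sup hG hM hE h2 hE₁ hE₃⟩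

/-- a `τ₃(M)`-Hall subgroup `E₃ ≤ E' ≤ H'` of `E ≤ M ∩ H` centralizes `M_σ ∩ H` -/
theorem hall_tau3_le_centralizer (hG : Cfsg.IsMinSimpleOddOrder G) {M H E E₃ : Subgroup G}
    (hM : IsCoatom M) (hH : IsCoatom H) (hncj : ∀ g : G, cj g H ≠ M) (hEM : E ≤ M) (hEH : E ≤ H)
    (hE₃ : Cfsg.IsPiHallOf (Cfsg.tau3 M) E₃ E) (hE₃' : E₃ ≤ ⁅E, E⁆) :
    E₃ ≤ Subgroup.centralizer ((Cfsg.sigmaCore M ⊓ H : Subgroup G) : Set G) := by
  intro a ha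
  apply Cfsg.Agent.H2.BG12.mem_of_primary_parts (orderOf a) a rfl
  intro q hq hqa v hv hvq
  haveI : Fact q.Prime := ⟨hq⟩
  have hvE₃ : Subgroup.zpowers v ≤ E₃ :=
    (Subgroup.zpowers_le).mpr ((Subgroup.zpowers_le.mpr ha) hv)
  by_cases hv1 : Subgroup.zpowers v = ⊥
  · rw [Subgroup.zpowers_eq_bot] at hv1
    rw [hv1]; exact Subgroup.one_mem _
  have hqd : q ∣ Nat.card ↥(Subgroup.zpowers v) := dvd_card_of_pgroup hvq hv1
  have hqτ3 : q ∈ Cfsg.tau3 M := hE₃.2.1 q hq (hqd.trans (Subgroup.card_dvd_of_le hvE₃))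
  have hvH' : Subgroup.zpowers v ≤ ⁅H, H⁆ :=
    hvE₃.trans (hE₃'.trans (Subgroup.commutator_mono hEH hEH))
  have hqτ1 : q ∉ Cfsg.tau1 H := fun h => h.2.2.2.1 (hqd.trans (Subgroup.card_dvd_of_le hvH'))
  have h1 := bg132_b hG hM hH hncj hqτ3.2.1 hqτ1
    (le_inf ((hvE₃.trans hE₃.1).trans hEM) ((hvE₃.trans hE₃.1).trans hEH)) hvq
  exact h1 (Subgroup.mem_zpowers v)

/-- **Lemma B, Case I**: `[C_{M_σ}(R), P] = 1` -/
theorem lemmaB_caseI (hG : Cfsg.IsMinSimpleOddOrder G) (hQ1 : HypQ1 G) {M E : Subgroup G}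
    (hM : IsCoatom M) (hE : Cfsg.IsComplIn E (Cfsg.sigmaCore M) M) {r : ℕ} (hr : r ∈ Cfsg.tau3 M)
    {R : Subgroup G} (hRE : R ≤ E) (hRc : Nat.card ↥R = r)
    (hD : Cfsg.sigmaCore M ⊓ Subgroup.centralizer (R : Set G) ≠ ⊥) {p : ℕ} (hp : p ∈ Cfsg.tau1 M)
    {P : Subgroup G} (hPE : P ≤ E) (hPc : Nat.card ↥P = p)
    (hRP : ¬ R ≤ Subgroup.centralizer (P : Set G))
    (hDP : Cfsg.sigmaCore M ⊓ Subgroup.centralizer (R : Set G) ≤
      Subgroup.centralizer (P : Set G)) : False := by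
  haveI hrf : Fact r.Prime := ⟨hr.1⟩
  haveI hpf : Fact p.Prime := ⟨hp.1⟩
  have hIV := hypIV hG
  have hR1 : R ≠ ⊥ := ne_bot_of_card_prime hr.1 hRc
  have hP1 : P ≠ ⊥ := ne_bot_of_card_prime hp.1 hPc
  have hRM : R ≤ M := hRE.trans hE.1
  have hPM : P ≤ M := hPE.trans hE.1
  have hRt : R ≠ ⊤ := ne_top_of_le_coatom hM hRM
  have hPt : P ≠ ⊤ := ne_top_of_le_coatom hM hPM
  have hRp : IsPGroup r ↥R := isPGroup_of_card_prime hRc
  have hPp : IsPGroup p ↥P := isPGroup_of_card_prime hPc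
  obtain ⟨H, hH, hNH⟩ := exists_coatom_normalizer_le hG hR1 hRt
  have hEH : E ≤ H := (tau3_sub hG hM hE hr hRE hRc).1.trans hNH
  have hRH : R ≤ H := hRE.trans hEH
  have hPH : P ≤ H := hPE.trans hEH
  have hncj := cj_ne_of_normalizer_le hG hH hr.2.1 hr.2.2.2 hRp hR1 hNH
  have hMsH := bg132_a hG hM hH hr.2.1 hr.2.2.2 hRM hRp hR1 hNH
  have hrH : r ∈ Cfsg.sigma H := hIV M hM r R (Or.inr hr) hRM hRc hD H hH hNH
  have hRHσ : R ≤ Cfsg.sigmaCore H := Cfsg.Agent.H2.BG11.le_sigmaCore_of_pgroup hG hH hrH hRH hRp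
  have h2 := no_tau2 hG hM hr hRM hRc hD
  have hCE := compl_inf_centralizer_le_of_moves hG hM hE hr hRE hRc hD hp hPE hPc hRP
  have hN2 := not_centralizer_le_of_moves hG hM hE hr hRE hRc hp.1 hPE hPc hRP
  have hDPne : Cfsg.sigmaCore M ⊓ Subgroup.centralizer (P : Set G) ≠ ⊥ := by
    intro h
    apply hN2
    rw [h]
    exact bot_le
  set D := Cfsg.sigmaCore M ⊓ Subgroup.centralizer (R : Set G) with hDdef
  have hDMs : D ≤ Cfsg.sigmaCore M := inf_le_left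
  have hDH : D ≤ H := hMsH ▸ inf_le_right
  have hDCR : D ≤ Subgroup.centralizer (R : Set G) := inf_le_right
  -- `E ≤ C(D)`
  obtain ⟨E₃, hE₃, hcyc₃, hE₃', hE₃n, hEsup⟩ := compl_le_sup_of_moves hG hM hE h2 hp hPE hPc hCE
  have hE₃D : E₃ ≤ Subgroup.centralizer (D : Set G) := by
    have := hall_tau3_le_centralizer hG hM hH hncj hE.1 hEH hE₃ hE₃'
    rwa [hMsH] at this
  have hPD : P ≤ Subgroup.centralizer (D : Set G) := by
    rw [Subgroup.le_centralizer_iff]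
    exact hDP
  have hED : E ≤ Subgroup.centralizer (D : Set G) := hEsup.trans (sup_le hE₃D hPD)
  -- `M ∩ H ≤ D E`
  have hMH : M ⊓ H ≤ D ⊔ E := by
    rintro m ⟨hmM, hmH⟩
    obtain ⟨a, ha, b, hb, rfl⟩ := hE.2.2.2 m hmM
    have hbH : b ∈ H := by
      have : b = a⁻¹ * (a * b) := by group
      rw [this]
      exact Subgroup.mul_mem _ (Subgroup.inv_mem _ (hEH ha)) hmH
    have hbD : b ∈ D := by
      have : b ∈ Cfsg.sigmaCore M ⊓ H := ⟨hb, hbH⟩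
      rwa [hMsH] at this
    exact Subgroup.mul_mem _ (Subgroup.mem_sup_right ha) (Subgroup.mem_sup_left hbD)
  -- normalizers of subgroups of prime order of `D`
  have hNY : ∀ Y : Subgroup G, Y ≤ D → (Nat.card ↥Y).Prime →
      Subgroup.normalizer (Y : Set G) ≤ M := by
    intro Y hYD hYp
    have hY1 : Y ≠ ⊥ := ne_bot_of_card_prime hYp rfl
    have hYt : Y ≠ ⊤ := ne_top_of_le_coatom hM (hYD.trans (hDMs.trans
      (Cfsg.Agent.H2.BG11.sigmaCore_le M)))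
    obtain ⟨L, hL, hNL⟩ := exists_coatom_normalizer_le hG hY1 hYt
    have := Cfsg.Agent.Lib.Helper8.BG14IV.hypC3 hG M hM E hE r hr R hRE hRc Y hYD hYp L hL hNL
    rwa [this] at hNL
  have hrk : ∀ q : ℕ, q.Prime → q ∣ Nat.card ↥D → Cfsg.PRankLE q 1 ↥H := fun q hq hqD =>
    (pRankLE_one_of_dvd_card hG hM hH hncj hR1 hRHσ hRM hDMs hDH hDCR hq hqD).2.2
  obtain ⟨q, Y, hqτ1, hYD, hYc⟩ :=
    hQ1 hM hH hncj hD hDMs hDH hMsH.le hMH hED hNY hrk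
  have hq : q.Prime := hqτ1.1
  -- `p ∉ σ(H)`
  have hpH : p ∉ Cfsg.sigma H := by
    intro hpH
    obtain ⟨L, hL, hNL⟩ := exists_coatom_normalizer_le hG hP1 hPt
    have hpL : p ∈ Cfsg.sigma L := hIV M hM p P (Or.inl hp) hPM hPc hDPne L hL hNL
    have hLH : L = H := by
      by_contra hne
      obtain ⟨g, hg⟩ := (Cfsg.Agent.S1378.result hG).2 H L hH hL ⟨p, hpH, hpL⟩
      have h1 := (bg1214_c hG hH hL hpH hpL hPp hP1 hPH hne hNL).1 g⁻¹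
      apply h1
      rw [hg]
      exact cj_inv_cj g H
    rw [hLH] at hNL
    have h1 := bg132_a hG hM hH hp.2.1 hp.2.2.2.2 hPM hPp hP1 hNL
    apply hN2
    rw [← h1, hMsH]
  -- `S1428` in `H`
  have hPY : P ≤ Subgroup.normalizer (Y : Set G) := by
    have h1 : P ≤ Subgroup.centralizer (Y : Set G) :=
      hPD.trans (Subgroup.centralizer_le hYD)
    exact h1.trans (Subgroup.centralizer_le_normalizer _)
  have hcopYP : (Nat.card ↥(P ⊔ Y)).Coprime (Nat.card ↥(Cfsg.sigmaCore H)) := by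
    apply Cfsg.Agent.Lib.Helper4.BG1218.coprime_sup_sigmaCore hG hH hPY
    · intro t ht htd
      rw [hPc] at htd
      rw [(Nat.prime_dvd_prime_iff_eq ht hp.1).mp htd]
      exact hpH
    · intro t ht htd
      rw [hYc] at htd
      rw [(Nat.prime_dvd_prime_iff_eq ht hq).mp htd]
      exact hqτ1.2.1
  obtain ⟨EH, hEHc, hYPEH⟩ := exists_compl_ge hG hH (sup_le hPH (hYD.trans hDH)) hcopYP
  have hPEH : P ≤ EH := le_sup_left.trans hYPEH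
  have hYEH : Y ≤ EH := le_sup_right.trans hYPEH
  have hPCY : P ≤ Subgroup.centralizer (Y : Set G) := hPD.trans (Subgroup.centralizer_le hYD)
  have h28 := Cfsg.Agent.S1428.result hG H hH EH hEHc q hqτ1 Y hYEH hYc P (le_inf hPEH hPCY)
    (hPc ▸ hp.1)
  have hRY : R ≤ Cfsg.sigmaCore H ⊓ Subgroup.centralizer (Y : Set G) := by
    refine le_inf hRHσ ?_
    rw [Subgroup.le_centralizer_iff]
    exact hYD.trans hDCR
  exact hRP ((hRY.trans h28).trans inf_le_right)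

/-- **Lemma B** (`β`-kill): a subgroup `P ≤ E` of order `p ∈ τ₁(M)` centralizes every subgroup
`R ≤ E` of order `r ∈ τ₃(M)` with `C_{M_σ}(R) ≠ 1` -/
theorem lemmaB_of (hG : Cfsg.IsMinSimpleOddOrder G) (hSg : HypSigma G) (hQ1 : HypQ1 G)
    {M E : Subgroup G} (hM : IsCoatom M) (hE : Cfsg.IsComplIn E (Cfsg.sigmaCore M) M) {r : ℕ}
    (hr : r ∈ Cfsg.tau3 M) {R : Subgroup G} (hRE : R ≤ E) (hRc : Nat.card ↥R = r)
    (hD : Cfsg.sigmaCore M ⊓ Subgroup.centralizer (R : Set G) ≠ ⊥) {p : ℕ} (hp : p ∈ Cfsg.tau1 M)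
    {P : Subgroup G} (hPE : P ≤ E) (hPc : Nat.card ↥P = p) :
    R ≤ Subgroup.centralizer (P : Set G) := by
  by_contra hRP
  by_cases hDP : Cfsg.sigmaCore M ⊓ Subgroup.centralizer (R : Set G) ≤
      Subgroup.centralizer (P : Set G)
  · exact lemmaB_caseI hG hQ1 hM hE hr hRE hRc hD hp hPE hPc hRP hDP
  · exact lemmaB_caseII hG hSg hM hE hr hRE hRc hD hp hPE hPc hRP hDP

end Cfsg.Agent.Lib.Helper7.BG13
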