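import Mathlib
import Cfsg.Agent.Lib.Helper7.BG13E

/-!
# B&G Section 13 (helper7), part F: the `Σ9`-trick in `C_G(P)`
-/

set_option autoImplicit false
set_option linter.unusedSectionVars false
set_option linter.unusedVariables false
set_option linter.style.haveILetI false
set_option maxHeartbeats 1000000
open Cfsg
open scoped commutatorElement Pointwise

namespace Cfsg.Agent.Lib.Helper7.BG13

open Cfsg.Agent.Lib.Helper7 (IsSylowIn exists_isSylowIn_ge card_subgroupOf_of_le)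
open Cfsg.Agent.Lib.Helper8.BGTen Cfsg.Agent.Lib.Helper4.BGTrans
open Cfsg.Agent.Lib.helper3.BG11 Cfsg.Agent.Lib.helper3.BG12 Cfsg.Agent.Lib.helper3.BG13

universe u

variable {G : Type u} [Group G] [Finite G]

/-- one side of the `Σ9`-trick: a subgroup `B ≤ C_G(P)` normalizing a `C_G(P)`-conjugate of
`X ≤ C_{M_σ}(P)` of prime order has all its prime divisors in `σ(M) ∪ {p}` -/
theorem sigma_side (hG : Cfsg.IsMinSimpleOddOrder G) {M : Subgroup G} (hM : IsCoatom M) {p : ℕ}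
    (hpM : p ∈ Cfsg.tau1 M) {P : Subgroup G} (hPM : P ≤ M) (hPc : Nat.card ↥P = p)
    {X : Subgroup G} {s : ℕ} [hs : Fact s.Prime]
    (hXD : X ≤ Cfsg.sigmaCore M ⊓ Subgroup.centralizer (P : Set G)) (hXc : Nat.card ↥X = s)
    (hCM : M ⊓ Subgroup.centralizer (P : Set G) ≤
      (Cfsg.sigmaCore M ⊓ Subgroup.centralizer (P : Set G)) ⊔ P)
    {B : Subgroup G} (hBC : B ≤ Subgroup.centralizer (P : Set G)) {c : G}
    (hc : c ∈ Subgroup.centralizer (P : Set G))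
    (hBN : B ≤ Subgroup.normalizer (cj c X : Set G)) {t : ℕ} (ht : t.Prime)
    (htB : t ∣ Nat.card ↥B) (htp : t ≠ p) : t ∈ Cfsg.sigma M := by
  have hα := Cfsg.Agent.Lib.Helper4.BG13.alpha_uniq hG hM hpM hPM hPc hXD hXc
  have hX1 : X ≠ ⊥ := ne_bot_of_card_prime hs.out hXc
  have hXM : X ≤ M := hXD.trans (inf_le_left.trans (Cfsg.Agent.H2.BG11.sigmaCore_le M))
  have hXt : X ≠ ⊤ := ne_top_of_le_coatom hM hXM
  have hNX : Subgroup.normalizer (X : Set G) ≤ M := by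
    obtain ⟨L, hL, hNL⟩ := exists_coatom_normalizer_le hG hX1 hXt
    have := hα.2.1.2 L hL ((Subgroup.centralizer_le_normalizer _).trans hNL)
    rwa [this] at hNL
  -- `B' = c⁻¹ B c ≤ M ∩ C(P)`
  have hB'M : cj c⁻¹ B ≤ M := by
    have h1 : B ≤ cj c M := by
      refine hBN.trans ?_
      rw [← cj_normalizer]
      exact cj_mono c hNX
    calc cj c⁻¹ B ≤ cj c⁻¹ (cj c M) := cj_mono _ h1
      _ = M := cj_inv_cj c M
  have hB'C : cj c⁻¹ B ≤ Subgroup.centralizer (P : Set G) := by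
    calc cj c⁻¹ B ≤ cj c⁻¹ (Subgroup.centralizer (P : Set G)) := cj_mono _ hBC
      _ = Subgroup.centralizer (P : Set G) := cj_eq_of_mem (Subgroup.inv_mem _ hc)
  have h1 : Nat.card ↥B ∣ Nat.card ↥((Cfsg.sigmaCore M ⊓ Subgroup.centralizer (P : Set G)) ⊔ P :
      Subgroup G) := by
    rw [← card_cj c⁻¹ B]
    exact Subgroup.card_dvd_of_le ((le_inf hB'M hB'C).trans hCM)
  have h2 : Nat.card ↥((Cfsg.sigmaCore M ⊓ Subgroup.centralizer (P : Set G)) ⊔ P : Subgroup G) ∣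
      Nat.card ↥(Cfsg.sigmaCore M ⊓ Subgroup.centralizer (P : Set G) : Subgroup G) *
        Nat.card ↥P :=
    Cfsg.Agent.Lib.BG127H7.card_sup_dvd_of_le_normalizer
      (inf_le_right.trans (Subgroup.centralizer_le_normalizer _))
  have h3 := (htB.trans h1).trans h2
  rcases (Nat.Prime.dvd_mul ht).mp h3 with h | h
  · exact Cfsg.Agent.H2.BG11.mem_sigma_of_dvd_sigmaCore hG hM ht
      (h.trans (Subgroup.card_dvd_of_le inf_le_left))
  · rw [hPc] at h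
    exact absurd ((Nat.prime_dvd_prime_iff_eq ht hpM.1).mp h) htp

/-- primes of `C_{M_σ}(P)` have rank one in a maximal subgroup `L ⊇ N_G(P)` -/
theorem pRankLE_one_normalizer (hG : Cfsg.IsMinSimpleOddOrder G) {M L : Subgroup G}
    (hM : IsCoatom M) (hL : IsCoatom L) {p : ℕ} (hpM : p ∈ Cfsg.tau1 M) {P : Subgroup G}
    (hPM : P ≤ M) (hPc : Nat.card ↥P = p) (hNL : Subgroup.normalizer (P : Set G) ≤ L)
    (hDM : Cfsg.sigmaCore M ⊓ Subgroup.centralizer (P : Set G) ≠ ⊥) {s : ℕ} (hs : s.Prime)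
    (hsd : s ∣ Nat.card ↥(Cfsg.sigmaCore M ⊓ Subgroup.centralizer (P : Set G) : Subgroup G)) :
    s ∈ Cfsg.sigma M ∧ Cfsg.PRankLE s 1 ↥L := by
  haveI : Fact p.Prime := ⟨hpM.1⟩
  have hP1 : P ≠ ⊥ := ne_bot_of_card_prime hpM.1 hPc
  have hPp : IsPGroup p ↥P := isPGroup_of_card_prime hPc
  have hpL : p ∈ Cfsg.sigma L := hypIV hG M hM p P (Or.inl hpM) hPM hPc hDM L hL hNL
  have hncj : ∀ g : G, cj g L ≠ M := Cfsg.Agent.Lib.Helper4.BG1218.cj_ne_of_sigma hG hpL hpM.2.1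
  have hPL : P ≤ L := Subgroup.le_normalizer.trans hNL
  have hPLσ : P ≤ Cfsg.sigmaCore L := Cfsg.Agent.H2.BG11.le_sigmaCore_of_pgroup hG hL hpL hPL hPp
  have h := pRankLE_one_of_dvd_card hG hM hL hncj hP1 hPLσ hPM
    (D := Cfsg.sigmaCore M ⊓ Subgroup.centralizer (P : Set G)) inf_le_left
    (inf_le_right.trans ((Subgroup.centralizer_le_normalizer _).trans hNL)) inf_le_right hs hsd
  exact ⟨h.1, h.2.2⟩

/-- **the `Σ9`-trick in `C_G(P)`** -/
theorem sigma_trick (hG : Cfsg.IsMinSimpleOddOrder G) {M H : Subgroup G} (hM : IsCoatom M)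
    (hH : IsCoatom H) (hnc : ∀ g : G, cj g H ≠ M) {p : ℕ} (hpM : p ∈ Cfsg.tau1 M)
    (hpH : p ∈ Cfsg.tau1 H) {P : Subgroup G} (hPM : P ≤ M) (hPH : P ≤ H)
    (hPc : Nat.card ↥P = p)
    (hDM : Cfsg.sigmaCore M ⊓ Subgroup.centralizer (P : Set G) ≠ ⊥)
    (hDH : Cfsg.sigmaCore H ⊓ Subgroup.centralizer (P : Set G) ≠ ⊥)
    (hCM : M ⊓ Subgroup.centralizer (P : Set G) ≤
      (Cfsg.sigmaCore M ⊓ Subgroup.centralizer (P : Set G)) ⊔ P)
    (hCH : H ⊓ Subgroup.centralizer (P : Set G) ≤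
      (Cfsg.sigmaCore H ⊓ Subgroup.centralizer (P : Set G)) ⊔ P) : False := by
  haveI : Fact p.Prime := ⟨hpM.1⟩
  have hP1 : P ≠ ⊥ := ne_bot_of_card_prime hpM.1 hPc
  have hPt : P ≠ ⊤ := ne_top_of_le_coatom hM hPM
  obtain ⟨s, hsf, X, hXD, hXc⟩ := Cfsg.Agent.Lib.Helper4.BG13.exists_prime_card_le hDM
  obtain ⟨s', hs'f, X', hX'D, hX'c⟩ := Cfsg.Agent.Lib.Helper4.BG13.exists_prime_card_le hDH
  have hs : s.Prime := hsf.out
  have hs' : s'.Prime := hs'f.out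
  obtain ⟨L, hL, hNL⟩ := exists_coatom_normalizer_le hG hP1 hPt
  have hCL : Subgroup.centralizer (P : Set G) ≤ L := (Subgroup.centralizer_le_normalizer _).trans hNL
  have hsd : s ∣ Nat.card ↥(Cfsg.sigmaCore M ⊓ Subgroup.centralizer (P : Set G) : Subgroup G) :=
    hXc ▸ Subgroup.card_dvd_of_le hXD
  have hs'd : s' ∣ Nat.card ↥(Cfsg.sigmaCore H ⊓ Subgroup.centralizer (P : Set G) : Subgroup G) :=
    hX'c ▸ Subgroup.card_dvd_of_le hX'D
  obtain ⟨hsσ, hsrk⟩ := pRankLE_one_normalizer hG hM hL hpM hPM hPc hNL hDM hs hsd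
  obtain ⟨hs'σ, hs'rk⟩ := pRankLE_one_normalizer hG hH hL hpH hPH hPc hNL hDH hs' hs'd
  have hpart : ∀ t : ℕ, t ∈ Cfsg.sigma M → t ∈ Cfsg.sigma H → False := by
    intro t htM htH
    obtain ⟨g, hg⟩ := (Cfsg.Agent.S1378.result hG).2 M H hM hH ⟨t, htM, htH⟩
    have h1 : cj g⁻¹ H = M := by rw [hg]; exact cj_inv_cj g M
    exact hnc g⁻¹ h1
  have hsp : s ≠ p := fun h => hpM.2.1 (h ▸ hsσ)
  have hs'p : s' ≠ p := fun h => hpH.2.1 (h ▸ hs'σ)
  -- Sylow subgroups of `C = C_G(P)` are cyclic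
  set C := Subgroup.centralizer (P : Set G) with hC
  haveI hsolv : Group.IsSolvable ↥C :=
    Cfsg.Agent.H2.BGU.solvable_of_le_coatom hG hL hCL
  obtain ⟨S₀⟩ : Nonempty (Sylow s ↥C) := inferInstance
  have hS : IsSylowIn s ((S₀ : Subgroup ↥C).map C.subtype) C := IsSylowIn.of_sylow S₀
  have hSc : IsCyclic ↥((S₀ : Subgroup ↥C).map C.subtype) :=
    Cfsg.Agent.Lib.Helper4.BGTw.isCyclic_of_pRankLE_one hG hsrk (hS.1.trans hCL) hS.isPGroup
  obtain ⟨S₀'⟩ : Nonempty (Sylow s' ↥C) := inferInstance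
  have hS' : IsSylowIn s' ((S₀' : Subgroup ↥C).map C.subtype) C := IsSylowIn.of_sylow S₀'
  have hSc' : IsCyclic ↥((S₀' : Subgroup ↥C).map C.subtype) :=
    Cfsg.Agent.Lib.Helper4.BGTw.isCyclic_of_pRankLE_one hG hs'rk (hS'.1.trans hCL) hS'.isPGroup
  obtain ⟨B, hBC, c, hcC, hsB, hs'B, hBN, -⟩ :=
    exists_hall_normalizes hsolv (hXD.trans inf_le_right) (hX'D.trans inf_le_right) hXc hX'c
      hS hSc hS' hSc'
  rcases hBN with hBN | hBN
  · exact hpart s' (sigma_side hG hM hpM hPM hPc hXD hXc hCM hBC hcC hBN hs' hs'B hs'p) hs'σ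
  · exact hpart s hsσ (sigma_side hG hH hpH hPH hPc hX'D hX'c hCH hBC hcC hBN hs hsB hsp)

/-- `HypSigma` holds -/
theorem hypSigma (hG : Cfsg.IsMinSimpleOddOrder G) : HypSigma G :=
  fun hM hH hnc _ hpM hpH _ hPM hPH hPc hDM hDH hCM hCH =>
    sigma_trick hG hM hH hnc hpM hpH hPM hPH hPc hDM hDH hCM hCH

end Cfsg.Agent.Lib.Helper7.BG13
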