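import Mathlib
import Cfsg.Agent.Lib.Helper7.BG13F

/-!
# B&G Section 13 (helper7), part G: Theorem T (a complement containing a `τ₃`-element with fixed
points acts in a prime manner on `M_σ`)
-/

set_option autoImplicit false
set_option linter.unusedSectionVars false
set_option linter.unusedVariables false
set_option linter.style.haveILetI false
set_option maxHeartbeats 1000000
open Cfsg
open scoped commutatorElement Pointwise

namespace Cfsg.Agent.Lib.Helper7.BG13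

open Cfsg.Agent.Lib.Helper7 (IsSylowIn exists_isSylowIn_ge card_subgroupOf_of_le)
open Cfsg.Agent.Lib.Helper8.BGTen Cfsg.Agent.Lib.Helper4.BGTrans
open Cfsg.Agent.Lib.helper3.BG11 Cfsg.Agent.Lib.helper3.BG12 Cfsg.Agent.Lib.helper3.BG13

universe u

variable {G : Type u} [Group G] [Finite G]

/-- **Theorem T, step (i)**: `E` centralizes `D = C_{M_σ}(R)` -/
theorem compl_le_centralizer_of (hG : Cfsg.IsMinSimpleOddOrder G) (hQ1 : HypQ1 G)
    {M E : Subgroup G} (hM : IsCoatom M) (hE : Cfsg.IsComplIn E (Cfsg.sigmaCore M) M) {r : ℕ}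
    (hr : r ∈ Cfsg.tau3 M) {R : Subgroup G} (hRE : R ≤ E) (hRc : Nat.card ↥R = r)
    (hD : Cfsg.sigmaCore M ⊓ Subgroup.centralizer (R : Set G) ≠ ⊥) :
    E ≤ Subgroup.centralizer
      ((Cfsg.sigmaCore M ⊓ Subgroup.centralizer (R : Set G) : Subgroup G) : Set G) := by
  by_contra hED
  haveI hrf : Fact r.Prime := ⟨hr.1⟩
  have hSg : HypSigma G := hypSigma hG
  have h2 := no_tau2 hG hM hr (hRE.trans hE.1) hRc hD
  have hR1 : R ≠ ⊥ := ne_bot_of_card_prime hr.1 hRc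
  have hRM : R ≤ M := hRE.trans hE.1
  have hRt : R ≠ ⊤ := ne_top_of_le_coatom hM hRM
  have hRp : IsPGroup r ↥R := isPGroup_of_card_prime hRc
  obtain ⟨H, hH, hNH⟩ := exists_coatom_normalizer_le hG hR1 hRt
  have hEH : E ≤ H := (tau3_sub hG hM hE hr hRE hRc).1.trans hNH
  have hncj := cj_ne_of_normalizer_le hG hH hr.2.1 hr.2.2.2 hRp hR1 hNH
  have hMsH := bg132_a hG hM hH hr.2.1 hr.2.2.2 hRM hRp hR1 hNH
  haveI : Group.IsSolvable ↥E := Cfsg.Agent.H2.BGU.solvable_of_le_coatom hG hM hE.1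
  obtain ⟨E₁, hE₁⟩ := Cfsg.Agent.H1.exists_isPiHallOf (Cfsg.tau1 M) E inferInstance
  obtain ⟨E₃, hE₃⟩ := Cfsg.Agent.H1.exists_isPiHallOf (Cfsg.tau3 M) E inferInstance
  obtain ⟨hcyc₃, hE₃', hE₃n⟩ := (Cfsg.Agent.S1415.result hG M hM E hE).2.2 E₃ hE₃
  have hEsup : E ≤ E₃ ⊔ E₁ := Cfsg.Agent.H2.BG13.compl_le_sup hG hM hE h2 hE₁ hE₃
  have hE₃D : E₃ ≤ Subgroup.centralizer
      ((Cfsg.sigmaCore M ⊓ Subgroup.centralizer (R : Set G) : Subgroup G) : Set G) := by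
    have := hall_tau3_le_centralizer hG hM hH hncj hE.1 hEH hE₃ hE₃'
    rwa [hMsH] at this
  have hE₁D : ¬ E₁ ≤ Subgroup.centralizer
      ((Cfsg.sigmaCore M ⊓ Subgroup.centralizer (R : Set G) : Subgroup G) : Set G) :=
    fun h => hED (hEsup.trans (sup_le hE₃D h))
  have hE₁1 : E₁ ≠ ⊥ := by
    intro h
    apply hE₁D
    rw [h]
    exact bot_le
  obtain ⟨p, hpf, P, hPE₁, hPc⟩ := Cfsg.Agent.Lib.Helper4.BG13.exists_prime_card_le hE₁1
  have hp : p ∈ Cfsg.tau1 M := hE₁.2.1 p hpf.out (hPc ▸ Subgroup.card_dvd_of_le hPE₁)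
  have hPE : P ≤ E := hPE₁.trans hE₁.1
  have hF7 := tau1_hall_prime_action hG hM hE hE₁
  have hDP : ¬ Cfsg.sigmaCore M ⊓ Subgroup.centralizer (R : Set G) ≤
      Subgroup.centralizer (P : Set G) := by
    intro h
    apply hE₁D
    obtain ⟨x, hxP, hx1⟩ := Cfsg.Agent.Lib.BG127H7.exists_ne_one_of_card_prime hpf.out hPc
    have h1 : Cfsg.sigmaCore M ⊓ Subgroup.centralizer (R : Set G) ≤
        Cfsg.sigmaCore M ⊓ Subgroup.centralizer (E₁ : Set G) := by
      rw [← hF7 x (hPE₁ hxP) hx1, centralizer_singleton_of_prime_card hpf.out hPc hxP hx1]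
      exact le_inf inf_le_left h
    rw [Subgroup.le_centralizer_iff]
    exact h1.trans inf_le_right
  obtain ⟨H', EH, X, q, hH', hncj', hPH', hEHc, hqτ3, hXEH, hXc, hD', hpH', hPEH, hXP⟩ :=
    exists_dual hG hM hE hr hRE hRc hD hp hPE hPc hDP
  exact hXP (lemmaB_of hG hSg hQ1 hH' hEHc hqτ3 hXEH hXc hD' hpH' hPEH hPc)

/-- **Theorem T** -/
theorem theoremT_of (hG : Cfsg.IsMinSimpleOddOrder G) (hQ1 : HypQ1 G)
    {M E : Subgroup G} (hM : IsCoatom M) (hE : Cfsg.IsComplIn E (Cfsg.sigmaCore M) M) {r : ℕ}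
    (hr : r ∈ Cfsg.tau3 M) {R : Subgroup G} (hRE : R ≤ E) (hRc : Nat.card ↥R = r)
    (hD : Cfsg.sigmaCore M ⊓ Subgroup.centralizer (R : Set G) ≠ ⊥) :
    (∀ q : ℕ, q ∉ Cfsg.tau2 M) ∧ ∀ e ∈ E, e ≠ 1 →
      Cfsg.sigmaCore M ⊓ Subgroup.centralizer ({e} : Set G) =
        Cfsg.sigmaCore M ⊓ Subgroup.centralizer (E : Set G) := by
  have hSg : HypSigma G := hypSigma hG
  have h2 := no_tau2 hG hM hr (hRE.trans hE.1) hRc hD
  refine ⟨h2, ?_⟩
  have hED := compl_le_centralizer_of hG hQ1 hM hE hr hRE hRc hD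
  have hDE : Cfsg.sigmaCore M ⊓ Subgroup.centralizer (E : Set G) =
      Cfsg.sigmaCore M ⊓ Subgroup.centralizer (R : Set G) := by
    apply le_antisymm (inf_le_inf_left _ (Subgroup.centralizer_le hRE))
    refine le_inf inf_le_left ?_
    rwa [Subgroup.le_centralizer_iff] at hED
  intro e heE he1
  rw [hDE]
  apply le_antisymm
  · have hz0 : Subgroup.zpowers e ≠ ⊥ := fun h => he1 (Subgroup.zpowers_eq_bot.mp h)
    obtain ⟨t, htf, Z₀, hZ₀z, hZ₀c⟩ := Cfsg.Agent.Lib.Helper4.BG13.exists_prime_card_le hz0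
    have ht : t.Prime := htf.out
    have hZ₀E : Z₀ ≤ E := hZ₀z.trans ((Subgroup.zpowers_le).mpr heE)
    have h1 : Cfsg.sigmaCore M ⊓ Subgroup.centralizer ({e} : Set G) ≤
        Cfsg.sigmaCore M ⊓ Subgroup.centralizer (Z₀ : Set G) := by
      refine inf_le_inf_left _ ?_
      intro g hg
      have hge : g * e = e * g := Subgroup.mem_centralizer_singleton_iff.mp hg
      rw [Subgroup.mem_centralizer_iff]
      intro y hy
      obtain ⟨n, rfl⟩ := Subgroup.mem_zpowers_iff.mp (hZ₀z hy)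
      exact ((Commute.zpow_right (show Commute g e from hge) n).eq).symm
    refine h1.trans ?_
    have htE : t ∣ Nat.card ↥E := hZ₀c ▸ Subgroup.card_dvd_of_le hZ₀E
    have htσ : t ∉ Cfsg.sigma M := Cfsg.Agent.H2.BG12.not_mem_sigma_of_dvd_compl hG hM hE ht htE
    rcases Cfsg.Agent.H2.BG13.tau_cases hG hM ht (htE.trans (Subgroup.card_dvd_of_le hE.1)) htσ
      with h | h | h
    · exact centralizer_le_of_commute hG hM hE hRE (hRc ▸ hr.1) h hZ₀E hZ₀c
        (lemmaB_of hG hSg hQ1 hM hE hr hRE hRc hD h hZ₀E hZ₀c)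
    · exact absurd h (h2 t)
    · exact (tau3_centralizer_eq hG hM hE hr hRE hRc hD h hZ₀E hZ₀c).le
  · rw [← hDE]
    exact inf_le_inf_left _ (Subgroup.centralizer_le (Set.singleton_subset_iff.mpr heE))

end Cfsg.Agent.Lib.Helper7.BG13
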