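import Mathlib
import Cfsg.Prelude.Def_Amalgam
import Cfsg.Agent.Lib.Helper7.Core

set_option autoImplicit false

namespace Cfsg.Agent.Lib.Helper7

open Cfsg

variable {X : Type*} [Group X]

theorem pCoreOf_le_of_sylow_card {p : ℕ} [Fact p.Prime] (A B C : Subgroup X) [Finite A]
    (hCA : C ≤ A) (hCB : C ≤ B)
    (h : ∀ S : Sylow p ↥C, ∀ P : Sylow p ↥A, Nat.card S = Nat.card P) : pCoreOf p A ≤ B := by
  obtain ⟨S⟩ : Nonempty (Sylow p ↥C) := inferInstance
  obtain ⟨P⟩ : Nonempty (Sylow p ↥A) := inferInstance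
  set S' : Subgroup ↥A := (S : Subgroup ↥C).map (Subgroup.inclusion hCA) with hS'
  have hS'p : IsPGroup p ↥S' := S.2.map _
  have hcard : Nat.card ↥S' = p ^ (Nat.card ↥A).factorization p := by
    rw [hS', Subgroup.card_map_of_injective (Subgroup.inclusion_injective hCA), h S P,
      P.card_eq_multiplicity]
  have h1 : pCore p ↥A ≤ S' := pCore_le_sylow (Sylow.ofCard S' hcard)
  rintro _ ⟨a, ha, rfl⟩
  obtain ⟨c, -, hc⟩ := h1 ha
  rw [← hc]
  exact hCB c.2

theorem pCoreOf_map_equiv {p : ℕ} (A : Subgroup X) (φ : X ≃* X) :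
    pCoreOf p (A.map φ.toMonoidHom) = (pCoreOf p A).map φ.toMonoidHom := by
  unfold pCoreOf
  rw [← pCore_map_equiv (A.equivMapOfInjective φ.toMonoidHom φ.injective), Subgroup.map_map,
    Subgroup.map_map]
  congr 1

theorem stabilizer_quotient_mk (A : Subgroup X) (x : X) :
    MulAction.stabilizer X (x : X ⧸ A) = A.map (MulAut.conj x).toMonoidHom := by
  ext g
  rw [MulAction.mem_stabilizer_iff, MulAction.Quotient.smul_mk, QuotientGroup.eq]
  constructor
  · intro hg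
    refine ⟨x⁻¹ * g * x, ?_, by simp [mul_assoc]⟩
    have := A.inv_mem hg
    simpa [mul_assoc] using this
  · rintro ⟨a, ha, rfl⟩
    have : (MulAut.conj x a * x)⁻¹ * x = a⁻¹ := by simp [mul_assoc]
    show ((MulAut.conj x).toMonoidHom a • x)⁻¹ * x ∈ A
    simp only [MulEquiv.toMonoidHom_eq_coe, MonoidHom.coe_coe, smul_eq_mul]
    rw [this]; exact A.inv_mem ha

theorem vertexQ_le_neighbourKernel {p : ℕ} [Fact p.Prime] (M₁ M₂ : Subgroup X)
    (h : Cfsg.IsCharPAmalgamPair p M₁ M₂) (δ : Cfsg.CosetVertex M₁ M₂) :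
    Cfsg.vertexQ p δ ≤ Cfsg.neighbourKernel δ := by
  obtain ⟨-, hf1, hf2, -, -, hS, -, -⟩ := h
  haveI := hf1
  haveI := hf2
  have key1 : pCoreOf p M₁ ≤ M₂ :=
    pCoreOf_le_of_sylow_card M₁ M₂ (M₁ ⊓ M₂) inf_le_left inf_le_right (fun S P => (hS S P default).1)
  have key2 : pCoreOf p M₂ ≤ M₁ :=
    pCoreOf_le_of_sylow_card M₂ M₁ (M₁ ⊓ M₂) inf_le_right inf_le_left (fun S P => (hS S default P).2)
  have hinl : ∀ a : X ⧸ M₁, MulAction.stabilizer X (Sum.inl a : CosetVertex M₁ M₂) =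
      MulAction.stabilizer X a := by
    intro a; ext g; simp [MulAction.mem_stabilizer_iff]
  have hinr : ∀ a : X ⧸ M₂, MulAction.stabilizer X (Sum.inr a : CosetVertex M₁ M₂) =
      MulAction.stabilizer X a := by
    intro a; ext g; simp [MulAction.mem_stabilizer_iff]
  unfold neighbourKernel
  refine le_inf (Subgroup.map_subtype_le _) ?_
  refine le_iInf₂ (fun μ hμ => ?_)
  have hadj : (cosetGraph M₁ M₂).Adj δ μ := hμ
  unfold cosetGraph at hadj
  rw [SimpleGraph.fromRel_adj] at hadj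
  obtain ⟨-, ⟨x, rfl, rfl⟩ | ⟨x, rfl, rfl⟩⟩ := hadj
  · show pCoreOf p (MulAction.stabilizer X (Sum.inl (x : X ⧸ M₁) : CosetVertex M₁ M₂)) ≤ _
    rw [hinl, hinr, stabilizer_quotient_mk, stabilizer_quotient_mk, pCoreOf_map_equiv]
    exact Subgroup.map_mono key1
  · show pCoreOf p (MulAction.stabilizer X (Sum.inr (x : X ⧸ M₂) : CosetVertex M₁ M₂)) ≤ _
    rw [hinl, hinr, stabilizer_quotient_mk, stabilizer_quotient_mk, pCoreOf_map_equiv]
    exact Subgroup.map_mono key2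

end Cfsg.Agent.Lib.Helper7
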