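import Mathlib
import Cfsg.Prelude.Def_Amalgam
import Cfsg.Agent.H7.CosetGraph
import Cfsg.Agent.Lib.Helper7.AmalgamBasic
import Cfsg.Agent.Lib.Helper7.PReduced2
import Cfsg.Agent.Lib.Helper7.PReduced3
import Cfsg.Agent.Lib.Helper7.CharP
import Cfsg.Agent.Lib.Helper7.SylowLib
import Cfsg.Agent.Lib.Lead.Conj

set_option autoImplicit false

namespace Cfsg.Agent.Lib.Helper7

open Cfsg Cfsg.Agent.H7

section graph

theorem exists_adj_dist_eq {V : Type*} {G : SimpleGraph V} (hconn : G.Connected) {a b : V} {n : ℕ}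
    (h : G.dist a b = n + 1) : ∃ c, G.Adj a c ∧ G.dist c b = n := by
  obtain ⟨w, hw⟩ := (hconn a b).exists_walk_length_eq_dist
  rw [h] at hw
  cases w with
  | nil => simp at hw
  | @cons _ c _ hadj w' =>
    refine ⟨c, hadj, ?_⟩
    rw [SimpleGraph.Walk.length_cons] at hw
    have h1 : G.dist c b ≤ w'.length := SimpleGraph.dist_le w'
    have h2 : G.dist a b ≤ G.dist a c + G.dist c b := hconn.dist_triangle
    have h3 : G.dist a c = 1 := SimpleGraph.dist_eq_one_iff_adj.mpr hadj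
    omega

end graph

variable {X : Type*} [Group X] {p : ℕ} [Fact p.Prime] (M₁ M₂ : Subgroup X)

theorem vertex_cases (δ : CosetVertex M₁ M₂) :
    ∃ x : X, δ = Sum.inl (x : X ⧸ M₁) ∨ δ = Sum.inr (x : X ⧸ M₂) := by
  rcases δ with a | a
  · induction a using QuotientGroup.induction_on with
    | H x => exact ⟨x, Or.inl rfl⟩
  · induction a using QuotientGroup.induction_on with
    | H x => exact ⟨x, Or.inr rfl⟩

theorem stabilizer_equiv (δ : CosetVertex M₁ M₂) :
    Nonempty (↥M₁ ≃* ↥(MulAction.stabilizer X δ)) ∨ Nonempty (↥M₂ ≃* ↥(MulAction.stabilizer X δ)) := by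
  obtain ⟨x, rfl | rfl⟩ := vertex_cases M₁ M₂ δ
  · left
    rw [cg_stabilizer_inl]
    exact ⟨M₁.equivMapOfInjective _ (MulAut.conj x).injective⟩
  · right
    rw [cg_stabilizer_inr]
    exact ⟨M₂.equivMapOfInjective _ (MulAut.conj x).injective⟩

variable {M₁ M₂}

theorem stabilizer_finite (h : IsCharPAmalgamPair p M₁ M₂) (δ : CosetVertex M₁ M₂) :
    Finite ↥(MulAction.stabilizer X δ) := by
  obtain ⟨-, hf1, hf2, -⟩ := h
  rcases stabilizer_equiv M₁ M₂ δ with ⟨⟨e⟩⟩ | ⟨⟨e⟩⟩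
  · exact Finite.of_equiv _ e.toEquiv
  · exact Finite.of_equiv _ e.toEquiv

theorem stabilizer_isCharP (h : IsCharPAmalgamPair p M₁ M₂) (δ : CosetVertex M₁ M₂) :
    IsCharP p ↥(MulAction.stabilizer X δ) := by
  obtain ⟨-, -, -, -, -, -, hc1, hc2⟩ := h
  rcases stabilizer_equiv M₁ M₂ δ with ⟨⟨e⟩⟩ | ⟨⟨e⟩⟩
  · exact IsCharP.of_equiv e hc1
  · exact IsCharP.of_equiv e hc2

theorem vertexZ_le_vertexQ (h : IsCharPAmalgamPair p M₁ M₂) (δ : CosetVertex M₁ M₂) :
    vertexZ p δ ≤ vertexQ p δ := by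
  show sylowCenterClosure p (MulAction.stabilizer X δ) ≤ pCoreOf p (MulAction.stabilizer X δ)
  rw [sylowCenterClosure_eq_map]
  unfold pCoreOf
  apply Subgroup.map_mono
  intro z hz
  exact (zClosure_le_omegaCenterPCore (stabilizer_isCharP h δ) hz).1.1

theorem vertexZ_le_neighbourKernel (h : IsCharPAmalgamPair p M₁ M₂) (δ : CosetVertex M₁ M₂) :
    vertexZ p δ ≤ neighbourKernel δ :=
  (vertexZ_le_vertexQ h δ).trans (vertexQ_le_neighbourKernel M₁ M₂ h δ)

theorem stabilizer_le_normalizer_vertexZ (δ : CosetVertex M₁ M₂) :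
    MulAction.stabilizer X δ ≤ Subgroup.normalizer ((vertexZ p δ : Subgroup X) : Set X) := by
  show MulAction.stabilizer X δ ≤
    Subgroup.normalizer ((sylowCenterClosure p (MulAction.stabilizer X δ) : Subgroup X) : Set X)
  rw [sylowCenterClosure_eq_map]
  haveI : (zClosure p ↥(MulAction.stabilizer X δ)).Normal := zClosure_normal
  exact le_normalizer_map_subtype_of_normal _ _

theorem neighbourKernel_le_of_adj {δ μ : CosetVertex M₁ M₂} (hadj : (cosetGraph M₁ M₂).Adj δ μ) :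
    neighbourKernel δ ≤ MulAction.stabilizer X μ := by
  unfold neighbourKernel
  exact inf_le_right.trans (iInf₂_le μ hadj)

theorem vertexZ_le_of_dist_lt {δ μ : CosetVertex M₁ M₂}
    (hlt : (cosetGraph M₁ M₂).dist δ μ < criticalDistance p M₁ M₂) :
    vertexZ p δ ≤ neighbourKernel μ := by
  by_contra hnot
  have hmem : (cosetGraph M₁ M₂).dist δ μ ∈ {n : ℕ | ∃ δ μ : CosetVertex M₁ M₂,
      (cosetGraph M₁ M₂).dist δ μ = n ∧ ¬ vertexZ p δ ≤ neighbourKernel μ} := ⟨δ, μ, rfl, hnot⟩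
  exact absurd (Nat.sInf_le hmem) (not_le.mpr hlt)

theorem criticalDistance_pos (h : IsCharPAmalgamPair p M₁ M₂) {α α' : CosetVertex M₁ M₂}
    (hc : IsCriticalPair p α α') : ∃ n : ℕ, criticalDistance p M₁ M₂ = n + 1 := by
  have hconn := cg_connected M₁ M₂ h.1.1
  apply Nat.exists_eq_succ_of_ne_zero
  intro h0
  have h1 := hc.2
  rw [h0, hconn.dist_eq_zero_iff] at h1
  apply hc.1
  rw [← h1]
  exact vertexZ_le_neighbourKernel h α

/-- S2747 -/
theorem critical_pair_mutual (h : IsCharPAmalgamPair p M₁ M₂) (α α' : CosetVertex M₁ M₂)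
    (hc : IsCriticalPair p α α') :
    vertexZ p α' ≤ MulAction.stabilizer X α ∧ vertexZ p α ≤ MulAction.stabilizer X α' ∧
    ⁅vertexZ p α, vertexZ p α'⁆ ≤ vertexZ p α ⊓ vertexZ p α' := by
  have hconn := cg_connected M₁ M₂ h.1.1
  obtain ⟨n, hn⟩ := criticalDistance_pos h hc
  have hd : (cosetGraph M₁ M₂).dist α α' = n + 1 := by rw [hc.2, hn]
  have hd' : (cosetGraph M₁ M₂).dist α' α = n + 1 := by rw [SimpleGraph.dist_comm, hd]
  have h1 : vertexZ p α' ≤ MulAction.stabilizer X α := by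
    obtain ⟨c, hadj, hdc⟩ := exists_adj_dist_eq hconn hd
    have hlt : (cosetGraph M₁ M₂).dist α' c < criticalDistance p M₁ M₂ := by
      rw [SimpleGraph.dist_comm, hdc, hn]; exact Nat.lt_succ_self n
    exact (vertexZ_le_of_dist_lt hlt).trans (neighbourKernel_le_of_adj hadj.symm)
  have h2 : vertexZ p α ≤ MulAction.stabilizer X α' := by
    obtain ⟨c, hadj, hdc⟩ := exists_adj_dist_eq hconn hd'
    have hlt : (cosetGraph M₁ M₂).dist α c < criticalDistance p M₁ M₂ := by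
      rw [SimpleGraph.dist_comm, hdc, hn]; exact Nat.lt_succ_self n
    exact (vertexZ_le_of_dist_lt hlt).trans (neighbourKernel_le_of_adj hadj.symm)
  refine ⟨h1, h2, le_inf ?_ ?_⟩
  · exact Subgroup.le_normalizer_iff_commutator_le_left.mp
      (h1.trans (stabilizer_le_normalizer_vertexZ α))
  · exact Subgroup.le_normalizer_iff_commutator_le_right.mp
      (h2.trans (stabilizer_le_normalizer_vertexZ α'))

end Cfsg.Agent.Lib.Helper7
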