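import Mathlib
import Cfsg.Prelude.Def_Amalgam
import Cfsg.Agent.Lib.Helper7.AmalgamCritical

set_option autoImplicit false

namespace Cfsg.Agent.Lib.Helper7

open Cfsg Cfsg.Agent.H7
open scoped Pointwise

section sylowin

variable {G : Type*} [Group G] {p : ℕ} [Fact p.Prime]

/-- conjugacy of Sylow subgroups of a finite subgroup of a possibly infinite group -/
theorem IsSylowIn.conj' {P Q H : Subgroup G} [Finite ↥H] (hP : IsSylowIn p P H)
    (hQ : IsSylowIn p Q H) : ∃ h ∈ H, Q = P.map (MulAut.conj h).toMonoidHom := by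
  obtain ⟨RP, hRP⟩ := hP.exists_sylow
  obtain ⟨RQ, hRQ⟩ := hQ.exists_sylow
  obtain ⟨h, hh⟩ := MulAction.exists_smul_eq ↥H RP RQ
  refine ⟨h, h.2, ?_⟩
  have e : ((h • RP : Sylow p ↥H) : Subgroup ↥H) = (RQ : Subgroup ↥H) := by rw [hh]
  rw [Sylow.coe_subgroup_smul, hRP, hRQ] at e
  ext x
  constructor
  · intro hx
    have hxH : x ∈ H := hQ.1 hx
    have : (⟨x, hxH⟩ : ↥H) ∈ Q.subgroupOf H := Subgroup.mem_subgroupOf.mpr hx
    rw [← e] at this
    obtain ⟨y, hy, hyx⟩ := this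
    refine ⟨y, Subgroup.mem_subgroupOf.mp hy, ?_⟩
    have := congrArg Subtype.val hyx
    simpa [MulAut.conj_apply] using this
  · rintro ⟨y, hy, rfl⟩
    have hyH : y ∈ H := hP.1 hy
    have h1 : (MulAut.conj h • (⟨y, hyH⟩ : ↥H)) ∈ MulAut.conj h • P.subgroupOf H :=
      Subgroup.smul_mem_pointwise_smul _ _ _ (Subgroup.mem_subgroupOf.mpr hy)
    rw [e] at h1
    have := Subgroup.mem_subgroupOf.mp h1
    simpa [MulAut.conj_apply] using this

theorem IsSylowIn.exists_sylow_map {P H : Subgroup G} [Finite ↥H] (hP : IsSylowIn p P H) :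
    ∃ R : Sylow p ↥H, (R : Subgroup ↥H).map H.subtype = P := by
  obtain ⟨R, hR⟩ := hP.exists_sylow
  exact ⟨R, by rw [hR, Subgroup.map_subgroupOf_eq_of_le hP.1]⟩

theorem IsSylowIn.of_le_of_factorization {P H K : Subgroup G} (hP : IsSylowIn p P H) (hHK : H ≤ K)
    (hf : (Nat.card ↥H).factorization p = (Nat.card ↥K).factorization p) : IsSylowIn p P K :=
  ⟨hP.1.trans hHK, by rw [hP.2, hf]⟩

end sylowin

variable {X : Type*} [Group X] {p : ℕ} [Fact p.Prime] {M₁ M₂ : Subgroup X}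

theorem card_map_conj' (H : Subgroup X) (x : X) :
    Nat.card ↥(H.map (MulAut.conj x).toMonoidHom) = Nat.card ↥H :=
  Nat.card_congr (H.equivMapOfInjective _ (MulAut.conj x).injective).symm.toEquiv

theorem edgeStabilizer_eq_of_adj {δ μ : CosetVertex M₁ M₂} (hadj : (cosetGraph M₁ M₂).Adj δ μ) :
    ∃ x : X, edgeStabilizer δ μ = (M₁ ⊓ M₂).map (MulAut.conj x).toMonoidHom ∧
      ((MulAction.stabilizer X δ = M₁.map (MulAut.conj x).toMonoidHom ∧
          MulAction.stabilizer X μ = M₂.map (MulAut.conj x).toMonoidHom) ∨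
        (MulAction.stabilizer X δ = M₂.map (MulAut.conj x).toMonoidHom ∧
          MulAction.stabilizer X μ = M₁.map (MulAut.conj x).toMonoidHom)) := by
  rw [cg_adj_iff] at hadj
  obtain ⟨x, ⟨rfl, rfl⟩ | ⟨rfl, rfl⟩⟩ := hadj
  · refine ⟨x, ?_, Or.inl ⟨cg_stabilizer_inl M₁ M₂ x, cg_stabilizer_inr M₁ M₂ x⟩⟩
    show MulAction.stabilizer X _ ⊓ MulAction.stabilizer X _ = _
    rw [cg_stabilizer_inl, cg_stabilizer_inr, Subgroup.map_inf _ _ _ (MulAut.conj x).injective]
  · refine ⟨x, ?_, Or.inr ⟨cg_stabilizer_inr M₁ M₂ x, cg_stabilizer_inl M₁ M₂ x⟩⟩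
    show MulAction.stabilizer X _ ⊓ MulAction.stabilizer X _ = _
    rw [cg_stabilizer_inl, cg_stabilizer_inr, Subgroup.map_inf _ _ _ (MulAut.conj x).injective,
      inf_comm]

theorem factorization_eq_of_pair (h : IsCharPAmalgamPair p M₁ M₂) :
    (Nat.card ↥(M₁ ⊓ M₂)).factorization p = (Nat.card ↥M₁).factorization p ∧
    (Nat.card ↥(M₁ ⊓ M₂)).factorization p = (Nat.card ↥M₂).factorization p := by
  have hp : p.Prime := Fact.out
  obtain ⟨-, hf1, hf2, -, -, hS, -, -⟩ := h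
  haveI := hf1
  haveI := hf2
  haveI : Finite ↥(M₁ ⊓ M₂) := Finite.of_injective _ (Subgroup.inclusion_injective (inf_le_left : M₁ ⊓ M₂ ≤ M₁))
  obtain ⟨S⟩ : Nonempty (Sylow p ↥(M₁ ⊓ M₂)) := inferInstance
  obtain ⟨P₁⟩ : Nonempty (Sylow p ↥M₁) := inferInstance
  obtain ⟨P₂⟩ : Nonempty (Sylow p ↥M₂) := inferInstance
  obtain ⟨h1, h2⟩ := hS S P₁ P₂
  rw [S.card_eq_multiplicity, P₁.card_eq_multiplicity] at h1
  rw [S.card_eq_multiplicity, P₂.card_eq_multiplicity] at h2
  exact ⟨Nat.pow_right_injective hp.two_le h1, Nat.pow_right_injective hp.two_le h2⟩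

theorem factorization_edge (h : IsCharPAmalgamPair p M₁ M₂) {δ μ : CosetVertex M₁ M₂}
    (hadj : (cosetGraph M₁ M₂).Adj δ μ) :
    (Nat.card ↥(edgeStabilizer δ μ)).factorization p =
      (Nat.card ↥(MulAction.stabilizer X δ)).factorization p ∧
    (Nat.card ↥(edgeStabilizer δ μ)).factorization p =
      (Nat.card ↥(MulAction.stabilizer X μ)).factorization p := by
  obtain ⟨h1, h2⟩ := factorization_eq_of_pair h
  obtain ⟨x, he, ⟨hδ, hμ⟩ | ⟨hδ, hμ⟩⟩ := edgeStabilizer_eq_of_adj hadj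
  · rw [he, hδ, hμ, card_map_conj', card_map_conj', card_map_conj']; exact ⟨h1, h2⟩
  · rw [he, hδ, hμ, card_map_conj', card_map_conj', card_map_conj']; exact ⟨h2, h1⟩

theorem omegaCenter_le_vertexZ (h : IsCharPAmalgamPair p M₁ M₂) {δ : CosetVertex M₁ M₂}
    {T : Subgroup X} (hT : IsSylowIn p T (MulAction.stabilizer X δ)) :
    omegaOne p (T ⊓ Subgroup.centralizer (T : Set X)) ≤ vertexZ p δ := by
  haveI := stabilizer_finite h δ
  obtain ⟨R, hR⟩ := hT.exists_sylow_map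
  show _ ≤ sylowCenterClosure p (MulAction.stabilizer X δ)
  unfold sylowCenterClosure
  rw [← hR]
  exact le_iSup_of_le R le_rfl

/-- if `Z_α = Ω₁(Z(T))` for a Sylow subgroup `T` of `G_α` then `Z_α ≤ Z_c` for each neighbour `c` -/
theorem vertexZ_le_vertexZ_of_eq (h : IsCharPAmalgamPair p M₁ M₂) {α c : CosetVertex M₁ M₂}
    (hadj : (cosetGraph M₁ M₂).Adj α c) {T : Subgroup X}
    (hT : IsSylowIn p T (MulAction.stabilizer X α))
    (heq : vertexZ p α = omegaOne p (T ⊓ Subgroup.centralizer (T : Set X))) :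
    vertexZ p α ≤ vertexZ p c := by
  haveI := stabilizer_finite h α
  haveI := stabilizer_finite h c
  haveI : Finite ↥(edgeStabilizer α c) :=
    Finite.of_injective _ (Subgroup.inclusion_injective (inf_le_left : edgeStabilizer α c ≤ _))
  obtain ⟨R⟩ : Nonempty (Sylow p ↥(edgeStabilizer α c)) := inferInstance
  have hTe := IsSylowIn.of_sylow R
  obtain ⟨hf1, hf2⟩ := factorization_edge h hadj
  have hTeα := hTe.of_le_of_factorization inf_le_left hf1
  have hTec := hTe.of_le_of_factorization inf_le_right hf2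
  obtain ⟨g, hg, hconj⟩ := hT.conj' hTeα
  have h1 := omegaCenter_le_vertexZ h hTec
  rw [hconj, omegaOne_center_map (MulAut.conj g).toMonoidHom (MulAut.conj g).injective, ← heq] at h1
  have h2 : (vertexZ p α).map (MulAut.conj g).toMonoidHom = vertexZ p α :=
    Subgroup.mem_normalizer_iff_map_conj_eq.mp (stabilizer_le_normalizer_vertexZ α hg)
  rw [h2] at h1
  exact h1

/-- S2748 -/
theorem critical_pair_z_ne (h : IsCharPAmalgamPair p M₁ M₂) (α α' : CosetVertex M₁ M₂)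
    (hc : IsCriticalPair p α α') (S : Sylow p ↥(MulAction.stabilizer X α)) (T : Subgroup X)
    (hT : T = (S : Subgroup ↥(MulAction.stabilizer X α)).map (MulAction.stabilizer X α).subtype) :
    vertexZ p α ≠ omegaOne p (T ⊓ Subgroup.centralizer (T : Set X)) := by
  intro heq
  haveI := stabilizer_finite h α
  have hconn := cg_connected M₁ M₂ h.1.1
  obtain ⟨n, hn⟩ := criticalDistance_pos h hc
  have hd : (cosetGraph M₁ M₂).dist α α' = n + 1 := by rw [hc.2, hn]
  obtain ⟨c, hadj, hdc⟩ := exists_adj_dist_eq hconn hd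
  have hTs : IsSylowIn p T (MulAction.stabilizer X α) := by rw [hT]; exact IsSylowIn.of_sylow S
  have h1 := vertexZ_le_vertexZ_of_eq h hadj hTs heq
  have hlt : (cosetGraph M₁ M₂).dist c α' < criticalDistance p M₁ M₂ := by
    rw [hdc, hn]; exact Nat.lt_succ_self n
  exact hc.1 (h1.trans (vertexZ_le_of_dist_lt hlt))

end Cfsg.Agent.Lib.Helper7
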