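import Mathlib
import Cfsg.Agent.Lib.Helper7.BG13H
import Cfsg.Agent.H1.BG14A
import Cfsg.Agent.H2.BG12.G
import Cfsg.Agent.H2.BG12.C
import Cfsg.Agent.S1420

/-!
# B&G Section 14 (helper7), part PA: the configuration `PData` (`M` of type `𝒫₂`: `K ≠ 1 ≠ U`)
and first consequences (lead's blueprint Part 18).
-/

set_option autoImplicit false
set_option linter.unusedSectionVars false
set_option linter.unusedVariables false
set_option linter.style.haveILetI false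
set_option maxHeartbeats 1000000
open Cfsg
open scoped commutatorElement Pointwise

namespace Cfsg.Agent.Lib.Helper7.BG14P

open Cfsg.Agent.Lib.Helper7 (IsSylowIn exists_isSylowIn_ge card_subgroupOf_of_le)
open Cfsg.Agent.Lib.Helper8.BGTen Cfsg.Agent.Lib.Helper4.BGTrans
open Cfsg.Agent.Lib.helper3.BG11 Cfsg.Agent.Lib.helper3.BG12 Cfsg.Agent.Lib.helper3.BG13
open Cfsg.Agent.Lib.Helper7.BG13

universe u

variable {G : Type u} [Group G] [Finite G]

/-- elements of `U ⊔ K` are products `u * k` when `K` normalizes `U` -/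
theorem exists_mul_of_mem_sup {U K : Subgroup G} (hKU : K ≤ Subgroup.normalizer (U : Set G))
    {x : G} (hx : x ∈ U ⊔ K) : ∃ u ∈ U, ∃ k ∈ K, x = u * k := by
  have hUn : U ≤ Subgroup.normalizer (U : Set G) := Subgroup.le_normalizer
  have hx' : (⟨x, (sup_le hUn hKU) hx⟩ : ↥(Subgroup.normalizer (U : Set G))) ∈
      U.subgroupOf (Subgroup.normalizer (U : Set G)) ⊔
        K.subgroupOf (Subgroup.normalizer (U : Set G)) := by
    rw [← Subgroup.subgroupOf_sup hUn hKU]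
    exact Subgroup.mem_subgroupOf.mpr hx
  obtain ⟨a, ha, b, hb, hab⟩ := (Subgroup.mem_sup_of_normal_left).mp hx'
  exact ⟨a, ha, b, hb, (congrArg Subtype.val hab).symm⟩

/-- primes dividing `|K|` are not in `σ(M)` -/
theorem K_inf_sigmaCore (hG : Cfsg.IsMinSimpleOddOrder G) {M K U : Subgroup G} (hM : IsCoatom M)
    (h : Cfsg.IsSigmaDecomposition M K U) : K ⊓ Cfsg.sigmaCore M = ⊥ := by
  apply (Subgroup.disjoint_of_coprime_natCard ?_).eq_bot
  apply Nat.coprime_of_dvd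
  intro q hq hd1 hd2
  exact (h.hall.2.1 q hq hd1).2.2.1 (Cfsg.Agent.H2.BG11.mem_sigma_of_dvd_sigmaCore hG hM hq hd2)

/-- `U ⊔ K` is a complement of `M_σ` in `M` -/
theorem sup_compl (hG : Cfsg.IsMinSimpleOddOrder G) {M K U : Subgroup G} (hM : IsCoatom M)
    (h : Cfsg.IsSigmaDecomposition M K U) : Cfsg.IsComplIn (U ⊔ K) (Cfsg.sigmaCore M) M := by
  have hUM : U ≤ M := h.compl.1
  have hKM : K ≤ M := h.hall.1
  have hσM := Cfsg.Agent.H2.BG11.sigmaCore_le M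
  have hKσ := K_inf_sigmaCore hG hM h
  have hKnσ : K ≤ Subgroup.normalizer (Cfsg.sigmaCore M : Set G) :=
    hKM.trans (Cfsg.Agent.H2.BG11.le_normalizer_sigmaCore M)
  refine ⟨sup_le hUM hKM, hσM, ?_, ?_⟩
  · rw [Subgroup.eq_bot_iff_forall]
    rintro x ⟨hx1, hx2⟩
    obtain ⟨u, hu, k, hk, rfl⟩ := exists_mul_of_mem_sup h.normal hx1
    have hu' : u ∈ U ⊓ (K ⊔ Cfsg.sigmaCore M) := by
      refine ⟨hu, ?_⟩
      have : u = (u * k) * k⁻¹ := by group
      rw [this, sup_comm]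
      exact Subgroup.mul_mem _ (Subgroup.mem_sup_left hx2) (Subgroup.mem_sup_right (K.inv_mem hk))
    rw [h.compl.2.2.1, Subgroup.mem_bot] at hu'
    subst hu'
    rw [one_mul] at hx2 ⊢
    have : k ∈ K ⊓ Cfsg.sigmaCore M := ⟨hk, hx2⟩
    rwa [hKσ, Subgroup.mem_bot] at this
  · intro m hm
    obtain ⟨u, hu, b, hb, rfl⟩ := h.compl.2.2.2 m hm
    rw [sup_comm] at hb
    obtain ⟨s, hs, k, hk, rfl⟩ := exists_mul_of_mem_sup hKnσ hb
    -- u * (s * k) = (u * k) * (k⁻¹ * s * k)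
    refine ⟨u * k, Subgroup.mul_mem _ (Subgroup.mem_sup_left hu) (Subgroup.mem_sup_right hk),
      k⁻¹ * s * k⁻¹⁻¹, ?_, by group⟩
    exact (Subgroup.mem_normalizer_iff.mp (hKnσ (K.inv_mem hk)) s).mp hs

/-- the configuration of B&G 14.7–14.10: `M = M_σ U K` with `K ≠ 1 ≠ U`, and the partner `M*` -/
structure PData (M K U Ms : Subgroup G) : Prop where
  coatomM : IsCoatom M
  dec : Cfsg.IsSigmaDecomposition M K U
  Kprime : (Nat.card ↥K).Prime
  U1 : U ≠ ⊥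
  Uab : ∀ a ∈ U, ∀ b ∈ U, a * b = b * a
  reg : ∀ k ∈ K, k ≠ 1 → U ⊓ Subgroup.centralizer ({k} : Set G) = ⊥
  nil : Group.IsNilpotent ↥(Cfsg.sigmaCore M)
  coatom : IsCoatom Ms
  KMs : K ≤ Cfsg.sigmaCore Ms
  uniq : ∀ L : Subgroup G, IsCoatom L → Subgroup.centralizer (K : Set G) ≤ L → L = Ms
  inter : M ⊓ Ms = K ⊔ (Cfsg.sigmaCore M ⊓ Subgroup.centralizer (K : Set G))
  ti : ∀ g : G, g ∉ Ms → K ⊓ cj g Ms = ⊥
  two : ∀ H : Subgroup G, IsCoatom H → (Cfsg.kappa H).Nonempty →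
    ∃ g : G, H = cj g M ∨ H = cj g Ms
  KsHall : Cfsg.IsPiHallOf (Cfsg.kappa Ms)
    (Cfsg.sigmaCore M ⊓ Subgroup.centralizer (K : Set G)) Ms
  uniqM : ∀ X : Subgroup G, X ≤ Cfsg.sigmaCore M ⊓ Subgroup.centralizer (K : Set G) →
    (Nat.card ↥X).Prime → Subgroup.centralizer (X : Set G) ≤ M

section pdata

variable {M K U Ms : Subgroup G}

theorem PData.UM (h : PData M K U Ms) : U ≤ M := h.dec.compl.1

theorem PData.KM (h : PData M K U Ms) : K ≤ M := h.dec.hall.1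

theorem PData.K1 (h : PData M K U Ms) : K ≠ ⊥ := ne_bot_of_card_prime h.Kprime rfl

theorem PData.Kt (h : PData M K U Ms) : K ≠ ⊤ := ne_top_of_le_coatom h.coatomM h.KM

/-- `N_G(K) ≤ M*` -/
theorem PData.normalizer_le (hG : Cfsg.IsMinSimpleOddOrder G) (h : PData M K U Ms) :
    Subgroup.normalizer (K : Set G) ≤ Ms := by
  obtain ⟨L, hL, hNL⟩ := exists_coatom_normalizer_le hG h.K1 h.Kt
  have := h.uniq L hL ((Subgroup.centralizer_le_normalizer _).trans hNL)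
  rwa [this] at hNL

/-- `C_G(K) ≤ M*` -/
theorem PData.centralizer_le (hG : Cfsg.IsMinSimpleOddOrder G) (h : PData M K U Ms) :
    Subgroup.centralizer (K : Set G) ≤ Ms :=
  (Subgroup.centralizer_le_normalizer _).trans (h.normalizer_le hG)

theorem PData.KMs' (h : PData M K U Ms) : K ≤ Ms :=
  h.KMs.trans (Cfsg.Agent.H2.BG11.sigmaCore_le Ms)

/-- `p = |K| ∈ σ(M*)` -/
theorem PData.p_mem_sigma (hG : Cfsg.IsMinSimpleOddOrder G) (h : PData M K U Ms) :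
    Nat.card ↥K ∈ Cfsg.sigma Ms :=
  Cfsg.Agent.H2.BG11.mem_sigma_of_dvd_sigmaCore hG h.coatom h.Kprime
    (Subgroup.card_dvd_of_le h.KMs)

/-- a subgroup of `U` contained in `M*` is trivial -/
theorem PData.eq_bot_of_le (h : PData M K U Ms) {X : Subgroup G} (hXU : X ≤ U) (hX : X ≤ Ms) :
    X = ⊥ := by
  have h1 : X ≤ U ⊓ (K ⊔ Cfsg.sigmaCore M) := by
    refine le_inf hXU ?_
    have : X ≤ M ⊓ Ms := le_inf (hXU.trans h.UM) hX
    rw [h.inter] at this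
    exact this.trans (sup_le_sup_left inf_le_left K)
  rw [h.dec.compl.2.2.1] at h1
  exact le_bot_iff.mp h1

/-- a coatom containing `K` and conjugate to `M*` is `M*` -/
theorem PData.eq_of_cj (h : PData M K U Ms) {H : Subgroup G} (hKH : K ≤ H) {g : G}
    (hg : H = cj g Ms) : H = Ms := by
  by_cases hgM : g ∈ Ms
  · rw [hg]; exact cj_eq_of_mem hgM
  · exfalso
    have := h.ti g hgM
    rw [← hg, inf_eq_left.mpr hKH] at this
    exact h.K1 this

/-- `|K ⊔ M_σ|` is prime to every `r ∉ σ(M) ∪ κ(M)` -/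
theorem not_dvd_card_sup (hG : Cfsg.IsMinSimpleOddOrder G) (hM : IsCoatom M)
    (hd : Cfsg.IsSigmaDecomposition M K U) {r : ℕ} (hr : r.Prime) (hrσ : r ∉ Cfsg.sigma M)
    (hrκ : r ∉ Cfsg.kappa M) : ¬ r ∣ Nat.card ↥(K ⊔ Cfsg.sigmaCore M) := by
  intro hdv
  have hKnσ : K ≤ Subgroup.normalizer (Cfsg.sigmaCore M : Set G) :=
    hd.hall.1.trans (Cfsg.Agent.H2.BG11.le_normalizer_sigmaCore M)
  have h1 := Cfsg.Agent.H1.card_sup_mul_card_inf K (Cfsg.sigmaCore M) hKnσ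
  have h2 : r ∣ Nat.card ↥K * Nat.card ↥(Cfsg.sigmaCore M) := by
    rw [← h1]; exact Dvd.dvd.mul_right hdv _
  rcases (Nat.Prime.dvd_mul hr).mp h2 with h3 | h3
  · exact hrκ (hd.hall.2.1 r hr h3)
  · exact hrσ (Cfsg.Agent.H2.BG11.mem_sigma_of_dvd_sigmaCore hG hM hr h3)

/-- a Sylow `r`-subgroup of `U` is a Sylow `r`-subgroup of `M` -/
theorem sylowIn_M (hG : Cfsg.IsMinSimpleOddOrder G) (hM : IsCoatom M)
    (hd : Cfsg.IsSigmaDecomposition M K U) {r : ℕ} [hr : Fact r.Prime] {R : Subgroup G}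
    (hR : IsSylowIn r R U) (hrU : r ∣ Nat.card ↥U) : IsSylowIn r R M := by
  refine ⟨hR.1.trans hd.compl.1, ?_⟩
  rw [hR.2, Cfsg.Agent.Lib.BG127H7.card_of_isComplIn hd.compl,
    Nat.factorization_mul Nat.card_pos.ne' Nat.card_pos.ne']
  have h0 : (Nat.card ↥(K ⊔ Cfsg.sigmaCore M)).factorization r = 0 :=
    Nat.factorization_eq_zero_of_not_dvd
      (not_dvd_card_sup hG hM hd hr.out
        (Cfsg.Agent.H2.BG12.not_mem_sigma_of_dvd_U hG hM hd hr.out hrU)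
        (Cfsg.Agent.H2.BG12.not_mem_kappa_of_dvd_U hd hr.out hrU))
  simp [h0]

/-- in an abelian group the Sylow `r`-subgroup is unique -/
theorem sylowIn_unique_of_comm {r : ℕ} [hr : Fact r.Prime] {R R' X : Subgroup G}
    (hX : ∀ a ∈ X, ∀ b ∈ X, a * b = b * a) (hR : IsSylowIn r R X) (hR' : IsSylowIn r R' X) :
    R' = R := by
  obtain ⟨x, hx, rfl⟩ := hR.conj hR'
  apply cj_eq_of_mem_centralizer
  rw [Subgroup.mem_centralizer_iff]
  intro z hz
  exact hX z (hR.1 hz) x hx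

section sylow

variable {r : ℕ} [hr : Fact r.Prime] {R : Subgroup G}

theorem dvd_card_of_sylowIn_ne_bot {X : Subgroup G} (hR : IsSylowIn r R X) (hR1 : R ≠ ⊥) :
    r ∣ Nat.card ↥X := by
  by_contra hnd
  apply hR1
  have := hR.2
  rw [Nat.factorization_eq_zero_of_not_dvd hnd, pow_zero] at this
  exact Subgroup.card_eq_one.mp this

/-- `K` normalizes the Sylow `r`-subgroup `R` of `U` -/
theorem PData.K_le_normalizer (h : PData M K U Ms) (hR : IsSylowIn r R U) :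
    K ≤ Subgroup.normalizer (R : Set G) := by
  intro k hk
  have h1 : IsSylowIn r (cj k R) (cj k U) := sylIn_cj hR k
  rw [cj_eq_of_mem_normalizer (h.dec.normal hk)] at h1
  exact mem_normalizer_of_cj_eq (sylowIn_unique_of_comm h.Uab hR h1)

theorem PData.U_le_centralizer (h : PData M K U Ms) {X : Subgroup G} (hX : X ≤ U) :
    U ≤ Subgroup.centralizer (X : Set G) := by
  intro u hu
  rw [Subgroup.mem_centralizer_iff]
  intro z hz
  exact h.Uab z (hX hz) u hu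

theorem PData.U_le_normalizer (h : PData M K U Ms) {X : Subgroup G} (hX : X ≤ U) :
    U ≤ Subgroup.normalizer (X : Set G) :=
  (h.U_le_centralizer hX).trans (Subgroup.centralizer_le_normalizer _)

theorem PData.not_mem_sigma (hG : Cfsg.IsMinSimpleOddOrder G) (h : PData M K U Ms)
    (hrU : r ∣ Nat.card ↥U) : r ∉ Cfsg.sigma M :=
  Cfsg.Agent.H2.BG12.not_mem_sigma_of_dvd_U hG h.coatomM h.dec hr.out hrU

theorem PData.not_mem_kappa (h : PData M K U Ms) (hrU : r ∣ Nat.card ↥U) : r ∉ Cfsg.kappa M :=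
  Cfsg.Agent.H2.BG12.not_mem_kappa_of_dvd_U h.dec hr.out hrU

end sylow

end pdata

section rank

variable {M : Subgroup G} {r : ℕ} [hr : Fact r.Prime] {R : Subgroup G}

/-- a nontrivial `r`-group contains a subgroup of order `r` -/
theorem exists_card_eq_le_of_pgroup (hRp : IsPGroup r ↥R) (hR1 : R ≠ ⊥) :
    ∃ X : Subgroup G, X ≤ R ∧ Nat.card ↥X = r := by
  obtain ⟨q, hq, X, hXR, hXc⟩ := Cfsg.Agent.Lib.Helper4.BG13.exists_prime_card_le hR1
  refine ⟨X, hXR, ?_⟩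
  obtain ⟨n, hn⟩ := hRp.exists_card_eq
  have h1 : q ∣ r ^ n := by rw [← hn, ← hXc]; exact Subgroup.card_dvd_of_le hXR
  rw [hXc]
  exact (Nat.prime_dvd_prime_iff_eq hq.out hr.out).mp (hq.out.dvd_of_dvd_pow h1)

/-- the dichotomy for a Sylow `r`-subgroup `R` of `M`, `r ∉ σ(M)`: either `r ∈ τ₂(M)` and `R`
contains an elementary abelian subgroup of order `r²`, or `M` has `r`-rank one -/
theorem sq_or_rank_one (hG : Cfsg.IsMinSimpleOddOrder G) (hM : IsCoatom M)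
    (hR : IsSylowIn r R M) (hrM : r ∣ Nat.card ↥M) (hrσ : r ∉ Cfsg.sigma M) :
    (r ∈ Cfsg.tau2 M ∧ ∃ A : Subgroup G, A ≤ R ∧ Cfsg.IsElementaryAbelian r A ∧
      Nat.card ↥A = r ^ 2) ∨ Cfsg.PRankLE r 1 ↥M := by
  by_cases h1 : Cfsg.PRankLE r 1 ↥M
  · exact Or.inr h1
  · left
    have hτ : r ∈ Cfsg.tau2 M := by
      rcases Cfsg.Agent.H2.BG13.tau_cases hG hM hr.out hrM hrσ with h | h | h
      · exact absurd h.2.2.2.2 h1
      · exact h
      · exact absurd h.2.2.2 h1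
    refine ⟨hτ, ?_⟩
    obtain ⟨A, hAM, hAe, hAc⟩ := Cfsg.Agent.Lib.Helper4.BG12.exists_elementary_sq h1
    have hAp : IsPGroup r ↥A := Cfsg.Agent.Lib.Helper4.BGTrans.isPGroup_of_elementary hAe
    obtain ⟨S, hS, hAS⟩ := exists_isSylowIn_ge hAp hAM
    obtain ⟨m, hm, rfl⟩ := hS.conj hR
    refine ⟨cj m A, cj_mono m hAS, Cfsg.Agent.H2.BG12.isElementaryAbelian_cj hAe m, ?_⟩
    rw [card_cj, hAc]

/-- **(C0)** `C_{M_σ}(R) = 1` for a nontrivial Sylow `r`-subgroup `R` of `M`, `r ∉ σ(M) ∪ κ(M)` -/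
theorem sigmaCore_inf_centralizer_eq_bot (hG : Cfsg.IsMinSimpleOddOrder G) (hM : IsCoatom M)
    (hR : IsSylowIn r R M) (hR1 : R ≠ ⊥) (hrσ : r ∉ Cfsg.sigma M) (hrκ : r ∉ Cfsg.kappa M) :
    Cfsg.sigmaCore M ⊓ Subgroup.centralizer (R : Set G) = ⊥ := by
  have hrM := dvd_card_of_sylowIn_ne_bot hR hR1
  rcases sq_or_rank_one hG hM hR hrM hrσ with ⟨hτ, A, hAR, hAe, hAc⟩ | h1
  · have h17 := Cfsg.Agent.S1417.result hG M hM r hτ A ⟨hAR.trans hR.1, hAe, hAc⟩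
    have := h17.2.2.2.1
    apply le_bot_iff.mp
    rw [← this]
    exact inf_le_inf_left _ (Subgroup.centralizer_le (by exact_mod_cast hAR))
  · obtain ⟨X, hXR, hXc⟩ := exists_card_eq_le_of_pgroup hR.isPGroup hR1
    by_contra hne
    apply hrκ
    apply Cfsg.Agent.Lib.Helper4.BG14.mem_kappa_of_fixed hG hrσ h1 (hXR.trans hR.1) hXc
    intro h0
    apply hne
    apply le_bot_iff.mp
    rw [← h0]
    exact inf_le_inf_left _ (Subgroup.centralizer_le (by exact_mod_cast hXR))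

end rank

section main

variable {M K U Ms H : Subgroup G} {r : ℕ} [hr : Fact r.Prime] {R : Subgroup G}

/-- `UK ≤ N_G(R) ≤ H` -/
theorem PData.UK_le (h : PData M K U Ms) (hR : IsSylowIn r R U)
    (hNR : Subgroup.normalizer (R : Set G) ≤ H) : U ⊔ K ≤ H :=
  (sup_le (h.U_le_normalizer hR.1) (h.K_le_normalizer hR)).trans hNR

/-- `H` is not conjugate to `M` -/
theorem PData.ne_cj_M (hG : Cfsg.IsMinSimpleOddOrder G) (h : PData M K U Ms)
    (hR : IsSylowIn r R U) (hR1 : R ≠ ⊥) (hNR : Subgroup.normalizer (R : Set G) ≤ H) :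
    ∀ g : G, H ≠ cj g M := by
  intro g hg
  have hrU := dvd_card_of_sylowIn_ne_bot hR hR1
  have hRM := sylowIn_M hG h.coatomM h.dec hR hrU
  have hRH : IsSylowIn r R H := by
    refine ⟨Subgroup.le_normalizer.trans hNR, ?_⟩
    rw [hRM.2, hg, card_cj]
  have h1 : r ∈ Cfsg.sigma H := mem_sigma_of_sylIn hRH hR1 hNR
  rw [hg, Cfsg.Agent.H2.BG11.sigma_cj] at h1
  exact h.not_mem_sigma hG hrU h1

/-- `H` is not conjugate to `M*` -/
theorem PData.ne_cj_Ms (h : PData M K U Ms)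
    (hR : IsSylowIn r R U) (hR1 : R ≠ ⊥) (hNR : Subgroup.normalizer (R : Set G) ≤ H) :
    ∀ g : G, H ≠ cj g Ms := by
  intro g hg
  have hHMs := h.eq_of_cj ((le_sup_right).trans (h.UK_le hR hNR)) hg
  apply hR1
  apply h.eq_bot_of_le hR.1
  rw [← hHMs]
  exact Subgroup.le_normalizer.trans hNR

theorem PData.ne_M (hG : Cfsg.IsMinSimpleOddOrder G) (h : PData M K U Ms)
    (hR : IsSylowIn r R U) (hR1 : R ≠ ⊥) (hNR : Subgroup.normalizer (R : Set G) ≤ H) :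
    H ≠ M := fun e => h.ne_cj_M hG hR hR1 hNR 1 (by rw [cj_one]; exact e)

theorem PData.ne_Ms (h : PData M K U Ms)
    (hR : IsSylowIn r R U) (hR1 : R ≠ ⊥) (hNR : Subgroup.normalizer (R : Set G) ≤ H) :
    H ≠ Ms := fun e => h.ne_cj_Ms hR hR1 hNR 1 (by rw [cj_one]; exact e)

/-- **(1)** `κ(H) = ∅` -/
theorem PData.kappa_eq_empty (hG : Cfsg.IsMinSimpleOddOrder G) (h : PData M K U Ms)
    (hR : IsSylowIn r R U) (hR1 : R ≠ ⊥) (hH : IsCoatom H)
    (hNR : Subgroup.normalizer (R : Set G) ≤ H) : Cfsg.kappa H = ∅ := by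
  by_contra hne
  obtain ⟨g, hg | hg⟩ := h.two H hH (Set.nonempty_iff_ne_empty.mpr hne)
  · exact h.ne_cj_M hG hR hR1 hNR g hg
  · exact h.ne_cj_Ms hR hR1 hNR g hg

/-- `σ(H) ∩ σ(M) = ∅` -/
theorem PData.sigma_disjoint_M (hG : Cfsg.IsMinSimpleOddOrder G) (h : PData M K U Ms)
    (hR : IsSylowIn r R U) (hR1 : R ≠ ⊥) (hH : IsCoatom H)
    (hNR : Subgroup.normalizer (R : Set G) ≤ H) {q : ℕ} (hq : q ∈ Cfsg.sigma H) :
    q ∉ Cfsg.sigma M := by
  intro hqM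
  obtain ⟨g, hg⟩ := (Cfsg.Agent.S1378.result hG).2 M H h.coatomM hH ⟨q, hqM, hq⟩
  exact h.ne_cj_M hG hR hR1 hNR g hg

/-- `σ(H) ∩ σ(M*) = ∅` -/
theorem PData.sigma_disjoint_Ms (hG : Cfsg.IsMinSimpleOddOrder G) (h : PData M K U Ms)
    (hR : IsSylowIn r R U) (hR1 : R ≠ ⊥) (hH : IsCoatom H)
    (hNR : Subgroup.normalizer (R : Set G) ≤ H) {q : ℕ} (hq : q ∈ Cfsg.sigma H) :
    q ∉ Cfsg.sigma Ms := by
  intro hqM
  obtain ⟨g, hg⟩ := (Cfsg.Agent.S1378.result hG).2 Ms H h.coatom hH ⟨q, hqM, hq⟩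
  exact h.ne_cj_Ms hR hR1 hNR g hg

/-- `p = |K| ∉ σ(H)` -/
theorem PData.p_not_mem_sigma (hG : Cfsg.IsMinSimpleOddOrder G) (h : PData M K U Ms)
    (hR : IsSylowIn r R U) (hR1 : R ≠ ⊥) (hH : IsCoatom H)
    (hNR : Subgroup.normalizer (R : Set G) ≤ H) : Nat.card ↥K ∉ Cfsg.sigma H :=
  fun hp => h.sigma_disjoint_Ms hG hR hR1 hH hNR hp (h.p_mem_sigma hG)

end main

end Cfsg.Agent.Lib.Helper7.BG14P
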