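import Mathlib
import Cfsg.Agent.Lib.Helper7.BG14PA

/-!
# B&G Section 14 (helper7), part PB: Step 1 of lead's blueprint Part 18: `r ∈ σ(H)`.
-/

set_option autoImplicit false
set_option linter.unusedSectionVars false
set_option linter.unusedVariables false
set_option linter.style.haveILetI false
set_option maxHeartbeats 1000000
open Cfsg
open scoped commutatorElement Pointwise

namespace Cfsg.Agent.Lib.Helper7.BG14P

open Cfsg.Agent.Lib.Helper7 (IsSylowIn exists_isSylowIn_ge card_subgroupOf_of_le)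
open Cfsg.Agent.Lib.Helper8.BGTen Cfsg.Agent.Lib.Helper4.BGTrans
open Cfsg.Agent.Lib.helper3.BG11 Cfsg.Agent.Lib.helper3.BG12 Cfsg.Agent.Lib.helper3.BG13
open Cfsg.Agent.Lib.Helper7.BG13

universe u

variable {G : Type u} [Group G] [Finite G]

/-- a Frobenius group `K₀ ⋊ E₀` acting coprimely on a solvable group `Q` with `C_Q(E₀) = 1`:
the kernel `K₀` centralizes `Q` -/
theorem le_centralizer_of_frobenius (K₀ E₀ Q : Subgroup G) (hK1 : K₀ ≠ ⊥) (hE1 : E₀ ≠ ⊥)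
    (hKE : K₀ ⊓ E₀ = ⊥) (hEK : E₀ ≤ Subgroup.normalizer (K₀ : Set G))
    (hfrob : ∀ r ∈ E₀, r ≠ 1 → K₀ ⊓ Subgroup.centralizer ({r} : Set G) = ⊥)
    (hQs : Group.IsSolvable ↥Q) (hKQ : K₀ ≤ Subgroup.normalizer (Q : Set G))
    (hEQ : E₀ ≤ Subgroup.normalizer (Q : Set G))
    (hcop : (Nat.card ↥(K₀ ⊔ E₀)).Coprime (Nat.card ↥Q))
    (hfix : Q ⊓ Subgroup.centralizer (E₀ : Set G) = ⊥) :
    Q ≤ Subgroup.centralizer (K₀ : Set G) := by
  have hf := frobenius_formula K₀ E₀ Q hK1 hE1 hKE hEK hfrob hQs hKQ hEQ hcop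
  have h1 : Q ⊓ (Subgroup.centralizer (K₀ : Set G) ⊓ Subgroup.centralizer (E₀ : Set G)) = ⊥ := by
    apply le_bot_iff.mp
    rw [← hfix]
    exact inf_le_inf_left _ inf_le_right
  rw [h1, hfix, Subgroup.card_bot, one_pow, one_mul, one_mul] at hf
  have h2 : Q ⊓ Subgroup.centralizer (K₀ : Set G) = Q :=
    Subgroup.eq_of_le_of_card_ge inf_le_left hf.le
  rw [← h2]
  exact inf_le_right

/-- a `σ(H)'`-group has order prime to `|H_σ|` -/
theorem coprime_sigmaCore_of_forall (hG : Cfsg.IsMinSimpleOddOrder G) {H : Subgroup G}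
    (hH : IsCoatom H) {Y : Subgroup G}
    (hY : ∀ q : ℕ, q.Prime → q ∣ Nat.card ↥Y → q ∉ Cfsg.sigma H) :
    (Nat.card ↥Y).Coprime (Nat.card ↥(Cfsg.sigmaCore H)) := by
  apply Nat.coprime_of_dvd
  intro q hq hd1 hd2
  exact hY q hq hd1 (Cfsg.Agent.H2.BG11.mem_sigma_of_dvd_sigmaCore hG hH hq hd2)

/-- an elementary abelian subgroup of order `p²` inside a given complement, `p ∈ τ₂(H)` -/
theorem exists_elementary_sq_le_compl (hG : Cfsg.IsMinSimpleOddOrder G) {H E : Subgroup G}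
    (hH : IsCoatom H) (hE : Cfsg.IsComplIn E (Cfsg.sigmaCore H) H) {p : ℕ} [hp : Fact p.Prime]
    (hpτ : p ∈ Cfsg.tau2 H) :
    ∃ A : Subgroup G, A ≤ E ∧ Cfsg.IsElementaryAbelian p A ∧ Nat.card ↥A = p ^ 2 := by
  obtain ⟨A0, hA0H, hA0e, hA0c⟩ := Cfsg.Agent.Lib.Helper4.BG12.exists_elementary_sq hpτ.2.2.2
  have hcop : (Nat.card ↥A0).Coprime (Nat.card ↥(Cfsg.sigmaCore H)) := by
    apply coprime_sigmaCore_of_forall hG hH
    intro q hq hd
    rw [hA0c] at hd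
    have : q = p := (Nat.prime_dvd_prime_iff_eq hq hp.out).mp (hq.dvd_of_dvd_pow hd)
    rw [this]; exact hpτ.2.1
  obtain ⟨m, hm, hA0E⟩ := Cfsg.Agent.H2.BG12.exists_cj_compl_ge hG hH hE hA0H hcop
  refine ⟨cj m⁻¹ A0, ?_, Cfsg.Agent.H2.BG12.isElementaryAbelian_cj hA0e _, ?_⟩
  · have := cj_mono m⁻¹ hA0E
    rwa [cj_inv_cj] at this
  · rw [card_cj, hA0c]

theorem comm_of_isMulCommutative {B : Subgroup G} (hB : IsMulCommutative ↥B) :
    ∀ a ∈ B, ∀ b ∈ B, a * b = b * a := fun a ha b hb =>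
  congrArg Subtype.val (hB.is_comm.comm (⟨a, ha⟩ : ↥B) ⟨b, hb⟩)

theorem le_centralizer_of_comm {B X : Subgroup G} (hB : ∀ a ∈ B, ∀ b ∈ B, a * b = b * a)
    (hX : X ≤ B) : B ≤ Subgroup.centralizer (X : Set G) := by
  intro b hb
  rw [Subgroup.mem_centralizer_iff]
  intro x hx
  exact hB x (hX hx) b hb

section main

variable {M K U Ms H : Subgroup G}

/-- **(i)**: if `p = |K| ∈ τ₂(H)` and `E_H ⊇ K` is a complement of `H_σ` in `H ≠ M*`, then
`E_H ≤ M*` and `H_σ ∩ M* = 1` -/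
theorem PData.compl_le_of_tau2 (hG : Cfsg.IsMinSimpleOddOrder G) (h : PData M K U Ms)
    (hH : IsCoatom H) (hHMs : H ≠ Ms) {EH : Subgroup G}
    (hEH : Cfsg.IsComplIn EH (Cfsg.sigmaCore H) H) (hKE : K ≤ EH)
    (hpτ : Nat.card ↥K ∈ Cfsg.tau2 H) : EH ≤ Ms ∧ Cfsg.sigmaCore H ⊓ Ms = ⊥ := by
  haveI : Fact (Nat.card ↥K).Prime := ⟨h.Kprime⟩
  obtain ⟨B, hBE, hBe, hBc⟩ := exists_elementary_sq_le_compl hG hH hEH hpτ
  have h18 := Cfsg.Agent.S1418.result hG H hH EH hEH _ hpτ B ⟨hBE, hBe, hBc⟩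
  have hKB : K ≤ B := h18.1.2 K hKE rfl
  have hBMs : B ≤ Ms :=
    (le_centralizer_of_comm (comm_of_isMulCommutative hBe.1) hKB).trans (h.centralizer_le hG)
  obtain ⟨Es, hEs⟩ := exists_compl hG h.coatom
  have hNB : Subgroup.normalizer (B : Set G) ≤ Ms :=
    (Cfsg.Agent.S1420.result hG Ms h.coatom Es hEs).2.2.1 _ B (h.p_mem_sigma hG)
      (isPGroup_of_elementary hBe) hBMs (not_isCyclic_of_elementary hBe hBc.ge)
  have h17 := Cfsg.Agent.S1417.result hG H hH _ hpτ B ⟨hBE.trans hEH.1, hBe, hBc⟩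
  exact ⟨h18.1.1.trans hNB, h17.2.2.2.2.1 Ms h.coatom (Ne.symm hHMs) hBMs⟩

/-- `C_{H_σ}(K) = 1` for a coatom `H ⊇ K`, `H ≠ M*`, with `κ(H) = ∅` and `p = |K| ∉ σ(H)` -/
theorem PData.sigmaCore_inf_centralizer_K (hG : Cfsg.IsMinSimpleOddOrder G)
    (h : PData M K U Ms) (hH : IsCoatom H) (hHMs : H ≠ Ms) (hKH : K ≤ H)
    (hpσ : Nat.card ↥K ∉ Cfsg.sigma H) (hκ : Cfsg.kappa H = ∅) :
    Cfsg.sigmaCore H ⊓ Subgroup.centralizer (K : Set G) = ⊥ := by
  haveI : Fact (Nat.card ↥K).Prime := ⟨h.Kprime⟩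
  have hpH : Nat.card ↥K ∣ Nat.card ↥H := Subgroup.card_dvd_of_le hKH
  have hrk1 : Cfsg.PRankLE (Nat.card ↥K) 1 ↥H →
      Cfsg.sigmaCore H ⊓ Subgroup.centralizer (K : Set G) = ⊥ := by
    intro hrk
    by_contra hne
    have := Cfsg.Agent.Lib.Helper4.BG14.mem_kappa_of_fixed hG hpσ hrk hKH rfl hne
    rw [hκ] at this
    exact this
  rcases Cfsg.Agent.H2.BG13.tau_cases hG hH h.Kprime hpH hpσ with h1 | h2 | h3
  · exact hrk1 h1.2.2.2.2
  · have hcop : (Nat.card ↥K).Coprime (Nat.card ↥(Cfsg.sigmaCore H)) := by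
      apply coprime_sigmaCore_of_forall hG hH
      intro q hq hd
      have : q = Nat.card ↥K := (Nat.prime_dvd_prime_iff_eq hq h.Kprime).mp hd
      rw [this]; exact hpσ
    obtain ⟨EH, hEH, hKE⟩ := exists_compl_ge hG hH hKH hcop
    have := (h.compl_le_of_tau2 hG hH hHMs hEH hKE h2).2
    apply le_bot_iff.mp
    rw [← this]
    exact inf_le_inf_left _ (h.centralizer_le hG)
  · exact hrk1 h3.2.2.2

/-- `C_G(A) ≤ U` for `A ≤ U` elementary abelian of order `r²`, `r ∈ τ₂(M)` -/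
theorem PData.centralizer_le_U (hG : Cfsg.IsMinSimpleOddOrder G) (h : PData M K U Ms) {r : ℕ}
    [hr : Fact r.Prime] (hτM : r ∈ Cfsg.tau2 M) {A : Subgroup G} (hAU : A ≤ U)
    (hAe : Cfsg.IsElementaryAbelian r A) (hAc : Nat.card ↥A = r ^ 2) :
    Subgroup.centralizer (A : Set G) ≤ U := by
  have hE := sup_compl hG h.coatomM h.dec
  have h18 := Cfsg.Agent.S1418.result hG M h.coatomM (U ⊔ K) hE r hτM A
    ⟨hAU.trans le_sup_left, hAe, hAc⟩
  have hCA : Subgroup.centralizer (A : Set G) ≤ U ⊔ K := by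
    have := h18.2.1.1
    rwa [h18.2.1.2.1] at this
  have hA1 : A ≠ ⊥ := by
    intro h0
    rw [h0, Subgroup.card_bot] at hAc
    have := hr.out.one_lt
    nlinarith
  intro x hx
  obtain ⟨u, hu, k, hk, rfl⟩ := exists_mul_of_mem_sup h.dec.normal (hCA hx)
  have huC : u ∈ Subgroup.centralizer (A : Set G) := h.U_le_centralizer hAU hu
  have hkC : k ∈ Subgroup.centralizer (A : Set G) := by
    have : k = u⁻¹ * (u * k) := by group
    rw [this]
    exact Subgroup.mul_mem _ (Subgroup.inv_mem _ huC) hx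
  by_cases hk1 : k = 1
  · subst hk1
    simpa using hu
  · exfalso
    apply hA1
    apply le_bot_iff.mp
    rw [← h.reg k hk hk1]
    refine le_inf hAU ?_
    intro a ha
    rw [Subgroup.mem_centralizer_iff]
    intro y hy
    rw [Set.mem_singleton_iff] at hy
    subst hy
    exact (Subgroup.mem_centralizer_iff.mp hkC a ha).symm

/-- `r ≠ p` for `r ∣ |U|` -/
theorem PData.ne_p (h : PData M K U Ms) {r : ℕ} [hr : Fact r.Prime] (hrU : r ∣ Nat.card ↥U) :
    r ≠ Nat.card ↥K := by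
  intro e
  apply h.not_mem_kappa hrU
  rw [e]
  exact h.dec.hall.2.1 _ h.Kprime dvd_rfl

/-- primes dividing `|R ⊔ K|` -/
theorem PData.prime_dvd_sup (h : PData M K U Ms) {r : ℕ} [hr : Fact r.Prime] {R : Subgroup G}
    (hR : IsSylowIn r R U) {q : ℕ} (hq : q.Prime) (hd : q ∣ Nat.card ↥(R ⊔ K)) :
    q = r ∨ q = Nat.card ↥K := by
  have h1 := Cfsg.Agent.H1.card_sup_mul_card_inf K R (h.K_le_normalizer hR)
  have h2 : q ∣ Nat.card ↥K * Nat.card ↥R := by
    rw [← h1, sup_comm]; exact Dvd.dvd.mul_right hd _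
  rcases (Nat.Prime.dvd_mul hq).mp h2 with h3 | h3
  · exact Or.inr ((Nat.prime_dvd_prime_iff_eq hq h.Kprime).mp h3)
  · left
    obtain ⟨n, hn⟩ := hR.isPGroup.exists_card_eq
    rw [hn] at h3
    exact (Nat.prime_dvd_prime_iff_eq hq hr.out).mp (hq.dvd_of_dvd_pow h3)

/-- **Step 1**: `r ∈ σ(H)` -/
theorem PData.mem_sigma (hG : Cfsg.IsMinSimpleOddOrder G) (h : PData M K U Ms) {r : ℕ}
    [hr : Fact r.Prime] {R : Subgroup G} (hR : IsSylowIn r R U) (hR1 : R ≠ ⊥) (hH : IsCoatom H)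
    (hNR : Subgroup.normalizer (R : Set G) ≤ H) : r ∈ Cfsg.sigma H := by
  by_contra hrσH
  haveI hpf : Fact (Nat.card ↥K).Prime := ⟨h.Kprime⟩
  have hrU := dvd_card_of_sylowIn_ne_bot hR hR1
  have hRH : R ≤ H := Subgroup.le_normalizer.trans hNR
  have hRp : IsPGroup r ↥R := hR.isPGroup
  have hτH : r ∈ Cfsg.tau2 H := aux1 hG hH hRp hR1 hNR hrσH
  have hpσH := h.p_not_mem_sigma hG hR hR1 hH hNR
  have hκH := h.kappa_eq_empty hG hR hR1 hH hNR
  have hHMs := h.ne_Ms hR hR1 hNR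
  have hUKH := h.UK_le hR hNR
  have hKH : K ≤ H := le_sup_right.trans hUKH
  have hRKH : R ⊔ K ≤ H := sup_le hRH hKH
  have hcop : (Nat.card ↥(R ⊔ K)).Coprime (Nat.card ↥(Cfsg.sigmaCore H)) := by
    apply coprime_sigmaCore_of_forall hG hH
    intro q hq hd
    rcases h.prime_dvd_sup hR hq hd with e | e
    · rw [e]; exact hrσH
    · rw [e]; exact hpσH
  obtain ⟨EH, hEH, hRKE⟩ := exists_compl_ge hG hH hRKH hcop
  have hRE : R ≤ EH := le_sup_left.trans hRKE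
  have hKE : K ≤ EH := le_sup_right.trans hRKE
  obtain ⟨A, hAE, hAe, hAc⟩ := exists_elementary_sq_le_compl hG hH hEH hτH
  have hAH : A ≤ H := hAE.trans hEH.1
  have hAp : IsPGroup r ↥A := isPGroup_of_elementary hAe
  have hAab := comm_of_isMulCommutative hAe.1
  have h18 := Cfsg.Agent.S1418.result hG H hH EH hEH r hτH A ⟨hAE, hAe, hAc⟩
  have hEA : EH ≤ Subgroup.normalizer (A : Set G) := h18.1.1
  have h17 := Cfsg.Agent.S1417.result hG H hH r hτH A ⟨hAH, hAe, hAc⟩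
  have hCσA : Cfsg.sigmaCore H ⊓ Subgroup.centralizer (A : Set G) = ⊥ := h17.2.2.2.1
  have hA1 : A ≠ ⊥ := Cfsg.Agent.H1.BG14.ne_bot_of_card_sq hAc
  have hAt : A ≠ ⊤ := ne_top_of_le_coatom hH hAH
  -- (i) `p ∉ τ₂(H)`, hence `C_{H_σ}(K) = 1`
  have hCK := h.sigmaCore_inf_centralizer_K hG hH hHMs hKH hpσH hκH
  have hpτ2 : Nat.card ↥K ∉ Cfsg.tau2 H := by
    intro hpτ
    have := (h.compl_le_of_tau2 hG hH hHMs hEH hKE hpτ).1
    exact hR1 (h.eq_bot_of_le hR.1 (hRE.trans this))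
  have hrp := h.ne_p hrU
  by_cases hAK : A ⊓ Subgroup.centralizer (K : Set G) = ⊥
  · -- `A K` is a Frobenius group acting on `H_σ`
    have hnH := Cfsg.Agent.H2.BG11.le_normalizer_sigmaCore H
    have hAKdisj : A ⊓ K = ⊥ := by
      apply (Subgroup.disjoint_of_coprime_natCard ?_).eq_bot
      rw [hAc]
      exact Nat.Coprime.pow_left 2 ((Nat.coprime_primes hr.out h.Kprime).mpr hrp)
    have hfrob : ∀ k ∈ K, k ≠ 1 → A ⊓ Subgroup.centralizer ({k} : Set G) = ⊥ := by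
      intro k hk hk1
      rw [centralizer_singleton_of_prime_card h.Kprime rfl hk hk1]
      exact hAK
    have hcop2 : (Nat.card ↥(A ⊔ K)).Coprime (Nat.card ↥(Cfsg.sigmaCore H)) :=
      Nat.Coprime.coprime_dvd_left (Subgroup.card_dvd_of_le (sup_le hAE hKE))
        (Cfsg.Agent.H2.BG12.coprime_compl hG hH hEH)
    have := le_centralizer_of_frobenius A K (Cfsg.sigmaCore H) hA1 h.K1 hAKdisj (hKE.trans hEA)
      hfrob (Cfsg.Agent.H2.BGU.solvable_of_le_coatom hG hH (Cfsg.Agent.H2.BG11.sigmaCore_le H))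
      (hAH.trans hnH) (hKH.trans hnH) hcop2 hCK
    apply sigmaCore_ne_bot hG hH
    rw [← hCσA]
    exact (inf_eq_left.mpr this).symm
  · have hAKp : IsPGroup r ↥(A ⊓ Subgroup.centralizer (K : Set G)) := hAp.to_le inf_le_left
    obtain ⟨A1, hA1le, hA1c⟩ := exists_card_eq_le_of_pgroup hAKp hAK
    have hA1A : A1 ≤ A := hA1le.trans inf_le_left
    have hA1Ms : A1 ≤ Ms := (hA1le.trans inf_le_right).trans (h.centralizer_le hG)
    have hA1ne : A1 ≠ ⊥ := ne_bot_of_card_prime hr.out hA1c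
    -- `R` centralizes `A`
    have hRA : R ≤ Subgroup.centralizer (A : Set G) := by
      have hRAp : IsPGroup r ↥(R ⊔ A) := hRp.to_sup_of_normal_right' hAp (hRE.trans hEA)
      have hab := Cfsg.Agent.H2.BG12.comm_of_pgroup_not_sigma hG (Cfsg.Agent.H2.BG12.st1417 hG)
        hH hrσH (sup_le hRH hAH) hRAp
      exact Cfsg.Agent.H2.BG12.le_centralizer_of_sup_comm hab
    -- `K ≤ C_{M*_σ}(A1)`
    have hKfix : K ≤ Cfsg.sigmaCore Ms ⊓ Subgroup.centralizer (A1 : Set G) := by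
      refine le_inf h.KMs ?_
      intro k hk
      rw [Subgroup.mem_centralizer_iff]
      intro a ha
      exact (Subgroup.mem_centralizer_iff.mp ((hA1le ha).2) k hk).symm
    -- (iv) `r ∈ σ(M*)`
    have hrσMs : r ∈ Cfsg.sigma Ms := by
      by_contra hrσMs
      have hrMs : r ∣ Nat.card ↥Ms := by
        rw [← hA1c]; exact Subgroup.card_dvd_of_le hA1Ms
      by_cases hrk : Cfsg.PRankLE r 1 ↥Ms
      · have hκ : r ∈ Cfsg.kappa Ms := by
          apply Cfsg.Agent.Lib.Helper4.BG14.mem_kappa_of_fixed hG hrσMs hrk hA1Ms hA1c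
          intro h0
          exact h.K1 (le_bot_iff.mp (h0 ▸ hKfix))
        have hnd := h.KsHall.2.2 r hr.out hκ
        have hd : r ∣ Nat.card ↥(Cfsg.sigmaCore M ⊓ Subgroup.centralizer (K : Set G)) := by
          have e := Cfsg.Agent.H1.card_eq_relIndex_mul_card h.KsHall.1
          rw [e] at hrMs
          rcases (Nat.Prime.dvd_mul hr.out).mp hrMs with h3 | h3
          · exact absurd h3 hnd
          · exact h3
        exact h.not_mem_sigma hG hrU (Cfsg.Agent.H2.BG11.mem_sigma_of_dvd_sigmaCore hG h.coatomM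
          hr.out (hd.trans (Subgroup.card_dvd_of_le inf_le_left)))
      · have hτMs : r ∈ Cfsg.tau2 Ms := by
          rcases Cfsg.Agent.H2.BG13.tau_cases hG h.coatom hr.out hrMs hrσMs with h1 | h2 | h3
          · exact absurd h1.2.2.2.2 hrk
          · exact h2
          · exact absurd h3.2.2.2 hrk
        obtain ⟨Es, hEs⟩ := exists_compl hG h.coatom
        obtain ⟨⟨x, hx⟩, hx1'⟩ := (Subgroup.ne_bot_iff_exists_ne_one).mp hA1ne
        have hx1 : x ≠ 1 := fun e => hx1' (Subtype.ext e)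
        have hox : orderOf x = r := by
          have h1 : orderOf x ∣ r := by
            have := orderOf_dvd_natCard (⟨x, hx⟩ : ↥A1)
            rwa [Subgroup.orderOf_mk, hA1c] at this
          rcases (Nat.dvd_prime hr.out).mp h1 with h2 | h2
          · exact absurd (orderOf_eq_one_iff.mp h2) hx1
          · exact h2
        obtain ⟨⟨k, hk⟩, hk1'⟩ := (Subgroup.ne_bot_iff_exists_ne_one).mp h.K1
        have hk1 : k ≠ 1 := fun e => hk1' (Subtype.ext e)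
        have h20 := (Cfsg.Agent.S1420.result hG Ms h.coatom Es hEs).2.2.2 x (hA1Ms hx) hx1
          (by
            intro q hq hd
            rw [hox] at hd
            rw [(Nat.prime_dvd_prime_iff_eq hq hr.out).mp hd]
            exact hτMs)
          ⟨hA1Ms hx, k, h.KMs hk, hk1,
            (Subgroup.mem_centralizer_iff.mp ((hA1le hx).2) k hk).symm⟩
        have hRx : R ≤ Subgroup.centralizer ({x} : Set G) :=
          hRA.trans (Subgroup.centralizer_le (by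
            intro y hy
            rw [Set.mem_singleton_iff] at hy
            subst hy
            exact hA1A hx))
        exact hR1 (h.eq_bot_of_le hR.1 (hRx.trans h20.1))
    -- (v)
    obtain ⟨L, hL, hNL⟩ := exists_coatom_normalizer_le hG hA1 hAt
    have hrσL : r ∈ Cfsg.sigma L :=
      (Cfsg.Agent.H1.BG14.tau2_subset_sigma hG hH hEH hτH ⟨hAE, hAe, hAc⟩ hL hNL r hτH).1
    obtain ⟨g, hg⟩ := (Cfsg.Agent.S1378.result hG).2 Ms L h.coatom hL ⟨r, hrσMs, hrσL⟩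
    have hLMs := h.eq_of_cj ((hKE.trans hEA).trans hNL) hg
    exact hR1 (h.eq_bot_of_le hR.1 (hLMs ▸ (hRE.trans hEA).trans hNL))

/-- `𝓜(C_G(X)) = {H}` and `N_G(X) ≤ H` for `X ≤ H` of order `q ∈ τ₂(H)` with a fixed point on
`H_σ` (S1420(d)) -/
theorem normalizer_le_of_tau2_fixed (hG : Cfsg.IsMinSimpleOddOrder G) (hH : IsCoatom H) {q : ℕ}
    [hq : Fact q.Prime] (hqτ : q ∈ Cfsg.tau2 H) {X : Subgroup G} (hXH : X ≤ H)
    (hXc : Nat.card ↥X = q)
    (hfix : Cfsg.sigmaCore H ⊓ Subgroup.centralizer (X : Set G) ≠ ⊥) :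
    Subgroup.normalizer (X : Set G) ≤ H ∧
      ∀ L : Subgroup G, IsCoatom L → Subgroup.centralizer (X : Set G) ≤ L → L = H := by
  have hX1 : X ≠ ⊥ := ne_bot_of_card_prime hq.out hXc
  obtain ⟨⟨x, hx⟩, hx1'⟩ := (Subgroup.ne_bot_iff_exists_ne_one).mp hX1
  have hx1 : x ≠ 1 := fun e => hx1' (Subtype.ext e)
  have hox : orderOf x = q := by
    have h1 : orderOf x ∣ q := by
      have := orderOf_dvd_natCard (⟨x, hx⟩ : ↥X)
      rwa [Subgroup.orderOf_mk, hXc] at this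
    rcases (Nat.dvd_prime hq.out).mp h1 with h2 | h2
    · exact absurd (orderOf_eq_one_iff.mp h2) hx1
    · exact h2
  obtain ⟨⟨y, hyσ, hyX⟩, hy1'⟩ := (Subgroup.ne_bot_iff_exists_ne_one).mp hfix
  have hy1 : y ≠ 1 := fun e => hy1' (Subtype.ext e)
  obtain ⟨EH, hEH⟩ := exists_compl hG hH
  have h20 := (Cfsg.Agent.S1420.result hG H hH EH hEH).2.2.2 x (hXH hx) hx1
    (by
      intro t ht hd
      rw [hox] at hd
      rw [(Nat.prime_dvd_prime_iff_eq ht hq.out).mp hd]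
      exact hqτ)
    ⟨hXH hx, y, hyσ, hy1, Subgroup.mem_centralizer_iff.mp hyX x hx⟩
  rw [centralizer_singleton_of_prime_card hq.out hXc hx hx1] at h20
  refine ⟨?_, h20.2⟩
  obtain ⟨L, hL, hNL⟩ := exists_coatom_normalizer_le hG hX1 (ne_top_of_le_coatom hH hXH)
  have := h20.2 L hL ((Subgroup.centralizer_le_normalizer _).trans hNL)
  rwa [this] at hNL

/-- a Sylow `q`-subgroup exists -/
theorem exists_isSylowIn (q : ℕ) [hq : Fact q.Prime] (X : Subgroup G) :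
    ∃ Q : Subgroup G, IsSylowIn q Q X := by
  obtain ⟨Q, hQ, -⟩ := exists_isSylowIn_ge (p := q) (Q := ⊥) (H := X) IsPGroup.of_bot bot_le
  exact ⟨Q, hQ⟩

/-- **(3)** `U ≤ H_σ` -/
theorem PData.U_le_sigmaCore (hG : Cfsg.IsMinSimpleOddOrder G) (h : PData M K U Ms) {r : ℕ}
    [hr : Fact r.Prime] {R : Subgroup G} (hR : IsSylowIn r R U) (hR1 : R ≠ ⊥) (hH : IsCoatom H)
    (hNR : Subgroup.normalizer (R : Set G) ≤ H) : U ≤ Cfsg.sigmaCore H := by
  have hUH : U ≤ H := le_sup_left.trans (h.UK_le hR hNR)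
  have hRH : R ≤ H := Subgroup.le_normalizer.trans hNR
  have hRσ : R ≤ Cfsg.sigmaCore H :=
    Cfsg.Agent.H2.BG11.le_sigmaCore_of_pgroup hG hH (h.mem_sigma hG hR hR1 hH hNR) hRH hR.isPGroup
  have hκH := h.kappa_eq_empty hG hR hR1 hH hNR
  apply le_sigmaCore_of_sigma_group hG hH hUH
  intro t ht hd
  haveI : Fact t.Prime := ⟨ht⟩
  by_contra htσ
  obtain ⟨T, hT⟩ := exists_isSylowIn t U
  have hT1 : T ≠ ⊥ := Cfsg.Agent.H2.BG11.sylIn_ne_bot hT hd
  have hTH : T ≤ H := hT.1.trans hUH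
  have htH : t ∣ Nat.card ↥H := hd.trans (Subgroup.card_dvd_of_le hUH)
  -- a subgroup `X ≤ T` has `R` among its fixed points on `H_σ`
  have hfix : ∀ X : Subgroup G, X ≤ T →
      Cfsg.sigmaCore H ⊓ Subgroup.centralizer (X : Set G) ≠ ⊥ := by
    intro X hX h0
    apply hR1
    apply le_bot_iff.mp
    rw [← h0]
    exact le_inf hRσ (hR.1.trans (le_centralizer_of_comm h.Uab (hX.trans hT.1)))
  by_cases hrk : Cfsg.PRankLE t 1 ↥H
  · obtain ⟨X, hXT, hXc⟩ := exists_card_eq_le_of_pgroup hT.isPGroup hT1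
    have := Cfsg.Agent.Lib.Helper4.BG14.mem_kappa_of_fixed hG htσ hrk (hXT.trans hTH) hXc
      (hfix X hXT)
    rw [hκH] at this
    exact this
  · have hτH : t ∈ Cfsg.tau2 H := by
      rcases Cfsg.Agent.H2.BG13.tau_cases hG hH ht htH htσ with h1 | h2 | h3
      · exact absurd h1.2.2.2.2 hrk
      · exact h2
      · exact absurd h3.2.2.2 hrk
    have hTM := sylowIn_M hG h.coatomM h.dec hT hd
    have htM : t ∣ Nat.card ↥M := hd.trans (Subgroup.card_dvd_of_le h.UM)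
    rcases sq_or_rank_one hG h.coatomM hTM htM (h.not_mem_sigma hG hd) with
      ⟨hτM, A, hAT, hAe, hAc⟩ | hrkM
    · have h17 := Cfsg.Agent.S1417.result hG H hH t hτH A ⟨hAT.trans hTH, hAe, hAc⟩
      exact hfix A hAT h17.2.2.2.1
    · have hTcyc : IsCyclic ↥T :=
        Cfsg.Agent.Lib.Helper4.BGTw.isCyclic_of_pRankLE_one hG hrkM hTM.1 hT.isPGroup
      obtain ⟨X, hXT, hXc⟩ := exists_card_eq_le_of_pgroup hT.isPGroup hT1
      have hNX := (normalizer_le_of_tau2_fixed hG hH hτH (hXT.trans hTH) hXc (hfix X hXT)).1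
      have hNT : Subgroup.normalizer (T : Set G) ≤ H :=
        (le_normalizer_of_le_cyclic hTcyc hXT le_rfl).trans hNX
      exact htσ (h.mem_sigma hG hT hT1 hH hNT)

/-- `M_σ ∩ H_σ = 1` -/
theorem PData.sigmaCore_inf_sigmaCore (hG : Cfsg.IsMinSimpleOddOrder G) (h : PData M K U Ms)
    {r : ℕ} [hr : Fact r.Prime] {R : Subgroup G} (hR : IsSylowIn r R U) (hR1 : R ≠ ⊥)
    (hH : IsCoatom H) (hNR : Subgroup.normalizer (R : Set G) ≤ H) :
    Cfsg.sigmaCore M ⊓ Cfsg.sigmaCore H = ⊥ := by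
  apply (Subgroup.disjoint_of_coprime_natCard ?_).eq_bot
  apply Nat.coprime_of_dvd
  intro q hq hd1 hd2
  exact h.sigma_disjoint_M hG hR hR1 hH hNR
    (Cfsg.Agent.H2.BG11.mem_sigma_of_dvd_sigmaCore hG hH hq hd2)
    (Cfsg.Agent.H2.BG11.mem_sigma_of_dvd_sigmaCore hG h.coatomM hq hd1)

/-- `M_σ ∩ H = 1` -/
theorem PData.sigmaCore_inf_eq_bot (hG : Cfsg.IsMinSimpleOddOrder G) (h : PData M K U Ms)
    {r : ℕ} [hr : Fact r.Prime] {R : Subgroup G} (hR : IsSylowIn r R U) (hR1 : R ≠ ⊥)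
    (hH : IsCoatom H) (hNR : Subgroup.normalizer (R : Set G) ≤ H) :
    Cfsg.sigmaCore M ⊓ H = ⊥ := by
  have hrU := dvd_card_of_sylowIn_ne_bot hR hR1
  have hRM := sylowIn_M hG h.coatomM h.dec hR hrU
  have hRH : R ≤ H := Subgroup.le_normalizer.trans hNR
  have hRσ : R ≤ Cfsg.sigmaCore H :=
    Cfsg.Agent.H2.BG11.le_sigmaCore_of_pgroup hG hH (h.mem_sigma hG hR hR1 hH hNR) hRH hR.isPGroup
  apply le_bot_iff.mp
  rw [← sigmaCore_inf_centralizer_eq_bot hG h.coatomM hRM hR1 (h.not_mem_sigma hG hrU)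
    (h.not_mem_kappa hrU)]
  refine le_inf inf_le_left ?_
  rintro t ⟨htσ, htH⟩
  rw [Subgroup.mem_centralizer_iff]
  intro x hx
  have h1 : t * x * t⁻¹ * x⁻¹ ∈ Cfsg.sigmaCore M := by
    have hxM : x ∈ M := hRM.1 hx
    have := (Subgroup.mem_normalizer_iff.mp
      (Cfsg.Agent.H2.BG11.le_normalizer_sigmaCore M hxM) t⁻¹).mp (Subgroup.inv_mem _ htσ)
    have e : t * x * t⁻¹ * x⁻¹ = t * (x * t⁻¹ * x⁻¹) := by group
    rw [e]
    exact Subgroup.mul_mem _ htσ this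
  have h2 : t * x * t⁻¹ * x⁻¹ ∈ Cfsg.sigmaCore H := by
    have := (Subgroup.mem_normalizer_iff.mp
      (Cfsg.Agent.H2.BG11.le_normalizer_sigmaCore H htH) x).mp (hRσ hx)
    exact Subgroup.mul_mem _ this (Subgroup.inv_mem _ (hRσ hx))
  have h3 : t * x * t⁻¹ * x⁻¹ ∈ Cfsg.sigmaCore M ⊓ Cfsg.sigmaCore H := ⟨h1, h2⟩
  rw [h.sigmaCore_inf_sigmaCore hG hR hR1 hH hNR, Subgroup.mem_bot] at h3
  have h4 : t * x * t⁻¹ = x := mul_inv_eq_one.mp h3
  have h5 : t * x = x * t := mul_inv_eq_iff_eq_mul.mp h4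
  exact h5.symm

/-- **(4)** `M ∩ H = U K` -/
theorem PData.inf_eq (hG : Cfsg.IsMinSimpleOddOrder G) (h : PData M K U Ms)
    {r : ℕ} [hr : Fact r.Prime] {R : Subgroup G} (hR : IsSylowIn r R U) (hR1 : R ≠ ⊥)
    (hH : IsCoatom H) (hNR : Subgroup.normalizer (R : Set G) ≤ H) : M ⊓ H = U ⊔ K := by
  have hUK := h.UK_le hR hNR
  apply le_antisymm
  · rintro x ⟨hxM, hxH⟩
    obtain ⟨e, he, s, hs, rfl⟩ := (sup_compl hG h.coatomM h.dec).2.2.2 x hxM
    have hsH : s ∈ Cfsg.sigmaCore M ⊓ H := by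
      refine ⟨hs, ?_⟩
      have : s = e⁻¹ * (e * s) := by group
      rw [this]
      exact H.mul_mem (H.inv_mem (hUK he)) hxH
    rw [h.sigmaCore_inf_eq_bot hG hR hR1 hH hNR, Subgroup.mem_bot] at hsH
    rw [hsH, mul_one]
    exact he
  · exact le_inf (sup_le h.UM h.KM) hUK

/-- in a nilpotent subgroup a proper subgroup is properly contained in its normalizer -/
theorem exists_mem_normalizer_not_mem_of_nilpotent {N X : Subgroup G}
    (hN : Group.IsNilpotent ↥N) (hXN : X ≤ N) (hne : X ≠ N) :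
    ∃ y ∈ N, y ∈ Subgroup.normalizer (X : Set G) ∧ y ∉ X := by
  have hlt : X.subgroupOf N < ⊤ := by
    rw [lt_top_iff_ne_top]
    intro h0
    rw [Subgroup.subgroupOf_eq_top] at h0
    exact hne (le_antisymm hXN h0)
  have hnc := Group.normalizerCondition_of_isNilpotent (G := ↥N) (X.subgroupOf N) hlt
  obtain ⟨y, hyN, hyQ⟩ := SetLike.exists_of_lt hnc
  rw [← Subgroup.subgroupOf_normalizer_eq hXN, Subgroup.mem_subgroupOf] at hyN
  exact ⟨y, y.2, hyN, fun h0 => hyQ (Subgroup.mem_subgroupOf.mpr h0)⟩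

/-- `K ∩ H_σ = 1` -/
theorem PData.K_inf_sigmaCore_H (hG : Cfsg.IsMinSimpleOddOrder G) (h : PData M K U Ms)
    (hH : IsCoatom H) (hpσ : Nat.card ↥K ∉ Cfsg.sigma H) : K ⊓ Cfsg.sigmaCore H = ⊥ := by
  apply (Subgroup.disjoint_of_coprime_natCard ?_).eq_bot
  apply coprime_sigmaCore_of_forall hG hH
  intro q hq hd
  rw [(Nat.prime_dvd_prime_iff_eq hq h.Kprime).mp hd]
  exact hpσ

/-- `C_{H_σ}(K) = 1` in the main setting -/
theorem PData.sigmaCore_H_inf_centralizer (hG : Cfsg.IsMinSimpleOddOrder G)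
    (h : PData M K U Ms) {r : ℕ} [hr : Fact r.Prime] {R : Subgroup G} (hR : IsSylowIn r R U)
    (hR1 : R ≠ ⊥) (hH : IsCoatom H) (hNR : Subgroup.normalizer (R : Set G) ≤ H) :
    Cfsg.sigmaCore H ⊓ Subgroup.centralizer (K : Set G) = ⊥ :=
  h.sigmaCore_inf_centralizer_K hG hH (h.ne_Ms hR hR1 hNR) (le_sup_right.trans (h.UK_le hR hNR))
    (h.p_not_mem_sigma hG hR hR1 hH hNR) (h.kappa_eq_empty hG hR hR1 hH hNR)

/-- `H_σ` is nilpotent -/
theorem PData.nilpotent_sigmaCore_H (hG : Cfsg.IsMinSimpleOddOrder G)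
    (h : PData M K U Ms) {r : ℕ} [hr : Fact r.Prime] {R : Subgroup G} (hR : IsSylowIn r R U)
    (hR1 : R ≠ ⊥) (hH : IsCoatom H) (hNR : Subgroup.normalizer (R : Set G) ≤ H) :
    Group.IsNilpotent ↥(Cfsg.sigmaCore H) := by
  have hCK := h.sigmaCore_H_inf_centralizer hG hR hR1 hH hNR
  have hKH : K ≤ H := le_sup_right.trans (h.UK_le hR hNR)
  obtain ⟨⟨k, hk⟩, hk1'⟩ := (Subgroup.ne_bot_iff_exists_ne_one).mp h.K1
  have hk1 : k ≠ 1 := fun e => hk1' (Subtype.ext e)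
  have hok : orderOf k = Nat.card ↥K := by
    have h1 : orderOf k ∣ Nat.card ↥K := by
      have := orderOf_dvd_natCard (⟨k, hk⟩ : ↥K)
      rwa [Subgroup.orderOf_mk] at this
    rcases (Nat.dvd_prime h.Kprime).mp h1 with h2 | h2
    · exact absurd (orderOf_eq_one_iff.mp h2) hk1
    · exact h2
  apply Cfsg.Agent.H2.BG11.nilpotent_of_fpf_prime h.Kprime hok
    (Cfsg.Agent.H2.BG11.le_normalizer_sigmaCore H (hKH hk))
  intro x hx hfix
  have hxC : x ∈ Cfsg.sigmaCore H ⊓ Subgroup.centralizer (K : Set G) := by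
    refine ⟨hx, ?_⟩
    rw [← centralizer_singleton_of_prime_card h.Kprime rfl hk hk1]
    show x ∈ Subgroup.centralizer ({k} : Set G)
    rw [Subgroup.mem_centralizer_iff]
    intro y hy
    rw [Set.mem_singleton_iff] at hy
    subst hy
    have : y * x = x * y := mul_inv_eq_iff_eq_mul.mp hfix
    exact this
  rwa [hCK, Subgroup.mem_bot] at hxC

/-- **(5)** `N_H(U) ⊄ M` -/
theorem PData.not_le (hG : Cfsg.IsMinSimpleOddOrder G) (h : PData M K U Ms)
    {r : ℕ} [hr : Fact r.Prime] {R : Subgroup G} (hR : IsSylowIn r R U) (hR1 : R ≠ ⊥)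
    (hH : IsCoatom H) (hNR : Subgroup.normalizer (R : Set G) ≤ H) :
    ¬ H ⊓ Subgroup.normalizer (U : Set G) ≤ M := by
  intro hle
  have hnil := h.nilpotent_sigmaCore_H hG hR hR1 hH hNR
  have hUσ := h.U_le_sigmaCore hG hR hR1 hH hNR
  have hpσ := h.p_not_mem_sigma hG hR hR1 hH hNR
  have hσH := Cfsg.Agent.H2.BG11.sigmaCore_le H
  have hMσ : M ⊓ Cfsg.sigmaCore H ≤ U := by
    rintro x ⟨hxM, hxσ⟩
    have hx : x ∈ U ⊔ K := by
      rw [← h.inf_eq hG hR hR1 hH hNR]; exact ⟨hxM, hσH hxσ⟩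
    obtain ⟨u, hu, k, hk, rfl⟩ := exists_mul_of_mem_sup h.dec.normal hx
    have hk' : k ∈ K ⊓ Cfsg.sigmaCore H := by
      refine ⟨hk, ?_⟩
      have : k = u⁻¹ * (u * k) := by group
      rw [this]
      exact Subgroup.mul_mem _ (Subgroup.inv_mem _ (hUσ hu)) hxσ
    rw [h.K_inf_sigmaCore_H hG hH hpσ, Subgroup.mem_bot] at hk'
    rw [hk', mul_one]; exact hu
  by_cases hUeq : U = Cfsg.sigmaCore H
  · have hHM : H ≤ M := by
      intro x hx
      apply hle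
      refine ⟨hx, ?_⟩
      rw [hUeq]
      exact Cfsg.Agent.H2.BG11.le_normalizer_sigmaCore H hx
    have := hH.le_iff.mp hHM
    rcases this with h0 | h0
    · exact h.coatomM.1 h0
    · exact h.ne_M hG hR hR1 hNR h0.symm
  · obtain ⟨y, hyσ, hyN, hyU⟩ := exists_mem_normalizer_not_mem_of_nilpotent hnil hUσ hUeq
    exact hyU (hMσ ⟨hle ⟨hσH hyσ, hyN⟩, hyσ⟩)

end main

end Cfsg.Agent.Lib.Helper7.BG14P
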