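import Mathlib
import Cfsg.Agent.Lib.Helper7.BG14PB
import Cfsg.Agent.S1429

/-!
# B&G Section 14 (helper7), part PC: assembling `PData`; `N_G(U) ⊄ M` (S1363).
-/

set_option autoImplicit false
set_option linter.unusedSectionVars false
set_option linter.unusedVariables false
set_option linter.style.haveILetI false
set_option maxHeartbeats 1000000
open Cfsg
open scoped commutatorElement Pointwise

namespace Cfsg.Agent.Lib.Helper7.BG14P

open Cfsg.Agent.Lib.Helper7 (IsSylowIn exists_isSylowIn_ge card_subgroupOf_of_le)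
open Cfsg.Agent.Lib.Helper8.BGTen Cfsg.Agent.Lib.Helper4.BGTrans
open Cfsg.Agent.Lib.helper3.BG11 Cfsg.Agent.Lib.helper3.BG12 Cfsg.Agent.Lib.helper3.BG13
open Cfsg.Agent.Lib.Helper7.BG13

universe u

variable {G : Type u} [Group G] [Finite G] {M K U Ms : Subgroup G}

/-- `U` is abelian when some element of prime order of `K` acts fixed-point-freely on it -/
theorem comm_of_reg (hG : Cfsg.IsMinSimpleOddOrder G) (hM : IsCoatom M)
    (hd : Cfsg.IsSigmaDecomposition M K U) (hK1 : K ≠ ⊥)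
    (hreg : ∀ k ∈ K, k ≠ 1 → U ⊓ Subgroup.centralizer ({k} : Set G) = ⊥) :
    ∀ a ∈ U, ∀ b ∈ U, a * b = b * a := by
  obtain ⟨q, hq, X, hXK, hXc⟩ := Cfsg.Agent.Lib.Helper4.BG13.exists_prime_card_le hK1
  have hX1 : X ≠ ⊥ := ne_bot_of_card_prime hq.out hXc
  obtain ⟨⟨k, hk⟩, hk1'⟩ := (Subgroup.ne_bot_iff_exists_ne_one).mp hX1
  have hk1 : k ≠ 1 := fun e => hk1' (Subtype.ext e)
  have hok : orderOf k = q := by
    have h1 : orderOf k ∣ q := by
      have := orderOf_dvd_natCard (⟨k, hk⟩ : ↥X)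
      rwa [Subgroup.orderOf_mk, hXc] at this
    rcases (Nat.dvd_prime hq.out).mp h1 with h2 | h2
    · exact absurd (orderOf_eq_one_iff.mp h2) hk1
    · exact h2
  have hnil : Group.IsNilpotent ↥U := by
    apply Cfsg.Agent.H2.BG11.nilpotent_of_fpf_prime hq.out hok (hd.normal (hXK hk))
    intro x hx hfix
    have hxC : x ∈ U ⊓ Subgroup.centralizer ({k} : Set G) := by
      refine ⟨hx, ?_⟩
      show x ∈ Subgroup.centralizer ({k} : Set G)
      rw [Subgroup.mem_centralizer_iff]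
      intro y hy
      rw [Set.mem_singleton_iff] at hy
      subst hy
      have : y * x = x * y := mul_inv_eq_iff_eq_mul.mp hfix
      exact this
    rwa [hreg k (hXK hk) hk1, Subgroup.mem_bot] at hxC
  obtain ⟨E, hE⟩ := exists_compl hG hM
  have := (Cfsg.Agent.S1420.result hG M hM E hE).1 U hd.compl.1 hnil
    (fun p hp hdv => Cfsg.Agent.H2.BG12.not_mem_sigma_of_dvd_U hG hM hd hp hdv)
  exact comm_of_isMulCommutative this

/-- `M_σ` is nilpotent when `U ≠ 1` (S1429) -/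
theorem nilpotent_of_U_ne_bot (hG : Cfsg.IsMinSimpleOddOrder G) (hM : IsCoatom M)
    (hd : Cfsg.IsSigmaDecomposition M K U) (hU1 : U ≠ ⊥) :
    Group.IsNilpotent ↥(Cfsg.sigmaCore M) := by
  obtain ⟨r, hr, X, hXU, hXc⟩ := Cfsg.Agent.Lib.Helper4.BG13.exists_prime_card_le hU1
  have hrU : r ∣ Nat.card ↥U := by rw [← hXc]; exact Subgroup.card_dvd_of_le hXU
  have hrM : r ∣ Nat.card ↥M := hrU.trans (Subgroup.card_dvd_of_le hd.compl.1)
  have hrσ := Cfsg.Agent.H2.BG12.not_mem_sigma_of_dvd_U hG hM hd hr.out hrU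
  have hrκ := Cfsg.Agent.H2.BG12.not_mem_kappa_of_dvd_U hd hr.out hrU
  have hP1 : ¬ (∀ q : ℕ, q.Prime → q ∣ Nat.card ↥M → q ∉ Cfsg.sigma M → q ∈ Cfsg.kappa M) :=
    fun h0 => hrκ (h0 r hr.out hrM hrσ)
  obtain ⟨S⟩ : Nonempty (Sylow r ↥M) := inferInstance
  exact (Cfsg.Agent.S1429.result hG M hM hP1 r hrM
    (fun h0 => h0.elim hrσ hrκ) S).2.2

/-- assembling `PData` from the statements S1353, S1372(1), S1366–S1369, S1431(1) -/
theorem PData.of_hyps (hG : Cfsg.IsMinSimpleOddOrder G) (hM : IsCoatom M)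
    (hd : Cfsg.IsSigmaDecomposition M K U) (hU1 : U ≠ ⊥)
    (h53 : ∀ k ∈ K, k ≠ 1 → U ⊓ Subgroup.centralizer ({k} : Set G) = ⊥)
    (h72 : (Nat.card ↥K).Prime) (hMs : IsCoatom Ms)
    (hKst : K = Cfsg.sigmaCore Ms ⊓ Subgroup.centralizer
      ((Cfsg.sigmaCore M ⊓ Subgroup.centralizer (K : Set G) : Subgroup G) : Set G))
    (hKstH : Cfsg.IsPiHallOf (Cfsg.kappa Ms)
      (Cfsg.sigmaCore M ⊓ Subgroup.centralizer (K : Set G)) Ms)
    (h67 : (∀ X : Subgroup G, X ≤ Cfsg.sigmaCore M ⊓ Subgroup.centralizer (K : Set G) →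
        (Nat.card ↥X).Prime → Subgroup.centralizer (X : Set G) ≤ M ∧
          ∀ L : Subgroup G, IsCoatom L → Subgroup.centralizer (X : Set G) ≤ L → L = M) ∧
      (∀ Y : Subgroup G, Y ≤ K → (Nat.card ↥Y).Prime → Subgroup.centralizer (Y : Set G) ≤ Ms ∧
          ∀ L : Subgroup G, IsCoatom L → Subgroup.centralizer (Y : Set G) ≤ L → L = Ms))
    (h68 : M ⊓ Ms = K ⊔ (Cfsg.sigmaCore M ⊓ Subgroup.centralizer (K : Set G)))
    (h69 : ∀ H : Subgroup G, IsCoatom H → (Cfsg.kappa H).Nonempty →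
      ∃ g : G, H = M.map (MulAut.conj g).toMonoidHom ∨ H = Ms.map (MulAut.conj g).toMonoidHom)
    (h31 : ∀ g : G, g ∉ Ms → (Cfsg.sigmaCore Ms ⊓ Subgroup.centralizer
      ((Cfsg.sigmaCore M ⊓ Subgroup.centralizer (K : Set G) : Subgroup G) : Set G)) ⊓
        Ms.map (MulAut.conj g).toMonoidHom = ⊥) : PData M K U Ms where
  coatomM := hM
  dec := hd
  Kprime := h72
  U1 := hU1
  Uab := comm_of_reg hG hM hd (ne_bot_of_card_prime h72 rfl) h53
  reg := h53
  nil := nilpotent_of_U_ne_bot hG hM hd hU1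
  coatom := hMs
  KMs := by rw [hKst]; exact inf_le_left
  uniq := (h67.2 K le_rfl h72).2
  inter := h68
  ti := by
    intro g hg
    have := h31 g hg
    rwa [← hKst] at this
  two := h69
  KsHall := hKstH
  uniqM := fun X hX hXc => (h67.1 X hX hXc).1

/-- **S1363(2)** from `PData`: `N_G(U) ⊄ M` -/
theorem PData.normalizer_not_le (hG : Cfsg.IsMinSimpleOddOrder G) (h : PData M K U Ms) :
    ¬ Subgroup.normalizer (U : Set G) ≤ M := by
  intro hle
  obtain ⟨r, hr, X, hXU, hXc⟩ := Cfsg.Agent.Lib.Helper4.BG13.exists_prime_card_le h.U1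
  have hrU : r ∣ Nat.card ↥U := by rw [← hXc]; exact Subgroup.card_dvd_of_le hXU
  obtain ⟨R, hR⟩ := exists_isSylowIn r U
  have hR1 : R ≠ ⊥ := Cfsg.Agent.H2.BG11.sylIn_ne_bot hR hrU
  have hRt : R ≠ ⊤ := ne_top_of_le_coatom h.coatomM (hR.1.trans h.UM)
  obtain ⟨H, hH, hNR⟩ := exists_coatom_normalizer_le hG hR1 hRt
  exact h.not_le hG hR hR1 hH hNR (inf_le_right.trans hle)

end Cfsg.Agent.Lib.Helper7.BG14P
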