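import Mathlib
import Cfsg.Agent.Lib.Helper7.BG14PC
import Cfsg.Agent.Lib.Helper4.AutP2
import Cfsg.Agent.Lib.Helper4.GL2Odd
import Cfsg.Agent.H2.ZassRegular
import Cfsg.Agent.H2.BGU.Nilp

/-!
# B&G Section 14 (helper7), part PD: a Frobenius group `U ⋊ K` of odd order cannot act on an
elementary abelian `q`-group of order `≤ q²` with `U` faithful.
-/

set_option autoImplicit false
set_option linter.unusedSectionVars false
set_option linter.unusedVariables false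
set_option linter.style.haveILetI false
set_option maxHeartbeats 1000000
open Cfsg
open scoped commutatorElement Pointwise

namespace Cfsg.Agent.Lib.Helper7.BG14P

open Cfsg.Agent.Lib.Helper7 (IsSylowIn exists_isSylowIn_ge card_subgroupOf_of_le)
open Cfsg.Agent.Lib.Helper8.BGTen Cfsg.Agent.Lib.Helper4.BGTrans
open Cfsg.Agent.Lib.helper3.BG11 Cfsg.Agent.Lib.helper3.BG12 Cfsg.Agent.Lib.helper3.BG13
open Cfsg.Agent.Lib.Helper7.BG13

universe u

/-- automorphisms `σ` (of `q'`-order) and `τ` (of odd order) of an elementary abelian `q`-group of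
order `q` or `q²` such that `σ` commutes with `τ σ τ⁻¹` satisfy `τ σ τ⁻¹ = σ` -/
theorem conj_eq_of_commute_small {V : Type*} [Group V] [Finite V] {q : ℕ} [hq : Fact q.Prime]
    (hq2 : q ≠ 2) (hcomm : ∀ a b : V, a * b = b * a) (hexp : ∀ v : V, v ^ q = 1)
    (hcard : Nat.card V = q ∨ Nat.card V = q ^ 2) {σ τ : MulAut V} (hτ : Odd (orderOf τ))
    (hσ : (orderOf σ).Coprime q) (hc : Commute σ (τ * σ * τ⁻¹)) : τ * σ * τ⁻¹ = σ := by
  rcases hcard with h1 | h2
  · have := Cfsg.Agent.Lib.Helper4.AutP2.mulAut_comm_of_card_dvd_prime (p := q) (V := V)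
      (by rw [h1]) τ σ
    rw [this, mul_inv_cancel_right]
  · obtain ⟨φ, hφ⟩ := Cfsg.Agent.Lib.Helper4.AutP2.exists_injective_hom' (p := q) hcomm hexp h2
    exact Cfsg.Agent.Lib.Helper4.GL2Odd.key_hom (p := q) (F := ZMod q) hq2 φ hφ hτ hσ hc

variable {G : Type u} [Group G] [Finite G]

/-- **the small-module kill**: an abelian `q'`-group `U` normalized by an element `k` with
`C_U(k) = 1`, where `U ⟨k⟩` (of odd order) acts on an elementary abelian `q`-group `V` of order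
`q` or `q²` with `U` faithful, is trivial -/
theorem eq_bot_of_small_action (hodd : Odd (Nat.card G)) {V U : Subgroup G} {q : ℕ}
    [hq : Fact q.Prime] (hVab : ∀ a ∈ V, ∀ b ∈ V, a * b = b * a) (hVexp : ∀ v ∈ V, v ^ q = 1)
    (hVc : Nat.card ↥V = q ∨ Nat.card ↥V = q ^ 2)
    (hUV : U ≤ Subgroup.normalizer (V : Set G))
    (hUab : ∀ a ∈ U, ∀ b ∈ U, a * b = b * a) (hUq : (Nat.card ↥U).Coprime q)
    (hfaith : U ⊓ Subgroup.centralizer (V : Set G) = ⊥) {k : G}
    (hkV : k ∈ Subgroup.normalizer (V : Set G)) (hkU : k ∈ Subgroup.normalizer (U : Set G))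
    (hreg : U ⊓ Subgroup.centralizer ({k} : Set G) = ⊥) : U = ⊥ := by
  have hq2 : q ≠ 2 := by
    rintro rfl
    have h2 : 2 ∣ Nat.card ↥V := by
      rcases hVc with h | h
      · rw [h]
      · rw [h]; exact Dvd.intro_left _ rfl
    have h3 : 2 ∣ Nat.card G := h2.trans (Subgroup.card_subgroup_dvd_card V)
    exact (Nat.not_even_iff_odd.mpr hodd) (even_iff_two_dvd.mpr h3)
  have hH : ∀ h ∈ Subgroup.normalizer (V : Set G), ∀ v ∈ V, h * v * h⁻¹ ∈ V :=
    fun h hh v hv => (Subgroup.mem_normalizer_iff.mp hh v).mp hv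
  obtain ⟨ψ, hψ⟩ : ∃ ψ : ↥(Subgroup.normalizer (V : Set G)) →* MulAut ↥V,
      ψ = Cfsg.Agent.H2.ZassRegular.conjOn V (Subgroup.normalizer (V : Set G)) hH := ⟨_, rfl⟩
  have hψapp : ∀ (h : ↥(Subgroup.normalizer (V : Set G))) (v : ↥V),
      ((ψ h v : ↥V) : G) = h * v * (h : G)⁻¹ := by
    intro h v; rw [hψ]; rfl
  rw [Subgroup.eq_bot_iff_forall]
  intro u hu
  have hkuU : k * u * k⁻¹ ∈ U := (Subgroup.mem_normalizer_iff.mp hkU u).mp hu
  obtain ⟨u', hu'⟩ : ∃ u' : ↥(Subgroup.normalizer (V : Set G)), (u' : G) = u := ⟨⟨u, hUV hu⟩, rfl⟩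
  obtain ⟨k', hk'⟩ : ∃ k' : ↥(Subgroup.normalizer (V : Set G)), (k' : G) = k := ⟨⟨k, hkV⟩, rfl⟩
  have hτ : Odd (orderOf (ψ k')) := by
    have h1 : orderOf (ψ k') ∣ orderOf k' := orderOf_map_dvd ψ k'
    have h2 : orderOf k' ∣ Nat.card G := by
      rw [← Subgroup.orderOf_coe]; exact orderOf_dvd_natCard _
    exact Odd.of_dvd_nat hodd (h1.trans h2)
  have hσ : (orderOf (ψ u')).Coprime q := by
    have h1 : orderOf (ψ u') ∣ orderOf u' := orderOf_map_dvd ψ u'
    have h2 : orderOf u' ∣ Nat.card ↥U := by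
      rw [← Subgroup.orderOf_coe, hu']
      have := orderOf_dvd_natCard (⟨u, hu⟩ : ↥U)
      rwa [Subgroup.orderOf_mk] at this
    exact Nat.Coprime.coprime_dvd_left (h1.trans h2) hUq
  have hc : Commute (ψ u') (ψ k' * ψ u' * (ψ k')⁻¹) := by
    rw [← map_inv, ← map_mul, ← map_mul]
    have : u' * (k' * u' * k'⁻¹) = (k' * u' * k'⁻¹) * u' := by
      apply Subtype.ext
      simp only [Subgroup.coe_mul, Subgroup.coe_inv, hu', hk']
      exact hUab u hu _ hkuU
    show ψ u' * ψ (k' * u' * k'⁻¹) = ψ (k' * u' * k'⁻¹) * ψ u'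
    rw [← map_mul, ← map_mul, this]
  have hkey := conj_eq_of_commute_small (V := ↥V) hq2
    (fun a b => Subtype.ext (hVab a a.2 b b.2)) (fun v => Subtype.ext (by
      rw [Subgroup.coe_pow]; exact hVexp v v.2)) hVc hτ hσ hc
  -- `k u k⁻¹ u⁻¹` centralizes `V`
  have hcV : k * u * k⁻¹ * u⁻¹ ∈ U ⊓ Subgroup.centralizer (V : Set G) := by
    refine ⟨U.mul_mem hkuU (U.inv_mem hu), ?_⟩
    show k * u * k⁻¹ * u⁻¹ ∈ Subgroup.centralizer (V : Set G)
    rw [Subgroup.mem_centralizer_iff]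
    intro v hv
    have h1 : (ψ k' * ψ u' * (ψ k')⁻¹) ((ψ u')⁻¹ ⟨v, hv⟩) = ⟨v, hv⟩ := by
      rw [hkey]; simp
    have h2 : ψ (k' * u' * k'⁻¹ * u'⁻¹) ⟨v, hv⟩ = ⟨v, hv⟩ := by
      rw [map_mul, map_mul, map_mul, map_inv, map_inv]
      exact h1
    have h3 := congrArg Subtype.val h2
    rw [hψapp] at h3
    simp only [Subgroup.coe_mul, Subgroup.coe_inv, hu', hk'] at h3
    -- h3 : c * v * c⁻¹ = v
    have h4 : k * u * k⁻¹ * u⁻¹ * v = v * (k * u * k⁻¹ * u⁻¹) := by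
      have := mul_inv_eq_iff_eq_mul.mp h3
      exact this
    exact h4.symm
  rw [hfaith, Subgroup.mem_bot] at hcV
  have h5 : k * u * k⁻¹ = u := mul_inv_eq_one.mp hcV
  have h6 : u ∈ U ⊓ Subgroup.centralizer ({k} : Set G) := by
    refine ⟨hu, ?_⟩
    show u ∈ Subgroup.centralizer ({k} : Set G)
    rw [Subgroup.mem_centralizer_iff]
    intro y hy
    rw [Set.mem_singleton_iff] at hy
    subst hy
    exact mul_inv_eq_iff_eq_mul.mp h5
  rwa [hreg, Subgroup.mem_bot] at h6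

/-- `V = Ω₁(Z(M_σ) ∩ O_q(M_σ))` -/
theorem exists_central_elementary (hG : Cfsg.IsMinSimpleOddOrder G) {M : Subgroup G}
    (hM : IsCoatom M) (hnil : Group.IsNilpotent ↥(Cfsg.sigmaCore M)) {q : ℕ} [hq : Fact q.Prime]
    (hqσ : q ∈ Cfsg.sigma M) :
    ∃ V : Subgroup G, V ≠ ⊥ ∧ V ≤ Cfsg.sigmaCore M ∧ M ≤ Subgroup.normalizer (V : Set G) ∧
      Cfsg.IsElementaryAbelian q V ∧ V ≤ Subgroup.centralizer (Cfsg.sigmaCore M : Set G) := by
  have hd := Cfsg.Agent.H2.BG11.dvd_card_sigmaCore hG hM hqσ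
  have hZ1 := Cfsg.Agent.H2.BGU.Zq_ne_bot_of_dvd hnil hd
  have hZle := Cfsg.Agent.H2.BGU.Zq_le q (Cfsg.sigmaCore M)
  have hZc := Cfsg.Agent.H2.BGU.Zq_le_centralizer q (Cfsg.sigmaCore M)
  have hZab : ∀ a ∈ Cfsg.Agent.H2.BGU.Zq q (Cfsg.sigmaCore M),
      ∀ b ∈ Cfsg.Agent.H2.BGU.Zq q (Cfsg.sigmaCore M), a * b = b * a := by
    intro a ha b hb
    exact (Subgroup.mem_centralizer_iff.mp (hZc ha) b (hZle hb)).symm
  refine ⟨Cfsg.Agent.H1.BG14.omegaAb q _ hZab, ?_, ?_, ?_,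
    Cfsg.Agent.H1.BG14.isElementaryAbelian_omegaAb q _ hZab, ?_⟩
  · obtain ⟨X, hXZ, hXc⟩ := exists_card_eq_le_of_pgroup
      (Cfsg.Agent.H2.BGU.isPGroup_Zq hq.out (Cfsg.sigmaCore M)) hZ1
    have hX1 : X ≠ ⊥ := ne_bot_of_card_prime hq.out hXc
    intro h0
    apply hX1
    apply le_bot_iff.mp
    rw [← h0]
    intro x hx
    refine ⟨hXZ hx, ?_⟩
    have := pow_card_eq_one' (G := ↥X) (x := ⟨x, hx⟩)
    rw [hXc] at this
    exact congrArg Subtype.val this
  · intro x hx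
    exact hZle hx.1
  · exact (Cfsg.Agent.H2.BG11.le_normalizer_sigmaCore M).trans
      ((Cfsg.Agent.H2.BGU.normalizer_le_normalizer_Zq q (Cfsg.sigmaCore M)).trans
        (Cfsg.Agent.H1.BG14.normalizer_le_normalizer_omegaAb q _ hZab))
  · intro x hx
    exact hZc hx.1

section main

variable {M K U Ms : Subgroup G}

/-- `C_G({u}) ≤ C_G({u ^ n})` -/
theorem centralizer_singleton_le_pow (u : G) (n : ℕ) :
    Subgroup.centralizer ({u} : Set G) ≤ Subgroup.centralizer ({u ^ n} : Set G) := by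
  intro y hy
  rw [Subgroup.mem_centralizer_iff] at hy ⊢
  intro z hz
  rw [Set.mem_singleton_iff] at hz
  subst hz
  have h1 : Commute u y := hy u rfl
  exact (h1.pow_left n).eq

/-- if every prime divisor of `|U|` has rank one in `M`, then `U` acts fixed-point-freely on
`M_σ` -/
theorem PData.fpf_of_rank_one (hG : Cfsg.IsMinSimpleOddOrder G) (h : PData M K U Ms)
    (hrk : ∀ t : ℕ, t.Prime → t ∣ Nat.card ↥U → Cfsg.PRankLE t 1 ↥M) :
    ∀ u ∈ U, u ≠ 1 → Cfsg.sigmaCore M ⊓ Subgroup.centralizer ({u} : Set G) = ⊥ := by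
  intro u hu hu1
  have hn1 : orderOf u ≠ 1 := fun h0 => hu1 (orderOf_eq_one_iff.mp h0)
  obtain ⟨t, ht, htn⟩ := Nat.exists_prime_and_dvd hn1
  haveI : Fact t.Prime := ⟨ht⟩
  have hn0 : orderOf u ≠ 0 := (orderOf_pos u).ne'
  have hou : orderOf (u ^ (orderOf u / t)) = t := orderOf_pow_orderOf_div hn0 htn
  have htU : t ∣ Nat.card ↥U := by
    have := orderOf_dvd_natCard (⟨u, hu⟩ : ↥U)
    rw [Subgroup.orderOf_mk] at this
    exact htn.trans this
  have hXU : Subgroup.zpowers (u ^ (orderOf u / t)) ≤ U := by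
    rw [Subgroup.zpowers_le]; exact U.pow_mem hu _
  have hXc : Nat.card ↥(Subgroup.zpowers (u ^ (orderOf u / t))) = t := by
    rw [Nat.card_zpowers, hou]
  by_contra hne
  apply h.not_mem_kappa htU
  apply Cfsg.Agent.Lib.Helper4.BG14.mem_kappa_of_fixed hG (h.not_mem_sigma hG htU)
    (hrk t ht htU) (hXU.trans h.UM) hXc
  intro h0
  apply hne
  apply le_bot_iff.mp
  rw [← h0]
  refine inf_le_inf_left _ ((centralizer_singleton_le_pow u (orderOf u / t)).trans ?_)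
  rw [Subgroup.le_centralizer_iff, Subgroup.zpowers_le, Subgroup.mem_centralizer_iff]
  intro y hy
  exact (Subgroup.mem_centralizer_iff.mp hy _ rfl).symm

/-- **the KILL**: no complement `E` of `H_σ` in a coatom `H` with `q ∈ τ₂(H) ∩ σ(M)` lies in a
conjugate of `M` (when `U` acts fixed-point-freely on `M_σ`) -/
theorem PData.not_compl_le_cj (hG : Cfsg.IsMinSimpleOddOrder G) (h : PData M K U Ms)
    (hrk : ∀ t : ℕ, t.Prime → t ∣ Nat.card ↥U → Cfsg.PRankLE t 1 ↥M)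
    {H E : Subgroup G} (hH : IsCoatom H) (hE : Cfsg.IsComplIn E (Cfsg.sigmaCore H) H) {q : ℕ}
    [hq : Fact q.Prime] (hqτ : q ∈ Cfsg.tau2 H) (hqσ : q ∈ Cfsg.sigma M) {g : G}
    (hEg : E ≤ cj g M) : False := by
  obtain ⟨A, hAE, hAe, hAc⟩ := exists_elementary_sq_le_compl hG hH hE hqτ
  have h18 := Cfsg.Agent.S1418.result hG H hH E hE q hqτ A ⟨hAE, hAe, hAc⟩
  have hCAE : Subgroup.centralizer (A : Set G) ≤ E := by
    have := h18.2.1.1
    rwa [h18.2.1.2.1] at this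
  obtain ⟨V, hV1, hVσ, hMV, hVe, hVc⟩ := exists_central_elementary hG h.coatomM h.nil hqσ
  -- `g⁻¹ A g ≤ M_σ`
  have hAM : cj g⁻¹ A ≤ M := by
    rw [cj_le_iff, inv_inv]; exact hAE.trans hEg
  have hAσ : cj g⁻¹ A ≤ Cfsg.sigmaCore M :=
    Cfsg.Agent.H2.BG11.le_sigmaCore_of_pgroup hG h.coatomM hqσ hAM
      (isPGroup_cj _ (isPGroup_of_elementary hAe))
  -- `g V g⁻¹ ≤ C_G(A) ≤ E`
  have hVA : cj g V ≤ Subgroup.centralizer (A : Set G) := by
    have h1 : V ≤ Subgroup.centralizer ((cj g⁻¹ A : Subgroup G) : Set G) :=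
      hVc.trans (Subgroup.centralizer_le (by exact_mod_cast hAσ))
    have h2 : Cfsg.Agent.Lib.Helper8.BGTen.cj g V ≤ Cfsg.Agent.Lib.Helper8.BGTen.cj g
        (Subgroup.centralizer ((Cfsg.Agent.Lib.Helper8.BGTen.cj g⁻¹ A : Subgroup G) : Set G)) :=
      cj_mono g h1
    rwa [cj_centralizer, Cfsg.Agent.Lib.Helper8.BGTen.cj_cj_inv] at h2
  have hVE : cj g V ≤ E := hVA.trans hCAE
  -- `g V g⁻¹ ≤ A`
  have hVleA : cj g V ≤ A := by
    intro x hx
    by_cases hx1 : x = 1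
    · rw [hx1]; exact A.one_mem
    · have hxq : x ^ q = 1 := by
        obtain ⟨v, hv, rfl⟩ := hx
        have := hVe.2 v hv
        simp only [MulEquiv.coe_toMonoidHom, MulAut.conj_apply]
        rw [conj_pow, this]; group
      have hox : orderOf x = q := by
        rcases (Nat.dvd_prime hq.out).mp (orderOf_dvd_of_pow_eq_one hxq) with h2 | h2
        · exact absurd (orderOf_eq_one_iff.mp h2) hx1
        · exact h2
      have := h18.1.2 (Subgroup.zpowers x) (by rw [Subgroup.zpowers_le]; exact hVE hx)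
        (by rw [Nat.card_zpowers, hox])
      exact this (Subgroup.mem_zpowers x)
  have hVcard : Nat.card ↥V = q ∨ Nat.card ↥V = q ^ 2 := by
    have hle : Nat.card ↥V ≤ q ^ 2 := by
      rw [← card_cj g V, ← hAc]
      exact Subgroup.card_le_of_le hVleA
    obtain ⟨n, hn⟩ := (isPGroup_of_elementary hVe).exists_card_eq
    rw [hn] at hle ⊢
    have hn2 : n ≤ 2 := (Nat.pow_le_pow_iff_right hq.out.one_lt).mp hle
    have hn0 : n ≠ 0 := by
      intro h0
      rw [h0, pow_zero] at hn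
      exact hV1 (Subgroup.card_eq_one.mp hn)
    interval_cases n
    · exact absurd rfl hn0
    · left; rw [pow_one]
    · right; rfl
  -- `U` acts faithfully on `V`
  have hfpf := h.fpf_of_rank_one hG hrk
  have hfaith : U ⊓ Subgroup.centralizer (V : Set G) = ⊥ := by
    rw [Subgroup.eq_bot_iff_forall]
    rintro u ⟨hu, huV⟩
    by_contra hu1
    apply hV1
    apply le_bot_iff.mp
    rw [← hfpf u hu hu1]
    refine le_inf hVσ ?_
    intro v hv
    show v ∈ Subgroup.centralizer ({u} : Set G)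
    rw [Subgroup.mem_centralizer_iff]
    intro y hy
    rw [Set.mem_singleton_iff] at hy
    subst hy
    exact (Subgroup.mem_centralizer_iff.mp huV v hv).symm
  have hUq : (Nat.card ↥U).Coprime q := by
    rw [Nat.coprime_comm, Nat.Prime.coprime_iff_not_dvd hq.out]
    intro hd
    exact Cfsg.Agent.H2.BG12.not_mem_sigma_of_dvd_U hG h.coatomM h.dec hq.out hd hqσ
  obtain ⟨⟨k, hk⟩, hk1'⟩ := (Subgroup.ne_bot_iff_exists_ne_one).mp h.K1
  have hk1 : k ≠ 1 := fun e => hk1' (Subtype.ext e)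
  exact h.U1 (eq_bot_of_small_action hG.1 (comm_of_isMulCommutative hVe.1) hVe.2 hVcard
    (h.UM.trans hMV) h.Uab hUq hfaith (hMV (h.KM hk)) (h.dec.normal hk) (h.reg k hk hk1))

end main

end Cfsg.Agent.Lib.Helper7.BG14P
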