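import Mathlib
import Cfsg.Agent.Lib.Helper7.BG14PD
import Cfsg.Agent.H1.BG1218A

/-!
# B&G Section 14 (helper7), part PE: clauses 5–6 of B&G 14.10 (S1435): `K ≤ F(H ∩ M*)` and
`H ∩ M*` is a complement of `H_σ` in `H`.
-/

set_option autoImplicit false
set_option linter.unusedSectionVars false
set_option linter.unusedVariables false
set_option linter.style.haveILetI false
set_option maxHeartbeats 1000000
open Cfsg
open scoped commutatorElement Pointwise

namespace Cfsg.Agent.Lib.Helper7.BG14P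

open Cfsg.Agent.Lib.Helper7 (IsSylowIn exists_isSylowIn_ge card_subgroupOf_of_le)
open Cfsg.Agent.Lib.Helper8.BGTen Cfsg.Agent.Lib.Helper4.BGTrans
open Cfsg.Agent.Lib.helper3.BG11 Cfsg.Agent.Lib.helper3.BG12 Cfsg.Agent.Lib.helper3.BG13
open Cfsg.Agent.Lib.Helper7.BG13

universe u

variable {G : Type u} [Group G] [Finite G]

/-- in a group `S` with a normal `q`-complement, a `q'`-group `K` normalizing a `q`-group `Q`
centralizes it -/
theorem le_centralizer_of_npc {S : Subgroup G} {q : ℕ} [hq : Fact q.Prime]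
    (hnpc : Cfsg.HasNormalPComplement q ↥S) {Q K : Subgroup G} (hQS : Q ≤ S) (hKS : K ≤ S)
    (hQ : IsPGroup q ↥Q) (hK : (Nat.card ↥K).Coprime q)
    (hKQ : K ≤ Subgroup.normalizer (Q : Set G)) : Q ≤ Subgroup.centralizer (K : Set G) := by
  obtain ⟨P, N, hN, hc⟩ := hnpc
  haveI := hN
  set N' : Subgroup G := N.map S.subtype with hN'
  have hN'S : N' ≤ S := Subgroup.map_subtype_le _
  have hn : S ≤ Subgroup.normalizer (N' : Set G) := by
    intro s hs
    rw [Subgroup.mem_normalizer_iff]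
    intro x
    constructor
    · rintro ⟨y, hy, rfl⟩
      exact ⟨⟨s, hs⟩ * y * ⟨s, hs⟩⁻¹, hN.conj_mem y hy _, by simp⟩
    · intro hx
      have hxS : x ∈ S := by
        have := hN'S hx
        have h2 : x = s⁻¹ * (s * x * s⁻¹) * s := by group
        rw [h2]
        exact S.mul_mem (S.mul_mem (S.inv_mem hs) this) hs
      obtain ⟨y, hy, e⟩ := hx
      refine ⟨⟨x, hxS⟩, ?_, rfl⟩
      have h3 := hN.conj_mem y hy ⟨s, hs⟩⁻¹
      have h4 : (⟨s, hs⟩ : ↥S)⁻¹ * y * (⟨s, hs⟩ : ↥S)⁻¹⁻¹ = ⟨x, hxS⟩ := by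
        apply Subtype.ext
        simp only [Subgroup.coe_mul, Subgroup.coe_inv, inv_inv]
        have e' : (y : G) = s * x * s⁻¹ := e
        rw [e']; group
      rwa [h4] at h3
  have hidx : N'.relIndex S = Nat.card ↥(P : Subgroup ↥S) := by
    have h1 : N'.relIndex S = N.index := by
      show ((N.map S.subtype).subgroupOf S).index = _
      congr 1
      exact Subgroup.comap_map_eq_self_of_injective S.subtype_injective _
    rw [h1]
    have h2 := hc.card_mul_card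
    have h3 := N.card_mul_index
    rw [← h3] at h2
    exact (Nat.eq_of_mul_eq_mul_left Nat.card_pos h2).symm
  obtain ⟨n, hn'⟩ := P.isPGroup'.exists_card_eq
  have hKN : K ≤ N' := by
    apply le_of_coprime_relIndex hKS hN'S hn
    rw [hidx, hn']
    exact Nat.Coprime.pow_right n hK
  have hcardN' : Nat.card ↥N' = Nat.card ↥N :=
    Subgroup.card_map_of_injective S.subtype_injective
  have hNq : (Nat.card ↥N').Coprime q := by
    rw [hcardN', Nat.coprime_comm, Nat.Prime.coprime_iff_not_dvd hq.out]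
    intro hd
    have h2 := hc.card_mul_card
    have h1 := P.not_dvd_index
    apply h1
    have h3 : Nat.card ↥N = (P : Subgroup ↥S).index := by
      have h5 := (P : Subgroup ↥S).card_mul_index
      have h4 : Nat.card ↥(P : Subgroup ↥S) * Nat.card ↥N
          = Nat.card ↥(P : Subgroup ↥S) * (P : Subgroup ↥S).index := by
        rw [h5, mul_comm, h2]
      exact Nat.eq_of_mul_eq_mul_left Nat.card_pos h4
    rwa [← h3]
  have hdisj : Q ⊓ N' = ⊥ := by
    apply (Subgroup.disjoint_of_coprime_natCard ?_).eq_bot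
    obtain ⟨m, hm⟩ := hQ.exists_card_eq
    rw [hm]
    exact (Nat.Coprime.pow_right m hNq).symm
  intro x hx
  rw [Subgroup.mem_centralizer_iff]
  intro k hk
  have h1 : x * k * x⁻¹ * k⁻¹ ∈ N' := by
    have := (Subgroup.mem_normalizer_iff.mp (hn (hQS hx)) k).mp (hKN hk)
    exact N'.mul_mem this (N'.inv_mem (hKN hk))
  have h2 : x * k * x⁻¹ * k⁻¹ ∈ Q := by
    have := (Subgroup.mem_normalizer_iff.mp (hKQ hk) x⁻¹).mp (Q.inv_mem hx)
    have e : x * k * x⁻¹ * k⁻¹ = x * (k * x⁻¹ * k⁻¹) := by group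
    rw [e]
    exact Q.mul_mem hx this
  have h3 : x * k * x⁻¹ * k⁻¹ ∈ Q ⊓ N' := ⟨h2, h1⟩
  rw [hdisj, Subgroup.mem_bot] at h3
  have : x * k = k * x := by
    calc x * k = (x * k * x⁻¹ * k⁻¹) * (k * x) := by group
      _ = k * x := by rw [h3, one_mul]
  exact this.symm

section main

variable {M K U Ms H : Subgroup G}

/-- **19.3'**: `K` centralizes every `K`-invariant Sylow `q`-subgroup (`q ≠ p`) of a complement
`E ⊇ K` of `H_σ` in `H` -/
theorem PData.sylow_le_centralizer (hG : Cfsg.IsMinSimpleOddOrder G) (h : PData M K U Ms)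
    {r : ℕ} [hr : Fact r.Prime] {R : Subgroup G} (hR : IsSylowIn r R U) (hR1 : R ≠ ⊥)
    (hH : IsCoatom H) (hNR : Subgroup.normalizer (R : Set G) ≤ H) {E : Subgroup G}
    (hE : Cfsg.IsComplIn E (Cfsg.sigmaCore H) H) (hKE : K ≤ E) {q : ℕ} [hq : Fact q.Prime]
    (hqp : q ≠ Nat.card ↥K) {Q : Subgroup G} (hQ : IsSylowIn q Q E)
    (hKQ : K ≤ Subgroup.normalizer (Q : Set G)) : Q ≤ Subgroup.centralizer (K : Set G) := by
  by_contra hQK
  haveI hpf : Fact (Nat.card ↥K).Prime := ⟨h.Kprime⟩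
  have hpσH := h.p_not_mem_sigma hG hR hR1 hH hNR
  have hκH := h.kappa_eq_empty hG hR hR1 hH hNR
  have hHMs := h.ne_Ms hR hR1 hNR
  have hUKH := h.UK_le hR hNR
  have hKH : K ≤ H := le_sup_right.trans hUKH
  have hCK := h.sigmaCore_H_inf_centralizer hG hR hR1 hH hNR
  have hUσ := h.U_le_sigmaCore hG hR hR1 hH hNR
  have hQE : Q ≤ E := hQ.1
  have hEH : E ≤ H := hE.1
  have hQp : IsPGroup q ↥Q := hQ.isPGroup
  have hnH := Cfsg.Agent.H2.BG11.le_normalizer_sigmaCore H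
  have hσH := Cfsg.Agent.H2.BG11.sigmaCore_le H
  have hcopE := Cfsg.Agent.H2.BG12.coprime_compl hG hH hE
  -- Lemma A
  have hcomm : ⁅Q, K⁆ ≤ Subgroup.centralizer (Cfsg.sigmaCore H : Set G) := by
    have hle : Cfsg.sigmaCore H ⊔ Q ⊔ K ≤ H := sup_le (sup_le hσH (hQE.trans hEH)) hKH
    apply Cfsg.Agent.H1.BG1218.hh_fix_sub (Cfsg.sigmaCore H) Q K _ h.Kprime rfl
      ((hQE.trans hEH).trans hnH) (hKH.trans hnH) hKQ
      (Cfsg.Agent.H2.BGU.solvable_of_le_coatom hG hH hle)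
      (Odd.of_dvd_nat hG.1 (Subgroup.card_subgroup_dvd_card _))
    · exact coprime_sigmaCore_of_forall hG hH (Y := K) (by
        intro t ht hd
        rw [(Nat.prime_dvd_prime_iff_eq ht h.Kprime).mp hd]
        exact hpσH)
    · obtain ⟨n, hn⟩ := hQp.exists_card_eq
      rw [hn]
      exact Nat.Coprime.pow_right n ((Nat.coprime_primes h.Kprime hq.out).mpr (Ne.symm hqp))
    · exact Nat.Coprime.coprime_dvd_left (Subgroup.card_dvd_of_le hQE) hcopE
    · rw [hCK]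
      intro x _
      rw [Subgroup.mem_centralizer_iff]
      intro y hy
      rw [SetLike.mem_coe, Subgroup.mem_bot] at hy
      rw [hy, one_mul, mul_one]
  have hne : ⁅Q, K⁆ ≠ ⊥ := fun e => hQK (Subgroup.commutator_eq_bot_iff_le_centralizer.mp e)
  have hcQ : ⁅Q, K⁆ ≤ Q := Cfsg.Agent.H1.BG1218.commutator_le_left_of_le_normalizer hKQ
  obtain ⟨X, hXle, hXc⟩ := exists_card_eq_le_of_pgroup (hQp.to_le hcQ) hne
  have hXE : X ≤ E := (hXle.trans hcQ).trans hQE
  have hXH : X ≤ H := hXE.trans hEH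
  have hXC : X ≤ Subgroup.centralizer (Cfsg.sigmaCore H : Set G) := hXle.trans hcomm
  have hX1 : X ≠ ⊥ := ne_bot_of_card_prime hq.out hXc
  -- every prime divisor of `|U|` has rank one in `M`
  have hrk : ∀ t : ℕ, t.Prime → t ∣ Nat.card ↥U → Cfsg.PRankLE t 1 ↥M := by
    intro t ht htU
    haveI : Fact t.Prime := ⟨ht⟩
    obtain ⟨Rt, hRt⟩ := exists_isSylowIn t U
    have hRtM := sylowIn_M hG h.coatomM h.dec hRt htU
    rcases sq_or_rank_one hG h.coatomM hRtM (htU.trans (Subgroup.card_dvd_of_le h.UM))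
      (h.not_mem_sigma hG htU) with ⟨hτM, A, hAR, hAe, hAc⟩ | h1
    · exfalso
      have hAU : A ≤ U := hAR.trans hRt.1
      have hCA := h.centralizer_le_U hG hτM hAU hAe hAc
      have hXU : X ≤ U :=
        (hXC.trans (Subgroup.centralizer_le (by exact_mod_cast hAU.trans hUσ))).trans hCA
      apply hX1
      apply le_bot_iff.mp
      rw [← hE.2.2.1]
      exact le_inf hXE (hXU.trans hUσ)
    · exact h1
  -- `q ∈ τ₂(H)`
  have hqE : q ∣ Nat.card ↥E := by rw [← hXc]; exact Subgroup.card_dvd_of_le hXE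
  have hqσH : q ∉ Cfsg.sigma H := Cfsg.Agent.H2.BG12.not_mem_sigma_of_dvd_compl hG hH hE hq.out hqE
  have hqH : q ∣ Nat.card ↥H := hqE.trans (Subgroup.card_dvd_of_le hEH)
  have hfixX : Cfsg.sigmaCore H ⊓ Subgroup.centralizer (X : Set G) ≠ ⊥ := by
    have : Cfsg.sigmaCore H ≤ Subgroup.centralizer (X : Set G) := by
      intro y hy
      rw [Subgroup.mem_centralizer_iff]
      intro x hx
      exact (Subgroup.mem_centralizer_iff.mp (hXC hx) y hy).symm
    rw [inf_eq_left.mpr this]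
    exact sigmaCore_ne_bot hG hH
  have hqτ : q ∈ Cfsg.tau2 H := by
    rcases Cfsg.Agent.H2.BG13.tau_cases hG hH hq.out hqH hqσH with h1 | h2 | h3
    · exfalso
      have := Cfsg.Agent.Lib.Helper4.BG14.mem_kappa_of_fixed hG hqσH h1.2.2.2.2 hXH hXc hfixX
      rw [hκH] at this
      exact this
    · exact h2
    · exfalso
      have := Cfsg.Agent.Lib.Helper4.BG14.mem_kappa_of_fixed hG hqσH h3.2.2.2 hXH hXc hfixX
      rw [hκH] at this
      exact this
  obtain ⟨A, hAE, hAe, hAc⟩ := exists_elementary_sq_le_compl hG hH hE hqτ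
  have hAH : A ≤ H := hAE.trans hEH
  have hAp : IsPGroup q ↥A := isPGroup_of_elementary hAe
  have h18 := Cfsg.Agent.S1418.result hG H hH E hE q hqτ A ⟨hAE, hAe, hAc⟩
  have hEA : E ≤ Subgroup.normalizer (A : Set G) := h18.1.1
  have h17 := Cfsg.Agent.S1417.result hG H hH q hqτ A ⟨hAH, hAe, hAc⟩
  have hCσA : Cfsg.sigmaCore H ⊓ Subgroup.centralizer (A : Set G) = ⊥ := h17.2.2.2.1
  have hA1 : A ≠ ⊥ := Cfsg.Agent.H1.BG14.ne_bot_of_card_sq hAc
  have hAt : A ≠ ⊤ := ne_top_of_le_coatom hH hAH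
  -- `C_A(K) ≠ 1`
  have hAK : A ⊓ Subgroup.centralizer (K : Set G) ≠ ⊥ := by
    intro hAK
    have hAKdisj : A ⊓ K = ⊥ := by
      apply (Subgroup.disjoint_of_coprime_natCard ?_).eq_bot
      rw [hAc]
      exact Nat.Coprime.pow_left 2 ((Nat.coprime_primes hq.out h.Kprime).mpr hqp)
    have hfrob : ∀ k ∈ K, k ≠ 1 → A ⊓ Subgroup.centralizer ({k} : Set G) = ⊥ := by
      intro k hk hk1
      rw [centralizer_singleton_of_prime_card h.Kprime rfl hk hk1]
      exact hAK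
    have hcop2 : (Nat.card ↥(A ⊔ K)).Coprime (Nat.card ↥(Cfsg.sigmaCore H)) :=
      Nat.Coprime.coprime_dvd_left (Subgroup.card_dvd_of_le (sup_le hAE hKE)) hcopE
    have := le_centralizer_of_frobenius A K (Cfsg.sigmaCore H) hA1 h.K1 hAKdisj (hKE.trans hEA)
      hfrob (Cfsg.Agent.H2.BGU.solvable_of_le_coatom hG hH hσH)
      (hAH.trans hnH) (hKH.trans hnH) hcop2 hCK
    apply sigmaCore_ne_bot hG hH
    rw [← hCσA]
    exact (inf_eq_left.mpr this).symm
  obtain ⟨A1, hA1le, hA1c⟩ := exists_card_eq_le_of_pgroup (hAp.to_le inf_le_left) hAK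
  have hA1A : A1 ≤ A := hA1le.trans inf_le_left
  have hA1ne : A1 ≠ ⊥ := ne_bot_of_card_prime hq.out hA1c
  -- a maximal subgroup `L ⊇ N_G(A)`
  obtain ⟨L, hL, hNL⟩ := exists_coatom_normalizer_le hG hA1 hAt
  have hEL : E ≤ L := hEA.trans hNL
  have hKL : K ≤ L := hKE.trans hEL
  obtain ⟨hqσL, hqβL⟩ :=
    Cfsg.Agent.H1.BG14.tau2_subset_sigma hG hH hE hqτ ⟨hAE, hAe, hAc⟩ hL hNL q hqτ
  have hA1σ : A1 ≤ Cfsg.sigmaCore L :=
    Cfsg.Agent.H2.BG11.le_sigmaCore_of_pgroup hG hL hqσL ((hA1A.trans hAE).trans hEL)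
      (hAp.to_le hA1A)
  have hfixK : Cfsg.sigmaCore L ⊓ Subgroup.centralizer (K : Set G) ≠ ⊥ := by
    intro h0
    apply hA1ne
    apply le_bot_iff.mp
    rw [← h0]
    exact le_inf hA1σ (hA1le.trans inf_le_right)
  have hpL : Nat.card ↥K ∣ Nat.card ↥L := Subgroup.card_dvd_of_le hKL
  by_cases hpσL : Nat.card ↥K ∈ Cfsg.sigma L
  · -- `L = M*`
    obtain ⟨g, hg⟩ := (Cfsg.Agent.S1378.result hG).2 Ms L h.coatom hL
      ⟨_, h.p_mem_sigma hG, hpσL⟩
    have hLMs := h.eq_of_cj hKL hg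
    rw [hLMs] at hqσL hqβL hEL
    have hnpc : Cfsg.HasNormalPComplement q ↥(Cfsg.sigmaCore Ms) :=
      ((Cfsg.Agent.S1414.result hG Ms h.coatom).2.2.2.2 q hq.out hqσL.2.1 hqβL).2.1
    have hQσ : Q ≤ Cfsg.sigmaCore Ms :=
      Cfsg.Agent.H2.BG11.le_sigmaCore_of_pgroup hG h.coatom hqσL (hQE.trans hEL) hQp
    exact hQK (le_centralizer_of_npc hnpc hQσ h.KMs hQp
      ((Nat.coprime_primes h.Kprime hq.out).mpr (Ne.symm hqp)) hKQ)
  · by_cases hrkL : Cfsg.PRankLE (Nat.card ↥K) 1 ↥L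
    · have hκ : Nat.card ↥K ∈ Cfsg.kappa L :=
        Cfsg.Agent.Lib.Helper4.BG14.mem_kappa_of_fixed hG hpσL hrkL hKL rfl hfixK
      obtain ⟨g, hg | hg⟩ := h.two L hL ⟨_, hκ⟩
      · have hqσM : q ∈ Cfsg.sigma M := by
          rw [hg, Cfsg.Agent.H2.BG11.sigma_cj] at hqσL
          exact hqσL
        exact h.not_compl_le_cj hG hrk hH hE hqτ hqσM (g := g) (hg ▸ hEL)
      · apply hpσL
        rw [hg, Cfsg.Agent.H2.BG11.sigma_cj]
        exact h.p_mem_sigma hG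
    · have hτL : Nat.card ↥K ∈ Cfsg.tau2 L := by
        rcases Cfsg.Agent.H2.BG13.tau_cases hG hL h.Kprime hpL hpσL with h1 | h2 | h3
        · exact absurd h1.2.2.2.2 hrkL
        · exact h2
        · exact absurd h3.2.2.2 hrkL
      have := (normalizer_le_of_tau2_fixed hG hL hτL hKL rfl hfixK).2 Ms h.coatom
        (h.centralizer_le hG)
      apply hpσL
      rw [← this]
      exact h.p_mem_sigma hG

/-- `H_σ ∩ M*_σ = 1` -/
theorem PData.sigmaCore_H_inf_sigmaCore_Ms (hG : Cfsg.IsMinSimpleOddOrder G) (h : PData M K U Ms)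
    {r : ℕ} [hr : Fact r.Prime] {R : Subgroup G} (hR : IsSylowIn r R U) (hR1 : R ≠ ⊥)
    (hH : IsCoatom H) (hNR : Subgroup.normalizer (R : Set G) ≤ H) :
    Cfsg.sigmaCore H ⊓ Cfsg.sigmaCore Ms = ⊥ := by
  apply (Subgroup.disjoint_of_coprime_natCard ?_).eq_bot
  apply Nat.coprime_of_dvd
  intro q hq hd1 hd2
  exact h.sigma_disjoint_Ms hG hR hR1 hH hNR
    (Cfsg.Agent.H2.BG11.mem_sigma_of_dvd_sigmaCore hG hH hq hd1)
    (Cfsg.Agent.H2.BG11.mem_sigma_of_dvd_sigmaCore hG h.coatom hq hd2)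

/-- `H_σ ∩ M* = 1` -/
theorem PData.sigmaCore_H_inf_Ms (hG : Cfsg.IsMinSimpleOddOrder G) (h : PData M K U Ms)
    {r : ℕ} [hr : Fact r.Prime] {R : Subgroup G} (hR : IsSylowIn r R U) (hR1 : R ≠ ⊥)
    (hH : IsCoatom H) (hNR : Subgroup.normalizer (R : Set G) ≤ H) :
    Cfsg.sigmaCore H ⊓ Ms = ⊥ := by
  have hCK := h.sigmaCore_H_inf_centralizer hG hR hR1 hH hNR
  have hdis := h.sigmaCore_H_inf_sigmaCore_Ms hG hR hR1 hH hNR
  have hKH : K ≤ H := le_sup_right.trans (h.UK_le hR hNR)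
  have hnH := Cfsg.Agent.H2.BG11.le_normalizer_sigmaCore H
  have hnMs := Cfsg.Agent.H2.BG11.le_normalizer_sigmaCore Ms
  apply le_bot_iff.mp
  rw [← hCK]
  refine le_inf inf_le_left ?_
  rintro x ⟨hxσ, hxMs⟩
  rw [Subgroup.mem_centralizer_iff]
  intro k hk
  have h1 : x * k * x⁻¹ * k⁻¹ ∈ Cfsg.sigmaCore Ms := by
    have := (Subgroup.mem_normalizer_iff.mp (hnMs hxMs) k).mp (h.KMs hk)
    exact (Cfsg.sigmaCore Ms).mul_mem this ((Cfsg.sigmaCore Ms).inv_mem (h.KMs hk))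
  have h2 : x * k * x⁻¹ * k⁻¹ ∈ Cfsg.sigmaCore H := by
    have := (Subgroup.mem_normalizer_iff.mp (hnH (hKH hk)) x⁻¹).mp
      ((Cfsg.sigmaCore H).inv_mem hxσ)
    have e : x * k * x⁻¹ * k⁻¹ = x * (k * x⁻¹ * k⁻¹) := by group
    rw [e]
    exact (Cfsg.sigmaCore H).mul_mem hxσ this
  have h3 : x * k * x⁻¹ * k⁻¹ ∈ Cfsg.sigmaCore H ⊓ Cfsg.sigmaCore Ms := ⟨h2, h1⟩
  rw [hdis, Subgroup.mem_bot] at h3
  have : x * k = k * x := by
    calc x * k = (x * k * x⁻¹ * k⁻¹) * (k * x) := by group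
      _ = k * x := by rw [h3, one_mul]
  exact this.symm

/-- **(6a)** a complement `E ⊇ K` of `H_σ` in `H` lies in `M*`, and `K ⊴ E` or `K` lies in a
normal abelian subgroup of `E` -/
theorem PData.compl_le (hG : Cfsg.IsMinSimpleOddOrder G) (h : PData M K U Ms)
    {r : ℕ} [hr : Fact r.Prime] {R : Subgroup G} (hR : IsSylowIn r R U) (hR1 : R ≠ ⊥)
    (hH : IsCoatom H) (hNR : Subgroup.normalizer (R : Set G) ≤ H) {E : Subgroup G}
    (hE : Cfsg.IsComplIn E (Cfsg.sigmaCore H) H) (hKE : K ≤ E) :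
    E ≤ Ms ∧ K ≤ Cfsg.fittingOf E := by
  haveI hpf : Fact (Nat.card ↥K).Prime := ⟨h.Kprime⟩
  have hpσH := h.p_not_mem_sigma hG hR hR1 hH hNR
  have hHMs := h.ne_Ms hR hR1 hNR
  have hEH : E ≤ H := hE.1
  have hKH : K ≤ H := hKE.trans hEH
  have hpH : Nat.card ↥K ∣ Nat.card ↥H := Subgroup.card_dvd_of_le hKH
  have hKnil : Group.IsNilpotent ↥K := by
    haveI : IsCyclic ↥K := isCyclic_of_prime_card rfl
    haveI : IsMulCommutative ↥K := IsCyclic.isMulCommutative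
    letI : CommGroup ↥K := { (inferInstance : Group ↥K) with mul_comm := fun a b => mul_comm' a b }
    exact CommGroup.isNilpotent
  -- it suffices to show `E ≤ N_G(K)`
  have key : E ≤ Subgroup.normalizer (K : Set G) → E ≤ Ms ∧ K ≤ Cfsg.fittingOf E := fun hn =>
    ⟨hn.trans (h.normalizer_le hG), Cfsg.Agent.H2.BGU.le_fittingOf hKE hn hKnil⟩
  rcases Cfsg.Agent.H2.BG13.tau_cases hG hH h.Kprime hpH hpσH with h1 | h2 | h3
  · -- `p ∈ τ₁(H)`
    apply key
    refine le_trans ?_ (Subgroup.centralizer_le_normalizer (K : Set G))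
    haveI hEs : Group.IsSolvable ↥E := Cfsg.Agent.H2.BGU.solvable_of_le_coatom hG hH hEH
    set π : Set ℕ := {t | t.Prime ∧ t ≠ Nat.card ↥K} with hπ
    obtain ⟨N₀, hN₀⟩ := Cfsg.Agent.H1.exists_isPiHallOf π E inferInstance
    have hE'E : ⁅E, E⁆ ≤ E := Subgroup.commutator_le.mpr (fun a ha b hb =>
      E.mul_mem (E.mul_mem (E.mul_mem ha hb) (E.inv_mem ha)) (E.inv_mem hb))
    have hE'π : Cfsg.Agent.H1.PiNum π (Nat.card ↥⁅E, E⁆) := by
      intro t ht htd
      refine ⟨ht, ?_⟩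
      rintro rfl
      exact h1.2.2.2.1 (htd.trans (Subgroup.card_dvd_of_le (Subgroup.commutator_mono hEH hEH)))
    obtain ⟨g, hgE, hE'g⟩ :=
      Cfsg.Agent.H1.isPiHallOf_dominance π N₀ E ⁅E, E⁆ inferInstance hN₀ hE'E hE'π
    have hN : Cfsg.IsPiHallOf π (cj g N₀) E :=
      Cfsg.Agent.H1.isPiHallOf_map_conj π N₀ E hN₀ g (Subgroup.le_normalizer hgE)
    set N : Subgroup G := cj g N₀ with hNdef
    have hNE : N ≤ E := hN.1
    have hEN : E ≤ Subgroup.normalizer (N : Set G) := by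
      intro e he
      have hmem : ∀ e' ∈ E, ∀ n ∈ N, e' * n * e'⁻¹ ∈ N := by
        intro e' he' n hn
        have h4 : e' * n * e'⁻¹ * n⁻¹ ∈ ⁅E, E⁆ :=
          Subgroup.commutator_mem_commutator he' (hNE hn)
        have e5 : e' * n * e'⁻¹ = (e' * n * e'⁻¹ * n⁻¹) * n := by group
        rw [e5]
        exact N.mul_mem (hE'g h4) hn
      rw [Subgroup.mem_normalizer_iff]
      intro x
      constructor
      · exact hmem e he x
      · intro hx
        have := hmem e⁻¹ (E.inv_mem he) _ hx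
        have e6 : e⁻¹ * (e * x * e⁻¹) * e⁻¹⁻¹ = x := by group
        rwa [e6] at this
    have hcopKN : (Nat.card ↥K).Coprime (Nat.card ↥N) := by
      rw [Nat.Prime.coprime_iff_not_dvd h.Kprime]
      intro hd
      exact (hN.2.1 _ h.Kprime hd).2 rfl
    apply Cfsg.Agent.H1.BG11c.le_of_forall_sylIn_le
    intro q hq
    by_cases hqp : q = Nat.card ↥K
    · subst hqp
      have hKp : IsPGroup (Nat.card ↥K) ↥K := IsPGroup.of_card (n := 1) (by rw [pow_one])
      obtain ⟨P, hP, hKP⟩ := exists_isSylowIn_ge hKp hKE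
      refine ⟨P, hP, ?_⟩
      have hab := Cfsg.Agent.H2.BG12.comm_of_pgroup_not_sigma hG (Cfsg.Agent.H2.BG12.st1417 hG)
        hH hpσH (hP.1.trans hEH) hP.isPGroup
      exact le_centralizer_of_comm hab hKP
    · obtain ⟨Q, hQN, hKQ⟩ := Cfsg.Agent.H2.BG11.exists_inv_sylow' (q := q) (hKE.trans hEN) hcopKN
        (Cfsg.Agent.H2.BGU.solvable_of_le_coatom hG hH (hNE.trans hEH))
      have hQE : IsSylowIn q Q E := by
        apply sylIn_of_not_dvd (hQN.1.trans hNE) hQN.isPGroup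
        rw [← Subgroup.relIndex_mul_relIndex Q N E hQN.1 hNE]
        intro hd
        rcases (Nat.Prime.dvd_mul hq.out).mp hd with h4 | h4
        · exact Cfsg.Agent.Lib.Helper8.BGTen.not_dvd_relIndex_of_sylIn hQN h4
        · exact hN.2.2 q hq.out ⟨hq.out, hqp⟩ h4
      exact ⟨Q, hQE, h.sylow_le_centralizer hG hR hR1 hH hNR hE hKE hqp hQE hKQ⟩
  · -- `p ∈ τ₂(H)`
    refine ⟨(h.compl_le_of_tau2 hG hH hHMs hE hKE h2).1, ?_⟩
    obtain ⟨B, hBE, hBe, hBc⟩ := exists_elementary_sq_le_compl hG hH hE h2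
    have h18 := Cfsg.Agent.S1418.result hG H hH E hE _ h2 B ⟨hBE, hBe, hBc⟩
    have hKB : K ≤ B := h18.1.2 K hKE rfl
    have hBnil : Group.IsNilpotent ↥B := by
      haveI : IsMulCommutative ↥B := hBe.1
      letI : CommGroup ↥B :=
        { (inferInstance : Group ↥B) with mul_comm := fun a b => mul_comm' a b }
      exact CommGroup.isNilpotent
    exact hKB.trans (Cfsg.Agent.H2.BGU.le_fittingOf hBE h18.1.1 hBnil)
  · -- `p ∈ τ₃(H)`
    exact key (tau3_sub hG hH hE h3 hKE rfl).1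

/-- **(6)** `K ≤ F(H ∩ M*)` and `H ∩ M*` is a complement of `H_σ` in `H` -/
theorem PData.inf_Ms (hG : Cfsg.IsMinSimpleOddOrder G) (h : PData M K U Ms)
    {r : ℕ} [hr : Fact r.Prime] {R : Subgroup G} (hR : IsSylowIn r R U) (hR1 : R ≠ ⊥)
    (hH : IsCoatom H) (hNR : Subgroup.normalizer (R : Set G) ≤ H) :
    K ≤ Cfsg.fittingOf (H ⊓ Ms) ∧ Cfsg.IsComplIn (H ⊓ Ms) (Cfsg.sigmaCore H) H := by
  have hpσH := h.p_not_mem_sigma hG hR hR1 hH hNR
  have hKH : K ≤ H := le_sup_right.trans (h.UK_le hR hNR)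
  have hcop : (Nat.card ↥K).Coprime (Nat.card ↥(Cfsg.sigmaCore H)) :=
    coprime_sigmaCore_of_forall hG hH (Y := K) (by
      intro t ht hd
      rw [(Nat.prime_dvd_prime_iff_eq ht h.Kprime).mp hd]
      exact hpσH)
  obtain ⟨E, hE, hKE⟩ := exists_compl_ge hG hH hKH hcop
  obtain ⟨hEMs, hKF⟩ := h.compl_le hG hR hR1 hH hNR hE hKE
  have hdis := h.sigmaCore_H_inf_Ms hG hR hR1 hH hNR
  have heq : H ⊓ Ms = E := by
    apply le_antisymm
    · rintro x ⟨hxH, hxMs⟩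
      obtain ⟨e, he, s, hs, rfl⟩ := hE.2.2.2 x hxH
      have hsMs : s ∈ Ms := by
        have : s = e⁻¹ * (e * s) := by group
        rw [this]
        exact Ms.mul_mem (Ms.inv_mem (hEMs he)) hxMs
      have : s ∈ Cfsg.sigmaCore H ⊓ Ms := ⟨hs, hsMs⟩
      rw [hdis, Subgroup.mem_bot] at this
      rw [this, mul_one]
      exact he
    · exact le_inf hE.1 hEMs
  rw [heq]
  exact ⟨hKF, hE⟩

end main

end Cfsg.Agent.Lib.Helper7.BG14P
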