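import Mathlib
import Cfsg.Agent.Lib.Helper7.BG14PE
import Cfsg.Agent.Lib.Helper4.BG14I
import Cfsg.Agent.Lib.helper3.BG14E
import Cfsg.Agent.S1353
import Cfsg.Agent.S1366
import Cfsg.Agent.S1367
import Cfsg.Agent.S1368
import Cfsg.Agent.S1369
import Cfsg.Agent.S1431

/-!
# B&G Section 14 (helper7), part PF: discharging `PData`; B&G 14.10 (S1435) and S1363.
-/

set_option autoImplicit false
set_option linter.unusedSectionVars false
set_option linter.unusedVariables false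
set_option linter.style.haveILetI false
set_option maxHeartbeats 1000000
open Cfsg
open scoped commutatorElement Pointwise

namespace Cfsg.Agent.Lib.Helper7.BG14P

open Cfsg.Agent.Lib.Helper7 (IsSylowIn exists_isSylowIn_ge card_subgroupOf_of_le)
open Cfsg.Agent.Lib.Helper8.BGTen Cfsg.Agent.Lib.Helper4.BGTrans
open Cfsg.Agent.Lib.helper3.BG11 Cfsg.Agent.Lib.helper3.BG12 Cfsg.Agent.Lib.helper3.BG13
open Cfsg.Agent.Lib.Helper7.BG13

universe u

variable {G : Type u} [Group G] [Finite G] {M K U Ms : Subgroup G}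

/-- the `PData` configuration holds for every `M = M_σ U K` with `K ≠ 1 ≠ U` and its partner -/
theorem pdata (hG : Cfsg.IsMinSimpleOddOrder G) (hM : IsCoatom M)
    (hKU : Cfsg.IsSigmaDecomposition M K U) (hK1 : K ≠ ⊥) (hU1 : U ≠ ⊥) (hMs : IsCoatom Ms)
    (hKst : K = Cfsg.sigmaCore Ms ⊓ Subgroup.centralizer
      ((Cfsg.sigmaCore M ⊓ Subgroup.centralizer (K : Set G) : Subgroup G) : Set G))
    (hKstH : Cfsg.IsPiHallOf (Cfsg.kappa Ms)
      (Cfsg.sigmaCore M ⊓ Subgroup.centralizer (K : Set G)) Ms) : PData M K U Ms :=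
  PData.of_hyps hG hM hKU hU1 (Cfsg.Agent.S1353.result hG M hM K U hKU)
    (Cfsg.Agent.Lib.Helper4.BG14.card_prime_of_isSigmaDecomposition hG hM hKU hK1 hU1) hMs hKst
    hKstH (Cfsg.Agent.S1367.result hG M hM K U hKU hK1 Ms hMs hKst hKstH)
    (Cfsg.Agent.S1368.result hG M hM K U hKU hK1 Ms hMs hKst hKstH).1
    (Cfsg.Agent.S1369.result hG M hM K U hKU hK1 Ms hMs hKst hKstH).2
    (Cfsg.Agent.S1431.result hG Ms hMs _ hKstH
      (Cfsg.Agent.Lib.helper3.BG14.Kst_ne_bot hG hM hKU.hall hK1)).1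

/-- the partner exists -/
theorem exists_pdata (hG : Cfsg.IsMinSimpleOddOrder G) (hM : IsCoatom M)
    (hKU : Cfsg.IsSigmaDecomposition M K U) (hK1 : K ≠ ⊥) (hU1 : U ≠ ⊥) :
    ∃ Ms : Subgroup G, PData M K U Ms := by
  obtain ⟨Ms, ⟨hMs, hKst, hKstH⟩, _⟩ := Cfsg.Agent.S1366.result hG M hM K U hKU hK1
  exact ⟨Ms, pdata hG hM hKU hK1 hU1 hMs hKst hKstH⟩

/-- **S1363** -/
theorem s1363 (hG : Cfsg.IsMinSimpleOddOrder G) (hM : IsCoatom M)
    (hKU : Cfsg.IsSigmaDecomposition M K U) (hK1 : K ≠ ⊥) :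
    IsMulCommutative ↥U ∧ ¬ Subgroup.normalizer (U : Set G) ≤ M := by
  have hab := comm_of_reg hG hM hKU hK1 (Cfsg.Agent.S1353.result hG M hM K U hKU)
  refine ⟨⟨⟨fun a b => Subtype.ext (hab a a.2 b b.2)⟩⟩, ?_⟩
  by_cases hU1 : U = ⊥
  · intro hle
    apply hM.1
    apply top_le_iff.mp
    refine le_trans ?_ hle
    rw [hU1]
    intro x _
    rw [Subgroup.mem_normalizer_iff]
    intro y
    rw [Subgroup.mem_bot, Subgroup.mem_bot]
    constructor
    · rintro rfl; group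
    · intro hy
      have : y = x⁻¹ * (x * y * x⁻¹) * x := by group
      rw [this, hy]; group
  · obtain ⟨Ms, h⟩ := exists_pdata hG hM hKU hK1 hU1
    exact h.normalizer_not_le hG

/-- **S1435 = B&G 14.10** -/
theorem s1435 (hG : Cfsg.IsMinSimpleOddOrder G) (hM : IsCoatom M)
    (hKU : Cfsg.IsSigmaDecomposition M K U) (hK1 : K ≠ ⊥) (hU1 : U ≠ ⊥) (hMs : IsCoatom Ms)
    (hKst : K = Cfsg.sigmaCore Ms ⊓ Subgroup.centralizer
      ((Cfsg.sigmaCore M ⊓ Subgroup.centralizer (K : Set G) : Subgroup G) : Set G))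
    (hKstH : Cfsg.IsPiHallOf (Cfsg.kappa Ms)
      (Cfsg.sigmaCore M ⊓ Subgroup.centralizer (K : Set G)) Ms)
    {r : ℕ} [hr : Fact r.Prime] (hrU : r ∣ Nat.card ↥U) {R H : Subgroup G}
    (hR : IsSylowIn r R U) (hH : IsCoatom H) (hNR : Subgroup.normalizer (R : Set G) ≤ H) :
    Cfsg.kappa H = ∅ ∧ U ≤ Cfsg.sigmaCore H ∧ M ⊓ H = U ⊔ K ∧
      ¬ H ⊓ Subgroup.normalizer (U : Set G) ≤ M ∧
      K ≤ Cfsg.fittingOf (H ⊓ Ms) ∧ Cfsg.IsComplIn (H ⊓ Ms) (Cfsg.sigmaCore H) H := by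
  have h := pdata hG hM hKU hK1 hU1 hMs hKst hKstH
  have hR1 : R ≠ ⊥ := by
    intro e
    have h2 := hR.2
    rw [e, Subgroup.card_bot] at h2
    have h3 : 0 < (Nat.card ↥U).factorization r :=
      (hr.out.factorization_pos_of_dvd Nat.card_pos.ne' hrU)
    have h4 : 1 < r ^ (Nat.card ↥U).factorization r :=
      Nat.one_lt_pow h3.ne' hr.out.one_lt
    omega
  obtain ⟨h5, h6⟩ := h.inf_Ms hG hR hR1 hH hNR
  exact ⟨h.kappa_eq_empty hG hR hR1 hH hNR, h.U_le_sigmaCore hG hR hR1 hH hNR,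
    h.inf_eq hG hR hR1 hH hNR, h.not_le hG hR hR1 hH hNR, h5, h6⟩

end Cfsg.Agent.Lib.Helper7.BG14P
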