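import Mathlib
import Cfsg.Prelude.Def_SubgroupEmbedding
import Cfsg.Prelude.Def_Transfer

set_option autoImplicit false

namespace Cfsg.Agent.Lib.Helper7

open Cfsg

theorem sidkiPair_quotient {G : Type*} [Group G] [Finite G] (V K : Subgroup G) [K.Normal]
    (hV : IsElementaryAbelian 2 V) (hS : IsSidkiPair V) (hVK : V ⊓ K = ⊥) :
    IsSidkiPair (V.map (QuotientGroup.mk' K)) := by
  intro hbar vbar hvbar hodd hinv
  obtain ⟨v, hv, rfl⟩ := hvbar
  obtain ⟨x, rfl⟩ := QuotientGroup.mk_surjective hbar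
  have hv2 : v ^ 2 = 1 := hV.2 v hv
  have hvinv : v⁻¹ = v := by
    rw [inv_eq_iff_mul_eq_one, ← sq, hv2]
  set d : G := v * (x * v * x⁻¹) with hd
  have hdinv : v * d * v⁻¹ = d⁻¹ := by
    rw [hd, hvinv]
    have e1 : v * (v * (x * v * x⁻¹)) * v = (v * v) * (x * v * x⁻¹ * v) := by group
    have e2 : (v * (x * v * x⁻¹))⁻¹ = x * v⁻¹ * x⁻¹ * v⁻¹ := by group
    rw [e1, e2, hvinv, ← sq, hv2, one_mul]
  have hdpos : orderOf d ≠ 0 := (orderOf_pos d).ne'
  obtain ⟨a, m, hm, hn⟩ := Nat.exists_eq_two_pow_mul_odd hdpos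
  set h₁ : G := d ^ (2 ^ a) with hh₁
  have hh₁o : orderOf h₁ = m := by
    rw [hh₁, orderOf_pow_of_dvd (pow_ne_zero a two_ne_zero) ⟨m, hn⟩, hn,
      Nat.mul_div_cancel_left m (pow_pos two_pos a)]
  have hh₁inv : v * h₁ * v⁻¹ = h₁⁻¹ := by
    rw [hh₁, ← inv_pow, ← hdinv]
    exact (conj_pow (a := v) (b := d) (i := 2 ^ a)).symm
  obtain ⟨w, hw, hw1, hwc⟩ := hS h₁ v hv (hh₁o ▸ hm) hh₁inv
  refine ⟨QuotientGroup.mk' K w, ⟨w, hw, rfl⟩, ?_, ?_⟩
  · intro h1
    apply hw1
    have hwK : w ∈ K := (QuotientGroup.eq_one_iff w).mp h1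
    have : w ∈ V ⊓ K := ⟨hw, hwK⟩
    rw [hVK] at this
    exact Subgroup.mem_bot.mp this
  · -- computations in the quotient
    set hb : G ⧸ K := QuotientGroup.mk' K x with hhb
    set vb : G ⧸ K := QuotientGroup.mk' K v with hvb
    set wb : G ⧸ K := QuotientGroup.mk' K w with hwb
    have hvb2 : vb⁻¹ = vb := by
      rw [hvb, ← map_inv, hvinv]
    have hinv' : vb * hb * vb = hb⁻¹ := by
      have := hinv
      rw [hvb2] at this
      exact this
    have hdb : QuotientGroup.mk' K d = (hb ^ 2)⁻¹ := by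
      rw [hd, map_mul, map_mul, map_mul, map_inv]
      show vb * (hb * vb * hb⁻¹) = (hb ^ 2)⁻¹
      have : vb * (hb * vb * hb⁻¹) = (vb * hb * vb) * hb⁻¹ := by group
      rw [this, hinv', sq, mul_inv_rev]
    have hh₁b : QuotientGroup.mk' K h₁ = (hb ^ (2 ^ (a + 1)))⁻¹ := by
      rw [hh₁, map_pow, hdb, inv_pow, ← pow_mul, pow_succ']
    have hcomm1 : Commute wb (QuotientGroup.mk' K h₁) := by
      show wb * _ = _ * wb
      rw [hwb, ← map_mul, ← map_mul, hwc]
    rw [hh₁b] at hcomm1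
    have hcomm2 : Commute wb (hb ^ (2 ^ (a + 1))) := by
      have := hcomm1.inv_right
      rwa [inv_inv] at this
    have hcop : (2 ^ (a + 1)).Coprime (orderOf hb) := by
      apply Nat.Coprime.pow_left
      exact Nat.coprime_two_left.mpr hodd
    obtain ⟨k, hk⟩ := exists_pow_eq_self_of_coprime hcop
    have := hcomm2.pow_right k
    rw [hk] at this
    exact this.eq

/-- An element commuting with the square of an element of odd order commutes with the element. -/
theorem commute_of_commute_sq_of_odd {G : Type*} [Group G] {w h : G} (hodd : Odd (orderOf h))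
    (hc : Commute w (h ^ 2)) : Commute w h := by
  have hcop : (2 : ℕ).Coprime (orderOf h) := Nat.coprime_two_left.mpr hodd
  obtain ⟨k, hk⟩ := exists_pow_eq_self_of_coprime hcop
  have := hc.pow_right k
  rwa [hk] at this

theorem sidkiPair_centralizer {G : Type*} [Group G] [Finite G] (V : Subgroup G)
    (hV : IsElementaryAbelian 2 V) (hS : IsSidkiPair V) (v x : G) (hv : v ∈ V)
    (hx : Odd (orderOf x)) (hinv : v * x * v⁻¹ = x⁻¹) (C : Subgroup G)
    (hC : C = Subgroup.centralizer ({v} : Set G) ⊓ Subgroup.centralizer ({x} : Set G)) :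
    C ⊓ V ≠ ⊥ ∧ IsSidkiPair ((C ⊓ V).subgroupOf C) := by
  have hcommV : ∀ a ∈ V, ∀ b ∈ V, a * b = b * a := by
    intro a ha b hb
    have := (isMulCommutative_iff.mp hV.1) ⟨a, ha⟩ ⟨b, hb⟩
    exact congrArg (fun z : ↥V => (z : G)) this
  have hmemC : ∀ g : G, g ∈ C ↔ g * v = v * g ∧ g * x = x * g := by
    intro g
    rw [hC, Subgroup.mem_inf, Subgroup.mem_centralizer_singleton_iff, Subgroup.mem_centralizer_singleton_iff]
  constructor
  · obtain ⟨w, hw, hw1, hwc⟩ := hS x v hv hx hinv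
    intro hbot
    apply hw1
    have : w ∈ C ⊓ V := ⟨(hmemC w).mpr ⟨hcommV w hw v hv, hwc⟩, hw⟩
    rw [hbot] at this
    exact Subgroup.mem_bot.mp this
  · intro h v' hv' hodd hinv'
    have hv'V : (v' : G) ∈ V := (Subgroup.mem_subgroupOf.mp hv').2
    obtain ⟨hhv, hhx⟩ := (hmemC h).mp h.2
    obtain ⟨hv'v, hv'x⟩ := (hmemC v').mp v'.2
    have hoddG : Odd (orderOf (h : G)) := by rw [Subgroup.orderOf_coe]; exact hodd
    have hinvG : (v' : G) * h * (v' : G)⁻¹ = (h : G)⁻¹ := by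
      have := congrArg (fun z : ↥C => (z : G)) hinv'
      simpa using this
    have hcomm_hx : Commute (h : G) x := hhx
    -- y = h x has odd order
    have hyodd : Odd (orderOf ((h : G) * x)) := by
      have h1 := hcomm_hx.orderOf_mul_dvd_lcm
      have h2 : Odd (Nat.lcm (orderOf (h : G)) (orderOf x)) :=
        Odd.of_dvd_nat (hoddG.mul hx) (Nat.lcm_dvd_mul _ _)
      exact Odd.of_dvd_nat h2 h1
    have hv2 : v⁻¹ = v := by
      rw [inv_eq_iff_mul_eq_one, ← sq]; exact hV.2 v hv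
    have hv'2 : (v' : G)⁻¹ = (v' : G) := by
      rw [inv_eq_iff_mul_eq_one, ← sq]; exact hV.2 _ hv'V
    -- u = v v' inverts y
    have huinv : (v * (v' : G)) * ((h : G) * x) * (v * (v' : G))⁻¹ = ((h : G) * x)⁻¹ := by
      have e1 : (v * (v' : G)) * ((h : G) * x) * (v * (v' : G))⁻¹ =
          v * (((v' : G) * h * (v' : G)⁻¹) * ((v' : G) * x * (v' : G)⁻¹)) * v⁻¹ := by group
      have e2 : (v' : G) * x * (v' : G)⁻¹ = x := by rw [hv'x]; group
      have e3 : v * (h : G)⁻¹ * v⁻¹ = (h : G)⁻¹ := by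
        have : v * (h : G)⁻¹ = (h : G)⁻¹ * v := by
          have := hhv
          calc v * (h : G)⁻¹ = (h : G)⁻¹ * ((h : G) * v) * (h : G)⁻¹ := by group
            _ = (h : G)⁻¹ * (v * (h : G)) * (h : G)⁻¹ := by rw [this]
            _ = (h : G)⁻¹ * v := by group
        rw [this]; group
      rw [e1, hinvG, e2]
      calc v * ((h : G)⁻¹ * x) * v⁻¹ = (v * (h : G)⁻¹ * v⁻¹) * (v * x * v⁻¹) := by group
        _ = (h : G)⁻¹ * x⁻¹ := by rw [e3, hinv]
        _ = (x * (h : G))⁻¹ := by group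
        _ = ((h : G) * x)⁻¹ := by rw [hhx]
    obtain ⟨w, hw, hw1, hwc⟩ := hS ((h : G) * x) (v * (v' : G)) (V.mul_mem hv hv'V) hyodd huinv
    have hwv : w * v = v * w := hcommV w hw v hv
    -- w commutes with v (h x) v⁻¹ = h x⁻¹
    have hwc2 : w * ((h : G) * x⁻¹) = ((h : G) * x⁻¹) * w := by
      have e : (h : G) * x⁻¹ = v * ((h : G) * x) * v⁻¹ := by
        calc (h : G) * x⁻¹ = (h : G) * (v * x * v⁻¹) := by rw [hinv]
          _ = ((h : G) * v) * x * v⁻¹ := by group
          _ = (v * (h : G)) * x * v⁻¹ := by rw [hhv]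
          _ = v * ((h : G) * x) * v⁻¹ := by group
      rw [e]
      calc w * (v * ((h : G) * x) * v⁻¹) = (w * v) * ((h : G) * x) * v⁻¹ := by group
        _ = (v * w) * ((h : G) * x) * v⁻¹ := by rw [hwv]
        _ = v * (w * ((h : G) * x)) * v⁻¹ := by group
        _ = v * (((h : G) * x) * w) * v⁻¹ := by rw [hwc]
        _ = v * ((h : G) * x) * (w * v⁻¹) := by group
        _ = v * ((h : G) * x) * (v⁻¹ * w) := by
            congr 1
            rw [hv2]; exact hwv
        _ = v * ((h : G) * x) * v⁻¹ * w := by group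
    have hc1 : Commute w ((h : G) * x) := hwc
    have hc2 : Commute w ((h : G) * x⁻¹) := hwc2
    have hh2 : Commute w ((h : G) ^ 2) := by
      have e : (h : G) ^ 2 = ((h : G) * x) * ((h : G) * x⁻¹) := by
        calc (h : G) ^ 2 = (h : G) * (h : G) := sq _
          _ = (h : G) * (x * (h : G)) * x⁻¹ := by rw [← hhx]; group
          _ = ((h : G) * x) * ((h : G) * x⁻¹) := by group
      rw [e]; exact hc1.mul_right hc2
    have hx2 : Commute w (x ^ 2) := by
      have e : x ^ 2 = ((h : G) * x⁻¹)⁻¹ * ((h : G) * x) := by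
        rw [sq]; group
      rw [e]; exact hc2.inv_right.mul_right hc1
    have hwh : Commute w (h : G) := commute_of_commute_sq_of_odd hoddG hh2
    have hwx : Commute w x := commute_of_commute_sq_of_odd hx hx2
    have hwC : w ∈ C := (hmemC w).mpr ⟨hwv, hwx.eq⟩
    refine ⟨⟨w, hwC⟩, Subgroup.mem_subgroupOf.mpr ⟨hwC, hw⟩, ?_, ?_⟩
    · intro h1
      exact hw1 (congrArg (fun z : ↥C => (z : G)) h1)
    · exact Subtype.ext hwh.eq

end Cfsg.Agent.Lib.Helper7
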