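import Mathlib
import Cfsg.Agent.S0256

set_option autoImplicit false

namespace Cfsg.Agent.Lib.Helper7.GL42

open Matrix

/-- every invertible matrix over `ZMod 2` has determinant one -/
theorem det_eq_one (g : GL (Fin 4) (ZMod 2)) : (g : Matrix (Fin 4) (Fin 4) (ZMod 2)).det = 1 := by
  have h : IsUnit (g : Matrix (Fin 4) (Fin 4) (ZMod 2)).det := by
    rw [← Matrix.isUnit_iff_isUnit_det]
    exact g.isUnit
  have key : ∀ a : ZMod 2, IsUnit a → a = 1 := by decide
  exact key _ h

/-- `GL_4(2) → SL_4(2)` -/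
def toSL : GL (Fin 4) (ZMod 2) →* SpecialLinearGroup (Fin 4) (ZMod 2) where
  toFun g := ⟨(g : Matrix (Fin 4) (Fin 4) (ZMod 2)), det_eq_one g⟩
  map_one' := by ext; rfl
  map_mul' a b := by ext; rfl

theorem toSL_injective : Function.Injective toSL := by
  intro a b h
  apply Units.ext
  exact congrArg Subtype.val h

theorem center_SL_eq_bot : Subgroup.center (SpecialLinearGroup (Fin 4) (ZMod 2)) = ⊥ := by
  rw [eq_bot_iff]
  intro A hA
  rw [Matrix.SpecialLinearGroup.mem_center_iff] at hA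
  obtain ⟨r, hr, hA⟩ := hA
  have key : ∀ r : ZMod 2, r ^ Fintype.card (Fin 4) = 1 → r = 1 := by decide
  have hr1 : r = 1 := key r hr
  rw [Subgroup.mem_bot]
  apply Subtype.ext
  rw [← hA, hr1]
  simp

/-- an embedding of `GL_4(2)` in `A_8` -/
theorem exists_injective_GL_A8 :
    ∃ f : GL (Fin 4) (ZMod 2) →* ↥(alternatingGroup (Fin 8)), Function.Injective f := by
  obtain ⟨e⟩ := Cfsg.Agent.S0256.result (F := ZMod 2) (by simp)
  refine ⟨e.toMonoidHom.comp ((QuotientGroup.mk' _).comp toSL), ?_⟩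
  intro a b h
  have h1 : (QuotientGroup.mk' _) (toSL a) = (QuotientGroup.mk' _) (toSL b) := e.injective h
  have hinj : Function.Injective (QuotientGroup.mk' (Subgroup.center (SpecialLinearGroup (Fin 4) (ZMod 2)))) := by
    rw [← MonoidHom.ker_eq_bot_iff, QuotientGroup.ker_mk', center_SL_eq_bot]
  exact toSL_injective (hinj h1)

end Cfsg.Agent.Lib.Helper7.GL42
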