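import Mathlib

/-!
# Sylow `p`-subgroups of symmetric and alternating groups are generated by elements of order `p`
(helper7, for S4623)
-/

set_option autoImplicit false

namespace Cfsg.Agent.Lib.Helper7.SylGen

open Equiv

section general

/-- If a group is generated by elements killed by `p`, then every `p`-th power lies in the
commutator subgroup. -/
theorem pow_mem_commutator_of_closure {K : Type*} [Group K] (p : ℕ) (S : Set K)
    (hS : ∀ u ∈ S, u ^ p = 1) (hgen : Subgroup.closure S = ⊤) (x : K) :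
    x ^ p ∈ commutator K := by
  let π : K →* Abelianization K := Abelianization.of
  let f : Abelianization K →* Abelianization K := powMonoidHom p
  have hker : Subgroup.closure S ≤ (f.comp π).ker := by
    rw [Subgroup.closure_le]
    intro u hu
    change (f.comp π) u = 1
    change (π u) ^ p = 1
    rw [← map_pow, hS u hu, map_one]
  have hx : x ∈ (f.comp π).ker := hker (hgen ▸ Subgroup.mem_top x)
  have h1 : π (x ^ p) = 1 := by
    rw [map_pow]; exact hx
  have := (QuotientGroup.eq_one_iff (N := commutator K) (x ^ p)).mp h1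
  exact this

/-- pulling back closure along an injective hom -/
theorem mem_closure_preimage {K L : Type*} [Group K] [Group L] (f : K →* L)
    (hf : Function.Injective f) (T : Set L) (hT : T ⊆ Set.range f) (x : K)
    (hx : f x ∈ Subgroup.closure T) : x ∈ Subgroup.closure (f ⁻¹' T) := by
  have h1 : (Subgroup.closure (f ⁻¹' T)).map f = Subgroup.closure T := by
    rw [MonoidHom.map_closure, Set.image_preimage_eq_of_subset hT]
  rw [← h1] at hx
  obtain ⟨y, hy, hyx⟩ := hx
  rwa [← hf hyx]

end general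

section wreath

variable (p : ℕ) {α : Type*}

/-- the permutation `(a,b) ↦ (σ a, b + f a)` of `α × ZMod p`. -/
def mk (σ : Perm α) (f : α → ZMod p) : Perm (α × ZMod p) where
  toFun x := (σ x.1, x.2 + f x.1)
  invFun x := (σ⁻¹ x.1, x.2 - f (σ⁻¹ x.1))
  left_inv x := by simp
  right_inv x := by simp

@[simp] theorem mk_apply (σ : Perm α) (f : α → ZMod p) (x : α × ZMod p) :
    mk p σ f x = (σ x.1, x.2 + f x.1) := rfl

theorem mk_mul (σ τ : Perm α) (f g : α → ZMod p) :
    mk p σ f * mk p τ g = mk p (σ * τ) (fun a => g a + f (τ a)) := by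
  ext x <;> simp [add_assoc]

theorem mk_one : mk p (1 : Perm α) (fun _ => 0) = 1 := by
  ext x <;> simp

theorem mk_injective : Function.Injective (fun x : Perm α × (α → ZMod p) => mk p x.1 x.2) := by
  rintro ⟨σ, f⟩ ⟨τ, g⟩ h
  have h2 : ∀ a : α, mk p σ f (a, 0) = mk p τ g (a, 0) := fun a => by
    have := congrArg (fun e : Perm (α × ZMod p) => e (a, 0)) h
    exact this
  have h3 : σ = τ := by
    ext a
    have := congrArg Prod.fst (h2 a)
    simpa using this
  have h4 : f = g := by
    funext a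
    have := congrArg Prod.snd (h2 a)
    simpa using this
  rw [h3, h4]

/-- the top homomorphism -/
def topHom : Perm α →* Perm (α × ZMod p) where
  toFun σ := mk p σ (fun _ => 0)
  map_one' := mk_one p
  map_mul' σ τ := by rw [mk_mul]; simp

/-- the base homomorphism -/
def baseHom : Multiplicative (α → ZMod p) →* Perm (α × ZMod p) where
  toFun f := mk p 1 (Multiplicative.toAdd f)
  map_one' := mk_one p
  map_mul' f g := by
    rw [mk_mul]
    congr 1
    funext a
    simp [add_comm]

theorem mk_eq (σ : Perm α) (f : α → ZMod p) :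
    mk p σ f = topHom p σ * baseHom p (Multiplicative.ofAdd f) := by
  change mk p σ f = mk p σ (fun _ => 0) * mk p 1 f
  rw [mk_mul]; simp

theorem baseHom_pow [NeZero p] (f : Multiplicative (α → ZMod p)) : (baseHom p f) ^ p = 1 := by
  rw [← map_pow]
  have : f ^ p = 1 := by
    apply Multiplicative.toAdd.injective
    rw [toAdd_pow, toAdd_one]
    funext a
    simp
  rw [this, map_one]

/-- the wreath subgroup `C_p ≀ H` -/
def wr (H : Subgroup (Perm α)) : Subgroup (Perm (α × ZMod p)) where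
  carrier := {g | ∃ σ ∈ H, ∃ f : α → ZMod p, mk p σ f = g}
  one_mem' := ⟨1, H.one_mem, fun _ => 0, mk_one p⟩
  mul_mem' := by
    rintro _ _ ⟨σ, hσ, f, rfl⟩ ⟨τ, hτ, g, rfl⟩
    exact ⟨σ * τ, H.mul_mem hσ hτ, _, (mk_mul p σ τ f g).symm⟩
  inv_mem' := by
    rintro _ ⟨σ, hσ, f, rfl⟩
    refine ⟨σ⁻¹, H.inv_mem hσ, fun a => - f (σ⁻¹ a), ?_⟩
    symm
    apply inv_eq_of_mul_eq_one_right
    rw [mk_mul]
    rw [← mk_one p]
    congr 1
    · simp
    · funext a; simp

theorem mem_wr {H : Subgroup (Perm α)} {g : Perm (α × ZMod p)} :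
    g ∈ wr p H ↔ ∃ σ ∈ H, ∃ f : α → ZMod p, mk p σ f = g := Iff.rfl

theorem card_wr [Finite α] (H : Subgroup (Perm α)) :
    Nat.card (wr p H) = Nat.card H * p ^ Nat.card α := by
  have e : (H × (α → ZMod p)) ≃ wr p H := by
    refine Equiv.ofBijective (fun x => ⟨mk p x.1.1 x.2, ⟨x.1.1, x.1.2, x.2, rfl⟩⟩) ⟨?_, ?_⟩
    · rintro ⟨⟨σ, hσ⟩, f⟩ ⟨⟨τ, hτ⟩, g⟩ h
      have h1 : mk p σ f = mk p τ g := congrArg Subtype.val h
      have h2 := mk_injective p (α := α) (a₁ := (σ, f)) (a₂ := (τ, g)) h1
      simp only [Prod.mk.injEq] at h2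
      obtain ⟨rfl, rfl⟩ := h2
      rfl
    · rintro ⟨g, σ, hσ, f, rfl⟩
      exact ⟨(⟨σ, hσ⟩, f), rfl⟩
  rw [← Nat.card_congr e, Nat.card_prod, Nat.card_fun, Nat.card_zmod]

theorem sign_topHom [NeZero p] [Fintype α] [DecidableEq α] (σ : Perm α) :
    Perm.sign (topHom p σ) = (Perm.sign σ) ^ p := by
  have h : topHom p σ = Equiv.prodCongrLeft (fun _ : ZMod p => σ) := by
    ext x <;> simp [topHom]
  rw [h, Perm.sign_prodCongrLeft, Finset.prod_const, Finset.card_univ, ZMod.card]

variable {β : Type*}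

/-- generation of the image of the wreath subgroup by elements killed by `p` -/
theorem gen_wr [NeZero p] (Φ : Perm (α × ZMod p) →* Perm β) (H : Subgroup (Perm α))
    (hH : ∀ w ∈ H, w ∈ Subgroup.closure {u | u ∈ H ∧ u ^ p = 1}) :
    ∀ w ∈ (wr p H).map Φ, w ∈ Subgroup.closure {u | u ∈ (wr p H).map Φ ∧ u ^ p = 1} := by
  rintro _ ⟨_, ⟨σ, hσ, f, rfl⟩, rfl⟩
  rw [mk_eq, map_mul]
  apply Subgroup.mul_mem
  · have h1 : (Subgroup.closure {u | u ∈ H ∧ u ^ p = 1}).map (Φ.comp (topHom p)) ≤
        Subgroup.closure {u | u ∈ (wr p H).map Φ ∧ u ^ p = 1} := by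
      rw [MonoidHom.map_closure]
      apply Subgroup.closure_mono
      rintro _ ⟨u, ⟨huH, hu⟩, rfl⟩
      refine ⟨Subgroup.mem_map_of_mem _ ⟨u, huH, fun _ => 0, rfl⟩, ?_⟩
      rw [← map_pow, hu, map_one]
    exact h1 (Subgroup.mem_map_of_mem _ (hH σ hσ))
  · apply Subgroup.subset_closure
    refine ⟨Subgroup.mem_map_of_mem _ ⟨1, H.one_mem, f, rfl⟩, ?_⟩
    rw [← map_pow, baseHom_pow, map_one]

/-- even version for `p = 2` -/
theorem genE_wr [Fintype α] [DecidableEq α] [Fintype β] [DecidableEq β]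
    (Φ : Perm (α × ZMod 2) →* Perm β) (hΦ : ∀ g, Perm.sign (Φ g) = Perm.sign g)
    (H : Subgroup (Perm α))
    (hH : ∀ w ∈ H, w ∈ Subgroup.closure {u | u ∈ H ∧ u ^ 2 = 1}) :
    ∀ w ∈ (wr 2 H).map Φ, Perm.sign w = 1 →
      w ∈ Subgroup.closure {u | u ∈ (wr 2 H).map Φ ∧ u ^ 2 = 1 ∧ Perm.sign u = 1} := by
  rintro _ ⟨_, ⟨σ, hσ, f, rfl⟩, rfl⟩ hsign
  have htop : ∀ τ : Perm α, Perm.sign (Φ (topHom 2 τ)) = 1 := fun τ => by
    rw [hΦ, sign_topHom]; exact Int.units_sq _
  rw [mk_eq, map_mul] at hsign ⊢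
  apply Subgroup.mul_mem
  · have h1 : (Subgroup.closure {u | u ∈ H ∧ u ^ 2 = 1}).map (Φ.comp (topHom 2)) ≤
        Subgroup.closure {u | u ∈ (wr 2 H).map Φ ∧ u ^ 2 = 1 ∧ Perm.sign u = 1} := by
      rw [MonoidHom.map_closure]
      apply Subgroup.closure_mono
      rintro _ ⟨u, ⟨huH, hu⟩, rfl⟩
      refine ⟨Subgroup.mem_map_of_mem _ ⟨u, huH, fun _ => 0, rfl⟩, ?_, htop u⟩
      rw [MonoidHom.comp_apply, ← map_pow, ← map_pow, hu, map_one, map_one]
    exact h1 (Subgroup.mem_map_of_mem _ (hH σ hσ))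
  · apply Subgroup.subset_closure
    refine ⟨Subgroup.mem_map_of_mem _ ⟨1, H.one_mem, f, rfl⟩, ?_, ?_⟩
    · rw [← map_pow, baseHom_pow, map_one]
    · rw [map_mul, htop, one_mul] at hsign
      exact hsign

end wreath

section step

/-- transfer of generation statements along an automorphism -/
theorem transfer {L : Type*} [Group L] (c : L ≃* L) (K0 : Subgroup L) (good R : L → Prop)
    (hgood : ∀ u, good u → good (c u)) (hR : ∀ u, R (c u) → R u)
    (h0 : ∀ w ∈ K0, R w → w ∈ Subgroup.closure {u | u ∈ K0 ∧ good u}) :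
    ∀ w ∈ K0.map c.toMonoidHom, R w →
      w ∈ Subgroup.closure {u | u ∈ K0.map c.toMonoidHom ∧ good u} := by
  rintro _ ⟨w, hw, rfl⟩ hRw
  have h1 := h0 w hw (hR w hRw)
  have h2 : (Subgroup.closure {u | u ∈ K0 ∧ good u}).map c.toMonoidHom ≤
      Subgroup.closure {u | u ∈ K0.map c.toMonoidHom ∧ good u} := by
    rw [MonoidHom.map_closure]
    apply Subgroup.closure_mono
    rintro _ ⟨u, ⟨hu, hg⟩, rfl⟩
    exact ⟨Subgroup.mem_map_of_mem _ hu, hgood u hg⟩
  exact h2 (Subgroup.mem_map_of_mem _ h1)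

variable (p : ℕ) [Fact p.Prime]

/-- the embedding `Perm (Fin m × ZMod p) →* Perm (Fin n)` for `n = p * m + r`. -/
noncomputable def emb (m r n : ℕ) (hn : n = p * m + r) :
    Perm (Fin m × ZMod p) →* Perm (Fin n) :=
  have : NeZero p := ⟨(Fact.out : p.Prime).ne_zero⟩
  let e : (Fin m × ZMod p) ⊕ Fin r ≃ Fin n := Finite.equivFinOfCardEq (by
    rw [Nat.card_sum, Nat.card_prod, Nat.card_zmod, Nat.card_fin, Nat.card_fin, hn, mul_comm])
  e.permCongrHom.toMonoidHom.comp
    ((Perm.sumCongrHom (Fin m × ZMod p) (Fin r)).comp (MonoidHom.inl _ _))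

theorem emb_injective (m r n : ℕ) (hn : n = p * m + r) :
    Function.Injective (emb p m r n hn) := by
  unfold emb
  intro x y h
  simp only [MonoidHom.coe_comp, Function.comp_apply, MulEquiv.coe_toMonoidHom,
    EmbeddingLike.apply_eq_iff_eq] at h
  have h2 := Perm.sumCongrHom_injective h
  simpa using h2

theorem sign_emb (m r n : ℕ) (hn : n = p * m + r) (g : Perm (Fin m × ZMod p)) :
    have : NeZero p := ⟨(Fact.out : p.Prime).ne_zero⟩
    Perm.sign (emb p m r n hn g) = Perm.sign g := by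
  intro _
  unfold emb
  simp only [MonoidHom.coe_comp, Function.comp_apply, MulEquiv.coe_toMonoidHom,
    Equiv.permCongrHom_coe, Perm.sign_permCongr, MonoidHom.inl_apply, Perm.sumCongrHom_apply,
    Perm.sign_sumCongr, Perm.sign_one, mul_one]

theorem sign_eq_one_of_pow_odd {γ : Type*} [Fintype γ] [DecidableEq γ] (q : ℕ) (hq : Odd q)
    (u : Perm γ) (hu : u ^ q = 1) : Perm.sign u = 1 := by
  have h1 : (Perm.sign u) ^ q = 1 := by rw [← map_pow, hu, map_one]
  rcases Int.units_eq_one_or (Perm.sign u) with h | h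
  · exact h
  · rw [h, hq.neg_one_pow] at h1
    exact absurd h1 (by decide)

theorem step (m r n : ℕ) (hn : n = p * m + r) (hr : r < p) (H : Sylow p (Perm (Fin m)))
    (hH : ∀ w ∈ (H : Subgroup (Perm (Fin m))),
      w ∈ Subgroup.closure {u | u ∈ (H : Subgroup (Perm (Fin m))) ∧ u ^ p = 1}) :
    ∃ P : Sylow p (Perm (Fin n)),
      (∀ w ∈ (P : Subgroup (Perm (Fin n))),
        w ∈ Subgroup.closure {u | u ∈ (P : Subgroup (Perm (Fin n))) ∧ u ^ p = 1}) ∧
      (∀ w ∈ (P : Subgroup (Perm (Fin n))), Perm.sign w = 1 →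
        w ∈ Subgroup.closure
          {u | u ∈ (P : Subgroup (Perm (Fin n))) ∧ u ^ p = 1 ∧ Perm.sign u = 1}) := by
  have hp : p.Prime := Fact.out
  have : NeZero p := ⟨hp.ne_zero⟩
  have hcard : Nat.card ((wr p (H : Subgroup (Perm (Fin m)))).map (emb p m r n hn)) =
      p ^ (Nat.card (Perm (Fin n))).factorization p := by
    rw [Subgroup.card_map_of_injective (emb_injective p m r n hn), card_wr,
      H.card_eq_multiplicity, Nat.card_perm, Nat.card_perm, Nat.card_fin, Nat.card_fin, ← pow_add,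
      Nat.factorization_def _ hp, Nat.factorization_def _ hp, hn,
      padicValNat_factorial_mul_add m hr, padicValNat_factorial_mul]
  refine ⟨Sylow.ofCard _ hcard, ?_, ?_⟩
  · rw [Sylow.coe_ofCard]
    exact gen_wr p _ _ hH
  · rw [Sylow.coe_ofCard]
    by_cases hp2 : p = 2
    · subst hp2
      exact genE_wr _ (sign_emb 2 m r n hn) _ hH
    · intro w hw _
      have h1 := gen_wr p (emb p m r n hn) _ hH w hw
      have hodd : Odd p := hp.odd_of_ne_two hp2
      have hset : {u | u ∈ (wr p (H : Subgroup (Perm (Fin m)))).map (emb p m r n hn) ∧ u ^ p = 1} =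
          {u | u ∈ (wr p (H : Subgroup (Perm (Fin m)))).map (emb p m r n hn) ∧ u ^ p = 1 ∧
            Perm.sign u = 1} := by
        ext u
        constructor
        · rintro ⟨h1, h2⟩
          exact ⟨h1, h2, sign_eq_one_of_pow_odd p hodd u h2⟩
        · rintro ⟨h1, h2, _⟩
          exact ⟨h1, h2⟩
      rw [← hset]
      exact h1

/-- **Main theorem**: every Sylow `p`-subgroup of `Perm (Fin n)` is generated by its elements
killed by `p`, and its even part is generated by its even elements killed by `p`. -/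
theorem main (n : ℕ) : ∀ P : Sylow p (Perm (Fin n)),
    (∀ w ∈ (P : Subgroup (Perm (Fin n))),
        w ∈ Subgroup.closure {u | u ∈ (P : Subgroup (Perm (Fin n))) ∧ u ^ p = 1}) ∧
      (∀ w ∈ (P : Subgroup (Perm (Fin n))), Perm.sign w = 1 →
        w ∈ Subgroup.closure
          {u | u ∈ (P : Subgroup (Perm (Fin n))) ∧ u ^ p = 1 ∧ Perm.sign u = 1}) := by
  have hp : p.Prime := Fact.out
  induction n using Nat.strong_induction_on with
  | _ n ih =>
    intro P
    by_cases hnp : n < p
    · -- trivial Sylow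
      have hc : Nat.card (P : Subgroup (Perm (Fin n))) = 1 := by
        rw [P.card_eq_multiplicity, Nat.card_perm, Nat.card_fin]
        have : ¬ p ∣ n.factorial := by
          rw [hp.dvd_factorial]; omega
        rw [Nat.factorization_eq_zero_of_not_dvd this, pow_zero]
      have hbot : (P : Subgroup (Perm (Fin n))) = ⊥ := Subgroup.card_eq_one.mp hc
      constructor
      · intro w hw
        rw [hbot, Subgroup.mem_bot] at hw
        rw [hw]; exact Subgroup.one_mem _
      · intro w hw _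
        rw [hbot, Subgroup.mem_bot] at hw
        rw [hw]; exact Subgroup.one_mem _
    · have hnp := not_lt.mp hnp
      have hm : n / p < n := Nat.div_lt_self (by have := hp.pos; omega) hp.one_lt
      obtain ⟨H⟩ : Nonempty (Sylow p (Perm (Fin (n / p)))) := inferInstance
      obtain ⟨P0, hA, hB⟩ := step p (n / p) (n % p) n (Nat.div_add_mod n p).symm
        (Nat.mod_lt n hp.pos) H (ih (n / p) hm H).1
      obtain ⟨g, hg⟩ := MulAction.exists_smul_eq (Perm (Fin n)) P0 P
      have hP : (P : Subgroup (Perm (Fin n))) =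
          (P0 : Subgroup (Perm (Fin n))).map (MulAut.conj g).toMonoidHom := by
        rw [← hg, Sylow.coe_subgroup_smul]
        rfl
      rw [hP]
      constructor
      · intro w hw
        exact transfer (MulAut.conj g) (P0 : Subgroup (Perm (Fin n))) (fun u => u ^ p = 1)
          (fun _ => True) (fun u hu => by rw [← map_pow, hu, map_one]) (fun _ _ => trivial)
          (fun w hw _ => hA w hw) w hw trivial
      · intro w hw hs
        exact transfer (MulAut.conj g) (P0 : Subgroup (Perm (Fin n)))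
          (fun u => u ^ p = 1 ∧ Perm.sign u = 1) (fun u => Perm.sign u = 1)
          (fun u hu => ⟨by rw [← map_pow, hu.1, map_one], by
            rw [MulAut.conj_apply, Perm.sign_mul, Perm.sign_mul, Perm.sign_inv, hu.2, mul_one,
              Int.units_mul_self]⟩)
          (fun u hu => by
            rw [MulAut.conj_apply, Perm.sign_mul, Perm.sign_mul, Perm.sign_inv, mul_right_comm,
              Int.units_mul_self, one_mul] at hu
            exact hu)
          (fun w hw hs => hB w hw hs) w hw hs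

theorem sym_result (n : ℕ) (P : Sylow p (Perm (Fin n))) (x : (P : Subgroup (Perm (Fin n)))) :
    x ^ p ∈ commutator (P : Subgroup (Perm (Fin n))) := by
  apply pow_mem_commutator_of_closure p {v | v ^ p = 1} (fun u hu => hu)
  rw [eq_top_iff]
  intro w _
  have h1 := (main p n P).1 w.1 w.2
  have h2 := mem_closure_preimage (P : Subgroup (Perm (Fin n))).subtype
    (Subgroup.subtype_injective _) {u | u ∈ (P : Subgroup (Perm (Fin n))) ∧ u ^ p = 1}
    (by rintro u ⟨hu, _⟩; exact ⟨⟨u, hu⟩, rfl⟩) w h1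
  refine Subgroup.closure_mono ?_ h2
  rintro v ⟨_, hv⟩
  apply Subtype.ext
  simpa using hv

theorem alt_result (n : ℕ) (Q : Sylow p (alternatingGroup (Fin n)))
    (x : (Q : Subgroup (alternatingGroup (Fin n)))) :
    x ^ p ∈ commutator (Q : Subgroup (alternatingGroup (Fin n))) := by
  have hQ' : IsPGroup p ((Q : Subgroup (alternatingGroup (Fin n))).map
      (alternatingGroup (Fin n)).subtype) := Q.2.map _
  obtain ⟨P, hP⟩ := hQ'.exists_le_sylow
  have hR : IsPGroup p ((P : Subgroup (Perm (Fin n))).subgroupOf (alternatingGroup (Fin n))) :=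
    P.2.comap_subtype
  have hQR : (Q : Subgroup (alternatingGroup (Fin n))) ≤
      (P : Subgroup (Perm (Fin n))).subgroupOf (alternatingGroup (Fin n)) := by
    intro y hy
    rw [Subgroup.mem_subgroupOf]
    exact hP (Subgroup.mem_map_of_mem _ hy)
  have hRQ := Q.is_maximal' hR hQR
  let f : ↥(Q : Subgroup (alternatingGroup (Fin n))) →* Perm (Fin n) :=
    (alternatingGroup (Fin n)).subtype.comp (Q : Subgroup (alternatingGroup (Fin n))).subtype
  have hf : Function.Injective f :=
    (Subgroup.subtype_injective _).comp (Subgroup.subtype_injective _)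
  apply pow_mem_commutator_of_closure p {v | v ^ p = 1} (fun u hu => hu)
  rw [eq_top_iff]
  intro w _
  have hw1 : f w ∈ (P : Subgroup (Perm (Fin n))) := hP ⟨w.1, w.2, rfl⟩
  have hw2 : Perm.sign (f w) = 1 := Perm.mem_alternatingGroup.mp w.1.2
  have h1 := (main p n P).2 (f w) hw1 hw2
  have h2 := mem_closure_preimage f hf
    {u | u ∈ (P : Subgroup (Perm (Fin n))) ∧ u ^ p = 1 ∧ Perm.sign u = 1}
    (by
      rintro u ⟨hu, _, hs⟩
      have hmem : (⟨u, Perm.mem_alternatingGroup.mpr hs⟩ : alternatingGroup (Fin n)) ∈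
          (Q : Subgroup (alternatingGroup (Fin n))) := by
        rw [← hRQ, Subgroup.mem_subgroupOf]
        exact hu
      exact ⟨⟨⟨u, Perm.mem_alternatingGroup.mpr hs⟩, hmem⟩, rfl⟩) w h1
  refine Subgroup.closure_mono ?_ h2
  rintro v ⟨_, hv, _⟩
  apply hf
  rw [map_pow, map_one]
  exact hv

end step

end Cfsg.Agent.Lib.Helper7.SylGen
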