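import Mathlib
import Cfsg.Agent.Lib.Helper7.KWBase
import Cfsg.Agent.S0143

set_option autoImplicit false
set_option linter.style.haveILetI false
set_option linter.unusedSectionVars false

namespace Cfsg.Agent.Lib.Helper7.KW

open Cfsg Cfsg.Agent.Lib.Helper7
open scoped Pointwise

universe u
variable {G : Type u} [Group G] [Finite G]

/-- nilpotent groups are solvable (finite case used) -/
theorem solvable_of_nilpotent {X : Type*} [Group X] (h : Group.IsNilpotent X) : Group.IsSolvable X :=
  inferInstance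

theorem solvable_of_eq_top {H : Subgroup G} (hH : Group.IsNilpotent H) (h : H = ⊤) :
    Group.IsSolvable G := by
  subst h
  have : Group.IsNilpotent G := (Group.isNilpotent_congr Subgroup.topEquiv).mp hH
  infer_instance

theorem NC.eq_top_of_eq_bot {H K : Subgroup G} (h : NC H K) (hH : H = ⊥) : K = ⊤ := by
  rw [eq_top_iff]
  intro g _
  obtain ⟨a, ha, b, hb, e⟩ := h.fac g
  rw [hH, Subgroup.mem_bot] at ha
  rw [e, ha, one_mul]; exact hb

variable (ih : IH G) (hns : ¬ Group.IsSolvable G) {H K : Subgroup G} (hHK : NC H K)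

include hns hHK in
theorem ne_bot_left : H ≠ ⊥ := fun h => hns (solvable_of_eq_top hHK.nilK (hHK.eq_top_of_eq_bot h))

include hns hHK in
theorem ne_bot_right : K ≠ ⊥ := ne_bot_left hns hHK.symm

include hns hHK in
theorem ne_top_left : H ≠ ⊤ := by
  intro h
  apply ne_bot_right hns hHK
  have := inf_eq_bot_of_coprime hHK.cop
  rw [h, top_inf_eq] at this
  exact this

include hns hHK in
theorem ne_top_right : K ≠ ⊤ := ne_top_left hns hHK.symm

include ih hns hHK in
/-- a minimal counterexample is simple -/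
theorem isSimple : IsSimpleGroup G := by
  haveI : Nontrivial G := by
    by_contra h
    rw [not_nontrivial_iff_subsingleton] at h
    exact hns inferInstance
  refine ⟨fun N hN => ?_⟩
  by_contra hcon
  push Not at hcon
  obtain ⟨hN0, hN1⟩ := hcon
  apply hns
  haveI := hN
  rw [Group.isSolvable_iff_subgroup_quotient N]
  -- key: coprime images
  have hcopq : (Nat.card (H.map (QuotientGroup.mk' N))).Coprime (Nat.card (K.map (QuotientGroup.mk' N))) :=
    Nat.Coprime.coprime_dvd_left (Subgroup.card_map_dvd _ _)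
      (Nat.Coprime.coprime_dvd_right (Subgroup.card_map_dvd _ _) hHK.cop)
  constructor
  · -- N is factorised
    apply ih.solvable_sub (L := N) (H' := N ⊓ H) (K' := N ⊓ K) hN1 inf_le_left inf_le_left
      (isNilpotent_of_le hHK.nilH inf_le_right) (isNilpotent_of_le hHK.nilK inf_le_right)
    · exact Nat.Coprime.coprime_dvd_left (Subgroup.card_dvd_of_le inf_le_right)
        (Nat.Coprime.coprime_dvd_right (Subgroup.card_dvd_of_le inf_le_right) hHK.cop)
    · intro g hg
      obtain ⟨a, ha, b, hb, e⟩ := hHK.fac g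
      have hq : (QuotientGroup.mk' N a) ∈ H.map (QuotientGroup.mk' N) ⊓ K.map (QuotientGroup.mk' N) := by
        refine ⟨⟨a, ha, rfl⟩, ⟨b⁻¹, K.inv_mem hb, ?_⟩⟩
        have h1 : QuotientGroup.mk' N g = 1 := (QuotientGroup.eq_one_iff g).mpr hg
        rw [e, map_mul] at h1
        rw [map_inv]
        exact (eq_inv_of_mul_eq_one_left h1).symm
      rw [inf_eq_bot_of_coprime hcopq, Subgroup.mem_bot] at hq
      have haN : a ∈ N := (QuotientGroup.eq_one_iff a).mp hq
      have hbN : b ∈ N := by
        have : b = a⁻¹ * g := by rw [e]; group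
        rw [this]; exact N.mul_mem (N.inv_mem haN) hg
      exact ⟨a, ⟨haN, ha⟩, b, ⟨hbN, hb⟩, e⟩
  · apply ih (G ⧸ N) ?_ (H.map (QuotientGroup.mk' N)) (K.map (QuotientGroup.mk' N))
    · refine ⟨?_, ?_, hcopq, ?_⟩
      · haveI := hHK.nilH
        exact Group.nilpotent_of_surjective ((QuotientGroup.mk' N).subgroupMap H)
          (MonoidHom.subgroupMap_surjective _ _)
      · haveI := hHK.nilK
        exact Group.nilpotent_of_surjective ((QuotientGroup.mk' N).subgroupMap K)
          (MonoidHom.subgroupMap_surjective _ _)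
      · intro g
        obtain ⟨g, rfl⟩ := QuotientGroup.mk'_surjective N g
        obtain ⟨a, ha, b, hb, e⟩ := hHK.fac g
        exact ⟨_, ⟨a, ha, rfl⟩, _, ⟨b, hb, rfl⟩, by rw [e, map_mul]⟩
    · rw [← Subgroup.index_eq_card, ← N.card_mul_index]
      have : 1 < Nat.card N := by
        rw [Subgroup.one_lt_card_iff_ne_bot]; exact hN0
      have h2 : 0 < N.index := Nat.pos_of_ne_zero Subgroup.index_ne_zero_of_finite
      nlinarith

include hns in
theorem not_prime_card : ¬ (Nat.card G).Prime := by
  intro hp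
  haveI := Fact.mk hp
  haveI : IsCyclic G := isCyclic_of_prime_card rfl
  apply hns
  exact Group.isSolvable_of_comm (isMulCommutative_iff.mp IsCyclic.isMulCommutative)

include ih hns hHK in
theorem two_primes_left : ∃ p r : ℕ, p.Prime ∧ r.Prime ∧ p ≠ r ∧ p ∣ Nat.card H ∧ r ∣ Nat.card H := by
  by_contra hcon
  push Not at hcon
  haveI := isSimple ih hns hHK
  have hH1 : Nat.card H ≠ 1 := by
    intro h
    exact ne_bot_left hns hHK (Subgroup.card_eq_one.mp h)
  obtain ⟨p, hp, hpH⟩ := Nat.exists_prime_and_dvd hH1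
  have hpow : Nat.card H = p ^ (Nat.card H).primeFactorsList.length := by
    apply Nat.eq_prime_pow_of_unique_prime_dvd Nat.card_pos.ne'
    intro d hd hdH
    by_contra hne
    exact hcon p d hp hd (fun h => hne h.symm) hpH hdH
  have hK1 : Nat.card K ≠ 1 := by
    intro h
    exact ne_bot_right hns hHK (Subgroup.card_eq_one.mp h)
  obtain ⟨q, hq, hqK⟩ := Nat.exists_prime_and_dvd hK1
  haveI := Fact.mk hq
  obtain ⟨b, hb, hbo, hbc⟩ := exists_central_order hHK.nilK hqK
  have hb1 : b ≠ 1 := by
    intro h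
    rw [h, orderOf_one] at hbo
    exact hq.one_lt.ne hbo
  have hKC : K ≤ Subgroup.centralizer ({b} : Set G) := by
    intro k hk
    rw [Subgroup.mem_centralizer_singleton_iff]
    exact hbc k hk
  have hidx : (Subgroup.centralizer ({b} : Set G)).index ∣ Nat.card H := by
    have h1 := Subgroup.index_dvd_of_le hKC
    have h2 : K.index = Nat.card H := by
      have h3 := hHK.fac.card hHK.cop
      have h4 := K.card_mul_index
      have h5 : 0 < Nat.card K := Nat.card_pos
      nlinarith
    rw [← h2]; exact h1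
  rw [hpow] at hidx
  obtain ⟨j, -, hj⟩ := (Nat.dvd_prime_pow hp).mp hidx
  exact not_prime_card hns (Cfsg.Agent.S0143.result p j hp b hb1 hj)

include ih hns hHK in
theorem two_primes_right : ∃ p r : ℕ, p.Prime ∧ r.Prime ∧ p ≠ r ∧ p ∣ Nat.card K ∧ r ∣ Nat.card K :=
  two_primes_left ih hns hHK.symm

include ih hns hHK in
/-- another prime divisor -/
theorem exists_other_prime_left (s : ℕ) : ∃ r : ℕ, r.Prime ∧ r ≠ s ∧ r ∣ Nat.card H := by
  obtain ⟨p, r, hp, hr, hpr, hpH, hrH⟩ := two_primes_left ih hns hHK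
  by_cases h : p = s
  · exact ⟨r, hr, fun h' => hpr (h.trans h'.symm), hrH⟩
  · exact ⟨p, hp, h, hpH⟩

end Cfsg.Agent.Lib.Helper7.KW
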