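import Mathlib
import Cfsg.Agent.Lib.Helper7.KWBase
import Cfsg.Agent.S0044

set_option autoImplicit false
set_option linter.style.haveILetI false
set_option linter.unusedSectionVars false

namespace Cfsg.Agent.Lib.Helper7.KW

open Cfsg Cfsg.Agent.Lib.Helper7
open scoped Pointwise

universe u
variable {G : Type u} [Group G]

theorem conj_mem_of_mem_normalizer {N : Subgroup G} {a y : G}
    (ha : a ∈ Subgroup.normalizer (N : Set G)) (hy : y ∈ N) : a * y * a⁻¹ ∈ N :=
  (Subgroup.mem_normalizer_iff.mp ha y).mp hy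

theorem conj_mem_of_mem_normalizer' {N : Subgroup G} {a y : G}
    (ha : a ∈ Subgroup.normalizer (N : Set G)) (hy : y ∈ N) : a⁻¹ * y * a ∈ N := by
  have := conj_mem_of_mem_normalizer ((Subgroup.normalizer (N : Set G)).inv_mem ha) hy
  simpa using this

theorem pow_mul_mem {N : Subgroup G} {a x : G} (ha : a ∈ Subgroup.normalizer (N : Set G))
    (hx : x ∈ N) (n : ℕ) : ∃ y ∈ N, (a * x) ^ n = a ^ n * y := by
  induction n with
  | zero => exact ⟨1, N.one_mem, by simp⟩
  | succ n ihn =>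
    obtain ⟨y, hy, e⟩ := ihn
    refine ⟨a⁻¹ * y * a * x, N.mul_mem (conj_mem_of_mem_normalizer' ha hy) hx, ?_⟩
    rw [pow_succ, e, pow_succ]; group

theorem mem_zpowers_pow_of_coprime [Finite G] (a : G) {o : ℕ} (h : (orderOf a).Coprime o) :
    a ∈ Subgroup.zpowers (a ^ o) := by
  have h1 : Subgroup.zpowers (a ^ o) ≤ Subgroup.zpowers a :=
    Subgroup.zpowers_le.mpr (Subgroup.pow_mem _ (Subgroup.mem_zpowers a) o)
  have h2 : Subgroup.zpowers (a ^ o) = Subgroup.zpowers a := by
    apply Subgroup.eq_of_le_of_card_ge h1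
    rw [Nat.card_zpowers, Nat.card_zpowers, Nat.Coprime.orderOf_pow h]
  rw [h2]; exact Subgroup.mem_zpowers a

/-- a normal subgroup of a factorised group whose order is prime to `|K'|` lies in `H'`. -/
theorem le_of_normal_coprime [Finite G] {L H' K' N : Subgroup G}
    (hf : ∀ g ∈ L, ∃ a ∈ H', ∃ b ∈ K', g = a * b) (hH' : H' ≤ L)
    (hc : (Nat.card H').Coprime (Nat.card K')) (hNL : N ≤ L)
    (hn : L ≤ Subgroup.normalizer (N : Set G)) (hcop : (Nat.card N).Coprime (Nat.card K')) :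
    N ≤ H' := by
  intro x hx
  obtain ⟨a, ha, b, hb, e⟩ := hf x (hNL hx)
  have hb' : b = a⁻¹ * x := by rw [e]; group
  have hainv : a⁻¹ ∈ Subgroup.normalizer (N : Set G) :=
    (Subgroup.normalizer (N : Set G)).inv_mem (hn (hH' ha))
  obtain ⟨y, hy, e2⟩ := pow_mul_mem hainv hx (orderOf b)
  rw [← hb', pow_orderOf_eq_one] at e2
  have hao : a ^ orderOf b ∈ N := by
    have : a ^ orderOf b = y := by
      have : y = (a⁻¹ ^ orderOf b)⁻¹ := by
        have h3 : a⁻¹ ^ orderOf b * y = 1 := e2.symm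
        exact (inv_eq_of_mul_eq_one_right h3).symm
      rw [this, inv_pow, inv_inv]
    rw [this]; exact hy
  have hbK : orderOf b ∣ Nat.card K' := by
    have := orderOf_dvd_natCard (⟨b, hb⟩ : K')
    rwa [Subgroup.orderOf_mk] at this
  have haH : orderOf a ∣ Nat.card H' := by
    have := orderOf_dvd_natCard (⟨a, ha⟩ : H')
    rwa [Subgroup.orderOf_mk] at this
  have haN : a ∈ N := by
    have h1 : (orderOf a).Coprime (orderOf b) :=
      Nat.Coprime.coprime_dvd_left haH (Nat.Coprime.coprime_dvd_right hbK hc)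
    have := mem_zpowers_pow_of_coprime a h1
    exact (Subgroup.zpowers_le.mpr hao) this
  have hbN : b ∈ N := by rw [hb']; exact N.mul_mem (N.inv_mem haN) hx
  have hbN' : orderOf b ∣ Nat.card N := by
    have := orderOf_dvd_natCard (⟨b, hbN⟩ : N)
    rwa [Subgroup.orderOf_mk] at this
  have hb1 : b = 1 := by
    rw [← orderOf_eq_one_iff]
    exact Nat.eq_one_of_dvd_coprimes hcop hbN' hbK
  rw [e, hb1, mul_one]; exact ha


section fitting

variable [Finite G]

/-- the Fitting subgroup of a subgroup, as a subgroup of the ambient group. -/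
noncomputable def fitAmb (L : Subgroup G) : Subgroup G := (Cfsg.fittingSubgroup L).map L.subtype

theorem fitAmb_le (L : Subgroup G) : fitAmb L ≤ L := Subgroup.map_subtype_le _

theorem fitAmb_nilpotent (L : Subgroup G) : Group.IsNilpotent (fitAmb L) := by
  have e : Cfsg.fittingSubgroup L ≃* fitAmb L :=
    (Cfsg.fittingSubgroup L).equivMapOfInjective _ L.subtype_injective
  exact (Group.isNilpotent_congr e).mp Cfsg.Agent.H1.fittingSubgroup_nilpotent

theorem le_normalizer_fitAmb (L : Subgroup G) : L ≤ Subgroup.normalizer (fitAmb L : Set G) := by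
  intro g hg
  rw [Subgroup.mem_normalizer_iff]
  intro y
  constructor
  · rintro ⟨y', hy', rfl⟩
    refine ⟨⟨g, hg⟩ * y' * ⟨g, hg⟩⁻¹, ?_, rfl⟩
    exact (Cfsg.Agent.H1.fittingSubgroup_normal (G := L)).conj_mem y' hy' ⟨g, hg⟩
  · rintro ⟨z', hz', hz⟩
    have hyL : y ∈ L := by
      have : y = g⁻¹ * (g * y * g⁻¹) * g := by group
      rw [this, ← hz]
      exact L.mul_mem (L.mul_mem (L.inv_mem hg) z'.2) hg
    refine ⟨⟨y, hyL⟩, ?_, rfl⟩
    have := (Cfsg.Agent.H1.fittingSubgroup_normal (G := L)).conj_mem z' hz' ⟨g, hg⟩⁻¹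
    have e : (⟨g, hg⟩ : L)⁻¹ * z' * (⟨g, hg⟩ : L)⁻¹⁻¹ = ⟨y, hyL⟩ := by
      apply Subtype.ext
      simp only [Subgroup.coe_mul, Subgroup.coe_inv, inv_inv]
      have hz'' : (z' : G) = g * y * g⁻¹ := hz
      rw [hz'']; group
    rw [e] at this; exact this

theorem centralizer_fitAmb_le {L : Subgroup G} (hs : Group.IsSolvable L) {x : G} (hxL : x ∈ L)
    (hc : ∀ n ∈ fitAmb L, n * x = x * n) : x ∈ fitAmb L := by
  have h1 : (⟨x, hxL⟩ : L) ∈ Subgroup.centralizer (Cfsg.fittingSubgroup L : Set L) := by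
    rw [Subgroup.mem_centralizer_iff]
    intro n hn
    apply Subtype.ext
    exact hc n ⟨n, hn, rfl⟩
  have h2 := Cfsg.Agent.S0044.result (G := L) h1
  exact ⟨⟨x, hxL⟩, h2, rfl⟩

/-- a nontrivial solvable subgroup has a nontrivial normal subgroup of prime power order. -/
theorem exists_normal_pSubgroup {L : Subgroup G} (hs : Group.IsSolvable L) (hL : L ≠ ⊥) :
    ∃ (s : ℕ) (N : Subgroup G), s.Prime ∧ N ≠ ⊥ ∧ N ≤ L ∧ IsPGroup s N ∧
      L ≤ Subgroup.normalizer (N : Set G) := by
  have hF : fitAmb L ≠ ⊥ := by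
    intro h
    apply hL
    rw [eq_bot_iff]
    intro x hx
    have := centralizer_fitAmb_le hs hx (by
      intro n hn
      rw [h, Subgroup.mem_bot] at hn
      rw [hn]; simp)
    rw [h] at this; exact this
  have hc1 : Nat.card (fitAmb L) ≠ 1 := fun h => hF (Subgroup.card_eq_one.mp h)
  obtain ⟨s, hs', hsd⟩ := Nat.exists_prime_and_dvd hc1
  haveI := Fact.mk hs'
  refine ⟨s, syl (fitAmb L) s, hs', syl_ne_bot (fitAmb_nilpotent L) hsd,
    (syl_le _ _).trans (fitAmb_le L), syl_isPGroup (fitAmb_nilpotent L), ?_⟩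
  exact (le_normalizer_fitAmb L).trans (normalizer_le_normalizer_syl _ _)

/-- an `r`-element of a solvable subgroup `L` centralising every normal subgroup of prime power order of `L`
lies in a normal `r`-subgroup of `L`. -/
theorem fit_amb {L : Subgroup G} (hs : Group.IsSolvable L) {r : ℕ} (hr : r.Prime) {x : G}
    (hxL : x ∈ L) {k : ℕ} (hxr : x ^ r ^ k = 1)
    (hc : ∀ (q : ℕ) (N : Subgroup G), q.Prime → N ≤ L → L ≤ Subgroup.normalizer (N : Set G) →
      IsPGroup q N → ∀ n ∈ N, n * x = x * n) :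
    ∃ N : Subgroup G, N ≤ L ∧ L ≤ Subgroup.normalizer (N : Set G) ∧ IsPGroup r N ∧ x ∈ N := by
  haveI := Fact.mk hr
  have hnorm : ∀ q : ℕ, L ≤ Subgroup.normalizer (syl (fitAmb L) q : Set G) := fun q =>
    (le_normalizer_fitAmb L).trans (normalizer_le_normalizer_syl _ _)
  have h1 : fitAmb L ≤ Subgroup.centralizer ({x} : Set G) := by
    apply le_of_forall_syl_le (fitAmb_nilpotent L)
    intro q hq
    haveI := Fact.mk hq
    intro n hn
    rw [Subgroup.mem_centralizer_singleton_iff]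
    exact hc q (syl (fitAmb L) q) hq ((syl_le _ _).trans (fitAmb_le L)) (hnorm q)
      (syl_isPGroup (fitAmb_nilpotent L)) n hn
  have h2 : x ∈ fitAmb L := centralizer_fitAmb_le hs hxL (fun n hn =>
    Subgroup.mem_centralizer_singleton_iff.mp (h1 hn))
  exact ⟨syl (fitAmb L) r, (syl_le _ _).trans (fitAmb_le L), hnorm r,
    syl_isPGroup (fitAmb_nilpotent L), mem_syl_of_pow h2 hxr⟩

end fitting

end Cfsg.Agent.Lib.Helper7.KW
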