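import Mathlib
import Cfsg.Agent.Lib.Helper7.KWMin
import Cfsg.Agent.Lib.Helper7.KWTools

set_option autoImplicit false
set_option linter.style.haveILetI false
set_option linter.unusedSectionVars false
set_option linter.unusedVariables false

namespace Cfsg.Agent.Lib.Helper7.KW

open Cfsg Cfsg.Agent.Lib.Helper7
open scoped Pointwise

universe u
variable {G : Type u} [Group G] [Finite G]

theorem le_normalizer_sup {H A C : Subgroup G} (hA : H ≤ Subgroup.normalizer (A : Set G))
    (hC : H ≤ Subgroup.normalizer (C : Set G)) : H ≤ Subgroup.normalizer ((A ⊔ C : Subgroup G) : Set G) := by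
  intro h hh
  apply mem_normalizer_of_cj_eq
  show Subgroup.map _ (A ⊔ C) = A ⊔ C
  rw [Subgroup.map_sup]
  have h1 : cj h A = A := cj_eq_of_mem_normalizer (hA hh)
  have h2 : cj h C = C := cj_eq_of_mem_normalizer (hC hh)
  show cj h A ⊔ cj h C = _
  rw [h1, h2]

theorem normalizer_ne_top_of_simple [IsSimpleGroup G] {N H : Subgroup G} (hN : N ≠ ⊥) (hNH : N ≤ H)
    (hH : H ≠ ⊤) : Subgroup.normalizer (N : Set G) ≠ ⊤ := by
  intro h
  have hn : N.Normal := Subgroup.normalizer_eq_top_iff.mp h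
  rcases hn.eq_bot_or_eq_top with h0 | h0
  · exact hN h0
  · apply hH; rw [eq_top_iff, ← h0]; exact hNH

/-- coprimality of order and index of a Sylow part of a Hall factor -/
theorem NC.syl_coprime_index {H K : Subgroup G} (hHK : NC H K) {r : ℕ} (hr : r.Prime) :
    (Nat.card (syl H r)).Coprime (syl H r).index := by
  haveI := Fact.mk hr
  by_cases hd : r ∣ Nat.card H
  · have h1 := card_syl (p := r) hHK.nilH
    obtain ⟨v, hv⟩ : ∃ v : ℕ, v = (Nat.card H).factorization r := ⟨_, rfl⟩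
    have h5 : r ^ v ∣ Nat.card H := by rw [hv]; exact Nat.ordProj_dvd _ _
    have hcop : (r ^ v).Coprime (Nat.card H / r ^ v) := by
      apply Nat.Coprime.pow_left
      rw [hv]; exact Nat.coprime_ordCompl hr Nat.card_pos.ne'
    rw [← hv] at h1
    obtain ⟨m, hm⟩ : ∃ m : ℕ, m = Nat.card H / r ^ v := ⟨_, rfl⟩
    have hm' : Nat.card H = r ^ v * m := by rw [hm]; exact (Nat.mul_div_cancel' h5).symm
    rw [← hm] at hcop
    have h6 : 0 < r ^ v := pow_pos hr.pos _
    have h2 : (syl H r).index = Nat.card K * m := by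
      have h3 := (syl H r).card_mul_index
      have h4 := hHK.fac.card hHK.cop
      rw [h1] at h3
      have : r ^ v * (syl H r).index = r ^ v * (Nat.card K * m) := by
        rw [h3, ← h4, hm']; ring
      exact Nat.eq_of_mul_eq_mul_left h6 this
    rw [h1, h2]
    apply Nat.Coprime.mul_right _ hcop
    apply Nat.Coprime.pow_left
    rw [Nat.Prime.coprime_iff_not_dvd hr]
    intro hk
    have := Nat.eq_one_of_dvd_coprimes hHK.cop hd hk
    exact hr.one_lt.ne' this
  · rw [syl_eq_bot_of_not_dvd hHK.nilH hd, Subgroup.card_bot]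
    exact Nat.coprime_one_left _

variable (ih : IH G) (hns : ¬ Group.IsSolvable G) {H K : Subgroup G} (hHK : NC H K)

include ih hns hHK in
/-- Lemma 3.1: a nontrivial normal subgroup of `K` cannot normalise a nontrivial normal subgroup of `H`. -/
theorem not_normalizes {S B : Subgroup G} (hS : S ≤ H)
    (hSn : H ≤ Subgroup.normalizer (S : Set G)) (hS1 : S ≠ ⊥)
    (hBn : K ≤ Subgroup.normalizer (B : Set G)) (hB1 : B ≠ ⊥)
    (h : B ≤ Subgroup.normalizer (S : Set G)) : False := by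
  haveI := isSimple ih hns hHK
  have h1 : S ⊔ B = ⊤ :=
    eq_top_of_perm hHK.fac hSn hBn hS1 hB1 (S ⊔ B) (Subgroup.coe_mul_of_right_le_normalizer_left S B h)
  apply normalizer_ne_top_of_simple hS1 hS (ne_top_left hns hHK)
  rw [eq_top_iff, ← h1]
  exact sup_le Subgroup.le_normalizer h

/-- bad pairs -/
def Bad (H K A B : Subgroup G) : Prop :=
  A ≤ H ∧ H ≤ Subgroup.normalizer (A : Set G) ∧ A ≠ ⊥ ∧ B ≤ K ∧ K ≤ Subgroup.normalizer (B : Set G) ∧
    B ≠ ⊥ ∧ A ⊔ B ≠ ⊤

theorem Bad.symm {H K A B : Subgroup G} (h : Bad H K A B) : Bad K H B A := by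
  obtain ⟨h1, h2, h3, h4, h5, h6, h7⟩ := h
  exact ⟨h4, h5, h6, h1, h2, h3, by rwa [sup_comm]⟩

/-- context: a maximal bad pair and a solvable factorised subgroup containing it -/
structure Ctx (H K A B L : Subgroup G) : Prop where
  bad : Bad H K A B
  max : ∀ A' B', Bad H K A' B' → Nat.card A' + Nat.card B' ≤ Nat.card A + Nat.card B
  hAL : A ≤ L
  hBL : B ≤ L
  fac : ∀ g ∈ L, ∃ a ∈ L ⊓ H, ∃ b ∈ L ⊓ K, g = a * b
  solv : Group.IsSolvable L

theorem fac_sub_symm {L H' K' : Subgroup G}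
    (h : ∀ g ∈ L, ∃ a ∈ H', ∃ b ∈ K', g = a * b) : ∀ g ∈ L, ∃ b ∈ K', ∃ a ∈ H', g = b * a := by
  intro g hg
  obtain ⟨a, ha, b, hb, e⟩ := h g⁻¹ (L.inv_mem hg)
  refine ⟨b⁻¹, K'.inv_mem hb, a⁻¹, H'.inv_mem ha, ?_⟩
  have : g = (g⁻¹)⁻¹ := by simp
  rw [this, e]; group

theorem Ctx.symm {H K A B L : Subgroup G} (c : Ctx H K A B L) : Ctx K H B A L :=
  ⟨c.bad.symm, fun A' B' hb => by
    have := c.max B' A' hb.symm
    omega, c.hBL, c.hAL, fac_sub_symm c.fac, c.solv⟩

include ih hns hHK in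
/-- Step α -/
theorem Ctx.alpha {A B L : Subgroup G} (c : Ctx H K A B L) {s : ℕ} (hs : s.Prime) {N : Subgroup G}
    (hN1 : N ≠ ⊥) (hNH : N ≤ H) (hNs : IsPGroup s N)
    (hn : A ⊔ B ≤ Subgroup.normalizer (N : Set G)) {r : ℕ} (hr : r.Prime) (hrs : r ≠ s) :
    syl H r ≤ A := by
  haveI := isSimple ih hns hHK
  obtain ⟨h1, h2, h3, h4, h5, h6, h7⟩ := c.bad
  have hbad : Bad H K (A ⊔ syl H r) B := by
    refine ⟨sup_le h1 (syl_le H r), le_normalizer_sup h2
      (Subgroup.le_normalizer.trans (normalizer_le_normalizer_syl H r)), ?_, h4, h5, h6, ?_⟩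
    · intro h
      apply h3
      rw [eq_bot_iff, ← h]; exact le_sup_left
    · intro htop
      apply normalizer_ne_top_of_simple hN1 hNH (ne_top_left hns hHK)
      rw [eq_top_iff, ← htop]
      refine sup_le (sup_le (le_sup_left.trans hn) ?_) (le_sup_right.trans hn)
      intro x hx
      have hNs' : N ≤ syl H s := le_syl_of_isPGroup hNH hNs
      apply Cfsg.Agent.Lib.Lead.Conj.mem_normalizer_of_conj_mem
      intro z hz
      have := commute_syl hHK.nilH hr hs hrs hx (hNs' hz)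
      rw [this]
      have : z * x * x⁻¹ = z := by group
      rw [this]; exact hz
  have hle := c.max _ _ hbad
  have hcard : Nat.card (A ⊔ syl H r : Subgroup G) ≤ Nat.card A := by omega
  have : A ⊔ syl H r = A := (Subgroup.eq_of_le_of_card_ge le_sup_left hcard).symm
  rw [← this]; exact le_sup_right

include ih hns hHK in
/-- Step β: two normal subgroups of prime power order for different primes inside `H` -/
theorem Ctx.beta {A B L : Subgroup G} (c : Ctx H K A B L) {s s' : ℕ} (hs : s.Prime) (hs' : s'.Prime)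
    (hss : s ≠ s') {N N' : Subgroup G}
    (hN1 : N ≠ ⊥) (hNH : N ≤ H) (hNs : IsPGroup s N)
    (hn : A ⊔ B ≤ Subgroup.normalizer (N : Set G))
    (hN1' : N' ≠ ⊥) (hNH' : N' ≤ H) (hNs' : IsPGroup s' N')
    (hn' : A ⊔ B ≤ Subgroup.normalizer (N' : Set G)) : False := by
  obtain ⟨h1, h2, h3, h4, h5, h6, h7⟩ := c.bad
  have hHA : H ≤ A := by
    apply le_of_forall_syl_le hHK.nilH
    intro q hq
    by_cases hqs : q = s
    · exact c.alpha ih hns hHK hs' hN1' hNH' hNs' hn' hq (by rw [hqs]; exact hss)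
    · exact c.alpha ih hns hHK hs hN1 hNH hNs hn hq hqs
  exact not_normalizes ih hns hHK hNH (hHA.trans (le_sup_left.trans hn)) hN1 h5 h6
    (le_sup_right.trans hn)

include ih hns hHK in
/-- the Sylow parts are proper -/
theorem card_syl_lt {r : ℕ} (hr : r.Prime) : Nat.card (syl H r) < Nat.card H := by
  have h1 : Nat.card (syl H r) ≤ Nat.card H := Subgroup.card_le_of_le (syl_le H r)
  rcases h1.lt_or_eq with h | h
  · exact h
  · exfalso
    haveI := Fact.mk hr
    obtain ⟨p, hp, hpr, hpH⟩ := exists_other_prime_left ih hns hHK r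
    have h2 := card_syl (p := r) hHK.nilH
    rw [h] at h2
    rw [h2] at hpH
    exact hpr ((Nat.prime_dvd_prime_iff_eq hp hr).mp (hp.dvd_of_dvd_pow hpH))

include ih hns hHK in
/-- Step γ: normal subgroups of prime power order inside `H` and inside `K`. -/
theorem Ctx.gamma {A B L : Subgroup G} (c : Ctx H K A B L) {s t : ℕ} (hs : s.Prime) (ht : t.Prime)
    {N N' : Subgroup G}
    (hN1 : N ≠ ⊥) (hNH : N ≤ H) (hNs : IsPGroup s N)
    (hn : A ⊔ B ≤ Subgroup.normalizer (N : Set G))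
    (hN1' : N' ≠ ⊥) (hNK' : N' ≤ K) (hNt' : IsPGroup t N')
    (hn' : A ⊔ B ≤ Subgroup.normalizer (N' : Set G)) : False := by
  haveI := isSimple ih hns hHK
  obtain ⟨h1, h2, h3, h4, h5, h6, h7⟩ := c.bad
  obtain ⟨r, hr, hrs, hrH⟩ := exists_other_prime_left ih hns hHK s
  obtain ⟨u, hu, hut, huK⟩ := exists_other_prime_left ih hns hHK.symm t
  have hrA : syl H r ≤ A := c.alpha ih hns hHK hs hN1 hNH hNs hn hr hrs
  have huB : syl K u ≤ B := c.symm.alpha ih hns hHK.symm ht hN1' hNK' hNt'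
    (by rw [sup_comm]; exact hn') hu hut
  have hHn : H ≤ Subgroup.normalizer (syl H r : Set G) :=
    Subgroup.le_normalizer.trans (normalizer_le_normalizer_syl H r)
  have hKn : K ≤ Subgroup.normalizer (syl K u : Set G) :=
    Subgroup.le_normalizer.trans (normalizer_le_normalizer_syl K u)
  haveI := Fact.mk hr
  haveI := Fact.mk hu
  obtain ⟨S, hS⟩ := perm_sub (L := L) (H' := L ⊓ H) (K' := L ⊓ K) (A := syl H r) (B := syl K u)
    c.solv inf_le_left inf_le_left c.fac (le_inf (hrA.trans c.hAL) (syl_le H r))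
    (inf_le_right.trans hHn) (le_inf (huB.trans c.hBL) (syl_le K u)) (inf_le_right.trans hKn)
    (Nat.Coprime.coprime_dvd_right (Subgroup.relIndex_dvd_index_of_le (hrA.trans c.hAL))
      (hHK.syl_coprime_index hr))
    (Nat.Coprime.coprime_dvd_right (Subgroup.relIndex_dvd_index_of_le (huB.trans c.hBL))
      (hHK.symm.syl_coprime_index hu))
  have hStop := eq_top_of_perm hHK.fac hHn hKn (syl_ne_bot hHK.nilH hrH) (syl_ne_bot hHK.nilK huK) S hS
  have hc1 : Nat.card G = Nat.card S := by rw [hStop, Subgroup.card_top]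
  have hc2 : Nat.card S ≤ Nat.card (syl H r) * Nat.card (syl K u) := by
    have : Nat.card S = Nat.card ((S : Set G)) := rfl
    rw [this, hS]
    exact Set.natCard_mul_le
  have hc3 := card_syl_lt ih hns hHK hr
  have hc4 : Nat.card (syl K u) ≤ Nat.card K := Subgroup.card_le_of_le (syl_le K u)
  have hc5 := hHK.fac.card hHK.cop
  have hc6 : 0 < Nat.card (syl K u) := Nat.card_pos
  nlinarith

/-- a normal subgroup of prime power order of a factorised subgroup lies in one of the factors -/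
theorem side {H K L N : Subgroup G} (hc : (Nat.card H).Coprime (Nat.card K))
    (hf : ∀ g ∈ L, ∃ a ∈ L ⊓ H, ∃ b ∈ L ⊓ K, g = a * b) {s : ℕ} (hs : s.Prime)
    (hNs : IsPGroup s N) (hNL : N ≤ L) (hn : L ≤ Subgroup.normalizer (N : Set G)) :
    N ≤ H ∨ N ≤ K := by
  haveI := Fact.mk hs
  obtain ⟨j, hj⟩ := IsPGroup.iff_card.mp hNs
  have hc' : (Nat.card (L ⊓ H : Subgroup G)).Coprime (Nat.card (L ⊓ K : Subgroup G)) :=
    Nat.Coprime.coprime_dvd_left (Subgroup.card_dvd_of_le inf_le_right)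
      (Nat.Coprime.coprime_dvd_right (Subgroup.card_dvd_of_le inf_le_right) hc)
  by_cases hsK : s ∣ Nat.card K
  · right
    have hsH : ¬ s ∣ Nat.card H := fun h => hs.one_lt.ne' (Nat.eq_one_of_dvd_coprimes hc h hsK)
    have : N ≤ L ⊓ K := by
      apply le_of_normal_coprime (L := L) (H' := L ⊓ K) (K' := L ⊓ H) (fac_sub_symm hf) inf_le_left
        hc'.symm hNL hn
      rw [hj]
      apply Nat.Coprime.pow_left
      rw [Nat.Prime.coprime_iff_not_dvd hs]
      exact fun h => hsH (h.trans (Subgroup.card_dvd_of_le inf_le_right))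
    exact this.trans inf_le_right
  · left
    have : N ≤ L ⊓ H := by
      apply le_of_normal_coprime (L := L) (H' := L ⊓ H) (K' := L ⊓ K) hf inf_le_left hc' hNL hn
      rw [hj]
      apply Nat.Coprime.pow_left
      rw [Nat.Prime.coprime_iff_not_dvd hs]
      exact fun h => hsK (h.trans (Subgroup.card_dvd_of_le inf_le_right))
    exact this.trans inf_le_right

include ih hns hHK in
/-- the core of (F2): a nontrivial normal subgroup of prime power order of `L` inside `H` is impossible -/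
theorem Ctx.core {A B L : Subgroup G} (c : Ctx H K A B L) {s : ℕ} (hs : s.Prime) {N : Subgroup G}
    (hN1 : N ≠ ⊥) (hNH : N ≤ H) (hNs : IsPGroup s N) (hNL : N ≤ L)
    (hn : L ≤ Subgroup.normalizer (N : Set G)) : False := by
  have hABL : A ⊔ B ≤ L := sup_le c.hAL c.hBL
  obtain ⟨r, hr, hrs, hrH⟩ := exists_other_prime_left ih hns hHK s
  haveI := Fact.mk hr
  have hrA : syl H r ≤ A := c.alpha ih hns hHK hs hN1 hNH hNs (hABL.trans hn) hr hrs
  obtain ⟨x, hx, hx1⟩ : ∃ x ∈ syl H r, x ≠ 1 := by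
    by_contra hcon
    push Not at hcon
    apply syl_ne_bot hHK.nilH hrH
    rw [eq_bot_iff]
    intro y hy
    rw [Subgroup.mem_bot]; exact hcon y hy
  obtain ⟨-, k, hxk⟩ := (mem_syl_iff hHK.nilH).mp hx
  have hxL : x ∈ L := c.hAL (hrA hx)
  have hrK : ¬ r ∣ Nat.card K := fun h => hr.one_lt.ne' (Nat.eq_one_of_dvd_coprimes hHK.cop hrH h)
  by_cases hcent : ∀ (q : ℕ) (N'' : Subgroup G), q.Prime → N'' ≤ L →
      L ≤ Subgroup.normalizer (N'' : Set G) → IsPGroup q N'' → ∀ n ∈ N'', n * x = x * n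
  · obtain ⟨Nr, hNrL, hNrn, hNrp, hxNr⟩ := fit_amb c.solv hr hxL hxk hcent
    have hNr1 : Nr ≠ ⊥ := by
      intro h
      rw [h, Subgroup.mem_bot] at hxNr
      exact hx1 hxNr
    have hNrH : Nr ≤ H := by
      rcases side hHK.cop c.fac hr hNrp hNrL hNrn with h | h
      · exact h
      · exfalso
        obtain ⟨j, hj⟩ := IsPGroup.iff_card.mp hNrp
        have h2 : Nat.card Nr ∣ Nat.card K := Subgroup.card_dvd_of_le h
        have hj0 : j ≠ 0 := by
          rintro rfl
          rw [pow_zero] at hj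
          exact hNr1 (Subgroup.card_eq_one.mp hj)
        exact hrK ((dvd_pow_self r hj0).trans (hj ▸ h2))
    exact c.beta ih hns hHK hs hr (Ne.symm hrs) hN1 hNH hNs (hABL.trans hn) hNr1 hNrH hNrp
      (hABL.trans hNrn)
  · push Not at hcent
    obtain ⟨q, N'', hq, hN''L, hN''n, hN''q, n, hnN, hnx⟩ := hcent
    have hN''1 : N'' ≠ ⊥ := by
      intro h
      rw [h, Subgroup.mem_bot] at hnN
      apply hnx; rw [hnN]; simp
    rcases side hHK.cop c.fac hq hN''q hN''L hN''n with h | h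
    · by_cases hqr : q = r
      · subst hqr
        exact c.beta ih hns hHK hs hq (Ne.symm hrs) hN1 hNH hNs (hABL.trans hn) hN''1 h hN''q
          (hABL.trans hN''n)
      · exfalso
        apply hnx
        exact commute_syl hHK.nilH hq hr hqr (le_syl_of_isPGroup h hN''q hnN) hx
    · exact c.gamma ih hns hHK hs hq hN1 hNH hNs (hABL.trans hn) hN''1 h hN''q (hABL.trans hN''n)

include ih hns hHK in
/-- (F2): nontrivial normal subgroups of `H` and of `K` generate `G`. -/
theorem sup_eq_top {A B : Subgroup G} (hA : A ≤ H) (hAn : H ≤ Subgroup.normalizer (A : Set G))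
    (hA1 : A ≠ ⊥) (hB : B ≤ K) (hBn : K ≤ Subgroup.normalizer (B : Set G)) (hB1 : B ≠ ⊥) :
    A ⊔ B = ⊤ := by
  by_contra hcon
  haveI := isSimple ih hns hHK
  have hex : ∃ P : Subgroup G × Subgroup G, Bad H K P.1 P.2 := ⟨(A, B), hA, hAn, hA1, hB, hBn, hB1, hcon⟩
  -- a maximal bad pair
  obtain ⟨P, hP, hPmax⟩ : ∃ P : Subgroup G × Subgroup G, Bad H K P.1 P.2 ∧
      ∀ P' : Subgroup G × Subgroup G, Bad H K P'.1 P'.2 →
        Nat.card P'.1 + Nat.card P'.2 ≤ Nat.card P.1 + Nat.card P.2 := by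
    have hfin : (Set.univ : Set (Subgroup G × Subgroup G)).Finite := Set.finite_univ
    have hne : {P : Subgroup G × Subgroup G | Bad H K P.1 P.2}.Nonempty := hex
    obtain ⟨P, hP, hPm⟩ := Set.exists_max_image {P : Subgroup G × Subgroup G | Bad H K P.1 P.2}
      (fun P => Nat.card P.1 + Nat.card P.2) (Set.toFinite _) hne
    exact ⟨P, hP, fun P' hP' => hPm P' hP'⟩
  obtain ⟨A', B'⟩ := P
  simp only at hP hPmax
  obtain ⟨h1, h2, h3, h4, h5, h6, h7⟩ := hP
  obtain ⟨L, hL⟩ : ∃ L : Subgroup G, L = Subgroup.normalizer ((A' ⊔ B' : Subgroup G) : Set G) := ⟨_, rfl⟩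
  have hDL : A' ⊔ B' ≤ L := by rw [hL]; exact Subgroup.le_normalizer
  have hLtop : L ≠ ⊤ := by
    rw [hL]
    exact normalizer_ne_top_of_simple (H := A' ⊔ B') (fun h => h3 (eq_bot_iff.mpr (h ▸ le_sup_left)))
      le_rfl h7
  have hfac : ∀ g ∈ L, ∃ a ∈ L ⊓ H, ∃ b ∈ L ⊓ K, g = a * b := by
    rw [hL]; exact normalizer_fac hHK.fac h1 h2 h4 h5
  have hsolv : Group.IsSolvable L :=
    ih.solvable_sub hLtop inf_le_left inf_le_left (isNilpotent_of_le hHK.nilH inf_le_right)
      (isNilpotent_of_le hHK.nilK inf_le_right)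
      (Nat.Coprime.coprime_dvd_left (Subgroup.card_dvd_of_le inf_le_right)
        (Nat.Coprime.coprime_dvd_right (Subgroup.card_dvd_of_le inf_le_right) hHK.cop)) hfac
  have c : Ctx H K A' B' L :=
    ⟨⟨h1, h2, h3, h4, h5, h6, h7⟩, fun A'' B'' hb => hPmax (A'', B'') hb, le_sup_left.trans hDL,
      le_sup_right.trans hDL, hfac, hsolv⟩
  have hL1 : L ≠ ⊥ := fun h => h3 (eq_bot_iff.mpr (h ▸ c.hAL))
  obtain ⟨s, N, hs, hN1, hNL, hNs, hn⟩ := exists_normal_pSubgroup hsolv hL1
  rcases side hHK.cop hfac hs hNs hNL hn with h | h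
  · exact c.core ih hns hHK hs hN1 h hNs hNL hn
  · exact c.symm.core ih hns hHK.symm hs hN1 h hNs hNL hn

end Cfsg.Agent.Lib.Helper7.KW
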