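import Mathlib
import Cfsg.Agent.Lib.Helper7.KWGen
import Cfsg.Agent.Lib.Lead.CarterSys

set_option autoImplicit false
set_option linter.style.haveILetI false
set_option linter.unusedSectionVars false
set_option linter.unusedVariables false

namespace Cfsg.Agent.Lib.Helper7.KW

open Cfsg Cfsg.Agent.Lib.Helper7
open scoped Pointwise

universe u
variable {G : Type u} [Group G] [Finite G]

/-- `a` is a central element of the subgroup `H`. -/
def IsCen (H : Subgroup G) (a : G) : Prop := a ∈ H ∧ ∀ h ∈ H, h * a = a * h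

theorem IsCen.pow {H : Subgroup G} {a : G} (h : IsCen H a) (n : ℕ) : IsCen H (a ^ n) := by
  refine ⟨H.pow_mem h.1 n, fun x hx => ?_⟩
  exact ((Commute.pow_right (h.2 x hx) n))

theorem IsCen.zpowers_le {H : Subgroup G} {a : G} (h : IsCen H a) : Subgroup.zpowers a ≤ H :=
  Subgroup.zpowers_le.mpr h.1

theorem IsCen.le_normalizer {H : Subgroup G} {a : G} (h : IsCen H a) :
    H ≤ Subgroup.normalizer (Subgroup.zpowers a : Set G) := by
  intro x hx
  apply Cfsg.Agent.Lib.Lead.Conj.mem_normalizer_of_conj_mem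
  intro z hz
  obtain ⟨n, rfl⟩ := Subgroup.mem_zpowers_iff.mp hz
  have : x * a ^ n * x⁻¹ = a ^ n := by
    have h1 : Commute x a := h.2 x hx
    have h2 : x * a ^ n = a ^ n * x := h1.zpow_right n
    rw [h2]; group
  rw [this]; exact hz

theorem zpowers_ne_bot' {a : G} (h : a ≠ 1) : Subgroup.zpowers a ≠ ⊥ := by
  intro hb
  apply h
  have : a ∈ Subgroup.zpowers a := Subgroup.mem_zpowers a
  rw [hb, Subgroup.mem_bot] at this; exact this

/-- a prime-order power -/
theorem exists_prime_order_pow {a : G} (h : a ≠ 1) :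
    ∃ (p n : ℕ), p.Prime ∧ orderOf (a ^ n) = p := by
  have h1 : orderOf a ≠ 1 := fun h' => h (orderOf_eq_one_iff.mp h')
  obtain ⟨p, hp, hpd⟩ := Nat.exists_prime_and_dvd h1
  refine ⟨p, orderOf a / p, hp, ?_⟩
  exact orderOf_pow_orderOf_div (orderOf_pos a).ne' hpd

variable (ih : IH G) (hns : ¬ Group.IsSolvable G) {H K : Subgroup G} (hHK : NC H K)

include ih hns hHK in
theorem center_eq_bot : Subgroup.center G = ⊥ := by
  haveI := isSimple ih hns hHK
  rcases (inferInstance : (Subgroup.center G).Normal).eq_bot_or_eq_top with h | h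
  · exact h
  · exfalso
    apply hns
    apply Group.isSolvable_of_comm
    intro a b
    have : b ∈ Subgroup.center G := by rw [h]; trivial
    exact (Subgroup.mem_center_iff.mp this a)

include ih hns hHK in
/-- (F3) -/
theorem centralizer_eq {a : G} (ha : IsCen H a) (ha1 : a ≠ 1) :
    Subgroup.centralizer ({a} : Set G) = H := by
  apply le_antisymm
  · intro g hg
    obtain ⟨h, hh, k, hk, e⟩ := hHK.fac g
    have hkC : k ∈ Subgroup.centralizer ({a} : Set G) := by
      have : k = h⁻¹ * g := by rw [e]; group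
      rw [this]
      apply Subgroup.mul_mem _ (Subgroup.inv_mem _ _) hg
      rw [Subgroup.mem_centralizer_singleton_iff]
      exact ha.2 h hh
    -- a central element of K
    have hK1 : Nat.card K ≠ 1 := fun h' => ne_bot_right hns hHK (Subgroup.card_eq_one.mp h')
    obtain ⟨q, hq, hqK⟩ := Nat.exists_prime_and_dvd hK1
    haveI := Fact.mk hq
    obtain ⟨b, hb, hbo, hbc⟩ := exists_central_order hHK.nilK hqK
    have hb1 : b ≠ 1 := by
      intro h'
      rw [h', orderOf_one] at hbo
      exact hq.one_lt.ne hbo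
    have hbC : IsCen K b := ⟨syl_le K q hb, hbc⟩
    have htop := sup_eq_top ih hns hHK ha.zpowers_le ha.le_normalizer (zpowers_ne_bot' ha1)
      hbC.zpowers_le hbC.le_normalizer (zpowers_ne_bot' hb1)
    have hkcen : k ∈ Subgroup.center G := by
      have h1 : Subgroup.zpowers a ⊔ Subgroup.zpowers b ≤ Subgroup.centralizer ({k} : Set G) := by
        apply sup_le
        · rw [Subgroup.zpowers_le, Subgroup.mem_centralizer_singleton_iff]
          exact (Subgroup.mem_centralizer_singleton_iff.mp hkC).symm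
        · rw [Subgroup.zpowers_le, Subgroup.mem_centralizer_singleton_iff]
          exact (hbc k hk).symm
      rw [htop] at h1
      rw [Subgroup.mem_center_iff]
      intro y
      have := h1 (Subgroup.mem_top y)
      exact Subgroup.mem_centralizer_singleton_iff.mp this
    rw [center_eq_bot ih hns hHK, Subgroup.mem_bot] at hkcen
    rw [e, hkcen, mul_one]; exact hh
  · intro h hh
    rw [Subgroup.mem_centralizer_singleton_iff]
    exact ha.2 h hh

omit [Finite G] in
theorem centralizer_conj (v a : G) :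
    Subgroup.centralizer ({v * a * v⁻¹} : Set G) = cj v (Subgroup.centralizer ({a} : Set G)) := by
  ext x
  rw [mem_cj, Subgroup.mem_centralizer_singleton_iff, Subgroup.mem_centralizer_singleton_iff]
  constructor
  · intro h
    calc v⁻¹ * x * v * a = v⁻¹ * (x * (v * a * v⁻¹)) * v := by group
      _ = v⁻¹ * ((v * a * v⁻¹) * x) * v := by rw [h]
      _ = a * (v⁻¹ * x * v) := by group
  · intro h
    calc x * (v * a * v⁻¹) = v * ((v⁻¹ * x * v) * a) * v⁻¹ := by group
      _ = v * (a * (v⁻¹ * x * v)) * v⁻¹ := by rw [h]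
      _ = v * a * v⁻¹ * x := by group

include ih hns hHK in
/-- (F4a) -/
theorem normalizer_syl_le {r : ℕ} (hr : r.Prime) (hrH : r ∣ Nat.card H) :
    Subgroup.normalizer (syl H r : Set G) ≤ Subgroup.normalizer (H : Set G) := by
  haveI := Fact.mk hr
  intro v hv
  obtain ⟨a, ha, hao, hac⟩ := exists_central_order hHK.nilH hrH
  have ha1 : a ≠ 1 := by
    intro h'
    rw [h', orderOf_one] at hao
    exact hr.one_lt.ne hao
  have haC : IsCen H a := ⟨syl_le H r ha, hac⟩
  have hva : v * a * v⁻¹ ∈ syl H r := conj_mem_of_mem_normalizer hv ha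
  have hvaC : IsCen H (v * a * v⁻¹) := by
    refine ⟨syl_le H r hva, ?_⟩
    apply central_of_central_syl hHK.nilH hva
    intro x hx
    have hx' : v⁻¹ * x * v ∈ syl H r := conj_mem_of_mem_normalizer' hv hx
    have := hac _ (syl_le H r hx')
    calc x * (v * a * v⁻¹) = v * ((v⁻¹ * x * v) * a) * v⁻¹ := by group
      _ = v * (a * (v⁻¹ * x * v)) * v⁻¹ := by rw [this]
      _ = v * a * v⁻¹ * x := by group
  have hva1 : v * a * v⁻¹ ≠ 1 := by
    intro h'
    apply ha1
    have : a = v⁻¹ * (v * a * v⁻¹) * v := by group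
    rw [this, h']; group
  have h1 := centralizer_eq ih hns hHK hvaC hva1
  rw [centralizer_conj, centralizer_eq ih hns hHK haC ha1] at h1
  exact mem_normalizer_of_cj_eq h1

include hHK in
/-- elements of the normaliser of `H` of order prime to `|K|` lie in `H` -/
theorem mem_of_mem_normalizer_coprime {x : G} (hx : x ∈ Subgroup.normalizer (H : Set G))
    (hc : (orderOf x).Coprime (Nat.card K)) : x ∈ H := by
  obtain ⟨a, ha, b, hb, e⟩ := hHK.fac x
  -- b⁻¹ = x⁻¹ * a
  have hxinv : x⁻¹ ∈ Subgroup.normalizer (H : Set G) := Subgroup.inv_mem _ hx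
  obtain ⟨y, hy, e2⟩ := pow_mul_mem hxinv ha (orderOf x)
  have hbinv : b⁻¹ = x⁻¹ * a := by rw [e]; group
  rw [← hbinv, inv_pow, inv_pow, pow_orderOf_eq_one, inv_one, one_mul] at e2
  have hbK : (b ^ orderOf x)⁻¹ ∈ H ⊓ K := ⟨e2 ▸ hy, K.inv_mem (K.pow_mem hb _)⟩
  rw [inf_eq_bot_of_coprime hHK.cop, Subgroup.mem_bot, inv_eq_one] at hbK
  have h1 : orderOf b ∣ orderOf x := orderOf_dvd_of_pow_eq_one hbK
  have h2 : orderOf b ∣ Nat.card K := by
    have := orderOf_dvd_natCard (⟨b, hb⟩ : K)
    rwa [Subgroup.orderOf_mk] at this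
  have hb1 : b = 1 := by
    rw [← orderOf_eq_one_iff]
    exact Nat.eq_one_of_dvd_coprimes hc h1 h2
  rw [e, hb1, mul_one]; exact ha

include hHK in
theorem le_of_le_normalizer_coprime {U : Subgroup G} (hU : U ≤ Subgroup.normalizer (H : Set G))
    (hc : (Nat.card U).Coprime (Nat.card K)) : U ≤ H := by
  intro x hx
  apply mem_of_mem_normalizer_coprime hHK (hU hx)
  have : orderOf x ∣ Nat.card U := by
    have := orderOf_dvd_natCard (⟨x, hx⟩ : U)
    rwa [Subgroup.orderOf_mk] at this
  exact Nat.Coprime.coprime_dvd_left this hc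

include ih hns hHK in
/-- (U): a `p`-element of `H ∩ H^g` whose centraliser lies in `N(H)` forces `g ∈ N(H)`. -/
theorem mem_normalizer_of_centralizer_le {w g : G} {p k : ℕ} (hp : p.Prime) (hw : w ∈ H)
    (hwp : w ^ p ^ k = 1) (hC : Subgroup.centralizer ({w} : Set G) ≤ Subgroup.normalizer (H : Set G))
    (hwg : w ∈ cj g H) : g ∈ Subgroup.normalizer (H : Set G) := by
  obtain ⟨r, hr, hrp, hrH⟩ := exists_other_prime_left ih hns hHK p
  haveI := Fact.mk hr
  haveI := Fact.mk hp
  have hnil : Group.IsNilpotent (cj g H) := isNilpotent_cj g hHK.nilH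
  have hwS : w ∈ syl (cj g H) p := mem_syl_of_pow hwg hwp
  have h1 : syl (cj g H) r ≤ Subgroup.centralizer ({w} : Set G) := by
    intro y hy
    rw [Subgroup.mem_centralizer_singleton_iff]
    exact commute_syl hnil hr hp hrp hy hwS
  have hcop : (Nat.card (syl (cj g H) r)).Coprime (Nat.card K) := by
    rw [card_syl hnil]
    apply Nat.Coprime.pow_left
    rw [Nat.Prime.coprime_iff_not_dvd hr]
    intro hk
    exact hr.one_lt.ne' (Nat.eq_one_of_dvd_coprimes hHK.cop hrH hk)
  have h2 : syl (cj g H) r ≤ H := le_of_le_normalizer_coprime hHK (h1.trans hC) hcop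
  have h3 : syl (cj g H) r ≤ syl H r := le_syl_of_isPGroup h2 (syl_isPGroup hnil)
  have h4 : syl (cj g H) r = syl H r := by
    apply Subgroup.eq_of_le_of_card_ge h3
    rw [card_syl hnil, card_syl hHK.nilH, card_cj]
  rw [syl_cj] at h4
  exact normalizer_syl_le ih hns hHK hr hrH (mem_normalizer_of_cj_eq h4)

include ih hns hHK in
/-- (5a) nontrivial central elements of `H` lie in a unique conjugate of `H`. -/
theorem mem_normalizer_of_central {a g : G} (ha : IsCen H a) (ha1 : a ≠ 1) (hag : a ∈ cj g H) :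
    g ∈ Subgroup.normalizer (H : Set G) := by
  obtain ⟨p, n, hp, ho⟩ := exists_prime_order_pow ha1
  have hw1 : a ^ n ≠ 1 := by
    intro h'
    rw [h', orderOf_one] at ho
    exact hp.one_lt.ne ho
  apply mem_normalizer_of_centralizer_le ih hns hHK (w := a ^ n) (k := 1) hp (ha.pow n).1
  · rw [pow_one, ← ho, pow_orderOf_eq_one]
  · rw [centralizer_eq ih hns hHK (ha.pow n) hw1]; exact Subgroup.le_normalizer
  · exact (cj g H).pow_mem hag n

include ih hns hHK in
/-- (F4) -/
theorem normalizer_le_normalizer {A : Subgroup G} (hA : A ≤ H)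
    (hAn : H ≤ Subgroup.normalizer (A : Set G)) (hA1 : A ≠ ⊥) :
    Subgroup.normalizer (A : Set G) ≤ Subgroup.normalizer (H : Set G) := by
  intro v hv
  haveI := hHK.nilH
  haveI : (A.subgroupOf H).Normal := normal_subgroupOf_of_le_normalizer hA hAn
  have hne : A.subgroupOf H ≠ ⊥ := by
    intro h'
    apply hA1
    rw [eq_bot_iff]
    intro x hx
    have : (⟨x, hA hx⟩ : H) ∈ A.subgroupOf H := Subgroup.mem_subgroupOf.mpr hx
    rw [h', Subgroup.mem_bot] at this
    rw [Subgroup.mem_bot]
    exact congrArg Subtype.val this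
  have := Cfsg.Agent.Lib.Lead.CarterSys.normal_inf_center_ne_bot_of_nilpotent (A.subgroupOf H) hne
  obtain ⟨⟨z, hzmem⟩, hz1⟩ := (Subgroup.ne_bot_iff_exists_ne_one).mp this
  have hzA : (z : G) ∈ A := Subgroup.mem_subgroupOf.mp hzmem.1
  have hzC : IsCen H (z : G) := by
    refine ⟨z.2, fun h hh => ?_⟩
    have := Subgroup.mem_center_iff.mp hzmem.2 ⟨h, hh⟩
    exact congrArg Subtype.val this
  have hz1' : (z : G) ≠ 1 := by
    intro h'
    apply hz1
    apply Subtype.ext
    apply Subtype.ext
    exact h'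
  apply mem_normalizer_of_central ih hns hHK hzC hz1'
  rw [mem_cj]
  exact hA (conj_mem_of_mem_normalizer' hv hzA)

end Cfsg.Agent.Lib.Helper7.KW
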