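import Mathlib
import Cfsg.Agent.Lib.Helper7.KWCen

set_option autoImplicit false
set_option linter.style.haveILetI false
set_option linter.unusedSectionVars false
set_option linter.unusedVariables false

namespace Cfsg.Agent.Lib.Helper7.KW

open Cfsg Cfsg.Agent.Lib.Helper7
open scoped Pointwise

universe u
variable {G : Type u} [Group G] [Finite G]

theorem card_of_fac_sub {L H' K' : Subgroup G} (hH' : H' ≤ L) (hK' : K' ≤ L)
    (hc : (Nat.card H').Coprime (Nat.card K')) (hf : ∀ g ∈ L, ∃ a ∈ H', ∃ b ∈ K', g = a * b) :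
    Nat.card H' * Nat.card K' = Nat.card L := by
  have hc' : (Nat.card (H'.subgroupOf L)).Coprime (Nat.card (K'.subgroupOf L)) := by
    rw [card_subgroupOf_of_le hH', card_subgroupOf_of_le hK']; exact hc
  have hf' : Fac (H'.subgroupOf L) (K'.subgroupOf L) := by
    intro g
    obtain ⟨a, ha, b, hb, e⟩ := hf g g.2
    exact ⟨⟨a, hH' ha⟩, Subgroup.mem_subgroupOf.mpr ha, ⟨b, hK' hb⟩, Subgroup.mem_subgroupOf.mpr hb,
      Subtype.ext e⟩
  have := hf'.card hc'
  rwa [card_subgroupOf_of_le hH', card_subgroupOf_of_le hK'] at this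

/-- arithmetic: a Sylow part of a Hall factor has order prime to its index -/
theorem coprime_of_mul_eq {h k v i r : ℕ} (hr : r.Prime) (hh : h ≠ 0) (hcop : h.Coprime k)
    (hv : v = r ^ h.factorization r) (e : v * i = h * k) : v.Coprime i := by
  by_cases hd : r ∣ h
  · have h5 : r ^ h.factorization r ∣ h := Nat.ordProj_dvd _ _
    have hcop' : (r ^ h.factorization r).Coprime (h / r ^ h.factorization r) := by
      apply Nat.Coprime.pow_left
      exact Nat.coprime_ordCompl hr hh
    obtain ⟨m, hm⟩ : ∃ m : ℕ, m = h / r ^ h.factorization r := ⟨_, rfl⟩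
    have hm' : h = r ^ h.factorization r * m := by rw [hm]; exact (Nat.mul_div_cancel' h5).symm
    rw [← hm] at hcop'
    have h6 : 0 < r ^ h.factorization r := pow_pos hr.pos _
    have h2 : i = k * m := by
      rw [hv] at e
      have : r ^ h.factorization r * i = r ^ h.factorization r * (k * m) := by
        rw [e]; nth_rw 1 [hm']; ring
      exact Nat.eq_of_mul_eq_mul_left h6 this
    rw [hv, h2]
    apply Nat.Coprime.mul_right _ hcop'
    apply Nat.Coprime.pow_left
    rw [Nat.Prime.coprime_iff_not_dvd hr]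
    intro hk
    exact hr.one_lt.ne' (Nat.eq_one_of_dvd_coprimes hcop hd hk)
  · rw [hv, Nat.factorization_eq_zero_of_not_dvd hd, pow_zero]
    exact Nat.coprime_one_left _

theorem syl_coprime_relIndex {L H' K' : Subgroup G} (hH' : H' ≤ L) (hK' : K' ≤ L)
    (nH : Group.IsNilpotent H')
    (hc : (Nat.card H').Coprime (Nat.card K')) (hf : ∀ g ∈ L, ∃ a ∈ H', ∃ b ∈ K', g = a * b)
    {r : ℕ} (hr : r.Prime) : (Nat.card (syl H' r)).Coprime ((syl H' r).relIndex L) := by
  haveI := Fact.mk hr
  apply coprime_of_mul_eq hr Nat.card_pos.ne' hc (card_syl nH)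
  have h1 := ((syl H' r).subgroupOf L).card_mul_index
  rw [card_subgroupOf_of_le ((syl_le H' r).trans hH')] at h1
  rw [card_of_fac_sub hH' hK' hc hf]
  exact h1

theorem side' {L H' K' N : Subgroup G} (hH' : H' ≤ L) (hK' : K' ≤ L)
    (hc : (Nat.card H').Coprime (Nat.card K'))
    (hf : ∀ g ∈ L, ∃ a ∈ H', ∃ b ∈ K', g = a * b) {s : ℕ} (hs : s.Prime)
    (hNs : IsPGroup s N) (hNL : N ≤ L) (hn : L ≤ Subgroup.normalizer (N : Set G)) :
    N ≤ H' ∨ N ≤ K' := by
  haveI := Fact.mk hs
  obtain ⟨j, hj⟩ := IsPGroup.iff_card.mp hNs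
  by_cases hsK : s ∣ Nat.card K'
  · right
    have hsH : ¬ s ∣ Nat.card H' := fun h => hs.one_lt.ne' (Nat.eq_one_of_dvd_coprimes hc h hsK)
    apply le_of_normal_coprime (L := L) (H' := K') (K' := H') (fac_sub_symm hf) hK' hc.symm hNL hn
    rw [hj]
    apply Nat.Coprime.pow_left
    rw [Nat.Prime.coprime_iff_not_dvd hs]
    exact hsH
  · left
    apply le_of_normal_coprime (L := L) (H' := H') (K' := K') hf hH' hc hNL hn
    rw [hj]
    apply Nat.Coprime.pow_left
    rw [Nat.Prime.coprime_iff_not_dvd hs]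
    exact hsK

theorem solvable_of_le {Y C : Subgroup G} (h : Y ≤ C) (hC : Group.IsSolvable C) : Group.IsSolvable Y :=
  Group.isSolvable_of_isSolvable_injective (Subgroup.inclusion_injective h)

variable (ih : IH G) (hns : ¬ Group.IsSolvable G) {H K : Subgroup G} (hHK : NC H K)

include hHK in
/-- the centraliser of an element of `N_K(H)` is factorised -/
theorem centralizer_fac {y : G} (hyK : y ∈ K) (hyN : y ∈ Subgroup.normalizer (H : Set G)) :
    ∀ g ∈ Subgroup.centralizer ({y} : Set G), ∃ a ∈ Subgroup.centralizer ({y} : Set G) ⊓ H,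
      ∃ b ∈ Subgroup.centralizer ({y} : Set G) ⊓ K, g = a * b := by
  intro g hg
  obtain ⟨a, ha, b, hb, e⟩ := hHK.fac g
  rw [Subgroup.mem_centralizer_singleton_iff] at hg
  have ha' : y * a * y⁻¹ ∈ H := conj_mem_of_mem_normalizer hyN ha
  have e1 : (y * a * y⁻¹) * (y * b) = a * (b * y) := by
    have : (y * a * y⁻¹) * (y * b) = y * (a * b) := by group
    rw [this, ← e, ← hg, e]; group
  obtain ⟨h1, h2⟩ := Fac.unique hHK.cop ha' ha (K.mul_mem hyK hb) (K.mul_mem hb hyK) e1
  refine ⟨a, Subgroup.mem_inf.mpr ⟨?_, ha⟩, b, Subgroup.mem_inf.mpr ⟨?_, hb⟩, e⟩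
  · rw [Subgroup.mem_centralizer_singleton_iff]
    have : y * a = (y * a * y⁻¹) * y := by group
    rw [this, h1]
  · rw [Subgroup.mem_centralizer_singleton_iff]
    exact h2.symm

include ih hns hHK in
theorem centralizer_inf_le_normalizer_aux {y : G} {q : ℕ} (hq : q.Prime) (hyo : orderOf y = q)
    (hyK : y ∈ K) (hyN : y ∈ Subgroup.normalizer (H : Set G)) :
    Subgroup.centralizer ({y} : Set G) ⊓ H ≤ Subgroup.normalizer (K : Set G) := by
  haveI := isSimple ih hns hHK
  have hy1 : y ≠ 1 := by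
    intro h
    rw [h, orderOf_one] at hyo
    exact hq.one_lt.ne hyo
  obtain ⟨C, hCdef⟩ : ∃ C : Subgroup G, C = Subgroup.centralizer ({y} : Set G) := ⟨_, rfl⟩
  rw [← hCdef]
  have hfacC : ∀ g ∈ C, ∃ a ∈ C ⊓ H, ∃ b ∈ C ⊓ K, g = a * b := by
    rw [hCdef]; exact centralizer_fac hHK hyK hyN
  have hCtop : C ≠ ⊤ := by
    intro h
    apply hy1
    have : y ∈ Subgroup.center G := by
      rw [Subgroup.mem_center_iff]
      intro g
      have : g ∈ C := by rw [h]; trivial
      rw [hCdef, Subgroup.mem_centralizer_singleton_iff] at this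
      exact this
    rw [center_eq_bot ih hns hHK, Subgroup.mem_bot] at this
    exact this
  have hcopC : (Nat.card (C ⊓ H : Subgroup G)).Coprime (Nat.card (C ⊓ K : Subgroup G)) :=
    Nat.Coprime.coprime_dvd_left (Subgroup.card_dvd_of_le inf_le_right)
      (Nat.Coprime.coprime_dvd_right (Subgroup.card_dvd_of_le inf_le_right) hHK.cop)
  have hnilCH : Group.IsNilpotent (C ⊓ H : Subgroup G) := isNilpotent_of_le hHK.nilH inf_le_right
  have hsolvC : Group.IsSolvable C :=
    ih.solvable_sub hCtop inf_le_left inf_le_left hnilCH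
      (isNilpotent_of_le hHK.nilK inf_le_right) hcopC hfacC
  apply le_of_forall_syl_le hnilCH
  intro r hr
  haveI := Fact.mk hr
  by_cases hRbot : syl (C ⊓ H) r = ⊥
  · rw [hRbot]; exact bot_le
  have hrCH : r ∣ Nat.card (C ⊓ H : Subgroup G) := by
    by_contra h
    exact hRbot (syl_eq_bot_of_not_dvd hnilCH h)
  have hrH : r ∣ Nat.card H := hrCH.trans (Subgroup.card_dvd_of_le inf_le_right)
  obtain ⟨s, hs, hsq, hsK⟩ := exists_other_prime_left ih hns hHK.symm q
  haveI := Fact.mk hs
  haveI := Fact.mk hq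
  have hyS : y ∈ syl K q := mem_syl_of_pow (k := 1) hyK (by rw [pow_one, ← hyo, pow_orderOf_eq_one])
  have hSC : syl K s ≤ C := by
    intro z hz
    rw [hCdef, Subgroup.mem_centralizer_singleton_iff]
    exact commute_syl hHK.nilK hs hq hsq hz hyS
  have hKn : K ≤ Subgroup.normalizer (syl K s : Set G) :=
    Subgroup.le_normalizer.trans (normalizer_le_normalizer_syl K s)
  obtain ⟨Y, hY⟩ := perm_sub (L := C) (H' := C ⊓ H) (K' := C ⊓ K) (A := syl (C ⊓ H) r) (B := syl K s)
    hsolvC inf_le_left inf_le_left hfacC (syl_le _ _)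
    (Subgroup.le_normalizer.trans (normalizer_le_normalizer_syl _ r))
    (le_inf hSC (syl_le K s)) (inf_le_right.trans hKn)
    (syl_coprime_relIndex inf_le_left inf_le_left hnilCH hcopC hfacC hr)
    (Nat.Coprime.coprime_dvd_right (Subgroup.relIndex_dvd_index_of_le hSC)
      (hHK.symm.syl_coprime_index hs))
  have hRY : syl (C ⊓ H) r ≤ Y := by
    intro x hx
    show x ∈ (Y : Set G)
    rw [hY]
    exact ⟨x, hx, 1, Subgroup.one_mem _, mul_one x⟩
  have hSY : syl K s ≤ Y := by
    intro x hx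
    show x ∈ (Y : Set G)
    rw [hY]
    exact ⟨1, Subgroup.one_mem _, x, hx, one_mul x⟩
  have hYfac : ∀ g ∈ Y, ∃ a ∈ syl (C ⊓ H) r, ∃ b ∈ syl K s, g = a * b := by
    intro g hg
    have : g ∈ (Y : Set G) := hg
    rw [hY] at this
    obtain ⟨a, ha, b, hb, e⟩ := this
    exact ⟨a, ha, b, hb, e.symm⟩
  have hYC : Y ≤ C := by
    intro g hg
    obtain ⟨a, ha, b, hb, e⟩ := hYfac g hg
    rw [e]
    exact C.mul_mem ((syl_le _ _).trans inf_le_left ha) (hSC hb)
  have hYsolv : Group.IsSolvable Y := solvable_of_le hYC hsolvC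
  have hY1 : Y ≠ ⊥ := by
    intro h
    apply syl_ne_bot hHK.nilK hsK
    rw [eq_bot_iff, ← h]; exact hSY
  obtain ⟨t, N0, ht, hN01, hN0Y, hN0t, hN0n⟩ := exists_normal_pSubgroup hYsolv hY1
  have hcopY : (Nat.card (syl (C ⊓ H) r)).Coprime (Nat.card (syl K s)) :=
    Nat.Coprime.coprime_dvd_left (Subgroup.card_dvd_of_le ((syl_le _ _).trans inf_le_right))
      (Nat.Coprime.coprime_dvd_right (Subgroup.card_dvd_of_le (syl_le _ _)) hHK.cop)
  rcases side' hRY hSY hcopY hYfac ht hN0t hN0Y hN0n with h | h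
  · exfalso
    have hN0H : N0 ≤ H := h.trans ((syl_le _ _).trans inf_le_right)
    have hN0r : N0 ≤ syl H r := h.trans (syl_mono inf_le_right r)
    obtain ⟨p, hp, hpr, hpH⟩ := exists_other_prime_left ih hns hHK r
    haveI := Fact.mk hp
    have htop := sup_eq_top ih hns hHK (syl_le H p)
      (Subgroup.le_normalizer.trans (normalizer_le_normalizer_syl H p)) (syl_ne_bot hHK.nilH hpH)
      (syl_le K s) hKn (syl_ne_bot hHK.nilK hsK)
    apply normalizer_ne_top_of_simple hN01 hN0H (ne_top_left hns hHK)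
    rw [eq_top_iff, ← htop]
    apply sup_le
    · intro x hx
      apply Cfsg.Agent.Lib.Lead.Conj.mem_normalizer_of_conj_mem
      intro z hz
      have := commute_syl hHK.nilH hp hr hpr hx (hN0r hz)
      rw [this]
      have : z * x * x⁻¹ = z := by group
      rw [this]; exact hz
    · exact hSY.trans hN0n
  · have hN0K : N0 ≤ K := h.trans (syl_le K s)
    have hKN0 : K ≤ Subgroup.normalizer (N0 : Set G) := by
      apply le_of_forall_syl_le hHK.nilK
      intro u hu
      by_cases hus : u = s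
      · rw [hus]; exact hSY.trans hN0n
      · intro x hx
        apply Cfsg.Agent.Lib.Lead.Conj.mem_normalizer_of_conj_mem
        intro z hz
        have := commute_syl hHK.nilK hu hs hus hx (h hz)
        rw [this]
        have : z * x * x⁻¹ = z := by group
        rw [this]; exact hz
    have := normalizer_le_normalizer ih hns hHK.symm hN0K hKN0 hN01
    exact (hRY.trans hN0n).trans this

include ih hns hHK in
/-- (F5) -/
theorem centralizer_inf_le_normalizer {y : G} (hyK : y ∈ K)
    (hyN : y ∈ Subgroup.normalizer (H : Set G)) (hy1 : y ≠ 1) :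
    Subgroup.centralizer ({y} : Set G) ⊓ H ≤ Subgroup.normalizer (K : Set G) := by
  obtain ⟨q, n, hq, ho⟩ := exists_prime_order_pow hy1
  have h1 := centralizer_inf_le_normalizer_aux ih hns hHK hq ho (K.pow_mem hyK n)
    (Subgroup.pow_mem _ hyN n)
  refine le_trans (inf_le_inf_right H ?_) h1
  intro g hg
  rw [Subgroup.mem_centralizer_singleton_iff] at hg ⊢
  exact (Commute.pow_right hg n)

include ih hns hHK in
/-- (6b) -/
theorem centralizer_le_normalizer_of_mem {x : G} (hxH : x ∈ H)
    (hxN : x ∈ Subgroup.normalizer (K : Set G)) (hx1 : x ≠ 1) :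
    Subgroup.centralizer ({x} : Set G) ≤ Subgroup.normalizer (H : Set G) := by
  intro g hg
  obtain ⟨b, hb, a, ha, e⟩ := centralizer_fac hHK.symm hxH hxN g hg
  have h1 := centralizer_inf_le_normalizer ih hns hHK.symm hxH hxN hx1 hb
  rw [e]
  exact Subgroup.mul_mem _ h1 (Subgroup.le_normalizer ha.2)

end Cfsg.Agent.Lib.Helper7.KW
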