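import Mathlib
import Cfsg.Prelude.Def_FusionSystem
import Cfsg.Agent.Lib.Helper7.Core

set_option autoImplicit false

namespace Cfsg.Agent.Lib.Helper7

open Cfsg

variable {P : Type*} [Group P]

/-- The automorphisms in `A` stabilizing the chain `C 0 ≤ C 1 ≤ ⋯ ≤ C m` (acting trivially on the factors). -/
def stabChain (A : Subgroup (MulAut P)) (C : ℕ → Subgroup P) (m : ℕ)
    (hA : ∀ i, ∀ α ∈ A, ∀ x ∈ C i, α x ∈ C i) : Subgroup (MulAut P) where
  carrier := {β | β ∈ A ∧ ∀ i < m, ∀ x ∈ C (i + 1), x⁻¹ * β x ∈ C i}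
  one_mem' := ⟨A.one_mem, fun i _ x _ => by simp⟩
  mul_mem' := by
    rintro β γ ⟨hβA, hβ⟩ ⟨hγA, hγ⟩
    refine ⟨A.mul_mem hβA hγA, fun i hi x hx => ?_⟩
    have h1 := hγ i hi x hx
    have h2 := hβ i hi x hx
    have h3 := hA i β hβA _ h1
    have e : x⁻¹ * (β * γ) x = (x⁻¹ * β x) * β (x⁻¹ * γ x) := by
      rw [MulAut.mul_apply, map_mul, map_inv]; group
    rw [e]
    exact (C i).mul_mem h2 h3
  inv_mem' := by
    rintro β ⟨hβA, hβ⟩
    refine ⟨A.inv_mem hβA, fun i hi x hx => ?_⟩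
    have hy := hA (i + 1) β⁻¹ (A.inv_mem hβA) x hx
    have h1 := hβ i hi _ hy
    rw [MulAut.apply_inv_self] at h1
    have := (C i).inv_mem h1
    simpa using this

theorem mem_stabChain {A : Subgroup (MulAut P)} {C : ℕ → Subgroup P} {m : ℕ}
    {hA : ∀ i, ∀ α ∈ A, ∀ x ∈ C i, α x ∈ C i} {β : MulAut P} :
    β ∈ stabChain A C m hA ↔ β ∈ A ∧ ∀ i < m, ∀ x ∈ C (i + 1), x⁻¹ * β x ∈ C i := Iff.rfl

theorem stabChain_le (A : Subgroup (MulAut P)) (C : ℕ → Subgroup P) (m : ℕ)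
    (hA : ∀ i, ∀ α ∈ A, ∀ x ∈ C i, α x ∈ C i) : stabChain A C m hA ≤ A := fun _ h => h.1

theorem stabChain_conj_mem (A : Subgroup (MulAut P)) (C : ℕ → Subgroup P) (m : ℕ)
    (hA : ∀ i, ∀ α ∈ A, ∀ x ∈ C i, α x ∈ C i) {α β : MulAut P} (hα : α ∈ A)
    (hβ : β ∈ stabChain A C m hA) : α * β * α⁻¹ ∈ stabChain A C m hA := by
  refine ⟨A.mul_mem (A.mul_mem hα hβ.1) (A.inv_mem hα), fun i hi x hx => ?_⟩
  have hy := hA (i + 1) α⁻¹ (A.inv_mem hα) x hx
  have h1 := hβ.2 i hi _ hy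
  have h2 := hA i α hα _ h1
  rw [map_mul, map_inv, MulAut.apply_inv_self] at h2
  exact h2

/-- If `γ` fixes `C j` pointwise and moves each `x ∈ C (j+1)` by an element of `C j`, then
`γ ^ n` moves `x` by the `n`-th power. -/
theorem pow_apply_of_fix {γ : MulAut P} {x z : P} (hz : γ z = z) (hx : γ x = x * z) (n : ℕ) :
    (γ ^ n) x = x * z ^ n := by
  induction n with
  | zero => simp
  | succ n ih =>
    rw [pow_succ', MulAut.mul_apply, ih, map_mul, map_pow, hz, hx, pow_succ']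
    group

theorem isPGroup_stabChain [Finite P] {p : ℕ} [Fact p.Prime] (hP : IsPGroup p P)
    (A : Subgroup (MulAut P)) (C : ℕ → Subgroup P) (m : ℕ)
    (hA : ∀ i, ∀ α ∈ A, ∀ x ∈ C i, α x ∈ C i) (h0 : C 0 = ⊥) (hm : C m = ⊤) :
    IsPGroup p (stabChain A C m hA) := by
  obtain ⟨a, ha⟩ := IsPGroup.iff_card.mp hP
  have key : ∀ β ∈ stabChain A C m hA, ∀ j ≤ m, ∃ k : ℕ, ∀ x ∈ C j, (β ^ (p ^ k)) x = x := by
    intro β hβ j
    induction j with
    | zero =>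
      intro _
      refine ⟨0, fun x hx => ?_⟩
      rw [h0, Subgroup.mem_bot] at hx
      rw [hx, map_one]
    | succ j ih =>
      intro hj
      obtain ⟨k, hk⟩ := ih (by omega)
      refine ⟨k + a, fun x hx => ?_⟩
      have hγ : β ^ (p ^ k) ∈ stabChain A C m hA := Subgroup.pow_mem _ hβ _
      have hz := hγ.2 j (by omega) x hx
      have hfix := hk _ hz
      have hxz : (β ^ (p ^ k)) x = x * (x⁻¹ * (β ^ (p ^ k)) x) := by group
      have := pow_apply_of_fix hfix hxz (p ^ a)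
      rw [← pow_mul, ← pow_add] at this
      rw [this, ← ha, pow_card_eq_one', mul_one]
  rintro ⟨β, hβ⟩
  obtain ⟨k, hk⟩ := key β hβ m le_rfl
  refine ⟨k, Subtype.ext ?_⟩
  show β ^ (p ^ k) = 1
  ext x
  exact hk x (by rw [hm]; exact Subgroup.mem_top _)

/-- The stability group of an `A`-invariant chain from `⊥` to `⊤` lies in `O_p(A)`. -/
theorem stabChain_le_pCore [Finite P] {p : ℕ} [Fact p.Prime] (hP : IsPGroup p P)
    (A : Subgroup (MulAut P)) (C : ℕ → Subgroup P) (m : ℕ)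
    (hA : ∀ i, ∀ α ∈ A, ∀ x ∈ C i, α x ∈ C i) (h0 : C 0 = ⊥) (hm : C m = ⊤) :
    (stabChain A C m hA).subgroupOf A ≤ pCore p A := by
  apply le_pCore
  · refine ⟨fun n hn a => ?_⟩
    exact Subgroup.mem_subgroupOf.mpr
      (stabChain_conj_mem A C m hA a.2 (Subgroup.mem_subgroupOf.mp hn))
  · exact (isPGroup_stabChain hP A C m hA h0 hm).comap_subtype

end Cfsg.Agent.Lib.Helper7
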