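import Mathlib
import Cfsg.Prelude.Def_FusionSystem
import Cfsg.Agent.Lib.Helper7.FusionNormal
import Cfsg.Agent.Lib.Helper7.Stability

set_option autoImplicit false

namespace Cfsg.Agent.Lib.Helper7

open Cfsg Cfsg.FusionSystem

variable {Ω : Type*} [Group Ω] {S : Subgroup Ω}

/-- If the elements of `N_Q(P)` stabilize an `Aut_F(P)`-invariant chain of `P` (`P` centric radical,
`Q ⊴ S`), then `Q ≤ P`. -/
theorem le_of_chain_centric_radical [Finite S] (p : ℕ) [Fact p.Prime] (hS : IsPGroup p S)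
    (F : FusionSystem S) {P Q : Subgroup Ω} (hcen : F.IsCentric P) (hrad : F.IsRadical p P)
    (hQS : Q ≤ S) (hN : S ≤ Subgroup.normalizer (Q : Set Ω)) (D : ℕ → Subgroup Ω) (m : ℕ)
    (hD0 : D 0 = ⊥) (hDm : P ≤ D m)
    (hinv : ∀ i, ∀ α ∈ F.autGroup P, ∀ x : P, (x : Ω) ∈ D i → ((α x : P) : Ω) ∈ D i)
    (hstab : ∀ g ∈ Q, g ∈ Subgroup.normalizer (P : Set Ω) → ∀ i < m, ∀ x ∈ P, x ∈ D (i + 1) →
      x⁻¹ * (g * x * g⁻¹) ∈ D i) : Q ≤ P := by
  have hPS := hcen.1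
  have hPQS : P ⊔ Q ≤ S := sup_le hPS hQS
  haveI := finite_of_le hPS
  haveI := finite_of_le hPQS
  haveI : Finite (MulAut ↥P) := inferInstance
  have hPp : IsPGroup p ↥P := hS.to_le hPS
  have hcenP : centralizerIn S P ≤ P := hcen.2 P (isConj_refl F hPS)
  have hA : ∀ i, ∀ α ∈ F.autGroup P, ∀ x ∈ (D i).subgroupOf P, α x ∈ (D i).subgroupOf P :=
    fun i α hα x hx => Subgroup.mem_subgroupOf.mpr (hinv i α hα x (Subgroup.mem_subgroupOf.mp hx))
  have h0 : (D 0).subgroupOf P = ⊥ := by rw [hD0]; exact Subgroup.bot_subgroupOf P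
  have hm : (D m).subgroupOf P = ⊤ := Subgroup.subgroupOf_eq_top.mpr hDm
  have hcore := stabChain_le_pCore hPp (F.autGroup P) (fun i => (D i).subgroupOf P) m hA h0 hm
  have hNQ : ∀ g ∈ Q, g ∈ Subgroup.normalizer (P : Set Ω) → g ∈ P := by
    intro g hgQ hgN
    have hgS : g ∈ S := hQS hgQ
    have hβS : P.normalizerMonoidHom ⟨g, hgN⟩ ∈ autInducedBy S P :=
      (mem_autInducedBy_iff S P _).mpr ⟨g, hgS, fun x => rfl⟩
    have hβA := autInducedBy_le_autGroup F hPS hβS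
    have hβstab : P.normalizerMonoidHom ⟨g, hgN⟩ ∈
        stabChain (F.autGroup P) (fun i => (D i).subgroupOf P) m hA := by
      refine ⟨hβA, fun i hi x hx => ?_⟩
      exact Subgroup.mem_subgroupOf.mpr (hstab g hgQ hgN i hi x x.2 (Subgroup.mem_subgroupOf.mp hx))
    apply mem_of_normalizerMonoidHom_mem_inn hcenP hPS hgS hgN
    rw [← hrad.2]
    exact ⟨⟨_, hβA⟩, hcore (Subgroup.mem_subgroupOf.mpr hβstab), rfl⟩
  by_contra hnot
  have hne : P ≠ P ⊔ Q := fun h => hnot (by rw [h]; exact le_sup_right)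
  obtain ⟨g, hgN, hgP⟩ := lt_normalizerIn_of_ne (hS.to_le hPQS) le_sup_left hne
  apply hgP
  have hg : g ∈ ((P ⊔ Q : Subgroup Ω) : Set Ω) := hgN.1
  rw [Subgroup.coe_mul_of_left_le_normalizer_right P Q (hPS.trans hN)] at hg
  obtain ⟨x, hx, q, hq, rfl⟩ := hg
  have hqN : q ∈ Subgroup.normalizer (P : Set Ω) := by
    have h1 : x⁻¹ ∈ Subgroup.normalizer (P : Set Ω) := Subgroup.le_normalizer (P.inv_mem hx)
    have := Subgroup.mul_mem _ h1 hgN.2
    simpa using this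
  exact P.mul_mem hx (hNQ q hq hqN)

end Cfsg.Agent.Lib.Helper7
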