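import Mathlib
import Cfsg.Prelude.Def_FusionSystem
import Cfsg.Agent.Lib.Helper7.FusionChain

set_option autoImplicit false

namespace Cfsg.Agent.Lib.Helper7

open Cfsg Cfsg.FusionSystem

variable {Ω : Type*} [Group Ω] {S : Subgroup Ω}

theorem le_normalizer_of_stronglyClosed [Finite S] (F : FusionSystem S) {Q : Subgroup Ω}
    (hQ : F.StronglyClosed Q) : S ≤ Subgroup.normalizer (Q : Set Ω) := by
  haveI := finite_of_le hQ.1
  intro g hg
  apply mem_normalizer_of_conj_mem_finite
  intro x hx
  exact hQ.2 Q le_rfl _ (F.conj_mem hQ.1 hg) ⟨x, hx⟩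

/-- `Aut_F(P)` stabilizes `P ∩ Q` for `Q` strongly closed. -/
theorem autGroup_apply_mem_of_stronglyClosed (F : FusionSystem S) {Q P : Subgroup Ω}
    (hQ : F.StronglyClosed Q) (hPS : P ≤ S) (α : MulAut P) (hα : α ∈ F.autGroup P) (x : P)
    (hx : (x : Ω) ∈ Q) : ((α x : P) : Ω) ∈ Q := by
  have hφ := fs_restrict_mem F (inf_le_left : P ⊓ Q ≤ P) ((mem_autGroup_iff F hPS α).mp hα)
  exact hQ.2 (P ⊓ Q) inf_le_right _ hφ ⟨x, ⟨x.2, hx⟩⟩

theorem isNormal_of_abelian_stronglyClosed [Finite S] (p : ℕ) [Fact p.Prime] (hS : IsPGroup p S)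
    (F : FusionSystem S) (hF : F.IsSaturated p) {Q : Subgroup Ω} (hab : IsMulCommutative Q)
    (hQ : F.StronglyClosed Q) : F.IsNormal Q := by
  have hN := le_normalizer_of_stronglyClosed F hQ
  rw [isNormal_iff_stronglyClosed_le_centric_radical p hS F hF]
  refine ⟨hQ, fun P hcen hrad => ?_⟩
  have hPS := hcen.1
  apply le_of_chain_centric_radical p hS F hcen hrad hQ.1 hN
    (fun i => if i = 0 then ⊥ else if i = 1 then Q else ⊤) 2 (by simp) (by simp)
  · intro i α hα x hx
    by_cases h0 : i = 0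
    · simp only [h0, if_true, Subgroup.mem_bot] at hx ⊢
      have : x = 1 := Subtype.ext hx
      rw [this, map_one]; rfl
    · by_cases h1 : i = 1
      · simp only [h1, if_true] at hx ⊢
        simp only [show (1 : ℕ) ≠ 0 by omega, if_false] at hx ⊢
        exact autGroup_apply_mem_of_stronglyClosed F hQ hPS α hα x hx
      · simp only [h0, h1, if_false]
        exact Subgroup.mem_top _
  · intro g hgQ hgN i hi x hxP hx
    interval_cases i
    · simp only [zero_add, if_true, show (1 : ℕ) ≠ 0 by omega, if_false] at hx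
      simp only [if_true, Subgroup.mem_bot]
      have hc := (isMulCommutative_iff.mp hab) ⟨g, hgQ⟩ ⟨x, hx⟩
      have hc' : g * x = x * g := congrArg Subtype.val hc
      rw [hc']; group
    · simp only [show (1 : ℕ) ≠ 0 by omega, if_false, if_true]
      have h1 : x⁻¹ * g * x⁻¹⁻¹ ∈ Q :=
        (Subgroup.mem_normalizer_iff.mp (hN (S.inv_mem (hPS hxP))) g).mp hgQ
      have := Q.mul_mem h1 (Q.inv_mem hgQ)
      convert this using 1
      group

theorem core_ne_bot_iff [Finite S] (p : ℕ) [Fact p.Prime] (hS : IsPGroup p S)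
    (F : FusionSystem S) (hF : F.IsSaturated p) :
    F.core ≠ ⊥ ↔ ∃ Q : Subgroup Ω, Q ≠ ⊥ ∧ IsMulCommutative Q ∧ F.StronglyClosed Q := by
  constructor
  · intro hne
    have : ∃ Q, F.IsNormal Q ∧ Q ≠ ⊥ := by
      by_contra hcon
      push Not at hcon
      apply hne
      unfold FusionSystem.core
      rw [eq_bot_iff]
      apply sSup_le
      intro Q hQ
      rw [hcon Q hQ]
    obtain ⟨Q, hQ, hQne⟩ := this
    haveI := finite_of_le hQ.1
    haveI : Nontrivial ↥Q := (Subgroup.nontrivial_iff_ne_bot Q).mpr hQne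
    have hQp : IsPGroup p ↥Q := hS.to_le hQ.1
    have hZnt : Nontrivial (Subgroup.center ↥Q) := hQp.center_nontrivial
    have hle : (Subgroup.center ↥Q).map Q.subtype ≤ Q := Subgroup.map_subtype_le _
    have hchar : (((Subgroup.center ↥Q).map Q.subtype).subgroupOf Q).Characteristic := by
      have : ((Subgroup.center ↥Q).map Q.subtype).subgroupOf Q = Subgroup.center ↥Q :=
        Subgroup.comap_map_eq_self_of_injective Q.subtype_injective _
      rw [this]
      infer_instance
    refine ⟨(Subgroup.center ↥Q).map Q.subtype, ?_, ?_,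
      stronglyClosed_of_isNormal F (isNormal_of_characteristic F Q _ hQ hle hchar)⟩
    · intro hbot
      rw [Subgroup.map_eq_bot_iff_of_injective _ Q.subtype_injective] at hbot
      exact (Subgroup.nontrivial_iff_ne_bot _).mp hZnt hbot
    · rw [isMulCommutative_iff]
      rintro ⟨_, a, ha, rfl⟩ ⟨_, b, hb, rfl⟩
      apply Subtype.ext
      show (a : Ω) * b = b * a
      have := Subgroup.mem_center_iff.mp ha b
      exact (congrArg Subtype.val this).symm
  · rintro ⟨Q, hQne, hab, hQ⟩
    have hn := isNormal_of_abelian_stronglyClosed p hS F hF hab hQ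
    intro hbot
    apply hQne
    rw [eq_bot_iff, ← hbot]
    exact le_sSup hn

end Cfsg.Agent.Lib.Helper7
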