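import Mathlib
import Cfsg.Prelude.Def_FusionSystem
import Cfsg.Agent.Lib.Helper7.FusionCore2

set_option autoImplicit false

namespace Cfsg.Agent.Lib.Helper7

open Cfsg Cfsg.FusionSystem
open scoped commutatorElement

variable {Ω : Type*} [Group Ω] {S : Subgroup Ω}

theorem stronglyClosed_bot (F : FusionSystem S) : F.StronglyClosed (⊥ : Subgroup Ω) := by
  refine ⟨bot_le, fun R hR φ _ x => ?_⟩
  have : x = 1 := Subtype.ext (Subgroup.mem_bot.mp (hR x.2))
  rw [this, map_one]; exact Subgroup.one_mem _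

theorem isNormal_of_series [Finite S] (p : ℕ) [Fact p.Prime] (hS : IsPGroup p S)
    (F : FusionSystem S) (hF : F.IsSaturated p) (Q : Subgroup Ω) (n : ℕ)
    (Qs : Fin (n + 1) → Subgroup Ω) (h0 : Qs 0 = ⊥) (hlast : Qs (Fin.last n) = Q)
    (hstep : ∀ i : Fin n, F.StronglyClosed (Qs i.succ) ∧ ⁅Q, Qs i.succ⁆ ≤ Qs (Fin.castSucc i)) :
    F.IsNormal Q := by
  have hscAll : ∀ i : Fin (n + 1), F.StronglyClosed (Qs i) := by
    intro i
    refine Fin.cases ?_ (fun j => (hstep j).1) i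
    rw [h0]; exact stronglyClosed_bot F
  have hQsc : F.StronglyClosed Q := by rw [← hlast]; exact hscAll _
  have hN := le_normalizer_of_stronglyClosed F hQsc
  rw [isNormal_iff_stronglyClosed_le_centric_radical p hS F hF]
  refine ⟨hQsc, fun P hcen hrad => ?_⟩
  have hPS := hcen.1
  apply le_of_chain_centric_radical p hS F hcen hrad hQsc.1 hN
    (fun i => if h : i ≤ n then Qs ⟨i, by omega⟩ else ⊤) (n + 1)
  · simp only [Nat.zero_le, dite_true]
    exact h0
  · simp
  · intro i α hα x hx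
    by_cases h : i ≤ n
    · simp only [h, dite_true] at hx ⊢
      exact autGroup_apply_mem_of_stronglyClosed F (hscAll _) hPS α hα x hx
    · simp only [h, dite_false]
      exact Subgroup.mem_top _
  · intro g hgQ hgN i hi x hxP hx
    have hin : i ≤ n := by omega
    simp only [hin, dite_true]
    by_cases h : i + 1 ≤ n
    · simp only [h, dite_true] at hx
      have h1 := (hstep ⟨i, by omega⟩).2
      have h2 : ⁅x⁻¹, g⁆ ∈ ⁅Qs (Fin.succ ⟨i, by omega⟩), Q⁆ :=
        Subgroup.commutator_mem_commutator (Subgroup.inv_mem _ hx) hgQ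
      rw [Subgroup.commutator_comm] at h2
      have h3 := h1 h2
      have e : x⁻¹ * (g * x * g⁻¹) = ⁅x⁻¹, g⁆ := by
        rw [commutatorElement_def]; group
      rw [e]
      exact h3
    · have hi' : i = n := by omega
      subst hi'
      have hQl : Qs ⟨i, by omega⟩ = Q := by rw [← hlast]; rfl
      rw [hQl]
      have h1 : x⁻¹ * g * x⁻¹⁻¹ ∈ Q :=
        (Subgroup.mem_normalizer_iff.mp (hN (S.inv_mem (hPS hxP))) g).mp hgQ
      have := Q.mul_mem h1 (Q.inv_mem hgQ)
      convert this using 1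
      group

theorem exists_series_of_isNormal [Finite S] (p : ℕ) [Fact p.Prime] (hS : IsPGroup p S)
    (F : FusionSystem S) (Q : Subgroup Ω) (hQ : F.IsNormal Q) :
    ∃ (n : ℕ) (Qs : Fin (n + 1) → Subgroup Ω), Qs 0 = ⊥ ∧ Qs (Fin.last n) = Q ∧ Monotone Qs ∧
      ∀ i : Fin n, F.StronglyClosed (Qs i.succ) ∧ ⁅Q, Qs i.succ⁆ ≤ Qs (Fin.castSucc i) := by
  haveI := finite_of_le hQ.1
  have hQp : IsPGroup p ↥Q := hS.to_le hQ.1
  haveI : Group.IsNilpotent ↥Q := hQp.isNilpotent
  refine ⟨Group.nilpotencyClass ↥Q, fun i => (Subgroup.upperCentralSeries ↥Q i).map Q.subtype,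
    ?_, ?_, ?_, fun i => ⟨?_, ?_⟩⟩
  · show (Subgroup.upperCentralSeries ↥Q 0).map Q.subtype = ⊥
    rw [Subgroup.upperCentralSeries_zero, Subgroup.map_bot]
  · show (Subgroup.upperCentralSeries ↥Q (Group.nilpotencyClass ↥Q)).map Q.subtype = Q
    rw [Subgroup.upperCentralSeries_nilpotencyClass, ← MonoidHom.range_eq_map, Subgroup.range_subtype]
  · intro i j hij
    exact Subgroup.map_mono (Subgroup.upperCentralSeries_mono _ (by exact_mod_cast hij))
  · apply stronglyClosed_of_isNormal F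
    apply isNormal_of_characteristic F Q _ hQ (Subgroup.map_subtype_le _)
    have : ((Subgroup.upperCentralSeries ↥Q (i.succ : Fin _)).map Q.subtype).subgroupOf Q =
        Subgroup.upperCentralSeries ↥Q (i.succ : Fin _) :=
      Subgroup.comap_map_eq_self_of_injective Q.subtype_injective _
    rw [this]
    infer_instance
  · rw [Subgroup.commutator_le]
    rintro a ha _ ⟨b, hb, rfl⟩
    have hb' : b ∈ Subgroup.upperCentralSeries ↥Q ((i : ℕ) + 1) := by
      simpa using hb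
    have h1 := Subgroup.mem_upperCentralSeries_succ_iff.mp hb' ⟨a, ha⟩
    refine ⟨⁅b, ⟨a, ha⟩⁆⁻¹, Subgroup.inv_mem _ (by simpa using h1), ?_⟩
    simp [commutatorElement_def, mul_assoc]

theorem isNormal_iff_series [Finite S] (p : ℕ) [Fact p.Prime] (hS : IsPGroup p S)
    (F : FusionSystem S) (hF : F.IsSaturated p) (Q : Subgroup Ω) :
    F.IsNormal Q ↔ ∃ (n : ℕ) (Qs : Fin (n + 1) → Subgroup Ω), Qs 0 = ⊥ ∧ Qs (Fin.last n) = Q ∧
      Monotone Qs ∧
      ∀ i : Fin n, F.StronglyClosed (Qs i.succ) ∧ ⁅Q, Qs i.succ⁆ ≤ Qs (Fin.castSucc i) :=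
  ⟨exists_series_of_isNormal p hS F Q, fun ⟨n, Qs, h0, hl, _, hs⟩ =>
    isNormal_of_series p hS F hF Q n Qs h0 hl hs⟩

end Cfsg.Agent.Lib.Helper7
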