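import Mathlib
import Cfsg.Prelude.Def_FusionSystem
import Cfsg.Agent.Lib.Helper7.Stability

set_option autoImplicit false

namespace Cfsg.Agent.Lib.Helper7

open Cfsg

variable {P : Type*} [Group P]

/-- Variant of `isPGroup_stabChain`: the bottom term need not be trivial, provided `A` acts on it as a
`p`-group. -/
theorem isPGroup_stabChain_of_base [Finite P] {p : ℕ} [Fact p.Prime] (hP : IsPGroup p P)
    (A : Subgroup (MulAut P)) (C : ℕ → Subgroup P) (m : ℕ)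
    (hA : ∀ i, ∀ α ∈ A, ∀ x ∈ C i, α x ∈ C i)
    (h0 : ∀ β ∈ A, ∃ k : ℕ, ∀ x ∈ C 0, (β ^ (p ^ k)) x = x) (hm : C m = ⊤) :
    IsPGroup p (stabChain A C m hA) := by
  obtain ⟨a, ha⟩ := IsPGroup.iff_card.mp hP
  have key : ∀ β ∈ stabChain A C m hA, ∀ j ≤ m, ∃ k : ℕ, ∀ x ∈ C j, (β ^ (p ^ k)) x = x := by
    intro β hβ j
    induction j with
    | zero =>
      intro _
      exact h0 β hβ.1
    | succ j ih =>
      intro hj
      obtain ⟨k, hk⟩ := ih (by omega)
      refine ⟨k + a, fun x hx => ?_⟩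
      have hγ : β ^ (p ^ k) ∈ stabChain A C m hA := Subgroup.pow_mem _ hβ _
      have hz := hγ.2 j (by omega) x hx
      have hfix := hk _ hz
      have hxz : (β ^ (p ^ k)) x = x * (x⁻¹ * (β ^ (p ^ k)) x) := by group
      have := pow_apply_of_fix hfix hxz (p ^ a)
      rw [← pow_mul, ← pow_add] at this
      rw [this, ← ha, pow_card_eq_one', mul_one]
  rintro ⟨β, hβ⟩
  obtain ⟨k, hk⟩ := key β hβ m le_rfl
  refine ⟨k, Subtype.ext ?_⟩
  show β ^ (p ^ k) = 1
  ext x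
  exact hk x (by rw [hm]; exact Subgroup.mem_top _)

theorem stabChain_le_pCore_of_base [Finite P] {p : ℕ} [Fact p.Prime] (hP : IsPGroup p P)
    (A : Subgroup (MulAut P)) (C : ℕ → Subgroup P) (m : ℕ)
    (hA : ∀ i, ∀ α ∈ A, ∀ x ∈ C i, α x ∈ C i)
    (h0 : ∀ β ∈ A, ∃ k : ℕ, ∀ x ∈ C 0, (β ^ (p ^ k)) x = x) (hm : C m = ⊤) :
    (stabChain A C m hA).subgroupOf A ≤ pCore p A := by
  apply le_pCore
  · refine ⟨fun n hn a => ?_⟩
    exact Subgroup.mem_subgroupOf.mpr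
      (stabChain_conj_mem A C m hA a.2 (Subgroup.mem_subgroupOf.mp hn))
  · exact (isPGroup_stabChain_of_base hP A C m hA h0 hm).comap_subtype

end Cfsg.Agent.Lib.Helper7
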