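import Mathlib
import Cfsg.Prelude.Def_FusionSystem
import Cfsg.Agent.Lib.Helper7.FusionSeries
import Cfsg.Agent.Lib.Helper7.Stability2

set_option autoImplicit false

namespace Cfsg.Agent.Lib.Helper7

open Cfsg Cfsg.FusionSystem
open scoped commutatorElement

variable {Ω : Type*} [Group Ω] {S : Subgroup Ω}

/-- Variant of `le_of_chain_centric_radical` where the bottom term of the chain need not be trivial,
provided `Aut_F(P)` acts on it as a `p`-group. -/
theorem le_of_chain_centric_radical_of_base [Finite S] (p : ℕ) [Fact p.Prime] (hS : IsPGroup p S)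
    (F : FusionSystem S) {P Q : Subgroup Ω} (hcen : F.IsCentric P) (hrad : F.IsRadical p P)
    (hQS : Q ≤ S) (hN : S ≤ Subgroup.normalizer (Q : Set Ω)) (D : ℕ → Subgroup Ω) (m : ℕ)
    (hD0 : ∀ α ∈ F.autGroup P, ∃ k : ℕ, ∀ x : P, (x : Ω) ∈ D 0 → (α ^ (p ^ k)) x = x)
    (hDm : P ≤ D m)
    (hinv : ∀ i, ∀ α ∈ F.autGroup P, ∀ x : P, (x : Ω) ∈ D i → ((α x : P) : Ω) ∈ D i)
    (hstab : ∀ g ∈ Q, g ∈ Subgroup.normalizer (P : Set Ω) → ∀ i < m, ∀ x ∈ P, x ∈ D (i + 1) →
      x⁻¹ * (g * x * g⁻¹) ∈ D i) : Q ≤ P := by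
  have hPS := hcen.1
  have hPQS : P ⊔ Q ≤ S := sup_le hPS hQS
  haveI := finite_of_le hPS
  haveI := finite_of_le hPQS
  haveI : Finite (MulAut ↥P) := inferInstance
  have hPp : IsPGroup p ↥P := hS.to_le hPS
  have hcenP : centralizerIn S P ≤ P := hcen.2 P (isConj_refl F hPS)
  have hA : ∀ i, ∀ α ∈ F.autGroup P, ∀ x ∈ (D i).subgroupOf P, α x ∈ (D i).subgroupOf P :=
    fun i α hα x hx => Subgroup.mem_subgroupOf.mpr (hinv i α hα x (Subgroup.mem_subgroupOf.mp hx))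
  have h0 : ∀ β ∈ F.autGroup P, ∃ k : ℕ, ∀ x ∈ (D 0).subgroupOf P, (β ^ (p ^ k)) x = x := by
    intro β hβ
    obtain ⟨k, hk⟩ := hD0 β hβ
    exact ⟨k, fun x hx => hk x (Subgroup.mem_subgroupOf.mp hx)⟩
  have hm : (D m).subgroupOf P = ⊤ := Subgroup.subgroupOf_eq_top.mpr hDm
  have hcore := stabChain_le_pCore_of_base hPp (F.autGroup P) (fun i => (D i).subgroupOf P) m hA h0 hm
  have hNQ : ∀ g ∈ Q, g ∈ Subgroup.normalizer (P : Set Ω) → g ∈ P := by
    intro g hgQ hgN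
    have hgS : g ∈ S := hQS hgQ
    have hβS : P.normalizerMonoidHom ⟨g, hgN⟩ ∈ autInducedBy S P :=
      (mem_autInducedBy_iff S P _).mpr ⟨g, hgS, fun x => rfl⟩
    have hβA := autInducedBy_le_autGroup F hPS hβS
    have hβstab : P.normalizerMonoidHom ⟨g, hgN⟩ ∈
        stabChain (F.autGroup P) (fun i => (D i).subgroupOf P) m hA := by
      refine ⟨hβA, fun i hi x hx => ?_⟩
      exact Subgroup.mem_subgroupOf.mpr (hstab g hgQ hgN i hi x x.2 (Subgroup.mem_subgroupOf.mp hx))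
    apply mem_of_normalizerMonoidHom_mem_inn hcenP hPS hgS hgN
    rw [← hrad.2]
    exact ⟨⟨_, hβA⟩, hcore (Subgroup.mem_subgroupOf.mpr hβstab), rfl⟩
  by_contra hnot
  have hne : P ≠ P ⊔ Q := fun h => hnot (by rw [h]; exact le_sup_right)
  obtain ⟨g, hgN, hgP⟩ := lt_normalizerIn_of_ne (hS.to_le hPQS) le_sup_left hne
  apply hgP
  have hg : g ∈ ((P ⊔ Q : Subgroup Ω) : Set Ω) := hgN.1
  rw [Subgroup.coe_mul_of_left_le_normalizer_right P Q (hPS.trans hN)] at hg
  obtain ⟨x, hx, q, hq, rfl⟩ := hg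
  have hqN : q ∈ Subgroup.normalizer (P : Set Ω) := by
    have h1 : x⁻¹ ∈ Subgroup.normalizer (P : Set Ω) := Subgroup.le_normalizer (P.inv_mem hx)
    have := Subgroup.mul_mem _ h1 hgN.2
    simpa using this
  exact P.mul_mem hx (hNQ q hq hqN)

/-- S5125. -/
theorem isNormal_of_abelian_over_normal [Finite S] (p : ℕ) [Fact p.Prime] (hS : IsPGroup p S)
    (F : FusionSystem S) (hF : F.IsSaturated p) (Q Q₁ : Subgroup Ω) (hQ : F.StronglyClosed Q)
    (hQ₁Q : Q₁ ≤ Q) (hQ₁ : F.IsNormal Q₁) (hab : ⁅Q, Q⁆ ≤ Q₁)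
    (hAut : IsPGroup p ↥(F.autGroup Q₁)) : F.IsNormal Q := by
  have hN := le_normalizer_of_stronglyClosed F hQ
  have hQ₁sc := stronglyClosed_of_isNormal F hQ₁
  haveI := finite_of_le hQ₁.1
  rw [isNormal_iff_stronglyClosed_le_centric_radical p hS F hF]
  refine ⟨hQ, fun P hcen hrad => ?_⟩
  have hPS := hcen.1
  have hQ₁P : Q₁ ≤ P := le_of_isNormal_of_centric_radical p hS F hQ₁ hcen hrad
  apply le_of_chain_centric_radical_of_base p hS F hcen hrad hQ.1 hN
    (fun i => if i = 0 then Q₁ else if i = 1 then Q else ⊤) 2 _ (by simp)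
  · intro i α hα x hx
    by_cases h0 : i = 0
    · simp only [h0, if_true] at hx ⊢
      exact autGroup_apply_mem_of_stronglyClosed F hQ₁sc hPS α hα x hx
    · by_cases h1 : i = 1
      · simp only [h1, if_true, show (1 : ℕ) ≠ 0 by omega, if_false] at hx ⊢
        exact autGroup_apply_mem_of_stronglyClosed F hQ hPS α hα x hx
      · simp only [h0, h1, if_false]
        exact Subgroup.mem_top _
  · intro g hgQ hgN i hi x hxP hx
    interval_cases i
    · simp only [zero_add, if_true, show (1 : ℕ) ≠ 0 by omega, if_false] at hx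
      simp only [if_true]
      have h2 : ⁅x⁻¹, g⁆ ∈ ⁅Q, Q⁆ := Subgroup.commutator_mem_commutator (Q.inv_mem hx) hgQ
      have e : x⁻¹ * (g * x * g⁻¹) = ⁅x⁻¹, g⁆ := by
        rw [commutatorElement_def]; group
      rw [e]
      exact hab h2
    · simp only [show (1 : ℕ) ≠ 0 by omega, if_false, if_true]
      have h1 : x⁻¹ * g * x⁻¹⁻¹ ∈ Q :=
        (Subgroup.mem_normalizer_iff.mp (hN (S.inv_mem (hPS hxP))) g).mp hgQ
      have := Q.mul_mem h1 (Q.inv_mem hgQ)
      convert this using 1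
      group
  · -- base: Aut_F(P) acts on Q₁ as a p-group
    intro α hα
    simp only [if_true]
    obtain ⟨k₁, hk₁⟩ := exists_restrict_mulAut hQ₁P α (fun x =>
      autGroup_apply_mem_of_stronglyClosed F hQ₁sc hPS α hα _ x.2)
    have hk₁A : k₁ ∈ F.autGroup Q₁ := by
      apply (mem_autGroup_iff F hQ₁.1 k₁).mpr
      have := fs_restrict_mem F hQ₁P ((mem_autGroup_iff F hPS α).mp hα)
      convert this using 1
      ext x
      exact (hk₁ x).symm
    obtain ⟨k, hk⟩ := hAut ⟨k₁, hk₁A⟩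
    have hk' : k₁ ^ (p ^ k) = 1 := by simpa using congrArg Subtype.val hk
    refine ⟨k, fun x hx => ?_⟩
    have h1 := restrict_pow hQ₁P k₁ α (fun y => Subtype.ext (hk₁ y)) (p ^ k) ⟨x, hx⟩
    rw [hk'] at h1
    exact h1

end Cfsg.Agent.Lib.Helper7
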