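import Mathlib
import Cfsg.Prelude.Def_FusionSystem
import Cfsg.Agent.Lib.Helper7.FusionChain2

set_option autoImplicit false

namespace Cfsg.Agent.Lib.Helper7

open Cfsg Cfsg.FusionSystem

variable {Ω : Type*} [Group Ω]

/-- Automorphisms `β ∈ A` of `P` that move every element of `P` by an element of `R` and act on `P ∩ R`
as conjugation by an element of `R`. -/
def innerStab (P R : Subgroup Ω) (A : Subgroup (MulAut P))
    (hinv : ∀ α ∈ A, ∀ x : P, (x : Ω) ∈ R → ((α x : P) : Ω) ∈ R) : Subgroup (MulAut P) where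
  carrier := {β | β ∈ A ∧ (∀ x : P, (x : Ω)⁻¹ * ((β x : P) : Ω) ∈ R) ∧
    ∃ r ∈ R, ∀ x : P, (x : Ω) ∈ R → ((β x : P) : Ω) = r * x * r⁻¹}
  one_mem' := ⟨A.one_mem, fun x => by simp, 1, R.one_mem, fun x _ => by simp⟩
  mul_mem' := by
    rintro β γ ⟨hβA, hβ, r₁, hr₁, hβr⟩ ⟨hγA, hγ, r₂, hr₂, hγr⟩
    refine ⟨A.mul_mem hβA hγA, fun x => ?_, r₁ * r₂, R.mul_mem hr₁ hr₂, fun x hx => ?_⟩
    · have h1 := hγ x
      have h2 := hβ (γ x)
      have e : (x : Ω)⁻¹ * (((β * γ) x : P) : Ω) =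
          ((x : Ω)⁻¹ * ((γ x : P) : Ω)) * (((γ x : P) : Ω)⁻¹ * ((β (γ x) : P) : Ω)) := by
        rw [MulAut.mul_apply]; group
      rw [e]
      exact R.mul_mem h1 h2
    · rw [MulAut.mul_apply, hβr _ (hinv γ hγA x hx), hγr x hx]
      group
  inv_mem' := by
    rintro β ⟨hβA, hβ, r, hr, hβr⟩
    refine ⟨A.inv_mem hβA, fun x => ?_, r⁻¹, R.inv_mem hr, fun x hx => ?_⟩
    · have h1 := hβ (β⁻¹ x)
      rw [MulAut.apply_inv_self] at h1
      have := R.inv_mem h1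
      simpa using this
    · have hy := hinv β⁻¹ (A.inv_mem hβA) x hx
      have h1 := hβr _ hy
      rw [MulAut.apply_inv_self] at h1
      rw [h1]; group

theorem innerStab_pow_apply {P R : Subgroup Ω} {A : Subgroup (MulAut P)}
    {hinv : ∀ α ∈ A, ∀ x : P, (x : Ω) ∈ R → ((α x : P) : Ω) ∈ R} {β : MulAut P} (hβA : β ∈ A)
    {r : Ω} (hβr : ∀ x : P, (x : Ω) ∈ R → ((β x : P) : Ω) = r * x * r⁻¹) (n : ℕ) :
    ∀ x : P, (x : Ω) ∈ R → (((β ^ n) x : P) : Ω) = r ^ n * x * (r ^ n)⁻¹ := by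
  induction n with
  | zero => intro x _; simp
  | succ n ih =>
    intro x hx
    have hy : (((β ^ n) x : P) : Ω) ∈ R := hinv _ (A.pow_mem hβA n) x hx
    rw [pow_succ', MulAut.mul_apply, hβr _ hy, ih x hx, pow_succ']
    group

theorem isPGroup_innerStab {P R : Subgroup Ω} [Finite P] [Finite R] {p : ℕ} [Fact p.Prime]
    (hP : IsPGroup p P) (hR : IsPGroup p R) (A : Subgroup (MulAut P))
    (hinv : ∀ α ∈ A, ∀ x : P, (x : Ω) ∈ R → ((α x : P) : Ω) ∈ R) :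
    IsPGroup p (innerStab P R A hinv) := by
  obtain ⟨a, ha⟩ := IsPGroup.iff_card.mp hP
  obtain ⟨b, hb⟩ := IsPGroup.iff_card.mp hR
  rintro ⟨β, hβ⟩
  obtain ⟨hβA, hβm, r, hr, hβr⟩ := id hβ
  refine ⟨b + a, Subtype.ext ?_⟩
  show β ^ (p ^ (b + a)) = 1
  have hrpow : r ^ (p ^ b) = 1 := by
    have : (⟨r, hr⟩ : R) ^ (p ^ b) = 1 := by rw [← hb]; exact pow_card_eq_one'
    simpa using congrArg Subtype.val this
  have hγ : β ^ (p ^ b) ∈ innerStab P R A hinv := Subgroup.pow_mem _ hβ _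
  have hγfix : ∀ x : P, (x : Ω) ∈ R → (β ^ (p ^ b)) x = x := by
    intro x hx
    apply Subtype.ext
    rw [innerStab_pow_apply (hinv := hinv) hβA hβr (p ^ b) x hx, hrpow]
    simp
  ext x
  have hz : ((x⁻¹ * (β ^ (p ^ b)) x : P) : Ω) ∈ R := by
    have := hγ.2.1 x
    simpa using this
  have hfix := hγfix _ hz
  have hxz : (β ^ (p ^ b)) x = x * (x⁻¹ * (β ^ (p ^ b)) x) := by group
  have := pow_apply_of_fix hfix hxz (p ^ a)
  rw [← pow_mul, ← pow_add] at this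
  rw [this, ← ha, pow_card_eq_one', mul_one]
  rfl

theorem innerStab_conj_mem {P R : Subgroup Ω} (A : Subgroup (MulAut P))
    (hinv : ∀ α ∈ A, ∀ x : P, (x : Ω) ∈ R → ((α x : P) : Ω) ∈ R)
    (hext : ∀ α ∈ A, ∃ αh : MulAut R, ∀ (z : P) (hz : (z : Ω) ∈ R),
      ((αh ⟨z, hz⟩ : R) : Ω) = ((α z : P) : Ω))
    {α β : MulAut P} (hα : α ∈ A) (hβ : β ∈ innerStab P R A hinv) :
    α * β * α⁻¹ ∈ innerStab P R A hinv := by
  obtain ⟨hβA, hβm, r, hr, hβr⟩ := hβ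
  obtain ⟨αh, hαh⟩ := hext α hα
  refine ⟨A.mul_mem (A.mul_mem hα hβA) (A.inv_mem hα), fun x => ?_, αh ⟨r, hr⟩, (αh _).2,
    fun x hx => ?_⟩
  · have h1 := hβm (α⁻¹ x)
    have hz : ((((α⁻¹ x)⁻¹ * β (α⁻¹ x) : P)) : Ω) ∈ R := by simpa using h1
    have h2 := hinv α hα _ hz
    rw [map_mul, map_inv, MulAut.apply_inv_self] at h2
    simpa using h2
  · have hy : ((α⁻¹ x : P) : Ω) ∈ R := hinv α⁻¹ (A.inv_mem hα) x hx
    have h1 := hβr _ hy
    show ((α (β (α⁻¹ x)) : P) : Ω) = _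
    have hβy : ((β (α⁻¹ x) : P) : Ω) ∈ R := hinv β hβA _ hy
    rw [← hαh _ hβy]
    have e : (⟨((β (α⁻¹ x) : P) : Ω), hβy⟩ : R) = ⟨r, hr⟩ * ⟨((α⁻¹ x : P) : Ω), hy⟩ * ⟨r, hr⟩⁻¹ :=
      Subtype.ext h1
    rw [e, map_mul, map_mul, map_inv]
    simp only [Subgroup.coe_mul, Subgroup.coe_inv]
    rw [hαh _ hy, MulAut.apply_inv_self]

variable {S : Subgroup Ω}

/-- If every map of the system from a subgroup of `R` extends to an element of `Aut_F(R)`, then `R` lies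
in every centric radical subgroup. -/
theorem le_of_extend_centric_radical [Finite S] (p : ℕ) [Fact p.Prime] (hS : IsPGroup p S)
    (F : FusionSystem S) {R : Subgroup Ω} (hRS : R ≤ S)
    (hC : ∀ (P : Subgroup Ω) (hPR : P ≤ R) (φ : P →* Ω), φ ∈ F.Hom P →
      ∃ α ∈ F.autGroup R, ∀ x : P, ((α (Subgroup.inclusion hPR x) : R) : Ω) = φ x)
    {P : Subgroup Ω} (hcen : F.IsCentric P) (hrad : F.IsRadical p P) : R ≤ P := by
  have hRsc : F.StronglyClosed R := by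
    refine ⟨hRS, fun T hTR φ hφ x => ?_⟩
    obtain ⟨α, -, hα⟩ := hC T hTR φ hφ
    rw [← hα]; exact (α _).2
  have hN := le_normalizer_of_stronglyClosed F hRsc
  have hPS := hcen.1
  have hPRS : P ⊔ R ≤ S := sup_le hPS hRS
  haveI := finite_of_le hPS
  haveI := finite_of_le hRS
  haveI := finite_of_le hPRS
  haveI : Finite (MulAut ↥P) := inferInstance
  have hPp : IsPGroup p ↥P := hS.to_le hPS
  have hRp : IsPGroup p ↥R := hS.to_le hRS
  have hcenP : centralizerIn S P ≤ P := hcen.2 P (isConj_refl F hPS)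
  have hinv : ∀ α ∈ F.autGroup P, ∀ x : P, (x : Ω) ∈ R → ((α x : P) : Ω) ∈ R :=
    fun α hα x hx => autGroup_apply_mem_of_stronglyClosed F hRsc hPS α hα x hx
  have hext : ∀ α ∈ F.autGroup P, ∃ αh : MulAut R, ∀ (z : P) (hz : (z : Ω) ∈ R),
      ((αh ⟨z, hz⟩ : R) : Ω) = ((α z : P) : Ω) := by
    intro α hα
    have hφ := fs_restrict_mem F (inf_le_left : P ⊓ R ≤ P) ((mem_autGroup_iff F hPS α).mp hα)
    obtain ⟨αh, -, hαh⟩ := hC (P ⊓ R) inf_le_right _ hφ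
    exact ⟨αh, fun z hz => hαh ⟨z, ⟨z.2, hz⟩⟩⟩
  have hnormal : ((innerStab P R (F.autGroup P) hinv).subgroupOf (F.autGroup P)).Normal := by
    refine ⟨fun n hn a => ?_⟩
    exact Subgroup.mem_subgroupOf.mpr
      (innerStab_conj_mem (F.autGroup P) hinv hext a.2 (Subgroup.mem_subgroupOf.mp hn))
  have hcore := le_pCore hnormal (isPGroup_innerStab hPp hRp (F.autGroup P) hinv).comap_subtype
  have hNR : ∀ g ∈ R, g ∈ Subgroup.normalizer (P : Set Ω) → g ∈ P := by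
    intro g hgR hgN
    have hgS : g ∈ S := hRS hgR
    have hβS : P.normalizerMonoidHom ⟨g, hgN⟩ ∈ autInducedBy S P :=
      (mem_autInducedBy_iff S P _).mpr ⟨g, hgS, fun x => rfl⟩
    have hβA := autInducedBy_le_autGroup F hPS hβS
    have hβY : P.normalizerMonoidHom ⟨g, hgN⟩ ∈ innerStab P R (F.autGroup P) hinv := by
      refine ⟨hβA, fun x => ?_, g, hgR, fun x _ => rfl⟩
      show (x : Ω)⁻¹ * (g * x * g⁻¹) ∈ R
      have h1 : (x : Ω)⁻¹ * g * (x : Ω)⁻¹⁻¹ ∈ R :=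
        (Subgroup.mem_normalizer_iff.mp (hN (S.inv_mem (hPS x.2))) g).mp hgR
      have := R.mul_mem h1 (R.inv_mem hgR)
      convert this using 1
      group
    apply mem_of_normalizerMonoidHom_mem_inn hcenP hPS hgS hgN
    rw [← hrad.2]
    exact ⟨⟨_, hβA⟩, hcore (Subgroup.mem_subgroupOf.mpr hβY), rfl⟩
  by_contra hnot
  have hne : P ≠ P ⊔ R := fun h => hnot (by rw [h]; exact le_sup_right)
  obtain ⟨g, hgN, hgP⟩ := lt_normalizerIn_of_ne (hS.to_le hPRS) le_sup_left hne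
  apply hgP
  have hg : g ∈ ((P ⊔ R : Subgroup Ω) : Set Ω) := hgN.1
  rw [Subgroup.coe_mul_of_left_le_normalizer_right P R (hPS.trans hN)] at hg
  obtain ⟨x, hx, q, hq, rfl⟩ := hg
  have hqN : q ∈ Subgroup.normalizer (P : Set Ω) := by
    have h1 : x⁻¹ ∈ Subgroup.normalizer (P : Set Ω) := Subgroup.le_normalizer (P.inv_mem hx)
    have := Subgroup.mul_mem _ h1 hgN.2
    simpa using this
  exact P.mul_mem hx (hNR q hq hqN)

theorem isNormal_iff_extend [Finite S] (p : ℕ) [Fact p.Prime] (hS : IsPGroup p S)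
    (F : FusionSystem S) (hF : F.IsSaturated p) (R : Subgroup Ω) (hRS : R ≤ S) :
    F.IsNormal R ↔ ∀ (P : Subgroup Ω) (hPR : P ≤ R) (φ : P →* Ω), φ ∈ F.Hom P →
      ∃ α ∈ F.autGroup R, ∀ x : P, ((α (Subgroup.inclusion hPR x) : R) : Ω) = φ x := by
  constructor
  · intro hR P hPR φ hφ
    obtain ⟨ψ, hψ, hext, hmap⟩ := hR.2 P φ hφ
    have hψR := fs_restrict_mem F (le_sup_right : R ≤ P ⊔ R) hψ
    have hr : (ψ.comp (Subgroup.inclusion (le_sup_right : R ≤ P ⊔ R))).range = R := by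
      rw [range_comp_inclusion, hmap]
    refine ⟨isoOfRange _ (F.injective_of_mem hψR) hr, ?_, fun x => ?_⟩
    · apply (mem_autGroup_iff F hRS _).mpr
      convert hψR using 1
      ext x
      rfl
    · rw [isoOfRange_coe, ← hext]
      rfl
  · intro hC
    have hRsc : F.StronglyClosed R := by
      refine ⟨hRS, fun T hTR φ hφ x => ?_⟩
      obtain ⟨α, -, hα⟩ := hC T hTR φ hφ
      rw [← hα]; exact (α _).2
    rw [isNormal_iff_stronglyClosed_le_centric_radical p hS F hF]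
    exact ⟨hRsc, fun P hcen hrad => le_of_extend_centric_radical p hS F hRS hC hcen hrad⟩

end Cfsg.Agent.Lib.Helper7
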