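import Mathlib
import Cfsg.Prelude.Def_FusionSystem
import Cfsg.Agent.Lib.Helper7.FusionExtend
import Cfsg.Agent.Lib.Helper7.FusionInner

set_option autoImplicit false

namespace Cfsg.Agent.Lib.Helper7

open Cfsg Cfsg.FusionSystem

variable {Ω : Type*} [Group Ω] {S : Subgroup Ω}

theorem extender_le (S P : Subgroup Ω) (φ : P →* Ω) : extender S P φ ≤ S := by
  unfold extender
  rw [Subgroup.closure_le]
  rintro g ⟨hg, -⟩
  exact hg

theorem autGroup_innerFusionSystem_le {P : Subgroup Ω} (hP : P ≤ S) :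
    (innerFusionSystem S).autGroup P ≤ autInducedBy S P := by
  intro α hα
  rw [mem_autGroup_iff _ hP] at hα
  obtain ⟨-, g, hg, h⟩ := hα
  rw [mem_autInducedBy_iff]
  exact ⟨g, hg, fun x => h x⟩

theorem innerFusionSystem_isSaturated [Finite S] (p : ℕ) [Fact p.Prime] (hS : IsPGroup p S) :
    (innerFusionSystem S).IsSaturated p := by
  intro P hP
  haveI := finite_of_le hP
  haveI : Finite (MulAut ↥P) := inferInstance
  refine ⟨P, isConj_refl _ hP, ⟨hP, ?_⟩, hP, ?_⟩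
  · have hA : IsPGroup p ((innerFusionSystem S).autGroup P) :=
      (isPGroup_autInducedBy S P hS).to_le (autGroup_innerFusionSystem_le hP)
    obtain ⟨R⟩ : Nonempty (Sylow p ((innerFusionSystem S).autGroup P)) := inferInstance
    refine ⟨R, ?_⟩
    rw [sylow_eq_top_of_isPGroup hA R]
    symm
    rw [Subgroup.subgroupOf_eq_top]
    exact autGroup_innerFusionSystem_le hP
  · rintro P' φ ⟨hP', g, hg, hφ⟩ -
    refine ⟨conjHom (extender S P' φ) g, ⟨extender_le S P' φ, g, hg, fun x => rfl⟩, ?_⟩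
    intro x hxP hxN
    exact (hφ ⟨x, hxP⟩).symm

/-- `Q ⊴ F` iff the inner system of `Q` is weakly normal in `F`. -/
theorem isNormal_iff_inner_weaklyNormal [Finite S] (p : ℕ) [Fact p.Prime] (hS : IsPGroup p S)
    (F : FusionSystem S) (hF : F.IsSaturated p) (Q : Subgroup Ω) (hQ : Q ≤ S) :
    F.IsNormal Q ↔ (innerFusionSystem Q).IsWeaklyNormalIn F p := by
  haveI : Finite Q := finite_of_le hQ
  constructor
  · intro hN
    have hext := (isNormal_iff_extend p hS F hF Q hQ).mp hN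
    refine ⟨innerFusionSystem_isSaturated p (hS.to_le hQ), hF, ?_, stronglyClosed_of_isNormal F hN,
      ?_, ?_⟩
    · rintro P φ ⟨hP, g, hg, hφ⟩
      have := F.conj_mem (hP.trans hQ) (hQ hg)
      convert this using 1
      ext x
      exact hφ x
    · rintro P hPQ φ ⟨-, g, hg, hφ⟩ α hα
      refine ⟨conjHom _ ((α ⟨g, hg⟩ : Q) : Ω), ⟨?_, _, (α ⟨g, hg⟩).2, fun x => rfl⟩, ?_⟩
      · rintro _ ⟨y, -, rfl⟩
        exact (α y).2
      · intro x hφx hαx
        show ((α ⟨g, hg⟩ : Q) : Ω) * ((α ⟨x, hPQ x.2⟩ : Q) : Ω) * ((α ⟨g, hg⟩ : Q) : Ω)⁻¹ = _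
        have e : (⟨φ x, hφx⟩ : Q) = ⟨g, hg⟩ * ⟨x, hPQ x.2⟩ * ⟨g, hg⟩⁻¹ := by
          apply Subtype.ext
          exact hφ x
        rw [e, map_mul, map_mul, map_inv]
        rfl
    · intro P hPQ φ hφ
      obtain ⟨α, hα, hαφ⟩ := hext P hPQ φ hφ
      refine ⟨α, hα, P.subtype, ⟨hPQ, 1, Q.one_mem, fun x => by simp⟩, fun x hx => ?_⟩
      rw [← hαφ]
      rfl
  · rintro ⟨-, -, hEF, hsc, -, hfr⟩
    rw [isNormal_iff_extend p hS F hF Q hQ]
    intro P hPQ φ hφ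
    obtain ⟨α, hα, φ₀, ⟨-, g, hg, hφ₀⟩, h⟩ := hfr P hPQ φ hφ
    have hcg : (MulAut.conj (⟨g, hg⟩ : Q)) ∈ F.autGroup Q := by
      apply autInducedBy_le_autGroup F hQ
      rw [mem_autInducedBy_iff]
      exact ⟨g, hQ hg, fun x => rfl⟩
    refine ⟨α * MulAut.conj (⟨g, hg⟩ : Q), (F.autGroup Q).mul_mem hα hcg, fun x => ?_⟩
    have hx : φ₀ x ∈ Q := by
      rw [hφ₀]
      exact Q.mul_mem (Q.mul_mem hg (hPQ x.2)) (Q.inv_mem hg)
    rw [h x hx]
    show ((α (MulAut.conj (⟨g, hg⟩ : Q) (Subgroup.inclusion hPQ x)) : Q) : Ω) = _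
    congr 2
    apply Subtype.ext
    exact (hφ₀ x).symm

end Cfsg.Agent.Lib.Helper7
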