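import Mathlib
import Cfsg.Prelude.Def_FusionSystem
import Cfsg.Agent.Lib.Helper7.Alperin3

set_option autoImplicit false

namespace Cfsg.Agent.Lib.Helper7

open Cfsg Cfsg.FusionSystem

variable {Ω : Type*} [Group Ω] {S : Subgroup Ω}

/-- Strong form of the Alperin–Goldschmidt theorem: when checking `Aut_F(P) ≤ Aut_E(P)` one may assume
that all maps of `F` on strictly larger subgroups are maps of `E`. -/
theorem alperin_goldschmidt_strong [Finite S] (p : ℕ) [Fact p.Prime] (hS : IsPGroup p S)
    (F : FusionSystem S) (hF : F.IsSaturated p) (E : FusionSystem S)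
    (hE : ∀ P : Subgroup Ω, (P = S ∨ F.IsEssential p P) →
      (∀ (Q : Subgroup Ω) (φ : Q →* Ω), φ ∈ F.Hom Q → Nat.card P < Nat.card Q → φ ∈ E.Hom Q) →
      F.autGroup P ≤ E.autGroup P) : F ≤ E := by
  have key : ∀ (n : ℕ) (P : Subgroup Ω) (φ : P →* Ω), φ ∈ F.Hom P →
      Nat.card S - Nat.card P = n → φ ∈ E.Hom P := by
    intro n
    induction n using Nat.strong_induction_on with
    | _ n ih =>
      intro P φ hφ hn
      have hPS : P ≤ S := (F.le_of_mem hφ).1
      haveI := finite_of_le hPS
      have hcardP : Nat.card P ≤ Nat.card S := Subgroup.card_le_of_le hPS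
      by_cases hPeq : P = S
      · subst hPeq
        have hr : φ.range = P := by
          apply Subgroup.eq_of_le_of_card_ge
          · rintro _ ⟨x, rfl⟩; exact (F.le_of_mem hφ).2 x
          · exact (Nat.card_congr (Equiv.ofInjective φ (F.injective_of_mem hφ))).le
        have hα : isoOfRange φ (F.injective_of_mem hφ) hr ∈ F.autGroup P := by
          apply (mem_autGroup_iff F le_rfl _).mpr
          convert hφ using 1
          ext x
          rfl
        have hvac : ∀ (Q : Subgroup Ω) (χ : Q →* Ω), χ ∈ F.Hom Q → Nat.card P < Nat.card Q →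
            χ ∈ E.Hom Q := by
          intro Q χ hχ hlt
          have hQS : Q ≤ P := (F.le_of_mem hχ).1
          have := Subgroup.card_le_of_le hQS
          omega
        have := (mem_autGroup_iff E le_rfl _).mp (hE P (Or.inl rfl) hvac hα)
        convert this using 1
        ext x
        rfl
      · have ih' : ∀ (Q : Subgroup Ω) (φ : Q →* Ω), φ ∈ F.Hom Q → Nat.card P < Nat.card Q →
            φ ∈ E.Hom Q := by
          intro Q χ hχ hlt
          have hQS : Q ≤ S := (F.le_of_mem hχ).1
          have hcardQ : Nat.card Q ≤ Nat.card S := Subgroup.card_le_of_le hQS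
          exact ih (Nat.card S - Nat.card Q) (by omega) Q χ hχ rfl
        obtain ⟨Pst, ⟨ψ₀, hψ₀, hr₀⟩, hFN⟩ := exists_isFullyNormalized_conj F hPS
        have hc₀ : F.IsConj P Pst := ⟨ψ₀, hψ₀, hr₀⟩
        obtain ⟨R, hcR, hFAR, hRecR⟩ := hF Pst hFN.1
        obtain ⟨hFA, hRec⟩ := isFullyAutomized_isReceptive_of_isFullyNormalized p hS F hFN hFAR hRecR hcR
        have hcardeq : Nat.card P = Nat.card Pst := card_eq_of_isConj F hc₀
        have hPstne : Pst ≠ S := by
          intro h
          apply hPeq
          apply Subgroup.eq_of_le_of_card_ge hPS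
          rw [hcardeq, h]
        have hAut : F.autGroup Pst ≤ E.autGroup Pst := by
          have ih'' : ∀ (Q : Subgroup Ω) (χ : Q →* Ω), χ ∈ F.Hom Q → Nat.card Pst < Nat.card Q →
              χ ∈ E.Hom Q := fun Q χ hχ hlt => ih' Q χ hχ (by omega)
          exact autGroup_le_of_larger p hS F E hFN hFA hRec hPstne (fun h => hE Pst (Or.inr h) ih'') ih''
        have hψ₀E := hom_mem_of_range_fullyNormalized p hS F E hFA hRec hAut hPeq ψ₀ hψ₀ hr₀ ih'
        -- ψ₁ = ψ₀ ∘ φ⁻¹ on φ.range
        set eφ := isoOfRange φ (F.injective_of_mem hφ) rfl with heφ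
        have hφinv := fs_iso_symm_mem F hφ rfl
        have hψ₁ := F.comp_mem hφinv hψ₀ (fun y => (eφ.symm y).2)
        have hcardR : Nat.card φ.range = Nat.card P :=
          (Nat.card_congr (Equiv.ofInjective φ (F.injective_of_mem hφ))).symm
        have hRne : φ.range ≠ S := by
          intro h
          apply hPeq
          apply Subgroup.eq_of_le_of_card_ge hPS
          rw [← hcardR, h]
        have hr₁ : (ψ₀.comp ((P.subtype.comp eφ.symm.toMonoidHom).codRestrict P
            (fun y => (eφ.symm y).2))).range = Pst := by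
          rw [← hr₀]
          ext y
          constructor
          · rintro ⟨x, rfl⟩
            exact ⟨_, rfl⟩
          · rintro ⟨x, rfl⟩
            refine ⟨eφ x, ?_⟩
            show ψ₀ _ = ψ₀ x
            congr 1
            apply Subtype.ext
            show ((eφ.symm (eφ x) : P) : Ω) = x
            rw [MulEquiv.symm_apply_apply]
        have hψ₁E := hom_mem_of_range_fullyNormalized p hS F E hFA hRec hAut hRne _ hψ₁ hr₁
          (fun Q χ hχ hlt => ih' Q χ hχ (by omega))
        have h4 := fs_iso_symm_mem E hψ₁E hr₁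
        have hψ₀P : ∀ x : P, ψ₀ x ∈ Pst := fun x => by rw [← hr₀]; exact ⟨x, rfl⟩
        have h5 := E.comp_mem hψ₀E h4 hψ₀P
        convert h5 using 1
        ext x
        set e₁ := isoOfRange _ (E.injective_of_mem hψ₁E) hr₁ with he₁
        show φ x = ((e₁.symm (ψ₀.codRestrict Pst hψ₀P x) : φ.range) : Ω)
        have : ψ₀.codRestrict Pst hψ₀P x = e₁ (eφ x) := by
          apply Subtype.ext
          rw [isoOfRange_coe]
          show ψ₀ x = ψ₀ _
          congr 1
          apply Subtype.ext
          show (x : Ω) = ((eφ.symm (eφ x) : P) : Ω)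
          rw [MulEquiv.symm_apply_apply]
        rw [this, MulEquiv.symm_apply_apply]
        rfl
  intro P φ hφ
  exact key _ P φ hφ rfl

end Cfsg.Agent.Lib.Helper7
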