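import Mathlib
import Cfsg.Prelude.Def_FusionSystem
import Cfsg.Prelude.Def_FusionComponents
import Cfsg.Agent.Lib.Helper7.FusionSat2

set_option autoImplicit false

namespace Cfsg.Agent.Lib.Helper7

open Cfsg Cfsg.FusionSystem

variable {Ω : Type*} [Group Ω] {S : Subgroup Ω} {Ω' : Type*} [Group Ω']

theorem mem_preimageAlong (θ : S →* Ω') (P' : Subgroup Ω') (x : Ω) :
    x ∈ preimageAlong θ P' ↔ ∃ h : x ∈ S, θ ⟨x, h⟩ ∈ P' := by
  unfold preimageAlong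
  constructor
  · rintro ⟨s, hs, rfl⟩
    exact ⟨s.2, hs⟩
  · rintro ⟨h, hx⟩
    exact ⟨⟨x, h⟩, hx, rfl⟩

theorem preimageAlong_le (θ : S →* Ω') (P' : Subgroup Ω') : preimageAlong θ P' ≤ S := by
  intro x hx
  exact ((mem_preimageAlong θ P' x).mp hx).1

theorem preimageAlong_mono (θ : S →* Ω') {P' Q' : Subgroup Ω'} (h : P' ≤ Q') :
    preimageAlong θ P' ≤ preimageAlong θ Q' := by
  intro x hx
  obtain ⟨h1, h2⟩ := (mem_preimageAlong θ P' x).mp hx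
  exact (mem_preimageAlong θ Q' x).mpr ⟨h1, h h2⟩

/-- The maps of the factor system with source `P'`. -/
def factorHom (F : FusionSystem S) (θ : S →* Ω') (S' P' : Subgroup Ω') : Set (P' →* Ω') :=
  {φ' | P' ≤ S' ∧ ∃ φ ∈ F.Hom (preimageAlong θ P'), InducedAlong θ φ φ'}

/-- a map of `F` sends only elements of the strongly closed `S₀` into `S₀` -/
theorem mem_of_map_mem_stronglyClosed (F : FusionSystem S) (S₀ : Subgroup Ω) (hS₀ : F.StronglyClosed S₀)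
    {P : Subgroup Ω} {φ : P →* Ω} (hφ : φ ∈ F.Hom P) (x : P)
    (hx : φ x ∈ S₀) : (x : Ω) ∈ S₀ := by
  obtain ⟨ψ, hψ, hinv⟩ := F.inv_mem hφ
  have hle : Subgroup.zpowers (φ x) ≤ φ.range := Subgroup.zpowers_le.mpr ⟨x, rfl⟩
  have hle0 : Subgroup.zpowers (φ x) ≤ S₀ := Subgroup.zpowers_le.mpr hx
  have h1 := hS₀.2 _ hle0 _ (fs_restrict_mem F hle hψ) ⟨φ x, Subgroup.mem_zpowers _⟩
  have h2 : (ψ.comp (Subgroup.inclusion hle)) ⟨φ x, Subgroup.mem_zpowers _⟩ = (x : Ω) := hinv x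
  rw [h2] at h1
  exact h1

theorem exists_preimage_of_mem (θ : S →* Ω') (S' : Subgroup Ω') (hrange : θ.range = S')
    {P' : Subgroup Ω'} (hP' : P' ≤ S') (x : Ω') (hx : x ∈ P') :
    ∃ (s : Ω) (hs : s ∈ preimageAlong θ P'), θ ⟨s, preimageAlong_le θ P' hs⟩ = x := by
  have : x ∈ θ.range := by rw [hrange]; exact hP' hx
  obtain ⟨s, hs⟩ := this
  refine ⟨s, (mem_preimageAlong θ P' _).mpr ⟨s.2, ?_⟩, hs⟩
  rw [show (⟨(s : Ω), s.2⟩ : S) = s from rfl, hs]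
  exact hx

theorem factorHom_injective (F : FusionSystem S) (S₀ : Subgroup Ω) (hS₀ : F.StronglyClosed S₀)
    (θ : S →* Ω') (hker : ∀ s : S, θ s = 1 ↔ (s : Ω) ∈ S₀) (S' : Subgroup Ω') (hrange : θ.range = S')
    {P' : Subgroup Ω'} {φ' : P' →* Ω'} (h : φ' ∈ factorHom F θ S' P') :
    Function.Injective φ' := by
  obtain ⟨hP', φ, hφ, hP, hφS, hPP', hind⟩ := h
  rw [injective_iff_map_eq_one]
  intro x hx
  obtain ⟨s, hs, hsx⟩ := exists_preimage_of_mem θ S' hrange hP' x x.2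
  have h1 := hind ⟨s, hs⟩
  have hx' : x = ⟨θ ⟨s, hP hs⟩, hPP' ⟨s, hs⟩⟩ := Subtype.ext hsx.symm
  rw [← hx', hx] at h1
  have h2 : (φ ⟨s, hs⟩ : Ω) ∈ S₀ := (hker ⟨_, hφS ⟨s, hs⟩⟩).mp h1.symm
  have h3 : s ∈ S₀ := mem_of_map_mem_stronglyClosed F S₀ hS₀ hφ ⟨s, hs⟩ h2
  apply Subtype.ext
  rw [← hsx]
  exact (hker ⟨s, _⟩).mpr h3

theorem factorHom_le_of_mem (F : FusionSystem S)
    (θ : S →* Ω') (S' : Subgroup Ω') (hrange : θ.range = S')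
    {P' : Subgroup Ω'} {φ' : P' →* Ω'} (h : φ' ∈ factorHom F θ S' P') :
    P' ≤ S' ∧ ∀ x : P', φ' x ∈ S' := by
  obtain ⟨hP', φ, hφ, hP, hφS, hPP', hind⟩ := h
  refine ⟨hP', fun x => ?_⟩
  obtain ⟨s, hs, hsx⟩ := exists_preimage_of_mem θ S' hrange hP' x x.2
  have h1 := hind ⟨s, hs⟩
  have hx' : x = ⟨θ ⟨s, hP hs⟩, hPP' ⟨s, hs⟩⟩ := Subtype.ext hsx.symm
  rw [hx', h1, ← hrange]
  exact ⟨_, rfl⟩

theorem factorHom_conj_mem (F : FusionSystem S)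
    (θ : S →* Ω') (S' : Subgroup Ω') (hrange : θ.range = S')
    {P' : Subgroup Ω'} {g : Ω'} (hP' : P' ≤ S') (hg : g ∈ S') :
    conjHom P' g ∈ factorHom F θ S' P' := by
  have : g ∈ θ.range := by rw [hrange]; exact hg
  obtain ⟨s, rfl⟩ := this
  have hle := preimageAlong_le θ P'
  refine ⟨hP', conjHom _ (s : Ω), F.conj_mem hle s.2, hle, ?_, ?_, ?_⟩
  · intro x
    exact S.mul_mem (S.mul_mem s.2 (hle x.2)) (S.inv_mem s.2)
  · intro x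
    exact ((mem_preimageAlong θ P' _).mp x.2).2
  · intro x
    show θ s * θ ⟨x, _⟩ * (θ s)⁻¹ = θ ⟨(s : Ω) * x * (s : Ω)⁻¹, _⟩
    rw [← map_inv, ← map_mul, ← map_mul]
    rfl

theorem factorHom_comp_mem (F : FusionSystem S)
    (θ : S →* Ω') (S' : Subgroup Ω')
    {P' Q' : Subgroup Ω'} {φ' : P' →* Ω'} {ψ' : Q' →* Ω'} (hφ' : φ' ∈ factorHom F θ S' P')
    (hψ' : ψ' ∈ factorHom F θ S' Q') (h : ∀ x : P', φ' x ∈ Q') :
    ψ'.comp (φ'.codRestrict Q' h) ∈ factorHom F θ S' P' := by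
  obtain ⟨hP', φ, hφ, hP, hφS, hPP', hind⟩ := hφ'
  obtain ⟨hQ', ψ, hψ, hQ, hψS, hQQ', hindψ⟩ := hψ'
  have hφQ : ∀ x : preimageAlong θ P', φ x ∈ preimageAlong θ Q' := by
    intro x
    refine (mem_preimageAlong θ Q' _).mpr ⟨hφS x, ?_⟩
    rw [← hind x]
    exact h _
  refine ⟨hP', ψ.comp (φ.codRestrict _ hφQ), F.comp_mem hφ hψ hφQ, hP, fun x => hψS _, hPP', ?_⟩
  intro x
  show ψ' ⟨φ' ⟨θ ⟨x, _⟩, _⟩, _⟩ = θ ⟨ψ ⟨φ x, _⟩, _⟩
  rw [← hindψ ⟨φ x, hφQ x⟩]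
  congr 1
  apply Subtype.ext
  exact hind x

theorem stronglyClosed_le_range [Finite S] (F : FusionSystem S) (S₀ : Subgroup Ω) (hS₀ : F.StronglyClosed S₀)
    {P : Subgroup Ω} {φ : P →* Ω} (hφ : φ ∈ F.Hom P) (hle : S₀ ≤ P) : S₀ ≤ φ.range := by
  haveI : Finite S₀ := finite_of_le hS₀.1
  have hmem : ∀ z : S₀, φ ⟨z, hle z.2⟩ ∈ S₀ := fun z =>
    hS₀.2 S₀ le_rfl _ (fs_restrict_mem F hle hφ) z
  let f : S₀ → S₀ := fun z => ⟨φ ⟨z, hle z.2⟩, hmem z⟩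
  have hf : Function.Injective f := by
    intro a b hab
    have h1 : φ ⟨a, hle a.2⟩ = φ ⟨b, hle b.2⟩ := congrArg Subtype.val hab
    have h2 := F.injective_of_mem hφ h1
    exact Subtype.ext (congrArg (fun t : P => (t : Ω)) h2)
  have hsurj := Finite.injective_iff_surjective.mp hf
  intro z hz
  obtain ⟨a, ha⟩ := hsurj ⟨z, hz⟩
  exact ⟨⟨a, hle a.2⟩, congrArg Subtype.val ha⟩

theorem factorHom_inv_mem [Finite S] (F : FusionSystem S) (S₀ : Subgroup Ω) (hS₀ : F.StronglyClosed S₀)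
    (θ : S →* Ω') (hker : ∀ s : S, θ s = 1 ↔ (s : Ω) ∈ S₀) (S' : Subgroup Ω') (hrange : θ.range = S')
    {P' : Subgroup Ω'} {φ' : P' →* Ω'} (h : φ' ∈ factorHom F θ S' P') :
    ∃ ψ' ∈ factorHom F θ S' φ'.range, ∀ x : P', ψ' ⟨φ' x, ⟨x, rfl⟩⟩ = (x : Ω') := by
  have hinj := factorHom_injective F S₀ hS₀ θ hker S' hrange h
  have hle' := factorHom_le_of_mem F θ S' hrange h
  obtain ⟨hP', φ, hφ, hP, hφS, hPP', hind⟩ := h
  have hrS' : φ'.range ≤ S' := by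
    rintro _ ⟨x, rfl⟩
    exact hle'.2 x
  have hψ'app : ∀ x : P', (MonoidHom.ofInjective hinj).symm ⟨φ' x, ⟨x, rfl⟩⟩ = x := by
    intro x
    rw [MulEquiv.symm_apply_eq]
    rfl
  refine ⟨P'.subtype.comp (MonoidHom.ofInjective hinj).symm.toMonoidHom, ⟨hrS', ?_⟩, fun x => ?_⟩
  swap
  · show (((MonoidHom.ofInjective hinj).symm ⟨φ' x, ⟨x, rfl⟩⟩ : P') : Ω') = x
    rw [hψ'app]
  -- S₀ ≤ P
  have hS₀P : S₀ ≤ preimageAlong θ P' := by
    intro z hz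
    refine (mem_preimageAlong θ P' z).mpr ⟨hS₀.1 hz, ?_⟩
    rw [(hker ⟨z, hS₀.1 hz⟩).mpr hz]
    exact P'.one_mem
  have hS₀r := stronglyClosed_le_range F S₀ hS₀ hφ hS₀P
  have hRle : preimageAlong θ φ'.range ≤ φ.range := by
    intro r hr
    obtain ⟨hrS, x', hx'⟩ := (mem_preimageAlong θ _ r).mp hr
    obtain ⟨s, hs, hsx⟩ := exists_preimage_of_mem θ S' hrange hP' x' x'.2
    have h1 := hind ⟨s, hs⟩
    have hx'' : x' = ⟨θ ⟨s, hP hs⟩, hPP' ⟨s, hs⟩⟩ := Subtype.ext hsx.symm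
    rw [← hx'', hx'] at h1
    -- θ r = θ (φ s)
    have h2 : θ (⟨r, hrS⟩ * (⟨φ ⟨s, hs⟩, hφS _⟩ : S)⁻¹) = 1 := by
      rw [map_mul, map_inv, h1, mul_inv_cancel]
    have h3 : r * (φ ⟨s, hs⟩)⁻¹ ∈ S₀ := (hker _).mp h2
    have h4 : r = (r * (φ ⟨s, hs⟩)⁻¹) * φ ⟨s, hs⟩ := by group
    rw [h4]
    exact Subgroup.mul_mem _ (hS₀r h3) ⟨_, rfl⟩
  obtain ⟨ψ₀, hψ₀, hinv⟩ := F.inv_mem hφ
  refine ⟨ψ₀.comp (Subgroup.inclusion hRle), fs_restrict_mem F hRle hψ₀, preimageAlong_le θ _, ?_, ?_, ?_⟩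
  · intro r
    obtain ⟨x, hx⟩ := hRle r.2
    have : (ψ₀.comp (Subgroup.inclusion hRle)) r = (x : Ω) := by
      rw [← hinv x]
      show ψ₀ _ = ψ₀ _
      congr 1
      exact Subtype.ext hx.symm
    rw [this]
    exact hP x.2
  · intro r
    exact ((mem_preimageAlong θ _ _).mp r.2).2
  · intro r
    obtain ⟨x, hx⟩ := hRle r.2
    have hψr : (ψ₀.comp (Subgroup.inclusion hRle)) r = (x : Ω) := by
      rw [← hinv x]
      show ψ₀ _ = ψ₀ _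
      congr 1
      exact Subtype.ext hx.symm
    have h1 := hind x
    show (((MonoidHom.ofInjective hinj).symm ⟨θ ⟨r, _⟩, _⟩ : P') : Ω') = θ ⟨_, _⟩
    have h2 : (⟨θ ⟨r, preimageAlong_le θ _ r.2⟩, ((mem_preimageAlong θ _ _).mp r.2).2⟩ : φ'.range) =
        ⟨φ' ⟨θ ⟨x, hP x.2⟩, hPP' x⟩, ⟨_, rfl⟩⟩ := by
      apply Subtype.ext
      show θ ⟨(r : Ω), _⟩ = φ' _
      rw [h1]
      congr 1
      exact Subtype.ext hx.symm
    rw [h2, hψ'app]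
    show θ ⟨x, _⟩ = θ ⟨_, _⟩
    congr 1
    exact Subtype.ext hψr.symm

/-- The factor system of `F` modulo the strongly closed subgroup `S₀`, read through `θ`. -/
def factorSystem [Finite S] (F : FusionSystem S) (S₀ : Subgroup Ω) (hS₀ : F.StronglyClosed S₀)
    (θ : S →* Ω') (hker : ∀ s : S, θ s = 1 ↔ (s : Ω) ∈ S₀) (S' : Subgroup Ω') (hrange : θ.range = S') :
    FusionSystem S' where
  Hom P' := factorHom F θ S' P'
  le_of_mem h := factorHom_le_of_mem F θ S' hrange h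
  injective_of_mem h := factorHom_injective F S₀ hS₀ θ hker S' hrange h
  conj_mem hP hg := factorHom_conj_mem F θ S' hrange hP hg
  comp_mem hφ hψ h := factorHom_comp_mem F θ S' hφ hψ h
  inv_mem h := factorHom_inv_mem F S₀ hS₀ θ hker S' hrange h

theorem factorSystem_isFactorSystem [Finite S] (F : FusionSystem S) (S₀ : Subgroup Ω) (hS₀ : F.StronglyClosed S₀)
    (θ : S →* Ω') (hker : ∀ s : S, θ s = 1 ↔ (s : Ω) ∈ S₀) (S' : Subgroup Ω') (hrange : θ.range = S') :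
    F.IsFactorSystem S₀ θ (factorSystem F S₀ hS₀ θ hker S' hrange) :=
  ⟨hS₀.1, hker, hrange, fun _ _ => Iff.rfl⟩

theorem exists_factorSystem_quotient [Finite S] (F : FusionSystem S) (S₀ : Subgroup Ω) (hS₀ : F.StronglyClosed S₀)
    [(S₀.subgroupOf S).Normal] :
    ∃ E : FusionSystem (⊤ : Subgroup (S ⧸ S₀.subgroupOf S)),
      F.IsFactorSystem S₀ (QuotientGroup.mk' (S₀.subgroupOf S)) E := by
  have hker : ∀ s : S, QuotientGroup.mk' (S₀.subgroupOf S) s = 1 ↔ (s : Ω) ∈ S₀ := by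
    intro s
    rw [QuotientGroup.mk'_apply, QuotientGroup.eq_one_iff, Subgroup.mem_subgroupOf]
  have hrange : (QuotientGroup.mk' (S₀.subgroupOf S)).range = ⊤ :=
    MonoidHom.range_eq_top.mpr (QuotientGroup.mk'_surjective _)
  exact ⟨_, factorSystem_isFactorSystem F S₀ hS₀ _ hker ⊤ hrange⟩

end Cfsg.Agent.Lib.Helper7
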