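import Mathlib
import Cfsg.Prelude.Def_FusionSystem
import Cfsg.Agent.Lib.Helper7.FusionWeaklyNormal
import Cfsg.Agent.Lib.Helper7.FusionCore2

set_option autoImplicit false

namespace Cfsg.Agent.Lib.Helper7

open Cfsg Cfsg.FusionSystem

variable {Ω : Type*} [Group Ω] {S : Subgroup Ω}

/-- If `T ⊴ F` then the inner system of `T` is a normal subsystem of `F`. -/
theorem inner_isNormalIn_of_isNormal [Finite S] (p : ℕ) [Fact p.Prime] (hS : IsPGroup p S)
    (F : FusionSystem S) (hF : F.IsSaturated p) {T : Subgroup Ω} (hT : F.IsNormal T) :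
    (innerFusionSystem T).IsNormalIn F p := by
  have hTS := hT.1
  refine ⟨(isNormal_iff_inner_weaklyNormal p hS F hF T hTS).mp hT, ?_⟩
  intro α hα
  obtain ⟨t, ht, hαt⟩ := (mem_autInducedBy_iff T T α).mp (autGroup_innerFusionSystem_le le_rfl hα)
  have hle : T ⊔ centralizerIn S T ≤ S := sup_le hTS inf_le_left
  have htT : t ∈ T ⊔ centralizerIn S T := Subgroup.mem_sup_left ht
  refine ⟨MulAut.conj (⟨t, htT⟩ : ↥(T ⊔ centralizerIn S T)), ?_, fun x => ?_, fun c hc => ?_⟩
  · apply autInducedBy_le_autGroup F hle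
    rw [mem_autInducedBy_iff]
    exact ⟨t, hTS ht, fun x => rfl⟩
  · rw [hαt]; rfl
  · show (c : Ω)⁻¹ * (t * c * t⁻¹) ∈ _
    have h1 : t * (c : Ω) = c * t := (Subgroup.mem_centralizer_iff.mp hc.2) t ht
    have : (c : Ω)⁻¹ * (t * c * t⁻¹) = 1 := by rw [h1]; group
    rw [this]; exact Subgroup.one_mem _

theorem simple_abelian_iff [Finite S] (p : ℕ) [Fact p.Prime] (hS : IsPGroup p S)
    (F : FusionSystem S) (hF : F.IsSaturated p) (hab : ∀ x ∈ S, ∀ y ∈ S, x * y = y * x) :
    F.IsSimple p ↔ (Nat.card S = p ∧ ∀ P : Subgroup Ω, F.Hom P = (innerFusionSystem S).Hom P) := by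
  have hp := (Fact.out : p.Prime)
  constructor
  · rintro ⟨-, hne, hsim⟩
    have hScl : F.StronglyClosed S := ⟨le_rfl, fun R _ φ hφ x => (F.le_of_mem hφ).2 x⟩
    have habS : IsMulCommutative S := ⟨⟨fun a b => Subtype.ext (hab a a.2 b b.2)⟩⟩
    have hSn : F.IsNormal S := isNormal_of_abelian_stronglyClosed p hS F hF habS hScl
    have h1 := inner_isNormalIn_of_isNormal p hS F hF hSn
    have hinner : ∀ P : Subgroup Ω, (innerFusionSystem S).Hom P = F.Hom P := by
      rcases hsim S _ h1 with h | ⟨-, h⟩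
      · exact absurd h hne
      · exact h
    refine ⟨?_, fun P => (hinner P).symm⟩
    -- every subgroup is strongly closed, hence normal
    have hall : ∀ T : Subgroup Ω, T ≤ S → T = ⊥ ∨ T = S := by
      intro T hTS
      have hTcl : F.StronglyClosed T := by
        refine ⟨hTS, fun R hRT φ hφ x => ?_⟩
        rw [← hinner R] at hφ
        obtain ⟨hRS, g, hg, hφg⟩ := hφ
        rw [hφg, hab g hg x (hRS x.2)]
        simpa using hRT x.2
      have habT : IsMulCommutative T := ⟨⟨fun a b => Subtype.ext (hab a (hTS a.2) b (hTS b.2))⟩⟩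
      have hTn : F.IsNormal T := isNormal_of_abelian_stronglyClosed p hS F hF habT hTcl
      rcases hsim T _ (inner_isNormalIn_of_isNormal p hS F hF hTn) with h | ⟨h, -⟩
      · exact Or.inl h
      · exact Or.inr h
    obtain ⟨k, hk⟩ := IsPGroup.iff_card.mp hS
    have hk0 : k ≠ 0 := by
      rintro rfl
      rw [pow_zero, Subgroup.card_eq_one] at hk
      exact hne hk
    have hdvd : p ^ 1 ∣ Nat.card S := by
      rw [hk]; exact pow_dvd_pow p (Nat.one_le_iff_ne_zero.mpr hk0)
    obtain ⟨K, hK⟩ := Sylow.exists_subgroup_card_pow_prime (G := ↥S) p hdvd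
    have hKcard : Nat.card (K.map S.subtype) = p := by
      rw [Subgroup.card_map_of_injective S.subtype_injective, hK, pow_one]
    rcases hall (K.map S.subtype) (Subgroup.map_subtype_le K) with h | h
    · rw [h, Subgroup.card_bot] at hKcard
      exact absurd hKcard.symm hp.one_lt.ne'
    · rw [h] at hKcard; exact hKcard
  · rintro ⟨hcard, hinner⟩
    have hne : S ≠ ⊥ := by
      intro h
      rw [h, Subgroup.card_bot] at hcard
      exact hp.one_lt.ne hcard
    refine ⟨hF, hne, fun T E hE => ?_⟩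
    have hTS : T ≤ S := hE.1.2.2.2.1.1
    have hdvd : Nat.card T ∣ p := hcard ▸ Subgroup.card_dvd_of_le hTS
    rcases (Nat.dvd_prime hp).mp hdvd with h1 | h1
    · exact Or.inl (Subgroup.card_eq_one.mp h1)
    · right
      have hTeq : T = S := Subgroup.eq_of_le_of_card_ge hTS (by rw [h1, hcard])
      subst hTeq
      refine ⟨rfl, fun P => Set.Subset.antisymm (hE.1.2.2.1 P) ?_⟩
      rw [hinner P]
      exact innerFusionSystem_le E P

end Cfsg.Agent.Lib.Helper7
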