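import Mathlib
import Cfsg.Prelude.Def_FusionSystem
import Cfsg.Prelude.Def_FusionComponents
import Cfsg.Agent.Lib.Helper7.FactorSystem
import Cfsg.Agent.Lib.Helper7.FusionAbelianSimple
import Cfsg.Agent.Lib.Helper7.Stability
import Cfsg.Agent.Lib.Helper7.FusionExtend
import Cfsg.Agent.Lib.Helper7.FusionCore

set_option autoImplicit false

namespace Cfsg.Agent.Lib.Helper7

open Cfsg Cfsg.FusionSystem

variable {Ω : Type*} [Group Ω] {S : Subgroup Ω} {Ω' : Type*} [Group Ω']

/-- every map of `F` on a full preimage induces a homomorphism along `θ` -/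
theorem exists_inducedAlong (F : FusionSystem S) (S₀ : Subgroup Ω) (hS₀ : F.StronglyClosed S₀)
    (θ : S →* Ω') (hker : ∀ s : S, θ s = 1 ↔ (s : Ω) ∈ S₀) {P' : Subgroup Ω'} (hP' : P' ≤ θ.range)
    {φ : preimageAlong θ P' →* Ω} (hφ : φ ∈ F.Hom (preimageAlong θ P')) :
    ∃ φ' : P' →* Ω', InducedAlong θ φ φ' := by
  have hP := preimageAlong_le θ P'
  have hφS := (F.le_of_mem hφ).2
  have hPP' : ∀ x : preimageAlong θ P', θ ⟨x, hP x.2⟩ ∈ P' := fun x =>
    ((mem_preimageAlong θ P' _).mp x.2).2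
  let π : preimageAlong θ P' →* P' := (θ.comp (Subgroup.inclusion hP)).codRestrict P' hPP'
  have hπ : Function.Surjective π := by
    intro y
    obtain ⟨s, hs, hsy⟩ := exists_preimage_of_mem θ θ.range rfl hP' y y.2
    exact ⟨⟨s, hs⟩, Subtype.ext hsy⟩
  let g : preimageAlong θ P' →* Ω' := θ.comp (φ.codRestrict S hφS)
  have hk : π.ker ≤ g.ker := by
    intro x hx
    rw [MonoidHom.mem_ker] at hx ⊢
    have h1 : θ ⟨x, hP x.2⟩ = 1 := congrArg Subtype.val hx
    have h2 : (x : Ω) ∈ S₀ := (hker _).mp h1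
    have hle : Subgroup.zpowers (x : Ω) ≤ preimageAlong θ P' := Subgroup.zpowers_le.mpr x.2
    have hle0 : Subgroup.zpowers (x : Ω) ≤ S₀ := Subgroup.zpowers_le.mpr h2
    have h3 := hS₀.2 _ hle0 _ (fs_restrict_mem F hle hφ) ⟨x, Subgroup.mem_zpowers _⟩
    exact (hker ⟨φ x, hφS x⟩).mpr h3
  refine ⟨MonoidHom.liftOfRightInverse π (Function.surjInv hπ) (Function.rightInverse_surjInv hπ) ⟨g, hk⟩,
    hP, hφS, hPP', fun x => ?_⟩
  exact MonoidHom.liftOfRightInverse_comp_apply π (Function.surjInv hπ)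
    (Function.rightInverse_surjInv hπ) ⟨g, hk⟩ x

theorem stronglyClosed_of_isCentral (F : FusionSystem S) {Q : Subgroup Ω} (hQ : F.IsCentral Q) :
    F.StronglyClosed Q := by
  refine ⟨hQ.1, fun R hRQ φ hφ x => ?_⟩
  obtain ⟨ψ, hψ, hext, hfix⟩ := hQ.2 R φ hφ
  have h1 := hext x
  have h2 := hfix ⟨x, hRQ x.2⟩
  have e : Subgroup.inclusion (le_sup_left : R ≤ R ⊔ Q) x =
      Subgroup.inclusion le_sup_right (⟨x, hRQ x.2⟩ : Q) := Subtype.ext rfl
  rw [e, h2] at h1
  rw [← h1]
  exact hRQ x.2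

theorem aut_fixes_central (F : FusionSystem S) {Q : Subgroup Ω} (hQ : F.IsCentral Q)
    (α : MulAut S) (hα : α ∈ F.autGroup S) (z : S) (hz : (z : Ω) ∈ Q) : α z = z := by
  have hφ := (mem_autGroup_iff F le_rfl α).mp hα
  obtain ⟨ψ, hψ, hext, hfix⟩ := hQ.2 S _ hφ
  have h1 := hext z
  have h2 := hfix ⟨z, hz⟩
  have e : Subgroup.inclusion (le_sup_left : S ≤ S ⊔ Q) z =
      Subgroup.inclusion le_sup_right (⟨z, hz⟩ : Q) := Subtype.ext rfl
  rw [e, h2] at h1
  exact Subtype.ext h1.symm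

theorem quasisimple_not_abelian [Finite S] (p : ℕ) [Fact p.Prime] (hS : IsPGroup p S)
    (F : FusionSystem S) (hq : F.Quasisimple p) : ¬ IsMulCommutative S := by
  intro hab
  obtain ⟨hF, hhyp, hsimp⟩ := hq
  have hcomm : ∀ a b : S, a * b = b * a := fun a b => hab.is_comm.comm a b
  have hZc : F.IsCentral F.center := isCentral_center F
  have hZ : F.StronglyClosed F.center := stronglyClosed_of_isCentral F hZc
  set θ := QuotientGroup.mk' ((F.center).subgroupOf S) with hθ
  have hker : ∀ s : S, θ s = 1 ↔ (s : Ω) ∈ F.center := by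
    intro s
    rw [hθ, QuotientGroup.mk'_apply, QuotientGroup.eq_one_iff, Subgroup.mem_subgroupOf]
  have hrange : θ.range = ⊤ := MonoidHom.range_eq_top.mpr (QuotientGroup.mk'_surjective _)
  have hEf := factorSystem_isFactorSystem F F.center hZ θ hker ⊤ hrange
  set E := factorSystem F F.center hZ θ hker ⊤ hrange with hE
  have hEs : E.IsSimple p := hsimp E hEf
  -- the quotient is an abelian p-group
  have hQp : IsPGroup p (S ⧸ (F.center).subgroupOf S) := hS.to_quotient _
  have hTp : IsPGroup p (⊤ : Subgroup (S ⧸ (F.center).subgroupOf S)) := hQp.to_subgroup ⊤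
  have hQab : ∀ x ∈ (⊤ : Subgroup (S ⧸ (F.center).subgroupOf S)), ∀ y ∈ (⊤ : Subgroup (S ⧸ (F.center).subgroupOf S)),
      x * y = y * x := by
    intro x _ y _
    obtain ⟨a, rfl⟩ := QuotientGroup.mk_surjective x
    obtain ⟨b, rfl⟩ := QuotientGroup.mk_surjective y
    rw [← QuotientGroup.mk_mul, ← QuotientGroup.mk_mul, hcomm]
  obtain ⟨-, hinner⟩ := (simple_abelian_iff p hTp E hEs.1 hQab).mp hEs
  have hne : (⊤ : Subgroup (S ⧸ (F.center).subgroupOf S)) ≠ ⊥ := hEs.2.1
  -- every automorphism of `S` in `F` is trivial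
  have hA : ∀ α ∈ F.autGroup S, α = 1 := by
    intro α hα
    have hfixZ : ∀ z : S, (z : Ω) ∈ F.center → α z = z := aut_fixes_central F hZc α hα
    have hmod : ∀ s : S, ((s⁻¹ * α s : S) : Ω) ∈ F.center := by
      intro s
      have hP := preimageAlong_le θ (⊤ : Subgroup (S ⧸ (F.center).subgroupOf S))
      have hφ := fs_restrict_mem F hP ((mem_autGroup_iff F le_rfl α).mp hα)
      obtain ⟨φ', hind⟩ := exists_inducedAlong F F.center hZ θ hker (by rw [hrange]) hφ
      have hφ'E : φ' ∈ E.Hom ⊤ := (hEf.2.2.2 ⊤ φ').mpr ⟨le_rfl, _, hφ, hind⟩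
      rw [hinner] at hφ'E
      obtain ⟨-, g, -, hg⟩ := hφ'E
      obtain ⟨hP₁, hφS, hPP', hi⟩ := hind
      have hsP : (s : Ω) ∈ preimageAlong θ (⊤ : Subgroup (S ⧸ (F.center).subgroupOf S)) :=
        (mem_preimageAlong θ _ _).mpr ⟨s.2, Subgroup.mem_top _⟩
      have h1 := hi ⟨s, hsP⟩
      rw [hg, hQab g (Subgroup.mem_top _) _ (Subgroup.mem_top _), mul_inv_cancel_right] at h1
      have h2 : θ s = θ (α s) := h1
      rw [hθ, QuotientGroup.mk'_apply, QuotientGroup.mk'_apply, QuotientGroup.eq] at h2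
      exact Subgroup.mem_subgroupOf.mp h2
    -- the chain `1 ≤ Z ≤ S`
    let C : ℕ → Subgroup S := fun i => match i with
      | 0 => ⊥
      | 1 => (F.center).subgroupOf S
      | _ + 2 => ⊤
    have hAC : ∀ i, ∀ β ∈ F.autGroup S, ∀ x ∈ C i, β x ∈ C i := by
      intro i β hβ x hx
      match i with
      | 0 =>
        have : x = 1 := hx
        rw [this, map_one]; exact Subgroup.one_mem _
      | 1 =>
        have hx' : (x : Ω) ∈ F.center := Subgroup.mem_subgroupOf.mp hx
        rw [aut_fixes_central F hZc β hβ x hx']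
        exact hx
      | _ + 2 => exact Subgroup.mem_top _
    have hmem : α ∈ stabChain (F.autGroup S) C 2 hAC := by
      refine ⟨hα, fun i hi x hx => ?_⟩
      match i, hi with
      | 0, _ =>
        have hx' : (x : Ω) ∈ F.center := Subgroup.mem_subgroupOf.mp hx
        rw [hfixZ x hx', inv_mul_cancel]
        exact Subgroup.one_mem _
      | 1, _ => exact Subgroup.mem_subgroupOf.mpr (hmod x)
    have hPG := isPGroup_stabChain hS (F.autGroup S) C 2 hAC rfl rfl
    obtain ⟨k, hk⟩ := hPG ⟨α, hmem⟩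
    have hk' : α ^ (p ^ k) = 1 := congrArg Subtype.val hk
    -- `Aut_F(S)` is a `p'`-group
    obtain ⟨-, R, hR⟩ := isFullyAutomized_top_of_isSaturated p hS F hF
    have hbot : autInducedBy S S = ⊥ := by
      rw [eq_bot_iff]
      intro β hβ
      obtain ⟨g, hg, hgβ⟩ := (mem_autInducedBy_iff S S β).mp hβ
      rw [Subgroup.mem_bot]
      ext x
      rw [hgβ x]
      have := congrArg Subtype.val (hcomm ⟨g, hg⟩ x)
      show g * x * g⁻¹ = x
      have h' : g * (x : Ω) = x * g := this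
      rw [h', mul_inv_cancel_right]
    have hRbot : (R : Subgroup (F.autGroup S)) = ⊥ := by
      rw [hR, hbot]
      exact Subgroup.bot_subgroupOf _
    have hnd : ¬ p ∣ Nat.card (F.autGroup S) := by
      have := R.not_dvd_index
      rwa [hRbot, Subgroup.index_bot] at this
    have hcard : α ^ Nat.card (F.autGroup S) = 1 := by
      have : (⟨α, hα⟩ : F.autGroup S) ^ Nat.card (F.autGroup S) = 1 := pow_card_eq_one'
      exact congrArg Subtype.val this
    have hcop : Nat.Coprime (p ^ k) (Nat.card (F.autGroup S)) :=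
      Nat.Coprime.pow_left _ ((Nat.Prime.coprime_iff_not_dvd Fact.out).mpr hnd)
    have hd := Nat.dvd_gcd (orderOf_dvd_of_pow_eq_one hk') (orderOf_dvd_of_pow_eq_one hcard)
    rw [hcop.gcd_eq_one, Nat.dvd_one] at hd
    exact orderOf_eq_one_iff.mp hd
  -- so the hyperfocal subgroup is trivial
  have hScl : F.StronglyClosed S := ⟨le_rfl, fun R _ φ hφ x => (F.le_of_mem hφ).2 x⟩
  have hSn : F.IsNormal S := isNormal_of_abelian_stronglyClosed p hS F hF hab hScl
  have hhypbot : F.hyperfocalSubgroup p = ⊥ := by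
    rw [eq_bot_iff]
    unfold FusionSystem.hyperfocalSubgroup
    rw [Subgroup.closure_le]
    rintro _ ⟨P, α, x, hPS, -, rfl⟩
    have hφ := (mem_autGroup_iff F hPS (α : MulAut P)).mp α.2
    obtain ⟨β, hβ, hβφ⟩ := (isNormal_iff_extend p hS F hF S le_rfl).mp hSn P hPS _ hφ
    have h1 := hβφ x
    rw [hA β hβ] at h1
    have h2 : (x : Ω) = (((α : MulAut P) x : P) : Ω) := h1
    rw [← h2, inv_mul_cancel]
    exact Subgroup.one_mem _
  rw [hhypbot] at hhyp
  apply hne
  haveI : Subsingleton S := ⟨fun a b => by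
    have ha : (a : Ω) ∈ (⊥ : Subgroup Ω) := hhyp ▸ a.2
    have hb : (b : Ω) ∈ (⊥ : Subgroup Ω) := hhyp ▸ b.2
    exact Subtype.ext ((Subgroup.mem_bot.mp ha).trans (Subgroup.mem_bot.mp hb).symm)⟩
  haveI : Subsingleton (S ⧸ (F.center).subgroupOf S) := Quotient.instSubsingletonQuotient _
  exact Subsingleton.elim _ _

end Cfsg.Agent.Lib.Helper7
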