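import Mathlib
import Cfsg.Prelude.Def_FusionSystem
import Cfsg.Prelude.Def_FusionComponents
import Cfsg.Agent.Lib.Helper7.FactorSystem
import Cfsg.Agent.Lib.Helper7.FusionQuasisimple
import Cfsg.Agent.Lib.Helper7.Alperin5
import Cfsg.Agent.Lib.Helper7.SylowLib
import Cfsg.Agent.Lib.Helper7.PReduced8
import Cfsg.Agent.Lib.Helper7.FusionCore2
import Cfsg.Agent.Lib.Helper7.FusionNormal
import Cfsg.Agent.Lib.Lead.Conj

set_option autoImplicit false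

namespace Cfsg.Agent.Lib.Helper7

open Cfsg Cfsg.FusionSystem

variable {Ω : Type*} [Group Ω] {S : Subgroup Ω} {Ω' : Type*} [Group Ω'] {S' : Subgroup Ω'}

theorem mem_imageAlong (θ : S →* Ω') (P : Subgroup Ω) (y : Ω') :
    y ∈ imageAlong θ P ↔ ∃ s : S, (s : Ω) ∈ P ∧ θ s = y := by
  unfold imageAlong
  constructor
  · rintro ⟨s, hs, rfl⟩
    exact ⟨s, Subgroup.mem_subgroupOf.mp hs, rfl⟩
  · rintro ⟨s, hs, rfl⟩
    exact ⟨s, Subgroup.mem_subgroupOf.mpr hs, rfl⟩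

theorem imageAlong_le (θ : S →* Ω') (hθ : ∀ s : S, θ s ∈ S') (P : Subgroup Ω) : imageAlong θ P ≤ S' := by
  intro y hy
  obtain ⟨s, -, rfl⟩ := (mem_imageAlong θ P y).mp hy
  exact hθ s

/-- The maps of `F` that induce a map of `E` along `θ`. -/
def morHom (F : FusionSystem S) (E : FusionSystem S') (θ : S →* Ω') (P : Subgroup Ω) : Set (P →* Ω) :=
  {φ | φ ∈ F.Hom P ∧ ∃ φ' ∈ E.Hom (imageAlong θ P), InducedAlong θ φ φ'}

theorem morHom_conj_mem (F : FusionSystem S) (E : FusionSystem S') (θ : S →* Ω') (hθ : ∀ s : S, θ s ∈ S')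
    {P : Subgroup Ω} {g : Ω} (hP : P ≤ S) (hg : g ∈ S) : conjHom P g ∈ morHom F E θ P := by
  refine ⟨F.conj_mem hP hg, conjHom _ (θ ⟨g, hg⟩), E.conj_mem (imageAlong_le θ hθ P) (hθ _), hP, ?_, ?_, ?_⟩
  · intro x
    exact S.mul_mem (S.mul_mem hg (hP x.2)) (S.inv_mem hg)
  · intro x
    exact (mem_imageAlong θ P _).mpr ⟨⟨x, hP x.2⟩, x.2, rfl⟩
  · intro x
    show θ ⟨g, hg⟩ * θ ⟨x, _⟩ * (θ ⟨g, hg⟩)⁻¹ = θ ⟨g * x * g⁻¹, _⟩
    rw [← map_inv, ← map_mul, ← map_mul]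
    rfl

theorem morHom_comp_mem (F : FusionSystem S) (E : FusionSystem S') (θ : S →* Ω')
    {P Q : Subgroup Ω} {φ : P →* Ω} {ψ : Q →* Ω} (hφ : φ ∈ morHom F E θ P) (hψ : ψ ∈ morHom F E θ Q)
    (h : ∀ x : P, φ x ∈ Q) : ψ.comp (φ.codRestrict Q h) ∈ morHom F E θ P := by
  obtain ⟨hφF, φ', hφ', hP, hφS, hPP', hind⟩ := hφ
  obtain ⟨hψF, ψ', hψ', hQ, hψS, hQQ', hindψ⟩ := hψ
  have h' : ∀ y : imageAlong θ P, φ' y ∈ imageAlong θ Q := by
    intro y
    obtain ⟨s, hs, hsy⟩ := (mem_imageAlong θ P y).mp y.2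
    have h1 := hind ⟨s, hs⟩
    have e : y = ⟨θ ⟨((⟨s, hs⟩ : P) : Ω), hP hs⟩, hPP' ⟨s, hs⟩⟩ := Subtype.ext hsy.symm
    rw [e, h1]
    exact (mem_imageAlong θ Q _).mpr ⟨_, h ⟨s, hs⟩, rfl⟩
  refine ⟨F.comp_mem hφF hψF h, ψ'.comp (φ'.codRestrict _ h'), E.comp_mem hφ' hψ' h', hP,
    fun x => hψS _, hPP', ?_⟩
  intro x
  show ψ' ⟨φ' ⟨θ ⟨x, _⟩, _⟩, _⟩ = θ ⟨ψ ⟨φ x, _⟩, _⟩
  rw [← hindψ ⟨φ x, h x⟩]
  congr 1
  apply Subtype.ext
  exact hind x

theorem morHom_inv_mem (F : FusionSystem S) (E : FusionSystem S') (θ : S →* Ω')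
    {P : Subgroup Ω} {φ : P →* Ω} (hφ : φ ∈ morHom F E θ P) :
    ∃ ψ ∈ morHom F E θ φ.range, ∀ x : P, ψ ⟨φ x, ⟨x, rfl⟩⟩ = (x : Ω) := by
  obtain ⟨hφF, φ', hφ', hP, hφS, hPP', hind⟩ := hφ
  obtain ⟨ψ, hψ, hinv⟩ := F.inv_mem hφF
  obtain ⟨χ, hχ, hχinv⟩ := E.inv_mem hφ'
  have hrS : φ.range ≤ S := by
    rintro _ ⟨x, rfl⟩
    exact hφS x
  have hle : imageAlong θ φ.range ≤ φ'.range := by
    intro y hy
    obtain ⟨s, ⟨x, hx⟩, rfl⟩ := (mem_imageAlong θ _ y).mp hy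
    refine ⟨⟨θ ⟨x, hP x.2⟩, hPP' x⟩, ?_⟩
    rw [hind x]
    congr 1
    exact Subtype.ext hx
  refine ⟨ψ, ⟨hψ, χ.comp (Subgroup.inclusion hle), fs_restrict_mem E hle hχ, hrS, (F.le_of_mem hψ).2,
    fun r => (mem_imageAlong θ _ _).mpr ⟨⟨r, hrS r.2⟩, r.2, rfl⟩, ?_⟩, hinv⟩
  intro r
  obtain ⟨x, hx⟩ := r.2
  have hr : r = ⟨φ x, ⟨x, rfl⟩⟩ := Subtype.ext hx.symm
  show χ ⟨θ ⟨(r : Ω), _⟩, _⟩ = θ ⟨ψ r, _⟩
  have h1 : θ ⟨ψ r, (F.le_of_mem hψ).2 r⟩ = θ ⟨x, hP x.2⟩ := by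
    congr 1
    apply Subtype.ext
    show ψ r = x
    rw [hr]; exact hinv x
  rw [h1]
  have h2 : χ ⟨φ' ⟨θ ⟨x, hP x.2⟩, hPP' x⟩, ⟨_, rfl⟩⟩ = θ ⟨x, hP x.2⟩ := hχinv ⟨θ ⟨x, hP x.2⟩, hPP' x⟩
  rw [← h2]
  congr 1
  apply Subtype.ext
  show θ ⟨(r : Ω), _⟩ = φ' _
  rw [hind x]
  congr 1
  exact Subtype.ext hx.symm

/-- The subsystem of `F` of the maps inducing maps of `E` along `θ`. -/
def morSystem (F : FusionSystem S) (E : FusionSystem S') (θ : S →* Ω') (hθ : ∀ s : S, θ s ∈ S') :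
    FusionSystem S where
  Hom P := morHom F E θ P
  le_of_mem h := F.le_of_mem h.1
  injective_of_mem h := F.injective_of_mem h.1
  conj_mem hP hg := morHom_conj_mem F E θ hθ hP hg
  comp_mem hφ hψ h := morHom_comp_mem F E θ hφ hψ h
  inv_mem h := morHom_inv_mem F E θ h

theorem le_preimage_image (θ : S →* Ω') {P : Subgroup Ω} (hP : P ≤ S) :
    P ≤ preimageAlong θ (imageAlong θ P) := by
  intro x hx
  exact (mem_preimageAlong θ _ x).mpr ⟨hP hx, (mem_imageAlong θ P _).mpr ⟨⟨x, hP hx⟩, hx, rfl⟩⟩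

/-- a map of `F` that agrees modulo `S₀` with a map defined on the full preimage induces a map of `E` -/
theorem mem_morHom_of_mod (F : FusionSystem S) (S₀ : Subgroup Ω) (hS₀ : F.StronglyClosed S₀)
    (θ : S →* Ω') (E : FusionSystem S') (hE : F.IsFactorSystem S₀ θ E) (hθ : ∀ s : S, θ s ∈ S')
    {P : Subgroup Ω} {φ : P →* Ω} (hφ : φ ∈ F.Hom P)
    {ψ : preimageAlong θ (imageAlong θ P) →* Ω} (hψ : ψ ∈ F.Hom (preimageAlong θ (imageAlong θ P)))
    (hmod : ∀ (x : P) (hx : (x : Ω) ∈ preimageAlong θ (imageAlong θ P)), (φ x)⁻¹ * ψ ⟨x, hx⟩ ∈ S₀) :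
    φ ∈ morHom F E θ P := by
  obtain ⟨-, hker, hrange, hHom⟩ := hE
  have hP := (F.le_of_mem hφ).1
  have hφS := (F.le_of_mem hφ).2
  have hP'r : imageAlong θ P ≤ θ.range := by
    intro y hy
    obtain ⟨s, -, rfl⟩ := (mem_imageAlong θ P y).mp hy
    exact ⟨s, rfl⟩
  obtain ⟨φ', hind⟩ := exists_inducedAlong F S₀ hS₀ θ hker hP'r hψ
  have hφ'E : φ' ∈ E.Hom (imageAlong θ P) := (hHom _ φ').mpr ⟨imageAlong_le θ hθ P, ψ, hψ, hind⟩
  obtain ⟨hP₁, hψS, hP₁', hi⟩ := hind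
  refine ⟨hφ, φ', hφ'E, hP, hφS, fun x => (mem_imageAlong θ P _).mpr ⟨⟨x, hP x.2⟩, x.2, rfl⟩, fun x => ?_⟩
  have hx := le_preimage_image θ hP x.2
  have h1 := hi ⟨x, hx⟩
  have h2 : θ (⟨φ x, hφS x⟩⁻¹ * ⟨ψ ⟨x, hx⟩, hψS _⟩) = 1 := (hker _).mpr (hmod x hx)
  rw [map_mul, map_inv, inv_mul_eq_one] at h2
  rw [h2]
  exact h1

theorem le_morSystem [Finite S] (p : ℕ) [Fact p.Prime] (hS : IsPGroup p S)
    (F : FusionSystem S) (hF : F.IsSaturated p) (S₀ : Subgroup Ω) (hS₀ : F.StronglyClosed S₀)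
    (θ : S →* Ω') (E : FusionSystem S') (hE : F.IsFactorSystem S₀ θ E) (hθ : ∀ s : S, θ s ∈ S') :
    F ≤ morSystem F E θ hθ := by
  have hker := hE.2.1
  have hNS₀ := le_normalizer_of_stronglyClosed F hS₀
  apply alperin_goldschmidt_strong p hS F hF
  intro P hP ih α hα
  have hPS : P ≤ S := by
    rcases hP with rfl | hess
    · exact le_rfl
    · exact hess.1.1
  haveI := finite_of_le hPS
  haveI : Finite (MulAut P) := inferInstance
  have hφ := (mem_autGroup_iff F hPS α).mp hα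
  apply (mem_autGroup_iff (morSystem F E θ hθ) hPS α).mpr
  show _ ∈ morHom F E θ P
  set Ph := preimageAlong θ (imageAlong θ P) with hPh
  have hPhS : Ph ≤ S := preimageAlong_le θ _
  have hPPh : P ≤ Ph := le_preimage_image θ hPS
  by_cases hle : Ph ≤ P
  · -- the preimage is `P` itself
    apply mem_morHom_of_mod F S₀ hS₀ θ E hE hθ hφ (fs_restrict_mem F hle hφ)
    intro x hx
    have : ((P.subtype.comp α.toMonoidHom).comp (Subgroup.inclusion hle)) ⟨x, hx⟩ =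
        (P.subtype.comp α.toMonoidHom) x := by
      show (P.subtype.comp α.toMonoidHom) _ = _
      congr 1
    rw [this, inv_mul_cancel]
    exact S₀.one_mem
  · -- `P` is essential and `S₀ ≰ P`
    have hne : P ≠ S := by
      rintro rfl
      exact hle hPhS
    have hess : F.IsEssential p P := by
      rcases hP with h | h
      · exact absurd h hne
      · exact h
    obtain ⟨hcen, hFN, -⟩ := hess
    obtain ⟨R, hcR, hFAR, hRecR⟩ := hF P hPS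
    obtain ⟨hFA, hRec⟩ := isFullyAutomized_isReceptive_of_isFullyNormalized p hS F hFN hFAR hRecR hcR
    -- an element of `N_{S₀}(P)` outside `P`
    haveI : Finite Ph := finite_of_le hPhS
    obtain ⟨g, hgN, hgP⟩ := lt_normalizerIn_of_ne (hS.to_le hPhS) hPPh (fun h => hle h.ge)
    obtain ⟨hgS, y, hyP, hy⟩ :=
      (mem_preimageAlong θ _ g).mp hgN.1 |>.imp fun h1 h2 => (mem_imageAlong θ P _).mp h2
    have hs0 : (y : Ω)⁻¹ * g ∈ S₀ := by
      have : θ (y⁻¹ * ⟨g, hgS⟩) = 1 := by rw [map_mul, map_inv, hy, inv_mul_cancel]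
      exact (hker _).mp this
    have hsN : (y : Ω)⁻¹ * g ∈ Subgroup.normalizer (P : Set Ω) :=
      Subgroup.mul_mem _ (Subgroup.inv_mem _ (Subgroup.le_normalizer hyP)) hgN.2
    have hsP : (y : Ω)⁻¹ * g ∉ P := by
      intro h
      apply hgP
      have := P.mul_mem hyP h
      simpa using this
    set s := (y : Ω)⁻¹ * g with hs
    have hsS : s ∈ S := hS₀.1 hs0
    -- the groups `A`, `T`, `K`
    have hcl : ∀ β ∈ F.autGroup P, ∀ z : P, (z : Ω) ∈ S₀ → ((β z : P) : Ω) ∈ S₀ := by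
      intro β hβ z hz
      have hle1 : Subgroup.zpowers (z : Ω) ≤ P := Subgroup.zpowers_le.mpr z.2
      have hle0 : Subgroup.zpowers (z : Ω) ≤ S₀ := Subgroup.zpowers_le.mpr hz
      exact hS₀.2 _ hle0 _ (fs_restrict_mem F hle1 ((mem_autGroup_iff F hPS β).mp hβ))
        ⟨z, Subgroup.mem_zpowers _⟩
    let K : Subgroup (MulAut P) :=
      { carrier := {β | β ∈ F.autGroup P ∧ ∀ x : P, (x : Ω)⁻¹ * ((β x : P) : Ω) ∈ S₀}
        one_mem' := ⟨Subgroup.one_mem _, fun x => by simp⟩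
        mul_mem' := by
          rintro a b ⟨ha, ha'⟩ ⟨hb, hb'⟩
          refine ⟨Subgroup.mul_mem _ ha hb, fun x => ?_⟩
          have e : (x : Ω)⁻¹ * (((a * b) x : P) : Ω) =
              ((x : Ω)⁻¹ * ((b x : P) : Ω)) * (((b x : P) : Ω)⁻¹ * ((a (b x) : P) : Ω)) := by
            rw [MulAut.mul_apply]; group
          rw [e]
          exact S₀.mul_mem (hb' x) (ha' (b x))
        inv_mem' := by
          rintro a ⟨ha, ha'⟩
          refine ⟨Subgroup.inv_mem _ ha, fun x => ?_⟩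
          have h1 := ha' (a⁻¹ x)
          rw [MulAut.apply_inv_self] at h1
          have e : (x : Ω)⁻¹ * ((a⁻¹ x : P) : Ω) = (((a⁻¹ x : P) : Ω)⁻¹ * (x : Ω))⁻¹ := by group
          rw [e]
          exact S₀.inv_mem h1 }
    have hKA : K ≤ F.autGroup P := fun β hβ => hβ.1
    have hKn : F.autGroup P ≤ Subgroup.normalizer (K : Set (MulAut P)) := by
      intro γ hγ
      apply Cfsg.Agent.Lib.Lead.Conj.mem_normalizer_of_conj_mem
      rintro β ⟨hβ, hβ'⟩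
      refine ⟨Subgroup.mul_mem _ (Subgroup.mul_mem _ hγ hβ) (Subgroup.inv_mem _ hγ), fun x => ?_⟩
      have h1 := hcl γ hγ ((γ⁻¹ x)⁻¹ * β (γ⁻¹ x)) (hβ' (γ⁻¹ x))
      rw [map_mul, map_inv, MulAut.apply_inv_self] at h1
      exact h1
    have hT : IsSylowIn p (autInducedBy S P) (F.autGroup P) :=
      (isSylowIn_iff_exists_sylow (autInducedBy_le_autGroup F hPS)).mpr hFA.2
    have hTK := hT.inf_normal K hKA hKn
    have hfr := hTK.frattini hKA hKn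
    -- the element `t`
    have htT : P.normalizerMonoidHom ⟨s, hsN⟩ ∈ autInducedBy S P :=
      (mem_autInducedBy_iff S P _).mpr ⟨s, hsS, fun x => rfl⟩
    have htK : P.normalizerMonoidHom ⟨s, hsN⟩ ∈ K := by
      refine ⟨autInducedBy_le_autGroup F hPS htT, fun x => ?_⟩
      show (x : Ω)⁻¹ * (s * x * s⁻¹) ∈ S₀
      have h1 : (x : Ω)⁻¹ * s * ((x : Ω)⁻¹)⁻¹ ∈ S₀ :=
        (Subgroup.mem_normalizer_iff.mp (hNS₀ (S.inv_mem (hPS x.2))) s).mp hs0
      have e : (x : Ω)⁻¹ * (s * x * s⁻¹) = ((x : Ω)⁻¹ * s * ((x : Ω)⁻¹)⁻¹) * s⁻¹ := by group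
      rw [e]
      exact S₀.mul_mem h1 (S₀.inv_mem hs0)
    have htI : P.normalizerMonoidHom ⟨s, hsN⟩ ∉ Inn P := fun h =>
      hsP (mem_of_normalizerMonoidHom_mem_inn (hcen.2 P (isConj_refl F hPS)) hPS hsS hsN h)
    -- both parts lie in the automorphism group of the morphism system
    have hsub : (F.autGroup P ⊓ Subgroup.normalizer ((autInducedBy S P ⊓ K : Subgroup (MulAut P)) : Set (MulAut P))) ⊔ K ≤
        (morSystem F E θ hθ).autGroup P := by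
      apply sup_le
      · rintro γ ⟨hγA, hγN⟩
        have hconj : γ * P.normalizerMonoidHom ⟨s, hsN⟩ * γ⁻¹ ∈ autInducedBy S P :=
          ((Subgroup.mem_normalizer_iff.mp hγN _).mp ⟨htT, htK⟩).1
        obtain ⟨N, hPN, ψ, hψ, hψγ⟩ := mem_extGen_of_conj F hRec γ hγA _ htT htI hconj
        haveI : Finite N := finite_of_le (F.le_of_mem hψ).1
        have hcard : Nat.card P < Nat.card N := by
          by_contra hge
          push Not at hge
          exact hPN.ne (Subgroup.eq_of_le_of_card_ge hPN.le hge)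
        have h1 := ih N ψ hψ hcard
        have h2 := fs_restrict_mem (morSystem F E θ hθ) hPN.le h1
        apply (mem_autGroup_iff (morSystem F E θ hθ) hPS γ).mpr
        convert h2 using 1
        ext x
        exact (hψγ x).symm
      · rintro κ ⟨hκA, hκ⟩
        apply (mem_autGroup_iff (morSystem F E θ hθ) hPS κ).mpr
        show _ ∈ morHom F E θ P
        apply mem_morHom_of_mod F S₀ hS₀ θ E hE hθ ((mem_autGroup_iff F hPS κ).mp hκA)
          (fs_subtype_mem F hPhS)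
        intro x hx
        show (((κ x : P) : Ω))⁻¹ * (x : Ω) ∈ S₀
        have e : (((κ x : P) : Ω))⁻¹ * (x : Ω) = ((x : Ω)⁻¹ * ((κ x : P) : Ω))⁻¹ := by group
        rw [e]
        exact S₀.inv_mem (hκ x)
    exact (mem_autGroup_iff (morSystem F E θ hθ) hPS α).mp (hsub (hfr hα))

theorem factor_map_surjective_morphism [Finite S] (p : ℕ) [Fact p.Prime] (hS : IsPGroup p S)
    (F : FusionSystem S) (hF : F.IsSaturated p) (S₀ : Subgroup Ω) (hS₀ : F.StronglyClosed S₀)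
    (θ : S →* Ω') (E : FusionSystem S') (hE : F.IsFactorSystem S₀ θ E) : F.IsSurjectiveMorphism E θ := by
  have hθ : ∀ s : S, θ s ∈ S' := by
    intro s
    rw [← hE.2.2.1]
    exact ⟨s, rfl⟩
  refine ⟨⟨hθ, fun P φ hφ => ?_⟩, hE.2.2.1, fun P' _ φ' hφ' => ((hE.2.2.2 P' φ').mp hφ').2⟩
  exact (le_morSystem p hS F hF S₀ hS₀ θ E hE hθ P hφ).2

end Cfsg.Agent.Lib.Helper7
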