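import Mathlib
import Cfsg.Prelude.Def_FusionSystem
import Cfsg.Prelude.Def_FusionComponents
import Cfsg.Agent.Lib.Helper7.FactorMorphism

set_option autoImplicit false

namespace Cfsg.Agent.Lib.Helper7

open Cfsg Cfsg.FusionSystem

variable {Ω : Type*} [Group Ω] {S : Subgroup Ω} {Ω' : Type*} [Group Ω']

/-- the surjection `Q → θ(Q)` -/
def imageHom (θ : S →* Ω') {Q : Subgroup Ω} (hQ : Q ≤ S) : Q →* imageAlong θ Q :=
  (θ.comp (Subgroup.inclusion hQ)).codRestrict _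
    (fun x => (mem_imageAlong θ Q _).mpr ⟨⟨x, hQ x.2⟩, x.2, rfl⟩)

theorem imageHom_coe (θ : S →* Ω') {Q : Subgroup Ω} (hQ : Q ≤ S) (x : Q) :
    (imageHom θ hQ x : Ω') = θ ⟨x, hQ x.2⟩ := rfl

theorem imageHom_surjective (θ : S →* Ω') {Q : Subgroup Ω} (hQ : Q ≤ S) :
    Function.Surjective (imageHom θ hQ) := by
  intro y
  obtain ⟨s, hs, hsy⟩ := (mem_imageAlong θ Q y).mp y.2
  exact ⟨⟨s, hs⟩, Subtype.ext hsy⟩

/-- `β'` is the automorphism of `θ(Q)` induced by the automorphism `β` of `Q` -/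
def IndAut (θ : S →* Ω') {Q : Subgroup Ω} (hQ : Q ≤ S) (β : MulAut Q) (β' : MulAut (imageAlong θ Q)) : Prop :=
  ∀ x : Q, β' (imageHom θ hQ x) = imageHom θ hQ (β x)

theorem IndAut.unique {θ : S →* Ω'} {Q : Subgroup Ω} {hQ : Q ≤ S} {β : MulAut Q}
    {β₁ β₂ : MulAut (imageAlong θ Q)} (h₁ : IndAut θ hQ β β₁) (h₂ : IndAut θ hQ β β₂) : β₁ = β₂ := by
  ext y
  obtain ⟨x, rfl⟩ := imageHom_surjective θ hQ y
  rw [h₁ x, h₂ x]

theorem IndAut.one {θ : S →* Ω'} {Q : Subgroup Ω} {hQ : Q ≤ S} : IndAut θ hQ (1 : MulAut Q) 1 :=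
  fun _ => rfl

theorem IndAut.mul {θ : S →* Ω'} {Q : Subgroup Ω} {hQ : Q ≤ S} {β₁ β₂ : MulAut Q}
    {β₁' β₂' : MulAut (imageAlong θ Q)} (h₁ : IndAut θ hQ β₁ β₁') (h₂ : IndAut θ hQ β₂ β₂') :
    IndAut θ hQ (β₁ * β₂) (β₁' * β₂') := by
  intro x
  rw [MulAut.mul_apply, MulAut.mul_apply, h₂ x, h₁ (β₂ x)]

theorem IndAut.inv {θ : S →* Ω'} {Q : Subgroup Ω} {hQ : Q ≤ S} {β : MulAut Q}
    {β' : MulAut (imageAlong θ Q)} (h : IndAut θ hQ β β') : IndAut θ hQ β⁻¹ β'⁻¹ := by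
  intro x
  have := h (β⁻¹ x)
  rw [MulAut.apply_inv_self] at this
  rw [← this, MulAut.inv_apply_self]

theorem exists_indAut (θ : S →* Ω') {Q : Subgroup Ω} (hQ : Q ≤ S) (β : MulAut Q)
    (hβ : ∀ x : Q, imageHom θ hQ x = 1 → imageHom θ hQ (β x) = 1)
    (hβ' : ∀ x : Q, imageHom θ hQ x = 1 → imageHom θ hQ (β⁻¹ x) = 1) :
    ∃ β' : MulAut (imageAlong θ Q), IndAut θ hQ β β' := by
  set π := imageHom θ hQ with hπdef
  have hπ := imageHom_surjective θ hQ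
  have hk1 : π.ker ≤ (π.comp β.toMonoidHom).ker := by
    intro x hx
    rw [MonoidHom.mem_ker] at hx ⊢
    exact hβ x hx
  have hk2 : π.ker ≤ (π.comp (β⁻¹).toMonoidHom).ker := by
    intro x hx
    rw [MonoidHom.mem_ker] at hx ⊢
    exact hβ' x hx
  let f := MonoidHom.liftOfRightInverse π (Function.surjInv hπ) (Function.rightInverse_surjInv hπ)
    ⟨π.comp β.toMonoidHom, hk1⟩
  let g := MonoidHom.liftOfRightInverse π (Function.surjInv hπ) (Function.rightInverse_surjInv hπ)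
    ⟨π.comp (β⁻¹).toMonoidHom, hk2⟩
  have hf : ∀ x, f (π x) = π (β x) := fun x =>
    MonoidHom.liftOfRightInverse_comp_apply π (Function.surjInv hπ) (Function.rightInverse_surjInv hπ)
      ⟨π.comp β.toMonoidHom, hk1⟩ x
  have hg : ∀ x, g (π x) = π (β⁻¹ x) := fun x =>
    MonoidHom.liftOfRightInverse_comp_apply π (Function.surjInv hπ) (Function.rightInverse_surjInv hπ)
      ⟨π.comp (β⁻¹).toMonoidHom, hk2⟩ x
  refine ⟨MulEquiv.mk' ⟨f, g, ?_, ?_⟩ (map_mul f), hf⟩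
  · intro y
    obtain ⟨x, rfl⟩ := hπ y
    rw [hf, hg, MulAut.inv_apply_self]
  · intro y
    obtain ⟨x, rfl⟩ := hπ y
    rw [hg, hf, MulAut.apply_inv_self]

/-- the homomorphism `A → Aut(θ(Q))` for a group `A` of automorphisms of `Q` preserving the kernel -/
noncomputable def indHom (θ : S →* Ω') {Q : Subgroup Ω} (hQ : Q ≤ S) (A : Subgroup (MulAut Q))
    (hA : ∀ β ∈ A, ∀ x : Q, imageHom θ hQ x = 1 → imageHom θ hQ (β x) = 1) :
    A →* MulAut (imageAlong θ Q) :=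
  MonoidHom.mk' (fun β => Classical.choose
      (exists_indAut θ hQ (β : MulAut Q) (hA β β.2) (hA _ (A.inv_mem β.2))))
    (by
      intro a b
      have ha := Classical.choose_spec
        (exists_indAut θ hQ (a : MulAut Q) (hA a a.2) (hA _ (A.inv_mem a.2)))
      have hb := Classical.choose_spec
        (exists_indAut θ hQ (b : MulAut Q) (hA b b.2) (hA _ (A.inv_mem b.2)))
      have hab := Classical.choose_spec
        (exists_indAut θ hQ ((a * b : A) : MulAut Q) (hA _ (a * b).2) (hA _ (A.inv_mem (a * b).2)))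
      exact IndAut.unique hab (ha.mul hb))

theorem indHom_spec (θ : S →* Ω') {Q : Subgroup Ω} (hQ : Q ≤ S) (A : Subgroup (MulAut Q))
    (hA : ∀ β ∈ A, ∀ x : Q, imageHom θ hQ x = 1 → imageHom θ hQ (β x) = 1) (β : A) :
    IndAut θ hQ (β : MulAut Q) (indHom θ hQ A hA β) :=
  Classical.choose_spec (exists_indAut θ hQ (β : MulAut Q) (hA β β.2) (hA _ (A.inv_mem β.2)))

end Cfsg.Agent.Lib.Helper7
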