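import Mathlib
import Cfsg.Prelude.Def_FusionSystem
import Cfsg.Prelude.Def_FusionComponents
import Cfsg.Agent.Lib.Helper7.InducedAut
import Cfsg.Agent.Lib.Helper7.GroupFusion2
import Cfsg.Agent.Lib.Helper7.FusionWeaklyNormal

set_option autoImplicit false

namespace Cfsg.Agent.Lib.Helper7

open Cfsg Cfsg.FusionSystem

variable {Ω : Type*} [Group Ω] {S : Subgroup Ω} {Ω' : Type*} [Group Ω'] {S' : Subgroup Ω'}

theorem imageHom_eq_one_iff (θ : S →* Ω') (S₀ : Subgroup Ω) (hker : ∀ s : S, θ s = 1 ↔ (s : Ω) ∈ S₀)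
    {Q : Subgroup Ω} (hQ : Q ≤ S) (x : Q) : imageHom θ hQ x = 1 ↔ (x : Ω) ∈ S₀ := by
  rw [← hker ⟨x, hQ x.2⟩]
  constructor
  · intro h
    exact congrArg Subtype.val h
  · intro h
    exact Subtype.ext h

theorem imageHom_eq_iff (θ : S →* Ω') (S₀ : Subgroup Ω) (hker : ∀ s : S, θ s = 1 ↔ (s : Ω) ∈ S₀)
    {Q : Subgroup Ω} (hQ : Q ≤ S) (x y : Q) :
    imageHom θ hQ x = imageHom θ hQ y ↔ (x : Ω)⁻¹ * y ∈ S₀ := by
  have := imageHom_eq_one_iff θ S₀ hker hQ (x⁻¹ * y)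
  rw [map_mul, map_inv, inv_mul_eq_one] at this
  exact this

theorem aut_map_mem_stronglyClosed (F : FusionSystem S) (S₀ : Subgroup Ω) (hS₀ : F.StronglyClosed S₀)
    {Q : Subgroup Ω} (hQ : Q ≤ S) (β : MulAut Q) (hβ : β ∈ F.autGroup Q) (z : Q) (hz : (z : Ω) ∈ S₀) :
    ((β z : Q) : Ω) ∈ S₀ := by
  have hle1 : Subgroup.zpowers (z : Ω) ≤ Q := Subgroup.zpowers_le.mpr z.2
  have hle0 : Subgroup.zpowers (z : Ω) ≤ S₀ := Subgroup.zpowers_le.mpr hz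
  exact hS₀.2 _ hle0 _ (fs_restrict_mem F hle1 ((mem_autGroup_iff F hQ β).mp hβ))
    ⟨z, Subgroup.mem_zpowers _⟩

theorem autGroup_preserves_ker (F : FusionSystem S) (S₀ : Subgroup Ω) (hS₀ : F.StronglyClosed S₀)
    (θ : S →* Ω') (hker : ∀ s : S, θ s = 1 ↔ (s : Ω) ∈ S₀) {Q : Subgroup Ω} (hQ : Q ≤ S) :
    ∀ β ∈ F.autGroup Q, ∀ x : Q, imageHom θ hQ x = 1 → imageHom θ hQ (β x) = 1 := by
  intro β hβ x hx
  rw [imageHom_eq_one_iff θ S₀ hker] at hx ⊢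
  exact aut_map_mem_stronglyClosed F S₀ hS₀ hQ β hβ x hx

theorem preimage_image_eq (θ : S →* Ω') (S₀ : Subgroup Ω) (hker : ∀ s : S, θ s = 1 ↔ (s : Ω) ∈ S₀)
    {Q : Subgroup Ω} (hQ : Q ≤ S) (h0 : S₀ ≤ Q) : preimageAlong θ (imageAlong θ Q) = Q := by
  apply le_antisymm
  · intro x hx
    obtain ⟨hxS, hx'⟩ := (mem_preimageAlong θ _ x).mp hx
    obtain ⟨q, hq, hqx⟩ := (mem_imageAlong θ Q _).mp hx'
    have h1 : θ (q⁻¹ * ⟨x, hxS⟩) = 1 := by rw [map_mul, map_inv, hqx, inv_mul_cancel]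
    have h2 : (q : Ω)⁻¹ * x ∈ S₀ := (hker _).mp h1
    have := Q.mul_mem hq (h0 h2)
    simpa using this
  · exact le_preimage_image θ hQ

/-- an automorphism of `Q ⊇ S₀` in `F` induces an automorphism of `θ(Q)` in `E` -/
theorem indAut_mem_autGroup (F : FusionSystem S) (S₀ : Subgroup Ω)
    (θ : S →* Ω') (E : FusionSystem S') (hE : F.IsFactorSystem S₀ θ E)
    {Q : Subgroup Ω} (hQ : Q ≤ S) (h0 : S₀ ≤ Q) {β : MulAut Q} (hβ : β ∈ F.autGroup Q)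
    {β' : MulAut (imageAlong θ Q)} (hind : IndAut θ hQ β β') : β' ∈ E.autGroup (imageAlong θ Q) := by
  obtain ⟨-, hker, hrange, hHom⟩ := hE
  have hθ : ∀ s : S, θ s ∈ S' := fun s => hrange ▸ ⟨s, rfl⟩
  have hQ'S' := imageAlong_le θ hθ Q
  have hle : preimageAlong θ (imageAlong θ Q) ≤ Q := (preimage_image_eq θ S₀ hker hQ h0).le
  have hψ := fs_restrict_mem F hle ((mem_autGroup_iff F hQ β).mp hβ)
  apply (mem_autGroup_iff E hQ'S' β').mpr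
  apply (hHom _ _).mpr
  refine ⟨hQ'S', _, hψ, preimageAlong_le θ _, fun x => hQ (β _).2, fun x => ((mem_preimageAlong θ _ _).mp x.2).2,
    fun x => ?_⟩
  have h1 := congrArg Subtype.val (hind ⟨x, hle x.2⟩)
  exact h1

/-- every automorphism of `θ(Q)` in `E` is induced by an automorphism of `Q ⊇ S₀` in `F` -/
theorem exists_aut_of_indAut [Finite S] (F : FusionSystem S) (S₀ : Subgroup Ω)
    (θ : S →* Ω') (E : FusionSystem S') (hE : F.IsFactorSystem S₀ θ E)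
    {Q : Subgroup Ω} (hQ : Q ≤ S) (h0 : S₀ ≤ Q) {β' : MulAut (imageAlong θ Q)}
    (hβ' : β' ∈ E.autGroup (imageAlong θ Q)) : ∃ β ∈ F.autGroup Q, IndAut θ hQ β β' := by
  obtain ⟨-, hker, hrange, hHom⟩ := hE
  have hθ : ∀ s : S, θ s ∈ S' := fun s => hrange ▸ ⟨s, rfl⟩
  have hQ'S' := imageAlong_le θ hθ Q
  haveI := finite_of_le hQ
  have heq := preimage_image_eq θ S₀ hker hQ h0
  obtain ⟨-, ψ, hψ, hP, hψS, hPP', hi⟩ := (hHom _ _).mp ((mem_autGroup_iff E hQ'S' β').mp hβ')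
  have hφ := fs_restrict_mem F heq.ge hψ
  have hr : (ψ.comp (Subgroup.inclusion heq.ge)).range = Q := by
    apply Subgroup.eq_of_le_of_card_ge
    · rintro _ ⟨x, rfl⟩
      apply heq.le
      refine (mem_preimageAlong θ _ _).mpr ⟨hψS _, ?_⟩
      have h1 := hi (Subgroup.inclusion heq.ge x)
      have h2 : θ ⟨(ψ.comp (Subgroup.inclusion heq.ge)) x, hψS _⟩ =
          θ ⟨ψ (Subgroup.inclusion heq.ge x), hψS _⟩ := rfl
      rw [h2, ← h1]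
      exact (β' _).2
    · exact (Nat.card_congr (Equiv.ofInjective _ (F.injective_of_mem hφ))).le
  refine ⟨isoOfRange _ (F.injective_of_mem hφ) hr, ?_, fun x => ?_⟩
  · apply (mem_autGroup_iff F hQ _).mpr
    convert hφ using 1
    ext x
    rfl
  · apply Subtype.ext
    have := hi ⟨x, heq.ge x.2⟩
    exact this

theorem indAut_conj (θ : S →* Ω') {Q : Subgroup Ω} (hQ : Q ≤ S) {β : MulAut Q}
    {β' : MulAut (imageAlong θ Q)} (hind : IndAut θ hQ β β') {g : Ω} (hg : g ∈ S)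
    (hβ : ∀ x : Q, ((β x : Q) : Ω) = g * x * g⁻¹) :
    ∀ y : imageAlong θ Q, ((β' y : imageAlong θ Q) : Ω') = θ ⟨g, hg⟩ * y * (θ ⟨g, hg⟩)⁻¹ := by
  intro y
  obtain ⟨x, rfl⟩ := imageHom_surjective θ hQ y
  rw [hind x, imageHom_coe, imageHom_coe, ← map_inv, ← map_mul, ← map_mul]
  congr 1
  exact Subtype.ext (hβ x)

theorem indAut_mem_autInducedBy (θ : S →* Ω') (hθ : ∀ s : S, θ s ∈ S') {Q : Subgroup Ω} (hQ : Q ≤ S)
    {β : MulAut Q} {β' : MulAut (imageAlong θ Q)} (hind : IndAut θ hQ β β')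
    (hβ : β ∈ autInducedBy S Q) : β' ∈ autInducedBy S' (imageAlong θ Q) := by
  obtain ⟨g, hg, hgβ⟩ := (mem_autInducedBy_iff S Q β).mp hβ
  exact (mem_autInducedBy_iff S' _ β').mpr ⟨θ ⟨g, hg⟩, hθ _, indAut_conj θ hQ hind hg hgβ⟩

theorem exists_autInducedBy_of_indAut [Finite S] (θ : S →* Ω') (S₀ : Subgroup Ω)
    (hker : ∀ s : S, θ s = 1 ↔ (s : Ω) ∈ S₀) (hrange : θ.range = S') {Q : Subgroup Ω} (hQ : Q ≤ S)
    (h0 : S₀ ≤ Q) {β' : MulAut (imageAlong θ Q)} (hβ' : β' ∈ autInducedBy S' (imageAlong θ Q)) :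
    ∃ β ∈ autInducedBy S Q, IndAut θ hQ β β' := by
  haveI := finite_of_le hQ
  obtain ⟨g', hg', hgβ⟩ := (mem_autInducedBy_iff S' _ β').mp hβ'
  rw [← hrange] at hg'
  obtain ⟨g, rfl⟩ := hg'
  have heq := preimage_image_eq θ S₀ hker hQ h0
  have hgN : (g : Ω) ∈ Subgroup.normalizer (Q : Set Ω) := by
    apply mem_normalizer_of_conj_mem_finite
    intro x hx
    apply heq.le
    refine (mem_preimageAlong θ _ _).mpr ⟨S.mul_mem (S.mul_mem g.2 (hQ hx)) (S.inv_mem g.2), ?_⟩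
    have h1 := hgβ (imageHom θ hQ ⟨x, hx⟩)
    have h2 : θ ⟨(g : Ω) * x * (g : Ω)⁻¹, S.mul_mem (S.mul_mem g.2 (hQ hx)) (S.inv_mem g.2)⟩ =
        θ g * θ ⟨x, hQ hx⟩ * (θ g)⁻¹ := by
      rw [← map_inv, ← map_mul, ← map_mul]; rfl
    rw [h2]
    rw [imageHom_coe] at h1
    rw [← h1]
    exact (β' _).2
  refine ⟨Q.normalizerMonoidHom ⟨g, hgN⟩, (mem_autInducedBy_iff S Q _).mpr ⟨g, g.2, fun x => rfl⟩, fun x => ?_⟩
  apply Subtype.ext
  rw [hgβ, imageHom_coe, imageHom_coe, ← map_inv, ← map_mul, ← map_mul]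
  rfl

/-- the image of a fully automized subgroup containing `S₀` is fully automized in the factor system -/
theorem isFullyAutomized_image [Finite S] (p : ℕ) [Fact p.Prime] (F : FusionSystem S) (S₀ : Subgroup Ω)
    (hS₀ : F.StronglyClosed S₀) (θ : S →* Ω') (E : FusionSystem S') (hE : F.IsFactorSystem S₀ θ E)
    {Q : Subgroup Ω} (h0 : S₀ ≤ Q) (hFA : F.IsFullyAutomized p Q) :
    E.IsFullyAutomized p (imageAlong θ Q) := by
  obtain ⟨hQ, R, hR⟩ := hFA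
  have hker := hE.2.1
  have hrange := hE.2.2.1
  have hθ : ∀ s : S, θ s ∈ S' := fun s => hrange ▸ ⟨s, rfl⟩
  haveI := finite_of_le hQ
  haveI : Finite (MulAut Q) := inferInstance
  refine ⟨imageAlong_le θ hθ Q, ?_⟩
  have hA := autGroup_preserves_ker F S₀ hS₀ θ hker hQ
  let Φ := indHom θ hQ (F.autGroup Q) hA
  have hΦ : ∀ β : F.autGroup Q, Φ β ∈ E.autGroup (imageAlong θ Q) := fun β =>
    indAut_mem_autGroup F S₀ θ E hE hQ h0 β.2 (indHom_spec θ hQ _ hA β)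
  let f : F.autGroup Q →* E.autGroup (imageAlong θ Q) := Φ.codRestrict _ hΦ
  have hf : Function.Surjective f := by
    intro β'
    obtain ⟨β, hβ, hind⟩ := exists_aut_of_indAut F S₀ θ E hE hQ h0 β'.2
    refine ⟨⟨β, hβ⟩, Subtype.ext ?_⟩
    exact IndAut.unique (indHom_spec θ hQ _ hA ⟨β, hβ⟩) hind
  refine ⟨R.mapSurjective hf, ?_⟩
  rw [Sylow.coe_mapSurjective, hR]
  ext β'
  rw [Subgroup.mem_subgroupOf]
  constructor
  · rintro ⟨β, hβ, rfl⟩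
    exact indAut_mem_autInducedBy θ hθ hQ (indHom_spec θ hQ _ hA β) (Subgroup.mem_subgroupOf.mp hβ)
  · intro hβ'
    obtain ⟨β, hβ, hind⟩ := exists_autInducedBy_of_indAut θ S₀ hker hrange hQ h0 hβ'
    refine ⟨⟨β, autInducedBy_le_autGroup F hQ hβ⟩, Subgroup.mem_subgroupOf.mpr hβ, Subtype.ext ?_⟩
    exact IndAut.unique (indHom_spec θ hQ _ hA ⟨β, _⟩) hind

/-- the automorphisms in `A` acting trivially modulo `S₀` -/
def kerAut (S₀ Q : Subgroup Ω) (A : Subgroup (MulAut Q)) : Subgroup (MulAut Q) where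
  carrier := {β | β ∈ A ∧ ∀ x : Q, (x : Ω)⁻¹ * ((β x : Q) : Ω) ∈ S₀}
  one_mem' := ⟨Subgroup.one_mem _, fun x => by simp⟩
  mul_mem' := by
    rintro a b ⟨ha, ha'⟩ ⟨hb, hb'⟩
    refine ⟨Subgroup.mul_mem _ ha hb, fun x => ?_⟩
    have e : (x : Ω)⁻¹ * (((a * b) x : Q) : Ω) =
        ((x : Ω)⁻¹ * ((b x : Q) : Ω)) * (((b x : Q) : Ω)⁻¹ * ((a (b x) : Q) : Ω)) := by
      rw [MulAut.mul_apply]; group
    rw [e]
    exact S₀.mul_mem (hb' x) (ha' (b x))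
  inv_mem' := by
    rintro a ⟨ha, ha'⟩
    refine ⟨Subgroup.inv_mem _ ha, fun x => ?_⟩
    have h1 := ha' (a⁻¹ x)
    rw [MulAut.apply_inv_self] at h1
    have e : (x : Ω)⁻¹ * ((a⁻¹ x : Q) : Ω) = (((a⁻¹ x : Q) : Ω)⁻¹ * (x : Ω))⁻¹ := by group
    rw [e]
    exact S₀.inv_mem h1

theorem kerAut_le (S₀ Q : Subgroup Ω) (A : Subgroup (MulAut Q)) : kerAut S₀ Q A ≤ A := fun _ h => h.1

theorem le_normalizer_kerAut [Finite S] (F : FusionSystem S) (S₀ : Subgroup Ω) (hS₀ : F.StronglyClosed S₀)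
    {Q : Subgroup Ω} (hQ : Q ≤ S) :
    F.autGroup Q ≤ Subgroup.normalizer (kerAut S₀ Q (F.autGroup Q) : Set (MulAut Q)) := by
  haveI := finite_of_le hQ
  haveI : Finite (MulAut Q) := inferInstance
  intro γ hγ
  apply Cfsg.Agent.Lib.Lead.Conj.mem_normalizer_of_conj_mem
  rintro β ⟨hβ, hβ'⟩
  refine ⟨Subgroup.mul_mem _ (Subgroup.mul_mem _ hγ hβ) (Subgroup.inv_mem _ hγ), fun x => ?_⟩
  have h1 := aut_map_mem_stronglyClosed F S₀ hS₀ hQ γ hγ ((γ⁻¹ x)⁻¹ * β (γ⁻¹ x)) (hβ' (γ⁻¹ x))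
  rw [map_mul, map_inv, MulAut.apply_inv_self] at h1
  exact h1

/-- the image of a fully automized receptive subgroup containing `S₀` is receptive in the factor system -/
theorem isReceptive_image [Finite S] (p : ℕ) [Fact p.Prime] (hS : IsPGroup p S) (F : FusionSystem S)
    (S₀ : Subgroup Ω) (hS₀ : F.StronglyClosed S₀) (θ : S →* Ω') (E : FusionSystem S')
    (hE : F.IsFactorSystem S₀ θ E) {Q : Subgroup Ω} (h0 : S₀ ≤ Q) (hFA : F.IsFullyAutomized p Q)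
    (hRec : F.IsReceptive Q) : E.IsReceptive (imageAlong θ Q) := by
  obtain ⟨-, hker, hrange, hHom⟩ := hE
  have hθ : ∀ s : S, θ s ∈ S' := fun s => hrange ▸ ⟨s, rfl⟩
  have hQ := hRec.1
  haveI := finite_of_le hQ
  haveI : Finite (MulAut Q) := inferInstance
  have heqQ := preimage_image_eq θ S₀ hker hQ h0
  refine ⟨imageAlong_le θ hθ Q, fun R' φ' hφ' hr' => ?_⟩
  obtain ⟨hR'S', φ, hφ, hRS, hφS, hRR', hi⟩ := (hHom R' φ').mp hφ'
  have hinj := F.injective_of_mem hφ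
  have hS₀R : S₀ ≤ preimageAlong θ R' := by
    intro z hz
    refine (mem_preimageAlong θ R' z).mpr ⟨hS₀.1 hz, ?_⟩
    rw [(hker ⟨z, hS₀.1 hz⟩).mpr hz]
    exact R'.one_mem
  have hφQ : ∀ x : preimageAlong θ R', φ x ∈ Q := by
    intro x
    apply heqQ.le
    refine (mem_preimageAlong θ _ _).mpr ⟨hφS x, ?_⟩
    rw [← hi x, ← hr']
    exact ⟨_, rfl⟩
  have hrφ : φ.range = Q := by
    apply le_antisymm
    · rintro _ ⟨x, rfl⟩
      exact hφQ x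
    · intro q hq
      have hq' : θ ⟨q, hQ hq⟩ ∈ φ'.range := by
        rw [hr']
        exact (mem_imageAlong θ Q _).mpr ⟨⟨q, hQ hq⟩, hq, rfl⟩
      obtain ⟨y, hy⟩ := hq'
      obtain ⟨x, hx, hxy⟩ := exists_preimage_of_mem θ S' hrange hR'S' y y.2
      have h1 := hi ⟨x, hx⟩
      have e : y = ⟨θ ⟨x, hRS hx⟩, hRR' ⟨x, hx⟩⟩ := Subtype.ext hxy.symm
      rw [← e, hy] at h1
      have h2 : θ (⟨φ ⟨x, hx⟩, hφS _⟩⁻¹ * ⟨q, hQ hq⟩) = 1 := by
        rw [map_mul, map_inv, h1, inv_mul_cancel]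
      have h3 : (φ ⟨x, hx⟩)⁻¹ * q ∈ S₀ := (hker _).mp h2
      have h4 : q = φ ⟨x, hx⟩ * ((φ ⟨x, hx⟩)⁻¹ * q) := by group
      rw [h4]
      exact Subgroup.mul_mem _ ⟨_, rfl⟩ (stronglyClosed_le_range F S₀ hS₀ hφ hS₀R h3)
  set e := isoOfRange φ hinj hrφ with he
  have hecoe : ∀ x, ((e x : Q) : Ω) = φ x := fun x => rfl
  set A := F.autGroup Q with hA
  set T := autInducedBy S Q with hT
  set K := kerAut S₀ Q A with hK
  have hKA : K ≤ A := kerAut_le S₀ Q A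
  have hKn : A ≤ Subgroup.normalizer (K : Set (MulAut Q)) := le_normalizer_kerAut F S₀ hS₀ hQ
  have hTA : T ≤ A := autInducedBy_le_autGroup F hQ
  -- the generators of the extender in the factor system
  set gens' : Set Ω' := {g' : Ω' | g' ∈ S' ∧ g' ∈ Subgroup.normalizer (R' : Set Ω') ∧
    ∃ h' ∈ S', ∀ (x : R') (hx : g' * (x : Ω') * g'⁻¹ ∈ R'), φ' ⟨g' * x * g'⁻¹, hx⟩ = h' * φ' x * h'⁻¹}
    with hgens
  -- lifts of generators normalize `R`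
  have hliftN : ∀ g : S, θ g ∈ gens' → (g : Ω) ∈ Subgroup.normalizer ((preimageAlong θ R' : Subgroup Ω) : Set Ω) := by
    intro g hg
    haveI : Finite (preimageAlong θ R') := finite_of_le hRS
    apply mem_normalizer_of_conj_mem_finite
    intro x hx
    have hxS := hRS hx
    refine (mem_preimageAlong θ _ _).mpr ⟨S.mul_mem (S.mul_mem g.2 hxS) (S.inv_mem g.2), ?_⟩
    have h2 : θ ⟨(g : Ω) * x * (g : Ω)⁻¹, S.mul_mem (S.mul_mem g.2 hxS) (S.inv_mem g.2)⟩ =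
        θ g * θ ⟨x, hxS⟩ * (θ g)⁻¹ := by
      rw [← map_inv, ← map_mul, ← map_mul]; rfl
    rw [h2]
    exact (Subgroup.mem_normalizer_iff.mp hg.2.1 _).mp ((mem_preimageAlong θ _ _).mp hx).2
  set Bgen : Set (MulAut Q) := {b | ∃ (g : S) (hg : θ g ∈ gens'),
    b = MulAut.congr e ((preimageAlong θ R').normalizerMonoidHom ⟨g, hliftN g hg⟩)} with hBgen
  have hBgenA : ∀ b ∈ Bgen, b ∈ A := by
    rintro b ⟨g, hg, rfl⟩
    apply autGroup_congr F hφ hrφ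
    apply autInducedBy_le_autGroup F hRS
    exact (mem_autInducedBy_iff S _ _).mpr ⟨g, g.2, fun x => rfl⟩
  have hBp : IsPGroup p (Subgroup.closure Bgen) := by
    have hle : Subgroup.closure Bgen ≤ (autInducedBy S (preimageAlong θ R')).map (MulAut.congr e).toMonoidHom := by
      rw [Subgroup.closure_le]
      rintro b ⟨g, hg, rfl⟩
      exact ⟨_, (mem_autInducedBy_iff S _ _).mpr ⟨g, g.2, fun x => rfl⟩, rfl⟩
    exact ((isPGroup_autInducedBy S _ hS).map _).to_le hle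
  -- generators lie in `T ⊔ K`
  have hBTK : Subgroup.closure Bgen ≤ T ⊔ K := by
    rw [Subgroup.closure_le]
    rintro b ⟨g, hg, rfl⟩
    obtain ⟨hg'S', hg'N, h', hh'S', hh'⟩ := hg
    rw [← hrange] at hh'S'
    obtain ⟨h, rfl⟩ := hh'S'
    -- `h` normalizes `Q`
    have hhN : (h : Ω) ∈ Subgroup.normalizer (Q : Set Ω) := by
      apply mem_normalizer_of_conj_mem_finite
      intro q hq
      apply heqQ.le
      refine (mem_preimageAlong θ _ _).mpr ⟨S.mul_mem (S.mul_mem h.2 (hQ hq)) (S.inv_mem h.2), ?_⟩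
      have h2 : θ ⟨(h : Ω) * q * (h : Ω)⁻¹, S.mul_mem (S.mul_mem h.2 (hQ hq)) (S.inv_mem h.2)⟩ =
          θ h * θ ⟨q, hQ hq⟩ * (θ h)⁻¹ := by
        rw [← map_inv, ← map_mul, ← map_mul]; rfl
      rw [h2]
      have hq' : θ ⟨q, hQ hq⟩ ∈ φ'.range := by
        rw [hr']
        exact (mem_imageAlong θ Q _).mpr ⟨⟨q, hQ hq⟩, hq, rfl⟩
      obtain ⟨y, hy⟩ := hq'
      have hy' : θ g * (y : Ω') * (θ g)⁻¹ ∈ R' := (Subgroup.mem_normalizer_iff.mp hg'N _).mp y.2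
      rw [← hy, ← hh' y hy', ← hr']
      exact ⟨_, rfl⟩
    set ch : MulAut Q := Q.normalizerMonoidHom ⟨h, hhN⟩ with hch
    have hchT : ch ∈ T := (mem_autInducedBy_iff S Q _).mpr ⟨h, h.2, fun x => rfl⟩
    set b := MulAut.congr e ((preimageAlong θ R').normalizerMonoidHom ⟨g, hliftN g ⟨hg'S', hg'N, θ h, hθ h, hh'⟩⟩)
      with hb
    have hbA : b ∈ A := hBgenA b ⟨g, ⟨hg'S', hg'N, θ h, hθ h, hh'⟩, rfl⟩
    -- `b ≡ c_h` modulo `S₀`
    have hmod : ∀ q : Q, θ ⟨(b q : Q), hQ (b q).2⟩ = θ ⟨(ch q : Q), hQ (ch q).2⟩ := by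
      intro q
      obtain ⟨x, rfl⟩ := e.surjective q
      have hgx : (g : Ω) * x * (g : Ω)⁻¹ ∈ preimageAlong θ R' :=
        (Subgroup.mem_normalizer_iff.mp (hliftN g ⟨hg'S', hg'N, θ h, hθ h, hh'⟩) _).mp x.2
      have e1 : ((b (e x) : Q) : Ω) = φ ⟨(g : Ω) * x * (g : Ω)⁻¹, hgx⟩ := by
        rw [hb, MulAut.congr_apply]
        simp only [MulEquiv.trans_apply, MulEquiv.symm_apply_apply]
        rfl
      have e2 : ((ch (e x) : Q) : Ω) = (h : Ω) * φ x * (h : Ω)⁻¹ := rfl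
      have e3 : θ ⟨(h : Ω) * φ x * (h : Ω)⁻¹, S.mul_mem (S.mul_mem h.2 (hφS x)) (S.inv_mem h.2)⟩ =
          θ h * θ ⟨φ x, hφS x⟩ * (θ h)⁻¹ := by
        rw [← map_inv, ← map_mul, ← map_mul]; rfl
      have e4 : θ ⟨(g : Ω) * x * (g : Ω)⁻¹, hRS hgx⟩ = θ g * θ ⟨x, hRS x.2⟩ * (θ g)⁻¹ := by
        rw [← map_inv, ← map_mul, ← map_mul]; rfl
      have h5 := hi ⟨(g : Ω) * x * (g : Ω)⁻¹, hgx⟩
      have h6 := hh' ⟨θ ⟨x, hRS x.2⟩, hRR' x⟩ (by rw [← e4]; exact hRR' ⟨_, hgx⟩)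
      calc θ ⟨(b (e x) : Q), hQ (b (e x)).2⟩ = θ ⟨φ ⟨(g : Ω) * x * (g : Ω)⁻¹, hgx⟩, hφS _⟩ := by
            congr 1; exact Subtype.ext e1
        _ = φ' ⟨θ ⟨(g : Ω) * x * (g : Ω)⁻¹, hRS hgx⟩, hRR' ⟨_, hgx⟩⟩ := h5.symm
        _ = φ' ⟨θ g * θ ⟨x, hRS x.2⟩ * (θ g)⁻¹, by rw [← e4]; exact hRR' ⟨_, hgx⟩⟩ := by
            congr 1; exact Subtype.ext e4
        _ = θ h * φ' ⟨θ ⟨x, hRS x.2⟩, hRR' x⟩ * (θ h)⁻¹ := h6
        _ = θ h * θ ⟨φ x, hφS x⟩ * (θ h)⁻¹ := by rw [hi x]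
        _ = θ ⟨(ch (e x) : Q), hQ (ch (e x)).2⟩ := by
            rw [← e3]; congr 1
    have hκ : b * ch⁻¹ ∈ K := by
      refine ⟨A.mul_mem hbA (A.inv_mem (hTA hchT)), fun q => ?_⟩
      have h1 := hmod (ch⁻¹ q)
      rw [MulAut.apply_inv_self] at h1
      have h2 : θ (⟨q, hQ q.2⟩⁻¹ * ⟨((b * ch⁻¹) q : Q), hQ ((b * ch⁻¹) q).2⟩) = 1 := by
        rw [map_mul, map_inv, inv_mul_eq_one]
        exact h1.symm
      exact (hker _).mp h2
    have : b = (b * ch⁻¹) * ch := by group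
    rw [this]
    exact Subgroup.mul_mem _ (Subgroup.mem_sup_right hκ) (Subgroup.mem_sup_left hchT)
  -- Sylow conjugation inside `T ⊔ K`
  have hTsyl : IsSylowIn p T A := (isSylowIn_iff_exists_sylow hTA).mpr hFA.2
  have hTsyl' : IsSylowIn p T (T ⊔ K) := hTsyl.of_le_of_le le_sup_left (sup_le hTA hKA)
  obtain ⟨P₁, hP₁, hBP₁⟩ := exists_isSylowIn_ge hBp hBTK
  obtain ⟨a, ha, hconj⟩ := hP₁.conj hTsyl'
  have haTK : a ∈ ((T ⊔ K : Subgroup (MulAut Q)) : Set (MulAut Q)) := ha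
  rw [Subgroup.coe_mul_of_left_le_normalizer_right T K (hTA.trans hKn)] at haTK
  obtain ⟨τ, hτ, κ, hκ, rfl⟩ := haTK
  have hκconj : ∀ b ∈ Subgroup.closure Bgen, κ * b * κ⁻¹ ∈ T := by
    intro b hb
    have hconj' : T = P₁.map (MulAut.conj (τ * κ)).toMonoidHom := hconj
    have h1 : (τ * κ) * b * (τ * κ)⁻¹ ∈ T := by
      rw [hconj']
      exact ⟨b, hBP₁ hb, by rw [MulEquiv.coe_toMonoidHom, MulAut.conj_apply]⟩
    have h2 : κ * b * κ⁻¹ = τ⁻¹ * ((τ * κ) * b * (τ * κ)⁻¹) * τ := by group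
    rw [h2]
    exact T.mul_mem (T.mul_mem (T.inv_mem hτ) h1) hτ
  -- the modified lift
  set χ : preimageAlong θ R' →* Ω := (Q.subtype.comp κ.toMonoidHom).comp (φ.codRestrict Q hφQ) with hχdef
  have hχ : χ ∈ F.Hom (preimageAlong θ R') :=
    F.comp_mem hφ ((mem_autGroup_iff F hQ κ).mp (hKA hκ)) hφQ
  have hχapp : ∀ x, χ x = ((κ (e x) : Q) : Ω) := fun x => rfl
  have hχrange : χ.range = Q := by
    ext y
    constructor
    · rintro ⟨x, rfl⟩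
      exact (κ (e x)).2
    · intro hy
      refine ⟨e.symm (κ⁻¹ ⟨y, hy⟩), ?_⟩
      rw [hχapp, MulEquiv.apply_symm_apply, MulAut.apply_inv_self]
  obtain ⟨ψ, hψ, hψχ⟩ := hRec.2 _ χ hχ hχrange
  -- the generators lift into the extender of `χ`
  have hgenlift : ∀ g : S, θ g ∈ gens' → (g : Ω) ∈ extender S (preimageAlong θ R') χ := by
    intro g hg
    have hgN := hliftN g hg
    apply mem_extender_of_mem g.2 hgN
    set b := MulAut.congr e ((preimageAlong θ R').normalizerMonoidHom ⟨g, hgN⟩) with hb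
    have hbB : b ∈ Subgroup.closure Bgen := Subgroup.subset_closure ⟨g, hg, rfl⟩
    obtain ⟨h, hhS, hh⟩ := (mem_autInducedBy_iff S Q _).mp (hκconj b hbB)
    refine ⟨h, hhS, fun x hx => ?_⟩
    have e2 := hh (κ (e x))
    rw [hχapp, hχapp, ← e2]
    simp only [MulAut.mul_apply, MulAut.inv_apply_self]
    rw [hb, MulAut.congr_apply]
    simp only [MulEquiv.trans_apply, MulEquiv.symm_apply_apply]
    rfl
  have hextle : extender S' R' φ' ≤ imageAlong θ (extender S (preimageAlong θ R') χ) := by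
    unfold extender
    rw [Subgroup.closure_le]
    intro g' hg'
    have hg'r : g' ∈ θ.range := hrange ▸ hg'.1
    obtain ⟨g, rfl⟩ := hg'r
    exact (mem_imageAlong θ _ _).mpr ⟨g, hgenlift g hg', rfl⟩
  have hNle : preimageAlong θ (extender S' R' φ') ≤ extender S (preimageAlong θ R') χ := by
    intro n hn
    obtain ⟨hnS, hn'⟩ := (mem_preimageAlong θ _ n).mp hn
    obtain ⟨g₁, hg₁, hg₁n⟩ := (mem_imageAlong θ _ _).mp (hextle hn')
    have h1 : θ (g₁⁻¹ * ⟨n, hnS⟩) = 1 := by rw [map_mul, map_inv, hg₁n, inv_mul_cancel]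
    have h2 : (g₁ : Ω)⁻¹ * n ∈ S₀ := (hker _).mp h1
    have h3 : n = (g₁ : Ω) * ((g₁ : Ω)⁻¹ * n) := by group
    rw [h3]
    exact Subgroup.mul_mem _ hg₁ (le_extender F hχ (hS₀R h2))
  have hψN := fs_restrict_mem F hNle hψ
  have hext'S' : extender S' R' φ' ≤ θ.range := by
    rw [hrange]; exact extender_le S' R' φ'
  obtain ⟨ψ', hind⟩ := exists_inducedAlong F S₀ hS₀ θ hker hext'S' hψN
  refine ⟨ψ', (hHom _ ψ').mpr ⟨extender_le S' R' φ', _, hψN, hind⟩, fun y hyR' hyN' => ?_⟩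
  obtain ⟨hP₂, hψS, hPP₂, hi₂⟩ := hind
  obtain ⟨x, hx, hxy⟩ := exists_preimage_of_mem θ S' hrange hR'S' y hyR'
  have hxN : x ∈ preimageAlong θ (extender S' R' φ') :=
    (mem_preimageAlong θ _ _).mpr ⟨hRS hx, by rw [hxy]; exact hyN'⟩
  have h1 := hi₂ ⟨x, hxN⟩
  have h2 := hi ⟨x, hx⟩
  have ey : (⟨y, hyN'⟩ : extender S' R' φ') = ⟨θ ⟨x, hP₂ hxN⟩, hPP₂ ⟨x, hxN⟩⟩ := Subtype.ext hxy.symm
  have ey' : (⟨y, hyR'⟩ : R') = ⟨θ ⟨x, hRS hx⟩, hRR' ⟨x, hx⟩⟩ := Subtype.ext hxy.symm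
  rw [ey, ey', h1, h2]
  have h3 : (ψ.comp (Subgroup.inclusion hNle)) ⟨x, hxN⟩ = χ ⟨x, hx⟩ := hψχ x hx (hNle hxN)
  have h4 : (φ ⟨x, hx⟩)⁻¹ * χ ⟨x, hx⟩ ∈ S₀ := hκ.2 (e ⟨x, hx⟩)
  have h5 : θ (⟨φ ⟨x, hx⟩, hφS _⟩⁻¹ * ⟨χ ⟨x, hx⟩, (F.le_of_mem hχ).2 _⟩) = 1 := (hker _).mpr h4
  rw [map_mul, map_inv, inv_mul_eq_one] at h5
  rw [h5]
  congr 1
  exact Subtype.ext h3

/-- a factor system of a saturated system is saturated -/
theorem isSaturated_of_isFactorSystem [Finite S] (p : ℕ) [Fact p.Prime] (hS : IsPGroup p S)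
    (F : FusionSystem S) (hF : F.IsSaturated p) (S₀ : Subgroup Ω) (hS₀ : F.StronglyClosed S₀)
    (θ : S →* Ω') (E : FusionSystem S') (hE : F.IsFactorSystem S₀ θ E) : E.IsSaturated p := by
  have hker := hE.2.1
  have hrange := hE.2.2.1
  have hHom := hE.2.2.2
  intro P' hP'S'
  have hPS := preimageAlong_le θ P'
  have hS₀P : S₀ ≤ preimageAlong θ P' := by
    intro z hz
    refine (mem_preimageAlong θ P' z).mpr ⟨hS₀.1 hz, ?_⟩
    rw [(hker ⟨z, hS₀.1 hz⟩).mpr hz]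
    exact P'.one_mem
  obtain ⟨Q, ⟨φ, hφ, hr⟩, hFA, hRec⟩ := hF _ hPS
  have h0 : S₀ ≤ Q := hr ▸ stronglyClosed_le_range F S₀ hS₀ hφ hS₀P
  have hP'r : P' ≤ θ.range := hrange ▸ hP'S'
  obtain ⟨φ', hind⟩ := exists_inducedAlong F S₀ hS₀ θ hker hP'r hφ
  have hφ'E : φ' ∈ E.Hom P' := (hHom P' φ').mpr ⟨hP'S', φ, hφ, hind⟩
  obtain ⟨hP₁, hφS, hPP', hi⟩ := hind
  refine ⟨imageAlong θ Q, ⟨φ', hφ'E, ?_⟩, isFullyAutomized_image p F S₀ hS₀ θ E hE h0 hFA,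
    isReceptive_image p hS F S₀ hS₀ θ E hE h0 hFA hRec⟩
  ext y
  constructor
  · rintro ⟨y', rfl⟩
    obtain ⟨x, hx, hxy⟩ := exists_preimage_of_mem θ S' hrange hP'S' y' y'.2
    have e : y' = ⟨θ ⟨x, hP₁ hx⟩, hPP' ⟨x, hx⟩⟩ := Subtype.ext hxy.symm
    rw [e, hi ⟨x, hx⟩]
    refine (mem_imageAlong θ Q _).mpr ⟨_, ?_, rfl⟩
    rw [← hr]
    exact ⟨_, rfl⟩
  · intro hy
    obtain ⟨s, hs, rfl⟩ := (mem_imageAlong θ Q y).mp hy
    rw [← hr] at hs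
    obtain ⟨x, hx⟩ := hs
    refine ⟨⟨θ ⟨x, hP₁ x.2⟩, hPP' x⟩, ?_⟩
    rw [hi x]
    congr 1
    exact Subtype.ext hx

/-- the image of a saturated system under a surjective morphism is saturated -/
theorem isSaturated_of_isSurjectiveMorphism [Finite S] (p : ℕ) [Fact p.Prime] (hS : IsPGroup p S)
    (F : FusionSystem S) (hF : F.IsSaturated p) (F' : FusionSystem S') (α : S →* Ω')
    (hα : F.IsSurjectiveMorphism F' α) : F'.IsSaturated p := by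
  obtain ⟨⟨hαS', hmor⟩, hrange, hsurj⟩ := hα
  set S₀ : Subgroup Ω := (α.ker).map S.subtype with hS₀def
  have hker : ∀ s : S, α s = 1 ↔ (s : Ω) ∈ S₀ := by
    intro s
    constructor
    · intro h
      exact ⟨s, h, rfl⟩
    · rintro ⟨k, hk, hks⟩
      have : k = s := Subtype.ext hks
      rw [← this]; exact hk
  have hS₀ : F.StronglyClosed S₀ := by
    refine ⟨Subgroup.map_subtype_le _, fun R hR φ hφ x => ?_⟩
    obtain ⟨φ', -, hP, hφS, hPP', hi⟩ := hmor R φ hφ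
    have h1 := hi x
    have h2 : α ⟨x, hP x.2⟩ = 1 := (hker _).mpr (hR x.2)
    have h3 : (⟨α ⟨x, hP x.2⟩, hPP' x⟩ : imageAlong α R) = 1 := Subtype.ext h2
    rw [h3, map_one] at h1
    exact (hker _).mp h1.symm
  apply isSaturated_of_isFactorSystem p hS F hF S₀ hS₀ α F'
  refine ⟨Subgroup.map_subtype_le _, hker, hrange, fun P' φ' => ⟨fun h => ⟨(F'.le_of_mem h).1, hsurj P' (F'.le_of_mem h).1 φ' h⟩, ?_⟩⟩
  rintro ⟨hP', φ, hφ, hind⟩
  obtain ⟨φ'', hφ'', hind''⟩ := hmor _ φ hφ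
  obtain ⟨hP₁, hφS, hPP', hi⟩ := hind
  obtain ⟨hP₂, hφS₂, hPP₂, hi₂⟩ := hind''
  have hle : P' ≤ imageAlong α (preimageAlong α P') := by
    intro y hy
    obtain ⟨x, hx, hxy⟩ := exists_preimage_of_mem α S' hrange hP' y hy
    exact (mem_imageAlong α _ _).mpr ⟨⟨x, hP₁ hx⟩, hx, hxy⟩
  have := fs_restrict_mem F' hle hφ''
  convert this using 1
  ext y
  obtain ⟨x, hx, hxy⟩ := exists_preimage_of_mem α S' hrange hP' y y.2
  have e : y = ⟨α ⟨x, hP₁ hx⟩, hPP' ⟨x, hx⟩⟩ := Subtype.ext hxy.symm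
  rw [e, hi ⟨x, hx⟩]
  exact (hi₂ ⟨x, hx⟩).symm

end Cfsg.Agent.Lib.Helper7
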