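import Mathlib
import Cfsg.Prelude.Def_FusionSystem
import Cfsg.Prelude.Def_FusionComponents
import Cfsg.Agent.Lib.Helper7.FactorSaturated
import Cfsg.Agent.Lib.Helper7.FusionHyperfocal
import Cfsg.Agent.Lib.Lead.PResidual

set_option autoImplicit false

namespace Cfsg.Agent.Lib.Helper7

open Cfsg Cfsg.FusionSystem

theorem pResidual_map_le {G H : Type*} [Group G] [Group H] (p : ℕ) (f : G →* H) :
    (Cfsg.pResidual p G).map f ≤ Cfsg.pResidual p H := by
  unfold Cfsg.pResidual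
  rw [MonoidHom.map_closure, Subgroup.closure_le]
  rintro _ ⟨g, hg, rfl⟩
  apply Subgroup.subset_closure
  exact Nat.Coprime.coprime_dvd_left (orderOf_map_dvd f g) hg

theorem pResidual_le_map_of_surjective {G H : Type*} [Group G] [Group H] [Finite G] (p : ℕ) [Fact p.Prime]
    (f : G →* H) (hf : Function.Surjective f) :
    Cfsg.pResidual p H ≤ (Cfsg.pResidual p G).map f := by
  conv_lhs => unfold Cfsg.pResidual
  rw [Subgroup.closure_le]
  intro h hh
  have hh' : Nat.Coprime (orderOf h) p := hh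
  obtain ⟨g, rfl⟩ := hf h
  obtain ⟨a, ha⟩ := Cfsg.Agent.Lib.Lead.PResidual.exists_pow_mem (p := p) g
  have h1 : f g ^ (p ^ a) ∈ (Cfsg.pResidual p G).map f := ⟨_, ha, map_pow f g _⟩
  by_cases hk : orderOf (f g) = 1
  · rw [orderOf_eq_one_iff.mp hk]; exact Subgroup.one_mem _
  · haveI : Finite H := Finite.of_surjective f hf
    have hpos : 0 < orderOf (f g) := orderOf_pos _
    have hlt : 1 < orderOf (f g) := by omega
    have hcop : Nat.Coprime (p ^ a) (orderOf (f g)) := (Nat.Coprime.pow_right a hh').symm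
    obtain ⟨u, -, hu⟩ := Nat.exists_mul_mod_eq_one_of_coprime hcop hlt
    have h2 : (f g ^ (p ^ a)) ^ u = f g := by
      rw [← pow_mul, ← pow_mod_orderOf, hu, pow_one]
    rw [← h2]
    exact Subgroup.pow_mem _ h1 u

variable {Ω : Type*} [Group Ω] {S : Subgroup Ω} {Ω' : Type*} [Group Ω'] {S' : Subgroup Ω'}

theorem image_preimage_eq (θ : S →* Ω') {P' : Subgroup Ω'} (hP' : P' ≤ θ.range) :
    imageAlong θ (preimageAlong θ P') = P' := by
  apply le_antisymm
  · intro y hy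
    obtain ⟨s, hs, rfl⟩ := (mem_imageAlong θ _ y).mp hy
    exact ((mem_preimageAlong θ P' _).mp hs).2
  · intro y hy
    obtain ⟨x, hx, hxy⟩ := exists_preimage_of_mem θ θ.range rfl hP' y hy
    exact (mem_imageAlong θ _ _).mpr ⟨⟨x, preimageAlong_le θ P' hx⟩, hx, hxy⟩

/-- in the saturated case every automorphism in `F` induces an automorphism in the factor system -/
theorem indAut_mem_autGroup_of_isSaturated [Finite S] (p : ℕ) [Fact p.Prime] (hS : IsPGroup p S)
    (F : FusionSystem S) (hF : F.IsSaturated p) (S₀ : Subgroup Ω) (hS₀ : F.StronglyClosed S₀)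
    (θ : S →* Ω') (E : FusionSystem S') (hE : F.IsFactorSystem S₀ θ E)
    {P : Subgroup Ω} (hP : P ≤ S) {β : MulAut P} (hβ : β ∈ F.autGroup P)
    {β' : MulAut (imageAlong θ P)} (hind : IndAut θ hP β β') : β' ∈ E.autGroup (imageAlong θ P) := by
  have hθ : ∀ s : S, θ s ∈ S' := fun s => hE.2.2.1 ▸ ⟨s, rfl⟩
  obtain ⟨-, φ', hφ', hP₁, hφS, hPP', hi⟩ :=
    le_morSystem p hS F hF S₀ hS₀ θ E hE hθ P ((mem_autGroup_iff F hP β).mp hβ)
  apply (mem_autGroup_iff E (imageAlong_le θ hθ P) β').mpr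
  convert hφ' using 1
  ext y
  obtain ⟨x, rfl⟩ := imageHom_surjective θ hP y
  have h1 := hi x
  have h2 := congrArg Subtype.val (hind x)
  exact h2.trans h1.symm

theorem hyperfocal_factor [Finite S] (p : ℕ) [Fact p.Prime] (hS : IsPGroup p S)
    (F : FusionSystem S) (hF : F.IsSaturated p) (T : Subgroup Ω) (hT : F.StronglyClosed T)
    (θ : S →* Ω') (E : FusionSystem S') (hE : F.IsFactorSystem T θ E) :
    E.hyperfocalSubgroup p = ((F.hyperfocalSubgroup p).subgroupOf S).map θ := by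
  have hker := hE.2.1
  have hrange := hE.2.2.1
  have hθ : ∀ s : S, θ s ∈ S' := fun s => hrange ▸ ⟨s, rfl⟩
  apply le_antisymm
  · unfold FusionSystem.hyperfocalSubgroup
    rw [Subgroup.closure_le]
    rintro _ ⟨P', α', x', hP'S', hα', rfl⟩
    have hP'r : P' ≤ θ.range := hrange ▸ hP'S'
    obtain ⟨P, hPS, h0, rfl⟩ : ∃ P, P ≤ S ∧ T ≤ P ∧ imageAlong θ P = P' := by
      refine ⟨preimageAlong θ P', preimageAlong_le θ P', ?_, image_preimage_eq θ hP'r⟩
      intro z hz
      refine (mem_preimageAlong θ P' z).mpr ⟨hT.1 hz, ?_⟩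
      rw [(hker ⟨z, hT.1 hz⟩).mpr hz]
      exact P'.one_mem
    haveI := finite_of_le hPS
    haveI : Finite (MulAut P) := inferInstance
    have hA := autGroup_preserves_ker F T hT θ hker hPS
    let Φ := indHom θ hPS (F.autGroup P) hA
    have hΦ : ∀ β : F.autGroup P, Φ β ∈ E.autGroup (imageAlong θ P) := fun β =>
      indAut_mem_autGroup F T θ E hE hPS h0 β.2 (indHom_spec θ hPS _ hA β)
    let f : F.autGroup P →* E.autGroup (imageAlong θ P) := Φ.codRestrict _ hΦ
    have hf : Function.Surjective f := by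
      intro β'
      obtain ⟨β, hβ, hind⟩ := exists_aut_of_indAut F T θ E hE hPS h0 β'.2
      refine ⟨⟨β, hβ⟩, Subtype.ext ?_⟩
      exact IndAut.unique (indHom_spec θ hPS _ hA ⟨β, hβ⟩) hind
    obtain ⟨γ, hγ, rfl⟩ := pResidual_le_map_of_surjective p f hf hα'
    obtain ⟨x, rfl⟩ := imageHom_surjective θ hPS x'
    have hspec := indHom_spec θ hPS _ hA γ x
    have hy : (x : Ω)⁻¹ * (((γ : MulAut P) x : P) : Ω) ∈ F.hyperfocalSubgroup p :=
      Subgroup.subset_closure ⟨P, γ, x, hPS, hγ, rfl⟩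
    have hyS : (x : Ω)⁻¹ * (((γ : MulAut P) x : P) : Ω) ∈ S :=
      S.mul_mem (S.inv_mem (hPS x.2)) (hPS ((γ : MulAut P) x).2)
    refine ⟨⟨_, hyS⟩, Subgroup.mem_subgroupOf.mpr hy, ?_⟩
    have e1 : (⟨(x : Ω)⁻¹ * (((γ : MulAut P) x : P) : Ω), hyS⟩ : S) =
        ⟨x, hPS x.2⟩⁻¹ * ⟨((γ : MulAut P) x : P), hPS ((γ : MulAut P) x).2⟩ := rfl
    rw [e1, map_mul, map_inv]
    have h2 := congrArg Subtype.val hspec
    show _ = ((imageHom θ hPS x : imageAlong θ P) : Ω')⁻¹ * (((f γ : MulAut (imageAlong θ P)) (imageHom θ hPS x) : imageAlong θ P) : Ω')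
    rw [imageHom_coe]
    congr 1
    exact h2.symm
  · rintro _ ⟨s, hs, rfl⟩
    have hs' : (s : Ω) ∈ F.hyperfocalSubgroup p := Subgroup.mem_subgroupOf.mp hs
    have hle : F.hyperfocalSubgroup p ≤ preimageAlong θ (E.hyperfocalSubgroup p) := by
      conv_lhs => unfold FusionSystem.hyperfocalSubgroup
      rw [Subgroup.closure_le]
      rintro _ ⟨P, γ, x, hPS, hγ, rfl⟩
      haveI := finite_of_le hPS
      have hyS : (x : Ω)⁻¹ * (((γ : MulAut P) x : P) : Ω) ∈ S :=
        S.mul_mem (S.inv_mem (hPS x.2)) (hPS ((γ : MulAut P) x).2)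
      refine (mem_preimageAlong θ _ _).mpr ⟨hyS, ?_⟩
      have hA := autGroup_preserves_ker F T hT θ hker hPS
      let Φ := indHom θ hPS (F.autGroup P) hA
      have hΦ : ∀ β : F.autGroup P, Φ β ∈ E.autGroup (imageAlong θ P) := fun β =>
        indAut_mem_autGroup_of_isSaturated p hS F hF T hT θ E hE hPS β.2 (indHom_spec θ hPS _ hA β)
      let f : F.autGroup P →* E.autGroup (imageAlong θ P) := Φ.codRestrict _ hΦ
      have hfγ : f γ ∈ Cfsg.pResidual p (E.autGroup (imageAlong θ P)) :=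
        pResidual_map_le p f ⟨γ, hγ, rfl⟩
      have hspec := indHom_spec θ hPS _ hA γ x
      have e1 : (⟨(x : Ω)⁻¹ * (((γ : MulAut P) x : P) : Ω), hyS⟩ : S) =
          ⟨x, hPS x.2⟩⁻¹ * ⟨((γ : MulAut P) x : P), hPS ((γ : MulAut P) x).2⟩ := rfl
      rw [e1, map_mul, map_inv]
      apply Subgroup.subset_closure
      refine ⟨imageAlong θ P, f γ, imageHom θ hPS x, imageAlong_le θ hθ P, hfγ, ?_⟩
      have h2 := congrArg Subtype.val hspec
      rw [imageHom_coe]
      congr 1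
      exact h2.symm
    exact ((mem_preimageAlong θ _ _).mp (hle hs')).2

end Cfsg.Agent.Lib.Helper7
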