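import Mathlib
import Cfsg.Prelude.Def_FusionSystem
import Cfsg.Agent.Lib.Helper7.GroupFusion2
import Cfsg.Agent.Lib.Helper7.Fusion
import Cfsg.Agent.Lib.Lead.Conj

set_option autoImplicit false

namespace Cfsg.Agent.Lib.Helper7

open Cfsg Cfsg.FusionSystem

variable {G : Type*} [Group G]

theorem gfs_autGroup_eq (S Q : Subgroup G) (hQ : Q ≤ S) :
    (groupFusionSystem S).autGroup Q = autInducedBy ⊤ Q := by
  unfold FusionSystem.autGroup autInducedBy
  congr 1
  ext α
  constructor
  · rintro ⟨-, -, g, hg⟩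
    exact ⟨g, Subgroup.mem_top g, fun x => hg x⟩
  · rintro ⟨g, -, hg⟩
    exact ⟨hQ, fun x => hQ (α x).2, g, fun x => hg x⟩

theorem gfs_exists_sylow_autInducedBy_top [Finite G] (p : ℕ) [Fact p.Prime] (S : Sylow p G) (Q : Subgroup G)
    (hN : IsSylowIn p (normalizerIn (S : Subgroup G) Q) (Subgroup.normalizer (Q : Set G))) :
    ∃ R : Sylow p (autInducedBy ⊤ Q), (R : Subgroup (autInducedBy ⊤ Q)) =
      (autInducedBy (S : Subgroup G) Q).subgroupOf (autInducedBy ⊤ Q) := by
  have h := gfs_isSylowIn_autInducedBy_of_normalizer p S Q hN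
  exact h.exists_sylow

theorem gfs_exists_sylow_autInducedBy [Finite G] (p : ℕ) [Fact p.Prime] (S : Sylow p G) (Q : Subgroup G)
    (hN : IsSylowIn p (normalizerIn (S : Subgroup G) Q) (Subgroup.normalizer (Q : Set G)))
    (A : Subgroup (MulAut Q)) (hA : A = autInducedBy ⊤ Q) :
    ∃ R : Sylow p A, (R : Subgroup A) = (autInducedBy (S : Subgroup G) Q).subgroupOf A := by
  subst hA
  exact gfs_exists_sylow_autInducedBy_top p S Q hN

theorem gfs_isSaturated [Finite G] (p : ℕ) [Fact p.Prime] (S : Sylow p G) :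
    (groupFusionSystem (S : Subgroup G)).IsSaturated p := by
  intro P hP
  obtain ⟨g, hQS, hN⟩ := gfs_exists_conj_isSylowIn_normalizer p S P hP
  generalize hQ : P.map (MulAut.conj g).toMonoidHom = Q at hQS hN
  have hconj : (groupFusionSystem (S : Subgroup G)).IsConj P Q :=
    (gfs_isConj_iff _ _ _ hP).mpr ⟨g, hQ, hQS⟩
  have haut : (groupFusionSystem (S : Subgroup G)).IsFullyAutomized p Q := by
    exact ⟨hQS, gfs_exists_sylow_autInducedBy p S Q hN _ (gfs_autGroup_eq _ _ hQS)⟩
  refine ⟨Q, hconj, haut, hQS, ?_⟩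
  · intro P' φ hφ hrange
    obtain ⟨hP'S, hφS, g', hg'⟩ := hφ
    have hQmap : P'.map (MulAut.conj g').toMonoidHom = Q := by
      rw [← hrange]
      ext y
      constructor
      · rintro ⟨x, hx, rfl⟩
        exact ⟨⟨x, hx⟩, by rw [hg']; rfl⟩
      · rintro ⟨x, rfl⟩
        exact ⟨x, x.2, by rw [hg']; rfl⟩
    obtain ⟨h, hhC, hle⟩ := gfs_extension_conj p S P' Q g' hN
    -- extender ≤ the subgroup in the lemma
    have hext : extender (S : Subgroup G) P' φ ≤ (normalizerIn (S : Subgroup G) P') ⊓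
        (normalizerIn (S : Subgroup G) Q ⊔ Subgroup.centralizer (Q : Set G)).comap
          (MulAut.conj g').toMonoidHom := by
      unfold extender
      rw [Subgroup.closure_le]
      rintro k ⟨hkS, hkN, s, hsS, hs⟩
      refine ⟨⟨hkS, hkN⟩, ?_⟩
      show (MulAut.conj g').toMonoidHom k ∈
        normalizerIn (S : Subgroup G) Q ⊔ Subgroup.centralizer (Q : Set G)
      simp only [MulEquiv.coe_toMonoidHom, MulAut.conj_apply]
      -- conjugation by g' k g'⁻¹ and by s agree on Q
      have hagree : ∀ y ∈ Q, (g' * k * g'⁻¹) * y * (g' * k * g'⁻¹)⁻¹ = s * y * s⁻¹ := by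
        intro y hy
        rw [← hQmap] at hy
        obtain ⟨x, hx, rfl⟩ := hy
        have hkx : k * x * k⁻¹ ∈ P' := (Subgroup.mem_normalizer_iff.mp hkN x).mp hx
        have := hs ⟨x, hx⟩ hkx
        rw [hg', hg'] at this
        simp only [MulEquiv.coe_toMonoidHom, MulAut.conj_apply]
        simp only at this
        rw [← this]; group
      have hsN : s ∈ Subgroup.normalizer (Q : Set G) := by
        apply Cfsg.Agent.Lib.Lead.Conj.mem_normalizer_of_conj_mem
        intro y hy
        rw [← hagree y hy]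
        rw [← hQmap] at hy ⊢
        obtain ⟨x, hx, rfl⟩ := hy
        have hkx : k * x * k⁻¹ ∈ P' := (Subgroup.mem_normalizer_iff.mp hkN x).mp hx
        refine ⟨k * x * k⁻¹, hkx, ?_⟩
        simp only [MulEquiv.coe_toMonoidHom, MulAut.conj_apply]
        group
      have hc : s⁻¹ * (g' * k * g'⁻¹) ∈ Subgroup.centralizer (Q : Set G) := by
        rw [Subgroup.mem_centralizer_iff]
        intro y hy
        have := hagree y hy
        have e1 : s⁻¹ * (g' * k * g'⁻¹) * y =
            s⁻¹ * ((g' * k * g'⁻¹) * y * (g' * k * g'⁻¹)⁻¹) * (g' * k * g'⁻¹) := by group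
        rw [e1, this]; group
      have e : g' * k * g'⁻¹ = s * (s⁻¹ * (g' * k * g'⁻¹)) := by group
      rw [e]
      exact Subgroup.mul_mem_sup ⟨hsS, hsN⟩ hc
    have hextS : extender (S : Subgroup G) P' φ ≤ S := hext.trans (inf_le_left.trans inf_le_left)
    refine ⟨conjHom (extender (S : Subgroup G) P' φ) (h * g'), ⟨hextS, ?_, h * g', fun x => rfl⟩, ?_⟩
    · intro x
      exact hle ⟨x, hext x.2, rfl⟩
    · intro x hxP hxN
      show h * g' * x * (h * g')⁻¹ = φ ⟨x, hxP⟩
      rw [hg']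
      have hy : g' * x * g'⁻¹ ∈ Q := by rw [← hQmap]; exact ⟨x, hxP, rfl⟩
      have := Subgroup.mem_centralizer_iff.mp hhC _ hy
      simp only
      calc h * g' * x * (h * g')⁻¹ = h * (g' * x * g'⁻¹) * h⁻¹ := by group
        _ = (g' * x * g'⁻¹) * h * h⁻¹ := by rw [← this]
        _ = g' * x * g'⁻¹ := by group

end Cfsg.Agent.Lib.Helper7
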