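import Mathlib
import Cfsg.Prelude.Def_FusionSystem
import Cfsg.Agent.Lib.Helper7.FusionCore

set_option autoImplicit false

namespace Cfsg.Agent.Lib.Helper7

open Cfsg Cfsg.FusionSystem

variable {Ω : Type*} [Group Ω] {S : Subgroup Ω}

/-- If `ψ` on `P ⊔ Q` extends `φ` (with values in `P'`) and carries `Q` into `Q`, then `ψ` has values in
`P' ⊔ Q`. -/
theorem ext_values_mem_sup {P P' Q : Subgroup Ω} (φ : P →* Ω) (ψ : ↥(P ⊔ Q) →* Ω)
    (hext : ∀ x : P, ψ (Subgroup.inclusion le_sup_left x) = φ x)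
    (hQ : (Q.subgroupOf (P ⊔ Q)).map ψ ≤ Q) (hφ : ∀ x : P, φ x ∈ P') :
    ∀ x : ↥(P ⊔ Q), ψ x ∈ P' ⊔ Q := by
  have h1 : (⊤ : Subgroup ↥(P ⊔ Q)) = P.subgroupOf (P ⊔ Q) ⊔ Q.subgroupOf (P ⊔ Q) := by
    rw [← Subgroup.subgroupOf_sup le_sup_left le_sup_right, Subgroup.subgroupOf_self]
  have h2 : (⊤ : Subgroup ↥(P ⊔ Q)).map ψ ≤ P' ⊔ Q := by
    rw [h1, Subgroup.map_sup]
    apply sup_le_sup _ hQ
    rintro _ ⟨r, hr, rfl⟩
    have hrP : (r : Ω) ∈ P := Subgroup.mem_subgroupOf.mp hr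
    have := hext ⟨r, hrP⟩
    have e : Subgroup.inclusion le_sup_left (⟨r, hrP⟩ : P) = r := rfl
    rw [e] at this
    rw [this]
    exact hφ _
  intro x
  exact h2 ⟨x, Subgroup.mem_top x, rfl⟩

/-- Existence of the normalizer fusion system. -/
theorem exists_normalizerSystem (F : FusionSystem S) (Q : Subgroup Ω) (hQ : Q ≤ S) :
    ∃ E : FusionSystem (normalizerIn S Q), F.IsNormalizerSystem Q E := by
  refine ⟨{ Hom := fun P => F.normalizerHom Q P
            le_of_mem := fun h => ⟨h.2.1, h.2.2.1⟩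
            injective_of_mem := fun h => F.injective_of_mem h.1
            conj_mem := ?_
            comp_mem := ?_
            inv_mem := ?_ }, fun P => rfl⟩
  · -- conj_mem
    intro P g hP hg
    have hgS : g ∈ S := hg.1
    have hgN : g ∈ Subgroup.normalizer (Q : Set Ω) := hg.2
    have hPS : P ≤ S := hP.trans inf_le_left
    refine ⟨F.conj_mem hPS hgS, hP, fun x => ?_, conjHom (P ⊔ Q) g,
      F.conj_mem (sup_le hPS hQ) hgS, fun x => rfl, ?_⟩
    · exact Subgroup.mul_mem _ (Subgroup.mul_mem _ hg (hP x.2)) (Subgroup.inv_mem _ hg)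
    · ext y
      constructor
      · rintro ⟨r, hr, rfl⟩
        exact (Subgroup.mem_normalizer_iff.mp hgN _).mp (Subgroup.mem_subgroupOf.mp hr)
      · intro hy
        have hy' : g⁻¹ * y * g ∈ Q := by
          have := (Subgroup.mem_normalizer_iff.mp (Subgroup.inv_mem _ hgN) y).mp hy
          simpa using this
        refine ⟨⟨g⁻¹ * y * g, Subgroup.mem_sup_right hy'⟩, Subgroup.mem_subgroupOf.mpr hy', ?_⟩
        show g * (g⁻¹ * y * g) * g⁻¹ = y
        group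
  · -- comp_mem
    rintro P P' φ ψ ⟨hφ, hP, hφN, φ', hφ', eφ, mφ⟩ ⟨hψ, hP', hψN, ψ', hψ', eψ, mψ⟩ h
    have hval := ext_values_mem_sup φ φ' eφ mφ.le h
    refine ⟨F.comp_mem hφ hψ h, hP, fun x => hψN _, ψ'.comp (φ'.codRestrict (P' ⊔ Q) hval),
      F.comp_mem hφ' hψ' hval, fun x => ?_, ?_⟩
    · show ψ' ⟨φ' (Subgroup.inclusion le_sup_left x), _⟩ = ψ ⟨φ x, _⟩
      rw [← eψ]
      congr 1
      apply Subtype.ext
      exact eφ x
    · ext y
      constructor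
      · rintro ⟨r, hr, rfl⟩
        have h1 : φ' r ∈ Q := mφ.le ⟨r, hr, rfl⟩
        exact mψ.le ⟨⟨φ' r, hval r⟩, Subgroup.mem_subgroupOf.mpr h1, rfl⟩
      · intro hy
        obtain ⟨r, hr, rfl⟩ := mψ.ge hy
        have hrQ : (r : Ω) ∈ Q := Subgroup.mem_subgroupOf.mp hr
        obtain ⟨r', hr', hrr'⟩ := mφ.ge hrQ
        refine ⟨r', hr', ?_⟩
        show ψ' ⟨φ' r', _⟩ = ψ' r
        congr 1
        exact Subtype.ext hrr'
  · -- inv_mem
    rintro P φ ⟨hφ, hP, hφN, φ', hφ', eφ, mφ⟩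
    obtain ⟨χ, hχ, hχφ⟩ := F.inv_mem hφ'
    have hle2 : φ.range ⊔ Q ≤ φ'.range := by
      apply sup_le
      · rintro _ ⟨x, rfl⟩
        exact ⟨Subgroup.inclusion le_sup_left x, eφ x⟩
      · intro y hy
        obtain ⟨r, -, rfl⟩ := mφ.ge hy
        exact ⟨r, rfl⟩
    have hle1 : φ.range ≤ φ'.range := le_sup_left.trans hle2
    have key : ∀ x : P, χ ⟨φ x, hle1 (MonoidHom.mem_range.mpr ⟨x, rfl⟩)⟩ = x := by
      intro x
      have := hχφ (Subgroup.inclusion le_sup_left x)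
      have e : (x : Ω) = ((Subgroup.inclusion (le_sup_left : P ≤ P ⊔ Q) x : ↥(P ⊔ Q)) : Ω) := rfl
      rw [e, ← this]
      congr 1
      exact Subtype.ext (eφ x).symm
    refine ⟨χ.comp (Subgroup.inclusion hle1), ⟨fs_restrict_mem F hle1 hχ, ?_, ?_,
      χ.comp (Subgroup.inclusion hle2), fs_restrict_mem F hle2 hχ, fun x => rfl, ?_⟩, fun x => key x⟩
    · rintro _ ⟨x, rfl⟩
      exact hφN x
    · rintro ⟨_, x, rfl⟩
      show χ ⟨φ x, _⟩ ∈ normalizerIn S Q
      rw [key x]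
      exact hP x.2
    · ext y
      constructor
      · rintro ⟨r, hr, rfl⟩
        have hrQ : (r : Ω) ∈ Q := Subgroup.mem_subgroupOf.mp hr
        obtain ⟨r', hr', hrr'⟩ := mφ.ge hrQ
        have : χ ⟨(r : Ω), hle2 r.2⟩ = r' := by
          rw [← hχφ r']
          congr 1
          exact Subtype.ext hrr'.symm
        show χ ⟨(r : Ω), _⟩ ∈ Q
        rw [this]
        exact Subgroup.mem_subgroupOf.mp hr'
      · intro hy
        have h1 : φ' ⟨y, Subgroup.mem_sup_right hy⟩ ∈ Q :=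
          mφ.le ⟨⟨y, Subgroup.mem_sup_right hy⟩, Subgroup.mem_subgroupOf.mpr hy, rfl⟩
        refine ⟨⟨φ' ⟨y, Subgroup.mem_sup_right hy⟩, Subgroup.mem_sup_right h1⟩,
          Subgroup.mem_subgroupOf.mpr h1, ?_⟩
        exact hχφ ⟨y, Subgroup.mem_sup_right hy⟩

/-- Existence of the centralizer fusion system. -/
theorem exists_centralizerSystem (F : FusionSystem S) (Q : Subgroup Ω) (hQ : Q ≤ S) :
    ∃ E : FusionSystem (centralizerIn S Q), F.IsCentralizerSystem Q E := by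
  have hmapQ : ∀ {P : Subgroup Ω} (ψ : ↥(P ⊔ Q) →* Ω),
      (∀ x : Q, ψ (Subgroup.inclusion le_sup_right x) = x) → (Q.subgroupOf (P ⊔ Q)).map ψ ≤ Q := by
    rintro P ψ h _ ⟨r, hr, rfl⟩
    have hrQ : (r : Ω) ∈ Q := Subgroup.mem_subgroupOf.mp hr
    have := h ⟨r, hrQ⟩
    have e : Subgroup.inclusion (le_sup_right : Q ≤ P ⊔ Q) ⟨r, hrQ⟩ = r := rfl
    rw [e] at this
    rw [this]
    exact hrQ
  refine ⟨{ Hom := fun P => F.centralizerHom Q P
            le_of_mem := fun h => ⟨h.2.1, h.2.2.1⟩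
            injective_of_mem := fun h => F.injective_of_mem h.1
            conj_mem := ?_
            comp_mem := ?_
            inv_mem := ?_ }, fun P => rfl⟩
  · -- conj_mem
    intro P g hP hg
    have hgS : g ∈ S := hg.1
    have hgC : g ∈ Subgroup.centralizer (Q : Set Ω) := hg.2
    have hPS : P ≤ S := hP.trans inf_le_left
    refine ⟨F.conj_mem hPS hgS, hP, fun x => ?_, conjHom (P ⊔ Q) g,
      F.conj_mem (sup_le hPS hQ) hgS, fun x => rfl, ?_⟩
    · exact Subgroup.mul_mem _ (Subgroup.mul_mem _ hg (hP x.2)) (Subgroup.inv_mem _ hg)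
    · intro x
      show g * (x : Ω) * g⁻¹ = x
      have := (Subgroup.mem_centralizer_iff.mp hgC) x x.2
      rw [← this]
      group
  · -- comp_mem
    rintro P P' φ ψ ⟨hφ, hP, hφN, φ', hφ', eφ, mφ⟩ ⟨hψ, hP', hψN, ψ', hψ', eψ, mψ⟩ h
    have hval := ext_values_mem_sup φ φ' eφ (hmapQ φ' mφ) h
    refine ⟨F.comp_mem hφ hψ h, hP, fun x => hψN _, ψ'.comp (φ'.codRestrict (P' ⊔ Q) hval),
      F.comp_mem hφ' hψ' hval, fun x => ?_, ?_⟩
    · show ψ' ⟨φ' (Subgroup.inclusion le_sup_left x), _⟩ = ψ ⟨φ x, _⟩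
      rw [← eψ]
      congr 1
      apply Subtype.ext
      exact eφ x
    · intro x
      show ψ' ⟨φ' (Subgroup.inclusion le_sup_right x), _⟩ = x
      rw [← mψ x]
      congr 1
      apply Subtype.ext
      exact mφ x
  · -- inv_mem
    rintro P φ ⟨hφ, hP, hφN, φ', hφ', eφ, mφ⟩
    obtain ⟨χ, hχ, hχφ⟩ := F.inv_mem hφ'
    have hle2 : φ.range ⊔ Q ≤ φ'.range := by
      apply sup_le
      · rintro _ ⟨x, rfl⟩
        exact ⟨Subgroup.inclusion le_sup_left x, eφ x⟩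
      · intro y hy
        exact ⟨Subgroup.inclusion le_sup_right ⟨y, hy⟩, mφ ⟨y, hy⟩⟩
    have hle1 : φ.range ≤ φ'.range := le_sup_left.trans hle2
    have key : ∀ x : P, χ ⟨φ x, hle1 (MonoidHom.mem_range.mpr ⟨x, rfl⟩)⟩ = x := by
      intro x
      have := hχφ (Subgroup.inclusion le_sup_left x)
      have e : (x : Ω) = ((Subgroup.inclusion (le_sup_left : P ≤ P ⊔ Q) x : ↥(P ⊔ Q)) : Ω) := rfl
      rw [e, ← this]
      congr 1
      exact Subtype.ext (eφ x).symm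
    refine ⟨χ.comp (Subgroup.inclusion hle1), ⟨fs_restrict_mem F hle1 hχ, ?_, ?_,
      χ.comp (Subgroup.inclusion hle2), fs_restrict_mem F hle2 hχ, fun x => rfl, ?_⟩, fun x => key x⟩
    · rintro _ ⟨x, rfl⟩
      exact hφN x
    · rintro ⟨_, x, rfl⟩
      show χ ⟨φ x, _⟩ ∈ centralizerIn S Q
      rw [key x]
      exact hP x.2
    · intro x
      show χ ⟨(x : Ω), _⟩ = x
      have := hχφ (Subgroup.inclusion le_sup_right x)
      have e : (x : Ω) = ((Subgroup.inclusion (le_sup_right : Q ≤ P ⊔ Q) x : ↥(P ⊔ Q)) : Ω) := rfl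
      conv_rhs => rw [e, ← this]
      congr 1
      exact Subtype.ext (mφ x).symm

end Cfsg.Agent.Lib.Helper7
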