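import Mathlib
import Cfsg.Prelude.Def_FusionSystem
import Cfsg.Agent.Lib.Helper7.KNormalizer
import Cfsg.Agent.Lib.Helper7.FusionNormalizer

set_option autoImplicit false

namespace Cfsg.Agent.Lib.Helper7

open Cfsg Cfsg.FusionSystem

variable {Ω : Type*} [Group Ω] {S : Subgroup Ω}

/-- Automorphisms of `P ⊔ Q` stabilizing `P` and inducing an element of `K` on `Q`. -/
def stabA (P Q : Subgroup Ω) (K : Subgroup (MulAut Q)) : Subgroup (MulAut ↥(P ⊔ Q)) where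
  carrier := {α | (∀ u : ↥(P ⊔ Q), (u : Ω) ∈ P ↔ ((α u : ↥(P ⊔ Q)) : Ω) ∈ P) ∧
     ∃ κ ∈ K, ∀ x : Q, ((α (Subgroup.inclusion le_sup_right x) : ↥(P ⊔ Q)) : Ω) = κ x}
  one_mem' := ⟨fun u => Iff.rfl, 1, K.one_mem, fun x => rfl⟩
  mul_mem' := by
    rintro a b ⟨haP, ka, hka, hae⟩ ⟨hbP, kb, hkb, hbe⟩
    refine ⟨fun u => (hbP u).trans (haP (b u)), ka * kb, K.mul_mem hka hkb, fun x => ?_⟩
    have h1 : b (Subgroup.inclusion le_sup_right x) = Subgroup.inclusion le_sup_right (kb x) :=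
      Subtype.ext (hbe x)
    rw [MulAut.mul_apply, h1, hae]; rfl
  inv_mem' := by
    rintro a ⟨haP, ka, hka, hae⟩
    refine ⟨fun u => ?_, ka⁻¹, K.inv_mem hka, fun x => ?_⟩
    · have := haP (a⁻¹ u)
      rw [MulAut.apply_inv_self] at this
      exact this.symm
    · have h1 : a (Subgroup.inclusion le_sup_right (ka⁻¹ x)) = Subgroup.inclusion le_sup_right x := by
        apply Subtype.ext
        rw [hae]
        simp
      rw [← h1, MulAut.inv_apply_self]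
      rfl

theorem mem_stabA {P Q : Subgroup Ω} {K : Subgroup (MulAut Q)} (α : MulAut ↥(P ⊔ Q)) :
    α ∈ stabA P Q K ↔ (∀ u : ↥(P ⊔ Q), (u : Ω) ∈ P ↔ ((α u : ↥(P ⊔ Q)) : Ω) ∈ P) ∧
     ∃ κ ∈ K, ∀ x : Q, ((α (Subgroup.inclusion le_sup_right x) : ↥(P ⊔ Q)) : Ω) = κ x := Iff.rfl

/-- Restriction to `P` of the automorphisms in `stabA P Q K`. -/
def resP (P Q : Subgroup Ω) (K : Subgroup (MulAut Q)) : ↥(stabA P Q K) →* MulAut P where
  toFun α :=
    { toFun := fun x => ⟨((α : MulAut ↥(P ⊔ Q)) (Subgroup.inclusion le_sup_left x) : Ω),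
        (α.2.1 _).mp x.2⟩
      invFun := fun x => ⟨((α : MulAut ↥(P ⊔ Q))⁻¹ (Subgroup.inclusion le_sup_left x) : Ω),
        (((stabA P Q K).inv_mem α.2).1 _).mp x.2⟩
      left_inv := fun x => by
        apply Subtype.ext
        show (((α : MulAut ↥(P ⊔ Q))⁻¹ ((α : MulAut ↥(P ⊔ Q)) (Subgroup.inclusion le_sup_left x)) :
          ↥(P ⊔ Q)) : Ω) = x
        rw [MulAut.inv_apply_self]; rfl
      right_inv := fun x => by
        apply Subtype.ext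
        show (((α : MulAut ↥(P ⊔ Q)) ((α : MulAut ↥(P ⊔ Q))⁻¹ (Subgroup.inclusion le_sup_left x)) :
          ↥(P ⊔ Q)) : Ω) = x
        rw [MulAut.apply_inv_self]; rfl
      map_mul' := fun x y => by
        apply Subtype.ext
        show (((α : MulAut ↥(P ⊔ Q)) (Subgroup.inclusion le_sup_left (x * y)) : ↥(P ⊔ Q)) : Ω) =
          ((α : MulAut ↥(P ⊔ Q)) (Subgroup.inclusion le_sup_left x) : ↥(P ⊔ Q)) *
          ((α : MulAut ↥(P ⊔ Q)) (Subgroup.inclusion le_sup_left y) : ↥(P ⊔ Q))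
        rw [map_mul, map_mul]; rfl }
  map_one' := by ext x; rfl
  map_mul' := fun α β => by
    ext x
    rfl

theorem resP_apply {P Q : Subgroup Ω} {K : Subgroup (MulAut Q)} (α : ↥(stabA P Q K)) (x : P) :
    ((resP P Q K α x : P) : Ω) =
      ((α : MulAut ↥(P ⊔ Q)) (Subgroup.inclusion le_sup_left x) : ↥(P ⊔ Q)) := rfl

/-- The maps of the `K`-normalizer system `N_F^K(Q)`. -/
def kNormHom (F : FusionSystem S) (Q : Subgroup Ω) (K : Subgroup (MulAut Q)) (P : Subgroup Ω) :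
    Set (P →* Ω) :=
  {φ | φ ∈ F.Hom P ∧ P ≤ kNorm S K Q.subtype ∧ (∀ x : P, φ x ∈ kNorm S K Q.subtype) ∧
    ∃ ψ ∈ F.Hom (P ⊔ Q), (∀ x : P, ψ (Subgroup.inclusion le_sup_left x) = φ x) ∧
      ∃ κ ∈ K, ∀ x : Q, ψ (Subgroup.inclusion le_sup_right x) = κ x}

theorem kNorm_subtype_le_normalizer {Q : Subgroup Ω} (K : Subgroup (MulAut Q)) :
    kNorm S K Q.subtype ≤ Subgroup.normalizer (Q : Set Ω) := by
  have := kNorm_le_normalizer (S := S) K Q.subtype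
  rwa [Subgroup.range_subtype] at this

theorem kNorm_stabA_subtype [Finite S] {P Q : Subgroup Ω} (K : Subgroup (MulAut Q))
    (hPS : P ≤ S) :
    kNorm S (stabA P Q K) (P ⊔ Q).subtype = normalizerIn (kNorm S K Q.subtype) P := by
  haveI : Finite P := finite_of_le hPS
  ext g
  constructor
  · rintro ⟨hgS, α, ⟨hαP, κ, hκ, hακ⟩, hα⟩
    refine ⟨⟨hgS, κ, hκ, fun x => ?_⟩, ?_⟩
    · show ((κ x : Q) : Ω) = g * x * g⁻¹
      rw [← hακ x]
      exact hα (Subgroup.inclusion le_sup_right x)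
    · apply mem_normalizer_of_conj_mem_finite
      intro r hr
      have h1 := (hαP ⟨r, Subgroup.mem_sup_left hr⟩).mp hr
      have h2 := hα ⟨r, Subgroup.mem_sup_left hr⟩
      have h3 : ((α ⟨r, Subgroup.mem_sup_left hr⟩ : ↥(P ⊔ Q)) : Ω) = g * r * g⁻¹ := h2
      rw [← h3]; exact h1
  · rintro ⟨hgN, hgP⟩
    obtain ⟨hgS, κ, hκ, hκe⟩ := id hgN
    have hgQ : g ∈ Subgroup.normalizer (Q : Set Ω) := kNorm_subtype_le_normalizer K hgN
    have hgU : g ∈ Subgroup.normalizer ((P ⊔ Q : Subgroup Ω) : Set Ω) :=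
      Subgroup.normalizer_inf_normalizer_le_normalizer_sup P Q ⟨hgP, hgQ⟩
    refine ⟨hgS, (P ⊔ Q).normalizerMonoidHom ⟨g, hgU⟩, ⟨fun u => ?_, κ, hκ, fun x => ?_⟩,
      fun u => rfl⟩
    · exact Subgroup.mem_normalizer_iff.mp hgP u
    · exact (hκe x).symm


/-- Values of a map on `P ⊔ Q` lie in `W` as soon as the values on `P` and on `Q` do. -/
theorem values_mem_of_sup {P Q W : Subgroup Ω} (χ : ↥(P ⊔ Q) →* Ω)
    (hP : ∀ x : P, χ (Subgroup.inclusion le_sup_left x) ∈ W)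
    (hQ : ∀ x : Q, χ (Subgroup.inclusion le_sup_right x) ∈ W) : ∀ u : ↥(P ⊔ Q), χ u ∈ W := by
  have h1 : (⊤ : Subgroup ↥(P ⊔ Q)) = P.subgroupOf (P ⊔ Q) ⊔ Q.subgroupOf (P ⊔ Q) := by
    rw [← Subgroup.subgroupOf_sup le_sup_left le_sup_right, Subgroup.subgroupOf_self]
  have h2 : (⊤ : Subgroup ↥(P ⊔ Q)).map χ ≤ W := by
    rw [h1, Subgroup.map_sup]
    apply sup_le
    · rintro _ ⟨r, hr, rfl⟩
      exact hP ⟨r, Subgroup.mem_subgroupOf.mp hr⟩
    · rintro _ ⟨r, hr, rfl⟩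
      exact hQ ⟨r, Subgroup.mem_subgroupOf.mp hr⟩
  intro x
  exact h2 ⟨x, Subgroup.mem_top x, rfl⟩

/-- The key estimate: for `P` fully normalized in the `K`-normalizer system, the pair `(P, Q)` is
"fully normalized" among all its images under maps of `F`. -/
theorem card_kNorm_stabA_le [Finite S] (p : ℕ) [Fact p.Prime] (hS : IsPGroup p S)
    (F : FusionSystem S) {Q : Subgroup Ω} (K : Subgroup (MulAut Q)) (hrec : F.IsReceptive Q)
    (hsyl : IsSylowIn p (autInducedBy S Q ⊓ K) (F.autGroup Q ⊓ K))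
    (E : FusionSystem (kNorm S K Q.subtype)) (hE : ∀ P : Subgroup Ω, E.Hom P = kNormHom F Q K P)
    {P : Subgroup Ω} (hP : E.IsFullyNormalized P) (χ : ↥(P ⊔ Q) →* Ω) (hχ : χ ∈ F.Hom (P ⊔ Q)) :
    Nat.card (kNorm S (stabA P Q K) χ) ≤ Nat.card (normalizerIn (kNorm S K Q.subtype) P) := by
  have hPN : P ≤ kNorm S K Q.subtype := hP.1
  have hQS : Q ≤ S := hrec.1
  have hPS : P ≤ S := hPN.trans (kNorm_le K _)
  set φ : Q →* Ω := χ.comp (Subgroup.inclusion le_sup_right) with hφdef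
  have hφ : φ ∈ F.Hom Q := fs_restrict_mem F le_sup_right hχ
  obtain ⟨W, ψ, hψ, hNW, hrW, κ, hκ, hψφ⟩ := exists_kNorm_extension p hS F K hrec hsyl φ hφ
  -- `χ(P)` lies in the `K`-normalizer of `φ(Q)`
  have hχP : ∀ x : P, χ (Subgroup.inclusion le_sup_left x) ∈ kNorm S K φ := by
    intro x
    obtain ⟨-, κx, hκx, hx⟩ := hPN x.2
    refine ⟨(F.le_of_mem hχ).2 _, κx, hκx, fun q => ?_⟩
    have e1 : (Subgroup.inclusion le_sup_right (κx q) : ↥(P ⊔ Q)) =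
        Subgroup.inclusion le_sup_left x * Subgroup.inclusion le_sup_right q *
          (Subgroup.inclusion le_sup_left x)⁻¹ := Subtype.ext (hx q)
    show χ (Subgroup.inclusion le_sup_right (κx q)) = _
    rw [e1, map_mul, map_mul, map_inv]
    rfl
  have hχW : ∀ u : ↥(P ⊔ Q), χ u ∈ W :=
    values_mem_of_sup χ (fun x => hNW (hχP x)) (fun x => hrW ⟨x, rfl⟩)
  set ξ : ↥(P ⊔ Q) →* Ω := ψ.comp (χ.codRestrict W hχW) with hξdef
  have hξ : ξ ∈ F.Hom (P ⊔ Q) := F.comp_mem hχ hψ hχW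
  have hξQ : ∀ x : Q, ξ (Subgroup.inclusion le_sup_right x) = κ x := fun x => hψφ x
  -- conjugation by elements of `kNorm` on `Q` in terms of `K`
  have hKconj : ∀ (y : Ω) (κy : MulAut Q), κy ∈ K → y ∈ S →
      (∀ q : Q, y * ξ (Subgroup.inclusion le_sup_right q) * y⁻¹ =
        ξ (Subgroup.inclusion le_sup_right (κy q))) → y ∈ kNorm S K Q.subtype := by
    intro y κy hκy hyS hy
    refine ⟨hyS, κ * κy * κ⁻¹, K.mul_mem (K.mul_mem hκ.2 hκy) (K.inv_mem hκ.2), fun q => ?_⟩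
    show (((κ * κy * κ⁻¹) q : Q) : Ω) = y * (q : Ω) * y⁻¹
    have h1 := hy (κ⁻¹ q)
    rw [hξQ, hξQ, MulAut.apply_inv_self] at h1
    rw [h1]
    rfl
  set φP : P →* Ω := ξ.comp (Subgroup.inclusion le_sup_left) with hφPdef
  have hφPF : φP ∈ F.Hom P := fs_restrict_mem F le_sup_left hξ
  have hφPN : ∀ x : P, φP x ∈ kNorm S K Q.subtype := by
    intro x
    obtain ⟨-, κx, hκx, hx⟩ := hPN x.2
    apply hKconj _ κx hκx ((F.le_of_mem hφPF).2 x)
    intro q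
    have e1 : (Subgroup.inclusion le_sup_right (κx q) : ↥(P ⊔ Q)) =
        Subgroup.inclusion le_sup_left x * Subgroup.inclusion le_sup_right q *
          (Subgroup.inclusion le_sup_left x)⁻¹ := Subtype.ext (hx q)
    rw [e1, map_mul, map_mul, map_inv]
    rfl
  have hφPE : φP ∈ E.Hom P := by
    rw [hE]
    exact ⟨hφPF, hPN, hφPN, ξ, hξ, fun x => rfl, κ, hκ.2, hξQ⟩
  have hcard := hP.2 φP.range ⟨φP, hφPE, rfl⟩
  refine le_trans ?_ hcard
  -- the `stabA`-normalizer of `χ` maps injectively into `N_N(P'')` via `ψ`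
  have hXW : kNorm S (stabA P Q K) χ ≤ W := by
    rintro h ⟨hhS, α, ⟨hαP, κα, hκα, hακ⟩, hαe⟩
    apply hNW
    refine ⟨hhS, κα, hκα, fun x => ?_⟩
    have e1 : (Subgroup.inclusion le_sup_right (κα x) : ↥(P ⊔ Q)) =
        α (Subgroup.inclusion le_sup_right x) := Subtype.ext (hακ x).symm
    show χ (Subgroup.inclusion le_sup_right (κα x)) = _
    rw [e1, hαe]
    rfl
  have hconjξ : ∀ (h : Ω) (hh : h ∈ W) (α : MulAut ↥(P ⊔ Q)),
      (∀ u, χ (α u) = h * χ u * h⁻¹) → ∀ u, ψ ⟨h, hh⟩ * ξ u * (ψ ⟨h, hh⟩)⁻¹ = ξ (α u) := by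
    intro h hh α hαe u
    show ψ ⟨h, hh⟩ * ψ ⟨χ u, hχW u⟩ * (ψ ⟨h, hh⟩)⁻¹ = ψ ⟨χ (α u), hχW (α u)⟩
    rw [← map_inv, ← map_mul, ← map_mul]
    congr 1
    apply Subtype.ext
    exact (hαe u).symm
  haveI : Finite φP.range :=
    finite_of_le (S := S) (by rintro _ ⟨x, rfl⟩; exact (F.le_of_mem hφPF).2 x)
  have hmem : ∀ h : kNorm S (stabA P Q K) χ,
      ψ ⟨h, hXW h.2⟩ ∈ normalizerIn (kNorm S K Q.subtype) φP.range := by
    rintro ⟨h, hh⟩
    obtain ⟨hhS, α, ⟨hαP, κα, hκα, hακ⟩, hαe⟩ := id hh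
    have hc := hconjξ h (hXW hh) α hαe
    refine ⟨?_, ?_⟩
    · apply hKconj _ κα hκα ((F.le_of_mem hψ).2 _)
      intro q
      rw [hc]
      congr 1
      exact Subtype.ext (hακ q)
    · apply mem_normalizer_of_conj_mem_finite
      rintro _ ⟨x, rfl⟩
      show ψ ⟨h, _⟩ * ξ (Subgroup.inclusion le_sup_left x) * (ψ ⟨h, _⟩)⁻¹ ∈ φP.range
      rw [hc]
      have hx' := (hαP (Subgroup.inclusion le_sup_left x)).mp x.2
      refine ⟨⟨_, hx'⟩, ?_⟩
      show ξ _ = ξ _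
      congr 1
  haveI : Finite (normalizerIn (kNorm S K Q.subtype) φP.range) :=
    finite_of_le (S := S) (inf_le_left.trans (kNorm_le K _))
  apply Nat.card_le_card_of_injective
    (fun h : kNorm S (stabA P Q K) χ =>
      (⟨ψ ⟨h, hXW h.2⟩, hmem h⟩ : normalizerIn (kNorm S K Q.subtype) φP.range))
  intro h₁ h₂ h12
  have h3 : ψ ⟨h₁, hXW h₁.2⟩ = ψ ⟨h₂, hXW h₂.2⟩ := congrArg Subtype.val h12
  have h4 := F.injective_of_mem hψ h3
  have h5 : (h₁ : Ω) = h₂ := congrArg (fun w : W => (w : Ω)) h4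
  exact Subtype.ext h5


theorem receptive_sylow_sup [Finite S] (p : ℕ) [Fact p.Prime] (hS : IsPGroup p S)
    (F : FusionSystem S) (hF : F.IsSaturated p) {Q : Subgroup Ω} (K : Subgroup (MulAut Q))
    (hrec : F.IsReceptive Q)
    (hsyl : IsSylowIn p (autInducedBy S Q ⊓ K) (F.autGroup Q ⊓ K))
    (E : FusionSystem (kNorm S K Q.subtype)) (hE : ∀ P : Subgroup Ω, E.Hom P = kNormHom F Q K P)
    {P : Subgroup Ω} (hP : E.IsFullyNormalized P) :
    F.IsReceptive (P ⊔ Q) ∧ IsSylowIn p (autInducedBy S (P ⊔ Q) ⊓ stabA P Q K)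
      (F.autGroup (P ⊔ Q) ⊓ stabA P Q K) := by
  have hPS : P ≤ S := hP.1.trans (kNorm_le K _)
  apply receptive_sylow_of_fully_kNormalized p hS F hF (sup_le hPS hrec.1)
  intro χ hχ
  rw [kNorm_stabA_subtype K hPS]
  exact card_kNorm_stabA_le p hS F K hrec hsyl E hE hP χ hχ

/-- Elements of `Aut_S(P ⊔ Q) ∩ stabA` restrict to elements of `Aut_N(P)`. -/
theorem resP_mem_autInducedBy [Finite S] {P Q : Subgroup Ω} (K : Subgroup (MulAut Q)) (hPS : P ≤ S)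
    (α : ↥(stabA P Q K)) (hα : (α : MulAut ↥(P ⊔ Q)) ∈ autInducedBy S (P ⊔ Q)) :
    resP P Q K α ∈ autInducedBy (kNorm S K Q.subtype) P := by
  obtain ⟨g, hgS, hg⟩ := (mem_autInducedBy_iff _ _ _).mp hα
  have hgN : g ∈ kNorm S (stabA P Q K) (P ⊔ Q).subtype := ⟨hgS, α, α.2, hg⟩
  rw [kNorm_stabA_subtype K hPS] at hgN
  exact (mem_autInducedBy_iff _ _ _).mpr ⟨g, hgN.1, fun x => hg _⟩

/-- Elements of `Aut_N(P)` are restrictions of elements of `Aut_S(P ⊔ Q) ∩ stabA`. -/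
theorem exists_resP_eq_of_mem_autInducedBy [Finite S] {P Q : Subgroup Ω} (K : Subgroup (MulAut Q))
    (hPS : P ≤ S) (β : MulAut P) (hβ : β ∈ autInducedBy (kNorm S K Q.subtype) P) :
    ∃ α : ↥(stabA P Q K), (α : MulAut ↥(P ⊔ Q)) ∈ autInducedBy S (P ⊔ Q) ∧ resP P Q K α = β := by
  haveI : Finite P := finite_of_le hPS
  obtain ⟨g, hgN, hg⟩ := (mem_autInducedBy_iff _ _ _).mp hβ
  have hgP : g ∈ Subgroup.normalizer (P : Set Ω) := by
    apply mem_normalizer_of_conj_mem_finite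
    intro r hr
    rw [← hg ⟨r, hr⟩]; exact (β ⟨r, hr⟩).2
  have hgN' : g ∈ kNorm S (stabA P Q K) (P ⊔ Q).subtype := by
    rw [kNorm_stabA_subtype K hPS]; exact ⟨hgN, hgP⟩
  obtain ⟨hgS, α, hα, hαe⟩ := hgN'
  refine ⟨⟨α, hα⟩, (mem_autInducedBy_iff _ _ _).mpr ⟨g, hgS, hαe⟩, ?_⟩
  ext x
  rw [resP_apply, hg]
  exact hαe _

theorem IsSylowIn.of_le_mid {G : Type*} [Group G] [Finite G] {p : ℕ} [Fact p.Prime]
    {T A A₂ : Subgroup G} (hT : IsSylowIn p T A) (h1 : T ≤ A₂) (h2 : A₂ ≤ A) :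
    IsSylowIn p T A₂ := by
  have hp : p.Prime := Fact.out
  refine ⟨h1, ?_⟩
  rw [hT.2]
  congr 1
  apply le_antisymm
  · have hd : p ^ (Nat.card A).factorization p ∣ Nat.card A₂ := by
      rw [← hT.2]; exact Subgroup.card_dvd_of_le h1
    exact (hp.pow_dvd_iff_le_factorization Nat.card_pos.ne').mp hd
  · exact (Nat.factorization_le_iff_dvd Nat.card_pos.ne' Nat.card_pos.ne').mpr
      (Subgroup.card_dvd_of_le h2) p


/-- An automorphism of `P` in the `K`-normalizer system extends to an element of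
`Aut_F(P ⊔ Q) ∩ stabA`. -/
theorem exists_stabA_of_mem_autGroup [Finite S] (F : FusionSystem S) {Q : Subgroup Ω}
    (K : Subgroup (MulAut Q)) (hQS : Q ≤ S)
    (E : FusionSystem (kNorm S K Q.subtype)) (hE : ∀ P : Subgroup Ω, E.Hom P = kNormHom F Q K P)
    {P : Subgroup Ω} (hPN : P ≤ kNorm S K Q.subtype) (β : MulAut P) (hβ : β ∈ E.autGroup P) :
    ∃ α : MulAut ↥(P ⊔ Q), α ∈ F.autGroup (P ⊔ Q) ∧ ∃ hα : α ∈ stabA P Q K,
      resP P Q K ⟨α, hα⟩ = β := by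
  have hPS : P ≤ S := hPN.trans (kNorm_le K _)
  have hUS : P ⊔ Q ≤ S := sup_le hPS hQS
  haveI : Finite ↥(P ⊔ Q) := finite_of_le hUS
  rw [mem_autGroup_iff E hPN, hE] at hβ
  obtain ⟨hβF, -, -, ψ, hψ, hext, κ, hκ, hψκ⟩ := hβ
  have hmapQ : (Q.subgroupOf (P ⊔ Q)).map ψ ≤ Q := by
    rintro _ ⟨r, hr, rfl⟩
    have := hψκ ⟨r, Subgroup.mem_subgroupOf.mp hr⟩
    have e : Subgroup.inclusion le_sup_right (⟨r, Subgroup.mem_subgroupOf.mp hr⟩ : Q) = r := rfl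
    rw [e] at this
    rw [this]; exact (κ _).2
  have hval : ∀ u, ψ u ∈ P ⊔ Q :=
    ext_values_mem_sup (P.subtype.comp β.toMonoidHom) ψ hext hmapQ (fun x => (β x).2)
  have hinj := F.injective_of_mem hψ
  have hrange : ψ.range = P ⊔ Q := by
    apply Subgroup.eq_of_le_of_card_ge
    · rintro _ ⟨u, rfl⟩; exact hval u
    · exact le_of_eq (Nat.card_congr (Equiv.ofInjective ψ hinj))
  set αψ : MulAut ↥(P ⊔ Q) := isoOfRange ψ hinj hrange with hαψ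
  have hcoe : ∀ u, ((αψ u : ↥(P ⊔ Q)) : Ω) = ψ u := fun u => isoOfRange_coe ψ hinj hrange u
  have hαψF : αψ ∈ F.autGroup (P ⊔ Q) := by
    rw [mem_autGroup_iff F hUS]
    have e : (P ⊔ Q).subtype.comp αψ.toMonoidHom = ψ := by
      ext u
      exact hcoe u
    rw [e]; exact hψ
  have hαψL : αψ ∈ stabA P Q K := by
    refine ⟨fun u => ⟨fun hu => ?_, fun hu => ?_⟩, κ, hκ, fun x => ?_⟩
    · rw [hcoe]
      have := hext ⟨u, hu⟩
      have e : Subgroup.inclusion le_sup_left (⟨u, hu⟩ : P) = u := rfl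
      rw [e] at this
      rw [this]; exact (β _).2
    · rw [hcoe] at hu
      have h1 := hext (β⁻¹ ⟨ψ u, hu⟩)
      have h2 : ((P.subtype.comp β.toMonoidHom) (β⁻¹ ⟨ψ u, hu⟩) : Ω) = ψ u := by
        show ((β (β⁻¹ ⟨ψ u, hu⟩) : P) : Ω) = ψ u
        rw [MulAut.apply_inv_self]
      rw [h2] at h1
      have h3 := hinj h1
      rw [← h3]
      exact (β⁻¹ ⟨ψ u, hu⟩).2
    · rw [hcoe]; exact hψκ x
  refine ⟨αψ, hαψF, hαψL, ?_⟩
  ext x
  rw [resP_apply, hcoe]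
  exact hext x

theorem kNormSystem_isFullyAutomized [Finite S] (p : ℕ) [Fact p.Prime] (hS : IsPGroup p S)
    (F : FusionSystem S) (hF : F.IsSaturated p) {Q : Subgroup Ω} (K : Subgroup (MulAut Q))
    (hrec : F.IsReceptive Q)
    (hsyl : IsSylowIn p (autInducedBy S Q ⊓ K) (F.autGroup Q ⊓ K))
    (E : FusionSystem (kNorm S K Q.subtype)) (hE : ∀ P : Subgroup Ω, E.Hom P = kNormHom F Q K P)
    {P : Subgroup Ω} (hP : E.IsFullyNormalized P) : E.IsFullyAutomized p P := by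
  have hPN : P ≤ kNorm S K Q.subtype := hP.1
  have hPS : P ≤ S := hPN.trans (kNorm_le K _)
  have hUS : P ⊔ Q ≤ S := sup_le hPS hrec.1
  haveI : Finite ↥(P ⊔ Q) := finite_of_le hUS
  haveI : Finite P := finite_of_le hPS
  obtain ⟨hrecU, hsylU⟩ := receptive_sylow_sup p hS F hF K hrec hsyl E hE hP
  set f : ↥(F.autGroup (P ⊔ Q) ⊓ stabA P Q K) →* MulAut P :=
    (resP P Q K).comp (Subgroup.inclusion inf_le_right) with hf
  obtain ⟨R, hR⟩ := hsylU.exists_sylow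
  have h := isSylowIn_map_range f R
  have hrange : f.range = E.autGroup P := by
    ext β
    constructor
    · rintro ⟨α, rfl⟩
      obtain ⟨hαP, κ, hκ, hακ⟩ := α.2.2
      rw [mem_autGroup_iff E hPN, hE]
      have hαF := (mem_autGroup_iff F hUS _).mp α.2.1
      refine ⟨fs_restrict_mem F le_sup_left hαF, hPN, fun x => hPN (f α x).2, _, hαF,
        fun x => rfl, κ, hκ, hακ⟩
    · intro hβ
      obtain ⟨α, hαF, hαL, hαβ⟩ := exists_stabA_of_mem_autGroup F K hrec.1 E hE hPN β hβ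
      exact ⟨⟨α, hαF, hαL⟩, hαβ⟩
  have himg : (R : Subgroup ↥(F.autGroup (P ⊔ Q) ⊓ stabA P Q K)).map f =
      autInducedBy (kNorm S K Q.subtype) P := by
    ext β
    constructor
    · rintro ⟨r, hr, rfl⟩
      rw [hR] at hr
      have hr' : (r : MulAut ↥(P ⊔ Q)) ∈ autInducedBy S (P ⊔ Q) ⊓ stabA P Q K :=
        Subgroup.mem_subgroupOf.mp hr
      exact resP_mem_autInducedBy K hPS ⟨r.1, r.2.2⟩ hr'.1
    · intro hβ
      obtain ⟨α, hαS, hαβ⟩ := exists_resP_eq_of_mem_autInducedBy K hPS β hβ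
      refine ⟨⟨α.1, autInducedBy_le_autGroup F hUS hαS, α.2⟩, ?_, hαβ⟩
      rw [SetLike.mem_coe, hR]
      exact Subgroup.mem_subgroupOf.mpr ⟨hαS, α.2⟩
  rw [hrange, himg] at h
  exact ⟨hPN, (isSylowIn_iff_exists_sylow (autInducedBy_le_autGroup E hPN)).mp h⟩


theorem mem_extender_iff {S P : Subgroup Ω} (φ : P →* Ω) (g : Ω) :
    g ∈ extender S P φ ↔ g ∈ S ∧ g ∈ Subgroup.normalizer (P : Set Ω) ∧
      ∃ h ∈ S, ∀ (x : P) (hx : g * (x : Ω) * g⁻¹ ∈ P), φ ⟨g * x * g⁻¹, hx⟩ = h * φ x * h⁻¹ := by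
  constructor
  · intro hg
    induction hg using Subgroup.closure_induction with
    | mem a ha => exact ha
    | one =>
      refine ⟨S.one_mem, Subgroup.one_mem _, 1, S.one_mem, fun x hx => ?_⟩
      have : (⟨1 * (x : Ω) * 1⁻¹, hx⟩ : P) = x := Subtype.ext (by simp)
      rw [this]; simp
    | mul a b _ _ iha ihb =>
      obtain ⟨haS, haN, ha', hha', hae⟩ := iha
      obtain ⟨hbS, hbN, hb', hhb', hbe⟩ := ihb
      refine ⟨S.mul_mem haS hbS, Subgroup.mul_mem _ haN hbN, ha' * hb', S.mul_mem hha' hhb',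
        fun x hx => ?_⟩
      have hbx : b * (x : Ω) * b⁻¹ ∈ P := (Subgroup.mem_normalizer_iff.mp hbN x).mp x.2
      have hax : a * ((⟨b * (x : Ω) * b⁻¹, hbx⟩ : P) : Ω) * a⁻¹ ∈ P :=
        (Subgroup.mem_normalizer_iff.mp haN _).mp hbx
      have e1 : (⟨a * b * (x : Ω) * (a * b)⁻¹, hx⟩ : P) =
          ⟨a * ((⟨b * (x : Ω) * b⁻¹, hbx⟩ : P) : Ω) * a⁻¹, hax⟩ := by
        apply Subtype.ext
        show a * b * (x : Ω) * (a * b)⁻¹ = a * (b * (x : Ω) * b⁻¹) * a⁻¹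
        group
      rw [e1, hae _ hax, hbe x hbx]
      group
    | inv a _ iha =>
      obtain ⟨haS, haN, ha', hha', hae⟩ := iha
      refine ⟨S.inv_mem haS, Subgroup.inv_mem _ haN, ha'⁻¹, S.inv_mem hha', fun x hx => ?_⟩
      have hy : a * ((⟨a⁻¹ * (x : Ω) * a⁻¹⁻¹, hx⟩ : P) : Ω) * a⁻¹ ∈ P := by
        have : a * (a⁻¹ * (x : Ω) * a⁻¹⁻¹) * a⁻¹ = x := by group
        show a * (a⁻¹ * (x : Ω) * a⁻¹⁻¹) * a⁻¹ ∈ P
        rw [this]; exact x.2
      have h1 := hae ⟨a⁻¹ * (x : Ω) * a⁻¹⁻¹, hx⟩ hy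
      have e1 : (⟨a * ((⟨a⁻¹ * (x : Ω) * a⁻¹⁻¹, hx⟩ : P) : Ω) * a⁻¹, hy⟩ : P) = x := by
        apply Subtype.ext
        show a * (a⁻¹ * (x : Ω) * a⁻¹⁻¹) * a⁻¹ = x
        group
      rw [e1] at h1
      rw [h1]
      group
  · intro h
    exact Subgroup.subset_closure h

end Cfsg.Agent.Lib.Helper7
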