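import Mathlib
import Cfsg.Prelude.Def_FusionSystem
import Cfsg.Agent.Lib.Helper7.KNormalizerSat
import Cfsg.Agent.Lib.Helper7.FusionWeaklyNormal

set_option autoImplicit false

namespace Cfsg.Agent.Lib.Helper7

open Cfsg Cfsg.FusionSystem

variable {Ω : Type*} [Group Ω] {S : Subgroup Ω}

set_option maxHeartbeats 1600000 in
theorem kNormSystem_isReceptive [Finite S] (p : ℕ) [Fact p.Prime] (hS : IsPGroup p S)
    (F : FusionSystem S) (hF : F.IsSaturated p) {Q : Subgroup Ω} (K : Subgroup (MulAut Q))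
    (hrec : F.IsReceptive Q)
    (hsyl : IsSylowIn p (autInducedBy S Q ⊓ K) (F.autGroup Q ⊓ K))
    (E : FusionSystem (kNorm S K Q.subtype)) (hE : ∀ P : Subgroup Ω, E.Hom P = kNormHom F Q K P)
    {P : Subgroup Ω} (hP : E.IsFullyNormalized P) : E.IsReceptive P := by
  have hPN : P ≤ kNorm S K Q.subtype := hP.1
  have hPS : P ≤ S := hPN.trans (kNorm_le K _)
  have hQS : Q ≤ S := hrec.1
  have hUS : P ⊔ Q ≤ S := sup_le hPS hQS
  haveI : Finite ↥(P ⊔ Q) := finite_of_le hUS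
  haveI : Finite P := finite_of_le hPS
  obtain ⟨hrecU, hsylU⟩ := receptive_sylow_sup p hS F hF K hrec hsyl E hE hP
  refine ⟨hPN, fun R φ hφ hr => ?_⟩
  rw [hE] at hφ
  obtain ⟨hφF, hRN, hφN, ψ₀, hψ₀, hext₀, κ₀, hκ₀, hψ₀κ⟩ := hφ
  have hRS : R ≤ S := hRN.trans (kNorm_le K _)
  have hφP : ∀ x : R, φ x ∈ P := fun x => hr.le ⟨x, rfl⟩
  have hinj₀ := F.injective_of_mem hψ₀
  -- the range of `ψ₀`
  have hmapQ : (Q.subgroupOf (R ⊔ Q)).map ψ₀ ≤ Q := by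
    rintro _ ⟨r, hr', rfl⟩
    have := hψ₀κ ⟨r, Subgroup.mem_subgroupOf.mp hr'⟩
    have e : Subgroup.inclusion le_sup_right (⟨r, Subgroup.mem_subgroupOf.mp hr'⟩ : Q) = r := rfl
    rw [e] at this
    rw [this]; exact (κ₀ _).2
  have hval₀ : ∀ v, ψ₀ v ∈ P ⊔ Q := ext_values_mem_sup φ ψ₀ hext₀ hmapQ hφP
  have hrange₀ : ψ₀.range = P ⊔ Q := by
    apply le_antisymm
    · rintro _ ⟨v, rfl⟩; exact hval₀ v
    · apply sup_le
      · intro y hy
        obtain ⟨x, rfl⟩ := hr.ge hy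
        exact ⟨Subgroup.inclusion le_sup_left x, hext₀ x⟩
      · intro y hy
        refine ⟨Subgroup.inclusion le_sup_right (κ₀⁻¹ ⟨y, hy⟩), ?_⟩
        rw [hψ₀κ, MulAut.apply_inv_self]
  set e₀ := isoOfRange ψ₀ hinj₀ hrange₀ with he₀def
  have he₀ : ∀ v, ((e₀ v : ↥(P ⊔ Q)) : Ω) = ψ₀ v := fun v => isoOfRange_coe ψ₀ hinj₀ hrange₀ v
  have he₀symm : ∀ (u : ↥(P ⊔ Q)) (v : ↥(R ⊔ Q)), ψ₀ v = u → e₀.symm u = v := by
    intro u v huv
    rw [MulEquiv.symm_apply_eq]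
    exact Subtype.ext (huv.symm.trans (he₀ v).symm)
  -- `v ∈ R ↔ ψ₀ v ∈ P`
  have hRP : ∀ v : ↥(R ⊔ Q), (v : Ω) ∈ R ↔ ψ₀ v ∈ P := by
    intro v
    constructor
    · intro hv
      have := hext₀ ⟨v, hv⟩
      have e : Subgroup.inclusion le_sup_left (⟨v, hv⟩ : R) = v := rfl
      rw [e] at this
      rw [this]; exact hφP _
    · intro hv
      obtain ⟨x, hx⟩ := hr.ge hv
      have h1 := hext₀ x
      rw [hx] at h1
      have h2 := hinj₀ h1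
      rw [← h2]; exact x.2
  -- the subgroup `L₂`
  set L₂ : Subgroup (MulAut ↥(P ⊔ Q)) :=
    ((autInducedBy (kNorm S K Q.subtype) P).comap (resP P Q K)).map (stabA P Q K).subtype with hL₂
  have hL₂L : L₂ ≤ stabA P Q K := by
    rintro _ ⟨α, -, rfl⟩; exact α.2
  have hmemL₂ : ∀ (α : MulAut ↥(P ⊔ Q)) (hα : α ∈ stabA P Q K),
      resP P Q K ⟨α, hα⟩ ∈ autInducedBy (kNorm S K Q.subtype) P → α ∈ L₂ :=
    fun α hα h => ⟨⟨α, hα⟩, h, rfl⟩
  have hL₂mem : ∀ α ∈ L₂, ∃ hα : α ∈ stabA P Q K,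
      resP P Q K ⟨α, hα⟩ ∈ autInducedBy (kNorm S K Q.subtype) P := by
    rintro _ ⟨α, hα, rfl⟩
    exact ⟨α.2, hα⟩
  have hT₀L₂ : autInducedBy S (P ⊔ Q) ⊓ stabA P Q K ≤ L₂ :=
    fun α hα => hmemL₂ α hα.2 (resP_mem_autInducedBy K hPS ⟨α, hα.2⟩ hα.1)
  have heqT : autInducedBy S (P ⊔ Q) ⊓ L₂ = autInducedBy S (P ⊔ Q) ⊓ stabA P Q K :=
    le_antisymm (inf_le_inf_left _ hL₂L) (le_inf inf_le_left hT₀L₂)
  have hsyl₂ : IsSylowIn p (autInducedBy S (P ⊔ Q) ⊓ L₂) (F.autGroup (P ⊔ Q) ⊓ L₂) := by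
    rw [heqT]
    exact hsylU.of_le_mid (le_inf (hsylU.1.trans inf_le_left) hT₀L₂) (inf_le_inf_left _ hL₂L)
  -- the inverse of `ψ₀`
  set θ : ↥(P ⊔ Q) →* Ω := (R ⊔ Q).subtype.comp e₀.symm.toMonoidHom with hθdef
  have hθ : θ ∈ F.Hom (P ⊔ Q) := fs_iso_symm_mem F hψ₀ hrange₀
  obtain ⟨W, ψ, hψ, hNW, hrW, l, hl, hψθ⟩ := exists_kNorm_extension p hS F L₂ hrecU hsyl₂ θ hθ
  have hθe : ∀ v : ↥(R ⊔ Q), θ (e₀ v) = v := by
    intro v
    show ((e₀.symm (e₀ v) : ↥(R ⊔ Q)) : Ω) = v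
    rw [MulEquiv.symm_apply_apply]
  have hURW : R ⊔ Q ≤ W := fun v hv => hrW ⟨e₀ ⟨v, hv⟩, hθe ⟨v, hv⟩⟩
  have hψv : ∀ v : ↥(R ⊔ Q), ψ ⟨v, hURW v.2⟩ = l (e₀ v) := by
    intro v
    rw [← hψθ (e₀ v)]
    congr 1
    exact Subtype.ext (hθe v).symm
  -- the extender in the `K`-normalizer system lies in the `L₂`-normalizer of `θ`
  have hXle : extender (kNorm S K Q.subtype) R φ ≤ kNorm S L₂ θ := by
    intro g hg
    obtain ⟨hgN, hgR, h, hhN, hgh⟩ := (mem_extender_iff φ g).mp hg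
    have hgS : g ∈ S := kNorm_le K _ hgN
    have hgQ : g ∈ Subgroup.normalizer (Q : Set Ω) := kNorm_subtype_le_normalizer K hgN
    have hgUR : g ∈ Subgroup.normalizer ((R ⊔ Q : Subgroup Ω) : Set Ω) :=
      Subgroup.normalizer_inf_normalizer_le_normalizer_sup R Q ⟨hgR, hgQ⟩
    obtain ⟨-, κg, hκg, hκge⟩ := id hgN
    set cg : MulAut ↥(R ⊔ Q) := (R ⊔ Q).normalizerMonoidHom ⟨g, hgUR⟩ with hcg
    have hcge : ∀ v, ((cg v : ↥(R ⊔ Q)) : Ω) = g * v * g⁻¹ := fun v => rfl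
    set lg : MulAut ↥(P ⊔ Q) := MulAut.congr e₀ cg with hlg
    have hlge : ∀ u, lg u = e₀ (cg (e₀.symm u)) := fun u => rfl
    have hlgcoe : ∀ v : ↥(R ⊔ Q), ((lg (e₀ v) : ↥(P ⊔ Q)) : Ω) = ψ₀ (cg v) := by
      intro v
      rw [hlge, MulEquiv.symm_apply_apply, he₀]
    have hlgL : lg ∈ stabA P Q K := by
      refine ⟨fun u => ?_, κ₀ * κg * κ₀⁻¹, K.mul_mem (K.mul_mem hκ₀ hκg) (K.inv_mem hκ₀),
        fun x => ?_⟩
      · obtain ⟨v, rfl⟩ := e₀.surjective u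
        rw [hlgcoe, he₀, ← hRP, ← hRP, hcge]
        exact Subgroup.mem_normalizer_iff.mp hgR v
      · have e1 : (Subgroup.inclusion le_sup_right x : ↥(P ⊔ Q)) =
            e₀ (Subgroup.inclusion le_sup_right (κ₀⁻¹ x)) := by
          apply Subtype.ext
          rw [he₀, hψ₀κ, MulAut.apply_inv_self]
          rfl
        have e2 : cg (Subgroup.inclusion le_sup_right (κ₀⁻¹ x)) =
            Subgroup.inclusion le_sup_right (κg (κ₀⁻¹ x)) := by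
          apply Subtype.ext
          rw [hcge]
          exact (hκge _).symm
        rw [e1, hlgcoe, e2, hψ₀κ]
        rfl
    refine ⟨hgS, lg, hmemL₂ lg hlgL ?_, fun u => ?_⟩
    · refine (mem_autInducedBy_iff _ _ _).mpr ⟨h, hhN, fun y => ?_⟩
      obtain ⟨x, hx⟩ := hr.ge y.2
      have hgx : g * (x : Ω) * g⁻¹ ∈ R := (Subgroup.mem_normalizer_iff.mp hgR x).mp x.2
      have e1 : (Subgroup.inclusion le_sup_left y : ↥(P ⊔ Q)) =
          e₀ (Subgroup.inclusion le_sup_left x) := by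
        apply Subtype.ext
        rw [he₀, hext₀, hx]
        rfl
      have e2 : cg (Subgroup.inclusion le_sup_left x) =
          Subgroup.inclusion le_sup_left (⟨g * (x : Ω) * g⁻¹, hgx⟩ : R) := by
        apply Subtype.ext
        rw [hcge]
        rfl
      rw [resP_apply]
      show ((lg (Subgroup.inclusion le_sup_left y) : ↥(P ⊔ Q)) : Ω) = _
      rw [e1, hlgcoe, e2, hext₀, hgh x hgx, hx]
    · obtain ⟨v, rfl⟩ := e₀.surjective u
      rw [hθe]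
      show ((e₀.symm (lg (e₀ v)) : ↥(R ⊔ Q)) : Ω) = g * v * g⁻¹
      rw [hlge, MulEquiv.symm_apply_apply, MulEquiv.symm_apply_apply, hcge]
  have hXW : extender (kNorm S K Q.subtype) R φ ≤ W := hXle.trans hNW
  obtain ⟨hlL, hlres⟩ := hL₂mem l hl.2
  obtain ⟨h₀, hh₀N, hh₀⟩ := (mem_autInducedBy_iff _ _ _).mp hlres
  obtain ⟨hlP, κl, hκl, hlκ⟩ := id hlL
  obtain ⟨hh₀S, κh, hκh, hκhe⟩ := id hh₀N
  have hψS : ∀ w : W, ψ w ∈ S := (F.le_of_mem hψ).2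
  set ΨW : W →* Ω := (conjHom S h₀⁻¹).comp (ψ.codRestrict S hψS) with hΨWdef
  have hΨW : ΨW ∈ F.Hom W := F.comp_mem hψ (F.conj_mem le_rfl (S.inv_mem hh₀S)) hψS
  have hΨWe : ∀ w : W, ΨW w = h₀⁻¹ * ψ w * h₀ := by
    intro w
    simp [hΨWdef, conjHom]
  -- on `R`
  have hΨR : ∀ x : R, ΨW ⟨x, hURW (Subgroup.mem_sup_left x.2)⟩ = φ x := by
    intro x
    rw [hΨWe]
    have h1 := hψv (Subgroup.inclusion le_sup_left x)
    have e1 : e₀ (Subgroup.inclusion le_sup_left x) =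
        Subgroup.inclusion le_sup_left (⟨φ x, hφP x⟩ : P) :=
      Subtype.ext ((he₀ _).trans (hext₀ x))
    have e2 := hh₀ ⟨φ x, hφP x⟩
    rw [resP_apply] at e2
    have h2 : ψ ⟨x, hURW (Subgroup.mem_sup_left x.2)⟩ = h₀ * φ x * h₀⁻¹ := by
      rw [← e2, ← e1]
      exact h1
    rw [h2]
    group
  -- on `Q`
  have hκ₁ : κh⁻¹ * κl * κ₀ ∈ K := K.mul_mem (K.mul_mem (K.inv_mem hκh) hκl) hκ₀
  have hconjh : ∀ z : Q, h₀⁻¹ * (z : Ω) * h₀ = ((κh⁻¹ z : Q) : Ω) := by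
    intro z
    have := hκhe (κh⁻¹ z)
    rw [MulAut.apply_inv_self] at this
    have e : (Q.subtype z : Ω) = z := rfl
    have e' : (Q.subtype (κh⁻¹ z) : Ω) = ((κh⁻¹ z : Q) : Ω) := rfl
    rw [e, e'] at this
    rw [this]
    group
  have hΨQ : ∀ x : Q, ΨW ⟨x, hURW (Subgroup.mem_sup_right x.2)⟩ = ((κh⁻¹ * κl * κ₀) x : Q) := by
    intro x
    rw [hΨWe]
    have h1 := hψv (Subgroup.inclusion le_sup_right x)
    have e1 : e₀ (Subgroup.inclusion le_sup_right x) =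
        Subgroup.inclusion le_sup_right (κ₀ x) :=
      Subtype.ext ((he₀ _).trans (hψ₀κ x))
    have h2 : ψ ⟨x, hURW (Subgroup.mem_sup_right x.2)⟩ = ((κl (κ₀ x) : Q) : Ω) := by
      rw [← hlκ, ← e1]
      exact h1
    rw [h2, hconjh]
    rfl
  -- the result
  have hXN : extender (kNorm S K Q.subtype) R φ ≤ kNorm S K Q.subtype := extender_le _ R φ
  have hQW : Q ≤ W := le_sup_right.trans hURW
  set Ψ : ↥(extender (kNorm S K Q.subtype) R φ) →* Ω := ΨW.comp (Subgroup.inclusion hXW) with hΨdef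
  have hΨF : Ψ ∈ F.Hom (extender (kNorm S K Q.subtype) R φ) := fs_restrict_mem F hXW hΨW
  have hΨN : ∀ g : ↥(extender (kNorm S K Q.subtype) R φ), Ψ g ∈ kNorm S K Q.subtype := by
    intro g
    obtain ⟨-, κg, hκg, hκge⟩ := hXN g.2
    refine ⟨(F.le_of_mem hΨF).2 g, (κh⁻¹ * κl * κ₀) * κg * (κh⁻¹ * κl * κ₀)⁻¹,
      K.mul_mem (K.mul_mem hκ₁ hκg) (K.inv_mem hκ₁), fun q => ?_⟩
    set q' : Q := (κh⁻¹ * κl * κ₀)⁻¹ q with hq'
    have hq : (q : Ω) = ΨW ⟨q', hQW q'.2⟩ := by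
      rw [hΨQ, hq', MulAut.apply_inv_self]
    have e1 : (⟨((κg q' : Q) : Ω), hQW (κg q').2⟩ : W) =
        ⟨g, hXW g.2⟩ * ⟨q', hQW q'.2⟩ * (⟨g, hXW g.2⟩ : W)⁻¹ :=
      Subtype.ext (hκge q')
    show ((((κh⁻¹ * κl * κ₀) * κg * (κh⁻¹ * κl * κ₀)⁻¹) q : Q) : Ω) = Ψ g * (q : Ω) * (Ψ g)⁻¹
    rw [hq]
    show _ = ΨW ⟨g, hXW g.2⟩ * ΨW ⟨q', hQW q'.2⟩ * (ΨW ⟨g, hXW g.2⟩)⁻¹
    rw [← map_inv, ← map_mul, ← map_mul, ← e1, hΨQ]
    rfl
  refine ⟨Ψ, ?_, fun x hxR hxX => hΨR ⟨x, hxR⟩⟩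
  rw [hE]
  exact ⟨hΨF, hXN, hΨN, ΨW.comp (Subgroup.inclusion (sup_le hXW hQW)),
    fs_restrict_mem F (sup_le hXW hQW) hΨW, fun x => rfl, _, hκ₁, fun x => hΨQ x⟩


/-- **Puig's theorem**: the `K`-normalizer system `N_F^K(Q)` of a saturated system is saturated,
provided `Q` is receptive and `Aut_S(Q) ∩ K` is a Sylow `p`-subgroup of `Aut_F(Q) ∩ K` (equivalently, `Q` is
fully `K`-normalized). -/
theorem kNormSystem_isSaturated [Finite S] (p : ℕ) [Fact p.Prime] (hS : IsPGroup p S)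
    (F : FusionSystem S) (hF : F.IsSaturated p) {Q : Subgroup Ω} (K : Subgroup (MulAut Q))
    (hrec : F.IsReceptive Q)
    (hsyl : IsSylowIn p (autInducedBy S Q ⊓ K) (F.autGroup Q ⊓ K))
    {N : Subgroup Ω} (hN : N = kNorm S K Q.subtype) (E : FusionSystem N)
    (hE : ∀ P : Subgroup Ω, E.Hom P = kNormHom F Q K P) : E.IsSaturated p := by
  subst hN
  haveI : Finite (kNorm S K Q.subtype) := finite_of_le (kNorm_le K _)
  intro P hP
  obtain ⟨P', hconj, hFN⟩ := exists_isFullyNormalized_conj E hP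
  exact ⟨P', hconj, kNormSystem_isFullyAutomized p hS F hF K hrec hsyl E hE hFN,
    kNormSystem_isReceptive p hS F hF K hrec hsyl E hE hFN⟩

/-- The normalizer system of a fully normalized subgroup is saturated. -/
theorem normalizerSystem_isSaturated [Finite S] (p : ℕ) [Fact p.Prime] (hS : IsPGroup p S)
    (F : FusionSystem S) (hF : F.IsSaturated p) (Q : Subgroup Ω) (hQ : F.IsFullyNormalized Q)
    (E : FusionSystem (normalizerIn S Q)) (hE : F.IsNormalizerSystem Q E) : E.IsSaturated p := by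
  have hQS : Q ≤ S := hQ.1
  haveI : Finite Q := finite_of_le hQS
  obtain ⟨Q', hc, hFA', hRec'⟩ := hF Q hQS
  obtain ⟨hFA, hRec⟩ := isFullyAutomized_isReceptive_of_isFullyNormalized p hS F hQ hFA' hRec' hc
  have hN : normalizerIn S Q = kNorm S (⊤ : Subgroup (MulAut Q)) Q.subtype := by
    ext g
    constructor
    · rintro ⟨hgS, hgN⟩
      exact ⟨hgS, Q.normalizerMonoidHom ⟨g, hgN⟩, Subgroup.mem_top _, fun u => rfl⟩
    · intro hg
      exact ⟨kNorm_le _ _ hg, kNorm_subtype_le_normalizer _ hg⟩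
  have hsyl : IsSylowIn p (autInducedBy S Q ⊓ ⊤) (F.autGroup Q ⊓ ⊤) := by
    rw [inf_top_eq, inf_top_eq]
    obtain ⟨-, R, hR⟩ := hFA
    exact (isSylowIn_iff_exists_sylow (autInducedBy_le_autGroup F hQS)).mpr ⟨R, hR⟩
  apply kNormSystem_isSaturated p hS F hF (⊤ : Subgroup (MulAut Q)) hRec hsyl hN E
  intro P
  rw [hE P]
  ext φ
  constructor
  · rintro ⟨hφ, hPN, hφN, ψ, hψ, hext, hmap⟩
    refine ⟨hφ, hN ▸ hPN, fun x => hN ▸ hφN x, ψ, hψ, hext, ?_⟩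
    have hψQ : (ψ.comp (Subgroup.inclusion (le_sup_right : Q ≤ P ⊔ Q))).range = Q := by
      ext y
      constructor
      · rintro ⟨x, rfl⟩
        exact hmap.le ⟨Subgroup.inclusion le_sup_right x, Subgroup.mem_subgroupOf.mpr x.2, rfl⟩
      · intro hy
        obtain ⟨r, hr, rfl⟩ := hmap.ge hy
        exact ⟨⟨r, Subgroup.mem_subgroupOf.mp hr⟩, rfl⟩
    have hinj : Function.Injective (ψ.comp (Subgroup.inclusion (le_sup_right : Q ≤ P ⊔ Q))) :=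
      (F.injective_of_mem hψ).comp (Subgroup.inclusion_injective _)
    exact ⟨isoOfRange _ hinj hψQ, Subgroup.mem_top _, fun x => rfl⟩
  · rintro ⟨hφ, hPN, hφN, ψ, hψ, hext, κ, -, hκ⟩
    refine ⟨hφ, hN ▸ hPN, fun x => hN ▸ hφN x, ψ, hψ, hext, ?_⟩
    ext y
    constructor
    · rintro ⟨r, hr, rfl⟩
      have := hκ ⟨r, Subgroup.mem_subgroupOf.mp hr⟩
      have e : Subgroup.inclusion le_sup_right (⟨r, Subgroup.mem_subgroupOf.mp hr⟩ : Q) = r := rfl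
      rw [e] at this
      rw [this]; exact (κ _).2
    · intro hy
      refine ⟨Subgroup.inclusion le_sup_right (κ⁻¹ ⟨y, hy⟩), Subgroup.mem_subgroupOf.mpr (κ⁻¹ ⟨y, hy⟩).2, ?_⟩
      rw [hκ, MulAut.apply_inv_self]

/-- The centralizer system of a fully centralized subgroup is saturated. -/
theorem centralizerSystem_isSaturated [Finite S] (p : ℕ) [Fact p.Prime] (hS : IsPGroup p S)
    (F : FusionSystem S) (hF : F.IsSaturated p) (Q : Subgroup Ω) (hQ : F.IsFullyCentralized Q)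
    (E : FusionSystem (centralizerIn S Q)) (hE : F.IsCentralizerSystem Q E) : E.IsSaturated p := by
  have hQS : Q ≤ S := hQ.1
  haveI : Finite Q := finite_of_le hQS
  obtain ⟨Q', hc, hFA', hRec'⟩ := hF Q hQS
  have hRec := isReceptive_of_isFullyCentralized p hS F hQ hFA' hRec' hc
  have hN : centralizerIn S Q = kNorm S (⊥ : Subgroup (MulAut Q)) Q.subtype := by
    ext g
    constructor
    · rintro ⟨hgS, hgC⟩
      refine ⟨hgS, 1, Subgroup.mem_bot.mpr rfl, fun u => ?_⟩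
      have := (Subgroup.mem_centralizer_iff.mp hgC) u u.2
      show (u : Ω) = g * u * g⁻¹
      rw [← this]; group
    · rintro ⟨hgS, κ, hκ, hκe⟩
      rw [Subgroup.mem_bot] at hκ
      subst hκ
      refine ⟨hgS, ?_⟩
      show g ∈ Subgroup.centralizer (Q : Set Ω)
      rw [Subgroup.mem_centralizer_iff]
      intro u hu
      have h1 : u = g * u * g⁻¹ := hκe ⟨u, hu⟩
      calc u * g = (g * u * g⁻¹) * g := by rw [← h1]
        _ = g * u := by group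
  have hsyl : IsSylowIn p (autInducedBy S Q ⊓ ⊥) (F.autGroup Q ⊓ ⊥) := by
    rw [inf_bot_eq, inf_bot_eq]
    refine ⟨le_rfl, ?_⟩
    rw [Subgroup.card_bot]
    simp
  apply kNormSystem_isSaturated p hS F hF (⊥ : Subgroup (MulAut Q)) hRec hsyl hN E
  intro P
  rw [hE P]
  ext φ
  constructor
  · rintro ⟨hφ, hPN, hφN, ψ, hψ, hext, hfix⟩
    exact ⟨hφ, hN ▸ hPN, fun x => hN ▸ hφN x, ψ, hψ, hext, 1, Subgroup.mem_bot.mpr rfl, hfix⟩
  · rintro ⟨hφ, hPN, hφN, ψ, hψ, hext, κ, hκ, hκe⟩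
    rw [Subgroup.mem_bot] at hκ
    subst hκ
    exact ⟨hφ, hN ▸ hPN, fun x => hN ▸ hφN x, ψ, hψ, hext, hκe⟩

end Cfsg.Agent.Lib.Helper7
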