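import Mathlib
import Cfsg.Prelude.Def_FusionSystem
import Cfsg.Agent.Lib.Helper7.KNormalizerSat2
import Cfsg.Agent.Lib.Helper7.Core

set_option autoImplicit false

namespace Cfsg.Agent.Lib.Helper7

open Cfsg Cfsg.FusionSystem

variable {Ω : Type*} [Group Ω] {S : Subgroup Ω}

/-- `R` is normal in its normalizer system. -/
theorem isNormal_normalizerSystem (F : FusionSystem S) {R : Subgroup Ω} (hRS : R ≤ S)
    (E : FusionSystem (normalizerIn S R)) (hE : F.IsNormalizerSystem R E) : E.IsNormal R := by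
  have hRN : R ≤ normalizerIn S R := le_inf hRS Subgroup.le_normalizer
  refine ⟨hRN, fun P φ hφ => ?_⟩
  rw [hE P] at hφ
  obtain ⟨hφF, hPN, hφN, ψ, hψ, hext, hmap⟩ := hφ
  have hval : ∀ u, ψ u ∈ normalizerIn S R := by
    have := ext_values_mem_sup φ ψ hext hmap.le hφN
    intro u
    have h1 := this u
    rwa [sup_eq_left.mpr hRN] at h1
  have hle : (P ⊔ R) ⊔ R ≤ P ⊔ R := sup_le le_rfl le_sup_right
  refine ⟨ψ, ?_, hext, hmap⟩
  rw [hE (P ⊔ R)]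
  refine ⟨hψ, sup_le hPN hRN, hval, ψ.comp (Subgroup.inclusion hle), fs_restrict_mem F hle hψ,
    fun x => rfl, ?_⟩
  ext y
  constructor
  · rintro ⟨r, hr, rfl⟩
    exact hmap.le ⟨Subgroup.inclusion hle r, Subgroup.mem_subgroupOf.mpr (Subgroup.mem_subgroupOf.mp hr), rfl⟩
  · intro hy
    obtain ⟨r, hr, rfl⟩ := hmap.ge hy
    exact ⟨Subgroup.inclusion le_sup_left r, Subgroup.mem_subgroupOf.mpr (Subgroup.mem_subgroupOf.mp hr), rfl⟩

/-- The only conjugate of `R` in its normalizer system is `R`. -/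
theorem eq_of_isConj_normalizerSystem (F : FusionSystem S) {R : Subgroup Ω}
    (E : FusionSystem (normalizerIn S R)) (hE : F.IsNormalizerSystem R E) {Q' : Subgroup Ω}
    (h : E.IsConj R Q') : Q' = R := by
  obtain ⟨φ, hφ, rfl⟩ := h
  rw [hE R] at hφ
  obtain ⟨hφF, hPN, hφN, ψ, hψ, hext, hmap⟩ := hφ
  ext y
  constructor
  · rintro ⟨x, rfl⟩
    rw [← hext x]
    exact hmap.le ⟨_, Subgroup.mem_subgroupOf.mpr x.2, rfl⟩
  · intro hy
    obtain ⟨r, hr, rfl⟩ := hmap.ge hy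
    refine ⟨⟨r, Subgroup.mem_subgroupOf.mp hr⟩, ?_⟩
    rw [← hext]
    rfl

theorem normalizerSystem_isConstrained [Finite S] (p : ℕ) [Fact p.Prime] (hS : IsPGroup p S)
    (F : FusionSystem S) (hF : F.IsSaturated p) (R : Subgroup Ω) (hRn : F.IsFullyNormalized R)
    (hRc : F.IsCentric R) (E : FusionSystem (normalizerIn S R)) (hE : F.IsNormalizerSystem R E) :
    E.IsConstrained p := by
  have hRS : R ≤ S := hRn.1
  refine ⟨normalizerSystem_isSaturated p hS F hF R hRn E hE, R,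
    isNormal_normalizerSystem F hRS E hE, le_inf hRS Subgroup.le_normalizer, fun Q' hQ' => ?_⟩
  rw [eq_of_isConj_normalizerSystem F E hE hQ']
  intro g hg
  exact hRc.2 R (isConj_refl F hRS) ⟨hg.1.1, hg.2⟩


/-- A conjugation in `G` preserving `ι(N)` on `ι(X)` pulls back to a homomorphism on `X`. -/
theorem exists_hom_of_conj {N : Subgroup Ω} {G : Type*} [Group G] (ι : N →* G)
    (hinj : Function.Injective ι) {X : Subgroup Ω} (hX : X ≤ N) (g : G)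
    (hg : ∀ x : X, g * ι ⟨x, hX x.2⟩ * g⁻¹ ∈ ι.range) :
    ∃ (φ : X →* Ω) (hφ : ∀ x, φ x ∈ N), ∀ x : X, ι ⟨φ x, hφ x⟩ = g * ι ⟨x, hX x.2⟩ * g⁻¹ := by
  set f : X →* ι.range :=
    ((MulAut.conj g).toMonoidHom.comp (ι.comp (Subgroup.inclusion hX))).codRestrict ι.range
      (fun x => hg x) with hf
  set e := MonoidHom.ofInjective hinj with he
  refine ⟨N.subtype.comp (e.symm.toMonoidHom.comp f), fun x => (e.symm (f x)).2, fun x => ?_⟩
  have h1 : ((e (e.symm (f x)) : ι.range) : G) = ι (e.symm (f x)) := rfl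
  rw [MulEquiv.apply_symm_apply] at h1
  exact h1.symm

set_option maxHeartbeats 1600000 in
theorem pCore_model_normalizerSystem [Finite S] (p : ℕ) [Fact p.Prime] (hS : IsPGroup p S)
    (F : FusionSystem S) (R : Subgroup Ω) (hRS : R ≤ S)
    (hRc : F.IsCentric R) (hRr : F.IsRadical p R) (E : FusionSystem (normalizerIn S R))
    (hE : F.IsNormalizerSystem R E) {G : Type*} [Group G] (ι : ↥(normalizerIn S R) →* G)
    (hM : E.IsModel p G ι) :
    (pCore p G : Subgroup G) = (R.subgroupOf (normalizerIn S R)).map ι := by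
  obtain ⟨hfin, ⟨hinj, hreal⟩, ⟨T, hT⟩, hcent⟩ := hM
  have hRN : R ≤ normalizerIn S R := le_inf hRS Subgroup.le_normalizer
  have hNS : normalizerIn S R ≤ S := inf_le_left
  haveI : Finite R := finite_of_le hRS
  have hUT : pCore p G ≤ ι.range := hT ▸ pCore_le_sylow T
  have hUn : (pCore p G).Normal := pCore_normal p G
  set U₀ : Subgroup Ω := ((pCore p G).comap ι).map (normalizerIn S R).subtype with hU₀
  have hU₀N : U₀ ≤ normalizerIn S R := Subgroup.map_subtype_le _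
  have hU₀mem : ∀ (x : Ω) (hx : x ∈ U₀), ι ⟨x, hU₀N hx⟩ ∈ pCore p G := by
    rintro _ ⟨n, hn, rfl⟩
    exact hn
  have hmemU₀ : ∀ n : ↥(normalizerIn S R), ι n ∈ pCore p G → (n : Ω) ∈ U₀ :=
    fun n hn => ⟨n, hn, rfl⟩
  have hEnormal := isNormal_normalizerSystem F hRS E hE
  -- Step A: the image of `R` is normal in `G`
  have hconjR : ∀ g : G, ∀ r' ∈ (R.subgroupOf (normalizerIn S R)).map ι,
      g * r' * g⁻¹ ∈ (R.subgroupOf (normalizerIn S R)).map ι := by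
    intro g
    have hgU : ∀ x : U₀, g * ι ⟨x, hU₀N x.2⟩ * g⁻¹ ∈ ι.range :=
      fun x => hUT (hUn.conj_mem _ (hU₀mem x x.2) g)
    obtain ⟨φg, hφgN, hφg⟩ := exists_hom_of_conj ι hinj hU₀N g hgU
    have hφgE : φg ∈ E.Hom U₀ := (hreal U₀ hU₀N φg hφgN).mpr ⟨g, hφg⟩
    obtain ⟨ψ, hψ, hψext, hψmap⟩ := hEnormal.2 U₀ φg hφgE
    obtain ⟨hψ1, hψ2⟩ := E.le_of_mem hψ
    obtain ⟨g', hg'⟩ := (hreal (U₀ ⊔ R) hψ1 ψ hψ2).mp hψ
    have hc : g'⁻¹ * g ∈ Subgroup.centralizer ((pCore p G : Subgroup G) : Set G) := by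
      rw [Subgroup.mem_centralizer_iff]
      intro u hu
      obtain ⟨n, rfl⟩ := hUT hu
      have hnU₀ := hmemU₀ n hu
      have h1 := hφg ⟨n, hnU₀⟩
      have h2 := hg' (Subgroup.inclusion le_sup_left ⟨n, hnU₀⟩)
      have h3 : (⟨ψ (Subgroup.inclusion le_sup_left ⟨(n : Ω), hnU₀⟩), hψ2 _⟩ : normalizerIn S R) =
          ⟨φg ⟨n, hnU₀⟩, hφgN _⟩ := Subtype.ext (hψext _)
      rw [h3, h1] at h2
      have h4 : g * ι n * g⁻¹ = g' * ι n * g'⁻¹ := h2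
      calc ι n * (g'⁻¹ * g) = g'⁻¹ * (g' * ι n * g'⁻¹) * g := by group
        _ = g'⁻¹ * (g * ι n * g⁻¹) * g := by rw [h4]
        _ = g'⁻¹ * g * ι n := by group
    have hcU : g'⁻¹ * g ∈ pCore p G := hcent hc
    obtain ⟨n, hn⟩ := hUT hcU
    have hg'R : ∀ r' ∈ (R.subgroupOf (normalizerIn S R)).map ι,
        g' * r' * g'⁻¹ ∈ (R.subgroupOf (normalizerIn S R)).map ι := by
      rintro _ ⟨r, hr, rfl⟩
      have hrR : (r : Ω) ∈ R := Subgroup.mem_subgroupOf.mp hr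
      have h2 := hg' ⟨r, Subgroup.mem_sup_right hrR⟩
      have h3 : ψ ⟨r, Subgroup.mem_sup_right hrR⟩ ∈ R :=
        hψmap.le ⟨_, Subgroup.mem_subgroupOf.mpr hrR, rfl⟩
      refine ⟨⟨ψ ⟨r, Subgroup.mem_sup_right hrR⟩, hψ2 _⟩, Subgroup.mem_subgroupOf.mpr h3, ?_⟩
      rw [h2]
    have hnR : ∀ r' ∈ (R.subgroupOf (normalizerIn S R)).map ι,
        ι n * r' * (ι n)⁻¹ ∈ (R.subgroupOf (normalizerIn S R)).map ι := by
      rintro _ ⟨r, hr, rfl⟩
      have hrR : (r : Ω) ∈ R := Subgroup.mem_subgroupOf.mp hr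
      refine ⟨n * r * n⁻¹, Subgroup.mem_subgroupOf.mpr ?_, by rw [map_mul, map_mul, map_inv]⟩
      exact (Subgroup.mem_normalizer_iff.mp n.2.2 r).mp hrR
    intro r' hr'
    have e : g = g' * ι n := by rw [hn]; group
    have := hg'R _ (hnR r' hr')
    rw [e]
    convert this using 1
    group
  have hR'n : ((R.subgroupOf (normalizerIn S R)).map ι).Normal := ⟨fun r' hr' g => hconjR g r' hr'⟩
  have hR'p : IsPGroup p ((R.subgroupOf (normalizerIn S R)).map ι) :=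
    ((hS.to_le hRS).comap_subtype).map ι
  apply le_antisymm _ (le_pCore hR'n hR'p)
  -- Step C
  have hU₀S : U₀ ≤ S := hU₀N.trans hNS
  have hA₀F : autInducedBy U₀ R ≤ F.autGroup R :=
    (autInducedBy_mono hU₀S R).trans (autInducedBy_le_autGroup F hRS)
  have hA₀n : ((autInducedBy U₀ R).subgroupOf (F.autGroup R)).Normal := by
    constructor
    rintro ⟨β, hβF⟩ hβ ⟨α, hα⟩
    have hβ' : β ∈ autInducedBy U₀ R := Subgroup.mem_subgroupOf.mp hβ
    show (⟨α, hα⟩ * ⟨β, hβF⟩ * (⟨α, hα⟩ : F.autGroup R)⁻¹ : F.autGroup R) ∈ _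
    rw [Subgroup.mem_subgroupOf]
    show α * β * α⁻¹ ∈ autInducedBy U₀ R
    have hαF := (mem_autGroup_iff F hRS α).mp hα
    have hle : R ⊔ R ≤ R := sup_le le_rfl le_rfl
    have hαE : R.subtype.comp α.toMonoidHom ∈ E.Hom R := by
      rw [hE R]
      refine ⟨hαF, hRN, fun x => hRN (α x).2,
        (R.subtype.comp α.toMonoidHom).comp (Subgroup.inclusion hle),
        fs_restrict_mem F hle hαF, fun x => rfl, ?_⟩
      ext y
      constructor
      · rintro ⟨r, hr, rfl⟩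
        exact (α _).2
      · intro hy
        refine ⟨Subgroup.inclusion le_sup_left (α⁻¹ ⟨y, hy⟩),
          Subgroup.mem_subgroupOf.mpr (α⁻¹ ⟨y, hy⟩).2, ?_⟩
        show ((α (α⁻¹ ⟨y, hy⟩) : R) : Ω) = y
        rw [MulAut.apply_inv_self]
    obtain ⟨g, hg⟩ := (hreal R hRN _ (fun x => hRN (α x).2)).mp hαE
    have hg1 : ∀ x : R, ι ⟨(α x : R), hRN (α x).2⟩ = g * ι ⟨x, hRN x.2⟩ * g⁻¹ := hg
    obtain ⟨n, hnU₀, hβn⟩ := (mem_autInducedBy_iff _ _ _).mp hβ'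
    have hu' : g * ι ⟨n, hU₀N hnU₀⟩ * g⁻¹ ∈ pCore p G := hUn.conj_mem _ (hU₀mem n hnU₀) g
    obtain ⟨n', hn'⟩ := hUT hu'
    have hn'U₀ : (n' : Ω) ∈ U₀ := hmemU₀ n' (hn' ▸ hu')
    refine (mem_autInducedBy_iff _ _ _).mpr ⟨n', hn'U₀, fun x => ?_⟩
    have hn'x : (n' : Ω) * x * (n' : Ω)⁻¹ ∈ R := (Subgroup.mem_normalizer_iff.mp n'.2.2 x).mp x.2
    have key : (⟨(((α * β * α⁻¹) x : R) : Ω), hRN ((α * β * α⁻¹) x).2⟩ : normalizerIn S R) =
        n' * ⟨x, hRN x.2⟩ * n'⁻¹ := by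
      apply hinj
      rw [map_mul, map_mul, map_inv, hn']
      have e1 : (α * β * α⁻¹) x = α (β (α⁻¹ x)) := rfl
      rw [e1, hg1]
      have e2 : (⟨((β (α⁻¹ x) : R) : Ω), hRN (β (α⁻¹ x)).2⟩ : normalizerIn S R) =
          ⟨n, hU₀N hnU₀⟩ * ⟨(α⁻¹ x : R), hRN (α⁻¹ x).2⟩ * (⟨n, hU₀N hnU₀⟩ : normalizerIn S R)⁻¹ :=
        Subtype.ext (hβn _)
      rw [e2, map_mul, map_mul, map_inv]
      have e3 := hg1 (α⁻¹ x)
      rw [MulAut.apply_inv_self] at e3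
      have e4 : ι ⟨(α⁻¹ x : R), hRN (α⁻¹ x).2⟩ = g⁻¹ * ι ⟨x, hRN x.2⟩ * g := by
        rw [e3]; group
      rw [e4]
      group
    exact congrArg Subtype.val key
  have hA₀p : IsPGroup p ((autInducedBy U₀ R).subgroupOf (F.autGroup R)) :=
    (isPGroup_autInducedBy U₀ R (hS.to_le hU₀S)).comap_subtype
  have hA₀Inn : autInducedBy U₀ R ≤ Inn R := by
    rw [← hRr.2]
    intro β hβ
    exact ⟨⟨β, hA₀F hβ⟩, le_pCore hA₀n hA₀p (Subgroup.mem_subgroupOf.mpr hβ), rfl⟩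
  intro u hu
  obtain ⟨n, rfl⟩ := hUT hu
  have hnU₀ := hmemU₀ n hu
  have hmem : R.normalizerMonoidHom ⟨n, n.2.2⟩ ∈ autInducedBy U₀ R :=
    (mem_autInducedBy_iff _ _ _).mpr ⟨n, hnU₀, fun x => rfl⟩
  have hnR : (n : Ω) ∈ R :=
    mem_of_normalizerMonoidHom_mem_inn (hRc.2 R (isConj_refl F hRS)) hRS n.2.1 n.2.2 (hA₀Inn hmem)
  exact ⟨n, Subgroup.mem_subgroupOf.mpr hnR, rfl⟩

end Cfsg.Agent.Lib.Helper7
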