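import Mathlib
import Cfsg.Prelude.Def_FusionSystem
import Cfsg.Agent.Lib.Helper7.NormalizerConstrained
import Cfsg.Agent.Lib.Helper7.FactorSaturated
import Cfsg.Agent.Lib.Helper7.GroupFusion3

set_option autoImplicit false

namespace Cfsg.Agent.Lib.Helper7

open Cfsg Cfsg.FusionSystem

variable {Ω : Type*} [Group Ω] {S : Subgroup Ω}

/-- A fusion system realized by a finite group on a Sylow subgroup is saturated. -/
theorem isSaturated_of_isRealizedBy_sylow (p : ℕ) [Fact p.Prime] (F : FusionSystem S)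
    {G : Type*} [Group G] [Finite G] (ι : S →* G) (hreal : F.IsRealizedBy ι) (T : Sylow p G)
    (hT : (T : Subgroup G) = ι.range) : F.IsSaturated p := by
  obtain ⟨hinj, hreal⟩ := hreal
  set e := MonoidHom.ofInjective hinj with he
  set θ : ↥(T : Subgroup G) →* Ω :=
    S.subtype.comp (e.symm.toMonoidHom.comp (Subgroup.inclusion hT.le)) with hθ
  have hθS : ∀ t, θ t ∈ S := fun t => (e.symm (Subgroup.inclusion hT.le t)).2
  have hιθ : ∀ t : ↥(T : Subgroup G), ι ⟨θ t, hθS t⟩ = t := by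
    intro t
    have h1 : ((e (e.symm (Subgroup.inclusion hT.le t)) : ι.range) : G) =
        ι (e.symm (Subgroup.inclusion hT.le t)) := rfl
    rw [MulEquiv.apply_symm_apply] at h1
    exact h1.symm
  have hθι : ∀ (s : S) (h : ι s ∈ (T : Subgroup G)), θ ⟨ι s, h⟩ = s := by
    intro s h
    have h1 := hιθ ⟨ι s, h⟩
    have h2 := hinj h1
    exact congrArg Subtype.val h2
  apply isSaturated_of_isFactorSystem p T.isPGroup' (groupFusionSystem (T : Subgroup G))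
    (gfs_isSaturated p T) ⊥ ⟨bot_le, fun R hR φ hφ x => ?_⟩ θ F
  · refine ⟨bot_le, fun t => ?_, ?_, fun P' φ' => ⟨fun hφ' => ?_, ?_⟩⟩
    · constructor
      · intro h
        have h1 := hιθ t
        have h2 : (⟨θ t, hθS t⟩ : S) = 1 := Subtype.ext h
        rw [h2, map_one] at h1
        rw [Subgroup.mem_bot]; exact h1.symm
      · intro h
        rw [Subgroup.mem_bot] at h
        have : t = 1 := Subtype.ext h
        rw [this, map_one]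
    · apply le_antisymm
      · rintro _ ⟨t, rfl⟩; exact hθS t
      · intro s hs
        exact ⟨⟨ι ⟨s, hs⟩, hT.ge ⟨_, rfl⟩⟩, hθι ⟨s, hs⟩ _⟩
    · obtain ⟨hP'S, hφ'S⟩ := F.le_of_mem hφ'
      obtain ⟨g, hg⟩ := (hreal P' hP'S φ' hφ'S).mp hφ'
      have hpre : ∀ x : ↥(preimageAlong θ P'), ∃ (hxT : (x : G) ∈ (T : Subgroup G))
          (hy : θ ⟨x, hxT⟩ ∈ P'), ι ⟨θ ⟨x, hxT⟩, hθS _⟩ = x := by
        intro x
        obtain ⟨hxT, hy⟩ := (mem_preimageAlong θ P' x).mp x.2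
        exact ⟨hxT, hy, hιθ ⟨x, hxT⟩⟩
      have hval : ∀ x : ↥(preimageAlong θ P'), conjHom (preimageAlong θ P') g x ∈ (T : Subgroup G) := by
        intro x
        obtain ⟨hxT, hy, hx⟩ := hpre x
        have h1 := hg ⟨θ ⟨x, hxT⟩, hy⟩
        have h2 : ι ⟨(θ ⟨x, hxT⟩ : Ω), hP'S hy⟩ = x := hx
        rw [h2] at h1
        show g * (x : G) * g⁻¹ ∈ (T : Subgroup G)
        rw [← h1]
        exact hT.ge ⟨_, rfl⟩
      refine ⟨hP'S, conjHom (preimageAlong θ P') g,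
        ⟨preimageAlong_le θ P', hval, g, fun x => rfl⟩,
        preimageAlong_le θ P', hval, fun x => ((mem_preimageAlong θ P' x).mp x.2).2, fun x => ?_⟩
      obtain ⟨hxT, hy, hx⟩ := hpre x
      have h1 := hg ⟨θ ⟨x, hxT⟩, hy⟩
      have h2 : ι ⟨(θ ⟨x, hxT⟩ : Ω), hP'S hy⟩ = x := hx
      rw [h2] at h1
      have h3 : (⟨conjHom (preimageAlong θ P') g x, hval x⟩ : ↥(T : Subgroup G)) =
          ⟨ι ⟨φ' ⟨θ ⟨x, hxT⟩, hy⟩, hφ'S _⟩, hT.ge ⟨_, rfl⟩⟩ := Subtype.ext h1.symm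
      rw [h3, hθι]
    · rintro ⟨hP'S, φ, ⟨hP, hφT, g, hg⟩, hP₁, hφ₁, hP'₁, hind⟩
      have hxmem : ∀ y : P', (ι ⟨y, hP'S y.2⟩ : G) ∈ preimageAlong θ P' := by
        intro y
        refine (mem_preimageAlong θ P' _).mpr ⟨hT.ge ⟨_, rfl⟩, ?_⟩
        rw [hθι]; exact y.2
      have hφ'e : ∀ y : P', φ' y = θ ⟨φ ⟨ι ⟨y, hP'S y.2⟩, hxmem y⟩, hφ₁ _⟩ := by
        intro y
        rw [← hind ⟨ι ⟨y, hP'S y.2⟩, hxmem y⟩]
        congr 1
        apply Subtype.ext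
        exact (hθι ⟨y, hP'S y.2⟩ _).symm
      have hφ'S : ∀ y : P', φ' y ∈ S := fun y => by rw [hφ'e]; exact hθS _
      apply (hreal P' hP'S φ' hφ'S).mpr
      refine ⟨g, fun y => ?_⟩
      have h1 : (⟨φ' y, hφ'S y⟩ : S) = ⟨θ ⟨φ ⟨ι ⟨y, hP'S y.2⟩, hxmem y⟩, hφ₁ _⟩, hθS _⟩ :=
        Subtype.ext (hφ'e y)
      rw [h1, hιθ]
      exact hg _
  · have hx1 : (x : G) = 1 := Subgroup.mem_bot.mp (hR x.2)
    have : x = 1 := Subtype.ext hx1
    rw [this, map_one]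
    exact Subgroup.one_mem _


/-- A fusion system with a model is constrained. -/
theorem isConstrained_of_isModel [Finite S] (p : ℕ) [Fact p.Prime]
    (F : FusionSystem S) {G : Type*} [Group G] (ι : S →* G) (hG : F.IsModel p G ι) :
    F.IsConstrained p := by
  obtain ⟨hfin, hreal, ⟨T, hT⟩, hcent⟩ := hG
  haveI := hfin
  have hsat := isSaturated_of_isRealizedBy_sylow p F ι hreal T hT
  obtain ⟨hinj, hreal'⟩ := hreal
  have hUT : pCore p G ≤ ι.range := hT ▸ pCore_le_sylow T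
  have hUn : (pCore p G).Normal := pCore_normal p G
  set Q₀ : Subgroup Ω := ((pCore p G).comap ι).map S.subtype with hQ₀
  have hQ₀S : Q₀ ≤ S := Subgroup.map_subtype_le _
  have hQ₀mem : ∀ (x : Ω) (hx : x ∈ Q₀), ι ⟨x, hQ₀S hx⟩ ∈ pCore p G := by
    rintro _ ⟨n, hn, rfl⟩
    exact hn
  have hmemQ₀ : ∀ s : S, ι s ∈ pCore p G → (s : Ω) ∈ Q₀ := fun n hn => ⟨n, hn, rfl⟩
  haveI : Finite Q₀ := finite_of_le hQ₀S
  have hstable : ∀ (P : Subgroup Ω) (φ : P →* Ω), φ ∈ F.Hom P → ∀ x : P, (x : Ω) ∈ Q₀ → φ x ∈ Q₀ := by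
    intro P φ hφ x hx
    obtain ⟨hPS, hφS⟩ := F.le_of_mem hφ
    obtain ⟨g, hg⟩ := (hreal' P hPS φ hφS).mp hφ
    apply hmemQ₀ ⟨φ x, hφS x⟩
    rw [hg]
    exact hUn.conj_mem _ (hQ₀mem x hx) g
  refine ⟨hsat, Q₀, ⟨hQ₀S, fun P φ hφ => ?_⟩, hQ₀S, fun Q' hQ' => ?_⟩
  · obtain ⟨hPS, hφS⟩ := F.le_of_mem hφ
    obtain ⟨g, hg⟩ := (hreal' P hPS φ hφS).mp hφ
    have hPQ : P ⊔ Q₀ ≤ S := sup_le hPS hQ₀S
    set Y : Subgroup S := (ι.range).comap ((MulAut.conj g).toMonoidHom.comp ι) with hY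
    have hle : P ⊔ Q₀ ≤ Y.map S.subtype := by
      apply sup_le
      · intro x hx
        refine ⟨⟨x, hPS hx⟩, ?_, rfl⟩
        show g * ι ⟨x, hPS hx⟩ * g⁻¹ ∈ ι.range
        rw [← hg ⟨x, hx⟩]
        exact ⟨_, rfl⟩
      · intro x hx
        refine ⟨⟨x, hQ₀S hx⟩, ?_, rfl⟩
        show g * ι ⟨x, hQ₀S hx⟩ * g⁻¹ ∈ ι.range
        exact hUT (hUn.conj_mem _ (hQ₀mem x hx) g)
    have hrng : ∀ x : ↥(P ⊔ Q₀), g * ι ⟨x, hPQ x.2⟩ * g⁻¹ ∈ ι.range := by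
      intro x
      obtain ⟨s, hs, hsx⟩ := hle x.2
      have : s = ⟨x, hPQ x.2⟩ := Subtype.ext hsx
      rw [← this]
      exact hs
    obtain ⟨ψ, hψS, hψ⟩ := exists_hom_of_conj ι hinj hPQ g hrng
    refine ⟨ψ, (hreal' _ hPQ ψ hψS).mpr ⟨g, hψ⟩, fun x => ?_, ?_⟩
    · have h1 := hψ (Subgroup.inclusion le_sup_left x)
      have h2 := hg x
      have h3 : ι ⟨ψ (Subgroup.inclusion le_sup_left x), hψS _⟩ = ι ⟨φ x, hφS x⟩ := by
        rw [h1, h2]; rfl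
      exact congrArg Subtype.val (hinj h3)
    · ext y
      constructor
      · rintro ⟨r, hr, rfl⟩
        have hrQ : (r : Ω) ∈ Q₀ := Subgroup.mem_subgroupOf.mp hr
        apply hmemQ₀ ⟨ψ r, hψS r⟩
        rw [hψ]
        exact hUn.conj_mem _ (hQ₀mem r hrQ) g
      · intro hy
        have hu : g⁻¹ * ι ⟨y, hQ₀S hy⟩ * g⁻¹⁻¹ ∈ pCore p G := hUn.conj_mem _ (hQ₀mem y hy) g⁻¹
        obtain ⟨s, hs⟩ := hUT hu
        have hsQ : (s : Ω) ∈ Q₀ := hmemQ₀ s (hs ▸ hu)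
        refine ⟨⟨s, Subgroup.mem_sup_right hsQ⟩, Subgroup.mem_subgroupOf.mpr hsQ, ?_⟩
        have h1 := hψ ⟨s, Subgroup.mem_sup_right hsQ⟩
        have h2 : ι ⟨ψ ⟨s, Subgroup.mem_sup_right hsQ⟩, hψS _⟩ = ι ⟨y, hQ₀S hy⟩ := by
          rw [h1]
          show g * ι s * g⁻¹ = _
          rw [hs]; group
        exact congrArg Subtype.val (hinj h2)
  · obtain ⟨φ, hφ, rfl⟩ := hQ'
    have hrange : φ.range = Q₀ := by
      apply Subgroup.eq_of_le_of_card_ge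
      · rintro _ ⟨x, rfl⟩
        exact hstable Q₀ φ hφ x x.2
      · exact le_of_eq (Nat.card_congr (Equiv.ofInjective φ (F.injective_of_mem hφ)))
    rw [hrange]
    rintro x ⟨hxS, hxC⟩
    apply hmemQ₀ ⟨x, hxS⟩
    apply hcent
    rw [Subgroup.mem_centralizer_iff]
    intro u hu
    obtain ⟨s, rfl⟩ := hUT hu
    have hsQ := hmemQ₀ s hu
    have h1 : (s : Ω) * x = x * s := (Subgroup.mem_centralizer_iff.mp hxC) s hsQ
    have h2 : s * (⟨x, hxS⟩ : S) = ⟨x, hxS⟩ * s := Subtype.ext h1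
    rw [← map_mul, ← map_mul, h2]

end Cfsg.Agent.Lib.Helper7
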