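import Mathlib
import Cfsg.Prelude.Def_FusionSystem
import Cfsg.Agent.Lib.Helper7.ModelConstrained

set_option autoImplicit false

namespace Cfsg.Agent.Lib.Helper7

open Cfsg Cfsg.FusionSystem
open scoped Pointwise

variable {G : Type*} [Group G]

theorem fusionSystemOfSubgroup_isSaturated [Finite G] (p : ℕ) [Fact p.Prime] (H T : Subgroup G)
    (hTH : T ≤ H) (hT : IsSylowIn p T H) : (fusionSystemOfSubgroup H T hTH).IsSaturated p := by
  obtain ⟨R, hR⟩ := hT.exists_sylow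
  apply isSaturated_of_isRealizedBy_sylow p _ (Subgroup.inclusion hTH) _ R
  · rw [hR, Subgroup.inclusion_range]
  · refine ⟨Subgroup.inclusion_injective hTH, fun P hP φ hφ => ?_⟩
    constructor
    · rintro ⟨-, -, g, hg, hge⟩
      exact ⟨⟨g, hg⟩, fun x => Subtype.ext (hge x)⟩
    · rintro ⟨g, hg⟩
      exact ⟨hP, hφ, g, g.2, fun x => congrArg Subtype.val (hg x)⟩

theorem isSylowIn_inf_normal [Finite G] (p : ℕ) [Fact p.Prime] (S : Sylow p G) (H : Subgroup G)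
    [H.Normal] : IsSylowIn p ((S : Subgroup G) ⊓ H) H := by
  apply (IsSylowIn.of_sylow_top S).inf_normal H le_top
  rw [Subgroup.normalizer_eq_top]

/-- elements of `Aut_{F_S(G)}(T)` are conjugations -/
theorem gfs_autGroup_conj {S T : Subgroup G} (hTS : T ≤ S) (α : MulAut T)
    (hα : α ∈ (groupFusionSystem S).autGroup T) : ∃ g : G, ∀ x : T, ((α x : T) : G) = g * x * g⁻¹ := by
  obtain ⟨-, -, g, hg⟩ := (mem_autGroup_iff (groupFusionSystem S) hTS α).mp hα
  exact ⟨g, hg⟩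

theorem fsos_autGroup_conj {H T : Subgroup G} (hTH : T ≤ H) (α : MulAut T)
    (hα : α ∈ (fusionSystemOfSubgroup H T hTH).autGroup T) :
    ∃ g ∈ H, ∀ x : T, ((α x : T) : G) = g * x * g⁻¹ := by
  obtain ⟨-, -, g, hgH, hg⟩ := (mem_autGroup_iff (fusionSystemOfSubgroup H T hTH) le_rfl α).mp hα
  exact ⟨g, hgH, hg⟩

theorem fsos_isInvariantIn [Finite G] (p : ℕ) [Fact p.Prime] (S : Sylow p G) (H : Subgroup G)
    [hHn : H.Normal] :
    (fusionSystemOfSubgroup H ((S : Subgroup G) ⊓ H) inf_le_right).IsInvariantIn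
      (groupFusionSystem (S : Subgroup G)) := by
  set T : Subgroup G := (S : Subgroup G) ⊓ H with hTdef
  have hTS : T ≤ (S : Subgroup G) := inf_le_left
  have hTH : T ≤ H := inf_le_right
  haveI : Finite T := Finite.of_injective _ (Subgroup.inclusion_injective hTH)
  refine ⟨?_, ⟨hTS, ?_⟩, ?_, ?_⟩
  · rintro P φ ⟨hP, hφT, g, -, hg⟩
    exact ⟨hP.trans hTS, fun x => hTS (hφT x), g, hg⟩
  · rintro R hR φ ⟨-, hφS, g, hg⟩ x
    refine ⟨hφS x, ?_⟩
    rw [hg]
    exact hHn.conj_mem _ (hTH (hR x.2)) g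
  · rintro P hPT φ ⟨-, hφT, h, hhH, hh⟩ α hα
    obtain ⟨g, hg⟩ := gfs_autGroup_conj hTS α hα
    set P' := (P.subgroupOf T).map (T.subtype.comp α.toMonoidHom) with hP'
    have hP'T : P' ≤ T := by
      rintro _ ⟨x, -, rfl⟩
      exact (α x).2
    have hmemP' : ∀ y : P', ∃ x : P, (y : G) = g * x * g⁻¹ := by
      rintro ⟨_, x, hx, rfl⟩
      exact ⟨⟨x, Subgroup.mem_subgroupOf.mp hx⟩, hg x⟩
    refine ⟨conjHom P' (g * h * g⁻¹), ⟨hP'T, fun y => ?_,
      g * h * g⁻¹, hHn.conj_mem h hhH g, fun y => rfl⟩, fun x hφx hαx => ?_⟩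
    · obtain ⟨x, hx⟩ := hmemP' y
      have h1 := hg ⟨φ x, hφT x⟩
      have h2 : conjHom P' (g * h * g⁻¹) y = g * φ x * g⁻¹ := by
        show g * h * g⁻¹ * (y : G) * (g * h * g⁻¹)⁻¹ = _
        rw [hx, hh]; group
      rw [h2, ← h1]
      exact (α _).2
    · show g * h * g⁻¹ * ((α ⟨x, hPT x.2⟩ : T) : G) * (g * h * g⁻¹)⁻¹ = ((α ⟨φ x, hφx⟩ : T) : G)
      rw [hg, hg]
      show _ = g * φ x * g⁻¹
      rw [hh]; group
  · rintro P hPT φ ⟨-, hφS, g, hg⟩
    -- Frattini argument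
    obtain ⟨R, hR⟩ := (isSylowIn_inf_normal p S H).exists_sylow
    have hfr := Sylow.normalizer_sup_eq_top R
    rw [hR] at hfr
    have hmap : ((T.subgroupOf H).map H.subtype) = T := by
      rw [Subgroup.map_subgroupOf_eq_of_le hTH]
    rw [hmap] at hfr
    have hgmem : g ∈ Subgroup.normalizer (T : Set G) ⊔ H := by rw [hfr]; trivial
    obtain ⟨n, hn, h, hhH, rfl⟩ : ∃ n ∈ Subgroup.normalizer (T : Set G), ∃ h ∈ H, n * h = g := by
      rw [← SetLike.mem_coe, Subgroup.mul_normal] at hgmem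
      obtain ⟨n, hn, h, hh, e⟩ := hgmem
      exact ⟨n, hn, h, hh, e⟩
    have hφT : ∀ x : P, φ x ∈ T := by
      intro x
      refine ⟨hφS x, ?_⟩
      rw [hg]
      exact hHn.conj_mem _ (hTH (hPT x.2)) _
    have hhT : ∀ x : P, h * (x : G) * h⁻¹ ∈ T := by
      intro x
      have h1 := hφT x
      rw [hg] at h1
      have h2 := (Subgroup.mem_normalizer_iff.mp (Subgroup.inv_mem _ hn) _).mp h1
      have e : n⁻¹ * (n * h * (x : G) * (n * h)⁻¹) * n⁻¹⁻¹ = h * x * h⁻¹ := by group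
      rwa [e] at h2
    refine ⟨T.normalizerMonoidHom ⟨n, hn⟩, ?_, conjHom P h, ⟨hPT, hhT, h, hhH, fun x => rfl⟩,
      fun x hx => ?_⟩
    · rw [mem_autGroup_iff (groupFusionSystem (S : Subgroup G)) hTS]
      refine ⟨hTS, fun x => hTS ((T.normalizerMonoidHom ⟨n, hn⟩) x).2, n, fun x => rfl⟩
    · rw [hg]
      show n * h * (x : G) * (n * h)⁻¹ = n * (h * x * h⁻¹) * n⁻¹
      group


theorem conj_mem_centralizer_of_mem_normalizer {T : Subgroup G} {n x : G}
    (hn : n ∈ Subgroup.normalizer (T : Set G)) (hx : x ∈ Subgroup.centralizer (T : Set G)) :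
    n * x * n⁻¹ ∈ Subgroup.centralizer (T : Set G) := by
  rw [Subgroup.mem_centralizer_iff] at hx ⊢
  intro t ht
  have h1 : n⁻¹ * t * n ∈ T := by
    have := (Subgroup.mem_normalizer_iff.mp (Subgroup.inv_mem _ hn) t).mp ht
    simpa using this
  have h2 := hx _ h1
  calc t * (n * x * n⁻¹) = n * ((n⁻¹ * t * n) * x) * n⁻¹ := by group
    _ = n * (x * (n⁻¹ * t * n)) * n⁻¹ := by rw [h2]
    _ = n * x * n⁻¹ * t := by group

theorem sylow_le_normalizer_inf_normal (p : ℕ) (S : Sylow p G) (H : Subgroup G) [hHn : H.Normal] :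
    (S : Subgroup G) ≤ Subgroup.normalizer ((((S : Subgroup G) ⊓ H : Subgroup G)) : Set G) := by
  intro s hs
  rw [Subgroup.mem_normalizer_iff]
  intro x
  constructor
  · rintro ⟨hxS, hxH⟩
    exact ⟨mul_mem (mul_mem hs hxS) (Subgroup.inv_mem _ hs), hHn.conj_mem _ hxH _⟩
  · rintro ⟨hxS, hxH⟩
    have e : x = s⁻¹ * (s * x * s⁻¹) * s⁻¹⁻¹ := by group
    rw [e]
    exact ⟨mul_mem (mul_mem (Subgroup.inv_mem _ hs) hxS) (Subgroup.inv_mem _ (Subgroup.inv_mem _ hs)), hHn.conj_mem _ hxH s⁻¹⟩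

theorem exists_adjust_normalizing [Finite G] (p : ℕ) [Fact p.Prime] (S : Sylow p G) (H : Subgroup G)
    [hHn : H.Normal] (h : G) (hhH : h ∈ H)
    (hhT : h ∈ Subgroup.normalizer (((S : Subgroup G) ⊓ H : Subgroup G) : Set G)) :
    ∃ h' ∈ H, (∀ t ∈ (S : Subgroup G) ⊓ H, h' * t * h'⁻¹ = h * t * h⁻¹) ∧
      ∀ c ∈ centralizerIn (S : Subgroup G) ((S : Subgroup G) ⊓ H),
        h' * c * h'⁻¹ ∈ centralizerIn (S : Subgroup G) ((S : Subgroup G) ⊓ H) := by
  set T : Subgroup G := (S : Subgroup G) ⊓ H with hT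
  set CG : Subgroup G := Subgroup.centralizer (T : Set G) with hCG
  set N : Subgroup G := Subgroup.normalizer (T : Set G) with hN
  have hSN : (S : Subgroup G) ≤ N := sylow_le_normalizer_inf_normal p S H
  have hS_N : IsSylowIn p (S : Subgroup G) N := IsSylowIn.of_sylow_le S hSN
  have hCG_N : CG ≤ N := Subgroup.centralizer_le_normalizer _
  have hconjCG : ∀ n ∈ N, ∀ x ∈ CG, n * x * n⁻¹ ∈ CG := fun n hn x hx =>
    conj_mem_centralizer_of_mem_normalizer hn hx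
  have hN_CG : N ≤ Subgroup.normalizer (CG : Set G) := by
    intro n hn
    rw [Subgroup.mem_normalizer_iff]
    intro x
    refine ⟨hconjCG n hn x, fun hx => ?_⟩
    have := hconjCG n⁻¹ (Subgroup.inv_mem _ hn) _ hx
    have e : n⁻¹ * (n * x * n⁻¹) * n⁻¹⁻¹ = x := by group
    rwa [e] at this
  have hC : IsSylowIn p (centralizerIn (S : Subgroup G) T) CG := hS_N.inf_normal CG hCG_N hN_CG
  set C : Subgroup G := centralizerIn (S : Subgroup G) T with hCdef
  have hC_S : C ≤ (S : Subgroup G) := inf_le_left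
  have hC_CG : C ≤ CG := inf_le_right
  set M : Subgroup G := H ⊓ CG with hM
  have hconjM : ∀ n ∈ N, ∀ x ∈ M, n * x * n⁻¹ ∈ M := fun n hn x hx =>
    ⟨hHn.conj_mem _ hx.1 _, hconjCG n hn x hx.2⟩
  have hN_M : N ≤ Subgroup.normalizer (M : Set G) := by
    intro n hn
    rw [Subgroup.mem_normalizer_iff]
    intro x
    refine ⟨hconjM n hn x, fun hx => ?_⟩
    have := hconjM n⁻¹ (Subgroup.inv_mem _ hn) _ hx
    have e : n⁻¹ * (n * x * n⁻¹) * n⁻¹⁻¹ = x := by group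
    rwa [e] at this
  have hC_M : C ≤ Subgroup.normalizer (M : Set G) := (hC_S.trans hSN).trans hN_M
  have hC2 : IsSylowIn p C (C ⊔ M) := hC.of_le_mid le_sup_left (sup_le hC_CG inf_le_right)
  set B : Subgroup G := C.map (MulAut.conj h).toMonoidHom with hB
  have hBp : IsPGroup p B := hC.isPGroup.map _
  have hBA : B ≤ C ⊔ M := by
    rintro _ ⟨c, hc, rfl⟩
    show h * c * h⁻¹ ∈ C ⊔ M
    have e : h * c * h⁻¹ = c * (c⁻¹ * h * c⁻¹⁻¹ * h⁻¹) := by group
    rw [e]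
    refine mul_mem (Subgroup.mem_sup_left hc) (Subgroup.mem_sup_right ⟨?_, ?_⟩)
    · exact mul_mem (hHn.conj_mem _ hhH _) (Subgroup.inv_mem _ hhH)
    · have : c⁻¹ * h * c⁻¹⁻¹ * h⁻¹ = c⁻¹ * (h * c * h⁻¹) := by group
      rw [this]
      exact mul_mem (Subgroup.inv_mem _ (hC_CG hc)) (hconjCG h hhT c (hC_CG hc))
  obtain ⟨a, ha, hab⟩ := hC2.exists_conj_le hBp hBA
  have hcoe := Subgroup.coe_mul_of_left_le_normalizer_right C M hC_M
  have ha' : a ∈ ((C : Set G) * (M : Set G)) := by rw [← hcoe]; exact ha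
  obtain ⟨c₀, hc₀, m, hm, rfl⟩ := ha'
  refine ⟨m * h, mul_mem hm.1 hhH, fun t ht => ?_, fun c hc => ?_⟩
  · have h1 : h * t * h⁻¹ ∈ T := (Subgroup.mem_normalizer_iff.mp hhT t).mp ht
    have h2 := (Subgroup.mem_centralizer_iff.mp hm.2) _ h1
    calc m * h * t * (m * h)⁻¹ = m * (h * t * h⁻¹) * m⁻¹ := by group
      _ = (h * t * h⁻¹) * m * m⁻¹ := by rw [h2]
      _ = h * t * h⁻¹ := by group
  · have h1 := hab (h * c * h⁻¹) ⟨c, hc, rfl⟩
    have e : m * h * c * (m * h)⁻¹ = c₀⁻¹ * (c₀ * m * (h * c * h⁻¹) * (c₀ * m)⁻¹) * c₀ := by group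
    rw [e]
    exact mul_mem (mul_mem (Subgroup.inv_mem _ hc₀) h1) hc₀


theorem fsos_isNormalIn [Finite G] (p : ℕ) [Fact p.Prime] (S : Sylow p G) (H : Subgroup G)
    [hHn : H.Normal] :
    (fusionSystemOfSubgroup H ((S : Subgroup G) ⊓ H) inf_le_right).IsNormalIn
      (groupFusionSystem (S : Subgroup G)) p := by
  refine ⟨⟨fusionSystemOfSubgroup_isSaturated p H _ inf_le_right (isSylowIn_inf_normal p S H),
    gfs_isSaturated p S, fsos_isInvariantIn p S H⟩, ?_⟩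
  set T : Subgroup G := (S : Subgroup G) ⊓ H with hTdef
  have hTS : T ≤ (S : Subgroup G) := inf_le_left
  intro α hα
  obtain ⟨h, hhH, hh⟩ := fsos_autGroup_conj inf_le_right α hα
  have hhT : h ∈ Subgroup.normalizer (T : Set G) := by
    rw [Subgroup.mem_normalizer_iff]
    intro x
    constructor
    · intro hx
      have := hh ⟨x, hx⟩
      rw [← this]; exact (α _).2
    · intro hx
      have h1 := hh (α.symm ⟨_, hx⟩)
      rw [α.apply_symm_apply] at h1
      have e : x = ((α.symm ⟨_, hx⟩ : T) : G) := mul_left_cancel (mul_right_cancel h1)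
      rw [e]; exact (α.symm _).2
  obtain ⟨h', hh'H, hh'T, hh'C⟩ := exists_adjust_normalizing p S H h hhH hhT
  set C : Subgroup G := centralizerIn (S : Subgroup G) T with hCdef
  have hCS : C ≤ (S : Subgroup G) := inf_le_left
  have hTCS : T ⊔ C ≤ (S : Subgroup G) := sup_le hTS hCS
  have hle : T ⊔ C ≤ (T ⊔ C).comap (MulAut.conj h').toMonoidHom := by
    apply sup_le
    · intro t ht
      show h' * t * h'⁻¹ ∈ T ⊔ C
      rw [hh'T t ht]
      exact Subgroup.mem_sup_left ((Subgroup.mem_normalizer_iff.mp hhT t).mp ht)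
    · intro c hc
      exact Subgroup.mem_sup_right (hh'C c hc)
  have hn : h' ∈ Subgroup.normalizer ((T ⊔ C : Subgroup G) : Set G) :=
    Subgroup.mem_normalizer_fintype fun n hn => hle hn
  refine ⟨(T ⊔ C).normalizerMonoidHom ⟨h', hn⟩, ?_, fun x => ?_, fun c hc => ?_⟩
  · rw [mem_autGroup_iff (groupFusionSystem (S : Subgroup G)) hTCS]
    exact ⟨hTCS, fun x => hTCS (((T ⊔ C).normalizerMonoidHom ⟨h', hn⟩) x).2, h', fun x => rfl⟩
  · show h' * (x : G) * h'⁻¹ = _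
    rw [hh'T _ x.2, hh x]
  · show (c : G)⁻¹ * (h' * (c : G) * h'⁻¹) ∈ T ⊓ Subgroup.centralizer (T : Set G)
    have h1 := hh'C _ hc
    refine ⟨⟨mul_mem (Subgroup.inv_mem _ (hCS hc)) (hCS h1), ?_⟩,
      mul_mem (Subgroup.inv_mem _ hc.2) h1.2⟩
    have e : (c : G)⁻¹ * (h' * (c : G) * h'⁻¹) = ((c : G)⁻¹ * h' * (c : G)⁻¹⁻¹) * h'⁻¹ := by group
    rw [e]
    exact mul_mem (hHn.conj_mem _ hh'H _) (Subgroup.inv_mem _ hh'H)

end Cfsg.Agent.Lib.Helper7
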