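import Mathlib
import Cfsg.Prelude.Def_FusionSystem
import Cfsg.Agent.Lib.Helper7.Alperin5
import Cfsg.Agent.Lib.Helper7.FusionInner
import Cfsg.Agent.Lib.Helper7.FactorHyperfocal
import Cfsg.Agent.Lib.Lead.PResidual

set_option autoImplicit false

namespace Cfsg.Agent.Lib.Helper7

open Cfsg Cfsg.FusionSystem

variable {Ω : Type*} [Group Ω] {S : Subgroup Ω}

/-- The full subsystem of `F₀` (over `U`) on a subgroup `T ≤ U`. -/
def fullSub {U : Subgroup Ω} (F₀ : FusionSystem U) (T : Subgroup Ω) (hTU : T ≤ U) : FusionSystem T where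
  Hom P := {φ | φ ∈ F₀.Hom P ∧ P ≤ T ∧ ∀ x, φ x ∈ T}
  le_of_mem h := ⟨h.2.1, h.2.2⟩
  injective_of_mem h := F₀.injective_of_mem h.1
  conj_mem := by
    intro P g hP hg
    exact ⟨F₀.conj_mem (hP.trans hTU) (hTU hg), hP,
      fun x => T.mul_mem (T.mul_mem hg (hP x.2)) (T.inv_mem hg)⟩
  comp_mem := by
    intro P Q φ ψ hφ hψ h
    exact ⟨F₀.comp_mem hφ.1 hψ.1 h, hφ.2.1, fun x => hψ.2.2 _⟩
  inv_mem := by
    intro P φ hφ
    obtain ⟨ψ, hψ, hψe⟩ := F₀.inv_mem hφ.1
    refine ⟨ψ, ⟨hψ, ?_, ?_⟩, hψe⟩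
    · rintro _ ⟨x, rfl⟩
      exact hφ.2.2 x
    · rintro ⟨_, x, rfl⟩
      rw [hψe]
      exact hφ.2.1 x.2

theorem autGroup_le_of_isSubsystemOf {T : Subgroup Ω} (E : FusionSystem T) (F : FusionSystem S)
    (h : E.IsSubsystemOf F) (P : Subgroup Ω) : E.autGroup P ≤ F.autGroup P := by
  unfold FusionSystem.autGroup
  apply Subgroup.closure_mono
  intro α hα
  exact h P hα

theorem isSubsystemOf_of_pPowerIndex [Finite S] (p : ℕ) [Fact p.Prime] (hS : IsPGroup p S)
    (F : FusionSystem S) {T U : Subgroup Ω} (E : FusionSystem T) (hEsat : E.IsSaturated p)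
    (hEF : E.IsSubsystemOf F) (F₀ : FusionSystem U) (hTU : T ≤ U)
    (hidx : F₀.HasPPowerIndexIn F p) : E.IsSubsystemOf F₀ := by
  have hTS : T ≤ S := (F.le_of_mem (hEF T (fs_subtype_mem E le_rfl))).1
  haveI : Finite T := finite_of_le hTS
  have hT : IsPGroup p T := hS.to_le hTS
  have key : E ≤ fullSub F₀ T hTU := by
    apply alperin_goldschmidt p hT E hEsat
    intro P hP
    have hFA : E.IsFullyAutomized p P := by
      rcases hP with rfl | hess
      · exact isFullyAutomized_top_of_isSaturated p hT E hEsat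
      · exact (((isSaturated_iff_sylow_extension p hT E).mp hEsat).1 P hess.2.1).2
    obtain ⟨hPT, R, hR⟩ := hFA
    haveI : Finite P := finite_of_le (hPT.trans hTS)
    haveI : Finite (MulAut P) := inferInstance
    have hPU : P ≤ U := hPT.trans hTU
    intro α hα
    obtain ⟨r, hr, m, hm, hαrm⟩ :=
      Cfsg.Agent.Lib.Lead.PResidual.exists_mul (p := p) (R : Subgroup (E.autGroup P))
        R.not_dvd_index ⟨α, hα⟩
    have hr' : (r : MulAut P) ∈ autInducedBy T P := by
      rw [hR] at hr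
      exact Subgroup.mem_subgroupOf.mp hr
    have h1 : (r : MulAut P) ∈ (fullSub F₀ T hTU).autGroup P :=
      autInducedBy_le_autGroup (fullSub F₀ T hTU) hPT hr'
    have hle := autGroup_le_of_isSubsystemOf E F hEF P
    have hm' : Subgroup.inclusion hle m ∈ pResidual p (F.autGroup P) :=
      pResidual_map_le p (Subgroup.inclusion hle) ⟨m, hm, rfl⟩
    have hm'' : (m : MulAut P) ∈ F₀.autGroup P :=
      hidx.2.2 P hPU ⟨Subgroup.inclusion hle m, hm', rfl⟩
    have h2 : (m : MulAut P) ∈ (fullSub F₀ T hTU).autGroup P := by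
      rw [mem_autGroup_iff (fullSub F₀ T hTU) hPT]
      exact ⟨(mem_autGroup_iff F₀ hPU _).mp hm'', hPT, fun x => hPT ((m : MulAut P) x).2⟩
    have e : α = (r : MulAut P) * (m : MulAut P) := congrArg Subtype.val hαrm
    rw [e]
    exact Subgroup.mul_mem _ h1 h2
  intro P φ hφ
  exact (key P hφ).1

end Cfsg.Agent.Lib.Helper7
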