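import Mathlib
import Cfsg.Prelude.Def_FusionSystem
import Cfsg.Agent.Lib.Helper7.GroupNormalSubsystem
import Cfsg.Agent.Lib.Helper7.FactorHyperfocal
import Cfsg.Agent.Lib.Helper7.PPowerIndexSub
import Cfsg.Agent.Lib.Helper7.FusionFocal

set_option autoImplicit false

namespace Cfsg.Agent.Lib.Helper7

open Cfsg Cfsg.FusionSystem

variable {G : Type*} [Group G]

/-- elements of `O^p(Aut_K(P))` (automorphisms of `P` induced by `K`-conjugations, `K ⊴ G`-closed under
normalizers) are induced by elements of `O^p(G) ∩ K`. -/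
theorem fsos_pResidual_aut_conj [Finite G] (p : ℕ) [Fact p.Prime] {H T P : Subgroup G} (hTH : T ≤ H)
    (hPT : P ≤ T) (α : (fusionSystemOfSubgroup H T hTH).autGroup P)
    (hα : α ∈ pResidual p ((fusionSystemOfSubgroup H T hTH).autGroup P)) :
    ∃ g ∈ pResidual p G, g ∈ H ∧ ∀ x : P, (((α : MulAut P) x : P) : G) = g * x * g⁻¹ := by
  set E := fusionSystemOfSubgroup H T hTH with hE
  set NP : Subgroup G := H ⊓ Subgroup.normalizer (P : Set G) with hNP
  have hNPle : NP ≤ Subgroup.normalizer (P : Set G) := inf_le_right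
  -- the map N_H(P) → Aut_E(P)
  have hmem : ∀ n : NP, P.normalizerMonoidHom ⟨n, hNPle n.2⟩ ∈ E.autGroup P := by
    intro n
    rw [mem_autGroup_iff E hPT]
    refine ⟨hPT, fun x => hPT (P.normalizerMonoidHom ⟨n, hNPle n.2⟩ x).2, n, n.2.1, fun x => rfl⟩
  set ρ : NP →* E.autGroup P :=
    (P.normalizerMonoidHom.comp (Subgroup.inclusion hNPle)).codRestrict _ hmem with hρ
  have hsurj : Function.Surjective ρ := by
    rintro ⟨β, hβ⟩
    obtain ⟨-, -, g, hgH, hg0⟩ := (mem_autGroup_iff E hPT β).mp hβ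
    have hg : ∀ x : P, ((β x : P) : G) = g * x * g⁻¹ := hg0
    have hgN : g ∈ Subgroup.normalizer (P : Set G) := by
      rw [Subgroup.mem_normalizer_iff]
      intro x
      constructor
      · intro hx
        have := hg ⟨x, hx⟩
        rw [← this]; exact (β _).2
      · intro hx
        have h1 := hg (β.symm ⟨_, hx⟩)
        rw [β.apply_symm_apply] at h1
        have e : x = ((β.symm ⟨_, hx⟩ : P) : G) := mul_left_cancel (mul_right_cancel h1)
        rw [e]; exact (β.symm _).2
    refine ⟨⟨g, hgH, hgN⟩, Subtype.ext ?_⟩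
    ext x
    exact (hg x).symm
  have h1 := pResidual_le_map_of_surjective p ρ hsurj hα
  obtain ⟨n, hn, hnα⟩ := h1
  have h2 : (n : G) ∈ pResidual p G := pResidual_map_le p NP.subtype ⟨n, hn, rfl⟩
  refine ⟨n, h2, n.2.1, fun x => ?_⟩
  rw [← hnα]
  rfl

/-- `hyp(F_T(H)) ≤ T ⊓ O^p(G)` when `O^p(G)`-conjugation stays ... -/
theorem fsos_hyperfocal_le [Finite G] (p : ℕ) [Fact p.Prime] {H T : Subgroup G} (hTH : T ≤ H) :
    (fusionSystemOfSubgroup H T hTH).hyperfocalSubgroup p ≤ T ⊓ pResidual p G := by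
  haveI : (pResidual p G).Normal := pResidual_normal p G
  unfold FusionSystem.hyperfocalSubgroup
  rw [Subgroup.closure_le]
  rintro _ ⟨P, α, x, hPT, hα, rfl⟩
  obtain ⟨g, hgK, -, hg⟩ := fsos_pResidual_aut_conj p hTH hPT α hα
  refine ⟨T.mul_mem (T.inv_mem (hPT x.2)) (hPT ((α : MulAut P) x).2), ?_⟩
  show (x : G)⁻¹ * (((α : MulAut P) x : P) : G) ∈ pResidual p G
  rw [hg x]
  have e : (x : G)⁻¹ * (g * (x : G) * g⁻¹) = ((x : G)⁻¹ * g * (x : G)⁻¹⁻¹) * g⁻¹ := by group
  rw [e]
  exact Subgroup.mul_mem _ (Subgroup.Normal.conj_mem inferInstance g hgK _) (Subgroup.inv_mem _ hgK)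

theorem hyperfocal_mono {Ω : Type*} [Group Ω] {S T : Subgroup Ω} (p : ℕ) (E : FusionSystem T)
    (F : FusionSystem S) (h : E.IsSubsystemOf F) :
    E.hyperfocalSubgroup p ≤ F.hyperfocalSubgroup p := by
  have hTS : T ≤ S := (F.le_of_mem (h T (fs_subtype_mem E le_rfl))).1
  unfold FusionSystem.hyperfocalSubgroup
  rw [Subgroup.closure_le]
  rintro _ ⟨P, α, x, hPT, hα, rfl⟩
  apply Subgroup.subset_closure
  set f : E.autGroup P →* F.autGroup P :=
    Subgroup.inclusion (autGroup_le_of_isSubsystemOf E F h P) with hf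
  have h1 : f α ∈ pResidual p (F.autGroup P) := pResidual_map_le p f ⟨α, hα, rfl⟩
  exact ⟨P, f α, x, hPT.trans hTS, h1, rfl⟩

theorem pResidual_pResidual_eq_top (p : ℕ) (G : Type*) [Group G] :
    pResidual p ↥(pResidual p G) = ⊤ := by
  have e : {g : ↥(pResidual p G) | Nat.Coprime (orderOf g) p} =
      ((↑) : ↥(pResidual p G) → G) ⁻¹' {g : G | Nat.Coprime (orderOf g) p} := by
    ext x
    simp only [Set.mem_ofPred_eq, Set.mem_preimage, Subgroup.orderOf_coe]
  show Subgroup.closure {g : ↥(pResidual p G) | Nat.Coprime (orderOf g) p} = ⊤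
  rw [e]
  exact Subgroup.closure_closure_coe_preimage (k := {g : G | Nat.Coprime (orderOf g) p})

theorem coprime_orderOf_of_mem_pResidual_comm {A : Type*} [CommGroup A] (p : ℕ) (a : A)
    (ha : a ∈ pResidual p A) : Nat.Coprime (orderOf a) p := by
  unfold pResidual at ha
  induction ha using Subgroup.closure_induction with
  | mem a ha => exact ha
  | one => rw [orderOf_one]; exact Nat.coprime_one_left p
  | mul a b _ _ iha ihb =>
    exact Nat.Coprime.coprime_dvd_left
      ((Commute.all a b).orderOf_mul_dvd_lcm.trans (Nat.lcm_dvd_mul _ _))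
      (Nat.Coprime.mul_left iha ihb)
  | inv a _ iha => rw [orderOf_inv]; exact iha

/-- in a group generated by `p'`-elements, every `p`-subgroup lies in the derived subgroup -/
theorem le_commutator_of_pResidual_eq_top {K : Type*} [Group K] (p : ℕ) [Fact p.Prime]
    (hK : pResidual p K = ⊤) (R : Subgroup K) (hR : IsPGroup p R) : R ≤ commutator K := by
  have hp : p.Prime := Fact.out
  intro x hx
  set π : K →* Abelianization K := Abelianization.of with hπ
  have h1 : π x ∈ pResidual p (Abelianization K) := by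
    apply pResidual_map_le p π
    exact ⟨x, by rw [hK]; trivial, rfl⟩
  have h2 := coprime_orderOf_of_mem_pResidual_comm p _ h1
  obtain ⟨k, hk⟩ := hR ⟨x, hx⟩
  have hk' : x ^ (p ^ k) = 1 := congrArg Subtype.val hk
  have h3 : orderOf (π x) ∣ p ^ k := by
    apply orderOf_dvd_of_pow_eq_one
    rw [← map_pow, hk', map_one]
  have h4 : orderOf (π x) = 1 := by
    have := Nat.Coprime.eq_one_of_dvd (Nat.Coprime.pow_right k h2) h3
    exact this
  have h5 : π x = 1 := orderOf_eq_one_iff.mp h4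
  have : x ∈ π.ker := h5
  rwa [hπ, Abelianization.ker_of] at this

theorem eq_top_of_sup_commutator_eq_top {P : Type*} [Group P] [Finite P] {p : ℕ} [Fact p.Prime]
    (hP : IsPGroup p P) (N : Subgroup P) [N.Normal] (h : N ⊔ commutator P = ⊤) : N = ⊤ := by
  haveI : Group.IsNilpotent P := hP.isNilpotent
  by_contra hne
  haveI : Nontrivial (P ⧸ N) := QuotientGroup.nontrivial_iff.mpr hne
  have hlt := Group.IsSolvable.commutator_lt_top_of_nontrivial (P ⧸ N)
  apply hlt.ne
  have h1 : (N ⊔ commutator P).map (QuotientGroup.mk' N) = ⊤ := by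
    rw [h, ← MonoidHom.range_eq_map, MonoidHom.range_eq_top]
    exact QuotientGroup.mk'_surjective N
  rw [Subgroup.map_sup, QuotientGroup.map_mk'_self, bot_sup_eq, commutator_def,
    Subgroup.map_commutator, ← MonoidHom.range_eq_map,
    MonoidHom.range_eq_top.mpr (QuotientGroup.mk'_surjective N)] at h1
  rw [commutator_def]
  exact h1

/-- focal subgroup theorem, fusion form: a Sylow subgroup `T` of `K = O^p(K)` lies in the focal subgroup
of `F_T(K)`. -/
theorem le_focalSubgroup_of_pResidual_top [Finite G] (p : ℕ) [Fact p.Prime] (K T : Subgroup G)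
    (hTK : T ≤ K) (hsyl : IsSylowIn p T K) (hK : pResidual p ↥K = ⊤) :
    T ≤ (fusionSystemOfSubgroup K T hTK).focalSubgroup := by
  obtain ⟨R, hR⟩ := hsyl.exists_sylow
  have h1 : (R : Subgroup K) ≤ commutator K :=
    le_commutator_of_pResidual_eq_top p hK (R : Subgroup K) R.isPGroup'
  have h2 := Subgroup.commutator_inf_eq_focalSubgroup R
  have h3 : (R : Subgroup K) = (R : Subgroup K).focalSubgroup := by
    rw [← h2]; exact (inf_eq_right.mpr h1).symm
  have hRmem : ∀ y : K, y ∈ (R : Subgroup K) ↔ (y : G) ∈ T := by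
    intro y; rw [hR, Subgroup.mem_subgroupOf]
  intro t ht
  have htK : t ∈ K := hTK ht
  have h4 : (⟨t, htK⟩ : K) ∈ (R : Subgroup K).focalSubgroup := by
    rw [← h3, hRmem]; exact ht
  -- image of the focal subgroup lies in the fusion focal subgroup
  have h5 : ((R : Subgroup K).focalSubgroup).map K.subtype ≤
      (fusionSystemOfSubgroup K T hTK).focalSubgroup := by
    rw [Subgroup.focalSubgroup_def, MonoidHom.map_closure, Subgroup.closure_le]
    rintro _ ⟨g, ⟨hgR, x, hxR, u, hgu⟩, rfl⟩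
    have hxT : (x : G) ∈ T := (hRmem x).mp hxR
    have hgT : (g : G) ∈ T := (hRmem g).mp hgR
    have hgv : (g : G) = (x : G) * (u : G) * (x : G)⁻¹ * (u : G)⁻¹ := by
      rw [hgu]; rfl
    have huxT : (u : G) * (x : G) * (u : G)⁻¹ ∈ T := by
      have e : (u : G) * (x : G) * (u : G)⁻¹ = (g : G)⁻¹ * (x : G) := by rw [hgv]; group
      rw [e]; exact T.mul_mem (T.inv_mem hgT) hxT
    have hzT : Subgroup.zpowers (x : G) ≤ T := by rw [Subgroup.zpowers_le]; exact hxT
    have hval : ∀ y : Subgroup.zpowers (x : G), conjHom (Subgroup.zpowers (x : G)) (u : G) y ∈ T := by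
      rintro ⟨_, k, rfl⟩
      show (u : G) * (x : G) ^ k * (u : G)⁻¹ ∈ T
      have e : (u : G) * (x : G) ^ k * (u : G)⁻¹ = ((u : G) * (x : G) * (u : G)⁻¹) ^ k := by
        rw [conj_zpow]
      rw [e]; exact T.zpow_mem huxT k
    apply Subgroup.subset_closure
    refine ⟨Subgroup.zpowers (x : G), conjHom (Subgroup.zpowers (x : G)) (u : G),
      ⟨(x : G)⁻¹, Subgroup.inv_mem _ (Subgroup.mem_zpowers _)⟩, ⟨hzT, hval, u, u.2, fun y => rfl⟩, ?_⟩
    show (g : G) = ((x : G)⁻¹)⁻¹ * ((u : G) * (x : G)⁻¹ * (u : G)⁻¹)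
    rw [hgv]; group
  exact h5 ⟨⟨t, htK⟩, h4, rfl⟩

/-- a Sylow `p`-subgroup `T` of a group `K` generated by `p'`-elements equals the hyperfocal subgroup of
`F_T(K)` -/
theorem fsos_hyperfocal_eq_of_pResidual_top [Finite G] (p : ℕ) [Fact p.Prime] (K T : Subgroup G)
    (hTK : T ≤ K) (hsyl : IsSylowIn p T K) (hK : pResidual p ↥K = ⊤) :
    (fusionSystemOfSubgroup K T hTK).hyperfocalSubgroup p = T := by
  set E := fusionSystemOfSubgroup K T hTK with hE
  have hle : E.hyperfocalSubgroup p ≤ T := hyperfocalSubgroup_le E p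
  apply le_antisymm hle
  have hEsat : E.IsSaturated p := fusionSystemOfSubgroup_isSaturated p K T hTK hsyl
  have hTp : IsPGroup p T := hsyl.isPGroup
  have hfoc := focalSubgroup_eq p hTp E hEsat
  have hTfoc : T ≤ E.focalSubgroup := le_focalSubgroup_of_pResidual_top p K T hTK hsyl hK
  rw [hfoc] at hTfoc
  -- pass to the group `T`
  set N : Subgroup T := (E.hyperfocalSubgroup p).subgroupOf T with hN
  haveI : N.Normal := by
    refine ⟨fun n hn g => ?_⟩
    rw [hN, Subgroup.mem_subgroupOf] at hn ⊢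
    exact hyperfocalSubgroup_conj_mem E p g g.2 n hn
  have hsup : N ⊔ commutator T = ⊤ := by
    rw [eq_top_iff]
    intro t _
    have h1 : (t : G) ∈ (N ⊔ commutator T).map T.subtype := by
      rw [Subgroup.map_sup, Subgroup.map_subtype_commutator, hN,
        Subgroup.map_subgroupOf_eq_of_le hle]
      exact hTfoc t.2
    obtain ⟨t', ht', hte⟩ := h1
    have : t' = t := Subtype.ext hte
    rw [← this]; exact ht'
  have hNtop := eq_top_of_sup_commutator_eq_top hTp N hsup
  intro t ht
  have : (⟨t, ht⟩ : T) ∈ N := by rw [hNtop]; trivial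
  exact Subgroup.mem_subgroupOf.mp this

theorem hyperfocal_subgroup_theorem [Finite G] (p : ℕ) [Fact p.Prime] (S : Sylow p G) :
    (groupFusionSystem (S : Subgroup G)).hyperfocalSubgroup p =
      (S : Subgroup G) ⊓ pResidual p G := by
  haveI : (pResidual p G).Normal := pResidual_normal p G
  apply le_antisymm
  · have h1 : (groupFusionSystem (S : Subgroup G)).IsSubsystemOf
        (fusionSystemOfSubgroup ⊤ (S : Subgroup G) le_top) := by
      rintro P φ ⟨hP, hφ, g, hg⟩
      exact ⟨hP, hφ, g, trivial, hg⟩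
    exact (hyperfocal_mono p _ _ h1).trans (fsos_hyperfocal_le p le_top)
  · have hTK : (S : Subgroup G) ⊓ pResidual p G ≤ pResidual p G := inf_le_right
    have hEF : (fusionSystemOfSubgroup (pResidual p G) ((S : Subgroup G) ⊓ pResidual p G)
        hTK).IsSubsystemOf (groupFusionSystem (S : Subgroup G)) := by
      rintro P φ ⟨hP, hφ, g, -, hg⟩
      exact ⟨hP.trans inf_le_left, fun x => (hφ x).1, g, hg⟩
    refine le_trans ?_ (hyperfocal_mono p _ _ hEF)
    rw [fsos_hyperfocal_eq_of_pResidual_top p (pResidual p G) _ hTK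
      (isSylowIn_inf_normal p S (pResidual p G)) (pResidual_pResidual_eq_top p G)]

end Cfsg.Agent.Lib.Helper7
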