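import Mathlib
import Cfsg.Agent.Lib.Lead.AlperinGoldschmidt
import Cfsg.Agent.S1961

/-!
# Glauberman: (W,V) controls strong fusion, local to global (S2002)
-/

set_option autoImplicit false
set_option linter.style.haveILetI false
set_option linter.unusedSectionVars false

namespace Cfsg.Agent.Lib.Helper7.PairFusion

open Cfsg Cfsg.Agent.Lib.Helper7 Cfsg.Agent.Lib.Lead.Conj Cfsg.Agent.Lib.Lead.ConjFamily Cfsg.Agent.S1963
  Cfsg.Agent.S1965 Cfsg.Agent.Lib.Lead.AlperinGoldschmidt

variable {G : Type*} [Group G]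

/-- guided factorization: `a = c * b₁ ⋯ bₙ`, `c ∈ C(X)`, each `bᵢ ∈ N ∪ C`, all partial conjugates of `X` in `Q`. -/
def Gd (Q N C : Subgroup G) (X : Set G) (a : G) : Prop :=
  ∃ c ∈ Subgroup.centralizer X, ∃ l : List G, (∀ b ∈ l, b ∈ N ∨ b ∈ C) ∧ a = c * l.prod ∧
    ∀ k : ℕ, rc ((l.take k).prod) X ⊆ (Q : Set G)

variable {Q N C : Subgroup G}

theorem Gd.of_centralizer {X : Set G} {c : G} (hc : c ∈ Subgroup.centralizer X) (hX : X ⊆ (Q : Set G)) :
    Gd Q N C X c :=
  ⟨c, hc, [], by simp, by simp, fun k => by simpa [rc_one] using hX⟩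

theorem Gd.single {X : Set G} {b : G} (hb : b ∈ N ∨ b ∈ C) (hX : X ⊆ (Q : Set G))
    (hbX : rc b X ⊆ (Q : Set G)) : Gd Q N C X b := by
  refine ⟨1, Subgroup.one_mem _, [b], by simpa using hb, by simp, fun k => ?_⟩
  cases k with
  | zero => simpa [rc_one] using hX
  | succ k => simpa using hbX

theorem Gd.mono {X X' : Set G} {a : G} (hXX : X' ⊆ X) (h : Gd Q N C X a) : Gd Q N C X' a := by
  obtain ⟨c, hc, l, hl, ha, hk⟩ := h
  exact ⟨c, Subgroup.centralizer_le hXX hc, l, hl, ha, fun k => (rc_mono _ hXX).trans (hk k)⟩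

theorem Gd.mono_sub {Q' N' C' : Subgroup G} {X : Set G} {a : G} (hQ : Q ≤ Q') (hN : N ≤ N') (hC : C ≤ C')
    (h : Gd Q N C X a) : Gd Q' N' C' X a := by
  obtain ⟨c, hc, l, hl, ha, hk⟩ := h
  exact ⟨c, hc, l, fun b hb => (hl b hb).imp (fun h => hN h) (fun h => hC h), ha,
    fun k => (hk k).trans hQ⟩

theorem Gd.comp {X : Set G} {a a' : G} (h₁ : Gd Q N C X a) (h₂ : Gd Q N C (rc a X) a') :
    Gd Q N C X (a * a') := by
  obtain ⟨c₁, hc₁, l₁, hl₁, ha₁, hk₁⟩ := h₁
  obtain ⟨c₂, hc₂, l₂, hl₂, ha₂, hk₂⟩ := h₂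
  have e : rc a X = rc l₁.prod X := by
    rw [ha₁, rc_mul, rc_centralizer hc₁]
  rw [e] at hc₂ hk₂
  refine ⟨c₁ * (l₁.prod * c₂ * l₁.prod⁻¹), Subgroup.mul_mem _ hc₁ (conj_mem_centralizer hc₂),
    l₁ ++ l₂, ?_, ?_, fun k => ?_⟩
  · intro b hb
    rcases List.mem_append.mp hb with h | h
    · exact hl₁ b h
    · exact hl₂ b h
  · rw [List.prod_append, ha₁, ha₂]; group
  · rw [List.take_append, List.prod_append, rc_mul]
    by_cases hkl : k ≤ l₁.length
    · have : k - l₁.length = 0 := by omega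
      rw [this]
      simpa [rc_one] using hk₁ k
    · have : l₁.take k = l₁ := List.take_of_length_le (by omega)
      rw [this]
      exact hk₂ _

/-- replace every factor of a guided factorization by a guided factorization of another kind. -/
theorem Gd.bind {Q' N' C' : Subgroup G} (hQQ : Q ≤ Q')
    (hstep : ∀ (Y : Set G) (b : G), Y ⊆ (Q : Set G) → rc b Y ⊆ (Q : Set G) → (b ∈ N ∨ b ∈ C) → Gd Q' N' C' Y b)
    {X : Set G} {a : G} (h : Gd Q N C X a) : Gd Q' N' C' X a := by
  obtain ⟨c, hc, l, hl, ha, hk⟩ := h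
  have key : ∀ (l : List G) (X : Set G), (∀ b ∈ l, b ∈ N ∨ b ∈ C) →
      (∀ k : ℕ, rc ((l.take k).prod) X ⊆ (Q : Set G)) → Gd Q' N' C' X l.prod := by
    intro l
    induction l with
    | nil =>
      intro X _ hk
      have hX : X ⊆ (Q : Set G) := by simpa [rc_one] using hk 0
      simpa using Gd.of_centralizer (Q := Q') (N := N') (C := C') (Subgroup.one_mem _) (hX.trans hQQ)
    | cons b l ih =>
      intro X hl hk
      have hX : X ⊆ (Q : Set G) := by simpa [rc_one] using hk 0
      have hbX : rc b X ⊆ (Q : Set G) := by simpa using hk 1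
      rw [List.prod_cons]
      apply Gd.comp (hstep X b hX hbX (hl b (List.mem_cons_self ..)))
      apply ih _ (fun b' hb' => hl b' (List.mem_cons_of_mem _ hb'))
      intro k
      have := hk (k + 1)
      rw [List.take_succ_cons, List.prod_cons, rc_mul] at this
      exact this
  rw [ha]
  have hX : X ⊆ (Q : Set G) := by simpa [rc_one] using hk 0
  apply Gd.comp (Gd.of_centralizer hc (hX.trans hQQ))
  rw [rc_centralizer hc]
  exact key l X hl hk

/-- transport by conjugation. -/
theorem Gd.conj {Q' N' C' : Subgroup G} (n : G) (hQ : ∀ q ∈ Q, n * q * n⁻¹ ∈ Q')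
    (hN : ∀ b ∈ N, n * b * n⁻¹ ∈ N') (hC : ∀ b ∈ C, n * b * n⁻¹ ∈ C')
    {X : Set G} {a : G} (h : Gd Q N C X a) : Gd Q' N' C' (rc n⁻¹ X) (n * a * n⁻¹) := by
  obtain ⟨c, hc, l, hl, ha, hk⟩ := h
  have hprod : ∀ l : List G, (l.map (fun b => n * b * n⁻¹)).prod = n * l.prod * n⁻¹ := by
    intro l
    induction l with
    | nil => simp
    | cons b l ih => rw [List.map_cons, List.prod_cons, ih, List.prod_cons]; group
  refine ⟨n * c * n⁻¹, ?_, l.map (fun b => n * b * n⁻¹), ?_, ?_, fun k => ?_⟩
  · have : n * c * n⁻¹ = n⁻¹⁻¹ * c * n⁻¹ := by rw [inv_inv]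
    have h2 : c ∈ Subgroup.centralizer (rc n (rc n⁻¹ X)) := by
      have := rc_inv_rc n⁻¹ X
      rw [inv_inv] at this
      rw [this]; exact hc
    have := conj_mem_centralizer (g := n) h2
    exact this
  · intro b hb
    obtain ⟨b', hb', rfl⟩ := List.mem_map.mp hb
    exact (hl b' hb').imp (hN b') (hC b')
  · rw [hprod, ha]; group
  · rw [← List.map_take, hprod]
    rintro y hy
    rw [mem_rc, mem_rc] at hy
    have h1 : n⁻¹ * y * n ∈ rc (l.take k).prod X := by
      rw [mem_rc]
      have e : n⁻¹ * (n * (List.take k l).prod * n⁻¹ * y * (n * (List.take k l).prod * n⁻¹)⁻¹) * n⁻¹⁻¹ =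
          (List.take k l).prod * (n⁻¹ * y * n) * (List.take k l).prod⁻¹ := by group
      rw [e] at hy; exact hy
    have h2 := hQ _ (hk k h1)
    have e : n * (n⁻¹ * y * n) * n⁻¹ = y := by group
    rw [e] at h2; exact h2


section Main

variable [Finite G] {p : ℕ} [hp : Fact p.Prime] (P : Sylow p G) {W V : Subgroup G → Subgroup G}

/-- the local hypothesis at the subgroup `Q` of `N_G(H)`, in list form. -/
def LocAt (W V : Subgroup G → Subgroup G) (H Q : Subgroup G) : Prop :=
  ∀ (X : Set G) (a : G), X ⊆ (Q : Set G) → a ∈ Subgroup.normalizer (H : Set G) → rc a X ⊆ (Q : Set G) →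
    Gd Q (Subgroup.normalizer (H : Set G) ⊓ Subgroup.normalizer ((W Q : Subgroup G) : Set G))
      (Subgroup.normalizer (H : Set G) ⊓ Subgroup.centralizer ((V Q : Subgroup G) : Set G)) X a

omit [Finite G] in
/-- transport of the local hypothesis to a conjugate Sylow subgroup. -/
theorem LocAt.conj (hW : IsConjugacyFunctor p W) (hV : IsConjugacyFunctor p V) {H Q : Subgroup G}
    (hQ : IsPGroup p ↥Q) (h : LocAt W V H Q) {n : G} (hn : n ∈ Subgroup.normalizer (H : Set G)) :
    LocAt W V H (cj n Q) := by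
  intro X a hX ha haX
  have hX' : rc n X ⊆ (Q : Set G) := by
    intro y hy
    rw [mem_rc] at hy
    have := hX hy
    have h2 := (mem_map_conj Q n _).mp this
    have e : n⁻¹ * (n * y * n⁻¹) * n = y := by group
    rw [e] at h2; exact h2
  have ha' : n⁻¹ * a * n ∈ Subgroup.normalizer (H : Set G) :=
    Subgroup.mul_mem _ (Subgroup.mul_mem _ (Subgroup.inv_mem _ hn) ha) hn
  have haX' : rc (n⁻¹ * a * n) (rc n X) ⊆ (Q : Set G) := by
    rw [← rc_mul]
    have e : n * (n⁻¹ * a * n) = a * n := by group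
    rw [e, rc_mul]
    intro y hy
    rw [mem_rc] at hy
    have := haX hy
    have h2 := (mem_map_conj Q n _).mp this
    have e : n⁻¹ * (n * y * n⁻¹) * n = y := by group
    rw [e] at h2; exact h2
  have key := h (rc n X) (n⁻¹ * a * n) hX' ha' haX'
  have := Gd.conj (Q' := cj n Q)
    (N' := Subgroup.normalizer (H : Set G) ⊓ Subgroup.normalizer ((W (cj n Q) : Subgroup G) : Set G))
    (C' := Subgroup.normalizer (H : Set G) ⊓ Subgroup.centralizer ((V (cj n Q) : Subgroup G) : Set G))
    n (fun q hq => conj_mem_map_conj Q n hq) ?_ ?_ key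
  · rw [rc_inv_rc] at this
    have e : n * (n⁻¹ * a * n) * n⁻¹ = a := by group
    rw [e] at this
    exact this
  · rintro b ⟨hb1, hb2⟩
    refine ⟨Subgroup.mul_mem _ (Subgroup.mul_mem _ hn hb1) (Subgroup.inv_mem _ hn), ?_⟩
    have := (hW Q hQ).2.2 n
    show n * b * n⁻¹ ∈ Subgroup.normalizer ((W (cj n Q) : Subgroup G) : Set G)
    unfold cj
    rw [this]
    exact Cfsg.Agent.S1961.conj_mem_normalizer_cj hb2
  · rintro b ⟨hb1, hb2⟩
    refine ⟨Subgroup.mul_mem _ (Subgroup.mul_mem _ hn hb1) (Subgroup.inv_mem _ hn), ?_⟩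
    have := (hV Q hQ).2.2 n
    show n * b * n⁻¹ ∈ Subgroup.centralizer ((V (cj n Q) : Subgroup G) : Set G)
    unfold cj
    rw [this, Subgroup.mem_centralizer_iff]
    rintro _ ⟨v, hv, rfl⟩
    have hbv := Subgroup.mem_centralizer_iff.mp hb2 v hv
    show n * v * n⁻¹ * (n * b * n⁻¹) = n * b * n⁻¹ * (n * v * n⁻¹)
    calc n * v * n⁻¹ * (n * b * n⁻¹) = n * (v * b) * n⁻¹ := by group
      _ = n * (b * v) * n⁻¹ := by rw [hbv]
      _ = n * b * n⁻¹ * (n * v * n⁻¹) := by group

/-- `Z(P)` -/
abbrev ZP : Subgroup G := (P : Subgroup G) ⊓ Subgroup.centralizer ((P : Subgroup G) : Set G)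

/-- the local hypothesis at `N_P(H)` when this is a Sylow subgroup of `N_G(H)`. -/
theorem locAt_NS (hW : IsConjugacyFunctor p W) (hV : IsConjugacyFunctor p V)
    (hloc : ∀ H : Subgroup G, ZP P ≤ H → H ≤ (P : Subgroup G) → ∃ Q : Subgroup G,
      Q ≤ Subgroup.normalizer (H : Set G) ∧ IsPGroup p ↥Q ∧
      ¬ p ∣ Q.relIndex (Subgroup.normalizer (H : Set G)) ∧ LocAt W V H Q)
    {H : Subgroup G} (hZH : ZP P ≤ H) (hHP : H ≤ (P : Subgroup G))
    (hsyl : ¬ p ∣ (NS P H).relIndex (Subgroup.normalizer (H : Set G))) : LocAt W V H (NS P H) := by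
  obtain ⟨Q, hQN, hQp, hQrel, hQloc⟩ := hloc H hZH hHP
  have h1 : IsSylowIn p Q (Subgroup.normalizer (H : Set G)) := isSylowIn_of_not_dvd_relIndex hQN hQp hQrel
  have h2 : IsSylowIn p (NS P H) (Subgroup.normalizer (H : Set G)) :=
    isSylowIn_of_not_dvd_relIndex inf_le_right (isPGroup_NS P _) hsyl
  obtain ⟨n, hn, hnQ⟩ := h1.conj h2
  rw [hnQ]
  exact hQloc.conj hW hV hQp hn

theorem ZP_le_tower (hW : IsConjugacyFunctor p W)
    (hWZ : ∀ H : Subgroup G, IsPGroup p ↥H → H ⊓ Subgroup.centralizer (H : Set G) ≤ W H)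
    {T : Subgroup G} (hTP : T ≤ (P : Subgroup G)) (hZT : ZP P ≤ T) (j : ℕ) :
    ZP P ≤ functorTower W (P : Subgroup G) T j := by
  induction j with
  | zero => exact hZT
  | succ j ih =>
    rw [tower_succ]
    refine le_trans ?_ (hWZ _ (isPGroup_NS P _))
    intro z hz
    refine ⟨⟨hz.1, Subgroup.le_normalizer (ih hz)⟩, ?_⟩
    exact Subgroup.centralizer_le (show ((NS P (functorTower W (P : Subgroup G) T j) : Subgroup G) : Set G) ⊆
      ((P : Subgroup G) : Set G) from fun x hx => hx.1) hz.2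

/-- centralizers of `V`: `C(V R) ≤ C(V P)` for `Z(P) ≤ R ≤ P`. -/
theorem centralizer_V_le
    (hVmono : ∀ H K : Subgroup G, IsPGroup p ↥H → IsPGroup p ↥K → H ≠ ⊥ → K ≠ ⊥ →
      H ⊓ Subgroup.centralizer (H : Set G) ≤ K ⊓ Subgroup.centralizer (K : Set G) → V H ≤ V K)
    (hP1 : (P : Subgroup G) ≠ ⊥) {R : Subgroup G} (hRP : R ≤ (P : Subgroup G)) (hZR : ZP P ≤ R) (hR1 : R ≠ ⊥) :
    Subgroup.centralizer ((V R : Subgroup G) : Set G) ≤ Subgroup.centralizer ((V (P : Subgroup G) : Subgroup G) : Set G) := by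
  apply Subgroup.centralizer_le
  have := hVmono (P : Subgroup G) R P.isPGroup' (P.isPGroup'.to_le hRP) hP1 hR1 ?_
  · exact this
  · intro z hz
    exact ⟨hZR hz, Subgroup.centralizer_le (show (R : Set G) ⊆ ((P : Subgroup G) : Set G) from hRP) hz.2⟩

/-- climbing the tower of a well-placed subgroup containing `Z(P)`. -/
theorem climb (hW : IsConjugacyFunctor p W)
    (hWZ : ∀ H : Subgroup G, IsPGroup p ↥H → H ⊓ Subgroup.centralizer (H : Set G) ≤ W H)
    (hVmono : ∀ H K : Subgroup G, IsPGroup p ↥H → IsPGroup p ↥K → H ≠ ⊥ → K ≠ ⊥ →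
      H ⊓ Subgroup.centralizer (H : Set G) ≤ K ⊓ Subgroup.centralizer (K : Set G) → V H ≤ V K)
    (hP1 : (P : Subgroup G) ≠ ⊥)
    (hlocNS : ∀ H : Subgroup G, ZP P ≤ H → IsWellPlaced p W (P : Subgroup G) H → LocAt W V H (NS P H))
    {T : Subgroup G} (hT : IsWellPlaced p W (P : Subgroup G) T) (hZT : ZP P ≤ T) :
    ∀ d j : ℕ, j + d = Nat.card ↥(P : Subgroup G) + 1 → ∀ (U : Set G) (b : G),
      U ⊆ ((NS P (functorTower W (P : Subgroup G) T j) : Subgroup G) : Set G) →
      b ∈ Subgroup.normalizer ((functorTower W (P : Subgroup G) T j : Subgroup G) : Set G) →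
      rc b U ⊆ ((NS P (functorTower W (P : Subgroup G) T j) : Subgroup G) : Set G) →
      Gd (P : Subgroup G) (Subgroup.normalizer ((W (P : Subgroup G) : Subgroup G) : Set G))
        (Subgroup.centralizer ((V (P : Subgroup G) : Subgroup G) : Set G)) U b := by
  intro d
  induction d with
  | zero =>
    intro j hj U b hU hb hbU
    have hjk : j = Nat.card ↥(P : Subgroup G) + 1 := by omega
    have hst : functorTower W (P : Subgroup G) T (j + 1) = functorTower W (P : Subgroup G) T j := by
      rw [hjk]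
      exact tower_stable P hW T _ (by omega)
    have hNS := Cfsg.Agent.S1961.NS_eq_of_stable P hW T j hst
    have hl := hlocNS _ (ZP_le_tower P hW hWZ hT.1 hZT j) (Cfsg.Agent.S1961.wellPlaced_tower P hW hT j) U b hU hb hbU
    rw [hNS] at hl
    refine Gd.bind le_rfl ?_ hl
    intro Y b' hY hbY hb'
    rcases hb' with hb' | hb'
    · exact Gd.single (Or.inl hb'.2) hY hbY
    · exact Gd.single (Or.inr hb'.2) hY hbY
  | succ d ih =>
    intro j hj U b hU hb hbU
    have hZj := ZP_le_tower P hW hWZ hT.1 hZT j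
    have hTj := Cfsg.Agent.S1961.tower_le P hW T hT.1 j
    have hl := hlocNS _ hZj (Cfsg.Agent.S1961.wellPlaced_tower P hW hT j) U b hU hb hbU
    have hRP : NS P (functorTower W (P : Subgroup G) T j) ≤ (P : Subgroup G) := inf_le_left
    refine Gd.bind hRP ?_ hl
    intro Y b' hY hbY hb'
    rcases hb' with hb' | hb'
    · have hmono := NS_mono P hW T j
      apply ih (j + 1) (by omega) Y b' (fun y hy => hmono (hY hy)) ?_ (fun y hy => hmono (hbY hy))
      rw [tower_succ]
      exact hb'.2
    · have hZR : ZP P ≤ NS P (functorTower W (P : Subgroup G) T j) :=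
        fun z hz => ⟨hz.1, Subgroup.le_normalizer (hZj hz)⟩
      have hR1 : NS P (functorTower W (P : Subgroup G) T j) ≠ ⊥ := by
        intro hbot
        apply hP1
        -- T_j ≤ R_j = ⊥, so T_j = ⊥ and N_P(⊥) = P
        have h1 : functorTower W (P : Subgroup G) T j ≤ NS P (functorTower W (P : Subgroup G) T j) :=
          le_inf hTj Subgroup.le_normalizer
        rw [hbot] at h1
        have h2 : functorTower W (P : Subgroup G) T j = ⊥ := le_bot_iff.mp h1
        rw [h2] at hbot
        rw [← hbot]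
        show (P : Subgroup G) = NS P (⊥ : Subgroup G)
        unfold NS
        rw [Subgroup.normalizer_eq_top, inf_top_eq]
      exact Gd.single (Or.inr (centralizer_V_le P hVmono hP1 hRP hZR hR1 hb'.2))
        (hY.trans hRP) (hbY.trans hRP)


omit [Finite G] hp in
/-- conjugation by a normalizing element fixes the centralizer. -/
theorem cj_centralizer_of_mem_normalizer {T : Subgroup G} {n : G} (hn : n ∈ Subgroup.normalizer (T : Set G)) :
    cj n (Subgroup.centralizer (T : Set G)) = Subgroup.centralizer (T : Set G) := by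
  ext y
  rw [mem_map_conj, Subgroup.mem_centralizer_iff, Subgroup.mem_centralizer_iff]
  constructor
  · intro h t ht
    have ht' : n⁻¹ * t * n ∈ T := by
      have := (Subgroup.mem_normalizer_iff.mp (Subgroup.inv_mem _ hn) t).mp ht
      simpa using this
    have := h _ ht'
    calc t * y = n * ((n⁻¹ * t * n) * (n⁻¹ * y * n)) * n⁻¹ := by group
      _ = n * ((n⁻¹ * y * n) * (n⁻¹ * t * n)) * n⁻¹ := by rw [this]
      _ = y * t := by group
  · intro h t ht
    have ht' : n * t * n⁻¹ ∈ T := (Subgroup.mem_normalizer_iff.mp hn t).mp ht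
    have := h _ ht'
    calc t * (n⁻¹ * y * n) = n⁻¹ * ((n * t * n⁻¹) * y) * n := by group
      _ = n⁻¹ * (y * (n * t * n⁻¹)) * n := by rw [this]
      _ = n⁻¹ * y * n * t := by group

omit [Finite G] hp in
theorem closure_rc (x : G) (B : Set G) :
    Subgroup.closure (rc x B) = cj x⁻¹ (Subgroup.closure B) := by
  unfold cj
  rw [MonoidHom.map_closure]
  congr 1
  ext y
  constructor
  · rintro ⟨b, hb, rfl⟩
    exact ⟨b, hb, by simp [MulAut.conj_apply]⟩
  · rintro ⟨b, hb, rfl⟩
    exact ⟨b, hb, by simp [MulAut.conj_apply]⟩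

/-- the main induction. -/
theorem main (hW : IsConjugacyFunctor p W)
    (hWZ : ∀ H : Subgroup G, IsPGroup p ↥H → H ⊓ Subgroup.centralizer (H : Set G) ≤ W H)
    (hVmono : ∀ H K : Subgroup G, IsPGroup p ↥H → IsPGroup p ↥K → H ≠ ⊥ → K ≠ ⊥ →
      H ⊓ Subgroup.centralizer (H : Set G) ≤ K ⊓ Subgroup.centralizer (K : Set G) → V H ≤ V K)
    (hP1 : (P : Subgroup G) ≠ ⊥)
    (hlocNS : ∀ H : Subgroup G, ZP P ≤ H → IsWellPlaced p W (P : Subgroup G) H → LocAt W V H (NS P H)) :
    ∀ (m : ℕ) (A : Subgroup G) (g : G), A ≤ (P : Subgroup G) → rc g (A : Set G) ⊆ ((P : Subgroup G) : Set G) →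
      Nat.card ↥(P : Subgroup G) - Nat.card ↥A = m →
      Gd (P : Subgroup G) (Subgroup.normalizer ((W (P : Subgroup G) : Subgroup G) : Set G))
        (Subgroup.centralizer ((V (P : Subgroup G) : Subgroup G) : Set G)) (A : Set G) g := by
  intro m
  induction m using Nat.strong_induction_on with
  | _ m ih =>
  intro A g hA hAg hm
  obtain ⟨l, hl, hdec⟩ := Cfsg.Agent.S1965.main P {T : Subgroup G | IsWellPlaced p W (P : Subgroup G) T}
    (fun U hU => hU.1)
    (fun T hT => by
      obtain ⟨g, hg⟩ := Cfsg.Agent.S1963.result P W hW T hT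
      exact ⟨T.map (MulAut.conj g).toMonoidHom, hg, ⟨g, rfl⟩, hg.2 0⟩)
    _ (A : Set G) g hA hAg rfl
  rw [← hl]
  have inner : ∀ (l : List (Subgroup G × G)) (B : Set G), B ⊆ ((P : Subgroup G) : Set G) →
      DecL {T : Subgroup G | IsWellPlaced p W (P : Subgroup G) T} l B →
      Nat.card ↥(Subgroup.closure B) = Nat.card ↥A →
      Gd (P : Subgroup G) (Subgroup.normalizer ((W (P : Subgroup G) : Subgroup G) : Set G))
        (Subgroup.centralizer ((V (P : Subgroup G) : Subgroup G) : Set G)) B (prodL l) := by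
    intro l
    induction l with
    | nil =>
      intro B hB _ _
      exact Gd.of_centralizer (Subgroup.one_mem _) hB
    | cons c l ihl =>
      obtain ⟨T, x⟩ := c
      rintro B hB ⟨hT, hx, hBT, hdec⟩ hcard
      have hT' : IsWellPlaced p W (P : Subgroup G) T := hT
      have hTP : T ≤ (P : Subgroup G) := hT'.1
      have hxT : rc x (T : Set G) = (T : Set G) := rc_normalizer hx
      have hxB : rc x B ⊆ (T : Set G) := by
        rw [← hxT]; exact rc_mono x hBT
      rw [prodL_cons]
      have hcl : Subgroup.closure B ≤ T := (Subgroup.closure_le _).mpr hBT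
      have hcardT : Nat.card ↥A ≤ Nat.card ↥T := by
        rw [← hcard]; exact Subgroup.card_le_of_le hcl
      -- the step for T
      have hstep : Gd (P : Subgroup G) (Subgroup.normalizer ((W (P : Subgroup G) : Subgroup G) : Set G))
          (Subgroup.centralizer ((V (P : Subgroup G) : Subgroup G) : Set G)) (T : Set G) x := by
        by_cases hcen : (P : Subgroup G) ⊓ Subgroup.centralizer (T : Set G) ≤ T
        · have hZT : ZP P ≤ T := by
            intro z hz
            exact hcen ⟨hz.1, Subgroup.centralizer_le (show (T : Set G) ⊆ ((P : Subgroup G) : Set G) from hTP) hz.2⟩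
          have hTN : T ≤ NS P T := le_inf hTP Subgroup.le_normalizer
          apply climb P hW hWZ hVmono hP1 hlocNS hT' hZT (Nat.card ↥(P : Subgroup G) + 1) 0 (by omega)
            (T : Set G) x
          · exact hTN
          · exact hx
          · rw [hxT]; exact hTN
        · -- Frattini
          set Nn := Subgroup.normalizer (T : Set G) with hNn
          set L := Subgroup.centralizer (T : Set G) with hL
          have hLN : L ≤ Nn := Subgroup.centralizer_le_normalizer _
          have hR : IsSylowIn p (NS P T) Nn :=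
            isSylowIn_of_not_dvd_relIndex inf_le_right (isPGroup_NS P _) (hT'.2 0)
          have hinv : ∀ n ∈ Nn, cj n L = L := fun n hn => cj_centralizer_of_mem_normalizer hn
          have hNL : Nn ≤ Subgroup.normalizer (L : Set G) := by
            intro n hn
            apply mem_normalizer_of_conj_mem
            intro r hr
            have := conj_mem_map_conj L n hr
            rw [show L.map (MulAut.conj n).toMonoidHom = cj n L from rfl, hinv n hn] at this
            exact this
          have hRL : IsSylowIn p (NS P T ⊓ L) L := hR.inf_normal L hLN hNL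
          obtain ⟨c, hc, w, hw, hxcw⟩ := frattini_normal hRL hLN hinv hx
          set T' := T ⊔ (NS P T ⊓ L) with hT'def
          have hT'P : T' ≤ (P : Subgroup G) := sup_le hTP (inf_le_left.trans inf_le_left)
          have hwT' : w ∈ Subgroup.normalizer (T' : Set G) := by
            apply mem_normalizer_of_conj_mem
            intro r hr
            have hmap : T'.map (MulAut.conj w).toMonoidHom ≤ T' := by
              rw [hT'def, Subgroup.map_sup]
              apply sup_le_sup
              · rintro _ ⟨t, ht, rfl⟩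
                exact (Subgroup.mem_normalizer_iff.mp hw.1 t).mp ht
              · rintro _ ⟨t, ht, rfl⟩
                exact (Subgroup.mem_normalizer_iff.mp hw.2 t).mp ht
            exact hmap ⟨r, hr, rfl⟩
          have hlt : T < T' := by
            refine lt_of_le_of_ne le_sup_left ?_
            intro heq
            apply hcen
            intro y hy
            rw [heq]
            exact (le_sup_right : NS P T ⊓ L ≤ T ⊔ (NS P T ⊓ L)) (⟨⟨hy.1, hLN hy.2⟩, hy.2⟩ : y ∈ NS P T ⊓ L)
          have hcardlt : Nat.card ↥T < Nat.card ↥T' := by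
            by_contra hge
            push Not at hge
            exact hlt.ne (Subgroup.eq_of_le_of_card_ge hlt.le hge)
          have hcardle : Nat.card ↥T' ≤ Nat.card ↥(P : Subgroup G) := Subgroup.card_le_of_le hT'P
          have hwG := ih (Nat.card ↥(P : Subgroup G) - Nat.card ↥T') (by omega) T' w hT'P
            (by rw [rc_normalizer hwT']; exact hT'P) rfl
          have hwT : Gd (P : Subgroup G) (Subgroup.normalizer ((W (P : Subgroup G) : Subgroup G) : Set G))
              (Subgroup.centralizer ((V (P : Subgroup G) : Subgroup G) : Set G)) (T : Set G) w :=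
            hwG.mono (show (T : Set G) ⊆ (T' : Set G) from hlt.le)
          rw [hxcw]
          apply Gd.comp (Gd.of_centralizer hc hTP)
          rw [rc_centralizer hc]
          exact hwT
      apply Gd.comp (hstep.mono hBT)
      apply ihl (rc x B) (hxB.trans hTP) hdec
      rw [closure_rc, card_cj, hcard]
  exact inner l (A : Set G) hA hdec (by rw [Subgroup.closure_eq])

end Main


/-- from the `Fin`-indexed form of a factorization to `Gd`. -/
theorem Gd.of_fin {Q N C : Subgroup G} {X : Set G} {a : G}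
    (h : ∃ c ∈ Subgroup.centralizer X, ∃ (n : ℕ) (b : Fin n → G), (∀ i, b i ∈ N ∨ b i ∈ C) ∧
      a = c * (List.ofFn b).prod ∧ ∀ k : ℕ, k ≤ n →
        (fun x => (((List.ofFn b).take k).prod)⁻¹ * x * ((List.ofFn b).take k).prod) ''
          ((fun x => c⁻¹ * x * c) '' X) ⊆ (Q : Set G)) : Gd Q N C X a := by
  obtain ⟨c, hc, n, b, hb, ha, hk⟩ := h
  refine ⟨c, hc, List.ofFn b, ?_, ha, fun k => ?_⟩
  · intro b' hb'
    obtain ⟨i, rfl⟩ := (List.mem_ofFn' b b').mp hb'
    exact hb i
  · have hcX : (fun x => c⁻¹ * x * c) '' X = X := rc_centralizer hc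
    by_cases hkn : k ≤ n
    · have := hk k hkn
      rw [hcX] at this
      exact this
    · have := hk n le_rfl
      rw [hcX] at this
      have e : (List.ofFn b).take k = (List.ofFn b).take n := by
        rw [List.take_of_length_le (by simp; omega), List.take_of_length_le (by simp)]
      rw [e]
      exact this

/-- from `Gd` to the `Fin`-indexed form. -/
theorem Gd.to_fin {Q N C : Subgroup G} {X : Set G} {a : G} (h : Gd Q N C X a) :
    ∃ c ∈ Subgroup.centralizer X, ∃ (n : ℕ) (b : Fin n → G), (∀ i, b i ∈ N ∨ b i ∈ C) ∧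
      a = c * (List.ofFn b).prod ∧ ∀ k : ℕ, k ≤ n →
        (fun x => (((List.ofFn b).take k).prod)⁻¹ * x * ((List.ofFn b).take k).prod) ''
          ((fun x => c⁻¹ * x * c) '' X) ⊆ (Q : Set G) := by
  obtain ⟨c, hc, l, hl, ha, hk⟩ := h
  refine ⟨c, hc, l.length, fun i => l.get i, fun i => hl _ (List.get_mem l i), ?_, fun k _ => ?_⟩
  · rw [List.ofFn_get]; exact ha
  · have hcX : (fun x => c⁻¹ * x * c) '' X = X := rc_centralizer hc
    rw [hcX, List.ofFn_get]
    exact hk k

end Cfsg.Agent.Lib.Helper7.PairFusion
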