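import Mathlib
import Cfsg.Agent.Lib.Helper7.PairFusion
import Cfsg.Agent.S1962

/-!
# Glauberman: (W,V) controls transfer, local to global (S2001)
-/

set_option autoImplicit false
set_option linter.style.haveILetI false
set_option linter.unusedSectionVars false

namespace Cfsg.Agent.Lib.Helper7.PairTransfer

open Cfsg Cfsg.Agent.Lib.Helper7 Cfsg.Agent.Lib.Lead.Conj Cfsg.Agent.Lib.Lead.ConjFamily Cfsg.Agent.S1963
  Cfsg.Agent.S1965 Cfsg.Agent.Lib.Lead.AlperinGoldschmidt Cfsg.Agent.Lib.Helper7.PairFusion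
open scoped commutatorElement

variable {G : Type*} [Group G]

theorem cj_centralizer (n : G) (U : Subgroup G) :
    cj n (Subgroup.centralizer (U : Set G)) = Subgroup.centralizer ((cj n U : Subgroup G) : Set G) := by
  ext y
  rw [mem_map_conj, Subgroup.mem_centralizer_iff, Subgroup.mem_centralizer_iff]
  constructor
  · rintro h _ ⟨u, hu, rfl⟩
    have := h u hu
    show n * u * n⁻¹ * y = y * (n * u * n⁻¹)
    calc n * u * n⁻¹ * y = n * (u * (n⁻¹ * y * n)) * n⁻¹ := by group
      _ = n * ((n⁻¹ * y * n) * u) * n⁻¹ := by rw [this]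
      _ = y * (n * u * n⁻¹) := by group
  · intro h u hu
    have := h (n * u * n⁻¹) (conj_mem_map_conj U n hu)
    calc u * (n⁻¹ * y * n) = n⁻¹ * ((n * u * n⁻¹) * y) * n := by group
      _ = n⁻¹ * (y * (n * u * n⁻¹)) * n := by rw [this]
      _ = n⁻¹ * y * n * u := by group

/-- the local transfer hypothesis at `Q ≤ N_G(H)`, as an inequality of subgroups. -/
def LocT (W V : Subgroup G → Subgroup G) (H Q : Subgroup G) : Prop :=
  Q ⊓ ⁅Subgroup.normalizer (H : Set G), Subgroup.normalizer (H : Set G)⁆ ≤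
    (Q ⊓ ⁅Subgroup.normalizer (H : Set G) ⊓ Subgroup.normalizer ((W Q : Subgroup G) : Set G),
        Subgroup.normalizer (H : Set G) ⊓ Subgroup.normalizer ((W Q : Subgroup G) : Set G)⁆) ⊔
    (Q ⊓ ⁅Subgroup.normalizer (H : Set G) ⊓ Subgroup.centralizer ((V Q : Subgroup G) : Set G),
        Subgroup.normalizer (H : Set G) ⊓ Subgroup.centralizer ((V Q : Subgroup G) : Set G)⁆)

section Main

variable [Finite G] {p : ℕ} [hp : Fact p.Prime] (P : Sylow p G) {W V : Subgroup G → Subgroup G}

omit [Finite G] in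
theorem LocT.conj (hW : IsConjugacyFunctor p W) (hV : IsConjugacyFunctor p V) {H Q : Subgroup G}
    (hQ : IsPGroup p ↥Q) (h : LocT W V H Q) {n : G} (hn : n ∈ Subgroup.normalizer (H : Set G)) :
    LocT W V H (cj n Q) := by
  unfold LocT at h ⊢
  have hN : cj n (Subgroup.normalizer (H : Set G)) = Subgroup.normalizer (H : Set G) :=
    cj_eq_of_mem_normalizer (Subgroup.le_normalizer hn)
  have hWn : W (cj n Q) = cj n (W Q) := (hW Q hQ).2.2 n
  have hVn : V (cj n Q) = cj n (V Q) := (hV Q hQ).2.2 n
  have h' := cj_mono n h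
  have e1 : cj n (Q ⊓ ⁅Subgroup.normalizer (H : Set G), Subgroup.normalizer (H : Set G)⁆) =
      cj n Q ⊓ ⁅Subgroup.normalizer (H : Set G), Subgroup.normalizer (H : Set G)⁆ := by
    rw [cj_inf, Cfsg.Agent.S1962.cj_commutator, hN]
  have e2 : cj n (Q ⊓ ⁅Subgroup.normalizer (H : Set G) ⊓ Subgroup.normalizer ((W Q : Subgroup G) : Set G),
        Subgroup.normalizer (H : Set G) ⊓ Subgroup.normalizer ((W Q : Subgroup G) : Set G)⁆) =
      cj n Q ⊓ ⁅Subgroup.normalizer (H : Set G) ⊓ Subgroup.normalizer ((W (cj n Q) : Subgroup G) : Set G),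
        Subgroup.normalizer (H : Set G) ⊓ Subgroup.normalizer ((W (cj n Q) : Subgroup G) : Set G)⁆ := by
    rw [cj_inf, Cfsg.Agent.S1962.cj_commutator, cj_inf, hN, cj_normalizer, hWn]
  have e3 : cj n (Q ⊓ ⁅Subgroup.normalizer (H : Set G) ⊓ Subgroup.centralizer ((V Q : Subgroup G) : Set G),
        Subgroup.normalizer (H : Set G) ⊓ Subgroup.centralizer ((V Q : Subgroup G) : Set G)⁆) =
      cj n Q ⊓ ⁅Subgroup.normalizer (H : Set G) ⊓ Subgroup.centralizer ((V (cj n Q) : Subgroup G) : Set G),
        Subgroup.normalizer (H : Set G) ⊓ Subgroup.centralizer ((V (cj n Q) : Subgroup G) : Set G)⁆ := by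
    rw [cj_inf, Cfsg.Agent.S1962.cj_commutator, cj_inf, hN, cj_centralizer, hVn]
  have e4 : ∀ A B : Subgroup G, cj n (A ⊔ B) = cj n A ⊔ cj n B := fun A B => Subgroup.map_sup _ _ _
  rw [e1, e4, e2, e3] at h'
  exact h'

theorem locT_NS (hW : IsConjugacyFunctor p W) (hV : IsConjugacyFunctor p V)
    (hloc : ∀ H : Subgroup G, ZP P ≤ H → H ≤ (P : Subgroup G) → ∃ Q : Subgroup G,
      Q ≤ Subgroup.normalizer (H : Set G) ∧ IsPGroup p ↥Q ∧
      ¬ p ∣ Q.relIndex (Subgroup.normalizer (H : Set G)) ∧ LocT W V H Q)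
    {H : Subgroup G} (hZH : ZP P ≤ H) (hHP : H ≤ (P : Subgroup G))
    (hsyl : ¬ p ∣ (NS P H).relIndex (Subgroup.normalizer (H : Set G))) : LocT W V H (NS P H) := by
  obtain ⟨Q, hQN, hQp, hQrel, hQloc⟩ := hloc H hZH hHP
  have h1 : IsSylowIn p Q (Subgroup.normalizer (H : Set G)) := isSylowIn_of_not_dvd_relIndex hQN hQp hQrel
  have h2 : IsSylowIn p (NS P H) (Subgroup.normalizer (H : Set G)) :=
    isSylowIn_of_not_dvd_relIndex inf_le_right (isPGroup_NS P _) hsyl
  obtain ⟨n, hn, hnQ⟩ := h1.conj h2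
  rw [hnQ]
  exact hQloc.conj hW hV hQp hn

/-- the target. -/
abbrev tgt (W V : Subgroup G → Subgroup G) : Subgroup G :=
  ((P : Subgroup G) ⊓ ⁅Subgroup.normalizer ((W (P : Subgroup G) : Subgroup G) : Set G),
      Subgroup.normalizer ((W (P : Subgroup G) : Subgroup G) : Set G)⁆) ⊔
  ((P : Subgroup G) ⊓ ⁅Subgroup.centralizer ((V (P : Subgroup G) : Subgroup G) : Set G),
      Subgroup.centralizer ((V (P : Subgroup G) : Subgroup G) : Set G)⁆)

theorem climb (hW : IsConjugacyFunctor p W)
    (hWZ : ∀ H : Subgroup G, IsPGroup p ↥H → H ⊓ Subgroup.centralizer (H : Set G) ≤ W H)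
    (hVmono : ∀ H K : Subgroup G, IsPGroup p ↥H → IsPGroup p ↥K → H ≠ ⊥ → K ≠ ⊥ →
      H ⊓ Subgroup.centralizer (H : Set G) ≤ K ⊓ Subgroup.centralizer (K : Set G) → V H ≤ V K)
    (hP1 : (P : Subgroup G) ≠ ⊥)
    (hlocNS : ∀ H : Subgroup G, ZP P ≤ H → IsWellPlaced p W (P : Subgroup G) H → LocT W V H (NS P H))
    {T : Subgroup G} (hT : IsWellPlaced p W (P : Subgroup G) T) (hZT : ZP P ≤ T) :
    ∀ d j : ℕ, j + d = Nat.card ↥(P : Subgroup G) + 1 →
      NS P (functorTower W (P : Subgroup G) T j) ⊓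
        ⁅Subgroup.normalizer ((functorTower W (P : Subgroup G) T j : Subgroup G) : Set G),
          Subgroup.normalizer ((functorTower W (P : Subgroup G) T j : Subgroup G) : Set G)⁆ ≤ tgt P W V := by
  intro d
  induction d with
  | zero =>
    intro j hj
    have hjk : j = Nat.card ↥(P : Subgroup G) + 1 := by omega
    have hst : functorTower W (P : Subgroup G) T (j + 1) = functorTower W (P : Subgroup G) T j := by
      rw [hjk]
      exact tower_stable P hW T _ (by omega)
    have hNS := Cfsg.Agent.S1961.NS_eq_of_stable P hW T j hst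
    have hl := hlocNS _ (ZP_le_tower P hW hWZ hT.1 hZT j) (Cfsg.Agent.S1961.wellPlaced_tower P hW hT j)
    unfold LocT at hl
    rw [hNS] at hl ⊢
    refine hl.trans (sup_le_sup ?_ ?_)
    · exact inf_le_inf_left _ (Subgroup.commutator_mono inf_le_right inf_le_right)
    · exact inf_le_inf_left _ (Subgroup.commutator_mono inf_le_right inf_le_right)
  | succ d ih =>
    intro j hj
    have hZj := ZP_le_tower P hW hWZ hT.1 hZT j
    have hTj := Cfsg.Agent.S1961.tower_le P hW T hT.1 j
    have hl := hlocNS _ hZj (Cfsg.Agent.S1961.wellPlaced_tower P hW hT j)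
    have hRP : NS P (functorTower W (P : Subgroup G) T j) ≤ (P : Subgroup G) := inf_le_left
    unfold LocT at hl
    refine hl.trans (sup_le ?_ ?_)
    · refine le_trans ?_ (ih (j + 1) (by omega))
      refine inf_le_inf (NS_mono P hW T j) (Subgroup.commutator_mono ?_ ?_)
      · rw [tower_succ]; exact inf_le_right
      · rw [tower_succ]; exact inf_le_right
    · refine le_trans ?_ le_sup_right
      have hZR : ZP P ≤ NS P (functorTower W (P : Subgroup G) T j) :=
        fun z hz => ⟨hz.1, Subgroup.le_normalizer (hZj hz)⟩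
      have hR1 : NS P (functorTower W (P : Subgroup G) T j) ≠ ⊥ := by
        intro hbot
        apply hP1
        have h1 : functorTower W (P : Subgroup G) T j ≤ NS P (functorTower W (P : Subgroup G) T j) :=
          le_inf hTj Subgroup.le_normalizer
        rw [hbot] at h1
        have h2 : functorTower W (P : Subgroup G) T j = ⊥ := le_bot_iff.mp h1
        rw [h2] at hbot
        rw [← hbot]
        show (P : Subgroup G) = NS P (⊥ : Subgroup G)
        unfold NS
        rw [Subgroup.normalizer_eq_top, inf_top_eq]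
      have hC := centralizer_V_le P hVmono hP1 hRP hZR hR1
      exact inf_le_inf hRP (Subgroup.commutator_mono (inf_le_right.trans hC) (inf_le_right.trans hC))

/-- the main induction. -/
theorem main (hW : IsConjugacyFunctor p W)
    (hWZ : ∀ H : Subgroup G, IsPGroup p ↥H → H ⊓ Subgroup.centralizer (H : Set G) ≤ W H)
    (hVmono : ∀ H K : Subgroup G, IsPGroup p ↥H → IsPGroup p ↥K → H ≠ ⊥ → K ≠ ⊥ →
      H ⊓ Subgroup.centralizer (H : Set G) ≤ K ⊓ Subgroup.centralizer (K : Set G) → V H ≤ V K)
    (hP1 : (P : Subgroup G) ≠ ⊥)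
    (hlocNS : ∀ H : Subgroup G, ZP P ≤ H → IsWellPlaced p W (P : Subgroup G) H → LocT W V H (NS P H)) :
    ∀ (m : ℕ) (A : Subgroup G) (g : G), A ≤ (P : Subgroup G) → rc g (A : Set G) ⊆ ((P : Subgroup G) : Set G) →
      Nat.card ↥(P : Subgroup G) - Nat.card ↥A = m →
      ∀ a ∈ A, a⁻¹ * (g⁻¹ * a * g) ∈ tgt P W V := by
  intro m
  induction m using Nat.strong_induction_on with
  | _ m ih =>
  intro A g hA hAg hm
  obtain ⟨l, hl, hdec⟩ := Cfsg.Agent.S1965.main P {T : Subgroup G | IsWellPlaced p W (P : Subgroup G) T}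
    (fun U hU => hU.1)
    (fun T hT => by
      obtain ⟨g, hg⟩ := Cfsg.Agent.S1963.result P W hW T hT
      exact ⟨T.map (MulAut.conj g).toMonoidHom, hg, ⟨g, rfl⟩, hg.2 0⟩)
    _ (A : Set G) g hA hAg rfl
  rw [← hl]
  have inner : ∀ (l : List (Subgroup G × G)) (B : Set G), B ⊆ ((P : Subgroup G) : Set G) →
      DecL {T : Subgroup G | IsWellPlaced p W (P : Subgroup G) T} l B →
      Nat.card ↥(Subgroup.closure B) = Nat.card ↥A →
      ∀ a ∈ B, a⁻¹ * ((prodL l)⁻¹ * a * prodL l) ∈ tgt P W V := by
    intro l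
    induction l with
    | nil =>
      intro B hB _ _ a _
      simp [Subgroup.one_mem]
    | cons c l ihl =>
      obtain ⟨T, x⟩ := c
      rintro B hB ⟨hT, hx, hBT, hdec⟩ hcard a ha
      have hT' : IsWellPlaced p W (P : Subgroup G) T := hT
      have hTP : T ≤ (P : Subgroup G) := hT'.1
      have hxT : rc x (T : Set G) = (T : Set G) := rc_normalizer hx
      have hxB : rc x B ⊆ (T : Set G) := by
        rw [← hxT]; exact rc_mono x hBT
      have hcl : Subgroup.closure B ≤ T := (Subgroup.closure_le _).mpr hBT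
      have hcardT : Nat.card ↥A ≤ Nat.card ↥T := by
        rw [← hcard]; exact Subgroup.card_le_of_le hcl
      have haT : a ∈ T := hBT ha
      have hxa : x⁻¹ * a * x ∈ T := by
        have := (Subgroup.mem_normalizer_iff.mp (Subgroup.inv_mem _ hx) a).mp haT
        rwa [inv_inv] at this
      have h1 : a⁻¹ * (x⁻¹ * a * x) ∈ tgt P W V := by
        by_cases hcen : (P : Subgroup G) ⊓ Subgroup.centralizer (T : Set G) ≤ T
        · have hZT : ZP P ≤ T := by
            intro z hz
            exact hcen ⟨hz.1, Subgroup.centralizer_le (show (T : Set G) ⊆ ((P : Subgroup G) : Set G) from hTP) hz.2⟩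
          have hTN : T ≤ Subgroup.normalizer (T : Set G) := Subgroup.le_normalizer
          apply climb P hW hWZ hVmono hP1 hlocNS hT' hZT (Nat.card ↥(P : Subgroup G) + 1) 0 (by omega)
          refine Subgroup.mem_inf.2 ⟨Subgroup.mem_inf.2 ⟨?_, ?_⟩, ?_⟩
          · exact hTP (T.mul_mem (T.inv_mem haT) hxa)
          · exact hTN (T.mul_mem (T.inv_mem haT) hxa)
          · have e : a⁻¹ * (x⁻¹ * a * x) = ⁅a⁻¹, x⁻¹⁆ := by
              rw [commutatorElement_def]; group
            rw [e]
            exact Subgroup.commutator_mem_commutator (hTN (T.inv_mem haT)) (Subgroup.inv_mem _ hx)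
        · -- Frattini
          set Nn := Subgroup.normalizer (T : Set G) with hNn
          set L := Subgroup.centralizer (T : Set G) with hL
          have hLN : L ≤ Nn := Subgroup.centralizer_le_normalizer _
          have hR : IsSylowIn p (NS P T) Nn :=
            isSylowIn_of_not_dvd_relIndex inf_le_right (isPGroup_NS P _) (hT'.2 0)
          have hinv : ∀ n ∈ Nn, cj n L = L := fun n hn => cj_centralizer_of_mem_normalizer hn
          have hNL : Nn ≤ Subgroup.normalizer (L : Set G) := by
            intro n hn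
            apply mem_normalizer_of_conj_mem
            intro r hr
            have := conj_mem_map_conj L n hr
            rw [show L.map (MulAut.conj n).toMonoidHom = cj n L from rfl, hinv n hn] at this
            exact this
          have hRL : IsSylowIn p (NS P T ⊓ L) L := hR.inf_normal L hLN hNL
          obtain ⟨c, hc, w, hw, hxcw⟩ := frattini_normal hRL hLN hinv hx
          set T' := T ⊔ (NS P T ⊓ L) with hT'def
          have hT'P : T' ≤ (P : Subgroup G) := sup_le hTP (inf_le_left.trans inf_le_left)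
          have hwT' : w ∈ Subgroup.normalizer (T' : Set G) := by
            apply mem_normalizer_of_conj_mem
            intro r hr
            have hmap : T'.map (MulAut.conj w).toMonoidHom ≤ T' := by
              rw [hT'def, Subgroup.map_sup]
              apply sup_le_sup
              · rintro _ ⟨t, ht, rfl⟩
                exact (Subgroup.mem_normalizer_iff.mp hw.1 t).mp ht
              · rintro _ ⟨t, ht, rfl⟩
                exact (Subgroup.mem_normalizer_iff.mp hw.2 t).mp ht
            exact hmap ⟨r, hr, rfl⟩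
          have hlt : T < T' := by
            refine lt_of_le_of_ne le_sup_left ?_
            intro heq
            apply hcen
            intro y hy
            rw [heq]
            exact (le_sup_right : NS P T ⊓ L ≤ T ⊔ (NS P T ⊓ L)) (⟨⟨hy.1, hLN hy.2⟩, hy.2⟩ : y ∈ NS P T ⊓ L)
          have hcardlt : Nat.card ↥T < Nat.card ↥T' := by
            by_contra hge
            push Not at hge
            exact hlt.ne (Subgroup.eq_of_le_of_card_ge hlt.le hge)
          have hcardle : Nat.card ↥T' ≤ Nat.card ↥(P : Subgroup G) := Subgroup.card_le_of_le hT'P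
          have hwG := ih (Nat.card ↥(P : Subgroup G) - Nat.card ↥T') (by omega) T' w hT'P
            (by rw [rc_normalizer hwT']; exact hT'P) rfl a (hlt.le haT)
          have hca : c⁻¹ * a * c = a := by
            have := Subgroup.mem_centralizer_iff.mp hc a haT
            rw [mul_assoc, this]; group
          have e : x⁻¹ * a * x = w⁻¹ * a * w := by
            rw [hxcw]
            calc (c * w)⁻¹ * a * (c * w) = w⁻¹ * (c⁻¹ * a * c) * w := by group
              _ = w⁻¹ * a * w := by rw [hca]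
          rw [e]
          exact hwG
      have h2 := ihl (rc x B) (hxB.trans hTP) hdec (by rw [closure_rc, card_cj, hcard]) (x⁻¹ * a * x) ⟨a, ha, rfl⟩
      rw [prodL_cons]
      have e : a⁻¹ * ((x * prodL l)⁻¹ * a * (x * prodL l)) =
          (a⁻¹ * (x⁻¹ * a * x)) * ((x⁻¹ * a * x)⁻¹ * ((prodL l)⁻¹ * (x⁻¹ * a * x) * prodL l)) := by
        group
      rw [e]
      exact Subgroup.mul_mem _ h1 h2
  exact inner l (A : Set G) hA hdec (by rw [Subgroup.closure_eq])


/-- elements of the target are products. -/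
theorem mem_tgt_iff (hV : IsConjugacyFunctor p V) (x : G) :
    x ∈ tgt P W V ↔
      ∃ a ∈ (P : Subgroup G) ⊓ ⁅Subgroup.normalizer ((W (P : Subgroup G) : Subgroup G) : Set G),
        Subgroup.normalizer ((W (P : Subgroup G) : Subgroup G) : Set G)⁆,
      ∃ b ∈ (P : Subgroup G) ⊓ ⁅Subgroup.centralizer ((V (P : Subgroup G) : Subgroup G) : Set G),
        Subgroup.centralizer ((V (P : Subgroup G) : Subgroup G) : Set G)⁆, x = a * b := by
  constructor
  · intro hx
    have hAB : (P : Subgroup G) ⊓ ⁅Subgroup.normalizer ((W (P : Subgroup G) : Subgroup G) : Set G),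
        Subgroup.normalizer ((W (P : Subgroup G) : Subgroup G) : Set G)⁆ ≤
        Subgroup.normalizer ((((P : Subgroup G) ⊓ ⁅Subgroup.centralizer ((V (P : Subgroup G) : Subgroup G) : Set G),
        Subgroup.centralizer ((V (P : Subgroup G) : Subgroup G) : Set G)⁆ : Subgroup G)) : Set G) := by
      intro a ha
      have haP : a ∈ (P : Subgroup G) := ha.1
      have h1 : cj a (P : Subgroup G) = (P : Subgroup G) := cj_eq_of_mem_normalizer (Subgroup.le_normalizer haP)
      have h2 : cj a (V (P : Subgroup G)) = V (P : Subgroup G) := by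
        have := (hV (P : Subgroup G) P.isPGroup').2.2 a
        rw [show (P : Subgroup G).map (MulAut.conj a).toMonoidHom = cj a (P : Subgroup G) from rfl, h1] at this
        exact this.symm
      have h3 : cj a (Subgroup.centralizer ((V (P : Subgroup G) : Subgroup G) : Set G)) =
          Subgroup.centralizer ((V (P : Subgroup G) : Subgroup G) : Set G) := by
        rw [cj_centralizer, h2]
      apply mem_normalizer_of_conj_mem
      intro r hr
      have h4 := conj_mem_map_conj _ a hr
      rw [show ((P : Subgroup G) ⊓ ⁅Subgroup.centralizer ((V (P : Subgroup G) : Subgroup G) : Set G),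
        Subgroup.centralizer ((V (P : Subgroup G) : Subgroup G) : Set G)⁆).map (MulAut.conj a).toMonoidHom =
        cj a ((P : Subgroup G) ⊓ ⁅Subgroup.centralizer ((V (P : Subgroup G) : Subgroup G) : Set G),
        Subgroup.centralizer ((V (P : Subgroup G) : Subgroup G) : Set G)⁆) from rfl, cj_inf,
        Cfsg.Agent.S1962.cj_commutator, h3, h1] at h4
      exact h4
    have hx' : x ∈ ((tgt P W V : Subgroup G) : Set G) := hx
    unfold tgt at hx'
    rw [Subgroup.coe_mul_of_left_le_normalizer_right _ _ hAB] at hx'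
    obtain ⟨a, ha, b, hb, rfl⟩ := hx'
    exact ⟨a, ha, b, hb, rfl⟩
  · rintro ⟨a, ha, b, hb, rfl⟩
    exact Subgroup.mul_mem_sup ha hb

/-- the focal subgroup lies in the target. -/
theorem focal_le_tgt (hW : IsConjugacyFunctor p W)
    (hWZ : ∀ H : Subgroup G, IsPGroup p ↥H → H ⊓ Subgroup.centralizer (H : Set G) ≤ W H)
    (hVmono : ∀ H K : Subgroup G, IsPGroup p ↥H → IsPGroup p ↥K → H ≠ ⊥ → K ≠ ⊥ →
      H ⊓ Subgroup.centralizer (H : Set G) ≤ K ⊓ Subgroup.centralizer (K : Set G) → V H ≤ V K)
    (hP1 : (P : Subgroup G) ≠ ⊥)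
    (hlocNS : ∀ H : Subgroup G, ZP P ≤ H → IsWellPlaced p W (P : Subgroup G) H → LocT W V H (NS P H)) :
    (P : Subgroup G) ⊓ commutator G ≤ tgt P W V := by
  have hfoc : (P : Subgroup G) ⊓ commutator G = (P : Subgroup G).focalSubgroup := by
    rw [inf_comm]
    exact Subgroup.commutator_inf_eq_focalSubgroup P
  rw [hfoc, Subgroup.focalSubgroup_def, Subgroup.closure_le]
  rintro g ⟨hgS, x, hxS, u, rfl⟩
  have hA : Subgroup.closure ({x⁻¹} : Set G) ≤ (P : Subgroup G) := by
    rw [Subgroup.closure_le]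
    rintro _ rfl
    exact Subgroup.inv_mem _ hxS
  have hrc : rc u⁻¹ ((Subgroup.closure ({x⁻¹} : Set G) : Subgroup G) : Set G) ⊆ ((P : Subgroup G) : Set G) := by
    rw [rc_coe]
    have : (Subgroup.closure ({x⁻¹} : Set G)).map (MulAut.conj u⁻¹⁻¹).toMonoidHom ≤ (P : Subgroup G) := by
      rw [MonoidHom.map_closure, Subgroup.closure_le]
      rintro _ ⟨_, rfl, rfl⟩
      have e : (MulAut.conj u⁻¹⁻¹).toMonoidHom x⁻¹ = x⁻¹ * ⁅x, u⁆ := by
        show u⁻¹⁻¹ * x⁻¹ * u⁻¹⁻¹⁻¹ = _
        rw [commutatorElement_def]; group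
      rw [e]
      exact Subgroup.mul_mem _ (Subgroup.inv_mem _ hxS) hgS
    exact this
  have := main P hW hWZ hVmono hP1 hlocNS _ _ u⁻¹ hA hrc rfl x⁻¹ (Subgroup.subset_closure rfl)
  have e : x⁻¹⁻¹ * (u⁻¹⁻¹ * x⁻¹ * u⁻¹) = ⁅x, u⁆ := by
    rw [commutatorElement_def]; group
  rw [e] at this
  exact this

end Main

end Cfsg.Agent.Lib.Helper7.PairTransfer
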