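import Mathlib
import Cfsg.Agent.Lib.Helper7.HyperfocalTheorem
import Cfsg.Agent.Lib.Helper7.PairTransfer

/-!
# Grün's second theorem for `O^p` (S0078)
-/

set_option autoImplicit false

namespace Cfsg.Agent.Lib.Helper7.GrunTwo

open Cfsg Cfsg.FusionSystem Cfsg.Agent.Lib.Helper7 Cfsg.Agent.Lib.Lead.Conj

variable {G : Type*} [Group G]

/-- the ambient `O^p(H)`. -/
abbrev OpIn (p : ℕ) (H : Subgroup G) : Subgroup G := (pResidual p ↥H).map H.subtype

theorem OpIn_le (p : ℕ) (H : Subgroup G) : OpIn p H ≤ H := by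
  rintro _ ⟨h, -, rfl⟩
  exact h.2

theorem OpIn_conj_mem (p : ℕ) (H : Subgroup G) {h x : G} (hh : h ∈ H) (hx : x ∈ OpIn p H) :
    h * x * h⁻¹ ∈ OpIn p H := by
  haveI : (pResidual p ↥H).Normal := pResidual_normal p ↥H
  obtain ⟨y, hy, rfl⟩ := hx
  refine ⟨⟨h, hh⟩ * y * ⟨h, hh⟩⁻¹, Subgroup.Normal.conj_mem inferInstance y hy _, ?_⟩
  simp

/-- `hyp(F_T(H)) ≤ T ⊓ O^p(H)`. -/
theorem fsos_hyperfocal_le' [Finite G] (p : ℕ) [Fact p.Prime] {H T : Subgroup G} (hTH : T ≤ H) :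
    (fusionSystemOfSubgroup H T hTH).hyperfocalSubgroup p ≤ T ⊓ OpIn p H := by
  set E := fusionSystemOfSubgroup H T hTH with hE
  unfold FusionSystem.hyperfocalSubgroup
  rw [Subgroup.closure_le]
  rintro _ ⟨P, α, x, hPT, hα, rfl⟩
  set NP : Subgroup G := H ⊓ Subgroup.normalizer (P : Set G) with hNP
  have hNPle : NP ≤ Subgroup.normalizer (P : Set G) := inf_le_right
  have hmem : ∀ n : NP, P.normalizerMonoidHom ⟨n, hNPle n.2⟩ ∈ E.autGroup P := by
    intro n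
    rw [mem_autGroup_iff E hPT]
    refine ⟨hPT, fun x => hPT (P.normalizerMonoidHom ⟨n, hNPle n.2⟩ x).2, n, n.2.1, fun x => rfl⟩
  set ρ : NP →* E.autGroup P :=
    (P.normalizerMonoidHom.comp (Subgroup.inclusion hNPle)).codRestrict _ hmem with hρ
  have hsurj : Function.Surjective ρ := by
    rintro ⟨β, hβ⟩
    obtain ⟨-, -, g, hgH, hg0⟩ := (mem_autGroup_iff E hPT β).mp hβ
    have hg : ∀ x : P, ((β x : P) : G) = g * x * g⁻¹ := hg0
    have hgN : g ∈ Subgroup.normalizer (P : Set G) := by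
      rw [Subgroup.mem_normalizer_iff]
      intro x
      constructor
      · intro hx
        have := hg ⟨x, hx⟩
        rw [← this]; exact (β _).2
      · intro hx
        have h1 := hg (β.symm ⟨_, hx⟩)
        rw [β.apply_symm_apply] at h1
        have e : x = ((β.symm ⟨_, hx⟩ : P) : G) := mul_left_cancel (mul_right_cancel h1)
        rw [e]; exact (β.symm _).2
    refine ⟨⟨g, hgH, hgN⟩, Subtype.ext ?_⟩
    ext x
    exact (hg x).symm
  have h1 := pResidual_le_map_of_surjective p ρ hsurj hα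
  obtain ⟨n, hn, hnα⟩ := h1
  have hNPH : NP ≤ H := inf_le_left
  have h2 : (Subgroup.inclusion hNPH n : ↥H) ∈ pResidual p ↥H :=
    pResidual_map_le p (Subgroup.inclusion hNPH) ⟨n, hn, rfl⟩
  have h3 : (n : G) ∈ OpIn p H := ⟨Subgroup.inclusion hNPH n, h2, rfl⟩
  have hg : ∀ y : P, (((α : MulAut P) y : P) : G) = (n : G) * y * (n : G)⁻¹ := by
    intro y
    rw [← hnα]
    rfl
  refine ⟨T.mul_mem (T.inv_mem (hPT x.2)) (hPT ((α : MulAut P) x).2), ?_⟩
  show (x : G)⁻¹ * (((α : MulAut P) x : P) : G) ∈ OpIn p H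
  rw [hg x]
  have e : (x : G)⁻¹ * ((n : G) * (x : G) * (n : G)⁻¹) =
      ((x : G)⁻¹ * (n : G) * (x : G)⁻¹⁻¹) * (n : G)⁻¹ := by group
  rw [e]
  exact Subgroup.mul_mem _ (OpIn_conj_mem p H (H.inv_mem (hTH (hPT x.2))) h3) (Subgroup.inv_mem _ h3)

theorem pResidual_OpIn_eq_top (p : ℕ) (H : Subgroup G) : pResidual p ↥(OpIn p H) = ⊤ := by
  have h1 := pResidual_pResidual_eq_top p ↥H
  -- the isomorphism `O^p(H) ≃ OpIn p H`
  set e := (pResidual p ↥H).equivMapOfInjective H.subtype H.subtype_injective with he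
  have h2 := pResidual_map_le p e.toMonoidHom
  rw [h1] at h2
  rw [eq_top_iff]
  intro y _
  apply h2
  exact ⟨e.symm y, trivial, e.apply_symm_apply y⟩

/-- the hyperfocal subgroup theorem for a subgroup `H` with Sylow subgroup `T`. -/
theorem fsos_hyperfocal_eq [Finite G] (p : ℕ) [Fact p.Prime] {H T : Subgroup G} (hTH : T ≤ H)
    (hsyl : IsSylowIn p T H) :
    (fusionSystemOfSubgroup H T hTH).hyperfocalSubgroup p = T ⊓ OpIn p H := by
  apply le_antisymm (fsos_hyperfocal_le' p hTH)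
  have hKH : OpIn p H ≤ H := OpIn_le p H
  have hTK : T ⊓ OpIn p H ≤ OpIn p H := inf_le_right
  have hHK : H ≤ Subgroup.normalizer ((OpIn p H : Subgroup G) : Set G) := by
    intro h hh
    apply mem_normalizer_of_conj_mem
    intro r hr
    exact OpIn_conj_mem p H hh hr
  have hsyl' : IsSylowIn p (T ⊓ OpIn p H) (OpIn p H) := hsyl.inf_normal (OpIn p H) hKH hHK
  have hEF : (fusionSystemOfSubgroup (OpIn p H) (T ⊓ OpIn p H) hTK).IsSubsystemOf
      (fusionSystemOfSubgroup H T hTH) := by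
    rintro P φ ⟨hP, hφ, g, hgK, hg⟩
    exact ⟨hP.trans inf_le_left, fun x => (hφ x).1, g, hKH hgK, hg⟩
  refine le_trans ?_ (hyperfocal_mono p _ _ hEF)
  rw [fsos_hyperfocal_eq_of_pResidual_top p (OpIn p H) _ hTK hsyl' (pResidual_OpIn_eq_top p H)]


/-- conjugate subgroup. -/
abbrev cg (g : G) (U : Subgroup G) : Subgroup G := U.map (MulAut.conj g).toMonoidHom

theorem mem_cg {g x : G} {U : Subgroup G} : x ∈ cg g U ↔ g⁻¹ * x * g ∈ U := mem_map_conj U g x

theorem cg_center (n : G) (U : Subgroup G) :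
    cg n (U ⊓ Subgroup.centralizer (U : Set G)) = cg n U ⊓ Subgroup.centralizer ((cg n U : Subgroup G) : Set G) := by
  unfold cg
  rw [Subgroup.map_inf_eq _ _ _ (MulAut.conj n).injective]
  congr 1
  exact Cfsg.Agent.Lib.Helper7.PairTransfer.cj_centralizer n U

/-- in a `p`-normal group, `N_G(Z(P))` controls strong fusion in `P`. -/
theorem pnormal_control [Finite G] {p : ℕ} [Fact p.Prime] (P : Sylow p G)
    (hn : ∀ Q : Sylow p G, (P : Subgroup G) ⊓ Subgroup.centralizer (P : Set G) ≤ (Q : Subgroup G) →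
      (Q : Subgroup G) ⊓ Subgroup.centralizer (Q : Set G) = (P : Subgroup G) ⊓ Subgroup.centralizer (P : Set G))
    (Q : Subgroup G) (hQ : Q ≤ (P : Subgroup G)) (g : G) (hg : ∀ q ∈ Q, g * q * g⁻¹ ∈ (P : Subgroup G)) :
    ∃ n ∈ Subgroup.normalizer ((((P : Subgroup G) ⊓ Subgroup.centralizer (P : Set G) : Subgroup G)) : Set G),
      ∀ q ∈ Q, n * q * n⁻¹ = g * q * g⁻¹ := by
  classical
  set Z : Subgroup G := (P : Subgroup G) ⊓ Subgroup.centralizer (P : Set G) with hZ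
  set A : Subgroup G := cg g Q with hA
  set C : Subgroup G := Subgroup.centralizer (A : Set G) with hC
  have hAP : A ≤ (P : Subgroup G) := by
    rintro _ ⟨q, hq, rfl⟩
    exact hg q hq
  have hZC : Z ≤ C := by
    intro z hz
    rw [hC, Subgroup.mem_centralizer_iff]
    intro a ha
    exact (Subgroup.mem_centralizer_iff.mp hz.2 a (hAP ha))
  have hZgC : cg g Z ≤ C := by
    rintro _ ⟨z, hz, rfl⟩
    rw [hC, Subgroup.mem_centralizer_iff]
    rintro _ ⟨q, hq, rfl⟩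
    have := Subgroup.mem_centralizer_iff.mp hz.2 q (hQ hq)
    show g * q * g⁻¹ * (g * z * g⁻¹) = g * z * g⁻¹ * (g * q * g⁻¹)
    calc g * q * g⁻¹ * (g * z * g⁻¹) = g * (q * z) * g⁻¹ := by group
      _ = g * (z * q) * g⁻¹ := by rw [this]
      _ = g * z * g⁻¹ * (g * q * g⁻¹) := by group
  have hZp : IsPGroup p ↥Z := P.isPGroup'.to_le inf_le_left
  have hZgp : IsPGroup p ↥(cg g Z) := by
    have := hZp.map (MulAut.conj g).toMonoidHom
    exact this
  obtain ⟨R₁, hR₁, hZR₁⟩ := exists_isSylowIn_ge hZp hZC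
  obtain ⟨R₂, hR₂, hZR₂⟩ := exists_isSylowIn_ge hZgp hZgC
  obtain ⟨c, hc, hcR⟩ := hR₂.conj hR₁
  -- R₁ = c R₂ c⁻¹
  obtain ⟨Q', hQ'⟩ := hR₁.isPGroup.exists_le_sylow
  have hZQ' : Z ≤ (Q' : Subgroup G) := hZR₁.trans hQ'
  have h1 := hn Q' hZQ'
  -- `n = c * g`
  set n := c * g with hn'
  have hnZ : cg n Z ≤ (Q' : Subgroup G) := by
    rintro _ ⟨z, hz, rfl⟩
    apply hQ'
    rw [hcR]
    refine ⟨g * z * g⁻¹, hZR₂ ⟨z, hz, rfl⟩, ?_⟩
    show c * (g * z * g⁻¹) * c⁻¹ = c * g * z * (c * g)⁻¹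
    group
  -- the Sylow subgroup `Q'' = n⁻¹ Q' n`
  set Q'' : Sylow p G := n⁻¹ • Q' with hQ''
  have hQ''coe : (Q'' : Subgroup G) = cg n⁻¹ (Q' : Subgroup G) := by
    rw [hQ'', Sylow.coe_subgroup_smul]
    rfl
  have hZQ'' : Z ≤ (Q'' : Subgroup G) := by
    intro z hz
    rw [hQ''coe, mem_cg, inv_inv]
    exact hnZ ⟨z, hz, rfl⟩
  have h2 : (Q'' : Subgroup G) ⊓ Subgroup.centralizer (((Q'' : Subgroup G)) : Set G) = Z := hn Q'' hZQ''
  have h1' : (Q' : Subgroup G) ⊓ Subgroup.centralizer (((Q' : Subgroup G)) : Set G) = Z := h1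
  -- `Z(Q') = n Z(Q'') n⁻¹`
  have hQ'eq : (Q' : Subgroup G) = cg n (Q'' : Subgroup G) := by
    rw [hQ''coe]
    ext x
    rw [mem_cg, mem_cg, inv_inv]
    have e : n * (n⁻¹ * x * n) * n⁻¹ = x := by group
    rw [e]
  have h3 : cg n Z = Z := by
    have := cg_center n (Q'' : Subgroup G)
    rw [h2, ← hQ'eq, h1'] at this
    exact this
  refine ⟨n, ?_, ?_⟩
  · apply mem_normalizer_of_conj_mem
    intro r hr
    have : n * r * n⁻¹ ∈ cg n Z := ⟨r, hr, rfl⟩
    rw [h3] at this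
    exact this
  · intro q hq
    have hcq : c ∈ Subgroup.centralizer (A : Set G) := hc
    have := Subgroup.mem_centralizer_iff.mp hcq (g * q * g⁻¹) ⟨q, hq, rfl⟩
    calc n * q * n⁻¹ = c * (g * q * g⁻¹) * c⁻¹ := by rw [hn']; group
      _ = (g * q * g⁻¹) * c * c⁻¹ := by rw [this]
      _ = g * q * g⁻¹ := by group

/-- Grün's second theorem for `O^p`. -/
theorem grun_two [Finite G] {p : ℕ} [Fact p.Prime] (P : Sylow p G)
    (hn : ∀ Q : Sylow p G, (P : Subgroup G) ⊓ Subgroup.centralizer (P : Set G) ≤ (Q : Subgroup G) →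
      (Q : Subgroup G) ⊓ Subgroup.centralizer (Q : Set G) = (P : Subgroup G) ⊓ Subgroup.centralizer (P : Set G))
    (V : Subgroup G)
    (hV : Subgroup.normalizer ((((P : Subgroup G) ⊓ Subgroup.centralizer (P : Set G) : Subgroup G)) : Set G) ≤ V) :
    (P : Subgroup G) ⊓ pResidual p G = (P : Subgroup G) ⊓ OpIn p V := by
  have hPV : (P : Subgroup G) ≤ V := by
    refine le_trans ?_ hV
    intro x hx
    apply mem_normalizer_of_conj_mem
    intro r hr
    refine ⟨P.mul_mem (P.mul_mem hx hr.1) (P.inv_mem hx), ?_⟩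
    show x * r * x⁻¹ ∈ Subgroup.centralizer ((P : Subgroup G) : Set G)
    rw [Subgroup.mem_centralizer_iff]
    intro y hy
    have h1 := Subgroup.mem_centralizer_iff.mp hr.2 (x⁻¹ * y * x) (P.mul_mem (P.mul_mem (P.inv_mem hx) hy) hx)
    calc y * (x * r * x⁻¹) = x * ((x⁻¹ * y * x) * r) * x⁻¹ := by group
      _ = x * (r * (x⁻¹ * y * x)) * x⁻¹ := by rw [h1]
      _ = x * r * x⁻¹ * y := by group
  have hsyl : IsSylowIn p (P : Subgroup G) V := IsSylowIn.of_sylow_le P hPV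
  rw [← hyperfocal_subgroup_theorem p P, ← fsos_hyperfocal_eq p hPV hsyl]
  apply le_antisymm
  · apply hyperfocal_mono
    rintro Q φ ⟨hQ, hφ, g, hg⟩
    obtain ⟨n, hnN, hnq⟩ := pnormal_control P hn Q hQ g (fun q hq => by
      have := hφ ⟨q, hq⟩
      rw [hg ⟨q, hq⟩] at this
      exact this)
    refine ⟨hQ, hφ, n, hV hnN, fun x => ?_⟩
    rw [hg x, hnq x x.2]
  · apply hyperfocal_mono
    rintro Q φ ⟨hQ, hφ, g, -, hg⟩
    exact ⟨hQ, hφ, g, hg⟩

end Cfsg.Agent.Lib.Helper7.GrunTwo
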