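import Mathlib
import Cfsg.Agent.Lib.Helper7.KWBase
import Cfsg.Agent.Lib.Helper7.GrunTwo
import Cfsg.Agent.H1.PFusion

set_option autoImplicit false
set_option linter.style.haveILetI false
set_option linter.unusedSectionVars false
set_option linter.unusedVariables false

namespace Cfsg.Agent.Lib.Helper7.KW

open Cfsg Cfsg.Agent.Lib.Helper7
open scoped Pointwise

universe u

/-- normal complement from weak closure of `Z(P)` plus inner control (type level). -/
theorem npc_type {X : Type u} [Group X] [Finite X] {r : ℕ} [Fact r.Prime] (P : Sylow r X)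
    (h1 : ∀ c : X, (∀ z ∈ (P : Subgroup X) ⊓ Subgroup.centralizer (((P : Subgroup X) : Set X)),
        c⁻¹ * z * c ∈ (P : Subgroup X)) →
      c ∈ Subgroup.normalizer ((((P : Subgroup X) ⊓
        Subgroup.centralizer (((P : Subgroup X) : Set X)) : Subgroup X)) : Set X))
    (h2 : ∀ n ∈ Subgroup.normalizer ((((P : Subgroup X) ⊓
        Subgroup.centralizer (((P : Subgroup X) : Set X)) : Subgroup X)) : Set X),
      ∀ x ∈ (P : Subgroup X), ∃ h ∈ (P : Subgroup X), n * x * n⁻¹ = h * x * h⁻¹) :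
    ∃ N : Subgroup X, N.Normal ∧ N.IsComplement' (P : Subgroup X) := by
  have hn : ∀ Q : Sylow r X, (P : Subgroup X) ⊓ Subgroup.centralizer (P : Set X) ≤ (Q : Subgroup X) →
      (Q : Subgroup X) ⊓ Subgroup.centralizer (Q : Set X) =
        (P : Subgroup X) ⊓ Subgroup.centralizer (P : Set X) := by
    intro Q hQ
    obtain ⟨c, rfl⟩ := MulAction.exists_smul_eq X P Q
    have hcoe : ((c • P : Sylow r X) : Subgroup X) = GrunTwo.cg c (P : Subgroup X) := rfl
    rw [hcoe] at hQ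
    have hc := h1 c (fun z hz => GrunTwo.mem_cg.mp (hQ hz))
    show GrunTwo.cg c (P : Subgroup X) ⊓ Subgroup.centralizer ((GrunTwo.cg c (P : Subgroup X) : Subgroup X) : Set X) = _
    rw [← GrunTwo.cg_center]
    exact cj_eq_of_mem_normalizer hc
  apply Cfsg.Agent.H1.normal_complement_of_pfusion (P : Subgroup X) P.isPGroup'.isNilpotent
    (Sylow.card_coprime_index P)
  intro p' hp' x hx y hy _ ⟨g, hg⟩
  obtain ⟨n, hnN, hnq⟩ := GrunTwo.pnormal_control P hn (Subgroup.zpowers x)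
    (Subgroup.zpowers_le.mpr hx) g (by
      intro q hq
      obtain ⟨i, rfl⟩ := Subgroup.mem_zpowers_iff.mp hq
      have : g * x ^ i * g⁻¹ = (g * x * g⁻¹) ^ i := (conj_zpow (a := g) (b := x) (i := i)).symm
      rw [this, hg]
      exact Subgroup.zpow_mem _ hy i)
  obtain ⟨h, hh, e⟩ := h2 n hnN x hx
  exact ⟨h, hh, by rw [← e, hnq x (Subgroup.mem_zpowers x), hg]⟩

variable {G : Type u} [Group G] [Finite G]

theorem mem_ZP_iff {X R : Subgroup G} (hRX : R ≤ X) (z : X) :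
    z ∈ (R.subgroupOf X) ⊓ Subgroup.centralizer ((R.subgroupOf X : Subgroup X) : Set X) ↔
      (z : G) ∈ R ⊓ Subgroup.centralizer (R : Set G) := by
  constructor
  · intro h
    obtain ⟨h1, h2⟩ := Subgroup.mem_inf.mp h
    refine Subgroup.mem_inf.mpr ⟨Subgroup.mem_subgroupOf.mp h1, ?_⟩
    rw [Subgroup.mem_centralizer_iff] at h2 ⊢
    intro y hy
    have := h2 ⟨y, hRX hy⟩ (Subgroup.mem_subgroupOf.mpr hy)
    exact congrArg Subtype.val this
  · intro h
    obtain ⟨h1, h2⟩ := Subgroup.mem_inf.mp h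
    refine Subgroup.mem_inf.mpr ⟨Subgroup.mem_subgroupOf.mpr h1, ?_⟩
    rw [Subgroup.mem_centralizer_iff] at h2 ⊢
    intro y hy
    apply Subtype.ext
    exact h2 y.1 (Subgroup.mem_subgroupOf.mp hy)

theorem mem_normalizer_ZP_iff {X R : Subgroup G} (hRX : R ≤ X) (c : X) :
    c ∈ Subgroup.normalizer ((((R.subgroupOf X) ⊓
      Subgroup.centralizer ((R.subgroupOf X : Subgroup X) : Set X) : Subgroup X)) : Set X) ↔
      (c : G) ∈ Subgroup.normalizer (((R ⊓ Subgroup.centralizer (R : Set G) : Subgroup G)) : Set G) := by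
  constructor
  · intro h
    apply Cfsg.Agent.Lib.Lead.Conj.mem_normalizer_of_conj_mem
    intro z hz
    have hzX : z ∈ X := hRX hz.1
    have h1 : (⟨z, hzX⟩ : X) ∈ (R.subgroupOf X) ⊓
        Subgroup.centralizer ((R.subgroupOf X : Subgroup X) : Set X) := (mem_ZP_iff hRX _).mpr hz
    have h2 := (Subgroup.mem_normalizer_iff.mp h _).mp h1
    exact (mem_ZP_iff hRX _).mp h2
  · intro h
    apply Cfsg.Agent.Lib.Lead.Conj.mem_normalizer_of_conj_mem
    intro z hz
    have h1 := (mem_ZP_iff hRX z).mp hz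
    have h2 := (Subgroup.mem_normalizer_iff.mp h _).mp h1
    exact (mem_ZP_iff hRX (c * z * c⁻¹)).mpr h2

/-- normal complement from weak closure of `Z(R)` plus inner control (ambient form). -/
theorem npc_amb {r : ℕ} [Fact r.Prime] {X R : Subgroup G} (hR : IsSylowIn r R X)
    (h1 : ∀ c ∈ X, (∀ z ∈ R ⊓ Subgroup.centralizer (R : Set G), c⁻¹ * z * c ∈ R) →
      c ∈ Subgroup.normalizer (((R ⊓ Subgroup.centralizer (R : Set G) : Subgroup G)) : Set G))
    (h2 : ∀ n ∈ X, n ∈ Subgroup.normalizer (((R ⊓ Subgroup.centralizer (R : Set G) : Subgroup G)) : Set G) →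
      ∀ x ∈ R, ∃ h ∈ R, n * x * n⁻¹ = h * x * h⁻¹) :
    ∃ N : Subgroup G, N ≤ X ∧ X ≤ Subgroup.normalizer (N : Set G) ∧ N ⊓ R = ⊥ ∧
      Nat.card N * Nat.card R = Nat.card X := by
  have hRX := hR.1
  obtain ⟨P, hP⟩ := hR.exists_sylow
  obtain ⟨N', hN'n, hN'c⟩ := npc_type P (by
    intro c hc
    rw [hP] at hc ⊢
    rw [mem_normalizer_ZP_iff hRX]
    apply h1 c.1 c.2
    intro z hz
    have hzX : z ∈ X := hRX hz.1
    have := hc ⟨z, hzX⟩ ((mem_ZP_iff hRX _).mpr hz)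
    exact Subgroup.mem_subgroupOf.mp this) (by
    intro n hn x hx
    rw [hP] at hn hx
    rw [mem_normalizer_ZP_iff hRX] at hn
    obtain ⟨h, hh, e⟩ := h2 n.1 n.2 hn x.1 (Subgroup.mem_subgroupOf.mp hx)
    refine ⟨⟨h, hRX hh⟩, ?_, Subtype.ext e⟩
    rw [hP]; exact Subgroup.mem_subgroupOf.mpr hh)
  refine ⟨N'.map X.subtype, Subgroup.map_subtype_le _, ?_, ?_, ?_⟩
  · intro g hg
    apply Cfsg.Agent.Lib.Lead.Conj.mem_normalizer_of_conj_mem
    rintro _ ⟨y, hy, rfl⟩
    exact ⟨⟨g, hg⟩ * y * ⟨g, hg⟩⁻¹, hN'n.conj_mem y hy _, rfl⟩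
  · rw [eq_bot_iff]
    rintro _ ⟨⟨y, hy, rfl⟩, hyR⟩
    have h3 : y ∈ N' ⊓ (P : Subgroup X) := by
      refine ⟨hy, ?_⟩
      rw [hP]; exact Subgroup.mem_subgroupOf.mpr hyR
    have h4 : N' ⊓ (P : Subgroup X) = ⊥ := disjoint_iff.mp hN'c.disjoint
    rw [h4, Subgroup.mem_bot] at h3
    rw [h3]; exact Subgroup.one_mem _
  · have h3 := hN'c.card_mul_card
    rw [Subgroup.card_map_of_injective X.subtype_injective]
    rw [hP, card_subgroupOf_of_le hRX] at h3
    exact h3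

end Cfsg.Agent.Lib.Helper7.KW
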