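import Mathlib
import Cfsg.Agent.Lib.Helper7.KWFive
import Cfsg.Agent.Lib.Helper7.KWInv
import Cfsg.Agent.Lib.Helper7.KWNpc
import Cfsg.Agent.S0079

set_option autoImplicit false
set_option linter.style.haveILetI false
set_option linter.unusedSectionVars false
set_option linter.unusedVariables false

namespace Cfsg.Agent.Lib.Helper7.KW

open Cfsg Cfsg.Agent.Lib.Helper7
open scoped Pointwise

universe u
variable {G : Type u} [Group G] [Finite G]

/-- `syl H' r` is a Sylow subgroup of every subgroup of `L = H'K'` containing it (when `r ∤ |K'|`). -/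
theorem syl_isSylowIn_sub {L H' K' X : Subgroup G} (hH' : H' ≤ L) (hK' : K' ≤ L)
    (nH : Group.IsNilpotent H') (hc : (Nat.card H').Coprime (Nat.card K'))
    (hf : ∀ g ∈ L, ∃ a ∈ H', ∃ b ∈ K', g = a * b) {r : ℕ} (hr : r.Prime)
    (hrK : ¬ r ∣ Nat.card K') (hX : syl H' r ≤ X) (hXL : X ≤ L) : IsSylowIn r (syl H' r) X := by
  haveI := Fact.mk hr
  refine ⟨hX, ?_⟩
  rw [card_syl nH]
  congr 1
  apply le_antisymm
  · have h1 : r ^ (Nat.card H').factorization r ∣ Nat.card X := by
      rw [← card_syl nH]; exact Subgroup.card_dvd_of_le hX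
    exact (hr.pow_dvd_iff_le_factorization Nat.card_pos.ne').mp h1
  · have h2 : Nat.card X ∣ Nat.card H' * Nat.card K' := by
      rw [card_of_fac_sub hH' hK' hc hf]; exact Subgroup.card_dvd_of_le hXL
    have h3 := (Nat.factorization_le_iff_dvd Nat.card_pos.ne'
      (Nat.mul_ne_zero Nat.card_pos.ne' Nat.card_pos.ne')).mpr h2 r
    rw [Nat.factorization_mul Nat.card_pos.ne' Nat.card_pos.ne', Finsupp.add_apply,
      Nat.factorization_eq_zero_of_not_dvd hrK, add_zero] at h3
    exact h3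

/-- `syl H r` is a Sylow subgroup of every subgroup containing it (when `r ∤ |K|`). -/
theorem NC.syl_isSylowIn {H K X : Subgroup G} (hHK : NC H K) {r : ℕ} (hr : r.Prime)
    (hrK : ¬ r ∣ Nat.card K) (hX : syl H r ≤ X) : IsSylowIn r (syl H r) X :=
  syl_isSylowIn_sub (L := ⊤) le_top le_top hHK.nilH hHK.cop (fun g _ => hHK.fac g) hr hrK hX le_top

theorem isPGroup_zpowers {p k : ℕ} {e : G} (hep : e ^ p ^ k = 1) : IsPGroup p (Subgroup.zpowers e) := by
  rintro ⟨x, hx⟩
  obtain ⟨i, rfl⟩ := Subgroup.mem_zpowers_iff.mp hx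
  refine ⟨k, Subtype.ext ?_⟩
  show (e ^ i) ^ p ^ k = 1
  rw [← zpow_natCast, ← zpow_mul, mul_comm, zpow_mul, zpow_natCast, hep, one_zpow]

/-- a `p`-element commuting with a Sylow `p`-subgroup of `X` lies in it. -/
theorem mem_of_isSylowIn_of_commute {p : ℕ} [Fact p.Prime] {P X : Subgroup G} (hP : IsSylowIn p P X)
    {e : G} (heX : e ∈ X) {k : ℕ} (hep : e ^ p ^ k = 1) (hc : ∀ x ∈ P, x * e = e * x) : e ∈ P := by
  have hE : IsPGroup p (Subgroup.zpowers e) := isPGroup_zpowers hep
  have hn : Subgroup.zpowers e ≤ Subgroup.normalizer (P : Set G) := by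
    rw [Subgroup.zpowers_le]
    apply Cfsg.Agent.Lib.Lead.Conj.mem_normalizer_of_conj_mem
    intro x hx
    have : e * x * e⁻¹ = x := by rw [← hc x hx]; group
    rw [this]; exact hx
  have hsup : IsPGroup p (Subgroup.zpowers e ⊔ P : Subgroup G) :=
    hE.to_sup_of_normal_right' hP.isPGroup hn
  obtain ⟨Q, hQ, hle⟩ := exists_isSylowIn_ge hsup (sup_le (Subgroup.zpowers_le.mpr heX) hP.1)
  have hPQ : P = Q := Subgroup.eq_of_le_of_card_ge (le_sup_right.trans hle) (by rw [hP.2, hQ.2])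
  rw [hPQ]; exact hle (le_sup_left (a := Subgroup.zpowers e) (Subgroup.mem_zpowers e))

/-- normalising `R` implies normalising `Z(R)`. -/
theorem mem_normalizer_ZR {c : G} {R : Subgroup G} (hc : c ∈ Subgroup.normalizer (R : Set G)) :
    c ∈ Subgroup.normalizer ((R ⊓ Subgroup.centralizer (R : Set G) : Subgroup G) : Set G) := by
  apply mem_normalizer_of_cj_eq
  have h1 := GrunTwo.cg_center c R
  have h2 : cj c R = R := cj_eq_of_mem_normalizer hc
  show GrunTwo.cg c _ = _
  rw [h1]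
  show cj c R ⊓ Subgroup.centralizer ((cj c R : Subgroup G) : Set G) = _
  rw [h2]

/-- a subgroup containing Sylow subgroups of `X` for all primes contains `X`. -/
theorem le_of_forall_isSylowIn {X L : Subgroup G}
    (h : ∀ s : ℕ, s.Prime → ∃ S : Subgroup G, IsSylowIn s S X ∧ S ≤ L) : X ≤ L := by
  have hd : Nat.card X ∣ Nat.card (X ⊓ L : Subgroup G) := by
    rw [← Nat.factorization_le_iff_dvd Nat.card_pos.ne' Nat.card_pos.ne']
    intro s
    by_cases hs : s.Prime
    · obtain ⟨S, hS, hSL⟩ := h s hs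
      have : s ^ (Nat.card X).factorization s ∣ Nat.card (X ⊓ L : Subgroup G) := by
        rw [← hS.2]; exact Subgroup.card_dvd_of_le (le_inf hS.1 hSL)
      exact (hs.pow_dvd_iff_le_factorization Nat.card_pos.ne').mp this
    · rw [Nat.factorization_eq_zero_of_not_prime _ hs]; exact Nat.zero_le _
  have : X ⊓ L = X := Subgroup.eq_of_le_of_card_ge inf_le_left (Nat.le_of_dvd Nat.card_pos hd)
  rw [← this]; exact inf_le_right

variable (ih : IH G) (hns : ¬ Group.IsSolvable G) {H K : Subgroup G} (hHK : NC H K)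

include ih hns hHK in
/-- Case A: `w` commutes with an element of `N(H)` of prime order dividing `|K|`. -/
theorem centralizer_le_normalizer_caseA {w v : G} {t : ℕ} (hwH : w ∈ H) (hw1 : w ≠ 1)
    (hvM : v ∈ Subgroup.normalizer (H : Set G)) (hvw : v * w = w * v) (ht : t.Prime)
    (htK : t ∣ Nat.card K) (hvo : orderOf v = t) :
    Subgroup.centralizer ({w} : Set G) ≤ Subgroup.normalizer (H : Set G) := by
  haveI := Fact.mk ht
  obtain ⟨M, hM⟩ : ∃ M : Subgroup G, M = Subgroup.normalizer (H : Set G) := ⟨_, rfl⟩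
  rw [← hM] at hvM ⊢
  have hHM : H ≤ M := by rw [hM]; exact Subgroup.le_normalizer
  have hfac := fac_sub_symm (hHK.fac.of_le hHM)
  have nK1 : Group.IsNilpotent (M ⊓ K : Subgroup G) := isNilpotent_of_le hHK.nilK inf_le_right
  have hcop : (Nat.card (M ⊓ K : Subgroup G)).Coprime (Nat.card H) :=
    Nat.Coprime.coprime_dvd_left (Subgroup.card_dvd_of_le inf_le_right) hHK.cop.symm
  have htH : ¬ t ∣ Nat.card H := by
    intro h
    have := Nat.dvd_gcd h htK
    rw [hHK.cop] at this
    exact ht.one_lt.ne' (Nat.dvd_one.mp this)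
  have hS : IsSylowIn t (syl (M ⊓ K) t) M :=
    syl_isSylowIn_sub inf_le_left hHM nK1 hcop hfac ht htH ((syl_le _ _).trans inf_le_left) le_rfl
  have hvt : v ^ t ^ 1 = 1 := by rw [pow_one, ← hvo, pow_orderOf_eq_one]
  obtain ⟨Q, hQ, hvQ⟩ := exists_isSylowIn_ge (isPGroup_zpowers hvt) (Subgroup.zpowers_le.mpr hvM)
  obtain ⟨m, hm, hmQ⟩ := hQ.conj hS
  have hv1 : v ≠ 1 := by
    intro h
    rw [h, orderOf_one] at hvo
    exact ht.one_lt.ne hvo
  have hy : m * v * m⁻¹ ∈ M ⊓ K := by
    apply syl_le _ t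
    rw [hmQ]
    show _ ∈ cj m Q
    rw [mem_cj]
    have : m⁻¹ * (m * v * m⁻¹) * m = v := by group
    rw [this]
    exact hvQ (Subgroup.mem_zpowers v)
  have hy1 : m * v * m⁻¹ ≠ 1 := by
    intro h
    apply hv1
    have : v = m⁻¹ * (m * v * m⁻¹) * m := by group
    rw [this, h]; group
  have hmN : m ∈ Subgroup.normalizer (H : Set G) := by rw [← hM]; exact hm
  have hw' : m * w * m⁻¹ ∈ H := conj_mem_of_mem_normalizer hmN hwH
  have hw'1 : m * w * m⁻¹ ≠ 1 := by
    intro h
    apply hw1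
    have : w = m⁻¹ * (m * w * m⁻¹) * m := by group
    rw [this, h]; group
  have hcomm : (m * w * m⁻¹) * (m * v * m⁻¹) = (m * v * m⁻¹) * (m * w * m⁻¹) := by
    have h1 : (m * w * m⁻¹) * (m * v * m⁻¹) = m * (w * v) * m⁻¹ := by group
    have h2 : (m * v * m⁻¹) * (m * w * m⁻¹) = m * (v * w) * m⁻¹ := by group
    rw [h1, h2, hvw]
  have hyN : m * v * m⁻¹ ∈ Subgroup.normalizer (H : Set G) := by rw [← hM]; exact hy.1
  have h5 := centralizer_inf_le_normalizer ih hns hHK hy.2 hyN hy1
  have hw'N : m * w * m⁻¹ ∈ Subgroup.normalizer (K : Set G) := by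
    apply h5
    refine Subgroup.mem_inf.mpr ⟨?_, hw'⟩
    rw [Subgroup.mem_centralizer_singleton_iff]
    exact hcomm
  have h6 := centralizer_le_normalizer_of_mem ih hns hHK hw' hw'N hw'1
  intro g hg
  rw [Subgroup.mem_centralizer_singleton_iff] at hg
  have hg' : m * g * m⁻¹ ∈ M := by
    rw [hM]
    apply h6
    rw [Subgroup.mem_centralizer_singleton_iff]
    have h1 : (m * g * m⁻¹) * (m * w * m⁻¹) = m * (g * w) * m⁻¹ := by group
    have h2 : (m * w * m⁻¹) * (m * g * m⁻¹) = m * (w * g) * m⁻¹ := by group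
    rw [h1, h2, hg]
  have : g = m⁻¹ * (m * g * m⁻¹) * m := by group
  rw [this]
  exact M.mul_mem (M.mul_mem (M.inv_mem hm) hg') hm

/-- Case B hypotheses -/
structure CaseB (H K : Subgroup G) (w : G) (p : ℕ) : Prop where
  hp : p.Prime
  hwH : w ∈ H
  hwo : orderOf w = p
  hB : Subgroup.centralizer ({w} : Set G) ⊓ Subgroup.normalizer (H : Set G) ≤ H

omit [Finite G] in
theorem CaseB.ne_one {H K : Subgroup G} {w : G} {p : ℕ} (c : CaseB H K w p) : w ≠ 1 := by
  intro h
  have := c.hwo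
  rw [h, orderOf_one] at this
  exact c.hp.one_lt.ne this

omit [Finite G] in
theorem CaseB.pow_eq {H K : Subgroup G} {w : G} {p : ℕ} (c : CaseB H K w p) : w ^ p ^ 1 = 1 := by
  rw [pow_one, ← c.hwo, pow_orderOf_eq_one]

theorem CaseB.dvd {H K : Subgroup G} {w : G} {p : ℕ} (c : CaseB H K w p) : p ∣ Nat.card H := by
  have := orderOf_dvd_natCard (⟨w, c.hwH⟩ : H)
  rwa [Subgroup.orderOf_mk, c.hwo] at this

theorem not_dvd_of_coprime {a b t : ℕ} (hc : a.Coprime b) (ht : t.Prime) (h : t ∣ a) : ¬ t ∣ b := by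
  intro h'
  have := Nat.dvd_gcd h h'
  rw [hc] at this
  exact ht.one_lt.ne' (Nat.dvd_one.mp this)

include hHK in
theorem CaseB.syl_le_centralizer {w : G} {p : ℕ} (c : CaseB H K w p) {s : ℕ} (hs : s.Prime)
    (hsp : s ≠ p) : syl H s ≤ Subgroup.centralizer ({w} : Set G) := by
  intro x hx
  rw [Subgroup.mem_centralizer_singleton_iff]
  exact commute_syl hHK.nilH hs c.hp hsp hx (mem_syl_of_pow c.hwH c.pow_eq)

include ih hns hHK in
theorem CaseB.npc {w : G} {p : ℕ} (c : CaseB H K w p) {r : ℕ} (hr : r.Prime) (hrp : r ≠ p)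
    (hrH : r ∣ Nat.card H) :
    ∃ N : Subgroup G, N ≤ Subgroup.centralizer ({w} : Set G) ∧
      Subgroup.centralizer ({w} : Set G) ≤ Subgroup.normalizer (N : Set G) ∧
      N ⊓ syl H r = ⊥ ∧
      Nat.card N * Nat.card (syl H r) = Nat.card (Subgroup.centralizer ({w} : Set G)) := by
  haveI := Fact.mk hr
  have hrK : ¬ r ∣ Nat.card K := not_dvd_of_coprime hHK.cop hr hrH
  have hRX : syl H r ≤ Subgroup.centralizer ({w} : Set G) := c.syl_le_centralizer hHK hr hrp
  have hR : IsSylowIn r (syl H r) (Subgroup.centralizer ({w} : Set G)) :=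
    hHK.syl_isSylowIn hr hrK hRX
  obtain ⟨a, haR, hao, hac⟩ := exists_central_order hHK.nilH hrH
  have ha1 : a ≠ 1 := by
    intro h
    rw [h, orderOf_one] at hao
    exact hr.one_lt.ne hao
  have haC : IsCen H a := ⟨syl_le H r haR, hac⟩
  have haZ : a ∈ syl H r ⊓ Subgroup.centralizer (syl H r : Set G) :=
    Subgroup.mem_inf.mpr ⟨haR, Subgroup.mem_centralizer_iff.mpr fun x hx => hac x (syl_le H r hx)⟩
  apply npc_amb hR
  · intro c' hc' hz
    have h1 : c'⁻¹ * a * c' ∈ syl H r := hz a haZ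
    have h2 : a ∈ cj c' H := by rw [mem_cj]; exact syl_le H r h1
    have h3 := mem_normalizer_of_central ih hns hHK haC ha1 h2
    exact mem_normalizer_ZR (normalizer_le_normalizer_syl H r h3)
  · intro n hn hnZ x hx
    have hZle : syl H r ⊓ Subgroup.centralizer (syl H r : Set G) ≤ H :=
      inf_le_left.trans (syl_le H r)
    have hZn : H ≤ Subgroup.normalizer
        ((syl H r ⊓ Subgroup.centralizer (syl H r : Set G) : Subgroup G) : Set G) := fun h hh =>
      mem_normalizer_ZR (normalizer_le_normalizer_syl H r (Subgroup.le_normalizer hh))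
    have hZ1 : syl H r ⊓ Subgroup.centralizer (syl H r : Set G) ≠ ⊥ := by
      intro h
      rw [h] at haZ
      exact ha1 (Subgroup.mem_bot.mp haZ)
    have hnM : n ∈ Subgroup.normalizer (H : Set G) :=
      normalizer_le_normalizer ih hns hHK hZle hZn hZ1 hnZ
    have hnH : n ∈ H := c.hB (Subgroup.mem_inf.mpr ⟨hn, hnM⟩)
    obtain ⟨s, c2, k, m, hsc, hs, hc2, hm⟩ := Cfsg.Agent.S0079.exists_parts r (⟨n, hnH⟩ : H)
    have hs' : (s : G) ^ r ^ k = 1 := by
      have := congrArg Subtype.val hs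
      simpa using this
    refine ⟨(s : G), mem_syl_of_pow s.2 hs', ?_⟩
    have hxH : x ∈ H := syl_le H r hx
    obtain ⟨-, j, hj⟩ := (mem_syl_iff hHK.nilH).mp hx
    have hcx : (c2 : G) * x = x * c2 := by
      haveI := hHK.nilH
      have h1 : orderOf c2 ∣ m := orderOf_dvd_of_pow_eq_one hc2
      have h2 : orderOf (⟨x, hxH⟩ : H) ∣ r ^ j := by
        rw [Subgroup.orderOf_mk]; exact orderOf_dvd_of_pow_eq_one hj
      have h3 : (orderOf c2).Coprime (orderOf (⟨x, hxH⟩ : H)) := by
        apply Nat.Coprime.coprime_dvd_left h1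
        apply Nat.Coprime.coprime_dvd_right h2
        exact Nat.Coprime.pow_right j ((Nat.Prime.coprime_iff_not_dvd hr).2 hm).symm
      have := Cfsg.Agent.Lib.Helper4.Nilpotent.commute_of_coprime_orderOf H c2 ⟨x, hxH⟩ h3
      exact congrArg Subtype.val this
    have hn' : n = (s : G) * (c2 : G) := congrArg Subtype.val hsc
    rw [hn']
    calc (s : G) * (c2 : G) * x * ((s : G) * (c2 : G))⁻¹
        = (s : G) * ((c2 : G) * x) * (c2 : G)⁻¹ * (s : G)⁻¹ := by group
      _ = (s : G) * (x * (c2 : G)) * (c2 : G)⁻¹ * (s : G)⁻¹ := by rw [hcx]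
      _ = (s : G) * x * (s : G)⁻¹ := by group

theorem not_dvd_of_mul_eq {n x r : ℕ} (hr : r.Prime) (hx : x ≠ 0)
    (h : n * r ^ x.factorization r = x) : ¬ r ∣ n := by
  intro hd
  obtain ⟨m, rfl⟩ := hd
  apply Nat.pow_succ_factorization_not_dvd hx hr
  rw [pow_succ]
  refine ⟨m, ?_⟩
  conv_lhs => rw [← h]
  ring

theorem factorization_eq_of_mul_eq {n x r p : ℕ} (hr : r.Prime) (hp : p.Prime) (hpr : p ≠ r)
    (hn : n ≠ 0) {j : ℕ} (h : n * r ^ j = x) : x.factorization p = n.factorization p := by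
  rw [← h, Nat.factorization_mul hn (pow_ne_zero _ hr.ne_zero), Finsupp.add_apply,
    Nat.Prime.factorization_pow hr, Finsupp.single_apply, if_neg (Ne.symm hpr), add_zero]

include ih hns hHK in
theorem CaseB.not_dvd_card {w : G} {p : ℕ} (c : CaseB H K w p) {r : ℕ} (hr : r.Prime)
    (hrp : r ≠ p) (hrH : r ∣ Nat.card H) {N : Subgroup G}
    (hNX : N ≤ Subgroup.centralizer ({w} : Set G))
    (hXN : Subgroup.centralizer ({w} : Set G) ≤ Subgroup.normalizer (N : Set G))
    (hcard : Nat.card N * Nat.card (syl H r) = Nat.card (Subgroup.centralizer ({w} : Set G)))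
    {t : ℕ} (ht : t.Prime) (htK : t ∣ Nat.card K) : ¬ t ∣ Nat.card N := by
  intro htN
  haveI := Fact.mk hr
  haveI := Fact.mk ht
  haveI := isSimple ih hns hHK
  have hrK : ¬ r ∣ Nat.card K := not_dvd_of_coprime hHK.cop hr hrH
  have htH : ¬ t ∣ Nat.card H := not_dvd_of_coprime hHK.cop.symm ht htK
  have hRX : syl H r ≤ Subgroup.centralizer ({w} : Set G) := c.syl_le_centralizer hHK hr hrp
  have hR : IsSylowIn r (syl H r) (Subgroup.centralizer ({w} : Set G)) :=
    hHK.syl_isSylowIn hr hrK hRX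
  obtain ⟨a, haR, hao, hac⟩ := exists_central_order hHK.nilH hrH
  have ha1 : a ≠ 1 := by
    intro h
    rw [h, orderOf_one] at hao
    exact hr.one_lt.ne hao
  have haC : IsCen H a := ⟨syl_le H r haR, hac⟩
  have haX : a ∈ Subgroup.centralizer ({w} : Set G) := by
    rw [Subgroup.mem_centralizer_singleton_iff]
    exact (hac w c.hwH).symm
  have haN : a ∈ Subgroup.normalizer (N : Set G) := hXN haX
  have hrN : ¬ r ∣ Nat.card N := by
    rw [hR.2] at hcard
    exact not_dvd_of_mul_eq hr Nat.card_pos.ne' hcard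
  have har : a ^ r ^ 1 = 1 := by rw [pow_one, ← hao, pow_orderOf_eq_one]
  obtain ⟨T, hT, haT⟩ := exists_invariant_sylow haN hr har hrN ht
  have hT1 : T ≠ ⊥ := by
    intro h
    have h1 := hT.2
    rw [h, Subgroup.card_bot] at h1
    have h2 : 0 < (Nat.card N).factorization t :=
      Nat.Prime.factorization_pos_of_dvd ht Nat.card_pos.ne' htN
    have : 1 < t ^ (Nat.card N).factorization t := Nat.one_lt_pow h2.ne' ht.one_lt
    omega
  -- `T` lies in a conjugate of `syl K t`
  have hS : IsSylowIn t (syl K t) ⊤ := hHK.symm.syl_isSylowIn ht htH le_top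
  obtain ⟨Q, hQ, hTQ⟩ := exists_isSylowIn_ge hT.isPGroup (le_top : T ≤ ⊤)
  obtain ⟨d, -, hdQ⟩ := hS.conj hQ
  have hHK' : NC H (cj d K) := by
    have := hHK.conj 1 d
    rwa [cj_one] at this
  have hTK' : T ≤ cj d K := by
    refine hTQ.trans ?_
    rw [hdQ]
    exact cj_mono d (syl_le K t)
  -- a central element of `cj d K`
  have hK'1 : Nat.card (cj d K) ≠ 1 := by
    intro h
    exact ne_bot_right hns hHK' (Subgroup.card_eq_one.mp h)
  obtain ⟨q, hq, hqK'⟩ := Nat.exists_prime_and_dvd hK'1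
  haveI := Fact.mk hq
  obtain ⟨b, hbS, hbo, hbc⟩ := exists_central_order hHK'.nilK hqK'
  have hb1 : b ≠ 1 := by
    intro h
    rw [h, orderOf_one] at hbo
    exact hq.one_lt.ne hbo
  have hbC : IsCen (cj d K) b := ⟨syl_le _ q hbS, hbc⟩
  have hbT : b ∈ Subgroup.normalizer (T : Set G) := by
    apply Cfsg.Agent.Lib.Lead.Conj.mem_normalizer_of_conj_mem
    intro x hx
    have : b * x * b⁻¹ = x := by
      rw [← hbc x (hTK' hx)]; group
    rw [this]; exact hx
  have htop : Subgroup.zpowers a ⊔ Subgroup.zpowers b = ⊤ :=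
    sup_eq_top ih hns hHK' haC.zpowers_le haC.le_normalizer (zpowers_ne_bot' ha1)
      hbC.zpowers_le hbC.le_normalizer (zpowers_ne_bot' hb1)
  have hnT : Subgroup.normalizer (T : Set G) = ⊤ := by
    rw [eq_top_iff, ← htop]
    exact sup_le (Subgroup.zpowers_le.mpr haT) (Subgroup.zpowers_le.mpr hbT)
  exact normalizer_ne_top_of_simple hT1 hTK' (ne_top_right hns hHK') hnT

include ih hns hHK in
theorem CaseB.exists_sylow_le {w : G} {p : ℕ} (c : CaseB H K w p) {r : ℕ} (hr : r.Prime)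
    (hrp : r ≠ p) (hrH : r ∣ Nat.card H) {N : Subgroup G}
    (hNX : N ≤ Subgroup.centralizer ({w} : Set G))
    (hXN : Subgroup.centralizer ({w} : Set G) ≤ Subgroup.normalizer (N : Set G))
    (hcard : Nat.card N * Nat.card (syl H r) = Nat.card (Subgroup.centralizer ({w} : Set G))) :
    ∃ P : Subgroup G, IsSylowIn p P (Subgroup.centralizer ({w} : Set G)) ∧ P ≤ H := by
  have hp := c.hp
  haveI := Fact.mk hr
  haveI := Fact.mk hp
  have hrK : ¬ r ∣ Nat.card K := not_dvd_of_coprime hHK.cop hr hrH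
  have hpK : ¬ p ∣ Nat.card K := not_dvd_of_coprime hHK.cop hp c.dvd
  have hRX : syl H r ≤ Subgroup.centralizer ({w} : Set G) := c.syl_le_centralizer hHK hr hrp
  have hR : IsSylowIn r (syl H r) (Subgroup.centralizer ({w} : Set G)) :=
    hHK.syl_isSylowIn hr hrK hRX
  obtain ⟨a, haR, hao, hac⟩ := exists_central_order hHK.nilH hrH
  have ha1 : a ≠ 1 := by
    intro h
    rw [h, orderOf_one] at hao
    exact hr.one_lt.ne hao
  have haC : IsCen H a := ⟨syl_le H r haR, hac⟩
  have haX : a ∈ Subgroup.centralizer ({w} : Set G) := by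
    rw [Subgroup.mem_centralizer_singleton_iff]
    exact (hac w c.hwH).symm
  have haN : a ∈ Subgroup.normalizer (N : Set G) := hXN haX
  have hrN : ¬ r ∣ Nat.card N := by
    have hcard' := hcard
    rw [hR.2] at hcard'
    exact not_dvd_of_mul_eq hr Nat.card_pos.ne' hcard'
  have har : a ^ r ^ 1 = 1 := by rw [pow_one, ← hao, pow_orderOf_eq_one]
  obtain ⟨P, hP, haP⟩ := exists_invariant_sylow haN hr har hrN hp
  -- `P` is a Sylow `p`-subgroup of `X`
  have hPX : IsSylowIn p P (Subgroup.centralizer ({w} : Set G)) := by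
    refine ⟨hP.1.trans hNX, ?_⟩
    rw [hP.2]
    congr 1
    have hcard' := hcard
    rw [card_syl hHK.nilH] at hcard'
    exact (factorization_eq_of_mul_eq hr hp (Ne.symm hrp) Nat.card_pos.ne' hcard').symm
  -- `w ∈ P`
  have hwX : w ∈ Subgroup.centralizer ({w} : Set G) := by
    rw [Subgroup.mem_centralizer_singleton_iff]
  have hwP : w ∈ P := by
    apply mem_of_isSylowIn_of_commute hPX hwX c.pow_eq
    intro x hx
    exact Subgroup.mem_centralizer_singleton_iff.mp (hPX.1 hx)
  -- `P` lies in a conjugate of `syl H p`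
  have hS : IsSylowIn p (syl H p) ⊤ := hHK.syl_isSylowIn hp hpK le_top
  obtain ⟨Q, hQ, hPQ⟩ := exists_isSylowIn_ge hP.isPGroup (le_top : P ≤ ⊤)
  obtain ⟨d, -, hdQ⟩ := hS.conj hQ
  have hHK' : NC (cj d H) K := by
    have := hHK.conj d 1
    rwa [cj_one] at this
  have hPH' : P ≤ cj d H := by
    refine hPQ.trans ?_
    rw [hdQ]
    exact cj_mono d (syl_le H p)
  have hpH' : p ∣ Nat.card (cj d H) := by rw [card_cj]; exact c.dvd
  obtain ⟨e, heS, heo, hec⟩ := exists_central_order hHK'.nilH hpH'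
  have he1 : e ≠ 1 := by
    intro h
    rw [h, orderOf_one] at heo
    exact hp.one_lt.ne heo
  have heC : IsCen (cj d H) e := ⟨syl_le _ p heS, hec⟩
  have heX : e ∈ Subgroup.centralizer ({w} : Set G) := by
    rw [Subgroup.mem_centralizer_singleton_iff]
    exact (hec w (hPH' hwP)).symm
  have hep : e ^ p ^ 1 = 1 := by rw [pow_one, ← heo, pow_orderOf_eq_one]
  have heP : e ∈ P := by
    apply mem_of_isSylowIn_of_commute hPX heX hep
    intro x hx
    exact hec x (hPH' hx)
  have hea : e ∈ cj a (cj d H) := by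
    rw [mem_cj]
    exact hPH' (conj_mem_of_mem_normalizer' haP heP)
  have haN' : a ∈ Subgroup.normalizer ((cj d H : Subgroup G) : Set G) :=
    mem_normalizer_of_central ih hns hHK' heC he1 hea
  have haH' : a ∈ cj d H := by
    apply mem_of_mem_normalizer_coprime hHK' haN'
    rw [hao]
    exact (Nat.Prime.coprime_iff_not_dvd hr).2 hrK
  have hd : d ∈ Subgroup.normalizer (H : Set G) :=
    mem_normalizer_of_central ih hns hHK haC ha1 haH'
  refine ⟨P, hPX, ?_⟩
  rw [← cj_eq_of_mem_normalizer hd]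
  exact hPH'

include ih hns hHK in
theorem CaseB.le {w : G} {p : ℕ} (c : CaseB H K w p) :
    Subgroup.centralizer ({w} : Set G) ≤ H := by
  have hp := c.hp
  obtain ⟨r, hr, hrp, hrH⟩ := exists_other_prime_left ih hns hHK p
  haveI := Fact.mk hr
  obtain ⟨N, hNX, hXN, -, hcard⟩ := c.npc ih hns hHK hr hrp hrH
  obtain ⟨P, hPX, hPH⟩ := c.exists_sylow_le ih hns hHK hr hrp hrH hNX hXN hcard
  apply le_of_forall_isSylowIn
  intro s hs
  by_cases hsK : s ∣ Nat.card K
  · refine ⟨⊥, ⟨bot_le, ?_⟩, bot_le⟩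
    rw [Subgroup.card_bot]
    have h1 : ¬ s ∣ Nat.card N := c.not_dvd_card ih hns hHK hr hrp hrH hNX hXN hcard hs hsK
    have h2 : ¬ s ∣ Nat.card (syl H r) := by
      intro h
      exact not_dvd_of_coprime hHK.cop.symm hs hsK (h.trans (Subgroup.card_dvd_of_le (syl_le H r)))
    have h3 : ¬ s ∣ Nat.card (Subgroup.centralizer ({w} : Set G)) := by
      rw [← hcard]
      intro h
      rcases (Nat.Prime.dvd_mul hs).mp h with h | h
      · exact h1 h
      · exact h2 h
    rw [Nat.factorization_eq_zero_of_not_dvd h3, pow_zero]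
  · by_cases hsp : s = p
    · subst hsp
      exact ⟨P, hPX, hPH⟩
    · exact ⟨syl H s, hHK.syl_isSylowIn hs hsK (c.syl_le_centralizer hHK hs hsp), syl_le H s⟩

include ih hns hHK in
/-- the centraliser of an element of prime order of `H` lies in `N(H)`. -/
theorem centralizer_le_normalizer {w : G} {p : ℕ} (hp : p.Prime) (hwH : w ∈ H)
    (hwo : orderOf w = p) :
    Subgroup.centralizer ({w} : Set G) ≤ Subgroup.normalizer (H : Set G) := by
  by_cases hB : Subgroup.centralizer ({w} : Set G) ⊓ Subgroup.normalizer (H : Set G) ≤ H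
  · have c : CaseB H K w p := ⟨hp, hwH, hwo, hB⟩
    exact (c.le ih hns hHK).trans Subgroup.le_normalizer
  · obtain ⟨x, hx, hxH⟩ := SetLike.not_le_iff_exists.mp hB
    obtain ⟨hxC, hxM⟩ := Subgroup.mem_inf.mp hx
    have hnc : ¬ (orderOf x).Coprime (Nat.card K) := fun h =>
      hxH (mem_of_mem_normalizer_coprime hHK hxM h)
    obtain ⟨t, ht, htx, htK⟩ := Nat.Prime.not_coprime_iff_dvd.mp hnc
    have hvo : orderOf (x ^ (orderOf x / t)) = t :=
      orderOf_pow_orderOf_div (orderOf_pos x).ne' htx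
    have hw1 : w ≠ 1 := by
      intro h
      rw [h, orderOf_one] at hwo
      exact hp.one_lt.ne hwo
    apply centralizer_le_normalizer_caseA ih hns hHK hwH hw1 (Subgroup.pow_mem _ hxM _) ?_ ht htK hvo
    rw [Subgroup.mem_centralizer_singleton_iff] at hxC
    exact ((Commute.pow_left (show Commute x w from hxC) _))

include ih hns hHK in
/-- `H` is a TI-subgroup. -/
theorem inf_cj_eq_bot {g : G} (hg : g ∉ Subgroup.normalizer (H : Set G)) : H ⊓ cj g H = ⊥ := by
  by_contra hne
  obtain ⟨z, hz, hz1⟩ : ∃ z ∈ H ⊓ cj g H, z ≠ 1 := by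
    by_contra hcon
    push Not at hcon
    apply hne
    rw [eq_bot_iff]
    intro z hz
    rw [Subgroup.mem_bot]
    exact hcon z hz
  obtain ⟨p, n, hp, ho⟩ := exists_prime_order_pow hz1
  obtain ⟨hzH, hzg⟩ := Subgroup.mem_inf.mp hz
  apply hg
  apply mem_normalizer_of_centralizer_le ih hns hHK (w := z ^ n) (k := 1) hp (H.pow_mem hzH n)
  · rw [pow_one, ← ho, pow_orderOf_eq_one]
  · exact centralizer_le_normalizer ih hns hHK hp (H.pow_mem hzH n) ho
  · exact Subgroup.pow_mem _ hzg n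

end Cfsg.Agent.Lib.Helper7.KW
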