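import Mathlib
import Cfsg.Agent.Lib.Helper7.KWTI

set_option autoImplicit false
set_option linter.style.haveILetI false
set_option linter.unusedSectionVars false
set_option linter.unusedVariables false

namespace Cfsg.Agent.Lib.Helper7.KW

open Cfsg Cfsg.Agent.Lib.Helper7
open scoped Pointwise

universe u
variable {G : Type u} [Group G] [Finite G]

theorem card_mul_le_of_inf_eq_bot {A B : Subgroup G} (h : A ⊓ B = ⊥) :
    Nat.card A * Nat.card B ≤ Nat.card G := by
  rw [← Nat.card_prod]
  exact Nat.card_le_card_of_injective _ (Subgroup.mul_injective_of_disjoint (disjoint_iff.mpr h))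

variable (ih : IH G) (hns : ¬ Group.IsSolvable G) {H K : Subgroup G} (hHK : NC H K)

include ih hns hHK in
theorem card_le_card : Nat.card H ≤ Nat.card K := by
  haveI := isSimple ih hns hHK
  obtain ⟨g, hg⟩ : ∃ g : G, g ∉ Subgroup.normalizer (H : Set G) := by
    by_contra hcon
    push Not at hcon
    have htop : Subgroup.normalizer (H : Set G) = ⊤ := by
      rw [eq_top_iff]; intro g _; exact hcon g
    exact normalizer_ne_top_of_simple (ne_bot_left hns hHK) le_rfl (ne_top_left hns hHK) htop
  have h1 := inf_cj_eq_bot ih hns hHK hg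
  have h2 := card_mul_le_of_inf_eq_bot h1
  rw [card_cj, ← hHK.fac.card hHK.cop] at h2
  exact Nat.le_of_mul_le_mul_left h2 Nat.card_pos

include ih hns hHK in
theorem false_of_min : False := by
  have h1 := card_le_card ih hns hHK
  have h2 := card_le_card ih hns hHK.symm
  have h3 : Nat.card H = Nat.card K := le_antisymm h1 h2
  have h4 := hHK.cop
  rw [h3, Nat.coprime_self] at h4
  rw [h4] at h3
  exact ne_bot_left hns hHK (Subgroup.card_eq_one.mp h3)

theorem coprime_solvable_aux (n : ℕ) : ∀ (G : Type u) [Group G] [Finite G], Nat.card G = n →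
    ∀ H K : Subgroup G, NC H K → Group.IsSolvable G := by
  induction n using Nat.strong_induction_on with
  | _ n ihn =>
    intro G _ _ hn H K hHK
    by_contra hns
    have ih : IH G := fun G' _ _ hlt H' K' h' =>
      ihn (Nat.card G') (hn ▸ hlt) G' rfl H' K' h'
    exact false_of_min ih hns hHK

/-- **Kegel–Wielandt, coprime case**: a finite group which is the product of two nilpotent
subgroups of coprime orders is solvable. -/
theorem coprime_solvable {G : Type u} [Group G] [Finite G] (H K : Subgroup G)
    (hH : Group.IsNilpotent H) (hK : Group.IsNilpotent K)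
    (hc : (Nat.card H).Coprime (Nat.card K))
    (hf : ∀ g : G, ∃ h ∈ H, ∃ k ∈ K, g = h * k) : Group.IsSolvable G :=
  coprime_solvable_aux _ G rfl H K ⟨hH, hK, hc, hf⟩

end Cfsg.Agent.Lib.Helper7.KW
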