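import Mathlib
import Cfsg.Prelude.Def_Characters
import Cfsg.Agent.Lib.helper3.Pf4e
import Cfsg.Agent.Lib.helper3.NormTwo
import Cfsg.Agent.Lib.helper3.GenChar
import Cfsg.Agent.Lib.helper3.Irr11

set_option autoImplicit false
set_option linter.style.haveILetI false
set_option linter.unusedSectionVars false

/-!
# Brauer–Suzuki exceptional characters: the abstract core
-/

namespace Cfsg.Agent.Lib.Helper7.BrP

open Cfsg Cfsg.Agent.Lib.helper3.Irr Cfsg.Agent.Lib.helper3.CharBasic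
open Cfsg.Agent.Lib.helper3.IndFun
open scoped ComplexConjugate

variable {G : Type*} [Group G] [Fintype G]

/-- The trivial irreducible character. -/
noncomputable def trivIrr (G : Type*) [Group G] [Fintype G] : IrrCharacter G :=
  ⟨fun _ => 1, isIrrCharacter_one⟩

theorem intCast_eq_one_or {ε : ℂ} (h : ε = 1 ∨ ε = -1) : ∃ k : ℤ, (k = 1 ∨ k = -1) ∧ ε = k := by
  rcases h with h | h
  · exact ⟨1, Or.inl rfl, by simp [h]⟩
  · exact ⟨-1, Or.inr rfl, by simp [h]⟩

theorem core {ι : Type*} [Fintype ι] [DecidableEq ι] (i₀ : ι) (e : ℕ)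
    (Ξ : ι → (G → ℂ)) (hgen : ∀ i, IsGeneralizedCharacter G (Ξ i)) (hone : ∀ i, Ξ i 1 = 0)
    (hgram : ∀ i j, classInner (Ξ i) (Ξ j) = if i = j then (e : ℂ) + 1 else e)
    (htriv : ∀ i, classInner (Ξ i) (fun _ => 1) = 1)
    (hcard : e + 2 ≤ Fintype.card ι) :
    ∃ (ε : ℤ) (Λ : IrrCharacter G) (z : IrrCharacter G → ℤ),
      (ε = 1 ∨ ε = -1) ∧
      Ξ i₀ = ∑ ψ : IrrCharacter G, (z ψ : ℂ) • (ψ : G → ℂ) ∧
      z (trivIrr G) = 1 ∧ z Λ = -ε ∧ Λ ≠ trivIrr G ∧
      ∑ ψ : IrrCharacter G, z ψ ^ 2 = (e : ℤ) + 1 ∧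
      ∀ ψ : IrrCharacter G, ψ ≠ Λ → z ψ ≠ 0 → ∀ i, classInner (Ξ i) (ψ : G → ℂ) = z ψ := by
  classical
  -- the differences
  obtain ⟨τ, hτ⟩ : ∃ τ : ι → (G → ℂ), ∀ i, τ i = Ξ i₀ - Ξ i := ⟨fun i => Ξ i₀ - Ξ i, fun _ => rfl⟩
  have h0 : τ i₀ = 0 := by rw [hτ, sub_self]
  have hτgen : ∀ i, IsGeneralizedCharacter G (τ i) := fun i => by
    rw [hτ]; exact Cfsg.Agent.Lib.helper3.GenChar.sub (hgen i₀) (hgen i)
  have hτone : ∀ i, τ i 1 = 0 := fun i => by
    rw [hτ, Pi.sub_apply, hone, hone, sub_zero]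
  have hτgram : ∀ i j, i ≠ i₀ → j ≠ i₀ → classInner (τ i) (τ j) = if i = j then 2 else 1 := by
    intro i j hi hj
    rw [hτ, hτ, classInner_sub_left, classInner_sub_right, classInner_sub_right,
      hgram, hgram, hgram, hgram, if_pos rfl, if_neg (Ne.symm hj), if_neg hi]
    by_cases hij : i = j
    · rw [if_pos hij, if_pos hij]; ring
    · rw [if_neg hij, if_neg hij]; ring
  obtain ⟨εc, hεc, μ, hμ, hinj, hτμ⟩ :=
    Cfsg.Agent.Lib.helper3.Pf4.exceptional_isometry' i₀ τ h0 hτgen hτone hτgram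
  obtain ⟨ε, hε, rfl⟩ := intCast_eq_one_or hεc
  have hεsq : ε * ε = 1 := by rcases hε with h | h <;> rw [h] <;> norm_num
  obtain ⟨z, hz⟩ := exists_int_decomposition (hgen i₀)
  have hzin : ∀ ψ : IrrCharacter G, classInner (Ξ i₀) (ψ : G → ℂ) = z ψ := by
    intro ψ
    conv_lhs => rw [hz]
    exact classInner_decomposition_left (fun ψ => (z ψ : ℂ)) ψ
  have hzconj : ∀ ψ : IrrCharacter G, classInner (ψ : G → ℂ) (Ξ i₀) = z ψ := by
    intro ψ
    rw [← classInner_conj_symm, hzin, map_intCast]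
  -- norm
  have hnorm : ∑ ψ : IrrCharacter G, z ψ ^ 2 = (e : ℤ) + 1 := by
    have h1 := hgram i₀ i₀
    rw [if_pos rfl] at h1
    conv_lhs at h1 => rw [hz]
    rw [classInner_int_decomposition] at h1
    have h2 : ((∑ ψ : IrrCharacter G, z ψ * z ψ : ℤ) : ℂ) = (((e : ℤ) + 1 : ℤ) : ℂ) := by
      rw [h1]; push_cast; ring
    have h3 := Int.cast_injective h2
    rw [← h3]
    apply Finset.sum_congr rfl
    intro ψ _
    ring
  have hztriv : z (trivIrr G) = 1 := by
    have h1 := htriv i₀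
    have h2 := hzin (trivIrr G)
    have h3 : ((trivIrr G : IrrCharacter G) : G → ℂ) = fun _ => 1 := rfl
    rw [h3, h1] at h2
    have h4 : ((1 : ℤ) : ℂ) = (z (trivIrr G) : ℂ) := by rw [← h2]; simp
    exact (Int.cast_injective h4).symm
  -- the exceptional characters
  obtain ⟨M, hM⟩ : ∃ M : ι → IrrCharacter G, ∀ i, (M i : G → ℂ) = μ i :=
    ⟨fun i => ⟨μ i, hμ i⟩, fun _ => rfl⟩
  have hMinj : Function.Injective M := by
    intro i j hij
    apply hinj
    rw [← hM, ← hM, hij]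
  have hinner : ∀ (i : ι) (ψ : IrrCharacter G), classInner (Ξ i₀) (ψ : G → ℂ) -
      classInner (Ξ i) (ψ : G → ℂ) = (ε : ℂ) * ((if M i = ψ then 1 else 0) -
        (if M i₀ = ψ then 1 else 0)) := by
    intro i ψ
    rw [← classInner_sub_left, ← hτ, hτμ, classInner_smul_left, classInner_sub_left, ← hM, ← hM,
      irr_classInner_eq (M i).2 ψ.2, irr_classInner_eq (M i₀).2 ψ.2]
    have e1 : ((M i : G → ℂ) = (ψ : G → ℂ)) ↔ M i = ψ := Subtype.ext_iff.symm
    have e2 : ((M i₀ : G → ℂ) = (ψ : G → ℂ)) ↔ M i₀ = ψ := Subtype.ext_iff.symm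
    simp only [e1, e2]
  -- coefficients of the exceptional characters
  have hza : ∀ i, i ≠ i₀ → z (M i) = z (M i₀) + ε := by
    intro i hi
    have h1 : classInner (τ i) (Ξ i₀) = 1 := by
      rw [hτ, classInner_sub_left, hgram, hgram, if_pos rfl, if_neg hi]; ring
    rw [hτμ, classInner_smul_left, classInner_sub_left, ← hM, ← hM, hzconj, hzconj] at h1
    have h2 : ((ε * (z (M i) - z (M i₀)) : ℤ) : ℂ) = ((1 : ℤ) : ℂ) := by
      push_cast; rw [h1]
    have h3 := Int.cast_injective h2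
    have h4 : ε * (ε * (z (M i) - z (M i₀))) = ε * 1 := by rw [h3]
    rw [← mul_assoc, hεsq] at h4
    linarith
  -- there is a second index
  have hex : ∃ i₁, i₁ ≠ i₀ := by
    by_contra hne
    push Not at hne
    have : Fintype.card ι ≤ 1 := Fintype.card_le_one_iff.mpr (fun a b => by rw [hne a, hne b])
    omega
  obtain ⟨i₁, hi₁⟩ := hex
  have hMtriv : ∀ i, M i ≠ trivIrr G := by
    have key : ∀ i, (if M i = trivIrr G then (1 : ℂ) else 0) =
        (if M i₀ = trivIrr G then 1 else 0) := by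
      intro i
      have h1 := hinner i (trivIrr G)
      have h3 : ((trivIrr G : IrrCharacter G) : G → ℂ) = fun _ => 1 := rfl
      rw [h3, htriv, htriv, sub_self] at h1
      have hεne : (ε : ℂ) ≠ 0 := by
        rcases hε with h | h <;> rw [h] <;> norm_num
      have := (mul_eq_zero.mp h1.symm).resolve_left hεne
      linear_combination this
    have h00 : M i₀ ≠ trivIrr G := by
      intro h
      have := key i₁
      rw [if_pos h] at this
      by_cases h' : M i₁ = trivIrr G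
      · exact hi₁ (hMinj (h'.trans h.symm))
      · rw [if_neg h'] at this
        exact zero_ne_one this
    intro i h
    have := key i
    rw [if_pos h, if_neg h00] at this
    exact one_ne_zero this
  -- the norm estimate
  obtain ⟨a, ha⟩ : ∃ a : ℤ, a = z (M i₀) := ⟨_, rfl⟩
  have hsumM : ∑ i : ι, z (M i) ^ 2 = a ^ 2 + ((Fintype.card ι : ℤ) - 1) * (a + ε) ^ 2 := by
    rw [← Finset.add_sum_erase Finset.univ _ (Finset.mem_univ i₀), ← ha]
    congr 1
    have : ∀ i ∈ Finset.univ.erase i₀, z (M i) ^ 2 = (a + ε) ^ 2 := by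
      intro i hi
      rw [hza i (Finset.ne_of_mem_erase hi), ← ha]
    rw [Finset.sum_congr rfl this, Finset.sum_const, Finset.card_erase_of_mem (Finset.mem_univ i₀),
      Finset.card_univ, nsmul_eq_mul]
    have : 1 ≤ Fintype.card ι := by omega
    push_cast [this]
    ring
  have hlower : 1 + ∑ i : ι, z (M i) ^ 2 ≤ ∑ ψ : IrrCharacter G, z ψ ^ 2 := by
    have h1 : ∑ ψ ∈ insert (trivIrr G) (Finset.univ.image M), z ψ ^ 2
        ≤ ∑ ψ : IrrCharacter G, z ψ ^ 2 :=
      Finset.sum_le_sum_of_subset_of_nonneg (Finset.subset_univ _) (fun _ _ _ => sq_nonneg _)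
    have hnot : trivIrr G ∉ Finset.univ.image M := by
      intro h
      obtain ⟨i, _, hi⟩ := Finset.mem_image.mp h
      exact hMtriv i hi
    rw [Finset.sum_insert hnot, Finset.sum_image (fun i _ j _ h => hMinj h), hztriv] at h1
    linarith
  have haε : a + ε = 0 := by
    by_contra hne
    have h1 : 1 ≤ (a + ε) ^ 2 := by
      have : 0 < (a + ε) ^ 2 := by positivity
      omega
    have h2 : (e : ℤ) + 1 ≤ (Fintype.card ι : ℤ) - 1 := by
      have : (e : ℤ) + 2 ≤ (Fintype.card ι : ℤ) := by exact_mod_cast hcard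
      linarith
    have h3 : ((e : ℤ) + 1) * 1 ≤ ((Fintype.card ι : ℤ) - 1) * (a + ε) ^ 2 := by
      apply mul_le_mul h2 h1 (by norm_num)
      linarith [Int.natCast_nonneg e]
    have h4 : 0 ≤ a ^ 2 := sq_nonneg a
    rw [hsumM, hnorm] at hlower
    linarith
  have hzM : ∀ i, i ≠ i₀ → z (M i) = 0 := by
    intro i hi
    rw [hza i hi, ← ha, haε]
  refine ⟨ε, M i₀, z, hε, hz, hztriv, ?_, hMtriv i₀, hnorm, ?_⟩
  · rw [← ha]; linarith
  · intro ψ hψΛ hzψ i
    have hψM : ∀ j, M j ≠ ψ := by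
      intro j hj
      by_cases hj0 : j = i₀
      · exact hψΛ (by rw [← hj, hj0])
      · exact hzψ (by rw [← hj, hzM j hj0])
    have h1 := hinner i ψ
    rw [if_neg (hψM i), if_neg (hψM i₀), sub_self, mul_zero, hzin] at h1
    linear_combination -h1

end Cfsg.Agent.Lib.Helper7.BrP
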