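import Mathlib
import Cfsg.Prelude.Def_Characters
import Cfsg.Agent.Lib.helper3.Pf4e

set_option autoImplicit false
set_option linter.style.haveILetI false
set_option linter.unusedSectionVars false

namespace Cfsg.Agent.Lib.Helper7.BrP

open Cfsg Cfsg.Agent.Lib.helper3.Irr Cfsg.Agent.Lib.helper3.CharBasic
open Cfsg.Agent.Lib.helper3.IndFun Cfsg.Agent.Lib.helper3.CycTI
open scoped ComplexConjugate

variable {G : Type*} [Group G] [Fintype G]

/-- The conjugate of a function on a subgroup, extended by zero and restricted back. -/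
noncomputable def tw (P : Subgroup G) (β : P → ℂ) (g : G) : P → ℂ :=
  fun x => extendByZero P β (g⁻¹ * (x : G) * g)

theorem tw_apply (P : Subgroup G) (β : P → ℂ) (g : G) (x : P) :
    tw P β g x = extendByZero P β (g⁻¹ * (x : G) * g) := rfl

/-- Mackey-type formula for the inner product of two induced functions. -/
theorem classInner_indFun_indFun (P : Subgroup G) [Fintype P] (α β : P → ℂ) :
    classInner (indFun P α) (indFun P β)
      = (Nat.card P : ℂ)⁻¹ * ∑ g : G, classInner α (tw P β g) := by
  rw [frobenius_reciprocity P α _ (indFun_isClassFunction P β)]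
  simp only [classInner_apply, indFun_apply, tw_apply]
  simp only [map_mul, map_inv₀, Complex.conj_natCast, map_sum]
  congr 1
  rw [← Finset.mul_sum, Finset.sum_comm]
  simp_rw [Finset.mul_sum]
  apply Finset.sum_congr rfl
  intro x _
  apply Finset.sum_congr rfl
  intro g _
  ring

theorem tw_sub (P : Subgroup G) (β γ : P → ℂ) (g : G) :
    tw P (β - γ) g = tw P β g - tw P γ g := by
  classical
  funext x
  rw [Pi.sub_apply, tw_apply, tw_apply, tw_apply, extendByZero_eq_ite, extendByZero_eq_ite,
    extendByZero_eq_ite]
  split_ifs with h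
  · rfl
  · simp

/-- Off the normalizer, the twisted function is supported at the identity only. -/
theorem classInner_tw_eq_zero (P : Subgroup G) [Fintype P]
    (hTI : ∀ x ∈ P, x ≠ 1 → ∀ g : G, g⁻¹ * x * g ∈ P → g ∈ Subgroup.normalizer (P : Set G))
    (α β : P → ℂ) (hα : α 1 = 0) (g : G) (hg : g ∉ Subgroup.normalizer (P : Set G)) :
    classInner α (tw P β g) = 0 := by
  rw [classInner_apply]
  have : ∀ x : P, α x * conj (tw P β g x) = 0 := by
    intro x
    by_cases hx : x = 1
    · rw [hx, hα, zero_mul]
    · have hx' : (x : G) ≠ 1 := fun h => hx (Subtype.ext h)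
      have : g⁻¹ * (x : G) * g ∉ P := fun h => hg (hTI x x.2 hx' g h)
      rw [tw_apply, extendByZero_not_mem P β this, map_zero, mul_zero]
  rw [Finset.sum_congr rfl (fun x _ => this x), Finset.sum_const_zero, mul_zero]

end Cfsg.Agent.Lib.Helper7.BrP
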