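import Mathlib
import Cfsg.Prelude.Def_Characters
import Cfsg.Agent.Lib.helper3.Pf4e
import Cfsg.Agent.Lib.Helper7.BrP2

set_option autoImplicit false
set_option linter.style.haveILetI false
set_option linter.unusedSectionVars false

namespace Cfsg.Agent.Lib.Helper7.BrP

open Cfsg Cfsg.Agent.Lib.helper3.Irr Cfsg.Agent.Lib.helper3.CharBasic
open Cfsg.Agent.Lib.helper3.IndFun Cfsg.Agent.Lib.helper3.CycTI
open scoped ComplexConjugate

variable {G : Type*} [Group G] (P : Subgroup G)

/-- The conjugate of a linear character of `P` by an element of the normalizer of `P`. -/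
def cj (n : Subgroup.normalizer (P : Set G)) (ω : P →* ℂˣ) : P →* ℂˣ :=
  ω.comp (MulDistribMulAction.toMonoidHom P n⁻¹)

theorem cj_apply (n : Subgroup.normalizer (P : Set G)) (ω : P →* ℂˣ) (x : P) :
    cj P n ω x = ω (n⁻¹ • x) := rfl

theorem cj_one_left (ω : P →* ℂˣ) : cj P 1 ω = ω := by
  ext x
  simp [cj_apply]

theorem cj_mul (n m : Subgroup.normalizer (P : Set G)) (ω : P →* ℂˣ) :
    cj P (n * m) ω = cj P n (cj P m ω) := by
  ext x
  simp [cj_apply, mul_smul]

theorem cj_one_right (n : Subgroup.normalizer (P : Set G)) : cj P n 1 = 1 := rfl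

theorem cj_eq_one_iff (n : Subgroup.normalizer (P : Set G)) (ω : P →* ℂˣ) :
    cj P n ω = 1 ↔ ω = 1 := by
  constructor
  · intro h
    have := congrArg (cj P n⁻¹) h
    rwa [← cj_mul, inv_mul_cancel, cj_one_left, cj_one_right] at this
  · intro h
    rw [h, cj_one_right]

theorem coe_inv_smul (n : Subgroup.normalizer (P : Set G)) (x : P) :
    ((n⁻¹ • x : P) : G) = (n : G)⁻¹ * x * n := by
  show ((n⁻¹ : Subgroup.normalizer (P : Set G)) : G) * x * ((n⁻¹ : Subgroup.normalizer (P : Set G)) : G)⁻¹ = _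
  simp

theorem tw_linFun [Fintype G] (n : Subgroup.normalizer (P : Set G)) (ω : P →* ℂˣ) :
    tw P (linFun ω) (n : G) = linFun (cj P n ω) := by
  funext x
  rw [tw_apply]
  have hmem : (n : G)⁻¹ * x * n ∈ P := by
    rw [← coe_inv_smul]; exact (n⁻¹ • x).2
  rw [extendByZero_mem P _ hmem]
  show linFun ω _ = linFun ω (n⁻¹ • x)
  congr 1
  apply Subtype.ext
  rw [coe_inv_smul]

theorem classInner_linFun_self {X : Type*} [Group X] [Fintype X] (ω : X →* ℂˣ) :
    classInner (linFun ω) (linFun ω) = 1 := by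
  rw [classInner_linFun, if_pos rfl]

theorem classInner_linFun_ne {X : Type*} [Group X] [Fintype X] {ω ω' : X →* ℂˣ} (h : ω ≠ ω') :
    classInner (linFun ω) (linFun ω') = 0 := by
  rw [classInner_linFun, if_neg h]

open Classical in
theorem classInner_one_sub_linFun {X : Type*} [Group X] [Fintype X] {ω ω' : X →* ℂˣ}
    (hω : ω ≠ 1) (hω' : ω' ≠ 1) :
    classInner (linFun 1 - linFun ω) (linFun 1 - linFun ω') = 1 + if ω = ω' then 1 else 0 := by
  rw [classInner_sub_left, classInner_sub_right, classInner_sub_right, classInner_linFun_self,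
    classInner_linFun_ne (Ne.symm hω'), classInner_linFun_ne hω]
  by_cases h : ω = ω'
  · rw [if_pos h, h, classInner_linFun_self]; ring
  · rw [if_neg h, classInner_linFun_ne h]; ring

/-- The Gram matrix of the functions induced from `1 - ω`. -/
theorem gram [Fintype G] [Fintype P]
    (hTI : ∀ x ∈ P, x ≠ 1 → ∀ g : G, g⁻¹ * x * g ∈ P → g ∈ Subgroup.normalizer (P : Set G))
    (ω ω' : P →* ℂˣ) (hω : ω ≠ 1) (hω' : ω' ≠ 1) :
    classInner (indFun P (linFun 1 - linFun ω)) (indFun P (linFun 1 - linFun ω'))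
      = (Nat.card P : ℂ)⁻¹ * ((Nat.card (Subgroup.normalizer (P : Set G)) : ℂ) +
          (Nat.card {n : Subgroup.normalizer (P : Set G) // ω = cj P n ω'} : ℂ)) := by
  classical
  rw [classInner_indFun_indFun]
  congr 1
  have hα : (linFun (1 : P →* ℂˣ) - linFun ω) 1 = 0 := by
    simp [linFun]
  have h1 : ∑ g : G, classInner (linFun 1 - linFun ω) (tw P (linFun 1 - linFun ω') g)
      = ∑ g ∈ Finset.univ.filter (fun g : G => g ∈ Subgroup.normalizer (P : Set G)),
          classInner (linFun 1 - linFun ω) (tw P (linFun 1 - linFun ω') g) := by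
    symm
    apply Finset.sum_subset (Finset.filter_subset _ _)
    intro g _ hg
    have : g ∉ Subgroup.normalizer (P : Set G) := by simpa using hg
    exact classInner_tw_eq_zero P hTI _ _ hα g this
  rw [h1, Finset.sum_subtype (p := fun g : G => g ∈ Subgroup.normalizer (P : Set G)) _ (by simp)]
  have h2 : ∀ n : Subgroup.normalizer (P : Set G),
      classInner (linFun 1 - linFun ω) (tw P (linFun 1 - linFun ω') (n : G))
        = 1 + if ω = cj P n ω' then 1 else 0 := by
    intro n
    rw [tw_sub, tw_linFun, tw_linFun, cj_one_right]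
    exact classInner_one_sub_linFun hω (fun h => hω' ((cj_eq_one_iff P n ω').mp h))
  rw [Finset.sum_congr rfl (fun n _ => h2 n), Finset.sum_add_distrib, Finset.sum_const,
    Finset.card_univ, nsmul_eq_mul, mul_one, Finset.sum_boole]
  congr 2
  · rw [Nat.card_eq_fintype_card]
  · rw [Nat.card_eq_fintype_card, Fintype.card_subtype]

section prime

variable {p : ℕ} (hp : p.Prime) (hP : Nat.card P = p)

include hp hP

/-- Every element of `P` is a power of a given nonidentity element. -/
theorem exists_zpow_eq {y : G} (hy : y ∈ P) (hy1 : y ≠ 1) {h : G} (hh : h ∈ P) :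
    ∃ k : ℤ, y ^ k = h := by
  haveI : Fact p.Prime := ⟨hp⟩
  have h1 := zpowers_eq_top_of_prime_card hP (g := (⟨y, hy⟩ : P))
    (fun h => hy1 (congrArg Subtype.val h))
  have hmem : (⟨h, hh⟩ : P) ∈ Subgroup.zpowers (⟨y, hy⟩ : P) := by rw [h1]; trivial
  obtain ⟨k, hk⟩ := Subgroup.mem_zpowers_iff.mp hmem
  exact ⟨k, by simpa using congrArg Subtype.val hk⟩

theorem comm_of_prime {a b : G} (ha : a ∈ P) (hb : b ∈ P) : a * b = b * a := by
  by_cases ha1 : a = 1
  · rw [ha1, one_mul, mul_one]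
  · obtain ⟨k, rfl⟩ := exists_zpow_eq P hp hP ha ha1 hb
    exact ((Commute.refl a).zpow_right k).eq

theorem exists_ne_one_mem : ∃ x ∈ P, x ≠ 1 := by
  have h1 : 1 < Nat.card P := by rw [hP]; exact hp.one_lt
  haveI : Finite P := Nat.finite_of_card_ne_zero (by omega)
  haveI := Finite.one_lt_card_iff_nontrivial.mp h1
  obtain ⟨x, hx⟩ := exists_ne (1 : P)
  exact ⟨x, x.2, fun h => hx (Subtype.ext h)⟩

/-- A subgroup of prime order is a TI-subgroup with respect to its normalizer. -/
theorem TI_of_prime [Finite G] : ∀ x ∈ P, x ≠ 1 → ∀ g : G, g⁻¹ * x * g ∈ P →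
    g ∈ Subgroup.normalizer (P : Set G) := by
  intro x hx hx1 g hy
  have hy1 : g⁻¹ * x * g ≠ 1 := by
    intro h
    apply hx1
    have : x = g * (g⁻¹ * x * g) * g⁻¹ := by group
    rw [this, h]; group
  apply Subgroup.mem_normalizer_fintype
  intro h hh
  obtain ⟨k, rfl⟩ := exists_zpow_eq P hp hP hy hy1 hh
  have : g * (g⁻¹ * x * g) ^ k * g⁻¹ = x ^ k := by
    rw [← conj_zpow]
    congr 1
    group
  rw [this]
  exact P.zpow_mem hx k

/-- A nontrivial linear character of a group of prime order is injective. -/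
theorem injective_of_ne_one {ω : P →* ℂˣ} (hω : ω ≠ 1) : Function.Injective ω := by
  haveI : Fact (Nat.card P).Prime := ⟨by rw [hP]; exact hp⟩
  rw [← MonoidHom.ker_eq_bot_iff]
  rcases ω.ker.eq_bot_or_eq_top_of_prime_card with h | h
  · exact h
  · exfalso
    apply hω
    ext x
    have : x ∈ ω.ker := by rw [h]; trivial
    rw [MonoidHom.mem_ker.mp this]
    rfl

/-- The stabilizer of a nontrivial linear character of `P` in the normalizer is `P`. -/
theorem cj_eq_self_iff (hC : ∀ x ∈ P, x ≠ 1 → ∀ g : G, g * x = x * g → g ∈ P)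
    (n : Subgroup.normalizer (P : Set G)) {ω : P →* ℂˣ} (hω : ω ≠ 1) :
    cj P n ω = ω ↔ (n : G) ∈ P := by
  constructor
  · intro h
    obtain ⟨x, hx, hx1⟩ := exists_ne_one_mem P hp hP
    apply hC x hx hx1
    have h1 : ω (n⁻¹ • (⟨x, hx⟩ : P)) = ω ⟨x, hx⟩ := by
      rw [← cj_apply, h]
    have h2 := injective_of_ne_one P hp hP hω h1
    have h3 := congrArg Subtype.val h2
    rw [coe_inv_smul] at h3
    simp only at h3
    calc (n : G) * x = n * ((n : G)⁻¹ * x * n) := by rw [h3]
      _ = x * n := by group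
  · intro hn
    ext x
    rw [cj_apply]
    congr 2
    apply Subtype.ext
    rw [coe_inv_smul, mul_assoc, comm_of_prime P hp hP x.2 hn, ← mul_assoc, inv_mul_cancel, one_mul]

/-- The number of elements of the normalizer carrying `ω'` to `ω` is `p` or `0`. -/
theorem card_cj_eq (hC : ∀ x ∈ P, x ≠ 1 → ∀ g : G, g * x = x * g → g ∈ P)
    {ω ω' : P →* ℂˣ} (hω' : ω' ≠ 1) (n₀ : Subgroup.normalizer (P : Set G))
    (hn₀ : ω = cj P n₀ ω') :
    Nat.card {n : Subgroup.normalizer (P : Set G) // ω = cj P n ω'} = p := by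
  have e1 : {n : Subgroup.normalizer (P : Set G) // ω = cj P n ω'} ≃
      {n : Subgroup.normalizer (P : Set G) // (n : G) ∈ P} :=
    { toFun := fun n => ⟨n₀⁻¹ * n.1, by
        rw [← cj_eq_self_iff P hp hP hC _ hω', cj_mul, ← n.2, hn₀, ← cj_mul, inv_mul_cancel,
          cj_one_left]⟩
      invFun := fun m => ⟨n₀ * m.1, by
        rw [cj_mul, (cj_eq_self_iff P hp hP hC _ hω').mpr m.2, hn₀]⟩
      left_inv := fun n => by simp
      right_inv := fun m => by simp }
  have e2 : {n : Subgroup.normalizer (P : Set G) // (n : G) ∈ P} ≃ P :=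
    { toFun := fun n => ⟨n.1, n.2⟩
      invFun := fun x => ⟨⟨x, Subgroup.le_normalizer x.2⟩, x.2⟩
      left_inv := fun n => rfl
      right_inv := fun x => rfl }
  rw [Nat.card_congr (e1.trans e2), hP]

/-- The values of the Gram matrix. -/
theorem gram_eq [Fintype G] [Fintype P]
    (hC : ∀ x ∈ P, x ≠ 1 → ∀ g : G, g * x = x * g → g ∈ P) (e : ℕ)
    (hN : Nat.card (Subgroup.normalizer (P : Set G)) = p * e)
    {ω ω' : P →* ℂˣ} (hω : ω ≠ 1) (hω' : ω' ≠ 1) :
    (∀ n₀ : Subgroup.normalizer (P : Set G), ω = cj P n₀ ω' →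
      classInner (indFun P (linFun 1 - linFun ω)) (indFun P (linFun 1 - linFun ω'))
        = (e : ℂ) + 1) ∧
    ((∀ n₀ : Subgroup.normalizer (P : Set G), ω ≠ cj P n₀ ω') →
      classInner (indFun P (linFun 1 - linFun ω)) (indFun P (linFun 1 - linFun ω'))
        = (e : ℂ)) := by
  have hp0 : (p : ℂ) ≠ 0 := by exact_mod_cast hp.ne_zero
  have hg := gram P (TI_of_prime P hp hP) ω ω' hω hω'
  rw [hN, hP] at hg
  constructor
  · intro n₀ hn₀
    rw [hg, card_cj_eq P hp hP hC hω' n₀ hn₀]
    push_cast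
    field_simp
  · intro hne
    haveI : IsEmpty {n : Subgroup.normalizer (P : Set G) // ω = cj P n ω'} :=
      ⟨fun n => hne n.1 n.2⟩
    rw [hg, Nat.card_of_isEmpty]
    push_cast
    field_simp
    ring

end prime

/-- The orbit relation on nontrivial linear characters. -/
def orbSetoid : Setoid {ω : P →* ℂˣ // ω ≠ 1} where
  r a b := ∃ n : Subgroup.normalizer (P : Set G), a.1 = cj P n b.1
  iseqv :=
    ⟨fun a => ⟨1, (cj_one_left P _).symm⟩,
     fun {a b} ⟨n, hn⟩ => ⟨n⁻¹, by rw [hn, ← cj_mul, inv_mul_cancel, cj_one_left]⟩,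
     fun {a b c} ⟨n, hn⟩ ⟨m, hm⟩ => ⟨n * m, by rw [cj_mul, ← hm, hn]⟩⟩

theorem orbSetoid_r (a b : {ω : P →* ℂˣ // ω ≠ 1}) :
    (orbSetoid P).r a b ↔ ∃ n : Subgroup.normalizer (P : Set G), a.1 = cj P n b.1 := Iff.rfl

section prime2

variable {p : ℕ} (hp : p.Prime) (hP : Nat.card P = p)

include hp hP

theorem finite_dual : Finite (P →* ℂˣ) := by
  haveI : Finite P := Nat.finite_of_card_ne_zero (by rw [hP]; exact hp.ne_zero)
  haveI : NeZero ((Monoid.exponent P : ℕ) : ℂ) :=
    ⟨Nat.cast_ne_zero.mpr Monoid.exponent_ne_zero_of_finite⟩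
  infer_instance

theorem card_dual : Nat.card (P →* ℂˣ) = p := by
  haveI : Finite P := Nat.finite_of_card_ne_zero (by rw [hP]; exact hp.ne_zero)
  haveI : Fact p.Prime := ⟨hp⟩
  haveI : IsCyclic P := isCyclic_of_prime_card hP
  letI : CommGroup P := IsCyclic.commGroup
  haveI : NeZero ((Monoid.exponent P : ℕ) : ℂ) :=
    ⟨Nat.cast_ne_zero.mpr Monoid.exponent_ne_zero_of_finite⟩
  rw [CommGroup.card_monoidHom_of_hasEnoughRootsOfUnity P ℂ, hP]

theorem card_dual_ne_one : Nat.card {ω : P →* ℂˣ // ω ≠ 1} = p - 1 := by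
  classical
  haveI := finite_dual P hp hP
  letI : Fintype (P →* ℂˣ) := Fintype.ofFinite _
  rw [Nat.card_eq_fintype_card, Fintype.card_subtype_compl, Fintype.card_subtype_eq,
    ← Nat.card_eq_fintype_card, card_dual P hp hP]

/-- Each orbit of the normalizer on the nontrivial linear characters has exactly `e` elements. -/
theorem card_orbit [Finite G] (hC : ∀ x ∈ P, x ≠ 1 → ∀ g : G, g * x = x * g → g ∈ P) (e : ℕ)
    (hN : Nat.card (Subgroup.normalizer (P : Set G)) = p * e)
    (a : {ω : P →* ℂˣ // ω ≠ 1}) :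
    Nat.card {b : {ω : P →* ℂˣ // ω ≠ 1} // (orbSetoid P).r b a} = e := by
  classical
  haveI := finite_dual P hp hP
  letI : Fintype {ω : P →* ℂˣ // ω ≠ 1} := Fintype.ofFinite _
  letI : Fintype (Subgroup.normalizer (P : Set G)) := Fintype.ofFinite _
  have hmaps : ∀ n ∈ (Finset.univ : Finset (Subgroup.normalizer (P : Set G))),
      (⟨cj P n a.1, fun h => a.2 ((cj_eq_one_iff P n a.1).mp h)⟩ : {ω : P →* ℂˣ // ω ≠ 1}) ∈
        Finset.univ.filter (fun b : {ω : P →* ℂˣ // ω ≠ 1} => (orbSetoid P).r b a) := by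
    intro n _
    rw [Finset.mem_filter]
    exact ⟨Finset.mem_univ _, n, rfl⟩
  have h1 := Finset.card_eq_sum_card_fiberwise hmaps
  have h2 : ∀ b ∈ Finset.univ.filter (fun b : {ω : P →* ℂˣ // ω ≠ 1} => (orbSetoid P).r b a),
      (Finset.univ.filter (fun n : Subgroup.normalizer (P : Set G) =>
        (⟨cj P n a.1, fun h => a.2 ((cj_eq_one_iff P n a.1).mp h)⟩ :
          {ω : P →* ℂˣ // ω ≠ 1}) = b)).card = p := by
    intro b hb
    obtain ⟨n₀, hn₀⟩ := (Finset.mem_filter.mp hb).2
    rw [← card_cj_eq P hp hP hC a.2 n₀ hn₀, Nat.card_eq_fintype_card, Fintype.card_subtype]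
    congr 1
    ext n
    simp only [Finset.mem_filter, Finset.mem_univ, true_and]
    constructor
    · intro h
      rw [← h]
    · intro h
      exact Subtype.ext h.symm
  rw [Finset.sum_congr rfl h2, Finset.sum_const, Finset.card_univ, smul_eq_mul,
    ← Nat.card_eq_fintype_card, hN] at h1
  rw [Nat.card_eq_fintype_card, Fintype.card_subtype]
  have := Nat.eq_of_mul_eq_mul_left hp.pos (h1.trans (mul_comm _ _)).symm
  rw [this]

/-- There are at least `(p - 1) / e` orbits. -/
theorem card_orbits [Finite G] (hC : ∀ x ∈ P, x ≠ 1 → ∀ g : G, g * x = x * g → g ∈ P) (e : ℕ)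
    (hN : Nat.card (Subgroup.normalizer (P : Set G)) = p * e) :
    p - 1 ≤ e * Nat.card (Quotient (orbSetoid P)) := by
  classical
  haveI := finite_dual P hp hP
  letI : Fintype {ω : P →* ℂˣ // ω ≠ 1} := Fintype.ofFinite _
  letI : Fintype (Quotient (orbSetoid P)) := Fintype.ofFinite _
  rw [← card_dual_ne_one P hp hP, Nat.card_eq_fintype_card, ← Finset.card_univ]
  have h1 := Finset.card_le_mul_card_image (f := fun a => (Quotient.mk (orbSetoid P) a))
    (Finset.univ : Finset {ω : P →* ℂˣ // ω ≠ 1}) e (by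
      intro q hq
      obtain ⟨a, -, rfl⟩ := Finset.mem_image.mp hq
      have h2 := card_orbit P hp hP hC e hN a
      rw [Nat.card_eq_fintype_card, Fintype.card_subtype] at h2
      rw [← h2]
      apply le_of_eq
      congr 1
      ext b
      simp only [Finset.mem_filter, Finset.mem_univ, true_and]
      exact Quotient.eq (r := orbSetoid P))
  refine h1.trans (Nat.mul_le_mul_left e ?_)
  rw [Nat.card_eq_fintype_card, ← Finset.card_univ]
  exact Finset.card_le_card (Finset.subset_univ _)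

end prime2

end Cfsg.Agent.Lib.Helper7.BrP
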