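import Mathlib
import Cfsg.Prelude.Def_Characters
import Cfsg.Agent.Lib.helper3.Pf4e
import Cfsg.Agent.Lib.helper3.Irr10
import Cfsg.Agent.Lib.helper3.IndLin
import Cfsg.Agent.Lib.Helper7.BrP1
import Cfsg.Agent.Lib.Helper7.BrP2
import Cfsg.Agent.Lib.Helper7.BrP3

set_option autoImplicit false
set_option linter.style.haveILetI false
set_option linter.unusedSectionVars false

namespace Cfsg.Agent.Lib.Helper7.BrP

open Cfsg Cfsg.Agent.Lib.helper3.Irr Cfsg.Agent.Lib.helper3.CharBasic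
open Cfsg.Agent.Lib.helper3.IndFun Cfsg.Agent.Lib.helper3.CycTI
open scoped ComplexConjugate

variable {G : Type*} [Group G] [Fintype G] (P : Subgroup G)

theorem linFun_one_eq {X : Type*} [Group X] : linFun (1 : X →* ℂˣ) = fun _ => (1 : ℂ) := by
  funext x
  simp [linFun]

theorem linFun_apply_one {X : Type*} [Group X] (ω : X →* ℂˣ) : linFun ω 1 = 1 := by
  simp [linFun]

/-- The functions `Ξ_ω = Ind (1 - ω)`. -/
noncomputable def Xi (ω : P →* ℂˣ) : G → ℂ := indFun P (linFun 1 - linFun ω)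

theorem Xi_apply_one (ω : P →* ℂˣ) : Xi P ω 1 = 0 := by
  unfold Xi
  rw [indFun_apply_one, Pi.sub_apply, linFun_apply_one, linFun_apply_one, sub_self, mul_zero]

theorem indFun_sub (H : Subgroup G) (a b : H → ℂ) :
    indFun H (a - b) = indFun H a - indFun H b := by
  have h1 : a - b = a + (-1 : ℂ) • b := by
    funext x
    simp [sub_eq_add_neg]
  rw [h1, indFun_add, indFun_smul, neg_one_smul, sub_eq_add_neg]

theorem Xi_isGeneralizedCharacter (ω : P →* ℂˣ) : IsGeneralizedCharacter G (Xi P ω) := by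
  classical
  letI : Fintype P := Fintype.ofFinite P
  have h1 : ∀ ω : P →* ℂˣ, IsCharacter P (linFun ω) := fun ω =>
    isCharacter_of_isIrrCharacter (Cfsg.Agent.Lib.helper3.Pf4.isIrrCharacter_linFun ω)
  exact ⟨indFun P (linFun 1), indFun P (linFun ω), isCharacter_indFun P _ (h1 1),
    isCharacter_indFun P _ (h1 ω), indFun_sub P _ _⟩

theorem classInner_Xi [Fintype P] (ω : P →* ℂˣ) (χ : G → ℂ) (hχ : IsClassFunction G χ) :
    classInner (Xi P ω) χ
      = classInner (linFun 1) (fun x : P => χ x) - classInner (linFun ω) (fun x : P => χ x) := by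
  unfold Xi
  rw [frobenius_reciprocity P _ χ hχ, classInner_sub_left]

theorem classInner_Xi_one [Fintype P] {ω : P →* ℂˣ} (hω : ω ≠ 1) :
    classInner (Xi P ω) (fun _ => 1) = 1 := by
  rw [classInner_Xi P ω _ (fun _ _ => rfl), ← linFun_one_eq, classInner_linFun_self,
    classInner_linFun_ne hω, sub_zero]

/-- Invariance under conjugation by the normalizer. -/
theorem classInner_cj [Fintype P] (n : Subgroup.normalizer (P : Set G)) (ω : P →* ℂˣ) (χ : G → ℂ)
    (hχ : IsClassFunction G χ) :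
    classInner (linFun (cj P n ω)) (fun x : P => χ x)
      = classInner (linFun ω) (fun x : P => χ x) := by
  rw [classInner_apply, classInner_apply]
  congr 1
  apply Fintype.sum_equiv (MulAction.toPerm n⁻¹)
  intro x
  have h1 : linFun (cj P n ω) x = linFun ω ((MulAction.toPerm n⁻¹) x) := rfl
  have h2 : χ (((MulAction.toPerm n⁻¹) x : P) : G) = χ x := by
    show χ ((n⁻¹ • x : P) : G) = χ x
    rw [coe_inv_smul]
    have := hχ (x : G) (n : G)⁻¹
    rwa [inv_inv] at this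
  rw [h1, h2]

theorem classInner_Xi_cj [Fintype P] (n : Subgroup.normalizer (P : Set G)) (ω : P →* ℂˣ)
    (χ : G → ℂ) (hχ : IsClassFunction G χ) :
    classInner (Xi P (cj P n ω)) χ = classInner (Xi P ω) χ := by
  rw [classInner_Xi P _ χ hχ, classInner_Xi P _ χ hχ, classInner_cj P n ω χ hχ]

/-- The degree congruence for a character having the same inner product with all `Ξ_ω`. -/
theorem degree_congr [Fintype P] {p : ℕ} (hp : p.Prime) (hP : Nat.card P = p)
    (ψ : G → ℂ) (hψ : IsCharacter G ψ) (z : ℤ)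
    (hz : ∀ ω : P →* ℂˣ, ω ≠ 1 → classInner (Xi P ω) ψ = z) (d : ℕ) (hd : ψ 1 = d) :
    (p : ℤ) ∣ (d : ℤ) - z := by
  classical
  haveI := finite_dual P hp hP
  letI : Fintype (P →* ℂˣ) := Fintype.ofFinite _
  have hcomm : ∀ a b : P, a * b = b * a := fun a b =>
    Subtype.ext (comm_of_prime P hp hP a.2 b.2)
  have hψP : IsCharacter P (fun x : P => ψ x) := isCharacter_restrict hψ P
  have hnat : ∀ ω : P →* ℂˣ, ∃ k : ℕ, classInner (fun x : P => ψ x) (linFun ω) = k := fun ω =>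
    exists_nat_classInner_of_isCharacter hψP
      ⟨linFun ω, Cfsg.Agent.Lib.helper3.Pf4.isIrrCharacter_linFun ω⟩
  choose nn hnn using hnat
  have hnn' : ∀ ω : P →* ℂˣ, classInner (linFun ω) (fun x : P => ψ x) = nn ω := by
    intro ω
    rw [← classInner_conj_symm, hnn, Complex.conj_natCast]
  have hdec := Cfsg.Agent.Lib.helper3.Pf4.isCharacter_eq_sum_hom hcomm hψP
  have h1 := congrFun hdec 1
  simp only [Finset.sum_apply, Pi.smul_apply, smul_eq_mul, linFun_apply_one, mul_one, hnn] at h1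
  have h1' : ψ 1 = ∑ ω : P →* ℂˣ, (nn ω : ℂ) := h1
  have hrel : ∀ ω : P →* ℂˣ, ω ≠ 1 → (nn ω : ℤ) = (nn 1 : ℤ) - z := by
    intro ω hω
    have h2 := hz ω hω
    rw [classInner_Xi P ω ψ (isClassFunction_of_isCharacter hψ), hnn', hnn'] at h2
    have h3 : (((nn 1 : ℤ) - (nn ω : ℤ) : ℤ) : ℂ) = ((z : ℤ) : ℂ) := by
      push_cast
      exact h2
    have := Int.cast_injective h3
    linarith
  have hsum : (d : ℤ) = ∑ ω : P →* ℂˣ, (nn ω : ℤ) := by
    have h2 : ((d : ℤ) : ℂ) = ((∑ ω : P →* ℂˣ, (nn ω : ℤ) : ℤ) : ℂ) := by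
      push_cast
      rw [← hd, h1']
    exact Int.cast_injective h2
  rw [← Finset.add_sum_erase Finset.univ _ (Finset.mem_univ (1 : P →* ℂˣ)),
    Finset.sum_congr rfl (fun ω hω => hrel ω (Finset.ne_of_mem_erase hω)), Finset.sum_const,
    Finset.card_erase_of_mem (Finset.mem_univ _), Finset.card_univ, ← Nat.card_eq_fintype_card,
    card_dual P hp hP, nsmul_eq_mul] at hsum
  have hp1 : 1 ≤ p := hp.one_lt.le
  refine ⟨(nn 1 : ℤ) - z, ?_⟩
  rw [hsum]
  push_cast [hp1]
  ring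

/-- **Brauer–Suzuki exceptional characters** for a self-centralizing subgroup of prime order `p`
whose normalizer has order `p * e` with `e * (e + 2) < p`. -/
theorem main {p : ℕ} (hp : p.Prime) (hP : Nat.card P = p)
    (hC : ∀ x ∈ P, x ≠ 1 → ∀ g : G, g * x = x * g → g ∈ P) (e : ℕ)
    (hN : Nat.card (Subgroup.normalizer (P : Set G)) = p * e)
    (hbig : e * (e + 2) + 1 ≤ p) :
    ∃ (ε : ℤ) (Λ : IrrCharacter G) (z : IrrCharacter G → ℤ),
      (ε = 1 ∨ ε = -1) ∧ z (trivIrr G) = 1 ∧ z Λ = -ε ∧ Λ ≠ trivIrr G ∧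
      ∑ ψ : IrrCharacter G, z ψ ^ 2 = (e : ℤ) + 1 ∧
      ∑ ψ : IrrCharacter G, (z ψ : ℂ) * (ψ : G → ℂ) 1 = 0 ∧
      ∀ ψ : IrrCharacter G, ψ ≠ Λ → z ψ ≠ 0 → ∀ d : ℕ, (ψ : G → ℂ) 1 = d →
        (p : ℤ) ∣ (d : ℤ) - z ψ := by
  classical
  letI : Fintype P := Fintype.ofFinite P
  haveI := finite_dual P hp hP
  letI : Fintype (Quotient (orbSetoid P)) := Fintype.ofFinite _
  have he : 0 < e := by
    rcases Nat.eq_zero_or_pos e with h | h
    · rw [h, mul_zero] at hN
      exact absurd hN Nat.card_pos.ne'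
    · exact h
  have hcard : e + 2 ≤ Fintype.card (Quotient (orbSetoid P)) := by
    have h1 := card_orbits P hp hP hC e hN
    rw [Nat.card_eq_fintype_card] at h1
    have h2 : e * (e + 2) ≤ e * Fintype.card (Quotient (orbSetoid P)) := by omega
    exact Nat.le_of_mul_le_mul_left h2 he
  haveI : Nonempty (Quotient (orbSetoid P)) := by
    rw [← Fintype.card_pos_iff]; omega
  obtain ⟨i₀⟩ := ‹Nonempty (Quotient (orbSetoid P))›
  obtain ⟨Ξ, hΞ⟩ : ∃ Ξ : Quotient (orbSetoid P) → (G → ℂ), ∀ q, Ξ q = Xi P (Quotient.out q).1 :=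
    ⟨fun q => Xi P (Quotient.out q).1, fun _ => rfl⟩
  have hgram : ∀ i j, classInner (Ξ i) (Ξ j) = if i = j then (e : ℂ) + 1 else e := by
    intro i j
    rw [hΞ, hΞ]
    have hg := gram_eq P hp hP hC e hN (Quotient.out i).2 (Quotient.out j).2
    by_cases hij : i = j
    · rw [if_pos hij]
      apply hg.1 1
      rw [cj_one_left, hij]
    · rw [if_neg hij]
      apply hg.2
      intro n₀ hn₀
      apply hij
      have : (orbSetoid P).r (Quotient.out i) (Quotient.out j) := ⟨n₀, hn₀⟩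
      have h2 := Quotient.sound (s := orbSetoid P) this
      rwa [Quotient.out_eq, Quotient.out_eq] at h2
  obtain ⟨ε, Λ, z, hε, hdec, hztriv, hzΛ, hΛ, hnorm, hrest⟩ := core i₀ e Ξ
    (fun i => by rw [hΞ]; exact Xi_isGeneralizedCharacter P _)
    (fun i => by rw [hΞ]; exact Xi_apply_one P _) hgram
    (fun i => by rw [hΞ]; exact classInner_Xi_one P (Quotient.out i).2) hcard
  refine ⟨ε, Λ, z, hε, hztriv, hzΛ, hΛ, hnorm, ?_, ?_⟩
  · have h1 := congrFun hdec 1
    rw [hΞ, Xi_apply_one] at h1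
    simp only [Finset.sum_apply, Pi.smul_apply, smul_eq_mul] at h1
    exact h1.symm
  · intro ψ hψΛ hzψ d hd
    have hψc := isCharacter_of_isIrrCharacter ψ.2
    apply degree_congr P hp hP (ψ : G → ℂ) hψc (z ψ) _ d hd
    intro ω hω
    obtain ⟨n, hn⟩ : (orbSetoid P).r (Quotient.out (Quotient.mk (orbSetoid P) ⟨ω, hω⟩)) ⟨ω, hω⟩ :=
      Quotient.exact (s := orbSetoid P) (Quotient.out_eq _)
    have h1 := hrest ψ hψΛ hzψ (Quotient.mk (orbSetoid P) ⟨ω, hω⟩)
    rw [hΞ, hn, classInner_Xi_cj P n ω _ (isClassFunction_of_isCharacter hψc)] at h1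
    exact h1

end Cfsg.Agent.Lib.Helper7.BrP
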