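import Mathlib
import Cfsg.Prelude.Def_Characters
import Cfsg.Agent.Lib.helper3.NormOne
import Cfsg.Agent.Lib.helper3.NormTwo
import Cfsg.Agent.Lib.helper3.Degrees
import Cfsg.Agent.Lib.Helper7.BrP4

set_option autoImplicit false
set_option linter.style.haveILetI false
set_option linter.unusedSectionVars false

namespace Cfsg.Agent.Lib.Helper7.BrP

open Cfsg Cfsg.Agent.Lib.helper3.Irr Cfsg.Agent.Lib.helper3.CharBasic
open Cfsg.Agent.Lib.helper3.IndFun Cfsg.Agent.Lib.helper3.CycTI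
open scoped ComplexConjugate

variable {G : Type*} [Group G] [Fintype G] (P : Subgroup G)

/-- Splitting off the trivial character and the exceptional character from a sum. -/
theorem sum_split {M : Type*} [AddCommMonoid M] (Λ : IrrCharacter G) (hΛ : Λ ≠ trivIrr G)
    (F : IrrCharacter G → M) :
    ∑ ψ : IrrCharacter G, F ψ = F (trivIrr G) + (F Λ +
      ∑ ψ : {ψ : IrrCharacter G // ψ ≠ trivIrr G ∧ ψ ≠ Λ}, F ψ) := by
  classical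
  rw [← Finset.add_sum_erase Finset.univ F (Finset.mem_univ (trivIrr G)),
    ← Finset.add_sum_erase (Finset.univ.erase (trivIrr G)) F
      (Finset.mem_erase.mpr ⟨hΛ, Finset.mem_univ Λ⟩)]
  congr 2
  rw [← Finset.sum_subtype ((Finset.univ.erase (trivIrr G)).erase Λ) (p := fun ψ => ψ ≠ trivIrr G ∧ ψ ≠ Λ)]
  intro ψ
  simp only [Finset.mem_erase, Finset.mem_univ, and_true]
  tauto

/-- The case `e = 2`. -/
theorem cor_two (hperf : ∀ ψ : IrrCharacter G, (ψ : G → ℂ) 1 = 1 → ψ = trivIrr G)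
    {p : ℕ} (hp : p.Prime) (hP : Nat.card P = p)
    (hC : ∀ x ∈ P, x ≠ 1 → ∀ g : G, g * x = x * g → g ∈ P)
    (hN : Nat.card (Subgroup.normalizer (P : Set G)) = p * 2) (hbig : 9 ≤ p) :
    ∃ (d D : ℕ) (m ε : ℤ), (m = 1 ∨ m = -1) ∧ (ε = 1 ∨ ε = -1) ∧ d ∣ Nat.card G ∧
      D ∣ Nat.card G ∧ 1 < d ∧ (p : ℤ) ∣ (d : ℤ) - m ∧ 1 + m * d = ε * D := by
  classical
  obtain ⟨ε, Λ, z, hε, hztriv, hzΛ, hΛ, hnorm, hdeg, hcong⟩ := main P hp hP hC 2 hN (by omega)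
  rw [sum_split Λ hΛ, hztriv, hzΛ] at hnorm
  have hεsq : (-ε) ^ 2 = 1 := by rcases hε with h | h <;> rw [h] <;> norm_num
  have h1 : ∑ ψ : {ψ : IrrCharacter G // ψ ≠ trivIrr G ∧ ψ ≠ Λ}, z ψ ^ 2 = 1 := by
    rw [hεsq] at hnorm
    push_cast at hnorm
    linarith
  obtain ⟨a, ha, hrest⟩ := Cfsg.Agent.Lib.helper3.Irr.int_sq_sum_one
    (fun ψ : {ψ : IrrCharacter G // ψ ≠ trivIrr G ∧ ψ ≠ Λ} => z ψ) h1
  obtain ⟨d, hd1, hddvd, hdpos⟩ := Cfsg.Agent.Lib.helper3.Central.irr_degree_dvd_card a.1.2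
  obtain ⟨D, hD1, hDdvd, hDpos⟩ := Cfsg.Agent.Lib.helper3.Central.irr_degree_dvd_card Λ.2
  have hza : z a.1 ≠ 0 := by rcases ha with h | h <;> rw [h] <;> norm_num
  refine ⟨d, D, z a.1, ε, ha, hε, hddvd, hDdvd, ?_, hcong a.1 a.2.2 hza d hd1, ?_⟩
  · rcases Nat.lt_or_ge 1 d with h | h
    · exact h
    · exfalso
      have hd : d = 1 := by omega
      rw [hd, Nat.cast_one] at hd1
      exact a.2.1 (hperf a.1 hd1)
  · rw [sum_split Λ hΛ, hztriv, hzΛ] at hdeg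
    have h2 : ∑ ψ : {ψ : IrrCharacter G // ψ ≠ trivIrr G ∧ ψ ≠ Λ},
        (z ψ : ℂ) * ((ψ : IrrCharacter G) : G → ℂ) 1 = (z a.1 : ℂ) * (a.1 : G → ℂ) 1 := by
      apply Fintype.sum_eq_single a
      intro c hc
      rw [hrest c hc, Int.cast_zero, zero_mul]
    rw [h2, hd1, hD1] at hdeg
    have h3 : ((trivIrr G : IrrCharacter G) : G → ℂ) 1 = 1 := rfl
    rw [h3] at hdeg
    push_cast at hdeg
    have h4 : ((1 + z a.1 * d - ε * D : ℤ) : ℂ) = ((0 : ℤ) : ℂ) := by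
      push_cast
      linear_combination hdeg
    have := Int.cast_injective h4
    linarith

/-- The case `e = 3`. -/
theorem cor_three (hperf : ∀ ψ : IrrCharacter G, (ψ : G → ℂ) 1 = 1 → ψ = trivIrr G)
    {p : ℕ} (hp : p.Prime) (hP : Nat.card P = p)
    (hC : ∀ x ∈ P, x ≠ 1 → ∀ g : G, g * x = x * g → g ∈ P)
    (hN : Nat.card (Subgroup.normalizer (P : Set G)) = p * 3) (hbig : 16 ≤ p) :
    ∃ (d₁ d₂ D : ℕ) (m₁ m₂ ε : ℤ), (m₁ = 1 ∨ m₁ = -1) ∧ (m₂ = 1 ∨ m₂ = -1) ∧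
      (ε = 1 ∨ ε = -1) ∧ d₁ ∣ Nat.card G ∧ d₂ ∣ Nat.card G ∧
      D ∣ Nat.card G ∧ 1 < d₁ ∧ 1 < d₂ ∧ (p : ℤ) ∣ (d₁ : ℤ) - m₁ ∧ (p : ℤ) ∣ (d₂ : ℤ) - m₂ ∧
      1 + m₁ * d₁ + m₂ * d₂ = ε * D := by
  classical
  obtain ⟨ε, Λ, z, hε, hztriv, hzΛ, hΛ, hnorm, hdeg, hcong⟩ := main P hp hP hC 3 hN (by omega)
  rw [sum_split Λ hΛ, hztriv, hzΛ] at hnorm
  have hεsq : (-ε) ^ 2 = 1 := by rcases hε with h | h <;> rw [h] <;> norm_num
  have h1 : ∑ ψ : {ψ : IrrCharacter G // ψ ≠ trivIrr G ∧ ψ ≠ Λ}, z ψ ^ 2 = 2 := by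
    rw [hεsq] at hnorm
    push_cast at hnorm
    linarith
  obtain ⟨a, b, hab, ha, hb, hrest⟩ := Cfsg.Agent.Lib.helper3.Irr.int_sq_sum_two
    (fun ψ : {ψ : IrrCharacter G // ψ ≠ trivIrr G ∧ ψ ≠ Λ} => z ψ) h1
  obtain ⟨d₁, hd1, hd1dvd, hd1pos⟩ := Cfsg.Agent.Lib.helper3.Central.irr_degree_dvd_card a.1.2
  obtain ⟨d₂, hd2, hd2dvd, hd2pos⟩ := Cfsg.Agent.Lib.helper3.Central.irr_degree_dvd_card b.1.2
  obtain ⟨D, hD1, hDdvd, hDpos⟩ := Cfsg.Agent.Lib.helper3.Central.irr_degree_dvd_card Λ.2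
  have hza : z a.1 ≠ 0 := by rcases ha with h | h <;> rw [h] <;> norm_num
  have hzb : z b.1 ≠ 0 := by rcases hb with h | h <;> rw [h] <;> norm_num
  have hgt : ∀ (c : {ψ : IrrCharacter G // ψ ≠ trivIrr G ∧ ψ ≠ Λ}) (d : ℕ),
      (c.1 : G → ℂ) 1 = d → 0 < d → 1 < d := by
    intro c d hd hpos
    rcases Nat.lt_or_ge 1 d with h | h
    · exact h
    · exfalso
      have hd' : d = 1 := by omega
      rw [hd', Nat.cast_one] at hd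
      exact c.2.1 (hperf c.1 hd)
  refine ⟨d₁, d₂, D, z a.1, z b.1, ε, ha, hb, hε, hd1dvd, hd2dvd, hDdvd, hgt a d₁ hd1 hd1pos,
    hgt b d₂ hd2 hd2pos, hcong a.1 a.2.2 hza d₁ hd1, hcong b.1 b.2.2 hzb d₂ hd2, ?_⟩
  rw [sum_split Λ hΛ, hztriv, hzΛ] at hdeg
  have h2 : ∑ ψ : {ψ : IrrCharacter G // ψ ≠ trivIrr G ∧ ψ ≠ Λ},
      (z ψ : ℂ) * ((ψ : IrrCharacter G) : G → ℂ) 1
        = (z a.1 : ℂ) * (a.1 : G → ℂ) 1 + (z b.1 : ℂ) * (b.1 : G → ℂ) 1 := by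
    apply Fintype.sum_eq_add a b hab
    intro c hc
    rw [hrest c hc.1 hc.2, Int.cast_zero, zero_mul]
  rw [h2, hd1, hd2, hD1] at hdeg
  have h3 : ((trivIrr G : IrrCharacter G) : G → ℂ) 1 = 1 := rfl
  rw [h3] at hdeg
  push_cast at hdeg
  have h4 : ((1 + z a.1 * d₁ + z b.1 * d₂ - ε * D : ℤ) : ℂ) = ((0 : ℤ) : ℂ) := by
    push_cast
    linear_combination hdeg
  have := Int.cast_injective h4
  linarith

end Cfsg.Agent.Lib.Helper7.BrP
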