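import Mathlib
import Cfsg.Prelude.Def_Characters
import Cfsg.Agent.Lib.helper3.TransferChar
import Cfsg.Agent.Lib.Helper4.Simple
import Cfsg.Agent.Lib.Helper4.Sylow
import Cfsg.Agent.Lib.Helper7.BrP5

set_option autoImplicit false
set_option linter.style.haveILetI false
set_option linter.unusedSectionVars false

namespace Cfsg.Agent.Lib.Helper7.BrP

open Cfsg Cfsg.Agent.Lib.helper3.Irr Cfsg.Agent.Lib.helper3.CharBasic
open Cfsg.Agent.Lib.helper3.IndFun Cfsg.Agent.Lib.helper3.CycTI
open scoped ComplexConjugate

/-- A finite simple group of non-prime order has no nontrivial linear characters. -/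
theorem linear_eq_triv_of_simple {G : Type*} [Group G] [Fintype G] [IsSimpleGroup G]
    (hG : ¬ (Nat.card G).Prime) (ψ : IrrCharacter G) (h1 : (ψ : G → ℂ) 1 = 1) :
    ψ = trivIrr G := by
  have hψ := isCharacter_of_isIrrCharacter ψ.2
  obtain ⟨f, hf⟩ : ∃ f : G →* ℂˣ, ∀ g, ((f g : ℂˣ) : ℂ) = (ψ : G → ℂ) g :=
    ⟨Cfsg.Agent.Lib.helper3.Lin.toUnitsHom hψ h1,
      Cfsg.Agent.Lib.helper3.Lin.toUnitsHom_apply hψ h1⟩
  rcases (MonoidHom.normal_ker f).eq_bot_or_eq_top with h | h
  · exfalso
    have hinj : Function.Injective f := (MonoidHom.ker_eq_bot_iff f).mp h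
    have hcomm : ∀ a b : G, a * b = b * a := by
      intro a b
      apply hinj
      rw [map_mul, map_mul, mul_comm]
    letI : CommGroup G := { ‹Group G› with mul_comm := hcomm }
    exact hG IsSimpleGroup.prime_card
  · apply Subtype.ext
    funext g
    have : g ∈ f.ker := by rw [h]; trivial
    rw [← hf g, MonoidHom.mem_ker.mp this]
    rfl

/-- A Sylow subgroup of prime order in a simple group, whose normalizer has order `p * e` with `e`
prime, is self-centralizing. -/
theorem self_centralizing_of_simple {G : Type*} [Group G] [Finite G] [IsSimpleGroup G] {p : ℕ}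
    [hp : Fact p.Prime] (P : Sylow p G) (hP : Nat.card (P : Subgroup G) = p) (e : ℕ)
    (he : e.Prime)
    (hN : Nat.card (Subgroup.normalizer ((P : Subgroup G) : Set G)) = p * e)
    (hne : Nat.card G ≠ p) :
    ∀ x ∈ (P : Subgroup G), x ≠ 1 → ∀ g : G, g * x = x * g → g ∈ (P : Subgroup G) := by
  have hPC : (P : Subgroup G) ≤ Subgroup.centralizer ((P : Subgroup G) : Set G) := by
    intro a ha
    rw [Subgroup.mem_centralizer_iff]
    intro b hb
    exact comm_of_prime (P : Subgroup G) hp.out hP hb ha
  have hCN : Subgroup.centralizer ((P : Subgroup G) : Set G) ≤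
      Subgroup.normalizer ((P : Subgroup G) : Set G) := Subgroup.centralizer_le_normalizer _
  have h1 : p ∣ Nat.card (Subgroup.centralizer ((P : Subgroup G) : Set G)) := by
    have := Subgroup.card_dvd_of_le hPC
    rwa [hP] at this
  have h2 : Nat.card (Subgroup.centralizer ((P : Subgroup G) : Set G)) ∣ p * e := by
    have := Subgroup.card_dvd_of_le hCN
    rwa [hN] at this
  obtain ⟨k, hk⟩ := h1
  rw [hk] at h2
  have hk' : k ∣ e := Nat.dvd_of_mul_dvd_mul_left hp.out.pos h2
  have hCP : Subgroup.centralizer ((P : Subgroup G) : Set G) = (P : Subgroup G) := by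
    rcases (Nat.dvd_prime he).mp hk' with h | h
    · symm
      apply Subgroup.eq_of_le_of_card_ge hPC
      rw [hk, h, mul_one, hP]
    · exfalso
      have hCeq : Subgroup.centralizer ((P : Subgroup G) : Set G) =
          Subgroup.normalizer ((P : Subgroup G) : Set G) := by
        apply Subgroup.eq_of_le_of_card_ge hCN
        rw [hk, h, hN]
      exact Cfsg.Agent.Lib.Helper4.Simple.false_of_simple_of_normalizer_le_centralizer P
        (by rw [hCeq]) (by rw [show Nat.card P = Nat.card (P : Subgroup G) from rfl, hP]; exact hp.out.one_lt.ne')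
        (by rw [show Nat.card P = Nat.card (P : Subgroup G) from rfl, hP]; exact hne.symm)
  intro x hx hx1 g hg
  rw [← hCP, Subgroup.mem_centralizer_iff]
  intro y hy
  obtain ⟨k, rfl⟩ := exists_zpow_eq (P : Subgroup G) hp.out hP hx hx1 hy
  have : Commute g x := hg
  exact (this.zpow_right k).eq.symm

end Cfsg.Agent.Lib.Helper7.BrP
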