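import Mathlib
import Cfsg.Prelude.Def_LocalStructure
import Cfsg.Agent.Lib.Helper7.CharP
import Cfsg.Agent.Lib.Helper7.FStarLocal2

set_option autoImplicit false
open Cfsg
open scoped commutatorElement

namespace Cfsg.Agent.Lib.Helper7

open Cfsg.Agent.H2 Cfsg.Agent.Lib.Lead.Conj Cfsg.Agent.Lib.Lead.StronglyEmbedded

section swap
variable {G : Type*} [Group G]

/-- `A ∩ B` viewed inside `B`, resp. inside `A` -/
def subgroupOfSwap (A B : Subgroup G) : ↥(A.subgroupOf B) ≃* ↥(B.subgroupOf A) where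
  toFun x := ⟨⟨x.1.1, x.2⟩, x.1.2⟩
  invFun y := ⟨⟨y.1.1, y.2⟩, y.1.2⟩
  left_inv _ := rfl
  right_inv _ := rfl
  map_mul' _ _ := rfl

end swap

variable {G : Type*} [Group G] [Finite G] {p : ℕ} [Fact p.Prime]

/-- the intersection of a Sylow subgroup with a subnormal subgroup is a Sylow subgroup of it -/
theorem IsSylowIn.inf_subnormal {P : Subgroup G} (hP : IsSylowIn p P ⊤) {K : Subgroup G}
    (hK : K.IsSubnormal) : IsSylowIn p (P ⊓ K) K := by
  induction hK with
  | top => rw [inf_top_eq]; exact hP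
  | step H K hHK _ hN ih =>
    have h1 := ih.inf_normal H hHK ((Subgroup.normal_subgroupOf_iff_le_normalizer hHK).mp hN)
    rwa [inf_assoc, inf_eq_right.mpr hHK] at h1

/-- In a group of parabolic characteristic `p`, `C_G(z)` has characteristic `p` for `1 ≠ z ∈ Z(S)`. -/
theorem isCharP_centralizer_of_parabolic (hG : Cfsg.IsOfParabolicCharacteristic p G) (S : Sylow p G)
    {z : G} (hz1 : z ≠ 1) (hzS : z ∈ (S : Subgroup G))
    (hzC : z ∈ Subgroup.centralizer ((S : Subgroup G) : Set G)) :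
    IsCharP p ↥(Subgroup.centralizer ({z} : Set G)) := by
  have hzp : IsPGroup p ↥(Subgroup.zpowers z) := S.isPGroup'.to_le (Subgroup.zpowers_le.mpr hzS)
  have hzne : Subgroup.zpowers z ≠ ⊥ := by rw [Ne, Subgroup.zpowers_eq_bot]; exact hz1
  have hSz : (S : Subgroup G) ≤ Subgroup.centralizer ((Subgroup.zpowers z : Subgroup G) : Set G) := by
    rw [Subgroup.le_centralizer_iff, Subgroup.zpowers_le]
    exact hzC
  have hparz : Cfsg.IsParabolic p
      (Subgroup.normalizer ((Subgroup.zpowers z : Subgroup G) : Set G)) :=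
    ⟨S, hSz.trans (Subgroup.centralizer_le_normalizer _)⟩
  have hchar : IsCharP p ↥(Subgroup.normalizer ((Subgroup.zpowers z : Subgroup G) : Set G)) :=
    hG _ hzp hzne hparz
  have hCN : Subgroup.centralizer ({z} : Set G)
      ≤ Subgroup.normalizer ((Subgroup.zpowers z : Subgroup G) : Set G) := by
    rw [centralizer_singleton_eq_centralizer_zpowers]
    exact Subgroup.centralizer_le_normalizer _
  haveI : ((Subgroup.centralizer ({z} : Set G)).subgroupOf
      (Subgroup.normalizer ((Subgroup.zpowers z : Subgroup G) : Set G))).Normal := by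
    rw [Subgroup.normal_subgroupOf_iff_le_normalizer hCN,
      centralizer_singleton_eq_centralizer_zpowers]
    exact normalizer_le_normalizer_centralizer _
  have h1 := hchar.normal ((Subgroup.centralizer ({z} : Set G)).subgroupOf
      (Subgroup.normalizer ((Subgroup.zpowers z : Subgroup G) : Set G)))
  exact h1.of_equiv (Subgroup.subgroupOfEquivOfLe hCN)

/-- common core of S2897 / S3023 -/
theorem parabolic_char_subnormal (hG : Cfsg.IsOfParabolicCharacteristic p G) (S : Sylow p G)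
    (G₁ : Subgroup G) (hsn : G₁.IsSubnormal)
    (hz : ∀ z : G, z ∈ (S : Subgroup G) ⊓ G₁ →
      z ∈ Subgroup.centralizer (((S : Subgroup G) ⊓ G₁ : Subgroup G) : Set G) → orderOf z = p →
      z ∈ Subgroup.centralizer ((S : Subgroup G) : Set G)) :
    Cfsg.IsOfParabolicCharacteristic p ↥G₁ := by
  intro R hR hRne ⟨T₁, hT₁⟩
  -- R ≤ T₁
  have hRT : R ≤ (T₁ : Subgroup ↥G₁) := by
    have h1 : IsPGroup p ↥((T₁ : Subgroup ↥G₁) ⊔ R) :=
      IsPGroup.to_sup_of_normal_right' T₁.isPGroup' hR hT₁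
    have h2 := T₁.is_maximal' h1 le_sup_left
    rw [← h2]; exact le_sup_right
  obtain ⟨z₁, hz₁R, hoz₁, hz₁C⟩ :=
    exists_central_orderOf_eq_of_normal (T₁ : Subgroup ↥G₁) T₁.isPGroup' R hRT hT₁ hRne
  -- transfer to G
  have hT₁' : IsSylowIn p ((T₁ : Subgroup ↥G₁).map G₁.subtype) G₁ := IsSylowIn.of_sylow T₁
  have hS₁ : IsSylowIn p ((S : Subgroup G) ⊓ G₁) G₁ :=
    (IsSylowIn.of_sylow_top S).inf_subnormal hsn
  obtain ⟨g, hgG₁, hTg⟩ := IsSylowIn.conj hS₁ hT₁'
  have hz'T : (z₁ : G) ∈ (T₁ : Subgroup ↥G₁).map G₁.subtype := ⟨z₁, hRT hz₁R, rfl⟩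
  have hzS₁ : g⁻¹ * (z₁ : G) * g ∈ (S : Subgroup G) ⊓ G₁ := by
    rw [hTg, mem_map_conj] at hz'T; exact hz'T
  have hzC₁ : g⁻¹ * (z₁ : G) * g ∈ Subgroup.centralizer (((S : Subgroup G) ⊓ G₁ : Subgroup G) : Set G) := by
    rw [Subgroup.mem_centralizer_iff]
    intro s hs
    have hsT : g * s * g⁻¹ ∈ (T₁ : Subgroup ↥G₁).map G₁.subtype := by rw [hTg]; exact ⟨s, hs, rfl⟩
    obtain ⟨t, ht, hts⟩ := hsT
    have h1 : t * z₁ = z₁ * t := Subgroup.mem_centralizer_iff.mp hz₁C t ht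
    have h2 : (g * s * g⁻¹) * (z₁ : G) = (z₁ : G) * (g * s * g⁻¹) := by
      rw [← hts]
      exact congrArg Subtype.val h1
    calc s * (g⁻¹ * (z₁ : G) * g) = g⁻¹ * (g * s * g⁻¹ * (z₁ : G)) * g := by group
      _ = g⁻¹ * ((z₁ : G) * (g * s * g⁻¹)) * g := by rw [h2]
      _ = g⁻¹ * (z₁ : G) * g * s := by group
  have hoz' : orderOf (z₁ : G) = p := by rw [Subgroup.orderOf_coe]; exact hoz₁
  have hoz : orderOf (g⁻¹ * (z₁ : G) * g) = p := by rw [orderOf_conj']; exact hoz'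
  have hzCS := hz _ hzS₁ hzC₁ hoz
  have hchar := isCharP_centralizer_of_parabolic hG S (ne_one_of_orderOf hoz)
    (Subgroup.mem_inf.mp hzS₁).1 hzCS
  have h2 := fstar_centralizer_conj (p := p) g _ (fstar_eq_pCore_iff_isCharP.mpr hchar)
  have e : g * (g⁻¹ * (z₁ : G) * g) * g⁻¹ = (z₁ : G) := by group
  rw [e] at h2
  have hchar' : IsCharP p ↥(Subgroup.centralizer ({(z₁ : G)} : Set G)) :=
    fstar_eq_pCore_iff_isCharP.mp h2
  -- G₁ ∩ C(z') subnormal in C(z')
  have h3 : IsCharP p ↥(G₁.subgroupOf (Subgroup.centralizer ({(z₁ : G)} : Set G))) :=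
    hchar'.subnormal _ hsn.subgroupOf
  have h4 : IsCharP p ↥((Subgroup.centralizer ({(z₁ : G)} : Set G)).subgroupOf G₁) :=
    h3.of_equiv (subgroupOfSwap _ _)
  have heq : (Subgroup.centralizer ({(z₁ : G)} : Set G)).subgroupOf G₁
      = Subgroup.centralizer ({z₁} : Set ↥G₁) := by
    ext x
    rw [Subgroup.mem_subgroupOf, Subgroup.mem_centralizer_singleton_iff,
      Subgroup.mem_centralizer_singleton_iff]
    constructor
    · intro h; exact Subtype.ext h
    · intro h; exact congrArg Subtype.val h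
  have h5 : Cfsg.generalizedFittingSubgroup ↥(Subgroup.centralizer ({z₁} : Set ↥G₁))
      = Cfsg.pCore p ↥(Subgroup.centralizer ({z₁} : Set ↥G₁)) :=
    fstar_eq_pCore_of_eq heq (fstar_eq_pCore_iff_isCharP.mpr h4)
  have h6 := fstar_normalizer_of_fstar_centralizer R hR z₁ hz₁R
    (fun x hx => Subgroup.mem_centralizer_iff.mp hz₁C x (hRT hx)) h5
  exact fstar_eq_pCore_iff_isCharP.mp h6

/-- S3023 -/
theorem parabolic_char_of_subnormal (hG : Cfsg.IsOfParabolicCharacteristic p G) (S : Sylow p G)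
    (G₁ : Subgroup G) (hsn : G₁.IsSubnormal)
    (hle : ((S : Subgroup G) ⊓ G₁) ⊓ Subgroup.centralizer (((S : Subgroup G) ⊓ G₁ : Subgroup G) : Set G)
      ≤ (S : Subgroup G) ⊓ Subgroup.centralizer ((S : Subgroup G) : Set G)) :
    Cfsg.IsOfParabolicCharacteristic p ↥G₁ := by
  apply parabolic_char_subnormal hG S G₁ hsn
  intro z hz hzC _
  exact (Subgroup.mem_inf.mp (hle (Subgroup.mem_inf.mpr ⟨hz, hzC⟩))).2

/-- S2897 -/
theorem parabolic_char_of_normal (hG : Cfsg.IsOfParabolicCharacteristic p G) (S : Sylow p G)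
    (G₁ : Subgroup G) [G₁.Normal]
    (hle : Cfsg.omegaOne p (((S : Subgroup G) ⊓ G₁) ⊓
        Subgroup.centralizer (((S : Subgroup G) ⊓ G₁ : Subgroup G) : Set G))
      ≤ Cfsg.omegaOne p ((S : Subgroup G) ⊓ Subgroup.centralizer ((S : Subgroup G) : Set G))) :
    Cfsg.IsOfParabolicCharacteristic p ↥G₁ := by
  apply parabolic_char_subnormal hG S G₁ (Subgroup.Normal.isSubnormal inferInstance)
  intro z hz hzC hoz
  have h1 : z ∈ Cfsg.omegaOne p (((S : Subgroup G) ⊓ G₁) ⊓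
      Subgroup.centralizer (((S : Subgroup G) ⊓ G₁ : Subgroup G) : Set G)) := by
    apply Subgroup.subset_closure
    refine ⟨Subgroup.mem_inf.mpr ⟨hz, hzC⟩, ?_⟩
    rw [← hoz]; exact pow_orderOf_eq_one _
  have h2 := hle h1
  have h3 : Cfsg.omegaOne p ((S : Subgroup G) ⊓ Subgroup.centralizer ((S : Subgroup G) : Set G))
      ≤ (S : Subgroup G) ⊓ Subgroup.centralizer ((S : Subgroup G) : Set G) := by
    unfold Cfsg.omegaOne
    rw [Subgroup.closure_le]
    intro x hx
    exact hx.1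
  exact (Subgroup.mem_inf.mp (h3 h2)).2

end Cfsg.Agent.Lib.Helper7
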