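import Mathlib
import Cfsg.Prelude.Def_Transfer
import Cfsg.Agent.Lib.Helper7.ParabolicChar2
import Cfsg.Agent.Lib.Lead.Subnormal
import Cfsg.Agent.Lib.Lead.Subnormal2
import Cfsg.Agent.Lib.Lead.PResidual
import Cfsg.Agent.H1.Card

set_option autoImplicit false

namespace Cfsg.Agent.Lib.Helper7

open Cfsg
open scoped Pointwise commutatorElement

universe u

section lemmas

variable {G : Type*} [Group G]

theorem normalizer_inf_le_normalizer_inf (A B : Subgroup G) :
    Subgroup.normalizer (A : Set G) ⊓ Subgroup.normalizer (B : Set G) ≤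
      Subgroup.normalizer ((A ⊓ B : Subgroup G) : Set G) := by
  intro g hg
  have hA : g ∈ Subgroup.normalizer (A : Set G) := hg.1
  have hB : g ∈ Subgroup.normalizer (B : Set G) := hg.2
  rw [Subgroup.mem_normalizer_iff] at hA hB ⊢
  intro x
  rw [Subgroup.mem_inf, Subgroup.mem_inf, hA x, hB x]

/-- a homomorphism to a `p`-group kills `O^p(G)` -/
theorem pResidual_le_ker {p : ℕ} [Fact p.Prime] {C : Type*} [Group C] (hC : IsPGroup p C)
    (ψ : G →* C) : pResidual p G ≤ ψ.ker := by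
  unfold pResidual
  rw [Subgroup.closure_le]
  intro g hg
  have hg' : (orderOf g).Coprime p := hg
  obtain ⟨k, hk⟩ := hC.exists_orderOf_eq_pow (ψ g)
  have hdvd : orderOf (ψ g) ∣ orderOf g := orderOf_map_dvd ψ g
  have h1 : orderOf (ψ g) = 1 := by
    have hcop : (orderOf (ψ g)).Coprime (orderOf (ψ g)) := by
      rw [hk]
      rw [hk] at hdvd
      exact Nat.Coprime.coprime_dvd_left hdvd (Nat.Coprime.pow_right k hg')
    exact (Nat.coprime_self _).mp hcop
  exact orderOf_eq_one_iff.mp h1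

variable [Finite G] {p : ℕ} [Fact p.Prime]

/-- `Z(G) ∩ S ∩ O^p(G) ≤ S'` -/
theorem center_inf_pResidual_le_commutator (S : Sylow p G) {z : G} (hzZ : z ∈ Subgroup.center G)
    (hzS : z ∈ (S : Subgroup G)) (hzR : z ∈ pResidual p G) :
    z ∈ ⁅(S : Subgroup G), (S : Subgroup G)⁆ := by
  have hp : p.Prime := Fact.out
  set ϕ : ↥(S : Subgroup G) →* Abelianization ↥(S : Subgroup G) := Abelianization.of with hϕ
  have hAp : IsPGroup p (Abelianization ↥(S : Subgroup G)) :=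
    S.isPGroup'.to_quotient (commutator ↥(S : Subgroup G))
  have hker := pResidual_le_ker hAp (MonoidHom.transfer ϕ)
  have h1 : MonoidHom.transfer ϕ z = 1 := MonoidHom.mem_ker.mp (hker hzR)
  have key : ∀ (k : ℕ) (g₀ : G), g₀⁻¹ * z ^ k * g₀ ∈ (S : Subgroup G) → g₀⁻¹ * z ^ k * g₀ = z ^ k := by
    intro k g₀ _
    have hc : g₀ * z ^ k = z ^ k * g₀ := Subgroup.mem_center_iff.mp (Subgroup.pow_mem _ hzZ k) g₀
    calc g₀⁻¹ * z ^ k * g₀ = g₀⁻¹ * (z ^ k * g₀) := by group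
      _ = g₀⁻¹ * (g₀ * z ^ k) := by rw [hc]
      _ = z ^ k := by group
  rw [MonoidHom.transfer_eq_pow ϕ z key] at h1
  have h2 : (⟨z ^ (S : Subgroup G).index, MonoidHom.transfer_eq_pow_aux z key⟩ : ↥(S : Subgroup G)) ∈
      commutator ↥(S : Subgroup G) := by
    rw [← Abelianization.ker_of]
    exact MonoidHom.mem_ker.mpr h1
  -- `z` is a power of `z ^ index`
  have hcop : ((S : Subgroup G).index).Coprime (orderOf z) := by
    obtain ⟨k, hk⟩ := S.isPGroup'.exists_orderOf_eq_pow ⟨z, hzS⟩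
    rw [Subgroup.orderOf_mk] at hk
    rw [hk]
    apply Nat.Coprime.pow_right
    exact (Nat.Coprime.symm ((Nat.Prime.coprime_iff_not_dvd hp).mpr S.not_dvd_index))
  have hz3 : (⟨z, hzS⟩ : ↥(S : Subgroup G)) ∈ commutator ↥(S : Subgroup G) := by
    by_cases ho : orderOf z = 1
    · have : z = 1 := orderOf_eq_one_iff.mp ho
      have e : (⟨z, hzS⟩ : ↥(S : Subgroup G)) = 1 := Subtype.ext this
      rw [e]; exact Subgroup.one_mem _
    · have ho' : 1 < orderOf z := by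
        have := orderOf_pos z
        omega
      obtain ⟨m, -, hm⟩ := Nat.exists_mul_mod_eq_one_of_coprime hcop ho'
      have h3 := Subgroup.pow_mem _ h2 m
      have e : (⟨z ^ (S : Subgroup G).index, MonoidHom.transfer_eq_pow_aux z key⟩ : ↥(S : Subgroup G)) ^ m
          = ⟨z, hzS⟩ := by
        apply Subtype.ext
        show (z ^ (S : Subgroup G).index) ^ m = z
        rw [← pow_mul, ← pow_mod_orderOf, hm, pow_one]
      rwa [e] at h3
  have h4 : commutator ↥(S : Subgroup G) = ⁅(⊤ : Subgroup ↥(S : Subgroup G)), ⊤⁆ := rfl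
  have h5 : Subgroup.map (S : Subgroup G).subtype ⁅(⊤ : Subgroup ↥(S : Subgroup G)), ⊤⁆ =
      ⁅(S : Subgroup G), (S : Subgroup G)⁆ := by
    rw [Subgroup.map_commutator, ← MonoidHom.range_eq_map, Subgroup.range_subtype]
  rw [← h5, ← h4]
  exact ⟨⟨z, hzS⟩, hz3, rfl⟩

/-- normalizing case -/
theorem sup_inf_sylow_of_le_normalizer (S : Sylow p G) (A B : Subgroup G) (hA : A.IsSubnormal)
    (hB : B.IsSubnormal) (hAB : A ≤ Subgroup.normalizer (B : Set G)) :
    (A ⊔ B) ⊓ (S : Subgroup G) ≤ (A ⊓ (S : Subgroup G)) ⊔ (B ⊓ (S : Subgroup G)) := by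
  have hp : p.Prime := Fact.out
  have hS := IsSylowIn.of_sylow_top S
  have hsA := hS.inf_subnormal hA
  have hsB := hS.inf_subnormal hB
  have hsAB := hS.inf_subnormal (hA.inf hB)
  have hsJ := hS.inf_subnormal (Cfsg.Agent.Lib.Lead.Subnormal.sup_isSubnormal hA hB)
  have hnorm : A ⊓ (S : Subgroup G) ≤ Subgroup.normalizer ((B ⊓ (S : Subgroup G) : Subgroup G) : Set G) :=
    le_trans (le_inf (inf_le_left.trans hAB) (inf_le_right.trans Subgroup.le_normalizer))
      (normalizer_inf_le_normalizer_inf B S)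
  have c1 := Cfsg.Agent.H1.card_sup_mul_card_inf _ _ hnorm
  have c2 := Cfsg.Agent.H1.card_sup_mul_card_inf _ _ hAB
  have e1 : A ⊓ (S : Subgroup G) ⊓ (B ⊓ (S : Subgroup G)) = (S : Subgroup G) ⊓ (A ⊓ B) := by
    ext x; simp only [Subgroup.mem_inf]; tauto
  rw [e1, hsAB.2, inf_comm A, inf_comm B, hsA.2, hsB.2] at c1
  have hfac : (Nat.card ↥(A ⊔ B)).factorization p + (Nat.card ↥(A ⊓ B)).factorization p =
      (Nat.card ↥A).factorization p + (Nat.card ↥B).factorization p := by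
    have := congrArg (fun n => n.factorization p) c2
    rw [Nat.factorization_mul Nat.card_pos.ne' Nat.card_pos.ne',
      Nat.factorization_mul Nat.card_pos.ne' Nat.card_pos.ne'] at this
    simpa using this
  have hcard : Nat.card ↥((S : Subgroup G) ⊓ A ⊔ (S : Subgroup G) ⊓ B) =
      p ^ (Nat.card ↥(A ⊔ B)).factorization p := by
    have h3 : Nat.card ↥((S : Subgroup G) ⊓ A ⊔ (S : Subgroup G) ⊓ B) *
        p ^ (Nat.card ↥(A ⊓ B)).factorization p =
        p ^ (Nat.card ↥(A ⊔ B)).factorization p * p ^ (Nat.card ↥(A ⊓ B)).factorization p := by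
      rw [c1, ← pow_add, ← pow_add, hfac]
    exact Nat.eq_of_mul_eq_mul_right (pow_pos hp.pos _) h3
  have hle : (S : Subgroup G) ⊓ A ⊔ (S : Subgroup G) ⊓ B ≤ (S : Subgroup G) ⊓ (A ⊔ B) :=
    sup_le (inf_le_inf_left _ le_sup_left) (inf_le_inf_left _ le_sup_right)
  have heq := Subgroup.eq_of_le_of_card_ge hle (by rw [hcard, hsJ.2])
  rw [inf_comm (A ⊔ B), ← heq, inf_comm A, inf_comm B]

end lemmas

section main

open Cfsg.Agent.Lib.Lead.Subnormal

theorem sylow_join_aux {p : ℕ} [Fact p.Prime] (n : ℕ) : ∀ (G : Type u) [Group G] [Finite G],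
    Nat.card G = n → ∀ (S : Sylow p G) (A B : Subgroup G), A.IsSubnormal → B.IsSubnormal →
      (A ⊔ B) ⊓ (S : Subgroup G) ≤ (A ⊓ (S : Subgroup G)) ⊔ (B ⊓ (S : Subgroup G)) := by
  induction n using Nat.strong_induction_on with
  | _ n ih =>
  intro G _ _ hcard S A B hA hB
  have hS := IsSylowIn.of_sylow_top S
  by_cases htop : A ⊔ B = ⊤
  swap
  · -- reduce to the join
    obtain ⟨L, hL⟩ : ∃ L : Subgroup G, L = A ⊔ B := ⟨_, rfl⟩
    have hAL : A ≤ L := by rw [hL]; exact le_sup_left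
    have hBL : B ≤ L := by rw [hL]; exact le_sup_right
    have hLsn : L.IsSubnormal := by rw [hL]; exact sup_isSubnormal hA hB
    have hLcard : Nat.card ↥L < n := by
      rw [← hcard]
      apply Cfsg.Agent.Lib.Lead.Subnormal.card_lt_of_ne_top
      rw [hL]; exact htop
    obtain ⟨SL, hSL⟩ := (hS.inf_subnormal hLsn).exists_sylow
    have h1 := ih _ hLcard ↥L rfl SL (A.subgroupOf L) (B.subgroupOf L) hA.subgroupOf hB.subgroupOf
    rw [← hL]
    intro x hx
    have hxL : x ∈ L := hx.1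
    have hx1 : (⟨x, hxL⟩ : ↥L) ∈ (A.subgroupOf L ⊔ B.subgroupOf L) ⊓ (SL : Subgroup ↥L) := by
      refine ⟨?_, ?_⟩
      · rw [← Subgroup.subgroupOf_sup hAL hBL, ← hL, Subgroup.subgroupOf_self]; trivial
      · have : (⟨x, hxL⟩ : ↥L) ∈ ((S : Subgroup G) ⊓ L).subgroupOf L :=
          Subgroup.mem_subgroupOf.mpr ⟨hx.2, hxL⟩
        rw [← hSL] at this
        exact this
    have hx2 := Subgroup.mem_map_of_mem L.subtype (h1 hx1)
    rw [Subgroup.map_sup] at hx2
    have hmono : ∀ D : Subgroup G,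
        (D.subgroupOf L ⊓ (SL : Subgroup ↥L)).map L.subtype ≤ D ⊓ (S : Subgroup G) := by
      intro D
      rintro _ ⟨y, hy, rfl⟩
      have hyD : y ∈ D.subgroupOf L := hy.1
      have hyS : y ∈ (SL : Subgroup ↥L) := hy.2
      rw [hSL] at hyS
      exact ⟨Subgroup.mem_subgroupOf.mp hyD, (Subgroup.mem_subgroupOf.mp hyS).1⟩
    exact (sup_le_sup (hmono A) (hmono B) : _ ≤ _) hx2
  -- now `A ⊔ B = ⊤`
  obtain ⟨T, hT⟩ : ∃ T : Subgroup G, T = (A ⊓ (S : Subgroup G)) ⊔ (B ⊓ (S : Subgroup G)) := ⟨_, rfl⟩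
  rw [← hT, htop, top_inf_eq]
  have hTS : T ≤ (S : Subgroup G) := by rw [hT]; exact sup_le inf_le_right inf_le_right
  by_cases hR : pResidual p G = ⊥
  · have h1 := Cfsg.Agent.Lib.Lead.PResidual.sup_eq_top (p := p) (S : Subgroup G) S.not_dvd_index
    rw [hR, sup_bot_eq] at h1
    have h2 : A ⊔ B ≤ T := by
      rw [hT, h1, inf_top_eq, inf_top_eq]
    rw [htop, ← h1] at h2
    exact h2
  have hRn : (pResidual p G).Normal := Cfsg.Agent.Lib.Lead.PResidual.normal p G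
  obtain ⟨N, hNmin, hNR⟩ := exists_isMinNormal_le (pResidual p G) hRn hR
  haveI hNn : N.Normal := hNmin.1
  have hNA : N ≤ Subgroup.normalizer (A : Set G) := minNormal_le_normalizer hA hNmin
  have hNB : N ≤ Subgroup.normalizer (B : Set G) := minNormal_le_normalizer hB hNmin
  have hNsn : N.IsSubnormal := hNn.isSubnormal
  have hcardQ : Nat.card (G ⧸ N) < n := by
    rw [← hcard]
    have h1 : Nat.card G = Nat.card (G ⧸ N) * Nat.card ↥N := Subgroup.card_eq_card_quotient_mul_card_subgroup N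
    have h2 : 1 < Nat.card ↥N := by
      rw [Subgroup.one_lt_card_iff_ne_bot]; exact hNmin.2.1
    have h3 : 0 < Nat.card (G ⧸ N) := Nat.card_pos
    nlinarith
  have hπ := QuotientGroup.mk'_surjective N
  have hq := ih _ hcardQ (G ⧸ N) rfl (S.mapSurjective hπ) (A.map (QuotientGroup.mk' N))
    (B.map (QuotientGroup.mk' N)) (hA.map hπ) (hB.map hπ)
  rw [Sylow.coe_mapSurjective, ← Subgroup.map_sup, htop, Subgroup.map_top_of_surjective _ hπ,
    top_inf_eq] at hq
  -- images of the intersections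
  have himg : ∀ D : Subgroup G, D.IsSubnormal →
      D.map (QuotientGroup.mk' N) ⊓ (S : Subgroup G).map (QuotientGroup.mk' N) ≤
        (D ⊓ (S : Subgroup G)).map (QuotientGroup.mk' N) := by
    intro D hD
    rintro _ ⟨⟨a, ha, rfl⟩, ⟨s, hs, hsa⟩⟩
    have hker : a⁻¹ * s ∈ N := by
      rw [← QuotientGroup.ker_mk' N, MonoidHom.mem_ker, map_mul, map_inv, hsa, inv_mul_cancel]
    have hsDN : s ∈ (D ⊔ N) ⊓ (S : Subgroup G) := by
      refine ⟨?_, hs⟩
      have : s = a * (a⁻¹ * s) := by group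
      rw [this]
      exact Subgroup.mul_mem_sup ha hker
    have h2 := sup_inf_sylow_of_le_normalizer S D N hD hNsn
      (by rw [Subgroup.normalizer_eq_top]; exact le_top) hsDN
    have h3 := Subgroup.mem_map_of_mem (QuotientGroup.mk' N) h2
    rw [Subgroup.map_sup] at h3
    have h4 : (N ⊓ (S : Subgroup G)).map (QuotientGroup.mk' N) = ⊥ := by
      rw [Subgroup.map_eq_bot_iff, QuotientGroup.ker_mk']; exact inf_le_left
    rw [h4, sup_bot_eq, hsa] at h3
    exact h3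
  have hST : ∀ s ∈ (S : Subgroup G), ∃ t ∈ T, t⁻¹ * s ∈ N ⊓ (S : Subgroup G) := by
    intro s hs
    have h1 : (QuotientGroup.mk' N) s ∈ T.map (QuotientGroup.mk' N) := by
      rw [hT, Subgroup.map_sup]
      exact (sup_le_sup (himg A hA) (himg B hB)) (hq (Subgroup.mem_map_of_mem _ hs))
    obtain ⟨t, ht, hts⟩ := h1
    refine ⟨t, ht, ?_, Subgroup.mul_mem _ (Subgroup.inv_mem _ (hTS ht)) hs⟩
    show t⁻¹ * s ∈ N
    rw [← QuotientGroup.ker_mk' N, MonoidHom.mem_ker, map_mul, map_inv, hts, inv_mul_cancel]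
  -- suffices `N ⊓ S ≤ T`
  suffices hNT : N ⊓ (S : Subgroup G) ≤ T by
    intro s hs
    obtain ⟨t, ht, hn⟩ := hST s hs
    have : s = t * (t⁻¹ * s) := by group
    rw [this]
    exact T.mul_mem ht (hNT hn)
  obtain ⟨N₀, hN₀⟩ : ∃ N₀ : Subgroup G, N₀ = (N ⊓ A) ⊔ (N ⊓ B) := ⟨_, rfl⟩
  have hN₀N : N₀ ≤ N := by rw [hN₀]; exact sup_le inf_le_left inf_le_left
  -- commutators `[D, N] ≤ N ⊓ D` for `D` normalized by `N`
  have hcomm : ∀ D : Subgroup G, N ≤ Subgroup.normalizer (D : Set G) →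
      ∀ d ∈ D, ∀ x ∈ N, d * x * d⁻¹ * x⁻¹ ∈ N ⊓ D := by
    intro D hD d hd x hx
    refine ⟨?_, ?_⟩
    · exact N.mul_mem (hNn.conj_mem x hx d) (N.inv_mem hx)
    · have h1 : x * d⁻¹ * x⁻¹ ∈ D := (Subgroup.mem_normalizer_iff.mp (hD hx) d⁻¹).mp (D.inv_mem hd)
      have : d * x * d⁻¹ * x⁻¹ = d * (x * d⁻¹ * x⁻¹) := by group
      rw [this]
      exact D.mul_mem hd h1
  have hnormD : ∀ D D' : Subgroup G, N ≤ Subgroup.normalizer (D : Set G) →
      N ⊓ D ≤ N₀ → N ⊓ D' ≤ N₀ → ∀ d ∈ D, ∀ x ∈ N ⊓ D', d * x * d⁻¹ ∈ N₀ := by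
    intro D D' hD hDN₀ hD'N₀ d hd x hx
    have h1 := hcomm D hD d hd x hx.1
    have : d * x * d⁻¹ = (d * x * d⁻¹ * x⁻¹) * x := by group
    rw [this]
    exact N₀.mul_mem (hDN₀ h1) (hD'N₀ hx)
  have hleA : N ⊓ A ≤ N₀ := by rw [hN₀]; exact le_sup_left
  have hleB : N ⊓ B ≤ N₀ := by rw [hN₀]; exact le_sup_right
  have hN₀norm : N₀.Normal := by
    have hconj : ∀ D : Subgroup G, N ≤ Subgroup.normalizer (D : Set G) → N ⊓ D ≤ N₀ →
        ∀ d ∈ D, N₀.map (MulAut.conj d).toMonoidHom ≤ N₀ := by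
      intro D hD hDN₀ d hd
      rw [hN₀, Subgroup.map_sup, ← hN₀]
      apply sup_le
      · rintro _ ⟨x, hx, rfl⟩
        exact hnormD D A hD hDN₀ hleA d hd x hx
      · rintro _ ⟨x, hx, rfl⟩
        exact hnormD D B hD hDN₀ hleB d hd x hx
    have hle : A ⊔ B ≤ Subgroup.normalizer (N₀ : Set G) := by
      apply sup_le
      · intro a ha
        apply Cfsg.Agent.Lib.Lead.Subnormal.mem_normalizer_of_conj_smul_le
        exact hconj A hNA hleA a ha
      · intro b hb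
        apply Cfsg.Agent.Lib.Lead.Subnormal.mem_normalizer_of_conj_smul_le
        exact hconj B hNB hleB b hb
    rw [htop] at hle
    exact Subgroup.normalizer_eq_top_iff.mp (top_le_iff.mp hle)
  by_cases hN₀bot : N₀ = ⊥
  · -- central case
    have hNAbot : N ⊓ A = ⊥ := by rw [eq_bot_iff, ← hN₀bot]; exact hleA
    have hNBbot : N ⊓ B = ⊥ := by rw [eq_bot_iff, ← hN₀bot]; exact hleB
    have hcentral : N ≤ Subgroup.center G := by
      intro x hx
      have hle : A ⊔ B ≤ Subgroup.centralizer ({x} : Set G) := by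
        apply sup_le
        · intro a ha
          have h1 := hcomm A hNA a ha x hx
          rw [hNAbot, Subgroup.mem_bot] at h1
          rw [Subgroup.mem_centralizer_singleton_iff]
          calc a * x = (a * x * a⁻¹ * x⁻¹) * (x * a) := by group
            _ = x * a := by rw [h1, one_mul]
        · intro b hb
          have h1 := hcomm B hNB b hb x hx
          rw [hNBbot, Subgroup.mem_bot] at h1
          rw [Subgroup.mem_centralizer_singleton_iff]
          calc b * x = (b * x * b⁻¹ * x⁻¹) * (x * b) := by group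
            _ = x * b := by rw [h1, one_mul]
      rw [htop] at hle
      rw [Subgroup.mem_center_iff]
      intro g
      have := Subgroup.mem_centralizer_singleton_iff.mp (hle (Subgroup.mem_top g))
      exact this
    have hSS : ⁅(S : Subgroup G), (S : Subgroup G)⁆ ≤ T := by
      rw [Subgroup.commutator_le]
      intro a ha b hb
      obtain ⟨t₁, ht₁, hn₁⟩ := hST a ha
      obtain ⟨t₂, ht₂, hn₂⟩ := hST b hb
      have hz₁ := hcentral hn₁.1
      have hz₂ := hcentral hn₂.1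
      have ea : a = t₁ * (t₁⁻¹ * a) := by group
      have eb : b = t₂ * (t₂⁻¹ * b) := by group
      have hc1 : ∀ g : G, g * (t₁⁻¹ * a) = (t₁⁻¹ * a) * g := Subgroup.mem_center_iff.mp hz₁
      have hc2 : ∀ g : G, g * (t₂⁻¹ * b) = (t₂⁻¹ * b) * g := Subgroup.mem_center_iff.mp hz₂
      have e : ⁅a, b⁆ = ⁅t₁, t₂⁆ := by
        generalize t₁⁻¹ * a = z₁ at ea hc1
        generalize t₂⁻¹ * b = z₂ at eb hc2
        subst ea eb
        rw [commutatorElement_def, commutatorElement_def]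
        have i1 : (t₁ * z₁)⁻¹ = t₁⁻¹ * z₁⁻¹ := by
          rw [mul_inv_rev]
          have := hc1 t₁⁻¹
          have h' : z₁⁻¹ * t₁⁻¹ = t₁⁻¹ * z₁⁻¹ := by
            have h'' := hc1 t₁
            calc z₁⁻¹ * t₁⁻¹ = (t₁ * z₁)⁻¹ := by group
              _ = (z₁ * t₁)⁻¹ := by rw [h'']
              _ = t₁⁻¹ * z₁⁻¹ := by group
          exact h'
        have i2 : (t₂ * z₂)⁻¹ = t₂⁻¹ * z₂⁻¹ := by
          have h'' := hc2 t₂
          calc (t₂ * z₂)⁻¹ = (z₂ * t₂)⁻¹ := by rw [h'']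
            _ = t₂⁻¹ * z₂⁻¹ := by group
        rw [i1, i2]
        calc t₁ * z₁ * (t₂ * z₂) * (t₁⁻¹ * z₁⁻¹) * (t₂⁻¹ * z₂⁻¹)
            = t₁ * (z₁ * (t₂ * z₂ * t₁⁻¹)) * z₁⁻¹ * (t₂⁻¹ * z₂⁻¹) := by group
          _ = t₁ * ((t₂ * z₂ * t₁⁻¹) * z₁) * z₁⁻¹ * (t₂⁻¹ * z₂⁻¹) := by rw [← hc1]
          _ = t₁ * t₂ * (z₂ * (t₁⁻¹ * t₂⁻¹)) * z₂⁻¹ := by group
          _ = t₁ * t₂ * ((t₁⁻¹ * t₂⁻¹) * z₂) * z₂⁻¹ := by rw [← hc2]
          _ = t₁ * t₂ * t₁⁻¹ * t₂⁻¹ := by group
      rw [e]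
      rw [commutatorElement_def]
      exact T.mul_mem (T.mul_mem (T.mul_mem ht₁ ht₂) (T.inv_mem ht₁)) (T.inv_mem ht₂)
    intro z hz
    exact hSS (center_inf_pResidual_le_commutator S (hcentral hz.1) hz.2 (hNR hz.1))
  · have hN₀eq : N₀ = N := hNmin.2.2 N₀ hN₀norm hN₀N hN₀bot
    have h1 := sup_inf_sylow_of_le_normalizer S (N ⊓ A) (N ⊓ B) (hNsn.inf hA) (hNsn.inf hB)
      (le_trans (le_inf (by rw [Subgroup.normalizer_eq_top]; exact le_top) (inf_le_left.trans hNB))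
        (normalizer_inf_le_normalizer_inf N B))
    rw [← hN₀, hN₀eq] at h1
    refine h1.trans ?_
    rw [hT]
    exact sup_le_sup (inf_le_inf_right _ inf_le_right) (inf_le_inf_right _ inf_le_right)

/-- S3028 -/
theorem sylow_join {G : Type u} [Group G] [Finite G] {p : ℕ} [Fact p.Prime] (S : Sylow p G)
    (A B : Subgroup G) (hA : A.IsSubnormal) (hB : B.IsSubnormal) :
    (A ⊔ B) ⊓ (S : Subgroup G) = (A ⊓ (S : Subgroup G)) ⊔ (B ⊓ (S : Subgroup G)) :=
  le_antisymm (sylow_join_aux _ G rfl S A B hA hB)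
    (sup_le (inf_le_inf_right _ le_sup_left) (inf_le_inf_right _ le_sup_right))

end main

end Cfsg.Agent.Lib.Helper7
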