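import Cfsg.Agent.Lib.Helper7.J2PermData

/-!
# The kernel check of the closure of the first level of the stabiliser chain of `PJ2`
-/

set_option autoImplicit false

namespace Cfsg.Agent.Lib.Helper7.J2Perm

set_option maxRecDepth 100000 in
theorem chk_clos0 : closD S0 U0 U1 U2 pos0 c0a c0b 0 4 315 160 12 = 0 :=
  Nat.eq_of_beq_eq_true (by decide +kernel)

end Cfsg.Agent.Lib.Helper7.J2Perm
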