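import Cfsg.Agent.Lib.Helper7.J2PermChk
import Cfsg.Agent.Lib.Helper7.J2PermChk0
import Cfsg.Agent.Lib.Lead.J2.PermGrp

/-!
# The order of the group `PJ2` on 315 points, and its stabiliser chain

`card_PJ2 : Nat.card PJ2 = 604800`, the base property `eq_one_of_fix_base` (an element of `PJ2`
fixing the points `0`, `74` and `1` is trivial), the point stabiliser `H1 = gen S1 2` of order 1920 and
the normal form of the elements.
-/

set_option autoImplicit false

namespace Cfsg.Agent.Lib.Helper7.J2Perm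

open Cfsg.Agent.Lib.Helper6.SS Cfsg.Agent.J2

/-- `p` is the packed form of the list `l`, from position `k` on -/
def repL (p : ℕ) : List ℕ → ℕ → Bool
  | [], _ => true
  | x :: xs, k => Nat.beq (lk p (12 * k)) (12 * x) && repL p xs (k + 1)

theorem repL_sound {p : ℕ} : ∀ (l : List ℕ) (k : ℕ), repL p l k = true →
    ∀ i (hi : i < l.length), lk p (12 * (k + i)) = 12 * l[i]
  | [], _, _, i, hi => by simp at hi
  | x :: xs, k, h, i, hi => by
    rw [repL, Bool.and_eq_true] at h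
    cases i with
    | zero => simpa using Nat.eq_of_beq_eq_true h.1
    | succ i =>
      have := repL_sound xs (k + 1) h.2 i (by simpa using hi)
      rw [List.getElem_cons_succ, ← this]
      congr 2
      omega

theorem rep_toPerm {p : ℕ} {l : List ℕ} (hv : Valid 315 l) (h : repL p l 0 = true) :
    Rep p (toPerm 315 l) := by
  intro i
  have hi : (i : ℕ) < l.length := by rw [hv.len]; exact i.2
  have := repL_sound l 0 h i hi
  rw [Nat.zero_add] at this
  rw [this, toPerm_apply hv, List.getD_eq_getElem _ _ hi]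

set_option maxRecDepth 100000 in
theorem rep_S0_0 : Rep (S0 0) (toPerm 315 g24) := rep_toPerm valid_g24 (by decide +kernel)
set_option maxRecDepth 100000 in
theorem rep_S0_1 : Rep (S0 1) (toPerm 315 g77) := rep_toPerm valid_g77 (by decide +kernel)
set_option maxRecDepth 100000 in
theorem rep_S0_2 : Rep (S0 2) (toPerm 315 g165) := rep_toPerm valid_g165 (by decide +kernel)
set_option maxRecDepth 100000 in
theorem rep_S0_3 : Rep (S0 3) (toPerm 315 g202) := rep_toPerm valid_g202 (by decide +kernel)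

theorem good_S0 : ∀ a < 4, Good (S0 a) := by
  intro a ha
  interval_cases a
  · exact rep_S0_0.good
  · exact rep_S0_1.good
  · exact rep_S0_2.good
  · exact rep_S0_3.good

theorem gen_S0 : gen S0 4 = PJ2 := by
  rw [gen, PJ2]
  congr 1
  ext σ
  simp only [Set.mem_setOf_eq, Set.mem_insert_iff, Set.mem_singleton_iff]
  constructor
  · rintro ⟨a, ha, rfl⟩
    interval_cases a
    · left; exact rep_S0_0.toP_eq
    · right; left; exact rep_S0_1.toP_eq
    · right; right; left; exact rep_S0_2.toP_eq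
    · right; right; right; exact rep_S0_3.toP_eq
  · rintro (rfl | rfl | rfl | rfl)
    · exact ⟨0, by norm_num, rep_S0_0.toP_eq.symm⟩
    · exact ⟨1, by norm_num, rep_S0_1.toP_eq.symm⟩
    · exact ⟨2, by norm_num, rep_S0_2.toP_eq.symm⟩
    · exact ⟨3, by norm_num, rep_S0_3.toP_eq.symm⟩

/-! ### the three levels -/

theorem pre0 : toP (U0 0) = 1 ∧ (∀ j < 315, Good (U0 j) ∧ toP (U0 j) ∈ gen S0 4) ∧
      (∀ a' < 2, Good (S1 a')) ∧ gen S1 2 ≤ gen S0 4 ∧
      (∀ κ ∈ gen S1 2, κ (0 : Fin 315) = 0) :=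
  level_pre S0 U0 S1 4 315 314 2 tr0 cert0 0 ⟨0, by norm_num⟩ rfl rfl (by norm_num)
  good_S0 chk_tree0 chk_gens0

theorem pre1 : toP (U1 0) = 1 ∧ (∀ j < 160, Good (U1 j) ∧ toP (U1 j) ∈ gen S1 2) ∧
      (∀ a' < 2, Good (S2 a')) ∧ gen S2 2 ≤ gen S1 2 ∧
      (∀ κ ∈ gen S2 2, κ (74 : Fin 315) = 74) :=
  level_pre S1 U1 S2 2 160 159 2 tr1 cert1 888 ⟨74, by norm_num⟩ rfl rfl
  (by norm_num) pre0.2.2.1 chk_tree1 chk_gens1

theorem pre2 : toP (U2 0) = 1 ∧ (∀ j < 12, Good (U2 j) ∧ toP (U2 j) ∈ gen S2 2) ∧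
      (∀ a' < 0, Good (S3 a')) ∧ gen S3 0 ≤ gen S2 2 ∧
      (∀ κ ∈ gen S3 0, κ (1 : Fin 315) = 1) :=
  level_pre S2 U2 S3 2 12 11 0 tr2 0 12 ⟨1, by norm_num⟩ rfl rfl
  (by norm_num) pre1.2.2.1 chk_tree2 chk_gens2

theorem good_Tid (K : Subgroup (Equiv.Perm (Fin 315))) : ∀ i < 1, Good (Tid i) ∧ toP (Tid i) ∈ K := by
  intro i _
  have h := rep_one_of_d10 chk_id
  exact ⟨h.good, by rw [Tid, h.toP_eq]; exact K.one_mem⟩

theorem card2 : (∀ g ∈ gen S2 2, ∃ j < 12, ∃ κ ∈ gen S3 0, g = toP (U2 j) * κ) ∧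
      Nat.card (gen S2 2) = 12 * Nat.card (gen S3 0) ∧
      (∀ g ∈ gen S2 2, g (1 : Fin 315) = 1 → g ∈ gen S3 0) :=
  level_card S2 U2 S3 Tid Tid 2 12 0 1 1 pos2 c2a c2b 12 ⟨1, by norm_num⟩ rfl
  (by norm_num) (by norm_num) (by norm_num) pre1.2.2.1 pre2.1 pre2.2.1 pre2.2.2.2.1 pre2.2.2.2.2
  (good_Tid _) (good_Tid _) chk_pos2 chk_clos2

theorem card1 : (∀ g ∈ gen S1 2, ∃ j < 160, ∃ κ ∈ gen S2 2, g = toP (U1 j) * κ) ∧
      Nat.card (gen S1 2) = 160 * Nat.card (gen S2 2) ∧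
      (∀ g ∈ gen S1 2, g (74 : Fin 315) = 74 → g ∈ gen S2 2) :=
  level_card S1 U1 S2 U2 Tid 2 160 2 12 1 pos1 c1a c1b 888 ⟨74, by norm_num⟩ rfl
  (by norm_num) (by norm_num) (by norm_num) pre0.2.2.1 pre1.1 pre1.2.1 pre1.2.2.2.1 pre1.2.2.2.2
  pre2.2.1 (good_Tid _) chk_pos1 chk_clos1

theorem card0 : (∀ g ∈ gen S0 4, ∃ j < 315, ∃ κ ∈ gen S1 2, g = toP (U0 j) * κ) ∧
      Nat.card (gen S0 4) = 315 * Nat.card (gen S1 2) ∧
      (∀ g ∈ gen S0 4, g (0 : Fin 315) = 0 → g ∈ gen S1 2) :=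
  level_card S0 U0 S1 U1 U2 4 315 2 160 12 pos0 c0a c0b 0 ⟨0, by norm_num⟩ rfl
  (by norm_num) (by norm_num) (by norm_num) good_S0 pre0.1 pre0.2.1 pre0.2.2.2.1 pre0.2.2.2.2
  pre1.2.1 (fun i hi => ⟨(pre2.2.1 i hi).1, pre1.2.2.2.1 (pre2.2.1 i hi).2⟩) chk_pos0 chk_clos0

/-- the stabiliser of the point `0` in `PJ2` -/
noncomputable def H1 : Subgroup (Equiv.Perm (Fin 315)) := gen S1 2

/-- the stabiliser of the points `0` and `74` in `PJ2` -/
noncomputable def H2 : Subgroup (Equiv.Perm (Fin 315)) := gen S2 2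

theorem card_H2 : Nat.card H2 = 12 := by
  have := card2.2.1
  rw [gen_zero, Subgroup.card_bot] at this
  exact this

theorem card_H1 : Nat.card H1 = 1920 := by
  have := card1.2.1
  rw [show gen S2 2 = H2 from rfl, card_H2] at this
  exact this

/-- **the order of `PJ2`** -/
theorem card_PJ2 : Nat.card PJ2 = 604800 := by
  have := card0.2.1
  rw [show gen S1 2 = H1 from rfl, card_H1, gen_S0] at this
  exact this

theorem H1_le : H1 ≤ PJ2 := by
  have := pre0.2.2.2.1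
  rwa [gen_S0] at this

theorem H2_le : H2 ≤ H1 := pre1.2.2.2.1

theorem mem_H1_iff {g : Equiv.Perm (Fin 315)} (hg : g ∈ PJ2) : g ∈ H1 ↔ g 0 = 0 := by
  constructor
  · intro h; exact pre0.2.2.2.2 g h
  · intro h
    have := card0.2.2 g (by rw [gen_S0]; exact hg)
    exact this h

theorem mem_H2_iff {g : Equiv.Perm (Fin 315)} (hg : g ∈ H1) : g ∈ H2 ↔ g 74 = 74 := by
  constructor
  · intro h; exact pre1.2.2.2.2 g h
  · intro h; exact card1.2.2 g hg h

/-- **the base property**: an element of `PJ2` fixing `0`, `74` and `1` is trivial -/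
theorem eq_one_of_fix_base {g : Equiv.Perm (Fin 315)} (hg : g ∈ PJ2) (h0 : g 0 = 0)
    (h74 : g 74 = 74) (h1 : g 1 = 1) : g = 1 := by
  have m1 : g ∈ H1 := (mem_H1_iff hg).2 h0
  have m2 : g ∈ H2 := (mem_H2_iff m1).2 h74
  have m3 := card2.2.2 g m2 h1
  rw [gen_zero, Subgroup.mem_bot] at m3
  exact m3

end Cfsg.Agent.Lib.Helper7.J2Perm
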