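import Mathlib

/-!
# Groups of order 64 with a fixed-point-free automorphism of order 3 (S3157), part A

Basic facts on a fixed-point-free automorphism `ρ` with `ρ³ = 1` of a finite group.
-/

set_option autoImplicit false

namespace Cfsg.Agent.Lib.Helper7.T64

variable {T : Type*} [Group T]

/-- `ρ` is a fixed-point-free automorphism with `ρ³ = 1` -/
structure Fpf (ρ : MulAut T) : Prop where
  h3 : ∀ y : T, ρ (ρ (ρ y)) = y
  fp : ∀ y : T, ρ y = y → y = 1

namespace Fpf

variable {ρ : MulAut T}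

theorem inj (h : Fpf ρ) : Function.Injective (fun y : T => y⁻¹ * ρ y) := by
  intro y w hyw
  simp only at hyw
  have h1 : ρ (y * w⁻¹) = y * w⁻¹ := by
    rw [map_mul, map_inv]
    have e : ρ y = y * (w⁻¹ * ρ w) := by rw [← hyw]; group
    rw [e]; group
  have h2 := h.fp _ h1
  exact mul_inv_eq_one.mp h2

theorem surj [Finite T] (h : Fpf ρ) : Function.Surjective (fun y : T => y⁻¹ * ρ y) :=
  Finite.injective_iff_surjective.mp h.inj

/-- `y · ρ y · ρ² y = 1` -/
theorem prod_eq_one [Finite T] (h : Fpf ρ) (y : T) : y * ρ y * ρ (ρ y) = 1 := by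
  obtain ⟨w, rfl⟩ := h.surj y
  simp only [map_mul, map_inv, h.h3]
  group

/-- `ρ² y · ρ y · y = 1` -/
theorem prod_eq_one' [Finite T] (h : Fpf ρ) (y : T) : ρ (ρ y) * ρ y * y = 1 := by
  have h2 := h.prod_eq_one y⁻¹
  simp only [map_inv] at h2
  have h3 := congrArg (fun t => t⁻¹) h2
  simpa [mul_assoc] using h3

/-- `y` and `ρ y` commute -/
theorem comm_rho [Finite T] (h : Fpf ρ) (y : T) : y * ρ y = ρ y * y := by
  have e1 : y * ρ y = (ρ (ρ y))⁻¹ := eq_inv_of_mul_eq_one_left (h.prod_eq_one y)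
  have e2 : ρ y * y = (ρ (ρ y))⁻¹ := by
    apply eq_inv_of_mul_eq_one_right
    rw [← mul_assoc]
    exact h.prod_eq_one' y
  rw [e1, e2]

/-- `ρ² y = (y · ρ y)⁻¹` -/
theorem rho_rho [Finite T] (h : Fpf ρ) (y : T) : ρ (ρ y) = (y * ρ y)⁻¹ :=
  eq_inv_of_mul_eq_one_right (h.prod_eq_one y)

theorem rho_eq_one (h : Fpf ρ) {y : T} (hy : ρ y = 1) : y = 1 := by
  have : ρ y = ρ 1 := by rw [hy, map_one]
  exact ρ.injective this

theorem rho_ne_one (h : Fpf ρ) {y : T} (hy : y ≠ 1) : ρ y ≠ 1 := fun h1 => hy (h.rho_eq_one h1)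

/-- `ρ² y = y` implies `y = 1` -/
theorem fp2 (h : Fpf ρ) {y : T} (hy : ρ (ρ y) = y) : y = 1 := by
  apply h.fp
  have := congrArg ρ hy
  rw [h.h3] at this
  exact this.symm

/-- a `ρ`-invariant subgroup containing `y⁻¹ ρ(y)` contains `y` -/
theorem mem_of_inv_mul_mem [Finite T] (h : Fpf ρ) (N : Subgroup T) (hN : ∀ n ∈ N, ρ n ∈ N)
    (y : T) (hy : y⁻¹ * ρ y ∈ N) : y ∈ N := by
  let f : N → N := fun n => ⟨(n : T)⁻¹ * ρ n, N.mul_mem (N.inv_mem n.2) (hN n n.2)⟩
  have hf : Function.Injective f := by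
    intro a b hab
    apply Subtype.ext
    apply h.inj
    exact congrArg Subtype.val hab
  obtain ⟨n, hn⟩ := (Finite.injective_iff_surjective.mp hf) ⟨_, hy⟩
  have e : (n : T)⁻¹ * ρ n = y⁻¹ * ρ y := congrArg Subtype.val hn
  have e2 : (n : T) = y := h.inj e
  rw [← e2]; exact n.2

/-- a `ρ`-invariant subgroup has order `≡ 1 mod 3` -/
theorem card_modEq [Finite T] (h : Fpf ρ) (H : Subgroup T) (hH : ∀ n ∈ H, ρ n ∈ H) :
    Nat.card H ≡ 1 [MOD 3] := by
  classical
  haveI : Fintype H := Fintype.ofFinite H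
  haveI : Fact (Nat.Prime 3) := ⟨by norm_num⟩
  let f : Function.End H := fun n => ⟨ρ n, hH n n.2⟩
  have hf : f ^ 3 ^ 1 = 1 := by
    rw [pow_one]
    funext n
    apply Subtype.ext
    change ρ (ρ (ρ (n : T))) = n
    exact h.h3 _
  have h1 := Equiv.Perm.card_fixedPoints_modEq (p := 3) (n := 1) hf
  have hfix : Function.fixedPoints f = {1} := by
    ext n
    rw [Function.mem_fixedPoints, Set.mem_singleton_iff]
    constructor
    · intro hn
      have : ρ (n : T) = n := congrArg Subtype.val hn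
      exact Subtype.ext (h.fp _ this)
    · rintro rfl
      apply Subtype.ext
      change ρ ((1 : H) : T) = ((1 : H) : T)
      simp
  rw [Nat.card_eq_fintype_card]
  refine h1.trans ?_
  have : Fintype.card (Function.fixedPoints f) = 1 := by
    rw [← Nat.card_eq_fintype_card, hfix]
    simp
  rw [this]

end Fpf

end Cfsg.Agent.Lib.Helper7.T64
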