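import Mathlib
import Cfsg.Agent.Lib.Helper7.T64A

/-!
# Groups of order 64 with a fixed-point-free automorphism of order 3 (S3157), part B

Small index of the centre forces commutativity; quotients; the centre has order 4, the group has
class two and the squares are central.
-/

set_option autoImplicit false

namespace Cfsg.Agent.Lib.Helper7.T64

open scoped commutatorElement

variable {T : Type*} [Group T]

theorem aut_mem_center_iff (ρ : MulAut T) (y : T) : ρ y ∈ Subgroup.center T ↔ y ∈ Subgroup.center T := by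
  rw [Subgroup.mem_center_iff, Subgroup.mem_center_iff]
  constructor
  · intro hy g
    have := hy (ρ g)
    rw [← map_mul, ← map_mul] at this
    exact ρ.injective this
  · intro hy g
    obtain ⟨g', rfl⟩ := ρ.surjective g
    rw [← map_mul, ← map_mul, hy g']

theorem arith_two {m n : ℕ} (h : m * n ∣ 4) (hm1 : m ≠ 1) (hn1 : n ≠ 1) : m = 2 := by
  have hm : m ∣ 4 := Dvd.dvd.trans (Dvd.intro _ rfl) h
  have hn : n ∣ 4 := Dvd.dvd.trans (Dvd.intro_left _ rfl) h
  have hm4 : m ≤ 4 := Nat.le_of_dvd (by norm_num) hm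
  have hn4 : n ≤ 4 := Nat.le_of_dvd (by norm_num) hn
  interval_cases m <;> interval_cases n <;> simp_all

namespace Fpf

variable {ρ : MulAut T}

/-- if the centre has index dividing 4 the group is abelian -/
theorem comm_of_index_center [Finite T] (h : Fpf ρ) (hidx : (Subgroup.center T).index ∣ 4) :
    ∀ a b : T, a * b = b * a := by
  by_contra hne
  push_neg at hne
  obtain ⟨y, b, hyb⟩ := hne
  have hyZ : y ∉ Subgroup.center T := by
    intro hy
    exact hyb ((Subgroup.mem_center_iff.1 hy b).symm)
  have hZle : Subgroup.center T ≤ Subgroup.centralizer {y} := Subgroup.center_le_centralizer _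
  have hy : y ∈ Subgroup.centralizer {y} := Subgroup.mem_centralizer_singleton_iff.2 rfl
  have hρy : ρ y ∈ Subgroup.centralizer {y} :=
    Subgroup.mem_centralizer_singleton_iff.2 (h.comm_rho y).symm
  have hne_top : Subgroup.centralizer {y} ≠ ⊤ := by
    intro htop
    have : b ∈ Subgroup.centralizer {y} := by rw [htop]; trivial
    exact hyb (Subgroup.mem_centralizer_singleton_iff.1 this).symm
  have hmul := Subgroup.relIndex_mul_index hZle
  have h1 : (Subgroup.centralizer {y}).index ≠ 1 := fun h1 => hne_top (Subgroup.index_eq_one.1 h1)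
  have h2 : (Subgroup.center T).relIndex (Subgroup.centralizer {y}) ≠ 1 := by
    intro h2
    exact hyZ (Subgroup.relIndex_eq_one.1 h2 hy)
  have hrel : (Subgroup.center T).relIndex (Subgroup.centralizer {y}) = 2 := by
    rw [← hmul] at hidx
    exact arith_two hidx h2 h1
  have hK : ((Subgroup.center T).subgroupOf (Subgroup.centralizer {y})).index = 2 := hrel
  have hmem := Subgroup.mul_mem_iff_of_index_two hK
    (a := (⟨y, hy⟩ : Subgroup.centralizer {y})⁻¹) (b := ⟨ρ y, hρy⟩)
  have hn1 : (⟨y, hy⟩ : Subgroup.centralizer {y})⁻¹ ∉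
      (Subgroup.center T).subgroupOf (Subgroup.centralizer {y}) := by
    rw [Subgroup.inv_mem_iff, Subgroup.mem_subgroupOf]
    exact hyZ
  have hn2 : (⟨ρ y, hρy⟩ : Subgroup.centralizer {y}) ∉
      (Subgroup.center T).subgroupOf (Subgroup.centralizer {y}) := by
    rw [Subgroup.mem_subgroupOf]
    intro hc
    exact hyZ ((aut_mem_center_iff ρ y).1 hc)
  have hin := hmem.2 (iff_of_false hn1 hn2)
  rw [Subgroup.mem_subgroupOf] at hin
  have hin' : y⁻¹ * ρ y ∈ Subgroup.center T := hin
  exact hyZ (h.mem_of_inv_mul_mem _ (fun n hn => (aut_mem_center_iff ρ n).2 hn) y hin')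

/-- the induced automorphism of a quotient by an invariant normal subgroup -/
noncomputable def quot (ρ : MulAut T) (N : Subgroup T) [N.Normal] (hN : N.map (ρ : T →* T) = N) :
    MulAut (T ⧸ N) :=
  QuotientGroup.congr N N ρ hN

theorem quot_mk (ρ : MulAut T) (N : Subgroup T) [N.Normal] (hN : N.map (ρ : T →* T) = N) (y : T) :
    quot ρ N hN (QuotientGroup.mk y) = QuotientGroup.mk (ρ y) :=
  QuotientGroup.congr_mk N N ρ hN y

theorem quot_fpf [Finite T] (h : Fpf ρ) (N : Subgroup T) [N.Normal] (hN : N.map (ρ : T →* T) = N) :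
    Fpf (quot ρ N hN) := by
  have hinv : ∀ n ∈ N, ρ n ∈ N := by
    intro n hn
    rw [← hN]
    exact Subgroup.mem_map_of_mem _ hn
  constructor
  · intro y
    induction y using QuotientGroup.induction_on with
    | H y => rw [quot_mk, quot_mk, quot_mk, h.h3]
  · intro y
    induction y using QuotientGroup.induction_on with
    | H y =>
      rw [quot_mk]
      intro hy
      have h1 : y⁻¹ * ρ y ∈ N := QuotientGroup.eq.1 hy.symm
      have h2 := h.mem_of_inv_mul_mem N hinv y h1
      exact (QuotientGroup.eq_one_iff y).2 h2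

end Fpf

theorem map_center_eq (ρ : MulAut T) : (Subgroup.center T).map (ρ : T →* T) = Subgroup.center T := by
  ext y
  constructor
  · rintro ⟨z, hz, rfl⟩
    exact (aut_mem_center_iff ρ z).2 hz
  · intro hy
    obtain ⟨z, rfl⟩ := ρ.surjective y
    exact ⟨z, (aut_mem_center_iff ρ z).1 hy, rfl⟩

/-- divisors of 64 that are `≡ 1 mod 3` -/
theorem dvd_sixty_four_modEq {n : ℕ} (hd : n ∣ 64) (hm : n ≡ 1 [MOD 3]) :
    n = 1 ∨ n = 4 ∨ n = 16 ∨ n = 64 := by
  have hle : n ≤ 64 := Nat.le_of_dvd (by norm_num) hd
  unfold Nat.ModEq at hm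
  interval_cases n <;> simp_all <;> omega

/-- the standing hypotheses -/
structure Hyp64 (T : Type*) [Group T] (ρ : MulAut T) : Prop where
  fin : Finite T
  card : Nat.card T = 64
  fpf : Fpf ρ
  nab : ¬ ∀ a b : T, a * b = b * a

namespace Hyp64

variable {ρ : MulAut T}

theorem isPGroup (h : Hyp64 T ρ) : IsPGroup 2 T := by
  haveI := h.fin
  haveI : Fact (Nat.Prime 2) := ⟨Nat.prime_two⟩
  exact IsPGroup.of_card (n := 6) (by rw [h.card]; norm_num)

theorem center_ne_top (h : Hyp64 T ρ) : Subgroup.center T ≠ ⊤ := by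
  intro htop
  apply h.nab
  intro a b
  have : b ∈ Subgroup.center T := by rw [htop]; trivial
  exact Subgroup.mem_center_iff.1 this a

/-- the centre has order 4 -/
theorem card_center (h : Hyp64 T ρ) : Nat.card (Subgroup.center T) = 4 := by
  haveI := h.fin
  haveI : Fact (Nat.Prime 2) := ⟨Nat.prime_two⟩
  have hd : Nat.card (Subgroup.center T) ∣ 64 := by
    rw [← h.card]; exact Subgroup.card_subgroup_dvd_card _
  have hm := h.fpf.card_modEq (Subgroup.center T) (fun n hn => (aut_mem_center_iff ρ n).2 hn)
  haveI : Nontrivial T := by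
    rw [← Finite.one_lt_card_iff_nontrivial, h.card]; norm_num
  have hbot : Subgroup.center T ≠ ⊥ := (ne_of_gt (h.isPGroup.bot_lt_center))
  rcases dvd_sixty_four_modEq hd hm with h1 | h4 | h16 | h64
  · exact absurd (Subgroup.card_eq_one.1 h1) hbot
  · exact h4
  · exfalso
    apply h.nab
    apply h.fpf.comm_of_index_center
    have := Subgroup.card_mul_index (Subgroup.center T)
    rw [h16, h.card] at this
    have : (Subgroup.center T).index = 4 := by omega
    rw [this]
  · exfalso
    apply h.center_ne_top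
    apply (Subgroup.card_eq_iff_eq_top _).1
    rw [h64, h.card]

end Hyp64

end Cfsg.Agent.Lib.Helper7.T64
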