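import Mathlib
import Cfsg.Agent.Lib.Helper7.T64B

/-!
# Groups of order 64 with a fixed-point-free automorphism of order 3 (S3157), part C

Class two, exponent of the centre, central squares, twisted bilinearity of the commutator.
-/

set_option autoImplicit false

namespace Cfsg.Agent.Lib.Helper7.T64

open scoped commutatorElement

variable {T : Type*} [Group T]

section class2

theorem c2_mul_right (hc : ∀ a b : T, ⁅a, b⁆ ∈ Subgroup.center T) (a b c : T) :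
    ⁅a, b * c⁆ = ⁅a, b⁆ * ⁅a, c⁆ := by
  have h1 := Subgroup.mem_center_iff.1 (hc a c) b
  calc ⁅a, b * c⁆ = ⁅a, b⁆ * (b * ⁅a, c⁆) * b⁻¹ := by
        simp only [commutatorElement_def]; group
    _ = ⁅a, b⁆ * (⁅a, c⁆ * b) * b⁻¹ := by rw [h1]
    _ = ⁅a, b⁆ * ⁅a, c⁆ := by group

theorem c2_mul_left (hc : ∀ a b : T, ⁅a, b⁆ ∈ Subgroup.center T) (a b c : T) :
    ⁅a * b, c⁆ = ⁅a, c⁆ * ⁅b, c⁆ := by
  have h1 := Subgroup.mem_center_iff.1 (hc b c) a
  have h2 := Subgroup.mem_center_iff.1 (hc b c) ⁅a, c⁆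
  calc ⁅a * b, c⁆ = (a * ⁅b, c⁆) * a⁻¹ * ⁅a, c⁆ := by
        simp only [commutatorElement_def]; group
    _ = (⁅b, c⁆ * a) * a⁻¹ * ⁅a, c⁆ := by rw [h1]
    _ = ⁅b, c⁆ * ⁅a, c⁆ := by group
    _ = ⁅a, c⁆ * ⁅b, c⁆ := h2.symm

/-- `v ↦ ⁅u, v⁆` as a homomorphism -/
def c2R (hc : ∀ a b : T, ⁅a, b⁆ ∈ Subgroup.center T) (u : T) : T →* T where
  toFun v := ⁅u, v⁆
  map_one' := by simp
  map_mul' := c2_mul_right hc u

/-- `u ↦ ⁅u, v⁆` as a homomorphism -/
def c2L (hc : ∀ a b : T, ⁅a, b⁆ ∈ Subgroup.center T) (v : T) : T →* T where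
  toFun u := ⁅u, v⁆
  map_one' := by simp
  map_mul' := fun a b => c2_mul_left hc a b v

@[simp] theorem c2R_apply (hc : ∀ a b : T, ⁅a, b⁆ ∈ Subgroup.center T) (u v : T) :
    c2R hc u v = ⁅u, v⁆ := rfl

@[simp] theorem c2L_apply (hc : ∀ a b : T, ⁅a, b⁆ ∈ Subgroup.center T) (u v : T) :
    c2L hc v u = ⁅u, v⁆ := rfl

theorem c2_inv_left (hc : ∀ a b : T, ⁅a, b⁆ ∈ Subgroup.center T) (a c : T) :
    ⁅a⁻¹, c⁆ = ⁅a, c⁆⁻¹ := map_inv (c2L hc c) a

theorem c2_inv_right (hc : ∀ a b : T, ⁅a, b⁆ ∈ Subgroup.center T) (a c : T) :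
    ⁅a, c⁻¹⁆ = ⁅a, c⁆⁻¹ := map_inv (c2R hc a) c

/-- `g h = ⁅g, h⁆ h g` -/
theorem mul_eq_comm_mul (g k : T) : g * k = ⁅g, k⁆ * k * g := by
  simp only [commutatorElement_def]; group

end class2

namespace Hyp64

variable {ρ : MulAut T}

theorem card_quot (h : Hyp64 T ρ) : Nat.card (T ⧸ Subgroup.center T) = 16 := by
  have := Subgroup.card_mul_index (Subgroup.center T)
  rw [h.card_center, h.card, Subgroup.index_eq_card] at this
  omega

/-- the central quotient is abelian -/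
theorem quot_comm (h : Hyp64 T ρ) : ∀ a b : T ⧸ Subgroup.center T, a * b = b * a := by
  haveI := h.fin
  haveI : Fact (Nat.Prime 2) := ⟨Nat.prime_two⟩
  have hfpf := h.fpf.quot_fpf (Subgroup.center T) (map_center_eq ρ)
  apply hfpf.comm_of_index_center
  have hQ := h.card_quot
  have hP : IsPGroup 2 (T ⧸ Subgroup.center T) :=
    IsPGroup.of_card (n := 4) (by rw [hQ]; norm_num)
  haveI : Nontrivial (T ⧸ Subgroup.center T) := by
    rw [← Finite.one_lt_card_iff_nontrivial, hQ]; norm_num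
  have hd : Nat.card (Subgroup.center (T ⧸ Subgroup.center T)) ∣ 16 := by
    rw [← hQ]; exact Subgroup.card_subgroup_dvd_card _
  have hm := hfpf.card_modEq (Subgroup.center (T ⧸ Subgroup.center T))
    (fun n hn => (aut_mem_center_iff _ n).2 hn)
  have hbot : Subgroup.center (T ⧸ Subgroup.center T) ≠ ⊥ := ne_of_gt hP.bot_lt_center
  have hmul := Subgroup.card_mul_index (Subgroup.center (T ⧸ Subgroup.center T))
  rw [hQ] at hmul
  have hle : Nat.card (Subgroup.center (T ⧸ Subgroup.center T)) ≤ 16 :=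
    Nat.le_of_dvd (by norm_num) hd
  rcases dvd_sixty_four_modEq (hd.trans (by norm_num)) hm with h1 | h4 | h16 | h64
  · exact absurd (Subgroup.card_eq_one.1 h1) hbot
  · rw [h4] at hmul
    have : (Subgroup.center (T ⧸ Subgroup.center T)).index = 4 := by omega
    rw [this]
  · rw [h16] at hmul
    have : (Subgroup.center (T ⧸ Subgroup.center T)).index = 1 := by omega
    rw [this]; norm_num
  · omega

/-- class two -/
theorem comm_mem_center (h : Hyp64 T ρ) (g k : T) : ⁅g, k⁆ ∈ Subgroup.center T := by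
  rw [← QuotientGroup.eq_one_iff, commutatorElement_def]
  simp only [QuotientGroup.mk_mul, QuotientGroup.mk_inv]
  rw [h.quot_comm (QuotientGroup.mk g) (QuotientGroup.mk k)]
  group

/-- the centre has exponent two -/
theorem center_sq (h : Hyp64 T ρ) {z : T} (hz : z ∈ Subgroup.center T) : z * z = 1 := by
  haveI := h.fin
  haveI : Fact (Nat.Prime 2) := ⟨Nat.prime_two⟩
  let K : Subgroup T :=
    { carrier := {z | z ∈ Subgroup.center T ∧ z * z = 1}
      mul_mem' := by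
        rintro a b ⟨ha, ha2⟩ ⟨hb, hb2⟩
        refine ⟨Subgroup.mul_mem _ ha hb, ?_⟩
        have := Subgroup.mem_center_iff.1 hb a
        calc a * b * (a * b) = a * (b * a) * b := by group
          _ = a * (a * b) * b := by rw [← this]
          _ = (a * a) * (b * b) := by group
          _ = 1 := by rw [ha2, hb2, one_mul]
      one_mem' := ⟨Subgroup.one_mem _, by simp⟩
      inv_mem' := by
        rintro a ⟨ha, ha2⟩
        refine ⟨Subgroup.inv_mem _ ha, ?_⟩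
        rw [← mul_inv_rev, ha2, inv_one] }
  have hKle : K ≤ Subgroup.center T := fun a ha => ha.1
  have hKinv : ∀ n ∈ K, ρ n ∈ K := by
    rintro n ⟨hn, hn2⟩
    exact ⟨(aut_mem_center_iff ρ n).2 hn, by rw [← map_mul, hn2, map_one]⟩
  have hm := h.fpf.card_modEq K hKinv
  have hd : Nat.card K ∣ 4 := by
    rw [← h.card_center]; exact Subgroup.card_dvd_of_le hKle
  have h2 : 2 ∣ Nat.card (Subgroup.center T) := by rw [h.card_center]; norm_num
  obtain ⟨w, hw⟩ := exists_prime_orderOf_dvd_card' 2 h2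
  have hwK : (w : T) ∈ K := by
    refine ⟨w.2, ?_⟩
    have := pow_orderOf_eq_one w
    rw [hw, pow_two] at this
    exact congrArg Subtype.val this
  have hw1 : (w : T) ≠ 1 := by
    intro h1
    have : w = 1 := Subtype.ext h1
    rw [this, orderOf_one] at hw
    norm_num at hw
  have hK4 : Nat.card K = 4 := by
    have hle : Nat.card K ≤ 4 := Nat.le_of_dvd (by norm_num) hd
    have hne1 : Nat.card K ≠ 1 := by
      intro h1
      have := Subgroup.card_eq_one.1 h1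
      rw [this] at hwK
      exact hw1 (Subgroup.mem_bot.1 hwK)
    unfold Nat.ModEq at hm
    interval_cases (Nat.card K) <;> simp_all
  have hKeq : K = Subgroup.center T := by
    apply Subgroup.eq_of_le_of_card_ge hKle
    rw [hK4, h.card_center]
  have : z ∈ K := by rw [hKeq]; exact hz
  exact this.2

theorem comm_sq (h : Hyp64 T ρ) (g k : T) : ⁅g, k⁆ * ⁅g, k⁆ = 1 :=
  h.center_sq (h.comm_mem_center g k)

theorem comm_symm (h : Hyp64 T ρ) (g k : T) : ⁅g, k⁆ = ⁅k, g⁆ := by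
  rw [← commutatorElement_inv k g]
  exact (eq_inv_of_mul_eq_one_left (h.comm_sq k g)).symm

theorem comm_mul_right (h : Hyp64 T ρ) (a b c : T) : ⁅a, b * c⁆ = ⁅a, b⁆ * ⁅a, c⁆ :=
  c2_mul_right h.comm_mem_center a b c

theorem comm_mul_left (h : Hyp64 T ρ) (a b c : T) : ⁅a * b, c⁆ = ⁅a, c⁆ * ⁅b, c⁆ :=
  c2_mul_left h.comm_mem_center a b c

theorem comm_inv_right (h : Hyp64 T ρ) (a c : T) : ⁅a, c⁻¹⁆ = ⁅a, c⁆ := by
  rw [c2_inv_right h.comm_mem_center]
  exact (eq_inv_of_mul_eq_one_left (h.comm_sq a c)).symm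

theorem comm_inv_left (h : Hyp64 T ρ) (a c : T) : ⁅a⁻¹, c⁆ = ⁅a, c⁆ := by
  rw [c2_inv_left h.comm_mem_center]
  exact (eq_inv_of_mul_eq_one_left (h.comm_sq a c)).symm

theorem comm_rho_rho (ρ : MulAut T) (g k : T) : ⁅ρ g, ρ k⁆ = ρ ⁅g, k⁆ :=
  (map_commutatorElement ρ g k).symm

theorem comm_self_rho (h : Hyp64 T ρ) (g : T) : ⁅g, ρ g⁆ = 1 := by
  haveI := h.fin
  exact commutatorElement_eq_one_iff_mul_comm.2 (h.fpf.comm_rho g)

theorem comm_central (h : Hyp64 T ρ) (g k u : T) : ⁅g, k⁆ * u = u * ⁅g, k⁆ :=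
  (Subgroup.mem_center_iff.1 (h.comm_mem_center g k) u).symm

/-- squares are central -/
theorem sq_mem_center (h : Hyp64 T ρ) (g : T) : g * g ∈ Subgroup.center T := by
  rw [Subgroup.mem_center_iff]
  intro k
  have h1 : ⁅g * g, k⁆ = 1 := by
    rw [h.comm_mul_left, h.comm_sq]
  exact (commutatorElement_eq_one_iff_mul_comm.1 h1).symm

/-- `(g k)² = ⁅k, g⁆ g² k²` -/
theorem mul_sq (h : Hyp64 T ρ) (g k : T) : (g * k) * (g * k) = ⁅k, g⁆ * (g * g) * (k * k) := by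
  have h1 : k * g = ⁅k, g⁆ * g * k := mul_eq_comm_mul k g
  have h2 := h.comm_central k g g
  calc (g * k) * (g * k) = g * (k * g) * k := by group
    _ = g * (⁅k, g⁆ * g * k) * k := by rw [h1]
    _ = (g * ⁅k, g⁆) * g * k * k := by group
    _ = (⁅k, g⁆ * g) * g * k * k := by rw [h2]
    _ = ⁅k, g⁆ * (g * g) * (k * k) := by group

/-- twisted bilinearity: `⁅g, ρ k⁆ = ρ² ⁅g, k⁆` -/
theorem comm_rho_right (h : Hyp64 T ρ) (g k : T) : ⁅g, ρ k⁆ = ρ (ρ ⁅g, k⁆) := by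
  haveI := h.fin
  -- t := ⁅g, ρ k⁆ = ⁅k, ρ g⁆
  have e1 : ⁅g, ρ k⁆ = ⁅k, ρ g⁆ := by
    have h0 := h.comm_self_rho (g * k)
    rw [map_mul, h.comm_mul_left, h.comm_mul_right, h.comm_mul_right, h.comm_self_rho,
      h.comm_self_rho, one_mul, mul_one] at h0
    -- h0 : ⁅g, ρ k⁆ * ⁅k, ρ g⁆ = 1
    have h1 := h.comm_sq k (ρ g)
    exact mul_right_cancel (h0.trans h1.symm)
  -- ρ t = t * ρ z
  have e2 : ρ ⁅g, ρ k⁆ = ⁅g, ρ k⁆ * ρ ⁅g, k⁆ := by
    rw [← comm_rho_rho, h.fpf.rho_rho k, h.comm_inv_right, h.comm_mul_right, comm_rho_rho ρ g k,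
      h.comm_symm (ρ g) k, ← e1]
  -- t * ρ t * ρ² t = 1
  have e3 := h.fpf.prod_eq_one ⁅g, ρ k⁆
  have e4 := h.comm_sq g (ρ k)
  -- t * ρ t = ρ z
  have e5 : ⁅g, ρ k⁆ * ρ ⁅g, ρ k⁆ = ρ ⁅g, k⁆ := by
    rw [e2, ← mul_assoc, e4, one_mul]
  rw [e5] at e3
  -- e3 : ρ z * ρ² t = 1, so ρ² t = (ρ z)⁻¹ = ρ z
  have e6 : ρ (ρ ⁅g, ρ k⁆) = ρ ⁅g, k⁆ := by
    have hz2 : ρ ⁅g, k⁆ * ρ ⁅g, k⁆ = 1 := by rw [← map_mul, h.comm_sq, map_one]
    exact mul_left_cancel (e3.trans hz2.symm)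
  have e7 : ρ ⁅g, ρ k⁆ = ⁅g, k⁆ := ρ.injective e6
  have e8 := congrArg (fun t => ρ (ρ t)) e7
  simp only [h.fpf.h3] at e8
  exact e8

/-- twisted bilinearity on the left -/
theorem comm_rho_left (h : Hyp64 T ρ) (g k : T) : ⁅ρ g, k⁆ = ρ (ρ ⁅g, k⁆) := by
  rw [h.comm_symm (ρ g) k, h.comm_rho_right, h.comm_symm k g]

end Hyp64

end Cfsg.Agent.Lib.Helper7.T64
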