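import Mathlib
import Cfsg.Agent.Lib.Helper7.T64C

/-!
# Groups of order 64 with a fixed-point-free automorphism of order 3 (S3157), part D

Centralizers of non-central elements: order 16, `ρ`-invariant, abelian of exponent two if they
contain a non-central involution.
-/

set_option autoImplicit false

namespace Cfsg.Agent.Lib.Helper7.T64

open scoped commutatorElement

variable {T : Type*} [Group T]

namespace Hyp64

variable {ρ : MulAut T}

/-- a proper subgroup of the centre has at most one non-trivial element -/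
theorem eq_of_mem_proper (h : Hyp64 T ρ) (H : Subgroup T) (hle : H ≤ Subgroup.center T)
    (hne : H ≠ Subgroup.center T) {u v : T} (hu : u ∈ H) (hv : v ∈ H) (hu1 : u ≠ 1) (hv1 : v ≠ 1) :
    u = v := by
  haveI := h.fin
  by_contra huv
  have hd : Nat.card H ∣ 4 := by rw [← h.card_center]; exact Subgroup.card_dvd_of_le hle
  have h4 : Nat.card H ≠ 4 := by
    intro h4
    apply hne
    apply Subgroup.eq_of_le_of_card_ge hle
    rw [h4, h.card_center]
  let f : Fin 3 → H := ![⟨1, H.one_mem⟩, ⟨u, hu⟩, ⟨v, hv⟩]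
  have hf : Function.Injective f := by
    intro i j hij
    have hval : ((f i : H) : T) = f j := congrArg Subtype.val hij
    fin_cases i <;> fin_cases j <;> simp [f] at hval ⊢
    · exact absurd hval.symm hu1
    · exact absurd hval.symm hv1
    · exact absurd hval hu1
    · exact absurd hval huv
    · exact absurd hval hv1
    · exact absurd hval.symm huv
  have h3 : 3 ≤ Nat.card H := by
    have := Nat.card_le_card_of_injective f hf
    simpa using this
  have hle4 : Nat.card H ≤ 4 := Nat.le_of_dvd (by norm_num) hd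
  interval_cases (Nat.card H) <;> simp_all

/-- an invariant proper subgroup strictly containing the centre has order 16 -/
theorem card_of_invariant (h : Hyp64 T ρ) (H : Subgroup T) (hinv : ∀ n ∈ H, ρ n ∈ H)
    (hle : Subgroup.center T ≤ H) {u : T} (hu : u ∈ H) (huZ : u ∉ Subgroup.center T)
    (hne : H ≠ ⊤) : Nat.card H = 16 := by
  haveI := h.fin
  have hd : Nat.card H ∣ 64 := by rw [← h.card]; exact Subgroup.card_subgroup_dvd_card _
  have hm := h.fpf.card_modEq H hinv
  rcases dvd_sixty_four_modEq hd hm with h1 | h4 | h16 | h64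
  · exfalso
    have := Subgroup.card_eq_one.1 h1
    rw [this] at hu
    rw [Subgroup.mem_bot.1 hu] at huZ
    exact huZ (Subgroup.one_mem _)
  · exfalso
    have : Subgroup.center T = H := by
      apply Subgroup.eq_of_le_of_card_ge hle
      rw [h4, h.card_center]
    rw [← this] at hu
    exact huZ hu
  · exact h16
  · exfalso
    apply hne
    apply (Subgroup.card_eq_iff_eq_top _).1
    rw [h64, h.card]

theorem mem_cent_iff (y v : T) : v ∈ Subgroup.centralizer {y} ↔ ⁅y, v⁆ = 1 := by
  rw [Subgroup.mem_centralizer_singleton_iff, commutatorElement_eq_one_iff_mul_comm]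
  exact eq_comm

theorem cent_ne_top (h : Hyp64 T ρ) {y : T} (hy : y ∉ Subgroup.center T) :
    Subgroup.centralizer {y} ≠ ⊤ := by
  intro htop
  apply hy
  rw [Subgroup.mem_center_iff]
  intro g
  have : g ∈ Subgroup.centralizer {y} := by rw [htop]; trivial
  exact Subgroup.mem_centralizer_singleton_iff.1 this

theorem exists_comm_ne_one (h : Hyp64 T ρ) {y : T} (hy : y ∉ Subgroup.center T) :
    ∃ v : T, ⁅y, v⁆ ≠ 1 := by
  by_contra hcon
  push_neg at hcon
  apply hy
  rw [Subgroup.mem_center_iff]
  intro g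
  exact (commutatorElement_eq_one_iff_mul_comm.1 (hcon g)).symm

/-- the commutator map of a non-central element is onto the centre -/
theorem comm_surj (h : Hyp64 T ρ) {y : T} (hy : y ∉ Subgroup.center T) {z : T}
    (hz : z ∈ Subgroup.center T) : ∃ v : T, ⁅y, v⁆ = z := by
  haveI := h.fin
  by_contra hcon
  let κ : T →* T := c2R h.comm_mem_center y
  have hrange_le : κ.range ≤ Subgroup.center T := by
    rintro _ ⟨v, rfl⟩
    exact h.comm_mem_center y v
  have hrange_ne : κ.range ≠ Subgroup.center T := by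
    intro he
    rw [← he] at hz
    obtain ⟨v, hv⟩ := hz
    exact hcon ⟨v, hv⟩
  obtain ⟨v₀, hv₀⟩ := h.exists_comm_ne_one hy
  have hdich : ∀ v : T, ⁅y, v⁆ = 1 ∨ ⁅y, v⁆ = ⁅y, v₀⁆ := by
    intro v
    by_cases h1 : ⁅y, v⁆ = 1
    · exact Or.inl h1
    · exact Or.inr (h.eq_of_mem_proper κ.range hrange_le hrange_ne ⟨v, rfl⟩ ⟨v₀, rfl⟩ h1 hv₀)
  -- the centralizer of `ρ y` lies in the centralizer of `y`
  have hsub : ∀ v : T, ⁅ρ y, v⁆ = 1 → ⁅y, v⁆ = 1 := by
    intro v hv
    by_contra hne
    have hd : ⁅y, v⁆ = ⁅y, v₀⁆ := (hdich v).resolve_left hne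
    have h2 : ⁅ρ (ρ y), v⁆ = ⁅y, v₀⁆ := by
      rw [h.fpf.rho_rho y, h.comm_inv_left, h.comm_mul_left, hv, mul_one, hd]
    -- but `⁅ρ² y, v⁆ ∈ {1, ρ² d}`
    obtain ⟨v', rfl⟩ := ρ.surjective v
    obtain ⟨v'', rfl⟩ := ρ.surjective v'
    rw [comm_rho_rho, comm_rho_rho] at h2
    rcases hdich v'' with h3 | h3
    · rw [h3, map_one, map_one] at h2
      exact hv₀ h2.symm
    · rw [h3] at h2
      exact hv₀ (h.fpf.fp2 h2)
  have hinv : ∀ n ∈ Subgroup.centralizer {y}, ρ n ∈ Subgroup.centralizer {y} := by
    intro n hn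
    rw [mem_cent_iff] at hn ⊢
    apply hsub
    rw [comm_rho_rho, hn, map_one]
  have h16 := h.card_of_invariant (Subgroup.centralizer {y}) hinv
    (Subgroup.center_le_centralizer _) (Subgroup.mem_centralizer_singleton_iff.2 rfl) hy
    (h.cent_ne_top hy)
  -- counting
  have hker : κ.ker = Subgroup.centralizer {y} := by
    ext v
    rw [MonoidHom.mem_ker, mem_cent_iff]
    rfl
  have hcount := Subgroup.card_mul_index κ.ker
  rw [Subgroup.index_ker, hker, h16, h.card] at hcount
  have hr4 : Nat.card κ.range = 4 := by omega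
  apply hrange_ne
  apply Subgroup.eq_of_le_of_card_ge hrange_le
  rw [hr4, h.card_center]

/-- the centralizer of a non-central element has order 16 -/
theorem card_cent (h : Hyp64 T ρ) {y : T} (hy : y ∉ Subgroup.center T) :
    Nat.card (Subgroup.centralizer {y}) = 16 := by
  haveI := h.fin
  let κ : T →* T := c2R h.comm_mem_center y
  have hrange : κ.range = Subgroup.center T := by
    apply le_antisymm
    · rintro _ ⟨v, rfl⟩
      exact h.comm_mem_center y v
    · intro z hz
      obtain ⟨v, hv⟩ := h.comm_surj hy hz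
      exact ⟨v, hv⟩
  have hker : κ.ker = Subgroup.centralizer {y} := by
    ext v
    rw [MonoidHom.mem_ker, mem_cent_iff]
    rfl
  have hcount := Subgroup.card_mul_index κ.ker
  rw [Subgroup.index_ker, hker, hrange, h.card_center, h.card] at hcount
  omega

/-- the centralizer of a non-central element is `ρ`-invariant -/
theorem cent_invariant (h : Hyp64 T ρ) {y : T} (hy : y ∉ Subgroup.center T) :
    ∀ n ∈ Subgroup.centralizer {y}, ρ n ∈ Subgroup.centralizer {y} := by
  haveI := h.fin
  -- `I = C(y) ⊓ C(ρ y)` is invariant of order 16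
  have hI : ∀ n ∈ Subgroup.centralizer {y} ⊓ Subgroup.centralizer {ρ y},
      ρ n ∈ Subgroup.centralizer {y} ⊓ Subgroup.centralizer {ρ y} := by
    intro n hn
    obtain ⟨hn1, hn2⟩ := Subgroup.mem_inf.1 hn
    rw [mem_cent_iff] at hn1 hn2
    have h1 : ⁅ρ y, ρ n⁆ = 1 := by rw [comm_rho_rho, hn1, map_one]
    have h2 : ⁅ρ (ρ y), ρ n⁆ = 1 := by rw [comm_rho_rho, hn2, map_one]
    refine Subgroup.mem_inf.2 ⟨?_, ?_⟩
    · rw [mem_cent_iff]
      -- y = (ρ y * ρ² y)⁻¹
      have hy' : y = (ρ y * ρ (ρ y))⁻¹ := by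
        have := h.fpf.prod_eq_one y
        rw [mul_assoc] at this
        exact eq_inv_of_mul_eq_one_left this
      rw [hy', h.comm_inv_left, h.comm_mul_left, h1, h2, one_mul]
    · rw [mem_cent_iff]; exact h1
  have hyI : y ∈ Subgroup.centralizer {y} ⊓ Subgroup.centralizer {ρ y} := by
    refine Subgroup.mem_inf.2 ⟨Subgroup.mem_centralizer_singleton_iff.2 rfl, ?_⟩
    exact Subgroup.mem_centralizer_singleton_iff.2 (h.fpf.comm_rho y)
  have hIne : Subgroup.centralizer {y} ⊓ Subgroup.centralizer {ρ y} ≠ ⊤ := by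
    intro htop
    apply h.cent_ne_top hy
    rw [eq_top_iff, ← htop]
    exact inf_le_left
  have h16 := h.card_of_invariant _ hI
    (le_inf (Subgroup.center_le_centralizer _) (Subgroup.center_le_centralizer _)) hyI hy hIne
  have heq : Subgroup.centralizer {y} ⊓ Subgroup.centralizer {ρ y} = Subgroup.centralizer {y} := by
    apply Subgroup.eq_of_le_of_card_ge inf_le_left
    rw [h16, h.card_cent hy]
  intro n hn
  rw [← heq] at hn ⊢
  exact hI n hn

/-- two elements of the centralizer of a non-central element commute -/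
theorem cent_comm (h : Hyp64 T ρ) {y : T} (hy : y ∉ Subgroup.center T) {u v : T}
    (hu : u ∈ Subgroup.centralizer {y}) (hv : v ∈ Subgroup.centralizer {y}) : u * v = v * u := by
  haveI := h.fin
  by_cases huZ : u ∈ Subgroup.center T
  · exact (Subgroup.mem_center_iff.1 huZ v).symm
  -- `C(u) ⊓ C(y)` is invariant of order 16
  have hinv : ∀ n ∈ Subgroup.centralizer {u} ⊓ Subgroup.centralizer {y},
      ρ n ∈ Subgroup.centralizer {u} ⊓ Subgroup.centralizer {y} := by
    intro n hn
    obtain ⟨hn1, hn2⟩ := Subgroup.mem_inf.1 hn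
    exact Subgroup.mem_inf.2 ⟨h.cent_invariant huZ n hn1, h.cent_invariant hy n hn2⟩
  have hne : Subgroup.centralizer {u} ⊓ Subgroup.centralizer {y} ≠ ⊤ := by
    intro htop
    apply h.cent_ne_top hy
    rw [eq_top_iff, ← htop]
    exact inf_le_right
  have h16 := h.card_of_invariant _ hinv
    (le_inf (Subgroup.center_le_centralizer _) (Subgroup.center_le_centralizer _))
    (Subgroup.mem_inf.2 ⟨Subgroup.mem_centralizer_singleton_iff.2 rfl, hu⟩ :
      u ∈ Subgroup.centralizer {u} ⊓ Subgroup.centralizer {y}) huZ hne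
  have heq : Subgroup.centralizer {u} ⊓ Subgroup.centralizer {y} = Subgroup.centralizer {y} := by
    apply Subgroup.eq_of_le_of_card_ge inf_le_right
    rw [h16, h.card_cent hy]
  rw [← heq] at hv
  exact (Subgroup.mem_centralizer_singleton_iff.1 (Subgroup.mem_inf.1 hv).1).symm

/-- the centralizer of a non-central involution has exponent two -/
theorem cent_sq (h : Hyp64 T ρ) {a : T} (ha : a ∉ Subgroup.center T) (ha2 : a * a = 1) {u : T}
    (hu : u ∈ Subgroup.centralizer {a}) : u * u = 1 := by
  haveI := h.fin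
  let K : Subgroup T :=
    { carrier := {u | u ∈ Subgroup.centralizer {a} ∧ u * u = 1}
      mul_mem' := by
        rintro b c ⟨hb, hb2⟩ ⟨hc, hc2⟩
        refine ⟨Subgroup.mul_mem _ hb hc, ?_⟩
        have := h.cent_comm ha hb hc
        calc b * c * (b * c) = b * (c * b) * c := by group
          _ = b * (b * c) * c := by rw [← this]
          _ = (b * b) * (c * c) := by group
          _ = 1 := by rw [hb2, hc2, one_mul]
      one_mem' := ⟨Subgroup.one_mem _, by simp⟩
      inv_mem' := by
        rintro b ⟨hb, hb2⟩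
        refine ⟨Subgroup.inv_mem _ hb, ?_⟩
        rw [← mul_inv_rev, hb2, inv_one] }
  have hKle : K ≤ Subgroup.centralizer {a} := fun b hb => hb.1
  have hKinv : ∀ n ∈ K, ρ n ∈ K := by
    rintro n ⟨hn, hn2⟩
    exact ⟨h.cent_invariant ha n hn, by rw [← map_mul, hn2, map_one]⟩
  have hZK : Subgroup.center T ≤ K := by
    intro z hz
    exact ⟨Subgroup.center_le_centralizer _ hz, h.center_sq hz⟩
  have haK : a ∈ K := ⟨Subgroup.mem_centralizer_singleton_iff.2 rfl, ha2⟩
  have hKne : K ≠ ⊤ := by
    intro htop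
    apply h.cent_ne_top ha
    rw [eq_top_iff, ← htop]
    exact hKle
  have h16 := h.card_of_invariant K hKinv hZK haK ha hKne
  have heq : K = Subgroup.centralizer {a} := by
    apply Subgroup.eq_of_le_of_card_ge hKle
    rw [h16, h.card_cent ha]
  rw [← heq] at hu
  exact hu.2

end Hyp64

end Cfsg.Agent.Lib.Helper7.T64
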