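import Mathlib
import Cfsg.Agent.Lib.Helper7.T64D

/-!
# Groups of order 64 with a fixed-point-free automorphism of order 3 (S3157), part E

The fixed points of an involutory automorphism `x` inverting `ρ`: a non-abelian group of order 8.
-/

set_option autoImplicit false

namespace Cfsg.Agent.Lib.Helper7.T64

open scoped commutatorElement

variable {T : Type*} [Group T]

/-- `x` is an involutory automorphism inverting `ρ` -/
structure HypX (ρ x : MulAut T) : Prop where
  x2 : ∀ y : T, x (x y) = y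
  xr : ∀ y : T, x (ρ y) = ρ (ρ (x y))

namespace Hyp64

variable {ρ x : MulAut T}

/-- `C ∩ ρ(C) = 1`, in the form of injectivity of `(u, v) ↦ u ρ(v)` on `C × C` -/
theorem fix_mul_inj (h : Hyp64 T ρ) (hx : HypX ρ x) (C : Subgroup T) (hC : ∀ y : T, y ∈ C ↔ x y = y)
    {u u' v v' : T} (hu : u ∈ C) (hu' : u' ∈ C) (hv : v ∈ C) (hv' : v' ∈ C)
    (he : u * ρ v = u' * ρ v') : u = u' ∧ v = v' := by
  have e1 : u'⁻¹ * u = ρ (v' * v⁻¹) := by
    rw [map_mul, map_inv]
    calc u'⁻¹ * u = u'⁻¹ * (u * ρ v) * (ρ v)⁻¹ := by group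
      _ = u'⁻¹ * (u' * ρ v') * (ρ v)⁻¹ := by rw [he]
      _ = ρ v' * (ρ v)⁻¹ := by group
  have hc : v' * v⁻¹ ∈ C := C.mul_mem hv' (C.inv_mem hv)
  have hρc : ρ (v' * v⁻¹) ∈ C := by rw [← e1]; exact C.mul_mem (C.inv_mem hu') hu
  have h1 := (hC _).1 hρc
  rw [hx.xr, (hC _).1 hc] at h1
  have h2 : v' * v⁻¹ = 1 := h.fpf.fp _ (ρ.injective h1)
  have hvv : v' = v := mul_inv_eq_one.1 h2
  subst hvv
  exact ⟨mul_right_cancel he, rfl⟩

theorem card_fix_le (h : Hyp64 T ρ) (hx : HypX ρ x) (C : Subgroup T)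
    (hC : ∀ y : T, y ∈ C ↔ x y = y) : Nat.card C ≤ 8 := by
  haveI := h.fin
  let f : C × C → T := fun p => (p.1 : T) * ρ (p.2 : T)
  have hf : Function.Injective f := by
    rintro ⟨u, v⟩ ⟨u', v'⟩ he
    obtain ⟨h1, h2⟩ := h.fix_mul_inj hx C hC u.2 u'.2 v.2 v'.2 he
    exact Prod.ext (Subtype.ext h1) (Subtype.ext h2)
  have hle := Nat.card_le_card_of_injective f hf
  rw [Nat.card_prod, h.card] at hle
  by_contra hcon
  push_neg at hcon
  have : 9 * 9 ≤ Nat.card C * Nat.card C := Nat.mul_le_mul hcon hcon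
  omega

/-- `x` moves some central element -/
theorem exists_center_moved (h : Hyp64 T ρ) (hx : HypX ρ x) :
    ∃ z ∈ Subgroup.center T, x z ≠ z := by
  haveI := h.fin
  by_contra hcon
  push_neg at hcon
  have hne : Subgroup.center T ≠ ⊥ := by
    intro hb
    have := h.card_center
    rw [hb] at this
    simp at this
  obtain ⟨⟨z, hz⟩, hz1⟩ := (Subgroup.ne_bot_iff_exists_ne_one).1 hne
  have hz1' : z ≠ 1 := fun h1 => hz1 (Subtype.ext h1)
  have h1 := hcon (ρ z) ((aut_mem_center_iff ρ z).2 hz)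
  rw [hx.xr, hcon z hz] at h1
  exact hz1' (h.fpf.fp _ (ρ.injective h1))

/-- the homomorphism `g ↦ g x(g)` modulo the centre -/
noncomputable def psi (h : Hyp64 T ρ) (x : MulAut T) : T →* T ⧸ Subgroup.center T where
  toFun g := QuotientGroup.mk (g * x g)
  map_one' := by simp
  map_mul' := fun g k => by
    simp only [map_mul, QuotientGroup.mk_mul]
    rw [mul_assoc, mul_assoc, ← mul_assoc (QuotientGroup.mk k : T ⧸ Subgroup.center T),
      h.quot_comm (QuotientGroup.mk k) (QuotientGroup.mk (x g)), mul_assoc]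

theorem mem_ker_psi (h : Hyp64 T ρ) (x : MulAut T) (g : T) :
    g ∈ (h.psi x).ker ↔ g * x g ∈ Subgroup.center T := by
  rw [MonoidHom.mem_ker]
  exact QuotientGroup.eq_one_iff _

theorem inv_mul_mem_center_of_mem (h : Hyp64 T ρ) (x : MulAut T) {g : T} (hg : g ∈ (h.psi x).ker) :
    g⁻¹ * x g ∈ Subgroup.center T := by
  have h1 := (h.mem_ker_psi x g).1 hg
  have h2 := h.sq_mem_center g
  have : g⁻¹ * x g = (g * g)⁻¹ * (g * x g) := by group
  rw [this]
  exact Subgroup.mul_mem _ (Subgroup.inv_mem _ h2) h1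

/-- `δ(g) = g⁻¹ x(g)` on `W = ker ψ` -/
noncomputable def delta (h : Hyp64 T ρ) (x : MulAut T) : (h.psi x).ker →* T where
  toFun g := (g : T)⁻¹ * x (g : T)
  map_one' := by simp
  map_mul' := fun g k => by
    have hc := Subgroup.mem_center_iff.1 (h.inv_mul_mem_center_of_mem x g.2) ((k : T)⁻¹)
    simp only [Subgroup.coe_mul, map_mul, mul_inv_rev]
    calc (k : T)⁻¹ * (g : T)⁻¹ * (x g * x k) = ((k : T)⁻¹ * ((g : T)⁻¹ * x g)) * x k := by group
      _ = (((g : T)⁻¹ * x g) * (k : T)⁻¹) * x k := by rw [hc]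
      _ = (g : T)⁻¹ * x g * ((k : T)⁻¹ * x k) := by group

theorem delta_apply (h : Hyp64 T ρ) (x : MulAut T) (g : (h.psi x).ker) :
    h.delta x g = (g : T)⁻¹ * x (g : T) := rfl

theorem fix_le_ker_psi (h : Hyp64 T ρ) (C : Subgroup T) (hC : ∀ y : T, y ∈ C ↔ x y = y) :
    C ≤ (h.psi x).ker := by
  intro g hg
  rw [h.mem_ker_psi, (hC g).1 hg]
  exact h.sq_mem_center g

theorem center_le_ker_psi (h : Hyp64 T ρ) (x : MulAut T) : Subgroup.center T ≤ (h.psi x).ker := by
  intro z hz
  rw [h.mem_ker_psi]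
  exact Subgroup.mul_mem _ hz ((aut_mem_center_iff x z).2 hz)

theorem card_ker_delta (h : Hyp64 T ρ) (C : Subgroup T) (hC : ∀ y : T, y ∈ C ↔ x y = y) :
    Nat.card (h.delta x).ker = Nat.card C := by
  have hmap : (h.delta x).ker.map (h.psi x).ker.subtype = C := by
    ext g
    constructor
    · rintro ⟨g', hg', rfl⟩
      have hg'' : h.delta x g' = 1 := hg'
      rw [delta_apply] at hg''
      rw [hC]
      exact (inv_mul_eq_one.1 hg'').symm
    · intro hg
      refine ⟨⟨g, h.fix_le_ker_psi C hC hg⟩, ?_, rfl⟩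
      change h.delta x ⟨g, h.fix_le_ker_psi C hC hg⟩ = 1
      rw [delta_apply]
      simp only
      rw [(hC g).1 hg, inv_mul_cancel]
  rw [← hmap]
  exact (Subgroup.card_map_of_injective (Subgroup.subtype_injective _)).symm

theorem range_delta_le (h : Hyp64 T ρ) (hx : HypX ρ x) (C : Subgroup T)
    (hC : ∀ y : T, y ∈ C ↔ x y = y) : (h.delta x).range ≤ C ⊓ Subgroup.center T := by
  rintro _ ⟨g, rfl⟩
  have hz := h.inv_mul_mem_center_of_mem x g.2
  refine Subgroup.mem_inf.2 ⟨?_, hz⟩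
  rw [hC, delta_apply, map_mul, map_inv, hx.x2]
  -- (x g)⁻¹ * g = (g⁻¹ * x g)⁻¹ = g⁻¹ * x g
  have h1 : (x (g : T))⁻¹ * (g : T) = ((g : T)⁻¹ * x (g : T))⁻¹ := by group
  rw [h1]
  exact (eq_inv_of_mul_eq_one_left (h.center_sq hz)).symm

theorem card_range_delta (h : Hyp64 T ρ) (hx : HypX ρ x) (C : Subgroup T)
    (hC : ∀ y : T, y ∈ C ↔ x y = y) : Nat.card (h.delta x).range = 2 := by
  haveI := h.fin
  have hle := h.range_delta_le hx C hC
  have hleZ : (h.delta x).range ≤ Subgroup.center T := hle.trans inf_le_right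
  have hd : Nat.card (h.delta x).range ∣ 4 := by
    rw [← h.card_center]; exact Subgroup.card_dvd_of_le hleZ
  obtain ⟨z, hz, hxz⟩ := h.exists_center_moved hx
  have h4 : Nat.card (h.delta x).range ≠ 4 := by
    intro h4
    have heq : (h.delta x).range = Subgroup.center T := by
      apply Subgroup.eq_of_le_of_card_ge hleZ
      rw [h4, h.card_center]
    have : z ∈ C := by
      have hz' : z ∈ (h.delta x).range := by rw [heq]; exact hz
      exact (Subgroup.mem_inf.1 (hle hz')).1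
    exact hxz ((hC z).1 this)
  have h1 : Nat.card (h.delta x).range ≠ 1 := by
    intro h1
    have hb := Subgroup.card_eq_one.1 h1
    have hmem : (h.delta x) ⟨z, h.center_le_ker_psi x hz⟩ ∈ (h.delta x).range := ⟨_, rfl⟩
    rw [hb, Subgroup.mem_bot, delta_apply] at hmem
    exact hxz (inv_mul_eq_one.1 hmem).symm
  have hle4 : Nat.card (h.delta x).range ≤ 4 := Nat.le_of_dvd (by norm_num) hd
  have h0 : Nat.card (h.delta x).range ≠ 0 := Nat.card_pos.ne'
  interval_cases (Nat.card (h.delta x).range) <;> simp_all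

/-- `|W| = 2 |C|` -/
theorem card_ker_psi (h : Hyp64 T ρ) (hx : HypX ρ x) (C : Subgroup T)
    (hC : ∀ y : T, y ∈ C ↔ x y = y) : Nat.card (h.psi x).ker = Nat.card C * 2 := by
  haveI := h.fin
  have := Subgroup.card_mul_index (h.delta x).ker
  rw [Subgroup.index_ker, h.card_ker_delta C hC, h.card_range_delta hx C hC] at this
  exact this.symm

theorem mul_x_mem_ker_psi (h : Hyp64 T ρ) (hx : HypX ρ x) (g : T) : g * x g ∈ (h.psi x).ker := by
  rw [h.mem_ker_psi, map_mul, hx.x2]
  have h1 := h.sq_mem_center (x g)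
  have h2 := h.sq_mem_center g
  have hc := Subgroup.mem_center_iff.1 h1 g
  have : g * x g * (x g * g) = (x g * x g) * (g * g) := by
    calc g * x g * (x g * g) = (g * (x g * x g)) * g := by group
      _ = ((x g * x g) * g) * g := by rw [hc]
      _ = (x g * x g) * (g * g) := by group
  rw [this]
  exact Subgroup.mul_mem _ h1 h2

/-- `|W| ≥ 16`, in the form `|T : W| ≤ 4` -/
theorem index_ker_psi_le (h : Hyp64 T ρ) (hx : HypX ρ x) : (h.psi x).ker.index ≤ 4 := by
  haveI := h.fin
  have hrange : (h.psi x).range ≤ (h.psi x).ker.map (QuotientGroup.mk' (Subgroup.center T)) := by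
    rintro _ ⟨g, rfl⟩
    exact ⟨g * x g, h.mul_x_mem_ker_psi hx g, rfl⟩
  have h1 : Nat.card (h.psi x).range ≤
      Nat.card ((h.psi x).ker.map (QuotientGroup.mk' (Subgroup.center T))) :=
    Subgroup.card_le_of_le hrange
  have h2 : ((h.psi x).ker.map (QuotientGroup.mk' (Subgroup.center T))).index = (h.psi x).ker.index := by
    apply Subgroup.index_map_eq _ (QuotientGroup.mk'_surjective _)
    rw [QuotientGroup.ker_mk']
    exact h.center_le_ker_psi x
  have h3 := Subgroup.card_mul_index ((h.psi x).ker.map (QuotientGroup.mk' (Subgroup.center T)))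
  rw [h2, h.card_quot] at h3
  rw [← Subgroup.index_ker] at h1
  by_contra hcon
  push_neg at hcon
  have hc5 : 5 ≤ (h.psi x).ker.index := hcon
  have : 5 * 5 ≤ Nat.card ((h.psi x).ker.map (QuotientGroup.mk' (Subgroup.center T))) *
      (h.psi x).ker.index := Nat.mul_le_mul (hc5.trans h1) hc5
  omega

/-- the fixed points of `x` form a group of order 8 -/
theorem card_fix (h : Hyp64 T ρ) (hx : HypX ρ x) (C : Subgroup T)
    (hC : ∀ y : T, y ∈ C ↔ x y = y) : Nat.card C = 8 := by
  haveI := h.fin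
  have h1 := h.card_fix_le hx C hC
  have h2 := h.card_ker_psi hx C hC
  have h3 := h.index_ker_psi_le hx
  have h4 := Subgroup.card_mul_index (h.psi x).ker
  rw [h.card, h2] at h4
  have hpos : 0 < (h.psi x).ker.index := Nat.pos_of_ne_zero (Subgroup.index_ne_zero_of_finite)
  by_contra hne
  have hlt : Nat.card C ≤ 7 := by omega
  have : Nat.card C * 2 * (h.psi x).ker.index ≤ 7 * 2 * 4 :=
    Nat.mul_le_mul (Nat.mul_le_mul hlt le_rfl) h3
  omega

/-- the fixed points of `x` do not commute -/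
theorem fix_not_comm (h : Hyp64 T ρ) (hx : HypX ρ x) (C : Subgroup T)
    (hC : ∀ y : T, y ∈ C ↔ x y = y) : ∃ u ∈ C, ∃ v ∈ C, u * v ≠ v * u := by
  haveI := h.fin
  by_contra hcon
  push_neg at hcon
  have h8 := h.card_fix hx C hC
  -- some element of `C` is not central
  have hex : ∃ y ∈ C, y ∉ Subgroup.center T := by
    by_contra hall
    push_neg at hall
    have hle : C ≤ Subgroup.center T := hall
    have := Subgroup.card_le_of_le hle
    rw [h8, h.card_center] at this
    omega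
  obtain ⟨y, hyC, hyZ⟩ := hex
  have hCle : C ≤ Subgroup.centralizer {y} := by
    intro u hu
    exact Subgroup.mem_centralizer_singleton_iff.2 (hcon u hu y hyC)
  let f : C × C → Subgroup.centralizer {y} := fun p =>
    ⟨(p.1 : T) * ρ (p.2 : T), Subgroup.mul_mem _ (hCle p.1.2) (h.cent_invariant hyZ _ (hCle p.2.2))⟩
  have hf : Function.Injective f := by
    rintro ⟨u, v⟩ ⟨u', v'⟩ he
    have he' : (u : T) * ρ (v : T) = (u' : T) * ρ (v' : T) := congrArg Subtype.val he
    obtain ⟨h1, h2⟩ := h.fix_mul_inj hx C hC u.2 u'.2 v.2 v'.2 he'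
    exact Prod.ext (Subtype.ext h1) (Subtype.ext h2)
  have hle := Nat.card_le_card_of_injective f hf
  rw [Nat.card_prod, h8, h.card_cent hyZ] at hle
  omega

end Hyp64

end Cfsg.Agent.Lib.Helper7.T64
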