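import Mathlib
import Cfsg.Agent.Lib.Helper7.T64E

/-!
# Groups of order 64 with a fixed-point-free automorphism of order 3 (S3157), part F

A non-central involution, and two non-commuting involutions.
-/

set_option autoImplicit false

namespace Cfsg.Agent.Lib.Helper7.T64

open scoped commutatorElement

variable {T : Type*} [Group T]

namespace Hyp64

variable {ρ x : MulAut T}

/-- there is a non-central involution -/
theorem exists_invol (h : Hyp64 T ρ) (hx : HypX ρ x) : ∃ a : T, a ∉ Subgroup.center T ∧ a * a = 1 := by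
  haveI := h.fin
  let C : Subgroup T :=
    { carrier := {y | x y = y}
      mul_mem' := by
        intro a b ha hb
        simp only [Set.mem_setOf_eq] at ha hb ⊢
        rw [map_mul, ha, hb]
      one_mem' := by simp
      inv_mem' := by
        intro a ha
        simp only [Set.mem_setOf_eq] at ha ⊢
        rw [map_inv, ha] }
  have hC : ∀ y : T, y ∈ C ↔ x y = y := fun y => Iff.rfl
  by_cases hcase : ∃ c ∈ C, c ∉ Subgroup.center T ∧ c * c = 1
  · obtain ⟨c, _, hc1, hc2⟩ := hcase
    exact ⟨c, hc1, hc2⟩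
  push_neg at hcase
  obtain ⟨y₁, hy₁, y₂, hy₂, hne⟩ := h.fix_not_comm hx C hC
  have hy₁Z : y₁ ∉ Subgroup.center T := by
    intro hz
    exact hne (Subgroup.mem_center_iff.1 hz y₂).symm
  have hy₂Z : y₂ ∉ Subgroup.center T := by
    intro hz
    exact hne (Subgroup.mem_center_iff.1 hz y₁)
  have hCZle : C ⊓ Subgroup.center T ≤ Subgroup.center T := inf_le_right
  have hCZne : C ⊓ Subgroup.center T ≠ Subgroup.center T := by
    intro he
    obtain ⟨z, hz, hxz⟩ := h.exists_center_moved hx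
    rw [← he] at hz
    exact hxz ((hC z).1 (Subgroup.mem_inf.1 hz).1)
  have hw1 : ⁅y₁, y₂⁆ ≠ 1 := by
    intro h1
    exact hne (commutatorElement_eq_one_iff_mul_comm.1 h1)
  have hwmem : ⁅y₁, y₂⁆ ∈ C ⊓ Subgroup.center T := by
    refine Subgroup.mem_inf.2 ⟨?_, h.comm_mem_center _ _⟩
    rw [commutatorElement_def]
    exact C.mul_mem (C.mul_mem (C.mul_mem hy₁ hy₂) (C.inv_mem hy₁)) (C.inv_mem hy₂)
  have hu : y₁ * y₁ = ⁅y₁, y₂⁆ :=
    h.eq_of_mem_proper _ hCZle hCZne
      (Subgroup.mem_inf.2 ⟨C.mul_mem hy₁ hy₁, h.sq_mem_center y₁⟩) hwmem (hcase y₁ hy₁ hy₁Z) hw1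
  have hv : y₂ * y₂ = ⁅y₁, y₂⁆ :=
    h.eq_of_mem_proper _ hCZle hCZne
      (Subgroup.mem_inf.2 ⟨C.mul_mem hy₂ hy₂, h.sq_mem_center y₂⟩) hwmem (hcase y₂ hy₂ hy₂Z) hw1
  refine ⟨y₁ * ρ y₂, ?_, ?_⟩
  · intro hz
    have h1 : ⁅y₁ * ρ y₂, y₂⁆ = 1 :=
      commutatorElement_eq_one_iff_mul_comm.2 (Subgroup.mem_center_iff.1 hz y₂).symm
    rw [h.comm_mul_left, h.comm_symm (ρ y₂) y₂, h.comm_self_rho, mul_one] at h1
    exact hw1 h1
  · rw [h.mul_sq, h.comm_rho_left, ← map_mul, hu, hv, h.comm_symm y₂ y₁]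
    have h1 := h.fpf.prod_eq_one' ⁅y₁, y₂⁆
    have h2 := h.fpf.comm_rho ⁅y₁, y₂⁆
    rw [mul_assoc, h2, ← mul_assoc]
    exact h1

/-- there are two non-commuting involutions -/
theorem exists_pair (h : Hyp64 T ρ) (hx : HypX ρ x) :
    ∃ a b : T, a * a = 1 ∧ b * b = 1 ∧ ⁅b, a⁆ ≠ 1 := by
  haveI := h.fin
  obtain ⟨a, haZ, ha2⟩ := h.exists_invol hx
  have hAne := h.cent_ne_top haZ
  obtain ⟨c, hcA⟩ : ∃ c : T, c ∉ Subgroup.centralizer {a} := by
    by_contra hall
    push_neg at hall
    exact hAne (eq_top_iff.2 (fun g _ => hall g))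
  have hcZ : c ∉ Subgroup.center T := fun hz => hcA (Subgroup.center_le_centralizer _ hz)
  -- `A ⊓ C(c) = Z`
  have hJle : Subgroup.centralizer {a} ⊓ Subgroup.centralizer {c} ≤ Subgroup.center T := by
    intro u hu
    by_contra huZ
    have hinv : ∀ n ∈ Subgroup.centralizer {a} ⊓ Subgroup.centralizer {c},
        ρ n ∈ Subgroup.centralizer {a} ⊓ Subgroup.centralizer {c} := by
      intro n hn
      obtain ⟨hn1, hn2⟩ := Subgroup.mem_inf.1 hn
      exact Subgroup.mem_inf.2 ⟨h.cent_invariant haZ n hn1, h.cent_invariant hcZ n hn2⟩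
    have hne : Subgroup.centralizer {a} ⊓ Subgroup.centralizer {c} ≠ ⊤ := by
      intro htop
      apply hAne
      rw [eq_top_iff, ← htop]
      exact inf_le_left
    have h16 := h.card_of_invariant _ hinv
      (le_inf (Subgroup.center_le_centralizer _) (Subgroup.center_le_centralizer _)) hu huZ hne
    have heq1 : Subgroup.centralizer {a} ⊓ Subgroup.centralizer {c} = Subgroup.centralizer {a} := by
      apply Subgroup.eq_of_le_of_card_ge inf_le_left
      rw [h16, h.card_cent haZ]
    have heq2 : Subgroup.centralizer {a} ⊓ Subgroup.centralizer {c} = Subgroup.centralizer {c} := by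
      apply Subgroup.eq_of_le_of_card_ge inf_le_right
      rw [h16, h.card_cent hcZ]
    apply hcA
    rw [← heq1, heq2]
    exact Subgroup.mem_centralizer_singleton_iff.2 rfl
  -- the commutator map of `c` restricted to `A`
  let κ : Subgroup.centralizer {a} →* T :=
    (c2R h.comm_mem_center c).comp (Subgroup.centralizer {a}).subtype
  have hκ : ∀ u : Subgroup.centralizer {a}, κ u = ⁅c, (u : T)⁆ := fun u => rfl
  have hkermap : κ.ker.map (Subgroup.centralizer {a}).subtype = Subgroup.center T := by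
    ext u
    constructor
    · rintro ⟨u', hu', rfl⟩
      have hu'' : κ u' = 1 := hu'
      rw [hκ] at hu''
      apply hJle
      exact Subgroup.mem_inf.2 ⟨u'.2, (mem_cent_iff c _).2 hu''⟩
    · intro hu
      refine ⟨⟨u, Subgroup.center_le_centralizer _ hu⟩, ?_, rfl⟩
      change κ ⟨u, Subgroup.center_le_centralizer _ hu⟩ = 1
      rw [hκ]
      exact commutatorElement_eq_one_iff_mul_comm.2 (Subgroup.mem_center_iff.1 hu c)
  have hkercard : Nat.card κ.ker = 4 := by
    rw [← h.card_center, ← hkermap]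
    exact (Subgroup.card_map_of_injective (Subgroup.subtype_injective _)).symm
  have hcount := Subgroup.card_mul_index κ.ker
  rw [Subgroup.index_ker, hkercard, h.card_cent haZ] at hcount
  have hr4 : Nat.card κ.range = 4 := by omega
  have hrle : κ.range ≤ Subgroup.center T := by
    rintro _ ⟨u, rfl⟩
    rw [hκ]
    exact h.comm_mem_center _ _
  have hreq : κ.range = Subgroup.center T := by
    apply Subgroup.eq_of_le_of_card_ge hrle
    rw [hr4, h.card_center]
  have hcc : c * c ∈ κ.range := by rw [hreq]; exact h.sq_mem_center c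
  obtain ⟨a', ha'⟩ := hcc
  rw [hκ] at ha'
  refine ⟨a, (a' : T) * c, ha2, ?_, ?_⟩
  · rw [h.mul_sq, ha', h.cent_sq haZ ha2 a'.2, mul_one]
    exact h.center_sq (h.sq_mem_center c)
  · rw [h.comm_mul_left]
    have h1 : ⁅(a' : T), a⁆ = 1 := by
      rw [h.comm_symm]
      exact (mem_cent_iff a _).1 a'.2
    rw [h1, one_mul, h.comm_symm]
    intro h2
    exact hcA ((mem_cent_iff a c).2 h2)

end Hyp64

end Cfsg.Agent.Lib.Helper7.T64
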