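import Mathlib

/-!
# A concrete field with four elements (for S3157)
-/

set_option autoImplicit false

namespace Cfsg.Agent.Lib.Helper7.T64

/-- the field with four elements `0, 1, ω, ω² = ω + 1` -/
inductive F4 : Type
  | o : F4
  | i : F4
  | w : F4
  | v : F4
  deriving DecidableEq

namespace F4

/-- addition -/
def add : F4 → F4 → F4
  | o, b => b
  | a, o => a
  | i, i => o
  | i, w => v
  | i, v => w
  | w, i => v
  | w, w => o
  | w, v => i
  | v, i => w
  | v, w => i
  | v, v => o

/-- multiplication -/
def mul : F4 → F4 → F4
  | o, _ => o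
  | _, o => o
  | i, b => b
  | a, i => a
  | w, w => v
  | w, v => i
  | v, w => i
  | v, v => w

/-- inverse -/
def inv : F4 → F4
  | o => o
  | i => i
  | w => v
  | v => w

/-- the Frobenius map -/
def frob : F4 → F4
  | o => o
  | i => i
  | w => v
  | v => w

instance instFintypeF4 : Fintype F4 :=
  ⟨{o, i, w, v}, by intro x; cases x <;> simp⟩

instance instAddF4 : Add F4 := ⟨add⟩
instance instMulF4 : Mul F4 := ⟨mul⟩
instance instZeroF4 : Zero F4 := ⟨o⟩
instance instOneF4 : One F4 := ⟨i⟩
instance instNegF4 : Neg F4 := ⟨id⟩
instance instInvF4 : Inv F4 := ⟨inv⟩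

instance instCommRingF4 : CommRing F4 where
  add := (· + ·)
  add_assoc := by decide
  zero := 0
  zero_add := by decide
  add_zero := by decide
  nsmul := nsmulRec
  neg := Neg.neg
  zsmul := zsmulRec
  neg_add_cancel := by decide
  add_comm := by decide
  mul := (· * ·)
  left_distrib := by decide
  right_distrib := by decide
  zero_mul := by decide
  mul_zero := by decide
  mul_assoc := by decide
  one := 1
  one_mul := by decide
  mul_one := by decide
  mul_comm := by decide

instance instFieldF4 : Field F4 where
  inv := Inv.inv
  exists_pair_ne := ⟨o, i, by decide⟩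
  mul_inv_cancel := by decide
  inv_zero := rfl
  nnqsmul := _
  nnqsmul_def := fun _ _ => rfl
  qsmul := _
  qsmul_def := fun _ _ => rfl

theorem add_def (a b : F4) : a + b = add a b := rfl
theorem mul_def (a b : F4) : a * b = mul a b := rfl
theorem zero_def : (0 : F4) = o := rfl
theorem one_def : (1 : F4) = i := rfl

theorem card_eq : Nat.card F4 = 4 := by
  rw [Nat.card_eq_fintype_card]
  rfl

theorem frob_add (a b : F4) : frob (a + b) = frob a + frob b := by
  revert a b; decide

end F4

end Cfsg.Agent.Lib.Helper7.T64
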