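import Mathlib
import Cfsg.Agent.Lib.Helper7.T64F
import Cfsg.Agent.Lib.Helper7.T64G
import Cfsg.Agent.Lib.Helper5.Heis3

/-!
# Groups of order 64 with a fixed-point-free automorphism of order 3 (S3157), part H

Coordinates: the group is the Heisenberg group over the field with four elements.
-/

set_option autoImplicit false

namespace Cfsg.Agent.Lib.Helper7.T64

open scoped commutatorElement
open Cfsg.Agent.Lib.Helper5.Heis3

variable {T : Type*} [Group T]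

/-- the orbit map `0 ↦ 1, 1 ↦ g, ω ↦ ρ g, ω² ↦ ρ² g` -/
def orb (ρ : MulAut T) (g : T) : F4 → T
  | F4.o => 1
  | F4.i => g
  | F4.w => ρ g
  | F4.v => ρ (ρ g)

namespace Hyp64

variable {ρ : MulAut T}

theorem invol_rel (h : Hyp64 T ρ) {g : T} (hg : g * g = 1) :
    ρ g * ρ g = 1 ∧ ρ (ρ g) * ρ (ρ g) = 1 ∧ g * ρ g = ρ (ρ g) ∧ ρ g * g = ρ (ρ g) ∧
      g * ρ (ρ g) = ρ g ∧ ρ (ρ g) * g = ρ g ∧ ρ g * ρ (ρ g) = g ∧ ρ (ρ g) * ρ g = g := by
  haveI := h.fin
  have e1 : ρ g * ρ g = 1 := by rw [← map_mul, hg, map_one]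
  have e2 : ρ (ρ g) * ρ (ρ g) = 1 := by rw [← map_mul, e1, map_one]
  have e3 : g * ρ g = ρ (ρ g) := by
    have h1 := h.fpf.prod_eq_one g
    have h2 : g * ρ g = (ρ (ρ g))⁻¹ := eq_inv_of_mul_eq_one_left h1
    rw [h2]
    exact (eq_inv_of_mul_eq_one_left e2).symm
  have e4 : ρ g * g = ρ (ρ g) := by rw [← h.fpf.comm_rho g, e3]
  have e5 : g * ρ (ρ g) = ρ g := by rw [← e3, ← mul_assoc, hg, one_mul]
  have e6 : ρ (ρ g) * g = ρ g := by rw [← e4, mul_assoc, hg, mul_one]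
  have e7 : ρ g * ρ (ρ g) = g := by rw [← map_mul, e3, h.fpf.h3]
  have e8 : ρ (ρ g) * ρ g = g := by rw [← map_mul, e4, h.fpf.h3]
  exact ⟨e1, e2, e3, e4, e5, e6, e7, e8⟩

theorem orb_add (h : Hyp64 T ρ) {g : T} (hg : g * g = 1) (s t : F4) :
    orb ρ g (s + t) = orb ρ g s * orb ρ g t := by
  obtain ⟨e1, e2, e3, e4, e5, e6, e7, e8⟩ := h.invol_rel hg
  cases s <;> cases t <;> simp [orb, F4.add_def, F4.add, hg, e1, e2, e3, e4, e5, e6, e7, e8]

theorem orb_comm (h : Hyp64 T ρ) {g : T} (hg : g * g = 1) (s t : F4) :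
    orb ρ g s * orb ρ g t = orb ρ g t * orb ρ g s := by
  rw [← h.orb_add hg, ← h.orb_add hg, add_comm]

theorem orb_zero (ρ : MulAut T) (g : T) : orb ρ g 0 = 1 := rfl

theorem orb_one (ρ : MulAut T) (g : T) : orb ρ g 1 = g := rfl

theorem orb_eq_one_iff (h : Hyp64 T ρ) {g : T} (hg : g ≠ 1) (s : F4) : orb ρ g s = 1 ↔ s = 0 := by
  have h1 := h.fpf.rho_ne_one hg
  have h2 := h.fpf.rho_ne_one h1
  cases s <;> simp [orb, hg, h1, h2, F4.zero_def]

theorem orb_mem_center (h : Hyp64 T ρ) {g : T} (hg : g ∈ Subgroup.center T) (s : F4) :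
    orb ρ g s ∈ Subgroup.center T := by
  cases s
  · exact Subgroup.one_mem _
  · exact hg
  · exact (aut_mem_center_iff ρ g).2 hg
  · exact (aut_mem_center_iff ρ _).2 ((aut_mem_center_iff ρ g).2 hg)

/-- the commutator formula -/
theorem comm_orb (h : Hyp64 T ρ) (a b : T) (s t : F4) :
    ⁅orb ρ b t, orb ρ a s⁆ = orb ρ ⁅b, a⁆ (F4.frob (s * t)) := by
  cases s <;> cases t <;>
    simp only [orb, F4.mul_def, F4.mul, F4.frob, commutatorElement_one_left,
      commutatorElement_one_right, h.comm_rho_left, h.comm_rho_right, h.fpf.h3, map_one]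

end Hyp64

/-- the coordinate map -/
def coord (ρ : MulAut T) (a b : T) (u : Heis F4) : T :=
  orb ρ a u.b * orb ρ b u.a * orb ρ ⁅b, a⁆ (F4.frob u.c)

namespace Hyp64

variable {ρ : MulAut T}

theorem coord_mul (h : Hyp64 T ρ) {a b : T} (ha : a * a = 1) (hb : b * b = 1) (u v : Heis F4) :
    coord ρ a b (u * v) = coord ρ a b u * coord ρ a b v := by
  have hz : ⁅b, a⁆ * ⁅b, a⁆ = 1 := h.comm_sq b a
  have hzc : ⁅b, a⁆ ∈ Subgroup.center T := h.comm_mem_center b a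
  unfold coord
  simp only [Heis.mul_a, Heis.mul_b, Heis.mul_c, F4.frob_add, h.orb_add ha, h.orb_add hb,
    h.orb_add hz]
  have hr : ∀ g : T, orb ρ ⁅b, a⁆ (F4.frob u.c) * g = g * orb ρ ⁅b, a⁆ (F4.frob u.c) := fun g =>
    (Subgroup.mem_center_iff.1 (h.orb_mem_center hzc _) g).symm
  have hk : ∀ g : T, orb ρ ⁅b, a⁆ (F4.frob (u.a * v.b)) * g =
      g * orb ρ ⁅b, a⁆ (F4.frob (u.a * v.b)) := fun g =>
    (Subgroup.mem_center_iff.1 (h.orb_mem_center hzc _) g).symm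
  have hqp : orb ρ b u.a * orb ρ a v.b =
      orb ρ ⁅b, a⁆ (F4.frob (u.a * v.b)) * orb ρ a v.b * orb ρ b u.a := by
    rw [mul_comm u.a v.b, ← h.comm_orb]
    exact mul_eq_comm_mul _ _
  generalize orb ρ a u.b = p at *
  generalize orb ρ b u.a = q at *
  generalize orb ρ ⁅b, a⁆ (F4.frob u.c) = r at *
  generalize orb ρ a v.b = p' at *
  generalize orb ρ b v.a = q' at *
  generalize orb ρ ⁅b, a⁆ (F4.frob v.c) = r' at *
  generalize orb ρ ⁅b, a⁆ (F4.frob (u.a * v.b)) = k at *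
  symm
  calc p * q * r * (p' * q' * r') = p * q * (r * (p' * q')) * r' := by group
    _ = p * q * ((p' * q') * r) * r' := by rw [hr]
    _ = p * (q * p') * q' * (r * r') := by group
    _ = p * (k * p' * q) * q' * (r * r') := by rw [hqp]
    _ = p * (k * (p' * q * q')) * (r * r') := by group
    _ = p * ((p' * q * q') * k) * (r * r') := by rw [hk]
    _ = (p * p') * (q * q') * (k * (r * r')) := by group
    _ = (p * p') * (q * q') * ((r * r') * k) := by rw [hk]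
    _ = p * p' * (q * q') * (r * r' * k) := by group

theorem coord_eq_one (h : Hyp64 T ρ) {a b : T} (ha : a * a = 1) (hb : b * b = 1)
    (hab : ⁅b, a⁆ ≠ 1) (u : Heis F4) (hu : coord ρ a b u = 1) : u = 1 := by
  have hzc : ⁅b, a⁆ ∈ Subgroup.center T := h.comm_mem_center b a
  unfold coord at hu
  have hfrob : ∀ s : F4, F4.frob s = 0 → s = 0 := by decide
  -- `q = p⁻¹ r⁻¹` commutes with `a`
  have hrc := h.orb_mem_center (ρ := ρ) hzc (F4.frob u.c)
  have hq : orb ρ b u.a = (orb ρ a u.b)⁻¹ * (orb ρ ⁅b, a⁆ (F4.frob u.c))⁻¹ := by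
    have : orb ρ b u.a = (orb ρ a u.b)⁻¹ * (orb ρ a u.b * orb ρ b u.a *
        orb ρ ⁅b, a⁆ (F4.frob u.c)) * (orb ρ ⁅b, a⁆ (F4.frob u.c))⁻¹ := by group
    rw [this, hu, mul_one]
  have h1 : ⁅orb ρ b u.a, orb ρ a 1⁆ = 1 := by
    rw [commutatorElement_eq_one_iff_mul_comm, hq]
    have hc1 := h.orb_comm ha u.b 1
    have hc2 := Subgroup.mem_center_iff.1 (Subgroup.inv_mem _ hrc) (orb ρ a 1)
    have hc3 : (orb ρ a u.b)⁻¹ * orb ρ a 1 = orb ρ a 1 * (orb ρ a u.b)⁻¹ := by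
      rw [eq_mul_inv_iff_mul_eq, mul_assoc, ← hc1, ← mul_assoc, inv_mul_cancel, one_mul]
    rw [mul_assoc, ← hc2, ← mul_assoc, hc3, mul_assoc]
  rw [h.comm_orb, one_mul, h.orb_eq_one_iff hab] at h1
  have hua : u.a = 0 := hfrob _ h1
  rw [hua, orb_zero, mul_one] at hu
  -- `p = r⁻¹` is central
  have hp : orb ρ a u.b = (orb ρ ⁅b, a⁆ (F4.frob u.c))⁻¹ := eq_inv_of_mul_eq_one_left hu
  have h2 : ⁅orb ρ b 1, orb ρ a u.b⁆ = 1 := by
    rw [commutatorElement_eq_one_iff_mul_comm, hp]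
    exact (Subgroup.mem_center_iff.1 (Subgroup.inv_mem _ hrc) _)
  rw [h.comm_orb, mul_one, h.orb_eq_one_iff hab] at h2
  have hub : u.b = 0 := hfrob _ h2
  rw [hub, orb_zero, one_mul, h.orb_eq_one_iff hab] at hu
  have huc : u.c = 0 := hfrob _ hu
  ext
  · exact hua
  · exact hub
  · exact huc

/-- the isomorphism with the Heisenberg group -/
theorem nonempty_heis (h : Hyp64 T ρ) {a b : T} (ha : a * a = 1) (hb : b * b = 1)
    (hab : ⁅b, a⁆ ≠ 1) : Nonempty (T ≃* Heis F4) := by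
  haveI := h.fin
  let f : Heis F4 →* T := MonoidHom.mk' (coord ρ a b) (h.coord_mul ha hb)
  have hinj : Function.Injective f := by
    rw [injective_iff_map_eq_one]
    intro u hu
    exact h.coord_eq_one ha hb hab u hu
  have hcard : Nat.card (Heis F4) = Nat.card T := by
    rw [Heis.card_eq_of_card F4.card_eq, h.card]
    norm_num
  have hbij : Function.Bijective f := (Nat.bijective_iff_injective_and_card f).2 ⟨hinj, hcard⟩
  exact ⟨(MulEquiv.ofBijective f hbij).symm⟩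

end Hyp64

end Cfsg.Agent.Lib.Helper7.T64
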