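import Mathlib

set_option autoImplicit false
set_option linter.unusedVariables false
set_option linter.unusedSectionVars false

namespace Cfsg.Agent.Lib.Helper7.IterComm

open Finset

/-- `C(p-1, k) ≡ (-1)^k` modulo `p`. -/
theorem choose_pred_prime_zmod {p : ℕ} [Fact p.Prime] (n : ℕ) (hn : n + 1 = p) :
    ∀ k, k ≤ n → ((n.choose k : ℕ) : ZMod p) = (-1) ^ k := by
  have hp : p.Prime := Fact.out
  intro k
  induction k with
  | zero => intro _; simp
  | succ k ih =>
    intro hk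
    have h1 : ((n + 1).choose (k + 1) : ZMod p) = 0 := by
      rw [ZMod.natCast_eq_zero_iff, hn]
      exact hp.dvd_choose_self (Nat.succ_ne_zero k) (by omega)
    rw [Nat.choose_succ_succ, Nat.cast_add, ih (by omega)] at h1
    rw [pow_succ]
    linear_combination h1

theorem smul_eq_of_zmod_eq {B : Type*} [AddCommGroup B] {p : ℕ} (hB : ∀ b : B, p • b = 0)
    {c d : ℤ} (h : (c : ZMod p) = (d : ZMod p)) (b : B) : c • b = d • b := by
  obtain ⟨t, ht⟩ := (ZMod.intCast_eq_intCast_iff_dvd_sub c d p).mp h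
  have : d = c + p * t := by omega
  rw [this, add_smul, mul_smul]
  have h2 : ((p : ℕ) : ℤ) • (t • b) = 0 := by
    rw [natCast_zsmul]
    exact hB _
  rw [h2, add_zero]

open fwdDiff in
/-- In an abelian group of exponent `p`, the `(p-1)`-st forward difference is `±` the sum over a
window of length `p`. -/
theorem fwdDiff_iter_pred_prime {B : Type*} [AddCommGroup B] {p : ℕ} [Fact p.Prime]
    (hB : ∀ b : B, p • b = 0) (f : ℕ → B) (i : ℕ) :
    (fwdDiff (1 : ℕ))^[p - 1] f i = ((-1 : ℤ) ^ (p - 1)) • ∑ k ∈ range p, f (i + k) := by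
  have hp : p.Prime := Fact.out
  have hn : p - 1 + 1 = p := Nat.sub_add_cancel hp.one_le
  rw [fwdDiff_iter_eq_sum_shift, hn, Finset.smul_sum]
  refine Finset.sum_congr rfl fun k hk => ?_
  have hk' : k ≤ p - 1 := by
    have := Finset.mem_range.mp hk
    omega
  rw [smul_eq_mul, mul_one]
  apply smul_eq_of_zmod_eq hB
  push_cast
  rw [choose_pred_prime_zmod (p - 1) hn k hk', ← pow_add, Nat.sub_add_cancel hk']

section
variable {G : Type*} [Group G] {Z : Type*} [CommGroup Z] {p : ℕ} [Fact p.Prime]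
  (hZ : ∀ z : Z, z ^ p = 1) (M : Subgroup G) (ω : G → Z)
  (hmul : ∀ a ∈ M, ∀ b ∈ M, ω (a * b) = ω a * ω b) (z : G) (hz : ∀ m ∈ M, z⁻¹ * m * z ∈ M)

include hmul in
theorem omega_one : ω 1 = 1 := by
  have := hmul 1 M.one_mem 1 M.one_mem
  rw [mul_one] at this
  exact (mul_eq_left.mp this.symm)

include hmul in
theorem omega_inv {a : G} (ha : a ∈ M) : ω a⁻¹ = (ω a)⁻¹ := by
  have := hmul a⁻¹ (M.inv_mem ha) a ha
  rw [inv_mul_cancel, omega_one M ω hmul] at this
  exact eq_inv_of_mul_eq_one_left this.symm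

include hz in
theorem conj_pow_mem (j : ℕ) {m : G} (hm : m ∈ M) : (z ^ j)⁻¹ * m * z ^ j ∈ M := by
  induction j with
  | zero => simpa using hm
  | succ j ih =>
    have := hz _ ih
    have e : (z ^ (j + 1))⁻¹ * m * z ^ (j + 1) = z⁻¹ * ((z ^ j)⁻¹ * m * z ^ j) * z := by
      rw [pow_succ]; group
    rw [e]; exact this

include hz in
theorem comm_mem {y : G} (hy : y ∈ M) : y⁻¹ * z⁻¹ * y * z ∈ M := by
  have := M.mul_mem (M.inv_mem hy) (hz y hy)
  have e : y⁻¹ * z⁻¹ * y * z = y⁻¹ * (z⁻¹ * y * z) := by group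
  rw [e]; exact this

include hz in
theorem iter_comm_mem {y : G} (hy : y ∈ M) (n : ℕ) :
    (fun y : G => y⁻¹ * z⁻¹ * y * z)^[n] y ∈ M := by
  induction n with
  | zero => exact hy
  | succ n ih =>
    rw [Function.iterate_succ_apply']
    exact comm_mem M z hz ih

include hZ hmul hz in
/-- The value of `ω` on the iterated commutator `[x, z; p-1]` is `±` the product of `ω` over the
`p` conjugates of `x`. -/
theorem omega_iter_comm {x : G} (hx : x ∈ M) (i : ℕ) :
    ω ((z ^ i)⁻¹ * (fun y : G => y⁻¹ * z⁻¹ * y * z)^[p - 1] x * z ^ i) =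
      (∏ k ∈ Finset.range p, ω ((z ^ (i + k))⁻¹ * x * z ^ (i + k))) ^ ((-1 : ℤ) ^ (p - 1)) := by
  set s : G → ℕ → Additive Z := fun y j => Additive.ofMul (ω ((z ^ j)⁻¹ * y * z ^ j)) with hs
  have hB : ∀ b : Additive Z, p • b = 0 := by
    intro b
    have := hZ (Additive.toMul b)
    exact congrArg Additive.ofMul this
  have hstep : ∀ y ∈ M, s (y⁻¹ * z⁻¹ * y * z) = fwdDiff (1 : ℕ) (s y) := by
    intro y hy
    funext j
    have h1 : (z ^ j)⁻¹ * y * z ^ j ∈ M := conj_pow_mem M z hz j hy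
    have h2 : (z ^ (j + 1))⁻¹ * y * z ^ (j + 1) ∈ M := conj_pow_mem M z hz (j + 1) hy
    have e : (z ^ j)⁻¹ * (y⁻¹ * z⁻¹ * y * z) * z ^ j =
        ((z ^ j)⁻¹ * y * z ^ j)⁻¹ * ((z ^ (j + 1))⁻¹ * y * z ^ (j + 1)) := by
      rw [pow_succ]; group
    show Additive.ofMul (ω _) = Additive.ofMul (ω _) - Additive.ofMul (ω _)
    rw [e, hmul _ (M.inv_mem h1) _ h2, omega_inv M ω hmul h1, ← ofMul_div, mul_comm, div_eq_mul_inv]
  have hiter : ∀ n : ℕ, s ((fun y : G => y⁻¹ * z⁻¹ * y * z)^[n] x) = (fwdDiff (1 : ℕ))^[n] (s x) := by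
    intro n
    induction n with
    | zero => rfl
    | succ n ih =>
      rw [Function.iterate_succ_apply', Function.iterate_succ_apply', ← ih]
      exact hstep _ (iter_comm_mem M z hz hx n)
  have h3 := congrFun (hiter (p - 1)) i
  rw [fwdDiff_iter_pred_prime hB] at h3
  have h4 : ω ((z ^ i)⁻¹ * (fun y : G => y⁻¹ * z⁻¹ * y * z)^[p - 1] x * z ^ i) =
      Additive.toMul (s ((fun y : G => y⁻¹ * z⁻¹ * y * z)^[p - 1] x) i) := rfl
  rw [h4, h3, toMul_zsmul, toMul_sum]
  rfl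

end

end Cfsg.Agent.Lib.Helper7.IterComm
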