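import Mathlib
import Cfsg.Prelude.Def_Transfer
import Cfsg.Agent.Lib.Helper7.CentralTransfer
import Cfsg.Agent.Lib.Helper7.Tate
import Cfsg.Agent.H1.PResidual
import Cfsg.Agent.H1.PGroup
import Cfsg.Agent.Lib.Helper4.ZJ

set_option autoImplicit false
set_option linter.unusedVariables false
set_option linter.unusedSectionVars false

universe u

namespace Cfsg.Agent.Lib.Helper7.TateH

open Cfsg Cfsg.Agent.Lib.Helper7.CentralTransfer Cfsg.Agent.Lib.Helper7.Tate
open scoped commutatorElement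

section
variable {G : Type*} [Group G] (P N : Subgroup G) [hN : N.Normal] {C : Type*} [CommGroup C]
  (ϕ : ↥(TN P N) →* C)

theorem conjNormal_mem_TN (u : ↥P) (x : ↥N) :
    (MulAut.conjNormal (H := N)).comp P.subtype u x ∈ TN P N ↔ x ∈ TN P N := by
  rw [Subgroup.mem_subgroupOf, Subgroup.mem_subgroupOf]
  show ((MulAut.conjNormal (u : G) x : ↥N) : G) ∈ P ↔ _
  rw [MulAut.conjNormal_apply]
  constructor
  · intro h
    have h2 := P.mul_mem (P.mul_mem (P.inv_mem u.2) h) u.2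
    simpa [mul_assoc] using h2
  · intro h
    exact P.mul_mem (P.mul_mem u.2 h) (P.inv_mem u.2)

/-- Conjugation by elements of `P`, as a homomorphism into the stabilizer of an invariant `ϕ`. -/
def kappaGen (hinv : ∀ (u : ↥P) (x : ↥N) (hx : x ∈ TN P N)
      (hx' : (MulAut.conjNormal (H := N)).comp P.subtype u x ∈ TN P N), ϕ ⟨_, hx'⟩ = ϕ ⟨x, hx⟩) :
    ↥P →* Stab (TN P N) ϕ :=
  ((MulAut.conjNormal (H := N)).comp P.subtype).codRestrict _ (fun u => by
    rw [mem_Stab]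
    exact ⟨fun x => conjNormal_mem_TN P N u x, fun x hx hx' => hinv u x hx hx'⟩)

theorem kappaGen_coe (hinv : ∀ (u : ↥P) (x : ↥N) (hx : x ∈ TN P N)
      (hx' : (MulAut.conjNormal (H := N)).comp P.subtype u x ∈ TN P N), ϕ ⟨_, hx'⟩ = ϕ ⟨x, hx⟩)
    (u : ↥P) (x : ↥N) :
    ((((kappaGen P N ϕ hinv u : Stab (TN P N) ϕ) : MulAut ↥N) x : ↥N) : G)
    = (u : G) * x * (u : G)⁻¹ := by
  show ((MulAut.conjNormal (u : G) x : ↥N) : G) = _
  rw [MulAut.conjNormal_apply]

theorem kappaGen_incl [Finite G] (hinv : ∀ (u : ↥P) (x : ↥N) (hx : x ∈ TN P N)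
      (hx' : (MulAut.conjNormal (H := N)).comp P.subtype u x ∈ TN P N), ϕ ⟨_, hx'⟩ = ϕ ⟨x, hx⟩)
    (t : ↥(TN P N)) : kappaGen P N ϕ hinv (incl P N t) = conjStab (TN P N) ϕ t := by
  apply Subtype.ext
  apply MulEquiv.ext
  intro x
  apply Subtype.ext
  rw [kappaGen_coe, coe_conjStab, MulAut.conj_apply]
  simp [incl_coe]

end

theorem pResidual_self_top (p : ℕ) (G : Type*) [Group G] :
    pResidual p ↥(pResidual p G) = ⊤ := by
  have e : {g : ↥(pResidual p G) | Nat.Coprime (orderOf g) p} =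
      ((↑) : ↥(pResidual p G) → G) ⁻¹' {g : G | Nat.Coprime (orderOf g) p} := by
    ext x
    simp only [Set.mem_ofPred_eq, Set.mem_preimage, Subgroup.orderOf_coe]
  show Subgroup.closure {g : ↥(pResidual p G) | Nat.Coprime (orderOf g) p} = ⊤
  rw [e]
  exact Subgroup.closure_closure_coe_preimage (k := {g : G | Nat.Coprime (orderOf g) p})

/-- A homomorphism to a `p`-group kills `O^p`. -/
theorem hom_pResidual_eq_one {K C : Type*} [Group K] [Group C] {p : ℕ} [Fact p.Prime]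
    (f : K →* C) (hC : IsPGroup p C) {x : K} (hx : x ∈ pResidual p K) : f x = 1 := by
  have hle : pResidual p K ≤ f.ker := by
    unfold pResidual
    rw [Subgroup.closure_le]
    intro g hg
    have hg' : Nat.Coprime (orderOf g) p := hg
    rw [SetLike.mem_coe, MonoidHom.mem_ker]
    obtain ⟨k, hk⟩ := hC (f g)
    have h1 : orderOf (f g) ∣ p ^ k := orderOf_dvd_of_pow_eq_one hk
    have h2 : orderOf (f g) ∣ orderOf g := orderOf_map_dvd f g
    have h3 : Nat.Coprime (orderOf g) (p ^ k) := Nat.Coprime.pow_right k hg'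
    have h4 : orderOf (f g) = 1 := Nat.eq_one_of_dvd_coprimes h3 h2 h1
    exact orderOf_eq_one_iff.mp h4
  exact MonoidHom.mem_ker.mp (hle hx)

/-- Central transfer step: an `H`-invariant character of `H ∩ L` of order `p`, where `L = O^p(L)` is
normal, gives a character of `H` that is nontrivial on `H ∩ L`. -/
theorem tateH_aux {G : Type*} [Group G] [Finite G] {p : ℕ} [Fact p.Prime] (H L : Subgroup G)
    [L.Normal] (hLres : pResidual p ↥L = ⊤)
    (hH : ¬ p ∣ H.index)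
    (Z : Type*) [CommGroup Z] (hZ : Nat.card Z = p)
    (χ : ↥(L.subgroupOf H) →* Z)
    (hinv : ∀ (u : ↥H) (t : ↥H) (ht : t ∈ L.subgroupOf H)
      (ht' : u * t * u⁻¹ ∈ L.subgroupOf H), χ ⟨u * t * u⁻¹, ht'⟩ = χ ⟨t, ht⟩)
    (t₀ : ↥H) (ht₀ : t₀ ∈ L.subgroupOf H) (hχ : χ ⟨t₀, ht₀⟩ ≠ 1) :
    ∃ lam : ↥H →* Z, lam t₀ ≠ 1 := by
  have hp : p.Prime := Fact.out
  have hZp : IsPGroup p Z := IsPGroup.of_card (n := 1) (by rw [hZ, pow_one])
  set ϕ : ↥(TN H L) →* Z := χ.comp ((incl H L).codRestrict (TP H L) (incl_mem H L)) with hϕ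
  have hinv' : ∀ (u : ↥H) (x : ↥L) (hx : x ∈ TN H L)
      (hx' : (MulAut.conjNormal (H := L)).comp H.subtype u x ∈ TN H L), ϕ ⟨_, hx'⟩ = ϕ ⟨x, hx⟩ := by
    intro u x hx hx'
    have hx2 : incl H L ⟨x, hx⟩ ∈ L.subgroupOf H := incl_mem H L ⟨x, hx⟩
    have e : incl H L ⟨_, hx'⟩ = u * incl H L ⟨x, hx⟩ * u⁻¹ := by
      apply Subtype.ext
      rw [incl_coe]
      show ((MulAut.conjNormal (u : G) x : ↥L) : G) = _
      rw [MulAut.conjNormal_apply]
      simp [incl_coe]
    have hx3 : u * incl H L ⟨x, hx⟩ * u⁻¹ ∈ L.subgroupOf H := e ▸ incl_mem H L ⟨_, hx'⟩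
    show χ ⟨incl H L ⟨_, hx'⟩, _⟩ = χ ⟨incl H L ⟨x, hx⟩, _⟩
    rw [← hinv u _ hx2 hx3]
    congr 1
  obtain ⟨S⟩ : Nonempty (TN H L).LeftTransversal := ⟨default⟩
  set c' : ↥H →* Z := (cHom (TN H L) ϕ S).comp (kappaGen H L ϕ hinv') with hc'
  refine ⟨c', ?_⟩
  set t : ↥(TN H L) := ⟨⟨(t₀ : G), ht₀⟩, t₀.2⟩ with ht
  have hincl : incl H L t = t₀ := Subtype.ext rfl
  have h1 : c' t₀ = ϕ t ^ (TN H L).index := by
    rw [← hincl]
    show cHom (TN H L) ϕ S (kappaGen H L ϕ hinv' (incl H L t)) = _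
    rw [kappaGen_incl, cHom_conjStab]
    have : MonoidHom.transfer ϕ (t : ↥L) = 1 :=
      hom_pResidual_eq_one _ hZp (by rw [hLres]; exact Subgroup.mem_top _)
    rw [this, inv_one, mul_one]
  have h2 : ϕ t = χ ⟨t₀, ht₀⟩ := by
    show χ ⟨incl H L t, _⟩ = _
    congr 1
  have hm : ¬ p ∣ (TN H L).index := by
    have := Cfsg.Agent.Lib.Helper4.ZJ.not_dvd_index_inf_normal (p := p) H L hH
    rwa [Subgroup.inf_subgroupOf_right] at this
  rw [h1, h2]
  intro h3
  have h4 : orderOf (χ ⟨t₀, ht₀⟩) ∣ (TN H L).index := orderOf_dvd_of_pow_eq_one h3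
  have h5 : orderOf (χ ⟨t₀, ht₀⟩) ∣ p := hZ ▸ orderOf_dvd_natCard _
  rcases (Nat.dvd_prime hp).mp h5 with h | h
  · exact hχ (orderOf_eq_one_iff.mp h)
  · rw [h] at h4
    exact hm h4

/-- **Tate's theorem, subgroup form**: if `H` has index prime to `p` and every homomorphism from `H`
to a group of order `p` extends to `G`, then `H ∩ O^p(G) = O^p(H)`. -/
theorem tateH {G : Type u} [Group G] [Finite G] {p : ℕ} [Fact p.Prime] (H : Subgroup G)
    (hH : ¬ p ∣ H.index)
    (hext : ∀ (Z : Type u) [CommGroup Z], Nat.card Z = p → ∀ lam : ↥H →* Z,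
      ∃ μ : G →* Z, ∀ h : ↥H, μ (h : G) = lam h) :
    (pResidual p G).subgroupOf H ≤ pResidual p ↥H := by
  by_contra hcon
  have hp : p.Prime := Fact.out
  have hHbar : IsPGroup p (↥H ⧸ pResidual p ↥H) := Cfsg.Agent.H1.isPGroup_quotient_pResidual p
  have hnilH : Group.IsNilpotent (↥H ⧸ pResidual p ↥H) := hHbar.isNilpotent
  let π : ↥H →* ↥H ⧸ pResidual p ↥H := QuotientGroup.mk' (pResidual p ↥H)
  have hπ : Function.Surjective π := QuotientGroup.mk'_surjective _
  let Tb : Subgroup (↥H ⧸ pResidual p ↥H) := ((pResidual p G).subgroupOf H).map π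
  have hTbn : Tb.Normal := Subgroup.Normal.map inferInstance π hπ
  have hTb : Tb ≠ ⊥ := by
    intro h
    apply hcon
    intro t ht
    have h1 : π t ∈ Tb := Subgroup.mem_map_of_mem π ht
    rw [h, Subgroup.mem_bot] at h1
    exact (QuotientGroup.eq_one_iff t).mp h1
  have hne := commutator_top_ne Tb hTb
  have hle : ⁅(⊤ : Subgroup (↥H ⧸ pResidual p ↥H)), Tb⁆ ≤ Tb := Subgroup.commutator_le_right _ _
  have hsub : (⁅(⊤ : Subgroup (↥H ⧸ pResidual p ↥H)), Tb⁆).subgroupOf Tb ≠ ⊤ := by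
    intro h
    rw [Subgroup.subgroupOf_eq_top] at h
    exact hne (le_antisymm hle h)
  obtain ⟨R, hR, hCR⟩ := (eq_top_or_exists_le_coatom _).resolve_left hsub
  have hTbp : IsPGroup p ↥Tb := hHbar.to_subgroup Tb
  obtain ⟨hRn, hRidx⟩ := Cfsg.Agent.H1.coatom_normal_index_of_pgroup hTbp R hR
  have hRn2 := hRn
  have hZcard : Nat.card (↥Tb ⧸ R) = p := by rw [← Subgroup.index_eq_card, hRidx]
  have hcycZ : IsCyclic (↥Tb ⧸ R) := isCyclic_of_prime_card hZcard
  let instZ : CommGroup (↥Tb ⧸ R) := IsCyclic.commGroup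
  have hZp : IsPGroup p (↥Tb ⧸ R) := IsPGroup.of_card (n := 1) (by rw [hZcard, pow_one])
  let χ : ↥((pResidual p G).subgroupOf H) →* ↥Tb ⧸ R :=
    (QuotientGroup.mk' R).comp ((π.comp (Subgroup.subtype _)).codRestrict Tb
      (fun t => Subgroup.mem_map_of_mem π t.2))
  have hinv : ∀ (u : ↥H) (t : ↥H) (ht : t ∈ (pResidual p G).subgroupOf H)
      (ht' : u * t * u⁻¹ ∈ (pResidual p G).subgroupOf H), χ ⟨u * t * u⁻¹, ht'⟩ = χ ⟨t, ht⟩ := by
    intro u t ht ht'
    show (QuotientGroup.mk' R) _ = (QuotientGroup.mk' R) _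
    rw [QuotientGroup.mk'_apply, QuotientGroup.mk'_apply, QuotientGroup.eq]
    apply hCR
    rw [Subgroup.mem_subgroupOf]
    have h1 : π t ∈ Tb := Subgroup.mem_map_of_mem π ht
    have h2 := Subgroup.commutator_mem_commutator (Subgroup.mem_top (π u)) (Tb.inv_mem h1)
    rw [commutatorElement_def] at h2
    have e : (π (u * t * u⁻¹))⁻¹ * π t = π u * (π t)⁻¹ * (π u)⁻¹ * (π t)⁻¹⁻¹ := by
      rw [map_mul, map_mul, map_inv]
      group
    show (π (u * t * u⁻¹))⁻¹ * π t ∈ _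
    rw [e]
    exact h2
  obtain ⟨b, hb⟩ : ∃ b : ↥Tb, b ∉ R := by
    by_contra hcon2
    push Not at hcon2
    exact hR.1 (eq_top_iff.mpr fun b _ => hcon2 b)
  obtain ⟨t₀, ht₀, htb⟩ := b.2
  have hχ : χ ⟨t₀, ht₀⟩ ≠ 1 := by
    intro h
    apply hb
    have h1 : (QuotientGroup.mk' R) (⟨π t₀, Subgroup.mem_map_of_mem π ht₀⟩ : ↥Tb) = 1 := h
    rw [QuotientGroup.mk'_apply, QuotientGroup.eq_one_iff] at h1
    have e : (⟨π t₀, Subgroup.mem_map_of_mem π ht₀⟩ : ↥Tb) = b := Subtype.ext htb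
    rwa [e] at h1
  obtain ⟨lam, hlam⟩ := tateH_aux H (pResidual p G) (pResidual_self_top p G) hH (↥Tb ⧸ R) hZcard χ
    hinv t₀ ht₀ hχ
  obtain ⟨μ, hμ⟩ := hext (↥Tb ⧸ R) hZcard lam
  apply hlam
  rw [← hμ t₀]
  exact hom_pResidual_eq_one μ hZp (Subgroup.mem_subgroupOf.mp ht₀)

/-- Images of elements of `O^p` in an abelian group have order prime to `p`. -/
theorem orderOf_map_coprime {K A : Type*} [Group K] [CommGroup A] (p : ℕ) (f : K →* A) {k : K}
    (hk : k ∈ pResidual p K) : Nat.Coprime (orderOf (f k)) p := by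
  unfold pResidual at hk
  induction hk using Subgroup.closure_induction with
  | mem a ha =>
    have ha' : Nat.Coprime (orderOf a) p := ha
    exact Nat.Coprime.coprime_dvd_left (orderOf_map_dvd f a) ha'
  | one => rw [map_one, orderOf_one]; exact Nat.coprime_one_left p
  | mul a b _ _ iha ihb =>
    rw [map_mul]
    exact Nat.Coprime.coprime_dvd_left
      ((Commute.all (f a) (f b)).orderOf_mul_dvd_lcm.trans (Nat.lcm_dvd_mul _ _))
      (Nat.Coprime.mul_left iha ihb)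
  | inv a _ iha => rw [map_inv, orderOf_inv]; exact iha

/-- **Control of transfer from extension of characters**: if `H` contains a Sylow `p`-subgroup `S`
and every homomorphism from `H` to a group of order `p` extends to `G`, then `S ∩ G' ≤ H'`. -/
theorem inf_commutator_le {G : Type u} [Group G] [Finite G] {p : ℕ} [Fact p.Prime] (S : Sylow p G)
    (H : Subgroup G) (hSH : (S : Subgroup G) ≤ H)
    (hext : ∀ (Z : Type u) [CommGroup Z], Nat.card Z = p → ∀ lam : ↥H →* Z,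
      ∃ μ : G →* Z, ∀ h : ↥H, μ (h : G) = lam h) :
    (S : Subgroup G) ⊓ commutator G ≤ ⁅H, H⁆ := by
  have hp : p.Prime := Fact.out
  have hH : ¬ p ∣ H.index := fun h =>
    S.not_dvd_index (dvd_trans h (Subgroup.index_dvd_of_le hSH))
  have hT := tateH H hH hext
  rintro x ⟨hxS, hxG⟩
  let πG : G →* G ⧸ pResidual p G := QuotientGroup.mk' (pResidual p G)
  let ψ : ↥H →* G ⧸ pResidual p G := πG.comp H.subtype
  have hψ : Function.Surjective ψ := by
    intro y
    obtain ⟨g, rfl⟩ := QuotientGroup.mk'_surjective (pResidual p G) y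
    have hg : g ∈ ((pResidual p G ⊔ (S : Subgroup G) : Subgroup G) : Set G) := by
      rw [Cfsg.Agent.H1.pResidual_sup_sylow S]; trivial
    rw [Subgroup.normal_mul] at hg
    obtain ⟨l, hl, s, hs, rfl⟩ := Set.mem_mul.mp hg
    refine ⟨⟨s, hSH hs⟩, ?_⟩
    show πG s = πG (l * s)
    rw [map_mul]
    have : πG l = 1 := (QuotientGroup.eq_one_iff l).mpr hl
    rw [this, one_mul]
  have h1 : πG x ∈ (commutator ↥H).map ψ := by
    rw [commutator_def, Subgroup.map_commutator, ← MonoidHom.range_eq_map,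
      MonoidHom.range_eq_top.mpr hψ]
    have h2 : πG x ∈ (commutator G).map πG := Subgroup.mem_map_of_mem πG hxG
    rw [commutator_def, Subgroup.map_commutator, ← MonoidHom.range_eq_map,
      MonoidHom.range_eq_top.mpr (QuotientGroup.mk'_surjective _)] at h2
    exact h2
  obtain ⟨h', hh', hh'x⟩ := h1
  set x' : ↥H := ⟨x, hSH hxS⟩ with hx'
  have hk : h'⁻¹ * x' ∈ pResidual p ↥H := by
    apply hT
    rw [Subgroup.mem_subgroupOf]
    have : πG ((h'⁻¹ * x' : ↥H) : G) = 1 := by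
      have e : πG ((h'⁻¹ * x' : ↥H) : G) = (ψ h')⁻¹ * πG x := by
        show πG (((h'⁻¹ * x' : ↥H) : G)) = (πG (h' : G))⁻¹ * πG x
        rw [← map_inv, ← map_mul]
        rfl
      rw [e, hh'x, inv_mul_cancel]
    exact (QuotientGroup.eq_one_iff _).mp this
  have hab1 : (Abelianization.of : ↥H →* Abelianization ↥H) h' = 1 := by
    have : h' ∈ (Abelianization.of : ↥H →* Abelianization ↥H).ker := by
      rw [Abelianization.ker_of]; exact hh'
    exact MonoidHom.mem_ker.mp this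
  have hab2 : (Abelianization.of : ↥H →* Abelianization ↥H) x' =
      (Abelianization.of : ↥H →* Abelianization ↥H) (h'⁻¹ * x') := by
    rw [map_mul, map_inv, hab1, inv_one, one_mul]
  have hcop := orderOf_map_coprime p (Abelianization.of : ↥H →* Abelianization ↥H) hk
  rw [← hab2] at hcop
  obtain ⟨k, hk'⟩ := S.2 ⟨x, hxS⟩
  have hxk : x' ^ p ^ k = 1 := by
    apply Subtype.ext
    have := congrArg Subtype.val hk'
    simpa using this
  have hdvd : orderOf ((Abelianization.of : ↥H →* Abelianization ↥H) x') ∣ p ^ k := by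
    apply orderOf_dvd_of_pow_eq_one
    rw [← map_pow, hxk, map_one]
  have hone : orderOf ((Abelianization.of : ↥H →* Abelianization ↥H) x') = 1 :=
    Nat.Coprime.eq_one_of_dvd (Nat.Coprime.pow_right k hcop) hdvd
  have hker : x' ∈ (Abelianization.of : ↥H →* Abelianization ↥H).ker :=
    MonoidHom.mem_ker.mpr (orderOf_eq_one_iff.mp hone)
  rw [Abelianization.ker_of] at hker
  rw [← Subgroup.map_subtype_commutator]
  exact ⟨x', hker, rfl⟩

end Cfsg.Agent.Lib.Helper7.TateH
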