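import Mathlib

set_option autoImplicit false
set_option linter.unusedVariables false
set_option linter.unusedSectionVars false

namespace Cfsg.Agent.Lib.Helper7.LocalTransfer

open Subgroup Subgroup.leftTransversals MulAction
open scoped Pointwise

attribute [local instance] Classical.propDecidable

variable {G : Type*} [Group G] {H : Subgroup G} {A : Type*} [CommGroup A] (ϕ : H →* A)

/-- The factor of the transfer difference at the coset `q`. -/
noncomputable def fac (S T : H.LeftTransversal) (q : G ⧸ H) : A :=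
  ϕ ⟨(S.2.leftQuotientEquiv q : G)⁻¹ * T.2.leftQuotientEquiv q,
    QuotientGroup.leftRel_apply.mp <|
      Quotient.exact' ((S.2.leftQuotientEquiv.symm_apply_apply q).trans
        (T.2.leftQuotientEquiv.symm_apply_apply q).symm)⟩

/-- The difference of two transversals, localized to a finite set of cosets. -/
noncomputable def dO (O : Finset (G ⧸ H)) (S T : H.LeftTransversal) : A :=
  ∏ q ∈ O, fac ϕ S T q

theorem fac_mul_fac (R S T : H.LeftTransversal) (q : G ⧸ H) :
    fac ϕ R S q * fac ϕ S T q = fac ϕ R T q := by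
  unfold fac
  rw [← map_mul]
  congr 1
  ext
  simp [mul_assoc]

theorem fac_self (T : H.LeftTransversal) (q : G ⧸ H) : fac ϕ T T q = 1 := by
  have h := fac_mul_fac ϕ T T T q
  exact mul_eq_left.mp h

theorem fac_smul (g : G) (S T : H.LeftTransversal) (q : G ⧸ H) :
    fac ϕ (g • S) (g • T) (g • q) = fac ϕ S T q := by
  unfold fac
  congr 1
  ext
  simp only [smul_apply_eq_smul_apply_inv_smul, inv_smul_smul, smul_eq_mul, mul_inv_rev, mul_assoc,
    inv_mul_cancel_left]

theorem dO_mul_dO (O : Finset (G ⧸ H)) (R S T : H.LeftTransversal) :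
    dO ϕ O R S * dO ϕ O S T = dO ϕ O R T := by
  unfold dO
  rw [← Finset.prod_mul_distrib]
  exact Finset.prod_congr rfl fun q _ => fac_mul_fac ϕ R S T q

theorem dO_self (O : Finset (G ⧸ H)) (T : H.LeftTransversal) : dO ϕ O T T = 1 := by
  unfold dO
  exact Finset.prod_eq_one fun q _ => fac_self ϕ T q

theorem dO_inv (O : Finset (G ⧸ H)) (S T : H.LeftTransversal) : (dO ϕ O S T)⁻¹ = dO ϕ O T S :=
  inv_eq_of_mul_eq_one_right <| (dO_mul_dO ϕ O S T S).trans <| dO_self ϕ O S

/-- The image of a finite set of cosets under translation by `g`. -/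
noncomputable def tr (g : G) (O : Finset (G ⧸ H)) : Finset (G ⧸ H) := O.image (fun q => g • q)

theorem mem_tr {g : G} {O : Finset (G ⧸ H)} {q : G ⧸ H} : q ∈ tr g O ↔ g⁻¹ • q ∈ O := by
  unfold tr
  rw [Finset.mem_image]
  constructor
  · rintro ⟨q', hq', rfl⟩
    rwa [inv_smul_smul]
  · intro h
    exact ⟨g⁻¹ • q, h, smul_inv_smul g q⟩

theorem tr_mul (g h : G) (O : Finset (G ⧸ H)) : tr (g * h) O = tr g (tr h O) := by
  ext q
  rw [mem_tr, mem_tr, mem_tr, mul_inv_rev, mul_smul]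

theorem tr_one (O : Finset (G ⧸ H)) : tr (1 : G) O = O := by
  ext q
  rw [mem_tr, inv_one, one_smul]

theorem smul_dO_smul (g : G) (O : Finset (G ⧸ H)) (S T : H.LeftTransversal) :
    dO ϕ (tr g O) (g • S) (g • T) = dO ϕ O S T := by
  unfold dO tr
  rw [Finset.prod_image (fun a _ b _ h => (MulAction.injective g) h)]
  exact Finset.prod_congr rfl fun q _ => fac_smul ϕ g S T q

theorem dO_union {O₁ O₂ : Finset (G ⧸ H)} (h : Disjoint O₁ O₂) (S T : H.LeftTransversal) :
    dO ϕ (O₁ ∪ O₂) S T = dO ϕ O₁ S T * dO ϕ O₂ S T := by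
  unfold dO
  exact Finset.prod_union h

/-- The localized transfer: defined for all `g`, multiplicative on the stabilizer of `O`. -/
noncomputable def tO (O : Finset (G ⧸ H)) (g : G) : A :=
  dO ϕ O (default : H.LeftTransversal) (g • (default : H.LeftTransversal))

theorem tO_def {O : Finset (G ⧸ H)} {g : G} (hg : tr g O = O) (T : H.LeftTransversal) :
    tO ϕ O g = dO ϕ O T (g • T) := by
  unfold tO
  set T₀ : H.LeftTransversal := default
  have h1 : dO ϕ O T (g • T) = dO ϕ O T T₀ * dO ϕ O T₀ (g • T₀) * dO ϕ O (g • T₀) (g • T) := by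
    rw [dO_mul_dO, dO_mul_dO]
  have h2 : dO ϕ O (g • T₀) (g • T) = dO ϕ O T₀ T := by
    conv_lhs => rw [← hg]
    exact smul_dO_smul ϕ g O T₀ T
  rw [h1, h2, ← dO_inv ϕ O T₀ T]
  rw [mul_comm ((dO ϕ O T₀ T)⁻¹), mul_assoc, inv_mul_cancel, mul_one]

theorem tO_mul {O : Finset (G ⧸ H)} {g h : G} (hg : tr g O = O) (hh : tr h O = O) :
    tO ϕ O (g * h) = tO ϕ O g * tO ϕ O h := by
  unfold tO
  set T₀ : H.LeftTransversal := default
  rw [mul_smul, ← dO_mul_dO ϕ O T₀ (g • T₀) (g • h • T₀)]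
  congr 1
  conv_lhs => rw [← hg]
  exact smul_dO_smul ϕ g O T₀ (h • T₀)

theorem tO_one (O : Finset (G ⧸ H)) : tO ϕ O 1 = 1 := by
  unfold tO
  rw [one_smul, dO_self]

/-- Equivariance of the localized transfer. -/
theorem tO_conj {O : Finset (G ⧸ H)} {g : G} (hg : tr g O = O) (a : G) :
    tO ϕ (tr a O) (a * g * a⁻¹) = tO ϕ O g := by
  have hg' : tr (a * g * a⁻¹) (tr a O) = tr a O := by
    rw [← tr_mul, inv_mul_cancel_right, tr_mul, hg]
  rw [tO_def ϕ hg' (a • (default : H.LeftTransversal)), ← mul_smul, inv_mul_cancel_right, mul_smul]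
  rw [smul_dO_smul]
  rfl

theorem tO_union {O₁ O₂ : Finset (G ⧸ H)} (h : Disjoint O₁ O₂) (g : G) :
    tO ϕ (O₁ ∪ O₂) g = tO ϕ O₁ g * tO ϕ O₂ g := dO_union ϕ h _ _

theorem tO_biUnion {ι : Type*} (s : Finset ι) (f : ι → Finset (G ⧸ H))
    (h : (s : Set ι).PairwiseDisjoint f) (g : G) :
    tO ϕ (s.biUnion f) g = ∏ i ∈ s, tO ϕ (f i) g := by
  unfold tO dO
  exact Finset.prod_biUnion h

theorem fac_eq (S T : H.LeftTransversal) (q : G ⧸ H) (s t : G)
    (hs : (S.2.leftQuotientEquiv q : G) = s) (ht : (T.2.leftQuotientEquiv q : G) = t)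
    (h : s⁻¹ * t ∈ H) : fac ϕ S T q = ϕ ⟨s⁻¹ * t, h⟩ := by
  subst hs ht
  rfl

theorem transfer_eq_tO [H.FiniteIndex] [Fintype (G ⧸ H)] (g : G) :
    MonoidHom.transfer ϕ g = tO ϕ Finset.univ g := by
  rw [MonoidHom.transfer_def ϕ (default : H.LeftTransversal) g]
  unfold diff tO dO fac
  simp only
  refine Finset.prod_congr ?_ (fun _ _ => rfl)
  ext q
  simp

theorem tr_univ [Fintype (G ⧸ H)] (g : G) : tr g (Finset.univ : Finset (G ⧸ H)) = Finset.univ := by
  ext q
  simp [mem_tr]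

/-- The localized transfer at the trivial coset is `ϕ` itself. -/
theorem tr_singleton_one {x : G} (hx : x ∈ H) :
    tr x ({((1 : G) : G ⧸ H)} : Finset (G ⧸ H)) = {((1 : G) : G ⧸ H)} := by
  ext q
  rw [mem_tr, Finset.mem_singleton, Finset.mem_singleton]
  constructor
  · intro h
    have h2 : q = x • ((1 : G) : G ⧸ H) := by rw [← h, smul_inv_smul]
    rw [h2, MulAction.Quotient.smul_coe, smul_eq_mul, mul_one, QuotientGroup.eq, mul_one]
    exact H.inv_mem hx
  · intro h
    rw [h, MulAction.Quotient.smul_coe, smul_eq_mul, mul_one, QuotientGroup.eq, mul_one, inv_inv]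
    exact hx

theorem tO_singleton_one {x : G} (hx : x ∈ H) :
    tO ϕ ({((1 : G) : G ⧸ H)} : Finset (G ⧸ H)) x = ϕ ⟨x, hx⟩ := by
  unfold tO dO
  rw [Finset.prod_singleton]
  set T : H.LeftTransversal := default
  set t : G := (T.2.leftQuotientEquiv ((1 : G) : G ⧸ H) : G) with ht
  have htH : t ∈ H := by
    have h1 : ((t : G) : G ⧸ H) = ((1 : G) : G ⧸ H) := T.2.quotientGroupMk_leftQuotientEquiv _
    rw [QuotientGroup.eq, mul_one] at h1
    simpa using H.inv_mem h1
  have hq : x⁻¹ • ((1 : G) : G ⧸ H) = ((1 : G) : G ⧸ H) := by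
    rw [MulAction.Quotient.smul_coe, smul_eq_mul, mul_one, QuotientGroup.eq, mul_one, inv_inv]
    exact hx
  have h2 : ((x • T).2.leftQuotientEquiv ((1 : G) : G ⧸ H) : G) = x * t := by
    rw [smul_apply_eq_smul_apply_inv_smul, hq, smul_eq_mul]
  have hmem : t⁻¹ * (x * t) ∈ H := H.mul_mem (H.inv_mem htH) (H.mul_mem hx htH)
  rw [fac_eq ϕ T (x • T) _ t (x * t) rfl h2 hmem]
  have e : (⟨t⁻¹ * (x * t), hmem⟩ : H) = (⟨t, htH⟩ : H)⁻¹ * ⟨x, hx⟩ * ⟨t, htH⟩ := by
    ext; simp [mul_assoc]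
  rw [e, map_mul, map_mul, map_inv, mul_comm, ← mul_assoc, mul_inv_cancel, one_mul]

theorem tr_zpow {O : Finset (G ⧸ H)} {y : G} (hy : tr y O = O) (k : ℤ) : tr (y ^ k) O = O := by
  have hinv : tr y⁻¹ O = O := by
    conv_lhs => rw [← hy]
    rw [← tr_mul, inv_mul_cancel, tr_one]
  have hnat : ∀ n : ℕ, tr (y ^ n) O = O := by
    intro n
    induction n with
    | zero => rw [pow_zero, tr_one]
    | succ n ih => rw [pow_succ, tr_mul, hy, ih]
  have hnat' : ∀ n : ℕ, tr (y⁻¹ ^ n) O = O := by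
    intro n
    induction n with
    | zero => rw [pow_zero, tr_one]
    | succ n ih => rw [pow_succ, tr_mul, hinv, ih]
  cases k with
  | ofNat n => simpa using hnat n
  | negSucc n =>
    rw [zpow_negSucc, ← inv_pow]
    exact hnat' (n + 1)

/-- **Vanishing lemma**: if `y` has no fixed point in the `y`-invariant set `O` and `ϕ` kills all
the elements `t⁻¹ yⁿ t ∈ H` with `n ≥ 2` dividing the order of `y`, then the localized transfer of
`y` on `O` is trivial. -/
theorem tO_eq_one_of_no_fixed [Finite G] {O : Finset (G ⧸ H)} {y : G} (hy : tr y O = O)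
    (hfix : ∀ q ∈ O, y • q ≠ q)
    (hϕ : ∀ (t : G) (n : ℕ), 2 ≤ n → n ∣ orderOf y → ∀ h : t⁻¹ * y ^ n * t ∈ H, ϕ ⟨_, h⟩ = 1) :
    tO ϕ O y = 1 := by
  rw [tO_def ϕ hy (transferTransversal H y)]
  unfold dO
  refine Finset.prod_eq_one fun q hq => ?_
  -- write `q = y ^ k • q₀.out`
  obtain ⟨⟨q₀, k⟩, hqk⟩ : ∃ a, (quotientEquivSigmaZMod H y).symm a = q :=
    ⟨quotientEquivSigmaZMod H y q, Equiv.symm_apply_apply _ _⟩
  rw [quotientEquivSigmaZMod_symm_apply] at hqk
  subst hqk
  have h1 := transferTransversal_apply' y q₀ k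
  have h2 := transferTransversal_apply'' y q₀ k
  by_cases hk : k = 0
  · rw [if_pos hk] at h2
    subst hk
    -- the orbit representative lies in `O` and is not fixed
    have hq0 : q₀.out ∈ O := by
      have : q₀.out = (y ^ ((ZMod.cast (0 : ZMod (Function.minimalPeriod (y • ·) q₀.out)) : ℤ))) ⁻¹ •
          (y ^ ((ZMod.cast (0 : ZMod (Function.minimalPeriod (y • ·) q₀.out)) : ℤ)) • q₀.out) := by
        rw [inv_smul_smul]
      rw [this, ← mem_tr, tr_zpow hy]
      exact hq
    set n := Function.minimalPeriod (y • ·) q₀.out with hn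
    have hn1 : n ≠ 1 := by
      intro h
      apply hfix _ hq0
      have := Function.isPeriodicPt_minimalPeriod (y • ·) q₀.out
      rw [← hn, h] at this
      exact this
    have hn0 : n ≠ 0 := by
      have : n = MulAction.period y q₀.out := MulAction.period_eq_minimalPeriod.symm
      rw [this]
      exact (MulAction.period_pos_of_orderOf_pos (orderOf_pos y) _).ne'
    have hdvd : n ∣ orderOf y := by
      have : n = MulAction.period y q₀.out := MulAction.period_eq_minimalPeriod.symm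
      rw [this]
      exact MulAction.period_dvd_orderOf y _
    have hmem : (y ^ ((ZMod.cast (0 : ZMod n) : ℤ)) * q₀.out.out)⁻¹ * (y ^ n * q₀.out.out) ∈ H := by
      have := QuotientGroup.out_conj_pow_minimalPeriod_mem H y q₀.out
      simpa [ZMod.cast_zero, mul_assoc] using this
    rw [fac_eq ϕ _ _ _ _ _ h1 h2 hmem]
    have hmem' : q₀.out.out⁻¹ * y ^ n * q₀.out.out ∈ H :=
      QuotientGroup.out_conj_pow_minimalPeriod_mem H y q₀.out
    have e : (⟨_, hmem⟩ : H) = ⟨_, hmem'⟩ := by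
      ext
      simp [ZMod.cast_zero, mul_assoc]
    rw [e]
    exact hϕ _ n (by omega) hdvd hmem'
  · rw [if_neg hk] at h2
    have hmem : (y ^ ((ZMod.cast k : ℤ)) * q₀.out.out)⁻¹ * (y ^ ((ZMod.cast k : ℤ)) * q₀.out.out) ∈ H := by
      rw [inv_mul_cancel]; exact H.one_mem
    rw [fac_eq ϕ _ _ _ _ _ h1 h2 hmem]
    have e : (⟨_, hmem⟩ : H) = 1 := by
      ext
      simp
    rw [e, map_one]

end Cfsg.Agent.Lib.Helper7.LocalTransfer


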