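import Mathlib
import Cfsg.Agent.Lib.Helper7.LocalTransfer
import Cfsg.Agent.Lib.Helper7.SylowLib
import Cfsg.Agent.H1.PResidual

set_option autoImplicit false
set_option linter.unusedVariables false
set_option linter.unusedSectionVars false

namespace Cfsg.Agent.Lib.Helper7.LocalTransfer

open Subgroup MulAction
open scoped Pointwise

attribute [local instance] Classical.propDecidable

variable {G : Type*} [Group G] [Finite G] {H : Subgroup G} {A : Type*} [CommGroup A] (ϕ : H →* A)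

/-- A `Fintype` structure on the coset space. -/
@[instance_reducible]
noncomputable def fintypeQuot : Fintype (G ⧸ H) := Fintype.ofFinite _

attribute [local instance] fintypeQuot

/-- The orbit of the coset `q` under the subgroup `K`, as a finset. -/
noncomputable def orbF (K : Subgroup G) (q : G ⧸ H) : Finset (G ⧸ H) :=
  Finset.univ.filter (fun q' => ∃ k ∈ K, k • q = q')

theorem mem_orbF {K : Subgroup G} {q q' : G ⧸ H} : q' ∈ orbF K q ↔ ∃ k ∈ K, k • q = q' := by
  simp [orbF]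

theorem self_mem_orbF (K : Subgroup G) (q : G ⧸ H) : q ∈ orbF K q :=
  mem_orbF.mpr ⟨1, K.one_mem, one_smul _ _⟩

theorem tr_orbF {K : Subgroup G} {a : G} (ha : a ∈ K) (q : G ⧸ H) : tr a (orbF K q) = orbF K q := by
  ext q'
  rw [mem_tr, mem_orbF, mem_orbF]
  constructor
  · rintro ⟨k, hk, h⟩
    exact ⟨a * k, K.mul_mem ha hk, by rw [mul_smul, h, smul_inv_smul]⟩
  · rintro ⟨k, hk, h⟩
    exact ⟨a⁻¹ * k, K.mul_mem (K.inv_mem ha) hk, by rw [mul_smul, h]⟩

/-- The localized transfer as a homomorphism on a subgroup stabilizing `O`. -/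
noncomputable def tOHom (O : Finset (G ⧸ H)) (K : Subgroup G) (hK : ∀ k ∈ K, tr k O = O) : ↥K →* A where
  toFun k := tO ϕ O (k : G)
  map_one' := tO_one ϕ O
  map_mul' a b := tO_mul ϕ (hK a a.2) (hK b b.2)

theorem tOHom_apply (O : Finset (G ⧸ H)) (K : Subgroup G) (hK : ∀ k ∈ K, tr k O = O) (k : ↥K) :
    tOHom ϕ O K hK k = tO ϕ O (k : G) := rfl

/-- **Block decomposition**: if `M` is normal in `R` with coset representatives `u ^ j`, `j < p`, and
the stabilizer of `q₀` in `R` lies in `M`, then the localized transfer on the `R`-orbit of `q₀`,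
evaluated on `y ∈ M`, is the product of the localized transfers on the `M`-orbit of the conjugates. -/
theorem tO_orbF_eq_prod {R M : Subgroup G} (hMR : M ≤ R)
    (hnorm : ∀ a ∈ R, ∀ m ∈ M, a⁻¹ * m * a ∈ M) {u : G} (hu : u ∈ R) (p : ℕ)
    (hcov : ∀ a ∈ R, ∃ j < p, ∃ m ∈ M, a = u ^ j * m)
    (hdisj : ∀ i < p, ∀ j < p, (u ^ j)⁻¹ * u ^ i ∈ M → i = j)
    (q₀ : G ⧸ H) (hstab : ∀ a ∈ R, a • q₀ = q₀ → a ∈ M) {y : G} (hy : y ∈ M) :
    tO ϕ (orbF R q₀) y = ∏ j ∈ Finset.range p, tO ϕ (orbF M q₀) ((u ^ j)⁻¹ * y * u ^ j) := by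
  have hupow : ∀ j : ℕ, u ^ j ∈ R := fun j => R.pow_mem hu j
  have hunion : orbF R q₀ = (Finset.range p).biUnion (fun j => tr (u ^ j) (orbF M q₀)) := by
    ext q
    rw [mem_orbF, Finset.mem_biUnion]
    constructor
    · rintro ⟨a, ha, rfl⟩
      obtain ⟨j, hj, m, hm, rfl⟩ := hcov a ha
      refine ⟨j, Finset.mem_range.mpr hj, ?_⟩
      rw [mem_tr, mul_smul, inv_smul_smul]
      exact mem_orbF.mpr ⟨m, hm, rfl⟩
    · rintro ⟨j, -, hq⟩
      rw [mem_tr, mem_orbF] at hq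
      obtain ⟨m, hm, hq⟩ := hq
      refine ⟨u ^ j * m, R.mul_mem (hupow j) (hMR hm), ?_⟩
      rw [mul_smul, hq, smul_inv_smul]
  have hdis : ((Finset.range p : Finset ℕ) : Set ℕ).PairwiseDisjoint
      (fun j => tr (u ^ j) (orbF M q₀)) := by
    intro i hi j hj hij
    rw [Function.onFun, Finset.disjoint_left]
    intro q hqi hqj
    apply hij
    rw [mem_tr, mem_orbF] at hqi hqj
    obtain ⟨m, hm, hqi⟩ := hqi
    obtain ⟨m', hm', hqj⟩ := hqj
    have h1 : (m'⁻¹ * ((u ^ j)⁻¹ * u ^ i) * m) • q₀ = q₀ := by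
      rw [mul_smul, mul_smul, mul_smul, hqi, smul_inv_smul, ← hqj, inv_smul_smul]
    have h2 : m'⁻¹ * ((u ^ j)⁻¹ * u ^ i) * m ∈ R :=
      R.mul_mem (R.mul_mem (R.inv_mem (hMR hm')) (R.mul_mem (R.inv_mem (hupow j)) (hupow i))) (hMR hm)
    have h3 := hstab _ h2 h1
    have h4 : (u ^ j)⁻¹ * u ^ i = m' * (m'⁻¹ * ((u ^ j)⁻¹ * u ^ i) * m) * m⁻¹ := by group
    exact hdisj i (Finset.mem_range.mp hi) j (Finset.mem_range.mp hj)
      (h4 ▸ M.mul_mem (M.mul_mem hm' h3) (M.inv_mem hm))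
  rw [hunion, tO_biUnion ϕ _ _ hdis]
  refine Finset.prod_congr rfl fun j _ => ?_
  have hg : (u ^ j)⁻¹ * y * u ^ j ∈ M := hnorm _ (hupow j) y hy
  have h5 := tO_conj ϕ (tr_orbF hg q₀) (u ^ j)
  rw [← h5]
  congr 1
  group

/-- A homomorphism to an abelian group of exponent `p` is trivial on `p'`-elements. -/
theorem hom_eq_one_of_coprime {K : Type*} [Group K] {p : ℕ} (f : K →* A) (hA : ∀ z : A, z ^ p = 1)
    {g : K} (hg : (orderOf g).Coprime p) : f g = 1 := by
  have h1 : orderOf (f g) ∣ orderOf g := orderOf_map_dvd f g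
  have h2 : orderOf (f g) ∣ p := orderOf_dvd_of_pow_eq_one (hA _)
  have h3 : orderOf (f g) = 1 := Nat.eq_one_of_dvd_coprimes hg h1 h2
  exact orderOf_eq_one_iff.mp h3

/-- Two homomorphisms from `H` to an abelian group of exponent `p` that agree on a Sylow
`p`-subgroup are equal. -/
theorem hom_ext_of_sylow {p : ℕ} [Fact p.Prime] (P : Sylow p G) (hPH : (P : Subgroup G) ≤ H)
    (hA : ∀ z : A, z ^ p = 1) (f₁ f₂ : H →* A)
    (h : ∀ x (hx : x ∈ (P : Subgroup G)), f₁ ⟨x, hPH hx⟩ = f₂ ⟨x, hPH hx⟩) : f₁ = f₂ := by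
  obtain ⟨R, hR⟩ := (Cfsg.Agent.Lib.Helper7.IsSylowIn.of_sylow_le P hPH).exists_sylow
  have h1 : Cfsg.pResidual p ↥H ≤ MonoidHom.eqLocus f₁ f₂ := by
    unfold Cfsg.pResidual
    rw [Subgroup.closure_le]
    intro g hg
    have hg' : (orderOf g).Coprime p := hg
    show f₁ g = f₂ g
    rw [hom_eq_one_of_coprime f₁ hA hg', hom_eq_one_of_coprime f₂ hA hg']
  have h2 : (R : Subgroup ↥H) ≤ MonoidHom.eqLocus f₁ f₂ := by
    rw [hR]
    intro x hx
    exact h x.1 (Subgroup.mem_subgroupOf.mp hx)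
  have h3 : MonoidHom.eqLocus f₁ f₂ = ⊤ := by
    rw [eq_top_iff, ← Cfsg.Agent.H1.pResidual_sup_sylow R]
    exact sup_le h1 h2
  ext x
  have : x ∈ MonoidHom.eqLocus f₁ f₂ := h3 ▸ Subgroup.mem_top x
  exact this

/-- **Induction on the order**: if the transfer agrees with `ϕ` on an element `x` of the Sylow subgroup
`P` as soon as `ϕ` is `G`-stable on the `p`-elements of `H` of smaller order, then the transfer
restricted to `H` is `ϕ`. -/
theorem transfer_eq_of_step {p : ℕ} [Fact p.Prime] (P : Sylow p G) (hPH : (P : Subgroup G) ≤ H)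
    (hA : ∀ z : A, z ^ p = 1)
    (step : ∀ x (hx : x ∈ (P : Subgroup G)),
      (∀ a b : G, ∀ (ha : a ∈ H) (hb : b ∈ H), (∃ g : G, b = g * a * g⁻¹) → (∃ k, orderOf a = p ^ k) →
        orderOf a < orderOf x → ϕ ⟨a, ha⟩ = ϕ ⟨b, hb⟩) →
      MonoidHom.transfer ϕ x = ϕ ⟨x, hPH hx⟩) :
    ∀ h (hh : h ∈ H), MonoidHom.transfer ϕ h = ϕ ⟨h, hh⟩ := by
  have hSyl := Cfsg.Agent.Lib.Helper7.IsSylowIn.of_sylow_le P hPH
  -- part (i): on `P`
  have key : ∀ n : ℕ, ∀ x (hx : x ∈ (P : Subgroup G)), orderOf x = n →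
      MonoidHom.transfer ϕ x = ϕ ⟨x, hPH hx⟩ := by
    intro n
    induction n using Nat.strong_induction_on with
    | _ n ih =>
      intro x hx hxn
      apply step x hx
      -- `ϕ` agrees with the transfer on `p`-elements of `H` of smaller order
      have aux : ∀ c (hc : c ∈ H), (∃ k, orderOf c = p ^ k) → orderOf c < n →
          ϕ ⟨c, hc⟩ = MonoidHom.transfer ϕ c := by
        intro c hc ⟨k, hk⟩ hcn
        have hpg : IsPGroup p ↥(Subgroup.zpowers c) := by
          apply IsPGroup.of_card (n := k)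
          rw [Nat.card_zpowers, hk]
        obtain ⟨Q, hQ, hcQ⟩ := Cfsg.Agent.Lib.Helper7.exists_isSylowIn_ge hpg
          (show Subgroup.zpowers c ≤ H by rw [Subgroup.zpowers_le]; exact hc)
        obtain ⟨h, hh, hQP⟩ := hSyl.conj hQ
        have hcQ' : c ∈ Q := hcQ (Subgroup.mem_zpowers c)
        rw [hQP] at hcQ'
        obtain ⟨c', hc', hcc'⟩ := hcQ'
        have hcc : c = h * c' * h⁻¹ := by rw [← hcc']; rfl
        have hord : orderOf c' = orderOf c := by
          rw [← hcc']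
          exact (MulEquiv.orderOf_eq (MulAut.conj h) c').symm
        have h1 := ih (orderOf c') (hord ▸ hcn) c' hc' rfl
        have e1 : (⟨c, hc⟩ : H) = ⟨h, hh⟩ * ⟨c', hPH hc'⟩ * ⟨h, hh⟩⁻¹ := by
          ext; simp [hcc]
        rw [e1, map_mul, map_mul, map_inv, mul_comm, ← mul_assoc, inv_mul_cancel, one_mul, ← h1, hcc,
          map_mul, map_mul, map_inv, mul_comm, ← mul_assoc, inv_mul_cancel, one_mul]
      intro a b ha hb ⟨g, hg⟩ hap han
      rw [hxn] at han
      have hbp : ∃ k, orderOf b = p ^ k := by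
        obtain ⟨k, hk⟩ := hap
        refine ⟨k, ?_⟩
        rw [hg, ← hk]
        exact MulEquiv.orderOf_eq (MulAut.conj g) a
      have hbn : orderOf b < n := by
        rw [hg]
        have : orderOf (g * a * g⁻¹) = orderOf a := MulEquiv.orderOf_eq (MulAut.conj g) a
        rw [this]; exact han
      rw [aux a ha hap han, aux b hb hbp hbn, hg, map_mul, map_mul, map_inv, mul_comm, ← mul_assoc,
        inv_mul_cancel, one_mul]
  -- part (ii): on `H`
  have h2 := hom_ext_of_sylow P hPH hA ((MonoidHom.transfer ϕ).comp H.subtype) ϕ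
    (fun x hx => key _ x hx rfl)
  intro h hh
  have := congrArg (fun f : H →* A => f ⟨h, hh⟩) h2
  exact this

end Cfsg.Agent.Lib.Helper7.LocalTransfer

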