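import Mathlib
import Cfsg.Agent.Lib.Helper7.TransferInduction
import Cfsg.Agent.H1.PGroup

set_option autoImplicit false
set_option linter.unusedVariables false
set_option linter.unusedSectionVars false

namespace Cfsg.Agent.Lib.Helper7.LocalTransfer

open Subgroup MulAction
open scoped Pointwise

attribute [local instance] Classical.propDecidable

variable {G : Type*} [Group G] [Finite G] {H : Subgroup G} {A : Type*} [CommGroup A] (ϕ : H →* A)

attribute [local instance] fintypeQuot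

theorem tO_empty (g : G) : tO ϕ (∅ : Finset (G ⧸ H)) g = 1 := by
  unfold tO dO
  exact Finset.prod_empty

theorem tr_sdiff (g : G) (O₁ O₂ : Finset (G ⧸ H)) : tr g (O₁ \ O₂) = tr g O₁ \ tr g O₂ := by
  ext q
  simp only [mem_tr, Finset.mem_sdiff]

theorem orbF_subset {K : Subgroup G} {O : Finset (G ⧸ H)} (hO : ∀ k ∈ K, tr k O = O) {q : G ⧸ H}
    (hq : q ∈ O) : orbF K q ⊆ O := by
  intro q' hq'
  obtain ⟨k, hk, rfl⟩ := mem_orbF.mp hq'
  rw [← hO k hk, mem_tr, inv_smul_smul]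
  exact hq

/-- If the localized transfer of `x` is trivial on each `K`-orbit contained in the `K`-stable set `O`,
then it is trivial on `O`. -/
theorem tO_eq_one_of_orbits (K : Subgroup G) (x : G) :
    ∀ (n : ℕ) (O : Finset (G ⧸ H)), O.card = n → (∀ k ∈ K, tr k O = O) →
      (∀ q ∈ O, tO ϕ (orbF K q) x = 1) → tO ϕ O x = 1 := by
  intro n
  induction n using Nat.strong_induction_on with
  | _ n ih =>
    intro O hcard hO h
    by_cases hemp : O = ∅
    · rw [hemp]; exact tO_empty ϕ x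
    · obtain ⟨q, hq⟩ := Finset.nonempty_iff_ne_empty.mpr hemp
      have hsub := orbF_subset hO hq
      have hdisj : Disjoint (orbF K q) (O \ orbF K q) := Finset.disjoint_sdiff
      have hunion : O = orbF K q ∪ (O \ orbF K q) := (Finset.union_sdiff_of_subset hsub).symm
      rw [hunion, tO_union ϕ hdisj, h q hq, one_mul]
      apply ih (O \ orbF K q).card ?_ _ rfl
      · intro k hk
        rw [tr_sdiff, hO k hk, tr_orbF hk]
      · intro q' hq'
        exact h q' (Finset.mem_sdiff.mp hq').1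
      · rw [← hcard]
        apply Finset.card_lt_card
        rw [Finset.ssubset_iff_of_subset Finset.sdiff_subset]
        exact ⟨q, hq, fun hq' => (Finset.mem_sdiff.mp hq').2 (self_mem_orbF K q)⟩

/-- Elements outside a normal subgroup containing a point stabilizer have no fixed point on the
orbit. -/
theorem no_fixed_of_not_mem {K M : Subgroup G} (hnorm : ∀ a ∈ K, ∀ m ∈ M, a⁻¹ * m * a ∈ M)
    (q₀ : G ⧸ H) (hstab : ∀ a ∈ K, a • q₀ = q₀ → a ∈ M) {y : G} (hyK : y ∈ K) (hyM : y ∉ M) :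
    ∀ q ∈ orbF K q₀, y • q ≠ q := by
  intro q hq hfix
  obtain ⟨k, hk, rfl⟩ := mem_orbF.mp hq
  apply hyM
  have h1 : (k⁻¹ * y * k) • q₀ = q₀ := by
    rw [mul_smul, mul_smul, hfix, inv_smul_smul]
  have h2 := hstab _ (K.mul_mem (K.mul_mem (K.inv_mem hk) hyK) hk) h1
  have h3 := hnorm k⁻¹ (K.inv_mem hk) _ h2
  have e : k⁻¹⁻¹ * (k⁻¹ * y * k) * k⁻¹ = y := by group
  rwa [e] at h3

/-- In a `p`-subgroup `K`, a proper subgroup `E` lies in a subgroup `M`, normal in `K`, such that the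
powers `u ^ j`, `j < p`, of any `u ∈ K ∖ M` form a transversal of `M` in `K`. -/
theorem exists_max_normal {p : ℕ} [Fact p.Prime] {K : Subgroup G} (hK : IsPGroup p K)
    {E : Subgroup G} (hEK : E ≤ K) (hne : E ≠ K) :
    ∃ M : Subgroup G, E ≤ M ∧ M ≤ K ∧ (∀ a ∈ K, ∀ m ∈ M, a⁻¹ * m * a ∈ M) ∧ M.relIndex K = p ∧
      (∀ u ∈ K, u ∉ M → (∀ a ∈ K, ∃ j < p, ∃ m ∈ M, a = u ^ j * m) ∧
        (∀ i < p, ∀ j < p, (u ^ j)⁻¹ * u ^ i ∈ M → i = j)) := by
  have hp : p.Prime := Fact.out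
  have hE' : E.subgroupOf K ≠ ⊤ := by
    intro h
    rw [Subgroup.subgroupOf_eq_top] at h
    exact hne (le_antisymm hEK h)
  rcases eq_top_or_exists_le_coatom (E.subgroupOf K) with h | ⟨M', hM', hEM'⟩
  · exact absurd h hE'
  obtain ⟨hMn, hMidx⟩ := Cfsg.Agent.H1.coatom_normal_index_of_pgroup hK M' hM'
  have hMn' := hMn
  refine ⟨M'.map K.subtype, ?_, ?_, ?_, ?_, ?_⟩
  · intro e he
    exact ⟨⟨e, hEK he⟩, hEM' (Subgroup.mem_subgroupOf.mpr he), rfl⟩
  · rintro _ ⟨m, -, rfl⟩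
    exact m.2
  · rintro a ha _ ⟨m, hm, rfl⟩
    refine ⟨(⟨a, ha⟩ : ↥K)⁻¹ * m * ⟨a, ha⟩, ?_, rfl⟩
    have := hMn.conj_mem m hm (⟨a, ha⟩ : ↥K)⁻¹
    simpa using this
  · unfold Subgroup.relIndex
    rw [Subgroup.subgroupOf, Subgroup.comap_map_eq_self_of_injective K.subtype_injective, hMidx]
  · intro u hu huM
    have hmem : ∀ (k : ↥K), (k : G) ∈ M'.map K.subtype ↔ k ∈ M' := by
      intro k
      constructor
      · rintro ⟨m, hm, hmk⟩
        have : m = k := Subtype.ext hmk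
        rwa [← this]
      · intro hk
        exact ⟨k, hk, rfl⟩
    have hcard : Nat.card (↥K ⧸ M') = p := by rw [← Subgroup.index_eq_card, hMidx]
    set ub : ↥K ⧸ M' := ((⟨u, hu⟩ : ↥K) : ↥K ⧸ M') with hub
    have hub1 : ub ≠ 1 := by
      intro h
      rw [hub, QuotientGroup.eq_one_iff] at h
      exact huM ((hmem ⟨u, hu⟩).mpr h)
    have hord : orderOf ub = p := by
      have h1 : orderOf ub ∣ p := hcard ▸ orderOf_dvd_natCard ub
      rcases (Nat.dvd_prime hp).mp h1 with h | h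
      · exact absurd (orderOf_eq_one_iff.mp h) hub1
      · exact h
    have hzp : Subgroup.zpowers ub = ⊤ := by
      apply Subgroup.eq_top_of_card_eq
      rw [Nat.card_zpowers, hord, hcard]
    constructor
    · intro a ha
      have h1 : ((⟨a, ha⟩ : ↥K) : ↥K ⧸ M') ∈ Subgroup.zpowers ub := hzp ▸ Subgroup.mem_top _
      obtain ⟨j, hj, hja⟩ := Finset.mem_image.mp (mem_zpowers_iff_mem_range_orderOf.mp h1)
      rw [Finset.mem_range, hord] at hj
      refine ⟨j, hj, (u ^ j)⁻¹ * a, ?_, by group⟩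
      have h2 : ((⟨u, hu⟩ : ↥K) ^ j)⁻¹ * ⟨a, ha⟩ ∈ M' := by
        rw [← QuotientGroup.eq, QuotientGroup.mk_pow]
        exact hja
      have := (hmem _).mpr h2
      simpa using this
    · intro i hi j hj hij
      have h2 : ((⟨u, hu⟩ : ↥K) ^ j)⁻¹ * (⟨u, hu⟩ : ↥K) ^ i ∈ M' := by
        rw [← hmem]
        simpa using hij
      rw [← QuotientGroup.eq, QuotientGroup.mk_pow, QuotientGroup.mk_pow] at h2
      have := pow_injOn_Iio_orderOf (x := ub) (by rw [hord]; exact Set.mem_Iio.mpr hj)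
        (by rw [hord]; exact Set.mem_Iio.mpr hi) h2
      exact this.symm

/-- **Orbit step**: the localized transfer of `x ∈ K` (a `p`-subgroup) on a non-trivial `K`-orbit is
trivial, provided `ϕ` kills the conjugates of proper powers of `x`, and the block products vanish. -/
theorem tO_orbF_eq_one {p : ℕ} [Fact p.Prime] {K : Subgroup G} (hK : IsPGroup p K) (q₀ : G ⧸ H)
    (hq₀ : ∃ k ∈ K, k • q₀ ≠ q₀) {x : G} (hx : x ∈ K)
    (hϕ : ∀ (t : G) (n : ℕ), 2 ≤ n → n ∣ orderOf x → ∀ h : t⁻¹ * x ^ n * t ∈ H, ϕ ⟨_, h⟩ = 1)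
    (hblock : ∀ M : Subgroup G, M ≤ K → (∀ a ∈ K, ∀ m ∈ M, a⁻¹ * m * a ∈ M) → M.relIndex K = p →
      (∀ a ∈ K, a • q₀ = q₀ → a ∈ M) → x ∈ M →
      ∃ u ∈ K, u ∉ M ∧ ∏ j ∈ Finset.range p, tO ϕ (orbF M q₀) ((u ^ j)⁻¹ * x * u ^ j) = 1) :
    tO ϕ (orbF K q₀) x = 1 := by
  have hEK : K ⊓ MulAction.stabilizer G q₀ ≤ K := inf_le_left
  have hne : K ⊓ MulAction.stabilizer G q₀ ≠ K := by
    intro h
    obtain ⟨k, hk, hkq⟩ := hq₀
    have : k ∈ K ⊓ MulAction.stabilizer G q₀ := by rw [h]; exact hk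
    exact hkq (MulAction.mem_stabilizer_iff.mp this.2)
  obtain ⟨M, hEM, hMK, hnorm, hidx, hu⟩ := exists_max_normal hK hEK hne
  have hstab : ∀ a ∈ K, a • q₀ = q₀ → a ∈ M := fun a ha haq =>
    hEM ⟨ha, MulAction.mem_stabilizer_iff.mpr haq⟩
  by_cases hxM : x ∈ M
  · obtain ⟨u, huK, huM, hprod⟩ := hblock M hMK hnorm hidx hstab hxM
    obtain ⟨hcov, hdisj⟩ := hu u huK huM
    rw [tO_orbF_eq_prod ϕ hMK hnorm huK p hcov hdisj q₀ hstab hxM]
    exact hprod
  · exact tO_eq_one_of_no_fixed ϕ (tr_orbF hx q₀) (no_fixed_of_not_mem hnorm q₀ hstab hx hxM) hϕ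

/-- **Reduction of the transfer to the block products**. -/
theorem transfer_eq_of_blocks {p : ℕ} [Fact p.Prime] {K : Subgroup G} (hK : IsPGroup p K)
    (hKH : K ≤ H) {x : G} (hx : x ∈ K)
    (hfix : ∀ q : G ⧸ H, q ≠ ((1 : G) : G ⧸ H) → ∃ k ∈ K, k • q ≠ q)
    (hϕ : ∀ (t : G) (n : ℕ), 2 ≤ n → n ∣ orderOf x → ∀ h : t⁻¹ * x ^ n * t ∈ H, ϕ ⟨_, h⟩ = 1)
    (hblock : ∀ q₀ : G ⧸ H, q₀ ≠ ((1 : G) : G ⧸ H) →
      ∀ M : Subgroup G, M ≤ K → (∀ a ∈ K, ∀ m ∈ M, a⁻¹ * m * a ∈ M) → M.relIndex K = p →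
      (∀ a ∈ K, a • q₀ = q₀ → a ∈ M) → x ∈ M →
      ∃ u ∈ K, u ∉ M ∧ ∏ j ∈ Finset.range p, tO ϕ (orbF M q₀) ((u ^ j)⁻¹ * x * u ^ j) = 1) :
    MonoidHom.transfer ϕ x = ϕ ⟨x, hKH hx⟩ := by
  rw [transfer_eq_tO]
  set one : Finset (G ⧸ H) := {((1 : G) : G ⧸ H)} with hone
  have hunion : (Finset.univ : Finset (G ⧸ H)) = one ∪ (Finset.univ \ one) :=
    (Finset.union_sdiff_of_subset (Finset.subset_univ _)).symm
  rw [hunion, tO_union ϕ Finset.disjoint_sdiff, tO_singleton_one ϕ (hKH hx)]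
  have h1 : tO ϕ (Finset.univ \ one) x = 1 := by
    apply tO_eq_one_of_orbits ϕ K x _ _ rfl
    · intro k hk
      rw [tr_sdiff, tr_univ, tr_singleton_one (hKH hk)]
    · intro q hq
      have hq1 : q ≠ ((1 : G) : G ⧸ H) := by
        intro h
        rw [Finset.mem_sdiff, hone, Finset.mem_singleton] at hq
        exact hq.2 h
      exact tO_orbF_eq_one ϕ hK q (hfix q hq1) hx hϕ (hblock q hq1)
  rw [h1, mul_one]

end Cfsg.Agent.Lib.Helper7.LocalTransfer
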