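import Mathlib
import Cfsg.Prelude.Def_Transfer
import Cfsg.Agent.Lib.Helper7.TransferOrbit
import Cfsg.Agent.Lib.Helper7.TateH
import Cfsg.Agent.Lib.Helper7.IterComm
import Cfsg.Agent.H1.PGroup

set_option autoImplicit false
set_option linter.unusedVariables false
set_option linter.unusedSectionVars false

universe u

namespace Cfsg.Agent.Lib.Helper7.WeakClosureTransfer

open Cfsg Cfsg.Agent.Lib.Helper7 Cfsg.Agent.Lib.Helper7.LocalTransfer
open scoped Pointwise

/-- A subgroup of prime index is a coatom. -/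
theorem isCoatom_of_index_prime {X : Type*} [Group X] (A : Subgroup X) (h : A.index.Prime) :
    IsCoatom A := by
  constructor
  · intro htop
    rw [htop, Subgroup.index_top] at h
    exact Nat.not_prime_one h
  · intro B hAB
    have h1 := Subgroup.relIndex_mul_index hAB.le
    have h2 : B.index ∣ A.index := Subgroup.index_dvd_of_le hAB.le
    rcases (Nat.dvd_prime h).mp h2 with h3 | h3
    · exact Subgroup.index_eq_one.mp h3
    · exfalso
      rw [h3] at h1
      have h4 : A.relIndex B = 1 := by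
        have hpos : 0 < A.index := h.pos
        nlinarith [Nat.eq_of_mul_eq_mul_right hpos (by rw [h1, one_mul] : A.relIndex B * A.index = 1 * A.index)]
      exact (not_le_of_gt hAB) (Subgroup.relIndex_eq_one.mp h4)

/-- A homomorphism from a finite group to an abelian group of exponent `p` kills the Frattini
subgroup. -/
theorem frattini_le_ker {Q : Type*} [Group Q] [Finite Q] {p : ℕ} [Fact p.Prime] {Z : Type*}
    [CommGroup Z] (hZ : ∀ z : Z, z ^ p = 1) (f : Q →* Z) : frattini Q ≤ f.ker := by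
  have hsurj : Function.Surjective f.rangeRestrict := f.rangeRestrict_surjective
  have h1 := frattini_le_comap_frattini_of_surjective hsurj
  have hfin : Finite ↥f.range := Finite.of_surjective _ hsurj
  have h2 : frattini ↥f.range = ⊥ := by
    apply Cfsg.Agent.H1.frattini_eq_bot_of_elementary_abelian (p := p)
    · intro a b
      exact mul_comm a b
    · intro v
      apply Subtype.ext
      simpa using hZ v.1
  intro x hx
  have h3 := h1 hx
  rw [Subgroup.mem_comap, h2, Subgroup.mem_bot] at h3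
  rw [MonoidHom.mem_ker]
  have := congrArg Subtype.val h3
  simpa using this

theorem zpow_neg_one_pow_eq_one {Z : Type*} [Group Z] {a : Z} (n : ℕ) (h : a ^ ((-1 : ℤ) ^ n) = 1) :
    a = 1 := by
  rcases neg_one_pow_eq_or ℤ n with h1 | h1
  · rw [h1, zpow_one] at h; exact h
  · rw [h1, zpow_neg_one, inv_eq_one] at h; exact h

section
variable {G : Type u} [Group G] [Finite G] {p : ℕ} [Fact p.Prime]

theorem conj_mem_of_weaklyClosed (S : Sylow p G) (W : Subgroup G)
    (hW : IsWeaklyClosed W (S : Subgroup G)) {s : G} (hs : s ∈ (S : Subgroup G)) {w : G}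
    (hw : w ∈ W) : s * w * s⁻¹ ∈ W := by
  have h1 : W.map (MulAut.conj s).toMonoidHom ≤ (S : Subgroup G) := by
    rintro _ ⟨w', hw', rfl⟩
    exact (S : Subgroup G).mul_mem ((S : Subgroup G).mul_mem hs (hW.1 hw')) ((S : Subgroup G).inv_mem hs)
  have h2 := hW.2 s h1
  rw [← h2]
  exact ⟨w, hw, rfl⟩

theorem le_normalizer_of_weaklyClosed (S : Sylow p G) (W : Subgroup G)
    (hW : IsWeaklyClosed W (S : Subgroup G)) :
    (S : Subgroup G) ≤ Subgroup.normalizer (W : Set G) := by
  intro s hs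
  rw [Subgroup.mem_normalizer_iff]
  intro w
  constructor
  · intro hw
    exact conj_mem_of_weaklyClosed S W hW hs hw
  · intro hw
    have := conj_mem_of_weaklyClosed S W hW ((S : Subgroup G).inv_mem hs) hw
    simpa [mul_assoc] using this

/-- `W` has no fixed point on the nontrivial cosets of its normalizer. -/
theorem exists_not_fixed (S : Sylow p G) (W : Subgroup G)
    (hW : IsWeaklyClosed W (S : Subgroup G)) (q : G ⧸ Subgroup.normalizer (W : Set G))
    (hq : q ≠ ((1 : G) : G ⧸ Subgroup.normalizer (W : Set G))) : ∃ w ∈ W, w • q ≠ q := by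
  by_contra hcon
  push Not at hcon
  apply hq
  obtain ⟨g, rfl⟩ := QuotientGroup.mk_surjective q
  set H := Subgroup.normalizer (W : Set G) with hH
  have hSH : (S : Subgroup G) ≤ H := le_normalizer_of_weaklyClosed S W hW
  -- `g⁻¹ W g ≤ H`
  have h1 : W.map (MulAut.conj g⁻¹).toMonoidHom ≤ H := by
    rintro _ ⟨w, hw, rfl⟩
    have h2 := hcon w hw
    rw [MulAction.Quotient.smul_mk, QuotientGroup.eq] at h2
    have e : (MulAut.conj g⁻¹).toMonoidHom w = ((w • g)⁻¹ * g)⁻¹ := by
      simp [smul_eq_mul, mul_assoc]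
    rw [e]
    exact H.inv_mem h2
  have hpg : IsPGroup p ↥(W.map (MulAut.conj g⁻¹).toMonoidHom) :=
    (S.2.to_le hW.1).map _
  obtain ⟨Q, hQ, hWQ⟩ := exists_isSylowIn_ge hpg h1
  obtain ⟨h, hh, hQS⟩ := (IsSylowIn.of_sylow_le S hSH).conj hQ
  -- `h⁻¹ Q h = S`
  have h3 : W.map (MulAut.conj (h⁻¹ * g⁻¹)).toMonoidHom ≤ (S : Subgroup G) := by
    rintro _ ⟨w, hw, rfl⟩
    have h4 : (MulAut.conj g⁻¹).toMonoidHom w ∈ Q := hWQ ⟨w, hw, rfl⟩
    rw [hQS] at h4
    obtain ⟨s, hs, hs'⟩ := h4
    have e : (MulAut.conj (h⁻¹ * g⁻¹)).toMonoidHom w = s := by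
      have : (MulAut.conj h).toMonoidHom s = (MulAut.conj g⁻¹).toMonoidHom w := hs'
      simp only [MulEquiv.coe_toMonoidHom, MulAut.conj_apply] at this ⊢
      have e2 : s = h⁻¹ * (h * s * h⁻¹) * h := by group
      rw [e2, this]
      group
    rw [e]; exact hs
  have h5 := hW.2 _ h3
  have h6 : h⁻¹ * g⁻¹ ∈ H := by
    rw [hH, Subgroup.mem_normalizer_iff]
    intro w
    constructor
    · intro hw
      rw [← h5]
      exact ⟨w, hw, rfl⟩
    · intro hw
      rw [← h5] at hw
      obtain ⟨w', hw', hww'⟩ := hw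
      have : w' = w := by
        have := hww'
        simp only [MulEquiv.coe_toMonoidHom, MulAut.conj_apply] at this
        exact mul_left_cancel (mul_right_cancel this)
      rwa [← this]
  have h7 : g⁻¹ ∈ H := by
    have := H.mul_mem hh h6
    simpa using this
  rw [QuotientGroup.eq, mul_one]
  exact h7

/-- **Wielandt–Yoshida–Glauberman transfer step**: if no iterated commutator `[x, z; p-1]` lies in
`W₀ ∖ Φ(W₀)` for a maximal subgroup `W₀` of the weakly closed subgroup `W`, then every character of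
order `p` of `N_G(W)` agrees with the restriction of its transfer. -/
theorem transfer_eq_of_weaklyClosed (S : Sylow p G) (W : Subgroup G)
    (hW : IsWeaklyClosed W (S : Subgroup G))
    (hno : ¬ ∃ x ∈ (S : Subgroup G), ∃ z ∈ W, ∃ W₀ : Subgroup ↥W, IsCoatom W₀ ∧
      (fun y : G => y⁻¹ * z⁻¹ * y * z)^[p - 1] x ∈ W₀.map W.subtype ∧
      (fun y : G => y⁻¹ * z⁻¹ * y * z)^[p - 1] x ∉
        ((frattini ↥W₀).map W₀.subtype).map W.subtype)
    (Z : Type*) [CommGroup Z] (hZ : Nat.card Z = p)
    (lam : ↥(Subgroup.normalizer (W : Set G)) →* Z) :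
    ∀ h (hh : h ∈ Subgroup.normalizer (W : Set G)), MonoidHom.transfer lam h = lam ⟨h, hh⟩ := by
  have hp : p.Prime := Fact.out
  have hfinZ : Finite Z := Nat.finite_of_card_ne_zero (by rw [hZ]; exact hp.ne_zero)
  have hA : ∀ z : Z, z ^ p = 1 := fun z => hZ ▸ pow_card_eq_one'
  have hSH : (S : Subgroup G) ≤ Subgroup.normalizer (W : Set G) :=
    le_normalizer_of_weaklyClosed S W hW
  apply transfer_eq_of_step lam S hSH hA
  intro x hxS IH
  -- the group `K = W ⟨x⟩`
  set K : Subgroup G := W ⊔ Subgroup.zpowers x with hKdef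
  have hWK : W ≤ K := le_sup_left
  have hxK : x ∈ K := (le_sup_right : Subgroup.zpowers x ≤ K) (Subgroup.mem_zpowers x)
  have hKS : K ≤ (S : Subgroup G) := sup_le hW.1 (by rw [Subgroup.zpowers_le]; exact hxS)
  have hK : IsPGroup p ↥K := S.2.to_le hKS
  have hKH : K ≤ Subgroup.normalizer (W : Set G) := hKS.trans hSH
  have e1 : (⟨x, hSH hxS⟩ : ↥(Subgroup.normalizer (W : Set G))) = ⟨x, hKH hxK⟩ := rfl
  rw [e1]
  apply transfer_eq_of_blocks lam hK hKH hxK
  · -- no fixed points
    intro q hq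
    obtain ⟨w, hw, hwq⟩ := exists_not_fixed S W hW q hq
    exact ⟨w, hWK hw, hwq⟩
  · -- vanishing of `lam` on conjugates of proper powers
    intro t n hn hnx hmem
    obtain ⟨k, hk⟩ := (IsPGroup.iff_orderOf.mp S.2) ⟨x, hxS⟩
    rw [Subgroup.orderOf_mk] at hk
    have hpn : p ∣ n := by
      rw [hk] at hnx
      obtain ⟨j, -, rfl⟩ := (Nat.dvd_prime_pow hp).mp hnx
      rcases Nat.eq_zero_or_pos j with h0 | h0
      · subst h0; rw [pow_zero] at hn; omega
      · exact dvd_pow_self p h0.ne'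
    have hxn : x ^ n ∈ Subgroup.normalizer (W : Set G) := Subgroup.pow_mem _ (hSH hxS) n
    have hord : orderOf (x ^ n) < orderOf x := by
      rw [orderOf_pow, Nat.gcd_eq_right hnx]
      exact Nat.div_lt_self (orderOf_pos x) hn
    have hordp : ∃ j, orderOf (x ^ n) = p ^ j := by
      have : orderOf (x ^ n) ∣ p ^ k := hk ▸ orderOf_pow_dvd n
      obtain ⟨j, -, hj⟩ := (Nat.dvd_prime_pow hp).mp this
      exact ⟨j, hj⟩
    have h1 := IH (x ^ n) (t⁻¹ * x ^ n * t) hxn hmem ⟨t⁻¹, by group⟩ hordp hord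
    rw [← h1]
    have e2 : (⟨x ^ n, hxn⟩ : ↥(Subgroup.normalizer (W : Set G))) = ⟨x, hSH hxS⟩ ^ n := rfl
    obtain ⟨m, rfl⟩ := hpn
    rw [e2, map_pow, pow_mul, hA, one_pow]
  · -- the block products
    intro q₀ hq₀ M hMK hnorm hidx hstab hxM
    -- an element of `W` outside `M`
    obtain ⟨z, hzW, hzM⟩ : ∃ z ∈ W, z ∉ M := by
      by_contra hcon
      push Not at hcon
      have hKM : K ≤ M := sup_le hcon (by rw [Subgroup.zpowers_le]; exact hxM)
      have : M.relIndex K = 1 := Subgroup.relIndex_eq_one.mpr hKM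
      rw [this] at hidx
      exact hp.one_lt.ne hidx
    refine ⟨z, hWK hzW, hzM, ?_⟩
    by_contra hprod
    apply hno
    set ω : G → Z := tO lam (orbF M q₀) with hω
    have hmul : ∀ a ∈ M, ∀ b ∈ M, ω (a * b) = ω a * ω b := fun a ha b hb =>
      tO_mul lam (tr_orbF ha q₀) (tr_orbF hb q₀)
    have hz : ∀ m ∈ M, z⁻¹ * m * z ∈ M := fun m hm => hnorm z (hWK hzW) m hm
    have hiter := IterComm.omega_iter_comm hA M ω hmul z hz hxM 0
    simp only [pow_zero, inv_one, one_mul, mul_one, zero_add] at hiter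
    set c : G := (fun y : G => y⁻¹ * z⁻¹ * y * z)^[p - 1] x with hc
    have hωc : ω c ≠ 1 := by
      intro h
      rw [h] at hiter
      exact hprod (zpow_neg_one_pow_eq_one _ hiter.symm)
    have hcM : c ∈ M := IterComm.iter_comm_mem M z hz hxM (p - 1)
    have hcW : c ∈ W := by
      have hp1 : p - 1 = (p - 2) + 1 := by have := hp.two_le; omega
      rw [hc, hp1, Function.iterate_succ_apply']
      set y : G := (fun y : G => y⁻¹ * z⁻¹ * y * z)^[p - 2] x with hy
      have hyM : y ∈ M := IterComm.iter_comm_mem M z hz hxM (p - 2)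
      have hyS : y⁻¹ ∈ (S : Subgroup G) := (S : Subgroup G).inv_mem (hKS (hMK hyM))
      have h1 := conj_mem_of_weaklyClosed S W hW hyS (W.inv_mem hzW)
      rw [inv_inv] at h1
      exact W.mul_mem h1 hzW
    -- the maximal subgroup `W₀ = M ∩ W` of `W`
    have hrel : (M ⊓ W).relIndex W = p := by
      rw [Subgroup.inf_relIndex_right]
      have h1 : M.relIndex W ≤ p := by
        rw [← hidx]
        exact Subgroup.relIndex_le_of_le_right hWK (by rw [hidx]; exact hp.ne_zero)
      have h2 : M.relIndex W ≠ 1 := by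
        intro h
        exact hzM (Subgroup.relIndex_eq_one.mp h hzW)
      have h3 : M.relIndex W ∣ Nat.card W := Subgroup.relIndex_dvd_card M W
      obtain ⟨j, hj⟩ := (IsPGroup.iff_card.mp (S.2.to_le hW.1))
      rw [hj] at h3
      obtain ⟨i, -, hi⟩ := (Nat.dvd_prime_pow hp).mp h3
      rw [hi] at h1 h2 ⊢
      rcases Nat.lt_or_ge i 2 with hlt | hge
      · interval_cases i
        · simp at h2
        · simp
      · exfalso
        have : p ^ 2 ≤ p ^ i := Nat.pow_le_pow_right hp.pos hge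
        nlinarith [hp.two_le]
    have hcoatom : IsCoatom ((M ⊓ W).subgroupOf W) := by
      apply isCoatom_of_index_prime
      show ((M ⊓ W).relIndex W).Prime
      rw [hrel]; exact hp
    refine ⟨x, hxS, z, hzW, (M ⊓ W).subgroupOf W, hcoatom, ?_, ?_⟩
    · exact ⟨⟨c, hcW⟩, Subgroup.mem_subgroupOf.mpr ⟨hcM, hcW⟩, rfl⟩
    · rintro ⟨_, ⟨φ, hφ, rfl⟩, hφc⟩
      -- the character of `W₀`
      let ω₀ : ↥((M ⊓ W).subgroupOf W) →* Z :=
        { toFun := fun w => ω ((w : ↥W) : G)
          map_one' := IterComm.omega_one M ω hmul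
          map_mul' := fun a b => hmul _ (Subgroup.mem_subgroupOf.mp a.2).1 _
            (Subgroup.mem_subgroupOf.mp b.2).1 }
      have h1 := frattini_le_ker hA ω₀ hφ
      rw [MonoidHom.mem_ker] at h1
      apply hωc
      have hcφ : c = (((φ : ↥((M ⊓ W).subgroupOf W)) : ↥W) : G) := hφc.symm
      rw [hcφ]
      exact h1

/-- **Glauberman's weakly closed transfer theorem** (Wielandt–Yoshida form). -/
theorem weaklyClosed_main (S : Sylow p G) (W : Subgroup G)
    (hW : IsWeaklyClosed W (S : Subgroup G))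
    (h : (S : Subgroup G) ⊓ commutator G ≠ (S : Subgroup G) ⊓
      ⁅Subgroup.normalizer (W : Set G), Subgroup.normalizer (W : Set G)⁆) :
    ∃ x ∈ (S : Subgroup G), ∃ z ∈ W, ∃ W₀ : Subgroup ↥W, IsCoatom W₀ ∧
      (fun y : G => y⁻¹ * z⁻¹ * y * z)^[p - 1] x ∈ W₀.map W.subtype ∧
      (fun y : G => y⁻¹ * z⁻¹ * y * z)^[p - 1] x ∉
        ((frattini ↥W₀).map W₀.subtype).map W.subtype := by
  by_contra hno
  apply h
  have hSH : (S : Subgroup G) ≤ Subgroup.normalizer (W : Set G) :=
    le_normalizer_of_weaklyClosed S W hW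
  have hext : ∀ (Z : Type u) [CommGroup Z], Nat.card Z = p →
      ∀ lam : ↥(Subgroup.normalizer (W : Set G)) →* Z,
      ∃ μ : G →* Z, ∀ h : ↥(Subgroup.normalizer (W : Set G)), μ (h : G) = lam h := by
    intro Z _ hZ lam
    exact ⟨MonoidHom.transfer lam, fun h =>
      transfer_eq_of_weaklyClosed S W hW hno Z hZ lam h.1 h.2⟩
  have h1 := TateH.inf_commutator_le S _ hSH hext
  apply le_antisymm
  · exact le_inf inf_le_left h1
  · apply inf_le_inf_left
    rw [commutator_def]
    exact Subgroup.commutator_mono le_top le_top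

end

end Cfsg.Agent.Lib.Helper7.WeakClosureTransfer
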