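import Mathlib
import Cfsg.Agent.Lib.Helper7.IterComm

set_option autoImplicit false
set_option linter.unusedVariables false
set_option linter.unusedSectionVars false

namespace Cfsg.Agent.Lib.Helper7.WreathQuotient

open Finset Cfsg.Agent.Lib.Helper7.IterComm

section seq
variable {Z : Type*} [CommGroup Z]

/-- The multiplicative forward difference on sequences. -/
def Dm : (ℕ → Z) →* (ℕ → Z) where
  toFun v := fun j => v (j + 1) / v j
  map_one' := by ext j; simp
  map_mul' a b := by ext j; simp [mul_div_mul_comm]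

theorem Dm_apply (v : ℕ → Z) (j : ℕ) : Dm v j = v (j + 1) / v j := rfl

/-- Iterates of `Dm`, as homomorphisms. -/
def Dpow : ℕ → ((ℕ → Z) →* (ℕ → Z))
  | 0 => MonoidHom.id _
  | n + 1 => Dm.comp (Dpow n)

theorem Dpow_apply (n : ℕ) (v : ℕ → Z) : Dpow n v = (Dm)^[n] v := by
  induction n with
  | zero => rfl
  | succ n ih =>
    rw [Function.iterate_succ_apply', ← ih]
    rfl

end seq

section
variable {P : Type*} [Group P] {Z : Type*} [CommGroup Z] (M : Subgroup P) (ω : P → Z)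
  (hmul : ∀ a ∈ M, ∀ b ∈ M, ω (a * b) = ω a * ω b) (u : P) (hu : ∀ m ∈ M, u⁻¹ * m * u ∈ M)

/-- The sequence of values of `ω` on the conjugates of `m` under powers of `u`. -/
def sM : ↥M →* (ℕ → Z) where
  toFun m := fun j => ω ((u ^ j)⁻¹ * (m : P) * u ^ j)
  map_one' := by
    ext j
    simp [omega_one M ω hmul]
  map_mul' a b := by
    ext j
    have e : (u ^ j)⁻¹ * ((a * b : ↥M) : P) * u ^ j =
        ((u ^ j)⁻¹ * (a : P) * u ^ j) * ((u ^ j)⁻¹ * (b : P) * u ^ j) := by
      simp only [Subgroup.coe_mul]; group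
    show ω _ = ω _ * ω _
    rw [e]
    exact hmul _ (conj_pow_mem M u hu j a.2) _ (conj_pow_mem M u hu j b.2)

theorem sM_apply (m : ↥M) (j : ℕ) : sM M ω hmul u hu m j = ω ((u ^ j)⁻¹ * (m : P) * u ^ j) := rfl

/-- The commutator map `m ↦ [m, u]` on `M`. -/
def fM : ↥M → ↥M := fun m => ⟨(m : P)⁻¹ * u⁻¹ * m * u, comm_mem M u hu m.2⟩

theorem sM_fM (m : ↥M) : sM M ω hmul u hu (fM M u hu m) = Dm (sM M ω hmul u hu m) := by
  ext j
  rw [Dm_apply, sM_apply, sM_apply, sM_apply]
  have h1 : (u ^ j)⁻¹ * (m : P) * u ^ j ∈ M := conj_pow_mem M u hu j m.2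
  have h2 : (u ^ (j + 1))⁻¹ * (m : P) * u ^ (j + 1) ∈ M := conj_pow_mem M u hu (j + 1) m.2
  have e : (u ^ j)⁻¹ * ((fM M u hu m : ↥M) : P) * u ^ j =
      ((u ^ j)⁻¹ * (m : P) * u ^ j)⁻¹ * ((u ^ (j + 1))⁻¹ * (m : P) * u ^ (j + 1)) := by
    show (u ^ j)⁻¹ * ((m : P)⁻¹ * u⁻¹ * m * u) * u ^ j = _
    rw [pow_succ]; group
  rw [e, hmul _ (M.inv_mem h1) _ h2, omega_inv M ω hmul h1, mul_comm, div_eq_mul_inv]

theorem sM_fM_iter (m : ↥M) (n : ℕ) :
    sM M ω hmul u hu ((fM M u hu)^[n] m) = (Dm)^[n] (sM M ω hmul u hu m) := by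
  induction n with
  | zero => rfl
  | succ n ih =>
    rw [Function.iterate_succ_apply', Function.iterate_succ_apply', ← ih, sM_fM]

theorem coe_fM_iter (m : ↥M) (n : ℕ) :
    (((fM M u hu)^[n] m : ↥M) : P) = (fun y : P => y⁻¹ * u⁻¹ * y * u)^[n] (m : P) := by
  induction n with
  | zero => rfl
  | succ n ih =>
    rw [Function.iterate_succ_apply', Function.iterate_succ_apply', ← ih]
    rfl

/-- The chain of subgroups `M_i = ker (D^i ∘ s)`. -/
def chainM (i : ℕ) : Subgroup ↥M := ((Dpow (Z := Z) i).comp (sM M ω hmul u hu)).ker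

theorem mem_chainM (i : ℕ) (m : ↥M) :
    m ∈ chainM M ω hmul u hu i ↔ sM M ω hmul u hu ((fM M u hu)^[i] m) = 1 := by
  unfold chainM
  rw [MonoidHom.mem_ker, MonoidHom.comp_apply, sM_fM_iter, Dpow_apply]

theorem chainM_le_succ (i : ℕ) : chainM M ω hmul u hu i ≤ chainM M ω hmul u hu (i + 1) := by
  intro m hm
  rw [mem_chainM] at hm ⊢
  rw [Function.iterate_succ_apply', sM_fM, hm, map_one]

end

theorem zpow_neg_one_pow_ne_one {Z : Type*} [Group Z] {a : Z} (n : ℕ) (h : a ≠ 1) :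
    a ^ ((-1 : ℤ) ^ n) ≠ 1 := by
  intro h'
  apply h
  rcases neg_one_pow_eq_or ℤ n with h1 | h1
  · rw [h1, zpow_one] at h'; exact h'
  · rw [h1, zpow_neg_one, inv_eq_one] at h'; exact h'

section count
variable {P : Type*} [Group P] [Finite P] {p : ℕ} [Fact p.Prime]

theorem card_mul_le_of_lt (hP : IsPGroup p P) {A B : Subgroup P} (h : A < B) :
    p * Nat.card A ≤ Nat.card B := by
  have hp : p.Prime := Fact.out
  obtain ⟨a, ha⟩ := IsPGroup.iff_card.mp (hP.to_subgroup A)
  obtain ⟨b, hb⟩ := IsPGroup.iff_card.mp (hP.to_subgroup B)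
  by_contra hcon
  push Not at hcon
  rw [ha, hb, ← pow_succ'] at hcon
  have hba : b < a + 1 := (Nat.pow_lt_pow_iff_right hp.one_lt).mp hcon
  have hle : Nat.card B ≤ Nat.card A := by
    rw [ha, hb]
    exact Nat.pow_le_pow_right hp.pos (by omega)
  exact h.ne (Subgroup.eq_of_le_of_card_ge h.le hle)

variable {Z : Type*} [CommGroup Z] (hZ : ∀ z : Z, z ^ p = 1) (M : Subgroup P) (ω : P → Z)
  (hmul : ∀ a ∈ M, ∀ b ∈ M, ω (a * b) = ω a * ω b) (u : P) (hu : ∀ m ∈ M, u⁻¹ * m * u ∈ M)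

include hZ in
/-- The kernel of the sequence map has index at least `p ^ p` in `M`. -/
theorem pow_mul_card_ker_le (hP : IsPGroup p P) (hup : u ^ p ∈ M) (y : P) (hy : y ∈ M)
    (hprod : ∏ j ∈ Finset.range p, ω ((u ^ j)⁻¹ * y * u ^ j) ≠ 1) :
    p ^ p * Nat.card (sM M ω hmul u hu).ker ≤ Nat.card M := by
  have hp : p.Prime := Fact.out
  set y' : ↥M := ⟨y, hy⟩ with hy'
  set v : ℕ → Z := sM M ω hmul u hu y' with hv
  -- periodicity
  have hper : ∀ j, v (j + p) = v j := by
    intro j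
    rw [hv, sM_apply, sM_apply]
    have hm : (u ^ j)⁻¹ * y * u ^ j ∈ M := conj_pow_mem M u hu j hy
    have e : (u ^ (j + p))⁻¹ * (y' : P) * u ^ (j + p) = (u ^ p)⁻¹ * ((u ^ j)⁻¹ * y * u ^ j) * u ^ p := by
      rw [pow_add]; show _ * y * _ = _; group
    rw [e, hmul _ (M.mul_mem (M.inv_mem hup) hm) _ hup, hmul _ (M.inv_mem hup) _ hm,
      omega_inv M ω hmul hup, mul_comm (ω (u ^ p))⁻¹, mul_assoc, inv_mul_cancel, mul_one]
  set w : ℕ → Z := fun j => ∏ k ∈ Finset.range p, v (j + k) with hw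
  have hwc : ∀ j, w (j + 1) = w j := by
    intro j
    have h1 : w (j + 1) * v j = w j * v (j + p) := by
      rw [hw]
      show (∏ k ∈ Finset.range p, v (j + 1 + k)) * v j = (∏ k ∈ Finset.range p, v (j + k)) * v (j + p)
      rw [← Finset.prod_range_succ (fun k => v (j + k)) p, Finset.prod_range_succ' (fun k => v (j + k)) p,
        add_zero]
      congr 1
      refine Finset.prod_congr rfl fun k _ => ?_
      congr 1; omega
    rw [hper] at h1
    exact mul_right_cancel h1
  -- the sequence attached to `[y, u; p-1]`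
  set c : ℕ → Z := sM M ω hmul u hu ((fM M u hu)^[p - 1] y') with hc
  have hcw : ∀ j, c j = w j ^ ((-1 : ℤ) ^ (p - 1)) := by
    intro j
    rw [hc, sM_apply, coe_fM_iter]
    exact omega_iter_comm hZ M ω hmul u hu hy j
  have hc1 : c ≠ 1 := by
    intro h
    have h0 : c 0 = 1 := by rw [h]; rfl
    rw [hcw 0] at h0
    refine zpow_neg_one_pow_ne_one (p - 1) ?_ h0
    rw [hw]
    simpa [hv, sM_apply] using hprod
  have hDc : Dm c = 1 := by
    ext j
    rw [Dm_apply, hcw, hcw, hwc, div_self']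
    rfl
  -- strictness of the chain
  have hstrict : ∀ i, i < p → chainM M ω hmul u hu i < chainM M ω hmul u hu (i + 1) := by
    intro i hi
    refine lt_of_le_of_ne (chainM_le_succ M ω hmul u hu i) ?_
    intro heq
    have hmem : (fM M u hu)^[p - 1 - i] y' ∈ chainM M ω hmul u hu (i + 1) := by
      rw [mem_chainM, ← Function.iterate_add_apply]
      have e : i + 1 + (p - 1 - i) = (p - 1) + 1 := by omega
      rw [e, Function.iterate_succ_apply', sM_fM]
      exact hDc
    rw [← heq, mem_chainM, ← Function.iterate_add_apply] at hmem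
    have e : i + (p - 1 - i) = p - 1 := by omega
    rw [e] at hmem
    exact hc1 hmem
  have hPM : IsPGroup p ↥M := hP.to_subgroup M
  have hind : ∀ i, i ≤ p → p ^ i * Nat.card (chainM M ω hmul u hu 0) ≤
      Nat.card (chainM M ω hmul u hu i) := by
    intro i
    induction i with
    | zero => intro _; simp
    | succ i ih =>
      intro hi
      have h1 := card_mul_le_of_lt hPM (hstrict i (by omega))
      have h2 := ih (by omega)
      calc p ^ (i + 1) * Nat.card (chainM M ω hmul u hu 0)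
          = p * (p ^ i * Nat.card (chainM M ω hmul u hu 0)) := by ring
        _ ≤ p * Nat.card (chainM M ω hmul u hu i) := Nat.mul_le_mul_left p h2
        _ ≤ _ := h1
  have h0 : chainM M ω hmul u hu 0 = (sM M ω hmul u hu).ker := by
    ext m
    rw [mem_chainM, MonoidHom.mem_ker]
    rfl
  have h3 := hind p le_rfl
  rw [h0] at h3
  exact h3.trans (Subgroup.card_le_card_group _)

end count

theorem factorial_sq_factorization (p : ℕ) [hp : Fact p.Prime] :
    (Nat.factorial (p ^ 2)).factorization p = p + 1 := by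
  rw [Nat.factorization_def _ hp.out]
  have hlog : Nat.log p (p ^ 2) < 3 := by
    rw [Nat.log_pow hp.out.one_lt]; omega
  rw [padicValNat_factorial hlog]
  have : Finset.Ico 1 3 = {1, 2} := by decide
  rw [this, Finset.sum_pair (by norm_num)]
  have hpos := hp.out.pos
  rw [pow_one, Nat.div_self (pow_pos hpos 2), pow_two, Nat.mul_div_cancel _ hpos]

/-- **The wreath product quotient**: a `p`-group `P` with a normal subgroup `M` of index `p` and a
character `ω` of `M` of order `p` whose "norm" `∏ ω(u⁻ʲ y uʲ)` is nontrivial maps onto a Sylow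
`p`-subgroup of the symmetric group of degree `p ^ 2`. -/
theorem exists_surj_sylow_perm {P : Type*} [Group P] [Finite P] {p : ℕ} [Fact p.Prime]
    (hP : IsPGroup p P) (M : Subgroup P) [hMn : M.Normal] (hM : M.index = p)
    {Z : Type*} [CommGroup Z] (hZ : Nat.card Z = p) (ω : P → Z)
    (hmul : ∀ a ∈ M, ∀ b ∈ M, ω (a * b) = ω a * ω b) (u y : P) (hy : y ∈ M)
    (hprod : ∏ j ∈ Finset.range p, ω ((u ^ j)⁻¹ * y * u ^ j) ≠ 1) :
    ∃ (Q : Sylow p (Equiv.Perm (Fin (p ^ 2))))
      (f : P →* ↥(Q : Subgroup (Equiv.Perm (Fin (p ^ 2))))), Function.Surjective f := by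
  have hp : p.Prime := Fact.out
  have hfinZ : Finite Z := Nat.finite_of_card_ne_zero (by rw [hZ]; exact hp.ne_zero)
  have hZexp : ∀ z : Z, z ^ p = 1 := fun z => hZ ▸ pow_card_eq_one'
  have hu : ∀ m ∈ M, u⁻¹ * m * u ∈ M := by
    intro m hm
    have := hMn.conj_mem m hm u⁻¹
    simpa using this
  have hup : u ^ p ∈ M := hM ▸ Subgroup.pow_index_mem M u
  -- the kernel of `ω` on `M`
  let ωM : ↥M →* Z :=
    { toFun := fun m => ω (m : P)
      map_one' := omega_one M ω hmul
      map_mul' := fun a b => hmul _ a.2 _ b.2 }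
  let N₁ : Subgroup P := ωM.ker.map M.subtype
  have hN₁M : N₁ ≤ M := Subgroup.map_subtype_le _
  have hmemN₁ : ∀ g : P, g ∈ N₁ ↔ g ∈ M ∧ ω g = 1 := by
    intro g
    constructor
    · rintro ⟨m, hm, rfl⟩
      exact ⟨m.2, MonoidHom.mem_ker.mp hm⟩
    · rintro ⟨hgM, hg⟩
      exact ⟨⟨g, hgM⟩, MonoidHom.mem_ker.mpr hg, rfl⟩
  -- `ω` is onto
  have hrange : ωM.range = ⊤ := by
    have hfact : Fact (Nat.card Z).Prime := ⟨hZ ▸ hp⟩
    rcases Subgroup.eq_bot_or_eq_top_of_prime_card ωM.range with h | h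
    · exfalso
      apply hprod
      refine Finset.prod_eq_one fun j _ => ?_
      have h1 : ωM ⟨_, conj_pow_mem M u hu j hy⟩ ∈ ωM.range := ⟨_, rfl⟩
      rw [h, Subgroup.mem_bot] at h1
      exact h1
    · exact h
  have hrel : N₁.relIndex M = p := by
    unfold Subgroup.relIndex
    have : N₁.subgroupOf M = ωM.ker :=
      Subgroup.comap_map_eq_self_of_injective M.subtype_injective _
    rw [this, Subgroup.index_ker, hrange, Subgroup.card_top, hZ]
  have hidx : N₁.index = p ^ 2 := by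
    rw [← Subgroup.relIndex_mul_index hN₁M, hrel, hM, pow_two]
  have hcardQ : Nat.card (P ⧸ N₁) = p ^ 2 := by rw [← Subgroup.index_eq_card, hidx]
  -- the permutation representation
  let e : (P ⧸ N₁) ≃ Fin (p ^ 2) := Finite.equivFinOfCardEq hcardQ
  let ρ : P →* Equiv.Perm (P ⧸ N₁) := MulAction.toPermHom P (P ⧸ N₁)
  let ρ' : P →* Equiv.Perm (Fin (p ^ 2)) := (e.permCongrHom.toMonoidHom).comp ρ
  have hker : ρ'.ker = N₁.normalCore := by
    rw [Subgroup.normalCore_eq_ker]
    ext g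
    rw [MonoidHom.mem_ker, MonoidHom.mem_ker]
    show e.permCongrHom (ρ g) = 1 ↔ ρ g = 1
    exact e.permCongrHom.map_eq_one_iff
  have hkerle : ρ'.ker ≤ (sM M ω hmul u hu).ker.map M.subtype := by
    rw [hker]
    intro g hg
    have hg1 : g ∈ N₁ := Subgroup.normalCore_le _ hg
    have hgM : g ∈ M := hN₁M hg1
    refine ⟨⟨g, hgM⟩, ?_, rfl⟩
    rw [SetLike.mem_coe, MonoidHom.mem_ker]
    ext j
    rw [sM_apply]
    have h1 : (u ^ j)⁻¹ * g * ((u ^ j)⁻¹)⁻¹ ∈ N₁ := hg (u ^ j)⁻¹
    rw [inv_inv] at h1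
    exact ((hmemN₁ _).mp h1).2
  have hcardker : Nat.card ρ'.ker ≤ Nat.card (sM M ω hmul u hu).ker := by
    have h1 := Subgroup.card_le_of_le hkerle
    rwa [Subgroup.card_map_of_injective M.subtype_injective] at h1
  have hchain := pow_mul_card_ker_le hZexp M ω hmul u hu hP hup y hy hprod
  -- the order of the image
  have h1 : Nat.card ρ'.ker * Nat.card ρ'.range = Nat.card P := by
    rw [← Subgroup.index_ker]; exact Subgroup.card_mul_index _
  have h2 : Nat.card M * p = Nat.card P := by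
    rw [← hM]; exact Subgroup.card_mul_index _
  have hkpos : 0 < Nat.card ρ'.ker := Nat.card_pos
  have hlow : p ^ (p + 1) ≤ Nat.card ρ'.range := by
    have h3 : p ^ (p + 1) * Nat.card ρ'.ker ≤ Nat.card ρ'.range * Nat.card ρ'.ker := by
      calc p ^ (p + 1) * Nat.card ρ'.ker ≤ p ^ (p + 1) * Nat.card (sM M ω hmul u hu).ker :=
            Nat.mul_le_mul_left _ hcardker
        _ = (p ^ p * Nat.card (sM M ω hmul u hu).ker) * p := by ring
        _ ≤ Nat.card M * p := Nat.mul_le_mul_right _ hchain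
        _ = Nat.card ρ'.range * Nat.card ρ'.ker := by rw [h2, ← h1, mul_comm]
    exact Nat.le_of_mul_le_mul_right h3 hkpos
  have hpg : IsPGroup p ↥ρ'.range := hP.of_surjective ρ'.rangeRestrict ρ'.rangeRestrict_surjective
  obtain ⟨k, hk⟩ := IsPGroup.iff_card.mp hpg
  have hcardPerm : Nat.card (Equiv.Perm (Fin (p ^ 2))) = Nat.factorial (p ^ 2) := by
    rw [Nat.card_eq_fintype_card, Fintype.card_perm, Fintype.card_fin]
  have hkle : k ≤ p + 1 := by
    have hdvd : p ^ k ∣ Nat.factorial (p ^ 2) := by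
      rw [← hk, ← hcardPerm]; exact Subgroup.card_subgroup_dvd_card _
    rw [← factorial_sq_factorization p]
    exact (hp.pow_dvd_iff_le_factorization (Nat.factorial_ne_zero _)).mp hdvd
  have hkge : p + 1 ≤ k := by
    rw [hk] at hlow
    exact (Nat.pow_le_pow_iff_right hp.one_lt).mp hlow
  have hcard : Nat.card ↥ρ'.range = p ^ (Nat.card (Equiv.Perm (Fin (p ^ 2)))).factorization p := by
    rw [hcardPerm, factorial_sq_factorization, hk]
    congr 1
    omega
  exact ⟨Sylow.ofCard ρ'.range hcard, ρ'.rangeRestrict, ρ'.rangeRestrict_surjective⟩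

end Cfsg.Agent.Lib.Helper7.WreathQuotient
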