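import Mathlib
import Cfsg.Prelude.Def_Transfer
import Cfsg.Agent.Lib.Helper7.WeakClosureTransfer
import Cfsg.Agent.Lib.Helper7.WreathQuotient

set_option autoImplicit false
set_option linter.unusedVariables false
set_option linter.unusedSectionVars false

universe u

namespace Cfsg.Agent.Lib.Helper7.YoshidaTransfer

open Cfsg Cfsg.Agent.Lib.Helper7 Cfsg.Agent.Lib.Helper7.LocalTransfer
  Cfsg.Agent.Lib.Helper7.WeakClosureTransfer
open scoped Pointwise

variable {G : Type u} [Group G] [Finite G] {p : ℕ} [Fact p.Prime]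

theorem isWeaklyClosed_self (S : Sylow p G) : IsWeaklyClosed (S : Subgroup G) (S : Subgroup G) := by
  refine ⟨le_rfl, fun g hg => ?_⟩
  apply Subgroup.eq_of_le_of_card_ge hg
  rw [Subgroup.card_map_of_injective (MulAut.conj g).injective]

/-- **Yoshida's transfer step**: if the Sylow `p`-subgroup `S` has no quotient isomorphic to a Sylow
`p`-subgroup of the symmetric group of degree `p ^ 2`, then every character of order `p` of
`N_G(S)` agrees with the restriction of its transfer. -/
theorem transfer_eq_of_no_wreath (S : Sylow p G)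
    (hno : ¬ ∃ (Q : Sylow p (Equiv.Perm (Fin (p ^ 2))))
      (f : ↥(S : Subgroup G) →* ↥(Q : Subgroup (Equiv.Perm (Fin (p ^ 2))))), Function.Surjective f)
    (Z : Type*) [CommGroup Z] (hZ : Nat.card Z = p)
    (lam : ↥(Subgroup.normalizer ((S : Subgroup G) : Set G)) →* Z) :
    ∀ h (hh : h ∈ Subgroup.normalizer ((S : Subgroup G) : Set G)),
      MonoidHom.transfer lam h = lam ⟨h, hh⟩ := by
  have hp : p.Prime := Fact.out
  have hfinZ : Finite Z := Nat.finite_of_card_ne_zero (by rw [hZ]; exact hp.ne_zero)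
  have hA : ∀ z : Z, z ^ p = 1 := fun z => hZ ▸ pow_card_eq_one'
  have hSH : (S : Subgroup G) ≤ Subgroup.normalizer ((S : Subgroup G) : Set G) :=
    Subgroup.le_normalizer
  apply transfer_eq_of_step lam S hSH hA
  intro x hxS IH
  apply transfer_eq_of_blocks lam S.2 hSH hxS
  · -- no fixed points
    intro q hq
    exact exists_not_fixed S (S : Subgroup G) (isWeaklyClosed_self S) q hq
  · -- vanishing of `lam` on conjugates of proper powers
    intro t n hn hnx hmem
    obtain ⟨k, hk⟩ := (IsPGroup.iff_orderOf.mp S.2) ⟨x, hxS⟩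
    rw [Subgroup.orderOf_mk] at hk
    have hpn : p ∣ n := by
      rw [hk] at hnx
      obtain ⟨j, -, rfl⟩ := (Nat.dvd_prime_pow hp).mp hnx
      rcases Nat.eq_zero_or_pos j with h0 | h0
      · subst h0; rw [pow_zero] at hn; omega
      · exact dvd_pow_self p h0.ne'
    have hxn : x ^ n ∈ Subgroup.normalizer ((S : Subgroup G) : Set G) :=
      Subgroup.pow_mem _ (hSH hxS) n
    have hord : orderOf (x ^ n) < orderOf x := by
      rw [orderOf_pow, Nat.gcd_eq_right hnx]
      exact Nat.div_lt_self (orderOf_pos x) hn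
    have hordp : ∃ j, orderOf (x ^ n) = p ^ j := by
      have : orderOf (x ^ n) ∣ p ^ k := hk ▸ orderOf_pow_dvd n
      obtain ⟨j, -, hj⟩ := (Nat.dvd_prime_pow hp).mp this
      exact ⟨j, hj⟩
    have h1 := IH (x ^ n) (t⁻¹ * x ^ n * t) hxn hmem ⟨t⁻¹, by group⟩ hordp hord
    rw [← h1]
    have e2 : (⟨x ^ n, hxn⟩ : ↥(Subgroup.normalizer ((S : Subgroup G) : Set G))) =
        ⟨x, hSH hxS⟩ ^ n := rfl
    obtain ⟨m, rfl⟩ := hpn
    rw [e2, map_pow, pow_mul, hA, one_pow]
  · -- the block products
    intro q₀ hq₀ M hMS hnorm hidx hstab hxM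
    obtain ⟨u, huS, huM⟩ : ∃ u ∈ (S : Subgroup G), u ∉ M := by
      by_contra hcon
      push Not at hcon
      have : M.relIndex (S : Subgroup G) = 1 := Subgroup.relIndex_eq_one.mpr hcon
      rw [this] at hidx
      exact hp.one_lt.ne hidx
    refine ⟨u, huS, huM, ?_⟩
    by_contra hprod
    apply hno
    have hMn : (M.subgroupOf (S : Subgroup G)).Normal := by
      constructor
      intro n hn g
      rw [Subgroup.mem_subgroupOf] at hn ⊢
      have := hnorm (g : G)⁻¹ ((S : Subgroup G).inv_mem g.2) _ hn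
      simpa using this
    refine WreathQuotient.exists_surj_sylow_perm (P := ↥(S : Subgroup G)) S.2
      (M.subgroupOf (S : Subgroup G)) hidx hZ
      (fun s => tO lam (orbF M q₀) (s : G)) ?_ ⟨u, huS⟩ ⟨x, hxS⟩ (Subgroup.mem_subgroupOf.mpr hxM) ?_
    · intro a ha b hb
      exact tO_mul lam (tr_orbF (Subgroup.mem_subgroupOf.mp ha) q₀)
        (tr_orbF (Subgroup.mem_subgroupOf.mp hb) q₀)
    · simpa using hprod

/-- **Yoshida's transfer theorem** (Wielandt–Yoshida form). -/
theorem yoshida_main (S : Sylow p G)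
    (h : (S : Subgroup G) ⊓ commutator G ≠ (S : Subgroup G) ⊓
      ⁅Subgroup.normalizer ((S : Subgroup G) : Set G),
        Subgroup.normalizer ((S : Subgroup G) : Set G)⁆) :
    ∃ (P : Sylow p (Equiv.Perm (Fin (p ^ 2))))
      (f : ↥(S : Subgroup G) →* ↥(P : Subgroup (Equiv.Perm (Fin (p ^ 2))))),
      Function.Surjective f := by
  by_contra hno
  apply h
  have hSH : (S : Subgroup G) ≤ Subgroup.normalizer ((S : Subgroup G) : Set G) :=
    Subgroup.le_normalizer
  have hext : ∀ (Z : Type u) [CommGroup Z], Nat.card Z = p →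
      ∀ lam : ↥(Subgroup.normalizer ((S : Subgroup G) : Set G)) →* Z,
      ∃ μ : G →* Z, ∀ h : ↥(Subgroup.normalizer ((S : Subgroup G) : Set G)), μ (h : G) = lam h := by
    intro Z _ hZ lam
    exact ⟨MonoidHom.transfer lam, fun h =>
      transfer_eq_of_no_wreath S hno Z hZ lam h.1 h.2⟩
  have h1 := TateH.inf_commutator_le S _ hSH hext
  apply le_antisymm
  · exact le_inf inf_le_left h1
  · apply inf_le_inf_left
    rw [commutator_def]
    exact Subgroup.commutator_mono le_top le_top

end Cfsg.Agent.Lib.Helper7.YoshidaTransfer
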