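import Mathlib
import Cfsg.Prelude.Def_Characters
import Cfsg.Agent.Lib.helper3.Pf4e
import Cfsg.Agent.Lib.helper3.NormTwo
import Cfsg.Agent.Lib.helper3.GenChar
import Cfsg.Agent.Lib.helper3.Irr11
import Cfsg.Agent.Lib.helper3.Degrees
import Cfsg.Agent.Lib.Helper7.BrP1

set_option autoImplicit false
set_option linter.style.haveILetI false
set_option linter.unusedSectionVars false

/-!
# Brauer–Suzuki exceptional characters: the abstract core, with one orbit fewer

`core2` is `BrP.core` with the hypothesis `e + 2 ≤ card ι` weakened to `e + 1 ≤ card ι` (and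
`2 ≤ e`): the extra configuration `Ξ = 1 + ε ∑_{i ≠ i₀} M i` is excluded by its degree.
(helper7, for S0976.)
-/

namespace Cfsg.Agent.Lib.Helper7.BrD

open Cfsg Cfsg.Agent.Lib.helper3.Irr Cfsg.Agent.Lib.helper3.CharBasic
open Cfsg.Agent.Lib.helper3.IndFun Cfsg.Agent.Lib.Helper7.BrP
open scoped ComplexConjugate

variable {G : Type*} [Group G] [Fintype G]

theorem core2 {ι : Type*} [Fintype ι] [DecidableEq ι] (i₀ : ι) (e : ℕ)
    (Ξ : ι → (G → ℂ)) (hgen : ∀ i, IsGeneralizedCharacter G (Ξ i)) (hone : ∀ i, Ξ i 1 = 0)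
    (hgram : ∀ i j, classInner (Ξ i) (Ξ j) = if i = j then (e : ℂ) + 1 else e)
    (htriv : ∀ i, classInner (Ξ i) (fun _ => 1) = 1)
    (hcard : e + 1 ≤ Fintype.card ι) (he2 : 2 ≤ e) :
    ∃ (ε : ℤ) (Λ : IrrCharacter G) (z : IrrCharacter G → ℤ),
      (ε = 1 ∨ ε = -1) ∧
      Ξ i₀ = ∑ ψ : IrrCharacter G, (z ψ : ℂ) • (ψ : G → ℂ) ∧
      z (trivIrr G) = 1 ∧ z Λ = -ε ∧ Λ ≠ trivIrr G ∧
      ∑ ψ : IrrCharacter G, z ψ ^ 2 = (e : ℤ) + 1 ∧
      ∀ ψ : IrrCharacter G, ψ ≠ Λ → z ψ ≠ 0 → ∀ i, classInner (Ξ i) (ψ : G → ℂ) = z ψ := by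
  classical
  -- the differences
  obtain ⟨τ, hτ⟩ : ∃ τ : ι → (G → ℂ), ∀ i, τ i = Ξ i₀ - Ξ i := ⟨fun i => Ξ i₀ - Ξ i, fun _ => rfl⟩
  have h0 : τ i₀ = 0 := by rw [hτ, sub_self]
  have hτgen : ∀ i, IsGeneralizedCharacter G (τ i) := fun i => by
    rw [hτ]; exact Cfsg.Agent.Lib.helper3.GenChar.sub (hgen i₀) (hgen i)
  have hτone : ∀ i, τ i 1 = 0 := fun i => by
    rw [hτ, Pi.sub_apply, hone, hone, sub_zero]
  have hτgram : ∀ i j, i ≠ i₀ → j ≠ i₀ → classInner (τ i) (τ j) = if i = j then 2 else 1 := by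
    intro i j hi hj
    rw [hτ, hτ, classInner_sub_left, classInner_sub_right, classInner_sub_right,
      hgram, hgram, hgram, hgram, if_pos rfl, if_neg (Ne.symm hj), if_neg hi]
    by_cases hij : i = j
    · rw [if_pos hij, if_pos hij]; ring
    · rw [if_neg hij, if_neg hij]; ring
  obtain ⟨εc, hεc, μ, hμ, hinj, hτμ⟩ :=
    Cfsg.Agent.Lib.helper3.Pf4.exceptional_isometry' i₀ τ h0 hτgen hτone hτgram
  obtain ⟨ε, hε, rfl⟩ := intCast_eq_one_or hεc
  have hεsq : ε * ε = 1 := by rcases hε with h | h <;> rw [h] <;> norm_num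
  obtain ⟨z, hz⟩ := exists_int_decomposition (hgen i₀)
  have hzin : ∀ ψ : IrrCharacter G, classInner (Ξ i₀) (ψ : G → ℂ) = z ψ := by
    intro ψ
    conv_lhs => rw [hz]
    exact classInner_decomposition_left (fun ψ => (z ψ : ℂ)) ψ
  have hzconj : ∀ ψ : IrrCharacter G, classInner (ψ : G → ℂ) (Ξ i₀) = z ψ := by
    intro ψ
    rw [← classInner_conj_symm, hzin, map_intCast]
  -- norm
  have hnorm : ∑ ψ : IrrCharacter G, z ψ ^ 2 = (e : ℤ) + 1 := by
    have h1 := hgram i₀ i₀
    rw [if_pos rfl] at h1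
    conv_lhs at h1 => rw [hz]
    rw [classInner_int_decomposition] at h1
    have h2 : ((∑ ψ : IrrCharacter G, z ψ * z ψ : ℤ) : ℂ) = (((e : ℤ) + 1 : ℤ) : ℂ) := by
      rw [h1]; push_cast; ring
    have h3 := Int.cast_injective h2
    rw [← h3]
    apply Finset.sum_congr rfl
    intro ψ _
    ring
  have hztriv : z (trivIrr G) = 1 := by
    have h1 := htriv i₀
    have h2 := hzin (trivIrr G)
    have h3 : ((trivIrr G : IrrCharacter G) : G → ℂ) = fun _ => 1 := rfl
    rw [h3, h1] at h2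
    have h4 : ((1 : ℤ) : ℂ) = (z (trivIrr G) : ℂ) := by rw [← h2]; simp
    exact (Int.cast_injective h4).symm
  -- the exceptional characters
  obtain ⟨M, hM⟩ : ∃ M : ι → IrrCharacter G, ∀ i, (M i : G → ℂ) = μ i :=
    ⟨fun i => ⟨μ i, hμ i⟩, fun _ => rfl⟩
  have hMinj : Function.Injective M := by
    intro i j hij
    apply hinj
    rw [← hM, ← hM, hij]
  have hinner : ∀ (i : ι) (ψ : IrrCharacter G), classInner (Ξ i₀) (ψ : G → ℂ) -
      classInner (Ξ i) (ψ : G → ℂ) = (ε : ℂ) * ((if M i = ψ then 1 else 0) -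
        (if M i₀ = ψ then 1 else 0)) := by
    intro i ψ
    rw [← classInner_sub_left, ← hτ, hτμ, classInner_smul_left, classInner_sub_left, ← hM, ← hM,
      irr_classInner_eq (M i).2 ψ.2, irr_classInner_eq (M i₀).2 ψ.2]
    have e1 : ((M i : G → ℂ) = (ψ : G → ℂ)) ↔ M i = ψ := Subtype.ext_iff.symm
    have e2 : ((M i₀ : G → ℂ) = (ψ : G → ℂ)) ↔ M i₀ = ψ := Subtype.ext_iff.symm
    simp only [e1, e2]
  -- coefficients of the exceptional characters
  have hza : ∀ i, i ≠ i₀ → z (M i) = z (M i₀) + ε := by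
    intro i hi
    have h1 : classInner (τ i) (Ξ i₀) = 1 := by
      rw [hτ, classInner_sub_left, hgram, hgram, if_pos rfl, if_neg hi]; ring
    rw [hτμ, classInner_smul_left, classInner_sub_left, ← hM, ← hM, hzconj, hzconj] at h1
    have h2 : ((ε * (z (M i) - z (M i₀)) : ℤ) : ℂ) = ((1 : ℤ) : ℂ) := by
      push_cast; rw [h1]
    have h3 := Int.cast_injective h2
    have h4 : ε * (ε * (z (M i) - z (M i₀))) = ε * 1 := by rw [h3]
    rw [← mul_assoc, hεsq] at h4
    linarith
  -- there is a second index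
  have hex : ∃ i₁, i₁ ≠ i₀ := by
    by_contra hne
    push Not at hne
    have : Fintype.card ι ≤ 1 := Fintype.card_le_one_iff.mpr (fun a b => by rw [hne a, hne b])
    omega
  obtain ⟨i₁, hi₁⟩ := hex
  have hMtriv : ∀ i, M i ≠ trivIrr G := by
    have key : ∀ i, (if M i = trivIrr G then (1 : ℂ) else 0) =
        (if M i₀ = trivIrr G then 1 else 0) := by
      intro i
      have h1 := hinner i (trivIrr G)
      have h3 : ((trivIrr G : IrrCharacter G) : G → ℂ) = fun _ => 1 := rfl
      rw [h3, htriv, htriv, sub_self] at h1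
      have hεne : (ε : ℂ) ≠ 0 := by
        rcases hε with h | h <;> rw [h] <;> norm_num
      have := (mul_eq_zero.mp h1.symm).resolve_left hεne
      linear_combination this
    have h00 : M i₀ ≠ trivIrr G := by
      intro h
      have := key i₁
      rw [if_pos h] at this
      by_cases h' : M i₁ = trivIrr G
      · exact hi₁ (hMinj (h'.trans h.symm))
      · rw [if_neg h'] at this
        exact zero_ne_one this
    intro i h
    have := key i
    rw [if_pos h, if_neg h00] at this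
    exact one_ne_zero this
  -- the norm estimate
  obtain ⟨a, ha⟩ : ∃ a : ℤ, a = z (M i₀) := ⟨_, rfl⟩
  have hsumM : ∑ i : ι, z (M i) ^ 2 = a ^ 2 + ((Fintype.card ι : ℤ) - 1) * (a + ε) ^ 2 := by
    rw [← Finset.add_sum_erase Finset.univ _ (Finset.mem_univ i₀), ← ha]
    congr 1
    have : ∀ i ∈ Finset.univ.erase i₀, z (M i) ^ 2 = (a + ε) ^ 2 := by
      intro i hi
      rw [hza i (Finset.ne_of_mem_erase hi), ← ha]
    rw [Finset.sum_congr rfl this, Finset.sum_const, Finset.card_erase_of_mem (Finset.mem_univ i₀),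
      Finset.card_univ, nsmul_eq_mul]
    have : 1 ≤ Fintype.card ι := by omega
    push_cast [this]
    ring
  have hlower : 1 + ∑ i : ι, z (M i) ^ 2 ≤ ∑ ψ : IrrCharacter G, z ψ ^ 2 := by
    have h1 : ∑ ψ ∈ insert (trivIrr G) (Finset.univ.image M), z ψ ^ 2
        ≤ ∑ ψ : IrrCharacter G, z ψ ^ 2 :=
      Finset.sum_le_sum_of_subset_of_nonneg (Finset.subset_univ _) (fun _ _ _ => sq_nonneg _)
    have hnot : trivIrr G ∉ Finset.univ.image M := by
      intro h
      obtain ⟨i, _, hi⟩ := Finset.mem_image.mp h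
      exact hMtriv i hi
    rw [Finset.sum_insert hnot, Finset.sum_image (fun i _ j _ h => hMinj h), hztriv] at h1
    linarith
  have haε : a + ε = 0 := by
    by_contra hne
    exfalso
    have h1 : 1 ≤ (a + ε) ^ 2 := by
      have : 0 < (a + ε) ^ 2 := by positivity
      omega
    have h2 : (e : ℤ) ≤ (Fintype.card ι : ℤ) - 1 := by
      have : (e : ℤ) + 1 ≤ (Fintype.card ι : ℤ) := by exact_mod_cast hcard
      linarith
    have he0 : (0 : ℤ) ≤ e := Int.natCast_nonneg e
    have h3 : ((Fintype.card ι : ℤ) - 1) * 1 ≤ ((Fintype.card ι : ℤ) - 1) * (a + ε) ^ 2 :=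
      mul_le_mul_of_nonneg_left h1 (by linarith)
    have h4 : 0 ≤ a ^ 2 := sq_nonneg a
    have hlow := hlower
    rw [hsumM, hnorm] at hlow
    -- hence `a = 0`, `card ι - 1 = e`, and equality holds
    have ha0 : a ^ 2 = 0 := by nlinarith
    have ha00 : a = 0 := by
      rcases pow_eq_zero_iff (n := 2) (by norm_num) |>.1 ha0 with h
      exact h
    have hεsq' : (a + ε) ^ 2 = 1 := by rw [ha00, zero_add, sq]; exact hεsq
    have hke : (Fintype.card ι : ℤ) - 1 = e := by
      rw [hεsq', ha0] at hlow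
      linarith
    -- the coefficients outside `S` vanish
    have hnot : trivIrr G ∉ Finset.univ.image M := by
      intro h
      obtain ⟨i, _, hi⟩ := Finset.mem_image.mp h
      exact hMtriv i hi
    have hS : ∑ ψ ∈ insert (trivIrr G) (Finset.univ.image M), z ψ ^ 2 = (e : ℤ) + 1 := by
      rw [Finset.sum_insert hnot, Finset.sum_image (fun i _ j _ h => hMinj h), hztriv, hsumM,
        hεsq', ha0, hke]
      ring
    have hcompl : ∑ ψ ∈ (insert (trivIrr G) (Finset.univ.image M))ᶜ, z ψ ^ 2 = 0 := by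
      have := Finset.sum_add_sum_compl (insert (trivIrr G) (Finset.univ.image M))
        (fun ψ => z ψ ^ 2)
      rw [hS, hnorm] at this
      linarith
    have hzero : ∀ ψ ∈ (insert (trivIrr G) (Finset.univ.image M))ᶜ, z ψ = 0 := by
      intro ψ hψ
      have := (Finset.sum_eq_zero_iff_of_nonneg (fun ψ _ => sq_nonneg (z ψ))).1 hcompl ψ hψ
      exact pow_eq_zero_iff (n := 2) (by norm_num) |>.1 this
    -- evaluate at `1`
    have hval : (0 : ℂ) = ∑ ψ : IrrCharacter G, (z ψ : ℂ) * (ψ : G → ℂ) 1 := by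
      have h1 := congrFun hz 1
      rw [hone] at h1
      simp only [Finset.sum_apply, Pi.smul_apply, smul_eq_mul] at h1
      exact h1
    rw [← Finset.sum_add_sum_compl (insert (trivIrr G) (Finset.univ.image M)),
      Finset.sum_eq_zero (s := (insert (trivIrr G) (Finset.univ.image M))ᶜ)
        (fun ψ hψ => by rw [hzero ψ hψ, Int.cast_zero, zero_mul]),
      add_zero, Finset.sum_insert hnot, Finset.sum_image (fun i _ j _ h => hMinj h), hztriv] at hval
    -- degrees
    have hdeg : ∀ i, ∃ n : ℕ, (M i : G → ℂ) 1 = n ∧ 0 < n := fun i => by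
      obtain ⟨n, hn, _, hpos⟩ := Cfsg.Agent.Lib.helper3.Central.irr_degree_dvd_card (M i).2
      exact ⟨n, hn, hpos⟩
    choose n hn hnpos using hdeg
    have hterm : ∀ i, (z (M i) : ℂ) * (M i : G → ℂ) 1 =
        (((if i = i₀ then 0 else ε * (n i : ℤ)) : ℤ) : ℂ) := by
      intro i
      by_cases hi : i = i₀
      · rw [if_pos hi, hi, ← ha, ha00]; simp
      · rw [if_neg hi, hza i hi, ← ha, ha00, hn]; push_cast; ring
    have h3 : ((trivIrr G : IrrCharacter G) : G → ℂ) 1 = 1 := rfl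
    rw [Finset.sum_congr rfl (fun i _ => hterm i), h3, ← Int.cast_sum] at hval
    have hval' : ((0 : ℤ) : ℂ) = ((1 + ∑ i : ι, (if i = i₀ then 0 else ε * (n i : ℤ)) : ℤ) : ℂ) := by
      have h9 := hval
      push_cast at h9 ⊢
      linear_combination h9
    have hval'' := Int.cast_injective hval'
    -- the sum over `i ≠ i₀`
    have hsum_ge : (e : ℤ) ≤ ∑ i ∈ Finset.univ.erase i₀, (n i : ℤ) := by
      have h5 : ∑ i ∈ Finset.univ.erase i₀, (1 : ℤ) ≤ ∑ i ∈ Finset.univ.erase i₀, (n i : ℤ) := by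
        apply Finset.sum_le_sum
        intro i _
        have := hnpos i
        exact_mod_cast this
      rw [Finset.sum_const, Finset.card_erase_of_mem (Finset.mem_univ i₀), Finset.card_univ,
        nsmul_eq_mul, mul_one] at h5
      have h6 : 1 ≤ Fintype.card ι := by omega
      push_cast [h6] at h5
      linarith
    have hsplit : ∑ i : ι, (if i = i₀ then 0 else ε * (n i : ℤ)) =
        ε * ∑ i ∈ Finset.univ.erase i₀, (n i : ℤ) := by
      rw [← Finset.add_sum_erase Finset.univ _ (Finset.mem_univ i₀), if_pos rfl, zero_add,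
        Finset.mul_sum]
      apply Finset.sum_congr rfl
      intro i hi
      rw [if_neg (Finset.ne_of_mem_erase hi)]
    rw [hsplit] at hval''
    have he2' : (2 : ℤ) ≤ e := by exact_mod_cast he2
    rcases hε with h | h
    · rw [h] at hval''
      linarith
    · rw [h] at hval''
      linarith
  have hzM : ∀ i, i ≠ i₀ → z (M i) = 0 := by
    intro i hi
    rw [hza i hi, ← ha, haε]
  refine ⟨ε, M i₀, z, hε, hz, hztriv, ?_, hMtriv i₀, hnorm, ?_⟩
  · rw [← ha]; linarith
  · intro ψ hψΛ hzψ i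
    have hψM : ∀ j, M j ≠ ψ := by
      intro j hj
      by_cases hj0 : j = i₀
      · exact hψΛ (by rw [← hj, hj0])
      · exact hzψ (by rw [← hj, hzM j hj0])
    have h1 := hinner i ψ
    rw [if_neg (hψM i), if_neg (hψM i₀), sub_self, mul_zero, hzin] at h1
    linear_combination -h1

end Cfsg.Agent.Lib.Helper7.BrD
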