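import Mathlib
import Cfsg.Prelude.Def_Characters
import Cfsg.Agent.Lib.helper3.Central
import Cfsg.Agent.Lib.helper3.Irr5
import Cfsg.Agent.Lib.helper3.Degrees

set_option autoImplicit false
set_option linter.style.haveILetI false
set_option linter.unusedSectionVars false

/-!
# Products of two conjugates of an element, and characters

`pairFun t g` is the number of ways of writing `g` as a product of two conjugates of `t`; its
inner product with an irreducible character `ψ` is `|t^G|² ψ(t)² / (|G| ψ(1))`.
(helper7, for S0976.)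
-/

namespace Cfsg.Agent.Lib.Helper7.BrD

open Cfsg Module Cfsg.Agent.Lib.helper3.IndFun Cfsg.Agent.Lib.helper3.CharBasic
open Cfsg.Agent.Lib.helper3.Irr Cfsg.Agent.Lib.helper3.Central
open scoped ComplexConjugate
open Classical

variable {G : Type*} [Group G] [Fintype G]

/-- the conjugacy class of `t`, as a finset -/
noncomputable def cls (t : G) : Finset G := Finset.univ.filter (fun x : G => IsConj t x)

theorem mem_cls {t a : G} : a ∈ cls t ↔ IsConj t a := by
  unfold cls
  simp

theorem conj_mem_cls {t a : G} (ha : a ∈ cls t) (h : G) : h * a * h⁻¹ ∈ cls t := by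
  rw [mem_cls] at ha ⊢
  exact ha.trans (isConj_iff.mpr ⟨h, rfl⟩)

/-- the number of ways of writing `g` as a product of two conjugates of `t` -/
noncomputable def pairFun (t : G) : G → ℂ := fun g =>
  ∑ a ∈ cls t, ∑ b ∈ cls t, if a * b = g then (1 : ℂ) else 0

theorem pairFun_isClassFunction (t : G) : IsClassFunction G (pairFun t) := by
  intro g h
  unfold pairFun
  symm
  apply Finset.sum_bij (fun a _ => h * a * h⁻¹)
  · intro a ha
    exact conj_mem_cls ha h
  · intro a _ a' _ haa
    simpa using haa
  · intro a ha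
    refine ⟨h⁻¹ * a * h, ?_, by group⟩
    have := conj_mem_cls ha h⁻¹
    rwa [inv_inv] at this
  · intro a _
    apply Finset.sum_bij (fun b _ => h * b * h⁻¹)
    · intro b hb
      exact conj_mem_cls hb h
    · intro b _ b' _ hbb
      simpa using hbb
    · intro b hb
      refine ⟨h⁻¹ * b * h, ?_, by group⟩
      have := conj_mem_cls hb h⁻¹
      rwa [inv_inv] at this
    · intro b _
      have e : h * a * h⁻¹ * (h * b * h⁻¹) = h * (a * b) * h⁻¹ := by group
      rw [e]
      by_cases hab : a * b = g
      · rw [if_pos hab, if_pos (by rw [hab])]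
      · rw [if_neg hab, if_neg]
        intro h'
        apply hab
        have := congrArg (fun u => h⁻¹ * u * h) h'
        simpa [mul_assoc] using this

theorem conj_pairFun (t g : G) : conj (pairFun t g) = pairFun t g := by
  unfold pairFun
  rw [map_sum]
  apply Finset.sum_congr rfl
  intro a _
  rw [map_sum]
  apply Finset.sum_congr rfl
  intro b _
  split_ifs <;> simp

theorem sum_mul_pairFun (t : G) (ψ : G → ℂ) :
    ∑ g : G, ψ g * pairFun t g = ∑ a ∈ cls t, ∑ b ∈ cls t, ψ (a * b) := by
  unfold pairFun
  simp_rw [Finset.mul_sum]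
  rw [Finset.sum_comm]
  apply Finset.sum_congr rfl
  intro a _
  rw [Finset.sum_comm]
  apply Finset.sum_congr rfl
  intro b _
  simp

section rep

variable {V : Type*} [AddCommGroup V] [Module ℂ V] [FiniteDimensional ℂ V]

theorem sum_character_pairs (ρ : Representation ℂ G V) [ρ.IsIrreducible] (t : G) :
    ∑ a ∈ cls t, ∑ b ∈ cls t, ρ.character (a * b)
      = (((cls t).card : ℂ) * ρ.character t) ^ 2 / (finrank ℂ V : ℂ) := by
  have h1 : ∑ a ∈ cls t, ∑ b ∈ cls t, ρ.character (a * b)
      = LinearMap.trace ℂ V (classOp ρ t * classOp ρ t) := by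
    unfold classOp
    rw [Finset.sum_mul, map_sum]
    apply Finset.sum_congr rfl
    intro a _
    rw [Finset.mul_sum, map_sum]
    apply Finset.sum_congr rfl
    intro b _
    rw [← map_mul]
    rfl
  rw [h1, classOp_eq_smul ρ t]
  have hV := finrank_ne_zero_of_irreducible ρ
  rw [smul_mul_smul_comm, map_smul, Module.End.mul_eq_comp, LinearMap.id_comp, LinearMap.trace_id,
    smul_eq_mul]
  show _ = (((cls t).card : ℂ) * ρ.character t) ^ 2 / (finrank ℂ V : ℂ)
  unfold cls
  field_simp

end rep

/-- the inner product of an irreducible character with `pairFun t`. -/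
theorem classInner_irr_pairFun (ψ : IrrCharacter G) (t : G) :
    classInner (ψ : G → ℂ) (pairFun t)
      = (Nat.card G : ℂ)⁻¹ * ((((cls t).card : ℂ) * (ψ : G → ℂ) t) ^ 2 / (ψ : G → ℂ) 1) := by
  obtain ⟨n, ρ, hirr, hρ⟩ := ψ.2
  haveI := hirr
  rw [classInner_apply]
  congr 1
  simp_rw [conj_pairFun]
  rw [sum_mul_pairFun, ← hρ, sum_character_pairs ρ t, Representation.char_one]

end Cfsg.Agent.Lib.Helper7.BrD
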