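import Mathlib
import Cfsg.Prelude.Def_Characters
import Cfsg.Agent.Lib.Helper4.Simple
import Cfsg.Agent.Lib.Helper7.BrP3
import Cfsg.Agent.Lib.Helper7.BrD3

set_option autoImplicit false
set_option linter.style.haveILetI false
set_option linter.unusedSectionVars false

/-!
# A self-centralizing subgroup of odd prime order with dihedral normalizer

`P` of prime order `p`, self-centralizing, `|N(P)| = 2p`.  All elements of `N(P) \ P` are
involutions conjugate to each other, and each nonidentity `x ∈ P` is a product of two conjugates of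
such an involution `t` in exactly `p` ways.  (helper7, for S0976.)
-/

namespace Cfsg.Agent.Lib.Helper7.BrD

open Cfsg Cfsg.Agent.Lib.Helper7.BrP
open Classical

variable {G : Type*} [Group G] [Fintype G] (P : Subgroup G)

section dihedral

variable {p : ℕ} (hp : p.Prime) (hP : Nat.card P = p)
  (hC : ∀ x ∈ P, x ≠ 1 → ∀ g : G, g * x = x * g → g ∈ P)
  (hN : Nat.card (Subgroup.normalizer (P : Set G)) = p * 2)

include hp hP hN in
theorem index_subgroupOf_normalizer :
    (P.subgroupOf (Subgroup.normalizer (P : Set G))).index = 2 := by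
  have h1 := Cfsg.Agent.Lib.Helper4.Simple.card_mul_relIndex_normalizer P
  rw [hP, hN] at h1
  have hp0 : 0 < p := hp.pos
  exact Nat.eq_of_mul_eq_mul_left hp0 h1

include hp hP hC hN in
/-- elements of `N(P) \ P` are involutions -/
theorem mul_self_eq_one_of_mem_normalizer {a : G} (ha : a ∈ Subgroup.normalizer (P : Set G))
    (haP : a ∉ P) : a * a = 1 := by
  have h2 := Subgroup.mul_self_mem_of_index_two (index_subgroupOf_normalizer P hp hP hN)
    (⟨a, ha⟩ : Subgroup.normalizer (P : Set G))
  rw [Subgroup.mem_subgroupOf] at h2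
  have h3 : a * a ∈ P := h2
  by_contra hne
  exact haP (hC (a * a) h3 hne a (by group))

include hp hP hN in
theorem mul_mem_of_not_mem {a t : G} (ha : a ∈ Subgroup.normalizer (P : Set G)) (haP : a ∉ P)
    (ht : t ∈ Subgroup.normalizer (P : Set G)) (htP : t ∉ P) : a * t ∈ P := by
  have h2 := Subgroup.mul_mem_iff_of_index_two (index_subgroupOf_normalizer P hp hP hN)
    (a := (⟨a, ha⟩ : Subgroup.normalizer (P : Set G))) (b := ⟨t, ht⟩)
  rw [Subgroup.mem_subgroupOf, Subgroup.mem_subgroupOf, Subgroup.mem_subgroupOf] at h2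
  exact h2.2 ⟨fun h => absurd h haP, fun h => absurd h htP⟩

include hp hP hC hN in
/-- all elements of `N(P) \ P` are conjugate (`p` odd) -/
theorem isConj_of_mem_normalizer (hp2 : p ≠ 2) {a t : G}
    (ha : a ∈ Subgroup.normalizer (P : Set G)) (haP : a ∉ P)
    (ht : t ∈ Subgroup.normalizer (P : Set G)) (htP : t ∉ P) : IsConj t a := by
  have ha2 := mul_self_eq_one_of_mem_normalizer P hp hP hC hN ha haP
  have ht2 := mul_self_eq_one_of_mem_normalizer P hp hP hC hN ht htP
  have hy := mul_mem_of_not_mem P hp hP hN ha haP ht htP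
  have hainv : a⁻¹ = a := inv_eq_of_mul_eq_one_right ha2
  have htinv : t⁻¹ = t := inv_eq_of_mul_eq_one_right ht2
  have hyp : (a * t) ^ p = 1 := by
    have := pow_card_eq_one' (G := P) (x := ⟨a * t, hy⟩)
    rw [hP] at this
    simpa using congrArg Subtype.val this
  have hodd : p % 2 = 1 := by
    rcases hp.eq_two_or_odd with h | h
    · exact absurd h hp2
    · exact h
  obtain ⟨k, hk⟩ : ∃ k, p + 1 = 2 * k := ⟨(p + 1) / 2, by omega⟩
  have hss : (a * t) ^ k * (a * t) ^ k = a * t := by
    rw [← pow_add, ← two_mul, ← hk, pow_succ, hyp, one_mul]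
  have hty : t * (a * t) * t⁻¹ = (a * t)⁻¹ := by
    rw [mul_inv_rev, hainv, htinv]
    have : t * (a * t) * t = t * a * (t * t) := by group
    rw [this, ht2, mul_one]
  have hts : t * (a * t) ^ k * t⁻¹ = ((a * t) ^ k)⁻¹ := by
    rw [← conj_pow, hty, inv_pow]
  rw [isConj_iff]
  refine ⟨(a * t) ^ k, ?_⟩
  calc (a * t) ^ k * t * ((a * t) ^ k)⁻¹
      = (a * t) ^ k * (t * (a * t) ^ k * t⁻¹)⁻¹ * t := by group
    _ = (a * t) ^ k * (a * t) ^ k * t := by rw [hts, inv_inv]
    _ = a * (t * t) := by rw [hss]; group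
    _ = a := by rw [ht2, mul_one]

include hp hP in
/-- if `a` and `a⁻¹ x` are conjugates of the involution `t` (`1 ≠ x ∈ P`) then `a ∈ N(P) \ P` -/
theorem mem_normalizer_of_pair (hp2 : p ≠ 2) {t a x : G} (ht2 : t * t = 1) (ht1 : t ≠ 1)
    (ha : IsConj t a) (hb : IsConj t (a⁻¹ * x)) (hx : x ∈ P) (hx1 : x ≠ 1) :
    a ∈ Subgroup.normalizer (P : Set G) ∧ a ∉ P := by
  have hsq : ∀ u : G, IsConj t u → u * u = 1 := by
    intro u hu
    obtain ⟨c, hc⟩ := isConj_iff.1 hu
    rw [← hc]
    have : c * t * c⁻¹ * (c * t * c⁻¹) = c * (t * t) * c⁻¹ := by group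
    rw [this, ht2]
    group
  have ha2 := hsq a ha
  have hb2 := hsq _ hb
  have hainv : a⁻¹ = a := inv_eq_of_mul_eq_one_right ha2
  rw [hainv] at hb2
  have hinv : a * x * a⁻¹ = x⁻¹ := by
    rw [hainv]
    have h1 : a * x * a * x = 1 := by rw [← hb2]; group
    exact eq_inv_of_mul_eq_one_left h1
  have hfwd : ∀ h ∈ P, a * h * a⁻¹ ∈ P := by
    intro h hh
    obtain ⟨k, rfl⟩ := exists_zpow_eq P hp hP hx hx1 hh
    rw [← conj_zpow, hinv]
    exact zpow_mem (inv_mem hx) k
  refine ⟨?_, ?_⟩
  · rw [Subgroup.mem_normalizer_iff]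
    intro h
    refine ⟨hfwd h, fun hh => ?_⟩
    have h2 := hfwd _ hh
    have e : a * (a * h * a⁻¹) * a⁻¹ = (a * a) * h * (a * a)⁻¹ := by group
    rw [e, ha2] at h2
    simpa using h2
  · intro haP
    have hap : a ^ p = 1 := by
      have := pow_card_eq_one' (G := P) (x := ⟨a, haP⟩)
      rw [hP] at this
      simpa using congrArg Subtype.val this
    have ha2' : a ^ 2 = 1 := by rw [pow_two]; exact ha2
    have hodd : p % 2 = 1 := by
      rcases hp.eq_two_or_odd with h | h
      · exact absurd h hp2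
      · exact h
    have ha1 : a = 1 := by
      obtain ⟨k, hk⟩ : ∃ k, p = 2 * k + 1 := ⟨p / 2, by omega⟩
      rw [hk, pow_succ, pow_mul, ha2', one_pow, one_mul] at hap
      exact hap
    apply ht1
    obtain ⟨c, hc⟩ := isConj_iff.1 ha
    rw [ha1] at hc
    have : t = c⁻¹ * (c * t * c⁻¹) * c := by group
    rw [this, hc]
    group

include hP hN in
theorem card_filter_normalizer_not_mem :
    (Finset.univ.filter (fun a : G => a ∈ Subgroup.normalizer (P : Set G) ∧ a ∉ P)).card = p := by
  have h1 : (Finset.univ.filter (fun a : G => a ∈ Subgroup.normalizer (P : Set G))).card = p * 2 := by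
    rw [← hN, Nat.card_eq_fintype_card, Fintype.card_subtype]
  have h2 : (Finset.univ.filter (fun a : G => a ∈ P)).card = p := by
    rw [← hP, Nat.card_eq_fintype_card, Fintype.card_subtype]
  have h3 := Finset.card_filter_add_card_filter_not
    (s := Finset.univ.filter (fun a : G => a ∈ Subgroup.normalizer (P : Set G)))
    (fun a : G => a ∈ P)
  rw [Finset.filter_filter, Finset.filter_filter, h1] at h3
  have h4 : Finset.univ.filter (fun a : G => a ∈ Subgroup.normalizer (P : Set G) ∧ a ∈ P)
      = Finset.univ.filter (fun a : G => a ∈ P) := by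
    apply Finset.filter_congr
    intro a _
    exact ⟨fun h => h.2, fun h => ⟨Subgroup.le_normalizer h, h⟩⟩
  rw [h4, h2] at h3
  omega

include hp hP hC hN in
/-- a nonidentity element of `P` is a product of two conjugates of `t` in exactly `p` ways -/
theorem pairFun_apply_of_mem (hp2 : p ≠ 2) {t x : G} (ht : t ∈ Subgroup.normalizer (P : Set G))
    (htP : t ∉ P) (hx : x ∈ P) (hx1 : x ≠ 1) : pairFun t x = p := by
  have ht2 := mul_self_eq_one_of_mem_normalizer P hp hP hC hN ht htP
  have ht1 : t ≠ 1 := fun h => htP (h ▸ one_mem P)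
  unfold pairFun
  have hinner : ∀ a ∈ cls t, ∑ b ∈ cls t, (if a * b = x then (1 : ℂ) else 0)
      = if a⁻¹ * x ∈ cls t then 1 else 0 := by
    intro a _
    have hiff : ∀ b, (a * b = x) ↔ (b = a⁻¹ * x) := by
      intro b
      constructor
      · intro h
        rw [← h]
        group
      · intro h
        rw [h]
        group
    simp_rw [hiff]
    rw [Finset.sum_ite_eq']
  rw [Finset.sum_congr rfl hinner, Finset.sum_boole]
  have hset : (cls t).filter (fun a => a⁻¹ * x ∈ cls t)
      = Finset.univ.filter (fun a : G => a ∈ Subgroup.normalizer (P : Set G) ∧ a ∉ P) := by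
    ext a
    simp only [Finset.mem_filter, Finset.mem_univ, true_and, mem_cls]
    constructor
    · rintro ⟨ha, hb⟩
      exact mem_normalizer_of_pair P hp hP hp2 ht2 ht1 ha hb hx hx1
    · rintro ⟨haN, haP⟩
      refine ⟨isConj_of_mem_normalizer P hp hP hC hN hp2 haN haP ht htP, ?_⟩
      apply isConj_of_mem_normalizer P hp hP hC hN hp2 _ _ ht htP
      · exact mul_mem (inv_mem haN) (Subgroup.le_normalizer hx)
      · intro h
        apply haP
        have : a = x * (a⁻¹ * x)⁻¹ := by group
        rw [this]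
        exact mul_mem hx (inv_mem h)
  rw [hset, card_filter_normalizer_not_mem P hP hN]

end dihedral

end Cfsg.Agent.Lib.Helper7.BrD
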