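import Mathlib
import Cfsg.Prelude.Def_Characters
import Cfsg.Agent.Lib.Helper7.BrP4
import Cfsg.Agent.Lib.Helper7.BrD2
import Cfsg.Agent.Lib.Helper7.BrD4
import Cfsg.Agent.Lib.Helper7.BrP5
import Cfsg.Agent.Lib.helper3.GalFix3
import Cfsg.Agent.Lib.helper3.NormOne
import Cfsg.Agent.Lib.helper3.Degrees

set_option autoImplicit false
set_option linter.style.haveILetI false
set_option linter.unusedSectionVars false

/-!
# The square identity for a dihedral normalizer

(helper7, for S0976.)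
-/

namespace Cfsg.Agent.Lib.Helper7.BrD

open Cfsg Cfsg.Agent.Lib.helper3.Irr Cfsg.Agent.Lib.helper3.CharBasic
open Cfsg.Agent.Lib.helper3.IndFun Cfsg.Agent.Lib.helper3.CycTI Cfsg.Agent.Lib.Helper7.BrP
open scoped ComplexConjugate
open Classical

variable {G : Type*} [Group G] [Fintype G] (P : Subgroup G)

section dihedral

variable {p : ℕ} (hp : p.Prime) (hP : Nat.card P = p)
  (hC : ∀ x ∈ P, x ≠ 1 → ∀ g : G, g * x = x * g → g ∈ P)
  (hN : Nat.card (Subgroup.normalizer (P : Set G)) = p * 2)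

theorem sum_linFun_eq_zero [Fintype P] {ω : P →* ℂˣ} (hω : ω ≠ 1) : ∑ x : P, linFun ω x = 0 := by
  have h1 := classInner_linFun_ne (ω := ω) (ω' := 1) hω
  rw [classInner_apply] at h1
  have hP0 : (Nat.card P : ℂ)⁻¹ ≠ 0 := inv_ne_zero (card_ne_zero_complex P)
  have h2 := (mul_eq_zero.mp h1).resolve_left hP0
  rw [← h2]
  apply Finset.sum_congr rfl
  intro x _
  simp [linFun]

include hp hP hC hN in
theorem classInner_Xi_pairFun [Fintype P] (hp2 : p ≠ 2) {t : G}
    (ht : t ∈ Subgroup.normalizer (P : Set G)) (htP : t ∉ P) {ω : P →* ℂˣ} (hω : ω ≠ 1) :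
    classInner (Xi P ω) (pairFun t) = p := by
  rw [classInner_Xi P ω _ (pairFun_isClassFunction t), ← classInner_sub_left, classInner_apply]
  have hterm : ∀ x : P, (linFun (1 : P →* ℂˣ) - linFun ω) x * conj (pairFun t (x : G))
      = (p : ℂ) * (1 - linFun ω x) := by
    intro x
    rw [Pi.sub_apply]
    have h1 : linFun (1 : P →* ℂˣ) x = 1 := by simp [linFun]
    rw [h1]
    by_cases hx : x = 1
    · rw [hx, linFun_apply_one]
      simp
    · have hx1 : (x : G) ≠ 1 := fun h => hx (Subtype.ext h)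
      rw [conj_pairFun, pairFun_apply_of_mem P hp hP hC hN hp2 ht htP x.2 hx1]
      ring
  rw [Finset.sum_congr rfl (fun x _ => hterm x), ← Finset.mul_sum, Finset.sum_sub_distrib,
    sum_linFun_eq_zero P hω, sub_zero, Finset.sum_const, Finset.card_univ, nsmul_eq_mul, mul_one,
    ← Nat.card_eq_fintype_card, hP]
  have hp0 : (p : ℂ) ≠ 0 := by exact_mod_cast hp.ne_zero
  field_simp

include hp hP in
/-- `Ξ_ω` vanishes at involutions (`p` odd) -/
theorem Xi_apply_involution (hp2 : p ≠ 2) (ω : P →* ℂˣ) {t : G} (ht2 : t * t = 1) (ht1 : t ≠ 1) :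
    Xi P ω t = 0 := by
  unfold Xi
  rw [indFun_apply]
  have hzero : ∀ x : G, extendByZero P (linFun 1 - linFun ω) (x⁻¹ * t * x) = 0 := by
    intro x
    apply extendByZero_not_mem
    intro hmem
    have hup : (x⁻¹ * t * x) ^ p = 1 := by
      have := pow_card_eq_one' (G := P) (x := ⟨_, hmem⟩)
      rw [hP] at this
      simpa using congrArg Subtype.val this
    have hu2 : (x⁻¹ * t * x) ^ 2 = 1 := by
      rw [pow_two]
      have : x⁻¹ * t * x * (x⁻¹ * t * x) = x⁻¹ * (t * t) * x := by group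
      rw [this, ht2]
      group
    have hodd : p % 2 = 1 := by
      rcases hp.eq_two_or_odd with h | h
      · exact absurd h hp2
      · exact h
    obtain ⟨k, hk⟩ : ∃ k, p = 2 * k + 1 := ⟨p / 2, by omega⟩
    rw [hk, pow_succ, pow_mul, hu2, one_pow, one_mul] at hup
    apply ht1
    have : t = x * (x⁻¹ * t * x) * x⁻¹ := by group
    rw [this, hup]
    group
  rw [Finset.sum_eq_zero (fun x _ => hzero x), mul_zero]

include hp hP hC hN in
/-- **The square identity.**  If `P` of prime order `p ≥ 7` is self-centralizing with `|N(P)| = 2p`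
in a group without nontrivial linear characters, then there is a character degree `d ≡ δ = ±1`
modulo `p` such that `D = d + δ` is a character degree too and `p |G| d D` is a perfect square. -/
theorem dihedral_square (hperf : ∀ ψ : IrrCharacter G, (ψ : G → ℂ) 1 = 1 → ψ = trivIrr G)
    (hp7 : 7 ≤ p) {t : G} (ht : t ∈ Subgroup.normalizer (P : Set G)) (htP : t ∉ P) :
    ∃ (d D : ℕ) (δ m : ℤ), (δ = 1 ∨ δ = -1) ∧ d ∣ Nat.card G ∧ D ∣ Nat.card G ∧ 1 < d ∧
      (p : ℤ) ∣ (d : ℤ) - δ ∧ (D : ℤ) = d + δ ∧ m ^ 2 = (p : ℤ) * Nat.card G * d * D := by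
  letI : Fintype P := Fintype.ofFinite P
  have hp2 : p ≠ 2 := by omega
  obtain ⟨ε, Λ, z, hε, hztriv, hzΛ, hΛ, hnorm, hdeg, hcong, ω₀, hω₀, hdec⟩ :=
    main2 P hp hP hC 2 hN (by omega) le_rfl
  rw [sum_split Λ hΛ, hztriv, hzΛ] at hnorm
  have hεsq : (-ε) ^ 2 = 1 := by rcases hε with h | h <;> rw [h] <;> norm_num
  have h1 : ∑ ψ : {ψ : IrrCharacter G // ψ ≠ trivIrr G ∧ ψ ≠ Λ}, z ψ ^ 2 = 1 := by
    rw [hεsq] at hnorm
    push_cast at hnorm
    linarith
  obtain ⟨a, ha, hrest⟩ := Cfsg.Agent.Lib.helper3.Irr.int_sq_sum_one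
    (fun ψ : {ψ : IrrCharacter G // ψ ≠ trivIrr G ∧ ψ ≠ Λ} => z ψ) h1
  have ha' : z a.1 = 1 ∨ z a.1 = -1 := ha
  -- the general expansion
  have hexp : ∀ F : IrrCharacter G → ℂ, ∑ ψ : IrrCharacter G, (z ψ : ℂ) * F ψ
      = F (trivIrr G) - (ε : ℂ) * F Λ + (z a.1 : ℂ) * F a.1 := by
    intro F
    rw [sum_split Λ hΛ, hztriv, hzΛ]
    have h2 : ∑ ψ : {ψ : IrrCharacter G // ψ ≠ trivIrr G ∧ ψ ≠ Λ},
        (z ψ : ℂ) * F ψ = (z a.1 : ℂ) * F a.1 := by
      apply Fintype.sum_eq_single a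
      intro c hc
      have hc0 : z c.1 = 0 := hrest c hc
      rw [hc0, Int.cast_zero, zero_mul]
    rw [h2]
    push_cast
    ring
  -- degrees
  obtain ⟨d, hd1, hddvd, hdpos⟩ := Cfsg.Agent.Lib.helper3.Central.irr_degree_dvd_card a.1.2
  obtain ⟨D, hD1, hDdvd, hDpos⟩ := Cfsg.Agent.Lib.helper3.Central.irr_degree_dvd_card Λ.2
  have hza : z a.1 ≠ 0 := by rcases ha' with h | h <;> rw [h] <;> norm_num
  have hd_gt : 1 < d := by
    rcases Nat.lt_or_ge 1 d with h | h
    · exact h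
    · exfalso
      have hd : d = 1 := by omega
      rw [hd, Nat.cast_one] at hd1
      exact a.2.1 (hperf a.1 hd1)
  -- values at `t`
  have ht2 := mul_self_eq_one_of_mem_normalizer P hp hP hC hN ht htP
  have ht1 : t ≠ 1 := fun h => htP (h ▸ one_mem P)
  have hto : orderOf t = 2 := orderOf_eq_prime (by rw [pow_two]; exact ht2) ht1
  obtain ⟨A, hA, -⟩ := Cfsg.Agent.Lib.helper3.GalFix.exists_int_apply_involution a.1 t hto
  obtain ⟨L, hL, -⟩ := Cfsg.Agent.Lib.helper3.GalFix.exists_int_apply_involution Λ t hto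
  have h3 : ((trivIrr G : IrrCharacter G) : G → ℂ) = fun _ => 1 := rfl
  -- relation 1: degrees
  have hR1 : 1 + z a.1 * d - ε * D = 0 := by
    rw [hexp (fun ψ => (ψ : G → ℂ) 1), h3, hd1, hD1] at hdeg
    have h4 : ((1 + z a.1 * d - ε * D : ℤ) : ℂ) = ((0 : ℤ) : ℂ) := by
      push_cast
      linear_combination hdeg
    exact Int.cast_injective h4
  -- relation 2: values at `t`
  have hR2 : 1 + z a.1 * A - ε * L = 0 := by
    have h := congrFun hdec t
    rw [Xi_apply_involution P hp hP hp2 ω₀ ht2 ht1] at h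
    simp only [Finset.sum_apply, Pi.smul_apply, smul_eq_mul] at h
    rw [hexp (fun ψ => (ψ : G → ℂ) t), h3, hA, hL] at h
    have h4 : ((1 + z a.1 * A - ε * L : ℤ) : ℂ) = ((0 : ℤ) : ℂ) := by
      push_cast
      linear_combination -h
    exact Int.cast_injective h4
  -- relation 3: the inner product with `pairFun t`
  have hR3 : (p : ℂ) = ∑ ψ : IrrCharacter G, (z ψ : ℂ) * classInner (ψ : G → ℂ) (pairFun t) := by
    rw [← classInner_Xi_pairFun P hp hP hC hN hp2 ht htP hω₀, hdec, classInner_sum_left]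
    apply Finset.sum_congr rfl
    intro ψ _
    rw [classInner_smul_left]
  rw [hexp, classInner_irr_pairFun, classInner_irr_pairFun, classInner_irr_pairFun, h3, hA, hL,
    hd1, hD1] at hR3
  have hn0 : (Nat.card G : ℂ) ≠ 0 := card_ne_zero_complex G
  have hd0 : (d : ℂ) ≠ 0 := by exact_mod_cast hdpos.ne'
  have hD0 : (D : ℂ) ≠ 0 := by exact_mod_cast hDpos.ne'
  have hR3' : (p : ℤ) * Nat.card G * d * D = ((cls t).card : ℤ) ^ 2 *
      (d * D - ε * L ^ 2 * d + z a.1 * A ^ 2 * D) := by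
    have h4 : (((p : ℤ) * Nat.card G * d * D : ℤ) : ℂ) = ((((cls t).card : ℤ) ^ 2 *
        (d * D - ε * L ^ 2 * d + z a.1 * A ^ 2 * D) : ℤ) : ℂ) := by
      push_cast
      field_simp at hR3
      linear_combination hR3
    exact Int.cast_injective h4
  -- the key identity
  have hkey : (d : ℤ) * D - ε * L ^ 2 * d + z a.1 * A ^ 2 * D = ε * z a.1 * ((d : ℤ) - A) ^ 2 := by
    rcases hε with h | h <;> rcases ha' with h' | h' <;> rw [h, h'] at hR1 hR2 ⊢
    · have e1 : (D : ℤ) = 1 + d := by linarith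
      have e2 : L = 1 + A := by linarith
      rw [e1, e2]; ring
    · have e1 : (D : ℤ) = 1 - d := by linarith
      have e2 : L = 1 - A := by linarith
      rw [e1, e2]; ring
    · have e1 : (D : ℤ) = -(1 + d) := by linarith
      have e2 : L = -(1 + A) := by linarith
      rw [e1, e2]; ring
    · have e1 : (D : ℤ) = -(1 - d) := by linarith
      have e2 : L = -(1 - A) := by linarith
      rw [e1, e2]; ring
  rw [hkey] at hR3'
  -- signs
  have hpos : (0 : ℤ) < (p : ℤ) * Nat.card G * d * D := by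
    have h5 : 0 < Nat.card G := Nat.card_pos
    have h6 : 0 < p := hp.pos
    positivity
  obtain ⟨c, hc⟩ : ∃ c : ℤ, c = ((cls t).card : ℤ) := ⟨_, rfl⟩
  rw [← hc] at hR3'
  have hs : ε * z a.1 = 1 ∨ ε * z a.1 = -1 := by
    rcases hε with h | h <;> rcases ha' with h' | h' <;> rw [h, h'] <;> norm_num
  have hsign : ε * z a.1 = 1 := by
    rcases hs with hs | hs
    · exact hs
    · exfalso
      rw [hs] at hR3'
      have : 0 ≤ c ^ 2 * ((d : ℤ) - A) ^ 2 := by positivity
      nlinarith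
  have hεz : z a.1 = ε := by
    rcases hε with h | h <;> rcases ha' with h' | h' <;> rw [h, h'] at hsign ⊢ <;>
      norm_num at hsign
  refine ⟨d, D, ε, c * ((d : ℤ) - A), hε, hddvd, hDdvd, hd_gt, ?_, ?_, ?_⟩
  · have := hcong a.1 a.2.2 hza d hd1
    rwa [hεz] at this
  · rw [hεz] at hR1
    rcases hε with h | h <;> rw [h] at hR1 ⊢ <;> linarith
  · rw [hR3', hsign]
    ring

end dihedral

end Cfsg.Agent.Lib.Helper7.BrD
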