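import Mathlib
import Cfsg.Prelude.Def_Characters
import Cfsg.Agent.Lib.Helper7.BrP4
import Cfsg.Agent.Lib.Helper7.BrD2
import Cfsg.Agent.Lib.Helper7.BrD6

set_option autoImplicit false
set_option linter.style.haveILetI false
set_option linter.unusedSectionVars false

/-! `BrD.main2` for `p = 5`, `e = 2` (two orbits) (helper7, for S0980). -/

namespace Cfsg.Agent.Lib.Helper7.BrD

open Cfsg Cfsg.Agent.Lib.helper3.Irr Cfsg.Agent.Lib.helper3.CharBasic
open Cfsg.Agent.Lib.helper3.IndFun Cfsg.Agent.Lib.helper3.CycTI Cfsg.Agent.Lib.Helper7.BrP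
open scoped ComplexConjugate

variable {G : Type*} [Group G] [Fintype G] (P : Subgroup G)

/-- The number of orbits is exactly `(p - 1) / e`. -/
theorem card_orbits_eq {p : ℕ} (hp : p.Prime) (hP : Nat.card P = p)
    (hC : ∀ x ∈ P, x ≠ 1 → ∀ g : G, g * x = x * g → g ∈ P) (e : ℕ)
    (hN : Nat.card (Subgroup.normalizer (P : Set G)) = p * e) :
    e * Nat.card (Quotient (orbSetoid P)) = p - 1 := by
  classical
  haveI := finite_dual P hp hP
  letI : Fintype {ω : P →* ℂˣ // ω ≠ 1} := Fintype.ofFinite _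
  letI : Fintype (Quotient (orbSetoid P)) := Fintype.ofFinite _
  rw [← card_dual_ne_one P hp hP, Nat.card_eq_fintype_card, Nat.card_eq_fintype_card,
    ← Finset.card_univ (α := {ω : P →* ℂˣ // ω ≠ 1}),
    Finset.card_eq_sum_card_fiberwise (f := Quotient.mk (orbSetoid P)) (t := Finset.univ)
      (fun _ _ => Finset.mem_univ _)]
  have hfib : ∀ q ∈ (Finset.univ : Finset (Quotient (orbSetoid P))),
      (Finset.univ.filter (fun a : {ω : P →* ℂˣ // ω ≠ 1} =>
        Quotient.mk (orbSetoid P) a = q)).card = e := by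
    intro q _
    have h1 := card_orbit P hp hP hC e hN (Quotient.out q)
    rw [Nat.card_eq_fintype_card, Fintype.card_subtype] at h1
    rw [← h1]
    congr 1
    ext b
    simp only [Finset.mem_filter, Finset.mem_univ, true_and]
    rw [← Quotient.eq (r := orbSetoid P), Quotient.out_eq]
  rw [Finset.sum_congr rfl hfib, Finset.sum_const, Finset.card_univ, smul_eq_mul, mul_comm]

/-- **Brauer–Suzuki exceptional characters** for a self-centralizing subgroup of prime order `p`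
whose normalizer has order `p * e`, for `p = 5` and `e = 2`. -/
theorem main5 {p : ℕ} (hp : p.Prime) (hP : Nat.card P = p)
    (hC : ∀ x ∈ P, x ≠ 1 → ∀ g : G, g * x = x * g → g ∈ P) (e : ℕ)
    (hN : Nat.card (Subgroup.normalizer (P : Set G)) = p * e)
    (hp5 : p = 5) (he2 : e = 2) :
    ∃ (ε : ℤ) (Λ : IrrCharacter G) (z : IrrCharacter G → ℤ),
      (ε = 1 ∨ ε = -1) ∧ z (trivIrr G) = 1 ∧ z Λ = -ε ∧ Λ ≠ trivIrr G ∧
      ∑ ψ : IrrCharacter G, z ψ ^ 2 = (e : ℤ) + 1 ∧
      ∑ ψ : IrrCharacter G, (z ψ : ℂ) * (ψ : G → ℂ) 1 = 0 ∧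
      (∀ ψ : IrrCharacter G, ψ ≠ Λ → z ψ ≠ 0 → ∀ d : ℕ, (ψ : G → ℂ) 1 = d →
        (p : ℤ) ∣ (d : ℤ) - z ψ) ∧
      ∃ ω₀ : P →* ℂˣ, ω₀ ≠ 1 ∧ Xi P ω₀ = ∑ ψ : IrrCharacter G, (z ψ : ℂ) • (ψ : G → ℂ) := by
  classical
  letI : Fintype P := Fintype.ofFinite P
  haveI := finite_dual P hp hP
  letI : Fintype (Quotient (orbSetoid P)) := Fintype.ofFinite _
  have he : 0 < e := by
    rcases Nat.eq_zero_or_pos e with h | h
    · rw [h, mul_zero] at hN
      exact absurd hN Nat.card_pos.ne'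
    · exact h
  have hcard : Fintype.card (Quotient (orbSetoid P)) = 2 := by
    have h1 := card_orbits_eq P hp hP hC e hN
    rw [Nat.card_eq_fintype_card, hp5, he2] at h1
    omega
  haveI : Nonempty (Quotient (orbSetoid P)) := by
    rw [← Fintype.card_pos_iff]; omega
  obtain ⟨i₀⟩ := ‹Nonempty (Quotient (orbSetoid P))›
  obtain ⟨Ξ, hΞ⟩ : ∃ Ξ : Quotient (orbSetoid P) → (G → ℂ), ∀ q, Ξ q = Xi P (Quotient.out q).1 :=
    ⟨fun q => Xi P (Quotient.out q).1, fun _ => rfl⟩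
  have hgram : ∀ i j, classInner (Ξ i) (Ξ j) = if i = j then (e : ℂ) + 1 else e := by
    intro i j
    rw [hΞ, hΞ]
    have hg := gram_eq P hp hP hC e hN (Quotient.out i).2 (Quotient.out j).2
    by_cases hij : i = j
    · rw [if_pos hij]
      apply hg.1 1
      rw [cj_one_left, hij]
    · rw [if_neg hij]
      apply hg.2
      intro n₀ hn₀
      apply hij
      have : (orbSetoid P).r (Quotient.out i) (Quotient.out j) := ⟨n₀, hn₀⟩
      have h2 := Quotient.sound (s := orbSetoid P) this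
      rwa [Quotient.out_eq, Quotient.out_eq] at h2
  obtain ⟨ε, Λ, z, hε, hdec, hztriv, hzΛ, hΛ, hnorm, hrest⟩ := core_two i₀ e Ξ
    (fun i => by rw [hΞ]; exact Xi_isGeneralizedCharacter P _)
    (fun i => by rw [hΞ]; exact Xi_apply_one P _) hgram
    (fun i => by rw [hΞ]; exact classInner_Xi_one P (Quotient.out i).2) hcard he2
  refine ⟨ε, Λ, z, hε, hztriv, hzΛ, hΛ, hnorm, ?_, ?_, (Quotient.out i₀).1, (Quotient.out i₀).2, ?_⟩
  · have h1 := congrFun hdec 1
    rw [hΞ, Xi_apply_one] at h1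
    simp only [Finset.sum_apply, Pi.smul_apply, smul_eq_mul] at h1
    exact h1.symm
  · intro ψ hψΛ hzψ d hd
    have hψc := isCharacter_of_isIrrCharacter ψ.2
    apply degree_congr P hp hP (ψ : G → ℂ) hψc (z ψ) _ d hd
    intro ω hω
    obtain ⟨n, hn⟩ : (orbSetoid P).r (Quotient.out (Quotient.mk (orbSetoid P) ⟨ω, hω⟩)) ⟨ω, hω⟩ :=
      Quotient.exact (s := orbSetoid P) (Quotient.out_eq _)
    have h1 := hrest ψ hψΛ hzψ (Quotient.mk (orbSetoid P) ⟨ω, hω⟩)
    rw [hΞ, hn, classInner_Xi_cj P n ω _ (isClassFunction_of_isCharacter hψc)] at h1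
    exact h1
  · rw [← hΞ]
    exact hdec

end Cfsg.Agent.Lib.Helper7.BrD
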