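import Mathlib
import Cfsg.Prelude.Def_Characters
import Cfsg.Agent.Lib.Helper7.BrD5
import Cfsg.Agent.Lib.Helper7.BrD7

set_option autoImplicit false
set_option linter.style.haveILetI false
set_option linter.unusedSectionVars false

/-!
# The dihedral-normalizer identity for all involutions (`p = 5` or `p ≥ 7`)

(helper7, for S0980.)
-/

namespace Cfsg.Agent.Lib.Helper7.BrD

open Cfsg Cfsg.Agent.Lib.helper3.Irr Cfsg.Agent.Lib.helper3.CharBasic
open Cfsg.Agent.Lib.helper3.IndFun Cfsg.Agent.Lib.helper3.CycTI Cfsg.Agent.Lib.Helper7.BrP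
open scoped ComplexConjugate
open Classical

variable {G : Type*} [Group G] [Fintype G] (P : Subgroup G)

/-- the conclusion of `main2` / `main5` for `e = 2` -/
def MainOut (p : ℕ) : Prop :=
  ∃ (ε : ℤ) (Λ : IrrCharacter G) (z : IrrCharacter G → ℤ),
    (ε = 1 ∨ ε = -1) ∧ z (trivIrr G) = 1 ∧ z Λ = -ε ∧ Λ ≠ trivIrr G ∧
    ∑ ψ : IrrCharacter G, z ψ ^ 2 = ((2 : ℕ) : ℤ) + 1 ∧
    ∑ ψ : IrrCharacter G, (z ψ : ℂ) * (ψ : G → ℂ) 1 = 0 ∧
    (∀ ψ : IrrCharacter G, ψ ≠ Λ → z ψ ≠ 0 → ∀ d : ℕ, (ψ : G → ℂ) 1 = d →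
      (p : ℤ) ∣ (d : ℤ) - z ψ) ∧
    ∃ ω₀ : P →* ℂˣ, ω₀ ≠ 1 ∧ Xi P ω₀ = ∑ ψ : IrrCharacter G, (z ψ : ℂ) • (ψ : G → ℂ)

section dihedral

variable {p : ℕ} (hp : p.Prime) (hP : Nat.card P = p)
  (hC : ∀ x ∈ P, x ≠ 1 → ∀ g : G, g * x = x * g → g ∈ P)
  (hN : Nat.card (Subgroup.normalizer (P : Set G)) = p * 2)

include hp hP hC hN in
theorem mainOut_of_seven (hp7 : 7 ≤ p) : MainOut P p :=
  main2 P hp hP hC 2 hN (by omega) le_rfl

include hp hP hC hN in
theorem mainOut_of_five (hp5 : p = 5) : MainOut P p :=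
  main5 P hp hP hC 2 hN hp5 rfl

include hp hP in
/-- the inner product of `Ξ_ω` with a class function that is constant (and real) on `P \ 1` -/
theorem classInner_Xi_of_const [Fintype P] {ω : P →* ℂˣ} (hω : ω ≠ 1) (F : G → ℂ)
    (hF : IsClassFunction G F) (κ : ℂ) (hκ : conj κ = κ)
    (hFκ : ∀ x ∈ P, x ≠ 1 → F x = κ) : classInner (Xi P ω) F = κ := by
  rw [classInner_Xi P ω _ hF, ← classInner_sub_left, classInner_apply]
  have hterm : ∀ x : P, (linFun (1 : P →* ℂˣ) - linFun ω) x * conj (F (x : G))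
      = κ * (1 - linFun ω x) := by
    intro x
    rw [Pi.sub_apply]
    have h1 : linFun (1 : P →* ℂˣ) x = 1 := by simp [linFun]
    rw [h1]
    by_cases hx : x = 1
    · rw [hx, linFun_apply_one]
      simp
    · have hx1 : (x : G) ≠ 1 := fun h => hx (Subtype.ext h)
      rw [hFκ x x.2 hx1, hκ]
      ring
  rw [Finset.sum_congr rfl (fun x _ => hterm x), ← Finset.mul_sum, Finset.sum_sub_distrib,
    sum_linFun_eq_zero P hω, sub_zero, Finset.sum_const, Finset.card_univ, nsmul_eq_mul, mul_one,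
    ← Nat.card_eq_fintype_card, hP]
  have hp0 : (p : ℂ) ≠ 0 := by exact_mod_cast hp.ne_zero
  field_simp

include hp hP hC hN in
/-- an involution not conjugate to `t` is not a factor of any `x ∈ P \ 1` -/
theorem pairFun_apply_of_not_conj (hp2 : p ≠ 2) {t s x : G}
    (ht : t ∈ Subgroup.normalizer (P : Set G)) (htP : t ∉ P) (hs2 : s * s = 1) (hs1 : s ≠ 1)
    (hts : ¬ IsConj t s) (hx : x ∈ P) (hx1 : x ≠ 1) : pairFun s x = 0 := by
  unfold pairFun
  apply Finset.sum_eq_zero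
  intro a ha
  apply Finset.sum_eq_zero
  intro b hb
  rw [if_neg]
  intro hab
  apply hts
  rw [mem_cls] at ha hb
  have hb' : IsConj s (a⁻¹ * x) := by
    have : b = a⁻¹ * x := by rw [← hab]; group
    rwa [this] at hb
  obtain ⟨haN, haP⟩ := mem_normalizer_of_pair P hp hP hp2 hs2 hs1 ha hb' hx hx1
  exact (isConj_of_mem_normalizer P hp hP hC hN hp2 haN haP ht htP).trans ha.symm

include hp hP hC hN in
/-- **The dihedral-normalizer identity**, for every involution `s` of the group. -/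
theorem dihedral_main (hmain : MainOut P p)
    (hperf : ∀ ψ : IrrCharacter G, (ψ : G → ℂ) 1 = 1 → ψ = trivIrr G) (hp2 : p ≠ 2) {t : G}
    (ht : t ∈ Subgroup.normalizer (P : Set G)) (htP : t ∉ P) :
    ∃ (Y : IrrCharacter G) (d D : ℕ) (δ : ℤ), Y ≠ trivIrr G ∧ (δ = 1 ∨ δ = -1) ∧
      (Y : G → ℂ) 1 = d ∧ d ∣ Nat.card G ∧ D ∣ Nat.card G ∧ 1 < d ∧ (p : ℤ) ∣ (d : ℤ) - δ ∧
      (D : ℤ) = d + δ ∧
      ∀ s : G, s * s = 1 → s ≠ 1 → ∃ A : ℤ, (Y : G → ℂ) s = A ∧
        ((cls s).card : ℤ) ^ 2 * ((d : ℤ) - A) ^ 2 =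
          (if IsConj t s then (p : ℤ) else 0) * Nat.card G * d * D := by
  letI : Fintype P := Fintype.ofFinite P
  obtain ⟨ε, Λ, z, hε, hztriv, hzΛ, hΛ, hnorm, hdeg, hcong, ω₀, hω₀, hdec⟩ := hmain
  rw [sum_split Λ hΛ, hztriv, hzΛ] at hnorm
  have hεsq : (-ε) ^ 2 = 1 := by rcases hε with h | h <;> rw [h] <;> norm_num
  have h1 : ∑ ψ : {ψ : IrrCharacter G // ψ ≠ trivIrr G ∧ ψ ≠ Λ}, z ψ ^ 2 = 1 := by
    rw [hεsq] at hnorm
    push_cast at hnorm
    linarith
  obtain ⟨a, ha, hrest⟩ := Cfsg.Agent.Lib.helper3.Irr.int_sq_sum_one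
    (fun ψ : {ψ : IrrCharacter G // ψ ≠ trivIrr G ∧ ψ ≠ Λ} => z ψ) h1
  have ha' : z a.1 = 1 ∨ z a.1 = -1 := ha
  have hexp : ∀ F : IrrCharacter G → ℂ, ∑ ψ : IrrCharacter G, (z ψ : ℂ) * F ψ
      = F (trivIrr G) - (ε : ℂ) * F Λ + (z a.1 : ℂ) * F a.1 := by
    intro F
    rw [sum_split Λ hΛ, hztriv, hzΛ]
    have h2 : ∑ ψ : {ψ : IrrCharacter G // ψ ≠ trivIrr G ∧ ψ ≠ Λ},
        (z ψ : ℂ) * F ψ = (z a.1 : ℂ) * F a.1 := by
      apply Fintype.sum_eq_single a
      intro c hc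
      have hc0 : z c.1 = 0 := hrest c hc
      rw [hc0, Int.cast_zero, zero_mul]
    rw [h2]
    push_cast
    ring
  obtain ⟨d, hd1, hddvd, hdpos⟩ := Cfsg.Agent.Lib.helper3.Central.irr_degree_dvd_card a.1.2
  obtain ⟨D, hD1, hDdvd, hDpos⟩ := Cfsg.Agent.Lib.helper3.Central.irr_degree_dvd_card Λ.2
  have hza : z a.1 ≠ 0 := by rcases ha' with h | h <;> rw [h] <;> norm_num
  have hd_gt : 1 < d := by
    rcases Nat.lt_or_ge 1 d with h | h
    · exact h
    · exfalso
      have hd : d = 1 := by omega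
      rw [hd, Nat.cast_one] at hd1
      exact a.2.1 (hperf a.1 hd1)
  have h3 : ((trivIrr G : IrrCharacter G) : G → ℂ) = fun _ => 1 := rfl
  have hR1 : 1 + z a.1 * d - ε * D = 0 := by
    rw [hexp (fun ψ => (ψ : G → ℂ) 1), h3, hd1, hD1] at hdeg
    have h4 : ((1 + z a.1 * d - ε * D : ℤ) : ℂ) = ((0 : ℤ) : ℂ) := by
      push_cast
      linear_combination hdeg
    exact Int.cast_injective h4
  have hn0 : (Nat.card G : ℂ) ≠ 0 := card_ne_zero_complex G
  have hd0 : (d : ℂ) ≠ 0 := by exact_mod_cast hdpos.ne'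
  have hD0 : (D : ℂ) ≠ 0 := by exact_mod_cast hDpos.ne'
  -- the identity for an arbitrary involution, with the sign still unknown
  have key : ∀ s : G, s * s = 1 → s ≠ 1 → ∃ A : ℤ, (a.1 : G → ℂ) s = A ∧
      (if IsConj t s then (p : ℤ) else 0) * Nat.card G * d * D =
        ((cls s).card : ℤ) ^ 2 * (ε * z a.1 * ((d : ℤ) - A) ^ 2) := by
    intro s hs2 hs1
    have hso : orderOf s = 2 := orderOf_eq_prime (by rw [pow_two]; exact hs2) hs1
    obtain ⟨A, hA, -⟩ := Cfsg.Agent.Lib.helper3.GalFix.exists_int_apply_involution a.1 s hso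
    obtain ⟨L, hL, -⟩ := Cfsg.Agent.Lib.helper3.GalFix.exists_int_apply_involution Λ s hso
    refine ⟨A, hA, ?_⟩
    have hR2 : 1 + z a.1 * A - ε * L = 0 := by
      have h := congrFun hdec s
      rw [Xi_apply_involution P hp hP hp2 ω₀ hs2 hs1] at h
      simp only [Finset.sum_apply, Pi.smul_apply, smul_eq_mul] at h
      rw [hexp (fun ψ => (ψ : G → ℂ) s), h3, hA, hL] at h
      have h4 : ((1 + z a.1 * A - ε * L : ℤ) : ℂ) = ((0 : ℤ) : ℂ) := by
        push_cast
        linear_combination -h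
      exact Int.cast_injective h4
    have hκ : classInner (Xi P ω₀) (pairFun s) = ((if IsConj t s then (p : ℤ) else 0 : ℤ) : ℂ) := by
      by_cases hts : IsConj t s
      · rw [if_pos hts]
        have hcls : cls s = cls t := by
          ext b
          rw [mem_cls, mem_cls]
          exact ⟨fun h => hts.trans h, fun h => hts.symm.trans h⟩
        have hpf : pairFun s = pairFun t := by
          unfold pairFun
          rw [hcls]
        rw [hpf, classInner_Xi_pairFun P hp hP hC hN hp2 ht htP hω₀]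
        simp
      · rw [if_neg hts]
        rw [classInner_Xi_of_const P hp hP hω₀ (pairFun s) (pairFun_isClassFunction s) 0 (by simp)
          (fun x hx hx1 => pairFun_apply_of_not_conj P hp hP hC hN hp2 ht htP hs2 hs1 hts hx hx1)]
        simp
    have hR3 : ((if IsConj t s then (p : ℤ) else 0 : ℤ) : ℂ)
        = ∑ ψ : IrrCharacter G, (z ψ : ℂ) * classInner (ψ : G → ℂ) (pairFun s) := by
      rw [← hκ, hdec, classInner_sum_left]
      apply Finset.sum_congr rfl
      intro ψ _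
      rw [classInner_smul_left]
    rw [hexp, classInner_irr_pairFun, classInner_irr_pairFun, classInner_irr_pairFun, h3, hA, hL,
      hd1, hD1] at hR3
    have hR3' : (if IsConj t s then (p : ℤ) else 0) * Nat.card G * d * D =
        ((cls s).card : ℤ) ^ 2 * (d * D - ε * L ^ 2 * d + z a.1 * A ^ 2 * D) := by
      have h4 : ((((if IsConj t s then (p : ℤ) else 0) * Nat.card G * d * D : ℤ)) : ℂ) =
          ((((cls s).card : ℤ) ^ 2 * (d * D - ε * L ^ 2 * d + z a.1 * A ^ 2 * D) : ℤ) : ℂ) := by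
        push_cast
        field_simp at hR3
        push_cast at hR3
        linear_combination hR3
      exact Int.cast_injective h4
    have hkey : (d : ℤ) * D - ε * L ^ 2 * d + z a.1 * A ^ 2 * D
        = ε * z a.1 * ((d : ℤ) - A) ^ 2 := by
      rcases hε with h | h <;> rcases ha' with h' | h' <;> rw [h, h'] at hR1 hR2 ⊢
      · have e1 : (D : ℤ) = 1 + d := by linarith
        have e2 : L = 1 + A := by linarith
        rw [e1, e2]; ring
      · have e1 : (D : ℤ) = 1 - d := by linarith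
        have e2 : L = 1 - A := by linarith
        rw [e1, e2]; ring
      · have e1 : (D : ℤ) = -(1 + d) := by linarith
        have e2 : L = -(1 + A) := by linarith
        rw [e1, e2]; ring
      · have e1 : (D : ℤ) = -(1 - d) := by linarith
        have e2 : L = -(1 - A) := by linarith
        rw [e1, e2]; ring
    rw [hkey] at hR3'
    exact hR3'
  -- the sign, from `s = t`
  have ht2 := mul_self_eq_one_of_mem_normalizer P hp hP hC hN ht htP
  have ht1 : t ≠ 1 := fun h => htP (h ▸ one_mem P)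
  have hs : ε * z a.1 = 1 ∨ ε * z a.1 = -1 := by
    rcases hε with h | h <;> rcases ha' with h' | h' <;> rw [h, h'] <;> norm_num
  have hsign : ε * z a.1 = 1 := by
    rcases hs with hs | hs
    · exact hs
    · exfalso
      obtain ⟨A, -, hA⟩ := key t ht2 ht1
      rw [if_pos (IsConj.refl t), hs] at hA
      have hpos : (0 : ℤ) < (p : ℤ) * Nat.card G * d * D := by
        have h5 : 0 < Nat.card G := Nat.card_pos
        have h6 : 0 < p := hp.pos
        positivity
      have : 0 ≤ ((cls t).card : ℤ) ^ 2 * ((d : ℤ) - A) ^ 2 := by positivity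
      nlinarith
  have hεz : z a.1 = ε := by
    rcases hε with h | h <;> rcases ha' with h' | h' <;> rw [h, h'] at hsign ⊢ <;>
      norm_num at hsign
  refine ⟨a.1, d, D, ε, a.2.1, hε, hd1, hddvd, hDdvd, hd_gt, ?_, ?_, ?_⟩
  · have := hcong a.1 a.2.2 hza d hd1
    rwa [hεz] at this
  · rw [hεz] at hR1
    rcases hε with h | h <;> rw [h] at hR1 ⊢ <;> linarith
  · intro s hs2 hs1
    obtain ⟨A, hA1, hA2⟩ := key s hs2 hs1
    refine ⟨A, hA1, ?_⟩
    rw [hA2, hsign, one_mul]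

end dihedral

end Cfsg.Agent.Lib.Helper7.BrD
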