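import Mathlib
import Cfsg.Prelude.Def_Characters
import Cfsg.Agent.Lib.Helper4.Codegree
import Cfsg.Agent.Lib.helper3.Irr17
import Cfsg.Agent.Lib.Helper7.BrP6
import Cfsg.Agent.Lib.Helper7.BrD8

set_option autoImplicit false
set_option linter.style.haveILetI false
set_option linter.unusedSectionVars false

/-!
# Simple groups with a self-centralizing subgroup of prime order `p ≥ 5` and dihedral normalizer

All involutions are conjugate, and `p |C(s)|² (d - 1) ≤ 4 d |G|` for some `d ≥ p - 1`.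
(helper7, for S0980; the statement of `dihedral_normalizer_bound` was agreed with helper5.)
-/

namespace Cfsg.Agent.Lib.Helper7.BrD

open Cfsg Cfsg.Agent.Lib.helper3.Irr Cfsg.Agent.Lib.helper3.CharBasic
open Cfsg.Agent.Lib.helper3.IndFun Cfsg.Agent.Lib.helper3.CycTI Cfsg.Agent.Lib.Helper7.BrP
open scoped ComplexConjugate
open Classical

/-- a nontrivial irreducible character of a simple group is faithful -/
theorem eq_one_of_apply_eq_degree {G : Type*} [Group G] [Fintype G] [IsSimpleGroup G]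
    (Y : IrrCharacter G) (hY : Y ≠ trivIrr G) (g : G)
    (h : (Y : G → ℂ) g = (Y : G → ℂ) 1) : g = 1 := by
  have hYc := isCharacter_of_isIrrCharacter Y.2
  have hmem : g ∈ Cfsg.Agent.Lib.Helper4.Codegree.charKer (Y : G → ℂ) hYc := h
  rcases (Cfsg.Agent.Lib.Helper4.Codegree.charKer_normal (Y : G → ℂ) hYc).eq_bot_or_eq_top
    with hK | hK
  · rw [hK] at hmem
    exact Subgroup.mem_bot.1 hmem
  · exfalso
    have hall : ∀ x : G, (Y : G → ℂ) x = (Y : G → ℂ) 1 := by
      intro x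
      have : x ∈ Cfsg.Agent.Lib.Helper4.Codegree.charKer (Y : G → ℂ) hYc := by rw [hK]; trivial
      exact this
    have h0 : classInner (Y : G → ℂ) ((trivIrr G : IrrCharacter G) : G → ℂ) = 0 :=
      irr_classInner_eq_zero Y.2 (trivIrr G).2 (fun h => hY (Subtype.ext h))
    rw [classInner_apply] at h0
    have h3 : ((trivIrr G : IrrCharacter G) : G → ℂ) = fun _ => 1 := rfl
    rw [h3] at h0
    simp only [map_one, mul_one] at h0
    rw [Finset.sum_congr rfl (fun x _ => hall x), Finset.sum_const, Finset.card_univ,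
      nsmul_eq_mul, ← Nat.card_eq_fintype_card] at h0
    have hn0 : (Nat.card G : ℂ) ≠ 0 := card_ne_zero_complex G
    obtain ⟨n, hn, -, hnpos⟩ := Cfsg.Agent.Lib.helper3.Central.irr_degree_dvd_card Y.2
    rw [hn] at h0
    have hn' : (n : ℂ) ≠ 0 := by exact_mod_cast hnpos.ne'
    rw [← mul_assoc, inv_mul_cancel₀ hn0, one_mul] at h0
    exact hn' h0

section bound

variable {G : Type*} [Group G] [Fintype G] [IsSimpleGroup G] (P : Subgroup G)
  {p : ℕ} (hp : p.Prime) (hP : Nat.card P = p)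
  (hC : ∀ x ∈ P, x ≠ 1 → ∀ g : G, g * x = x * g → g ∈ P)
  (hN : Nat.card (Subgroup.normalizer (P : Set G)) = p * 2)

include hp hP hC hN in
/-- In a simple group with a self-centralizing subgroup `P` of prime order `p ≥ 5` and
`|N(P)| = 2p`: all involutions are conjugate, and there is an irreducible character `Y` of
degree `d ≡ δ = ±1 (mod p)` such that `|s^G|² (d - Y(s))² = p |G| d (d + δ)` for every
involution `s`. -/
theorem dihedral_simple (h5 : 5 ≤ p) :
    ∃ (t : G) (Y : IrrCharacter G) (d D : ℕ) (δ : ℤ), t * t = 1 ∧ t ≠ 1 ∧ Y ≠ trivIrr G ∧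
      (δ = 1 ∨ δ = -1) ∧ (Y : G → ℂ) 1 = d ∧ d ∣ Nat.card G ∧ D ∣ Nat.card G ∧ 1 < d ∧
      (p : ℤ) ∣ (d : ℤ) - δ ∧ (D : ℤ) = d + δ ∧
      ∀ s : G, s * s = 1 → s ≠ 1 → IsConj t s ∧ ∃ A : ℤ, (Y : G → ℂ) s = A ∧ |A| ≤ (d : ℤ) ∧
        ((cls s).card : ℤ) ^ 2 * ((d : ℤ) - A) ^ 2 = (p : ℤ) * Nat.card G * d * D := by
  have hp2 : p ≠ 2 := by omega
  have hG : ¬ (Nat.card G).Prime := by
    have hdvd : p * 2 ∣ Nat.card G := hN ▸ Subgroup.card_subgroup_dvd_card _
    intro hpr
    rcases (Nat.dvd_prime hpr).1 hdvd with h | h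
    · omega
    · have h2 : 2 ∣ Nat.card G := Dvd.dvd.trans (Dvd.intro_left p rfl) hdvd
      have := (Nat.prime_dvd_prime_iff_eq Nat.prime_two hpr).1 h2
      omega
  have hperf := linear_eq_triv_of_simple hG
  have hmain : MainOut P p := by
    by_cases h7 : 7 ≤ p
    · exact mainOut_of_seven P hp hP hC hN h7
    · have h56 : p = 5 ∨ p = 6 := by omega
      rcases h56 with h | h
      · exact mainOut_of_five P hp hP hC hN h
      · exfalso
        rw [h] at hp
        norm_num at hp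
  obtain ⟨t, ht, htP⟩ : ∃ t : G, t ∈ Subgroup.normalizer (P : Set G) ∧ t ∉ P := by
    by_contra hcon
    push_neg at hcon
    have hle : Subgroup.normalizer (P : Set G) ≤ P := hcon
    have := Subgroup.card_le_of_le hle
    rw [hN, hP] at this
    have := hp.pos
    omega
  have ht2 : t * t = 1 := mul_self_eq_one_of_mem_normalizer P hp hP hC hN ht htP
  have ht1 : t ≠ 1 := fun h => htP (h ▸ P.one_mem)
  obtain ⟨Y, d, D, δ, hY, hδ, hY1, hd, hD, hd1, hpd, hDd, hall⟩ :=
    dihedral_main P hp hP hC hN hmain hperf hp2 ht htP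
  refine ⟨t, Y, d, D, δ, ht2, ht1, hY, hδ, hY1, hd, hD, hd1, hpd, hDd, ?_⟩
  intro s hs2 hs1
  obtain ⟨A, hA, hid⟩ := hall s hs2 hs1
  by_cases hts : IsConj t s
  · rw [if_pos hts] at hid
    refine ⟨hts, A, hA, ?_, hid⟩
    obtain ⟨n, hn1, hnb⟩ := exists_nat_bound (isCharacter_of_isIrrCharacter Y.2)
    have hnd : n = d := by
      have : (n : ℂ) = (d : ℂ) := by rw [← hn1, ← hY1]
      exact_mod_cast this
    have h1 := hnb s
    rw [hA, hnd, Complex.norm_intCast] at h1
    exact_mod_cast h1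
  · exfalso
    rw [if_neg hts] at hid
    have hcard : ((cls s).card : ℤ) ≠ 0 := by
      have : s ∈ cls s := mem_cls.2 (IsConj.refl s)
      have := Finset.card_pos.2 ⟨s, this⟩
      exact_mod_cast this.ne'
    have h0 : ((cls s).card : ℤ) ^ 2 * ((d : ℤ) - A) ^ 2 = 0 := by
      rw [hid]; ring
    have h1 : ((d : ℤ) - A) ^ 2 = 0 := by
      rcases mul_eq_zero.1 h0 with h | h
      · exact absurd ((pow_eq_zero_iff (two_ne_zero)).1 h) hcard
      · exact h
    have h2 : (d : ℤ) = A := by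
      have := (pow_eq_zero_iff (two_ne_zero)).1 h1
      linarith
    apply hs1
    apply eq_one_of_apply_eq_degree Y hY s
    rw [hA, hY1, ← h2]
    push_cast
    rfl

end bound

/-- **The dihedral-normalizer bound** (interface agreed with helper5). -/
theorem dihedral_normalizer_bound {G : Type*} [Group G] [Finite G] [IsSimpleGroup G]
    (P : Subgroup G) {p : ℕ} (hp : p.Prime) (h5 : 5 ≤ p) (hP : Nat.card P = p)
    (hC : ∀ x ∈ P, x ≠ 1 → ∀ g : G, g * x = x * g → g ∈ P)
    (hN : Nat.card (Subgroup.normalizer (P : Set G)) = p * 2) (s : G) (hs : orderOf s = 2) :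
    ∃ d : ℕ, p - 1 ≤ d ∧
      p * Nat.card (Subgroup.centralizer ({s} : Set G)) ^ 2 * (d - 1) ≤ 4 * d * Nat.card G := by
  letI : Fintype G := Fintype.ofFinite G
  obtain ⟨t, Y, d, D, δ, -, -, -, hδ, -, -, -, hd1, hpd, hDd, hall⟩ :=
    dihedral_simple P hp hP hC hN h5
  have hs2 : s * s = 1 := by
    have := pow_orderOf_eq_one s
    rwa [hs, pow_two] at this
  have hs1 : s ≠ 1 := by
    intro h
    rw [h, orderOf_one] at hs
    omega
  obtain ⟨-, A, -, hAd, hid⟩ := hall s hs2 hs1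
  refine ⟨d, ?_, ?_⟩
  · -- `d ≡ δ (mod p)`, `d > 1`
    obtain ⟨q, hq⟩ := hpd
    rcases hδ with h | h
    · rw [h] at hq
      have hqpos : 0 < q := by
        by_contra hq0
        push_neg at hq0
        have : (p : ℤ) * q ≤ 0 := mul_nonpos_of_nonneg_of_nonpos (by positivity) hq0
        have hd1' : (1 : ℤ) < d := by exact_mod_cast hd1
        linarith
      have : (p : ℤ) ≤ p * q := by nlinarith
      have : (p : ℤ) ≤ (d : ℤ) - 1 := by linarith
      omega
    · rw [h] at hq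
      have hqpos : 0 < q := by
        by_contra hq0
        push_neg at hq0
        have : (p : ℤ) * q ≤ 0 := mul_nonpos_of_nonneg_of_nonpos (by positivity) hq0
        have hd1' : (1 : ℤ) < d := by exact_mod_cast hd1
        linarith
      have : (p : ℤ) ≤ p * q := by nlinarith
      have : (p : ℤ) ≤ (d : ℤ) + 1 := by linarith
      omega
  · have hc : (cls s).card = (Subgroup.centralizer ({s} : Set G)).index := by
      unfold cls
      exact Cfsg.Agent.Lib.helper3.Central.card_class_eq_index s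
    have hmul := Subgroup.card_mul_index (Subgroup.centralizer ({s} : Set G))
    set k := Nat.card (Subgroup.centralizer ({s} : Set G)) with hk
    set c := (Subgroup.centralizer ({s} : Set G)).index with hcdef
    set n := Nat.card G with hn
    rw [hc] at hid
    have hnpos : 0 < n := Nat.card_pos
    have hmulZ : (k : ℤ) * c = n := by exact_mod_cast hmul
    have hnZ : (0 : ℤ) < n := by exact_mod_cast hnpos
    have hdZ : (1 : ℤ) < d := by exact_mod_cast hd1
    -- `n (d - A)² = p k² d D`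
    have hkey : (n : ℤ) * ((d : ℤ) - A) ^ 2 = p * (k : ℤ) ^ 2 * d * D := by
      have h1 : (n : ℤ) * ((n : ℤ) * ((d : ℤ) - A) ^ 2) = n * (p * (k : ℤ) ^ 2 * d * D) := by
        calc (n : ℤ) * ((n : ℤ) * ((d : ℤ) - A) ^ 2)
            = (k : ℤ) ^ 2 * ((c : ℤ) ^ 2 * ((d : ℤ) - A) ^ 2) := by rw [← hmulZ]; ring
          _ = (k : ℤ) ^ 2 * ((p : ℤ) * n * d * D) := by rw [hid]
          _ = n * (p * (k : ℤ) ^ 2 * d * D) := by ring
      exact mul_left_cancel₀ hnZ.ne' h1
    have hA := abs_le.1 hAd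
    have hsq : ((d : ℤ) - A) ^ 2 ≤ 4 * (d : ℤ) ^ 2 := by nlinarith [hA.1, hA.2]
    have hDge : (d : ℤ) - 1 ≤ D := by
      rcases hδ with h | h <;> rw [hDd, h] <;> linarith
    have hpk : (0 : ℤ) ≤ p * (k : ℤ) ^ 2 * d := by positivity
    have h2 : (p : ℤ) * (k : ℤ) ^ 2 * d * ((d : ℤ) - 1) ≤ 4 * (d : ℤ) ^ 2 * n := by
      calc (p : ℤ) * (k : ℤ) ^ 2 * d * ((d : ℤ) - 1)
          ≤ p * (k : ℤ) ^ 2 * d * D := mul_le_mul_of_nonneg_left hDge hpk
        _ = n * ((d : ℤ) - A) ^ 2 := hkey.symm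
        _ ≤ n * (4 * (d : ℤ) ^ 2) := mul_le_mul_of_nonneg_left hsq hnZ.le
        _ = 4 * (d : ℤ) ^ 2 * n := by ring
    have h3 : (d : ℤ) * ((p : ℤ) * (k : ℤ) ^ 2 * ((d : ℤ) - 1)) ≤ d * (4 * d * n) := by
      calc (d : ℤ) * ((p : ℤ) * (k : ℤ) ^ 2 * ((d : ℤ) - 1))
          = (p : ℤ) * (k : ℤ) ^ 2 * d * ((d : ℤ) - 1) := by ring
        _ ≤ 4 * (d : ℤ) ^ 2 * n := h2
        _ = d * (4 * d * n) := by ring
    have h4 : (p : ℤ) * (k : ℤ) ^ 2 * ((d : ℤ) - 1) ≤ 4 * d * n :=
      le_of_mul_le_mul_left h3 (by linarith)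
    have h5' : ((d - 1 : ℕ) : ℤ) = (d : ℤ) - 1 := by
      rw [Nat.cast_sub hd1.le]; simp
    have : ((p * k ^ 2 * (d - 1) : ℕ) : ℤ) ≤ ((4 * d * n : ℕ) : ℤ) := by
      push_cast
      rw [h5']
      exact h4
    exact_mod_cast this

end Cfsg.Agent.Lib.Helper7.BrD
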