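import Mathlib
import Cfsg.Agent.Lib.Helper4.Sylow
import Cfsg.Agent.Lib.Helper4.Simple
import Cfsg.Agent.Lib.Helper4.AltEmbed
import Cfsg.Agent.Lib.helper3.Burnside
import Cfsg.Agent.S0904

/-! Generic Sylow-counting eliminations of orders of simple groups (helper7, for S0496). -/

set_option autoImplicit false

namespace Cfsg.Agent.Lib.Helper7.Ord

open Cfsg.Agent.Lib.Helper4.Sylow Cfsg.Agent.Lib.Helper4.Simple Cfsg.Agent.Lib.Helper4.AltEmbed

/-- The (decidable) condition under which `d` cannot be the number of Sylow `p`-subgroups of a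
simple group of order `n = p ^ a * m`. -/
def Killed (n p a m d : ℕ) : Prop :=
  ¬ (2 * n ∣ d.factorial) ∨ (a = 1 ∧ Nat.Coprime (m / d) (p - 1)) ∨
    (a = 1 ∧ p ≠ 2 ∧ d = p + 1 ∧ ¬ (2 * (n / d) ∣ p * (p - 1)))

instance (n p a m d : ℕ) : Decidable (Killed n p a m d) := by
  unfold Killed; infer_instance

/-- The same, allowing also the test `|N(P)| ∣ p (p - 1)` (valid when `C(P) = P`). -/
def Killed' (n p a m d : ℕ) : Prop :=
  Killed n p a m d ∨ ¬ (n / d ∣ p * (p - 1))

instance (n p a m d : ℕ) : Decidable (Killed' n p a m d) := by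
  unfold Killed'; infer_instance

section
variable {G : Type*} [Group G] [Finite G] [IsSimpleGroup G]

/-- basic data on the number of Sylow subgroups of a simple group of order `p ^ a * m`. -/
theorem sylow_data (p a m : ℕ) [hp : Fact p.Prime] (hn : Nat.card G = p ^ a * m) (hpm : ¬ p ∣ m)
    (ha : 0 < a) (hm : m ≠ 1) :
    Nat.card (Sylow p G) ∈ m.divisors ∧ Nat.card (Sylow p G) % p = 1 ∧
      Nat.card (Sylow p G) ≠ 1 := by
  have hm0 : m ≠ 0 := by rintro rfl; exact hpm (dvd_zero p)
  obtain ⟨P⟩ : Nonempty (Sylow p G) := inferInstance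
  refine ⟨Nat.mem_divisors.mpr ⟨card_sylow_dvd_of_card_eq hn hpm, hm0⟩, ?_, ?_⟩
  · have h1 := card_sylow_modEq_one p G
    have h2 : 1 % p = 1 := Nat.mod_eq_of_lt hp.out.one_lt
    rw [← h2]
    exact h1
  · apply card_sylow_ne_one_of_simple P
    · rw [card_sylow_of_card_eq hn hpm P]
      exact (Nat.one_lt_pow ha.ne' hp.out.one_lt).ne'
    · rw [card_sylow_of_card_eq hn hpm P, hn]
      intro h
      have h3 : p ^ a * 1 = p ^ a * m := by rw [mul_one]; exact h
      exact hm (Nat.eq_of_mul_eq_mul_left (pow_pos hp.out.pos a) h3).symm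

theorem two_lt_card_of (p a m : ℕ) [hp : Fact p.Prime] (hn : Nat.card G = p ^ a * m)
    (hpm : ¬ p ∣ m) (ha : 0 < a) (hm : m ≠ 1) : 2 < Nat.card G := by
  have hm0 : m ≠ 0 := by rintro rfl; exact hpm (dvd_zero p)
  have h1 : 2 ≤ p ^ a := by
    calc 2 ≤ p := hp.out.two_le
      _ = p ^ 1 := (pow_one p).symm
      _ ≤ p ^ a := Nat.pow_le_pow_right hp.out.pos ha
  have h2 : 2 ≤ m := by omega
  rw [hn]
  nlinarith

/-- `Killed` really kills. -/
theorem false_of_killed (p a m : ℕ) [hp : Fact p.Prime] (hn : Nat.card G = p ^ a * m)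
    (hpm : ¬ p ∣ m) (ha : 0 < a) (hm : m ≠ 1)
    (h : Killed (p ^ a * m) p a m (Nat.card (Sylow p G))) : False := by
  classical
  obtain ⟨hd1, hd2, hd3⟩ := sylow_data (G := G) p a m hn hpm ha hm
  have hG2 := two_lt_card_of (G := G) p a m hn hpm ha hm
  obtain ⟨P⟩ : Nonempty (Sylow p G) := inferInstance
  set d := Nat.card (Sylow p G) with hd
  have hidx : (Subgroup.normalizer ((P : Subgroup G) : Set G)).index = d := by
    rw [hd, P.card_eq_index_normalizer]
    rfl
  have hNtop : Subgroup.normalizer ((P : Subgroup G) : Set G) ≠ ⊤ := by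
    intro h
    rw [h, Subgroup.index_top] at hidx
    exact hd3 hidx.symm
  have hdpos : 0 < d := Nat.pos_of_mem_divisors hd1
  have hdm : d ∣ m := Nat.dvd_of_mem_divisors hd1
  have hNcard : Nat.card (Subgroup.normalizer ((P : Subgroup G) : Set G)) = p ^ a * m / d := by
    have h1 := card_sylow_mul_card_normalizer P
    rw [hn, ← hd] at h1
    rw [← h1, Nat.mul_div_cancel_left _ hdpos]
  rcases h with h | h | h
  · apply h
    have := two_mul_card_dvd_factorial_of_simple hG2 _ hNtop
    rwa [hidx, hn] at this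
  · obtain ⟨ha1, hcop⟩ := h
    subst ha1
    rw [pow_one] at hn hNcard
    have hPc : Nat.card (P : Subgroup G) = p := by
      have := card_sylow_of_card_eq (a := 1) (by rw [pow_one]; exact hn) hpm P
      rwa [pow_one] at this
    haveI hcyc : IsCyclic (P : Subgroup G) := isCyclic_of_prime_card hPc
    have hle := normalizer_le_centralizer_of_coprime (P : Subgroup G) hcyc (m / d)
      (by rw [hNcard, hPc, Nat.mul_div_assoc _ hdm])
      (by rw [hPc, Nat.totient_prime hp.out]; exact hcop)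
    apply false_of_simple_of_normalizer_le_centralizer P hle
    · rw [show Nat.card P = Nat.card (P : Subgroup G) from rfl, hPc]
      exact hp.out.one_lt.ne'
    · rw [show Nat.card P = Nat.card (P : Subgroup G) from rfl, hPc, hn]
      intro h
      have h3 : p * 1 = p * m := by rw [mul_one]; exact h
      exact hm (Nat.eq_of_mul_eq_mul_left hp.out.pos h3).symm
  · obtain ⟨ha1, hp2, hdp, hnd⟩ := h
    subst ha1
    rw [pow_one] at hn hNcard hnd
    have hPc : Nat.card (P : Subgroup G) = p := by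
      have := card_sylow_of_card_eq (a := 1) (by rw [pow_one]; exact hn) hpm P
      rwa [pow_one] at this
    apply hnd
    have := two_mul_card_normalizer_dvd hG2 _ hNtop p hp2 (Or.inr (by rw [hidx, hdp])) P hPc
    rwa [hNcard] at this

/-- Elimination of an order by Sylow counting for the prime `p`. -/
theorem sylow_kill_basic (p a m : ℕ) [hp : Fact p.Prime] (hn : Nat.card G = p ^ a * m)
    (hpm : ¬ p ∣ m) (ha : 0 < a) (hm : m ≠ 1)
    (h : ∀ d ∈ m.divisors, d % p = 1 → d ≠ 1 → Killed (p ^ a * m) p a m d) : False := by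
  obtain ⟨hd1, hd2, hd3⟩ := sylow_data (G := G) p a m hn hpm ha hm
  exact false_of_killed p a m hn hpm ha hm (h _ hd1 hd2 hd3)

theorem card_mul_relIndex_eq {H K : Subgroup G} (h : H ≤ K) :
    Nat.card H * H.relIndex K = Nat.card K := by
  have h1 := (H.subgroupOf K).card_mul_index
  rw [← Subgroup.relIndex] at h1
  rw [← h1]
  congr 1
  exact (Nat.card_congr (Subgroup.subgroupOfEquivOfLe h).toEquiv).symm

/-- `Killed'` kills when the order is `q₁ ^ x * q₂ ^ y * p` (uses S0904). -/
theorem false_of_killed' (q₁ q₂ x y p m : ℕ) [hp : Fact p.Prime] (hq₁ : q₁.Prime) (hq₂ : q₂.Prime)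
    (h12 : q₁ ≠ q₂) (h1p : q₁ ≠ p) (h2p : q₂ ≠ p) (hmq : m = q₁ ^ x * q₂ ^ y)
    (hn : Nat.card G = p ^ 1 * m) (hm : m ≠ 1)
    (h : Killed' (p ^ 1 * m) p 1 m (Nat.card (Sylow p G))) : False := by
  classical
  have hpm : ¬ p ∣ m := by
    rw [hmq]
    intro hd
    rcases (Nat.Prime.dvd_mul hp.out).mp hd with h' | h'
    · exact h1p ((Nat.prime_dvd_prime_iff_eq hp.out hq₁).mp (hp.out.dvd_of_dvd_pow h')).symm
    · exact h2p ((Nat.prime_dvd_prime_iff_eq hp.out hq₂).mp (hp.out.dvd_of_dvd_pow h')).symm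
  rcases h with h | h
  · exact false_of_killed p 1 m hn hpm one_pos hm h
  · apply h
    obtain ⟨hd1, hd2, hd3⟩ := sylow_data (G := G) p 1 m hn hpm one_pos hm
    obtain ⟨P⟩ : Nonempty (Sylow p G) := inferInstance
    set d := Nat.card (Sylow p G) with hd
    have hdpos : 0 < d := Nat.pos_of_mem_divisors hd1
    have hNcard : Nat.card (Subgroup.normalizer ((P : Subgroup G) : Set G)) = p ^ 1 * m / d := by
      have h1 := card_sylow_mul_card_normalizer P
      rw [hn, ← hd] at h1
      rw [← h1, Nat.mul_div_cancel_left _ hdpos]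
    have hPc : Nat.card (P : Subgroup G) = p := by
      have := card_sylow_of_card_eq hn hpm P
      rwa [pow_one] at this
    haveI hcyc : IsCyclic (P : Subgroup G) := isCyclic_of_prime_card hPc
    have hC : Subgroup.centralizer ((P : Subgroup G) : Set G) = (P : Subgroup G) :=
      Cfsg.Agent.S0904.result q₁ q₂ p x y hq₁ hq₂ h12 h1p h2p
        (by rw [hn, hmq, pow_one, mul_comm]) P
    have h1 := relIndex_centralizer_normalizer_dvd (P : Subgroup G)
    rw [hcyc.card_mulAut, hPc, Nat.totient_prime hp.out, hC] at h1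
    have h2 := card_mul_relIndex_eq (Subgroup.le_normalizer (H := (P : Subgroup G)))
    rw [← hNcard, ← h2, hPc]
    exact Nat.mul_dvd_mul_left p h1

/-- Elimination of an order `q₁ ^ x * q₂ ^ y * p` by Sylow counting for `p`, using S0904. -/
theorem sylow_kill_s0904 (q₁ q₂ x y p m : ℕ) [hp : Fact p.Prime] (hq₁ : q₁.Prime) (hq₂ : q₂.Prime)
    (h12 : q₁ ≠ q₂) (h1p : q₁ ≠ p) (h2p : q₂ ≠ p) (hmq : m = q₁ ^ x * q₂ ^ y)
    (hn : Nat.card G = p ^ 1 * m) (hm : m ≠ 1)
    (h : ∀ d ∈ m.divisors, d % p = 1 → d ≠ 1 → Killed' (p ^ 1 * m) p 1 m d) : False := by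
  have hpm : ¬ p ∣ m := by
    rw [hmq]
    intro hd
    rcases (Nat.Prime.dvd_mul hp.out).mp hd with h' | h'
    · exact h1p ((Nat.prime_dvd_prime_iff_eq hp.out hq₁).mp (hp.out.dvd_of_dvd_pow h')).symm
    · exact h2p ((Nat.prime_dvd_prime_iff_eq hp.out hq₂).mp (hp.out.dvd_of_dvd_pow h')).symm
  obtain ⟨hd1, hd2, hd3⟩ := sylow_data (G := G) p 1 m hn hpm one_pos hm
  exact false_of_killed' q₁ q₂ x y p m hq₁ hq₂ h12 h1p h2p hmq hn hm (h _ hd1 hd2 hd3)

/-- Burnside's `p^a q^b` theorem in the form needed: a non-commutative simple group does not have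
order `s ^ x * r ^ y`. -/
theorem two_prime_kill (hG : ¬ IsMulCommutative G) (s r x y : ℕ) (hs : s.Prime) (hr : r.Prime)
    (hcard : Nat.card G = s ^ x * r ^ y) (hrn : r ∣ Nat.card G) : False := by
  have hprime := Cfsg.Agent.Lib.helper3.Burnside.prime_card_of_simple_of_card s r x y hs hr hcard hrn
  haveI : Fact (Nat.card G).Prime := ⟨hprime⟩
  haveI : IsCyclic G := isCyclic_of_prime_card rfl
  exact hG IsCyclic.isMulCommutative

end

end Cfsg.Agent.Lib.Helper7.Ord
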