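import Mathlib
import Cfsg.Agent.Lib.Helper7.OrdA

/-! Wrappers for the dispatch over orders (helper7, for S0496). -/

set_option autoImplicit false

namespace Cfsg.Agent.Lib.Helper7.Ord

section
variable {G : Type*} [Group G] [Finite G] [IsSimpleGroup G]

theorem kb (p a m : ℕ) (hp : p.Prime) (hn : Nat.card G = p ^ a * m)
    (hpm : ¬ p ∣ m) (ha : 0 < a) (hm : m ≠ 1)
    (h : ∀ d ∈ m.divisors, d % p = 1 → d ≠ 1 → Killed (p ^ a * m) p a m d) : False := by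
  haveI : Fact p.Prime := ⟨hp⟩
  exact sylow_kill_basic p a m hn hpm ha hm h

theorem ks (q₁ q₂ x y p m : ℕ) (hp : p.Prime) (hq₁ : q₁.Prime) (hq₂ : q₂.Prime)
    (h12 : q₁ ≠ q₂) (h1p : q₁ ≠ p) (h2p : q₂ ≠ p) (hmq : m = q₁ ^ x * q₂ ^ y)
    (hn : Nat.card G = p ^ 1 * m) (hm : m ≠ 1)
    (h : ∀ d ∈ m.divisors, d % p = 1 → d ≠ 1 → Killed' (p ^ 1 * m) p 1 m d) : False := by
  haveI : Fact p.Prime := ⟨hp⟩
  exact sylow_kill_s0904 q₁ q₂ x y p m hq₁ hq₂ h12 h1p h2p hmq hn hm h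

theorem one_lt_card_simple : 1 < Nat.card G := Finite.one_lt_card

end

end Cfsg.Agent.Lib.Helper7.Ord
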