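import Mathlib
import Cfsg.Agent.Lib.Helper7.OrdZ
import Cfsg.Agent.Lib.Helper7.BrP6
import Cfsg.Agent.Lib.Helper7.BrD9

/-! The "dihedral" elimination of orders of simple groups (helper7, for S0983): if Sylow counting
forces a Sylow subgroup of prime order `p ≥ 5` to have a normalizer of order `2p`, then there are
divisors `d > 1` and `d ± 1` of the order with `d ≡ ±1 (mod p)`. -/

set_option autoImplicit false

namespace Cfsg.Agent.Lib.Helper7.Ord2

open Cfsg.Agent.Lib.Helper7.Ord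

section
variable {G : Type*} [Group G] [Finite G] [IsSimpleGroup G]

/-- The number of Sylow `p`-subgroups is `d₀` if all other candidates are `Killed`. -/
theorem card_sylow_eq_of_killed (p a m d₀ : ℕ) (hp : p.Prime) (hn : Nat.card G = p ^ a * m)
    (hpm : ¬ p ∣ m) (ha : 0 < a) (hm : m ≠ 1)
    (h : ∀ d ∈ m.divisors, d % p = 1 → d ≠ 1 → d ≠ d₀ → Killed (p ^ a * m) p a m d) :
    Nat.card (Sylow p G) = d₀ := by
  haveI : Fact p.Prime := ⟨hp⟩
  obtain ⟨hd1, hd2, hd3⟩ := sylow_data (G := G) p a m hn hpm ha hm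
  by_contra hne
  exact false_of_killed p a m hn hpm ha hm (h _ hd1 hd2 hd3 hne)

/-- The same for an order `q₁ ^ x * q₂ ^ y * p`, allowing the test of S0904. -/
theorem card_sylow_eq_of_killed' (q₁ q₂ x y p m d₀ : ℕ) (hp : p.Prime) (hq₁ : q₁.Prime)
    (hq₂ : q₂.Prime) (h12 : q₁ ≠ q₂) (h1p : q₁ ≠ p) (h2p : q₂ ≠ p) (hmq : m = q₁ ^ x * q₂ ^ y)
    (hn : Nat.card G = p ^ 1 * m) (hpm : ¬ p ∣ m) (hm : m ≠ 1)
    (h : ∀ d ∈ m.divisors, d % p = 1 → d ≠ 1 → d ≠ d₀ → Killed' (p ^ 1 * m) p 1 m d) :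
    Nat.card (Sylow p G) = d₀ := by
  haveI : Fact p.Prime := ⟨hp⟩
  obtain ⟨hd1, hd2, hd3⟩ := sylow_data (G := G) p 1 m hn hpm one_pos hm
  by_contra hne
  exact false_of_killed' q₁ q₂ x y p m hq₁ hq₂ h12 h1p h2p hmq hn hm (h _ hd1 hd2 hd3 hne)

/-- The dihedral elimination, given the number of Sylow subgroups. -/
theorem dihedral_kill_of_count (p m d₀ : ℕ) (hp : p.Prime) (h5 : 5 ≤ p)
    (hn : Nat.card G = p ^ 1 * m)
    (hpm : ¬ p ∣ m) (hm : m ≠ 1) (hd₀ : m = d₀ * 2) (hd₀pos : 0 < d₀)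
    (hcnt : Nat.card (Sylow p G) = d₀)
    (harith : ∀ d ∈ Finset.range (p * m + 1), d ∣ p * m → 1 < d →
      ¬ (d % p = 1 ∧ (d + 1) ∣ p * m) ∧ ¬ (d % p = p - 1 ∧ (d - 1) ∣ p * m)) : False := by
  classical
  haveI : Fact p.Prime := ⟨hp⟩
  let _ : Fintype G := Fintype.ofFinite G
  rw [pow_one] at hn
  obtain ⟨P⟩ : Nonempty (Sylow p G) := inferInstance
  have hP : Nat.card (P : Subgroup G) = p := by
    simpa using Cfsg.Agent.Lib.Helper4.Sylow.card_sylow_of_card_eq (a := 1)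
      (by rw [pow_one]; exact hn) hpm P
  have hN := Cfsg.Agent.Lib.Helper4.Sylow.card_sylow_mul_card_normalizer P
  rw [hcnt, hn, hd₀] at hN
  have hN' : Nat.card (Subgroup.normalizer ((P : Subgroup G) : Set G)) = p * 2 := by
    have h1 : d₀ * Nat.card (Subgroup.normalizer ((P : Subgroup G) : Set G)) = d₀ * (p * 2) := by
      rw [hN]; ring
    exact Nat.eq_of_mul_eq_mul_left hd₀pos h1
  have hm2 : 2 ≤ m := by omega
  have hGne : Nat.card G ≠ p := by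
    rw [hn]
    intro h1
    have : p * m = p * 1 := by rw [mul_one]; exact h1
    have := Nat.eq_of_mul_eq_mul_left hp.pos this
    omega
  have hGnp : ¬ (Nat.card G).Prime := by
    rw [hn]
    apply Nat.not_prime_mul (by have := hp.two_le; omega) (by omega)
  have hC := Cfsg.Agent.Lib.Helper7.BrP.self_centralizing_of_simple P hP 2 Nat.prime_two hN' hGne
  obtain ⟨t, Y, d, D, δ, -, -, -, hδ, -, hd, hD, hd1, hcong, hDd, -⟩ :=
    Cfsg.Agent.Lib.Helper7.BrD.dihedral_simple (P : Subgroup G) hp hP hC hN' h5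
  rw [hn] at hd hD
  have hpm0 : 0 < p * m := Nat.mul_pos hp.pos (by omega)
  have hdle := Nat.le_of_dvd hpm0 hd
  have key := harith d (Finset.mem_range.mpr (by omega)) hd hd1
  obtain ⟨c, hc⟩ := hcong
  rcases hδ with rfl | rfl
  · apply key.1
    have hD' : D = d + 1 := by omega
    refine ⟨?_, hD' ▸ hD⟩
    have h1 : (d : ℤ) = 1 + p * c := by linarith
    have h2 : ((d : ℤ)) % (p : ℤ) = 1 := by
      rw [h1, Int.add_mul_emod_self_left]
      exact Int.emod_eq_of_lt (by norm_num) (by exact_mod_cast (by omega : 1 < p))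
    exact_mod_cast h2
  · apply key.2
    have hD' : D = d - 1 := by omega
    refine ⟨?_, hD' ▸ hD⟩
    have h1 : (d : ℤ) = (p - 1 : ℤ) + p * (c - 1) := by linarith
    have h2 : ((d : ℤ)) % (p : ℤ) = (p : ℤ) - 1 := by
      rw [h1, Int.add_mul_emod_self_left]
      exact Int.emod_eq_of_lt (by have : (5 : ℤ) ≤ p := by exact_mod_cast h5
                                  linarith) (by linarith)
    have h3 : ((d % p : ℕ) : ℤ) = ((p - 1 : ℕ) : ℤ) := by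
      rw [Nat.cast_sub (by omega)]
      push_cast
      exact h2
    exact_mod_cast h3


/-- The dihedral elimination. -/
theorem dihedral_kill (p m d₀ : ℕ) (hp : p.Prime) (h5 : 5 ≤ p) (hn : Nat.card G = p ^ 1 * m)
    (hpm : ¬ p ∣ m) (hm : m ≠ 1) (hd₀ : m = d₀ * 2) (hd₀pos : 0 < d₀)
    (h : ∀ d ∈ m.divisors, d % p = 1 → d ≠ 1 → d ≠ d₀ → Killed (p ^ 1 * m) p 1 m d)
    (harith : ∀ d ∈ Finset.range (p * m + 1), d ∣ p * m → 1 < d →
      ¬ (d % p = 1 ∧ (d + 1) ∣ p * m) ∧ ¬ (d % p = p - 1 ∧ (d - 1) ∣ p * m)) : False :=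
  dihedral_kill_of_count p m d₀ hp h5 hn hpm hm hd₀ hd₀pos
    (card_sylow_eq_of_killed (G := G) p 1 m d₀ hp hn hpm one_pos hm h) harith

/-- The dihedral elimination for an order `q₁ ^ x * q₂ ^ y * p`. -/
theorem dihedral_kill' (q₁ q₂ x y p m d₀ : ℕ) (hp : p.Prime) (h5 : 5 ≤ p) (hq₁ : q₁.Prime)
    (hq₂ : q₂.Prime) (h12 : q₁ ≠ q₂) (h1p : q₁ ≠ p) (h2p : q₂ ≠ p) (hmq : m = q₁ ^ x * q₂ ^ y)
    (hn : Nat.card G = p ^ 1 * m)
    (hpm : ¬ p ∣ m) (hm : m ≠ 1) (hd₀ : m = d₀ * 2) (hd₀pos : 0 < d₀)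
    (h : ∀ d ∈ m.divisors, d % p = 1 → d ≠ 1 → d ≠ d₀ → Killed' (p ^ 1 * m) p 1 m d)
    (harith : ∀ d ∈ Finset.range (p * m + 1), d ∣ p * m → 1 < d →
      ¬ (d % p = 1 ∧ (d + 1) ∣ p * m) ∧ ¬ (d % p = p - 1 ∧ (d - 1) ∣ p * m)) : False :=
  dihedral_kill_of_count p m d₀ hp h5 hn hpm hm hd₀ hd₀pos
    (card_sylow_eq_of_killed' (G := G) q₁ q₂ x y p m d₀ hp hq₁ hq₂ h12 h1p h2p hmq hn hpm hm h)
    harith

end

end Cfsg.Agent.Lib.Helper7.Ord2
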