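import Mathlib
import Cfsg.Agent.Lib.Helper4.Sylow
import Cfsg.Agent.Lib.Helper4.Simple
import Cfsg.Agent.Lib.Helper5.O5040A
import Cfsg.Agent.Lib.Helper5.O5040B
import Cfsg.Agent.Lib.Helper5.O5040C
import Cfsg.Agent.Lib.Helper5.O5040D
import Cfsg.Agent.Lib.Helper7.Ord2B
import Cfsg.Agent.S0215

/-!
# No simple group of order 5940 = 2²·3³·5·11   (helper7, for S0983)

`n₁₁ = 45`, `|N(P₁₁)| = 132`, `|C(P₁₁)| = 66`; an involution `z ∈ C(P₁₁)` fixes exactly one of the
`45` cosets of `N = N(P₁₁)` (`≡ 1 mod 11`, `≡ 1 mod 4`), so `N` controls the fusion of `z`; a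
Sylow `2`-subgroup `T ∋ z` (abelian of order `4`) lies in `N`, and a conjugate `z' ≠ z` of `z` in
`T` would lie in `C(P₁₁)`, forcing `4 ∣ 66`.  Hence `z` is isolated in `T`, against `Z*`.
-/

set_option autoImplicit false
set_option maxRecDepth 100000

namespace Cfsg.Agent.Lib.Helper7.O5940

open MulAction Cfsg.Agent.Lib.Helper5.O5040 Cfsg.Agent.Lib.Helper4.Sylow
  Cfsg.Agent.Lib.Helper4.Simple

/-- Fusion control: if `z ∈ H` fixes exactly one coset of `H`, then `g z g⁻¹ ∈ H` forces
`g ∈ H`. -/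
theorem mem_of_conj_mem_of_card_fixedBy_eq_one {G : Type*} [Group G] (H : Subgroup G) (z : G)
    (hz : z ∈ H) (h1 : Nat.card (fixedBy (G ⧸ H) z) = 1) (g : G) (hg : g * z * g⁻¹ ∈ H) :
    g ∈ H := by
  obtain ⟨hsub, -⟩ := Nat.card_eq_one_iff_unique.1 h1
  have ha : ((1 : G) : G ⧸ H) ∈ fixedBy (G ⧸ H) z := by
    rw [mem_fixedBy, MulAction.Quotient.smul_coe, QuotientGroup.eq]
    simpa using H.inv_mem hz
  have hb : ((g⁻¹ : G) : G ⧸ H) ∈ fixedBy (G ⧸ H) z := by
    rw [mem_fixedBy, MulAction.Quotient.smul_coe, QuotientGroup.eq]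
    have h2 : (z • g⁻¹)⁻¹ * g⁻¹ = (g * z * g⁻¹)⁻¹ := by
      simp only [smul_eq_mul]; group
    rw [h2]
    exact H.inv_mem hg
  have h3 := hsub.elim ⟨_, ha⟩ ⟨_, hb⟩
  have h4 : ((1 : G) : G ⧸ H) = ((g⁻¹ : G) : G ⧸ H) := congrArg Subtype.val h3
  rw [QuotientGroup.eq] at h4
  have h5 : g⁻¹ ∈ H := by simpa using h4
  simpa using H.inv_mem h5

/-- a central element of a simple group of non-prime order is trivial -/
theorem eq_one_of_central' {G : Type*} [Group G] [Finite G] [IsSimpleGroup G]
    (hnp : ¬ (Nat.card G).Prime) (k : G) (hk : ∀ g : G, g * k = k * g) : k = 1 := by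
  have hmem : k ∈ Subgroup.center G := Subgroup.mem_center_iff.2 hk
  rcases (Subgroup.normal_of_characteristic (Subgroup.center G)).eq_bot_or_eq_top with hb | ht
  · rw [hb, Subgroup.mem_bot] at hmem
    exact hmem
  · exfalso
    have hcomm : ∀ a b : G, a * b = b * a := by
      intro a b
      have : b ∈ Subgroup.center G := by rw [ht]; trivial
      exact (Subgroup.mem_center_iff.1 this a)
    let _ : CommGroup G := { (inferInstance : Group G) with mul_comm := hcomm }
    exact hnp (IsSimpleGroup.prime_card (α := G))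

/-- **Z\*** in a simple group of even non-prime order: an involution is never isolated in a Sylow
`2`-subgroup. -/
theorem not_isolated' {G : Type*} [Group G] [Finite G] [IsSimpleGroup G]
    (hnp : ¬ (Nat.card G).Prime) (heven : Even (Nat.card G)) [Fact (Nat.Prime 2)]
    (S : Sylow 2 G) (u : G)
    (hu : orderOf u = 2) (huS : u ∈ S) (hiso : ∀ g : G, g * u * g⁻¹ ∈ S → g * u * g⁻¹ = u) :
    False := by
  obtain ⟨N, hNn, hNodd, hNc⟩ := Cfsg.Agent.S0215.result S u hu huS hiso
  have hu1 : u ≠ 1 := by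
    intro h; rw [h, orderOf_one] at hu; norm_num at hu
  rcases hNn.eq_bot_or_eq_top with h | h
  · apply hu1
    apply eq_one_of_central' hnp
    intro g
    have := hNc g
    rw [h, Subgroup.mem_bot] at this
    have h2 : u * g = g * u := by
      calc u * g = (u * g * u⁻¹ * g⁻¹) * g * u := by group
        _ = g * u := by rw [this, one_mul]
    exact h2.symm
  · rw [h, Subgroup.card_top] at hNodd
    exact (Nat.not_even_iff_odd.2 hNodd) heven

section main
variable {G : Type*} [Group G] [Finite G] [IsSimpleGroup G]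

theorem no_simple_5940 (hn : Nat.card G = 5940) : False := by
  classical
  haveI : Fact (Nat.Prime 11) := ⟨by norm_num⟩
  haveI : Fact (Nat.Prime 2) := ⟨Nat.prime_two⟩
  have hn' : Nat.card G = 11 ^ 1 * 540 := by rw [hn]; norm_num
  have hnp : ¬ (Nat.card G).Prime := by rw [hn]; norm_num
  have hcnt : Nat.card (Sylow 11 G) = 45 :=
    Cfsg.Agent.Lib.Helper7.Ord2.card_sylow_eq_of_killed 11 1 540 45 (by norm_num) hn'
      (by norm_num) one_pos (by norm_num) (by decide)
  obtain ⟨P⟩ : Nonempty (Sylow 11 G) := inferInstance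
  have hP : Nat.card (P : Subgroup G) = 11 := by
    simpa using card_sylow_of_card_eq hn' (by norm_num) P
  have hN := card_sylow_mul_card_normalizer P
  rw [hcnt, hn] at hN
  set N := Subgroup.normalizer ((P : Subgroup G) : Set G) with hNdef
  set C := Subgroup.centralizer ((P : Subgroup G) : Set G) with hCdef
  have hN132 : Nat.card N = 132 := by omega
  have hCN : C ≤ N := Subgroup.centralizer_le_normalizer _
  have h1 := relIndex_centralizer_normalizer_dvd (P : Subgroup G)
  haveI hcyc : IsCyclic (P : Subgroup G) := isCyclic_of_prime_card hP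
  rw [hcyc.card_mulAut, hP, Nat.totient_prime (by norm_num)] at h1
  have h2 := Cfsg.Agent.Lib.Helper7.Ord.card_mul_relIndex_eq hCN
  rw [hN132] at h2
  have hP1 : Nat.card P ≠ 1 := by
    rw [show Nat.card P = Nat.card (P : Subgroup G) from rfl, hP]; norm_num
  have hPG : Nat.card P ≠ Nat.card G := by
    rw [show Nat.card P = Nat.card (P : Subgroup G) from rfl, hP, hn]; norm_num
  have hC66 : Nat.card C = 66 := by
    rw [← hNdef, ← hCdef] at h1
    set r := C.relIndex N with hr
    have hr10 : r ≤ 10 := Nat.le_of_dvd (by norm_num) h1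
    interval_cases r
    · simp at h1
    · exfalso
      have hle : N ≤ C := Subgroup.relIndex_eq_one.1 hr.symm
      exact false_of_simple_of_normalizer_le_centralizer P hle hP1 hPG
    · omega
    all_goals first | omega | (exfalso; revert h1; decide)
  -- an involution `z` in `C`
  obtain ⟨z, hzC, hz2⟩ := exists_orderOf_of_dvd C 2 (by rw [hC66]; norm_num)
  have hzN : z ∈ N := hCN hzC
  have hzz : z * z = 1 := by rw [← pow_two, ← hz2]; exact pow_orderOf_eq_one z
  have hz1 : z ≠ 1 := by intro h; rw [h, orderOf_one] at hz2; norm_num at hz2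
  -- a generator `x` of `P`
  obtain ⟨x, hxP, hx11⟩ := exists_orderOf_of_dvd (P : Subgroup G) 11 (by rw [hP])
  have hx1 : x ≠ 1 := by intro h; rw [h, orderOf_one] at hx11; norm_num at hx11
  have hx11' : x ^ 11 = 1 := by rw [← hx11]; exact pow_orderOf_eq_one x
  have hfx : Nat.card (fixedBy (G ⧸ N) x) = 1 :=
    card_fixedBy_eq_one_of_le 11 P hP N le_rfl x hxP hx1
  have hcomm : z * x = x * z := by
    rw [Subgroup.mem_centralizer_iff] at hzC
    exact (hzC x hxP).symm
  have hf11 := card_fixedBy_modEq_one (X := G ⧸ N) 11 x z hx11' hcomm hfx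
  have hG2 : 2 < Nat.card G := by rw [hn]; norm_num
  have hf4 := card_mod_four_eq (X := G ⧸ N) hG2 z hzz
  have hX : Nat.card (G ⧸ N) = 45 := by
    have h3 := N.card_mul_index
    rw [hN132, hn, Subgroup.index_eq_card] at h3
    omega
  have hfle := card_fixedBy_le (X := G ⧸ N) z
  have hNtop : N ≠ ⊤ := by
    intro h
    rw [h, Subgroup.card_top, hn] at hN132
    norm_num at hN132
  have hf : Nat.card (fixedBy (G ⧸ N) z) = 1 := by
    rw [hX] at hf4 hfle
    unfold Nat.ModEq at hf11
    have h3 : Nat.card (fixedBy (G ⧸ N) z) = 1 ∨ Nat.card (fixedBy (G ⧸ N) z) = 45 := by omega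
    rcases h3 with h | h
    · exact h
    · exact absurd (eq_one_of_card_fixedBy_eq N hNtop z (by rw [h, hX])) hz1
  -- a Sylow `2`-subgroup containing `z`
  obtain ⟨T, hzT⟩ : ∃ T : Sylow 2 G, z ∈ (T : Subgroup G) := by
    have hPG2 : IsPGroup 2 (Subgroup.zpowers z) := by
      apply IsPGroup.of_card (n := 1)
      rw [Nat.card_zpowers, hz2]; norm_num
    obtain ⟨T, hT⟩ := hPG2.exists_le_sylow
    exact ⟨T, hT (Subgroup.mem_zpowers z)⟩
  have hT4 : Nat.card (T : Subgroup G) = 4 := by
    have := card_sylow_of_card_eq (p := 2) (a := 2) (m := 1485) (by rw [hn]; norm_num) (by norm_num) T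
    simpa using this
  have hTcomm := IsPGroup.commutative_of_card_eq_prime_sq (p := 2) (G := (T : Subgroup G))
    (by rw [hT4]; norm_num)
  have hTN : (T : Subgroup G) ≤ N := by
    intro t ht
    apply mem_of_conj_mem_of_card_fixedBy_eq_one N z hzN hf t
    have h3 := hTcomm ⟨t, ht⟩ ⟨z, hzT⟩
    have h4 : t * z = z * t := congrArg Subtype.val h3
    have h5 : t * z * t⁻¹ = z := by rw [h4]; group
    rw [h5]; exact hzN
  apply not_isolated' hnp (by rw [hn]; decide) T z hz2 hzT
  intro g hg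
  have hgN : g ∈ N := mem_of_conj_mem_of_card_fixedBy_eq_one N z hzN hf g (hTN hg)
  have hz'C : g * z * g⁻¹ ∈ C := conj_mem_centralizer (P : Subgroup G) g z hgN hzC
  by_contra hne
  have hz'1 : g * z * g⁻¹ ≠ 1 := by
    intro h
    apply hz1
    have : z = g⁻¹ * (g * z * g⁻¹) * g := by group
    rw [this, h]; group
  set D := (T : Subgroup G) ⊓ C with hD
  have hD3 : 3 ≤ Nat.card D := by
    have hsub : ({1, z, g * z * g⁻¹} : Set G) ⊆ (D : Set G) := by
      intro a ha
      simp only [Set.mem_insert_iff, Set.mem_singleton_iff] at ha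
      rcases ha with rfl | rfl | rfl
      · exact D.one_mem
      · exact ⟨hzT, hzC⟩
      · exact ⟨hg, hz'C⟩
    have h3 : ({1, z, g * z * g⁻¹} : Set G).ncard = 3 :=
      Set.ncard_eq_three.2 ⟨1, z, g * z * g⁻¹, hz1.symm, hz'1.symm, fun h => hne h.symm, rfl⟩
    have h4 := Set.ncard_le_ncard hsub (Set.toFinite _)
    rw [h3] at h4
    rwa [← Nat.card_coe_set_eq] at h4
  have hD4 : Nat.card D ∣ 4 := hT4 ▸ Subgroup.card_dvd_of_le (inf_le_left : D ≤ (T : Subgroup G))
  have hD66 : Nat.card D ∣ 66 := hC66 ▸ Subgroup.card_dvd_of_le (inf_le_right : D ≤ C)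
  have hDle : Nat.card D ≤ 4 := Nat.le_of_dvd (by norm_num) hD4
  generalize Nat.card D = d at hD3 hD4 hD66 hDle
  interval_cases d <;> omega

end main

end Cfsg.Agent.Lib.Helper7.O5940
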