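import Mathlib
import Cfsg.Prelude.Def_OddOrderChar
import Cfsg.Agent.Lib.helper3.Tifn6

set_option autoImplicit false
set_option linter.style.haveILetI false
set_option linter.unusedSectionVars false

/-!
# Feit's theorem on Zassenhaus groups, part 1: the characters of the normalizer
-/

namespace Cfsg.Agent.Lib.Helper7.FeitZ

open Cfsg Module Cfsg.Agent.Lib.helper3.CharBasic Cfsg.Agent.Lib.helper3.IndFun
open Cfsg.Agent.Lib.helper3.Irr Cfsg.Agent.Lib.helper3.Coh Cfsg.Agent.Lib.helper3.Tifn
open scoped ComplexConjugate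

section nside

variable {N : Type*} [Group N] [Fintype N] (K : Subgroup N)

open Classical in
/-- The relevant irreducible characters, as a finset. -/
noncomputable def relF : Finset (IrrCharacter N) :=
  Finset.univ.filter (fun ζ => (ζ : N → ℂ) ∈ relSet K)

open Classical in
/-- The irreducible characters with the subgroup in their kernel, as a finset. -/
noncomputable def nrelF : Finset (IrrCharacter N) :=
  Finset.univ.filter (fun ζ => (ζ : N → ℂ) ∉ relSet K)

theorem mem_relF {ζ : IrrCharacter N} : ζ ∈ relF K ↔ (ζ : N → ℂ) ∈ relSet K := by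
  classical
  unfold relF
  simp

theorem mem_nrelF {ζ : IrrCharacter N} : ζ ∈ nrelF K ↔ (ζ : N → ℂ) ∉ relSet K := by
  classical
  unfold nrelF
  simp

/-- Splitting a sum over the irreducible characters. -/
theorem sum_split (F : IrrCharacter N → ℂ) :
    ∑ ζ : IrrCharacter N, F ζ = ∑ ζ ∈ relF K, F ζ + ∑ ζ ∈ nrelF K, F ζ := by
  classical
  unfold relF nrelF
  rw [Finset.sum_filter_add_sum_filter_not]

variable [hKn : K.Normal]
  (hC : ∀ n ∈ K, n ≠ 1 → Subgroup.centralizer ({n} : Set N) ≤ K)

include hC in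
open Classical in
/-- The sum of an irreducible character over the subgroup. -/
theorem sum_subgroup_irr [Fintype K] (ζ : IrrCharacter N) :
    ∑ k : K, (ζ : N → ℂ) (k : N) =
      if (ζ : N → ℂ) ∈ relSet K then 0 else (Nat.card K : ℂ) * (ζ : N → ℂ) 1 := by
  classical
  split_ifs with h
  · exact sum_subgroup_eq_zero K hC h
  · have h1 : ∀ k : K, (ζ : N → ℂ) (k : N) = (ζ : N → ℂ) 1 :=
      fun k => apply_eq_of_not_mem_relSet ζ.2 h k.2
    simp_rw [h1]
    rw [Finset.sum_const, Finset.card_univ, nsmul_eq_mul, Nat.card_eq_fintype_card]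

include hC in
/-- The sum of a class function over the subgroup. -/
theorem sum_subgroup_classFunction [Fintype K] (f : N → ℂ) (hf : IsClassFunction N f) :
    ∑ k : K, f (k : N) =
      (Nat.card K : ℂ) * ∑ ζ ∈ nrelF K, classInner f (ζ : N → ℂ) * (ζ : N → ℂ) 1 := by
  classical
  have hdec := classFunction_eq_sum f hf
  have h1 : ∀ k : K, f (k : N) =
      ∑ ζ : IrrCharacter N, classInner f (ζ : N → ℂ) * (ζ : N → ℂ) (k : N) := by
    intro k
    conv_lhs => rw [hdec]
    simp only [Finset.sum_apply, Pi.smul_apply, smul_eq_mul]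
  simp_rw [h1]
  rw [Finset.sum_comm]
  simp_rw [← Finset.mul_sum, sum_subgroup_irr K hC]
  rw [sum_split K, Finset.mul_sum]
  have hA : ∑ ζ ∈ relF K, classInner f (ζ : N → ℂ) *
      (if (ζ : N → ℂ) ∈ relSet K then 0 else (Nat.card K : ℂ) * (ζ : N → ℂ) 1) = 0 := by
    apply Finset.sum_eq_zero
    intro ζ hζ
    rw [if_pos ((mem_relF K).1 hζ), mul_zero]
  rw [hA, zero_add]
  apply Finset.sum_congr rfl
  intro ζ hζ
  rw [if_neg ((mem_nrelF K).1 hζ)]
  ring

include hC in
/-- The squares of the degrees of the characters with the subgroup in their kernel add up to the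
index. -/
theorem sum_nrel_sq : ∑ ζ ∈ nrelF K, (ζ : N → ℂ) 1 ^ 2 = (K.index : ℂ) := by
  classical
  letI : Fintype K := Fintype.ofFinite K
  have hK : (Nat.card K : ℂ) ≠ 0 := card_ne_zero_complex K
  -- sum over the subgroup of the regular character
  have h1 : ∑ k : K, ∑ ζ : IrrCharacter N, (ζ : N → ℂ) 1 * (ζ : N → ℂ) (k : N) =
      (Nat.card N : ℂ) := by
    rw [Finset.sum_eq_single (1 : K)]
    · have := sum_sq_degree (G := N)
      rw [← this]
      apply Finset.sum_congr rfl
      intro ζ _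
      rw [Subgroup.coe_one]
      ring
    · intro k _ hk
      apply sum_degree_mul_apply
      intro h
      exact hk (Subtype.ext h)
    · intro h
      exact absurd (Finset.mem_univ _) h
  rw [Finset.sum_comm] at h1
  simp_rw [← Finset.mul_sum, sum_subgroup_irr K hC] at h1
  rw [sum_split K] at h1
  have hA : ∑ ζ ∈ relF K, (ζ : N → ℂ) 1 *
      (if (ζ : N → ℂ) ∈ relSet K then 0 else (Nat.card K : ℂ) * (ζ : N → ℂ) 1) = 0 := by
    apply Finset.sum_eq_zero
    intro ζ hζ
    rw [if_pos ((mem_relF K).1 hζ), mul_zero]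
  rw [hA, zero_add] at h1
  have hB : ∑ ζ ∈ nrelF K, (ζ : N → ℂ) 1 *
      (if (ζ : N → ℂ) ∈ relSet K then 0 else (Nat.card K : ℂ) * (ζ : N → ℂ) 1) =
      (Nat.card K : ℂ) * ∑ ζ ∈ nrelF K, (ζ : N → ℂ) 1 ^ 2 := by
    rw [Finset.mul_sum]
    apply Finset.sum_congr rfl
    intro ζ hζ
    rw [if_neg ((mem_nrelF K).1 hζ)]
    ring
  rw [hB] at h1
  have hidx : (Nat.card N : ℂ) = (Nat.card K : ℂ) * (K.index : ℂ) := by
    rw [← K.card_mul_index]
    push_cast
    ring
  rw [hidx] at h1
  exact mul_left_cancel₀ hK h1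

include hC in
/-- On the nonidentity elements of the subgroup, the relevant characters weighted by their degrees
add up to minus the index. -/
theorem sum_rel_degree_mul_apply {n : N} (hn : n ∈ K) (hn1 : n ≠ 1) :
    ∑ ξ ∈ relF K, (ξ : N → ℂ) 1 * (ξ : N → ℂ) n = -(K.index : ℂ) := by
  have h0 := sum_degree_mul_apply (N := N) hn1
  rw [sum_split K] at h0
  have h1 : ∑ ζ ∈ nrelF K, (ζ : N → ℂ) 1 * (ζ : N → ℂ) n = (K.index : ℂ) := by
    rw [← sum_nrel_sq K hC]
    apply Finset.sum_congr rfl
    intro ζ hζ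
    rw [apply_eq_of_not_mem_relSet ζ.2 ((mem_nrelF K).1 hζ) hn]
    ring
  rw [h1] at h0
  linear_combination h0

include hC in
/-- The squares of the degrees of the relevant characters. -/
theorem sum_rel_sq : ∑ ξ ∈ relF K, (ξ : N → ℂ) 1 ^ 2 = (Nat.card N : ℂ) - (K.index : ℂ) := by
  have h0 := sum_sq_degree (G := N)
  rw [sum_split K, sum_nrel_sq K hC] at h0
  linear_combination h0

include hC in
/-- Column orthogonality restricted to the relevant characters. -/
theorem sum_rel_norm {n : N} (hn : n ∈ K) :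
    ∑ ξ ∈ relF K, (ξ : N → ℂ) n * conj ((ξ : N → ℂ) n) =
      (Nat.card (Subgroup.centralizer ({n} : Set N)) : ℂ) - (K.index : ℂ) := by
  have h0 := (column_orthogonality n n).1 (IsConj.refl n)
  rw [sum_split K] at h0
  have h1 : ∑ ζ ∈ nrelF K, (ζ : N → ℂ) n * conj ((ζ : N → ℂ) n) = (K.index : ℂ) := by
    rw [← sum_nrel_sq K hC]
    apply Finset.sum_congr rfl
    intro ζ hζ
    rw [apply_eq_of_not_mem_relSet ζ.2 ((mem_nrelF K).1 hζ) hn,
      conj_apply_one (isCharacter_of_isIrrCharacter ζ.2)]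
    ring
  rw [h1] at h0
  linear_combination h0

include hC in
/-- If the characters with the subgroup in their kernel are linear, there are exactly index many
of them. -/
theorem card_nrelF (hlin : ∀ ζ : IrrCharacter N, (ζ : N → ℂ) ∉ relSet K → (ζ : N → ℂ) 1 = 1) :
    (nrelF K).card = K.index := by
  have h := sum_nrel_sq K hC
  have h1 : ∑ ζ ∈ nrelF K, (ζ : N → ℂ) 1 ^ 2 = ((nrelF K).card : ℂ) := by
    rw [Finset.sum_congr rfl (fun ζ hζ => by rw [hlin ζ ((mem_nrelF K).1 hζ), one_pow]),
      Finset.sum_const, nsmul_eq_mul, mul_one]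
  rw [h1] at h
  exact_mod_cast h

/-- The number of irreducible characters splits. -/
theorem card_irr_split : Nat.card (IrrCharacter N) = (relF K).card + (nrelF K).card := by
  classical
  rw [Nat.card_eq_fintype_card, ← Finset.card_univ]
  unfold relF nrelF
  rw [Finset.card_filter_add_card_filter_not]

end nside

end Cfsg.Agent.Lib.Helper7.FeitZ
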