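import Mathlib
import Cfsg.Prelude.Def_OddOrderChar
import Cfsg.Agent.Lib.Helper7.FeitZ1

set_option autoImplicit false
set_option linter.style.haveILetI false
set_option linter.unusedSectionVars false

/-!
# Feit's theorem on Zassenhaus groups, part 2: the exceptional characters of the big group
-/

namespace Cfsg.Agent.Lib.Helper7.FeitZ

open Cfsg Module Cfsg.Agent.Lib.helper3.CharBasic Cfsg.Agent.Lib.helper3.IndFun
open Cfsg.Agent.Lib.helper3.Irr Cfsg.Agent.Lib.helper3.Coh Cfsg.Agent.Lib.helper3.Tifn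
open Cfsg.Agent.Lib.helper3.IndFunTI
open scoped ComplexConjugate

variable {G : Type*} [Group G] [Fintype G] (K : Subgroup G)

/-- The normalizer of the subgroup. -/
abbrev Nor : Subgroup G := Subgroup.normalizer (K : Set G)

/-- The subgroup inside its normalizer. -/
abbrev KN : Subgroup ↥(Nor K) := K.subgroupOf (Nor K)

/-- The standing hypotheses: a TI subgroup containing the centralizers of its nonidentity
elements, with a coherent set of relevant characters. -/
structure Coh [Fintype ↥(Nor K)] (star : (↥(Nor K) → ℂ) → (G → ℂ)) : Prop where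
  hTI : ∀ g : G, g ∉ Nor K → ∀ k ∈ K, g * k * g⁻¹ ∈ K → k = 1
  hC : ∀ k ∈ K, k ≠ 1 → Subgroup.centralizer ({k} : Set G) ≤ K
  hstar : IsLinearIsometryOn (zspan (relSet (KN K))) star
  hext : ∀ α ∈ zspanOn (relSet (KN K)) ({1}ᶜ : Set ↥(Nor K)), star α = indFun (Nor K) α
  htwo : ∃ χ ∈ relSet (KN K), ∃ ξ ∈ relSet (KN K), χ ≠ ξ

variable [Fintype ↥(Nor K)] {star : (↥(Nor K) → ℂ) → (G → ℂ)}

namespace Coh

variable {K}

theorem hCn (c : Coh K star) : ∀ n ∈ KN K, n ≠ 1 →
    Subgroup.centralizer ({n} : Set ↥(Nor K)) ≤ KN K :=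
  centralizer_le_subgroupOf K c.hC

instance normal_KN : (KN K).Normal := Subgroup.normal_in_normalizer

/-- `star ξ` is an irreducible character up to sign. -/
theorem exists_exc (c : Coh K star) {ξ : ↥(Nor K) → ℂ} (hξ : ξ ∈ relSet (KN K)) :
    ∃ X : IrrCharacter G, star ξ = (X : G → ℂ) ∨ star ξ = -(X : G → ℂ) := by
  have hgen := c.hstar.2.2.2 ξ (mem_zspan_of_mem hξ)
  have hnorm : classInner (star ξ) (star ξ) = 1 := by
    rw [c.hstar.2.2.1 ξ (mem_zspan_of_mem hξ) ξ (mem_zspan_of_mem hξ),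
      irr_classInner_eq hξ.1 hξ.1, if_pos rfl]
  exact exists_irr_of_norm_one hgen hnorm

open Classical in
/-- The exceptional character attached to a relevant character. -/
noncomputable def excOf (c : Coh K star) (ξ : IrrCharacter ↥(Nor K)) : IrrCharacter G :=
  if h : (ξ : ↥(Nor K) → ℂ) ∈ relSet (KN K) then Classical.choose (c.exists_exc h)
  else ⟨fun _ => 1, isIrrCharacter_one⟩

theorem excOf_spec (c : Coh K star) {ξ : IrrCharacter ↥(Nor K)}
    (h : (ξ : ↥(Nor K) → ℂ) ∈ relSet (KN K)) :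
    star (ξ : ↥(Nor K) → ℂ) = (c.excOf ξ : G → ℂ) ∨
      star (ξ : ↥(Nor K) → ℂ) = -(c.excOf ξ : G → ℂ) := by
  unfold excOf
  rw [dif_pos h]
  exact Classical.choose_spec (c.exists_exc h)

/-- The values of the exceptional character, up to sign. -/
theorem excOf_apply_mul_conj (c : Coh K star) {ξ : IrrCharacter ↥(Nor K)}
    (h : (ξ : ↥(Nor K) → ℂ) ∈ relSet (KN K)) (g : G) :
    (c.excOf ξ : G → ℂ) g * conj ((c.excOf ξ : G → ℂ) g) =
      star (ξ : ↥(Nor K) → ℂ) g * conj (star (ξ : ↥(Nor K) → ℂ) g) := by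
  rcases c.excOf_spec h with h1 | h1
  · rw [h1]
  · rw [h1, Pi.neg_apply, map_neg, neg_mul_neg]

/-- Distinct relevant characters have distinct exceptional characters. -/
theorem excOf_injOn (c : Coh K star) :
    Set.InjOn c.excOf (relF (KN K) : Set (IrrCharacter ↥(Nor K))) := by
  intro ξ hξ ξ' hξ' heq
  have hξ := (mem_relF (KN K)).1 (Finset.mem_coe.1 hξ)
  have hξ' := (mem_relF (KN K)).1 (Finset.mem_coe.1 hξ')
  by_contra hne
  have hne' : (ξ : ↥(Nor K) → ℂ) ≠ (ξ' : ↥(Nor K) → ℂ) := fun h => hne (Subtype.ext h)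
  have h0 : classInner (star (ξ : ↥(Nor K) → ℂ)) (star (ξ' : ↥(Nor K) → ℂ)) = 0 := by
    rw [c.hstar.2.2.1 _ (mem_zspan_of_mem hξ) _ (mem_zspan_of_mem hξ'),
      irr_classInner_eq ξ.2 ξ'.2, if_neg hne']
  have h1 : classInner (c.excOf ξ : G → ℂ) (c.excOf ξ : G → ℂ) = 1 := by
    rw [irr_classInner_eq (c.excOf ξ).2 (c.excOf ξ).2, if_pos rfl]
  rcases c.excOf_spec hξ with h2 | h2 <;> rcases c.excOf_spec hξ' with h3 | h3 <;>
    rw [h2, h3, ← heq] at h0
  · rw [h1] at h0; exact one_ne_zero h0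
  · rw [classInner_neg_right, h1] at h0; norm_num at h0
  · rw [classInner_neg_left, h1] at h0; norm_num at h0
  · rw [classInner_neg_left, classInner_neg_right, h1] at h0; norm_num at h0

open Classical in
/-- The exceptional characters of the big group. -/
noncomputable def ExcF (c : Coh K star) : Finset (IrrCharacter G) :=
  (relF (KN K)).image c.excOf

open Classical in
/-- The non-exceptional characters of the big group. -/
noncomputable def nExcF (c : Coh K star) : Finset (IrrCharacter G) :=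
  Finset.univ.filter (fun χ => χ ∉ c.ExcF)

theorem mem_nExcF (c : Coh K star) {χ : IrrCharacter G} : χ ∈ c.nExcF ↔ χ ∉ c.ExcF := by
  classical
  unfold nExcF
  simp

theorem card_ExcF (c : Coh K star) : c.ExcF.card = (relF (KN K)).card := by
  classical
  unfold ExcF
  exact Finset.card_image_of_injOn c.excOf_injOn

theorem sum_ExcF (c : Coh K star) (F : IrrCharacter G → ℂ) :
    ∑ χ ∈ c.ExcF, F χ = ∑ ξ ∈ relF (KN K), F (c.excOf ξ) := by
  classical
  unfold ExcF
  exact Finset.sum_image (fun x hx y hy h => c.excOf_injOn hx hy h)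

theorem sum_split_G (c : Coh K star) (F : IrrCharacter G → ℂ) :
    ∑ χ : IrrCharacter G, F χ = ∑ χ ∈ c.ExcF, F χ + ∑ χ ∈ c.nExcF, F χ := by
  classical
  unfold nExcF
  rw [← Finset.sum_filter_add_sum_filter_not Finset.univ (fun χ => χ ∈ c.ExcF)]
  congr 1
  apply Finset.sum_congr _ (fun _ _ => rfl)
  ext χ
  simp

theorem card_irr_split_G (c : Coh K star) :
    Nat.card (IrrCharacter G) = c.ExcF.card + c.nExcF.card := by
  classical
  rw [Nat.card_eq_fintype_card, ← Finset.card_univ]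
  unfold nExcF
  rw [← Finset.card_filter_add_card_filter_not (s := Finset.univ) (fun χ => χ ∈ c.ExcF)]
  congr 1
  congr 1
  ext χ
  simp

/-- Membership in the exceptional set. -/
theorem mem_ExcF_iff (c : Coh K star) (χ : IrrCharacter G) :
    χ ∈ c.ExcF ↔ ∃ ξ ∈ relSet (KN K), (χ : G → ℂ) = star ξ ∨ (χ : G → ℂ) = -star ξ := by
  classical
  unfold ExcF
  rw [Finset.mem_image]
  constructor
  · rintro ⟨ξ, hξ, rfl⟩
    have hξ' := (mem_relF (KN K)).1 hξ
    refine ⟨(ξ : ↥(Nor K) → ℂ), hξ', ?_⟩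
    rcases c.excOf_spec hξ' with h | h
    · left; rw [h]
    · right; rw [h, neg_neg]
  · rintro ⟨ξ, hξ, h⟩
    refine ⟨⟨ξ, hξ.1⟩, (mem_relF (KN K)).2 hξ, ?_⟩
    have hspec := c.excOf_spec (ξ := ⟨ξ, hξ.1⟩) hξ
    apply Subtype.ext
    -- two irreducible characters equal up to sign are equal
    have key : ∀ A B : IrrCharacter G, (A : G → ℂ) = -(B : G → ℂ) → False := by
      intro A B hAB
      have h1 := congrFun hAB 1
      obtain ⟨a, ha, ha'⟩ := exists_pos_nat_apply_one A.2
      obtain ⟨b, hb, hb'⟩ := exists_pos_nat_apply_one B.2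
      rw [Pi.neg_apply, ha', hb'] at h1
      have : ((a : ℤ) : ℂ) = ((-(b : ℤ) : ℤ) : ℂ) := by push_cast; exact h1
      have h2 : (a : ℤ) = -(b : ℤ) := by exact_mod_cast this
      omega
    rcases h with h | h <;> rcases hspec with h2 | h2
    · rw [h, ← h2]
    · exfalso
      apply key χ (c.excOf ⟨ξ, hξ.1⟩)
      rw [h, ← h2]
    · exfalso
      apply key χ (c.excOf ⟨ξ, hξ.1⟩)
      rw [h]
      exact congrArg Neg.neg h2
    · rw [h]
      have := congrArg Neg.neg h2
      rw [neg_neg] at this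
      exact this.symm

/-- The non-exceptional characters are constant on the nonidentity elements of the subgroup. -/
theorem const_of_nExcF (c : Coh K star) {χ : IrrCharacter G} (hχ : χ ∈ c.nExcF)
    {a b : G} (ha : a ∈ K) (hb : b ∈ K) (ha1 : a ≠ 1) (hb1 : b ≠ 1) :
    (χ : G → ℂ) a = (χ : G → ℂ) b := by
  by_contra hne
  apply (c.mem_nExcF.1 hχ)
  rw [c.mem_ExcF_iff]
  exact (exceptional_iff K c.hC star c.hstar c.hext c.htwo (χ : G → ℂ) χ.2).2
    ⟨a, ha, b, hb, ha1, hb1, hne⟩

end Coh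

end Cfsg.Agent.Lib.Helper7.FeitZ
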