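import Mathlib
import Cfsg.Prelude.Def_OddOrderChar
import Cfsg.Agent.Lib.Helper7.FeitZ2
import Cfsg.Agent.Lib.helper3.IndFunTrans

set_option autoImplicit false
set_option linter.style.haveILetI false
set_option linter.unusedSectionVars false

/-!
# Feit's theorem on Zassenhaus groups, part 3: column orthogonality on the TI subgroup
-/

namespace Cfsg.Agent.Lib.Helper7.FeitZ

open Cfsg Module Cfsg.Agent.Lib.helper3.CharBasic Cfsg.Agent.Lib.helper3.IndFun
open Cfsg.Agent.Lib.helper3.Irr Cfsg.Agent.Lib.helper3.Coh Cfsg.Agent.Lib.helper3.Tifn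
open Cfsg.Agent.Lib.helper3.IndFunTI
open scoped ComplexConjugate

variable {G : Type*} [Group G] [Fintype G] {K : Subgroup G}

/-- The centralizer of a nonidentity element of the subgroup is the same in the normalizer. -/
theorem card_centralizer_eq (hC : ∀ k ∈ K, k ≠ 1 → Subgroup.centralizer ({k} : Set G) ≤ K)
    (k : ↥(Nor K)) (hk : (k : G) ∈ K) (hk1 : k ≠ 1) :
    Nat.card (Subgroup.centralizer ({k} : Set ↥(Nor K))) =
      Nat.card (Subgroup.centralizer ({(k : G)} : Set G)) := by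
  have hle : Subgroup.centralizer ({(k : G)} : Set G) ≤ Nor K :=
    (hC (k : G) hk (fun h => hk1 (Subtype.ext h))).trans Subgroup.le_normalizer
  have heq : Subgroup.centralizer ({k} : Set ↥(Nor K)) =
      (Subgroup.centralizer ({(k : G)} : Set G)).subgroupOf (Nor K) := by
    ext y
    rw [Subgroup.mem_subgroupOf, Subgroup.mem_centralizer_iff, Subgroup.mem_centralizer_iff]
    constructor
    · intro h z hz
      rw [Set.mem_singleton_iff] at hz
      rw [hz]
      exact congrArg Subtype.val (h k rfl)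
    · intro h z hz
      rw [Set.mem_singleton_iff] at hz
      rw [hz]
      exact Subtype.ext (h (k : G) rfl)
  rw [heq]
  exact Cfsg.Agent.Lib.helper3.IndFunTrans.card_subgroupOf_of_le hle

variable [Fintype ↥(Nor K)] {star : (↥(Nor K) → ℂ) → (G → ℂ)}

namespace Coh

/-- Column orthogonality at a nonidentity element of the subgroup, for the non-exceptional
characters. -/
theorem sum_nExcF_norm (c : Coh K star) (m : ℤ)
    (hm : ∀ ξ ∈ relSet (KN K), ∀ k : ↥(Nor K), (k : G) ∈ K → k ≠ 1 →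
      star ξ (k : G) - ξ k = (m : ℂ) * ξ 1 / ((KN K).index : ℂ))
    (k : ↥(Nor K)) (hk : (k : G) ∈ K) (hk1 : k ≠ 1) :
    ∑ χ ∈ c.nExcF, (χ : G → ℂ) (k : G) * conj ((χ : G → ℂ) (k : G)) =
      ((KN K).index : ℂ) + 2 * (m : ℂ) -
        (m : ℂ) ^ 2 * ((Nat.card ↥(Nor K) : ℂ) - ((KN K).index : ℂ)) / ((KN K).index : ℂ) ^ 2 := by
  have he : ((KN K).index : ℂ) ≠ 0 := by
    have : (KN K).index ≠ 0 := Subgroup.index_ne_zero_of_finite
    exact Nat.cast_ne_zero.mpr this
  have hkK : k ∈ KN K := Subgroup.mem_subgroupOf.mpr hk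
  -- the two column orthogonality relations
  have hG := (column_orthogonality (k : G) (k : G)).1 (IsConj.refl _)
  rw [c.sum_split_G, c.sum_ExcF] at hG
  have hN := sum_rel_norm (KN K) c.hCn hkK
  rw [card_centralizer_eq c.hC k hk hk1] at hN
  have hdeg := sum_rel_degree_mul_apply (KN K) c.hCn hkK hk1
  have hsq := sum_rel_sq (KN K) c.hCn
  -- conjugate of the degree relation
  have hdeg' : ∑ ξ ∈ relF (KN K), (ξ : ↥(Nor K) → ℂ) 1 * conj ((ξ : ↥(Nor K) → ℂ) k) =
      -((KN K).index : ℂ) := by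
    have h1 := congrArg conj hdeg
    rw [map_sum, map_neg, Complex.conj_natCast] at h1
    rw [← h1]
    apply Finset.sum_congr rfl
    intro ξ _
    rw [map_mul, conj_apply_one (isCharacter_of_isIrrCharacter ξ.2)]
  -- the exceptional part
  have hterm : ∀ ξ ∈ relF (KN K),
      (c.excOf ξ : G → ℂ) (k : G) * conj ((c.excOf ξ : G → ℂ) (k : G)) =
      (ξ : ↥(Nor K) → ℂ) k * conj ((ξ : ↥(Nor K) → ℂ) k) +
        ((m : ℂ) / ((KN K).index : ℂ)) *
          ((ξ : ↥(Nor K) → ℂ) 1 * (ξ : ↥(Nor K) → ℂ) k) +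
        ((m : ℂ) / ((KN K).index : ℂ)) *
          ((ξ : ↥(Nor K) → ℂ) 1 * conj ((ξ : ↥(Nor K) → ℂ) k)) +
        ((m : ℂ) / ((KN K).index : ℂ)) ^ 2 * (ξ : ↥(Nor K) → ℂ) 1 ^ 2 := by
    intro ξ hξ
    have hξ' := (mem_relF (KN K)).1 hξ
    rw [c.excOf_apply_mul_conj hξ']
    have h1 := hm _ hξ' k hk hk1
    have h2 : star (ξ : ↥(Nor K) → ℂ) (k : G) =
        (ξ : ↥(Nor K) → ℂ) k + (m : ℂ) * (ξ : ↥(Nor K) → ℂ) 1 / ((KN K).index : ℂ) := by
      linear_combination h1
    rw [h2, map_add, map_div₀, map_mul, map_intCast, Complex.conj_natCast,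
      conj_apply_one (isCharacter_of_isIrrCharacter ξ.2)]
    field_simp
    ring
  rw [Finset.sum_congr rfl hterm, Finset.sum_add_distrib, Finset.sum_add_distrib,
    Finset.sum_add_distrib, ← Finset.mul_sum, ← Finset.mul_sum, ← Finset.mul_sum, hN, hdeg,
    hdeg', hsq] at hG
  field_simp
  field_simp at hG
  linear_combination hG

end Coh

end Cfsg.Agent.Lib.Helper7.FeitZ
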