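import Mathlib
import Cfsg.Prelude.Def_OddOrderChar
import Cfsg.Agent.Lib.Helper7.FeitZ3

set_option autoImplicit false
set_option linter.style.haveILetI false
set_option linter.unusedSectionVars false

/-!
# Feit's theorem on Zassenhaus groups, part 4: counting conjugacy classes
-/

namespace Cfsg.Agent.Lib.Helper7.FeitZ

open Cfsg Module Cfsg.Agent.Lib.helper3.CharBasic Cfsg.Agent.Lib.helper3.IndFun
open Cfsg.Agent.Lib.helper3.Irr Cfsg.Agent.Lib.helper3.Coh Cfsg.Agent.Lib.helper3.Tifn
open scoped ComplexConjugate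

section classes

variable {N : Type*} [Group N] [Finite N] (K : Subgroup N) [K.Normal]

/-- A class of a group with a normal subgroup lies inside the subgroup or outside. -/
def Inside (C : ConjClasses N) : Prop := ∀ n : N, ConjClasses.mk n = C → n ∈ K

theorem inside_mk_iff (n : N) : Inside K (ConjClasses.mk n) ↔ n ∈ K := by
  constructor
  · intro h
    exact h n rfl
  · intro h n' hn'
    rw [ConjClasses.mk_eq_mk_iff_isConj, isConj_iff] at hn'
    obtain ⟨c, hc⟩ := hn'
    have h2 : n' = c⁻¹ * n * c := by rw [← hc]; group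
    rw [h2]
    have := ‹K.Normal›.conj_mem n h c⁻¹
    simpa using this

/-- If every element outside the subgroup is conjugate into a subgroup `E`, there are at most
`|E| - 1` classes outside. -/
theorem card_not_inside_le (E : Subgroup N)
    (hout : ∀ x : N, x ∉ K → ∃ n : N, n * x * n⁻¹ ∈ E) :
    Nat.card {C : ConjClasses N // ¬ Inside K C} + 1 ≤ Nat.card E := by
  classical
  -- choose a representative in `E` outside `K`
  have hrep : ∀ C : {C : ConjClasses N // ¬ Inside K C},
      ∃ y : E, (y : N) ∉ K ∧ ConjClasses.mk (y : N) = C.1 := by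
    rintro ⟨C, hC⟩
    obtain ⟨n, rfl⟩ := ConjClasses.exists_rep C
    · rw [inside_mk_iff] at hC
      obtain ⟨x, hx⟩ := hout n hC
      refine ⟨⟨x * n * x⁻¹, hx⟩, ?_, ?_⟩
      · intro h
        apply hC
        have := ‹K.Normal›.conj_mem _ h x⁻¹
        simpa [mul_assoc] using this
      · rw [ConjClasses.mk_eq_mk_iff_isConj, isConj_iff]
        exact ⟨x⁻¹, by simp [mul_assoc]⟩
  choose f hf1 hf2 using hrep
  have hinj : Function.Injective (fun C : {C : ConjClasses N // ¬ Inside K C} =>
      (⟨f C, hf1 C⟩ : {y : E // (y : N) ∉ K})) := by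
    intro C C' h
    have h1 : f C = f C' := congrArg Subtype.val h
    apply Subtype.ext
    rw [← hf2 C, ← hf2 C', h1]
  have h1 : Nat.card {C : ConjClasses N // ¬ Inside K C} ≤ Nat.card {y : E // (y : N) ∉ K} :=
    Nat.card_le_card_of_injective _ hinj
  have h2 : Nat.card {y : E // (y : N) ∉ K} + 1 ≤ Nat.card E := by
    letI : Fintype E := Fintype.ofFinite E
    rw [Nat.card_eq_fintype_card, Nat.card_eq_fintype_card,
      Fintype.card_subtype_compl (fun y : E => (y : N) ∈ K)]
    have h3 : 0 < Fintype.card {y : E // (y : N) ∈ K} :=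
      Fintype.card_pos_iff.mpr ⟨⟨1, by simp [K.one_mem]⟩⟩
    have h4 : Fintype.card {y : E // (y : N) ∈ K} ≤ Fintype.card E := Fintype.card_subtype_le _
    omega
  omega

/-- The number of classes splits. -/
theorem card_classes_split :
    Nat.card (ConjClasses N) =
      Nat.card {C : ConjClasses N // Inside K C} + Nat.card {C : ConjClasses N // ¬ Inside K C} := by
  classical
  letI : Fintype N := Fintype.ofFinite N
  rw [Nat.card_eq_fintype_card, Nat.card_eq_fintype_card, Nat.card_eq_fintype_card,
    Fintype.card_subtype_compl (fun C : ConjClasses N => Inside K C)]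
  have := Fintype.card_subtype_le (fun C : ConjClasses N => Inside K C)
  omega

end classes

variable {G : Type*} [Group G] [Fintype G] {K : Subgroup G}

/-- The classes of the big group meeting the subgroup. -/
def Meets (K : Subgroup G) (C : ConjClasses G) : Prop := ∃ g : G, g ∈ K ∧ ConjClasses.mk g = C

theorem not_meets_iff (C : ConjClasses G) :
    ¬ Meets K C ↔ ∀ g : G, ConjClasses.mk g = C → g ∉ K := by
  unfold Meets
  constructor
  · intro h g hg hgK
    exact h ⟨g, hgK, hg⟩
  · rintro h ⟨g, hgK, hg⟩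
    exact h g hg hgK

/-- Fusion in a TI subgroup is controlled by the normalizer: the classes of the normalizer inside
the subgroup inject into the classes of the big group meeting it. -/
theorem card_inside_le_card_meets
    (hTI : ∀ g : G, g ∉ Nor K → ∀ k ∈ K, g * k * g⁻¹ ∈ K → k = 1) :
    Nat.card {C : ConjClasses ↥(Nor K) // Inside (KN K) C} ≤
      Nat.card {C : ConjClasses G // Meets K C} := by
  classical
  have hmap : ∀ C : {C : ConjClasses ↥(Nor K) // Inside (KN K) C},
      Meets K (ConjClasses.map (Nor K).subtype C.1) := by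
    rintro ⟨C, hC⟩
    obtain ⟨n, rfl⟩ := ConjClasses.exists_rep C
    rw [inside_mk_iff] at hC
    exact ⟨(n : G), Subgroup.mem_subgroupOf.mp hC, rfl⟩
  apply Nat.card_le_card_of_injective
    (fun C => (⟨ConjClasses.map (Nor K).subtype C.1, hmap C⟩ : {C : ConjClasses G // Meets K C}))
  rintro ⟨C, hC⟩ ⟨C', hC'⟩ h
  have h1 : ConjClasses.map (Nor K).subtype C = ConjClasses.map (Nor K).subtype C' :=
    congrArg Subtype.val h
  apply Subtype.ext
  show C = C'
  obtain ⟨n, rfl⟩ := ConjClasses.exists_rep C
  obtain ⟨n', rfl⟩ := ConjClasses.exists_rep C'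
  rw [inside_mk_iff] at hC hC'
  have hnK : (n : G) ∈ K := Subgroup.mem_subgroupOf.mp hC
  have hn'K : (n' : G) ∈ K := Subgroup.mem_subgroupOf.mp hC'
  have h2 : ConjClasses.mk (n : G) = ConjClasses.mk (n' : G) := h1
  rw [ConjClasses.mk_eq_mk_iff_isConj, isConj_iff] at h2
  obtain ⟨g, hg⟩ := h2
  rw [ConjClasses.mk_eq_mk_iff_isConj, isConj_iff]
  by_cases hgN : g ∈ Nor K
  · exact ⟨⟨g, hgN⟩, Subtype.ext hg⟩
  · have h3 := hTI g hgN (n : G) hnK (by rw [hg]; exact hn'K)
    have h4 : (n' : G) = 1 := by rw [← hg, h3]; group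
    refine ⟨1, ?_⟩
    apply Subtype.ext
    simp [h3, h4]

variable [Fintype ↥(Nor K)] {star : (↥(Nor K) → ℂ) → (G → ℂ)}

namespace Coh

/-- There are at least `e + 1` non-exceptional characters. -/
theorem card_nExcF_ge (c : Coh K star) (e : ℕ) (hidx : (KN K).index = e)
    (hlin : ∀ ζ : IrrCharacter ↥(Nor K), (ζ : ↥(Nor K) → ℂ) ∉ relSet (KN K) →
      (ζ : ↥(Nor K) → ℂ) 1 = 1)
    (E : Subgroup G) (hEcard : Nat.card E = e)
    (hout : ∀ x ∈ Nor K, x ∉ K → ∃ n ∈ Nor K, n * x * n⁻¹ ∈ E)
    (hcls : e ≤ Nat.card {C : ConjClasses G // ∀ g : G, ConjClasses.mk g = C → g ∉ K}) :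
    e + 1 ≤ c.nExcF.card := by
  classical
  -- the classes of the normalizer
  have h1 : Nat.card (ConjClasses ↥(Nor K)) = (relF (KN K)).card + e := by
    rw [← card_irr_eq_card_conjClasses, card_irr_split (KN K), card_nrelF (KN K) c.hCn hlin, hidx]
  have h2 := card_classes_split (KN K)
  have h3 : Nat.card {C : ConjClasses ↥(Nor K) // ¬ Inside (KN K) C} + 1 ≤ e := by
    have := card_not_inside_le (KN K) (E.subgroupOf (Nor K)) (by
      intro x hx
      obtain ⟨n, hn, hnE⟩ := hout (x : G) x.2 (fun h => hx (Subgroup.mem_subgroupOf.mpr h))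
      exact ⟨⟨n, hn⟩, Subgroup.mem_subgroupOf.mpr hnE⟩)
    have hle : Nat.card (E.subgroupOf (Nor K)) ≤ e := by
      rw [← hEcard]
      exact Nat.card_le_card_of_injective (fun y => (⟨(y : ↥(Nor K)), y.2⟩ : E))
        (fun y y' h => Subtype.ext (Subtype.ext (congrArg (fun z : E => (z : G)) h)))
    omega
  have h4 := card_inside_le_card_meets (K := K) c.hTI
  -- the classes of the big group
  have h5 : Nat.card (ConjClasses G) =
      Nat.card {C : ConjClasses G // Meets K C} + Nat.card {C : ConjClasses G // ¬ Meets K C} := by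
    rw [Nat.card_eq_fintype_card, Nat.card_eq_fintype_card, Nat.card_eq_fintype_card,
      Fintype.card_subtype_compl (fun C : ConjClasses G => Meets K C)]
    have := Fintype.card_subtype_le (fun C : ConjClasses G => Meets K C)
    omega
  have h6 : Nat.card {C : ConjClasses G // ¬ Meets K C} =
      Nat.card {C : ConjClasses G // ∀ g : G, ConjClasses.mk g = C → g ∉ K} := by
    apply Nat.card_congr
    exact Equiv.subtypeEquivRight (fun C => not_meets_iff C)
  have h7 : Nat.card (ConjClasses G) = (relF (KN K)).card + c.nExcF.card := by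
    rw [← card_irr_eq_card_conjClasses, c.card_irr_split_G, c.card_ExcF]
  omega

end Coh

end Cfsg.Agent.Lib.Helper7.FeitZ
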