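import Mathlib
import Cfsg.Prelude.Def_OddOrderChar
import Cfsg.Agent.Lib.Helper7.FeitZ4

set_option autoImplicit false
set_option linter.style.haveILetI false
set_option linter.unusedSectionVars false

/-!
# Feit's theorem on Zassenhaus groups, part 5: the constants of the non-exceptional characters
-/

namespace Cfsg.Agent.Lib.Helper7.FeitZ

open Cfsg Module Cfsg.Agent.Lib.helper3.CharBasic Cfsg.Agent.Lib.helper3.IndFun
open Cfsg.Agent.Lib.helper3.Irr Cfsg.Agent.Lib.helper3.Coh Cfsg.Agent.Lib.helper3.Tifn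
open scoped ComplexConjugate

variable {G : Type*} [Group G] [Fintype G] {K : Subgroup G}
variable [Fintype ↥(Nor K)] {star : (↥(Nor K) → ℂ) → (G → ℂ)}

namespace Coh

/-- A non-exceptional character is orthogonal to the image of the isometry. -/
theorem classInner_star_nExcF (c : Coh K star) {χ : IrrCharacter G} (hχ : χ ∈ c.nExcF)
    {ξ : ↥(Nor K) → ℂ} (hξ : ξ ∈ relSet (KN K)) : classInner (star ξ) (χ : G → ℂ) = 0 := by
  obtain ⟨X, hX⟩ := c.exists_exc hξ
  have hne : (X : G → ℂ) ≠ (χ : G → ℂ) := by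
    intro h
    apply c.mem_nExcF.1 hχ
    rw [c.mem_ExcF_iff]
    refine ⟨ξ, hξ, ?_⟩
    rcases hX with hX | hX
    · left; rw [hX, h]
    · right; rw [hX, h, neg_neg]
  have h0 : classInner (X : G → ℂ) (χ : G → ℂ) = 0 := by
    rw [irr_classInner_eq X.2 χ.2, if_neg hne]
  rcases hX with hX | hX
  · rw [hX, h0]
  · rw [hX, classInner_neg_left, h0, neg_zero]

/-- The value of a non-exceptional character on the nonidentity elements of the subgroup. -/
theorem nExcF_apply (c : Coh K star) {χ : IrrCharacter G} (hχ : χ ∈ c.nExcF)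
    {ξ₀ : ↥(Nor K) → ℂ} (hξ₀ : ξ₀ ∈ relSet (KN K))
    (k : ↥(Nor K)) (hk : (k : G) ∈ K) (hk1 : k ≠ 1) :
    (χ : G → ℂ) (k : G) = (χ : G → ℂ) 1 -
      (classInner (fun n : ↥(Nor K) => (χ : G → ℂ) (n : G)) ξ₀ / ξ₀ 1) *
        (Nat.card ↥(Nor K) : ℂ) := by
  have hortho : ∀ ξ ∈ relSet (KN K), ∀ ξ' ∈ relSet (KN K), ∀ a b : ℤ,
      (a : ℂ) * ξ 1 + (b : ℂ) * ξ' 1 = 0 →
        classInner (star (a • ξ + b • ξ')) (χ : G → ℂ) =
          classInner (a • ξ + b • ξ') (0 : ↥(Nor K) → ℂ) := by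
    intro ξ hξ ξ' hξ' a b _
    rw [star_comb K star c.hstar hξ hξ', classInner_add_left, classInner_zsmul_left,
      classInner_zsmul_left, c.classInner_star_nExcF hχ hξ, c.classInner_star_nExcF hχ hξ',
      classInner_zero_right]
    ring
  have hmain := restrict_const K star c.hext (χ : G → ℂ)
    (isClassFunction_of_isCharacter (isCharacter_of_isIrrCharacter χ.2)) 0
    (fun _ _ => rfl) hortho hξ₀ k hk hk1
  simp only [Pi.zero_apply, sub_zero] at hmain
  exact hmain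

/-- The value of a non-exceptional character on the nonidentity elements of the subgroup is an
integer. -/
theorem exists_int_nExcF (c : Coh K star) {χ : IrrCharacter G} (hχ : χ ∈ c.nExcF) :
    ∃ z : ℤ, ∀ k : G, k ∈ K → k ≠ 1 → (χ : G → ℂ) k = (z : ℂ) := by
  obtain ⟨ξ₀, hξ₀, -⟩ := c.htwo
  obtain ⟨d, hd, ⟨t, ht⟩, hdpos⟩ := Cfsg.Agent.Lib.helper3.Central.irr_degree_dvd_card hξ₀.1
  obtain ⟨a, ha⟩ := exists_nat_classInner_of_isCharacter_of_isCharacter
    (isCharacter_restrict (isCharacter_of_isIrrCharacter χ.2) (Nor K))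
    (isCharacter_of_isIrrCharacter hξ₀.1)
  obtain ⟨x, hx⟩ := exists_nat_apply_one (isCharacter_of_isIrrCharacter χ.2)
  refine ⟨(x : ℤ) - (a : ℤ) * (t : ℤ), ?_⟩
  intro k hk hk1
  have hkN : k ∈ Nor K := Subgroup.le_normalizer hk
  have := c.nExcF_apply hχ hξ₀ ⟨k, hkN⟩ hk (fun h => hk1 (congrArg Subtype.val h))
  rw [this, ha, hx, hd, ht]
  have hd0 : (d : ℂ) ≠ 0 := Nat.cast_ne_zero.mpr hdpos.ne'
  push_cast
  field_simp

end Coh

end Cfsg.Agent.Lib.Helper7.FeitZ
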