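import Mathlib
import Cfsg.Prelude.Def_OddOrderChar
import Cfsg.Agent.Lib.Helper7.FeitZ5

set_option autoImplicit false
set_option linter.style.haveILetI false
set_option linter.unusedSectionVars false

/-!
# Feit's theorem on Zassenhaus groups, part 6: the standing hypotheses, and the non-exceptional
characters vanishing on the subgroup
-/

namespace Cfsg.Agent.Lib.Helper7.FeitZ

open Cfsg Module Cfsg.Agent.Lib.helper3.CharBasic Cfsg.Agent.Lib.helper3.IndFun
open Cfsg.Agent.Lib.helper3.Irr Cfsg.Agent.Lib.helper3.Coh Cfsg.Agent.Lib.helper3.Tifn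
open scoped ComplexConjugate

variable {G : Type*} [Group G] [Fintype G]

/-- The standing hypotheses of Feit's theorem: a coherent TI subgroup `K` of order `h` with
normalizer of index `e` over it, the permutation character `1 + θ`, the irreducible characters
induced from the linear characters of the normalizer, and the class count. -/
structure Feit (K : Subgroup G) [Fintype ↥(Nor K)] (star : (↥(Nor K) → ℂ) → (G → ℂ))
    (e h : ℕ) (θ : IrrCharacter G) (E : Subgroup G) : Prop extends Coh K star where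
  hidx : (KN K).index = e
  hcard : Nat.card K = h
  hlt : 2 * e < h - 1
  hlin : ∀ ζ : IrrCharacter ↥(Nor K), (ζ : ↥(Nor K) → ℂ) ∉ relSet (KN K) →
    (ζ : ↥(Nor K) → ℂ) 1 = 1
  hθ : indFun (Nor K) (fun _ => (1 : ℂ)) = (fun _ => (1 : ℂ)) + (θ : G → ℂ)
  hfix : ∀ u ∈ K, u ≠ 1 → indFun (Nor K) (fun _ => (1 : ℂ)) u = 1
  hY : ∀ ζ : IrrCharacter ↥(Nor K), (ζ : ↥(Nor K) → ℂ) ∉ relSet (KN K) →
    (ζ : ↥(Nor K) → ℂ) ≠ (fun _ => 1) →
    IsIrrCharacter G (indFun (Nor K) (ζ : ↥(Nor K) → ℂ)) ∧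
      ∀ u ∈ K, u ≠ 1 → indFun (Nor K) (ζ : ↥(Nor K) → ℂ) u = 1
  hEcard : Nat.card E = e
  hout : ∀ x ∈ Nor K, x ∉ K → ∃ n ∈ Nor K, n * x * n⁻¹ ∈ E
  hcls : e ≤ Nat.card {C : ConjClasses G // ∀ g : G, ConjClasses.mk g = C → g ∉ K}

variable {K : Subgroup G} [Fintype ↥(Nor K)] {star : (↥(Nor K) → ℂ) → (G → ℂ)}
  {e h : ℕ} {θ : IrrCharacter G} {E : Subgroup G}

namespace Feit

/-- There is a nonidentity element in the subgroup. -/
theorem exists_ne_one (f : Feit K star e h θ E) : ∃ k : G, k ∈ K ∧ k ≠ 1 := by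
  obtain ⟨χ, hχ, -⟩ := f.htwo
  obtain ⟨-, k, hk, hne⟩ := hχ
  refine ⟨(k : G), Subgroup.mem_subgroupOf.mp hk, ?_⟩
  intro h1
  apply hne
  have : k = 1 := Subtype.ext h1
  rw [this]

theorem card_KN (f : Feit K star e h θ E) : Nat.card (KN K) = h := by
  rw [← f.hcard]
  exact Cfsg.Agent.Lib.helper3.IndFunTrans.card_subgroupOf_of_le Subgroup.le_normalizer

theorem card_Nor (f : Feit K star e h θ E) : Nat.card ↥(Nor K) = h * e := by
  rw [← (KN K).card_mul_index, f.card_KN, f.hidx]

open Classical in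
/-- The sum over the subgroup of a character of the big group, in terms of the multiplicities of
the characters of the normalizer with the subgroup in their kernel. -/
theorem sum_subgroup_char (f : Feit K star e h θ E) (χ : IrrCharacter G) :
    (χ : G → ℂ) 1 + ∑ k ∈ (Finset.univ : Finset (KN K)).erase 1, (χ : G → ℂ) ((k : ↥(Nor K)) : G) =
      (h : ℂ) * ∑ ζ ∈ nrelF (KN K),
        conj (classInner (indFun (Nor K) (ζ : ↥(Nor K) → ℂ)) (χ : G → ℂ)) := by
  classical
  have hcf : IsClassFunction ↥(Nor K) (fun n : ↥(Nor K) => (χ : G → ℂ) (n : G)) :=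
    isClassFunction_of_isCharacter (isCharacter_restrict (isCharacter_of_isIrrCharacter χ.2) _)
  have h1 := sum_subgroup_classFunction (KN K) f.hCn _ hcf
  rw [f.card_KN] at h1
  rw [← Finset.add_sum_erase Finset.univ _ (Finset.mem_univ (1 : KN K))] at h1
  simp only [OneMemClass.coe_one] at h1
  rw [h1]
  congr 1
  apply Finset.sum_congr rfl
  intro ζ hζ
  rw [f.hlin ζ ((mem_nrelF (KN K)).1 hζ), mul_one,
    frobenius_reciprocity _ _ _ (isClassFunction_of_isCharacter
      (isCharacter_of_isIrrCharacter χ.2)), classInner_conj_symm]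

open Classical in
/-- A non-exceptional character is `1`, `θ`, induced from a linear character of the normalizer, or
its values on the subgroup add up to zero. -/
theorem nExcF_cases (f : Feit K star e h θ E) (χ : IrrCharacter G) :
    (χ : G → ℂ) = (fun _ => 1) ∨ χ = θ ∨
    (∃ ζ : IrrCharacter ↥(Nor K), (ζ : ↥(Nor K) → ℂ) ∉ relSet (KN K) ∧
      (ζ : ↥(Nor K) → ℂ) ≠ (fun _ => 1) ∧ (χ : G → ℂ) = indFun (Nor K) (ζ : ↥(Nor K) → ℂ)) ∨
    (χ : G → ℂ) 1 + ∑ k ∈ (Finset.univ : Finset (KN K)).erase 1,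
      (χ : G → ℂ) ((k : ↥(Nor K)) : G) = 0 := by
  classical
  by_cases hall : ∀ ζ ∈ nrelF (KN K),
      classInner (indFun (Nor K) (ζ : ↥(Nor K) → ℂ)) (χ : G → ℂ) = 0
  · right; right; right
    rw [f.sum_subgroup_char χ, Finset.sum_eq_zero, mul_zero]
    intro ζ hζ
    rw [hall ζ hζ, map_zero]
  · push Not at hall
    obtain ⟨ζ, hζ, hne⟩ := hall
    have hζ' := (mem_nrelF (KN K)).1 hζ
    by_cases h1 : (ζ : ↥(Nor K) → ℂ) = fun _ => 1
    · rw [h1, f.hθ, classInner_add_left] at hne
      by_cases h2 : (χ : G → ℂ) = fun _ => 1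
      · left; exact h2
      · right; left
        have h3 : classInner (fun _ : G => (1 : ℂ)) (χ : G → ℂ) = 0 := by
          rw [irr_classInner_eq isIrrCharacter_one χ.2, if_neg (fun h => h2 h.symm)]
        rw [h3, zero_add, irr_classInner_eq θ.2 χ.2] at hne
        by_contra h4
        apply hne
        rw [if_neg (fun h => h4 (Subtype.ext h.symm))]
    · right; right; left
      refine ⟨ζ, hζ', h1, ?_⟩
      obtain ⟨hirr, -⟩ := f.hY ζ hζ' h1
      rw [irr_classInner_eq hirr χ.2] at hne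
      by_contra h4
      apply hne
      rw [if_neg (fun h => h4 h.symm)]

end Feit

end Cfsg.Agent.Lib.Helper7.FeitZ
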