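import Mathlib
import Cfsg.Prelude.Def_OddOrderChar
import Cfsg.Agent.Lib.Helper7.FeitZ6

set_option autoImplicit false
set_option linter.style.haveILetI false
set_option linter.unusedSectionVars false

/-!
# Feit's theorem on Zassenhaus groups, part 7: the coherence constant vanishes
-/

namespace Cfsg.Agent.Lib.Helper7.FeitZ

open Cfsg Module Cfsg.Agent.Lib.helper3.CharBasic Cfsg.Agent.Lib.helper3.IndFun
open Cfsg.Agent.Lib.helper3.Irr Cfsg.Agent.Lib.helper3.Coh Cfsg.Agent.Lib.helper3.Tifn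
open scoped ComplexConjugate

variable {G : Type*} [Group G] [Fintype G]
variable {K : Subgroup G} [Fintype ↥(Nor K)] {star : (↥(Nor K) → ℂ) → (G → ℂ)}
  {e h : ℕ} {θ : IrrCharacter G} {E : Subgroup G}

namespace Feit

open Classical in
/-- The sum of a constant over the nonidentity elements of the subgroup. -/
theorem sum_erase_const (f : Feit K star e h θ E) (F : G → ℂ) (z : ℂ)
    (hz : ∀ k : G, k ∈ K → k ≠ 1 → F k = z) :
    ∑ k ∈ (Finset.univ : Finset (KN K)).erase 1, F ((k : ↥(Nor K)) : G) = ((h : ℂ) - 1) * z := by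
  have h1 : ∀ k ∈ (Finset.univ : Finset (KN K)).erase 1, F ((k : ↥(Nor K)) : G) = z := by
    intro k hk
    apply hz _ (Subgroup.mem_subgroupOf.mp k.2)
    intro h1
    apply (Finset.mem_erase.mp hk).1
    apply Subtype.ext
    apply Subtype.ext
    exact h1
  rw [Finset.sum_congr rfl h1, Finset.sum_const, Finset.card_erase_of_mem (Finset.mem_univ _),
    Finset.card_univ, ← Nat.card_eq_fintype_card, f.card_KN, nsmul_eq_mul]
  have hh : 1 ≤ h := by
    rw [← f.hcard]
    exact Nat.card_pos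
  push_cast [hh]
  ring

/-- A non-exceptional character vanishing on the nonidentity elements of the subgroup is `θ`. -/
theorem eq_theta_of_zero (f : Feit K star e h θ E) (χ : IrrCharacter G)
    (hz : ∀ k : G, k ∈ K → k ≠ 1 → (χ : G → ℂ) k = 0) : χ = θ := by
  classical
  obtain ⟨k₀, hk₀, hk₀1⟩ := f.exists_ne_one
  rcases f.nExcF_cases χ with h1 | h1 | ⟨ζ, hζ, hζ1, h1⟩ | h1
  · exfalso
    have := hz k₀ hk₀ hk₀1
    rw [h1] at this
    exact one_ne_zero this
  · exact h1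
  · exfalso
    have := hz k₀ hk₀ hk₀1
    rw [h1, (f.hY ζ hζ hζ1).2 k₀ hk₀ hk₀1] at this
    exact one_ne_zero this
  · exfalso
    rw [f.sum_erase_const (χ : G → ℂ) 0 hz, mul_zero, add_zero] at h1
    exact apply_one_ne_zero χ.2 h1

/-- The main arithmetic: the coherence constant vanishes, and the non-exceptional characters other
than `θ` have value `±1` on the nonidentity elements of the subgroup. -/
theorem main_const (f : Feit K star e h θ E) :
    (∀ ξ ∈ relSet (KN K), ∀ k : ↥(Nor K), (k : G) ∈ K → k ≠ 1 → star ξ (k : G) = ξ k) ∧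
    (∀ χ ∈ f.nExcF, χ ≠ θ → ∀ k : G, k ∈ K → k ≠ 1 →
      (χ : G → ℂ) k = 1 ∨ (χ : G → ℂ) k = -1) := by
  classical
  obtain ⟨ξ₀, hξ₀, -⟩ := f.htwo
  obtain ⟨m, hm⟩ := exists_int_difference K f.hTI f.hC star f.hstar f.hext ⟨ξ₀, hξ₀⟩
  -- the integer constants
  have hzex : ∀ χ : IrrCharacter G, ∃ z : ℤ, χ ∈ f.nExcF →
      ∀ k : G, k ∈ K → k ≠ 1 → (χ : G → ℂ) k = (z : ℂ) := by
    intro χ
    by_cases hχ : χ ∈ f.nExcF
    · obtain ⟨z, hz⟩ := f.exists_int_nExcF hχ
      exact ⟨z, fun _ => hz⟩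
    · exact ⟨0, fun h => absurd h hχ⟩
  choose z hz using hzex
  obtain ⟨k₀, hk₀, hk₀1⟩ := f.exists_ne_one
  have hk₀N : k₀ ∈ Nor K := Subgroup.le_normalizer hk₀
  have he1 : 1 ≤ e := by
    rw [← f.hEcard]
    exact Nat.card_pos
  have hh : 2 * e + 2 ≤ h := by
    have := f.hlt
    omega
  -- the orthogonality relation, over the integers
  have horth := f.sum_nExcF_norm m hm ⟨k₀, hk₀N⟩ hk₀ (fun h1 => hk₀1 (congrArg Subtype.val h1))
  rw [f.hidx, f.card_Nor] at horth
  have hsum : ∑ χ ∈ f.nExcF, (χ : G → ℂ) k₀ * conj ((χ : G → ℂ) k₀) =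
      ((∑ χ ∈ f.nExcF, z χ ^ 2 : ℤ) : ℂ) := by
    push_cast
    apply Finset.sum_congr rfl
    intro χ hχ
    rw [hz χ hχ k₀ hk₀ hk₀1, map_intCast]
    ring
  rw [hsum] at horth
  have he0 : (e : ℂ) ≠ 0 := Nat.cast_ne_zero.mpr (by omega)
  have hint : (e : ℤ) * ∑ χ ∈ f.nExcF, z χ ^ 2 =
      (e : ℤ) ^ 2 + 2 * m * (e : ℤ) - m ^ 2 * ((h : ℤ) - 1) := by
    have : (((e : ℤ) * ∑ χ ∈ f.nExcF, z χ ^ 2 : ℤ) : ℂ) =
        (((e : ℤ) ^ 2 + 2 * m * (e : ℤ) - m ^ 2 * ((h : ℤ) - 1) : ℤ) : ℂ) := by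
      push_cast
      push_cast at horth
      rw [horth]
      field_simp
    exact_mod_cast this
  -- nonvanishing
  have hnz : ∀ χ ∈ f.nExcF.erase θ, 1 ≤ z χ ^ 2 := by
    intro χ hχ
    obtain ⟨hχθ, hχn⟩ := Finset.mem_erase.mp hχ
    have : z χ ≠ 0 := by
      intro h0
      apply hχθ
      apply f.eq_theta_of_zero χ
      intro k hk hk1
      rw [hz χ hχn k hk hk1, h0, Int.cast_zero]
    have h1 : 0 < z χ ^ 2 := by positivity
    omega
  have hcard := f.card_nExcF_ge e f.hidx f.hlin E f.hEcard f.hout f.hcls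
  have hcardE : e ≤ (f.nExcF.erase θ).card := by
    have := Finset.pred_card_le_card_erase (s := f.nExcF) (a := θ)
    omega
  have hsumE : ((f.nExcF.erase θ).card : ℤ) ≤ ∑ χ ∈ f.nExcF.erase θ, z χ ^ 2 := by
    have := Finset.sum_le_sum hnz
    simpa using this
  have hsumle : ∑ χ ∈ f.nExcF.erase θ, z χ ^ 2 ≤ ∑ χ ∈ f.nExcF, z χ ^ 2 :=
    Finset.sum_le_sum_of_subset_of_nonneg (Finset.erase_subset _ _) (fun _ _ _ => by positivity)
  have hge : (e : ℤ) ≤ ∑ χ ∈ f.nExcF, z χ ^ 2 := by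
    have : (e : ℤ) ≤ ((f.nExcF.erase θ).card : ℤ) := by exact_mod_cast hcardE
    omega
  -- `m = 0`
  have hm0 : m = 0 := by
    by_contra hne
    have h1 : m ^ 2 * ((h : ℤ) - 1) ≤ 2 * m * (e : ℤ) := by nlinarith
    have h2 : (2 : ℤ) * (e : ℤ) + 1 ≤ (h : ℤ) - 1 := by
      have : ((2 * e + 2 : ℕ) : ℤ) ≤ (h : ℤ) := by exact_mod_cast hh
      push_cast at this
      omega
    have h3 : 1 ≤ m ^ 2 := by
      have : 0 < m ^ 2 := by positivity
      omega
    have h4 : m ≤ m ^ 2 := by nlinarith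
    have he' : (1 : ℤ) ≤ (e : ℤ) := by exact_mod_cast he1
    nlinarith
  constructor
  · intro ξ hξ k hk hk1
    have := hm ξ hξ k hk hk1
    rw [hm0] at this
    simp only [Int.cast_zero, zero_mul, zero_div] at this
    exact sub_eq_zero.mp this
  · intro χ hχ hχθ k hk hk1
    rw [hm0] at hint
    have hSe : ∑ χ ∈ f.nExcF, z χ ^ 2 = (e : ℤ) := by
      have he' : (e : ℤ) ≠ 0 := by exact_mod_cast (by omega : e ≠ 0)
      have : (e : ℤ) * ∑ χ ∈ f.nExcF, z χ ^ 2 = (e : ℤ) * (e : ℤ) := by rw [hint]; ring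
      exact mul_left_cancel₀ he' this
    -- all the squares are one
    have hχE : χ ∈ f.nExcF.erase θ := Finset.mem_erase.mpr ⟨hχθ, hχ⟩
    have hsq : z χ ^ 2 = 1 := by
      by_contra hne
      have h2 : 2 ≤ z χ ^ 2 := by
        have := hnz χ hχE
        omega
      have h3 : ((f.nExcF.erase θ).card : ℤ) + 1 ≤ ∑ χ' ∈ f.nExcF.erase θ, z χ' ^ 2 := by
        rw [← Finset.add_sum_erase _ _ hχE]
        have h4 : (((f.nExcF.erase θ).erase χ).card : ℤ) ≤
            ∑ χ' ∈ (f.nExcF.erase θ).erase χ, z χ' ^ 2 := by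
          have := Finset.sum_le_sum (s := (f.nExcF.erase θ).erase χ)
            (f := fun _ => (1 : ℤ)) (g := fun χ' => z χ' ^ 2)
            (fun χ' hχ' => hnz χ' (Finset.mem_of_mem_erase hχ'))
          simpa using this
        have h5 : ((f.nExcF.erase θ).erase χ).card + 1 = (f.nExcF.erase θ).card :=
          Finset.card_erase_add_one hχE
        have h6 : (((f.nExcF.erase θ).erase χ).card : ℤ) + 1 = ((f.nExcF.erase θ).card : ℤ) := by
          exact_mod_cast h5
        omega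
      have : (e : ℤ) ≤ ((f.nExcF.erase θ).card : ℤ) := by exact_mod_cast hcardE
      omega
    rw [hz χ hχ k hk hk1]
    have h5 : (z χ - 1) * (z χ + 1) = 0 := by ring_nf; rw [hsq]; ring
    rcases mul_eq_zero.mp h5 with h6 | h6
    · left
      have : z χ = 1 := by omega
      rw [this, Int.cast_one]
    · right
      have : z χ = -1 := by omega
      rw [this]
      simp

end Feit

end Cfsg.Agent.Lib.Helper7.FeitZ
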