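import Mathlib
import Cfsg.Prelude.Def_OddOrderChar
import Cfsg.Agent.Lib.Helper7.FeitZ7

set_option autoImplicit false
set_option linter.style.haveILetI false
set_option linter.unusedSectionVars false

/-!
# Feit's theorem on Zassenhaus groups, part 8: the exceptional characters restrict irreducibly
-/

namespace Cfsg.Agent.Lib.Helper7.FeitZ

open Cfsg Module Cfsg.Agent.Lib.helper3.CharBasic Cfsg.Agent.Lib.helper3.IndFun
open Cfsg.Agent.Lib.helper3.Irr Cfsg.Agent.Lib.helper3.Coh Cfsg.Agent.Lib.helper3.Tifn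
open scoped ComplexConjugate

variable {G : Type*} [Group G] [Fintype G]
variable {K : Subgroup G} [Fintype ↥(Nor K)] {star : (↥(Nor K) → ℂ) → (G → ℂ)}
  {e h : ℕ} {θ : IrrCharacter G} {E : Subgroup G}

namespace Feit

/-- A character constant on the nonidentity elements of the subgroup is not exceptional. -/
theorem not_mem_ExcF_of_const (f : Feit K star e h θ E) (χ : IrrCharacter G) (z : ℂ)
    (hz : ∀ k : G, k ∈ K → k ≠ 1 → (χ : G → ℂ) k = z) : χ ∉ f.ExcF := by
  intro hχ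
  rw [f.mem_ExcF_iff] at hχ
  obtain ⟨a, ha, b, hb, ha1, hb1, hne⟩ :=
    (exceptional_iff K f.hC star f.hstar f.hext f.htwo (χ : G → ℂ) χ.2).1 hχ
  apply hne
  rw [hz a ha ha1, hz b hb hb1]

open Classical in
/-- The values of an exceptional character on the subgroup add up to zero. -/
theorem sum_ExcF_eq_zero (f : Feit K star e h θ E) (χ : IrrCharacter G) (hχ : χ ∈ f.ExcF) :
    (χ : G → ℂ) 1 + ∑ k ∈ (Finset.univ : Finset (KN K)).erase 1,
      (χ : G → ℂ) ((k : ↥(Nor K)) : G) = 0 := by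
  rcases f.nExcF_cases χ with h1 | h1 | ⟨ζ, hζ, hζ1, h1⟩ | h1
  · exfalso
    apply f.not_mem_ExcF_of_const χ 1 _ hχ
    intro k _ _
    rw [h1]
  · exfalso
    apply f.not_mem_ExcF_of_const χ 0 _ hχ
    intro k hk hk1
    have h2 := f.hfix k hk hk1
    rw [f.hθ, Pi.add_apply] at h2
    rw [h1]
    linear_combination h2
  · exfalso
    apply f.not_mem_ExcF_of_const χ 1 _ hχ
    intro k hk hk1
    rw [h1]
    exact (f.hY ζ hζ hζ1).2 k hk hk1
  · exact h1

open Classical in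
/-- The values of a relevant character on the nonidentity elements of the subgroup. -/
theorem sum_erase_rel (f : Feit K star e h θ E) {ξ : ↥(Nor K) → ℂ} (hξ : ξ ∈ relSet (KN K)) :
    ξ 1 + ∑ k ∈ (Finset.univ : Finset (KN K)).erase 1, ξ (k : ↥(Nor K)) = 0 := by
  have h1 := sum_subgroup_eq_zero (KN K) f.hCn hξ
  rw [← Finset.add_sum_erase Finset.univ _ (Finset.mem_univ (1 : KN K))] at h1
  simpa using h1

/-- The image of a relevant character under the isometry is an irreducible character of the same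
degree. -/
theorem exists_star_eq (f : Feit K star e h θ E) {ξ : ↥(Nor K) → ℂ} (hξ : ξ ∈ relSet (KN K)) :
    ∃ χ : IrrCharacter G, star ξ = (χ : G → ℂ) ∧ (χ : G → ℂ) 1 = ξ 1 := by
  classical
  obtain ⟨hstar_eq, -⟩ := f.main_const
  have hmem : f.excOf ⟨ξ, hξ.1⟩ ∈ f.ExcF := by
    rw [f.mem_ExcF_iff]
    refine ⟨ξ, hξ, ?_⟩
    rcases f.excOf_spec (ξ := ⟨ξ, hξ.1⟩) hξ with h1 | h1
    · left; exact h1.symm
    · right
      have : star ξ = -(f.excOf ⟨ξ, hξ.1⟩ : G → ℂ) := h1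
      rw [this, neg_neg]
  have hsum := f.sum_ExcF_eq_zero _ hmem
  have hrel := f.sum_erase_rel hξ
  have hval : ∀ k ∈ (Finset.univ : Finset (KN K)).erase 1,
      star ξ ((k : ↥(Nor K)) : G) = ξ (k : ↥(Nor K)) := by
    intro k hk
    apply hstar_eq ξ hξ (k : ↥(Nor K)) (Subgroup.mem_subgroupOf.mp k.2)
    intro h1
    apply (Finset.mem_erase.mp hk).1
    exact Subtype.ext h1
  obtain ⟨a, ha, ha'⟩ := exists_pos_nat_apply_one (f.excOf ⟨ξ, hξ.1⟩).2
  obtain ⟨b, hb, hb'⟩ := exists_pos_nat_apply_one hξ.1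
  rcases f.excOf_spec (ξ := ⟨ξ, hξ.1⟩) hξ with h1 | h1
  · have h1' : star ξ = (f.excOf ⟨ξ, hξ.1⟩ : G → ℂ) := h1
    refine ⟨f.excOf ⟨ξ, hξ.1⟩, h1', ?_⟩
    have h2 : ∑ k ∈ (Finset.univ : Finset (KN K)).erase 1,
        (f.excOf ⟨ξ, hξ.1⟩ : G → ℂ) ((k : ↥(Nor K)) : G) =
        ∑ k ∈ (Finset.univ : Finset (KN K)).erase 1, ξ (k : ↥(Nor K)) := by
      apply Finset.sum_congr rfl
      intro k hk
      rw [← h1', hval k hk]
    rw [h2] at hsum
    linear_combination hsum - hrel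
  · exfalso
    have h1' : star ξ = -(f.excOf ⟨ξ, hξ.1⟩ : G → ℂ) := h1
    have h2 : ∑ k ∈ (Finset.univ : Finset (KN K)).erase 1,
        (f.excOf ⟨ξ, hξ.1⟩ : G → ℂ) ((k : ↥(Nor K)) : G) =
        -∑ k ∈ (Finset.univ : Finset (KN K)).erase 1, ξ (k : ↥(Nor K)) := by
      rw [← Finset.sum_neg_distrib]
      apply Finset.sum_congr rfl
      intro k hk
      rw [← hval k hk, h1', Pi.neg_apply, neg_neg]
    rw [h2, ha'] at hsum
    rw [hb'] at hrel
    have h3 : ((a : ℤ) : ℂ) = ((-(b : ℤ) : ℤ) : ℂ) := by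
      push_cast
      linear_combination hsum + hrel
    have h4 : (a : ℤ) = -(b : ℤ) := by exact_mod_cast h3
    omega

/-- **The exceptional characters restrict irreducibly**: every relevant character of the normalizer
is the restriction of an irreducible character of the big group. -/
theorem exists_restrict_eq (f : Feit K star e h θ E) {ξ : ↥(Nor K) → ℂ}
    (hξ : ξ ∈ relSet (KN K)) :
    ∃ χ : IrrCharacter G, ∀ n : ↥(Nor K), (χ : G → ℂ) (n : G) = ξ n := by
  classical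
  obtain ⟨hstar_eq, -⟩ := f.main_const
  obtain ⟨χ, hχ, hχ1⟩ := f.exists_star_eq hξ
  refine ⟨χ, ?_⟩
  -- the restriction
  set ρ : ↥(Nor K) → ℂ := fun n => (χ : G → ℂ) (n : G) with hρ
  have hρchar : IsCharacter ↥(Nor K) ρ :=
    isCharacter_restrict (isCharacter_of_isIrrCharacter χ.2) _
  have hρcf : IsClassFunction ↥(Nor K) ρ := isClassFunction_of_isCharacter hρchar
  -- values on the subgroup
  have hK : ∀ n : ↥(Nor K), n ∈ KN K → ρ n = ξ n := by
    intro n hn
    by_cases hn1 : n = 1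
    · rw [hn1, hρ]
      simpa using hχ1
    · rw [hρ]
      simp only
      rw [← hχ]
      exact hstar_eq ξ hξ n (Subgroup.mem_subgroupOf.mp hn) hn1
  -- the multiplicity of `ξ` is one
  have hmult : classInner ρ ξ = 1 := by
    have h1 : classInner ξ ξ = 1 := by rw [irr_classInner_eq hξ.1 hξ.1, if_pos rfl]
    rw [← h1, classInner_apply, classInner_apply]
    congr 1
    apply Finset.sum_congr rfl
    intro n _
    by_cases hn : n ∈ KN K
    · rw [hK n hn]
    · rw [apply_eq_zero_of_not_mem (KN K) f.hCn hξ hn, map_zero, mul_zero, mul_zero]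
  -- the decomposition
  have hdec := classFunction_eq_sum ρ hρcf
  have hnat : ∀ ζ : IrrCharacter ↥(Nor K), ∃ a : ℕ, classInner ρ (ζ : ↥(Nor K) → ℂ) = (a : ℂ) :=
    fun ζ => exists_nat_classInner_of_isCharacter_of_isCharacter hρchar
      (isCharacter_of_isIrrCharacter ζ.2)
  choose a ha using hnat
  have hdeg : ∀ ζ : IrrCharacter ↥(Nor K), ∃ d : ℕ, 0 < d ∧ (ζ : ↥(Nor K) → ℂ) 1 = (d : ℂ) :=
    fun ζ => exists_pos_nat_apply_one ζ.2
  choose d hd hd' using hdeg
  set ξ' : IrrCharacter ↥(Nor K) := ⟨ξ, hξ.1⟩ with hξ'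
  have haξ : a ξ' = 1 := by
    have := ha ξ'
    rw [hmult] at this
    exact_mod_cast this.symm
  have h1 : ρ 1 = ∑ ζ : IrrCharacter ↥(Nor K), ((a ζ * d ζ : ℕ) : ℂ) := by
    have := congrFun hdec 1
    rw [this, Finset.sum_apply]
    apply Finset.sum_congr rfl
    intro ζ _
    rw [Pi.smul_apply, smul_eq_mul, ha ζ, hd' ζ]
    push_cast
    ring
  have h2 : ρ 1 = ((d ξ' : ℕ) : ℂ) := by
    rw [hK 1 (Subgroup.one_mem _)]
    exact hd' ξ'
  have h3 : ∑ ζ : IrrCharacter ↥(Nor K), a ζ * d ζ = d ξ' := by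
    have : ((∑ ζ : IrrCharacter ↥(Nor K), a ζ * d ζ : ℕ) : ℂ) = ((d ξ' : ℕ) : ℂ) := by
      rw [← h2, h1]
      push_cast
      rfl
    exact_mod_cast this
  rw [← Finset.add_sum_erase Finset.univ _ (Finset.mem_univ ξ'), haξ, one_mul] at h3
  have h4 : ∑ ζ ∈ (Finset.univ : Finset (IrrCharacter ↥(Nor K))).erase ξ', a ζ * d ζ = 0 := by
    omega
  have h5 : ∀ ζ : IrrCharacter ↥(Nor K), ζ ≠ ξ' → a ζ = 0 := by
    intro ζ hζ
    have := (Finset.sum_eq_zero_iff.mp h4) ζ (Finset.mem_erase.mpr ⟨hζ, Finset.mem_univ _⟩)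
    rcases Nat.mul_eq_zero.mp this with h | h
    · exact h
    · have := hd ζ
      omega
  intro n
  have := congrFun hdec n
  rw [Finset.sum_apply, ← Finset.add_sum_erase Finset.univ _ (Finset.mem_univ ξ')] at this
  rw [Finset.sum_eq_zero, add_zero, Pi.smul_apply, smul_eq_mul, ha ξ', haξ] at this
  · have h6 : ρ n = ξ n := by
      rw [this]
      simp [hξ']
    exact h6
  · intro ζ hζ
    rw [Pi.smul_apply, ha ζ, h5 ζ (Finset.mem_erase.mp hζ).1]
    simp

end Feit

end Cfsg.Agent.Lib.Helper7.FeitZ
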