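import Mathlib
import Cfsg.Prelude.Def_OddOrderChar
import Cfsg.Agent.Lib.Helper7.FeitZ8

set_option autoImplicit false
set_option linter.style.haveILetI false
set_option linter.unusedSectionVars false

/-!
# Feit's theorem on Zassenhaus groups, part 9: the final contradiction

An irreducible character `χ` of the big group restricting to a relevant character `ξ` of degree
`e` of the normalizer: `χ * conj χ` contains the principal character and each of the `(e - 1) / 2`
irreducible characters of degree `h + 1` induced from the linear characters of the normalizer, so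
`e ^ 2 ≥ 1 + (e - 1) * (h + 1) / 2`.
-/

namespace Cfsg.Agent.Lib.Helper7.FeitZ

open Cfsg Module Cfsg.Agent.Lib.helper3.CharBasic Cfsg.Agent.Lib.helper3.IndFun
open Cfsg.Agent.Lib.helper3.Irr Cfsg.Agent.Lib.helper3.Coh Cfsg.Agent.Lib.helper3.Tifn
open scoped ComplexConjugate

variable {G : Type*} [Group G] [Fintype G]
variable {K : Subgroup G} [Fintype ↥(Nor K)] {star : (↥(Nor K) → ℂ) → (G → ℂ)}
  {e h : ℕ} {θ : IrrCharacter G} {E : Subgroup G}

namespace Feit

/-- The product of the extension with its conjugate contains each character induced from a linear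
character of the normalizer exactly once. -/
theorem classInner_ind_mul_conj (f : Feit K star e h θ E) {ξ : ↥(Nor K) → ℂ}
    (hξ : ξ ∈ relSet (KN K)) (χ : IrrCharacter G)
    (hχ : ∀ n : ↥(Nor K), (χ : G → ℂ) (n : G) = ξ n)
    (ζ : IrrCharacter ↥(Nor K)) (hζ : (ζ : ↥(Nor K) → ℂ) ∉ relSet (KN K)) :
    classInner (indFun (Nor K) (ζ : ↥(Nor K) → ℂ))
      ((χ : G → ℂ) * fun g => conj ((χ : G → ℂ) g)) = 1 := by
  have hχc := isCharacter_of_isIrrCharacter χ.2
  have hcf : IsClassFunction G ((χ : G → ℂ) * fun g => conj ((χ : G → ℂ) g)) :=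
    isClassFunction_of_isCharacter (isCharacter_mul hχc (isCharacter_conj hχc))
  rw [frobenius_reciprocity _ _ _ hcf]
  have h1 : classInner ξ ξ = 1 := by rw [irr_classInner_eq hξ.1 hξ.1, if_pos rfl]
  rw [← h1, classInner_apply, classInner_apply]
  congr 1
  apply Finset.sum_congr rfl
  intro n _
  simp only [Pi.mul_apply]
  rw [hχ n]
  by_cases hn : n ∈ KN K
  · rw [apply_eq_of_not_mem_relSet ζ.2 hζ hn, f.hlin ζ hζ, one_mul, map_mul, Complex.conj_conj,
      mul_comm]
  · rw [apply_eq_zero_of_not_mem (KN K) f.hCn hξ hn]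
    simp

/-- The principal character of the normalizer. -/
noncomputable def oneN (K : Subgroup G) : IrrCharacter ↥(Nor K) :=
  ⟨fun _ => 1, isIrrCharacter_one⟩

theorem oneN_not_mem (K : Subgroup G) : ((oneN K : IrrCharacter ↥(Nor K)) : ↥(Nor K) → ℂ) ∉
    relSet (KN K) := by
  rintro ⟨-, k, -, hk⟩
  exact hk rfl

open Classical in
/-- The irreducible character of the big group induced from a nonprincipal linear character of the
normalizer. -/
noncomputable def indOf (f : Feit K star e h θ E) (ζ : IrrCharacter ↥(Nor K)) : IrrCharacter G :=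
  if hζ : (ζ : ↥(Nor K) → ℂ) ∉ relSet (KN K) ∧ (ζ : ↥(Nor K) → ℂ) ≠ (fun _ => 1) then
    ⟨indFun (Nor K) (ζ : ↥(Nor K) → ℂ), (f.hY ζ hζ.1 hζ.2).1⟩
  else ⟨fun _ => 1, isIrrCharacter_one⟩

theorem indOf_coe (f : Feit K star e h θ E) (ζ : IrrCharacter ↥(Nor K))
    (hζ : (ζ : ↥(Nor K) → ℂ) ∉ relSet (KN K)) (hζ1 : (ζ : ↥(Nor K) → ℂ) ≠ (fun _ => 1)) :
    (f.indOf ζ : G → ℂ) = indFun (Nor K) (ζ : ↥(Nor K) → ℂ) := by
  unfold indOf
  rw [dif_pos ⟨hζ, hζ1⟩]

open Classical in
/-- At most two linear characters of the normalizer induce the same character. -/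
theorem card_fiber_le (f : Feit K star e h θ E) (hindex : (Nor K).index = h + 1)
    (X : IrrCharacter G) :
    (((nrelF (KN K)).erase (oneN K)).filter (fun ζ => f.indOf ζ = X)).card ≤ 2 := by
  by_cases hne : (((nrelF (KN K)).erase (oneN K)).filter (fun ζ => f.indOf ζ = X)).Nonempty
  swap
  · rw [Finset.not_nonempty_iff_eq_empty] at hne
    rw [hne]
    simp
  obtain ⟨ν, hν⟩ := hne
  rw [Finset.mem_filter, Finset.mem_erase] at hν
  obtain ⟨⟨hν1, hνn⟩, hνX⟩ := hν
  have hνn' := (mem_nrelF (KN K)).1 hνn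
  have hν1' : (ν : ↥(Nor K) → ℂ) ≠ fun _ => 1 := by
    intro h1
    apply hν1
    exact Subtype.ext h1
  have hXcoe : (X : G → ℂ) = indFun (Nor K) (ν : ↥(Nor K) → ℂ) := by
    rw [← hνX, f.indOf_coe ν hνn' hν1']
  have hhpos : 1 ≤ h := by
    rw [← f.hcard]
    exact Nat.card_pos
  -- the sum over the subgroup
  have hsum := f.sum_subgroup_char X
  rw [f.sum_erase_const (X : G → ℂ) 1 (fun k hk hk1 => by
    rw [hXcoe]; exact (f.hY ν hνn' hν1').2 k hk hk1)] at hsum
  have hX1 : (X : G → ℂ) 1 = ((h : ℂ) + 1) := by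
    rw [hXcoe, Cfsg.Agent.Lib.helper3.Irr.indFun_apply_one, hindex, f.hlin ν hνn']
    push_cast
    ring
  rw [hX1] at hsum
  have hh0 : (h : ℂ) ≠ 0 := Nat.cast_ne_zero.mpr (by omega)
  have hsum2 : ∑ ζ ∈ nrelF (KN K),
      conj (classInner (indFun (Nor K) (ζ : ↥(Nor K) → ℂ)) (X : G → ℂ)) = 2 := by
    apply mul_left_cancel₀ hh0
    rw [← hsum]
    ring
  -- split off the principal character
  have hone : oneN K ∈ nrelF (KN K) := (mem_nrelF (KN K)).2 (oneN_not_mem K)
  rw [← Finset.add_sum_erase _ _ hone] at hsum2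
  -- the principal term is a natural number
  obtain ⟨c₀, hc₀⟩ := exists_nat_classInner_of_isCharacter_of_isCharacter
    (isCharacter_indFun (Nor K) (fun _ => (1 : ℂ)) isCharacter_one)
    (isCharacter_of_isIrrCharacter X.2)
  have hone' : ((oneN K : IrrCharacter ↥(Nor K)) : ↥(Nor K) → ℂ) = fun _ => 1 := rfl
  rw [hone', hc₀, Complex.conj_natCast] at hsum2
  -- the other terms are indicator functions
  have hterm : ∀ ζ ∈ (nrelF (KN K)).erase (oneN K),
      conj (classInner (indFun (Nor K) (ζ : ↥(Nor K) → ℂ)) (X : G → ℂ)) =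
        if f.indOf ζ = X then 1 else 0 := by
    intro ζ hζ
    obtain ⟨hζ1, hζn⟩ := Finset.mem_erase.mp hζ
    have hζn' := (mem_nrelF (KN K)).1 hζn
    have hζ1' : (ζ : ↥(Nor K) → ℂ) ≠ fun _ => 1 := by
      intro h1
      apply hζ1
      exact Subtype.ext h1
    rw [← f.indOf_coe ζ hζn' hζ1', irr_classInner_eq (f.indOf ζ).2 X.2]
    by_cases heq : f.indOf ζ = X
    · rw [if_pos heq, if_pos (congrArg Subtype.val heq), map_one]
    · rw [if_neg heq, if_neg (fun h => heq (Subtype.ext h)), map_zero]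
  rw [Finset.sum_congr rfl hterm, Finset.sum_ite, Finset.sum_const_zero, add_zero,
    Finset.sum_const, nsmul_eq_mul, mul_one] at hsum2
  have : c₀ + (((nrelF (KN K)).erase (oneN K)).filter (fun ζ => f.indOf ζ = X)).card = 2 := by
    exact_mod_cast hsum2
  omega

/-- **The final contradiction.** -/
theorem punchline (f : Feit K star e h θ E) (hindex : (Nor K).index = h + 1) (he2 : 1 < e)
    {ξ : ↥(Nor K) → ℂ} (hξ : ξ ∈ relSet (KN K)) (hξ1 : ξ 1 = (e : ℂ))
    (χ : IrrCharacter G) (hχ : ∀ n : ↥(Nor K), (χ : G → ℂ) (n : G) = ξ n) : False := by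
  classical
  have hχc := isCharacter_of_isIrrCharacter χ.2
  set ψ : G → ℂ := (χ : G → ℂ) * fun g => conj ((χ : G → ℂ) g) with hψ
  have hψc : IsCharacter G ψ := isCharacter_mul hχc (isCharacter_conj hχc)
  have hψcf : IsClassFunction G ψ := isClassFunction_of_isCharacter hψc
  -- the multiplicities
  have hnat : ∀ X : IrrCharacter G, ∃ c : ℕ, classInner ψ (X : G → ℂ) = (c : ℂ) :=
    fun X => exists_nat_classInner_of_isCharacter_of_isCharacter hψc
      (isCharacter_of_isIrrCharacter X.2)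
  choose c hc using hnat
  have hdeg : ∀ X : IrrCharacter G, ∃ d : ℕ, 0 < d ∧ (X : G → ℂ) 1 = (d : ℂ) :=
    fun X => exists_pos_nat_apply_one X.2
  choose d hd hd' using hdeg
  -- the degree
  have hψ1 : ψ 1 = ((e ^ 2 : ℕ) : ℂ) := by
    rw [hψ]
    simp only [Pi.mul_apply]
    have := hχ 1
    simp only [OneMemClass.coe_one] at this
    rw [this, hξ1, Complex.conj_natCast]
    push_cast
    ring
  have hdec := congrFun (classFunction_eq_sum ψ hψcf) 1
  rw [Finset.sum_apply] at hdec
  have hdecN : e ^ 2 = ∑ X : IrrCharacter G, c X * d X := by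
    have : ((e ^ 2 : ℕ) : ℂ) = ((∑ X : IrrCharacter G, c X * d X : ℕ) : ℂ) := by
      rw [← hψ1, hdec]
      push_cast
      apply Finset.sum_congr rfl
      intro X _
      rw [Pi.smul_apply, smul_eq_mul, hc X, hd' X]
    exact_mod_cast this
  -- the index set
  set I : Finset (IrrCharacter ↥(Nor K)) := (nrelF (KN K)).erase (oneN K) with hI
  have hone : oneN K ∈ nrelF (KN K) := (mem_nrelF (KN K)).2 (oneN_not_mem K)
  have hIcard : I.card = e - 1 := by
    rw [hI, Finset.card_erase_of_mem hone, card_nrelF (KN K) f.hCn f.hlin, f.hidx]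
  have hImem : ∀ ζ ∈ I, (ζ : ↥(Nor K) → ℂ) ∉ relSet (KN K) ∧
      (ζ : ↥(Nor K) → ℂ) ≠ fun _ => 1 := by
    intro ζ hζ
    obtain ⟨hζ1, hζn⟩ := Finset.mem_erase.mp hζ
    refine ⟨(mem_nrelF (KN K)).1 hζn, ?_⟩
    intro h1
    apply hζ1
    exact Subtype.ext h1
  -- each induced character occurs once
  have hcind : ∀ ζ ∈ I, c (f.indOf ζ) = 1 := by
    intro ζ hζ
    obtain ⟨hζn, hζ1⟩ := hImem ζ hζ
    have h1 := f.classInner_ind_mul_conj hξ χ hχ ζ hζn
    rw [← f.indOf_coe ζ hζn hζ1, ← classInner_conj_symm, ← hψ, hc] at h1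
    rw [Complex.conj_natCast] at h1
    exact_mod_cast h1
  -- the principal character occurs once
  set oneG : IrrCharacter G := ⟨fun _ => 1, isIrrCharacter_one⟩ with honeG
  have hcone : c oneG = 1 := by
    have h1 : classInner ψ (oneG : G → ℂ) = 1 := by
      have h2 : classInner (χ : G → ℂ) (χ : G → ℂ) = 1 := by
        rw [irr_classInner_eq χ.2 χ.2, if_pos rfl]
      rw [← h2, classInner_apply, classInner_apply]
      congr 1
      apply Finset.sum_congr rfl
      intro g _
      rw [hψ, honeG]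
      simp
    rw [hc] at h1
    exact_mod_cast h1
  have hdone : d oneG = 1 := by
    have := hd' oneG
    rw [honeG] at this
    simp only at this
    exact_mod_cast this.symm
  -- the multiplicity function
  set m : IrrCharacter G → ℕ := fun X => (I.filter (fun ζ => f.indOf ζ = X)).card with hm
  have hm2 : ∀ X, m X ≤ 2 := fun X => f.card_fiber_le hindex X
  have hhpos : 1 ≤ h := by
    rw [← f.hcard]
    exact Nat.card_pos
  -- the degrees of the induced characters
  have hdind : ∀ ζ ∈ I, d (f.indOf ζ) = h + 1 := by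
    intro ζ hζ
    obtain ⟨hζn, hζ1⟩ := hImem ζ hζ
    have h1 := hd' (f.indOf ζ)
    rw [f.indOf_coe ζ hζn hζ1, Cfsg.Agent.Lib.helper3.Irr.indFun_apply_one, hindex,
      f.hlin ζ hζn, mul_one] at h1
    exact_mod_cast h1.symm
  have hmone : m oneG = 0 := by
    rw [hm]
    simp only
    rw [Finset.card_eq_zero, Finset.filter_eq_empty_iff]
    intro ζ hζ heq
    have h1 := hdind ζ hζ
    rw [heq, hdone] at h1
    omega
  -- the double count
  have hdouble : ∑ X : IrrCharacter G, c X * m X = e - 1 := by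
    have h1 : ∀ X : IrrCharacter G, c X * m X = ∑ ζ ∈ I, if f.indOf ζ = X then c X else 0 := by
      intro X
      rw [hm]
      simp only
      rw [Finset.sum_ite, Finset.sum_const_zero, add_zero, Finset.sum_const, smul_eq_mul,
        mul_comm]
    rw [Finset.sum_congr rfl (fun X _ => h1 X), Finset.sum_comm]
    have h2 : ∀ ζ ∈ I, ∑ X : IrrCharacter G, (if f.indOf ζ = X then c X else 0) = 1 := by
      intro ζ hζ
      rw [Finset.sum_ite_eq Finset.univ (f.indOf ζ) c, if_pos (Finset.mem_univ _), hcind ζ hζ]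
    rw [Finset.sum_congr rfl h2, Finset.sum_const, smul_eq_mul, mul_one, hIcard]
  -- the inequality
  have hineq : ∀ X : IrrCharacter G, X ≠ oneG → c X * m X * (h + 1) ≤ 2 * (c X * d X) := by
    intro X _
    by_cases hmX : m X = 0
    · rw [hmX]
      simp
    · have hne : (I.filter (fun ζ => f.indOf ζ = X)).Nonempty := by
        rw [Finset.nonempty_iff_ne_empty]
        intro h0
        apply hmX
        rw [hm]
        simp only
        rw [h0, Finset.card_empty]
      obtain ⟨ζ, hζ⟩ := hne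
      obtain ⟨hζI, hζX⟩ := Finset.mem_filter.mp hζ
      have hdX : d X = h + 1 := by rw [← hζX]; exact hdind ζ hζI
      rw [hdX]
      have := hm2 X
      calc c X * m X * (h + 1) ≤ c X * 2 * (h + 1) :=
            Nat.mul_le_mul_right _ (Nat.mul_le_mul_left _ this)
        _ = 2 * (c X * (h + 1)) := by ring
  have htotal : 2 + (e - 1) * (h + 1) ≤ 2 * e ^ 2 := by
    rw [hdecN, ← hdouble, Finset.sum_mul, Finset.mul_sum,
      ← Finset.add_sum_erase Finset.univ (fun X => c X * m X * (h + 1)) (Finset.mem_univ oneG),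
      ← Finset.add_sum_erase Finset.univ (fun X => 2 * (c X * d X)) (Finset.mem_univ oneG)]
    rw [hmone, hcone, hdone]
    have : ∑ X ∈ (Finset.univ : Finset (IrrCharacter G)).erase oneG, c X * m X * (h + 1) ≤
        ∑ X ∈ (Finset.univ : Finset (IrrCharacter G)).erase oneG, 2 * (c X * d X) :=
      Finset.sum_le_sum (fun X hX => hineq X (Finset.mem_erase.mp hX).1)
    omega
  -- the arithmetic
  have hlt := f.hlt
  obtain ⟨e', rfl⟩ : ∃ e', e = e' + 2 := ⟨e - 2, by omega⟩
  obtain ⟨h', rfl⟩ : ∃ h', h = h' + 2 * (e' + 2) + 2 := ⟨h - (2 * (e' + 2) + 2), by omega⟩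
  have h3 : e' + 2 - 1 = e' + 1 := by omega
  rw [h3] at htotal
  nlinarith
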