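import Mathlib
import Cfsg.Prelude.Def_OddOrderChar
import Cfsg.Prelude.Def_LieExceptional
import Cfsg.Agent.Lib.Helper7.FeitZ9
import Cfsg.Agent.Lib.Helper5.Zass3.FeitGT3
import Cfsg.Agent.Lib.helper3.TwoTrans
import Cfsg.Agent.Lib.helper3.Inflate2
import Cfsg.Agent.S0878
import Cfsg.Agent.S0881
import Cfsg.Agent.S0884

set_option autoImplicit false
set_option linter.style.haveILetI false
set_option linter.unusedSectionVars false

/-!
# Feit's theorem on Zassenhaus groups, part 10: the standing hypotheses hold in a simple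
Zassenhaus group with odd two-point stabilizer
-/

namespace Cfsg.Agent.Lib.Helper7.FeitZ

open Cfsg Module Cfsg.Agent.Lib.helper3.CharBasic Cfsg.Agent.Lib.helper3.IndFun
open Cfsg.Agent.Lib.helper3.Irr Cfsg.Agent.Lib.helper3.Coh Cfsg.Agent.Lib.helper3.Tifn
open scoped ComplexConjugate

/-- An irreducible character with a normal subgroup with commutative quotient in its kernel has
degree one. -/
theorem degree_one_of_quotient_comm {N : Type*} [Group N] [Fintype N] (K : Subgroup N) [K.Normal]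
    (hcomm : ∀ x y : N, x * y * x⁻¹ * y⁻¹ ∈ K) (ζ : N → ℂ) (hζ : IsIrrCharacter N ζ)
    (hnot : ζ ∉ relSet K) : ζ 1 = 1 := by
  have hconst : ∀ g n : N, n ∈ K → ζ (g * n) = ζ g := fun g n hn =>
    apply_mul_of_apply_eq_one (isCharacter_of_isIrrCharacter hζ)
      (apply_eq_of_not_mem_relSet hζ hnot hn) g
  obtain ⟨ψ, hψ, rfl⟩ := exists_eq_inflate hζ K hconst
  rw [inflate_apply]
  have h1 : ((1 : N) : N ⧸ K) = 1 := rfl
  rw [h1]
  apply apply_one_eq_one_of_comm _ hψ
  intro x y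
  obtain ⟨x, rfl⟩ := QuotientGroup.mk_surjective x
  obtain ⟨y, rfl⟩ := QuotientGroup.mk_surjective y
  rw [← QuotientGroup.mk_mul, ← QuotientGroup.mk_mul, QuotientGroup.eq]
  have h2 : (x * y)⁻¹ * (y * x) = y⁻¹ * x⁻¹ * y⁻¹⁻¹ * x⁻¹⁻¹ := by group
  rw [h2]
  exact hcomm _ _

section perm

variable {G Ω : Type*} [Group G] [Fintype G] [MulAction G Ω] [Fintype Ω]

/-- The permutation character of a doubly transitive action is the principal character plus an
irreducible character. -/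
theorem exists_theta (h2t : MulAction.IsMultiplyPretransitive G Ω 2) (hcard : 2 ≤ Fintype.card Ω)
    (a : Ω) (L : Subgroup G) (hL : L = MulAction.stabilizer G a) :
    ∃ θ : IrrCharacter G, indFun L (fun _ => (1 : ℂ)) = (fun _ => (1 : ℂ)) + (θ : G → ℂ) := by
  subst hL
  haveI : MulAction.IsPretransitive G Ω := MulAction.isPretransitive_of_is_two_pretransitive
  have hX : 2 ≤ Nat.card Ω := by rw [Nat.card_eq_fintype_card]; exact hcard
  have hirr := (Cfsg.Agent.Lib.helper3.PermChar.isIrrCharacter_permChar_sub_one_iff Ω hX).2 h2t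
  refine ⟨⟨_, hirr⟩, ?_⟩
  rw [← Cfsg.Agent.Lib.helper3.PermChar.permChar_eq_indFun Ω a]
  funext g
  simp

/-- The permutation character at an element with a single fixed point. -/
theorem indFun_one_apply_of_unique (a : Ω) [MulAction.IsPretransitive G Ω]
    (L : Subgroup G) (hL : L = MulAction.stabilizer G a)
    (u : G) (hua : u • a = a) (hu : ∀ c : Ω, u • c = c → c = a) :
    indFun L (fun _ => (1 : ℂ)) u = 1 := by
  subst hL
  rw [← Cfsg.Agent.Lib.helper3.PermChar.permChar_eq_indFun Ω a]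
  simp only
  have : Nat.card (MulAction.fixedBy Ω u) = 1 := by
    rw [Nat.card_eq_one_iff_unique]
    refine ⟨⟨?_⟩, ⟨⟨a, hua⟩⟩⟩
    intro x y
    apply Subtype.ext
    rw [hu x.1 x.2, hu y.1 y.2]
  rw [this, Nat.cast_one]

end perm

section inst

variable {G Ω : Type*} [Group G] [Fintype G] [MulAction G Ω] [Fintype Ω]
  (hZ : Cfsg.IsZassenhausGroup G Ω) {a b : Ω} (hab : a ≠ b) [IsSimpleGroup G] (h e : ℕ)
  (hh : Fintype.card Ω = h + 1)
  (he : Nat.card ↥(MulAction.stabilizer G a ⊓ MulAction.stabilizer G b : Subgroup G) = e)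
  (hodd : Odd e) (hlt : 2 * e < h - 1)
  (H : Subgroup G) (hHa : H ≤ MulAction.stabilizer G a) (hHcard : Nat.card H + 1 = Fintype.card Ω)
  (hHfix : ∀ u ∈ H, u ≠ 1 → ∀ c : Ω, u • c = c → c = a)

include hZ hab hh he hodd hlt hHa hHcard hHfix in
/-- The standing hypotheses hold. -/
theorem feit_of_zassenhaus [Fintype ↥(Nor H)] (star : (↥(Nor H) → ℂ) → (G → ℂ))
    (hstar : IsLinearIsometryOn (zspan (relSet (KN H))) star)
    (hext : ∀ α ∈ zspanOn (relSet (KN H)) ({1}ᶜ : Set ↥(Nor H)), star α = indFun (Nor H) α)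
    (htwo : ∃ χ ∈ relSet (KN H), ∃ ξ ∈ relSet (KN H), χ ≠ ξ) :
    ∃ θ : IrrCharacter G,
      Feit H star e h θ (MulAction.stabilizer G a ⊓ MulAction.stabilizer G b) := by
  classical
  obtain ⟨hTI0, hnor⟩ := Cfsg.Agent.S0878.result hZ a H hHa hHcard hHfix
  have hnor' : Nor H = MulAction.stabilizer G a := hnor
  have hmemN : ∀ x : G, x ∈ Nor H ↔ x ∈ MulAction.stabilizer G a := fun x => by rw [hnor']
  have h2t : MulAction.IsMultiplyPretransitive G Ω 2 := hZ.2.1
  haveI : MulAction.IsPretransitive G Ω := MulAction.isPretransitive_of_is_two_pretransitive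
  have hHc : Nat.card H = h := by omega
  have hcardN : Nat.card ↥(Nor H) = h * e := by
    rw [congrArg (fun S : Subgroup G => Nat.card ↥S) hnor']
    exact Cfsg.Agent.Lib.Helper5.Zass3.feit_card_stabilizer hZ hab h e hh he H hHa hHcard hHfix
  have hcardKN : Nat.card (KN H) = h := by
    rw [← hHc]
    exact Cfsg.Agent.Lib.helper3.IndFunTrans.card_subgroupOf_of_le Subgroup.le_normalizer
  have hhpos : 0 < h := by omega
  have hidx : (KN H).index = e := by
    have h1 := (KN H).card_mul_index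
    rw [hcardKN, hcardN] at h1
    exact Nat.eq_of_mul_eq_mul_left hhpos h1
  have hC : ∀ k ∈ H, k ≠ 1 → Subgroup.centralizer ({k} : Set G) ≤ H :=
    fun k hk hk1 => Cfsg.Agent.Lib.Helper5.Zass3.feit_centralizer_le hZ H hHa hHcard hHfix k hk hk1
  have hcomm : ∀ x y : ↥(Nor H), x * y * x⁻¹ * y⁻¹ ∈ KN H := by
    intro x y
    rw [Subgroup.mem_subgroupOf]
    exact Cfsg.Agent.Lib.Helper5.Zass3.feit_comm_mem_H hZ hab e H hHa hHcard hHfix he hodd
      (x : G) (y : G) ((hmemN _).1 x.2) ((hmemN _).1 y.2)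
  have hlin : ∀ ζ : IrrCharacter ↥(Nor H), (ζ : ↥(Nor H) → ℂ) ∉ relSet (KN H) →
      (ζ : ↥(Nor H) → ℂ) 1 = 1 :=
    fun ζ hζ => degree_one_of_quotient_comm (KN H) hcomm _ ζ.2 hζ
  obtain ⟨θ, hθ⟩ := exists_theta h2t (by omega) a (Nor H) hnor'
  have hfixpt : ∀ u ∈ H, u ≠ 1 → indFun (Nor H) (fun _ => (1 : ℂ)) u = 1 := by
    intro u hu hu1
    exact indFun_one_apply_of_unique a (Nor H) hnor' u
      (MulAction.mem_stabilizer_iff.1 (hHa hu)) (hHfix u hu hu1)
  have hodd' : Odd (Nat.card ↥(MulAction.stabilizer G a ⊓ MulAction.stabilizer G b :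
      Subgroup G)) := by rw [he]; exact hodd
  refine ⟨θ, ⟨⟨?_, hC, hstar, hext, htwo⟩, hidx, hHc, hlt, hlin, hθ, hfixpt, ?_, he, ?_, ?_⟩⟩
  · intro g hg k hk hgk
    exact hTI0 g (fun hg' => hg ((hmemN _).2 hg')) k hk hgk
  · intro ζ hζ hζ1
    have hHN : H ≤ Nor H := Subgroup.le_normalizer
    exact Cfsg.Agent.S0881.aux hZ hab (Nor H) hnor' hodd' H hHN hHcard hHfix
      (ζ : ↥(Nor H) → ℂ) ⟨isCharacter_of_isIrrCharacter ζ.2, hlin ζ hζ⟩
      (fun u hu => by
        rw [apply_eq_of_not_mem_relSet ζ.2 hζ (Subgroup.mem_subgroupOf.mpr hu), hlin ζ hζ]) hζ1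
  · intro x hx hxH
    obtain ⟨n, hn, hnx⟩ := Cfsg.Agent.Lib.Helper5.Zass3.feit_conj_into_E hZ hab H hHa hHcard hHfix
      x ((hmemN _).1 hx) hxH
    exact ⟨n, (hmemN _).2 hn, hnx⟩
  · exact Cfsg.Agent.S0884.result hZ hab h e hh he hodd hlt H hHa hHcard hHfix

end inst

end Cfsg.Agent.Lib.Helper7.FeitZ
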