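import Mathlib
import Cfsg.Prelude.Def_OddOrderChar
import Cfsg.Prelude.Def_LieExceptional
import Cfsg.Agent.Lib.Helper7.FeitZ10
import Cfsg.Agent.Lib.helper3.Feit10

set_option autoImplicit false
set_option linter.style.haveILetI false
set_option linter.unusedSectionVars false

/-!
# Feit's theorem on Zassenhaus groups, part 11: the simple case
-/

namespace Cfsg.Agent.Lib.Helper7.FeitZ

open Cfsg Module Cfsg.Agent.Lib.helper3.CharBasic Cfsg.Agent.Lib.helper3.IndFun
open Cfsg.Agent.Lib.helper3.Irr Cfsg.Agent.Lib.helper3.Coh Cfsg.Agent.Lib.helper3.Tifn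
open scoped ComplexConjugate commutatorElement

/-- The derived subgroup, inside the subgroup. -/
theorem commutator_subgroupOf_self {G : Type*} [Group G] (H : Subgroup G) :
    (⁅H, H⁆).subgroupOf H = commutator H := by
  rw [commutator_def]
  have h1 : ⁅H, H⁆ = Subgroup.map H.subtype ⁅(⊤ : Subgroup H), ⊤⁆ := by
    rw [Subgroup.map_commutator, ← MonoidHom.range_eq_map, Subgroup.range_subtype]
  rw [h1]
  unfold Subgroup.subgroupOf
  exact Subgroup.comap_map_eq_self_of_injective H.subtype_injective _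

section simple

variable {G Ω : Type*} [Group G] [Fintype G] [MulAction G Ω] [Fintype Ω]
  (hZ : Cfsg.IsZassenhausGroup G Ω) {a b : Ω} (hab : a ≠ b) [IsSimpleGroup G] (h e : ℕ)
  (hh : Fintype.card Ω = h + 1)
  (he : Nat.card ↥(MulAction.stabilizer G a ⊓ MulAction.stabilizer G b : Subgroup G) = e)
  (hodd : Odd e) (hlt : 2 * e < h - 1)
  (H : Subgroup G) (hHa : H ≤ MulAction.stabilizer G a) (hHcard : Nat.card H + 1 = Fintype.card Ω)
  (hHfix : ∀ u ∈ H, u ≠ 1 → ∀ c : Ω, u • c = c → c = a)

include hZ hab hh he hodd hlt hHa hHcard hHfix in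
/-- The coherent case is impossible. -/
theorem coherent_false [Fintype ↥(Nor H)]
    (hcoh : IsCoherent (relSet (KN H)) ({1}ᶜ : Set ↥(Nor H))
      (fun α => indFun (Nor H) α)) : False := by
  classical
  obtain ⟨-, star, hstar, hext⟩ := hcoh
  obtain ⟨-, hnor⟩ := Cfsg.Agent.S0878.result hZ a H hHa hHcard hHfix
  have hnor' : Nor H = MulAction.stabilizer G a := hnor
  have h2t : MulAction.IsMultiplyPretransitive G Ω 2 := hZ.2.1
  haveI : MulAction.IsPretransitive G Ω := MulAction.isPretransitive_of_is_two_pretransitive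
  have hHc : Nat.card H = h := by omega
  have hcardN : Nat.card ↥(Nor H) = h * e := by
    rw [congrArg (fun S : Subgroup G => Nat.card ↥S) hnor']
    exact Cfsg.Agent.Lib.Helper5.Zass3.feit_card_stabilizer hZ hab h e hh he H hHa hHcard hHfix
  have hcardKN : Nat.card (KN H) = h := by
    rw [← hHc]
    exact Cfsg.Agent.Lib.helper3.IndFunTrans.card_subgroupOf_of_le Subgroup.le_normalizer
  have hhpos : 0 < h := by omega
  have hidx : (KN H).index = e := by
    have h1 := (KN H).card_mul_index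
    rw [hcardKN, hcardN] at h1
    exact Nat.eq_of_mul_eq_mul_left hhpos h1
  have hC : ∀ k ∈ H, k ≠ 1 → Subgroup.centralizer ({k} : Set G) ≤ H :=
    fun k hk hk1 => Cfsg.Agent.Lib.Helper5.Zass3.feit_centralizer_le hZ H hHa hHcard hHfix k hk hk1
  have hCn := centralizer_le_subgroupOf H hC
  have hHL : H ≤ Nor H := Subgroup.le_normalizer
  have hnil : Group.IsNilpotent H :=
    Cfsg.Agent.Lib.Helper5.Zass3.feit_H_nilpotent hZ hab H hHa hHcard hHfix
  have hnilK : Group.IsNilpotent (KN H) := by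
    haveI := hnil
    exact Group.nilpotent_of_mulEquiv (Subgroup.subgroupOfEquivOfLe hHL).symm
  have hsolvK : Group.IsSolvable (KN H) := by
    haveI := hnilK
    infer_instance
  have hK1 : KN H ≠ ⊥ := by
    intro hbot
    have : Nat.card (KN H) = 1 := by rw [hbot]; exact Subgroup.card_bot
    omega
  -- two relevant characters
  have htwo : ∃ χ ∈ relSet (KN H), ∃ ξ ∈ relSet (KN H), χ ≠ ξ := by
    by_contra hnot
    obtain ⟨-, h2⟩ := Cfsg.Agent.Lib.helper3.Feit.card_of_not_two (KN H) hCn hsolvK hK1 hnot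
    rw [hcardKN, hidx] at h2
    omega
  obtain ⟨θ, f⟩ := feit_of_zassenhaus hZ hab h e hh he hodd hlt H hHa hHcard hHfix star hstar
    hext htwo
  obtain ⟨ξ₀, hξ₀, hξ₀1⟩ :=
    Cfsg.Agent.Lib.helper3.FP.exists_relSet_degree_index (KN H) hCn hsolvK hK1
  rw [hidx] at hξ₀1
  obtain ⟨χ, hχ⟩ := f.exists_restrict_eq hξ₀
  -- the index
  have hindex : (Nor H).index = h + 1 := by
    rw [congrArg (fun S : Subgroup G => S.index) hnor',
      MulAction.index_stabilizer_of_transitive G a, Nat.card_eq_fintype_card, hh]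
  -- the two-point stabilizer is nontrivial
  have he2 : 1 < e := by
    obtain ⟨g, hg1, hga, hgb⟩ :=
      Cfsg.Agent.Lib.Helper5.Zass.exists_fix2 (Cfsg.Agent.Lib.Helper5.Zass.hyp_of_zassenhaus hZ)
        a b hab
    rw [← he, Finite.one_lt_card_iff_nontrivial]
    exact ⟨⟨⟨g, ⟨hga, hgb⟩⟩, 1, fun h' => hg1 (congrArg Subtype.val h')⟩⟩
  exact f.punchline hindex he2 hξ₀ hξ₀1 χ hχ

include hZ hab hh he hodd hlt hHa hHcard hHfix in
/-- **Feit's theorem** for simple Zassenhaus groups: if the two-point stabilizer has odd order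
`e` with `2 * e < h - 1`, then the Frobenius kernel is a nonabelian 2-group whose derived subgroup
has index less than `4 * e ^ 2`. -/
theorem feit_simple_fintype :
    IsPGroup 2 H ∧ (∃ u v : H, u * v ≠ v * u) ∧ (commutator H).index ≤ 4 * e ^ 2 + 1 := by
  classical
  letI : Fintype ↥(Nor H) := Fintype.ofFinite _
  obtain ⟨hTI0, hnor⟩ := Cfsg.Agent.S0878.result hZ a H hHa hHcard hHfix
  have hnor' : Nor H = MulAction.stabilizer G a := hnor
  have hHc : Nat.card H = h := by omega
  have hcardN : Nat.card ↥(Nor H) = h * e := by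
    rw [congrArg (fun S : Subgroup G => Nat.card ↥S) hnor']
    exact Cfsg.Agent.Lib.Helper5.Zass3.feit_card_stabilizer hZ hab h e hh he H hHa hHcard hHfix
  have hcardKN : Nat.card (KN H) = h := by
    rw [← hHc]
    exact Cfsg.Agent.Lib.helper3.IndFunTrans.card_subgroupOf_of_le Subgroup.le_normalizer
  have hhpos : 0 < h := by omega
  have hidx : (KN H).index = e := by
    have h1 := (KN H).card_mul_index
    rw [hcardKN, hcardN] at h1
    exact Nat.eq_of_mul_eq_mul_left hhpos h1
  have hC : ∀ k ∈ H, k ≠ 1 → Subgroup.centralizer ({k} : Set G) ≤ H :=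
    fun k hk hk1 => Cfsg.Agent.Lib.Helper5.Zass3.feit_centralizer_le hZ H hHa hHcard hHfix k hk hk1
  have hnil : Group.IsNilpotent H :=
    Cfsg.Agent.Lib.Helper5.Zass3.feit_H_nilpotent hZ hab H hHa hHcard hHfix
  have hH1 : H ≠ ⊥ := by
    intro hbot
    have : Nat.card H = 1 := by rw [hbot]; exact Subgroup.card_bot
    omega
  have hTI : IsTISubset (H : Set G) := by
    intro g hg x hx hgx
    apply hTI0 g _ x hx hgx
    intro hg'
    apply hg
    rw [hnor]
    exact hg'
  have he2 : 1 < e := by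
    obtain ⟨g, hg1, hga, hgb⟩ :=
      Cfsg.Agent.Lib.Helper5.Zass.exists_fix2 (Cfsg.Agent.Lib.Helper5.Zass.hyp_of_zassenhaus hZ)
        a b hab
    rw [← he, Finite.one_lt_card_iff_nontrivial]
    exact ⟨⟨⟨g, ⟨hga, hgb⟩⟩, 1, fun h' => hg1 (congrArg Subtype.val h')⟩⟩
  have hltN : H < Nor H := by
    refine lt_of_le_of_ne Subgroup.le_normalizer ?_
    intro heq
    have h1 : Nat.card H = Nat.card ↥(Nor H) := congrArg (fun S : Subgroup G => Nat.card ↥S) heq
    rw [hHc, hcardN] at h1
    have : h * 1 < h * e := Nat.mul_lt_mul_of_pos_left he2 hhpos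
    omega
  rcases Cfsg.Agent.Lib.helper3.Feit.tifn_trichotomy H hnil hH1 hTI hC with h1 | h1 | h1
  · exfalso
    obtain ⟨-, h2, -, -⟩ := h1
    have h3 : (H.subgroupOf (Subgroup.normalizer (H : Set G))).index = e := hidx
    rw [h3, hHc] at h2
    omega
  · exfalso
    exact coherent_false hZ hab h e hh he hodd hlt H hHa hHcard hHfix h1
  · obtain ⟨hna, -⟩ := h1
    rcases Cfsg.Agent.Lib.helper3.Feit.feit_sibley H hH1 hnil hTI hltN hC with h2 | h2 | h2
    · exfalso
      obtain ⟨-, h2, -⟩ := h2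
      have h3 : (H.subgroupOf (Subgroup.normalizer (H : Set G))).index = e := hidx
      rw [h3, hHc] at h2
      omega
    · obtain ⟨hc2, hi2⟩ := h2
      have h3 : (H.subgroupOf (Subgroup.normalizer (H : Set G))).index = e := hidx
      rw [h3, commutator_subgroupOf_self] at hi2
      refine ⟨IsPGroup.of_card hc2, ?_, by omega⟩
      by_contra hcon
      push Not at hcon
      apply hna
      intro x hx y hy
      exact congrArg Subtype.val (hcon ⟨x, hx⟩ ⟨y, hy⟩)
    · exfalso
      exact coherent_false hZ hab h e hh he hodd hlt H hHa hHcard hHfix h2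

end simple

/-- **Feit's theorem** for simple Zassenhaus groups. -/
theorem feit_simple {G Ω : Type*} [Group G] [Finite G] [MulAction G Ω] [Fintype Ω]
    (hZ : Cfsg.IsZassenhausGroup G Ω) (hs : IsSimpleGroup G) (a b : Ω) (hab : a ≠ b) (h e : ℕ)
    (hh : Fintype.card Ω = h + 1)
    (he : Nat.card ↥(MulAction.stabilizer G a ⊓ MulAction.stabilizer G b : Subgroup G) = e)
    (hodd : Odd e) (hlt : 2 * e < h - 1)
    (H : Subgroup G) (hHa : H ≤ MulAction.stabilizer G a)
    (hHcard : Nat.card H + 1 = Fintype.card Ω)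
    (hHfix : ∀ u ∈ H, u ≠ 1 → ∀ c : Ω, u • c = c → c = a) :
    IsPGroup 2 H ∧ (∃ u v : H, u * v ≠ v * u) ∧ (commutator H).index ≤ 4 * e ^ 2 + 1 := by
  letI : Fintype G := Fintype.ofFinite G
  haveI := hs
  exact feit_simple_fintype hZ hab h e hh he hodd hlt H hHa hHcard hHfix

end Cfsg.Agent.Lib.Helper7.FeitZ
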