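import Mathlib
import Cfsg.Prelude.Def_Characters
import Cfsg.Prelude.Def_Blocks
import Cfsg.Agent.Lib.helper3.RealOddI2
import Cfsg.Agent.Lib.helper3.Irr15
import Cfsg.Agent.Lib.helper3.FullyRam
import Cfsg.Agent.Lib.helper3.Clifford

set_option autoImplicit false
set_option linter.style.haveILetI false
set_option linter.unusedSectionVars false

/-! S4581 P1-(B3), (B4) (helper7). -/

namespace Cfsg.Agent.Lib.Helper7.RealOddB

open Cfsg Cfsg.Agent.Lib.helper3.Irr Cfsg.Agent.Lib.helper3.CharBasic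
open Cfsg.Agent.Lib.helper3.IndFun
open scoped ComplexConjugate

universe u

variable {G : Type u} [Group G] [Fintype G]

/-- (B4) = L3 first half: over an invariant linear character. -/
theorem over_invariant_linear_iff (Q : Subgroup G) [hQ : Q.Normal] [Fintype Q]
    (μ : IrrCharacter Q) (hμ1 : (μ : Q → ℂ) 1 = 1)
    (hinv : ∀ g : G, conjFun Q (μ : Q → ℂ) g = (μ : Q → ℂ)) (ψ : IrrCharacter G) :
    classInner (fun q : Q => (ψ : G → ℂ) q) (μ : Q → ℂ) ≠ 0 ↔
      ∀ q : Q, (ψ : G → ℂ) q = (ψ : G → ℂ) 1 * (μ : Q → ℂ) q := by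
  constructor
  · intro hcon
    have hres := restrict_eq_smul_of_invariant Q (ψ : G → ℂ) ψ.2 (μ : Q → ℂ) μ.2 hcon
      (fun g n => congrFun (hinv g) n)
    have h1 := congrFun hres 1
    simp only [Pi.smul_apply, smul_eq_mul, hμ1, mul_one, Subgroup.coe_one] at h1
    intro q
    have h2 := congrFun hres q
    simp only [Pi.smul_apply, smul_eq_mul] at h2
    rw [h2, h1]
  · intro h
    have h1 : (fun q : Q => (ψ : G → ℂ) q) = (ψ : G → ℂ) 1 • (μ : Q → ℂ) := by
      funext q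
      simp only [Pi.smul_apply, smul_eq_mul]
      exact h q
    rw [h1, classInner_smul_left, irr_classInner_self μ.2, mul_one]
    exact apply_one_ne_zero ψ.2


/-- (B3): value at a central element. -/
theorem apply_central_of_over (Q : Subgroup G) [hQ : Q.Normal] [Fintype Q]
    (χ : IrrCharacter G) (μ : IrrCharacter Q) (hμ1 : (μ : Q → ℂ) 1 = 1)
    (h : classInner (fun q : Q => (χ : G → ℂ) q) (μ : Q → ℂ) ≠ 0)
    (z : Q) (hz : (z : G) ∈ Subgroup.center G) :
    (χ : G → ℂ) z = (μ : Q → ℂ) z * (χ : G → ℂ) 1 := by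
  classical
  have hcl := clifford Q (χ : G → ℂ) χ.2 (μ : Q → ℂ) μ.2 h
  rw [setOf_conj_eq, finsum_mem_coe_finset] at hcl
  have h1 := congrFun hcl 1
  have hzz := congrFun hcl z
  rw [Pi.smul_apply, Finset.sum_apply] at h1 hzz
  have e1 : ∀ ψ ∈ Finset.univ.image (conjFun Q (μ : Q → ℂ)), ψ 1 = 1 := by
    intro ψ hψ
    obtain ⟨g, -, rfl⟩ := Finset.mem_image.mp hψ
    unfold conjFun
    rw [← hμ1]
    exact congrArg (μ : Q → ℂ) (Subtype.ext (by simp))
  have ez : ∀ ψ ∈ Finset.univ.image (conjFun Q (μ : Q → ℂ)), ψ z = (μ : Q → ℂ) z := by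
    intro ψ hψ
    obtain ⟨g, -, rfl⟩ := Finset.mem_image.mp hψ
    unfold conjFun
    refine congrArg (μ : Q → ℂ) (Subtype.ext ?_)
    change g * (z : G) * g⁻¹ = z
    rw [(Subgroup.mem_center_iff.mp hz) g, mul_inv_cancel_right]
  rw [Finset.sum_congr rfl e1, Finset.sum_const, smul_eq_mul, nsmul_eq_mul, mul_one] at h1
  rw [Finset.sum_congr rfl ez, Finset.sum_const, smul_eq_mul, nsmul_eq_mul] at hzz
  have h1' : (χ : G → ℂ) 1 = classInner (fun q : Q => (χ : G → ℂ) q) (μ : Q → ℂ) *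
      ((Finset.univ.image (conjFun Q (μ : Q → ℂ))).card : ℂ) := h1
  rw [hzz, h1']
  ring

end Cfsg.Agent.Lib.Helper7.RealOddB
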