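import Mathlib

/-!
# Rank one unipotent matrices and a subgroup of `SL_n` (helper7)

`tv v φ = 1 + v φᵀ`; for a subgroup `H` of `SL_n(F)` the additive group `Phi H v` of all row
vectors `φ` with `φ ⬝ᵥ v = 0` and `1 + v φᵀ ∈ H`, and its calculus (conjugation, commutators).
-/

set_option autoImplicit false

namespace Cfsg.Agent.Lib.Helper7.RegUnip

open Matrix

variable {n : ℕ} {F : Type*} [Field F]

/-- the rank one perturbation `1 + v φᵀ` of the identity -/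
def tv (v φ : Fin n → F) : Matrix (Fin n) (Fin n) F := 1 + vecMulVec v φ

theorem tv_zero_right (v : Fin n → F) : tv v (0 : Fin n → F) = 1 := by
  unfold tv
  rw [vecMulVec_zero, add_zero]

theorem tv_mul_tv (v φ v' φ' : Fin n → F) :
    tv v φ * tv v' φ' =
      1 + vecMulVec v φ + vecMulVec v' φ' + (φ ⬝ᵥ v') • vecMulVec v φ' := by
  unfold tv
  rw [Matrix.add_mul, Matrix.mul_add, Matrix.mul_add, Matrix.one_mul, Matrix.one_mul,
    Matrix.mul_one, vecMulVec_mul_vecMulVec, vecMulVec_smul]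
  abel

theorem tv_smul_left (c : F) (v φ : Fin n → F) : tv (c • v) φ = tv v (c • φ) := by
  unfold tv
  rw [smul_vecMulVec, vecMulVec_smul]

theorem mul_tv_mul (M M' : Matrix (Fin n) (Fin n) F) (h : M * M' = 1) (v φ : Fin n → F) :
    M * tv v φ * M' = tv (M *ᵥ v) (φ ᵥ* M') := by
  unfold tv
  rw [Matrix.mul_add, Matrix.add_mul, Matrix.mul_one, h, mul_vecMulVec, vecMulVec_mul]

theorem tv_mulVec (v φ w : Fin n → F) : tv v φ *ᵥ w = w + (φ ⬝ᵥ w) • v := by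
  unfold tv
  rw [Matrix.add_mulVec, Matrix.one_mulVec, vecMulVec_mulVec, op_smul_eq_smul]

theorem vecMul_tv (v φ w : Fin n → F) : w ᵥ* tv v φ = w + (w ⬝ᵥ v) • φ := by
  unfold tv
  rw [Matrix.vecMul_add, Matrix.vecMul_one, vecMul_vecMulVec]


local notation "SLn" => Matrix.SpecialLinearGroup (Fin n) F

/-- a matrix is (the matrix of) an element of `H` -/
def InH (H : Subgroup SLn) (M : Matrix (Fin n) (Fin n) F) : Prop :=
  ∃ h ∈ H, (h : Matrix (Fin n) (Fin n) F) = M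

theorem InH.of_mem {H : Subgroup SLn} {g : SLn} (hg : g ∈ H) : InH H g.1 := ⟨g, hg, rfl⟩

theorem InH.one (H : Subgroup SLn) : InH H (1 : Matrix (Fin n) (Fin n) F) :=
  ⟨1, H.one_mem, rfl⟩

theorem InH.mul {H : Subgroup SLn} {M N : Matrix (Fin n) (Fin n) F} (hM : InH H M)
    (hN : InH H N) : InH H (M * N) := by
  obtain ⟨g, hg, rfl⟩ := hM
  obtain ⟨k, hk, rfl⟩ := hN
  exact ⟨g * k, H.mul_mem hg hk, rfl⟩

theorem InH.of_mul_eq_one {H : Subgroup SLn} {M N : Matrix (Fin n) (Fin n) F} (hM : InH H M)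
    (h : M * N = 1) : InH H N := by
  obtain ⟨g, hg, rfl⟩ := hM
  refine ⟨g⁻¹, H.inv_mem hg, ?_⟩
  have h1 : ((g⁻¹ : SLn) : Matrix (Fin n) (Fin n) F) * (g : Matrix (Fin n) (Fin n) F) = 1 := by
    rw [← Matrix.SpecialLinearGroup.coe_mul, inv_mul_cancel, Matrix.SpecialLinearGroup.coe_one]
  calc ((g⁻¹ : SLn) : Matrix (Fin n) (Fin n) F)
      = ((g⁻¹ : SLn) : Matrix (Fin n) (Fin n) F) * ((g : Matrix (Fin n) (Fin n) F) * N) := by
        rw [h, Matrix.mul_one]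
    _ = N := by rw [← Matrix.mul_assoc, h1, Matrix.one_mul]

theorem InH.mem {H : Subgroup SLn} {g : SLn} (h : InH H g.1) : g ∈ H := by
  obtain ⟨k, hk, hkg⟩ := h
  have : k = g := Subtype.ext hkg
  rwa [← this]

/-- the row vectors `φ` with `φ ⬝ᵥ v = 0` and `1 + v φᵀ ∈ H` -/
def Phi (H : Subgroup SLn) (v : Fin n → F) : AddSubgroup (Fin n → F) where
  carrier := {φ | φ ⬝ᵥ v = 0 ∧ InH H (tv v φ)}
  zero_mem' := by
    refine ⟨zero_dotProduct v, ?_⟩
    rw [tv_zero_right]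
    exact InH.one H
  add_mem' := by
    rintro φ ψ ⟨h1, h2⟩ ⟨h3, h4⟩
    refine ⟨by rw [add_dotProduct, h1, h3, add_zero], ?_⟩
    have := h2.mul h4
    rw [tv_mul_tv, h1, zero_smul, add_zero] at this
    unfold tv
    rw [vecMulVec_add, ← add_assoc]
    exact this
  neg_mem' := by
    rintro φ ⟨h1, h2⟩
    refine ⟨by rw [neg_dotProduct, h1, neg_zero], ?_⟩
    apply h2.of_mul_eq_one
    rw [tv_mul_tv, h1, zero_smul, add_zero, vecMulVec_neg]
    abel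

theorem mem_Phi {H : Subgroup SLn} {v φ : Fin n → F} :
    φ ∈ Phi H v ↔ φ ⬝ᵥ v = 0 ∧ InH H (tv v φ) := Iff.rfl

/-- conjugation by an element of `H` -/
theorem Phi_conj {H : Subgroup SLn} {g : SLn} (hg : g ∈ H) {v φ : Fin n → F}
    (h : φ ᵥ* g.1 ∈ Phi H v) : φ ∈ Phi H (g.1 *ᵥ v) := by
  obtain ⟨h1, h2⟩ := h
  have hgg : (g : Matrix (Fin n) (Fin n) F) * ((g⁻¹ : SLn) : Matrix (Fin n) (Fin n) F) = 1 := by
    rw [← Matrix.SpecialLinearGroup.coe_mul, mul_inv_cancel, Matrix.SpecialLinearGroup.coe_one]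
  refine ⟨by rw [dotProduct_mulVec]; exact h1, ?_⟩
  have := ((InH.of_mem hg).mul h2).mul (InH.of_mem (H.inv_mem hg))
  rw [mul_tv_mul _ _ hgg, vecMul_vecMul, hgg, vecMul_one] at this
  exact this

theorem Phi_conj_iff {H : Subgroup SLn} {g : SLn} (hg : g ∈ H) {v φ : Fin n → F} :
    φ ∈ Phi H (g.1 *ᵥ v) ↔ φ ᵥ* g.1 ∈ Phi H v := by
  constructor
  · intro h
    have hgg : ((g⁻¹ : SLn) : Matrix (Fin n) (Fin n) F) * (g : Matrix (Fin n) (Fin n) F) = 1 := by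
      rw [← Matrix.SpecialLinearGroup.coe_mul, inv_mul_cancel, Matrix.SpecialLinearGroup.coe_one]
    have hgg' : (g : Matrix (Fin n) (Fin n) F) * ((g⁻¹ : SLn) : Matrix (Fin n) (Fin n) F) = 1 := by
      rw [← Matrix.SpecialLinearGroup.coe_mul, mul_inv_cancel, Matrix.SpecialLinearGroup.coe_one]
    have h' : (φ ᵥ* g.1) ᵥ* (g⁻¹ : SLn).1 ∈ Phi H (g.1 *ᵥ v) := by
      rw [vecMul_vecMul, hgg', vecMul_one]
      exact h
    have := Phi_conj (H.inv_mem hg) h'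
    rwa [mulVec_mulVec, hgg, one_mulVec] at this
  · exact Phi_conj hg

theorem Phi_smul {H : Subgroup SLn} {v φ : Fin n → F} (c : F) :
    φ ∈ Phi H (c • v) ↔ c • φ ∈ Phi H v := by
  rw [mem_Phi, mem_Phi, tv_smul_left, dotProduct_smul, smul_dotProduct]

/-- the commutator of two rank one elements -/
theorem Phi_comm {H : Subgroup SLn} {v φ v' φ' : Fin n → F} (hφ : φ ∈ Phi H v)
    (hφ' : φ' ∈ Phi H v') (h : φ ⬝ᵥ v' = 0) : (φ' ⬝ᵥ v) • φ ∈ Phi H v' := by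
  obtain ⟨h1, h2⟩ := hφ
  obtain ⟨h3, h4⟩ := hφ'
  refine ⟨by rw [smul_dotProduct, h, smul_zero], ?_⟩
  have hn1 : tv v' φ' * tv v' (-φ') = 1 := by
    rw [tv_mul_tv, h3, zero_smul, add_zero, vecMulVec_neg]
    abel
  have h5 : InH H (tv v' (-φ')) := h4.of_mul_eq_one hn1
  have h6 : InH H (tv v (-φ)) := (Phi H v).neg_mem ⟨h1, h2⟩ |>.2
  have key : tv v' φ' * tv v φ * tv v' (-φ') * tv v (-φ) = tv v' ((φ' ⬝ᵥ v) • φ) := by
    rw [mul_tv_mul _ _ hn1, tv_mulVec, vecMul_tv, h, zero_smul, add_zero, tv_mul_tv, h1,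
      zero_smul, add_zero, vecMulVec_neg]
    unfold tv
    rw [add_vecMulVec, smul_vecMulVec, vecMulVec_smul]
    abel
  rw [← key]
  exact ((h4.mul h2).mul h5).mul h6

/-- splitting a sum of centres -/
theorem Phi_split {H : Subgroup SLn} {v w φ : Fin n → F} (h1 : φ ∈ Phi H (v + w))
    (h2 : φ ∈ Phi H v) : φ ∈ Phi H w := by
  obtain ⟨h3, h4⟩ := h1
  obtain ⟨h5, h6⟩ := h2
  have hw : φ ⬝ᵥ w = 0 := by
    rw [dotProduct_add, h5, zero_add] at h3
    exact h3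
  refine ⟨hw, ?_⟩
  have h7 : InH H (tv v (-φ)) := ((Phi H v).neg_mem ⟨h5, h6⟩).2
  have key : tv (v + w) φ * tv v (-φ) = tv w φ := by
    rw [tv_mul_tv, h5, zero_smul, add_zero, vecMulVec_neg]
    unfold tv
    rw [add_vecMulVec]
    abel
  rw [← key]
  exact h4.mul h7

end Cfsg.Agent.Lib.Helper7.RegUnip
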