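import Mathlib
import Cfsg.Agent.Lib.Helper7.RegUnipA

/-!
# The Jordan block, a lower triangular regular unipotent matrix, and basis vectors (helper7)
-/

set_option autoImplicit false

namespace Cfsg.Agent.Lib.Helper7.RegUnip

open Matrix

variable {n : ℕ} {F : Type*} [Field F]

/-- basis vector with an index in `ℕ` (zero when the index is out of range) -/
def ev (k : ℕ) : Fin n → F := fun j => if j.val = k then 1 else 0

theorem ev_apply (k : ℕ) (j : Fin n) : (ev k : Fin n → F) j = if j.val = k then 1 else 0 := rfl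

theorem ev_eq_single (k : ℕ) (hk : k < n) : (ev k : Fin n → F) = Pi.single ⟨k, hk⟩ 1 := by
  ext j
  rw [ev_apply, Pi.single_apply]
  congr 1
  rw [Fin.ext_iff]

theorem ev_eq_zero (k : ℕ) (hk : n ≤ k) : (ev k : Fin n → F) = 0 := by
  ext j
  rw [ev_apply, if_neg (by have := j.isLt; omega)]
  rfl

theorem dot_ev (φ : Fin n → F) (k : ℕ) (hk : k < n) : φ ⬝ᵥ ev k = φ ⟨k, hk⟩ := by
  rw [ev_eq_single k hk, dotProduct_single, mul_one]

theorem ev_dot (φ : Fin n → F) (k : ℕ) (hk : k < n) : ev k ⬝ᵥ φ = φ ⟨k, hk⟩ := by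
  rw [ev_eq_single k hk, single_dotProduct, one_mul]

theorem ev_dot_ev_ne {k l : ℕ} (h : k ≠ l) : (ev k : Fin n → F) ⬝ᵥ ev l = 0 := by
  by_cases hl : l < n
  · rw [dot_ev _ l hl, ev_apply, if_neg (fun h' => h h'.symm)]
  · rw [ev_eq_zero l (by omega), dotProduct_zero]

theorem ev_dot_ev_self {k : ℕ} (hk : k < n) : (ev k : Fin n → F) ⬝ᵥ ev k = 1 := by
  rw [dot_ev _ k hk, ev_apply, if_pos rfl]

/-- the upper triangular Jordan block -/
def Jm : Matrix (Fin n) (Fin n) F :=
  Matrix.of fun i j => if i = j then 1 else if j.val = i.val + 1 then 1 else 0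

/-- the lower triangular matrix with subdiagonal entries `c 0, c 1, …` -/
def Lm (c : ℕ → F) : Matrix (Fin n) (Fin n) F :=
  Matrix.of fun i j => if i = j then 1 else if i.val = j.val + 1 then c j.val else 0

theorem vecMul_ev (M : Matrix (Fin n) (Fin n) F) (k : ℕ) (hk : k < n) :
    ev k ᵥ* M = M.row ⟨k, hk⟩ := by
  rw [ev_eq_single k hk, single_one_vecMul]

theorem mulVec_ev (M : Matrix (Fin n) (Fin n) F) (k : ℕ) (hk : k < n) :
    M *ᵥ ev k = M.col ⟨k, hk⟩ := by
  rw [ev_eq_single k hk, mulVec_single_one]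

theorem ev_vecMul_Jm (k : ℕ) : (ev k : Fin n → F) ᵥ* Jm = ev k + ev (k + 1) := by
  by_cases hk : k < n
  · rw [vecMul_ev _ k hk]
    ext j
    simp only [Matrix.row_apply, Jm, Matrix.of_apply, Pi.add_apply, ev_apply, Fin.ext_iff]
    by_cases h1 : k = j.val
    · rw [if_pos h1, if_pos h1.symm, if_neg (by omega), add_zero]
    · have h1' : ¬ j.val = k := fun h => h1 h.symm
      rw [if_neg h1, if_neg h1', zero_add]
  · rw [ev_eq_zero k (by omega), ev_eq_zero (k + 1) (by omega), zero_vecMul, add_zero]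

theorem Jm_mulVec_ev_zero : (Jm : Matrix (Fin n) (Fin n) F) *ᵥ ev 0 = ev 0 := by
  by_cases hk : 0 < n
  · rw [mulVec_ev _ 0 hk]
    ext i
    simp only [Matrix.col_apply, Jm, Matrix.of_apply, ev_apply, Fin.ext_iff]
    by_cases h1 : i.val = 0
    · rw [if_pos h1, if_pos h1]
    · rw [if_neg h1, if_neg h1, if_neg (by omega)]
  · rw [ev_eq_zero 0 (by omega), mulVec_zero]

theorem Jm_mulVec_ev_succ (k : ℕ) (hk : k + 1 < n) :
    (Jm : Matrix (Fin n) (Fin n) F) *ᵥ ev (k + 1) = ev (k + 1) + ev k := by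
  rw [mulVec_ev _ (k + 1) hk]
  ext i
  simp only [Matrix.col_apply, Jm, Matrix.of_apply, Pi.add_apply, ev_apply, Fin.ext_iff]
  by_cases h1 : i.val = k + 1
  · rw [if_pos h1, if_pos h1, if_neg (by omega), add_zero]
  · rw [if_neg h1, if_neg h1, zero_add]
    by_cases h2 : i.val = k
    · rw [if_pos (by omega), if_pos h2]
    · rw [if_neg (by omega), if_neg h2]

theorem Lm_mulVec_ev (c : ℕ → F) (i : ℕ) (hi : i < n) :
    (Lm c : Matrix (Fin n) (Fin n) F) *ᵥ ev i = ev i + c i • ev (i + 1) := by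
  rw [mulVec_ev _ i hi]
  ext k
  simp only [Matrix.col_apply, Lm, Matrix.of_apply, Pi.add_apply, Pi.smul_apply, ev_apply,
    Fin.ext_iff, smul_eq_mul]
  by_cases h1 : k.val = i
  · rw [if_pos h1, if_pos h1, if_neg (by omega), mul_zero, add_zero]
  · rw [if_neg h1, if_neg h1, zero_add]
    by_cases h2 : k.val = i + 1
    · rw [if_pos h2, if_pos h2, mul_one]
    · rw [if_neg h2, if_neg h2, mul_zero]

/-- the entries of the last row of the inverse of `Lm c` -/
def rho (n : ℕ) (c : ℕ → F) (j : ℕ) : F := ∏ k ∈ Finset.Ico j (n - 1), (-c k)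

theorem rho_last (c : ℕ → F) : rho n c (n - 1) = 1 := by
  unfold rho
  rw [Finset.Ico_self, Finset.prod_empty]

theorem rho_succ (c : ℕ → F) (j : ℕ) (hj : j + 1 < n) : rho n c j = -c j * rho n c (j + 1) := by
  unfold rho
  rw [Finset.prod_eq_prod_Ico_succ_bot (by omega)]

theorem rho_ne_zero (c : ℕ → F) (hc : ∀ i, c i ≠ 0) (j : ℕ) : rho n c j ≠ 0 := by
  unfold rho
  rw [Finset.prod_ne_zero_iff]
  intro k _
  exact neg_ne_zero.mpr (hc k)

/-- the last row of the inverse of `Lm c` -/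
def rhoV (c : ℕ → F) : Fin n → F := fun j => rho n c j.val

theorem rhoV_vecMul_Lm (c : ℕ → F) (hn : 1 ≤ n) :
    (rhoV c : Fin n → F) ᵥ* Lm c = ev (n - 1) := by
  ext j
  rw [ev_apply]
  simp only [vecMul, dotProduct, Lm, Matrix.of_apply, rhoV]
  by_cases hj : j.val + 1 < n
  · rw [Finset.sum_eq_add_of_mem j ⟨j.val + 1, hj⟩ (Finset.mem_univ _) (Finset.mem_univ _)
      (by rw [Ne, Fin.ext_iff]; simp)]
    · rw [if_pos rfl, if_neg (by rw [Fin.ext_iff]; simp), if_pos rfl, mul_one,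
        rho_succ c j.val hj, if_neg (by omega)]
      ring
    · intro k _ hk
      rw [if_neg (fun h => hk.1 h), if_neg (fun h => hk.2 (Fin.ext h)), mul_zero]
  · rw [Finset.sum_eq_single j]
    · rw [if_pos rfl, mul_one, if_pos (by omega)]
      have : j.val = n - 1 := by have := j.isLt; omega
      rw [this, rho_last]
    · intro k _ hk
      rw [if_neg hk, if_neg (by have := k.isLt; omega), mul_zero]
    · intro h
      exact absurd (Finset.mem_univ _) h

end Cfsg.Agent.Lib.Helper7.RegUnip
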