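import Mathlib
import Cfsg.Agent.Lib.Helper7.RegUnipB

/-!
# Generation of `SL_n(F)` by the Jordan block, a lower triangular conjugate and one transvection
(helper7): the upper triangular part
-/

set_option autoImplicit false

namespace Cfsg.Agent.Lib.Helper7.RegUnip

open Matrix

variable {n : ℕ} {F : Type*} [Field F]

local notation "SLn" => Matrix.SpecialLinearGroup (Fin n) F

theorem InH.of_mul_left {H : Subgroup SLn} {A B : Matrix (Fin n) (Fin n) F} (hA : InH H A)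
    (hAB : InH H (A * B)) : InH H B := by
  obtain ⟨g, hg, rfl⟩ := hA
  obtain ⟨k, hk, hk'⟩ := hAB
  refine ⟨g⁻¹ * k, H.mul_mem (H.inv_mem hg) hk, ?_⟩
  have h1 : ((g⁻¹ : SLn) : Matrix (Fin n) (Fin n) F) * (g : Matrix (Fin n) (Fin n) F) = 1 := by
    rw [← Matrix.SpecialLinearGroup.coe_mul, inv_mul_cancel, Matrix.SpecialLinearGroup.coe_one]
  rw [Matrix.SpecialLinearGroup.coe_mul, hk', ← Matrix.mul_assoc, h1, Matrix.one_mul]

/-- the Jordan block truncated after `m` superdiagonal entries -/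
def Mm (m : ℕ) : Matrix (Fin n) (Fin n) F :=
  Matrix.of fun i j => if i = j then 1 else if j.val = i.val + 1 ∧ i.val < m then 1 else 0

theorem Mm_succ (m : ℕ) (hm : m + 1 < n) :
    tv (ev m) (ev (m + 1)) * Mm m = (Mm (m + 1) : Matrix (Fin n) (Fin n) F) := by
  unfold tv
  rw [Matrix.add_mul, Matrix.one_mul, vecMulVec_mul, vecMul_ev _ (m + 1) hm]
  ext i j
  simp only [Matrix.add_apply, vecMulVec_apply, Matrix.row_apply, Mm, Matrix.of_apply, ev_apply,
    Fin.ext_iff]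
  by_cases h1 : i.val = m
  · by_cases h2 : j.val = m + 1
    · rw [if_neg (by omega), if_neg (by omega), if_pos h1, if_pos (by omega), if_neg (by omega),
        if_pos (by omega)]
      ring
    · rw [if_pos h1, if_neg (show ¬ (m + 1 = j.val) by omega),
        if_neg (show ¬ (j.val = m + 1 + 1 ∧ m + 1 < m) by omega), mul_zero, add_zero]
      by_cases h3 : i.val = j.val
      · rw [if_pos h3, if_pos h3]
      · rw [if_neg h3, if_neg h3, if_neg (by omega), if_neg (by omega)]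
  · rw [if_neg h1, zero_mul, add_zero]
    by_cases h3 : i.val = j.val
    · rw [if_pos h3, if_pos h3]
    · rw [if_neg h3, if_neg h3]
      by_cases h4 : j.val = i.val + 1 ∧ i.val < m
      · rw [if_pos h4, if_pos (by omega)]
      · rw [if_neg h4, if_neg (by omega)]

theorem Mm_top : (Mm (n - 1) : Matrix (Fin n) (Fin n) F) = Jm := by
  ext i j
  simp only [Mm, Jm, Matrix.of_apply]
  by_cases h3 : i = j
  · rw [if_pos h3, if_pos h3]
  · rw [if_neg h3, if_neg h3]
    by_cases h4 : j.val = i.val + 1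
    · rw [if_pos h4, if_pos ⟨h4, by have := j.isLt; omega⟩]
    · rw [if_neg h4, if_neg (fun h => h4 h.1)]

theorem Mm_one (hn : 2 ≤ n) : (Mm 1 : Matrix (Fin n) (Fin n) F) = tv (ev 0) (ev 1) := by
  have := Mm_succ (n := n) (F := F) 0 (by omega)
  rw [← this]
  have h0 : (Mm 0 : Matrix (Fin n) (Fin n) F) = 1 := by
    ext i j
    simp only [Mm, Matrix.of_apply, Matrix.one_apply]
    by_cases h3 : i = j
    · rw [if_pos h3, if_pos h3]
    · rw [if_neg h3, if_neg h3, if_neg (by omega)]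
  rw [h0, Matrix.mul_one]

theorem tv_ev_ev (i j : ℕ) (hi : i < n) (hj : j < n) (s : F) :
    tv (ev i) (s • ev j) = Matrix.transvection (⟨i, hi⟩ : Fin n) ⟨j, hj⟩ s := by
  unfold tv Matrix.transvection
  congr 1
  ext a b
  rw [vecMulVec_apply, Matrix.single_apply, Pi.smul_apply, ev_apply, ev_apply, smul_eq_mul]
  by_cases h1 : a.val = i
  · by_cases h2 : b.val = j
    · rw [if_pos h1, if_pos h2, if_pos ⟨Fin.ext h1.symm, Fin.ext h2.symm⟩]
      ring
    · have h3 : ¬ ((⟨i, hi⟩ : Fin n) = a ∧ (⟨j, hj⟩ : Fin n) = b) := fun h => h2 (by rw [← h.2])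
      rw [if_neg h2, if_neg h3]
      ring
  · have h3 : ¬ ((⟨i, hi⟩ : Fin n) = a ∧ (⟨j, hj⟩ : Fin n) = b) := fun h => h1 (by rw [← h.1])
    rw [if_neg h1, if_neg h3]
    ring

theorem sum_smul_ev (φ : Fin n → F) : φ = ∑ j : Fin n, φ j • (ev j.val : Fin n → F) := by
  ext k
  rw [Finset.sum_apply, Finset.sum_eq_single k]
  · rw [Pi.smul_apply, ev_apply, if_pos rfl, smul_eq_mul, mul_one]
  · intro j _ hj
    rw [Pi.smul_apply, ev_apply, if_neg (fun h => hj (Fin.ext h.symm)), smul_zero]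
  · intro h
    exact absurd (Finset.mem_univ _) h

theorem Phi_of_support {H : Subgroup SLn} {v φ : Fin n → F}
    (h : ∀ j : Fin n, φ j ≠ 0 → ∀ y : F, y • (ev j.val : Fin n → F) ∈ Phi H v) : φ ∈ Phi H v := by
  rw [sum_smul_ev φ]
  apply AddSubgroup.sum_mem
  intro j _
  by_cases hj : φ j = 0
  · rw [hj, zero_smul]
    exact (Phi H v).zero_mem
  · exact h j hj (φ j)

theorem smul_ev_mem_of_le {H : Subgroup SLn} (v : Fin n → F) (k : ℕ) (hk : n ≤ k) (y : F) :
    y • (ev k : Fin n → F) ∈ Phi H v := by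
  rw [ev_eq_zero k hk, smul_zero]
  exact (Phi H v).zero_mem

/-- shifting along the first row with the Jordan block -/
theorem step1 {H : Subgroup SLn} {J : SLn} (hJ : J ∈ H) (hJm : J.1 = Jm) (k : ℕ) (s : F)
    (h : s • (ev k : Fin n → F) ∈ Phi H (ev 0)) : s • (ev (k + 1) : Fin n → F) ∈ Phi H (ev 0) := by
  have h1 : (s • (ev k : Fin n → F)) ᵥ* J.1 ∈ Phi H (ev 0) := by
    apply (Phi_conj_iff hJ).mp
    rw [hJm, Jm_mulVec_ev_zero]
    exact h
  rw [hJm, smul_vecMul, ev_vecMul_Jm, smul_add] at h1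
  have := (Phi H (ev 0)).sub_mem h1 h
  rwa [add_sub_cancel_left] at this

/-- the main trick: conjugating by the lower triangular element -/
theorem rho_trick {H : Subgroup SLn} {L : SLn} (c : ℕ → F) (hL : L ∈ H) (hLm : L.1 = Lm c)
    (i : ℕ) (hi : i + 1 < n) (y : F) (hy : y * rho n c i = 1)
    (hlast : y • (ev (n - 1) : Fin n → F) ∈ Phi H (ev i)) (φ : Fin n → F)
    (hφ : φ ∈ Phi H (ev i)) (hφ1 : φ ⬝ᵥ ev (i + 1) = 0) : c i • φ ∈ Phi H (ev (i + 1)) := by
  have h1 : y • (rhoV c : Fin n → F) ∈ Phi H (L.1 *ᵥ ev i) := by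
    apply Phi_conj hL
    rw [hLm, smul_vecMul, rhoV_vecMul_Lm c (by omega)]
    exact hlast
  rw [hLm, Lm_mulVec_ev c i (by omega)] at h1
  have h2 := Phi_comm hφ h1
    (by rw [dotProduct_add, hφ.1, dotProduct_smul, hφ1, smul_zero, add_zero])
  have h3 : (y • (rhoV c : Fin n → F)) ⬝ᵥ ev i = 1 := by
    rw [smul_dotProduct, dot_ev _ i (by omega)]
    exact hy
  rw [h3, one_smul] at h2
  have h4 := Phi_split h2 hφ
  exact (Phi_smul (c i)).mp h4


/-- the hypotheses of the generation theorem -/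
structure Ctx (H : Subgroup SLn) (c : ℕ → F) (a : F) : Prop where
  hn : 3 ≤ n
  hc : ∀ i, c i ≠ 0
  hgen : ∀ y : F, y ≠ 0 → ∃ m : ℕ, y = c 0 ^ m
  ha : a * rho n c 0 = 1
  hJ : ∃ J ∈ H, (J : Matrix (Fin n) (Fin n) F) = Jm
  hL : ∃ L ∈ H, (L : Matrix (Fin n) (Fin n) F) = Lm c
  hx : a • (ev 2 : Fin n → F) ∈ Phi H (ev 0)

namespace Ctx

variable {H : Subgroup (Matrix.SpecialLinearGroup (Fin n) F)} {c : ℕ → F} {a : F}

theorem base0 (h : Ctx H c a) (k : ℕ) (hk : 2 ≤ k) :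
    a • (ev k : Fin n → F) ∈ Phi H (ev 0) := by
  obtain ⟨J, hJ, hJm⟩ := h.hJ
  induction k, hk using Nat.le_induction with
  | base => exact h.hx
  | succ k hk ih => exact step1 hJ hJm k a ih

theorem row1_of_row0 (h : Ctx H c a) (k : ℕ) (hk : 2 ≤ k) (s : F)
    (hs : s • (ev k : Fin n → F) ∈ Phi H (ev 0)) :
    (c 0 * s) • (ev k : Fin n → F) ∈ Phi H (ev 1) := by
  obtain ⟨L, hL, hLm⟩ := h.hL
  have hn := h.hn
  have := rho_trick c hL hLm 0 (by omega) a h.ha (h.base0 (n - 1) (by omega)) _ hs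
    (by rw [smul_dotProduct, ev_dot_ev_ne (by omega), smul_zero])
  rwa [smul_smul] at this

theorem row0_mul (h : Ctx H c a) (k : ℕ) (hk : 2 ≤ k) (s : F)
    (hs : s • (ev k : Fin n → F) ∈ Phi H (ev 0)) :
    (c 0 * s) • (ev k : Fin n → F) ∈ Phi H (ev 0) := by
  obtain ⟨J, hJ, hJm⟩ := h.hJ
  have hn := h.hn
  have h1 := h.row1_of_row0 k hk s hs
  have h2 := h.row1_of_row0 (k + 1) (by omega) s (step1 hJ hJm k s hs)
  have h3 : ((c 0 * s) • (ev k : Fin n → F)) ᵥ* J.1 ∈ Phi H (ev 1) := by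
    rw [hJm, smul_vecMul, ev_vecMul_Jm, smul_add]
    exact (Phi H (ev 1)).add_mem h1 h2
  have h4 := Phi_conj hJ h3
  have h5 : (Jm : Matrix (Fin n) (Fin n) F) *ᵥ ev 1 = ev 1 + ev 0 :=
    Jm_mulVec_ev_succ 0 (by omega)
  rw [hJm, h5] at h4
  exact Phi_split h4 h1

theorem a_ne_zero (h : Ctx H c a) : a ≠ 0 := by
  intro h0
  have := h.ha
  rw [h0, zero_mul] at this
  exact zero_ne_one this

theorem upper0 (h : Ctx H c a) (k : ℕ) (hk : 2 ≤ k) (y : F) :
    y • (ev k : Fin n → F) ∈ Phi H (ev 0) := by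
  have key : ∀ m : ℕ, (c 0 ^ m * a) • (ev k : Fin n → F) ∈ Phi H (ev 0) := by
    intro m
    induction m with
    | zero =>
      rw [pow_zero, one_mul]
      exact h.base0 k hk
    | succ m ih =>
      have := h.row0_mul k hk _ ih
      rwa [← mul_assoc, ← pow_succ'] at this
  by_cases hy : y = 0
  · rw [hy, zero_smul]
    exact (Phi H (ev 0)).zero_mem
  · obtain ⟨m, hm⟩ := h.hgen (y * a⁻¹) (mul_ne_zero hy (inv_ne_zero h.a_ne_zero))
    have : y = c 0 ^ m * a := by
      rw [← hm, mul_assoc, inv_mul_cancel₀ h.a_ne_zero, mul_one]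
    rw [this]
    exact key m

theorem upper1 (h : Ctx H c a) (k : ℕ) (hk : 2 ≤ k) (y : F) :
    y • (ev k : Fin n → F) ∈ Phi H (ev 1) := by
  have := h.row1_of_row0 k hk (y / c 0) (h.upper0 k hk _)
  rwa [mul_div_cancel₀ _ (h.hc 0)] at this

theorem upper (h : Ctx H c a) (i : ℕ) (hi : 1 ≤ i) :
    ∀ k : ℕ, i < k → ∀ y : F, y • (ev k : Fin n → F) ∈ Phi H (ev i) := by
  obtain ⟨L, hL, hLm⟩ := h.hL
  have hn := h.hn
  induction i, hi using Nat.le_induction with
  | base =>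
    intro k hk y
    exact h.upper1 k hk y
  | succ i hi ih =>
    intro k hk y
    by_cases hkn : n ≤ k
    · exact smul_ev_mem_of_le _ k hkn y
    · have hρ : (rho n c i)⁻¹ * rho n c i = 1 := inv_mul_cancel₀ (rho_ne_zero c h.hc i)
      have := rho_trick c hL hLm i (by omega) _ hρ (ih (n - 1) (by omega) _) _
        (ih k (by omega) (y / c i))
        (by rw [smul_dotProduct, ev_dot_ev_ne (by omega), smul_zero])
      rwa [smul_smul, mul_div_cancel₀ _ (h.hc i)] at this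

/-- all upper root elements except those in position `(0, 1)` -/
theorem upper' (h : Ctx H c a) (i k : ℕ) (hik : i < k) (hk : 2 ≤ k) (y : F) :
    y • (ev k : Fin n → F) ∈ Phi H (ev i) := by
  rcases Nat.eq_zero_or_pos i with rfl | hi
  · exact h.upper0 k hk y
  · exact h.upper i hi k hik y

end Ctx

end Cfsg.Agent.Lib.Helper7.RegUnip
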