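import Mathlib
import Cfsg.Agent.Lib.Helper7.RegUnipC
import Cfsg.Agent.Lib.Helper5.SLn

/-!
# Generation of `SL_n(F)` by the Jordan block, a lower triangular conjugate and one transvection
(helper7): the lower triangular part and the theorem `Ctx.eq_top`
-/

set_option autoImplicit false

namespace Cfsg.Agent.Lib.Helper7.RegUnip

open Matrix

variable {n : ℕ} {F : Type*} [Field F]

local notation "SLn" => Matrix.SpecialLinearGroup (Fin n) F

namespace Ctx

variable {H : Subgroup (Matrix.SpecialLinearGroup (Fin n) F)} {c : ℕ → F} {a : F}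

theorem inH_Mm (h : Ctx H c a) :
    ∀ d m : ℕ, m + d = n - 1 → 1 ≤ m → InH H (Mm m : Matrix (Fin n) (Fin n) F) := by
  obtain ⟨J, hJ, hJm⟩ := h.hJ
  have hn := h.hn
  intro d
  induction d with
  | zero =>
    intro m hm _
    rw [add_zero] at hm
    rw [hm, Mm_top, ← hJm]
    exact InH.of_mem hJ
  | succ d ih =>
    intro m hm h1
    have h2 := ih (m + 1) (by omega) (by omega)
    rw [← Mm_succ m (by omega)] at h2
    have h3 := h.upper m h1 (m + 1) (by omega) 1
    rw [one_smul] at h3
    exact InH.of_mul_left h3.2 h2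

/-- the root element in position `(0, 1)` with parameter `1` -/
theorem e01 (h : Ctx H c a) : (ev 1 : Fin n → F) ∈ Phi H (ev 0) := by
  have hn := h.hn
  refine ⟨ev_dot_ev_ne (by omega), ?_⟩
  rw [← Mm_one (by omega)]
  exact h.inH_Mm (n - 2) 1 (by omega) le_rfl

theorem ev_mem_row0 (h : Ctx H c a) (i : ℕ) (hi : 1 ≤ i) : (ev i : Fin n → F) ∈ Phi H (ev 0) := by
  rcases Nat.lt_or_ge i 2 with h2 | h2
  · have : i = 1 := by omega
    rw [this]
    exact h.e01
  · have := h.upper0 i h2 1
    rwa [one_smul] at this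

/-- conjugating the last row of `L⁻¹` into the next Borel subgroup -/
theorem theta_mem (h : Ctx H c a) (i : ℕ) (hi : i + 1 < n)
    (hup : ∀ y : F, y • (ev (i + 1) : Fin n → F) ∈ Phi H (ev i))
    (hlast : ∀ y : F, y • (ev (n - 1) : Fin n → F) ∈ Phi H (ev i)) (s : F) :
    s • (rhoV c + (rho n c i / c i) • ev (i + 1) : Fin n → F) ∈ Phi H (ev (i + 1)) := by
  obtain ⟨L, hL, hLm⟩ := h.hL
  have hci := h.hc i
  have hij : (⟨i, by omega⟩ : Fin n) ≠ ⟨i + 1, hi⟩ := by
    rw [Ne, Fin.ext_iff]
    simp
  obtain ⟨g, hgdef⟩ : ∃ g : SLn, g = Matrix.SpecialLinearGroup.transvection hij (-(c i)⁻¹) :=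
    ⟨_, rfl⟩
  have hg1 : g.1 = tv (ev i) ((-(c i)⁻¹) • ev (i + 1)) := by
    rw [hgdef, tv_ev_ev i (i + 1) (by omega) hi]
    rfl
  have hg : g ∈ H := InH.mem (by rw [hg1]; exact (hup _).2)
  have hi0 : (ev (i + 1) : Fin n → F) ⬝ᵥ ev i = 0 := ev_dot_ev_ne (by omega)
  have hψ : ((s / c i) • (rhoV c + (rho n c i / c i) • ev (i + 1) : Fin n → F)) ᵥ* g.1
      ∈ Phi H (L.1 *ᵥ ev i) := by
    have e : ((s / c i) • (rhoV c + (rho n c i / c i) • ev (i + 1) : Fin n → F)) ᵥ* g.1
        = (s / c i) • rhoV c := by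
      rw [hg1, vecMul_tv, smul_dotProduct, add_dotProduct, smul_dotProduct, hi0,
        dot_ev _ i (by omega)]
      have : (rhoV c : Fin n → F) ⟨i, by omega⟩ = rho n c i := rfl
      rw [this]
      ext k
      simp only [Pi.add_apply, Pi.smul_apply, smul_eq_mul]
      field_simp
      ring
    rw [e]
    apply Phi_conj hL
    rw [hLm, smul_vecMul, rhoV_vecMul_Lm c (by omega)]
    exact hlast _
  have h2 := Phi_conj hg hψ
  have e2 : g.1 *ᵥ (L.1 *ᵥ ev i) = c i • (ev (i + 1) : Fin n → F) := by
    rw [hLm, Lm_mulVec_ev c i (by omega), hg1, tv_mulVec, smul_dotProduct, dotProduct_add,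
      dotProduct_smul, hi0, ev_dot_ev_self hi]
    ext k
    simp only [Pi.add_apply, Pi.smul_apply, smul_eq_mul]
    field_simp
    ring
  rw [e2] at h2
  have h3 := (Phi_smul (c i)).mp h2
  rwa [smul_smul, mul_div_cancel₀ _ hci] at h3

/-- the lower root elements next to the diagonal, rows `2, 3, …` -/
theorem lowerAdj (h : Ctx H c a) (i : ℕ) (hi1 : 1 ≤ i) (hi : i + 1 < n) (y : F) :
    y • (ev i : Fin n → F) ∈ Phi H (ev (i + 1)) := by
  have hn := h.hn
  have hρ := rho_ne_zero (n := n) c h.hc 0
  have h1 := h.theta_mem i hi (fun y => h.upper i hi1 (i + 1) (by omega) y)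
    (fun y => h.upper i hi1 (n - 1) (by omega) y) (y / rho n c 0)
  have h2 := Phi_comm (h.ev_mem_row0 i hi1) h1 (ev_dot_ev_ne (by omega))
  have e : ((y / rho n c 0) • (rhoV c + (rho n c i / c i) • ev (i + 1) : Fin n → F)) ⬝ᵥ ev 0
      = y := by
    rw [smul_dotProduct, add_dotProduct, smul_dotProduct, ev_dot_ev_ne (by omega),
      dot_ev _ 0 (by omega)]
    have : (rhoV c : Fin n → F) ⟨0, by omega⟩ = rho n c 0 := rfl
    rw [this, smul_zero, add_zero, smul_eq_mul, div_mul_cancel₀ _ hρ]
  rwa [e] at h2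

/-- the first row is complete -/
theorem row0 (h : Ctx H c a) (k : ℕ) (hk : 1 ≤ k) (y : F) :
    y • (ev k : Fin n → F) ∈ Phi H (ev 0) := by
  have hn := h.hn
  rcases Nat.lt_or_ge k 2 with h2 | h2
  · have hk1 : k = 1 := by omega
    rw [hk1]
    have h1 := h.lowerAdj 1 le_rfl (by omega) y
    have h3 := h.upper0 2 le_rfl 1
    rw [one_smul] at h3
    have := Phi_comm h1 h3
      (by rw [smul_dotProduct, ev_dot_ev_ne (by omega), smul_zero])
    rwa [ev_dot_ev_self (by omega), one_smul] at this
  · exact h.upper0 k h2 y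

/-- all upper root elements -/
theorem upperAll (h : Ctx H c a) (i k : ℕ) (hik : i < k) (y : F) :
    y • (ev k : Fin n → F) ∈ Phi H (ev i) := by
  rcases Nat.eq_zero_or_pos i with rfl | hi
  · exact h.row0 k hik y
  · exact h.upper i hi k hik y

/-- the lower root element in position `(1, 0)` -/
theorem low10 (h : Ctx H c a) (y : F) : y • (ev 0 : Fin n → F) ∈ Phi H (ev 1) := by
  have hn := h.hn
  have hρ := rho_ne_zero (n := n) c h.hc 0
  have h1 := h.theta_mem 0 (by omega) (fun y => h.row0 1 le_rfl y)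
    (fun y => h.row0 (n - 1) (by omega) y) (y / rho n c 0)
  -- subtract the part supported on the indices `≥ 2`
  have h2 : ((y / rho n c 0) • (rhoV c + (rho n c 0 / c 0) • ev (0 + 1) : Fin n → F)
      - y • ev 0 : Fin n → F) ∈ Phi H (ev 1) := by
    apply Phi_of_support
    intro j hj y'
    by_cases hj2 : 2 ≤ j.val
    · exact h.upper1 j.val hj2 y'
    · exfalso
      apply hj
      have hj' : j.val = 0 ∨ j.val = 1 := by omega
      simp only [Pi.sub_apply, Pi.add_apply, Pi.smul_apply, smul_eq_mul, ev_apply, rhoV]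
      rcases hj' with hj' | hj'
      · rw [hj', if_neg (by omega), if_pos rfl]
        field_simp
        ring
      · rw [hj', if_pos rfl, if_neg (by omega), rho_succ c 0 (by omega)]
        have := h.hc 0
        field_simp
        ring
  have := (Phi H (ev 1)).sub_mem h1 h2
  rwa [sub_sub_cancel] at this

/-- all lower root elements -/
theorem lowerAll (h : Ctx H c a) (i : ℕ) :
    ∀ j : ℕ, j < i → ∀ y : F, y • (ev j : Fin n → F) ∈ Phi H (ev i) := by
  have hn := h.hn
  induction i with
  | zero =>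
    intro j hj
    omega
  | succ i ih =>
    intro j hj y
    by_cases hin : n ≤ i + 1
    · rw [ev_eq_zero (i + 1) hin]
      refine ⟨dotProduct_zero _, ?_⟩
      unfold tv
      rw [zero_vecMulVec, add_zero]
      exact InH.one H
    · rcases Nat.eq_zero_or_pos i with rfl | hi
      · have : j = 0 := by omega
        rw [this]
        exact h.low10 y
      · rcases Nat.lt_or_ge j i with hji | hji
        · have h1 := ih j hji y
          have h2 := h.lowerAdj i hi (by omega) 1
          rw [one_smul] at h2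
          have := Phi_comm h1 h2
            (by rw [smul_dotProduct, ev_dot_ev_ne (by omega), smul_zero])
          rwa [ev_dot_ev_self (by omega), one_smul] at this
        · have : j = i := by omega
          rw [this]
          exact h.lowerAdj i hi (by omega) y

/-- all root elements lie in `H` -/
theorem transvection_mem (h : Ctx H c a) (i j : Fin n) (hij : i ≠ j) (y : F) :
    Matrix.SpecialLinearGroup.transvection hij y ∈ H := by
  apply InH.mem
  have e : (Matrix.SpecialLinearGroup.transvection hij y : Matrix (Fin n) (Fin n) F)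
      = tv (ev i.val) (y • ev j.val) := by
    rw [tv_ev_ev i.val j.val i.isLt j.isLt]
    rfl
  rw [e]
  rcases Nat.lt_or_ge i.val j.val with hlt | hge
  · exact (h.upperAll i.val j.val hlt y).2
  · have : j.val < i.val := by
      rcases Nat.eq_or_lt_of_le hge with h' | h'
      · exact absurd (Fin.ext h'.symm) hij
      · exact h'
    exact (h.lowerAll i.val j.val this y).2

/-- **Generation theorem.** -/
theorem eq_top (h : Ctx H c a) : H = ⊤ := by
  have hn := h.hn
  have hnt : Nontrivial (Fin n) := by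
    obtain ⟨m, rfl⟩ : ∃ m, n = m + 2 := ⟨n - 2, by omega⟩
    infer_instance
  refine le_antisymm le_top (fun A _ ↦ ?_)
  refine Matrix.SpecialLinearGroup.diagonal_transvection_induction' (fun A => A ∈ H) A
    ?_ (fun i j hij y => h.transvection_mem i j hij y) (fun _ _ ↦ mul_mem)
  intro i j hij y hy
  rw [Cfsg.Agent.Lib.Helper5.SLn.diag2n_decompose hij y hy]
  exact mul_mem (mul_mem (mul_mem (mul_mem (mul_mem (h.transvection_mem _ _ _ _)
    (h.transvection_mem _ _ _ _)) (h.transvection_mem _ _ _ _))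
    (h.transvection_mem _ _ _ _)) (h.transvection_mem _ _ _ _)) (h.transvection_mem _ _ _ _)

end Ctx

end Cfsg.Agent.Lib.Helper7.RegUnip
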