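import Mathlib
import Cfsg.Agent.Lib.Helper7.RegUnipD

/-!
# The Jordan block is regular unipotent; its conjugates by a root element and by an antidiagonal
matrix (helper7)
-/

set_option autoImplicit false

namespace Cfsg.Agent.Lib.Helper7.RegUnip

open Matrix

variable {n : ℕ} {F : Type*} [Field F]

local notation "SLn" => Matrix.SpecialLinearGroup (Fin n) F

theorem det_Jm : (Jm : Matrix (Fin n) (Fin n) F).det = 1 := by
  rw [Matrix.det_of_isUpperTriangular]
  · apply Finset.prod_eq_one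
    intro i _
    simp [Jm]
  · intro i j hij
    simp only [id] at hij
    simp only [Jm, Matrix.of_apply]
    rw [if_neg (fun h => by rw [h] at hij; exact lt_irrefl _ hij),
      if_neg (by have : j.val < i.val := hij; omega)]

/-- the `k`-th power of the nilpotent part of the Jordan block -/
def Nk (k : ℕ) : Matrix (Fin n) (Fin n) F :=
  Matrix.of fun i j => if j.val = i.val + k then 1 else 0

theorem Jm_sub_one : (Jm : Matrix (Fin n) (Fin n) F) - 1 = Nk 1 := by
  ext i j
  simp only [Jm, Nk, Matrix.sub_apply, Matrix.of_apply, Matrix.one_apply]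
  by_cases h : i = j
  · rw [if_pos h, if_pos h, sub_self, if_neg (by rw [h]; omega)]
  · rw [if_neg h, if_neg h, sub_zero]

theorem Nk_mul_Nk_one (k : ℕ) : (Nk k : Matrix (Fin n) (Fin n) F) * Nk 1 = Nk (k + 1) := by
  ext i j
  simp only [Matrix.mul_apply, Nk, Matrix.of_apply]
  by_cases h : i.val + k < n
  · rw [Finset.sum_eq_single (⟨i.val + k, h⟩ : Fin n)]
    · rw [if_pos rfl, one_mul]
      by_cases h2 : j.val = i.val + k + 1
      · rw [if_pos h2, if_pos (by omega)]
      · rw [if_neg h2, if_neg (by omega)]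
    · intro l _ hl
      rw [if_neg (fun h' => hl (Fin.ext h')), zero_mul]
    · intro h'
      exact absurd (Finset.mem_univ _) h'
  · rw [if_neg (by have := j.isLt; omega)]
    apply Finset.sum_eq_zero
    intro l _
    rw [if_neg (by have := l.isLt; omega), zero_mul]

theorem Nk_one_pow (k : ℕ) : (Nk 1 : Matrix (Fin n) (Fin n) F) ^ k = Nk k := by
  induction k with
  | zero =>
    rw [pow_zero]
    ext i j
    simp only [Nk, Matrix.of_apply, Matrix.one_apply, add_zero]
    by_cases h : i = j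
    · rw [if_pos h, if_pos (by rw [h])]
    · rw [if_neg h, if_neg (fun h' => h (Fin.ext h'.symm))]
  | succ k ih => rw [pow_succ, ih, Nk_mul_Nk_one]

theorem isNilpotent_Jm_sub_one : IsNilpotent ((Jm : Matrix (Fin n) (Fin n) F) - 1) := by
  refine ⟨n, ?_⟩
  rw [Jm_sub_one, Nk_one_pow]
  ext i j
  simp only [Nk, Matrix.of_apply, Matrix.zero_apply]
  rw [if_neg (by have := j.isLt; omega)]

theorem Jm_sub_one_pow_ne_zero (hn : 1 ≤ n) :
    ((Jm : Matrix (Fin n) (Fin n) F) - 1) ^ (n - 1) ≠ 0 := by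
  rw [Jm_sub_one, Nk_one_pow]
  intro h
  have := congrFun (congrFun h ⟨0, by omega⟩) ⟨n - 1, by omega⟩
  simp only [Nk, Matrix.of_apply, Matrix.zero_apply] at this
  rw [if_pos (by simp)] at this
  exact one_ne_zero this

theorem tv_mul (v φ : Fin n → F) (M : Matrix (Fin n) (Fin n) F) :
    tv v φ * M = M + vecMulVec v (φ ᵥ* M) := by
  unfold tv
  rw [Matrix.add_mul, Matrix.one_mul, vecMulVec_mul]

theorem mul_tv (v φ : Fin n → F) (M : Matrix (Fin n) (Fin n) F) :
    M * tv v φ = M + vecMulVec (M *ᵥ v) φ := by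
  unfold tv
  rw [Matrix.mul_add, Matrix.mul_one, mul_vecMulVec]

/-- conjugating the Jordan block by a root element in position `(0, 1)` -/
theorem T01_mul_Jm (a : F) :
    tv (ev 0) (a • ev 1) * (Jm : Matrix (Fin n) (Fin n) F) =
      Jm * tv (ev 0) (a • ev 2) * tv (ev 0) (a • ev 1) := by
  have e : tv (ev 0) (a • ev 2) * tv (ev 0) (a • ev 1) =
      (tv (ev 0) (a • ev 2 + a • ev 1) : Matrix (Fin n) (Fin n) F) := by
    rw [tv_mul_tv, smul_dotProduct, ev_dot_ev_ne (by omega), smul_zero, zero_smul, add_zero]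
    unfold tv
    rw [vecMulVec_add, add_assoc]
  rw [Matrix.mul_assoc, e, tv_mul, mul_tv, Jm_mulVec_ev_zero, smul_vecMul, ev_vecMul_Jm, smul_add,
    add_comm (a • (ev 1 : Fin n → F))]


/-- the antidiagonal matrix with entries `d 0, d 1, …` (from the top right corner down) -/
def Hm (d : ℕ → F) : Matrix (Fin n) (Fin n) F :=
  Matrix.of fun i j => if i.val + j.val + 1 = n then d j.val else 0

theorem Hm_mulVec_ev (d : ℕ → F) (j : ℕ) (hj : j < n) :
    (Hm d : Matrix (Fin n) (Fin n) F) *ᵥ ev j = d j • ev (n - 1 - j) := by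
  rw [mulVec_ev _ j hj]
  ext i
  simp only [Matrix.col_apply, Hm, Matrix.of_apply, Pi.smul_apply, ev_apply, smul_eq_mul]
  by_cases h : i.val + j + 1 = n
  · rw [if_pos h, if_pos (by omega), mul_one]
  · rw [if_neg h, if_neg (by have := i.isLt; omega), mul_zero]

theorem Hm_mul_Jm (d c : ℕ → F) (hdc : ∀ k, k + 1 < n → d (k + 1) * c (n - 2 - k) = d k) :
    (Hm d : Matrix (Fin n) (Fin n) F) * Jm = Lm c * Hm d := by
  apply Matrix.ext_of_mulVec_single
  intro j
  rw [← ev_eq_single j.val j.isLt, ← mulVec_mulVec, ← mulVec_mulVec]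
  have hj := j.isLt
  rcases Nat.eq_zero_or_pos j.val with h0 | hpos
  · rw [h0, Jm_mulVec_ev_zero, Hm_mulVec_ev d 0 (by omega), mulVec_smul,
      Lm_mulVec_ev c (n - 1 - 0) (by omega), ev_eq_zero (n - 1 - 0 + 1) (by omega), smul_zero,
      add_zero]
  · obtain ⟨k, hk⟩ : ∃ k, j.val = k + 1 := ⟨j.val - 1, by omega⟩
    rw [hk, Jm_mulVec_ev_succ k (by omega), mulVec_add, Hm_mulVec_ev d (k + 1) (by omega),
      Hm_mulVec_ev d k (by omega), mulVec_smul, Lm_mulVec_ev c (n - 1 - (k + 1)) (by omega),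
      smul_add, smul_smul]
    have e1 : n - 1 - (k + 1) + 1 = n - 1 - k := by omega
    have e2 : n - 1 - (k + 1) = n - 2 - k := by omega
    rw [e1, e2, hdc k (by omega)]

theorem Hm_eq_submatrix (d : ℕ → F) :
    (Hm d : Matrix (Fin n) (Fin n) F) =
      (Matrix.diagonal fun j : Fin n => d j.val).submatrix (Fin.revPerm : Equiv.Perm (Fin n)) id := by
  ext i j
  simp only [Hm, Matrix.of_apply, Matrix.submatrix_apply, id, Matrix.diagonal_apply,
    Fin.revPerm_apply, Fin.ext_iff, Fin.val_rev]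
  by_cases h : i.val + j.val + 1 = n
  · rw [if_pos h, if_pos (by omega)]
    congr 1
    omega
  · rw [if_neg h, if_neg (by have := i.isLt; omega)]

theorem det_Hm (d : ℕ → F) :
    (Hm d : Matrix (Fin n) (Fin n) F).det =
      ((Equiv.Perm.sign (Fin.revPerm : Equiv.Perm (Fin n)) : ℤˣ) : ℤ) * ∏ j : Fin n, d j.val := by
  rw [Hm_eq_submatrix, Matrix.det_permute, Matrix.det_diagonal]

end Cfsg.Agent.Lib.Helper7.RegUnip
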