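import Mathlib
import Cfsg.Agent.H9.SUm
import Cfsg.Agent.Lib.Helper7.RegUnipE

/-!
# `SU_{2m+1}(q)` and regular unipotent elements: the Siegel calculus (helper7)

Rank one operators `VV σ a b : x ↦ h(x, b) a` for the antidiagonal Hermitian form of helper9's
model `GG n σ`, the block condition `ZW m` (rows `< m`, columns `> m`), and for a subgroup `H`
the additive group `Acal m H` of all `N` in the block with `1 + N ∈ H`.
-/

set_option autoImplicit false

namespace Cfsg.Agent.Lib.Helper7.RegUn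

open Matrix Cfsg.Agent.H9.SUa Cfsg.Agent.H9.SUc Cfsg.Agent.Lib.Helper7.RegUnip

variable {n : ℕ} {K : Type*} [Field K]

local notation "Mn" => Matrix (Fin n) (Fin n) K

/-! ### rank one operators -/

/-- the rank one operator `x ↦ h(x, b) a` -/
def VV (σ : K →+* K) (a b : Fin n → K) : Mn := vecMulVec a (hat σ b)

theorem VV_apply (σ : K →+* K) (a b : Fin n → K) (i j : Fin n) :
    VV σ a b i j = a i * σ (b j.rev) := by
  unfold VV
  rw [vecMulVec_apply, hat_apply]

theorem VV_add_left (σ : K →+* K) (a a' b : Fin n → K) :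
    VV σ (a + a') b = VV σ a b + VV σ a' b := by
  unfold VV
  rw [add_vecMulVec]

theorem VV_add_right (σ : K →+* K) (a b b' : Fin n → K) :
    VV σ a (b + b') = VV σ a b + VV σ a b' := by
  unfold VV
  rw [hat_add, vecMulVec_add]

theorem VV_smul_left (σ : K →+* K) (c : K) (a b : Fin n → K) :
    VV σ (c • a) b = c • VV σ a b := by
  unfold VV
  rw [smul_vecMulVec]

theorem VV_smul_right (σ : K →+* K) (c : K) (a b : Fin n → K) :
    VV σ a (c • b) = σ c • VV σ a b := by
  unfold VV
  rw [hat_smul, vecMulVec_smul]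

theorem VV_zero_left (σ : K →+* K) (b : Fin n → K) : VV σ (0 : Fin n → K) b = 0 := by
  unfold VV
  rw [zero_vecMulVec]

theorem VV_zero_right (σ : K →+* K) (a : Fin n → K) : VV σ a (0 : Fin n → K) = 0 := by
  unfold VV
  rw [hat_zero, vecMulVec_zero]

theorem VV_neg_left (σ : K →+* K) (a b : Fin n → K) : VV σ (-a) b = -VV σ a b := by
  unfold VV
  rw [neg_vecMulVec]

theorem VV_neg_right (σ : K →+* K) (a b : Fin n → K) : VV σ a (-b) = -VV σ a b := by
  unfold VV
  rw [Cfsg.Agent.H9.SUi.hat_neg, vecMulVec_neg]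

theorem VV_sub_left (σ : K →+* K) (a a' b : Fin n → K) :
    VV σ (a - a') b = VV σ a b - VV σ a' b := by
  rw [sub_eq_add_neg, VV_add_left, VV_neg_left, ← sub_eq_add_neg]

theorem VV_sub_right (σ : K →+* K) (a b b' : Fin n → K) :
    VV σ a (b - b') = VV σ a b - VV σ a b' := by
  rw [sub_eq_add_neg, VV_add_right, VV_neg_right, ← sub_eq_add_neg]

theorem VV_mulVec (σ : K →+* K) (a b x : Fin n → K) : VV σ a b *ᵥ x = hf σ x b • a := by
  unfold VV hf
  rw [vecMulVec_mulVec, op_smul_eq_smul]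

theorem VV_mul_VV (σ : K →+* K) (a b c d : Fin n → K) :
    VV σ a b * VV σ c d = hf σ c b • VV σ a d := by
  unfold VV hf
  rw [vecMulVec_mul_vecMulVec, vecMulVec_smul]

/-- conjugation: `M (a b̂) M* = (M a) (M b)^` -/
theorem conj_VV (σ : K →+* K) (M : Mn) (a b : Fin n → K) :
    M * VV σ a b * adj σ M = VV σ (M *ᵥ a) (M *ᵥ b) := by
  unfold VV
  rw [mul_vecMulVec, vecMulVec_mul, hat_vecMul_adj]

theorem adj_VV (σ : K →+* K) (hσ : ∀ x, σ (σ x) = x) (a b : Fin n → K) :
    adj σ (VV σ a b) = VV σ b a := by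
  unfold VV
  rw [adj_vecMulVec σ hσ]

/-- the Eichler matrix in terms of rank one operators -/
theorem EM_eq (σ : K →+* K) (u v : Fin n → K) (s : K) :
    EM σ u v s = 1 + VV σ u v - VV σ v u + s • VV σ u u := rfl

/-! ### the Hermitian form -/

theorem hf_add_left (σ : K →+* K) (x x' y : Fin n → K) :
    hf σ (x + x') y = hf σ x y + hf σ x' y := by
  unfold hf
  rw [dotProduct_add]

theorem hf_add_right (σ : K →+* K) (x y y' : Fin n → K) :
    hf σ x (y + y') = hf σ x y + hf σ x y' := by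
  unfold hf
  rw [hat_add, add_dotProduct]

theorem hf_smul_left (σ : K →+* K) (c : K) (x y : Fin n → K) :
    hf σ (c • x) y = c * hf σ x y := by
  unfold hf
  rw [dotProduct_smul, smul_eq_mul]

theorem hf_smul_right (σ : K →+* K) (c : K) (x y : Fin n → K) :
    hf σ x (c • y) = σ c * hf σ x y := by
  unfold hf
  rw [hat_smul, smul_dotProduct, smul_eq_mul]

theorem hf_zero_left (σ : K →+* K) (y : Fin n → K) : hf σ (0 : Fin n → K) y = 0 := by
  unfold hf
  rw [dotProduct_zero]

theorem hf_zero_right (σ : K →+* K) (x : Fin n → K) : hf σ x (0 : Fin n → K) = 0 := by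
  unfold hf
  rw [hat_zero, zero_dotProduct]

theorem hf_neg_left (σ : K →+* K) (x y : Fin n → K) : hf σ (-x) y = -hf σ x y := by
  unfold hf
  rw [dotProduct_neg]

theorem hf_neg_right (σ : K →+* K) (x y : Fin n → K) : hf σ x (-y) = -hf σ x y := by
  unfold hf
  rw [Cfsg.Agent.H9.SUi.hat_neg, neg_dotProduct]

theorem hf_sub_left (σ : K →+* K) (x x' y : Fin n → K) :
    hf σ (x - x') y = hf σ x y - hf σ x' y := by
  rw [sub_eq_add_neg, hf_add_left, hf_neg_left, ← sub_eq_add_neg]

theorem hf_sub_right (σ : K →+* K) (x y y' : Fin n → K) :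
    hf σ x (y - y') = hf σ x y - hf σ x y' := by
  rw [sub_eq_add_neg, hf_add_right, hf_neg_right, ← sub_eq_add_neg]

/-- the form is Hermitian -/
theorem hf_symm (σ : K →+* K) (hσ : ∀ x, σ (σ x) = x) (x y : Fin n → K) :
    hf σ x y = σ (hf σ y x) := by
  unfold hf
  rw [dotProduct, dotProduct, map_sum, ← Equiv.sum_comp Fin.revPerm]
  apply Finset.sum_congr rfl
  intro i _
  rw [Fin.revPerm_apply, hat_apply, hat_apply, Fin.rev_rev, map_mul, hσ, mul_comm]

theorem hf_eq_zero_symm (σ : K →+* K) (hσ : ∀ x, σ (σ x) = x) {x y : Fin n → K}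
    (h : hf σ x y = 0) : hf σ y x = 0 := by
  rw [hf_symm σ hσ, h, map_zero]

/-! ### the action of an Eichler matrix -/

theorem EM_mulVec (σ : K →+* K) (u v : Fin n → K) (s : K) (x : Fin n → K) :
    EM σ u v s *ᵥ x = x + hf σ x v • u - hf σ x u • v + (s * hf σ x u) • u := by
  rw [EM_eq, Matrix.add_mulVec, Matrix.sub_mulVec, Matrix.add_mulVec, Matrix.one_mulVec,
    Matrix.smul_mulVec, VV_mulVec, VV_mulVec, VV_mulVec, smul_smul]

end Cfsg.Agent.Lib.Helper7.RegUn
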