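/-! # The multiplier of the alternating group of degree six: the words of the certificate (generated) -/

set_option autoImplicit false

namespace Cfsg.Agent.Lib.Helper7.A6Mul

/-- the packed words -/
noncomputable def relP : Nat := 0x3331221220220220100000000000000000312131213020302010000000000000000002212212202202200f000000000000000000220212122120200e000000000000000000220202122120200e000000000000000000000333312020200b00000000000000000000000021202020080000000000000000000000002020202008000000000000000002122122122122120f000000000000000000000000000222220500000000000000000000000021212121080000000000000000000000000000000002

/-- the packed classes of the words -/
noncomputable def rhsP : Nat := 0x80000800307ffb07fec0780007803070020700407002070050580105803040010400304001040040780007800028000280004001040000100001001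

/-- the packed times and rows of the words -/
noncomputable def wtaP : Nat := 0x10060000d00a00001006000000060000000600000006000000060000000600000000000000000000000000000000

end Cfsg.Agent.Lib.Helper7.A6Mul
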