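import Cfsg.Agent.Lib.Helper7.MGenB

/-!
# From relations between commuting elements to a cyclic group

Commuting elements `z 0, …, z (k - 1)` satisfy relations given by integer vectors.  If the unit vectors minus multiples
of a vector `c` are integer combinations of the relations, then every `z j` is a power of the product `g` of the powers
`z j ^ c j`; if a multiple `N * c` is a combination too, then `g ^ N = 1`.  A group generated by such a `g` is a
homomorphic image of the cyclic group of order `N`.
-/

set_option autoImplicit false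

namespace Cfsg.Agent.Lib.Helper7.MG

section comb

variable {A : Type*} [CommGroup A] (z : ℕ → A) (k : ℕ)

/-- the product of the powers given by a vector of exponents -/
def zprod (e : ℕ → ℤ) : A := ∏ j ∈ Finset.range k, z j ^ e j

theorem zprod_congr {e e' : ℕ → ℤ} (h : ∀ j, j < k → e j = e' j) : zprod z k e = zprod z k e' := by
  unfold zprod
  apply Finset.prod_congr rfl
  intro j hj
  rw [h j (Finset.mem_range.1 hj)]

theorem zprod_add (e e' : ℕ → ℤ) : zprod z k (fun j => e j + e' j) = zprod z k e * zprod z k e' := by
  unfold zprod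
  rw [← Finset.prod_mul_distrib]
  apply Finset.prod_congr rfl
  intro j _
  rw [zpow_add]

theorem zprod_smul (a : ℤ) (e : ℕ → ℤ) : zprod z k (fun j => a * e j) = zprod z k e ^ a := by
  unfold zprod
  rw [← Finset.prod_zpow]
  apply Finset.prod_congr rfl
  intro j _
  show z j ^ (a * e j) = (z j ^ e j) ^ a
  rw [mul_comm, zpow_mul]

theorem zprod_zero : zprod z k (fun _ => 0) = 1 := by
  unfold zprod
  simp

/-- the combination of vectors, given as lists, with coefficients -/
def dotL : List ℤ → List (List ℤ) → ℕ → ℤ
  | a :: as, r :: rs, l => a * r.getD l 0 + dotL as rs l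
  | _, _, _ => 0

theorem zprod_dotL : ∀ (as : List ℤ) (R : List (List ℤ)),
    (∀ r ∈ R, zprod z k (fun l => r.getD l 0) = 1) → zprod z k (dotL as R) = 1
  | [], _, _ => by
    have : dotL [] = fun _ _ => 0 := by funext R l; cases R <;> rfl
    rw [this]
    exact zprod_zero z k
  | _ :: _, [], _ => zprod_zero z k
  | a :: as, r :: rs, h => by
    have e : dotL (a :: as) (r :: rs) = fun l => a * r.getD l 0 + dotL as rs l := by funext l; rfl
    rw [e, zprod_add, zprod_smul, h r List.mem_cons_self, one_zpow, one_mul]
    exact zprod_dotL as rs fun r' hr' => h r' (List.mem_cons_of_mem _ hr')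

variable (R : List (List ℤ)) (hR : ∀ r ∈ R, zprod z k (fun l => r.getD l 0) = 1)

include hR in
/-- **every generator is a power of one element**, of which a given power is trivial -/
theorem cyclic_of_relations (c m : List ℤ) (N : ℤ) (lam : List (List ℤ)) (mu : List ℤ)
    (h1 : ∀ j, j < k → ∀ l, l < k →
      (if l = j then 1 else 0) - m.getD j 0 * c.getD l 0 = dotL (lam.getD j []) R l)
    (h2 : ∀ l, l < k → N * c.getD l 0 = dotL mu R l) :
    (∀ j, j < k → z j = zprod z k (fun l => c.getD l 0) ^ m.getD j 0) ∧
      zprod z k (fun l => c.getD l 0) ^ N = 1 := by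
  constructor
  · intro j hj
    have h3 := zprod_dotL z k (lam.getD j []) R hR
    rw [← zprod_congr z k (h1 j hj)] at h3
    have e : (fun l => (if l = j then (1 : ℤ) else 0) - m.getD j 0 * c.getD l 0) =
        fun l => (if l = j then (1 : ℤ) else 0) + (-(m.getD j 0)) * c.getD l 0 := by
      funext l; ring
    rw [e, zprod_add, zprod_smul] at h3
    have h4 : zprod z k (fun l => if l = j then (1 : ℤ) else 0) = z j := by
      unfold zprod
      rw [Finset.prod_eq_single j]
      · simp
      · intro b _ hb
        show z b ^ (if b = j then (1 : ℤ) else 0) = 1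
        rw [if_neg hb, zpow_zero]
      · intro hn
        exact absurd (Finset.mem_range.2 hj) hn
    rw [h4, zpow_neg, mul_inv_eq_one] at h3
    exact h3
  · have h3 := zprod_dotL z k mu R hR
    rw [← zprod_congr z k h2, zprod_smul] at h3
    exact h3

end comb

/-- a group generated by an element of which the `N`-th power is trivial is an image of the cyclic group of order `N` -/
theorem exists_surj_zmod {K : Type*} [Group K] (g : K) (N : ℕ) (hg : g ^ N = 1)
    (hgen : ∀ y : K, y ∈ Subgroup.zpowers g) :
    ∃ π : Multiplicative (ZMod N) →* K, Function.Surjective π := by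
  let f : ℤ →+ Additive K := zmultiplesHom (Additive K) (Additive.ofMul g)
  have hf : f (N : ℤ) = 0 := by
    show (N : ℤ) • Additive.ofMul g = 0
    rw [natCast_zsmul]
    exact congrArg Additive.ofMul hg
  let φ : ZMod N →+ Additive K := ZMod.lift N ⟨f, hf⟩
  refine ⟨AddMonoidHom.toMultiplicativeLeft φ, ?_⟩
  intro y
  obtain ⟨i, rfl⟩ := Subgroup.mem_zpowers_iff.1 (hgen y)
  refine ⟨Multiplicative.ofAdd ((i : ℤ) : ZMod N), ?_⟩
  show (φ ((i : ℤ) : ZMod N)).toMul = g ^ i
  rw [ZMod.lift_coe]
  rfl

end Cfsg.Agent.Lib.Helper7.MG
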