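import Cfsg.Agent.Lib.Helper7.A6MulK0

/-! # The multiplier of the alternating group of degree six: all the rows and words of the certificate are checked, and the words that give the relations
between the classes are traced (generated) -/

set_option autoImplicit false
set_option maxRecDepth 100000

namespace Cfsg.Agent.Lib.Helper7.A6Mul

open Cfsg.Agent.Lib.Helper7.MG Cfsg.Agent.Lib.Helper7.HSMult

/-- **every entry of the table is justified** -/
theorem cert_all : ∀ a, a < cert.n → ∀ x, x < cert.g → cert.slotOK a x = true := by
  intro a ha x hx
  have ha' : a < 72 := ha
  have hx' : x < 4 := hx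
  have h1 := rows_ok_0
  rw [rowsOK, allN_iff] at h1
  have h2 := h1 a ha'
  rw [allN_iff] at h2
  have h3 := h2 x hx'
  have e : Nat.add 0 a = a := Nat.zero_add a
  rw [e] at h3
  exact h3

theorem words_ok : wordsOK = true := by decide +kernel

/-- **every word of the certificate is justified** -/
theorem cert_wall : ∀ i, i < cert.nW → cert.wordOK i = true := by
  intro i hi
  have h := words_ok
  rw [wordsOK, allN_iff] at h
  exact h i hi

theorem close_0 : cert.scan 4095 (cert.W 7) 48 0 = some (48, 30061654016) := by decide +kernel

theorem close_1 : cert.scan 4095 (cert.W 10) 69 0 = some (69, 34359771151) := by decide +kernel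

end Cfsg.Agent.Lib.Helper7.A6Mul
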