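/-! # The multiplier of the alternating group of degree six: the letters on 80 and on 18 points (generated) -/

set_option autoImplicit false

namespace Cfsg.Agent.Lib.Helper7.A6Mul

/-- the packed images of the 80 points under the letter 0 -/
noncomputable def t4_0 : Nat := 0x7af1d398b11f3f6cd654b70dddae932274f81326c2871a3a43abce1e630541852acb2c46518334c485111269a32329422d06a8ba71884f8f103430b02890072000d85045498e

/-- the packed images of the 80 points under the letter 1 -/
noncomputable def t4_1 : Nat := 0x78f5cba8915fbe6ada5ca6ee173b91267ce8336643851e31d48717a56500c2854595ad288cd344e2890922c19b10a78dac2aa4126028900720007131884f8f10342192e0c586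

/-- the packed images of the 80 points under the letter 2 -/
noncomputable def t4_2 : Nat := 0x891674f7cfdb357af1a338d1e64d5ab1529612644b9480fc0830e11b32690a246c593b74e482f1ae1ba74c20e052a1072e56514004a4c911483c6173c2c5093a1c3033058101

/-- the packed images of the 80 points under the letter 3 -/
noncomputable def t4_3 : Nat := 0x993604170ddd39850e74f64c59b4952e3c6509d322432644588a553b4861fbe2ef5e15407c98f56b16b66a2c39d60b97831808d9624448251c6518d142441e0c14e1a0804014

/-- the packed images of the 80 points under the central element -/
noncomputable def t4_z : Nat := 0x9d3e64d952e4498d1e245850e0417cfde3d5ce5d3770d5b3368c591a38ed62d2ca55184c9cf1d288511f409522f08c02a804ac1a316284880e1800126488901e38c9b2a5c60d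

/-- the packed images of the 18 points under the letter 0 -/
noncomputable def t3_0 : Nat := 0x167740a4509e94062363406

/-- the packed images of the 18 points under the letter 1 -/
noncomputable def t3_1 : Nat := 0xae4bc438ad07801ac228c1

/-- the packed images of the 18 points under the letter 2 -/
noncomputable def t3_2 : Nat := 0xf078dcb02588244c5105aa

/-- the packed images of the 18 points under the letter 3 -/
noncomputable def t3_3 : Nat := 0xd07b429601488948770c4b

/-- the packed images of the 18 points under the central element -/
noncomputable def t3_z : Nat := 0x14881e23135cf4816c214c1

end Cfsg.Agent.Lib.Helper7.A6Mul
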