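import Cfsg.Agent.Lib.Helper7.A6MulE
import Cfsg.Prelude.Def_KGroupFacts

/-!
# The multiplier of the alternating group of degree six is cyclic of order six

The group generated by the triples is a stem extension of the alternating group with cyclic kernel of order six;
together with the bound for the kernels of all stem extensions, this gives the multiplier.
-/

set_option autoImplicit false
set_option maxRecDepth 100000

namespace Cfsg.Agent.Lib.Helper7.A6Mul

open Cfsg Cfsg.Agent.Lib.Helper7.MG Cfsg.Agent.Lib.Helper7.HSMult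
open scoped IsMulCommutative

/-! ### the central element -/

/-- the central element of the extension -/
noncomputable def zetaE : ↥GE := VCert.wd gE zW

theorem wd_lK_zW : VCert.wd lK zW = 1 := by
  rw [← zW_eq]
  exact wd_lK_W (by norm_num)

theorem wd_lK_wpow_zW (m : ℕ) : VCert.wd lK (wpow m zW) = 1 := by
  rw [wd_wpow, wd_lK_zW, one_pow]

theorem zetaE_comm (x : ℕ) (hx : x < 4) : gE x * zetaE = zetaE * gE x := by
  have h := wd_gE_eq (w := x :: zW) (w' := zW ++ [x]) (fun p hp => cen4 hx hp) (fun p hp => cen3 hx hp) (by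
      rw [VCert.wd_cons, VCert.wd_append, wd_lK_zW, mul_one, one_mul, VCert.wd_cons, VCert.wd_nil, mul_one])
  rw [VCert.wd_cons, VCert.wd_append, VCert.wd_cons, VCert.wd_nil, mul_one] at h
  exact h

theorem zetaE_mem_center : zetaE ∈ Subgroup.center ↥GE := by
  apply central_of_comm_gens (gE '' Set.Iio 4) closure_gE
  rintro _ ⟨x, hx, rfl⟩
  exact zetaE_comm x hx

/-- the central element of the extension, in the centre -/
noncomputable def zetaC : Subgroup.center ↥GE := ⟨zetaE, zetaE_mem_center⟩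

/-- the central elements of the table -/
noncomputable def zE (j : ℕ) : Subgroup.center ↥GE := zetaC ^ mE j

theorem sigE_zetaE : sigE zetaE = 1 := by
  rw [zetaE, sigE_wd, wd_lK_zW]

theorem zetaE_pow_twelve : zetaE ^ 6 = 1 := by
  have h := wd_gE_eq (w := wpow 6 zW) (w' := []) (fun p hp => ord4 hp) (fun p hp => ord3 hp) (wd_lK_wpow_zW 6)
  rw [wd_wpow] at h
  exact h

theorem zetaE_pow_three : zetaE ^ 3 ≠ 1 := by
  intro h
  rw [zetaE, ← wd_wpow] at h
  have h1 : (VCert.wd gE (wpow 3 zW) : ↥GE).1 = 1 := congrArg Subtype.val h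
  rw [wd_gE_val, wd_gX] at h1
  have h2 : VCert.wd pm4 (wpow 3 zW) = 1 := congrArg Prod.fst h1
  have h3 := wd_pm4_val (wpow 3 zW) ⟨0, by norm_num⟩
  rw [h2] at h3
  exact ne4 h3.symm

theorem zetaE_pow_two : zetaE ^ 2 ≠ 1 := by
  intro h
  rw [zetaE, ← wd_wpow] at h
  have h1 : (VCert.wd gE (wpow 2 zW) : ↥GE).1 = 1 := congrArg Subtype.val h
  rw [wd_gE_val, wd_gX] at h1
  have h2 : VCert.wd pm3 (wpow 2 zW) = 1 := congrArg (fun t => t.2.1) h1
  have h3 := wd_pm3_val (wpow 2 zW) ⟨0, by norm_num⟩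
  rw [h2] at h3
  exact ne3 h3.symm

theorem orderOf_zetaE : orderOf zetaE = 6 := by
  apply orderOf_eq_of_pow_and_pow_div_prime (by norm_num) zetaE_pow_twelve
  intro p hp hd
  have hp' : p = 2 ∨ p = 3 := by
    have h1 : p ∣ 2 * 3 := by norm_num; exact hd
    rcases (Nat.Prime.dvd_mul hp).1 h1 with h | h
    · exact Or.inl ((Nat.prime_dvd_prime_iff_eq hp Nat.prime_two).1 h)
    · exact Or.inr ((Nat.prime_dvd_prime_iff_eq hp Nat.prime_three).1 h)
  rcases hp' with rfl | rfl
  · exact zetaE_pow_three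
  · exact zetaE_pow_two

/-! ### the hypotheses of the table -/

theorem gE_two_pow : gE 2 ^ 5 = 1 := by
  have h4 := chk_ex4
  have h3 := chk_ex3
  rw [allN_iff] at h4 h3
  have h := wd_gE_eq (w := wpow 5 [2]) (w' := []) (fun p hp => Nat.eq_of_beq_eq_true (Bool.and_eq_true _ _ ▸ h4 p hp).1)
    (fun p hp => Nat.eq_of_beq_eq_true (Bool.and_eq_true _ _ ▸ h3 p hp).1) (by
      rw [← chk_W2]; exact wd_lK_W (by norm_num))
  rw [wd_wpow, VCert.wd_cons, VCert.wd_nil, mul_one] at h
  exact h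

theorem gE_y_wd : VCert.wd gE (wpow 5 yW) = 1 := by
  have h4 := chk_ex4
  have h3 := chk_ex3
  rw [allN_iff] at h4 h3
  exact wd_gE_eq (w := wpow 5 yW) (w' := []) (fun p hp => Nat.eq_of_beq_eq_true (Bool.and_eq_true _ _ ▸ h4 p hp).2)
    (fun p hp => Nat.eq_of_beq_eq_true (Bool.and_eq_true _ _ ▸ h3 p hp).2) (by
      rw [← chk_W3]; exact wd_lK_W (by norm_num))

/-- the value of the word of which a power is the second trivial word -/
noncomputable def yE : ↥GE := VCert.wd gE yW

theorem yE_pow : yE ^ 5 = 1 := by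
  rw [yE, ← wd_wpow]
  exact gE_y_wd

theorem gE_iv (x : ℕ) (hx : x < 4) : gE (Nat.xor x 1) = (gE x)⁻¹ := by
  rw [← ivx_eq x hx]
  exact gE_ivx x hx

theorem wd_gE_mem_ker {i : ℕ} (hi : i < 12) : VCert.wd gE (cert.W i) ∈ sigE.ker := by
  rw [MonoidHom.mem_ker, sigE_wd, wd_lK_W hi]

theorem zE_mem_ker (j : ℕ) : ((zE j : Subgroup.center ↥GE) : ↥GE) ∈ sigE.ker := by
  rw [MonoidHom.mem_ker, zE, Subgroup.coe_pow, map_pow]
  show sigE zetaE ^ mE j = 1
  rw [sigE_zetaE, one_pow]

theorem hW0_E : ∀ i, i < cert.nW → cert.wT i = 0 →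
    VCert.wd gE (cert.W i) = ((cert.ek zE i : Subgroup.center ↥GE) : ↥GE) := by
  intro i hi hT
  rcases chk_wT i hi hT with rfl | rfl | ⟨j, hj, rfl⟩
  · rw [VCert.ek, cert.kap_one _ fun l hl => (chk_ex l hl).1, chk_W2, wd_wpow, VCert.wd_cons, VCert.wd_nil, mul_one]
    exact gE_two_pow
  · rw [VCert.ek, cert.kap_one _ fun l hl => (chk_ex l hl).2, chk_W3]
    exact gE_y_wd
  · rw [VCert.ek, cert.kap_unit _ hj (chk_ax j hj)]
    have h := wd_gE_eq (w := cert.W (axI j)) (w' := wpow (mE j) zW) (fun p hp => ax4 hj hp) (fun p hp => ax3 hj hp) (by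
        rw [wd_lK_W (axI_lt j), wd_lK_wpow_zW])
    rw [h, wd_wpow]
    rfl

theorem hgen_E : ∀ y : ↥GE, ∃ u : List ℕ, (∀ x ∈ u, x < cert.g) ∧ y = (u.map gE).prod := by
  apply exists_word_of_closure gE 4 (fun x => Nat.xor x 1) _ closure_gE
  intro x hx
  refine ⟨?_, gE_iv x hx⟩
  have : x = 0 ∨ x = 1 ∨ x = 2 ∨ x = 3 := by omega
  rcases this with rfl | rfl | rfl | rfl <;> decide

/-- **the kernel of the projection is generated by the powers of the central element that belong to the table** -/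
theorem ker_sigE : sigE.ker = Zc zE 2 := by
  refine ker_eq_Zc sigE cert gE zE 2 5 sigE_surj (by rw [G_card]; rfl) (by decide) (by norm_num)
    ?_ gE_two_pow ?_ (fun j _ => zE_mem_ker j) hgen_E (by decide) (by decide) gE_iv
    (fun i hi => wd_gE_mem_ker hi) hW0_E cert_all cert_wall
  · intro i hi
    rw [sigE_gE] at hi
    exact dvd_of_lK_two_pow hi
  · intro x hx
    have hx' : x = 2 ∨ x = 3 := by
      have : (Nat.beq x 2 || Nat.beq x 3) = true := hx
      rw [Bool.or_eq_true] at this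
      rcases this with h | h
      · exact Or.inl (Nat.eq_of_beq_eq_true h)
      · exact Or.inr (Nat.eq_of_beq_eq_true h)
    rcases hx' with rfl | rfl
    · exact Subgroup.mem_zpowers _
    · have : gE 3 = (gE 2)⁻¹ := gE_iv 2 (by norm_num)
      rw [this]
      exact Subgroup.inv_mem _ (Subgroup.mem_zpowers _)

theorem ker_sigE_le : sigE.ker ≤ Subgroup.zpowers zetaE := by
  rw [ker_sigE]
  exact Zc_le_zpowers zE 2 zetaC (fun j => (mE j : ℤ)) (fun j _ => by rw [zE, zpow_natCast])

theorem zetaE_mem_ker : zetaE ∈ sigE.ker := MonoidHom.mem_ker.2 sigE_zetaE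

/-! ### the extension is perfect -/

theorem exists_mul_zpow (x : ↥GE) : ∃ d ∈ commutator ↥GE, ∃ i : ℤ, x = d * zetaE ^ i := by
  have hg : sigE x ∈ Subgroup.map sigE (commutator ↥GE) := by
    rw [commutator_def, Subgroup.map_commutator, ← MonoidHom.range_eq_map, MonoidHom.range_eq_top.2 sigE_surj,
      ← commutator_def, G_perfect]
    exact Subgroup.mem_top _
  obtain ⟨d, hd, hdx⟩ := hg
  have hk : d⁻¹ * x ∈ sigE.ker := by
    rw [MonoidHom.mem_ker, map_mul, map_inv, hdx, inv_mul_cancel]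
  obtain ⟨i, hi⟩ := Subgroup.mem_zpowers_iff.1 (ker_sigE_le hk)
  exact ⟨d, hd, i, by rw [hi, mul_inv_cancel_left]⟩

theorem commutator_GE : commutator ↥GE = ⊤ := by
  have m2 : gE 2 ∈ commutator ↥GE := by
    obtain ⟨d, hd, i, hx⟩ := exists_mul_zpow (gE 2)
    exact mem_of_pow_eq_one _ zetaE zetaE_mem_center 6 zetaE_pow_twelve _ d i hd hx 5 5 4 gE_two_pow (by norm_num)
  have my : yE ∈ commutator ↥GE := by
    obtain ⟨d, hd, i, hx⟩ := exists_mul_zpow yE
    exact mem_of_pow_eq_one _ zetaE zetaE_mem_center 6 zetaE_pow_twelve _ d i hd hx 5 5 4 yE_pow (by norm_num)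
  have m1 : gE 1 ∈ commutator ↥GE := by
    have : gE 1 = (gE 2)⁻¹ * yE * (gE 2)⁻¹ := by
      simp only [yE, yW, VCert.wd_cons, VCert.wd_nil, mul_one]
      group
    rw [this]
    exact mul_mem (mul_mem (inv_mem m2) my) (inv_mem m2)
  have m0 : gE 0 ∈ commutator ↥GE := by
    have : gE 0 = (gE 1)⁻¹ := by
      have := gE_iv 1 (by norm_num)
      exact this
    rw [this]
    exact inv_mem m1
  have m3 : gE 3 ∈ commutator ↥GE := by
    have : gE 3 = (gE 2)⁻¹ := gE_iv 2 (by norm_num)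
    rw [this]
    exact inv_mem m2
  rw [eq_top_iff, ← closure_gE, Subgroup.closure_le]
  rintro _ ⟨x, hx, rfl⟩
  have hx' : x < 4 := hx
  have : x = 0 ∨ x = 1 ∨ x = 2 ∨ x = 3 := by omega
  rcases this with rfl | rfl | rfl | rfl
  · exact m0
  · exact m1
  · exact m2
  · exact m3

/-- **a stem extension of the alternating group with cyclic kernel of order six** -/
theorem stem_GE : IsStemExtension sigE ∧ Nonempty (↥sigE.ker ≃* Multiplicative (ZMod 6)) := by
  refine ⟨⟨sigE_surj, ?_, ?_⟩, ?_⟩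
  · rw [ker_sigE]
    exact Zc_le_center zE 2
  · rw [commutator_GE]
    exact le_top
  · exact nonempty_equiv_zmod sigE.ker zetaE zetaE_mem_ker ker_sigE_le 6 orderOf_zetaE

/-- **the Schur multiplier of the alternating group is cyclic of order six** -/
theorem multiplier_alt : Cfsg.HasCyclicSchurMultiplier ↥(alternatingGroup (Fin 6)) 6 := by
  constructor
  · have h := stem_GE
    have hfin : Finite ↥GE := inferInstance
    exact ⟨↥GE, inferInstance, hfin, sigE, h.1, h.2⟩
  · intro Γ _ _ σ hσ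
    exact exists_surj_of_stem σ hσ.1 hσ.2.1 hσ.2.2

end Cfsg.Agent.Lib.Helper7.A6Mul
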