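import Cfsg.Agent.Lib.Helper7.MGenD

/-!
# More tools for the multiplier of a group given by a checked table

Relations between commuting elements that make a group cyclic up to torsion prime to its order; alternating groups
generated by words, by a chain of stabilisers of points.
-/

set_option autoImplicit false

namespace Cfsg.Agent.Lib.Helper7.MG

/-! ### relations up to a factor -/

section comb

variable {A : Type*} [CommGroup A] (z : ℕ → A) (k : ℕ)

theorem zprod_mem (S : Subgroup A) (hz : ∀ j, j < k → z j ∈ S) (e : ℕ → ℤ) : zprod z k e ∈ S := by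
  unfold zprod
  apply Subgroup.prod_mem
  intro j hj
  exact Subgroup.zpow_mem _ (hz j (Finset.mem_range.1 hj)) _

theorem zprod_single {j : ℕ} (hj : j < k) : zprod z k (fun l => if l = j then (1 : ℤ) else 0) = z j := by
  unfold zprod
  rw [Finset.prod_eq_single j]
  · simp
  · intro b _ hb
    show z b ^ (if b = j then (1 : ℤ) else 0) = 1
    rw [if_neg hb, zpow_zero]
  · intro hn
    exact absurd (Finset.mem_range.2 hj) hn

variable (R : List (List ℤ)) (hR : ∀ r ∈ R, zprod z k (fun l => r.getD l 0) = 1)

include hR in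
/-- **every generator is a power of one element, of which a given power is trivial**, when the relations give this
up to a factor `q` and the elements have no torsion that divides `q` -/
theorem cyclic_of_relations_q (S : Subgroup A) (hzS : ∀ j, j < k → z j ∈ S) (q : ℕ)
    (hq : ∀ u, u ∈ S → u ^ q = 1 → u = 1) (c m : List ℤ) (N : ℤ) (lam : List (List ℤ)) (mu : List ℤ)
    (h1 : ∀ j, j < k → ∀ l, l < k →
      (q : ℤ) * ((if l = j then 1 else 0) - m.getD j 0 * c.getD l 0) = dotL (lam.getD j []) R l)
    (h2 : ∀ l, l < k → (q : ℤ) * (N * c.getD l 0) = dotL mu R l) :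
    (∀ j, j < k → z j = zprod z k (fun l => c.getD l 0) ^ m.getD j 0) ∧
      zprod z k (fun l => c.getD l 0) ^ N = 1 := by
  have hg : zprod z k (fun l => c.getD l 0) ∈ S := zprod_mem z k S hzS _
  constructor
  · intro j hj
    have h3 := zprod_dotL z k (lam.getD j []) R hR
    rw [← zprod_congr z k (h1 j hj), zprod_smul] at h3
    have e : (fun l => (if l = j then (1 : ℤ) else 0) - m.getD j 0 * c.getD l 0) =
        fun l => (if l = j then (1 : ℤ) else 0) + (-(m.getD j 0)) * c.getD l 0 := by
      funext l; ring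
    rw [e, zprod_add, zprod_smul, zprod_single z k hj, zpow_natCast] at h3
    have h4 := hq _ (S.mul_mem (hzS j hj) (S.zpow_mem hg _)) h3
    rw [zpow_neg, mul_inv_eq_one] at h4
    exact h4
  · have h3 := zprod_dotL z k mu R hR
    rw [← zprod_congr z k h2, zprod_smul, zprod_smul, zpow_natCast] at h3
    exact hq _ (S.zpow_mem hg _) h3

end comb

/-- an element of a finite group whose order is prime to `q` has no torsion that divides `q` -/
theorem eq_one_of_pow_of_coprime {K : Type*} [Group K] [Finite K] (q : ℕ) (hc : (Nat.card K).Coprime q) (u : K)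
    (hu : u ^ q = 1) : u = 1 := by
  have h1 : orderOf u ∣ q := orderOf_dvd_of_pow_eq_one hu
  have h2 : orderOf u ∣ Nat.card K := orderOf_dvd_natCard u
  have h3 : orderOf u ∣ 1 := by
    have := Nat.dvd_gcd h2 h1
    rwa [hc] at this
  exact orderOf_eq_one_iff.1 (Nat.dvd_one.1 h3)

/-! ### the exponent sum of the first generator -/

/-- the exponent sum of the first generator in a word in the letters `a, a⁻¹, …` -/
def expsum : List ℕ → ℤ
  | [] => 0
  | x :: w => (if x = 0 then 1 else if x = 1 then -1 else 0) + expsum w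

/-- multiplying the first generator by a central element multiplies the value of a word by a power -/
theorem wd_central_mul {Γ : Type*} [Group Γ] (γ γ' : ℕ → Γ) (w : Γ) (hw : w ∈ Subgroup.center Γ)
    (h0 : γ' 0 = γ 0 * w) (h1 : γ' 1 = γ 1 * w⁻¹) (hx : ∀ x, x ≠ 0 → x ≠ 1 → γ' x = γ x) :
    ∀ u : List ℕ, VCert.wd γ' u = VCert.wd γ u * w ^ expsum u
  | [] => by simp [VCert.wd_nil, expsum]
  | x :: u => by
    have hc : ∀ (i : ℤ) (y : Γ), w ^ i * y = y * w ^ i := fun i y =>
      (Subgroup.mem_center_iff.1 (Subgroup.zpow_mem _ hw i) y).symm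
    rw [VCert.wd_cons, VCert.wd_cons, wd_central_mul γ γ' w hw h0 h1 hx u, expsum]
    by_cases hx0 : x = 0
    · subst hx0
      rw [h0, if_pos rfl, zpow_add, zpow_one]
      have := hc 1 (VCert.wd γ u)
      rw [zpow_one] at this
      rw [mul_assoc (γ 0), ← mul_assoc w, this]
      simp only [mul_assoc]
    · by_cases hx1 : x = 1
      · subst hx1
        rw [h1, if_neg (by norm_num), if_pos rfl, zpow_add, zpow_neg, zpow_one]
        have := hc (-1) (VCert.wd γ u)
        rw [zpow_neg, zpow_one] at this
        rw [mul_assoc (γ 1), ← mul_assoc w⁻¹, this]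
        simp only [mul_assoc]
      · rw [hx x hx0 hx1, if_neg hx0, if_neg hx1, zero_add, mul_assoc]

/-! ### repeated words, and cyclic Sylow subgroups -/

/-- the repetition of a word -/
def wpow : ℕ → List ℕ → List ℕ
  | 0, _ => []
  | m + 1, w => w ++ wpow m w

theorem wd_wpow {Γ : Type*} [Group Γ] (γ : ℕ → Γ) (w : List ℕ) : ∀ m, VCert.wd γ (wpow m w) = VCert.wd γ w ^ m
  | 0 => by rw [wpow, VCert.wd_nil, pow_zero]
  | m + 1 => by rw [wpow, VCert.wd_append, wd_wpow γ w m, pow_succ']

/-- a Sylow subgroup of prime order is cyclic -/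
theorem isCyclic_sylow_of_card_eq {G : Type*} [Group G] [Finite G] (p m : ℕ) [hp : Fact p.Prime]
    (hc : Nat.card G = p * m) (hm : ¬ p ∣ m) (P : Sylow p G) : IsCyclic ↥P := by
  have hm0 : m ≠ 0 := by
    rintro rfl
    exact hm (dvd_zero p)
  have h1 : Nat.card (P : Subgroup G) = p := by
    rw [Sylow.card_eq_multiplicity, hc, Nat.factorization_mul hp.1.ne_zero hm0, Finsupp.add_apply,
      Nat.Prime.factorization_self hp.1, Nat.factorization_eq_zero_of_not_dvd hm, pow_one]
  exact isCyclic_of_prime_card (α := (P : Subgroup G)) h1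

/-- the letters of the subgroup of the table -/
theorem eq_two_or_three {x : ℕ} (hx : (Nat.beq x 2 || Nat.beq x 3) = true) : x = 2 ∨ x = 3 := by
  rw [Bool.or_eq_true] at hx
  rcases hx with h | h
  · exact Or.inl (Nat.eq_of_beq_eq_true h)
  · exact Or.inr (Nat.eq_of_beq_eq_true h)

/-! ### alternating groups -/

/-- an even permutation that fixes all points but two is trivial -/
theorem eq_one_of_fix {n : ℕ} (g : Equiv.Perm (Fin (n + 2))) (hg : Equiv.Perm.sign g = 1)
    (hfix : ∀ i : Fin (n + 2), i.val < n → g i = i) : g = 1 := by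
  set u : Fin (n + 2) := ⟨n, by omega⟩ with hu
  set v : Fin (n + 2) := ⟨n + 1, by omega⟩ with hv
  have huv : u ≠ v := by
    intro h
    have := congrArg Fin.val h
    simp [hu, hv] at this
  have hcases : ∀ i : Fin (n + 2), i.val < n ∨ i = u ∨ i = v := by
    intro i
    have := i.2
    rcases Nat.lt_or_ge i.val n with h | h
    · exact Or.inl h
    · rcases Nat.eq_or_lt_of_le h with h' | h'
      · exact Or.inr (Or.inl (Fin.ext h'.symm))
      · exact Or.inr (Or.inr (Fin.ext (by simp [hv]; omega)))
  have hnot : ∀ x : Fin (n + 2), ¬ x.val < n → ¬ (g x).val < n := by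
    intro x hx h
    have h1 := hfix (g x) h
    have h2 : g x = x := g.injective h1
    rw [h2] at h
    exact hx h
  have hun : ¬ u.val < n := by simp [hu]
  have hvn : ¬ v.val < n := by simp [hv]
  rcases hcases (g u) with h | h | h
  · exact absurd h (hnot u hun)
  · -- `g u = u`
    have hgv : g v = v := by
      rcases hcases (g v) with h' | h' | h'
      · exact absurd h' (hnot v hvn)
      · exact absurd (g.injective (h'.trans h.symm)) huv.symm
      · exact h'
    apply Equiv.ext
    intro i
    rcases hcases i with hi | rfl | rfl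
    · exact hfix i hi
    · exact h
    · exact hgv
  · -- `g u = v`
    have hgv : g v = u := by
      rcases hcases (g v) with h' | h' | h'
      · exact absurd h' (hnot v hvn)
      · exact h'
      · exact absurd (g.injective (h'.trans h.symm)) huv.symm
    have e : g = Equiv.swap u v := by
      apply Equiv.ext
      intro i
      rcases hcases i with hi | rfl | rfl
      · rw [hfix i hi, Equiv.swap_apply_of_ne_of_ne]
        · rintro rfl; exact hun hi
        · rintro rfl; exact hvn hi
      · rw [h, Equiv.swap_apply_left]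
      · rw [hgv, Equiv.swap_apply_right]
    rw [e, Equiv.Perm.sign_swap huv] at hg
    exact absurd hg (by decide)

section chain

variable {n : ℕ} (ℓ : ℕ → ↥(alternatingGroup (Fin (n + 2)))) (ev : List ℕ → ℕ → ℕ)
  (hev : ∀ (w : List ℕ) (p : Fin (n + 2)), ((VCert.wd ℓ w : ↥(alternatingGroup (Fin (n + 2)))).1 p).val = ev w p.val)
  (wit : ℕ → List (List ℕ))
  (hwit : ∀ k, k < n → ∀ p, p < n + 2 → k ≤ p → ∃ w ∈ wit k, (∀ i, i < k → ev w i = i) ∧ ev w p = k)

include hev hwit in
theorem exists_word_fix (g : ↥(alternatingGroup (Fin (n + 2)))) : ∀ k, k ≤ n →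
    ∃ w : List ℕ, ∀ i : Fin (n + 2), i.val < k → (VCert.wd ℓ w * g).1 i = i
  | 0, _ => ⟨[], fun i hi => absurd hi (Nat.not_lt_zero _)⟩
  | k + 1, hk => by
    obtain ⟨w, hw⟩ := exists_word_fix g k (by omega)
    set g1 := VCert.wd ℓ w * g with hg1
    set kk : Fin (n + 2) := ⟨k, by omega⟩ with hkk
    have hp : k ≤ (g1.1 kk).val := by
      by_contra hlt
      have h1 := hw (g1.1 kk) (by omega)
      have h2 : g1.1 kk = kk := g1.1.injective h1
      rw [h2] at hlt
      exact hlt (le_refl k)
    obtain ⟨w', _, hw1, hw2⟩ := hwit k (by omega) (g1.1 kk).val (g1.1 kk).2 hp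
    refine ⟨w' ++ w, ?_⟩
    intro i hi
    rw [VCert.wd_append, mul_assoc, ← hg1]
    apply Fin.ext
    rw [Subgroup.coe_mul, Equiv.Perm.mul_apply, hev]
    rcases Nat.lt_succ_iff_lt_or_eq.1 hi with h | h
    · rw [hw i h]
      exact hw1 i.val h
    · have : i = kk := Fin.ext h
      rw [this, hw2]

include hev hwit in
/-- **an alternating group is generated by letters, if words in them move the points as a chain of stabilisers
does** -/
theorem alt_closure_of_chain (S : Subgroup ↥(alternatingGroup (Fin (n + 2)))) (hS : ∀ w, VCert.wd ℓ w ∈ S) :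
    S = ⊤ := by
  rw [Subgroup.eq_top_iff']
  intro g
  obtain ⟨w, hw⟩ := exists_word_fix ℓ ev hev wit hwit g n le_rfl
  have h1 : (VCert.wd ℓ w * g).1 = 1 :=
    eq_one_of_fix _ (Equiv.Perm.mem_alternatingGroup.1 (VCert.wd ℓ w * g).2) hw
  have h2 : VCert.wd ℓ w * g = 1 := Subtype.ext h1
  have h3 : g = (VCert.wd ℓ w)⁻¹ := eq_inv_of_mul_eq_one_right h2
  rw [h3]
  exact S.inv_mem (hS w)

end chain

end Cfsg.Agent.Lib.Helper7.MG
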