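import Cfsg.Agent.Lib.Helper7.A6MulGD
import Cfsg.Agent.Lib.Helper7.A6MulD
import Cfsg.Agent.Lib.Helper7.MGenE

/-!
# The multiplier of the alternating group of degree six: the letters in the alternating group

Two even permutations generate the alternating group and satisfy all the words of the certificate.
-/

set_option autoImplicit false
set_option maxRecDepth 100000

namespace Cfsg.Agent.Lib.Helper7.A6Mul

open Cfsg Cfsg.Agent.Lib.Helper7.MG Cfsg.Agent.Lib.Helper7.HSMult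

/-- the lists of the letters -/
def letL : ℕ → List ℕ
  | 0 => lA
  | 1 => lAi
  | 2 => lC
  | 3 => lCi
  | _ => idl

/-- the lists of the inverses of the letters -/
def letLi : ℕ → List ℕ
  | 0 => lAi
  | 1 => lA
  | 2 => lCi
  | 3 => lC
  | _ => idl

theorem letL_ok : ∀ x p, p < 6 → (letL x).getD p 0 < 6 ∧ (letLi x).getD ((letL x).getD p 0) 0 = p
  | 0 => by decide
  | 1 => by decide
  | 2 => by decide
  | 3 => by decide
  | _ + 4 => by
    show ∀ p, p < 6 → idl.getD p 0 < 6 ∧ idl.getD (idl.getD p 0) 0 = p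
    decide

theorem letLi_ok : ∀ x p, p < 6 → (letLi x).getD p 0 < 6 ∧ (letL x).getD ((letLi x).getD p 0) 0 = p
  | 0 => by decide
  | 1 => by decide
  | 2 => by decide
  | 3 => by decide
  | _ + 4 => by
    show ∀ p, p < 6 → idl.getD p 0 < 6 ∧ idl.getD (idl.getD p 0) 0 = p
    decide

/-- the letters as permutations -/
def pL (x : ℕ) : Equiv.Perm (Fin 6) :=
  permOf 6 (fun p => (letL x).getD p 0) (fun p => (letLi x).getD p 0) (letL_ok x) (letLi_ok x)

theorem pL_val (x : ℕ) (p : Fin 6) : (pL x p).val = (letL x).getD p.val 0 := rfl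

theorem pL_of_ge {x : ℕ} (hx : 4 ≤ x) : pL x = 1 := by
  obtain ⟨y, rfl⟩ : ∃ y, x = y + 4 := ⟨x - 4, by omega⟩
  apply Equiv.ext
  intro p
  apply Fin.ext
  rw [pL_val]
  show idl.getD p.val 0 = p.val
  have : ∀ p : Fin 6, idl.getD p.val 0 = p.val := by decide
  exact this p

theorem pL_sign : ∀ x, Equiv.Perm.sign (pL x) = 1
  | 0 => by decide
  | 1 => by decide
  | 2 => by decide
  | 3 => by decide
  | x + 4 => by rw [pL_of_ge (by omega)]; exact Equiv.Perm.sign_one

/-- the letters in the alternating group -/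
def lK (x : ℕ) : ↥(alternatingGroup (Fin 6)) := ⟨pL x, Equiv.Perm.mem_alternatingGroup.2 (pL_sign x)⟩

theorem lK_val (x : ℕ) (p : Fin 6) : ((lK x).1 p).val = (letL x).getD p.val 0 := rfl

/-- the image of a point under a word -/
def evK : List ℕ → ℕ → ℕ
  | [], p => p
  | x :: w, p => (letL x).getD (evK w p) 0

theorem wd_lK_val : ∀ (w : List ℕ) (p : Fin 6), ((VCert.wd lK w : ↥(alternatingGroup (Fin 6))).1 p).val = evK w p.val
  | [], _ => rfl
  | x :: w, p => by
    rw [VCert.wd_cons, Subgroup.coe_mul, Equiv.Perm.mul_apply, lK_val, wd_lK_val w p]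
    rfl

theorem wd_lK_eq {w w' : List ℕ} (h : ∀ p, p < 6 → evK w p = evK w' p) : VCert.wd lK w = VCert.wd lK w' := by
  apply Subtype.ext
  apply Equiv.ext
  intro p
  apply Fin.ext
  rw [wd_lK_val, wd_lK_val]
  exact h p.val p.2

theorem wd_lK_eq_one {w : List ℕ} (h : ∀ p, p < 6 → evK w p = p) : VCert.wd lK w = 1 :=
  wd_lK_eq (w' := []) h

/-! ### the checks -/

theorem chk_wordsK : allN 12 (fun i => strictL (cert.W i) fun w => allN 6 fun p => Nat.beq (evK w p) p) = true := by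
  decide +kernel

theorem chk_invK : ∀ x < 4, ∀ p < 6, evK [x, Nat.xor x 1] p = p := by decide +kernel

theorem chk_ordK : (∀ p < 6, evK (wpow 5 [2]) p = p) ∧ evK [2] 1 ≠ 1 := by decide +kernel

theorem chk_wit : ∀ k, k < 4 → ∀ p, p < 4 + 2 → k ≤ p →
    ∃ w ∈ wit k, (∀ i, i < k → evK w i = i) ∧ evK w p = k := by decide +kernel

theorem chk_cmA : (∀ p < 6, evK (cmA.1 ++ cmA.2.2.1) p = p) ∧ (∀ p < 6, evK (cmA.2.1 ++ cmA.2.2.2) p = p) ∧
    ∀ p < 6, evK (cmA.1 ++ (cmA.2.1 ++ (cmA.2.2.1 ++ cmA.2.2.2))) p = evK [0] p := by decide +kernel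

theorem chk_cmC : (∀ p < 6, evK (cmC.1 ++ cmC.2.2.1) p = p) ∧ (∀ p < 6, evK (cmC.2.1 ++ cmC.2.2.2) p = p) ∧
    ∀ p < 6, evK (cmC.1 ++ (cmC.2.1 ++ (cmC.2.2.1 ++ cmC.2.2.2))) p = evK [2] p := by decide +kernel

/-! ### the consequences -/

/-- **all the words of the certificate are trivial in the alternating group** -/
theorem wd_lK_W {i : ℕ} (hi : i < 12) : VCert.wd lK (cert.W i) = 1 := by
  have h := chk_wordsK
  rw [allN_iff] at h
  have h1 := h i hi
  rw [strictL_eq, allN_iff] at h1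
  exact wd_lK_eq_one fun p hp => Nat.eq_of_beq_eq_true (h1 p hp)

theorem lK_iv {x : ℕ} (hx : x < 4) : lK (Nat.xor x 1) = (lK x)⁻¹ := by
  have h := wd_lK_eq_one (chk_invK x hx)
  rw [VCert.wd_cons, VCert.wd_cons, VCert.wd_nil, mul_one] at h
  exact eq_inv_of_mul_eq_one_right h

theorem lK_of_ge {x : ℕ} (hx : 4 ≤ x) : lK x = 1 := by
  apply Subtype.ext
  exact pL_of_ge hx

theorem lK_two_pow : lK 2 ^ 5 = 1 := by
  have h := wd_lK_eq_one chk_ordK.1
  rw [wd_wpow, VCert.wd_cons, VCert.wd_nil, mul_one] at h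
  exact h

theorem lK_two_ne : lK 2 ≠ 1 := by
  intro h
  have h1 := lK_val 2 ⟨1, by norm_num⟩
  rw [h] at h1
  exact chk_ordK.2 h1.symm

theorem orderOf_lK_two : orderOf (lK 2) = 5 :=
  have : Fact (Nat.Prime 5) := ⟨by norm_num⟩
  orderOf_eq_prime lK_two_pow lK_two_ne

theorem dvd_of_lK_two_pow {i : ℕ} (h : lK 2 ^ i = 1) : 5 ∣ i := by
  rw [← orderOf_lK_two]
  exact orderOf_dvd_of_pow_eq_one h

/-! ### the letters generate the group -/

theorem lK_mem (x : ℕ) : lK x ∈ Subgroup.closure (lK '' Set.Iio 4) := by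
  rcases Nat.lt_or_ge x 4 with h | h
  · exact Subgroup.subset_closure ⟨x, h, rfl⟩
  · rw [lK_of_ge h]; exact one_mem _

theorem wd_lK_mem : ∀ w : List ℕ, VCert.wd lK w ∈ Subgroup.closure (lK '' Set.Iio 4)
  | [] => one_mem _
  | x :: w => by
    rw [VCert.wd_cons]
    exact mul_mem (lK_mem x) (wd_lK_mem w)

/-- **the letters generate the alternating group** -/
theorem closure_lK : Subgroup.closure (lK '' Set.Iio 4) = ⊤ :=
  alt_closure_of_chain (n := 4) lK evK wd_lK_val wit chk_wit _ wd_lK_mem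

theorem G_card : Nat.card ↥(alternatingGroup (Fin 6)) = 360 := by
  rw [nat_card_alternatingGroup, Nat.card_fin]
  rfl

/-- the alternating group is perfect -/
theorem G_perfect : commutator ↥(alternatingGroup (Fin 6)) = ⊤ := by
  have key : ∀ (t : List ℕ × List ℕ × List ℕ × List ℕ) (x : ℕ),
      (∀ p < 6, evK (t.1 ++ t.2.2.1) p = p) → (∀ p < 6, evK (t.2.1 ++ t.2.2.2) p = p) →
      (∀ p < 6, evK (t.1 ++ (t.2.1 ++ (t.2.2.1 ++ t.2.2.2))) p = evK [x] p) → lK x ∈ commutator ↥(alternatingGroup (Fin 6)) := by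
    intro t x h1 h2 h3
    have e1 := wd_lK_eq_one h1
    have e2 := wd_lK_eq_one h2
    have e3 := wd_lK_eq h3
    rw [VCert.wd_append] at e1 e2
    rw [VCert.wd_append, VCert.wd_append, VCert.wd_append, VCert.wd_cons, VCert.wd_nil, mul_one,
      eq_inv_of_mul_eq_one_right e1, eq_inv_of_mul_eq_one_right e2] at e3
    rw [← e3, ← mul_assoc, ← mul_assoc, ← commutatorElement_def]
    exact Subgroup.commutator_mem_commutator (Subgroup.mem_top _) (Subgroup.mem_top _)
  have m0 := key cmA 0 chk_cmA.1 chk_cmA.2.1 chk_cmA.2.2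
  have m2 := key cmC 2 chk_cmC.1 chk_cmC.2.1 chk_cmC.2.2
  rw [eq_top_iff, ← closure_lK, Subgroup.closure_le]
  rintro _ ⟨x, hx, rfl⟩
  have hx' : x < 4 := hx
  have : x = 0 ∨ x = 1 ∨ x = 2 ∨ x = 3 := by omega
  rcases this with rfl | rfl | rfl | rfl
  · exact m0
  · have : lK 1 = (lK 0)⁻¹ := lK_iv (x := 0) (by norm_num)
    rw [SetLike.mem_coe, this]
    exact inv_mem m0
  · exact m2
  · have : lK 3 = (lK 2)⁻¹ := lK_iv (x := 2) (by norm_num)
    rw [SetLike.mem_coe, this]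
    exact inv_mem m2

end Cfsg.Agent.Lib.Helper7.A6Mul
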