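import Mathlib

/-! # The multiplier of the alternating group of degree six: the letters as lists, words that show that they generate the group, and words that show that
they are commutators (generated) -/

set_option autoImplicit false

namespace Cfsg.Agent.Lib.Helper7.A6Mul

/-- the first generator -/
def lA : List ℕ := [1, 0, 3, 2, 4, 5]

/-- the inverse of the first generator -/
def lAi : List ℕ := [1, 0, 3, 2, 4, 5]

/-- the second generator -/
def lC : List ℕ := [0, 3, 4, 5, 1, 2]

/-- the inverse of the second generator -/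
def lCi : List ℕ := [0, 4, 5, 1, 2, 3]

/-- the identity -/
def idl : List ℕ := [0, 1, 2, 3, 4, 5]

/-- words that fix the first points and move a point to the next one -/
def wit : ℕ → List (List ℕ)
  | 0 => [[],
  [0],
  [0, 3, 0],
  [0, 3],
  [0, 2],
  [0, 3, 3]]
  | 1 => [[],
  [2, 2],
  [3],
  [2],
  [3, 3]]
  | 2 => [[],
  [2, 2, 0, 2, 0, 3, 0],
  [3, 3, 0, 2, 2, 0, 2, 0],
  [0, 2, 2, 0, 2, 0, 3]]
  | 3 => [[],
  [0, 3, 3, 0, 2, 2, 0, 2],
  [3, 0, 3, 3, 0, 2, 2, 0]]
  | _ => []

/-- the first generator as a commutator -/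
def cmA : List ℕ × List ℕ × List ℕ × List ℕ := ([2, 2], [2, 0, 3, 3, 0, 2, 0, 3, 0], [3, 3], [1, 2, 1, 3, 1, 2, 2, 1, 3])

/-- the second generator as a commutator -/
def cmC : List ℕ × List ℕ × List ℕ × List ℕ := ([3, 3], [0, 2, 2, 0, 3, 0, 2, 2, 0], [2, 2], [1, 3, 3, 1, 2, 1, 3, 3, 1])

end Cfsg.Agent.Lib.Helper7.A6Mul
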