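import Cfsg.Agent.Lib.Helper7.A6MulC

/-! # The multiplier of the alternating group of degree six: the check of the rows 0 to 71 of the certificate (generated) -/

set_option autoImplicit false
set_option maxRecDepth 100000

namespace Cfsg.Agent.Lib.Helper7.A6Mul

theorem rows_ok_0 : rowsOK 0 72 = true := by decide +kernel

end Cfsg.Agent.Lib.Helper7.A6Mul
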