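/-! # The multiplier of the alternating group of degree seven: the words of the certificate (generated) -/

set_option autoImplicit false

namespace Cfsg.Agent.Lib.Helper7.A7Mul

/-- the packed words -/
noncomputable def relP : Nat := 0x3330303033303030100000000000000000331333022203022010000000000000000033302202212202201000000000000000003331222122133120100000000000000000330331330330212010000000000000000033312222213030201000000000000000003031303020222020100000000000000000330313020202220010000000000000000003030331212222200f000000000000000002203302202121200f000000000000000002133021203030200f000000000000000002221330313020200f000000000000000003130331222020200f000000000000000003330221212033000f000000000000000003122131312213000f000000000000000003122133020213000f000000000000000003303312133312000f000000000000000002033002213302000f000000000000000003120212121202000f000000000000000000331333022121200e000000000000000000313030303130200e000000000000000000313122033020200e000000000000000000330202033020200e000000000000000000330221313020200e000000000000000000220221203020200e000000000000000000302122022020200e000000000000000000202020202020200e000000000000000000312131333333000e000000000000000000333333131213000e000000000000000000222022021213000e000000000000000000213121222222000e000000000000000000330303113312000e000000000000000000221130221212000e000000000000000000203312213302000e000000000000000000033122133021200d000000000000000000030313313330200d000000000000000000030333333030200d000000000000000000033313313030200d000000000000000000030202222220200d000000000000000000033122222133000d000000000000000000021330303033000d000000000000000000021220302212000d000000000000000000022030221212000d000000000000000000030203120302000d000000000000000000003022121212200c000000000000000000003333302202200c000000000000000000003120302130200c000000000000000000000212121212000b000000000000000000000033133133000a000000000000000000000030021312000a000000000000000000000031213002000a0000000000000000000000022022022009000000000000000000000002131213000900000000000000000000000312131200090000000000000000000000003020302008000000000000000000000021212121210a00000000000000000000000002222222070000000000000000000000000000000003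

/-- the packed classes of the words -/
noncomputable def rhsP : Nat := 0x800007fff0800007fff0800208001080020800007fff07ffd080020800107ffd080010800407fff080010800007fff07ffc08008080010800007fff07800077ff0780007802077ff07800077fe07802078020780107800077fe0780107800077fe077ff0780107802077fe077ff07804077fe078000780407800077fe07801077fe078010780407800077ff0780306fff0700107001070000700106ffe070020700006ffd070020700106ffd070020700006ffd070010700106fff070010700106fff070040700006ffb0700006fff070010700006fff070010700106fff070010700006fff070010700006fff0700007000070010700006ffe0700107003067fe0680106802067ff0680106800068000680106800067ff0680106800068000680106800067ff068000680106800067ff068010680006801068010680006801068010680006802067ff060000600106000060010600006000060000600205ffe05800058000580104fff05000050010500004fff050020500004fff0500204801048000480004800047ff0480104800047ff04801040000400104000050000500005000038000380003800018000180001801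

/-- the packed times and rows of the words -/
noncomputable def wtaP : Nat := 0xa000010100000001000046010000490100000001000010010000000100000000a000020100001d01000009010000000100000c01000003010000030100000000a0000a0100000100a000010100000000a0001a01000009010000090100000101000000010000000120000000a0000000a000000100000000a0000000a0000000a0000501000001010000000100000000a000000100000100a000000100000100a0000000a0000000a0000000a0000200a000000100000000a00000004000000100000000a0000000a000000000000000a0000000a00000000000000000000000000000000

end Cfsg.Agent.Lib.Helper7.A7Mul
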