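import Cfsg.Agent.Lib.Helper7.A7MulT0
import Cfsg.Agent.Lib.Helper7.A7MulR
import Cfsg.Agent.Lib.Helper7.MGenC

/-! # The multiplier of the alternating group of degree seven: the certificate of the enumeration of the cosets (generated) -/

set_option autoImplicit false

namespace Cfsg.Agent.Lib.Helper7.A7Mul

open Cfsg.Agent.Lib.Helper7.MG Cfsg.Agent.Lib.Helper7.HSMult

/-- the part of the table that contains a row -/
noncomputable def rowSel (a : ℕ) : ℕ := rl0

/-- a row of the table -/
noncomputable def rowOf (a : ℕ) : ℕ :=
  strictN a fun a' => Nat.shiftRight (rowSel a') (Nat.mul 480 (Nat.shiftRight a' 0))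

/-- a word -/
noncomputable def wordOf (i : ℕ) : List ℕ :=
  strictN (Nat.land (Nat.shiftRight relP (Nat.mul 136 i)) 87112285931760246646623899502532662132735) fun v =>
    unp (Nat.land v 255) (Nat.shiftRight v 8)

/-- the certificate -/
noncomputable def cert : VCert where
  n := 360
  g := 4
  k := 3
  nW := 58
  B := 2048
  iv := fun x => Nat.xor x 1
  sub := fun x => Nat.beq x 2 || Nat.beq x 3
  sl := fun a x => Nat.land (Nat.shiftRight (rowOf a) (Nat.mul 114 x)) 20769187434139310514121985316880383
  pr := fun a => Nat.land (Nat.shiftRight (rowOf a) 456) 16777215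
  W := wordOf
  rhs := fun i => Nat.land (Nat.shiftRight rhsP (Nat.mul 60 i)) 1152921504606846975
  wT := fun i => Nat.land (Nat.shiftRight wtaP (Nat.mul 32 i)) 4095
  wA := fun i => Nat.land (Nat.shiftRight wtaP (Nat.add (Nat.mul 32 i) 12)) 1048575

/-- the check of the rows from `lo` to `lo + k` -/
noncomputable def rowsOK (lo k : ℕ) : Bool := allN k fun i => allN 4 fun x => cert.slotOK (Nat.add lo i) x

/-- the check of the words -/
noncomputable def wordsOK : Bool := allN 58 fun i => cert.wordOK i

end Cfsg.Agent.Lib.Helper7.A7Mul
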