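import Cfsg.Agent.Lib.Helper7.A7MulG
import Cfsg.Agent.S0102

/-!
# The multiplier of the alternating group of degree seven: the kernel of a stem extension is an image of the cyclic group of order six

Lifts of the two generators are chosen so that two of the given words are trivial; this is possible since the kernel
has order prime to the orders of these words, the Sylow subgroups for their prime divisors being cyclic.  The checked
table shows that the kernel is generated by the values of the other given words; the traced words give relations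
between them, which make the kernel cyclic of order dividing six.
-/

set_option autoImplicit false
set_option maxRecDepth 100000

namespace Cfsg.Agent.Lib.Helper7.A7Mul

open Cfsg Cfsg.Agent.Lib.Helper7.MG Cfsg.Agent.Lib.Helper7.HSMult
open scoped IsMulCommutative

/-! ### the data of the certificate -/

/-- the words that define the central elements -/
def axI : ℕ → ℕ
  | 0 => 0
  | 1 => 3
  | 2 => 6
  | _ => 0

theorem axI_lt : ∀ j, axI j < 58
  | 0 => by decide
  | 1 => by decide
  | 2 => by decide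
  | _ + 3 => by
    show (0 : ℕ) < 58
    decide

/-- the word of which a power is the second trivial word -/
def yW : List ℕ := [1, 2]

theorem chk_wT : ∀ i, i < 58 → cert.wT i = 0 →
    i = 1 ∨ i = 2 ∨ ∃ j, j < 3 ∧ i = axI j := by decide +kernel

theorem chk_W2 : cert.W 1 = wpow 7 [2] := by decide +kernel

theorem chk_W3 : cert.W 2 = wpow 5 yW := by decide +kernel

theorem chk_yW : expsum (wpow 5 yW) = -5 := by decide

theorem chk_len : ∀ i, i < 58 → (cert.W i).length ≤ 255 := by decide +kernel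

theorem chk_ax : ∀ j, j < 3 → ∀ l, l < 3 →
    ((fld (cert.rhs (axI j)) l : ℤ) - ((cert.W (axI j)).length : ℤ) * (cert.B : ℤ)) = if l = j then 1 else 0 := by
  decide +kernel

theorem chk_ex : ∀ l, l < 3 →
    (((fld (cert.rhs 1) l : ℤ) - ((cert.W 1).length : ℤ) * (cert.B : ℤ)) = 0 ∧
     ((fld (cert.rhs 2) l : ℤ) - ((cert.W 2).length : ℤ) * (cert.B : ℤ)) = 0) := by
  decide +kernel

/-- the relations between the central elements that the traced words give -/
def relL : List (List ℤ) := [[0, (-3), (-1)],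
    [(-14), (-15), 9],
    [3, 6, (-6)]]

/-- the exponents of the generator of the kernel -/
def cL : List ℤ := [0, 1, 0]

/-- the central elements as powers of the generator -/
def mL : List ℤ := [0, 1, 3]

/-- the combinations of the relations that express the central elements by the generator -/
def lamL : List (List ℤ) := [[6, (-4), (-7)],
    [0, 0, 0],
    [22, (-3), (-14)]]

/-- the combination of the relations that gives the order of the generator -/
def muL : List ℤ := [(-57), 3, 14]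

theorem chk_rel_0 : ∀ l, l < 3 → ((fld (cert.rhs 54) l : ℤ) - (fld 36026632360722433 l : ℤ)) = (relL.getD 0 []).getD l 0 := by
  decide +kernel

theorem chk_rel_1 : ∀ l, l < 3 → ((fld (cert.rhs 31) l : ℤ) - (fld 31519729913982985 l : ℤ)) = (relL.getD 1 []).getD l 0 := by
  decide +kernel

theorem chk_rel_2 : ∀ l, l < 3 → ((fld (cert.rhs 30) l : ℤ) - (fld 31531824518819838 l : ℤ)) = (relL.getD 2 []).getD l 0 := by
  decide +kernel

theorem chk_lam : ∀ j, j < 3 → ∀ l, l < 3 →
    ((35 : ℕ) : ℤ) * ((if l = j then 1 else 0) - mL.getD j 0 * cL.getD l 0) = dotL (lamL.getD j []) relL l := by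
  decide +kernel

theorem chk_mu : ∀ l, l < 3 → ((35 : ℕ) : ℤ) * ((6 : ℤ) * cL.getD l 0) = dotL muL relL l := by decide +kernel

section upper

variable {Γ : Type} [Group Γ] [Finite Γ] (σ : Γ →* ↥(alternatingGroup (Fin 7))) (hsurj : Function.Surjective σ)
  (hcen : σ.ker ≤ Subgroup.center Γ) (hder : σ.ker ≤ commutator Γ)

include hsurj hcen hder in
theorem not_dvd_card_ker : ¬ 5 ∣ Nat.card σ.ker ∧ ¬ 7 ∣ Nat.card σ.ker := by
  have hperf := perfect_of_stem σ hsurj hcen hder G_perfect
  have : Fact (Nat.Prime 5) := ⟨by norm_num⟩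
  have : Fact (Nat.Prime 7) := ⟨by norm_num⟩
  refine ⟨?_, ?_⟩
  · exact Cfsg.Agent.S0102.result G_perfect
      (fun P => isCyclic_sylow_of_card_eq 5 504 (by rw [G_card]) (by norm_num) P) σ hsurj hcen hperf
  · exact Cfsg.Agent.S0102.result G_perfect
      (fun P => isCyclic_sylow_of_card_eq 7 360 (by rw [G_card]) (by norm_num) P) σ hsurj hcen hperf

/-! ### the letters in the extension -/

/-- the letters in the extension -/
def gU (a c : Γ) : ℕ → Γ
  | 0 => a
  | 1 => a⁻¹
  | 2 => c
  | 3 => c⁻¹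
  | _ => 1

omit [Finite Γ] in
theorem map_gU (a c : Γ) (ha : σ a = lK 0) (hc : σ c = lK 2) : ∀ x, σ (gU a c x) = lK x
  | 0 => ha
  | 1 => by
    show σ a⁻¹ = lK 1
    rw [map_inv, ha]
    exact (lK_iv (x := 0) (by norm_num)).symm
  | 2 => hc
  | 3 => by
    show σ c⁻¹ = lK 3
    rw [map_inv, hc]
    exact (lK_iv (x := 2) (by norm_num)).symm
  | x + 4 => by
    show σ 1 = lK (x + 4)
    rw [map_one, lK_of_ge (by omega)]

omit [Finite Γ] in
theorem map_wd_gU (a c : Γ) (ha : σ a = lK 0) (hc : σ c = lK 2) :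
    ∀ w : List ℕ, σ (VCert.wd (gU a c) w) = VCert.wd lK w
  | [] => map_one σ
  | x :: w => by
    rw [VCert.wd_cons, VCert.wd_cons, map_mul, map_gU σ a c ha hc x, map_wd_gU a c ha hc w]

include hsurj hcen hder in
/-- **lifts of the generators for which the two words are trivial** -/
theorem exists_lifts : ∃ a c : Γ, σ a = lK 0 ∧ σ c = lK 2 ∧ c ^ 7 = 1 ∧
    VCert.wd (gU a c) (wpow 5 yW) = 1 := by
  obtain ⟨hnd5, hnd7⟩ := not_dvd_card_ker σ hsurj hcen hder
  have cop5 : (Nat.card ↥σ.ker).Coprime 5 :=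
    ((Nat.Prime.coprime_iff_not_dvd (by norm_num)).2 hnd5).symm
  have cop7 : (Nat.card ↥σ.ker).Coprime 7 :=
    ((Nat.Prime.coprime_iff_not_dvd (by norm_num)).2 hnd7).symm
  obtain ⟨a0, ha0⟩ := hsurj (lK 0)
  obtain ⟨c0, hc0⟩ := hsurj (lK 2)
  -- the order of `c`
  have hk1 : c0 ^ 7 ∈ σ.ker := by
    rw [MonoidHom.mem_ker, map_pow, hc0, lK_two_pow]
  obtain ⟨v, hv, hvh⟩ := exists_root σ.ker 7 cop7 _ hk1
  set c := c0 * v⁻¹ with hc
  have hcc : Commute c0 v⁻¹ := by
    have := Subgroup.mem_center_iff.1 (Subgroup.inv_mem _ (hcen hv)) c0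
    exact this
  have hch : c ^ 7 = 1 := by
    rw [hc, hcc.mul_pow, inv_pow, hvh, mul_inv_cancel]
  have hσc : σ c = lK 2 := by
    rw [hc, map_mul, map_inv, MonoidHom.mem_ker.1 hv, inv_one, mul_one, hc0]
  -- the second word
  have hk2 : VCert.wd (gU a0 c) (wpow 5 yW) ∈ σ.ker := by
    rw [MonoidHom.mem_ker, map_wd_gU σ a0 c ha0 hσc, ← chk_W3]
    exact wd_lK_W (by norm_num)
  obtain ⟨w, hw, hwr⟩ := exists_root σ.ker 5 cop5 _ hk2
  have hwc : ∀ x : Γ, w⁻¹ * x = x * w⁻¹ := fun x =>
    (Subgroup.mem_center_iff.1 (Subgroup.inv_mem _ (hcen hw)) x).symm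
  refine ⟨a0 * w, c, ?_, hσc, hch, ?_⟩
  · rw [map_mul, MonoidHom.mem_ker.1 hw, mul_one, ha0]
  · rw [wd_central_mul (gU a0 c) (gU (a0 * w) c) w (hcen hw) rfl (by
        show (a0 * w)⁻¹ = a0⁻¹ * w⁻¹
        rw [mul_inv_rev, hwc]) (by
        intro x h0 h1
        match x, h0, h1 with
        | 0, h0, _ => exact absurd rfl h0
        | 1, _, h1 => exact absurd rfl h1
        | 2, _, _ => rfl
        | 3, _, _ => rfl
        | _ + 4, _, _ => rfl), chk_yW, zpow_neg, ← hwr]
    show _ * (w ^ ((5 : ℕ) : ℤ))⁻¹ = 1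
    rw [zpow_natCast, mul_inv_cancel]

variable (a c : Γ) (ha : σ a = lK 0) (hc : σ c = lK 2) (hch : c ^ 7 = 1)
  (hy : VCert.wd (gU a c) (wpow 5 yW) = 1)

include ha hc in
omit [Finite Γ] in
theorem wd_gU_mem_ker {i : ℕ} (hi : i < 58) : VCert.wd (gU a c) (cert.W i) ∈ σ.ker := by
  rw [MonoidHom.mem_ker, map_wd_gU σ a c ha hc, wd_lK_W hi]

omit [Finite Γ] in
theorem gU_iv : ∀ x, x < 4 → gU a c (Nat.xor x 1) = (gU a c x)⁻¹
  | 0, _ => rfl
  | 1, _ => (inv_inv a).symm
  | 2, _ => rfl
  | 3, _ => (inv_inv c).symm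
  | x + 4, h => absurd h (by omega)

/-- the central elements: the values of the given words -/
noncomputable def zU (j : ℕ) : Subgroup.center Γ :=
  ⟨VCert.wd (gU a c) (cert.W (axI j)), hcen (wd_gU_mem_ker σ a c ha hc (axI_lt j))⟩

include hch hy in
omit [Finite Γ] in
theorem hW0_U : ∀ i, i < cert.nW → cert.wT i = 0 →
    VCert.wd (gU a c) (cert.W i) = (cert.ek (zU σ hcen a c ha hc) i : Γ) := by
  intro i hi hT
  rcases chk_wT i hi hT with rfl | rfl | ⟨j, hj, rfl⟩
  · rw [VCert.ek, cert.kap_one _ fun l hl => (chk_ex l hl).1, chk_W2, wd_wpow, VCert.wd_cons, VCert.wd_nil, mul_one]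
    exact hch
  · rw [VCert.ek, cert.kap_one _ fun l hl => (chk_ex l hl).2, chk_W3]
    exact hy
  · rw [VCert.ek, cert.kap_unit _ hj (chk_ax j hj)]
    rfl

include hcen hder ha hc in
omit [Finite Γ] in
theorem hgen_U : ∀ y : Γ, ∃ u : List ℕ, (∀ x ∈ u, x < cert.g) ∧ y = (u.map (gU a c)).prod := by
  apply exists_word_of_closure (gU a c) 4 (fun x => Nat.xor x 1)
  · intro x hx
    refine ⟨?_, gU_iv a c x hx⟩
    have : x = 0 ∨ x = 1 ∨ x = 2 ∨ x = 3 := by omega
    rcases this with rfl | rfl | rfl | rfl <;> decide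
  · apply Cfsg.Agent.Lib.Helper7.M12Mult.closure_eq_top_of_stem (σ := σ) hcen hder
    intro g
    have hg : g ∈ Subgroup.closure (lK '' Set.Iio 4) := by rw [closure_lK]; exact Subgroup.mem_top g
    induction hg using Subgroup.closure_induction with
    | mem y hy =>
      obtain ⟨x, hx, rfl⟩ := hy
      exact ⟨gU a c x, Subgroup.subset_closure ⟨x, hx, rfl⟩, map_gU σ a c ha hc x⟩
    | one => exact ⟨1, one_mem _, map_one σ⟩
    | mul p q _ _ ihp ihq =>
      obtain ⟨p', hp', rfl⟩ := ihp
      obtain ⟨q', hq', rfl⟩ := ihq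
      exact ⟨p' * q', mul_mem hp' hq', map_mul σ p' q'⟩
    | inv p _ ihp =>
      obtain ⟨p', hp', rfl⟩ := ihp
      exact ⟨p'⁻¹, inv_mem hp', map_inv σ p'⟩

include hsurj hder hch hy in
/-- **the kernel is generated by the central elements** -/
theorem ker_eq_Zc_U : σ.ker = Zc (zU σ hcen a c ha hc) 3 := by
  refine ker_eq_Zc σ cert (gU a c) (zU σ hcen a c ha hc) 2 7 hsurj (by rw [G_card]; rfl) (by decide) (by norm_num)
    ?_ hch ?_ ?_ (hgen_U σ hcen hder a c ha hc) (by decide) (by decide) (gU_iv a c) ?_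
    (hW0_U σ hcen a c ha hc hch hy) cert_all cert_wall
  · intro i hi
    have : σ (gU a c 2) = lK 2 := hc
    rw [this] at hi
    exact dvd_of_lK_two_pow hi
  · intro x hx
    rcases eq_two_or_three hx with rfl | rfl
    · exact Subgroup.mem_zpowers _
    · exact Subgroup.inv_mem _ (Subgroup.mem_zpowers _)
  · intro j _
    exact wd_gU_mem_ker σ a c ha hc (axI_lt j)
  · intro i hi
    exact wd_gU_mem_ker σ a c ha hc hi

include hch hy in
omit [Finite Γ] in
/-- the relations between the central elements -/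
theorem rel_U : ∀ r ∈ relL, zprod (zU σ hcen a c ha hc) 3 (fun l => r.getD l 0) = 1 := by
  have hKn : ∀ u, u ∈ σ.ker → ∀ g : Γ, g * u * g⁻¹ ∈ σ.ker := fun u hu g =>
    (inferInstance : σ.ker.Normal).conj_mem u hu g
  have hHK : ∀ u, u ∈ Subgroup.zpowers (gU a c 2) → u ∈ σ.ker → u = 1 := by
    apply zpowers_inf_ker σ (gU a c) 2 7 _ hch
    intro i hi
    have : σ (gU a c 2) = lK 2 := hc
    rw [this] at hi
    exact dvd_of_lK_two_pow hi
  have hsub : ∀ x, cert.sub x = true → gU a c x ∈ Subgroup.zpowers (gU a c 2) := by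
    intro x hx
    rcases eq_two_or_three hx with rfl | rfl
    · exact Subgroup.mem_zpowers _
    · exact Subgroup.inv_mem _ (Subgroup.mem_zpowers _)
  have key : ∀ {i v row : ℕ}, i < 58 → cert.scan 4095 (cert.W i) row 0 = some (row, v) →
      cert.ek (zU σ hcen a c ha hc) i = cert.kap (zU σ hcen a c ha hc) v (cert.W i).length := by
    intro i v row hi h
    exact cert.close_spec (γ := gU a c) (H := Subgroup.zpowers (gU a c 2)) σ.ker hKn
      (fun j _ => wd_gU_mem_ker σ a c ha hc (axI_lt j)) hHK (by decide) (by decide) (gU_iv a c) hsub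
      (fun i hi => wd_gU_mem_ker σ a c ha hc hi) (hW0_U σ hcen a c ha hc hch hy) cert_all cert_wall hi
      (chk_len i hi) h
  intro r hr
  simp only [relL, List.mem_cons, List.not_mem_nil, or_false] at hr
  rcases hr with rfl | rfl | rfl
  · exact cert.rel_of_close _ (key (by norm_num) close_0) _ chk_rel_0
  · exact cert.rel_of_close _ (key (by norm_num) close_1) _ chk_rel_1
  · exact cert.rel_of_close _ (key (by norm_num) close_2) _ chk_rel_2

include hsurj hcen hder ha hc hch hy in
/-- **the kernel is an image of the cyclic group of order six** -/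
theorem exists_surj_U : ∃ π : Multiplicative (ZMod 6) →* ↥σ.ker, Function.Surjective π := by
  obtain ⟨hnd5, hnd7⟩ := not_dvd_card_ker σ hsurj hcen hder
  have cop5 : (Nat.card ↥σ.ker).Coprime 5 :=
    ((Nat.Prime.coprime_iff_not_dvd (by norm_num)).2 hnd5).symm
  have cop7 : (Nat.card ↥σ.ker).Coprime 7 :=
    ((Nat.Prime.coprime_iff_not_dvd (by norm_num)).2 hnd7).symm
  have copq : (Nat.card ↥σ.ker).Coprime 35 := by
    have := Nat.Coprime.mul_right cop5 cop7
    norm_num at this
    exact this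
  have hK := ker_eq_Zc_U σ hsurj hcen hder a c ha hc hch hy
  set S : Subgroup (Subgroup.center Γ) := σ.ker.comap (Subgroup.center Γ).subtype with hS
  have hzS : ∀ j, j < 3 → zU σ hcen a c ha hc j ∈ S := fun j _ => wd_gU_mem_ker σ a c ha hc (axI_lt j)
  have hq : ∀ u, u ∈ S → u ^ 35 = 1 → u = 1 := by
    intro u hu huq
    have h1 : (⟨(u : Γ), hu⟩ : ↥σ.ker) ^ 35 = 1 := by
      apply Subtype.ext
      rw [Subgroup.coe_pow, Subgroup.coe_one]
      show (u : Γ) ^ 35 = 1
      rw [← Subgroup.coe_pow, huq, Subgroup.coe_one]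
    have h2 := eq_one_of_pow_of_coprime 35 copq _ h1
    apply Subtype.ext
    have h3 : ((⟨(u : Γ), hu⟩ : ↥σ.ker) : Γ) = ((1 : ↥σ.ker) : Γ) := congrArg Subtype.val h2
    exact h3
  obtain ⟨hz, hN⟩ := cyclic_of_relations_q (zU σ hcen a c ha hc) 3 relL
    (rel_U σ hcen a c ha hc hch hy) S hzS 35 hq cL mL 6 lamL muL chk_lam chk_mu
  set g := zprod (zU σ hcen a c ha hc) 3 (fun l => cL.getD l 0) with hg
  have hle : σ.ker ≤ Subgroup.zpowers (g : Γ) := by
    rw [hK]
    exact Zc_le_zpowers _ 3 g (fun j => mL.getD j 0) hz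
  have hgK : (g : Γ) ∈ σ.ker := by
    have : g ∈ S := zprod_mem _ 3 S hzS _
    exact this
  set g' : ↥σ.ker := ⟨(g : Γ), hgK⟩ with hg'
  have h6 : g' ^ 6 = 1 := by
    apply Subtype.ext
    rw [Subgroup.coe_pow, Subgroup.coe_one]
    have := congrArg (fun t : Subgroup.center Γ => (t : Γ)) hN
    simpa using this
  apply exists_surj_zmod g' 6 h6
  intro y
  obtain ⟨i, hi⟩ := Subgroup.mem_zpowers_iff.1 (hle y.2)
  refine Subgroup.mem_zpowers_iff.2 ⟨i, ?_⟩
  apply Subtype.ext
  rw [Subgroup.coe_zpow]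
  exact hi

end upper

/-- **the kernel of every finite stem extension of the alternating group is an image of the cyclic group of order
six** -/
theorem exists_surj_of_stem {Γ : Type} [Group Γ] [Finite Γ] (σ : Γ →* ↥(alternatingGroup (Fin 7))) (hsurj : Function.Surjective σ)
    (hcen : σ.ker ≤ Subgroup.center Γ) (hder : σ.ker ≤ commutator Γ) :
    ∃ π : Multiplicative (ZMod 6) →* ↥σ.ker, Function.Surjective π := by
  obtain ⟨a, c, ha, hc, hch, hy⟩ := exists_lifts σ hsurj hcen hder
  exact exists_surj_U σ hsurj hcen hder a c ha hc hch hy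

end Cfsg.Agent.Lib.Helper7.A7Mul
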