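/-! # The multiplier of the alternating group of degree seven: the letters on 240 and on 45 points (generated) -/

set_option autoImplicit false

namespace Cfsg.Agent.Lib.Helper7.A7Mul

/-- the packed images of the 240 points under the letter 0 -/
noncomputable def t4_0 : Nat := 0xedd3e4d9d7c0c3e7b8b6cfefb5eceaa8e6dda5eec8d8e296c4d590bddcd18e8bcee58995c9d4869c8dcc80ebbe919ae1bae9cae0b97875e8b4dfaf6fc5b166abe3ad63839ea160bc5dcddea358aaa29f54b05bdba98a49534adac693458f7cd646d27fd08cc1a6873ecb843d62813bb3c77d3ac2657938bf7637bb9d72357034b76d327b9769315164b26c30aeaca79b5e2b6152745929a4992528a04e2a2f4f22984c20236b57471d9294431b5640191a888539827e177a77337371146e6a67682d0f115f5c5a261e55420b21504b4d090d483f441c41053c1504361203102c2e0227070a24081f0018061613010e0c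

/-- the packed images of the 240 points under the letter 1 -/
noncomputable def t4_1 : Nat := 0xe4dcefe2c4e1beb8e8dfceedafd9c0bcb6a5ded39c96ecdaeb90d6caee8ed28ce5cfa6c686bdcbdb7f95b3d7e97c8aea78c3d4a875bfbbe76fe6e3b78066b29eb563ae62b0a29be06189dd58a4a1aa54a0ab74c860c1574e6bd8cc459446c2d592d1c78bd09acd3e88c93d85ac3b82c58d3a7e916c387aba3777b95b35733471b4326e654a316a2f30b17b67ad835da92b5fa72a9d295aa34942269f985c68225053204d2197991d488f931b442519411c878417817d3c7976147270366d6964510f2e105e5259550d28560a4b4f234c0827471a433f40063904163303132c112d011e00240b1f090c051815120e0207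

/-- the packed images of the 240 points under the letter 2 -/
noncomputable def t4_2 : Nat := 0xe8e6e3c7c5d2ecbdc2bab2b1ebaeaceee5bcb0a3e7efeada9396b3dda9bfc6a09dc09092d1d5827fed7ee9e47d99dc7ad7d87776b573e181e0de6ea46d80e265b9c3b7c9d07169c8dfdb599f8887565ecb5352514cd6a548984645d994798b44d4d343cd41cf78cecc3fca62a764843c3ab4c46a3dc1a139bebb689badb85d855cb65a333186679e8d8f2eaf722dabaaa8502a972970a6279ca234362423222c47216b554b9a956c4d1c1b918e4e8c8a893718835f167c7b157574136f4f125b58666361600e0c0d0b405754260911081f4a491e0642203e1a3b3817353214302f2b102800250a021d07190504030f01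

/-- the packed images of the 240 points under the letter 3 -/
noncomputable def t4_3 : Nat := 0xdae0c7e9e3d9c5efdbeedfc4edb1b9b7a7b6d4c1a6d894bebf9aca8f8eeacbab8a888c879f85aca8ecd1eb7daee77aced277e8de76e6af72ad6ebb7ed5e5e4dd64e273e16160d35f835999b4dc5679d0a468cf57744ac2975cd64993d7cc44cd6643674191403fa3a26a70813cc9b8b2c8c6c33938c09289bdbc3635ba63aa5a33b5b3484d7ca975692eb0822d842c2b3ba0716f306da52f25a14c249e9d9c5e3242479b4b1e1d984f9695908d1a8b2686187b80167f78153e5413556c126b100f6562500e5d5b0c58230a5352514e191f1c07464517053d143a37113431210d012a282927092220061b04030208000b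

/-- the packed images of the 240 points under the central element -/
noncomputable def t4_z : Nat := 0xd9dee2e4c3e8c4eac0bcc8ecaeedb8b6a8eed3a5ce94ef93be95c68eddbdcaaa9cdb879085d184e5b1d57de9eb7a99e777d7d2e6737672e16ee0ad6d7e7fc7a963e3b58160d0b0df5f88dc5a598c8b71709b51cf9e49c14d4745d6dad84479cc43d466a2a1573ea6cd3dcbc93b62ac3ab2b3c5386ac29137bfba3568bbb9a09f32b7b431487b65742e8d692daf822baba75d5e4f2fa4a3298a4124344c229d2a5c2098531f1d9a6b971b96928f195625188986168380157c78137554126f6c0f5b67640e6150580b0c0a40550952084e4b074a064605423f043c390336330201302c0027282623211e1c1a171411100d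

/-- the packed images of the 45 points under the letter 0 -/
noncomputable def t3_0 : Nat := 0x1d9a4ae77e936096116aa2c7867015d961358754c48f3908d124b29421b88210301a

/-- the packed images of the 45 points under the letter 1 -/
noncomputable def t3_1 : Nat := 0x1ea6099fa2b8ea3458a49ddb1b1806176554c859130e40f9522892c751c843084681

/-- the packed images of the 45 points under the letter 2 -/
noncomputable def t3_2 : Nat := 0x2ca5b5d6a0f9497ea8640e6715ad868748051346241d9cb38a30122318511980d09e

/-- the packed images of the 45 points under the letter 3 -/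
noncomputable def t3_3 : Nat := 0x2c6e2ae73de9602128438c041da9911aa687155174d198d08b38c9096071857c1296

/-- the packed images of the 45 points under the central element -/
noncomputable def t3_z : Nat := 0x259e6a2481f86989eb2baa334e3d45535892cc2800420c415a6585d245075c6c61c8

end Cfsg.Agent.Lib.Helper7.A7Mul
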