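import Mathlib
import Cfsg.Prelude.Def_FusionSystem
import Cfsg.Agent.Lib.Helper7.Stability
import Cfsg.Agent.Lib.Helper7.FusionEssential
import Cfsg.Agent.Lib.Helper7.FusionSat2

set_option autoImplicit false

namespace Cfsg.Agent.Lib.Helper7.EssChain

open Cfsg Cfsg.FusionSystem Cfsg.Agent.Lib.Helper7

/-- An automorphism of `p`-power order preserving a subgroup of order `p` fixes it pointwise. -/
theorem fixes_of_card_eq_prime {G : Type*} [Group G] {p : ℕ} [Fact p.Prime] (D : Subgroup G)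
    (hD : Nat.card D = p) (β : MulAut G) (hβD : ∀ d ∈ D, β d ∈ D) {m : ℕ} (hβ : β ^ p ^ m = 1) :
    ∀ d ∈ D, β d = d := by
  have hp : p.Prime := Fact.out
  have hcyc : IsCyclic D := isCyclic_of_prime_card hD
  obtain ⟨g, hg⟩ := hcyc.exists_generator
  have hfin : Finite D := Nat.finite_of_card_ne_zero (by rw [hD]; exact hp.ne_zero)
  have hog : orderOf g = p := by
    rw [orderOf_eq_card_of_forall_mem_zpowers hg, hD]
  have hog' : orderOf (g : G) = p := by rw [Subgroup.orderOf_coe]; exact hog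
  -- β g = g ^ j
  have hβg : (⟨β g, hβD g g.2⟩ : D) ∈ Subgroup.zpowers g := hg _
  rw [← mem_powers_iff_mem_zpowers] at hβg
  obtain ⟨j, hj⟩ := hβg
  have hj' : β (g : G) = (g : G) ^ j := by
    have := congrArg (fun z : D => (z : G)) hj
    simpa using this.symm
  have hpow : ∀ n : ℕ, (β ^ n) (g : G) = (g : G) ^ (j ^ n) := by
    intro n
    induction n with
    | zero => simp
    | succ n ih =>
      rw [pow_succ', MulAut.mul_apply, ih, map_pow, hj', ← pow_mul, pow_succ']
  have h1 := hpow (p ^ m)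
  rw [hβ, MulAut.one_apply] at h1
  have h2 : (g : G) ^ (j ^ p ^ m) = (g : G) ^ 1 := by rw [pow_one]; exact h1.symm
  rw [pow_eq_pow_iff_modEq, hog'] at h2
  have h3 : ((j : ZMod p)) = 1 := by
    have := (ZMod.natCast_eq_natCast_iff _ _ _).mpr h2
    rw [Nat.cast_pow, ZMod.pow_card_pow, Nat.cast_one] at this
    exact this
  have h4 : j ≡ 1 [MOD p] := by
    rw [← ZMod.natCast_eq_natCast_iff, h3, Nat.cast_one]
  have h5 : β (g : G) = (g : G) := by
    rw [hj']
    have : (g : G) ^ j = (g : G) ^ 1 := by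
      rw [pow_eq_pow_iff_modEq, hog']; exact h4
    rw [this, pow_one]
  intro d hd
  have hd' : (⟨d, hd⟩ : D) ∈ Subgroup.zpowers g := hg _
  obtain ⟨k, hk⟩ := hd'
  have hk' : d = (g : G) ^ k := by
    have := congrArg (fun z : D => (z : G)) hk
    simpa using this.symm
  rw [hk', map_zpow, h5]

theorem pow_apply_mem {H : Type*} [Group H] (N : Subgroup H) (α : MulAut H)
    (hαN : ∀ x ∈ N, α x ∈ N) (n : ℕ) : ∀ x ∈ N, (α ^ n) x ∈ N := by
  induction n with
  | zero => intro x hx; simpa using hx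
  | succ n ih =>
    intro x hx
    rw [pow_succ', MulAut.mul_apply]
    exact hαN _ (ih x hx)

theorem map_eq_of_pow_eq_one {H : Type*} [Group H] (N : Subgroup H) (α : MulAut H)
    (hαN : ∀ x ∈ N, α x ∈ N) {n : ℕ} (hn : 0 < n) (hα : α ^ n = 1) :
    N.map α.toMonoidHom = N := by
  apply le_antisymm
  · rintro _ ⟨x, hx, rfl⟩
    exact hαN x hx
  · intro x hx
    refine ⟨(α ^ (n - 1)) x, pow_apply_mem N α hαN _ x hx, ?_⟩
    show α ((α ^ (n - 1)) x) = x
    rw [← MulAut.mul_apply, ← pow_succ', Nat.sub_add_cancel hn, hα, MulAut.one_apply]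

theorem congr_pow_mk {H : Type*} [Group H] (N : Subgroup H) [N.Normal] (α : MulAut H)
    (h : N.map α.toMonoidHom = N) (n : ℕ) (x : H) :
    ((QuotientGroup.congr N N α h) ^ n) (QuotientGroup.mk x) = QuotientGroup.mk ((α ^ n) x) := by
  induction n generalizing x with
  | zero => simp
  | succ n ih =>
    rw [pow_succ', MulAut.mul_apply, ih, pow_succ', MulAut.mul_apply]
    rfl

/-- An automorphism of `p`-power order acts trivially on an invariant section of order `p`. -/
theorem inv_mul_apply_mem_of_relIndex {H : Type*} [Group H] {p : ℕ} [Fact p.Prime]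
    (N K : Subgroup H) [N.Normal] (hidx : N.relIndex K = p) (α : MulAut H)
    (hαN : ∀ x ∈ N, α x ∈ N) (hαK : ∀ x ∈ K, α x ∈ K) {m : ℕ} (hα : α ^ p ^ m = 1) :
    ∀ x ∈ K, x⁻¹ * α x ∈ N := by
  have hp : p.Prime := Fact.out
  have hmap := map_eq_of_pow_eq_one N α hαN (pow_pos hp.pos m) hα
  set ᾱ : MulAut (H ⧸ N) := QuotientGroup.congr N N α hmap with hᾱ
  set D : Subgroup (H ⧸ N) := K.map (QuotientGroup.mk' N) with hD
  have hcard : Nat.card D = p := by
    have h1 : ((QuotientGroup.mk' N).comp K.subtype).range = D := by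
      rw [MonoidHom.range_comp, Subgroup.range_subtype]
    have h2 : ((QuotientGroup.mk' N).comp K.subtype).ker = N.subgroupOf K := by
      ext x
      rw [MonoidHom.mem_ker, Subgroup.mem_subgroupOf]
      simp
    rw [← h1, ← Subgroup.index_ker, h2]
    exact hidx
  have hᾱD : ∀ d ∈ D, ᾱ d ∈ D := by
    rintro _ ⟨x, hx, rfl⟩
    exact ⟨α x, hαK x hx, rfl⟩
  have hᾱp : ᾱ ^ p ^ m = 1 := by
    ext y
    induction y using QuotientGroup.induction_on with
    | H x =>
      rw [congr_pow_mk, hα]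
      rfl
  have hfix := fixes_of_card_eq_prime D hcard ᾱ hᾱD hᾱp
  intro x hx
  have h1 := hfix (QuotientGroup.mk x) ⟨x, hx, rfl⟩
  have h2 : (QuotientGroup.mk (α x) : H ⧸ N) = QuotientGroup.mk x := h1
  exact QuotientGroup.eq.mp h2.symm

variable {Ω : Type*} [Group Ω] {S : Subgroup Ω}

/-- A subgroup with an `Aut_F`-invariant chain of normal subgroups with all factors of order `p` is
not essential. -/
theorem not_isEssential_of_chain [Finite S] (p : ℕ) [Fact p.Prime] (hS : IsPGroup p S)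
    (F : FusionSystem S) {H : Subgroup Ω} (C : ℕ → Subgroup H) (k : ℕ) (h0 : C 0 = ⊥)
    (hk : C k = ⊤) (hnorm : ∀ i, (C i).Normal)
    (hidx : ∀ i < k, (C i).relIndex (C (i + 1)) = p)
    (hinv : ∀ i, ∀ α ∈ F.autGroup H, ∀ x ∈ C i, α x ∈ C i) : ¬ F.IsEssential p H := by
  intro hess
  have hp : p.Prime := Fact.out
  have hrad := isRadical_of_isEssential p hS F H hess
  obtain ⟨hcen, -, hn, M, hM⟩ := hess
  have hHS : H ≤ S := hcen.1
  have hfinH := finite_of_le hHS
  have hfinA : Finite (MulAut H) := Finite.of_injective (fun f : MulAut H => (f : H → H))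
    (fun f g h => MulEquiv.ext (congrFun h))
  have hHp : IsPGroup p H := hS.to_le hHS
  have hstab := stabChain_le_pCore hHp (F.autGroup H) C k hinv h0 hk
  obtain ⟨ā, hā⟩ := exists_prime_orderOf_dvd_card' p hM.1
  obtain ⟨a, rfl⟩ := QuotientGroup.mk_surjective ā
  have hapos : 0 < orderOf a := orderOf_pos a
  obtain ⟨e, m', hm', hem⟩ := Nat.exists_eq_pow_mul_and_not_dvd hapos.ne' p hp.ne_one
  -- b := a ^ m'
  have hb1 : (a ^ m') ^ p ^ e = 1 := by
    rw [← pow_mul, mul_comm, ← hem, pow_orderOf_eq_one]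
  have hb2 : (QuotientGroup.mk (a ^ m') : F.autGroup H ⧸ (Inn H).subgroupOf (F.autGroup H)) ≠ 1 := by
    intro h
    rw [QuotientGroup.mk_pow] at h
    have := orderOf_dvd_of_pow_eq_one h
    rw [hā] at this
    exact hm' this
  have hb1' : ((a ^ m' : F.autGroup H) : MulAut H) ^ p ^ e = 1 := by
    have := congrArg (fun z : F.autGroup H => (z : MulAut H)) hb1
    simpa using this
  have hbs : ((a ^ m' : F.autGroup H) : MulAut H) ∈ stabChain (F.autGroup H) C k hinv := by
    refine ⟨(a ^ m').2, fun i hi x hx => ?_⟩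
    have := hnorm i
    exact inv_mul_apply_mem_of_relIndex (C i) (C (i + 1)) (hidx i hi) _
      (hinv i _ (a ^ m').2) (hinv (i + 1) _ (a ^ m').2) hb1' x hx
  have hbc : (a ^ m') ∈ pCore p (F.autGroup H) := hstab (Subgroup.mem_subgroupOf.mpr hbs)
  have hbI : ((a ^ m' : F.autGroup H) : MulAut H) ∈ Inn H := by
    rw [← hrad.2]
    exact ⟨a ^ m', hbc, rfl⟩
  apply hb2
  rw [QuotientGroup.eq_one_iff]
  exact Subgroup.mem_subgroupOf.mpr hbI

/-- The chain `1 ≤ X ≤ Y ≤ H`. -/
def chain3 {H : Type*} [Group H] (X Y : Subgroup H) : ℕ → Subgroup H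
  | 0 => ⊥
  | 1 => X
  | 2 => Y
  | _ => ⊤

theorem not_isEssential_of_chain3 [Finite S] (p : ℕ) [Fact p.Prime] (hS : IsPGroup p S)
    (F : FusionSystem S) {H : Subgroup Ω} (X Y : Subgroup H) (hXn : X.Normal) (hYn : Y.Normal)
    (hXY : X ≤ Y) (hX : Nat.card X = p) (hY : Nat.card Y = p ^ 2) (hH : Nat.card H = p ^ 3)
    (hXinv : ∀ α : MulAut H, ∀ x ∈ X, α x ∈ X) (hYinv : ∀ α : MulAut H, ∀ x ∈ Y, α x ∈ Y) :
    ¬ F.IsEssential p H := by
  have hp : p.Prime := Fact.out
  apply not_isEssential_of_chain p hS F (chain3 X Y) 3 rfl rfl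
  · intro i
    match i with
    | 0 => exact (inferInstance : (⊥ : Subgroup H).Normal)
    | 1 => exact hXn
    | 2 => exact hYn
    | (n + 3) => exact (inferInstance : (⊤ : Subgroup H).Normal)
  · intro i hi
    match i, hi with
    | 0, _ =>
      show (⊥ : Subgroup H).relIndex X = p
      rw [Subgroup.relIndex_bot_left, hX]
    | 1, _ =>
      show X.relIndex Y = p
      have h1 := Subgroup.relIndex_mul_relIndex (⊥ : Subgroup H) X Y bot_le hXY
      rw [Subgroup.relIndex_bot_left, Subgroup.relIndex_bot_left, hX, hY, pow_two] at h1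
      exact Nat.eq_of_mul_eq_mul_left hp.pos h1
    | 2, _ =>
      show Y.relIndex ⊤ = p
      rw [Subgroup.relIndex_top_right]
      have h1 := Y.card_mul_index
      rw [hY, hH, pow_succ] at h1
      exact Nat.eq_of_mul_eq_mul_left (pow_pos hp.pos 2) h1
  · intro i α _ x hx
    match i, hx with
    | 0, hx =>
      have hx' : x = 1 := Subgroup.mem_bot.mp hx
      rw [hx', map_one]
      exact Subgroup.one_mem _
    | 1, hx => exact hXinv α x hx
    | 2, hx => exact hYinv α x hx
    | (n + 3), hx => exact Subgroup.mem_top _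

end Cfsg.Agent.Lib.Helper7.EssChain
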