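import Mathlib
import Cfsg.Agent.Lib.Helper7.Stability
import Cfsg.Agent.Lib.Helper7.EssChainA
import Cfsg.Agent.Lib.Helper7.Core
import Cfsg.Agent.H1.PGroup

set_option autoImplicit false

namespace Cfsg.Agent.Lib.Helper7.AbEss

open Cfsg Cfsg.Agent.Lib.Helper7

variable {H : Type*} [CommGroup H]

/-- The subgroup of `n`-th powers of a commutative group. -/
abbrev powSub (H : Type*) [CommGroup H] (n : ℕ) : Subgroup H := (powMonoidHom n : H →* H).range

theorem mem_powSub {n : ℕ} {x : H} : x ∈ powSub H n ↔ ∃ y : H, y ^ n = x := Iff.rfl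

theorem pow_mem_powSub (n : ℕ) (y : H) : y ^ n ∈ powSub H n := ⟨y, rfl⟩

/-- The descending chain `H ≥ L ≥ H^p ≥ L^p ≥ H^{p²} ≥ ⋯`. -/
def dchain (p : ℕ) (L : Subgroup H) : ℕ → Subgroup H
  | 0 => ⊤
  | 1 => L
  | (j + 2) => (dchain p L j).map (powMonoidHom p)

theorem dchain_two (p : ℕ) (L : Subgroup H) : dchain p L 2 = powSub H p := by
  show (⊤ : Subgroup H).map (powMonoidHom p) = _
  rw [← MonoidHom.range_eq_map]

theorem dchain_succ_le (p : ℕ) {L : Subgroup H} (hL : powSub H p ≤ L) :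
    ∀ j, dchain p L (j + 1) ≤ dchain p L j := by
  intro j
  induction j using Nat.twoStepInduction with
  | zero => exact le_top
  | one => rw [dchain_two]; exact hL
  | more j ih _ => exact Subgroup.map_mono ih

theorem dchain_inv (p : ℕ) {L : Subgroup H} (α : MulAut H) (hαL : ∀ x ∈ L, α x ∈ L) :
    ∀ j, ∀ x ∈ dchain p L j, α x ∈ dchain p L j := by
  intro j
  induction j using Nat.twoStepInduction with
  | zero => intro x _; exact Subgroup.mem_top _
  | one => exact hαL
  | more j ih _ =>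
    rintro _ ⟨y, hy, rfl⟩
    refine ⟨α y, ih y hy, ?_⟩
    simp [powMonoidHom_apply]

theorem dchain_stab (p : ℕ) {L : Subgroup H} (c : MulAut H) (hb : ∀ x, x⁻¹ * c x ∈ L)
    (hc : ∀ x ∈ L, x⁻¹ * c x ∈ powSub H p) :
    ∀ j, ∀ x ∈ dchain p L j, x⁻¹ * c x ∈ dchain p L (j + 1) := by
  intro j
  induction j using Nat.twoStepInduction with
  | zero => intro x _; exact hb x
  | one =>
    intro x hx
    show _ ∈ dchain p L 2
    rw [dchain_two]; exact hc x hx
  | more j ih _ =>
    rintro _ ⟨y, hy, rfl⟩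
    refine ⟨y⁻¹ * c y, ih y hy, ?_⟩
    simp [powMonoidHom_apply, mul_pow]

theorem dchain_even (p : ℕ) (L : Subgroup H) (i : ℕ) :
    ∀ x ∈ dchain p L (2 * i), ∃ y : H, x = y ^ (p ^ i) := by
  induction i with
  | zero => intro x _; exact ⟨x, by simp⟩
  | succ i ih =>
    have e : 2 * (i + 1) = 2 * i + 2 := by ring
    rw [e]
    rintro _ ⟨y, hy, rfl⟩
    obtain ⟨z, rfl⟩ := ih y hy
    refine ⟨z, ?_⟩
    rw [powMonoidHom_apply, ← pow_mul, pow_succ]

/-- The hypothesis on the group `A` of automorphisms: an element stabilizing an invariant chain is trivial. -/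
def NoStab (A : Subgroup (MulAut H)) : Prop :=
  ∀ (C : ℕ → Subgroup H) (m : ℕ) (hinv : ∀ i, ∀ α ∈ A, ∀ x ∈ C i, α x ∈ C i),
    C 0 = ⊥ → C m = ⊤ → ∀ β ∈ stabChain A C m hinv, β = 1

theorem eq_one_of_two_step {p : ℕ} {e : ℕ} (hexp : ∀ y : H, y ^ (p ^ e) = 1)
    {A : Subgroup (MulAut H)} (hA : NoStab A) (L : Subgroup H)
    (hLinv : ∀ α ∈ A, ∀ x ∈ L, α x ∈ L) {c : MulAut H} (hcA : c ∈ A)
    (hb : ∀ x, x⁻¹ * c x ∈ L) (hc : ∀ x ∈ L, x⁻¹ * c x ∈ powSub H p) : c = 1 := by
  have hinv : ∀ i, ∀ α ∈ A, ∀ x ∈ dchain p L (2 * e - i), α x ∈ dchain p L (2 * e - i) :=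
    fun i α hα => dchain_inv p α (hLinv α hα) _
  apply hA (fun i => dchain p L (2 * e - i)) (2 * e) hinv
  · show dchain p L (2 * e - 0) = ⊥
    rw [Nat.sub_zero, eq_bot_iff]
    intro x hx
    obtain ⟨y, rfl⟩ := dchain_even p L e x hx
    rw [hexp y]; exact Subgroup.mem_bot.mpr rfl
  · show dchain p L (2 * e - 2 * e) = ⊤
    rw [Nat.sub_self]; rfl
  · refine ⟨hcA, fun i hi x hx => ?_⟩
    have h1 := dchain_stab p c hb hc (2 * e - (i + 1)) x hx
    have e1 : 2 * e - (i + 1) + 1 = 2 * e - i := by omega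
    rw [e1] at h1
    exact h1

theorem powSub_inv (α : MulAut H) (n : ℕ) : ∀ x ∈ powSub H n, α x ∈ powSub H n := by
  rintro _ ⟨y, rfl⟩
  exact ⟨α y, by simp [powMonoidHom_apply]⟩

section Finite

variable [Finite H] {p : ℕ} [Fact p.Prime]

theorem frattini_eq_powSub (hH : IsPGroup p H) : frattini H = powSub H p := by
  apply le_antisymm
  · apply frattini_le_of_elemAb_quotient p
    · intro x y
      have : x * y * x⁻¹ * y⁻¹ = 1 := by
        rw [mul_comm x y, mul_inv_cancel_right, mul_inv_cancel]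
      rw [this]; exact Subgroup.one_mem _
    · intro x; exact ⟨x, rfl⟩
  · rintro _ ⟨y, rfl⟩
    exact Cfsg.Agent.H1.pow_p_mem_frattini hH y

theorem exists_exp (hH : IsPGroup p H) : ∃ e : ℕ, ∀ y : H, y ^ (p ^ e) = 1 := by
  obtain ⟨a, ha⟩ := IsPGroup.iff_card.mp hH
  exact ⟨a, fun y => by rw [← ha]; exact pow_card_eq_one'⟩

/-- Setting: `A` a group of automorphisms with `NoStab`, containing a nontrivial element `c` with `c ^ p = 1`. -/
theorem index_powSub (hH : IsPGroup p H) {A : Subgroup (MulAut H)} (hA : NoStab A) {c : MulAut H}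
    (hcA : c ∈ A) (hc1 : c ≠ 1) (hcp : c ^ p = 1) (hrk : (powSub H p).index ≤ p ^ 2) :
    (powSub H p).index = p ^ 2 := by
  have hp : p.Prime := Fact.out
  obtain ⟨e, hexp⟩ := exists_exp hH
  obtain ⟨k, hk⟩ := hH.index (powSub H p)
  have hk2 : k ≤ 2 := by
    rw [hk] at hrk
    exact (Nat.pow_le_pow_iff_right hp.one_lt).mp hrk
  by_contra hne
  have hk1 : k ≤ 1 := by
    rcases Nat.lt_or_ge k 2 with h | h
    · omega
    · have : k = 2 := le_antisymm hk2 h
      rw [this] at hk; exact absurd hk hne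
  apply hc1
  apply eq_one_of_two_step hexp hA ⊤ (fun _ _ _ _ => Subgroup.mem_top _) hcA
    (fun _ => Subgroup.mem_top _)
  intro x _
  rcases Nat.lt_or_ge k 1 with h | h
  · have hk0 : k = 0 := by omega
    rw [hk0, pow_zero, Subgroup.index_eq_one] at hk
    rw [hk]; exact Subgroup.mem_top _
  · have hk1' : k = 1 := le_antisymm hk1 h
    rw [hk1', pow_one] at hk
    exact EssChain.inv_mul_apply_mem_of_relIndex (p := p) (powSub H p) ⊤
      (by rw [Subgroup.relIndex_top_right]; exact hk) c (powSub_inv c p)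
      (fun _ _ => Subgroup.mem_top _) (m := 1) (by rwa [pow_one]) x (Subgroup.mem_top _)

theorem no_between (hH : IsPGroup p H) {A : Subgroup (MulAut H)} (hA : NoStab A) {c : MulAut H}
    (hcA : c ∈ A) (hc1 : c ≠ 1) (hcp : c ^ p = 1) (hidx : (powSub H p).index = p ^ 2)
    (L : Subgroup H) (hLinv : ∀ α ∈ A, ∀ x ∈ L, α x ∈ L) (hL : powSub H p ≤ L) :
    L = powSub H p ∨ L = ⊤ := by
  have hp : p.Prime := Fact.out
  obtain ⟨e, hexp⟩ := exists_exp hH
  by_contra hcon
  push Not at hcon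
  obtain ⟨hL1, hL2⟩ := hcon
  have h1 := Subgroup.relIndex_mul_index hL
  rw [hidx] at h1
  have ha1 : (powSub H p).relIndex L ≠ 1 := by
    rw [Ne, Subgroup.relIndex_eq_one]
    intro h; exact hL1 (le_antisymm h hL)
  have hb1 : L.index ≠ 1 := by
    rw [Ne, Subgroup.index_eq_one]; exact hL2
  have hadvd : (powSub H p).relIndex L ∣ p ^ 2 := Dvd.intro _ h1
  obtain ⟨m, hm2, hm⟩ := (Nat.dvd_prime_pow hp).mp hadvd
  have hm1 : m = 1 := by
    rcases Nat.lt_or_ge m 1 with h | h
    · have : m = 0 := by omega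
      rw [this, pow_zero] at hm; exact absurd hm ha1
    · rcases Nat.lt_or_ge m 2 with h' | h'
      · omega
      · have : m = 2 := le_antisymm hm2 h'
        rw [this] at hm
        rw [hm] at h1
        have : L.index = 1 := by
          have hpos : 0 < p ^ 2 := pow_pos hp.pos 2
          exact Nat.eq_of_mul_eq_mul_left hpos (by rw [h1, mul_one])
        exact absurd this hb1
  rw [hm1, pow_one] at hm
  have hbp : L.index = p := by
    rw [hm, pow_two] at h1
    exact Nat.eq_of_mul_eq_mul_left hp.pos h1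
  apply hc1
  apply eq_one_of_two_step hexp hA L hLinv hcA
  · intro x
    exact EssChain.inv_mul_apply_mem_of_relIndex (p := p) L ⊤
      (by rw [Subgroup.relIndex_top_right]; exact hbp) c (hLinv c hcA)
      (fun _ _ => Subgroup.mem_top _) (m := 1) (by rwa [pow_one]) x (Subgroup.mem_top _)
  · exact EssChain.inv_mul_apply_mem_of_relIndex (p := p) (powSub H p) L hm c (powSub_inv c p)
      (hLinv c hcA) (m := 1) (by rwa [pow_one])

/-- `Ω₁(H)`. -/
abbrev omega1 (H : Type*) [CommGroup H] (p : ℕ) : Subgroup H := (powMonoidHom p : H →* H).ker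

omit [Finite H] in
theorem mem_omega1 {p : ℕ} {x : H} : x ∈ omega1 H p ↔ x ^ p = 1 := by
  rw [MonoidHom.mem_ker, powMonoidHom_apply]

theorem card_omega1 (p : ℕ) : Nat.card (omega1 H p) = (powSub H p).index := by
  have h1 := Subgroup.index_ker (powMonoidHom p : H →* H)
  have h2 := Subgroup.card_mul_index (omega1 H p)
  have h3 := Subgroup.card_mul_index (powSub H p)
  rw [h1] at h2
  have hpos : 0 < Nat.card (powSub H p) := Nat.card_pos
  have : Nat.card (powSub H p) * Nat.card (omega1 H p) =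
      Nat.card (powSub H p) * (powSub H p).index := by
    rw [h3, mul_comm, h2]
  exact Nat.eq_of_mul_eq_mul_left hpos this

theorem ker_pow_eq (hH : IsPGroup p H) {A : Subgroup (MulAut H)} (hA : NoStab A) {c : MulAut H}
    (hcA : c ∈ A) (hc1 : c ≠ 1) (hcp : c ^ p = 1) (hidx : (powSub H p).index = p ^ 2)
    {e' : ℕ} (hexp : ∀ y : H, y ^ (p ^ (e' + 1)) = 1) {x0 : H} (hx0 : x0 ^ (p ^ e') ≠ 1) :
    (powMonoidHom (p ^ e') : H →* H).ker = powSub H p ∧
      (powMonoidHom (p ^ e') : H →* H).range = omega1 H p ∧ Nat.card (omega1 H p) = p ^ 2 := by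
  have hp : p.Prime := Fact.out
  set f : H →* H := powMonoidHom (p ^ e') with hf
  have hKinv : ∀ α : MulAut H, ∀ x ∈ f.ker, α x ∈ f.ker := by
    intro α x hx
    rw [MonoidHom.mem_ker, hf, powMonoidHom_apply] at hx ⊢
    rw [← map_pow, hx, map_one]
  have hLinv : ∀ α ∈ A, ∀ x ∈ f.ker ⊔ powSub H p, α x ∈ f.ker ⊔ powSub H p := by
    intro α _ x hx
    obtain ⟨k, hk, y, hy, rfl⟩ := Subgroup.mem_sup.mp hx
    rw [map_mul]
    exact Subgroup.mul_mem_sup (hKinv α k hk) (powSub_inv α p y hy)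
  have hLtop : f.ker ⊔ powSub H p ≠ ⊤ := by
    intro h
    rw [← frattini_eq_powSub hH] at h
    have := frattini_nongenerating h
    apply hx0
    have hx : x0 ∈ f.ker := by rw [this]; exact Subgroup.mem_top _
    rwa [MonoidHom.mem_ker, hf, powMonoidHom_apply] at hx
  have hKle : f.ker ≤ powSub H p := by
    rcases no_between hH hA hcA hc1 hcp hidx _ hLinv le_sup_right with h | h
    · rw [← h]; exact le_sup_left
    · exact absurd h hLtop
  have hΩ : Nat.card (omega1 H p) = p ^ 2 := by rw [card_omega1, hidx]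
  have hrle : f.range ≤ omega1 H p := by
    rintro _ ⟨y, rfl⟩
    rw [mem_omega1, hf, powMonoidHom_apply, ← pow_mul, ← pow_succ]
    exact hexp y
  have h1 : f.ker.index = Nat.card f.range := Subgroup.index_ker f
  have h2 : (powSub H p).index ≤ f.ker.index := Subgroup.index_antitone hKle
  have h3 : Nat.card f.range ≤ Nat.card (omega1 H p) := Subgroup.card_le_of_le hrle
  have h4 : f.ker.index = p ^ 2 := by
    apply le_antisymm
    · rw [h1, ← hΩ]; exact h3
    · rw [← hidx]; exact h2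
  refine ⟨?_, ?_, hΩ⟩
  · apply le_antisymm hKle
    have h5 := Subgroup.relIndex_mul_index hKle
    rw [h4, hidx] at h5
    have h6 : f.ker.relIndex (powSub H p) = 1 := by
      have hpos : 0 < p ^ 2 := pow_pos hp.pos 2
      exact Nat.eq_of_mul_eq_mul_right hpos (by rw [h5, one_mul])
    exact Subgroup.relIndex_eq_one.mp h6
  · apply Subgroup.eq_of_le_of_card_ge hrle
    rw [hΩ, ← h4, h1]

open Multiplicative in
omit [Finite H] in
theorem exists_hom_zmod_sq (n : ℕ) (x y : H) (hx : x ^ n = 1) (hy : y ^ n = 1) :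
    ∃ ψ : Multiplicative (ZMod n × ZMod n) →* H, ψ (ofAdd (1, 0)) = x ∧ ψ (ofAdd (0, 1)) = y := by
  have hx' : (zmultiplesHom (Additive H) (Additive.ofMul x)) (n : ℤ) = 0 := by
    simp [zmultiplesHom_apply, ← ofMul_pow, hx]
  have hy' : (zmultiplesHom (Additive H) (Additive.ofMul y)) (n : ℤ) = 0 := by
    simp [zmultiplesHom_apply, ← ofMul_pow, hy]
  let φx : ZMod n →+ Additive H := ZMod.lift n ⟨_, hx'⟩
  let φy : ZMod n →+ Additive H := ZMod.lift n ⟨_, hy'⟩
  have e1 : (1 : ZMod n) = ((1 : ℤ) : ZMod n) := by simp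
  refine ⟨AddMonoidHom.toMultiplicativeLeft (φx.coprod φy), ?_, ?_⟩
  · simp only [φx, φy, AddMonoidHom.toMultiplicativeLeft_apply_apply, toAdd_ofAdd,
      AddMonoidHom.coprod_apply, map_zero, add_zero]
    rw [e1, ZMod.lift_coe]
    simp
  · simp only [φx, φy, AddMonoidHom.toMultiplicativeLeft_apply_apply, toAdd_ofAdd,
      AddMonoidHom.coprod_apply, map_zero, zero_add]
    rw [e1, ZMod.lift_coe]
    simp

omit [Finite H] [Fact (Nat.Prime p)] in
/-- `|H^{p^i}| = p² |H^{p^{i+1}}|` as long as `Ω₁(H) ≤ H^{p^i}`. -/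
theorem card_powSub_step (hΩ : Nat.card (omega1 H p) = p ^ 2) {i : ℕ}
    (hle : omega1 H p ≤ powSub H (p ^ i)) :
    Nat.card (powSub H (p ^ i)) = p ^ 2 * Nat.card (powSub H (p ^ (i + 1))) := by
  have hmap : (powSub H (p ^ i)).map (powMonoidHom p) = powSub H (p ^ (i + 1)) := by
    ext x
    constructor
    · rintro ⟨_, ⟨y, rfl⟩, rfl⟩
      exact ⟨y, by simp [powMonoidHom_apply, ← pow_mul, pow_succ]⟩
    · rintro ⟨y, rfl⟩
      exact ⟨y ^ p ^ i, ⟨y, rfl⟩, by simp [powMonoidHom_apply, ← pow_mul, pow_succ]⟩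
  have h1 := Subgroup.relIndex_ker (powMonoidHom p : H →* H) (K := powSub H (p ^ i))
  rw [hmap] at h1
  have h2 := Subgroup.relIndex_mul_relIndex (⊥ : Subgroup H) (omega1 H p) (powSub H (p ^ i))
    bot_le hle
  rw [Subgroup.relIndex_bot_left, Subgroup.relIndex_bot_left, hΩ] at h2
  rw [← h2, ← h1]

omit [Finite H] [Fact (Nat.Prime p)] in
theorem card_of_homocyclic {e' : ℕ} (hexp : ∀ y : H, y ^ (p ^ (e' + 1)) = 1)
    (hrange : (powMonoidHom (p ^ e') : H →* H).range = omega1 H p)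
    (hΩ : Nat.card (omega1 H p) = p ^ 2) : Nat.card H = p ^ (2 * (e' + 1)) := by
  have key : ∀ j ≤ e' + 1, Nat.card (powSub H (p ^ (e' + 1 - j))) = p ^ (2 * j) := by
    intro j
    induction j with
    | zero =>
      intro _
      have : powSub H (p ^ (e' + 1 - 0)) = ⊥ := by
        rw [eq_bot_iff]
        rintro _ ⟨y, rfl⟩
        rw [powMonoidHom_apply, Nat.sub_zero, hexp y]
        exact Subgroup.mem_bot.mpr rfl
      rw [this]; simp
    | succ j ih =>
      intro hj
      have hle : omega1 H p ≤ powSub H (p ^ (e' + 1 - (j + 1))) := by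
        rw [← hrange]
        rintro _ ⟨y, rfl⟩
        refine ⟨y ^ p ^ (e' - (e' + 1 - (j + 1))), ?_⟩
        rw [powMonoidHom_apply, powMonoidHom_apply, ← pow_mul, ← pow_add]
        congr 2
        omega
      rw [card_powSub_step hΩ hle]
      have e1 : e' + 1 - (j + 1) + 1 = e' + 1 - j := by omega
      rw [e1, ih (by omega)]
      ring
  have h := key (e' + 1) le_rfl
  rw [Nat.sub_self, pow_zero] at h
  have htop : powSub H 1 = ⊤ := by
    rw [eq_top_iff]
    intro x _
    exact ⟨x, by simp [powMonoidHom_apply]⟩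
  rw [htop] at h
  rw [← h]
  exact (Subgroup.card_top).symm

theorem exists_iso (hH : IsPGroup p H) {e' : ℕ} (hexp : ∀ y : H, y ^ (p ^ (e' + 1)) = 1)
    (hker : (powMonoidHom (p ^ e') : H →* H).ker = powSub H p)
    (hrange : (powMonoidHom (p ^ e') : H →* H).range = omega1 H p)
    (hΩ : Nat.card (omega1 H p) = p ^ 2) {x0 : H} (hx0 : x0 ^ (p ^ e') ≠ 1) :
    Nonempty (H ≃* Multiplicative (ZMod (p ^ (e' + 1)) × ZMod (p ^ (e' + 1)))) := by
  have hp : p.Prime := Fact.out
  set f : H →* H := powMonoidHom (p ^ e') with hf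
  have hfx : f x0 ≠ 1 := by rw [hf, powMonoidHom_apply]; exact hx0
  have hfxp : (f x0) ^ p = 1 := by
    rw [hf, powMonoidHom_apply, ← pow_mul, ← pow_succ]; exact hexp x0
  have hord : orderOf (f x0) = p := orderOf_eq_prime hfxp hfx
  have hcz : Nat.card (Subgroup.zpowers (f x0)) = p := by rw [Nat.card_zpowers, hord]
  have hzle : Subgroup.zpowers (f x0) ≤ omega1 H p := by
    rw [Subgroup.zpowers_le]; exact mem_omega1.mpr hfxp
  obtain ⟨w, hwΩ, hwz⟩ : ∃ w ∈ omega1 H p, w ∉ Subgroup.zpowers (f x0) := by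
    by_contra hcon
    push Not at hcon
    have hle : omega1 H p ≤ Subgroup.zpowers (f x0) := hcon
    have := Subgroup.card_le_of_le hle
    rw [hΩ, hcz] at this
    have h2 : p < p ^ 2 := by
      rw [pow_two]; exact lt_mul_of_one_lt_left hp.pos hp.one_lt
    omega
  have hwr : w ∈ f.range := by rw [hrange]; exact hwΩ
  obtain ⟨y0, hy0⟩ := hwr
  -- closure {x0, y0} = ⊤
  have hT : Subgroup.closure ({x0, y0} : Set H) = ⊤ := by
    set T := Subgroup.closure ({x0, y0} : Set H) with hTdef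
    have hx0T : x0 ∈ T := Subgroup.subset_closure (by simp)
    have hy0T : y0 ∈ T := Subgroup.subset_closure (by simp)
    have hTle : T.map f ≤ omega1 H p := by
      rw [← hrange]; rintro _ ⟨y, -, rfl⟩; exact ⟨y, rfl⟩
    have hTeq : T.map f = omega1 H p := by
      by_contra hne
      have hlt : Nat.card (T.map f) < p ^ 2 := by
        by_contra hge
        push Not at hge
        exact hne (Subgroup.eq_of_le_of_card_ge hTle (by rw [hΩ]; exact hge))
      have hdvd : Nat.card (T.map f) ∣ p ^ 2 := by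
        rw [← hΩ]; exact Subgroup.card_dvd_of_le hTle
      obtain ⟨m, hm2, hm⟩ := (Nat.dvd_prime_pow hp).mp hdvd
      have hm1 : m ≤ 1 := by
        by_contra hm1
        have : m = 2 := by omega
        rw [this] at hm; omega
      have hcle : Nat.card (T.map f) ≤ p := by
        rw [hm]
        calc p ^ m ≤ p ^ 1 := Nat.pow_le_pow_right hp.pos hm1
          _ = p := pow_one p
      have hzT : Subgroup.zpowers (f x0) ≤ T.map f := by
        rw [Subgroup.zpowers_le]; exact ⟨x0, hx0T, rfl⟩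
      have := Subgroup.eq_of_le_of_card_ge hzT (by rw [hcz]; exact hcle)
      apply hwz
      rw [this, ← hy0]
      exact ⟨y0, hy0T, rfl⟩
    apply frattini_nongenerating
    rw [eq_top_iff]
    intro h _
    have hfh : f h ∈ T.map f := by
      rw [hTeq, ← hrange]; exact ⟨h, rfl⟩
    obtain ⟨g, hgT, hg⟩ := hfh
    have hk : g⁻¹ * h ∈ f.ker := by
      rw [MonoidHom.mem_ker, map_mul, map_inv, hg, inv_mul_cancel]
    rw [hker, ← frattini_eq_powSub hH] at hk
    have : h = g * (g⁻¹ * h) := by group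
    rw [this]
    exact Subgroup.mul_mem_sup hgT hk
  obtain ⟨ψ, hψx, hψy⟩ := exists_hom_zmod_sq (p ^ (e' + 1)) x0 y0 (hexp x0) (hexp y0)
  have hsurj : Function.Surjective ψ := by
    rw [← MonoidHom.range_eq_top, eq_top_iff, ← hT, Subgroup.closure_le]
    rintro z (rfl | rfl)
    · exact ⟨_, hψx⟩
    · exact ⟨_, hψy⟩
  have hne : NeZero (p ^ (e' + 1)) := ⟨pow_ne_zero _ hp.ne_zero⟩
  have hcard : Nat.card (Multiplicative (ZMod (p ^ (e' + 1)) × ZMod (p ^ (e' + 1)))) =
      Nat.card H := by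
    rw [card_of_homocyclic hexp hrange hΩ, Nat.card_congr Multiplicative.toAdd, Nat.card_prod,
      Nat.card_zmod]
    ring
  have hbij : Function.Bijective ψ := hsurj.bijective_of_nat_card_le hcard.le
  exact ⟨(MulEquiv.ofBijective ψ hbij).symm⟩

end Finite

end Cfsg.Agent.Lib.Helper7.AbEss
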