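import Mathlib

set_option autoImplicit false

namespace Cfsg.Agent.Lib.Helper7.AbEss

open Finset

/-- Binomial lifting lemma: if `N = u - 1` satisfies `N² M ⊆ pM` and `p ≥ 5`, then
`u ^ p ≡ 1 + pN (mod p² M)`. -/
theorem binom_lift {M : Type*} [AddCommGroup M] {p : ℕ} (hp : p.Prime) (h5 : 5 ≤ p)
    (u : Module.End ℤ M) (hN2 : ∀ m, ∃ w, (u - 1) ((u - 1) m) = p • w) (m : M) :
    ∃ w, (u ^ p) m = m + p • ((u - 1) m) + (p ^ 2) • w := by
  set N : Module.End ℤ M := u - 1 with hN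
  have hu : u = N + 1 := by rw [hN]; abel
  have hk2 : ∀ k, 2 ≤ k → ∀ m, ∃ w, (N ^ k) m = p • w := by
    intro k hk
    induction k, hk using Nat.le_induction with
    | base =>
      intro m
      obtain ⟨w, hw⟩ := hN2 m
      exact ⟨w, by rw [pow_two, Module.End.mul_apply]; exact hw⟩
    | succ k _ ih =>
      intro m
      obtain ⟨w, hw⟩ := ih m
      exact ⟨N w, by rw [pow_succ', Module.End.mul_apply, hw, map_nsmul]⟩
  have hk4 : ∀ k, 4 ≤ k → ∀ m, ∃ w, (N ^ k) m = (p ^ 2) • w := by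
    intro k hk
    induction k, hk using Nat.le_induction with
    | base =>
      intro m
      obtain ⟨w, hw⟩ := hk2 2 le_rfl m
      obtain ⟨w', hw'⟩ := hk2 2 le_rfl w
      refine ⟨w', ?_⟩
      have : (N ^ 4) = N ^ 2 * N ^ 2 := by rw [← pow_add]
      rw [this, Module.End.mul_apply, hw, map_nsmul, hw', smul_smul, pow_two]
    | succ k _ ih =>
      intro m
      obtain ⟨w, hw⟩ := ih m
      exact ⟨N w, by rw [pow_succ', Module.End.mul_apply, hw, map_nsmul]⟩
  have hexp : (u ^ p) m = ∑ k ∈ range (p + 1), (p.choose k) • (N ^ k) m := by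
    rw [hu, (Commute.one_right N).add_pow p, LinearMap.sum_apply]
    apply Finset.sum_congr rfl
    intro k _
    rw [one_pow, mul_one, Module.End.mul_apply, Module.End.natCast_apply, map_nsmul]
  have hp1 : p + 1 = (p - 1) + 1 + 1 := by have := hp.two_le; omega
  rw [hexp, hp1, Finset.sum_range_succ', Finset.sum_range_succ']
  have hrest : ∃ w, ∑ k ∈ range (p - 1), (p.choose (k + 1 + 1)) • (N ^ (k + 1 + 1)) m = (p ^ 2) • w := by
    have hmem : ∀ k ∈ range (p - 1), (p.choose (k + 1 + 1)) • (N ^ (k + 1 + 1)) m ∈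
        (nsmulAddMonoidHom (p ^ 2) : M →+ M).range := by
      intro k hk
      rw [Finset.mem_range] at hk
      rcases Nat.lt_or_ge (k + 2) p with hlt | hge
      · obtain ⟨t, ht⟩ := hp.dvd_choose_self (by omega : k + 1 + 1 ≠ 0) (by omega : k + 1 + 1 < p)
        obtain ⟨w, hw⟩ := hk2 (k + 1 + 1) (by omega) m
        refine ⟨t • w, ?_⟩
        rw [nsmulAddMonoidHom_apply, ht, hw, smul_smul, smul_smul]
        congr 1; ring
      · have hkp : k + 1 + 1 = p := by omega
        obtain ⟨w, hw⟩ := hk4 (k + 1 + 1) (by omega) m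
        refine ⟨w, ?_⟩
        have h1 : p.choose (k + 1 + 1) = 1 := by rw [hkp, Nat.choose_self]
        rw [nsmulAddMonoidHom_apply, h1, one_smul, hw]
    obtain ⟨w, hw⟩ := AddSubgroup.sum_mem _ hmem
    exact ⟨w, by rw [← hw, nsmulAddMonoidHom_apply]⟩
  obtain ⟨w, hw⟩ := hrest
  refine ⟨w, ?_⟩
  rw [hw]
  simp only [zero_add, Nat.choose_one_right, pow_one, Nat.choose_zero_right, pow_zero,
    Module.End.one_apply, one_smul]
  abel

/-- Multiplicative version of `binom_lift`. -/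
theorem binom_lift_mul {H : Type*} [CommGroup H] {p : ℕ} (hp : p.Prime) (h5 : 5 ≤ p)
    (c : MulAut H) (hN2 : ∀ h : H, ∃ w : H, (h⁻¹ * c h)⁻¹ * c (h⁻¹ * c h) = w ^ p) (h : H) :
    ∃ w : H, (c ^ p) h = h * (h⁻¹ * c h) ^ p * w ^ (p ^ 2) := by
  let u : Module.End ℤ (Additive H) := (MonoidHom.toAdditive c.toMonoidHom).toIntLinearMap
  have hu : ∀ x : H, u (Additive.ofMul x) = Additive.ofMul (c x) := fun _ => rfl
  have hsub : ∀ x : H, (u - 1) (Additive.ofMul x) = Additive.ofMul (x⁻¹ * c x) := by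
    intro x
    rw [LinearMap.sub_apply, hu, Module.End.one_apply, ← ofMul_div, div_eq_mul_inv, mul_comm]
  have hpow : ∀ (k : ℕ) (x : H), (u ^ k) (Additive.ofMul x) = Additive.ofMul ((c ^ k) x) := by
    intro k
    induction k with
    | zero => intro x; simp
    | succ k ih =>
      intro x
      rw [pow_succ', Module.End.mul_apply, ih, hu, pow_succ', MulAut.mul_apply]
  have hN2' : ∀ m : Additive H, ∃ w, (u - 1) ((u - 1) m) = p • w := by
    intro m
    obtain ⟨x, rfl⟩ := Additive.ofMul.surjective m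
    obtain ⟨w, hw⟩ := hN2 x
    refine ⟨Additive.ofMul w, ?_⟩
    rw [hsub, hsub, hw, ofMul_pow]
  obtain ⟨w, hw⟩ := binom_lift hp h5 u hN2' (Additive.ofMul h)
  refine ⟨Additive.toMul w, ?_⟩
  apply Additive.ofMul.injective
  rw [← hpow, hw, hsub]
  simp only [ofMul_mul, ofMul_pow, ofMul_toMul]

end Cfsg.Agent.Lib.Helper7.AbEss
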