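import Mathlib
import Cfsg.Agent.Lib.Helper7.AbEssA
import Cfsg.Agent.Lib.Helper7.AbEssB

set_option autoImplicit false

namespace Cfsg.Agent.Lib.Helper7.AbEss

open Cfsg Cfsg.Agent.Lib.Helper7

/-- From a nontrivial element killed by `p ^ e`, a power of it of order `p`. -/
theorem exists_pow_order_p {G : Type*} [Group G] {p : ℕ} {b : G} (hb : b ≠ 1) {e : ℕ}
    (hbe : b ^ (p ^ e) = 1) : ∃ j : ℕ, b ^ (p ^ j) ≠ 1 ∧ (b ^ (p ^ j)) ^ p = 1 := by
  classical
  have hex : ∃ j, b ^ (p ^ j) = 1 := ⟨e, hbe⟩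
  set j := Nat.find hex with hj
  have hj1 : b ^ (p ^ j) = 1 := Nat.find_spec hex
  have hj0 : j ≠ 0 := by
    intro h0
    rw [h0, pow_zero, pow_one] at hj1
    exact hb hj1
  obtain ⟨k, hk⟩ := Nat.exists_eq_succ_of_ne_zero hj0
  refine ⟨k, ?_, ?_⟩
  · exact Nat.find_min hex (by omega : k < j)
  · rw [← pow_mul, ← pow_succ, ← Nat.succ_eq_add_one, ← hk]; exact hj1

variable {H : Type*} [CommGroup H] [Finite H] {p : ℕ} [Fact p.Prime]

/-- The exponent is at most `p` when `p ≥ 5`. -/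
theorem false_of_five_le {A : Subgroup (MulAut H)} (hA : NoStab A)
    {c : MulAut H} (hcA : c ∈ A) (hc1 : c ≠ 1) (hcp : c ^ p = 1) {e' : ℕ}
    (hexp : ∀ y : H, y ^ (p ^ (e' + 1)) = 1)
    (hker : (powMonoidHom (p ^ e') : H →* H).ker = powSub H p)
    (hrange : (powMonoidHom (p ^ e') : H →* H).range = omega1 H p)
    (hΩ : Nat.card (omega1 H p) = p ^ 2) (he' : 1 ≤ e') (h5 : 5 ≤ p) : False := by
  have hp : p.Prime := Fact.out
  set f : H →* H := powMonoidHom (p ^ e') with hf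
  have hfc : ∀ x : H, f (c x) = c (f x) := by
    intro x; rw [hf, powMonoidHom_apply, powMonoidHom_apply, map_pow]
  -- a fixed point of order p
  obtain ⟨z, hz1, hzc, hzp⟩ : ∃ z : H, z ≠ 1 ∧ c z = z ∧ z ^ p = 1 := by
    have hPz : IsPGroup p (Subgroup.zpowers c) := by
      rintro ⟨g, hg⟩
      obtain ⟨k, rfl⟩ := Subgroup.mem_zpowers_iff.mp hg
      refine ⟨1, ?_⟩
      apply Subtype.ext
      show (c ^ k) ^ p ^ 1 = 1
      rw [pow_one, ← zpow_natCast, ← zpow_mul, mul_comm, zpow_mul, zpow_natCast, hcp, one_zpow]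
    have hcard : p ∣ Nat.card H := by
      rw [card_of_homocyclic hexp hrange hΩ]
      exact dvd_pow_self p (by omega)
    have hfix1 : (1 : H) ∈ MulAction.fixedPoints (Subgroup.zpowers c) H := by
      intro g
      show (g : MulAut H) (1 : H) = 1
      exact map_one _
    obtain ⟨b, hbfix, hb1⟩ := hPz.exists_fixed_point_of_prime_dvd_card_of_fixed_point H hcard hfix1
    have hcb : c b = b := hbfix ⟨c, Subgroup.mem_zpowers c⟩
    obtain ⟨j, hj1, hjp⟩ := exists_pow_order_p (p := p) (Ne.symm hb1) (hexp b)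
    exact ⟨b ^ p ^ j, hj1, by rw [map_pow, hcb], hjp⟩
  have hzΩ : z ∈ omega1 H p := mem_omega1.mpr hzp
  have hord : orderOf z = p := orderOf_eq_prime hzp hz1
  have hcz : Nat.card (Subgroup.zpowers z) = p := by rw [Nat.card_zpowers, hord]
  have hzle : Subgroup.zpowers z ≤ omega1 H p := by rw [Subgroup.zpowers_le]; exact hzΩ
  have hrel : (Subgroup.zpowers z).relIndex (omega1 H p) = p := by
    have h2 := Subgroup.relIndex_mul_relIndex (⊥ : Subgroup H) (Subgroup.zpowers z) (omega1 H p)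
      bot_le hzle
    rw [Subgroup.relIndex_bot_left, Subgroup.relIndex_bot_left, hcz, hΩ, pow_two] at h2
    exact Nat.eq_of_mul_eq_mul_left hp.pos h2
  have hczp : ∀ x ∈ Subgroup.zpowers z, c x = x := by
    intro x hx
    obtain ⟨k, rfl⟩ := Subgroup.mem_zpowers_iff.mp hx
    rw [map_zpow, hzc]
  have hcΩ : ∀ x ∈ omega1 H p, c x ∈ omega1 H p := by
    intro x hx
    rw [mem_omega1] at hx ⊢
    rw [← map_pow, hx, map_one]
  -- N h ∈ W, N (W) ⊆ ker f
  have hNW : ∀ x : H, f (x⁻¹ * c x) ∈ Subgroup.zpowers z := by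
    intro x
    have hv : f x ∈ omega1 H p := by rw [← hrange]; exact ⟨x, rfl⟩
    have := EssChain.inv_mul_apply_mem_of_relIndex (p := p) (Subgroup.zpowers z) (omega1 H p) hrel c
      (fun x hx => by rw [hczp x hx]; exact hx) hcΩ (m := 1) (by rwa [pow_one]) (f x) hv
    rw [map_mul, map_inv, hfc]
    exact this
  have hNker : ∀ x : H, f x ∈ Subgroup.zpowers z → x⁻¹ * c x ∈ powSub H p := by
    intro x hx
    rw [← hker, MonoidHom.mem_ker, map_mul, map_inv, hfc, hczp _ hx, inv_mul_cancel]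
  have hN2 : ∀ h : H, ∃ w : H, (h⁻¹ * c h)⁻¹ * c (h⁻¹ * c h) = w ^ p := by
    intro h
    obtain ⟨w, hw⟩ := hNker (h⁻¹ * c h) (hNW h)
    exact ⟨w, hw.symm⟩
  -- some h with N h ∉ H^p
  obtain ⟨h, hh⟩ : ∃ h : H, h⁻¹ * c h ∉ powSub H p := by
    by_contra hcon
    push Not at hcon
    apply hc1
    exact eq_one_of_two_step hexp hA ⊤ (fun _ _ _ _ => Subgroup.mem_top _) hcA
      (fun _ => Subgroup.mem_top _) (fun x _ => hcon x)
  obtain ⟨w, hw⟩ := binom_lift_mul hp h5 c hN2 h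
  rw [hcp, MulAut.one_apply] at hw
  -- (N h * w ^ p) ^ p = 1
  have h1 : (h⁻¹ * c h * w ^ p) ^ p = 1 := by
    have : h * ((h⁻¹ * c h) ^ p * w ^ p ^ 2) = h * 1 := by rw [mul_one, ← mul_assoc]; exact hw.symm
    have h2 := mul_left_cancel this
    rw [mul_pow, ← pow_mul, ← pow_two]
    exact h2
  have h3 : h⁻¹ * c h * w ^ p ∈ powSub H p := by
    have : h⁻¹ * c h * w ^ p ∈ f.range := by rw [hrange]; exact mem_omega1.mpr h1
    obtain ⟨y, hy⟩ := this
    refine ⟨y ^ p ^ (e' - 1), ?_⟩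
    rw [powMonoidHom_apply, ← pow_mul, ← pow_succ, Nat.sub_add_cancel he']
    rw [← hy, hf, powMonoidHom_apply]
  apply hh
  have h4 : h⁻¹ * c h = (h⁻¹ * c h * w ^ p) * (w ^ p)⁻¹ := by rw [mul_inv_cancel_right]
  rw [h4]
  exact (powSub H p).mul_mem h3 ((powSub H p).inv_mem (pow_mem_powSub p w))

/-- Abstract form of the theorem on two-generated abelian essential subgroups. -/
theorem main_abstract (hH : IsPGroup p H) {A : Subgroup (MulAut H)} (hA : NoStab A)
    {c : MulAut H} (hcA : c ∈ A) (hc1 : c ≠ 1) (hcp : c ^ p = 1)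
    (hrk : (frattini H).index ≤ p ^ 2) :
    ((∀ x : H, x ^ p = 1) ∧ Nat.card H = p ^ 2) ∨
      (p ≤ 3 ∧ ∃ k : ℕ, Nonempty (H ≃* Multiplicative (ZMod (p ^ k) × ZMod (p ^ k)))) := by
  classical
  have hp : p.Prime := Fact.out
  rw [frattini_eq_powSub hH] at hrk
  have hidx := index_powSub hH hA hcA hc1 hcp hrk
  have hex := exists_exp hH
  set e := Nat.find hex with he
  have hexp : ∀ y : H, y ^ (p ^ e) = 1 := Nat.find_spec hex
  have he0 : e ≠ 0 := by
    intro h0
    rw [h0] at hexp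
    have htop : powSub H p = ⊤ := by
      rw [eq_top_iff]
      intro x _
      have := hexp x
      rw [pow_zero, pow_one] at this
      rw [this]; exact Subgroup.one_mem _
    rw [htop, Subgroup.index_top] at hidx
    have : 1 < p ^ 2 := Nat.one_lt_pow (by norm_num) hp.one_lt
    omega
  obtain ⟨e', he'⟩ := Nat.exists_eq_succ_of_ne_zero he0
  have hmin : ¬ ∀ y : H, y ^ (p ^ e') = 1 := Nat.find_min hex (by omega : e' < e)
  push Not at hmin
  obtain ⟨x0, hx0⟩ := hmin
  rw [he', Nat.succ_eq_add_one] at hexp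
  obtain ⟨hker, hrange, hΩ⟩ := ker_pow_eq hH hA hcA hc1 hcp hidx hexp hx0
  rcases Nat.lt_or_ge e' 1 with h0 | h1
  · left
    have : e' = 0 := by omega
    subst this
    refine ⟨fun x => ?_, ?_⟩
    · have := hexp x
      rwa [zero_add, pow_one] at this
    · rw [card_of_homocyclic hexp hrange hΩ]
  · right
    refine ⟨?_, e' + 1, exists_iso hH hexp hker hrange hΩ hx0⟩
    by_contra hcon
    push Not at hcon
    have h5 : 5 ≤ p := by
      rcases Nat.lt_or_ge p 5 with h | h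
      · have : p = 4 := by omega
        rw [this] at hp
        exact absurd hp (by norm_num)
      · exact h
    exact false_of_five_le hA hcA hc1 hcp hexp hker hrange hΩ h1 h5

end Cfsg.Agent.Lib.Helper7.AbEss
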