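import Mathlib
import Cfsg.Prelude.Def_FusionSystem
import Cfsg.Agent.Lib.Helper7.AbEssC
import Cfsg.Agent.Lib.Helper7.FusionEssential

set_option autoImplicit false

namespace Cfsg.Agent.Lib.Helper7.AbEss

open Cfsg Cfsg.FusionSystem Cfsg.Agent.Lib.Helper7

variable {Ω : Type*} [Group Ω] {S : Subgroup Ω}

theorem abelian_rank_two_essential [Finite S] (p : ℕ) [Fact p.Prime] (hS : IsPGroup p S)
    (F : FusionSystem S) (H : Subgroup Ω) (hH : F.IsEssential p H) (hab : IsMulCommutative ↥H)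
    (hrk : (frattini ↥H).index ≤ p ^ 2) :
    (Cfsg.IsElementaryAbelian p H ∧ Nat.card H = p ^ 2) ∨
      (p ≤ 3 ∧ ∃ k : ℕ, Nonempty (↥H ≃* Multiplicative (ZMod (p ^ k) × ZMod (p ^ k)))) := by
  have hp : p.Prime := Fact.out
  have hrad := isRadical_of_isEssential p hS F H hH
  obtain ⟨hcen, -, hn, M, hM⟩ := hH
  have hHS : H ≤ S := hcen.1
  have hfinH := finite_of_le hHS
  have hfinA : Finite (MulAut H) := Finite.of_injective (fun f : MulAut H => (f : H → H))
    (fun f g h => MulEquiv.ext (congrFun h))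
  have hHp : IsPGroup p H := hS.to_le hHS
  letI instC : CommGroup ↥H := { (inferInstance : Group ↥H) with mul_comm := hab.is_comm.comm }
  have hInn : Inn ↥H = ⊥ := by
    rw [eq_bot_iff]
    rintro _ ⟨g, rfl⟩
    rw [Subgroup.mem_bot]
    ext x
    simp only [MulAut.conj_apply, MulAut.one_apply]
    rw [hab.is_comm.comm g x, mul_inv_cancel_right]
  have hA : NoStab (F.autGroup H) := by
    intro C m hinv h0 hm β hβ
    have h1 := stabChain_le_pCore hHp (F.autGroup H) C m hinv h0 hm
    have h2 : (⟨β, hβ.1⟩ : F.autGroup H) ∈ pCore p (F.autGroup H) :=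
      h1 (Subgroup.mem_subgroupOf.mpr hβ)
    have h3 : β ∈ Inn ↥H := by
      rw [← hrad.2]
      exact ⟨⟨β, hβ.1⟩, h2, rfl⟩
    rw [hInn, Subgroup.mem_bot] at h3
    exact h3
  have hdvd : p ∣ Nat.card (F.autGroup H) :=
    dvd_trans hM.1 (Subgroup.card_quotient_dvd_card _)
  obtain ⟨c, hc⟩ := exists_prime_orderOf_dvd_card' p hdvd
  have hc1 : (c : MulAut H) ≠ 1 := by
    intro h
    have : c = 1 := Subtype.ext h
    rw [this, orderOf_one] at hc
    exact hp.one_lt.ne hc
  have hcp : (c : MulAut H) ^ p = 1 := by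
    have := pow_orderOf_eq_one c
    rw [hc] at this
    have := congrArg (fun z : F.autGroup H => (z : MulAut H)) this
    simpa using this
  rcases main_abstract hHp hA c.2 hc1 hcp hrk with ⟨h1, h2⟩ | h
  · left
    refine ⟨⟨hab, fun a ha => ?_⟩, h2⟩
    have := h1 ⟨a, ha⟩
    exact congrArg Subtype.val this
  · right
    exact h

end Cfsg.Agent.Lib.Helper7.AbEss
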