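import Mathlib
import Cfsg.Prelude.Def_EvenType
import Cfsg.Agent.Lib.Helper7.SEQuot

set_option autoImplicit false

namespace Cfsg.Agent.Lib.Helper7

open Cfsg Cfsg.Agent.Lib.Lead.Conj Cfsg.Agent.Lib.Lead.StronglyEmbedded

variable {A : Type*} [Group A] [Finite A] {p : ℕ} [Fact p.Prime]

/-- If `A / I` has a strongly `p`-embedded subgroup, the elements conjugating some element of `T ∖ I` into
the Sylow subgroup `T` generate a proper subgroup. -/
theorem closure_ne_top_of_stronglyPEmbedded_quot (I : Subgroup A) [I.Normal] (T : Sylow p A)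
    (M : Subgroup (A ⧸ I)) (hM : IsStronglyPEmbedded p M) (X : Set A)
    (hX : ∀ α ∈ X, ∃ t ∈ (T : Subgroup A), t ∉ I ∧ α * t * α⁻¹ ∈ (T : Subgroup A)) :
    Subgroup.closure X ≠ ⊤ := by
  have hp : p.Prime := Fact.out
  obtain ⟨Pb, hPbM, -⟩ := sylow_le hM
  have hsurj := QuotientGroup.mk'_surjective I
  set Tb : Sylow p (A ⧸ I) := T.mapSurjective hsurj with hTb
  obtain ⟨ab, hab⟩ := MulAction.exists_smul_eq (A ⧸ I) Tb Pb
  have hTbmem : ∀ t ∈ (T : Subgroup A), QuotientGroup.mk' I t ∈ (Tb : Subgroup (A ⧸ I)) := by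
    intro t ht
    rw [hTb, Sylow.coe_mapSurjective]
    exact ⟨t, ht, rfl⟩
  have hconjPb : ∀ y ∈ (Tb : Subgroup (A ⧸ I)), ab * y * ab⁻¹ ∈ (Pb : Subgroup (A ⧸ I)) := by
    intro y hy
    rw [← hab, Sylow.coe_subgroup_smul]
    exact ⟨y, hy, by simp [MulAut.smul_def, MulAut.conj_apply]⟩
  -- each generator lies in the conjugate ab⁻¹ M ab
  have hgen : ∀ α ∈ X, ab * QuotientGroup.mk' I α * ab⁻¹ ∈ M := by
    intro α hα
    obtain ⟨t, htT, htI, hconj⟩ := hX α hα
    have htne : (QuotientGroup.mk' I t) ≠ 1 := fun h1 => htI ((QuotientGroup.eq_one_iff t).mp h1)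
    have hZp : IsPGroup p (Subgroup.zpowers (QuotientGroup.mk' I t)) :=
      Tb.isPGroup'.to_le (Subgroup.zpowers_le.mpr (hTbmem t htT))
    have hZne : Subgroup.zpowers (QuotientGroup.mk' I t) ≠ ⊥ := by
      rw [Ne, Subgroup.zpowers_eq_bot]; exact htne
    obtain ⟨u, hu, hou⟩ := exists_orderOf_eq_of_ne_bot hZp hZne
    obtain ⟨j, rfl⟩ := Subgroup.mem_zpowers_iff.mp hu
    have huT : (QuotientGroup.mk' I t) ^ j ∈ (Tb : Subgroup (A ⧸ I)) :=
      Subgroup.zpow_mem _ (hTbmem t htT) j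
    have hαuT : QuotientGroup.mk' I α * (QuotientGroup.mk' I t) ^ j * (QuotientGroup.mk' I α)⁻¹ ∈
        (Tb : Subgroup (A ⧸ I)) := by
      have h1 := Subgroup.zpow_mem _ (hTbmem _ hconj) j
      rw [map_mul, map_mul, map_inv] at h1
      have h2 : (QuotientGroup.mk' I α * QuotientGroup.mk' I t * (QuotientGroup.mk' I α)⁻¹) ^ j =
          QuotientGroup.mk' I α * (QuotientGroup.mk' I t) ^ j * (QuotientGroup.mk' I α)⁻¹ := by
        rw [← MulAut.conj_apply, ← MulAut.conj_apply, map_zpow]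
      rwa [h2] at h1
    set u := (QuotientGroup.mk' I t) ^ j with hu_def
    have hu'M : ab * u * ab⁻¹ ∈ M := hPbM (hconjPb u huT)
    have hou' : orderOf (ab * u * ab⁻¹) = p := by rw [orderOf_conj, hou]
    have h3 : ab * (QuotientGroup.mk' I α * u * (QuotientGroup.mk' I α)⁻¹) * ab⁻¹ ∈ M :=
      hPbM (hconjPb _ hαuT)
    have h4 : (ab * QuotientGroup.mk' I α * ab⁻¹)⁻¹ ∈ M := by
      apply mem_of_conj_mem hM hu'M hou'
      convert h3 using 1
      group
    have := M.inv_mem h4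
    rwa [inv_inv] at this
  intro htop
  apply hM.2.1
  rw [eq_top_iff]
  intro y _
  -- y = ab⁻¹ (ab y ab⁻¹) ab, and ab y ab⁻¹ ∈ image of closure X under conj... 
  have hle : Subgroup.closure X ≤ (M.comap (MulAut.conj ab).toMonoidHom).comap (QuotientGroup.mk' I) := by
    rw [Subgroup.closure_le]
    intro α hα
    show (MulAut.conj ab) (QuotientGroup.mk' I α) ∈ M
    rw [MulAut.conj_apply]
    exact hgen α hα
  obtain ⟨z, hz⟩ := hsurj (ab⁻¹ * y * ab)
  have hzmem : z ∈ Subgroup.closure X := by rw [htop]; exact Subgroup.mem_top _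
  have := hle hzmem
  have h5 : (MulAut.conj ab) (QuotientGroup.mk' I z) ∈ M := this
  rw [hz, MulAut.conj_apply] at h5
  convert h5 using 1
  group

end Cfsg.Agent.Lib.Helper7
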