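import Mathlib
import Cfsg.Prelude.Def_FusionSystem
import Cfsg.Agent.Lib.Helper7.Alperin2
import Cfsg.Agent.Lib.Helper7.SEQuot2

set_option autoImplicit false

namespace Cfsg.Agent.Lib.Helper7

open Cfsg Cfsg.FusionSystem

variable {Ω : Type*} [Group Ω] {S : Subgroup Ω}

/-- An extendable automorphism of a subgroup `P ⊇ C_S(P)` conjugates some non-inner element of `Aut_S(P)`
into `Aut_S(P)`. -/
theorem exists_conj_of_mem_extGen [Finite S] {p : ℕ} [Fact p.Prime] (hS : IsPGroup p S)
    (F : FusionSystem S) {P : Subgroup Ω} (hcen : centralizerIn S P ≤ P) (α : MulAut P)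
    (hα : α ∈ extGen F P) :
    ∃ t ∈ autInducedBy S P, t ∉ Inn P ∧ α * t * α⁻¹ ∈ autInducedBy S P := by
  obtain ⟨Q, hPQ, φ, hφ, hαφ⟩ := hα
  have hQS : Q ≤ S := (F.le_of_mem hφ).1
  haveI := finite_of_le hQS
  have hPS : P ≤ S := hPQ.le.trans hQS
  obtain ⟨g, hgN, hgP⟩ := lt_normalizerIn_of_ne (hS.to_le hQS) hPQ.le hPQ.ne
  have hgQ : g ∈ Q := hgN.1
  have hgS : g ∈ S := hQS hgQ
  refine ⟨P.normalizerMonoidHom ⟨g, hgN.2⟩,
    (mem_autInducedBy_iff S P _).mpr ⟨g, hgS, fun x => rfl⟩, ?_, ?_⟩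
  · rintro ⟨x, hx⟩
    apply hgP
    have hc : (x : Ω)⁻¹ * g ∈ centralizerIn S P := by
      refine ⟨S.mul_mem (S.inv_mem (hPS x.2)) hgS, ?_⟩
      show _ ∈ Subgroup.centralizer (P : Set Ω)
      rw [Subgroup.mem_centralizer_iff]
      intro y hy
      have h2 := congrArg (fun β : MulAut P => ((β ⟨y, hy⟩ : P) : Ω)) hx
      simp only [MulAut.conj_apply] at h2
      have h3 : (x : Ω) * y * (x : Ω)⁻¹ = g * y * g⁻¹ := h2
      have h4 : y * ((x : Ω)⁻¹ * g) = (x : Ω)⁻¹ * ((x : Ω) * y * (x : Ω)⁻¹) * g := by group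
      rw [h4, h3]; group
    have := P.mul_mem x.2 (hcen hc)
    simpa using this
  · apply (mem_autInducedBy_iff S P _).mpr
    refine ⟨φ ⟨g, hgQ⟩, (F.le_of_mem hφ).2 _, fun x => ?_⟩
    show ((α (P.normalizerMonoidHom ⟨g, hgN.2⟩ (α⁻¹ x)) : P) : Ω) = _
    rw [← hαφ]
    have e1 : Subgroup.inclusion hPQ.le (P.normalizerMonoidHom ⟨g, hgN.2⟩ (α⁻¹ x)) =
        ⟨g, hgQ⟩ * Subgroup.inclusion hPQ.le (α⁻¹ x) * ⟨g, hgQ⟩⁻¹ := Subtype.ext rfl
    rw [e1, map_mul, map_mul, map_inv, hαφ]
    simp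

/-- For `P` fully automized with `C_S(P) ≤ P`: if `Out_F(P)` has a strongly `p`-embedded subgroup, the
extendable automorphisms generate a proper subgroup of `Aut_F(P)`. -/
theorem closure_extGen_ne_of_stronglyPEmbedded [Finite S] (p : ℕ) [Fact p.Prime] (hS : IsPGroup p S)
    (F : FusionSystem S) {P : Subgroup Ω} (hFA : F.IsFullyAutomized p P)
    (hcen : centralizerIn S P ≤ P)
    [hnorm : ((Inn P).subgroupOf (F.autGroup P)).Normal]
    (M : Subgroup (F.autGroup P ⧸ (Inn P).subgroupOf (F.autGroup P)))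
    (hM : IsStronglyPEmbedded p M) :
    Subgroup.closure (extGen F P) ≠ F.autGroup P := by
  obtain ⟨hPS, T, hT⟩ := hFA
  haveI := finite_of_le hPS
  haveI : Finite (MulAut ↥P) := inferInstance
  have h1 := closure_ne_top_of_stronglyPEmbedded_quot ((Inn P).subgroupOf (F.autGroup P)) T M hM
    {α : F.autGroup P | (α : MulAut P) ∈ extGen F P} (by
      intro α hα
      obtain ⟨t, ht, htI, hconj⟩ := exists_conj_of_mem_extGen hS F hcen (α : MulAut P) hα
      have htA : t ∈ F.autGroup P := autInducedBy_le_autGroup F hPS ht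
      refine ⟨⟨t, htA⟩, ?_, ?_, ?_⟩
      · rw [hT]; exact Subgroup.mem_subgroupOf.mpr ht
      · intro h; exact htI (Subgroup.mem_subgroupOf.mp h)
      · rw [hT]; exact Subgroup.mem_subgroupOf.mpr hconj)
  intro heq
  apply h1
  rw [eq_top_iff]
  intro α _
  have hα : (α : MulAut P) ∈ Subgroup.closure (extGen F P) := by rw [heq]; exact α.2
  -- closure in the subtype
  have hgen : ∀ β : MulAut P, β ∈ Subgroup.closure (extGen F P) → ∀ hβ : β ∈ F.autGroup P,
      (⟨β, hβ⟩ : F.autGroup P) ∈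
        Subgroup.closure {α : F.autGroup P | (α : MulAut P) ∈ extGen F P} := by
    intro β hβc
    induction hβc using Subgroup.closure_induction with
    | mem a ha => intro hβ; exact Subgroup.subset_closure ha
    | one => intro hβ; exact Subgroup.one_mem _
    | mul a b ha hb iha ihb =>
      intro hβ
      have haA := closure_extGen_le_autGroup F P ha
      have hbA := closure_extGen_le_autGroup F P hb
      exact Subgroup.mul_mem _ (iha haA) (ihb hbA)
    | inv a ha iha =>
      intro hβ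
      have haA := closure_extGen_le_autGroup F P ha
      exact Subgroup.inv_mem _ (iha haA)
  exact hgen α hα α.2

theorem extendable_dichotomy [Finite S] (p : ℕ) [Fact p.Prime] (hS : IsPGroup p S)
    (F : FusionSystem S) (hF : F.IsSaturated p) (P : Subgroup Ω) (hPS : P < S)
    (hPn : F.IsFullyNormalized P) :
    (¬ F.IsEssential p P ∧ Subgroup.closure (extGen F P) = F.autGroup P) ∨
      (F.IsEssential p P ∧ ∃ _ : ((Inn P).subgroupOf (F.autGroup P)).Normal,
        IsStronglyPEmbedded p (((Subgroup.closure (extGen F P)).subgroupOf (F.autGroup P)).map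
          (QuotientGroup.mk' ((Inn P).subgroupOf (F.autGroup P))))) := by
  obtain ⟨R, hcR, hFAR, hRecR⟩ := hF P hPn.1
  obtain ⟨hFA, hRec⟩ := isFullyAutomized_isReceptive_of_isFullyNormalized p hS F hPn hFAR hRecR hcR
  have hnorm : ((Inn P).subgroupOf (F.autGroup P)).Normal := (inn_normal P).subgroupOf _
  by_cases hH : Subgroup.closure (extGen F P) = F.autGroup P
  · left
    refine ⟨?_, hH⟩
    rintro ⟨hcen, -, hn', M, hM⟩
    exact closure_extGen_ne_of_stronglyPEmbedded p hS F hFA (hcen.2 P (isConj_refl F hPn.1)) M hM hH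
  · right
    have hcen : centralizerIn S P ≤ P := by
      by_contra hnc
      apply hH
      apply le_antisymm (closure_extGen_le_autGroup F P)
      intro α hα
      exact Subgroup.subset_closure (autGroup_subset_extGen_of_not_le F hRec hnc hα)
    have hSE := stronglyPEmbedded_of_closure_extGen_ne p hS F hFA hRec hcen hPS.ne hH
    exact ⟨⟨isCentric_of_isReceptive F hRec hcen, hPn, hnorm, _, hSE⟩, hnorm, hSE⟩

end Cfsg.Agent.Lib.Helper7
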