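import Mathlib

set_option autoImplicit false

namespace Cfsg.Agent.Lib.Helper7

open Equiv Equiv.Perm

section classnum

variable {n : ℕ}

noncomputable def crep (c : ConjClasses (Perm (Fin n))) : Perm (Fin n) :=
  Classical.choose (ConjClasses.exists_rep c)

theorem mk_crep (c : ConjClasses (Perm (Fin n))) : ConjClasses.mk (crep c) = c :=
  Classical.choose_spec (ConjClasses.exists_rep c)

/-- the cycle type of a conjugacy class of `S_n` -/
noncomputable def ctype (c : ConjClasses (Perm (Fin n))) : Multiset ℕ := (crep c).cycleType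

theorem ctype_mk (g : Perm (Fin n)) : ctype (ConjClasses.mk g) = g.cycleType := by
  unfold ctype
  apply isConj_iff_cycleType_eq.mp
  rw [← ConjClasses.mk_eq_mk_iff_isConj, mk_crep]

theorem ctype_injective : Function.Injective (ctype (n := n)) := by
  intro c d h
  obtain ⟨g, rfl⟩ := ConjClasses.exists_rep c
  obtain ⟨k, rfl⟩ := ConjClasses.exists_rep d
  rw [ctype_mk, ctype_mk] at h
  exact ConjClasses.mk_eq_mk_iff_isConj.mpr (isConj_iff_cycleType_eq.mpr h)

theorem alt_mk_eq_of_conj_even {a b : alternatingGroup (Fin n)} {g : Perm (Fin n)}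
    (hg : g * (a : Perm (Fin n)) * g⁻¹ = b) (hs : sign g = 1) :
    ConjClasses.mk a = ConjClasses.mk b := by
  rw [ConjClasses.mk_eq_mk_iff_isConj, isConj_iff]
  exact ⟨⟨g, mem_alternatingGroup.mpr hs⟩, Subtype.ext hg⟩

theorem alt_mk_eq_of_conj_odd {a b : alternatingGroup (Fin n)} {g u : Perm (Fin n)}
    (hg : g * (a : Perm (Fin n)) * g⁻¹ = b) (hgo : sign g = -1) (huo : sign u = -1)
    (hu : u * (a : Perm (Fin n)) * u⁻¹ ∈ alternatingGroup (Fin n)) :
    ConjClasses.mk b = ConjClasses.mk (⟨u * (a : Perm (Fin n)) * u⁻¹, hu⟩ : alternatingGroup (Fin n)) := by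
  symm
  apply alt_mk_eq_of_conj_even (g := g * u⁻¹)
  · show g * u⁻¹ * (u * (a : Perm (Fin n)) * u⁻¹) * (g * u⁻¹)⁻¹ = b
    rw [← hg]; group
  · rw [Perm.sign_mul, Perm.sign_inv, hgo, huo]; rfl

/-- the natural map from classes of `A_n` to classes of `S_n` -/
def altToSym (n : ℕ) : ConjClasses (alternatingGroup (Fin n)) → ConjClasses (Perm (Fin n)) :=
  ConjClasses.map (alternatingGroup (Fin n)).subtype

theorem altToSym_mk (a : alternatingGroup (Fin n)) :
    altToSym n (ConjClasses.mk a) = ConjClasses.mk (a : Perm (Fin n)) := rfl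

theorem conj_mem_alt (a : alternatingGroup (Fin n)) (u : Perm (Fin n)) :
    u * (a : Perm (Fin n)) * u⁻¹ ∈ alternatingGroup (Fin n) := by
  rw [mem_alternatingGroup, Perm.sign_mul, Perm.sign_mul, Perm.sign_inv, mul_right_comm, Int.units_mul_self, one_mul]
  exact mem_alternatingGroup.mp a.2

/-- fibres of `altToSym` have at most two elements, and one if an odd permutation centralizes. -/
theorem altToSym_fiber (a : alternatingGroup (Fin n)) (u : Perm (Fin n)) (hu : sign u = -1)
    (x : ConjClasses (alternatingGroup (Fin n)))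
    (hx : altToSym n x = ConjClasses.mk (a : Perm (Fin n))) :
    x = ConjClasses.mk a ∨
      x = ConjClasses.mk (⟨u * (a : Perm (Fin n)) * u⁻¹, conj_mem_alt a u⟩ : alternatingGroup (Fin n)) := by
  obtain ⟨b, rfl⟩ := ConjClasses.exists_rep x
  rw [altToSym_mk, ConjClasses.mk_eq_mk_iff_isConj, isConj_comm, isConj_iff] at hx
  obtain ⟨g, hg⟩ := hx
  rcases Int.units_eq_one_or (sign g) with hs | hs
  · left; exact (alt_mk_eq_of_conj_even hg hs).symm
  · right; exact alt_mk_eq_of_conj_odd hg hs hu _


/-- even classes of `S_n`: those containing an element of `A_n` -/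
def IsEvenClass (c : ConjClasses (Perm (Fin n))) : Prop :=
  ∃ a : alternatingGroup (Fin n), ConjClasses.mk (a : Perm (Fin n)) = c

/-- cycle types of the classes that split in `A_n` -/
def IsSplitType (n : ℕ) (s : Multiset ℕ) : Prop :=
  (∀ x ∈ s, Odd x) ∧ n ≤ s.sum + 1 ∧ ∀ i, s.count i ≤ 1

theorem isEvenClass_mk (g : Perm (Fin n)) : IsEvenClass (ConjClasses.mk g) ↔ sign g = 1 := by
  constructor
  · rintro ⟨a, ha⟩
    rw [ConjClasses.mk_eq_mk_iff_isConj, isConj_iff] at ha
    obtain ⟨c, hc⟩ := ha
    rw [← hc]
    exact mem_alternatingGroup.mp (conj_mem_alt a c)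
  · intro h
    exact ⟨⟨g, mem_alternatingGroup.mpr h⟩, rfl⟩

open Classical in
theorem altToSym_fiber_card (hn : 2 ≤ n) (c : ConjClasses (Perm (Fin n)))
    [Fintype (ConjClasses (alternatingGroup (Fin n)))] :
    (Finset.univ.filter (fun x => altToSym n x = c)).card ≤
      (if IsEvenClass c then 1 else 0) + (if IsSplitType n (ctype c) then 1 else 0) := by
  rcases (Finset.univ.filter (fun x => altToSym n x = c)).eq_empty_or_nonempty with he | ⟨x₀, hx₀⟩
  · rw [he]; simp
  · rw [Finset.mem_filter] at hx₀
    obtain ⟨a, rfl⟩ := ConjClasses.exists_rep x₀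
    have hc : c = ConjClasses.mk (a : Perm (Fin n)) := hx₀.2.symm
    have hE : IsEvenClass c := ⟨a, hc.symm⟩
    rw [if_pos hE]
    -- an odd permutation
    have h01 : (⟨0, by omega⟩ : Fin n) ≠ ⟨1, by omega⟩ := by
      intro h; simp [Fin.ext_iff] at h
    have hu₀ : sign (swap (⟨0, by omega⟩ : Fin n) ⟨1, by omega⟩) = -1 := sign_swap h01
    by_cases hsp : IsSplitType n (ctype c)
    · rw [if_pos hsp]
      have hsub : Finset.univ.filter (fun x => altToSym n x = c) ⊆
          {ConjClasses.mk a, ConjClasses.mk (⟨_, conj_mem_alt a (swap (⟨0, by omega⟩ : Fin n) ⟨1, by omega⟩)⟩ :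
            alternatingGroup (Fin n))} := by
        intro x hx
        rw [Finset.mem_filter] at hx
        rw [Finset.mem_insert, Finset.mem_singleton]
        exact altToSym_fiber a _ hu₀ x (hx.2.trans hc)
      exact (Finset.card_le_card hsub).trans Finset.card_le_two
    · rw [if_neg hsp, add_zero]
      have hnot : ¬ Subgroup.centralizer {(a : Perm (Fin n))} ≤ alternatingGroup (Fin n) := by
        intro hle
        apply hsp
        have := centralizer_le_alternating_iff.mp hle
        rw [hc, ctype_mk]
        unfold IsSplitType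
        simpa using this
      rw [SetLike.not_le_iff_exists] at hnot
      obtain ⟨h, hh, hhA⟩ := hnot
      have hhs : sign h = -1 := by
        rcases Int.units_eq_one_or (sign h) with h1 | h1
        · exact absurd (mem_alternatingGroup.mpr h1) hhA
        · exact h1
      have hha : h * (a : Perm (Fin n)) * h⁻¹ = a := by
        rw [Subgroup.mem_centralizer_singleton_iff] at hh
        rw [hh, mul_inv_cancel_right]
      rw [Finset.card_le_one]
      have key : ∀ x, altToSym n x = c → x = ConjClasses.mk a := by
        intro x hx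
        rcases altToSym_fiber a h hhs x (hx.trans hc) with h1 | h1
        · exact h1
        · rw [h1]
          congr 1
          exact Subtype.ext hha
      intro x hx y hy
      rw [Finset.mem_filter] at hx hy
      rw [key x hx.2, key y hy.2]


theorem ctype_sum_le (c : ConjClasses (Perm (Fin n))) : (ctype c).sum ≤ n := by
  unfold ctype
  rw [sum_cycleType]
  have := (crep c).support.card_le_univ
  simpa using this

theorem two_le_of_mem_ctype {c : ConjClasses (Perm (Fin n))} {m : ℕ} (hm : m ∈ ctype c) : 2 ≤ m :=
  two_le_of_mem_cycleType hm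

theorem exists_class_of_split (hn : 5 ≤ n) (c : ConjClasses (Perm (Fin n)))
    (hsp : IsSplitType n (ctype c)) :
    ∃ m ∈ ctype c, ∃ d : ConjClasses (Perm (Fin n)), ctype d = (ctype c).erase m + {m - 1} := by
  have hs0 : ctype c ≠ 0 := by
    intro h
    have := hsp.2.1
    rw [h] at this
    simp at this
    omega
  obtain ⟨m, hm⟩ := Multiset.exists_mem_of_ne_zero hs0
  have hm2 : 2 ≤ m := two_le_of_mem_ctype hm
  have hmodd := hsp.1 m hm
  have hm3 : 3 ≤ m := by obtain ⟨k, hk⟩ := hmodd; omega
  have hsum : (ctype c).sum = m + ((ctype c).erase m).sum := by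
    conv_lhs => rw [← Multiset.cons_erase hm]
    rw [Multiset.sum_cons]
  have hex : ∃ g : Perm (Fin n), g.cycleType = (ctype c).erase m + {m - 1} := by
    rw [exists_with_cycleType_iff]
    constructor
    · have := ctype_sum_le c
      rw [Multiset.sum_add, Multiset.sum_singleton, Fintype.card_fin]
      omega
    · intro a ha
      rcases Multiset.mem_add.mp ha with h2 | h2
      · exact two_le_of_mem_ctype (Multiset.mem_of_mem_erase h2)
      · rw [Multiset.mem_singleton] at h2; omega
  obtain ⟨g, hg⟩ := hex
  exact ⟨m, hm, ConjClasses.mk g, by rw [ctype_mk, hg]⟩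

open Classical in
/-- the injection from split classes to odd classes -/
noncomputable def splitMap (hn : 5 ≤ n) (c : ConjClasses (Perm (Fin n))) : ConjClasses (Perm (Fin n)) :=
  if hsp : IsSplitType n (ctype c) then
    Classical.choose (Classical.choose_spec (exists_class_of_split hn c hsp)).2
  else c

theorem splitMap_spec (hn : 5 ≤ n) (c : ConjClasses (Perm (Fin n))) (hsp : IsSplitType n (ctype c)) :
    ∃ m ∈ ctype c, ctype (splitMap hn c) = (ctype c).erase m + {m - 1} := by
  refine ⟨Classical.choose (exists_class_of_split hn c hsp),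
    (Classical.choose_spec (exists_class_of_split hn c hsp)).1, ?_⟩
  unfold splitMap
  rw [dif_pos hsp]
  exact Classical.choose_spec (Classical.choose_spec (exists_class_of_split hn c hsp)).2

theorem even_sum_add_card_of_odd (s : Multiset ℕ) (h : ∀ x ∈ s, Odd x) :
    Even (s.sum + Multiset.card s) := by
  induction s using Multiset.induction_on with
  | empty => simp
  | cons a s ih =>
    rw [Multiset.sum_cons, Multiset.card_cons]
    have h1 := ih (fun x hx => h x (Multiset.mem_cons_of_mem hx))
    have h2 : Odd a := h a (Multiset.mem_cons_self a s)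
    have : a + s.sum + (Multiset.card s + 1) = (s.sum + Multiset.card s) + (a + 1) := by ring
    rw [this]
    exact h1.add (h2.add_one)

theorem splitMap_injOn (hn : 5 ≤ n) {c d : ConjClasses (Perm (Fin n))}
    (hc : IsSplitType n (ctype c)) (hd : IsSplitType n (ctype d))
    (h : splitMap hn c = splitMap hn d) : c = d := by
  obtain ⟨m, hm, em⟩ := splitMap_spec hn c hc
  obtain ⟨k, hk, ek⟩ := splitMap_spec hn d hd
  rw [h, ek] at em
  have hm2 : 2 ≤ m := two_le_of_mem_ctype hm
  have hk2 : 2 ≤ k := two_le_of_mem_ctype hk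
  have hmodd := hc.1 m hm
  have hkodd := hd.1 k hk
  have hmem : k - 1 ∈ (ctype c).erase m + {m - 1} := by
    rw [← em]; exact Multiset.mem_add.mpr (Or.inr (Multiset.mem_singleton_self _))
  have hkm : k = m := by
    rcases Multiset.mem_add.mp hmem with h2 | h2
    · exfalso
      have h3 := hc.1 _ (Multiset.mem_of_mem_erase h2)
      obtain ⟨a, ha⟩ := hkodd
      obtain ⟨b, hb⟩ := h3
      omega
    · rw [Multiset.mem_singleton] at h2; omega
  subst hkm
  have h3 : (ctype d).erase k = (ctype c).erase k := add_right_cancel em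
  apply ctype_injective
  calc ctype c = k ::ₘ (ctype c).erase k := (Multiset.cons_erase hm).symm
    _ = k ::ₘ (ctype d).erase k := by rw [h3]
    _ = ctype d := Multiset.cons_erase hk

theorem splitMap_not_even (hn : 5 ≤ n) {c : ConjClasses (Perm (Fin n))}
    (hc : IsSplitType n (ctype c)) : ¬ IsEvenClass (splitMap hn c) := by
  obtain ⟨m, hm, em⟩ := splitMap_spec hn c hc
  obtain ⟨g, hg⟩ := ConjClasses.exists_rep (splitMap hn c)
  rw [← hg, isEvenClass_mk, sign_of_cycleType, ← ctype_mk, hg, em]
  have hm2 : 2 ≤ m := two_le_of_mem_ctype hm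
  have hsum : (ctype c).sum = m + ((ctype c).erase m).sum := by
    conv_lhs => rw [← Multiset.cons_erase hm]
    rw [Multiset.sum_cons]
  have hcard : Multiset.card (ctype c) = Multiset.card ((ctype c).erase m) + 1 := by
    conv_lhs => rw [← Multiset.cons_erase hm]
    rw [Multiset.card_cons]
  have hev := even_sum_add_card_of_odd (ctype c) hc.1
  have hodd : Odd (((ctype c).erase m + {m - 1}).sum + Multiset.card ((ctype c).erase m + {m - 1})) := by
    rw [Multiset.sum_add, Multiset.sum_singleton, Multiset.card_add, Multiset.card_singleton]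
    rw [hsum, hcard] at hev
    obtain ⟨r, hr⟩ := hev
    exact ⟨r - 1, by omega⟩
  rw [hodd.neg_one_pow]
  decide

theorem splitMap_ne_swap (hn : 5 ≤ n) {c : ConjClasses (Perm (Fin n))}
    (hc : IsSplitType n (ctype c)) (τ : Perm (Fin n)) (hτ : τ.cycleType = {2}) :
    splitMap hn c ≠ ConjClasses.mk τ := by
  intro h
  obtain ⟨m, hm, em⟩ := splitMap_spec hn c hc
  rw [h, ctype_mk, hτ] at em
  have hm2 : 2 ≤ m := two_le_of_mem_ctype hm
  have hcard := congrArg Multiset.card em
  rw [Multiset.card_add, Multiset.card_singleton, Multiset.card_singleton] at hcard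
  have h0 : (ctype c).erase m = 0 := Multiset.card_eq_zero.mp (by omega)
  rw [h0, zero_add] at em
  have hm3 : m = 3 := by
    have := Multiset.singleton_inj.mp em
    omega
  have hsum : (ctype c).sum = m + ((ctype c).erase m).sum := by
    conv_lhs => rw [← Multiset.cons_erase hm]
    rw [Multiset.sum_cons]
  rw [h0] at hsum
  have := hc.2.1
  simp at hsum
  omega


open Classical in
theorem card_conjClasses_alt_lt (hn : 5 ≤ n) :
    Nat.card (ConjClasses (alternatingGroup (Fin n))) < Nat.card (ConjClasses (Perm (Fin n))) := by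
  haveI : Fintype (ConjClasses (alternatingGroup (Fin n))) := Fintype.ofFinite _
  haveI : Fintype (ConjClasses (Perm (Fin n))) := Fintype.ofFinite _
  rw [Nat.card_eq_fintype_card, Nat.card_eq_fintype_card]
  have h1 : Fintype.card (ConjClasses (alternatingGroup (Fin n))) ≤
      (Finset.univ.filter (fun c : ConjClasses (Perm (Fin n)) => IsEvenClass c)).card +
      (Finset.univ.filter (fun c : ConjClasses (Perm (Fin n)) => IsSplitType n (ctype c))).card := by
    calc Fintype.card (ConjClasses (alternatingGroup (Fin n)))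
        = (Finset.univ : Finset (ConjClasses (alternatingGroup (Fin n)))).card := rfl
      _ = ∑ c ∈ (Finset.univ : Finset (ConjClasses (Perm (Fin n)))),
            (Finset.univ.filter (fun x => altToSym n x = c)).card :=
          Finset.card_eq_sum_card_fiberwise (fun x _ => Finset.mem_univ _)
      _ ≤ ∑ c ∈ (Finset.univ : Finset (ConjClasses (Perm (Fin n)))),
            ((if IsEvenClass c then 1 else 0) + (if IsSplitType n (ctype c) then 1 else 0)) :=
          Finset.sum_le_sum (fun c _ => altToSym_fiber_card (by omega) c)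
      _ = _ := by
          rw [Finset.sum_add_distrib, Finset.sum_boole, Finset.sum_boole]
          simp
  -- the transposition class
  have h01 : (⟨0, by omega⟩ : Fin n) ≠ ⟨1, by omega⟩ := by
    intro h; simp [Fin.ext_iff] at h
  set τ : Perm (Fin n) := swap (⟨0, by omega⟩ : Fin n) ⟨1, by omega⟩ with hτdef
  have hτsw : τ.IsSwap := ⟨_, _, h01, rfl⟩
  have hτ : τ.cycleType = {2} := isSwap_iff_cycleType.mp hτsw
  have hτO : ConjClasses.mk τ ∈
      Finset.univ.filter (fun c : ConjClasses (Perm (Fin n)) => ¬ IsEvenClass c) := by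
    rw [Finset.mem_filter, isEvenClass_mk, hτsw.sign_eq]
    exact ⟨Finset.mem_univ _, by decide⟩
  have h2 : (Finset.univ.filter (fun c : ConjClasses (Perm (Fin n)) => IsSplitType n (ctype c))).card ≤
      ((Finset.univ.filter (fun c : ConjClasses (Perm (Fin n)) => ¬ IsEvenClass c)).erase
        (ConjClasses.mk τ)).card := by
    apply Finset.card_le_card_of_injOn (splitMap hn)
    · intro c hc
      have hc' : IsSplitType n (ctype c) := by simpa using hc
      rw [Finset.mem_coe, Finset.mem_erase, Finset.mem_filter]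
      exact ⟨splitMap_ne_swap hn hc' τ hτ, Finset.mem_univ _, splitMap_not_even hn hc'⟩
    · intro c hc d hd h
      have hc' : IsSplitType n (ctype c) := by simpa using hc
      have hd' : IsSplitType n (ctype d) := by simpa using hd
      exact splitMap_injOn hn hc' hd' h
  have h3 : ((Finset.univ.filter (fun c : ConjClasses (Perm (Fin n)) => ¬ IsEvenClass c)).erase
        (ConjClasses.mk τ)).card <
      (Finset.univ.filter (fun c : ConjClasses (Perm (Fin n)) => ¬ IsEvenClass c)).card :=
    Finset.card_erase_lt_of_mem hτO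
  have h4 := Finset.card_filter_add_card_filter_not
    (s := (Finset.univ : Finset (ConjClasses (Perm (Fin n))))) (fun c => IsEvenClass c)
  rw [Finset.card_univ] at h4
  omega

end classnum

end Cfsg.Agent.Lib.Helper7
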