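import Mathlib

set_option autoImplicit false

namespace Cfsg.Agent.Lib.Helper7

open Equiv

theorem not_sq_dvd_factorial (p : ℕ) (hp : p.Prime) : ¬ p ^ 2 ∣ p.factorial := by
  intro h
  obtain ⟨k, hk⟩ : ∃ k, p = k + 1 := ⟨p - 1, by have := hp.pos; omega⟩
  rw [hk, Nat.factorial_succ, pow_two] at h
  have h1 : (k + 1) ∣ k.factorial := Nat.dvd_of_mul_dvd_mul_left (Nat.succ_pos k) h
  rw [← hk] at h1
  have := (hp.dvd_factorial).mp h1
  omega

/-- A `p`-group of permutations of fewer than `p²` points is commutative. -/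
theorem pgroup_perm_comm_of_lt_sq {α : Type*} [Fintype α] [DecidableEq α] (p : ℕ) [Fact p.Prime]
    (hlt : Fintype.card α < p ^ 2) (P : Subgroup (Perm α)) (hP : IsPGroup p P)
    (g h : Perm α) (hg : g ∈ P) (hh : h ∈ P) : g * h = h * g := by
  have hp : p.Prime := Fact.out
  ext x
  -- the orbit of x
  obtain ⟨O, hO⟩ : ∃ O : Set α, O = MulAction.orbit ↥P x := ⟨_, rfl⟩
  have hxO : x ∈ MulAction.orbit ↥P x := MulAction.mem_orbit_self x
  have hdvd : (MulAction.orbit ↥P x).ncard ∣ Nat.card ↥P := by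
    rw [← MulAction.index_stabilizer]
    exact Subgroup.index_dvd_card _
  obtain ⟨k, hk⟩ := IsPGroup.iff_card.mp hP
  rw [hk] at hdvd
  obtain ⟨j, -, hj⟩ := (Nat.dvd_prime_pow hp).mp hdvd
  have hle : (MulAction.orbit ↥P x).ncard ≤ Fintype.card α := by
    rw [← Nat.card_eq_fintype_card, ← Set.ncard_univ]
    exact Set.ncard_le_ncard (Set.subset_univ _)
  have hj1 : j ≤ 1 := by
    by_contra hcon
    push Not at hcon
    have : p ^ 2 ≤ p ^ j := Nat.pow_le_pow_right hp.pos hcon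
    omega
  -- the action on the orbit
  let ρ : ↥P →* Perm ↥(MulAction.orbit ↥P x) := MulAction.toPermHom ↥P ↥(MulAction.orbit ↥P x)
  have hrp : IsPGroup p ↥ρ.range := hP.of_surjective ρ.rangeRestrict ρ.rangeRestrict_surjective
  obtain ⟨m, hm⟩ := IsPGroup.iff_card.mp hrp
  have hcardO : Nat.card (Perm ↥(MulAction.orbit ↥P x)) = (p ^ j).factorial := by
    rw [Nat.card_perm, ← hj, Nat.card_coe_set_eq]
  have hm1 : m ≤ 1 := by
    have h1 : Nat.card ↥ρ.range ∣ Nat.card (Perm ↥(MulAction.orbit ↥P x)) :=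
      Subgroup.card_subgroup_dvd_card _
    rw [hm, hcardO] at h1
    by_contra hcon
    push Not at hcon
    have h2 : p ^ 2 ∣ (p ^ j).factorial := (pow_dvd_pow p hcon).trans h1
    interval_cases j
    · simp at h2
      have := hp.two_le
      nlinarith
    · rw [pow_one] at h2
      exact not_sq_dvd_factorial p hp h2
  have hcyc : IsCyclic ↥ρ.range := by
    interval_cases m
    · rw [pow_zero] at hm
      haveI : Subsingleton ↥ρ.range := (Nat.card_eq_one_iff_unique.mp hm).1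
      exact isCyclic_of_subsingleton
    · rw [pow_one] at hm
      exact isCyclic_of_prime_card hm
  have hcomm : ρ ⟨g, hg⟩ * ρ ⟨h, hh⟩ = ρ ⟨h, hh⟩ * ρ ⟨g, hg⟩ := by
    have := (isMulCommutative_iff.mp hcyc.isMulCommutative)
      (⟨ρ ⟨g, hg⟩, ⟨_, rfl⟩⟩ : ↥ρ.range) ⟨ρ ⟨h, hh⟩, ⟨_, rfl⟩⟩
    exact congrArg Subtype.val this
  have := congrArg (fun π => ((π ⟨x, hxO⟩ : ↥(MulAction.orbit ↥P x)) : α)) hcomm
  exact this

end Cfsg.Agent.Lib.Helper7
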