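import Mathlib

set_option autoImplicit false

namespace Cfsg.Agent.Lib.Helper7

open Equiv

section wreath

variable (p : ℕ) [Fact p.Prime]

/-- The permutation `(i, j) ↦ (i + c, j + f i)` of `ZMod p × ZMod p`. -/
def wperm (c : ZMod p) (f : ZMod p → ZMod p) : Perm (ZMod p × ZMod p) where
  toFun x := (x.1 + c, x.2 + f x.1)
  invFun x := (x.1 - c, x.2 - f (x.1 - c))
  left_inv x := by
    ext
    · simp
    · simp
  right_inv x := by
    ext
    · simp
    · simp

theorem wperm_apply (c : ZMod p) (f : ZMod p → ZMod p) (x : ZMod p × ZMod p) :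
    wperm p c f x = (x.1 + c, x.2 + f x.1) := rfl

theorem wperm_mul (c₁ c₂ : ZMod p) (f₁ f₂ : ZMod p → ZMod p) :
    wperm p c₁ f₁ * wperm p c₂ f₂ = wperm p (c₂ + c₁) (fun i => f₂ i + f₁ (i + c₂)) := by
  ext x
  · simp [wperm_apply, Perm.mul_apply, add_assoc]
  · simp [wperm_apply, Perm.mul_apply, add_assoc]

theorem wperm_one : wperm p 0 0 = 1 := by
  ext x
  · simp [wperm_apply]
  · simp [wperm_apply]

theorem wperm_inv (c : ZMod p) (f : ZMod p → ZMod p) :
    (wperm p c f)⁻¹ = wperm p (-c) (fun i => - f (i - c)) := by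
  rw [inv_eq_iff_mul_eq_one, wperm_mul, ← wperm_one]
  congr 1
  · simp
  · ext i
    simp [sub_eq_add_neg]

theorem wperm_injective :
    Function.Injective (fun cf : ZMod p × (ZMod p → ZMod p) => wperm p cf.1 cf.2) := by
  rintro ⟨c, f⟩ ⟨c', f'⟩ h
  have h1 : ∀ x, wperm p c f x = wperm p c' f' x := fun x => by
    have := congrArg (fun π : Perm (ZMod p × ZMod p) => π x) h
    exact this
  have hc : c = c' := by
    have := congrArg Prod.fst (h1 (0, 0))
    simpa [wperm_apply] using this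
  have hf : f = f' := by
    ext i
    have := congrArg Prod.snd (h1 (i, 0))
    simpa [wperm_apply] using this
  rw [hc, hf]

/-- The wreath product `C_p ≀ C_p` as a permutation group on `p²` points. -/
def wreathSub : Subgroup (Perm (ZMod p × ZMod p)) where
  carrier := Set.range (fun cf : ZMod p × (ZMod p → ZMod p) => wperm p cf.1 cf.2)
  mul_mem' := by
    rintro _ _ ⟨⟨c₁, f₁⟩, rfl⟩ ⟨⟨c₂, f₂⟩, rfl⟩
    exact ⟨(_, _), (wperm_mul p c₁ c₂ f₁ f₂).symm⟩
  one_mem' := ⟨(0, 0), wperm_one p⟩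
  inv_mem' := by
    rintro _ ⟨⟨c, f⟩, rfl⟩
    exact ⟨(_, _), (wperm_inv p c f).symm⟩

theorem wperm_mem (c : ZMod p) (f : ZMod p → ZMod p) : wperm p c f ∈ wreathSub p :=
  ⟨(c, f), rfl⟩

theorem card_wreathSub : Nat.card ↥(wreathSub p) = p ^ (p + 1) := by
  have h1 : Nat.card ↥(wreathSub p) =
      Nat.card (Set.range (fun cf : ZMod p × (ZMod p → ZMod p) => wperm p cf.1 cf.2)) := rfl
  rw [h1, Nat.card_range_of_injective (wperm_injective p), Nat.card_prod, Nat.card_fun,
    Nat.card_zmod, pow_succ, mul_comm]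

theorem isPGroup_wreathSub : IsPGroup p ↥(wreathSub p) := IsPGroup.of_card (card_wreathSub p)

theorem wreathSub_not_comm :
    wperm p 0 (Pi.single 0 1) * wperm p 1 0 ≠ wperm p 1 0 * wperm p 0 (Pi.single 0 1) := by
  intro h
  have h1 := congrArg (fun π : Perm (ZMod p × ZMod p) => (π (-1, 0)).2) h
  have hp : p.Prime := Fact.out
  haveI : Fact (1 < p) := ⟨hp.one_lt⟩
  have hne : (-1 : ZMod p) ≠ 0 := by
    rw [neg_ne_zero]; exact one_ne_zero
  simp [wperm_apply, Perm.mul_apply, Pi.single_apply, hne] at h1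

end wreath

end Cfsg.Agent.Lib.Helper7
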