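import Mathlib
import Cfsg.Agent.Lib.Helper7.AltSyl1
import Cfsg.Agent.Lib.Helper7.AltSyl2

set_option autoImplicit false

namespace Cfsg.Agent.Lib.Helper7

open Equiv
open scoped Pointwise

/-- A non-commutative `p`-subgroup prevents the Sylow `p`-subgroups from being commutative. -/
theorem sylow_not_comm_of_pgroup_not_comm {G : Type*} [Group G] [Finite G] (p : ℕ) [Fact p.Prime]
    (Q : Subgroup G) (hQ : IsPGroup p Q) (a b : G) (ha : a ∈ Q) (hb : b ∈ Q) (hab : a * b ≠ b * a)
    (S : Sylow p G) : ¬ IsMulCommutative S := by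
  intro hcomm
  obtain ⟨S', hQS'⟩ := hQ.exists_le_sylow
  obtain ⟨g, hg⟩ := MulAction.exists_smul_eq G S' S
  have hmem : ∀ x ∈ Q, g * x * g⁻¹ ∈ (S : Subgroup G) := by
    intro x hx
    have h1 : MulAut.conj g • x ∈ MulAut.conj g • (S' : Subgroup G) :=
      Subgroup.smul_mem_pointwise_smul x (MulAut.conj g) _ (hQS' hx)
    rw [← Sylow.pointwise_smul_def, ← Sylow.smul_def, hg] at h1
    exact h1
  have h2 := (isMulCommutative_iff.mp hcomm) ⟨_, hmem a ha⟩ ⟨_, hmem b hb⟩
  have h3 : g * a * g⁻¹ * (g * b * g⁻¹) = g * b * g⁻¹ * (g * a * g⁻¹) := congrArg Subtype.val h2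
  apply hab
  have h4 : g * (a * b) * g⁻¹ = g * (b * a) * g⁻¹ := by
    simpa [mul_assoc] using h3
  exact mul_left_cancel (mul_right_cancel h4)

/-- The regular representation of the group of units of `ℤ`. -/
noncomputable def unitsPerm : ℤˣ →* Perm ℤˣ := MulAction.toPermHom ℤˣ ℤˣ

theorem sign_unitsPerm (u : ℤˣ) : Perm.sign (unitsPerm u) = u := by
  rcases Int.units_eq_one_or u with rfl | rfl
  · simp
  · have h1 : unitsPerm (-1) = swap (1 : ℤˣ) (-1) := by
      ext x
      rcases Int.units_eq_one_or x with rfl | rfl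
      · simp [unitsPerm, MulAction.toPermHom_apply]
      · simp [unitsPerm, MulAction.toPermHom_apply]
    rw [h1, Perm.sign_swap (by decide)]

/-- The sign-corrected embedding of `Perm X` into the even permutations of `X ⊕ ℤˣ`. -/
noncomputable def signCorr (X : Type*) [Fintype X] [DecidableEq X] : Perm X →* Perm (X ⊕ ℤˣ) :=
  (Perm.sumCongrHom X ℤˣ).comp
    ((MonoidHom.id (Perm X)).prod (unitsPerm.comp (Perm.sign (α := X))))

theorem signCorr_injective (X : Type*) [Fintype X] [DecidableEq X] :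
    Function.Injective (signCorr X) := by
  intro a b h
  have h1 := Perm.sumCongrHom_injective h
  exact congrArg Prod.fst h1

theorem sign_signCorr (X : Type*) [Fintype X] [DecidableEq X] (π : Perm X) :
    Perm.sign (signCorr X π) = 1 := by
  show Perm.sign (Perm.sumCongrHom X ℤˣ (π, unitsPerm (Perm.sign π))) = 1
  rw [Perm.sumCongrHom_apply, Perm.sign_sumCongr, sign_unitsPerm, Int.units_mul_self]

theorem sign_viaEmbeddingHom {X Y : Type*} [Fintype X] [DecidableEq X] [Fintype Y] [DecidableEq Y]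
    (ι : X ↪ Y) (π : Perm X) : Perm.sign (Perm.viaEmbeddingHom ι π) = Perm.sign π := by
  classical
  rw [Perm.viaEmbeddingHom_apply]
  unfold Perm.viaEmbedding
  convert Perm.sign_extendDomain π (ofInjective ι.1 ι.2)

theorem sign_eq_one_of_isPGroup_odd {X : Type*} [Fintype X] [DecidableEq X] (p : ℕ) [Fact p.Prime]
    (hp : p ≠ 2) (W : Subgroup (Perm X)) (hW : IsPGroup p W) (w : Perm X) (hw : w ∈ W) :
    Perm.sign w = 1 := by
  obtain ⟨k, hk⟩ := hW ⟨w, hw⟩
  have hk' : w ^ p ^ k = 1 := by
    have := congrArg Subtype.val hk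
    simpa using this
  rcases Int.units_eq_one_or (Perm.sign w) with h | h
  · exact h
  · exfalso
    have h1 := congrArg Perm.sign hk'
    rw [map_pow, h, map_one] at h1
    have hodd : Odd (p ^ k) := ((Fact.out : p.Prime).odd_of_ne_two hp).pow
    rw [hodd.neg_one_pow] at h1
    exact absurd h1 (by decide)

end Cfsg.Agent.Lib.Helper7
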