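import Mathlib
import Cfsg.Agent.Lib.Helper7.AltSyl3

set_option autoImplicit false

namespace Cfsg.Agent.Lib.Helper7

open Equiv

theorem exists_hom_wreath_alternating (n p : ℕ) (hn : 6 ≤ n) [Fact p.Prime] (hnp : p ^ 2 ≤ n) :
    ∃ Ψ : Perm (ZMod p × ZMod p) →* Perm (Fin n), Function.Injective Ψ ∧
      ∀ w ∈ wreathSub p, Perm.sign (Ψ w) = 1 := by
  by_cases hp2 : p = 2
  · subst hp2
    have hcard : Fintype.card ((ZMod 2 × ZMod 2) ⊕ ℤˣ) ≤ Fintype.card (Fin n) := by
      rw [Fintype.card_sum, Fintype.card_prod, ZMod.card, Fintype.card_fin, Fintype.card_units_int]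
      omega
    obtain ⟨ι⟩ := Function.Embedding.nonempty_of_card_le hcard
    refine ⟨(Perm.viaEmbeddingHom ι).comp (signCorr _),
      (Perm.viaEmbeddingHom_injective ι).comp (signCorr_injective _), fun w _ => ?_⟩
    show Perm.sign (Perm.viaEmbeddingHom ι (signCorr _ w)) = 1
    rw [sign_viaEmbeddingHom, sign_signCorr]
  · have hcard : Fintype.card (ZMod p × ZMod p) ≤ Fintype.card (Fin n) := by
      rw [Fintype.card_prod, ZMod.card, Fintype.card_fin, ← pow_two]
      exact hnp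
    obtain ⟨ι⟩ := Function.Embedding.nonempty_of_card_le hcard
    refine ⟨Perm.viaEmbeddingHom ι, Perm.viaEmbeddingHom_injective ι, fun w hw => ?_⟩
    rw [sign_viaEmbeddingHom]
    exact sign_eq_one_of_isPGroup_odd p hp2 (wreathSub p) (isPGroup_wreathSub p) w hw

/-- For `n ≥ 6`, a Sylow `p`-subgroup of `A_n` is abelian iff `n < p²`. -/
theorem alternating_sylow_comm_iff (n p : ℕ) (hn : 6 ≤ n) [Fact p.Prime]
    (S : Sylow p (alternatingGroup (Fin n))) :
    IsMulCommutative (S : Subgroup (alternatingGroup (Fin n))) ↔ n < p ^ 2 := by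
  constructor
  · intro hcomm
    by_contra hnp
    push Not at hnp
    obtain ⟨Ψ, hΨinj, hΨsign⟩ := exists_hom_wreath_alternating n p hn hnp
    obtain ⟨Q, hQdef⟩ : ∃ Q : Subgroup (alternatingGroup (Fin n)),
        Q = ((wreathSub p).map Ψ).comap (alternatingGroup (Fin n)).subtype := ⟨_, rfl⟩
    have hQ : IsPGroup p Q := by
      rw [hQdef]
      exact ((isPGroup_wreathSub p).map Ψ).comap_subtype
    have hσW := wperm_mem p 0 (Pi.single 0 1)
    have hτW := wperm_mem p 1 0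
    have hσ : Ψ (wperm p 0 (Pi.single 0 1)) ∈ alternatingGroup (Fin n) :=
      Perm.mem_alternatingGroup.mpr (hΨsign _ hσW)
    have hτ : Ψ (wperm p 1 0) ∈ alternatingGroup (Fin n) :=
      Perm.mem_alternatingGroup.mpr (hΨsign _ hτW)
    refine sylow_not_comm_of_pgroup_not_comm p Q hQ ⟨_, hσ⟩ ⟨_, hτ⟩ ?_ ?_ ?_ S hcomm
    · rw [hQdef]
      exact Subgroup.mem_comap.mpr ⟨_, hσW, rfl⟩
    · rw [hQdef]
      exact Subgroup.mem_comap.mpr ⟨_, hτW, rfl⟩
    · intro h
      have h1 : Ψ (wperm p 0 (Pi.single 0 1)) * Ψ (wperm p 1 0) =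
          Ψ (wperm p 1 0) * Ψ (wperm p 0 (Pi.single 0 1)) := congrArg Subtype.val h
      rw [← map_mul, ← map_mul] at h1
      exact wreathSub_not_comm p (hΨinj h1)
  · intro hlt
    rw [isMulCommutative_iff]
    rintro ⟨a, ha⟩ ⟨b, hb⟩
    apply Subtype.ext
    apply Subtype.ext
    show (a : Perm (Fin n)) * b = b * a
    have hlt' : Fintype.card (Fin n) < p ^ 2 := by rw [Fintype.card_fin]; exact hlt
    exact pgroup_perm_comm_of_lt_sq p hlt'
      ((S : Subgroup (alternatingGroup (Fin n))).map (alternatingGroup (Fin n)).subtype)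
      (S.isPGroup'.map _) _ _ ⟨a, ha, rfl⟩ ⟨b, hb, rfl⟩

end Cfsg.Agent.Lib.Helper7
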