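import Mathlib
import Cfsg.Prelude.Def_Amalgam
import Cfsg.Agent.Lib.Helper7.AmalgamCritical2
import Cfsg.Agent.Lib.Helper7.PReduced7
import Cfsg.Agent.Lib.Helper7.PMinimal

set_option autoImplicit false

namespace Cfsg.Agent.Lib.Helper7

open Cfsg Cfsg.Agent.H7
open scoped Pointwise

section pel

variable {G : Type*} [Group G] {p : ℕ}

theorem le_pElementClosure_of_isPGroup' [Fact p.Prime] {Q H : Subgroup G} (hQ : IsPGroup p ↥Q)
    (hQH : Q ≤ H) : Q ≤ pElementClosure p H := by
  intro x hx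
  apply Subgroup.subset_closure
  refine ⟨hQH hx, ?_⟩
  obtain ⟨k, hk⟩ := hQ ⟨x, hx⟩
  have hk' : x ^ (p ^ k) = 1 := by
    have := congrArg Subtype.val hk
    simpa using this
  obtain ⟨j, -, hj⟩ := (Nat.dvd_prime_pow Fact.out).mp (orderOf_dvd_of_pow_eq_one hk')
  exact ⟨j, hj⟩

theorem conj_mem_pElementClosure (H : Subgroup G) {h : G} (hh : h ∈ H) :
    ∀ r ∈ pElementClosure p H, h * r * h⁻¹ ∈ pElementClosure p H := by
  intro r hr
  induction hr using Subgroup.closure_induction with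
  | mem x hx =>
    apply Subgroup.subset_closure
    refine ⟨H.mul_mem (H.mul_mem hh hx.1) (H.inv_mem hh), ?_⟩
    obtain ⟨k, hk⟩ := hx.2
    exact ⟨k, by rw [Cfsg.Agent.Lib.Lead.Conj.orderOf_conj, hk]⟩
  | one => simp
  | mul x y _ _ hx hy =>
    have e : h * (x * y) * h⁻¹ = (h * x * h⁻¹) * (h * y * h⁻¹) := by group
    rw [e]; exact Subgroup.mul_mem _ hx hy
  | inv x _ hx =>
    have e : h * x⁻¹ * h⁻¹ = (h * x * h⁻¹)⁻¹ := by group
    rw [e]; exact Subgroup.inv_mem _ hx

theorem le_normalizer_pElementClosure' (H : Subgroup G) :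
    H ≤ Subgroup.normalizer (pElementClosure p H : Set G) := by
  intro h hh
  rw [Subgroup.mem_normalizer_iff]
  intro r
  constructor
  · exact conj_mem_pElementClosure H hh r
  · intro hr
    have := conj_mem_pElementClosure H (H.inv_mem hh) _ hr
    have e : h⁻¹ * (h * r * h⁻¹) * h⁻¹⁻¹ = r := by group
    rwa [e] at this

/-- `H` normalizes `L ⊓ C(L)` when it normalizes `L` -/
theorem le_normalizer_inf_centralizer {H L : Subgroup G} (hHL : H ≤ Subgroup.normalizer (L : Set G)) :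
    H ≤ Subgroup.normalizer ((L ⊓ Subgroup.centralizer (L : Set G) : Subgroup G) : Set G) := by
  have key : ∀ h ∈ H, ∀ z ∈ L ⊓ Subgroup.centralizer (L : Set G),
      h * z * h⁻¹ ∈ L ⊓ Subgroup.centralizer (L : Set G) := by
    intro h hh z hz
    refine ⟨(Subgroup.mem_normalizer_iff.mp (hHL hh) z).mp hz.1, ?_⟩
    apply Subgroup.mem_centralizer_iff.mpr
    intro l hl
    have hl' : h⁻¹ * l * h ∈ L := by
      have := (Subgroup.mem_normalizer_iff.mp (hHL (H.inv_mem hh)) l).mp hl
      simpa using this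
    have hc := Subgroup.mem_centralizer_iff.mp hz.2 _ hl'
    calc l * (h * z * h⁻¹) = h * ((h⁻¹ * l * h) * z) * h⁻¹ := by group
      _ = h * (z * (h⁻¹ * l * h)) * h⁻¹ := by rw [hc]
      _ = h * z * h⁻¹ * l := by group
  intro h hh
  rw [Subgroup.mem_normalizer_iff]
  intro r
  constructor
  · exact key h hh r
  · intro hr
    have := key _ (H.inv_mem hh) _ hr
    have e : h⁻¹ * (h * r * h⁻¹) * h⁻¹⁻¹ = r := by group
    rwa [e] at this

end pel

variable {X : Type*} [Group X] {p : ℕ} [Fact p.Prime] {M₁ M₂ : Subgroup X}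

theorem stabilizer_sup_of_adj (hgen : M₁ ⊔ M₂ = ⊤) {δ μ : CosetVertex M₁ M₂}
    (hadj : (cosetGraph M₁ M₂).Adj δ μ) :
    MulAction.stabilizer X δ ⊔ MulAction.stabilizer X μ = ⊤ := by
  obtain ⟨x, -, ⟨hδ, hμ⟩ | ⟨hδ, hμ⟩⟩ := edgeStabilizer_eq_of_adj hadj
  · rw [hδ, hμ, ← Subgroup.map_sup, hgen, ← MonoidHom.range_eq_map, MonoidHom.range_eq_top]
    exact (MulAut.conj x).surjective
  · rw [hδ, hμ, ← Subgroup.map_sup, sup_comm, hgen, ← MonoidHom.range_eq_map, MonoidHom.range_eq_top]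
    exact (MulAut.conj x).surjective

/-- a subgroup of an edge stabilizer normalized by both vertex stabilizers is trivial -/
theorem eq_bot_of_le_edge_of_normalized (h : IsAmalgamPair M₁ M₂) {δ μ : CosetVertex M₁ M₂}
    (hadj : (cosetGraph M₁ M₂).Adj δ μ) (W : Subgroup X) (hW : W ≤ edgeStabilizer δ μ)
    (h1 : MulAction.stabilizer X δ ≤ Subgroup.normalizer (W : Set X))
    (h2 : MulAction.stabilizer X μ ≤ Subgroup.normalizer (W : Set X)) : W = ⊥ := by
  have hn : W.Normal := by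
    apply Subgroup.normalizer_eq_top_iff.mp
    rw [eq_top_iff, ← stabilizer_sup_of_adj h.1 hadj]
    exact sup_le h1 h2
  obtain ⟨x, he, -⟩ := edgeStabilizer_eq_of_adj hadj
  apply h.2.2.2 W ?_ hn
  intro w hw
  have hw' : x * w * x⁻¹ ∈ W := hn.conj_mem w hw x
  have := hW hw'
  rw [he] at this
  obtain ⟨m, hm, hmw⟩ := this
  have : m = w := by
    have h3 : x * m * x⁻¹ = x * w * x⁻¹ := hmw
    have h4 : m = x⁻¹ * (x * m * x⁻¹) * x := by group
    rw [h4, h3]; group
  rw [← this]; exact hm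

/-- S2749 -/
theorem center_pElementClosure_eq_bot (h : IsCharPAmalgamPair p M₁ M₂) (α β : CosetVertex M₁ M₂)
    (hβ : (cosetGraph M₁ M₂).Adj α β) (S : Sylow p ↥(edgeStabilizer α β)) (T : Subgroup X)
    (hT : T = (S : Subgroup ↥(edgeStabilizer α β)).map (edgeStabilizer α β).subtype)
    (L : Subgroup X) (hL : L ≤ MulAction.stabilizer X β)
    (hLc : L ≤ Subgroup.centralizer (omegaOne p (T ⊓ Subgroup.centralizer (T : Set X)) : Set X))
    (hLt : ∀ ν ν' : CosetVertex M₁ M₂, (cosetGraph M₁ M₂).Adj β ν → (cosetGraph M₁ M₂).Adj β ν' →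
      ∃ g ∈ L, g • ν = ν') :
    Subgroup.center ↥(pElementClosure p (MulAction.stabilizer X α)) = ⊥ := by
  have hp : p.Prime := Fact.out
  haveI := stabilizer_finite h α
  haveI := stabilizer_finite h β
  haveI : Finite ↥(edgeStabilizer α β) :=
    Finite.of_injective _ (Subgroup.inclusion_injective (inf_le_left : edgeStabilizer α β ≤ _))
  set Gα := MulAction.stabilizer X α with hGα
  set Lα := pElementClosure p Gα with hLα
  have hLαG : Lα ≤ Gα := pElementClosure_le Gα
  -- T is a Sylow subgroup of G_α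
  have hTe : IsSylowIn p T (edgeStabilizer α β) := by rw [hT]; exact IsSylowIn.of_sylow S
  have hTα : IsSylowIn p T Gα := hTe.of_le_of_factorization inf_le_left (factorization_edge h hβ).1
  have hTLα : T ≤ Lα := le_pElementClosure_of_isPGroup' hTα.isPGroup hTα.1
  -- O_p(G_α) ≤ T
  have hQT : pCoreOf p Gα ≤ T := by
    obtain ⟨R, hR⟩ := hTα.exists_sylow_map
    rw [← hR]
    exact Subgroup.map_mono (pCore_le_sylow R)
  have hQLα : pCoreOf p Gα ≤ Lα := hQT.trans hTLα
  -- the centre of Lα in X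
  set Zc : Subgroup X := Lα ⊓ Subgroup.centralizer (Lα : Set X) with hZc
  have hZcmap : (Subgroup.center ↥Lα).map Lα.subtype = Zc := by
    ext z
    constructor
    · rintro ⟨⟨z, hz⟩, hzc, rfl⟩
      refine ⟨hz, ?_⟩
      apply Subgroup.mem_centralizer_iff.mpr
      intro l hl
      have := Subgroup.mem_center_iff.mp hzc ⟨l, hl⟩
      exact congrArg Subtype.val this
    · rintro ⟨hz, hzc⟩
      refine ⟨⟨z, hz⟩, ?_, rfl⟩
      apply Subgroup.mem_center_iff.mpr
      rintro ⟨l, hl⟩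
      exact Subtype.ext (Subgroup.mem_centralizer_iff.mp hzc l hl)
  -- Zc ≤ O_p(G_α) by characteristic p
  have hcharp := stabilizer_isCharP h α
  have hZcQ : Zc ≤ pCoreOf p Gα := by
    intro z hz
    have hzG : z ∈ Gα := hLαG hz.1
    have hzc : (⟨z, hzG⟩ : ↥Gα) ∈ Subgroup.centralizer (pCore p ↥Gα : Set ↥Gα) := by
      rw [Subgroup.mem_centralizer_iff]
      intro q hq
      have hq' : (q : X) ∈ Lα := hQLα ⟨q, hq, rfl⟩
      exact Subtype.ext (Subgroup.mem_centralizer_iff.mp hz.2 _ hq')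
    exact ⟨⟨z, hzG⟩, hcharp hzc, rfl⟩
  have hZcT : Zc ≤ T ⊓ Subgroup.centralizer (T : Set X) :=
    le_inf (hZcQ.trans hQT) (inf_le_right.trans (Subgroup.centralizer_le hTLα))
  -- W
  set W := omegaOne p Zc with hW
  have hWle : W ≤ omegaOne p (T ⊓ Subgroup.centralizer (T : Set X)) := by
    apply Subgroup.closure_mono
    rintro x ⟨hx, hxp⟩
    exact ⟨hZcT hx, hxp⟩
  have hWZc : W ≤ Zc := by
    rw [hW, omegaOne, Subgroup.closure_le]
    rintro x ⟨hx, -⟩
    exact hx
  have hGαW : Gα ≤ Subgroup.normalizer (W : Set X) :=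
    ((le_normalizer_inf_centralizer (le_normalizer_pElementClosure' Gα)).trans
      (normalizer_le_normalizer_omegaOne Zc))
  have hLW : L ≤ Subgroup.normalizer (W : Set X) :=
    (hLc.trans (Subgroup.centralizer_le hWle)).trans (Subgroup.centralizer_le_normalizer _)
  have hGβW : MulAction.stabilizer X β ≤ Subgroup.normalizer (W : Set X) := by
    intro g hg
    have hadj' : (cosetGraph M₁ M₂).Adj β (g • α) := by
      have := cg_smul_adj M₁ M₂ g hβ.symm
      rwa [MulAction.mem_stabilizer_iff.mp hg] at this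
    obtain ⟨l, hl, hlα⟩ := hLt α (g • α) hβ.symm hadj'
    have hk : l⁻¹ * g ∈ Gα := by
      rw [hGα, MulAction.mem_stabilizer_iff, mul_smul, ← hlα, inv_smul_smul]
    have e : g = l * (l⁻¹ * g) := by group
    rw [e]
    exact Subgroup.mul_mem _ (hLW hl) (hGαW hk)
  have hWedge : W ≤ edgeStabilizer α β := (hWle.trans ?_).trans hTe.1
  swap
  · rw [omegaOne, Subgroup.closure_le]
    rintro x ⟨hx, -⟩
    exact hx.1
  have hWbot : W = ⊥ := eq_bot_of_le_edge_of_normalized h.1 hβ W hWedge hGαW hGβW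
  -- hence Zc = ⊥
  have hZcbot : Zc = ⊥ := by
    by_contra hne
    have hZcp : IsPGroup p ↥Zc := (hTα.isPGroup).to_le (hZcT.trans inf_le_left)
    haveI : Finite ↥Zc := Finite.of_injective _ (Subgroup.inclusion_injective (hLαG.trans' inf_le_left))
    haveI : Nontrivial ↥Zc := (Subgroup.nontrivial_iff_ne_bot Zc).mpr hne
    rcases hZcp.card_eq_or_dvd with h1 | h1
    · exact hne (Subgroup.card_eq_one.mp h1)
    · obtain ⟨x, hx⟩ := exists_prime_orderOf_dvd_card' p h1
      have hxW : (x : X) ∈ W := by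
        apply Subgroup.subset_closure
        refine ⟨x.2, ?_⟩
        have : x ^ p = 1 := by rw [← hx]; exact pow_orderOf_eq_one x
        have := congrArg Subtype.val this
        simpa using this
      rw [hWbot, Subgroup.mem_bot] at hxW
      have hx1 : x = 1 := Subtype.ext hxW
      rw [hx1, orderOf_one] at hx
      exact hp.one_lt.ne hx
  rw [← hZcmap] at hZcbot
  exact (Subgroup.map_eq_bot_iff_of_injective _ Lα.subtype_injective).mp hZcbot

end Cfsg.Agent.Lib.Helper7
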