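import Mathlib
import Cfsg.Prelude.Def_Amalgam
import Cfsg.Agent.Lib.Helper7.AmalgamCritical3
import Cfsg.Agent.Lib.Helper7.PMinimalStructure

set_option autoImplicit false

namespace Cfsg.Agent.Lib.Helper7

open Cfsg Cfsg.Agent.H7 Cfsg.Agent.Lib.Lead.Conj
open scoped Pointwise

section gen

variable {G : Type*} [Group G] {p : ℕ} [Fact p.Prime]

/-- normalizer membership from closure under conjugation by `g` and `g⁻¹` -/
theorem mem_normalizer_of_conj_mem_both (R : Subgroup G) (g : G)
    (h1 : ∀ r ∈ R, g * r * g⁻¹ ∈ R) (h2 : ∀ r ∈ R, g⁻¹ * r * g ∈ R) :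
    g ∈ Subgroup.normalizer (R : Set G) := by
  rw [Subgroup.mem_normalizer_iff]
  intro r
  constructor
  · exact h1 r
  · intro hr
    have := h2 _ hr
    have e : g⁻¹ * (g * r * g⁻¹) * g = r := by group
    rwa [e] at this

/-- Frattini argument for a finite normal subgroup of a possibly infinite group -/
theorem IsSylowIn.frattini' {P N K : Subgroup G} [Finite ↥N] (hP : IsSylowIn p P N) (hNK : N ≤ K)
    (hN : K ≤ Subgroup.normalizer (N : Set G)) :
    K ≤ (K ⊓ Subgroup.normalizer (P : Set G)) ⊔ N := by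
  intro k hk
  have hkN := hN hk
  have hPk : IsSylowIn p (P.map (MulAut.conj k).toMonoidHom) N := by
    refine ⟨?_, ?_⟩
    · rintro _ ⟨x, hx, rfl⟩
      exact (Subgroup.mem_normalizer_iff.mp hkN x).mp (hP.1 hx)
    · rw [card_map_conj]; exact hP.2
  obtain ⟨n, hn, e⟩ := hP.conj' hPk
  have hmem : n⁻¹ * k ∈ Subgroup.normalizer (P : Set G) := by
    apply Subgroup.mem_normalizer_iff_map_conj_eq.mpr
    have h1 : P.map (MulAut.conj (n⁻¹ * k)).toMonoidHom =
        (P.map (MulAut.conj k).toMonoidHom).map (MulAut.conj n⁻¹).toMonoidHom := by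
      rw [Subgroup.map_map]
      congr 1
      ext x
      simp [MulAut.conj_apply, mul_assoc]
    show P.map (MulAut.conj (n⁻¹ * k)).toMonoidHom = P
    rw [h1, e, map_conj_map_conj_inv]
  have e2 : k = (n⁻¹ * k) * ((n⁻¹ * k)⁻¹ * n * (n⁻¹ * k)) := by group
  rw [e2]
  apply Subgroup.mul_mem_sup
  · exact Subgroup.mem_inf.mpr ⟨Subgroup.mul_mem _ (Subgroup.inv_mem _ (hNK hn)) hk, hmem⟩
  · have hnk : n⁻¹ * k ∈ Subgroup.normalizer (N : Set G) :=
      Subgroup.mul_mem _ (Subgroup.inv_mem _ (Subgroup.le_normalizer hn)) hkN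
    have := (Subgroup.mem_normalizer_iff.mp (Subgroup.inv_mem _ hnk) n).mp hn
    rw [inv_inv] at this
    exact this

theorem IsSylowIn.of_mid' {R L H : Subgroup G} [Finite ↥H] (hR : IsSylowIn p R H) (hRL : R ≤ L)
    (hLH : L ≤ H) : IsSylowIn p R L := by
  have hp : p.Prime := Fact.out
  haveI : Finite ↥L := Finite.of_injective _ (Subgroup.inclusion_injective hLH)
  refine ⟨hRL, ?_⟩
  rw [hR.2]
  congr 1
  apply le_antisymm
  · have h1 : p ^ (Nat.card ↥H).factorization p ∣ Nat.card ↥L := by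
      rw [← hR.2]; exact Subgroup.card_dvd_of_le hRL
    exact (hp.pow_dvd_iff_le_factorization Nat.card_pos.ne').mp h1
  · have h2 : Nat.card ↥L ∣ Nat.card ↥H := Subgroup.card_dvd_of_le hLH
    exact (Nat.factorization_le_iff_dvd Nat.card_pos.ne' Nat.card_pos.ne').mpr h2 p

omit [Fact p.Prime] in
/-- `Y` normalizes the subgroup generated by the `Y`-conjugates of `X` -/
theorem le_normalizer_conjClosure' (X Y : Subgroup G) :
    Y ≤ Subgroup.normalizer (conjClosure X Y : Set G) := by
  have key : ∀ g ∈ Y, ∀ r ∈ conjClosure X Y, g * r * g⁻¹ ∈ conjClosure X Y := by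
    intro g hg r hr
    have hle : (conjClosure X Y).map (MulAut.conj g).toMonoidHom ≤ conjClosure X Y := by
      rw [conjClosure, Subgroup.map_iSup]
      apply iSup_le
      rintro ⟨y, hy⟩ _ ⟨_, ⟨x, hx, rfl⟩, rfl⟩
      refine (le_iSup (fun y : ↥Y => X.map (MulAut.conj (y : G)).toMonoidHom) ⟨g * y, Y.mul_mem hg hy⟩) ?_
      refine ⟨x, hx, ?_⟩
      simp only [MulEquiv.coe_toMonoidHom, MulAut.conj_apply]
      group
    exact hle ⟨r, hr, rfl⟩
  intro g hg
  apply mem_normalizer_of_conj_mem_both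
  · exact key g hg
  · intro r hr
    have := key g⁻¹ (Y.inv_mem hg) r hr
    rwa [inv_inv] at this

omit [Fact p.Prime] in
/-- a subgroup `A` normalizing `X` and normalized by `Y` normalizes the `Y`-conjugate closure of `X` -/
theorem le_normalizer_conjClosure_of (X Y A : Subgroup G)
    (hAX : A ≤ Subgroup.normalizer (X : Set G)) (hYA : Y ≤ Subgroup.normalizer (A : Set G)) :
    A ≤ Subgroup.normalizer (conjClosure X Y : Set G) := by
  have key : ∀ a ∈ A, ∀ r ∈ conjClosure X Y, a * r * a⁻¹ ∈ conjClosure X Y := by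
    intro a ha r hr
    have hle : (conjClosure X Y).map (MulAut.conj a).toMonoidHom ≤ conjClosure X Y := by
      rw [conjClosure, Subgroup.map_iSup]
      apply iSup_le
      rintro ⟨y, hy⟩ _ ⟨_, ⟨x, hx, rfl⟩, rfl⟩
      refine (le_iSup (fun y : ↥Y => X.map (MulAut.conj (y : G)).toMonoidHom) ⟨y, hy⟩) ?_
      have ha' : y⁻¹ * a * y ∈ A := by
        have := (Subgroup.mem_normalizer_iff.mp (hYA (Y.inv_mem hy)) a).mp ha
        simpa using this
      have hx' : (y⁻¹ * a * y) * x * (y⁻¹ * a * y)⁻¹ ∈ X :=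
        (Subgroup.mem_normalizer_iff.mp (hAX ha') x).mp hx
      refine ⟨_, hx', ?_⟩
      simp only [MulEquiv.coe_toMonoidHom, MulAut.conj_apply]
      group
    exact hle ⟨r, hr, rfl⟩
  intro a ha
  apply mem_normalizer_of_conj_mem_both
  · exact key a ha
  · intro r hr
    have := key a⁻¹ (A.inv_mem ha) r hr
    rwa [inv_inv] at this

omit [Fact p.Prime] in
theorem map_conj_inf_normalizer (A T₀ : Subgroup G) (x : G) :
    (A ⊓ Subgroup.normalizer (T₀ : Set G)).map (MulAut.conj x).toMonoidHom =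
      A.map (MulAut.conj x).toMonoidHom ⊓
        Subgroup.normalizer ((T₀.map (MulAut.conj x).toMonoidHom : Subgroup G) : Set G) := by
  rw [Subgroup.map_inf _ _ _ (MulAut.conj x).injective]
  congr 1
  exact Subgroup.map_equiv_normalizer_eq T₀ (MulAut.conj x)

end gen

variable {X : Type*} [Group X] {p : ℕ} [Fact p.Prime] {M₁ M₂ : Subgroup X}

/-- on every edge, the normalizers of an edge Sylow subgroup in the two vertex stabilizers coincide -/
theorem normalizer_edge_sylow_eq (h : IsSpeAmalgamPair p M₁ M₂) {δ μ : CosetVertex M₁ M₂}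
    (hadj : (cosetGraph M₁ M₂).Adj δ μ) {T : Subgroup X} (hT : IsSylowIn p T (edgeStabilizer δ μ)) :
    MulAction.stabilizer X δ ⊓ Subgroup.normalizer (T : Set X) =
      MulAction.stabilizer X μ ⊓ Subgroup.normalizer (T : Set X) := by
  obtain ⟨hc, hN, -, -⟩ := h
  obtain ⟨-, hf1, hf2, -⟩ := hc
  haveI := hf1
  haveI : Finite ↥(M₁ ⊓ M₂) :=
    Finite.of_injective _ (Subgroup.inclusion_injective (inf_le_left : M₁ ⊓ M₂ ≤ M₁))
  obtain ⟨x, he, hcases⟩ := edgeStabilizer_eq_of_adj hadj
  set T₀ := T.map (MulAut.conj x⁻¹).toMonoidHom with hT₀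
  have hTT₀ : T = T₀.map (MulAut.conj x).toMonoidHom := (map_conj_inv_map_conj' T x).symm
  have hT₀s : IsSylowIn p T₀ (M₁ ⊓ M₂) := by
    refine ⟨?_, ?_⟩
    · have h1 : T₀ ≤ ((M₁ ⊓ M₂).map (MulAut.conj x).toMonoidHom).map (MulAut.conj x⁻¹).toMonoidHom := by
        rw [← he]; exact Subgroup.map_mono hT.1
      rwa [map_conj_map_conj_inv] at h1
    · rw [hT₀, card_map_conj', hT.2, he, card_map_conj']
  obtain ⟨S₀, hS₀⟩ := hT₀s.exists_sylow_map
  obtain ⟨heq, -⟩ := hN S₀
  rw [hS₀] at heq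
  rcases hcases with ⟨hδ, hμ⟩ | ⟨hδ, hμ⟩
  · rw [hδ, hμ, hTT₀, ← map_conj_inf_normalizer, ← map_conj_inf_normalizer, heq]
  · rw [hδ, hμ, hTT₀, ← map_conj_inf_normalizer, ← map_conj_inf_normalizer, heq]

/-- S2750 -/
theorem no_common_normal_in_sylow (h : IsSpeAmalgamPair p M₁ M₂) (δ μ : CosetVertex M₁ M₂)
    (hμ : (cosetGraph M₁ M₂).Adj δ μ) (S : Sylow p ↥(edgeStabilizer δ μ)) (T : Subgroup X)
    (hT : T = (S : Subgroup ↥(edgeStabilizer δ μ)).map (edgeStabilizer δ μ).subtype)
    (U : Subgroup X) (hUT : U ≤ T)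
    (hU1 : pElementClosure p (MulAction.stabilizer X δ) ≤ Subgroup.normalizer (U : Set X))
    (hU2 : pElementClosure p (MulAction.stabilizer X μ) ≤ Subgroup.normalizer (U : Set X)) :
    U = ⊥ := by
  have hc := h.1
  haveI := stabilizer_finite hc δ
  haveI := stabilizer_finite hc μ
  haveI : Finite ↥(edgeStabilizer δ μ) :=
    Finite.of_injective _ (Subgroup.inclusion_injective (inf_le_left : edgeStabilizer δ μ ≤ _))
  have hTe : IsSylowIn p T (edgeStabilizer δ μ) := by rw [hT]; exact IsSylowIn.of_sylow S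
  obtain ⟨hf1, hf2⟩ := factorization_edge hc hμ
  have hTδ := hTe.of_le_of_factorization inf_le_left hf1
  have hTμ := hTe.of_le_of_factorization inf_le_right hf2
  have hNeq := normalizer_edge_sylow_eq h hμ hTe
  set Y := MulAction.stabilizer X δ ⊓ Subgroup.normalizer (T : Set X) with hY
  set W := conjClosure U Y with hW
  have hWT : W ≤ T := conjClosure_le hUT inf_le_right
  -- generic step
  have step : ∀ ν : CosetVertex M₁ M₂, Finite ↥(MulAction.stabilizer X ν) →
      IsSylowIn p T (MulAction.stabilizer X ν) →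
      pElementClosure p (MulAction.stabilizer X ν) ≤ Subgroup.normalizer (U : Set X) →
      Y = MulAction.stabilizer X ν ⊓ Subgroup.normalizer (T : Set X) →
      MulAction.stabilizer X ν ≤ Subgroup.normalizer (W : Set X) := by
    intro ν hfin hTν hUν hYν
    haveI := hfin
    have hLG := pElementClosure_le (p := p) (MulAction.stabilizer X ν)
    haveI : Finite ↥(pElementClosure p (MulAction.stabilizer X ν)) :=
      Finite.of_injective _ (Subgroup.inclusion_injective hLG)
    have hTL : T ≤ pElementClosure p (MulAction.stabilizer X ν) :=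
      le_pElementClosure_of_isPGroup' hTν.isPGroup hTν.1
    have hTsL := hTν.of_mid' hTL hLG
    have hfr := hTsL.frattini' hLG (le_normalizer_pElementClosure' _)
    refine hfr.trans (sup_le ?_ ?_)
    · rw [← hYν]; exact le_normalizer_conjClosure' U Y
    · apply le_normalizer_conjClosure_of U Y _ hUν
      rw [hYν]
      exact inf_le_left.trans (le_normalizer_pElementClosure' _)
  have h1 := step δ inferInstance hTδ hU1 rfl
  have h2 := step μ inferInstance hTμ hU2 hNeq
  have hWbot : W = ⊥ := eq_bot_of_le_edge_of_normalized hc.1 hμ W (hWT.trans hTe.1) h1 h2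
  rw [← le_bot_iff, ← hWbot]
  exact le_conjClosure U Y

end Cfsg.Agent.Lib.Helper7
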