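import Mathlib
import Cfsg.Prelude.Def_Amalgam
import Cfsg.Prelude.Def_LocalStructure
import Cfsg.Agent.Lib.Helper7.AmalgamSpe
import Cfsg.Agent.Lib.Lead.PResidual

set_option autoImplicit false

namespace Cfsg.Agent.Lib.Helper7

open Cfsg Cfsg.Agent.H7 Cfsg.Agent.Lib.Lead.Conj
open scoped Pointwise commutatorElement

variable {X : Type*} [Group X] {p : ℕ} [Fact p.Prime] {M₁ M₂ : Subgroup X}

section dist

variable (M₁ M₂)

/-- the graph endomorphism of the coset graph given by an element of `X` -/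
def smulHom (g : X) : cosetGraph M₁ M₂ →g cosetGraph M₁ M₂ where
  toFun := fun v => g • v
  map_rel' := fun h => cg_smul_adj M₁ M₂ g h

variable {M₁ M₂}

theorem dist_smul_le (hgen : M₁ ⊔ M₂ = ⊤) (g : X) (a b : CosetVertex M₁ M₂) :
    (cosetGraph M₁ M₂).dist (g • a) (g • b) ≤ (cosetGraph M₁ M₂).dist a b := by
  have hconn := cg_connected M₁ M₂ hgen
  obtain ⟨w, hw⟩ := (hconn a b).exists_walk_length_eq_dist
  have := SimpleGraph.dist_le (w.map (smulHom M₁ M₂ g))
  rw [SimpleGraph.Walk.length_map, hw] at this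
  exact this

theorem dist_smul (hgen : M₁ ⊔ M₂ = ⊤) (g : X) (a b : CosetVertex M₁ M₂) :
    (cosetGraph M₁ M₂).dist (g • a) (g • b) = (cosetGraph M₁ M₂).dist a b := by
  apply le_antisymm (dist_smul_le hgen g a b)
  have := dist_smul_le hgen g⁻¹ (g • a) (g • b)
  rwa [inv_smul_smul, inv_smul_smul] at this

end dist

section zequiv

omit [Fact p.Prime] in
theorem card_map_equiv' (H : Subgroup X) (φ : X ≃* X) :
    Nat.card ↥(H.map φ.toMonoidHom) = Nat.card ↥H :=
  Nat.card_congr (H.equivMapOfInjective _ φ.injective).symm.toEquiv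

theorem omegaCenter_le_sylowCenterClosure {K T : Subgroup X} [Finite ↥K] (hT : IsSylowIn p T K) :
    omegaOne p (T ⊓ Subgroup.centralizer (T : Set X)) ≤ sylowCenterClosure p K := by
  obtain ⟨R, hR⟩ := hT.exists_sylow_map
  unfold sylowCenterClosure
  rw [← hR]
  exact le_iSup_of_le R le_rfl

theorem sylowCenterClosure_map_le (H : Subgroup X) [Finite ↥H] (φ : X ≃* X) :
    (sylowCenterClosure p H).map φ.toMonoidHom ≤ sylowCenterClosure p (H.map φ.toMonoidHom) := by
  haveI : Finite ↥(H.map φ.toMonoidHom) :=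
    Finite.of_equiv _ (H.equivMapOfInjective _ φ.injective).toEquiv
  conv_lhs => unfold sylowCenterClosure
  rw [Subgroup.map_iSup]
  apply iSup_le
  intro S
  rw [← omegaOne_center_map φ.toMonoidHom φ.injective]
  apply omegaCenter_le_sylowCenterClosure
  have hS := IsSylowIn.of_sylow S
  refine ⟨Subgroup.map_mono hS.1, ?_⟩
  rw [card_map_equiv', card_map_equiv', hS.2]

theorem vertexZ_smul (h : IsCharPAmalgamPair p M₁ M₂) (g : X) (μ : CosetVertex M₁ M₂) :
    vertexZ p (g • μ) = (vertexZ p μ).map (MulAut.conj g).toMonoidHom := by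
  haveI := stabilizer_finite h μ
  haveI := stabilizer_finite h (g • μ)
  apply le_antisymm
  · have h1 := sylowCenterClosure_map_le (p := p) (MulAction.stabilizer X (g • μ)) (MulAut.conj g⁻¹)
    rw [← MulAction.stabilizer_smul_eq_stabilizer_map_conj, inv_smul_smul] at h1
    have h2 := Subgroup.map_mono (f := (MulAut.conj g).toMonoidHom) h1
    rwa [map_conj_inv_map_conj'] at h2
  · have h1 := sylowCenterClosure_map_le (p := p) (MulAction.stabilizer X μ) (MulAut.conj g)
    rwa [← MulAction.stabilizer_smul_eq_stabilizer_map_conj] at h1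

theorem vertexVIter_smul (h : IsCharPAmalgamPair p M₁ M₂) (n : ℕ) (g : X) (δ : CosetVertex M₁ M₂) :
    vertexVIter p M₁ M₂ n (g • δ) = (vertexVIter p M₁ M₂ n δ).map (MulAut.conj g).toMonoidHom := by
  have hgen := h.1.1
  unfold vertexVIter
  rw [Subgroup.map_iSup]
  apply le_antisymm
  · apply iSup_le
    rintro ⟨ν, hν⟩
    have hν' : (cosetGraph M₁ M₂).dist δ (g⁻¹ • ν) ≤ n := by
      have := dist_smul hgen g⁻¹ (g • δ) ν
      rw [inv_smul_smul] at this
      rw [this]; exact hν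
    refine le_iSup_of_le ⟨g⁻¹ • ν, hν'⟩ ?_
    rw [← vertexZ_smul h, smul_inv_smul]
  · apply iSup_le
    rintro ⟨ν, hν⟩
    have hν' : (cosetGraph M₁ M₂).dist (g • δ) (g • ν) ≤ n := by
      rw [dist_smul hgen]; exact hν
    refine le_iSup_of_le ⟨g • ν, hν'⟩ ?_
    rw [← vertexZ_smul h]

theorem stabilizer_le_normalizer_vertexVIter (h : IsCharPAmalgamPair p M₁ M₂) (n : ℕ)
    (δ : CosetVertex M₁ M₂) :
    MulAction.stabilizer X δ ≤ Subgroup.normalizer ((vertexVIter p M₁ M₂ n δ : Subgroup X) : Set X) := by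
  intro g hg
  apply Subgroup.mem_normalizer_iff_map_conj_eq.mpr
  have := vertexVIter_smul h n g δ
  rw [MulAction.mem_stabilizer_iff.mp hg] at this
  exact this.symm

omit [Fact p.Prime] in
theorem vertexZ_le_vertexVIter {n : ℕ} {δ ν : CosetVertex M₁ M₂}
    (hν : (cosetGraph M₁ M₂).dist δ ν ≤ n) : vertexZ p ν ≤ vertexVIter p M₁ M₂ n δ := by
  unfold vertexVIter
  exact le_iSup_of_le ⟨ν, hν⟩ le_rfl

omit [Fact p.Prime] in
theorem vertexVIter_le_of {n m : ℕ} {δ μ : CosetVertex M₁ M₂}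
    (hd : ∀ ν, (cosetGraph M₁ M₂).dist μ ν ≤ m → (cosetGraph M₁ M₂).dist δ ν ≤ n) :
    vertexVIter p M₁ M₂ m μ ≤ vertexVIter p M₁ M₂ n δ := by
  conv_lhs => unfold vertexVIter
  apply iSup_le
  rintro ⟨ν, hν⟩
  exact vertexZ_le_vertexVIter (hd ν hν)

end zequiv


section main

omit [Fact p.Prime] in
theorem exists_adj (δ : CosetVertex M₁ M₂) : ∃ μ, (cosetGraph M₁ M₂).Adj δ μ := by
  obtain ⟨x, rfl | rfl⟩ := vertex_cases M₁ M₂ δ
  · exact ⟨_, cg_adj_inl_inr M₁ M₂ x⟩
  · exact ⟨_, (cg_adj_inl_inr M₁ M₂ x).symm⟩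

/-- data of an edge: a common Sylow subgroup -/
theorem exists_edge_sylow (h : IsCharPAmalgamPair p M₁ M₂) {δ μ : CosetVertex M₁ M₂}
    (hadj : (cosetGraph M₁ M₂).Adj δ μ) :
    ∃ T : Subgroup X, IsSylowIn p T (edgeStabilizer δ μ) ∧ IsSylowIn p T (MulAction.stabilizer X δ) ∧
      IsSylowIn p T (MulAction.stabilizer X μ) := by
  haveI := stabilizer_finite h δ
  haveI : Finite ↥(edgeStabilizer δ μ) :=
    Finite.of_injective _ (Subgroup.inclusion_injective (inf_le_left : edgeStabilizer δ μ ≤ _))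
  obtain ⟨R⟩ : Nonempty (Sylow p ↥(edgeStabilizer δ μ)) := inferInstance
  have hTe := IsSylowIn.of_sylow R
  obtain ⟨hf1, hf2⟩ := factorization_edge h hadj
  exact ⟨_, hTe, hTe.of_le_of_factorization inf_le_left hf1, hTe.of_le_of_factorization inf_le_right hf2⟩

/-- `O^{p'}(G_δ)` is transitive on the neighbours of `δ` -/
theorem pElementClosure_transitive (h : IsSpeAmalgamPair p M₁ M₂) {δ μ μ' : CosetVertex M₁ M₂}
    (hμ : (cosetGraph M₁ M₂).Adj δ μ) (hμ' : (cosetGraph M₁ M₂).Adj δ μ') :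
    ∃ l ∈ pElementClosure p (MulAction.stabilizer X δ), l • μ = μ' := by
  have hc := h.1
  haveI := stabilizer_finite hc δ
  obtain ⟨g, hg, hgμ⟩ := cg_neighbours_transitive M₁ M₂ δ μ μ' hμ hμ'
  obtain ⟨T, hTe, hTδ, -⟩ := exists_edge_sylow hc hμ
  have hNeq := normalizer_edge_sylow_eq h hμ hTe
  have hLG := pElementClosure_le (p := p) (MulAction.stabilizer X δ)
  haveI : Finite ↥(pElementClosure p (MulAction.stabilizer X δ)) :=
    Finite.of_injective _ (Subgroup.inclusion_injective hLG)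
  have hTL : T ≤ pElementClosure p (MulAction.stabilizer X δ) :=
    le_pElementClosure_of_isPGroup' hTδ.isPGroup hTδ.1
  have hfr := (hTδ.of_mid' hTL hLG).frattini' hLG (le_normalizer_pElementClosure' _)
  have hgm := hfr hg
  rw [sup_comm, ← SetLike.mem_coe, Subgroup.coe_mul_of_right_le_normalizer_left _ _
    (inf_le_left.trans (le_normalizer_pElementClosure' _)), Set.mem_mul] at hgm
  obtain ⟨l, hl, k, hk, rfl⟩ := hgm
  refine ⟨l, hl, ?_⟩
  have hkμ : k ∈ MulAction.stabilizer X μ := by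
    have : k ∈ MulAction.stabilizer X μ ⊓ Subgroup.normalizer (T : Set X) := by rw [← hNeq]; exact hk
    exact this.1
  rw [← hgμ, mul_smul, MulAction.mem_stabilizer_iff.mp hkμ]

theorem vertexZ_ne_bot (h : IsCharPAmalgamPair p M₁ M₂) (δ : CosetVertex M₁ M₂) :
    vertexZ p δ ≠ ⊥ := by
  have hp : p.Prime := Fact.out
  haveI := stabilizer_finite h δ
  have hdvd : p ∣ Nat.card ↥(MulAction.stabilizer X δ) := by
    obtain ⟨-, -, -, hd1, hd2, -⟩ := h
    rcases stabilizer_equiv M₁ M₂ δ with ⟨⟨e⟩⟩ | ⟨⟨e⟩⟩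
    · rw [← Nat.card_congr e.toEquiv]; exact hd1
    · rw [← Nat.card_congr e.toEquiv]; exact hd2
  obtain ⟨S⟩ : Nonempty (Sylow p ↥(MulAction.stabilizer X δ)) := inferInstance
  have hT := IsSylowIn.of_sylow S
  set T := (S : Subgroup ↥(MulAction.stabilizer X δ)).map (MulAction.stabilizer X δ).subtype with hTdef
  haveI : Finite ↥T := Finite.of_injective _ (Subgroup.inclusion_injective hT.1)
  have hTp : IsPGroup p ↥T := hT.isPGroup
  haveI : Nontrivial ↥T := by
    rw [← Finite.one_lt_card_iff_nontrivial, hT.2]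
    apply Nat.one_lt_pow _ hp.one_lt
    have := (hp.dvd_iff_one_le_factorization Nat.card_pos.ne').mp hdvd
    omega
  haveI := hTp.center_nontrivial
  have hZp : IsPGroup p ↥(Subgroup.center ↥T) := hTp.to_subgroup _
  rcases hZp.card_eq_or_dvd with h1 | h1
  · exact absurd h1 (Finite.one_lt_card_iff_nontrivial.mpr inferInstance).ne'
  obtain ⟨z, hz⟩ := exists_prime_orderOf_dvd_card' p h1
  intro hbot
  have hzmem : ((z : ↥T) : X) ∈ omegaOne p (T ⊓ Subgroup.centralizer (T : Set X)) := by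
    apply Subgroup.subset_closure
    refine ⟨⟨(z : ↥T).2, ?_⟩, ?_⟩
    · apply Subgroup.mem_centralizer_iff.mpr
      intro t ht
      have := Subgroup.mem_center_iff.mp z.2 ⟨t, ht⟩
      exact congrArg Subtype.val this
    · have : z ^ p = 1 := by rw [← hz]; exact pow_orderOf_eq_one z
      have := congrArg (fun w : ↥(Subgroup.center ↥T) => ((w : ↥T) : X)) this
      simpa using this
  have := omegaCenter_le_vertexZ h hT hzmem
  rw [hbot, Subgroup.mem_bot] at this
  have hz1 : z = 1 := Subtype.ext (Subtype.ext this)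
  rw [hz1, orderOf_one] at hz
  exact hp.one_lt.ne hz

/-- the ambient `O^p(O^{p'}(G_δ))` -/
def vertexOp (p : ℕ) (δ : CosetVertex M₁ M₂) : Subgroup X :=
  (pResidual p ↥(pElementClosure p (MulAction.stabilizer X δ))).map
    (pElementClosure p (MulAction.stabilizer X δ)).subtype

theorem pElementClosure_le_vertexOp_sup (h : IsCharPAmalgamPair p M₁ M₂) {δ : CosetVertex M₁ M₂}
    {T : Subgroup X} (hT : IsSylowIn p T (MulAction.stabilizer X δ)) :
    pElementClosure p (MulAction.stabilizer X δ) ≤ vertexOp p δ ⊔ T := by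
  haveI := stabilizer_finite h δ
  obtain ⟨Lδ, hLδ⟩ : ∃ L : Subgroup X, L = pElementClosure p (MulAction.stabilizer X δ) := ⟨_, rfl⟩
  have hLG : Lδ ≤ MulAction.stabilizer X δ := by rw [hLδ]; exact pElementClosure_le (p := p) _
  haveI : Finite ↥Lδ := Finite.of_injective _ (Subgroup.inclusion_injective hLG)
  have hTL : T ≤ Lδ := by rw [hLδ]; exact le_pElementClosure_of_isPGroup' hT.isPGroup hT.1
  obtain ⟨R, hR⟩ := (hT.of_mid' hTL hLG).exists_sylow_map
  have h1 := Cfsg.Agent.Lib.Lead.PResidual.sup_eq_top (p := p) (R : Subgroup ↥Lδ) R.not_dvd_index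
  have hop : vertexOp p δ = (pResidual p ↥Lδ).map Lδ.subtype := by
    subst hLδ; rfl
  rw [hop, ← hLδ]
  intro x hx
  have hx' : (⟨x, hx⟩ : ↥Lδ) ∈ (R : Subgroup ↥Lδ) ⊔ pResidual p ↥Lδ := by
    rw [h1]; trivial
  have h2 := Subgroup.mem_map_of_mem Lδ.subtype hx'
  rw [Subgroup.map_sup, hR, sup_comm] at h2
  exact h2

/-- S2857 -/
theorem vertexVIter_commutator_not_le (h : IsSpeAmalgamPair p M₁ M₂) (lam : CosetVertex M₁ M₂)
    (n : ℕ) (hn : 2 ≤ n) (hVQ : vertexVIter p M₁ M₂ n lam ≤ vertexQ p lam) :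
    ¬ ⁅vertexVIter p M₁ M₂ n lam, vertexOp p lam⁆ ≤ vertexVIter p M₁ M₂ (n - 2) lam := by
  intro hcon
  have hc := h.1
  have hgen := hc.1.1
  have hconn := cg_connected M₁ M₂ hgen
  obtain ⟨μ, hμ⟩ := exists_adj lam
  obtain ⟨T, hTe, hTlam, hTμ⟩ := exists_edge_sylow hc hμ
  have hd1 : (cosetGraph M₁ M₂).dist lam μ = 1 := SimpleGraph.dist_eq_one_iff_adj.mpr hμ
  have hd1' : (cosetGraph M₁ M₂).dist μ lam = 1 := by rw [SimpleGraph.dist_comm]; exact hd1
  set V := vertexVIter p M₁ M₂ n lam with hV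
  set A := vertexVIter p M₁ M₂ (n - 1) μ with hA
  have hAV : A ≤ V := by
    apply vertexVIter_le_of
    intro ν hν
    have := hconn.dist_triangle (u := lam) (v := μ) (w := ν)
    omega
  have hV₂A : vertexVIter p M₁ M₂ (n - 2) lam ≤ A := by
    apply vertexVIter_le_of
    intro ν hν
    have := hconn.dist_triangle (u := μ) (v := lam) (w := ν)
    omega
  have hμA := stabilizer_le_normalizer_vertexVIter hc (n - 1) μ
  have hTA : T ≤ Subgroup.normalizer (A : Set X) := hTμ.1.trans hμA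
  have hOA : vertexOp p lam ≤ Subgroup.normalizer (A : Set X) := by
    have key : ∀ o ∈ vertexOp p lam, ∀ a ∈ A, o * a * o⁻¹ ∈ A := by
      intro o ho a ha
      have h1 : ⁅a, o⁆ ∈ ⁅V, vertexOp p lam⁆ := Subgroup.commutator_mem_commutator (hAV ha) ho
      have h2 : ⁅a, o⁆ ∈ A := hV₂A (hcon h1)
      have e : o * a * o⁻¹ = (⁅a, o⁆)⁻¹ * a := by
        rw [commutatorElement_def]; group
      rw [e]
      exact A.mul_mem (A.inv_mem h2) ha
    intro o ho
    apply mem_normalizer_of_conj_mem_both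
    · exact key o ho
    · intro r hr
      have := key o⁻¹ (Subgroup.inv_mem _ ho) r hr
      rwa [inv_inv] at this
  have hLA : pElementClosure p (MulAction.stabilizer X lam) ≤ Subgroup.normalizer (A : Set X) :=
    (pElementClosure_le_vertexOp_sup hc hTlam).trans (sup_le hOA hTA)
  -- every neighbour's closure lies in `A`
  have hnb : ∀ μ', (cosetGraph M₁ M₂).Adj lam μ' → vertexVIter p M₁ M₂ (n - 1) μ' ≤ A := by
    intro μ' hμ'
    obtain ⟨l, hl, rfl⟩ := pElementClosure_transitive h hμ hμ'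
    rw [vertexVIter_smul hc]
    exact le_of_eq (Subgroup.mem_normalizer_iff_map_conj_eq.mp (hLA hl))
  have hVA : V ≤ A := by
    rw [hV]
    conv_lhs => unfold vertexVIter
    apply iSup_le
    rintro ⟨ν, hν⟩
    rcases Nat.eq_zero_or_pos ((cosetGraph M₁ M₂).dist lam ν) with h0 | hpos
    · have : lam = ν := hconn.dist_eq_zero_iff.mp h0
      subst this
      apply vertexZ_le_vertexVIter
      show (cosetGraph M₁ M₂).dist μ lam ≤ n - 1
      omega
    · obtain ⟨k, hk⟩ := Nat.exists_eq_succ_of_ne_zero hpos.ne'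
      obtain ⟨c, hadj, hdc⟩ := exists_adj_dist_eq hconn hk
      refine le_trans ?_ (hnb c hadj)
      apply vertexZ_le_vertexVIter
      have hν' : (cosetGraph M₁ M₂).dist lam ν ≤ n := hν
      show (cosetGraph M₁ M₂).dist c ν ≤ n - 1
      omega
  have hVeq : V = A := le_antisymm hVA hAV
  have hlamV := stabilizer_le_normalizer_vertexVIter hc n lam
  have hμV : MulAction.stabilizer X μ ≤ Subgroup.normalizer (V : Set X) := by rw [hVeq]; exact hμA
  have hVedge : V ≤ edgeStabilizer lam μ := by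
    refine le_inf (hVQ.trans (Subgroup.map_subtype_le _)) ?_
    exact (hVQ.trans (vertexQ_le_neighbourKernel M₁ M₂ hc lam)).trans (neighbourKernel_le_of_adj hμ)
  have hVbot : V = ⊥ := eq_bot_of_le_edge_of_normalized hc.1 hμ V hVedge hlamV hμV
  apply vertexZ_ne_bot hc lam
  rw [← le_bot_iff, ← hVbot]
  apply vertexZ_le_vertexVIter
  rw [SimpleGraph.dist_self]
  exact Nat.zero_le _

end main

end Cfsg.Agent.Lib.Helper7
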