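import Mathlib
import Cfsg.Prelude.Def_Amalgam
import Cfsg.Prelude.Def_LocalStructure
import Cfsg.Agent.Lib.Helper7.AmalgamVIter

set_option autoImplicit false

namespace Cfsg.Agent.Lib.Helper7

open Cfsg Cfsg.Agent.H7 Cfsg.Agent.Lib.Lead.Conj
open scoped Pointwise commutatorElement

section nilp

theorem eq_bot_of_le_commutator_top {Q : Type*} [Group Q] [hQ : Group.IsNilpotent Q] (N : Subgroup Q)
    (h : N ≤ ⁅N, (⊤ : Subgroup Q)⁆) : N = ⊥ := by
  obtain ⟨k, hk⟩ := Subgroup.nilpotent_iff_lowerCentralSeries.mp hQ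
  have key : ∀ k : ℕ, N ≤ (⊤ : Subgroup Q).lowerCentralSeries k := by
    intro k
    induction k with
    | zero => rw [Subgroup.lowerCentralSeries_zero]; exact le_top
    | succ k ih =>
      rw [Subgroup.lowerCentralSeries_succ]
      exact h.trans (Subgroup.commutator_mono ih le_rfl)
  rw [← le_bot_iff, ← hk]
  exact key k

theorem le_of_le_sup_commutator_top {Q : Type*} [Group Q] [Group.IsNilpotent Q] (V B : Subgroup Q)
    [hB : B.Normal] (h : V ≤ B ⊔ ⁅V, (⊤ : Subgroup Q)⁆) : V ≤ B := by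
  have h1 : V.map (QuotientGroup.mk' B) ≤
      ⁅V.map (QuotientGroup.mk' B), (⊤ : Subgroup (Q ⧸ B))⁆ := by
    calc V.map (QuotientGroup.mk' B) ≤ (B ⊔ ⁅V, (⊤ : Subgroup Q)⁆).map (QuotientGroup.mk' B) :=
          Subgroup.map_mono h
      _ = ⁅V.map (QuotientGroup.mk' B), (⊤ : Subgroup (Q ⧸ B))⁆ := by
          rw [Subgroup.map_sup, Subgroup.map_commutator,
            Subgroup.map_top_of_surjective _ (QuotientGroup.mk'_surjective B),
            (Subgroup.map_eq_bot_iff _).mpr (by rw [QuotientGroup.ker_mk']), bot_sup_eq]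
  have h2 := eq_bot_of_le_commutator_top _ h1
  rw [Subgroup.map_eq_bot_iff, QuotientGroup.ker_mk'] at h2
  exact h2

/-- nilpotent action: `V = B[V, Q]` forces `V = B` inside a finite `p`-group `Q` -/
theorem le_of_le_sup_commutator {G : Type*} [Group G] {p : ℕ} [Fact p.Prime] (Q V B : Subgroup G)
    [Finite ↥Q] (hQ : IsPGroup p ↥Q) (hVQ : V ≤ Q) (hBV : B ≤ V)
    (hQB : Q ≤ Subgroup.normalizer (B : Set G)) (h : V ≤ B ⊔ ⁅V, Q⁆) : V ≤ B := by
  haveI := hQ.isNilpotent
  have hBQ : B ≤ Q := hBV.trans hVQ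
  haveI : (B.subgroupOf Q).Normal := (Subgroup.normal_subgroupOf_iff_le_normalizer hBQ).mpr hQB
  have hcQ : ⁅V, Q⁆ ≤ Q := Subgroup.commutator_le.mpr (fun v hv q hq =>
    Q.mul_mem (Q.mul_mem (Q.mul_mem (hVQ hv) hq) (Q.inv_mem (hVQ hv))) (Q.inv_mem hq))
  have hcomm : (⁅V, Q⁆).subgroupOf Q = ⁅V.subgroupOf Q, (⊤ : Subgroup ↥Q)⁆ := by
    have h1 : (⁅V.subgroupOf Q, (⊤ : Subgroup ↥Q)⁆).map Q.subtype = ⁅V, Q⁆ := by
      rw [Subgroup.map_commutator, Subgroup.map_subgroupOf_eq_of_le hVQ, ← MonoidHom.range_eq_map,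
        Subgroup.range_subtype]
    rw [← h1]
    exact Subgroup.comap_map_eq_self_of_injective Q.subtype_injective _
  have h' : V.subgroupOf Q ≤ B.subgroupOf Q ⊔ ⁅V.subgroupOf Q, (⊤ : Subgroup ↥Q)⁆ := by
    rw [← hcomm, ← Subgroup.subgroupOf_sup hBQ hcQ]
    exact Subgroup.subgroupOf_mono _ h
  have h2 := le_of_le_sup_commutator_top _ _ h'
  intro v hv
  exact Subgroup.mem_subgroupOf.mp (h2 (Subgroup.mem_subgroupOf.mpr hv : (⟨v, hVQ hv⟩ : ↥Q) ∈ _))

end nilp

section norm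

variable {G : Type*} [Group G]

theorem normalizer_inf_le_normalizer_sup (A B : Subgroup G) :
    Subgroup.normalizer (A : Set G) ⊓ Subgroup.normalizer (B : Set G) ≤
      Subgroup.normalizer ((A ⊔ B : Subgroup G) : Set G) := by
  rintro g ⟨hA, hB⟩
  apply Subgroup.mem_normalizer_iff_map_conj_eq.mpr
  rw [Subgroup.map_sup, Subgroup.mem_normalizer_iff_map_conj_eq.mp hA,
    Subgroup.mem_normalizer_iff_map_conj_eq.mp hB]

theorem normalizer_inf_le_normalizer_commutator (A B : Subgroup G) :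
    Subgroup.normalizer (A : Set G) ⊓ Subgroup.normalizer (B : Set G) ≤
      Subgroup.normalizer ((⁅A, B⁆ : Subgroup G) : Set G) := by
  rintro g ⟨hA, hB⟩
  apply Subgroup.mem_normalizer_iff_map_conj_eq.mpr
  rw [Subgroup.map_commutator, Subgroup.mem_normalizer_iff_map_conj_eq.mp hA,
    Subgroup.mem_normalizer_iff_map_conj_eq.mp hB]

/-- if `[A, O] ≤ A'` with `A' ≤ A`... the commutator trick: `O` normalizes `W` when `[W, O] ≤ W` -/
theorem le_normalizer_of_commutator_le (W O : Subgroup G) (h : ⁅W, O⁆ ≤ W) :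
    O ≤ Subgroup.normalizer (W : Set G) := by
  have key : ∀ o ∈ O, ∀ a ∈ W, o * a * o⁻¹ ∈ W := by
    intro o ho a ha
    have h1 : ⁅a, o⁆ ∈ W := h (Subgroup.commutator_mem_commutator ha ho)
    have e : o * a * o⁻¹ = (⁅a, o⁆)⁻¹ * a := by
      rw [commutatorElement_def]; group
    rw [e]
    exact W.mul_mem (W.inv_mem h1) ha
  intro o ho
  apply mem_normalizer_of_conj_mem_both
  · exact key o ho
  · intro r hr
    have := key o⁻¹ (Subgroup.inv_mem _ ho) r hr
    rwa [inv_inv] at this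

theorem commutator_le_left_of_le_normalizer (V Q : Subgroup G)
    (h : Q ≤ Subgroup.normalizer (V : Set G)) : ⁅V, Q⁆ ≤ V := by
  rw [Subgroup.commutator_le]
  intro v hv q hq
  have h1 : q * v⁻¹ * q⁻¹ ∈ V := (Subgroup.mem_normalizer_iff.mp (h hq) v⁻¹).mp (V.inv_mem hv)
  have e : ⁅v, q⁆ = v * (q * v⁻¹ * q⁻¹) := by rw [commutatorElement_def]; group
  rw [e]
  exact V.mul_mem hv h1

end norm

variable {X : Type*} [Group X] {p : ℕ} [Fact p.Prime] {M₁ M₂ : Subgroup X}

theorem vertexZ_le_centralizer_vertexQ (h : IsCharPAmalgamPair p M₁ M₂) (δ : CosetVertex M₁ M₂) :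
    vertexZ p δ ≤ Subgroup.centralizer ((vertexQ p δ : Subgroup X) : Set X) := by
  show sylowCenterClosure p (MulAction.stabilizer X δ) ≤
    Subgroup.centralizer ((pCoreOf p (MulAction.stabilizer X δ) : Subgroup X) : Set X)
  rw [sylowCenterClosure_eq_map]
  unfold pCoreOf
  rintro _ ⟨z, hz, rfl⟩
  apply Subgroup.mem_centralizer_iff.mpr
  rintro _ ⟨q, hq, rfl⟩
  have := Subgroup.mem_centralizer_iff.mp
    (zClosure_le_omegaCenterPCore (stabilizer_isCharP h δ) hz).1.2 q hq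
  exact congrArg Subtype.val this

/-- the stabilizer of `δ` is generated by `O^{p'}(G_δ)` and a part of the stabilizer of a neighbour -/
theorem stabilizer_le_of_pElementClosure_le (h : IsSpeAmalgamPair p M₁ M₂) {δ μ : CosetVertex M₁ M₂}
    (hμ : (cosetGraph M₁ M₂).Adj δ μ) (K : Subgroup X)
    (h1 : pElementClosure p (MulAction.stabilizer X δ) ≤ K) (h2 : MulAction.stabilizer X μ ≤ K) :
    MulAction.stabilizer X δ ≤ K := by
  have hc := h.1
  haveI := stabilizer_finite hc δ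
  obtain ⟨T, hTe, hTδ, -⟩ := exists_edge_sylow hc hμ
  have hNeq := normalizer_edge_sylow_eq h hμ hTe
  have hLG := pElementClosure_le (p := p) (MulAction.stabilizer X δ)
  haveI : Finite ↥(pElementClosure p (MulAction.stabilizer X δ)) :=
    Finite.of_injective _ (Subgroup.inclusion_injective hLG)
  have hTL : T ≤ pElementClosure p (MulAction.stabilizer X δ) :=
    le_pElementClosure_of_isPGroup' hTδ.isPGroup hTδ.1
  have hfr := (hTδ.of_mid' hTL hLG).frattini' hLG (le_normalizer_pElementClosure' _)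
  refine hfr.trans (sup_le ?_ h1)
  rw [hNeq]
  exact inf_le_left.trans h2

/-- S2856 -/
theorem vertexVIter_commutator_not_le_core (h : IsSpeAmalgamPair p M₁ M₂) (lam : CosetVertex M₁ M₂)
    (n : ℕ) (hn : 1 ≤ n) (hVQ : vertexVIter p M₁ M₂ n lam ≤ vertexQ p lam) :
    ¬ ⁅vertexVIter p M₁ M₂ n lam, vertexOp p lam⁆ ≤ ⁅vertexVIter p M₁ M₂ n lam, vertexQ p lam⁆ := by
  intro hcon
  have hc := h.1
  have hgen := hc.1.1
  have hconn := cg_connected M₁ M₂ hgen
  haveI := stabilizer_finite hc lam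
  obtain ⟨μ, hμ⟩ := exists_adj lam
  obtain ⟨T, hTe, hTlam, hTμ⟩ := exists_edge_sylow hc hμ
  have hd1 : (cosetGraph M₁ M₂).dist lam μ = 1 := SimpleGraph.dist_eq_one_iff_adj.mpr hμ
  have hd1' : (cosetGraph M₁ M₂).dist μ lam = 1 := by rw [SimpleGraph.dist_comm]; exact hd1
  obtain ⟨V, hV⟩ : ∃ V : Subgroup X, V = vertexVIter p M₁ M₂ n lam := ⟨_, rfl⟩
  obtain ⟨A, hA⟩ : ∃ A : Subgroup X, A = vertexVIter p M₁ M₂ (n - 1) μ := ⟨_, rfl⟩
  obtain ⟨Q, hQ⟩ : ∃ Q : Subgroup X, Q = vertexQ p lam := ⟨_, rfl⟩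
  obtain ⟨Z, hZ⟩ : ∃ Z : Subgroup X, Z = vertexZ p lam := ⟨_, rfl⟩
  obtain ⟨O, hO⟩ : ∃ O : Subgroup X, O = vertexOp p lam := ⟨_, rfl⟩
  rw [← hV, ← hQ] at hVQ
  rw [← hV, ← hQ, ← hO] at hcon
  have hAV : A ≤ V := by
    rw [hA, hV]
    apply vertexVIter_le_of
    intro ν hν
    have := hconn.dist_triangle (u := lam) (v := μ) (w := ν)
    omega
  have hZV : Z ≤ V := by
    rw [hZ, hV]
    apply vertexZ_le_vertexVIter
    rw [SimpleGraph.dist_self]; exact Nat.zero_le _
  have hZμA : vertexZ p μ ≤ A := by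
    rw [hA]
    apply vertexZ_le_vertexVIter
    rw [SimpleGraph.dist_self]; exact Nat.zero_le _
  have hlamV : MulAction.stabilizer X lam ≤ Subgroup.normalizer (V : Set X) := by
    rw [hV]; exact stabilizer_le_normalizer_vertexVIter hc n lam
  have hμA : MulAction.stabilizer X μ ≤ Subgroup.normalizer (A : Set X) := by
    rw [hA]; exact stabilizer_le_normalizer_vertexVIter hc (n - 1) μ
  have hlamZ : MulAction.stabilizer X lam ≤ Subgroup.normalizer (Z : Set X) := by
    rw [hZ]; exact stabilizer_le_normalizer_vertexZ lam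
  have hQlam : Q ≤ MulAction.stabilizer X lam := by rw [hQ]; exact Subgroup.map_subtype_le _
  have hQμ : Q ≤ MulAction.stabilizer X μ := by
    rw [hQ]
    exact (vertexQ_le_neighbourKernel M₁ M₂ hc lam).trans (neighbourKernel_le_of_adj hμ)
  have hlamQ : MulAction.stabilizer X lam ≤ Subgroup.normalizer (Q : Set X) := by
    rw [hQ]; exact le_normalizer_map_subtype_of_normal _ _
  have hZcQ : Z ≤ Subgroup.centralizer (Q : Set X) := by
    rw [hZ, hQ]; exact vertexZ_le_centralizer_vertexQ hc lam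
  have hQp : IsPGroup p ↥Q := by
    rw [hQ]; exact (pCore_isPGroup p _).map _
  haveI : Finite ↥Q := Finite.of_injective _ (Subgroup.inclusion_injective hQlam)
  obtain ⟨C, hC⟩ : ∃ C : Subgroup X, C = ⁅V, Q⁆ := ⟨_, rfl⟩
  rw [← hC] at hcon
  have hCV : C ≤ V := by
    rw [hC]; exact commutator_le_left_of_le_normalizer V Q (hQlam.trans hlamV)
  have hlamC : MulAction.stabilizer X lam ≤ Subgroup.normalizer (C : Set X) := by
    rw [hC]
    exact (le_inf hlamV hlamQ).trans (normalizer_inf_le_normalizer_commutator V Q)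
  have hBV : A ⊔ Z ≤ V := sup_le hAV hZV
  have hWV : (A ⊔ Z) ⊔ C ≤ V := sup_le hBV hCV
  have hTW : T ≤ Subgroup.normalizer (((A ⊔ Z) ⊔ C : Subgroup X) : Set X) := by
    refine le_trans ?_ (normalizer_inf_le_normalizer_sup (A ⊔ Z) C)
    refine le_inf ?_ (hTlam.1.trans hlamC)
    refine le_trans ?_ (normalizer_inf_le_normalizer_sup A Z)
    exact le_inf (hTμ.1.trans hμA) (hTlam.1.trans hlamZ)
  have hOW : O ≤ Subgroup.normalizer (((A ⊔ Z) ⊔ C : Subgroup X) : Set X) := by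
    apply le_normalizer_of_commutator_le
    exact (Subgroup.commutator_mono hWV le_rfl).trans (hcon.trans le_sup_right)
  have hLsup : pElementClosure p (MulAction.stabilizer X lam) ≤ O ⊔ T := by
    rw [hO]; exact pElementClosure_le_vertexOp_sup hc hTlam
  have hLW : pElementClosure p (MulAction.stabilizer X lam) ≤
      Subgroup.normalizer (((A ⊔ Z) ⊔ C : Subgroup X) : Set X) :=
    hLsup.trans (sup_le hOW hTW)
  have hnb : ∀ μ', (cosetGraph M₁ M₂).Adj lam μ' →
      vertexVIter p M₁ M₂ (n - 1) μ' ≤ (A ⊔ Z) ⊔ C := by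
    intro μ' hμ'
    obtain ⟨l, hl, rfl⟩ := pElementClosure_transitive h hμ hμ'
    rw [vertexVIter_smul hc, ← hA]
    calc A.map (MulAut.conj l).toMonoidHom
        ≤ ((A ⊔ Z) ⊔ C).map (MulAut.conj l).toMonoidHom :=
          Subgroup.map_mono (le_sup_left.trans le_sup_left)
      _ = (A ⊔ Z) ⊔ C := Subgroup.mem_normalizer_iff_map_conj_eq.mp (hLW hl)
  have hVW : V ≤ (A ⊔ Z) ⊔ C := by
    rw [hV]
    conv_lhs => unfold vertexVIter
    apply iSup_le
    rintro ⟨ν, hν⟩
    rcases Nat.eq_zero_or_pos ((cosetGraph M₁ M₂).dist lam ν) with h0 | hpos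
    · have : lam = ν := hconn.dist_eq_zero_iff.mp h0
      subst this
      rw [← hZ]
      exact le_sup_right.trans le_sup_left
    · obtain ⟨k, hk⟩ := Nat.exists_eq_succ_of_ne_zero hpos.ne'
      obtain ⟨c, hadj, hdc⟩ := exists_adj_dist_eq hconn hk
      refine le_trans ?_ (hnb c hadj)
      apply vertexZ_le_vertexVIter
      have hν' : (cosetGraph M₁ M₂).dist lam ν ≤ n := hν
      show (cosetGraph M₁ M₂).dist c ν ≤ n - 1
      omega
  have hQB : Q ≤ Subgroup.normalizer ((A ⊔ Z : Subgroup X) : Set X) :=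
    le_trans (le_inf (hQμ.trans hμA) (hQlam.trans hlamZ)) (normalizer_inf_le_normalizer_sup A Z)
  have hVB : V ≤ A ⊔ Z := by
    apply le_of_le_sup_commutator Q V (A ⊔ Z) hQp hVQ hBV hQB
    rw [← hC]; exact hVW
  -- `[V, Q] ≤ A`
  have hZNA : Z ≤ Subgroup.normalizer (A : Set X) := (hZV.trans hVQ).trans (hQμ.trans hμA)
  have hCA : C ≤ A := by
    rw [hC, Subgroup.commutator_le]
    intro v hv q hq
    have hv' : v ∈ ((A ⊔ Z : Subgroup X) : Set X) := hVB hv
    rw [Subgroup.coe_mul_of_right_le_normalizer_left A Z hZNA, Set.mem_mul] at hv'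
    obtain ⟨a, ha, z, hz, rfl⟩ := hv'
    have hzq : q * z = z * q := Subgroup.mem_centralizer_iff.mp (hZcQ hz) q hq
    have hqa : q * a⁻¹ * q⁻¹ ∈ A :=
      (Subgroup.mem_normalizer_iff.mp (hμA (hQμ hq)) a⁻¹).mp (A.inv_mem ha)
    have e : ⁅a * z, q⁆ = a * (q * a⁻¹ * q⁻¹) := by
      rw [commutatorElement_def]
      have : a * z * q * (a * z)⁻¹ * q⁻¹ = a * (z * q) * z⁻¹ * a⁻¹ * q⁻¹ := by group
      rw [this, ← hzq]
      group
    rw [e]
    exact A.mul_mem ha hqa
  have hOA : O ≤ Subgroup.normalizer (A : Set X) := by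
    apply le_normalizer_of_commutator_le
    exact (Subgroup.commutator_mono hAV le_rfl).trans (hcon.trans hCA)
  have hLA : pElementClosure p (MulAction.stabilizer X lam) ≤ Subgroup.normalizer (A : Set X) :=
    hLsup.trans (sup_le hOA (hTμ.1.trans hμA))
  have hlamA : MulAction.stabilizer X lam ≤ Subgroup.normalizer (A : Set X) :=
    stabilizer_le_of_pElementClosure_le h hμ _ hLA hμA
  have hAedge : A ≤ edgeStabilizer lam μ :=
    hAV.trans (hVQ.trans (le_inf hQlam hQμ))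
  have hAbot : A = ⊥ := eq_bot_of_le_edge_of_normalized hc.1 hμ A hAedge hlamA hμA
  apply vertexZ_ne_bot hc μ
  rw [← le_bot_iff, ← hAbot]
  exact hZμA

end Cfsg.Agent.Lib.Helper7
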