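import Mathlib
import Cfsg.Agent.Lib.Helper4.SolvPSolv

set_option autoImplicit false

namespace Cfsg.Agent.Lib.Helper7.Ambiv

universe u

variable {G : Type*} [Group G]

/-- conjugation by an odd power of an inverting element inverts -/
theorem conj_pow_odd {g x : G} (h : g * x * g⁻¹ = x⁻¹) {m : ℕ} (hm : Odd m) :
    g ^ m * x * (g ^ m)⁻¹ = x⁻¹ := by
  obtain ⟨j, rfl⟩ := hm
  have h1 : MulAut.conj g x = x⁻¹ := by rw [MulAut.conj_apply]; exact h
  have h2 : (MulAut.conj g ^ 2) x = x := by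
    rw [pow_two, MulAut.mul_apply, h1, map_inv, h1, inv_inv]
  have h3 : ∀ j : ℕ, (MulAut.conj g ^ (2 * j + 1)) x = x⁻¹ := by
    intro j
    induction j with
    | zero => simpa using h1
    | succ j ih =>
      have : 2 * (j + 1) + 1 = (2 * j + 1) + 2 := by ring
      rw [this, pow_add, MulAut.mul_apply, h2, ih]
  have h4 := h3 j
  rw [← map_pow, MulAut.conj_apply] at h4
  exact h4

theorem exists_two_part_inverting [Finite G] {g x : G} (h : g * x * g⁻¹ = x⁻¹) :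
    ∃ (t : G) (k : ℕ), orderOf t = 2 ^ k ∧ t * x * t⁻¹ = x⁻¹ := by
  obtain ⟨k, m, hm, hkm⟩ := Nat.exists_eq_two_pow_mul_odd (orderOf_pos g).ne'
  refine ⟨g ^ m, k, ?_, conj_pow_odd h hm⟩
  rw [orderOf_pow_of_dvd hm.pos.ne' ⟨2 ^ k, by rw [hkm, mul_comm]⟩, hkm,
    Nat.mul_div_cancel _ hm.pos]

/-- odd part of an element -/
theorem exists_odd_part [Finite G] (b : G) :
    ∃ (a : ℕ), Odd (orderOf (b ^ 2 ^ a)) := by
  obtain ⟨k, m, hm, hkm⟩ := Nat.exists_eq_two_pow_mul_odd (orderOf_pos b).ne'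
  refine ⟨k, ?_⟩
  rcases Nat.eq_zero_or_pos k with rfl | hk
  · simpa [hkm] using hm
  rw [orderOf_pow_of_dvd (by positivity) ⟨m, hkm⟩, hkm, Nat.mul_div_cancel_left _ (by positivity)]
  exact hm

theorem eq_one_of_sq_of_odd {x : G} (h2 : x ^ 2 = 1) (ho : Odd (orderOf x)) : x = 1 := by
  have h1 : orderOf x ∣ 2 := orderOf_dvd_of_pow_eq_one h2
  rcases (Nat.dvd_prime Nat.prime_two).1 h1 with h | h
  · exact orderOf_eq_one_iff.1 h
  · rw [h] at ho; exact absurd ho (by decide)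

theorem exists_involution_lift [Finite G] (N : Subgroup G) [N.Normal] (hN : Odd (Nat.card N))
    (y : G ⧸ N) (hy : orderOf y = 2) : ∃ t : G, orderOf t = 2 ∧ (t : G ⧸ N) = y := by
  obtain ⟨x, rfl⟩ := QuotientGroup.mk_surjective y
  obtain ⟨k, m, hm, hkm⟩ := Nat.exists_eq_two_pow_mul_odd (orderOf_pos x).ne'
  have ht : orderOf (x ^ m) = 2 ^ k := by
    rw [orderOf_pow_of_dvd hm.pos.ne' ⟨2 ^ k, by rw [hkm, mul_comm]⟩, hkm,
      Nat.mul_div_cancel _ hm.pos]
  have hy2 : (x : G ⧸ N) ^ 2 = 1 := by rw [← hy]; exact pow_orderOf_eq_one _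
  have himg : ((x ^ m : G) : G ⧸ N) = (x : G ⧸ N) := by
    obtain ⟨j, rfl⟩ := hm
    rw [QuotientGroup.mk_pow, pow_succ, pow_mul, hy2, one_pow, one_mul]
  have hmem : (x ^ m) ^ 2 ∈ N := by
    rw [← QuotientGroup.eq_one_iff, QuotientGroup.mk_pow, himg, hy2]
  have ho1 : orderOf ((x ^ m) ^ 2) ∣ 2 ^ k := by rw [← ht]; exact orderOf_pow_dvd 2
  have ho2 : orderOf ((x ^ m) ^ 2) ∣ Nat.card N := by
    have := orderOf_dvd_natCard (⟨(x ^ m) ^ 2, hmem⟩ : N)
    rwa [Subgroup.orderOf_mk] at this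
  have hcop : (2 ^ k).Coprime (Nat.card N) := Nat.Coprime.pow_left _ (Nat.coprime_two_left.2 hN)
  have ho3 : orderOf ((x ^ m) ^ 2) = 1 := Nat.eq_one_of_dvd_coprimes hcop ho1 ho2
  have hsq : (x ^ m) ^ 2 = 1 := orderOf_eq_one_iff.1 ho3
  have hne : x ^ m ≠ 1 := by
    intro h1
    rw [h1, QuotientGroup.mk_one] at himg
    rw [← himg, orderOf_one] at hy
    omega
  exact ⟨x ^ m, orderOf_eq_prime hsq hne, himg⟩

/-- ambivalent with one class of involutions -/
structure Hyp (G : Type*) [Group G] : Prop where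
  amb : ∀ x : G, IsConj x x⁻¹
  one : ∀ s t : G, orderOf s = 2 → orderOf t = 2 → IsConj s t

theorem Hyp.quotient [Finite G] (h : Hyp G) (N : Subgroup G) [N.Normal] (hN : Odd (Nat.card N)) :
    Hyp (G ⧸ N) := by
  constructor
  · intro y
    obtain ⟨x, rfl⟩ := QuotientGroup.mk_surjective y
    have := (QuotientGroup.mk' N).map_isConj (h.amb x)
    simpa using this
  · intro s t hs ht
    obtain ⟨s', hs', rfl⟩ := exists_involution_lift N hN s hs
    obtain ⟨t', ht', rfl⟩ := exists_involution_lift N hN t ht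
    exact (QuotientGroup.mk' N).map_isConj (h.one s' t' hs' ht')

theorem Hyp.exists_inverting [Finite G] (h : Hyp G) (x : G) :
    ∃ (t : G) (k : ℕ), orderOf t = 2 ^ k ∧ t * x * t⁻¹ = x⁻¹ := by
  obtain ⟨g, hg⟩ := isConj_iff.1 (h.amb x)
  exact exists_two_part_inverting hg

end Cfsg.Agent.Lib.Helper7.Ambiv
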