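import Mathlib
import Cfsg.Agent.Lib.Helper7.AmbivA

set_option autoImplicit false

namespace Cfsg.Agent.Lib.Helper7.Ambiv

universe u

variable {G : Type*} [Group G]

/-- the setting: `N` is a normal subgroup of exponent 2 containing all involutions, `B` is a normal
subgroup abelian modulo `C_G(N)` -/
structure Sett (N B : Subgroup G) : Prop where
  hyp : Hyp G
  nN : N.Normal
  nB : B.Normal
  sq : ∀ x ∈ N, x ^ 2 = 1
  inv : ∀ s : G, orderOf s = 2 → s ∈ N
  cB : Subgroup.centralizer (N : Set G) ≤ B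
  ab : ∀ b ∈ B, ∀ b' ∈ B, (b' * b)⁻¹ * (b * b') ∈ Subgroup.centralizer (N : Set G)

namespace Sett

variable {N B : Subgroup G}

theorem inv_eq (h : Sett N B) {x : G} (hx : x ∈ N) : x⁻¹ = x := by
  have := h.sq x hx
  rw [pow_two] at this
  exact inv_eq_of_mul_eq_one_left this

theorem comm (h : Sett N B) {x y : G} (hx : x ∈ N) (hy : y ∈ N) : x * y = y * x := by
  have h1 := h.inv_eq (N.mul_mem hx hy)
  rw [mul_inv_rev, h.inv_eq hx, h.inv_eq hy] at h1
  exact h1.symm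

theorem orderOf_eq_two (h : Sett N B) {x : G} (hx : x ∈ N) (h1 : x ≠ 1) : orderOf x = 2 :=
  orderOf_eq_prime (h.sq x hx) h1

theorem conj_mem (h : Sett N B) (g : G) {x : G} (hx : x ∈ N) : g * x * g⁻¹ ∈ N :=
  h.nN.conj_mem x hx g

/-- the stabilizer in `B` of `v` -/
def St (B : Subgroup G) (v : G) : Subgroup G := B ⊓ Subgroup.centralizer ({v} : Set G)

theorem mem_St {b v : G} : b ∈ St B v ↔ b ∈ B ∧ b * v * b⁻¹ = v := by
  unfold St
  rw [Subgroup.mem_inf, Subgroup.mem_centralizer_singleton_iff]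
  constructor
  · rintro ⟨h1, h2⟩
    exact ⟨h1, by rw [h2, mul_inv_cancel_right]⟩
  · rintro ⟨h1, h2⟩
    refine ⟨h1, ?_⟩
    have := congrArg (· * b) h2
    simpa using this

theorem card_St_conj [Finite G] (h : Sett N B) (g v : G) :
    Nat.card (St B (g * v * g⁻¹)) = Nat.card (St B v) := by
  have : St B (g * v * g⁻¹) = (St B v).map (MulAut.conj g).toMonoidHom := by
    ext y
    rw [Subgroup.mem_map, mem_St]
    constructor
    · rintro ⟨h1, h2⟩
      refine ⟨g⁻¹ * y * g, mem_St.2 ⟨?_, ?_⟩, ?_⟩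
      · have := h.nB.conj_mem y h1 g⁻¹
        simpa using this
      · have : g⁻¹ * y * g * v * (g⁻¹ * y * g)⁻¹ = g⁻¹ * (y * (g * v * g⁻¹) * y⁻¹) * g := by group
        rw [this, h2]; group
      · simp [MulAut.conj_apply]; group
    · rintro ⟨b, hb, rfl⟩
      obtain ⟨hb1, hb2⟩ := mem_St.1 hb
      refine ⟨h.nB.conj_mem b hb1 g, ?_⟩
      simp only [MulEquiv.coe_toMonoidHom, MulAut.conj_apply]
      have : g * b * g⁻¹ * (g * v * g⁻¹) * (g * b * g⁻¹)⁻¹ = g * (b * v * b⁻¹) * g⁻¹ := by group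
      rw [this, hb2]
  rw [this]
  exact Subgroup.card_map_of_injective (MulAut.conj g).injective

theorem card_St_eq [Finite G] (h : Sett N B) {u v : G} (hu : u ∈ N) (hv : v ∈ N) (hu1 : u ≠ 1)
    (hv1 : v ≠ 1) : Nat.card (St B u) = Nat.card (St B v) := by
  obtain ⟨g, hg⟩ := isConj_iff.1 (h.hyp.one v u (h.orderOf_eq_two hv hv1) (h.orderOf_eq_two hu hu1))
  rw [← hg]
  exact h.card_St_conj g v

theorem St_eq_of_le [Finite G] (h : Sett N B) {u v : G} (hu : u ∈ N) (hv : v ∈ N) (hu1 : u ≠ 1)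
    (hv1 : v ≠ 1) (hle : St B v ≤ St B u) : St B v = St B u :=
  Subgroup.eq_of_le_of_card_ge hle (h.card_St_eq hu hv hu1 hv1).le

/-- `B` acts on `N` commutatively -/
theorem conj_comm (h : Sett N B) {b b' u : G} (hb : b ∈ B) (hb' : b' ∈ B) (hu : u ∈ N) :
    b * b' * u * (b * b')⁻¹ = b' * b * u * (b' * b)⁻¹ := by
  have hc := h.ab b hb b' hb'
  rw [Subgroup.mem_centralizer_iff] at hc
  have h1 := hc u hu
  -- u * c = c * u
  have h2 : b * b' = b' * b * ((b' * b)⁻¹ * (b * b')) := by group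
  have h3 : ((b' * b)⁻¹ * (b * b')) * u * ((b' * b)⁻¹ * (b * b'))⁻¹ = u := by
    rw [← h1, mul_inv_cancel_right]
  calc b * b' * u * (b * b')⁻¹
      = b' * b * (((b' * b)⁻¹ * (b * b')) * u * ((b' * b)⁻¹ * (b * b'))⁻¹) * (b' * b)⁻¹ := by group
    _ = _ := by rw [h3]

/-- the fixed points in `N` of `St v` -/
def M (N B : Subgroup G) (v : G) : Subgroup G :=
  N ⊓ Subgroup.centralizer ((St B v : Subgroup G) : Set G)

theorem mem_M {u v : G} : u ∈ M N B v ↔ u ∈ N ∧ ∀ b ∈ St B v, b * u * b⁻¹ = u := by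
  unfold M
  rw [Subgroup.mem_inf, Subgroup.mem_centralizer_iff]
  constructor
  · rintro ⟨h1, h2⟩
    refine ⟨h1, fun b hb => ?_⟩
    rw [h2 b hb, mul_inv_cancel_right]
  · rintro ⟨h1, h2⟩
    refine ⟨h1, fun b hb => ?_⟩
    have := congrArg (· * b) (h2 b hb)
    simpa using this

theorem self_mem_M {v : G} (hv : v ∈ N) : v ∈ M N B v :=
  mem_M.2 ⟨hv, fun _ hb => (mem_St.1 hb).2⟩

theorem conj_mem_M (h : Sett N B) {b u v : G} (hb : b ∈ B) (hu : u ∈ M N B v) :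
    b * u * b⁻¹ ∈ M N B v := by
  obtain ⟨hu1, hu2⟩ := mem_M.1 hu
  refine mem_M.2 ⟨h.conj_mem b hu1, fun b' hb' => ?_⟩
  have hb'B := (mem_St.1 hb').1
  have h1 := h.conj_comm hb'B hb hu1
  calc b' * (b * u * b⁻¹) * b'⁻¹ = b' * b * u * (b' * b)⁻¹ := by group
    _ = b * b' * u * (b * b')⁻¹ := h1
    _ = b * (b' * u * b'⁻¹) * b⁻¹ := by group
    _ = _ := by rw [hu2 b' hb']

theorem St_le_of_mem_M {u v : G} (hu : u ∈ M N B v) : St B v ≤ St B u := by
  intro b hb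
  exact mem_St.2 ⟨(mem_St.1 hb).1, (mem_M.1 hu).2 b hb⟩

/-- all stabilizers of nonidentity elements coincide -/
theorem St_eq [Finite G] (h : Sett N B) {v₁ v₂ : G} (h1 : v₁ ∈ N) (h2 : v₂ ∈ N) (h1' : v₁ ≠ 1)
    (h2' : v₂ ≠ 1) : St B v₁ = St B v₂ := by
  by_contra hne
  have hw : v₁ * v₂ ∈ N := N.mul_mem h1 h2
  have hw1 : v₁ * v₂ ≠ 1 := by
    intro h0
    have : v₁ = v₂ := by
      rw [← h.inv_eq h2]
      exact eq_inv_of_mul_eq_one_left h0
    exact hne (by rw [this])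
  have key : ∀ b ∈ St B (v₁ * v₂), b ∈ St B v₁ ∧ b ∈ St B v₂ := by
    intro b hb
    obtain ⟨hbB, hbw⟩ := mem_St.1 hb
    have e1 : v₁⁻¹ * (b * v₁ * b⁻¹) ∈ M N B v₁ :=
      (M N B v₁).mul_mem ((M N B v₁).inv_mem (self_mem_M h1)) (h.conj_mem_M hbB (self_mem_M h1))
    have e2 : v₂ * (b * v₂ * b⁻¹)⁻¹ ∈ M N B v₂ :=
      (M N B v₂).mul_mem (self_mem_M h2) ((M N B v₂).inv_mem (h.conj_mem_M hbB (self_mem_M h2)))
    have heq : v₁⁻¹ * (b * v₁ * b⁻¹) = v₂ * (b * v₂ * b⁻¹)⁻¹ := by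
      have hb1 : b * v₁ * b⁻¹ ∈ N := h.conj_mem b h1
      have hb2 : b * v₂ * b⁻¹ ∈ N := h.conj_mem b h2
      have : (b * v₁ * b⁻¹) * (b * v₂ * b⁻¹) = v₁ * v₂ := by
        rw [← hbw]; group
      -- in the abelian group N
      have h3 : b * v₁ * b⁻¹ = v₁ * v₂ * (b * v₂ * b⁻¹)⁻¹ := by
        rw [← this, mul_inv_cancel_right]
      rw [h3, mul_assoc v₁, ← mul_assoc v₁⁻¹, inv_mul_cancel, one_mul]
    by_cases he : v₁⁻¹ * (b * v₁ * b⁻¹) = 1
    · have he' : v₂ * (b * v₂ * b⁻¹)⁻¹ = 1 := heq ▸ he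
      refine ⟨mem_St.2 ⟨hbB, ?_⟩, mem_St.2 ⟨hbB, ?_⟩⟩
      · exact (inv_mul_eq_one.1 he).symm
      · exact (mul_inv_eq_one.1 he').symm
    · exfalso
      have heN : v₁⁻¹ * (b * v₁ * b⁻¹) ∈ N := (mem_M.1 e1).1
      have s1 := h.St_eq_of_le heN h1 he h1' (St_le_of_mem_M e1)
      have s2 := h.St_eq_of_le heN h2 he h2' (St_le_of_mem_M (heq ▸ e2))
      exact hne (s1.trans s2.symm)
  have k1 : St B (v₁ * v₂) = St B v₁ :=
    h.St_eq_of_le h1 hw h1' hw1 (fun b hb => (key b hb).1)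
  have k2 : St B (v₁ * v₂) = St B v₂ :=
    h.St_eq_of_le h2 hw h2' hw1 (fun b hb => (key b hb).2)
  exact hne (k1.symm.trans k2)

theorem St_le_centralizer [Finite G] (h : Sett N B) {v : G} (hv : v ∈ N) (hv1 : v ≠ 1) :
    St B v ≤ Subgroup.centralizer (N : Set G) := by
  intro b hb
  rw [Subgroup.mem_centralizer_iff]
  intro u hu
  by_cases hu1 : u = 1
  · rw [hu1, one_mul, mul_one]
  · have := h.St_eq hu hv hu1 hv1
    rw [← this] at hb
    have := (mem_St.1 hb).2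
    have := congrArg (· * b) this
    simpa using this.symm

theorem mem_centralizer_iff' {b : G} :
    b ∈ Subgroup.centralizer (N : Set G) ↔ ∀ u ∈ N, b * u * b⁻¹ = u := by
  rw [Subgroup.mem_centralizer_iff]
  constructor
  · intro h u hu
    rw [← h u hu, mul_inv_cancel_right]
  · intro h u hu
    have := congrArg (· * b) (h u hu)
    simpa using this.symm

theorem mem_of_sq_mem [Finite G] (h : Sett N B) {b : G} (hb : b ∈ B)
    (hb2 : b ^ 2 ∈ Subgroup.centralizer (N : Set G)) : b ∈ Subgroup.centralizer (N : Set G) := by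
  by_contra hbC
  rw [mem_centralizer_iff'] at hbC
  push Not at hbC
  obtain ⟨v, hv, hbv⟩ := hbC
  have hbvN : b * v * b⁻¹ ∈ N := h.conj_mem b hv
  have hw : v * (b * v * b⁻¹) ∈ N := N.mul_mem hv hbvN
  have hfix : b * (v * (b * v * b⁻¹)) * b⁻¹ = v * (b * v * b⁻¹) := by
    have h2 := (mem_centralizer_iff'.1 hb2) v hv
    have : b * (v * (b * v * b⁻¹)) * b⁻¹ = (b * v * b⁻¹) * (b ^ 2 * v * (b ^ 2)⁻¹) := by group
    rw [this, h2]
    exact h.comm hbvN hv
  by_cases hw1 : v * (b * v * b⁻¹) = 1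
  · have : b * v * b⁻¹ = v⁻¹ := (eq_inv_of_mul_eq_one_right hw1)
    rw [h.inv_eq hv] at this
    exact hbv this
  · have hbSt : b ∈ St B (v * (b * v * b⁻¹)) := mem_St.2 ⟨hb, hfix⟩
    have := h.St_le_centralizer hw hw1 hbSt
    exact hbv ((mem_centralizer_iff'.1 this) v hv)

theorem mem_of_pow_two_pow_mem [Finite G] (h : Sett N B) (a : ℕ) : ∀ {b : G}, b ∈ B →
    b ^ 2 ^ a ∈ Subgroup.centralizer (N : Set G) → b ∈ Subgroup.centralizer (N : Set G) := by
  induction a with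
  | zero => intro b _ hb; simpa using hb
  | succ a ih =>
    intro b hb hba
    apply ih hb
    apply h.mem_of_sq_mem (B.pow_mem hb _)
    rwa [← pow_mul, ← pow_succ]

/-- the main point: `B` centralizes `N` -/
theorem le_centralizer [Finite G] (h : Sett N B) : B ≤ Subgroup.centralizer (N : Set G) := by
  intro b hb
  by_contra hbC
  obtain ⟨a, ha⟩ := exists_odd_part b
  set x := b ^ 2 ^ a with hx
  have hxB : x ∈ B := B.pow_mem hb _
  have hxC : x ∉ Subgroup.centralizer (N : Set G) := fun hc => hbC (h.mem_of_pow_two_pow_mem a hb hc)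
  have hfree : ∀ u ∈ N, u ≠ 1 → x * u * x⁻¹ ≠ u := by
    intro u hu hu1 hxu
    exact hxC (h.St_le_centralizer hu hu1 (mem_St.2 ⟨hxB, hxu⟩))
  have hx1 : x ≠ 1 := fun h1 => hxC (h1 ▸ Subgroup.one_mem _)
  obtain ⟨t, k, htk, htx⟩ := h.hyp.exists_inverting x
  -- t² commutes with x
  have ht2 : t ^ 2 * x * (t ^ 2)⁻¹ = x := by
    have : t ^ 2 * x * (t ^ 2)⁻¹ = t * (t * x * t⁻¹) * t⁻¹ := by rw [pow_two]; group
    rw [this, htx]
    have : t * x⁻¹ * t⁻¹ = (t * x * t⁻¹)⁻¹ := by group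
    rw [this, htx, inv_inv]
  rcases Nat.lt_or_ge k 2 with hk | hk
  · interval_cases k
    · -- t = 1
      have ht1 : t = 1 := orderOf_eq_one_iff.1 (by simpa using htk)
      rw [ht1] at htx
      have : x ^ 2 = 1 := by
        have : x = x⁻¹ := by simpa using htx
        rw [pow_two]; nth_rewrite 1 [this]; exact inv_mul_cancel x
      exact hx1 (eq_one_of_sq_of_odd this ha)
    · -- t involution
      have htN : t ∈ N := h.inv t (by simpa using htk)
      have hx2 : x ^ 2 ∈ N := by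
        have : x ^ 2 = (x * t * x⁻¹) * t⁻¹ := by
          have : x * t * x⁻¹ * t⁻¹ = x * (t * x * t⁻¹)⁻¹ := by group
          rw [this, htx, inv_inv, pow_two]
        rw [this]
        exact N.mul_mem (h.conj_mem x htN) (N.inv_mem htN)
      have h4 : (x ^ 2) ^ 2 = 1 := h.sq _ hx2
      have ho : Odd (orderOf (x ^ 2)) := by
        obtain ⟨d, hd⟩ := orderOf_pow_dvd (x := x) 2
        rw [hd] at ha
        exact (Nat.odd_mul.1 ha).1
      have hx2' : x ^ 2 = 1 := eq_one_of_sq_of_odd h4 ho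
      exact hx1 (eq_one_of_sq_of_odd hx2' ha)
  · obtain ⟨j, rfl⟩ : ∃ j, k = j + 2 := ⟨k - 2, by omega⟩
    set t₀ := t ^ 2 ^ (j + 1) with ht₀
    have ht₀o : orderOf t₀ = 2 := by
      rw [ht₀, orderOf_pow_of_dvd (by positivity) ⟨2, by rw [htk, pow_succ]⟩, htk, pow_succ,
        Nat.mul_div_cancel_left _ (by positivity)]
    have ht₀N : t₀ ∈ N := h.inv t₀ ht₀o
    have ht₀1 : t₀ ≠ 1 := by
      intro h1; rw [h1, orderOf_one] at ht₀o; omega
    have hcomm : x * t₀ * x⁻¹ = t₀ := by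
      have h1 : Commute (t ^ 2) x := by
        have := congrArg (· * t ^ 2) ht2
        show t ^ 2 * x = x * t ^ 2
        simpa using this
      have h2 : Commute t₀ x := by
        rw [ht₀, pow_succ', pow_mul]
        exact h1.pow_left _
      rw [← h2.eq, mul_inv_cancel_right]
    exact hfree t₀ ht₀N ht₀1 hcomm

end Sett

end Cfsg.Agent.Lib.Helper7.Ambiv
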