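import Mathlib
import Cfsg.Agent.Lib.Helper7.AmbivB

set_option autoImplicit false

namespace Cfsg.Agent.Lib.Helper7.Ambiv

universe u

/-- a normal subgroup of exponent two containing all involutions is central -/
theorem le_center {G : Type*} [Group G] [Finite G] [hs : Group.IsSolvable G] (hyp : Hyp G)
    (N : Subgroup G) [hN : N.Normal] (sq : ∀ x ∈ N, x ^ 2 = 1)
    (inv : ∀ s : G, orderOf s = 2 → s ∈ N) : N ≤ Subgroup.center G := by
  set C := Subgroup.centralizer (N : Set G) with hC
  have hCn : C.Normal := Subgroup.normal_centralizer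
  have htop : C = ⊤ := by
    by_contra hne
    have hnt : Nontrivial (G ⧸ C) := by
      by_contra hcon
      rw [not_nontrivial_iff_subsingleton] at hcon
      apply hne
      rw [eq_top_iff]
      intro g _
      rw [← QuotientGroup.eq_one_iff]
      exact Subsingleton.elim _ _
    have hsq : Group.IsSolvable (G ⧸ C) := inferInstance
    obtain ⟨A, hAn, hAb, hAc⟩ := Cfsg.Agent.Lib.Helper4.SolvPSolv.exists_normal_abelian (G := G ⧸ C)
    set B := A.comap (QuotientGroup.mk' C) with hB
    have hBn : B.Normal := hAn.comap _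
    have hS : Sett N B := by
      refine ⟨hyp, hN, hBn, sq, inv, ?_, ?_⟩
      · intro c hc
        rw [hB, Subgroup.mem_comap]
        have : (QuotientGroup.mk' C) c = 1 := (QuotientGroup.eq_one_iff c).2 hc
        rw [this]; exact A.one_mem
      · intro b hb b' hb'
        rw [hB, Subgroup.mem_comap] at hb hb'
        have hcomm : (QuotientGroup.mk' C) b * (QuotientGroup.mk' C) b' =
            (QuotientGroup.mk' C) b' * (QuotientGroup.mk' C) b := by
          have h1 := Subgroup.commutator_mem_commutator hb hb'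
          rw [hAc, Subgroup.mem_bot, commutatorElement_eq_one_iff_mul_comm] at h1
          exact h1
        rw [← hC, ← QuotientGroup.eq_one_iff]
        have : (((b' * b)⁻¹ * (b * b') : G) : G ⧸ C) =
            ((QuotientGroup.mk' C) b' * (QuotientGroup.mk' C) b)⁻¹ *
              ((QuotientGroup.mk' C) b * (QuotientGroup.mk' C) b') := by
          simp
        rw [this, hcomm, inv_mul_cancel]
    have hle := hS.le_centralizer
    apply hAb
    rw [eq_bot_iff]
    intro a ha
    obtain ⟨g, rfl⟩ := QuotientGroup.mk'_surjective C a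
    have hg : g ∈ B := ha
    have := hle hg
    rw [Subgroup.mem_bot]
    exact (QuotientGroup.eq_one_iff g).2 this
  intro n hn
  rw [Subgroup.mem_center_iff]
  intro g
  have hg : g ∈ C := by rw [htop]; trivial
  rw [hC, Subgroup.mem_centralizer_iff] at hg
  exact (hg n hn).symm

/-- commuting involutions coincide -/
theorem commuting_involutions_eq : ∀ (n : ℕ) (G : Type u) [Group G] [Finite G] [Group.IsSolvable G],
    Hyp G → Nat.card G = n → ∀ s t : G, orderOf s = 2 → orderOf t = 2 → Commute s t → s = t := by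
  intro n
  induction n using Nat.strong_induction_on with
  | _ n ih =>
  intro G _ _ _ hyp hn s t hs ht hst
  by_cases hodd : ∃ N : Subgroup G, N.Normal ∧ N ≠ ⊥ ∧ Odd (Nat.card N)
  · obtain ⟨N, hNn, hNb, hNo⟩ := hodd
    have hNn' := hNn
    have hlt : Nat.card (G ⧸ N) < n := by
      rw [← hn, ← N.card_mul_index, ← Subgroup.index_eq_card]
      have h1 : 1 < Nat.card N := by
        rw [Finite.one_lt_card_iff_nontrivial]
        exact (Subgroup.nontrivial_iff_ne_bot N).2 hNb
      have h2 : 0 < N.index := Nat.pos_of_ne_zero Subgroup.index_ne_zero_of_finite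
      nlinarith
    have hq := hyp.quotient N hNo
    have hs' : orderOf (s : G ⧸ N) = 2 := by
      apply orderOf_eq_prime
      · rw [← QuotientGroup.mk_pow, ← hs, pow_orderOf_eq_one]; rfl
      · intro h1
        rw [QuotientGroup.eq_one_iff] at h1
        have := orderOf_dvd_natCard (⟨s, h1⟩ : N)
        rw [Subgroup.orderOf_mk, hs] at this
        exact (Nat.not_even_iff_odd.2 hNo) (even_iff_two_dvd.2 this)
    have ht' : orderOf (t : G ⧸ N) = 2 := by
      apply orderOf_eq_prime
      · rw [← QuotientGroup.mk_pow, ← ht, pow_orderOf_eq_one]; rfl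
      · intro h1
        rw [QuotientGroup.eq_one_iff] at h1
        have := orderOf_dvd_natCard (⟨t, h1⟩ : N)
        rw [Subgroup.orderOf_mk, ht] at this
        exact (Nat.not_even_iff_odd.2 hNo) (even_iff_two_dvd.2 this)
    have hcomm : Commute (s : G ⧸ N) (t : G ⧸ N) := by
      show (s : G ⧸ N) * (t : G ⧸ N) = (t : G ⧸ N) * (s : G ⧸ N)
      rw [← QuotientGroup.mk_mul, ← QuotientGroup.mk_mul, hst.eq]
    have heq := ih _ hlt (G ⧸ N) hq rfl _ _ hs' ht' hcomm
    have hmem : s⁻¹ * t ∈ N := QuotientGroup.eq.1 heq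
    have hs2 : s ^ 2 = 1 := by rw [← hs]; exact pow_orderOf_eq_one s
    have ht2 : t ^ 2 = 1 := by rw [← ht]; exact pow_orderOf_eq_one t
    have hsq : (s⁻¹ * t) ^ 2 = 1 := by
      have hc : Commute s⁻¹ t := hst.inv_left
      rw [hc.mul_pow, inv_pow, hs2, ht2, inv_one, one_mul]
    have ho : Odd (orderOf (s⁻¹ * t)) := by
      have := orderOf_dvd_natCard (⟨s⁻¹ * t, hmem⟩ : N)
      rw [Subgroup.orderOf_mk] at this
      obtain ⟨d, hd⟩ := this
      rw [hd] at hNo
      exact (Nat.odd_mul.1 hNo).1
    have := eq_one_of_sq_of_odd hsq ho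
    exact (inv_mul_eq_one.1 this)
  · push Not at hodd
    have hnt : Nontrivial G := by
      refine ⟨⟨s, 1, ?_⟩⟩
      intro h1; rw [h1, orderOf_one] at hs; omega
    obtain ⟨A, hAn, hAb, hAc⟩ := Cfsg.Agent.Lib.Helper4.SolvPSolv.exists_normal_abelian (G := G)
    have hAcomm : ∀ a ∈ A, ∀ b ∈ A, a * b = b * a := by
      intro a ha b hb
      have h1 := Subgroup.commutator_mem_commutator ha hb
      rw [hAc, Subgroup.mem_bot, commutatorElement_eq_one_iff_mul_comm] at h1
      exact h1
    have hAeven : 2 ∣ Nat.card A := by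
      have := hodd A hAn hAb
      rw [Nat.not_odd_iff_even] at this
      exact even_iff_two_dvd.1 this
    obtain ⟨z, hz⟩ := exists_prime_orderOf_dvd_card' 2 hAeven
    have hzA : orderOf (z : G) = 2 := by rw [Subgroup.orderOf_coe]; exact hz
    have hinvA : ∀ u : G, orderOf u = 2 → u ∈ A := by
      intro u hu
      obtain ⟨g, hg⟩ := isConj_iff.1 (hyp.one (z : G) u hzA hu)
      rw [← hg]
      exact hAn.conj_mem _ z.2 g
    let N : Subgroup G :=
      { carrier := {x | x ∈ A ∧ x ^ 2 = 1}
        one_mem' := ⟨A.one_mem, one_pow 2⟩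
        mul_mem' := by
          rintro a b ⟨ha, ha2⟩ ⟨hb, hb2⟩
          refine ⟨A.mul_mem ha hb, ?_⟩
          have hc : Commute a b := hAcomm a ha b hb
          rw [hc.mul_pow, ha2, hb2, one_mul]
        inv_mem' := by
          rintro a ⟨ha, ha2⟩
          exact ⟨A.inv_mem ha, by rw [inv_pow, ha2, inv_one]⟩ }
    have hNn : N.Normal := by
      constructor
      rintro x ⟨hx, hx2⟩ g
      refine ⟨hAn.conj_mem x hx g, ?_⟩
      rw [conj_pow, hx2, mul_one, mul_inv_cancel]
    have hsq : ∀ x ∈ N, x ^ 2 = 1 := fun x hx => hx.2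
    have hinv : ∀ u : G, orderOf u = 2 → u ∈ N := by
      intro u hu
      exact ⟨hinvA u hu, by rw [← hu]; exact pow_orderOf_eq_one u⟩
    have hcen := le_center hyp N hsq hinv
    obtain ⟨g, hg⟩ := isConj_iff.1 (hyp.one s t hs ht)
    have hsc := Subgroup.mem_center_iff.1 (hcen (hinv s hs)) g
    rw [← hg, hsc, mul_inv_cancel_right]

end Cfsg.Agent.Lib.Helper7.Ambiv
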