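import Mathlib
import Cfsg.Agent.Lib.Helper7.AmbivC
import Cfsg.Agent.H2.UniqueOrderP
import Cfsg.Agent.H2.ClassFarB
import Cfsg.Agent.Lib.Lead.PiCore

set_option autoImplicit false

namespace Cfsg.Agent.Lib.Helper7.Ambiv

universe u

variable {G : Type u} [Group G] [Finite G]

omit [Finite G] in
/-- a 2-element normalizing a Sylow 2-subgroup lies in it -/
theorem mem_sylow_of_normalizes (S : Sylow 2 G) {t : G} {k : ℕ} (ht : orderOf t = 2 ^ k)
    (hn : t ∈ Subgroup.normalizer ((S : Subgroup G) : Set G)) : t ∈ (S : Subgroup G) := by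
  have hp : IsPGroup 2 (Subgroup.zpowers t) := by
    apply IsPGroup.of_card (n := k)
    rw [Nat.card_zpowers, ht]
  have h1 := hp.inf_normalizer_sylow S
  have h2 : t ∈ Subgroup.zpowers t ⊓ Subgroup.normalizer ((S : Subgroup G) : Set G) :=
    ⟨Subgroup.mem_zpowers t, hn⟩
  exact (h1.le h2).2

theorem card_sylow_ne_one (heven : 2 ∣ Nat.card G) (S : Sylow 2 G) : Nat.card S ≠ 1 := by
  intro h1
  have := S.card_eq_multiplicity
  rw [h1] at this
  have hpos : 0 < (Nat.card G).factorization 2 :=
    Nat.Prime.factorization_pos_of_dvd Nat.prime_two Nat.card_pos.ne' heven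
  have : 1 < 2 ^ (Nat.card G).factorization 2 := Nat.one_lt_two_pow hpos.ne'
  omega

theorem sylow_unique [Group.IsSolvable G] (hyp : Hyp G) (heven : 2 ∣ Nat.card G) (S : Sylow 2 G) :
    ∀ H K : Subgroup ↥(S : Subgroup G), Nat.card H = 2 → Nat.card K = 2 → H = K := by
  have hS : IsPGroup 2 ↥(S : Subgroup G) := S.isPGroup'
  have hnt : Nontrivial ↥(S : Subgroup G) := by
    rw [← Finite.one_lt_card_iff_nontrivial]
    have := card_sylow_ne_one heven S
    have : 0 < Nat.card S := Nat.card_pos
    omega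
  have hcen : Nontrivial (Subgroup.center ↥(S : Subgroup G)) := hS.center_nontrivial
  have h2 : 2 ∣ Nat.card (Subgroup.center ↥(S : Subgroup G)) := by
    rcases (hS.to_subgroup (Subgroup.center _)).card_eq_or_dvd with h | h
    · rw [← Finite.one_lt_card_iff_nontrivial] at hcen; omega
    · exact h
  obtain ⟨z, hz⟩ := exists_prime_orderOf_dvd_card' 2 h2
  have hz' : orderOf ((z : ↥(S : Subgroup G)) : G) = 2 := by
    rw [Subgroup.orderOf_coe, Subgroup.orderOf_coe]; exact hz
  have key : ∀ h : ↥(S : Subgroup G), orderOf h = 2 → h = (z : ↥(S : Subgroup G)) := by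
    intro h hh
    have hh' : orderOf (h : G) = 2 := by rw [Subgroup.orderOf_coe]; exact hh
    have hc : Commute (h : G) ((z : ↥(S : Subgroup G)) : G) := by
      have := Subgroup.mem_center_iff.1 z.2 h
      have := congrArg (Subtype.val) this
      show (h : G) * ((z : ↥(S : Subgroup G)) : G) = ((z : ↥(S : Subgroup G)) : G) * (h : G)
      simpa using this
    have := commuting_involutions_eq _ G hyp rfl _ _ hh' hz' hc
    exact Subtype.ext this
  have hchar : ∀ H : Subgroup ↥(S : Subgroup G), Nat.card H = 2 →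
      ∀ x, x ∈ H ↔ x = 1 ∨ x = (z : ↥(S : Subgroup G)) := by
    intro H hH x
    have hzH : (z : ↥(S : Subgroup G)) ∈ H := by
      obtain ⟨y, hy⟩ := exists_prime_orderOf_dvd_card' (G := H) 2 (by rw [hH])
      have : orderOf (y : ↥(S : Subgroup G)) = 2 := by rw [Subgroup.orderOf_coe]; exact hy
      rw [← key _ this]; exact y.2
    constructor
    · intro hx
      have hdvd : orderOf x ∣ 2 := by
        have := orderOf_dvd_natCard (⟨x, hx⟩ : H)
        rwa [Subgroup.orderOf_mk, hH] at this
      rcases (Nat.dvd_prime Nat.prime_two).1 hdvd with h | h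
      · left; exact orderOf_eq_one_iff.1 h
      · right; exact key x h
    · rintro (rfl | rfl)
      · exact H.one_mem
      · exact hzH
  intro H K hH hK
  ext x
  rw [hchar H hH, hchar K hK]

theorem card_eq_two_of_isCyclic (hyp : Hyp G) (heven : 2 ∣ Nat.card G) (S : Sylow 2 G)
    (hc : IsCyclic ↥(S : Subgroup G)) : Nat.card S = 2 := by
  obtain ⟨s, hs⟩ := hc.exists_generator
  have hcard : orderOf s = Nat.card S := orderOf_eq_card_of_forall_mem_zpowers hs
  obtain ⟨t, k, htk, hts⟩ := hyp.exists_inverting (s : G)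
  have htn : t ∈ Subgroup.normalizer ((S : Subgroup G) : Set G) := by
    rw [Subgroup.mem_normalizer_iff'']
    intro y
    have aux : ∀ y : G, y ∈ (S : Subgroup G) → t⁻¹ * y * t ∈ (S : Subgroup G) := by
      intro y hy
      obtain ⟨i, hi⟩ := Subgroup.mem_zpowers_iff.1 (hs ⟨y, hy⟩)
      have hy' : y = (s : G) ^ i := by
        have := congrArg Subtype.val hi
        simpa using this.symm
      have h1 : t⁻¹ * (s : G) * t = (s : G)⁻¹ := by
        have : (s : G) = t⁻¹ * (s : G)⁻¹ * t := by rw [← hts]; group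
        have h2 : t⁻¹ * (s : G) * t = (t⁻¹ * (s : G)⁻¹ * t)⁻¹ := by group
        rw [h2, ← this]
      have h3 : t⁻¹ * y * t = (t⁻¹ * (s : G) * t) ^ i := by
        rw [hy']
        have := (MulAut.conj t⁻¹).toMonoidHom.map_zpow (s : G) i
        simpa [MulAut.conj_apply] using this
      rw [h3, h1]
      exact Subgroup.zpow_mem _ (Subgroup.inv_mem _ s.2) i
    constructor
    · intro hy; exact aux y hy
    · intro hy
      -- t y t⁻¹ ... use that conj by t⁻¹ is injective on finite S: use t normalizes via powers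
      have h1 : ∀ n : ℕ, (t⁻¹) ^ n * (t⁻¹ * y * t) * t ^ n ∈ (S : Subgroup G) := by
        intro n
        induction n with
        | zero => simpa using hy
        | succ n ih =>
          have := aux _ ih
          have e : t⁻¹ * (t⁻¹ ^ n * (t⁻¹ * y * t) * t ^ n) * t =
              t⁻¹ ^ (n + 1) * (t⁻¹ * y * t) * t ^ (n + 1) := by
            rw [pow_succ', pow_succ]; group
          rwa [e] at this
      have h2 := h1 (orderOf t - 1)
      have hpos : 0 < orderOf t := orderOf_pos t
      have e1 : t⁻¹ ^ (orderOf t - 1) * t⁻¹ = 1 := by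
        rw [← pow_succ, Nat.sub_add_cancel hpos, inv_pow, pow_orderOf_eq_one, inv_one]
      have e2 : t * t ^ (orderOf t - 1) = 1 := by
        rw [← pow_succ', Nat.sub_add_cancel hpos, pow_orderOf_eq_one]
      have : t⁻¹ ^ (orderOf t - 1) * (t⁻¹ * y * t) * t ^ (orderOf t - 1) = y := by
        calc t⁻¹ ^ (orderOf t - 1) * (t⁻¹ * y * t) * t ^ (orderOf t - 1)
            = (t⁻¹ ^ (orderOf t - 1) * t⁻¹) * y * (t * t ^ (orderOf t - 1)) := by group
          _ = y := by rw [e1, e2, one_mul, mul_one]
      rwa [this] at h2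
  have htS := mem_sylow_of_normalizes S htk htn
  have hcomm : t * (s : G) = (s : G) * t := by
    obtain ⟨i, hi⟩ := Subgroup.mem_zpowers_iff.1 (hs ⟨t, htS⟩)
    have ht' : t = (s : G) ^ i := by
      have := congrArg Subtype.val hi
      simpa using this.symm
    rw [ht']
    exact ((Commute.refl (s : G)).zpow_left i).eq
  have hss : (s : G) = (s : G)⁻¹ := by
    rw [← hts, hcomm, mul_inv_cancel_right]
  have hs2 : (s : G) ^ 2 = 1 := by
    rw [pow_two]; nth_rewrite 1 [hss]; exact inv_mul_cancel _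
  have hdvd : Nat.card S ∣ 2 := by
    rw [← hcard, ← Subgroup.orderOf_coe]
    exact orderOf_dvd_of_pow_eq_one hs2
  rcases (Nat.dvd_prime Nat.prime_two).1 hdvd with h | h
  · exact absurd h (card_sylow_ne_one heven S)
  · exact h

theorem sylow_structure [Group.IsSolvable G] (hyp : Hyp G) (heven : 2 ∣ Nat.card G) (S : Sylow 2 G) :
    Nat.card S = 2 ∨ ∃ n : ℕ, Nonempty ((S : Subgroup G) ≃* QuaternionGroup (2 ^ (n + 1))) := by
  have hS : IsPGroup 2 ↥(S : Subgroup G) := S.isPGroup'
  have : Fact (Nat.Prime 2) := ⟨Nat.prime_two⟩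
  rcases Cfsg.Agent.H2.UOP.main 2 hS (sylow_unique hyp heven S) with hc | ⟨-, n, ⟨e⟩⟩
  · left; exact card_eq_two_of_isCyclic hyp heven S hc
  · rcases Nat.eq_zero_or_pos n with rfl | hn
    · left
      apply card_eq_two_of_isCyclic hyp heven S
      have : IsCyclic (QuaternionGroup (2 ^ 0)) := by
        rw [pow_zero]; exact QuaternionGroup.quaternionGroup_one_isCyclic
      exact isCyclic_of_surjective e.symm e.symm.surjective
    · right
      obtain ⟨m, rfl⟩ : ∃ m, n = m + 1 := ⟨n - 1, by omega⟩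
      exact ⟨m, ⟨e⟩⟩

end Cfsg.Agent.Lib.Helper7.Ambiv
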