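import Mathlib
import Cfsg.Agent.Lib.Helper7.AmbivD

set_option autoImplicit false

namespace Cfsg.Agent.Lib.Helper7.Ambiv

open Cfsg

universe u

variable {G : Type u} [Group G] [Finite G]

omit [Finite G] in
/-- an odd order element inverting `c` forces `c = c⁻¹` -/
theorem eq_inv_of_odd_inverting {d c : G} (hd : Odd (orderOf d)) (h : d * c * d⁻¹ = c⁻¹) :
    c = c⁻¹ := by
  have := conj_pow_odd h hd
  rw [pow_orderOf_eq_one] at this
  simpa using this

omit [Finite G] in
theorem odd_orderOf_of_mem {L : Subgroup G} (hL : (Nat.card L).Coprime 2) {x : G} (hx : x ∈ L) :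
    Odd (orderOf x) := by
  have := orderOf_dvd_natCard (⟨x, hx⟩ : L)
  rw [Subgroup.orderOf_mk] at this
  have h2 : (orderOf x).Coprime 2 := Nat.Coprime.coprime_dvd_left this hL
  exact Nat.coprime_two_right.1 h2

/-- the second half of the theorem -/
theorem card_two_case (hyp : Hyp G) (S : Sylow 2 G) (hS : Nat.card S = 2) :
    (S : Subgroup G).IsComplement' (Cfsg.oddCore G) ∧ Cfsg.oddCore G = commutator G ∧
      ∀ t : G, t ∈ S → t ≠ 1 → ∀ x : G, x ∈ Cfsg.oddCore G → t * x * t⁻¹ = x⁻¹ := by
  have : Fact (Nat.Prime 2) := ⟨Nat.prime_two⟩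
  -- elements of S
  have hSel : ∀ t : G, t ∈ S → t ≠ 1 → orderOf t = 2 := by
    intro t ht ht1
    have := orderOf_dvd_natCard (⟨t, ht⟩ : (S : Subgroup G))
    rw [Subgroup.orderOf_mk] at this
    have hS' : Nat.card (S : Subgroup G) = 2 := hS
    rw [hS'] at this
    rcases (Nat.dvd_prime Nat.prime_two).1 this with h | h
    · exact absurd (orderOf_eq_one_iff.1 h) ht1
    · exact h
  obtain ⟨t₀, ht₀⟩ := exists_prime_orderOf_dvd_card' (G := (S : Subgroup G)) 2 (by
    have hS' : Nat.card (S : Subgroup G) = 2 := hS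
    rw [hS'])
  have ht₀' : orderOf (t₀ : G) = 2 := by rw [Subgroup.orderOf_coe]; exact ht₀
  have hSeq : ∀ t : G, t ∈ S → t = 1 ∨ t = (t₀ : G) := by
    intro t ht
    by_cases ht1 : t = 1
    · left; exact ht1
    right
    -- S has two elements
    have hcard : Nat.card (S : Subgroup G) = 2 := hS
    obtain ⟨y, -, hy⟩ := (Nat.card_eq_two_iff' (1 : (S : Subgroup G))).1 hcard
    have h1 : (⟨t, ht⟩ : (S : Subgroup G)) = y := hy _ (fun h => ht1 (congrArg Subtype.val h))
    have h2 : t₀ = y := hy _ (fun h => by rw [h, orderOf_one] at ht₀; omega)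
    have := h1.trans h2.symm
    exact congrArg Subtype.val this
  have hP : Subgroup.normalizer ((S : Subgroup G) : Set G) ≤
      Subgroup.centralizer ((S : Subgroup G) : Set G) := by
    intro g hg
    rw [Subgroup.mem_centralizer_iff]
    intro s hs
    rcases hSeq s hs with rfl | rfl
    · simp
    · have h1 : g * (t₀ : G) * g⁻¹ ∈ (S : Subgroup G) :=
        (Subgroup.mem_normalizer_iff.1 hg (t₀ : G)).1 t₀.2
      rcases hSeq _ h1 with h | h
      · exfalso
        have : (t₀ : G) = 1 := by
          have := congrArg (fun y => g⁻¹ * y * g) h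
          simpa [mul_assoc] using this
        rw [this, orderOf_one] at ht₀'; omega
      · have := congrArg (· * g) h
        simpa using this.symm
  obtain ⟨L, hLn, hLc, hLodd, hLS⟩ := Cfsg.Agent.H2.ClassFar.exists_normal_complement S hP
  have hLeq : Cfsg.oddCore G = L := by
    apply le_antisymm
    · intro x hx
      apply hLodd
      have hc : (Nat.card (Cfsg.pPrimeCore 2 G)).Coprime 2 :=
        Cfsg.Agent.Lib.Lead.PiCore.pPrimeCore_coprime Nat.prime_two
      exact Nat.coprime_two_right.2 (odd_orderOf_of_mem hc hx)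
    · exact Cfsg.Agent.Lib.Lead.PiCore.le_pPrimeCore hLn hLc
  rw [hLeq]
  have hLoddel : ∀ x ∈ L, Odd (orderOf x) := fun x hx => odd_orderOf_of_mem hLc hx
  refine ⟨?_, ?_, ?_⟩
  · -- complement
    have hcomp : L.IsComplement' (S : Subgroup G) := by
      apply Subgroup.isComplement'_of_disjoint_and_mul_eq_univ
      · apply Subgroup.disjoint_of_coprime_natCard
        have hS' : Nat.card (S : Subgroup G) = 2 := hS
        rw [hS']; exact hLc
      · rw [Set.eq_univ_iff_forall]
        intro g
        obtain ⟨l, hl, s, hs, rfl⟩ := hLS S g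
        exact Set.mul_mem_mul hl hs
    exact hcomp.symm
  · -- commutator
    apply le_antisymm
    · intro x hx
      rw [← Abelianization.ker_of, MonoidHom.mem_ker]
      have h1 : Abelianization.of x = (Abelianization.of x)⁻¹ := by
        have := (Abelianization.of (G := G)).map_isConj (hyp.amb x)
        rw [isConj_iff_eq, map_inv] at this
        exact this
      have h2 : (Abelianization.of x) ^ 2 = 1 := by
        rw [pow_two]; nth_rewrite 1 [h1]; exact inv_mul_cancel _
      have h3 : Odd (orderOf (Abelianization.of x)) := by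
        have hd : orderOf (Abelianization.of x) ∣ orderOf x := orderOf_map_dvd _ x
        obtain ⟨d, hd⟩ := hd
        have := hLoddel x hx
        rw [hd] at this
        exact (Nat.odd_mul.1 this).1
      exact eq_one_of_sq_of_odd h2 h3
    · -- G/L has order 2
      have hidx : L.index = 2 := by
        have h1 := L.card_mul_index
        have hcomp : L.IsComplement' (S : Subgroup G) := by
          apply Subgroup.isComplement'_of_disjoint_and_mul_eq_univ
          · apply Subgroup.disjoint_of_coprime_natCard
            have hS' : Nat.card (S : Subgroup G) = 2 := hS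
            rw [hS']; exact hLc
          · rw [Set.eq_univ_iff_forall]
            intro g
            obtain ⟨l, hl, s, hs, rfl⟩ := hLS S g
            exact Set.mul_mem_mul hl hs
        have h2 := hcomp.card_mul_card
        have hS' : Nat.card (S : Subgroup G) = 2 := hS
        rw [hS', ← h1] at h2
        exact (Nat.eq_of_mul_eq_mul_left Nat.card_pos h2).symm
      have hcardq : Nat.card (G ⧸ L) = 2 := by rw [← Subgroup.index_eq_card]; exact hidx
      have hcyc : IsCyclic (G ⧸ L) := isCyclic_of_prime_card hcardq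
      let instC : CommGroup (G ⧸ L) := IsCyclic.commGroup
      have := Abelianization.commutator_subset_ker (QuotientGroup.mk' L)
      rwa [QuotientGroup.ker_mk'] at this
  · intro t ht ht1 x hx
    have hto : orderOf t = 2 := hSel t ht ht1
    have ht2 : t * t = 1 := by rw [← pow_two, ← hto]; exact pow_orderOf_eq_one t
    have htinv : t⁻¹ = t := inv_eq_of_mul_eq_one_left ht2
    -- fixed points of t in L are trivial
    have hfix : ∀ c ∈ L, t * c = c * t → c = 1 := by
      intro c hc htc
      obtain ⟨t', k, ht'k, ht'c⟩ := hyp.exists_inverting c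
      -- t' = l * s
      obtain ⟨l, hl, s, hs, hls⟩ := hLS S t'
      rcases hSeq s hs with rfl | rfl
      · -- t' ∈ L, odd order
        rw [mul_one] at hls
        have := eq_inv_of_odd_inverting (hLoddel t' (hls ▸ hl)) ht'c
        have hc2 : c ^ 2 = 1 := by
          rw [pow_two]; nth_rewrite 1 [this]; exact inv_mul_cancel _
        exact eq_one_of_sq_of_odd hc2 (hLoddel c hc)
      · -- t' = l t₀; t = t₀
        have htt₀ : t = (t₀ : G) := by
          rcases hSeq t ht with h | h
          · exact absurd h ht1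
          · exact h
        rw [← htt₀] at hls
        -- l = t' * t inverts c
        have hl' : l = t' * t := by rw [hls, mul_assoc, ht2, mul_one]
        have hlc : l * c * l⁻¹ = c⁻¹ := by
          rw [hl', mul_inv_rev, htinv]
          have : t' * t * c * (t * t'⁻¹) = t' * (t * c * t) * t'⁻¹ := by group
          rw [this, htc, mul_assoc c, ht2, mul_one, ht'c]
        have := eq_inv_of_odd_inverting (hLoddel l hl) hlc
        have hc2 : c ^ 2 = 1 := by
          rw [pow_two]; nth_rewrite 1 [this]; exact inv_mul_cancel _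
        exact eq_one_of_sq_of_odd hc2 (hLoddel c hc)
    -- the map y ↦ y⁻¹ * (t y t⁻¹) on L
    let f : L → L := fun y => ⟨(y : G)⁻¹ * (t * (y : G) * t⁻¹),
      L.mul_mem (L.inv_mem y.2) (hLn.conj_mem _ y.2 t)⟩
    have hinj : Function.Injective f := by
      intro y y' hyy
      have h1 : (y : G)⁻¹ * (t * (y : G) * t⁻¹) = (y' : G)⁻¹ * (t * (y' : G) * t⁻¹) :=
        congrArg Subtype.val hyy
      have h2 : t * ((y : G) * (y' : G)⁻¹) = ((y : G) * (y' : G)⁻¹) * t := by
        have e1 : t * (y : G) = (y : G) * ((y' : G)⁻¹ * (t * (y' : G) * t⁻¹)) * t := by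
          rw [← h1]; group
        calc t * ((y : G) * (y' : G)⁻¹) = (t * (y : G)) * (y' : G)⁻¹ := by group
          _ = (y : G) * ((y' : G)⁻¹ * (t * (y' : G) * t⁻¹)) * t * (y' : G)⁻¹ := by rw [e1]
          _ = (y : G) * (y' : G)⁻¹ * t := by group
      have h3 := hfix _ (L.mul_mem y.2 (L.inv_mem y'.2)) h2
      exact Subtype.ext (mul_inv_eq_one.1 h3)
    have hsurj : Function.Surjective f := Finite.surjective_of_injective hinj
    obtain ⟨y, hy⟩ := hsurj ⟨x, hx⟩
    have hy' : (y : G)⁻¹ * (t * (y : G) * t⁻¹) = x := congrArg Subtype.val hy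
    rw [← hy', htinv]
    have e1 : t * ((y : G)⁻¹ * (t * (y : G) * t)) * t = t * (y : G)⁻¹ * t * (y : G) * (t * t) := by
      group
    rw [e1, ht2, mul_one]
    have e2 : ((y : G)⁻¹ * (t * (y : G) * t))⁻¹ = t⁻¹ * (y : G)⁻¹ * t⁻¹ * (y : G) := by group
    rw [e2, htinv]

end Cfsg.Agent.Lib.Helper7.Ambiv
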