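import Mathlib
import Cfsg.Prelude.Def_LocalStructure
import Cfsg.Agent.Lib.Lead.Conj
import Cfsg.Agent.Lib.Helper7.PIrreducible3

set_option autoImplicit false

namespace Cfsg.Agent.Lib.Helper7

open Cfsg Cfsg.Agent.Lib.Lead.Conj

variable {K : Type*} [Group K] [Finite K] {p : ℕ} [Fact p.Prime]

theorem pIrreducible_normal_not_ge (hK : IsPIrreducible p K) (C : Subgroup K) [hC : C.Normal]
    (hnc : ¬ pResidual p K ≤ C) :
    IsPClosed p ↥C ∧ (∀ T : Subgroup K, IsPGroup p ↥T → T ⊓ C ≤ pCore p K) ∧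
      (pCore p K ≤ C → pCore p (K ⧸ C) = ⊥) := by
  have h1 : IsPClosed p ↥C := by
    by_contra h
    exact hnc (hK.2 C hC h)
  refine ⟨h1, fun T hT => le_pCore_of_isPClosed C h1 inf_le_right hT.to_inf_left, ?_⟩
  intro hle
  have hsurj : Function.Surjective (QuotientGroup.mk' C) := QuotientGroup.mk'_surjective C
  haveI hOn : (pCore p (K ⧸ C)).Normal := pCore_normal p (K ⧸ C)
  haveI hXn : ((pCore p (K ⧸ C)).comap (QuotientGroup.mk' C)).Normal := hOn.comap _
  have hXc : IsPClosed p ↥((pCore p (K ⧸ C)).comap (QuotientGroup.mk' C)) := by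
    by_contra h
    apply hnc
    have hR := hK.2 _ hXn h
    unfold pResidual
    rw [Subgroup.closure_le]
    intro g hg
    have hg' : (orderOf g).Coprime p := hg
    have hgX : QuotientGroup.mk' C g ∈ pCore p (K ⧸ C) := hR (Subgroup.subset_closure hg)
    obtain ⟨k, hk⟩ := (pCore_isPGroup p (K ⧸ C)) ⟨_, hgX⟩
    have hk' : (QuotientGroup.mk' C g) ^ p ^ k = 1 := congrArg Subtype.val hk
    have h2 : orderOf (QuotientGroup.mk' C g) ∣ Nat.gcd (orderOf g) (p ^ k) :=
      Nat.dvd_gcd (orderOf_map_dvd _ g) (orderOf_dvd_of_pow_eq_one hk')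
    rw [Nat.Coprime.pow_right k hg', Nat.dvd_one, orderOf_eq_one_iff] at h2
    exact (QuotientGroup.eq_one_iff g).mp h2
  obtain ⟨T⟩ : Nonempty (Sylow p K) := inferInstance
  rw [eq_bot_iff]
  intro x hx
  have hxT : x ∈ ((T.mapSurjective hsurj : Sylow p (K ⧸ C)) : Subgroup (K ⧸ C)) :=
    pCore_le_sylow _ hx
  rw [Sylow.coe_mapSurjective] at hxT
  obtain ⟨t, ht, rfl⟩ := hxT
  have htX : t ∈ (T : Subgroup K) ⊓ (pCore p (K ⧸ C)).comap (QuotientGroup.mk' C) := ⟨ht, hx⟩
  have := le_pCore_of_isPClosed _ hXc inf_le_right (T.isPGroup'.to_inf_left) htX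
  rw [Subgroup.mem_bot]
  exact (QuotientGroup.eq_one_iff t).mpr (hle this)

omit [Finite K] in
theorem isPClosed_of_mulEquiv {K' : Type*} [Group K'] [Finite K] (e : K ≃* K') :
    IsPClosed p K ↔ IsPClosed p K' := by
  apply isPClosed_iff_of_surjective e.toMonoidHom e.surjective
  have : e.toMonoidHom.ker = ⊥ := (MonoidHom.ker_eq_bot_iff _).mpr e.injective
  rw [this]
  exact IsPGroup.of_bot

theorem pIrreducible_module_centralizers {G : Type*} [Group G] [Finite G] (V H : Subgroup G)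
    (hH : IsPIrreducible p ↥H)
    (hnc : ¬ (pResidual p ↥H).map H.subtype ≤ Subgroup.centralizer (V : Set G))
    [hn : ((Subgroup.centralizer (V : Set G)).subgroupOf H).Normal] :
    IsPClosed p ↥(H ⊓ Subgroup.centralizer (V : Set G)) ∧
    (∀ T : Subgroup G, T ≤ H → IsPGroup p ↥T →
      T ⊓ Subgroup.centralizer (V : Set G) ≤ pCoreOf p H) ∧
    (pCoreOf p H ≤ Subgroup.centralizer (V : Set G) →
      (∀ T : Subgroup G, T ≤ H → IsPGroup p ↥T →
        T ⊓ Subgroup.centralizer (V : Set G) = T ⊓ pCoreOf p H) ∧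
      pCore p (↥H ⧸ (Subgroup.centralizer (V : Set G)).subgroupOf H) = ⊥) := by
  have hnc' : ¬ pResidual p ↥H ≤ (Subgroup.centralizer (V : Set G)).subgroupOf H := by
    intro h
    apply hnc
    rw [Subgroup.map_le_iff_le_comap]
    exact h
  obtain ⟨h1, h2, h3⟩ := pIrreducible_normal_not_ge hH _ hnc'
  have hb : ∀ T : Subgroup G, T ≤ H → IsPGroup p ↥T →
      T ⊓ Subgroup.centralizer (V : Set G) ≤ pCoreOf p H := by
    intro T hTH hT x hx
    have := h2 (T.subgroupOf H) hT.comap_subtype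
      (show (⟨x, hTH hx.1⟩ : ↥H) ∈ T.subgroupOf H ⊓ (Subgroup.centralizer (V : Set G)).subgroupOf H from
        ⟨Subgroup.mem_subgroupOf.mpr hx.1, Subgroup.mem_subgroupOf.mpr hx.2⟩)
    exact ⟨_, this, rfl⟩
  refine ⟨?_, hb, ?_⟩
  · have e1 : (Subgroup.centralizer (V : Set G)).subgroupOf H =
        (H ⊓ Subgroup.centralizer (V : Set G)).subgroupOf H := by
      rw [Subgroup.inf_subgroupOf_left]
    have h1' := (isPClosed_congr e1).mp h1
    exact (isPClosed_of_mulEquiv (Subgroup.subgroupOfEquivOfLe inf_le_left)).mp h1'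
  · intro hle
    refine ⟨fun T hTH hT => ?_, ?_⟩
    · apply le_antisymm
      · exact le_inf inf_le_left (hb T hTH hT)
      · exact le_inf inf_le_left (inf_le_right.trans hle)
    · apply h3
      intro x hx
      rw [Subgroup.mem_subgroupOf]
      exact hle ⟨x, hx, rfl⟩

end Cfsg.Agent.Lib.Helper7
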