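import Mathlib
import Cfsg.Prelude.Def_LocalStructure
import Cfsg.Prelude.Def_LocalEven
import Cfsg.Prelude.Def_Amalgam
import Cfsg.Agent.Lib.Helper7.FrakM
import Cfsg.Agent.Lib.Helper7.PIrreducible4

set_option autoImplicit false

namespace Cfsg.Agent.Lib.Helper7

open Cfsg
open scoped commutatorElement

variable {G : Type*} [Group G] {p : ℕ}

theorem frakM_pCore_eq [Finite G] [Fact p.Prime] (S : Sylow p G) (M : Subgroup G)
    (hSM : (S : Subgroup G) ≤ M) (hM : IsInFrakM p M) :
    pCoreOf p M = (S : Subgroup G) ⊓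
      Subgroup.centralizer (((largestPReducedOf p M) : Subgroup G) : Set G) := by
  have hchar := charP_internal_of_mem_charPSubgroups hM.1
  obtain ⟨-, hR, -, -, -, -⟩ := largest_pReduced_sylow_props S M hSM hchar _ rfl
  apply le_antisymm hR
  set Y := largestPReducedOf p M with hY
  set C := Subgroup.centralizer ((Y : Subgroup G) : Set G) with hC
  have hpc : IsPClosed p ↥(M ⊓ C) := hM.2.2.2.2.1
  have hMC : M ≤ Subgroup.normalizer ((C : Subgroup G) : Set G) :=
    (le_normalizer_largestPReducedOf M hchar).trans (normalizer_le_normalizer_centralizer'' Y)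
  have hMD : M ≤ Subgroup.normalizer (((M ⊓ C : Subgroup G)) : Set G) :=
    (le_inf Subgroup.le_normalizer hMC).trans Subgroup.inf_normalizer_le_normalizer_inf
  haveI hDn : ((M ⊓ C).subgroupOf M).Normal :=
    (Subgroup.normal_subgroupOf_iff_le_normalizer inf_le_left).mpr hMD
  have hpc' : IsPClosed p ↥((M ⊓ C).subgroupOf M) :=
    (isPClosed_of_mulEquiv (Subgroup.subgroupOfEquivOfLe (inf_le_left : M ⊓ C ≤ M))).mpr hpc
  have hle : ((S : Subgroup G) ⊓ C).subgroupOf M ≤ (M ⊓ C).subgroupOf M :=
    Subgroup.subgroupOf_mono _ (inf_le_inf_right _ hSM)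
  have hp : IsPGroup p ↥(((S : Subgroup G) ⊓ C).subgroupOf M) :=
    (S.isPGroup'.to_inf_left).comap_subtype
  have h1 := le_pCore_of_isPClosed ((M ⊓ C).subgroupOf M) hpc' hle hp
  have h2 := Subgroup.map_mono (f := M.subtype) h1
  rw [Subgroup.map_subgroupOf_eq_of_le (inf_le_left.trans hSM)] at h2
  exact h2

theorem frakM_pCore_weaklyClosed [Finite G] [Fact p.Prime] (S : Sylow p G) (M : Subgroup G)
    (hSM : (S : Subgroup G) ≤ M) (hM : IsInFrakM p M) :
    IsWeaklyClosedSubgroup p (((pCoreOf p M)).subgroupOf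
      (M ⊔ Subgroup.centralizer (((largestPReducedOf p M) : Subgroup G) : Set G))) := by
  have hchar := charP_internal_of_mem_charPSubgroups hM.1
  have hReq := frakM_pCore_eq S M hSM hM
  set Y := largestPReducedOf p M with hY
  set C := Subgroup.centralizer ((Y : Subgroup G) : Set G) with hC
  set Md := M ⊔ C with hMd
  set R := pCoreOf p M with hR
  have hMC : M ≤ Subgroup.normalizer ((C : Subgroup G) : Set G) :=
    (le_normalizer_largestPReducedOf M hchar).trans (normalizer_le_normalizer_centralizer'' Y)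
  have hMdC : Md ≤ Subgroup.normalizer ((C : Subgroup G) : Set G) := sup_le hMC Subgroup.le_normalizer
  have hSMd : (S : Subgroup G) ≤ Md := hSM.trans le_sup_left
  have hRS : R ≤ (S : Subgroup G) := by rw [hReq]; exact inf_le_left
  have hRMd : R ≤ Md := hRS.trans hSMd
  refine ⟨S.subtype hSMd, ?_, ?_⟩
  · rw [Sylow.coe_subtype]
    exact Subgroup.subgroupOf_mono _ hRS
  · intro g hg
    rw [Sylow.coe_subtype] at hg
    show cj g (R.subgroupOf Md) = R.subgroupOf Md
    have hg' : cj g (R.subgroupOf Md) ≤ (S : Subgroup G).subgroupOf Md := hg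
    have h1 : (cj g (R.subgroupOf Md)).map Md.subtype = cj (g : G) R := by
      rw [map_subtype_cj, Subgroup.map_subgroupOf_eq_of_le hRMd]
    have h2 : cj (g : G) R ≤ (S : Subgroup G) := by
      rw [← h1]
      have := Subgroup.map_mono (f := Md.subtype) hg'
      rwa [Subgroup.map_subgroupOf_eq_of_le hSMd] at this
    have h3 : cj (g : G) R ≤ C := by
      have : cj (g : G) R ≤ cj (g : G) C := cj_mono _ (by rw [hReq]; exact inf_le_right)
      rwa [cj_eq_of_mem_normalizer (hMdC g.2)] at this
    have h4 : cj (g : G) R ≤ R := by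
      conv_rhs => rw [hReq]
      exact le_inf h2 h3
    have h5 : cj (g : G) R = R := cj_eq_of_mem_normalizer (mem_normalizer_of_cj_le h4)
    apply Subgroup.map_injective Md.subtype_injective
    rw [h1, h5, Subgroup.map_subgroupOf_eq_of_le hRMd]

end Cfsg.Agent.Lib.Helper7
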