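import Mathlib
import Cfsg.Prelude.Def_Transfer
import Cfsg.Agent.Lib.Helper7.Core

set_option autoImplicit false

namespace Cfsg.Agent.Lib.Helper7

open Cfsg
open scoped commutatorElement

variable {G : Type*} [Group G]

/-- the subgroup of `H` of elements centralizing `P'` and acting trivially on `p`-th powers modulo `P'` -/
def stabPowSub (p : ℕ) (P H : Subgroup G) : Subgroup ↥H where
  carrier := {h | (∀ c ∈ ⁅P, P⁆, (h : G) * c = c * (h : G)) ∧
    ∀ x ∈ P, (h : G) * x ^ p * (h : G)⁻¹ * (x ^ p)⁻¹ ∈ ⁅P, P⁆}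
  one_mem' := by
    refine ⟨fun c _ => by simp, fun x _ => ?_⟩
    simp
  mul_mem' := by
    rintro a b ⟨ha1, ha2⟩ ⟨hb1, hb2⟩
    refine ⟨fun c hc => ?_, fun x hx => ?_⟩
    · show (a : G) * (b : G) * c = c * ((a : G) * (b : G))
      rw [mul_assoc, hb1 c hc, ← mul_assoc, ha1 c hc, mul_assoc]
    · show (a : G) * (b : G) * x ^ p * ((a : G) * (b : G))⁻¹ * (x ^ p)⁻¹ ∈ ⁅P, P⁆
      have h1 := hb2 x hx
      have h2 := ha2 x hx
      have h3 := ha1 _ h1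
      have e : (a : G) * (b : G) * x ^ p * ((a : G) * (b : G))⁻¹ * (x ^ p)⁻¹ =
          ((a : G) * ((b : G) * x ^ p * (b : G)⁻¹ * (x ^ p)⁻¹) * (a : G)⁻¹) *
            ((a : G) * x ^ p * (a : G)⁻¹ * (x ^ p)⁻¹) := by group
      rw [e, h3, mul_inv_cancel_right]
      exact Subgroup.mul_mem _ h1 h2
  inv_mem' := by
    rintro a ⟨ha1, ha2⟩
    refine ⟨fun c hc => ?_, fun x hx => ?_⟩
    · show (a : G)⁻¹ * c = c * (a : G)⁻¹
      have := ha1 c hc
      rw [inv_mul_eq_iff_eq_mul, ← mul_assoc, this, mul_inv_cancel_right]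
    · show (a : G)⁻¹ * x ^ p * (a : G)⁻¹⁻¹ * (x ^ p)⁻¹ ∈ ⁅P, P⁆
      have h2 := ha2 x hx
      have h3 := ha1 _ h2
      have e : (a : G)⁻¹ * x ^ p * (a : G)⁻¹⁻¹ * (x ^ p)⁻¹ =
          (a : G)⁻¹ * ((a : G) * x ^ p * (a : G)⁻¹ * (x ^ p)⁻¹)⁻¹ * (a : G) := by group
      rw [e]
      have hcomm : Commute (a : G) ((a : G) * x ^ p * (a : G)⁻¹ * (x ^ p)⁻¹) := h3
      have h4 := hcomm.inv_right.eq
      rw [mul_assoc, ← h4, inv_mul_cancel_left]
      exact Subgroup.inv_mem _ h2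

theorem conj_mem_of_mem_normalizer {P : Subgroup G} {k : G} (hk : k ∈ Subgroup.normalizer (P : Set G))
    {x : G} (hx : x ∈ P) : k * x * k⁻¹ ∈ P := (Subgroup.mem_normalizer_iff.mp hk x).mp hx

theorem conj_mem_commutator_of_mem_normalizer {P : Subgroup G} {k : G}
    (hk : k ∈ Subgroup.normalizer (P : Set G)) {c : G} (hc : c ∈ ⁅P, P⁆) : k * c * k⁻¹ ∈ ⁅P, P⁆ := by
  have h1 : (⁅P, P⁆).map (MulAut.conj k).toMonoidHom ≤ ⁅P, P⁆ := by
    rw [Subgroup.map_commutator]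
    have h2 : P.map (MulAut.conj k).toMonoidHom ≤ P := by
      rintro _ ⟨x, hx, rfl⟩
      exact conj_mem_of_mem_normalizer hk hx
    exact Subgroup.commutator_mono h2 h2
  exact h1 ⟨c, hc, rfl⟩

theorem stabPowSub_normal (p : ℕ) (P H : Subgroup G) (hH : H ≤ Subgroup.normalizer (P : Set G)) :
    (stabPowSub p P H).Normal := by
  refine ⟨fun h hh k => ?_⟩
  obtain ⟨h1, h2⟩ := hh
  have hkN := hH k.2
  have hkN' : (k : G)⁻¹ ∈ Subgroup.normalizer (P : Set G) := Subgroup.inv_mem _ hkN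
  refine ⟨fun c hc => ?_, fun x hx => ?_⟩
  · show (k : G) * (h : G) * (k : G)⁻¹ * c = c * ((k : G) * (h : G) * (k : G)⁻¹)
    have hc' : (k : G)⁻¹ * c * (k : G)⁻¹⁻¹ ∈ ⁅P, P⁆ := conj_mem_commutator_of_mem_normalizer hkN' hc
    have h3 := h1 _ hc'
    have e1 : (k : G) * (h : G) * (k : G)⁻¹ * c =
        (k : G) * ((h : G) * ((k : G)⁻¹ * c * (k : G)⁻¹⁻¹)) * (k : G)⁻¹ := by group
    rw [e1, h3]; group
  · show (k : G) * (h : G) * (k : G)⁻¹ * x ^ p * ((k : G) * (h : G) * (k : G)⁻¹)⁻¹ * (x ^ p)⁻¹ ∈ ⁅P, P⁆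
    have hx' : (k : G)⁻¹ * x * (k : G)⁻¹⁻¹ ∈ P := conj_mem_of_mem_normalizer hkN' hx
    have h3 := h2 _ hx'
    have h4 := conj_mem_commutator_of_mem_normalizer hkN h3
    have e : (k : G) * (h : G) * (k : G)⁻¹ * x ^ p * ((k : G) * (h : G) * (k : G)⁻¹)⁻¹ * (x ^ p)⁻¹ =
        (k : G) * ((h : G) * ((k : G)⁻¹ * x * (k : G)⁻¹⁻¹) ^ p * (h : G)⁻¹ *
          (((k : G)⁻¹ * x * (k : G)⁻¹⁻¹) ^ p)⁻¹) * (k : G)⁻¹ := by
      rw [conj_pow]; group
    rw [e]; exact h4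

/-- in a group, `(a x)^p (x^p)⁻¹` lies in the derived subgroup when `a^p = 1` -/
theorem mul_pow_mul_inv_mem_commutator (P : Subgroup G) (p : ℕ) {a x : G} (ha : a ∈ P) (hx : x ∈ P)
    (hap : a ^ p = 1) : (a * x) ^ p * (x ^ p)⁻¹ ∈ ⁅P, P⁆ := by
  set π : ↥P →* Abelianization ↥P := Abelianization.of with hπ
  have h1 : π ((⟨a, ha⟩ * ⟨x, hx⟩) ^ p * (⟨x, hx⟩ ^ p)⁻¹) = 1 := by
    rw [map_mul, map_inv, map_pow, map_mul, mul_pow, ← map_pow, ← map_pow]
    have : (⟨a, ha⟩ : ↥P) ^ p = 1 := Subtype.ext hap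
    rw [this, map_one, one_mul, mul_inv_cancel]
  have h2 : ((⟨a, ha⟩ * ⟨x, hx⟩) ^ p * (⟨x, hx⟩ ^ p)⁻¹ : ↥P) ∈ commutator ↥P := by
    rw [← Abelianization.ker_of]; exact h1
  have h3 := Subgroup.mem_map_of_mem P.subtype h2
  rw [Subgroup.map_subtype_commutator] at h3
  exact h3

theorem pResidual_normalClosure_le_centralizer_frattini [Finite G] {p : ℕ} [Fact p.Prime]
    (P : Subgroup G) (hP : IsPGroup p ↥P) (H : Subgroup G) (hH : H ≤ Subgroup.normalizer (P : Set G))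
    (Y : Subgroup G) (hYH : Y ≤ H)
    (hYc : Y ≤ Subgroup.centralizer ((⁅P, P⁆ : Subgroup G) : Set G))
    (hel : Cfsg.IsElementaryAbelian p ⁅P, Y⁆) (NY : Subgroup G)
    (hNY : NY = (Subgroup.normalClosure ((Y.subgroupOf H : Subgroup ↥H) : Set ↥H)).map H.subtype) :
    (Cfsg.pResidual p ↥NY).map NY.subtype ≤
      Subgroup.centralizer (((frattini ↥P).map P.subtype : Subgroup G) : Set G) := by
  haveI := stabPowSub_normal p P H hH
  -- Y lies in M
  have hYM : ((Y.subgroupOf H : Subgroup ↥H) : Set ↥H) ⊆ stabPowSub p P H := by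
    intro y hy
    have hyY : (y : G) ∈ Y := Subgroup.mem_subgroupOf.mp hy
    have hyN := hH y.2
    refine ⟨fun c hc => ?_, fun x hx => ?_⟩
    · exact ((Subgroup.mem_centralizer_iff.mp (hYc hyY)) c hc).symm
    · set a : G := (y : G) * x * (y : G)⁻¹ * x⁻¹ with ha
      have haP : a ∈ P := P.mul_mem (conj_mem_of_mem_normalizer hyN hx) (P.inv_mem hx)
      have haC : a ∈ ⁅P, Y⁆ := by
        rw [Subgroup.commutator_comm]
        exact Subgroup.commutator_mem_commutator hyY hx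
      have hap : a ^ p = 1 := hel.2 a haC
      have h1 := mul_pow_mul_inv_mem_commutator P p haP hx hap
      have e : (y : G) * x ^ p * (y : G)⁻¹ = (a * x) ^ p := by
        rw [← conj_pow, ha]; group
      rw [e]; exact h1
  have hNYM := Subgroup.normalClosure_le_normal hYM
  set s : Set G := {g : G | (∃ h : ↥H, h ∈ stabPowSub p P H ∧ (h : G) = g) ∧
    Nat.Coprime (orderOf g) p} with hs
  set K₀ : Subgroup ↥P := (Subgroup.centralizer s).subgroupOf P with hK₀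
  have hfr : frattini ↥P ≤ K₀ := by
    apply frattini_le_of_elemAb_quotient p K₀
    · intro x y
      rw [hK₀, Subgroup.mem_subgroupOf, Subgroup.mem_centralizer_iff]
      rintro g ⟨⟨h, ⟨h1, -⟩, rfl⟩, -⟩
      apply h1
      show (x : G) * (y : G) * (x : G)⁻¹ * (y : G)⁻¹ ∈ ⁅P, P⁆
      exact Subgroup.commutator_mem_commutator x.2 y.2
    · intro x
      rw [hK₀, Subgroup.mem_subgroupOf, Subgroup.mem_centralizer_iff]
      rintro g ⟨⟨h, ⟨h1, h2⟩, rfl⟩, hcop⟩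
      show (h : G) * ((x : G) ^ p) = (x : G) ^ p * (h : G)
      have hc := h2 x x.2
      have e : ⁅(x : G) ^ p, (h : G)⁆ = ((h : G) * (x : G) ^ p * (h : G)⁻¹ * ((x : G) ^ p)⁻¹)⁻¹ := by
        rw [commutatorElement_def]; group
      have hcP : ⁅(x : G) ^ p, (h : G)⁆ ∈ ⁅P, P⁆ := by rw [e]; exact Subgroup.inv_mem _ hc
      have hle : ⁅P, P⁆ ≤ P := by
        rw [Subgroup.commutator_le]
        intro a ha b hb
        exact P.mul_mem (P.mul_mem (P.mul_mem ha hb) (P.inv_mem ha)) (P.inv_mem hb)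
      have hcP' : ⁅(x : G) ^ p, (h : G)⁆ ∈ P := hle hcP
      obtain ⟨k, hk⟩ := hP ⟨_, hcP'⟩
      have hk' : ⁅(x : G) ^ p, (h : G)⁆ ^ (p ^ k) = 1 := congrArg Subtype.val hk
      exact (commute_of_coprime_of_commute_commutator ((x : G) ^ p) (h : G) hcop (h1 _ hcP) k hk').symm
  -- conclude
  rw [Subgroup.map_le_iff_le_comap]
  show Cfsg.pResidual p ↥NY ≤ _
  unfold Cfsg.pResidual
  rw [Subgroup.closure_le]
  intro n hn
  have hn' : Nat.Coprime (orderOf n) p := hn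
  show (n : G) ∈ Subgroup.centralizer _
  have hns : (n : G) ∈ s := by
    refine ⟨?_, by rw [Subgroup.orderOf_coe]; exact hn'⟩
    have hn2 : (n : G) ∈ (Subgroup.normalClosure ((Y.subgroupOf H : Subgroup ↥H) : Set ↥H)).map H.subtype :=
      hNY ▸ n.2
    obtain ⟨h, hh, hhe⟩ := hn2
    exact ⟨h, hNYM hh, hhe⟩
  rw [Subgroup.mem_centralizer_iff]
  rintro _ ⟨w, hw, rfl⟩
  have h1 := hfr hw
  rw [hK₀, Subgroup.mem_subgroupOf, Subgroup.mem_centralizer_iff] at h1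
  exact (h1 _ hns).symm

end Cfsg.Agent.Lib.Helper7
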