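import Mathlib
import Cfsg.Agent.S0029
import Cfsg.Agent.H1.Frattini
import Cfsg.Agent.Lib.Helper7.SylowLib
import Cfsg.Agent.Lib.Helper7.KNormalizer
import Cfsg.Agent.Lib.Helper7.Kieler2
import Cfsg.Agent.Lib.Helper7.FrattiniResidual

set_option autoImplicit false

namespace Cfsg.Agent.Lib.Helper7.LargeComm

open Cfsg Cfsg.Agent.Lib.Helper7
open scoped Pointwise commutatorElement

variable {G : Type*} [Group G]

/-- A subgroup containing a Sylow `r`-subgroup of `W` for every prime `r` is all of `W`. -/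
theorem eq_of_forall_sylow_le [Finite G] {N W : Subgroup G} (hNW : N ≤ W)
    (h : ∀ r : ℕ, r.Prime → ∃ Q : Subgroup G, IsSylowIn r Q W ∧ Q ≤ N) : N = W := by
  have hN0 : Nat.card ↥N ≠ 0 := Nat.card_pos.ne'
  have hW0 : Nat.card ↥W ≠ 0 := Nat.card_pos.ne'
  have h1 : Nat.card ↥W ∣ Nat.card ↥N := by
    rw [← Nat.factorization_le_iff_dvd hW0 hN0]
    intro r
    by_cases hr : r.Prime
    · obtain ⟨Q, hQ, hQN⟩ := h r hr
      have h2 : Nat.card ↥Q ∣ Nat.card ↥N := Subgroup.card_dvd_of_le hQN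
      rw [hQ.2] at h2
      exact (hr.pow_dvd_iff_le_factorization hN0).mp h2
    · rw [Nat.factorization_eq_zero_of_not_prime _ hr]
      exact Nat.zero_le _
  have h2 : Nat.card ↥W ≤ Nat.card ↥N := Nat.le_of_dvd Nat.card_pos h1
  exact Subgroup.eq_of_le_of_card_ge hNW h2

theorem comm_conj_left (l y a : G) : ⁅l * y * l⁻¹, a⁆ = l * ⁅y, l⁻¹ * a * l⁆ * l⁻¹ := by
  simp only [commutatorElement_def]; group

theorem comm_conj_right (l d y : G) : ⁅d, l * y * l⁻¹⁆ = l * ⁅l⁻¹ * d * l, y⁆ * l⁻¹ := by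
  simp only [commutatorElement_def]; group

theorem comm_mul_left (w₁ w₂ a : G) : ⁅w₁ * w₂, a⁆ = w₁ * ⁅w₂, a⁆ * w₁⁻¹ * ⁅w₁, a⁆ := by
  simp only [commutatorElement_def]; group

theorem comm_inv_left (w a : G) : ⁅w⁻¹, a⁆ = w⁻¹ * ⁅w, a⁆⁻¹ * w := by
  simp only [commutatorElement_def]; group

theorem comm_mul_right (d w₁ w₂ : G) : ⁅d, w₁ * w₂⁆ = ⁅d, w₁⁆ * (w₁ * ⁅d, w₂⁆ * w₁⁻¹) := by
  simp only [commutatorElement_def]; group

theorem comm_inv_right (d w : G) : ⁅d, w⁻¹⁆ = w⁻¹ * ⁅d, w⁆⁻¹ * w := by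
  simp only [commutatorElement_def]; group

end Cfsg.Agent.Lib.Helper7.LargeComm
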