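import Mathlib
import Cfsg.Agent.S0029
import Cfsg.Agent.H1.Frattini
import Cfsg.Agent.Lib.Helper7.SylowLib
import Cfsg.Agent.Lib.Helper7.KNormalizer
import Cfsg.Agent.Lib.Helper7.Kieler2
import Cfsg.Agent.Lib.Helper7.FrattiniResidual
import Cfsg.Agent.Lib.Helper7.LargeCommA

set_option autoImplicit false

namespace Cfsg.Agent.Lib.Helper7.LargeComm

open Cfsg Cfsg.Agent.Lib.Helper7
open scoped Pointwise commutatorElement

variable {G : Type*} [Group G]

/-- The set of `L`-conjugates of elements of `Y`. -/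
def conjSet (L Y : Subgroup G) : Set G := {g | ∃ l ∈ L, ∃ y ∈ Y, g = l * y * l⁻¹}

/-- The normal closure of `Y` in `L` (ambient form). -/
def nc (L Y : Subgroup G) : Subgroup G := Subgroup.closure (conjSet L Y)

theorem le_nc (L Y : Subgroup G) : Y ≤ nc L Y := by
  intro y hy
  exact Subgroup.subset_closure ⟨1, L.one_mem, y, hy, by simp⟩

theorem nc_le {L Y : Subgroup G} (hYL : Y ≤ L) : nc L Y ≤ L := by
  unfold nc
  rw [Subgroup.closure_le]
  rintro _ ⟨l, hl, y, hy, rfl⟩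
  exact L.mul_mem (L.mul_mem hl (hYL hy)) (L.inv_mem hl)

theorem nc_conj_mem {L Y : Subgroup G} {l : G} (hl : l ∈ L) {w : G} (hw : w ∈ nc L Y) :
    l * w * l⁻¹ ∈ nc L Y := by
  unfold nc at hw ⊢
  induction hw using Subgroup.closure_induction with
  | mem x hx =>
    obtain ⟨l', hl', y, hy, rfl⟩ := hx
    refine Subgroup.subset_closure ⟨l * l', L.mul_mem hl hl', y, hy, ?_⟩
    group
  | one => simp
  | mul x y _ _ hx hy =>
    have e : l * (x * y) * l⁻¹ = (l * x * l⁻¹) * (l * y * l⁻¹) := by group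
    rw [e]; exact Subgroup.mul_mem _ hx hy
  | inv x _ hx =>
    have e : l * x⁻¹ * l⁻¹ = (l * x * l⁻¹)⁻¹ := by group
    rw [e]; exact Subgroup.inv_mem _ hx

theorem le_normalizer_nc (L Y : Subgroup G) : L ≤ Subgroup.normalizer ((nc L Y : Subgroup G) : Set G) :=
  le_normalizer_of_conj fun _ hl _ hw => nc_conj_mem hl hw


section K

variable {p : ℕ} [Fact p.Prime] {L A Y R : Subgroup G}

theorem nc_comm_mem_of (hLA : L ≤ Subgroup.normalizer (A : Set G)) (hYL : Y ≤ L)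
    (h1 : ∀ y ∈ Y, ∀ a ∈ A, ⁅y, a⁆ ∈ ⁅A, A⁆) :
    ∀ w ∈ nc L Y, ∀ a ∈ A, ⁅w, a⁆ ∈ ⁅A, A⁆ := by
  intro w hw
  have hwL : ∀ w ∈ nc L Y, w ∈ L := fun w hw => nc_le hYL hw
  unfold nc at hw hwL
  induction hw using Subgroup.closure_induction with
  | mem x hx =>
    obtain ⟨l, hl, y, hy, rfl⟩ := hx
    intro a ha
    rw [comm_conj_left]
    have ha' : l⁻¹ * a * l ∈ A := conj_mem_of_le_normalizer' hLA hl ha
    exact conj_mem_commutator_of_mem_normalizer (hLA hl) (h1 y hy _ ha')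
  | one =>
    intro a _
    simp
  | mul x y hx' hy' hx hy =>
    intro a ha
    rw [comm_mul_left]
    exact Subgroup.mul_mem _
      (conj_mem_commutator_of_mem_normalizer (hLA (hwL x hx')) (hy a ha)) (hx a ha)
  | inv x hx' hx =>
    intro a ha
    rw [comm_inv_left]
    have h := conj_mem_commutator_of_mem_normalizer (hLA (L.inv_mem (hwL x hx')))
      (Subgroup.inv_mem _ (hx a ha))
    simpa using h

theorem nc_comm_mem_right (hLR : L ≤ Subgroup.normalizer (R : Set G))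
    (hLD : ∀ l ∈ L, ∀ d ∈ L ⊓ Subgroup.centralizer (A : Set G),
      l⁻¹ * d * l ∈ L ⊓ Subgroup.centralizer (A : Set G))
    (hYL : Y ≤ L)
    (h2 : ∀ d ∈ L ⊓ Subgroup.centralizer (A : Set G), ∀ y ∈ Y, ⁅d, y⁆ ∈ R) :
    ∀ w ∈ nc L Y, ∀ d ∈ L ⊓ Subgroup.centralizer (A : Set G), ⁅d, w⁆ ∈ R := by
  intro w hw
  have hwL : ∀ w ∈ nc L Y, w ∈ L := fun w hw => nc_le hYL hw
  unfold nc at hw hwL
  induction hw using Subgroup.closure_induction with
  | mem x hx =>
    obtain ⟨l, hl, y, hy, rfl⟩ := hx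
    intro d hd
    rw [comm_conj_right]
    exact conj_mem_of_le_normalizer hLR hl (h2 _ (hLD l hl d hd) y hy)
  | one =>
    intro d _
    simp
  | mul x y hx' hy' hx hy =>
    intro d hd
    rw [comm_mul_right]
    exact Subgroup.mul_mem _ (hx d hd) (conj_mem_of_le_normalizer hLR (hwL x hx') (hy d hd))
  | inv x hx' hx =>
    intro d hd
    rw [comm_inv_right]
    have h := conj_mem_of_le_normalizer hLR (L.inv_mem (hwL x hx')) (Subgroup.inv_mem _ (hx d hd))
    simpa using h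


variable [Finite G]

/-- P3: a `p'`-element of `W` (all of whose powers satisfy `⁅·, A⁆ ≤ ⁅A, A⁆`) centralizes the
`p`-group `A`. -/
theorem mem_centralizer_of_coprime (hAp : IsPGroup p ↥A) {x : G}
    (hxN : x ∈ Subgroup.normalizer (A : Set G))
    (hcop : (orderOf x).Coprime p)
    (hx : ∀ z ∈ Subgroup.zpowers x, ∀ a ∈ A, ⁅z, a⁆ ∈ ⁅A, A⁆) :
    x ∈ Subgroup.centralizer (A : Set G) := by
  have hp : p.Prime := Fact.out
  have hcomA : ⁅A, A⁆ ≤ (frattini ↥A).map A.subtype := by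
    have h1 : commutator ↥A ≤ frattini ↥A := Cfsg.Agent.H1.commutator_le_frattini hAp
    have h2 : ⁅A, A⁆ = (commutator ↥A).map A.subtype := by
      rw [commutator_def, Subgroup.map_commutator, ← MonoidHom.range_eq_map, Subgroup.range_subtype]
    rw [h2]
    exact Subgroup.map_mono h1
  have hAK : Subgroup.zpowers x ≤ Subgroup.normalizer (A : Set G) := by
    rw [Subgroup.zpowers_le]; exact hxN
  have hcop' : (Nat.card ↥(Subgroup.zpowers x)).Coprime (Nat.card ↥(frattini ↥A)) := by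
    rw [Nat.card_zpowers]
    have hF : IsPGroup p ↥(frattini ↥A) := hAp.to_subgroup _
    obtain ⟨n, hn⟩ := IsPGroup.iff_card.mp hF
    rw [hn]
    exact Nat.Coprime.pow_right n hcop
  have htriv : ∀ a ∈ Subgroup.zpowers x, ∀ k ∈ A,
      a * k * a⁻¹ * k⁻¹ ∈ (frattini ↥A).map A.subtype := by
    intro z hz a ha
    exact hcomA (hx z hz a ha)
  exact Cfsg.Agent.S0029.result (Subgroup.zpowers x) A hAK hcop' htriv
    (Subgroup.mem_zpowers x)

theorem nc_isPGroup (hLA : L ≤ Subgroup.normalizer (A : Set G))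
    (hAp : IsPGroup p ↥A) (hYp : IsPGroup p ↥Y) (hYL : Y ≤ L)
    (hLR : L ≤ Subgroup.normalizer (R : Set G)) (hRp : IsPGroup p ↥R)
    (h1 : ∀ y ∈ Y, ∀ a ∈ A, ⁅y, a⁆ ∈ ⁅A, A⁆)
    (h2 : ∀ d ∈ L ⊓ Subgroup.centralizer (A : Set G), ∀ y ∈ Y, ⁅d, y⁆ ∈ R) :
    IsPGroup p ↥(nc L Y) := by
  have hp : p.Prime := Fact.out
  obtain ⟨W, hWdef⟩ : ∃ W, W = nc L Y := ⟨_, rfl⟩
  rw [← hWdef]
  have hWL : W ≤ L := hWdef ▸ nc_le hYL
  -- `L` normalizes `D = C_L(A)`
  have hLD : ∀ l ∈ L, ∀ d ∈ L ⊓ Subgroup.centralizer (A : Set G),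
      l⁻¹ * d * l ∈ L ⊓ Subgroup.centralizer (A : Set G) := by
    intro l hl d hd
    refine ⟨L.mul_mem (L.mul_mem (L.inv_mem hl) hd.1) hl, ?_⟩
    show l⁻¹ * d * l ∈ Subgroup.centralizer (A : Set G)
    rw [Subgroup.mem_centralizer_iff]
    intro a ha
    have ha' : l * a * l⁻¹ ∈ A := conj_mem_of_le_normalizer hLA hl ha
    have h := (Subgroup.mem_centralizer_iff.mp hd.2) _ ha'
    -- h : l * a * l⁻¹ * d = d * (l * a * l⁻¹)
    calc a * (l⁻¹ * d * l) = l⁻¹ * (l * a * l⁻¹ * d) * l := by group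
      _ = l⁻¹ * (d * (l * a * l⁻¹)) * l := by rw [h]
      _ = l⁻¹ * d * l * a := by group
  have P1 : ∀ w ∈ W, ∀ a ∈ A, ⁅w, a⁆ ∈ ⁅A, A⁆ := hWdef ▸ nc_comm_mem_of hLA hYL h1
  have P2 : ∀ w ∈ W, ∀ d ∈ L ⊓ Subgroup.centralizer (A : Set G), ⁅d, w⁆ ∈ R :=
    hWdef ▸ nc_comm_mem_right hLR hLD hYL h2
  have P3 : ∀ x ∈ W, (orderOf x).Coprime p → x ∈ Subgroup.centralizer (A : Set G) := by
    intro x hx hcop
    refine mem_centralizer_of_coprime hAp (hLA (hWL hx)) hcop ?_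
    intro z hz a ha
    have hzW : z ∈ W := (Subgroup.zpowers_le.mpr hx) hz
    exact P1 z hzW a ha
  -- P4
  obtain ⟨P, hP, -⟩ := exists_isSylowIn_ge (p := p) (Q := (⊥ : Subgroup G)) (H := W)
    IsPGroup.of_bot bot_le
  have hRW : R ⊓ W ≤ P := by
    refine hP.normal_le inf_le_right ?_ (hRp.to_le inf_le_left)
    refine le_normalizer_of_conj ?_
    intro k hk a ha
    exact ⟨conj_mem_of_le_normalizer hLR (hWL hk) ha.1,
      W.mul_mem (W.mul_mem hk ha.2) (W.inv_mem hk)⟩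
  have hDW : W ⊓ (L ⊓ Subgroup.centralizer (A : Set G)) ≤ Subgroup.normalizer (P : Set G) := by
    refine le_normalizer_of_conj ?_
    intro d hd w hw
    have hwW : w ∈ W := hP.1 hw
    have h3 : ⁅d, w⁆ ∈ R ⊓ W := by
      refine ⟨P2 w hwW d hd.2, ?_⟩
      rw [commutatorElement_def]
      exact W.mul_mem (W.mul_mem (W.mul_mem hd.1 hwW) (W.inv_mem hd.1)) (W.inv_mem hwW)
    have e : d * w * d⁻¹ = ⁅d, w⁆ * w := by
      rw [commutatorElement_def]; group
    rw [e]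
    exact P.mul_mem (hRW h3) hw
  -- P5
  have hWP : W ≤ Subgroup.normalizer (P : Set G) := by
    have hN : W ⊓ Subgroup.normalizer (P : Set G) = W := by
      refine eq_of_forall_sylow_le inf_le_left ?_
      intro r hr
      by_cases hrp : r = p
      · subst hrp
        exact ⟨P, hP, le_inf hP.1 Subgroup.le_normalizer⟩
      · have : Fact r.Prime := ⟨hr⟩
        obtain ⟨Q, hQ, -⟩ := exists_isSylowIn_ge (p := r) (Q := (⊥ : Subgroup G)) (H := W)
          IsPGroup.of_bot bot_le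
        refine ⟨Q, hQ, le_inf hQ.1 ?_⟩
        intro x hx
        have hxW : x ∈ W := hQ.1 hx
        have hcop : (orderOf x).Coprime p := by
          obtain ⟨k, hk⟩ := hQ.isPGroup ⟨x, hx⟩
          have hk' : x ^ r ^ k = 1 := by
            have := congrArg Subtype.val hk
            simpa using this
          have hdvd : orderOf x ∣ r ^ k := orderOf_dvd_of_pow_eq_one hk'
          have hrp' : Nat.Coprime r p := (Nat.coprime_primes hr hp).mpr hrp
          exact Nat.Coprime.coprime_dvd_left hdvd (Nat.Coprime.pow_left k hrp')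
        exact hDW ⟨hxW, hWL hxW, P3 x hxW hcop⟩
    rw [← hN]
    exact inf_le_right
  -- P6
  have hWleP : W ≤ P := by
    rw [hWdef]
    unfold nc
    rw [Subgroup.closure_le]
    rintro _ ⟨l, hl, y, hy, rfl⟩
    -- the conjugate subgroup
    have hB : IsPGroup p ↥(Y.map (MulAut.conj l).toMonoidHom) := hYp.map _
    have hBW : Y.map (MulAut.conj l).toMonoidHom ≤ W := by
      rintro _ ⟨y', hy', rfl⟩
      rw [hWdef]
      exact Subgroup.subset_closure ⟨l, hl, y', hy', by simp [MulAut.conj_apply]⟩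
    obtain ⟨a, ha, hconj⟩ := hP.exists_conj_le hB hBW
    have h3 := hconj (l * y * l⁻¹) ⟨y, hy, by simp [MulAut.conj_apply]⟩
    have h4 := conj_mem_of_le_normalizer' hWP ha h3
    have e : a⁻¹ * (a * (l * y * l⁻¹) * a⁻¹) * a = l * y * l⁻¹ := by group
    rw [e] at h4
    exact h4
  exact hP.isPGroup.to_le hWleP

end K

end Cfsg.Agent.Lib.Helper7.LargeComm
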