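import Mathlib
import Cfsg.Prelude.Def_LocalStructure
import Cfsg.Agent.Lib.Helper7.Large3
import Cfsg.Agent.Lib.Helper7.LargeCommB

set_option autoImplicit false

namespace Cfsg.Agent.Lib.Helper7.LargeComm

open Cfsg Cfsg.Agent.Lib.Helper7
open scoped Pointwise commutatorElement

variable {G : Type*} [Group G]

theorem exists_maxCharP_ge [Finite G] {p : ℕ} {N : Subgroup G} (hN : N ∈ charPSubgroups p G) :
    ∃ X ∈ maxCharPSubgroups p G, N ≤ X := by
  obtain ⟨X, hNX, hX⟩ := (Set.toFinite (charPSubgroups p G)).exists_le_maximal hN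
  refine ⟨X, ⟨hX.1, ?_⟩, hNX⟩
  intro L hL hXL
  exact le_antisymm (hX.2 hL hXL) hXL

/-- `L` normalizes `C_L(A)` when it normalizes `A`. -/
theorem le_normalizer_inf_centralizer {L A : Subgroup G}
    (hLA : L ≤ Subgroup.normalizer (A : Set G)) :
    L ≤ Subgroup.normalizer ((L ⊓ Subgroup.centralizer (A : Set G) : Subgroup G) : Set G) := by
  refine le_normalizer_of_conj ?_
  intro l hl d hd
  refine ⟨L.mul_mem (L.mul_mem hl hd.1) (L.inv_mem hl), ?_⟩
  show l * d * l⁻¹ ∈ Subgroup.centralizer (A : Set G)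
  rw [Subgroup.mem_centralizer_iff]
  intro a ha
  have ha' : l⁻¹ * a * l ∈ A := conj_mem_of_le_normalizer' hLA hl ha
  have h := (Subgroup.mem_centralizer_iff.mp hd.2) _ ha'
  calc a * (l * d * l⁻¹) = l * (l⁻¹ * a * l * d) * l⁻¹ := by group
    _ = l * (d * (l⁻¹ * a * l)) * l⁻¹ := by rw [h]
    _ = l * d * l⁻¹ * a := by group

theorem frakM_commutator_criterion [Finite G] {p : ℕ} [Fact p.Prime] (S : Sylow p G) (Q : Subgroup G)
    (hQp : IsPGroup p ↥Q) (hQ1 : Q ≠ ⊥) (hQ : Cfsg.IsLarge Q) (M : Subgroup G)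
    (hSM : (S : Subgroup G) ≤ M) (hM : Cfsg.IsInFrakM p M) (I : Subgroup G) (hI1 : I ≠ ⊥)
    (hIp : IsPGroup p ↥I) (hIM : I ≤ M ∧ M ≤ Subgroup.normalizer ((I : Subgroup G) : Set G))
    (Y : Subgroup G)
    (hY : Y ≤ (Cfsg.pCoreOf p (M ⊔ Subgroup.centralizer
      (((Cfsg.largestPReducedOf p M) : Subgroup G) : Set G))))
    (L : Subgroup G) (hYL : Y ≤ L) (A : Subgroup G) (hAp : IsPGroup p ↥A)
    (hAL : A ≤ L ∧ L ≤ Subgroup.normalizer ((A : Subgroup G) : Set G)) (hIA : I ≤ A)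
    (hc : ⁅Y, A⁆ ≤ ⁅I, A⁆) : Y ≤ (Cfsg.pCoreOf p L) := by
  obtain ⟨Md, hMd⟩ : ∃ Md, Md = M ⊔ Subgroup.centralizer
      (((Cfsg.largestPReducedOf p M) : Subgroup G) : Set G) := ⟨_, rfl⟩
  rw [← hMd] at hY
  obtain ⟨N, hNdef⟩ : ∃ N, N = Subgroup.normalizer (I : Set G) := ⟨_, rfl⟩
  have hMN : M ≤ N := hNdef ▸ hIM.2
  have hIN : I ≤ N := hNdef ▸ Subgroup.le_normalizer
  have hpar : IsParabolic p N := ⟨S, hSM.trans hMN⟩
  have hO : pCore p ↥N ≠ ⊥ := by
    have hn : (I.subgroupOf N).Normal :=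
      (Subgroup.normal_subgroupOf_iff_le_normalizer hIN).mpr (hNdef ▸ le_rfl)
    have h1 : I.subgroupOf N ≤ pCore p ↥N := le_pCore hn hIp.comap_subtype
    intro h
    rw [h, le_bot_iff, Subgroup.subgroupOf_eq_bot] at h1
    apply hI1
    rw [eq_bot_iff]
    exact h1.le_bot.trans' (le_inf le_rfl hIN)
  have hchar : Subgroup.centralizer ((pCoreOf p N : Subgroup G) : Set G) ≤ pCoreOf p N :=
    (large_parabolic_characteristic Q hQp hQ1 hQ).2.1 N hpar hO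
  have hNcharP : N ∈ charPSubgroups p G := ⟨hO, hchar⟩
  obtain ⟨X, hX, hNX⟩ := exists_maxCharP_ge hNcharP
  have hXeq : X = Md := hMd ▸ hM.2.2.1 X hX (hMN.trans hNX)
  have hNMd : N ≤ Md := hXeq ▸ hNX
  -- Step 3
  obtain ⟨D, hDdef⟩ : ∃ D, D = L ⊓ Subgroup.centralizer (A : Set G) := ⟨_, rfl⟩
  have hDL : D ≤ L := hDdef ▸ inf_le_left
  have hLD : L ≤ Subgroup.normalizer (D : Set G) := hDdef ▸ le_normalizer_inf_centralizer hAL.2
  have hDMd : D ≤ Md := by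
    rw [hDdef]
    refine inf_le_right.trans ((Subgroup.centralizer_le hIA).trans ?_)
    exact (Subgroup.centralizer_le_normalizer _).trans (hNdef ▸ hNMd)
  have hYp : IsPGroup p ↥Y := (pCoreOf_isPGroup Md).to_le hY
  have h1 : ∀ y ∈ Y, ∀ a ∈ A, ⁅y, a⁆ ∈ ⁅A, A⁆ := by
    intro y hy a ha
    exact Subgroup.commutator_mono hIA le_rfl (hc (Subgroup.commutator_mem_commutator hy ha))
  have hcore : D ⊓ pCoreOf p Md ≤ pCoreOf p L := by
    have h3 : D ⊓ pCoreOf p Md ≤ pCoreOf p D := by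
      refine le_pCoreOf inf_le_left ?_ ((pCoreOf_isPGroup Md).to_le inf_le_right)
      refine le_normalizer_of_conj ?_
      intro d hd x hx
      exact ⟨D.mul_mem (D.mul_mem hd hx.1) (D.inv_mem hd),
        conj_mem_of_le_normalizer (le_normalizer_pCoreOf Md) (hDMd hd) hx.2⟩
    exact h3.trans (pCoreOf_le_pCoreOf_of_normal hDL hLD)
  have h2 : ∀ d ∈ L ⊓ Subgroup.centralizer (A : Set G), ∀ y ∈ Y, ⁅d, y⁆ ∈ pCoreOf p L := by
    rw [← hDdef]
    intro d hd y hy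
    apply hcore
    constructor
    · have h4 : y * d⁻¹ * y⁻¹ ∈ D := conj_mem_of_le_normalizer hLD (hYL hy) (D.inv_mem hd)
      have e : ⁅d, y⁆ = d * (y * d⁻¹ * y⁻¹) := by rw [commutatorElement_def]; group
      rw [e]
      exact D.mul_mem hd h4
    · have h4 : d * y * d⁻¹ ∈ pCoreOf p Md :=
        conj_mem_of_le_normalizer (le_normalizer_pCoreOf Md) (hDMd hd) (hY hy)
      rw [commutatorElement_def]
      exact Subgroup.mul_mem _ h4 (Subgroup.inv_mem _ (hY hy))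
  have hW : IsPGroup p ↥(nc L Y) :=
    nc_isPGroup hAL.2 hAp hYp hYL (le_normalizer_pCoreOf L) (pCoreOf_isPGroup L) h1 h2
  exact (le_nc L Y).trans (le_pCoreOf (nc_le hYL) (le_normalizer_nc L Y) hW)

end Cfsg.Agent.Lib.Helper7.LargeComm
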