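import Mathlib
import Cfsg.Prelude.Def_LocalStructure
import Cfsg.Agent.Lib.Helper7.FrakM2
import Cfsg.Agent.Lib.Helper7.Large3
import Cfsg.Agent.Lib.Helper7.LargeCommC
import Cfsg.Agent.Lib.Helper7.StrEmb6
import Cfsg.Agent.Lib.Helper7.WeaklyClosed2

set_option autoImplicit false

namespace Cfsg.Agent.Lib.Helper7.Asym

open Cfsg Cfsg.Agent.Lib.Helper7 Cfsg.Agent.Lib.Lead.Conj Cfsg.Agent.Lib.Helper7.LargeComm
open scoped Pointwise commutatorElement

variable {G : Type*} [Group G]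

/-- Every element of `M ⊔ N` is a product of a list of elements of `M ∪ N`. -/
theorem exists_list_of_mem_sup {M N : Subgroup G} {k : G} (hk : k ∈ M ⊔ N) :
    ∃ l : List G, (∀ x ∈ l, x ∈ M ∨ x ∈ N) ∧ l.prod = k := by
  rw [Subgroup.sup_eq_closure] at hk
  induction hk using Subgroup.closure_induction with
  | mem x hx => exact ⟨[x], by simpa using hx, by simp⟩
  | one => exact ⟨[], by simp, by simp⟩
  | mul x y _ _ hx hy =>
    obtain ⟨l₁, h₁, rfl⟩ := hx
    obtain ⟨l₂, h₂, rfl⟩ := hy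
    refine ⟨l₁ ++ l₂, ?_, by simp⟩
    intro z hz
    rcases List.mem_append.mp hz with h | h
    · exact h₁ z h
    · exact h₂ z h
  | inv x _ hx =>
    obtain ⟨l, h, rfl⟩ := hx
    refine ⟨(l.map (fun x => x⁻¹)).reverse, ?_, (List.prod_inv_reverse l).symm⟩
    intro z hz
    rw [List.mem_reverse, List.mem_map] at hz
    obtain ⟨w, hw, rfl⟩ := hz
    rcases h w hw with h' | h'
    · exact Or.inl (M.inv_mem h')
    · exact Or.inr (N.inv_mem h')


variable [Finite G] {p : ℕ} [Fact p.Prime]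

/-- The hypotheses used in the asymmetric analysis: `R = O_p(M)`, `Y = Y_M`, `C = C_G(Y)`,
`Md = M C`. -/
structure Ctx (p : ℕ) (M Y C Md R : Subgroup G) : Prop where
  hYR : Y ≤ R
  hRM : R ≤ M
  hRC : R ≤ C
  hC : C = Subgroup.centralizer (Y : Set G)
  hMMd : M ≤ Md
  hMdY : Md ≤ Subgroup.normalizer (Y : Set G)
  hMdC : Md ≤ Subgroup.normalizer (C : Set G)
  hMR : M ≤ Subgroup.normalizer (R : Set G)
  hasym : ¬ IsSymmetricIn Y
  hRsyl : IsSylowIn p R C
  hRp : IsPGroup p ↥R
  hmax : ∀ K P : Subgroup G, M ≤ K → P ≤ K → K ≤ Subgroup.normalizer (P : Set G) →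
    IsPGroup p ↥P → P ≠ ⊥ → K ≤ Md
  hY1 : Y = ⊥ → Md = ⊤

variable {M Y C Md R : Subgroup G}

theorem Ctx.inf_centralizer (h : Ctx p M Y C Md R) {L : Subgroup G} (hLp : IsPGroup p ↥L)
    (hRL : R ≤ L) : L ⊓ C = R :=
  h.hRsyl.eq_of_le (le_inf hRL h.hRC) inf_le_right (hLp.to_le inf_le_left)

omit [Finite G] [Fact p.Prime] in
/-- asymmetry: mutually normalizing conjugates commute -/
theorem Ctx.cj_le_centralizer (h : Ctx p M Y C Md R) {k : G}
    (h1 : cj k Y ≤ Subgroup.normalizer (Y : Set G))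
    (h2 : cj k⁻¹ Y ≤ Subgroup.normalizer (Y : Set G)) : cj k Y ≤ C := by
  have h3 : ⁅Y, cj k Y⁆ ≤ Y := Subgroup.le_normalizer_iff_commutator_le_left.mp h1
  have h4 : Y ≤ Subgroup.normalizer ((cj k Y : Subgroup G) : Set G) := by
    rw [normalizer_cj]
    have := cj_mono k h2
    rwa [cj_cj_inv] at this
  have h5 : ⁅Y, cj k Y⁆ ≤ cj k Y := by
    rw [Subgroup.commutator_comm]
    exact Subgroup.le_normalizer_iff_commutator_le_left.mp h4
  have h6 : ⁅Y, cj k Y⁆ = ⊥ := by
    by_contra hne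
    exact h.hasym ⟨k, hne, le_inf h3 h5⟩
  rw [Subgroup.commutator_comm, Subgroup.commutator_eq_bot_iff_le_centralizer] at h6
  rw [h.hC]
  exact h6

theorem Ctx.word (h : Ctx p M Y C Md R) {L : Subgroup G} (hLp : IsPGroup p ↥L)
    (hRL : R ≤ L) (hLMd : L ≤ Md) :
    ∀ n : ℕ, ∀ l : List G, l.length = n →
      (∀ x ∈ l, x ∈ M ∨ x ∈ Subgroup.normalizer (L : Set G)) → cj l.prod Y ≤ R := by
  have hLY : L ≤ Subgroup.normalizer (Y : Set G) := hLMd.trans h.hMdY
  intro n
  induction n with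
  | zero =>
    intro l hl _
    have : l = [] := List.length_eq_zero_iff.mp hl
    subst this
    rw [List.prod_nil, cj_one]
    exact h.hYR
  | succ n ih =>
    intro l hl hmem
    rcases List.eq_nil_or_concat l with h0 | ⟨l'', b, hb⟩
    · subst h0; simp at hl
    rw [List.concat_eq_append] at hb
    subst hb
    have hl'' : l''.length = n := by simpa using hl
    have hb : b ∈ M ∨ b ∈ Subgroup.normalizer (L : Set G) := hmem b (by simp)
    have hmem'' : ∀ x ∈ l'', x ∈ M ∨ x ∈ Subgroup.normalizer (L : Set G) :=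
      fun x hx => hmem x (by simp [hx])
    rw [List.prod_append, List.prod_singleton]
    rcases hb with hbM | hbN
    · rw [← cj_mul, cj_eq_of_mem_normalizer (h.hMdY (h.hMMd hbM))]
      exact ih l'' hl'' hmem''
    · -- (2) : cj k⁻¹ Y ≤ L
      have hk2 : cj (l''.prod * b)⁻¹ Y ≤ L := by
        rw [mul_inv_rev, ← cj_mul, List.prod_inv_reverse]
        have h1 : cj ((l''.map (fun x => x⁻¹)).reverse).prod Y ≤ R := by
          apply ih
          · simp [hl'']
          · intro z hz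
            rw [List.mem_reverse, List.mem_map] at hz
            obtain ⟨w, hw, rfl⟩ := hz
            rcases hmem'' w hw with h' | h'
            · exact Or.inl (M.inv_mem h')
            · exact Or.inr (Subgroup.inv_mem _ h')
        have h2 := cj_mono b⁻¹ (h1.trans hRL)
        rwa [cj_eq_of_mem_normalizer (Subgroup.inv_mem _ hbN)] at h2
      -- (1) : cj k Y ≤ L, or directly ≤ R
      have hk1 : cj (l''.prod * b) Y ≤ R ∨ cj (l''.prod * b) Y ≤ L := by
        cases l'' with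
        | nil =>
          right
          rw [List.prod_nil, one_mul]
          have h2 := cj_mono b (h.hYR.trans hRL)
          rwa [cj_eq_of_mem_normalizer hbN] at h2
        | cons a l' =>
          have hl' : (l' ++ [b]).length = n := by
            simp at hl'' ⊢; exact hl''
          have h1 : cj (l' ++ [b]).prod Y ≤ R := by
            apply ih _ hl'
            intro z hz
            exact hmem z (by simp at hz ⊢; tauto)
          rw [List.prod_append, List.prod_singleton] at h1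
          rw [List.prod_cons, mul_assoc, ← cj_mul]
          rcases hmem a (by simp) with haM | haN
          · left
            have h2 := cj_mono a h1
            rwa [cj_eq_of_mem_normalizer (h.hMR haM)] at h2
          · right
            have h2 := cj_mono a (h1.trans hRL)
            rwa [cj_eq_of_mem_normalizer haN] at h2
      rcases hk1 with hk1 | hk1
      · exact hk1
      · have h3 := h.cj_le_centralizer (hk1.trans hLY) (hk2.trans hLY)
        rw [← h.inf_centralizer hLp hRL]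
        exact le_inf hk1 h3


/-- `N_G(L) ≤ M†` for a `p`-subgroup `L` of `M†` containing `O_p(M)`. -/
theorem Ctx.normalizer_le_of_le (h : Ctx p M Y C Md R) {L : Subgroup G} (hLp : IsPGroup p ↥L)
    (hRL : R ≤ L) (hLMd : L ≤ Md) : Subgroup.normalizer (L : Set G) ≤ Md := by
  by_cases hY1 : Y = ⊥
  · rw [h.hY1 hY1]; exact le_top
  obtain ⟨K, hKdef⟩ : ∃ K, K = M ⊔ Subgroup.normalizer (L : Set G) := ⟨_, rfl⟩
  have hMK : M ≤ K := hKdef ▸ le_sup_left
  have hNK : Subgroup.normalizer (L : Set G) ≤ K := hKdef ▸ le_sup_right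
  have hYK : Y ≤ K := (h.hYR.trans h.hRM).trans hMK
  have hall : ∀ k ∈ K, cj k Y ≤ R := by
    intro k hk
    rw [hKdef] at hk
    obtain ⟨l, hl, rfl⟩ := exists_list_of_mem_sup hk
    exact h.word hLp hRL hLMd l.length l rfl hl
  have hncR : nc K Y ≤ R := by
    unfold nc
    rw [Subgroup.closure_le]
    rintro _ ⟨k, hk, y, hy, rfl⟩
    exact hall k hk (conj_mem_map_conj Y k hy)
  have hnc1 : nc K Y ≠ ⊥ := by
    intro h0
    apply hY1
    rw [eq_bot_iff, ← h0]
    exact le_nc K Y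
  exact hNK.trans (h.hmax K (nc K Y) hMK (nc_le hYK) (le_normalizer_nc K Y) (h.hRp.to_le hncR) hnc1)

/-- every `p`-subgroup containing `O_p(M)` lies in `M†` -/
theorem Ctx.le_of_isPGroup (h : Ctx p M Y C Md R) {L : Subgroup G} (hLp : IsPGroup p ↥L)
    (hRL : R ≤ L) : L ≤ Md := by
  by_contra hne
  have hne' : L ⊓ Md ≠ L := fun h0 => hne (h0 ▸ inf_le_right)
  obtain ⟨x, hxL, hxn, hx⟩ := exists_mem_normalizer_not_mem hLp (inf_le_left : L ⊓ Md ≤ L) hne'
  have hxN : x ∈ Subgroup.normalizer ((L ⊓ Md : Subgroup G) : Set G) := mem_normalizer_of_cj_eq hx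
  have := h.normalizer_le_of_le (hLp.to_le inf_le_left) (le_inf hRL (h.hRM.trans h.hMMd))
    inf_le_right hxN
  exact hxn ⟨hxL, this⟩

theorem Ctx.normalizer_le (h : Ctx p M Y C Md R) {L : Subgroup G} (hLp : IsPGroup p ↥L)
    (hRL : R ≤ L) : Subgroup.normalizer (L : Set G) ≤ Subgroup.normalizer (R : Set G) ∧
      Subgroup.normalizer (R : Set G) ≤ Md := by
  refine ⟨?_, h.normalizer_le_of_le h.hRp le_rfl (h.hRM.trans h.hMMd)⟩
  intro g hg
  have hgMd : g ∈ Md := h.normalizer_le_of_le hLp hRL (h.le_of_isPGroup hLp hRL) hg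
  apply mem_normalizer_of_cj_le
  have h1 : cj g R ≤ L := by
    have := cj_mono g hRL
    rwa [cj_eq_of_mem_normalizer hg] at this
  have h2 : cj g R ≤ C := by
    have := cj_mono g h.hRC
    rwa [cj_eq_of_mem_normalizer (h.hMdC hgMd)] at this
  exact (le_inf h1 h2).trans (h.inf_centralizer hLp hRL).le

theorem Ctx.weaklyClosed (h : Ctx p M Y C Md R) : IsWeaklyClosedSubgroup p R :=
  isWeaklyClosedSubgroup_of_normalizer_le h.hRp fun _ hLp hRL => (h.normalizer_le hLp hRL).1

theorem Ctx.parabolic (h : Ctx p M Y C Md R) {L : Subgroup G} (hRL : R ≤ L) :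
    IsParabolic p ((L ⊓ Md).subgroupOf L) := by
  obtain ⟨T, hT⟩ := (h.hRp.comap_subtype (K := L)).exists_le_sylow
  refine ⟨T, ?_⟩
  have hT'p : IsPGroup p ↥((T : Subgroup ↥L).map L.subtype) := T.isPGroup'.map _
  have hRT' : R ≤ (T : Subgroup ↥L).map L.subtype := by
    intro x hx
    exact ⟨⟨x, hRL hx⟩, hT (Subgroup.mem_subgroupOf.mpr hx), rfl⟩
  have hT'Md := h.le_of_isPGroup hT'p hRT'
  intro t ht
  rw [Subgroup.mem_subgroupOf]
  exact ⟨t.2, hT'Md ⟨t, ht, rfl⟩⟩

theorem Ctx.fusion (h : Ctx p M Y C Md R) (hMC : M ≤ Subgroup.normalizer (C : Set G))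
    (hMd : Md = M ⊔ C) {x : G} (hx : x ∈ Y) {g : G} (hg : g * x * g⁻¹ ∈ Y) :
    ∃ m ∈ M, m * x * m⁻¹ = g * x * g⁻¹ := by
  obtain ⟨K, hKdef⟩ : ∃ K, K = Subgroup.centralizer ({g * x * g⁻¹} : Set G) := ⟨_, rfl⟩
  have hCK : C ≤ K := by
    rw [hKdef, h.hC]
    exact Subgroup.centralizer_le (Set.singleton_subset_iff.mpr hg)
  have hRK : R ≤ K := h.hRC.trans hCK
  have hgK : cj g R ≤ K := by
    rintro _ ⟨r, hr, rfl⟩
    rw [hKdef, Subgroup.mem_centralizer_iff]
    intro z hz
    rw [Set.mem_singleton_iff] at hz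
    subst hz
    have hrx : x * r = r * x := by
      have := h.hRC hr
      rw [h.hC, Subgroup.mem_centralizer_iff] at this
      exact this x hx
    show g * x * g⁻¹ * (g * r * g⁻¹) = g * r * g⁻¹ * (g * x * g⁻¹)
    calc g * x * g⁻¹ * (g * r * g⁻¹) = g * (x * r) * g⁻¹ := by group
      _ = g * (r * x) * g⁻¹ := by rw [hrx]
      _ = g * r * g⁻¹ * (g * x * g⁻¹) := by group
  obtain ⟨k, hkK, hk⟩ := IsWeaklyClosedSubgroup.exists_conj_of_le h.hRp h.weaklyClosed hRK g hgK
  have hn : k⁻¹ * g ∈ Subgroup.normalizer (R : Set G) := by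
    apply mem_normalizer_of_cj_eq
    rw [← cj_mul, hk, cj_inv_cj]
  have hnMd : k⁻¹ * g ∈ Md := (h.normalizer_le h.hRp le_rfl).2 hn
  have hset : ((M ⊔ C : Subgroup G) : Set G) = (M : Set G) * (C : Set G) :=
    Subgroup.coe_mul_of_left_le_normalizer_right M C hMC
  have hmem : k⁻¹ * g ∈ (M : Set G) * (C : Set G) := by
    rw [← hset, ← hMd]; exact hnMd
  obtain ⟨m, hm, c, hc, hmc⟩ := Set.mem_mul.mp hmem
  refine ⟨m, hm, ?_⟩
  have hcx : c * x * c⁻¹ = x := by
    have hc' : c ∈ C := hc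
    rw [h.hC, Subgroup.mem_centralizer_iff] at hc'
    rw [← hc' x hx]; group
  have hkx : k⁻¹ * (g * x * g⁻¹) * k = g * x * g⁻¹ := by
    rw [hKdef, Subgroup.mem_centralizer_iff] at hkK
    have := hkK _ (Set.mem_singleton _)
    calc k⁻¹ * (g * x * g⁻¹) * k = k⁻¹ * ((g * x * g⁻¹) * k) := by group
      _ = k⁻¹ * (k * (g * x * g⁻¹)) := by rw [this]
      _ = g * x * g⁻¹ := by group
  calc m * x * m⁻¹ = m * (c * x * c⁻¹) * m⁻¹ := by rw [hcx]
    _ = (m * c) * x * (m * c)⁻¹ := by group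
    _ = (k⁻¹ * g) * x * (k⁻¹ * g)⁻¹ := by rw [hmc]
    _ = k⁻¹ * (g * x * g⁻¹) * k := by group
    _ = g * x * g⁻¹ := hkx


/-- Any subgroup containing `M` and normalizing a nontrivial `p`-subgroup lies in `M†`. -/
theorem frakM_le_of_normalizes (S : Sylow p G) (Q : Subgroup G)
    (hQp : IsPGroup p ↥Q) (hQ1 : Q ≠ ⊥) (hQ : IsLarge Q) (M : Subgroup G)
    (hSM : (S : Subgroup G) ≤ M) (hM : IsInFrakM p M) (K P : Subgroup G) (hMK : M ≤ K)
    (hPK : P ≤ K) (hKP : K ≤ Subgroup.normalizer (P : Set G)) (hPp : IsPGroup p ↥P) (hP1 : P ≠ ⊥) :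
    K ≤ M ⊔ Subgroup.centralizer (((largestPReducedOf p M) : Subgroup G) : Set G) := by
  have hpar : IsParabolic p K := ⟨S, hSM.trans hMK⟩
  have hO : pCore p ↥K ≠ ⊥ := by
    have hn : (P.subgroupOf K).Normal :=
      (Subgroup.normal_subgroupOf_iff_le_normalizer hPK).mpr hKP
    have h1 : P.subgroupOf K ≤ pCore p ↥K := le_pCore hn hPp.comap_subtype
    intro h
    rw [h, le_bot_iff, Subgroup.subgroupOf_eq_bot] at h1
    apply hP1
    rw [eq_bot_iff]
    exact h1.le_bot.trans' (le_inf le_rfl hPK)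
  have hchar : Subgroup.centralizer ((pCoreOf p K : Subgroup G) : Set G) ≤ pCoreOf p K :=
    (large_parabolic_characteristic Q hQp hQ1 hQ).2.1 K hpar hO
  have hKcharP : K ∈ charPSubgroups p G := ⟨hO, hchar⟩
  obtain ⟨X, hX, hKX⟩ := exists_maxCharP_ge hKcharP
  have hXeq := hM.2.2.1 X hX (hMK.trans hKX)
  exact hXeq ▸ hKX

theorem ctx_of_frakM (S : Sylow p G) (Q : Subgroup G)
    (hQp : IsPGroup p ↥Q) (hQ1 : Q ≠ ⊥) (hQ : IsLarge Q) (M : Subgroup G)
    (hSM : (S : Subgroup G) ≤ M) (hM : IsInFrakM p M)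
    (hasym : ¬ IsSymmetricIn (largestPReducedOf p M)) :
    Ctx p M (largestPReducedOf p M)
      (Subgroup.centralizer (((largestPReducedOf p M) : Subgroup G) : Set G))
      (M ⊔ Subgroup.centralizer (((largestPReducedOf p M) : Subgroup G) : Set G))
      (pCoreOf p M) := by
  have hchar := charP_internal_of_mem_charPSubgroups hM.1
  have hReq := frakM_pCore_eq S M hSM hM
  obtain ⟨-, -, -, -, -, hYO⟩ := largest_pReduced_sylow_props S M hSM hchar _ rfl
  have hMdY := sup_centralizer_le_normalizer_largestPReducedOf M hchar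
  have hMdC := hMdY.trans (normalizer_le_normalizer_centralizer'' (largestPReducedOf p M))
  have hRC : pCoreOf p M ≤
      Subgroup.centralizer (((largestPReducedOf p M) : Subgroup G) : Set G) := by
    rw [hReq]; exact inf_le_right
  refine
    { hYR := ?_
      hRM := pCoreOf_le M
      hRC := hRC
      hC := rfl
      hMMd := le_sup_left
      hMdY := hMdY
      hMdC := hMdC
      hMR := le_normalizer_pCoreOf M
      hasym := hasym
      hRsyl := ?_
      hRp := pCoreOf_isPGroup M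
      hmax := fun K P hMK hPK hKP hPp hP1 =>
        frakM_le_of_normalizes S Q hQp hQ1 hQ M hSM hM K P hMK hPK hKP hPp hP1
      hY1 := ?_ }
  · refine hYO.trans ?_
    unfold omegaOne
    rw [Subgroup.closure_le]
    intro x hx
    exact hx.1.1
  · rw [hReq]
    exact (IsSylowIn.of_sylow_le S (hSM.trans le_sup_left)).inf_normal _ le_sup_right hMdC
  · intro h0
    rw [h0, eq_top_iff]
    refine le_trans ?_ le_sup_right
    intro x _
    rw [Subgroup.mem_centralizer_iff]
    intro y hy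
    have : y = 1 := by simpa using hy
    subst this
    simp

theorem asymmetric_main (S : Sylow p G) (Q : Subgroup G) (hQp : IsPGroup p ↥Q) (hQ1 : Q ≠ ⊥)
    (hQ : Cfsg.IsLarge Q) (M : Subgroup G)
    (hSM : (S : Subgroup G) ≤ M) (hM : Cfsg.IsInFrakM p M)
    (hasym : ¬ Cfsg.IsSymmetricIn (Cfsg.largestPReducedOf p M)) :
    (∀ L : Subgroup G, IsPGroup p ↥L → (Cfsg.pCoreOf p M) ≤ L →
      Subgroup.normalizer ((L : Subgroup G) : Set G) ≤
        Subgroup.normalizer (((Cfsg.pCoreOf p M) : Subgroup G) : Set G) ∧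
      Subgroup.normalizer (((Cfsg.pCoreOf p M) : Subgroup G) : Set G) ≤
        (M ⊔ Subgroup.centralizer (((Cfsg.largestPReducedOf p M) : Subgroup G) : Set G))) ∧
    Cfsg.IsWeaklyClosedSubgroup p (Cfsg.pCoreOf p M) ∧
    (∀ L : Subgroup G, (Cfsg.pCoreOf p M) ≤ L → Cfsg.IsParabolic p
      ((L ⊓ (M ⊔ Subgroup.centralizer
        (((Cfsg.largestPReducedOf p M) : Subgroup G) : Set G))).subgroupOf L)) ∧
    (∀ x ∈ (Cfsg.largestPReducedOf p M), ∀ g : G, g * x * g⁻¹ ∈ (Cfsg.largestPReducedOf p M) →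
      ∃ m ∈ M, m * x * m⁻¹ = g * x * g⁻¹) := by
  have h := ctx_of_frakM S Q hQp hQ1 hQ M hSM hM hasym
  have hchar := charP_internal_of_mem_charPSubgroups hM.1
  have hMC : M ≤ Subgroup.normalizer
      ((Subgroup.centralizer (((largestPReducedOf p M) : Subgroup G) : Set G) : Subgroup G) :
        Set G) :=
    (le_normalizer_largestPReducedOf M hchar).trans
      (normalizer_le_normalizer_centralizer'' (largestPReducedOf p M))
  exact ⟨fun L hLp hRL => h.normalizer_le hLp hRL, h.weaklyClosed,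
    fun L hRL => h.parabolic hRL, fun x hx g hg => h.fusion hMC rfl hx hg⟩

end Cfsg.Agent.Lib.Helper7.Asym
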