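import Mathlib
import Cfsg.Agent.Lib.Lead.Conj

set_option autoImplicit false

namespace Cfsg.Agent.Lib.Helper7

open Cfsg.Agent.Lib.Lead.Conj
open scoped commutatorElement

variable {G : Type*} [Group G] [Finite G]

/-- The elements `l` with `⁅V, l⁆ ⊆ N`, for `N ≤ V`, form a subgroup (finite group). -/
def commInto (V N : Subgroup G) (hNV : N ≤ V) : Subgroup G where
  carrier := {l | ∀ v ∈ V, ⁅v, l⁆ ∈ N}
  one_mem' := by
    intro v _
    rw [commutatorElement_one_right]; exact N.one_mem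
  mul_mem' := by
    intro l l' hl hl' v hv
    rw [commutatorElement_mul_right_eq_mul_conj]
    have h1 : ⁅v, l⁆ ∈ N := hl v hv
    have h2 : ⁅v, l'⁆ ∈ N := hl' v hv
    -- l n l⁻¹ = ⁅l, n⁆ n
    have h3 : l * ⁅v, l'⁆ * l⁻¹ ∈ N := by
      have e : l * ⁅v, l'⁆ * l⁻¹ = (⁅⁅v, l'⁆, l⁆)⁻¹ * ⁅v, l'⁆ := by
        simp only [commutatorElement_def]; group
      rw [e]
      exact N.mul_mem (N.inv_mem (hl _ (hNV h2))) h2
    have e : ⁅v, l⁆ * l * ⁅v, l'⁆ * l⁻¹ = ⁅v, l⁆ * (l * ⁅v, l'⁆ * l⁻¹) := by group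
    rw [e]
    exact N.mul_mem h1 h3
  inv_mem' := by
    intro l hl v hv
    -- conj by l maps N into N, hence onto
    have hconj : N.map (MulAut.conj l).toMonoidHom ≤ N := by
      rintro _ ⟨n, hn, rfl⟩
      have e : (MulAut.conj l).toMonoidHom n = (⁅n, l⁆)⁻¹ * n := by
        simp only [commutatorElement_def, MulEquiv.coe_toMonoidHom, MulAut.conj_apply]; group
      rw [e]
      exact N.mul_mem (N.inv_mem (hl _ (hNV hn))) hn
    have heq := map_conj_eq_of_le N l hconj
    rw [commutatorElement_inv_right]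
    have h1 : ⁅l, v⁆ ∈ N := by
      rw [← commutatorElement_inv]; exact N.inv_mem (hl v hv)
    rw [← heq] at h1
    rw [mem_map_conj] at h1
    exact h1

theorem mem_commInto {V N : Subgroup G} (hNV : N ≤ V) (l : G) :
    l ∈ commInto V N hNV ↔ ∀ v ∈ V, ⁅v, l⁆ ∈ N := Iff.rfl

/-- `[V, A ⊔ B] = [V, A] ⊔ [V, B]` when `A`, `B` normalize `V`. -/
theorem commutator_sup_right (V A B : Subgroup G) (hA : A ≤ Subgroup.normalizer (V : Set G))
    (hB : B ≤ Subgroup.normalizer (V : Set G)) : ⁅V, A ⊔ B⁆ = ⁅V, A⁆ ⊔ ⁅V, B⁆ := by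
  have hAV : ⁅V, A⁆ ≤ V := Subgroup.le_normalizer_iff_commutator_le_left.mp hA
  have hBV : ⁅V, B⁆ ≤ V := Subgroup.le_normalizer_iff_commutator_le_left.mp hB
  apply le_antisymm
  · rw [Subgroup.commutator_le]
    have hle : A ⊔ B ≤ commInto V (⁅V, A⁆ ⊔ ⁅V, B⁆) (sup_le hAV hBV) := by
      apply sup_le
      · intro a ha v hv
        exact (le_sup_left : ⁅V, A⁆ ≤ _) (Subgroup.commutator_mem_commutator hv ha)
      · intro b hb v hv
        exact (le_sup_right : ⁅V, B⁆ ≤ _) (Subgroup.commutator_mem_commutator hv hb)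
    intro v hv l hl
    exact hle hl v hv
  · exact sup_le (Subgroup.commutator_mono le_rfl le_sup_left) (Subgroup.commutator_mono le_rfl le_sup_right)

theorem quadratic_pair_generation (V L : Subgroup G) (hLV : L ≤ Subgroup.normalizer (V : Set G))
    (X : Subgroup G) (hX : X ≤ L) (g : G) (hg : g ∈ L) (hq : ⁅⁅V, X⁆, X⁆ = ⊥)
    (hgen : X ⊔ X.map (MulAut.conj g).toMonoidHom = L) (W : Subgroup G) (hW : W = ⁅V, L⁆) :
    ⁅V, X⁆ ⊔ ⁅V, X.map (MulAut.conj g).toMonoidHom⁆ = W ∧
    W ⊓ Subgroup.centralizer (X : Set G) = ⁅V, X⁆ ∧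
    W ⊓ Subgroup.centralizer (L : Set G) = ⁅V, X⁆ ⊓ ⁅V, X.map (MulAut.conj g).toMonoidHom⁆ := by
  have hXg : X.map (MulAut.conj g).toMonoidHom ≤ L := by rw [← hgen]; exact le_sup_right
  -- V^g = V
  have hVg : V.map (MulAut.conj g).toMonoidHom = V := by
    apply map_conj_eq_of_le
    rintro _ ⟨v, hv, rfl⟩
    exact (Subgroup.mem_normalizer_iff.mp (hLV hg) v).mp hv
  have hmap : (⁅V, X⁆).map (MulAut.conj g).toMonoidHom = ⁅V, X.map (MulAut.conj g).toMonoidHom⁆ := by
    rw [Subgroup.map_commutator, hVg]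
  have hq' : ⁅⁅V, X.map (MulAut.conj g).toMonoidHom⁆, X.map (MulAut.conj g).toMonoidHom⁆ = ⊥ := by
    rw [← hmap, ← Subgroup.map_commutator, hq, Subgroup.map_bot]
  have h1 : ⁅V, X⁆ ⊔ ⁅V, X.map (MulAut.conj g).toMonoidHom⁆ = W := by
    rw [hW, ← hgen, commutator_sup_right V _ _ (hX.trans hLV) (hXg.trans hLV)]
  have hcX : ⁅V, X⁆ ≤ Subgroup.centralizer (X : Set G) :=
    Subgroup.commutator_eq_bot_iff_le_centralizer.mp hq
  have hcXg : ⁅V, X.map (MulAut.conj g).toMonoidHom⁆ ≤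
      Subgroup.centralizer ((X.map (MulAut.conj g).toMonoidHom : Subgroup G) : Set G) :=
    Subgroup.commutator_eq_bot_iff_le_centralizer.mp hq'
  -- an element centralizing X and X^g centralizes L
  have hcL : ∀ z : G, z ∈ Subgroup.centralizer (X : Set G) →
      z ∈ Subgroup.centralizer ((X.map (MulAut.conj g).toMonoidHom : Subgroup G) : Set G) →
      z ∈ Subgroup.centralizer (L : Set G) := by
    intro z h1 h2
    have hle : L ≤ Subgroup.centralizer ({z} : Set G) := by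
      rw [← hgen]
      apply sup_le
      · intro x hx
        rw [Subgroup.mem_centralizer_singleton_iff]
        exact (Subgroup.mem_centralizer_iff.mp h1 x hx)
      · intro x hx
        rw [Subgroup.mem_centralizer_singleton_iff]
        exact (Subgroup.mem_centralizer_iff.mp h2 x hx)
    rw [Subgroup.mem_centralizer_iff]
    intro l hl
    have := hle hl
    rw [Subgroup.mem_centralizer_singleton_iff] at this
    exact this
  -- an element of [V, X^g] centralizing L lies in [V, X]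
  have hback : ∀ b : G, b ∈ ⁅V, X.map (MulAut.conj g).toMonoidHom⁆ →
      b ∈ Subgroup.centralizer (L : Set G) → b ∈ ⁅V, X⁆ := by
    intro b hb hbL
    rw [← hmap] at hb
    obtain ⟨a, ha, rfl⟩ := hb
    have hcomm := Subgroup.mem_centralizer_iff.mp hbL g hg
    have : (MulAut.conj g).toMonoidHom a = a := by
      simp only [MulEquiv.coe_toMonoidHom, MulAut.conj_apply] at hcomm ⊢
      have e : g * (g * a * g⁻¹) = (g * a * g⁻¹) * g := hcomm
      calc g * a * g⁻¹ = g⁻¹ * (g * (g * a * g⁻¹)) := by group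
        _ = g⁻¹ * ((g * a * g⁻¹) * g) := by rw [e]
        _ = a := by group
    rw [this]; exact ha
  have h2 : W ⊓ Subgroup.centralizer (X : Set G) = ⁅V, X⁆ := by
    apply le_antisymm
    · intro w hw
      obtain ⟨hwW, hwX⟩ := hw
      rw [← h1] at hwW
      have hnorm : ⁅V, X⁆ ≤ Subgroup.normalizer
          ((⁅V, X.map (MulAut.conj g).toMonoidHom⁆ : Subgroup G) : Set G) :=
        (Subgroup.le_normalizer_iff_commutator_le_left.mp (hX.trans hLV)).trans
          (Subgroup.normalizer_commutator_ge_left V _)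
      have hw' : w ∈ ((⁅V, X⁆ ⊔ ⁅V, X.map (MulAut.conj g).toMonoidHom⁆ : Subgroup G) : Set G) := hwW
      rw [Subgroup.coe_mul_of_left_le_normalizer_right _ _ hnorm] at hw'
      obtain ⟨a, ha, b, hb, rfl⟩ := Set.mem_mul.mp hw'
      have hbX : b ∈ Subgroup.centralizer (X : Set G) := by
        have : b = a⁻¹ * (a * b) := by group
        rw [this]
        exact Subgroup.mul_mem _ (Subgroup.inv_mem _ (hcX ha)) hwX
      have hbL := hcL b hbX (hcXg hb)
      exact Subgroup.mul_mem _ ha (hback b hb hbL)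
    · apply le_inf _ hcX
      rw [hW]
      exact Subgroup.commutator_mono le_rfl hX
  refine ⟨h1, h2, ?_⟩
  apply le_antisymm
  · intro w hw
    obtain ⟨hwW, hwL⟩ := hw
    have hwX : w ∈ Subgroup.centralizer (X : Set G) :=
      Subgroup.centralizer_le (show (X : Set G) ⊆ L from hX) hwL
    have hwa : w ∈ ⁅V, X⁆ := by
      rw [← h2]; exact ⟨hwW, hwX⟩
    refine ⟨hwa, ?_⟩
    rw [← hmap]
    refine ⟨w, hwa, ?_⟩
    have hcomm := Subgroup.mem_centralizer_iff.mp hwL g hg
    simp only [MulEquiv.coe_toMonoidHom, MulAut.conj_apply]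
    rw [hcomm]; group
  · intro z hz
    obtain ⟨hz1, hz2⟩ := hz
    refine ⟨?_, hcL z (hcX hz1) (hcXg hz2)⟩
    rw [← h1]
    exact (le_sup_left : ⁅V, X⁆ ≤ _) hz1

end Cfsg.Agent.Lib.Helper7
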