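import Mathlib
import Cfsg.Prelude.Def_LocalStructure
import Cfsg.Agent.Lib.Lead.Conj
import Cfsg.Agent.Lib.Helper7.Large3
import Cfsg.Agent.Lib.Helper7.PQLemma
import Cfsg.Agent.Lib.Helper7.QuadraticPair

set_option autoImplicit false

namespace Cfsg.Agent.Lib.Helper7

open Cfsg Cfsg.Agent.Lib.Lead.Conj
open scoped Pointwise commutatorElement

variable {G : Type*} [Group G] [Finite G] {p : ℕ} [Fact p.Prime]

omit [Finite G] in
/-- `R ⊴ K ⊴ L`, `R` a `p`-group: `R ≤ O_p(L)`. -/
theorem le_pCoreOf_of_normal_in_normal {L K R : Subgroup G} (hRK : R ≤ K) (hKL : K ≤ L)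
    (hLK : L ≤ Subgroup.normalizer (K : Set G)) (hKR : K ≤ Subgroup.normalizer (R : Set G))
    (hR : IsPGroup p ↥R) : R ≤ pCoreOf p L := by
  have hDn : (K.subgroupOf L).Normal := (Subgroup.normal_subgroupOf_iff_le_normalizer hKL).mpr hLK
  have hPD : R.subgroupOf L ≤ K.subgroupOf L := Subgroup.subgroupOf_mono _ hRK
  have hnorm : K.subgroupOf L ≤ Subgroup.normalizer ((R.subgroupOf L : Subgroup ↥L) : Set ↥L) := by
    intro d hd
    have h1 : (d : G) ∈ Subgroup.normalizer (R : Set G) := hKR (Subgroup.mem_subgroupOf.mp hd)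
    rw [Subgroup.mem_normalizer_iff] at h1 ⊢
    intro x
    rw [Subgroup.mem_subgroupOf, Subgroup.mem_subgroupOf]
    exact h1 (x : G)
  have h3 := le_pCore_of_normal_in_normal (p := p) (G := ↥L) hPD hnorm hR.comap_subtype
  have h4 := Subgroup.map_mono (f := L.subtype) h3
  rw [Subgroup.map_subgroupOf_eq_of_le (hRK.trans hKL)] at h4
  exact h4

/-- Characteristic `p` for overgroups of a self-centralizing normal subgroup of a Sylow `p`-subgroup. -/
theorem charP_of_overgroup_of_self_centralizing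
    (hG : Subgroup.centralizer (pCore p G : Set G) ≤ pCore p G) (T : Sylow p G) (Q : Subgroup G)
    (hQT : Q ≤ (T : Subgroup G)) (hQn : (T : Subgroup G) ≤ Subgroup.normalizer (Q : Set G))
    (hC : (T : Subgroup G) ⊓ Subgroup.centralizer (Q : Set G) ≤ Q) (L : Subgroup G) (hQL : Q ≤ L) :
    Subgroup.centralizer (pCore p ↥L : Set ↥L) ≤ pCore p ↥L := by
  have hQp : IsPGroup p ↥Q := T.isPGroup'.to_le hQT
  have hDp : IsPGroup p ↥(pCore p G) := pCore_isPGroup p G
  haveI hDn : (pCore p G).Normal := pCore_normal p G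
  have hDT : pCore p G ≤ (T : Subgroup G) := pCore_le_sylow T
  have hXp : IsPGroup p ↥(pCoreOf p L) := pCoreOf_isPGroup L
  have hLX := le_normalizer_pCoreOf (p := p) L
  -- (1) E = [D, Q] ≤ X
  have hED : ⁅pCore p G, Q⁆ ≤ pCore p G := Subgroup.commutator_le_left _ _
  have hEQ : ⁅pCore p G, Q⁆ ≤ Q :=
    Subgroup.le_normalizer_iff_commutator_le_right.mp (hDT.trans hQn)
  have hDLX : pCore p G ⊓ L ≤ pCoreOf p L := by
    apply le_pCoreOf inf_le_right _ hDp.to_inf_left
    intro l hl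
    have h1 : l ∈ Subgroup.normalizer ((pCore p G : Subgroup G) : Set G) := by
      rw [Subgroup.normalizer_eq_top_iff.mpr hDn]; trivial
    have h2 : l ∈ Subgroup.normalizer (L : Set G) := Subgroup.le_normalizer hl
    rw [Subgroup.mem_normalizer_iff] at h1 h2 ⊢
    intro x
    rw [Subgroup.mem_inf, Subgroup.mem_inf, ← h1 x, ← h2 x]
  have hEX : ⁅pCore p G, Q⁆ ≤ pCoreOf p L := (le_inf hED (hEQ.trans hQL)).trans hDLX
  -- K = C_L(X)
  set K : Subgroup G := L ⊓ Subgroup.centralizer ((pCoreOf p L : Subgroup G) : Set G) with hK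
  have hKL : K ≤ L := inf_le_left
  have hKE : K ≤ Subgroup.centralizer ((⁅pCore p G, Q⁆ : Subgroup G) : Set G) :=
    inf_le_right.trans (Subgroup.centralizer_le hEX)
  have hLK : L ≤ Subgroup.normalizer (K : Set G) := by
    intro l hl
    have h1 : l ∈ Subgroup.normalizer (L : Set G) := Subgroup.le_normalizer hl
    have h2 := (hLX.trans (normalizer_le_normalizer_centralizer' _)) hl
    rw [Subgroup.mem_normalizer_iff] at h1 h2 ⊢
    intro x
    rw [hK, Subgroup.mem_inf, Subgroup.mem_inf, ← h1 x, ← h2 x]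
  -- (2),(3) the stabilizer of the series 1 ≤ E ≤ D is a p-group
  have hStab : IsPGroup p ↥(Subgroup.centralizer ((⁅pCore p G, Q⁆ : Subgroup G) : Set G) ⊓
      commInto (pCore p G) ⁅pCore p G, Q⁆ hED) := by
    apply isPGroup_of_coprime_trivial
    intro z hz hzc
    have hzD : z ∈ Subgroup.centralizer (pCore p G : Set G) := by
      rw [Subgroup.mem_centralizer_iff]
      intro d hd
      have hc : ⁅d, z⁆ ∈ ⁅pCore p G, Q⁆ := (mem_commInto hED z).mp hz.2 d hd
      obtain ⟨k, hk⟩ := pow_eq_one_of_mem_isPGroup hDp (hED hc)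
      have hcz : z * ⁅d, z⁆ = ⁅d, z⁆ * z := (Subgroup.mem_centralizer_iff.mp hz.1 _ hc).symm
      exact commute_of_coprime_of_commute_commutator d z hzc hcz k hk
    obtain ⟨k, hk⟩ := pow_eq_one_of_mem_isPGroup hDp (hG hzD)
    exact eq_one_of_coprime_of_pow_eq_one z hzc k hk
  have hEnQ : Q ≤ Subgroup.normalizer ((⁅pCore p G, Q⁆ : Subgroup G) : Set G) :=
    Subgroup.normalizer_commutator_ge_right _ _
  have hRStab : ⁅K, Q⁆ ≤ Subgroup.centralizer ((⁅pCore p G, Q⁆ : Subgroup G) : Set G) ⊓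
      commInto (pCore p G) ⁅pCore p G, Q⁆ hED := by
    rw [Subgroup.commutator_le]
    intro k hk q hq
    have hkC := hKE hk
    have hqN := hEnQ hq
    have hqNC := normalizer_le_normalizer_centralizer' _ hqN
    refine ⟨?_, ?_⟩
    · -- centralizes E
      have h1 : q * k⁻¹ * q⁻¹ ∈ Subgroup.centralizer ((⁅pCore p G, Q⁆ : Subgroup G) : Set G) :=
        (Subgroup.mem_normalizer_iff.mp hqNC k⁻¹).mp (Subgroup.inv_mem _ hkC)
      have e : ⁅k, q⁆ = k * (q * k⁻¹ * q⁻¹) := by simp only [commutatorElement_def]; group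
      rw [e]
      exact Subgroup.mul_mem _ hkC h1
    · -- commutators with D land in E
      have hq1 : q ∈ commInto (pCore p G) ⁅pCore p G, Q⁆ hED := by
        intro d hd
        exact Subgroup.commutator_mem_commutator hd hq
      have hq2 : k * q * k⁻¹ ∈ commInto (pCore p G) ⁅pCore p G, Q⁆ hED := by
        intro d hd
        have hd' : k⁻¹ * d * k⁻¹⁻¹ ∈ pCore p G := hDn.conj_mem d hd k⁻¹
        have h2 : ⁅k⁻¹ * d * k⁻¹⁻¹, q⁆ ∈ ⁅pCore p G, Q⁆ := Subgroup.commutator_mem_commutator hd' hq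
        have e : ⁅d, k * q * k⁻¹⁆ = k * ⁅k⁻¹ * d * k⁻¹⁻¹, q⁆ * k⁻¹ := by
          simp only [commutatorElement_def]; group
        rw [e]
        have hkc := Subgroup.mem_centralizer_iff.mp hkC _ h2
        rw [← hkc]
        simpa using h2
      have e : ⁅k, q⁆ = (k * q * k⁻¹) * q⁻¹ := by simp only [commutatorElement_def]
      rw [e]
      exact Subgroup.mul_mem _ hq2 (Subgroup.inv_mem _ hq1)
  have hRp : IsPGroup p ↥(⁅K, Q⁆) := hStab.to_le hRStab
  -- (4) R ≤ X
  have hRK : ⁅K, Q⁆ ≤ K := Subgroup.le_normalizer_iff_commutator_le_left.mp (hQL.trans hLK)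
  have hRX : ⁅K, Q⁆ ≤ pCoreOf p L :=
    le_pCoreOf_of_normal_in_normal hRK hKL hLK (Subgroup.normalizer_commutator_ge_left K Q) hRp
  -- K is a p-group
  have hKp : IsPGroup p ↥K := by
    apply isPGroup_of_coprime_trivial
    intro y hy hyc
    have hyX : y ∈ Subgroup.centralizer ((pCoreOf p L : Subgroup G) : Set G) := hy.2
    -- (5) y centralizes Q
    have hyQ : ∀ q ∈ Q, q * y = y * q := by
      intro q hq
      have hc : ⁅q, y⁆ ∈ ⁅K, Q⁆ := by
        rw [← commutatorElement_inv]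
        exact Subgroup.inv_mem _ (Subgroup.commutator_mem_commutator hy hq)
      obtain ⟨k, hk⟩ := pow_eq_one_of_mem_isPGroup hRp hc
      have hcy : y * ⁅q, y⁆ = ⁅q, y⁆ * y := (Subgroup.mem_centralizer_iff.mp hyX _ (hRX hc)).symm
      exact commute_of_coprime_of_commute_commutator q y hyc hcy k hk
    -- (6) P × Q lemma
    have hA : (Nat.card ↥(Subgroup.zpowers y)).Coprime p := by rw [Nat.card_zpowers]; exact hyc
    have hQA : Q ≤ Subgroup.centralizer ((Subgroup.zpowers y : Subgroup G) : Set G) := by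
      rw [Subgroup.le_centralizer_iff, Subgroup.zpowers_le, Subgroup.mem_centralizer_iff]
      intro q hq
      exact hyQ q hq
    have hnD : Subgroup.normalizer ((pCore p G : Subgroup G) : Set G) = ⊤ :=
      Subgroup.normalizer_eq_top_iff.mpr hDn
    have h6 := pq_lemma p Q (Subgroup.zpowers y) hQp hA hQA _ (pCore p G) rfl hDp
      (by rw [hnD]; exact le_top) (by rw [hnD]; exact le_top)
      (by
        refine le_trans ?_ hQA
        exact (inf_le_inf_right _ hDT).trans hC)
    have hyD : y ∈ Subgroup.centralizer (pCore p G : Set G) := h6 (Subgroup.mem_zpowers y)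
    obtain ⟨k, hk⟩ := pow_eq_one_of_mem_isPGroup hDp (hG hyD)
    exact eq_one_of_coprime_of_pow_eq_one y hyc k hk
  have hKX : K ≤ pCoreOf p L := le_pCoreOf hKL hLK hKp
  intro z hz
  have hz' : (z : G) ∈ K := by
    refine Subgroup.mem_inf.mpr ⟨z.2, ?_⟩
    rw [Subgroup.mem_centralizer_iff]
    rintro _ ⟨x, hx, rfl⟩
    have := Subgroup.mem_centralizer_iff.mp hz x hx
    exact congrArg Subtype.val this
  obtain ⟨w, hw, hwe⟩ := hKX hz'
  have : w = z := Subtype.ext hwe
  rw [← this]; exact hw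

end Cfsg.Agent.Lib.Helper7
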