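import Mathlib
import Cfsg.Prelude.Def_LocalStructure
import Cfsg.Prelude.Def_LocalEven
import Cfsg.Agent.Lib.Helper7.PReduced4
import Cfsg.Agent.Lib.Helper7.SubnormalPRes
import Cfsg.Agent.Lib.Helper7.QuadraticPair
import Cfsg.Agent.S0027
import Cfsg.Agent.H1.PQ

set_option autoImplicit false

namespace Cfsg.Agent.Lib.Helper7

open Cfsg
open scoped commutatorElement

section iter
variable {L : Type*} [Group L]

/-- Iterated commutators with a subgroup `A` of a subnormal subgroup `K` eventually land in `K`. -/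
theorem exists_iterate_commutator_le {K : Subgroup L} (hK : K.IsSubnormal) :
    ∀ A : Subgroup L, A ≤ K → ∃ r : ℕ, ∀ X : Subgroup L, (fun Z : Subgroup L => ⁅Z, A⁆)^[r] X ≤ K := by
  induction hK with
  | top => intro A _; exact ⟨0, fun X => le_top⟩
  | step H' K' h_le _ hN ih =>
    intro A hA
    obtain ⟨r, hr⟩ := ih A (hA.trans h_le)
    refine ⟨r + 1, fun X => ?_⟩
    rw [Function.iterate_succ_apply']
    have hnorm : K' ≤ Subgroup.normalizer (H' : Set L) :=
      (Subgroup.normal_subgroupOf_iff_le_normalizer h_le).mp hN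
    exact (Subgroup.commutator_mono (hr X) hA).trans
      (Subgroup.le_normalizer_iff_commutator_le_right.mp hnorm)

end iter

variable {L : Type*} [Group L] [Finite L] {p : ℕ} [Fact p.Prime]

/-- Coprime action: a `p'`-element `x` of a subnormal subgroup `K` has `[V, x] ≤ K` for every normal
`p`-subgroup `V`. -/
theorem commutator_zpowers_le_of_isSubnormal {V K : Subgroup L} [hVn : V.Normal] (hVp : IsPGroup p ↥V)
    (hK : K.IsSubnormal) {x : L} (hxK : x ∈ K) (hx : Nat.Coprime (orderOf x) p) :
    ⁅V, Subgroup.zpowers x⁆ ≤ V ⊓ K := by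
  set A := Subgroup.zpowers x with hA
  have hAK : A ≤ K := by rw [hA, Subgroup.zpowers_le]; exact hxK
  have hAV : A ≤ Subgroup.normalizer (V : Set L) := by
    rw [Subgroup.normalizer_eq_top_iff.mpr hVn]; exact le_top
  have hcop : (Nat.card ↥A).Coprime (Nat.card ↥V) := by
    obtain ⟨n, hn⟩ := IsPGroup.iff_card.mp hVp
    rw [hn, hA, Nat.card_zpowers]
    exact Nat.Coprime.pow_right n hx
  have hstab := Cfsg.Agent.S0027.result A V hAV hcop (Or.inl inferInstance)
  have hiter : ∀ r : ℕ, (fun Z : Subgroup L => ⁅Z, A⁆)^[r + 1] V = ⁅V, A⁆ := by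
    intro r
    induction r with
    | zero => rfl
    | succ r ih => rw [Function.iterate_succ_apply', ih, hstab]
  obtain ⟨r, hr⟩ := exists_iterate_commutator_le hK A hAK
  refine le_inf (Subgroup.commutator_le_left V A) ?_
  rw [← hiter r, Function.iterate_succ_apply]
  exact hr _


/-- A `p'`-element of the subnormal subgroup `K` centralizing `[V, O^p(K)]` centralizes `V`. -/
theorem centralizes_of_centralizes_commutator_pRes {V K : Subgroup L} [hVn : V.Normal]
    (hVp : IsPGroup p ↥V) {x : L} (hxK : x ∈ K) (hx : Nat.Coprime (orderOf x) p)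
    (hxc : x ∈ Subgroup.centralizer ((⁅V, pRes p K⁆ : Subgroup L) : Set L)) :
    x ∈ Subgroup.centralizer (V : Set L) := by
  set A := Subgroup.zpowers x with hA
  have hAV : A ≤ Subgroup.normalizer (V : Set L) := by
    rw [Subgroup.normalizer_eq_top_iff.mpr hVn]; exact le_top
  have hcop : (Nat.card ↥A).Coprime (Nat.card ↥V) := by
    obtain ⟨n, hn⟩ := IsPGroup.iff_card.mp hVp
    rw [hn, hA, Nat.card_zpowers]
    exact Nat.Coprime.pow_right n hx
  have hstab := Cfsg.Agent.S0027.result A V hAV hcop (Or.inl inferInstance)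
  have hAR : A ≤ pRes p K := by rw [hA, Subgroup.zpowers_le]; exact mem_pRes hxK hx
  have hAc : A ≤ Subgroup.centralizer ((⁅V, pRes p K⁆ : Subgroup L) : Set L) := by
    rw [hA, Subgroup.zpowers_le]; exact hxc
  have h1 : ⁅⁅V, A⁆, A⁆ = ⊥ := by
    rw [Subgroup.commutator_eq_bot_iff_le_centralizer]
    refine (Subgroup.commutator_mono le_rfl hAR).trans ?_
    exact Subgroup.le_centralizer_iff.mp hAc
  rw [hstab, Subgroup.commutator_eq_bot_iff_le_centralizer] at h1
  have h2 : A ≤ Subgroup.centralizer (V : Set L) := Subgroup.le_centralizer_iff.mp h1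
  exact h2 (Subgroup.mem_zpowers x)

theorem pReduced_commutator_pRes_subnormal (V : Subgroup L) (hV : Cfsg.IsPReducedNormal p V)
    (K : Subgroup L) (hK : K.IsSubnormal) :
    ⁅V, (Cfsg.pResidual p ↥K).map K.subtype⁆ ≤ K ∧
      Cfsg.IsPReducedNormal p ((⁅V, (Cfsg.pResidual p ↥K).map K.subtype⁆).subgroupOf K) := by
  rw [pResidual_map_subtype_eq]
  obtain ⟨hVn, hVe, hCn, hO⟩ := hV
  haveI := hVn
  haveI := hCn
  have hVe' := (isElementaryAbelian_iff V).mp hVe
  have hVp : IsPGroup p ↥V := by
    intro v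
    refine ⟨1, ?_⟩
    apply Subtype.ext
    rw [pow_one, Subgroup.coe_pow, Subgroup.coe_one]
    exact hVe'.2 v v.2
  set R := pRes p K with hR
  -- Step 3
  have hRle : R ≤ commInto V (V ⊓ K) inf_le_left := by
    rw [hR]
    unfold pRes
    rw [Subgroup.closure_le]
    intro x hx
    rw [SetLike.mem_coe, mem_commInto]
    intro v hv
    exact commutator_zpowers_le_of_isSubnormal hVp hK hx.1 hx.2
      (Subgroup.commutator_mem_commutator hv (Subgroup.mem_zpowers x))
  have hU : ⁅V, R⁆ ≤ V ⊓ K := by
    rw [Subgroup.commutator_le]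
    intro v hv l hl
    exact (mem_commInto _ l).mp (hRle hl) v hv
  set U := ⁅V, R⁆ with hUdef
  have hUK : U ≤ K := hU.trans inf_le_right
  have hUV : U ≤ V := hU.trans inf_le_left
  refine ⟨hUK, ?_⟩
  have hKNU : K ≤ Subgroup.normalizer (U : Set L) := by
    apply Cfsg.Agent.H1.le_normalizer_commutator
    · rw [Subgroup.normalizer_eq_top_iff.mpr hVn]; exact le_top
    · exact Subgroup.le_normalizer.trans (normalizer_le_normalizer_pRes K)
  haveI hUn : (U.subgroupOf K).Normal := (Subgroup.normal_subgroupOf_iff_le_normalizer hUK).mpr hKNU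
  have hCU : ∀ x : ↥K, x ∈ Subgroup.centralizer ((U.subgroupOf K : Subgroup ↥K) : Set ↥K) ↔
      (x : L) ∈ Subgroup.centralizer (U : Set L) := by
    intro x
    rw [Subgroup.mem_centralizer_iff, Subgroup.mem_centralizer_iff]
    constructor
    · intro h u hu
      have := h ⟨u, hUK hu⟩ (Subgroup.mem_subgroupOf.mpr hu)
      exact congrArg Subtype.val this
    · intro h u hu
      apply Subtype.ext
      exact h u (Subgroup.mem_subgroupOf.mp hu)
  refine ⟨hUn, ?_, inferInstance, ?_⟩
  · rw [isElementaryAbelian_iff]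
    constructor
    · intro a ha b hb
      apply Subtype.ext
      exact hVe'.1 a (hUV (Subgroup.mem_subgroupOf.mp ha)) b (hUV (Subgroup.mem_subgroupOf.mp hb))
    · intro a ha
      apply Subtype.ext
      rw [Subgroup.coe_pow, Subgroup.coe_one]
      exact hVe'.2 a (hUV (Subgroup.mem_subgroupOf.mp ha))
  · apply pCore_quotient_eq_bot_of_forall
    intro P hPn hPp
    -- P' = image of P in L, subnormal
    set P' := P.map K.subtype with hP'
    have hP'K : P' ≤ K := Subgroup.map_subtype_le _
    have hP'sn : P'.IsSubnormal := Subgroup.IsSubnormal.trans' hPn.isSubnormal hK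
    -- every element of P' has p-power order modulo C_L(V)
    have hpow : ∀ y ∈ P', ∃ k : ℕ, y ^ p ^ k ∈ Subgroup.centralizer (V : Set L) := by
      intro y hy
      obtain ⟨a, m, hm, hn⟩ := Nat.exists_eq_pow_mul_and_not_dvd (n := orderOf y)
        (orderOf_pos y).ne' p (Fact.out : p.Prime).ne_one
      refine ⟨a, ?_⟩
      set z := y ^ p ^ a with hz
      have hzP' : z ∈ P' := Subgroup.pow_mem _ hy _
      have hzo : orderOf z = m := by
        rw [hz, orderOf_pow' y (pow_ne_zero a (Fact.out : p.Prime).ne_zero), hn,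
          Nat.gcd_eq_right (Dvd.intro _ rfl)]
        exact Nat.mul_div_cancel_left m (pow_pos (Fact.out : p.Prime).pos a)
      have hzc : Nat.Coprime (orderOf z) p := by
        rw [hzo]
        exact ((Nat.Prime.coprime_iff_not_dvd Fact.out).mpr hm).symm
      obtain ⟨z', hz'P, hz'z⟩ := hzP'
      obtain ⟨k, hk⟩ := hPp z' hz'P
      have hk' : z ^ p ^ k ∈ Subgroup.centralizer (U : Set L) := by
        have := (hCU _).mp hk
        rw [Subgroup.coe_pow] at this
        rw [← hz'z]; exact this
      have hzU : z ∈ Subgroup.centralizer (U : Set L) := mem_of_pow_mem_of_coprime hzc hk'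
      exact centralizes_of_centralizes_commutator_pRes hVp (hP'K ⟨z', hz'P, hz'z⟩) hzc hzU
    -- image in L ⧸ C_L(V) is a subnormal p-group, hence trivial
    set C := Subgroup.centralizer (V : Set L) with hC
    have himg_sn : (P'.map (QuotientGroup.mk' C)).IsSubnormal :=
      Subgroup.IsSubnormal.map (QuotientGroup.mk'_surjective C) hP'sn
    have himg_p : IsPGroup p ↥(P'.map (QuotientGroup.mk' C)) := by
      rintro ⟨_, y, hy, rfl⟩
      obtain ⟨k, hk⟩ := hpow y hy
      refine ⟨k, ?_⟩
      apply Subtype.ext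
      simp only [Subgroup.coe_pow, Subgroup.coe_one]
      rw [← map_pow]
      exact (QuotientGroup.eq_one_iff _).mpr hk
    have hle := le_pCore_of_isSubnormal_of_isPGroup himg_sn himg_p
    rw [hO, le_bot_iff] at hle
    intro x hx
    rw [hCU]
    have hxP' : (x : L) ∈ P' := ⟨x, hx, rfl⟩
    have h1 : QuotientGroup.mk' C (x : L) ∈ P'.map (QuotientGroup.mk' C) := ⟨_, hxP', rfl⟩
    rw [hle, Subgroup.mem_bot] at h1
    have hxC : (x : L) ∈ C := (QuotientGroup.eq_one_iff _).mp h1
    exact Subgroup.centralizer_le (show (U : Set L) ⊆ V from hUV) hxC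

end Cfsg.Agent.Lib.Helper7
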