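import Mathlib
import Cfsg.Prelude.Def_LocalStructure
import Cfsg.Prelude.Def_LocalEven
import Cfsg.Agent.Lib.Helper7.PReducedSubnormal
import Cfsg.Agent.Lib.Helper7.AmalgamVIter2
import Cfsg.Agent.Lib.Helper7.SylowJoin
import Cfsg.Agent.Lib.Lead.PGroup
import Cfsg.Agent.H1.NormMap

set_option autoImplicit false

namespace Cfsg.Agent.Lib.Helper7

open Cfsg
open scoped commutatorElement

section internal

variable {L : Type*} [Group L] {p : ℕ}

/-- elementwise form of `IsPReducedNormal` -/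
theorem isPReducedNormal_iff_forall (V : Subgroup L) :
    IsPReducedNormal p V ↔ V.Normal ∧ (∀ a ∈ V, ∀ b ∈ V, a * b = b * a) ∧ (∀ a ∈ V, a ^ p = 1) ∧
      ∀ D : Subgroup L, D.Normal → (∀ x ∈ D, ∃ k : ℕ, x ^ p ^ k ∈ Subgroup.centralizer (V : Set L)) →
        D ≤ Subgroup.centralizer (V : Set L) := by
  constructor
  · rintro ⟨hVn, hVe, hCn, hO⟩
    obtain ⟨h1, h2⟩ := (isElementaryAbelian_iff V).mp hVe
    refine ⟨hVn, h1, h2, ?_⟩
    intro D hDn hD
    haveI := hCn
    haveI := hDn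
    exact pCore_le_of_quotient_pCore_eq_bot _ hO D hD
  · rintro ⟨hVn, h1, h2, h3⟩
    haveI := hVn
    refine ⟨hVn, (isElementaryAbelian_iff V).mpr ⟨h1, h2⟩, inferInstance, ?_⟩
    exact pCore_quotient_eq_bot_of_forall _ h3

theorem isPReducedNormal_le_center_pCore' {V : Subgroup L}
    (hV : IsPReducedNormal p V) : V ≤ pCore p L ⊓ Subgroup.centralizer (pCore p L : Set L) := by
  obtain ⟨hVn, h1, h2, h3⟩ := (isPReducedNormal_iff_forall V).mp hV
  have hVp : IsPGroup p ↥V := by
    intro v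
    refine ⟨1, ?_⟩
    apply Subtype.ext
    rw [pow_one, Subgroup.coe_pow, Subgroup.coe_one]
    exact h2 v v.2
  have hle : V ≤ pCore p L := le_pCore hVn hVp
  have hO : pCore p L ≤ Subgroup.centralizer (V : Set L) := by
    apply h3 _ (pCore_normal p L)
    intro x hx
    obtain ⟨k, hk⟩ := pow_eq_one_of_mem_isPGroup (pCore_isPGroup p L) hx
    exact ⟨k, by rw [hk]; exact Subgroup.one_mem _⟩
  exact le_inf hle (Subgroup.le_centralizer_iff.mp hO)

theorem isPReducedNormal_sup' {V₁ V₂ : Subgroup L} (h₁ : IsPReducedNormal p V₁)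
    (h₂ : IsPReducedNormal p V₂) : IsPReducedNormal p (V₁ ⊔ V₂) := by
  have hle₁ := isPReducedNormal_le_center_pCore' h₁
  have hle₂ := isPReducedNormal_le_center_pCore' h₂
  obtain ⟨hV₁n, hc₁, he₁, hD₁⟩ := (isPReducedNormal_iff_forall V₁).mp h₁
  obtain ⟨hV₂n, hc₂, he₂, hD₂⟩ := (isPReducedNormal_iff_forall V₂).mp h₂
  haveI := hV₁n
  haveI := hV₂n
  have hZcomm : ∀ a ∈ pCore p L ⊓ Subgroup.centralizer (pCore p L : Set L),
      ∀ b ∈ pCore p L ⊓ Subgroup.centralizer (pCore p L : Set L), a * b = b * a := by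
    intro a ha b hb
    exact Subgroup.mem_centralizer_iff.mp hb.2 a ha.1
  let Ω : Subgroup L :=
    { carrier := {z | z ∈ pCore p L ⊓ Subgroup.centralizer (pCore p L : Set L) ∧ z ^ p = 1}
      one_mem' := ⟨Subgroup.one_mem _, one_pow _⟩
      mul_mem' := by
        rintro a b ⟨ha, hap⟩ ⟨hb, hbp⟩
        refine ⟨Subgroup.mul_mem _ ha hb, ?_⟩
        rw [(show Commute a b from hZcomm a ha b hb).mul_pow, hap, hbp, one_mul]
      inv_mem' := by
        rintro a ⟨ha, hap⟩
        exact ⟨Subgroup.inv_mem _ ha, by rw [inv_pow, hap, inv_one]⟩ }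
  have hΩ : V₁ ⊔ V₂ ≤ Ω := by
    apply sup_le
    · intro v hv
      exact ⟨hle₁ hv, he₁ v hv⟩
    · intro v hv
      exact ⟨hle₂ hv, he₂ v hv⟩
  have hCeq := centralizer_sup_eq V₁ V₂
  rw [isPReducedNormal_iff_forall]
  refine ⟨inferInstance, fun a ha b hb => hZcomm a (hΩ ha).1 b (hΩ hb).1, fun a ha => (hΩ ha).2, ?_⟩
  intro D hDn hD
  rw [hCeq]
  refine le_inf (hD₁ D hDn ?_) (hD₂ D hDn ?_)
  · intro x hx
    obtain ⟨k, hk⟩ := hD x hx
    exact ⟨k, (hCeq.le hk).1⟩
  · intro x hx
    obtain ⟨k, hk⟩ := hD x hx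
    exact ⟨k, (hCeq.le hk).2⟩

theorem isPReducedNormal_largestPReduced' [Finite L] :
    IsPReducedNormal p (largestPReduced p L) := by
  unfold largestPReduced
  exact Cfsg.Agent.H1.sSup_mem_of_sup_closed {V : Subgroup L | IsPReducedNormal p V}
    isPReducedNormal_bot (fun A hA B hB => isPReducedNormal_sup' hA hB)

theorem le_largestPReduced {V : Subgroup L} (hV : IsPReducedNormal p V) : V ≤ largestPReduced p L :=
  le_sSup hV

end internal

section relative

variable {H : Type*} [Group H] {p : ℕ}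

/-- relative `p`-reducedness of `V` for `K`, inside the ambient group -/
def PRedN (p : ℕ) (K V : Subgroup H) : Prop :=
  V ≤ K ∧ K ≤ Subgroup.normalizer (V : Set H) ∧ (∀ a ∈ V, ∀ b ∈ V, a * b = b * a) ∧
    (∀ a ∈ V, a ^ p = 1) ∧
    ∀ D : Subgroup H, D ≤ K → K ≤ Subgroup.normalizer (D : Set H) →
      (∀ x ∈ D, ∃ k : ℕ, x ^ p ^ k ∈ Subgroup.centralizer (V : Set H)) →
        D ≤ Subgroup.centralizer (V : Set H)

theorem mem_centralizer_subgroupOf_iff {K U : Subgroup H} (hUK : U ≤ K) (x : ↥K) :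
    x ∈ Subgroup.centralizer ((U.subgroupOf K : Subgroup ↥K) : Set ↥K) ↔
      (x : H) ∈ Subgroup.centralizer (U : Set H) := by
  rw [Subgroup.mem_centralizer_iff, Subgroup.mem_centralizer_iff]
  constructor
  · intro h u hu
    have := h ⟨u, hUK hu⟩ (Subgroup.mem_subgroupOf.mpr hu)
    exact congrArg Subtype.val this
  · intro h u hu
    apply Subtype.ext
    exact h u (Subgroup.mem_subgroupOf.mp hu)

theorem pRedN_iff {K V : Subgroup H} (hVK : V ≤ K) :
    PRedN p K V ↔ IsPReducedNormal p (V.subgroupOf K) := by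
  rw [isPReducedNormal_iff_forall]
  constructor
  · rintro ⟨-, hn, hc, he, hD⟩
    refine ⟨(Subgroup.normal_subgroupOf_iff_le_normalizer hVK).mpr hn, ?_, ?_, ?_⟩
    · intro a ha b hb
      apply Subtype.ext
      exact hc a (Subgroup.mem_subgroupOf.mp ha) b (Subgroup.mem_subgroupOf.mp hb)
    · intro a ha
      apply Subtype.ext
      rw [Subgroup.coe_pow, Subgroup.coe_one]
      exact he a (Subgroup.mem_subgroupOf.mp ha)
    · intro D' hD'n hD'p
      have hle : D'.map K.subtype ≤ K := Subgroup.map_subtype_le _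
      haveI := hD'n
      have h1 := hD (D'.map K.subtype) hle (le_normalizer_map_subtype_of_normal K D') (by
        rintro _ ⟨x, hx, rfl⟩
        obtain ⟨k, hk⟩ := hD'p x hx
        refine ⟨k, ?_⟩
        have := (mem_centralizer_subgroupOf_iff hVK _).mp hk
        rwa [Subgroup.coe_pow] at this)
      intro x hx
      rw [mem_centralizer_subgroupOf_iff hVK]
      exact h1 ⟨x, hx, rfl⟩
  · rintro ⟨hn, hc, he, hD⟩
    refine ⟨hVK, (Subgroup.normal_subgroupOf_iff_le_normalizer hVK).mp hn, ?_, ?_, ?_⟩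
    · intro a ha b hb
      have := hc ⟨a, hVK ha⟩ (Subgroup.mem_subgroupOf.mpr ha) ⟨b, hVK hb⟩ (Subgroup.mem_subgroupOf.mpr hb)
      exact congrArg Subtype.val this
    · intro a ha
      have := he ⟨a, hVK ha⟩ (Subgroup.mem_subgroupOf.mpr ha)
      have := congrArg Subtype.val this
      rwa [Subgroup.coe_pow, Subgroup.coe_one] at this
    · intro D hDK hKD hDp
      have hDn : (D.subgroupOf K).Normal := (Subgroup.normal_subgroupOf_iff_le_normalizer hDK).mpr hKD
      have h1 := hD (D.subgroupOf K) hDn (by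
        intro x hx
        obtain ⟨k, hk⟩ := hDp (x : H) (Subgroup.mem_subgroupOf.mp hx)
        refine ⟨k, ?_⟩
        rw [mem_centralizer_subgroupOf_iff hVK, Subgroup.coe_pow]
        exact hk)
      intro x hx
      have := h1 (Subgroup.mem_subgroupOf.mpr hx : (⟨x, hDK hx⟩ : ↥K) ∈ D.subgroupOf K)
      exact (mem_centralizer_subgroupOf_iff hVK _).mp this

theorem pRedN_top_iff {V : Subgroup H} : PRedN p ⊤ V ↔ IsPReducedNormal p V := by
  rw [isPReducedNormal_iff_forall]
  constructor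
  · rintro ⟨-, hn, hc, he, hD⟩
    refine ⟨Subgroup.normalizer_eq_top_iff.mp (top_le_iff.mp hn), hc, he, ?_⟩
    intro D hDn hDp
    exact hD D le_top (by rw [Subgroup.normalizer_eq_top_iff.mpr hDn]) hDp
  · rintro ⟨hn, hc, he, hD⟩
    refine ⟨le_top, by rw [Subgroup.normalizer_eq_top_iff.mpr hn], hc, he, ?_⟩
    intro D _ hKD hDp
    exact hD D (Subgroup.normalizer_eq_top_iff.mp (top_le_iff.mp hKD)) hDp

variable [Finite H]

theorem pRedN_largestPReducedOf (K : Subgroup H) : PRedN p K (largestPReducedOf p K) := by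
  have hle : largestPReducedOf p K ≤ K := Subgroup.map_subtype_le _
  rw [pRedN_iff hle]
  have : (largestPReducedOf p K).subgroupOf K = largestPReduced p ↥K :=
    Subgroup.comap_map_eq_self_of_injective K.subtype_injective _
  rw [this]
  exact isPReducedNormal_largestPReduced'

theorem PRedN.le_largestPReducedOf {K V : Subgroup H} (h : PRedN p K V) :
    V ≤ largestPReducedOf p K := by
  have h1 := le_largestPReduced ((pRedN_iff h.1).mp h)
  intro v hv
  exact ⟨⟨v, h.1 hv⟩, h1 (Subgroup.mem_subgroupOf.mpr hv), rfl⟩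

theorem pRedN_largestPReduced : PRedN p ⊤ (largestPReduced p H) :=
  pRedN_top_iff.mpr isPReducedNormal_largestPReduced'

end relative


section steps

variable {H : Type*} [Group H] [Finite H] {p : ℕ} [Fact p.Prime]

omit [Finite H] [Fact p.Prime] in
theorem isPGroup_of_exp {W : Subgroup H} (he : ∀ a ∈ W, a ^ p = 1) : IsPGroup p ↥W := by
  intro v
  refine ⟨1, ?_⟩
  apply Subtype.ext
  rw [pow_one, Subgroup.coe_pow, Subgroup.coe_one]
  exact he v v.2

/-- a `p'`-element acting quadratically on a `p`-group centralizes it -/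
theorem mem_centralizer_of_quadratic {W V : Subgroup H} (hWp : IsPGroup p ↥W) {x : H}
    (hxW : x ∈ Subgroup.normalizer (W : Set H)) (hx : Nat.Coprime (orderOf x) p)
    (hWV : ⁅W, Subgroup.zpowers x⁆ ≤ V) (hxV : x ∈ Subgroup.centralizer (V : Set H)) :
    x ∈ Subgroup.centralizer (W : Set H) := by
  obtain ⟨A, hA⟩ : ∃ A : Subgroup H, A = Subgroup.zpowers x := ⟨_, rfl⟩
  rw [← hA] at hWV
  have hAW : A ≤ Subgroup.normalizer (W : Set H) := by rw [hA, Subgroup.zpowers_le]; exact hxW
  have hcop : (Nat.card ↥A).Coprime (Nat.card ↥W) := by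
    obtain ⟨n, hn⟩ := IsPGroup.iff_card.mp hWp
    rw [hn, hA, Nat.card_zpowers]
    exact Nat.Coprime.pow_right n hx
  have hstab := Cfsg.Agent.S0027.result A W hAW hcop (Or.inl (by rw [hA]; infer_instance))
  have hAc : A ≤ Subgroup.centralizer (V : Set H) := by rw [hA, Subgroup.zpowers_le]; exact hxV
  have h1 : ⁅⁅W, A⁆, A⁆ = ⊥ := by
    rw [Subgroup.commutator_eq_bot_iff_le_centralizer]
    exact hWV.trans (Subgroup.le_centralizer_iff.mp hAc)
  rw [hstab, Subgroup.commutator_eq_bot_iff_le_centralizer] at h1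
  have h2 : A ≤ Subgroup.centralizer (W : Set H) := Subgroup.le_centralizer_iff.mp h1
  exact h2 (by rw [hA]; exact Subgroup.mem_zpowers x)

/-- `p`-part/`p'`-part: some `p`-power of `x` has order prime to `p` -/
theorem exists_pow_coprime (x : H) : ∃ a : ℕ, Nat.Coprime (orderOf (x ^ p ^ a)) p := by
  obtain ⟨a, m, hm, hn⟩ := Nat.exists_eq_pow_mul_and_not_dvd (n := orderOf x)
    (orderOf_pos x).ne' p (Fact.out : p.Prime).ne_one
  refine ⟨a, ?_⟩
  have hzo : orderOf (x ^ p ^ a) = m := by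
    rw [orderOf_pow' x (pow_ne_zero a (Fact.out : p.Prime).ne_zero), hn,
      Nat.gcd_eq_right (Dvd.intro _ rfl)]
    exact Nat.mul_div_cancel_left m (pow_pos (Fact.out : p.Prime).pos a)
  rw [hzo]
  exact ((Nat.Prime.coprime_iff_not_dvd Fact.out).mpr hm).symm

theorem pow_mem_centralizer_of_commutator_le {W V P : Subgroup H} (hWp : IsPGroup p ↥W)
    (hPW : P ≤ Subgroup.normalizer (W : Set H)) (hWV : ⁅W, P⁆ ≤ V)
    (hP : ∀ x ∈ P, ∃ k : ℕ, x ^ p ^ k ∈ Subgroup.centralizer (V : Set H)) :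
    ∀ x ∈ P, ∃ k : ℕ, x ^ p ^ k ∈ Subgroup.centralizer (W : Set H) := by
  intro x hx
  obtain ⟨a, ha⟩ := exists_pow_coprime (p := p) x
  refine ⟨a, ?_⟩
  have hzP : x ^ p ^ a ∈ P := Subgroup.pow_mem _ hx _
  obtain ⟨k, hk⟩ := hP _ hzP
  have hzV : x ^ p ^ a ∈ Subgroup.centralizer (V : Set H) := mem_of_pow_mem_of_coprime ha hk
  refine mem_centralizer_of_quadratic hWp (hPW hzP) ha ?_ hzV
  refine le_trans (Subgroup.commutator_mono le_rfl ?_) hWV
  rw [Subgroup.zpowers_le]; exact hzP

theorem PRedN.le_centralizer_of_isSubnormal {K V : Subgroup H} (h : PRedN p K V) {P : Subgroup H}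
    (hPK : P ≤ K) (hP : P.IsSubnormal)
    (hPp : ∀ x ∈ P, ∃ k : ℕ, x ^ p ^ k ∈ Subgroup.centralizer (V : Set H)) :
    P ≤ Subgroup.centralizer (V : Set H) := by
  obtain ⟨hn, he, hCn, hO⟩ := (pRedN_iff h.1).mp h
  haveI := hn
  haveI := hCn
  obtain ⟨C', hC'⟩ : ∃ C' : Subgroup ↥K,
    C' = Subgroup.centralizer ((V.subgroupOf K : Subgroup ↥K) : Set ↥K) := ⟨_, rfl⟩
  haveI hC'n : C'.Normal := by rw [hC']; exact hCn
  have hO' : pCore p (↥K ⧸ C') = ⊥ := by subst hC'; exact hO
  have hP'sn : (P.subgroupOf K).IsSubnormal := hP.subgroupOf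
  have himg_sn : ((P.subgroupOf K).map (QuotientGroup.mk' C')).IsSubnormal :=
    Subgroup.IsSubnormal.map (QuotientGroup.mk'_surjective C') hP'sn
  have himg_p : IsPGroup p ↥((P.subgroupOf K).map (QuotientGroup.mk' C')) := by
    rintro ⟨_, y, hy, rfl⟩
    obtain ⟨k, hk⟩ := hPp (y : H) (Subgroup.mem_subgroupOf.mp hy)
    refine ⟨k, ?_⟩
    apply Subtype.ext
    simp only [Subgroup.coe_pow, Subgroup.coe_one]
    rw [← map_pow]
    apply (QuotientGroup.eq_one_iff _).mpr
    rw [hC', mem_centralizer_subgroupOf_iff h.1, Subgroup.coe_pow]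
    exact hk
  have hle := le_pCore_of_isSubnormal_of_isPGroup himg_sn himg_p
  rw [hO', le_bot_iff] at hle
  intro x hx
  have h1 : QuotientGroup.mk' C' (⟨x, hPK hx⟩ : ↥K) ∈ (P.subgroupOf K).map (QuotientGroup.mk' C') :=
    ⟨_, Subgroup.mem_subgroupOf.mpr hx, rfl⟩
  rw [hle, Subgroup.mem_bot] at h1
  have hxC : (⟨x, hPK hx⟩ : ↥K) ∈ C' := (QuotientGroup.eq_one_iff _).mp h1
  rw [hC', mem_centralizer_subgroupOf_iff h.1] at hxC
  exact hxC

omit [Finite H] [Fact p.Prime] in
theorem commutator_le_inf_of_normal {K W L D : Subgroup H} (hKW : K ≤ Subgroup.normalizer (W : Set H))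
    (hWK : W ≤ K) (hKL : K ≤ Subgroup.normalizer (L : Set H)) (hLK : L ≤ K) (hDL : D ≤ L) :
    ⁅W, D⁆ ≤ W ⊓ L := by
  refine le_inf ?_ ?_
  · exact commutator_le_left_of_le_normalizer W D ((hDL.trans hLK).trans hKW)
  · rw [Subgroup.commutator_comm]
    exact (Subgroup.commutator_mono hDL le_rfl).trans
      (commutator_le_left_of_le_normalizer L W (hWK.trans hKL))

/-- normal step -/
theorem PRedN.inf_normal {K W L : Subgroup H} (hK : K.IsSubnormal) (hW : PRedN p K W) (hLK : L ≤ K)
    (hKL : K ≤ Subgroup.normalizer (L : Set H)) : PRedN p L (W ⊓ L) := by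
  have hW' := hW
  obtain ⟨hWK, hKW, hc, he, -⟩ := hW'
  have hLsn : L.IsSubnormal :=
    Subgroup.IsSubnormal.step L K hLK hK ((Subgroup.normal_subgroupOf_iff_le_normalizer hLK).mpr hKL)
  refine ⟨inf_le_right, ?_, fun a ha b hb => hc a ha.1 b hb.1, fun a ha => he a ha.1, ?_⟩
  · exact le_trans (le_inf (hLK.trans hKW) Subgroup.le_normalizer) (normalizer_inf_le_normalizer_inf W L)
  · intro D hDL hLD hDp
    have hDsn : D.IsSubnormal :=
      Subgroup.IsSubnormal.step D L hDL hLsn ((Subgroup.normal_subgroupOf_iff_le_normalizer hDL).mpr hLD)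
    have h1 := pow_mem_centralizer_of_commutator_le (isPGroup_of_exp he) ((hDL.trans hLK).trans hKW)
      (commutator_le_inf_of_normal hKW hWK hKL hLK hDL) hDp
    have h2 := hW.le_centralizer_of_isSubnormal (hDL.trans hLK) hDsn h1
    exact h2.trans (Subgroup.centralizer_le (show ((W ⊓ L : Subgroup H) : Set H) ⊆ W from inf_le_left))

/-- normal step for the centralizers -/
theorem PRedN.inf_centralizer_le {K W L : Subgroup H} (hK : K.IsSubnormal) (hW : PRedN p K W)
    (hLK : L ≤ K) (hKL : K ≤ Subgroup.normalizer (L : Set H)) :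
    L ⊓ Subgroup.centralizer ((W ⊓ L : Subgroup H) : Set H) ≤ Subgroup.centralizer (W : Set H) := by
  have hW' := hW
  obtain ⟨hWK, hKW, hc, he, -⟩ := hW'
  obtain ⟨A, hA⟩ : ∃ A : Subgroup H, A = L ⊓ Subgroup.centralizer ((W ⊓ L : Subgroup H) : Set H) :=
    ⟨_, rfl⟩
  rw [← hA]
  have hAL : A ≤ L := by rw [hA]; exact inf_le_left
  have hKV : K ≤ Subgroup.normalizer ((W ⊓ L : Subgroup H) : Set H) :=
    le_trans (le_inf hKW hKL) (normalizer_inf_le_normalizer_inf W L)
  have hKA : K ≤ Subgroup.normalizer (A : Set H) := by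
    rw [hA]
    exact le_trans (le_inf hKL (hKV.trans (normalizer_le_normalizer_centralizer _)))
      (normalizer_inf_le_normalizer_inf _ _)
  have hAsn : A.IsSubnormal :=
    Subgroup.IsSubnormal.step A K (hAL.trans hLK) hK
      ((Subgroup.normal_subgroupOf_iff_le_normalizer (hAL.trans hLK)).mpr hKA)
  have h1 := pow_mem_centralizer_of_commutator_le (isPGroup_of_exp he) ((hAL.trans hLK).trans hKW)
    (commutator_le_inf_of_normal hKW hWK hKL hLK hAL) (by
      intro x hx
      refine ⟨0, ?_⟩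
      rw [pow_zero, pow_one]
      rw [hA] at hx
      exact hx.2)
  exact hW.le_centralizer_of_isSubnormal (hAL.trans hLK) hAsn h1

/-- chain induction: `Y ∩ L` is `p`-reduced for `L` and `C_L(Y ∩ L) ≤ C(Y)` -/
theorem PRedN.inf_subnormal {W : Subgroup H} (hW : PRedN p ⊤ W) {L : Subgroup H} (hL : L.IsSubnormal) :
    PRedN p L (W ⊓ L) ∧
      L ⊓ Subgroup.centralizer ((W ⊓ L : Subgroup H) : Set H) ≤ Subgroup.centralizer (W : Set H) := by
  induction hL with
  | top =>
    rw [inf_top_eq]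
    exact ⟨hW, inf_le_right⟩
  | step L' K' hle hK' hN ih =>
    have hKL : K' ≤ Subgroup.normalizer (L' : Set H) :=
      (Subgroup.normal_subgroupOf_iff_le_normalizer hle).mp hN
    have e : W ⊓ K' ⊓ L' = W ⊓ L' := by rw [inf_assoc, inf_eq_right.mpr hle]
    have h1 := ih.1.inf_normal hK' hle hKL
    have h2 := ih.1.inf_centralizer_le hK' hle hKL
    rw [e] at h1 h2
    refine ⟨h1, ?_⟩
    refine le_trans (le_inf (inf_le_left.trans hle) h2) ih.2

end steps


section conj

open Cfsg.Agent.Lib.Lead.Conj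

variable {H : Type*} [Group H] {p : ℕ}

theorem mem_centralizer_map_conj_iff (V : Subgroup H) (g c : H) :
    c ∈ Subgroup.centralizer ((V.map (MulAut.conj g).toMonoidHom : Subgroup H) : Set H) ↔
      g⁻¹ * c * g ∈ Subgroup.centralizer (V : Set H) := by
  rw [Subgroup.mem_centralizer_iff, Subgroup.mem_centralizer_iff]
  constructor
  · intro h v hv
    have h1 := h (g * v * g⁻¹) (conj_mem_map_conj V g hv)
    calc v * (g⁻¹ * c * g) = g⁻¹ * ((g * v * g⁻¹) * c) * g := by group
      _ = g⁻¹ * (c * (g * v * g⁻¹)) * g := by rw [h1]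
      _ = g⁻¹ * c * g * v := by group
  · intro h v hv
    have hv' : g⁻¹ * v * g ∈ V := (mem_map_conj V g v).mp hv
    have h1 := h _ hv'
    calc v * c = g * ((g⁻¹ * v * g) * (g⁻¹ * c * g)) * g⁻¹ := by group
      _ = g * ((g⁻¹ * c * g) * (g⁻¹ * v * g)) * g⁻¹ := by rw [h1]
      _ = c * v := by group

variable [Finite H]

theorem map_conj_le_of_mem_normalizer {L V : Subgroup H} {g : H}
    (hg : g ∈ Subgroup.normalizer (L : Set H)) (hVL : V ≤ L) :
    V.map (MulAut.conj g).toMonoidHom ≤ L := by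
  rintro _ ⟨v, hv, rfl⟩
  exact (Subgroup.mem_normalizer_iff.mp hg v).mp (hVL hv)

theorem le_normalizer_map_conj {L V : Subgroup H} {g : H}
    (hg : g ∈ Subgroup.normalizer (L : Set H)) (hLV : L ≤ Subgroup.normalizer (V : Set H)) :
    L ≤ Subgroup.normalizer ((V.map (MulAut.conj g).toMonoidHom : Subgroup H) : Set H) := by
  intro l hl
  apply mem_normalizer_of_conj_mem
  intro r hr
  rw [mem_map_conj] at hr ⊢
  have hl' : g⁻¹ * l * g ∈ L := by
    have := (Subgroup.mem_normalizer_iff.mp (Subgroup.inv_mem _ hg) l).mp hl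
    rwa [inv_inv] at this
  have h1 := (Subgroup.mem_normalizer_iff.mp (hLV hl') _).mp hr
  have e : g⁻¹ * (l * r * l⁻¹) * g = g⁻¹ * l * g * (g⁻¹ * r * g) * (g⁻¹ * l * g)⁻¹ := by group
  rw [e]; exact h1

theorem PRedN.map_conj {L V : Subgroup H} (h : PRedN p L V) {g : H}
    (hg : g ∈ Subgroup.normalizer (L : Set H)) : PRedN p L (V.map (MulAut.conj g).toMonoidHom) := by
  obtain ⟨hVL, hLV, hc, he, hD⟩ := h
  have hg' : g⁻¹ ∈ Subgroup.normalizer (L : Set H) := Subgroup.inv_mem _ hg
  refine ⟨map_conj_le_of_mem_normalizer hg hVL, le_normalizer_map_conj hg hLV, ?_, ?_, ?_⟩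
  · intro a ha b hb
    rw [mem_map_conj] at ha hb
    have h1 := hc _ ha _ hb
    calc a * b = g * ((g⁻¹ * a * g) * (g⁻¹ * b * g)) * g⁻¹ := by group
      _ = g * ((g⁻¹ * b * g) * (g⁻¹ * a * g)) * g⁻¹ := by rw [h1]
      _ = b * a := by group
  · intro a ha
    rw [mem_map_conj] at ha
    have h1 := he _ ha
    have e : (g⁻¹ * a * g) ^ p = g⁻¹ * a ^ p * g := by
      have := conj_pow (a := g⁻¹) (b := a) (i := p)
      rwa [inv_inv] at this
    rw [e] at h1
    calc a ^ p = g * (g⁻¹ * a ^ p * g) * g⁻¹ := by group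
      _ = 1 := by rw [h1]; group
  · intro D hDL hLD hDp
    have h1 : D.map (MulAut.conj g⁻¹).toMonoidHom ≤ Subgroup.centralizer (V : Set H) := by
      apply hD _ (map_conj_le_of_mem_normalizer hg' hDL) (le_normalizer_map_conj hg' hLD)
      intro x hx
      rw [mem_map_conj, inv_inv] at hx
      obtain ⟨k, hk⟩ := hDp _ hx
      refine ⟨k, ?_⟩
      rw [mem_centralizer_map_conj_iff] at hk
      have e : (g * x * g⁻¹) ^ p ^ k = g * x ^ p ^ k * g⁻¹ := conj_pow
      rw [e] at hk
      have e2 : g⁻¹ * (g * x ^ p ^ k * g⁻¹) * g = x ^ p ^ k := by group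
      rwa [e2] at hk
    intro d hd
    rw [mem_centralizer_map_conj_iff]
    apply h1
    rw [mem_map_conj, inv_inv]
    have e : g * (g⁻¹ * d * g) * g⁻¹ = d := by group
    rw [e]; exact hd

theorem normalizer_le_normalizer_largestPReducedOf (L : Subgroup H) :
    Subgroup.normalizer (L : Set H) ≤
      Subgroup.normalizer ((largestPReducedOf p L : Subgroup H) : Set H) := by
  intro g hg
  apply mem_normalizer_of_conj_mem
  intro r hr
  have h1 := ((pRedN_largestPReducedOf (p := p) L).map_conj hg).le_largestPReducedOf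
  exact h1 (conj_mem_map_conj _ g hr)

end conj


section b2

open Cfsg.Agent.Lib.Lead.Conj

variable {H : Type*} [Group H] [Finite H] {p : ℕ} [Fact p.Prime]

omit [Finite H] [Fact p.Prime] in
theorem mem_centralizer_of_le_sup {A B D : Subgroup H} (hD : D ≤ A ⊔ B) {z : H}
    (hA : z ∈ Subgroup.centralizer (A : Set H)) (hB : z ∈ Subgroup.centralizer (B : Set H)) :
    z ∈ Subgroup.centralizer (D : Set H) := by
  have h1 : z ∈ Subgroup.centralizer ((A ⊔ B : Subgroup H) : Set H) := by
    rw [centralizer_sup_eq]; exact ⟨hA, hB⟩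
  exact Subgroup.centralizer_le (show (D : Set H) ⊆ ((A ⊔ B : Subgroup H) : Set H) from hD) h1

/-- a subgroup acting as a `p`-group on a nontrivial `p`-group has a nontrivial fixed point -/
theorem exists_fixed_point {D U : Subgroup H} (hUp : IsPGroup p ↥U) (hU : U ≠ ⊥)
    (hDU : D ≤ Subgroup.normalizer (U : Set H))
    (hDp : ∀ x ∈ D, ∃ k : ℕ, x ^ p ^ k ∈ Subgroup.centralizer (U : Set H)) :
    ∃ z ∈ U, z ≠ 1 ∧ z ∈ Subgroup.centralizer (D : Set H) := by
  obtain ⟨S⟩ : Nonempty (Sylow p ↥D) := inferInstance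
  have hT := IsSylowIn.of_sylow S
  obtain ⟨T, hTdef⟩ : ∃ T : Subgroup H, T = (S : Subgroup ↥D).map D.subtype := ⟨_, rfl⟩
  rw [← hTdef] at hT
  have hTp : IsPGroup p ↥T := hT.isPGroup
  have hTD : T ≤ D := hT.1
  have hQp : IsPGroup p ↥(U ⊔ T : Subgroup H) :=
    IsPGroup.to_sup_of_normal_left' hUp hTp (hTD.trans hDU)
  have hUQ : U ≤ U ⊔ T := le_sup_left
  haveI : (U.subgroupOf (U ⊔ T)).Normal := by
    apply (Subgroup.normal_subgroupOf_iff_le_normalizer hUQ).mpr
    exact sup_le Subgroup.le_normalizer (hTD.trans hDU)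
  have hne : U.subgroupOf (U ⊔ T) ≠ ⊥ := by
    intro h
    apply hU
    rw [eq_bot_iff]
    intro u hu
    have : (⟨u, hUQ hu⟩ : ↥(U ⊔ T)) ∈ U.subgroupOf (U ⊔ T) := Subgroup.mem_subgroupOf.mpr hu
    rw [h, Subgroup.mem_bot] at this
    exact congrArg Subtype.val this
  obtain ⟨z, hzU, hzZ, hz1⟩ := Cfsg.Agent.Lib.Lead.PGroup.exists_mem_center_of_normal hQp _ hne
  refine ⟨(z : H), Subgroup.mem_subgroupOf.mp hzU, ?_, ?_⟩
  · intro h
    apply hz1
    exact Subtype.ext h
  · -- `D ≤ O^p(D) T`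
    have hRes : pRes p D ≤ Subgroup.centralizer (U : Set H) := by
      unfold pRes
      rw [Subgroup.closure_le]
      rintro x ⟨hxD, hxc⟩
      obtain ⟨k, hk⟩ := hDp x hxD
      exact mem_of_pow_mem_of_coprime hxc hk
    have hsup : D ≤ pRes p D ⊔ T := by
      have h1 := Cfsg.Agent.Lib.Lead.PResidual.sup_eq_top (p := p) (S : Subgroup ↥D) S.not_dvd_index
      intro x hx
      have hx' : (⟨x, hx⟩ : ↥D) ∈ (S : Subgroup ↥D) ⊔ pResidual p ↥D := by rw [h1]; trivial
      have h2 := Subgroup.mem_map_of_mem D.subtype hx'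
      rw [Subgroup.map_sup, ← hTdef, pResidual_map_subtype_eq, sup_comm] at h2
      exact h2
    apply mem_centralizer_of_le_sup hsup
    · apply Subgroup.mem_centralizer_iff.mpr
      intro r hr
      have := Subgroup.mem_centralizer_iff.mp (hRes hr) (z : H) (Subgroup.mem_subgroupOf.mp hzU)
      exact this.symm
    · apply Subgroup.mem_centralizer_iff.mpr
      intro t ht
      have := Subgroup.mem_center_iff.mp hzZ ⟨t, (le_sup_right : T ≤ U ⊔ T) ht⟩
      exact congrArg Subtype.val this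

omit [Fact p.Prime] in
theorem normalizer_le_normalizer_centralizer_set (Q : Subgroup H) :
    Subgroup.normalizer (Q : Set H) ≤
      Subgroup.normalizer ((Subgroup.centralizer (Q : Set H) : Subgroup H) : Set H) :=
  normalizer_le_normalizer_centralizer Q

/-- the descending fixed-point argument -/
theorem exists_pRedN_le {K L Y : Subgroup H} (hLK : L ≤ K)
    (hKL : K ≤ Subgroup.normalizer (L : Set H)) (hY : PRedN p L Y) (n : ℕ) :
    ∀ X : Subgroup H, Nat.card ↥X = n → X ≤ Y → K ≤ Subgroup.normalizer (X : Set H) →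
      L ⊓ Subgroup.centralizer (X : Set H) ≤ Subgroup.centralizer (Y : Set H) →
      ∃ X' : Subgroup H, X' ≤ X ∧ PRedN p K X' ∧
        L ⊓ Subgroup.centralizer (X' : Set H) ≤ Subgroup.centralizer (Y : Set H) := by
  induction n using Nat.strong_induction_on with
  | _ n ih =>
  intro X hcard hXY hKX hX
  have hY' := hY
  obtain ⟨hYL, hLY, hcY, heY, hDY⟩ := hY'
  by_cases hred : PRedN p K X
  · exact ⟨X, le_rfl, hred, hX⟩
  have hXK : X ≤ K := (hXY.trans hYL).trans hLK
  have hcX : ∀ a ∈ X, ∀ b ∈ X, a * b = b * a := fun a ha b hb => hcY a (hXY ha) b (hXY hb)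
  have heX : ∀ a ∈ X, a ^ p = 1 := fun a ha => heY a (hXY ha)
  have hcl : ¬ ∀ D : Subgroup H, D ≤ K → K ≤ Subgroup.normalizer (D : Set H) →
      (∀ x ∈ D, ∃ k : ℕ, x ^ p ^ k ∈ Subgroup.centralizer (X : Set H)) →
        D ≤ Subgroup.centralizer (X : Set H) := fun h => hred ⟨hXK, hKX, hcX, heX, h⟩
  push Not at hcl
  obtain ⟨D, hDK, hKD, hDp, hDX⟩ := hcl
  have hCXY : Subgroup.centralizer (Y : Set H) ≤ Subgroup.centralizer (X : Set H) :=
    Subgroup.centralizer_le hXY
  obtain ⟨X₀, hX₀⟩ : ∃ X₀ : Subgroup H, X₀ = X ⊓ Subgroup.centralizer (D : Set H) := ⟨_, rfl⟩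
  have hX₀X : X₀ ≤ X := by rw [hX₀]; exact inf_le_left
  have hX₀ne : X₀ ≠ X := by
    intro h
    apply hDX
    have : X ≤ Subgroup.centralizer (D : Set H) := by
      rw [← h, hX₀]; exact inf_le_right
    exact Subgroup.le_centralizer_iff.mp this
  have hlt : Nat.card ↥X₀ < n := by
    rw [← hcard]
    exact Cfsg.Agent.Lib.Lead.Subnormal.card_lt_card_of_lt (lt_of_le_of_ne hX₀X hX₀ne)
  have hKX₀ : K ≤ Subgroup.normalizer (X₀ : Set H) := by
    rw [hX₀]
    exact le_trans (le_inf hKX (hKD.trans (normalizer_le_normalizer_centralizer_set D)))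
      (normalizer_inf_le_normalizer_inf _ _)
  have key : L ⊓ Subgroup.centralizer (X₀ : Set H) ≤ Subgroup.centralizer (Y : Set H) := by
    obtain ⟨B, hB⟩ : ∃ B : Subgroup H, B = L ⊓ Subgroup.centralizer (X₀ : Set H) := ⟨_, rfl⟩
    rw [← hB]
    have hBL : B ≤ L := by rw [hB]; exact inf_le_left
    have hLB : L ≤ Subgroup.normalizer (B : Set H) := by
      rw [hB]
      exact le_trans (le_inf Subgroup.le_normalizer
        ((hLK.trans hKX₀).trans (normalizer_le_normalizer_centralizer_set X₀)))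
        (normalizer_inf_le_normalizer_inf _ _)
    apply hDY B hBL hLB
    intro b hb
    obtain ⟨a, ha⟩ := exists_pow_coprime (p := p) b
    refine ⟨a, ?_⟩
    obtain ⟨b', hb'⟩ : ∃ b' : H, b' = b ^ p ^ a := ⟨_, rfl⟩
    rw [← hb'] at ha ⊢
    have hb'B : b' ∈ B := by rw [hb']; exact Subgroup.pow_mem _ hb _
    have hb'L : b' ∈ L := hBL hb'B
    have hb'K : b' ∈ K := hLK hb'L
    apply hX
    refine ⟨hb'L, ?_⟩
    by_contra hnot
    -- `E = [D, L]` centralizes `X`
    obtain ⟨E, hE⟩ : ∃ E : Subgroup H, E = ⁅D, L⁆ := ⟨_, rfl⟩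
    have hED : E ≤ D := by rw [hE]; exact commutator_le_left_of_le_normalizer D L (hLK.trans hKD)
    have hEL : E ≤ L := by
      rw [hE, Subgroup.commutator_comm]
      exact commutator_le_left_of_le_normalizer L D (hDK.trans hKL)
    have hLE : L ≤ Subgroup.normalizer (E : Set H) := by
      rw [hE]
      exact le_trans (le_inf (hLK.trans hKD) Subgroup.le_normalizer)
        (normalizer_inf_le_normalizer_commutator D L)
    have hEY : E ≤ Subgroup.centralizer (Y : Set H) := by
      apply hDY E hEL hLE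
      intro e he
      obtain ⟨k, hk⟩ := hDp e (hED he)
      exact ⟨k, hX ⟨Subgroup.pow_mem _ (hEL he) _, hk⟩⟩
    have hEX : E ≤ Subgroup.centralizer (X : Set H) := hEY.trans hCXY
    obtain ⟨Cx, hCx⟩ : ∃ Cx : Subgroup H, Cx = K ⊓ Subgroup.centralizer (X : Set H) := ⟨_, rfl⟩
    have hKCx : K ≤ Subgroup.normalizer (Cx : Set H) := by
      rw [hCx]
      exact le_trans (le_inf Subgroup.le_normalizer (hKX.trans (normalizer_le_normalizer_centralizer_set X)))
        (normalizer_inf_le_normalizer_inf _ _)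
    have hECx : E ≤ Cx := by rw [hCx]; exact le_inf (hEL.trans hLK) hEX
    obtain ⟨F, hF⟩ : ∃ F : Subgroup H, F = Cx ⊔ Subgroup.zpowers b' := ⟨_, rfl⟩
    obtain ⟨Xb, hXb⟩ : ∃ Xb : Subgroup H, Xb = ⁅X, Subgroup.zpowers b'⁆ := ⟨_, rfl⟩
    have hzK : Subgroup.zpowers b' ≤ K := by rw [Subgroup.zpowers_le]; exact hb'K
    have hXbX : Xb ≤ X := by
      rw [hXb]; exact commutator_le_left_of_le_normalizer X _ (hzK.trans hKX)
    have hXF : ⁅X, F⁆ ≤ Xb := by
      rw [Subgroup.commutator_le]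
      intro x hx f hf
      have hf' : f ∈ ((Cx ⊔ Subgroup.zpowers b' : Subgroup H) : Set H) := by rw [← hF]; exact hf
      rw [Subgroup.coe_mul_of_right_le_normalizer_left Cx (Subgroup.zpowers b') (hzK.trans hKCx),
        Set.mem_mul] at hf'
      obtain ⟨c, hc, g, hg, rfl⟩ := hf'
      have hgx : g * x⁻¹ * g⁻¹ ∈ X :=
        (Subgroup.mem_normalizer_iff.mp (hKX (hzK hg)) x⁻¹).mp (X.inv_mem hx)
      have hc' : c ∈ Subgroup.centralizer (X : Set H) := by
        have : c ∈ Cx := hc
        rw [hCx] at this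
        exact this.2
      have hcc : (g * x⁻¹ * g⁻¹) * c = c * (g * x⁻¹ * g⁻¹) := Subgroup.mem_centralizer_iff.mp hc' _ hgx
      have e : ⁅x, c * g⁆ = ⁅x, g⁆ := by
        rw [commutatorElement_def, commutatorElement_def]
        calc x * (c * g) * x⁻¹ * (c * g)⁻¹ = x * (c * (g * x⁻¹ * g⁻¹)) * c⁻¹ := by group
          _ = x * ((g * x⁻¹ * g⁻¹) * c) * c⁻¹ := by rw [hcc]
          _ = x * g * x⁻¹ * g⁻¹ := by group
      rw [e, hXb]
      exact Subgroup.commutator_mem_commutator hx hg
    have hDF : D ≤ Subgroup.normalizer (F : Set H) := by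
      intro d hd
      apply mem_normalizer_of_conj_mem
      intro f hf
      have hle : F.map (MulAut.conj d).toMonoidHom ≤ F := by
        rw [hF, Subgroup.map_sup]
        apply sup_le
        · exact (map_conj_le_of_mem_normalizer (hKCx (hDK hd)) le_rfl).trans le_sup_left
        · rw [MonoidHom.map_zpowers, Subgroup.zpowers_le]
          show d * b' * d⁻¹ ∈ Cx ⊔ Subgroup.zpowers b'
          have e : d * b' * d⁻¹ = ⁅d, b'⁆ * b' := by rw [commutatorElement_def]; group
          rw [e]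
          refine Subgroup.mul_mem_sup (hECx ?_) (Subgroup.mem_zpowers b')
          rw [hE]
          exact Subgroup.commutator_mem_commutator hd hb'L
      exact hle ⟨f, hf, rfl⟩
    have hXbeq : ⁅X, F⁆ = Xb := by
      apply le_antisymm hXF
      rw [hXb, hF]
      exact Subgroup.commutator_mono le_rfl le_sup_right
    have hDXb : D ≤ Subgroup.normalizer (Xb : Set H) := by
      rw [← hXbeq]
      exact le_trans (le_inf (hDK.trans hKX) hDF) (normalizer_inf_le_normalizer_commutator X F)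
    have hXbne : Xb ≠ ⊥ := by
      intro h
      apply hnot
      rw [hXb, Subgroup.commutator_eq_bot_iff_le_centralizer] at h
      have h' : Subgroup.zpowers b' ≤ Subgroup.centralizer (X : Set H) := Subgroup.le_centralizer_iff.mp h
      exact h' (Subgroup.mem_zpowers b')
    have hXp : IsPGroup p ↥X := isPGroup_of_exp heX
    have hXbp : IsPGroup p ↥Xb := hXp.to_le hXbX
    obtain ⟨z, hzXb, hz1, hzD⟩ := exists_fixed_point hXbp hXbne hDXb (fun x hx => by
      obtain ⟨k, hk⟩ := hDp x hx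
      exact ⟨k, Subgroup.centralizer_le (show (Xb : Set H) ⊆ X from hXbX) hk⟩)
    have hzX₀ : z ∈ X₀ := by rw [hX₀]; exact ⟨hXbX hzXb, hzD⟩
    have hb'C : Subgroup.zpowers b' ≤ Subgroup.centralizer (X₀ : Set H) := by
      rw [Subgroup.zpowers_le]
      rw [hB] at hb'B
      exact hb'B.2
    have hzb : z ∈ Subgroup.centralizer ((Subgroup.zpowers b' : Subgroup H) : Set H) := by
      apply Subgroup.mem_centralizer_iff.mpr
      intro g hg
      exact (Subgroup.mem_centralizer_iff.mp (hb'C hg) z hzX₀).symm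
    have hXab : IsMulCommutative ↥X := ⟨⟨fun a b => Subtype.ext (hcX a a.2 b b.2)⟩⟩
    have hcop : (Nat.card ↥(Subgroup.zpowers b')).Coprime (Nat.card ↥X) := by
      obtain ⟨m, hm⟩ := IsPGroup.iff_card.mp hXp
      rw [hm, Nat.card_zpowers]
      exact Nat.Coprime.pow_right m ha
    have hfit := Cfsg.Agent.H1.commutator_inf_centralizer_eq_bot_of_abelian X (Subgroup.zpowers b') hXab
      (hzK.trans hKX) hcop
    have hzmem : z ∈ ⁅X, Subgroup.zpowers b'⁆ ⊓
        Subgroup.centralizer ((Subgroup.zpowers b' : Subgroup H) : Set H) := by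
      refine ⟨?_, hzb⟩
      rw [← hXb]; exact hzXb
    rw [hfit, Subgroup.mem_bot] at hzmem
    exact hz1 hzmem
  obtain ⟨X', hX'X₀, hP, hC⟩ := ih _ hlt X₀ rfl (hX₀X.trans hXY) hKX₀ key
  exact ⟨X', hX'X₀.trans hX₀X, hP, hC⟩

theorem inf_centralizer_le_centralizer_largestPReducedOf {K L : Subgroup H} (hLK : L ≤ K)
    (hKL : K ≤ Subgroup.normalizer (L : Set H)) :
    L ⊓ Subgroup.centralizer ((largestPReducedOf p K ⊓ L : Subgroup H) : Set H) ≤
      Subgroup.centralizer ((largestPReducedOf p L : Subgroup H) : Set H) := by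
  have hY := pRedN_largestPReducedOf (p := p) L
  have hKY : K ≤ Subgroup.normalizer ((largestPReducedOf p L : Subgroup H) : Set H) :=
    hKL.trans (normalizer_le_normalizer_largestPReducedOf L)
  obtain ⟨X', hX'Y, hP, hC⟩ :=
    exists_pRedN_le hLK hKL hY _ (largestPReducedOf p L) rfl le_rfl hKY inf_le_right
  have h1 : X' ≤ largestPReducedOf p K ⊓ L := le_inf hP.le_largestPReducedOf (hX'Y.trans hY.1)
  exact le_trans (inf_le_inf_left L (Subgroup.centralizer_le h1)) hC

theorem inf_centralizer_le_of_subnormal {L : Subgroup H} (hL : L.IsSubnormal) :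
    L ⊓ Subgroup.centralizer ((largestPReduced p H : Subgroup H) : Set H) ≤
      Subgroup.centralizer ((largestPReducedOf p L : Subgroup H) : Set H) := by
  induction hL with
  | top =>
    have h1 : largestPReducedOf p (⊤ : Subgroup H) ≤ largestPReduced p H :=
      le_largestPReduced (pRedN_top_iff.mp (pRedN_largestPReducedOf (p := p) ⊤))
    exact inf_le_right.trans (Subgroup.centralizer_le h1)
  | step L' K' hle hK' hN ih =>
    have hKL : K' ≤ Subgroup.normalizer (L' : Set H) :=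
      (Subgroup.normal_subgroupOf_iff_le_normalizer hle).mp hN
    have h1 := inf_centralizer_le_centralizer_largestPReducedOf (p := p) hle hKL
    refine le_trans (le_inf inf_le_left ?_) h1
    calc L' ⊓ Subgroup.centralizer ((largestPReduced p H : Subgroup H) : Set H)
        ≤ K' ⊓ Subgroup.centralizer ((largestPReduced p H : Subgroup H) : Set H) :=
          inf_le_inf_right _ hle
      _ ≤ Subgroup.centralizer ((largestPReducedOf p K' : Subgroup H) : Set H) := ih
      _ ≤ Subgroup.centralizer ((largestPReducedOf p K' ⊓ L' : Subgroup H) : Set H) :=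
          Subgroup.centralizer_le inf_le_left

/-- S2825 -/
theorem pReduced_meet_subnormal (L : Subgroup H) (hL : L.IsSubnormal) :
    Cfsg.largestPReduced p H ⊓ L = Cfsg.largestPReduced p H ⊓ (Cfsg.largestPReducedOf p L) ∧
    Cfsg.IsPReducedNormal p ((Cfsg.largestPReduced p H ⊓ L).subgroupOf L) ∧
    L ⊓ Subgroup.centralizer ((Cfsg.largestPReducedOf p L : Subgroup H) : Set H) =
      L ⊓ Subgroup.centralizer (Cfsg.largestPReduced p H : Set H) ∧
    L ⊓ Subgroup.centralizer (Cfsg.largestPReduced p H : Set H) =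
      L ⊓ Subgroup.centralizer ((Cfsg.largestPReduced p H ⊓ L : Subgroup H) : Set H) ∧
    (Cfsg.pResidual p H ≤ L → (⁅(Cfsg.largestPReducedOf p L), L⁆ = ⊥ ↔
      ⁅Cfsg.largestPReduced p H, (⊤ : Subgroup H)⁆ = ⊥)) := by
  have hW := pRedN_largestPReduced (p := p) (H := H)
  obtain ⟨h1, h2⟩ := hW.inf_subnormal hL
  have h3 := inf_centralizer_le_of_subnormal (p := p) hL
  have hle : largestPReduced p H ⊓ L ≤ largestPReducedOf p L := h1.le_largestPReducedOf
  have hYL : largestPReducedOf p L ≤ L := Subgroup.map_subtype_le _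
  refine ⟨?_, (pRedN_iff inf_le_right).mp h1, ?_, ?_, ?_⟩
  · exact le_antisymm (le_inf inf_le_left hle) (inf_le_inf_left _ hYL)
  · apply le_antisymm
    · refine le_inf inf_le_left ?_
      exact le_trans (inf_le_inf_left L (Subgroup.centralizer_le hle)) h2
    · exact le_inf inf_le_left h3
  · apply le_antisymm
    · exact inf_le_inf_left L (Subgroup.centralizer_le inf_le_left)
    · exact le_inf inf_le_left h2
  · intro hRL
    constructor
    · intro h
      rw [Subgroup.commutator_eq_bot_iff_le_centralizer] at h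
      have hLC : L ≤ Subgroup.centralizer ((largestPReducedOf p L : Subgroup H) : Set H) :=
        Subgroup.le_centralizer_iff.mp h
      have hLW : L ≤ Subgroup.centralizer (largestPReduced p H : Set H) := by
        refine le_trans (le_inf le_rfl (hLC.trans (Subgroup.centralizer_le hle))) h2
      have htop : (⊤ : Subgroup H) ≤ Subgroup.centralizer (largestPReduced p H : Set H) := by
        apply hW.2.2.2.2 ⊤ le_rfl Subgroup.le_normalizer
        intro x _
        obtain ⟨a, ha⟩ := exists_pow_coprime (p := p) x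
        refine ⟨a, hLW (hRL ?_)⟩
        exact Subgroup.subset_closure ha
      rw [Subgroup.commutator_eq_bot_iff_le_centralizer]
      exact Subgroup.le_centralizer_iff.mp htop
    · intro h
      rw [Subgroup.commutator_eq_bot_iff_le_centralizer] at h
      have htop : (⊤ : Subgroup H) ≤ Subgroup.centralizer (largestPReduced p H : Set H) :=
        Subgroup.le_centralizer_iff.mp h
      have hLC : L ≤ Subgroup.centralizer ((largestPReducedOf p L : Subgroup H) : Set H) :=
        le_trans (le_inf le_rfl (le_top.trans htop)) h3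
      rw [Subgroup.commutator_eq_bot_iff_le_centralizer]
      exact Subgroup.le_centralizer_iff.mp hLC

end b2

end Cfsg.Agent.Lib.Helper7
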