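import Mathlib
import Cfsg.Prelude.Def_LocalStructure
import Cfsg.Agent.Lib.Helper7.Asym
import Cfsg.Agent.Lib.Helper7.CharP2
import Cfsg.Agent.Lib.Helper7.PReducedMeet

set_option autoImplicit false

namespace Cfsg.Agent.Lib.Helper7.AsymH

open Cfsg Cfsg.Agent.Lib.Helper7 Cfsg.Agent.Lib.Lead.Conj Cfsg.Agent.Lib.Helper7.LargeComm
  Cfsg.Agent.Lib.Helper7.Asym
open scoped Pointwise commutatorElement

variable {G : Type*} [Group G] {p : ℕ}

theorem cj_pCoreOf_le (g : G) (L : Subgroup G) : cj g (pCoreOf p L) ≤ pCoreOf p (cj g L) := by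
  refine le_pCoreOf (cj_mono g (pCoreOf_le L)) ?_ (isPGroup_cj g (pCoreOf_isPGroup L))
  rw [normalizer_cj]
  exact cj_mono g (le_normalizer_pCoreOf L)

theorem pCoreOf_cj (g : G) (L : Subgroup G) : pCoreOf p (cj g L) = cj g (pCoreOf p L) := by
  apply le_antisymm _ (cj_pCoreOf_le g L)
  have h := cj_pCoreOf_le (p := p) g⁻¹ (cj g L)
  rw [cj_inv_cj] at h
  have := cj_mono g h
  rwa [cj_cj_inv] at this

/-- conjugate subgroups are isomorphic -/
noncomputable def cjEquiv (g : G) (L : Subgroup G) : ↥L ≃* ↥(cj g L) :=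
  L.equivMapOfInjective (MulAut.conj g).toMonoidHom (MulAut.conj g).injective


variable [Finite G] [Fact p.Prime] {M Y C Md R : Subgroup G}

/-- `O_p(M)` is normal in every `p`-subgroup containing it. -/
theorem _root_.Cfsg.Agent.Lib.Helper7.Asym.Ctx.le_normalizer_of_isPGroup (h : Ctx p M Y C Md R) {T : Subgroup G}
    (hTp : IsPGroup p ↥T) (hRT : R ≤ T) : T ≤ Subgroup.normalizer (R : Set G) :=
  Subgroup.le_normalizer.trans (h.normalizer_le hTp hRT).1

/-- In a subgroup `L ≥ O_p(M)` of characteristic `p`, every subgroup containing `O_p(M)` has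
characteristic `p`. -/
theorem _root_.Cfsg.Agent.Lib.Helper7.Asym.Ctx.charP_of_le (h : Ctx p M Y C Md R) (hCR : Subgroup.centralizer (R : Set G) ≤ R)
    {L : Subgroup G} (hL : Subgroup.centralizer (pCore p ↥L : Set ↥L) ≤ pCore p ↥L)
    {H : Subgroup G} (hRH : R ≤ H) (hHL : H ≤ L) :
    Subgroup.centralizer (pCore p ↥H : Set ↥H) ≤ pCore p ↥H := by
  have hRL : R ≤ L := hRH.trans hHL
  obtain ⟨T, hT⟩ := (h.hRp.comap_subtype (K := L)).exists_le_sylow
  have hT'p : IsPGroup p ↥((T : Subgroup ↥L).map L.subtype) := T.isPGroup'.map _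
  have hRT' : R ≤ (T : Subgroup ↥L).map L.subtype := by
    intro x hx
    exact ⟨⟨x, hRL hx⟩, hT (Subgroup.mem_subgroupOf.mpr hx), rfl⟩
  have hn := h.le_normalizer_of_isPGroup hT'p hRT'
  have hQn : (T : Subgroup ↥L) ≤ Subgroup.normalizer ((R.subgroupOf L : Subgroup ↥L) : Set ↥L) := by
    intro t ht
    have h1 : (t : G) ∈ Subgroup.normalizer (R : Set G) := hn ⟨t, ht, rfl⟩
    rw [Subgroup.mem_normalizer_iff] at h1 ⊢
    intro x
    rw [Subgroup.mem_subgroupOf, Subgroup.mem_subgroupOf]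
    exact h1 (x : G)
  have hC : (T : Subgroup ↥L) ⊓ Subgroup.centralizer ((R.subgroupOf L : Subgroup ↥L) : Set ↥L) ≤
      R.subgroupOf L := by
    intro x hx
    rw [Subgroup.mem_subgroupOf]
    exact hCR ((mem_centralizer_subgroupOf_iff hRL x).mp hx.2)
  have h1 := charP_of_overgroup_of_self_centralizing hL T (R.subgroupOf L) hT hQn hC
    (H.subgroupOf L) (Subgroup.subgroupOf_mono _ hRH)
  exact IsCharP.of_equiv (Subgroup.subgroupOfEquivOfLe hHL) h1

theorem _root_.Cfsg.Agent.Lib.Helper7.Asym.Ctx.exists_frakH (h : Ctx p M Y C Md R) (hCR : Subgroup.centralizer (R : Set G) ≤ R)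
    (hR : R = pCoreOf p M) (hY : Y = largestPReducedOf p M)
    (htall : IsCharPTall p Y) : ∃ H : Subgroup G, IsInFrakH p M H := by
  obtain ⟨T, L₀, hTL₀, hL₀, hYL₀⟩ := htall
  have hT' : IsSylowIn p ((T : Subgroup ↥(Subgroup.centralizer (Y : Set G))).map
      (Subgroup.centralizer (Y : Set G)).subtype) (Subgroup.centralizer (Y : Set G)) :=
    IsSylowIn.of_sylow T
  have hRs : IsSylowIn p R (Subgroup.centralizer (Y : Set G)) := h.hC ▸ h.hRsyl
  obtain ⟨c, hc, hcR⟩ := hT'.conj hRs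
  obtain ⟨L, hLdef⟩ : ∃ L, L = cj c L₀ := ⟨_, rfl⟩
  have hRL : R ≤ L := by
    rw [hcR, hLdef]; exact cj_mono c hTL₀
  have hL : Subgroup.centralizer (pCore p ↥L : Set ↥L) ≤ pCore p ↥L := by
    rw [hLdef]
    exact IsCharP.of_equiv (cjEquiv c L₀) hL₀
  have hYL : ¬ Y ≤ pCoreOf p L := by
    intro hle
    apply hYL₀
    rw [hLdef, pCoreOf_cj] at hle
    have hcY : cj c⁻¹ Y = Y :=
      cj_eq_of_mem_normalizer (Subgroup.centralizer_le_normalizer _ (Subgroup.inv_mem _ hc))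
    have h2 := cj_mono c⁻¹ hle
    rw [cj_inv_cj, hcY] at h2
    exact h2
  -- minimal member
  obtain ⟨H, hHL, hHmin⟩ := (Set.toFinite {H : Subgroup G | R ≤ H ∧ H ≤ L ∧ ¬ Y ≤ pCoreOf p H}
    ).exists_le_minimal (a := L) ⟨hRL, le_rfl, hYL⟩
  obtain ⟨⟨hRH, -, hYH⟩, hmin⟩ := hHmin
  refine ⟨H, h.charP_of_le hCR hL hRH hHL, hR ▸ hRH, hY ▸ hYH, ?_⟩
  intro P hRP hPH
  rw [← hR] at hRP
  rw [← hY]
  by_contra hYP
  have := hmin ⟨hRP, hPH.le.trans hHL, hYP⟩ hPH.le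
  exact absurd this (not_le_of_gt hPH)


theorem frakH_nonempty (S : Sylow p G) (Q : Subgroup G) (hQp : IsPGroup p ↥Q) (hQ1 : Q ≠ ⊥)
    (hQ : Cfsg.IsLarge Q) (M : Subgroup G) (hSM : (S : Subgroup G) ≤ M)
    (hM : Cfsg.IsInFrakM p M) (htall : Cfsg.IsCharPTall p (Cfsg.largestPReducedOf p M))
    (hasym : ¬ Cfsg.IsSymmetricIn (Cfsg.largestPReducedOf p M)) :
    ∃ H : Subgroup G, Cfsg.IsInFrakH p M H :=
  (ctx_of_frakM S Q hQp hQ1 hQ M hSM hM hasym).exists_frakH hM.1.2 rfl rfl htall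

end Cfsg.Agent.Lib.Helper7.AsymH
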