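import Mathlib
import Cfsg.Prelude.Def_LocalStructure
import Cfsg.Agent.Lib.Helper7.Asym
import Cfsg.Agent.Lib.Helper7.PReducedMeet
import Cfsg.Agent.H2.Layer

set_option autoImplicit false

namespace Cfsg.Agent.Lib.Helper7.AsymY

open Cfsg Cfsg.Agent.Lib.Helper7 Cfsg.Agent.Lib.Lead.Conj Cfsg.Agent.Lib.Helper7.LargeComm
  Cfsg.Agent.Lib.Helper7.Asym
open scoped Pointwise commutatorElement

/-- In a finite group `X` with `O_p(X) = 1`, a `p`-subgroup normalized by `F*(X)` is trivial. -/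
theorem eq_bot_of_fstar_normalizes {X : Type*} [Group X] [Finite X] {p : ℕ} [Fact p.Prime]
    (hO : pCore p X = ⊥) (P : Subgroup X) (hP : IsPGroup p ↥P)
    (hF : generalizedFittingSubgroup X ≤ Subgroup.normalizer (P : Set X)) : P = ⊥ := by
  obtain ⟨Fs, hFs⟩ : ∃ Fs, Fs = generalizedFittingSubgroup X := ⟨_, rfl⟩
  rw [← hFs] at hF
  have hFn : Fs.Normal := hFs ▸ Cfsg.Agent.H2.generalizedFittingSubgroup_normal
  have h1 : P ⊓ Fs = ⊥ := by
    have hn : Fs ≤ Subgroup.normalizer ((P ⊓ Fs : Subgroup X) : Set X) :=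
      (le_inf hF Subgroup.le_normalizer).trans Subgroup.inf_normalizer_le_normalizer_inf
    have := le_pCore_of_normal_in_normal (p := p) (inf_le_right : P ⊓ Fs ≤ Fs) hn
      (hP.to_le inf_le_left)
    rwa [hO, le_bot_iff] at this
  have h2 : ⁅P, Fs⁆ ≤ P ⊓ Fs :=
    le_inf (Subgroup.le_normalizer_iff_commutator_le_left.mp hF) (Subgroup.commutator_le_right P Fs)
  have h3 : P ≤ Subgroup.centralizer (Fs : Set X) := by
    rw [← Subgroup.commutator_eq_bot_iff_le_centralizer, eq_bot_iff, ← h1]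
    exact h2
  have h4 : P ≤ Fs := by
    refine h3.trans ?_
    rw [hFs]
    exact Cfsg.Agent.H2.centralizer_generalizedFittingSubgroup_le
  rw [eq_bot_iff, ← h1]
  exact le_inf le_rfl h4

variable {G : Type*} [Group G] [Finite G] {p : ℕ} [Fact p.Prime]

/-- If `D₀ ⊴ D`, every element of `D` has `p`-power order modulo `D₀`, and `P` is a Sylow
`p`-subgroup of `D`, then `D = D₀ P`. -/
theorem le_sup_sylow {D D₀ P : Subgroup G} (hD₀D : D₀ ≤ D)
    (hn : D ≤ Subgroup.normalizer (D₀ : Set G)) (hP : IsSylowIn p P D)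
    (hpow : ∀ x ∈ D, ∃ k : ℕ, x ^ p ^ k ∈ D₀) : D ≤ D₀ ⊔ P := by
  have hp : p.Prime := Fact.out
  have hnorm : (D₀.subgroupOf D).Normal :=
    (Subgroup.normal_subgroupOf_iff_le_normalizer hD₀D).mpr hn
  have hQ : IsPGroup p (↥D ⧸ D₀.subgroupOf D) := by
    intro q
    obtain ⟨x, rfl⟩ := QuotientGroup.mk_surjective q
    obtain ⟨k, hk⟩ := hpow (x : G) x.2
    refine ⟨k, ?_⟩
    rw [← QuotientGroup.mk_pow]
    rw [QuotientGroup.eq_one_iff, Subgroup.mem_subgroupOf, Subgroup.coe_pow]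
    exact hk
  obtain ⟨n, hn'⟩ := IsPGroup.iff_card.mp hQ
  have h1 : D₀.relIndex D = p ^ n := by
    rw [Subgroup.relIndex, Subgroup.index_eq_card]
    exact hn'
  have hE : D₀ ⊔ P ≤ D := sup_le hD₀D hP.1
  have h2 : (D₀ ⊔ P).relIndex D ∣ D₀.relIndex D := Subgroup.relIndex_dvd_of_le_left D le_sup_left
  have h3 : (D₀ ⊔ P).relIndex D ∣ P.relIndex D := Subgroup.relIndex_dvd_of_le_left D le_sup_right
  have h4 : ¬ p ∣ P.relIndex D := hP.not_dvd_relIndex
  rw [h1] at h2
  obtain ⟨m, -, hm⟩ := (Nat.dvd_prime_pow hp).mp h2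
  have hm0 : m = 0 := by
    by_contra hne
    apply h4
    refine Dvd.dvd.trans ?_ h3
    rw [hm]
    exact dvd_pow_self p hne
  rw [hm0, pow_zero] at hm
  exact Subgroup.relIndex_eq_one.mp hm


section main

variable {M Y C Md R : Subgroup G}

omit [Finite G] [Fact p.Prime] in
/-- `O_p(M†/C) = 1` from relative `p`-reducedness. -/
theorem pCore_quotient_eq_bot_of_pRedN (hC : C = Subgroup.centralizer (Y : Set G))
    (hpred : PRedN p Md Y) [hn : (C.subgroupOf Md).Normal] :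
    pCore p (↥Md ⧸ C.subgroupOf Md) = ⊥ := by
  apply pCore_quotient_eq_bot_of_forall
  intro D' hD'n hD'p
  have := hD'n
  have h1 := hpred.2.2.2.2 (D'.map Md.subtype) (Subgroup.map_subtype_le _)
    (le_normalizer_map_subtype_of_normal Md D') (by
      rintro _ ⟨x, hx, rfl⟩
      obtain ⟨k, hk⟩ := hD'p x hx
      refine ⟨k, ?_⟩
      rw [Subgroup.mem_subgroupOf, Subgroup.coe_pow, hC] at hk
      exact hk)
  intro x hx
  rw [Subgroup.mem_subgroupOf, hC]
  exact h1 ⟨x, hx, rfl⟩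

/-- A subgroup of `M†` normalized by `F` all of whose elements have `p`-power order modulo `C`
lies in `C`. -/
theorem le_of_fstar_normalizes [hn : (C.subgroupOf Md).Normal]
    (hO : pCore p (↥Md ⧸ C.subgroupOf Md) = ⊥) (F : Subgroup G)
    (hF : F = ((generalizedFittingSubgroup (↥Md ⧸ C.subgroupOf Md)).comap
      (QuotientGroup.mk' (C.subgroupOf Md))).map Md.subtype)
    {D : Subgroup G} (hDMd : D ≤ Md) (hFD : F ≤ Subgroup.normalizer (D : Set G))
    (hpow : ∀ x ∈ D, ∃ k : ℕ, x ^ p ^ k ∈ C) : D ≤ C := by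
  obtain ⟨π, hπ⟩ : ∃ π : ↥Md →* ↥Md ⧸ C.subgroupOf Md, π = QuotientGroup.mk' (C.subgroupOf Md) :=
    ⟨_, rfl⟩
  have hπs : Function.Surjective π := hπ ▸ QuotientGroup.mk'_surjective _
  have hker : π.ker = C.subgroupOf Md := hπ ▸ QuotientGroup.ker_mk' _
  rw [← hπ] at hF
  have hPp : IsPGroup p ↥((D.subgroupOf Md).map π) := by
    rintro ⟨_, ⟨d, hd, rfl⟩⟩
    obtain ⟨k, hk⟩ := hpow (d : G) (Subgroup.mem_subgroupOf.mp hd)
    refine ⟨k, ?_⟩
    apply Subtype.ext
    rw [Subgroup.coe_pow, Subgroup.coe_one, ← map_pow]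
    have : d ^ p ^ k ∈ π.ker := by
      rw [hker, Subgroup.mem_subgroupOf, Subgroup.coe_pow]
      exact hk
    exact this
  have hFn : generalizedFittingSubgroup (↥Md ⧸ C.subgroupOf Md) ≤
      Subgroup.normalizer (((D.subgroupOf Md).map π : Subgroup _) : Set _) := by
    intro fb hfb
    obtain ⟨f, rfl⟩ := hπs fb
    have hfF : (f : G) ∈ F := by
      rw [hF]
      exact ⟨f, hfb, rfl⟩
    have hfN : f ∈ Subgroup.normalizer ((D.subgroupOf Md : Subgroup ↥Md) : Set ↥Md) := by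
      have h1 := hFD hfF
      rw [Subgroup.mem_normalizer_iff] at h1 ⊢
      intro x
      rw [Subgroup.mem_subgroupOf, Subgroup.mem_subgroupOf]
      exact h1 (x : G)
    exact Subgroup.le_normalizer_map π ⟨f, hfN, rfl⟩
  have hbot := eq_bot_of_fstar_normalizes hO _ hPp hFn
  rw [Subgroup.map_eq_bot_iff, hker] at hbot
  intro d hd
  exact Subgroup.mem_subgroupOf.mp (hbot (Subgroup.mem_subgroupOf.mpr hd : (⟨d, hDMd hd⟩ : ↥Md) ∈ _))


theorem le_largestPReducedOf_of_fstar (h : Ctx p M Y C Md R) (hCMd : C ≤ Md)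
    (hpred : PRedN p Md Y) [hn : (C.subgroupOf Md).Normal] (F : Subgroup G)
    (hF : F = ((generalizedFittingSubgroup (↥Md ⧸ C.subgroupOf Md)).comap
      (QuotientGroup.mk' (C.subgroupOf Md))).map Md.subtype)
    (H : Subgroup G) (hFH : F ≤ H)
    (hH : Subgroup.centralizer (pCore p ↥H : Set ↥H) ≤ pCore p ↥H) :
    Y ≤ largestPReducedOf p H := by
  have hO := pCore_quotient_eq_bot_of_pRedN h.hC hpred
  have hFMd : F ≤ Md := by rw [hF]; exact Subgroup.map_subtype_le _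
  have hCF : C ≤ F := by
    intro c hc
    rw [hF]
    refine ⟨⟨c, hCMd hc⟩, ?_, rfl⟩
    show (QuotientGroup.mk' (C.subgroupOf Md)) ⟨c, hCMd hc⟩ ∈
      generalizedFittingSubgroup (↥Md ⧸ C.subgroupOf Md)
    have : (QuotientGroup.mk' (C.subgroupOf Md)) ⟨c, hCMd hc⟩ = 1 := by
      rw [QuotientGroup.mk'_apply, QuotientGroup.eq_one_iff, Subgroup.mem_subgroupOf]
      exact hc
    rw [this]
    exact Subgroup.one_mem _
  have hRH : R ≤ H := (h.hRC.trans hCF).trans hFH
  have hYH : Y ≤ H := h.hYR.trans hRH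
  obtain ⟨PH, hPHdef⟩ : ∃ PH, PH = pCoreOf p H := ⟨_, rfl⟩
  have hPHp : IsPGroup p ↥PH := hPHdef ▸ pCoreOf_isPGroup H
  have hHPH : H ≤ Subgroup.normalizer (PH : Set G) := hPHdef ▸ le_normalizer_pCoreOf H
  have hPHH : PH ≤ H := hPHdef ▸ pCoreOf_le H
  -- `O_p(H) ≤ M†`
  have hPHMd : PH ≤ Md := by
    have h1 : IsPGroup p ↥(PH ⊔ R) :=
      IsPGroup.to_sup_of_normal_left' hPHp h.hRp (hRH.trans hHPH)
    exact le_sup_left.trans (h.le_of_isPGroup h1 le_sup_right)
  -- `O_p(H) ≤ C`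
  have hPHC : PH ≤ C := by
    refine le_of_fstar_normalizes hO F hF hPHMd (hFH.trans hHPH) ?_
    intro x hx
    obtain ⟨k, hk⟩ := pow_eq_one_of_mem_isPGroup hPHp hx
    exact ⟨k, hk ▸ C.one_mem⟩
  -- `Y` and `O_p(H)` commute
  have hcomm : ∀ y ∈ Y, ∀ z ∈ PH, z * y = y * z := by
    intro y hy z hz
    have := hPHC hz
    rw [h.hC, Subgroup.mem_centralizer_iff] at this
    exact (this y hy).symm
  -- `Y ≤ O_p(H)`
  have hYPH : Y ≤ PH := by
    intro y hy
    have h1 : (⟨y, hYH hy⟩ : ↥H) ∈ Subgroup.centralizer (pCore p ↥H : Set ↥H) := by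
      rw [Subgroup.mem_centralizer_iff]
      intro z hz
      apply Subtype.ext
      have hz' : (z : G) ∈ PH := by rw [hPHdef]; exact ⟨z, hz, rfl⟩
      exact hcomm y hy _ hz'
    have h2 := hH h1
    rw [hPHdef]
    exact ⟨⟨y, hYH hy⟩, h2, rfl⟩
  -- the normal closure `V`
  obtain ⟨V, hVdef⟩ : ∃ V, V = nc H Y := ⟨_, rfl⟩
  have hYV : Y ≤ V := hVdef ▸ le_nc H Y
  have hVH : V ≤ H := hVdef ▸ nc_le hYH
  have hHV : H ≤ Subgroup.normalizer (V : Set G) := hVdef ▸ le_normalizer_nc H Y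
  have hgenP : ∀ g ∈ conjSet H Y, g ∈ PH := by
    rintro _ ⟨l, hl, y, hy, rfl⟩
    exact conj_mem_of_le_normalizer hHPH hl (hYPH hy)
  have hgenC : ∀ g ∈ conjSet H Y, ∀ z ∈ PH, z * g = g * z := by
    rintro _ ⟨l, hl, y, hy, rfl⟩ z hz
    have hz' : l⁻¹ * z * l ∈ PH := conj_mem_of_le_normalizer' hHPH hl hz
    have := hcomm y hy _ hz'
    calc z * (l * y * l⁻¹) = l * (l⁻¹ * z * l * y) * l⁻¹ := by group
      _ = l * (y * (l⁻¹ * z * l)) * l⁻¹ := by rw [this]
      _ = l * y * l⁻¹ * z := by group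
  have hVe : IsElementaryAbelian p V := by
    rw [hVdef]
    unfold nc
    apply isElementaryAbelian_closure
    · intro a ha b hb
      exact hgenC b hb a (hgenP a ha)
    · rintro _ ⟨l, hl, y, hy, rfl⟩
      rw [conj_pow, hpred.2.2.2.1 y hy]
      group
  obtain ⟨hVc, hVp⟩ := (isElementaryAbelian_iff V).mp hVe
  have hCV : Subgroup.centralizer (V : Set G) ≤ C := by
    rw [h.hC]
    exact Subgroup.centralizer_le hYV
  -- a Sylow `p`-subgroup of `H` containing `R`
  obtain ⟨T, hT, hRT⟩ := exists_isSylowIn_ge h.hRp hRH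
  have hTMd : T ≤ Md := h.le_of_isPGroup hT.isPGroup hRT
  have hpr : PRedN p H V := by
    refine ⟨hVH, hHV, hVc, hVp, ?_⟩
    intro D hDH hHD hDp
    -- `D ⊓ M† ≤ C`
    have hD1 : D ⊓ Md ≤ C := by
      refine le_of_fstar_normalizes hO F hF inf_le_right ?_ ?_
      · exact (le_inf (hFH.trans hHD) (hFMd.trans Subgroup.le_normalizer)).trans
          Subgroup.inf_normalizer_le_normalizer_inf
      · intro x hx
        obtain ⟨k, hk⟩ := hDp x hx.1
        exact ⟨k, hCV hk⟩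
    have hTD : IsSylowIn p (T ⊓ D) D := hT.inf_normal D hDH hHD
    have hD0n : D ≤ Subgroup.normalizer
        ((D ⊓ Subgroup.centralizer (V : Set G) : Subgroup G) : Set G) :=
      (le_inf Subgroup.le_normalizer ((hDH.trans hHV).trans
        (normalizer_le_normalizer_centralizer'' V))).trans
        Subgroup.inf_normalizer_le_normalizer_inf
    have hdec : D ≤ (D ⊓ Subgroup.centralizer (V : Set G)) ⊔ (T ⊓ D) :=
      le_sup_sylow inf_le_left hD0n hTD (fun x hx => by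
        obtain ⟨k, hk⟩ := hDp x hx
        exact ⟨k, D.pow_mem hx _, hk⟩)
    have hDC : D ≤ C := by
      refine hdec.trans (sup_le (inf_le_right.trans hCV) ?_)
      exact (le_inf inf_le_right (inf_le_left.trans hTMd)).trans hD1
    -- now `D` centralizes `V`
    rw [Subgroup.le_centralizer_iff, hVdef]
    unfold nc
    rw [Subgroup.closure_le]
    rintro _ ⟨l, hl, y, hy, rfl⟩
    show l * y * l⁻¹ ∈ Subgroup.centralizer (D : Set G)
    rw [Subgroup.mem_centralizer_iff]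
    intro d hd
    have hd' : l⁻¹ * d * l ∈ D := conj_mem_of_le_normalizer' hHD hl hd
    have h3 := hDC hd'
    rw [h.hC, Subgroup.mem_centralizer_iff] at h3
    have h4 := h3 y hy
    calc d * (l * y * l⁻¹) = l * (l⁻¹ * d * l * y) * l⁻¹ := by group
      _ = l * (y * (l⁻¹ * d * l)) * l⁻¹ := by rw [← h4]
      _ = l * y * l⁻¹ * d := by group
  exact hYV.trans hpr.le_largestPReducedOf


end main

theorem asymmetric_largestPReduced_le (S : Sylow p G) (Q : Subgroup G) (hQp : IsPGroup p ↥Q)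
    (hQ1 : Q ≠ ⊥) (hQ : Cfsg.IsLarge Q) (M : Subgroup G)
    (hSM : (S : Subgroup G) ≤ M) (hM : Cfsg.IsInFrakM p M)
    (hasym : ¬ Cfsg.IsSymmetricIn (Cfsg.largestPReducedOf p M))
    [hn : ((Subgroup.centralizer (((Cfsg.largestPReducedOf p M) : Subgroup G) : Set G)).subgroupOf
      (M ⊔ Subgroup.centralizer (((Cfsg.largestPReducedOf p M) : Subgroup G) : Set G))).Normal]
    (F : Subgroup G)
    (hF : F = ((Cfsg.generalizedFittingSubgroup
      (↥(M ⊔ Subgroup.centralizer (((Cfsg.largestPReducedOf p M) : Subgroup G) : Set G)) ⧸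
        (Subgroup.centralizer (((Cfsg.largestPReducedOf p M) : Subgroup G) : Set G)).subgroupOf
          (M ⊔ Subgroup.centralizer (((Cfsg.largestPReducedOf p M) : Subgroup G) : Set G)))).comap
      (QuotientGroup.mk' ((Subgroup.centralizer
        (((Cfsg.largestPReducedOf p M) : Subgroup G) : Set G)).subgroupOf
          (M ⊔ Subgroup.centralizer (((Cfsg.largestPReducedOf p M) : Subgroup G) : Set G))))).map
      ((M ⊔ Subgroup.centralizer (((Cfsg.largestPReducedOf p M) : Subgroup G) : Set G))).subtype)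
    (H : Subgroup G) (hFH : F ≤ H)
    (hH : Subgroup.centralizer (Cfsg.pCore p ↥H : Set ↥H) ≤ Cfsg.pCore p ↥H) :
    (Cfsg.largestPReducedOf p M) ≤ Cfsg.largestPReducedOf p H := by
  have h := ctx_of_frakM S Q hQp hQ1 hQ M hSM hM hasym
  have hpred : PRedN p (M ⊔ Subgroup.centralizer
      (((Cfsg.largestPReducedOf p M) : Subgroup G) : Set G)) (largestPReducedOf p M) := by
    have h1 := pRedN_largestPReducedOf (p := p) (M ⊔ Subgroup.centralizer
      (((Cfsg.largestPReducedOf p M) : Subgroup G) : Set G))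
    rwa [← hM.2.2.2.1] at h1
  exact le_largestPReducedOf_of_fstar h le_sup_right hpred F hF H hFH hH

end Cfsg.Agent.Lib.Helper7.AsymY
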