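import Mathlib
import Cfsg.Prelude.Def_IsolatedElements
import Cfsg.Prelude.Def_TwoFusion
import Cfsg.Agent.Lib.Helper7.Isolated

set_option autoImplicit false

namespace Cfsg.Agent.Lib.Helper7

open Cfsg

/-- Conjugates of isolated elements are isolated. -/
theorem isIsolated_conj {G : Type*} [Group G] {x : G} (hiso : IsIsolated x) (a : G) :
    IsIsolated (a * x * a⁻¹) := by
  intro g hg
  have h1 : Commute x ((a⁻¹ * g * a) * x * (a⁻¹ * g * a)⁻¹) := by
    have := hg.eq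
    show x * _ = _ * x
    have e1 : x * ((a⁻¹ * g * a) * x * (a⁻¹ * g * a)⁻¹) = a⁻¹ * ((a * x * a⁻¹) * (g * (a * x * a⁻¹) * g⁻¹)) * a := by group
    have e2 : ((a⁻¹ * g * a) * x * (a⁻¹ * g * a)⁻¹) * x = a⁻¹ * ((g * (a * x * a⁻¹) * g⁻¹) * (a * x * a⁻¹)) * a := by group
    rw [e1, e2, this]
  have h2 := hiso _ h1
  calc g * (a * x * a⁻¹) * g⁻¹ = a * ((a⁻¹ * g * a) * x * (a⁻¹ * g * a)⁻¹) * a⁻¹ := by group
    _ = a * x * a⁻¹ := by rw [h2]

/-- If `Q` is a Sylow `p`-subgroup of `G`, `N` is normal and `z ∈ QN` generates a `p`-group, then some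
`N`-conjugate of `z` lies in `Q`. -/
theorem exists_conj_mem_sylow_of_mem_sup {G : Type*} [Group G] [Finite G] {p : ℕ} [Fact p.Prime]
    (Q : Sylow p G) (N : Subgroup G) [N.Normal] (z : G) (hzp : IsPGroup p ↥(Subgroup.zpowers z))
    (hz : z ∈ N ⊔ (Q : Subgroup G)) : ∃ n ∈ N, n⁻¹ * z * n ∈ (Q : Subgroup G) := by
  have hQ : IsSylowIn p (Q : Subgroup G) (N ⊔ (Q : Subgroup G)) := IsSylowIn.of_sylow_le Q le_sup_right
  obtain ⟨P', hP', hzP'⟩ := exists_isSylowIn_ge hzp ((Subgroup.zpowers_le).mpr hz)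
  obtain ⟨h, hh, hP'Q⟩ := hQ.conj hP'
  have hz' : z ∈ P' := hzP' (Subgroup.mem_zpowers z)
  rw [hP'Q] at hz'
  obtain ⟨q, hq, hqz⟩ := hz'
  have hh' : h ∈ ((N ⊔ (Q : Subgroup G) : Subgroup G) : Set G) := hh
  rw [Subgroup.normal_mul] at hh'
  obtain ⟨n, hn, q', hq', rfl⟩ := Set.mem_mul.mp hh'
  refine ⟨n, hn, ?_⟩
  have : n⁻¹ * z * n = q' * q * q'⁻¹ := by
    rw [← hqz]
    simp [MulAut.conj_apply]
    group
  rw [this]
  exact Subgroup.mul_mem _ (Subgroup.mul_mem _ hq' hq) (Subgroup.inv_mem _ hq')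

/-- The image of an isolated `p`-element in a quotient is isolated. -/
theorem isIsolated_quotient {G : Type*} [Group G] [Finite G] {p : ℕ} [Fact p.Prime] (x : G)
    (hx : ∃ k : ℕ, orderOf x = p ^ k) (hiso : IsIsolated x) (N : Subgroup G) [N.Normal] :
    IsIsolated (QuotientGroup.mk x : G ⧸ N) := by
  intro gbar hcomm
  obtain ⟨g, rfl⟩ := QuotientGroup.mk_surjective gbar
  set y : G := g * x * g⁻¹ with hy
  set xb : G ⧸ N := QuotientGroup.mk x with hxb
  set yb : G ⧸ N := QuotientGroup.mk y with hyb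
  have hyb' : (QuotientGroup.mk g : G ⧸ N) * xb * (QuotientGroup.mk g : G ⧸ N)⁻¹ = yb := by
    simp [hyb, hy, hxb]
  rw [hyb'] at hcomm ⊢
  obtain ⟨k, hk⟩ := hx
  have hxp : IsPGroup p ↥(Subgroup.zpowers x) := IsPGroup.of_card (n := k) (by rw [Nat.card_zpowers, hk])
  have hyo : orderOf y = p ^ k := by
    rw [← hk]
    exact (SemiconjBy.orderOf_eq g (x := x) (y := y) (by rw [hy]; show g * x = g * x * g⁻¹ * g; group)).symm
  have hyp : IsPGroup p ↥(Subgroup.zpowers y) := IsPGroup.of_card (n := k) (by rw [Nat.card_zpowers, hyo])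
  -- images are p-groups
  have hxbp : IsPGroup p ↥(Subgroup.zpowers xb) := by
    have : Subgroup.zpowers xb = (Subgroup.zpowers x).map (QuotientGroup.mk' N) := by
      rw [MonoidHom.map_zpowers]; rfl
    rw [this]
    exact hxp.map _
  have hybp : IsPGroup p ↥(Subgroup.zpowers yb) := by
    have : Subgroup.zpowers yb = (Subgroup.zpowers y).map (QuotientGroup.mk' N) := by
      rw [MonoidHom.map_zpowers]; rfl
    rw [this]
    exact hyp.map _
  have hnorm : Subgroup.zpowers xb ≤ Subgroup.normalizer (Subgroup.zpowers yb : Set (G ⧸ N)) := by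
    refine le_trans ?_ (Subgroup.centralizer_le_normalizer _)  -- may need fix
    rw [Subgroup.zpowers_le]
    rw [Subgroup.mem_centralizer_iff]
    intro w hw
    obtain ⟨i, rfl⟩ := Subgroup.mem_zpowers_iff.mp hw
    exact ((hcomm.zpow_right i).eq).symm
  have hR : IsPGroup p ↥(Subgroup.zpowers xb ⊔ Subgroup.zpowers yb) :=
    hxbp.to_sup_of_normal_right' hybp hnorm
  obtain ⟨Qb, hQb⟩ := hR.exists_le_sylow
  obtain ⟨Q, rfl⟩ := Sylow.mapSurjective_surjective (QuotientGroup.mk'_surjective N) p Qb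
  have hxQ : xb ∈ (Q : Subgroup G).map (QuotientGroup.mk' N) :=
    hQb (le_sup_left (a := Subgroup.zpowers xb) (Subgroup.mem_zpowers xb))
  have hyQ : yb ∈ (Q : Subgroup G).map (QuotientGroup.mk' N) :=
    hQb (le_sup_right (b := Subgroup.zpowers yb) (Subgroup.mem_zpowers yb))
  have lift : ∀ z : G, (QuotientGroup.mk z : G ⧸ N) ∈ (Q : Subgroup G).map (QuotientGroup.mk' N) →
      z ∈ N ⊔ (Q : Subgroup G) := by
    intro z hz
    obtain ⟨q, hq, hqz⟩ := hz
    have : q⁻¹ * z ∈ N := by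
      rw [← QuotientGroup.eq]
      exact hqz
    have e : z = q * (q⁻¹ * z) := by group
    rw [e]
    exact Subgroup.mul_mem _ (Subgroup.mem_sup_right hq) (Subgroup.mem_sup_left this)
  obtain ⟨n₁, hn₁, hx₁⟩ := exists_conj_mem_sylow_of_mem_sup Q N x hxp (lift x hxQ)
  obtain ⟨n₂, hn₂, hy₂⟩ := exists_conj_mem_sylow_of_mem_sup Q N y hyp (lift y hyQ)
  have hiso' : IsIsolated (n₁⁻¹ * x * n₁) := by
    have := isIsolated_conj hiso n₁⁻¹
    simpa using this
  have hconj : n₂⁻¹ * y * n₂ = (n₂⁻¹ * g * n₁) * (n₁⁻¹ * x * n₁) * (n₂⁻¹ * g * n₁)⁻¹ := by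
    rw [hy]; group
  have heq : n₂⁻¹ * y * n₂ = n₁⁻¹ * x * n₁ := by
    rw [hconj]
    apply isIsolated_conj_eq_of_mem_pGroup hiso' (Q : Subgroup G) Q.isPGroup' hx₁
    rw [← hconj]
    exact hy₂
  have h1 : (QuotientGroup.mk n₁ : G ⧸ N) = 1 := (QuotientGroup.eq_one_iff n₁).mpr hn₁
  have h2 : (QuotientGroup.mk n₂ : G ⧸ N) = 1 := (QuotientGroup.eq_one_iff n₂).mpr hn₂
  have := congrArg (QuotientGroup.mk : G → G ⧸ N) heq
  simp only [QuotientGroup.mk_mul, QuotientGroup.mk_inv, h1, h2, inv_one, one_mul, mul_one] at this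
  exact this


/-- An automorphism of a cyclic `p`-group fixing a nontrivial element has order dividing the group order. -/
theorem mulAut_pow_card_eq_one_of_fixed {P : Type*} [Group P] [Finite P] [IsCyclic P] {p : ℕ}
    [Fact p.Prime] (hP : IsPGroup p P) (φ : MulAut P) (x : P) (hx : x ≠ 1) (hφ : φ x = x) :
    φ ^ Nat.card P = 1 := by
  obtain ⟨c, hc⟩ := IsCyclic.exists_generator (α := P)
  obtain ⟨a, ha⟩ := hP.exists_card_eq
  have hoc : orderOf c = p ^ a := by
    rw [← ha, orderOf_eq_card_of_forall_mem_zpowers hc]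
  -- φ c = c ^ m
  obtain ⟨m, hm⟩ : ∃ m : ℕ, c ^ m = φ c := by
    have := hc (φ c)
    rwa [← mem_powers_iff_mem_zpowers] at this
  obtain ⟨j, hj⟩ : ∃ j : ℕ, c ^ j = x := by
    have := hc x
    rwa [← mem_powers_iff_mem_zpowers] at this
  -- iterates
  have hiter : ∀ i : ℕ, (φ ^ i) c = c ^ (m ^ i) := by
    intro i
    induction i with
    | zero => simp
    | succ i ih =>
      rw [pow_succ', MulAut.mul_apply, ih, map_pow, ← hm, ← pow_mul, pow_succ']
  -- m * j ≡ j mod p^a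
  have h1 : c ^ (m * j) = c ^ j := by
    rw [pow_mul, hm, ← map_pow, hj, hφ]
  rw [pow_eq_pow_iff_modEq, hoc] at h1
  -- p ∣ m - 1
  have hp : p.Prime := Fact.out
  have hpm : (p : ℤ) ∣ (m : ℤ) - 1 := by
    by_contra hnd
    apply hx
    have hcop : IsCoprime ((p : ℤ) ^ a) ((m : ℤ) - 1) := by
      apply IsCoprime.pow_left
      exact (Prime.coprime_iff_not_dvd (Nat.prime_iff_prime_int.mp hp)).mpr hnd
    have h2 : ((p ^ a : ℕ) : ℤ) ∣ ((m * j : ℕ) : ℤ) - (j : ℤ) := by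
      have := (Nat.modEq_iff_dvd.mp h1.symm)
      simpa using this
    have h3 : ((p : ℤ) ^ a) ∣ ((m : ℤ) - 1) * (j : ℤ) := by
      have e : ((m * j : ℕ) : ℤ) - (j : ℤ) = ((m : ℤ) - 1) * (j : ℤ) := by push_cast; ring
      rw [← e]
      exact_mod_cast h2
    have h4 : ((p : ℤ) ^ a) ∣ (j : ℤ) := hcop.dvd_of_dvd_mul_left h3
    have h5 : p ^ a ∣ j := by exact_mod_cast h4
    rw [← hj]
    rw [← hoc] at h5
    exact orderOf_dvd_iff_pow_eq_one.mp h5
  have h6 := dvd_sub_pow_of_dvd_sub hpm a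
  rw [one_pow] at h6
  have h7 : ((p : ℤ) ^ a) ∣ (m : ℤ) ^ p ^ a - 1 := dvd_trans (pow_dvd_pow _ (Nat.le_succ a)) h6
  have h8 : m ^ p ^ a ≡ 1 [MOD p ^ a] := by
    apply Nat.ModEq.symm
    rw [Nat.modEq_iff_dvd]
    push_cast
    exact h7
  have h9 : (φ ^ (p ^ a)) c = c := by
    rw [hiter]
    have : c ^ (m ^ p ^ a) = c ^ 1 := by
      rw [pow_eq_pow_iff_modEq, hoc]
      exact h8
    rw [this, pow_one]
  rw [ha]
  ext y
  obtain ⟨i, rfl⟩ := Subgroup.mem_zpowers_iff.mp (hc y)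
  rw [map_zpow, h9]
  rfl


/-- If a cyclic Sylow `p`-subgroup contains a nontrivial isolated element, then `N(P) ≤ C(P)`. -/
theorem normalizer_le_centralizer_of_isolated_of_cyclic {G : Type*} [Group G] [Finite G] {p : ℕ}
    [Fact p.Prime] (x : G) (hiso : IsIsolated x) (hx1 : x ≠ 1) (P : Sylow p G) (hxP : x ∈ P)
    (hcyc : IsCyclic ↥(P : Subgroup G)) :
    Subgroup.normalizer ((P : Subgroup G) : Set G) ≤ Subgroup.centralizer ((P : Subgroup G) : Set G) := by
  intro n hn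
  have := hcyc
  set φ : MulAut ↥(P : Subgroup G) := (P : Subgroup G).normalizerMonoidHom ⟨n, hn⟩ with hφ
  have hfix : φ ⟨x, hxP⟩ = ⟨x, hxP⟩ := by
    apply Subtype.ext
    show n * x * n⁻¹ = x
    apply isIsolated_conj_eq_of_mem_pGroup hiso (P : Subgroup G) P.isPGroup' hxP
    exact (Subgroup.mem_normalizer_iff.mp hn x).mp hxP
  have h1 : φ ^ Nat.card ↥(P : Subgroup G) = 1 :=
    mulAut_pow_card_eq_one_of_fixed P.isPGroup' φ ⟨x, hxP⟩ (fun h => hx1 (congrArg Subtype.val h)) hfix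
  -- second exponent
  set N : Subgroup G := Subgroup.normalizer ((P : Subgroup G) : Set G) with hN
  have : ((P : Subgroup G).subgroupOf N).Normal := Subgroup.normal_in_normalizer
  have hcomm : (P : Subgroup G) ≤ Subgroup.centralizer ((P : Subgroup G) : Set G) := by
    intro a ha
    rw [Subgroup.mem_centralizer_iff]
    intro b hb
    obtain ⟨c, hc⟩ := IsCyclic.exists_generator (α := ↥(P : Subgroup G))
    obtain ⟨i, hi⟩ := Subgroup.mem_zpowers_iff.mp (hc ⟨a, ha⟩)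
    obtain ⟨j, hj⟩ := Subgroup.mem_zpowers_iff.mp (hc ⟨b, hb⟩)
    have ea : a = (c : G) ^ i := by have := congrArg Subtype.val hi; simpa using this.symm
    have eb : b = (c : G) ^ j := by have := congrArg Subtype.val hj; simpa using this.symm
    rw [ea, eb]
    exact (Commute.refl (c : G)).zpow_zpow j i |>.eq
  have h2 : φ ^ ((P : Subgroup G).subgroupOf N).index = 1 := by
    rw [hφ, ← map_pow]
    rw [← MonoidHom.mem_ker, Subgroup.normalizerMonoidHom_ker]
    have := Subgroup.pow_index_mem ((P : Subgroup G).subgroupOf N) (⟨n, hn⟩ : ↥N)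
    exact Subgroup.subgroupOf_mono _ hcomm this   -- may fail
  have hcop : Nat.Coprime (Nat.card ↥(P : Subgroup G)) ((P : Subgroup G).subgroupOf N).index := by
    obtain ⟨a, ha⟩ := P.isPGroup'.exists_card_eq
    rw [ha]
    apply Nat.Coprime.pow_left
    rw [Nat.Prime.coprime_iff_not_dvd Fact.out]
    intro hdvd
    apply P.not_dvd_index
    exact dvd_trans hdvd (Subgroup.relIndex_dvd_index_of_le P.le_normalizer)
  have h3 : φ = 1 := by
    have := pow_gcd_eq_one.mpr ⟨h1, h2⟩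
    rw [Nat.Coprime.gcd_eq_one hcop, pow_one] at this
    exact this
  have h4 : (⟨n, hn⟩ : ↥N) ∈ ((P : Subgroup G).normalizerMonoidHom).ker := by
    rw [MonoidHom.mem_ker]; exact h3
  rw [Subgroup.normalizerMonoidHom_ker] at h4
  exact Subgroup.mem_subgroupOf.mp h4

theorem hasNormalPComplement_of_isolated_of_cyclic {G : Type*} [Group G] [Finite G] {p : ℕ}
    [Fact p.Prime] (x : G) (hx : ∃ k : ℕ, orderOf x = p ^ k) (hiso : IsIsolated x) (hx1 : x ≠ 1)
    (hcyc : ∀ P : Sylow p G, IsCyclic ↥(P : Subgroup G)) : HasNormalPComplement p G := by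
  obtain ⟨k, hk⟩ := hx
  have hxp : IsPGroup p ↥(Subgroup.zpowers x) := IsPGroup.of_card (n := k) (by rw [Nat.card_zpowers, hk])
  obtain ⟨P, hP⟩ := hxp.exists_le_sylow
  have hxP : x ∈ P := hP (Subgroup.mem_zpowers x)
  have hle := normalizer_le_centralizer_of_isolated_of_cyclic x hiso hx1 P hxP (hcyc P)
  exact ⟨P, (MonoidHom.transferSylow P hle).ker, MonoidHom.normal_ker _,
    MonoidHom.ker_transferSylow_isComplement' P hle⟩

end Cfsg.Agent.Lib.Helper7
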