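import Mathlib
import Cfsg.Prelude.Def_LocalStructure
import Cfsg.Agent.Lib.Lead.Conj
import Cfsg.Agent.Lib.Helper7.PIrreducible

set_option autoImplicit false

namespace Cfsg.Agent.Lib.Helper7

open Cfsg Cfsg.Agent.Lib.Lead.Conj

variable {L : Type*} [Group L] [Finite L] {p : ℕ} [Fact p.Prime]

/-- A Sylow `p`-subgroup `P` of `M` with `N_G(P) ≤ M` is a Sylow `p`-subgroup of `G`. -/
theorem IsSylowIn.sylow_of_normalizer_le {P M : Subgroup L} (hP : IsSylowIn p P M)
    (hN : Subgroup.normalizer (P : Set L) ≤ M) : ∃ Q : Sylow p L, (Q : Subgroup L) = P := by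
  have hp : p.Prime := Fact.out
  obtain ⟨Q, hQ⟩ := hP.isPGroup.exists_le_sylow
  refine ⟨Q, ?_⟩
  have hR : (Q : Subgroup L) ⊓ M = P := by
    symm
    apply Subgroup.eq_of_le_of_card_ge (le_inf hQ hP.1)
    have hRp : IsPGroup p ↥((Q : Subgroup L) ⊓ M) := Q.isPGroup'.to_inf_left
    obtain ⟨k, hk⟩ := hRp.exists_card_eq
    have hdvd : p ^ k ∣ Nat.card ↥M := by rw [← hk]; exact Subgroup.card_dvd_of_le inf_le_right
    rw [hk, hP.2]
    exact Nat.pow_le_pow_right hp.pos ((hp.pow_dvd_iff_le_factorization Nat.card_pos.ne').mp hdvd)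
  by_contra hne
  have : Group.IsNilpotent ↥(Q : Subgroup L) := Q.isPGroup'.isNilpotent
  have hKlt : P.subgroupOf (Q : Subgroup L) < ⊤ := by
    rw [lt_top_iff_ne_top]
    intro htop
    apply hne
    apply le_antisymm _ hQ
    intro x hx
    have : (⟨x, hx⟩ : ↥(Q : Subgroup L)) ∈ P.subgroupOf (Q : Subgroup L) := by
      rw [htop]; exact Subgroup.mem_top _
    exact Subgroup.mem_subgroupOf.mp this
  have hnc := Group.normalizerCondition_of_isNilpotent (G := ↥(Q : Subgroup L)) _ hKlt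
  obtain ⟨x, hxN, hxK⟩ := SetLike.exists_of_lt hnc
  apply hxK
  rw [Subgroup.mem_subgroupOf, ← hR]
  refine ⟨x.2, hN ?_⟩
  rw [Subgroup.mem_normalizer_iff] at hxN ⊢
  intro y
  constructor
  · intro hy
    have := (hxN ⟨y, hQ hy⟩).mp (Subgroup.mem_subgroupOf.mpr hy)
    exact Subgroup.mem_subgroupOf.mp this
  · intro hy
    have hyQ : y ∈ (Q : Subgroup L) := by
      have h1 := hQ hy
      have h2 := (Q : Subgroup L).mul_mem ((Q : Subgroup L).mul_mem ((Q : Subgroup L).inv_mem x.2) h1) x.2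
      have e : (x : L)⁻¹ * (x * y * (x : L)⁻¹) * x = y := by group
      rw [e] at h2; exact h2
    have := (hxN ⟨y, hyQ⟩).mpr (Subgroup.mem_subgroupOf.mpr hy)
    exact Subgroup.mem_subgroupOf.mp this

omit [Finite L] in
theorem isCoatom_map_conj {M : Subgroup L} (hM : IsCoatom M) (g : L) :
    IsCoatom (M.map (MulAut.conj g).toMonoidHom) :=
  (OrderIso.isCoatom_iff (MulEquiv.mapSubgroup (MulAut.conj g)) M).mpr hM

theorem yMinimal_with_maximal (L₀ : Subgroup L) (hL₀ : IsCoatom L₀) (T : Sylow p ↥L₀) (Y : Subgroup L)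
    (hYT : Y ≤ (T : Subgroup ↥L₀).map L₀.subtype) (hmin : IsMinimalOver Y) :
    Subgroup.normalizer (((T : Subgroup ↥L₀).map L₀.subtype : Subgroup L) : Set L) ≤ L₀ ∧
    pCore p L ≤ L₀ ∧
    (∃ P : Sylow p L, (P : Subgroup L) = (T : Subgroup ↥L₀).map L₀.subtype) ∧
    Subgroup.normalizer (L₀ : Set L) = L₀ ∧
    (∀ g : L, g ∉ L₀ → Y ⊔ Y.map (MulAut.conj g).toMonoidHom = ⊤) ∧
    (IsMulCommutative ↥Y → ∀ g : L, g ∉ L₀ →
      Y ⊓ Y.map (MulAut.conj g).toMonoidHom = Y ⊓ Subgroup.center L) := by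
  have hTL₀ : (T : Subgroup ↥L₀).map L₀.subtype ≤ L₀ := Subgroup.map_subtype_le _
  have hYL₀ : Y ≤ L₀ := hYT.trans hTL₀
  obtain ⟨hnc, M, ⟨hM, hYM⟩, huniq⟩ := id hmin
  have hML₀ : L₀ = M := huniq L₀ ⟨hL₀, hYL₀⟩
  -- any normal subgroup containing Y is ⊤
  have hnormal : ∀ K : Subgroup L, K.Normal → Y ≤ K → K = ⊤ := by
    intro K hK hYK
    rw [eq_top_iff, ← hnc]
    exact Subgroup.normalClosure_le_normal hYK
  -- any proper subgroup containing Y lies in L₀
  have hprop : ∀ K : Subgroup L, Y ≤ K → K ≠ ⊤ → K ≤ L₀ := by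
    intro K hYK hK
    rcases IsMinimalOver.sup_eq_top_or_le hmin K hYK with h | h
    · exact absurd h hK
    · exact h L₀ hL₀ hYL₀
  have h1 : Subgroup.normalizer (((T : Subgroup ↥L₀).map L₀.subtype : Subgroup L) : Set L) ≤ L₀ := by
    apply hprop _ (hYT.trans Subgroup.le_normalizer)
    intro htop
    have hn : ((T : Subgroup ↥L₀).map L₀.subtype).Normal := Subgroup.normalizer_eq_top_iff.mp htop
    have := hnormal _ hn hYT
    apply hL₀.1
    rw [eq_top_iff, ← this]; exact hTL₀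
  have h3 : ∃ P : Sylow p L, (P : Subgroup L) = (T : Subgroup ↥L₀).map L₀.subtype :=
    IsSylowIn.sylow_of_normalizer_le (IsSylowIn.of_sylow T) h1
  have h2 : pCore p L ≤ L₀ := by
    obtain ⟨P, hP⟩ := h3
    exact (pCore_le_sylow P).trans (hP ▸ hTL₀)
  have h4 : Subgroup.normalizer (L₀ : Set L) = L₀ := by
    rcases eq_or_lt_of_le (Subgroup.le_normalizer (H := L₀)) with h | h
    · exact h.symm
    · exfalso
      have htop := hL₀.2 _ h
      have hn : L₀.Normal := Subgroup.normalizer_eq_top_iff.mp htop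
      exact hL₀.1 (hnormal _ hn hYL₀)
  have h5 : ∀ g : L, g ∉ L₀ → Y ⊔ Y.map (MulAut.conj g).toMonoidHom = ⊤ := by
    intro g hg
    by_contra hne
    have hle := hprop _ le_sup_left hne
    have hYg : Y.map (MulAut.conj g).toMonoidHom ≤ L₀ := le_sup_right.trans hle
    -- Y ≤ L₀^{g⁻¹}
    have hY' : Y ≤ L₀.map (MulAut.conj g⁻¹).toMonoidHom := by
      intro y hy
      rw [mem_map_conj, inv_inv]
      exact hYg (conj_mem_map_conj Y g hy)
    have hco : IsCoatom (L₀.map (MulAut.conj g⁻¹).toMonoidHom) := isCoatom_map_conj hL₀ g⁻¹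
    have e1 := huniq _ ⟨hco, hY'⟩
    rw [← hML₀] at e1
    apply hg
    have : g⁻¹ ∈ Subgroup.normalizer (L₀ : Set L) := by
      apply mem_normalizer_of_conj_mem
      intro r hr
      rw [← e1]
      exact conj_mem_map_conj L₀ g⁻¹ hr
    rw [h4] at this
    simpa using L₀.inv_mem this
  refine ⟨h1, h2, h3, h4, h5, ?_⟩
  intro hab g hg
  have hcomm : ∀ a ∈ Y, ∀ b ∈ Y, a * b = b * a := by
    intro a ha b hb
    have := hab.is_comm.comm (⟨a, ha⟩ : ↥Y) ⟨b, hb⟩
    exact congrArg Subtype.val this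
  apply le_antisymm
  · intro z hz
    rw [Subgroup.mem_inf] at hz ⊢
    obtain ⟨hzY, hzYg⟩ := hz
    refine ⟨hzY, ?_⟩
    -- z centralizes Y ⊔ Y^g = ⊤
    have hcent : Y ⊔ Y.map (MulAut.conj g).toMonoidHom ≤ Subgroup.centralizer ({z} : Set L) := by
      apply sup_le
      · intro y hy
        rw [Subgroup.mem_centralizer_singleton_iff]
        exact hcomm y hy z hzY
      · intro y hy
        rw [Subgroup.mem_centralizer_singleton_iff]
        rw [mem_map_conj] at hy hzYg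
        have := hcomm _ hy _ hzYg
        have e1 : y * z = g * ((g⁻¹ * y * g) * (g⁻¹ * z * g)) * g⁻¹ := by group
        have e2 : z * y = g * ((g⁻¹ * z * g) * (g⁻¹ * y * g)) * g⁻¹ := by group
        rw [e1, e2, this]
    rw [h5 g hg] at hcent
    rw [Subgroup.mem_center_iff]
    intro x
    have := hcent (Subgroup.mem_top x)
    rw [Subgroup.mem_centralizer_singleton_iff] at this
    exact this
  · intro z hz
    rw [Subgroup.mem_inf] at hz ⊢
    obtain ⟨hzY, hzZ⟩ := hz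
    refine ⟨hzY, ?_⟩
    rw [mem_map_conj]
    rw [Subgroup.mem_center_iff] at hzZ
    have : g⁻¹ * z * g = z := by
      rw [mul_assoc, ← hzZ g]; group
    rw [this]; exact hzY

end Cfsg.Agent.Lib.Helper7
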