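import Mathlib
import Cfsg.Prelude.Def_IsolatedElements
import Cfsg.Agent.Lib.Lead.PiCore
import Cfsg.Agent.Lib.Helper7.Core
import Cfsg.Agent.Lib.Helper7.SylowLib
import Cfsg.Agent.Lib.Helper7.ParabolicChar2
import Cfsg.Agent.Lib.Helper7.StrEmb3

set_option autoImplicit false

namespace Cfsg.Agent.Lib.Helper7

open Cfsg
open scoped commutatorElement

/-- in a nilpotent group an isolated element is central -/
theorem isolated_central_of_nilpotent {Q : Type*} [Group Q] [Group.IsNilpotent Q] (y : Q)
    (hiso : Cfsg.IsIsolated y) : y ∈ Subgroup.center Q := by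
  by_contra hy
  have hex : ∃ k : ℕ, ¬ (∀ g ∈ Subgroup.upperCentralSeries Q k, g * y = y * g) := by
    obtain ⟨c, hc⟩ := Group.IsNilpotent.nilpotent Q
    refine ⟨c, ?_⟩
    intro h
    apply hy
    rw [Subgroup.mem_center_iff]
    intro g
    exact h g (by rw [hc]; exact Subgroup.mem_top g)
  classical
  set k := Nat.find hex with hk
  have hk_spec := Nat.find_spec hex
  have hk0 : k ≠ 0 := by
    intro h0
    apply hk_spec
    rw [← hk, h0]
    intro g hg
    rw [Subgroup.upperCentralSeries_zero] at hg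
    rw [Subgroup.mem_bot.mp hg, mul_one, one_mul]
  obtain ⟨j, hj⟩ := Nat.exists_eq_succ_of_ne_zero hk0
  have hjmin : ∀ g ∈ Subgroup.upperCentralSeries Q j, g * y = y * g := by
    have := Nat.find_min hex (m := j) (by rw [← hk, hj]; exact Nat.lt_succ_self j)
    push Not at this
    exact this
  rw [← hk, hj] at hk_spec
  push Not at hk_spec
  obtain ⟨g, hg, hne⟩ := hk_spec
  have h1 : ⁅g, y⁆ ∈ Subgroup.upperCentralSeries Q j := (Subgroup.mem_upperCentralSeries_succ_iff.mp hg) y
  have h2 := hjmin _ h1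
  have h3 : Commute y (g * y * g⁻¹) := by
    have e : g * y * g⁻¹ = ⁅g, y⁆ * y := by rw [commutatorElement_def]; group
    rw [e]
    exact (Commute.mul_right (show Commute y ⁅g, y⁆ from h2.symm) (Commute.refl y))
  have h4 := hiso g h3
  apply hne
  calc g * y = (g * y * g⁻¹) * g := by group
    _ = y * g := by rw [h4]

variable {G : Type*} [Group G] [Finite G] {p : ℕ} [Fact p.Prime]

/-- an isolated element of `G` commutes with every `p`-subgroup containing it -/
theorem isolated_commute_of_pgroup {x : G} (hiso : Cfsg.IsIsolated x) (Q : Subgroup G) (hQ : IsPGroup p ↥Q)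
    (hxQ : x ∈ Q) : ∀ g ∈ Q, g * x = x * g := by
  haveI : Group.IsNilpotent ↥Q := hQ.isNilpotent
  have h1 : (⟨x, hxQ⟩ : ↥Q) ∈ Subgroup.center ↥Q := by
    apply isolated_central_of_nilpotent
    intro g hg
    apply Subtype.ext
    have := hiso (g : G) (by
      have := congrArg Subtype.val hg.eq
      exact this)
    exact this
  intro g hg
  have := Subgroup.mem_center_iff.mp h1 ⟨g, hg⟩
  exact congrArg Subtype.val this

/-- a normal subgroup `N` with `N ⊔ Z = ⊤`, `Z` cyclic, contains the derived subgroup -/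
theorem commutator_le_of_sup_zpowers_eq_top (N : Subgroup G) [N.Normal] (x : G)
    (h : N ⊔ Subgroup.zpowers x = ⊤) : commutator G ≤ N := by
  have h1 : commutator G = ⁅N ⊔ Subgroup.zpowers x, N ⊔ Subgroup.zpowers x⁆ := by
    rw [h]; rfl
  have h2 : N.map (QuotientGroup.mk' N) = ⊥ := by
    rw [Subgroup.map_eq_bot_iff, QuotientGroup.ker_mk']
  have h3 : (⁅N ⊔ Subgroup.zpowers x, N ⊔ Subgroup.zpowers x⁆).map (QuotientGroup.mk' N) = ⊥ := by
    rw [Subgroup.map_commutator, Subgroup.map_sup, MonoidHom.map_zpowers, h2, bot_sup_eq,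
      Subgroup.commutator_eq_bot_iff_le_centralizer, Subgroup.zpowers_le,
      Subgroup.mem_centralizer_iff]
    rintro _ ⟨k, rfl⟩
    exact ((Commute.refl _).zpow_left k).eq
  rw [Subgroup.map_eq_bot_iff, QuotientGroup.ker_mk'] at h3
  rw [h1]; exact h3

/-- a central Sylow `p`-subgroup of a group without nontrivial normal `p'`-subgroups is everything -/
theorem central_sylow_eq_top {K : Type*} [Group K] [Finite K] {p : ℕ} [Fact p.Prime] (N : Subgroup K)
    (hNc : N ≤ Subgroup.center K) (hNp : IsPGroup p ↥N) (hidx : ¬ p ∣ N.index)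
    (hO : ∀ T : Subgroup K, T.Normal → (Nat.card ↥T).Coprime p → T = ⊥) : N = ⊤ := by
  have hp : p.Prime := Fact.out
  set P : Sylow p K := hNp.toSylow hidx with hP
  have hPN : (P : Subgroup K) = N := IsPGroup.toSylow_coe _ _
  have hNC : Subgroup.normalizer ((P : Subgroup K) : Set K) ≤ Subgroup.centralizer ((P : Subgroup K) : Set K) := by
    intro g _
    rw [Subgroup.mem_centralizer_iff]
    intro h hh
    have hh' : h ∈ N := by rw [← hPN]; exact hh
    have : h ∈ Subgroup.center K := hNc hh'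
    exact (Subgroup.mem_center_iff.mp this g).symm
  have h1 := MonoidHom.ker_transferSylow_isComplement' P hNC
  have h2 : (MonoidHom.transferSylow P hNC).ker = ⊥ :=
    hO _ inferInstance
      ((Nat.Prime.coprime_iff_not_dvd hp).mpr (MonoidHom.not_dvd_card_ker_transferSylow P hNC)).symm
  rw [h2, Subgroup.isComplement'_bot_left] at h1
  rw [← hPN]; exact h1

section main

variable (x : G) (hx : orderOf x = p) (hiso : Cfsg.IsIsolated x) (hnz : ¬ Cfsg.InZStar p x)
  (hmin : ∀ (H : Subgroup G) (hxH : x ∈ H), H ≠ ⊤ → Cfsg.InZStar p (⟨x, hxH⟩ : ↥H))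
  (hquot : ∀ (N : Subgroup G) [N.Normal], N ≠ ⊥ → Cfsg.InZStar p (QuotientGroup.mk x : G ⧸ N))

include hnz in
theorem zstar_not_central : x ∉ Subgroup.center G := by
  intro hc
  apply hnz
  intro g
  have h1 : g * x = x * g := Subgroup.mem_center_iff.mp hc g
  have : g * x * g⁻¹ * x⁻¹ = 1 := by
    rw [h1]; group
  rw [this]; exact Subgroup.one_mem _

include hnz hquot in
theorem zstar_pPrimeCore_eq_bot : Cfsg.pPrimeCore p G = ⊥ := by
  have hp : p.Prime := Fact.out
  by_contra hne
  haveI : (Cfsg.pPrimeCore p G).Normal := Cfsg.Agent.Lib.Lead.PiCore.pPrimeCore_normal p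
  have h1 := hquot (Cfsg.pPrimeCore p G) hne
  apply hnz
  intro g
  have h2 := h1 (QuotientGroup.mk g)
  rw [Cfsg.Agent.Lib.Lead.PiCore.pPrimeCore_quotient_eq_bot hp, Subgroup.mem_bot] at h2
  have h3 : ((g * x * g⁻¹ * x⁻¹ : G) : G ⧸ Cfsg.pPrimeCore p G) = 1 := h2
  exact (QuotientGroup.eq_one_iff _).mp h3

include hnz hquot in
/-- subnormal `p'`-subgroups are trivial -/
theorem zstar_subnormal_coprime_eq_bot (W : Subgroup G) (hW : W.IsSubnormal) (hc : (Nat.card W).Coprime p) :
    W = ⊥ := by
  have hp : p.Prime := Fact.out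
  have := Cfsg.Agent.Lib.Lead.PiCore.subnormal_le_pPrimeCore hp hW hc
  rw [zstar_pPrimeCore_eq_bot x hnz hquot] at this
  exact le_bot_iff.mp this

include hnz hmin hquot in
/-- in a proper subgroup `H ∋ x`, the element `x` centralizes every normal subgroup of `G` inside `H` -/
theorem zstar_centralizes_normal (H : Subgroup G) (hxH : x ∈ H) (hH : H ≠ ⊤) (N : Subgroup G) [N.Normal]
    (hNH : N ≤ H) : ∀ n ∈ N, n * x = x * n := by
  have hp : p.Prime := Fact.out
  have h1 := hmin H hxH hH
  set W : Subgroup G := (Cfsg.pPrimeCore p ↥H).map H.subtype with hW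
  haveI hWn : (Cfsg.pPrimeCore p ↥H).Normal := Cfsg.Agent.Lib.Lead.PiCore.pPrimeCore_normal p
  have hWcard : (Nat.card W).Coprime p := by
    rw [hW, Subgroup.card_map_of_injective (Subgroup.subtype_injective H)]
    exact Cfsg.Agent.Lib.Lead.PiCore.pPrimeCore_coprime hp
  have hV : (W ⊓ N).IsSubnormal := by
    refine Subgroup.IsSubnormal.step (W ⊓ N) N inf_le_right (Subgroup.Normal.isSubnormal inferInstance) ?_
    refine ⟨fun v hv n => ?_⟩
    rw [Subgroup.mem_subgroupOf] at hv ⊢
    refine ⟨?_, ?_⟩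
    · obtain ⟨w, hw, hwv⟩ := hv.1
      have := hWn.conj_mem w hw ⟨(n : G), hNH n.2⟩
      refine ⟨_, this, ?_⟩
      show (n : G) * (w : G) * (n : G)⁻¹ = (n : G) * (v : G) * (n : G)⁻¹
      have hwv' : (w : G) = (v : G) := hwv
      rw [hwv']
    · exact N.mul_mem (N.mul_mem n.2 hv.2) (N.inv_mem n.2)
  have hVbot : W ⊓ N = ⊥ := zstar_subnormal_coprime_eq_bot x hnz hquot _ hV
    (Nat.Coprime.coprime_dvd_left (Subgroup.card_dvd_of_le inf_le_left) hWcard)
  intro n hn
  have h2 := h1 ⟨n, hNH hn⟩
  have h3 : n * x * n⁻¹ * x⁻¹ ∈ W := ⟨_, h2, by simp⟩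
  have h4 : n * x * n⁻¹ * x⁻¹ ∈ N := by
    have : n * (x * n⁻¹ * x⁻¹) ∈ N := N.mul_mem hn (‹N.Normal›.conj_mem _ (N.inv_mem hn) x)
    simpa [mul_assoc] using this
  have h5 : n * x * n⁻¹ * x⁻¹ ∈ W ⊓ N := ⟨h3, h4⟩
  rw [hVbot, Subgroup.mem_bot] at h5
  calc n * x = (n * x * n⁻¹ * x⁻¹) * (x * n) := by group
    _ = x * n := by rw [h5, one_mul]

include hnz hquot in
/-- a normal `p'`-subgroup of a normal subgroup is trivial -/
theorem zstar_normal_coprime_eq_bot' (M : Subgroup G) [M.Normal] (T : Subgroup ↥M) [T.Normal]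
    (hc : (Nat.card ↥T).Coprime p) : T = ⊥ := by
  have h1 : (T.map M.subtype).IsSubnormal :=
    (Subgroup.Normal.isSubnormal inferInstance).trans' (Subgroup.Normal.isSubnormal inferInstance)
  have h2 := zstar_subnormal_coprime_eq_bot x hnz hquot _ h1
    (by rw [Subgroup.card_map_of_injective M.subtype_injective]; exact hc)
  exact (Subgroup.map_eq_bot_iff_of_injective _ M.subtype_injective).mp h2

include hiso hnz hmin hquot in
theorem zstar_normalClosure_eq_top : Subgroup.normalClosure ({x} : Set G) = ⊤ := by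
  have hp : p.Prime := Fact.out
  by_contra hM
  set M := Subgroup.normalClosure ({x} : Set G) with hMdef
  have hxM : x ∈ M := Subgroup.subset_normalClosure (Set.mem_singleton x)
  have h1 := hmin M hxM hM
  haveI : (Cfsg.pPrimeCore p ↥M).Normal := Cfsg.Agent.Lib.Lead.PiCore.pPrimeCore_normal p
  have h2 : Cfsg.pPrimeCore p ↥M = ⊥ :=
    zstar_normal_coprime_eq_bot' x hnz hquot M _ (Cfsg.Agent.Lib.Lead.PiCore.pPrimeCore_coprime hp)
  apply zstar_not_central x hnz
  rw [Subgroup.mem_center_iff]
  intro g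
  have h3 : g * x * g⁻¹ ∈ M := Subgroup.Normal.conj_mem inferInstance x hxM g
  have h4 := h1 ⟨g * x * g⁻¹, h3⟩
  rw [h2, Subgroup.mem_bot] at h4
  have h5 : (g * x * g⁻¹) * x * (g * x * g⁻¹)⁻¹ * x⁻¹ = 1 := congrArg Subtype.val h4
  have h6 : Commute x (g * x * g⁻¹) := by
    show x * (g * x * g⁻¹) = (g * x * g⁻¹) * x
    calc x * (g * x * g⁻¹) = ((g * x * g⁻¹) * x * (g * x * g⁻¹)⁻¹ * x⁻¹)⁻¹ * ((g * x * g⁻¹) * x) := by group
      _ = (g * x * g⁻¹) * x := by rw [h5, inv_one, one_mul]
  have h7 := hiso g h6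
  calc g * x = (g * x * g⁻¹) * g := by group
    _ = x * g := by rw [h7]

include hx hiso hnz hmin hquot in
theorem zstar_sup_zpowers_eq_top (N : Subgroup G) [N.Normal] (hN : N ≠ ⊥) :
    N ⊔ Subgroup.zpowers x = ⊤ := by
  have hp : p.Prime := Fact.out
  by_contra hH
  have hxH : x ∈ N ⊔ Subgroup.zpowers x :=
    (le_sup_right : Subgroup.zpowers x ≤ N ⊔ Subgroup.zpowers x) (Subgroup.mem_zpowers x)
  have h1 := zstar_centralizes_normal x hnz hmin hquot _ hxH hH N le_sup_left
  -- `N` is central
  have h2 : N ≤ Subgroup.center G := by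
    have h3 : N ≤ Subgroup.centralizer (Subgroup.normalClosure ({x} : Set G) : Set G) := by
      rw [Subgroup.normalClosure, Subgroup.centralizer_closure]
      intro n hn y hy
      rw [Group.mem_conjugatesOfSet_iff] at hy
      obtain ⟨a, ha, hay⟩ := hy
      rw [Set.mem_singleton_iff] at ha
      subst ha
      rw [isConj_iff] at hay
      obtain ⟨c, rfl⟩ := hay
      have h4 := h1 (c⁻¹ * n * c) (by simpa using ‹N.Normal›.conj_mem n hn c⁻¹)
      calc c * a * c⁻¹ * n = c * (a * (c⁻¹ * n * c)) * c⁻¹ := by group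
        _ = c * ((c⁻¹ * n * c) * a) * c⁻¹ := by rw [h4]
        _ = n * (c * a * c⁻¹) := by group
    rw [zstar_normalClosure_eq_top x hiso hnz hmin hquot, Subgroup.coe_top, Subgroup.centralizer_univ] at h3
    exact h3
  -- `N` is a `p`-group
  have hNp : IsPGroup p ↥N := by
    apply isPGroup_of_coprime_trivial
    intro n hn hcop
    have h3 : Subgroup.zpowers n ≤ Subgroup.center G := by
      rw [Subgroup.zpowers_le]; exact h2 hn
    haveI : (Subgroup.zpowers n).Normal := by
      refine ⟨fun a ha g => ?_⟩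
      have := Subgroup.mem_center_iff.mp (h3 ha) g
      have e : g * a * g⁻¹ = a := by rw [this]; group
      rw [e]; exact ha
    have h4 := zstar_subnormal_coprime_eq_bot x hnz hquot (Subgroup.zpowers n)
      (Subgroup.Normal.isSubnormal inferInstance) (by rw [Nat.card_zpowers]; exact hcop)
    rw [Subgroup.zpowers_eq_bot] at h4
    exact h4
  -- `K`, the preimage of `O_{p'}(G/N)`
  haveI hOn : (Cfsg.pPrimeCore p (G ⧸ N)).Normal := Cfsg.Agent.Lib.Lead.PiCore.pPrimeCore_normal p
  set K : Subgroup G := (Cfsg.pPrimeCore p (G ⧸ N)).comap (QuotientGroup.mk' N) with hK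
  haveI hKn : K.Normal := Subgroup.Normal.comap hOn _
  have hNK : N ≤ K := by
    intro n hn
    rw [hK, Subgroup.mem_comap]
    have : (QuotientGroup.mk' N) n = 1 := (QuotientGroup.eq_one_iff n).mpr hn
    rw [this]; exact Subgroup.one_mem _
  have hKN : K ≤ N := by
    have h5 : N.subgroupOf K = ⊤ := by
      apply central_sylow_eq_top (p := p)
      · intro k hk
        rw [Subgroup.mem_subgroupOf] at hk
        rw [Subgroup.mem_center_iff]
        intro g
        apply Subtype.ext
        exact Subgroup.mem_center_iff.mp (h2 hk) g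
      · exact hNp.comap_subtype
      · show ¬ p ∣ N.relIndex K
        have h6 : N.relIndex K = Nat.card ↥(Cfsg.pPrimeCore p (G ⧸ N)) := by
          have h7 : N = (⊥ : Subgroup (G ⧸ N)).comap (QuotientGroup.mk' N) := by
            rw [MonoidHom.comap_bot, QuotientGroup.ker_mk']
          conv_lhs => rw [h7]
          rw [Subgroup.relIndex_comap, Subgroup.relIndex_bot_left, hK,
            Subgroup.map_comap_eq_self_of_surjective (QuotientGroup.mk'_surjective N)]
        rw [h6]
        exact (Nat.Prime.coprime_iff_not_dvd hp).mp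
          (Cfsg.Agent.Lib.Lead.PiCore.pPrimeCore_coprime hp).symm
      · intro T hT hc
        haveI := hT
        exact zstar_normal_coprime_eq_bot' x hnz hquot K T hc
    rw [Subgroup.subgroupOf_eq_top] at h5
    exact h5
  -- now all commutators with `x` lie in `N`, which is central
  have h8 := hquot N hN
  apply zstar_not_central x hnz
  rw [Subgroup.mem_center_iff]
  intro g
  have h9 : g * x * g⁻¹ * x⁻¹ ∈ N := by
    apply hKN
    rw [hK, Subgroup.mem_comap]
    exact h8 (QuotientGroup.mk g)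
  have h10 := Subgroup.mem_center_iff.mp (h2 h9)
  have h6 : Commute x (g * x * g⁻¹) := by
    show x * (g * x * g⁻¹) = (g * x * g⁻¹) * x
    calc x * (g * x * g⁻¹) = x * (g * x * g⁻¹ * x⁻¹) * x := by group
      _ = (g * x * g⁻¹ * x⁻¹) * x * x := by rw [h10 x]
      _ = (g * x * g⁻¹) * x := by group
  have h7 := hiso g h6
  calc g * x = (g * x * g⁻¹) * g := by group
    _ = x * g := by rw [h7]

include hnz in
theorem zstar_commutator_ne_bot : commutator G ≠ ⊥ := by
  intro hD
  apply zstar_not_central x hnz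
  rw [Subgroup.mem_center_iff]
  intro g
  have h1 : ⁅g, x⁆ ∈ commutator G := by
    rw [commutator_def]
    exact Subgroup.commutator_mem_commutator (Subgroup.mem_top g) (Subgroup.mem_top x)
  rw [hD, Subgroup.mem_bot] at h1
  exact commutatorElement_eq_one_iff_mul_comm.mp h1

include hx hiso hnz hmin hquot in
/-- a nontrivial normal subgroup of `G` inside `G'` equals `G'` -/
theorem zstar_commutator_le (N : Subgroup G) [N.Normal] (hN : N ≠ ⊥) : commutator G ≤ N :=
  commutator_le_of_sup_zpowers_eq_top N x (zstar_sup_zpowers_eq_top x hx hiso hnz hmin hquot N hN)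

include hx hiso hnz hmin hquot in
theorem zstar_commutator_not_comm : ¬ IsMulCommutative ↥(commutator G) := by
  have hp : p.Prime := Fact.out
  intro hcomm
  have hDp : IsPGroup p ↥(commutator G) := by
    apply isPGroup_of_coprime_trivial
    intro d hd hcop
    have hle : Subgroup.zpowers d ≤ commutator G := by rw [Subgroup.zpowers_le]; exact hd
    have hsub : (Subgroup.zpowers d).IsSubnormal := by
      refine Subgroup.IsSubnormal.step _ (commutator G) hle (Subgroup.Normal.isSubnormal inferInstance) ?_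
      refine ⟨fun a ha b => ?_⟩
      have e : b * a * b⁻¹ = a := by
        rw [hcomm.is_comm.comm b a]; group
      rw [e]; exact ha
    have h4 := zstar_subnormal_coprime_eq_bot x hnz hquot (Subgroup.zpowers d) hsub
      (by rw [Nat.card_zpowers]; exact hcop)
    rw [Subgroup.zpowers_eq_bot] at h4
    exact h4
  have hxp : IsPGroup p ↥(Subgroup.zpowers x) := by
    apply IsPGroup.of_card (n := 1)
    rw [Nat.card_zpowers, hx, pow_one]
  have htop : IsPGroup p ↥(⊤ : Subgroup G) := by
    rw [← zstar_sup_zpowers_eq_top x hx hiso hnz hmin hquot (commutator G) (zstar_commutator_ne_bot x hnz)]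
    exact IsPGroup.to_sup_of_normal_left hDp hxp
  apply zstar_not_central x hnz
  rw [Subgroup.mem_center_iff]
  intro g
  exact isolated_commute_of_pgroup hiso ⊤ htop (Subgroup.mem_top x) g (Subgroup.mem_top g)

include hx hiso hnz hmin hquot in
theorem zstar_commutator_simple : IsSimpleGroup ↥(commutator G) := by
  have hp : p.Prime := Fact.out
  have hDne : commutator G ≠ ⊥ := zstar_commutator_ne_bot x hnz
  haveI : Nontrivial ↥(commutator G) := (Subgroup.nontrivial_iff_ne_bot (commutator G)).mpr hDne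
  refine ⟨fun T hT => ?_⟩
  by_contra hcon
  push Not at hcon
  obtain ⟨hTbot, hTtop⟩ := hcon
  haveI := hT
  set T' : Subgroup G := T.map (commutator G).subtype with hT'
  have hT'D : T' ≤ commutator G := Subgroup.map_subtype_le T
  have hT'sub : T'.IsSubnormal :=
    (Subgroup.Normal.isSubnormal hT).trans' (Subgroup.Normal.isSubnormal inferInstance)
  have hT'ne : T' ≠ ⊥ := fun h =>
    hTbot ((Subgroup.map_eq_bot_iff_of_injective _ (commutator G).subtype_injective).mp h)
  have hT'lt : T' ≠ commutator G := by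
    intro h
    apply hTtop
    rw [eq_top_iff]
    intro d _
    have hd : (d : G) ∈ T' := by rw [h]; exact d.2
    obtain ⟨t, ht, htd⟩ := hd
    have : t = d := Subtype.ext htd
    rw [← this]; exact ht
  have hxp : IsPGroup p ↥(Subgroup.zpowers x) := by
    apply IsPGroup.of_card (n := 1)
    rw [Nat.card_zpowers, hx, pow_one]
  obtain ⟨S, hS⟩ := hxp.exists_le_sylow
  have hxS : x ∈ (S : Subgroup G) := hS (Subgroup.mem_zpowers x)
  have hxc : ∀ s ∈ (S : Subgroup G), s * x = x * s := isolated_commute_of_pgroup hiso S S.2 hxS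
  have hR : IsSylowIn p ((S : Subgroup G) ⊓ T') T' := (IsSylowIn.of_sylow_top S).inf_subnormal hT'sub
  have hncl : Subgroup.normalClosure (((S : Subgroup G) ⊓ T' : Subgroup G) : Set G) ≤ T' := by
    rw [Subgroup.normalClosure, Subgroup.closure_le]
    intro y hy
    rw [Group.mem_conjugatesOfSet_iff] at hy
    obtain ⟨r, hr, hry⟩ := hy
    rw [isConj_iff] at hry
    obtain ⟨c, rfl⟩ := hry
    have hc : c ∈ commutator G ⊔ Subgroup.zpowers x := by
      rw [zstar_sup_zpowers_eq_top x hx hiso hnz hmin hquot (commutator G) hDne]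
      exact Subgroup.mem_top c
    rw [← SetLike.mem_coe, Subgroup.normal_mul, Set.mem_mul] at hc
    obtain ⟨d, hd, z, hz, rfl⟩ := hc
    have hzr : z * r * z⁻¹ = r := by
      obtain ⟨k, rfl⟩ := hz
      have h1 : Commute r x := hxc r hr.1
      have h2 : Commute r (x ^ k) := h1.zpow_right k
      rw [← h2.eq]; group
    have e : d * z * r * (d * z)⁻¹ = d * (z * r * z⁻¹) * d⁻¹ := by group
    rw [e, hzr]
    obtain ⟨t, ht, htr⟩ := hr.2
    have h3 := hT.conj_mem t ht ⟨d, hd⟩
    refine ⟨_, h3, ?_⟩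
    show d * (t : G) * d⁻¹ = d * r * d⁻¹
    have htr' : (t : G) = r := htr
    rw [htr']
  haveI : (Subgroup.normalClosure (((S : Subgroup G) ⊓ T' : Subgroup G) : Set G)).Normal :=
    Subgroup.normalClosure_normal
  have hnc_bot : Subgroup.normalClosure (((S : Subgroup G) ⊓ T' : Subgroup G) : Set G) = ⊥ := by
    by_contra hne
    have h1 := zstar_commutator_le x hx hiso hnz hmin hquot _ hne
    exact hT'lt (le_antisymm hT'D (h1.trans hncl))
  have hRbot : (S : Subgroup G) ⊓ T' = ⊥ := by
    rw [eq_bot_iff, ← hnc_bot]; exact Subgroup.le_normalClosure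
  have hcop : (Nat.card ↥T').Coprime p := by
    rw [Nat.coprime_comm, Nat.Prime.coprime_iff_not_dvd hp]
    intro hdvd
    exact hR.ne_bot hdvd hRbot
  exact hT'ne (zstar_subnormal_coprime_eq_bot x hnz hquot T' hT'sub hcop)

include hx hiso hnz hmin hquot in
theorem zstar_minimal_main :
    IsSimpleGroup ↥(commutator G) ∧ ¬ IsMulCommutative ↥(commutator G) ∧
      commutator G ⊔ Subgroup.zpowers x = ⊤ :=
  ⟨zstar_commutator_simple x hx hiso hnz hmin hquot, zstar_commutator_not_comm x hx hiso hnz hmin hquot,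
    zstar_sup_zpowers_eq_top x hx hiso hnz hmin hquot (commutator G) (zstar_commutator_ne_bot x hnz)⟩

end main

end Cfsg.Agent.Lib.Helper7
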