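import Mathlib
import Cfsg.Prelude.Def_IsolatedElements
import Cfsg.Agent.Lib.Lead.PiCore
import Cfsg.Agent.Lib.Lead.Conj
import Cfsg.Agent.Lib.Helper7.ZStarMinimal
import Cfsg.Agent.Lib.Helper7.YMinimal
import Cfsg.Agent.Lib.Helper7.StrEmb6
import Cfsg.Agent.Lib.Helper7.Isolated2
import Cfsg.Agent.Lib.Helper7.GroupFusion
import Cfsg.Agent.S0025

set_option autoImplicit false

namespace Cfsg.Agent.Lib.Helper7

open Cfsg Cfsg.Agent.Lib.Lead.Conj

variable {G : Type*} [Group G] [Finite G] {p : ℕ} [Fact p.Prime]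

/-- For an isolated `p`-element `x`: if `x` normalizes both `X` and `gXg⁻¹`, these are conjugate under `C_G(x)`. -/
theorem isolated_conj_of_normalizes (x : G) (hxp : IsPGroup p ↥(Subgroup.zpowers x)) (hiso : Cfsg.IsIsolated x)
    (X : Subgroup G) (g : G) (h1 : x ∈ Subgroup.normalizer (X : Set G))
    (h2 : x ∈ Subgroup.normalizer ((X.map (MulAut.conj g).toMonoidHom : Subgroup G) : Set G)) :
    ∃ c ∈ Subgroup.centralizer ({x} : Set G),
      X.map (MulAut.conj c).toMonoidHom = X.map (MulAut.conj g).toMonoidHom := by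
  set Y := X.map (MulAut.conj g).toMonoidHom with hY
  set N := Subgroup.normalizer (Y : Set G) with hN
  have hy : g * x * g⁻¹ ∈ N := by
    rw [hN, hY, normalizer_map_conj]
    exact ⟨x, h1, rfl⟩
  have hyp : IsPGroup p ↥(Subgroup.zpowers (g * x * g⁻¹)) := by
    have : Subgroup.zpowers (g * x * g⁻¹) = (Subgroup.zpowers x).map (MulAut.conj g).toMonoidHom := by
      rw [MonoidHom.map_zpowers]; rfl
    rw [this]
    exact hxp.map _
  obtain ⟨P₁, hP₁, hxP₁⟩ := exists_isSylowIn_ge hxp ((Subgroup.zpowers_le).mpr h2)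
  obtain ⟨P₂, hP₂, hyP₂⟩ := exists_isSylowIn_ge hyp ((Subgroup.zpowers_le).mpr hy)
  obtain ⟨n, hn, hP⟩ := hP₁.conj hP₂
  have h3 : n * x * n⁻¹ ∈ P₂ := by
    rw [hP]; exact ⟨x, hxP₁ (Subgroup.mem_zpowers x), rfl⟩
  have h4 : g * x * g⁻¹ ∈ P₂ := hyP₂ (Subgroup.mem_zpowers _)
  have h5 := isIsolated_conj_eq_of_mem_pGroup (isIsolated_conj hiso g) P₂ hP₂.isPGroup h4 (n * g⁻¹)
    (by
      have e : n * g⁻¹ * (g * x * g⁻¹) * (n * g⁻¹)⁻¹ = n * x * n⁻¹ := by group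
      rw [e]; exact h3)
  have h6 : n * x * n⁻¹ = g * x * g⁻¹ := by
    rw [← h5]; group
  refine ⟨n⁻¹ * g, ?_, ?_⟩
  · rw [Subgroup.mem_centralizer_iff]
    intro z hz
    rw [Set.mem_singleton_iff] at hz
    subst hz
    have e : g * z = n * z * n⁻¹ * g := by rw [h6]; group
    calc z * (n⁻¹ * g) = n⁻¹ * (n * z * n⁻¹ * g) := by group
      _ = n⁻¹ * (g * z) := by rw [e]
      _ = n⁻¹ * g * z := by group
  · have hn' : n⁻¹ ∈ N := N.inv_mem hn
    ext w
    rw [mem_map_conj, mem_map_conj]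
    have e : (n⁻¹ * g)⁻¹ * w * (n⁻¹ * g) = g⁻¹ * (n * w * n⁻¹) * g := by group
    rw [e, ← mem_map_conj, ← mem_map_conj, ← hY]
    exact ((Subgroup.mem_normalizer_iff.mp hn) w).symm

omit [Fact p.Prime] in
/-- Sylow in an intermediate subgroup containing a full Sylow subgroup -/
theorem IsSylowIn.of_mid {q : ℕ} [Fact q.Prime] {R T L H : Subgroup G} (hR : IsSylowIn q R L) (hLH : L ≤ H)
    (hT : IsSylowIn q T H) (hTL : T ≤ L) : IsSylowIn q R H := by
  have hq : q.Prime := Fact.out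
  refine ⟨hR.1.trans hLH, ?_⟩
  rw [hR.2]
  congr 1
  apply le_antisymm
  · have h2 : Nat.card ↥L ∣ Nat.card ↥H := Subgroup.card_dvd_of_le hLH
    exact (Nat.factorization_le_iff_dvd Nat.card_pos.ne' Nat.card_pos.ne').mpr h2 q
  · have h1 : q ^ (Nat.card ↥H).factorization q ∣ Nat.card ↥L := by
      rw [← hT.2]; exact Subgroup.card_dvd_of_le hTL
    exact (hq.pow_dvd_iff_le_factorization Nat.card_pos.ne').mp h1

/-- if `x ∈ H` has order `p`, is central mod `O_{p'}(H)`, `q ≠ p`, and `Q ≤ H` is an `x`-invariant `q`-subgroup,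
then `Q` lies in an `x`-invariant Sylow `q`-subgroup of `H`. -/
theorem exists_invariant_sylow_of_inZStar (H : Subgroup G) (x : G) (hxH : x ∈ H) (hx : orderOf x = p)
    (hz : Cfsg.InZStar p (⟨x, hxH⟩ : ↥H)) (q : ℕ) [Fact q.Prime] (hqp : q ≠ p) (Q : Subgroup G) (hQH : Q ≤ H)
    (hQ : IsPGroup q ↥Q) (hxQ : x ∈ Subgroup.normalizer (Q : Set G)) :
    ∃ R : Subgroup G, IsSylowIn q R H ∧ Q ≤ R ∧ x ∈ Subgroup.normalizer (R : Set G) := by
  have hp : p.Prime := Fact.out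
  have hq : q.Prime := Fact.out
  obtain ⟨T, hT, hQT⟩ := exists_isSylowIn_ge hQ hQH
  haveI hKn : (Cfsg.pPrimeCore p ↥H).Normal := Cfsg.Agent.Lib.Lead.PiCore.pPrimeCore_normal p
  set L₀ : Subgroup ↥H := T.subgroupOf H ⊔ Cfsg.pPrimeCore p ↥H with hL₀
  set L : Subgroup G := L₀.map H.subtype with hL
  have hLH : L ≤ H := Subgroup.map_subtype_le _
  have hTL : T ≤ L := by
    intro t ht
    exact ⟨⟨t, hT.1 ht⟩, Subgroup.mem_sup_left (Subgroup.mem_subgroupOf.mpr ht), rfl⟩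
  have hLcard : (Nat.card ↥L).Coprime p := by
    rw [hL, Subgroup.card_map_of_injective H.subtype_injective]
    have h1 := Cfsg.Agent.Lib.Lead.PiCore.card_sup_dvd (T.subgroupOf H) (Cfsg.pPrimeCore p ↥H)
    refine Nat.Coprime.coprime_dvd_left h1 (Nat.Coprime.mul_left ?_
      (Cfsg.Agent.Lib.Lead.PiCore.pPrimeCore_coprime hp))
    rw [card_subgroupOf_of_le hT.1, hT.2]
    exact Nat.Coprime.pow_left _ ((Nat.coprime_primes hq hp).mpr hqp)
  have hxL : x ∈ Subgroup.normalizer (L : Set G) := by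
    apply mem_normalizer_of_conj_mem
    rintro _ ⟨ℓ, hℓ, rfl⟩
    have h1 := hz ℓ
    have h2 : (⟨x, hxH⟩ : ↥H) * ℓ * (⟨x, hxH⟩ : ↥H)⁻¹ ∈ L₀ := by
      have e : (⟨x, hxH⟩ : ↥H) * ℓ * (⟨x, hxH⟩ : ↥H)⁻¹
          = (ℓ * (⟨x, hxH⟩ : ↥H) * ℓ⁻¹ * (⟨x, hxH⟩ : ↥H)⁻¹)⁻¹ * ℓ := by group
      rw [e]
      exact L₀.mul_mem (L₀.inv_mem (Subgroup.mem_sup_right h1)) hℓ
    exact ⟨_, h2, rfl⟩
  have hsolv : Group.IsSolvable ↥(Subgroup.zpowers x) := by
    apply Group.isSolvable_of_comm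
    rintro ⟨a, ha⟩ ⟨b, hb⟩
    apply Subtype.ext
    obtain ⟨i, rfl⟩ := ha
    obtain ⟨j, rfl⟩ := hb
    exact (((Commute.refl x).zpow_left i).zpow_right j).eq
  obtain ⟨P, hQP, hxP⟩ := Cfsg.Agent.S0025.result (Subgroup.zpowers x) L ((Subgroup.zpowers_le).mpr hxL)
    (by rw [Nat.card_zpowers, hx]; exact hLcard.symm) (Or.inl hsolv) q Q (hQT.trans hTL) hQ
    ((Subgroup.zpowers_le).mpr hxQ)
  refine ⟨(P : Subgroup ↥L).map L.subtype, (IsSylowIn.of_sylow P).of_mid hLH hT hTL, hQP, ?_⟩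
  exact hxP (Subgroup.mem_zpowers x)

section main

variable (x : G) (hx : orderOf x = p) (hiso : Cfsg.IsIsolated x) (hnz : ¬ Cfsg.InZStar p x)
  (hmin : ∀ (H : Subgroup G) (hxH : x ∈ H), H ≠ ⊤ → Cfsg.InZStar p (⟨x, hxH⟩ : ↥H))
  (hquot : ∀ (N : Subgroup G) [N.Normal], N ≠ ⊥ → Cfsg.InZStar p (QuotientGroup.mk x : G ⧸ N))

include hx hiso in
/-- a maximal `x`-invariant `p`-subgroup is a Sylow `p`-subgroup -/
theorem isolated_max_invariant_p (Q : Subgroup G) (hQ : IsPGroup p ↥Q)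
    (hxQ : x ∈ Subgroup.normalizer (Q : Set G))
    (hmax : ∀ R : Subgroup G, IsPGroup p ↥R → x ∈ Subgroup.normalizer (R : Set G) → Q ≤ R → R = Q) :
    ∃ S : Sylow p G, (S : Subgroup G) = Q := by
  have hxp : IsPGroup p ↥(Subgroup.zpowers x) := by
    apply IsPGroup.of_card (n := 1)
    rw [Nat.card_zpowers, hx, pow_one]
  have h1 : IsPGroup p ↥(Q ⊔ Subgroup.zpowers x) :=
    IsPGroup.to_sup_of_normal_left' hQ hxp ((Subgroup.zpowers_le).mpr hxQ)
  have hxR : x ∈ Q ⊔ Subgroup.zpowers x := Subgroup.mem_sup_right (Subgroup.mem_zpowers x)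
  have h2 := hmax _ h1 (Subgroup.le_normalizer hxR) le_sup_left
  have hxQ' : x ∈ Q := by rw [← h2]; exact hxR
  obtain ⟨S, hS⟩ := hQ.exists_le_sylow
  refine ⟨S, ?_⟩
  have h3 := isIsolated_centralizes_of_mem_pGroup hiso S S.2 (hS hxQ')
  exact hmax S S.2 (Subgroup.centralizer_le_normalizer _ h3) hS

include hx hnz hmin hquot in
/-- a nontrivial maximal `x`-invariant `q`-subgroup, `q ≠ p`, is a Sylow `q`-subgroup -/
theorem zstar_max_invariant_q (q : ℕ) [Fact q.Prime] (hqp : q ≠ p) (Q : Subgroup G) (hQ : IsPGroup q ↥Q)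
    (hxQ : x ∈ Subgroup.normalizer (Q : Set G))
    (hmax : ∀ R : Subgroup G, IsPGroup q ↥R → x ∈ Subgroup.normalizer (R : Set G) → Q ≤ R → R = Q)
    (hQne : Q ≠ ⊥) : ∃ S : Sylow q G, (S : Subgroup G) = Q := by
  have hp : p.Prime := Fact.out
  have hq : q.Prime := Fact.out
  have hH : Subgroup.normalizer (Q : Set G) ≠ ⊤ := by
    intro htop
    apply hQne
    haveI : Q.Normal := Subgroup.normalizer_eq_top_iff.mp htop
    apply zstar_subnormal_coprime_eq_bot x hnz hquot Q (Subgroup.Normal.isSubnormal inferInstance)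
    obtain ⟨k, hk⟩ := hQ.exists_card_eq
    rw [hk]
    exact Nat.Coprime.pow_left _ ((Nat.coprime_primes hq hp).mpr hqp)
  obtain ⟨R, hR, hQR, hxR⟩ := exists_invariant_sylow_of_inZStar _ x hxQ hx (hmin _ hxQ hH) q hqp Q
    Subgroup.le_normalizer hQ hxQ
  have h1 := hmax R hR.isPGroup hxR hQR
  rw [h1] at hR
  exact hR.sylow_of_normalizer_le le_rfl

include hx hiso hnz hmin hquot in
theorem zstar_invariant_sylow_main (q : ℕ) [Fact q.Prime] :
    (∀ Q : Subgroup G, IsPGroup q ↥Q → x ∈ Subgroup.normalizer (Q : Set G) →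
      (∀ R : Subgroup G, IsPGroup q ↥R → x ∈ Subgroup.normalizer (R : Set G) → Q ≤ R → R = Q) →
        Q = ⊥ ∨ ∃ S : Sylow q G, (S : Subgroup G) = Q) ∧
    (∀ S₁ S₂ : Sylow q G, x ∈ Subgroup.normalizer ((S₁ : Subgroup G) : Set G) →
      x ∈ Subgroup.normalizer ((S₂ : Subgroup G) : Set G) →
        ∃ c ∈ Subgroup.centralizer ({x} : Set G),
          (S₁ : Subgroup G).map (MulAut.conj c).toMonoidHom = (S₂ : Subgroup G)) := by
  have hxp : IsPGroup p ↥(Subgroup.zpowers x) := by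
    apply IsPGroup.of_card (n := 1)
    rw [Nat.card_zpowers, hx, pow_one]
  refine ⟨fun Q hQ hxQ hmax => ?_, fun S₁ S₂ h1 h2 => ?_⟩
  · by_cases hQne : Q = ⊥
    · exact Or.inl hQne
    · right
      by_cases hqp : q = p
      · subst hqp
        exact isolated_max_invariant_p x hx hiso Q hQ hxQ hmax
      · exact zstar_max_invariant_q x hx hnz hmin hquot q hqp Q hQ hxQ hmax hQne
  · obtain ⟨g, -, hg⟩ := (IsSylowIn.of_sylow_top S₁).conj (IsSylowIn.of_sylow_top S₂)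
    rw [hg] at h2 ⊢
    exact isolated_conj_of_normalizes x hxp hiso _ g h1 h2

end main

end Cfsg.Agent.Lib.Helper7
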