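import Mathlib
import Cfsg.Prelude.Def_LocalStructure
import Cfsg.Agent.Lib.Helper7.AsymH
import Cfsg.Agent.Lib.Helper7.AsymY
import Cfsg.Agent.Lib.Helper7.ZStarInvariantSylow
import Cfsg.Agent.Lib.Helper7.PReduced7

set_option autoImplicit false

namespace Cfsg.Agent.Lib.Helper7.AsymH

open Cfsg Cfsg.Agent.Lib.Helper7 Cfsg.Agent.Lib.Lead.Conj Cfsg.Agent.Lib.Helper7.LargeComm
  Cfsg.Agent.Lib.Helper7.Asym
open scoped Pointwise commutatorElement

section general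

variable {G : Type*} [Group G]

/-- `nc H A` is the image of the normal closure of `A` in `H`. -/
theorem map_normalClosure_eq_nc {H A : Subgroup G} (hAH : A ≤ H) :
    (Subgroup.normalClosure ((A.subgroupOf H : Subgroup ↥H) : Set ↥H)).map H.subtype = nc H A := by
  apply le_antisymm
  · rw [Subgroup.map_le_iff_le_comap]
    have hn : ((nc H A).subgroupOf H).Normal :=
      (Subgroup.normal_subgroupOf_iff_le_normalizer (nc_le hAH)).mpr (le_normalizer_nc H A)
    apply Subgroup.normalClosure_le_normal (N := (nc H A).subgroupOf H)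
    intro x hx
    exact Subgroup.mem_subgroupOf.mpr (le_nc H A (Subgroup.mem_subgroupOf.mp hx))
  · unfold nc
    rw [Subgroup.closure_le]
    rintro _ ⟨l, hl, a, ha, rfl⟩
    refine ⟨(⟨l, hl⟩ : ↥H) * ⟨a, hAH ha⟩ * (⟨l, hl⟩ : ↥H)⁻¹, ?_, rfl⟩
    apply Subgroup.normalClosure_normal.conj_mem
    exact Subgroup.subset_normalClosure (Subgroup.mem_subgroupOf.mpr ha)

theorem nc_le_of_le {H A K : Subgroup G} (hAK : A ≤ K) (hHK : H ≤ Subgroup.normalizer (K : Set G)) :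
    nc H A ≤ K := by
  unfold nc
  rw [Subgroup.closure_le]
  rintro _ ⟨l, hl, a, ha, rfl⟩
  exact conj_mem_of_le_normalizer hHK hl (hAK ha)

/-- a subgroup normalizing `A` and `B` normalizes `⁅A, B⁆` -/
theorem le_normalizer_commutator {A B K : Subgroup G} (hA : K ≤ Subgroup.normalizer (A : Set G))
    (hB : K ≤ Subgroup.normalizer (B : Set G)) : K ≤ Subgroup.normalizer ((⁅A, B⁆ : Subgroup G) : Set G) := by
  refine le_normalizer_of_conj ?_
  intro k hk c hc
  have h1 : (⁅A, B⁆).map (MulAut.conj k).toMonoidHom ≤ ⁅A, B⁆ := by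
    rw [Subgroup.map_commutator]
    refine Subgroup.commutator_mono ?_ ?_
    · rintro _ ⟨x, hx, rfl⟩
      exact conj_mem_of_le_normalizer hA hk hx
    · rintro _ ⟨x, hx, rfl⟩
      exact conj_mem_of_le_normalizer hB hk hx
  exact h1 ⟨c, hc, rfl⟩

/-- `A` normalizes `⁅A, B⁆`. -/
theorem le_normalizer_commutator_self (A B : Subgroup G) :
    A ≤ Subgroup.normalizer ((⁅A, B⁆ : Subgroup G) : Set G) := by
  refine le_normalizer_of_conj ?_
  intro a ha c hc
  have h1 : (⁅A, B⁆).map (MulAut.conj a).toMonoidHom ≤ ⁅A, B⁆ := by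
    rw [Subgroup.commutator_def, MonoidHom.map_closure, Subgroup.closure_le]
    rintro _ ⟨_, ⟨x, hx, y, hy, rfl⟩, rfl⟩
    have e : (MulAut.conj a).toMonoidHom ⁅x, y⁆ = ⁅a * x, y⁆ * ⁅a, y⁆⁻¹ := by
      simp only [MulEquiv.coe_toMonoidHom, MulAut.conj_apply, commutatorElement_def]
      group
    rw [e]
    exact Subgroup.mul_mem _ (Subgroup.subset_closure ⟨a * x, A.mul_mem ha hx, y, hy, rfl⟩)
      (Subgroup.inv_mem _ (Subgroup.subset_closure ⟨a, ha, y, hy, rfl⟩))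
  exact h1 ⟨c, hc, rfl⟩

end general


section residual

variable {G : Type*} [Group G] {p : ℕ}

/-- `O^p(H)` viewed in the ambient group -/
theorem pRes_le (H : Subgroup G) : (pResidual p ↥H).map H.subtype ≤ H := Subgroup.map_subtype_le _

theorem le_normalizer_pRes (H : Subgroup G) :
    H ≤ Subgroup.normalizer (((pResidual p ↥H).map H.subtype : Subgroup G) : Set G) := by
  have := pResidual_normal p ↥H
  exact le_normalizer_map_subtype_of_normal H _

theorem mem_pRes_of_coprime {H : Subgroup G} {x : G} (hx : x ∈ H) (hc : (orderOf x).Coprime p) :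
    x ∈ (pResidual p ↥H).map H.subtype := by
  refine ⟨⟨x, hx⟩, mem_pResidual_of_coprime ?_, rfl⟩
  rwa [Subgroup.orderOf_mk]

theorem exists_pow_mem_pRes [Finite G] [Fact p.Prime] {H : Subgroup G} {x : G} (hx : x ∈ H) :
    ∃ k : ℕ, x ^ p ^ k ∈ (pResidual p ↥H).map H.subtype := by
  obtain ⟨a, ha⟩ := exists_pow_coprime (p := p) x
  exact ⟨a, mem_pRes_of_coprime (H.pow_mem hx _) ha⟩

/-- `O^p(H) ≤ B` if `B ⊴ H` and `H = R B` with `R` a `p`-group. -/
theorem pRes_le_of_sup_eq {H B R : Subgroup G} (hRn : R ≤ Subgroup.normalizer (B : Set G))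
    (hRp : IsPGroup p ↥R) (hsup : H ≤ R ⊔ B) :
    (pResidual p ↥H).map H.subtype ≤ B := by
  rw [Subgroup.map_le_iff_le_comap]
  unfold pResidual
  rw [Subgroup.closure_le]
  intro g hg
  have hg' : (orderOf (g : G)).Coprime p := by
    have : orderOf g = orderOf (g : G) := (Subgroup.orderOf_coe g).symm
    rw [← this]; exact hg
  show (g : G) ∈ B
  have hmem : (g : G) ∈ ((R ⊔ B : Subgroup G) : Set G) := hsup g.2
  rw [Subgroup.coe_mul_of_left_le_normalizer_right R B hRn] at hmem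
  obtain ⟨r, hr, b, hb, hrb⟩ := Set.mem_mul.mp hmem
  obtain ⟨k, hk⟩ := pow_eq_one_of_mem_isPGroup hRp hr
  obtain ⟨c', hc', e⟩ := exists_pow_mul_eq B (hRn hr) hb (p ^ k)
  have h1 : (g : G) ^ p ^ k ∈ B := by
    rw [← hrb, e, hk, one_mul]; exact hc'
  have h2 : (g : G) ^ orderOf (g : G) ∈ B := by
    rw [pow_orderOf_eq_one]; exact B.one_mem
  exact mem_of_pow_mem_of_pow_mem_of_coprime (Nat.Coprime.pow_left k hg'.symm) h1 h2

end residual


section frakH

variable {G : Type*} [Group G] [Finite G] {p : ℕ} [Fact p.Prime] {M Y C Md R H : Subgroup G}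

omit [Finite G] in
/-- a subgroup normalizing `H₁` and `Y` normalizes `nc H₁ Y` -/
theorem le_normalizer_nc_of {K H₁ A : Subgroup G} (h1 : K ≤ Subgroup.normalizer (H₁ : Set G))
    (h2 : K ≤ Subgroup.normalizer (A : Set G)) :
    K ≤ Subgroup.normalizer ((nc H₁ A : Subgroup G) : Set G) := by
  refine le_normalizer_of_conj ?_
  intro k hk w hw
  have hmap : (nc H₁ A).map (MulAut.conj k).toMonoidHom ≤ nc H₁ A := by
    unfold nc
    rw [MonoidHom.map_closure, Subgroup.closure_le]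
    rintro _ ⟨_, ⟨l, hl, a, ha, rfl⟩, rfl⟩
    apply Subgroup.subset_closure
    refine ⟨k * l * k⁻¹, conj_mem_of_le_normalizer h1 hk hl, k * a * k⁻¹,
      conj_mem_of_le_normalizer h2 hk ha, ?_⟩
    simp only [MulEquiv.coe_toMonoidHom, MulAut.conj_apply]
    group
  exact hmap ⟨w, hw, rfl⟩

/-- membership in `ℌ`, relative to `R = O_p(M)` and `Y = Y_M` -/
structure InH (p : ℕ) (Y R H : Subgroup G) : Prop where
  hRH : R ≤ H
  hYH : ¬ Y ≤ pCoreOf p H
  hmin : ∀ P : Subgroup G, R ≤ P → P < H → Y ≤ pCoreOf p P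

theorem InH.nc_eq (hH : InH p Y R H) : nc H R = H := by
  by_contra hne
  have hlt : nc H R < H := lt_of_le_of_ne (nc_le hH.hRH) hne
  have h1 := hH.hmin _ (le_nc H R) hlt
  exact hH.hYH (h1.trans (pCoreOf_le_pCoreOf_of_normal (nc_le hH.hRH) (le_normalizer_nc H R)))

theorem InH.exists_sylow (h : Ctx p M Y C Md R) (hH : InH p Y R H) :
    ∃ T, IsSylowIn p T H ∧ R ≤ T ∧ T ≤ Md ∧ T ≤ Subgroup.normalizer (R : Set G) ∧
      T ≤ Subgroup.normalizer (Y : Set G) := by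
  obtain ⟨T, hT, hRT⟩ := exists_isSylowIn_ge h.hRp hH.hRH
  have hTMd := h.le_of_isPGroup hT.isPGroup hRT
  exact ⟨T, hT, hRT, hTMd, h.le_normalizer_of_isPGroup hT.isPGroup hRT, hTMd.trans h.hMdY⟩

omit [Finite G] [Fact p.Prime] in
theorem _root_.Cfsg.Agent.Lib.Helper7.Asym.Ctx.R_le_normalizer_Y (h : Ctx p M Y C Md R) : R ≤ Subgroup.normalizer (Y : Set G) :=
  (h.hRM.trans h.hMMd).trans h.hMdY

theorem InH.pRes_sup_eq (h : Ctx p M Y C Md R) (hH : InH p Y R H) :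
    (pResidual p ↥H).map H.subtype ⊔ R = H := by
  obtain ⟨A, hAdef⟩ : ∃ A, A = (pResidual p ↥H).map H.subtype := ⟨_, rfl⟩
  rw [← hAdef]
  have hAH : A ≤ H := hAdef ▸ pRes_le H
  have hHA : H ≤ Subgroup.normalizer (A : Set G) := hAdef ▸ le_normalizer_pRes H
  obtain ⟨T, hT, hRT, -, hTR, hTY⟩ := hH.exists_sylow h
  have hle : A ⊔ R ≤ H := sup_le hAH hH.hRH
  by_contra hne
  have hlt : A ⊔ R < H := lt_of_le_of_ne hle hne
  have h1 := hH.hmin _ le_sup_right hlt
  -- `N = nc (A ⊔ R) Y` is a `p`-group normalized by `H`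
  have hNp : IsPGroup p ↥(nc (A ⊔ R) Y) :=
    (pCoreOf_isPGroup (A ⊔ R)).to_le (nc_le_of_le h1 (le_normalizer_pCoreOf _))
  have hTH₁ : T ≤ Subgroup.normalizer ((A ⊔ R : Subgroup G) : Set G) :=
    (le_inf (hT.1.trans hHA) hTR).trans (Subgroup.normalizer_inf_normalizer_le_normalizer_sup A R)
  have hTN := le_normalizer_nc_of hTH₁ hTY
  have hHle : H ≤ A ⊔ T :=
    AsymY.le_sup_sylow hAH hHA hT (fun x hx => hAdef ▸ exists_pow_mem_pRes hx)
  have hHN : H ≤ Subgroup.normalizer ((nc (A ⊔ R) Y : Subgroup G) : Set G) :=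
    hHle.trans (sup_le (le_sup_left.trans (le_normalizer_nc _ _)) hTN)
  have hYle : Y ≤ A ⊔ R := h.hYR.trans le_sup_right
  have h2 := le_pCoreOf ((nc_le hYle).trans hle) hHN hNp
  exact hH.hYH ((le_nc _ _).trans h2)

theorem InH.commutator_eq (h : Ctx p M Y C Md R) (hH : InH p Y R H) :
    ⁅(pResidual p ↥H).map H.subtype, Y⁆ = (pResidual p ↥H).map H.subtype := by
  have hsup := hH.pRes_sup_eq h
  obtain ⟨A, hAdef⟩ : ∃ A, A = (pResidual p ↥H).map H.subtype := ⟨_, rfl⟩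
  rw [← hAdef] at hsup ⊢
  have hAH : A ≤ H := hAdef ▸ pRes_le H
  have hHA : H ≤ Subgroup.normalizer (A : Set G) := hAdef ▸ le_normalizer_pRes H
  have hYH : Y ≤ H := h.hYR.trans hH.hRH
  have hRY := h.R_le_normalizer_Y
  have hBA : ⁅A, Y⁆ ≤ A := Subgroup.le_normalizer_iff_commutator_le_left.mp (hYH.trans hHA)
  have hRB : R ≤ Subgroup.normalizer ((⁅A, Y⁆ : Subgroup G) : Set G) :=
    le_normalizer_commutator (hH.hRH.trans hHA) hRY
  have hHB : H ≤ Subgroup.normalizer ((⁅A, Y⁆ : Subgroup G) : Set G) := by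
    rw [← hsup]
    exact sup_le (le_normalizer_commutator_self A Y) hRB
  apply le_antisymm hBA
  -- `H = R ⊔ B`
  have hle : R ⊔ ⁅A, Y⁆ ≤ H := sup_le hH.hRH (hBA.trans hAH)
  have heq : R ⊔ ⁅A, Y⁆ = H := by
    by_contra hne
    have hlt : R ⊔ ⁅A, Y⁆ < H := lt_of_le_of_ne hle hne
    have h1 := hH.hmin _ le_sup_left hlt
    -- `Y ⊔ B` is normal in `H`
    have hAYB : A ≤ Subgroup.normalizer ((Y ⊔ ⁅A, Y⁆ : Subgroup G) : Set G) := by
      refine le_normalizer_of_conj ?_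
      intro a ha w hw
      have hmap : (Y ⊔ ⁅A, Y⁆).map (MulAut.conj a).toMonoidHom ≤ Y ⊔ ⁅A, Y⁆ := by
        rw [Subgroup.map_sup]
        refine sup_le ?_ ?_
        · rintro _ ⟨y, hy, rfl⟩
          have e : (MulAut.conj a).toMonoidHom y = ⁅a, y⁆ * y := by
            simp only [MulEquiv.coe_toMonoidHom, MulAut.conj_apply, commutatorElement_def]
            group
          rw [e]
          exact Subgroup.mul_mem _ (Subgroup.mem_sup_right
            (Subgroup.commutator_mem_commutator ha hy)) (Subgroup.mem_sup_left hy)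
        · rintro _ ⟨b, hb, rfl⟩
          exact Subgroup.mem_sup_right
            (conj_mem_of_le_normalizer (le_normalizer_commutator_self A Y) ha hb)
      exact hmap ⟨w, hw, rfl⟩
    have hRYB : R ≤ Subgroup.normalizer ((Y ⊔ ⁅A, Y⁆ : Subgroup G) : Set G) :=
      (le_inf hRY hRB).trans (Subgroup.normalizer_inf_normalizer_le_normalizer_sup _ _)
    have hHYB : H ≤ Subgroup.normalizer ((Y ⊔ ⁅A, Y⁆ : Subgroup G) : Set G) := by
      rw [← hsup]; exact sup_le hAYB hRYB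
    have hYBle : Y ⊔ ⁅A, Y⁆ ≤ R ⊔ ⁅A, Y⁆ := sup_le_sup_right h.hYR _
    have hN2n : Y ⊔ ⁅A, Y⁆ ≤ Subgroup.normalizer
        ((pCoreOf p (R ⊔ ⁅A, Y⁆) ⊓ (Y ⊔ ⁅A, Y⁆) : Subgroup G) : Set G) :=
      (le_inf (hYBle.trans (le_normalizer_pCoreOf _)) Subgroup.le_normalizer).trans
        Subgroup.inf_normalizer_le_normalizer_inf
    have h2 := le_pCoreOf_of_normal_in_normal (p := p) (L := H) (K := Y ⊔ ⁅A, Y⁆)
      (R := pCoreOf p (R ⊔ ⁅A, Y⁆) ⊓ (Y ⊔ ⁅A, Y⁆)) inf_le_right (hYBle.trans hle) hHYB hN2n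
      ((pCoreOf_isPGroup _).to_le inf_le_left)
    exact hH.hYH ((le_inf h1 le_sup_left).trans h2)
  have := pRes_le_of_sup_eq (H := H) hRB h.hRp heq.ge
  rwa [← hAdef] at this

theorem InH.pRes_sup_Y_eq (h : Ctx p M Y C Md R) (hH : InH p Y R H) :
    (pResidual p ↥H).map H.subtype ⊔ Y = nc H Y := by
  have hsup := hH.pRes_sup_eq h
  have hcomm := hH.commutator_eq h
  obtain ⟨A, hAdef⟩ : ∃ A, A = (pResidual p ↥H).map H.subtype := ⟨_, rfl⟩
  rw [← hAdef] at hsup hcomm ⊢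
  have hAH : A ≤ H := hAdef ▸ pRes_le H
  have hHA : H ≤ Subgroup.normalizer (A : Set G) := hAdef ▸ le_normalizer_pRes H
  have hYH : Y ≤ H := h.hYR.trans hH.hRH
  apply le_antisymm
  · refine sup_le ?_ (le_nc H Y)
    rw [← hcomm, Subgroup.commutator_le]
    intro a ha y hy
    rw [commutatorElement_def]
    have h1 : a * y * a⁻¹ ∈ nc H Y :=
      conj_mem_of_le_normalizer (le_normalizer_nc H Y) (hAH ha) (le_nc H Y hy)
    exact Subgroup.mul_mem _ h1 (Subgroup.inv_mem _ (le_nc H Y hy))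
  · refine nc_le_of_le le_sup_right ?_
    rw [← hsup]
    refine sup_le (le_sup_left.trans Subgroup.le_normalizer) ?_
    exact (le_inf (hH.hRH.trans hHA) h.R_le_normalizer_Y).trans
      (Subgroup.normalizer_inf_normalizer_le_normalizer_sup _ _)

theorem InH.pCoreOf_le (h : Ctx p M Y C Md R) (hH : InH p Y R H) :
    pCoreOf p H ≤ Subgroup.normalizer (R : Set G) ⊓ Subgroup.normalizer (Y : Set G) := by
  have h1 : IsPGroup p ↥(pCoreOf p H ⊔ R) :=
    IsPGroup.to_sup_of_normal_left' (pCoreOf_isPGroup H) h.hRp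
      (hH.hRH.trans (le_normalizer_pCoreOf H))
  exact le_sup_left.trans (le_inf (h.le_normalizer_of_isPGroup h1 le_sup_right)
    ((h.le_of_isPGroup h1 le_sup_right).trans h.hMdY))

theorem InH.sylow_meet (h : Ctx p M Y C Md R) (hH : InH p Y R H)
    (T : Sylow p ↥(H ⊓ Md)) :
    ∃ P : Sylow p ↥H, ((P : Subgroup ↥H).map H.subtype) =
      (T : Subgroup ↥(H ⊓ Md)).map (H ⊓ Md).subtype := by
  obtain ⟨P₀, hP₀⟩ := h.parabolic hH.hRH
  have hP₀' : IsSylowIn p ((P₀ : Subgroup ↥H).map H.subtype) H := IsSylowIn.of_sylow P₀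
  have hP₀le : (P₀ : Subgroup ↥H).map H.subtype ≤ H ⊓ Md := by
    rintro _ ⟨x, hx, rfl⟩
    exact Subgroup.mem_subgroupOf.mp (hP₀ hx)
  have hT' : IsSylowIn p ((T : Subgroup ↥(H ⊓ Md)).map (H ⊓ Md).subtype) (H ⊓ Md) :=
    IsSylowIn.of_sylow T
  have hT'H := hT'.of_mid inf_le_left hP₀' hP₀le
  obtain ⟨P, hP⟩ := hT'H.exists_sylow
  refine ⟨P, ?_⟩
  rw [hP, Subgroup.map_subgroupOf_eq_of_le hT'H.1]


omit [Finite G] [Fact p.Prime] in
theorem inH_of_isInFrakH {M H : Subgroup G} (hH : IsInFrakH p M H) :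
    InH p (largestPReducedOf p M) (pCoreOf p M) H :=
  ⟨hH.2.1, hH.2.2.1, hH.2.2.2⟩

theorem frakH_structure (S : Sylow p G) (Q : Subgroup G) (hQp : IsPGroup p ↥Q) (hQ1 : Q ≠ ⊥)
    (hQ : Cfsg.IsLarge Q) (M : Subgroup G) (hSM : (S : Subgroup G) ≤ M)
    (hM : Cfsg.IsInFrakM p M)
    (hasym : ¬ Cfsg.IsSymmetricIn (Cfsg.largestPReducedOf p M)) (H : Subgroup G)
    (hH : Cfsg.IsInFrakH p M H) (R : Subgroup G)
    (hR : R = (Cfsg.pResidual p ↥H).map H.subtype) :
    (∀ T : Sylow p ↥(H ⊓ (M ⊔ Subgroup.centralizer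
        (((Cfsg.largestPReducedOf p M) : Subgroup G) : Set G))),
      ∃ P : Sylow p ↥H, ((P : Subgroup ↥H).map H.subtype) =
        (T : Subgroup ↥(H ⊓ (M ⊔ Subgroup.centralizer
          (((Cfsg.largestPReducedOf p M) : Subgroup G) : Set G)))).map
          (H ⊓ (M ⊔ Subgroup.centralizer
            (((Cfsg.largestPReducedOf p M) : Subgroup G) : Set G))).subtype) ∧
    Cfsg.pCoreOf p H ≤ Subgroup.normalizer (((Cfsg.pCoreOf p M) : Subgroup G) : Set G) ⊓
      Subgroup.normalizer (((Cfsg.largestPReducedOf p M) : Subgroup G) : Set G) ∧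
    ⁅R, (Cfsg.largestPReducedOf p M)⁆ = R ∧ R ⊔ (Cfsg.pCoreOf p M) = H ∧
    R ⊔ (Cfsg.largestPReducedOf p M) = (Subgroup.normalClosure
      ((((Cfsg.largestPReducedOf p M)).subgroupOf H : Subgroup ↥H) : Set ↥H)).map H.subtype ∧
    (Subgroup.normalClosure ((((Cfsg.pCoreOf p M)).subgroupOf H : Subgroup ↥H) : Set ↥H)).map
      H.subtype = H := by
  have h := ctx_of_frakM S Q hQp hQ1 hQ M hSM hM hasym
  have hI := inH_of_isInFrakH hH
  subst hR
  refine ⟨fun T => hI.sylow_meet h T, hI.pCoreOf_le h, hI.commutator_eq h, hI.pRes_sup_eq h, ?_, ?_⟩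
  · rw [map_normalClosure_eq_nc (h.hYR.trans hI.hRH)]
    exact hI.pRes_sup_Y_eq h
  · rw [map_normalClosure_eq_nc hI.hRH]
    exact hI.nc_eq

end frakH

end Cfsg.Agent.Lib.Helper7.AsymH
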