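import Mathlib
import Cfsg.Prelude.Def_LocalStructure
import Cfsg.Agent.Lib.Helper7.AsymH2
import Cfsg.Agent.Lib.Helper7.PIrreducible4

set_option autoImplicit false

namespace Cfsg.Agent.Lib.Helper7.AsymH

open Cfsg Cfsg.Agent.Lib.Helper7 Cfsg.Agent.Lib.Lead.Conj Cfsg.Agent.Lib.Helper7.LargeComm
  Cfsg.Agent.Lib.Helper7.Asym
open scoped Pointwise commutatorElement

section general

variable {G : Type*} [Group G] {p : ℕ}

/-- `O^p(H)` in the ambient group, as a closure. -/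
theorem pRes_eq_closure (H : Subgroup G) :
    (pResidual p ↥H).map H.subtype =
      Subgroup.closure {x : G | x ∈ H ∧ (orderOf x).Coprime p} := by
  unfold pResidual
  rw [MonoidHom.map_closure]
  congr 1
  ext x
  constructor
  · rintro ⟨g, hg, rfl⟩
    refine ⟨g.2, ?_⟩
    have : orderOf g = orderOf (g : G) := (Subgroup.orderOf_coe g).symm
    show (orderOf (g : G)).Coprime p
    rw [← this]; exact hg
  · rintro ⟨hx, hc⟩
    refine ⟨⟨x, hx⟩, ?_, rfl⟩
    show (orderOf (⟨x, hx⟩ : ↥H)).Coprime p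
    rwa [Subgroup.orderOf_mk]

/-- a subgroup normalizing `H` normalizes `O^p(H)` -/
theorem le_normalizer_pRes_of_le_normalizer {K H : Subgroup G}
    (hK : K ≤ Subgroup.normalizer (H : Set G)) :
    K ≤ Subgroup.normalizer (((pResidual p ↥H).map H.subtype : Subgroup G) : Set G) := by
  refine le_normalizer_of_conj ?_
  intro k hk w hw
  have hmap : ((pResidual p ↥H).map H.subtype).map (MulAut.conj k).toMonoidHom ≤
      (pResidual p ↥H).map H.subtype := by
    rw [pRes_eq_closure, MonoidHom.map_closure, Subgroup.closure_le]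
    rintro _ ⟨x, ⟨hx, hc⟩, rfl⟩
    apply Subgroup.subset_closure
    refine ⟨conj_mem_of_le_normalizer hK hk hx, ?_⟩
    show (orderOf (k * x * k⁻¹)).Coprime p
    rwa [orderOf_conj]
  exact hmap ⟨w, hw, rfl⟩

theorem pRes_mono {H K : Subgroup G} (hHK : H ≤ K) :
    (pResidual p ↥H).map H.subtype ≤ (pResidual p ↥K).map K.subtype := by
  rw [pRes_eq_closure, pRes_eq_closure]
  apply Subgroup.closure_mono
  rintro x ⟨hx, hc⟩
  exact ⟨hHK hx, hc⟩

/-- a subgroup normalizing `N` normalizes `O_p(N)` -/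
theorem le_normalizer_pCoreOf_of_le_normalizer {K N : Subgroup G}
    (hK : K ≤ Subgroup.normalizer (N : Set G)) :
    K ≤ Subgroup.normalizer ((pCoreOf p N : Subgroup G) : Set G) := by
  intro k hk
  apply mem_normalizer_of_cj_eq
  rw [← pCoreOf_cj, cj_eq_of_mem_normalizer (hK hk)]

/-- commutators with the normal closure -/
theorem comm_mem_nc {L Y N P : Subgroup G} (hLN : L ≤ Subgroup.normalizer (N : Set G))
    (hLP : L ≤ Subgroup.normalizer (P : Set G)) (hYL : Y ≤ L)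
    (h : ∀ n ∈ N, ∀ y ∈ Y, ⁅n, y⁆ ∈ P) : ∀ w ∈ nc L Y, ∀ n ∈ N, ⁅n, w⁆ ∈ P := by
  intro w hw
  have hwL : ∀ w ∈ nc L Y, w ∈ L := fun w hw => nc_le hYL hw
  unfold nc at hw hwL
  induction hw using Subgroup.closure_induction with
  | mem x hx =>
    obtain ⟨l, hl, y, hy, rfl⟩ := hx
    intro n hn
    rw [comm_conj_right]
    exact conj_mem_of_le_normalizer hLP hl (h _ (conj_mem_of_le_normalizer' hLN hl hn) y hy)
  | one =>
    intro n _
    simp
  | mul x y hx' hy' hx hy =>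
    intro n hn
    rw [comm_mul_right]
    exact Subgroup.mul_mem _ (hx n hn) (conj_mem_of_le_normalizer hLP (hwL x hx') (hy n hn))
  | inv x hx' hx =>
    intro n hn
    rw [comm_inv_right]
    have h' := conj_mem_of_le_normalizer hLP (L.inv_mem (hwL x hx')) (Subgroup.inv_mem _ (hx n hn))
    simpa using h'

end general


section frakHQ

variable {G : Type*} [Group G] [Finite G] {p : ℕ} [Fact p.Prime] {M Y C Md R H Qg : Subgroup G}

omit [Finite G] [Fact p.Prime] in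
theorem _root_.Cfsg.Agent.Lib.Helper7.Asym.Ctx.normalizer_Y_eq (h : Ctx p M Y C Md R) : Subgroup.normalizer (Y : Set G) = Md := by
  apply le_antisymm _ h.hMdY
  by_cases hY1 : Y = ⊥
  · rw [h.hY1 hY1]; exact le_top
  · exact h.hmax _ Y (h.hMMd.trans h.hMdY) Subgroup.le_normalizer le_rfl (h.hRp.to_le h.hYR) hY1

omit [Finite G] [Fact p.Prime] in
theorem InH.Qg_le_pCoreOf (hQgp : IsPGroup p ↥Qg)
    (hHQ : H ≤ Subgroup.normalizer (Qg : Set G)) : Qg ≤ pCoreOf p (H ⊔ Qg) :=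
  le_pCoreOf le_sup_right (sup_le hHQ Subgroup.le_normalizer) hQgp

theorem InH.pCoreOf_sup_le (h : Ctx p M Y C Md R) (hH : InH p Y R H) :
    pCoreOf p (H ⊔ Qg) ≤ Subgroup.normalizer (R : Set G) := by
  have h1 : IsPGroup p ↥(pCoreOf p (H ⊔ Qg) ⊔ R) :=
    IsPGroup.to_sup_of_normal_left' (pCoreOf_isPGroup _) h.hRp
      ((hH.hRH.trans le_sup_left).trans (le_normalizer_pCoreOf _))
  exact le_sup_left.trans (h.le_normalizer_of_isPGroup h1 le_sup_right)

/-- `H` is the normal closure of `R` in `H Qg`, hence normal. -/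
theorem InH.le_normalizer_self (h : Ctx p M Y C Md R) (hH : InH p Y R H) (hQgp : IsPGroup p ↥Qg)
    (hHQ : H ≤ Subgroup.normalizer (Qg : Set G)) :
    H ⊔ Qg ≤ Subgroup.normalizer (H : Set G) := by
  have hQR : Qg ≤ Subgroup.normalizer (R : Set G) :=
    (InH.Qg_le_pCoreOf hQgp hHQ).trans (hH.pCoreOf_sup_le h)
  have hconj : ∀ k ∈ H ⊔ Qg, ∀ r ∈ R, k * r * k⁻¹ ∈ H := by
    intro k hk r hr
    have hk' : k ∈ ((H ⊔ Qg : Subgroup G) : Set G) := hk
    rw [Subgroup.coe_mul_of_left_le_normalizer_right H Qg hHQ] at hk'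
    obtain ⟨l, hl, x, hx, rfl⟩ := Set.mem_mul.mp hk'
    have h1 : x * r * x⁻¹ ∈ R := conj_mem_of_le_normalizer hQR hx hr
    have e : l * x * r * (l * x)⁻¹ = l * (x * r * x⁻¹) * l⁻¹ := by group
    rw [e]
    exact H.mul_mem (H.mul_mem hl (hH.hRH h1)) (H.inv_mem hl)
  have h2 : nc (H ⊔ Qg) R ≤ H := by
    unfold nc
    rw [Subgroup.closure_le]
    rintro _ ⟨k, hk, r, hr, rfl⟩
    exact hconj k hk r hr
  have h3 : H ≤ nc (H ⊔ Qg) R := by
    conv_lhs => rw [← hH.nc_eq]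
    unfold nc
    apply Subgroup.closure_mono
    rintro _ ⟨l, hl, r, hr, rfl⟩
    exact ⟨l, Subgroup.mem_sup_left hl, r, hr, rfl⟩
  have h4 : H = nc (H ⊔ Qg) R := le_antisymm h3 h2
  conv_rhs => rw [h4]
  exact le_normalizer_nc _ _

theorem InH.pRes_sup_eq' (h : Ctx p M Y C Md R) (hH : InH p Y R H) (hQgp : IsPGroup p ↥Qg)
    (hHQ : H ≤ Subgroup.normalizer (Qg : Set G)) :
    (pResidual p ↥H).map H.subtype = (pResidual p ↥(H ⊔ Qg)).map (H ⊔ Qg).subtype := by
  apply le_antisymm (pRes_mono le_sup_left)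
  have hn := hH.le_normalizer_self h hQgp hHQ
  have hRQp : IsPGroup p ↥(R ⊔ Qg) :=
    IsPGroup.to_sup_of_normal_right' h.hRp hQgp (hH.hRH.trans hHQ)
  have hRQn : R ⊔ Qg ≤ Subgroup.normalizer
      (((pResidual p ↥H).map H.subtype : Subgroup G) : Set G) :=
    le_normalizer_pRes_of_le_normalizer ((sup_le_sup_right hH.hRH Qg).trans hn)
  refine pRes_le_of_sup_eq hRQn hRQp ?_
  refine sup_le ?_ (le_sup_right.trans le_sup_left)
  conv_lhs => rw [← hH.pRes_sup_eq h]
  exact sup_le le_sup_right (le_sup_left.trans le_sup_left)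


omit [Finite G] [Fact p.Prime] in
theorem InH.not_isPClosed (hH : InH p Y R H) (hYp : IsPGroup p ↥Y) (hYH : Y ≤ H)
    (K : Subgroup G) (hHK : H ≤ K) : ¬ IsPClosed p ↥K := by
  intro hc
  obtain ⟨T, hT⟩ := (hYp.comap_subtype (K := K)).exists_le_sylow
  have hTn : (T : Subgroup ↥K).Normal := hc T
  have hTle : (T : Subgroup ↥K) ≤ pCore p ↥K := le_pCore hTn T.isPGroup'
  have hYK : Y ≤ pCoreOf p K := by
    intro y hy
    exact ⟨⟨y, hHK (hYH hy)⟩, hTle (hT (Subgroup.mem_subgroupOf.mpr hy)), rfl⟩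
  have h1 : pCoreOf p K ⊓ H ≤ pCoreOf p H := by
    refine le_pCoreOf inf_le_right ?_ ((pCoreOf_isPGroup K).to_le inf_le_left)
    exact (le_inf (hHK.trans (le_normalizer_pCoreOf K)) Subgroup.le_normalizer).trans
      Subgroup.inf_normalizer_le_normalizer_inf
  exact hH.hYH ((le_inf hYK hYH).trans h1)

/-- a normal subgroup `N` of `H Qg` not containing `O^p(H)` is `p`-closed -/
theorem InH.isPClosed_of_normal (h : Ctx p M Y C Md R) (hH : InH p Y R H)
    {K N : Subgroup G} (hHK : H ≤ K) (hKH : K ≤ Subgroup.normalizer (H : Set G))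
    (hres : (pResidual p ↥K).map K.subtype ≤ (pResidual p ↥H).map H.subtype)
    (hNK : N ≤ K) (hKN : K ≤ Subgroup.normalizer (N : Set G))
    (hnot : ¬ (pResidual p ↥H).map H.subtype ≤ N) : IsPClosed p ↥N := by
  have hRK : R ≤ K := hH.hRH.trans hHK
  have hYH : Y ≤ H := h.hYR.trans hH.hRH
  have hRN : R ≤ Subgroup.normalizer (N : Set G) := hRK.trans hKN
  -- (a') the subgroup `(N ⊔ R) ⊓ H` is proper in `H`
  have hlt : (N ⊔ R) ⊓ H < H := by
    refine lt_of_le_of_ne inf_le_right ?_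
    intro heq
    apply hnot
    have hle : H ≤ R ⊔ N := by
      rw [sup_comm]
      exact (inf_eq_right.mp heq)
    exact pRes_le_of_sup_eq hRN h.hRp hle
  have h1 := hH.hmin _ (le_inf le_sup_right hH.hRH) hlt
  -- (c')
  have hNRK : N ⊔ R ≤ K := sup_le hNK hRK
  have hn : N ⊔ R ≤ Subgroup.normalizer (((N ⊔ R) ⊓ H : Subgroup G) : Set G) :=
    (le_inf Subgroup.le_normalizer (hNRK.trans hKH)).trans
      Subgroup.inf_normalizer_le_normalizer_inf
  have h2 : Y ≤ pCoreOf p (N ⊔ R) := h1.trans (pCoreOf_le_pCoreOf_of_normal inf_le_left hn)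
  -- (d)
  have hPN : pCoreOf p (N ⊔ R) ⊓ N ≤ pCoreOf p N := by
    refine le_pCoreOf inf_le_right ?_ ((pCoreOf_isPGroup _).to_le inf_le_left)
    exact (le_inf (le_sup_left.trans (le_normalizer_pCoreOf _)) Subgroup.le_normalizer).trans
      Subgroup.inf_normalizer_le_normalizer_inf
  have hd : ∀ n ∈ N, ∀ y ∈ Y, ⁅n, y⁆ ∈ pCoreOf p N := by
    intro n hn' y hy
    apply hPN
    constructor
    · rw [commutatorElement_def]
      have h3 : n * y * n⁻¹ ∈ pCoreOf p (N ⊔ R) :=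
        conj_mem_of_le_normalizer (le_normalizer_pCoreOf _) (Subgroup.mem_sup_left hn') (h2 hy)
      exact Subgroup.mul_mem _ h3 (Subgroup.inv_mem _ (h2 hy))
    · have h3 : y * n⁻¹ * y⁻¹ ∈ N :=
        conj_mem_of_le_normalizer hKN (hHK (hYH hy)) (N.inv_mem hn')
      have e : ⁅n, y⁆ = n * (y * n⁻¹ * y⁻¹) := by rw [commutatorElement_def]; group
      rw [e]
      exact N.mul_mem hn' h3
  -- (e)
  have hHN : H ≤ Subgroup.normalizer (N : Set G) := hHK.trans hKN
  have he := comm_mem_nc hHN (le_normalizer_pCoreOf_of_le_normalizer (p := p) hHN) hYH hd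
  -- (f)
  have hf : ∀ x ∈ N, (orderOf x).Coprime p → ∀ n ∈ N, ⁅n, x⁆ ∈ pCoreOf p N := by
    intro x hx hc n hn'
    have hxA : x ∈ (pResidual p ↥H).map H.subtype := hres (mem_pRes_of_coprime (hNK hx) hc)
    have hxW : x ∈ nc H Y := by
      rw [← hH.pRes_sup_Y_eq h]
      exact Subgroup.mem_sup_left hxA
    exact he x hxW n hn'
  -- (g)
  obtain ⟨T, hT, hPT⟩ := exists_isSylowIn_ge (pCoreOf_isPGroup (p := p) N) (Cfsg.Agent.Lib.Helper7.pCoreOf_le N)
  have hAT : (pResidual p ↥N).map N.subtype ≤ Subgroup.normalizer (T : Set G) := by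
    rw [pRes_eq_closure, Subgroup.closure_le]
    rintro x ⟨hx, hc⟩
    have hxinv : ∀ z ∈ N, (orderOf z).Coprime p → ∀ t ∈ T, z * t * z⁻¹ ∈ T := by
      intro z hz hzc t ht
      have h3 := hf z hz hzc t (hT.1 ht)
      have e : z * t * z⁻¹ = ⁅t, z⁆⁻¹ * t := by rw [commutatorElement_def]; group
      rw [e]
      exact T.mul_mem (T.inv_mem (hPT h3)) ht
    show x ∈ Subgroup.normalizer (T : Set G)
    rw [Subgroup.mem_normalizer_iff]
    intro t
    constructor
    · exact hxinv x hx hc t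
    · intro ht
      have hc' : (orderOf x⁻¹).Coprime p := by rwa [orderOf_inv]
      have := hxinv x⁻¹ (N.inv_mem hx) hc' _ ht
      have e : x⁻¹ * (x * t * x⁻¹) * x⁻¹⁻¹ = t := by group
      rwa [e] at this
  have hNle : N ≤ (pResidual p ↥N).map N.subtype ⊔ T :=
    AsymY.le_sup_sylow (pRes_le N) (le_normalizer_pRes N) hT (fun x hx => exists_pow_mem_pRes hx)
  have hNT : N ≤ Subgroup.normalizer (T : Set G) :=
    hNle.trans (sup_le hAT Subgroup.le_normalizer)
  -- (h)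
  obtain ⟨Rs, hRs⟩ := hT.exists_sylow
  rw [isPClosed_iff_normal Rs, hRs]
  exact (Subgroup.normal_subgroupOf_iff_le_normalizer hT.1).mpr hNT


theorem InH.isPIrreducible (h : Ctx p M Y C Md R) (hH : InH p Y R H) (hQgp : IsPGroup p ↥Qg)
    (hHQ : H ≤ Subgroup.normalizer (Qg : Set G)) : IsPIrreducible p ↥(H ⊔ Qg) := by
  have hYH : Y ≤ H := h.hYR.trans hH.hRH
  have hYp : IsPGroup p ↥Y := h.hRp.to_le h.hYR
  refine ⟨hH.not_isPClosed hYp hYH _ le_sup_left, ?_⟩
  intro N' hN'n hN'c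
  by_contra hnot
  apply hN'c
  have hn := hH.le_normalizer_self h hQgp hHQ
  have hres := hH.pRes_sup_eq' h hQgp hHQ
  have := hN'n
  have hKN : H ⊔ Qg ≤ Subgroup.normalizer ((N'.map (H ⊔ Qg).subtype : Subgroup G) : Set G) :=
    le_normalizer_map_subtype_of_normal (H ⊔ Qg) N'
  have hnot' : ¬ (pResidual p ↥H).map H.subtype ≤ N'.map (H ⊔ Qg).subtype := by
    intro hle
    apply hnot
    intro x hx
    have hx' : (x : G) ∈ (pResidual p ↥(H ⊔ Qg)).map (H ⊔ Qg).subtype := ⟨x, hx, rfl⟩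
    rw [← hres] at hx'
    obtain ⟨n', hn', hn'x⟩ := hle hx'
    have : n' = x := Subtype.ext hn'x
    rwa [← this]
  have hc := hH.isPClosed_of_normal h le_sup_left hn hres.ge (Subgroup.map_subtype_le _) hKN hnot'
  exact (isPClosed_of_mulEquiv
    (N'.equivMapOfInjective (H ⊔ Qg).subtype (Subgroup.subtype_injective _))).mpr hc

theorem frakH_large_conj (S : Sylow p G) (Q : Subgroup G) (hQp : IsPGroup p ↥Q) (hQ1 : Q ≠ ⊥)
    (hQ : Cfsg.IsLarge Q) (M : Subgroup G) (hSM : (S : Subgroup G) ≤ M)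
    (hM : Cfsg.IsInFrakM p M)
    (hasym : ¬ Cfsg.IsSymmetricIn (Cfsg.largestPReducedOf p M)) (H : Subgroup G)
    (hH : Cfsg.IsInFrakH p M H) (g : G)
    (hHQ : H ≤ Subgroup.normalizer
      ((((Q : Subgroup G).map (MulAut.conj (g : G)).toMonoidHom) : Subgroup G) : Set G)) :
    ((Q : Subgroup G).map (MulAut.conj (g : G)).toMonoidHom) ≤
      Cfsg.pCoreOf p (H ⊔ ((Q : Subgroup G).map (MulAut.conj (g : G)).toMonoidHom)) ∧
    Cfsg.pCoreOf p (H ⊔ ((Q : Subgroup G).map (MulAut.conj (g : G)).toMonoidHom)) ≤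
      Subgroup.normalizer (((Cfsg.pCoreOf p M) : Subgroup G) : Set G) ∧
    Subgroup.normalizer (((Cfsg.pCoreOf p M) : Subgroup G) : Set G) ≤
      Subgroup.normalizer (((Cfsg.largestPReducedOf p M) : Subgroup G) : Set G) ∧
    Subgroup.normalizer (((Cfsg.largestPReducedOf p M) : Subgroup G) : Set G) =
      (M ⊔ Subgroup.centralizer (((Cfsg.largestPReducedOf p M) : Subgroup G) : Set G)) ∧
    (H.subgroupOf (H ⊔ ((Q : Subgroup G).map (MulAut.conj (g : G)).toMonoidHom))).Normal ∧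
    (Cfsg.pResidual p ↥H).map H.subtype =
      (Cfsg.pResidual p ↥(H ⊔ ((Q : Subgroup G).map (MulAut.conj (g : G)).toMonoidHom))).map
        (H ⊔ ((Q : Subgroup G).map (MulAut.conj (g : G)).toMonoidHom)).subtype ∧
    Cfsg.IsPIrreducible p ↥(H ⊔ ((Q : Subgroup G).map (MulAut.conj (g : G)).toMonoidHom)) := by
  have h := ctx_of_frakM S Q hQp hQ1 hQ M hSM hM hasym
  have hI := inH_of_isInFrakH hH
  have hQgp : IsPGroup p ↥((Q : Subgroup G).map (MulAut.conj (g : G)).toMonoidHom) := hQp.map _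
  refine ⟨InH.Qg_le_pCoreOf hQgp hHQ, hI.pCoreOf_sup_le h, ?_, h.normalizer_Y_eq, ?_,
    hI.pRes_sup_eq' h hQgp hHQ, hI.isPIrreducible h hQgp hHQ⟩
  · exact (h.normalizer_le h.hRp le_rfl).2.trans h.hMdY
  · exact (Subgroup.normal_subgroupOf_iff_le_normalizer le_sup_left).mpr
      (hI.le_normalizer_self h hQgp hHQ)

end frakHQ

end Cfsg.Agent.Lib.Helper7.AsymH
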