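import Mathlib
import Cfsg.Prelude.Def_PLocal
import Cfsg.Prelude.Def_TwoFusion
import Cfsg.Agent.Lib.Helper4.ZJ2

/-!
# An axiomatic form of Glauberman's ZJ-theorem

For a family `𝒜` of abelian subgroups of a Sylow `p`-subgroup `S` of `G` with an invariance and a replacement
property, the intersection `IOf 𝒜 S` of the members of `𝒜` is normal in `G` when `G` is `p`-constrained and
`p`-stable (adapted from `Cfsg.Agent.Lib.Helper4.ZJ2`).
-/

set_option autoImplicit false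
open scoped commutatorElement

namespace Cfsg.Agent.Lib.Helper7.AxGT

open Cfsg.Agent.Lib.Lead.Conj Cfsg.Agent.Lib.Helper4.ZJ

variable {G : Type*} [Group G]

/-- the intersection of the members of `𝒜` contained in `Q` -/
def IOf (𝒜 : Set (Subgroup G)) (Q : Subgroup G) : Subgroup G :=
  ⨅ A ∈ {A : Subgroup G | A ∈ 𝒜 ∧ A ≤ Q}, A

theorem mem_IOf {𝒜 : Set (Subgroup G)} {Q : Subgroup G} {x : G} :
    x ∈ IOf 𝒜 Q ↔ ∀ A ∈ 𝒜, A ≤ Q → x ∈ A := by
  unfold IOf
  rw [Subgroup.mem_iInf]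
  constructor
  · intro h A hA hAQ
    have h1 := h A
    rw [Subgroup.mem_iInf] at h1
    exact h1 ⟨hA, hAQ⟩
  · intro h A
    rw [Subgroup.mem_iInf]
    rintro ⟨hA, hAQ⟩
    exact h A hA hAQ

theorem IOf_le {𝒜 : Set (Subgroup G)} {Q A : Subgroup G} (hA : A ∈ 𝒜) (hAQ : A ≤ Q) :
    IOf 𝒜 Q ≤ A := fun _ hx => mem_IOf.mp hx A hA hAQ

theorem IOf_anti {𝒜 : Set (Subgroup G)} {Q R : Subgroup G} (h : Q ≤ R) : IOf 𝒜 R ≤ IOf 𝒜 Q :=
  fun _ hx => mem_IOf.mpr fun A hA hAQ => mem_IOf.mp hx A hA (hAQ.trans h)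

/-- the axioms on the family `𝒜` of subgroups of `S`, relative to the group `G` -/
structure AxFam (S : Subgroup G) (𝒜 : Set (Subgroup G)) : Prop where
  le : ∀ A ∈ 𝒜, A ≤ S
  comm : ∀ A ∈ 𝒜, ∀ a ∈ A, ∀ b ∈ A, a * b = b * a
  ne : 𝒜.Nonempty
  inv : ∀ Q : Subgroup G, Q ≤ S → (∃ A ∈ 𝒜, A ≤ Q) →
    ∀ g ∈ Subgroup.normalizer (Q : Set G), ∀ x ∈ IOf 𝒜 Q, g * x * g⁻¹ ∈ IOf 𝒜 Q
  rep : ∀ B : Subgroup G, B ≤ S → ⁅⁅B, B⁆, B⁆ = ⊥ → (∃ A ∈ 𝒜, ⁅B, B⁆ ≤ A ∧ ¬ B ≤ A) →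
    ∃ A ∈ 𝒜, ⁅B, B⁆ ≤ A ∧ ¬ B ≤ A ∧ B ≤ Subgroup.normalizer (A : Set G)

theorem AxFam.conj_mem_top {S : Subgroup G} {𝒜 : Set (Subgroup G)} (h : AxFam S 𝒜) :
    ∀ s ∈ S, ∀ z ∈ IOf 𝒜 S, s * z * s⁻¹ ∈ IOf 𝒜 S := by
  intro s hs z hz
  obtain ⟨A, hA⟩ := h.ne
  exact h.inv S le_rfl ⟨A, hA, h.le A hA⟩ s (Subgroup.le_normalizer hs) z hz

theorem AxFam.comm_top {S : Subgroup G} {𝒜 : Set (Subgroup G)} (h : AxFam S 𝒜) :
    ∀ a ∈ IOf 𝒜 S, ∀ b ∈ IOf 𝒜 S, a * b = b * a := by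
  intro a ha b hb
  obtain ⟨A, hA⟩ := h.ne
  exact h.comm A hA a (IOf_le hA (h.le A hA) ha) b (IOf_le hA (h.le A hA) hb)

/-- the last step of the proof: a normal subgroup between `I(S) ∩ B` and `A₁` -/
theorem final_step_ax [Finite G] {p : ℕ} [Fact p.Prime] (S : Sylow p G) {𝒜 : Set (Subgroup G)}
    (h : AxFam (S : Subgroup G) 𝒜) (B : Subgroup G) [hBn : B.Normal]
    (hstB : Cfsg.IsPStableOn p B) (A₁ : Subgroup G)
    (hA₁ : A₁ ∈ 𝒜) (hnorm : ∀ b ∈ B, ∀ a ∈ A₁, b * a * b⁻¹ ∈ A₁) :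
    ∃ Y : Subgroup G, Y.Normal ∧ IOf 𝒜 (S : Subgroup G) ⊓ B ≤ Y ∧ Y ≤ A₁ := by
  have hA₁S := h.le A₁ hA₁
  have hcommA₁ : ∀ a ∈ A₁, ∀ c ∈ A₁, a * c = c * a := h.comm A₁ hA₁
  haveI hPn : (Cfsg.pCore p (G ⧸ Subgroup.centralizer (B : Set G))).Normal :=
    Cfsg.Agent.H9.pCore_normal p _
  have hPp : IsPGroup p ↥(Cfsg.pCore p (G ⧸ Subgroup.centralizer (B : Set G))) :=
    Cfsg.Agent.H9.pCore_isPGroup p _
  obtain ⟨L, hL⟩ : ∃ L, L = (Cfsg.pCore p (G ⧸ Subgroup.centralizer (B : Set G))).comap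
      (QuotientGroup.mk' (Subgroup.centralizer (B : Set G))) := ⟨_, rfl⟩
  haveI hLn : L.Normal := by rw [hL]; exact hPn.comap _
  have hmemL : ∀ l, l ∈ L ↔ (QuotientGroup.mk l : G ⧸ Subgroup.centralizer (B : Set G)) ∈
      Cfsg.pCore p (G ⧸ Subgroup.centralizer (B : Set G)) := by
    intro l; rw [hL]; exact Iff.rfl
  have hCL : Subgroup.centralizer (B : Set G) ≤ L := by
    intro c hc
    rw [hmemL]
    have h1 : (QuotientGroup.mk c : G ⧸ Subgroup.centralizer (B : Set G)) = 1 :=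
      (QuotientGroup.eq_one_iff c).mpr hc
    rw [h1]; exact Subgroup.one_mem _
  have hA₁L : A₁ ≤ L := by
    intro a ha
    rw [hmemL]
    apply hstB
    have hza : Subgroup.zpowers a ≤ A₁ := Subgroup.zpowers_le.mpr ha
    have h1 : ⁅B, Subgroup.zpowers a⁆ ≤ A₁ := by
      rw [Subgroup.commutator_le]
      intro u hu w hw
      have hwA := hza hw
      have h2 := hnorm u hu w hwA
      rw [commutatorElement_def]
      exact A₁.mul_mem h2 (A₁.inv_mem hwA)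
    have hAA : ⁅A₁, A₁⁆ = ⊥ := by
      rw [Subgroup.commutator_eq_bot_iff_le_centralizer]
      intro a' ha'
      rw [Subgroup.mem_centralizer_iff]
      intro h' hh
      exact hcommA₁ h' hh a' ha'
    rw [eq_bot_iff, ← hAA]
    exact Subgroup.commutator_mono h1 hza
  obtain ⟨R, hR⟩ : ∃ R, R = (S : Subgroup G) ⊓ L := ⟨_, rfl⟩
  have hRS : R ≤ (S : Subgroup G) := by rw [hR]; exact inf_le_left
  have hA₁R : A₁ ≤ R := by rw [hR]; exact le_inf hA₁S hA₁L
  have hZle : IOf 𝒜 (S : Subgroup G) ≤ IOf 𝒜 R := IOf_anti hRS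
  have hRN : R ≤ Subgroup.normalizer (R : Set G) := Subgroup.le_normalizer
  have hinvN : ∀ n ∈ Subgroup.normalizer (R : Set G), ∀ y ∈ IOf 𝒜 R ⊓ B,
      n * y * n⁻¹ ∈ IOf 𝒜 R ⊓ B := by
    intro n hn y hy
    obtain ⟨hyZ, hyB⟩ := Subgroup.mem_inf.mp hy
    exact Subgroup.mem_inf.mpr ⟨h.inv R hRS ⟨A₁, hA₁, hA₁R⟩ n hn y hyZ, hBn.conj_mem y hyB n⟩
  have hinvC : ∀ c ∈ Subgroup.centralizer (B : Set G), ∀ y ∈ IOf 𝒜 R ⊓ B,
      c * y * c⁻¹ ∈ IOf 𝒜 R ⊓ B := by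
    intro c hc y hy
    have hyB := (Subgroup.mem_inf.mp hy).2
    have h1 : y * c = c * y := Subgroup.mem_centralizer_iff.mp hc y hyB
    rw [← h1, mul_inv_cancel_right]
    exact hy
  have hLRC : ∀ l ∈ L, ∃ r ∈ R, ∃ c ∈ Subgroup.centralizer (B : Set G), l = r * c := by
    intro l hl
    have h1 := (hmemL l).mp hl
    have hSbar : Cfsg.pCore p (G ⧸ Subgroup.centralizer (B : Set G)) ≤
        ((S.mapSurjective (QuotientGroup.mk'_surjective (Subgroup.centralizer (B : Set G))) :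
          Sylow p (G ⧸ Subgroup.centralizer (B : Set G))) :
            Subgroup (G ⧸ Subgroup.centralizer (B : Set G))) :=
      hPp.le_sylow_of_normal _
    have h2 : (QuotientGroup.mk l : G ⧸ Subgroup.centralizer (B : Set G)) ∈
        (S : Subgroup G).map (QuotientGroup.mk' (Subgroup.centralizer (B : Set G))) := hSbar h1
    obtain ⟨s, hs, hsl⟩ := h2
    have h3 : s⁻¹ * l ∈ Subgroup.centralizer (B : Set G) := QuotientGroup.eq.mp hsl
    have hsL : s ∈ L := by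
      have h4 : l * (s⁻¹ * l)⁻¹ ∈ L := L.mul_mem hl (L.inv_mem (hCL h3))
      have e : l * (s⁻¹ * l)⁻¹ = s := by group
      rw [e] at h4; exact h4
    refine ⟨s, ?_, s⁻¹ * l, h3, by group⟩
    rw [hR]; exact Subgroup.mem_inf.mpr ⟨hs, hsL⟩
  have hfrat : ∀ g : G, ∃ n ∈ Subgroup.normalizer (R : Set G), ∃ l ∈ L, n * l = g := by
    have hnd : ¬ p ∣ (((S : Subgroup G) ⊓ L).subgroupOf L).index :=
      not_dvd_index_inf_normal (S : Subgroup G) L S.not_dvd_index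
    have hRp : IsPGroup p ↥(((S : Subgroup G) ⊓ L).subgroupOf L) :=
      (S.isPGroup'.to_le inf_le_left).comap_subtype
    have hF := Sylow.normalizer_sup_eq_top (hRp.toSylow hnd)
    have hF' : Subgroup.normalizer (R : Set G) ⊔ L = ⊤ := by
      have e : ((((S : Subgroup G) ⊓ L).subgroupOf L).map L.subtype) = R := by
        rw [hR]; exact Subgroup.map_subgroupOf_eq_of_le inf_le_right
      rw [← e]; exact hF
    intro g
    have hg' : g ∈ Subgroup.normalizer (R : Set G) ⊔ L := by rw [hF']; exact Subgroup.mem_top g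
    exact Subgroup.mem_sup_of_normal_right.mp hg'
  refine ⟨IOf 𝒜 R ⊓ B, ⟨fun y hy g => ?_⟩, inf_le_inf_right B hZle,
    inf_le_left.trans (IOf_le hA₁ hA₁R)⟩
  obtain ⟨n, hn, l, hl, rfl⟩ := hfrat g
  obtain ⟨r, hr, c, hc, rfl⟩ := hLRC l hl
  have h1 := hinvC c hc y hy
  have h2 := hinvN r (hRN hr) _ h1
  have h3 := hinvN n hn _ h2
  have e : n * (r * c) * y * (n * (r * c))⁻¹ = n * (r * (c * y * c⁻¹) * r⁻¹) * n⁻¹ := by group
  rw [e]; exact h3

theorem inf_normal_ax [Finite G] {p : ℕ} [Fact p.Prime]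
    (hst : ∀ (P : Subgroup G) [P.Normal], IsPGroup p P → Cfsg.IsPStableOn p P) (S : Sylow p G)
    {𝒜 : Set (Subgroup G)} (h : AxFam (S : Subgroup G) 𝒜) (Z : Subgroup G)
    (hZ : Z = IOf 𝒜 (S : Subgroup G)) :
    ∀ n : ℕ, ∀ B : Subgroup G, B.Normal → IsPGroup p B → Nat.card B = n →
      ∀ g : G, ∀ x ∈ Z ⊓ B, g * x * g⁻¹ ∈ Z ⊓ B := by
  have hZS : ∀ s ∈ (S : Subgroup G), ∀ z ∈ Z, s * z * s⁻¹ ∈ Z := by
    intro s hs z hz
    rw [hZ] at hz ⊢
    exact h.conj_mem_top s hs z hz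
  have hZab : ∀ a ∈ Z, ∀ b ∈ Z, a * b = b * a := by
    intro a ha b hb
    rw [hZ] at ha hb
    exact h.comm_top a ha b hb
  intro n
  induction n using Nat.strong_induction_on with
  | _ n ih =>
    intro B hBn hBp hcard g x hx
    haveI := hBn
    have hBS : B ≤ (S : Subgroup G) := hBp.le_sylow_of_normal S
    by_cases hB1 : Subgroup.normalClosure ((Z ⊓ B : Subgroup G) : Set G) = B
    · by_cases hBbot : B = ⊥
      · have hx1 : x = 1 := by
          have h1 := (Subgroup.mem_inf.mp hx).2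
          rw [hBbot] at h1
          exact Subgroup.mem_bot.mp h1
        rw [hx1, mul_one, mul_inv_cancel]
        exact Subgroup.one_mem _
      · have hB'lt : ⁅B, B⁆ < B := commutator_lt_of_pgroup B hBp hBbot
        have hB'le : ⁅B, B⁆ ≤ B := hB'lt.le
        haveI hB'n : (⁅B, B⁆).Normal := inferInstance
        have hY : ∀ g : G, ∀ y ∈ Z ⊓ ⁅B, B⁆, g * y * g⁻¹ ∈ Z ⊓ ⁅B, B⁆ :=
          ih _ (by rw [← hcard]; exact Cfsg.Agent.S0651.card_lt_of_lt hB'lt) ⁅B, B⁆ inferInstance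
            (hBp.to_le hB'le) rfl
        have hXB : ∀ x ∈ Z ⊓ B, ∀ b ∈ B, ⁅x, b⁆ ∈ Z ⊓ ⁅B, B⁆ := by
          intro x hx b hb
          obtain ⟨hxZ, hxB⟩ := Subgroup.mem_inf.mp hx
          refine Subgroup.mem_inf.mpr ⟨?_, Subgroup.commutator_mem_commutator hxB hb⟩
          have h1 : b * x⁻¹ * b⁻¹ ∈ Z := hZS b (hBS hb) x⁻¹ (Z.inv_mem hxZ)
          have e : ⁅x, b⁆ = x * (b * x⁻¹ * b⁻¹) := by rw [commutatorElement_def]; group
          rw [e]; exact Z.mul_mem hxZ h1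
        have hmem : ∀ x ∈ ((Z ⊓ B : Subgroup G) : Set G), ∀ g : G, ∀ b ∈ B,
            ⁅g * x * g⁻¹, b⁆ ∈ Z ⊓ ⁅B, B⁆ := by
          intro x hx g b hb
          have hb' : g⁻¹ * b * g⁻¹⁻¹ ∈ B := hBn.conj_mem b hb g⁻¹
          have h1 := hXB x (SetLike.mem_coe.mp hx) _ hb'
          have h2 := hY g _ h1
          have e : ⁅g * x * g⁻¹, b⁆ = g * ⁅x, g⁻¹ * b * g⁻¹⁻¹⁆ * g⁻¹ := by
            simp only [commutatorElement_def]; group
          rw [e]; exact h2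
        have hone : ∀ b ∈ B, ⁅(1 : G), b⁆ ∈ Z ⊓ ⁅B, B⁆ := by
          intro b _
          rw [commutatorElement_one_left]
          exact Subgroup.one_mem _
        have hmul : ∀ u v : G, (∀ b ∈ B, ⁅u, b⁆ ∈ Z ⊓ ⁅B, B⁆) → (∀ b ∈ B, ⁅v, b⁆ ∈ Z ⊓ ⁅B, B⁆) →
            ∀ b ∈ B, ⁅u * v, b⁆ ∈ Z ⊓ ⁅B, B⁆ := by
          intro u v ihu ihv b hb
          have e : ⁅u * v, b⁆ = u * ⁅v, b⁆ * u⁻¹ * ⁅u, b⁆ := by
            simp only [commutatorElement_def]; group
          rw [e]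
          exact Subgroup.mul_mem _ (hY u _ (ihv b hb)) (ihu b hb)
        have hinv : ∀ u : G, (∀ b ∈ B, ⁅u, b⁆ ∈ Z ⊓ ⁅B, B⁆) →
            ∀ b ∈ B, ⁅u⁻¹, b⁆ ∈ Z ⊓ ⁅B, B⁆ := by
          intro u ihu b hb
          have e : ⁅u⁻¹, b⁆ = u⁻¹ * ⁅u, b⁆⁻¹ * u⁻¹⁻¹ := by
            simp only [commutatorElement_def]; group
          rw [e]
          exact hY u⁻¹ _ (Subgroup.inv_mem _ (ihu b hb))
        have hBB : ∀ u ∈ B, ∀ b ∈ B, ⁅u, b⁆ ∈ Z ⊓ ⁅B, B⁆ := by
          intro u hu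
          have hu' : u ∈ Subgroup.normalClosure ((Z ⊓ B : Subgroup G) : Set G) := by
            rw [hB1]; exact hu
          exact nc_induction ((Z ⊓ B : Subgroup G) : Set G)
            (fun u => ∀ b ∈ B, ⁅u, b⁆ ∈ Z ⊓ ⁅B, B⁆) hmem hone hmul hinv u hu'
        have hB'Z : ⁅B, B⁆ ≤ Z := by
          rw [Subgroup.commutator_le]
          intro u hu b hb
          exact (Subgroup.mem_inf.mp (hBB u hu b hb)).1
        -- `B` has class at most two
        have hcent : ∀ u ∈ B, ∀ c ∈ ⁅B, B⁆, u * c = c * u := by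
          intro u hu
          have hu' : u ∈ Subgroup.normalClosure ((Z ⊓ B : Subgroup G) : Set G) := by
            rw [hB1]; exact hu
          refine nc_induction ((Z ⊓ B : Subgroup G) : Set G)
            (fun u => ∀ c ∈ ⁅B, B⁆, u * c = c * u) ?_ ?_ ?_ ?_ u hu'
          · intro x hx g c hc
            have hc' : g⁻¹ * c * g⁻¹⁻¹ ∈ ⁅B, B⁆ := hB'n.conj_mem c hc g⁻¹
            have hxZ : x ∈ Z := (Subgroup.mem_inf.mp (SetLike.mem_coe.mp hx)).1
            have h1 := hZab x hxZ _ (hB'Z hc')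
            have e1 : g * x * g⁻¹ * c = g * (x * (g⁻¹ * c * g⁻¹⁻¹)) * g⁻¹ := by group
            have e2 : c * (g * x * g⁻¹) = g * ((g⁻¹ * c * g⁻¹⁻¹) * x) * g⁻¹ := by group
            rw [e1, e2, h1]
          · intro c _
            rw [one_mul, mul_one]
          · intro u v ihu ihv c hc
            rw [mul_assoc, ihv c hc, ← mul_assoc, ihu c hc, mul_assoc]
          · intro u ihu c hc
            have h1 := ihu c hc
            calc u⁻¹ * c = u⁻¹ * (c * u) * u⁻¹ := by group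
              _ = u⁻¹ * (u * c) * u⁻¹ := by rw [h1]
              _ = c * u⁻¹ := by group
        have hcl2 : ⁅⁅B, B⁆, B⁆ = ⊥ := by
          rw [Subgroup.commutator_eq_bot_iff_le_centralizer]
          intro c hc
          rw [Subgroup.mem_centralizer_iff]
          intro u hu
          exact hcent u hu c hc
        by_cases hall : ∀ A ∈ 𝒜, B ≤ A
        · have hBZ : B ≤ Z := by
            rw [hZ]
            intro b hb
            exact mem_IOf.mpr fun A hA _ => hall A hA hb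
          have hxB := (Subgroup.mem_inf.mp hx).2
          have h1 : g * x * g⁻¹ ∈ B := hBn.conj_mem x hxB g
          exact Subgroup.mem_inf.mpr ⟨hBZ h1, h1⟩
        · exfalso
          push Not at hall
          obtain ⟨A, hA, hnBA⟩ := hall
          have hBA : ⁅B, B⁆ ≤ A := by
            have h1 : Z ≤ A := by rw [hZ]; exact IOf_le hA (h.le A hA)
            exact hB'Z.trans h1
          obtain ⟨A₁, hA₁, -, hnBA₁, hBN⟩ := h.rep B hBS hcl2 ⟨A, hA, hBA, hnBA⟩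
          have hnorm : ∀ b ∈ B, ∀ a ∈ A₁, b * a * b⁻¹ ∈ A₁ := by
            intro b hb a ha
            exact (Subgroup.mem_normalizer_iff.mp (hBN hb) a).mp ha
          obtain ⟨Y, hYn, hXY, hYA₁⟩ := final_step_ax S h B (hst B hBp) A₁ hA₁ hnorm
          haveI := hYn
          have h1 : Subgroup.normalClosure ((Z ⊓ B : Subgroup G) : Set G) ≤ Y := by
            apply Subgroup.normalClosure_le_normal
            intro y hy
            rw [hZ] at hy
            exact hXY hy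
          rw [hB1] at h1
          exact hnBA₁ (h1.trans hYA₁)
    · have hle : Subgroup.normalClosure ((Z ⊓ B : Subgroup G) : Set G) ≤ B :=
        Subgroup.normalClosure_le_normal
          (fun y hy => (Subgroup.mem_inf.mp (SetLike.mem_coe.mp hy)).2)
      have hlt : Subgroup.normalClosure ((Z ⊓ B : Subgroup G) : Set G) < B :=
        lt_of_le_of_ne hle hB1
      have hc := Cfsg.Agent.S0651.card_lt_of_lt hlt
      have hx1 : x ∈ Z ⊓ Subgroup.normalClosure ((Z ⊓ B : Subgroup G) : Set G) :=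
        Subgroup.mem_inf.mpr ⟨(Subgroup.mem_inf.mp hx).1,
          Subgroup.subset_normalClosure (SetLike.mem_coe.mpr hx)⟩
      have h2 := ih _ (by rw [← hcard]; exact hc) _ Subgroup.normalClosure_normal
        (hBp.to_le hle) rfl g x hx1
      exact Subgroup.mem_inf.mpr ⟨(Subgroup.mem_inf.mp h2).1, hle (Subgroup.mem_inf.mp h2).2⟩

/-- **axiomatic ZJ-theorem**: the intersection of the family is normal in a `p`-constrained `p`-stable group -/
theorem IOf_normal_ax [Finite G] {p : ℕ} [Fact p.Prime]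
    (hc : Subgroup.centralizer (Cfsg.pCore p G : Set G) ≤ Cfsg.pCore p G)
    (hst : ∀ (P : Subgroup G) [P.Normal], IsPGroup p P → Cfsg.IsPStableOn p P) (S : Sylow p G)
    {𝒜 : Set (Subgroup G)} (h : AxFam (S : Subgroup G) 𝒜) :
    (IOf 𝒜 (S : Subgroup G)).Normal := by
  haveI hQn : (Cfsg.pCore p G).Normal := Cfsg.Agent.H9.pCore_normal p G
  have hQp : IsPGroup p ↥(Cfsg.pCore p G) := Cfsg.Agent.H9.pCore_isPGroup p G
  have hQS : Cfsg.pCore p G ≤ (S : Subgroup G) := hQp.le_sylow_of_normal S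
  have hZS := h.conj_mem_top
  have hZab := h.comm_top
  have hZQ : IOf 𝒜 (S : Subgroup G) ≤ Cfsg.pCore p G := by
    intro z hz
    have hq : ⁅⁅Cfsg.pCore p G, Subgroup.zpowers z⁆, Subgroup.zpowers z⁆ = ⊥ := by
      have hzz : Subgroup.zpowers z ≤ IOf 𝒜 (S : Subgroup G) := Subgroup.zpowers_le.mpr hz
      have h1 : ⁅Cfsg.pCore p G, Subgroup.zpowers z⁆ ≤ IOf 𝒜 (S : Subgroup G) := by
        rw [Subgroup.commutator_le]
        intro u hu w hw
        have hwZ := hzz hw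
        have h2 := hZS u (hQS hu) w hwZ
        rw [commutatorElement_def]
        exact Subgroup.mul_mem _ h2 (Subgroup.inv_mem _ hwZ)
      have hZZ : ⁅IOf 𝒜 (S : Subgroup G), IOf 𝒜 (S : Subgroup G)⁆ = ⊥ := by
        rw [Subgroup.commutator_eq_bot_iff_le_centralizer]
        intro a ha
        rw [Subgroup.mem_centralizer_iff]
        intro h' hh
        exact hZab h' hh a ha
      rw [eq_bot_iff, ← hZZ]
      exact Subgroup.commutator_mono h1 hzz
    have h1 := hst (Cfsg.pCore p G) hQp z hq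
    haveI hPn : (Cfsg.pCore p (G ⧸ Subgroup.centralizer (Cfsg.pCore p G : Set G))).Normal :=
      Cfsg.Agent.H9.pCore_normal p _
    have hPp := Cfsg.Agent.H9.pCore_isPGroup p (G ⧸ Subgroup.centralizer (Cfsg.pCore p G : Set G))
    obtain ⟨LQ, hLQ⟩ : ∃ LQ, LQ =
        (Cfsg.pCore p (G ⧸ Subgroup.centralizer (Cfsg.pCore p G : Set G))).comap
          (QuotientGroup.mk' (Subgroup.centralizer (Cfsg.pCore p G : Set G))) := ⟨_, rfl⟩
    haveI hLQn : LQ.Normal := by rw [hLQ]; exact hPn.comap _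
    have hLQp : IsPGroup p ↥LQ := by
      intro ⟨l, hl⟩
      rw [hLQ] at hl
      have hl' : (QuotientGroup.mk l : G ⧸ Subgroup.centralizer (Cfsg.pCore p G : Set G)) ∈
          Cfsg.pCore p (G ⧸ Subgroup.centralizer (Cfsg.pCore p G : Set G)) := hl
      obtain ⟨k, hk⟩ := hPp ⟨_, hl'⟩
      have hk' : (QuotientGroup.mk l : G ⧸ Subgroup.centralizer (Cfsg.pCore p G : Set G)) ^
          (p ^ k) = 1 := by
        have h2 := congrArg Subtype.val hk
        simpa using h2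
      rw [← QuotientGroup.mk_pow, QuotientGroup.eq_one_iff] at hk'
      obtain ⟨m, hm⟩ := hQp ⟨_, hc hk'⟩
      have hm' : (l ^ p ^ k) ^ p ^ m = 1 := by
        have h2 := congrArg Subtype.val hm
        simpa using h2
      refine ⟨k + m, Subtype.ext ?_⟩
      rw [Subgroup.coe_pow, Subgroup.coe_one, pow_add, pow_mul]
      exact hm'
    have hle : LQ ≤ Cfsg.pCore p G := Cfsg.Agent.H9.le_pCore LQ hLQp
    apply hle
    rw [hLQ]
    exact h1
  refine ⟨fun x hx g => ?_⟩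
  have h1 := inf_normal_ax hst S h _ rfl _ (Cfsg.pCore p G) hQn hQp rfl g x
    (Subgroup.mem_inf.mpr ⟨hx, hZQ hx⟩)
  exact (Subgroup.mem_inf.mp h1).1

end Cfsg.Agent.Lib.Helper7.AxGT
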