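import Mathlib
import Cfsg.Agent.Lib.Helper7.AxGTa
import Cfsg.Agent.Lib.Helper4.GTZJ
import Cfsg.Agent.Lib.Lead.NormalPComplement

/-!
# The axiomatic Glauberman–Thompson criterion: the core case

A `p`-constrained group `G` (`p` odd) all of whose proper subgroups containing the Sylow `p`-subgroup `P` are
`p`-nilpotent, with a family `𝒜` of abelian subgroups of `P` satisfying the axioms, in which the `p'`-elements of
`N_G(I(P))` normalizing a subgroup of `P` centralize it, is `p`-nilpotent.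
-/

set_option autoImplicit false
set_option linter.unusedVariables false
open scoped commutatorElement

namespace Cfsg.Agent.Lib.Helper7.AxGT

open Cfsg Cfsg.Agent.Lib.Helper4.PNil Cfsg.Agent.Lib.Lead.Conj Cfsg.Agent.Lib.Helper4.GT
  Cfsg.Agent.Lib.Helper4.GTZJ Cfsg.Agent.Lib.Lead.NormalPComplement

universe u

variable {G : Type u} [Group G] [Finite G]

/-- Frobenius' criterion once `I(P)` is normal -/
theorem pnil_of_IOf_normal {p : ℕ} [Fact p.Prime] (P : Sylow p G) {𝒜 : Set (Subgroup G)}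
    (hIn : (IOf 𝒜 (P : Subgroup G)).Normal)
    (hNC : ∀ Q : Subgroup G, Q ≤ (P : Subgroup G) →
      ∀ g ∈ Subgroup.normalizer (IOf 𝒜 (P : Subgroup G) : Set G),
      g ∈ Subgroup.normalizer (Q : Set G) → (orderOf g).Coprime p →
      g ∈ Subgroup.centralizer (Q : Set G)) : PNil p (⊤ : Subgroup G) := by
  rw [pnil_top_iff]
  apply hasNormalPComplement_of_p'_centralize P
  intro Q hQ g hg hgp
  refine hNC Q hQ g ?_ hg hgp
  rw [Subgroup.normalizer_eq_top_iff.mpr hIn]
  exact Subgroup.mem_top g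

/-- the core case -/
theorem ax_core {p : ℕ} [Fact p.Prime] (hp2 : p ≠ 2) (P : Sylow p G) {𝒜 : Set (Subgroup G)}
    (h : AxFam (P : Subgroup G) 𝒜)
    (hC : Subgroup.centralizer (Cfsg.pCore p G : Set G) ≤ Cfsg.pCore p G)
    (ihP : ∀ L : Subgroup G, (P : Subgroup G) ≤ L → L ≠ ⊤ → PNil p L)
    (hNC : ∀ Q : Subgroup G, Q ≤ (P : Subgroup G) →
      ∀ g ∈ Subgroup.normalizer (IOf 𝒜 (P : Subgroup G) : Set G),
      g ∈ Subgroup.normalizer (Q : Set G) → (orderOf g).Coprime p →
      g ∈ Subgroup.centralizer (Q : Set G)) : PNil p (⊤ : Subgroup G) := by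
  have hPp : IsPGroup p ↥(P : Subgroup G) := P.isPGroup'
  obtain ⟨H, hHdef⟩ : ∃ H : Subgroup G, H = Cfsg.pCore p G := ⟨_, rfl⟩
  haveI hHn : H.Normal := by rw [hHdef]; exact Cfsg.Agent.H9.pCore_normal p G
  have hHp : IsPGroup p ↥H := by rw [hHdef]; exact Cfsg.Agent.H9.pCore_isPGroup p G
  have hHP : H ≤ (P : Subgroup G) := hHp.le_sylow_of_normal P
  have hle_H : ∀ (V : Subgroup G) [V.Normal], IsPGroup p ↥V → V ≤ H := by
    intro V _ hV
    rw [hHdef]; exact Cfsg.Agent.H9.le_pCore V hV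
  have hCH : Subgroup.centralizer (H : Set G) ≤ H := by rw [hHdef]; exact hC
  by_cases hPH : (P : Subgroup G) ≤ H
  · -- the Sylow subgroup is normal
    have hPeq : (P : Subgroup G) = H := le_antisymm hPH hHP
    have hPn : Subgroup.normalizer ((P : Subgroup G) : Set G) = ⊤ := by
      rw [hPeq]; exact Subgroup.normalizer_eq_top_iff.mpr hHn
    apply pnil_of_IOf_normal P _ hNC
    refine ⟨fun x hx g => ?_⟩
    obtain ⟨A, hA⟩ := h.ne
    exact h.inv _ le_rfl ⟨A, hA, h.le A hA⟩ g (by rw [hPn]; exact Subgroup.mem_top g) x hx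
  have hW : PFunctor p WAb.{u} := pFunctor_WAb hp2
  have hK : ∀ K' : Subgroup G, H ≤ K' → K' ≤ (P : Subgroup G) → K' ≠ H →
      (P : Subgroup G) ≤ Subgroup.normalizer (K' : Set G) →
      PNil p (Subgroup.normalizer (K' : Set G)) := by
    intro K' hHK' hK'P hne hPK'
    apply ihP _ hPK'
    intro htop
    apply hne
    haveI : K'.Normal := Subgroup.normalizer_eq_top_iff.mp htop
    exact le_antisymm (hle_H K' (hPp.to_le hK'P)) hHK'
  have hD : Cfsg.IsStronglyClosed (P : Subgroup G) (P : Subgroup G) :=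
    ⟨le_rfl, fun x _ g hg => hg⟩
  have hQ : PNil p (⊤ : Subgroup (G ⧸ H)) :=
    gt_quot_p hW H (gt_all hp2 hW _ (G ⧸ H) rfl) P hHP (P : Subgroup G) hD hPH hK
  obtain ⟨Mb, -, hMbn, hMbc, k, hMbk⟩ := hQ
  haveI hMn : Mb.Normal := Subgroup.normalizer_eq_top_iff.mp (top_le_iff.mp hMbn)
  have hs := QuotientGroup.mk'_surjective H
  have hker : ∀ x : G, QuotientGroup.mk' H x = 1 ↔ x ∈ H := by
    intro x
    rw [QuotientGroup.mk'_apply, QuotientGroup.eq_one_iff]
  obtain ⟨K₁, hK₁⟩ : ∃ K₁ : Subgroup G, K₁ = Mb.comap (QuotientGroup.mk' H) := ⟨_, rfl⟩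
  haveI hK₁n : K₁.Normal := by rw [hK₁]; exact hMn.comap _
  have hHK : H ≤ K₁ := by
    intro x hx
    rw [hK₁, Subgroup.mem_comap, (hker x).mpr hx]
    exact Mb.one_mem
  have hHcomap : Subgroup.comap (QuotientGroup.mk' H) ⊥ = H := by
    ext x
    rw [Subgroup.mem_comap, Subgroup.mem_bot, hker]
  have hK₁map : K₁.map (QuotientGroup.mk' H) = Mb := by
    rw [hK₁]; exact Subgroup.map_comap_eq_self_of_surjective hs Mb
  have hrel : H.relIndex K₁ = Nat.card ↥Mb := by
    have h1 : (Subgroup.comap (QuotientGroup.mk' H) ⊥).relIndex K₁ = Nat.card ↥Mb := by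
      rw [Subgroup.relIndex_comap, hK₁map, Subgroup.relIndex_bot_left]
    rw [hHcomap] at h1
    exact h1
  have hcop : (H.relIndex K₁).Coprime p := by rw [hrel]; exact hMbc
  have hidx : K₁.index = p ^ k := by
    rw [hK₁, Subgroup.index_comap_of_surjective Mb hs, ← Subgroup.relIndex_top_right]
    exact hMbk
  have hab := endgame P H hHp hCH ihP Mb hMbc
  have hab' : ⁅K₁, K₁⁆ ≤ H := by
    rw [Subgroup.commutator_le]
    intro a ha b hb
    rw [← hker, map_commutatorElement]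
    have h1 : ⁅(QuotientGroup.mk' H) a, (QuotientGroup.mk' H) b⁆ ∈ ⁅Mb, Mb⁆ := by
      apply Subgroup.commutator_mem_commutator
      · rw [hK₁] at ha; exact ha
      · rw [hK₁] at hb; exact hb
    rw [hab, Subgroup.mem_bot] at h1
    exact h1
  have hst : ∀ (V : Subgroup G) [V.Normal], IsPGroup p ↥V → Cfsg.IsPStableOn p V := by
    intro V _ hV
    exact Cfsg.Agent.Lib.Helper4.PStab.isPStableOn_of_series hp2 H K₁ hHK hHp hcop hab' ⟨k, hidx⟩ V
      (hle_H V hV)
  exact pnil_of_IOf_normal P (IOf_normal_ax hC hst P h) hNC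

end Cfsg.Agent.Lib.Helper7.AxGT
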