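import Mathlib
import Cfsg.Prelude.Def_FusionSystem
import Cfsg.Agent.Lib.Helper7.NormalizerConstrained
import Cfsg.Agent.Lib.Helper7.FusionNormal
import Cfsg.Agent.Lib.Helper7.Core
import Cfsg.Agent.H2.BenderLemma

/-!
# Uniqueness of models, part C: in a model, the image of a normal subgroup of the system is normal, and the image of a
normal centric subgroup contains its centralizer
-/

set_option autoImplicit false

namespace Cfsg.Agent.Lib.Helper7.ModelUq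

open Cfsg Cfsg.FusionSystem Cfsg.Agent.Lib.Helper7

variable {Ω : Type*} [Group Ω] {S : Subgroup Ω}

/-- in a model, the image of a subgroup normal in the system is normal -/
theorem model_conj_mem [Finite S] (p : ℕ) [Fact p.Prime] (F : FusionSystem S) {G : Type*} [Group G]
    (ι : S →* G) (hG : F.IsModel p G ι) {Q : Subgroup Ω} (hQ : F.IsNormal Q) (g : G) (q : ↥Q) :
    ∃ q' : ↥Q, g * ι ⟨q, hQ.1 q.2⟩ * g⁻¹ = ι ⟨q', hQ.1 q'.2⟩ := by
  obtain ⟨hfin, ⟨hinj, hreal⟩, ⟨T, hT⟩, hcent⟩ := hG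
  have hQS := hQ.1
  have hnS : S ≤ Subgroup.normalizer (Q : Set Ω) := le_normalizer_of_isNormal F hQ
  have hUT : pCore p G ≤ ι.range := hT ▸ pCore_le_sylow T
  have hUn : (pCore p G).Normal := pCore_normal p G
  set U₀ : Subgroup Ω := ((pCore p G).comap ι).map S.subtype with hU₀
  have hU₀S : U₀ ≤ S := Subgroup.map_subtype_le _
  have hU₀mem : ∀ (x : Ω) (hx : x ∈ U₀), ι ⟨x, hU₀S hx⟩ ∈ pCore p G := by
    rintro _ ⟨n, hn, rfl⟩
    exact hn
  have hmemU₀ : ∀ n : ↥S, ι n ∈ pCore p G → (n : Ω) ∈ U₀ := fun n hn => ⟨n, hn, rfl⟩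
  have hgU : ∀ x : U₀, g * ι ⟨x, hU₀S x.2⟩ * g⁻¹ ∈ ι.range :=
    fun x => hUT (hUn.conj_mem _ (hU₀mem x x.2) g)
  obtain ⟨φg, hφgS, hφg⟩ := exists_hom_of_conj ι hinj hU₀S g hgU
  have hφgF : φg ∈ F.Hom U₀ := (hreal U₀ hU₀S φg hφgS).mpr ⟨g, hφg⟩
  obtain ⟨ψ, hψ, hψext, hψmap⟩ := hQ.2 U₀ φg hφgF
  obtain ⟨hψ1, hψ2⟩ := F.le_of_mem hψ
  obtain ⟨g', hg'⟩ := (hreal (U₀ ⊔ Q) hψ1 ψ hψ2).mp hψ
  have hc : g'⁻¹ * g ∈ Subgroup.centralizer ((pCore p G : Subgroup G) : Set G) := by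
    rw [Subgroup.mem_centralizer_iff]
    intro u hu
    obtain ⟨n, rfl⟩ := hUT hu
    have hnU₀ := hmemU₀ n hu
    have h1 := hφg ⟨n, hnU₀⟩
    have h2 := hg' (Subgroup.inclusion le_sup_left ⟨n, hnU₀⟩)
    have h3 : (⟨ψ (Subgroup.inclusion le_sup_left ⟨(n : Ω), hnU₀⟩), hψ2 _⟩ : ↥S) =
        ⟨φg ⟨n, hnU₀⟩, hφgS _⟩ := Subtype.ext (hψext _)
    rw [h3, h1] at h2
    have h4 : g * ι n * g⁻¹ = g' * ι n * g'⁻¹ := h2
    calc ι n * (g'⁻¹ * g) = g'⁻¹ * (g' * ι n * g'⁻¹) * g := by group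
      _ = g'⁻¹ * (g * ι n * g⁻¹) * g := by rw [h4]
      _ = g'⁻¹ * g * ι n := by group
  have hcU : g'⁻¹ * g ∈ pCore p G := hcent hc
  obtain ⟨n, hn⟩ := hUT hcU
  -- `n q n⁻¹ ∈ Q`
  have hnq : (n : Ω) * q * (n : Ω)⁻¹ ∈ Q := (Subgroup.mem_normalizer_iff.mp (hnS n.2) q).mp q.2
  have hψQ : ψ ⟨(n : Ω) * q * (n : Ω)⁻¹, Subgroup.mem_sup_right hnq⟩ ∈ Q := by
    have h2 : ψ ⟨(n : Ω) * q * (n : Ω)⁻¹, Subgroup.mem_sup_right hnq⟩ ∈ (Q.subgroupOf (U₀ ⊔ Q)).map ψ :=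
      ⟨_, Subgroup.mem_subgroupOf.mpr hnq, rfl⟩
    rw [hψmap] at h2
    exact h2
  refine ⟨⟨_, hψQ⟩, ?_⟩
  have h5 := hg' ⟨(n : Ω) * q * (n : Ω)⁻¹, Subgroup.mem_sup_right hnq⟩
  rw [h5]
  have e : (⟨(n : Ω) * q * (n : Ω)⁻¹, hψ1 (Subgroup.mem_sup_right hnq)⟩ : ↥S) =
      n * ⟨q, hQS q.2⟩ * n⁻¹ := rfl
  rw [e, map_mul, map_mul, map_inv, hn]
  group

/-- the image of `Q` in the model -/
def imQ {G : Type*} [Group G] (ι : S →* G) (Q : Subgroup Ω) : Subgroup G := (Q.subgroupOf S).map ι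

theorem mem_imQ_iff {G : Type*} [Group G] (ι : S →* G) {Q : Subgroup Ω} (hQS : Q ≤ S) (x : G) :
    x ∈ imQ ι Q ↔ ∃ q : ↥Q, x = ι ⟨q, hQS q.2⟩ := by
  unfold imQ
  constructor
  · rintro ⟨s, hs, rfl⟩
    exact ⟨⟨s, Subgroup.mem_subgroupOf.mp hs⟩, rfl⟩
  · rintro ⟨q, rfl⟩
    exact ⟨⟨q, hQS q.2⟩, Subgroup.mem_subgroupOf.mpr q.2, rfl⟩

theorem imQ_normal [Finite S] (p : ℕ) [Fact p.Prime] (F : FusionSystem S) {G : Type*} [Group G]
    (ι : S →* G) (hG : F.IsModel p G ι) {Q : Subgroup Ω} (hQ : F.IsNormal Q) : (imQ ι Q).Normal := by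
  constructor
  intro x hx g
  obtain ⟨q, rfl⟩ := (mem_imQ_iff ι hQ.1 x).mp hx
  obtain ⟨q', hq'⟩ := model_conj_mem p F ι hG hQ g q
  rw [hq']
  exact (mem_imQ_iff ι hQ.1 _).mpr ⟨q', rfl⟩

theorem imQ_isPGroup (p : ℕ) (hS : IsPGroup p S) {G : Type*} [Group G] (ι : S →* G) (Q : Subgroup Ω) :
    IsPGroup p ↥(imQ ι Q) :=
  (hS.to_subgroup (Q.subgroupOf S)).map ι

/-- in a model, the centralizer of the image of a normal centric subgroup lies in that image -/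
theorem model_centralizer_le [Finite S] (p : ℕ) [Fact p.Prime] (hS : IsPGroup p S) (F : FusionSystem S)
    {G : Type*} [Group G] (ι : S →* G) (hG : F.IsModel p G ι) {Q : Subgroup Ω} (hQ : F.IsNormal Q)
    (hcen : centralizerIn S Q ≤ Q) :
    Subgroup.centralizer ((imQ ι Q : Subgroup G) : Set G) ≤ imQ ι Q := by
  have hQn := imQ_normal p F ι hG hQ
  have hQp := imQ_isPGroup p hS ι Q
  obtain ⟨hfin, ⟨hinj, hreal⟩, ⟨T, hT⟩, hcent⟩ := hG
  have hQS := hQ.1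
  have hUT : pCore p G ≤ ι.range := hT ▸ pCore_le_sylow T
  have hUn : (pCore p G).Normal := pCore_normal p G
  have hUp : IsPGroup p ↥(pCore p G) := pCore_isPGroup p G
  have hQU : imQ ι Q ≤ pCore p G := le_pCore hQn hQp
  -- elements of the range centralizing the image of `Q` lie in it
  have hrange : ∀ s : ↥S, ι s ∈ Subgroup.centralizer ((imQ ι Q : Subgroup G) : Set G) → ι s ∈ imQ ι Q := by
    intro s hs
    have hsC : (s : Ω) ∈ centralizerIn S Q := by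
      refine ⟨s.2, Subgroup.mem_centralizer_iff.mpr ?_⟩
      intro q hq
      have h1 := (Subgroup.mem_centralizer_iff.mp hs) _ ((mem_imQ_iff ι hQS _).mpr ⟨⟨q, hq⟩, rfl⟩)
      rw [← map_mul, ← map_mul] at h1
      exact congrArg (fun t : ↥S => (t : Ω)) (hinj h1)
    exact (mem_imQ_iff ι hQS _).mpr ⟨⟨s, hcen hsC⟩, rfl⟩
  -- elements of order prime to `p` in the centralizer are trivial
  have hpprime : ∀ c ∈ Subgroup.centralizer ((imQ ι Q : Subgroup G) : Set G), (orderOf c).Coprime p → c = 1 := by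
    intro c hc hcop
    have hp : p.Prime := Fact.out
    have key := Cfsg.Agent.H2.BenderLemma.nilpotent_AxB (pCore p G) (Subgroup.zpowers c) (imQ ι Q)
      hUp.isNilpotent (by rw [Subgroup.normalizer_eq_top]; exact le_top) (by
        rw [Nat.card_zpowers]
        obtain ⟨k, hk⟩ := IsPGroup.iff_card.mp hUp
        rw [hk]
        exact Nat.Coprime.pow_right _ hcop) hQU (by
        intro x hx
        rw [Subgroup.mem_centralizer_iff]
        intro y hy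
        obtain ⟨j, rfl⟩ := Subgroup.mem_zpowers_iff.mp hy
        have h1 : Commute c x := ((Subgroup.mem_centralizer_iff.mp hc) x hx).symm
        exact (h1.zpow_left j).eq) (by
        rintro x ⟨hxU, hxC⟩
        obtain ⟨s, rfl⟩ := hUT hxU
        have h2 := hrange s hxC
        rw [Subgroup.mem_centralizer_iff]
        intro y hy
        obtain ⟨j, rfl⟩ := Subgroup.mem_zpowers_iff.mp hy
        have h1 : Commute c (ι s) := ((Subgroup.mem_centralizer_iff.mp hc) _ h2).symm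
        exact (h1.zpow_left j).eq)
    have hcU : c ∈ Subgroup.centralizer ((pCore p G : Subgroup G) : Set G) := by
      rw [Subgroup.mem_centralizer_iff]
      intro u hu
      have := (Subgroup.mem_centralizer_iff.mp (key hu)) c (Subgroup.mem_zpowers c)
      exact this.symm
    have hcU' := hcent hcU
    obtain ⟨k, hk⟩ := hUp ⟨c, hcU'⟩
    have hk' : c ^ p ^ k = 1 := congrArg Subtype.val hk
    have hdvd := orderOf_dvd_of_pow_eq_one hk'
    have h1 : orderOf c = 1 := by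
      have := Nat.Coprime.eq_one_of_dvd (Nat.Coprime.pow_right k hcop) hdvd
      exact this
    exact orderOf_eq_one_iff.mp h1
  -- hence the centralizer is a `p`-group
  have hCp : IsPGroup p ↥(Subgroup.centralizer ((imQ ι Q : Subgroup G) : Set G)) := by
    intro c
    have hp : p.Prime := Fact.out
    have hpos : orderOf (c : G) ≠ 0 := (orderOf_pos (c : G)).ne'
    obtain ⟨a, m, hm, hord⟩ := Nat.exists_eq_pow_mul_and_not_dvd hpos p hp.ne_one
    refine ⟨a, ?_⟩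
    apply Subtype.ext
    show (c : G) ^ p ^ a = 1
    apply hpprime _ (Subgroup.pow_mem _ c.2 _)
    have h1 : orderOf ((c : G) ^ p ^ a) = m := by
      rw [orderOf_pow' _ (pow_ne_zero a hp.ne_zero), hord,
        Nat.gcd_eq_right (Dvd.intro _ rfl), Nat.mul_div_cancel_left _ (pow_pos hp.pos a)]
    rw [h1]
    exact ((Nat.Prime.coprime_iff_not_dvd hp).mpr hm).symm
  have hCn : (Subgroup.centralizer ((imQ ι Q : Subgroup G) : Set G)).Normal := Subgroup.normal_centralizer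
  intro c hc
  have hcU := le_pCore hCn hCp hc
  obtain ⟨s, rfl⟩ := hUT hcU
  exact hrange s hc

end Cfsg.Agent.Lib.Helper7.ModelUq
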