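import Mathlib
import Cfsg.Agent.Lib.Helper7.AxGTb
import Cfsg.Agent.Lib.Helper7.ModelUqC

/-!
# Transport of a family of subgroups of a `p`-group `T ≤ Ω` along an injective homomorphism `j : T →* X`
-/

set_option autoImplicit false
open scoped commutatorElement

namespace Cfsg.Agent.Lib.Helper7.AxGT

open Cfsg Cfsg.Agent.Lib.Helper7.ModelUq Cfsg.Agent.Lib.Lead.Conj

variable {Ω : Type*} [Group Ω] {T : Subgroup Ω} {X : Type*} [Group X]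

theorem imQ_mono (j : T →* X) {Q R : Subgroup Ω} (h : Q ≤ R) : imQ j Q ≤ imQ j R := by
  unfold imQ
  apply Subgroup.map_mono
  intro x hx
  exact Subgroup.mem_subgroupOf.mpr (h (Subgroup.mem_subgroupOf.mp hx))

theorem imQ_le_range (j : T →* X) (Q : Subgroup Ω) : imQ j Q ≤ j.range := by
  unfold imQ
  rintro _ ⟨x, -, rfl⟩
  exact ⟨x, rfl⟩

theorem imQ_self (j : T →* X) : imQ j T = j.range := by
  unfold imQ
  rw [Subgroup.subgroupOf_self, MonoidHom.range_eq_map]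

theorem apply_mem_imQ_iff (j : T →* X) (hinj : Function.Injective j) {Q : Subgroup Ω} (x : T) :
    j x ∈ imQ j Q ↔ (x : Ω) ∈ Q := by
  unfold imQ
  constructor
  · rintro ⟨y, hy, hyx⟩
    rw [← hinj hyx]
    exact Subgroup.mem_subgroupOf.mp hy
  · intro hx
    exact ⟨x, Subgroup.mem_subgroupOf.mpr hx, rfl⟩

theorem imQ_le_imQ_iff (j : T →* X) (hinj : Function.Injective j) {Q R : Subgroup Ω} (hQ : Q ≤ T) :
    imQ j Q ≤ imQ j R ↔ Q ≤ R := by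
  constructor
  · intro h x hx
    have h1 : j ⟨x, hQ hx⟩ ∈ imQ j Q := (apply_mem_imQ_iff j hinj _).mpr hx
    exact (apply_mem_imQ_iff j hinj ⟨x, hQ hx⟩).mp (h h1)
  · exact imQ_mono j

/-- the pullback of a subgroup of `X` to `Ω` -/
def pbQ (j : T →* X) (Q' : Subgroup X) : Subgroup Ω := (Q'.comap j).map T.subtype

theorem pbQ_le (j : T →* X) (Q' : Subgroup X) : pbQ j Q' ≤ T := by
  unfold pbQ
  rintro _ ⟨x, -, rfl⟩
  exact x.2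

theorem mem_pbQ_iff (j : T →* X) (Q' : Subgroup X) (x : T) : (x : Ω) ∈ pbQ j Q' ↔ j x ∈ Q' := by
  unfold pbQ
  constructor
  · rintro ⟨y, hy, hyx⟩
    have : y = x := Subtype.ext hyx
    rw [← this]
    exact hy
  · intro hx
    exact ⟨x, hx, rfl⟩

theorem imQ_pbQ (j : T →* X) {Q' : Subgroup X} (hQ' : Q' ≤ j.range) : imQ j (pbQ j Q') = Q' := by
  apply le_antisymm
  · intro y hy
    obtain ⟨q, rfl⟩ := (mem_imQ_iff j (pbQ_le j Q') y).mp hy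
    exact (mem_pbQ_iff j Q' ⟨q, pbQ_le j Q' q.2⟩).mp q.2
  · intro y hy
    obtain ⟨x, rfl⟩ := hQ' hy
    exact (mem_imQ_iff j (pbQ_le j Q') _).mpr ⟨⟨x, (mem_pbQ_iff j Q' x).mpr hy⟩, rfl⟩

theorem commutator_le_of_le {Q R : Subgroup Ω} (hQ : Q ≤ T) (hR : R ≤ T) : ⁅Q, R⁆ ≤ T := by
  rw [Subgroup.commutator_le]
  intro a ha b hb
  exact T.mul_mem (T.mul_mem (T.mul_mem (hQ ha) (hR hb)) (T.inv_mem (hQ ha))) (T.inv_mem (hR hb))

theorem imQ_commutator (j : T →* X) {Q R : Subgroup Ω} (hQ : Q ≤ T) (hR : R ≤ T) :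
    imQ j ⁅Q, R⁆ = ⁅imQ j Q, imQ j R⁆ := by
  unfold imQ
  rw [← Subgroup.map_commutator]
  congr 1
  apply Subgroup.map_injective T.subtype_injective
  rw [Subgroup.map_commutator, Subgroup.map_subgroupOf_eq_of_le hQ,
    Subgroup.map_subgroupOf_eq_of_le hR,
    Subgroup.map_subgroupOf_eq_of_le (commutator_le_of_le hQ hR)]

theorem imQ_eq_bot_iff (j : T →* X) (hinj : Function.Injective j) {Q : Subgroup Ω} (hQ : Q ≤ T) :
    imQ j Q = ⊥ ↔ Q = ⊥ := by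
  constructor
  · intro h
    rw [eq_bot_iff]
    intro x hx
    have h1 : j ⟨x, hQ hx⟩ ∈ imQ j Q := (apply_mem_imQ_iff j hinj _).mpr hx
    rw [h, Subgroup.mem_bot] at h1
    have h2 : (⟨x, hQ hx⟩ : T) = 1 := hinj (by rw [h1, map_one])
    exact congrArg Subtype.val h2
  · intro h
    rw [eq_bot_iff]
    intro y hy
    obtain ⟨q, rfl⟩ := (mem_imQ_iff j hQ y).mp hy
    have hq : (q : Ω) = 1 := by
      have h3 : (q : Ω) ∈ (⊥ : Subgroup Ω) := h ▸ q.2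
      exact Subgroup.mem_bot.mp h3
    have h2 : (⟨(q : Ω), hQ q.2⟩ : T) = 1 := Subtype.ext hq
    rw [h2, map_one]
    exact Subgroup.one_mem _

theorem imQ_le_normalizer (j : T →* X) {B A : Subgroup Ω} (hB : B ≤ T) (hA : A ≤ T)
    (h : B ≤ Subgroup.normalizer (A : Set Ω)) :
    imQ j B ≤ Subgroup.normalizer ((imQ j A : Subgroup X) : Set X) := by
  intro y hy
  obtain ⟨b, rfl⟩ := (mem_imQ_iff j hB y).mp hy
  rw [Subgroup.mem_normalizer_iff]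
  intro z
  constructor
  · intro hz
    obtain ⟨a, rfl⟩ := (mem_imQ_iff j hA z).mp hz
    have h1 : (b : Ω) * a * (b : Ω)⁻¹ ∈ A := (Subgroup.mem_normalizer_iff.mp (h b.2) a).mp a.2
    refine (mem_imQ_iff j hA _).mpr ⟨⟨_, h1⟩, ?_⟩
    rw [← map_inv, ← map_mul, ← map_mul]
    rfl
  · intro hz
    obtain ⟨a, ha⟩ := (mem_imQ_iff j hA _).mp hz
    have h1 : (b : Ω)⁻¹ * a * (b : Ω)⁻¹⁻¹ ∈ A :=
      (Subgroup.mem_normalizer_iff.mp (Subgroup.inv_mem _ (h b.2)) a).mp a.2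
    refine (mem_imQ_iff j hA _).mpr ⟨⟨_, h1⟩, ?_⟩
    have e : z = (j ⟨b, hB b.2⟩)⁻¹ * (j ⟨b, hB b.2⟩ * z * (j ⟨b, hB b.2⟩)⁻¹) * (j ⟨b, hB b.2⟩)⁻¹⁻¹ := by
      group
    rw [e, ha, ← map_inv, ← map_mul, ← map_inv, ← map_mul]
    rfl

/-- the transported family -/
def famX (j : T →* X) (𝒜 : Set (Subgroup Ω)) : Set (Subgroup X) := {A' | ∃ A ∈ 𝒜, A' = imQ j A}

theorem imQ_IOf (j : T →* X) (hinj : Function.Injective j) {𝒜 : Set (Subgroup Ω)}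
    (h𝒜 : ∀ A ∈ 𝒜, A ≤ T) {Q : Subgroup Ω} (hne : ∃ A ∈ 𝒜, A ≤ Q) :
    imQ j (IOf 𝒜 Q) = IOf (famX j 𝒜) (imQ j Q) := by
  obtain ⟨A₀, hA₀, hA₀Q⟩ := hne
  have hIT : IOf 𝒜 Q ≤ T := (IOf_le hA₀ hA₀Q).trans (h𝒜 A₀ hA₀)
  apply le_antisymm
  · intro y hy
    obtain ⟨x, rfl⟩ := (mem_imQ_iff j hIT y).mp hy
    rw [mem_IOf]
    rintro A' ⟨A, hA, rfl⟩ hle
    have hAQ : A ≤ Q := (imQ_le_imQ_iff j hinj (h𝒜 A hA)).mp hle
    exact (apply_mem_imQ_iff j hinj _).mpr (mem_IOf.mp x.2 A hA hAQ)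
  · intro y hy
    rw [mem_IOf] at hy
    have h0 := hy (imQ j A₀) ⟨A₀, hA₀, rfl⟩ (imQ_mono j hA₀Q)
    obtain ⟨a, rfl⟩ := (mem_imQ_iff j (h𝒜 A₀ hA₀) y).mp h0
    have hmem : (a : Ω) ∈ IOf 𝒜 Q := by
      rw [mem_IOf]
      intro A hA hAQ
      have h1 := hy (imQ j A) ⟨A, hA, rfl⟩ (imQ_mono j hAQ)
      exact (apply_mem_imQ_iff j hinj ⟨a, h𝒜 A₀ hA₀ a.2⟩).mp h1
    exact (mem_imQ_iff j hIT _).mpr ⟨⟨a, hmem⟩, rfl⟩

end Cfsg.Agent.Lib.Helper7.AxGT
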