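import Mathlib
import Cfsg.Agent.Lib.Helper7.AxGTc

/-!
# The axiomatic Glauberman–Thompson criterion for a group containing the `p`-group `T` as a Sylow subgroup

`FamΩ T 𝒜`: the family `𝒜` of abelian subgroups of `T ≤ Ω` with the replacement property.
`Emb p T 𝒜 X j`: `j : T →* X` embeds `T` as a Sylow `p`-subgroup of the `p`-constrained group `X`, with the invariance
property of the family and with `N_X(I(T))` controlling the `p'`-automorphisms of the subgroups of `T`.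
Main result `emb_pnil`: then `X` has a normal `p`-complement.
-/

set_option autoImplicit false
set_option linter.unusedVariables false
set_option linter.unusedSectionVars false
open scoped commutatorElement

namespace Cfsg.Agent.Lib.Helper7.AxGT

open Cfsg Cfsg.Agent.Lib.Helper7.ModelUq Cfsg.Agent.Lib.Lead.Conj Cfsg.Agent.Lib.Helper4.PNil
  Cfsg.Agent.Lib.Helper4.GT

universe u

variable {Ω : Type*} [Group Ω]

/-- the hypotheses on the family inside `T` -/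
structure FamΩ (T : Subgroup Ω) (𝒜 : Set (Subgroup Ω)) : Prop where
  le : ∀ A ∈ 𝒜, A ≤ T
  comm : ∀ A ∈ 𝒜, ∀ a ∈ A, ∀ b ∈ A, a * b = b * a
  ne : 𝒜.Nonempty
  rep : ∀ B : Subgroup Ω, B ≤ T → ⁅⁅B, B⁆, B⁆ = ⊥ → (∃ A ∈ 𝒜, ⁅B, B⁆ ≤ A ∧ ¬ B ≤ A) →
    ∃ A ∈ 𝒜, ⁅B, B⁆ ≤ A ∧ ¬ B ≤ A ∧ B ≤ Subgroup.normalizer (A : Set Ω)

/-- the embedded hypotheses -/
structure Emb (p : ℕ) (T : Subgroup Ω) (𝒜 : Set (Subgroup Ω)) (X : Type u) [Group X]
    (j : T →* X) : Prop where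
  inj : Function.Injective j
  syl : ∃ Sy : Sylow p X, (Sy : Subgroup X) = j.range
  cent : Subgroup.centralizer (Cfsg.pCore p X : Set X) ≤ Cfsg.pCore p X
  inv : ∀ Q : Subgroup Ω, Q ≤ T → (∃ A ∈ 𝒜, A ≤ Q) →
    ∀ g ∈ Subgroup.normalizer ((imQ j Q : Subgroup X) : Set X), ∀ x : T, (x : Ω) ∈ IOf 𝒜 Q →
      ∃ y : T, (y : Ω) ∈ IOf 𝒜 Q ∧ j y = g * j x * g⁻¹
  nc : ∀ Q : Subgroup Ω, Q ≤ T →
    ∀ g ∈ Subgroup.normalizer ((imQ j (IOf 𝒜 T) : Subgroup X) : Set X),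
      g ∈ Subgroup.normalizer ((imQ j Q : Subgroup X) : Set X) → (orderOf g).Coprime p →
      g ∈ Subgroup.centralizer ((imQ j Q : Subgroup X) : Set X)

section one
variable {p : ℕ} [Fact p.Prime] {T : Subgroup Ω} {𝒜 : Set (Subgroup Ω)} {X : Type u} [Group X]
  {j : T →* X}

/-- the axioms for the transported family -/
theorem axFam_of_emb (hf : FamΩ T 𝒜) (he : Emb p T 𝒜 X j) (Sy : Subgroup X) (hSy : Sy = j.range) :
    AxFam Sy (famX j 𝒜) := by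
  have hinj := he.inj
  refine ⟨?_, ?_, ?_, ?_, ?_⟩
  · rintro A' ⟨A, hA, rfl⟩
    rw [hSy]
    exact imQ_le_range j A
  · rintro A' ⟨A, hA, rfl⟩ a ha b hb
    obtain ⟨a', rfl⟩ := (mem_imQ_iff j (hf.le A hA) a).mp ha
    obtain ⟨b', rfl⟩ := (mem_imQ_iff j (hf.le A hA) b).mp hb
    rw [← map_mul, ← map_mul]
    congr 1
    exact Subtype.ext (hf.comm A hA a' a'.2 b' b'.2)
  · obtain ⟨A, hA⟩ := hf.ne
    exact ⟨imQ j A, A, hA, rfl⟩
  · rintro Q' hQ' ⟨A', ⟨A, hA, rfl⟩, hAQ'⟩ g hg x' hx'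
    have hQ'r : Q' ≤ j.range := hSy ▸ hQ'
    have hQeq := imQ_pbQ j hQ'r
    have hAQ : A ≤ pbQ j Q' := by
      rw [← hQeq] at hAQ'
      exact (imQ_le_imQ_iff j hinj (hf.le A hA)).mp hAQ'
    have hI := imQ_IOf j hinj hf.le ⟨A, hA, hAQ⟩
    rw [hQeq] at hI
    rw [← hI] at hx' ⊢
    have hIT : IOf 𝒜 (pbQ j Q') ≤ T := (IOf_le hA hAQ).trans (hf.le A hA)
    obtain ⟨x, rfl⟩ := (mem_imQ_iff j hIT x').mp hx'
    rw [← hQeq] at hg
    obtain ⟨y, hy, hyx⟩ := he.inv (pbQ j Q') (pbQ_le j Q') ⟨A, hA, hAQ⟩ g hg ⟨x, hIT x.2⟩ x.2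
    rw [← hyx]
    exact (mem_imQ_iff j hIT _).mpr ⟨⟨y, hy⟩, rfl⟩
  · rintro B' hB' hcl ⟨A', ⟨A, hA, rfl⟩, hBA, hnBA⟩
    have hB'r : B' ≤ j.range := hSy ▸ hB'
    have hBeq := imQ_pbQ j hB'r
    have hBT := pbQ_le j B'
    have hBBT : ⁅pbQ j B', pbQ j B'⁆ ≤ T := commutator_le_of_le hBT hBT
    have hc1 : imQ j ⁅pbQ j B', pbQ j B'⁆ = ⁅B', B'⁆ := by
      rw [imQ_commutator j hBT hBT, hBeq]
    have hc2 : imQ j ⁅⁅pbQ j B', pbQ j B'⁆, pbQ j B'⁆ = ⁅⁅B', B'⁆, B'⁆ := by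
      rw [imQ_commutator j hBBT hBT, hc1, hBeq]
    have hcl' : ⁅⁅pbQ j B', pbQ j B'⁆, pbQ j B'⁆ = ⊥ := by
      rw [← imQ_eq_bot_iff j hinj (commutator_le_of_le hBBT hBT), hc2, hcl]
    have hBA' : ⁅pbQ j B', pbQ j B'⁆ ≤ A := by
      rw [← hc1] at hBA
      exact (imQ_le_imQ_iff j hinj hBBT).mp hBA
    have hnBA' : ¬ pbQ j B' ≤ A := by
      intro hle
      apply hnBA
      rw [← hBeq]
      exact imQ_mono j hle
    obtain ⟨A₁, hA₁, h1, h2, h3⟩ := hf.rep (pbQ j B') hBT hcl' ⟨A, hA, hBA', hnBA'⟩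
    refine ⟨imQ j A₁, ⟨A₁, hA₁, rfl⟩, ?_, ?_, ?_⟩
    · rw [← hc1]
      exact imQ_mono j h1
    · intro hle
      apply h2
      rw [← hBeq] at hle
      exact (imQ_le_imQ_iff j hinj hBT).mp hle
    · rw [← hBeq]
      exact imQ_le_normalizer j hBT (hf.le A₁ hA₁) h3

/-- the control hypothesis for the transported family -/
theorem nc_of_emb (hf : FamΩ T 𝒜) (he : Emb p T 𝒜 X j) (Sy : Subgroup X) (hSy : Sy = j.range) :
    ∀ Q : Subgroup X, Q ≤ Sy →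
      ∀ g ∈ Subgroup.normalizer (IOf (famX j 𝒜) Sy : Set X),
      g ∈ Subgroup.normalizer (Q : Set X) → (orderOf g).Coprime p →
      g ∈ Subgroup.centralizer (Q : Set X) := by
  intro Q' hQ' g hgI hgQ hgp
  have hQ'r : Q' ≤ j.range := hSy ▸ hQ'
  have hQeq := imQ_pbQ j hQ'r
  obtain ⟨A, hA⟩ := hf.ne
  have hI := imQ_IOf j he.inj hf.le ⟨A, hA, hf.le A hA⟩
  rw [imQ_self, ← hSy] at hI
  rw [← hI] at hgI
  rw [← hQeq] at hgQ ⊢
  exact he.nc (pbQ j Q') (pbQ_le j Q') g hgI hgQ hgp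

end one

section sub
variable {p : ℕ} [Fact p.Prime] {T : Subgroup Ω} {𝒜 : Set (Subgroup Ω)} {X : Type u} [Group X]
  [Finite X] {j : T →* X}

theorem imQ_codRestrict (L : Subgroup X) (hL : ∀ x, j x ∈ L) (Q : Subgroup Ω) :
    (imQ (j.codRestrict L hL) Q).map L.subtype = imQ j Q := by
  unfold imQ
  rw [Subgroup.map_map]
  rfl

theorem mem_normalizer_of_codRestrict (L : Subgroup X) (hL : ∀ x, j x ∈ L) {Q : Subgroup Ω}
    {g : L} (hg : g ∈ Subgroup.normalizer ((imQ (j.codRestrict L hL) Q : Subgroup L) : Set L)) :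
    (g : X) ∈ Subgroup.normalizer ((imQ j Q : Subgroup X) : Set X) := by
  apply mem_normalizer_of_conj_mem
  intro z hz
  rw [← imQ_codRestrict L hL Q] at hz ⊢
  obtain ⟨z', hz', rfl⟩ := hz
  exact ⟨g * z' * g⁻¹, (Subgroup.mem_normalizer_iff.mp hg z').mp hz', rfl⟩

/-- the embedded hypotheses pass to subgroups containing the image of `T` -/
theorem emb_sub (he : Emb p T 𝒜 X j) (L : Subgroup X) (hL : ∀ x, j x ∈ L) :
    Emb p T 𝒜 ↥L (j.codRestrict L hL) := by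
  obtain ⟨Sy, hSy⟩ := he.syl
  have hSyL : (Sy : Subgroup X) ≤ L := by
    rw [hSy]
    rintro _ ⟨x, rfl⟩
    exact hL x
  refine ⟨?_, ?_, ?_, ?_, ?_⟩
  · intro a b hab
    apply he.inj
    exact congrArg Subtype.val hab
  · refine ⟨Sy.subtype hSyL, ?_⟩
    rw [Sylow.coe_subtype, hSy]
    ext y
    rw [Subgroup.mem_subgroupOf]
    constructor
    · rintro ⟨x, hx⟩
      exact ⟨x, Subtype.ext hx⟩
    · rintro ⟨x, rfl⟩
      exact ⟨x, rfl⟩
  · -- the centralizer of the `p`-core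
    haveI hUn : (Cfsg.pCore p X).Normal := Cfsg.Agent.H9.pCore_normal p X
    have hUp : IsPGroup p ↥(Cfsg.pCore p X) := Cfsg.Agent.H9.pCore_isPGroup p X
    have hUL : Cfsg.pCore p X ≤ L := (hUp.le_sylow_of_normal Sy).trans hSyL
    haveI hULn : ((Cfsg.pCore p X).subgroupOf L).Normal := hUn.subgroupOf L
    have hULp : IsPGroup p ↥((Cfsg.pCore p X).subgroupOf L) := hUp.comap_subtype
    have hle : (Cfsg.pCore p X).subgroupOf L ≤ Cfsg.pCore p ↥L := Cfsg.Agent.H9.le_pCore _ hULp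
    intro c hc
    apply hle
    rw [Subgroup.mem_subgroupOf]
    apply he.cent
    rw [Subgroup.mem_centralizer_iff]
    intro u hu
    have h1 : (⟨u, hUL hu⟩ : L) ∈ Cfsg.pCore p ↥L := hle (Subgroup.mem_subgroupOf.mpr hu)
    have h2 := Subgroup.mem_centralizer_iff.mp hc _ h1
    exact congrArg Subtype.val h2
  · intro Q hQ hne g hg x hx
    obtain ⟨y, hy, hyx⟩ := he.inv Q hQ hne (g : X) (mem_normalizer_of_codRestrict L hL hg) x hx
    exact ⟨y, hy, Subtype.ext hyx⟩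
  · intro Q hQ g hgI hgQ hgp
    have h1 := he.nc Q hQ (g : X) (mem_normalizer_of_codRestrict L hL hgI)
      (mem_normalizer_of_codRestrict L hL hgQ) (by rw [Subgroup.orderOf_coe]; exact hgp)
    rw [Subgroup.mem_centralizer_iff]
    intro z hz
    have hz' : (z : X) ∈ imQ j Q := by
      rw [← imQ_codRestrict L hL Q]
      exact ⟨z, hz, rfl⟩
    exact Subtype.ext (Subgroup.mem_centralizer_iff.mp h1 _ hz')

end sub

/-- **the axiomatic Glauberman–Thompson criterion, embedded form** -/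
theorem emb_pnil {p : ℕ} [Fact p.Prime] (hp2 : p ≠ 2) {T : Subgroup Ω} {𝒜 : Set (Subgroup Ω)}
    (hf : FamΩ T 𝒜) :
    ∀ n : ℕ, ∀ (X : Type u) [Group X] [Finite X] (j : T →* X), Nat.card X = n →
      Emb p T 𝒜 X j → PNil p (⊤ : Subgroup X) := by
  intro n
  induction n using Nat.strong_induction_on with
  | _ n ih =>
  intro X _ _ j hn he
  obtain ⟨Sy, hSy⟩ := he.syl
  have hax := axFam_of_emb hf he (Sy : Subgroup X) hSy
  have hnc := nc_of_emb hf he (Sy : Subgroup X) hSy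
  apply ax_core hp2 Sy hax he.cent ?_ hnc
  intro L hSyL hL
  have hjL : ∀ x, j x ∈ L := fun x => hSyL (hSy ▸ ⟨x, rfl⟩)
  have h1 := ih (Nat.card ↥L) (by rw [← hn]; exact card_subgroup_lt L hL) ↥L
    (j.codRestrict L hjL) rfl (emb_sub he L hjL)
  exact (pnil_top_subtype_iff L).mp h1

end Cfsg.Agent.Lib.Helper7.AxGT
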