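import Mathlib
import Cfsg.Prelude.Def_FusionSystem
import Cfsg.Prelude.Def_FusionComponents
import Cfsg.Agent.Lib.Helper7.FactorHyperfocal
import Cfsg.Agent.Lib.Helper7.FusionCore2

set_option autoImplicit false

namespace Cfsg.Agent.Lib.Helper7

open Cfsg Cfsg.FusionSystem
open scoped commutatorElement

variable {Ω : Type*} [Group Ω] {S : Subgroup Ω} {Ω' : Type*} [Group Ω'] {S' : Subgroup Ω'}

theorem stronglyClosed_image (F : FusionSystem S) (S₀ : Subgroup Ω) (θ : S →* Ω') (E : FusionSystem S')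
    (hE : F.IsFactorSystem S₀ θ E) {X : Subgroup Ω} (hX : F.StronglyClosed X) :
    E.StronglyClosed (imageAlong θ X) := by
  obtain ⟨-, hker, hrange, hHom⟩ := hE
  have hθ : ∀ s : S, θ s ∈ S' := fun s => hrange ▸ ⟨s, rfl⟩
  refine ⟨imageAlong_le θ hθ X, fun P' hP' φ' hφ' y' => ?_⟩
  obtain ⟨-, φ, hφ, hP, hφS, hPP', hi⟩ := (hHom P' φ').mp hφ'
  obtain ⟨y, hyX, hy⟩ := (mem_imageAlong θ X _).mp (hP' y'.2)
  have hyP : (y : Ω) ∈ preimageAlong θ P' := (mem_preimageAlong θ P' _).mpr ⟨y.2, by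
    rw [show (⟨(y : Ω), y.2⟩ : S) = y from rfl, hy]; exact y'.2⟩
  have h1 := hi ⟨y, hyP⟩
  have e : y' = ⟨θ ⟨((⟨y, hyP⟩ : preimageAlong θ P') : Ω), hP hyP⟩, hPP' ⟨y, hyP⟩⟩ := Subtype.ext hy.symm
  rw [e, h1]
  have hle : Subgroup.zpowers (y : Ω) ≤ preimageAlong θ P' := Subgroup.zpowers_le.mpr hyP
  have hleX : Subgroup.zpowers (y : Ω) ≤ X := Subgroup.zpowers_le.mpr hyX
  have h2 := hX.2 _ hleX _ (fs_restrict_mem F hle hφ) ⟨y, Subgroup.mem_zpowers _⟩
  exact (mem_imageAlong θ X _).mpr ⟨⟨_, hφS _⟩, h2, rfl⟩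

theorem stronglyClosed_preimage [Finite S] (p : ℕ) [Fact p.Prime] (hS : IsPGroup p S)
    (F : FusionSystem S) (hF : F.IsSaturated p) (S₀ : Subgroup Ω) (hS₀ : F.StronglyClosed S₀)
    (θ : S →* Ω') (E : FusionSystem S') (hE : F.IsFactorSystem S₀ θ E) {X' : Subgroup Ω'}
    (hX' : E.StronglyClosed X') : F.StronglyClosed (preimageAlong θ X') := by
  have hθ : ∀ s : S, θ s ∈ S' := fun s => hE.2.2.1 ▸ ⟨s, rfl⟩
  refine ⟨preimageAlong_le θ X', fun P hP φ hφ x => ?_⟩
  obtain ⟨-, φ', hφ', hP₁, hφS, hPP', hi⟩ := le_morSystem p hS F hF S₀ hS₀ θ E hE hθ P hφ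
  have hle : imageAlong θ P ≤ X' := by
    intro y hy
    obtain ⟨s, hs, rfl⟩ := (mem_imageAlong θ P y).mp hy
    exact ((mem_preimageAlong θ X' _).mp (hP hs)).2
  have h1 := hX'.2 _ hle φ' hφ' ⟨θ ⟨x, hP₁ x.2⟩, hPP' x⟩
  rw [hi x] at h1
  exact (mem_preimageAlong θ X' _).mpr ⟨hφS x, h1⟩

theorem stronglyClosed_center_of_isNormal [Finite S] (p : ℕ) [Fact p.Prime] (hS : IsPGroup p S)
    (F : FusionSystem S) (hF : F.IsSaturated p) {Q : Subgroup Ω} (hQ : F.IsNormal Q) :
    F.StronglyClosed ((Subgroup.center Q).map Q.subtype) := by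
  have hle : (Subgroup.center Q).map Q.subtype ≤ Q := Subgroup.map_subtype_le _
  refine ⟨hle.trans hQ.1, fun P hP φ hφ x => ?_⟩
  obtain ⟨α, -, hα⟩ := (isNormal_iff_extend p hS F hF Q hQ.1).mp hQ P (hP.trans hle) φ hφ
  rw [← hα x]
  refine ⟨α (Subgroup.inclusion (hP.trans hle) x), ?_, rfl⟩
  obtain ⟨z, hz, hzx⟩ := hP x.2
  have e : Subgroup.inclusion (hP.trans hle) x = z := Subtype.ext hzx.symm
  rw [e]
  show α z ∈ Subgroup.center Q
  rw [Subgroup.mem_center_iff]
  intro q
  have h1 := (Subgroup.mem_center_iff.mp hz) (α⁻¹ q)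
  have h2 := congrArg α h1
  rw [map_mul, map_mul, MulAut.apply_inv_self] at h2
  exact h2

/-- an `ℕ`-indexed chain from `R` to `S` of strongly closed subgroups with abelian quotients -/
def SolvChain (F : FusionSystem S) (R : Subgroup Ω) (n : ℕ) (f : ℕ → Subgroup Ω) : Prop :=
  f 0 = R ∧ (∀ i, n ≤ i → f i = S) ∧ (∀ i, f i ≤ f (i + 1)) ∧ (∀ i, F.StronglyClosed (f i)) ∧
    ∀ i, ⁅f (i + 1), f (i + 1)⁆ ≤ f i

theorem exists_solvChain [Finite S] (p : ℕ) [Fact p.Prime] (hS : IsPGroup p S)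
    (F : FusionSystem S) (hF : F.IsSaturated p) (hsolv : F.IsSolvableSystem) :
    ∀ (k : ℕ) (R : Subgroup Ω), F.StronglyClosed R → Nat.card S - Nat.card R = k →
      ∃ (n : ℕ) (f : ℕ → Subgroup Ω), SolvChain F R n f := by
  intro k
  induction k using Nat.strong_induction_on with
  | _ k ih =>
    intro R hR hk
    by_cases hne : R = S
    · refine ⟨0, fun _ => S, hne.symm, fun _ _ => rfl, fun _ => le_rfl, fun _ => hne ▸ hR, fun _ => ?_⟩
      rw [Subgroup.commutator_le]
      intro a ha b hb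
      rw [commutatorElement_def]
      exact S.mul_mem (S.mul_mem (S.mul_mem ha hb) (S.inv_mem ha)) (S.inv_mem hb)
    · have hRS := hR.1
      haveI : (R.subgroupOf S).Normal :=
        (Subgroup.normal_subgroupOf_iff_le_normalizer hRS).mpr (le_normalizer_of_stronglyClosed F hR)
      set θ := QuotientGroup.mk' (R.subgroupOf S) with hθdef
      have hker : ∀ s : S, θ s = 1 ↔ (s : Ω) ∈ R := by
        intro s
        rw [hθdef, QuotientGroup.mk'_apply, QuotientGroup.eq_one_iff, Subgroup.mem_subgroupOf]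
      have hsurj : Function.Surjective θ := QuotientGroup.mk'_surjective _
      have hrange : θ.range = ⊤ := MonoidHom.range_eq_top.mpr hsurj
      have hEf := factorSystem_isFactorSystem F R hR θ hker ⊤ hrange
      set E := factorSystem F R hR θ hker ⊤ hrange with hE
      have hcore : E.core ≠ ⊥ := hsolv R hR hne E hEf
      have hEsat : E.IsSaturated p := isSaturated_of_isFactorSystem p hS F hF R hR θ E hEf
      have hTp : IsPGroup p (⊤ : Subgroup (S ⧸ R.subgroupOf S)) := (hS.to_quotient _).to_subgroup ⊤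
      have hC : E.IsNormal E.core := isNormal_core E
      have hZ' := stronglyClosed_center_of_isNormal p hTp E hEsat hC
      set Z' := (Subgroup.center E.core).map E.core.subtype with hZ'def
      set R₁ := preimageAlong θ Z' with hR₁
      have hR₁sc : F.StronglyClosed R₁ := stronglyClosed_preimage p hS F hF R hR θ E hEf hZ'
      have hRR₁ : R ≤ R₁ := by
        intro z hz
        refine (mem_preimageAlong θ Z' z).mpr ⟨hRS hz, ?_⟩
        rw [(hker ⟨z, hRS hz⟩).mpr hz]
        exact Z'.one_mem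
      -- `Z'` is nontrivial
      haveI : Finite E.core := Subgroup.instFiniteSubtypeMem _
      haveI : Nontrivial E.core := (Subgroup.nontrivial_iff_ne_bot _).mpr hcore
      have hCp : IsPGroup p E.core := (hS.to_quotient _).to_subgroup _
      haveI := hCp.center_nontrivial
      obtain ⟨z, hz⟩ := exists_ne (1 : Subgroup.center E.core)
      obtain ⟨s, hs⟩ := hsurj ((z : E.core) : S ⧸ R.subgroupOf S)
      have hsR₁ : (s : Ω) ∈ R₁ := (mem_preimageAlong θ Z' _).mpr ⟨s.2, by
        rw [show (⟨(s : Ω), s.2⟩ : S) = s from rfl, hs]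
        exact ⟨z, z.2, rfl⟩⟩
      have hsR : (s : Ω) ∉ R := by
        intro h
        have h1 := (hker s).mpr h
        rw [hs] at h1
        apply hz
        exact Subtype.ext (Subtype.ext h1)
      have hlt : R < R₁ := lt_of_le_of_ne hRR₁ (fun h => hsR (h ▸ hsR₁))
      have hcomm : ⁅R₁, R₁⁆ ≤ R := by
        rw [Subgroup.commutator_le]
        intro a ha b hb
        obtain ⟨haS, ha'⟩ := (mem_preimageAlong θ Z' a).mp ha
        obtain ⟨hbS, hb'⟩ := (mem_preimageAlong θ Z' b).mp hb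
        have hcS : ⁅a, b⁆ ∈ S := by
          rw [commutatorElement_def]
          exact S.mul_mem (S.mul_mem (S.mul_mem haS hbS) (S.inv_mem haS)) (S.inv_mem hbS)
        have h1 : θ ⟨⁅a, b⁆, hcS⟩ = ⁅θ ⟨a, haS⟩, θ ⟨b, hbS⟩⁆ := by
          rw [← map_commutatorElement]; rfl
        obtain ⟨za, hza, hza'⟩ := ha'
        obtain ⟨zb, hzb, hzb'⟩ := hb'
        have h2 : ⁅θ ⟨a, haS⟩, θ ⟨b, hbS⟩⁆ = 1 := by
          rw [commutatorElement_eq_one_iff_mul_comm, ← hza', ← hzb']
          have := (Subgroup.mem_center_iff.mp hza) zb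
          have h3 := congrArg Subtype.val this
          exact h3.symm
        exact (hker ⟨_, hcS⟩).mp (h1.trans h2)
      haveI : Finite R₁ := finite_of_le hR₁sc.1
      have hcard1 : Nat.card R < Nat.card R₁ := by
        by_contra hge
        push Not at hge
        exact hlt.ne (Subgroup.eq_of_le_of_card_ge hlt.le hge)
      have hcard2 : Nat.card R₁ ≤ Nat.card S := Subgroup.card_le_of_le hR₁sc.1
      obtain ⟨n', f', h0, hn', hmono, hsc, hab⟩ :=
        ih (Nat.card S - Nat.card R₁) (by omega) R₁ hR₁sc rfl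
      refine ⟨n' + 1, fun i => Nat.casesOn i R f', rfl, ?_, ?_, ?_, ?_⟩
      · intro i hi
        cases i with
        | zero => omega
        | succ j => exact hn' j (by omega)
      · intro i
        cases i with
        | zero => show R ≤ f' 0; rw [h0]; exact hRR₁
        | succ j => exact hmono j
      · intro i
        cases i with
        | zero => exact hR
        | succ j => exact hsc j
      · intro i
        cases i with
        | zero => show ⁅f' 0, f' 0⁆ ≤ R; rw [h0]; exact hcomm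
        | succ j => exact hab j

theorem isSolvableSystem_iff_series [Finite S] (p : ℕ) [Fact p.Prime] (hS : IsPGroup p S)
    (F : FusionSystem S) (hF : F.IsSaturated p) :
    F.IsSolvableSystem ↔ ∃ (n : ℕ) (T : Fin (n + 1) → Subgroup Ω), T 0 = ⊥ ∧ T (Fin.last n) = S ∧
      Monotone T ∧ (∀ i, F.StronglyClosed (T i)) ∧
      ∀ i : Fin n, ⁅T i.succ, T i.succ⁆ ≤ T (Fin.castSucc i) := by
  constructor
  · intro hsolv
    have hbot : F.StronglyClosed ⊥ := by
      refine ⟨bot_le, fun R hR φ hφ x => ?_⟩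
      have : x = 1 := Subtype.ext (Subgroup.mem_bot.mp (hR x.2))
      rw [this, map_one]; exact Subgroup.one_mem _
    obtain ⟨n, f, h0, hn, hmono, hsc, hab⟩ := exists_solvChain p hS F hF hsolv _ ⊥ hbot rfl
    have hmono' : Monotone f := monotone_nat_of_le_succ hmono
    refine ⟨n, fun i => f i.val, h0, hn n le_rfl, fun a b hab' => hmono' hab', fun i => hsc _, fun i => ?_⟩
    exact hab i.val
  · rintro ⟨n, T, h0, hlast, hmono, hsc, hab⟩
    intro R hR hne hnorm E hEf
    have hRS := hR.1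
    obtain ⟨-, hker, hrange, hHom⟩ := hEf
    have hEf' : F.IsFactorSystem R (QuotientGroup.mk' (R.subgroupOf S)) E := ⟨hRS, hker, hrange, hHom⟩
    set θ := QuotientGroup.mk' (R.subgroupOf S) with hθdef
    have hEsat : E.IsSaturated p := isSaturated_of_isFactorSystem p hS F hF R hR θ E hEf'
    have hTp : IsPGroup p (⊤ : Subgroup (S ⧸ R.subgroupOf S)) := (hS.to_quotient _).to_subgroup ⊤
    -- minimal index with `T i ≰ R`
    have hex : ∃ i : ℕ, ∃ h : i < n + 1, ¬ T ⟨i, h⟩ ≤ R := by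
      refine ⟨n, Nat.lt_succ_self n, fun hle => hne (le_antisymm hRS ?_)⟩
      have : T ⟨n, Nat.lt_succ_self n⟩ = S := hlast
      rw [← this]; exact hle
    classical
    obtain ⟨hi₀, hi₀'⟩ := Nat.find_spec hex
    set i₀ := Nat.find hex with hi₀def
    have hi₀ne : i₀ ≠ 0 := by
      intro h
      apply hi₀'
      have : (⟨i₀, hi₀⟩ : Fin (n + 1)) = 0 := Fin.ext h
      rw [this, h0]; exact bot_le
    obtain ⟨j, hj⟩ := Nat.exists_eq_succ_of_ne_zero hi₀ne
    have hjlt : j < n := by omega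
    have hjR : T ⟨j, by omega⟩ ≤ R := by
      by_contra hcon
      have := Nat.find_min hex (m := j) (by omega)
      exact this ⟨by omega, hcon⟩
    have habj := hab ⟨j, hjlt⟩
    have e1 : (⟨j, hjlt⟩ : Fin n).succ = ⟨i₀, hi₀⟩ := Fin.ext (by simp [hj])
    have e2 : Fin.castSucc (⟨j, hjlt⟩ : Fin n) = ⟨j, by omega⟩ := Fin.ext rfl
    rw [e1, e2] at habj
    set X := T ⟨i₀, hi₀⟩ with hX
    have hXsc : F.StronglyClosed X := hsc _
    have hX'sc := stronglyClosed_image F R θ E hEf' hXsc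
    have hX'ab : IsMulCommutative (imageAlong θ X) := by
      refine ⟨⟨fun a' b' => ?_⟩⟩
      obtain ⟨a, haX, ha⟩ := (mem_imageAlong θ X _).mp a'.2
      obtain ⟨b, hbX, hb⟩ := (mem_imageAlong θ X _).mp b'.2
      apply Subtype.ext
      show (a' : S ⧸ R.subgroupOf S) * b' = b' * a'
      rw [← ha, ← hb, ← commutatorElement_eq_one_iff_mul_comm, ← map_commutatorElement]
      apply (hker _).mpr
      apply hjR
      apply habj
      exact Subgroup.commutator_mem_commutator haX hbX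
    have hX'n : E.IsNormal (imageAlong θ X) :=
      isNormal_of_abelian_stronglyClosed p hTp E hEsat hX'ab hX'sc
    intro hcore
    have hle : imageAlong θ X ≤ E.core := le_sSup hX'n
    rw [hcore] at hle
    apply hi₀'
    intro x hx
    have hxS := hXsc.1 hx
    have h1 : θ ⟨x, hxS⟩ ∈ imageAlong θ X := (mem_imageAlong θ X _).mpr ⟨⟨x, hxS⟩, hx, rfl⟩
    exact (hker ⟨x, hxS⟩).mp (Subgroup.mem_bot.mp (hle h1))

end Cfsg.Agent.Lib.Helper7
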