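import Mathlib
import Cfsg.Prelude.Def_FusionSystem
import Cfsg.Agent.Lib.Helper7.FusionSat4
import Cfsg.Agent.Lib.Helper7.FusionCentric
import Cfsg.Agent.Lib.Helper7.Alperin3

set_option autoImplicit false

namespace Cfsg.Agent.Lib.Helper7

open Cfsg Cfsg.FusionSystem

variable {Ω : Type*} [Group Ω] {S : Subgroup Ω}

/-- Left cancellation: if `χ` and `χ ∘ ψ` are maps of the system, so is `ψ`. -/
theorem fs_left_cancel (F : FusionSystem S) {R N : Subgroup Ω} {χ : N →* Ω} (hχ : χ ∈ F.Hom N)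
    (ψ : R →* Ω) (hψN : ∀ x : R, ψ x ∈ N) (h : χ.comp (ψ.codRestrict N hψN) ∈ F.Hom R) :
    ψ ∈ F.Hom R := by
  have hMN : ψ.range ≤ N := by rintro _ ⟨x, rfl⟩; exact hψN x
  have hχ' := fs_restrict_mem F hMN hχ
  obtain ⟨ι, hι, hιe⟩ := F.inv_mem hχ'
  have hθ : ∀ x : R, (χ.comp (ψ.codRestrict N hψN)) x ∈ (χ.comp (Subgroup.inclusion hMN)).range :=
    fun x => ⟨⟨ψ x, ⟨x, rfl⟩⟩, rfl⟩
  have := F.comp_mem h hι hθ
  convert this using 1
  ext x
  exact (hιe ⟨ψ x, ⟨x, rfl⟩⟩).symm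

/-- Right cancellation: if `φ` and `ψ ∘ φ` are maps of the system, so is `ψ` on the image of `φ`. -/
theorem fs_right_cancel (F : FusionSystem S) {Q R : Subgroup Ω} {φ : Q →* Ω} (hφ : φ ∈ F.Hom Q)
    (hφR : ∀ x : Q, φ x ∈ R) (ψ : R →* Ω) (h : ψ.comp (φ.codRestrict R hφR) ∈ F.Hom Q)
    (hle : φ.range ≤ R) :
    ψ.comp (Subgroup.inclusion hle) ∈ F.Hom φ.range := by
  obtain ⟨ι, hι, hιe⟩ := F.inv_mem hφ
  have hιQ : ∀ y : φ.range, ι y ∈ Q := by
    rintro ⟨_, x, rfl⟩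
    rw [hιe]; exact x.2
  have := F.comp_mem hι h hιQ
  convert this using 1
  ext ⟨_, x, rfl⟩
  show ψ ⟨φ x, _⟩ = ψ ⟨φ ⟨ι ⟨φ x, _⟩, _⟩, _⟩
  congr 2
  have : (⟨ι ⟨φ x, ⟨x, rfl⟩⟩, hιQ ⟨φ x, ⟨x, rfl⟩⟩⟩ : Q) = x := Subtype.ext (hιe x)
  rw [this]

/-- Normal case of the key lemma: an `F`-map on `R` whose restriction to a normal `F`-centric subgroup `Q`
lies in the saturated subsystem `F'` lies in `F'`. -/
theorem hom_mem_sub_of_centric_normal [Finite S] (p : ℕ) [Fact p.Prime] (hS : IsPGroup p S)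
    (F F' : FusionSystem S) (hF : F.IsSaturated p) (hF' : F'.IsSaturated p) (hle : F' ≤ F)
    {Q R : Subgroup Ω} (hQR : Q ≤ R) (hnorm : R ≤ Subgroup.normalizer (Q : Set Ω))
    (hQ : F.IsCentric Q) (ψ : R →* Ω) (hψ : ψ ∈ F.Hom R)
    (h0 : ψ.comp (Subgroup.inclusion hQR) ∈ F'.Hom Q) : ψ ∈ F'.Hom R := by
  have hRS : R ≤ S := (F.le_of_mem hψ).1
  have hQS : Q ≤ S := hQR.trans hRS
  haveI := finite_of_le hRS
  haveI := finite_of_le hQS
  have hQ₂S : (ψ.comp (Subgroup.inclusion hQR)).range ≤ S := by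
    rintro _ ⟨x, rfl⟩
    exact (F.le_of_mem hψ).2 _
  haveI := finite_of_le hQ₂S
  obtain ⟨Q₃, hc, hFA, hRec⟩ := hF' _ hQ₂S
  obtain ⟨χ, hχ, hχN, hχQ⟩ := hom_normalizer_of_fullyAutomized_receptive p hS F' Q₃ _ hFA hRec hc
  have hψN : ∀ x : R, ψ x ∈ normalizerIn S (ψ.comp (Subgroup.inclusion hQR)).range := by
    intro x
    refine ⟨(F.le_of_mem hψ).2 x, ?_⟩
    apply mem_normalizer_of_conj_mem_finite
    rintro _ ⟨q, rfl⟩
    have hxq : (x : Ω) * q * (x : Ω)⁻¹ ∈ Q := by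
      have := (Subgroup.mem_normalizer_iff.mp (hnorm x.2)) q
      exact this.mp q.2
    refine ⟨⟨_, hxq⟩, ?_⟩
    show ψ ⟨(x : Ω) * q * (x : Ω)⁻¹, _⟩ = ψ x * ψ ⟨q, _⟩ * (ψ x)⁻¹
    rw [← map_inv, ← map_mul, ← map_mul]
    rfl
  have hθ : χ.comp (ψ.codRestrict _ hψN) ∈ F.Hom R := F.comp_mem hψ (hle _ hχ) hψN
  have hθ₀ : (χ.comp (ψ.codRestrict _ hψN)).comp (Subgroup.inclusion hQR) ∈ F'.Hom Q := by
    have := F'.comp_mem h0 hχ (fun x => hψN (Subgroup.inclusion hQR x))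
    convert this using 1
    ext x
    rfl
  have hθ₀r : ((χ.comp (ψ.codRestrict _ hψN)).comp (Subgroup.inclusion hQR)).range = Q₃ := by
    rw [← hχQ]
    ext y
    constructor
    · rintro ⟨q, rfl⟩
      exact ⟨⟨ψ (Subgroup.inclusion hQR q), hψN _⟩, Subgroup.mem_subgroupOf.mpr ⟨q, rfl⟩, rfl⟩
    · rintro ⟨⟨y, hy⟩, hy', rfl⟩
      obtain ⟨q, hq⟩ := Subgroup.mem_subgroupOf.mp hy'
      refine ⟨q, ?_⟩
      show χ ⟨ψ (Subgroup.inclusion hQR q), _⟩ = χ ⟨y, hy⟩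
      congr 1
      exact Subtype.ext hq
  obtain ⟨ρ, hρ, hρe⟩ := hRec.2 Q _ hθ₀ hθ₀r
  have hRext : R ≤ extender S Q ((χ.comp (ψ.codRestrict _ hψN)).comp (Subgroup.inclusion hQR)) := by
    intro g hg
    apply mem_extender_of_mem (hRS hg) (hnorm hg)
    refine ⟨(χ.comp (ψ.codRestrict _ hψN)) ⟨g, hg⟩, (F.le_of_mem hθ).2 _, fun x hx => ?_⟩
    show (χ.comp (ψ.codRestrict _ hψN)) ⟨g * x * g⁻¹, _⟩ =
      (χ.comp (ψ.codRestrict _ hψN)) ⟨g, hg⟩ * (χ.comp (ψ.codRestrict _ hψN)) ⟨x, hQR x.2⟩ *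
        ((χ.comp (ψ.codRestrict _ hψN)) ⟨g, hg⟩)⁻¹
    rw [← map_inv, ← map_mul, ← map_mul]
    rfl
  have hρR := fs_restrict_mem F' hRext hρ
  have hagree : ∀ x : R, (x : Ω) ∈ Q → (ρ.comp (Subgroup.inclusion hRext)) x =
      (χ.comp (ψ.codRestrict _ hψN)) x := by
    intro x hx
    exact hρe x hx (hRext x.2)
  obtain ⟨z, hzQ, -, hz⟩ := hom_eq_conj_of_agree p hS F hF R _ hθ _ Q hQR hQ _ (hle _ hρR) hagree rfl
  have hcz : conjHom R (z : Ω) ∈ F'.Hom R := F'.conj_mem hRS (hQS hzQ)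
  have hczR : ∀ y : R, conjHom R (z : Ω) y ∈ R := fun y => (z * y * z⁻¹).2
  have hθ' : χ.comp (ψ.codRestrict _ hψN) ∈ F'.Hom R := by
    have := F'.comp_mem hcz hρR hczR
    convert this using 1
    ext y
    exact hz y
  exact fs_left_cancel F' hχ ψ hψN hθ'

/-- Key lemma: an `F`-map on `R` whose restriction to an `F`-centric subgroup `Q ≤ R` lies in the
saturated subsystem `F'` lies in `F'`. -/
theorem hom_mem_sub_of_centric [Finite S] (p : ℕ) [Fact p.Prime] (hS : IsPGroup p S)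
    (F F' : FusionSystem S) (hF : F.IsSaturated p) (hF' : F'.IsSaturated p) (hle : F' ≤ F)
    {R : Subgroup Ω} (ψ : R →* Ω) (hψ : ψ ∈ F.Hom R) :
    ∀ (n : ℕ) (Q : Subgroup Ω) (hQR : Q ≤ R), F.IsCentric Q →
      ψ.comp (Subgroup.inclusion hQR) ∈ F'.Hom Q → Nat.card R - Nat.card Q = n → ψ ∈ F'.Hom R := by
  have hRS : R ≤ S := (F.le_of_mem hψ).1
  haveI := finite_of_le hRS
  have hRp : IsPGroup p R := hS.to_le hRS
  intro n
  induction n using Nat.strong_induction_on with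
  | _ n ih =>
    intro Q hQR hQ h0 hn
    by_cases hQeq : Q = R
    · subst hQeq
      convert h0 using 1
      ext x
      rfl
    · have hNR : normalizerIn R Q ≤ R := normalizerIn_le R Q
      have hQN : Q ≤ normalizerIn R Q := le_normalizerIn hQR
      have hlt := card_lt_card_normalizerIn hRp hQR hQeq
      have hψN := fs_restrict_mem F hNR hψ
      have h0' : (ψ.comp (Subgroup.inclusion hNR)).comp (Subgroup.inclusion hQN) ∈ F'.Hom Q := by
        convert h0 using 1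
        ext x
        rfl
      have hψN' := hom_mem_sub_of_centric_normal p hS F F' hF hF' hle hQN
        (inf_le_right : normalizerIn R Q ≤ _) hQ _ hψN h0'
      have hcenN : F.IsCentric (normalizerIn R Q) := isCentric_of_le F hQ hQN (hNR.trans hRS)
      have hcardN : Nat.card (normalizerIn R Q) ≤ Nat.card R := Subgroup.card_le_of_le hNR
      exact ih (Nat.card R - Nat.card (normalizerIn R Q)) (by omega) _ hNR hcenN hψN' rfl

/-- two-out-of-three on centric maps -/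
theorem two_out_of_three_centric [Finite S] (p : ℕ) [Fact p.Prime] (hS : IsPGroup p S)
    (F F' : FusionSystem S) (hF : F.IsSaturated p) (hF' : F'.IsSaturated p) (hle : F' ≤ F)
    (Q R : Subgroup Ω) (hQ : F.IsCentric Q) (φ : Q →* Ω) (hφ : φ ∈ F.Hom Q)
    (hφR : ∀ x : Q, φ x ∈ R) (ψ : R →* Ω) (hψ : ψ ∈ F.Hom R) :
    (φ ∈ F'.Hom Q → ψ ∈ F'.Hom R → ψ.comp (φ.codRestrict R hφR) ∈ F'.Hom Q) ∧
    (ψ ∈ F'.Hom R → ψ.comp (φ.codRestrict R hφR) ∈ F'.Hom Q → φ ∈ F'.Hom Q) ∧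
    (φ ∈ F'.Hom Q → ψ.comp (φ.codRestrict R hφR) ∈ F'.Hom Q → ψ ∈ F'.Hom R) := by
  refine ⟨fun h1 h2 => F'.comp_mem h1 h2 hφR, fun h1 h2 => fs_left_cancel F' h1 φ hφR h2,
    fun h1 h2 => ?_⟩
  have hrR : φ.range ≤ R := by rintro _ ⟨x, rfl⟩; exact hφR x
  have h3 := fs_right_cancel F' h1 hφR ψ h2 hrR
  have hcen : F.IsCentric φ.range := isCentric_of_isConj F hQ ⟨φ, hφ, rfl⟩
  exact hom_mem_sub_of_centric p hS F F' hF hF' hle ψ hψ _ φ.range hrR hcen h3 rfl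

theorem isCentric_top [Finite S] (F : FusionSystem S) : F.IsCentric S := by
  refine ⟨le_rfl, fun Q hc => ?_⟩
  have hQS := (isConj_le F hc).2
  have : Q = S := by
    apply Subgroup.eq_of_le_of_card_ge hQS
    rw [card_eq_of_isConj F hc]
  rw [this]
  exact inf_le_left

theorem exists_minimal_centric_le [Finite S] (F : FusionSystem S) :
    ∀ (n : ℕ) (P : Subgroup Ω), F.IsCentric P → Nat.card P = n →
      ∃ Q : Subgroup Ω, Q ≤ P ∧ F.IsCentric Q ∧ ∀ R : Subgroup Ω, R < Q → ¬ F.IsCentric R := by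
  intro n
  induction n using Nat.strong_induction_on with
  | _ n ih =>
    intro P hP hn
    by_cases hmin : ∀ R : Subgroup Ω, R < P → ¬ F.IsCentric R
    · exact ⟨P, le_rfl, hP, hmin⟩
    · push Not at hmin
      obtain ⟨R, hRP, hR⟩ := hmin
      haveI := finite_of_le hP.1
      have hlt : Nat.card R < Nat.card P := by
        by_contra hge
        push Not at hge
        exact hRP.ne (Subgroup.eq_of_le_of_card_ge hRP.le hge)
      obtain ⟨Q, hQR, hQ, hQmin⟩ := ih (Nat.card R) (by omega) R hR rfl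
      exact ⟨Q, hQR.trans hRP.le, hQ, hQmin⟩

theorem eq_of_agree_on_minimal_centric [Finite S] (p : ℕ) [Fact p.Prime] (hS : IsPGroup p S)
    (F F' : FusionSystem S) (hF : F.IsSaturated p) (hF' : F'.IsSaturated p) (hle : F' ≤ F)
    (hmin : ∀ Q : Subgroup Ω, F.IsCentric Q → (∀ R : Subgroup Ω, R < Q → ¬ F.IsCentric R) →
      F.Hom Q = F'.Hom Q) (P : Subgroup Ω) : F.Hom P = F'.Hom P := by
  apply Set.Subset.antisymm _ (hle P)
  revert P
  show F ≤ F'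
  apply alperin_goldschmidt p hS F hF
  intro P hP α hα
  have hcen : F.IsCentric P := by
    rcases hP with rfl | hess
    · exact isCentric_top F
    · exact hess.1
  have hPS := hcen.1
  rw [mem_autGroup_iff F hPS] at hα
  rw [mem_autGroup_iff F' hPS]
  obtain ⟨Q, hQP, hQ, hQmin⟩ := exists_minimal_centric_le F _ P hcen rfl
  have h1 := fs_restrict_mem F hQP hα
  rw [hmin Q hQ hQmin] at h1
  exact hom_mem_sub_of_centric p hS F F' hF hF' hle _ hα _ Q hQP hQ h1 rfl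

end Cfsg.Agent.Lib.Helper7
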