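import Mathlib
import Cfsg.Prelude.Def_FusionSystem
import Cfsg.Agent.Lib.Helper7.Alperin5
import Cfsg.Agent.Lib.Helper7.FusionHyperfocal
import Cfsg.Agent.Lib.Helper7.FusionChain2

set_option autoImplicit false

namespace Cfsg.Agent.Lib.Helper7

open Cfsg Cfsg.FusionSystem

variable {Ω : Type*} [Group Ω] {S : Subgroup Ω}

theorem le_of_normalizer_inter_le [Finite S] {p : ℕ} [Fact p.Prime] (hS : IsPGroup p S)
    {P Q : Subgroup Ω} (hPS : P ≤ S) (hQS : Q ≤ S) (hN : S ≤ Subgroup.normalizer (Q : Set Ω))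
    (h : ∀ g ∈ Q, g ∈ Subgroup.normalizer (P : Set Ω) → g ∈ P) : Q ≤ P := by
  have hPQS : P ⊔ Q ≤ S := sup_le hPS hQS
  haveI := finite_of_le hPQS
  by_contra hnot
  have hne : P ≠ P ⊔ Q := fun h => hnot (by rw [h]; exact le_sup_right)
  obtain ⟨g, hgN, hgP⟩ := lt_normalizerIn_of_ne (hS.to_le hPQS) le_sup_left hne
  apply hgP
  have hg : g ∈ ((P ⊔ Q : Subgroup Ω) : Set Ω) := hgN.1
  rw [Subgroup.coe_mul_of_left_le_normalizer_right P Q (hPS.trans hN)] at hg
  obtain ⟨x, hx, q, hq, rfl⟩ := hg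
  have hqN : q ∈ Subgroup.normalizer (P : Set Ω) := by
    have h1 : x⁻¹ ∈ Subgroup.normalizer (P : Set Ω) := Subgroup.le_normalizer (P.inv_mem hx)
    have := Subgroup.mul_mem _ h1 hgN.2
    simpa using this
  exact P.mul_mem hx (h q hq hqN)

theorem isFullyNormalized_top [Finite S] (F : FusionSystem S) : F.IsFullyNormalized S := by
  refine ⟨le_rfl, fun Q _ => ?_⟩
  have h1 : normalizerIn S S = S := inf_eq_left.mpr Subgroup.le_normalizer
  rw [h1]
  exact Subgroup.card_le_of_le (normalizerIn_le S Q)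

theorem mem_extender_of_conj {P : Subgroup Ω} (α : MulAut P) {g : Ω} (hgS : g ∈ S)
    (hgN : g ∈ Subgroup.normalizer (P : Set Ω))
    (hconj : α * P.normalizerMonoidHom ⟨g, hgN⟩ * α⁻¹ ∈ autInducedBy S P) :
    g ∈ extender S P (P.subtype.comp α.toMonoidHom) := by
  obtain ⟨h, hhS, hh⟩ := (mem_autInducedBy_iff S P _).mp hconj
  apply mem_extender_of_mem hgS hgN
  refine ⟨h, hhS, fun x hx => ?_⟩
  have e2 := hh (α x)
  show ((α ⟨g * (x : Ω) * g⁻¹, hx⟩ : P) : Ω) = h * ((α x : P) : Ω) * h⁻¹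
  rw [← e2]
  simp only [MulAut.mul_apply, MulAut.inv_apply_self]
  rfl

theorem sup_conj_mem {T₁ T₂ : Subgroup Ω} (hT₁S : T₁ ≤ S)
    (hN₁ : S ≤ Subgroup.normalizer (T₁ : Set Ω)) (hN₂ : S ≤ Subgroup.normalizer (T₂ : Set Ω)) :
    ∀ s ∈ S, ∀ y ∈ T₁ ⊔ T₂, s * y * s⁻¹ ∈ T₁ ⊔ T₂ := by
  intro s hs y hy
  have hy' : y ∈ ((T₁ ⊔ T₂ : Subgroup Ω) : Set Ω) := hy
  rw [Subgroup.coe_mul_of_left_le_normalizer_right T₁ T₂ (hT₁S.trans hN₂)] at hy'
  obtain ⟨a, ha, b, hb, rfl⟩ := hy'
  have e : s * (a * b) * s⁻¹ = (s * a * s⁻¹) * (s * b * s⁻¹) := by group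
  rw [e]
  exact Subgroup.mul_mem_sup ((Subgroup.mem_normalizer_iff.mp (hN₁ hs) a).mp ha)
    ((Subgroup.mem_normalizer_iff.mp (hN₂ hs) b).mp hb)

theorem stronglyClosed_sup [Finite S] (p : ℕ) [Fact p.Prime] (hS : IsPGroup p S)
    (F : FusionSystem S) (hF : F.IsSaturated p) (T₁ T₂ : Subgroup Ω) (h₁ : F.StronglyClosed T₁)
    (h₂ : F.StronglyClosed T₂) : F.StronglyClosed (T₁ ⊔ T₂) := by
  have hN₁ := le_normalizer_of_stronglyClosed F h₁
  have hN₂ := le_normalizer_of_stronglyClosed F h₂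
  have hnorm := sup_conj_mem h₁.1 hN₁ hN₂
  have hle : F ≤ closedSystem F (T₁ ⊔ T₂) hnorm := by
    apply alperin_goldschmidt_strong p hS F hF
    intro R hR ih
    have hFN : F.IsFullyNormalized R := by
      rcases hR with rfl | hess
      · exact isFullyNormalized_top F
      · exact hess.2.1
    obtain ⟨R', hcR, hFAR, hRecR⟩ := hF R hFN.1
    obtain ⟨hFA, hRec⟩ := isFullyAutomized_isReceptive_of_isFullyNormalized p hS F hFN hFAR hRecR hcR
    have hRS := hFN.1
    haveI := finite_of_le hRS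
    haveI : Finite (MulAut ↥R) := inferInstance
    have hTle := autInducedBy_le_autGroup F hRS
    have hsyl : IsSylowIn p (autInducedBy S R) (F.autGroup R) :=
      (isSylowIn_iff_exists_sylow hTle).mpr hFA.2
    have key : ∀ α ∈ F.autGroup R, ∀ y : R, (y : Ω) ∈ T₁ ⊔ T₂ → ((α y : R) : Ω) ∈ T₁ ⊔ T₂ := by
      by_cases hex : ∃ g ∈ T₁, g ∈ Subgroup.normalizer (R : Set Ω) ∧ g ∉ R
      · obtain ⟨g, hgT, hgN, hgR⟩ := hex
        have hgS : g ∈ S := h₁.1 hgT
        -- the subgroup K of automorphisms acting trivially modulo T₁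
        have hA : ∀ i, ∀ α ∈ F.autGroup R, ∀ x ∈ (fun i : ℕ => if i = 0 then T₁.subgroupOf R else ⊤) i,
            α x ∈ (fun i : ℕ => if i = 0 then T₁.subgroupOf R else ⊤) i := by
          intro i α hα x hx
          by_cases h0 : i = 0
          · simp only [h0, if_true] at hx ⊢
            exact Subgroup.mem_subgroupOf.mpr
              (autGroup_apply_mem_of_stronglyClosed F h₁ hRS α hα x (Subgroup.mem_subgroupOf.mp hx))
          · simp only [h0, if_false]; exact Subgroup.mem_top _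
        set K := stabChain (F.autGroup R) (fun i : ℕ => if i = 0 then T₁.subgroupOf R else ⊤) 1 hA
          with hKdef
        have hKle : K ≤ F.autGroup R := stabChain_le _ _ _ _
        have hKmem : ∀ β ∈ K, ∀ x : R, (x : Ω)⁻¹ * ((β x : R) : Ω) ∈ T₁ := by
          intro β hβ x
          have := hβ.2 0 (by omega) x (by simp)
          simpa using Subgroup.mem_subgroupOf.mp this
        have hAK : F.autGroup R ≤ Subgroup.normalizer (K : Set (MulAut R)) := by
          intro a ha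
          apply Cfsg.Agent.Lib.Lead.Conj.mem_normalizer_of_conj_mem
          intro k hk
          exact stabChain_conj_mem _ _ _ hA ha hk
        have hTK : IsSylowIn p (autInducedBy S R ⊓ K) K := hsyl.inf_normal K hKle hAK
        have hcg : R.normalizerMonoidHom ⟨g, hgN⟩ ∈ autInducedBy S R ⊓ K := by
          refine ⟨(mem_autInducedBy_iff S R _).mpr ⟨g, hgS, fun x => rfl⟩, ?_, ?_⟩
          · exact hTle ((mem_autInducedBy_iff S R _).mpr ⟨g, hgS, fun x => rfl⟩)
          · intro i hi x _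
            have hi0 : i = 0 := by omega
            subst hi0
            simp only [if_true]
            apply Subgroup.mem_subgroupOf.mpr
            show (x : Ω)⁻¹ * (g * x * g⁻¹) ∈ T₁
            have h1 : (x : Ω)⁻¹ * g * (x : Ω)⁻¹⁻¹ ∈ T₁ :=
              (Subgroup.mem_normalizer_iff.mp (hN₁ (S.inv_mem (hRS x.2))) g).mp hgT
            have := T₁.mul_mem h1 (T₁.inv_mem hgT)
            convert this using 1
            group
        intro α hα y hy
        -- Frattini
        have hTK' : IsSylowIn p ((autInducedBy S R ⊓ K).map (MulAut.conj α).toMonoidHom) K := by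
          refine ⟨?_, ?_⟩
          · rintro _ ⟨x, hx, rfl⟩
            exact (Subgroup.mem_normalizer_iff.mp (hAK hα) x).mp hx.2
          · rw [Cfsg.Agent.Lib.Lead.Conj.card_map_conj]; exact hTK.2
        obtain ⟨n, hnK, e⟩ := hTK.conj hTK'
        have hnA : n ∈ F.autGroup R := hKle hnK
        have hνA : n⁻¹ * α ∈ F.autGroup R := Subgroup.mul_mem _ (Subgroup.inv_mem _ hnA) hα
        have hνconj : (n⁻¹ * α) * R.normalizerMonoidHom ⟨g, hgN⟩ * (n⁻¹ * α)⁻¹ ∈ autInducedBy S R := by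
          have h1 : α * R.normalizerMonoidHom ⟨g, hgN⟩ * α⁻¹ ∈
              (autInducedBy S R ⊓ K).map (MulAut.conj α).toMonoidHom :=
            Cfsg.Agent.Lib.Lead.Conj.conj_mem_map_conj _ α hcg
          rw [e, Cfsg.Agent.Lib.Lead.Conj.mem_map_conj] at h1
          have e3 : (n⁻¹ * α) * R.normalizerMonoidHom ⟨g, hgN⟩ * (n⁻¹ * α)⁻¹ =
              n⁻¹ * (α * R.normalizerMonoidHom ⟨g, hgN⟩ * α⁻¹) * n := by group
          rw [e3]
          exact h1.1
        have hgext := mem_extender_of_conj (n⁻¹ * α) hgS hgN hνconj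
        obtain ⟨Q, hRQ, φ, hφ, hφν⟩ := mem_extGen_of_mem_extender F hRec (n⁻¹ * α) hνA g hgext hgR
        have hQS : Q ≤ S := (F.le_of_mem hφ).1
        haveI := finite_of_le hQS
        have hcard : Nat.card R < Nat.card Q := by
          by_contra hge
          push Not at hge
          exact hRQ.ne (Subgroup.eq_of_le_of_card_ge hRQ.le hge)
        have hφE := ih Q φ hφ hcard
        have hνy : (((n⁻¹ * α) y : R) : Ω) ∈ T₁ ⊔ T₂ := by
          rw [← hφν]
          exact (hφE.2 _).mp hy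
        have hα' : α = n * (n⁻¹ * α) := by group
        rw [hα', MulAut.mul_apply]
        have h3 := hKmem n hnK ((n⁻¹ * α) y)
        have h4 := Subgroup.mul_mem _ hνy (Subgroup.mem_sup_left (T := T₂) h3)
        simpa using h4
      · push Not at hex
        have hT₁R : T₁ ≤ R := le_of_normalizer_inter_le hS hRS h₁.1 hN₁ hex
        intro α hα y hy
        have hy' : (y : Ω) ∈ ((T₁ ⊔ T₂ : Subgroup Ω) : Set Ω) := hy
        rw [Subgroup.coe_mul_of_left_le_normalizer_right T₁ T₂ (h₁.1.trans hN₂)] at hy'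
        obtain ⟨a, ha, b, hb, hab⟩ := hy'
        have haR : a ∈ R := hT₁R ha
        have hbR : b ∈ R := by
          have : b = a⁻¹ * (y : Ω) := by rw [← hab]; group
          rw [this]; exact R.mul_mem (R.inv_mem haR) y.2
        have hy2 : y = (⟨a, haR⟩ : R) * ⟨b, hbR⟩ := Subtype.ext hab.symm
        rw [hy2, map_mul]
        exact Subgroup.mul_mem_sup
          (autGroup_apply_mem_of_stronglyClosed F h₁ hRS α hα ⟨a, haR⟩ ha)
          (autGroup_apply_mem_of_stronglyClosed F h₂ hRS α hα ⟨b, hbR⟩ hb)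
    intro α hα
    apply (mem_autGroup_iff _ hRS α).mpr
    refine ⟨(mem_autGroup_iff F hRS α).mp hα, fun y => ⟨key α hα y, fun h => ?_⟩⟩
    have := key α⁻¹ (Subgroup.inv_mem _ hα) (α y) h
    rwa [MulAut.inv_apply_self] at this
  refine ⟨sup_le h₁.1 h₂.1, fun R hR φ hφ x => ?_⟩
  exact ((hle R hφ).2 x).mp (hR x.2)

end Cfsg.Agent.Lib.Helper7
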