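import Mathlib
import Cfsg.Prelude.Def_FusionSystem
import Cfsg.Agent.Lib.Helper7.FusionProdClosed
import Cfsg.Agent.Lib.Helper7.Alperin5

set_option autoImplicit false

namespace Cfsg.Agent.Lib.Helper7

open Cfsg Cfsg.FusionSystem

variable {Ω : Type*} [Group Ω] {S : Subgroup Ω}

theorem eq_of_invariant_of_top [Finite S] (p : ℕ) [Fact p.Prime] (hS : IsPGroup p S)
    (F : FusionSystem S) (hF : F.IsSaturated p) (F' : FusionSystem S)
    (hle : F' ≤ F)
    (hinv : ∀ (Q : Subgroup Ω) (φ : ↥Q →* Ω), φ ∈ F.Hom Q → ∀ (R : Subgroup Ω) (hRQ : R ≤ Q)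
      (ψ : ↥R →* Ω), ψ ∈ F'.Hom R → ∀ (hψQ : ∀ x : R, ψ x ∈ Q),
      ∃ χ ∈ F'.Hom ((R.subgroupOf Q).map φ), ∀ (x : R)
        (hx : φ ⟨(x : Ω), hRQ x.2⟩ ∈ (R.subgroupOf Q).map φ),
        χ ⟨φ ⟨(x : Ω), hRQ x.2⟩, hx⟩ = φ ⟨ψ x, hψQ x⟩)
    (htop : F'.autGroup S = F.autGroup S) (P : Subgroup Ω) : F'.Hom P = F.Hom P := by
  apply Set.Subset.antisymm (hle P)
  revert P
  show F ≤ F'
  apply alperin_goldschmidt_strong p hS F hF
  intro P hP ih
  by_cases hPeq : P = S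
  · subst hPeq
    rw [htop]
  have hess : F.IsEssential p P := hP.resolve_left hPeq
  have hFN : F.IsFullyNormalized P := hess.2.1
  obtain ⟨R', hcR, hFAR, hRecR⟩ := hF P hFN.1
  obtain ⟨hFA, hRec⟩ := isFullyAutomized_isReceptive_of_isFullyNormalized p hS F hFN hFAR hRecR hcR
  have hPS := hFN.1
  haveI := finite_of_le hPS
  haveI : Finite (MulAut ↥P) := inferInstance
  have hTle := autInducedBy_le_autGroup F hPS
  have hTle' := autInducedBy_le_autGroup F' hPS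
  have hsyl : IsSylowIn p (autInducedBy S P) (F.autGroup P) :=
    (isSylowIn_iff_exists_sylow hTle).mpr hFA.2
  have hKle : F'.autGroup P ≤ F.autGroup P := by
    intro β hβ
    rw [mem_autGroup_iff F hPS]
    exact hle P ((mem_autGroup_iff F' hPS β).mp hβ)
  have hAK : F.autGroup P ≤ Subgroup.normalizer (F'.autGroup P : Set (MulAut P)) := by
    intro α hα
    apply Cfsg.Agent.Lib.Lead.Conj.mem_normalizer_of_conj_mem
    intro β hβ
    rw [mem_autGroup_iff F hPS] at hα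
    rw [mem_autGroup_iff F' hPS] at hβ ⊢
    obtain ⟨χ, hχ, hχe⟩ := hinv P _ hα P le_rfl _ hβ (fun x => (β x).2)
    have hPM : P ≤ (P.subgroupOf P).map (P.subtype.comp α.toMonoidHom) := by
      intro x hx
      refine ⟨α⁻¹ ⟨x, hx⟩, Subgroup.mem_subgroupOf.mpr (α⁻¹ ⟨x, hx⟩).2, ?_⟩
      show ((α (α⁻¹ ⟨x, hx⟩) : P) : Ω) = x
      rw [MulAut.apply_inv_self]
    have := fs_restrict_mem F' hPM hχ
    convert this using 1
    ext x
    show (((α * β * α⁻¹) x : P) : Ω) = χ ⟨x, hPM x.2⟩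
    have h1 := hχe (α⁻¹ x) (by
      show ((α (α⁻¹ x) : P) : Ω) ∈ _
      rw [MulAut.apply_inv_self]; exact hPM x.2)
    have e : (⟨(P.subtype.comp α.toMonoidHom) ⟨((α⁻¹ x : P) : Ω), (α⁻¹ x).2⟩, (by
        show ((α (α⁻¹ x) : P) : Ω) ∈ _
        rw [MulAut.apply_inv_self]; exact hPM x.2)⟩ :
        ↥((P.subgroupOf P).map (P.subtype.comp α.toMonoidHom))) = ⟨x, hPM x.2⟩ := by
      apply Subtype.ext
      show ((α (α⁻¹ x) : P) : Ω) = x
      rw [MulAut.apply_inv_self]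
    rw [e] at h1
    rw [h1]
    rfl
  have hTK : IsSylowIn p (autInducedBy S P ⊓ F'.autGroup P) (F'.autGroup P) :=
    hsyl.inf_normal _ hKle hAK
  intro α hα
  have hTK' : IsSylowIn p ((autInducedBy S P ⊓ F'.autGroup P).map (MulAut.conj α).toMonoidHom)
      (F'.autGroup P) := by
    refine ⟨?_, ?_⟩
    · rintro _ ⟨x, hx, rfl⟩
      exact (Subgroup.mem_normalizer_iff.mp (hAK hα) x).mp hx.2
    · rw [Cfsg.Agent.Lib.Lead.Conj.card_map_conj]; exact hTK.2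
  obtain ⟨n, hnK, e⟩ := hTK.conj hTK'
  have hnA : n ∈ F.autGroup P := hKle hnK
  have hνA : n⁻¹ * α ∈ F.autGroup P := Subgroup.mul_mem _ (Subgroup.inv_mem _ hnA) hα
  have hνnorm : ∀ β ∈ autInducedBy S P, (n⁻¹ * α) * β * (n⁻¹ * α)⁻¹ ∈ autInducedBy S P := by
    intro β hβ
    have h1 : α * β * α⁻¹ ∈
        (autInducedBy S P ⊓ F'.autGroup P).map (MulAut.conj α).toMonoidHom :=
      Cfsg.Agent.Lib.Lead.Conj.conj_mem_map_conj _ α ⟨hβ, hTle' hβ⟩
    rw [e, Cfsg.Agent.Lib.Lead.Conj.mem_map_conj] at h1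
    have e3 : (n⁻¹ * α) * β * (n⁻¹ * α)⁻¹ = n⁻¹ * (α * β * α⁻¹) * n := by group
    rw [e3]
    exact h1.1
  obtain ⟨β, hβ, hres⟩ := exists_extension_to_normalizer F hRec (n⁻¹ * α) hνA hνnorm
  have hNS : normalizerIn S P ≤ S := normalizerIn_le S P
  have hβ' := (mem_autGroup_iff F hNS β).mp hβ
  have hβF' := ih _ _ hβ' (card_lt_card_normalizerIn hS hPS hPeq)
  have hνK : n⁻¹ * α ∈ F'.autGroup P := by
    rw [mem_autGroup_iff F' hPS]
    have := fs_restrict_mem F' (le_normalizerIn hPS) hβF'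
    convert this using 1
    ext x
    show (((n⁻¹ * α) x : P) : Ω) = ((β (Subgroup.inclusion (le_normalizerIn hPS) x) : normalizerIn S P) : Ω)
    have := congrArg Subtype.val (hres x)
    exact this.symm
  have : α = n * (n⁻¹ * α) := by group
  rw [this]
  exact Subgroup.mul_mem _ hnK hνK

end Cfsg.Agent.Lib.Helper7
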