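import Mathlib
import Cfsg.Prelude.Def_FusionSystem
import Cfsg.Agent.Lib.Helper7.FusionInvTop
import Cfsg.Agent.Lib.Helper7.Large3
import Cfsg.Agent.Lib.Helper7.NormalizerConstrained

set_option autoImplicit false

namespace Cfsg.Agent.Lib.Helper7

open Cfsg Cfsg.FusionSystem

section general

variable {A B : Type*} [Group A] [Group B] {p : ℕ}

theorem pCoreOf_map_mulEquiv_le (f : A ≃* B) (H : Subgroup A) :
    (pCoreOf p H).map f.toMonoidHom ≤ pCoreOf p (H.map f.toMonoidHom) := by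
  apply le_pCoreOf (Subgroup.map_mono (pCoreOf_le H))
  · exact (Subgroup.map_mono (le_normalizer_pCoreOf H)).trans (Subgroup.le_normalizer_map _)
  · exact (pCoreOf_isPGroup H).map _

theorem pCoreOf_map_mulEquiv (f : A ≃* B) (H : Subgroup A) :
    (pCoreOf p H).map f.toMonoidHom = pCoreOf p (H.map f.toMonoidHom) := by
  apply le_antisymm (pCoreOf_map_mulEquiv_le f H)
  intro x hx
  have h1 := pCoreOf_map_mulEquiv_le (p := p) f.symm (H.map f.toMonoidHom)
  have h2 : (H.map f.toMonoidHom).map f.symm.toMonoidHom = H := by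
    rw [Subgroup.map_map]
    convert Subgroup.map_id H
    ext y
    simp
  rw [h2] at h1
  exact ⟨f.symm x, h1 ⟨x, hx, rfl⟩, by simp⟩

theorem pCoreOf_inf_le {X : Type*} [Group X] {C D : Subgroup X} (hDC : D ≤ C) :
    pCoreOf p C ⊓ D ≤ pCoreOf p D := by
  apply le_pCoreOf inf_le_right
  · intro d hd
    rw [Subgroup.mem_normalizer_iff]
    intro x
    have hdn := le_normalizer_pCoreOf (p := p) C (hDC hd)
    rw [Subgroup.mem_normalizer_iff] at hdn
    constructor
    · rintro ⟨hx1, hx2⟩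
      exact ⟨(hdn x).mp hx1, D.mul_mem (D.mul_mem hd hx2) (D.inv_mem hd)⟩
    · rintro ⟨hx1, hx2⟩
      refine ⟨(hdn x).mpr hx1, ?_⟩
      have := D.mul_mem (D.mul_mem (D.inv_mem hd) hx2) hd
      have e1 : d⁻¹ * (d * x * d⁻¹) * d = x := by group
      rw [e1] at this
      exact this
  · exact (pCoreOf_isPGroup C).to_le inf_le_left

end general

variable {Ω : Type*} [Group Ω] {S : Subgroup Ω}

/-- `p`-stability of a fusion system (tested on fully normalized subgroups). -/
def FusPStable (p : ℕ) (F : FusionSystem S) : Prop :=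
  ∀ Q : Subgroup Ω, F.IsFullyNormalized Q → ∀ χ : MulAut ↥Q, χ ∈ F.autGroup Q →
    (∀ a : ↥Q, (χ a⁻¹) * a * (χ a⁻¹) * (χ (χ a)) = 1) →
    χ ∈ ((Cfsg.pCore p ↥(F.autGroup Q)).map (F.autGroup Q).subtype : Subgroup (MulAut ↥Q))

theorem autGroup_map_congr (F : FusionSystem S) {Q Q' : Subgroup Ω} {ψ : Q →* Ω}
    (hψ : ψ ∈ F.Hom Q) (hr : ψ.range = Q') :
    (F.autGroup Q).map (MulAut.congr (isoOfRange ψ (F.injective_of_mem hψ) hr)).toMonoidHom =
      F.autGroup Q' := by
  set e := isoOfRange ψ (F.injective_of_mem hψ) hr with he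
  apply le_antisymm
  · rintro _ ⟨α, hα, rfl⟩
    exact autGroup_congr F hψ hr hα
  · intro β hβ
    refine ⟨(MulAut.congr e).symm β, ?_, MulEquiv.apply_symm_apply _ β⟩
    have hinv := fs_iso_symm_mem F hψ hr
    have hr' : (Q.subtype.comp e.symm.toMonoidHom).range = Q := by
      ext y
      constructor
      · rintro ⟨x, rfl⟩; exact (e.symm x).2
      · intro hy; exact ⟨e ⟨y, hy⟩, by simp⟩
    have h1 := autGroup_congr F hinv hr' hβ
    have he' : isoOfRange (Q.subtype.comp e.symm.toMonoidHom) (F.injective_of_mem hinv) hr' =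
        e.symm := MulEquiv.ext (fun y => Subtype.ext rfl)
    rw [he'] at h1
    exact h1

/-- A `p`-stable system satisfies the stability condition on every subgroup of `S`. -/
theorem mem_pCoreOf_autGroup_of_fusPStable [Finite S] (p : ℕ) (F : FusionSystem S)
    (hst : FusPStable p F) {Q : Subgroup Ω} (hQS : Q ≤ S) {χ : MulAut Q} (hχ : χ ∈ F.autGroup Q)
    (hq : ∀ a : ↥Q, (χ a⁻¹) * a * (χ a⁻¹) * (χ (χ a)) = 1) :
    χ ∈ pCoreOf p (F.autGroup Q) := by
  obtain ⟨Q', ⟨ψ, hψ, hr⟩, hFN⟩ := exists_isFullyNormalized_conj F hQS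
  set e := isoOfRange ψ (F.injective_of_mem hψ) hr with he
  have hmap := autGroup_map_congr F hψ hr
  rw [← he] at hmap
  have hχ' : MulAut.congr e χ ∈ F.autGroup Q' := autGroup_congr F hψ hr hχ
  have hq' : ∀ a' : Q', (MulAut.congr e χ a'⁻¹) * a' * (MulAut.congr e χ a'⁻¹) *
      (MulAut.congr e χ (MulAut.congr e χ a')) = 1 := by
    intro a'
    obtain ⟨a, rfl⟩ := e.surjective a'
    have h1 : ∀ b : Q, MulAut.congr e χ (e b) = e (χ b) := by
      intro b
      simp [MulAut.congr_apply]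
    rw [← map_inv, h1, h1, h1, ← map_mul, ← map_mul, ← map_mul, hq a, map_one]
  have h2 : MulAut.congr e χ ∈ pCoreOf p (F.autGroup Q') := hst Q' hFN _ hχ' hq'
  rw [← hmap, ← pCoreOf_map_mulEquiv] at h2
  obtain ⟨χ₀, hχ₀, he0⟩ := h2
  have := (MulAut.congr e).injective he0
  rw [← this]
  exact hχ₀


/-- A quadratic automorphism of a finite group `Q` has order dividing `|Q|`. -/
theorem pow_card_eq_one_of_quadratic {Q : Type*} [Group Q] [Finite Q] (χ : MulAut Q)
    (hq : ∀ a : Q, (χ a⁻¹) * a * (χ a⁻¹) * (χ (χ a)) = 1) : χ ^ (Nat.card Q) = 1 := by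
  have hfix : ∀ a, χ (a⁻¹ * χ a) = a⁻¹ * χ a := by
    intro a
    have h := hq a
    rw [map_inv] at h
    have h2 : χ (χ a) = χ a * a⁻¹ * χ a := by
      have := eq_inv_of_mul_eq_one_right h
      rw [this]; group
    rw [map_mul, map_inv, h2]
    group
  have hpow : ∀ (j : ℕ) (a : Q), (χ ^ j) a = a * (a⁻¹ * χ a) ^ j := by
    intro j
    induction j with
    | zero => intro a; simp
    | succ j ih =>
      intro a
      rw [pow_succ', MulAut.mul_apply, ih a, map_mul, map_pow, hfix a, pow_succ', ← mul_assoc,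
        ← mul_assoc, mul_inv_cancel, one_mul]
  ext a
  rw [hpow, pow_card_eq_one']
  simp

theorem mulAut_comm_of_isCyclic {Q : Type*} [Group Q] [IsCyclic Q] (α β : MulAut Q) :
    α * β = β * α := by
  apply (IsCyclic.mulAutMulEquiv Q).injective
  rw [map_mul, map_mul, mul_comm]

/-- The cyclic case: a quadratic automorphism of a cyclic `p`-subgroup lies in `O_p(Aut_F(Q))`. -/
theorem mem_pCoreOf_autGroup_of_isCyclic [Finite S] (p : ℕ) [Fact p.Prime] (hS : IsPGroup p S)
    (F : FusionSystem S) {Q : Subgroup Ω} (hQS : Q ≤ S) (hcyc : IsCyclic Q) {χ : MulAut Q}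
    (hχ : χ ∈ F.autGroup Q) (hq : ∀ a : ↥Q, (χ a⁻¹) * a * (χ a⁻¹) * (χ (χ a)) = 1) :
    χ ∈ pCoreOf p (F.autGroup Q) := by
  haveI := finite_of_le hQS
  obtain ⟨n, hn⟩ := IsPGroup.iff_card.mp (hS.to_le hQS)
  have hpow := pow_card_eq_one_of_quadratic χ hq
  rw [hn] at hpow
  have hle : Subgroup.zpowers χ ≤ pCoreOf p (F.autGroup Q) := by
    apply le_pCoreOf ((Subgroup.zpowers_le).mpr hχ)
    · intro α _
      rw [Subgroup.mem_normalizer_iff]
      intro x
      have : α * x * α⁻¹ = x := by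
        rw [mulAut_comm_of_isCyclic α x]; group
      rw [this]
    · exact isPGroup_zpowers_of_pow_eq_one χ n hpow
  exact hle (Subgroup.mem_zpowers χ)

/-- `Aut_N(Q) ≤ Aut_F(Q)` for a normalizer system `N`. -/
theorem autGroup_normalizerSystem_le (F : FusionSystem S) {R : Subgroup Ω}
    (N : FusionSystem (normalizerIn S R)) (hN : F.IsNormalizerSystem R N) {Q : Subgroup Ω}
    (hQN : Q ≤ normalizerIn S R) : N.autGroup Q ≤ F.autGroup Q := by
  intro α hα
  rw [mem_autGroup_iff F (hQN.trans inf_le_left)]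
  have := (mem_autGroup_iff N hQN α).mp hα
  rw [hN Q] at this
  exact this.1

theorem autGroup_normalizerSystem_self (F : FusionSystem S) {Q : Subgroup Ω} (hQS : Q ≤ S)
    (N : FusionSystem (normalizerIn S Q)) (hN : F.IsNormalizerSystem Q N) :
    N.autGroup Q = F.autGroup Q := by
  have hQN : Q ≤ normalizerIn S Q := le_normalizerIn hQS
  apply le_antisymm (autGroup_normalizerSystem_le F N hN hQN)
  intro α hα
  rw [mem_autGroup_iff N hQN, hN Q]
  have hα' := (mem_autGroup_iff F hQS α).mp hα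
  have hle : Q ⊔ Q ≤ Q := sup_le le_rfl le_rfl
  refine ⟨hα', hQN, fun x => hQN (α x).2,
    (Q.subtype.comp α.toMonoidHom).comp (Subgroup.inclusion hle), fs_restrict_mem F hle hα',
    fun x => rfl, ?_⟩
  ext y
  constructor
  · rintro ⟨r, -, rfl⟩
    exact (α _).2
  · intro hy
    refine ⟨Subgroup.inclusion le_sup_left (α⁻¹ ⟨y, hy⟩), Subgroup.mem_subgroupOf.mpr (α⁻¹ ⟨y, hy⟩).2,
      ?_⟩
    show ((α (α⁻¹ ⟨y, hy⟩) : Q) : Ω) = y
    rw [MulAut.apply_inv_self]

/-- S5247: `F` is `p`-stable iff the normalizer systems of non-cyclic fully normalized subgroups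
are. -/
theorem fusPStable_iff_normalizers_noncyclic [Finite S] (p : ℕ) [Fact p.Prime] (hS : IsPGroup p S)
    (F : FusionSystem S) :
    FusPStable p F ↔ ∀ R : Subgroup Ω, F.IsFullyNormalized R → ¬ IsCyclic ↥R →
      ∀ N : FusionSystem (normalizerIn S R), F.IsNormalizerSystem R N → FusPStable p N := by
  constructor
  · intro hst R _ _ N hN Q hQfn χ hχ hq
    have hQN : Q ≤ normalizerIn S R := hQfn.1
    have hQS : Q ≤ S := hQN.trans inf_le_left
    have hsub := autGroup_normalizerSystem_le F N hN hQN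
    have h1 := mem_pCoreOf_autGroup_of_fusPStable p F hst hQS (hsub hχ) hq
    exact pCoreOf_inf_le hsub ⟨h1, hχ⟩
  · intro h Q hQfn χ hχ hq
    have hQS := hQfn.1
    by_cases hcyc : IsCyclic Q
    · exact mem_pCoreOf_autGroup_of_isCyclic p hS F hQS hcyc hχ hq
    · obtain ⟨N, hN⟩ := exists_normalizerSystem F Q hQS
      have hst := h Q hQfn hcyc N hN
      have hQN : Q ≤ normalizerIn S Q := le_normalizerIn hQS
      have hfnN : N.IsFullyNormalized Q :=
        ⟨hQN, fun Q' hc => by rw [eq_of_isConj_normalizerSystem F N hN hc]⟩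
      have heq := autGroup_normalizerSystem_self F hQS N hN
      have h1 := hst Q hfnN χ (heq ▸ hχ) hq
      rw [heq] at h1
      exact h1

end Cfsg.Agent.Lib.Helper7
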