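import Mathlib
import Cfsg.Prelude.Def_FusionSystem
import Cfsg.Agent.Lib.Helper7.PStableFusion
import Cfsg.Agent.Lib.Helper7.FusionCentricSub
import Cfsg.Agent.Lib.Helper7.FusionEssential
import Cfsg.Agent.Lib.Helper7.KNormalizerSat

set_option autoImplicit false

namespace Cfsg.Agent.Lib.Helper7

open Cfsg Cfsg.FusionSystem

variable {Ω : Type*} [Group Ω] {S : Subgroup Ω}

/-- Every `F`-automorphism of `Q` lifts to an `F`-automorphism of `R`. -/
def LiftProp (F : FusionSystem S) (Q R : Subgroup Ω) (hQR : Q ≤ R) : Prop :=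
  ∀ α ∈ F.autGroup Q, ∃ β ∈ F.autGroup R,
    ∀ x : Q, ((β (Subgroup.inclusion hQR x) : R) : Ω) = ((α x : Q) : Ω)

/-- Membership in `O_p(Aut_F(Q))` is invariant under transport along an `F`-isomorphism. -/
theorem mem_pCoreOf_autGroup_congr (p : ℕ) (F : FusionSystem S) {Q Q' : Subgroup Ω} {ψ : Q →* Ω}
    (hψ : ψ ∈ F.Hom Q) (hr : ψ.range = Q') (χ : MulAut Q) :
    MulAut.congr (isoOfRange ψ (F.injective_of_mem hψ) hr) χ ∈ pCoreOf p (F.autGroup Q') ↔
      χ ∈ pCoreOf p (F.autGroup Q) := by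
  rw [← autGroup_map_congr F hψ hr, ← pCoreOf_map_mulEquiv]
  constructor
  · rintro ⟨χ₀, hχ₀, he0⟩
    have := (MulAut.congr (isoOfRange ψ (F.injective_of_mem hψ) hr)).injective he0
    rw [← this]
    exact hχ₀
  · intro h
    exact ⟨χ, h, rfl⟩

theorem quadratic_congr {Q Q' : Type*} [Group Q] [Group Q'] (e : Q ≃* Q') (χ : MulAut Q)
    (hq : ∀ a : Q, (χ a⁻¹) * a * (χ a⁻¹) * (χ (χ a)) = 1) :
    ∀ a' : Q', (MulAut.congr e χ a'⁻¹) * a' * (MulAut.congr e χ a'⁻¹) *
      (MulAut.congr e χ (MulAut.congr e χ a')) = 1 := by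
  intro a'
  obtain ⟨a, rfl⟩ := e.surjective a'
  have h1 : ∀ b : Q, MulAut.congr e χ (e b) = e (χ b) := by
    intro b
    show e (χ (e.symm (e b))) = e (χ b)
    rw [MulEquiv.symm_apply_apply]
  rw [← map_inv, h1, h1, h1, ← map_mul, ← map_mul, ← map_mul, hq a, map_one]

/-- Transport of the lifting property along an `F`-isomorphism of `R`. -/
theorem liftProp_congr (F : FusionSystem S) {Q R R' : Subgroup Ω} (hQR : Q ≤ R) {φ : R →* Ω}
    (hφ : φ ∈ F.Hom R) (hr : φ.range = R') (h : LiftProp F Q R hQR) :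
    LiftProp F ((Q.subgroupOf R).map φ) R'
      (by rw [← hr]; exact Subgroup.map_le_range _ _) := by
  have hψ := fs_restrict_mem F hQR hφ
  have hrψ : (φ.comp (Subgroup.inclusion hQR)).range = (Q.subgroupOf R).map φ :=
    range_comp_inclusion hQR φ
  set e := isoOfRange φ (F.injective_of_mem hφ) hr with he
  set eQ := isoOfRange (φ.comp (Subgroup.inclusion hQR)) (F.injective_of_mem hψ) hrψ with heQ
  intro α' hα'
  have hmap := autGroup_map_congr F hψ hrψ
  rw [← heQ] at hmap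
  rw [← hmap] at hα'
  obtain ⟨α, hα, rfl⟩ := hα'
  obtain ⟨β, hβ, hβα⟩ := h α hα
  refine ⟨MulAut.congr e β, autGroup_congr F hφ hr hβ, fun y => ?_⟩
  obtain ⟨a, rfl⟩ := eQ.surjective y
  have h1 : (MulAut.congr eQ).toMonoidHom α (eQ a) = eQ (α a) := by
    show eQ (α (eQ.symm (eQ a))) = eQ (α a)
    rw [MulEquiv.symm_apply_apply]
  rw [h1]
  have h2 : Subgroup.inclusion (by rw [← hr]; exact Subgroup.map_le_range _ _ :
      (Q.subgroupOf R).map φ ≤ R') (eQ a) = e (Subgroup.inclusion hQR a) := Subtype.ext rfl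
  rw [h2]
  show ((e (β (e.symm (e (Subgroup.inclusion hQR a)))) : R') : Ω) = _
  rw [MulEquiv.symm_apply_apply, isoOfRange_coe, isoOfRange_coe]
  show φ (β (Subgroup.inclusion hQR a)) = φ (Subgroup.inclusion hQR (α a))
  congr 1
  exact Subtype.ext (hβα a)


/-- For a fully centralized `Q`, the subgroup `Q C_S(Q)` is centric. -/
theorem isCentric_sup_centralizerIn [Finite S] (F : FusionSystem S) {Q : Subgroup Ω}
    (hQ : F.IsFullyCentralized Q) : F.IsCentric (Q ⊔ centralizerIn S Q) := by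
  have hQS := hQ.1
  have hCS : centralizerIn S Q ≤ S := inf_le_left
  have hR₀S : Q ⊔ centralizerIn S Q ≤ S := sup_le hQS hCS
  refine ⟨hR₀S, ?_⟩
  rintro R₁ ⟨φ, hφ, rfl⟩
  have hc := isConj_map_of_le F (le_sup_left : Q ≤ Q ⊔ centralizerIn S Q) hφ
  have hcard := hQ.2 _ hc
  set Q₁ := (Q.subgroupOf (Q ⊔ centralizerIn S Q)).map φ with hQ₁
  have hmem : ∀ z : centralizerIn S Q, φ ⟨z, Subgroup.mem_sup_right z.2⟩ ∈ centralizerIn S Q₁ := by
    intro z
    refine ⟨(F.le_of_mem hφ).2 _, ?_⟩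
    show _ ∈ Subgroup.centralizer (Q₁ : Set Ω)
    rw [Subgroup.mem_centralizer_iff]
    rintro _ ⟨q, hq, rfl⟩
    rw [← map_mul, ← map_mul]
    congr 1
    apply Subtype.ext
    exact (Subgroup.mem_centralizer_iff.mp z.2.2) q (Subgroup.mem_subgroupOf.mp hq)
  haveI : Finite (centralizerIn S Q₁) := finite_of_le (inf_le_left : centralizerIn S Q₁ ≤ S)
  let f : centralizerIn S Q → centralizerIn S Q₁ := fun z => ⟨_, hmem z⟩
  have hfinj : Function.Injective f := by
    intro a b hab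
    have h1 : φ ⟨a, Subgroup.mem_sup_right a.2⟩ = φ ⟨b, Subgroup.mem_sup_right b.2⟩ :=
      congrArg Subtype.val hab
    have h2 := F.injective_of_mem hφ h1
    exact Subtype.ext (congrArg (fun z : ↥(Q ⊔ centralizerIn S Q) => (z : Ω)) h2)
  have hfbij := hfinj.bijective_of_nat_card_le hcard
  intro c hc'
  have hcQ₁ : c ∈ centralizerIn S Q₁ := by
    refine ⟨hc'.1, ?_⟩
    show c ∈ Subgroup.centralizer _
    rw [Subgroup.mem_centralizer_iff]
    intro y hy
    exact (Subgroup.mem_centralizer_iff.mp hc'.2) y (Subgroup.map_le_range _ _ hy)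
  obtain ⟨z, hz⟩ := hfbij.2 ⟨c, hcQ₁⟩
  have : φ ⟨z, Subgroup.mem_sup_right z.2⟩ = c := congrArg Subtype.val hz
  rw [← this]
  exact ⟨_, rfl⟩

/-- For a receptive `Q`, every `F`-automorphism of `Q` lifts to `Q C_S(Q)`. -/
theorem liftProp_sup_centralizerIn [Finite S] (F : FusionSystem S) {Q : Subgroup Ω}
    (hRec : F.IsReceptive Q) : LiftProp F Q (Q ⊔ centralizerIn S Q) le_sup_left := by
  have hQS := hRec.1
  have hCS : centralizerIn S Q ≤ S := inf_le_left
  have hR₀S : Q ⊔ centralizerIn S Q ≤ S := sup_le hQS hCS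
  intro α hα
  have hφ : Q.subtype.comp α.toMonoidHom ∈ F.Hom Q := (mem_autGroup_iff F hQS α).mp hα
  have hr : (Q.subtype.comp α.toMonoidHom).range = Q := by
    ext y
    constructor
    · rintro ⟨x, rfl⟩; exact (α x).2
    · intro hy
      exact ⟨α⁻¹ ⟨y, hy⟩, by simp⟩
  obtain ⟨ψ, hψ, hext⟩ := hRec.2 Q _ hφ hr
  have hNE : Q ⊔ centralizerIn S Q ≤ extender S Q (Q.subtype.comp α.toMonoidHom) :=
    sup_le (le_extender F hφ) (centralizerIn_le_extender S Q _)
  have hβ₀ := fs_restrict_mem F hNE hψ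
  set β₀ := ψ.comp (Subgroup.inclusion hNE) with hβ₀def
  have hagree : ∀ x : Q, β₀ (Subgroup.inclusion le_sup_left x) = ((α x : Q) : Ω) := by
    intro x
    exact hext x x.2 (hNE (Subgroup.mem_sup_left x.2))
  have hmemQ : (Q.subgroupOf (Q ⊔ centralizerIn S Q)) ≤ (Q ⊔ centralizerIn S Q).comap β₀ := by
    intro n hn
    have hnQ : (n : Ω) ∈ Q := Subgroup.mem_subgroupOf.mp hn
    have : β₀ n = ((α ⟨n, hnQ⟩ : Q) : Ω) := hagree ⟨n, hnQ⟩
    rw [Subgroup.mem_comap, this]
    exact Subgroup.mem_sup_left (α _).2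
  have hmemC : ((centralizerIn S Q).subgroupOf (Q ⊔ centralizerIn S Q)) ≤
      (Q ⊔ centralizerIn S Q).comap β₀ := by
    intro n hn
    have hnC : (n : Ω) ∈ centralizerIn S Q := Subgroup.mem_subgroupOf.mp hn
    rw [Subgroup.mem_comap]
    apply Subgroup.mem_sup_right
    refine ⟨(F.le_of_mem hβ₀).2 n, ?_⟩
    show _ ∈ Subgroup.centralizer (Q : Set Ω)
    rw [Subgroup.mem_centralizer_iff]
    intro y hy
    have hy' : y = β₀ (Subgroup.inclusion le_sup_left (α⁻¹ ⟨y, hy⟩)) := by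
      rw [hagree]; simp
    rw [hy', ← map_mul, ← map_mul]
    congr 1
    apply Subtype.ext
    exact (Subgroup.mem_centralizer_iff.mp hnC.2) _ (α⁻¹ ⟨y, hy⟩).2
  have hmem : ∀ n : ↥(Q ⊔ centralizerIn S Q), β₀ n ∈ Q ⊔ centralizerIn S Q := by
    intro n
    have h1 : (Q.subgroupOf (Q ⊔ centralizerIn S Q)) ⊔
        ((centralizerIn S Q).subgroupOf (Q ⊔ centralizerIn S Q)) ≤
        (Q ⊔ centralizerIn S Q).comap β₀ := sup_le hmemQ hmemC
    rw [← Subgroup.subgroupOf_sup le_sup_left le_sup_right, Subgroup.subgroupOf_self] at h1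
    exact h1 (Subgroup.mem_top n)
  haveI : Finite ↥(Q ⊔ centralizerIn S Q) := finite_of_le hR₀S
  have hinj : Function.Injective (β₀.codRestrict (Q ⊔ centralizerIn S Q) hmem) := by
    intro a b hab
    exact F.injective_of_mem hβ₀ (congrArg Subtype.val hab)
  have hbij : Function.Bijective (β₀.codRestrict (Q ⊔ centralizerIn S Q) hmem) :=
    ⟨hinj, Finite.injective_iff_surjective.mp hinj⟩
  refine ⟨MulEquiv.ofBijective (β₀.codRestrict (Q ⊔ centralizerIn S Q) hmem) hbij, ?_, fun x => ?_⟩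
  · apply (mem_autGroup_iff F hR₀S _).mpr
    convert hβ₀ using 1
    ext x
    rfl
  · exact hagree x


theorem le_kNorm_of_inn_le {R : Subgroup Ω} (hRS : R ≤ S) (O : Subgroup (MulAut R))
    (hInn : Inn R ≤ O) : R ≤ kNorm S O R.subtype := by
  intro r hr
  refine ⟨hRS hr, MulAut.conj ⟨r, hr⟩, hInn ⟨⟨r, hr⟩, rfl⟩, fun u => ?_⟩
  simp [MulAut.conj_apply]

/-- An `F`-automorphism of a receptive `R` normalizing `O ≤ Aut_S(R)` extends to `N_S^O(R)`. -/
theorem exists_extension_kNorm [Finite S] (F : FusionSystem S) {R : Subgroup Ω}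
    (hRec : F.IsReceptive R) (O : Subgroup (MulAut R)) (hOS : O ≤ autInducedBy S R)
    (hInn : Inn R ≤ O) (β : MulAut R) (hβ : β ∈ F.autGroup R)
    (hnorm : ∀ l ∈ O, β * l * β⁻¹ ∈ O) :
    ∃ β' ∈ F.autGroup (kNorm S O R.subtype), ∀ x : R,
      ((β' (Subgroup.inclusion (le_kNorm_of_inn_le hRec.1 O hInn) x) : kNorm S O R.subtype) : Ω) =
        β x := by
  have hRS := hRec.1
  have hRK : R ≤ kNorm S O R.subtype := le_kNorm_of_inn_le hRS O hInn
  have hKS : kNorm S O R.subtype ≤ S := kNorm_le O R.subtype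
  have hφ : R.subtype.comp β.toMonoidHom ∈ F.Hom R := (mem_autGroup_iff F hRS β).mp hβ
  have hr : (R.subtype.comp β.toMonoidHom).range = R := by
    ext y
    constructor
    · rintro ⟨x, rfl⟩; exact (β x).2
    · intro hy
      exact ⟨β⁻¹ ⟨y, hy⟩, by simp⟩
  obtain ⟨ψ, hψ, hext⟩ := hRec.2 R _ hφ hr
  have hKE : kNorm S O R.subtype ≤ extender S R (R.subtype.comp β.toMonoidHom) := by
    intro g hg
    have hgN : g ∈ Subgroup.normalizer (R : Set Ω) := kNorm_subtype_le_normalizer O hg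
    obtain ⟨hgS, l, hl, hle⟩ := hg
    apply mem_extender_of_mem hgS hgN
    obtain ⟨h, hhS, hh⟩ := (mem_autInducedBy_iff S R _).mp (hOS (hnorm l hl))
    refine ⟨h, hhS, fun x hx => ?_⟩
    have e1 : (⟨g * (x : Ω) * g⁻¹, hx⟩ : R) = l x := Subtype.ext (hle x).symm
    have e2 := hh (β x)
    show ((β ⟨g * (x : Ω) * g⁻¹, hx⟩ : R) : Ω) = h * ((β x : R) : Ω) * h⁻¹
    rw [← e2, e1]
    simp only [MulAut.mul_apply, MulAut.inv_apply_self]
  have hβ₀ := fs_restrict_mem F hKE hψ
  set β₀ := ψ.comp (Subgroup.inclusion hKE) with hβ₀def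
  have hagree : ∀ x : R, β₀ (Subgroup.inclusion hRK x) = ((β x : R) : Ω) := by
    intro x
    exact hext x x.2 (hKE (hRK x.2))
  have hmem : ∀ n : kNorm S O R.subtype, β₀ n ∈ kNorm S O R.subtype := by
    intro n
    obtain ⟨-, l, hl, hle⟩ := n.2
    refine ⟨(F.le_of_mem hβ₀).2 n, β * l * β⁻¹, hnorm l hl, fun u => ?_⟩
    show (((β * l * β⁻¹) u : R) : Ω) = β₀ n * (u : Ω) * (β₀ n)⁻¹
    have hu : (u : Ω) = β₀ (Subgroup.inclusion hRK (β⁻¹ u)) := by
      rw [hagree]; simp
    have e1 : β₀ n * β₀ (Subgroup.inclusion hRK (β⁻¹ u)) * (β₀ n)⁻¹ =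
        β₀ (Subgroup.inclusion hRK (l (β⁻¹ u))) := by
      rw [← map_inv, ← map_mul, ← map_mul]
      congr 1
      apply Subtype.ext
      exact (hle (β⁻¹ u)).symm
    conv_rhs => rw [hu]
    rw [e1, hagree]
    rfl
  haveI : Finite ↥(kNorm S O R.subtype) := finite_of_le hKS
  have hinj : Function.Injective (β₀.codRestrict (kNorm S O R.subtype) hmem) := by
    intro a b hab
    exact F.injective_of_mem hβ₀ (congrArg Subtype.val hab)
  have hbij : Function.Bijective (β₀.codRestrict (kNorm S O R.subtype) hmem) :=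
    ⟨hinj, Finite.injective_iff_surjective.mp hinj⟩
  refine ⟨MulEquiv.ofBijective (β₀.codRestrict (kNorm S O R.subtype) hmem) hbij, ?_, fun x => ?_⟩
  · apply (mem_autGroup_iff F hKS _).mpr
    convert hβ₀ using 1
    ext x
    rfl
  · exact hagree x


theorem pCoreOf_autGroup_le_autInducedBy [Finite S] (p : ℕ) [Fact p.Prime] (F : FusionSystem S)
    {R : Subgroup Ω} (hFA : F.IsFullyAutomized p R) :
    pCoreOf p (F.autGroup R) ≤ autInducedBy S R := by
  obtain ⟨hRS, Rs, hRs⟩ := hFA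
  rintro _ ⟨a, ha, rfl⟩
  have h1 : a ∈ (Rs : Subgroup (F.autGroup R)) := pCore_le_sylow Rs ha
  rw [hRs] at h1
  exact Subgroup.mem_subgroupOf.mp h1

theorem inn_le_pCoreOf_autGroup (p : ℕ) (hS : IsPGroup p S) (F : FusionSystem S)
    {R : Subgroup Ω} (hRS : R ≤ S) : Inn R ≤ pCoreOf p (F.autGroup R) := by
  apply le_pCoreOf (inn_le_autGroup F hRS)
  · intro a _
    rw [Subgroup.normalizer_eq_top]
    exact Subgroup.mem_top _
  · exact isPGroup_inn (hS.to_le hRS)

/-- One step of the induction, for a fully normalized centric `R`. -/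
theorem fusPStable_step [Finite S] (p : ℕ) [Fact p.Prime] (hS : IsPGroup p S)
    (F : FusionSystem S) (hF : F.IsSaturated p)
    (hfrc : ∀ R : Subgroup Ω, F.IsFullyNormalized R → F.IsCentric R → F.IsRadical p R →
      ∀ N : FusionSystem (normalizerIn S R), F.IsNormalizerSystem R N → FusPStable p N)
    {Q R : Subgroup Ω} (hQR : Q ≤ R) (hFN : F.IsFullyNormalized R) (hcen : F.IsCentric R)
    (hlift : LiftProp F Q R hQR)
    (ih : ∀ (R' : Subgroup Ω) (hQR' : Q ≤ R'), Nat.card R < Nat.card R' → F.IsCentric R' →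
      LiftProp F Q R' hQR' → ∀ χ ∈ F.autGroup Q,
        (∀ a : ↥Q, (χ a⁻¹) * a * (χ a⁻¹) * (χ (χ a)) = 1) → χ ∈ pCoreOf p (F.autGroup Q))
    {χ : MulAut Q} (hχ : χ ∈ F.autGroup Q)
    (hq : ∀ a : ↥Q, (χ a⁻¹) * a * (χ a⁻¹) * (χ (χ a)) = 1) :
    χ ∈ pCoreOf p (F.autGroup Q) := by
  have hRS := hFN.1
  have hQS := hQR.trans hRS
  by_cases hrad : F.IsRadical p R
  · obtain ⟨N, hN⟩ := exists_normalizerSystem F R hRS
    have hst := hfrc R hFN hcen hrad N hN
    have hRN : R ≤ normalizerIn S R := le_normalizerIn hRS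
    have hQN : Q ≤ normalizerIn S R := hQR.trans hRN
    have heq : N.autGroup Q = F.autGroup Q := by
      apply le_antisymm (autGroup_normalizerSystem_le F N hN hQN)
      intro α hα
      obtain ⟨β, hβ, hβα⟩ := hlift α hα
      rw [mem_autGroup_iff N hQN, hN Q]
      have hα' := (mem_autGroup_iff F hQS α).mp hα
      have hβ' := (mem_autGroup_iff F hRS β).mp hβ
      have hle : Q ⊔ R ≤ R := sup_le hQR le_rfl
      refine ⟨hα', hQN, fun x => hQN (α x).2,
        (R.subtype.comp β.toMonoidHom).comp (Subgroup.inclusion hle), fs_restrict_mem F hle hβ',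
        fun x => hβα x, ?_⟩
      ext y
      constructor
      · rintro ⟨r, -, rfl⟩
        exact (β _).2
      · intro hy
        refine ⟨Subgroup.inclusion le_sup_right (β⁻¹ ⟨y, hy⟩),
          Subgroup.mem_subgroupOf.mpr (β⁻¹ ⟨y, hy⟩).2, ?_⟩
        show ((β (β⁻¹ ⟨y, hy⟩) : R) : Ω) = y
        rw [MulAut.apply_inv_self]
    haveI : Finite ↥(normalizerIn S R) := finite_of_le (normalizerIn_le S R)
    have h1 := mem_pCoreOf_autGroup_of_fusPStable p N hst hQN (heq ▸ hχ) hq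
    rw [heq] at h1
    exact h1
  · obtain ⟨R₀, hcR, hFAR, hRecR⟩ := hF R hRS
    obtain ⟨hFA, hRec⟩ := isFullyAutomized_isReceptive_of_isFullyNormalized p hS F hFN hFAR hRecR hcR
    obtain ⟨O, hO⟩ : ∃ O, O = pCoreOf p (F.autGroup R) := ⟨_, rfl⟩
    have hInn : Inn R ≤ O := hO ▸ inn_le_pCoreOf_autGroup p hS F hRS
    have hOS : O ≤ autInducedBy S R := hO ▸ pCoreOf_autGroup_le_autInducedBy p F hFA
    have hne : O ≠ Inn R := fun h => hrad ⟨hRS, by rw [← h, hO]; rfl⟩
    obtain ⟨γ, hγO, hγI⟩ := SetLike.exists_of_lt (lt_of_le_of_ne hInn (Ne.symm hne))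
    obtain ⟨s, hsS, hs⟩ := (mem_autInducedBy_iff S R γ).mp (hOS hγO)
    have hRR' : R ≤ kNorm S O R.subtype := le_kNorm_of_inn_le hRS O hInn
    have hR'S : kNorm S O R.subtype ≤ S := kNorm_le O R.subtype
    have hsR' : s ∈ kNorm S O R.subtype := ⟨hsS, γ, hγO, fun u => hs u⟩
    have hsR : s ∉ R := by
      intro hsR
      apply hγI
      refine ⟨⟨s, hsR⟩, ?_⟩
      ext u
      rw [hs u]
      simp [MulAut.conj_apply]
    have hcard : Nat.card R < Nat.card (kNorm S O R.subtype) := by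
      haveI := finite_of_le hR'S
      by_contra hge
      push Not at hge
      have := Subgroup.eq_of_le_of_card_ge hRR' hge
      exact hsR (this ▸ hsR')
    have hlift' : LiftProp F Q (kNorm S O R.subtype) (hQR.trans hRR') := by
      intro α hα
      obtain ⟨β, hβ, hβα⟩ := hlift α hα
      have hnorm : ∀ l ∈ O, β * l * β⁻¹ ∈ O := by
        intro l hl
        rw [hO] at hl ⊢
        have := le_normalizer_pCoreOf (p := p) (F.autGroup R) hβ
        exact (Subgroup.mem_normalizer_iff.mp this l).mp hl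
      obtain ⟨β', hβ', hβ'β⟩ := exists_extension_kNorm F hRec O hOS hInn β hβ hnorm
      refine ⟨β', hβ', fun x => ?_⟩
      have := hβ'β (Subgroup.inclusion hQR x)
      rw [← hβα x]
      exact this
    exact ih _ (hQR.trans hRR') hcard (isCentric_of_le F hcen hRR' hR'S) hlift' χ hχ hq


/-- If the normalizer systems of all fully normalized centric radical subgroups are `p`-stable,
then so is `F`. -/
theorem fusPStable_of_frc [Finite S] (p : ℕ) [Fact p.Prime] (hS : IsPGroup p S)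
    (F : FusionSystem S) (hF : F.IsSaturated p)
    (hfrc : ∀ R : Subgroup Ω, F.IsFullyNormalized R → F.IsCentric R → F.IsRadical p R →
      ∀ N : FusionSystem (normalizerIn S R), F.IsNormalizerSystem R N → FusPStable p N) :
    FusPStable p F := by
  have H : ∀ n : ℕ, ∀ (Q R : Subgroup Ω) (hQR : Q ≤ R), Nat.card S - Nat.card R = n →
      F.IsCentric R → LiftProp F Q R hQR → ∀ χ ∈ F.autGroup Q,
      (∀ a : ↥Q, (χ a⁻¹) * a * (χ a⁻¹) * (χ (χ a)) = 1) → χ ∈ pCoreOf p (F.autGroup Q) := by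
    intro n
    induction n using Nat.strong_induction_on with
    | _ n IH =>
      intro Q R hQR hn hcen hlift χ hχ hq
      have hRS := hcen.1
      obtain ⟨R₁, ⟨φ, hφ, hr⟩, hFN⟩ := exists_isFullyNormalized_conj F hRS
      have hψ := fs_restrict_mem F hQR hφ
      have hrψ := range_comp_inclusion hQR φ
      have hQ₁R₁ : (Q.subgroupOf R).map φ ≤ R₁ := by
        rw [← hr]; exact Subgroup.map_le_range _ _
      have hlift₁ := liftProp_congr F hQR hφ hr hlift
      have hcen₁ := isCentric_of_isConj F hcen ⟨φ, hφ, hr⟩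
      have hcard : Nat.card R = Nat.card R₁ := card_eq_of_isConj F ⟨φ, hφ, hr⟩
      have hχ₁ := autGroup_congr F hψ hrψ hχ
      have hq₁ := quadratic_congr (isoOfRange _ (F.injective_of_mem hψ) hrψ) χ hq
      have key := fusPStable_step p hS F hF hfrc hQ₁R₁ hFN hcen₁ hlift₁
        (fun R' hQR' hlt hcen' hlift' χ' hχ' hq' => by
          have hR'S := hcen'.1
          have h1 : Nat.card R' ≤ Nat.card S := Subgroup.card_le_of_le hR'S
          have h2 : Nat.card R ≤ Nat.card S := Subgroup.card_le_of_le hRS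
          exact IH (Nat.card S - Nat.card R') (by omega) _ R' hQR' rfl hcen' hlift' χ' hχ' hq')
        hχ₁ hq₁
      exact (mem_pCoreOf_autGroup_congr p F hψ hrψ χ).mp key
  intro Q hQfn χ hχ hq
  have hQS := hQfn.1
  obtain ⟨Q₀, hcQ, hFAQ, hRecQ⟩ := hF Q hQS
  obtain ⟨hFA, hRec⟩ := isFullyAutomized_isReceptive_of_isFullyNormalized p hS F hQfn hFAQ hRecQ hcQ
  have hFC := isFullyCentralized_of_isReceptive F Q hRec
  exact H _ Q (Q ⊔ centralizerIn S Q) le_sup_left rfl (isCentric_sup_centralizerIn F hFC)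
    (liftProp_sup_centralizerIn F hRec) χ hχ hq

/-- S5281: `F` is `p`-stable iff the normalizer systems of its fully normalized centric radical
subgroups are. -/
theorem fusPStable_iff_normalizers_frc [Finite S] (p : ℕ) [Fact p.Prime] (hS : IsPGroup p S)
    (F : FusionSystem S) (hF : F.IsSaturated p) :
    FusPStable p F ↔ ∀ R : Subgroup Ω, F.IsFullyNormalized R → F.IsCentric R → F.IsRadical p R →
      ∀ N : FusionSystem (normalizerIn S R), F.IsNormalizerSystem R N → FusPStable p N := by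
  constructor
  · intro hst R _ _ _ N hN Q hQfn χ hχ hq
    have hQN : Q ≤ normalizerIn S R := hQfn.1
    have hQS : Q ≤ S := hQN.trans inf_le_left
    have hsub := autGroup_normalizerSystem_le F N hN hQN
    have h1 := mem_pCoreOf_autGroup_of_fusPStable p F hst hQS (hsub hχ) hq
    exact pCoreOf_inf_le hsub ⟨h1, hχ⟩
  · exact fusPStable_of_frc p hS F hF

end Cfsg.Agent.Lib.Helper7
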