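import Mathlib
import Cfsg.Prelude.Def_FusionSystem
import Cfsg.Agent.Lib.Helper7.Alperin3
import Cfsg.Agent.Lib.Helper7.PStableFrc

set_option autoImplicit false

namespace Cfsg.Agent.Lib.Helper7.WCtl

open Cfsg Cfsg.FusionSystem Cfsg.Agent.Lib.Helper7

variable {Ω : Type*} [Group Ω] {S : Subgroup Ω}

/-- the maps of `F` which, on sources of order `> n`, fix `z` and send only `z` to `z` -/
def fixSys [Finite S] (F : FusionSystem S) (z : Ω) (hz : ∀ g ∈ S, g * z * g⁻¹ = z) (n : ℕ) :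
    FusionSystem S where
  Hom P := {φ | φ ∈ F.Hom P ∧ (n < Nat.card P → ∀ x : P, φ x = z ↔ (x : Ω) = z)}
  le_of_mem h := F.le_of_mem h.1
  injective_of_mem h := F.injective_of_mem h.1
  conj_mem := by
    intro P g hP hg
    refine ⟨F.conj_mem hP hg, fun _ x => ?_⟩
    show g * (x : Ω) * g⁻¹ = z ↔ (x : Ω) = z
    constructor
    · intro h
      have h2 : g * (x : Ω) * g⁻¹ = g * z * g⁻¹ := by rw [h, hz g hg]
      simpa using h2
    · intro h
      rw [h, hz g hg]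
  comp_mem := by
    intro P Q φ ψ hφ hψ h
    refine ⟨F.comp_mem hφ.1 hψ.1 h, fun hn x => ?_⟩
    have hQS : Q ≤ S := (F.le_of_mem hψ.1).1
    have := finite_of_le hQS
    have hinj : Function.Injective (φ.codRestrict Q h) := by
      intro a b hab
      exact F.injective_of_mem hφ.1 (congrArg Subtype.val hab)
    have hcard : Nat.card P ≤ Nat.card Q := Nat.card_le_card_of_injective _ hinj
    have h1 := hψ.2 (lt_of_lt_of_le hn hcard) (φ.codRestrict Q h x)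
    have h2 := hφ.2 hn x
    show ψ (φ.codRestrict Q h x) = z ↔ (x : Ω) = z
    rw [h1]
    exact h2
  inv_mem := by
    intro P φ hφ
    obtain ⟨ψ, hψ, hinv⟩ := F.inv_mem hφ.1
    refine ⟨ψ, ⟨hψ, fun hn y => ?_⟩, hinv⟩
    have hcard : Nat.card φ.range = Nat.card P :=
      (Nat.card_congr (Equiv.ofInjective φ (F.injective_of_mem hφ.1))).symm
    rw [hcard] at hn
    obtain ⟨y, x, rfl⟩ := y
    rw [hinv x]
    exact (hφ.2 hn x).symm

theorem fixSys_le [Finite S] (F : FusionSystem S) (z : Ω) (hz : ∀ g ∈ S, g * z * g⁻¹ = z) (n : ℕ) :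
    fixSys F z hz n ≤ F := fun _ _ h => h.1

/-- `z` lies in `X` and is moved by some `F`-automorphism of `X` -/
def Moves (F : FusionSystem S) (z : Ω) (X : Subgroup Ω) : Prop :=
  ∃ (hzX : z ∈ X) (α : MulAut X), α ∈ F.autGroup X ∧ α ⟨z, hzX⟩ ≠ ⟨z, hzX⟩

theorem exists_moves_of_not_le [Finite S] (p : ℕ) [Fact p.Prime] (hS : IsPGroup p S)
    (F : FusionSystem S) (hF : F.IsSaturated p) (z : Ω) (hz : ∀ g ∈ S, g * z * g⁻¹ = z) (n : ℕ)
    (h : ¬ F ≤ fixSys F z hz n) :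
    ∃ P, (P = S ∨ F.IsEssential p P) ∧ n < Nat.card P ∧ Moves F z P := by
  by_contra hcon
  apply h
  apply alperin_goldschmidt p hS F hF
  intro P hP α hα
  have hPS : P ≤ S := by
    rcases hP with rfl | hP
    · exact le_rfl
    · exact hP.1.1
  rw [mem_autGroup_iff _ hPS]
  refine ⟨(mem_autGroup_iff F hPS α).mp hα, fun hn x => ?_⟩
  by_contra hx
  apply hcon
  refine ⟨P, hP, hn, ?_⟩
  show ∃ (hzX : z ∈ P) (α : MulAut P), α ∈ F.autGroup P ∧ α ⟨z, hzX⟩ ≠ ⟨z, hzX⟩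
  have hx' : ¬ (((α x : P) : Ω) = z ↔ (x : Ω) = z) := hx
  by_cases h1 : ((α x : P) : Ω) = z
  · have hxz : (x : Ω) ≠ z := fun h2 => hx' ⟨fun _ => h2, fun _ => h1⟩
    have hzP : z ∈ P := h1 ▸ (α x).2
    refine ⟨hzP, α, hα, fun h3 => ?_⟩
    have h4 : α x = ⟨z, hzP⟩ := Subtype.ext h1
    have h5 : x = ⟨z, hzP⟩ := α.injective (h4.trans h3.symm)
    exact hxz (congrArg Subtype.val h5)
  · have hxz : (x : Ω) = z := by
      by_contra h2
      exact hx' ⟨fun h3 => absurd h3 h1, fun h3 => absurd h3 h2⟩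
    have hzP : z ∈ P := hxz ▸ x.2
    refine ⟨hzP, α, hα, fun h3 => ?_⟩
    have h5 : x = ⟨z, hzP⟩ := Subtype.ext hxz
    rw [h5] at h1
    exact h1 (congrArg Subtype.val h3)

/-- transport of `Moves` along a map of the system fixing `z` -/
theorem moves_of_hom (F : FusionSystem S) {z : Ω} {X N : Subgroup Ω} (hXN : X ≤ N) {χ : N →* Ω}
    (hχ : χ ∈ F.Hom N) (hzN : z ∈ N) (hχz : χ ⟨z, hzN⟩ = z) (hm : Moves F z X) :
    Moves F z ((X.subgroupOf N).map χ) := by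
  obtain ⟨hzX, α, hα, hne⟩ := hm
  have hψ := fs_restrict_mem F hXN hχ
  have hr : (χ.comp (Subgroup.inclusion hXN)).range = (X.subgroupOf N).map χ :=
    range_comp_inclusion hXN χ
  set e := isoOfRange (χ.comp (Subgroup.inclusion hXN)) (F.injective_of_mem hψ) hr with he
  have hez : ((e ⟨z, hzX⟩ : ↥((X.subgroupOf N).map χ)) : Ω) = z := hχz
  have hz' : z ∈ (X.subgroupOf N).map χ := hez ▸ (e ⟨z, hzX⟩).2
  have hez' : e ⟨z, hzX⟩ = ⟨z, hz'⟩ := Subtype.ext hez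
  refine ⟨hz', MulAut.congr e α, autGroup_congr F hψ hr hα, fun h3 => ?_⟩
  have h4 : MulAut.congr e α ⟨z, hz'⟩ = e (α (e.symm ⟨z, hz'⟩)) := rfl
  rw [h4, ← hez', MulEquiv.symm_apply_apply] at h3
  exact hne (e.injective h3)

end Cfsg.Agent.Lib.Helper7.WCtl
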