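import Mathlib
import Cfsg.Prelude.Def_FusionSystem
import Cfsg.Agent.Lib.Helper7.WCtlB

set_option autoImplicit false

namespace Cfsg.Agent.Lib.Helper7.WCtl

open Cfsg Cfsg.FusionSystem Cfsg.Agent.Lib.Helper7

variable {Ω : Type*} [Group Ω] {S : Subgroup Ω}

/-- conjugating to a fully normalized subgroup, keeping `Moves`, when maps on the normalizer fix `z` -/
theorem exists_fullyNormalized_moves [Finite S] (p : ℕ) [Fact p.Prime] (hS : IsPGroup p S)
    (F : FusionSystem S) (hF : F.IsSaturated p) (z : Ω) (hz : ∀ g ∈ S, g * z * g⁻¹ = z) (n : ℕ)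
    (hfix : F ≤ fixSys F z hz n) {X : Subgroup Ω} (hXS : X ≤ S)
    (hn : n < Nat.card (normalizerIn S X)) (hm : Moves F z X) :
    ∃ X₁, F.IsFullyNormalized X₁ ∧ F.IsConj X X₁ ∧ n < Nat.card (normalizerIn S X₁) ∧
      Moves F z X₁ := by
  obtain ⟨X₁, hc, hFN⟩ := exists_isFullyNormalized_conj F hXS
  obtain ⟨R, hcR, hFAR, hRecR⟩ := hF X₁ hFN.1
  obtain ⟨hFA, hRec⟩ := isFullyAutomized_isReceptive_of_isFullyNormalized p hS F hFN hFAR hRecR hcR
  obtain ⟨χ, hχ, hχN, hχX⟩ := hom_normalizer_of_fullyAutomized_receptive p hS F X₁ X hFA hRec hc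
  have hXN : X ≤ normalizerIn S X := le_inf hXS Subgroup.le_normalizer
  have hzX : z ∈ X := hm.1
  have hzN : z ∈ normalizerIn S X := hXN hzX
  have hχz : χ ⟨z, hzN⟩ = z := ((hfix _ hχ).2 hn ⟨z, hzN⟩).mpr rfl
  have h1 := moves_of_hom F hXN hχ hzN hχz hm
  rw [hχX] at h1
  refine ⟨X₁, hFN, hc, lt_of_lt_of_le hn (hFN.2 X (isConj_symm F hc)), h1⟩

/-- passing from a fully normalized `X` to the centric subgroup `X C_S(X)` -/
theorem moves_sup_centralizerIn [Finite S] (p : ℕ) [Fact p.Prime] (hS : IsPGroup p S)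
    (F : FusionSystem S) (hF : F.IsSaturated p) (z : Ω) {X : Subgroup Ω}
    (hFN : F.IsFullyNormalized X) (hm : Moves F z X) :
    F.IsCentric (X ⊔ centralizerIn S X) ∧ Moves F z (X ⊔ centralizerIn S X) ∧
      normalizerIn S X ≤ normalizerIn S (X ⊔ centralizerIn S X) := by
  obtain ⟨R, hcR, hFAR, hRecR⟩ := hF X hFN.1
  obtain ⟨hFA, hRec⟩ := isFullyAutomized_isReceptive_of_isFullyNormalized p hS F hFN hFAR hRecR hcR
  have hFC : F.IsFullyCentralized X := isFullyCentralized_of_isReceptive F X hRec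
  refine ⟨isCentric_sup_centralizerIn F hFC, ?_, ?_⟩
  · obtain ⟨hzX, α, hα, hne⟩ := hm
    obtain ⟨β, hβ, hβα⟩ := liftProp_sup_centralizerIn F hRec α hα
    refine ⟨Subgroup.mem_sup_left hzX, β, hβ, fun h3 => ?_⟩
    have h4 := hβα ⟨z, hzX⟩
    have h5 : Subgroup.inclusion (le_sup_left : X ≤ X ⊔ centralizerIn S X) ⟨z, hzX⟩ =
        ⟨z, Subgroup.mem_sup_left hzX⟩ := rfl
    rw [h5, h3] at h4
    exact hne (Subtype.ext h4.symm)
  · intro g hg
    have hgS : g ∈ S := hg.1
    have hgN : g ∈ Subgroup.normalizer (X : Set Ω) := hg.2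
    refine ⟨hgS, ?_⟩
    have hXS : X ≤ S := hFN.1
    have : Finite ↥(X ⊔ centralizerIn S X) := finite_of_le (sup_le hXS inf_le_left)
    apply mem_normalizer_of_conj_mem_finite
    intro x hx
    have hK : X ⊔ centralizerIn S X ≤
        (X ⊔ centralizerIn S X).comap (MulAut.conj g).toMonoidHom := by
      apply sup_le
      · intro y hy
        show g * y * g⁻¹ ∈ X ⊔ centralizerIn S X
        exact Subgroup.mem_sup_left ((Subgroup.mem_normalizer_iff.mp hgN y).mp hy)
      · intro c hc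
        show g * c * g⁻¹ ∈ X ⊔ centralizerIn S X
        apply Subgroup.mem_sup_right
        refine ⟨S.mul_mem (S.mul_mem hgS hc.1) (S.inv_mem hgS), ?_⟩
        show g * c * g⁻¹ ∈ Subgroup.centralizer (X : Set Ω)
        rw [Subgroup.mem_centralizer_iff]
        intro y hy
        have hy' : g⁻¹ * y * g ∈ X := by
          have := (Subgroup.mem_normalizer_iff.mp (Subgroup.inv_mem _ hgN) y).mp hy
          simpa using this
        have hcy := (Subgroup.mem_centralizer_iff.mp hc.2) _ hy'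
        calc y * (g * c * g⁻¹) = g * ((g⁻¹ * y * g) * c) * g⁻¹ := by group
          _ = g * (c * (g⁻¹ * y * g)) * g⁻¹ := by rw [hcy]
          _ = g * c * g⁻¹ * y := by group
    exact hK hx

end Cfsg.Agent.Lib.Helper7.WCtl
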