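import Mathlib
import Cfsg.Prelude.Def_FusionSystem
import Cfsg.Agent.Lib.Helper7.WCtlC

set_option autoImplicit false

namespace Cfsg.Agent.Lib.Helper7.TNP

open Cfsg Cfsg.FusionSystem Cfsg.Agent.Lib.Helper7

/-- some power `g ^ (p ^ a)` has order prime to `p` -/
theorem exists_pow_coprime {G : Type*} [Group G] [Finite G] (p : ℕ) [Fact p.Prime] (g : G) :
    ∃ a : ℕ, (orderOf (g ^ p ^ a)).Coprime p := by
  have hp : p.Prime := Fact.out
  obtain ⟨a, m, hm, hgm⟩ := Nat.exists_eq_pow_mul_and_not_dvd (orderOf_pos g).ne' p hp.ne_one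
  refine ⟨a, ?_⟩
  have h1 : orderOf (g ^ p ^ a) = m := by
    rw [orderOf_pow, hgm]
    have : Nat.gcd (p ^ a * m) (p ^ a) = p ^ a := Nat.gcd_eq_right (dvd_mul_right _ _)
    rw [this]
    exact Nat.mul_div_cancel_left m (pow_pos hp.pos a)
  rw [h1]
  exact (Nat.Coprime.symm ((Nat.Prime.coprime_iff_not_dvd hp).mpr hm))

/-- an element of order prime to `p` whose `p ^ a`-th power is trivial is trivial -/
theorem eq_one_of_coprime_of_pow {G : Type*} [Group G] {p : ℕ} {g : G} (hg : (orderOf g).Coprime p)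
    {a : ℕ} (h : g ^ p ^ a = 1) : g = 1 := by
  have h1 : orderOf g ∣ p ^ a := orderOf_dvd_of_pow_eq_one h
  have h2 : orderOf g = 1 := Nat.Coprime.eq_one_of_dvd (hg.pow_right a) h1
  exact orderOf_eq_one_iff.mp h2

variable {Ω : Type*} [Group Ω] {S : Subgroup Ω}

/-- `X` has a nontrivial `F`-automorphism of order prime to `p` -/
def NP (F : FusionSystem S) (p : ℕ) (X : Subgroup Ω) : Prop :=
  ∃ α : MulAut X, α ∈ F.autGroup X ∧ α ≠ 1 ∧ (orderOf α).Coprime p

theorem np_of_not_isPGroup (F : FusionSystem S) (p : ℕ) [Fact p.Prime] {X : Subgroup Ω} [Finite X]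
    (h : ¬ IsPGroup p (F.autGroup X)) : NP F p X := by
  have : Finite (MulAut ↥X) := inferInstance
  unfold IsPGroup at h
  obtain ⟨g, hg⟩ := not_forall.mp h
  obtain ⟨a, ha⟩ := exists_pow_coprime p g
  refine ⟨((g ^ p ^ a : F.autGroup X) : MulAut X), (g ^ p ^ a).2, ?_, ?_⟩
  · intro h1
    apply hg
    exact ⟨a, Subtype.ext h1⟩
  · rw [Subgroup.orderOf_coe]
    exact ha

theorem np_of_isConj (F : FusionSystem S) (p : ℕ) {X X' : Subgroup Ω} (hc : F.IsConj X X')
    (h : NP F p X) : NP F p X' := by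
  obtain ⟨ψ, hψ, hr⟩ := hc
  obtain ⟨α, hα, hne, hord⟩ := h
  set e := isoOfRange ψ (F.injective_of_mem hψ) hr with he
  refine ⟨MulAut.congr e α, autGroup_congr F hψ hr hα, ?_, ?_⟩
  · intro h1
    apply hne
    have := (MulAut.congr e).injective (h1.trans (map_one (MulAut.congr e)).symm)
    exact this
  · rw [MulEquiv.orderOf_eq]
    exact hord

/-- passing to a fully normalized conjugate -/
theorem exists_fullyNormalized_np [Finite S] (F : FusionSystem S) (p : ℕ) {X : Subgroup Ω}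
    (hXS : X ≤ S) (h : NP F p X) :
    ∃ X₁, F.IsFullyNormalized X₁ ∧ F.IsConj X X₁ ∧
      Nat.card (normalizerIn S X) ≤ Nat.card (normalizerIn S X₁) ∧ NP F p X₁ := by
  obtain ⟨X₁, hc, hFN⟩ := exists_isFullyNormalized_conj F hXS
  exact ⟨X₁, hFN, hc, hFN.2 X (isConj_symm F hc), np_of_isConj F p hc h⟩

theorem normalizerIn_le_sup_centralizerIn [Finite S] {X : Subgroup Ω} (hXS : X ≤ S) :
    normalizerIn S X ≤ normalizerIn S (X ⊔ centralizerIn S X) := by
  intro g hg
  have hgS : g ∈ S := hg.1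
  have hgN : g ∈ Subgroup.normalizer (X : Set Ω) := hg.2
  refine ⟨hgS, ?_⟩
  have : Finite ↥(X ⊔ centralizerIn S X) := finite_of_le (sup_le hXS inf_le_left)
  apply mem_normalizer_of_conj_mem_finite
  intro x hx
  have hK : X ⊔ centralizerIn S X ≤
      (X ⊔ centralizerIn S X).comap (MulAut.conj g).toMonoidHom := by
    apply sup_le
    · intro y hy
      show g * y * g⁻¹ ∈ X ⊔ centralizerIn S X
      exact Subgroup.mem_sup_left ((Subgroup.mem_normalizer_iff.mp hgN y).mp hy)
    · intro c hc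
      show g * c * g⁻¹ ∈ X ⊔ centralizerIn S X
      apply Subgroup.mem_sup_right
      refine ⟨S.mul_mem (S.mul_mem hgS hc.1) (S.inv_mem hgS), ?_⟩
      show g * c * g⁻¹ ∈ Subgroup.centralizer (X : Set Ω)
      rw [Subgroup.mem_centralizer_iff]
      intro y hy
      have hy' : g⁻¹ * y * g ∈ X := by
        have := (Subgroup.mem_normalizer_iff.mp (Subgroup.inv_mem _ hgN) y).mp hy
        simpa using this
      have hcy := (Subgroup.mem_centralizer_iff.mp hc.2) _ hy'
      calc y * (g * c * g⁻¹) = g * ((g⁻¹ * y * g) * c) * g⁻¹ := by group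
        _ = g * (c * (g⁻¹ * y * g)) * g⁻¹ := by rw [hcy]
        _ = g * c * g⁻¹ * y := by group
  exact hK hx

/-- passing from a fully normalized `X` to the centric subgroup `X C_S(X)` -/
theorem np_sup_centralizerIn [Finite S] (p : ℕ) [Fact p.Prime] (hS : IsPGroup p S)
    (F : FusionSystem S) (hF : F.IsSaturated p) {X : Subgroup Ω}
    (hFN : F.IsFullyNormalized X) (hm : NP F p X) :
    F.IsCentric (X ⊔ centralizerIn S X) ∧ NP F p (X ⊔ centralizerIn S X) := by
  obtain ⟨R, hcR, hFAR, hRecR⟩ := hF X hFN.1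
  obtain ⟨hFA, hRec⟩ := isFullyAutomized_isReceptive_of_isFullyNormalized p hS F hFN hFAR hRecR hcR
  have hFC : F.IsFullyCentralized X := isFullyCentralized_of_isReceptive F X hRec
  refine ⟨isCentric_sup_centralizerIn F hFC, ?_⟩
  obtain ⟨α, hα, hne, hord⟩ := hm
  obtain ⟨β, hβ, hβα⟩ := liftProp_sup_centralizerIn F hRec α hα
  have hDS : X ⊔ centralizerIn S X ≤ S := sup_le hFN.1 inf_le_left
  have : Finite ↥(X ⊔ centralizerIn S X) := finite_of_le hDS
  have : Finite (MulAut ↥(X ⊔ centralizerIn S X)) := inferInstance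
  obtain ⟨a, ha⟩ := exists_pow_coprime p β
  have hpow : ∀ (k : ℕ) (x : X), (((β ^ k) (Subgroup.inclusion le_sup_left x) :
      ↥(X ⊔ centralizerIn S X)) : Ω) = (((α ^ k) x : X) : Ω) := by
    intro k
    induction k with
    | zero => intro x; rfl
    | succ k ih =>
      intro x
      rw [pow_succ', pow_succ']
      show ((β ((β ^ k) (Subgroup.inclusion le_sup_left x)) : ↥(X ⊔ centralizerIn S X)) : Ω) =
        ((α ((α ^ k) x) : X) : Ω)
      have h1 : (β ^ k) (Subgroup.inclusion le_sup_left x) =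
          Subgroup.inclusion le_sup_left ((α ^ k) x) := Subtype.ext (ih x)
      rw [h1]
      exact hβα _
  refine ⟨β ^ p ^ a, Subgroup.pow_mem _ hβ _, fun h1 => ?_, ha⟩
  apply hne
  apply eq_one_of_coprime_of_pow hord (a := a)
  ext x
  have := hpow (p ^ a) x
  rw [h1] at this
  exact this.symm

end Cfsg.Agent.Lib.Helper7.TNP
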