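import Mathlib
import Cfsg.Prelude.Def_FusionSystem
import Cfsg.Agent.Lib.Helper7.ExtSystem2

set_option autoImplicit false

namespace Cfsg.Agent.Lib.Helper7

open Cfsg Cfsg.FusionSystem

variable {Ω : Type*} [Group Ω] {S : Subgroup Ω}

theorem isCentral_iff_conj_singletons [Finite S] (p : ℕ) [Fact p.Prime] (hS : IsPGroup p S)
    (F : FusionSystem S) (hF : F.IsSaturated p) (Q : Subgroup Ω) :
    F.IsCentral Q ↔ (Q ≤ S ∧ ∀ x ∈ Q, ∀ y : Ω, F.IsConjElt x y → y = x) := by
  constructor
  · intro hQ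
    refine ⟨hQ.1, fun x hx y ⟨φ, hφ, hφx⟩ => ?_⟩
    obtain ⟨ψ, hψ, hext, hfix⟩ := hQ.2 _ φ hφ
    have h1 := hext ⟨x, Subgroup.mem_zpowers x⟩
    have h2 := hfix ⟨x, hx⟩
    have e : Subgroup.inclusion (le_sup_left : Subgroup.zpowers x ≤ Subgroup.zpowers x ⊔ Q)
        ⟨x, Subgroup.mem_zpowers x⟩ = Subgroup.inclusion le_sup_right (⟨x, hx⟩ : Q) := Subtype.ext rfl
    rw [e, h2] at h1
    rw [← hφx, ← h1]
  · rintro ⟨hQS, hcl⟩
    haveI := finite_of_le hQS
    have hZ : ∀ g ∈ S, ∀ x ∈ Q, g * x * g⁻¹ = x := by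
      intro g hg x hx
      apply hcl x hx
      have hle : Subgroup.zpowers x ≤ S := Subgroup.zpowers_le.mpr (hQS hx)
      exact ⟨conjHom _ g, F.conj_mem hle hg, rfl⟩
    have hN : S ≤ Subgroup.normalizer (Q : Set Ω) := by
      intro g hg
      apply mem_normalizer_of_conj_mem_finite
      intro x hx
      rw [hZ g hg x hx]; exact hx
    have hK : autInducedBy S Q ≤ ⊥ := by
      intro α hα
      obtain ⟨g, hg, hgα⟩ := (mem_autInducedBy_iff S Q α).mp hα
      rw [Subgroup.mem_bot]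
      ext x
      rw [hgα, hZ g hg x x.2]
      rfl
    have hle := le_extSystem_of_essential p hS F hF Q ⊥ hQS hN hK (by
      intro P hP
      have hPS : P ≤ S := by
        rcases hP with rfl | hess
        · exact le_rfl
        · exact hess.1.1
      have hQP : Q ≤ P := by
        rcases hP with rfl | hess
        · exact hQS
        · intro x hx
          apply hess.1.2 P (isConj_refl F hPS)
          refine ⟨hQS hx, ?_⟩
          show x ∈ Subgroup.centralizer (P : Set Ω)
          rw [Subgroup.mem_centralizer_iff]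
          intro y hy
          have := hZ y (hPS hy) x hx
          conv_rhs => rw [← this]
          group
      refine ⟨hQP, fun α hα => ⟨1, Subgroup.mem_bot.mpr rfl, fun x => ?_⟩⟩
      show _ = (x : Ω)
      apply hcl x x.2
      have hle : Subgroup.zpowers (x : Ω) ≤ P := Subgroup.zpowers_le.mpr (hQP x.2)
      exact ⟨_, fs_restrict_mem F hle ((mem_autGroup_iff F hPS α).mp hα), rfl⟩)
    refine ⟨hQS, fun P φ hφ => ?_⟩
    obtain ⟨-, ψ, hψ, hext, k, hk, hkk⟩ := hle P hφ
    refine ⟨ψ, hψ, hext, fun x => ?_⟩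
    rw [hkk, Subgroup.mem_bot.mp hk]
    rfl

end Cfsg.Agent.Lib.Helper7
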