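import Mathlib

set_option autoImplicit false

namespace Cfsg.Agent.Lib.Helper7

/-- fixed points of a subgroup `T` of `A` acting on `W` -/
def fixedPts {A W : Type*} [Group A] [Group W] (φ : A →* MulAut W) (T : Subgroup A) : Subgroup W where
  carrier := {w | ∀ t ∈ T, φ t w = w}
  one_mem' := fun t _ => map_one _
  mul_mem' := fun {a b} ha hb t ht => by rw [map_mul, ha t ht, hb t ht]
  inv_mem' := fun {a} ha t ht => by rw [map_inv, ha t ht]

/-- The fixed points of `A` on an abelian group `W` are a direct factor of the fixed points of a subgroup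
`T` whose index is invertible on `W` (relative transfer). -/
theorem fixedPts_direct_factor {A W : Type*} [Group A] [Finite A] [CommGroup W] (φ : A →* MulAut W)
    (T : Subgroup A) (n : ℕ) (hn : ∀ w : W, w ^ (T.index * n) = w) :
    ∃ K : Subgroup W, K ≤ fixedPts φ T ∧ fixedPts φ ⊤ ⊓ K = ⊥ ∧ fixedPts φ ⊤ ⊔ K = fixedPts φ T := by
  classical
  haveI : Fintype (A ⧸ T) := Fintype.ofFinite _
  have hcard : Fintype.card (A ⧸ T) = T.index := by
    rw [Subgroup.index, Nat.card_eq_fintype_card]
  -- the transfer map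
  let tr : W →* W := ∏ c : A ⧸ T, (φ c.out).toMonoidHom
  have htr : ∀ w, tr w = ∏ c : A ⧸ T, φ c.out w := by
    intro w
    show (∏ c : A ⧸ T, (φ c.out).toMonoidHom) w = _
    rw [MonoidHom.finsetProd_apply]
    rfl
  have hout : ∀ (g : A) (c : A ⧸ T) (w : W), w ∈ fixedPts φ T →
      φ (g * c.out) w = φ ((g • c).out) w := by
    intro g c w hw
    have h1 : ((g • c).out : A ⧸ T) = ((g * c.out : A) : A ⧸ T) := by
      rw [QuotientGroup.out_eq']
      conv_lhs => rw [← QuotientGroup.out_eq' c]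
      rfl
    have h2 : ((g • c).out)⁻¹ * (g * c.out) ∈ T := QuotientGroup.eq.mp h1
    have h3 : g * c.out = (g • c).out * (((g • c).out)⁻¹ * (g * c.out)) := by group
    rw [h3, map_mul, MulAut.mul_apply, hw _ h2]
  have htrfix : ∀ w ∈ fixedPts φ T, tr w ∈ fixedPts φ ⊤ := by
    intro w hw g _
    rw [htr, map_prod]
    have : ∀ c : A ⧸ T, φ g (φ c.out w) = φ ((g • c).out) w := by
      intro c
      rw [← hout g c w hw, map_mul, MulAut.mul_apply]
    simp_rw [this]
    exact Fintype.prod_equiv (MulAction.toPerm g) _ _ (fun c => rfl)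
  have htrA : ∀ w ∈ fixedPts φ ⊤, tr w = w ^ T.index := by
    intro w hw
    rw [htr, Finset.prod_congr rfl (fun c _ => hw c.out (Subgroup.mem_top _)), Finset.prod_const,
      Finset.card_univ, hcard]
  have hAT : fixedPts φ ⊤ ≤ fixedPts φ T := fun w hw t _ => hw t (Subgroup.mem_top _)
  refine ⟨tr.ker ⊓ fixedPts φ T, inf_le_right, ?_, ?_⟩
  · rw [eq_bot_iff]
    rintro w ⟨hwA, hwK, -⟩
    rw [Subgroup.mem_bot]
    have h1 : tr w = 1 := hwK
    rw [htrA w hwA] at h1
    rw [← hn w, pow_mul, h1, one_pow]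
  · apply le_antisymm
    · exact sup_le hAT inf_le_right
    · intro w hw
      have h1 : tr w ^ n ∈ fixedPts φ ⊤ := Subgroup.pow_mem _ (htrfix w hw) n
      have h2 : w * (tr w ^ n)⁻¹ ∈ tr.ker ⊓ fixedPts φ T := by
        refine ⟨?_, Subgroup.mul_mem _ hw (Subgroup.inv_mem _ (hAT h1))⟩
        show w * (tr w ^ n)⁻¹ ∈ tr.ker
        rw [MonoidHom.mem_ker, map_mul, map_inv, map_pow, htrA _ (htrfix w hw), ← pow_mul, hn,
          mul_inv_cancel]
      have : w = tr w ^ n * (w * (tr w ^ n)⁻¹) := by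
        rw [mul_comm w, mul_inv_cancel_left]
      rw [this]
      exact Subgroup.mul_mem_sup h1 h2

end Cfsg.Agent.Lib.Helper7
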