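import Mathlib
import Cfsg.Prelude.Def_FusionSystem
import Cfsg.Agent.Lib.Helper7.RelTransfer
import Cfsg.Agent.Lib.Helper7.FusionCentral
import Cfsg.Agent.Lib.Helper7.FusionExtend
import Cfsg.Agent.Lib.Helper7.FusionCore

set_option autoImplicit false

namespace Cfsg.Agent.Lib.Helper7

open Cfsg Cfsg.FusionSystem

variable {Ω : Type*} [Group Ω] {S : Subgroup Ω}

/-- A subgroup normal in a saturated system is fully automized. -/
theorem isFullyAutomized_of_isNormal [Finite S] (p : ℕ) [Fact p.Prime] (hS : IsPGroup p S)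
    (F : FusionSystem S) (hF : F.IsSaturated p) {Q : Subgroup Ω} (hQ : F.IsNormal Q) :
    F.IsFullyAutomized p Q := by
  obtain ⟨R, ⟨φ, hφ, hr⟩, hFA, -⟩ := hF Q hQ.1
  haveI := finite_of_le hQ.1
  have hle : R ≤ Q := by
    rw [← hr]
    rintro _ ⟨x, rfl⟩
    exact (stronglyClosed_of_isNormal F hQ).2 Q le_rfl φ hφ x
  have hcard : Nat.card Q ≤ Nat.card R := by
    rw [← hr]
    exact (Nat.card_congr (Equiv.ofInjective φ (F.injective_of_mem hφ))).le
  have : R = Q := Subgroup.eq_of_le_of_card_ge hle hcard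
  rw [← this]; exact hFA

open scoped IsMulCommutative in
theorem center_direct_factor [Finite S] (p : ℕ) [Fact p.Prime] (hS : IsPGroup p S)
    (F : FusionSystem S) (hF : F.IsSaturated p)
    (hZ : (S ⊓ Subgroup.centralizer (S : Set Ω)) ≤ F.core) :
    ∃ K : Subgroup Ω, K ≤ (S ⊓ Subgroup.centralizer (S : Set Ω)) ∧ F.center ⊓ K = ⊥ ∧
      F.center ⊔ K = (S ⊓ Subgroup.centralizer (S : Set Ω)) := by
  classical
  set Q := F.core with hQdef
  have hQ : F.IsNormal Q := isNormal_core F
  have hQS : Q ≤ S := hQ.1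
  haveI := finite_of_le hQS
  have hN : S ≤ Subgroup.normalizer (Q : Set Ω) := le_normalizer_of_isNormal F hQ
  obtain ⟨-, T, hT⟩ := isFullyAutomized_of_isNormal p hS F hF hQ
  let A := F.autGroup Q
  let φ : ↥A →* MulAut (Subgroup.center Q) := (MulAut.characteristic (Subgroup.center Q)).comp A.subtype
  let j : Subgroup.center Q →* Ω := Q.subtype.comp (Subgroup.center Q).subtype
  have hj : Function.Injective j := fun a b h => Subtype.ext (Subtype.ext h)
  have hφ : ∀ (a : A) (w : Subgroup.center Q), j (φ a w) = (((a : MulAut Q) (w : Q) : Q) : Ω) :=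
    fun a w => rfl
  -- the index condition
  have hWp : IsPGroup p (Subgroup.center Q) :=
    ((hS.to_le hQS).to_le (Subgroup.map_subtype_le _)).of_injective
      ((Subgroup.center Q).equivMapOfInjective Q.subtype Q.subtype_injective).toMonoidHom
      ((Subgroup.center Q).equivMapOfInjective Q.subtype Q.subtype_injective).injective
  obtain ⟨k, hk⟩ := hWp.exists_card_eq
  have hcop : Nat.Coprime (T : Subgroup A).index (p ^ k) :=
    Nat.Coprime.pow_right _ ((Nat.Prime.coprime_iff_not_dvd Fact.out).mpr T.not_dvd_index).symm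
  obtain ⟨n, hn⟩ : ∃ n, ∀ w : Subgroup.center Q, w ^ ((T : Subgroup A).index * n) = w := by
    rcases Nat.eq_zero_or_pos k with rfl | hkpos
    · refine ⟨0, fun w => ?_⟩
      have : Nat.card (Subgroup.center Q) = 1 := by simpa using hk
      have hsub := (Nat.card_eq_one_iff_unique.mp this).1
      exact Subsingleton.elim _ _
    · have h1 : 1 < p ^ k := Nat.one_lt_pow hkpos.ne' (Fact.out : p.Prime).one_lt
      obtain ⟨n, -, hn⟩ := Nat.exists_mul_mod_eq_one_of_coprime hcop h1
      refine ⟨n, fun w => ?_⟩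
      have hw : w ^ (p ^ k) = 1 := by rw [← hk]; exact pow_card_eq_one'
      rw [← Nat.mod_add_div ((T : Subgroup A).index * n) (p ^ k), hn, pow_add, pow_one, pow_mul, hw,
        one_pow, mul_one]
  obtain ⟨K', hK'le, hK'inf, hK'sup⟩ := fixedPts_direct_factor φ (T : Subgroup A) n hn
  -- identification of the fixed points
  have hA : (fixedPts φ ⊤).map j = F.center := by
    apply le_antisymm
    · -- fixed points are central
      have hcen : F.IsCentral ((fixedPts φ ⊤).map j) := by
        rw [isCentral_iff_conj_singletons p hS F hF]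
        refine ⟨?_, ?_⟩
        · rintro _ ⟨w, -, rfl⟩
          exact hQS (w : Q).2
        · rintro _ ⟨w, hw, rfl⟩ y ⟨ψ, hψ, hψy⟩
          have hle : Subgroup.zpowers (j w) ≤ Q := Subgroup.zpowers_le.mpr (w : Q).2
          obtain ⟨α, hα, hαψ⟩ := (isNormal_iff_extend p hS F hF Q hQS).mp hQ _ hle ψ hψ
          have h1 := hαψ ⟨j w, Subgroup.mem_zpowers _⟩
          rw [hψy] at h1
          rw [← h1]
          have h2 := hw ⟨α, hα⟩ (Subgroup.mem_top _)
          have h3 := congrArg j h2
          rw [hφ] at h3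
          exact h3
      exact le_sSup hcen
    · intro x hx
      have hcen : F.IsCentral F.center := isCentral_center F
      have hcs := (isCentral_iff_conj_singletons p hS F hF _).mp hcen
      have hxZ : x ∈ S ⊓ Subgroup.centralizer (S : Set Ω) := by
        refine ⟨hcs.1 hx, ?_⟩
        show x ∈ Subgroup.centralizer (S : Set Ω)
        rw [Subgroup.mem_centralizer_iff]
        intro s hs
        have hle : Subgroup.zpowers x ≤ S := Subgroup.zpowers_le.mpr (hcs.1 hx)
        have := hcs.2 x hx (s * x * s⁻¹) ⟨conjHom _ s, F.conj_mem hle hs, rfl⟩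
        nth_rewrite 2 [← this]; group
      have hxQ : x ∈ Q := hZ hxZ
      have hxc : (⟨x, hxQ⟩ : Q) ∈ Subgroup.center Q := by
        rw [Subgroup.mem_center_iff]
        intro q
        apply Subtype.ext
        have := (Subgroup.mem_centralizer_iff.mp hxZ.2) q (hQS q.2)
        exact this
      refine ⟨⟨⟨x, hxQ⟩, hxc⟩, ?_, rfl⟩
      intro a _
      apply hj
      rw [hφ]
      show (((a : MulAut Q) ⟨x, hxQ⟩ : Q) : Ω) = x
      have hle : Subgroup.zpowers x ≤ Q := Subgroup.zpowers_le.mpr hxQ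
      have ha := fs_restrict_mem F hle ((mem_autGroup_iff F hQS (a : MulAut Q)).mp a.2)
      exact hcs.2 x hx _ ⟨_, ha, rfl⟩
  have hB : (fixedPts φ (T : Subgroup A)).map j = S ⊓ Subgroup.centralizer (S : Set Ω) := by
    apply le_antisymm
    · rintro _ ⟨w, hw, rfl⟩
      refine ⟨hQS (w : Q).2, ?_⟩
      show j w ∈ Subgroup.centralizer (S : Set Ω)
      rw [Subgroup.mem_centralizer_iff]
      intro s hs
      have hmem : Q.normalizerMonoidHom ⟨s, hN hs⟩ ∈ autInducedBy S Q :=
        (mem_autInducedBy_iff S Q _).mpr ⟨s, hs, fun x => rfl⟩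
      have hmemA : Q.normalizerMonoidHom ⟨s, hN hs⟩ ∈ A := autInducedBy_le_autGroup F hQS hmem
      have hmemT : (⟨_, hmemA⟩ : A) ∈ (T : Subgroup A) := by
        rw [hT]; exact Subgroup.mem_subgroupOf.mpr hmem
      have h1 := congrArg j (hw _ hmemT)
      rw [hφ] at h1
      have h2 : s * j w * s⁻¹ = j w := h1
      nth_rewrite 2 [← h2]; group
    · intro x hxZ
      have hxQ : x ∈ Q := hZ hxZ
      have hxc : (⟨x, hxQ⟩ : Q) ∈ Subgroup.center Q := by
        rw [Subgroup.mem_center_iff]
        intro q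
        apply Subtype.ext
        have := (Subgroup.mem_centralizer_iff.mp hxZ.2) q (hQS q.2)
        exact this
      refine ⟨⟨⟨x, hxQ⟩, hxc⟩, ?_, rfl⟩
      intro t ht
      rw [hT] at ht
      obtain ⟨s, hs, hst⟩ := (mem_autInducedBy_iff S Q _).mp (Subgroup.mem_subgroupOf.mp ht)
      apply hj
      rw [hφ]
      show (((t : MulAut Q) ⟨x, hxQ⟩ : Q) : Ω) = x
      rw [hst]
      show s * x * s⁻¹ = x
      have := (Subgroup.mem_centralizer_iff.mp hxZ.2) s hs
      rw [this]; group
  refine ⟨K'.map j, ?_, ?_, ?_⟩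
  · rw [← hB]; exact Subgroup.map_mono hK'le
  · rw [← hA, ← Subgroup.map_inf _ _ j hj, hK'inf, Subgroup.map_bot]
  · rw [← hA, ← Subgroup.map_sup, hK'sup, hB]

end Cfsg.Agent.Lib.Helper7
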