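import Mathlib
import Cfsg.Agent.Lib.Helper7.YoshidaFusB

/-!
# Models of constrained fusion systems, part A: the partial determinant of a free set

`X` is a set with a free action `lam` of a commutative group `B`, `Yp` an invariant predicate.  For `g` in the
commuting group preserving `Yp`, the partial determinant is the product of the displacements of `g` over the orbits
inside `Yp`.  It is multiplicative, and it is compatible with semilinear maps.
-/

set_option autoImplicit false

universe u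

namespace Cfsg.Agent.Lib.Helper7.ModelEx

open Cfsg.Agent.Lib.Helper7.BisetTransfer Cfsg.Agent.Lib.Helper7.TateFus Cfsg.Agent.Lib.Helper7.YoshidaFus

variable {X : Type u} {B : Type u} [CommGroup B] (lam : B →* Equiv.Perm X)
  (hfree : ∀ (b : B) (x : X), lam b x = x → b = 1) (σ : R lam → X)
  (hσ : ∀ r : R lam, Quotient.mk (rel lam) (σ r) = r)
  (Yp : X → Prop) (hY : ∀ (b : B) (x : X), Yp x → Yp (lam b x))

include hσ hY in
theorem yp_sigma_mk_iff (x : X) : Yp (σ (Quotient.mk (rel lam) x)) ↔ Yp x := by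
  have h1 := dl_spec lam σ hσ x
  constructor
  · intro h
    rw [← h1]
    exact hY _ _ h
  · intro h
    have h2 : σ (Quotient.mk (rel lam) x) = lam (dl lam σ hσ x)⁻¹ x := by
      calc σ (Quotient.mk (rel lam) x)
          = lam (dl lam σ hσ x)⁻¹ (lam (dl lam σ hσ x) (σ (Quotient.mk (rel lam) x))) := by simp
        _ = _ := by rw [h1]
    rw [h2]
    exact hY _ _ h

variable [Fintype (R lam)]

open Classical in
/-- the orbits inside `Yp` -/
noncomputable def orbs : Finset (R lam) := Finset.univ.filter (fun r => Yp (σ r))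

theorem mem_orbs_iff (r : R lam) : r ∈ orbs lam σ Yp ↔ Yp (σ r) := by
  unfold orbs
  simp

include hσ hY in
theorem mk_mem_orbs_iff (x : X) : Quotient.mk (rel lam) x ∈ orbs lam σ Yp ↔ Yp x := by
  rw [mem_orbs_iff, yp_sigma_mk_iff lam σ hσ Yp hY]

/-- the partial determinant -/
noncomputable def PD (g : Gr lam) : B :=
  ∏ r ∈ orbs lam σ Yp, dl lam σ hσ ((g : Equiv.Perm X) (σ r))

include hσ hY in
theorem bar_mem_orbs {h : Gr lam} (hh : ∀ x, Yp x → Yp ((h : Equiv.Perm X) x)) {r : R lam}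
    (hr : r ∈ orbs lam σ Yp) : bar lam h r ∈ orbs lam σ Yp := by
  rw [← mk_apply_sigma lam σ hσ h r, mk_mem_orbs_iff lam σ hσ Yp hY]
  exact hh _ ((mem_orbs_iff lam σ Yp r).mp hr)

include hσ hY in
theorem image_bar_orbs {h : Gr lam} (hh : ∀ x, Yp x → Yp ((h : Equiv.Perm X) x)) :
    open Classical in (orbs lam σ Yp).image (bar lam h) = orbs lam σ Yp := by
  classical
  apply Finset.eq_of_subset_of_card_le
  · intro r hr
    obtain ⟨r', hr', rfl⟩ := Finset.mem_image.mp hr
    exact bar_mem_orbs lam σ hσ Yp hY hh hr'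
  · rw [Finset.card_image_of_injective _ (bar lam h).injective]

include hσ hY in
theorem prod_bar_orbs {h : Gr lam} (hh : ∀ x, Yp x → Yp ((h : Equiv.Perm X) x)) (f : R lam → B) :
    ∏ r ∈ orbs lam σ Yp, f (bar lam h r) = ∏ r ∈ orbs lam σ Yp, f r := by
  classical
  conv_rhs => rw [← image_bar_orbs lam σ hσ Yp hY hh]
  rw [Finset.prod_image]
  intro a _ b _ hab
  exact (bar lam h).injective hab

include hfree hY in
theorem PD_mul (g h : Gr lam) (hh : ∀ x, Yp x → Yp ((h : Equiv.Perm X) x)) :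
    PD lam σ hσ Yp (g * h) = PD lam σ hσ Yp g * PD lam σ hσ Yp h := by
  unfold PD
  rw [Finset.prod_congr rfl (fun r _ => dl_mul lam hfree σ hσ g h r), Finset.prod_mul_distrib, mul_comm]
  congr 1
  exact prod_bar_orbs lam σ hσ Yp hY hh (fun r => dl lam σ hσ ((g : Equiv.Perm X) (σ r)))

omit [Fintype (R lam)] in
include hfree in
theorem dl_sigma (r : R lam) : dl lam σ hσ (σ r) = 1 := by
  apply dl_unique lam hfree σ hσ
  rw [map_one, hσ]
  rfl

include hfree in
/-- the partial determinant of an element of the acting group -/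
theorem PD_lam (b : B) (hb : lam b ∈ Gr lam) :
    PD lam σ hσ Yp ⟨lam b, hb⟩ = b ^ (orbs lam σ Yp).card := by
  unfold PD
  rw [Finset.prod_congr rfl (fun r _ => by
    show dl lam σ hσ (lam b (σ r)) = b
    rw [dl_smul lam hfree σ hσ, dl_sigma lam hfree σ hσ, mul_one])]
  rw [Finset.prod_const]

section semilinear

variable (f : X → X) (a : B →* B) (c c' : Gr lam)
  (hf1 : ∀ x, Yp x → Yp (f x))
  (hf2 : ∀ (x : X) (b : B), Yp x → f (lam b x) = lam (a b) (f x))
  (hf3 : ∀ x x', Yp x → Yp x' → Quotient.mk (rel lam) (f x) = Quotient.mk (rel lam) (f x') →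
    Quotient.mk (rel lam) x = Quotient.mk (rel lam) x')
  (hc : ∀ x, Yp x → Yp ((c : Equiv.Perm X) x))
  (hfc : ∀ x, Yp x → f ((c : Equiv.Perm X) x) = (c' : Equiv.Perm X) (f x))

/-- the map induced by `f` on the orbit space -/
def fbar (r : R lam) : R lam := Quotient.mk (rel lam) (f (σ r))

include hσ hY hf1 hf3 in
theorem image_fbar_orbs :
    open Classical in (orbs lam σ Yp).image (fbar lam σ f) = orbs lam σ Yp := by
  classical
  apply Finset.eq_of_subset_of_card_le
  · intro r hr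
    obtain ⟨r', hr', rfl⟩ := Finset.mem_image.mp hr
    unfold fbar
    rw [mk_mem_orbs_iff lam σ hσ Yp hY]
    exact hf1 _ ((mem_orbs_iff lam σ Yp r').mp hr')
  · rw [Finset.card_image_of_injOn]
    intro r hr r' hr' h
    have h1 := hf3 _ _ ((mem_orbs_iff lam σ Yp r).mp hr) ((mem_orbs_iff lam σ Yp r').mp hr') h
    rw [hσ, hσ] at h1
    exact h1

include hfree hσ hY hf1 hf2 hf3 hc hfc in
/-- semilinear invariance of the partial determinant -/
theorem PD_semilinear : PD lam σ hσ Yp c' = a (PD lam σ hσ Yp c) := by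
  classical
  have himg := image_fbar_orbs lam σ hσ Yp hY f hf1 hf3
  have hinj : Set.InjOn (fbar lam σ f) (orbs lam σ Yp : Set (R lam)) := by
    intro r hr r' hr' h
    have h1 := hf3 _ _ ((mem_orbs_iff lam σ Yp r).mp hr) ((mem_orbs_iff lam σ Yp r').mp hr') h
    rw [hσ, hσ] at h1
    exact h1
  -- the error term
  let e : R lam → B := fun r => dl lam σ hσ (f (σ r))
  have he : ∀ r, f (σ r) = lam (e r) (σ (fbar lam σ f r)) := fun r => (dl_spec lam σ hσ (f (σ r))).symm
  have key : ∀ r ∈ orbs lam σ Yp, dl lam σ hσ ((c' : Equiv.Perm X) (σ (fbar lam σ f r))) =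
      (e r)⁻¹ * a (dl lam σ hσ ((c : Equiv.Perm X) (σ r))) * e (bar lam c r) := by
    intro r hr
    have hYr : Yp (σ r) := (mem_orbs_iff lam σ Yp r).mp hr
    have hr2 : bar lam c r ∈ orbs lam σ Yp := bar_mem_orbs lam σ hσ Yp hY hc hr
    have hYr2 : Yp (σ (bar lam c r)) := (mem_orbs_iff lam σ Yp _).mp hr2
    -- c (σ r) = lam d (σ (bar c r))
    have h1 := dl_spec lam σ hσ ((c : Equiv.Perm X) (σ r))
    rw [mk_apply_sigma lam σ hσ c r] at h1
    obtain ⟨d, hd⟩ : ∃ d, d = dl lam σ hσ ((c : Equiv.Perm X) (σ r)) := ⟨_, rfl⟩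
    rw [← hd] at h1 ⊢
    -- compute c' (σ (fbar r))
    have h2 : σ (fbar lam σ f r) = lam (e r)⁻¹ (f (σ r)) := by
      rw [he r]; simp
    have h3 : (c' : Equiv.Perm X) (σ (fbar lam σ f r)) =
        lam ((e r)⁻¹ * a d * e (bar lam c r))
          (σ (fbar lam σ f (bar lam c r))) := by
      rw [h2, comm_of_mem lam c'.2, ← hfc _ hYr, ← h1, hf2 _ _ hYr2, he (bar lam c r)]
      simp only [map_mul, Equiv.Perm.mul_apply]
    rw [h3, dl_smul lam hfree σ hσ, dl_sigma lam hfree σ hσ, mul_one]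
  have h4 : PD lam σ hσ Yp c' =
      ∏ r ∈ orbs lam σ Yp, dl lam σ hσ ((c' : Equiv.Perm X) (σ (fbar lam σ f r))) := by
    unfold PD
    conv_lhs => rw [← himg]
    rw [Finset.prod_image hinj]
  rw [h4, Finset.prod_congr rfl key, Finset.prod_mul_distrib, Finset.prod_mul_distrib,
    prod_bar_orbs lam σ hσ Yp hY hc e, Finset.prod_inv_distrib]
  unfold PD
  rw [map_prod]
  rw [mul_comm ((∏ r ∈ orbs lam σ Yp, e r)⁻¹ : B) _, mul_assoc, inv_mul_cancel, mul_one]

end semilinear

end Cfsg.Agent.Lib.Helper7.ModelEx
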