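import Mathlib
import Cfsg.Prelude.Def_FusionSystem
import Cfsg.Agent.Lib.Helper7.YoshidaFusA
import Cfsg.Agent.Lib.Helper7.YoshidaFusB

/-!
# Models of constrained fusion systems, part B: the commuting group of the characteristic biset realizes the system
-/

set_option autoImplicit false

universe u

namespace Cfsg.Agent.Lib.Helper7.ModelEx

open Cfsg Cfsg.FusionSystem Cfsg.Agent.Lib.Helper7 Cfsg.Agent.Lib.Helper7.BisetTransfer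
  Cfsg.Agent.Lib.Helper7.TateFus Cfsg.Agent.Lib.Helper7.YoshidaFus

variable {Ω : Type u} [Group Ω] {S : Subgroup Ω} (F : FusionSystem S)
  {X : Type u} (ρ : ↥S →* Equiv.Perm X) (ι : ↥S →* Gr ρ)
  (hfree : ∀ (b : ↥S) (x : X), ρ b x = x → b = 1)
  (hT : ∀ x : X, ∃ (T : Subgroup Ω) (θ : T →* Ω), θ ∈ F.Hom T ∧
        ∀ a b : ↥S, ((ι a : Gr ρ) : Equiv.Perm X) x = ρ b x ↔
          ∃ h : (a : Ω) ∈ T, θ ⟨a, h⟩ = ((b⁻¹ : ↥S) : Ω))

include hT in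
/-- a point whose orbit is fixed by the left action has a full twisted diagonal as stabilizer -/
theorem exists_full_point [Finite S] [Finite X] (p : ℕ) [Fact p.Prime] (hS : IsPGroup p S)
    (hcard : ¬ p ∣ Nat.card (R ρ)) :
    ∃ (x₀ : X) (θ₀ : S →* Ω), θ₀ ∈ F.Hom S ∧
      ∀ a b : ↥S, ((ι a : Gr ρ) : Equiv.Perm X) x₀ = ρ b x₀ ↔ θ₀ a = ((b⁻¹ : ↥S) : Ω) := by
  classical
  let _ : MulAction ↥S (R ρ) := MulAction.compHom (R ρ) ((barHom ρ).comp ι)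
  have hsm : ∀ (s : ↥S) (r : R ρ), s • r = bar ρ (ι s) r := fun s r => rfl
  have h1 := hS.card_modEq_card_fixedPoints (R ρ)
  have h2 : Nat.card ↑(MulAction.fixedPoints ↥S (R ρ)) ≠ 0 := by
    intro h0
    rw [h0] at h1
    exact hcard ((Nat.modEq_zero_iff_dvd).mp h1)
  have h3 : Nonempty ↑(MulAction.fixedPoints ↥S (R ρ)) := by
    by_contra hne
    rw [not_nonempty_iff] at hne
    exact h2 Nat.card_of_isEmpty
  obtain ⟨⟨r₀, hr₀⟩⟩ := h3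
  obtain ⟨x₀, rfl⟩ := Quotient.exists_rep r₀
  obtain ⟨T, θ, hθ, hiff⟩ := hT x₀
  have hTS : T ≤ S := (F.le_of_mem hθ).1
  have hST : S ≤ T := by
    intro a ha
    have h4 : bar ρ (ι ⟨a, ha⟩) (Quotient.mk (rel ρ) x₀) = Quotient.mk (rel ρ) x₀ := by
      rw [← hsm]; exact hr₀ ⟨a, ha⟩
    rw [bar_mk] at h4
    obtain ⟨b, hb⟩ := Quotient.exact h4
    -- ρ b (ι a x₀) = x₀
    have h5 : ((ι ⟨a, ha⟩ : Gr ρ) : Equiv.Perm X) x₀ = ρ b⁻¹ x₀ := by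
      conv_rhs => rw [← hb]
      simp
    obtain ⟨h, -⟩ := (hiff ⟨a, ha⟩ b⁻¹).mp h5
    exact h
  have hTeq : S = T := le_antisymm hST hTS
  subst hTeq
  refine ⟨x₀, θ, hθ, fun a b => ?_⟩
  rw [hiff a b]
  constructor
  · rintro ⟨h, h'⟩; exact h'
  · intro h; exact ⟨a.2, h⟩

include hT in
/-- Park: conjugation in the commuting group between subgroups of `S` is a map of the system -/
theorem hom_of_conj [Finite S] [Finite X] (p : ℕ) [Fact p.Prime] (hS : IsPGroup p S)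
    (hcard : ¬ p ∣ Nat.card (R ρ)) (g : Gr ρ) (P : Subgroup Ω) (hP : P ≤ S) (φ : P →* Ω)
    (hφS : ∀ x : P, φ x ∈ S) (h : ∀ u : P, g * ι ⟨u, hP u.2⟩ * g⁻¹ = ι ⟨φ u, hφS u⟩) :
    φ ∈ F.Hom P := by
  obtain ⟨x₀, θ₀, hθ₀, h0⟩ := exists_full_point F ρ ι hT p hS hcard
  have hθ₀S : ∀ a : ↥S, θ₀ a ∈ S := (F.le_of_mem hθ₀).2
  obtain ⟨T, θ, hθ, hiff⟩ := hT (((g⁻¹ : Gr ρ) : Equiv.Perm X) x₀)
  have hTS : T ≤ S := (F.le_of_mem hθ).1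
  -- every element of `P` lies in `T`, and `θ = θ₀ ∘ φ` there
  have key : ∀ u : P, ∃ hu : (u : Ω) ∈ T, θ ⟨u, hu⟩ = θ₀ ⟨φ u, hφS u⟩ := by
    intro u
    have h1 : ((ι ⟨u, hP u.2⟩ : Gr ρ) : Equiv.Perm X) (((g⁻¹ : Gr ρ) : Equiv.Perm X) x₀) =
        ρ (⟨θ₀ ⟨φ u, hφS u⟩, hθ₀S _⟩ : ↥S)⁻¹ (((g⁻¹ : Gr ρ) : Equiv.Perm X) x₀) := by
      have h2 : ι ⟨u, hP u.2⟩ * g⁻¹ = g⁻¹ * ι ⟨φ u, hφS u⟩ := by
        rw [← h u]; group
      have h3 : ((ι ⟨u, hP u.2⟩ * g⁻¹ : Gr ρ) : Equiv.Perm X) x₀ =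
          ((g⁻¹ * ι ⟨φ u, hφS u⟩ : Gr ρ) : Equiv.Perm X) x₀ := by rw [h2]
      rw [Subgroup.coe_mul, Subgroup.coe_mul, Equiv.Perm.mul_apply, Equiv.Perm.mul_apply] at h3
      rw [h3]
      have h4 : ((ι ⟨φ u, hφS u⟩ : Gr ρ) : Equiv.Perm X) x₀ =
          ρ (⟨θ₀ ⟨φ u, hφS u⟩, hθ₀S _⟩ : ↥S)⁻¹ x₀ := by
        rw [h0]
        simp
      rw [h4, comm_of_mem ρ (g⁻¹ : Gr ρ).2]
    obtain ⟨hu, hu'⟩ := (hiff ⟨u, hP u.2⟩ _).mp h1
    refine ⟨hu, ?_⟩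
    rw [hu']
    simp
  have hPT : P ≤ T := fun u hu => (key ⟨u, hu⟩).1
  -- the inverse of `θ₀`
  obtain ⟨ψ, hψ, hψe⟩ := F.inv_mem hθ₀
  have hr := fs_restrict_mem F hPT hθ
  have hval : ∀ u : P, (θ.comp (Subgroup.inclusion hPT)) u ∈ θ₀.range := by
    intro u
    obtain ⟨hu, hu'⟩ := key u
    exact ⟨⟨φ u, hφS u⟩, hu'.symm⟩
  have hc := F.comp_mem hr hψ hval
  convert hc using 1
  ext u
  obtain ⟨hu, hu'⟩ := key u
  have h5 := hψe ⟨φ u, hφS u⟩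
  simp only [MonoidHom.comp_apply]
  have h6 : (φ u : Ω) = ψ ⟨θ₀ ⟨φ u, hφS u⟩, ⟨_, rfl⟩⟩ := h5.symm
  rw [h6]
  congr 1
  apply Subtype.ext
  exact hu'.symm


include hT in
theorem iota_injective_of_nonempty [Nonempty X] : Function.Injective ι := by
  rw [injective_iff_map_eq_one]
  intro a ha
  obtain ⟨x⟩ := ‹Nonempty X›
  obtain ⟨T, θ, hθ, hiff⟩ := hT x
  have h1 : ((ι a : Gr ρ) : Equiv.Perm X) x = ρ 1 x := by
    rw [ha, map_one]; rfl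
  obtain ⟨h, h'⟩ := (hiff a 1).mp h1
  have h2 : θ ⟨a, h⟩ = θ 1 := by
    rw [h', map_one]; simp
  have h3 := F.injective_of_mem hθ h2
  apply Subtype.ext
  exact congrArg (fun t : ↥T => (t : Ω)) h3

/-- the characteristic biset of a saturated fusion system, in displacement form -/
structure BisetData (F : FusionSystem S) (p : ℕ) where
  /-- the underlying set -/
  X : Type u
  /-- finiteness -/
  fin : Finite X
  /-- the right action -/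
  ρ : ↥S →* Equiv.Perm X
  /-- the left action -/
  ι : ↥S →* Gr ρ
  hfree : ∀ (b : ↥S) (x : X), ρ b x = x → b = 1
  hT : ∀ x : X, ∃ (T : Subgroup Ω) (θ : T →* Ω), θ ∈ F.Hom T ∧
        ∀ a b : ↥S, ((ι a : Gr ρ) : Equiv.Perm X) x = ρ b x ↔
          ∃ h : (a : Ω) ∈ T, θ ⟨a, h⟩ = ((b⁻¹ : ↥S) : Ω)
  hconj : ∀ (P : Subgroup Ω) (hP : P ≤ S) (φ : P →* Ω) (hφS : ∀ x : P, φ x ∈ S), φ ∈ F.Hom P →
        ∃ g : Gr ρ, ∀ u : P, g * ι ⟨u, hP u.2⟩ * g⁻¹ = ι ⟨φ u, hφS u⟩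
  hcard : ¬ p ∣ Nat.card (R ρ)

theorem exists_bisetData [Finite S] (p : ℕ) [Fact p.Prime] (hS : IsPGroup p S)
    (F : FusionSystem S) (hF : F.IsSaturated p) : Nonempty (BisetData F p) := by
  obtain ⟨X, hfin, ρ, ι, h1, h2, h3, h4⟩ := biset_setup2 p hS F hF
  exact ⟨⟨X, hfin, ρ, ι, h1, h2, h3, h4⟩⟩

namespace BisetData

variable {F} {p : ℕ} (D : BisetData F p)

instance : Finite D.X := D.fin

theorem nonempty [Fact p.Prime] : Nonempty D.X := by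
  by_contra h
  rw [not_nonempty_iff] at h
  apply D.hcard
  have : IsEmpty (R D.ρ) := by
    constructor
    intro r
    obtain ⟨x, -⟩ := Quotient.exists_rep r
    exact h.false x
  rw [Nat.card_of_isEmpty]
  exact dvd_zero p

theorem ι_injective [Fact p.Prime] : Function.Injective D.ι := by
  have := D.nonempty
  exact iota_injective_of_nonempty F D.ρ D.ι D.hT

theorem hom_of_conj [Finite S] [Fact p.Prime] (hS : IsPGroup p S)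
    (g : Gr D.ρ) (P : Subgroup Ω) (hP : P ≤ S) (φ : P →* Ω)
    (hφS : ∀ x : P, φ x ∈ S) (h : ∀ u : P, g * D.ι ⟨u, hP u.2⟩ * g⁻¹ = D.ι ⟨φ u, hφS u⟩) :
    φ ∈ F.Hom P :=
  ModelEx.hom_of_conj F D.ρ D.ι D.hT p hS D.hcard g P hP φ hφS h

end BisetData

end Cfsg.Agent.Lib.Helper7.ModelEx
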