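import Mathlib
import Cfsg.Prelude.Def_FusionSystem
import Cfsg.Agent.Lib.Helper7.ModelExB
import Cfsg.Agent.Lib.Helper7.FusionSat
import Cfsg.Agent.Lib.Helper7.FusionSat2
import Cfsg.Agent.Lib.Helper7.FusionNormal

/-!
# Models of constrained fusion systems, part C: the normalizer of `Q` in the commuting group and its action on `Q`
-/

set_option autoImplicit false

universe u

namespace Cfsg.Agent.Lib.Helper7.ModelEx

open Cfsg Cfsg.FusionSystem Cfsg.Agent.Lib.Helper7 Cfsg.Agent.Lib.Helper7.BisetTransfer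
  Cfsg.Agent.Lib.Helper7.TateFus Cfsg.Agent.Lib.Helper7.YoshidaFus

variable {Ω : Type u} [Group Ω] {S : Subgroup Ω} {F : FusionSystem S} {p : ℕ}

namespace BisetData

variable (D : BisetData F p) (Q : Subgroup Ω) (hQS : Q ≤ S)

/-- the left action restricted to `Q` -/
def iQ : ↥Q →* Gr D.ρ := D.ι.comp (Subgroup.inclusion hQS)

theorem iQ_apply (q : ↥Q) : D.iQ Q hQS q = D.ι ⟨q, hQS q.2⟩ := rfl

theorem iQ_injective [Fact p.Prime] : Function.Injective (D.iQ Q hQS) :=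
  D.ι_injective.comp (Subgroup.inclusion_injective hQS)

/-- the normalizer of the image of `Q` -/
def NQ : Subgroup (Gr D.ρ) := Subgroup.normalizer ((D.iQ Q hQS).range : Set (Gr D.ρ))

/-- the centralizer of the image of `Q` -/
def CQ : Subgroup (Gr D.ρ) := Subgroup.centralizer ((D.iQ Q hQS).range : Set (Gr D.ρ))

theorem mem_CQ_iff (c : Gr D.ρ) : c ∈ D.CQ Q hQS ↔ ∀ q : ↥Q, c * D.iQ Q hQS q * c⁻¹ = D.iQ Q hQS q := by
  unfold CQ
  rw [Subgroup.mem_centralizer_iff]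
  constructor
  · intro h q
    rw [← h _ ⟨q, rfl⟩]; group
  · rintro h _ ⟨q, rfl⟩
    have := h q
    rw [mul_inv_eq_iff_eq_mul] at this
    exact this.symm

theorem CQ_le_NQ : D.CQ Q hQS ≤ D.NQ Q hQS := Subgroup.centralizer_le_normalizer _

theorem exists_pi (g : Gr D.ρ) (hg : g ∈ D.NQ Q hQS) (q : ↥Q) :
    ∃ q' : ↥Q, D.iQ Q hQS q' = g * D.iQ Q hQS q * g⁻¹ := by
  have h := (Subgroup.mem_normalizer_iff.mp hg (D.iQ Q hQS q)).mp ⟨q, rfl⟩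
  obtain ⟨q', hq'⟩ := h
  exact ⟨q', hq'⟩

/-- the action on `Q`, as a function -/
noncomputable def piFun (g : ↥(D.NQ Q hQS)) (q : ↥Q) : ↥Q :=
  Classical.choose (D.exists_pi Q hQS g.1 g.2 q)

theorem piFun_spec (g : ↥(D.NQ Q hQS)) (q : ↥Q) :
    D.iQ Q hQS (D.piFun Q hQS g q) = (g : Gr D.ρ) * D.iQ Q hQS q * (g : Gr D.ρ)⁻¹ :=
  Classical.choose_spec (D.exists_pi Q hQS g.1 g.2 q)

section inj

variable [Fact p.Prime]

theorem piFun_unique {g : ↥(D.NQ Q hQS)} {q q' : ↥Q}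
    (h : D.iQ Q hQS q' = (g : Gr D.ρ) * D.iQ Q hQS q * (g : Gr D.ρ)⁻¹) : D.piFun Q hQS g q = q' := by
  apply D.iQ_injective Q hQS
  rw [piFun_spec, h]

theorem piFun_mul (g : ↥(D.NQ Q hQS)) (q q' : ↥Q) :
    D.piFun Q hQS g (q * q') = D.piFun Q hQS g q * D.piFun Q hQS g q' := by
  apply piFun_unique
  rw [map_mul, map_mul, piFun_spec, piFun_spec]
  group

theorem piFun_comp (g h : ↥(D.NQ Q hQS)) (q : ↥Q) :
    D.piFun Q hQS (g * h) q = D.piFun Q hQS g (D.piFun Q hQS h q) := by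
  apply piFun_unique
  rw [piFun_spec, piFun_spec]
  show _ = ((g : Gr D.ρ) * (h : Gr D.ρ)) * _ * ((g : Gr D.ρ) * (h : Gr D.ρ))⁻¹
  group

theorem piFun_one (q : ↥Q) : D.piFun Q hQS 1 q = q := by
  apply piFun_unique
  simp

/-- the action on `Q`, as an automorphism -/
noncomputable def piAut (g : ↥(D.NQ Q hQS)) : MulAut ↥Q where
  toFun := D.piFun Q hQS g
  invFun := D.piFun Q hQS g⁻¹
  left_inv q := by rw [← piFun_comp, inv_mul_cancel, piFun_one]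
  right_inv q := by rw [← piFun_comp, mul_inv_cancel, piFun_one]
  map_mul' := D.piFun_mul Q hQS g

/-- the action on `Q`, as a homomorphism -/
noncomputable def pi : ↥(D.NQ Q hQS) →* MulAut ↥Q where
  toFun := D.piAut Q hQS
  map_one' := by
    ext q
    show ((D.piFun Q hQS 1 q : ↥Q) : Ω) = q
    rw [piFun_one]
  map_mul' g h := by
    ext q
    show ((D.piFun Q hQS (g * h) q : ↥Q) : Ω) = (D.piFun Q hQS g (D.piFun Q hQS h q) : ↥Q)
    rw [piFun_comp]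

theorem pi_spec (g : ↥(D.NQ Q hQS)) (q : ↥Q) :
    D.iQ Q hQS (D.pi Q hQS g q) = (g : Gr D.ρ) * D.iQ Q hQS q * (g : Gr D.ρ)⁻¹ :=
  D.piFun_spec Q hQS g q

theorem pi_spec' (g : ↥(D.NQ Q hQS)) (q : ↥Q) :
    (g : Gr D.ρ) * D.iQ Q hQS q = D.iQ Q hQS (D.pi Q hQS g q) * (g : Gr D.ρ) := by
  rw [pi_spec]; group

theorem pi_inv_spec (g : ↥(D.NQ Q hQS)) (q : ↥Q) :
    D.iQ Q hQS ((D.pi Q hQS g)⁻¹ q) = (g : Gr D.ρ)⁻¹ * D.iQ Q hQS q * (g : Gr D.ρ) := by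
  rw [← map_inv, pi_spec]
  simp

theorem pi_unique {g : ↥(D.NQ Q hQS)} {α : MulAut ↥Q}
    (h : ∀ q, D.iQ Q hQS (α q) = (g : Gr D.ρ) * D.iQ Q hQS q * (g : Gr D.ρ)⁻¹) : D.pi Q hQS g = α := by
  ext q
  show ((D.piFun Q hQS g q : ↥Q) : Ω) = α q
  rw [piFun_unique D Q hQS (h q)]

omit [Fact p.Prime] in
theorem mem_NQ_of_conj (g : Gr D.ρ) (α : MulAut ↥Q)
    (h : ∀ q, (g : Gr D.ρ) * D.iQ Q hQS q * (g : Gr D.ρ)⁻¹ = D.iQ Q hQS (α q)) : g ∈ D.NQ Q hQS := by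
  unfold NQ
  rw [Subgroup.mem_normalizer_iff]
  intro x
  constructor
  · rintro ⟨q, rfl⟩
    exact ⟨α q, (h q).symm⟩
  · rintro ⟨q', hq'⟩
    refine ⟨α⁻¹ q', ?_⟩
    have h1 := h (α⁻¹ q')
    rw [MulAut.apply_inv_self, hq'] at h1
    have h2 : g⁻¹ * (g * D.iQ Q hQS (α⁻¹ q') * g⁻¹) * g = g⁻¹ * (g * x * g⁻¹) * g := by rw [h1]
    have e1 : g⁻¹ * (g * D.iQ Q hQS (α⁻¹ q') * g⁻¹) * g = D.iQ Q hQS (α⁻¹ q') := by group
    have e2 : g⁻¹ * (g * x * g⁻¹) * g = x := by group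
    rw [e1, e2] at h2
    exact h2

theorem pi_eq_one_iff (g : ↥(D.NQ Q hQS)) : D.pi Q hQS g = 1 ↔ (g : Gr D.ρ) ∈ D.CQ Q hQS := by
  rw [mem_CQ_iff]
  constructor
  · intro h q
    rw [← pi_spec, h]
    rfl
  · intro h
    apply pi_unique
    intro q
    rw [h q]
    rfl

omit [Fact p.Prime] in
/-- the image of an element of `S` normalizing `Q` lies in the normalizer -/
theorem iota_conj (s : ↥S) (hs : (s : Ω) ∈ Subgroup.normalizer (Q : Set Ω)) (q : ↥Q) :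
    D.ι s * D.iQ Q hQS q * (D.ι s)⁻¹ = D.iQ Q hQS (Q.normalizerMonoidHom ⟨s, hs⟩ q) := by
  rw [iQ_apply, iQ_apply, ← map_inv, ← map_mul, ← map_mul]
  congr 1

omit [Fact p.Prime] in
theorem iota_mem_NQ (s : ↥S) (hs : (s : Ω) ∈ Subgroup.normalizer (Q : Set Ω)) : D.ι s ∈ D.NQ Q hQS :=
  D.mem_NQ_of_conj Q hQS (D.ι s) (Q.normalizerMonoidHom ⟨s, hs⟩) (D.iota_conj Q hQS s hs)

theorem pi_iota (s : ↥S) (hs : (s : Ω) ∈ Subgroup.normalizer (Q : Set Ω)) :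
    D.pi Q hQS ⟨D.ι s, D.iota_mem_NQ Q hQS s hs⟩ = Q.normalizerMonoidHom ⟨s, hs⟩ := by
  apply pi_unique
  intro q
  exact (D.iota_conj Q hQS s hs q).symm

section fusion

variable [Finite S] (hS : IsPGroup p S)

include hS in
/-- the action of the normalizer on `Q` is by automorphisms of the system -/
theorem pi_mem_autGroup (g : ↥(D.NQ Q hQS)) : D.pi Q hQS g ∈ F.autGroup Q := by
  rw [mem_autGroup_iff F hQS]
  apply D.hom_of_conj hS (g : Gr D.ρ) Q hQS _ (fun q => hQS (D.pi Q hQS g q).2)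
  intro q
  exact (D.pi_spec Q hQS g q).symm

omit [Fact p.Prime] in
/-- a map of the system defined on an overgroup of `Q` and stabilizing `Q` is induced by an element of the
normalizer -/
theorem exists_NQ_of_hom_of_le (E : Subgroup Ω) (hE : E ≤ S) (hQE : Q ≤ E) (ψ : E →* Ω) (hψ : ψ ∈ F.Hom E)
    (hψQ : ∀ q : ↥Q, ψ ⟨q, hQE q.2⟩ ∈ Q) :
    ∃ g : ↥(D.NQ Q hQS), ∀ u : ↥E, (g : Gr D.ρ) * D.ι ⟨u, hE u.2⟩ * (g : Gr D.ρ)⁻¹ =
      D.ι ⟨ψ u, (F.le_of_mem hψ).2 u⟩ := by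
  obtain ⟨g, hg⟩ := D.hconj E hE ψ (F.le_of_mem hψ).2 hψ
  have hfin : Finite ↥Q := finite_of_le hQS
  have hfin2 : Finite ↥(D.iQ Q hQS).range := Finite.of_surjective _ (D.iQ Q hQS).rangeRestrict_surjective
  have hgN : g ∈ D.NQ Q hQS := by
    apply mem_normalizer_of_conj_mem_finite
    rintro _ ⟨q, rfl⟩
    refine ⟨⟨ψ ⟨q, hQE q.2⟩, hψQ q⟩, ?_⟩
    rw [iQ_apply, iQ_apply]
    exact (hg ⟨q, hQE q.2⟩).symm
  exact ⟨⟨g, hgN⟩, hg⟩

omit [Fact p.Prime] in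
/-- every map of the system is induced by an element of the normalizer of a normal subgroup -/
theorem exists_NQ_of_hom (hQ : F.IsNormal Q) (P : Subgroup Ω) (hP : P ≤ S) (φ : P →* Ω) (hφ : φ ∈ F.Hom P) :
    ∃ g : ↥(D.NQ Q hQS), ∀ u : ↥P, (g : Gr D.ρ) * D.ι ⟨u, hP u.2⟩ * (g : Gr D.ρ)⁻¹ =
      D.ι ⟨φ u, (F.le_of_mem hφ).2 u⟩ := by
  obtain ⟨ψ, hψ, hext, hmap⟩ := hQ.2 P φ hφ
  have hE : P ⊔ Q ≤ S := sup_le hP hQS
  have hψQ : ∀ q : ↥Q, ψ ⟨q, (le_sup_right : Q ≤ P ⊔ Q) q.2⟩ ∈ Q := by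
    intro q
    have h2 : ψ ⟨q, (le_sup_right : Q ≤ P ⊔ Q) q.2⟩ ∈ (Q.subgroupOf (P ⊔ Q)).map ψ :=
      ⟨_, Subgroup.mem_subgroupOf.mpr q.2, rfl⟩
    rw [hmap] at h2
    exact h2
  obtain ⟨g, hg⟩ := D.exists_NQ_of_hom_of_le Q hQS (P ⊔ Q) hE le_sup_right ψ hψ hψQ
  refine ⟨g, fun u => ?_⟩
  have h1 := hg (Subgroup.inclusion le_sup_left u)
  have h2 := hext u
  refine h1.trans ?_
  congr 1
  exact Subtype.ext h2

/-- every automorphism of `Q` in the system is induced by an element of the normalizer -/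
theorem exists_pi_eq (α : MulAut ↥Q) (hα : α ∈ F.autGroup Q) : ∃ g : ↥(D.NQ Q hQS), D.pi Q hQS g = α := by
  have hα' := (mem_autGroup_iff F hQS α).mp hα
  obtain ⟨g, hg⟩ := D.exists_NQ_of_hom_of_le Q hQS Q hQS le_rfl _ hα' (fun q => (α q).2)
  refine ⟨g, ?_⟩
  apply pi_unique
  intro q
  rw [iQ_apply, iQ_apply]
  exact (hg q).symm

end fusion

end inj

end BisetData

end Cfsg.Agent.Lib.Helper7.ModelEx
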