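import Mathlib
import Cfsg.Prelude.Def_FusionSystem
import Cfsg.Agent.Lib.Helper7.ModelExC

/-!
# Models of constrained fusion systems, part D: the type of a point of the characteristic biset
-/

set_option autoImplicit false

universe u

namespace Cfsg.Agent.Lib.Helper7.ModelEx

open Cfsg Cfsg.FusionSystem Cfsg.Agent.Lib.Helper7 Cfsg.Agent.Lib.Helper7.BisetTransfer
  Cfsg.Agent.Lib.Helper7.TateFus Cfsg.Agent.Lib.Helper7.YoshidaFus

variable {Ω : Type u} [Group Ω] {S : Subgroup Ω} {F : FusionSystem S} {p : ℕ}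

namespace BisetData

variable (D : BisetData F p) (Q : Subgroup Ω) (hQS : Q ≤ S)

/-- the point `x` has type `α`: the left action of `Q` at `x` is the right action twisted by `α` -/
def HasType (x : D.X) (α : MulAut ↥Q) : Prop :=
  ∀ q : ↥Q, ((D.iQ Q hQS q : Gr D.ρ) : Equiv.Perm D.X) x = D.ρ (Subgroup.inclusion hQS (α q))⁻¹ x

variable {Q hQS}

theorem HasType.mem_autGroup {x : D.X} {α : MulAut ↥Q} (h : D.HasType Q hQS x α) : α ∈ F.autGroup Q := by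
  obtain ⟨T, θ, hθ, hiff⟩ := D.hT x
  have key : ∀ q : ↥Q, ∃ hq : (q : Ω) ∈ T, θ ⟨q, hq⟩ = (α q : Ω) := by
    intro q
    obtain ⟨hq, hq'⟩ := (hiff ⟨q, hQS q.2⟩ _).mp (h q)
    refine ⟨hq, ?_⟩
    rw [hq']
    simp
  have hQT : Q ≤ T := fun q hq => (key ⟨q, hq⟩).1
  rw [mem_autGroup_iff F hQS]
  have hr := fs_restrict_mem F hQT hθ
  convert hr using 1
  ext q
  exact (key q).2.symm

theorem HasType.unique {x : D.X} {α β : MulAut ↥Q} (h : D.HasType Q hQS x α) (h' : D.HasType Q hQS x β) :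
    α = β := by
  ext q
  have h1 := (h q).symm.trans (h' q)
  have h2 : D.ρ ((Subgroup.inclusion hQS (β q))⁻¹⁻¹ * (Subgroup.inclusion hQS (α q))⁻¹) x = x := by
    rw [map_mul, Equiv.Perm.mul_apply, h1, ← Equiv.Perm.mul_apply, ← map_mul]
    simp
  have h3 := D.hfree _ _ h2
  rw [inv_inv, mul_inv_eq_one] at h3
  have h4 := Subgroup.inclusion_injective hQS h3
  rw [h4]

theorem HasType.rho {x : D.X} {α : MulAut ↥Q} (h : D.HasType Q hQS x α) (s : ↥S)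
    (hs : (s : Ω) ∈ Subgroup.normalizer (Q : Set Ω)) :
    D.HasType Q hQS (D.ρ s x) (Q.normalizerMonoidHom ⟨s, hs⟩ * α) := by
  intro q
  rw [comm_of_mem D.ρ (D.iQ Q hQS q).2, h q, ← Equiv.Perm.mul_apply, ← Equiv.Perm.mul_apply, ← map_mul,
    ← map_mul]
  congr 2
  apply Subtype.ext
  show (s : Ω) * ((α q : ↥Q) : Ω)⁻¹ = ((s : Ω) * ((α q : ↥Q) : Ω) * (s : Ω)⁻¹)⁻¹ * (s : Ω)
  group

variable [Fact p.Prime]

theorem HasType.smul {x : D.X} {α : MulAut ↥Q} (h : D.HasType Q hQS x α) (g : ↥(D.NQ Q hQS)) :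
    D.HasType Q hQS (((g : Gr D.ρ) : Equiv.Perm D.X) x) (α * (D.pi Q hQS g)⁻¹) := by
  intro q
  have h1 : D.iQ Q hQS q * (g : Gr D.ρ) = (g : Gr D.ρ) * D.iQ Q hQS ((D.pi Q hQS g)⁻¹ q) := by
    rw [pi_inv_spec]; group
  have h2 : ((D.iQ Q hQS q * (g : Gr D.ρ) : Gr D.ρ) : Equiv.Perm D.X) x =
      (((g : Gr D.ρ) * D.iQ Q hQS ((D.pi Q hQS g)⁻¹ q) : Gr D.ρ) : Equiv.Perm D.X) x := by rw [h1]
  rw [Subgroup.coe_mul, Subgroup.coe_mul, Equiv.Perm.mul_apply, Equiv.Perm.mul_apply] at h2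
  rw [h2, h _, comm_of_mem D.ρ (g : Gr D.ρ).2]
  rfl

theorem HasType.smul_CQ {x : D.X} {α : MulAut ↥Q} (h : D.HasType Q hQS x α) (c : Gr D.ρ)
    (hc : c ∈ D.CQ Q hQS) : D.HasType Q hQS ((c : Equiv.Perm D.X) x) α := by
  have h1 := h.smul D ⟨c, D.CQ_le_NQ Q hQS hc⟩
  have h2 : D.pi Q hQS ⟨c, D.CQ_le_NQ Q hQS hc⟩ = 1 := (D.pi_eq_one_iff Q hQS _).mpr hc
  rw [h2] at h1
  simpa using h1

omit [Fact p.Prime] in
/-- a point whose `ρ`-orbit is fixed by `Q` has a type -/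
theorem exists_hasType [Finite S] (hsc : F.StronglyClosed Q) (x : D.X)
    (hx : ∀ q : ↥Q, ∃ b : ↥S, ((D.iQ Q hQS q : Gr D.ρ) : Equiv.Perm D.X) x = D.ρ b x) :
    ∃ α : MulAut ↥Q, D.HasType Q hQS x α := by
  obtain ⟨T, θ, hθ, hiff⟩ := D.hT x
  have hQT : Q ≤ T := by
    intro q hq
    obtain ⟨b, hb⟩ := hx ⟨q, hq⟩
    exact ((hiff ⟨q, hQS hq⟩ b).mp hb).1
  have hr := fs_restrict_mem F hQT hθ
  have hval : ∀ q : ↥Q, θ ⟨q, hQT q.2⟩ ∈ Q := fun q => hsc.2 Q le_rfl _ hr q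
  let f : ↥Q →* ↥Q := (θ.comp (Subgroup.inclusion hQT)).codRestrict Q hval
  have hfin : Finite ↥Q := finite_of_le hQS
  have hinj : Function.Injective f := by
    intro a b hab
    have h1 : θ ⟨a, hQT a.2⟩ = θ ⟨b, hQT b.2⟩ := congrArg Subtype.val hab
    have h2 := F.injective_of_mem hθ h1
    exact Subtype.ext (congrArg (fun t : ↥T => (t : Ω)) h2)
  have hbij : Function.Bijective f := ⟨hinj, Finite.injective_iff_surjective.mp hinj⟩
  refine ⟨MulEquiv.ofBijective f hbij, fun q => ?_⟩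
  rw [iQ_apply, hiff]
  refine ⟨hQT q.2, ?_⟩
  simp only [inv_inv]
  rfl

end BisetData

section retraction

variable (Q : Subgroup Ω) (hn : S ≤ Subgroup.normalizer (Q : Set Ω))

/-- conjugation of `S` on `Q` -/
def conjS : ↥S →* MulAut ↥Q := Q.normalizerMonoidHom.comp (Subgroup.inclusion hn)

theorem conjS_apply (s : ↥S) (q : ↥Q) : ((conjS Q hn s q : ↥Q) : Ω) = s * q * (s : Ω)⁻¹ := rfl

theorem conjS_eq (s : ↥S) : conjS Q hn s = Q.normalizerMonoidHom ⟨s, hn s.2⟩ := rfl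

/-- a retraction of `Aut(Q)` onto a transversal of the right cosets of the image of `S` -/
noncomputable def retr (α : MulAut ↥Q) : MulAut ↥Q :=
  ((QuotientGroup.mk α⁻¹ : MulAut ↥Q ⧸ (conjS Q hn).range).out)⁻¹

theorem retr_spec (α : MulAut ↥Q) : ∃ s : ↥S, retr Q hn α = conjS Q hn s * α := by
  obtain ⟨⟨h, ⟨s, rfl⟩⟩, hh⟩ := QuotientGroup.mk_out_eq_mul (conjS Q hn).range α⁻¹
  refine ⟨s⁻¹, ?_⟩
  unfold retr
  rw [hh, map_inv]
  simp

theorem retr_conj (s : ↥S) (α : MulAut ↥Q) : retr Q hn (conjS Q hn s * α) = retr Q hn α := by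
  unfold retr
  congr 2
  rw [QuotientGroup.eq]
  refine ⟨s, ?_⟩
  simp

theorem retr_retr (α : MulAut ↥Q) : retr Q hn (retr Q hn α) = retr Q hn α := by
  obtain ⟨s, hs⟩ := retr_spec Q hn α
  conv_lhs => rw [hs, retr_conj]

theorem eq_of_retr_eq {α β : MulAut ↥Q} (hα : retr Q hn α = α) (hβ : retr Q hn β = β) (s : ↥S)
    (h : β = conjS Q hn s * α) : β = α := by
  rw [← hβ, h, retr_conj, hα]

end retraction

namespace BisetData

variable (D : BisetData F p) (Q : Subgroup Ω) (hQS : Q ≤ S) (hn : S ≤ Subgroup.normalizer (Q : Set Ω))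

/-- the points whose type lies in the transversal -/
def Yp (x : D.X) : Prop := ∃ α : MulAut ↥Q, D.HasType Q hQS x α ∧ retr Q hn α = α

/-- the left action of the centre of `Q` -/
def lamZ : ↥(Subgroup.center ↥Q) →* Equiv.Perm D.X :=
  (Gr D.ρ).subtype.comp ((D.iQ Q hQS).comp (Subgroup.center ↥Q).subtype)

theorem lamZ_apply (z : ↥(Subgroup.center ↥Q)) (x : D.X) :
    D.lamZ Q hQS z x = ((D.iQ Q hQS z : Gr D.ρ) : Equiv.Perm D.X) x := rfl

theorem iota_free (a : ↥S) (x : D.X) (h : ((D.ι a : Gr D.ρ) : Equiv.Perm D.X) x = x) : a = 1 := by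
  obtain ⟨T, θ, hθ, hiff⟩ := D.hT x
  have h1 : ((D.ι a : Gr D.ρ) : Equiv.Perm D.X) x = D.ρ 1 x := by
    rw [h, map_one]; rfl
  obtain ⟨ha, ha'⟩ := (hiff a 1).mp h1
  have h2 : θ ⟨a, ha⟩ = θ 1 := by
    rw [ha', map_one]; simp
  have h3 := F.injective_of_mem hθ h2
  apply Subtype.ext
  exact congrArg (fun t : ↥T => (t : Ω)) h3

theorem lamZ_free (z : ↥(Subgroup.center ↥Q)) (x : D.X) (h : D.lamZ Q hQS z x = x) : z = 1 := by
  rw [lamZ_apply, iQ_apply] at h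
  have h1 := D.iota_free _ x h
  apply Subtype.ext
  apply Subtype.ext
  exact congrArg (fun t : ↥S => (t : Ω)) h1

theorem iQ_center_mem_CQ (z : ↥(Subgroup.center ↥Q)) : D.iQ Q hQS z ∈ D.CQ Q hQS := by
  rw [mem_CQ_iff]
  intro q
  rw [← map_inv, ← map_mul, ← map_mul]
  congr 1
  have := (Subgroup.mem_center_iff.mp z.2) q
  rw [← this]
  group

theorem mem_Gr_lamZ_of_mem_CQ (c : Gr D.ρ) (hc : c ∈ D.CQ Q hQS) :
    (c : Equiv.Perm D.X) ∈ Gr (D.lamZ Q hQS) := by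
  rw [mem_Gr_iff]
  intro z x
  rw [lamZ_apply, lamZ_apply]
  have h1 := (D.mem_CQ_iff Q hQS c).mp hc z
  have h2 : c * D.iQ Q hQS z = D.iQ Q hQS z * c := by
    conv_rhs => rw [← h1]
    group
  have h3 : ((c * D.iQ Q hQS z : Gr D.ρ) : Equiv.Perm D.X) x =
      ((D.iQ Q hQS z * c : Gr D.ρ) : Equiv.Perm D.X) x := by rw [h2]
  exact h3

variable [Fact p.Prime]

theorem Yp_CQ (c : Gr D.ρ) (hc : c ∈ D.CQ Q hQS) (x : D.X) (hx : D.Yp Q hQS hn x) :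
    D.Yp Q hQS hn ((c : Equiv.Perm D.X) x) := by
  obtain ⟨α, hα, hr⟩ := hx
  exact ⟨α, hα.smul_CQ D c hc, hr⟩

theorem Yp_lamZ (z : ↥(Subgroup.center ↥Q)) (x : D.X) (hx : D.Yp Q hQS hn x) :
    D.Yp Q hQS hn (D.lamZ Q hQS z x) :=
  D.Yp_CQ Q hQS hn _ (D.iQ_center_mem_CQ Q hQS z) x hx

end BisetData

end Cfsg.Agent.Lib.Helper7.ModelEx
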