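import Mathlib
import Cfsg.Prelude.Def_FusionSystem
import Cfsg.Agent.Lib.Helper7.ModelExA
import Cfsg.Agent.Lib.Helper7.ModelExD

/-!
# Models of constrained fusion systems, part E: the number of orbits of the centre of `Q` on the points whose type
lies in the transversal is prime to `p`
-/

set_option autoImplicit false

universe u

namespace Cfsg.Agent.Lib.Helper7.ModelEx

open Cfsg Cfsg.FusionSystem Cfsg.Agent.Lib.Helper7 Cfsg.Agent.Lib.Helper7.BisetTransfer
  Cfsg.Agent.Lib.Helper7.TateFus Cfsg.Agent.Lib.Helper7.YoshidaFus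

open scoped IsMulCommutative

variable {Ω : Type u} [Group Ω] {S : Subgroup Ω} {F : FusionSystem S} {p : ℕ}

namespace BisetData

variable (D : BisetData F p) (Q : Subgroup Ω) (hQS : Q ≤ S) (hn : S ≤ Subgroup.normalizer (Q : Set Ω))

noncomputable instance fintypeRlamZ : Fintype (R (D.lamZ Q hQS)) := Fintype.ofFinite _

noncomputable instance fintypeRrho : Fintype (R D.ρ) := Fintype.ofFinite _

/-- the section of the orbit map of the centre of `Q` -/
noncomputable def sec (r : R (D.lamZ Q hQS)) : D.X := Quotient.out r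

theorem sec_spec (r : R (D.lamZ Q hQS)) : Quotient.mk (rel (D.lamZ Q hQS)) (D.sec Q hQS r) = r :=
  Quotient.out_eq r

variable {Q hQS}

theorem HasType.mk_rho {x : D.X} {α : MulAut ↥Q} (h : D.HasType Q hQS x α) (q : ↥Q) :
    Quotient.mk (rel D.ρ) (((D.iQ Q hQS q : Gr D.ρ) : Equiv.Perm D.X) x) = Quotient.mk (rel D.ρ) x := by
  rw [h q, mk_smul_eq]

variable (Q hQS)

variable [Fact p.Prime] [Finite S]

/-- the fixed points of `Q` on the orbit space of the right action -/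
noncomputable def fixQ : Finset (R D.ρ) := by
  classical
  exact Finset.univ.filter (fun r => ∀ q : ↥Q, bar D.ρ (D.iQ Q hQS q) r = r)

omit [Fact p.Prime] [Finite S] in
theorem mem_fixQ_iff (r : R D.ρ) : r ∈ D.fixQ Q hQS ↔ ∀ q : ↥Q, bar D.ρ (D.iQ Q hQS q) r = r := by
  unfold fixQ
  simp

omit [Finite S] in
theorem card_fixQ (hS : IsPGroup p S) : ¬ p ∣ (D.fixQ Q hQS).card := by
  classical
  let _ : MulAction ↥Q (R D.ρ) := MulAction.compHom (R D.ρ) ((barHom D.ρ).comp (D.iQ Q hQS))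
  have hsm : ∀ (q : ↥Q) (r : R D.ρ), q • r = bar D.ρ (D.iQ Q hQS q) r := fun s r => rfl
  have hQp : IsPGroup p ↥Q := hS.of_injective (Subgroup.inclusion hQS) (Subgroup.inclusion_injective hQS)
  have h1 := hQp.card_modEq_card_fixedPoints (R D.ρ)
  have h2 : Nat.card ↑(MulAction.fixedPoints ↥Q (R D.ρ)) = (D.fixQ Q hQS).card := by
    apply Nat.subtype_card
    intro r
    rw [mem_fixQ_iff, MulAction.mem_fixedPoints]
    constructor
    · intro h q; rw [hsm]; exact h q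
    · intro h q; rw [← hsm]; exact h q
  rw [h2] at h1
  intro hdvd
  apply D.hcard
  exact (Nat.modEq_zero_iff_dvd).mp (h1.trans ((Nat.modEq_zero_iff_dvd).mpr hdvd))

omit [Fact p.Prime] [Finite S] in
theorem Yp.mk_rho_lamZ {x : D.X} (hx : D.Yp Q hQS hn x) (z : ↥(Subgroup.center ↥Q)) :
    Quotient.mk (rel D.ρ) (D.lamZ Q hQS z x) = Quotient.mk (rel D.ρ) x := by
  obtain ⟨α, hα, -⟩ := hx
  rw [lamZ_apply]
  exact hα.mk_rho D _

omit [Fact p.Prime] [Finite S] in
/-- on a point with a type, the right action of an element of `S` centralizing `Q` is the left action of an element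
of the centre of `Q` -/
theorem HasType.exists_lamZ_eq_rho {x : D.X} {α : MulAut ↥Q} (h : D.HasType Q hQS x α)
    (hcen : centralizerIn S Q ≤ Q) (s : ↥S) (hs : conjS Q hn s = 1) :
    ∃ z : ↥(Subgroup.center ↥Q), D.lamZ Q hQS z x = D.ρ s x := by
  have hcomm : ∀ q : ↥Q, (s : Ω) * q * (s : Ω)⁻¹ = q := by
    intro q
    rw [← conjS_apply Q hn s q, hs]
    rfl
  have hsC : (s : Ω) ∈ centralizerIn S Q := by
    refine ⟨s.2, Subgroup.mem_centralizer_iff.mpr ?_⟩
    intro q hq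
    have := hcomm ⟨q, hq⟩
    rw [mul_inv_eq_iff_eq_mul] at this
    exact this.symm
  have hsQ : (s : Ω) ∈ Q := hcen hsC
  have hcenter : (⟨s, hsQ⟩ : ↥Q)⁻¹ ∈ Subgroup.center ↥Q := by
    apply Subgroup.inv_mem
    rw [Subgroup.mem_center_iff]
    intro q
    apply Subtype.ext
    have := hcomm q
    rw [mul_inv_eq_iff_eq_mul] at this
    exact this.symm
  have hz : α⁻¹ (⟨s, hsQ⟩ : ↥Q)⁻¹ ∈ Subgroup.center ↥Q := by
    rw [Subgroup.mem_center_iff] at hcenter ⊢
    intro q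
    have h1 := hcenter (α q)
    have h2 := congrArg (α⁻¹ : MulAut ↥Q) h1
    rw [map_mul, map_mul, MulAut.inv_apply_self] at h2
    exact h2
  refine ⟨⟨_, hz⟩, ?_⟩
  rw [lamZ_apply]
  have h3 := h (α⁻¹ (⟨s, hsQ⟩ : ↥Q)⁻¹)
  rw [MulAut.apply_inv_self] at h3
  refine h3.trans ?_
  congr 2
  apply Subtype.ext
  simp

theorem card_orbs_eq (hsc : F.StronglyClosed Q) (hcen : centralizerIn S Q ≤ Q) :
    (orbs (D.lamZ Q hQS) (D.sec Q hQS) (D.Yp Q hQS hn)).card = (D.fixQ Q hQS).card := by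
  have hY := D.Yp_lamZ Q hQS hn
  apply Finset.card_bij (fun r _ => Quotient.mk (rel D.ρ) (D.sec Q hQS r))
  · intro r hr
    rw [mem_orbs_iff] at hr
    obtain ⟨α, hα, -⟩ := hr
    rw [mem_fixQ_iff]
    intro q
    rw [bar_mk]
    exact hα.mk_rho D q
  · intro r₁ hr₁ r₂ hr₂ h12
    rw [mem_orbs_iff] at hr₁ hr₂
    obtain ⟨α₁, hα₁, hr1⟩ := hr₁
    obtain ⟨α₂, hα₂, hr2⟩ := hr₂
    obtain ⟨s, hs⟩ := Quotient.exact h12
    -- ρ s (sec r₁) = sec r₂
    have hs' : D.ρ s (D.sec Q hQS r₁) = D.sec Q hQS r₂ := hs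
    have h1 := hα₁.rho D s (hn s.2)
    rw [hs'] at h1
    have h2 : α₂ = conjS Q hn s * α₁ := hα₂.unique D h1
    have h3 := eq_of_retr_eq Q hn hr1 hr2 s h2
    have h4 : conjS Q hn s = 1 := by
      rw [h3] at h2
      have := congrArg (fun β => β * α₁⁻¹) h2
      simp only [mul_inv_cancel, mul_inv_cancel_right] at this
      exact this.symm
    obtain ⟨z, hz⟩ := hα₁.exists_lamZ_eq_rho D Q hQS hn hcen s h4
    rw [hs'] at hz
    rw [← D.sec_spec Q hQS r₁, ← D.sec_spec Q hQS r₂, ← hz]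
    exact (mk_smul_eq (D.lamZ Q hQS) z _).symm
  · intro r' hr'
    rw [mem_fixQ_iff] at hr'
    obtain ⟨x, rfl⟩ := Quotient.exists_rep r'
    have hx : ∀ q : ↥Q, ∃ b : ↥S, ((D.iQ Q hQS q : Gr D.ρ) : Equiv.Perm D.X) x = D.ρ b x := by
      intro q
      have h1 := hr' q
      rw [bar_mk] at h1
      obtain ⟨b, hb⟩ := Quotient.exact h1
      refine ⟨b⁻¹, ?_⟩
      have e : ((D.iQ Q hQS q : Gr D.ρ) : Equiv.Perm D.X) x =
          D.ρ b⁻¹ (D.ρ b (((D.iQ Q hQS q : Gr D.ρ) : Equiv.Perm D.X) x)) := by simp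
      rw [e, hb]
    obtain ⟨α, hα⟩ := D.exists_hasType hsc x hx
    obtain ⟨s, hs⟩ := retr_spec Q hn α
    have hy : D.Yp Q hQS hn (D.ρ s x) := ⟨retr Q hn α, by rw [hs]; exact hα.rho D s (hn s.2), retr_retr Q hn α⟩
    refine ⟨Quotient.mk (rel (D.lamZ Q hQS)) (D.ρ s x), ?_, ?_⟩
    · rw [mk_mem_orbs_iff (D.lamZ Q hQS) (D.sec Q hQS) (D.sec_spec Q hQS) (D.Yp Q hQS hn) hY]
      exact hy
    · have h1 := dl_spec (D.lamZ Q hQS) (D.sec Q hQS) (D.sec_spec Q hQS) (D.ρ s x)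
      have h2 : D.Yp Q hQS hn (D.sec Q hQS (Quotient.mk (rel (D.lamZ Q hQS)) (D.ρ s x))) :=
        (yp_sigma_mk_iff (D.lamZ Q hQS) (D.sec Q hQS) (D.sec_spec Q hQS) (D.Yp Q hQS hn) hY _).mpr hy
      have h3 := Yp.mk_rho_lamZ D Q hQS hn h2
        (dl (D.lamZ Q hQS) (D.sec Q hQS) (D.sec_spec Q hQS) (D.ρ s x))
      rw [h1, mk_smul_eq] at h3
      exact h3.symm

/-- the number of orbits of the centre of `Q` on the points whose type lies in the transversal is prime to `p` -/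
theorem card_orbs_not_dvd (hS : IsPGroup p S) (hsc : F.StronglyClosed Q) (hcen : centralizerIn S Q ≤ Q) :
    ¬ p ∣ (orbs (D.lamZ Q hQS) (D.sec Q hQS) (D.Yp Q hQS hn)).card := by
  rw [D.card_orbs_eq Q hQS hn hsc hcen]
  exact D.card_fixQ Q hQS hS

end BisetData

end Cfsg.Agent.Lib.Helper7.ModelEx
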