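import Mathlib
import Cfsg.Prelude.Def_FusionSystem
import Cfsg.Agent.Lib.Helper7.ModelExE

/-!
# Models of constrained fusion systems, part F: the determinant of the centralizer of `Q` in the commuting group
-/

set_option autoImplicit false

universe u

namespace Cfsg.Agent.Lib.Helper7.ModelEx

open Cfsg Cfsg.FusionSystem Cfsg.Agent.Lib.Helper7 Cfsg.Agent.Lib.Helper7.BisetTransfer
  Cfsg.Agent.Lib.Helper7.TateFus Cfsg.Agent.Lib.Helper7.YoshidaFus

open scoped IsMulCommutative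

variable {Ω : Type u} [Group Ω] {S : Subgroup Ω} {F : FusionSystem S} {p : ℕ}

/-- the endomorphism of the centre induced by an automorphism -/
def centerMap {Q : Type*} [Group Q] (α : MulAut Q) : ↥(Subgroup.center Q) →* ↥(Subgroup.center Q) :=
  (α.toMonoidHom.comp (Subgroup.center Q).subtype).codRestrict (Subgroup.center Q) (by
    intro z
    rw [Subgroup.mem_center_iff]
    intro q
    have h1 := (Subgroup.mem_center_iff.mp z.2) (α⁻¹ q)
    have h2 := congrArg α h1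
    rw [map_mul, map_mul, MulAut.apply_inv_self] at h2
    exact h2)

theorem centerMap_apply {Q : Type*} [Group Q] (α : MulAut Q) (z : ↥(Subgroup.center Q)) :
    ((centerMap α z : ↥(Subgroup.center Q)) : Q) = α z := rfl

namespace BisetData

variable (D : BisetData F p) (Q : Subgroup Ω) (hQS : Q ≤ S) (hn : S ≤ Subgroup.normalizer (Q : Set Ω))

/-- elements of the centralizer of `Q`, as elements of the commuting group of the left action of the centre -/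
def toGrZ : ↥(D.CQ Q hQS) →* Gr (D.lamZ Q hQS) where
  toFun c := ⟨((c : Gr D.ρ) : Equiv.Perm D.X), D.mem_Gr_lamZ_of_mem_CQ Q hQS c.1 c.2⟩
  map_one' := rfl
  map_mul' _ _ := rfl

theorem toGrZ_coe (c : ↥(D.CQ Q hQS)) :
    ((D.toGrZ Q hQS c : Gr (D.lamZ Q hQS)) : Equiv.Perm D.X) = ((c : Gr D.ρ) : Equiv.Perm D.X) := rfl

variable [Fact p.Prime]

/-- the determinant of the centralizer of `Q` -/
noncomputable def delta : ↥(D.CQ Q hQS) →* ↥(Subgroup.center ↥Q) :=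
  MonoidHom.mk' (fun c => PD (D.lamZ Q hQS) (D.sec Q hQS) (D.sec_spec Q hQS) (D.Yp Q hQS hn) (D.toGrZ Q hQS c))
    (by
      intro c c'
      rw [map_mul]
      exact PD_mul (D.lamZ Q hQS) (D.lamZ_free Q hQS) (D.sec Q hQS) (D.sec_spec Q hQS) (D.Yp Q hQS hn)
        (D.Yp_lamZ Q hQS hn) _ _ (fun x hx => D.Yp_CQ Q hQS hn c'.1 c'.2 x hx))

theorem delta_apply (c : ↥(D.CQ Q hQS)) : D.delta Q hQS hn c =
    PD (D.lamZ Q hQS) (D.sec Q hQS) (D.sec_spec Q hQS) (D.Yp Q hQS hn) (D.toGrZ Q hQS c) := rfl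

/-- the determinant of an element of the centre of `Q` -/
theorem delta_iQ (z : ↥(Subgroup.center ↥Q)) :
    D.delta Q hQS hn ⟨D.iQ Q hQS z, D.iQ_center_mem_CQ Q hQS z⟩ =
      z ^ (orbs (D.lamZ Q hQS) (D.sec Q hQS) (D.Yp Q hQS hn)).card := by
  rw [delta_apply]
  exact PD_lam (D.lamZ Q hQS) (D.lamZ_free Q hQS) (D.sec Q hQS) (D.sec_spec Q hQS) (D.Yp Q hQS hn) z
    (D.mem_Gr_lamZ_of_mem_CQ Q hQS _ (D.iQ_center_mem_CQ Q hQS z))

/-- the type of a point, by choice -/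
noncomputable def typeOf (x : D.X) : MulAut ↥Q := by
  classical
  exact if h : ∃ α, D.HasType Q hQS x α then Classical.choose h else 1

omit [Fact p.Prime] in
theorem typeOf_eq {x : D.X} {α : MulAut ↥Q} (h : D.HasType Q hQS x α) : D.typeOf Q hQS x = α := by
  have hex : ∃ α, D.HasType Q hQS x α := ⟨α, h⟩
  unfold typeOf
  rw [dif_pos hex]
  exact (Classical.choose_spec hex).unique D h

/-- the correcting element -/
noncomputable def sOf (β : MulAut ↥Q) : ↥S := Classical.choose (retr_spec Q hn β)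

theorem sOf_spec (β : MulAut ↥Q) : retr Q hn β = conjS Q hn (sOf Q hn β) * β :=
  Classical.choose_spec (retr_spec Q hn β)

/-- the semilinear map attached to an element of the normalizer -/
noncomputable def fg (g : ↥(D.NQ Q hQS)) (x : D.X) : D.X :=
  D.ρ (sOf Q hn (D.typeOf Q hQS x * (D.pi Q hQS g)⁻¹)) (((g : Gr D.ρ) : Equiv.Perm D.X) x)

theorem fg_eq (g : ↥(D.NQ Q hQS)) {x : D.X} {α : MulAut ↥Q} (h : D.HasType Q hQS x α) :
    D.fg Q hQS hn g x = D.ρ (sOf Q hn (α * (D.pi Q hQS g)⁻¹)) (((g : Gr D.ρ) : Equiv.Perm D.X) x) := by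
  unfold fg
  rw [D.typeOf_eq Q hQS h]

theorem fg_hasType (g : ↥(D.NQ Q hQS)) {x : D.X} {α : MulAut ↥Q} (h : D.HasType Q hQS x α) :
    D.HasType Q hQS (D.fg Q hQS hn g x) (retr Q hn (α * (D.pi Q hQS g)⁻¹)) := by
  rw [D.fg_eq Q hQS hn g h, sOf_spec Q hn]
  exact (h.smul D g).rho D _ (hn (sOf Q hn (α * (D.pi Q hQS g)⁻¹)).2)

theorem Yp_fg (g : ↥(D.NQ Q hQS)) (x : D.X) (hx : D.Yp Q hQS hn x) : D.Yp Q hQS hn (D.fg Q hQS hn g x) := by
  obtain ⟨α, hα, -⟩ := hx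
  exact ⟨_, D.fg_hasType Q hQS hn g hα, retr_retr Q hn _⟩

omit [Fact p.Prime] in
theorem conj_mem_CQ (g : Gr D.ρ) (hg : g ∈ D.NQ Q hQS) (c : Gr D.ρ) (hc : c ∈ D.CQ Q hQS) :
    g * c * g⁻¹ ∈ D.CQ Q hQS := by
  exact (Subgroup.normal_subgroupOf_iff (Subgroup.centralizer_le_normalizer _)).mp
    (Subgroup.normal_subgroupOf_centralizer_normalizer ((D.iQ Q hQS).range : Set (Gr D.ρ))) c g hc hg

/-- equivariance of the determinant -/
theorem delta_conj (g : ↥(D.NQ Q hQS)) (c : ↥(D.CQ Q hQS)) :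
    D.delta Q hQS hn ⟨(g : Gr D.ρ) * c * (g : Gr D.ρ)⁻¹, D.conj_mem_CQ Q hQS g.1 g.2 c.1 c.2⟩ =
      centerMap (D.pi Q hQS g) (D.delta Q hQS hn c) := by
  rw [delta_apply, delta_apply]
  apply PD_semilinear (D.lamZ Q hQS) (D.lamZ_free Q hQS) (D.sec Q hQS) (D.sec_spec Q hQS) (D.Yp Q hQS hn)
    (D.Yp_lamZ Q hQS hn) (D.fg Q hQS hn g) (centerMap (D.pi Q hQS g)) (D.toGrZ Q hQS c)
  · exact D.Yp_fg Q hQS hn g
  · -- semilinearity
    intro x b hx
    obtain ⟨α, hα, -⟩ := hx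
    have hα' : D.HasType Q hQS (D.lamZ Q hQS b x) α := hα.smul_CQ D _ (D.iQ_center_mem_CQ Q hQS b)
    rw [D.fg_eq Q hQS hn g hα', D.fg_eq Q hQS hn g hα, lamZ_apply, lamZ_apply]
    have h1 : ((g : Gr D.ρ) : Equiv.Perm D.X) (((D.iQ Q hQS b : Gr D.ρ) : Equiv.Perm D.X) x) =
        ((D.iQ Q hQS (D.pi Q hQS g b) : Gr D.ρ) : Equiv.Perm D.X) (((g : Gr D.ρ) : Equiv.Perm D.X) x) := by
      have := D.pi_spec' Q hQS g b
      have h2 : (((g : Gr D.ρ) * D.iQ Q hQS b : Gr D.ρ) : Equiv.Perm D.X) x =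
          ((D.iQ Q hQS (D.pi Q hQS g b) * (g : Gr D.ρ) : Gr D.ρ) : Equiv.Perm D.X) x := by rw [this]
      exact h2
    rw [h1, ← comm_of_mem D.ρ (D.iQ Q hQS (D.pi Q hQS g b)).2]
    rfl
  · -- injectivity on orbits
    intro x x' hx hx' h
    obtain ⟨α, hα, hrα⟩ := hx
    obtain ⟨α', hα', hrα'⟩ := hx'
    obtain ⟨z, hz⟩ := Quotient.exact h
    have hz' : D.lamZ Q hQS z (D.fg Q hQS hn g x) = D.fg Q hQS hn g x' := hz
    have ht1 := (D.fg_hasType Q hQS hn g hα).smul_CQ D _ (D.iQ_center_mem_CQ Q hQS z)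
    rw [← lamZ_apply, hz'] at ht1
    have ht2 := D.fg_hasType Q hQS hn g hα'
    have ht := ht1.unique D ht2
    rw [sOf_spec Q hn, sOf_spec Q hn] at ht
    have hαα' : α' = conjS Q hn ((sOf Q hn (α' * (D.pi Q hQS g)⁻¹))⁻¹ * sOf Q hn (α * (D.pi Q hQS g)⁻¹)) * α := by
      have h3 := congrArg (fun β => (conjS Q hn (sOf Q hn (α' * (D.pi Q hQS g)⁻¹)))⁻¹ * β * D.pi Q hQS g) ht
      simp only [mul_assoc, inv_mul_cancel, mul_one, inv_mul_cancel_left] at h3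
      rw [map_mul, map_inv, mul_assoc]
      exact h3.symm
    have heq := eq_of_retr_eq Q hn hrα hrα' _ hαα'
    subst heq
    rw [D.fg_eq Q hQS hn g hα, D.fg_eq Q hQS hn g hα', lamZ_apply,
      comm_of_mem D.ρ (D.iQ Q hQS z).2] at hz'
    have h4 := (D.ρ _).injective hz'
    -- x' = ι ((π g)⁻¹ z) x
    have h5 : x' = D.lamZ Q hQS (centerMap (D.pi Q hQS g)⁻¹ z) x := by
      rw [lamZ_apply]
      have h6 := D.pi_inv_spec Q hQS g z
      have h7 : ((D.iQ Q hQS ((D.pi Q hQS g)⁻¹ z) : Gr D.ρ) : Equiv.Perm D.X) x =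
          (((g : Gr D.ρ)⁻¹ * D.iQ Q hQS z * (g : Gr D.ρ) : Gr D.ρ) : Equiv.Perm D.X) x := by rw [h6]
      rw [centerMap_apply, h7]
      show x' = ((g : Gr D.ρ)⁻¹ : Equiv.Perm D.X) (((D.iQ Q hQS z : Gr D.ρ) : Equiv.Perm D.X)
        (((g : Gr D.ρ) : Equiv.Perm D.X) x))
      rw [h4]
      simp
    rw [h5, mk_smul_eq]
  · exact fun x hx => D.Yp_CQ Q hQS hn c.1 c.2 x hx
  · -- intertwining
    intro x hx
    obtain ⟨α, hα, -⟩ := hx
    have hα' : D.HasType Q hQS (((c : Gr D.ρ) : Equiv.Perm D.X) x) α := hα.smul_CQ D c.1 c.2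
    rw [toGrZ_coe, toGrZ_coe, D.fg_eq Q hQS hn g hα', D.fg_eq Q hQS hn g hα]
    rw [comm_of_mem D.ρ ((g : Gr D.ρ) * c * (g : Gr D.ρ)⁻¹ : Gr D.ρ).2]
    congr 1
    simp

end BisetData

end Cfsg.Agent.Lib.Helper7.ModelEx
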