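import Mathlib
import Cfsg.Prelude.Def_FusionSystem
import Cfsg.Agent.Lib.Helper7.ModelExF

/-!
# Models of constrained fusion systems, part G: the kernel of the determinant and the quotient group
-/

set_option autoImplicit false

universe u

namespace Cfsg.Agent.Lib.Helper7.ModelEx

open Cfsg Cfsg.FusionSystem Cfsg.Agent.Lib.Helper7 Cfsg.Agent.Lib.Helper7.BisetTransfer
  Cfsg.Agent.Lib.Helper7.TateFus Cfsg.Agent.Lib.Helper7.YoshidaFus

open scoped IsMulCommutative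

variable {Ω : Type u} [Group Ω] {S : Subgroup Ω} {F : FusionSystem S} {p : ℕ}

namespace BisetData

variable (D : BisetData F p) (Q : Subgroup Ω) (hQS : Q ≤ S) (hn : S ≤ Subgroup.normalizer (Q : Set Ω))
  [Fact p.Prime]

/-- the kernel of the determinant, as a subgroup of the commuting group -/
noncomputable def CQ' : Subgroup (Gr D.ρ) := (D.delta Q hQS hn).ker.map (D.CQ Q hQS).subtype

theorem mem_CQ'_iff (c : Gr D.ρ) :
    c ∈ D.CQ' Q hQS hn ↔ ∃ hc : c ∈ D.CQ Q hQS, D.delta Q hQS hn ⟨c, hc⟩ = 1 := by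
  unfold CQ'
  constructor
  · rintro ⟨c', hc', rfl⟩
    exact ⟨c'.2, MonoidHom.mem_ker.mp hc'⟩
  · rintro ⟨hc, h⟩
    exact ⟨⟨c, hc⟩, MonoidHom.mem_ker.mpr h, rfl⟩

theorem CQ'_le_CQ : D.CQ' Q hQS hn ≤ D.CQ Q hQS := fun c hc => ((D.mem_CQ'_iff Q hQS hn c).mp hc).1

theorem CQ'_le_NQ : D.CQ' Q hQS hn ≤ D.NQ Q hQS := (D.CQ'_le_CQ Q hQS hn).trans (D.CQ_le_NQ Q hQS)

theorem conj_mem_CQ' (g : Gr D.ρ) (hg : g ∈ D.NQ Q hQS) (c : Gr D.ρ) (hc : c ∈ D.CQ' Q hQS hn) :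
    g * c * g⁻¹ ∈ D.CQ' Q hQS hn := by
  obtain ⟨hcC, hd⟩ := (D.mem_CQ'_iff Q hQS hn c).mp hc
  rw [mem_CQ'_iff]
  refine ⟨D.conj_mem_CQ Q hQS g hg c hcC, ?_⟩
  have := D.delta_conj Q hQS hn ⟨g, hg⟩ ⟨c, hcC⟩
  rw [hd, map_one] at this
  exact this

section splitting

variable [Finite S] (hS : IsPGroup p S) (hsc : F.StronglyClosed Q) (hcen : centralizerIn S Q ≤ Q)

include hS hsc hcen in
theorem coprime_card_center :
    (Nat.card ↥(Subgroup.center ↥Q)).Coprime (orbs (D.lamZ Q hQS) (D.sec Q hQS) (D.Yp Q hQS hn)).card := by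
  have hp : p.Prime := Fact.out
  have hfin : Finite ↥Q := finite_of_le hQS
  have hZp : IsPGroup p ↥(Subgroup.center ↥Q) := by
    apply hS.of_injective ((Subgroup.inclusion hQS).comp (Subgroup.center ↥Q).subtype)
    exact (Subgroup.inclusion_injective hQS).comp Subtype.coe_injective
  obtain ⟨k, hk⟩ := IsPGroup.iff_card.mp hZp
  rw [hk]
  apply Nat.Coprime.pow_left
  exact (Nat.Prime.coprime_iff_not_dvd hp).mpr (D.card_orbs_not_dvd Q hQS hn hS hsc hcen)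

include hS hsc hcen in
/-- the centralizer of `Q` is generated by the centre of `Q` and the kernel of the determinant -/
theorem exists_mul_mem_CQ' (c : Gr D.ρ) (hc : c ∈ D.CQ Q hQS) :
    ∃ z : ↥(Subgroup.center ↥Q), c * (D.iQ Q hQS z)⁻¹ ∈ D.CQ' Q hQS hn := by
  have hcop := D.coprime_card_center Q hQS hn hS hsc hcen
  let z : ↥(Subgroup.center ↥Q) := (powCoprime hcop).symm (D.delta Q hQS hn ⟨c, hc⟩)
  have hz : z ^ (orbs (D.lamZ Q hQS) (D.sec Q hQS) (D.Yp Q hQS hn)).card = D.delta Q hQS hn ⟨c, hc⟩ :=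
    (powCoprime hcop).apply_symm_apply _
  refine ⟨z, ?_⟩
  rw [mem_CQ'_iff]
  refine ⟨(D.CQ Q hQS).mul_mem hc ((D.CQ Q hQS).inv_mem (D.iQ_center_mem_CQ Q hQS z)), ?_⟩
  have e : (⟨c * (D.iQ Q hQS z)⁻¹, (D.CQ Q hQS).mul_mem hc ((D.CQ Q hQS).inv_mem (D.iQ_center_mem_CQ Q hQS z))⟩ :
      ↥(D.CQ Q hQS)) = ⟨c, hc⟩ * (⟨D.iQ Q hQS z, D.iQ_center_mem_CQ Q hQS z⟩ : ↥(D.CQ Q hQS))⁻¹ := rfl
  rw [e, map_mul, map_inv, D.delta_iQ Q hQS hn z, hz, mul_inv_cancel]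

include hS hsc hcen in
/-- the centre of `Q` meets the kernel of the determinant trivially -/
theorem eq_one_of_iQ_mem_CQ' (z : ↥(Subgroup.center ↥Q)) (h : D.iQ Q hQS z ∈ D.CQ' Q hQS hn) : z = 1 := by
  have hcop := D.coprime_card_center Q hQS hn hS hsc hcen
  obtain ⟨hc, hd⟩ := (D.mem_CQ'_iff Q hQS hn _).mp h
  rw [D.delta_iQ Q hQS hn z] at hd
  apply (powCoprime hcop).injective
  show z ^ _ = 1 ^ _
  rw [hd, one_pow]

include hS hsc hcen in
/-- the image of `S` meets the kernel of the determinant trivially -/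
theorem eq_one_of_iota_mem_CQ' (s : ↥S) (h : D.ι s ∈ D.CQ' Q hQS hn) : s = 1 := by
  have hC := D.CQ'_le_CQ Q hQS hn h
  rw [mem_CQ_iff] at hC
  have hcomm : ∀ q : ↥Q, (s : Ω) * q * (s : Ω)⁻¹ = q := by
    intro q
    have h1 := hC q
    rw [iQ_apply, ← map_inv, ← map_mul, ← map_mul] at h1
    have h2 := D.ι_injective h1
    exact congrArg (fun t : ↥S => (t : Ω)) h2
  have hsC : (s : Ω) ∈ centralizerIn S Q := by
    refine ⟨s.2, Subgroup.mem_centralizer_iff.mpr ?_⟩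
    intro q hq
    have := hcomm ⟨q, hq⟩
    rw [mul_inv_eq_iff_eq_mul] at this
    exact this.symm
  have hsQ : (s : Ω) ∈ Q := hcen hsC
  have hcenter : (⟨s, hsQ⟩ : ↥Q) ∈ Subgroup.center ↥Q := by
    rw [Subgroup.mem_center_iff]
    intro q
    apply Subtype.ext
    have := hcomm q
    rw [mul_inv_eq_iff_eq_mul] at this
    exact this.symm
  have h3 : D.iQ Q hQS (⟨⟨s, hsQ⟩, hcenter⟩ : ↥(Subgroup.center ↥Q)) = D.ι s := rfl
  have h4 := D.eq_one_of_iQ_mem_CQ' Q hQS hn hS hsc hcen ⟨⟨s, hsQ⟩, hcenter⟩ (by rw [h3]; exact h)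
  apply Subtype.ext
  exact congrArg (fun t : ↥(Subgroup.center ↥Q) => ((t : ↥Q) : Ω)) h4

end splitting

/-- the kernel of the determinant, inside the normalizer -/
noncomputable def KQ : Subgroup ↥(D.NQ Q hQS) := (D.CQ' Q hQS hn).subgroupOf (D.NQ Q hQS)

instance KQ_normal : (D.KQ Q hQS hn).Normal := by
  constructor
  intro c hc g
  unfold KQ at hc ⊢
  rw [Subgroup.mem_subgroupOf] at hc ⊢
  exact D.conj_mem_CQ' Q hQS hn g.1 g.2 c.1 hc

/-- the model -/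
abbrev ModelGroup : Type u := ↥(D.NQ Q hQS) ⧸ D.KQ Q hQS hn

/-- the image of `S` in the normalizer -/
noncomputable def iN : ↥S →* ↥(D.NQ Q hQS) :=
  D.ι.codRestrict (D.NQ Q hQS) (fun s => D.iota_mem_NQ Q hQS s (hn s.2))

omit [Fact p.Prime] in
theorem iN_coe (s : ↥S) : ((D.iN Q hQS hn s : ↥(D.NQ Q hQS)) : Gr D.ρ) = D.ι s := rfl

/-- the image of `S` in the model -/
noncomputable def ibar : ↥S →* D.ModelGroup Q hQS hn := (QuotientGroup.mk' (D.KQ Q hQS hn)).comp (D.iN Q hQS hn)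

theorem ibar_apply (s : ↥S) : D.ibar Q hQS hn s = QuotientGroup.mk (D.iN Q hQS hn s) := rfl

theorem mk_eq_mk_iff (g h : ↥(D.NQ Q hQS)) :
    (QuotientGroup.mk g : D.ModelGroup Q hQS hn) = QuotientGroup.mk h ↔
      (g : Gr D.ρ)⁻¹ * (h : Gr D.ρ) ∈ D.CQ' Q hQS hn := by
  rw [QuotientGroup.eq]
  unfold KQ
  rw [Subgroup.mem_subgroupOf]
  rfl

/-- the action of the model on `Q` -/
noncomputable def pibar : D.ModelGroup Q hQS hn →* MulAut ↥Q :=
  QuotientGroup.lift (D.KQ Q hQS hn) (D.pi Q hQS) (by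
    intro c hc
    unfold KQ at hc
    rw [Subgroup.mem_subgroupOf] at hc
    exact (D.pi_eq_one_iff Q hQS c).mpr (D.CQ'_le_CQ Q hQS hn hc))

theorem pibar_mk (g : ↥(D.NQ Q hQS)) : D.pibar Q hQS hn (QuotientGroup.mk g) = D.pi Q hQS g := rfl

theorem pibar_ibar (s : ↥S) : D.pibar Q hQS hn (D.ibar Q hQS hn s) = conjS Q hn s := by
  rw [ibar_apply, pibar_mk]
  exact D.pi_iota Q hQS s (hn s.2)

section splitting2

variable [Finite S] (hS : IsPGroup p S) (hsc : F.StronglyClosed Q) (hcen : centralizerIn S Q ≤ Q)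

include hS hsc hcen in
theorem ibar_injective : Function.Injective (D.ibar Q hQS hn) := by
  rw [injective_iff_map_eq_one]
  intro s hs
  rw [ibar_apply, QuotientGroup.eq_one_iff] at hs
  unfold KQ at hs
  rw [Subgroup.mem_subgroupOf] at hs
  exact D.eq_one_of_iota_mem_CQ' Q hQS hn hS hsc hcen s hs

include hS hsc hcen in
/-- the kernel of the action of the model on `Q` is the image of the centre of `Q` -/
theorem exists_center_of_pibar_eq_one (x : D.ModelGroup Q hQS hn) (hx : D.pibar Q hQS hn x = 1) :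
    ∃ z : ↥(Subgroup.center ↥Q), x = D.ibar Q hQS hn (Subgroup.inclusion hQS (z : ↥Q)) := by
  obtain ⟨g, rfl⟩ := QuotientGroup.mk_surjective x
  rw [pibar_mk, pi_eq_one_iff] at hx
  obtain ⟨z, hz⟩ := D.exists_mul_mem_CQ' Q hQS hn hS hsc hcen g.1 hx
  refine ⟨z, ?_⟩
  rw [ibar_apply, eq_comm, mk_eq_mk_iff]
  have e : ((D.iN Q hQS hn (Subgroup.inclusion hQS (z : ↥Q)) : ↥(D.NQ Q hQS)) : Gr D.ρ) = D.iQ Q hQS z := rfl
  rw [e]
  -- (iQ z)⁻¹ * g = (iQ z)⁻¹ * (g * (iQ z)⁻¹) * iQ z, a conjugate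
  have h1 := D.conj_mem_CQ' Q hQS hn (D.iQ Q hQS z)⁻¹
    ((D.NQ Q hQS).inv_mem (D.CQ_le_NQ Q hQS (D.iQ_center_mem_CQ Q hQS z))) _ hz
  have e2 : (D.iQ Q hQS z)⁻¹ * ((g : Gr D.ρ) * (D.iQ Q hQS z)⁻¹) * (D.iQ Q hQS z)⁻¹⁻¹ =
      (D.iQ Q hQS z)⁻¹ * (g : Gr D.ρ) := by group
  rw [e2] at h1
  exact h1

end splitting2

end BisetData

end Cfsg.Agent.Lib.Helper7.ModelEx
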