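import Mathlib
import Cfsg.Prelude.Def_FusionSystem
import Cfsg.Agent.Lib.Helper7.ModelExG
import Cfsg.Agent.Lib.Helper7.FusionCenterFactor

/-!
# Models of constrained fusion systems, part H: the quotient group realizes the system
-/

set_option autoImplicit false

universe u

namespace Cfsg.Agent.Lib.Helper7.ModelEx

open Cfsg Cfsg.FusionSystem Cfsg.Agent.Lib.Helper7 Cfsg.Agent.Lib.Helper7.BisetTransfer
  Cfsg.Agent.Lib.Helper7.TateFus Cfsg.Agent.Lib.Helper7.YoshidaFus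

open scoped IsMulCommutative

variable {Ω : Type u} [Group Ω] {S : Subgroup Ω} {F : FusionSystem S} {p : ℕ}

/-- A subgroup normal in a saturated system is receptive. -/
theorem isReceptive_of_isNormal [Finite S] (p : ℕ) [Fact p.Prime]
    (F : FusionSystem S) (hF : F.IsSaturated p) {Q : Subgroup Ω} (hQ : F.IsNormal Q) :
    F.IsReceptive Q := by
  obtain ⟨R, ⟨φ, hφ, hr⟩, -, hRec⟩ := hF Q hQ.1
  have := finite_of_le hQ.1
  have hle : R ≤ Q := by
    rw [← hr]
    rintro _ ⟨x, rfl⟩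
    exact (stronglyClosed_of_isNormal F hQ).2 Q le_rfl φ hφ x
  have hcard : Nat.card Q ≤ Nat.card R := by
    rw [← hr]
    exact (Nat.card_congr (Equiv.ofInjective φ (F.injective_of_mem hφ))).le
  have : R = Q := Subgroup.eq_of_le_of_card_ge hle hcard
  rw [← this]; exact hRec

namespace BisetData

variable (D : BisetData F p) (Q : Subgroup Ω) (hQS : Q ≤ S) (hn : S ≤ Subgroup.normalizer (Q : Set Ω))
  [Fact p.Prime] [Finite S] (hS : IsPGroup p S) (hF : F.IsSaturated p) (hQ : F.IsNormal Q)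
  (hcen : centralizerIn S Q ≤ Q)

omit [Finite S] in
theorem mk_conj_iN (g : ↥(D.NQ Q hQS)) (a b : ↥S)
    (h : (g : Gr D.ρ) * D.ι a * (g : Gr D.ρ)⁻¹ = D.ι b) :
    (QuotientGroup.mk g : D.ModelGroup Q hQS hn) * D.ibar Q hQS hn a * (QuotientGroup.mk g)⁻¹ =
      D.ibar Q hQS hn b := by
  rw [ibar_apply, ibar_apply, ← QuotientGroup.mk_inv, ← QuotientGroup.mk_mul, ← QuotientGroup.mk_mul]
  congr 1
  apply Subtype.ext
  exact h

include hS hF hQ hcen in
/-- the quotient group realizes the system -/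
theorem isRealizedBy_ibar : F.IsRealizedBy (D.ibar Q hQS hn) := by
  have hsc := stronglyClosed_of_isNormal F hQ
  have hinj := D.ibar_injective Q hQS hn hS hsc hcen
  refine ⟨hinj, fun P hP φ hφS => ⟨fun hφ => ?_, fun hx => ?_⟩⟩
  · obtain ⟨g, hg⟩ := D.exists_NQ_of_hom Q hQS hQ P hP φ hφ
    refine ⟨QuotientGroup.mk g, fun u => ?_⟩
    exact (D.mk_conj_iN Q hQS hn g _ _ (hg u)).symm
  · obtain ⟨x, hx⟩ := hx
    obtain ⟨g, rfl⟩ := QuotientGroup.mk_surjective x
    -- the automorphism induced on `Q`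
    have hαA := D.pi_mem_autGroup Q hQS hS g
    have hαh := (mem_autGroup_iff F hQS _).mp hαA
    have hA : ∀ u : ↥P, conjS Q hn ⟨φ u, hφS u⟩ * D.pi Q hQS g = D.pi Q hQS g * conjS Q hn ⟨u, hP u.2⟩ := by
      intro u
      have h1 := congrArg (D.pibar Q hQS hn) (hx u)
      rw [map_mul, map_mul, map_inv, pibar_ibar, pibar_ibar, pibar_mk] at h1
      rw [h1]
      group
    -- extend it by receptivity
    have hRec := isReceptive_of_isNormal p F hF hQ
    have hrange : (Q.subtype.comp (D.pi Q hQS g).toMonoidHom).range = Q := by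
      ext y
      constructor
      · rintro ⟨q, rfl⟩
        exact (D.pi Q hQS g q).2
      · intro hy
        exact ⟨(D.pi Q hQS g)⁻¹ ⟨y, hy⟩, by simp⟩
    have hRec2 := hRec.2 Q _ hαh hrange
    have hQE : Q ≤ extender S Q (Q.subtype.comp (D.pi Q hQS g).toMonoidHom) := le_extender F hαh
    have hPE : P ≤ extender S Q (Q.subtype.comp (D.pi Q hQS g).toMonoidHom) := by
      intro u hu
      apply mem_extender_of_mem (hP hu) (hn (hP hu))
      refine ⟨φ ⟨u, hu⟩, hφS _, fun x hx' => ?_⟩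
      have h1 := congrArg (fun β : MulAut ↥Q => ((β x : ↥Q) : Ω)) (hA ⟨u, hu⟩)
      simp only [MulAut.mul_apply, conjS_apply] at h1
      simp only [MonoidHom.comp_apply, Subgroup.coe_subtype, MulEquiv.coe_toMonoidHom]
      rw [h1]
      congr 2
    generalize extender S Q (Q.subtype.comp (D.pi Q hQS g).toMonoidHom) = E at hRec2 hQE hPE
    obtain ⟨ψ, hψ, hψext⟩ := hRec2
    have hES : E ≤ S := (F.le_of_mem hψ).1
    have hψQ : ∀ q : ↥Q, ψ ⟨q, hQE q.2⟩ ∈ Q := by
      intro q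
      rw [hψext q q.2 (hQE q.2)]
      exact (D.pi Q hQS g q).2
    obtain ⟨h, hh⟩ := D.exists_NQ_of_hom_of_le Q hQS E hES hQE ψ hψ hψQ
    have hπh : D.pi Q hQS h = D.pi Q hQS g := by
      apply pi_unique
      intro q
      rw [iQ_apply, iQ_apply, hh ⟨q, hQE q.2⟩]
      congr 1
      apply Subtype.ext
      exact (hψext q q.2 (hQE q.2)).symm
    -- `h⁻¹ g` centralizes `Q`
    have hker : D.pibar Q hQS hn (QuotientGroup.mk (h⁻¹ * g)) = 1 := by
      rw [pibar_mk, map_mul, map_inv, hπh, inv_mul_cancel]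
    obtain ⟨z, hz⟩ := D.exists_center_of_pibar_eq_one Q hQS hn hS hsc hcen _ hker
    have hgz : (QuotientGroup.mk g : D.ModelGroup Q hQS hn) =
        QuotientGroup.mk h * D.ibar Q hQS hn (Subgroup.inclusion hQS (z : ↥Q)) := by
      rw [← hz, ← QuotientGroup.mk_mul]
      congr 1
      group
    have hzE : ((z : ↥Q) : Ω) ∈ E := hQE (z : ↥Q).2
    have hzS : ((z : ↥Q) : Ω) ∈ S := hQS (z : ↥Q).2
    have hcz : ∀ u : ↥P, ((z : ↥Q) : Ω) * u * ((z : ↥Q) : Ω)⁻¹ ∈ E := fun u =>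
      E.mul_mem (E.mul_mem hzE (hPE u.2)) (E.inv_mem hzE)
    have key : ∀ u : ↥P, φ u = ψ ⟨((z : ↥Q) : Ω) * u * ((z : ↥Q) : Ω)⁻¹, hcz u⟩ := by
      intro u
      have h1 := hx u
      rw [hgz, mul_inv_rev, ← map_inv] at h1
      have h2 : QuotientGroup.mk h * D.ibar Q hQS hn (Subgroup.inclusion hQS (z : ↥Q)) *
          D.ibar Q hQS hn ⟨u, hP u.2⟩ * (D.ibar Q hQS hn (Subgroup.inclusion hQS (z : ↥Q))⁻¹ *
            (QuotientGroup.mk h : D.ModelGroup Q hQS hn)⁻¹) =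
          QuotientGroup.mk h * D.ibar Q hQS hn (⟨((z : ↥Q) : Ω) * u * ((z : ↥Q) : Ω)⁻¹, hES (hcz u)⟩ : ↥S) *
            (QuotientGroup.mk h : D.ModelGroup Q hQS hn)⁻¹ := by
        have e : (⟨((z : ↥Q) : Ω) * u * ((z : ↥Q) : Ω)⁻¹, hES (hcz u)⟩ : ↥S) =
            Subgroup.inclusion hQS (z : ↥Q) * ⟨u, hP u.2⟩ * (Subgroup.inclusion hQS (z : ↥Q))⁻¹ := rfl
        rw [e, map_mul, map_mul]
        group
      rw [h2, D.mk_conj_iN Q hQS hn h _ _ (hh ⟨_, hcz u⟩)] at h1
      have h3 := hinj h1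
      exact congrArg (fun t : ↥S => (t : Ω)) h3
    -- conclusion
    have hc1 := F.conj_mem (g := ((z : ↥Q) : Ω)) hP hzS
    have hval : ∀ u : ↥P, conjHom P ((z : ↥Q) : Ω) u ∈ E := fun u => hcz u
    have hc2 := F.comp_mem hc1 hψ hval
    convert hc2 using 1
    ext u
    rw [key u]
    rfl

end BisetData

end Cfsg.Agent.Lib.Helper7.ModelEx
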