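import Mathlib
import Cfsg.Prelude.Def_FusionSystem
import Cfsg.Agent.Lib.Helper7.ModelExH
import Cfsg.Agent.Lib.Helper7.AutInduced
import Cfsg.Agent.Lib.Helper7.Core
import Cfsg.Agent.Lib.Helper7.FusionSat3

/-!
# Models of constrained fusion systems, part I: existence of models
-/

set_option autoImplicit false

universe u

namespace Cfsg.Agent.Lib.Helper7.ModelEx

open Cfsg Cfsg.FusionSystem Cfsg.Agent.Lib.Helper7 Cfsg.Agent.Lib.Helper7.BisetTransfer
  Cfsg.Agent.Lib.Helper7.TateFus Cfsg.Agent.Lib.Helper7.YoshidaFus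

open scoped IsMulCommutative

variable {Ω : Type u} [Group Ω] {S : Subgroup Ω} {F : FusionSystem S} {p : ℕ}

theorem autInducedBy_eq_range_conjS (Q : Subgroup Ω) (hn : S ≤ Subgroup.normalizer (Q : Set Ω)) :
    autInducedBy S Q = (conjS Q hn).range := by
  ext α
  rw [mem_autInducedBy_iff]
  constructor
  · rintro ⟨g, hg, h⟩
    refine ⟨⟨g, hg⟩, ?_⟩
    ext x
    rw [h x]
    rfl
  · rintro ⟨s, rfl⟩
    exact ⟨s, s.2, fun x => rfl⟩

namespace BisetData

variable (D : BisetData F p) (Q : Subgroup Ω) (hQS : Q ≤ S) (hn : S ≤ Subgroup.normalizer (Q : Set Ω))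
  [Fact p.Prime] [Finite S] (hS : IsPGroup p S) (hF : F.IsSaturated p) (hQ : F.IsNormal Q)
  (hcen : centralizerIn S Q ≤ Q)

omit [Finite S] in
theorem ibar_pibar (x : D.ModelGroup Q hQS hn) (q : ↥Q) :
    D.ibar Q hQS hn (Subgroup.inclusion hQS (D.pibar Q hQS hn x q)) =
      x * D.ibar Q hQS hn (Subgroup.inclusion hQS q) * x⁻¹ := by
  obtain ⟨g, rfl⟩ := QuotientGroup.mk_surjective x
  rw [pibar_mk]
  refine (D.mk_conj_iN Q hQS hn g _ _ ?_).symm
  exact (D.pi_spec Q hQS g q).symm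

include hS in
omit [Finite S] in
theorem range_pibar [Finite S] : (D.pibar Q hQS hn).range = F.autGroup Q := by
  ext α
  constructor
  · rintro ⟨x, rfl⟩
    obtain ⟨g, rfl⟩ := QuotientGroup.mk_surjective x
    rw [pibar_mk]
    exact D.pi_mem_autGroup Q hQS hS g
  · intro hα
    obtain ⟨g, hg⟩ := D.exists_pi_eq Q hQS α hα
    exact ⟨QuotientGroup.mk g, by rw [pibar_mk, hg]⟩

include hS hQ hcen in
theorem range_ibar_eq_comap : (D.ibar Q hQS hn).range = (conjS Q hn).range.comap (D.pibar Q hQS hn) := by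
  have hsc := stronglyClosed_of_isNormal F hQ
  ext x
  rw [Subgroup.mem_comap]
  constructor
  · rintro ⟨s, rfl⟩
    exact ⟨s, (D.pibar_ibar Q hQS hn s).symm⟩
  · rintro ⟨s, hs⟩
    have h1 : D.pibar Q hQS hn (x * (D.ibar Q hQS hn s)⁻¹) = 1 := by
      rw [map_mul, map_inv, pibar_ibar, hs, mul_inv_cancel]
    obtain ⟨z, hz⟩ := D.exists_center_of_pibar_eq_one Q hQS hn hS hsc hcen _ h1
    refine ⟨Subgroup.inclusion hQS (z : ↥Q) * s, ?_⟩
    rw [map_mul, ← hz]
    group

include hS hF hQ hcen in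
theorem not_dvd_index_range_ibar : ¬ p ∣ (D.ibar Q hQS hn).range.index := by
  rw [D.range_ibar_eq_comap Q hQS hn hS hQ hcen, Subgroup.index_comap, D.range_pibar Q hQS hn hS,
    ← autInducedBy_eq_range_conjS Q hn]
  obtain ⟨-, R, hR⟩ := isFullyAutomized_of_isNormal p hS F hF hQ
  have hfin : Finite ↥Q := finite_of_le hQS
  have h1 := R.not_dvd_index
  rw [hR] at h1
  exact h1

include hS hF hQ hcen in
theorem exists_sylow_eq_range_ibar :
    ∃ T : Sylow p (D.ModelGroup Q hQS hn), (T : Subgroup (D.ModelGroup Q hQS hn)) = (D.ibar Q hQS hn).range := by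
  have hp : IsPGroup p ↥(D.ibar Q hQS hn).range :=
    hS.of_surjective (D.ibar Q hQS hn).rangeRestrict (D.ibar Q hQS hn).rangeRestrict_surjective
  exact ⟨hp.toSylow (D.not_dvd_index_range_ibar Q hQS hn hS hF hQ hcen), rfl⟩

/-- the image of `Q` in the model -/
noncomputable def Qbar : Subgroup (D.ModelGroup Q hQS hn) :=
  ((D.ibar Q hQS hn).comp (Subgroup.inclusion hQS)).range

omit [Finite S] in
theorem Qbar_normal : (D.Qbar Q hQS hn).Normal := by
  constructor
  rintro _ ⟨q, rfl⟩ x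
  refine ⟨D.pibar Q hQS hn x q, ?_⟩
  exact D.ibar_pibar Q hQS hn x q

include hS in
omit [Finite S] in
theorem Qbar_isPGroup : IsPGroup p ↥(D.Qbar Q hQS hn) := by
  have hQp : IsPGroup p ↥Q := hS.of_injective (Subgroup.inclusion hQS) (Subgroup.inclusion_injective hQS)
  exact hQp.of_surjective ((D.ibar Q hQS hn).comp (Subgroup.inclusion hQS)).rangeRestrict
    ((D.ibar Q hQS hn).comp (Subgroup.inclusion hQS)).rangeRestrict_surjective

include hS hQ hcen in
theorem centralizer_pCore_le :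
    Subgroup.centralizer ((pCore p (D.ModelGroup Q hQS hn) : Subgroup (D.ModelGroup Q hQS hn)) : Set _) ≤
      pCore p (D.ModelGroup Q hQS hn) := by
  have hsc := stronglyClosed_of_isNormal F hQ
  have hinj := D.ibar_injective Q hQS hn hS hsc hcen
  have hle : D.Qbar Q hQS hn ≤ pCore p (D.ModelGroup Q hQS hn) :=
    le_pCore (D.Qbar_normal Q hQS hn) (D.Qbar_isPGroup Q hQS hn hS)
  intro x hx
  have hx' : ∀ q : ↥Q, x * D.ibar Q hQS hn (Subgroup.inclusion hQS q) * x⁻¹ =
      D.ibar Q hQS hn (Subgroup.inclusion hQS q) := by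
    intro q
    have := (Subgroup.mem_centralizer_iff.mp hx) _ (hle ⟨q, rfl⟩)
    simp only [MonoidHom.comp_apply] at this
    rw [← this]
    group
  have h1 : D.pibar Q hQS hn x = 1 := by
    ext q
    have h2 := D.ibar_pibar Q hQS hn x q
    rw [hx' q] at h2
    have h3 := hinj h2
    exact congrArg (fun t : ↥S => (t : Ω)) h3
  obtain ⟨z, hz⟩ := D.exists_center_of_pibar_eq_one Q hQS hn hS hsc hcen x h1
  apply hle
  rw [hz]
  exact ⟨(z : ↥Q), rfl⟩

include hS hF hQ hcen in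
theorem isModel_modelGroup : F.IsModel p (D.ModelGroup Q hQS hn) (D.ibar Q hQS hn) :=
  ⟨inferInstance, D.isRealizedBy_ibar Q hQS hn hS hF hQ hcen,
    D.exists_sylow_eq_range_ibar Q hQS hn hS hF hQ hcen, D.centralizer_pCore_le Q hQS hn hS hQ hcen⟩

end BisetData

/-- Model theorem, existence -/
theorem exists_model [Finite S] (p : ℕ) [Fact p.Prime] (hS : IsPGroup p S) (F : FusionSystem S)
    (hF : F.IsConstrained p) :
    ∃ (G : Type u) (_ : Group G) (ι : S →* G), F.IsModel p G ι := by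
  obtain ⟨hsat, Q, hQ, hQc⟩ := hF
  obtain ⟨D⟩ := exists_bisetData p hS F hsat
  have hQS : Q ≤ S := hQ.1
  have hn : S ≤ Subgroup.normalizer (Q : Set Ω) := le_normalizer_of_isNormal F hQ
  have hcen : centralizerIn S Q ≤ Q := hQc.2 Q (isConj_refl F hQS)
  exact ⟨D.ModelGroup Q hQS hn, inferInstance, D.ibar Q hQS hn, D.isModel_modelGroup Q hQS hn hS hsat hQ hcen⟩

end Cfsg.Agent.Lib.Helper7.ModelEx
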