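import Mathlib
import Cfsg.Prelude.Def_FusionSystem
import Cfsg.Agent.Lib.Helper7.FusionSat3

set_option autoImplicit false

namespace Cfsg.Agent.Lib.Helper7.WCtl

open Cfsg Cfsg.FusionSystem Cfsg.Agent.Lib.Helper7

universe u

/-- `W(T)` as a subgroup of the ambient group -/
def WT (W : ∀ (Q : Type u) [Group Q], Subgroup Q) {Ω : Type u} [Group Ω] (T : Subgroup Ω) :
    Subgroup Ω := (W ↥T).map T.subtype

variable {p : ℕ} (W : ∀ (Q : Type u) [Group Q], Subgroup Q)
  (hW2 : ∀ (Q R : Type u) [Group Q] [Group R] [Finite Q], IsPGroup p Q → ∀ φ : Q ≃* R,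
    (W Q).map φ.toMonoidHom = W R)
  (hWZ : ∀ (Q : Type u) [Group Q] [Finite Q], IsPGroup p Q → Subgroup.center Q ≤ W Q)

variable {Ω : Type u} [Group Ω]

theorem WT_le (T : Subgroup Ω) : WT W T ≤ T := Subgroup.map_subtype_le _

theorem mem_WT_iff (T : Subgroup Ω) (x : Ω) :
    x ∈ WT W T ↔ ∃ h : x ∈ T, (⟨x, h⟩ : T) ∈ W ↥T := by
  constructor
  · rintro ⟨y, hy, rfl⟩; exact ⟨y.2, hy⟩
  · rintro ⟨h, hx⟩; exact ⟨⟨x, h⟩, hx, rfl⟩

include hW2 in
theorem W_equiv_mem {Q R : Type u} [Group Q] [Group R] [Finite Q] (hQ : IsPGroup p Q) (e : Q ≃* R)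
    (x : Q) : e x ∈ W R ↔ x ∈ W Q := by
  rw [← hW2 Q R hQ e]
  exact Subgroup.mem_map_iff_mem e.injective

include hW2 in
/-- transport of `W` along an injective homomorphism -/
theorem WT_map_eq {P T : Subgroup Ω} (hTP : T ≤ P) [Finite T] (hT : IsPGroup p T) (φ : P →* Ω)
    (hφ : Function.Injective φ) :
    ((WT W T).subgroupOf P).map φ = WT W ((T.subgroupOf P).map φ) := by
  set T' : Subgroup Ω := (T.subgroupOf P).map φ with hT'
  have hmem : ∀ x : T, φ ⟨x, hTP x.2⟩ ∈ T' := fun x =>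
    ⟨⟨x, hTP x.2⟩, Subgroup.mem_subgroupOf.mpr x.2, rfl⟩
  set f : T →* T' := (φ.comp (Subgroup.inclusion hTP)).codRestrict T' hmem with hf
  have hbij : Function.Bijective f := by
    constructor
    · intro a b hab
      have h1 : φ (Subgroup.inclusion hTP a) = φ (Subgroup.inclusion hTP b) :=
        congrArg Subtype.val hab
      exact Subgroup.inclusion_injective hTP (hφ h1)
    · rintro ⟨y, s, hs, rfl⟩
      exact ⟨⟨s, Subgroup.mem_subgroupOf.mp hs⟩, Subtype.ext rfl⟩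
  set e : T ≃* T' := MulEquiv.ofBijective f hbij with he
  have hcoe : ∀ x : T, ((e x : T') : Ω) = φ ⟨x, hTP x.2⟩ := fun x => rfl
  ext y
  constructor
  · rintro ⟨s, hs, rfl⟩
    obtain ⟨hsT, hsW⟩ := (mem_WT_iff W T _).mp (Subgroup.mem_subgroupOf.mp hs)
    have h1 := (W_equiv_mem W hW2 hT e ⟨s, hsT⟩).mpr hsW
    exact (mem_WT_iff W T' _).mpr ⟨(e ⟨s, hsT⟩).2, h1⟩
  · intro hy
    obtain ⟨hyT, hyW⟩ := (mem_WT_iff W T' _).mp hy
    set x : T := e.symm ⟨y, hyT⟩ with hx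
    have hex : e x = ⟨y, hyT⟩ := e.apply_symm_apply _
    have hxW : x ∈ W ↥T := by
      apply (W_equiv_mem W hW2 hT e x).mp
      rw [hex]; exact hyW
    refine ⟨⟨x, hTP x.2⟩, Subgroup.mem_subgroupOf.mpr ((mem_WT_iff W T _).mpr ⟨x.2, hxW⟩), ?_⟩
    have := hcoe x
    rw [hex] at this
    exact this.symm

include hW2 in
theorem normalizer_le_normalizer_WT (T : Subgroup Ω) [Finite T] (hT : IsPGroup p T) :
    Subgroup.normalizer (T : Set Ω) ≤ Subgroup.normalizer (WT W T : Set Ω) := by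
  intro g hg
  have hinj : Function.Injective (conjHom T g) := by
    intro a b hab
    apply Subtype.ext
    have : g * (a : Ω) * g⁻¹ = g * (b : Ω) * g⁻¹ := hab
    simpa using this
  have h1 := WT_map_eq W hW2 (le_refl T) hT (conjHom T g) hinj
  have h2 : (T.subgroupOf T).map (conjHom T g) = T := by
    ext y
    constructor
    · rintro ⟨s, -, rfl⟩
      exact (Subgroup.mem_normalizer_iff.mp hg _).mp s.2
    · intro hy
      have hy' : g⁻¹ * y * g ∈ T := by
        have := (Subgroup.mem_normalizer_iff.mp (Subgroup.inv_mem _ hg) y).mp hy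
        simpa using this
      refine ⟨⟨g⁻¹ * y * g, hy'⟩, Subgroup.mem_subgroupOf.mpr hy', ?_⟩
      show g * (g⁻¹ * y * g) * g⁻¹ = y
      group
  rw [h2] at h1
  rw [Subgroup.mem_normalizer_iff]
  intro h
  constructor
  · intro hh
    rw [← h1]
    exact ⟨⟨h, WT_le W T hh⟩, Subgroup.mem_subgroupOf.mpr hh, rfl⟩
  · intro hh
    rw [← h1] at hh
    obtain ⟨s, hs, hse⟩ := hh
    have : g * (s : Ω) * g⁻¹ = g * h * g⁻¹ := hse
    have hsh : (s : Ω) = h := by simpa using this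
    rw [← hsh]
    exact Subgroup.mem_subgroupOf.mp hs

include hWZ in
theorem mem_WT_of_central (T : Subgroup Ω) [Finite T] (hT : IsPGroup p T) {z : Ω} (hz : z ∈ T)
    (hc : ∀ t ∈ T, t * z = z * t) : z ∈ WT W T := by
  refine (mem_WT_iff W T z).mpr ⟨hz, hWZ ↥T hT ?_⟩
  rw [Subgroup.mem_center_iff]
  intro t
  apply Subtype.ext
  exact hc t t.2

end Cfsg.Agent.Lib.Helper7.WCtl
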