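import Mathlib
import Cfsg.Prelude.Def_FusionSystem
import Cfsg.Agent.Lib.Helper7.WCtlA
import Cfsg.Agent.Lib.Helper7.WCtlC
import Cfsg.Agent.Lib.Helper7.ModelExI
import Cfsg.Agent.Lib.Helper7.ModelUqC
import Cfsg.Agent.Lib.Helper7.NormalizerConstrained

set_option autoImplicit false

namespace Cfsg.Agent.Lib.Helper7.WCtl

open Cfsg Cfsg.FusionSystem Cfsg.Agent.Lib.Helper7 Cfsg.Agent.Lib.Helper7.ModelUq

universe u

variable {p : ℕ} [Fact p.Prime] (W : ∀ (Q : Type u) [Group Q], Subgroup Q)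
  (hW2 : ∀ (Q R : Type u) [Group Q] [Group R] [Finite Q], IsPGroup p Q → ∀ φ : Q ≃* R,
    (W Q).map φ.toMonoidHom = W R)
  (hWZ : ∀ (Q : Type u) [Group Q] [Finite Q], IsPGroup p Q → Subgroup.center Q ≤ W Q)
  (hC : ∀ (G : Type u) [Group G] [Finite G] (P : Sylow p G),
    Cfsg.pCore p G ⊓ Subgroup.center G = Cfsg.pCore p G ⊓
      (Subgroup.center ↥(Subgroup.normalizer
        (((W ↥(P : Subgroup G)).map (P : Subgroup G).subtype : Subgroup G) : Set G))).map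
        (Subgroup.normalizer
          (((W ↥(P : Subgroup G)).map (P : Subgroup G).subtype : Subgroup G) : Set G)).subtype)

variable {Ω : Type u} [Group Ω] {S : Subgroup Ω}

include hW2 hWZ hC in
/-- the local step: an automorphism of a fully normalized centric `D` moving the central element `z`
gives an automorphism of `W(N_S(D))` moving `z` -/
theorem local_step [Finite S] (hS : IsPGroup p S) (F : FusionSystem S) (hF : F.IsSaturated p)
    {D : Subgroup Ω} (hDn : F.IsFullyNormalized D) (hDc : F.IsCentric D) {z : Ω}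
    (hz : ∀ g ∈ S, g * z * g⁻¹ = z) (hm : Moves F z D) :
    Moves F z (WT W (normalizerIn S D)) := by
  obtain ⟨hzD, α, hα, hne⟩ := hm
  have hDS : D ≤ S := hDn.1
  set T := normalizerIn S D with hTdef
  have hTS : T ≤ S := inf_le_left
  have hDT : D ≤ T := le_inf hDS Subgroup.le_normalizer
  have hfinT : Finite ↥T := finite_of_le hTS
  have hfinD : Finite ↥D := finite_of_le hDS
  have hT : IsPGroup p ↥T := hS.to_le hTS
  obtain ⟨E, hE⟩ := exists_normalizerSystem F D hDS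
  have hEc := normalizerSystem_isConstrained p hS F hF D hDn hDc E hE
  obtain ⟨L, instL, ι, hM⟩ := ModelEx.exists_model p hT E hEc
  have hDnorm : E.IsNormal D := isNormal_normalizerSystem F hDS E hE
  have hnorm : (imQ ι D).Normal := imQ_normal p E ι hM hDnorm
  have hpg : IsPGroup p ↥(imQ ι D) := imQ_isPGroup p hT ι D
  have hle : imQ ι D ≤ pCore p L := le_pCore hnorm hpg
  obtain ⟨hfinL, ⟨hinj, hreal⟩, ⟨Sy, hSy⟩, hcent⟩ := hM
  have hzT : z ∈ T := hDT hzD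
  have hιz : ι ⟨z, hzT⟩ ∈ pCore p L := hle ((mem_imQ_iff ι hDT _).mpr ⟨⟨z, hzD⟩, rfl⟩)
  -- α is a map of E
  have hφα : D.subtype.comp α.toMonoidHom ∈ F.Hom D := (mem_autGroup_iff F hDS α).mp hα
  have hφαT : ∀ x : D, (D.subtype.comp α.toMonoidHom) x ∈ T := fun x => hDT (α x).2
  have hφαE : D.subtype.comp α.toMonoidHom ∈ E.Hom D := by
    rw [hE D]
    refine ⟨hφα, hDT, hφαT, ?_⟩
    have hsup : D ⊔ D = D := sup_idem D
    refine ⟨_, fs_mem_of_eq F hsup hφα, fun x => rfl, ?_⟩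
    ext y
    constructor
    · rintro ⟨s, hs, rfl⟩
      exact (α _).2
    · intro hy
      refine ⟨⟨(α⁻¹ ⟨y, hy⟩ : D), Subgroup.mem_sup_left (α⁻¹ ⟨y, hy⟩ : D).2⟩,
        Subgroup.mem_subgroupOf.mpr (α⁻¹ ⟨y, hy⟩ : D).2, ?_⟩
      show ((α (Subgroup.inclusion (le_of_eq hsup) _) : D) : Ω) = y
      have : Subgroup.inclusion (le_of_eq hsup)
          (⟨(α⁻¹ ⟨y, hy⟩ : D), Subgroup.mem_sup_left (α⁻¹ ⟨y, hy⟩ : D).2⟩ : ↥(D ⊔ D)) =
          α⁻¹ ⟨y, hy⟩ := Subtype.ext rfl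
      rw [this]
      simp
  obtain ⟨g, hg⟩ := (hreal D hDT _ hφαT).mp hφαE
  -- ι z is not central in L
  have hnc : ι ⟨z, hzT⟩ ∉ Subgroup.center L := by
    intro hcen
    have h1 := hg ⟨z, hzD⟩
    have h2 : g * ι ⟨z, hzT⟩ * g⁻¹ = ι ⟨z, hzT⟩ := by
      have := (Subgroup.mem_center_iff.mp hcen) g
      rw [this, mul_inv_cancel_right]
    have h3 : ι ⟨(D.subtype.comp α.toMonoidHom) ⟨z, hzD⟩, hφαT ⟨z, hzD⟩⟩ = ι ⟨z, hzT⟩ := by
      rw [h1]; exact h2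
    have h4 := congrArg Subtype.val (hinj h3)
    exact hne (Subtype.ext h4)
  -- the image of W(T)
  set V := WT W T with hVdef
  have hVT : V ≤ T := WT_le W T
  have hzV : z ∈ V := by
    apply mem_WT_of_central W hWZ T hT hzT
    intro t ht
    have := hz t (hTS ht)
    calc t * z = (t * z * t⁻¹) * t := by group
      _ = z * t := by rw [this]
  have hfinV : Finite ↥V := finite_of_le (hVT.trans hTS)
  have hWSy : ((W ↥(Sy : Subgroup L)).map (Sy : Subgroup L).subtype : Subgroup L) = imQ ι V := by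
    set e : ↥T ≃* ↥(Sy : Subgroup L) :=
      (MonoidHom.ofInjective hinj).trans (MulEquiv.subgroupCongr hSy.symm) with he
    have hcoe : ∀ x : T, ((e x : ↥(Sy : Subgroup L)) : L) = ι x := fun x => rfl
    ext y
    constructor
    · rintro ⟨s, hs, rfl⟩
      obtain ⟨x, rfl⟩ := e.surjective s
      have hx : x ∈ W ↥T := (W_equiv_mem W hW2 hT e x).mp hs
      refine (mem_imQ_iff ι hVT _).mpr ⟨⟨x, (mem_WT_iff W T _).mpr ⟨x.2, hx⟩⟩, ?_⟩
      exact hcoe x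
    · intro hy
      obtain ⟨v, rfl⟩ := (mem_imQ_iff ι hVT _).mp hy
      obtain ⟨hvT, hvW⟩ := (mem_WT_iff W T _).mp v.2
      exact ⟨e ⟨v, hvT⟩, (W_equiv_mem W hW2 hT e ⟨v, hvT⟩).mpr hvW, rfl⟩
  have hCL := hC L Sy
  rw [hWSy] at hCL
  set N := Subgroup.normalizer ((imQ ι V : Subgroup L) : Set L) with hN
  have hιzV : ι ⟨z, hzT⟩ ∈ imQ ι V := (mem_imQ_iff ι hVT _).mpr ⟨⟨z, hzV⟩, rfl⟩
  have hιzN : ι ⟨z, hzT⟩ ∈ N := Subgroup.le_normalizer hιzV
  have hncN : (⟨ι ⟨z, hzT⟩, hιzN⟩ : N) ∉ Subgroup.center ↥N := by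
    intro hcen
    apply hnc
    have : ι ⟨z, hzT⟩ ∈ pCore p L ⊓ (Subgroup.center ↥N).map N.subtype :=
      ⟨hιz, ⟨⟨ι ⟨z, hzT⟩, hιzN⟩, hcen, rfl⟩⟩
    rw [← hCL] at this
    exact this.2
  rw [Subgroup.mem_center_iff] at hncN
  obtain ⟨n, hn⟩ := not_forall.mp hncN
  have hnN : (n : L) ∈ Subgroup.normalizer ((imQ ι V : Subgroup L) : Set L) := n.2
  have hconjV : ∀ x : V, (n : L) * ι ⟨x, hVT x.2⟩ * (n : L)⁻¹ ∈ imQ ι V := fun x =>
    (Subgroup.mem_normalizer_iff.mp hnN _).mp ((mem_imQ_iff ι hVT _).mpr ⟨x, rfl⟩)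
  obtain ⟨φ, hφT, hφ⟩ := exists_hom_of_conj ι hinj hVT (n : L)
    (fun x => Subgroup.map_le_range _ _ (hconjV x))
  have hφE : φ ∈ E.Hom V := (hreal V hVT φ hφT).mpr ⟨n, hφ⟩
  have hφF : φ ∈ F.Hom V := by
    rw [hE V] at hφE
    exact hφE.1
  have hφV : ∀ x : V, φ x ∈ V := by
    intro x
    obtain ⟨v, hv⟩ := (mem_imQ_iff ι hVT _).mp (hconjV x)
    rw [← hφ x] at hv
    have := congrArg Subtype.val (hinj hv)
    simp only at this
    rw [this]
    exact v.2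
  have hr : φ.range = V := by
    apply Subgroup.eq_of_le_of_card_ge
    · rintro _ ⟨x, rfl⟩; exact hφV x
    · exact (Nat.card_congr (Equiv.ofInjective φ (F.injective_of_mem hφF))).le
  set β : MulAut V := isoOfRange φ (F.injective_of_mem hφF) hr with hβ
  refine ⟨hzV, β, ?_, fun h3 => ?_⟩
  · rw [mem_autGroup_iff F (hVT.trans hTS)]
    convert hφF using 1
    ext x
    rfl
  · have h4 : φ ⟨z, hzV⟩ = z := congrArg Subtype.val h3
    have h5 := hφ ⟨z, hzV⟩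
    have h6 : ι ⟨φ ⟨z, hzV⟩, hφT ⟨z, hzV⟩⟩ = ι ⟨z, hzT⟩ := by
      congr 1
      exact Subtype.ext h4
    rw [h6] at h5
    apply hn
    apply Subtype.ext
    show (n : L) * ι ⟨z, hzT⟩ = ι ⟨z, hzT⟩ * (n : L)
    calc (n : L) * ι ⟨z, hzT⟩ = ((n : L) * ι ⟨z, hzT⟩ * (n : L)⁻¹) * (n : L) := by group
      _ = ι ⟨z, hzT⟩ * (n : L) := by rw [← h5]

end Cfsg.Agent.Lib.Helper7.WCtl
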