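import Mathlib
import Cfsg.Prelude.Def_FusionSystem
import Cfsg.Agent.Lib.Helper7.WCtlD
import Cfsg.Agent.Lib.Helper7.FusionCentral
import Cfsg.Agent.Lib.Helper7.FusionCore
import Cfsg.Agent.Lib.Helper7.KNormalizerSat2

set_option autoImplicit false

namespace Cfsg.Agent.Lib.Helper7.WCtl

open Cfsg Cfsg.FusionSystem Cfsg.Agent.Lib.Helper7 Cfsg.Agent.Lib.Helper7.ModelUq

universe u

section general

variable {Ω : Type*} [Group Ω] {S : Subgroup Ω}

theorem central_fix (F : FusionSystem S) {Q : Subgroup Ω} (hQ : F.IsCentral Q) {z : Ω} (hzQ : z ∈ Q)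
    {P : Subgroup Ω} {φ : P →* Ω} (hφ : φ ∈ F.Hom P) (hzP : z ∈ P) : φ ⟨z, hzP⟩ = z := by
  obtain ⟨ψ, hψ, hext, hfix⟩ := hQ.2 P φ hφ
  have h1 := hext ⟨z, hzP⟩
  have h2 := hfix ⟨z, hzQ⟩
  have e : Subgroup.inclusion (le_sup_left : P ≤ P ⊔ Q) ⟨z, hzP⟩ =
      Subgroup.inclusion (le_sup_right : Q ≤ P ⊔ Q) ⟨z, hzQ⟩ := Subtype.ext rfl
  rw [← h1, e, h2]

/-- an automorphism of an overgroup `P` of `V₀` stabilizing `V₀` is a map of `N_F(V₀)` -/
theorem aut_mem_normalizerSystem (F : FusionSystem S) {V₀ : Subgroup Ω}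
    (hSn : S ≤ Subgroup.normalizer (V₀ : Set Ω))
    (N : FusionSystem (normalizerIn S V₀)) (hN : F.IsNormalizerSystem V₀ N)
    {P : Subgroup Ω} (hPS : P ≤ S) (hVP : V₀ ≤ P) (α : MulAut P) (hα : α ∈ F.autGroup P)
    (hmap : (V₀.subgroupOf P).map (P.subtype.comp α.toMonoidHom) = V₀) :
    P.subtype.comp α.toMonoidHom ∈ N.Hom P := by
  have hφ : P.subtype.comp α.toMonoidHom ∈ F.Hom P := (mem_autGroup_iff F hPS α).mp hα
  have hPT : P ≤ normalizerIn S V₀ := fun x hx => ⟨hPS hx, hSn (hPS hx)⟩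
  rw [hN P]
  refine ⟨hφ, hPT, fun x => hPT (α x).2, ?_⟩
  have hsup : P ⊔ V₀ = P := sup_eq_left.mpr hVP
  refine ⟨_, fs_mem_of_eq F hsup hφ, fun x => rfl, ?_⟩
  ext y
  constructor
  · rintro ⟨s, hs, rfl⟩
    have h1 : (P.subtype.comp α.toMonoidHom) (Subgroup.inclusion (le_of_eq hsup) s) ∈
        (V₀.subgroupOf P).map (P.subtype.comp α.toMonoidHom) :=
      ⟨Subgroup.inclusion (le_of_eq hsup) s, hs, rfl⟩
    rw [hmap] at h1
    exact h1
  · intro hy
    have h1 : y ∈ (V₀.subgroupOf P).map (P.subtype.comp α.toMonoidHom) := by rw [hmap]; exact hy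
    obtain ⟨s, hs, rfl⟩ := h1
    exact ⟨⟨s, Subgroup.mem_sup_left s.2⟩, hs, rfl⟩

end general

variable {p : ℕ} [Fact p.Prime] (W : ∀ (Q : Type u) [Group Q], Subgroup Q)
  (hW2 : ∀ (Q R : Type u) [Group Q] [Group R] [Finite Q], IsPGroup p Q → ∀ φ : Q ≃* R,
    (W Q).map φ.toMonoidHom = W R)
  (hWZ : ∀ (Q : Type u) [Group Q] [Finite Q], IsPGroup p Q → Subgroup.center Q ≤ W Q)
  (hC : ∀ (G : Type u) [Group G] [Finite G] (P : Sylow p G),
    Cfsg.pCore p G ⊓ Subgroup.center G = Cfsg.pCore p G ⊓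
      (Subgroup.center ↥(Subgroup.normalizer
        (((W ↥(P : Subgroup G)).map (P : Subgroup G).subtype : Subgroup G) : Set G))).map
        (Subgroup.normalizer
          (((W ↥(P : Subgroup G)).map (P : Subgroup G).subtype : Subgroup G) : Set G)).subtype)

variable {Ω : Type u} [Group Ω] {S : Subgroup Ω}

omit [Fact p.Prime] in
include hW2 in
theorem le_normalizer_WT [Finite S] (hS : IsPGroup p S) :
    S ≤ Subgroup.normalizer (WT W S : Set Ω) :=
  Subgroup.le_normalizer.trans (normalizer_le_normalizer_WT W hW2 S hS)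

omit [Fact p.Prime] in
include hW2 in
/-- automorphisms of `S` and of `W(S)` fix the elements of `Z(N_F(W(S)))` -/
theorem not_moves_top [Finite S] (hS : IsPGroup p S) (F : FusionSystem S)
    (N : FusionSystem (normalizerIn S (WT W S))) (hN : F.IsNormalizerSystem (WT W S) N)
    {z : Ω} (hzN : z ∈ N.center) : ¬ Moves F z S := by
  rintro ⟨hzS, α, hα, hne⟩
  have hSn := le_normalizer_WT W hW2 hS
  have hfinT : Finite ↥(normalizerIn S (WT W S)) := finite_of_le inf_le_left
  have hinj : Function.Injective (S.subtype.comp α.toMonoidHom) := fun a b hab =>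
    α.injective (Subtype.ext hab)
  have h1 := WT_map_eq W hW2 (le_refl S) hS (S.subtype.comp α.toMonoidHom) hinj
  have h2 : (S.subgroupOf S).map (S.subtype.comp α.toMonoidHom) = S := by
    ext y
    constructor
    · rintro ⟨s, -, rfl⟩
      exact (α s).2
    · intro hy
      exact ⟨α⁻¹ ⟨y, hy⟩, Subgroup.mem_subgroupOf.mpr (α⁻¹ ⟨y, hy⟩ : S).2, by simp⟩
  rw [h2] at h1
  have h3 := aut_mem_normalizerSystem F hSn N hN le_rfl (WT_le W S) α hα h1
  have h4 := central_fix N (isCentral_center N) hzN h3 hzS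
  exact hne (Subtype.ext h4)

omit [Fact p.Prime] in
include hW2 in
theorem not_moves_WT_top [Finite S] (hS : IsPGroup p S) (F : FusionSystem S)
    (N : FusionSystem (normalizerIn S (WT W S))) (hN : F.IsNormalizerSystem (WT W S) N)
    {z : Ω} (hzN : z ∈ N.center) : ¬ Moves F z (WT W S) := by
  rintro ⟨hzV, α, hα, hne⟩
  have hSn := le_normalizer_WT W hW2 hS
  have hfinT : Finite ↥(normalizerIn S (WT W S)) := finite_of_le inf_le_left
  have h2 : ((WT W S).subgroupOf (WT W S)).map ((WT W S).subtype.comp α.toMonoidHom) = WT W S := by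
    ext y
    constructor
    · rintro ⟨s, -, rfl⟩
      exact (α s).2
    · intro hy
      exact ⟨α⁻¹ ⟨y, hy⟩, Subgroup.mem_subgroupOf.mpr (α⁻¹ ⟨y, hy⟩ : WT W S).2, by simp⟩
  have h3 := aut_mem_normalizerSystem F hSn N hN (WT_le W S) le_rfl α hα h2
  have h4 := central_fix N (isCentral_center N) hzN h3 hzV
  exact hne (Subtype.ext h4)

include hW2 hWZ hC in
/-- the main induction -/
theorem fix_all [Finite S] (hS : IsPGroup p S) (F : FusionSystem S) (hF : F.IsSaturated p)
    (N : FusionSystem (normalizerIn S (WT W S))) (hN : F.IsNormalizerSystem (WT W S) N)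
    {z : Ω} (hzN : z ∈ N.center) (hz : ∀ g ∈ S, g * z * g⁻¹ = z) :
    ∀ m n : ℕ, Nat.card S ≤ n + m →
      F ≤ fixSys F z hz n ∧ ∀ T : Subgroup Ω, T ≤ S → n < Nat.card T → ¬ Moves F z (WT W T) := by
  intro m
  induction m with
  | zero =>
    intro n hn
    constructor
    · intro P φ hφ
      refine ⟨hφ, fun hlt => ?_⟩
      have := Subgroup.card_le_of_le (F.le_of_mem hφ).1
      omega
    · intro T hTS hlt
      have := Subgroup.card_le_of_le hTS
      omega
  | succ m ih =>
    intro n hn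
    obtain ⟨hP1, hQ1⟩ := ih (n + 1) (by omega)
    -- Q(n)
    have hQ : ∀ T : Subgroup Ω, T ≤ S → n < Nat.card T → ¬ Moves F z (WT W T) := by
      intro T hTS hlt hm
      by_cases hlt' : n + 1 < Nat.card T
      · exact hQ1 T hTS hlt' hm
      have hcard : Nat.card T = n + 1 := by omega
      have hTne : T ≠ S := by
        rintro rfl
        exact not_moves_WT_top W hW2 hS F N hN hzN hm
      have hfinT : Finite ↥T := finite_of_le hTS
      have hT : IsPGroup p ↥T := hS.to_le hTS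
      have hVS : WT W T ≤ S := (WT_le W T).trans hTS
      have h1 : Nat.card T < Nat.card (normalizerIn S T) := card_lt_card_normalizerIn hS hTS hTne
      have h2 : normalizerIn S T ≤ normalizerIn S (WT W T) :=
        inf_le_inf_left S (normalizer_le_normalizer_WT W hW2 T hT)
      have hfin2 : Finite ↥(normalizerIn S (WT W T)) := finite_of_le inf_le_left
      have h3 : n + 1 < Nat.card (normalizerIn S (WT W T)) := by
        have := Subgroup.card_le_of_le h2
        omega
      obtain ⟨V₁, hV₁n, -, hV₁card, hV₁m⟩ :=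
        exists_fullyNormalized_moves p hS F hF z hz (n + 1) hP1 hVS h3 hm
      obtain ⟨hDc, hDm, hDle⟩ := moves_sup_centralizerIn p hS F hF z hV₁n hV₁m
      have hDS : V₁ ⊔ centralizerIn S V₁ ≤ S := hDc.1
      have hfin3 : Finite ↥(normalizerIn S (V₁ ⊔ centralizerIn S V₁)) := finite_of_le inf_le_left
      have h4 : n + 1 < Nat.card (normalizerIn S (V₁ ⊔ centralizerIn S V₁)) := by
        have := Subgroup.card_le_of_le hDle
        omega
      obtain ⟨D₁, hD₁n, hD₁conj, hD₁card, hD₁m⟩ :=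
        exists_fullyNormalized_moves p hS F hF z hz (n + 1) hP1 hDS h4 hDm
      have hD₁c : F.IsCentric D₁ := isCentric_of_isConj F hDc hD₁conj
      have h5 := local_step W hW2 hWZ hC hS F hF hD₁n hD₁c hz hD₁m
      exact hQ1 (normalizerIn S D₁) inf_le_left hD₁card h5
    refine ⟨?_, hQ⟩
    by_contra hnot
    obtain ⟨P₀, hP₀, hP₀card, hP₀m⟩ := exists_moves_of_not_le p hS F hF z hz n hnot
    rcases hP₀ with rfl | hess
    · exact not_moves_top W hW2 hS F N hN hzN hP₀m
    · obtain ⟨hc, hn', -⟩ := hess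
      have h5 := local_step W hW2 hWZ hC hS F hF hn' hc hz hP₀m
      have hfin : Finite ↥(normalizerIn S P₀) := finite_of_le inf_le_left
      have h6 : Nat.card P₀ ≤ Nat.card (normalizerIn S P₀) :=
        Subgroup.card_le_of_le (le_inf hn'.1 Subgroup.le_normalizer)
      exact hQ (normalizerIn S P₀) inf_le_left (by omega) h5

include hW2 hWZ hC in
/-- `W` controls weak closure of elements: `Z(N_F(W(S))) = Z(F)` -/
theorem center_normalizerSystem_eq [Finite S] (hS : IsPGroup p S) (F : FusionSystem S)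
    (hF : F.IsSaturated p)
    (N : FusionSystem (normalizerIn S (WT W S))) (hN : F.IsNormalizerSystem (WT W S) N) :
    N.center = F.center := by
  have hSn := le_normalizer_WT W hW2 hS
  have hTS : normalizerIn S (WT W S) ≤ S := inf_le_left
  have hST : S ≤ normalizerIn S (WT W S) := fun x hx => ⟨hx, hSn hx⟩
  have hfinT : Finite ↥(normalizerIn S (WT W S)) := finite_of_le hTS
  have hT : IsPGroup p ↥(normalizerIn S (WT W S)) := hS.to_le hTS
  have hVS : WT W S ≤ S := WT_le W S
  have hVn : F.IsFullyNormalized (WT W S) := by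
    refine ⟨hVS, fun Q _ => ?_⟩
    have h1 : normalizerIn S Q ≤ normalizerIn S (WT W S) := (inf_le_left).trans hST
    exact Subgroup.card_le_of_le h1
  have hNsat : N.IsSaturated p := normalizerSystem_isSaturated p hS F hF (WT W S) hVn N hN
  have hNF : ∀ (P : Subgroup Ω) (φ : P →* Ω), φ ∈ N.Hom P → φ ∈ F.Hom P := by
    intro P φ hφ
    rw [hN P] at hφ
    exact hφ.1
  apply le_antisymm
  · -- Z(N) ≤ Z(F)
    apply le_sSup
    show F.IsCentral N.center
    have hNc := isCentral_center N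
    rw [isCentral_iff_conj_singletons p hS F hF]
    refine ⟨hNc.1.trans hTS, fun z hzN y hy => ?_⟩
    have hzS : z ∈ S := hTS (hNc.1 hzN)
    have hz : ∀ g ∈ S, g * z * g⁻¹ = z := by
      intro g hg
      have hle : Subgroup.zpowers z ≤ normalizerIn S (WT W S) :=
        Subgroup.zpowers_le.mpr (hNc.1 hzN)
      have h1 := N.conj_mem hle (hST hg)
      exact central_fix N hNc hzN h1 (Subgroup.mem_zpowers z)
    obtain ⟨h1, -⟩ := fix_all W hW2 hWZ hC hS F hF N hN hzN hz (Nat.card S) 0 (by omega)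
    obtain ⟨φ, hφ, rfl⟩ := hy
    have hfinz : Finite ↥(Subgroup.zpowers z) := finite_of_le (Subgroup.zpowers_le.mpr hzS)
    have h2 := (h1 _ hφ).2 Nat.card_pos ⟨z, Subgroup.mem_zpowers z⟩
    exact h2.mpr rfl
  · -- Z(F) ≤ Z(N)
    apply le_sSup
    show N.IsCentral F.center
    have hFc := isCentral_center F
    rw [isCentral_iff_conj_singletons p hT N hNsat]
    refine ⟨hFc.1.trans hST, fun z hzF y hy => ?_⟩
    obtain ⟨φ, hφ, rfl⟩ := hy
    exact central_fix F hFc hzF (hNF _ _ hφ) (Subgroup.mem_zpowers z)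

end Cfsg.Agent.Lib.Helper7.WCtl
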