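import Mathlib
import Cfsg.Prelude.Def_FusionSystem
import Cfsg.Agent.Lib.Helper7.WCtlE

set_option autoImplicit false

namespace Cfsg.Agent.Lib.Helper7.WCtl

open Cfsg Cfsg.FusionSystem Cfsg.Agent.Lib.Helper7 Cfsg.Agent.Lib.Helper7.ModelUq

universe u

variable {p : ℕ} [Fact p.Prime] (W : ∀ (Q : Type u) [Group Q], Subgroup Q)
  (hW2 : ∀ (Q R : Type u) [Group Q] [Group R] [Finite Q], IsPGroup p Q → ∀ φ : Q ≃* R,
    (W Q).map φ.toMonoidHom = W R)
  (hWZ : ∀ (Q : Type u) [Group Q] [Finite Q], IsPGroup p Q → Subgroup.center Q ≤ W Q)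

variable {Ω : Type u} [Group Ω] {S : Subgroup Ω}

include hW2 hWZ in
/-- the local step, with the group-theoretic input as a hypothesis on the models of `N_F(D)` -/
theorem local_step_of [Finite S] (hS : IsPGroup p S) (F : FusionSystem S) (hF : F.IsSaturated p)
    {D : Subgroup Ω} (hDn : F.IsFullyNormalized D) (hDc : F.IsCentric D) {z : Ω}
    (hz : ∀ g ∈ S, g * z * g⁻¹ = z)
    (hloc : ∀ (L : Type u) [Group L] [Finite L] (ι : ↥(normalizerIn S D) →* L) (Sy : Sylow p L),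
      Function.Injective ι → (Sy : Subgroup L) = ι.range →
      Subgroup.centralizer ((pCore p L : Subgroup L) : Set L) ≤ pCore p L →
      ∀ hzT : z ∈ normalizerIn S D, ι ⟨z, hzT⟩ ∈ pCore p L →
      (∀ n ∈ Subgroup.normalizer
        (((W ↥(Sy : Subgroup L)).map (Sy : Subgroup L).subtype : Subgroup L) : Set L),
        n * ι ⟨z, hzT⟩ = ι ⟨z, hzT⟩ * n) → ι ⟨z, hzT⟩ ∈ Subgroup.center L)
    (hm : Moves F z D) :
    Moves F z (WT W (normalizerIn S D)) := by
  obtain ⟨hzD, α, hα, hne⟩ := hm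
  have hDS : D ≤ S := hDn.1
  set T := normalizerIn S D with hTdef
  have hTS : T ≤ S := inf_le_left
  have hDT : D ≤ T := le_inf hDS Subgroup.le_normalizer
  have hfinT : Finite ↥T := finite_of_le hTS
  have hfinD : Finite ↥D := finite_of_le hDS
  have hT : IsPGroup p ↥T := hS.to_le hTS
  obtain ⟨E, hE⟩ := exists_normalizerSystem F D hDS
  have hEc := normalizerSystem_isConstrained p hS F hF D hDn hDc E hE
  obtain ⟨L, instL, ι, hM⟩ := ModelEx.exists_model p hT E hEc
  have hDnorm : E.IsNormal D := isNormal_normalizerSystem F hDS E hE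
  have hnorm : (imQ ι D).Normal := imQ_normal p E ι hM hDnorm
  have hpg : IsPGroup p ↥(imQ ι D) := imQ_isPGroup p hT ι D
  have hle : imQ ι D ≤ pCore p L := le_pCore hnorm hpg
  obtain ⟨hfinL, ⟨hinj, hreal⟩, ⟨Sy, hSy⟩, hcent⟩ := hM
  have hzT : z ∈ T := hDT hzD
  have hιz : ι ⟨z, hzT⟩ ∈ pCore p L := hle ((mem_imQ_iff ι hDT _).mpr ⟨⟨z, hzD⟩, rfl⟩)
  -- α is a map of E
  have hφα : D.subtype.comp α.toMonoidHom ∈ F.Hom D := (mem_autGroup_iff F hDS α).mp hα
  have hφαT : ∀ x : D, (D.subtype.comp α.toMonoidHom) x ∈ T := fun x => hDT (α x).2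
  have hφαE : D.subtype.comp α.toMonoidHom ∈ E.Hom D := by
    rw [hE D]
    refine ⟨hφα, hDT, hφαT, ?_⟩
    have hsup : D ⊔ D = D := sup_idem D
    refine ⟨_, fs_mem_of_eq F hsup hφα, fun x => rfl, ?_⟩
    ext y
    constructor
    · rintro ⟨s, hs, rfl⟩
      exact (α _).2
    · intro hy
      refine ⟨⟨(α⁻¹ ⟨y, hy⟩ : D), Subgroup.mem_sup_left (α⁻¹ ⟨y, hy⟩ : D).2⟩,
        Subgroup.mem_subgroupOf.mpr (α⁻¹ ⟨y, hy⟩ : D).2, ?_⟩
      show ((α (Subgroup.inclusion (le_of_eq hsup) _) : D) : Ω) = y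
      have : Subgroup.inclusion (le_of_eq hsup)
          (⟨(α⁻¹ ⟨y, hy⟩ : D), Subgroup.mem_sup_left (α⁻¹ ⟨y, hy⟩ : D).2⟩ : ↥(D ⊔ D)) =
          α⁻¹ ⟨y, hy⟩ := Subtype.ext rfl
      rw [this]
      simp
  obtain ⟨g, hg⟩ := (hreal D hDT _ hφαT).mp hφαE
  -- ι z is not central in L
  have hnc : ι ⟨z, hzT⟩ ∉ Subgroup.center L := by
    intro hcen
    have h1 := hg ⟨z, hzD⟩
    have h2 : g * ι ⟨z, hzT⟩ * g⁻¹ = ι ⟨z, hzT⟩ := by
      have := (Subgroup.mem_center_iff.mp hcen) g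
      rw [this, mul_inv_cancel_right]
    have h3 : ι ⟨(D.subtype.comp α.toMonoidHom) ⟨z, hzD⟩, hφαT ⟨z, hzD⟩⟩ = ι ⟨z, hzT⟩ := by
      rw [h1]; exact h2
    have h4 := congrArg Subtype.val (hinj h3)
    exact hne (Subtype.ext h4)
  -- the image of W(T)
  set V := WT W T with hVdef
  have hVT : V ≤ T := WT_le W T
  have hzV : z ∈ V := by
    apply mem_WT_of_central W hWZ T hT hzT
    intro t ht
    have := hz t (hTS ht)
    calc t * z = (t * z * t⁻¹) * t := by group
      _ = z * t := by rw [this]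
  have hfinV : Finite ↥V := finite_of_le (hVT.trans hTS)
  have hWSy : ((W ↥(Sy : Subgroup L)).map (Sy : Subgroup L).subtype : Subgroup L) = imQ ι V := by
    set e : ↥T ≃* ↥(Sy : Subgroup L) :=
      (MonoidHom.ofInjective hinj).trans (MulEquiv.subgroupCongr hSy.symm) with he
    have hcoe : ∀ x : T, ((e x : ↥(Sy : Subgroup L)) : L) = ι x := fun x => rfl
    ext y
    constructor
    · rintro ⟨s, hs, rfl⟩
      obtain ⟨x, rfl⟩ := e.surjective s
      have hx : x ∈ W ↥T := (W_equiv_mem W hW2 hT e x).mp hs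
      refine (mem_imQ_iff ι hVT _).mpr ⟨⟨x, (mem_WT_iff W T _).mpr ⟨x.2, hx⟩⟩, ?_⟩
      exact hcoe x
    · intro hy
      obtain ⟨v, rfl⟩ := (mem_imQ_iff ι hVT _).mp hy
      obtain ⟨hvT, hvW⟩ := (mem_WT_iff W T _).mp v.2
      exact ⟨e ⟨v, hvT⟩, (W_equiv_mem W hW2 hT e ⟨v, hvT⟩).mpr hvW, rfl⟩
  have hex : ∃ n ∈ Subgroup.normalizer ((imQ ι V : Subgroup L) : Set L),
      n * ι ⟨z, hzT⟩ ≠ ι ⟨z, hzT⟩ * n := by
    by_contra hcon
    apply hnc
    apply hloc L ι Sy hinj hSy hcent hzT hιz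
    intro n hn
    rw [hWSy] at hn
    by_contra hne'
    exact hcon ⟨n, hn, hne'⟩
  obtain ⟨n, hnN, hn⟩ := hex
  have hconjV : ∀ x : V, n * ι ⟨x, hVT x.2⟩ * n⁻¹ ∈ imQ ι V := fun x =>
    (Subgroup.mem_normalizer_iff.mp hnN _).mp ((mem_imQ_iff ι hVT _).mpr ⟨x, rfl⟩)
  obtain ⟨φ, hφT, hφ⟩ := exists_hom_of_conj ι hinj hVT n
    (fun x => Subgroup.map_le_range _ _ (hconjV x))
  have hφE : φ ∈ E.Hom V := (hreal V hVT φ hφT).mpr ⟨n, hφ⟩
  have hφF : φ ∈ F.Hom V := by
    rw [hE V] at hφE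
    exact hφE.1
  have hφV : ∀ x : V, φ x ∈ V := by
    intro x
    obtain ⟨v, hv⟩ := (mem_imQ_iff ι hVT _).mp (hconjV x)
    rw [← hφ x] at hv
    have := congrArg Subtype.val (hinj hv)
    simp only at this
    rw [this]
    exact v.2
  have hr : φ.range = V := by
    apply Subgroup.eq_of_le_of_card_ge
    · rintro _ ⟨x, rfl⟩; exact hφV x
    · exact (Nat.card_congr (Equiv.ofInjective φ (F.injective_of_mem hφF))).le
  set β : MulAut V := isoOfRange φ (F.injective_of_mem hφF) hr with hβ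
  refine ⟨hzV, β, ?_, fun h3 => ?_⟩
  · rw [mem_autGroup_iff F (hVT.trans hTS)]
    convert hφF using 1
    ext x
    rfl
  · have h4 : φ ⟨z, hzV⟩ = z := congrArg Subtype.val h3
    have h5 := hφ ⟨z, hzV⟩
    have h6 : ι ⟨φ ⟨z, hzV⟩, hφT ⟨z, hzV⟩⟩ = ι ⟨z, hzT⟩ := by
      congr 1
      exact Subtype.ext h4
    rw [h6] at h5
    apply hn
    calc n * ι ⟨z, hzT⟩ = (n * ι ⟨z, hzT⟩ * n⁻¹) * n := by group
      _ = ι ⟨z, hzT⟩ * n := by rw [← h5]

include hW2 in
/-- the main induction, with the local step as a hypothesis -/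
theorem fix_all_of [Finite S] (hS : IsPGroup p S) (F : FusionSystem S) (hF : F.IsSaturated p)
    (N : FusionSystem (normalizerIn S (WT W S))) (hN : F.IsNormalizerSystem (WT W S) N)
    {z : Ω} (hzN : z ∈ N.center) (hz : ∀ g ∈ S, g * z * g⁻¹ = z)
    (hstep : ∀ D : Subgroup Ω, F.IsFullyNormalized D → F.IsCentric D → Moves F z D →
      Moves F z (WT W (normalizerIn S D))) :
    ∀ m n : ℕ, Nat.card S ≤ n + m →
      F ≤ fixSys F z hz n ∧ ∀ T : Subgroup Ω, T ≤ S → n < Nat.card T → ¬ Moves F z (WT W T) := by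
  intro m
  induction m with
  | zero =>
    intro n hn
    constructor
    · intro P φ hφ
      refine ⟨hφ, fun hlt => ?_⟩
      have := Subgroup.card_le_of_le (F.le_of_mem hφ).1
      omega
    · intro T hTS hlt
      have := Subgroup.card_le_of_le hTS
      omega
  | succ m ih =>
    intro n hn
    obtain ⟨hP1, hQ1⟩ := ih (n + 1) (by omega)
    have hQ : ∀ T : Subgroup Ω, T ≤ S → n < Nat.card T → ¬ Moves F z (WT W T) := by
      intro T hTS hlt hm
      by_cases hlt' : n + 1 < Nat.card T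
      · exact hQ1 T hTS hlt' hm
      have hcard : Nat.card T = n + 1 := by omega
      have hTne : T ≠ S := by
        rintro rfl
        exact not_moves_WT_top W hW2 hS F N hN hzN hm
      have hfinT : Finite ↥T := finite_of_le hTS
      have hT : IsPGroup p ↥T := hS.to_le hTS
      have hVS : WT W T ≤ S := (WT_le W T).trans hTS
      have h1 : Nat.card T < Nat.card (normalizerIn S T) := card_lt_card_normalizerIn hS hTS hTne
      have h2 : normalizerIn S T ≤ normalizerIn S (WT W T) :=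
        inf_le_inf_left S (normalizer_le_normalizer_WT W hW2 T hT)
      have hfin2 : Finite ↥(normalizerIn S (WT W T)) := finite_of_le inf_le_left
      have h3 : n + 1 < Nat.card (normalizerIn S (WT W T)) := by
        have := Subgroup.card_le_of_le h2
        omega
      obtain ⟨V₁, hV₁n, -, hV₁card, hV₁m⟩ :=
        exists_fullyNormalized_moves p hS F hF z hz (n + 1) hP1 hVS h3 hm
      obtain ⟨hDc, hDm, hDle⟩ := moves_sup_centralizerIn p hS F hF z hV₁n hV₁m
      have hDS : V₁ ⊔ centralizerIn S V₁ ≤ S := hDc.1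
      have hfin3 : Finite ↥(normalizerIn S (V₁ ⊔ centralizerIn S V₁)) := finite_of_le inf_le_left
      have h4 : n + 1 < Nat.card (normalizerIn S (V₁ ⊔ centralizerIn S V₁)) := by
        have := Subgroup.card_le_of_le hDle
        omega
      obtain ⟨D₁, hD₁n, hD₁conj, hD₁card, hD₁m⟩ :=
        exists_fullyNormalized_moves p hS F hF z hz (n + 1) hP1 hDS h4 hDm
      have hD₁c : F.IsCentric D₁ := isCentric_of_isConj F hDc hD₁conj
      have h5 := hstep D₁ hD₁n hD₁c hD₁m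
      exact hQ1 (normalizerIn S D₁) inf_le_left hD₁card h5
    refine ⟨?_, hQ⟩
    by_contra hnot
    obtain ⟨P₀, hP₀, hP₀card, hP₀m⟩ := exists_moves_of_not_le p hS F hF z hz n hnot
    rcases hP₀ with rfl | hess
    · exact not_moves_top W hW2 hS F N hN hzN hP₀m
    · obtain ⟨hc, hn', -⟩ := hess
      have h5 := hstep P₀ hn' hc hP₀m
      have hfin : Finite ↥(normalizerIn S P₀) := finite_of_le inf_le_left
      have h6 : Nat.card P₀ ≤ Nat.card (normalizerIn S P₀) :=
        Subgroup.card_le_of_le (le_inf hn'.1 Subgroup.le_normalizer)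
      exact hQ (normalizerIn S P₀) inf_le_left (by omega) h5

include hW2 in
/-- an element of `Z(N_F(W(S)))` for which the local step holds is fixed by all maps of `F` -/
theorem fixed_of_step [Finite S] (hS : IsPGroup p S) (F : FusionSystem S) (hF : F.IsSaturated p)
    (N : FusionSystem (normalizerIn S (WT W S))) (hN : F.IsNormalizerSystem (WT W S) N)
    {z : Ω} (hzN : z ∈ N.center)
    (hstep : ∀ D : Subgroup Ω, F.IsFullyNormalized D → F.IsCentric D → Moves F z D →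
      Moves F z (WT W (normalizerIn S D))) :
    ∀ y : Ω, F.IsConjElt z y → y = z := by
  have hSn := le_normalizer_WT W hW2 hS
  have hTS : normalizerIn S (WT W S) ≤ S := inf_le_left
  have hST : S ≤ normalizerIn S (WT W S) := fun x hx => ⟨hx, hSn hx⟩
  have hfinT : Finite ↥(normalizerIn S (WT W S)) := finite_of_le hTS
  have hNc := isCentral_center N
  have hzS : z ∈ S := hTS (hNc.1 hzN)
  have hz : ∀ g ∈ S, g * z * g⁻¹ = z := by
    intro g hg
    have hle : Subgroup.zpowers z ≤ normalizerIn S (WT W S) :=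
      Subgroup.zpowers_le.mpr (hNc.1 hzN)
    have h1 := N.conj_mem hle (hST hg)
    exact central_fix N hNc hzN h1 (Subgroup.mem_zpowers z)
  obtain ⟨h1, -⟩ := fix_all_of W hW2 hS F hF N hN hzN hz hstep (Nat.card S) 0 (by omega)
  intro y hy
  obtain ⟨φ, hφ, rfl⟩ := hy
  have hfinz : Finite ↥(Subgroup.zpowers z) := finite_of_le (Subgroup.zpowers_le.mpr hzS)
  have h2 := (h1 _ hφ).2 Nat.card_pos ⟨z, Subgroup.mem_zpowers z⟩
  exact h2.mpr rfl

end Cfsg.Agent.Lib.Helper7.WCtl
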