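import Mathlib
import Cfsg.Prelude.Def_FusionSystem
import Cfsg.Agent.Lib.Helper7.TNPa
import Cfsg.Agent.Lib.Helper7.WCtlF
import Cfsg.Agent.Lib.Lead.NormalPComplement

set_option autoImplicit false

namespace Cfsg.Agent.Lib.Helper7.TNP

open Cfsg Cfsg.FusionSystem Cfsg.Agent.Lib.Helper7 Cfsg.Agent.Lib.Helper7.ModelUq
  Cfsg.Agent.Lib.Lead.NormalPComplement

/-- Frobenius' criterion, in contrapositive ambient form -/
theorem exists_p'_not_centralizing {G : Type*} [Group G] [Finite G] {p : ℕ} [Fact p.Prime]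
    (P : Sylow p G) (H : Subgroup G) (hPH : (P : Subgroup G) ≤ H)
    (h : ¬ HasNormalPComplement p ↥H) :
    ∃ (Q : Subgroup G) (g : G), Q ≤ (P : Subgroup G) ∧ g ∈ H ∧
      g ∈ Subgroup.normalizer (Q : Set G) ∧ (orderOf g).Coprime p ∧
      g ∉ Subgroup.centralizer (Q : Set G) := by
  by_contra hcon
  apply h
  apply hasNormalPComplement_of_p'_centralize (P.subtype hPH)
  intro Q hQ g hg hgp
  by_contra hgc
  apply hcon
  refine ⟨Q.map H.subtype, (g : G), ?_, g.2, ?_, ?_, ?_⟩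
  · rintro _ ⟨q, hq, rfl⟩
    have := hQ hq
    rw [Sylow.coe_subtype] at this
    exact Subgroup.mem_subgroupOf.mp this
  · exact Subgroup.le_normalizer_map H.subtype ⟨g, hg, rfl⟩
  · rw [← Subgroup.orderOf_coe] at hgp
    exact hgp
  · intro hc
    apply hgc
    rw [Subgroup.mem_centralizer_iff] at hc ⊢
    intro q hq
    apply Subtype.ext
    exact hc q ⟨q, hq, rfl⟩

variable {Ω : Type*} [Group Ω] {S : Subgroup Ω}

/-- an element of a group realizing `E ⊆ F` that normalizes the image of `X` induces an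
`F`-automorphism of `X` -/
theorem aut_of_conj (F : FusionSystem S) {T : Subgroup Ω} [Finite T] (hTS : T ≤ S)
    (E : FusionSystem T) (hEF : ∀ (P : Subgroup Ω) (φ : P →* Ω), φ ∈ E.Hom P → φ ∈ F.Hom P)
    {L : Type*} [Group L] (ι : T →* L) (hinj : Function.Injective ι)
    (hreal : ∀ (P : Subgroup Ω) (hP : P ≤ T) (φ : P →* Ω) (hφ : ∀ x : P, φ x ∈ T),
      φ ∈ E.Hom P ↔ ∃ g : L, ∀ x : P, ι ⟨φ x, hφ x⟩ = g * ι ⟨x, hP x.2⟩ * g⁻¹)
    {X : Subgroup Ω} (hXT : X ≤ T) (g : L)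
    (hg : g ∈ Subgroup.normalizer ((imQ ι X : Subgroup L) : Set L)) :
    ∃ β : MulAut X, β ∈ F.autGroup X ∧ ∀ (k : ℕ) (x : X),
      ι ⟨(((β ^ k) x : X) : Ω), hXT ((β ^ k) x).2⟩ = g ^ k * ι ⟨x, hXT x.2⟩ * (g ^ k)⁻¹ := by
  have hfinX : Finite ↥X := finite_of_le hXT
  have hconjV : ∀ x : X, g * ι ⟨x, hXT x.2⟩ * g⁻¹ ∈ imQ ι X := fun x =>
    (Subgroup.mem_normalizer_iff.mp hg _).mp ((mem_imQ_iff ι hXT _).mpr ⟨x, rfl⟩)
  obtain ⟨φ, hφT, hφ⟩ := exists_hom_of_conj ι hinj hXT g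
    (fun x => Subgroup.map_le_range _ _ (hconjV x))
  have hφE : φ ∈ E.Hom X := (hreal X hXT φ hφT).mpr ⟨g, hφ⟩
  have hφF : φ ∈ F.Hom X := hEF X φ hφE
  have hφV : ∀ x : X, φ x ∈ X := by
    intro x
    obtain ⟨v, hv⟩ := (mem_imQ_iff ι hXT _).mp (hconjV x)
    rw [← hφ x] at hv
    have := congrArg Subtype.val (hinj hv)
    simp only at this
    rw [this]
    exact v.2
  have hr : φ.range = X := by
    apply Subgroup.eq_of_le_of_card_ge
    · rintro _ ⟨x, rfl⟩; exact hφV x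
    · exact (Nat.card_congr (Equiv.ofInjective φ (F.injective_of_mem hφF))).le
  set β : MulAut X := isoOfRange φ (F.injective_of_mem hφF) hr with hβ
  have hβφ : ∀ x : X, ((β x : X) : Ω) = φ x := fun x => rfl
  refine ⟨β, ?_, ?_⟩
  · rw [mem_autGroup_iff F (hXT.trans hTS)]
    convert hφF using 1
    ext x
    rfl
  · intro k
    induction k with
    | zero => intro x; simp
    | succ k ih =>
      intro x
      have h1 : (β ^ (k + 1)) x = β ((β ^ k) x) := by rw [pow_succ']; rfl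
      have h2 : ι ⟨(((β ^ (k + 1)) x : X) : Ω), hXT ((β ^ (k + 1)) x).2⟩ =
          ι ⟨φ ((β ^ k) x), hφT _⟩ := by
        congr 1
        apply Subtype.ext
        show (((β ^ (k + 1)) x : X) : Ω) = φ ((β ^ k) x)
        rw [h1]
        rfl
      rw [h2, hφ, ih x, pow_succ']
      group

end Cfsg.Agent.Lib.Helper7.TNP
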