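import Mathlib
import Cfsg.Prelude.Def_FusionSystem
import Cfsg.Agent.Lib.Helper7.TNPb

set_option autoImplicit false

namespace Cfsg.Agent.Lib.Helper7.TNP

open Cfsg Cfsg.FusionSystem Cfsg.Agent.Lib.Helper7 Cfsg.Agent.Lib.Helper7.ModelUq
  Cfsg.Agent.Lib.Lead.NormalPComplement

variable {Ω : Type*} [Group Ω] {S : Subgroup Ω}

/-- if the centralizer system of `Z(S)` is inner, a `p'`-element of a realizing group centralizing the
image of `Z(S)` centralizes every `p`-subgroup of the image of `T` that it normalizes -/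
theorem false_of_central_p' {p : ℕ} [Fact p.Prime] (hS : IsPGroup p S) (F : FusionSystem S)
    {T : Subgroup Ω} [Finite T] (hTS : T ≤ S)
    (E : FusionSystem T) (hEF : ∀ (P : Subgroup Ω) (φ : P →* Ω), φ ∈ E.Hom P → φ ∈ F.Hom P)
    {L : Type*} [Group L] [Finite L] (ι : T →* L) (hinj : Function.Injective ι)
    (hreal : ∀ (P : Subgroup Ω) (hP : P ≤ T) (φ : P →* Ω) (hφ : ∀ x : P, φ x ∈ T),
      φ ∈ E.Hom P ↔ ∃ g : L, ∀ x : P, ι ⟨φ x, hφ x⟩ = g * ι ⟨x, hP x.2⟩ * g⁻¹)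
    (hZT : S ⊓ Subgroup.centralizer (S : Set Ω) ≤ T)
    (hC' : ∀ (X : Subgroup Ω) (φ : X →* Ω),
      φ ∈ F.centralizerHom (S ⊓ Subgroup.centralizer (S : Set Ω)) X →
        ∃ s ∈ S, ∀ x : X, φ x = s * (x : Ω) * s⁻¹)
    (g : L) (hgp : (orderOf g).Coprime p)
    (hgZ : ∀ (z : Ω) (hz : z ∈ S ⊓ Subgroup.centralizer (S : Set Ω)),
      g * ι ⟨z, hZT hz⟩ = ι ⟨z, hZT hz⟩ * g)
    (Q' : Subgroup L) (hQ' : Q' ≤ ι.range) (hgQ : g ∈ Subgroup.normalizer (Q' : Set L))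
    (hgnc : g ∉ Subgroup.centralizer (Q' : Set L)) : False := by
  set ZS : Subgroup Ω := S ⊓ Subgroup.centralizer (S : Set Ω) with hZS
  set Z' : Subgroup L := imQ ι ZS with hZ'
  set Y : Subgroup L := Q' ⊔ Z' with hY
  have hZ'r : Z' ≤ ι.range := Subgroup.map_le_range _ _
  have hYr : Y ≤ ι.range := sup_le hQ' hZ'r
  have hgY : g ∈ Subgroup.normalizer (Y : Set L) := by
    apply mem_normalizer_of_conj_mem_finite
    intro y hy
    have hK : Y ≤ Y.comap (MulAut.conj g).toMonoidHom := by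
      apply sup_le
      · intro q hq
        show g * q * g⁻¹ ∈ Y
        exact Subgroup.mem_sup_left ((Subgroup.mem_normalizer_iff.mp hgQ q).mp hq)
      · intro z hz
        show g * z * g⁻¹ ∈ Y
        obtain ⟨z₀, rfl⟩ := (mem_imQ_iff ι hZT z).mp hz
        have := hgZ z₀ z₀.2
        rw [this, mul_inv_cancel_right]
        exact Subgroup.mem_sup_right hz
    exact hK hy
  set X : Subgroup Ω := (Y.comap ι).map T.subtype with hX
  have hXT : X ≤ T := Subgroup.map_subtype_le _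
  have hXmem : ∀ (x : Ω) (hx : x ∈ T), x ∈ X ↔ ι ⟨x, hx⟩ ∈ Y := by
    intro x hx
    constructor
    · rintro ⟨t, ht, rfl⟩
      exact ht
    · intro h
      exact ⟨⟨x, hx⟩, h, rfl⟩
  have himX : imQ ι X = Y := by
    ext y
    rw [mem_imQ_iff ι hXT]
    constructor
    · rintro ⟨x, rfl⟩
      exact (hXmem x (hXT x.2)).mp x.2
    · intro hy
      obtain ⟨t, rfl⟩ := hYr hy
      exact ⟨⟨t, (hXmem t t.2).mpr hy⟩, rfl⟩
  have hgX : g ∈ Subgroup.normalizer ((imQ ι X : Subgroup L) : Set L) := by rw [himX]; exact hgY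
  obtain ⟨β, hβ, hβk⟩ := aut_of_conj F hTS E hEF ι hinj hreal hXT g hgX
  have hβ1 : ∀ x : X, ι ⟨((β x : X) : Ω), hXT (β x).2⟩ = g * ι ⟨x, hXT x.2⟩ * g⁻¹ := by
    intro x
    have := hβk 1 x
    simpa using this
  have hZX : ZS ≤ X := by
    intro z hz
    rw [hXmem z (hZT hz)]
    exact Subgroup.mem_sup_right ((mem_imQ_iff ι hZT _).mpr ⟨⟨z, hz⟩, rfl⟩)
  have hβZ : ∀ (z : Ω) (hz : z ∈ ZS), ((β ⟨z, hZX hz⟩ : X) : Ω) = z := by
    intro z hz
    have h1 := hβ1 ⟨z, hZX hz⟩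
    have h2 := hgZ z hz
    have h3 : g * ι ⟨z, hZT hz⟩ * g⁻¹ = ι ⟨z, hZT hz⟩ := by rw [h2, mul_inv_cancel_right]
    have h4 : ι ⟨((β ⟨z, hZX hz⟩ : X) : Ω), hXT (β ⟨z, hZX hz⟩).2⟩ = ι ⟨z, hZT hz⟩ := by
      rw [h1]; exact h3
    exact congrArg Subtype.val (hinj h4)
  have hXS : X ≤ S := hXT.trans hTS
  have hφF : X.subtype.comp β.toMonoidHom ∈ F.Hom X := (mem_autGroup_iff F hXS β).mp hβ
  have hScen : S ≤ centralizerIn S ZS := by
    intro s hs
    refine ⟨hs, ?_⟩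
    show s ∈ Subgroup.centralizer (ZS : Set Ω)
    rw [Subgroup.mem_centralizer_iff]
    intro z hz
    exact (Subgroup.mem_centralizer_iff.mp hz.2 s hs).symm
  have hcH : X.subtype.comp β.toMonoidHom ∈ F.centralizerHom ZS X := by
    refine ⟨hφF, hXS.trans hScen, fun x => hScen (hXS (β x).2), ?_⟩
    have hsup : X ⊔ ZS = X := sup_eq_left.mpr hZX
    refine ⟨_, fs_mem_of_eq F hsup hφF, fun x => rfl, ?_⟩
    intro z
    exact hβZ z z.2
  obtain ⟨s, hsS, hs⟩ := hC' X _ hcH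
  have hsβ : ∀ x : X, ((β x : X) : Ω) = s * (x : Ω) * s⁻¹ := hs
  have hsk : ∀ (k : ℕ) (x : X), (((β ^ k) x : X) : Ω) = s ^ k * (x : Ω) * (s ^ k)⁻¹ := by
    intro k
    induction k with
    | zero => intro x; simp
    | succ k ih =>
      intro x
      have h1 : (β ^ (k + 1)) x = β ((β ^ k) x) := by rw [pow_succ']; rfl
      rw [h1, hsβ, ih x, pow_succ']
      group
  -- β ^ n = 1 for n the order of g
  have hβn : ∀ x : X, (((β ^ orderOf g) x : X) : Ω) = x := by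
    intro x
    have h1 := hβk (orderOf g) x
    rw [pow_orderOf_eq_one] at h1
    simp only [one_mul, inv_one, mul_one] at h1
    have h2 := congrArg Subtype.val (hinj h1)
    exact h2
  -- s centralizes X
  have hsn : ∀ x : X, s ^ orderOf g * (x : Ω) = (x : Ω) * s ^ orderOf g := by
    intro x
    have h1 := hsk (orderOf g) x
    rw [hβn x] at h1
    calc s ^ orderOf g * (x : Ω) = (s ^ orderOf g * (x : Ω) * (s ^ orderOf g)⁻¹) * s ^ orderOf g := by
          group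
      _ = (x : Ω) * s ^ orderOf g := by rw [← h1]
  have hcop : (orderOf g).Coprime (orderOf s) := by
    obtain ⟨m, hm⟩ := hS ⟨s, hsS⟩
    have hm' : s ^ p ^ m = 1 := congrArg Subtype.val hm
    have h1 : orderOf s ∣ p ^ m := orderOf_dvd_of_pow_eq_one hm'
    exact Nat.Coprime.coprime_dvd_right h1 (hgp.pow_right m)
  obtain ⟨m, hm⟩ := exists_pow_eq_self_of_coprime hcop
  have hsx : ∀ x : X, s * (x : Ω) = (x : Ω) * s := by
    intro x
    have h1 : Commute (s ^ orderOf g) (x : Ω) := hsn x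
    have h2 := h1.pow_left m
    rw [hm] at h2
    exact h2
  -- contradiction
  apply hgnc
  rw [Subgroup.mem_centralizer_iff]
  intro q hq
  obtain ⟨t, rfl⟩ := hQ' hq
  have htX : (t : Ω) ∈ X := (hXmem t t.2).mpr (Subgroup.mem_sup_left hq)
  have h1 := hβ1 ⟨t, htX⟩
  have h2 : ((β ⟨t, htX⟩ : X) : Ω) = t := by
    rw [hsβ, hsx ⟨t, htX⟩, mul_inv_cancel_right]
  have h3 : ι ⟨((β ⟨t, htX⟩ : X) : Ω), hXT (β ⟨t, htX⟩).2⟩ = ι t := by
    congr 1
    exact Subtype.ext h2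
  rw [h3] at h1
  calc ι t * g = (g * ι t * g⁻¹) * g := by rw [← h1]
    _ = g * ι t := by group

end Cfsg.Agent.Lib.Helper7.TNP
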