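import Mathlib
import Cfsg.Agent.Lib.Helper7.ThA10
import Cfsg.Agent.Lib.Helper4.Offender

set_option autoImplicit false
set_option linter.style.haveILetI false
set_option linter.unusedVariables false
set_option linter.unusedSectionVars false

open scoped commutatorElement

namespace Cfsg.Agent.Lib.Helper7.ThA

open Cfsg Cfsg.Agent.Lib.Helper7 Cfsg.Agent.Lib.Lead.Conj Cfsg.Agent.Lib.Helper4.Offender

universe u

section caseA
variable {G : Type u} [Group G]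

theorem caseA_step (E Fa : Subgroup G) (hEconj : ∀ g : G, ∀ e ∈ E, g * e * g⁻¹ ∈ E)
    (hFaE : Fa ≤ E) {x t a : G} (hinv : t * x * t⁻¹ = x⁻¹)
    (htE : ∀ e ∈ E, t * e * t⁻¹ = a * e * a⁻¹) (htE' : ∀ e ∈ E, t⁻¹ * e * t = a⁻¹ * e * a)
    (hca : ∀ e ∈ E, a * e * a⁻¹ * e⁻¹ ∈ Fa) (hca' : ∀ e ∈ E, a⁻¹ * e * a * e⁻¹ ∈ Fa)
    (haFa : ∀ f ∈ Fa, a * f = f * a) (hxFa : ∀ f ∈ Fa, x * f = f * x) :
    ∀ e ∈ E, ∃ f ∈ Fa, x⁻¹ * e * x = f * (x * e * x⁻¹) := by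
  intro e he
  obtain ⟨f₁, hf₁def⟩ : ∃ f₁ : G, f₁ = a⁻¹ * e * a * e⁻¹ := ⟨_, rfl⟩
  have hf₁ : f₁ ∈ Fa := by rw [hf₁def]; exact hca' e he
  obtain ⟨e₂, he₂def⟩ : ∃ e₂ : G, e₂ = x * e * x⁻¹ := ⟨_, rfl⟩
  have he₂ : e₂ ∈ E := by rw [he₂def]; exact hEconj x e he
  obtain ⟨f₂, hf₂def⟩ : ∃ f₂ : G, f₂ = a * e₂ * a⁻¹ * e₂⁻¹ := ⟨_, rfl⟩
  have hf₂ : f₂ ∈ Fa := by rw [hf₂def]; exact hca e₂ he₂
  have h_a : t⁻¹ * e * t = f₁ * e := by rw [htE' e he, hf₁def]; group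
  have h_b : x * (f₁ * e) * x⁻¹ = f₁ * e₂ := by
    calc x * (f₁ * e) * x⁻¹ = (x * f₁) * e * x⁻¹ := by group
      _ = (f₁ * x) * e * x⁻¹ := by rw [hxFa f₁ hf₁]
      _ = f₁ * e₂ := by rw [he₂def]; group
  have h_c : t * (f₁ * e₂) * t⁻¹ = f₁ * (f₂ * e₂) := by
    calc t * (f₁ * e₂) * t⁻¹ = (t * f₁ * t⁻¹) * (t * e₂ * t⁻¹) := by group
      _ = (a * f₁ * a⁻¹) * (a * e₂ * a⁻¹) := by rw [htE f₁ (hFaE hf₁), htE e₂ he₂]
      _ = f₁ * (a * e₂ * a⁻¹) := by rw [haFa f₁ hf₁, mul_inv_cancel_right]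
      _ = f₁ * (f₂ * e₂) := by rw [hf₂def]; group
  refine ⟨f₁ * f₂, Fa.mul_mem hf₁ hf₂, ?_⟩
  calc x⁻¹ * e * x = (t * x * t⁻¹) * e * (t * x * t⁻¹)⁻¹ := by rw [hinv, inv_inv]
    _ = t * (x * (t⁻¹ * e * t) * x⁻¹) * t⁻¹ := by group
    _ = t * (x * (f₁ * e) * x⁻¹) * t⁻¹ := by rw [h_a]
    _ = t * (f₁ * e₂) * t⁻¹ := by rw [h_b]
    _ = f₁ * (f₂ * e₂) := h_c
    _ = (f₁ * f₂) * (x * e * x⁻¹) := by rw [← he₂def]; group

theorem caseA_pow_four (E Fa : Subgroup G) (hEconj : ∀ g : G, ∀ e ∈ E, g * e * g⁻¹ ∈ E)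
    (hFaE : Fa ≤ E) (hFa2 : ∀ f ∈ Fa, f * f = 1) {x t a : G} (hinv : t * x * t⁻¹ = x⁻¹)
    (htE : ∀ e ∈ E, t * e * t⁻¹ = a * e * a⁻¹) (htE' : ∀ e ∈ E, t⁻¹ * e * t = a⁻¹ * e * a)
    (hca : ∀ e ∈ E, a * e * a⁻¹ * e⁻¹ ∈ Fa) (hca' : ∀ e ∈ E, a⁻¹ * e * a * e⁻¹ ∈ Fa)
    (haFa : ∀ f ∈ Fa, a * f = f * a) (hxFa : ∀ f ∈ Fa, x * f = f * x) :
    ∀ e ∈ E, e * x ^ 4 = x ^ 4 * e := by
  have step2 : ∀ e ∈ E, ∃ f ∈ Fa, (x * x) * e * (x * x)⁻¹ = f * e := by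
    intro e he
    obtain ⟨f, hf, hfe⟩ := caseA_step E Fa hEconj hFaE hinv htE htE' hca hca' haFa hxFa e he
    refine ⟨f⁻¹, Fa.inv_mem hf, ?_⟩
    have h1 : x * e * x⁻¹ = f⁻¹ * (x⁻¹ * e * x) := by rw [hfe]; group
    have h2 : x * f⁻¹ = f⁻¹ * x := hxFa _ (Fa.inv_mem hf)
    calc x * x * e * (x * x)⁻¹ = x * (x * e * x⁻¹) * x⁻¹ := by group
      _ = x * (f⁻¹ * (x⁻¹ * e * x)) * x⁻¹ := by rw [h1]
      _ = (x * f⁻¹) * (x⁻¹ * e) := by group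
      _ = (f⁻¹ * x) * (x⁻¹ * e) := by rw [h2]
      _ = f⁻¹ * e := by group
  intro e he
  obtain ⟨f, hf, hfe⟩ := step2 e he
  have hxxf : (x * x) * f * (x * x)⁻¹ = f := by
    have h2 : x * f = f * x := hxFa _ hf
    calc x * x * f * (x * x)⁻¹ = x * (x * f) * x⁻¹ * x⁻¹ := by group
      _ = x * (f * x) * x⁻¹ * x⁻¹ := by rw [h2]
      _ = (x * f) * x⁻¹ := by group
      _ = (f * x) * x⁻¹ := by rw [h2]
      _ = f := by group
  have e4 : x ^ 4 = (x * x) * (x * x) := by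
    rw [show (4 : ℕ) = 2 + 2 from rfl, pow_add, pow_two]
  have h4 : x ^ 4 * e * (x ^ 4)⁻¹ = e := by
    calc x ^ 4 * e * (x ^ 4)⁻¹ = (x * x) * ((x * x) * e * (x * x)⁻¹) * (x * x)⁻¹ := by
          rw [e4]; group
      _ = (x * x) * (f * e) * (x * x)⁻¹ := by rw [hfe]
      _ = ((x * x) * f * (x * x)⁻¹) * ((x * x) * e * (x * x)⁻¹) := by group
      _ = f * (f * e) := by rw [hxxf, hfe]
      _ = (f * f) * e := by group
      _ = e := by rw [hFa2 f hf, one_mul]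
  rw [mul_inv_eq_iff_eq_mul] at h4
  exact h4.symm

end caseA


section config
variable {G : Type u} [Group G] [Finite G]

theorem s4_of_config (H E A₁ : Subgroup G) [hHn : H.Normal] [hEn : E.Normal]
    (hH : IsPGroup 2 ↥H) (hEH : E ≤ H)
    (hEc : ∀ s ∈ E, ∀ t ∈ E, s * t = t * s) (hE2 : ∀ e ∈ E, e ^ 2 = 1)
    (hCE : Subgroup.centralizer (E : Set G) = H)
    (hA₁c : ∀ a ∈ A₁, ∀ b ∈ A₁, a * b = b * a)
    (hquad : ⁅⁅E, A₁⁆, A₁⁆ = ⊥)
    (hbest : ∀ B' : Subgroup G, B' ≤ A₁ → ff E B' ≤ ff E A₁)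
    {q : ℕ} (hq : q.Prime) (hq2 : q ≠ 2) {x a h₃ : G} (hxq : x ^ q = 1) (hxH : x ∉ H)
    (ha : a ∈ A₁) (hh₃ : h₃ ∈ H) (hinv : (a * h₃) * x * (a * h₃)⁻¹ = x⁻¹)
    (hall : ∀ b ∈ A₁, (b : G ⧸ H) * (x : G ⧸ H) * (b : G ⧸ H)⁻¹ = (x : G ⧸ H) ∨
       (b : G ⧸ H) * (x : G ⧸ H) * (b : G ⧸ H)⁻¹ = (x : G ⧸ H)⁻¹) :
    Cfsg.Involves (Equiv.Perm (Fin 4)) G := by
  classical
  haveI : Fact q.Prime := ⟨hq⟩
  haveI : Fact (Nat.Prime 2) := ⟨Nat.prime_two⟩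
  have hqodd : ¬ 2 ∣ q := by
    intro h
    exact hq2 ((Nat.prime_dvd_prime_iff_eq Nat.prime_two hq).mp h).symm
  have hcop2 : Nat.Coprime 2 q := (Nat.Prime.coprime_iff_not_dvd Nat.prime_two).mpr hqodd
  have hx1 : x ≠ 1 := fun h => hxH (h ▸ H.one_mem)
  obtain ⟨t, ht⟩ : ∃ t : G, t = a * h₃ := ⟨_, rfl⟩
  rw [← ht] at hinv
  have hinv' : t * x⁻¹ * t⁻¹ = x := by
    have : t * x⁻¹ * t⁻¹ = (t * x * t⁻¹)⁻¹ := by group
    rw [this, hinv, inv_inv]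
  have hHcent : ∀ h ∈ H, ∀ e ∈ E, h * e = e * h := by
    intro h hh e he
    rw [← hCE] at hh
    exact (Subgroup.mem_centralizer_iff.mp hh e he).symm
  have hEconj : ∀ g : G, ∀ e ∈ E, g * e * g⁻¹ ∈ E := fun g e he => hEn.conj_mem e he g
  have hEconj' : ∀ g : G, ∀ e ∈ E, g⁻¹ * e * g ∈ E := by
    intro g e he
    have := hEconj g⁻¹ e he
    rwa [inv_inv] at this
  have htE : ∀ e ∈ E, t * e * t⁻¹ = a * e * a⁻¹ := by
    intro e he
    rw [ht]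
    have h1 := hHcent h₃ hh₃ e he
    calc a * h₃ * e * (a * h₃)⁻¹ = a * (h₃ * e) * h₃⁻¹ * a⁻¹ := by group
      _ = a * (e * h₃) * h₃⁻¹ * a⁻¹ := by rw [h1]
      _ = a * e * a⁻¹ := by group
  have htE' : ∀ e ∈ E, t⁻¹ * e * t = a⁻¹ * e * a := by
    intro e he
    rw [ht]
    have h1 := hHcent h₃ hh₃ (a⁻¹ * e * a) (hEconj' a e he)
    calc (a * h₃)⁻¹ * e * (a * h₃) = h₃⁻¹ * ((a⁻¹ * e * a) * h₃) := by group
      _ = h₃⁻¹ * (h₃ * (a⁻¹ * e * a)) := by rw [h1]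
      _ = a⁻¹ * e * a := by group
  obtain ⟨Fa, hFa⟩ : ∃ Fa : Subgroup G, Fa = E ⊓ Subgroup.centralizer (A₁ : Set G) := ⟨_, rfl⟩
  have hFamem : ∀ f, f ∈ Fa ↔ f ∈ E ∧ ∀ b ∈ A₁, b * f = f * b := by
    intro f
    rw [hFa, Subgroup.mem_inf, Subgroup.mem_centralizer_iff]
    rfl
  have hFaE : Fa ≤ E := by rw [hFa]; exact inf_le_left
  have hcomm : ∀ b ∈ A₁, ∀ e ∈ E, b * e * b⁻¹ * e⁻¹ ∈ Fa := by
    intro b hb e he
    rw [hFamem]
    refine ⟨E.mul_mem (hEconj b e he) (E.inv_mem he), ?_⟩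
    intro c hc
    have h1 : ⁅b, e⁆ ∈ ⁅E, A₁⁆ := by
      rw [Subgroup.commutator_comm]; exact Subgroup.commutator_mem_commutator hb he
    have h2 : ⁅⁅b, e⁆, c⁆ ∈ ⁅⁅E, A₁⁆, A₁⁆ := Subgroup.commutator_mem_commutator h1 hc
    rw [hquad, Subgroup.mem_bot, commutatorElement_eq_one_iff_commute] at h2
    rw [commutatorElement_def] at h2
    exact h2.eq.symm
  have hE2' : ∀ e ∈ E, e * e = 1 := by
    intro e he
    have := hE2 e he
    rwa [pow_two] at this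
  have hsq : ∀ b ∈ A₁, b * b ∈ H := by
    intro b hb
    rw [← hCE, Subgroup.mem_centralizer_iff]
    intro e he
    obtain ⟨c, hcdef⟩ : ∃ c : G, c = b * e * b⁻¹ * e⁻¹ := ⟨_, rfl⟩
    have hc : c ∈ Fa := by rw [hcdef]; exact hcomm b hb e he
    rw [hFamem] at hc
    have hcb := hc.2 b hb
    have hc2 := hE2' c hc.1
    have h1 : b * e = c * e * b := by rw [hcdef]; group
    symm
    calc b * b * e = b * (b * e) := by group
      _ = b * (c * e * b) := by rw [h1]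
      _ = (b * c) * e * b := by group
      _ = (c * b) * e * b := by rw [hcb]
      _ = c * (b * e) * b := by group
      _ = c * (c * e * b) * b := by rw [h1]
      _ = (c * c) * e * (b * b) := by group
      _ = e * (b * b) := by rw [hc2, one_mul]
  -- the quotient
  obtain ⟨ξ, hξ⟩ : ∃ ξ : G ⧸ H, ξ = (x : G ⧸ H) := ⟨_, rfl⟩
  rw [← hξ] at hall
  have hmkt : (t : G ⧸ H) = (a : G ⧸ H) := by
    rw [ht, QuotientGroup.mk_mul, (QuotientGroup.eq_one_iff h₃).mpr hh₃, mul_one]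
  have hαξ : (a : G ⧸ H) * ξ * (a : G ⧸ H)⁻¹ = ξ⁻¹ := by
    rw [← hmkt, hξ, ← QuotientGroup.mk_inv, ← QuotientGroup.mk_mul, ← QuotientGroup.mk_mul, hinv,
      QuotientGroup.mk_inv]
  have hξ1 : ξ ≠ 1 := by
    rw [hξ]; intro h; exact hxH ((QuotientGroup.eq_one_iff x).mp h)
  have hξq : ξ ^ q = 1 := by rw [hξ, ← QuotientGroup.mk_pow, hxq, QuotientGroup.mk_one]
  have hξne : ξ ≠ ξ⁻¹ := by
    intro h
    apply hξ1
    have h2 : ξ ^ 2 = 1 := by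
      rw [pow_two]; nth_rewrite 1 [h]; exact inv_mul_cancel ξ
    have := mem_of_pow_mem_of_coprime (⊥ : Subgroup (G ⧸ H)) (x := ξ) hcop2
      (by rw [h2]; exact Subgroup.one_mem _) (by rw [hξq]; exact Subgroup.one_mem _)
    exact Subgroup.mem_bot.mp this
  obtain ⟨Cx, hCx⟩ : ∃ Cx : Subgroup G,
      Cx = (Subgroup.centralizer ({ξ} : Set (G ⧸ H))).comap (QuotientGroup.mk' H) := ⟨_, rfl⟩
  have hCxmem : ∀ g : G, g ∈ Cx ↔ (g : G ⧸ H) * ξ * (g : G ⧸ H)⁻¹ = ξ := by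
    intro g
    rw [hCx, Subgroup.mem_comap, Subgroup.mem_centralizer_singleton_iff, QuotientGroup.mk'_apply,
      mul_inv_eq_iff_eq_mul]
  obtain ⟨B, hB⟩ : ∃ B : Subgroup G, B = A₁ ⊓ Cx := ⟨_, rfl⟩
  have hBA : B ≤ A₁ := by rw [hB]; exact inf_le_left
  have hBmem : ∀ g, g ∈ B ↔ g ∈ A₁ ∧ (g : G ⧸ H) * ξ * (g : G ⧸ H)⁻¹ = ξ := by
    intro g; rw [hB, Subgroup.mem_inf, hCxmem]
  have hBidx : B.relIndex A₁ = 2 := by
    rw [Subgroup.relIndex_eq_two_iff]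
    refine ⟨a, ha, ?_⟩
    intro b hb
    have hba : b * a ∈ A₁ := A₁.mul_mem hb ha
    have e1 : ((b * a : G) : G ⧸ H) * ξ * ((b * a : G) : G ⧸ H)⁻¹ =
        ((b : G ⧸ H) * ξ * (b : G ⧸ H)⁻¹)⁻¹ := by
      have : ((b * a : G) : G ⧸ H) * ξ * ((b * a : G) : G ⧸ H)⁻¹ =
          (b : G ⧸ H) * ((a : G ⧸ H) * ξ * (a : G ⧸ H)⁻¹) * (b : G ⧸ H)⁻¹ := by
        rw [QuotientGroup.mk_mul]; group
      rw [this, hαξ]; group
    rcases hall b hb with h | h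
    · right
      refine ⟨?_, ?_⟩
      · rw [hBmem]; exact ⟨hb, h⟩
      · rw [hBmem, e1, h]
        rintro ⟨-, h'⟩
        exact hξne h'.symm
    · left
      refine ⟨?_, ?_⟩
      · rw [hBmem, e1, h, inv_inv]
        exact ⟨hba, rfl⟩
      · rw [hBmem, h]
        rintro ⟨-, h'⟩
        exact hξne h'.symm
  obtain ⟨F, hF⟩ : ∃ F : Subgroup G, F = E ⊓ Subgroup.centralizer (B : Set G) := ⟨_, rfl⟩
  have hFmem : ∀ f, f ∈ F ↔ f ∈ E ∧ ∀ b ∈ B, b * f = f * b := by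
    intro f
    rw [hF, Subgroup.mem_inf, Subgroup.mem_centralizer_iff]
    rfl
  have hFE : F ≤ E := by rw [hF]; exact inf_le_left
  have hFaF : Fa ≤ F := by
    intro f hf
    rw [hFamem] at hf
    rw [hFmem]
    exact ⟨hf.1, fun b hb => hf.2 b (hBA hb)⟩
  have hcardA : Nat.card A₁ = 2 * Nat.card B := by
    rw [Cfsg.Agent.H1.card_eq_relIndex_mul_card hBA, hBidx]
  have hFF : Nat.card F ≤ 2 * Nat.card Fa := by
    have := hbest B hBA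
    unfold ff at this
    rw [← hF, ← hFa, hcardA] at this
    have hpos : 0 < Nat.card B := Nat.card_pos
    have h' : Nat.card B * Nat.card F ≤ Nat.card B * (2 * Nat.card Fa) := by
      calc Nat.card B * Nat.card F ≤ 2 * Nat.card B * Nat.card Fa := this
        _ = Nat.card B * (2 * Nat.card Fa) := by ring
    exact Nat.le_of_mul_le_mul_left h' hpos
  have hFaidx : Fa.relIndex F ≤ 2 := by
    have := Cfsg.Agent.H1.card_eq_relIndex_mul_card hFaF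
    rw [this] at hFF
    exact Nat.le_of_mul_le_mul_right hFF Nat.card_pos
  have hxF' : ∀ f ∈ F, x * f * x⁻¹ ∈ F := by
    intro f hf
    rw [hFmem] at hf ⊢
    refine ⟨hEconj x f hf.1, ?_⟩
    intro b hb
    obtain ⟨hbA, hbξ⟩ := (hBmem b).mp hb
    obtain ⟨h, hhdef⟩ : ∃ h : G, h = b⁻¹ * x⁻¹ * b * x := ⟨_, rfl⟩
    have hh : h ∈ H := by
      rw [hhdef, ← QuotientGroup.eq_one_iff]
      simp only [QuotientGroup.mk_mul, QuotientGroup.mk_inv]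
      rw [← hξ]
      have h0 : (b : G ⧸ H) * ξ = ξ * (b : G ⧸ H) := mul_inv_eq_iff_eq_mul.mp hbξ
      calc (b : G ⧸ H)⁻¹ * ξ⁻¹ * (b : G ⧸ H) * ξ = (b : G ⧸ H)⁻¹ * ξ⁻¹ * ((b : G ⧸ H) * ξ) := by group
        _ = (b : G ⧸ H)⁻¹ * ξ⁻¹ * (ξ * (b : G ⧸ H)) := by rw [h0]
        _ = 1 := by group
    have h1 := hHcent h hh f hf.1
    have h2 := hf.2 b hb
    have h3 : b * x = x * (b * h) := by rw [hhdef]; group
    calc b * (x * f * x⁻¹) = (b * x) * f * x⁻¹ := by group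
      _ = (x * (b * h)) * f * x⁻¹ := by rw [h3]
      _ = x * b * (h * f) * x⁻¹ := by group
      _ = x * b * (f * h) * x⁻¹ := by rw [h1]
      _ = x * (b * f) * h * x⁻¹ := by group
      _ = x * (f * b) * h * x⁻¹ := by rw [h2]
      _ = x * f * x⁻¹ * (x * (b * h)) * x⁻¹ := by group
      _ = x * f * x⁻¹ * (b * x) * x⁻¹ := by rw [h3]
      _ = x * f * x⁻¹ * b := by group
  have hxF : x ∈ Subgroup.normalizer (F : Set G) := mem_normalizer_of_conj_mem F x hxF'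
  have htF' : ∀ f ∈ F, t * f * t⁻¹ ∈ F := by
    intro f hf
    rw [hFmem] at hf ⊢
    refine ⟨hEconj t f hf.1, ?_⟩
    intro b hb
    rw [htE f hf.1]
    have hbA : b ∈ A₁ := hBA hb
    have h1 := hf.2 b hb
    have h2 := hA₁c a ha b hbA
    have h3 := hA₁c a⁻¹ (A₁.inv_mem ha) b hbA
    calc b * (a * f * a⁻¹) = (b * a) * f * a⁻¹ := by group
      _ = (a * b) * f * a⁻¹ := by rw [h2]
      _ = a * (b * f) * a⁻¹ := by group
      _ = a * (f * b) * a⁻¹ := by rw [h1]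
      _ = a * f * (b * a⁻¹) := by group
      _ = a * f * (a⁻¹ * b) := by rw [h3]
      _ = a * f * a⁻¹ * b := by group
  have htF : t ∈ Subgroup.normalizer (F : Set G) := mem_normalizer_of_conj_mem F t htF'
  have hDF : Subgroup.zpowers x ⊓ F = ⊥ := by
    have hDq : IsPGroup q ↥(Subgroup.zpowers x) :=
      IsPGroup.of_card (n := 1) (by rw [Nat.card_zpowers, orderOf_eq_prime hxq hx1, pow_one])
    have hF2g : IsPGroup 2 ↥F := hH.to_le (hFE.trans hEH)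
    exact disjoint_iff.mp (IsPGroup.disjoint_of_ne q 2 hq2 _ _ hDq hF2g)
  have htt : t * t ∈ H := by
    rw [← QuotientGroup.eq_one_iff, QuotientGroup.mk_mul, hmkt, ← QuotientGroup.mk_mul,
      QuotientGroup.eq_one_iff]
    exact hsq a ha
  have ht2 : ∀ f ∈ F, (t * t) * f = f * (t * t) := fun f hf => hHcent _ htt f (hFE hf)
  have hF2 : ∀ f ∈ F, f * f = 1 := fun f hf => hE2' f (hFE hf)
  have htFa : ∀ f' ∈ Fa, t * f' * t⁻¹ = f' := by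
    intro f' hf'
    rw [hFamem] at hf'
    rw [htE f' hf'.1, hf'.2 a ha, mul_inv_cancel_right]
  obtain ⟨F₀, hF₀⟩ : ∃ F₀ : Subgroup G, F₀ = F ⊓ Subgroup.centralizer ({x} : Set G) := ⟨_, rfl⟩
  have hkey : Fa ⊓ Fa.map (MulAut.conj x).toMonoidHom ≤ F₀ := by
    intro f hf
    rw [Subgroup.mem_inf, mem_map_conj] at hf
    obtain ⟨hf1, hf2⟩ := hf
    rw [hF₀, Subgroup.mem_inf, Subgroup.mem_centralizer_singleton_iff]
    refine ⟨hFaF hf1, ?_⟩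
    have h1 := htFa f hf1
    have h2 := htFa _ hf2
    have h3 : t * (x⁻¹ * f * x) * t⁻¹ = x * f * x⁻¹ := by
      calc t * (x⁻¹ * f * x) * t⁻¹ = (t * x⁻¹ * t⁻¹) * (t * f * t⁻¹) * (t * x * t⁻¹) := by group
        _ = x * f * x⁻¹ := by rw [hinv', h1, hinv]
    rw [h2] at h3
    symm
    apply commute_of_sq_commute hqodd hxq
    calc x * x * f = x * (x * f * x⁻¹) * x := by group
      _ = x * (x⁻¹ * f * x) * x := by rw [h3]
      _ = f * (x * x) := by group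
  have hFa'idx : (Fa.map (MulAut.conj x).toMonoidHom).relIndex F ≤ 2 := by
    have hFx : F.map (MulAut.conj x).toMonoidHom = F :=
      map_conj_eq_of_le F x (by rintro _ ⟨f, hf, rfl⟩; exact hxF' f hf)
    have := Subgroup.relIndex_map_map_of_injective Fa F
      (f := (MulAut.conj x).toMonoidHom) (MulAut.conj x).injective
    rw [hFx] at this
    rw [this]; exact hFaidx
  have hF₀idx : F₀.relIndex F ≤ 4 := by
    have h1 : (Fa ⊓ Fa.map (MulAut.conj x).toMonoidHom).relIndex F ≤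
        Fa.relIndex F * (Fa.map (MulAut.conj x).toMonoidHom).relIndex F := Subgroup.relIndex_inf_le
    have hne : (Fa ⊓ Fa.map (MulAut.conj x).toMonoidHom).relIndex F ≠ 0 :=
      Subgroup.index_ne_zero_of_finite
    have h2 : F₀.relIndex F ≤ (Fa ⊓ Fa.map (MulAut.conj x).toMonoidHom).relIndex F :=
      Subgroup.relIndex_le_of_le_left hkey hne
    calc F₀.relIndex F ≤ _ := h2
      _ ≤ _ := h1
      _ ≤ 2 * 2 := Nat.mul_le_mul hFaidx hFa'idx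
  have hdiv : F₀.relIndex F ∣ 4 := by
    have h1 : F₀.relIndex F ∣ Nat.card F := Subgroup.relIndex_dvd_card F₀ F
    have hF2g : IsPGroup 2 ↥F := hH.to_le (hFE.trans hEH)
    obtain ⟨n, hn⟩ := (IsPGroup.iff_card (p := 2)).mp hF2g
    rw [hn, Nat.dvd_prime_pow Nat.prime_two] at h1
    obtain ⟨j, -, hj⟩ := h1
    rw [hj] at hF₀idx ⊢
    have hj2 : j ≤ 2 := by
      by_contra hlt
      push Not at hlt
      have : 2 ^ 3 ≤ 2 ^ j := Nat.pow_le_pow_right (by norm_num) hlt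
      omega
    exact pow_dvd_pow 2 hj2
  by_cases hcase : F ≤ Subgroup.centralizer ({x} : Set G)
  · exfalso
    have hxFa : ∀ f ∈ Fa, x * f = f * x := by
      intro f hf
      have := hcase (hFaF hf)
      rw [Subgroup.mem_centralizer_singleton_iff] at this
      exact this.symm
    have h4 := caseA_pow_four E Fa hEconj hFaE (fun f hf => hE2' f (hFaE hf)) hinv htE htE'
      (hcomm a ha) (fun e he => by
        have := hcomm a⁻¹ (A₁.inv_mem ha) e he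
        rwa [inv_inv] at this)
      (fun f hf => ((hFamem f).mp hf).2 a ha) hxFa
    have hx4 : x ^ 4 ∈ H := by
      rw [← hCE, Subgroup.mem_centralizer_iff]
      exact h4
    apply hxH
    have hcop4 : Nat.Coprime 4 q := by
      have : (4 : ℕ) = 2 ^ 2 := by norm_num
      rw [this]; exact Nat.Coprime.pow_left 2 hcop2
    exact mem_of_pow_mem_of_coprime H hcop4 hx4 (by rw [hxq]; exact H.one_mem)
  · exact involves_s4_of_action F hq hq2 hxq hinv hxF htF hF2 hDF ht2 (hF₀ ▸ hdiv) hcase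

end config

end Cfsg.Agent.Lib.Helper7.ThA
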