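import Mathlib
import Cfsg.Agent.Lib.Helper7.ThA2

set_option autoImplicit false
set_option linter.style.haveILetI false
set_option linter.unusedSectionVars false
set_option linter.unusedVariables false

open scoped commutatorElement Pointwise

namespace Cfsg.Agent.Lib.Helper7.ThA

open Cfsg Cfsg.Agent.Lib.Helper4.ZJ Cfsg.Agent.Lib.Helper4.PNil Cfsg.Agent.Lib.Lead.Conj
  Cfsg.Agent.Lib.Helper4.GT

universe u

section stepA
variable {p : ℕ} {G : Type u} [Group G] [Finite G]

/-- a group with a non-`p`-nilpotent `p`-local subgroup in which the theorem holds for the proper subgroups has a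
nontrivial normal `p`-subgroup -/
theorem stepA [Fact p.Prime] (ihsub : ∀ L : Subgroup G, L ≠ ⊤ → Holds p ↥L) (hfree : Free p G)
    (P : Sylow p G) (hHyp : Hyp p (P : Subgroup G)) (hnot : ¬ PNil p (⊤ : Subgroup G)) :
    ∃ H : Subgroup G, H ≤ (P : Subgroup G) ∧ H ≠ ⊥ ∧ H.Normal := by
  have hp : p.Prime := Fact.out
  have hPp : IsPGroup p ↥(P : Subgroup G) := P.isPGroup'
  obtain ⟨H₀, hH₀P, hH₀ne, hH₀bad⟩ := exists_bad P hnot
  haveI : Nonempty {H : Subgroup G // H ≤ (P : Subgroup G) ∧ H ≠ ⊥ ∧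
      ¬ PNil p (Subgroup.normalizer (H : Set G))} := ⟨⟨H₀, hH₀P, hH₀ne, hH₀bad⟩⟩
  obtain ⟨⟨H, hHP, hHne, hHbad⟩, hmax⟩ := Finite.exists_max
    (fun H : {H : Subgroup G // H ≤ (P : Subgroup G) ∧ H ≠ ⊥ ∧
      ¬ PNil p (Subgroup.normalizer (H : Set G))} =>
      Nat.card ↥((P : Subgroup G) ⊓ Subgroup.normalizer (H.1 : Set G)))
  have hmax' : ∀ H' : Subgroup G, H' ≤ (P : Subgroup G) → H' ≠ ⊥ →
      ¬ PNil p (Subgroup.normalizer (H' : Set G)) →
      Nat.card ↥((P : Subgroup G) ⊓ Subgroup.normalizer (H' : Set G)) ≤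
        Nat.card ↥((P : Subgroup G) ⊓ Subgroup.normalizer (H : Set G)) :=
    fun H' h1 h2 h3 => hmax ⟨H', h1, h2, h3⟩
  obtain ⟨N, hNdef⟩ : ∃ N : Subgroup G, N = Subgroup.normalizer (H : Set G) := ⟨_, rfl⟩
  obtain ⟨R, hRdef⟩ : ∃ R : Subgroup G, R = (P : Subgroup G) ⊓ N := ⟨_, rfl⟩
  rw [← hNdef] at hHbad
  rw [← hNdef, ← hRdef] at hmax'
  have hRP : R ≤ (P : Subgroup G) := by rw [hRdef]; exact inf_le_left
  have hRN : R ≤ N := by rw [hRdef]; exact inf_le_right
  have hHN : H ≤ N := by rw [hNdef]; exact Subgroup.le_normalizer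
  have hHR : H ≤ R := by rw [hRdef]; exact le_inf hHP hHN
  have hRp : IsPGroup p ↥R := hPp.to_le hRP
  have hRne : R ≠ ⊥ := by
    intro h
    apply hHne
    rw [eq_bot_iff, ← h]; exact hHR
  -- C2: `R` is a Sylow subgroup of `N`
  have hRi : ¬ p ∣ R.relIndex N := by
    have hRp' : IsPGroup p ↥(R.subgroupOf N) := by
      have h1 : R.subgroupOf N = R.comap N.subtype := rfl
      rw [h1]
      exact hRp.comap_of_injective N.subtype N.subtype_injective
    obtain ⟨S, hS⟩ := hRp'.exists_le_sylow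
    obtain ⟨S', hS'⟩ : ∃ S' : Subgroup G, S' = (S : Subgroup ↥N).map N.subtype := ⟨_, rfl⟩
    have hS'N : S' ≤ N := by rw [hS']; exact Subgroup.map_subtype_le _
    have hS'p : IsPGroup p ↥S' := by rw [hS']; exact S.isPGroup'.map _
    have hRS' : R ≤ S' := by
      intro x hx
      rw [hS']
      exact ⟨⟨x, hRN hx⟩, hS (Subgroup.mem_subgroupOf.mpr hx), rfl⟩
    obtain ⟨g, -, hg⟩ := Cfsg.Agent.H2.exists_conj_le_sylow_of_le P ⊤ le_top S' hS'p le_top
    have hH'P : H.map (MulAut.conj g).toMonoidHom ≤ (P : Subgroup G) :=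
      (Subgroup.map_mono (hHR.trans hRS')).trans hg
    have hH'ne : H.map (MulAut.conj g).toMonoidHom ≠ ⊥ := by
      intro h
      apply hHne
      exact (Subgroup.map_eq_bot_iff_of_injective H (MulAut.conj g).injective).mp h
    have hNH' : Subgroup.normalizer ((H.map (MulAut.conj g).toMonoidHom : Subgroup G) : Set G) =
        N.map (MulAut.conj g).toMonoidHom := by
      rw [hNdef]; exact (Subgroup.map_equiv_normalizer_eq H (MulAut.conj g)).symm
    have hH'bad : ¬ PNil p (Subgroup.normalizer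
        ((H.map (MulAut.conj g).toMonoidHom : Subgroup G) : Set G)) := by
      rw [hNH', pnil_map_equiv_iff]; exact hHbad
    have h1 := hmax' _ hH'P hH'ne hH'bad
    have h2 : S'.map (MulAut.conj g).toMonoidHom ≤ (P : Subgroup G) ⊓ Subgroup.normalizer
        ((H.map (MulAut.conj g).toMonoidHom : Subgroup G) : Set G) := by
      rw [hNH']; exact le_inf hg (Subgroup.map_mono hS'N)
    have h3 : Nat.card ↥S' ≤ Nat.card ↥R := by
      rw [← card_map_conj S' g]
      exact (Subgroup.card_le_of_le h2).trans h1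
    have h4 : R = S' := Subgroup.eq_of_le_of_card_ge hRS' h3
    have h5 : R.subgroupOf N = (S : Subgroup ↥N) := by
      rw [h4, hS']
      exact Subgroup.comap_map_eq_self_of_injective N.subtype_injective _
    show ¬ p ∣ (R.subgroupOf N).index
    rw [h5]
    exact S.not_dvd_index
  -- C3: `R = P`
  have hRP' : R = (P : Subgroup G) := by
    by_contra hne
    have hNtop : N ≠ ⊤ := by
      intro h
      apply hne
      rw [hRdef, h, inf_top_eq]
    -- normalizers grow in `P`
    have h3 : Nat.card ↥R < Nat.card ↥((P : Subgroup G) ⊓ Subgroup.normalizer (R : Set G)) := by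
      haveI : Group.IsNilpotent ↥(P : Subgroup G) := hPp.isNilpotent
      have hnc := Group.normalizerCondition_of_isNilpotent (G := ↥(P : Subgroup G))
      have hlt : R.subgroupOf (P : Subgroup G) < ⊤ := by
        rw [lt_top_iff_ne_top]
        intro h
        apply hne
        exact le_antisymm hRP (Subgroup.subgroupOf_eq_top.mp h)
      have h4 := hnc _ hlt
      rw [← Subgroup.subgroupOf_normalizer_eq hRP] at h4
      have h5 := Cfsg.Agent.S0651.card_lt_of_lt h4
      rw [Cfsg.Agent.Lib.Helper7.card_subgroupOf_of_le hRP, ← Subgroup.inf_subgroupOf_right,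
        Cfsg.Agent.Lib.Helper7.card_subgroupOf_of_le inf_le_right, inf_comm] at h5
      exact h5
    have hNW : ∀ U : Subgroup G, U ≤ R → U ≠ ⊥ →
        Subgroup.normalizer (R : Set G) ≤ Subgroup.normalizer (U : Set G) →
        PNil p (Subgroup.normalizer (U : Set G)) := by
      intro U hUR hUne hNU
      by_contra hbad
      have h1 := hmax' U (hUR.trans hRP) hUne hbad
      have h2 : (P : Subgroup G) ⊓ Subgroup.normalizer (R : Set G) ≤
          (P : Subgroup G) ⊓ Subgroup.normalizer (U : Set G) := inf_le_inf_left _ hNU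
      exact absurd ((Subgroup.card_le_of_le h2).trans h1) (not_le.mpr h3)
    apply hHbad
    apply holds_sub (ihsub N hNtop) hfree R hRN hRp hRi
    refine ⟨hNW _ (JA_le R) (JA_ne_bot hRne) (normalizer_le_normalizer_JA R), ?_⟩
    exact pnil_mono (Subgroup.centralizer_le_normalizer _)
      (hNW _ inf_le_left (center_ne_bot hRp hRne) (normalizer_le_normalizer_center R))
  -- C4: `N = ⊤`
  have hNtop : N = ⊤ := by
    by_contra hne
    apply hHbad
    rw [hRP'] at hRi hRN
    exact holds_sub (ihsub N hne) hfree (P : Subgroup G) hRN hPp hRi hHyp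
  refine ⟨H, hHP, hHne, ?_⟩
  rw [hNdef] at hNtop
  exact Subgroup.normalizer_eq_top_iff.mp hNtop

end stepA

section main
variable {p : ℕ}

/-- the final configuration -/
structure FinalCfg (p : ℕ) (G : Type u) [Group G] (P : Sylow p G) (K₁ : Subgroup G) : Prop where
  free : Free p G
  hyp : Hyp p (P : Subgroup G)
  notnil : ¬ PNil p (⊤ : Subgroup G)
  K₁n : K₁.Normal
  hHK : Cfsg.pCore p G ≤ K₁
  cent : Subgroup.centralizer (Cfsg.pCore p G : Set G) ≤ Cfsg.pCore p G
  cop : ((Cfsg.pCore p G).relIndex K₁).Coprime p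
  idx : ∃ k : ℕ, K₁.index = p ^ k
  ab : ⁅K₁, K₁⁆ ≤ Cfsg.pCore p G
  max : ∀ L : Subgroup G, (P : Subgroup G) ≤ L → L = (P : Subgroup G) ∨ L = ⊤
  hO : Cfsg.pPrimeCore p G = ⊥

theorem thA_all [Fact p.Prime]
    (hfinal : ∀ (G : Type u) [Group G] [Finite G] (P : Sylow p G) (K₁ : Subgroup G),
      FinalCfg p G P K₁ → False) :
    ∀ n : ℕ, ∀ (G : Type u) [Group G] [Finite G], Nat.card G = n → Holds p G := by
  intro n
  induction n using Nat.strong_induction_on with
  | _ n ih =>
  intro G _ _ hn hfree P hHyp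
  by_contra hnot
  have hPp : IsPGroup p ↥(P : Subgroup G) := P.isPGroup'
  have ihsub : ∀ L : Subgroup G, L ≠ ⊤ → Holds p ↥L := by
    intro L hL
    exact ih (Nat.card ↥L) (by rw [← hn]; exact card_subgroup_lt L hL) ↥L rfl
  have ihquot : ∀ (M : Subgroup G) [M.Normal], M ≠ ⊥ → Holds p (G ⧸ M) := by
    intro M _ hM
    exact ih (Nat.card (G ⧸ M)) (by rw [← hn]; exact card_quotient_lt M hM) (G ⧸ M) rfl
  obtain ⟨H₀, hH₀P, hH₀ne, hH₀n⟩ := stepA ihsub hfree P hHyp hnot
  obtain ⟨H, hHdef⟩ : ∃ H : Subgroup G, H = Cfsg.pCore p G := ⟨_, rfl⟩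
  haveI hHn : H.Normal := by rw [hHdef]; exact Cfsg.Agent.H9.pCore_normal p G
  have hHp : IsPGroup p ↥H := by rw [hHdef]; exact Cfsg.Agent.H9.pCore_isPGroup p G
  have hHP : H ≤ (P : Subgroup G) := hHp.le_sylow_of_normal P
  have hle_H : ∀ (V : Subgroup G) [V.Normal], IsPGroup p ↥V → V ≤ H := by
    intro V _ hV
    rw [hHdef]; exact Cfsg.Agent.H9.le_pCore V hV
  have hHne : H ≠ ⊥ := by
    intro h
    apply hH₀ne
    haveI := hH₀n
    have := hle_H H₀ (hPp.to_le hH₀P)
    rw [h] at this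
    exact eq_bot_iff.mpr this
  have ihP : ∀ L : Subgroup G, (P : Subgroup G) ≤ L → L ≠ ⊤ → PNil p L := by
    intro L hPL hL
    apply holds_sub (ihsub L hL) hfree (P : Subgroup G) hPL hPp ?_ hHyp
    intro hdvd
    exact P.not_dvd_index (dvd_trans hdvd (Subgroup.relIndex_dvd_index_of_le hPL))
  have hO : Cfsg.pPrimeCore p G = ⊥ := by
    by_contra hne
    apply hnot
    haveI : (Cfsg.pPrimeCore p G).Normal := Cfsg.Agent.H1.pPrimeCore_normal p
    exact holds_quot_p' (Cfsg.pPrimeCore p G) (Cfsg.Agent.H1.pPrimeCore_coprime p)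
      (ihquot _ hne) hfree P hHyp
  have hK : ∀ K' : Subgroup G, H ≤ K' → K' ≤ (P : Subgroup G) → K' ≠ H →
      (P : Subgroup G) ≤ Subgroup.normalizer (K' : Set G) →
      PNil p (Subgroup.normalizer (K' : Set G)) := by
    intro K' hHK' hK'P hne hPK'
    apply ihP _ hPK'
    intro htop
    apply hne
    haveI : K'.Normal := Subgroup.normalizer_eq_top_iff.mp htop
    exact le_antisymm (hle_H K' (hPp.to_le hK'P)) hHK'
  have hQ : PNil p (⊤ : Subgroup (G ⧸ H)) := by
    by_cases hPH : (P : Subgroup G) ≤ H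
    · have hPeq : (P : Subgroup G) = H := le_antisymm hPH hHP
      refine ⟨⊤, le_rfl, Subgroup.le_normalizer, ?_, 0, ?_⟩
      · rw [Subgroup.card_top, ← Subgroup.index_eq_card, ← hPeq]
        exact (Nat.Coprime.symm ((Nat.Prime.coprime_iff_not_dvd Fact.out).mpr P.not_dvd_index))
      · rw [Subgroup.relIndex_top_right, Subgroup.index_top, pow_zero]
    · exact holds_quot_p H (ihquot H hHne) hfree P hHP hPH hK
  obtain ⟨Mb, -, hMbn, hMbc, k, hMbk⟩ := hQ
  haveI hMn : Mb.Normal := Subgroup.normalizer_eq_top_iff.mp (top_le_iff.mp hMbn)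
  have hs := QuotientGroup.mk'_surjective H
  have hker : ∀ x : G, QuotientGroup.mk' H x = 1 ↔ x ∈ H := by
    intro x
    rw [QuotientGroup.mk'_apply, QuotientGroup.eq_one_iff]
  obtain ⟨K₁, hK₁⟩ : ∃ K₁ : Subgroup G, K₁ = Mb.comap (QuotientGroup.mk' H) := ⟨_, rfl⟩
  haveI hK₁n : K₁.Normal := by rw [hK₁]; exact hMn.comap _
  have hHK : H ≤ K₁ := by
    intro x hx
    rw [hK₁, Subgroup.mem_comap, (hker x).mpr hx]
    exact Mb.one_mem
  have hHcomap : Subgroup.comap (QuotientGroup.mk' H) ⊥ = H := by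
    ext x
    rw [Subgroup.mem_comap, Subgroup.mem_bot, hker]
  have hK₁map : K₁.map (QuotientGroup.mk' H) = Mb := by
    rw [hK₁]; exact Subgroup.map_comap_eq_self_of_surjective hs Mb
  have hrel : H.relIndex K₁ = Nat.card ↥Mb := by
    have h1 : (Subgroup.comap (QuotientGroup.mk' H) ⊥).relIndex K₁ = Nat.card ↥Mb := by
      rw [Subgroup.relIndex_comap, hK₁map, Subgroup.relIndex_bot_left]
    rw [hHcomap] at h1
    exact h1
  have hcop : (H.relIndex K₁).Coprime p := by rw [hrel]; exact hMbc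
  have hidx : K₁.index = p ^ k := by
    rw [hK₁, Subgroup.index_comap_of_surjective Mb hs, ← Subgroup.relIndex_top_right]
    exact hMbk
  have hsol : Cfsg.IsPSolvable p G := by
    refine ⟨3, ![⊥, H, K₁, ⊤], rfl, rfl, ?_, ?_, ?_⟩
    · rw [Fin.monotone_iff_le_succ]
      intro i
      fin_cases i
      · exact bot_le
      · exact hHK
      · exact le_top
    · intro i
      fin_cases i
      · show (⊥ : Subgroup G).Normal; infer_instance
      · exact hHn
      · exact hK₁n
      · show (⊤ : Subgroup G).Normal; infer_instance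
    · intro i
      fin_cases i
      · left
        obtain ⟨m, hm⟩ := hHp.exists_card_eq
        refine ⟨m, ?_⟩
        show (⊥ : Subgroup G).relIndex H = p ^ m
        rw [Subgroup.relIndex_bot_left]; exact hm
      · right
        exact hcop
      · left
        refine ⟨k, ?_⟩
        show K₁.relIndex ⊤ = p ^ k
        rw [Subgroup.relIndex_top_right]; exact hidx
  have hC : Subgroup.centralizer (H : Set G) ≤ H := by
    rw [hHdef]
    exact Cfsg.Agent.Lib.Lead.PSolvable.centralizer_pCore_le hsol hO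
  have hab := endgame P H hHp hC ihP Mb hMbc
  have hab' : ⁅K₁, K₁⁆ ≤ H := by
    rw [Subgroup.commutator_le]
    intro a ha b hb
    rw [← hker, map_commutatorElement]
    have h1 : ⁅(QuotientGroup.mk' H) a, (QuotientGroup.mk' H) b⁆ ∈ ⁅Mb, Mb⁆ := by
      apply Subgroup.commutator_mem_commutator
      · rw [hK₁] at ha; exact ha
      · rw [hK₁] at hb; exact hb
    rw [hab, Subgroup.mem_bot] at h1
    exact h1
  have hmaxP : ∀ L : Subgroup G, (P : Subgroup G) ≤ L → L = (P : Subgroup G) ∨ L = ⊤ := by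
    intro L hPL
    by_cases hLt : L = ⊤
    · exact Or.inr hLt
    · left
      obtain ⟨M, hML, hn', hc, j, hj⟩ := ihP L hPL hLt
      have hinf : M ⊓ H = ⊥ := Cfsg.Agent.H1.inf_eq_bot_of_pgroup_coprime M H hHp hc
      have hMC : M ≤ Subgroup.centralizer (H : Set G) := by
        intro m hm
        rw [Subgroup.mem_centralizer_iff]
        intro h hh
        have hhn : h ∈ Subgroup.normalizer (M : Set G) := hn' (hPL (hHP hh))
        have h1 : h * m * h⁻¹ ∈ M := (Subgroup.mem_normalizer_iff.mp hhn m).mp hm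
        have h2 : h * m * h⁻¹ * m⁻¹ ∈ M := M.mul_mem h1 (M.inv_mem hm)
        have h3 : h * m * h⁻¹ * m⁻¹ ∈ H := by
          have h4 : m * h⁻¹ * m⁻¹ ∈ H := hHn.conj_mem _ (H.inv_mem hh) m
          have e : h * m * h⁻¹ * m⁻¹ = h * (m * h⁻¹ * m⁻¹) := by group
          rw [e]; exact H.mul_mem hh h4
        have h5 : h * m * h⁻¹ * m⁻¹ ∈ M ⊓ H := ⟨h2, h3⟩
        rw [hinf, Subgroup.mem_bot] at h5
        calc h * m = (h * m * h⁻¹ * m⁻¹) * (m * h) := by group
          _ = m * h := by rw [h5, one_mul]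
      have hMb : M = ⊥ := by
        rw [eq_bot_iff, ← hinf]
        exact le_inf le_rfl (hMC.trans hC)
      have hLp : IsPGroup p ↥L := by
        apply IsPGroup.of_card (n := j)
        rw [← hj, hMb, Subgroup.relIndex_bot_left]
      exact P.is_maximal' hLp hPL
  subst hHdef
  exact hfinal G P K₁ ⟨hfree, hHyp, hnot, hK₁n, hHK, hC, hcop, ⟨k, hidx⟩, hab', hmaxP, hO⟩

end main

end Cfsg.Agent.Lib.Helper7.ThA

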