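import Mathlib
import Cfsg.Agent.Lib.Helper7.ThA3
import Cfsg.Agent.Lib.Helper4.Offender
import Cfsg.Agent.H1.PQ

set_option autoImplicit false
set_option linter.style.haveILetI false
set_option linter.unusedSectionVars false
set_option linter.unusedVariables false

open scoped commutatorElement Pointwise

namespace Cfsg.Agent.Lib.Helper7.ThA

open Cfsg Cfsg.Agent.Lib.Helper4.ZJ Cfsg.Agent.Lib.Helper4.PNil Cfsg.Agent.Lib.Lead.Conj
  Cfsg.Agent.Lib.Helper4.GT Cfsg.Agent.Lib.Helper4.Offender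

universe u

section offender
variable {p : ℕ} {G : Type u} [Group G] [Finite G]

/-- the join of two abelian subgroups that commute elementwise is abelian -/
theorem sup_comm_of_comm {X Y : Subgroup G} (hX : ∀ a ∈ X, ∀ b ∈ X, a * b = b * a)
    (hY : ∀ a ∈ Y, ∀ b ∈ Y, a * b = b * a) (hXY : ∀ a ∈ X, ∀ b ∈ Y, a * b = b * a) :
    ∀ a ∈ X ⊔ Y, ∀ b ∈ X ⊔ Y, a * b = b * a := by
  have h1 : X ⊔ Y ≤ Subgroup.centralizer ((X ⊔ Y : Subgroup G) : Set G) := by
    rw [centralizer_sup']
    apply sup_le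
    · apply le_inf
      · intro a ha; rw [Subgroup.mem_centralizer_iff]; intro b hb; exact hX b hb a ha
      · intro a ha; rw [Subgroup.mem_centralizer_iff]; intro b hb; exact (hXY a ha b hb).symm
    · apply le_inf
      · intro a ha; rw [Subgroup.mem_centralizer_iff]; intro b hb; exact hXY b hb a ha
      · intro a ha; rw [Subgroup.mem_centralizer_iff]; intro b hb; exact hY b hb a ha
  intro a ha b hb
  exact (Subgroup.mem_centralizer_iff.mp (h1 hb) a ha)

/-- a member of `𝒜(P)` is a best offender on every abelian subgroup `E` of `P` that it normalizes -/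
theorem ff_le_of_famA {P A E : Subgroup G} (hA : A ∈ famA P) (hEP : E ≤ P)
    (hEc : ∀ s ∈ E, ∀ t ∈ E, s * t = t * s) {B' : Subgroup G} (hB' : B' ≤ A) :
    ff E B' ≤ ff E A := by
  obtain ⟨hAP, hAab, hmax⟩ := mem_fam.mp hA
  have hAc : ∀ a ∈ A, ∀ b ∈ A, a * b = b * a := fun a ha b hb =>
    congrArg Subtype.val (hAab.is_comm.comm ⟨a, ha⟩ ⟨b, hb⟩)
  set C' := E ⊓ Subgroup.centralizer (B' : Set G) with hC'
  have hXc : ∀ a ∈ B' ⊔ C', ∀ b ∈ B' ⊔ C', a * b = b * a := by
    apply sup_comm_of_comm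
    · intro a ha b hb; exact hAc a (hB' ha) b (hB' hb)
    · intro a ha b hb; exact hEc a ha.1 b hb.1
    · intro a ha b hb
      exact Subgroup.mem_centralizer_iff.mp hb.2 a ha
  have hXab : IsMulCommutative ↥(B' ⊔ C') := ⟨⟨fun x y => Subtype.ext (hXc x x.2 y y.2)⟩⟩
  have hXP : B' ⊔ C' ≤ P := sup_le (hB'.trans hAP) (inf_le_left.trans hEP)
  have h1 : Nat.card ↥(B' ⊔ C') ≤ Nat.card A := hmax _ hXP hXab
  have h2 := card_mul_card_le B' C'
  have h3 : B' ⊓ C' ≤ E ⊓ Subgroup.centralizer (A : Set G) := by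
    intro x hx
    refine Subgroup.mem_inf.mpr ⟨hx.2.1, ?_⟩
    rw [Subgroup.mem_centralizer_iff]
    intro a ha
    exact hAc a ha x (hB' hx.1)
  have h4 : Nat.card ↥(B' ⊓ C') ≤ Nat.card ↥(E ⊓ Subgroup.centralizer (A : Set G)) :=
    Subgroup.card_le_of_le h3
  unfold ff
  calc Nat.card B' * Nat.card ↥C' ≤ Nat.card ↥(B' ⊔ C') * Nat.card ↥(B' ⊓ C') := h2
    _ ≤ Nat.card A * Nat.card ↥(E ⊓ Subgroup.centralizer (A : Set G)) := Nat.mul_le_mul h1 h4

/-- Thompson–Timmesfeld replacement: a quadratic offender from a member of `𝒜(P)` -/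
theorem exists_quadratic_offender [Fact p.Prime] {P A E : Subgroup G} (hPp : IsPGroup p P)
    (hA : A ∈ famA P) (hEP : E ≤ P) (hEc : ∀ s ∈ E, ∀ t ∈ E, s * t = t * s)
    (hAE : A ≤ Subgroup.normalizer (E : Set G))
    (hne : ¬ A ≤ Subgroup.centralizer (E : Set G)) :
    ∃ A₁ : Subgroup G, A₁ ≤ A ∧ ¬ A₁ ≤ Subgroup.centralizer (E : Set G) ∧
      ⁅⁅E, A₁⁆, A₁⁆ = ⊥ ∧ ∀ B' : Subgroup G, B' ≤ A₁ → ff E B' ≤ ff E A₁ := by
  obtain ⟨hAP, hAab, hmax⟩ := mem_fam.mp hA
  have hAc : ∀ a ∈ A, ∀ b ∈ A, a * b = b * a := fun a ha b hb =>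
    congrArg Subtype.val (hAab.is_comm.comm ⟨a, ha⟩ ⟨b, hb⟩)
  have hbest : Cfsg.IsBestOffenderOn (Nat.card A) E A := by
    refine ⟨fun B' hB' => ff_le_of_famA hA hEP hEc hB', ?_, ?_⟩
    · have : ⁅A, A⁆ = ⊥ := by
        rw [Subgroup.commutator_eq_bot_iff_le_centralizer]
        intro a ha
        rw [Subgroup.mem_centralizer_iff]
        intro b hb
        exact hAc b hb a ha
      rw [this]; exact bot_le
    · intro a ha
      have h1 : (⟨a, ha⟩ : ↥A) ^ Nat.card A = 1 := pow_card_eq_one'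
      have h2 : a ^ Nat.card A = 1 := by
        have := congrArg Subtype.val h1
        rwa [Subgroup.coe_pow, Subgroup.coe_one] at this
      rw [h2]; exact Subgroup.one_mem _
  obtain ⟨t1, t2⟩ := timmesfeld hEc hAE hbest E le_rfl
  set W := ⁅E, A⁆ with hW
  set A₁ := A ⊓ Subgroup.centralizer ((W : Subgroup G) : Set G) with hA₁
  have hA₁A : A₁ ≤ A := inf_le_left
  have hWE : W ≤ E := Subgroup.le_normalizer_iff_commutator_le_left.1 hAE
  refine ⟨A₁, hA₁A, ?_, ?_, ?_⟩
  · -- nontrivial action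
    intro hcen
    have h3 : E ≤ Subgroup.centralizer ((A₁ : Subgroup G) : Set G) :=
      Subgroup.le_centralizer_iff.mp hcen
    rw [inf_eq_left.2 h3] at t2
    have hWne : W ≠ ⊥ := by
      intro hbot
      apply hne
      have : E ≤ Subgroup.centralizer (A : Set G) :=
        Subgroup.commutator_eq_bot_iff_le_centralizer.mp hbot
      exact Subgroup.le_centralizer_iff.mp this
    have hAW : A ≤ Subgroup.normalizer (W : Set G) := norm_comm hAE Subgroup.le_normalizer
    have hlt := Cfsg.Agent.H1.commutator_lt_of_pgroup W A (hPp.to_le (hWE.trans hEP))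
      (hPp.to_le hAP) hAW hWne
    have hle : W ≤ ⁅W, A⁆ := by
      conv_lhs => rw [hW]
      rw [Subgroup.commutator_le]
      intro v hv a ha
      rw [t2] at hv
      have hnorm : E ⊓ Subgroup.centralizer (A : Set G) ≤
          Subgroup.normalizer ((W : Subgroup G) : Set G) := by
        intro c hc
        apply Subgroup.centralizer_le_normalizer
        rw [Subgroup.mem_centralizer_iff]
        intro w hw
        exact hEc w (hWE hw) c hc.1
      obtain ⟨x, hx, c, hc, rfl⟩ :=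
        (Cfsg.Agent.H1.mem_sup_of_le_normalizer _ _ hnorm).1 hv
      have hca : a * c = c * a := Subgroup.mem_centralizer_iff.1 hc.2 a ha
      have : ⁅x * c, a⁆ = ⁅x, a⁆ := by
        calc ⁅x * c, a⁆ = x * (c * a) * c⁻¹ * x⁻¹ * a⁻¹ := by rw [commutatorElement_def]; group
          _ = x * (a * c) * c⁻¹ * x⁻¹ * a⁻¹ := by rw [hca]
          _ = ⁅x, a⁆ := by rw [commutatorElement_def]; group
      rw [this]
      exact Subgroup.commutator_mem_commutator hx ha
    exact absurd (lt_of_le_of_lt hle hlt) (lt_irrefl _)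
  · -- quadratic action
    rw [Subgroup.commutator_eq_bot_iff_le_centralizer]
    have h1 : ⁅E, A₁⁆ ≤ W := Subgroup.commutator_mono le_rfl hA₁A
    have h2 : A₁ ≤ Subgroup.centralizer ((W : Subgroup G) : Set G) := inf_le_right
    exact h1.trans (Subgroup.le_centralizer_iff.mp h2)
  · intro B' hB'
    rw [t1]
    exact ff_le_of_famA hA hEP hEc (hB'.trans hA₁A)

end offender

end Cfsg.Agent.Lib.Helper7.ThA

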