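import Mathlib
import Cfsg.Agent.Lib.Helper7.ThA4

set_option autoImplicit false
set_option linter.style.haveILetI false
set_option linter.unusedSectionVars false
set_option linter.unusedVariables false

open scoped commutatorElement Pointwise

namespace Cfsg.Agent.Lib.Helper7.ThA

open Cfsg Cfsg.Agent.Lib.Helper4.ZJ Cfsg.Agent.Lib.Helper4.PNil Cfsg.Agent.Lib.Lead.Conj
  Cfsg.Agent.Lib.Helper4.GT Cfsg.Agent.Lib.Helper4.Offender Cfsg.Agent.H1

universe u

section final
variable {p : ℕ} {G : Type u} [Group G] [Finite G]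

theorem final_common [Fact p.Prime] (P : Sylow p G) (K₁ : Subgroup G) (h : FinalCfg p G P K₁) :
    ∃ E A₁ : Subgroup G, E.Normal ∧ E ≤ Cfsg.pCore p G ∧ (∀ s ∈ E, ∀ t ∈ E, s * t = t * s) ∧
      (∀ e ∈ E, e ^ p = 1) ∧ Subgroup.centralizer (E : Set G) = Cfsg.pCore p G ∧
      A₁ ≤ (P : Subgroup G) ∧ (∀ a ∈ A₁, ∀ b ∈ A₁, a * b = b * a) ∧ ¬ A₁ ≤ Cfsg.pCore p G ∧
      ⁅⁅E, A₁⁆, A₁⁆ = ⊥ ∧ ∀ B' : Subgroup G, B' ≤ A₁ → ff E B' ≤ ff E A₁ := by
  have hp : p.Prime := Fact.out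
  obtain ⟨hfree, ⟨hN, hZ⟩, hnot, hK₁n, hHK, hC, hcop, ⟨k, hidx⟩, hab, hmax, hO⟩ := h
  have hPp : IsPGroup p ↥(P : Subgroup G) := P.isPGroup'
  obtain ⟨H, hHdef⟩ : ∃ H : Subgroup G, H = Cfsg.pCore p G := ⟨_, rfl⟩
  rw [← hHdef] at hHK hC hcop hab
  rw [← hHdef]
  haveI hHn : H.Normal := by rw [hHdef]; exact Cfsg.Agent.H9.pCore_normal p G
  have hHp : IsPGroup p ↥H := by rw [hHdef]; exact Cfsg.Agent.H9.pCore_isPGroup p G
  have hHP : H ≤ (P : Subgroup G) := hHp.le_sylow_of_normal P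
  have hle_H : ∀ (V : Subgroup G) [V.Normal], IsPGroup p ↥V → V ≤ H := by
    intro V _ hV
    rw [hHdef]; exact Cfsg.Agent.H9.le_pCore V hV
  have hPnil : PNil p (P : Subgroup G) := pnil_of_isPGroup hPp
  have hPtop : (P : Subgroup G) ≠ ⊤ := fun h => hnot (h ▸ hPnil)
  have hover : ∀ L : Subgroup G, (P : Subgroup G) ≤ L → PNil p L → L = (P : Subgroup G) := by
    intro L hPL hL
    rcases hmax L hPL with h | h
    · exact h
    · exact absurd (h ▸ hL) hnot
  obtain ⟨Z, hZdef⟩ : ∃ Z : Subgroup G,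
      Z = (P : Subgroup G) ⊓ Subgroup.centralizer ((P : Subgroup G) : Set G) := ⟨_, rfl⟩
  rw [← hZdef] at hZ
  have hZmem : ∀ z, z ∈ Z ↔ z ∈ (P : Subgroup G) ∧
      z ∈ Subgroup.centralizer ((P : Subgroup G) : Set G) := by
    intro z; rw [hZdef, Subgroup.mem_inf]
  have hPCZ : (P : Subgroup G) ≤ Subgroup.centralizer (Z : Set G) := by
    intro x hx
    rw [Subgroup.mem_centralizer_iff]
    intro z hz
    exact (Subgroup.mem_centralizer_iff.mp ((hZmem z).mp hz).2 x hx).symm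
  have hCZ : Subgroup.centralizer (Z : Set G) = (P : Subgroup G) := hover _ hPCZ hZ
  have hPNJ : (P : Subgroup G) ≤
      Subgroup.normalizer (Cfsg.thompsonSubgroupAOf (P : Subgroup G) : Set G) :=
    Subgroup.le_normalizer.trans (normalizer_le_normalizer_JA (P : Subgroup G))
  have hNJ := hover _ hPNJ hN
  have hJH : ¬ Cfsg.thompsonSubgroupAOf (P : Subgroup G) ≤ H := by
    intro hle
    have h1 : Cfsg.thompsonSubgroupAOf H = Cfsg.thompsonSubgroupAOf (P : Subgroup G) :=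
      JA_eq_of_le hle hHP
    have h2 : Subgroup.normalizer (H : Set G) ≤
        Subgroup.normalizer (Cfsg.thompsonSubgroupAOf H : Set G) := normalizer_le_normalizer_JA H
    rw [Subgroup.normalizer_eq_top_iff.mpr hHn, h1, hNJ] at h2
    exact hPtop (top_le_iff.mp h2)
  obtain ⟨A, hA, hAH⟩ : ∃ A, A ∈ famA (P : Subgroup G) ∧ ¬ A ≤ H := by
    by_contra hcon
    push Not at hcon
    exact hJH (JA_le_of hcon)
  obtain ⟨B, hBdef⟩ : ∃ B : Subgroup G, B = H ⊓ Subgroup.centralizer (H : Set G) := ⟨_, rfl⟩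
  have hBmem : ∀ b, b ∈ B ↔ b ∈ H ∧ b ∈ Subgroup.centralizer (H : Set G) := by
    intro b; rw [hBdef, Subgroup.mem_inf]
  haveI hBn : B.Normal := by rw [hBdef]; infer_instance
  have hBH : B ≤ H := fun b hb => ((hBmem b).mp hb).1
  have hBc : ∀ b ∈ B, ∀ h ∈ H, h * b = b * h := fun b hb h hh =>
    Subgroup.mem_centralizer_iff.mp ((hBmem b).mp hb).2 h hh
  have hZB : Z ≤ B := by
    intro z hz
    have h1 : z ∈ Subgroup.centralizer (H : Set G) :=
      Subgroup.centralizer_le hHP ((hZmem z).mp hz).2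
    exact (hBmem z).mpr ⟨hC h1, h1⟩
  obtain ⟨E, hE⟩ : ∃ E : Subgroup G, ∀ x, x ∈ E ↔ x ∈ B ∧ x ^ p = 1 :=
    ⟨{ carrier := {x | x ∈ B ∧ x ^ p = 1}
       mul_mem' := by
         rintro a b ⟨ha, hap⟩ ⟨hb, hbp⟩
         refine ⟨B.mul_mem ha hb, ?_⟩
         have hc : Commute a b := hBc b hb a (hBH ha)
         rw [hc.mul_pow, hap, hbp, one_mul]
       one_mem' := ⟨B.one_mem, one_pow p⟩
       inv_mem' := by
         rintro a ⟨ha, hap⟩
         exact ⟨B.inv_mem ha, by rw [inv_pow, hap, inv_one]⟩ }, fun x => Iff.rfl⟩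
  haveI hEn : E.Normal := ⟨fun x hx g => by
    rw [hE] at hx ⊢
    refine ⟨hBn.conj_mem x hx.1 g, ?_⟩
    rw [conj_pow, hx.2, mul_one, mul_inv_cancel]⟩
  have hEB : E ≤ B := fun x hx => ((hE x).mp hx).1
  have hEP : E ≤ (P : Subgroup G) := hEB.trans (hBH.trans hHP)
  have hEp : IsPGroup p ↥E := hPp.to_le hEP
  have hEc : ∀ s ∈ E, ∀ t ∈ E, s * t = t * s := fun s hs t ht =>
    hBc t (hEB ht) s (hBH (hEB hs))
  have hHCE : H ≤ Subgroup.centralizer (E : Set G) := by
    intro h hh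
    rw [Subgroup.mem_centralizer_iff]
    intro e he
    exact (hBc e (hEB he) h hh).symm
  by_cases hY : ∀ y ∈ Z, y ^ p = 1 → y ∈ Subgroup.center G
  · -- every element of order `p` of `Z(P)` is central in `G`
    exfalso
    haveI hHKn : (H.subgroupOf K₁).Normal := inferInstance
    have hcardHK : Nat.card ↥(H.subgroupOf K₁) = Nat.card ↥H :=
      Nat.card_congr (Subgroup.subgroupOfEquivOfLe hHK).toEquiv
    obtain ⟨m, hm⟩ := hHp.exists_card_eq
    have hcop' : (Nat.card ↥(H.subgroupOf K₁)).Coprime (H.subgroupOf K₁).index := by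
      rw [hcardHK, hm]
      exact Nat.Coprime.pow_left m (Nat.Coprime.symm hcop)
    obtain ⟨Q', hQ'⟩ := Subgroup.exists_right_complement'_of_coprime hcop'
    have hQ'card : Nat.card ↥Q' = H.relIndex K₁ := (hQ'.symm.index_eq_card).symm
    obtain ⟨Q, hQdef⟩ : ∃ Q : Subgroup G, Q = Q'.map K₁.subtype := ⟨_, rfl⟩
    have hQcard : Nat.card ↥Q = H.relIndex K₁ := by
      rw [hQdef, Subgroup.card_map_of_injective K₁.subtype_injective]; exact hQ'card
    have hdecomp : ∀ x ∈ K₁, ∃ h ∈ H, ∃ q ∈ Q, x = h * q := by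
      intro x hx
      obtain ⟨⟨n, q⟩, hnq, -⟩ := Subgroup.IsComplement.existsUnique hQ' ⟨x, hx⟩
      refine ⟨n.1.1, Subgroup.mem_subgroupOf.mp n.2, q.1.1, ?_, ?_⟩
      · rw [hQdef]; exact ⟨q.1, q.2, rfl⟩
      · have h1 := congrArg Subtype.val hnq
        exact h1.symm
    have hBab : IsMulCommutative ↥B := ⟨⟨fun a b => Subtype.ext (hBc b.1 b.2 a.1 (hBH a.2))⟩⟩
    have hQB : Q ≤ Subgroup.normalizer (B : Set G) := by
      rw [Subgroup.normalizer_eq_top_iff.mpr hBn]; exact le_top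
    have hcopQB : (Nat.card ↥Q).Coprime (Nat.card ↥B) := by
      obtain ⟨j, hj⟩ := (hHp.to_le hBH).exists_card_eq
      rw [hQcard, hj]
      exact Nat.Coprime.pow_right j hcop
    have hbot := commutator_inf_centralizer_eq_bot_of_abelian B Q hBab hQB hcopQB
    have hTle : ⁅B, K₁⁆ ≤ ⁅B, Q⁆ := by
      rw [Subgroup.commutator_le]
      intro b hb x hx
      obtain ⟨h, hh, q, hq, rfl⟩ := hdecomp x hx
      have hc : ⁅b, q⁆ ∈ B := by
        rw [commutatorElement_def]
        have h1 : q * b⁻¹ * q⁻¹ ∈ B := hBn.conj_mem _ (B.inv_mem hb) q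
        have e : b * q * b⁻¹ * q⁻¹ = b * (q * b⁻¹ * q⁻¹) := by group
        rw [e]; exact B.mul_mem hb h1
      have e : ⁅b, h * q⁆ = ⁅b, q⁆ := by
        have h1 : h * b = b * h := hBc b hb h hh
        have h2 : h * ⁅b, q⁆ = ⁅b, q⁆ * h := hBc _ hc h hh
        calc ⁅b, h * q⁆ = (b * h) * q * b⁻¹ * q⁻¹ * h⁻¹ := by rw [commutatorElement_def]; group
          _ = h * ⁅b, q⁆ * h⁻¹ := by rw [← h1, commutatorElement_def]; group
          _ = ⁅b, q⁆ := by rw [h2]; group
      rw [e]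
      exact Subgroup.commutator_mem_commutator hb hq
    have hT : ⁅B, K₁⁆ = ⊥ := by
      by_contra hTne
      have hTB : ⁅B, K₁⁆ ≤ B := Subgroup.commutator_le_left B K₁
      have hTP : ⁅B, K₁⁆ ≤ (P : Subgroup G) := hTB.trans (hBH.trans hHP)
      have hnT : (P : Subgroup G) ≤ Subgroup.normalizer ((⁅B, K₁⁆ : Subgroup G) : Set G) := by
        rw [Subgroup.normalizer_eq_top_iff.mpr inferInstance]; exact le_top
      obtain ⟨y, hyT, hyC, hyp, hy1⟩ := exists_central_order_p hPp hTP hnT hTne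
      have hyZ : y ∈ Z := (hZmem y).mpr ⟨hTP hyT, hyC⟩
      have hyc := hY y hyZ hyp
      have h1 : y ∈ ⁅B, Q⁆ ⊓ Subgroup.centralizer (Q : Set G) :=
        Subgroup.mem_inf.mpr ⟨hTle hyT, Subgroup.center_le_centralizer _ hyc⟩
      rw [hbot, Subgroup.mem_bot] at h1
      exact hy1 h1
    have hK₁P : K₁ ≤ (P : Subgroup G) := by
      have h1 : B ≤ Subgroup.centralizer (K₁ : Set G) :=
        Subgroup.commutator_eq_bot_iff_le_centralizer.mp hT
      have h2 : K₁ ≤ Subgroup.centralizer (B : Set G) := Subgroup.le_centralizer_iff.mp h1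
      rw [← hCZ]
      exact h2.trans (Subgroup.centralizer_le hZB)
    have hGp : IsPGroup p G := by
      obtain ⟨a, ha⟩ := (hPp.to_le hK₁P).exists_card_eq
      apply IsPGroup.of_card (n := a + k)
      rw [← Subgroup.card_mul_index K₁, ha, hidx, pow_add]
    apply hPtop
    have hTp : IsPGroup p ↥(⊤ : Subgroup G) := hGp.to_subgroup ⊤
    exact (P.is_maximal' hTp le_top).symm
  · push Not at hY
    obtain ⟨y, hyZ, hyp, hyc⟩ := hY
    have hyE : y ∈ E := (hE y).mpr ⟨hZB hyZ, hyp⟩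
    have hPCy : (P : Subgroup G) ≤ Subgroup.centralizer ({y} : Set G) := by
      intro x hx
      rw [Subgroup.mem_centralizer_iff]
      intro z hz
      rw [Set.mem_singleton_iff] at hz
      subst hz
      exact (Subgroup.mem_centralizer_iff.mp ((hZmem z).mp hyZ).2 x hx).symm
    have hCy : Subgroup.centralizer ({y} : Set G) = (P : Subgroup G) := by
      rcases hmax _ hPCy with h | h
      · exact h
      · exfalso
        apply hyc
        rw [Subgroup.mem_center_iff]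
        intro g
        have h1 : g ∈ Subgroup.centralizer ({y} : Set G) := h ▸ Subgroup.mem_top g
        exact (Subgroup.mem_centralizer_iff.mp h1 y rfl).symm
    have hCE : Subgroup.centralizer (E : Set G) = H := by
      apply le_antisymm _ hHCE
      have h1 : Subgroup.centralizer (E : Set G) ≤ (P : Subgroup G) := by
        rw [← hCy]
        exact Subgroup.centralizer_le (Set.singleton_subset_iff.mpr hyE)
      exact hle_H _ (hPp.to_le h1)
    have hAE : A ≤ Subgroup.normalizer (E : Set G) := by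
      rw [Subgroup.normalizer_eq_top_iff.mpr hEn]; exact le_top
    have hAne : ¬ A ≤ Subgroup.centralizer (E : Set G) := by rw [hCE]; exact hAH
    obtain ⟨A₁, hA₁A, hA₁ne, hquad, hbest⟩ :=
      exists_quadratic_offender hPp hA hEP hEc hAE hAne
    have hAP : A ≤ (P : Subgroup G) := (mem_fam.mp hA).1
    have hAc : ∀ a ∈ A, ∀ b ∈ A, a * b = b * a := fun a ha b hb =>
      congrArg Subtype.val ((mem_fam.mp hA).2.1.is_comm.comm ⟨a, ha⟩ ⟨b, hb⟩)
    refine ⟨E, A₁, hEn, hEB.trans hBH, hEc, fun e he => ((hE e).mp he).2, hCE, hA₁A.trans hAP,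
      fun a ha b hb => hAc a (hA₁A ha) b (hA₁A hb), ?_, hquad, hbest⟩
    rw [← hCE]; exact hA₁ne

end final

end Cfsg.Agent.Lib.Helper7.ThA

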