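import Mathlib
import Cfsg.Agent.Lib.Helper7.ThA5
import Cfsg.Agent.Lib.Helper4.PStab

set_option autoImplicit false
set_option linter.style.haveILetI false
set_option linter.unusedSectionVars false
set_option linter.unusedVariables false

open scoped commutatorElement Pointwise

namespace Cfsg.Agent.Lib.Helper7.ThA

open Cfsg Cfsg.Agent.Lib.Helper4.ZJ Cfsg.Agent.Lib.Helper4.PNil Cfsg.Agent.Lib.Lead.Conj
  Cfsg.Agent.Lib.Helper4.GT Cfsg.Agent.Lib.Helper4.Offender Cfsg.Agent.H1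

universe u

section finalodd
variable {p : ℕ} {G : Type u} [Group G] [Finite G]

theorem final_odd [Fact p.Prime] (hp2 : p ≠ 2) (P : Sylow p G) (K₁ : Subgroup G)
    (h : FinalCfg p G P K₁) : False := by
  obtain ⟨E, A₁, hEn, hEH, hEc, hEp, hCE, hA₁P, hA₁c, hA₁H, hquad, hbest⟩ := final_common P K₁ h
  obtain ⟨hfree, ⟨hN, hZ⟩, hnot, hK₁n, hHK, hC, hcop, hidx, hab, hmax, hO⟩ := h
  haveI := hEn
  haveI := hK₁n
  haveI hHn : (Cfsg.pCore p G).Normal := Cfsg.Agent.H9.pCore_normal p G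
  have hHp : IsPGroup p ↥(Cfsg.pCore p G) := Cfsg.Agent.H9.pCore_isPGroup p G
  have hst : Cfsg.IsPStableOn p E :=
    Cfsg.Agent.Lib.Helper4.PStab.isPStableOn_of_series hp2 (Cfsg.pCore p G) K₁ hHK hHp hcop hab hidx E hEH
  apply hA₁H
  intro a ha
  have hquadE : ⁅⁅E, Subgroup.zpowers a⁆, Subgroup.zpowers a⁆ = ⊥ := by
    rw [eq_bot_iff, ← hquad]
    have hz : Subgroup.zpowers a ≤ A₁ := Subgroup.zpowers_le.mpr ha
    exact Subgroup.commutator_mono (Subgroup.commutator_mono le_rfl hz) hz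
  have hmem := hst a hquadE
  haveI : (Subgroup.centralizer (E : Set G)).Normal := Subgroup.normal_centralizer
  rw [pCore_quotient_eq_bot' (Subgroup.centralizer (E : Set G)) hCE, Subgroup.mem_bot,
    QuotientGroup.eq_one_iff] at hmem
  rw [← hCE]; exact hmem

end finalodd

end Cfsg.Agent.Lib.Helper7.ThA

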