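import Mathlib

set_option autoImplicit false
set_option linter.style.haveILetI false
set_option linter.unusedVariables false
set_option linter.unusedSectionVars false

namespace Cfsg.Agent.Lib.Helper7.ThA

section eig

variable {Y : Type*} [Group Y] [Finite Y]

/-- the elements of an abelian subgroup `Q` inverted by `a` -/
def invSub (Q : Subgroup Y) (hQ : ∀ x ∈ Q, ∀ y ∈ Q, x * y = y * x) (a : Y) : Subgroup Y where
  carrier := {x | x ∈ Q ∧ a * x * a⁻¹ = x⁻¹}
  one_mem' := ⟨Q.one_mem, by simp⟩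
  mul_mem' := by
    rintro x y ⟨hx, hx'⟩ ⟨hy, hy'⟩
    refine ⟨Q.mul_mem hx hy, ?_⟩
    have : a * (x * y) * a⁻¹ = (a * x * a⁻¹) * (a * y * a⁻¹) := by group
    rw [this, hx', hy', mul_inv_rev, hQ _ (Q.inv_mem hx) _ (Q.inv_mem hy)]
  inv_mem' := by
    rintro x ⟨hx, hx'⟩
    refine ⟨Q.inv_mem hx, ?_⟩
    have : a * x⁻¹ * a⁻¹ = (a * x * a⁻¹)⁻¹ := by group
    rw [this, hx']

/-- the elements of a subgroup `Q` fixed by `a` -/
def fixSub (Q : Subgroup Y) (a : Y) : Subgroup Y where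
  carrier := {x | x ∈ Q ∧ a * x * a⁻¹ = x}
  one_mem' := ⟨Q.one_mem, by simp⟩
  mul_mem' := by
    rintro x y ⟨hx, hx'⟩ ⟨hy, hy'⟩
    refine ⟨Q.mul_mem hx hy, ?_⟩
    have : a * (x * y) * a⁻¹ = (a * x * a⁻¹) * (a * y * a⁻¹) := by group
    rw [this, hx', hy']
  inv_mem' := by
    rintro x ⟨hx, hx'⟩
    refine ⟨Q.inv_mem hx, ?_⟩
    have : a * x⁻¹ * a⁻¹ = (a * x * a⁻¹)⁻¹ := by group
    rw [this, hx']

theorem eig_aux (A : Subgroup Y) (hAab : ∀ a ∈ A, ∀ b ∈ A, a * b = b * a)
    (hA2 : ∀ a ∈ A, a * a = 1) :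
    ∀ n : ℕ, ∀ Q : Subgroup Y, Nat.card Q = n → (∀ x ∈ Q, ∀ y ∈ Q, x * y = y * x) →
      ¬ 2 ∣ Nat.card Q → (∀ b ∈ A, ∀ x ∈ Q, b * x * b⁻¹ ∈ Q) →
      ¬ A ≤ Subgroup.centralizer (Q : Set Y) →
      ∃ x ∈ Q, ∃ q : ℕ, q.Prime ∧ q ≠ 2 ∧ x ^ q = 1 ∧ x ≠ 1 ∧ (∃ a ∈ A, a * x * a⁻¹ = x⁻¹) ∧
        ∀ b ∈ A, b * x * b⁻¹ = x ∨ b * x * b⁻¹ = x⁻¹ := by
  intro n
  induction n using Nat.strong_induction_on with
  | _ n ih =>
    intro Q hn hQab hQodd hAQ hnc
    by_cases hall : ∀ a ∈ A, (∀ x ∈ Q, a * x * a⁻¹ = x) ∨ (∀ x ∈ Q, a * x * a⁻¹ = x⁻¹)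
    · -- every element of `A` centralises or inverts `Q`
      obtain ⟨a₀, ha₀, ha₀'⟩ := SetLike.not_le_iff_exists.mp hnc
      rw [Subgroup.mem_centralizer_iff] at ha₀'
      push Not at ha₀'
      obtain ⟨x₀, hx₀, hx₀'⟩ := ha₀'
      have hinv : ∀ x ∈ Q, a₀ * x * a₀⁻¹ = x⁻¹ := by
        rcases hall a₀ ha₀ with h | h
        · exfalso
          apply hx₀'
          have := h x₀ hx₀
          rw [mul_inv_eq_iff_eq_mul] at this
          exact this.symm
        · exact h
      have hQ1 : Nat.card Q ≠ 1 := by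
        intro h1
        rw [Subgroup.card_eq_one] at h1
        apply hx₀'
        have : x₀ = 1 := by
          have : x₀ ∈ (⊥ : Subgroup Y) := h1 ▸ hx₀
          exact Subgroup.mem_bot.mp this
        rw [this, one_mul, mul_one]
      obtain ⟨q, hq, hqd⟩ := Nat.exists_prime_and_dvd hQ1
      haveI : Fact q.Prime := ⟨hq⟩
      obtain ⟨x, hx⟩ := exists_prime_orderOf_dvd_card' q hqd
      have hq2 : q ≠ 2 := by
        intro h; apply hQodd; rw [← h]; exact hqd
      refine ⟨x.1, x.2, q, hq, hq2, ?_, ?_, ⟨a₀, ha₀, hinv x.1 x.2⟩, ?_⟩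
      · have := pow_orderOf_eq_one x
        rw [hx] at this
        have h2 := congrArg Subtype.val this
        simpa using h2
      · intro h1
        have : x = 1 := Subtype.ext h1
        rw [this, orderOf_one] at hx
        exact hq.one_lt.ne hx
      · intro b hb
        rcases hall b hb with h | h
        · left; exact h x.1 x.2
        · right; exact h x.1 x.2
    · push Not at hall
      obtain ⟨a, ha, ⟨x₁, hx₁, hx₁'⟩, ⟨y₁, hy₁, hy₁'⟩⟩ := hall
      -- the two eigen-subgroups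
      have hCp_le : fixSub Q a ≤ Q := fun x hx => hx.1
      have hCm_le : invSub Q hQab a ≤ Q := fun x hx => hx.1
      have hCp_lt : Nat.card (fixSub Q a) < Nat.card Q := by
        by_contra hge
        push Not at hge
        have := Subgroup.eq_of_le_of_card_ge hCp_le hge
        have hx : x₁ ∈ fixSub Q a := by rw [this]; exact hx₁
        exact hx₁' hx.2
      have hCm_lt : Nat.card (invSub Q hQab a) < Nat.card Q := by
        by_contra hge
        push Not at hge
        have := Subgroup.eq_of_le_of_card_ge hCm_le hge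
        have hx : y₁ ∈ invSub Q hQab a := by rw [this]; exact hy₁
        exact hy₁' hx.2
      have hCpA : ∀ b ∈ A, ∀ x ∈ fixSub Q a, b * x * b⁻¹ ∈ fixSub Q a := by
        intro b hb x hx
        refine ⟨hAQ b hb x hx.1, ?_⟩
        have e : a * (b * x * b⁻¹) * a⁻¹ = (a * b) * x * (a * b)⁻¹ := by group
        rw [e, hAab a ha b hb]
        have e2 : b * a * x * (b * a)⁻¹ = b * (a * x * a⁻¹) * b⁻¹ := by group
        rw [e2, hx.2]
      have hCmA : ∀ b ∈ A, ∀ x ∈ invSub Q hQab a, b * x * b⁻¹ ∈ invSub Q hQab a := by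
        intro b hb x hx
        refine ⟨hAQ b hb x hx.1, ?_⟩
        have e : a * (b * x * b⁻¹) * a⁻¹ = (a * b) * x * (a * b)⁻¹ := by group
        rw [e, hAab a ha b hb]
        have e2 : b * a * x * (b * a)⁻¹ = b * (a * x * a⁻¹) * b⁻¹ := by group
        rw [e2, hx.2]
        group
      by_cases hcp : A ≤ Subgroup.centralizer (fixSub Q a : Set Y)
      · by_cases hcm : A ≤ Subgroup.centralizer (invSub Q hQab a : Set Y)
        · exfalso
          apply hnc
          intro b hb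
          rw [Subgroup.mem_centralizer_iff]
          intro x hx
          -- a square root of `x`
          obtain ⟨m, hm⟩ : ∃ m, Nat.card Q = 2 * m + 1 := by
            have := Nat.odd_iff.mpr (Nat.two_dvd_ne_zero.mp hQodd)
            exact this
          obtain ⟨z, hz, hzz⟩ : ∃ z ∈ Q, z * z = x := by
            refine ⟨x ^ (m + 1), Q.pow_mem hx _, ?_⟩
            rw [← pow_add]
            have e : m + 1 + (m + 1) = Nat.card Q + 1 := by omega
            rw [e, pow_succ]
            have h1 : (⟨x, hx⟩ : Q) ^ Nat.card Q = 1 := pow_card_eq_one'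
            have h2 := congrArg Subtype.val h1
            simp only [Subgroup.coe_pow, Subgroup.coe_one] at h2
            rw [h2, one_mul]
          have hw : a * z * a⁻¹ ∈ Q := hAQ a ha z hz
          have hu : z * (a * z * a⁻¹) ∈ fixSub Q a := by
            refine ⟨Q.mul_mem hz hw, ?_⟩
            have e : a * (z * (a * z * a⁻¹)) * a⁻¹ = (a * z * a⁻¹) * ((a * a) * z * (a * a)⁻¹) := by
              group
            rw [e, hA2 a ha, one_mul, inv_one, mul_one]
            exact hQab _ hw _ hz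
          have hv : z * (a * z * a⁻¹)⁻¹ ∈ invSub Q hQab a := by
            refine ⟨Q.mul_mem hz (Q.inv_mem hw), ?_⟩
            have e : a * (z * (a * z * a⁻¹)⁻¹) * a⁻¹ =
                (a * z * a⁻¹) * ((a * a) * z * (a * a)⁻¹)⁻¹ := by
              group
            rw [e, hA2 a ha, one_mul, inv_one, mul_one, mul_inv_rev, inv_inv]
          have hxuv : x = (z * (a * z * a⁻¹)) * (z * (a * z * a⁻¹)⁻¹) := by
            rw [← hzz]
            have c := hQab _ hw _ hz
            calc z * z = z * (z * ((a * z * a⁻¹) * (a * z * a⁻¹)⁻¹)) := by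
                  rw [mul_inv_cancel, mul_one]
              _ = z * ((z * (a * z * a⁻¹)) * (a * z * a⁻¹)⁻¹) := by rw [mul_assoc z]
              _ = z * (((a * z * a⁻¹) * z) * (a * z * a⁻¹)⁻¹) := by rw [c]
              _ = (z * (a * z * a⁻¹)) * (z * (a * z * a⁻¹)⁻¹) := by
                  simp only [mul_assoc]
          have h1 := (Subgroup.mem_centralizer_iff.mp (hcp hb)) _ hu
          have h2 := (Subgroup.mem_centralizer_iff.mp (hcm hb)) _ hv
          rw [hxuv, mul_assoc, h2, ← mul_assoc, h1, mul_assoc]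
        · -- apply the induction hypothesis to the inverted part
          obtain ⟨x, hx, q, hq, hq2, hxq, hx1, hinv, hall'⟩ :=
            ih _ (hn ▸ hCm_lt) (invSub Q hQab a) rfl
              (fun x hx y hy => hQab x hx.1 y hy.1)
              (fun h => hQodd (h.trans (Subgroup.card_dvd_of_le hCm_le))) hCmA hcm
          exact ⟨x, hx.1, q, hq, hq2, hxq, hx1, hinv, hall'⟩
      · obtain ⟨x, hx, q, hq, hq2, hxq, hx1, hinv, hall'⟩ :=
          ih _ (hn ▸ hCp_lt) (fixSub Q a) rfl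
            (fun x hx y hy => hQab x hx.1 y hy.1)
            (fun h => hQodd (h.trans (Subgroup.card_dvd_of_le hCp_le))) hCpA hcp
        exact ⟨x, hx.1, q, hq, hq2, hxq, hx1, hinv, hall'⟩

/-- an elementary abelian `2`-group acting nontrivially on an abelian group of odd order inverts an element of
prime order all of whose conjugates under the group are its powers -/
theorem exists_inverted_eigen (M A : Subgroup Y)
    (hMab : ∀ x ∈ M, ∀ y ∈ M, x * y = y * x) (hModd : ¬ 2 ∣ Nat.card M)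
    (hAab : ∀ a ∈ A, ∀ b ∈ A, a * b = b * a) (hA2 : ∀ a ∈ A, a * a = 1)
    (hAM : ∀ b ∈ A, ∀ x ∈ M, b * x * b⁻¹ ∈ M)
    (hnc : ¬ A ≤ Subgroup.centralizer (M : Set Y)) :
    ∃ x ∈ M, ∃ q : ℕ, q.Prime ∧ q ≠ 2 ∧ x ^ q = 1 ∧ x ≠ 1 ∧ (∃ a ∈ A, a * x * a⁻¹ = x⁻¹) ∧
      ∀ b ∈ A, b * x * b⁻¹ = x ∨ b * x * b⁻¹ = x⁻¹ :=
  eig_aux A hAab hA2 _ M rfl hMab hModd hAM hnc

end eig

end Cfsg.Agent.Lib.Helper7.ThA
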