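import Mathlib
import Cfsg.Agent.Lib.Helper7.ThA6
import Cfsg.Agent.Lib.Helper7.ThA8
import Cfsg.Agent.Lib.Helper7.ThA11

set_option autoImplicit false
set_option linter.style.haveILetI false
set_option linter.unusedVariables false
set_option linter.unusedSectionVars false

open scoped commutatorElement

namespace Cfsg.Agent.Lib.Helper7.ThA

open Cfsg Cfsg.Agent.Lib.Helper4.ZJ Cfsg.Agent.Lib.Helper4.PNil Cfsg.Agent.Lib.Lead.Conj
  Cfsg.Agent.Lib.Helper4.GT Cfsg.Agent.Lib.Helper4.Offender Cfsg.Agent.H1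

universe u

section finaltwo
variable {G : Type u} [Group G] [Finite G]

/-- quadratic action on a normal subgroup of exponent `2`: squares act trivially -/
theorem sq_mem_centralizer_of_quadratic (E A₁ : Subgroup G) [hEn : E.Normal]
    (hE2 : ∀ e ∈ E, e ^ 2 = 1) (hquad : ⁅⁅E, A₁⁆, A₁⁆ = ⊥) :
    ∀ b ∈ A₁, b * b ∈ Subgroup.centralizer (E : Set G) := by
  intro b hb
  rw [Subgroup.mem_centralizer_iff]
  intro e he
  obtain ⟨c, hcdef⟩ : ∃ c : G, c = b * e * b⁻¹ * e⁻¹ := ⟨_, rfl⟩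
  have hcE : c ∈ E := by
    rw [hcdef]; exact E.mul_mem (hEn.conj_mem e he b) (E.inv_mem he)
  have hcb : b * c = c * b := by
    have h1 : ⁅b, e⁆ ∈ ⁅E, A₁⁆ := by
      rw [Subgroup.commutator_comm]; exact Subgroup.commutator_mem_commutator hb he
    have h2 : ⁅⁅b, e⁆, b⁆ ∈ ⁅⁅E, A₁⁆, A₁⁆ := Subgroup.commutator_mem_commutator h1 hb
    rw [hquad, Subgroup.mem_bot, commutatorElement_eq_one_iff_commute] at h2
    rw [commutatorElement_def, ← hcdef] at h2
    exact h2.eq.symm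
  have hc2 : c * c = 1 := by
    have := hE2 c hcE
    rwa [pow_two] at this
  have h1 : b * e = c * e * b := by rw [hcdef]; group
  symm
  calc b * b * e = b * (b * e) := by group
    _ = b * (c * e * b) := by rw [h1]
    _ = (b * c) * e * b := by group
    _ = (c * b) * e * b := by rw [hcb]
    _ = c * (b * e) * b := by group
    _ = c * (c * e * b) * b := by rw [h1]
    _ = (c * c) * e * (b * b) := by group
    _ = e * (b * b) := by rw [hc2, one_mul]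

theorem final_two (P : Sylow 2 G) (K₁ : Subgroup G) (h : FinalCfg 2 G P K₁) : False := by
  haveI : Fact (Nat.Prime 2) := ⟨Nat.prime_two⟩
  obtain ⟨E, A₁, hEn, hEH, hEc, hEp, hCE, hA₁P, hA₁c, hA₁H, hquad, hbest⟩ := final_common P K₁ h
  obtain ⟨hfree, ⟨hN, hZ⟩, hnot, hK₁n, hHK, hC, hcop, ⟨k, hidx⟩, hab, hmax, hO⟩ := h
  haveI := hEn
  haveI := hK₁n
  obtain ⟨H, hHdef⟩ : ∃ H : Subgroup G, H = Cfsg.pCore 2 G := ⟨_, rfl⟩
  rw [← hHdef] at hHK hC hcop hab hEH hCE hA₁H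
  haveI hHn : H.Normal := by rw [hHdef]; exact Cfsg.Agent.H9.pCore_normal 2 G
  have hHp : IsPGroup 2 ↥H := by rw [hHdef]; exact Cfsg.Agent.H9.pCore_isPGroup 2 G
  have hHP : H ≤ (P : Subgroup G) := hHp.le_sylow_of_normal P
  have hle_H : ∀ (V : Subgroup G) [V.Normal], IsPGroup 2 ↥V → V ≤ H := by
    intro V _ hV
    rw [hHdef]; exact Cfsg.Agent.H9.le_pCore V hV
  have hPp : IsPGroup 2 ↥(P : Subgroup G) := P.isPGroup'
  -- `K₁` is not a `2`-group
  have hK₁P : ¬ K₁ ≤ (P : Subgroup G) := by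
    intro hle
    apply hnot
    apply pnil_of_isPGroup
    have hK₁p : IsPGroup 2 ↥K₁ := hPp.to_le hle
    obtain ⟨j, hj⟩ := (IsPGroup.iff_card (p := 2)).mp hK₁p
    apply IsPGroup.of_card (n := j + k)
    rw [Subgroup.card_top, ← Subgroup.card_mul_index K₁, hj, hidx, pow_add]
  have hsq : ∀ b ∈ A₁, b * b ∈ H := by
    intro b hb
    rw [← hCE]
    exact sq_mem_centralizer_of_quadratic E A₁ hEp hquad b hb
  have hcop2' : ¬ 2 ∣ H.relIndex K₁ := by
    intro hd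
    exact (Nat.Prime.coprime_iff_not_dvd Nat.prime_two).mp hcop.symm hd
  -- the quotient
  obtain ⟨M, hM⟩ : ∃ M : Subgroup (G ⧸ H), M = K₁.map (QuotientGroup.mk' H) := ⟨_, rfl⟩
  obtain ⟨Ab, hAb⟩ : ∃ Ab : Subgroup (G ⧸ H), Ab = A₁.map (QuotientGroup.mk' H) := ⟨_, rfl⟩
  have hMn : M.Normal := by
    rw [hM]; exact Subgroup.Normal.map hK₁n _ (QuotientGroup.mk'_surjective H)
  have hMab : ∀ x ∈ M, ∀ y ∈ M, x * y = y * x := by
    rw [hM]
    rintro _ ⟨k₁, hk₁, rfl⟩ _ ⟨k₂, hk₂, rfl⟩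
    rw [← map_mul, ← map_mul]
    simp only [QuotientGroup.mk'_apply]
    rw [QuotientGroup.eq]
    apply hab
    have : (k₁ * k₂)⁻¹ * (k₂ * k₁) = ⁅k₂⁻¹, k₁⁻¹⁆ := by rw [commutatorElement_def]; group
    rw [this]
    exact Subgroup.commutator_mem_commutator (K₁.inv_mem hk₂) (K₁.inv_mem hk₁)
  have hModd : ¬ 2 ∣ Nat.card M := by
    have : Nat.card M = H.relIndex K₁ := by
      rw [hM]
      have := Subgroup.relIndex_ker (K := K₁) (QuotientGroup.mk' H)
      rw [QuotientGroup.ker_mk'] at this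
      exact this.symm
    rw [this]; exact hcop2'
  have hAab : ∀ a ∈ Ab, ∀ b ∈ Ab, a * b = b * a := by
    rw [hAb]
    rintro _ ⟨a, ha, rfl⟩ _ ⟨b, hb, rfl⟩
    rw [← map_mul, ← map_mul, hA₁c a ha b hb]
  have hA2 : ∀ a ∈ Ab, a * a = 1 := by
    rw [hAb]
    rintro _ ⟨a, ha, rfl⟩
    rw [← map_mul]
    exact (QuotientGroup.eq_one_iff _).mpr (hsq a ha)
  have hAM : ∀ b ∈ Ab, ∀ x ∈ M, b * x * b⁻¹ ∈ M := fun b _ x hx => hMn.conj_mem x hx b
  have hnc : ¬ Ab ≤ Subgroup.centralizer (M : Set (G ⧸ H)) := by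
    intro hle
    apply hA₁H
    obtain ⟨C, hCdef⟩ : ∃ C : Subgroup G,
        C = (Subgroup.centralizer (M : Set (G ⧸ H))).comap (QuotientGroup.mk' H) := ⟨_, rfl⟩
    haveI hCn : C.Normal := by
      rw [hCdef]
      haveI : (Subgroup.centralizer (M : Set (G ⧸ H))).Normal := Subgroup.normal_centralizer
      exact Subgroup.Normal.comap inferInstance _
    have hA₁C : A₁ ≤ C := by
      intro a ha
      rw [hCdef, Subgroup.mem_comap]
      exact hle (by rw [hAb]; exact ⟨a, ha, rfl⟩)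
    obtain ⟨T, hT⟩ : ∃ T : Subgroup G, T = (P : Subgroup G) ⊓ C := ⟨_, rfl⟩
    have hPN : (P : Subgroup G) ≤ Subgroup.normalizer (T : Set G) := by
      intro g hg
      apply Cfsg.Agent.Lib.Lead.Conj.mem_normalizer_of_conj_mem
      intro r hr
      rw [hT, Subgroup.mem_inf] at hr ⊢
      exact ⟨Subgroup.mul_mem _ (Subgroup.mul_mem _ hg hr.1) (Subgroup.inv_mem _ hg),
        hCn.conj_mem r hr.2 g⟩
    have hKN : K₁ ≤ Subgroup.normalizer (T : Set G) := by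
      intro g hg
      apply Cfsg.Agent.Lib.Lead.Conj.mem_normalizer_of_conj_mem
      intro r hr
      rw [hT, Subgroup.mem_inf] at hr ⊢
      refine ⟨?_, hCn.conj_mem r hr.2 g⟩
      have h1 : g * r * g⁻¹ * r⁻¹ ∈ H := by
        rw [← QuotientGroup.eq_one_iff]
        have hr2 := hr.2
        rw [hCdef, Subgroup.mem_comap, Subgroup.mem_centralizer_iff] at hr2
        have h2 := hr2 ((QuotientGroup.mk' H) g) (by rw [hM]; exact ⟨g, hg, rfl⟩)
        simp only [QuotientGroup.mk'_apply] at h2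
        simp only [QuotientGroup.mk_mul, QuotientGroup.mk_inv]
        rw [h2]; group
      have e : g * r * g⁻¹ = (g * r * g⁻¹ * r⁻¹) * r := by group
      rw [e]
      exact Subgroup.mul_mem _ (hHP h1) hr.1
    haveI hTn : T.Normal := by
      rcases hmax _ hPN with h | h
      · exfalso; exact hK₁P (h ▸ hKN)
      · exact Subgroup.normalizer_eq_top_iff.mp h
    have hTp : IsPGroup 2 ↥T := hPp.to_le (by rw [hT]; exact inf_le_left)
    have hTH : T ≤ H := hle_H T hTp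
    intro a ha
    exact hTH (by rw [hT]; exact Subgroup.mem_inf.mpr ⟨hA₁P ha, hA₁C ha⟩)
  obtain ⟨ξ₀, hξ₀M, q, hq, hq2, hξ₀q, hξ₀1, ⟨α, hα, hαinv⟩, hallξ⟩ :=
    exists_inverted_eigen M Ab hMab hModd hAab hA2 hAM hnc
  rw [hM] at hξ₀M
  obtain ⟨x₀, hx₀K, hx₀ξ⟩ := hξ₀M
  rw [hAb] at hα
  obtain ⟨a, ha, haα⟩ := hα
  simp only [QuotientGroup.mk'_apply] at hx₀ξ haα
  have hqodd : ¬ 2 ∣ q := by
    intro h
    exact hq2 ((Nat.prime_dvd_prime_iff_eq Nat.prime_two hq).mp h).symm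
  have hcop2 : Nat.Coprime 2 q := (Nat.Prime.coprime_iff_not_dvd Nat.prime_two).mpr hqodd
  obtain ⟨n, hn⟩ := (IsPGroup.iff_card (p := 2)).mp hHp
  obtain ⟨x, hxdef⟩ : ∃ x : G, x = x₀ ^ (2 ^ n) := ⟨_, rfl⟩
  have hxq : x ^ q = 1 := by
    have h1 : x₀ ^ q ∈ H := by
      rw [← QuotientGroup.eq_one_iff, QuotientGroup.mk_pow, hx₀ξ]; exact hξ₀q
    have h2 : (x₀ ^ q) ^ Nat.card H = 1 := by
      have h3 : (⟨x₀ ^ q, h1⟩ : H) ^ Nat.card H = 1 := pow_card_eq_one'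
      have h4 := congrArg Subtype.val h3
      rw [Subgroup.coe_pow, Subgroup.coe_one] at h4
      exact h4
    rw [hxdef, ← pow_mul, mul_comm, pow_mul, ← hn]; exact h2
  have hξx : (x : G ⧸ H) = ξ₀ ^ (2 ^ n) := by rw [hxdef, QuotientGroup.mk_pow, hx₀ξ]
  have hxH : x ∉ H := by
    intro hx
    have h1 : ξ₀ ^ (2 ^ n) = 1 := by rw [← hξx]; exact (QuotientGroup.eq_one_iff x).mpr hx
    apply hξ₀1
    have := mem_of_pow_mem_of_coprime (⊥ : Subgroup (G ⧸ H)) (x := ξ₀) (m := 2 ^ n) (n := q)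
      (Nat.Coprime.pow_left n hcop2) (by rw [h1]; exact Subgroup.one_mem _)
      (by rw [hξ₀q]; exact Subgroup.one_mem _)
    exact Subgroup.mem_bot.mp this
  have hallx : ∀ b ∈ A₁, (b : G ⧸ H) * (x : G ⧸ H) * (b : G ⧸ H)⁻¹ = (x : G ⧸ H) ∨
      (b : G ⧸ H) * (x : G ⧸ H) * (b : G ⧸ H)⁻¹ = (x : G ⧸ H)⁻¹ := by
    intro b hb
    rw [hξx, ← conj_pow]
    rcases hallξ (b : G ⧸ H) (by rw [hAb]; exact ⟨b, hb, rfl⟩) with h | h
    · left; rw [h]
    · right; rw [h, inv_pow]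
  have hax : a * x * a⁻¹ * x ∈ H := by
    rw [← QuotientGroup.eq_one_iff]
    simp only [QuotientGroup.mk_mul, QuotientGroup.mk_inv]
    rw [hξx, haα, ← conj_pow, hαinv, inv_pow, inv_mul_cancel]
  obtain ⟨h₃, hh₃, hinv⟩ := exists_inverting H hHp hq hq2 hxq hxH hax
  have hinvolves := s4_of_config H E A₁ hHp hEH hEc hEp hCE hA₁c hquad hbest hq hq2 hxq hxH ha hh₃
    hinv hallx
  rcases hfree with h | h
  · exact h rfl
  · exact h hinvolves

end finaltwo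

end Cfsg.Agent.Lib.Helper7.ThA
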