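import Mathlib
import Cfsg.Prelude.Def_FusionSystem
import Cfsg.Prelude.Def_FusionReduction
import Cfsg.Agent.Lib.Helper7.TNPc
import Cfsg.Agent.Lib.Lead.ZJFunctor
import Cfsg.Agent.S2800

set_option autoImplicit false

namespace Cfsg.Agent.Lib.Helper7.TNP

open Cfsg Cfsg.FusionSystem Cfsg.Agent.Lib.Helper7 Cfsg.Agent.Lib.Helper7.ModelUq
  Cfsg.Agent.Lib.Lead.NormalPComplement Cfsg.Agent.Lib.Helper7.WCtl

universe u

/-- the abelian Thompson subgroup functor -/
def JW : ∀ (Q : Type u) [Group Q], Subgroup Q := fun Q _ => thompsonSubgroupA Q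

theorem JW_iso (p : ℕ) : ∀ (Q R : Type u) [Group Q] [Group R] [Finite Q], IsPGroup p Q →
    ∀ φ : Q ≃* R, (JW Q).map φ.toMonoidHom = JW R :=
  fun _ _ _ _ _ _ φ => Cfsg.Agent.Lib.Lead.ZJFunctor.thompsonSubgroupA_map φ

theorem JW_center (p : ℕ) : ∀ (Q : Type u) [Group Q] [Finite Q], IsPGroup p Q →
    Subgroup.center Q ≤ JW Q :=
  fun Q _ _ _ => (Cfsg.Agent.Lib.Lead.ZJFunctor.center_le_zjA Q).trans inf_le_left

theorem WT_JW {Ω : Type u} [Group Ω] (T : Subgroup Ω) : WT JW T = thompsonSubgroupAOf T := rfl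

/-- `W` of the image Sylow subgroup is the image of `W(T)` -/
theorem WT_range_eq {p : ℕ} (W : ∀ (Q : Type u) [Group Q], Subgroup Q)
    (hW2 : ∀ (Q R : Type u) [Group Q] [Group R] [Finite Q], IsPGroup p Q → ∀ φ : Q ≃* R,
      (W Q).map φ.toMonoidHom = W R)
    {Ω : Type u} [Group Ω] {T : Subgroup Ω} [Finite T] (hT : IsPGroup p T)
    {L : Type u} [Group L] (ι : T →* L) (hinj : Function.Injective ι) (Sy : Subgroup L)
    (hSy : Sy = ι.range) : WT W Sy = imQ ι (WT W T) := by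
  have hVT : WT W T ≤ T := WT_le W T
  set e : ↥T ≃* ↥Sy :=
    (MonoidHom.ofInjective hinj).trans (MulEquiv.subgroupCongr hSy.symm) with he
  have hcoe : ∀ x : T, ((e x : ↥Sy) : L) = ι x := fun x => rfl
  ext y
  constructor
  · rintro ⟨s, hs, rfl⟩
    obtain ⟨x, rfl⟩ := e.surjective s
    have hx : x ∈ W ↥T := (W_equiv_mem W hW2 hT e x).mp hs
    refine (mem_imQ_iff ι hVT _).mpr ⟨⟨x, (mem_WT_iff W T _).mpr ⟨x.2, hx⟩⟩, ?_⟩
    exact hcoe x
  · intro hy
    obtain ⟨v, rfl⟩ := (mem_imQ_iff ι hVT _).mp hy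
    obtain ⟨hvT, hvW⟩ := (mem_WT_iff W T _).mp v.2
    exact ⟨e ⟨v, hvT⟩, (W_equiv_mem W hW2 hT e ⟨v, hvT⟩).mpr hvW, rfl⟩

variable {Ω : Type u} [Group Ω] {S : Subgroup Ω}

/-- the local step for Thompson's normal `p`-complement theorem -/
theorem np_local_step [Finite S] (p : ℕ) [Fact p.Prime] (hS : IsPGroup p S) (F : FusionSystem S)
    (hF : F.IsSaturated p) (hp : p ≠ 2 ∨ F.IsSectionFree p (Equiv.Perm (Fin 4)))
    (hC' : ∀ (X : Subgroup Ω) (φ : X →* Ω),
      φ ∈ F.centralizerHom (S ⊓ Subgroup.centralizer (S : Set Ω)) X →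
        ∃ s ∈ S, ∀ x : X, φ x = s * (x : Ω) * s⁻¹)
    {D : Subgroup Ω} (hDn : F.IsFullyNormalized D) (hDc : F.IsCentric D) (hm : NP F p D) :
    NP F p (thompsonSubgroupAOf (normalizerIn S D)) := by
  obtain ⟨α, hα, hne, hord⟩ := hm
  have hDS : D ≤ S := hDn.1
  set T := normalizerIn S D with hTdef
  have hTS : T ≤ S := inf_le_left
  have hDT : D ≤ T := le_inf hDS Subgroup.le_normalizer
  have hfinT : Finite ↥T := finite_of_le hTS
  have hfinD : Finite ↥D := finite_of_le hDS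
  have hT : IsPGroup p ↥T := hS.to_le hTS
  obtain ⟨E, hE⟩ := exists_normalizerSystem F D hDS
  have hEc := normalizerSystem_isConstrained p hS F hF D hDn hDc E hE
  obtain ⟨L, instL, ι, hM⟩ := ModelEx.exists_model p hT E hEc
  have hDnorm : E.IsNormal D := isNormal_normalizerSystem F hDS E hE
  have hnorm : (imQ ι D).Normal := imQ_normal p E ι hM hDnorm
  have hpg : IsPGroup p ↥(imQ ι D) := imQ_isPGroup p hT ι D
  have hS4 : p ≠ 2 ∨ ¬ Involves (Equiv.Perm (Fin 4)) L := by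
    rcases hp with h2 | hfree
    · exact Or.inl h2
    · exact Or.inr (hfree D hDn hDc E hE L ι hM)
  obtain ⟨hfinL, ⟨hinj, hreal⟩, ⟨Sy, hSy⟩, hcent⟩ := hM
  have hEF : ∀ (P : Subgroup Ω) (φ : P →* Ω), φ ∈ E.Hom P → φ ∈ F.Hom P := by
    intro P φ h
    rw [hE P] at h
    exact h.1
  -- α is realized by an element of L
  have hDX : (⊤ : Subgroup L) ≤ Subgroup.normalizer ((imQ ι D : Subgroup L) : Set L) :=
    (Subgroup.normalizer_eq_top_iff.mpr hnorm).ge
  -- L is not p-nilpotent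
  have hLn : ¬ HasNormalPComplement p L := by
    intro hnpc
    obtain ⟨K, hKn, hKc, k, hk⟩ := exists_normal_of_hasNormalPComplement hnpc
    -- realize α
    have hφα : D.subtype.comp α.toMonoidHom ∈ F.Hom D := (mem_autGroup_iff F hDS α).mp hα
    have hφαT : ∀ x : D, (D.subtype.comp α.toMonoidHom) x ∈ T := fun x => hDT (α x).2
    have hφαE : D.subtype.comp α.toMonoidHom ∈ E.Hom D := by
      rw [hE D]
      refine ⟨hφα, hDT, hφαT, ?_⟩
      have hsup : D ⊔ D = D := sup_idem D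
      refine ⟨_, fs_mem_of_eq F hsup hφα, fun x => rfl, ?_⟩
      ext y
      constructor
      · rintro ⟨s, hs, rfl⟩
        exact (α _).2
      · intro hy
        refine ⟨⟨(α⁻¹ ⟨y, hy⟩ : D), Subgroup.mem_sup_left (α⁻¹ ⟨y, hy⟩ : D).2⟩,
          Subgroup.mem_subgroupOf.mpr (α⁻¹ ⟨y, hy⟩ : D).2, ?_⟩
        show ((α (Subgroup.inclusion (le_of_eq hsup) _) : D) : Ω) = y
        have : Subgroup.inclusion (le_of_eq hsup)
            (⟨(α⁻¹ ⟨y, hy⟩ : D), Subgroup.mem_sup_left (α⁻¹ ⟨y, hy⟩ : D).2⟩ : ↥(D ⊔ D)) =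
            α⁻¹ ⟨y, hy⟩ := Subtype.ext rfl
        rw [this]
        simp
    obtain ⟨g₀, hg₀⟩ := (hreal D hDT _ hφαT).mp hφαE
    have hpow : ∀ (k : ℕ) (x : D), ι ⟨(((α ^ k) x : D) : Ω), hDT ((α ^ k) x).2⟩ =
        g₀ ^ k * ι ⟨x, hDT x.2⟩ * (g₀ ^ k)⁻¹ := by
      intro k
      induction k with
      | zero => intro x; simp
      | succ k ih =>
        intro x
        have h1 : (α ^ (k + 1)) x = α ((α ^ k) x) := by rw [pow_succ']; rfl
        have h2 : ι ⟨(((α ^ (k + 1)) x : D) : Ω), hDT ((α ^ (k + 1)) x).2⟩ =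
            ι ⟨(D.subtype.comp α.toMonoidHom) ((α ^ k) x), hφαT _⟩ := by
          congr 1
          apply Subtype.ext
          show (((α ^ (k + 1)) x : D) : Ω) = ((α ((α ^ k) x) : D) : Ω)
          rw [h1]
        rw [h2, hg₀, ih x, pow_succ']
        group
    obtain ⟨a, ha⟩ := exists_pow_coprime p g₀
    have hcen := centralizes_of_normal K hKc hk (imQ ι D) hpg (g₀ ^ p ^ a)
      (hDX (Subgroup.mem_top _)) ha
    apply hne
    apply eq_one_of_coprime_of_pow hord (a := a)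
    ext x
    have h1 := hpow (p ^ a) x
    have h2 : g₀ ^ p ^ a * ι ⟨x, hDT x.2⟩ * (g₀ ^ p ^ a)⁻¹ = ι ⟨x, hDT x.2⟩ := by
      have := (Subgroup.mem_centralizer_iff.mp hcen) _ ((mem_imQ_iff ι hDT _).mpr ⟨x, rfl⟩)
      rw [← this, mul_inv_cancel_right]
    rw [h2] at h1
    have h3 := congrArg Subtype.val (hinj h1)
    exact h3
  -- Z(S) ≤ T and its image
  set ZS : Subgroup Ω := S ⊓ Subgroup.centralizer (S : Set Ω) with hZS
  have hZT : ZS ≤ T := by
    intro z hz
    refine ⟨hz.1, ?_⟩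
    apply Subgroup.centralizer_le_normalizer
    show z ∈ Subgroup.centralizer (D : Set Ω)
    rw [Subgroup.mem_centralizer_iff]
    intro d hd
    exact (Subgroup.mem_centralizer_iff.mp hz.2) d (hDS hd)
  have hZcomm : ∀ (z : Ω) (hz : z ∈ ZS) (t : T), ι t * ι ⟨z, hZT hz⟩ = ι ⟨z, hZT hz⟩ * ι t := by
    intro z hz t
    rw [← map_mul, ← map_mul]
    congr 1
    apply Subtype.ext
    exact (Subgroup.mem_centralizer_iff.mp hz.2) t (hTS t.2)
  have hfinSy : Finite ↥(Sy : Subgroup L) := inferInstance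
  -- J of the Sylow subgroup
  have hJSy : thompsonSubgroupAOf (Sy : Subgroup L) = imQ ι (thompsonSubgroupAOf T) :=
    WT_range_eq (p := p) JW (JW_iso p) hT ι hinj (Sy : Subgroup L) hSy
  have hJT : thompsonSubgroupAOf T ≤ T := WT_le JW T
  have hZJ : ∀ (z : Ω) (hz : z ∈ ZS), z ∈ thompsonSubgroupAOf T := by
    intro z hz
    apply mem_WT_of_central JW (JW_center p) T hT (hZT hz)
    intro t ht
    exact (Subgroup.mem_centralizer_iff.mp hz.2) t (hTS ht)
  -- apply Thompson's theorem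
  have hdich : ¬ HasNormalPComplement p ↥(Subgroup.centralizer
      ((((Sy : Subgroup L) ⊓ Subgroup.centralizer ((Sy : Subgroup L) : Set L) : Subgroup L)) : Set L)) ∨
      ¬ HasNormalPComplement p ↥(Subgroup.normalizer
        ((thompsonSubgroupAOf (Sy : Subgroup L)) : Set L)) := by
    by_contra hcon
    rw [not_or, not_not, not_not] at hcon
    exact hLn (Cfsg.Agent.S2800.result Sy hS4 hcon.1 hcon.2)
  rcases hdich with hC1 | hN1
  · -- centralizer case: contradiction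
    exfalso
    have hle : (Sy : Subgroup L) ≤ Subgroup.centralizer
        ((((Sy : Subgroup L) ⊓ Subgroup.centralizer ((Sy : Subgroup L) : Set L) : Subgroup L)) :
          Set L) := by
      intro y hy
      rw [Subgroup.mem_centralizer_iff]
      intro c hc
      exact ((Subgroup.mem_centralizer_iff.mp hc.2) y hy).symm
    obtain ⟨Q', g', hQ', hg'H, hg'N, hg'p, hg'c⟩ := exists_p'_not_centralizing Sy _ hle hC1
    refine false_of_central_p' hS F hTS E hEF ι hinj hreal hZT hC' g' hg'p ?_ Q'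
      (hSy ▸ hQ') hg'N hg'c
    intro z hz
    have hmem : ι ⟨z, hZT hz⟩ ∈ (Sy : Subgroup L) ⊓
        Subgroup.centralizer ((Sy : Subgroup L) : Set L) := by
      refine ⟨by rw [hSy]; exact ⟨_, rfl⟩, ?_⟩
      show _ ∈ Subgroup.centralizer ((Sy : Subgroup L) : Set L)
      rw [Subgroup.mem_centralizer_iff]
      intro y hy
      rw [hSy] at hy
      obtain ⟨t, rfl⟩ := hy
      exact hZcomm z hz t
    exact ((Subgroup.mem_centralizer_iff.mp hg'H) _ hmem).symm
  · -- normalizer case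
    have hle : (Sy : Subgroup L) ≤ Subgroup.normalizer
        ((thompsonSubgroupAOf (Sy : Subgroup L)) : Set L) :=
      Subgroup.le_normalizer.trans
        (normalizer_le_normalizer_WT JW (JW_iso p) (Sy : Subgroup L) Sy.isPGroup')
    obtain ⟨Q', g', hQ', hg'H, hg'N, hg'p, hg'c⟩ := exists_p'_not_centralizing Sy _ hle hN1
    by_cases hgc : g' ∈ Subgroup.centralizer ((thompsonSubgroupAOf (Sy : Subgroup L)) : Set L)
    · exfalso
      refine false_of_central_p' hS F hTS E hEF ι hinj hreal hZT hC' g' hg'p ?_ Q'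
        (hSy ▸ hQ') hg'N hg'c
      intro z hz
      have hmem : ι ⟨z, hZT hz⟩ ∈ thompsonSubgroupAOf (Sy : Subgroup L) := by
        rw [hJSy]
        exact (mem_imQ_iff ι hJT _).mpr ⟨⟨z, hZJ z hz⟩, rfl⟩
      exact ((Subgroup.mem_centralizer_iff.mp hgc) _ hmem).symm
    · rw [hJSy] at hg'H hgc
      obtain ⟨β, hβ, hβk⟩ := aut_of_conj F hTS E hEF ι hinj hreal hJT g' hg'H
      refine ⟨β, hβ, ?_, ?_⟩
      · intro h1
        apply hgc
        rw [Subgroup.mem_centralizer_iff]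
        intro y hy
        obtain ⟨v, rfl⟩ := (mem_imQ_iff ι hJT y).mp hy
        have h2 := hβk 1 v
        rw [h1] at h2
        simp only [pow_one, MulAut.one_apply] at h2
        calc ι ⟨v, hJT v.2⟩ * g' = (g' * ι ⟨v, hJT v.2⟩ * g'⁻¹) * g' := by rw [← h2]
          _ = g' * ι ⟨v, hJT v.2⟩ := by group
      · have h1 : β ^ orderOf g' = 1 := by
          ext v
          have h2 := hβk (orderOf g') v
          rw [pow_orderOf_eq_one] at h2
          simp only [one_mul, inv_one, mul_one] at h2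
          have h3 := congrArg Subtype.val (hinj h2)
          exact h3
        exact Nat.Coprime.coprime_dvd_left (orderOf_dvd_of_pow_eq_one h1) hg'p

end Cfsg.Agent.Lib.Helper7.TNP
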