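import Mathlib
import Cfsg.Prelude.Def_FusionSystem
import Cfsg.Prelude.Def_FusionReduction
import Cfsg.Agent.Lib.Helper7.TNPd
import Cfsg.Agent.Lib.Helper7.FusionInner

set_option autoImplicit false

namespace Cfsg.Agent.Lib.Helper7.TNP

open Cfsg Cfsg.FusionSystem Cfsg.Agent.Lib.Helper7 Cfsg.Agent.Lib.Helper7.ModelUq
  Cfsg.Agent.Lib.Helper7.WCtl

universe u

section general

variable {Ω : Type*} [Group Ω] {S : Subgroup Ω}

/-- a system whose automizers of `S` and of the essential subgroups are `p`-groups is inner -/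
theorem eq_inner_of_essential [Finite S] (p : ℕ) [Fact p.Prime] (hS : IsPGroup p S)
    (F : FusionSystem S) (hF : F.IsSaturated p)
    (h : ∀ P : Subgroup Ω, (P = S ∨ F.IsEssential p P) → IsPGroup p (F.autGroup P)) :
    F = innerFusionSystem S := by
  apply fusionSystem_le_antisymm _ (innerFusionSystem_le F)
  apply alperin_goldschmidt p hS F hF
  rintro P (rfl | hess)
  · obtain ⟨-, T, hT⟩ := isFullyAutomized_top_of_isSaturated p hS F hF
    have : Finite (MulAut ↥P) := inferInstance
    have htop := sylow_eq_top_of_isPGroup (h P (Or.inl rfl)) T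
    rw [hT] at htop
    intro α hα
    have : (⟨α, hα⟩ : F.autGroup P) ∈ (autInducedBy P P).subgroupOf (F.autGroup P) := by
      rw [htop]; exact Subgroup.mem_top _
    exact autInducedBy_le_autGroup (innerFusionSystem P) le_rfl (Subgroup.mem_subgroupOf.mp this)
  · exact absurd hess (not_isEssential_of_isPGroup p F (h P (Or.inr hess)))

/-- an automorphism induced by an element of the `p`-group `S` and of order prime to `p` is trivial -/
theorem eq_one_of_inner_coprime {p : ℕ} (hS : IsPGroup p S) {X : Subgroup Ω} (β : MulAut X)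
    (hord : (orderOf β).Coprime p) {s : Ω} (hs : s ∈ S)
    (h : ∀ x : X, ((β x : X) : Ω) = s * (x : Ω) * s⁻¹) : β = 1 := by
  have hsk : ∀ (k : ℕ) (x : X), (((β ^ k) x : X) : Ω) = s ^ k * (x : Ω) * (s ^ k)⁻¹ := by
    intro k
    induction k with
    | zero => intro x; simp
    | succ k ih =>
      intro x
      have h1 : (β ^ (k + 1)) x = β ((β ^ k) x) := by rw [pow_succ']; rfl
      rw [h1, h, ih x, pow_succ']
      group
  obtain ⟨m, hm⟩ := hS ⟨s, hs⟩
  have hm' : s ^ p ^ m = 1 := congrArg Subtype.val hm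
  apply eq_one_of_coprime_of_pow hord (a := m)
  ext x
  rw [hsk, hm']
  simp

end general

variable {Ω : Type u} [Group Ω] {S : Subgroup Ω}

/-- Thompson's normal `p`-complement theorem for fusion systems -/
theorem thompson_fusion [Finite S] (p : ℕ) [Fact p.Prime] (hS : IsPGroup p S) (F : FusionSystem S)
    (hF : F.IsSaturated p) (hp : p ≠ 2 ∨ F.IsSectionFree p (Equiv.Perm (Fin 4)))
    (hC' : ∀ (X : Subgroup Ω) (φ : X →* Ω),
      φ ∈ F.centralizerHom (S ⊓ Subgroup.centralizer (S : Set Ω)) X →
        ∃ s ∈ S, ∀ x : X, φ x = s * (x : Ω) * s⁻¹)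
    (hN' : ∀ (X : Subgroup Ω) (φ : X →* Ω),
      φ ∈ F.normalizerHom (thompsonSubgroupAOf S) X →
        ∃ s ∈ S, ∀ x : X, φ x = s * (x : Ω) * s⁻¹) :
    F = innerFusionSystem S := by
  have hJS : thompsonSubgroupAOf S ≤ S := WT_le JW S
  obtain ⟨N, hN⟩ := exists_normalizerSystem F (thompsonSubgroupAOf S) hJS
  have hSn : S ≤ Subgroup.normalizer ((thompsonSubgroupAOf S : Subgroup Ω) : Set Ω) :=
    le_normalizer_WT JW (JW_iso p) hS
  -- automorphisms of overgroups of J(S) stabilizing J(S) of order prime to p are trivial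
  have hkill : ∀ (P : Subgroup Ω), P ≤ S → thompsonSubgroupAOf S ≤ P → ∀ α : MulAut P,
      α ∈ F.autGroup P → (orderOf α).Coprime p →
      ((thompsonSubgroupAOf S).subgroupOf P).map (P.subtype.comp α.toMonoidHom) =
        thompsonSubgroupAOf S → α = 1 := by
    intro P hPS hJP α hα hord hmap
    have h1 := aut_mem_normalizerSystem F hSn N hN hPS hJP α hα hmap
    rw [hN P] at h1
    obtain ⟨s, hs, hsα⟩ := hN' P _ h1
    exact eq_one_of_inner_coprime hS α hord hs hsα
  -- Claim 1
  have claim1 : ∀ (m : ℕ) (T : Subgroup Ω), T ≤ S → Nat.card S - Nat.card T = m →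
      ¬ NP F p (thompsonSubgroupAOf T) := by
    intro m
    induction m using Nat.strong_induction_on with
    | _ m ih =>
    intro T hTS hm hnp
    have hfinT : Finite ↥T := finite_of_le hTS
    have hT : IsPGroup p ↥T := hS.to_le hTS
    have hcardT : Nat.card T ≤ Nat.card S := Subgroup.card_le_of_le hTS
    by_cases hTeq : T = S
    · subst hTeq
      obtain ⟨β, hβ, hne, hord⟩ := hnp
      apply hne
      apply hkill _ hJS le_rfl β hβ hord
      ext y
      constructor
      · rintro ⟨v, -, rfl⟩
        exact (β v).2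
      · intro hy
        exact ⟨β⁻¹ ⟨y, hy⟩, Subgroup.mem_subgroupOf.mpr (β⁻¹ ⟨y, hy⟩ : thompsonSubgroupAOf T).2,
          by simp⟩
    · have hbig : ∀ T' : Subgroup Ω, T' ≤ S → Nat.card T < Nat.card T' →
          ¬ NP F p (thompsonSubgroupAOf T') := by
        intro T' hT'S hlt
        have := Subgroup.card_le_of_le hT'S
        exact ih (Nat.card S - Nat.card T') (by omega) T' hT'S rfl
      have hVS : thompsonSubgroupAOf T ≤ S := (WT_le JW T).trans hTS
      have h1 : Nat.card T < Nat.card (normalizerIn S T) := card_lt_card_normalizerIn hS hTS hTeq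
      have h2 : normalizerIn S T ≤ normalizerIn S (thompsonSubgroupAOf T) :=
        inf_le_inf_left S (normalizer_le_normalizer_WT JW (JW_iso p) T hT)
      have hfin2 : Finite ↥(normalizerIn S (thompsonSubgroupAOf T)) := finite_of_le inf_le_left
      have h3 := Subgroup.card_le_of_le h2
      obtain ⟨V₁, hV₁n, -, hV₁card, hV₁np⟩ := exists_fullyNormalized_np F p hVS hnp
      obtain ⟨hDc, hDnp⟩ := np_sup_centralizerIn p hS F hF hV₁n hV₁np
      have hDle := normalizerIn_le_sup_centralizerIn (S := S) hV₁n.1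
      have hDS : V₁ ⊔ centralizerIn S V₁ ≤ S := hDc.1
      have hfin3 : Finite ↥(normalizerIn S (V₁ ⊔ centralizerIn S V₁)) := finite_of_le inf_le_left
      have h4 := Subgroup.card_le_of_le hDle
      obtain ⟨D₁, hD₁n, hD₁conj, hD₁card, hD₁np⟩ := exists_fullyNormalized_np F p hDS hDnp
      have hD₁c : F.IsCentric D₁ := isCentric_of_isConj F hDc hD₁conj
      have h5 := np_local_step p hS F hF hp hC' hD₁n hD₁c hD₁np
      exact hbig (normalizerIn S D₁) inf_le_left (by omega) h5
  apply eq_inner_of_essential p hS F hF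
  intro P hP
  have hPS : P ≤ S := by
    rcases hP with rfl | hP
    · exact le_rfl
    · exact hP.1.1
  have hfinP : Finite ↥P := finite_of_le hPS
  by_contra hnot
  have hnp := np_of_not_isPGroup F p hnot
  rcases hP with rfl | hess
  · obtain ⟨α, hα, hne, hord⟩ := hnp
    apply hne
    apply hkill P le_rfl hJS α hα hord
    have hinj : Function.Injective (P.subtype.comp α.toMonoidHom) := fun a b hab =>
      α.injective (Subtype.ext hab)
    have h1 := WT_map_eq JW (JW_iso p) (le_refl P) hS (P.subtype.comp α.toMonoidHom) hinj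
    have h2 : (P.subgroupOf P).map (P.subtype.comp α.toMonoidHom) = P := by
      ext y
      constructor
      · rintro ⟨s, -, rfl⟩
        exact (α s).2
      · intro hy
        exact ⟨α⁻¹ ⟨y, hy⟩, Subgroup.mem_subgroupOf.mpr (α⁻¹ ⟨y, hy⟩ : P).2, by simp⟩
    rw [h2] at h1
    exact h1
  · obtain ⟨hc, hn', -⟩ := hess
    have h5 := np_local_step p hS F hF hp hC' hn' hc hnp
    exact claim1 _ (normalizerIn S P) inf_le_left rfl h5

end Cfsg.Agent.Lib.Helper7.TNP
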