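import Mathlib
import Cfsg.Prelude.Def_FusionSystem
import Cfsg.Prelude.Def_FusionReduction
import Cfsg.Agent.Lib.Helper7.TNPe
import Cfsg.Agent.Lib.Helper7.FusionNormal
import Cfsg.Agent.Lib.Helper7.FusionCore2

set_option autoImplicit false

namespace Cfsg.Agent.Lib.Helper7.GTF

open Cfsg Cfsg.FusionSystem Cfsg.Agent.Lib.Helper7 Cfsg.Agent.Lib.Helper7.WCtl
  Cfsg.Agent.Lib.Helper7.TNP

variable {Ω : Type*} [Group Ω] {S : Subgroup Ω}

/-- all maps of `N_F(V)` are conjugations by elements of `S` -/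
def NIn (F : FusionSystem S) (V : Subgroup Ω) : Prop :=
  ∀ (X : Subgroup Ω) (φ : X →* Ω), φ ∈ F.normalizerHom V X →
    ∃ s ∈ S, ∀ x : X, φ x = s * (x : Ω) * s⁻¹

/-- a nontrivial `p'`-automorphism in `N_F(V)` of an overgroup of `V` -/
def NPN (F : FusionSystem S) (p : ℕ) (V : Subgroup Ω) : Prop :=
  ∃ (X : Subgroup Ω) (β : MulAut X), V ≤ X ∧ X ≤ normalizerIn S V ∧ β ∈ F.autGroup X ∧ β ≠ 1 ∧
    (orderOf β).Coprime p ∧ ∀ x : X, (x : Ω) ∈ V → ((β x : X) : Ω) ∈ V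

theorem pow_preserve {X V : Subgroup Ω} (β : MulAut X)
    (hmap : ∀ x : X, (x : Ω) ∈ V → ((β x : X) : Ω) ∈ V) (n : ℕ) :
    ∀ x : X, (x : Ω) ∈ V → (((β ^ n) x : X) : Ω) ∈ V := by
  induction n with
  | zero => intro x hx; simpa using hx
  | succ n ih =>
    intro x hx
    have h1 : (β ^ (n + 1)) x = β ((β ^ n) x) := by rw [pow_succ']; rfl
    rw [h1]
    exact hmap _ (ih x hx)

theorem inv_preserve {X V : Subgroup Ω} [Finite X] (β : MulAut X)
    (hmap : ∀ x : X, (x : Ω) ∈ V → ((β x : X) : Ω) ∈ V) :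
    ∀ x : X, (x : Ω) ∈ V → ((β⁻¹ x : X) : Ω) ∈ V := by
  have hfin : Finite (MulAut ↥X) := inferInstance
  have hpos : 0 < orderOf β := orderOf_pos β
  have h1 : β⁻¹ = β ^ (orderOf β - 1) := by
    rw [inv_eq_iff_mul_eq_one, ← pow_succ', Nat.sub_add_cancel hpos, pow_orderOf_eq_one]
  rw [h1]
  exact pow_preserve β hmap _

/-- an automorphism of an overgroup `X ≤ N_S(V)` of `V` stabilizing `V` is a map of `N_F(V)` -/
theorem aut_mem_normalizerHom [Finite S] (F : FusionSystem S) {V X : Subgroup Ω} (hVX : V ≤ X)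
    (hXN : X ≤ normalizerIn S V) (β : MulAut X) (hβ : β ∈ F.autGroup X)
    (hmap : ∀ x : X, (x : Ω) ∈ V → ((β x : X) : Ω) ∈ V) :
    X.subtype.comp β.toMonoidHom ∈ F.normalizerHom V X := by
  have hXS : X ≤ S := hXN.trans inf_le_left
  have hfinX : Finite ↥X := finite_of_le hXS
  have hφ : X.subtype.comp β.toMonoidHom ∈ F.Hom X := (mem_autGroup_iff F hXS β).mp hβ
  refine ⟨hφ, hXN, fun x => hXN (β x).2, ?_⟩
  have hsup : X ⊔ V = X := sup_eq_left.mpr hVX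
  refine ⟨_, fs_mem_of_eq F hsup hφ, fun x => rfl, ?_⟩
  ext y
  constructor
  · rintro ⟨s, hs, rfl⟩
    exact hmap (Subgroup.inclusion (le_of_eq hsup) s) (Subgroup.mem_subgroupOf.mp hs)
  · intro hy
    have hyX : y ∈ X := hVX hy
    have h1 := inv_preserve β hmap ⟨y, hyX⟩ hy
    refine ⟨⟨((β⁻¹ ⟨y, hyX⟩ : X) : Ω), Subgroup.mem_sup_left (β⁻¹ ⟨y, hyX⟩ : X).2⟩,
      Subgroup.mem_subgroupOf.mpr h1, ?_⟩
    show ((β (Subgroup.inclusion (le_of_eq hsup) _) : X) : Ω) = y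
    have : Subgroup.inclusion (le_of_eq hsup)
        (⟨((β⁻¹ ⟨y, hyX⟩ : X) : Ω), Subgroup.mem_sup_left (β⁻¹ ⟨y, hyX⟩ : X).2⟩ : ↥(X ⊔ V)) =
        β⁻¹ ⟨y, hyX⟩ := Subtype.ext rfl
    rw [this]
    simp

theorem not_NIn_of_NPN [Finite S] {p : ℕ} (hS : IsPGroup p S) (F : FusionSystem S) {V : Subgroup Ω}
    (h : NPN F p V) : ¬ NIn F V := by
  intro hin
  obtain ⟨X, β, hVX, hXN, hβ, hne, hord, hmap⟩ := h
  obtain ⟨s, hs, hsβ⟩ := hin X _ (aut_mem_normalizerHom F hVX hXN β hβ hmap)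
  exact hne (eq_one_of_inner_coprime hS β hord hs hsβ)

theorem mem_normalizerHom_of_isNormal [Finite S] (F : FusionSystem S) {V : Subgroup Ω}
    (hV : F.IsNormal V) {P : Subgroup Ω} {φ : P →* Ω} (hφ : φ ∈ F.Hom P) :
    φ ∈ F.normalizerHom V P := by
  have hN : S ≤ Subgroup.normalizer (V : Set Ω) :=
    le_normalizer_of_stronglyClosed F (stronglyClosed_of_isNormal F hV)
  have hle : S ≤ normalizerIn S V := le_inf le_rfl hN
  obtain ⟨hPS, hφS⟩ := F.le_of_mem hφ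
  exact ⟨hφ, hPS.trans hle, fun x => hle (hφS x), hV.2 P φ hφ⟩

theorem isNormal_of_forall_mem (F : FusionSystem S) {V : Subgroup Ω} (hVS : V ≤ S)
    (h : ∀ (P : Subgroup Ω) (φ : P →* Ω), φ ∈ F.Hom P → φ ∈ F.normalizerHom V P) :
    F.IsNormal V :=
  ⟨hVS, fun P φ hφ => (h P φ hφ).2.2.2⟩

theorem eq_inner_of_isNormal_of_NIn [Finite S] (F : FusionSystem S) {V : Subgroup Ω}
    (hV : F.IsNormal V) (hin : NIn F V) : F = innerFusionSystem S := by
  apply fusionSystem_le_antisymm _ (innerFusionSystem_le F)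
  intro P φ hφ
  obtain ⟨s, hs, hsφ⟩ := hin P φ (mem_normalizerHom_of_isNormal F hV hφ)
  exact ⟨(F.le_of_mem hφ).1, s, hs, hsφ⟩

theorem normalizerHom_mono (F : FusionSystem S) {T : Subgroup Ω} (N : FusionSystem T) (hTS : T ≤ S)
    (hNF : ∀ (P : Subgroup Ω) (φ : P →* Ω), φ ∈ N.Hom P → φ ∈ F.Hom P) {V P : Subgroup Ω}
    {φ : P →* Ω} (h : φ ∈ N.normalizerHom V P) : φ ∈ F.normalizerHom V P := by
  obtain ⟨h1, h2, h3, ψ, hψ, hext, hmap⟩ := h
  have hle : normalizerIn T V ≤ normalizerIn S V := inf_le_inf_right _ hTS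
  exact ⟨hNF _ _ h1, h2.trans hle, fun x => hle (h3 x), ψ, hNF _ _ hψ, hext, hmap⟩

theorem not_np_inner {p : ℕ} {T : Subgroup Ω} (hT : IsPGroup p T) {X : Subgroup Ω} (hXT : X ≤ T) :
    ¬ NP (innerFusionSystem T) p X := by
  rintro ⟨β, hβ, hne, hord⟩
  have h1 := (mem_autGroup_iff (innerFusionSystem T) hXT β).mp hβ
  obtain ⟨-, s, hs, hsβ⟩ := h1
  exact hne (eq_one_of_inner_coprime hT β hord hs hsβ)

/-! ### a measure of the size of a fusion system -/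

/-- the graph of a map -/
def graphOf {P : Subgroup Ω} (φ : P →* Ω) : Set (Ω × Ω) := {xy | ∃ x : P, xy = ((x : Ω), φ x)}

/-- the set of graphs of the maps of a system -/
def graphSet (F : FusionSystem S) : Set (Set (Ω × Ω)) :=
  {g | ∃ (P : Subgroup Ω) (φ : P →* Ω), φ ∈ F.Hom P ∧ g = graphOf φ}

theorem graphSet_finite [Finite S] (F : FusionSystem S) : (graphSet F).Finite := by
  have hfin : ((S : Set Ω) ×ˢ (S : Set Ω)).Finite :=
    Set.Finite.prod (Set.toFinite _) (Set.toFinite _)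
  apply Set.Finite.subset hfin.finite_subsets
  rintro g ⟨P, φ, hφ, rfl⟩
  rintro _ ⟨x, rfl⟩
  exact ⟨(F.le_of_mem hφ).1 x.2, (F.le_of_mem hφ).2 x⟩

/-- the number of maps of a system -/
noncomputable def mu (F : FusionSystem S) : ℕ := (graphSet F).ncard

theorem mem_of_graph_mem {T : Subgroup Ω} (N : FusionSystem T) {P : Subgroup Ω} {φ : P →* Ω}
    (h : graphOf φ ∈ graphSet N) : φ ∈ N.Hom P := by
  obtain ⟨P', φ', hφ', hg⟩ := h
  have hP : P = P' := by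
    ext x
    constructor
    · intro hx
      have : ((x, φ ⟨x, hx⟩) : Ω × Ω) ∈ graphOf φ := ⟨⟨x, hx⟩, rfl⟩
      rw [hg] at this
      obtain ⟨x', hx'⟩ := this
      have h1 : x = (x' : Ω) := congrArg Prod.fst hx'
      rw [h1]; exact x'.2
    · intro hx
      have : ((x, φ' ⟨x, hx⟩) : Ω × Ω) ∈ graphOf φ' := ⟨⟨x, hx⟩, rfl⟩
      rw [← hg] at this
      obtain ⟨x', hx'⟩ := this
      have h1 : x = (x' : Ω) := congrArg Prod.fst hx'
      rw [h1]; exact x'.2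
  subst hP
  have : φ = φ' := by
    ext x
    have : (((x : Ω), φ x) : Ω × Ω) ∈ graphOf φ := ⟨x, rfl⟩
    rw [hg] at this
    obtain ⟨x', hx'⟩ := this
    have h1 : (x : Ω) = (x' : Ω) := congrArg Prod.fst hx'
    have h2 : φ x = φ' x' := congrArg Prod.snd hx'
    rw [h2, Subtype.ext h1]
  rw [this]
  exact hφ'

theorem mu_lt [Finite S] (F : FusionSystem S) {T : Subgroup Ω} (N : FusionSystem T)
    (hNF : ∀ (P : Subgroup Ω) (φ : P →* Ω), φ ∈ N.Hom P → φ ∈ F.Hom P) {P : Subgroup Ω}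
    {φ : P →* Ω} (hφ : φ ∈ F.Hom P) (hn : φ ∉ N.Hom P) : mu N < mu F := by
  apply Set.ncard_lt_ncard _ (graphSet_finite F)
  refine ⟨?_, ?_⟩
  · rintro g ⟨P', φ', hφ', rfl⟩
    exact ⟨P', φ', hNF _ _ hφ', rfl⟩
  · intro hsub
    exact hn (mem_of_graph_mem N (hsub ⟨P, φ, hφ, rfl⟩))

end Cfsg.Agent.Lib.Helper7.GTF
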