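import Mathlib
import Cfsg.Agent.Lib.Helper7.MaxClassA

set_option autoImplicit false

namespace Cfsg.Agent.Lib.Helper7.MaxClass

variable {Ω : Type*} [Group Ω] (S : Subgroup Ω)

/-- `Z(S)` inside the ambient group. -/
abbrev Zc : Subgroup Ω := (Subgroup.center ↥S).map S.subtype

/-- `Z₂(S)` inside the ambient group. -/
abbrev Z2 : Subgroup Ω := (Subgroup.upperCentralSeries ↥S 2).map S.subtype

theorem Zc_le : Zc S ≤ S := by
  rintro _ ⟨x, -, rfl⟩
  exact x.2

theorem Z2_le : Z2 S ≤ S := by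
  rintro _ ⟨x, -, rfl⟩
  exact x.2

theorem mem_Zc_iff {z : Ω} : z ∈ Zc S ↔ z ∈ S ∧ ∀ s ∈ S, s * z = z * s := by
  constructor
  · rintro ⟨x, hx, rfl⟩
    refine ⟨x.2, fun s hs => ?_⟩
    have := Subgroup.mem_center_iff.mp hx ⟨s, hs⟩
    exact congrArg (fun w : ↥S => (w : Ω)) this
  · rintro ⟨hz, h⟩
    refine ⟨⟨z, hz⟩, ?_, rfl⟩
    rw [SetLike.mem_coe, Subgroup.mem_center_iff]
    intro g
    exact Subtype.ext (h g g.2)

theorem Zc_le_Z2 : Zc S ≤ Z2 S := by
  apply Subgroup.map_mono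
  rw [← Subgroup.upperCentralSeries_one]
  exact Subgroup.upperCentralSeries_mono _ (by norm_num)

theorem comm_mem_Zc {y s : Ω} (hy : y ∈ Z2 S) (hs : s ∈ S) : y * s * y⁻¹ * s⁻¹ ∈ Zc S := by
  obtain ⟨x, hx, rfl⟩ := hy
  have h1 := (Subgroup.mem_upperCentralSeries_succ_iff (n := 1)).mp hx ⟨s, hs⟩
  rw [Subgroup.upperCentralSeries_one] at h1
  exact ⟨_, h1, rfl⟩

theorem Z2_conj_mem {y s : Ω} (hy : y ∈ Z2 S) (hs : s ∈ S) : s * y * s⁻¹ ∈ Z2 S := by
  have h1 := (Zc S).inv_mem (comm_mem_Zc S hy hs)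
  have h2 : s * y * s⁻¹ = (y * s * y⁻¹ * s⁻¹)⁻¹ * y := by group
  rw [h2]
  exact (Z2 S).mul_mem (Zc_le_Z2 S h1) hy

theorem normalizer_Z2 : S ≤ Subgroup.normalizer (Z2 S : Set Ω) := by
  intro s hs
  rw [Subgroup.mem_normalizer_iff]
  intro y
  constructor
  · intro hy
    exact Z2_conj_mem S hy hs
  · intro hy
    have := Z2_conj_mem S hy (S.inv_mem hs)
    simpa [mul_assoc] using this

/-- The commutator map `s ↦ [s, y]` for `y ∈ Z₂(S)`. -/
def commHom {y : Ω} (hy : y ∈ Z2 S) : ↥S →* Ω where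
  toFun s := (s : Ω) * y * (s : Ω)⁻¹ * y⁻¹
  map_one' := by simp
  map_mul' s t := by
    have hct : (t : Ω) * y * (t : Ω)⁻¹ * y⁻¹ ∈ Zc S := by
      have := (Zc S).inv_mem (comm_mem_Zc S hy t.2)
      convert this using 1
      group
    have hc := ((mem_Zc_iff S).mp hct).2
    have hyS : y ∈ S := Z2_le S hy
    have hsS : (s : Ω) * y * (s : Ω)⁻¹ * y⁻¹ ∈ S :=
      S.mul_mem (S.mul_mem (S.mul_mem s.2 hyS) (S.inv_mem s.2)) (S.inv_mem hyS)
    calc ((s * t : ↥S) : Ω) * y * ((s * t : ↥S) : Ω)⁻¹ * y⁻¹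
        = ((s : Ω) * ((t : Ω) * y * (t : Ω)⁻¹ * y⁻¹)) * y * (s : Ω)⁻¹ * y⁻¹ := by
          rw [Subgroup.coe_mul]; group
      _ = (((t : Ω) * y * (t : Ω)⁻¹ * y⁻¹) * (s : Ω)) * y * (s : Ω)⁻¹ * y⁻¹ := by rw [hc s s.2]
      _ = ((t : Ω) * y * (t : Ω)⁻¹ * y⁻¹) * ((s : Ω) * y * (s : Ω)⁻¹ * y⁻¹) := by group
      _ = ((s : Ω) * y * (s : Ω)⁻¹ * y⁻¹) * ((t : Ω) * y * (t : Ω)⁻¹ * y⁻¹) := (hc _ hsS).symm

theorem commHom_apply {y : Ω} (hy : y ∈ Z2 S) (s : ↥S) :
    commHom S hy s = (s : Ω) * y * (s : Ω)⁻¹ * y⁻¹ := rfl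

theorem commHom_range_le {y : Ω} (hy : y ∈ Z2 S) : (commHom S hy).range ≤ Zc S := by
  rintro _ ⟨s, rfl⟩
  rw [commHom_apply]
  have := (Zc S).inv_mem (comm_mem_Zc S hy s.2)
  convert this using 1
  group

section card

variable [Finite S] (p : ℕ) [Fact p.Prime] {n : ℕ} (hn : Nat.card S = p ^ n) (h4 : 4 ≤ n)
  (hmax : Subgroup.lowerCentralSeries S (n - 2) ≠ ⊥)

include hn h4 hmax

theorem class_ge : n - 1 ≤ Group.nilpotencyClass ↥S := by
  have hnil : Group.IsNilpotent ↥S := (IsPGroup.of_card hn).isNilpotent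
  by_contra hcon
  have h1 : Group.nilpotencyClass ↥S ≤ n - 2 := by omega
  have h2 := (Subgroup.lowerCentralSeries_eq_bot_iff_nilpotencyClass_le (G := ↥S)).mpr h1
  apply hmax
  rw [← Subgroup.top_subtype_lowerCentralSeries, h2, Subgroup.map_bot]

theorem card_Zc : Nat.card (Zc S) = p := by
  have h1 := card_center_of_maxClass p (by omega) hn (class_ge S p hn h4 hmax)
  rw [← h1]
  exact Subgroup.card_map_of_injective S.subtype_injective

theorem card_Z2 : Nat.card (Z2 S) = p ^ 2 := by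
  have h1 := card_upperCentralSeries_two_of_maxClass p h4 hn (class_ge S p hn h4 hmax)
  rw [← h1]
  exact Subgroup.card_map_of_injective S.subtype_injective

theorem exists_mem_Z2_not_mem_Zc : ∃ y ∈ Z2 S, y ∉ Zc S := by
  have hp : p.Prime := Fact.out
  by_contra hcon
  push Not at hcon
  have hle : Z2 S ≤ Zc S := hcon
  have hfinZ : Finite (Zc S) := Finite.of_injective (Subgroup.inclusion (Zc_le S))
    (Subgroup.inclusion_injective _)
  have h1 := Subgroup.card_le_of_le hle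
  rw [card_Zc S p hn h4 hmax, card_Z2 S p hn h4 hmax] at h1
  have : p < p ^ 2 := by
    have := hp.one_lt
    nlinarith
  omega

theorem Z2_eq_sup {w : Ω} (hw : w ∈ Z2 S) (hwZ : w ∉ Zc S) : Zc S ⊔ Subgroup.zpowers w = Z2 S := by
  have hp : p.Prime := Fact.out
  have hfin : Finite (Z2 S) := Finite.of_injective (Subgroup.inclusion (Z2_le S))
    (Subgroup.inclusion_injective _)
  have hle : Zc S ⊔ Subgroup.zpowers w ≤ Z2 S :=
    sup_le (Zc_le_Z2 S) (Subgroup.zpowers_le.mpr hw)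
  apply Subgroup.eq_of_le_of_card_ge hle
  have hfinD : Finite ↥(Zc S ⊔ Subgroup.zpowers w) := Finite.of_injective (Subgroup.inclusion hle)
    (Subgroup.inclusion_injective _)
  have h1 : Nat.card ↥(Zc S ⊔ Subgroup.zpowers w) ∣ p ^ 2 := by
    rw [← card_Z2 S p hn h4 hmax]
    exact Subgroup.card_dvd_of_le hle
  obtain ⟨a, ha2, ha⟩ := (Nat.dvd_prime_pow hp).mp h1
  have hZle : Zc S ≤ Zc S ⊔ Subgroup.zpowers w := le_sup_left
  have h2 : Nat.card (Zc S) ∣ Nat.card ↥(Zc S ⊔ Subgroup.zpowers w) := Subgroup.card_dvd_of_le hZle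
  rw [card_Zc S p hn h4 hmax, ha] at h2
  have ha0 : a ≠ 0 := by
    intro h0
    rw [h0, pow_zero] at h2
    exact hp.one_lt.ne' (Nat.dvd_one.mp h2)
  have ha1 : a ≠ 1 := by
    intro h1'
    rw [h1', pow_one] at ha
    have heq : Zc S = Zc S ⊔ Subgroup.zpowers w := by
      apply Subgroup.eq_of_le_of_card_ge hZle
      rw [ha, card_Zc S p hn h4 hmax]
    apply hwZ
    rw [heq]
    exact Subgroup.mem_sup_right (Subgroup.mem_zpowers w)
  have : a = 2 := by omega
  rw [card_Z2 S p hn h4 hmax, ha, this]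

theorem mem_centralizer_Z2_of_comm {s w : Ω} (hs : s ∈ S) (hw : w ∈ Z2 S) (hwZ : w ∉ Zc S)
    (hc : s * w = w * s) : s ∈ Subgroup.centralizer (Z2 S : Set Ω) := by
  rw [Subgroup.mem_centralizer_iff]
  intro x hx
  have hx' : x ∈ Zc S ⊔ Subgroup.zpowers w := by
    rw [Z2_eq_sup S p hn h4 hmax hw hwZ]; exact hx
  have hle : Zc S ⊔ Subgroup.zpowers w ≤ Subgroup.centralizer ({s} : Set Ω) := by
    apply sup_le
    · intro z hz
      rw [Subgroup.mem_centralizer_singleton_iff]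
      exact (((mem_Zc_iff S).mp hz).2 s hs).symm
    · rw [Subgroup.zpowers_le, Subgroup.mem_centralizer_singleton_iff]
      exact hc.symm
  have := hle hx'
  rw [Subgroup.mem_centralizer_singleton_iff] at this
  exact this

theorem relIndex_centralizerIn :
    (S ⊓ Subgroup.centralizer (Z2 S : Set Ω)).relIndex S = p := by
  have hp : p.Prime := Fact.out
  obtain ⟨y, hy, hyZ⟩ := exists_mem_Z2_not_mem_Zc S p hn h4 hmax
  have hker : (commHom S hy).ker = (S ⊓ Subgroup.centralizer (Z2 S : Set Ω)).subgroupOf S := by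
    ext s
    rw [MonoidHom.mem_ker, commHom_apply, Subgroup.mem_subgroupOf]
    constructor
    · intro h
      have hc : (s : Ω) * y = y * (s : Ω) := by
        have h1 : (s : Ω) * y * (s : Ω)⁻¹ = y := by
          rw [mul_inv_eq_one] at h; exact h
        rw [mul_inv_eq_iff_eq_mul] at h1
        exact h1
      exact ⟨s.2, mem_centralizer_Z2_of_comm S p hn h4 hmax s.2 hy hyZ hc⟩
    · rintro ⟨-, h⟩
      have := (Subgroup.mem_centralizer_iff.mp h) y hy
      rw [← this]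
      group
  have hfinZ : Finite (Zc S) := Finite.of_injective (Subgroup.inclusion (Zc_le S))
    (Subgroup.inclusion_injective _)
  have hdvd : (S ⊓ Subgroup.centralizer (Z2 S : Set Ω)).relIndex S ∣ p := by
    show ((S ⊓ Subgroup.centralizer (Z2 S : Set Ω)).subgroupOf S).index ∣ p
    rw [← hker, Subgroup.index_ker, ← card_Zc S p hn h4 hmax]
    exact Subgroup.card_dvd_of_le (commHom_range_le S hy)
  rcases (Nat.dvd_prime hp).mp hdvd with h1 | h1
  · exfalso
    rw [Subgroup.relIndex_eq_one] at h1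
    apply hyZ
    rw [mem_Zc_iff]
    refine ⟨Z2_le S hy, fun s hs => ?_⟩
    exact (Subgroup.mem_centralizer_iff.mp (h1 hs).2) y hy |>.symm
  · exact h1

theorem centralizerIn_maximal (Q : Subgroup Ω)
    (hCQ : S ⊓ Subgroup.centralizer (Z2 S : Set Ω) < Q) (hQS : Q ≤ S) : Q = S := by
  have hp : p.Prime := Fact.out
  have h1 := Subgroup.relIndex_mul_relIndex _ Q S hCQ.le hQS
  rw [relIndex_centralizerIn S p hn h4 hmax] at h1
  have h2 : (S ⊓ Subgroup.centralizer (Z2 S : Set Ω)).relIndex Q ≠ 1 := by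
    rw [Ne, Subgroup.relIndex_eq_one]
    exact fun h => (lt_irrefl _ (lt_of_lt_of_le hCQ h))
  have h3 : (S ⊓ Subgroup.centralizer (Z2 S : Set Ω)).relIndex Q ∣ p := Dvd.intro _ h1
  rcases (Nat.dvd_prime hp).mp h3 with h4' | h4'
  · exact absurd h4' h2
  · rw [h4'] at h1
    have h5 : Q.relIndex S = 1 := by
      have : p * Q.relIndex S = p * 1 := by rw [h1, mul_one]
      exact Nat.eq_of_mul_eq_mul_left hp.pos this
    rw [Subgroup.relIndex_eq_one] at h5
    exact le_antisymm hQS h5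

theorem centralizerIn_ne : S ⊓ Subgroup.centralizer (Z2 S : Set Ω) ≠ S := by
  have hp : p.Prime := Fact.out
  intro h
  have h1 := relIndex_centralizerIn S p hn h4 hmax
  rw [h, Subgroup.relIndex_self] at h1
  exact hp.one_lt.ne h1

/-- For `s ∈ S` outside `C_S(Z₂)`, the fixed points of `s` on `Z₂` are exactly `Z(S)`. -/
theorem mem_Zc_of_comm {s w : Ω} (hs : s ∈ S)
    (hsC : s ∉ Subgroup.centralizer (Z2 S : Set Ω)) (hw : w ∈ Z2 S) (hc : s * w = w * s) :
    w ∈ Zc S := by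
  by_contra hwZ
  exact hsC (mem_centralizer_Z2_of_comm S p hn h4 hmax hs hw hwZ hc)

end card

end Cfsg.Agent.Lib.Helper7.MaxClass
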