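import Mathlib
import Cfsg.Prelude.Def_FusionSystem
import Cfsg.Agent.Lib.Helper7.MaxClassB
import Cfsg.Agent.Lib.Helper7.Alperin2
import Cfsg.Agent.Lib.Helper7.FusionSat3
import Cfsg.Agent.Lib.Helper7.AutInduced

set_option autoImplicit false

namespace Cfsg.Agent.Lib.Helper7.MaxClass

open Cfsg Cfsg.FusionSystem Cfsg.Agent.Lib.Helper7

variable {Ω : Type*} [Group Ω] {S : Subgroup Ω}

/-- A map of the system from `P` into `P` is an element of `Aut_F(P)`. -/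
theorem exists_mulAut_of_hom [Finite S] (F : FusionSystem S) {P : Subgroup Ω} {ψ : P →* Ω}
    (hψ : ψ ∈ F.Hom P) (h : ∀ x : P, ψ x ∈ P) :
    ∃ α ∈ F.autGroup P, ∀ x : P, ((α x : P) : Ω) = ψ x := by
  have hPS : P ≤ S := (F.le_of_mem hψ).1
  have hfin := finite_of_le hPS
  let f : P →* P := ψ.codRestrict P h
  have hinj : Function.Injective f := by
    intro a b hab
    exact F.injective_of_mem hψ (congrArg (fun z : P => (z : Ω)) hab)
  refine ⟨MulEquiv.ofBijective f ⟨hinj, Finite.injective_iff_surjective.mp hinj⟩, ?_, fun x => rfl⟩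
  rw [mem_autGroup_iff F hPS]
  convert hψ using 1
  ext x; rfl

/-- The intertwining predicate: `β ∘ c_s = c_{s'} ∘ β`. -/
def Intertwines (S C : Subgroup Ω) (β : MulAut C) : Prop :=
  ∀ s ∈ S, ∃ s' ∈ S, ∀ (x : C) (hx : s * (x : Ω) * s⁻¹ ∈ C),
    ((β ⟨s * x * s⁻¹, hx⟩ : C) : Ω) = s' * ((β x : C) : Ω) * s'⁻¹

theorem intertwines_one (S C : Subgroup Ω) : Intertwines S C 1 :=
  fun s hs => ⟨s, hs, fun _ _ => rfl⟩

theorem intertwines_mul {C : Subgroup Ω} (hCn : ∀ s ∈ S, ∀ x ∈ C, s * x * s⁻¹ ∈ C)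
    {β γ : MulAut C} (hβ : Intertwines S C β) (hγ : Intertwines S C γ) :
    Intertwines S C (β * γ) := by
  intro s hs
  obtain ⟨s', hs', h1⟩ := hγ s hs
  obtain ⟨s'', hs'', h2⟩ := hβ s' hs'
  refine ⟨s'', hs'', fun x hx => ?_⟩
  rw [MulAut.mul_apply, MulAut.mul_apply]
  have e1 : γ ⟨s * x * s⁻¹, hx⟩ = ⟨s' * ((γ x : C) : Ω) * s'⁻¹, hCn s' hs' _ (γ x).2⟩ :=
    Subtype.ext (h1 x hx)
  rw [e1]
  exact h2 (γ x) _

theorem intertwines_pow {C : Subgroup Ω} (hCn : ∀ s ∈ S, ∀ x ∈ C, s * x * s⁻¹ ∈ C)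
    {β : MulAut C} (hβ : Intertwines S C β) (k : ℕ) : Intertwines S C (β ^ k) := by
  induction k with
  | zero => rw [pow_zero]; exact intertwines_one S C
  | succ k ih => rw [pow_succ]; exact intertwines_mul hCn ih hβ

theorem intertwines_closure [Finite S] {C : Subgroup Ω} (hCS : C ≤ S)
    (hCn : ∀ s ∈ S, ∀ x ∈ C, s * x * s⁻¹ ∈ C)
    (X : Set (MulAut C)) (hX : ∀ α ∈ X, Intertwines S C α) :
    ∀ β ∈ Subgroup.closure X, Intertwines S C β := by
  have hfin := finite_of_le hCS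
  have hfinA : Finite (MulAut C) := Finite.of_injective (fun f : MulAut C => (f : C → C))
    (fun f g h => MulEquiv.ext (congrFun h))
  intro β hβ
  induction hβ using Subgroup.closure_induction with
  | mem a ha => exact hX a ha
  | one => exact intertwines_one S C
  | mul a b _ _ iha ihb => exact intertwines_mul hCn iha ihb
  | inv a _ iha =>
    have : a⁻¹ = a ^ (orderOf a - 1) := by
      rw [inv_eq_iff_mul_eq_one, ← pow_succ', Nat.sub_add_cancel (orderOf_pos a), pow_orderOf_eq_one]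
    rw [this]
    exact intertwines_pow hCn iha _

theorem conj_mem_centralizerIn_Z2 {s x : Ω} (hs : s ∈ S)
    (hx : x ∈ S ⊓ Subgroup.centralizer (Z2 S : Set Ω)) :
    s * x * s⁻¹ ∈ S ⊓ Subgroup.centralizer (Z2 S : Set Ω) := by
  refine Subgroup.mem_inf.mpr ⟨S.mul_mem (S.mul_mem hs hx.1) (S.inv_mem hs), ?_⟩
  rw [Subgroup.mem_centralizer_iff]
  intro y hy
  have hy' : s⁻¹ * y * s ∈ Z2 S := by
    have := Z2_conj_mem S hy (S.inv_mem hs)
    simpa using this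
  have h1 := (Subgroup.mem_centralizer_iff.mp hx.2) _ hy'
  calc y * (s * x * s⁻¹) = s * ((s⁻¹ * y * s) * x) * s⁻¹ := by group
    _ = s * (x * (s⁻¹ * y * s)) * s⁻¹ := by rw [h1]
    _ = s * x * s⁻¹ * y := by group

theorem isFullyNormalized_of_normalizer [Finite S] (F : FusionSystem S) {P : Subgroup Ω}
    (hPS : P ≤ S) (hN : S ≤ Subgroup.normalizer (P : Set Ω)) : F.IsFullyNormalized P := by
  refine ⟨hPS, fun Q _ => ?_⟩
  have h1 : normalizerIn S P = S := inf_eq_left.mpr hN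
  rw [h1]
  exact Subgroup.card_le_of_le (inf_le_left)

theorem isReceptive_of_normalizer [Finite S] (p : ℕ) [Fact p.Prime] (hS : IsPGroup p ↥S)
    (F : FusionSystem S) (hF : F.IsSaturated p) {P : Subgroup Ω}
    (hPS : P ≤ S) (hN : S ≤ Subgroup.normalizer (P : Set Ω)) :
    F.IsFullyAutomized p P ∧ F.IsReceptive P := by
  obtain ⟨R, hcR, hFAR, hRecR⟩ := hF P hPS
  exact isFullyAutomized_isReceptive_of_isFullyNormalized p hS F
    (isFullyNormalized_of_normalizer F hPS hN) hFAR hRecR hcR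

theorem isEssential_centralizer_Z2 [Finite S] (p : ℕ) [Fact p.Prime] (hS : IsPGroup p ↥S) {n : ℕ}
    (hn : Nat.card S = p ^ n) (h4 : 4 ≤ n) (hmax : Subgroup.lowerCentralSeries S (n - 2) ≠ ⊥)
    (F : FusionSystem S) (hF : F.IsSaturated p)
    (φ : ↥(Z2 S) →* Ω) (hφ : φ ∈ F.Hom (Z2 S)) (hφZ : φ.range = Z2 S)
    (hmove : ∃ (z : Ω) (hz : z ∈ Z2 S), z ∈ Zc S ∧ φ ⟨z, hz⟩ ∉ Zc S) :
    F.IsEssential p (S ⊓ Subgroup.centralizer (Z2 S : Set Ω)) := by
  have hp : p.Prime := Fact.out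
  have hCS : S ⊓ Subgroup.centralizer (Z2 S : Set Ω) ≤ S := inf_le_left
  have hCn : ∀ s ∈ S, ∀ x ∈ S ⊓ Subgroup.centralizer (Z2 S : Set Ω),
      s * x * s⁻¹ ∈ S ⊓ Subgroup.centralizer (Z2 S : Set Ω) :=
    fun s hs x hx => conj_mem_centralizerIn_Z2 hs hx
  have hNC : S ≤ Subgroup.normalizer ((S ⊓ Subgroup.centralizer (Z2 S : Set Ω) : Subgroup Ω) : Set Ω) := by
    intro s hs
    rw [Subgroup.mem_normalizer_iff]
    intro x
    constructor
    · exact hCn s hs x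
    · intro hx
      have := hCn s⁻¹ (S.inv_mem hs) _ hx
      simpa [mul_assoc] using this
  have hFNC := isFullyNormalized_of_normalizer F hCS hNC
  obtain ⟨hFA, hRec⟩ := isReceptive_of_normalizer p hS F hF hCS hNC
  -- Z2 abelian, Z2 ≤ C
  have hcomm : ∀ a b : ↥(Z2 S), a * b = b * a := fun a b =>
    (IsPGroup.isMulCommutative_of_card_eq_prime_sq (card_Z2 S p hn h4 hmax)).is_comm.comm a b
  have hZ2C : Z2 S ≤ S ⊓ Subgroup.centralizer (Z2 S : Set Ω) := by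
    intro y hy
    refine Subgroup.mem_inf.mpr ⟨Z2_le S hy, ?_⟩
    rw [Subgroup.mem_centralizer_iff]
    intro x hx
    have := hcomm ⟨x, hx⟩ ⟨y, hy⟩
    exact congrArg Subtype.val this
  have hcen : centralizerIn S (S ⊓ Subgroup.centralizer (Z2 S : Set Ω)) ≤
      S ⊓ Subgroup.centralizer (Z2 S : Set Ω) := by
    intro g hg
    exact ⟨hg.1, Subgroup.centralizer_le (by exact_mod_cast hZ2C) hg.2⟩
  have hcentric := isCentric_of_isReceptive F hRec hcen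
  -- receptivity of Z2
  obtain ⟨-, hRecZ⟩ := isReceptive_of_normalizer p hS F hF (Z2_le S) (normalizer_Z2 S)
  obtain ⟨ψ, hψ, hψφ⟩ := hRecZ.2 (Z2 S) φ hφ hφZ
  have hCE : S ⊓ Subgroup.centralizer (Z2 S : Set Ω) ≤ extender S (Z2 S) φ :=
    centralizerIn_le_extender S (Z2 S) φ
  have hψC := fs_restrict_mem F hCE hψ
  have hψCφ : ∀ (y : Ω) (hy : y ∈ Z2 S),
      (ψ.comp (Subgroup.inclusion hCE)) ⟨y, hZ2C hy⟩ = φ ⟨y, hy⟩ := by
    intro y hy
    exact hψφ y hy (hCE (hZ2C hy))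
  have hψCC : ∀ x : ↥(S ⊓ Subgroup.centralizer (Z2 S : Set Ω)),
      (ψ.comp (Subgroup.inclusion hCE)) x ∈ S ⊓ Subgroup.centralizer (Z2 S : Set Ω) := by
    intro x
    refine Subgroup.mem_inf.mpr ⟨(F.le_of_mem hψC).2 x, ?_⟩
    rw [Subgroup.mem_centralizer_iff]
    intro y hy
    have hy' : y ∈ φ.range := by rw [hφZ]; exact hy
    obtain ⟨y', hy'⟩ := hy'
    have e1 : y = (ψ.comp (Subgroup.inclusion hCE)) ⟨y', hZ2C y'.2⟩ := by
      rw [hψCφ y' y'.2, ← hy']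
    have hc : (⟨y', hZ2C y'.2⟩ : ↥(S ⊓ Subgroup.centralizer (Z2 S : Set Ω))) * x =
        x * ⟨y', hZ2C y'.2⟩ := by
      apply Subtype.ext
      exact (Subgroup.mem_centralizer_iff.mp x.2.2) _ y'.2
    rw [e1, ← map_mul, ← map_mul, hc]
  obtain ⟨α, hαA, hα⟩ := exists_mulAut_of_hom F hψC hψCC
  have hαφ : ∀ (y : Ω) (hy : y ∈ Z2 S), ((α ⟨y, hZ2C hy⟩ : ↥(S ⊓ Subgroup.centralizer (Z2 S : Set Ω))) : Ω)
      = φ ⟨y, hy⟩ := by
    intro y hy
    rw [hα, hψCφ y hy]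
  have hne : S ⊓ Subgroup.centralizer (Z2 S : Set Ω) ≠ S := centralizerIn_ne S p hn h4 hmax
  have hH : Subgroup.closure (extGen F (S ⊓ Subgroup.centralizer (Z2 S : Set Ω))) ≠
      F.autGroup (S ⊓ Subgroup.centralizer (Z2 S : Set Ω)) := by
    intro hEq
    have hαcl : α ∈ Subgroup.closure (extGen F (S ⊓ Subgroup.centralizer (Z2 S : Set Ω))) := by
      rw [hEq]; exact hαA
    have hX : ∀ β ∈ extGen F (S ⊓ Subgroup.centralizer (Z2 S : Set Ω)),
        Intertwines S (S ⊓ Subgroup.centralizer (Z2 S : Set Ω)) β := by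
      rintro β ⟨Q, hCQ, ψ', hψ', hβ⟩
      have hQS : Q ≤ S := (F.le_of_mem hψ').1
      have hQ : Q = S := centralizerIn_maximal S p hn h4 hmax Q hCQ hQS
      intro s hs
      have hsQ : s ∈ Q := hQ ▸ hs
      refine ⟨ψ' ⟨s, hsQ⟩, (F.le_of_mem hψ').2 _, fun x hx => ?_⟩
      rw [← hβ, ← hβ]
      have : Subgroup.inclusion hCQ.le ⟨s * (x : Ω) * s⁻¹, hx⟩ =
          ⟨s, hsQ⟩ * Subgroup.inclusion hCQ.le x * ⟨s, hsQ⟩⁻¹ := by
        apply Subtype.ext
        rfl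
      rw [this, map_mul, map_mul, map_inv]
    have hI := intertwines_closure hCS hCn _ hX α hαcl
    obtain ⟨s, hsS, hsC⟩ := SetLike.exists_of_lt (lt_of_le_of_ne hCS hne)
    have hsC' : s ∉ Subgroup.centralizer (Z2 S : Set Ω) := fun h => hsC ⟨hsS, h⟩
    obtain ⟨s', hs'S, hs'⟩ := hI s hsS
    have hs'C : s' ∉ Subgroup.centralizer (Z2 S : Set Ω) := by
      intro hs'C
      apply hsC'
      rw [Subgroup.mem_centralizer_iff]
      intro w hw
      have hsw : s * w * s⁻¹ ∈ Z2 S := Z2_conj_mem S hw hsS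
      have h1 := hs' ⟨w, hZ2C hw⟩ (hZ2C hsw)
      rw [hαφ _ hsw, hαφ w hw] at h1
      have h2 : φ ⟨w, hw⟩ ∈ Z2 S := by
        have h2' : φ ⟨w, hw⟩ ∈ φ.range := ⟨_, rfl⟩
        rw [hφZ] at h2'
        exact h2'
      have h3 := (Subgroup.mem_centralizer_iff.mp hs'C) _ h2
      have h4' : s' * φ ⟨w, hw⟩ * s'⁻¹ = φ ⟨w, hw⟩ := by
        rw [← h3, mul_assoc, mul_inv_cancel, mul_one]
      rw [h4'] at h1
      have h5 := F.injective_of_mem hφ h1
      have h6 : s * w * s⁻¹ = w := congrArg Subtype.val h5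
      calc w * s = s * w * s⁻¹ * s := by rw [h6]
        _ = s * w := by group
    obtain ⟨z, hz, hzZ, hφz⟩ := hmove
    apply hφz
    have hsz : s * z * s⁻¹ = z := by
      have := ((mem_Zc_iff S).mp hzZ).2 s hsS
      rw [this, mul_assoc, mul_inv_cancel, mul_one]
    have h1 := hs' ⟨z, hZ2C hz⟩ (by rw [hsz]; exact hZ2C hz)
    have h2 : (⟨s * z * s⁻¹, by rw [hsz]; exact hZ2C hz⟩ :
        ↥(S ⊓ Subgroup.centralizer (Z2 S : Set Ω))) = ⟨z, hZ2C hz⟩ := Subtype.ext hsz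
    rw [h2, hαφ z hz] at h1
    have h3 : φ ⟨z, hz⟩ ∈ Z2 S := by
      have h3' : φ ⟨z, hz⟩ ∈ φ.range := ⟨_, rfl⟩
      rw [hφZ] at h3'
      exact h3'
    apply mem_Zc_of_comm S p hn h4 hmax hs'S hs'C h3
    calc s' * φ ⟨z, hz⟩ = s' * φ ⟨z, hz⟩ * s'⁻¹ * s' := by group
      _ = φ ⟨z, hz⟩ * s' := by rw [← h1]
  have hnorm : ((Inn ↥(S ⊓ Subgroup.centralizer (Z2 S : Set Ω))).subgroupOf
      (F.autGroup (S ⊓ Subgroup.centralizer (Z2 S : Set Ω)))).Normal :=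
    (inn_normal _).subgroupOf _
  exact ⟨hcentric, hFNC, hnorm, _,
    stronglyPEmbedded_of_closure_extGen_ne p hS F hFA hRec hcen hne hH⟩

end Cfsg.Agent.Lib.Helper7.MaxClass
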