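import Mathlib
import Cfsg.Prelude.Def_FusionSystem
import Cfsg.Prelude.Def_FusionReduction
import Cfsg.Agent.Lib.Helper7.GTFa
import Cfsg.Agent.Lib.Helper7.KNormalizerSat2
import Cfsg.Agent.Lib.Helper7.MaxClassC
import Cfsg.Agent.Lib.Lead.PGroup

set_option autoImplicit false

namespace Cfsg.Agent.Lib.Helper7.GTF

open Cfsg Cfsg.FusionSystem Cfsg.Agent.Lib.Helper7 Cfsg.Agent.Lib.Helper7.WCtl
  Cfsg.Agent.Lib.Helper7.TNP

variable {Ω : Type*} [Group Ω] {S : Subgroup Ω}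

/-- transport of `NPN` along a map defined on the normalizer -/
theorem npn_transport (F : FusionSystem S) (p : ℕ) {V V₁ : Subgroup Ω}
    (χ : ↥(normalizerIn S V) →* Ω) (hχ : χ ∈ F.Hom (normalizerIn S V))
    (hχN : ∀ x, χ x ∈ normalizerIn S V₁)
    (hχV : (V.subgroupOf (normalizerIn S V)).map χ = V₁) (h : NPN F p V) : NPN F p V₁ := by
  obtain ⟨X, β, hVX, hXN, hβ, hne, hord, hmap⟩ := h
  have hχX : χ.comp (Subgroup.inclusion hXN) ∈ F.Hom X := fs_restrict_mem F hXN hχ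
  set ψ := χ.comp (Subgroup.inclusion hXN) with hψ
  set X₁ : Subgroup Ω := ψ.range with hX₁
  set e := isoOfRange ψ (F.injective_of_mem hχX) rfl with he
  have hecoe : ∀ x : X, ((e x : X₁) : Ω) = χ ⟨x, hXN x.2⟩ := fun x => rfl
  have hVN : V ≤ normalizerIn S V := hVX.trans hXN
  have hmemV₁ : ∀ y : Ω, y ∈ V₁ ↔ ∃ (v : Ω) (hv : v ∈ V), χ ⟨v, hVN hv⟩ = y := by
    intro y
    rw [← hχV]
    constructor
    · rintro ⟨s, hs, rfl⟩
      exact ⟨s, Subgroup.mem_subgroupOf.mp hs, rfl⟩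
    · rintro ⟨v, hv, rfl⟩
      exact ⟨⟨v, hVN hv⟩, Subgroup.mem_subgroupOf.mpr hv, rfl⟩
  refine ⟨X₁, MulAut.congr e β, ?_, ?_, autGroup_congr F hχX rfl hβ, ?_, ?_, ?_⟩
  · intro y hy
    obtain ⟨v, hv, rfl⟩ := (hmemV₁ y).mp hy
    exact ⟨⟨v, hVX hv⟩, rfl⟩
  · rintro _ ⟨x, rfl⟩
    exact hχN _
  · intro h1
    apply hne
    exact (MulAut.congr e).injective (h1.trans (map_one (MulAut.congr e)).symm)
  · rw [MulEquiv.orderOf_eq]
    exact hord
  · intro y hy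
    obtain ⟨v, hv, hvy⟩ := (hmemV₁ (y : Ω)).mp hy
    have h1 : e ⟨v, hVX hv⟩ = y := Subtype.ext (by rw [hecoe]; exact hvy)
    have h2 : e.symm y = ⟨v, hVX hv⟩ := by rw [← h1, e.symm_apply_apply]
    show ((e (β (e.symm y)) : X₁) : Ω) ∈ V₁
    rw [h2, hecoe]
    exact (hmemV₁ _).mpr ⟨_, hmap ⟨v, hVX hv⟩ hv, rfl⟩

/-- passing to a fully normalized conjugate -/
theorem npn_fullyNormalized [Finite S] (p : ℕ) [Fact p.Prime] (hS : IsPGroup p S)
    (F : FusionSystem S) (hF : F.IsSaturated p) {V : Subgroup Ω} (hVS : V ≤ S) (hVne : V ≠ ⊥)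
    (h : NPN F p V) :
    ∃ V₁, F.IsFullyNormalized V₁ ∧ V₁ ≠ ⊥ ∧
      Nat.card (normalizerIn S V) ≤ Nat.card (normalizerIn S V₁) ∧ NPN F p V₁ := by
  obtain ⟨V₁, hc, hFN⟩ := exists_isFullyNormalized_conj F hVS
  obtain ⟨R, hcR, hFAR, hRecR⟩ := hF V₁ hFN.1
  obtain ⟨hFA, hRec⟩ := isFullyAutomized_isReceptive_of_isFullyNormalized p hS F hFN hFAR hRecR hcR
  obtain ⟨χ, hχ, hχN, hχV⟩ := hom_normalizer_of_fullyAutomized_receptive p hS F V₁ V hFA hRec hc
  refine ⟨V₁, hFN, ?_, hFN.2 V (isConj_symm F hc), npn_transport F p χ hχ hχN hχV h⟩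
  intro hb
  apply hVne
  obtain ⟨ψ, hψ, hr⟩ := hc
  rw [eq_bot_iff]
  intro v hv
  have h1 : ψ ⟨v, hv⟩ ∈ ψ.range := ⟨_, rfl⟩
  rw [hr, hb, Subgroup.mem_bot] at h1
  have h2 : ψ ⟨v, hv⟩ = ψ 1 := by rw [h1, map_one]
  have h3 := congrArg Subtype.val (F.injective_of_mem hψ h2)
  exact h3

/-- `NPN` gives a nontrivial `p'`-automorphism in the normalizer system -/
theorem np_normalizerSystem_of_npn [Finite S] (F : FusionSystem S) (p : ℕ) {V : Subgroup Ω}
    (N : FusionSystem (normalizerIn S V)) (hN : F.IsNormalizerSystem V N) (h : NPN F p V) :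
    ∃ X : Subgroup Ω, X ≤ normalizerIn S V ∧ NP N p X := by
  obtain ⟨X, β, hVX, hXN, hβ, hne, hord, hmap⟩ := h
  refine ⟨X, hXN, β, ?_, hne, hord⟩
  rw [mem_autGroup_iff N hXN, hN X]
  exact aut_mem_normalizerHom F hVX hXN β hβ hmap

theorem npn_mono (F : FusionSystem S) (p : ℕ) {T : Subgroup Ω} (N : FusionSystem T) (hTS : T ≤ S)
    (hNF : ∀ (P : Subgroup Ω) (φ : P →* Ω), φ ∈ N.Hom P → φ ∈ F.Hom P) {V : Subgroup Ω}
    (h : NPN N p V) : NPN F p V := by
  obtain ⟨X, β, hVX, hXN, hβ, hne, hord, hmap⟩ := h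
  have hXT : X ≤ T := hXN.trans inf_le_left
  refine ⟨X, β, hVX, hXN.trans (inf_le_inf_right _ hTS), ?_, hne, hord, hmap⟩
  rw [mem_autGroup_iff F (hXT.trans hTS)]
  exact hNF _ _ ((mem_autGroup_iff N hXT β).mp hβ)

/-- if `N_N(V)` is not inner, there is a nontrivial `p'`-automorphism in it -/
theorem npn_of_not_NIn {T : Subgroup Ω} [Finite T] (p : ℕ) [Fact p.Prime] (hT : IsPGroup p T)
    (N : FusionSystem T) (hNsat : N.IsSaturated p) {V : Subgroup Ω} (hVT : V ≤ T)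
    (hTV : T ≤ Subgroup.normalizer (V : Set Ω)) (h : ¬ NIn N V) : NPN N p V := by
  by_contra hno
  apply h
  obtain ⟨N₂, hN₂⟩ := exists_normalizerSystem N V hVT
  have hVfn : N.IsFullyNormalized V := Cfsg.Agent.Lib.Helper7.MaxClass.isFullyNormalized_of_normalizer N hVT hTV
  have hN₂sat := normalizerSystem_isSaturated p hT N hNsat V hVfn N₂ hN₂
  have hT₂le : normalizerIn T V ≤ T := inf_le_left
  have hfinT₂ : Finite ↥(normalizerIn T V) := finite_of_le hT₂le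
  have hT₂ : IsPGroup p ↥(normalizerIn T V) := hT.to_le hT₂le
  have hinner : N₂ = innerFusionSystem (normalizerIn T V) := by
    apply eq_innerFusionSystem_of_isPGroup p hT₂ N₂ hN₂sat
    intro P' hP'
    by_contra hnot
    have hfinP' : Finite ↥P' := finite_of_le hP'
    obtain ⟨γ, hγ, hγne, hγord⟩ := np_of_not_isPGroup N₂ p hnot
    apply hno
    have h1 : P'.subtype.comp γ.toMonoidHom ∈ N₂.Hom P' := (mem_autGroup_iff N₂ hP' γ).mp hγ
    rw [hN₂ P'] at h1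
    obtain ⟨-, h2, -, ψ, hψ, hext, hmapV⟩ := h1
    have hX'T : P' ⊔ V ≤ T := sup_le (hP'.trans hT₂le) hVT
    have hfinX' : Finite ↥(P' ⊔ V) := finite_of_le hX'T
    have hmapP : (P'.subgroupOf (P' ⊔ V)).map ψ = P' := by
      ext y
      constructor
      · rintro ⟨s, hs, rfl⟩
        have h3 := hext ⟨s, Subgroup.mem_subgroupOf.mp hs⟩
        have h4 : Subgroup.inclusion (le_sup_left : P' ≤ P' ⊔ V) ⟨s, Subgroup.mem_subgroupOf.mp hs⟩
            = s := Subtype.ext rfl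
        rw [h4] at h3
        rw [h3]
        exact (γ _).2
      · intro hy
        refine ⟨Subgroup.inclusion le_sup_left (γ⁻¹ ⟨y, hy⟩), Subgroup.mem_subgroupOf.mpr
          (γ⁻¹ ⟨y, hy⟩ : P').2, ?_⟩
        rw [hext]
        simp
    have hr : ψ.range = P' ⊔ V := by
      have h3 : ψ.range = (⊤ : Subgroup ↥(P' ⊔ V)).map ψ := (MonoidHom.range_eq_map ψ)
      have h4 : (⊤ : Subgroup ↥(P' ⊔ V)) =
          P'.subgroupOf (P' ⊔ V) ⊔ V.subgroupOf (P' ⊔ V) := by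
        rw [← Subgroup.subgroupOf_sup le_sup_left le_sup_right]
        exact (Subgroup.subgroupOf_self (P' ⊔ V)).symm
      rw [h3, h4, Subgroup.map_sup, hmapP, hmapV]
    have hψinj := N.injective_of_mem hψ
    set γt : MulAut ↥(P' ⊔ V) := isoOfRange ψ hψinj hr with hγt
    have hγtcoe : ∀ x : ↥(P' ⊔ V), ((γt x : ↥(P' ⊔ V)) : Ω) = ψ x := fun x => rfl
    have hγtmem : γt ∈ N.autGroup (P' ⊔ V) := by
      rw [mem_autGroup_iff N hX'T]
      have h9 : (P' ⊔ V).subtype.comp (MulEquiv.toMonoidHom γt) = ψ := by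
        ext x
        rfl
      rw [h9]
      exact hψ
    have hres : ∀ (k : ℕ) (x : P'),
        (((γt ^ k) (Subgroup.inclusion le_sup_left x) : ↥(P' ⊔ V)) : Ω) =
        (((γ ^ k) x : P') : Ω) := by
      intro k
      induction k with
      | zero => intro x; simp
      | succ k ih =>
        intro x
        have h5 : (γt ^ (k + 1)) (Subgroup.inclusion le_sup_left x) =
            (γt ^ k) (γt (Subgroup.inclusion le_sup_left x)) := by rw [pow_succ]; rfl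
        have h6 : (γ ^ (k + 1)) x = (γ ^ k) (γ x) := by rw [pow_succ]; rfl
        have h7 : γt (Subgroup.inclusion le_sup_left x) = Subgroup.inclusion le_sup_left (γ x) := by
          apply Subtype.ext
          rw [hγtcoe, hext]
          rfl
        rw [h5, h6, h7, ih]
    have hfinAut : Finite (MulAut ↥(P' ⊔ V)) := inferInstance
    obtain ⟨a, ha⟩ := exists_pow_coprime p γt
    have hpres : ∀ x : ↥(P' ⊔ V), (x : Ω) ∈ V → ((γt x : ↥(P' ⊔ V)) : Ω) ∈ V := by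
      intro x hx
      rw [hγtcoe]
      have h9 : ψ x ∈ (V.subgroupOf (P' ⊔ V)).map ψ := ⟨x, Subgroup.mem_subgroupOf.mpr hx, rfl⟩
      rw [hmapV] at h9
      exact h9
    refine ⟨P' ⊔ V, γt ^ p ^ a, le_sup_right, sup_le h2 (le_inf hVT Subgroup.le_normalizer),
      Subgroup.pow_mem _ hγtmem _, ?_, ha, pow_preserve γt hpres _⟩
    intro h1
    apply hγne
    apply eq_one_of_coprime_of_pow hγord (a := a)
    ext x
    have h8 := hres (p ^ a) x
    rw [h1] at h8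
    exact h8.symm
  intro X φ hφ
  have h1 : φ ∈ N₂.Hom X := by rw [hN₂ X]; exact hφ
  rw [hinner] at h1
  obtain ⟨-, s, hs, hsφ⟩ := h1
  exact ⟨s, hT₂le hs, hsφ⟩

/-- a nontrivial subgroup of a `p`-group `S` normalized by `S` contains a nontrivial element centralized by `S` -/
theorem exists_central_of_normal [Finite S] {p : ℕ} [Fact p.Prime] (hS : IsPGroup p S)
    {D : Subgroup Ω} (hDS : D ≤ S) (hSD : S ≤ Subgroup.normalizer (D : Set Ω)) (hD : D ≠ ⊥) :
    ∃ z ∈ D, z ≠ 1 ∧ z ∈ Subgroup.centralizer (S : Set Ω) := by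
  have hn : (D.subgroupOf S).Normal := (Subgroup.normal_subgroupOf_iff_le_normalizer hDS).mpr hSD
  have hne : D.subgroupOf S ≠ ⊥ := by
    intro h
    apply hD
    rw [eq_bot_iff]
    intro x hx
    have h1 : (⟨x, hDS hx⟩ : ↥S) ∈ D.subgroupOf S := Subgroup.mem_subgroupOf.mpr hx
    rw [h, Subgroup.mem_bot] at h1
    exact congrArg Subtype.val h1
  obtain ⟨z, hzD, hzZ, hz1⟩ :=
    Cfsg.Agent.Lib.Lead.PGroup.exists_mem_center_of_normal hS (D.subgroupOf S) hne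
  refine ⟨(z : Ω), Subgroup.mem_subgroupOf.mp hzD, fun h => hz1 (Subtype.ext h), ?_⟩
  rw [Subgroup.mem_centralizer_iff]
  intro s hs
  have := Subgroup.mem_center_iff.mp hzZ ⟨s, hs⟩
  exact congrArg Subtype.val this

end Cfsg.Agent.Lib.Helper7.GTF
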