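import Mathlib
import Cfsg.Prelude.Def_FusionSystem
import Cfsg.Prelude.Def_FusionReduction
import Cfsg.Agent.Lib.Helper7.GTFb

set_option autoImplicit false

namespace Cfsg.Agent.Lib.Helper7.GTF

open Cfsg Cfsg.FusionSystem Cfsg.Agent.Lib.Helper7 Cfsg.Agent.Lib.Helper7.WCtl
  Cfsg.Agent.Lib.Helper7.TNP

universe u

/-- the theorem for the system `F` relative to the strongly closed subgroup `D` -/
def Thm (p : ℕ) (W : ∀ (Q : Type u) [Group Q], Subgroup Q) {Ω : Type u} [Group Ω] {S : Subgroup Ω}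
    (F : FusionSystem S) (D : Subgroup Ω) : Prop :=
  F.IsSaturated p → F.StronglyClosed D → NIn F (WT W D) → F = innerFusionSystem S

section general
variable {Ω : Type*} [Group Ω]

theorem normalizer_inf_le (D T : Subgroup Ω) :
    Subgroup.normalizer (D : Set Ω) ⊓ Subgroup.normalizer (T : Set Ω) ≤
      Subgroup.normalizer ((D ⊓ T : Subgroup Ω) : Set Ω) := by
  rintro g ⟨hgD, hgT⟩
  rw [Subgroup.mem_normalizer_iff]
  intro h
  rw [Subgroup.mem_inf, Subgroup.mem_inf, ← Subgroup.mem_normalizer_iff.mp hgD h,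
    ← Subgroup.mem_normalizer_iff.mp hgT h]

theorem card_lt_of_le_of_ne {S T : Subgroup Ω} [Finite S] (hTS : T ≤ S) (hne : T ≠ S) :
    Nat.card T < Nat.card S := by
  by_contra hge
  exact hne (Subgroup.eq_of_le_of_card_ge hTS (not_lt.mp hge))

end general

variable {p : ℕ} [Fact p.Prime] (W : ∀ (Q : Type u) [Group Q], Subgroup Q)
  (hW1 : ∀ (Q : Type u) [Group Q] [Finite Q], IsPGroup p Q → Nontrivial Q → W Q ≠ ⊥)
  (hW2 : ∀ (Q R : Type u) [Group Q] [Group R] [Finite Q], IsPGroup p Q → ∀ φ : Q ≃* R,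
    (W Q).map φ.toMonoidHom = W R)

variable {Ω : Type u} [Group Ω] {S : Subgroup Ω}

include hW1 in
omit [Fact p.Prime] in
theorem WT_ne_bot {D : Subgroup Ω} [Finite D] (hD : IsPGroup p D) (hne : D ≠ ⊥) : WT W D ≠ ⊥ := by
  have hnt : Nontrivial ↥D := (Subgroup.nontrivial_iff_ne_bot D).mpr hne
  have h1 := hW1 ↥D hD hnt
  intro h
  apply h1
  unfold WT at h
  exact (Subgroup.map_eq_bot_iff_of_injective _ D.subtype_injective).mp h

include hW1 hW2 in
/-- climbing: a bad subgroup with normalizer `S` -/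
theorem exists_npn_normal [Finite S] (hS : IsPGroup p S) (F : FusionSystem S)
    (hF : F.IsSaturated p) {D : Subgroup Ω} (hD : F.StronglyClosed D) (hDne : D ≠ ⊥)
    (ih1 : ∀ (T : Subgroup Ω) [Finite T] (N : FusionSystem T) (D' : Subgroup Ω),
      Nat.card T < Nat.card S → IsPGroup p T → Thm p W N D') :
    ∀ (k : ℕ) (Q : Subgroup Ω), Q ≤ S → Q ≠ ⊥ → NPN F p Q →
      Nat.card S - Nat.card (normalizerIn S Q) = k →
      ∃ Q', Q' ≤ S ∧ Q' ≠ ⊥ ∧ NPN F p Q' ∧ S ≤ Subgroup.normalizer (Q' : Set Ω) := by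
  intro k
  induction k using Nat.strong_induction_on with
  | _ k ih =>
  intro Q hQS hQne hnpn hk
  obtain ⟨Q₁, hQ₁fn, hQ₁ne, hcard, hnpn₁⟩ := npn_fullyNormalized p hS F hF hQS hQne hnpn
  have hQ₁S : Q₁ ≤ S := hQ₁fn.1
  by_cases hTeq : normalizerIn S Q₁ = S
  · exact ⟨Q₁, hQ₁S, hQ₁ne, hnpn₁, (inf_eq_left.mp hTeq)⟩
  have hTS : normalizerIn S Q₁ ≤ S := inf_le_left
  have hfinT : Finite ↥(normalizerIn S Q₁) := finite_of_le hTS
  have hT : IsPGroup p ↥(normalizerIn S Q₁) := hS.to_le hTS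
  have hcardT : Nat.card ↥(normalizerIn S Q₁) < Nat.card S := card_lt_of_le_of_ne hTS hTeq
  obtain ⟨N, hN⟩ := exists_normalizerSystem F Q₁ hQ₁S
  have hNsat := normalizerSystem_isSaturated p hS F hF Q₁ hQ₁fn N hN
  have hNF : ∀ (P : Subgroup Ω) (φ : P →* Ω), φ ∈ N.Hom P → φ ∈ F.Hom P := by
    intro P φ h
    rw [hN P] at h
    exact h.1
  obtain ⟨X, hXT, hnpX⟩ := np_normalizerSystem_of_npn F p N hN hnpn₁
  have hSD : S ≤ Subgroup.normalizer (D : Set Ω) := le_normalizer_of_stronglyClosed F hD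
  -- the strongly closed subgroup of the normalizer system
  have hDTsc : N.StronglyClosed (D ⊓ normalizerIn S Q₁) := by
    refine ⟨inf_le_right, fun R hR φ hφ x => ?_⟩
    exact ⟨hD.2 R (hR.trans inf_le_left) φ (hNF _ _ hφ) x, (N.le_of_mem hφ).2 x⟩
  have hDTne : D ⊓ normalizerIn S Q₁ ≠ ⊥ := by
    obtain ⟨z, hzD, hz1, hzC⟩ := exists_central_of_normal hS hD.1 hSD hDne
    intro hb
    apply hz1
    have hz : z ∈ D ⊓ normalizerIn S Q₁ := by
      refine ⟨hzD, hD.1 hzD, ?_⟩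
      apply Subgroup.centralizer_le_normalizer
      exact Subgroup.centralizer_le hQ₁S hzC
    rw [hb] at hz
    exact Subgroup.mem_bot.mp hz
  have hDTS : D ⊓ normalizerIn S Q₁ ≤ S := inf_le_left.trans hD.1
  have hfinDT : Finite ↥(D ⊓ normalizerIn S Q₁) := finite_of_le hDTS
  have hDTp : IsPGroup p ↥(D ⊓ normalizerIn S Q₁) := hS.to_le hDTS
  have hVne : WT W (D ⊓ normalizerIn S Q₁) ≠ ⊥ := WT_ne_bot W hW1 hDTp hDTne
  have hVT : WT W (D ⊓ normalizerIn S Q₁) ≤ normalizerIn S Q₁ := (WT_le W _).trans inf_le_right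
  have hnorm : ∀ g ∈ S, g ∈ Subgroup.normalizer ((normalizerIn S Q₁ : Subgroup Ω) : Set Ω) →
      g ∈ Subgroup.normalizer ((WT W (D ⊓ normalizerIn S Q₁) : Subgroup Ω) : Set Ω) := by
    intro g hgS hgT
    apply normalizer_le_normalizer_WT W hW2 _ hDTp
    exact normalizer_inf_le D _ ⟨hSD hgS, hgT⟩
  have hTV : normalizerIn S Q₁ ≤
      Subgroup.normalizer ((WT W (D ⊓ normalizerIn S Q₁) : Subgroup Ω) : Set Ω) :=
    fun g hg => hnorm g (hTS hg) (Subgroup.le_normalizer hg)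
  have hnotin : ¬ NIn N (WT W (D ⊓ normalizerIn S Q₁)) := by
    intro hin
    have h1 := ih1 _ N (D ⊓ normalizerIn S Q₁) hcardT hT hNsat hDTsc hin
    rw [h1] at hnpX
    exact not_np_inner hT hXT hnpX
  have hnpnV : NPN F p (WT W (D ⊓ normalizerIn S Q₁)) :=
    npn_mono F p N hTS hNF (npn_of_not_NIn p hT N hNsat hVT hTV hnotin)
  have h1 : Nat.card ↥(normalizerIn S Q₁) < Nat.card ↥(normalizerIn S (normalizerIn S Q₁)) :=
    card_lt_card_normalizerIn hS hTS hTeq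
  have h2 : normalizerIn S (normalizerIn S Q₁) ≤
      normalizerIn S (WT W (D ⊓ normalizerIn S Q₁)) :=
    fun g hg => ⟨hg.1, hnorm g hg.1 hg.2⟩
  have hfin2 : Finite ↥(normalizerIn S (WT W (D ⊓ normalizerIn S Q₁))) := finite_of_le inf_le_left
  have h3 := Subgroup.card_le_of_le h2
  have h4 : Nat.card ↥(normalizerIn S (WT W (D ⊓ normalizerIn S Q₁))) ≤ Nat.card S :=
    Subgroup.card_le_of_le inf_le_left
  exact ih (Nat.card S - Nat.card ↥(normalizerIn S (WT W (D ⊓ normalizerIn S Q₁)))) (by omega)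
    _ (hVT.trans hTS) hVne hnpnV rfl

end Cfsg.Agent.Lib.Helper7.GTF
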