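import Mathlib
import Cfsg.Prelude.Def_FusionSystem
import Cfsg.Prelude.Def_FusionReduction
import Cfsg.Prelude.Def_FusionComponents
import Cfsg.Agent.Lib.Helper7.GTFc
import Cfsg.Agent.Lib.Helper7.FactorSolvable
import Cfsg.Agent.Lib.Helper7.FactorSaturated

set_option autoImplicit false

namespace Cfsg.Agent.Lib.Helper7.GTF

open Cfsg Cfsg.FusionSystem Cfsg.Agent.Lib.Helper7 Cfsg.Agent.Lib.Helper7.WCtl
  Cfsg.Agent.Lib.Helper7.TNP

universe u

section general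
variable {Ω : Type*} [Group Ω] {S : Subgroup Ω} {Ω' : Type*} [Group Ω'] {S' : Subgroup Ω'}

/-- the preimage of a subgroup normalized by the image of `y` is normalized by `y` -/
theorem mem_normalizer_preimage (θ : S →* Ω') {V' : Subgroup Ω'} {y : Ω} (hy : y ∈ S)
    (hn : θ ⟨y, hy⟩ ∈ Subgroup.normalizer (V' : Set Ω')) :
    y ∈ Subgroup.normalizer ((preimageAlong θ V' : Subgroup Ω) : Set Ω) := by
  rw [Subgroup.mem_normalizer_iff]
  intro h
  rw [mem_preimageAlong, mem_preimageAlong]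
  constructor
  · rintro ⟨hhS, hh⟩
    refine ⟨S.mul_mem (S.mul_mem hy hhS) (S.inv_mem hy), ?_⟩
    have h1 : (⟨y * h * y⁻¹, S.mul_mem (S.mul_mem hy hhS) (S.inv_mem hy)⟩ : ↥S) =
        ⟨y, hy⟩ * ⟨h, hhS⟩ * ⟨y, hy⟩⁻¹ := rfl
    rw [h1, map_mul, map_mul, map_inv]
    exact (Subgroup.mem_normalizer_iff.mp hn _).mp hh
  · rintro ⟨hS', hh⟩
    have hhS : h ∈ S := by
      have h2 : h = y⁻¹ * (y * h * y⁻¹) * y := by group
      rw [h2]
      exact S.mul_mem (S.mul_mem (S.inv_mem hy) hS') hy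
    refine ⟨hhS, ?_⟩
    have h1 : (⟨y * h * y⁻¹, hS'⟩ : ↥S) = ⟨y, hy⟩ * ⟨h, hhS⟩ * ⟨y, hy⟩⁻¹ := rfl
    rw [h1, map_mul, map_mul, map_inv] at hh
    exact (Subgroup.mem_normalizer_iff.mp hn _).mpr hh

/-- `NIn` passes to the factor system -/
theorem NIn_factor [Finite S] (F : FusionSystem S) (Q : Subgroup Ω) (θ : S →* Ω')
    (E : FusionSystem S') (hE : F.IsFactorSystem Q θ E) {V' : Subgroup Ω'}
    (hSR : S ≤ Subgroup.normalizer ((preimageAlong θ V' : Subgroup Ω) : Set Ω))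
    (hin : NIn F (preimageAlong θ V')) : NIn E V' := by
  obtain ⟨hQS, hker, hrange, hHom⟩ := hE
  have hθS' : ∀ s : S, θ s ∈ S' := fun s => hrange ▸ ⟨s, rfl⟩
  intro X' φ' hφ'
  obtain ⟨h1, h2, h3, ψ', hψ', hext, hmap⟩ := hφ'
  obtain ⟨hY'S', ψ, hψ, hPS, hψS, hPP', hind⟩ := (hHom _ ψ').mp hψ'
  have hRY : preimageAlong θ V' ≤ preimageAlong θ (X' ⊔ V') := preimageAlong_mono θ le_sup_right
  have hRS : preimageAlong θ V' ≤ S := preimageAlong_le θ V'
  have hfinR : Finite ↥(preimageAlong θ V') := finite_of_le hRS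
  have hψR : ∀ r : ↥(preimageAlong θ (X' ⊔ V')), (r : Ω) ∈ preimageAlong θ V' →
      ψ r ∈ preimageAlong θ V' := by
    intro r hr
    rw [mem_preimageAlong]
    refine ⟨hψS r, ?_⟩
    rw [← hind r]
    have h4 : θ ⟨r, hPS r.2⟩ ∈ V' := ((mem_preimageAlong θ V' r).mp hr).2
    have h5 : ψ' ⟨θ ⟨r, hPS r.2⟩, hPP' r⟩ ∈ (V'.subgroupOf (X' ⊔ V')).map ψ' :=
      ⟨_, Subgroup.mem_subgroupOf.mpr h4, rfl⟩
    rw [hmap] at h5
    exact h5
  have hle : S ≤ normalizerIn S (preimageAlong θ V') := le_inf le_rfl hSR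
  have hψN : ψ ∈ F.normalizerHom (preimageAlong θ V') (preimageAlong θ (X' ⊔ V')) := by
    refine ⟨hψ, hPS.trans hle, fun y => hle (hψS y), ?_⟩
    have hsup : preimageAlong θ (X' ⊔ V') ⊔ preimageAlong θ V' = preimageAlong θ (X' ⊔ V') :=
      sup_eq_left.mpr hRY
    refine ⟨_, fs_mem_of_eq F hsup hψ, fun x => rfl, ?_⟩
    have hinj : Function.Injective (ψ.comp (Subgroup.inclusion (le_of_eq hsup))) :=
      (F.injective_of_mem hψ).comp (Subgroup.inclusion_injective _)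
    have hle2 : ((preimageAlong θ V').subgroupOf
        (preimageAlong θ (X' ⊔ V') ⊔ preimageAlong θ V')).map
        (ψ.comp (Subgroup.inclusion (le_of_eq hsup))) ≤ preimageAlong θ V' := by
      rintro _ ⟨s, hs, rfl⟩
      exact hψR _ (Subgroup.mem_subgroupOf.mp hs)
    apply Subgroup.eq_of_le_of_card_ge hle2
    rw [Subgroup.card_map_of_injective hinj]
    have : Nat.card ↥((preimageAlong θ V').subgroupOf
        (preimageAlong θ (X' ⊔ V') ⊔ preimageAlong θ V')) = Nat.card ↥(preimageAlong θ V') :=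
      Nat.card_congr (Subgroup.subgroupOfEquivOfLe le_sup_right).toEquiv
    rw [this]
  obtain ⟨s, hs, hsψ⟩ := hin _ ψ hψN
  refine ⟨θ ⟨s, hs⟩, hθS' _, fun x' => ?_⟩
  obtain ⟨y, hy, hyx⟩ := exists_preimage_of_mem θ S' hrange hY'S' (x' : Ω')
    (Subgroup.mem_sup_left x'.2)
  have h6 := hind ⟨y, hy⟩
  have h7 : (⟨θ ⟨y, hPS hy⟩, hPP' ⟨y, hy⟩⟩ : ↥(X' ⊔ V')) = Subgroup.inclusion le_sup_left x' :=
    Subtype.ext hyx
  rw [h7, hext] at h6
  rw [h6]
  have h8 : (⟨ψ ⟨y, hy⟩, hψS ⟨y, hy⟩⟩ : ↥S) = ⟨s, hs⟩ * ⟨y, hPS hy⟩ * ⟨s, hs⟩⁻¹ :=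
    Subtype.ext (hsψ ⟨y, hy⟩)
  rw [h8, map_mul, map_mul, map_inv, ← hyx]

end general

variable {p : ℕ} [Fact p.Prime] (W : ∀ (Q : Type u) [Group Q], Subgroup Q)
  (hW1 : ∀ (Q : Type u) [Group Q] [Finite Q], IsPGroup p Q → Nontrivial Q → W Q ≠ ⊥)
  (hW2 : ∀ (Q R : Type u) [Group Q] [Group R] [Finite Q], IsPGroup p Q → ∀ φ : Q ≃* R,
    (W Q).map φ.toMonoidHom = W R)

variable {Ω : Type u} [Group Ω] {S : Subgroup Ω}

/-- the normalizer system of a subgroup normal in `S` but not in `F` is inner -/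
theorem NIn_of_not_isNormal [Finite S] (hS : IsPGroup p S) (F : FusionSystem S)
    (hF : F.IsSaturated p) {D : Subgroup Ω} (hD : F.StronglyClosed D) (hin : NIn F (WT W D))
    (ih2 : ∀ (T : Subgroup Ω) [Finite T] (N : FusionSystem T) (D' : Subgroup Ω),
      Nat.card T = Nat.card S → mu N < mu F → IsPGroup p T → Thm p W N D')
    {R : Subgroup Ω} (hRS : R ≤ S) (hSR : S ≤ Subgroup.normalizer (R : Set Ω))
    (hnn : ¬ F.IsNormal R) : NIn F R := by
  have hTeq : normalizerIn S R = S := inf_eq_left.mpr hSR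
  have hTS : normalizerIn S R ≤ S := inf_le_left
  have hfinT : Finite ↥(normalizerIn S R) := finite_of_le hTS
  have hT : IsPGroup p ↥(normalizerIn S R) := hS.to_le hTS
  obtain ⟨N, hN⟩ := exists_normalizerSystem F R hRS
  have hRfn : F.IsFullyNormalized R :=
    Cfsg.Agent.Lib.Helper7.MaxClass.isFullyNormalized_of_normalizer F hRS hSR
  have hNsat := normalizerSystem_isSaturated p hS F hF R hRfn N hN
  have hNF : ∀ (P : Subgroup Ω) (φ : P →* Ω), φ ∈ N.Hom P → φ ∈ F.Hom P := by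
    intro P φ h
    rw [hN P] at h
    exact h.1
  have hex : ∃ (P : Subgroup Ω) (φ : P →* Ω), φ ∈ F.Hom P ∧ φ ∉ F.normalizerHom R P := by
    by_contra hcon
    apply hnn
    apply isNormal_of_forall_mem F hRS
    intro P φ hφ
    by_contra h1
    exact hcon ⟨P, φ, hφ, h1⟩
  obtain ⟨P, φ, hφ, hφn⟩ := hex
  have hmu : mu N < mu F := mu_lt F N hNF hφ (by rw [hN P]; exact hφn)
  have hDsc : N.StronglyClosed D := by
    refine ⟨hD.1.trans hTeq.ge, fun R' hR' ψ hψ x => ?_⟩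
    exact hD.2 R' hR' ψ (hNF _ _ hψ) x
  have hNin : NIn N (WT W D) := by
    intro X ψ hψ
    obtain ⟨s, hs, hsψ⟩ := hin X ψ (normalizerHom_mono F N hTS hNF hψ)
    exact ⟨s, hTeq.ge hs, hsψ⟩
  have hcard : Nat.card ↥(normalizerIn S R) = Nat.card S := by rw [hTeq]
  have hinner := ih2 _ N D hcard hmu hT hNsat hDsc hNin
  intro X ψ hψ
  have h1 : ψ ∈ N.Hom X := by rw [hN X]; exact hψ
  rw [hinner] at h1
  obtain ⟨-, s, hs, hsψ⟩ := h1
  exact ⟨s, hTS hs, hsψ⟩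

end Cfsg.Agent.Lib.Helper7.GTF
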