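import Mathlib
import Cfsg.Prelude.Def_FusionSystem
import Cfsg.Prelude.Def_FusionReduction
import Cfsg.Prelude.Def_FusionComponents
import Cfsg.Agent.Lib.Helper7.GTFd
import Cfsg.Agent.Lib.Helper7.FusionExtend
import Cfsg.Agent.Lib.Helper7.FactorMorphism

set_option autoImplicit false

namespace Cfsg.Agent.Lib.Helper7.GTF

open Cfsg Cfsg.FusionSystem Cfsg.Agent.Lib.Helper7 Cfsg.Agent.Lib.Helper7.WCtl
  Cfsg.Agent.Lib.Helper7.TNP

universe u

/-- every map of `F` is, modulo `Q`, conjugation by an element of `S` -/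
def InnerMod {Ω : Type*} [Group Ω] {S : Subgroup Ω} (F : FusionSystem S) (Q : Subgroup Ω) : Prop :=
  ∀ (P : Subgroup Ω) (φ : P →* Ω), φ ∈ F.Hom P →
    ∃ s ∈ S, ∀ x : P, (s * (x : Ω) * s⁻¹)⁻¹ * φ x ∈ Q

variable {p : ℕ} [Fact p.Prime] (W : ∀ (Q : Type u) [Group Q], Subgroup Q)
  (hW1 : ∀ (Q : Type u) [Group Q] [Finite Q], IsPGroup p Q → Nontrivial Q → W Q ≠ ⊥)
  (hW2 : ∀ (Q R : Type u) [Group Q] [Group R] [Finite Q], IsPGroup p Q → ∀ φ : Q ≃* R,
    (W Q).map φ.toMonoidHom = W R)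

variable {Ω : Type u} [Group Ω] {S : Subgroup Ω}

omit [Fact p.Prime] in
theorem isNormal_of_le [Fact p.Prime] [Finite S] (hS : IsPGroup p S) (F : FusionSystem S)
    (hF : F.IsSaturated p) {Q D : Subgroup Ω} (hQ : F.IsNormal Q) (hD : F.StronglyClosed D)
    (hDQ : D ≤ Q) : F.IsNormal D := by
  rw [isNormal_iff_stronglyClosed_le_centric_radical p hS F hF]
  refine ⟨hD, fun P hc hr => hDQ.trans ?_⟩
  exact ((isNormal_iff_stronglyClosed_le_centric_radical p hS F hF Q).mp hQ).2 P hc hr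

include hW2 in
theorem isNormal_WT [Finite S] (hS : IsPGroup p S) (F : FusionSystem S)
    (hF : F.IsSaturated p) {D : Subgroup Ω} (hD : F.IsNormal D) : F.IsNormal (WT W D) := by
  have hDS : D ≤ S := hD.1
  have hfinD : Finite ↥D := finite_of_le hDS
  have hDp : IsPGroup p ↥D := hS.to_le hDS
  have hVD : WT W D ≤ D := WT_le W D
  rw [isNormal_iff_stronglyClosed_le_centric_radical p hS F hF]
  refine ⟨⟨hVD.trans hDS, fun R hR φ hφ x => ?_⟩, fun P hc hr => hVD.trans ?_⟩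
  · obtain ⟨α, hα, hαφ⟩ := (isNormal_iff_extend p hS F hF D hDS).mp hD R (hR.trans hVD) φ hφ
    rw [← hαφ x]
    obtain ⟨hxD, hxW⟩ := (mem_WT_iff W D _).mp (hR x.2)
    have h1 : Subgroup.inclusion (hR.trans hVD) x = ⟨(x : Ω), hxD⟩ := Subtype.ext rfl
    rw [h1]
    exact (mem_WT_iff W D _).mpr ⟨(α ⟨(x : Ω), hxD⟩).2, (W_equiv_mem W hW2 hDp α _).mpr hxW⟩
  · exact ((isNormal_iff_stronglyClosed_le_centric_radical p hS F hF D).mp hD).2 P hc hr

include hW1 hW2 in
/-- the quotient step: modulo a maximal normal subgroup, a minimal counterexample is inner -/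
theorem innerMod_of_normal [Finite S] (hS : IsPGroup p S) (F : FusionSystem S)
    (hF : F.IsSaturated p) {D : Subgroup Ω} (hD : F.StronglyClosed D) (hin : NIn F (WT W D))
    (hni : F ≠ innerFusionSystem S)
    (ih1 : ∀ (Ω' : Type u) [Group Ω'] (S' : Subgroup Ω') [Finite S'] (F' : FusionSystem S')
      (D' : Subgroup Ω'), Nat.card S' < Nat.card S → IsPGroup p S' → Thm p W F' D')
    (ih2 : ∀ (T : Subgroup Ω) [Finite T] (N : FusionSystem T) (D' : Subgroup Ω),
      Nat.card T = Nat.card S → mu N < mu F → IsPGroup p T → Thm p W N D')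
    {Q : Subgroup Ω} (hQ : F.IsNormal Q) (hQne : Q ≠ ⊥)
    (hmax : ∀ R : Subgroup Ω, F.IsNormal R → Nat.card R ≤ Nat.card Q) : InnerMod F Q := by
  have hQsc := stronglyClosed_of_isNormal F hQ
  have hQS : Q ≤ S := hQ.1
  have hfinQ : Finite ↥Q := finite_of_le hQS
  have hSQ : S ≤ Subgroup.normalizer (Q : Set Ω) := le_normalizer_of_stronglyClosed F hQsc
  have hQn : (Q.subgroupOf S).Normal :=
    (Subgroup.normal_subgroupOf_iff_le_normalizer hQS).mpr hSQ
  obtain ⟨E, hE⟩ := exists_factorSystem_quotient F Q hQsc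
  have hker := hE.2.1
  have hrange := hE.2.2.1
  have hS' : IsPGroup p ↥(⊤ : Subgroup (↥S ⧸ Q.subgroupOf S)) :=
    (hS.to_quotient (Q.subgroupOf S)).to_subgroup _
  have hcard : Nat.card ↥(⊤ : Subgroup (↥S ⧸ Q.subgroupOf S)) < Nat.card S := by
    rw [Subgroup.card_top, ← Subgroup.index_eq_card]
    have h1 := (Q.subgroupOf S).card_mul_index
    have h2 : 1 < Nat.card ↥(Q.subgroupOf S) := by
      rw [Finite.one_lt_card_iff_nontrivial, Subgroup.nontrivial_iff_ne_bot]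
      intro hb
      apply hQne
      rw [eq_bot_iff]
      intro x hx
      have h3 : (⟨x, hQS hx⟩ : ↥S) ∈ Q.subgroupOf S := Subgroup.mem_subgroupOf.mpr hx
      rw [hb, Subgroup.mem_bot] at h3
      exact congrArg Subtype.val h3
    have h3 : 0 < (Q.subgroupOf S).index := Nat.pos_of_ne_zero Subgroup.index_ne_zero_of_finite
    nlinarith
  have hEsat := isSaturated_of_isFactorSystem p hS F hF Q hQsc _ E hE
  have hD' := stronglyClosed_image F Q _ E hE hD
  have hD'p : IsPGroup p ↥(imageAlong (QuotientGroup.mk' (Q.subgroupOf S)) D) := hS'.to_le hD'.1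
  have hV'n : (⊤ : Subgroup (↥S ⧸ Q.subgroupOf S)) ≤ Subgroup.normalizer
      ((WT W (imageAlong (QuotientGroup.mk' (Q.subgroupOf S)) D) :
        Subgroup (↥S ⧸ Q.subgroupOf S)) : Set (↥S ⧸ Q.subgroupOf S)) :=
    (le_normalizer_of_stronglyClosed E hD').trans (normalizer_le_normalizer_WT W hW2 _ hD'p)
  have hRS : preimageAlong (QuotientGroup.mk' (Q.subgroupOf S))
      (WT W (imageAlong (QuotientGroup.mk' (Q.subgroupOf S)) D)) ≤ S := preimageAlong_le _ _
  have hSR : S ≤ Subgroup.normalizer ((preimageAlong (QuotientGroup.mk' (Q.subgroupOf S))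
      (WT W (imageAlong (QuotientGroup.mk' (Q.subgroupOf S)) D)) : Subgroup Ω) : Set Ω) :=
    fun y hy => mem_normalizer_preimage _ hy (hV'n (Subgroup.mem_top _))
  have hEin : NIn E (WT W (imageAlong (QuotientGroup.mk' (Q.subgroupOf S)) D)) := by
    by_cases hRn : F.IsNormal (preimageAlong (QuotientGroup.mk' (Q.subgroupOf S))
        (WT W (imageAlong (QuotientGroup.mk' (Q.subgroupOf S)) D)))
    · exfalso
      apply hni
      have hQR : Q ≤ preimageAlong (QuotientGroup.mk' (Q.subgroupOf S))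
          (WT W (imageAlong (QuotientGroup.mk' (Q.subgroupOf S)) D)) := by
        intro q hq
        rw [mem_preimageAlong]
        refine ⟨hQS hq, ?_⟩
        rw [(hker ⟨q, hQS hq⟩).mpr hq]
        exact Subgroup.one_mem _
      have hfinR : Finite ↥(preimageAlong (QuotientGroup.mk' (Q.subgroupOf S))
          (WT W (imageAlong (QuotientGroup.mk' (Q.subgroupOf S)) D))) := finite_of_le hRS
      have hReq := Subgroup.eq_of_le_of_card_ge hQR (hmax _ hRn)
      have hV'bot : WT W (imageAlong (QuotientGroup.mk' (Q.subgroupOf S)) D) = ⊥ := by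
        rw [eq_bot_iff]
        intro v hv
        obtain ⟨s, rfl⟩ := QuotientGroup.mk'_surjective (Q.subgroupOf S) v
        have h1 : (s : Ω) ∈ preimageAlong (QuotientGroup.mk' (Q.subgroupOf S))
            (WT W (imageAlong (QuotientGroup.mk' (Q.subgroupOf S)) D)) :=
          (mem_preimageAlong _ _ _).mpr ⟨s.2, hv⟩
        rw [← hReq] at h1
        rw [Subgroup.mem_bot]
        exact (hker s).mpr h1
      have hD'bot : imageAlong (QuotientGroup.mk' (Q.subgroupOf S)) D = ⊥ := by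
        by_contra hne
        exact WT_ne_bot W hW1 hD'p hne hV'bot
      have hDQ : D ≤ Q := by
        intro d hd
        have h1 : QuotientGroup.mk' (Q.subgroupOf S) ⟨d, hD.1 hd⟩ ∈
            imageAlong (QuotientGroup.mk' (Q.subgroupOf S)) D :=
          (mem_imageAlong _ D _).mpr ⟨⟨d, hD.1 hd⟩, hd, rfl⟩
        rw [hD'bot, Subgroup.mem_bot] at h1
        exact (hker _).mp h1
      have hDn : F.IsNormal D := isNormal_of_le hS F hF hQ hD hDQ
      exact eq_inner_of_isNormal_of_NIn F (isNormal_WT W hW2 hS F hF hDn) hin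
    · exact NIn_factor F Q _ E hE hSR (NIn_of_not_isNormal W hS F hF hD hin ih2 hRS hSR hRn)
  have hEinner := ih1 _ ⊤ E _ hcard hS' hEsat hD' hEin
  intro P φ hφ
  obtain ⟨⟨hθS', hmor⟩, -, -⟩ := factor_map_surjective_morphism p hS F hF Q hQsc _ E hE
  obtain ⟨φ', hφ', hP, hφS, hP', hind⟩ := hmor P φ hφ
  rw [hEinner] at hφ'
  obtain ⟨-, s', -, hs'φ⟩ := hφ'
  obtain ⟨s, rfl⟩ := QuotientGroup.mk'_surjective (Q.subgroupOf S) s'
  refine ⟨s, s.2, fun x => ?_⟩
  have h1 := hind x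
  rw [hs'φ] at h1
  have hmem : (s * (x : Ω) * s⁻¹)⁻¹ * φ x ∈ S :=
    S.mul_mem (S.inv_mem (S.mul_mem (S.mul_mem s.2 (hP x.2)) (S.inv_mem s.2))) (hφS x)
  have h2 : QuotientGroup.mk' (Q.subgroupOf S) ⟨(s * (x : Ω) * s⁻¹)⁻¹ * φ x, hmem⟩ = 1 := by
    have h3 : (⟨(s * (x : Ω) * s⁻¹)⁻¹ * φ x, hmem⟩ : ↥S) =
        (s * ⟨x, hP x.2⟩ * s⁻¹)⁻¹ * ⟨φ x, hφS x⟩ := rfl
    rw [h3, map_mul, map_inv, map_mul, map_mul, map_inv, ← h1]
    exact inv_mul_cancel _
  exact (hker _).mp h2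

end Cfsg.Agent.Lib.Helper7.GTF
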