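import Mathlib
import Cfsg.Prelude.Def_FusionSystem
import Cfsg.Prelude.Def_FusionReduction
import Cfsg.Prelude.Def_FusionComponents
import Cfsg.Agent.Lib.Helper7.GTFe

set_option autoImplicit false

namespace Cfsg.Agent.Lib.Helper7.GTF

open Cfsg Cfsg.FusionSystem Cfsg.Agent.Lib.Helper7 Cfsg.Agent.Lib.Helper7.WCtl
  Cfsg.Agent.Lib.Helper7.TNP

variable {Ω : Type*} [Group Ω] {S : Subgroup Ω}

/-- a `p'`-automorphism centralizing `Q` and `P/Q` is trivial -/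
theorem eq_one_of_stabilizes {p : ℕ} [Fact p.Prime] {P Q : Subgroup Ω} [Finite Q]
    (hQp : IsPGroup p Q)
    (hQP : Q ≤ P) (α : MulAut P) (hord : (orderOf α).Coprime p)
    (hfix : ∀ x : P, (x : Ω) ∈ Q → α x = x)
    (hmod : ∀ x : P, (x : Ω)⁻¹ * ((α x : P) : Ω) ∈ Q) : α = 1 := by
  have hpow : ∀ (k : ℕ) (x : P), (((α ^ k) x : P) : Ω) = (x : Ω) * ((x : Ω)⁻¹ * ((α x : P) : Ω)) ^ k := by
    intro k
    induction k with
    | zero => intro x; simp
    | succ k ih =>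
      intro x
      have h1 : (α ^ (k + 1)) x = α ((α ^ k) x) := by rw [pow_succ']; rfl
      set q : Ω := (x : Ω)⁻¹ * ((α x : P) : Ω) with hq
      have hqQ : q ∈ Q := hmod x
      have hqk : q ^ k ∈ Q := Subgroup.pow_mem _ hqQ k
      have h2 : (α ^ k) x = x * ⟨q ^ k, hQP hqk⟩ := Subtype.ext (ih x)
      rw [h1, h2, map_mul, hfix ⟨q ^ k, hQP hqk⟩ hqk]
      show ((α x : P) : Ω) * q ^ k = (x : Ω) * q ^ (k + 1)
      have h3 : (x : Ω) * q = ((α x : P) : Ω) := by rw [hq, mul_inv_cancel_left]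
      rw [pow_succ', ← mul_assoc, h3]
  obtain ⟨c, hc⟩ := IsPGroup.iff_card.mp hQp
  apply eq_one_of_coprime_of_pow hord (a := c)
  ext x
  rw [hpow, ← hc]
  have h1 : (⟨_, hmod x⟩ : ↥Q) ^ Nat.card ↥Q = 1 := pow_card_eq_one'
  have h2 := congrArg Subtype.val h1
  simp only [Subgroup.coe_pow, Subgroup.coe_one] at h2
  rw [h2]
  simp

/-- an automorphism of `P` extends along a normal subgroup -/
theorem exists_aut_sup {T : Subgroup Ω} (N : FusionSystem T) {P V : Subgroup Ω} [Finite P]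
    (α : MulAut P) (ψ : ↥(P ⊔ V) →* Ω) (hψ : ψ ∈ N.Hom (P ⊔ V))
    (hext : ∀ x : P, ψ (Subgroup.inclusion le_sup_left x) = ((α x : P) : Ω))
    (hmapV : (V.subgroupOf (P ⊔ V)).map ψ = V) :
    ∃ γ : MulAut ↥(P ⊔ V), γ ∈ N.autGroup (P ⊔ V) ∧ (∀ x : ↥(P ⊔ V), ((γ x : ↥(P ⊔ V)) : Ω) = ψ x) ∧
      ∀ (k : ℕ) (x : P), (((γ ^ k) (Subgroup.inclusion le_sup_left x) : ↥(P ⊔ V)) : Ω) =
        (((α ^ k) x : P) : Ω) := by
  have hX'T : P ⊔ V ≤ T := (N.le_of_mem hψ).1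
  have hmapP : (P.subgroupOf (P ⊔ V)).map ψ = P := by
    ext y
    constructor
    · rintro ⟨s, hs, rfl⟩
      have h3 := hext ⟨s, Subgroup.mem_subgroupOf.mp hs⟩
      have h4 : Subgroup.inclusion (le_sup_left : P ≤ P ⊔ V) ⟨s, Subgroup.mem_subgroupOf.mp hs⟩
          = s := Subtype.ext rfl
      rw [h4] at h3
      rw [h3]
      exact (α _).2
    · intro hy
      refine ⟨Subgroup.inclusion le_sup_left (α⁻¹ ⟨y, hy⟩), Subgroup.mem_subgroupOf.mpr
        (α⁻¹ ⟨y, hy⟩ : P).2, ?_⟩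
      rw [hext]
      simp
  have hr : ψ.range = P ⊔ V := by
    have h3 : ψ.range = (⊤ : Subgroup ↥(P ⊔ V)).map ψ := (MonoidHom.range_eq_map ψ)
    have h4 : (⊤ : Subgroup ↥(P ⊔ V)) =
        P.subgroupOf (P ⊔ V) ⊔ V.subgroupOf (P ⊔ V) := by
      rw [← Subgroup.subgroupOf_sup le_sup_left le_sup_right]
      exact (Subgroup.subgroupOf_self (P ⊔ V)).symm
    rw [h3, h4, Subgroup.map_sup, hmapP, hmapV]
  have hψinj := N.injective_of_mem hψ
  refine ⟨isoOfRange ψ hψinj hr, ?_, fun x => rfl, ?_⟩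
  · rw [mem_autGroup_iff N hX'T]
    have h9 : (P ⊔ V).subtype.comp (MulEquiv.toMonoidHom (isoOfRange ψ hψinj hr)) = ψ := by
      ext x
      rfl
    rw [h9]
    exact hψ
  · intro k
    induction k with
    | zero => intro x; simp
    | succ k ih =>
      intro x
      have h5 : ((isoOfRange ψ hψinj hr : MulAut ↥(P ⊔ V)) ^ (k + 1))
          (Subgroup.inclusion le_sup_left x) =
          ((isoOfRange ψ hψinj hr : MulAut ↥(P ⊔ V)) ^ k)
            ((isoOfRange ψ hψinj hr : MulAut ↥(P ⊔ V)) (Subgroup.inclusion le_sup_left x)) := by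
        rw [pow_succ]; rfl
      have h6 : (α ^ (k + 1)) x = (α ^ k) (α x) := by rw [pow_succ]; rfl
      have h7 : (isoOfRange ψ hψinj hr : MulAut ↥(P ⊔ V)) (Subgroup.inclusion le_sup_left x) =
          Subgroup.inclusion le_sup_left (α x) := by
        apply Subtype.ext
        show ψ (Subgroup.inclusion le_sup_left x) = _
        rw [hext]
        rfl
      rw [h5, h6, h7, ih]

/-- a nontrivial `p'`-automorphism extends along a normal subgroup -/
theorem np_sup_normal [Finite S] (p : ℕ) [Fact p.Prime] (F : FusionSystem S) {Q P : Subgroup Ω}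
    (hQ : F.IsNormal Q) (hPS : P ≤ S) (h : NP F p P) : NP F p (P ⊔ Q) := by
  have hfinP : Finite ↥P := finite_of_le hPS
  have hfinPQ : Finite ↥(P ⊔ Q) := finite_of_le (sup_le hPS hQ.1)
  obtain ⟨α, hα, hne, hord⟩ := h
  obtain ⟨ψ, hψ, hext, hmapQ⟩ := hQ.2 P _ ((mem_autGroup_iff F hPS α).mp hα)
  obtain ⟨γ, hγ, -, hres⟩ := exists_aut_sup F α ψ hψ hext hmapQ
  apply np_of_not_isPGroup F p
  intro hpg
  obtain ⟨k, hk⟩ := hpg ⟨γ, hγ⟩
  have hk' : γ ^ p ^ k = 1 := congrArg Subtype.val hk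
  apply hne
  apply eq_one_of_coprime_of_pow hord (a := k)
  ext x
  have h1 := hres (p ^ k) x
  rw [hk'] at h1
  exact h1.symm

/-- if `F` is inner modulo the normal subgroup `Q` and `N_F(Q C_S(Q))` is inner, then `F` is inner -/
theorem eq_inner_of_innerMod [Finite S] (p : ℕ) [Fact p.Prime] (hS : IsPGroup p S)
    (F : FusionSystem S) (hF : F.IsSaturated p) {Q : Subgroup Ω} (hQ : F.IsNormal Q)
    (hmod : InnerMod F Q) (hR₀ : NIn F (Q ⊔ centralizerIn S Q)) : F = innerFusionSystem S := by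
  have hQS : Q ≤ S := hQ.1
  have hfinQ : Finite ↥Q := finite_of_le hQS
  have hQp : IsPGroup p ↥Q := hS.to_le hQS
  have hQsc := stronglyClosed_of_isNormal F hQ
  have hSQ : S ≤ Subgroup.normalizer (Q : Set Ω) := le_normalizer_of_stronglyClosed F hQsc
  have hQfn : F.IsFullyNormalized Q :=
    Cfsg.Agent.Lib.Helper7.MaxClass.isFullyNormalized_of_normalizer F hQS hSQ
  apply eq_innerFusionSystem_of_isPGroup p hS F hF
  intro P₀ hP₀
  by_contra hnot
  have hfinP₀ : Finite ↥P₀ := finite_of_le hP₀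
  have hnp := np_sup_normal p F hQ hP₀ (np_of_not_isPGroup F p hnot)
  have hPS : P₀ ⊔ Q ≤ S := sup_le hP₀ hQS
  have hQP : Q ≤ P₀ ⊔ Q := le_sup_right
  have hfinP : Finite ↥(P₀ ⊔ Q) := finite_of_le hPS
  obtain ⟨α, hα, hne, hord⟩ := hnp
  -- α is conjugation by s modulo Q
  obtain ⟨s, hs, hsα⟩ := hmod _ _ ((mem_autGroup_iff F hPS α).mp hα)
  have hsk : ∀ (k : ℕ) (x : ↥(P₀ ⊔ Q)),
      (s ^ k * (x : Ω) * (s ^ k)⁻¹)⁻¹ * (((α ^ k) x : ↥(P₀ ⊔ Q)) : Ω) ∈ Q := by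
    intro k
    induction k with
    | zero => intro x; simp
    | succ k ih =>
      intro x
      have h1 : (α ^ (k + 1)) x = α ((α ^ k) x) := by rw [pow_succ']; rfl
      set y := (α ^ k) x with hy
      have h2 := hsα y
      have h3 := ih x
      rw [← hy] at h3
      set q : Ω := (s ^ k * (x : Ω) * (s ^ k)⁻¹)⁻¹ * (y : Ω) with hq
      have hsq : s * q * s⁻¹ ∈ Q := (Subgroup.mem_normalizer_iff.mp (hSQ hs) q).mp h3
      have h4 : (s ^ (k + 1) * (x : Ω) * (s ^ (k + 1))⁻¹)⁻¹ * (((α ^ (k + 1)) x : ↥(P₀ ⊔ Q)) : Ω) =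
          (s * q * s⁻¹) * ((s * (y : Ω) * s⁻¹)⁻¹ *
            ((P₀ ⊔ Q).subtype.comp α.toMonoidHom) y) := by
        rw [h1, hq, pow_succ']
        show _ = _ * (_ * ((α y : ↥(P₀ ⊔ Q)) : Ω))
        group
      rw [h4]
      exact Q.mul_mem hsq h2
  obtain ⟨b, hb⟩ := hS ⟨s, hs⟩
  have hb' : s ^ p ^ b = 1 := congrArg Subtype.val hb
  have hα₁mod : ∀ x : ↥(P₀ ⊔ Q), (x : Ω)⁻¹ * (((α ^ p ^ b) x : ↥(P₀ ⊔ Q)) : Ω) ∈ Q := by
    intro x
    have := hsk (p ^ b) x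
    rw [hb'] at this
    simpa using this
  have hα₁ne : α ^ p ^ b ≠ 1 := fun h => hne (eq_one_of_coprime_of_pow hord h)
  have hα₁ord : (orderOf (α ^ p ^ b)).Coprime p :=
    Nat.Coprime.coprime_dvd_left (orderOf_pow_dvd _) hord
  have hα₁mem : α ^ p ^ b ∈ F.autGroup (P₀ ⊔ Q) := Subgroup.pow_mem _ hα _
  -- the restriction to Q
  have hφQ := fs_restrict_mem F hQP ((mem_autGroup_iff F hPS (α ^ p ^ b)).mp hα₁mem)
  obtain ⟨β, hβ, hβα⟩ := (isNormal_iff_extend p hS F hF Q hQS).mp hQ Q le_rfl _ hφQ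
  have hβα' : ∀ x : Q, ((β x : Q) : Ω) = (((α ^ p ^ b) ⟨x, hQP x.2⟩ : ↥(P₀ ⊔ Q)) : Ω) := by
    intro x
    have := hβα x
    have h1 : Subgroup.inclusion (le_refl Q) x = x := Subtype.ext rfl
    rw [h1] at this
    exact this
  have hβ1 : β = 1 := by
    by_contra hβne
    have hβk : ∀ (k : ℕ) (x : Q), (((β ^ k) x : Q) : Ω) =
        ((((α ^ p ^ b) ^ k) ⟨x, hQP x.2⟩ : ↥(P₀ ⊔ Q)) : Ω) := by
      intro k
      induction k with
      | zero => intro x; simp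
      | succ k ih =>
        intro x
        have h1 : (β ^ (k + 1)) x = (β ^ k) (β x) := by rw [pow_succ]; rfl
        have h2 : ((α ^ p ^ b) ^ (k + 1)) ⟨x, hQP x.2⟩ =
            ((α ^ p ^ b) ^ k) ((α ^ p ^ b) ⟨x, hQP x.2⟩) := by rw [pow_succ]; rfl
        rw [h1, h2, ih]
        congr 2
        exact Subtype.ext (hβα' x)
    have hβord : (orderOf β).Coprime p := by
      have h1 : β ^ orderOf (α ^ p ^ b) = 1 := by
        ext x
        rw [hβk, pow_orderOf_eq_one]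
        rfl
      exact Nat.Coprime.coprime_dvd_left (orderOf_dvd_of_pow_eq_one h1) hα₁ord
    have hnpQ : NP F p Q := ⟨β, hβ, hβne, hβord⟩
    obtain ⟨-, γ, hγ, hγne, hγord⟩ := np_sup_centralizerIn p hS F hF hQfn hnpQ
    have hR₀S : Q ⊔ centralizerIn S Q ≤ S := sup_le hQS inf_le_left
    have hR₀N : Q ⊔ centralizerIn S Q ≤ normalizerIn S (Q ⊔ centralizerIn S Q) :=
      le_inf hR₀S Subgroup.le_normalizer
    obtain ⟨t, ht, htγ⟩ := hR₀ _ _ (aut_mem_normalizerHom F le_rfl hR₀N γ hγ (fun x _ => (γ x).2))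
    exact hγne (eq_one_of_inner_coprime hS γ hγord ht htγ)
  apply hα₁ne
  apply eq_one_of_stabilizes hQp hQP (α ^ p ^ b) hα₁ord _ hα₁mod
  intro x hx
  apply Subtype.ext
  have h1 := hβα' ⟨x, hx⟩
  rw [hβ1] at h1
  exact h1.symm

end Cfsg.Agent.Lib.Helper7.GTF
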