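import Mathlib
import Cfsg.Prelude.Def_FusionSystem
import Cfsg.Prelude.Def_FusionReduction
import Cfsg.Prelude.Def_FusionComponents
import Cfsg.Agent.Lib.Helper7.GTFf

set_option autoImplicit false

namespace Cfsg.Agent.Lib.Helper7.GTF

open Cfsg Cfsg.FusionSystem Cfsg.Agent.Lib.Helper7 Cfsg.Agent.Lib.Helper7.WCtl
  Cfsg.Agent.Lib.Helper7.TNP Cfsg.Agent.Lib.Helper7.ModelUq
  Cfsg.Agent.Lib.Lead.NormalPComplement

universe u

variable {p : ℕ} [Fact p.Prime] (W : ∀ (Q : Type u) [Group Q], Subgroup Q)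
  (hW2 : ∀ (Q R : Type u) [Group Q] [Group R] [Finite Q], IsPGroup p Q → ∀ φ : Q ≃* R,
    (W Q).map φ.toMonoidHom = W R)

variable {Ω : Type u} [Group Ω]

include hW2 in
omit [Fact p.Prime] in
/-- `W` of the image of `D` in the model is the image of `W(D)` -/
theorem WT_imQ {T : Subgroup Ω} {L : Type u} [Group L] (ι : T →* L) (hinj : Function.Injective ι)
    {D : Subgroup Ω} (hDT : D ≤ T) [Finite D] (hDp : IsPGroup p D) :
    WT W (imQ ι D) = imQ ι (WT W D) := by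
  have hVT : WT W D ≤ T := (WT_le W D).trans hDT
  have hmem : ∀ x : D, ι ⟨x, hDT x.2⟩ ∈ imQ ι D := fun x => (mem_imQ_iff ι hDT _).mpr ⟨x, rfl⟩
  set f : ↥D →* ↥(imQ ι D) := (ι.comp (Subgroup.inclusion hDT)).codRestrict _ hmem with hf
  have hbij : Function.Bijective f := by
    constructor
    · intro a b hab
      have h1 : ι (Subgroup.inclusion hDT a) = ι (Subgroup.inclusion hDT b) :=
        congrArg Subtype.val hab
      exact Subgroup.inclusion_injective hDT (hinj h1)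
    · rintro ⟨y, hy⟩
      obtain ⟨x, rfl⟩ := (mem_imQ_iff ι hDT y).mp hy
      exact ⟨x, Subtype.ext rfl⟩
  set e : ↥D ≃* ↥(imQ ι D) := MulEquiv.ofBijective f hbij with he
  have hcoe : ∀ x : D, ((e x : ↥(imQ ι D)) : L) = ι ⟨x, hDT x.2⟩ := fun x => rfl
  ext y
  constructor
  · intro hy
    obtain ⟨hyD, hyW⟩ := (mem_WT_iff W (imQ ι D) y).mp hy
    set x : ↥D := e.symm ⟨y, hyD⟩ with hx
    have hex : e x = ⟨y, hyD⟩ := e.apply_symm_apply _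
    have hxW : x ∈ W ↥D := by
      apply (W_equiv_mem W hW2 hDp e x).mp
      rw [hex]; exact hyW
    have hxWT : (x : Ω) ∈ WT W D := (mem_WT_iff W D _).mpr ⟨x.2, hxW⟩
    refine (mem_imQ_iff ι hVT y).mpr ⟨⟨x, hxWT⟩, ?_⟩
    have := hcoe x
    rw [hex] at this
    exact this
  · intro hy
    obtain ⟨v, rfl⟩ := (mem_imQ_iff ι hVT y).mp hy
    obtain ⟨hvD, hvW⟩ := (mem_WT_iff W D _).mp v.2
    exact (mem_WT_iff W (imQ ι D) _).mpr
      ⟨(e ⟨v, hvD⟩).2, (W_equiv_mem W hW2 hDp e ⟨v, hvD⟩).mpr hvW⟩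

variable {S : Subgroup Ω}

/-- the image in a group realizing `N ⊆ F` of a subgroup strongly closed in `F` is strongly closed -/
theorem isStronglyClosed_imQ (F : FusionSystem S) {T : Subgroup Ω} (N : FusionSystem T)
    (hNF : ∀ (P : Subgroup Ω) (φ : P →* Ω), φ ∈ N.Hom P → φ ∈ F.Hom P)
    {L : Type*} [Group L] (ι : T →* L) (hinj : Function.Injective ι)
    (hreal : ∀ (P : Subgroup Ω) (hP : P ≤ T) (φ : P →* Ω) (hφ : ∀ x : P, φ x ∈ T),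
      φ ∈ N.Hom P ↔ ∃ g : L, ∀ x : P, ι ⟨φ x, hφ x⟩ = g * ι ⟨x, hP x.2⟩ * g⁻¹)
    {D : Subgroup Ω} (hD : F.StronglyClosed D) (hDT : D ≤ T) :
    Cfsg.IsStronglyClosed (imQ ι D) ι.range := by
  refine ⟨?_, ?_⟩
  · intro y hy
    obtain ⟨d, rfl⟩ := (mem_imQ_iff ι hDT y).mp hy
    exact ⟨_, rfl⟩
  · intro y hy g hgy
    obtain ⟨d, rfl⟩ := (mem_imQ_iff ι hDT y).mp hy
    have hZD : Subgroup.zpowers (d : Ω) ≤ D := Subgroup.zpowers_le.mpr d.2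
    have hZT : Subgroup.zpowers (d : Ω) ≤ T := hZD.trans hDT
    have hg : ∀ x : Subgroup.zpowers (d : Ω), g * ι ⟨x, hZT x.2⟩ * g⁻¹ ∈ ι.range := by
      rintro ⟨x, hx⟩
      obtain ⟨k, rfl⟩ := Subgroup.mem_zpowers_iff.mp hx
      have h1 : (⟨(d : Ω) ^ k, hZT hx⟩ : ↥T) = ⟨d, hDT d.2⟩ ^ k := Subtype.ext rfl
      rw [h1, map_zpow]
      have h2 : g * ι ⟨d, hDT d.2⟩ ^ k * g⁻¹ = (g * ι ⟨d, hDT d.2⟩ * g⁻¹) ^ k := by
        rw [conj_zpow]
      rw [h2]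
      exact Subgroup.zpow_mem _ hgy k
    obtain ⟨φ, hφT, hφ⟩ := exists_hom_of_conj ι hinj hZT g hg
    have hφN : φ ∈ N.Hom (Subgroup.zpowers (d : Ω)) := (hreal _ hZT φ hφT).mpr ⟨g, hφ⟩
    have hφF := hNF _ _ hφN
    have hφD := hD.2 _ hZD φ hφF ⟨d, Subgroup.mem_zpowers _⟩
    rw [← hφ ⟨d, Subgroup.mem_zpowers _⟩]
    exact (mem_imQ_iff ι hDT _).mpr ⟨⟨_, hφD⟩, rfl⟩

end Cfsg.Agent.Lib.Helper7.GTF
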