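import Mathlib
import Cfsg.Prelude.Def_FusionSystem
import Cfsg.Prelude.Def_FusionReduction
import Cfsg.Prelude.Def_FusionComponents
import Cfsg.Agent.Lib.Helper7.GTFg

set_option autoImplicit false

namespace Cfsg.Agent.Lib.Helper7.GTF

open Cfsg Cfsg.FusionSystem Cfsg.Agent.Lib.Helper7 Cfsg.Agent.Lib.Helper7.WCtl
  Cfsg.Agent.Lib.Helper7.TNP Cfsg.Agent.Lib.Helper7.ModelUq
  Cfsg.Agent.Lib.Lead.NormalPComplement

universe u

variable {p : ℕ} [Fact p.Prime] (W : ∀ (Q : Type u) [Group Q], Subgroup Q)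
  (hW2 : ∀ (Q R : Type u) [Group Q] [Group R] [Finite Q], IsPGroup p Q → ∀ φ : Q ≃* R,
    (W Q).map φ.toMonoidHom = W R)
  (hloc : ∀ (L : Type u) [Group L] [Finite L] (P : Sylow p L) (D : Subgroup L),
    Cfsg.IsStronglyClosed D (P : Subgroup L) →
    HasNormalPComplement p ↥(Subgroup.normalizer ((WT W D : Subgroup L) : Set L)) →
    HasNormalPComplement p L)

variable {Ω : Type u} [Group Ω] {S : Subgroup Ω}

include hW2 hloc in
/-- the constrained case -/
theorem eq_inner_of_centric [Finite S] (hS : IsPGroup p S) (F : FusionSystem S)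
    (hF : F.IsSaturated p) {D : Subgroup Ω} (hD : F.StronglyClosed D) (hin : NIn F (WT W D))
    {Q : Subgroup Ω} (hQ : F.IsNormal Q) (hQc : centralizerIn S Q ≤ Q) :
    F = innerFusionSystem S := by
  have hQS : Q ≤ S := hQ.1
  have hfinQ : Finite ↥Q := finite_of_le hQS
  have hQsc := stronglyClosed_of_isNormal F hQ
  have hSQ : S ≤ Subgroup.normalizer (Q : Set Ω) := le_normalizer_of_stronglyClosed F hQsc
  have hQfn : F.IsFullyNormalized Q :=
    Cfsg.Agent.Lib.Helper7.MaxClass.isFullyNormalized_of_normalizer F hQS hSQ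
  have hQcen : F.IsCentric Q := by
    refine ⟨hQS, fun Q' hQ' => ?_⟩
    have hcard := card_eq_of_isConj F hQ'
    obtain ⟨ψ, hψ, hr⟩ := hQ'
    have hle : Q' ≤ Q := by
      rw [← hr]
      rintro _ ⟨x, rfl⟩
      exact hQsc.2 Q le_rfl ψ hψ x
    have heq : Q' = Q := Subgroup.eq_of_le_of_card_ge hle (le_of_eq hcard)
    rw [heq]
    exact hQc
  have hTeq : normalizerIn S Q = S := inf_eq_left.mpr hSQ
  have hTS : normalizerIn S Q ≤ S := inf_le_left
  have hfinT : Finite ↥(normalizerIn S Q) := finite_of_le hTS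
  have hT : IsPGroup p ↥(normalizerIn S Q) := hS.to_le hTS
  obtain ⟨N, hN⟩ := exists_normalizerSystem F Q hQS
  have hNc := normalizerSystem_isConstrained p hS F hF Q hQfn hQcen N hN
  obtain ⟨L, instL, ι, hM⟩ := ModelEx.exists_model p hT N hNc
  obtain ⟨hfinL, ⟨hinj, hreal⟩, ⟨Sy, hSy⟩, hcent⟩ := hM
  have hNF : ∀ (P : Subgroup Ω) (φ : P →* Ω), φ ∈ N.Hom P → φ ∈ F.Hom P := by
    intro P φ h
    rw [hN P] at h
    exact h.1
  have hFN : ∀ (P : Subgroup Ω) (φ : P →* Ω), φ ∈ F.Hom P → φ ∈ N.Hom P := by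
    intro P φ h
    rw [hN P]
    exact mem_normalizerHom_of_isNormal F hQ h
  by_cases hLn : HasNormalPComplement p L
  · -- a p-nilpotent model
    obtain ⟨K, hKn, hKc, k, hk⟩ := exists_normal_of_hasNormalPComplement hLn
    apply eq_innerFusionSystem_of_isPGroup p hS F hF
    intro P hP
    by_contra hnot
    have hfinP : Finite ↥P := finite_of_le hP
    obtain ⟨α, hα, hne, hord⟩ := np_of_not_isPGroup F p hnot
    have hPT : P ≤ normalizerIn S Q := hP.trans hTeq.ge
    have hφαN : P.subtype.comp α.toMonoidHom ∈ N.Hom P :=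
      hFN _ _ ((mem_autGroup_iff F hP α).mp hα)
    have hφαT : ∀ x : P, (P.subtype.comp α.toMonoidHom) x ∈ normalizerIn S Q :=
      fun x => hPT (α x).2
    obtain ⟨g₀, hg₀⟩ := (hreal P hPT _ hφαT).mp hφαN
    have hpow : ∀ (k : ℕ) (x : P), ι ⟨(((α ^ k) x : P) : Ω), hPT ((α ^ k) x).2⟩ =
        g₀ ^ k * ι ⟨x, hPT x.2⟩ * (g₀ ^ k)⁻¹ := by
      intro k
      induction k with
      | zero => intro x; simp
      | succ k ih =>
        intro x
        have h1 : (α ^ (k + 1)) x = α ((α ^ k) x) := by rw [pow_succ']; rfl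
        have h2 : ι ⟨(((α ^ (k + 1)) x : P) : Ω), hPT ((α ^ (k + 1)) x).2⟩ =
            ι ⟨(P.subtype.comp α.toMonoidHom) ((α ^ k) x), hφαT _⟩ := by
          congr 1
          apply Subtype.ext
          show (((α ^ (k + 1)) x : P) : Ω) = ((α ((α ^ k) x) : P) : Ω)
          rw [h1]
        rw [h2, hg₀, ih x, pow_succ']
        group
    have hg₀N : g₀ ∈ Subgroup.normalizer ((imQ ι P : Subgroup L) : Set L) := by
      apply mem_normalizer_of_conj_mem_finite
      intro y hy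
      obtain ⟨x, rfl⟩ := (mem_imQ_iff ι hPT y).mp hy
      rw [← hg₀ x]
      exact (mem_imQ_iff ι hPT _).mpr ⟨α x, rfl⟩
    obtain ⟨a, ha⟩ := exists_pow_coprime p g₀
    have hcen := centralizes_of_normal K hKc hk (imQ ι P) (imQ_isPGroup p hT ι P) (g₀ ^ p ^ a)
      (Subgroup.pow_mem _ hg₀N _) ha
    apply hne
    apply eq_one_of_coprime_of_pow hord (a := a)
    ext x
    have h1 := hpow (p ^ a) x
    have h2 : g₀ ^ p ^ a * ι ⟨x, hPT x.2⟩ * (g₀ ^ p ^ a)⁻¹ = ι ⟨x, hPT x.2⟩ := by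
      have := (Subgroup.mem_centralizer_iff.mp hcen) _ ((mem_imQ_iff ι hPT _).mpr ⟨x, rfl⟩)
      rw [← this, mul_inv_cancel_right]
    rw [h2] at h1
    have h3 := congrArg Subtype.val (hinj h1)
    exact h3
  · -- the model is not p-nilpotent: contradiction
    exfalso
    have hDT : D ≤ normalizerIn S Q := hD.1.trans hTeq.ge
    have hfinD : Finite ↥D := finite_of_le hD.1
    have hDp : IsPGroup p ↥D := hS.to_le hD.1
    have hDLsc : Cfsg.IsStronglyClosed (imQ ι D) (Sy : Subgroup L) := by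
      rw [hSy]
      exact isStronglyClosed_imQ F N hNF ι hinj hreal hD hDT
    have hN1 : ¬ HasNormalPComplement p
        ↥(Subgroup.normalizer ((WT W (imQ ι D) : Subgroup L) : Set L)) :=
      fun h => hLn (hloc L Sy (imQ ι D) hDLsc h)
    have hWL : WT W (imQ ι D) = imQ ι (WT W D) := WT_imQ W hW2 ι hinj hDT hDp
    have hVT : WT W D ≤ normalizerIn S Q := (WT_le W D).trans hDT
    have hDLp : IsPGroup p ↥(imQ ι D) := imQ_isPGroup p hT ι D
    have hSyN : (Sy : Subgroup L) ≤ Subgroup.normalizer ((WT W (imQ ι D) : Subgroup L) : Set L) := by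
      refine le_trans ?_ (normalizer_le_normalizer_WT W hW2 (imQ ι D) hDLp)
      intro g hg
      apply mem_normalizer_of_conj_mem_finite
      intro x hx
      exact hDLsc.2 x hx g ((Sy : Subgroup L).mul_mem ((Sy : Subgroup L).mul_mem hg (hDLsc.1 hx))
        ((Sy : Subgroup L).inv_mem hg))
    obtain ⟨Q', g', hQ', hg'H, hg'N, hg'p, hg'c⟩ := exists_p'_not_centralizing Sy _ hSyN hN1
    -- enlarge Q' to contain W
    have hVLSy : WT W (imQ ι D) ≤ (Sy : Subgroup L) := (WT_le W _).trans hDLsc.1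
    have hQ''Sy : Q' ⊔ WT W (imQ ι D) ≤ (Sy : Subgroup L) := sup_le hQ' hVLSy
    have hg'N'' : g' ∈ Subgroup.normalizer ((Q' ⊔ WT W (imQ ι D) : Subgroup L) : Set L) := by
      apply mem_normalizer_of_conj_mem_finite
      intro x hx
      have hK : Q' ⊔ WT W (imQ ι D) ≤
          (Q' ⊔ WT W (imQ ι D)).comap (MulAut.conj g').toMonoidHom := by
        apply sup_le
        · intro y hy
          show g' * y * g'⁻¹ ∈ Q' ⊔ WT W (imQ ι D)
          exact Subgroup.mem_sup_left ((Subgroup.mem_normalizer_iff.mp hg'N y).mp hy)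
        · intro y hy
          show g' * y * g'⁻¹ ∈ Q' ⊔ WT W (imQ ι D)
          exact Subgroup.mem_sup_right ((Subgroup.mem_normalizer_iff.mp hg'H y).mp hy)
      exact hK hx
    have hg'c'' : g' ∉ Subgroup.centralizer ((Q' ⊔ WT W (imQ ι D) : Subgroup L) : Set L) :=
      fun h => hg'c (Subgroup.centralizer_le
        (show (Q' : Set L) ⊆ ((Q' ⊔ WT W (imQ ι D) : Subgroup L) : Set L) from
          fun x hx => Subgroup.mem_sup_left hx) h)
    -- pull back to S
    obtain ⟨X, hXdef⟩ : ∃ X : Subgroup Ω,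
        X = ((Q' ⊔ WT W (imQ ι D)).comap ι).map (normalizerIn S Q).subtype := ⟨_, rfl⟩
    have hXmem : ∀ z : Ω, z ∈ X ↔ ∃ x : ↥(normalizerIn S Q),
        ι x ∈ Q' ⊔ WT W (imQ ι D) ∧ (x : Ω) = z := by
      intro z
      rw [hXdef]
      constructor
      · rintro ⟨x, hx, rfl⟩
        exact ⟨x, hx, rfl⟩
      · rintro ⟨x, hx, rfl⟩
        exact ⟨x, hx, rfl⟩
    have hXT : X ≤ normalizerIn S Q := by
      intro z hz
      obtain ⟨x, -, rfl⟩ := (hXmem z).mp hz
      exact x.2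
    have himX : imQ ι X = Q' ⊔ WT W (imQ ι D) := by
      ext y
      rw [mem_imQ_iff ι hXT]
      constructor
      · rintro ⟨q, rfl⟩
        obtain ⟨x, hx, hxq⟩ := (hXmem _).mp q.2
        have h1 : (⟨(q : Ω), hXT q.2⟩ : ↥(normalizerIn S Q)) = x := Subtype.ext hxq.symm
        rw [h1]
        exact hx
      · intro hy
        have hyr : y ∈ ι.range := hSy ▸ hQ''Sy hy
        obtain ⟨x, rfl⟩ := hyr
        have hxX : (x : Ω) ∈ X := (hXmem _).mpr ⟨x, hy, rfl⟩
        exact ⟨⟨x, hxX⟩, rfl⟩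
    have hVX : WT W D ≤ X := by
      intro v hv
      have h1 : ι ⟨v, hVT hv⟩ ∈ imQ ι (WT W D) := (mem_imQ_iff ι hVT _).mpr ⟨⟨v, hv⟩, rfl⟩
      rw [← hWL] at h1
      exact (hXmem _).mpr ⟨⟨v, hVT hv⟩, Subgroup.mem_sup_right h1, rfl⟩
    rw [← himX] at hg'N'' hg'c''
    obtain ⟨β, hβ, hβk⟩ := aut_of_conj F hTS N hNF ι hinj hreal hXT g' hg'N''
    have hβne : β ≠ 1 := by
      intro h1
      apply hg'c''
      rw [Subgroup.mem_centralizer_iff]
      intro y hy
      obtain ⟨v, rfl⟩ := (mem_imQ_iff ι hXT y).mp hy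
      have h2 := hβk 1 v
      rw [h1] at h2
      simp only [pow_one, MulAut.one_apply] at h2
      calc ι ⟨v, hXT v.2⟩ * g' = (g' * ι ⟨v, hXT v.2⟩ * g'⁻¹) * g' := by rw [← h2]
        _ = g' * ι ⟨v, hXT v.2⟩ := by group
    have hβord : (orderOf β).Coprime p := by
      have h1 : β ^ orderOf g' = 1 := by
        ext v
        have h2 := hβk (orderOf g') v
        rw [pow_orderOf_eq_one] at h2
        simp only [one_mul, inv_one, mul_one] at h2
        have h3 := congrArg Subtype.val (hinj h2)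
        exact h3
      exact Nat.Coprime.coprime_dvd_left (orderOf_dvd_of_pow_eq_one h1) hg'p
    have hβV : ∀ x : X, (x : Ω) ∈ WT W D → ((β x : X) : Ω) ∈ WT W D := by
      intro x hx
      have h2 := hβk 1 x
      simp only [pow_one] at h2
      have h3 : ι ⟨x, hXT x.2⟩ ∈ WT W (imQ ι D) := by
        rw [hWL]
        exact (mem_imQ_iff ι hVT _).mpr ⟨⟨x, hx⟩, rfl⟩
      have h4 : g' * ι ⟨x, hXT x.2⟩ * g'⁻¹ ∈ WT W (imQ ι D) :=
        (Subgroup.mem_normalizer_iff.mp hg'H _).mp h3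
      rw [← h2, hWL] at h4
      obtain ⟨v, hv⟩ := (mem_imQ_iff ι hVT _).mp h4
      have h5 := congrArg Subtype.val (hinj hv)
      simp only at h5
      rw [h5]
      exact v.2
    have hSV : S ≤ Subgroup.normalizer ((WT W D : Subgroup Ω) : Set Ω) :=
      (le_normalizer_of_stronglyClosed F hD).trans (normalizer_le_normalizer_WT W hW2 D hDp)
    have hXN : X ≤ normalizerIn S (WT W D) := fun x hx => ⟨hTS (hXT hx), hSV (hTS (hXT hx))⟩
    obtain ⟨s, hs, hsβ⟩ := hin X _ (aut_mem_normalizerHom F hVX hXN β hβ hβV)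
    exact hβne (eq_one_of_inner_coprime hS β hβord hs hsβ)

end Cfsg.Agent.Lib.Helper7.GTF
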