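import Mathlib
import Cfsg.Prelude.Def_FusionSystem
import Cfsg.Prelude.Def_FusionReduction
import Cfsg.Prelude.Def_FusionComponents
import Cfsg.Agent.Lib.Helper7.GTFh
import Cfsg.Agent.Lib.Helper7.FusionCore

set_option autoImplicit false

namespace Cfsg.Agent.Lib.Helper7.GTF

open Cfsg Cfsg.FusionSystem Cfsg.Agent.Lib.Helper7 Cfsg.Agent.Lib.Helper7.WCtl
  Cfsg.Agent.Lib.Helper7.TNP Cfsg.Agent.Lib.Helper7.ModelUq
  Cfsg.Agent.Lib.Lead.NormalPComplement

universe u

variable {p : ℕ} [Fact p.Prime] (W : ∀ (Q : Type u) [Group Q], Subgroup Q)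
  (hW1 : ∀ (Q : Type u) [Group Q] [Finite Q], IsPGroup p Q → Nontrivial Q → W Q ≠ ⊥)
  (hW2 : ∀ (Q R : Type u) [Group Q] [Group R] [Finite Q], IsPGroup p Q → ∀ φ : Q ≃* R,
    (W Q).map φ.toMonoidHom = W R)
  (hloc : ∀ (L : Type u) [Group L] [Finite L] (P : Sylow p L) (D : Subgroup L),
    Cfsg.IsStronglyClosed D (P : Subgroup L) →
    HasNormalPComplement p ↥(Subgroup.normalizer ((WT W D : Subgroup L) : Set L)) →
    HasNormalPComplement p L)

include hW1 hW2 hloc in
/-- the Glauberman–Thompson type theorem for fusion systems, by induction -/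
theorem gtf_aux : ∀ n m : ℕ, ∀ (Ω : Type u) [Group Ω] (S : Subgroup Ω) [Finite S]
    (F : FusionSystem S) (D : Subgroup Ω),
    Nat.card S = n → mu F = m → IsPGroup p S → Thm p W F D := by
  intro n
  induction n using Nat.strong_induction_on with
  | _ n ihn =>
  intro m
  induction m using Nat.strong_induction_on with
  | _ m ihm =>
  intro Ω _ S _ F D hn hm hS hF hD hin
  by_contra hni
  have ih1 : ∀ (Ω' : Type u) [Group Ω'] (S' : Subgroup Ω') [Finite S'] (F' : FusionSystem S')
      (D' : Subgroup Ω'), Nat.card S' < Nat.card S → IsPGroup p S' → Thm p W F' D' :=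
    fun Ω' _ S' _ F' D' hlt hS' => ihn (Nat.card S') (hn ▸ hlt) (mu F') Ω' S' F' D' rfl rfl hS'
  have ih2 : ∀ (T : Subgroup Ω) [Finite T] (N : FusionSystem T) (D' : Subgroup Ω),
      Nat.card T = Nat.card S → mu N < mu F → IsPGroup p T → Thm p W N D' :=
    fun T _ N D' hc hmu hT => ihm (mu N) (hm ▸ hmu) Ω T N D' (hc.trans hn) rfl hT
  have hDne : D ≠ ⊥ := by
    intro hb
    apply hni
    have hV : WT W D = ⊥ := by
      have h1 := WT_le W D
      rw [hb] at h1 ⊢
      exact eq_bot_iff.mpr h1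
    rw [hV] at hin
    exact eq_inner_of_isNormal_of_NIn F (isNormal_bot F) hin
  have hex : ∃ P, P ≤ S ∧ NP F p P := by
    by_contra hcon
    apply hni
    apply eq_innerFusionSystem_of_isPGroup p hS F hF
    intro P hP
    by_contra hnot
    have hfinP : Finite ↥P := finite_of_le hP
    exact hcon ⟨P, hP, np_of_not_isPGroup F p hnot⟩
  obtain ⟨P, hPS, α, hα, hne, hord⟩ := hex
  have hPne : P ≠ ⊥ := by
    intro hb
    apply hne
    have hall : ∀ y : ↥P, y = 1 := by
      intro y
      have hy : (y : Ω) ∈ (⊥ : Subgroup Ω) := hb ▸ y.2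
      exact Subtype.ext (Subgroup.mem_bot.mp hy)
    ext x
    rw [hall x, map_one]
    rfl
  have hnpnP : NPN F p P :=
    ⟨P, α, le_rfl, le_inf hPS Subgroup.le_normalizer, hα, hne, hord, fun x _ => (α x).2⟩
  obtain ⟨Q₀, hQ₀S, hQ₀ne, hnpnQ₀, hSQ₀⟩ := exists_npn_normal W hW1 hW2 hS F hF hD hDne
    (fun T _ N D' hlt hT => ih1 Ω T N D' hlt hT) _ P hPS hPne hnpnP rfl
  have hQ₀n : F.IsNormal Q₀ := by
    by_contra hnn
    exact not_NIn_of_NPN hS F hnpnQ₀ (NIn_of_not_isNormal W hS F hF hD hin ih2 hQ₀S hSQ₀ hnn)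
  -- the largest normal subgroup
  have hQ : F.IsNormal F.core := isNormal_core F
  have hQS : F.core ≤ S := hQ.1
  have hfinQ : Finite ↥F.core := finite_of_le hQS
  have hQmax : ∀ R : Subgroup Ω, F.IsNormal R → Nat.card R ≤ Nat.card F.core :=
    fun R hR => Subgroup.card_le_of_le (le_sSup hR)
  have hQne : F.core ≠ ⊥ := by
    intro hb
    apply hQ₀ne
    have h1 : Q₀ ≤ F.core := le_sSup hQ₀n
    rw [hb] at h1
    exact eq_bot_iff.mpr h1
  have hmod := innerMod_of_normal W hW1 hW2 hS F hF hD hin hni ih1 ih2 hQ hQne hQmax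
  by_cases hc : centralizerIn S F.core ≤ F.core
  · exact hni (eq_inner_of_centric W hW2 hloc hS F hF hD hin hQ hc)
  · have hR₀S : F.core ⊔ centralizerIn S F.core ≤ S := sup_le hQS inf_le_left
    have hR₀n : ¬ F.IsNormal (F.core ⊔ centralizerIn S F.core) := by
      intro h
      apply hc
      have h1 : F.core ⊔ centralizerIn S F.core ≤ F.core := le_sSup h
      exact le_sup_right.trans h1
    have hSQ : S ≤ Subgroup.normalizer ((F.core : Subgroup Ω) : Set Ω) :=
      le_normalizer_of_stronglyClosed F (stronglyClosed_of_isNormal F hQ)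
    have hSR₀ : S ≤ Subgroup.normalizer ((F.core ⊔ centralizerIn S F.core : Subgroup Ω) : Set Ω) := by
      intro g hg
      have h1 : g ∈ normalizerIn S F.core := ⟨hg, hSQ hg⟩
      exact (normalizerIn_le_sup_centralizerIn (S := S) hQS h1).2
    have hR₀in := NIn_of_not_isNormal W hS F hF hD hin ih2 hR₀S hSR₀ hR₀n
    exact hni (eq_inner_of_innerMod p hS F hF hQ hmod hR₀in)

include hW1 hW2 hloc in
/-- **Glauberman–Thompson type theorem for fusion systems**: if `N_F(W(D))` is inner for a strongly closed `D`, then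
`F` is inner -/
theorem gtf {Ω : Type u} [Group Ω] {S : Subgroup Ω} [Finite S] (hS : IsPGroup p S)
    (F : FusionSystem S) (hF : F.IsSaturated p) {D : Subgroup Ω} (hD : F.StronglyClosed D)
    (hin : NIn F (WT W D)) : F = innerFusionSystem S :=
  gtf_aux W hW1 hW2 hloc _ _ Ω S F D rfl rfl hS hF hD hin

end Cfsg.Agent.Lib.Helper7.GTF
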