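import Mathlib
import Cfsg.Prelude.Def_FusionSystem
import Cfsg.Prelude.Def_FusionReduction
import Cfsg.Prelude.Def_FusionComponents
import Cfsg.Agent.Lib.Helper7.GTFi
import Cfsg.Agent.Lib.Lead.ZJFunctor
import Cfsg.Agent.S0659

set_option autoImplicit false

namespace Cfsg.Agent.Lib.Helper7.GTF

open Cfsg Cfsg.FusionSystem Cfsg.Agent.Lib.Helper7 Cfsg.Agent.Lib.Helper7.WCtl
  Cfsg.Agent.Lib.Helper7.TNP Cfsg.Agent.Lib.Lead.ZJFunctor

universe u

variable {p : ℕ} [Fact p.Prime]

theorem WT_zjA {Ω : Type u} [Group Ω] (D : Subgroup Ω) : WT zjA D = Cfsg.centerThompsonAOf D :=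
  induced_zjA D

theorem hloc_zjA (hp : p ≠ 2) : ∀ (L : Type u) [Group L] [Finite L] (P : Sylow p L) (D : Subgroup L),
    Cfsg.IsStronglyClosed D (P : Subgroup L) →
    HasNormalPComplement p ↥(Subgroup.normalizer ((WT zjA D : Subgroup L) : Set L)) →
    HasNormalPComplement p L := by
  intro L _ _ P D hD hN
  rw [WT_zjA, Cfsg.Agent.S0653.center_eq_zj] at hN
  exact Cfsg.Agent.Lib.Helper4.GT.gt_main hp (Cfsg.Agent.Lib.Helper4.GTZJ.pFunctor_WAb hp) L P D hD hN

variable {Ω : Type u} [Group Ω] {S : Subgroup Ω}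

/-- the Glauberman–Thompson criterion for fusion systems relative to a strongly closed subgroup -/
theorem gt_fusion_iff (hp : p ≠ 2) [Finite S] (hS : IsPGroup p S) (F : FusionSystem S)
    (hF : F.IsSaturated p) {D : Subgroup Ω} (hD : F.StronglyClosed D) :
    (∀ P : Subgroup Ω, F.Hom P = (innerFusionSystem S).Hom P) ↔
      ∀ N : FusionSystem (normalizerIn S (Cfsg.centerThompsonAOf D)),
        F.IsNormalizerSystem (Cfsg.centerThompsonAOf D) N →
        ∀ P : Subgroup Ω, N.Hom P =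
          (innerFusionSystem (normalizerIn S (Cfsg.centerThompsonAOf D))).Hom P := by
  have hW1 : ∀ (Q : Type u) [Group Q] [Finite Q], IsPGroup p Q → Nontrivial Q → zjA Q ≠ ⊥ :=
    fun Q _ _ hQ hnt => (isCharPFunctor_zjA p).1 Q hQ hnt
  have hW2 : ∀ (Q R : Type u) [Group Q] [Group R] [Finite Q], IsPGroup p Q → ∀ φ : Q ≃* R,
      (zjA Q).map φ.toMonoidHom = zjA R := fun Q R _ _ _ _ φ => zjA_map φ
  have hfinD : Finite ↥D := finite_of_le hD.1
  have hDp : IsPGroup p ↥D := hS.to_le hD.1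
  have hSV : S ≤ Subgroup.normalizer ((Cfsg.centerThompsonAOf D : Subgroup Ω) : Set Ω) := by
    rw [← WT_zjA]
    exact (le_normalizer_of_stronglyClosed F hD).trans (normalizer_le_normalizer_WT zjA hW2 D hDp)
  constructor
  · intro hinner N hN
    have h1 : N = innerFusionSystem (normalizerIn S (Cfsg.centerThompsonAOf D)) := by
      apply fusionSystem_le_antisymm _ (innerFusionSystem_le N)
      intro P φ hφ
      rw [hN P] at hφ
      have h2 := hφ.1
      rw [hinner P] at h2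
      obtain ⟨-, g, hg, hgφ⟩ := h2
      exact ⟨hφ.2.1, g, ⟨hg, hSV hg⟩, hgφ⟩
    intro P
    rw [h1]
  · intro h
    obtain ⟨N, hN⟩ := exists_normalizerSystem F (Cfsg.centerThompsonAOf D)
      (by rw [← WT_zjA]; exact (WT_le zjA D).trans hD.1)
    have hNinner := h N hN
    have hin : NIn F (WT zjA D) := by
      rw [WT_zjA]
      intro X φ hφ
      have h1 : φ ∈ N.Hom X := by rw [hN X]; exact hφ
      rw [hNinner X] at h1
      obtain ⟨-, g, hg, hgφ⟩ := h1
      exact ⟨g, hg.1, hgφ⟩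
    have := gtf zjA hW1 hW2 (hloc_zjA hp) hS F hF hD hin
    intro P
    rw [this]

end Cfsg.Agent.Lib.Helper7.GTF
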