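import Mathlib
import Cfsg.Prelude.Def_FusionSystem
import Cfsg.Prelude.Def_FusionReduction
import Cfsg.Prelude.Def_FusionComponents
import Cfsg.Agent.Lib.Helper7.AxGTd
import Cfsg.Agent.Lib.Helper7.GTFj

/-!
# The axiomatic Glauberman–Thompson criterion for fusion systems: reduction steps
-/

set_option autoImplicit false
set_option linter.unusedVariables false
set_option linter.unusedSectionVars false
open scoped commutatorElement

namespace Cfsg.Agent.Lib.Helper7.AxGT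

open Cfsg Cfsg.FusionSystem Cfsg.Agent.Lib.Helper7 Cfsg.Agent.Lib.Helper7.WCtl
  Cfsg.Agent.Lib.Helper7.TNP Cfsg.Agent.Lib.Helper7.GTF Cfsg.Agent.Lib.Lead.ZJFunctor

universe u

variable {Ω : Type u} [Group Ω]

/-- the invariance hypothesis on the family, for the system `N` over `T` -/
def HInv {T : Subgroup Ω} (N : FusionSystem T) (𝒜 : Set (Subgroup Ω)) : Prop :=
  ∀ Q : Subgroup Ω, Q ≤ T → (∃ A ∈ 𝒜, A ≤ Q) → ∀ α ∈ N.autGroup Q, ∀ x : Q,
    (x : Ω) ∈ IOf 𝒜 Q → ((α x : Q) : Ω) ∈ IOf 𝒜 Q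

section basic
variable {S : Subgroup Ω} {𝒜 : Set (Subgroup Ω)}

theorem IOf_le_top (hf : FamΩ S 𝒜) (Q : Subgroup Ω) (hne : ∃ A ∈ 𝒜, A ≤ Q) : IOf 𝒜 Q ≤ S := by
  obtain ⟨A, hA, hAQ⟩ := hne
  exact (IOf_le hA hAQ).trans (hf.le A hA)

theorem le_normalizer_IOf [Finite S] (F : FusionSystem S) (hf : FamΩ S 𝒜) (hinv : HInv F 𝒜) :
    S ≤ Subgroup.normalizer ((IOf 𝒜 S : Subgroup Ω) : Set Ω) := by
  obtain ⟨A, hA⟩ := hf.ne
  have hne : ∃ A ∈ 𝒜, A ≤ S := ⟨A, hA, hf.le A hA⟩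
  have hIS := IOf_le_top hf S hne
  have hfinI : Finite ↥(IOf 𝒜 S) := finite_of_le hIS
  intro s hs
  apply mem_normalizer_of_conj_mem_finite
  intro x hx
  have hα : (MulAut.conj (⟨s, hs⟩ : S)) ∈ F.autGroup S := by
    apply autInducedBy_le_autGroup F le_rfl
    rw [mem_autInducedBy_iff]
    exact ⟨s, hs, fun y => rfl⟩
  exact hinv S le_rfl hne _ hα ⟨x, hIS hx⟩ hx

theorem hinv_mono (F : FusionSystem S) {T : Subgroup Ω} (N : FusionSystem T) (hTS : T ≤ S)
    (hNF : ∀ (P : Subgroup Ω) (φ : P →* Ω), φ ∈ N.Hom P → φ ∈ F.Hom P) (hinv : HInv F 𝒜) :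
    HInv N 𝒜 := by
  intro Q hQ hne α hα x hx
  refine hinv Q (hQ.trans hTS) hne α ?_ x hx
  rw [mem_autGroup_iff N hQ] at hα
  rw [mem_autGroup_iff F (hQ.trans hTS)]
  exact hNF _ _ hα

theorem famΩ_of_eq {T : Subgroup Ω} (hf : FamΩ S 𝒜) (hTS : T = S) : FamΩ T 𝒜 := by
  subst hTS
  exact hf

theorem IOf_eq_of_eq {T : Subgroup Ω} (hTS : T = S) : IOf 𝒜 T = IOf 𝒜 S := by
  rw [hTS]

end basic

variable {p : ℕ} [Fact p.Prime] {S : Subgroup Ω} {𝒜 : Set (Subgroup Ω)}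

/-- the statement proved by induction -/
def AxThm (p : ℕ) (𝒜 : Set (Subgroup Ω)) {T : Subgroup Ω} (N : FusionSystem T) : Prop :=
  IsPGroup p T → FamΩ T 𝒜 → N.IsSaturated p → HInv N 𝒜 → NIn N (IOf 𝒜 T) →
    N = innerFusionSystem T

/-- the normalizer system of a subgroup normal in `S` but not in `F` is inner -/
theorem NIn_of_not_isNormal_ax [Finite S] (hS : IsPGroup p S) (F : FusionSystem S)
    (hF : F.IsSaturated p) (hf : FamΩ S 𝒜) (hinv : HInv F 𝒜) (hin : NIn F (IOf 𝒜 S))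
    (ih2 : ∀ (T : Subgroup Ω) [Finite T] (N : FusionSystem T), mu N < mu F → AxThm p 𝒜 N)
    {R : Subgroup Ω} (hRS : R ≤ S) (hSR : S ≤ Subgroup.normalizer (R : Set Ω))
    (hnn : ¬ F.IsNormal R) : NIn F R := by
  have hTeq : normalizerIn S R = S := inf_eq_left.mpr hSR
  have hTS : normalizerIn S R ≤ S := inf_le_left
  have hfinT : Finite ↥(normalizerIn S R) := finite_of_le hTS
  have hT : IsPGroup p ↥(normalizerIn S R) := hS.to_le hTS
  obtain ⟨N, hN⟩ := exists_normalizerSystem F R hRS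
  have hRfn : F.IsFullyNormalized R :=
    Cfsg.Agent.Lib.Helper7.MaxClass.isFullyNormalized_of_normalizer F hRS hSR
  have hNsat := normalizerSystem_isSaturated p hS F hF R hRfn N hN
  have hNF : ∀ (P : Subgroup Ω) (φ : P →* Ω), φ ∈ N.Hom P → φ ∈ F.Hom P := by
    intro P φ h
    rw [hN P] at h
    exact h.1
  have hex : ∃ (P : Subgroup Ω) (φ : P →* Ω), φ ∈ F.Hom P ∧ φ ∉ F.normalizerHom R P := by
    by_contra hcon
    apply hnn
    apply isNormal_of_forall_mem F hRS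
    intro P φ hφ
    by_contra h1
    exact hcon ⟨P, φ, hφ, h1⟩
  obtain ⟨P, φ, hφ, hφn⟩ := hex
  have hmu : mu N < mu F := mu_lt F N hNF hφ (by rw [hN P]; exact hφn)
  have hNin : NIn N (IOf 𝒜 (normalizerIn S R)) := by
    rw [IOf_eq_of_eq hTeq]
    intro X ψ hψ
    obtain ⟨s, hs, hsψ⟩ := hin X ψ (normalizerHom_mono F N hTS hNF hψ)
    exact ⟨s, hTeq.ge hs, hsψ⟩
  have hinner := ih2 _ N hmu hT (famΩ_of_eq hf hTeq) hNsat (hinv_mono F N hTS hNF hinv) hNin
  intro X ψ hψ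
  have h1 : ψ ∈ N.Hom X := by rw [hN X]; exact hψ
  rw [hinner] at h1
  obtain ⟨-, s, hs, hsψ⟩ := h1
  exact ⟨s, hTS hs, hsψ⟩

/-- if `S` is normal in `F` then `I(S)` is normal in `F` -/
theorem isNormal_IOf_of_isNormal_top [Finite S] (hS : IsPGroup p S) (F : FusionSystem S)
    (hF : F.IsSaturated p) (hf : FamΩ S 𝒜) (hinv : HInv F 𝒜) (hSn : F.IsNormal S) :
    F.IsNormal (IOf 𝒜 S) := by
  obtain ⟨A, hA⟩ := hf.ne
  have hne : ∃ A ∈ 𝒜, A ≤ S := ⟨A, hA, hf.le A hA⟩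
  have hIS := IOf_le_top hf S hne
  rw [isNormal_iff_stronglyClosed_le_centric_radical p hS F hF]
  refine ⟨⟨hIS, fun R hR φ hφ x => ?_⟩, fun P hc hr => hIS.trans ?_⟩
  · obtain ⟨α, hα, hαφ⟩ := (isNormal_iff_extend p hS F hF S le_rfl).mp hSn R (hR.trans hIS) φ hφ
    rw [← hαφ x]
    exact hinv S le_rfl hne α hα _ (hR x.2)
  · exact ((isNormal_iff_stronglyClosed_le_centric_radical p hS F hF S).mp hSn).2 P hc hr

/-- the quotient step: modulo its largest normal subgroup, a minimal counterexample is inner -/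
theorem innerMod_ax (hp2 : p ≠ 2) [Finite S] (hS : IsPGroup p S) (F : FusionSystem S)
    (hF : F.IsSaturated p) (hf : FamΩ S 𝒜) (hinv : HInv F 𝒜) (hin : NIn F (IOf 𝒜 S))
    (hni : F ≠ innerFusionSystem S)
    (ih2 : ∀ (T : Subgroup Ω) [Finite T] (N : FusionSystem T), mu N < mu F → AxThm p 𝒜 N)
    {Q : Subgroup Ω} (hQ : F.IsNormal Q)
    (hmax : ∀ R : Subgroup Ω, F.IsNormal R → Nat.card R ≤ Nat.card Q) : InnerMod F Q := by
  have hW1 : ∀ (Q : Type u) [Group Q] [Finite Q], IsPGroup p Q → Nontrivial Q → zjA Q ≠ ⊥ :=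
    fun Q _ _ hQ hnt => (isCharPFunctor_zjA p).1 Q hQ hnt
  have hW2 : ∀ (Q R : Type u) [Group Q] [Group R] [Finite Q], IsPGroup p Q → ∀ φ : Q ≃* R,
      (zjA Q).map φ.toMonoidHom = zjA R := fun Q R _ _ _ _ φ => zjA_map φ
  have hD : F.StronglyClosed S := ⟨le_rfl, fun R _ φ hφ x => (F.le_of_mem hφ).2 x⟩
  have hQsc := stronglyClosed_of_isNormal F hQ
  have hQS : Q ≤ S := hQ.1
  have hfinQ : Finite ↥Q := finite_of_le hQS
  have hSQ : S ≤ Subgroup.normalizer (Q : Set Ω) := le_normalizer_of_stronglyClosed F hQsc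
  have hQn : (Q.subgroupOf S).Normal :=
    (Subgroup.normal_subgroupOf_iff_le_normalizer hQS).mpr hSQ
  obtain ⟨E, hE⟩ := exists_factorSystem_quotient F Q hQsc
  have hker := hE.2.1
  have hrange := hE.2.2.1
  have hS' : IsPGroup p ↥(⊤ : Subgroup (↥S ⧸ Q.subgroupOf S)) :=
    (hS.to_quotient (Q.subgroupOf S)).to_subgroup _
  have hEsat := isSaturated_of_isFactorSystem p hS F hF Q hQsc _ E hE
  have hD' := stronglyClosed_image F Q _ E hE hD
  have hD'p : IsPGroup p ↥(imageAlong (QuotientGroup.mk' (Q.subgroupOf S)) S) := hS'.to_le hD'.1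
  have hV'n : (⊤ : Subgroup (↥S ⧸ Q.subgroupOf S)) ≤ Subgroup.normalizer
      ((WT zjA (imageAlong (QuotientGroup.mk' (Q.subgroupOf S)) S) :
        Subgroup (↥S ⧸ Q.subgroupOf S)) : Set (↥S ⧸ Q.subgroupOf S)) :=
    (le_normalizer_of_stronglyClosed E hD').trans (normalizer_le_normalizer_WT zjA hW2 _ hD'p)
  have hRS : preimageAlong (QuotientGroup.mk' (Q.subgroupOf S))
      (WT zjA (imageAlong (QuotientGroup.mk' (Q.subgroupOf S)) S)) ≤ S := preimageAlong_le _ _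
  have hSR : S ≤ Subgroup.normalizer ((preimageAlong (QuotientGroup.mk' (Q.subgroupOf S))
      (WT zjA (imageAlong (QuotientGroup.mk' (Q.subgroupOf S)) S)) : Subgroup Ω) : Set Ω) :=
    fun y hy => mem_normalizer_preimage _ hy (hV'n (Subgroup.mem_top _))
  have hEin : NIn E (WT zjA (imageAlong (QuotientGroup.mk' (Q.subgroupOf S)) S)) := by
    by_cases hRn : F.IsNormal (preimageAlong (QuotientGroup.mk' (Q.subgroupOf S))
        (WT zjA (imageAlong (QuotientGroup.mk' (Q.subgroupOf S)) S)))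
    · exfalso
      apply hni
      have hQR : Q ≤ preimageAlong (QuotientGroup.mk' (Q.subgroupOf S))
          (WT zjA (imageAlong (QuotientGroup.mk' (Q.subgroupOf S)) S)) := by
        intro q hq
        rw [mem_preimageAlong]
        refine ⟨hQS hq, ?_⟩
        rw [(hker ⟨q, hQS hq⟩).mpr hq]
        exact Subgroup.one_mem _
      have hfinR : Finite ↥(preimageAlong (QuotientGroup.mk' (Q.subgroupOf S))
          (WT zjA (imageAlong (QuotientGroup.mk' (Q.subgroupOf S)) S))) := finite_of_le hRS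
      have hReq := Subgroup.eq_of_le_of_card_ge hQR (hmax _ hRn)
      have hV'bot : WT zjA (imageAlong (QuotientGroup.mk' (Q.subgroupOf S)) S) = ⊥ := by
        rw [eq_bot_iff]
        intro v hv
        obtain ⟨s, rfl⟩ := QuotientGroup.mk'_surjective (Q.subgroupOf S) v
        have h1 : (s : Ω) ∈ preimageAlong (QuotientGroup.mk' (Q.subgroupOf S))
            (WT zjA (imageAlong (QuotientGroup.mk' (Q.subgroupOf S)) S)) :=
          (mem_preimageAlong _ _ _).mpr ⟨s.2, hv⟩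
        rw [← hReq] at h1
        rw [Subgroup.mem_bot]
        exact (hker s).mpr h1
      have hD'bot : imageAlong (QuotientGroup.mk' (Q.subgroupOf S)) S = ⊥ := by
        by_contra hne
        exact WT_ne_bot zjA hW1 hD'p hne hV'bot
      have hDQ : S ≤ Q := by
        intro d hd
        have h1 : QuotientGroup.mk' (Q.subgroupOf S) ⟨d, hd⟩ ∈
            imageAlong (QuotientGroup.mk' (Q.subgroupOf S)) S :=
          (mem_imageAlong _ S _).mpr ⟨⟨d, hd⟩, hd, rfl⟩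
        rw [hD'bot, Subgroup.mem_bot] at h1
        exact (hker _).mp h1
      have hSn : F.IsNormal S := by
        have hQeq : Q = S := le_antisymm hQS hDQ
        have h2 := hQ
        rw [hQeq] at h2
        exact h2
      exact eq_inner_of_isNormal_of_NIn F (isNormal_IOf_of_isNormal_top hS F hF hf hinv hSn) hin
    · exact NIn_factor F Q _ E hE hSR
        (NIn_of_not_isNormal_ax hS F hF hf hinv hin ih2 hRS hSR hRn)
  have hEinner := gtf zjA hW1 hW2 (hloc_zjA hp2) hS' E hEsat hD' hEin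
  intro P φ hφ
  obtain ⟨⟨hθS', hmor⟩, -, -⟩ := factor_map_surjective_morphism p hS F hF Q hQsc _ E hE
  obtain ⟨φ', hφ', hP, hφS, hP', hind⟩ := hmor P φ hφ
  rw [hEinner] at hφ'
  obtain ⟨-, s', -, hs'φ⟩ := hφ'
  obtain ⟨s, rfl⟩ := QuotientGroup.mk'_surjective (Q.subgroupOf S) s'
  refine ⟨s, s.2, fun x => ?_⟩
  have h1 := hind x
  rw [hs'φ] at h1
  have hmem : (s * (x : Ω) * s⁻¹)⁻¹ * φ x ∈ S :=
    S.mul_mem (S.inv_mem (S.mul_mem (S.mul_mem s.2 (hP x.2)) (S.inv_mem s.2))) (hφS x)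
  have h2 : QuotientGroup.mk' (Q.subgroupOf S) ⟨(s * (x : Ω) * s⁻¹)⁻¹ * φ x, hmem⟩ = 1 := by
    have h3 : (⟨(s * (x : Ω) * s⁻¹)⁻¹ * φ x, hmem⟩ : ↥S) =
        (s * ⟨x, hP x.2⟩ * s⁻¹)⁻¹ * ⟨φ x, hφS x⟩ := rfl
    rw [h3, map_mul, map_inv, map_mul, map_mul, map_inv, ← h1]
    exact inv_mul_cancel _
  exact (hker _).mp h2

end Cfsg.Agent.Lib.Helper7.AxGT
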