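import Mathlib
import Cfsg.Prelude.Def_FusionSystem
import Cfsg.Prelude.Def_FusionReduction
import Cfsg.Prelude.Def_FusionComponents
import Cfsg.Agent.Lib.Helper7.AxGTe

/-!
# The axiomatic Glauberman–Thompson criterion for fusion systems: the constrained case and the induction
-/

set_option autoImplicit false
set_option linter.unusedVariables false
set_option linter.unusedSectionVars false
open scoped commutatorElement

namespace Cfsg.Agent.Lib.Helper7.AxGT

open Cfsg Cfsg.FusionSystem Cfsg.Agent.Lib.Helper7 Cfsg.Agent.Lib.Helper7.WCtl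
  Cfsg.Agent.Lib.Helper7.TNP Cfsg.Agent.Lib.Helper7.GTF Cfsg.Agent.Lib.Helper7.ModelUq
  Cfsg.Agent.Lib.Lead.NormalPComplement Cfsg.Agent.Lib.Helper4.PNil

universe u

section imq
variable {Ω : Type*} [Group Ω] {T : Subgroup Ω} {X : Type*} [Group X]

theorem imQ_sup (j : T →* X) {Q R : Subgroup Ω} (hQ : Q ≤ T) (hR : R ≤ T) :
    imQ j (Q ⊔ R) = imQ j Q ⊔ imQ j R := by
  unfold imQ
  rw [← Subgroup.map_sup]
  congr 1
  apply Subgroup.map_injective T.subtype_injective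
  rw [Subgroup.map_sup, Subgroup.map_subgroupOf_eq_of_le hQ, Subgroup.map_subgroupOf_eq_of_le hR,
    Subgroup.map_subgroupOf_eq_of_le (sup_le hQ hR)]

theorem mem_normalizer_sup [Finite X] {A B : Subgroup X} {g : X}
    (hA : g ∈ Subgroup.normalizer (A : Set X)) (hB : g ∈ Subgroup.normalizer (B : Set X)) :
    g ∈ Subgroup.normalizer ((A ⊔ B : Subgroup X) : Set X) := by
  apply mem_normalizer_of_conj_mem_finite
  intro x hx
  have hK : A ⊔ B ≤ (A ⊔ B).comap (MulAut.conj g).toMonoidHom := by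
    apply sup_le
    · intro y hy
      show g * y * g⁻¹ ∈ A ⊔ B
      exact Subgroup.mem_sup_left ((Subgroup.mem_normalizer_iff.mp hA y).mp hy)
    · intro y hy
      show g * y * g⁻¹ ∈ A ⊔ B
      exact Subgroup.mem_sup_right ((Subgroup.mem_normalizer_iff.mp hB y).mp hy)
  exact hK hx

end imq

variable {Ω : Type u} [Group Ω] {p : ℕ} [Fact p.Prime] {S : Subgroup Ω} {𝒜 : Set (Subgroup Ω)}

/-- the constrained case -/
theorem eq_inner_of_centric_ax (hp2 : p ≠ 2) [Finite S] (hS : IsPGroup p S) (F : FusionSystem S)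
    (hF : F.IsSaturated p) (hf : FamΩ S 𝒜) (hinv : HInv F 𝒜) (hin : NIn F (IOf 𝒜 S))
    {Q : Subgroup Ω} (hQ : F.IsNormal Q) (hQc : centralizerIn S Q ≤ Q) :
    F = innerFusionSystem S := by
  have hQS : Q ≤ S := hQ.1
  have hfinQ : Finite ↥Q := finite_of_le hQS
  have hQsc := stronglyClosed_of_isNormal F hQ
  have hSQ : S ≤ Subgroup.normalizer (Q : Set Ω) := le_normalizer_of_stronglyClosed F hQsc
  have hQfn : F.IsFullyNormalized Q :=
    Cfsg.Agent.Lib.Helper7.MaxClass.isFullyNormalized_of_normalizer F hQS hSQ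
  have hQcen : F.IsCentric Q := by
    refine ⟨hQS, fun Q' hQ' => ?_⟩
    have hcard := card_eq_of_isConj F hQ'
    obtain ⟨ψ, hψ, hr⟩ := hQ'
    have hle : Q' ≤ Q := by
      rw [← hr]
      rintro _ ⟨x, rfl⟩
      exact hQsc.2 Q le_rfl ψ hψ x
    have heq : Q' = Q := Subgroup.eq_of_le_of_card_ge hle (le_of_eq hcard)
    rw [heq]
    exact hQc
  have hTeq : normalizerIn S Q = S := inf_eq_left.mpr hSQ
  have hTS : normalizerIn S Q ≤ S := inf_le_left
  have hfinT : Finite ↥(normalizerIn S Q) := finite_of_le hTS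
  have hT : IsPGroup p ↥(normalizerIn S Q) := hS.to_le hTS
  obtain ⟨N, hN⟩ := exists_normalizerSystem F Q hQS
  have hNc := normalizerSystem_isConstrained p hS F hF Q hQfn hQcen N hN
  obtain ⟨L, instL, ι, hM⟩ := ModelEx.exists_model p hT N hNc
  obtain ⟨hfinL, ⟨hinj, hreal⟩, ⟨Sy, hSy⟩, hcent⟩ := hM
  have hNF : ∀ (P : Subgroup Ω) (φ : P →* Ω), φ ∈ N.Hom P → φ ∈ F.Hom P := by
    intro P φ h
    rw [hN P] at h
    exact h.1
  have hFN : ∀ (P : Subgroup Ω) (φ : P →* Ω), φ ∈ F.Hom P → φ ∈ N.Hom P := by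
    intro P φ h
    rw [hN P]
    exact mem_normalizerHom_of_isNormal F hQ h
  have hfT : FamΩ (normalizerIn S Q) 𝒜 := famΩ_of_eq hf hTeq
  have hIeq : IOf 𝒜 (normalizerIn S Q) = IOf 𝒜 S := IOf_eq_of_eq hTeq
  obtain ⟨A₀, hA₀⟩ := hf.ne
  have hneS : ∃ A ∈ 𝒜, A ≤ S := ⟨A₀, hA₀, hf.le A₀ hA₀⟩
  have hIS : IOf 𝒜 S ≤ S := IOf_le_top hf S hneS
  have hIT : IOf 𝒜 S ≤ normalizerIn S Q := hIS.trans hTeq.ge
  have hSI : S ≤ Subgroup.normalizer ((IOf 𝒜 S : Subgroup Ω) : Set Ω) := le_normalizer_IOf F hf hinv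
  -- the embedded hypotheses
  have hEmb : Emb p (normalizerIn S Q) 𝒜 L ι := by
    refine ⟨hinj, ⟨Sy, hSy⟩, hcent, ?_, ?_⟩
    · intro Q' hQ' hne g hg x hx
      obtain ⟨β, hβ, hβk⟩ := aut_of_conj F hTS N hNF ι hinj hreal hQ' g hg
      have hxQ : (x : Ω) ∈ Q' := by
        obtain ⟨A, hA, hAQ⟩ := hne
        exact hAQ (IOf_le hA hAQ hx)
      have h1 := hβk 1 ⟨x, hxQ⟩
      simp only [pow_one] at h1
      have h2 := hinv Q' (hQ'.trans hTS) hne β hβ ⟨x, hxQ⟩ hx
      refine ⟨⟨((β ⟨x, hxQ⟩ : Q') : Ω), hQ' (β ⟨x, hxQ⟩).2⟩, h2, ?_⟩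
      rw [h1]
    · intro Q' hQ' g hgI hgQ hgp
      rw [hIeq] at hgI
      have hXT : Q' ⊔ IOf 𝒜 S ≤ normalizerIn S Q := sup_le hQ' hIT
      have hgX : g ∈ Subgroup.normalizer ((imQ ι (Q' ⊔ IOf 𝒜 S) : Subgroup L) : Set L) := by
        rw [imQ_sup ι hQ' hIT]
        exact mem_normalizer_sup hgQ hgI
      obtain ⟨β, hβ, hβk⟩ := aut_of_conj F hTS N hNF ι hinj hreal hXT g hgX
      have hβord : (orderOf β).Coprime p := by
        have h1 : β ^ orderOf g = 1 := by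
          ext v
          have h2 := hβk (orderOf g) v
          rw [pow_orderOf_eq_one] at h2
          simp only [one_mul, inv_one, mul_one] at h2
          have h3 := congrArg Subtype.val (hinj h2)
          exact h3
        exact Nat.Coprime.coprime_dvd_left (orderOf_dvd_of_pow_eq_one h1) hgp
      have hβV : ∀ x : ↥(Q' ⊔ IOf 𝒜 S), (x : Ω) ∈ IOf 𝒜 S →
          ((β x : ↥(Q' ⊔ IOf 𝒜 S)) : Ω) ∈ IOf 𝒜 S := by
        intro x hx
        have h2 := hβk 1 x
        simp only [pow_one] at h2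
        have h3 : ι ⟨x, hXT x.2⟩ ∈ imQ ι (IOf 𝒜 S) :=
          (mem_imQ_iff ι hIT _).mpr ⟨⟨x, hx⟩, rfl⟩
        have h4 : g * ι ⟨x, hXT x.2⟩ * g⁻¹ ∈ imQ ι (IOf 𝒜 S) :=
          (Subgroup.mem_normalizer_iff.mp hgI _).mp h3
        rw [← h2] at h4
        obtain ⟨v, hv⟩ := (mem_imQ_iff ι hIT _).mp h4
        have h5 := congrArg Subtype.val (hinj hv)
        simp only at h5
        rw [h5]
        exact v.2
      have hXN : Q' ⊔ IOf 𝒜 S ≤ normalizerIn S (IOf 𝒜 S) :=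
        fun x hx => ⟨hTS (hXT hx), hSI (hTS (hXT hx))⟩
      obtain ⟨s, hs, hsβ⟩ := hin _ _ (aut_mem_normalizerHom F le_sup_right hXN β hβ hβV)
      have hβ1 : β = 1 := eq_one_of_inner_coprime hS β hβord hs hsβ
      rw [Subgroup.mem_centralizer_iff]
      intro y hy
      obtain ⟨q, rfl⟩ := (mem_imQ_iff ι hQ' y).mp hy
      have h2 := hβk 1 ⟨q, Subgroup.mem_sup_left q.2⟩
      rw [hβ1] at h2
      simp only [pow_one, MulAut.one_apply] at h2
      calc ι ⟨q, hQ' q.2⟩ * g = (g * ι ⟨q, hQ' q.2⟩ * g⁻¹) * g := by rw [← h2]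
        _ = g * ι ⟨q, hQ' q.2⟩ := by group
  have hpnil : PNil p (⊤ : Subgroup L) := emb_pnil hp2 hfT _ L ι rfl hEmb
  have hLn : HasNormalPComplement p L := pnil_top_iff.mp hpnil
  -- a p-nilpotent model
  obtain ⟨K, hKn, hKc, k, hk⟩ := exists_normal_of_hasNormalPComplement hLn
  apply eq_innerFusionSystem_of_isPGroup p hS F hF
  intro P hP
  by_contra hnot
  have hfinP : Finite ↥P := finite_of_le hP
  obtain ⟨α, hα, hne, hord⟩ := np_of_not_isPGroup F p hnot
  have hPT : P ≤ normalizerIn S Q := hP.trans hTeq.ge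
  have hφαN : P.subtype.comp α.toMonoidHom ∈ N.Hom P :=
    hFN _ _ ((mem_autGroup_iff F hP α).mp hα)
  have hφαT : ∀ x : P, (P.subtype.comp α.toMonoidHom) x ∈ normalizerIn S Q :=
    fun x => hPT (α x).2
  obtain ⟨g₀, hg₀⟩ := (hreal P hPT _ hφαT).mp hφαN
  have hpow : ∀ (k : ℕ) (x : P), ι ⟨(((α ^ k) x : P) : Ω), hPT ((α ^ k) x).2⟩ =
      g₀ ^ k * ι ⟨x, hPT x.2⟩ * (g₀ ^ k)⁻¹ := by
    intro k
    induction k with
    | zero => intro x; simp
    | succ k ih =>
      intro x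
      have h1 : (α ^ (k + 1)) x = α ((α ^ k) x) := by rw [pow_succ']; rfl
      have h2 : ι ⟨(((α ^ (k + 1)) x : P) : Ω), hPT ((α ^ (k + 1)) x).2⟩ =
          ι ⟨(P.subtype.comp α.toMonoidHom) ((α ^ k) x), hφαT _⟩ := by
        congr 1
        apply Subtype.ext
        show (((α ^ (k + 1)) x : P) : Ω) = ((α ((α ^ k) x) : P) : Ω)
        rw [h1]
      rw [h2, hg₀, ih x, pow_succ']
      group
  have hg₀N : g₀ ∈ Subgroup.normalizer ((imQ ι P : Subgroup L) : Set L) := by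
    apply mem_normalizer_of_conj_mem_finite
    intro y hy
    obtain ⟨x, rfl⟩ := (mem_imQ_iff ι hPT y).mp hy
    rw [← hg₀ x]
    exact (mem_imQ_iff ι hPT _).mpr ⟨α x, rfl⟩
  obtain ⟨a, ha⟩ := exists_pow_coprime p g₀
  have hcen := centralizes_of_normal K hKc hk (imQ ι P) (imQ_isPGroup p hT ι P) (g₀ ^ p ^ a)
    (Subgroup.pow_mem _ hg₀N _) ha
  apply hne
  apply eq_one_of_coprime_of_pow hord (a := a)
  ext x
  have h1 := hpow (p ^ a) x
  have h2 : g₀ ^ p ^ a * ι ⟨x, hPT x.2⟩ * (g₀ ^ p ^ a)⁻¹ = ι ⟨x, hPT x.2⟩ := by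
    have := (Subgroup.mem_centralizer_iff.mp hcen) _ ((mem_imQ_iff ι hPT _).mpr ⟨x, rfl⟩)
    rw [← this, mul_inv_cancel_right]
  rw [h2] at h1
  have h3 := congrArg Subtype.val (hinj h1)
  exact h3

/-- the axiomatic Glauberman–Thompson criterion for fusion systems, by induction on the number of maps -/
theorem axgt_aux (hp2 : p ≠ 2) (𝒜 : Set (Subgroup Ω)) :
    ∀ m : ℕ, ∀ (T : Subgroup Ω) [Finite T] (N : FusionSystem T), mu N = m → AxThm p 𝒜 N := by
  intro m
  induction m using Nat.strong_induction_on with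
  | _ m ihm =>
  intro S _ F hm hS hf hF hinv hin
  by_contra hni
  have ih2 : ∀ (T : Subgroup Ω) [Finite T] (N : FusionSystem T), mu N < mu F → AxThm p 𝒜 N :=
    fun T _ N hmu => ihm (mu N) (hm ▸ hmu) T N rfl
  have hQ : F.IsNormal F.core := isNormal_core F
  have hQS : F.core ≤ S := hQ.1
  have hfinQ : Finite ↥F.core := finite_of_le hQS
  have hQmax : ∀ R : Subgroup Ω, F.IsNormal R → Nat.card R ≤ Nat.card F.core :=
    fun R hR => Subgroup.card_le_of_le (le_sSup hR)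
  have hmod := innerMod_ax hp2 hS F hF hf hinv hin hni ih2 hQ hQmax
  by_cases hc : centralizerIn S F.core ≤ F.core
  · exact hni (eq_inner_of_centric_ax hp2 hS F hF hf hinv hin hQ hc)
  · have hR₀S : F.core ⊔ centralizerIn S F.core ≤ S := sup_le hQS inf_le_left
    have hR₀n : ¬ F.IsNormal (F.core ⊔ centralizerIn S F.core) := by
      intro h
      apply hc
      have h1 : F.core ⊔ centralizerIn S F.core ≤ F.core := le_sSup h
      exact le_sup_right.trans h1
    have hSQ : S ≤ Subgroup.normalizer ((F.core : Subgroup Ω) : Set Ω) :=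
      le_normalizer_of_stronglyClosed F (stronglyClosed_of_isNormal F hQ)
    have hSR₀ : S ≤ Subgroup.normalizer ((F.core ⊔ centralizerIn S F.core : Subgroup Ω) : Set Ω) := by
      intro g hg
      have h1 : g ∈ normalizerIn S F.core := ⟨hg, hSQ hg⟩
      exact (normalizerIn_le_sup_centralizerIn (S := S) hQS h1).2
    have hR₀in := NIn_of_not_isNormal_ax hS F hF hf hinv hin ih2 hR₀S hSR₀ hR₀n
    exact hni (eq_inner_of_innerMod p hS F hF hQ hmod hR₀in)

/-- **the axiomatic Glauberman–Thompson criterion for fusion systems** -/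
theorem axgt (hp2 : p ≠ 2) [Finite S] (hS : IsPGroup p S) (F : FusionSystem S)
    (hF : F.IsSaturated p) (hf : FamΩ S 𝒜) (hinv : HInv F 𝒜) (hin : NIn F (IOf 𝒜 S)) :
    F = innerFusionSystem S :=
  axgt_aux hp2 𝒜 _ S F rfl hS hf hF hinv hin

end Cfsg.Agent.Lib.Helper7.AxGT
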