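import Mathlib
import Cfsg.Prelude.Def_OddOrderLocal
import Cfsg.Prelude.Def_OddOrder
import Cfsg.Agent.Lib.Helper7.BG127Main
import Cfsg.Agent.S1403
import Cfsg.Agent.S1412
import Cfsg.Agent.S1416
import Cfsg.Agent.S1417
import Cfsg.Agent.S1418

/-!
# Unconditional corollaries of the analysis of B&G Theorem 12.7 (nonabelian Sylow `p`-subgroups, `p ∈ τ₂(M)`)

* `mem_A0_of_fixed_point`: a `p`-element of `M` centralizing a non-identity element of `M_σ` lies in
  `A₀ = C_A(M_σ)` (which has order `p`).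
-/

set_option autoImplicit false
set_option linter.unusedVariables false
set_option linter.unusedSectionVars false
set_option linter.style.haveILetI false

namespace Cfsg.Agent.Lib.BG127H7

open Cfsg Cfsg.Agent.Lib.Helper8.BGTen Cfsg.Agent.Lib.Lead.Conj
open Cfsg.Agent.Lib.Helper7 (IsSylowIn exists_isSylowIn_ge card_subgroupOf_of_le)

universe u
variable {G : Type u} [Group G] [Finite G]

theorem uniqThm (hG : Cfsg.IsMinSimpleOddOrder G) : UniqThm G :=
  fun K hK h2 h3 => Cfsg.Agent.S1403.result hG K hK h2 h3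

theorem hyp1412 (hG : Cfsg.IsMinSimpleOddOrder G) : Hyp1412 G :=
  fun p _ P hr => Cfsg.Agent.S1412.result hG p P hr

theorem hyp1416 (hG : Cfsg.IsMinSimpleOddOrder G) : Hyp1416 G :=
  fun M hM p _ A hA => Cfsg.Agent.S1416.result hG M hM p A hA

theorem hyp1417 (hG : Cfsg.IsMinSimpleOddOrder G) : Hyp1417 G :=
  fun M hM p _ hp A hA => Cfsg.Agent.S1417.result hG M hM p hp A hA

theorem hyp1418 (hG : Cfsg.IsMinSimpleOddOrder G) : Hyp1418 G :=
  fun M hM E hE p _ hp A hA => Cfsg.Agent.S1418.result hG M hM E hE p hp A hA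

variable {M E A : Subgroup G} {p : ℕ}

/-- the data of Theorem 12.7, unconditionally -/
theorem exists_data' (hG : Cfsg.IsMinSimpleOddOrder G) [Fact p.Prime] (c : Ctx M E A p)
    (hS : ∀ S : Sylow p G, ¬ IsMulCommutative (S : Subgroup G)) :
    ∃ (S : Sylow p G) (PG Astar Z0 : Subgroup G), Data M A p S PG Astar Z0 :=
  exists_data hG (hyp1416 hG) (hyp1417 hG) c hS

section data

variable [hpf : Fact p.Prime] {S : Sylow p G} {PG Astar Z0 : Subgroup G}

/-- an element of `PG = C_S(A)` centralizing a non-identity element of `M_σ` lies in `A★` -/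
theorem mem_Astar_of_fixed_point (hG : Cfsg.IsMinSimpleOddOrder G) (cA : Ctx M E A p)
    (dA : Data M A p S PG Astar Z0) {x : G} (hx : x ∈ PG)
    (hfix : ∃ y ∈ Cfsg.sigmaCore M, y ≠ 1 ∧ x * y = y * x) : x ∈ Astar := by
  have hp : p.Prime := hpf.out
  have h12 := hyp1412 hG
  have h16 := hyp1416 hG
  have h17 := hyp1417 hG
  have h18 := hyp1418 hG
  obtain ⟨y, hyσ, hy1, hxy⟩ := hfix
  by_cases hx1 : x = 1
  · rw [hx1]; exact Astar.one_mem
  have hPGp : IsPGroup p ↥PG := dA.hPGsyl.isPGroup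
  obtain ⟨k, hk⟩ := (IsPGroup.iff_orderOf.mp hPGp) ⟨x, hx⟩
  rw [Subgroup.orderOf_mk] at hk
  have hk0 : k ≠ 0 := by
    rintro rfl
    rw [pow_zero] at hk
    exact hx1 (orderOf_eq_one_iff.mp hk)
  -- the socle
  set x0 := x ^ (p ^ (k - 1)) with hx0
  have hx0PG : x0 ∈ PG := PG.pow_mem hx _
  have hx0p : x0 ^ p = 1 := by
    rw [hx0, ← pow_mul, ← pow_succ]
    have : k - 1 + 1 = k := by omega
    rw [this, ← hk]; exact pow_orderOf_eq_one x
  have hx0ne : x0 ≠ 1 := by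
    intro h
    have hd := orderOf_dvd_of_pow_eq_one h
    rw [hk] at hd
    have := (Nat.pow_dvd_pow_iff_le_right hp.one_lt).mp hd
    omega
  have hx0A : x0 ∈ A := (dA.hOmega _ hx0PG).mp hx0p
  have hX0c : Nat.card ↥(Subgroup.zpowers x0) = p := by
    rw [Nat.card_zpowers]
    rcases (Nat.dvd_prime hp).mp (orderOf_dvd_of_pow_eq_one hx0p) with h | h
    · exact absurd (orderOf_eq_one_iff.mp h) hx0ne
    · exact h
  have hX0A : Subgroup.zpowers x0 ≤ A := by rw [Subgroup.zpowers_le]; exact hx0A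
  have hX0 : Subgroup.zpowers x0 = Astar := by
    by_contra hne
    have h1 := sigmaCore_inf_centralizer_line hG h17 h18 cA dA hX0A hX0c hne
    have h2 : y ∈ Cfsg.sigmaCore M ⊓ Subgroup.centralizer ((Subgroup.zpowers x0 : Subgroup G) : Set G) := by
      refine ⟨hyσ, ?_⟩
      rw [centralizer_zpowers_eq]
      show y ∈ Subgroup.centralizer ({x0} : Set G)
      rw [Subgroup.mem_centralizer_singleton_iff]
      have hc : Commute x y := hxy
      exact ((hc.pow_left (p ^ (k - 1))).eq).symm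
    rw [h1, Subgroup.mem_bot] at h2
    exact hy1 h2
  have hx0Astar : x0 ∈ Astar := hX0 ▸ Subgroup.mem_zpowers x0
  -- k = 1
  have hk1 : k = 1 := by
    by_contra hne
    have hk2 : 2 ≤ k := by omega
    set w := x ^ (p ^ (k - 2)) with hw
    have hwPG : w ∈ PG := PG.pow_mem hx _
    have hwp : w ^ p = x0 := by
      rw [hw, hx0, ← pow_mul, ← pow_succ]
      congr 2
      omega
    have hAmax := (Cfsg.Agent.S1408.result hG M cA.hM p cA.hp.2.1 cA.hp.2.2.1 cA.hp.2.2.2).2 A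
      cA.hAM cA.hAel cA.hAc
    have hAS : A ≤ (S : Subgroup G) := dA.hAPG.trans dA.hPGS
    have hAnc : ¬ (S : Subgroup G) ≤ Subgroup.centralizer (A : Set G) := by
      intro h
      apply dA.hnSM
      have : (S : Subgroup G) = PG := by rw [← dA.hSCA]; exact (inf_eq_left.mpr h).symm
      rw [this]; exact dA.hPGsyl.1
    have hwZ0 : w ^ p ∈ Z0 := pow_mem_Z0 hG h12 S (dA.hna S) hAS cA.hAel cA.hAc hAmax dA.hZ0A
      dA.hZ0c dA.hSZ0 hAnc (dA.hPGS hwPG) (hwp ▸ hx0A)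
    rw [hwp] at hwZ0
    exact hx0ne (mem_inf_prime_card hp dA.hAstarc dA.hZ0c (Astar_ne_Z0 dA) hx0Astar hwZ0)
  have : x0 = x := by rw [hx0, hk1]; simp
  rw [← this]; exact hx0Astar

end data

/-- **Corollary of Theorem 12.7**: if the Sylow `p`-subgroups of `G` are nonabelian (`p ∈ τ₂(M)`), every
`p`-element of `M` centralizing a non-identity element of `M_σ` lies in `A₀ = C_A(M_σ)` -/
theorem mem_A0_of_fixed_point (hG : Cfsg.IsMinSimpleOddOrder G) (M : Subgroup G) (hM : IsCoatom M)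
    (E : Subgroup G) (hE : Cfsg.IsComplIn E (Cfsg.sigmaCore M) M) (p : ℕ) [hpf : Fact p.Prime]
    (hp : p ∈ Cfsg.tau2 M) (hS : ∀ S : Sylow p G, ¬ IsMulCommutative (S : Subgroup G))
    (A : Subgroup G) (hA : (A ≤ E ∧ Cfsg.IsElementaryAbelian p A ∧ Nat.card A = p ^ 2))
    {x : G} (hxM : x ∈ M) (hxp : ∃ k : ℕ, x ^ (p ^ k) = 1)
    (hfix : ∃ y ∈ Cfsg.sigmaCore M, y ≠ 1 ∧ x * y = y * x) :
    x ∈ A ⊓ Subgroup.centralizer ((Cfsg.sigmaCore M : Subgroup G) : Set G) := by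
  have cA : Ctx M E A p := ⟨hM, hE, hp, hA.1, hA.2.1, hA.2.2⟩
  obtain ⟨S, PG, Astar, Z0, dA⟩ := exists_data' hG cA hS
  have h17 := hyp1417 hG
  have h18 := hyp1418 hG
  have hA0 := inf_centralizer_eq_Astar hG h17 h18 cA dA
  have hnorm := le_normalizer_inf_centralizer h18 cA
  -- conjugate x into PG
  have hxpg : IsPGroup p ↥(Subgroup.zpowers x) := by
    obtain ⟨k, hk⟩ := hxp
    rintro ⟨_, ⟨n, rfl⟩⟩
    refine ⟨k, Subtype.ext ?_⟩
    show (x ^ n) ^ (p ^ k) = 1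
    rw [← zpow_natCast, ← zpow_mul, mul_comm, zpow_mul, zpow_natCast, hk, one_zpow]
  have hxzM : Subgroup.zpowers x ≤ M := by rw [Subgroup.zpowers_le]; exact hxM
  obtain ⟨P1, hP1, hxP1⟩ := exists_isSylowIn_ge hxpg hxzM
  obtain ⟨m, hm, hconj⟩ := hP1.conj dA.hPGsyl
  have hconj' : PG = cj m P1 := hconj
  have hx' : m * x * m⁻¹ ∈ PG := by
    rw [hconj']; exact conj_mem_cj (hxP1 (Subgroup.mem_zpowers x))
  obtain ⟨y, hyσ, hy1, hxy⟩ := hfix
  have hfix' : ∃ y' ∈ Cfsg.sigmaCore M, y' ≠ 1 ∧ (m * x * m⁻¹) * y' = y' * (m * x * m⁻¹) := by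
    refine ⟨m * y * m⁻¹, (Subgroup.mem_normalizer_iff.mp (le_normalizer_sigmaCore M hm) y).mp hyσ, ?_, ?_⟩
    · intro h
      apply hy1
      have : y = m⁻¹ * (m * y * m⁻¹) * m := by group
      rw [this, h]; group
    · calc m * x * m⁻¹ * (m * y * m⁻¹) = m * (x * y) * m⁻¹ := by group
        _ = m * (y * x) * m⁻¹ := by rw [hxy]
        _ = m * y * m⁻¹ * (m * x * m⁻¹) := by group
  have h1 : m * x * m⁻¹ ∈ Astar := mem_Astar_of_fixed_point hG cA dA hx' hfix'
  rw [← hA0] at h1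
  have h2 : m⁻¹ * (m * x * m⁻¹) * m⁻¹⁻¹ ∈
      A ⊓ Subgroup.centralizer ((Cfsg.sigmaCore M : Subgroup G) : Set G) :=
    (Subgroup.mem_normalizer_iff.mp (hnorm (M.inv_mem hm)) _).mp h1
  have e : m⁻¹ * (m * x * m⁻¹) * m⁻¹⁻¹ = x := by group
  rwa [e] at h2

end Cfsg.Agent.Lib.BG127H7
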