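import Mathlib
import Cfsg.Agent.Lib.Helper7.BG14PF
import Cfsg.Agent.Lib.Helper4.BG13A
import Cfsg.Agent.Lib.Helper4.BG13D
import Cfsg.Agent.Lib.Helper4.BG12B
import Cfsg.Agent.H1.BG11cA
import Cfsg.Agent.S1423

/-!
# B&G Section 14 (helper7), part PG: S1372 — for `M = M_σ U K` with `K ≠ 1 ≠ U`: `σ(M) = β(M)`,
`F(M) ⊇ M_σ` is a TI-subset.
-/

set_option autoImplicit false
set_option linter.unusedSectionVars false
set_option linter.unusedVariables false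
set_option linter.style.haveILetI false
set_option maxHeartbeats 1000000
open Cfsg
open scoped commutatorElement Pointwise

namespace Cfsg.Agent.Lib.Helper7.BG14P

open Cfsg.Agent.Lib.Helper7 (IsSylowIn exists_isSylowIn_ge card_subgroupOf_of_le)
open Cfsg.Agent.Lib.Helper8.BGTen Cfsg.Agent.Lib.Helper4.BGTrans
open Cfsg.Agent.Lib.helper3.BG11 Cfsg.Agent.Lib.helper3.BG12 Cfsg.Agent.Lib.helper3.BG13
open Cfsg.Agent.Lib.Helper7.BG13

universe u

variable {G : Type u} [Group G] [Finite G] {M K U : Subgroup G}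

/-- `U = [U, k] ≤ (UK)'` for `k` normalizing `U` with `C_U(k) = 1` -/
theorem le_commutator_sup_of_fpf {U K : Subgroup G} {k : G} (hk : k ∈ K)
    (hkU : k ∈ Subgroup.normalizer (U : Set G))
    (hfpf : U ⊓ Subgroup.centralizer ({k} : Set G) = ⊥) : U ≤ ⁅U ⊔ K, U ⊔ K⁆ := by
  have hkU' : ∀ w ∈ U, k * w * k⁻¹ ∈ U := fun w hw =>
    (Subgroup.mem_normalizer_iff.mp hkU w).mp hw
  let f : ↥U → ↥U := fun w => ⟨(w : G)⁻¹ * (k * w * k⁻¹), U.mul_mem (U.inv_mem w.2) (hkU' w w.2)⟩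
  have hinj : Function.Injective f := by
    intro w w' h
    have h1 : (w : G)⁻¹ * (k * w * k⁻¹) = (w' : G)⁻¹ * (k * w' * k⁻¹) := congrArg Subtype.val h
    have h2 : (w' : G) * (w : G)⁻¹ ∈ U ⊓ Subgroup.centralizer ({k} : Set G) := by
      refine Subgroup.mem_inf.mpr ⟨U.mul_mem w'.2 (U.inv_mem w.2), ?_⟩
      rw [Subgroup.mem_centralizer_iff]
      intro z hz
      rw [Set.mem_singleton_iff] at hz
      rw [hz]
      have e1 : k * ((w' : G) * (w : G)⁻¹) =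
          (w' : G) * ((w' : G)⁻¹ * (k * w' * k⁻¹)) * (k * (w : G)⁻¹) := by group
      have e2 : (w' : G) * (w : G)⁻¹ * k =
          (w' : G) * ((w : G)⁻¹ * (k * w * k⁻¹)) * (k * (w : G)⁻¹) := by group
      rw [e1, e2, h1]
    rw [hfpf, Subgroup.mem_bot] at h2
    apply Subtype.ext
    have e : (w : G) = ((w' : G) * (w : G)⁻¹)⁻¹ * (w' : G) := by group
    rw [e, h2]; group
  have hsurj : Function.Surjective f := Finite.surjective_of_injective hinj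
  intro x hx
  obtain ⟨w, hw⟩ := hsurj ⟨x, hx⟩
  have hx' : x = (w : G)⁻¹ * (k * w * k⁻¹) := (congrArg Subtype.val hw).symm
  have e : x = ⁅(w : G)⁻¹, k⁆ := by
    rw [hx', commutatorElement_def]; group
  rw [e]
  exact Subgroup.commutator_mem_commutator ((le_sup_left : U ≤ U ⊔ K) (U.inv_mem w.2))
    ((le_sup_right : K ≤ U ⊔ K) hk)

/-- **19.1**: `σ(M) ⊆ β(M)` for `M = M_σ U K` with `K ≠ 1 ≠ U` -/
theorem mem_beta_of_mem_sigma (hG : Cfsg.IsMinSimpleOddOrder G) (hM : IsCoatom M)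
    (hKU : Cfsg.IsSigmaDecomposition M K U) (hK1 : K ≠ ⊥) (hU1 : U ≠ ⊥) {q : ℕ}
    [hq : Fact q.Prime] (hqσ : q ∈ Cfsg.sigma M) : q ∈ Cfsg.beta M := by
  by_contra hqβ
  have hE := sup_compl hG hM hKU
  have hcop := Cfsg.Agent.H2.BG12.coprime_compl hG hM hE
  have hnM := Cfsg.Agent.H2.BG11.le_normalizer_sigmaCore M
  have hσM := Cfsg.Agent.H2.BG11.sigmaCore_le M
  obtain ⟨S, hS, hES⟩ := Cfsg.Agent.H2.BG11.exists_inv_sylow' (q := q) (hE.1.trans hnM) hcop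
    (Cfsg.Agent.H2.BGU.solvable_of_le_coatom hG hM hσM)
  have hSM : IsSylowIn q S M := by
    apply sylIn_of_not_dvd (hS.1.trans hσM) hS.isPGroup
    rw [← Subgroup.relIndex_mul_relIndex S (Cfsg.sigmaCore M) M hS.1 hσM]
    intro hd
    rcases (Nat.Prime.dvd_mul hq.out).mp hd with h4 | h4
    · exact Cfsg.Agent.Lib.Helper8.BGTen.not_dvd_relIndex_of_sylIn hS h4
    · exact (Cfsg.Agent.H2.BG11.sigmaCore_hallOf hG hM).2.2 q hq.out hqσ h4
  have hS1 : S ≠ ⊥ := by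
    intro e
    have h2 := hS.2
    rw [e, Subgroup.card_bot] at h2
    have h3 : 0 < (Nat.card ↥(Cfsg.sigmaCore M)).factorization q :=
      hq.out.factorization_pos_of_dvd Nat.card_pos.ne'
        (Cfsg.Agent.H2.BG11.dvd_card_sigmaCore hG hM hqσ)
    have h4 : 1 < q ^ (Nat.card ↥(Cfsg.sigmaCore M)).factorization q :=
      Nat.one_lt_pow h3.ne' hq.out.one_lt
    omega
  have hnar := Cfsg.Agent.Lib.Helper4.BG13.autNar_of_not_beta hG hM hqβ hSM hS1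
  have hqE : ¬ q ∣ Nat.card ↥(U ⊔ K) := fun hd =>
    Cfsg.Agent.H2.BG12.not_mem_sigma_of_dvd_compl hG hM hE hq.out hd hqσ
  have hc := Cfsg.Agent.Lib.Helper4.BG13.commutator_le_centralizer_of_autNar hG hnar hES hqE
  -- `U ≤ (UK)'`
  obtain ⟨⟨k, hk⟩, hk1'⟩ := (Subgroup.ne_bot_iff_exists_ne_one).mp hK1
  have hk1 : k ≠ 1 := fun e => hk1' (Subtype.ext e)
  have hUc : U ≤ ⁅U ⊔ K, U ⊔ K⁆ :=
    le_commutator_sup_of_fpf hk (hKU.normal hk) (Cfsg.Agent.S1353.result hG M hM K U hKU k hk hk1)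
  -- a Sylow subgroup of `U`
  have hcU : Nat.card ↥U ≠ 1 := fun h0 => hU1 (Subgroup.card_eq_one.mp h0)
  obtain ⟨t, ht, htd⟩ := Nat.exists_prime_and_dvd hcU
  haveI : Fact t.Prime := ⟨ht⟩
  obtain ⟨Rt, hRt⟩ := exists_isSylowIn t U
  have hRtM := sylowIn_M hG hM hKU hRt htd
  have hRt1 : Rt ≠ ⊥ := by
    intro e
    have h2 := hRt.2
    rw [e, Subgroup.card_bot] at h2
    have h3 : 0 < (Nat.card ↥U).factorization t :=
      ht.factorization_pos_of_dvd Nat.card_pos.ne' htd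
    have h4 : 1 < t ^ (Nat.card ↥U).factorization t := Nat.one_lt_pow h3.ne' ht.one_lt
    omega
  have hC0 := sigmaCore_inf_centralizer_eq_bot hG hM hRtM hRt1
    (Cfsg.Agent.H2.BG12.not_mem_sigma_of_dvd_U hG hM hKU ht htd)
    (Cfsg.Agent.H2.BG12.not_mem_kappa_of_dvd_U hKU ht htd)
  apply hS1
  apply le_bot_iff.mp
  rw [← hC0]
  refine le_inf hS.1 ?_
  intro s hs
  rw [Subgroup.mem_centralizer_iff]
  intro y hy
  exact (Subgroup.mem_centralizer_iff.mp (hc (hUc (hRt.1 hy))) s hs).symm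

/-- `𝓜(C_G(Z)) = {M}` for every subgroup `Z ≤ M` of prime order `ℓ ∈ σ(M)` -/
theorem uniq_of_card_mem_sigma (hG : Cfsg.IsMinSimpleOddOrder G) (hM : IsCoatom M)
    (hKU : Cfsg.IsSigmaDecomposition M K U) (hK1 : K ≠ ⊥) (hU1 : U ≠ ⊥) {ℓ : ℕ}
    [hℓ : Fact ℓ.Prime] (hℓσ : ℓ ∈ Cfsg.sigma M) {Z : Subgroup G} (hZM : Z ≤ M)
    (hZc : Nat.card ↥Z = ℓ) :
    Subgroup.centralizer (Z : Set G) ≤ M ∧
      ∀ L : Subgroup G, IsCoatom L → Subgroup.centralizer (Z : Set G) ≤ L → L = M :=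
  (Cfsg.Agent.S1423.result hG M hM ℓ hℓσ Z hZM hZc default
    (Or.inl (mem_beta_of_mem_sigma hG hM hKU hK1 hU1 hℓσ))).1

/-- the key to the TI-property of `F(M)` -/
theorem mem_of_cj_le_fittingOf (hG : Cfsg.IsMinSimpleOddOrder G) (hM : IsCoatom M)
    (hKU : Cfsg.IsSigmaDecomposition M K U) (hK1 : K ≠ ⊥) (hU1 : U ≠ ⊥) {ℓ : ℕ}
    [hℓ : Fact ℓ.Prime] {Z : Subgroup G} (hZF : Z ≤ Cfsg.fittingOf M) (hZc : Nat.card ↥Z = ℓ)
    {g : G} (hgZ : cj g Z ≤ Cfsg.fittingOf M) : g ∈ M := by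
  have hFM := Cfsg.Agent.H2.BGU.fittingOf_le M
  have hM1 : M ≠ ⊥ := fun e => hK1 (le_bot_iff.mp (e ▸ hKU.hall.1))
  have hZ1 : Z ≠ ⊥ := ne_bot_of_card_prime hℓ.out hZc
  by_cases hℓσ : ℓ ∈ Cfsg.sigma M
  · have h1 := (uniq_of_card_mem_sigma hG hM hKU hK1 hU1 hℓσ (hgZ.trans hFM)
      (by rw [card_cj, hZc])).2 (cj g M) (isCoatom_cj hM g) (by
        rw [← cj_centralizer]
        exact cj_mono g (uniq_of_card_mem_sigma hG hM hKU hK1 hU1 hℓσ (hZF.trans hFM) hZc).1)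
    have := mem_normalizer_of_cj_eq h1
    rwa [normalizer_coatom hG hM hM1] at this
  · -- `Z` and `gZg⁻¹` lie in the cyclic group `Y`
    have hnil := Cfsg.Agent.H2.BGU.fittingOf_nilpotent M
    have hY : ∀ W : Subgroup G, W ≤ Cfsg.fittingOf M → Nat.card ↥W = ℓ →
        W ≤ Cfsg.Agent.Lib.Helper4.BG12.YY M := by
      intro W hWF hWc
      have hWp : IsPGroup ℓ ↥W := IsPGroup.of_card (n := 1) (by rw [hWc, pow_one])
      refine (Cfsg.Agent.H2.BGU.le_Oq_of_isPGroup hnil hWF hWp).trans ?_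
      apply le_piCoreOf (Cfsg.Agent.H2.BGU.Oq_le ℓ _) (Cfsg.Agent.H2.BGU.le_normalizer_Oq ℓ _)
      intro p hp hpd
      obtain ⟨n, hn⟩ := (Cfsg.Agent.H2.BGU.isPGroup_Oq hℓ.out (Cfsg.fittingOf M)).exists_card_eq
      rw [hn] at hpd
      have := (Nat.prime_dvd_prime_iff_eq hp hℓ.out).mp (hp.dvd_of_dvd_pow hpd)
      rw [this]
      exact ⟨hℓ.out, hℓσ⟩
    have hcyc := Cfsg.Agent.Lib.Helper4.BG12.YY_isCyclic hG hM
    have heq : cj g Z = Z :=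
      eq_of_card_eq_of_le_cyclic hcyc (hY _ hgZ (by rw [card_cj, hZc])) (hY Z hZF hZc)
        (card_cj g Z)
    have hg := mem_normalizer_of_cj_eq heq
    have hMZ : M ≤ Subgroup.normalizer (Z : Set G) :=
      le_normalizer_of_le_cyclic hcyc (hY Z hZF hZc) (Cfsg.Agent.Lib.Helper4.BG12.le_normalizer_YY M)
    have hZt : Z ≠ ⊤ := ne_top_of_le_coatom hM (hZF.trans hFM)
    obtain ⟨L, hL, hNL⟩ := exists_coatom_normalizer_le hG hZ1 hZt
    have hML : M = L := by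
      by_contra hne
      exact hL.1 (hM.2 L (lt_of_le_of_ne (hMZ.trans hNL) hne))
    rw [hML]
    exact hNL hg

/-- **S1372** -/
theorem s1372 (hG : Cfsg.IsMinSimpleOddOrder G) (hM : IsCoatom M)
    (hKU : Cfsg.IsSigmaDecomposition M K U) (hK1 : K ≠ ⊥) (hU1 : U ≠ ⊥) :
    (Nat.card ↥K).Prime ∧ Cfsg.IsTISubset (Cfsg.fittingOf M : Set G) ∧
      Cfsg.sigmaCore M ≤ Cfsg.fittingOf M := by
  refine ⟨Cfsg.Agent.Lib.Helper4.BG14.card_prime_of_isSigmaDecomposition hG hM hKU hK1 hU1, ?_,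
    Cfsg.Agent.H2.BGU.le_fittingOf (Cfsg.Agent.H2.BG11.sigmaCore_le M)
      (Cfsg.Agent.H2.BG11.le_normalizer_sigmaCore M) (nilpotent_of_U_ne_bot hG hM hKU hU1)⟩
  intro g hg x hx hgx
  by_contra hx1
  apply hg
  apply Cfsg.Agent.H2.BGU.le_normalizer_fittingOf M
  have hW1 : Subgroup.zpowers x ≠ ⊥ := by
    rw [Ne, Subgroup.zpowers_eq_bot]; exact hx1
  obtain ⟨ℓ, hℓ, Z, hZW, hZc⟩ := Cfsg.Agent.Lib.Helper4.BG13.exists_prime_card_le hW1
  have hWF : Subgroup.zpowers x ≤ Cfsg.fittingOf M := (Subgroup.zpowers_le).mpr hx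
  have hgW : cj g (Subgroup.zpowers x) ≤ Cfsg.fittingOf M := by
    rintro y ⟨w, hw, rfl⟩
    obtain ⟨n, rfl⟩ := Subgroup.mem_zpowers_iff.mp hw
    simp only [MulEquiv.coe_toMonoidHom, MulAut.conj_apply]
    rw [← conj_zpow]
    exact (Cfsg.fittingOf M).zpow_mem hgx n
  exact mem_of_cj_le_fittingOf hG hM hKU hK1 hU1 (hZW.trans hWF) hZc
    ((cj_mono g hZW).trans hgW)

end Cfsg.Agent.Lib.Helper7.BG14P
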