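import Mathlib

/-!
# B&G Section 15 (helper7), part PA: a cyclic `p'`-group of odd order acting on an extraspecial group
of order `p³` and exponent `p` with `C_P(k) = Z(P)` for all `k ≠ 1` has order dividing `p - 1` or
`p + 1`.
-/

set_option autoImplicit false
set_option linter.unusedSectionVars false
set_option linter.unusedVariables false
set_option linter.style.haveILetI false
set_option maxHeartbeats 1000000
open scoped commutatorElement Pointwise

namespace Cfsg.Agent.Lib.Helper7.BG15P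

/-- a free action of a finite group `K` on a finite set `X`: `|K|` divides `|X|` -/
theorem card_dvd_card_of_free {K X : Type*} [Group K] [Finite K] [Finite X] [MulAction K X]
    (hfree : ∀ (k : K) (x : X), k • x = x → k = 1) : Nat.card K ∣ Nat.card X := by
  classical
  haveI : Fintype (MulAction.orbitRel.Quotient K X) := Fintype.ofFinite _
  rw [Nat.card_congr (MulAction.selfEquivSigmaOrbits K X), Nat.card_sigma]
  apply Finset.dvd_sum
  intro ω _
  have hstab : MulAction.stabilizer K ω.out = ⊥ := by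
    rw [Subgroup.eq_bot_iff_forall]
    intro k hk
    exact hfree k _ hk
  have e := MulAction.orbitEquivQuotientStabilizer K ω.out
  rw [Nat.card_congr e, hstab]
  rw [Nat.card_congr (QuotientGroup.quotientBot (G := K)).toEquiv]

/-- set version: a free action on an invariant finite subset -/
theorem card_dvd_ncard_of_free {K α : Type*} [Group K] [Finite K] [MulAction K α] (S : Set α)
    (hS : S.Finite) (hinv : ∀ (k : K), ∀ x ∈ S, k • x ∈ S)
    (hfree : ∀ (k : K), ∀ x ∈ S, k • x = x → k = 1) : Nat.card K ∣ S.ncard := by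
  haveI : Finite ↥S := hS
  letI : MulAction K ↥S :=
    { smul := fun k x => ⟨k • x.1, hinv k x.1 x.2⟩
      one_smul := fun x => Subtype.ext (one_smul K x.1)
      mul_smul := fun a b x => Subtype.ext (mul_smul a b x.1) }
  have h := card_dvd_card_of_free (K := K) (X := ↥S) (by
    intro k x hx
    exact hfree k x.1 x.2 (congrArg Subtype.val hx))
  rwa [Nat.card_coe_set_eq] at h

/-- counting by fibers of constant size -/
theorem ncard_eq_mul_of_fibers {α β : Type*} (S : Set α) (hS : S.Finite) (f : α → β) (m : ℕ)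
    (hfib : ∀ t ∈ f '' S, {x ∈ S | f x = t}.ncard = m) : S.ncard = (f '' S).ncard * m := by
  classical
  have h1 := Finset.card_eq_sum_card_image f hS.toFinset
  have h2 : ∀ b ∈ hS.toFinset.image f, (hS.toFinset.filter (fun a => f a = b)).card = m := by
    intro b hb
    have hb' : b ∈ f '' S := by
      rw [Finset.mem_image] at hb
      obtain ⟨a, ha, rfl⟩ := hb
      exact ⟨a, hS.mem_toFinset.mp ha, rfl⟩
    rw [← hfib b hb', Set.ncard_eq_toFinset_card _ (hS.subset (fun x hx => hx.1))]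
    congr 1
    ext a
    simp [Set.Finite.mem_toFinset]
  rw [Finset.sum_congr rfl h2, Finset.sum_const, smul_eq_mul] at h1
  rw [Set.ncard_eq_toFinset_card S hS, h1, Set.ncard_eq_toFinset_card _ (hS.image f),
    Set.Finite.toFinset_image]

section exsp

variable {G : Type*} [Group G] [Finite G]

/-- `⁅a ^ n, b⁆ = ⁅a, b⁆ ^ n` when `⁅a, b⁆` commutes with `a` -/
theorem comm_pow_left' {a b : G} (hc : Commute ⁅a, b⁆ a) (n : ℕ) : ⁅a ^ n, b⁆ = ⁅a, b⁆ ^ n := by
  induction n with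
  | zero => simp
  | succ n ih =>
    have h1 : ⁅a ^ (n + 1), b⁆ = a ^ n * ⁅a, b⁆ * (a ^ n)⁻¹ * ⁅a ^ n, b⁆ := by
      rw [pow_succ, commutatorElement_def, commutatorElement_def, commutatorElement_def]
      group
    have h2 : Commute ⁅a, b⁆ (a ^ n) := hc.pow_right n
    rw [h1, ih, ← h2.eq, mul_assoc ⁅a, b⁆, mul_inv_cancel, mul_one, pow_succ']

/-- `⁅a, b ^ n⁆ = ⁅a, b⁆ ^ n` when `⁅a, b⁆` commutes with `b` -/
theorem comm_pow_right' {a b : G} (hc : Commute ⁅a, b⁆ b) (n : ℕ) : ⁅a, b ^ n⁆ = ⁅a, b⁆ ^ n := by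
  have h1 : ⁅b, a⁆ = ⁅a, b⁆⁻¹ := (commutatorElement_inv a b).symm
  have h2 : Commute ⁅b, a⁆ b := by rw [h1]; exact hc.inv_left
  have h3 := comm_pow_left' h2 n
  rw [← commutatorElement_inv (b ^ n) a, h3, h1, inv_pow, inv_inv]

/-- the action of an abelian `p'`-group `K` of odd order on an extraspecial group `P` of order `p³`
and exponent `p` with centre `Z`, such that `C_P(k) = Z` for `k ≠ 1` -/
structure ExspAct (p : ℕ) (P Z K : Subgroup G) : Prop where
  cardP : Nat.card ↥P = p ^ 3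
  ZP : Z ≤ P
  cardZ : Nat.card ↥Z = p
  Zcen : ∀ z ∈ Z, ∀ a ∈ P, z * a = a * z
  comm : ∀ a ∈ P, ∀ b ∈ P, ⁅a, b⁆ ∈ Z
  center : ∀ x ∈ P, x ∉ Z → ∃ y ∈ P, x * y ≠ y * x
  exp : ∀ x ∈ P, x ^ p = 1
  KP : K ≤ Subgroup.normalizer (P : Set G)
  KZ : ∀ k ∈ K, ∀ z ∈ Z, k * z = z * k
  Kab : ∀ a ∈ K, ∀ b ∈ K, a * b = b * a
  Kodd : Odd (Nat.card ↥K)
  Kp : (Nat.card ↥K).Coprime p
  fix : ∀ k ∈ K, k ≠ 1 → ∀ x ∈ P, k * x = x * k → x ∈ Z

variable {p : ℕ} [hp : Fact p.Prime] {P Z K : Subgroup G}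

/-- the "line" through `x` -/
def line (P : Subgroup G) (x : G) : Subgroup G := P ⊓ Subgroup.centralizer ({x} : Set G)

theorem mem_line {P : Subgroup G} {x y : G} : y ∈ line P x ↔ y ∈ P ∧ y * x = x * y := by
  unfold line
  rw [Subgroup.mem_inf, Subgroup.mem_centralizer_iff]
  constructor
  · rintro ⟨h1, h2⟩
    exact ⟨h1, (h2 x rfl).symm⟩
  · rintro ⟨h1, h2⟩
    refine ⟨h1, ?_⟩
    intro z hz
    rw [Set.mem_singleton_iff] at hz
    rw [hz, h2]

theorem ExspAct.conj_mem (h : ExspAct p P Z K) {k x : G} (hk : k ∈ K) (hx : x ∈ P) :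
    k * x * k⁻¹ ∈ P := (Subgroup.mem_normalizer_iff.mp (h.KP hk) x).mp hx

theorem ExspAct.conj_not_mem (h : ExspAct p P Z K) {k x : G} (hk : k ∈ K) (hx : x ∉ Z) :
    k * x * k⁻¹ ∉ Z := by
  intro hz
  apply hx
  have h1 := h.KZ k⁻¹ (K.inv_mem hk) _ hz
  have h2 : x = k⁻¹ * (k * x * k⁻¹) * k := by group
  rw [h2, h1]
  simpa using hz

theorem ExspAct.card_line (h : ExspAct p P Z K) {x : G} (hxP : x ∈ P) (hxZ : x ∉ Z) :
    Nat.card ↥(line P x) = p ^ 2 := by
  have hle : line P x ≤ P := inf_le_left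
  have hZle : Z ≤ line P x := by
    intro z hz
    rw [mem_line]
    exact ⟨h.ZP hz, h.Zcen z hz x hxP⟩
  have hxl : x ∈ line P x := mem_line.mpr ⟨hxP, rfl⟩
  have hPp : IsPGroup p ↥P := IsPGroup.of_card h.cardP
  obtain ⟨n, hn⟩ := (hPp.to_le hle).exists_card_eq
  have hn3 : n < 3 := by
    by_contra hge
    rw [not_lt] at hge
    obtain ⟨y, hyP, hy⟩ := h.center x hxP hxZ
    apply hy
    have heq : line P x = P := by
      apply Subgroup.eq_of_le_of_card_ge hle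
      rw [hn, h.cardP]
      exact Nat.pow_le_pow_right hp.out.pos hge
    have : y ∈ line P x := by rw [heq]; exact hyP
    exact ((mem_line.mp this).2).symm
  have hn1 : 1 < n := by
    by_contra hle1
    rw [not_lt] at hle1
    apply hxZ
    have heq : Z = line P x := by
      apply Subgroup.eq_of_le_of_card_ge hZle
      rw [hn, h.cardZ]
      calc p ^ n ≤ p ^ 1 := Nat.pow_le_pow_right hp.out.pos hle1
        _ = p := pow_one p
    rw [heq]
    exact hxl
  have : n = 2 := by omega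
  rw [hn, this]

theorem ExspAct.line_comm (h : ExspAct p P Z K) {x : G} (hxP : x ∈ P) (hxZ : x ∉ Z) :
    ∀ a ∈ line P x, ∀ b ∈ line P x, a * b = b * a := by
  intro a ha b hb
  have := (IsPGroup.isMulCommutative_of_card_eq_prime_sq (h.card_line hxP hxZ)).is_comm.comm
    (⟨a, ha⟩ : ↥(line P x)) ⟨b, hb⟩
  exact congrArg Subtype.val this

theorem ExspAct.line_eq (h : ExspAct p P Z K) {x y : G} (hxP : x ∈ P) (hxZ : x ∉ Z)
    (hy : y ∈ line P x) (hyZ : y ∉ Z) : line P y = line P x := by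
  have hyP : y ∈ P := (mem_line.mp hy).1
  symm
  apply Subgroup.eq_of_le_of_card_ge
  · intro a ha
    rw [mem_line]
    exact ⟨(mem_line.mp ha).1, h.line_comm hxP hxZ a ha y hy⟩
  · rw [h.card_line hxP hxZ, h.card_line hyP hyZ]

theorem cj_line (P : Subgroup G) {k : G} (hk : k ∈ Subgroup.normalizer (P : Set G)) (x : G) :
    (line P x).map (MulAut.conj k).toMonoidHom = line P (k * x * k⁻¹) := by
  ext y
  rw [Subgroup.mem_map, mem_line]
  constructor
  · rintro ⟨a, ha, rfl⟩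
    obtain ⟨haP, hax⟩ := mem_line.mp ha
    refine ⟨(Subgroup.mem_normalizer_iff.mp hk a).mp haP, ?_⟩
    simp only [MulEquiv.coe_toMonoidHom, MulAut.conj_apply]
    calc k * a * k⁻¹ * (k * x * k⁻¹) = k * (a * x) * k⁻¹ := by group
      _ = k * (x * a) * k⁻¹ := by rw [hax]
      _ = k * x * k⁻¹ * (k * a * k⁻¹) := by group
  · rintro ⟨hyP, hyx⟩
    refine ⟨k⁻¹ * y * k, mem_line.mpr ⟨?_, ?_⟩, ?_⟩
    · have := (Subgroup.mem_normalizer_iff.mp (Subgroup.inv_mem _ hk) y).mp hyP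
      simpa using this
    · have e1 : k⁻¹ * y * k * x = k⁻¹ * (y * (k * x * k⁻¹)) * k := by group
      have e2 : x * (k⁻¹ * y * k) = k⁻¹ * ((k * x * k⁻¹) * y) * k := by group
      rw [e1, e2, hyx]
    · simp only [MulEquiv.coe_toMonoidHom, MulAut.conj_apply]
      group

/-- if `k x k⁻¹ = x z` with `k` centralizing `z`, `z ^ p = 1` and `|k|` prime to `p` then `z = 1` -/
theorem eq_one_of_conj_eq_mul {k x z : G} {p : ℕ} (hkx : k * x * k⁻¹ = x * z)
    (hkz : k * z = z * k) (hz : z ^ p = 1) (hk : (orderOf k).Coprime p) : z = 1 := by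
  have hpow : ∀ n : ℕ, k ^ n * x * (k ^ n)⁻¹ = x * z ^ n := by
    intro n
    induction n with
    | zero => simp
    | succ n ih =>
      have hkzn : k * z ^ n * k⁻¹ = z ^ n := by
        have : Commute k (z ^ n) := (show Commute k z from hkz).pow_right n
        rw [this.eq]; group
      calc k ^ (n + 1) * x * (k ^ (n + 1))⁻¹ = k * (k ^ n * x * (k ^ n)⁻¹) * k⁻¹ := by
            rw [pow_succ']; group
        _ = k * (x * z ^ n) * k⁻¹ := by rw [ih]
        _ = (k * x * k⁻¹) * (k * z ^ n * k⁻¹) := by group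
        _ = x * z * z ^ n := by rw [hkx, hkzn]
        _ = x * z ^ (n + 1) := by rw [pow_succ', mul_assoc]
  have h1 := hpow (orderOf k)
  rw [pow_orderOf_eq_one, one_mul, inv_one, mul_one] at h1
  have h2 : z ^ orderOf k = 1 := by
    have := mul_left_cancel (a := x) (b := 1) (c := z ^ orderOf k) (by rw [mul_one]; exact h1)
    exact this.symm
  have h3 : orderOf z ∣ Nat.gcd (orderOf k) p :=
    Nat.dvd_gcd (orderOf_dvd_of_pow_eq_one h2) (orderOf_dvd_of_pow_eq_one hz)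
  rw [hk.gcd_eq_one, Nat.dvd_one] at h3
  exact orderOf_eq_one_iff.mp h3

/-- the elements of the line through `x` are the `x ^ n * z` -/
theorem ExspAct.exists_pow_mul (h : ExspAct p P Z K) {x : G} (hxP : x ∈ P) (hxZ : x ∉ Z) {a : G}
    (ha : a ∈ line P x) : ∃ n : ℕ, ∃ z ∈ Z, a = x ^ n * z := by
  have hcx : ∀ z ∈ Z, Commute z x := fun z hz => h.Zcen z hz x hxP
  let W : Subgroup G :=
    { carrier := {a | ∃ n : ℤ, ∃ z ∈ Z, a = x ^ n * z}
      one_mem' := ⟨0, 1, Z.one_mem, by simp⟩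
      mul_mem' := by
        rintro a b ⟨n, z, hz, rfl⟩ ⟨m, w, hw, rfl⟩
        refine ⟨n + m, z * w, Z.mul_mem hz hw, ?_⟩
        have : Commute z (x ^ m) := (hcx z hz).zpow_right m
        calc x ^ n * z * (x ^ m * w) = x ^ n * (z * x ^ m) * w := by group
          _ = x ^ n * (x ^ m * z) * w := by rw [this.eq]
          _ = x ^ (n + m) * (z * w) := by rw [zpow_add]; group
      inv_mem' := by
        rintro a ⟨n, z, hz, rfl⟩
        refine ⟨-n, z⁻¹, Z.inv_mem hz, ?_⟩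
        have : Commute z⁻¹ (x ^ (-n)) := ((hcx z hz).inv_left).zpow_right (-n)
        calc (x ^ n * z)⁻¹ = z⁻¹ * x ^ (-n) := by rw [mul_inv_rev, zpow_neg]
          _ = x ^ (-n) * z⁻¹ := this.eq }
  have hWle : W ≤ line P x := by
    rintro a ⟨n, z, hz, rfl⟩
    rw [mem_line]
    refine ⟨P.mul_mem (P.zpow_mem hxP n) (h.ZP hz), ?_⟩
    have h1 : Commute (x ^ n) x := (Commute.refl x).zpow_left n
    exact (h1.mul_left (hcx z hz)).eq
  have hZW : Z ≤ W := fun z hz => ⟨0, z, hz, by simp⟩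
  have hxW : x ∈ W := ⟨1, 1, Z.one_mem, by simp⟩
  have hWeq : W = line P x := by
    apply Subgroup.eq_of_le_of_card_ge hWle
    rw [h.card_line hxP hxZ]
    have hPp : IsPGroup p ↥P := IsPGroup.of_card h.cardP
    obtain ⟨n, hn⟩ := (hPp.to_le (hWle.trans inf_le_left)).exists_card_eq
    rw [hn]
    apply Nat.pow_le_pow_right hp.out.pos
    by_contra hlt
    rw [not_le] at hlt
    apply hxZ
    have heq : Z = W := by
      apply Subgroup.eq_of_le_of_card_ge hZW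
      rw [hn, h.cardZ]
      calc p ^ n ≤ p ^ 1 := Nat.pow_le_pow_right hp.out.pos (by omega)
        _ = p := pow_one p
    rw [heq]
    exact hxW
  rw [← hWeq] at ha
  obtain ⟨n, z, hz, rfl⟩ := ha
  have hfin : x ^ n ∈ Submonoid.powers x :=
    (isOfFinOrder_of_finite x).mem_powers_iff_mem_zpowers.mpr ⟨n, rfl⟩
  obtain ⟨m, hm⟩ := hfin
  exact ⟨m, z, hz, by rw [← hm]⟩

/-- **key claim**: a line normalized by some `k₁ ≠ 1` in `K` is normalized by all of `K` -/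
theorem ExspAct.conj_mem_line (h : ExspAct p P Z K) {k₁ x : G} (hk₁ : k₁ ∈ K) (hk₁1 : k₁ ≠ 1)
    (hxP : x ∈ P) (hxZ : x ∉ Z) (hk₁x : k₁ * x * k₁⁻¹ ∈ line P x) :
    ∀ k ∈ K, k * x * k⁻¹ ∈ line P x := by
  intro k hk
  by_contra hnot
  set y := k * x * k⁻¹ with hy
  have hyP : y ∈ P := h.conj_mem hk hxP
  have hxy : x * y ≠ y * x := by
    intro e
    exact hnot (mem_line.mpr ⟨hyP, e.symm⟩)
  have hcZ : ⁅x, y⁆ ∈ Z := h.comm x hxP y hyP
  have hc1 : ⁅x, y⁆ ≠ 1 := by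
    intro e
    rw [commutatorElement_eq_one_iff_mul_comm] at e
    exact hxy e
  obtain ⟨l, z₁, hz₁, hx'⟩ := h.exists_pow_mul hxP hxZ hk₁x
  -- `k₁ y k₁⁻¹ = y ^ l * z₁`
  have hkk : k₁ * k = k * k₁ := h.Kab k₁ hk₁ k hk
  have hkz₁ : k * z₁ * k⁻¹ = z₁ := by rw [h.KZ k hk z₁ hz₁]; group
  have hy' : k₁ * y * k₁⁻¹ = y ^ l * z₁ := by
    calc k₁ * y * k₁⁻¹ = (k₁ * k) * x * (k₁ * k)⁻¹ := by rw [hy]; group
      _ = k * (k₁ * x * k₁⁻¹) * k⁻¹ := by rw [hkk]; group
      _ = k * (x ^ l * z₁) * k⁻¹ := by rw [hx']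
      _ = (k * x * k⁻¹) ^ l * (k * z₁ * k⁻¹) := by rw [conj_pow]; group
      _ = y ^ l * z₁ := by rw [hkz₁]
  -- the commutator is fixed by `k₁`
  have hcen : ∀ a ∈ P, Commute ⁅x, y⁆ a := fun a ha => h.Zcen _ hcZ a ha
  have h1 : ⁅k₁ * x * k₁⁻¹, k₁ * y * k₁⁻¹⁆ = ⁅x, y⁆ := by
    have e : ⁅k₁ * x * k₁⁻¹, k₁ * y * k₁⁻¹⁆ = k₁ * ⁅x, y⁆ * k₁⁻¹ := by
      simp only [commutatorElement_def]; group
    rw [e, h.KZ k₁ hk₁ _ hcZ]; group
  have hz₁c : ∀ a ∈ P, Commute z₁ a := fun a ha => h.Zcen z₁ hz₁ a ha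
  have h2 : ⁅x ^ l * z₁, y ^ l * z₁⁆ = ⁅x, y⁆ ^ (l * l) := by
    have hxl : x ^ l ∈ P := P.pow_mem hxP l
    have hyl : y ^ l ∈ P := P.pow_mem hyP l
    have e1 : ⁅x ^ l * z₁, y ^ l * z₁⁆ = ⁅x ^ l, y ^ l⁆ := by
      have c1 := (hz₁c (x ^ l) hxl).eq
      have c2 := (hz₁c (y ^ l) hyl).eq
      have c3 := (hz₁c ((x ^ l)⁻¹) (P.inv_mem hxl)).eq
      have c4 := (hz₁c ((y ^ l)⁻¹) (P.inv_mem hyl)).eq
      simp only [commutatorElement_def, mul_inv_rev]
      calc x ^ l * z₁ * (y ^ l * z₁) * (z₁⁻¹ * (x ^ l)⁻¹) * (z₁⁻¹ * (y ^ l)⁻¹)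
          = x ^ l * (z₁ * y ^ l) * (z₁ * z₁⁻¹) * (x ^ l)⁻¹ * z₁⁻¹ * (y ^ l)⁻¹ := by group
        _ = x ^ l * (y ^ l * z₁) * (x ^ l)⁻¹ * z₁⁻¹ * (y ^ l)⁻¹ := by
            rw [c2, mul_inv_cancel, mul_one]
        _ = x ^ l * y ^ l * (z₁ * (x ^ l)⁻¹) * z₁⁻¹ * (y ^ l)⁻¹ := by group
        _ = x ^ l * y ^ l * ((x ^ l)⁻¹ * z₁) * z₁⁻¹ * (y ^ l)⁻¹ := by rw [c3]
        _ = x ^ l * y ^ l * (x ^ l)⁻¹ * (y ^ l)⁻¹ := by group
    have hcomm1 : Commute ⁅x, y ^ l⁆ x := h.Zcen _ (h.comm x hxP _ hyl) x hxP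
    rw [e1, comm_pow_left' hcomm1 l, comm_pow_right' (hcen y hyP) l, ← pow_mul]
  rw [hx', hy', h2] at h1
  -- `l * l ≡ 1 (mod p)`
  have hoc : orderOf ⁅x, y⁆ = p := by
    have hd : orderOf ⁅x, y⁆ ∣ p := orderOf_dvd_of_pow_eq_one (h.exp _ (h.ZP hcZ))
    rcases (Nat.dvd_prime hp.out).mp hd with e | e
    · exact absurd (orderOf_eq_one_iff.mp e) hc1
    · exact e
  have hx1 : x ≠ 1 := fun e => hxZ (e ▸ Z.one_mem)
  have hox : orderOf x = p := by
    have hd : orderOf x ∣ p := orderOf_dvd_of_pow_eq_one (h.exp x hxP)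
    rcases (Nat.dvd_prime hp.out).mp hd with e | e
    · exact absurd (orderOf_eq_one_iff.mp e) hx1
    · exact e
  have hmod : l * l ≡ 1 [MOD p] := by
    have := (pow_eq_pow_iff_modEq (x := ⁅x, y⁆) (n := l * l) (m := 1)).mp (by rw [h1, pow_one])
    rwa [hoc] at this
  have hxll : x ^ (l * l) = x := by
    have := (pow_eq_pow_iff_modEq (x := x) (n := l * l) (m := 1)).mpr (by rw [hox]; exact hmod)
    rwa [pow_one] at this
  -- `k₂ := k₁ * k₁` moves `x` by an element of `Z`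
  have hk₁z₁ : k₁ * z₁ * k₁⁻¹ = z₁ := by rw [h.KZ k₁ hk₁ z₁ hz₁]; group
  have hk₂x : (k₁ * k₁) * x * (k₁ * k₁)⁻¹ = x * (z₁ ^ l * z₁) := by
    calc (k₁ * k₁) * x * (k₁ * k₁)⁻¹ = k₁ * (k₁ * x * k₁⁻¹) * k₁⁻¹ := by group
      _ = k₁ * (x ^ l * z₁) * k₁⁻¹ := by rw [hx']
      _ = (k₁ * x * k₁⁻¹) ^ l * (k₁ * z₁ * k₁⁻¹) := by rw [conj_pow]; group
      _ = (x ^ l * z₁) ^ l * z₁ := by rw [hx', hk₁z₁]
      _ = (x ^ l) ^ l * z₁ ^ l * z₁ := by
          rw [((hz₁c (x ^ l) (P.pow_mem hxP l)).symm).mul_pow]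
      _ = x * (z₁ ^ l * z₁) := by rw [← pow_mul, hxll, mul_assoc]
  have hz₀Z : z₁ ^ l * z₁ ∈ Z := Z.mul_mem (Z.pow_mem hz₁ l) hz₁
  have hk₂K : k₁ * k₁ ∈ K := K.mul_mem hk₁ hk₁
  have hk₂cop : (orderOf (k₁ * k₁)).Coprime p := by
    apply Nat.Coprime.coprime_dvd_left _ h.Kp
    have := orderOf_dvd_natCard (⟨k₁ * k₁, hk₂K⟩ : ↥K)
    rwa [Subgroup.orderOf_mk] at this
  have hz₀ : z₁ ^ l * z₁ = 1 :=
    eq_one_of_conj_eq_mul hk₂x (h.KZ _ hk₂K _ hz₀Z) (h.exp _ (h.ZP hz₀Z)) hk₂cop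
  rw [hz₀, mul_one] at hk₂x
  have hk₂comm : (k₁ * k₁) * x = x * (k₁ * k₁) := by
    calc (k₁ * k₁) * x = ((k₁ * k₁) * x * (k₁ * k₁)⁻¹) * (k₁ * k₁) := by group
      _ = x * (k₁ * k₁) := by rw [hk₂x]
  have hk₂1 : k₁ * k₁ = 1 := by
    by_contra hne
    exact hxZ (h.fix _ hk₂K hne x hxP hk₂comm)
  -- `k₁` has odd order
  have ho2 : orderOf k₁ ∣ 2 := orderOf_dvd_of_pow_eq_one (by rw [pow_two]; exact hk₂1)
  have hoK : orderOf k₁ ∣ Nat.card ↥K := by
    have := orderOf_dvd_natCard (⟨k₁, hk₁⟩ : ↥K)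
    rwa [Subgroup.orderOf_mk] at this
  have hodd : Odd (orderOf k₁) := Odd.of_dvd_nat h.Kodd hoK
  rcases (Nat.dvd_prime Nat.prime_two).mp ho2 with e | e
  · exact hk₁1 (orderOf_eq_one_iff.mp e)
  · rw [e] at hodd
    exact absurd hodd (by decide)

theorem ExspAct.ncard_line_diff (h : ExspAct p P Z K) {x : G} (hxP : x ∈ P) (hxZ : x ∉ Z) :
    {y | y ∈ line P x ∧ y ∉ Z}.ncard = p ^ 2 - p := by
  have hZle : (Z : Set G) ⊆ (line P x : Set G) := by
    intro z hz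
    exact mem_line.mpr ⟨h.ZP hz, h.Zcen z hz x hxP⟩
  have e : {y | y ∈ line P x ∧ y ∉ Z} = (line P x : Set G) \ (Z : Set G) := by
    ext y; simp
  rw [e, Set.ncard_sdiff hZle (Set.toFinite _)]
  have h1 : (line P x : Set G).ncard = p ^ 2 := by
    rw [← Nat.card_coe_set_eq]; exact h.card_line hxP hxZ
  have h2 : (Z : Set G).ncard = p := by
    rw [← Nat.card_coe_set_eq]; exact h.cardZ
  rw [h1, h2]

/-- **the dichotomy**: `|K|` divides `p - 1` or `p + 1` -/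
theorem ExspAct.card_dvd (h : ExspAct p P Z K) : Nat.card ↥K ∣ p - 1 ∨ Nat.card ↥K ∣ p + 1 := by
  have hp1 : 1 ≤ p := hp.out.pos
  by_cases hA : ∃ k₁ ∈ K, k₁ ≠ 1 ∧ ∃ x ∈ P, x ∉ Z ∧ k₁ * x * k₁⁻¹ ∈ line P x
  · left
    obtain ⟨k₁, hk₁, hk₁1, x, hxP, hxZ, hk₁x⟩ := hA
    have hall := h.conj_mem_line hk₁ hk₁1 hxP hxZ hk₁x
    letI : MulAction ↥K G :=
      { smul := fun k y => (k : G) * y * (k : G)⁻¹
        one_smul := fun y => by show ((1 : ↥K) : G) * y * ((1 : ↥K) : G)⁻¹ = y; simp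
        mul_smul := fun a b y => by
          show ((a * b : ↥K) : G) * y * ((a * b : ↥K) : G)⁻¹
            = (a : G) * ((b : G) * y * (b : G)⁻¹) * (a : G)⁻¹
          simp [mul_assoc] }
    have hsmul : ∀ (k : ↥K) (y : G), k • y = (k : G) * y * (k : G)⁻¹ := fun _ _ => rfl
    have hdvd := card_dvd_ncard_of_free (K := ↥K) {y | y ∈ line P x ∧ y ∉ Z} (Set.toFinite _)
      (by
        rintro k y ⟨hyl, hyZ⟩
        rw [hsmul]
        refine ⟨?_, h.conj_not_mem k.2 hyZ⟩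
        have hkx := hall k k.2
        have e1 := cj_line P (h.KP k.2) x
        rw [h.line_eq hxP hxZ hkx (h.conj_not_mem k.2 hxZ)] at e1
        rw [← e1]
        exact ⟨y, hyl, rfl⟩)
      (by
        rintro k y ⟨hyl, hyZ⟩ hky
        rw [hsmul] at hky
        by_contra hk1
        have hk1' : (k : G) ≠ 1 := fun e => hk1 (Subtype.ext e)
        apply hyZ
        apply h.fix k k.2 hk1' y (mem_line.mp hyl).1
        calc (k : G) * y = ((k : G) * y * (k : G)⁻¹) * k := by group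
          _ = y * k := by rw [hky])
    rw [h.ncard_line_diff hxP hxZ] at hdvd
    have e : p ^ 2 - p = p * (p - 1) := by
      rw [pow_two, Nat.mul_sub_one]
    rw [e] at hdvd
    exact (Nat.Coprime.dvd_mul_left h.Kp).mp hdvd
  · right
    push Not at hA
    set Ω : Set G := {x | x ∈ P ∧ x ∉ Z} with hΩ
    have hfib : ∀ L ∈ (line P) '' Ω, {x ∈ Ω | line P x = L}.ncard = p ^ 2 - p := by
      rintro L ⟨x₀, ⟨hx₀P, hx₀Z⟩, rfl⟩
      rw [← h.ncard_line_diff hx₀P hx₀Z]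
      congr 1
      ext x
      constructor
      · rintro ⟨⟨hxP, hxZ⟩, hxl⟩
        refine ⟨?_, hxZ⟩
        rw [← hxl]
        exact mem_line.mpr ⟨hxP, rfl⟩
      · rintro ⟨hxl, hxZ⟩
        exact ⟨⟨(mem_line.mp hxl).1, hxZ⟩, h.line_eq hx₀P hx₀Z hxl hxZ⟩
    have hcount := ncard_eq_mul_of_fibers Ω (Set.toFinite _) (line P) (p ^ 2 - p) hfib
    have hΩc : Ω.ncard = p ^ 3 - p := by
      have e : Ω = (P : Set G) \ (Z : Set G) := by
        ext y; simp [hΩ]
      rw [e, Set.ncard_sdiff (by exact_mod_cast h.ZP) (Set.toFinite _)]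
      have h1 : (P : Set G).ncard = p ^ 3 := by
        rw [← Nat.card_coe_set_eq]; exact h.cardP
      have h2 : (Z : Set G).ncard = p := by
        rw [← Nat.card_coe_set_eq]; exact h.cardZ
      rw [h1, h2]
    have hT : ((line P) '' Ω).ncard = p + 1 := by
      rw [hΩc] at hcount
      have hp2 : 2 ≤ p := hp.out.two_le
      have hpos : 0 < p ^ 2 - p := by
        have : p < p ^ 2 := by nlinarith
        omega
      have e : p ^ 3 - p = (p + 1) * (p ^ 2 - p) := by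
        have h3 : p ≤ p ^ 2 := by nlinarith
        have h4 : p ≤ p ^ 3 := by nlinarith [pow_pos hp.out.pos 3, pow_succ p 2]
        zify [h3, h4]
        ring
      rw [e] at hcount
      exact (Nat.eq_of_mul_eq_mul_right hpos hcount).symm
    letI : MulAction ↥K (Subgroup G) :=
      { smul := fun k L => L.map (MulAut.conj (k : G)).toMonoidHom
        one_smul := fun L => by
          show L.map (MulAut.conj ((1 : ↥K) : G)).toMonoidHom = L
          ext y; simp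
        mul_smul := fun a b L => by
          show L.map (MulAut.conj ((a * b : ↥K) : G)).toMonoidHom
            = (L.map (MulAut.conj (b : G)).toMonoidHom).map (MulAut.conj (a : G)).toMonoidHom
          ext y
          simp only [Subgroup.mem_map, MulEquiv.coe_toMonoidHom, MulAut.conj_apply,
            Subgroup.coe_mul, exists_exists_and_eq_and]
          constructor
          · rintro ⟨z, hz, rfl⟩; exact ⟨z, hz, by group⟩
          · rintro ⟨z, hz, rfl⟩; exact ⟨z, hz, by group⟩ }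
    have hsmul : ∀ (k : ↥K) (L : Subgroup G), k • L = L.map (MulAut.conj (k : G)).toMonoidHom :=
      fun _ _ => rfl
    have hdvd := card_dvd_ncard_of_free (K := ↥K) ((line P) '' Ω) (Set.toFinite _)
      (by
        rintro k L ⟨x, ⟨hxP, hxZ⟩, rfl⟩
        rw [hsmul, cj_line P (h.KP k.2) x]
        exact ⟨_, ⟨h.conj_mem k.2 hxP, h.conj_not_mem k.2 hxZ⟩, rfl⟩)
      (by
        rintro k L ⟨x, ⟨hxP, hxZ⟩, rfl⟩ hkL
        rw [hsmul, cj_line P (h.KP k.2) x] at hkL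
        by_contra hk1
        have hk1' : (k : G) ≠ 1 := fun e => hk1 (Subtype.ext e)
        apply hA k k.2 hk1' x hxP hxZ
        rw [← hkL]
        exact mem_line.mpr ⟨h.conj_mem k.2 hxP, rfl⟩)
    rwa [hT] at hdvd

end exsp

end Cfsg.Agent.Lib.Helper7.BG15P
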