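import Mathlib
import Cfsg.Agent.Lib.Helper7.BG14PG
import Cfsg.Agent.Lib.Helper7.BG15PA
import Cfsg.Agent.S1375
import Cfsg.Agent.S1426
import Cfsg.Agent.S1351
import Cfsg.Agent.S1352

/-!
# B&G Section 15 (helper7), part PB: Lemma 15.7P (lead's blueprint Part 23), first half:
`z ∈ M_σ` of prime order `p` with `C_G(z) ⊄ M`, `K ≠ 1`, `M_σ` nilpotent, `K* ≤ (M_σ)'`.
-/

set_option autoImplicit false
set_option linter.unusedSectionVars false
set_option linter.unusedVariables false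
set_option linter.style.haveILetI false
set_option maxHeartbeats 1000000
open Cfsg
open scoped commutatorElement Pointwise

namespace Cfsg.Agent.Lib.Helper7.BG15P

open Cfsg.Agent.Lib.Helper7 (IsSylowIn exists_isSylowIn_ge card_subgroupOf_of_le)
open Cfsg.Agent.Lib.Helper8.BGTen Cfsg.Agent.Lib.Helper4.BGTrans
open Cfsg.Agent.Lib.helper3.BG11 Cfsg.Agent.Lib.helper3.BG12 Cfsg.Agent.Lib.helper3.BG13
open Cfsg.Agent.Lib.Helper7.BG13 Cfsg.Agent.Lib.Helper7.BG14P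
open Cfsg.Agent.H2.BGU (Oq Op')

universe u

variable {G : Type u} [Group G] [Finite G]

/-- the configuration of Lemma 15.7P -/
structure Cfg (M K U : Subgroup G) (p : ℕ) (z : G) : Prop where
  coatom : IsCoatom M
  dec : Cfsg.IsSigmaDecomposition M K U
  K1 : K ≠ ⊥
  nil : Group.IsNilpotent ↥(Cfsg.sigmaCore M)
  Ks : Cfsg.sigmaCore M ⊓ Subgroup.centralizer (K : Set G) ≤
    ⁅Cfsg.sigmaCore M, Cfsg.sigmaCore M⁆
  zmem : z ∈ Cfsg.sigmaCore M
  zord : orderOf z = p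
  znot : ¬ Subgroup.centralizer ({z} : Set G) ≤ M

/-- the configuration together with the maximal subgroup `N ⊇ C_G(z)` -/
structure CfgN (M K U : Subgroup G) (p : ℕ) (z : G) (N : Subgroup G) : Prop
    extends Cfg M K U p z where
  coatomN : IsCoatom N
  CN : Subgroup.centralizer ({z} : Set G) ≤ N
  compl : Cfsg.IsComplIn (M ⊓ N) (Cfsg.sigmaCore N) N
  fixed : Cfsg.sigmaCore N ⊓ Subgroup.centralizer ({z} : Set G) ≠ ⊥
  decN : ∀ K' U' : Subgroup G, Cfsg.IsSigmaDecomposition N K' U' →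
    z ∈ Cfsg.sigmaA N U'

section cfg

variable {M K U N : Subgroup G} {p : ℕ} [hp : Fact p.Prime] {z : G}

theorem Cfg.z1 (h : Cfg M K U p z) : z ≠ 1 := by
  intro e
  have := h.zord
  rw [e, orderOf_one] at this
  exact hp.out.one_lt.ne this

theorem Cfg.zM (h : Cfg M K U p z) : z ∈ M := Cfsg.Agent.H2.BG11.sigmaCore_le M h.zmem

theorem Cfg.card_zpowers (h : Cfg M K U p z) : Nat.card ↥(Subgroup.zpowers z) = p := by
  rw [Nat.card_zpowers, h.zord]

theorem Cfg.mem_sigma (hG : Cfsg.IsMinSimpleOddOrder G) (h : Cfg M K U p z) :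
    p ∈ Cfsg.sigma M := by
  apply Cfsg.Agent.H2.BG11.mem_sigma_of_dvd_sigmaCore hG h.coatom hp.out
  rw [← h.card_zpowers]
  exact Subgroup.card_dvd_of_le ((Subgroup.zpowers_le).mpr h.zmem)

/-- S1375 gives `N` -/
theorem Cfg.exists_N (hG : Cfsg.IsMinSimpleOddOrder G) (h : Cfg M K U p z) :
    ∃ N : Subgroup G, CfgN M K U p z N := by
  obtain ⟨N, ⟨hN, hCN⟩, huniq, hNF, hnorm, hc1, hc2, hdec⟩ :=
    Cfsg.Agent.S1375.result hG M h.coatom z h.zmem h.z1 h.znot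
  have hfixed : Cfsg.sigmaCore N ⊓ Subgroup.centralizer ({z} : Set G) ≠ ⊥ := by
    intro h0
    apply h.znot
    intro c hc
    obtain ⟨a, ha, b, hb, rfl⟩ := hc1.2.2.2 c hc
    rw [h0, Subgroup.mem_bot] at hb
    rw [hb, mul_one]
    exact ha.1
  exact ⟨N, ⟨h, hN, hCN, hc2, hfixed, fun K' U' hd => (hdec K' U' hd).2.1⟩⟩

theorem CfgN.zN (h : CfgN M K U p z N) : z ∈ N :=
  h.CN (Subgroup.mem_centralizer_iff.mpr (fun y hy => by
    rw [Set.mem_singleton_iff] at hy; rw [hy]))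

theorem CfgN.not_mem_sigma_N (hG : Cfsg.IsMinSimpleOddOrder G) (h : CfgN M K U p z N) :
    p ∉ Cfsg.sigma N := by
  apply Cfsg.Agent.H2.BG12.not_mem_sigma_of_dvd_compl hG h.coatomN h.compl hp.out
  rw [← h.card_zpowers]
  exact Subgroup.card_dvd_of_le ((Subgroup.zpowers_le).mpr ⟨h.zM, h.zN⟩)

theorem centralizer_zpowers (z : G) :
    Subgroup.centralizer ((Subgroup.zpowers z : Subgroup G) : Set G) =
      Subgroup.centralizer ({z} : Set G) := by
  apply le_antisymm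
  · exact Subgroup.centralizer_le (by
      intro y hy
      rw [Set.mem_singleton_iff] at hy
      rw [hy]
      exact Subgroup.mem_zpowers z)
  · intro c hc
    rw [Subgroup.mem_centralizer_iff] at hc ⊢
    intro y hy
    obtain ⟨n, rfl⟩ := Subgroup.mem_zpowers_iff.mp hy
    have : Commute z c := hc z rfl
    exact (this.zpow_left n).eq

/-- **step 3**: `p ∈ τ₂(N)` -/
theorem CfgN.mem_tau2 (hG : Cfsg.IsMinSimpleOddOrder G) (h : CfgN M K U p z N) :
    p ∈ Cfsg.tau2 N := by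
  have hpσ := h.not_mem_sigma_N hG
  have hzN : Subgroup.zpowers z ≤ N := (Subgroup.zpowers_le).mpr h.zN
  have hpN : p ∣ Nat.card ↥N := by
    rw [← h.card_zpowers]; exact Subgroup.card_dvd_of_le hzN
  have hfix : Cfsg.sigmaCore N ⊓ Subgroup.centralizer ((Subgroup.zpowers z : Subgroup G) : Set G)
      ≠ ⊥ := by
    rw [centralizer_zpowers]; exact h.fixed
  have key : Cfsg.PRankLE p 1 ↥N → False := by
    intro hrk
    have hκ : p ∈ Cfsg.kappa N :=
      Cfsg.Agent.Lib.Helper4.BG14.mem_kappa_of_fixed hG hpσ hrk hzN h.card_zpowers hfix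
    obtain ⟨⟨K', hK'⟩, hcyc⟩ := Cfsg.Agent.S1351.result hG N h.coatomN
    obtain ⟨⟨U', hd⟩, -⟩ := Cfsg.Agent.S1352.result hG N h.coatomN K' (hcyc K' hK') hK'
    have hzA := (h.decN K' U' hd).2
    have hzle : Subgroup.zpowers z ≤ U' ⊔ Cfsg.sigmaCore N := (Subgroup.zpowers_le).mpr hzA
    have hd1 : p ∣ Nat.card ↥(U' ⊔ Cfsg.sigmaCore N) := by
      rw [← h.card_zpowers]; exact Subgroup.card_dvd_of_le hzle
    have hUn : U' ≤ Subgroup.normalizer (Cfsg.sigmaCore N : Set G) :=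
      hd.compl.1.trans (Cfsg.Agent.H2.BG11.le_normalizer_sigmaCore N)
    have h1 := Cfsg.Agent.H1.card_sup_mul_card_inf U' (Cfsg.sigmaCore N) hUn
    have h2 : p ∣ Nat.card ↥U' * Nat.card ↥(Cfsg.sigmaCore N) := by
      rw [← h1]; exact Dvd.dvd.mul_right hd1 _
    rcases (Nat.Prime.dvd_mul hp.out).mp h2 with h3 | h3
    · exact Cfsg.Agent.H2.BG12.not_mem_kappa_of_dvd_U hd hp.out h3 hκ
    · exact hpσ (Cfsg.Agent.H2.BG11.mem_sigma_of_dvd_sigmaCore hG h.coatomN hp.out h3)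
  rcases Cfsg.Agent.H2.BG13.tau_cases hG h.coatomN hp.out hpN hpσ with h1 | h2 | h3
  · exact (key h1.2.2.2.2).elim
  · exact h2
  · exact (key h3.2.2.2).elim

/-- if some Sylow `p`-subgroup of `G` is nonabelian then all are -/
theorem forall_sylow_not_comm {P : Subgroup G} (hP : IsSylowIn p P ⊤)
    (hnc : ¬ ∀ a ∈ P, ∀ b ∈ P, a * b = b * a) :
    ∀ S : Sylow p G, ¬ IsMulCommutative ↥(S : Subgroup G) := by
  intro S hS
  apply hnc
  have hc : Nat.card ↥P = p ^ (Nat.card G).factorization p := by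
    have := hP.2
    rwa [Subgroup.card_top] at this
  obtain ⟨g, hg⟩ := MulAction.exists_smul_eq G S (Sylow.ofCard P hc)
  have hmem : ∀ a ∈ P, ∃ s ∈ (S : Subgroup G), a = g * s * g⁻¹ := by
    intro a ha
    have h1 : a ∈ ((g • S : Sylow p G) : Subgroup G) := by
      rw [hg]; exact ha
    rw [Sylow.coe_subgroup_smul, Subgroup.mem_smul_pointwise_iff_exists] at h1
    obtain ⟨s, hs, rfl⟩ := h1
    exact ⟨s, hs, by simp [MulAut.smul_def]⟩
  intro a ha b hb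
  obtain ⟨s, hs, rfl⟩ := hmem a ha
  obtain ⟨t, ht, rfl⟩ := hmem b hb
  have : s * t = t * s := congrArg Subtype.val (hS.is_comm.comm (⟨s, hs⟩ : ↥(S : Subgroup G)) ⟨t, ht⟩)
  calc g * s * g⁻¹ * (g * t * g⁻¹) = g * (s * t) * g⁻¹ := by group
    _ = g * (t * s) * g⁻¹ := by rw [this]
    _ = g * t * g⁻¹ * (g * s * g⁻¹) := by group

theorem Cfg.not_mem_beta (hG : Cfsg.IsMinSimpleOddOrder G) (h : Cfg M K U p z) :
    p ∉ Cfsg.beta M := by
  obtain ⟨g, hgC, hgM⟩ := SetLike.not_le_iff_exists.mp h.znot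
  obtain ⟨E, hE⟩ := exists_compl hG h.coatom
  have h26 := ((Cfsg.Agent.S1426.result hG M h.coatom E hE).2.2 g hgM).2.1
  apply h26 p hp.out
  rw [← h.card_zpowers]
  apply Subgroup.card_dvd_of_le
  rw [Subgroup.zpowers_le]
  refine ⟨h.zmem, ?_⟩
  have hgz : g * z = z * g := (Subgroup.mem_centralizer_iff.mp hgC z rfl).symm
  refine ⟨z, h.zM, ?_⟩
  simp only [MulEquiv.coe_toMonoidHom, MulAut.conj_apply]
  rw [hgz]; group

theorem Cfg.sylow (h : Cfg M K U p z) :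
    IsSylowIn p (Oq p (Cfsg.sigmaCore M)) (Cfsg.sigmaCore M) :=
  Cfsg.Agent.H1.BG11c.sylIn_Oq_of_nilpotent h.nil p

theorem Cfg.sylowTop (hG : Cfsg.IsMinSimpleOddOrder G) (h : Cfg M K U p z) :
    IsSylowIn p (Oq p (Cfsg.sigmaCore M)) ⊤ :=
  Cfsg.Agent.H2.BG11.sylIn_top_of_not_dvd_index h.sylow
    ((Cfsg.Agent.H2.BG11.sigmaCore_hall hG h.coatom).2 p hp.out (h.mem_sigma hG))

theorem Cfg.sylowM (hG : Cfsg.IsMinSimpleOddOrder G) (h : Cfg M K U p z) :
    IsSylowIn p (Oq p (Cfsg.sigmaCore M)) M := by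
  have hσM := Cfsg.Agent.H2.BG11.sigmaCore_le M
  apply sylIn_of_not_dvd (h.sylow.1.trans hσM) h.sylow.isPGroup
  rw [← Subgroup.relIndex_mul_relIndex _ (Cfsg.sigmaCore M) M h.sylow.1 hσM]
  intro hd
  rcases (Nat.Prime.dvd_mul hp.out).mp hd with h4 | h4
  · exact Cfsg.Agent.Lib.Helper8.BGTen.not_dvd_relIndex_of_sylIn h.sylow h4
  · exact (Cfsg.Agent.H2.BG11.sigmaCore_hallOf hG h.coatom).2.2 p hp.out (h.mem_sigma hG) h4

theorem Cfg.z_mem_P (h : Cfg M K U p z) : z ∈ Oq p (Cfsg.sigmaCore M) := by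
  have h1 : Subgroup.zpowers z ≤ Oq p (Cfsg.sigmaCore M) :=
    Cfsg.Agent.H2.BGU.le_Oq_of_isPGroup h.nil ((Subgroup.zpowers_le).mpr h.zmem)
      (IsPGroup.of_card (n := 1) (by rw [h.card_zpowers, pow_one]))
  exact h1 (Subgroup.mem_zpowers z)

/-- the Sylow `p`-subgroup of `M_σ` is narrow -/
theorem Cfg.narrow (hG : Cfsg.IsMinSimpleOddOrder G) (h : Cfg M K U p z) :
    Cfsg.IsNarrow p ↥(Oq p (Cfsg.sigmaCore M)) := by
  have hS := h.sylowM hG
  obtain ⟨R, hR⟩ := hS.exists_sylow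
  have hpM : p ∣ Nat.card ↥M := (h.mem_sigma hG).2.1
  have hnarR := Cfsg.Agent.Lib.Helper5.BGBeta.sylow_narrow hG (uT hG) h.coatom hpM
    (h.not_mem_beta hG) R
  rw [hR] at hnarR
  exact Cfsg.Agent.Lib.Helper5.BGBeta.isNarrow_of_mulEquiv (Subgroup.subgroupOfEquivOfLe hS.1) hnarR

/-- `O_{p'}(M_σ)` centralizes `O_p(M_σ)` -/
theorem Op'_le_centralizer_Oq (H : Subgroup G) :
    Op' p H ≤ Subgroup.centralizer (Oq p H : Set G) := by
  have hdisj : Op' p H ⊓ Oq p H = ⊥ := by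
    apply (Subgroup.disjoint_of_coprime_natCard ?_).eq_bot
    obtain ⟨n, hn⟩ := (Cfsg.Agent.H2.BGU.isPGroup_Oq hp.out H).exists_card_eq
    rw [hn]
    exact (Nat.Coprime.pow_left n (Cfsg.Agent.H2.BGU.coprime_card_Op' p H)).symm
  intro d hd
  rw [Subgroup.mem_centralizer_iff]
  intro a ha
  have hdH : d ∈ H := Cfsg.Agent.H2.BGU.Op'_le p H hd
  have haH : a ∈ H := Cfsg.Agent.H2.BGU.Oq_le p H ha
  have h1 : d * a * d⁻¹ * a⁻¹ ∈ Oq p H := by
    have := (Subgroup.mem_normalizer_iff.mp (Cfsg.Agent.H2.BGU.le_normalizer_Oq p H hdH) a).mp ha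
    exact (Oq p H).mul_mem this ((Oq p H).inv_mem ha)
  have h2 : d * a * d⁻¹ * a⁻¹ ∈ Op' p H := by
    have := (Subgroup.mem_normalizer_iff.mp (Cfsg.Agent.H2.BGU.le_normalizer_Op' p H haH) d⁻¹).mp
      ((Op' p H).inv_mem hd)
    have e : d * a * d⁻¹ * a⁻¹ = d * (a * d⁻¹ * a⁻¹) := by group
    rw [e]
    exact (Op' p H).mul_mem hd this
  have h3 : d * a * d⁻¹ * a⁻¹ ∈ Op' p H ⊓ Oq p H := ⟨h2, h1⟩
  rw [hdisj, Subgroup.mem_bot] at h3
  calc a * d = (d * a * d⁻¹ * a⁻¹)⁻¹ * (d * a) := by group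
    _ = d * a := by rw [h3, inv_one, one_mul]

/-- `O_q(H) ≤ O_{p'}(H)` for `q ≠ p` -/
theorem Oq_le_Op' {q : ℕ} (hq : q.Prime) (hqp : q ≠ p) (H : Subgroup G) : Oq q H ≤ Op' p H := by
  apply Cfsg.Agent.H2.BGU.le_Op' (Cfsg.Agent.H2.BGU.Oq_le q H)
    (Cfsg.Agent.H2.BGU.le_normalizer_Oq q H)
  haveI : Fact q.Prime := ⟨hq⟩
  obtain ⟨n, hn⟩ := (Cfsg.Agent.H2.BGU.isPGroup_Oq hq H).exists_card_eq
  rw [hn]
  exact Nat.Coprime.pow_right n ((Nat.coprime_primes hp.out hq).mpr (Ne.symm hqp))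

/-- a nilpotent `H` is `O_p(H) O_{p'}(H)` -/
theorem le_Oq_sup_Op' {H : Subgroup G} (hH : Group.IsNilpotent ↥H) : H ≤ Oq p H ⊔ Op' p H := by
  apply Cfsg.Agent.H2.BGU.le_of_forall_Oq_le hH
  intro q hq
  by_cases hqp : q = p
  · rw [hqp]; exact le_sup_left
  · exact (Oq_le_Op' hq hqp H).trans le_sup_right

theorem Cfg.P_le_centralizer_of_comm (h : Cfg M K U p z)
    (hab : ∀ a ∈ Oq p (Cfsg.sigmaCore M), ∀ b ∈ Oq p (Cfsg.sigmaCore M), a * b = b * a) :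
    Cfsg.sigmaCore M ≤ Subgroup.centralizer ({z} : Set G) := by
  apply Cfsg.Agent.H2.BGU.le_of_forall_Oq_le h.nil
  intro q hq
  by_cases hqp : q = p
  · rw [hqp]
    intro a ha
    rw [Subgroup.mem_centralizer_iff]
    intro y hy
    rw [Set.mem_singleton_iff] at hy
    rw [hy]
    exact hab z h.z_mem_P a ha
  · refine ((Oq_le_Op' hq hqp _).trans (Op'_le_centralizer_Oq _)).trans ?_
    apply Subgroup.centralizer_le
    intro y hy
    rw [Set.mem_singleton_iff] at hy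
    rw [hy]
    exact h.z_mem_P

/-- `O_{p'}(M_σ) ≤ M ∩ N` -/
theorem CfgN.Op'_le (h : CfgN M K U p z N) : Op' p (Cfsg.sigmaCore M) ≤ M ⊓ N := by
  refine le_inf ((Cfsg.Agent.H2.BGU.Op'_le p _).trans (Cfsg.Agent.H2.BG11.sigmaCore_le M)) ?_
  refine le_trans ((Op'_le_centralizer_Oq _).trans ?_) h.CN
  apply Subgroup.centralizer_le
  intro y hy
  rw [Set.mem_singleton_iff] at hy
  rw [hy]
  exact h.z_mem_P

/-- **step 5**: the Sylow `p`-subgroup `P` of `M_σ` is not abelian -/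
theorem CfgN.not_comm (hG : Cfsg.IsMinSimpleOddOrder G) (h : CfgN M K U p z N) :
    ¬ ∀ a ∈ Oq p (Cfsg.sigmaCore M), ∀ b ∈ Oq p (Cfsg.sigmaCore M), a * b = b * a := by
  intro hab
  have hHC := h.toCfg.P_le_centralizer_of_comm hab
  have hHE : Cfsg.sigmaCore M ≤ M ⊓ N :=
    le_inf (Cfsg.Agent.H2.BG11.sigmaCore_le M) (hHC.trans h.CN)
  have h20 := (Cfsg.Agent.S1420.result hG N h.coatomN (M ⊓ N) h.compl).1 (Cfsg.sigmaCore M)
    (hHE.trans inf_le_right) h.nil (by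
      intro q hq hd
      exact Cfsg.Agent.H2.BG12.not_mem_sigma_of_dvd_compl hG h.coatomN h.compl hq
        (hd.trans (Subgroup.card_dvd_of_le hHE)))
  have hcomm := comm_of_isMulCommutative h20
  have hbot : ⁅Cfsg.sigmaCore M, Cfsg.sigmaCore M⁆ = ⊥ := by
    rw [Subgroup.commutator_eq_bot_iff_le_centralizer]
    intro a ha
    rw [Subgroup.mem_centralizer_iff]
    intro b hb
    exact hcomm b hb a ha
  apply Cfsg.Agent.Lib.helper3.BG14.Kst_ne_bot hG h.coatom h.dec.hall h.K1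
  apply le_bot_iff.mp
  rw [← hbot]
  exact h.Ks

/-- **step 6**: `τ₂(N) = {p}` -/
theorem CfgN.tau2_eq (hG : Cfsg.IsMinSimpleOddOrder G) (h : CfgN M K U p z N) :
    Cfsg.tau2 N = {p} := by
  have hpτ := h.mem_tau2 hG
  obtain ⟨A, hAE, hAe, hAc⟩ := exists_elementary_sq_le_compl hG h.coatomN h.compl hpτ
  exact (Cfsg.Agent.S1419.result hG N h.coatomN (M ⊓ N) h.compl p hpτ
    (forall_sylow_not_comm (h.toCfg.sylowTop hG) (h.not_comm hG)) A ⟨hAE, hAe, hAc⟩).1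

/-- **step 6**: `O_{p'}(M_σ)` is cyclic -/
theorem CfgN.isCyclic_Op' (hG : Cfsg.IsMinSimpleOddOrder G) (h : CfgN M K U p z N) :
    IsCyclic ↥(Op' p (Cfsg.sigmaCore M)) := by
  set D := Op' p (Cfsg.sigmaCore M) with hD
  have hDE : D ≤ M ⊓ N := h.Op'_le
  have hDN : D ≤ N := hDE.trans inf_le_right
  haveI hDnil : Group.IsNilpotent ↥D :=
    Cfsg.Agent.H2.BGU.isNilpotent_of_le h.nil (Cfsg.Agent.H2.BGU.Op'_le p _)
  haveI : IsZGroup ↥D := by
    refine ⟨fun q hq Q => ?_⟩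
    haveI : Fact q.Prime := ⟨hq⟩
    by_cases hQ1 : (Q : Subgroup ↥D) = ⊥
    · rw [hQ1]; infer_instance
    have hqd : q ∣ Nat.card ↥D := by
      have h1 : q ∣ Nat.card ↥(Q : Subgroup ↥D) := by
        obtain ⟨n, hn⟩ := Q.isPGroup'.exists_card_eq
        rw [hn]
        refine dvd_pow_self q ?_
        rintro rfl
        rw [pow_zero] at hn
        exact hQ1 (Subgroup.card_eq_one.mp hn)
      exact h1.trans (Subgroup.card_subgroup_dvd_card _)
    have hqp : q ≠ p := by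
      rintro rfl
      have := Cfsg.Agent.H2.BGU.coprime_card_Op' q (Cfsg.sigmaCore M)
      rw [Nat.Prime.coprime_iff_not_dvd hq] at this
      exact this hqd
    have hqN : q ∣ Nat.card ↥N := hqd.trans (Subgroup.card_dvd_of_le hDN)
    have hqσ : q ∉ Cfsg.sigma N :=
      Cfsg.Agent.H2.BG12.not_mem_sigma_of_dvd_compl hG h.coatomN h.compl hq
        (hqd.trans (Subgroup.card_dvd_of_le hDE))
    have hrk : Cfsg.PRankLE q 1 ↥N := by
      rcases Cfsg.Agent.H2.BG13.tau_cases hG h.coatomN hq hqN hqσ with h1 | h2 | h3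
      · exact h1.2.2.2.2
      · rw [h.tau2_eq hG, Set.mem_singleton_iff] at h2
        exact absurd h2 hqp
      · exact h3.2.2.2
    exact Cfsg.Agent.Lib.Helper4.BGTw.isCyclic_sub_of_pRankLE_one hG hDN hrk (Q : Subgroup ↥D)
      Q.isPGroup'
  infer_instance

/-- `|K|` is prime to `|M_σ|` -/
theorem Cfg.coprime_K (hG : Cfsg.IsMinSimpleOddOrder G) (h : Cfg M K U p z) :
    (Nat.card ↥K).Coprime (Nat.card ↥(Cfsg.sigmaCore M)) :=
  coprime_sigmaCore_of_forall hG h.coatom (Y := K) (fun q hq hd => (h.dec.hall.2.1 q hq hd).2.2.1)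

theorem Cfg.K_le_normalizer_Oq (h : Cfg M K U p z) (q : ℕ) :
    K ≤ Subgroup.normalizer (Oq q (Cfsg.sigmaCore M) : Set G) :=
  (h.dec.hall.1.trans (Cfsg.Agent.H2.BG11.le_normalizer_sigmaCore M)).trans
    (Cfsg.Agent.H2.BGU.normalizer_le_normalizer_Oq q _)

/-- no Sylow subgroup of `M_σ` lies in `K*` (S1431(3)) -/
theorem Cfg.not_sylow_le (hG : Cfsg.IsMinSimpleOddOrder G) (h : Cfg M K U p z) {q : ℕ}
    [hq : Fact q.Prime] {Q : Subgroup G} (hQ : IsSylowIn q Q (Cfsg.sigmaCore M))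
    (hqd : q ∣ Nat.card ↥(Cfsg.sigmaCore M ⊓ Subgroup.centralizer (K : Set G))) :
    ¬ Q ≤ Cfsg.sigmaCore M ⊓ Subgroup.centralizer (K : Set G) := by
  obtain ⟨R, hR⟩ := hQ.exists_sylow
  have h31 := ((Cfsg.Agent.S1431.result hG M h.coatom K h.dec.hall h.K1).2.2.1 q hq.out hqd R).2.2
  rwa [hR, Subgroup.map_subgroupOf_eq_of_le hQ.1] at h31

/-- **step 7a**: `K* ≤ P` -/
theorem CfgN.Kst_le_P (hG : Cfsg.IsMinSimpleOddOrder G) (h : CfgN M K U p z N) :
    Cfsg.sigmaCore M ⊓ Subgroup.centralizer (K : Set G) ≤ Oq p (Cfsg.sigmaCore M) := by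
  set Ks := Cfsg.sigmaCore M ⊓ Subgroup.centralizer (K : Set G) with hKs
  have hprime : ∀ q : ℕ, q.Prime → q ∣ Nat.card ↥Ks → q = p := by
    intro q hq hqd
    by_contra hqp
    haveI : Fact q.Prime := ⟨hq⟩
    set Q := Oq q (Cfsg.sigmaCore M) with hQdef
    have hQD : Q ≤ Op' p (Cfsg.sigmaCore M) := Oq_le_Op' hq hqp _
    haveI := h.isCyclic_Op' hG
    haveI hQcyc : IsCyclic ↥Q := Subgroup.isCyclic_of_le hQD
    have hQsyl : IsSylowIn q Q (Cfsg.sigmaCore M) :=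
      Cfsg.Agent.H1.BG11c.sylIn_Oq_of_nilpotent h.nil q
    obtain ⟨x, hx⟩ := exists_prime_orderOf_dvd_card' (G := ↥Ks) q hqd
    set X := Subgroup.zpowers (x : G) with hX
    have hXc : Nat.card ↥X = q := by
      rw [Nat.card_zpowers, Subgroup.orderOf_coe, hx]
    have hXKs : X ≤ Ks := (Subgroup.zpowers_le).mpr x.2
    have hXQ : X ≤ Q :=
      Cfsg.Agent.H2.BGU.le_Oq_of_isPGroup h.nil (hXKs.trans inf_le_left)
        (IsPGroup.of_card (n := 1) (by rw [hXc, pow_one]))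
    haveI : IsMulCommutative ↥Q := IsCyclic.isMulCommutative
    have hcop : (Nat.card ↥K).Coprime (Nat.card ↥Q) :=
      Nat.Coprime.coprime_dvd_right (Subgroup.card_dvd_of_le hQsyl.1) (h.toCfg.coprime_K hG)
    have hKQ := Cfsg.Agent.S0056.result K Q (h.toCfg.K_le_normalizer_Oq q) hcop (by
      intro v hv hvp a ha
      have hvq : orderOf v = q := by
        have h1 : orderOf v ∣ Nat.card ↥Q := by
          have := orderOf_dvd_natCard (⟨v, hv⟩ : ↥Q)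
          rwa [Subgroup.orderOf_mk] at this
        obtain ⟨n, hn⟩ := hQsyl.isPGroup.exists_card_eq
        rw [hn] at h1
        exact (Nat.prime_dvd_prime_iff_eq hvp hq).mp (hvp.dvd_of_dvd_pow h1)
      have hvX : Subgroup.zpowers v = X :=
        eq_of_card_eq_of_le_cyclic hQcyc ((Subgroup.zpowers_le).mpr hv) hXQ
          (by rw [Nat.card_zpowers, hvq, hXc])
      have hvKs : v ∈ Ks := hXKs (hvX ▸ Subgroup.mem_zpowers v)
      exact (Subgroup.mem_centralizer_iff.mp hvKs.2 a ha))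
    apply h.toCfg.not_sylow_le hG hQsyl hqd
    refine le_inf hQsyl.1 ?_
    intro y hy
    rw [Subgroup.mem_centralizer_iff]
    intro a ha
    exact (Subgroup.mem_centralizer_iff.mp (hKQ ha) y hy).symm
  have hpg : IsPGroup p ↥Ks := by
    have := Nat.eq_prime_pow_of_unique_prime_dvd (n := Nat.card ↥Ks) (p := p) Nat.card_pos.ne'
      (fun {d} hd hdd => hprime d hd hdd)
    exact IsPGroup.of_card this
  exact Cfsg.Agent.H2.BGU.le_Oq_of_isPGroup h.nil inf_le_left hpg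

theorem comm_mul_central {a b c d : G} (hca : Commute c a) (hcb : Commute c b)
    (hcd : Commute c d) (hda : Commute d a) (hdb : Commute d b) : ⁅a * c, b * d⁆ = ⁅a, b⁆ := by
  have h1 : c * b * d * c⁻¹ = b * d := by
    have : Commute c (b * d) := hcb.mul_right hcd
    rw [mul_assoc c b d, this.eq]; group
  have h2 : d * a⁻¹ * d⁻¹ = a⁻¹ := by
    rw [(hda.inv_right).eq]; group
  calc ⁅a * c, b * d⁆ = a * (c * b * d * c⁻¹) * a⁻¹ * d⁻¹ * b⁻¹ := by
        simp only [commutatorElement_def]; group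
    _ = a * b * (d * a⁻¹ * d⁻¹) * b⁻¹ := by rw [h1]; group
    _ = ⁅a, b⁆ := by rw [h2, commutatorElement_def]

/-- **step 7b**: `K* ≤ P'` -/
theorem CfgN.Kst_le_commutator (hG : Cfsg.IsMinSimpleOddOrder G) (h : CfgN M K U p z N) :
    Cfsg.sigmaCore M ⊓ Subgroup.centralizer (K : Set G) ≤
      ⁅Oq p (Cfsg.sigmaCore M), Oq p (Cfsg.sigmaCore M)⁆ := by
  refine h.Ks.trans ?_
  set P := Oq p (Cfsg.sigmaCore M) with hP
  set D := Op' p (Cfsg.sigmaCore M) with hD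
  have hDP : D ≤ Subgroup.centralizer (P : Set G) := Op'_le_centralizer_Oq _
  haveI := h.isCyclic_Op' hG
  have hDab : ∀ a ∈ D, ∀ b ∈ D, a * b = b * a := by
    intro a ha b hb
    have hc : IsMulCommutative ↥D := IsCyclic.isMulCommutative
    exact congrArg Subtype.val (hc.is_comm.comm (⟨a, ha⟩ : ↥D) ⟨b, hb⟩)
  have hdec : ∀ g ∈ Cfsg.sigmaCore M, ∃ a ∈ P, ∃ d ∈ D, g = a * d := by
    intro g hg
    exact exists_mul_of_mem_sup (hDP.trans (Subgroup.centralizer_le_normalizer _))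
      (le_Oq_sup_Op' h.nil hg)
  rw [Subgroup.commutator_le]
  intro g₁ hg₁ g₂ hg₂
  obtain ⟨a₁, ha₁, d₁, hd₁, rfl⟩ := hdec g₁ hg₁
  obtain ⟨a₂, ha₂, d₂, hd₂, rfl⟩ := hdec g₂ hg₂
  have c1 : Commute d₁ a₁ := (Subgroup.mem_centralizer_iff.mp (hDP hd₁) a₁ ha₁).symm
  have c2 : Commute d₁ a₂ := (Subgroup.mem_centralizer_iff.mp (hDP hd₁) a₂ ha₂).symm
  have c3 : Commute d₁ d₂ := hDab d₁ hd₁ d₂ hd₂
  have c4 : Commute d₂ a₁ := (Subgroup.mem_centralizer_iff.mp (hDP hd₂) a₁ ha₁).symm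
  have c5 : Commute d₂ a₂ := (Subgroup.mem_centralizer_iff.mp (hDP hd₂) a₂ ha₂).symm
  rw [comm_mul_central c1 c2 c3 c4 c5]
  exact Subgroup.commutator_mem_commutator ha₁ ha₂

/-- `C_P(k) ≤ K*` for `k ∈ K^#` -/
theorem Cfg.fix (hG : Cfsg.IsMinSimpleOddOrder G) (h : Cfg M K U p z) {k : G} (hk : k ∈ K)
    (hk1 : k ≠ 1) {x : G} (hx : x ∈ Cfsg.sigmaCore M) (hkx : k * x = x * k) :
    x ∈ Cfsg.sigmaCore M ⊓ Subgroup.centralizer (K : Set G) := by
  rw [← (Cfsg.Agent.S1430.result hG M h.coatom K h.dec.hall h.K1).1 k hk hk1]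
  refine ⟨hx, ?_⟩
  show x ∈ Subgroup.centralizer ({k} : Set G)
  rw [Subgroup.mem_centralizer_iff]
  intro y hy
  rw [Set.mem_singleton_iff] at hy
  rw [hy, hkx]

/-- `K` acts faithfully on `P` -/
theorem Cfg.faithful (hG : Cfsg.IsMinSimpleOddOrder G) (h : Cfg M K U p z) :
    K ⊓ Subgroup.centralizer (Oq p (Cfsg.sigmaCore M) : Set G) = ⊥ := by
  rw [Subgroup.eq_bot_iff_forall]
  rintro k ⟨hk, hkP⟩
  by_contra hk1
  have hPKs : Oq p (Cfsg.sigmaCore M) ≤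
      Cfsg.sigmaCore M ⊓ Subgroup.centralizer (K : Set G) := by
    intro x hx
    exact h.fix hG hk hk1 (Cfsg.Agent.H2.BGU.Oq_le p _ hx)
      (Subgroup.mem_centralizer_iff.mp hkP x hx).symm
  apply h.not_sylow_le hG h.sylow _ hPKs
  have hP1 : Oq p (Cfsg.sigmaCore M) ≠ ⊥ := fun e => h.z1 (by
    have := h.z_mem_P
    rwa [e, Subgroup.mem_bot] at this)
  exact (dvd_card_of_pgroup h.sylow.isPGroup hP1).trans (Subgroup.card_dvd_of_le hPKs)

end cfg

end Cfsg.Agent.Lib.Helper7.BG15P
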