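import Mathlib
import Cfsg.Agent.H1.Class2
import Cfsg.Agent.H1.PGroup
import Cfsg.Agent.Lib.Helper7.Core
import Cfsg.Prelude.Def_Transfer

set_option autoImplicit false

namespace Cfsg.Agent.Lib.Helper7.EssChain

/-- The data of a characteristic chain `1 < X < Y < H` with factors of order `p`. -/
def HasChain3 (p : ℕ) (H : Type*) [Group H] : Prop :=
  ∃ X Y : Subgroup H, X.Normal ∧ Y.Normal ∧ X ≤ Y ∧ Nat.card X = p ∧ Nat.card Y = p ^ 2 ∧
    (∀ α : MulAut H, ∀ x ∈ X, α x ∈ X) ∧ (∀ α : MulAut H, ∀ x ∈ Y, α x ∈ Y)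

/-- The `n`-th power map of a commutative group. -/
def powHom {H : Type*} [Group H] (hcomm : ∀ a b : H, a * b = b * a) (n : ℕ) : H →* H where
  toFun x := x ^ n
  map_one' := one_pow n
  map_mul' x y := (show Commute x y from hcomm x y).mul_pow n

theorem normal_of_comm {H : Type*} [Group H] (hcomm : ∀ a b : H, a * b = b * a) (K : Subgroup H) :
    K.Normal :=
  ⟨fun x hx g => by rw [hcomm g x, mul_inv_cancel_right]; exact hx⟩

theorem card_eq_pow_of_dvd {p n a : ℕ} (hp : p.Prime) (h : a ∣ p ^ n) : ∃ m ≤ n, a = p ^ m :=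
  (Nat.dvd_prime_pow hp).mp h

/-- Abelian groups of order `p³` that are not elementary abelian have a characteristic chain. -/
theorem hasChain3_of_comm {H : Type*} [Group H] [Finite H] (p : ℕ) [Fact p.Prime]
    (hH : Nat.card H = p ^ 3) (hcomm : ∀ a b : H, a * b = b * a) (hexp : ¬ ∀ x : H, x ^ p = 1) :
    HasChain3 p H := by
  have hp : p.Prime := Fact.out
  set f := powHom hcomm p with hf
  have hfx : ∀ x, f x = x ^ p := fun x => rfl
  have hKinv : ∀ α : MulAut H, ∀ x ∈ f.ker, α x ∈ f.ker := by
    intro α x hx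
    rw [MonoidHom.mem_ker, hfx] at hx ⊢
    rw [← map_pow, hx, map_one]
  have hIinv : ∀ α : MulAut H, ∀ x ∈ f.range, α x ∈ f.range := by
    rintro α _ ⟨z, rfl⟩
    exact ⟨α z, by rw [hfx, hfx, map_pow]⟩
  have hcard : Nat.card f.ker * Nat.card f.range = p ^ 3 := by
    rw [← Subgroup.index_ker, Subgroup.card_mul_index, hH]
  obtain ⟨a, ha3, ha⟩ := card_eq_pow_of_dvd hp (Dvd.intro _ hcard)
  have hne_top : f.ker ≠ ⊤ := by
    intro h
    apply hexp
    intro x
    have : x ∈ f.ker := by rw [h]; exact Subgroup.mem_top x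
    exact this
  have hne_bot : f.ker ≠ ⊥ := by
    intro h
    obtain ⟨x, hx⟩ := exists_prime_orderOf_dvd_card' (G := H) p (by rw [hH]; exact dvd_pow_self p (by norm_num))
    have hxk : x ∈ f.ker := by
      rw [MonoidHom.mem_ker, hfx, ← hx, pow_orderOf_eq_one]
    rw [h, Subgroup.mem_bot] at hxk
    rw [hxk, orderOf_one] at hx
    exact hp.one_lt.ne hx
  have ha0 : a ≠ 0 := by
    intro h0
    rw [h0, pow_zero] at ha
    exact hne_bot (Subgroup.card_eq_one.mp ha)
  have ha3' : a ≠ 3 := by
    intro h3
    rw [h3, ← hH] at ha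
    exact hne_top ((Subgroup.card_eq_iff_eq_top _).mp ha)
  have hcardI : Nat.card f.range = p ^ (3 - a) := by
    rw [ha] at hcard
    have : p ^ a * p ^ (3 - a) = p ^ 3 := by rw [← pow_add]; congr 1; omega
    rw [← this] at hcard
    exact Nat.eq_of_mul_eq_mul_left (pow_pos hp.pos a) hcard
  have ha12 : a = 1 ∨ a = 2 := by omega
  rcases ha12 with rfl | rfl
  · -- |K| = p, |I| = p^2
    rw [pow_one] at ha
    have hI2 : Nat.card f.range = p ^ 2 := hcardI
    obtain ⟨y, hy⟩ := exists_prime_orderOf_dvd_card' (G := f.range) p (by rw [hI2]; exact dvd_pow_self p (by norm_num))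
    have hy' : orderOf (y : H) = p := by rw [Subgroup.orderOf_coe]; exact hy
    have hyk : (y : H) ∈ f.ker := by
      rw [MonoidHom.mem_ker, hfx, ← hy', pow_orderOf_eq_one]
    have hzk : Subgroup.zpowers (y : H) = f.ker := by
      apply Subgroup.eq_of_le_of_card_ge (Subgroup.zpowers_le.mpr hyk)
      rw [Nat.card_zpowers, hy', ha]
    refine ⟨f.ker, f.range, normal_of_comm hcomm _, normal_of_comm hcomm _, ?_, ha, hI2, hKinv, hIinv⟩
    rw [← hzk]
    exact Subgroup.zpowers_le.mpr y.2
  · -- |K| = p^2, |I| = p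
    have hI1 : Nat.card f.range = p := by rw [hcardI]; norm_num
    refine ⟨f.range, f.ker, normal_of_comm hcomm _, normal_of_comm hcomm _, ?_, hI1, ha, hIinv, hKinv⟩
    intro y hy
    rw [MonoidHom.mem_ker, hfx]
    have := pow_card_eq_one' (G := f.range) (x := ⟨y, hy⟩)
    rw [hI1] at this
    exact congrArg (fun z : f.range => (z : H)) this

section nonab

open scoped commutatorElement

variable {H : Type*} [Group H] [Finite H] (p : ℕ) [Fact p.Prime]

theorem card_center_of_nonab (hH : Nat.card H = p ^ 3) (hna : ¬ ∀ a b : H, a * b = b * a) :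
    Nat.card (Subgroup.center H) = p := by
  have hp : p.Prime := Fact.out
  obtain ⟨k, hk0, hk⟩ := IsPGroup.card_center_eq_prime_pow hH (by norm_num : 0 < 3)
  have hk3 : k ≤ 3 := by
    have h1 : Nat.card (Subgroup.center H) ∣ Nat.card H := Subgroup.card_subgroup_dvd_card _
    rw [hk, hH] at h1
    exact (Nat.pow_dvd_pow_iff_le_right hp.one_lt).mp h1
  have hk3' : k ≠ 3 := by
    intro h3
    rw [h3, ← hH] at hk
    have htop := (Subgroup.card_eq_iff_eq_top _).mp hk
    apply hna
    intro a b
    have : a ∈ Subgroup.center H := by rw [htop]; exact Subgroup.mem_top a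
    exact ((Subgroup.mem_center_iff.mp this) b).symm
  have hk2' : k ≠ 2 := by
    intro h2
    have h1 := (Subgroup.center H).card_mul_index
    rw [hk, h2, hH, pow_succ] at h1
    have hidx : (Subgroup.center H).index = p := Nat.eq_of_mul_eq_mul_left (pow_pos hp.pos 2) h1
    have hq : Nat.card (H ⧸ Subgroup.center H) = p := hidx
    have hcyc : IsCyclic (H ⧸ Subgroup.center H) := isCyclic_of_prime_card hq
    apply hna
    exact commutative_of_cyclic_center_quotient (QuotientGroup.mk' (Subgroup.center H))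
      (by rw [QuotientGroup.ker_mk'])
  have : k = 1 := by omega
  rw [hk, this, pow_one]

theorem card_quot_center_of_nonab (hH : Nat.card H = p ^ 3) (hna : ¬ ∀ a b : H, a * b = b * a) :
    Nat.card (H ⧸ Subgroup.center H) = p ^ 2 := by
  have hp : p.Prime := Fact.out
  have h1 := (Subgroup.center H).card_mul_index
  rw [card_center_of_nonab p hH hna, hH, pow_succ'] at h1
  exact Nat.eq_of_mul_eq_mul_left hp.pos h1

theorem comm_mem_center_of_nonab (hH : Nat.card H = p ^ 3) (hna : ¬ ∀ a b : H, a * b = b * a)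
    (x y : H) : ⁅x, y⁆ ∈ Subgroup.center H := by
  have hq := card_quot_center_of_nonab p hH hna
  have hc := IsPGroup.commutative_of_card_eq_prime_sq hq
  rw [← QuotientGroup.eq_one_iff, commutatorElement_def]
  simp only [QuotientGroup.mk_mul, QuotientGroup.mk_inv]
  rw [hc (x : H ⧸ Subgroup.center H) y]
  group

theorem pow_mem_center_of_nonab (hH : Nat.card H = p ^ 3) (hna : ¬ ∀ a b : H, a * b = b * a)
    (x : H) : x ^ p ∈ Subgroup.center H := by
  have hp : p.Prime := Fact.out
  have hq := card_quot_center_of_nonab p hH hna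
  rw [← QuotientGroup.eq_one_iff, QuotientGroup.mk_pow]
  have h1 : orderOf (x : H ⧸ Subgroup.center H) ∣ p ^ 2 := by
    rw [← hq]; exact orderOf_dvd_natCard _
  obtain ⟨j, hj2, hj⟩ := (Nat.dvd_prime_pow hp).mp h1
  have hj2' : j ≠ 2 := by
    intro h2
    rw [h2, ← hq] at hj
    have hcyc : IsCyclic (H ⧸ Subgroup.center H) := isCyclic_of_orderOf_eq_card _ hj
    apply hna
    exact commutative_of_cyclic_center_quotient (QuotientGroup.mk' (Subgroup.center H))
      (by rw [QuotientGroup.ker_mk'])
  have hj1 : j ≤ 1 := by omega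
  apply orderOf_dvd_iff_pow_eq_one.mp
  rw [hj]
  exact pow_dvd_pow p hj1 |>.trans (by rw [pow_one])

theorem pow_eq_one_of_mem_center_of_nonab (hH : Nat.card H = p ^ 3)
    (hna : ¬ ∀ a b : H, a * b = b * a) {z : H} (hz : z ∈ Subgroup.center H) : z ^ p = 1 := by
  have := pow_card_eq_one' (G := Subgroup.center H) (x := ⟨z, hz⟩)
  rw [card_center_of_nonab p hH hna] at this
  exact congrArg (fun w : Subgroup.center H => (w : H)) this

omit [Finite H] in
theorem center_invariant (α : MulAut H) : ∀ z ∈ Subgroup.center H, α z ∈ Subgroup.center H := by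
  intro z hz
  rw [Subgroup.mem_center_iff] at hz ⊢
  intro g
  have := congrArg α (hz (α⁻¹ g))
  rw [map_mul, map_mul, MulAut.apply_inv_self] at this
  exact this

theorem commutator_eq_center_of_nonab (hH : Nat.card H = p ^ 3)
    (hna : ¬ ∀ a b : H, a * b = b * a) : commutator H = Subgroup.center H := by
  have hp : p.Prime := Fact.out
  have hle : commutator H ≤ Subgroup.center H := by
    rw [commutator_def, Subgroup.commutator_le]
    intro a _ b _
    exact comm_mem_center_of_nonab p hH hna a b
  apply Subgroup.eq_of_le_of_card_ge hle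
  rw [card_center_of_nonab p hH hna]
  have h1 : Nat.card (commutator H) ∣ p := by
    rw [← card_center_of_nonab p hH hna]
    exact Subgroup.card_dvd_of_le hle
  rcases (Nat.dvd_prime hp).mp h1 with h | h
  · exfalso
    apply hna
    intro a b
    have hab : ⁅a, b⁆ ∈ commutator H := by
      rw [commutator_def]
      exact Subgroup.commutator_mem_commutator (Subgroup.mem_top a) (Subgroup.mem_top b)
    rw [Subgroup.card_eq_one.mp h, Subgroup.mem_bot] at hab
    exact commutatorElement_eq_one_iff_mul_comm.mp hab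
  · rw [h]

theorem frattini_eq_center_of_nonab (hH : Nat.card H = p ^ 3)
    (hna : ¬ ∀ a b : H, a * b = b * a) : frattini H = Subgroup.center H := by
  have hp : p.Prime := Fact.out
  have hHp : IsPGroup p H := IsPGroup.of_card hH
  apply le_antisymm
  · apply Cfsg.Agent.Lib.Helper7.frattini_le_of_elemAb_quotient p
    · intro x y
      have := comm_mem_center_of_nonab p hH hna x y
      rwa [commutatorElement_def] at this
    · exact pow_mem_center_of_nonab p hH hna
  · rw [← commutator_eq_center_of_nonab p hH hna]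
    intro x hx
    unfold frattini Order.radical
    rw [Subgroup.mem_iInf]
    intro M
    rw [Subgroup.mem_iInf]
    intro hM
    obtain ⟨hn, hidx⟩ := Cfsg.Agent.H1.coatom_normal_index_of_pgroup hHp M hM
    have hq : Nat.card (H ⧸ M) = p := hidx
    have hcyc : IsCyclic (H ⧸ M) := isCyclic_of_prime_card hq
    have hle : commutator H ≤ M := by
      rw [commutator_def, Subgroup.commutator_le]
      intro a _ b _
      rw [← QuotientGroup.eq_one_iff, commutatorElement_def]
      simp only [QuotientGroup.mk_mul, QuotientGroup.mk_inv]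
      have hc : ∀ u v : H ⧸ M, u * v = v * u := fun u v =>
        (IsCyclic.isMulCommutative (α := H ⧸ M)).is_comm.comm u v
      rw [hc (a : H ⧸ M) b]
      group
    exact hle hx

theorem isExtraspecial_of_nonab (hH : Nat.card H = p ^ 3)
    (hna : ¬ ∀ a b : H, a * b = b * a) : Cfsg.IsExtraspecial p H :=
  ⟨⟨IsPGroup.of_card hH, frattini_eq_center_of_nonab p hH hna,
    commutator_eq_center_of_nonab p hH hna⟩, card_center_of_nonab p hH hna⟩

/-- The `p`-th power map of a nonabelian group of order `p³`, `p` odd. -/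
noncomputable def ppowHom (hH : Nat.card H = p ^ 3) (hna : ¬ ∀ a b : H, a * b = b * a)
    (hp2 : p ≠ 2) : H →* H where
  toFun x := x ^ p
  map_one' := one_pow p
  map_mul' x y := Cfsg.Agent.H1.class2_mul_pow_prime (comm_mem_center_of_nonab p hH hna)
    Fact.out hp2 x y
    (pow_eq_one_of_mem_center_of_nonab p hH hna (comm_mem_center_of_nonab p hH hna y x))

theorem hasChain3_of_nonab_odd (hH : Nat.card H = p ^ 3) (hna : ¬ ∀ a b : H, a * b = b * a)
    (hp2 : p ≠ 2) (hexp : ¬ ∀ x : H, x ^ p = 1) : HasChain3 p H := by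
  have hp : p.Prime := Fact.out
  set f := ppowHom p hH hna hp2 with hf
  have hfx : ∀ x, f x = x ^ p := fun x => rfl
  have hZ := card_center_of_nonab p hH hna
  have hKinv : ∀ α : MulAut H, ∀ x ∈ f.ker, α x ∈ f.ker := by
    intro α x hx
    rw [MonoidHom.mem_ker, hfx] at hx ⊢
    rw [← map_pow, hx, map_one]
  have hcard : Nat.card f.ker * Nat.card f.range = p ^ 3 := by
    rw [← Subgroup.index_ker, Subgroup.card_mul_index, hH]
  have hrle : f.range ≤ Subgroup.center H := by
    rintro _ ⟨x, rfl⟩
    exact pow_mem_center_of_nonab p hH hna x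
  have hrcard : Nat.card f.range = p := by
    have h1 : Nat.card f.range ∣ p := by
      rw [← hZ]; exact Subgroup.card_dvd_of_le hrle
    rcases (Nat.dvd_prime hp).mp h1 with h | h
    · exfalso
      apply hexp
      intro x
      have hx : f x ∈ f.range := ⟨x, rfl⟩
      rw [Subgroup.card_eq_one.mp h, Subgroup.mem_bot] at hx
      exact hx
    · exact h
  have hkcard : Nat.card f.ker = p ^ 2 := by
    rw [hrcard, pow_succ] at hcard
    exact Nat.eq_of_mul_eq_mul_right hp.pos hcard
  refine ⟨Subgroup.center H, f.ker, inferInstance, inferInstance, ?_, hZ, hkcard,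
    fun α => center_invariant α, hKinv⟩
  intro z hz
  rw [MonoidHom.mem_ker, hfx]
  exact pow_eq_one_of_mem_center_of_nonab p hH hna hz

end nonab

end Cfsg.Agent.Lib.Helper7.EssChain
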