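import Mathlib
import Cfsg.Agent.Lib.Helper7.BG15PB
import Cfsg.Agent.Lib.Helper7.EssChainB
import Cfsg.Agent.Lib.Helper7.Narrow55
import Cfsg.Agent.S1412
import Cfsg.Agent.S0056

/-!
# B&G Section 15 (helper7), part PC: Lemma 15.7P (lead's blueprint Part 23), second half:
the dichotomy `|K| ∣ p - 1` or (`|O_p(M_σ)| = p³` and `|K| ∣ p + 1`).
-/

set_option autoImplicit false
set_option linter.unusedSectionVars false
set_option linter.unusedVariables false
set_option linter.style.haveILetI false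
set_option maxHeartbeats 1000000
open Cfsg
open scoped commutatorElement Pointwise

namespace Cfsg.Agent.Lib.Helper7.BG15P

open Cfsg.Agent.Lib.Helper7 (IsSylowIn exists_isSylowIn_ge card_subgroupOf_of_le)
open Cfsg.Agent.Lib.Helper8.BGTen Cfsg.Agent.Lib.Helper4.BGTrans
open Cfsg.Agent.Lib.helper3.BG11 Cfsg.Agent.Lib.helper3.BG12 Cfsg.Agent.Lib.helper3.BG13
open Cfsg.Agent.Lib.Helper7.BG13 Cfsg.Agent.Lib.Helper7.BG14P
open Cfsg.Agent.H2.BGU (Oq Op')

universe u

variable {G : Type u} [Group G] [Finite G]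

section cfg

variable {M K U N : Subgroup G} {p : ℕ} [hp : Fact p.Prime] {z : G}

theorem Cfg.p_ne_two (hG : Cfsg.IsMinSimpleOddOrder G) (h : Cfg M K U p z) : p ≠ 2 :=
  ne_two_of_dvd_card hG
    ((h.mem_sigma hG).2.1.trans (Subgroup.card_subgroup_dvd_card M))

theorem Cfg.coprime_K_p (hG : Cfsg.IsMinSimpleOddOrder G) (h : Cfg M K U p z) :
    (Nat.card ↥K).Coprime p :=
  Nat.Coprime.coprime_dvd_right
    (Cfsg.Agent.H2.BG11.dvd_card_sigmaCore hG h.coatom (h.mem_sigma hG)) (h.coprime_K hG)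

theorem Cfg.Kab (h : Cfg M K U p z) : ∀ a ∈ K, ∀ b ∈ K, a * b = b * a := by
  intro a ha b hb
  haveI := h.dec.cyclic
  have hc : IsMulCommutative ↥K := IsCyclic.isMulCommutative
  exact congrArg Subtype.val (hc.is_comm.comm (⟨a, ha⟩ : ↥K) ⟨b, hb⟩)

/-- **step 9**: if `P` has rank at least three then `|K| ∣ p - 1` -/
theorem Cfg.card_dvd_of_rank (hG : Cfsg.IsMinSimpleOddOrder G) (h : Cfg M K U p z)
    (hr : ¬ Cfsg.PRankLE p 2 ↥(Oq p (Cfsg.sigmaCore M))) : Nat.card ↥K ∣ p - 1 := by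
  haveI := h.dec.cyclic
  obtain ⟨g, hg⟩ := IsCyclic.exists_generator (α := ↥K)
  have hog : orderOf g = Nat.card ↥K := orderOf_eq_card_of_forall_mem_zpowers hg
  have hcop : (orderOf (g : G)).Coprime p := by
    rw [Subgroup.orderOf_coe, hog]; exact h.coprime_K_p hG
  have := Cfsg.Agent.Lib.Helper7.Narrow55.orderOf_dvd_pred (h.p_ne_two hG)
    (Oq p (Cfsg.sigmaCore M)) K h.sylow.isPGroup (h.narrow hG) (h.K_le_normalizer_Oq p)
    (h.faithful hG) hr (g : G) g.2 hcop
  rwa [Subgroup.orderOf_coe, hog] at this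

/-- **step 10**: if `P` has rank at most two then `P` is extraspecial of order `p³` and
`|K| ∣ p - 1` or `|K| ∣ p + 1` -/
theorem CfgN.card_dvd_of_rank_le (hG : Cfsg.IsMinSimpleOddOrder G) (h : CfgN M K U p z N)
    (hr : Cfsg.PRankLE p 2 ↥(Oq p (Cfsg.sigmaCore M))) :
    Nat.card ↥(Oq p (Cfsg.sigmaCore M)) = p ^ 3 ∧
      (Nat.card ↥K ∣ p - 1 ∨ Nat.card ↥K ∣ p + 1) := by
  set P := Oq p (Cfsg.sigmaCore M) with hP
  set Ks := Cfsg.sigmaCore M ⊓ Subgroup.centralizer (K : Set G) with hKs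
  have hPtop := h.toCfg.sylowTop hG
  have hc : Nat.card ↥P = p ^ (Nat.card G).factorization p := by
    have := hPtop.2
    rwa [Subgroup.card_top] at this
  have h12 := Cfsg.Agent.S1412.result hG p (Sylow.ofCard P hc) (by
    rw [Sylow.coe_ofCard]; exact hr)
  rw [Sylow.coe_ofCard] at h12
  rcases h12 with hab | ⟨P₁, P₂, h12, hcomm, hna, hP₁c, hexp, hcyc, hΩ⟩
  · exact absurd (comm_of_isMulCommutative hab) (h.not_comm hG)
  have hP₁P : P₁ ≤ P := h12 ▸ le_sup_left
  have hP₂P : P₂ ≤ P := h12 ▸ le_sup_right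
  have hPH : P ≤ Cfsg.sigmaCore M := Cfsg.Agent.H2.BGU.Oq_le p _
  set Z₁ := P₁ ⊓ Subgroup.centralizer (P₁ : Set G) with hZ₁
  have hna' : ¬ ∀ a b : ↥P₁, a * b = b * a := fun hc => hna ⟨⟨hc⟩⟩
  -- `Z₁` is the image of the centre of `P₁`
  have hZ₁map : Z₁ = (Subgroup.center ↥P₁).map P₁.subtype := by
    ext x
    rw [Subgroup.mem_map, hZ₁, Subgroup.mem_inf]
    constructor
    · rintro ⟨hx1, hx2⟩
      refine ⟨⟨x, hx1⟩, ?_, rfl⟩
      rw [Subgroup.mem_center_iff]
      intro g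
      apply Subtype.ext
      exact Subgroup.mem_centralizer_iff.mp hx2 g g.2
    · rintro ⟨x', hx', rfl⟩
      refine ⟨x'.2, ?_⟩
      rw [Subgroup.mem_centralizer_iff]
      intro g hg
      exact congrArg Subtype.val ((Subgroup.mem_center_iff.mp hx') ⟨g, hg⟩)
  have hZ₁c : Nat.card ↥Z₁ = p := by
    rw [hZ₁map, Subgroup.card_map_of_injective P₁.subtype_injective]
    exact Cfsg.Agent.Lib.Helper7.EssChain.card_center_of_nonab p hP₁c hna'
  have hcommZ : ∀ a ∈ P₁, ∀ b ∈ P₁, ⁅a, b⁆ ∈ Z₁ := by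
    intro a ha b hb
    have := Cfsg.Agent.Lib.Helper7.EssChain.comm_mem_center_of_nonab p hP₁c hna'
      (⟨a, ha⟩ : ↥P₁) ⟨b, hb⟩
    rw [hZ₁map]
    exact ⟨_, this, rfl⟩
  have hZ₁P₂ : Z₁ ≤ P₂ := by
    rw [← hΩ, Subgroup.closure_le]
    intro x hx
    exact hx.1
  have hP₂ab : ∀ a ∈ P₂, ∀ b ∈ P₂, a * b = b * a := by
    intro a ha b hb
    have hc : IsMulCommutative ↥P₂ := IsCyclic.isMulCommutative
    exact congrArg Subtype.val (hc.is_comm.comm (⟨a, ha⟩ : ↥P₂) ⟨b, hb⟩)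
  have hdec : ∀ g ∈ P, ∃ a ∈ P₁, ∃ b ∈ P₂, g = a * b := by
    intro g hg
    rw [← h12] at hg
    exact Cfsg.Agent.Lib.Helper7.Narrow55.exists_mul_of_mem_sup P₁ P₂ hcomm hg
  -- `P' ≤ Z₁`
  have hP'Z₁ : ⁅P, P⁆ ≤ Z₁ := by
    rw [Subgroup.commutator_le]
    intro g₁ hg₁ g₂ hg₂
    obtain ⟨a₁, ha₁, b₁, hb₁, rfl⟩ := hdec g₁ hg₁
    obtain ⟨a₂, ha₂, b₂, hb₂, rfl⟩ := hdec g₂ hg₂
    have c1 : Commute b₁ a₁ := (hcomm a₁ ha₁ b₁ hb₁).symm
    have c2 : Commute b₁ a₂ := (hcomm a₂ ha₂ b₁ hb₁).symm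
    have c3 : Commute b₁ b₂ := hP₂ab b₁ hb₁ b₂ hb₂
    have c4 : Commute b₂ a₁ := (hcomm a₁ ha₁ b₂ hb₂).symm
    have c5 : Commute b₂ a₂ := (hcomm a₂ ha₂ b₂ hb₂).symm
    rw [comm_mul_central c1 c2 c3 c4 c5]
    exact hcommZ a₁ ha₁ a₂ ha₂
  -- `K* = Z₁`
  have hKs1 : Ks ≠ ⊥ := Cfsg.Agent.Lib.helper3.BG14.Kst_ne_bot hG h.coatom h.dec.hall h.K1
  have hKsZ₁ : Ks = Z₁ := by
    have hle : Ks ≤ Z₁ := (h.Kst_le_commutator hG).trans hP'Z₁
    apply Subgroup.eq_of_le_of_card_ge hle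
    rw [hZ₁c]
    have h1 : Nat.card ↥Ks ∣ p := by rw [← hZ₁c]; exact Subgroup.card_dvd_of_le hle
    rcases (Nat.dvd_prime hp.out).mp h1 with e | e
    · exact absurd (Subgroup.card_eq_one.mp e) hKs1
    · exact e.ge
  -- the centre of `P` is `P₂`
  set ZP := P ⊓ Subgroup.centralizer (P : Set G) with hZP
  have hZPeq : ZP = P₂ := by
    apply le_antisymm
    · rintro w ⟨hwP, hwC⟩
      obtain ⟨a, ha, b, hb, rfl⟩ := hdec w hwP
      have haZ : a ∈ Z₁ := by
        refine ⟨ha, ?_⟩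
        show a ∈ Subgroup.centralizer (P₁ : Set G)
        rw [Subgroup.mem_centralizer_iff]
        intro g hg
        have hwC' : a * b ∈ Subgroup.centralizer (P : Set G) := hwC
        have h1 := Subgroup.mem_centralizer_iff.mp hwC' g (hP₁P hg)
        have h2 : Commute b g := (hcomm g hg b hb).symm
        -- `g * (a * b) = (a * b) * g` and `b` commutes with `g`
        have h3 : g * a * b = a * g * b := by
          calc g * a * b = g * (a * b) := by group
            _ = a * b * g := h1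
            _ = a * (b * g) := by group
            _ = a * (g * b) := by rw [h2.eq]
            _ = a * g * b := by group
        exact mul_right_cancel h3
      exact P₂.mul_mem (hZ₁P₂ haZ) hb
    · intro b hb
      refine ⟨hP₂P hb, ?_⟩
      show b ∈ Subgroup.centralizer (P : Set G)
      rw [Subgroup.mem_centralizer_iff]
      intro g hg
      obtain ⟨a, ha, b', hb', rfl⟩ := hdec g hg
      have c1 : Commute a b := hcomm a ha b hb
      have c2 : Commute b' b := hP₂ab b' hb' b hb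
      exact (c1.mul_left c2).eq
  -- `K` centralizes `Z(P)`
  have hKP := h.toCfg.K_le_normalizer_Oq p
  have hKZP : K ≤ Subgroup.normalizer (ZP : Set G) := by
    intro k hk
    have hkP := hKP hk
    have hkC : k ∈ Subgroup.normalizer (Subgroup.centralizer (P : Set G) : Set G) :=
      normalizer_le_normalizer_centralizer P hkP
    rw [Subgroup.mem_normalizer_iff] at hkP hkC ⊢
    intro x
    exact and_congr (hkP x) (hkC x)
  haveI : IsCyclic ↥ZP := hZPeq ▸ hcyc
  haveI : IsMulCommutative ↥ZP := IsCyclic.isMulCommutative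
  have hcopZP : (Nat.card ↥K).Coprime (Nat.card ↥ZP) :=
    Nat.Coprime.coprime_dvd_right (Subgroup.card_dvd_of_le (inf_le_left.trans hPH))
      (h.toCfg.coprime_K hG)
  have hKcZP := Cfsg.Agent.S0056.result K ZP hKZP hcopZP (by
    intro v hv hvp a ha
    have hvP₂ : v ∈ P₂ := hZPeq ▸ hv
    have hvq : orderOf v = p := by
      have h1 : orderOf v ∣ Nat.card ↥P := by
        have := orderOf_dvd_natCard (⟨v, hv.1⟩ : ↥P)
        rwa [Subgroup.orderOf_mk] at this
      rw [hc] at h1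
      exact (Nat.prime_dvd_prime_iff_eq hvp hp.out).mp (hvp.dvd_of_dvd_pow h1)
    have hvZ₁ : v ∈ Z₁ := by
      rw [← hΩ]
      exact Subgroup.subset_closure ⟨hvP₂, by rw [← hvq]; exact pow_orderOf_eq_one v⟩
    rw [← hKsZ₁] at hvZ₁
    exact (Subgroup.mem_centralizer_iff.mp hvZ₁.2 a ha))
  have hZPKs : ZP ≤ Ks := by
    refine le_inf (inf_le_left.trans hPH) ?_
    intro y hy
    rw [Subgroup.mem_centralizer_iff]
    intro a ha
    exact (Subgroup.mem_centralizer_iff.mp (hKcZP ha) y hy).symm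
  -- `P = P₁`
  have hPeq : P = P₁ := by
    apply le_antisymm _ hP₁P
    rw [← h12]
    refine sup_le le_rfl ?_
    rw [← hZPeq]
    exact (hZPKs.trans hKsZ₁.le).trans inf_le_left
  have hPc : Nat.card ↥P = p ^ 3 := by rw [hPeq]; exact hP₁c
  refine ⟨hPc, ?_⟩
  have hex : ExspAct p P Ks K :=
    { cardP := hPc
      ZP := h.Kst_le_P hG
      cardZ := by rw [hKsZ₁]; exact hZ₁c
      Zcen := by
        intro w hw a ha
        rw [hKsZ₁] at hw
        rw [hPeq] at ha
        exact (Subgroup.mem_centralizer_iff.mp hw.2 a ha).symm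
      comm := by
        intro a ha b hb
        rw [hKsZ₁]
        rw [hPeq] at ha hb
        exact hcommZ a ha b hb
      center := by
        intro x hx hxKs
        by_contra hall
        push Not at hall
        apply hxKs
        apply hZPKs
        refine ⟨hx, ?_⟩
        show x ∈ Subgroup.centralizer (P : Set G)
        rw [Subgroup.mem_centralizer_iff]
        intro y hy
        exact (hall y hy).symm
      exp := by
        intro x hx
        rw [hPeq] at hx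
        have := Monoid.pow_exponent_eq_one (⟨x, hx⟩ : ↥P₁)
        rw [hexp] at this
        exact congrArg Subtype.val this
      KP := hKP
      KZ := by
        intro k hk w hw
        exact (Subgroup.mem_centralizer_iff.mp hw.2 k hk)
      Kab := h.toCfg.Kab
      Kodd := Odd.of_dvd_nat hG.1 (Subgroup.card_subgroup_dvd_card K)
      Kp := h.toCfg.coprime_K_p hG
      fix := by
        intro k hk hk1 x hx hkx
        exact h.toCfg.fix hG hk hk1 (hPH hx) hkx }
  exact hex.card_dvd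

/-- **Lemma 15.7P** -/
theorem Cfg.main (hG : Cfsg.IsMinSimpleOddOrder G) (h : Cfg M K U p z) :
    IsCyclic ↥(Op' p (Cfsg.sigmaCore M)) ∧
      (Nat.card ↥K ∣ p - 1 ∨
        (Nat.card ↥(Oq p (Cfsg.sigmaCore M)) = p ^ 3 ∧ Nat.card ↥K ∣ p + 1)) := by
  obtain ⟨N, hN⟩ := h.exists_N hG
  refine ⟨hN.isCyclic_Op' hG, ?_⟩
  by_cases hr : Cfsg.PRankLE p 2 ↥(Oq p (Cfsg.sigmaCore M))
  · obtain ⟨h1, h2 | h2⟩ := hN.card_dvd_of_rank_le hG hr
    · exact Or.inl h2
    · exact Or.inr ⟨h1, h2⟩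
  · exact Or.inl (h.card_dvd_of_rank hG hr)

end cfg

end Cfsg.Agent.Lib.Helper7.BG15P
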