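import Mathlib
import Cfsg.Agent.Lib.Helper7.BG15PC
import Cfsg.Agent.H2.BG16.C
import Cfsg.Agent.S1404
import Cfsg.Agent.S1426
import Cfsg.Agent.S1356
import Cfsg.Agent.S1365

/-!
# B&G Section 15 (helper7), part PD: Type V (the statement of S1383).
-/

set_option autoImplicit false
set_option linter.unusedSectionVars false
set_option linter.unusedVariables false
set_option linter.style.haveILetI false
set_option maxHeartbeats 1000000
open Cfsg
open scoped commutatorElement Pointwise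

namespace Cfsg.Agent.Lib.Helper7.BG15P

open Cfsg.Agent.Lib.Helper7 (IsSylowIn exists_isSylowIn_ge card_subgroupOf_of_le)
open Cfsg.Agent.Lib.Helper8.BGTen Cfsg.Agent.Lib.Helper4.BGTrans
open Cfsg.Agent.Lib.helper3.BG11 Cfsg.Agent.Lib.helper3.BG12 Cfsg.Agent.Lib.helper3.BG13
open Cfsg.Agent.Lib.Helper7.BG13 Cfsg.Agent.Lib.Helper7.BG14P
open Cfsg.Agent.H2.BGU (Oq Op')

universe u

/-- for a prime `p`, `O_{{p}}(H) = O_p(H)` -/
theorem piCore_singleton_eq_pCore {H : Type*} [Group H] [Finite H] {p : ℕ} (hp : p.Prime) :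
    Cfsg.piCore {p} H = Cfsg.pCore p H := by
  haveI := Fact.mk hp
  unfold Cfsg.piCore Cfsg.pCore
  congr 1
  ext N
  simp only [Set.mem_ofPred_eq, Set.mem_singleton_iff]
  refine and_congr Iff.rfl ?_
  constructor
  · intro h
    rw [IsPGroup.iff_card]
    have hne : Nat.card ↥N ≠ 0 := Nat.card_pos.ne'
    exact ⟨_, Nat.eq_prime_pow_of_unique_prime_dvd hne (fun {q} hq hd => h q hq hd)⟩
  · intro h q hq hd
    obtain ⟨n, hn⟩ := IsPGroup.iff_card.mp h
    rw [hn] at hd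
    exact (Nat.prime_dvd_prime_iff_eq hq hp).mp (hq.dvd_of_dvd_pow hd)

variable {G : Type u} [Group G] [Finite G]

theorem card_Oq_eq {p : ℕ} (hp : p.Prime) (X : Subgroup G) :
    Nat.card ↥(Oq p X) = Nat.card ↥(Cfsg.pCore p ↥X) := by
  unfold Oq Cfsg.piCoreOf
  rw [piCore_singleton_eq_pCore hp]
  exact Nat.card_congr
    ((Cfsg.pCore p ↥X).equivMapOfInjective _ X.subtype_injective).symm.toEquiv

theorem isCyclic_pPrimeCore_of {p : ℕ} (hp : p.Prime) {X : Subgroup G}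
    (h : IsCyclic ↥(Op' p X)) : IsCyclic ↥(Cfsg.pPrimeCore p ↥X) := by
  rw [Cfsg.Agent.H2.BGU.Op'_prime_eq hp X] at h
  exact ((Cfsg.pPrimeCore p ↥X).equivMapOfInjective _ X.subtype_injective).isCyclic.mpr h

section ti

variable {M K U : Subgroup G}

/-- if `M_σ` is not a TI-subset then the configuration of Lemma 15.7P occurs -/
theorem exists_cfg_of_not_TI (hG : Cfsg.IsMinSimpleOddOrder G) (hM : IsCoatom M)
    (hKU : Cfsg.IsSigmaDecomposition M K U) (hK1 : K ≠ ⊥)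
    (hnil : Group.IsNilpotent ↥(Cfsg.sigmaCore M))
    (hKs : Cfsg.sigmaCore M ⊓ Subgroup.centralizer (K : Set G) ≤
      ⁅Cfsg.sigmaCore M, Cfsg.sigmaCore M⁆)
    (hTI : ¬ Cfsg.IsTISubset (Cfsg.sigmaCore M : Set G)) :
    ∃ (p : ℕ) (z : G), p.Prime ∧ Cfg M K U p z := by
  unfold Cfsg.IsTISubset at hTI
  push Not at hTI
  obtain ⟨g, hgN, x, hx, hgx, hx1⟩ := hTI
  have hgM : g ∉ M := fun h => hgN (Cfsg.Agent.H2.BG11.le_normalizer_sigmaCore M h)
  have hx' : x ∈ Cfsg.sigmaCore M := hx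
  have hgx' : g * x * g⁻¹ ∈ Cfsg.sigmaCore M := hgx
  have hox : orderOf x ≠ 1 := fun h => hx1 (orderOf_eq_one_iff.mp h)
  obtain ⟨p, hp, hpd⟩ := Nat.exists_prime_and_dvd hox
  haveI : Fact p.Prime := ⟨hp⟩
  obtain ⟨k, hk⟩ := hpd
  have hopos : 0 < orderOf x := orderOf_pos x
  have hkpos : 0 < k := by
    rcases Nat.eq_zero_or_pos k with h | h
    · rw [h, mul_zero] at hk; omega
    · exact h
  set z := x ^ k with hz
  have hzo : orderOf z = p := by
    rw [hz, orderOf_pow' x hkpos.ne', hk, Nat.gcd_eq_right (Dvd.intro_left p rfl)]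
    exact Nat.mul_div_cancel _ hkpos
  have hzσ : z ∈ Cfsg.sigmaCore M := Subgroup.pow_mem _ hx' k
  have hgz : g * z * g⁻¹ ∈ Cfsg.sigmaCore M := by
    have : g * z * g⁻¹ = (g * x * g⁻¹) ^ k := by rw [hz, conj_pow]
    rw [this]
    exact Subgroup.pow_mem _ hgx' k
  have hσM := Cfsg.Agent.H2.BG11.sigmaCore_le M
  have hpσ : p ∈ Cfsg.sigma M := by
    apply Cfsg.Agent.H2.BG11.mem_sigma_of_dvd_sigmaCore hG hM hp
    rw [← hzo, ← Nat.card_zpowers]
    exact Subgroup.card_dvd_of_le ((Subgroup.zpowers_le).mpr hzσ)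
  have hz1 : z ≠ 1 := by
    intro e
    rw [e, orderOf_one] at hzo
    exact hp.one_lt.ne hzo
  have hXp : IsPGroup p ↥(Subgroup.zpowers z) :=
    IsPGroup.of_card (n := 1) (by rw [Nat.card_zpowers, hzo, pow_one])
  have hX1 : Subgroup.zpowers z ≠ ⊥ := by
    intro e
    exact hz1 ((Subgroup.zpowers_eq_bot).mp e)
  have hXM : Subgroup.zpowers z ≤ M := (Subgroup.zpowers_le).mpr (hσM hzσ)
  have hgX : (Subgroup.zpowers z).map (MulAut.conj g).toMonoidHom ≤ M := by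
    rw [MonoidHom.map_zpowers, Subgroup.zpowers_le]
    exact hσM hgz
  obtain ⟨m, hm, c, hc, hgmc⟩ :=
    (Cfsg.Agent.S1404.result hG M hM p hpσ (Subgroup.zpowers z) hXp hX1 hXM).1 g hgX
  have hcz : c ∈ Subgroup.centralizer ({z} : Set G) := by
    rw [Subgroup.mem_centralizer_iff] at hc ⊢
    intro y hy
    rw [Set.mem_singleton_iff] at hy
    rw [hy]
    exact hc z (Subgroup.mem_zpowers z)
  refine ⟨p, z, hp, ⟨hM, hKU, hK1, hnil, hKs, hzσ, hzo, ?_⟩⟩
  intro hle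
  apply hgM
  rw [hgmc]
  exact M.mul_mem hm (hle hcz)

/-- the alternatives in the definition of Type V, for `M_σ` -/
theorem typeV_alt (hG : Cfsg.IsMinSimpleOddOrder G) (hM : IsCoatom M)
    (hKU : Cfsg.IsSigmaDecomposition M K U) (hK1 : K ≠ ⊥)
    (hnil : Group.IsNilpotent ↥(Cfsg.sigmaCore M))
    (hKs : Cfsg.sigmaCore M ⊓ Subgroup.centralizer (K : Set G) ≤
      ⁅Cfsg.sigmaCore M, Cfsg.sigmaCore M⁆) :
    Cfsg.IsTISubset (Cfsg.sigmaCore M : Set G) ∨
      (∃ p : ℕ, p.Prime ∧ p ∣ Nat.card (Cfsg.sigmaCore M) ∧ Nat.card K ∣ p - 1 ∧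
        IsCyclic (Cfsg.pPrimeCore p (Cfsg.sigmaCore M))) ∨
      (∃ p : ℕ, p.Prime ∧ p ∣ Nat.card (Cfsg.sigmaCore M) ∧
        Nat.card (Cfsg.pCore p (Cfsg.sigmaCore M)) = p ^ 3 ∧
        Nat.card K ∣ p + 1 ∧ IsCyclic (Cfsg.pPrimeCore p (Cfsg.sigmaCore M))) := by
  by_cases hTI : Cfsg.IsTISubset (Cfsg.sigmaCore M : Set G)
  · exact Or.inl hTI
  · right
    obtain ⟨p, z, hp, h⟩ := exists_cfg_of_not_TI hG hM hKU hK1 hnil hKs hTI
    haveI : Fact p.Prime := ⟨hp⟩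
    have hpd : p ∣ Nat.card (Cfsg.sigmaCore M) :=
      Cfsg.Agent.H2.BG11.dvd_card_sigmaCore hG hM (h.mem_sigma hG)
    obtain ⟨hcyc, h1 | ⟨h1, h2⟩⟩ := h.main hG
    · left
      exact ⟨p, hp, hpd, h1, isCyclic_pPrimeCore_of hp hcyc⟩
    · right
      refine ⟨p, hp, hpd, ?_, h2, isCyclic_pPrimeCore_of hp hcyc⟩
      rw [← card_Oq_eq hp]
      exact h1

/-- **the statement of S1383**: `M` is of Type V iff `K ≠ 1`, `U = 1` and `M_F = M_σ` -/
theorem s1383 (hG : Cfsg.IsMinSimpleOddOrder G) (M : Subgroup G) (hM : IsCoatom M)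
    (K U : Subgroup G) (hKU : Cfsg.IsSigmaDecomposition M K U) :
    Cfsg.IsOfTypeV M ↔
      (K ≠ ⊥ ∧ U = ⊥ ∧ Cfsg.fittingHallOf M = Cfsg.sigmaCore M) := by
  constructor
  · rintro ⟨W₁, U₂, W₂, hP, hU₂, -⟩
    subst hU₂
    have hK1 := Cfsg.Agent.H2.BG16.K_ne_bot_of_typeP hG hM hKU.hall hP
    have h65 := (Cfsg.Agent.S1365.result hG M hM K U hKU hK1).1
    have hFσ := Cfsg.Agent.Lib.Helper8.BG15.fittingHallOf_le_sigmaCore hG hM
    have hc := hP.U_compl
    have hM'F : ⁅M, M⁆ ≤ Cfsg.fittingHallOf M := by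
      intro m hm
      obtain ⟨a, ha, b, hb, e⟩ := hc.2.2.2 m hm
      rw [Subgroup.mem_bot] at hb
      rw [e, hb, mul_one]
      exact ha
    have hσF : Cfsg.sigmaCore M ≤ Cfsg.fittingHallOf M := by
      calc Cfsg.sigmaCore M ≤ U ⊔ Cfsg.sigmaCore M := le_sup_right
        _ = ⁅M, M⁆ := h65.symm
        _ ≤ _ := hM'F
    have hU : U = ⊥ := by
      rw [eq_bot_iff, ← Cfsg.Agent.Lib.Helper5.BG14Z.U_inf_sigmaCore hKU]
      refine le_inf le_rfl ?_
      calc U ≤ U ⊔ Cfsg.sigmaCore M := le_sup_left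
        _ = ⁅M, M⁆ := h65.symm
        _ ≤ Cfsg.fittingHallOf M := hM'F
        _ ≤ Cfsg.sigmaCore M := hFσ
    exact ⟨hK1, hU, le_antisymm hFσ hσF⟩
  · rintro ⟨hK1, hU, hF⟩
    subst hU
    have h65 := (Cfsg.Agent.S1365.result hG M hM K ⊥ hKU hK1).1
    rw [bot_sup_eq] at h65
    have hnil : Group.IsNilpotent ↥(Cfsg.sigmaCore M) := by
      rw [← hF]
      exact Cfsg.Agent.Lib.Helper4.TypeP.fittingHallOf_nilpotent M
    have hE : Cfsg.IsComplIn K (Cfsg.sigmaCore M) M := by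
      have := sup_compl hG hM hKU
      rwa [bot_sup_eq] at this
    have hKs := (Cfsg.Agent.S1426.result hG M hM K hE).1
    have hP : Cfsg.IsTypePWith M K ⊥ (Cfsg.Agent.H2.BG14.Ks M K) := by
      apply Cfsg.Agent.H2.BG16.isTypePWith_of hG hM hKU hK1 (Cfsg.Agent.S1356.result hG M hM)
      · rw [hF]
        exact inf_le_left
      · infer_instance
      · intro k _
        rw [Subgroup.mem_normalizer_iff]
        intro h
        simp only [Subgroup.mem_bot]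
        constructor
        · intro e; rw [e]; group
        · intro e
          have : h = k⁻¹ * (k * h * k⁻¹) * k := by group
          rw [this, e]; group
      · rw [hF, h65]
        exact ⟨le_rfl, bot_le, inf_bot_eq _, fun m hm =>
          ⟨m, hm, 1, Subgroup.mem_bot.mpr rfl, (mul_one m).symm⟩⟩
    refine ⟨K, ⊥, _, hP, rfl, ?_⟩
    rw [hF]
    exact typeV_alt hG hM hKU hK1 hnil hKs

end ti

end Cfsg.Agent.Lib.Helper7.BG15P
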