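import Mathlib
import Cfsg.Prelude.Def_FusionSystem
import Cfsg.Prelude.Def_Transfer
import Cfsg.Agent.Lib.Helper7.Fusion
import Cfsg.Agent.Lib.Helper7.FusionSat
import Cfsg.Agent.Lib.Helper7.FusionSat2
import Cfsg.Agent.Lib.Helper7.FusionSat3

/-!
# Control of fusion by small-exponent abelian subgroups, part A: small abelian subgroups
-/

set_option autoImplicit false

namespace Cfsg.Agent.Lib.Helper7.BGH

open Cfsg Cfsg.FusionSystem Cfsg.Agent.Lib.Helper7

variable {Ω : Type*} [Group Ω] {S : Subgroup Ω}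

/-- the small exponent: `4` for `p = 2`, `p` otherwise -/
def sexp (p : ℕ) : ℕ := if p = 2 then 4 else p

/-- `A` is abelian of exponent dividing `sexp p` -/
def SmallAb (p : ℕ) (A : Subgroup Ω) : Prop :=
  IsMulCommutative ↥A ∧ ∀ a ∈ A, a ^ sexp p = 1

theorem smallAb_of_odd {p : ℕ} (hp : p ≠ 2) {A : Subgroup Ω} (h : IsElementaryAbelian p A) :
    SmallAb p A := by
  refine ⟨h.1, fun a ha => ?_⟩
  unfold sexp; rw [if_neg hp]; exact h.2 a ha

theorem smallAb_of_two {p : ℕ} (hp : p = 2) {A : Subgroup Ω} (h1 : IsMulCommutative ↥A)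
    (h2 : ∀ a ∈ A, a ^ 4 = 1) : SmallAb p A :=
  ⟨h1, fun a ha => by unfold sexp; rw [if_pos hp]; exact h2 a ha⟩

theorem SmallAb.elementary {p : ℕ} (hp : p ≠ 2) {A : Subgroup Ω} (h : SmallAb p A) :
    IsElementaryAbelian p A := by
  refine ⟨h.1, fun a ha => ?_⟩
  have := h.2 a ha
  unfold sexp at this; rwa [if_neg hp] at this

theorem SmallAb.two {p : ℕ} (hp : p = 2) {A : Subgroup Ω} (h : SmallAb p A) :
    ∀ a ∈ A, a ^ 4 = 1 := by
  intro a ha
  have := h.2 a ha
  unfold sexp at this; rwa [if_pos hp] at this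

theorem smallAb_range {p : ℕ} {A : Subgroup Ω} (h : SmallAb p A) (φ : A →* Ω) :
    SmallAb p φ.range := by
  have hc := h.1
  refine ⟨⟨⟨?_⟩⟩, ?_⟩
  · rintro ⟨_, a, rfl⟩ ⟨_, b, rfl⟩
    apply Subtype.ext
    show φ a * φ b = φ b * φ a
    rw [← map_mul, ← map_mul, hc.is_comm.comm a b]
  · rintro _ ⟨a, rfl⟩
    rw [← map_pow]
    have : a ^ sexp p = 1 := Subtype.ext (by simpa using h.2 a a.2)
    rw [this, map_one]

theorem smallAb_of_le {p : ℕ} {A B : Subgroup Ω} (h : SmallAb p A) (hBA : B ≤ A) : SmallAb p B := by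
  have hc := h.1
  refine ⟨⟨⟨?_⟩⟩, fun b hb => h.2 b (hBA hb)⟩
  rintro ⟨a, ha⟩ ⟨b, hb⟩
  apply Subtype.ext
  show a * b = b * a
  exact congrArg Subtype.val (hc.is_comm.comm ⟨a, hBA ha⟩ ⟨b, hBA hb⟩)

theorem smallAb_sup {p : ℕ} {A B : Subgroup Ω} (hA : SmallAb p A) (hB : SmallAb p B)
    (hcomm : ∀ a ∈ A, ∀ b ∈ B, a * b = b * a) : SmallAb p (A ⊔ B) := by
  have hAc := hA.1
  have hBc := hB.1
  -- the subgroup of elements of `A ⊔ B` commuting with `A ⊔ B` and of small exponent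
  let K : Subgroup Ω :=
    { carrier := {x | x ∈ A ⊔ B ∧ x ∈ Subgroup.centralizer ((A ⊔ B : Subgroup Ω) : Set Ω) ∧
        x ^ sexp p = 1}
      one_mem' := ⟨Subgroup.one_mem _, Subgroup.one_mem _, one_pow _⟩
      mul_mem' := by
        rintro x y ⟨hx1, hx2, hx3⟩ ⟨hy1, hy2, hy3⟩
        refine ⟨Subgroup.mul_mem _ hx1 hy1, Subgroup.mul_mem _ hx2 hy2, ?_⟩
        have hc : Commute x y := ((Subgroup.mem_centralizer_iff.mp hx2) y hy1).symm
        rw [hc.mul_pow, hx3, hy3, one_mul]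
      inv_mem' := by
        rintro x ⟨hx1, hx2, hx3⟩
        exact ⟨Subgroup.inv_mem _ hx1, Subgroup.inv_mem _ hx2, by rw [inv_pow, hx3, inv_one]⟩ }
  have hAcen : A ≤ Subgroup.centralizer ((A ⊔ B : Subgroup Ω) : Set Ω) := by
    intro a ha
    rw [Subgroup.mem_centralizer_iff]
    intro y hy
    have : A ⊔ B ≤ Subgroup.centralizer ({a} : Set Ω) := by
      apply sup_le
      · intro a' ha'
        rw [Subgroup.mem_centralizer_singleton_iff]
        exact congrArg Subtype.val (hAc.is_comm.comm ⟨a', ha'⟩ ⟨a, ha⟩)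
      · intro b hb
        rw [Subgroup.mem_centralizer_singleton_iff]
        exact (hcomm a ha b hb).symm
    have h1 := this hy
    rw [Subgroup.mem_centralizer_singleton_iff] at h1
    exact h1
  have hBcen : B ≤ Subgroup.centralizer ((A ⊔ B : Subgroup Ω) : Set Ω) := by
    intro b hb
    rw [Subgroup.mem_centralizer_iff]
    intro y hy
    have : A ⊔ B ≤ Subgroup.centralizer ({b} : Set Ω) := by
      apply sup_le
      · intro a ha
        rw [Subgroup.mem_centralizer_singleton_iff]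
        exact hcomm a ha b hb
      · intro b' hb'
        rw [Subgroup.mem_centralizer_singleton_iff]
        exact congrArg Subtype.val (hBc.is_comm.comm ⟨b', hb'⟩ ⟨b, hb⟩)
    have h1 := this hy
    rw [Subgroup.mem_centralizer_singleton_iff] at h1
    exact h1
  have hAK : A ≤ K := fun a ha => ⟨Subgroup.mem_sup_left ha, hAcen ha, hA.2 a ha⟩
  have hBK : B ≤ K := fun b hb => ⟨Subgroup.mem_sup_right hb, hBcen hb, hB.2 b hb⟩
  have hK : A ⊔ B ≤ K := sup_le hAK hBK
  refine ⟨⟨⟨?_⟩⟩, fun x hx => (hK hx).2.2⟩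
  rintro ⟨x, hx⟩ ⟨y, hy⟩
  apply Subtype.ext
  show x * y = y * x
  exact ((Subgroup.mem_centralizer_iff.mp (hK hx).2.1) y hy).symm

/-- `G` contains every map of `F` defined on a small abelian subgroup of `H`. -/
def Ctl (p : ℕ) (F G : FusionSystem S) (H : Subgroup Ω) : Prop :=
  ∀ A : Subgroup Ω, A ≤ H → SmallAb p A → F.Hom A ⊆ G.Hom A

/-- a map defined on a subgroup `P ≥ V` of `C_S(V)` and fixing `V` elementwise is a map of the centralizer system -/
theorem mem_centralizerHom_of_le (F : FusionSystem S) {V P : Subgroup Ω} (hVP : V ≤ P)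
    (hPC : P ≤ centralizerIn S V) {φ : P →* Ω} (hφ : φ ∈ F.Hom P)
    (hφC : ∀ x : P, φ x ∈ centralizerIn S V) (hfix : ∀ x : P, (x : Ω) ∈ V → φ x = x) :
    φ ∈ F.centralizerHom V P := by
  refine ⟨hφ, hPC, hφC, ?_⟩
  have hsup : P ⊔ V = P := sup_eq_left.mpr hVP
  refine ⟨_, fs_mem_of_eq F hsup hφ, fun x => rfl, fun x => ?_⟩
  exact hfix ⟨x, hVP x.2⟩ x.2

end Cfsg.Agent.Lib.Helper7.BGH
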