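import Mathlib
import Cfsg.Prelude.Def_FusionSystem
import Cfsg.Prelude.Def_Transfer
import Cfsg.Agent.Lib.Helper7.BGHa
import Cfsg.Agent.Lib.Helper7.FusionNormalizer
import Cfsg.Agent.Lib.Helper7.FusionCore
import Cfsg.Agent.Lib.Helper7.FusionCentral
import Cfsg.Agent.Lib.Helper7.KNormalizerSat2

/-!
# Control of fusion by small-exponent abelian subgroups, part B: the centralizer pair
-/

set_option autoImplicit false

namespace Cfsg.Agent.Lib.Helper7.BGH

open Cfsg Cfsg.FusionSystem Cfsg.Agent.Lib.Helper7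

variable {Ω : Type*} [Group Ω] {S : Subgroup Ω}

/-- `p'`-automorphisms of the system move elements within `H` -/
def HypProp (p : ℕ) (F : FusionSystem S) (H : Subgroup Ω) : Prop :=
  ∀ (P : Subgroup Ω) (β : MulAut P), P ≤ S → β ∈ F.autGroup P → (orderOf β).Coprime p →
    ∀ x : P, (x : Ω)⁻¹ * ((β x : P) : Ω) ∈ H

theorem centralizerHom_mono {F G : FusionSystem S} (hGF : G ≤ F) (D P : Subgroup Ω) :
    G.centralizerHom D P ⊆ F.centralizerHom D P := by
  rintro φ ⟨hφ, hPC, hval, ψ, hψ, hext, hfix⟩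
  exact ⟨hGF P hφ, hPC, hval, ψ, hGF _ hψ, hext, hfix⟩

theorem normalizerHom_mono' {F G : FusionSystem S} (hGF : G ≤ F) (D P : Subgroup Ω) :
    G.normalizerHom D P ⊆ F.normalizerHom D P := by
  rintro φ ⟨hφ, hPC, hval, ψ, hψ, hext, hfix⟩
  exact ⟨hGF P hφ, hPC, hval, ψ, hGF _ hψ, hext, hfix⟩

/-- the hypothesis passes to the centralizer pair -/
theorem ctl_centralizer {p : ℕ} {F G : FusionSystem S} {H D : Subgroup Ω} (hDH : D ≤ H)
    (hD : SmallAb p D) (hctl : Ctl p F G H) (A : Subgroup Ω) (hAH : A ≤ H) (hA : SmallAb p A) :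
    F.centralizerHom D A ⊆ G.centralizerHom D A := by
  rintro φ ⟨hφ, hAC, hval, ψ, hψ, hext, hfix⟩
  have hcomm : ∀ a ∈ A, ∀ d ∈ D, a * d = d * a := by
    intro a ha d hd
    have h1 : a ∈ Subgroup.centralizer (D : Set Ω) := (hAC ha).2
    exact ((Subgroup.mem_centralizer_iff.mp h1) d hd).symm
  have hsm : SmallAb p (A ⊔ D) := smallAb_sup hA hD hcomm
  have hψG : ψ ∈ G.Hom (A ⊔ D) := hctl (A ⊔ D) (sup_le hAH hDH) hsm hψ
  have hφG : φ ∈ G.Hom A := by
    have h1 := fs_restrict_mem G (le_sup_left : A ≤ A ⊔ D) hψG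
    have e : ψ.comp (Subgroup.inclusion (le_sup_left : A ≤ A ⊔ D)) = φ := by
      ext x
      exact hext x
    rw [e] at h1
    exact h1
  exact ⟨hφG, hAC, hval, ψ, hψG, hext, hfix⟩

/-- an automorphism of `P` in the centralizer system extends to an automorphism of `P ⊔ D` in `F` -/
theorem exists_ext_aut_of_centralizer [Finite S] (F : FusionSystem S) {D P : Subgroup Ω} (hDS : D ≤ S)
    (β : MulAut P) (hβ : P.subtype.comp β.toMonoidHom ∈ F.centralizerHom D P) :
    ∃ α : MulAut ↥(P ⊔ D), α ∈ F.autGroup (P ⊔ D) ∧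
      ∀ x : P, ((α (Subgroup.inclusion le_sup_left x) : ↥(P ⊔ D)) : Ω) = ((β x : P) : Ω) := by
  obtain ⟨hβF, hPC, -, ψ, hψ, hext, hfix⟩ := hβ
  have hPS : P ≤ S := hPC.trans inf_le_left
  have hUS : P ⊔ D ≤ S := sup_le hPS hDS
  haveI : Finite ↥(P ⊔ D) := finite_of_le hUS
  have hmapQ : (D.subgroupOf (P ⊔ D)).map ψ ≤ D := by
    rintro _ ⟨r, hr, rfl⟩
    have := hfix ⟨r, Subgroup.mem_subgroupOf.mp hr⟩
    have e : Subgroup.inclusion le_sup_right (⟨r, Subgroup.mem_subgroupOf.mp hr⟩ : D) = r := rfl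
    rw [e] at this
    rw [this]; exact Subgroup.mem_subgroupOf.mp hr
  have hval : ∀ u, ψ u ∈ P ⊔ D :=
    ext_values_mem_sup (P.subtype.comp β.toMonoidHom) ψ hext hmapQ (fun x => (β x).2)
  have hinj := F.injective_of_mem hψ
  have hrange : ψ.range = P ⊔ D := by
    apply Subgroup.eq_of_le_of_card_ge
    · rintro _ ⟨u, rfl⟩; exact hval u
    · exact le_of_eq (Nat.card_congr (Equiv.ofInjective ψ hinj))
  refine ⟨isoOfRange ψ hinj hrange, ?_, fun x => ?_⟩
  · rw [mem_autGroup_iff F hUS]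
    have e : (P ⊔ D).subtype.comp (isoOfRange ψ hinj hrange).toMonoidHom = ψ := by
      ext u
      exact isoOfRange_coe ψ hinj hrange u
    rw [e]; exact hψ
  · rw [isoOfRange_coe]
    exact hext x

theorem pow_restrict {P U : Subgroup Ω} (hPU : P ≤ U) (α : MulAut U) (β : MulAut P)
    (h : ∀ x : P, ((α (Subgroup.inclusion hPU x) : U) : Ω) = ((β x : P) : Ω)) (k : ℕ) :
    ∀ x : P, (((α ^ k) (Subgroup.inclusion hPU x) : U) : Ω) = (((β ^ k) x : P) : Ω) := by
  induction k with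
  | zero => intro x; rfl
  | succ k ih =>
    intro x
    rw [pow_succ, pow_succ, MulAut.mul_apply, MulAut.mul_apply]
    have e : α (Subgroup.inclusion hPU x) = Subgroup.inclusion hPU (β x) := Subtype.ext (h x)
    rw [e]
    exact ih (β x)

/-- the hyperfocal-type property passes to the centralizer system -/
theorem hypProp_centralizer [Finite S] {p : ℕ} [hp : Fact p.Prime] {F : FusionSystem S} {H D : Subgroup Ω}
    (hDS : D ≤ S) (hH : HypProp p F H) (CF : FusionSystem (centralizerIn S D))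
    (hCF : F.IsCentralizerSystem D CF) : HypProp p CF (H ⊓ centralizerIn S D) := by
  intro P β hPC hβ hcop x
  refine ⟨?_, Subgroup.mul_mem _ (Subgroup.inv_mem _ (hPC x.2)) (hPC (β x).2)⟩
  rw [mem_autGroup_iff CF hPC, hCF] at hβ
  obtain ⟨α, hα, hαβ⟩ := exists_ext_aut_of_centralizer F hDS β hβ
  have hPS : P ≤ S := hPC.trans inf_le_left
  have hUS : P ⊔ D ≤ S := sup_le hPS hDS
  haveI : Finite ↥(P ⊔ D) := finite_of_le hUS
  haveI : Finite ↥P := finite_of_le hPS
  -- split the order of `α`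
  have hNpos : 0 < orderOf α := orderOf_pos α
  obtain ⟨j, m, hm, hN⟩ := Nat.exists_eq_pow_mul_and_not_dvd hNpos.ne' p hp.out.ne_one
  have hmcop : m.Coprime p := (Nat.Coprime.symm ((Nat.Prime.coprime_iff_not_dvd hp.out).mpr hm))
  have hpjcop : (p ^ j).Coprime (orderOf β) := Nat.Coprime.pow_left j hcop.symm
  obtain ⟨t, ht⟩ : ∃ t, p ^ j * t ≡ 1 [MOD orderOf β] := by
    obtain ⟨t, -, ht⟩ := Nat.exists_mul_mod_eq_of_coprime 1 hpjcop (orderOf_pos β).ne'
    exact ⟨t, ht⟩
  set γ : MulAut ↥(P ⊔ D) := α ^ (p ^ j * t) with hγ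
  have hγm : γ ^ m = 1 := by
    rw [hγ, ← pow_mul]
    have : p ^ j * t * m = orderOf α * t := by rw [hN]; ring
    rw [this, pow_mul, pow_orderOf_eq_one, one_pow]
  have hγcop : (orderOf γ).Coprime p :=
    Nat.Coprime.coprime_dvd_left (orderOf_dvd_of_pow_eq_one hγm) hmcop
  have hγA : γ ∈ F.autGroup (P ⊔ D) := Subgroup.pow_mem _ hα _
  have hβpow : β ^ (p ^ j * t) = β := by
    have := (pow_eq_pow_iff_modEq (x := β) (n := p ^ j * t) (m := 1)).mpr ht
    rw [this, pow_one]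
  have hγx := pow_restrict (le_sup_left : P ≤ P ⊔ D) α β hαβ (p ^ j * t) x
  rw [hβpow] at hγx
  have := hH (P ⊔ D) γ hUS hγA hγcop (Subgroup.inclusion le_sup_left x)
  rw [hγx] at this
  exact this

/-- `H ⊓ C_S(D)` is strongly closed in the centralizer system -/
theorem stronglyClosed_inf_centralizer {F : FusionSystem S} {H D : Subgroup Ω}
    (hH : F.StronglyClosed H) (CF : FusionSystem (centralizerIn S D))
    (hCF : F.IsCentralizerSystem D CF) : CF.StronglyClosed (H ⊓ centralizerIn S D) := by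
  refine ⟨inf_le_right, fun R hR φ hφ x => ?_⟩
  rw [hCF] at hφ
  exact ⟨hH.2 R (hR.trans inf_le_left) φ hφ.1 x, hφ.2.2.1 x⟩

/-- the centre of the centralizer system contains `Z(F)` and `D` -/
theorem center_sup_le_center_centralizer [Finite S] (p : ℕ) [Fact p.Prime] (hS : IsPGroup p S)
    (F : FusionSystem S) (hF : F.IsSaturated p) {D : Subgroup Ω} (hDS : D ≤ S)
    (hDab : IsMulCommutative ↥D)
    (CF : FusionSystem (centralizerIn S D)) (hCF : F.IsCentralizerSystem D CF)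
    (hCFsat : CF.IsSaturated p) : F.center ⊔ D ≤ CF.center := by
  have hSC : IsPGroup p ↥(centralizerIn S D) := hS.to_le inf_le_left
  haveI : Finite ↥(centralizerIn S D) := finite_of_le inf_le_left
  have hZ := isCentral_center F
  -- elements of `Z(F)` are central in `S`
  have hZS : F.center ≤ centralizerIn S D := by
    intro z hz
    refine ⟨hZ.1 hz, ?_⟩
    show z ∈ Subgroup.centralizer (D : Set Ω)
    rw [Subgroup.mem_centralizer_iff]
    intro d hd
    obtain ⟨ψ, hψ, hext, hfix⟩ := hZ.2 _ (conjHom (Subgroup.zpowers z) d)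
      (F.conj_mem (Subgroup.zpowers_le.mpr (hZ.1 hz)) (hDS hd))
    have h1 := hext ⟨z, Subgroup.mem_zpowers z⟩
    have h2 := hfix ⟨z, hz⟩
    have e : Subgroup.inclusion (le_sup_left : Subgroup.zpowers z ≤ Subgroup.zpowers z ⊔ F.center)
        ⟨z, Subgroup.mem_zpowers z⟩ = Subgroup.inclusion le_sup_right (⟨z, hz⟩ : F.center) :=
      Subtype.ext rfl
    rw [e, h2] at h1
    have h3 : d * z * d⁻¹ = z := h1.symm
    calc d * z = d * z * d⁻¹ * d := by group
      _ = z * d := by rw [h3]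
  have h1 : CF.IsCentral F.center := by
    rw [isCentral_iff_conj_singletons p hSC CF hCFsat]
    refine ⟨hZS, fun x hx y ⟨φ, hφ, hφx⟩ => ?_⟩
    rw [hCF] at hφ
    exact ((isCentral_iff_conj_singletons p hS F hF F.center).mp hZ).2 x hx y ⟨φ, hφ.1, hφx⟩
  have h2 : CF.IsCentral D := by
    rw [isCentral_iff_conj_singletons p hSC CF hCFsat]
    refine ⟨?_, fun x hx y ⟨φ, hφ, hφx⟩ => ?_⟩
    · intro d hd
      refine ⟨hDS hd, ?_⟩
      show d ∈ Subgroup.centralizer (D : Set Ω)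
      rw [Subgroup.mem_centralizer_iff]
      intro d' hd'
      exact congrArg Subtype.val (hDab.is_comm.comm ⟨d', hd'⟩ ⟨d, hd⟩)
    · rw [hCF] at hφ
      obtain ⟨-, -, -, ψ, -, hext, hfix⟩ := hφ
      have h1 := hext ⟨x, Subgroup.mem_zpowers x⟩
      have h2 := hfix ⟨x, hx⟩
      have e : Subgroup.inclusion (le_sup_left : Subgroup.zpowers x ≤ Subgroup.zpowers x ⊔ D)
          ⟨x, Subgroup.mem_zpowers x⟩ = Subgroup.inclusion le_sup_right (⟨x, hx⟩ : D) :=
        Subtype.ext rfl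
      rw [e, h2] at h1
      rw [← hφx, ← h1]
  exact le_sSup (isCentral_sup CF h1 h2)

end Cfsg.Agent.Lib.Helper7.BGH
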