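import Mathlib
import Cfsg.Prelude.Def_FusionSystem
import Cfsg.Prelude.Def_Transfer
import Cfsg.Agent.Lib.Helper7.BGHa
import Cfsg.Agent.Lib.Helper7.FusionCentricSub
import Cfsg.Agent.Lib.Helper7.FusionCore
import Cfsg.Agent.Lib.Helper7.FusionCentral

/-!
# Control of fusion by small-exponent abelian subgroups, part C: maps on subgroups with a noncentral
small abelian subgroup in their centre
-/

set_option autoImplicit false

namespace Cfsg.Agent.Lib.Helper7.BGH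

open Cfsg Cfsg.FusionSystem Cfsg.Agent.Lib.Helper7

variable {Ω : Type*} [Group Ω] {S : Subgroup Ω}

/-- transport of a map `lam` along an isomorphism `χ` with the same source -/
theorem exists_transport (F : FusionSystem S) {R : Subgroup Ω} {χ lam : R →* Ω} (hχ : χ ∈ F.Hom R)
    (hlam : lam ∈ F.Hom R) :
    ∃ θ ∈ F.Hom χ.range, ∀ x : R, θ ⟨χ x, ⟨x, rfl⟩⟩ = lam x := by
  obtain ⟨ι, hι, hιe⟩ := F.inv_mem hχ
  have hιR : ∀ y : χ.range, ι y ∈ R := by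
    rintro ⟨_, x, rfl⟩
    rw [hιe]; exact x.2
  refine ⟨lam.comp (ι.codRestrict R hιR), F.comp_mem hι hlam hιR, fun x => ?_⟩
  show lam ⟨ι ⟨χ x, _⟩, _⟩ = lam x
  congr 1
  exact Subtype.ext (hιe x)

/-- if `χ` and the transported map `θ` with `θ ∘ χ = lam` lie in `G`, so does `lam` -/
theorem mem_of_transport (G : FusionSystem S) {R : Subgroup Ω} {χ lam : R →* Ω} (hχ : χ ∈ G.Hom R)
    {θ : χ.range →* Ω} (hθ : θ ∈ G.Hom χ.range) (h : ∀ x : R, θ ⟨χ x, ⟨x, rfl⟩⟩ = lam x) :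
    lam ∈ G.Hom R := by
  have h1 := G.comp_mem hχ hθ (fun x => ⟨x, rfl⟩)
  have e : θ.comp (χ.codRestrict χ.range (fun x => ⟨x, rfl⟩)) = lam := by
    ext x
    exact h x
  rw [e] at h1
  exact h1

/-- a conjugate of a noncentral subgroup is noncentral -/
theorem not_le_center_of_isConj [Finite S] (p : ℕ) [Fact p.Prime] (hS : IsPGroup p S)
    (F : FusionSystem S) (hF : F.IsSaturated p) {D D' : Subgroup Ω} (hc : F.IsConj D D')
    (hD : ¬ D ≤ F.center) : ¬ D' ≤ F.center := by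
  intro hD'
  apply hD
  obtain ⟨χ0, hχ0, hr⟩ := hc
  have hZ := (isCentral_iff_conj_singletons p hS F hF F.center).mp (isCentral_center F)
  intro x hx
  obtain ⟨ι, hι, hιe⟩ := F.inv_mem hχ0
  have hy : χ0 ⟨x, hx⟩ ∈ F.center := hD' (hr ▸ ⟨⟨x, hx⟩, rfl⟩)
  have hle : Subgroup.zpowers (χ0 ⟨x, hx⟩) ≤ χ0.range :=
    Subgroup.zpowers_le.mpr ⟨⟨x, hx⟩, rfl⟩
  have hconj : F.IsConjElt (χ0 ⟨x, hx⟩) x :=
    ⟨ι.comp (Subgroup.inclusion hle), fs_restrict_mem F hle hι, hιe ⟨x, hx⟩⟩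
  have := hZ.2 _ hy x hconj
  rw [this]; exact hy

/-- **(GP-C)** a map of `F` defined on a subgroup `R` of `C_S(D)` containing the noncentral small abelian
subgroup `D` lies in `G`, provided the centralizer systems of `F` and `G` agree. -/
theorem gpc [Finite S] (p : ℕ) [Fact p.Prime] (hS : IsPGroup p S) (F G : FusionSystem S)
    (hF : F.IsSaturated p) (hG : G.IsSaturated p) (hGF : G ≤ F) (H : Subgroup Ω)
    (hH : F.StronglyClosed H) (hctl : Ctl p F G H)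
    (hC : ∀ D' : Subgroup Ω, D' ≤ H → SmallAb p D' → F.IsFullyCentralized D' → ¬ D' ≤ F.center →
      ∀ P : Subgroup Ω, F.centralizerHom D' P ⊆ G.centralizerHom D' P)
    {D R : Subgroup Ω} (hDH : D ≤ H) (hD : SmallAb p D) (hDZ : ¬ D ≤ F.center) (hDR : D ≤ R)
    (hRC : R ≤ centralizerIn S D) (φ : R →* Ω) (hφ : φ ∈ F.Hom R) : φ ∈ G.Hom R := by
  have hRS : R ≤ S := hRC.trans inf_le_left
  have hDS : D ≤ S := hDR.trans hRS
  -- the fully centralized conjugate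
  obtain ⟨D', hconj, hfc⟩ := exists_isFullyCentralized_conj F hDS
  have hD'Z : ¬ D' ≤ F.center := not_le_center_of_isConj p hS F hF hconj hDZ
  obtain ⟨χ0, hχ0, hr⟩ := hconj
  have hD'H : D' ≤ H := by
    rw [← hr]
    rintro _ ⟨x, rfl⟩
    exact hH.2 D hDH χ0 hχ0 x
  have hD'sm : SmallAb p D' := hr ▸ smallAb_range hD χ0
  have hχ0G : χ0 ∈ G.Hom D := hctl D hDH hD hχ0
  have hfcG : G.IsFullyCentralized D' :=
    ⟨hfc.1, fun Q ⟨ψ, hψ, hψr⟩ => hfc.2 Q ⟨ψ, hGF _ hψ, hψr⟩⟩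
  have hrecG : G.IsReceptive D' := ((isSaturated_iff_sylow_extension p hS G).mp hG).2 D' hfcG
  -- extension of `χ0`
  obtain ⟨χ, hχ, hχext⟩ := hrecG.2 D χ0 hχ0G hr
  have hRext : R ≤ extender S D χ0 := hRC.trans (centralizerIn_le_extender S D χ0)
  have hχR : χ.comp (Subgroup.inclusion hRext) ∈ G.Hom R := fs_restrict_mem G hRext hχ
  have hχRD : ∀ d : D, (χ.comp (Subgroup.inclusion hRext)) ⟨d, hDR d.2⟩ = χ0 d := fun d =>
    hχext d d.2 (hRext (hDR d.2))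
  -- the image of `D` under `φ`
  have hφD : φ.comp (Subgroup.inclusion hDR) ∈ F.Hom D := fs_restrict_mem F hDR hφ
  obtain ⟨ψ1, hψ1, hψ1e⟩ := F.inv_mem hφD
  have hψ1D : ∀ y : (φ.comp (Subgroup.inclusion hDR)).range, ψ1 y ∈ D := by
    rintro ⟨_, x, rfl⟩
    rw [hψ1e]; exact x.2
  have hμ0 : χ0.comp (ψ1.codRestrict D hψ1D) ∈ F.Hom (φ.comp (Subgroup.inclusion hDR)).range :=
    F.comp_mem hψ1 hχ0 hψ1D
  have hμ0e : ∀ d : D, (χ0.comp (ψ1.codRestrict D hψ1D)) ⟨φ ⟨d, hDR d.2⟩, ⟨d, rfl⟩⟩ = χ0 d := by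
    intro d
    show χ0 ⟨ψ1 ⟨φ ⟨d, hDR d.2⟩, ⟨d, rfl⟩⟩, _⟩ = χ0 d
    congr 1
    exact Subtype.ext (hψ1e d)
  have hD1H : (φ.comp (Subgroup.inclusion hDR)).range ≤ H := by
    rintro _ ⟨x, rfl⟩
    exact hH.2 D hDH _ hφD x
  have hD1sm : SmallAb p (φ.comp (Subgroup.inclusion hDR)).range := smallAb_range hD _
  have hμ0G := hctl _ hD1H hD1sm hμ0
  have hμ0r : (χ0.comp (ψ1.codRestrict D hψ1D)).range = D' := by
    rw [← hr]
    ext y
    constructor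
    · rintro ⟨z, rfl⟩
      exact ⟨_, rfl⟩
    · rintro ⟨d, rfl⟩
      exact ⟨⟨φ ⟨d, hDR d.2⟩, ⟨d, rfl⟩⟩, hμ0e d⟩
  obtain ⟨μ, hμ, hμext⟩ := hrecG.2 _ _ hμ0G hμ0r
  have hval : ∀ x : R, φ x ∈ extender S (φ.comp (Subgroup.inclusion hDR)).range
      (χ0.comp (ψ1.codRestrict D hψ1D)) := by
    intro x
    apply centralizerIn_le_extender
    refine ⟨(F.le_of_mem hφ).2 x, ?_⟩
    show φ x ∈ Subgroup.centralizer (((φ.comp (Subgroup.inclusion hDR)).range : Subgroup Ω) : Set Ω)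
    rw [Subgroup.mem_centralizer_iff]
    rintro _ ⟨d, rfl⟩
    show φ ⟨d, hDR d.2⟩ * φ x = φ x * φ ⟨d, hDR d.2⟩
    rw [← map_mul, ← map_mul]
    congr 1
    apply Subtype.ext
    have h1 : (x : Ω) ∈ Subgroup.centralizer (D : Set Ω) := (hRC x.2).2
    exact (Subgroup.mem_centralizer_iff.mp h1) d d.2
  have hlam : μ.comp (φ.codRestrict _ hval) ∈ F.Hom R := F.comp_mem hφ (hGF _ hμ) hval
  have hlamD : ∀ d : D, (μ.comp (φ.codRestrict _ hval)) ⟨d, hDR d.2⟩ = χ0 d := by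
    intro d
    have := hμext (φ ⟨d, hDR d.2⟩) ⟨d, rfl⟩ (hval ⟨d, hDR d.2⟩)
    rw [hμ0e d] at this
    exact this
  -- the transported map
  obtain ⟨θ, hθ, hθe⟩ := exists_transport F (hGF R hχR) hlam
  have hθC : θ ∈ F.centralizerHom D' (χ.comp (Subgroup.inclusion hRext)).range := by
    have hD'le : D' ≤ (χ.comp (Subgroup.inclusion hRext)).range := by
      rw [← hr]
      rintro _ ⟨d, rfl⟩
      exact ⟨⟨d, hDR d.2⟩, hχRD d⟩
    have hcomm : ∀ (f : R →* Ω), (∀ d : D, f ⟨d, hDR d.2⟩ = χ0 d) → (∀ x : R, f x ∈ S) → ∀ x : R,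
        f x ∈ centralizerIn S D' := by
      intro f hf hfS x
      refine ⟨hfS x, ?_⟩
      show f x ∈ Subgroup.centralizer (D' : Set Ω)
      rw [Subgroup.mem_centralizer_iff, ← hr]
      rintro _ ⟨d, rfl⟩
      rw [← hf d, ← map_mul, ← map_mul]
      congr 1
      apply Subtype.ext
      have h1 : (x : Ω) ∈ Subgroup.centralizer (D : Set Ω) := (hRC x.2).2
      exact (Subgroup.mem_centralizer_iff.mp h1) d d.2
    apply mem_centralizerHom_of_le F hD'le _ hθ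
    · rintro ⟨_, x, rfl⟩
      rw [hθe x]
      exact hcomm _ hlamD (fun x => (F.le_of_mem hlam).2 x) x
    · rintro ⟨_, x, rfl⟩ hy
      rw [hθe x]
      rw [← hr] at hy
      obtain ⟨d, hd⟩ := hy
      have h1 : (χ.comp (Subgroup.inclusion hRext)) ⟨d, hDR d.2⟩ =
          (χ.comp (Subgroup.inclusion hRext)) x := by rw [hχRD d]; exact hd
      have h2 := G.injective_of_mem hχR h1
      subst h2
      show (μ.comp (φ.codRestrict _ hval)) ⟨d, hDR d.2⟩ =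
        (χ.comp (Subgroup.inclusion hRext)) ⟨d, hDR d.2⟩
      rw [hlamD d, hχRD d]
    · rintro _ ⟨x, rfl⟩
      exact hcomm _ hχRD (fun x => (G.le_of_mem hχR).2 x) x
  have hθG : θ ∈ G.Hom (χ.comp (Subgroup.inclusion hRext)).range :=
    (hC D' hD'H hD'sm hfc hD'Z _ hθC).1
  have hlamG : μ.comp (φ.codRestrict _ hval) ∈ G.Hom R := mem_of_transport G hχR hθG hθe
  exact fs_left_cancel G hμ φ hval hlamG

end Cfsg.Agent.Lib.Helper7.BGH
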