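import Mathlib
import Cfsg.Prelude.Def_FusionSystem
import Cfsg.Agent.Lib.Helper7.FusionSat4
import Cfsg.Agent.Lib.Helper7.Stability

set_option autoImplicit false

namespace Cfsg.Agent.Lib.Helper7

open Cfsg Cfsg.FusionSystem
open scoped Pointwise

variable {Ω : Type*} [Group Ω]

/-- In a finite `p`-group, a subgroup `D` normalized by `R` and not contained in `R` contains an element
normalizing `R` outside `R`. -/
theorem exists_normalizing_not_mem {S : Subgroup Ω} [Finite S] {p : ℕ} [Fact p.Prime]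
    (hS : IsPGroup p S) {R D : Subgroup Ω} (hRS : R ≤ S) (hDS : D ≤ S)
    (hRD : R ≤ Subgroup.normalizer (D : Set Ω)) (hD : ¬ D ≤ R) :
    ∃ d ∈ D, d ∈ Subgroup.normalizer (R : Set Ω) ∧ d ∉ R := by
  obtain ⟨K, hK⟩ : ∃ K : Subgroup Ω, K = R ⊔ D := ⟨_, rfl⟩
  have hKS : K ≤ S := by rw [hK]; exact sup_le hRS hDS
  haveI : Finite ↥K := finite_of_le hKS
  have hKp : IsPGroup p ↥K := hS.to_le hKS
  have hRK : R ≤ K := by rw [hK]; exact le_sup_left
  have hne : R ≠ K := by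
    intro h
    apply hD
    rw [h, hK]
    exact le_sup_right
  obtain ⟨x, hxN, hxR⟩ := lt_normalizerIn_of_ne hKp hRK hne
  have hxK : x ∈ (↑(R ⊔ D) : Set Ω) := by rw [← hK]; exact hxN.1
  rw [Subgroup.coe_mul_of_left_le_normalizer_right R D hRD] at hxK
  obtain ⟨r, hr, d, hd, rfl⟩ := hxK
  refine ⟨d, hd, ?_, ?_⟩
  · have h1 : r⁻¹ ∈ Subgroup.normalizer (R : Set Ω) :=
      Subgroup.le_normalizer (R.inv_mem hr)
    have h2 := Subgroup.mul_mem _ h1 hxN.2
    rwa [inv_mul_cancel_left] at h2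
  · intro hdR
    exact hxR (R.mul_mem hr hdR)

end Cfsg.Agent.Lib.Helper7
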