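import Mathlib
import Cfsg.Prelude.Def_FusionSystem
import Cfsg.Agent.Lib.Helper7.FusionInvTop

set_option autoImplicit false

namespace Cfsg.Agent.Lib.Helper7

open Cfsg Cfsg.FusionSystem

variable {Ω : Type*} [Group Ω] {S : Subgroup Ω}

/-- A hom agreeing pointwise with a restriction of a map of the system is in the system. -/
theorem fs_mem_of_agree (F : FusionSystem S) {P R : Subgroup Ω} (h : R ≤ P) {φ : P →* Ω}
    (hφ : φ ∈ F.Hom P) (χ : R →* Ω) (hχ : ∀ x : R, χ x = φ ⟨x, h x.2⟩) : χ ∈ F.Hom R := by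
  have := fs_restrict_mem F h hφ
  convert this using 1
  ext x
  exact hχ x

theorem fs_comp_mem_of_agree (F : FusionSystem S) {P Q : Subgroup Ω} {φ : P →* Ω} {ψ : Q →* Ω}
    (hφ : φ ∈ F.Hom P) (hψ : ψ ∈ F.Hom Q) (h : ∀ x : P, φ x ∈ Q) (χ : P →* Ω)
    (hχ : ∀ x : P, χ x = ψ ⟨φ x, h x⟩) : χ ∈ F.Hom P := by
  have := F.comp_mem hφ hψ h
  convert this using 1
  ext x
  exact hχ x

/-- The strong invariance condition. -/
def StrongInv (F : FusionSystem S) {T : Subgroup Ω} (E : FusionSystem T) : Prop :=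
  ∀ (P Q : Subgroup Ω) (hPQ : P ≤ Q) (_ : Q ≤ T) (φ : P →* Ω) (_ : φ ∈ E.Hom P)
    (hφQ : ∀ x : P, φ x ∈ Q) (ψ : Q →* Ω) (_ : ψ ∈ F.Hom Q),
    ∃ χ ∈ E.Hom ((P.subgroupOf Q).map ψ),
      ∀ (x : P) (hx : ψ (Subgroup.inclusion hPQ x) ∈ (P.subgroupOf Q).map ψ),
        χ ⟨ψ (Subgroup.inclusion hPQ x), hx⟩ = ψ ⟨φ x, hφQ x⟩

/-- Invariance under `Aut_F(T)`. -/
def AutInv (F : FusionSystem S) {T : Subgroup Ω} (E : FusionSystem T) : Prop :=
  ∀ (P : Subgroup Ω) (hPT : P ≤ T) (φ : P →* Ω), φ ∈ E.Hom P → ∀ α ∈ F.autGroup T,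
    ∃ χ ∈ E.Hom ((P.subgroupOf T).map (T.subtype.comp α.toMonoidHom)),
      ∀ (x : P) (hφx : φ x ∈ T)
        (hαx : ((α ⟨x, hPT x.2⟩ : T) : Ω) ∈ (P.subgroupOf T).map (T.subtype.comp α.toMonoidHom)),
        χ ⟨(α ⟨x, hPT x.2⟩ : T), hαx⟩ = ((α ⟨φ x, hφx⟩ : T) : Ω)

/-- Frattini decomposition of one map. -/
def FratDec (F : FusionSystem S) {T : Subgroup Ω} (E : FusionSystem T) (P : Subgroup Ω)
    (φ : P →* Ω) : Prop :=
  ∃ α ∈ F.autGroup T, ∃ φ₀ ∈ E.Hom P, ∀ (x : P) (hx : φ₀ x ∈ T), φ x = ((α ⟨φ₀ x, hx⟩ : T) : Ω)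

variable {T : Subgroup Ω}

theorem autInv_of_strongInv (F : FusionSystem S) (E : FusionSystem T) (hTS : T ≤ S)
    (h : StrongInv F E) : AutInv F E := by
  intro P hPT φ hφ α hα
  have hα' := (mem_autGroup_iff F hTS α).mp hα
  obtain ⟨χ, hχ, hχe⟩ := h P T hPT le_rfl φ hφ (fun x => (E.le_of_mem hφ).2 x) _ hα'
  refine ⟨χ, hχ, fun x hφx hαx => ?_⟩
  exact hχe x hαx

/-- Transport of an `E`-automorphism along an `F`-isomorphism. -/
theorem autGroup_congr_of_strongInv (F : FusionSystem S) (E : FusionSystem T)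
    (hSI : StrongInv F E) {Q R : Subgroup Ω} (hQT : Q ≤ T) {ψ : Q →* Ω} (hψ : ψ ∈ F.Hom Q)
    (hr : ψ.range = R) {θ : MulAut Q} (hθ : θ ∈ E.autGroup Q) :
    MulAut.congr (isoOfRange ψ (F.injective_of_mem hψ) hr) θ ∈ E.autGroup R := by
  have hθ' := (mem_autGroup_iff E hQT θ).mp hθ
  obtain ⟨χ, hχ, hχe⟩ := hSI Q Q le_rfl hQT _ hθ' (fun x => (θ x).2) ψ hψ
  have hRM : R ≤ (Q.subgroupOf Q).map ψ := by
    rw [← hr]
    rintro _ ⟨x, rfl⟩
    exact ⟨x, Subgroup.mem_subgroupOf.mpr x.2, rfl⟩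
  have hRT : R ≤ T := hRM.trans (E.le_of_mem hχ).1
  rw [mem_autGroup_iff E hRT]
  apply fs_mem_of_agree E hRM hχ
  intro y
  set e := isoOfRange ψ (F.injective_of_mem hψ) hr with he
  have h1 : ψ (e.symm y) = (y : Ω) := isoOfRange_symm_apply ψ _ hr y
  have hx : ψ (Subgroup.inclusion le_rfl (e.symm y)) ∈ (Q.subgroupOf Q).map ψ := by
    show ψ (e.symm y) ∈ _
    rw [h1]; exact hRM y.2
  have h2 := hχe (e.symm y) hx
  have e1 : (⟨ψ (Subgroup.inclusion le_rfl (e.symm y)), hx⟩ : ↥((Q.subgroupOf Q).map ψ)) =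
      ⟨y, hRM y.2⟩ := Subtype.ext h1
  rw [e1] at h2
  rw [h2]
  rfl


/-- L1: an `E`-map after a Frattini-decomposed map is Frattini-decomposed. -/
theorem fratDec_of_comp_E (F : FusionSystem S) (E : FusionSystem T) (hAI : AutInv F E)
    {P R' : Subgroup Ω} {φ₀ : P →* Ω} (hφ₀ : φ₀ ∈ E.Hom P) {α : MulAut T}
    (hα : α ∈ F.autGroup T) {γ : R' →* Ω} (hγ : γ ∈ E.Hom R') (φ : P →* Ω)
    (hmem : ∀ x : P, ((α ⟨φ₀ x, (E.le_of_mem hφ₀).2 x⟩ : T) : Ω) ∈ R')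
    (hφ : ∀ x : P, φ x = γ ⟨((α ⟨φ₀ x, (E.le_of_mem hφ₀).2 x⟩ : T) : Ω), hmem x⟩) :
    FratDec F E P φ := by
  have hR'T : R' ≤ T := (E.le_of_mem hγ).1
  obtain ⟨γ', hγ', hγ'e⟩ := hAI R' hR'T γ hγ α⁻¹ (Subgroup.inv_mem _ hα)
  have hφ₀R : ∀ x : P, φ₀ x ∈ (R'.subgroupOf T).map (T.subtype.comp (α⁻¹).toMonoidHom) := by
    intro x
    refine ⟨α ⟨φ₀ x, (E.le_of_mem hφ₀).2 x⟩, Subgroup.mem_subgroupOf.mpr (hmem x), ?_⟩
    show ((α⁻¹ (α ⟨φ₀ x, _⟩) : T) : Ω) = φ₀ x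
    rw [MulAut.inv_apply_self]
  refine ⟨α, hα, γ'.comp (φ₀.codRestrict _ hφ₀R), E.comp_mem hφ₀ hγ' hφ₀R, fun x hx => ?_⟩
  rw [hφ x]
  have hαy : ((α⁻¹ ⟨((α ⟨φ₀ x, (E.le_of_mem hφ₀).2 x⟩ : T) : Ω), hR'T (hmem x)⟩ : T) : Ω) ∈
      (R'.subgroupOf T).map (T.subtype.comp (α⁻¹).toMonoidHom) := by
    have : (⟨((α ⟨φ₀ x, (E.le_of_mem hφ₀).2 x⟩ : T) : Ω), hR'T (hmem x)⟩ : T) =
        α ⟨φ₀ x, (E.le_of_mem hφ₀).2 x⟩ := Subtype.ext rfl
    rw [this, MulAut.inv_apply_self]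
    exact hφ₀R x
  have key := hγ'e ⟨_, hmem x⟩ ((E.le_of_mem hγ).2 _) hαy
  have e1 : (⟨((α⁻¹ ⟨((α ⟨φ₀ x, (E.le_of_mem hφ₀).2 x⟩ : T) : Ω), hR'T (hmem x)⟩ : T) : Ω), hαy⟩ :
      ↥((R'.subgroupOf T).map (T.subtype.comp (α⁻¹).toMonoidHom))) = ⟨φ₀ x, hφ₀R x⟩ := by
    apply Subtype.ext
    have : (⟨((α ⟨φ₀ x, (E.le_of_mem hφ₀).2 x⟩ : T) : Ω), hR'T (hmem x)⟩ : T) =
        α ⟨φ₀ x, (E.le_of_mem hφ₀).2 x⟩ := Subtype.ext rfl
    show ((α⁻¹ _ : T) : Ω) = φ₀ x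
    rw [this, MulAut.inv_apply_self]
  rw [e1] at key
  have e2 : (⟨(γ'.comp (φ₀.codRestrict _ hφ₀R)) x, hx⟩ : T) =
      α⁻¹ ⟨γ ⟨_, hmem x⟩, (E.le_of_mem hγ).2 _⟩ := by
    apply Subtype.ext
    exact key
  rw [e2, MulAut.apply_inv_self]

/-- L2: cancellation of a Frattini-decomposed map on the left. -/
theorem fratDec_cancel (F : FusionSystem S) (E : FusionSystem T) (hAI : AutInv F E)
    {P R : Subgroup Ω} {φ : P →* Ω} (hφR : ∀ x : P, φ x ∈ R) {χ : R →* Ω}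
    (hχ : FratDec F E R χ) (ξ : P →* Ω) (hξe : ∀ x, ξ x = χ ⟨φ x, hφR x⟩)
    (hξ : FratDec F E P ξ) : FratDec F E P φ := by
  obtain ⟨α₂, hα₂, θ₂, hθ₂, hχe⟩ := hχ
  obtain ⟨α₁, hα₁, θ₁, hθ₁, hξe'⟩ := hξ
  have hinv := fs_iso_symm_mem E hθ₂ rfl
  set e := isoOfRange θ₂ (E.injective_of_mem hθ₂) rfl with he
  have hkey : ∀ x : P, ((α₂⁻¹ * α₁) ⟨θ₁ x, (E.le_of_mem hθ₁).2 x⟩ : T) =
      ⟨θ₂ ⟨φ x, hφR x⟩, (E.le_of_mem hθ₂).2 _⟩ := by
    intro x
    have h1 := hξe' x ((E.le_of_mem hθ₁).2 x)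
    have h2 := hχe ⟨φ x, hφR x⟩ ((E.le_of_mem hθ₂).2 _)
    rw [hξe x, h2] at h1
    have h3 : α₂ ⟨θ₂ ⟨φ x, hφR x⟩, (E.le_of_mem hθ₂).2 _⟩ = α₁ ⟨θ₁ x, (E.le_of_mem hθ₁).2 x⟩ :=
      Subtype.ext h1
    rw [MulAut.mul_apply, ← h3, MulAut.inv_apply_self]
  have hkey' : ∀ x : P, (((α₂⁻¹ * α₁) ⟨θ₁ x, (E.le_of_mem hθ₁).2 x⟩ : T) : Ω) =
      θ₂ ⟨φ x, hφR x⟩ := fun x => congrArg Subtype.val (hkey x)
  have hmem : ∀ x : P, (((α₂⁻¹ * α₁) ⟨θ₁ x, (E.le_of_mem hθ₁).2 x⟩ : T) : Ω) ∈ θ₂.range := by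
    intro x
    rw [hkey' x]; exact ⟨_, rfl⟩
  apply fratDec_of_comp_E F E hAI hθ₁ (Subgroup.mul_mem _ (Subgroup.inv_mem _ hα₂) hα₁) hinv φ hmem
  intro x
  show φ x = ((e.symm _ : R) : Ω)
  have h4 : e.symm ⟨(((α₂⁻¹ * α₁) ⟨θ₁ x, (E.le_of_mem hθ₁).2 x⟩ : T) : Ω), hmem x⟩ =
      ⟨φ x, hφR x⟩ := by
    rw [MulEquiv.symm_apply_eq]
    apply Subtype.ext
    rw [isoOfRange_coe]
    exact hkey' x
  rw [h4]


/-- Key step: an `F`-isomorphism from a proper subgroup of `T` onto a fully normalized subgroup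
is Frattini-decomposed, given the claim for all larger subgroups. -/
theorem fratDec_of_fullyNormalized [Finite S] (p : ℕ) [Fact p.Prime] (hS : IsPGroup p S)
    (F : FusionSystem S) (hF : F.IsSaturated p) (E : FusionSystem T) (hE : E.IsSubsystemOf F)
    (hT : F.StronglyClosed T) (hSI : StrongInv F E)
    {P : Subgroup Ω} (hPT : P ≤ T) (hPne : P ≠ T)
    (ih : ∀ N : Subgroup Ω, N ≤ T → Nat.card P < Nat.card N → ∀ ψ ∈ F.Hom N, FratDec F E N ψ)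
    {φ : P →* Ω} (hφ : φ ∈ F.Hom P) {R : Subgroup Ω} (hr : φ.range = R)
    (hFN : F.IsFullyNormalized R) : FratDec F E P φ := by
  have hTS : T ≤ S := hT.1
  have hAI := autInv_of_strongInv F E hTS hSI
  have hRS : R ≤ S := hFN.1
  have hRT : R ≤ T := by
    rw [← hr]; rintro _ ⟨x, rfl⟩; exact hT.2 P hPT φ hφ x
  obtain ⟨R', hcR, hFAR, hRecR⟩ := hF R hRS
  obtain ⟨hFA, hRec⟩ := isFullyAutomized_isReceptive_of_isFullyNormalized p hS F hFN hFAR hRecR hcR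
  haveI := finite_of_le hRS
  haveI : Finite (MulAut ↥R) := inferInstance
  have hPS : P ≤ S := hPT.trans hTS
  haveI : Finite T := finite_of_le hTS
  set e := isoOfRange φ (F.injective_of_mem hφ) hr with he
  -- X
  set X : Subgroup (MulAut R) := (autInducedBy T P).map (MulAut.congr e).toMonoidHom with hX
  have hXp : IsPGroup p ↥X := (isPGroup_autInducedBy T P (hS.to_le hTS)).map _
  have hXle : X ≤ E.autGroup R := by
    rintro _ ⟨θ, hθ, rfl⟩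
    exact autGroup_congr_of_strongInv F E hSI hPT hφ hr (autInducedBy_le_autGroup E hPT hθ)
  have hKle : E.autGroup R ≤ F.autGroup R := by
    intro β hβ
    rw [mem_autGroup_iff F hRS]
    exact hE R ((mem_autGroup_iff E hRT β).mp hβ)
  have hAK : F.autGroup R ≤ Subgroup.normalizer (E.autGroup R : Set (MulAut R)) := by
    intro a ha
    apply Cfsg.Agent.Lib.Lead.Conj.mem_normalizer_of_conj_mem
    intro β hβ
    have ha' := (mem_autGroup_iff F hRS a).mp ha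
    have hrange : (R.subtype.comp a.toMonoidHom).range = R := by
      ext y; constructor
      · rintro ⟨x, rfl⟩; exact (a x).2
      · intro hy; exact ⟨a⁻¹ ⟨y, hy⟩, by simp⟩
    have := autGroup_congr_of_strongInv F E hSI hRT ha' hrange hβ
    have he' : isoOfRange (R.subtype.comp a.toMonoidHom) (F.injective_of_mem ha') hrange = a :=
      MulEquiv.ext (fun x => Subtype.ext rfl)
    rw [he'] at this
    convert this using 1
    ext y
    rfl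
  have hsyl : IsSylowIn p (autInducedBy S R) (F.autGroup R) :=
    (isSylowIn_iff_exists_sylow (autInducedBy_le_autGroup F hRS)).mpr hFA.2
  have hTK : IsSylowIn p (autInducedBy S R ⊓ E.autGroup R) (E.autGroup R) :=
    hsyl.inf_normal _ hKle hAK
  obtain ⟨Y, hY, hXY⟩ := exists_isSylowIn_ge hXp hXle
  obtain ⟨b, hb, hconj⟩ := hY.conj hTK
  have hbX : ∀ ξ ∈ X, b * ξ * b⁻¹ ∈ autInducedBy S R := by
    intro ξ hξ
    have : b * ξ * b⁻¹ ∈ Y.map (MulAut.conj b).toMonoidHom :=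
      ⟨ξ, hXY hξ, by simp [MulAut.conj_apply]⟩
    rw [← hconj] at this
    exact this.1
  have hbF : b ∈ F.autGroup R := hKle hb
  -- φ'
  set φ' : P →* Ω := (R.subtype.comp b.toMonoidHom).comp e.toMonoidHom with hφ'def
  have hφ' : φ' ∈ F.Hom P := by
    have := F.comp_mem hφ ((mem_autGroup_iff F hRS b).mp hbF)
      (fun x => by rw [← hr]; exact ⟨x, rfl⟩)
    convert this using 1
    ext x
    rfl
  have hφ'range : φ'.range = R := by
    ext y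
    constructor
    · rintro ⟨x, rfl⟩
      exact (b (e x)).2
    · intro hy
      refine ⟨e.symm (b⁻¹ ⟨y, hy⟩), ?_⟩
      simp [hφ'def]
  -- N_T(P) ≤ extender
  have hNle : normalizerIn T P ≤ extender S P φ' := by
    intro g hg
    obtain ⟨hgT, hgN⟩ := hg
    apply mem_extender_of_mem (hTS hgT) hgN
    set γ : MulAut P := P.normalizerMonoidHom ⟨g, hgN⟩ with hγ
    have hγmem : γ ∈ autInducedBy T P :=
      (mem_autInducedBy_iff T P γ).mpr ⟨g, hgT, fun x => rfl⟩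
    have hβ : MulAut.congr e γ ∈ X := ⟨γ, hγmem, rfl⟩
    obtain ⟨h, hhS, hh⟩ := (mem_autInducedBy_iff S R _).mp (hbX _ hβ)
    refine ⟨h, hhS, fun x hx => ?_⟩
    have e1 : (⟨g * (x : Ω) * g⁻¹, hx⟩ : P) = γ x := Subtype.ext rfl
    have e2 := hh (b (e x))
    rw [e1]
    show ((b (e (γ x)) : R) : Ω) = h * ((b (e x) : R) : Ω) * h⁻¹
    rw [← e2]
    simp [MulAut.congr_apply]
  obtain ⟨-, hrec⟩ := hRec
  obtain ⟨φh, hφh, hext⟩ := hrec P φ' hφ' hφ'range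
  have hψ := fs_restrict_mem F hNle hφh
  have hNT : normalizerIn T P ≤ T := normalizerIn_le T P
  have hcard : Nat.card P < Nat.card (normalizerIn T P) :=
    card_lt_card_normalizerIn (hS.to_le hTS) hPT hPne
  obtain ⟨α, hα, ψ₀, hψ₀, hψe⟩ := ih _ hNT hcard _ hψ
  have hPN : P ≤ normalizerIn T P := le_normalizerIn hPT
  have hψ₀P := fs_restrict_mem E hPN hψ₀
  have hbinv : R.subtype.comp (b⁻¹).toMonoidHom ∈ E.Hom R :=
    (mem_autGroup_iff E hRT _).mp (Subgroup.inv_mem _ hb)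
  have hkey : ∀ x : P, ((α ⟨(ψ₀.comp (Subgroup.inclusion hPN)) x, (E.le_of_mem hψ₀P).2 x⟩ : T) : Ω) =
      ((b (e x) : R) : Ω) := by
    intro x
    have h1 := hψe (Subgroup.inclusion hPN x) ((E.le_of_mem hψ₀P).2 x)
    have h2 := hext x x.2 (hNle (hPN x.2))
    rw [show (α ⟨(ψ₀.comp (Subgroup.inclusion hPN)) x, (E.le_of_mem hψ₀P).2 x⟩ : T) =
      α ⟨ψ₀ (Subgroup.inclusion hPN x), (E.le_of_mem hψ₀P).2 x⟩ from rfl, ← h1]
    exact h2
  have hmem : ∀ x : P,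
      ((α ⟨(ψ₀.comp (Subgroup.inclusion hPN)) x, (E.le_of_mem hψ₀P).2 x⟩ : T) : Ω) ∈ R := by
    intro x
    rw [hkey x]; exact (b (e x)).2
  apply fratDec_of_comp_E F E hAI hψ₀P hα hbinv φ hmem
  intro x
  show φ x = ((b⁻¹ _ : R) : Ω)
  have h4 : (⟨((α ⟨(ψ₀.comp (Subgroup.inclusion hPN)) x, (E.le_of_mem hψ₀P).2 x⟩ : T) : Ω),
      hmem x⟩ : R) = b (e x) := Subtype.ext (hkey x)
  rw [h4, MulAut.inv_apply_self]
  rfl


/-- The Frattini condition follows from strong invariance. -/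
theorem fratDec_all [Finite S] (p : ℕ) [Fact p.Prime] (hS : IsPGroup p S)
    (F : FusionSystem S) (hF : F.IsSaturated p) (E : FusionSystem T) (hE : E.IsSubsystemOf F)
    (hT : F.StronglyClosed T) (hSI : StrongInv F E) :
    ∀ (P : Subgroup Ω), P ≤ T → ∀ φ ∈ F.Hom P, FratDec F E P φ := by
  have hTS := hT.1
  haveI : Finite T := finite_of_le hTS
  have hAI := autInv_of_strongInv F E hTS hSI
  suffices h : ∀ n : ℕ, ∀ P : Subgroup Ω, P ≤ T → Nat.card T - Nat.card P = n →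
      ∀ φ ∈ F.Hom P, FratDec F E P φ from fun P hPT φ hφ => h _ P hPT rfl φ hφ
  intro n
  induction n using Nat.strong_induction_on with
  | _ n IH =>
    intro P hPT hn φ hφ
    by_cases hPeq : P = T
    · subst hPeq
      have hmem : ∀ x : P, φ x ∈ P := hT.2 P le_rfl φ hφ
      let f : P →* P := φ.codRestrict P hmem
      have hfinj : Function.Injective f :=
        fun a b hab => F.injective_of_mem hφ (congrArg Subtype.val hab)
      have hf : Function.Bijective f := Finite.injective_iff_bijective.mp hfinj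
      let α : MulAut P := MulEquiv.ofBijective f hf
      have hα : α ∈ F.autGroup P := by
        rw [mem_autGroup_iff F hTS]
        convert hφ using 1
        ext x
        rfl
      exact ⟨α, hα, P.subtype, fs_subtype_mem E le_rfl, fun x hx => rfl⟩
    · have ih : ∀ N : Subgroup Ω, N ≤ T → Nat.card P < Nat.card N →
          ∀ ψ ∈ F.Hom N, FratDec F E N ψ := by
        intro N hNT hlt ψ hψ
        have hNle : Nat.card N ≤ Nat.card T := Subgroup.card_le_of_le hNT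
        have hPle : Nat.card P ≤ Nat.card T := Subgroup.card_le_of_le hPT
        exact IH (Nat.card T - Nat.card N) (by omega) N hNT rfl ψ hψ
      obtain ⟨R, hR⟩ : ∃ R, R = φ.range := ⟨_, rfl⟩
      have hφR : ∀ x : P, φ x ∈ R := fun x => by rw [hR]; exact ⟨x, rfl⟩
      have hRT : R ≤ T := by
        rw [hR]; rintro _ ⟨x, rfl⟩; exact hT.2 P hPT φ hφ x
      have hRS := hRT.trans hTS
      obtain ⟨R', ⟨χ, hχ, hχr⟩, hFN⟩ := exists_isFullyNormalized_conj F hRS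
      have hcard : Nat.card P = Nat.card R := card_eq_of_isConj F ⟨φ, hφ, hR.symm⟩
      have hRne : R ≠ T := by
        intro h
        apply hPeq
        exact Subgroup.eq_of_le_of_card_ge hPT (by rw [hcard, h])
      have ihR : ∀ N : Subgroup Ω, N ≤ T → Nat.card R < Nat.card N →
          ∀ ψ ∈ F.Hom N, FratDec F E N ψ := by
        rw [← hcard]; exact ih
      have h1 : FratDec F E R χ :=
        fratDec_of_fullyNormalized p hS F hF E hE hT hSI hRT hRne ihR hχ hχr hFN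
      have hξmem : χ.comp (φ.codRestrict R hφR) ∈ F.Hom P := F.comp_mem hφ hχ hφR
      have hξr : (χ.comp (φ.codRestrict R hφR)).range = R' := by
        rw [← hχr]; ext y; constructor
        · rintro ⟨x, rfl⟩; exact ⟨_, rfl⟩
        · rintro ⟨⟨r, hr⟩, rfl⟩
          rw [hR] at hr
          obtain ⟨x, rfl⟩ := hr
          exact ⟨x, rfl⟩
      have h2 : FratDec F E P (χ.comp (φ.codRestrict R hφR)) :=
        fratDec_of_fullyNormalized p hS F hF E hE hT hSI hPT hPeq ih hξmem hξr hFN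
      exact fratDec_cancel F E hAI hφR h1 _ (fun x => rfl) h2

/-- AKO I.6.4: invariance is equivalent to strong invariance. -/
theorem isInvariantIn_iff_strongInv [Finite S] (p : ℕ) [Fact p.Prime] (hS : IsPGroup p S)
    (F : FusionSystem S) (hF : F.IsSaturated p) (E : FusionSystem T) (hE : E.IsSubsystemOf F)
    (hT : F.StronglyClosed T) : E.IsInvariantIn F ↔ StrongInv F E := by
  constructor
  · rintro ⟨-, -, hAI, hFr⟩
    intro P Q hPQ hQT φ hφ hφQ ψ hψ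
    obtain ⟨α, hα, ψ₀, hψ₀, hψe⟩ := hFr Q hQT ψ hψ
    have hψ₀P := fs_restrict_mem E hPQ hψ₀
    obtain ⟨ρ, hρ⟩ : ∃ ρ : P →* Ω, ρ = ψ₀.comp (Subgroup.inclusion hPQ) := ⟨_, rfl⟩
    rw [← hρ] at hψ₀P
    have hρx : ∀ x : P, ρ x = ψ₀ (Subgroup.inclusion hPQ x) := fun x => by rw [hρ]; rfl
    obtain ⟨P₁, hP₁⟩ : ∃ P₁, ρ.range = P₁ := ⟨_, rfl⟩
    have hP₁T : P₁ ≤ T := by
      rw [← hP₁]; rintro _ ⟨x, rfl⟩; exact (E.le_of_mem hψ₀P).2 x
    set e := isoOfRange ρ (E.injective_of_mem hψ₀P) hP₁ with he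
    have hinv := fs_iso_symm_mem E hψ₀P hP₁
    have h1 := E.comp_mem hinv hφ (fun y => (e.symm y).2)
    have h2 := E.comp_mem h1 hψ₀ (fun y => hφQ (e.symm y))
    obtain ⟨φ₁, hφ₁⟩ : ∃ φ₁ : P₁ →* Ω, φ₁ = ψ₀.comp
        ((φ.comp ((P.subtype.comp e.symm.toMonoidHom).codRestrict P
          (fun y => (e.symm y).2))).codRestrict Q (fun y => hφQ (e.symm y))) := ⟨_, rfl⟩
    rw [← hφ₁] at h2
    have hφ₁x : ∀ y : P₁, φ₁ y = ψ₀ ⟨φ (e.symm y), hφQ (e.symm y)⟩ := fun y => by rw [hφ₁]; rfl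
    obtain ⟨χ, hχ, hχe⟩ := hAI P₁ hP₁T φ₁ h2 α hα
    have hsub : (P.subgroupOf Q).map ψ = (P₁.subgroupOf T).map (T.subtype.comp α.toMonoidHom) := by
      ext z; constructor
      · rintro ⟨q, hq, rfl⟩
        refine ⟨⟨ψ₀ q, (E.le_of_mem hψ₀).2 q⟩, Subgroup.mem_subgroupOf.mpr ?_, ?_⟩
        · rw [← hP₁]
          exact ⟨⟨q, Subgroup.mem_subgroupOf.mp hq⟩, hρx _⟩
        · exact (hψe q _).symm
      · rintro ⟨t, ht, rfl⟩
        have ht' := Subgroup.mem_subgroupOf.mp ht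
        rw [← hP₁] at ht'
        obtain ⟨x, hx⟩ := ht'
        refine ⟨Subgroup.inclusion hPQ x, Subgroup.mem_subgroupOf.mpr x.2, ?_⟩
        rw [hψe _ ((E.le_of_mem hψ₀).2 _)]
        show ((α ⟨ψ₀ (Subgroup.inclusion hPQ x), _⟩ : T) : Ω) = ((α t : T) : Ω)
        congr 2
        apply Subtype.ext
        rw [← hx, hρx]
    refine ⟨χ.comp (Subgroup.inclusion (le_of_eq hsub)), fs_mem_of_eq E hsub hχ, fun x hx => ?_⟩
    have hex : ((e x : P₁) : Ω) = ψ₀ (Subgroup.inclusion hPQ x) := by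
      rw [isoOfRange_coe, hρx]
    have hαx : ((α ⟨((e x : P₁) : Ω), hP₁T (e x).2⟩ : T) : Ω) ∈
        (P₁.subgroupOf T).map (T.subtype.comp α.toMonoidHom) :=
      ⟨⟨_, hP₁T (e x).2⟩, Subgroup.mem_subgroupOf.mpr (e x).2, rfl⟩
    have key := hχe (e x) ((E.le_of_mem h2).2 _) hαx
    have e1 : ((α ⟨((e x : P₁) : Ω), hP₁T (e x).2⟩ : T) : Ω) = ψ (Subgroup.inclusion hPQ x) := by
      rw [hψe _ ((E.le_of_mem hψ₀).2 _)]
      congr 2
      exact Subtype.ext hex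
    show χ ⟨ψ (Subgroup.inclusion hPQ x), _⟩ = _
    have e2 : (⟨ψ (Subgroup.inclusion hPQ x), le_of_eq hsub hx⟩ :
        ↥((P₁.subgroupOf T).map (T.subtype.comp α.toMonoidHom))) =
        ⟨((α ⟨((e x : P₁) : Ω), hP₁T (e x).2⟩ : T) : Ω), hαx⟩ := Subtype.ext e1.symm
    have h5 : φ₁ (e x) = ψ₀ ⟨φ x, hφQ x⟩ := by
      rw [hφ₁x]
      simp only [MulEquiv.symm_apply_apply]
    rw [e2, key, hψe _ ((E.le_of_mem hψ₀).2 _)]
    congr 2
    exact Subtype.ext h5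
  · intro hSI
    exact ⟨hE, hT, autInv_of_strongInv F E hT.1 hSI,
      fun P hPT φ hφ => fratDec_all p hS F hF E hE hT hSI P hPT φ hφ⟩

end Cfsg.Agent.Lib.Helper7
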