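import Mathlib
import Cfsg.Prelude.Def_FusionSystem
import Cfsg.Agent.Lib.Helper7.CNR1
import Cfsg.Agent.Lib.Helper7.StrongInv
import Cfsg.Agent.Lib.Helper7.PStableFrc

set_option autoImplicit false

namespace Cfsg.Agent.Lib.Helper7

open Cfsg Cfsg.FusionSystem

variable {Ω : Type*} [Group Ω] {S : Subgroup Ω}

/-- Strong closure applied to a single element. -/
theorem stronglyClosed_apply_mem (F : FusionSystem S) {T : Subgroup Ω} (hT : F.StronglyClosed T)
    {R : Subgroup Ω} {φ : R →* Ω} (hφ : φ ∈ F.Hom R) (y : R) (hy : (y : Ω) ∈ T) : φ y ∈ T := by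
  have hle : Subgroup.zpowers (y : Ω) ≤ R := by
    rw [Subgroup.zpowers_le]; exact y.2
  have hleT : Subgroup.zpowers (y : Ω) ≤ T := by
    rw [Subgroup.zpowers_le]; exact hy
  have h1 := fs_restrict_mem F hle hφ
  exact hT.2 _ hleT _ h1 ⟨y, Subgroup.mem_zpowers _⟩

theorem stronglyClosed_conj_mem (F : FusionSystem S) {T : Subgroup Ω} (hT : F.StronglyClosed T)
    {s t : Ω} (hs : s ∈ S) (ht : t ∈ T) : s * t * s⁻¹ ∈ T :=
  hT.2 T le_rfl _ (F.conj_mem hT.1 hs) ⟨t, ht⟩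

/-- The chain `1 ≤ P ∩ T ≤ P` inside `P`. -/
def meetChain (P T : Subgroup Ω) : ℕ → Subgroup ↥P
  | 0 => ⊥
  | 1 => T.subgroupOf P
  | _ => ⊤

theorem meetChain_invariant (F : FusionSystem S) {T : Subgroup Ω} (hT : F.StronglyClosed T)
    {P : Subgroup Ω} (hPS : P ≤ S) :
    ∀ i, ∀ β ∈ F.autGroup P, ∀ y ∈ meetChain P T i, β y ∈ meetChain P T i := by
  intro i β hβ y hy
  match i with
  | 0 =>
    have : y = 1 := hy
    rw [this, map_one]
    exact Subgroup.one_mem _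
  | 1 =>
    have hy' : (y : Ω) ∈ T := Subgroup.mem_subgroupOf.mp hy
    apply Subgroup.mem_subgroupOf.mpr
    exact stronglyClosed_apply_mem F hT ((mem_autGroup_iff F hPS β).mp hβ) y hy'
  | (n + 2) => exact Subgroup.mem_top _

end Cfsg.Agent.Lib.Helper7
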