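import Mathlib
import Cfsg.Prelude.Def_FusionSystem
import Cfsg.Agent.Lib.Helper7.CNR2

set_option autoImplicit false

namespace Cfsg.Agent.Lib.Helper7

open Cfsg Cfsg.FusionSystem

variable {Ω : Type*} [Group Ω] {S : Subgroup Ω}

theorem exists_conj_with_pCore_elt [Finite S] (p : ℕ) [Fact p.Prime]
    (hS : IsPGroup p S) (F : FusionSystem S) (hF : F.IsSaturated p) {T : Subgroup Ω}
    (E : FusionSystem T) (hsub : E.IsSubsystemOf F) (hT : F.StronglyClosed T) (P : Subgroup Ω)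
    (hPS : P ≤ S) (hPT : ¬ E.IsCentric (P ⊓ T)) :
    ∃ φ ∈ F.Hom P, ∃ x ∈ S ⊓ Subgroup.normalizer (φ.range : Set Ω), x ∉ φ.range ∧
      ∃ α ∈ ((pCore p ↥(F.autGroup φ.range)).map (F.autGroup φ.range).subtype :
          Subgroup (MulAut ↥φ.range)),
        ∀ y : ↥φ.range, ((α y : ↥φ.range) : Ω) = x * (y : Ω) * x⁻¹ := by
  have hTS := hT.1
  obtain ⟨Q, hQdef⟩ : ∃ Q : Subgroup Ω, Q = P ⊓ T := ⟨_, rfl⟩
  rw [← hQdef] at hPT
  have hQP : Q ≤ P := by rw [hQdef]; exact inf_le_left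
  have hQT : Q ≤ T := by rw [hQdef]; exact inf_le_right
  have hQS : Q ≤ S := hQP.trans hPS
  obtain ⟨Q', hcQQ', hQ'⟩ : ∃ Q', E.IsConj Q Q' ∧ ¬ centralizerIn T Q' ≤ Q' := by
    by_contra h
    push Not at h
    exact hPT ⟨hQT, h⟩
  have hcF : F.IsConj Q Q' := by
    obtain ⟨ψ, hψ, hψr⟩ := hcQQ'
    exact ⟨ψ, hsub _ hψ, hψr⟩
  obtain ⟨Q'', hc'', hFN⟩ := exists_isFullyNormalized_conj F hQS
  obtain ⟨R, hcR, hFA_R, hRec_R⟩ := hF Q'' hFN.1
  obtain ⟨hFA, hRec⟩ :=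
    isFullyAutomized_isReceptive_of_isFullyNormalized p hS F hFN hFA_R hRec_R hcR
  -- Step 2: C_T(Q'') is not inside Q''
  have hc' : F.IsConj Q' Q'' := isConj_trans F (isConj_symm F hcF) hc''
  obtain ⟨φ₁, hφ₁, hφ₁N, hφ₁Q⟩ :=
    hom_normalizer_of_fullyAutomized_receptive p hS F Q'' Q' hFA hRec hc'
  obtain ⟨c, hcC, hcQ'⟩ := SetLike.not_le_iff_exists.mp hQ'
  have hcT : c ∈ T := hcC.1
  have hcCen : c ∈ Subgroup.centralizer (Q' : Set Ω) := hcC.2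
  have hcN : c ∈ normalizerIn S Q' := ⟨hTS hcT, Subgroup.centralizer_le_normalizer _ hcCen⟩
  have hQ'N : Q' ≤ normalizerIn S Q' := le_normalizerIn (isConj_le F hcF).2
  have hQ''mem : ∀ y ∈ Q'', ∃ q : Ω, ∃ hq : q ∈ Q', y = φ₁ ⟨q, hQ'N hq⟩ := by
    intro y hy
    rw [← hφ₁Q] at hy
    obtain ⟨⟨q, hqN⟩, hq, rfl⟩ := hy
    exact ⟨q, Subgroup.mem_subgroupOf.mp hq, rfl⟩
  have hQ''T : Q'' ≤ T := by
    intro y hy
    obtain ⟨q, hq, rfl⟩ := hQ''mem y hy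
    have hq' : q ∈ T := by
      obtain ⟨ψ, hψ, hψr⟩ := hcQQ'
      rw [← hψr] at hq
      obtain ⟨u, rfl⟩ := hq
      exact (E.le_of_mem hψ).2 u
    exact stronglyClosed_apply_mem F hT hφ₁ ⟨q, hQ'N hq⟩ hq'
  have hc''T : φ₁ ⟨c, hcN⟩ ∈ T := stronglyClosed_apply_mem F hT hφ₁ ⟨c, hcN⟩ hcT
  have hc''C : φ₁ ⟨c, hcN⟩ ∈ Subgroup.centralizer (Q'' : Set Ω) := by
    rw [Subgroup.mem_centralizer_iff]
    intro y hy
    obtain ⟨q, hq, rfl⟩ := hQ''mem y hy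
    rw [← map_mul, ← map_mul]
    congr 1
    apply Subtype.ext
    exact (Subgroup.mem_centralizer_iff.mp hcCen) q hq
  have hc''Q : φ₁ ⟨c, hcN⟩ ∉ Q'' := by
    intro h
    obtain ⟨q, hq, hqe⟩ := hQ''mem _ h
    have := F.injective_of_mem hφ₁ hqe
    apply hcQ'
    have h2 : c = q := congrArg Subtype.val this
    rw [h2]; exact hq
  -- Step 3: the conjugate P*
  obtain ⟨φ₂, hφ₂, hφ₂N, hφ₂Q⟩ :=
    hom_normalizer_of_fullyAutomized_receptive p hS F Q'' Q hFA hRec hc''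
  haveI : Finite ↥Q := finite_of_le hQS
  have hPN : P ≤ normalizerIn S Q := by
    intro u hu
    refine ⟨hPS hu, ?_⟩
    apply mem_normalizer_of_conj_mem_finite
    intro r hr
    rw [hQdef] at hr ⊢
    exact ⟨P.mul_mem (P.mul_mem hu hr.1) (P.inv_mem hu),
      stronglyClosed_conj_mem F hT (hPS hu) hr.2⟩
  have hφ : φ₂.comp (Subgroup.inclusion hPN) ∈ F.Hom P := fs_restrict_mem F hPN hφ₂
  obtain ⟨φ, hφdef⟩ : ∃ φ : P →* Ω, φ = φ₂.comp (Subgroup.inclusion hPN) := ⟨_, rfl⟩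
  rw [← hφdef] at hφ
  have hQN : Q ≤ normalizerIn S Q := le_normalizerIn hQS
  have hA : Q'' ≤ φ.range := by
    intro y hy
    rw [← hφ₂Q] at hy
    obtain ⟨⟨q, hqN⟩, hq, rfl⟩ := hy
    refine ⟨⟨q, hQP (Subgroup.mem_subgroupOf.mp hq)⟩, ?_⟩
    rw [hφdef]
    rfl
  have hB : ∀ y ∈ φ.range, y ∈ T → y ∈ Q'' := by
    rintro _ ⟨u, rfl⟩ hyT
    obtain ⟨χ, hχ, hχe⟩ := F.inv_mem hφ
    have h1 := stronglyClosed_apply_mem F hT hχ ⟨φ u, ⟨u, rfl⟩⟩ hyT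
    rw [hχe] at h1
    have huQ : (u : Ω) ∈ Q := by rw [hQdef]; exact ⟨u.2, h1⟩
    rw [← hφ₂Q]
    refine ⟨⟨u, hQN huQ⟩, Subgroup.mem_subgroupOf.mpr huQ, ?_⟩
    rw [hφdef]
    rfl
  have hRS : φ.range ≤ S := by
    rintro _ ⟨u, rfl⟩
    exact (F.le_of_mem hφ).2 u
  -- Step 4: an element of C_T(Q'') normalizing P* outside P*
  have hDS : centralizerIn T Q'' ≤ S := inf_le_left.trans hTS
  have hD : ¬ centralizerIn T Q'' ≤ φ.range := by
    intro h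
    exact hc''Q (hB _ (h ⟨hc''T, hc''C⟩) hc''T)
  haveI : Finite ↥(centralizerIn T Q'') := finite_of_le hDS
  haveI : Finite ↥φ.range := finite_of_le hRS
  have hRD : φ.range ≤ Subgroup.normalizer ((centralizerIn T Q'' : Subgroup Ω) : Set Ω) := by
    intro u hu
    apply mem_normalizer_of_conj_mem_finite
    intro d hd
    refine ⟨stronglyClosed_conj_mem F hT (hRS hu) hd.1, ?_⟩
    show u * d * u⁻¹ ∈ Subgroup.centralizer _
    rw [Subgroup.mem_centralizer_iff]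
    intro y hy
    have hy' : u⁻¹ * y * u ∈ Q'' := by
      apply hB
      · exact Subgroup.mul_mem _ (Subgroup.mul_mem _ (Subgroup.inv_mem _ hu) (hA hy)) hu
      · have := stronglyClosed_conj_mem F hT (S.inv_mem (hRS hu)) (hQ''T hy)
        rwa [inv_inv] at this
    have h1 := (Subgroup.mem_centralizer_iff.mp hd.2) _ hy'
    calc y * (u * d * u⁻¹) = u * ((u⁻¹ * y * u) * d) * u⁻¹ := by group
      _ = u * (d * (u⁻¹ * y * u)) * u⁻¹ := by rw [h1]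
      _ = u * d * u⁻¹ * y := by group
  obtain ⟨x, hxD, hxN, hxP⟩ := exists_normalizing_not_mem hS hRS hDS hRD hD
  have hxT : x ∈ T := hxD.1
  have hxS : x ∈ S := hTS hxT
  have hxC : x ∈ Subgroup.centralizer (Q'' : Set Ω) := hxD.2
  refine ⟨φ, hφ, x, ⟨hxS, hxN⟩, hxP, φ.range.normalizerMonoidHom ⟨x, hxN⟩, ?_, fun y => rfl⟩
  -- Step 5: the automorphism lies in the `p`-core
  obtain ⟨α, hαdef⟩ : ∃ α : MulAut ↥φ.range, α = φ.range.normalizerMonoidHom ⟨x, hxN⟩ :=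
    ⟨_, rfl⟩
  rw [← hαdef]
  have hαe : ∀ y : ↥φ.range, ((α y : ↥φ.range) : Ω) = x * (y : Ω) * x⁻¹ := by
    intro y; rw [hαdef]; rfl
  have hαA : α ∈ F.autGroup φ.range :=
    autInducedBy_le_autGroup F hRS ((mem_autInducedBy_iff S φ.range α).mpr ⟨x, hxS, hαe⟩)
  have hRp : IsPGroup p ↥φ.range := hS.to_le hRS
  have hinv := meetChain_invariant F hT hRS (P := φ.range)
  have hstab : α ∈ stabChain (F.autGroup φ.range) (meetChain φ.range T) 2 hinv := by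
    refine ⟨hαA, fun i hi y hy => ?_⟩
    interval_cases i
    · have hyT : (y : Ω) ∈ T := Subgroup.mem_subgroupOf.mp hy
      have hyQ : (y : Ω) ∈ Q'' := hB _ y.2 hyT
      show y⁻¹ * α y = 1
      apply Subtype.ext
      have := (Subgroup.mem_centralizer_iff.mp hxC) _ hyQ
      rw [Subgroup.coe_mul, hαe, Subgroup.coe_inv, Subgroup.coe_one, ← this,
        mul_inv_cancel_right, inv_mul_cancel]
    · apply Subgroup.mem_subgroupOf.mpr
      rw [Subgroup.coe_mul, hαe, Subgroup.coe_inv]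
      have h1 := stronglyClosed_conj_mem F hT (S.inv_mem (hRS y.2)) hxT
      rw [inv_inv] at h1
      have h2 := T.mul_mem h1 (T.inv_mem hxT)
      convert h2 using 1
      group
  have hle := stabChain_le_pCore hRp (F.autGroup φ.range) (meetChain φ.range T) 2 hinv rfl rfl
  exact ⟨⟨α, hαA⟩, hle (Subgroup.mem_subgroupOf.mpr hstab), rfl⟩

end Cfsg.Agent.Lib.Helper7
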