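import Mathlib
import Cfsg.Prelude.Def_FusionSystem
import Cfsg.Agent.Lib.Helper7.CNR3

set_option autoImplicit false

namespace Cfsg.Agent.Lib.Helper7

open Cfsg Cfsg.FusionSystem

variable {Ω : Type*} [Group Ω] {S : Subgroup Ω}

theorem not_isRadical_of_conj_pCore_elt (p : ℕ) (F : FusionSystem S) (P : Subgroup Ω)
    (hP : F.IsCentric P)
    (h : ∃ φ ∈ F.Hom P, ∃ x ∈ S ⊓ Subgroup.normalizer (φ.range : Set Ω), x ∉ φ.range ∧
      ∃ α ∈ ((pCore p ↥(F.autGroup φ.range)).map (F.autGroup φ.range).subtype :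
          Subgroup (MulAut ↥φ.range)),
        ∀ y : ↥φ.range, ((α y : ↥φ.range) : Ω) = x * (y : Ω) * x⁻¹) :
    ¬ F.IsRadical p P := by
  intro hrad
  obtain ⟨φ, hφ, x, hx, hxP, α, hα, hαe⟩ := h
  obtain ⟨e, he⟩ : ∃ e : P ≃* φ.range, e = isoOfRange φ (F.injective_of_mem hφ) rfl := ⟨_, rfl⟩
  obtain ⟨χ, hχ⟩ : ∃ χ : MulAut P, χ = (MulAut.congr e).symm α := ⟨_, rfl⟩
  have hχα : MulAut.congr e χ = α := by rw [hχ, MulEquiv.apply_symm_apply]
  have h1 : MulAut.congr e χ ∈ pCoreOf p (F.autGroup φ.range) := by rw [hχα]; exact hα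
  rw [he, mem_pCoreOf_autGroup_congr p F hφ rfl χ] at h1
  have h2 : χ ∈ Inn ↥P := by
    rw [← hrad.2]
    exact h1
  obtain ⟨u, hu⟩ := h2
  apply hxP
  have hcen := hP.2 φ.range ⟨φ, hφ, rfl⟩
  have heu : ((e u : ↥φ.range) : Ω) ∈ S := by
    have : ((e u : ↥φ.range) : Ω) = φ u := by rw [he]; rfl
    rw [this]
    exact (F.le_of_mem hφ).2 u
  have hz : ((e u : ↥φ.range) : Ω)⁻¹ * x ∈ centralizerIn S φ.range := by
    refine ⟨S.mul_mem (S.inv_mem heu) hx.1, ?_⟩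
    show _ ∈ Subgroup.centralizer _
    rw [Subgroup.mem_centralizer_iff]
    intro y hy
    have h3 := hαe ⟨y, hy⟩
    rw [← hχα, ← hu] at h3
    have h4 : ((MulAut.congr e (MulAut.conj u)) ⟨y, hy⟩ : ↥φ.range) =
        e u * ⟨y, hy⟩ * (e u)⁻¹ := by
      show e (MulAut.conj u (e.symm ⟨y, hy⟩)) = _
      rw [MulAut.conj_apply, map_mul, map_mul, MulEquiv.apply_symm_apply, map_inv]
    rw [h4] at h3
    have h5 : ((e u : ↥φ.range) : Ω) * y * ((e u : ↥φ.range) : Ω)⁻¹ = x * y * x⁻¹ := h3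
    calc y * (((e u : ↥φ.range) : Ω)⁻¹ * x)
        = ((e u : ↥φ.range) : Ω)⁻¹ * (((e u : ↥φ.range) : Ω) * y * ((e u : ↥φ.range) : Ω)⁻¹) * x := by
          group
      _ = ((e u : ↥φ.range) : Ω)⁻¹ * (x * y * x⁻¹) * x := by rw [h5]
      _ = ((e u : ↥φ.range) : Ω)⁻¹ * x * y := by group
  have h6 := hcen hz
  have h7 := φ.range.mul_mem (e u).2 h6
  rwa [mul_inv_cancel_left] at h7

/-- The statement: a centric subgroup whose intersection with `T` is not `E`-centric is not radical. -/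
theorem centric_meet_not_centric [Finite S] (p : ℕ) [Fact p.Prime] (hS : IsPGroup p S)
    (F : FusionSystem S) (hF : F.IsSaturated p) {T : Subgroup Ω} (E : FusionSystem T)
    (hE : E.IsNormalIn F p) (P : Subgroup Ω) (hP : F.IsCentric P)
    (hPT : ¬ E.IsCentric (P ⊓ T)) :
    (∃ φ ∈ F.Hom P, ∃ x ∈ S ⊓ Subgroup.normalizer (φ.range : Set Ω), x ∉ φ.range ∧
      ∃ α ∈ ((pCore p ↥(F.autGroup φ.range)).map (F.autGroup φ.range).subtype :
          Subgroup (MulAut ↥φ.range)),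
        ∀ y : ↥φ.range, ((α y : ↥φ.range) : Ω) = x * (y : Ω) * x⁻¹) ∧ ¬ F.IsRadical p P := by
  obtain ⟨⟨-, -, hsub, hT, -, -⟩, -⟩ := hE
  have h := exists_conj_with_pCore_elt p hS F hF E hsub hT P hP.1 hPT
  exact ⟨h, not_isRadical_of_conj_pCore_elt p F P hP h⟩

end Cfsg.Agent.Lib.Helper7
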