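import Mathlib
import Cfsg.Prelude.Def_FusionSystem
import Cfsg.Prelude.Def_FusionComponents
import Cfsg.Agent.Lib.Helper7.FactorSolvable
import Cfsg.Agent.Lib.Helper7.FusionSeries
import Cfsg.Agent.Lib.Helper7.FusionCenterFactor

set_option autoImplicit false

namespace Cfsg.Agent.Lib.Helper7

open Cfsg Cfsg.FusionSystem
open scoped commutatorElement

variable {Ω : Type*} [Group Ω] {S : Subgroup Ω}

theorem stronglyClosed_inf (F : FusionSystem S) {A B : Subgroup Ω} (hA : F.StronglyClosed A)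
    (hB : F.StronglyClosed B) : F.StronglyClosed (A ⊓ B) :=
  ⟨inf_le_left.trans hA.1, fun R hR φ hφ x =>
    ⟨hA.2 R (hR.trans inf_le_left) φ hφ x, hB.2 R (hR.trans inf_le_right) φ hφ x⟩⟩

/-- the centralizer in `S` of a subgroup normal in `F` is strongly closed -/
theorem stronglyClosed_centralizerIn_of_isNormal [Finite S] (F : FusionSystem S) {Q : Subgroup Ω}
    (hQ : F.IsNormal Q) : F.StronglyClosed (centralizerIn S Q) := by
  refine ⟨inf_le_left, fun R hR φ hφ x => ?_⟩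
  obtain ⟨ψ, hψ, hext, hmap⟩ := hQ.2 R φ hφ
  refine ⟨(F.le_of_mem hφ).2 x, ?_⟩
  show φ x ∈ Subgroup.centralizer (Q : Set Ω)
  rw [Subgroup.mem_centralizer_iff]
  intro q hq
  rw [← hmap] at hq
  obtain ⟨q₀, hq₀, rfl⟩ := hq
  have hq₀Q : (q₀ : Ω) ∈ Q := Subgroup.mem_subgroupOf.mp hq₀
  rw [← hext x, ← map_mul, ← map_mul]
  congr 1
  apply Subtype.ext
  have := (Subgroup.mem_centralizer_iff.mp (hR x.2).2) q₀ hq₀Q
  exact this

/-- the product of a strongly closed subgroup with a subgroup normal in `F` is strongly closed -/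
theorem stronglyClosed_sup_of_isNormal [Finite S] (F : FusionSystem S) {D Q : Subgroup Ω}
    (hD : F.StronglyClosed D) (hQ : F.IsNormal Q) : F.StronglyClosed (D ⊔ Q) := by
  have hNQ := le_normalizer_of_isNormal F hQ
  refine ⟨sup_le hD.1 hQ.1, fun R hR φ hφ x => ?_⟩
  obtain ⟨ψ, hψ, hext, hmap⟩ := hQ.2 R φ hφ
  have hx : (x : Ω) ∈ ((D ⊔ Q : Subgroup Ω) : Set Ω) := hR x.2
  rw [Subgroup.coe_mul_of_left_le_normalizer_right D Q (hD.1.trans hNQ)] at hx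
  obtain ⟨d, hd, q, hq, hdq⟩ := hx
  have hdRQ : d ∈ R ⊔ Q := by
    have : d = (x : Ω) * q⁻¹ := by rw [← hdq]; group
    rw [this]
    exact Subgroup.mul_mem _ (Subgroup.mem_sup_left x.2) (Subgroup.mem_sup_right (Q.inv_mem hq))
  have hqRQ : q ∈ R ⊔ Q := Subgroup.mem_sup_right hq
  have e : Subgroup.inclusion (le_sup_left : R ≤ R ⊔ Q) x = ⟨d, hdRQ⟩ * ⟨q, hqRQ⟩ := Subtype.ext hdq.symm
  rw [← hext x, e, map_mul]
  apply Subgroup.mul_mem
  · apply Subgroup.mem_sup_left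
    have hle : Subgroup.zpowers d ≤ R ⊔ Q := Subgroup.zpowers_le.mpr hdRQ
    have hle0 : Subgroup.zpowers d ≤ D := Subgroup.zpowers_le.mpr hd
    exact hD.2 _ hle0 _ (fs_restrict_mem F hle hψ) ⟨d, Subgroup.mem_zpowers _⟩
  · apply Subgroup.mem_sup_right
    have : ψ ⟨q, hqRQ⟩ ∈ (Q.subgroupOf (R ⊔ Q)).map ψ := ⟨⟨q, hqRQ⟩, Subgroup.mem_subgroupOf.mpr hq, rfl⟩
    rw [hmap] at this
    exact this

theorem eq_of_isConj_of_isNormal [Finite S] (F : FusionSystem S) {Q R : Subgroup Ω} (hQ : F.IsNormal Q)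
    (hc : F.IsConj Q R) : R = Q := by
  obtain ⟨φ, hφ, hr⟩ := hc
  haveI := finite_of_le hQ.1
  have hle : R ≤ Q := by
    rw [← hr]
    rintro _ ⟨x, rfl⟩
    exact (stronglyClosed_of_isNormal F hQ).2 Q le_rfl φ hφ x
  have hcard : Nat.card Q ≤ Nat.card R := by
    rw [← hr]
    exact (Nat.card_congr (Equiv.ofInjective φ (F.injective_of_mem hφ))).le
  exact Subgroup.eq_of_le_of_card_ge hle hcard

theorem isConstrained_of_isSolvableSystem [Finite S] (p : ℕ) [Fact p.Prime] (hS : IsPGroup p S)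
    (F : FusionSystem S) (hF : F.IsSaturated p) (h : F.IsSolvableSystem) : F.IsConstrained p := by
  obtain ⟨n, T, h0, hlast, hmono, hsc, hab⟩ := (isSolvableSystem_iff_series p hS F hF).mp h
  have hQ : F.IsNormal F.core := isNormal_core F
  set Q := F.core with hQdef
  have hQS := hQ.1
  have hNQ := le_normalizer_of_isNormal F hQ
  refine ⟨hF, Q, hQ, hQS, fun R hc => ?_⟩
  rw [eq_of_isConj_of_isNormal F hQ hc]
  by_contra hcon
  set C := centralizerIn S Q with hC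
  have hCsc : F.StronglyClosed C := stronglyClosed_centralizerIn_of_isNormal F hQ
  -- minimal index with `T i ⊓ C ≰ Q`
  have hex : ∃ i : ℕ, ∃ h : i < n + 1, ¬ T ⟨i, h⟩ ⊓ C ≤ Q := by
    refine ⟨n, Nat.lt_succ_self n, fun hle => hcon ?_⟩
    have : T ⟨n, Nat.lt_succ_self n⟩ = S := hlast
    rw [this] at hle
    exact (le_inf hCsc.1 le_rfl).trans hle
  classical
  obtain ⟨hi₀, hi₀'⟩ := Nat.find_spec hex
  set i₀ := Nat.find hex with hi₀def
  have hi₀ne : i₀ ≠ 0 := by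
    intro h
    apply hi₀'
    have : (⟨i₀, hi₀⟩ : Fin (n + 1)) = 0 := Fin.ext h
    rw [this, h0]; exact inf_le_left.trans bot_le
  obtain ⟨j, hj⟩ := Nat.exists_eq_succ_of_ne_zero hi₀ne
  have hjlt : j < n := by omega
  have hjR : T ⟨j, by omega⟩ ⊓ C ≤ Q := by
    by_contra hcon'
    have := Nat.find_min hex (m := j) (by omega)
    exact this ⟨by omega, hcon'⟩
  have habj := hab ⟨j, hjlt⟩
  have e1 : (⟨j, hjlt⟩ : Fin n).succ = ⟨i₀, hi₀⟩ := Fin.ext (by simp [hj])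
  have e2 : Fin.castSucc (⟨j, hjlt⟩ : Fin n) = ⟨j, by omega⟩ := Fin.ext rfl
  rw [e1, e2] at habj
  set D := T ⟨i₀, hi₀⟩ ⊓ C with hD
  have hDsc : F.StronglyClosed D := stronglyClosed_inf F (hsc _) hCsc
  have hDD : ⁅D, D⁆ ≤ Q := by
    apply le_trans _ hjR
    apply le_inf
    · exact (Subgroup.commutator_mono inf_le_left inf_le_left).trans habj
    · rw [Subgroup.commutator_le]
      intro a ha b hb
      rw [commutatorElement_def]
      exact C.mul_mem (C.mul_mem (C.mul_mem ha.2 hb.2) (C.inv_mem ha.2)) (C.inv_mem hb.2)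
  set X := D ⊔ Q with hX
  have hXsc : F.StronglyClosed X := stronglyClosed_sup_of_isNormal F hDsc hQ
  have hNX := le_normalizer_of_stronglyClosed F hXsc
  have hXX : ⁅X, X⁆ ≤ Q := by
    haveI : (Q.subgroupOf X).Normal :=
      (Subgroup.normal_subgroupOf_iff_le_normalizer le_sup_right).mpr (hXsc.1.trans hNQ)
    -- `X / Q` is abelian since it is generated by the image of `D`
    rw [Subgroup.commutator_le]
    have key : ∀ a ∈ X, ∀ b ∈ X, a * b * a⁻¹ * b⁻¹ ∈ Q := by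
      intro a ha b hb
      have ha' : a ∈ ((D ⊔ Q : Subgroup Ω) : Set Ω) := ha
      have hb' : b ∈ ((D ⊔ Q : Subgroup Ω) : Set Ω) := hb
      rw [Subgroup.coe_mul_of_left_le_normalizer_right D Q (hDsc.1.trans hNQ)] at ha' hb'
      obtain ⟨d₁, hd₁, q₁, hq₁, rfl⟩ := ha'
      obtain ⟨d₂, hd₂, q₂, hq₂, rfl⟩ := hb'
      -- `d`'s commute with `q`'s
      have c1 : ∀ d ∈ D, ∀ q ∈ Q, q * d = d * q := fun d hd q hq =>
        (Subgroup.mem_centralizer_iff.mp hd.2.2) q hq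
      have hcomm : ⁅d₁, d₂⁆ ∈ Q := hDD (Subgroup.commutator_mem_commutator hd₁ hd₂)
      show d₁ * q₁ * (d₂ * q₂) * (d₁ * q₁)⁻¹ * (d₂ * q₂)⁻¹ ∈ Q
      have e : d₁ * q₁ * (d₂ * q₂) * (d₁ * q₁)⁻¹ * (d₂ * q₂)⁻¹ =
          ⁅d₁, d₂⁆ * (q₁ * q₂ * q₁⁻¹ * q₂⁻¹) := by
        rw [commutatorElement_def]
        have h1 := c1 d₂ hd₂ q₁ hq₁
        have h2 := c1 d₁ hd₁ q₂ hq₂
        have h3 := c1 d₁ hd₁ q₁ hq₁
        have h4 := c1 d₂ hd₂ q₂ hq₂
        have h5 := c1 d₁⁻¹ (D.inv_mem hd₁) (q₁ * q₂ * q₁⁻¹) (Q.mul_mem (Q.mul_mem hq₁ hq₂) (Q.inv_mem hq₁))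
        have h6 := c1 d₂⁻¹ (D.inv_mem hd₂) (q₁ * q₂ * q₁⁻¹ * q₂⁻¹)
          (Q.mul_mem (Q.mul_mem (Q.mul_mem hq₁ hq₂) (Q.inv_mem hq₁)) (Q.inv_mem hq₂))
        calc d₁ * q₁ * (d₂ * q₂) * (d₁ * q₁)⁻¹ * (d₂ * q₂)⁻¹
            = d₁ * (q₁ * d₂) * q₂ * q₁⁻¹ * d₁⁻¹ * q₂⁻¹ * d₂⁻¹ := by group
          _ = d₁ * (d₂ * q₁) * q₂ * q₁⁻¹ * d₁⁻¹ * q₂⁻¹ * d₂⁻¹ := by rw [h1]
          _ = d₁ * d₂ * ((q₁ * q₂ * q₁⁻¹) * d₁⁻¹) * q₂⁻¹ * d₂⁻¹ := by group
          _ = d₁ * d₂ * (d₁⁻¹ * (q₁ * q₂ * q₁⁻¹)) * q₂⁻¹ * d₂⁻¹ := by rw [h5]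
          _ = d₁ * d₂ * d₁⁻¹ * ((q₁ * q₂ * q₁⁻¹ * q₂⁻¹) * d₂⁻¹) := by group
          _ = d₁ * d₂ * d₁⁻¹ * (d₂⁻¹ * (q₁ * q₂ * q₁⁻¹ * q₂⁻¹)) := by rw [h6]
          _ = d₁ * d₂ * d₁⁻¹ * d₂⁻¹ * (q₁ * q₂ * q₁⁻¹ * q₂⁻¹) := by group
      rw [e]
      exact Q.mul_mem hcomm (Q.mul_mem (Q.mul_mem (Q.mul_mem hq₁ hq₂) (Q.inv_mem hq₁)) (Q.inv_mem hq₂))
    intro a ha b hb
    rw [commutatorElement_def]
    exact key a ha b hb
  -- the series of `Q`
  obtain ⟨m, Qs, hQ0, hQlast, hQmono, hQstep⟩ := exists_series_of_isNormal p hS F Q hQ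
  have hXn : F.IsNormal X := by
    apply isNormal_of_series p hS F hF X (m + 1)
      (fun i => if h : i.val ≤ m then Qs ⟨i.val, by omega⟩ else X)
    · simp only [Fin.val_zero, Nat.zero_le, dite_true]
      exact hQ0
    · simp
    · intro i
      by_cases hi : i.val + 1 ≤ m
      · have hi' : i.val ≤ m := by omega
        simp only [Fin.val_succ, hi, dite_true, Fin.val_castSucc, hi']
        have hstep := hQstep ⟨i.val, by omega⟩
        have e3 : (⟨i.val, by omega⟩ : Fin m).succ = ⟨i.val + 1, by omega⟩ := Fin.ext rfl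
        have e4 : Fin.castSucc (⟨i.val, by omega⟩ : Fin m) = ⟨i.val, by omega⟩ := Fin.ext rfl
        rw [e3, e4] at hstep
        refine ⟨hstep.1, ?_⟩
        have hle : Qs ⟨i.val + 1, by omega⟩ ≤ Q := by
          rw [← hQlast]; exact hQmono (Fin.le_last _)
        rw [Subgroup.commutator_le]
        intro a ha b hb
        have ha' : a ∈ ((D ⊔ Q : Subgroup Ω) : Set Ω) := ha
        rw [Subgroup.coe_mul_of_left_le_normalizer_right D Q (hDsc.1.trans hNQ)] at ha'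
        obtain ⟨d, hd, q, hq, rfl⟩ := ha'
        have hbQ := hle hb
        have c1 : ∀ y ∈ Q, y * d = d * y := fun y hy => (Subgroup.mem_centralizer_iff.mp hd.2.2) y hy
        have e : ⁅d * q, b⁆ = ⁅q, b⁆ := by
          rw [commutatorElement_def, commutatorElement_def]
          have h1 := c1 (q * b * q⁻¹) (Q.mul_mem (Q.mul_mem hq hbQ) (Q.inv_mem hq))
          calc d * q * b * (d * q)⁻¹ * b⁻¹ = d * ((q * b * q⁻¹) * d⁻¹) * b⁻¹ := by group
            _ = d * (d⁻¹ * (q * b * q⁻¹)) * b⁻¹ := by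
                have : (q * b * q⁻¹) * d⁻¹ = d⁻¹ * (q * b * q⁻¹) := by
                  rw [eq_inv_mul_iff_mul_eq, ← mul_assoc, ← h1, mul_assoc, mul_inv_cancel, mul_one]
                rw [this]
            _ = q * b * q⁻¹ * b⁻¹ := by group
        rw [e]
        exact hstep.2 (Subgroup.commutator_mem_commutator hq hb)
      · have hi' : i.val = m := by omega
        have hi'' : i.val ≤ m := by omega
        simp only [Fin.val_succ, hi, dite_false, Fin.val_castSucc, hi'', dite_true]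
        refine ⟨hXsc, ?_⟩
        have : Qs ⟨i.val, by omega⟩ = Q := by
          rw [← hQlast]; congr 1; exact Fin.ext hi'
        rw [this]
        exact hXX
  have hXQ : X ≤ Q := le_sSup hXn
  apply hi₀'
  exact le_sup_left.trans hXQ

end Cfsg.Agent.Lib.Helper7
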