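import Mathlib
import Cfsg.Prelude.Def_FusionSystem
import Cfsg.Prelude.Def_Transfer
import Cfsg.Agent.Lib.Helper7.BGHa
import Cfsg.Agent.Lib.Helper7.BGHb
import Cfsg.Agent.Lib.Helper7.BGHc
import Cfsg.Agent.Lib.Helper7.CNR4
import Cfsg.Agent.Lib.Helper7.PPowerIndexSub
import Cfsg.Agent.Lib.Helper7.Alperin3
import Cfsg.Agent.Lib.Helper7.FusionEssential
import Cfsg.Agent.Lib.Helper7.FusionNormal
import Cfsg.Agent.Lib.Helper7.NormalizerConstrained
import Cfsg.Agent.Lib.Helper7.SolvableConstrained
import Cfsg.Agent.Lib.Helper7.QdFa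
import Cfsg.Agent.Lib.Helper7.FusionCentricSub

/-!
# Control of fusion by small-exponent abelian subgroups, part D: the normalizer systems agree
-/

set_option autoImplicit false

namespace Cfsg.Agent.Lib.Helper7.BGH

open Cfsg Cfsg.FusionSystem Cfsg.Agent.Lib.Helper7

variable {Ω : Type*} [Group Ω] {S : Subgroup Ω}

/-- the trace on a strongly closed subgroup of a centric radical subgroup is centric, provided the
centralizers of its conjugates lie in the strongly closed subgroup -/
theorem isCentric_inf_of_centric_radical [Finite S] (p : ℕ) [Fact p.Prime] (hS : IsPGroup p S)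
    (F : FusionSystem S) (hF : F.IsSaturated p) {T R : Subgroup Ω} (hT : F.StronglyClosed T)
    (hcen : F.IsCentric R) (hrad : F.IsRadical p R)
    (hCT : ∀ Q : Subgroup Ω, F.IsConj (R ⊓ T) Q → centralizerIn S Q ≤ T) :
    F.IsCentric (R ⊓ T) := by
  have hsub : (fullSub F T hT.1).IsSubsystemOf F := fun P φ hφ => hφ.1
  have hE : (fullSub F T hT.1).IsCentric (R ⊓ T) := by
    by_contra h
    exact not_isRadical_of_conj_pCore_elt p F R hcen
      (exists_conj_with_pCore_elt p hS F hF (fullSub F T hT.1) hsub hT R hcen.1 h) hrad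
  refine ⟨inf_le_left.trans hcen.1, fun Q hQ => ?_⟩
  obtain ⟨φ, hφ, hr⟩ := hQ
  have h1 := hE.2 Q ⟨φ, ⟨hφ, inf_le_right, fun x => hT.2 _ inf_le_right φ hφ x⟩, hr⟩
  intro c hc
  exact h1 ⟨hCT Q ⟨φ, hφ, hr⟩ hc, hc.2⟩

theorem centralizerIn_normalizerIn (S D : Subgroup Ω) :
    centralizerIn (normalizerIn S D) D = centralizerIn S D := by
  ext x
  constructor
  · rintro ⟨h1, h2⟩
    exact ⟨h1.1, h2⟩
  · rintro ⟨h1, h2⟩
    exact ⟨⟨h1, Subgroup.centralizer_le_normalizer _ h2⟩, h2⟩

/-- **(NS)** the normalizer systems of a fully normalized noncentral small abelian subgroup agree -/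
theorem ns [Finite S] (p : ℕ) [Fact p.Prime] (hS : IsPGroup p S) (F G : FusionSystem S)
    (hF : F.IsSaturated p) (hG : G.IsSaturated p) (hGF : G ≤ F) (H : Subgroup Ω)
    (hH : F.StronglyClosed H) (hctl : Ctl p F G H)
    (hC : ∀ D' : Subgroup Ω, D' ≤ H → SmallAb p D' → F.IsFullyCentralized D' → ¬ D' ≤ F.center →
      ∀ P : Subgroup Ω, F.centralizerHom D' P ⊆ G.centralizerHom D' P)
    {D : Subgroup Ω} (hDH : D ≤ H) (hD : SmallAb p D) (hfn : F.IsFullyNormalized D)
    (hDZ : ¬ D ≤ F.center) (P : Subgroup Ω) : F.normalizerHom D P ⊆ G.normalizerHom D P := by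
  have hDS : D ≤ S := hfn.1
  obtain ⟨NF, hNF⟩ := exists_normalizerSystem F D hDS
  obtain ⟨NG, hNG⟩ := exists_normalizerSystem G D hDS
  have hfnG : G.IsFullyNormalized D :=
    ⟨hDS, fun Q ⟨ψ, hψ, hψr⟩ => hfn.2 Q ⟨ψ, hGF _ hψ, hψr⟩⟩
  have hNFsat := normalizerSystem_isSaturated p hS F hF D hfn NF hNF
  have hNGsat := normalizerSystem_isSaturated p hS G hG D hfnG NG hNG
  have hNS : normalizerIn S D ≤ S := inf_le_left
  haveI : Finite ↥(normalizerIn S D) := finite_of_le hNS
  have hNp : IsPGroup p ↥(normalizerIn S D) := hS.to_le hNS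
  have hle : NG ≤ NF := by
    intro P' φ hφ
    rw [hNG] at hφ
    rw [hNF]
    exact normalizerHom_mono' hGF D P' hφ
  have hDnorm : NF.IsNormal D := isNormal_normalizerSystem F hDS NF hNF
  have hTsc : NF.StronglyClosed (centralizerIn (normalizerIn S D) D) :=
    stronglyClosed_centralizerIn_of_isNormal NF hDnorm
  have hTeq := centralizerIn_normalizerIn S D
  have hDab := hD.1
  have hDT : D ≤ centralizerIn (normalizerIn S D) D := by
    rw [hTeq]
    intro d hd
    refine ⟨hDS hd, ?_⟩
    show d ∈ Subgroup.centralizer (D : Set Ω)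
    rw [Subgroup.mem_centralizer_iff]
    intro d' hd'
    exact congrArg Subtype.val (hDab.is_comm.comm ⟨d', hd'⟩ ⟨d, hd⟩)
  -- centralizers of subgroups containing `D`
  have hCle : ∀ Q : Subgroup Ω, D ≤ Q → centralizerIn (normalizerIn S D) Q ≤
      centralizerIn (normalizerIn S D) D := by
    intro Q hDQ c hc
    refine ⟨hc.1, ?_⟩
    exact Subgroup.centralizer_le (by exact_mod_cast hDQ) hc.2
  have key : NF ≤ NG := by
    apply alperin_goldschmidt p hNp NF hNFsat NG
    intro R hR α hα
    have hRN : R ≤ normalizerIn S D := by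
      rcases hR with rfl | hess
      · exact le_rfl
      · exact hess.1.1
    have hDR : D ≤ R := by
      rcases hR with rfl | hess
      · exact le_inf hDS Subgroup.le_normalizer
      · exact le_of_isNormal_of_centric_radical p hNp NF hDnorm hess.1
          (isRadical_of_isEssential p hNp NF R hess)
    have hDR0 : D ≤ R ⊓ centralizerIn (normalizerIn S D) D := le_inf hDR hDT
    -- conjugates of `R ⊓ T` contain `D`
    have hconjD : ∀ Q : Subgroup Ω, NF.IsConj (R ⊓ centralizerIn (normalizerIn S D) D) Q → D ≤ Q := by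
      rintro Q ⟨φ, hφ, rfl⟩
      have hφ' := hφ
      rw [hNF] at hφ'
      obtain ⟨-, -, -, ψ, -, hext, hmap⟩ := hφ'
      intro d hd
      obtain ⟨r, hr, hrd⟩ := hmap.ge hd
      have hrD : (r : Ω) ∈ D := Subgroup.mem_subgroupOf.mp hr
      have := hext ⟨r, hDR0 hrD⟩
      have e : Subgroup.inclusion (le_sup_left :
          R ⊓ centralizerIn (normalizerIn S D) D ≤ R ⊓ centralizerIn (normalizerIn S D) D ⊔ D)
          ⟨r, hDR0 hrD⟩ = r := rfl
      rw [e, hrd] at this
      exact ⟨_, this.symm⟩
    have hcentric : NF.IsCentric (R ⊓ centralizerIn (normalizerIn S D) D) := by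
      rcases hR with rfl | hess
      · -- `R = N`
        have e : normalizerIn S D ⊓ centralizerIn (normalizerIn S D) D =
            centralizerIn (normalizerIn S D) D := inf_eq_right.mpr inf_le_left
        rw [e]
        refine ⟨inf_le_left, ?_⟩
        rintro Q ⟨φ, hφ, rfl⟩
        have hle' : φ.range ≤ centralizerIn (normalizerIn S D) D := by
          rintro _ ⟨x, rfl⟩
          exact hTsc.2 _ le_rfl φ hφ x
        haveI : Finite ↥(centralizerIn (normalizerIn S D) D) := finite_of_le inf_le_left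
        have heq : φ.range = centralizerIn (normalizerIn S D) D := by
          apply Subgroup.eq_of_le_of_card_ge hle'
          exact le_of_eq (Nat.card_congr (Equiv.ofInjective φ (NF.injective_of_mem hφ)))
        rw [heq]
        exact hCle _ hDT
      · apply isCentric_inf_of_centric_radical p hNp NF hNFsat hTsc hess.1
          (isRadical_of_isEssential p hNp NF R hess)
        intro Q hQ
        exact hCle Q (hconjD Q hQ)
    -- the map
    have hφ : R.subtype.comp α.toMonoidHom ∈ NF.Hom R := (mem_autGroup_iff NF hRN α).mp hα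
    rw [mem_autGroup_iff NG hRN α]
    have hφF := hφ
    rw [hNF] at hφF
    obtain ⟨hφF1, -, hφN, ψ, hψ, hext, hmap⟩ := hφF
    have hmapD : ∀ x : R, (x : Ω) ∈ D → (R.subtype.comp α.toMonoidHom) x ∈ D := by
      intro x hx
      have := hext x
      rw [← this]
      exact hmap.le ⟨_, Subgroup.mem_subgroupOf.mpr hx, rfl⟩
    have hR0C : R ⊓ centralizerIn (normalizerIn S D) D ≤ centralizerIn S D := by
      rw [← hTeq]; exact inf_le_right
    have h0F : (R.subtype.comp α.toMonoidHom).comp (Subgroup.inclusion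
        (inf_le_left : R ⊓ centralizerIn (normalizerIn S D) D ≤ R)) ∈
        F.Hom (R ⊓ centralizerIn (normalizerIn S D) D) := fs_restrict_mem F inf_le_left hφF1
    have h0G := gpc p hS F G hF hG hGF H hH hctl hC hDH hD hDZ hDR0 hR0C _ h0F
    have h0NG : (R.subtype.comp α.toMonoidHom).comp (Subgroup.inclusion
        (inf_le_left : R ⊓ centralizerIn (normalizerIn S D) D ≤ R)) ∈
        NG.Hom (R ⊓ centralizerIn (normalizerIn S D) D) := by
      rw [hNG]
      apply QdF.mem_normalizerHom_of_le G hDR0 (inf_le_left.trans hRN) h0G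
      · intro x
        exact hφN _
      · intro x hx
        exact hmapD _ hx
    exact hom_mem_sub_of_centric p hNp NF NG hNFsat hNGsat hle _ hφ _ _ inf_le_left hcentric h0NG rfl
  intro φ hφ
  rw [← hNG]
  rw [← hNF] at hφ
  exact key P hφ

end Cfsg.Agent.Lib.Helper7.BGH
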