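import Mathlib
import Cfsg.Prelude.Def_FusionSystem
import Cfsg.Prelude.Def_Transfer
import Cfsg.Agent.Lib.Helper7.BGHa
import Cfsg.Agent.Lib.Helper7.BGHb
import Cfsg.Agent.Lib.Helper7.BGHc
import Cfsg.Agent.Lib.Helper7.BGHd

/-!
# Control of fusion by small-exponent abelian subgroups, part E: maps on subgroups with a noncentral
small abelian normal subgroup
-/

set_option autoImplicit false

namespace Cfsg.Agent.Lib.Helper7.BGH

open Cfsg Cfsg.FusionSystem Cfsg.Agent.Lib.Helper7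

variable {Ω : Type*} [Group Ω] {S : Subgroup Ω}

/-- **(GP-N)** a map of `F` defined on a subgroup `R` with a noncentral small abelian normal subgroup `D`
lies in `G`. -/
theorem gpn [Finite S] (p : ℕ) [Fact p.Prime] (hS : IsPGroup p S) (F G : FusionSystem S)
    (hF : F.IsSaturated p) (hG : G.IsSaturated p) (hGF : G ≤ F) (H : Subgroup Ω)
    (hH : F.StronglyClosed H) (hctl : Ctl p F G H)
    (hC : ∀ D' : Subgroup Ω, D' ≤ H → SmallAb p D' → F.IsFullyCentralized D' → ¬ D' ≤ F.center →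
      ∀ P : Subgroup Ω, F.centralizerHom D' P ⊆ G.centralizerHom D' P)
    {D R : Subgroup Ω} (hDH : D ≤ H) (hD : SmallAb p D) (hDZ : ¬ D ≤ F.center) (hDR : D ≤ R)
    (hRN : R ≤ normalizerIn S D) (φ : R →* Ω) (hφ : φ ∈ F.Hom R) : φ ∈ G.Hom R := by
  have hRS : R ≤ S := hRN.trans inf_le_left
  have hDS : D ≤ S := hDR.trans hRS
  haveI : Finite ↥D := finite_of_le hDS
  obtain ⟨D', hconj, hfn⟩ := exists_isFullyNormalized_conj F hDS
  have hD'Z : ¬ D' ≤ F.center := not_le_center_of_isConj p hS F hF hconj hDZ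
  obtain ⟨χ0, hχ0, hr⟩ := hconj
  have hD'H : D' ≤ H := by
    rw [← hr]
    rintro _ ⟨x, rfl⟩
    exact hH.2 D hDH χ0 hχ0 x
  have hD'sm : SmallAb p D' := hr ▸ smallAb_range hD χ0
  have hχ0G : χ0 ∈ G.Hom D := hctl D hDH hD hχ0
  have hfnG : G.IsFullyNormalized D' :=
    ⟨hfn.1, fun Q ⟨ψ, hψ, hψr⟩ => hfn.2 Q ⟨ψ, hGF _ hψ, hψr⟩⟩
  obtain ⟨hfcG, hFAG⟩ := ((isSaturated_iff_sylow_extension p hS G).mp hG).1 D' hfnG
  have hrecG : G.IsReceptive D' := ((isSaturated_iff_sylow_extension p hS G).mp hG).2 D' hfcG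
  -- the map on `N_S(D)`
  obtain ⟨ρ, hρ, hρN, hρD⟩ :=
    hom_normalizer_of_fullyAutomized_receptive p hS G D' D hFAG hrecG ⟨χ0, hχ0G, hr⟩
  -- the image of `D` under `φ`
  have hφD : φ.comp (Subgroup.inclusion hDR) ∈ F.Hom D := fs_restrict_mem F hDR hφ
  obtain ⟨ψ1, hψ1, hψ1e⟩ := F.inv_mem hφD
  have hψ1D : ∀ y : (φ.comp (Subgroup.inclusion hDR)).range, ψ1 y ∈ D := by
    rintro ⟨_, x, rfl⟩
    rw [hψ1e]; exact x.2
  have hμ0 : χ0.comp (ψ1.codRestrict D hψ1D) ∈ F.Hom (φ.comp (Subgroup.inclusion hDR)).range :=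
    F.comp_mem hψ1 hχ0 hψ1D
  have hμ0e : ∀ d : D, (χ0.comp (ψ1.codRestrict D hψ1D)) ⟨φ ⟨d, hDR d.2⟩, ⟨d, rfl⟩⟩ = χ0 d := by
    intro d
    show χ0 ⟨ψ1 ⟨φ ⟨d, hDR d.2⟩, ⟨d, rfl⟩⟩, _⟩ = χ0 d
    congr 1
    exact Subtype.ext (hψ1e d)
  have hD1H : (φ.comp (Subgroup.inclusion hDR)).range ≤ H := by
    rintro _ ⟨x, rfl⟩
    exact hH.2 D hDH _ hφD x
  have hD1sm : SmallAb p (φ.comp (Subgroup.inclusion hDR)).range := smallAb_range hD _
  have hμ0G := hctl _ hD1H hD1sm hμ0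
  have hμ0r : (χ0.comp (ψ1.codRestrict D hψ1D)).range = D' := by
    rw [← hr]
    ext y
    constructor
    · rintro ⟨z, rfl⟩
      exact ⟨_, rfl⟩
    · rintro ⟨d, rfl⟩
      exact ⟨⟨φ ⟨d, hDR d.2⟩, ⟨d, rfl⟩⟩, hμ0e d⟩
  obtain ⟨ρ1, hρ1, hρ1N, hρ1D⟩ :=
    hom_normalizer_of_fullyAutomized_receptive p hS G D' _ hFAG hrecG ⟨_, hμ0G, hμ0r⟩
  have hD1S : (φ.comp (Subgroup.inclusion hDR)).range ≤ S := by
    rintro _ ⟨x, rfl⟩
    exact (F.le_of_mem hφD).2 x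
  haveI : Finite ↥(φ.comp (Subgroup.inclusion hDR)).range := finite_of_le hD1S
  have hval : ∀ x : R, φ x ∈ normalizerIn S (φ.comp (Subgroup.inclusion hDR)).range := by
    intro x
    refine ⟨(F.le_of_mem hφ).2 x, ?_⟩
    apply mem_normalizer_of_conj_mem_finite
    rintro _ ⟨d, rfl⟩
    have hxN : (x : Ω) ∈ Subgroup.normalizer (D : Set Ω) := (hRN x.2).2
    have hmem : (x : Ω) * d * (x : Ω)⁻¹ ∈ D := (Subgroup.mem_normalizer_iff.mp hxN d).mp d.2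
    refine ⟨⟨_, hmem⟩, ?_⟩
    show φ ⟨(x : Ω) * d * (x : Ω)⁻¹, _⟩ = φ x * φ ⟨d, hDR d.2⟩ * (φ x)⁻¹
    rw [← map_inv, ← map_mul, ← map_mul]
    rfl
  have hρR : ρ.comp (Subgroup.inclusion hRN) ∈ G.Hom R := fs_restrict_mem G hRN hρ
  have hlam : ρ1.comp (φ.codRestrict _ hval) ∈ F.Hom R := F.comp_mem hφ (hGF _ hρ1) hval
  obtain ⟨θ, hθ, hθe⟩ := exists_transport F (hGF R hρR) hlam
  have hDN : D ≤ normalizerIn S D := le_inf hDS Subgroup.le_normalizer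
  have hθN : θ ∈ F.normalizerHom D' (ρ.comp (Subgroup.inclusion hRN)).range := by
    have hD'le : D' ≤ (ρ.comp (Subgroup.inclusion hRN)).range := by
      rw [← hρD]
      rintro _ ⟨r, hr', rfl⟩
      have hrD : (r : Ω) ∈ D := Subgroup.mem_subgroupOf.mp hr'
      exact ⟨⟨r, hDR hrD⟩, rfl⟩
    apply QdF.mem_normalizerHom_of_le F hD'le _ hθ
    · rintro ⟨_, x, rfl⟩
      rw [hθe x]
      exact hρ1N _
    · rintro ⟨_, x, rfl⟩ hy
      rw [hθe x]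
      rw [← hρD] at hy
      obtain ⟨r, hr', hrx⟩ := hy
      have hrD : (r : Ω) ∈ D := Subgroup.mem_subgroupOf.mp hr'
      have h2 : r = Subgroup.inclusion hRN x := G.injective_of_mem hρ hrx
      have hxD : (x : Ω) ∈ D := by
        have := congrArg (fun t : ↥(normalizerIn S D) => (t : Ω)) h2
        simp only [Subgroup.coe_inclusion] at this
        rw [← this]; exact hrD
      rw [← hρ1D]
      refine ⟨(φ.codRestrict _ hval) x, Subgroup.mem_subgroupOf.mpr ?_, rfl⟩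
      exact ⟨⟨x, hxD⟩, rfl⟩
    · rintro _ ⟨x, rfl⟩
      exact hρN _
  have hθG : θ ∈ G.Hom (ρ.comp (Subgroup.inclusion hRN)).range :=
    (ns p hS F G hF hG hGF H hH hctl hC hD'H hD'sm hfn hD'Z _ hθN).1
  have hlamG : ρ1.comp (φ.codRestrict _ hval) ∈ G.Hom R := mem_of_transport G hρR hθG hθe
  exact fs_left_cancel G hρ1 φ hval hlamG

end Cfsg.Agent.Lib.Helper7.BGH
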