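import Mathlib
import Cfsg.Agent.Lib.Lead.OmegaFaithful
import Cfsg.Agent.Lib.Lead.Conj

set_option autoImplicit false

namespace Cfsg.Agent.Lib.Helper7

variable {P : Type*} [Group P]

/-- restriction of an automorphism to an invariant subgroup -/
def restrictAut (a : MulAut P) (U : Subgroup P) (hU : ∀ x ∈ U, a x ∈ U) (hU' : ∀ x ∈ U, a⁻¹ x ∈ U) :
    MulAut U where
  toFun x := ⟨a x, hU x x.2⟩
  invFun x := ⟨a⁻¹ x, hU' x x.2⟩
  left_inv x := Subtype.ext (by simp)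
  right_inv x := Subtype.ext (by simp)
  map_mul' x y := Subtype.ext (by simp)

theorem restrictAut_pow_apply (a : MulAut P) (U : Subgroup P) (hU : ∀ x ∈ U, a x ∈ U)
    (hU' : ∀ x ∈ U, a⁻¹ x ∈ U) (n : ℕ) (x : U) :
    (((restrictAut a U hU hU') ^ n) x : P) = (a ^ n) x := by
  induction n generalizing x with
  | zero => simp
  | succ n ih =>
    rw [pow_succ, pow_succ, MulAut.mul_apply, MulAut.mul_apply, ih]
    rfl

theorem orderOf_restrictAut_dvd (a : MulAut P) (U : Subgroup P) (hU : ∀ x ∈ U, a x ∈ U)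
    (hU' : ∀ x ∈ U, a⁻¹ x ∈ U) : orderOf (restrictAut a U hU hU') ∣ orderOf a := by
  apply orderOf_dvd_of_pow_eq_one
  ext x
  rw [restrictAut_pow_apply, pow_orderOf_eq_one]
  rfl

/-- a `p'`-automorphism fixing the small elements of an invariant subgroup `U` of a finite `p`-group fixes `U`. -/
theorem fixes_of_fixes_small_on [Finite P] {p : ℕ} [Fact p.Prime] (hP : IsPGroup p P) (a : MulAut P)
    (ha : Nat.Coprime (orderOf a) p) (U : Subgroup P) (hU : ∀ x ∈ U, a x ∈ U)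
    (hU' : ∀ x ∈ U, a⁻¹ x ∈ U)
    (h : ∀ x ∈ U, x ^ p = 1 ∨ (p = 2 ∧ x ^ 4 = 1) → a x = x) : ∀ x ∈ U, a x = x := by
  have hcop : Nat.Coprime (orderOf (restrictAut a U hU hU')) p :=
    Nat.Coprime.coprime_dvd_left (orderOf_restrictAut_dvd a U hU hU') ha
  have h1 := Cfsg.Agent.Lib.Lead.OmegaFaithful.eq_one_of_fixes_small (hP.to_subgroup U)
    (restrictAut a U hU hU') hcop (by
      intro x hx
      apply Subtype.ext
      show a x = x
      apply h x x.2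
      rcases hx with hx | ⟨h2, hx⟩
      · left
        have := congrArg Subtype.val hx
        simpa using this
      · right
        refine ⟨h2, ?_⟩
        have := congrArg Subtype.val hx
        simpa using this)
  intro x hx
  have := congrArg (fun b : MulAut U => ((b ⟨x, hx⟩ : U) : P)) h1
  exact this

/-- ... and is trivial if moreover it acts trivially modulo `U`. -/
theorem eq_one_of_fixes_small_mod [Finite P] {p : ℕ} [Fact p.Prime] (hP : IsPGroup p P) (a : MulAut P)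
    (ha : Nat.Coprime (orderOf a) p) (U : Subgroup P) (hmod : ∀ x : P, x⁻¹ * a x ∈ U)
    (hmod' : ∀ x : P, x⁻¹ * a⁻¹ x ∈ U)
    (h : ∀ x ∈ U, x ^ p = 1 ∨ (p = 2 ∧ x ^ 4 = 1) → a x = x) : a = 1 := by
  have hU : ∀ x ∈ U, a x ∈ U := by
    intro x hx
    have := U.mul_mem hx (hmod x)
    simpa using this
  have hU' : ∀ x ∈ U, a⁻¹ x ∈ U := by
    intro x hx
    have := U.mul_mem hx (hmod' x)
    simpa using this
  have hfix := fixes_of_fixes_small_on hP a ha U hU hU' h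
  ext x
  have hx : a x = x * (x⁻¹ * a x) := by group
  obtain ⟨j, hj⟩ := (hP.to_subgroup U) ⟨x⁻¹ * a x, hmod x⟩
  have hj' : (x⁻¹ * a x) ^ p ^ j = 1 := by
    have := congrArg Subtype.val hj
    simpa using this
  have hd := Cfsg.Agent.Lib.Lead.OmegaFaithful.eq_one_of_step a ha hx (hfix _ (hmod x)) hj'
  show a x = x
  have : a x = x * (x⁻¹ * a x) := hx
  rw [hd, mul_one] at this
  exact this

/-- the automorphisms in `A` fixing every small element of `U` -/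
def fixSmall (p : ℕ) (A : Subgroup (MulAut P)) (U : Subgroup P) : Subgroup (MulAut P) where
  carrier := {β | β ∈ A ∧ ∀ x ∈ U, x ^ p = 1 ∨ (p = 2 ∧ x ^ 4 = 1) → β x = x}
  one_mem' := ⟨A.one_mem, fun _ _ _ => rfl⟩
  mul_mem' := by
    rintro β γ ⟨hβA, hβ⟩ ⟨hγA, hγ⟩
    refine ⟨A.mul_mem hβA hγA, fun x hx hs => ?_⟩
    rw [MulAut.mul_apply, hγ x hx hs, hβ x hx hs]
  inv_mem' := by
    rintro β ⟨hβA, hβ⟩
    refine ⟨A.inv_mem hβA, fun x hx hs => ?_⟩
    have := hβ x hx hs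
    conv_lhs => rw [← this]
    simp

theorem small_map {p : ℕ} (γ : MulAut P) {x : P} (hs : x ^ p = 1 ∨ (p = 2 ∧ x ^ 4 = 1)) :
    (γ x) ^ p = 1 ∨ (p = 2 ∧ (γ x) ^ 4 = 1) := by
  rcases hs with h | ⟨h2, h⟩
  · left; rw [← map_pow, h, map_one]
  · right; exact ⟨h2, by rw [← map_pow, h, map_one]⟩

theorem fixSmall_conj_mem {p : ℕ} {A : Subgroup (MulAut P)} {U : Subgroup P}
    (hinv : ∀ β ∈ A, ∀ x ∈ U, β x ∈ U) {γ β : MulAut P} (hγ : γ ∈ A) (hβ : β ∈ fixSmall p A U) :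
    γ * β * γ⁻¹ ∈ fixSmall p A U := by
  refine ⟨A.mul_mem (A.mul_mem hγ hβ.1) (A.inv_mem hγ), fun x hx hs => ?_⟩
  have h1 := hβ.2 (γ⁻¹ x) (hinv _ (A.inv_mem hγ) x hx) (small_map γ⁻¹ hs)
  simp only [MulAut.mul_apply]
  rw [h1]
  simp

theorem isPGroup_fixSmall [Finite P] {p : ℕ} [Fact p.Prime] (hP : IsPGroup p P)
    (A : Subgroup (MulAut P)) (U : Subgroup P) (hmod : ∀ β ∈ A, ∀ x : P, x⁻¹ * β x ∈ U) :
    IsPGroup p (fixSmall p A U) := by
  have hp := (Fact.out : p.Prime)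
  haveI : Finite (MulAut P) := inferInstance
  rintro ⟨β, hβ⟩
  have hpos : orderOf β ≠ 0 := (orderOf_pos β).ne'
  obtain ⟨k, m, hm, hkm⟩ := Nat.exists_eq_pow_mul_and_not_dvd hpos p hp.ne_one
  refine ⟨k, Subtype.ext ?_⟩
  show β ^ p ^ k = 1
  have hmem : β ^ p ^ k ∈ fixSmall p A U := Subgroup.pow_mem _ hβ _
  have hord : orderOf (β ^ p ^ k) = m := by
    rw [orderOf_pow_of_dvd (pow_pos hp.pos k).ne' (by rw [hkm]; exact dvd_mul_right _ _), hkm]
    exact Nat.mul_div_cancel_left m (pow_pos hp.pos k)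
  have hcop : Nat.Coprime (orderOf (β ^ p ^ k)) p := by
    rw [hord, Nat.coprime_comm]
    exact (Nat.Prime.coprime_iff_not_dvd hp).mpr hm
  exact eq_one_of_fixes_small_mod hP _ hcop U (hmod _ hmem.1)
    (hmod _ (A.inv_mem hmem.1)) hmem.2

/-- the automorphisms in `A` acting as powers on every small element of `U` -/
def powSmall (p : ℕ) (A : Subgroup (MulAut P)) (U : Subgroup P) : Subgroup (MulAut P) where
  carrier := {β | β ∈ A ∧ ∀ x ∈ U, x ^ p = 1 ∨ (p = 2 ∧ x ^ 4 = 1) →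
    β x ∈ Subgroup.zpowers x ∧ β⁻¹ x ∈ Subgroup.zpowers x}
  one_mem' := ⟨A.one_mem, fun x _ _ => ⟨Subgroup.mem_zpowers x, by simp⟩⟩
  mul_mem' := by
    rintro β γ ⟨hβA, hβ⟩ ⟨hγA, hγ⟩
    refine ⟨A.mul_mem hβA hγA, fun x hx hs => ⟨?_, ?_⟩⟩
    · obtain ⟨k, hk⟩ := Subgroup.mem_zpowers_iff.mp (hγ x hx hs).1
      rw [MulAut.mul_apply, ← hk, map_zpow]
      exact Subgroup.zpow_mem _ (hβ x hx hs).1 k
    · obtain ⟨k, hk⟩ := Subgroup.mem_zpowers_iff.mp (hβ x hx hs).2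
      rw [mul_inv_rev, MulAut.mul_apply, ← hk, map_zpow]
      exact Subgroup.zpow_mem _ (hγ x hx hs).2 k
  inv_mem' := by
    rintro β ⟨hβA, hβ⟩
    refine ⟨A.inv_mem hβA, fun x hx hs => ⟨(hβ x hx hs).2, ?_⟩⟩
    rw [inv_inv]
    exact (hβ x hx hs).1

theorem powSmall_conj_mem {p : ℕ} {A : Subgroup (MulAut P)} {U : Subgroup P}
    (hinv : ∀ β ∈ A, ∀ x ∈ U, β x ∈ U) {γ β : MulAut P} (hγ : γ ∈ A) (hβ : β ∈ powSmall p A U) :
    γ * β * γ⁻¹ ∈ powSmall p A U := by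
  refine ⟨A.mul_mem (A.mul_mem hγ hβ.1) (A.inv_mem hγ), fun x hx hs => ?_⟩
  have h1 := hβ.2 (γ⁻¹ x) (hinv _ (A.inv_mem hγ) x hx) (small_map γ⁻¹ hs)
  constructor
  · obtain ⟨k, hk⟩ := Subgroup.mem_zpowers_iff.mp h1.1
    simp only [MulAut.mul_apply]
    rw [← hk, map_zpow]
    simp
  · obtain ⟨k, hk⟩ := Subgroup.mem_zpowers_iff.mp h1.2
    have e : (γ * β * γ⁻¹)⁻¹ = γ * β⁻¹ * γ⁻¹ := by group
    rw [e]
    simp only [MulAut.mul_apply]
    rw [← hk, map_zpow]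
    simp

theorem comm_mem_fixSmall {p : ℕ} {A : Subgroup (MulAut P)} {U : Subgroup P}
    {β γ : MulAut P} (hβ : β ∈ powSmall p A U) (hγ : γ ∈ powSmall p A U) :
    β * γ * β⁻¹ * γ⁻¹ ∈ fixSmall p A U := by
  refine ⟨A.mul_mem (A.mul_mem (A.mul_mem hβ.1 hγ.1) (A.inv_mem hβ.1)) (A.inv_mem hγ.1),
    fun x hx hs => ?_⟩
  obtain ⟨a, ha⟩ := Subgroup.mem_zpowers_iff.mp (hγ.2 x hx hs).2
  obtain ⟨b, hb⟩ := Subgroup.mem_zpowers_iff.mp (hβ.2 x hx hs).2
  obtain ⟨c, hc⟩ := Subgroup.mem_zpowers_iff.mp (hγ.2 x hx hs).1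
  obtain ⟨d, hd⟩ := Subgroup.mem_zpowers_iff.mp (hβ.2 x hx hs).1
  have hdb : x ^ (d * b) = x := by
    have : β (β⁻¹ x) = x := by simp
    rw [← hb, map_zpow, ← hd, ← zpow_mul] at this
    exact this
  have hca : x ^ (c * a) = x := by
    have : γ (γ⁻¹ x) = x := by simp
    rw [← ha, map_zpow, ← hc, ← zpow_mul] at this
    exact this
  simp only [MulAut.mul_apply]
  rw [← ha]
  simp only [map_zpow]
  rw [← hb]
  simp only [map_zpow]
  rw [← hc]
  simp only [map_zpow]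
  rw [← hd]
  rw [← zpow_mul, ← zpow_mul, ← zpow_mul]
  have e : d * (c * (b * a)) = (d * b) * (c * a) := by ring
  rw [e, zpow_mul, hdb, hca]

theorem sylow_normal_of_powSmall [Finite P] {p : ℕ} [Fact p.Prime]
    (A : Subgroup (MulAut P)) (U : Subgroup P) (hinv : ∀ β ∈ A, ∀ x ∈ U, β x ∈ U)
    (R : Sylow p A) (hR : ∀ r : A, r ∈ R → (r : MulAut P) ∈ powSmall p A U)
    (hfix : ∀ β (hβ : β ∈ fixSmall p A U), (⟨β, hβ.1⟩ : A) ∈ R) : (R : Subgroup A).Normal := by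
  haveI : Finite (MulAut P) := inferInstance
  refine ⟨fun n hn g => ?_⟩
  have hδpow : ((g * n * g⁻¹ : A) : MulAut P) ∈ powSmall p A U := by
    have := powSmall_conj_mem hinv g.2 (hR n hn)
    exact this
  -- δ normalizes R
  have hδN : g * n * g⁻¹ ∈ Subgroup.normalizer ((R : Subgroup A) : Set A) := by
    apply Cfsg.Agent.Lib.Lead.Conj.mem_normalizer_of_conj_mem
    intro r hr
    have hc := comm_mem_fixSmall hδpow (hR r hr)
    have h1 := hfix _ hc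
    have h2 := (R : Subgroup A).mul_mem h1 hr
    convert h2 using 1
    apply Subtype.ext
    show ((g * n * g⁻¹ : A) : MulAut P) * r * ((g * n * g⁻¹ : A) : MulAut P)⁻¹ =
      ((g * n * g⁻¹ : A) : MulAut P) * r * ((g * n * g⁻¹ : A) : MulAut P)⁻¹ * (r : MulAut P)⁻¹ * r
    group
  obtain ⟨k, hk⟩ := R.isPGroup' ⟨n, hn⟩
  have hk' : n ^ p ^ k = 1 := by
    have := congrArg Subtype.val hk
    simpa using this
  have hδp : IsPGroup p (Subgroup.zpowers (g * n * g⁻¹)) := by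
    rintro ⟨y, hy⟩
    obtain ⟨i, rfl⟩ := Subgroup.mem_zpowers_iff.mp hy
    refine ⟨k, Subtype.ext ?_⟩
    show ((g * n * g⁻¹) ^ i) ^ p ^ k = 1
    rw [← zpow_natCast, ← zpow_mul, mul_comm, zpow_mul, zpow_natCast, conj_pow, hk']
    simp
  have hsup := hδp.to_sup_of_normal_right' R.isPGroup' (Subgroup.zpowers_le.mpr hδN)
  have := R.is_maximal' hsup le_sup_right
  have hmem : g * n * g⁻¹ ∈ Subgroup.zpowers (g * n * g⁻¹) ⊔ (R : Subgroup A) :=
    Subgroup.mem_sup_left (Subgroup.mem_zpowers _)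
  rw [this] at hmem
  exact hmem

end Cfsg.Agent.Lib.Helper7
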