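import Mathlib
import Cfsg.Agent.Lib.Helper7.BGHa
import Cfsg.Agent.Lib.Helper7.SmallFix
import Cfsg.Agent.H1.CriticalSubgroup
import Cfsg.Agent.S0121

/-!
# Control of fusion by small-exponent abelian subgroups, part F: `p'`-automorphisms fixing the small
abelian normal subgroups
-/

set_option autoImplicit false

namespace Cfsg.Agent.Lib.Helper7.BGH

open Cfsg Cfsg.Agent.Lib.Helper7
open scoped commutatorElement

variable {P : Type*} [Group P]

theorem small_pow_sexp {p : ℕ} {x : P} (h : x ^ p = 1 ∨ (p = 2 ∧ x ^ 4 = 1)) : x ^ sexp p = 1 := by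
  unfold sexp
  split_ifs with hp
  · rcases h with h | ⟨-, h⟩
    · rw [hp] at h
      have : x ^ 4 = (x ^ 2) ^ 2 := by rw [← pow_mul]
      rw [this, h, one_pow]
    · exact h
  · rcases h with h | ⟨h2, -⟩
    · exact h
    · exact absurd h2 hp

/-- A `p'`-automorphism `β` of a finite `p`-group with `[P, β] ≤ N` that fixes every small abelian normal
subgroup of `P` inside `N` elementwise is trivial. -/
theorem eq_one_of_fixes_normal_smallAb [Finite P] {p : ℕ} [Fact p.Prime] (hP : IsPGroup p P)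
    (N : Subgroup P) [hNn : N.Normal] (β : MulAut P) (hβ : (orderOf β).Coprime p)
    (hN : ∀ x : P, x⁻¹ * β x ∈ N)
    (h : ∀ D : Subgroup P, D.Normal → D ≤ N → SmallAb p D → ∀ x ∈ D, β x = x) : β = 1 := by
  obtain ⟨C, hCchar, h1, h2, h3⟩ := Cfsg.Agent.H1.exists_critical_subgroup' hP
  haveI := hCchar
  have hCn : C.Normal := inferInstance
  -- the small part of `Z(C) ∩ N`
  let V : Subgroup P :=
    { carrier := {z | z ∈ C ∧ z ∈ Subgroup.centralizer (C : Set P) ∧ z ∈ N ∧ z ^ sexp p = 1}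
      one_mem' := ⟨C.one_mem, Subgroup.one_mem _, N.one_mem, one_pow _⟩
      mul_mem' := by
        rintro x y ⟨hx1, hx2, hx3, hx4⟩ ⟨hy1, hy2, hy3, hy4⟩
        refine ⟨C.mul_mem hx1 hy1, Subgroup.mul_mem _ hx2 hy2, N.mul_mem hx3 hy3, ?_⟩
        have hc : Commute x y := ((Subgroup.mem_centralizer_iff.mp hx2) y hy1).symm
        rw [hc.mul_pow, hx4, hy4, one_mul]
      inv_mem' := by
        rintro x ⟨hx1, hx2, hx3, hx4⟩
        exact ⟨C.inv_mem hx1, Subgroup.inv_mem _ hx2, N.inv_mem hx3, by rw [inv_pow, hx4, inv_one]⟩ }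
  have hVmem : ∀ z, z ∈ V ↔ z ∈ C ∧ z ∈ Subgroup.centralizer (C : Set P) ∧ z ∈ N ∧ z ^ sexp p = 1 :=
    fun z => Iff.rfl
  have hcenconj : ∀ g z : P, z ∈ Subgroup.centralizer (C : Set P) →
      g * z * g⁻¹ ∈ Subgroup.centralizer (C : Set P) := by
    intro g z hz
    rw [Subgroup.mem_centralizer_iff]
    intro c hc
    have hc' : g⁻¹ * c * g ∈ C := by
      have := hCn.conj_mem c hc g⁻¹
      simpa using this
    have := (Subgroup.mem_centralizer_iff.mp hz) _ hc'
    calc c * (g * z * g⁻¹) = g * ((g⁻¹ * c * g) * z) * g⁻¹ := by group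
      _ = g * (z * (g⁻¹ * c * g)) * g⁻¹ := by rw [this]
      _ = g * z * g⁻¹ * c := by group
  have hVn : V.Normal := by
    refine ⟨fun z hz g => ?_⟩
    obtain ⟨hz1, hz2, hz3, hz4⟩ := hz
    refine ⟨hCn.conj_mem z hz1 g, hcenconj g z hz2, hNn.conj_mem z hz3 g, ?_⟩
    rw [conj_pow, hz4]; group
  have hVcomm : ∀ z ∈ V, ∀ c ∈ C, c * z = z * c := fun z hz c hc =>
    (Subgroup.mem_centralizer_iff.mp hz.2.1) c hc
  have hVsm : SmallAb p V := by
    refine ⟨⟨⟨?_⟩⟩, fun z hz => hz.2.2.2⟩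
    rintro ⟨x, hx⟩ ⟨y, hy⟩
    apply Subtype.ext
    show x * y = y * x
    exact hVcomm y hy x hx.1
  have hVN : V ≤ N := fun z hz => hz.2.2.1
  have hβV : ∀ z ∈ V, β z = z := h V hVn hVN hVsm
  -- small elements of `C ∩ N` are fixed
  have hsmall : ∀ w ∈ C ⊓ N, (w ^ p = 1 ∨ (p = 2 ∧ w ^ 4 = 1)) → β w = w := by
    rintro w ⟨hwC, hwN⟩ hws
    have hwe : w ^ sexp p = 1 := small_pow_sexp hws
    -- commutators with `w` lie in `V`
    have hcomV : ∀ g : P, g * w * g⁻¹ * w⁻¹ ∈ V := by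
      intro g
      have hc1 : g * w * g⁻¹ * w⁻¹ ∈ C ⊓ Subgroup.centralizer (C : Set P) := by
        apply h2
        rw [Subgroup.commutator_comm]
        exact Subgroup.commutator_mem_commutator (Subgroup.mem_top g) hwC
      refine ⟨hc1.1, hc1.2, N.mul_mem (hNn.conj_mem w hwN g) (N.inv_mem hwN), ?_⟩
      have hcw : Commute (g * w * g⁻¹ * w⁻¹) w :=
        ((Subgroup.mem_centralizer_iff.mp hc1.2) w hwC).symm
      have e : g * w * g⁻¹ = (g * w * g⁻¹ * w⁻¹) * w := by group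
      have e2 : (g * w * g⁻¹) ^ sexp p = 1 := by rw [conj_pow, hwe]; group
      rw [e, hcw.mul_pow, hwe, mul_one] at e2
      exact e2
    let D : Subgroup P :=
      { carrier := {x | ∃ k : ℤ, ∃ z ∈ V, x = w ^ k * z}
        one_mem' := ⟨0, 1, V.one_mem, by simp⟩
        mul_mem' := by
          rintro x y ⟨k, z, hz, rfl⟩ ⟨l, z', hz', rfl⟩
          refine ⟨k + l, z * z', V.mul_mem hz hz', ?_⟩
          have hc : w ^ l * z = z * w ^ l := hVcomm z hz _ (C.zpow_mem hwC l)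
          calc w ^ k * z * (w ^ l * z') = w ^ k * (z * w ^ l) * z' := by group
            _ = w ^ k * (w ^ l * z) * z' := by rw [hc]
            _ = w ^ (k + l) * (z * z') := by rw [zpow_add]; group
        inv_mem' := by
          rintro x ⟨k, z, hz, rfl⟩
          refine ⟨-k, z⁻¹, V.inv_mem hz, ?_⟩
          have hc : w ^ (-k) * z⁻¹ = z⁻¹ * w ^ (-k) := hVcomm z⁻¹ (V.inv_mem hz) _ (C.zpow_mem hwC _)
          rw [hc, mul_inv_rev, zpow_neg] }
    have hDn : D.Normal := by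
      refine ⟨fun x hx g => ?_⟩
      obtain ⟨k, z, hz, rfl⟩ := hx
      obtain ⟨c, hcdef⟩ : ∃ c : P, c = g * w * g⁻¹ * w⁻¹ := ⟨_, rfl⟩
      have hc : c ∈ V := hcdef ▸ hcomV g
      have hcw : Commute c w := (hVcomm _ hc w hwC).symm
      refine ⟨k, c ^ k * (g * z * g⁻¹), V.mul_mem (V.zpow_mem hc k)
        (hVn.conj_mem z hz g), ?_⟩
      have e : g * w * g⁻¹ = c * w := by rw [hcdef]; group
      have e3 : g * (w ^ k * z) * g⁻¹ = (g * w * g⁻¹) ^ k * (g * z * g⁻¹) := by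
        rw [conj_zpow]; group
      rw [e3, e, hcw.mul_zpow]
      have hc2 : c ^ k * w ^ k = w ^ k * c ^ k :=
        (hVcomm _ (V.zpow_mem hc k) _ (C.zpow_mem hwC k)).symm
      rw [hc2, mul_assoc]
    have hDN : D ≤ N := by
      rintro x ⟨k, z, hz, rfl⟩
      exact N.mul_mem (N.zpow_mem hwN k) (hVN hz)
    have hDsm : SmallAb p D := by
      refine ⟨⟨⟨?_⟩⟩, ?_⟩
      · rintro ⟨x, k, z, hz, rfl⟩ ⟨y, l, z', hz', rfl⟩
        apply Subtype.ext
        show w ^ k * z * (w ^ l * z') = w ^ l * z' * (w ^ k * z)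
        have hc1 : w ^ l * z = z * w ^ l := hVcomm z hz _ (C.zpow_mem hwC l)
        have hc2 : w ^ k * z' = z' * w ^ k := hVcomm z' hz' _ (C.zpow_mem hwC k)
        have hc3 : z' * z = z * z' := hVcomm z hz z' hz'.1
        calc w ^ k * z * (w ^ l * z') = w ^ k * (z * w ^ l) * z' := by group
          _ = w ^ k * (w ^ l * z) * z' := by rw [hc1]
          _ = w ^ l * (w ^ k * z) * z' := by
            rw [← mul_assoc, ← mul_assoc, ← zpow_add, ← zpow_add, add_comm]
          _ = w ^ l * w ^ k * (z * z') := by group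
          _ = w ^ l * w ^ k * (z' * z) := by rw [hc3]
          _ = w ^ l * (w ^ k * z') * z := by group
          _ = w ^ l * (z' * w ^ k) * z := by rw [hc2]
          _ = w ^ l * z' * (w ^ k * z) := by group
      · rintro x ⟨k, z, hz, rfl⟩
        have hc : Commute (w ^ k) z := (hVcomm z hz _ (C.zpow_mem hwC k))
        rw [hc.mul_pow, hz.2.2.2, mul_one, ← zpow_natCast, ← zpow_mul, mul_comm, zpow_mul,
          zpow_natCast, hwe, one_zpow]
    exact h D hDn hDN hDsm w ⟨1, 1, V.one_mem, by simp⟩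
  -- `β` preserves `C ⊓ N`
  have hCβ : ∀ x, x ∈ C ↔ β x ∈ C := by
    intro x
    have := Subgroup.characteristic_iff_comap_eq.mp hCchar β
    constructor
    · intro hx
      have h' : x ∈ C.comap β.toMonoidHom := by rw [this]; exact hx
      exact h'
    · intro hx
      rw [← this]
      exact hx
  have hNβ : ∀ x ∈ N, β x ∈ N := by
    intro x hx
    have := N.mul_mem hx (hN x)
    rwa [mul_inv_cancel_left] at this
  have hNβ' : ∀ x ∈ N, β⁻¹ x ∈ N := by
    intro x hx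
    have h1 := hN (β⁻¹ x)
    rw [MulAut.apply_inv_self] at h1
    -- (β⁻¹ x)⁻¹ * x ∈ N
    have h2 := N.mul_mem hx (N.inv_mem h1)
    rw [mul_inv_rev, inv_inv, mul_inv_cancel_left] at h2
    exact h2
  have hU : ∀ x ∈ C ⊓ N, β x ∈ C ⊓ N := fun x hx => ⟨(hCβ x).mp hx.1, hNβ x hx.2⟩
  have hU' : ∀ x ∈ C ⊓ N, β⁻¹ x ∈ C ⊓ N := by
    intro x hx
    refine ⟨?_, hNβ' x hx.2⟩
    show β⁻¹ x ∈ C
    rw [hCβ, MulAut.apply_inv_self]
    exact hx.1
  have hfixCN : ∀ x ∈ C ⊓ N, β x = x :=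
    fixes_of_fixes_small_on hP β hβ (C ⊓ N) hU hU' hsmall
  -- `β` fixes `C`
  have hfixC : ∀ c ∈ C, β c = c := by
    intro c hc
    have hd : c⁻¹ * β c ∈ C ⊓ N := ⟨C.mul_mem (C.inv_mem hc) ((hCβ c).mp hc), hN c⟩
    have hβd := hfixCN _ hd
    have hpow : ∀ k : ℕ, (β ^ k) c = c * (c⁻¹ * β c) ^ k := by
      intro k
      induction k with
      | zero => simp
      | succ k ih =>
        rw [pow_succ', MulAut.mul_apply, ih, map_mul, map_pow, hβd, pow_succ', ← mul_assoc,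
          mul_inv_cancel_left]
    have h4 := hpow (orderOf β)
    rw [pow_orderOf_eq_one, MulAut.one_apply] at h4
    have h5 : (c⁻¹ * β c) ^ orderOf β = 1 := by
      have := congrArg (fun t => c⁻¹ * t) h4
      simpa using this.symm
    obtain ⟨j, hj⟩ := hP (c⁻¹ * β c)
    have h6 : orderOf (c⁻¹ * β c) ∣ Nat.gcd (orderOf β) (p ^ j) :=
      Nat.dvd_gcd (orderOf_dvd_of_pow_eq_one h5) (orderOf_dvd_of_pow_eq_one hj)
    have h7 : Nat.gcd (orderOf β) (p ^ j) = 1 := Nat.Coprime.pow_right j hβ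
    rw [h7, Nat.dvd_one, orderOf_eq_one_iff] at h6
    calc β c = c * (c⁻¹ * β c) := by group
      _ = c := by rw [h6, mul_one]
  exact Cfsg.Agent.S0121.result hP C hCchar h1 h2 h3 β hβ hfixC

end Cfsg.Agent.Lib.Helper7.BGH
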