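import Mathlib
import Cfsg.Agent.Lib.Helper7.BGHa
import Cfsg.Agent.Lib.Helper7.BGHb
import Cfsg.Agent.Lib.Helper7.BGHc
import Cfsg.Agent.Lib.Helper7.BGHd
import Cfsg.Agent.Lib.Helper7.BGHe
import Cfsg.Agent.Lib.Helper7.BGHf
import Cfsg.Agent.Lib.Helper7.FusionCentral
import Cfsg.Agent.Lib.Helper7.FusionCore
import Cfsg.Agent.Lib.Helper7.FusionInner
import Cfsg.Agent.Lib.Helper7.Alperin3

/-!
# Control of fusion by small-exponent abelian subgroups, part G: the automorphism groups
-/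

set_option autoImplicit false

namespace Cfsg.Agent.Lib.Helper7.BGH

open Cfsg Cfsg.FusionSystem Cfsg.Agent.Lib.Helper7

variable {Ω : Type*} [Group Ω] {S : Subgroup Ω}

theorem smallAb_map {p : ℕ} {P : Subgroup Ω} {D : Subgroup ↥P} (h : SmallAb p D) :
    SmallAb p (D.map P.subtype) := by
  have hc := h.1
  refine ⟨⟨⟨?_⟩⟩, ?_⟩
  · rintro ⟨_, a, ha, rfl⟩ ⟨_, b, hb, rfl⟩
    apply Subtype.ext
    show (a : Ω) * (b : Ω) = (b : Ω) * (a : Ω)
    have := congrArg Subtype.val (hc.is_comm.comm ⟨a, ha⟩ ⟨b, hb⟩)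
    exact congrArg Subtype.val this
  · rintro _ ⟨a, ha, rfl⟩
    have := h.2 a ha
    show ((a : Ω)) ^ sexp p = 1
    have h2 := congrArg Subtype.val this
    simpa using h2

/-- a `p'`-automorphism in `Aut_F(P)` is trivial if every small abelian normal subgroup of `P` inside `H` is central in `F` -/
theorem eq_one_of_all_central [Finite S] (p : ℕ) [Fact p.Prime] (hS : IsPGroup p S) (F : FusionSystem S)
    (hF : F.IsSaturated p) (H : Subgroup Ω) (hH : F.StronglyClosed H) (hhyp : HypProp p F H)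
    {P : Subgroup Ω} (hPS : P ≤ S)
    (hall : ∀ D : Subgroup Ω, D ≤ P → P ≤ normalizerIn S D → D ≤ H → SmallAb p D → D ≤ F.center)
    (β : MulAut P) (hβ : β ∈ F.autGroup P) (hcop : (orderOf β).Coprime p) : β = 1 := by
  haveI : Finite ↥P := finite_of_le hPS
  have hPp : IsPGroup p ↥P := hS.to_le hPS
  have hNn : (H.subgroupOf P).Normal := by
    refine ⟨fun n hn g => ?_⟩
    rw [Subgroup.mem_subgroupOf] at hn ⊢
    have := stronglyClosed_conj_mem F hH (hPS g.2) hn
    simpa using this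
  have hcen := (isCentral_iff_conj_singletons p hS F hF F.center).mp (isCentral_center F)
  have hβF := (mem_autGroup_iff F hPS β).mp hβ
  refine eq_one_of_fixes_normal_smallAb hPp (H.subgroupOf P) β hcop ?_ ?_
  · intro x
    rw [Subgroup.mem_subgroupOf]
    have := hhyp P β hPS hβ hcop x
    simpa using this
  · intro D hDn hDH hD x hx
    have hD'P : D.map P.subtype ≤ P := by
      rintro _ ⟨a, -, rfl⟩
      exact a.2
    have hD'N : P ≤ normalizerIn S (D.map P.subtype) := by
      intro g hg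
      refine ⟨hPS hg, ?_⟩
      show g ∈ Subgroup.normalizer _
      rw [Subgroup.mem_normalizer_iff]
      intro y
      constructor
      · rintro ⟨a, ha, rfl⟩
        exact ⟨⟨g, hg⟩ * a * ⟨g, hg⟩⁻¹, hDn.conj_mem a ha ⟨g, hg⟩, by simp⟩
      · rintro ⟨a, ha, ha'⟩
        refine ⟨⟨g, hg⟩⁻¹ * a * ⟨g, hg⟩, ?_, ?_⟩
        · have := hDn.conj_mem a ha ⟨g, hg⟩⁻¹
          simpa using this
        · have h1 : (a : Ω) = g * y * g⁻¹ := ha'
          simp [h1, mul_assoc]
    have hD'H : D.map P.subtype ≤ H := by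
      rintro _ ⟨a, ha, rfl⟩
      exact Subgroup.mem_subgroupOf.mp (hDH ha)
    have hD'Z := hall _ hD'P hD'N hD'H (smallAb_map hD)
    have hxZ : (x : Ω) ∈ F.center := hD'Z ⟨x, hx, rfl⟩
    -- `β x` is `F`-conjugate to `x`
    have hzp : Subgroup.zpowers (x : Ω) ≤ P := by
      rw [Subgroup.zpowers_le]; exact x.2
    have hconj : F.IsConjElt (x : Ω) ((β x : P) : Ω) :=
      ⟨_, fs_restrict_mem F hzp hβF, rfl⟩
    exact Subtype.ext (hcen.2 _ hxZ _ hconj)

/-- the automorphism groups at `S` and the essential subgroups agree -/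
theorem autGroup_le_of_ctl [Finite S] (p : ℕ) [hp : Fact p.Prime] (hS : IsPGroup p S)
    (F G : FusionSystem S)
    (hF : F.IsSaturated p) (hG : G.IsSaturated p) (hGF : G ≤ F) (H : Subgroup Ω)
    (hH : F.StronglyClosed H) (hhyp : HypProp p F H) (hctl : Ctl p F G H)
    (hC : ∀ D' : Subgroup Ω, D' ≤ H → SmallAb p D' → F.IsFullyCentralized D' → ¬ D' ≤ F.center →
      ∀ P : Subgroup Ω, F.centralizerHom D' P ⊆ G.centralizerHom D' P)
    (P : Subgroup Ω) (hP : P = S ∨ F.IsEssential p P) : F.autGroup P ≤ G.autGroup P := by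
  have hPS : P ≤ S := by
    rcases hP with rfl | hess
    · exact le_rfl
    · exact hess.1.1
  have : Finite ↥P := finite_of_le hPS
  have hFA : F.IsFullyAutomized p P := by
    rcases hP with rfl | hess
    · exact isFullyAutomized_top_of_isSaturated p hS F hF
    · exact (((isSaturated_iff_sylow_extension p hS F).mp hF).1 P hess.2.1).2
  by_cases hex : ∃ D : Subgroup Ω, D ≤ P ∧ P ≤ normalizerIn S D ∧ D ≤ H ∧ SmallAb p D ∧
      ¬ D ≤ F.center
  · obtain ⟨D, hDP, hPN, hDH, hD, hDZ⟩ := hex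
    intro α hα
    rw [mem_autGroup_iff G hPS]
    exact gpn p hS F G hF hG hGF H hH hctl hC hDH hD hDZ hDP hPN _
      ((mem_autGroup_iff F hPS α).mp hα)
  · push Not at hex
    have hall : ∀ D : Subgroup Ω, D ≤ P → P ≤ normalizerIn S D → D ≤ H → SmallAb p D →
        D ≤ F.center := fun D h1 h2 h3 h4 => hex D h1 h2 h3 h4
    have hone := eq_one_of_all_central p hS F hF H hH hhyp hPS hall
    -- `Aut_F(P)` is a `p`-group
    have hpg : IsPGroup p ↥(F.autGroup P) := by
      intro g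
      have hpos : orderOf (g : MulAut P) ≠ 0 := (orderOf_pos (g : MulAut P)).ne'
      obtain ⟨j, m, hm, hjm⟩ := Nat.exists_eq_pow_mul_and_not_dvd hpos p hp.out.ne_one
      refine ⟨j, ?_⟩
      have hβmem : (g : MulAut P) ^ (p ^ j) ∈ F.autGroup P := Subgroup.pow_mem _ g.2 _
      have hord : orderOf ((g : MulAut P) ^ (p ^ j)) = m := by
        rw [orderOf_pow_of_dvd (pow_ne_zero _ hp.out.ne_zero) ⟨m, hjm⟩, hjm,
          Nat.mul_div_cancel_left _ (pow_pos hp.out.pos _)]
      have hcop : (orderOf ((g : MulAut P) ^ (p ^ j))).Coprime p := by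
        rw [hord]
        exact ((Nat.Prime.coprime_iff_not_dvd hp.out).mpr hm).symm
      have := hone _ hβmem hcop
      exact Subtype.ext (by simpa using this)
    obtain ⟨-, R, hR⟩ := hFA
    have htop : (⊤ : Subgroup ↥(F.autGroup P)) = (R : Subgroup ↥(F.autGroup P)) :=
      R.is_maximal' (hpg.to_subgroup ⊤) le_top
    intro α hα
    have h1 : (⟨α, hα⟩ : ↥(F.autGroup P)) ∈ (R : Subgroup ↥(F.autGroup P)) := by
      rw [← htop]; exact Subgroup.mem_top _
    rw [hR, Subgroup.mem_subgroupOf] at h1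
    exact autInducedBy_le_autGroup G hPS h1

end Cfsg.Agent.Lib.Helper7.BGH
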