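import Mathlib
import Cfsg.Agent.Lib.Helper7.BGHg
import Cfsg.Agent.Lib.Helper7.FusionNormalizer
import Cfsg.Agent.Lib.Helper7.KNormalizerSat2
import Cfsg.Agent.Lib.Helper7.FusionHyperfocal

/-!
# Control of fusion by small-exponent abelian subgroups, part H: the induction
-/

set_option autoImplicit false

namespace Cfsg.Agent.Lib.Helper7.BGH

open Cfsg Cfsg.FusionSystem Cfsg.Agent.Lib.Helper7

theorem main_aux {Ω : Type*} [Group Ω] (p : ℕ) [Fact p.Prime] (n : ℕ) :
    ∀ (S : Subgroup Ω) (_ : Finite S) (_ : IsPGroup p S) (F G : FusionSystem S)
      (_ : F.IsSaturated p) (_ : G.IsSaturated p) (_ : G ≤ F) (H : Subgroup Ω)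
      (_ : F.StronglyClosed H) (_ : HypProp p F H) (_ : Ctl p F G H),
      2 * Nat.card S - Nat.card F.center = n → F ≤ G := by
  induction n using Nat.strong_induction_on with
  | _ n ih =>
    intro S hfin hS F G hF hG hGF H hH hhyp hctl hn
    haveI := hfin
    have hZS : F.center ≤ S := (isCentral_center F).1
    have hZcard : Nat.card F.center ≤ Nat.card S := Subgroup.card_le_of_le hZS
    have hC : ∀ D' : Subgroup Ω, D' ≤ H → SmallAb p D' → F.IsFullyCentralized D' →
        ¬ D' ≤ F.center → ∀ P : Subgroup Ω, F.centralizerHom D' P ⊆ G.centralizerHom D' P := by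
      intro D' hD'H hD' hfc hD'Z P
      have hD'S : D' ≤ S := hfc.1
      obtain ⟨CF, hCF⟩ := exists_centralizerSystem F D' hD'S
      obtain ⟨CG, hCG⟩ := exists_centralizerSystem G D' hD'S
      have hfcG : G.IsFullyCentralized D' :=
        ⟨hfc.1, fun Q ⟨ψ, hψ, hψr⟩ => hfc.2 Q ⟨ψ, hGF _ hψ, hψr⟩⟩
      have hCFsat := centralizerSystem_isSaturated p hS F hF D' hfc CF hCF
      have hCGsat := centralizerSystem_isSaturated p hS G hG D' hfcG CG hCG
      have hCle : CG ≤ CF := by
        intro Q φ hφ
        rw [hCG Q] at hφ
        rw [hCF Q]
        exact centralizerHom_mono hGF D' Q hφ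
      have hfinC : Finite ↥(centralizerIn S D') := finite_of_le inf_le_left
      have hSC : IsPGroup p ↥(centralizerIn S D') := hS.to_le inf_le_left
      have hH' := stronglyClosed_inf_centralizer hH CF hCF
      have hhyp' := hypProp_centralizer hD'S hhyp CF hCF
      have hctl' : Ctl p CF CG (H ⊓ centralizerIn S D') := by
        intro A hAH hA
        rw [hCF A, hCG A]
        exact ctl_centralizer hD'H hD' hctl A (hAH.trans inf_le_left) hA
      -- the measure decreases
      have hcen := center_sup_le_center_centralizer p hS F hF hD'S hD'.1 CF hCF hCFsat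
      have hZC : CF.center ≤ centralizerIn S D' := by
        haveI := hfinC
        exact (isCentral_center CF).1
      have hCS : centralizerIn S D' ≤ S := inf_le_left
      have h1 : Nat.card CF.center ≤ Nat.card (centralizerIn S D') := Subgroup.card_le_of_le hZC
      have h2 : Nat.card (centralizerIn S D') ≤ Nat.card S := Subgroup.card_le_of_le hCS
      have h3 : 0 < Nat.card CF.center := by
        haveI : Finite ↥CF.center := finite_of_le (hZC.trans hCS)
        exact Nat.card_pos
      have hlt : 2 * Nat.card (centralizerIn S D') - Nat.card CF.center < n := by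
        by_cases hc : Nat.card (centralizerIn S D') < Nat.card S
        · have hdvd : Nat.card (centralizerIn S D') ∣ Nat.card S := Subgroup.card_dvd_of_le hCS
          obtain ⟨k, hk⟩ := hdvd
          have hk2 : 2 ≤ k := by
            by_contra hcon
            have : k = 0 ∨ k = 1 := by omega
            rcases this with rfl | rfl
            · rw [mul_zero] at hk; omega
            · rw [mul_one] at hk; omega
          have : 2 * Nat.card (centralizerIn S D') ≤ Nat.card S := by
            rw [hk]
            nlinarith
          omega
        · have hceq : Nat.card (centralizerIn S D') = Nat.card S := by omega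
          have hlt' : F.center < F.center ⊔ D' := by
            refine lt_of_le_of_ne le_sup_left ?_
            intro heq
            exact hD'Z (heq ▸ le_sup_right)
          have hfinZ : Finite ↥CF.center := finite_of_le (hZC.trans hCS)
          have h4 : Nat.card F.center < Nat.card CF.center := by
            have h5 : Nat.card F.center < Nat.card ↥(F.center ⊔ D') := by
              haveI : Finite ↥(F.center ⊔ D') := finite_of_le (sup_le hZS hD'S)
              have hss : (F.center : Set Ω) ⊂ ((F.center ⊔ D' : Subgroup Ω) : Set Ω) :=
                SetLike.coe_ssubset_coe.mpr hlt'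
              exact Set.Finite.card_lt_card (Set.toFinite _) hss |> fun h => by
                simpa [Nat.card_coe_set_eq] using h
            exact lt_of_lt_of_le h5 (Subgroup.card_le_of_le hcen)
          omega
      have hres := ih _ hlt (centralizerIn S D') hfinC hSC CF CG hCFsat hCGsat hCle
        (H ⊓ centralizerIn S D') hH' hhyp' hctl' rfl
      rw [← hCF P, ← hCG P]
      exact hres P
    exact alperin_goldschmidt p hS F hF G
      (fun P hP => autGroup_le_of_ctl p hS F G hF hG hGF H hH hhyp hctl hC P hP)

/-- **Theorem B relative to a strongly closed subgroup `H`.** -/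
theorem main {Ω : Type*} [Group Ω] {S : Subgroup Ω} [hfin : Finite S] (p : ℕ) [Fact p.Prime]
    (hS : IsPGroup p S) (F G : FusionSystem S) (hF : F.IsSaturated p) (hG : G.IsSaturated p)
    (hGF : G ≤ F) (H : Subgroup Ω) (hH : F.StronglyClosed H) (hhyp : HypProp p F H)
    (hctl : Ctl p F G H) : F ≤ G :=
  main_aux p _ S hfin hS F G hF hG hGF H hH hhyp hctl rfl

end Cfsg.Agent.Lib.Helper7.BGH
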