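import Mathlib
import Cfsg.Agent.Lib.Helper7.BGHh

/-!
# Control of fusion by small-exponent abelian subgroups, part I: the two statements
-/

set_option autoImplicit false

namespace Cfsg.Agent.Lib.Helper7.BGH

open Cfsg Cfsg.FusionSystem Cfsg.Agent.Lib.Helper7

variable {Ω : Type*} [Group Ω] {S : Subgroup Ω}

theorem ctl_of_homSet {p : ℕ} (F E : FusionSystem S) (H : Subgroup Ω) (hH : F.StronglyClosed H)
    (hodd : p ≠ 2 → ∀ A B : Subgroup Ω, A ≤ H → B ≤ H → IsElementaryAbelian p A →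
      IsElementaryAbelian p B → E.homSet A B = F.homSet A B)
    (htwo : p = 2 → ∀ A B : Subgroup Ω, A ≤ H → B ≤ H → IsMulCommutative ↥A →
      IsMulCommutative ↥B → (∀ a ∈ A, a ^ 4 = 1) → (∀ b ∈ B, b ^ 4 = 1) →
      E.homSet A B = F.homSet A B) : Ctl p F E H := by
  intro A hAH hA φ hφ
  have hBH : φ.range ≤ H := by
    rintro _ ⟨x, rfl⟩
    exact hH.2 A hAH φ hφ x
  have hB : SmallAb p φ.range := smallAb_range hA φ
  have hmem : φ ∈ F.homSet A φ.range := ⟨hφ, fun x => ⟨x, rfl⟩⟩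
  by_cases hp : p = 2
  · have heq := htwo hp A φ.range hAH hBH hA.1 hB.1 (hA.two hp) (hB.two hp)
    rw [← heq] at hmem
    exact hmem.1
  · have heq := hodd hp A φ.range hAH hBH (hA.elementary hp) (hB.elementary hp)
    rw [← heq] at hmem
    exact hmem.1

theorem stronglyClosed_top (F : FusionSystem S) : F.StronglyClosed S :=
  ⟨le_rfl, fun _ _ _ hφ x => (F.le_of_mem hφ).2 x⟩

theorem hypProp_top (p : ℕ) (F : FusionSystem S) : HypProp p F S := by
  intro P β hPS _ _ x
  exact Subgroup.mul_mem _ (Subgroup.inv_mem _ (hPS x.2)) (hPS (β x).2)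

theorem hypProp_hyperfocal (p : ℕ) (F : FusionSystem S) : HypProp p F (F.hyperfocalSubgroup p) := by
  intro P β hPS hβ hcop x
  refine Subgroup.subset_closure ⟨P, ⟨β, hβ⟩, x, hPS, ?_, rfl⟩
  refine Subgroup.subset_closure ?_
  show (orderOf (⟨β, hβ⟩ : ↥(F.autGroup P))).Coprime p
  rw [Subgroup.orderOf_mk]
  exact hcop

end Cfsg.Agent.Lib.Helper7.BGH
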