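import Mathlib
import Cfsg.Prelude.Def_Characters
import Cfsg.Agent.Lib.helper3.Pf4e
import Cfsg.Agent.Lib.helper3.NormTwo
import Cfsg.Agent.Lib.helper3.GenChar
import Cfsg.Agent.Lib.helper3.Irr11
import Cfsg.Agent.Lib.Helper7.BrP1

set_option autoImplicit false
set_option linter.style.haveILetI false
set_option linter.unusedSectionVars false

/-!
# Exceptional characters for an abelian trivial-intersection subgroup: the abstract core

A variant of `BrP.core` returning the whole family of exceptional characters.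
-/

namespace Cfsg.Agent.Lib.Helper7.ExcA

open Cfsg Cfsg.Agent.Lib.helper3.Irr Cfsg.Agent.Lib.helper3.CharBasic
open Cfsg.Agent.Lib.helper3.IndFun Cfsg.Agent.Lib.Helper7.BrP
open scoped ComplexConjugate

variable {G : Type*} [Group G] [Fintype G]

theorem core2 {ι : Type*} [Fintype ι] [DecidableEq ι] (i₀ : ι) (e : ℕ)
    (Ξ : ι → (G → ℂ)) (hgen : ∀ i, IsGeneralizedCharacter G (Ξ i)) (hone : ∀ i, Ξ i 1 = 0)
    (hgram : ∀ i j, classInner (Ξ i) (Ξ j) = if i = j then (e : ℂ) + 1 else e)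
    (htriv : ∀ i, classInner (Ξ i) (fun _ => 1) = 1)
    (hcard : e + 2 ≤ Fintype.card ι) :
    ∃ (ε : ℤ) (M : ι → IrrCharacter G),
      (ε = 1 ∨ ε = -1) ∧ Function.Injective M ∧ (∀ i, M i ≠ trivIrr G) ∧
      (∀ i j, classInner (Ξ i) (M j : G → ℂ) = if i = j then -(ε : ℂ) else 0) ∧
      (∀ i j, Ξ i - Ξ j = (ε : ℂ) • ((M j : G → ℂ) - (M i : G → ℂ))) := by
  classical
  -- the differences
  obtain ⟨τ, hτ⟩ : ∃ τ : ι → (G → ℂ), ∀ i, τ i = Ξ i₀ - Ξ i := ⟨fun i => Ξ i₀ - Ξ i, fun _ => rfl⟩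
  have h0 : τ i₀ = 0 := by rw [hτ, sub_self]
  have hτgen : ∀ i, IsGeneralizedCharacter G (τ i) := fun i => by
    rw [hτ]; exact Cfsg.Agent.Lib.helper3.GenChar.sub (hgen i₀) (hgen i)
  have hτone : ∀ i, τ i 1 = 0 := fun i => by
    rw [hτ, Pi.sub_apply, hone, hone, sub_zero]
  have hτgram : ∀ i j, i ≠ i₀ → j ≠ i₀ → classInner (τ i) (τ j) = if i = j then 2 else 1 := by
    intro i j hi hj
    rw [hτ, hτ, classInner_sub_left, classInner_sub_right, classInner_sub_right,
      hgram, hgram, hgram, hgram, if_pos rfl, if_neg (Ne.symm hj), if_neg hi]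
    by_cases hij : i = j
    · rw [if_pos hij, if_pos hij]; ring
    · rw [if_neg hij, if_neg hij]; ring
  obtain ⟨εc, hεc, μ, hμ, hinj, hτμ⟩ :=
    Cfsg.Agent.Lib.helper3.Pf4.exceptional_isometry' i₀ τ h0 hτgen hτone hτgram
  obtain ⟨ε, hε, rfl⟩ := intCast_eq_one_or hεc
  have hεsq : ε * ε = 1 := by rcases hε with h | h <;> rw [h] <;> norm_num
  obtain ⟨z, hz⟩ := exists_int_decomposition (hgen i₀)
  have hzin : ∀ ψ : IrrCharacter G, classInner (Ξ i₀) (ψ : G → ℂ) = z ψ := by
    intro ψ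
    conv_lhs => rw [hz]
    exact classInner_decomposition_left (fun ψ => (z ψ : ℂ)) ψ
  have hzconj : ∀ ψ : IrrCharacter G, classInner (ψ : G → ℂ) (Ξ i₀) = z ψ := by
    intro ψ
    rw [← classInner_conj_symm, hzin, map_intCast]
  -- norm
  have hnorm : ∑ ψ : IrrCharacter G, z ψ ^ 2 = (e : ℤ) + 1 := by
    have h1 := hgram i₀ i₀
    rw [if_pos rfl] at h1
    conv_lhs at h1 => rw [hz]
    rw [classInner_int_decomposition] at h1
    have h2 : ((∑ ψ : IrrCharacter G, z ψ * z ψ : ℤ) : ℂ) = (((e : ℤ) + 1 : ℤ) : ℂ) := by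
      rw [h1]; push_cast; ring
    have h3 := Int.cast_injective h2
    rw [← h3]
    apply Finset.sum_congr rfl
    intro ψ _
    ring
  have hztriv : z (trivIrr G) = 1 := by
    have h1 := htriv i₀
    have h2 := hzin (trivIrr G)
    have h3 : ((trivIrr G : IrrCharacter G) : G → ℂ) = fun _ => 1 := rfl
    rw [h3, h1] at h2
    have h4 : ((1 : ℤ) : ℂ) = (z (trivIrr G) : ℂ) := by rw [← h2]; simp
    exact (Int.cast_injective h4).symm
  -- the exceptional characters
  obtain ⟨M, hM⟩ : ∃ M : ι → IrrCharacter G, ∀ i, (M i : G → ℂ) = μ i :=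
    ⟨fun i => ⟨μ i, hμ i⟩, fun _ => rfl⟩
  have hMinj : Function.Injective M := by
    intro i j hij
    apply hinj
    rw [← hM, ← hM, hij]
  have hinner : ∀ (i : ι) (ψ : IrrCharacter G), classInner (Ξ i₀) (ψ : G → ℂ) -
      classInner (Ξ i) (ψ : G → ℂ) = (ε : ℂ) * ((if M i = ψ then 1 else 0) -
        (if M i₀ = ψ then 1 else 0)) := by
    intro i ψ
    rw [← classInner_sub_left, ← hτ, hτμ, classInner_smul_left, classInner_sub_left, ← hM, ← hM,
      irr_classInner_eq (M i).2 ψ.2, irr_classInner_eq (M i₀).2 ψ.2]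
    have e1 : ((M i : G → ℂ) = (ψ : G → ℂ)) ↔ M i = ψ := Subtype.ext_iff.symm
    have e2 : ((M i₀ : G → ℂ) = (ψ : G → ℂ)) ↔ M i₀ = ψ := Subtype.ext_iff.symm
    simp only [e1, e2]
  -- coefficients of the exceptional characters
  have hza : ∀ i, i ≠ i₀ → z (M i) = z (M i₀) + ε := by
    intro i hi
    have h1 : classInner (τ i) (Ξ i₀) = 1 := by
      rw [hτ, classInner_sub_left, hgram, hgram, if_pos rfl, if_neg hi]; ring
    rw [hτμ, classInner_smul_left, classInner_sub_left, ← hM, ← hM, hzconj, hzconj] at h1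
    have h2 : ((ε * (z (M i) - z (M i₀)) : ℤ) : ℂ) = ((1 : ℤ) : ℂ) := by
      push_cast; rw [h1]
    have h3 := Int.cast_injective h2
    have h4 : ε * (ε * (z (M i) - z (M i₀))) = ε * 1 := by rw [h3]
    rw [← mul_assoc, hεsq] at h4
    linarith
  -- there is a second index
  have hex : ∃ i₁, i₁ ≠ i₀ := by
    by_contra hne
    push Not at hne
    have : Fintype.card ι ≤ 1 := Fintype.card_le_one_iff.mpr (fun a b => by rw [hne a, hne b])
    omega
  obtain ⟨i₁, hi₁⟩ := hex
  have hMtriv : ∀ i, M i ≠ trivIrr G := by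
    have key : ∀ i, (if M i = trivIrr G then (1 : ℂ) else 0) =
        (if M i₀ = trivIrr G then 1 else 0) := by
      intro i
      have h1 := hinner i (trivIrr G)
      have h3 : ((trivIrr G : IrrCharacter G) : G → ℂ) = fun _ => 1 := rfl
      rw [h3, htriv, htriv, sub_self] at h1
      have hεne : (ε : ℂ) ≠ 0 := by
        rcases hε with h | h <;> rw [h] <;> norm_num
      have := (mul_eq_zero.mp h1.symm).resolve_left hεne
      linear_combination this
    have h00 : M i₀ ≠ trivIrr G := by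
      intro h
      have := key i₁
      rw [if_pos h] at this
      by_cases h' : M i₁ = trivIrr G
      · exact hi₁ (hMinj (h'.trans h.symm))
      · rw [if_neg h'] at this
        exact zero_ne_one this
    intro i h
    have := key i
    rw [if_pos h, if_neg h00] at this
    exact one_ne_zero this
  -- the norm estimate
  obtain ⟨a, ha⟩ : ∃ a : ℤ, a = z (M i₀) := ⟨_, rfl⟩
  have hsumM : ∑ i : ι, z (M i) ^ 2 = a ^ 2 + ((Fintype.card ι : ℤ) - 1) * (a + ε) ^ 2 := by
    rw [← Finset.add_sum_erase Finset.univ _ (Finset.mem_univ i₀), ← ha]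
    congr 1
    have : ∀ i ∈ Finset.univ.erase i₀, z (M i) ^ 2 = (a + ε) ^ 2 := by
      intro i hi
      rw [hza i (Finset.ne_of_mem_erase hi), ← ha]
    rw [Finset.sum_congr rfl this, Finset.sum_const, Finset.card_erase_of_mem (Finset.mem_univ i₀),
      Finset.card_univ, nsmul_eq_mul]
    have : 1 ≤ Fintype.card ι := by omega
    push_cast [this]
    ring
  have hlower : 1 + ∑ i : ι, z (M i) ^ 2 ≤ ∑ ψ : IrrCharacter G, z ψ ^ 2 := by
    have h1 : ∑ ψ ∈ insert (trivIrr G) (Finset.univ.image M), z ψ ^ 2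
        ≤ ∑ ψ : IrrCharacter G, z ψ ^ 2 :=
      Finset.sum_le_sum_of_subset_of_nonneg (Finset.subset_univ _) (fun _ _ _ => sq_nonneg _)
    have hnot : trivIrr G ∉ Finset.univ.image M := by
      intro h
      obtain ⟨i, _, hi⟩ := Finset.mem_image.mp h
      exact hMtriv i hi
    rw [Finset.sum_insert hnot, Finset.sum_image (fun i _ j _ h => hMinj h), hztriv] at h1
    linarith
  have haε : a + ε = 0 := by
    by_contra hne
    have h1 : 1 ≤ (a + ε) ^ 2 := by
      have : 0 < (a + ε) ^ 2 := by positivity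
      omega
    have h2 : (e : ℤ) + 1 ≤ (Fintype.card ι : ℤ) - 1 := by
      have : (e : ℤ) + 2 ≤ (Fintype.card ι : ℤ) := by exact_mod_cast hcard
      linarith
    have h3 : ((e : ℤ) + 1) * 1 ≤ ((Fintype.card ι : ℤ) - 1) * (a + ε) ^ 2 := by
      apply mul_le_mul h2 h1 (by norm_num)
      linarith [Int.natCast_nonneg e]
    have h4 : 0 ≤ a ^ 2 := sq_nonneg a
    rw [hsumM, hnorm] at hlower
    linarith
  have hzM : ∀ i, i ≠ i₀ → z (M i) = 0 := by
    intro i hi
    rw [hza i hi, ← ha, haε]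
  have hzM0 : z (M i₀) = -ε := by rw [← ha]; linarith
  refine ⟨ε, M, hε, hMinj, hMtriv, ?_, ?_⟩
  · intro i j
    have h1 := hinner i (M j)
    rw [hzin] at h1
    have h2 : classInner (Ξ i) (M j : G → ℂ) = (z (M j) : ℂ) -
        (ε : ℂ) * ((if M i = M j then 1 else 0) - (if M i₀ = M j then 1 else 0)) := by
      linear_combination -h1
    rw [h2]
    by_cases hj0 : j = i₀
    · subst hj0
      rw [hzM0, if_pos rfl]
      by_cases hij : i = j
      · subst hij
        rw [if_pos rfl, if_pos rfl]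
        push_cast
        ring
      · rw [if_neg (fun h => hij (hMinj h)), if_neg hij]
        push_cast
        ring
    · rw [hzM j hj0, if_neg (fun h => hj0 (hMinj h).symm)]
      by_cases hij : i = j
      · subst hij
        rw [if_pos rfl, if_pos rfl]
        push_cast
        ring
      · rw [if_neg (fun h => hij (hMinj h)), if_neg hij]
        push_cast
        ring
  · intro i j
    have hi := hτμ i
    have hj := hτμ j
    rw [hτ] at hi hj
    simp only [← hM] at hi hj
    have h3 : Ξ i - Ξ j = (Ξ i₀ - Ξ j) - (Ξ i₀ - Ξ i) := by abel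
    rw [h3, hi, hj, ← smul_sub]
    congr 1
    abel

/-- A generalized character of small norm having the same inner product with all members of a large
family of irreducible characters is orthogonal to the family. -/
theorem extra_zero {ι : Type*} [Fintype ι] (e : ℕ) (M : ι → IrrCharacter G)
    (hM : Function.Injective M) (Y : G → ℂ) (hY : IsGeneralizedCharacter G Y)
    (hconst : ∀ i j, classInner Y (M i : G → ℂ) = classInner Y (M j : G → ℂ))
    (hnorm : (classInner Y Y).re ≤ 2 * (e : ℝ))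
    (hcard : 2 * e < Fintype.card ι) : ∀ i, classInner Y (M i : G → ℂ) = 0 := by
  classical
  obtain ⟨z, hz⟩ := exists_int_decomposition hY
  have hzin : ∀ ψ : IrrCharacter G, classInner Y (ψ : G → ℂ) = z ψ := by
    intro ψ
    conv_lhs => rw [hz]
    exact classInner_decomposition_left (fun ψ => (z ψ : ℂ)) ψ
  have hsum : ∑ ψ : IrrCharacter G, z ψ ^ 2 ≤ 2 * (e : ℤ) := by
    have h1 : classInner Y Y = ((∑ ψ : IrrCharacter G, z ψ * z ψ : ℤ) : ℂ) := by
      conv_lhs => rw [hz]
      rw [classInner_int_decomposition]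
    rw [h1] at hnorm
    have h2 : ((∑ ψ : IrrCharacter G, z ψ * z ψ : ℤ) : ℝ) ≤ 2 * (e : ℝ) := by
      have : (((∑ ψ : IrrCharacter G, z ψ * z ψ : ℤ) : ℂ)).re
          = ((∑ ψ : IrrCharacter G, z ψ * z ψ : ℤ) : ℝ) := by
        simp
      rw [this] at hnorm
      exact hnorm
    have h3 : (∑ ψ : IrrCharacter G, z ψ * z ψ : ℤ) ≤ 2 * (e : ℤ) := by exact_mod_cast h2
    calc ∑ ψ : IrrCharacter G, z ψ ^ 2 = ∑ ψ : IrrCharacter G, z ψ * z ψ :=
          Finset.sum_congr rfl (fun ψ _ => by ring)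
      _ ≤ 2 * (e : ℤ) := h3
  intro i
  rw [hzin]
  have hzconst : ∀ j, z (M j) = z (M i) := by
    intro j
    have h1 := hconst j i
    rw [hzin, hzin] at h1
    exact_mod_cast h1
  by_contra hne
  have hne' : z (M i) ≠ 0 := by
    intro h
    apply hne
    rw [h]
    simp
  have h1 : 1 ≤ z (M i) ^ 2 := by
    have : 0 < z (M i) ^ 2 := by positivity
    omega
  have h2 : ∑ j : ι, z (M j) ^ 2 ≤ ∑ ψ : IrrCharacter G, z ψ ^ 2 := by
    rw [← Finset.sum_image (s := Finset.univ) (g := M) (f := fun ψ => z ψ ^ 2)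
      (fun a _ b _ h => hM h)]
    exact Finset.sum_le_sum_of_subset_of_nonneg (Finset.subset_univ _) (fun _ _ _ => sq_nonneg _)
  have h3 : ∑ j : ι, z (M j) ^ 2 = (Fintype.card ι : ℤ) * z (M i) ^ 2 := by
    rw [Finset.sum_congr rfl (fun j _ => by rw [hzconst j]), Finset.sum_const, Finset.card_univ,
      nsmul_eq_mul]
  rw [h3] at h2
  have h4 : (Fintype.card ι : ℤ) ≤ (Fintype.card ι : ℤ) * z (M i) ^ 2 := by
    nlinarith [Int.natCast_nonneg (Fintype.card ι)]
  have h6 : 2 * (e : ℤ) < (Fintype.card ι : ℤ) := by exact_mod_cast hcard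
  linarith

end Cfsg.Agent.Lib.Helper7.ExcA
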