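import Mathlib
import Cfsg.Prelude.Def_Characters
import Cfsg.Agent.Lib.helper3.Pf4e
import Cfsg.Agent.Lib.Helper7.BrP3
import Cfsg.Agent.Lib.Helper7.BrP4

set_option autoImplicit false
set_option linter.style.haveILetI false
set_option linter.unusedSectionVars false

/-!
# Exceptional characters for an abelian trivial-intersection subgroup: the action on the dual

`A` is an abelian trivial-intersection subgroup of `G`, and `R ≤ A` is a subgroup normalized by
`N_G(A)` all of whose nonidentity elements have their centralizer inside `A`.  The family consists of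
the linear characters of `A` which are nontrivial on `R`.
-/

namespace Cfsg.Agent.Lib.Helper7.ExcA

open Cfsg Cfsg.Agent.Lib.helper3.Irr Cfsg.Agent.Lib.helper3.CharBasic
open Cfsg.Agent.Lib.helper3.IndFun Cfsg.Agent.Lib.helper3.CycTI Cfsg.Agent.Lib.Helper7.BrP
open scoped ComplexConjugate

variable {G : Type*} [Group G] (A R : Subgroup G)

/-- The standing hypotheses. -/
structure Hyp (A R : Subgroup G) : Prop where
  le : R ≤ A
  comm : ∀ a ∈ A, ∀ b ∈ A, a * b = b * a
  ti : ∀ x ∈ A, x ≠ 1 → ∀ g : G, g⁻¹ * x * g ∈ A → g ∈ Subgroup.normalizer (A : Set G)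
  norm : ∀ n ∈ Subgroup.normalizer (A : Set G), ∀ y ∈ R, n * y * n⁻¹ ∈ R
  cent : ∀ y ∈ R, y ≠ 1 → ∀ g : G, g * y = y * g → g ∈ A

/-- The family: linear characters of `A` which are nontrivial on `R`. -/
def IsFam (ω : A →* ℂˣ) : Prop := ∃ y : A, (y : G) ∈ R ∧ ω y ≠ 1

variable {A R}

theorem IsFam.ne_one {ω : A →* ℂˣ} (h : IsFam A R ω) : ω ≠ 1 := by
  rintro rfl
  obtain ⟨y, -, hy⟩ := h
  exact hy rfl

theorem coe_smul' (n : Subgroup.normalizer (A : Set G)) (x : A) :
    ((n • x : A) : G) = (n : G) * x * (n : G)⁻¹ := rfl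

theorem isFam_cj (h : Hyp A R) (n : Subgroup.normalizer (A : Set G)) {ω : A →* ℂˣ}
    (hω : IsFam A R ω) : IsFam A R (cj A n ω) := by
  obtain ⟨y, hyR, hy⟩ := hω
  refine ⟨n • y, ?_, ?_⟩
  · rw [coe_smul']
    exact h.norm n n.2 y hyR
  · rw [cj_apply, inv_smul_smul]
    exact hy

theorem isFam_cj_iff (h : Hyp A R) (n : Subgroup.normalizer (A : Set G)) {ω : A →* ℂˣ} :
    IsFam A R (cj A n ω) ↔ IsFam A R ω := by
  constructor
  · intro hc
    have := isFam_cj h n⁻¹ hc
    rwa [← cj_mul, inv_mul_cancel, cj_one_left] at this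
  · exact isFam_cj h n

/-- Elements of `A` fix every linear character of `A`. -/
theorem cj_of_mem (h : Hyp A R) (n : Subgroup.normalizer (A : Set G)) (hn : (n : G) ∈ A)
    (ω : A →* ℂˣ) : cj A n ω = ω := by
  ext x
  rw [cj_apply]
  congr 2
  apply Subtype.ext
  rw [coe_inv_smul, mul_assoc, h.comm x x.2 n hn, ← mul_assoc, inv_mul_cancel, one_mul]

/-- The stabilizer of a member of the family is `A`. -/
theorem stab [Finite G] (h : Hyp A R) (n : Subgroup.normalizer (A : Set G)) {ω : A →* ℂˣ}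
    (hω : IsFam A R ω) (hfix : cj A n ω = ω) : (n : G) ∈ A := by
  by_contra hn
  have hfix' : ∀ x : A, ω (n • x) = ω x := by
    intro x
    have := congrArg (fun φ : A →* ℂˣ => φ (n • x)) hfix
    simp only [cj_apply, inv_smul_smul] at this
    exact this.symm
  -- the map `y ↦ (n • y) * y⁻¹` on `R`
  have hmem : ∀ y : A, (y : G) ∈ R → (((n • y) * y⁻¹ : A) : G) ∈ R := by
    intro y hy
    have h1 : ((n • y : A) : G) ∈ R := by
      rw [coe_smul']; exact h.norm n n.2 y hy
    have : (((n • y) * y⁻¹ : A) : G) = ((n • y : A) : G) * (y : G)⁻¹ := rfl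
    rw [this]
    exact R.mul_mem h1 (R.inv_mem hy)
  obtain ⟨f, hf⟩ : ∃ f : {y : A // (y : G) ∈ R} → {y : A // (y : G) ∈ R},
      ∀ y, (f y).1 = (n • y.1) * y.1⁻¹ :=
    ⟨fun y => ⟨(n • y.1) * y.1⁻¹, hmem y.1 y.2⟩, fun _ => rfl⟩
  have hc : ∀ a b : A, a * b = b * a := fun a b => Subtype.ext (h.comm a a.2 b b.2)
  have hinj : Function.Injective f := by
    intro y y' hyy
    have h1 : (n • y.1) * y.1⁻¹ = (n • y'.1) * y'.1⁻¹ := by
      rw [← hf, ← hf, hyy]
    have h2 : n • (y'.1⁻¹ * y.1) = y'.1⁻¹ * y.1 := by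
      rw [smul_mul', smul_inv']
      have e1 : (n • y.1) = (n • y'.1) * y'.1⁻¹ * y.1 := by
        rw [← h1]; group
      rw [e1]
      group
    by_contra hne
    have hz1 : y'.1⁻¹ * y.1 ≠ 1 := by
      intro hz
      apply hne
      apply Subtype.ext
      have : y.1 = y'.1 * (y'.1⁻¹ * y.1) := by group
      rw [this, hz, mul_one]
    have hzR : ((y'.1⁻¹ * y.1 : A) : G) ∈ R := R.mul_mem (R.inv_mem y'.2) y.2
    have hz1' : ((y'.1⁻¹ * y.1 : A) : G) ≠ 1 := fun e => hz1 (Subtype.ext e)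
    apply hn
    apply h.cent _ hzR hz1'
    have e2 := congrArg Subtype.val h2
    rw [coe_smul'] at e2
    calc (n : G) * ((y'.1⁻¹ * y.1 : A) : G)
        = (n : G) * ((y'.1⁻¹ * y.1 : A) : G) * (n : G)⁻¹ * (n : G) := by group
      _ = ((y'.1⁻¹ * y.1 : A) : G) * (n : G) := by rw [e2]
  haveI : Finite {y : A // (y : G) ∈ R} := Subtype.finite
  have hsurj : Function.Surjective f := Finite.injective_iff_surjective.1 hinj
  obtain ⟨z, hzR, hz⟩ := hω
  apply hz
  obtain ⟨y, hy⟩ := hsurj ⟨z, hzR⟩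
  have h3 : z = (n • y.1) * y.1⁻¹ := by
    rw [← hf, hy]
  rw [h3, map_mul, map_inv, hfix', mul_inv_cancel]

/-- The number of elements of the normalizer carrying `ω'` to `ω` is `|A|` or `0`. -/
theorem card_fiber [Finite G] (h : Hyp A R) {ω ω' : A →* ℂˣ} (hω' : IsFam A R ω')
    (n₀ : Subgroup.normalizer (A : Set G)) (hn₀ : ω = cj A n₀ ω') :
    Nat.card {n : Subgroup.normalizer (A : Set G) // ω = cj A n ω'} = Nat.card A := by
  have e1 : {n : Subgroup.normalizer (A : Set G) // ω = cj A n ω'} ≃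
      {n : Subgroup.normalizer (A : Set G) // (n : G) ∈ A} :=
    { toFun := fun n => ⟨n₀⁻¹ * n.1, by
        apply stab h _ hω'
        rw [cj_mul, ← n.2, hn₀, ← cj_mul, inv_mul_cancel, cj_one_left]⟩
      invFun := fun m => ⟨n₀ * m.1, by
        rw [cj_mul, cj_of_mem h m.1 m.2, hn₀]⟩
      left_inv := fun n => by simp
      right_inv := fun m => by simp }
  have e2 : {n : Subgroup.normalizer (A : Set G) // (n : G) ∈ A} ≃ A :=
    { toFun := fun n => ⟨n.1, n.2⟩
      invFun := fun x => ⟨⟨x, Subgroup.le_normalizer x.2⟩, x.2⟩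
      left_inv := fun n => rfl
      right_inv := fun x => rfl }
  rw [Nat.card_congr (e1.trans e2)]

section gram

variable [Fintype G] [Fintype A]

/-- The Gram matrix on the family. -/
theorem gram_fam (h : Hyp A R) (e : ℕ)
    (hN : Nat.card (Subgroup.normalizer (A : Set G)) = Nat.card A * e)
    {ω ω' : A →* ℂˣ} (hω : IsFam A R ω) (hω' : IsFam A R ω') :
    (∀ n₀ : Subgroup.normalizer (A : Set G), ω = cj A n₀ ω' →
      classInner (Xi A ω) (Xi A ω') = (e : ℂ) + 1) ∧
    ((∀ n₀ : Subgroup.normalizer (A : Set G), ω ≠ cj A n₀ ω') →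
      classInner (Xi A ω) (Xi A ω') = (e : ℂ)) := by
  have ha0 : (Nat.card A : ℂ) ≠ 0 := by
    exact_mod_cast Nat.card_pos.ne'
  have hg := gram A h.ti ω ω' hω.ne_one hω'.ne_one
  rw [hN] at hg
  constructor
  · intro n₀ hn₀
    unfold Xi
    rw [hg, card_fiber h hω' n₀ hn₀]
    push_cast
    field_simp
  · intro hne
    haveI : IsEmpty {n : Subgroup.normalizer (A : Set G) // ω = cj A n ω'} :=
      ⟨fun n => hne n.1 n.2⟩
    have hz : Nat.card {n : Subgroup.normalizer (A : Set G) // ω = cj A n ω'} = 0 :=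
      Nat.card_of_isEmpty
    unfold Xi
    rw [hg, hz]
    push_cast
    field_simp
    ring

/-- The Gram entries between the family and the remaining nontrivial characters. -/
theorem gram_mixed (h : Hyp A R) (e : ℕ)
    (hN : Nat.card (Subgroup.normalizer (A : Set G)) = Nat.card A * e)
    {β ω : A →* ℂˣ} (hβ : β ≠ 1) (hβ' : ¬ IsFam A R β) (hω : IsFam A R ω) :
    classInner (Xi A β) (Xi A ω) = (e : ℂ) := by
  have ha0 : (Nat.card A : ℂ) ≠ 0 := by
    exact_mod_cast Nat.card_pos.ne'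
  have hg := gram A h.ti β ω hβ hω.ne_one
  rw [hN] at hg
  haveI : IsEmpty {n : Subgroup.normalizer (A : Set G) // β = cj A n ω} :=
    ⟨fun n => hβ' (by rw [n.2]; exact isFam_cj h n.1 hω)⟩
  have hz : Nat.card {n : Subgroup.normalizer (A : Set G) // β = cj A n ω} = 0 :=
    Nat.card_of_isEmpty
  unfold Xi
  rw [hg, hz]
  push_cast
  field_simp
  ring

/-- The norms of the remaining functions are at most `2e`. -/
theorem gram_self_le (h : Hyp A R) (e : ℕ)
    (hN : Nat.card (Subgroup.normalizer (A : Set G)) = Nat.card A * e)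
    {β : A →* ℂˣ} (hβ : β ≠ 1) :
    (classInner (Xi A β) (Xi A β)).re ≤ 2 * (e : ℝ) := by
  have ha0 : (0 : ℝ) < (Nat.card A : ℝ) := by
    exact_mod_cast Nat.card_pos
  have hg := gram A h.ti β β hβ hβ
  unfold Xi
  rw [hg]
  have hle : Nat.card {n : Subgroup.normalizer (A : Set G) // β = cj A n β}
      ≤ Nat.card (Subgroup.normalizer (A : Set G)) :=
    Nat.card_le_card_of_injective _ Subtype.val_injective
  have h1 : ((Nat.card A : ℂ)⁻¹ * ((Nat.card (Subgroup.normalizer (A : Set G)) : ℂ) +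
      (Nat.card {n : Subgroup.normalizer (A : Set G) // β = cj A n β} : ℂ))).re
      = (Nat.card A : ℝ)⁻¹ * ((Nat.card (Subgroup.normalizer (A : Set G)) : ℝ) +
      (Nat.card {n : Subgroup.normalizer (A : Set G) // β = cj A n β} : ℝ)) := by
    have : ((Nat.card A : ℂ)⁻¹ * ((Nat.card (Subgroup.normalizer (A : Set G)) : ℂ) +
      (Nat.card {n : Subgroup.normalizer (A : Set G) // β = cj A n β} : ℂ)))
      = (((Nat.card A : ℝ)⁻¹ * ((Nat.card (Subgroup.normalizer (A : Set G)) : ℝ) +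
      (Nat.card {n : Subgroup.normalizer (A : Set G) // β = cj A n β} : ℝ)) : ℝ) : ℂ) := by
      push_cast
      ring
    rw [this, Complex.ofReal_re]
  rw [h1]
  have h2 : (Nat.card {n : Subgroup.normalizer (A : Set G) // β = cj A n β} : ℝ)
      ≤ (Nat.card (Subgroup.normalizer (A : Set G)) : ℝ) := by exact_mod_cast hle
  have h3 : (Nat.card (Subgroup.normalizer (A : Set G)) : ℝ) = (Nat.card A : ℝ) * (e : ℝ) := by
    exact_mod_cast hN
  rw [h3] at h2 ⊢
  rw [inv_mul_le_iff₀ ha0]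
  nlinarith

end gram

end Cfsg.Agent.Lib.Helper7.ExcA
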