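import Mathlib
import Cfsg.Prelude.Def_Characters
import Cfsg.Agent.Lib.Helper7.ExcA2

set_option autoImplicit false
set_option linter.style.haveILetI false
set_option linter.unusedSectionVars false

/-!
# Exceptional characters for an abelian trivial-intersection subgroup: orbits on the family
-/

namespace Cfsg.Agent.Lib.Helper7.ExcA

open Cfsg Cfsg.Agent.Lib.helper3.Irr Cfsg.Agent.Lib.helper3.CharBasic
open Cfsg.Agent.Lib.helper3.IndFun Cfsg.Agent.Lib.helper3.CycTI Cfsg.Agent.Lib.Helper7.BrP
open scoped ComplexConjugate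

variable {G : Type*} [Group G] (A R : Subgroup G)

/-- The orbit relation on the family. -/
def famSetoid : Setoid {ω : A →* ℂˣ // IsFam A R ω} where
  r a b := ∃ n : Subgroup.normalizer (A : Set G), a.1 = cj A n b.1
  iseqv :=
    ⟨fun a => ⟨1, (cj_one_left A _).symm⟩,
     fun {a b} ⟨n, hn⟩ => ⟨n⁻¹, by rw [hn, ← cj_mul, inv_mul_cancel, cj_one_left]⟩,
     fun {a b c} ⟨n, hn⟩ ⟨m, hm⟩ => ⟨n * m, by rw [cj_mul, ← hm, hn]⟩⟩

theorem famSetoid_r (a b : {ω : A →* ℂˣ // IsFam A R ω}) :
    (famSetoid A R).r a b ↔ ∃ n : Subgroup.normalizer (A : Set G), a.1 = cj A n b.1 := Iff.rfl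

variable {A R}

open Classical in
/-- Summing over the normalizer is `|A|` times summing over the orbit. -/
theorem sum_cj [Finite G] (h : Hyp A R) {ω : A →* ℂˣ} (hω : IsFam A R ω)
    (F : (A →* ℂˣ) → ℂ) [Fintype (Subgroup.normalizer (A : Set G))] [Fintype (A →* ℂˣ)] :
    ∑ n : Subgroup.normalizer (A : Set G), F (cj A n ω)
      = (Nat.card A : ℂ) * ∑ ω' : A →* ℂˣ,
          if (∃ n : Subgroup.normalizer (A : Set G), ω' = cj A n ω) then F ω' else 0 := by
  classical
  rw [← Finset.sum_fiberwise (s := Finset.univ) (g := fun n => cj A n ω)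
    (f := fun n => F (cj A n ω)), Finset.mul_sum]
  apply Finset.sum_congr rfl
  intro ω' _
  have h1 : ∑ n ∈ Finset.univ.filter (fun n : Subgroup.normalizer (A : Set G) => cj A n ω = ω'),
      F (cj A n ω) = ∑ n ∈ Finset.univ.filter
        (fun n : Subgroup.normalizer (A : Set G) => cj A n ω = ω'), F ω' := by
    apply Finset.sum_congr rfl
    intro n hn
    rw [(Finset.mem_filter.mp hn).2]
  rw [h1, Finset.sum_const, nsmul_eq_mul]
  by_cases hex : ∃ n : Subgroup.normalizer (A : Set G), ω' = cj A n ω
  · rw [if_pos hex]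
    obtain ⟨n₀, hn₀⟩ := hex
    have h2 := card_fiber h hω n₀ hn₀
    rw [Nat.card_eq_fintype_card, Fintype.card_subtype] at h2
    have h3 : (Finset.univ.filter (fun n : Subgroup.normalizer (A : Set G) => cj A n ω = ω')).card
        = Nat.card A := by
      rw [← h2]
      congr 1
      ext n
      simp only [Finset.mem_filter, Finset.mem_univ, true_and]
      exact eq_comm
    rw [h3]
  · rw [if_neg hex, mul_zero]
    have h3 : (Finset.univ.filter (fun n : Subgroup.normalizer (A : Set G) => cj A n ω = ω'))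
        = ∅ := by
      apply Finset.filter_eq_empty_iff.mpr
      intro n _ hn
      exact hex ⟨n, hn.symm⟩
    rw [h3, Finset.card_empty]
    simp

/-- Each orbit on the family has exactly `e` elements. -/
theorem card_orbit [Finite G] (h : Hyp A R) (e : ℕ)
    (hN : Nat.card (Subgroup.normalizer (A : Set G)) = Nat.card A * e)
    (a : {ω : A →* ℂˣ // IsFam A R ω}) :
    Nat.card {b : {ω : A →* ℂˣ // IsFam A R ω} // (famSetoid A R).r b a} = e := by
  classical
  letI : Fintype {ω : A →* ℂˣ // IsFam A R ω} := Fintype.ofFinite _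
  letI : Fintype (Subgroup.normalizer (A : Set G)) := Fintype.ofFinite _
  have hmaps : ∀ n ∈ (Finset.univ : Finset (Subgroup.normalizer (A : Set G))),
      (⟨cj A n a.1, isFam_cj h n a.2⟩ : {ω : A →* ℂˣ // IsFam A R ω}) ∈
        Finset.univ.filter (fun b : {ω : A →* ℂˣ // IsFam A R ω} => (famSetoid A R).r b a) := by
    intro n _
    rw [Finset.mem_filter]
    exact ⟨Finset.mem_univ _, n, rfl⟩
  have h1 := Finset.card_eq_sum_card_fiberwise hmaps
  have h2 : ∀ b ∈ Finset.univ.filter
      (fun b : {ω : A →* ℂˣ // IsFam A R ω} => (famSetoid A R).r b a),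
      (Finset.univ.filter (fun n : Subgroup.normalizer (A : Set G) =>
        (⟨cj A n a.1, isFam_cj h n a.2⟩ : {ω : A →* ℂˣ // IsFam A R ω}) = b)).card
        = Nat.card A := by
    intro b hb
    obtain ⟨n₀, hn₀⟩ := (Finset.mem_filter.mp hb).2
    rw [← card_fiber h a.2 n₀ hn₀, Nat.card_eq_fintype_card, Fintype.card_subtype]
    congr 1
    ext n
    simp only [Finset.mem_filter, Finset.mem_univ, true_and]
    constructor
    · intro h
      rw [← h]
    · intro h
      exact Subtype.ext h.symm
  rw [Finset.sum_congr rfl h2, Finset.sum_const, Finset.card_univ, smul_eq_mul,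
    ← Nat.card_eq_fintype_card, hN] at h1
  rw [Nat.card_eq_fintype_card, Fintype.card_subtype]
  have hpos : 0 < Nat.card A := Nat.card_pos
  have := Nat.eq_of_mul_eq_mul_left hpos (h1.trans (mul_comm _ _)).symm
  rw [this]

/-- The family has `e` times as many members as there are orbits. -/
theorem card_fam [Finite G] (h : Hyp A R) (e : ℕ)
    (hN : Nat.card (Subgroup.normalizer (A : Set G)) = Nat.card A * e) :
    Nat.card {ω : A →* ℂˣ // IsFam A R ω} = e * Nat.card (Quotient (famSetoid A R)) := by
  classical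
  letI : Fintype {ω : A →* ℂˣ // IsFam A R ω} := Fintype.ofFinite _
  letI : Fintype (Quotient (famSetoid A R)) := Fintype.ofFinite _
  have h1 : Nat.card {ω : A →* ℂˣ // IsFam A R ω}
      = ∑ k : Quotient (famSetoid A R),
        Nat.card {a : {ω : A →* ℂˣ // IsFam A R ω} // (Quotient.mk (famSetoid A R) a) = k} := by
    rw [← Nat.card_sigma]
    exact Nat.card_congr (Equiv.sigmaFiberEquiv
      (fun a : {ω : A →* ℂˣ // IsFam A R ω} => Quotient.mk (famSetoid A R) a)).symm
  have h2 : ∀ k : Quotient (famSetoid A R),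
      Nat.card {a : {ω : A →* ℂˣ // IsFam A R ω} // (Quotient.mk (famSetoid A R) a) = k} = e := by
    intro k
    obtain ⟨a₀, rfl⟩ := Quotient.exists_rep k
    rw [← card_orbit h e hN a₀]
    apply Nat.card_congr
    apply Equiv.subtypeEquivRight
    intro b
    exact Quotient.eq (r := famSetoid A R)
  rw [h1, Finset.sum_congr rfl (fun k _ => h2 k), Finset.sum_const, Finset.card_univ, smul_eq_mul,
    Nat.card_eq_fintype_card, mul_comm]

end Cfsg.Agent.Lib.Helper7.ExcA
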