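import Mathlib
import Cfsg.Prelude.Def_Characters
import Cfsg.Agent.Lib.helper3.Pf4e
import Cfsg.Agent.Lib.helper3.Irr10
import Cfsg.Agent.Lib.helper3.IndLin
import Cfsg.Agent.Lib.Helper7.ExcA1
import Cfsg.Agent.Lib.Helper7.ExcA3

set_option autoImplicit false
set_option linter.style.haveILetI false
set_option linter.unusedSectionVars false

/-!
# Exceptional characters for an abelian trivial-intersection subgroup: the main theorem
-/

namespace Cfsg.Agent.Lib.Helper7.ExcA

open Cfsg Cfsg.Agent.Lib.helper3.Irr Cfsg.Agent.Lib.helper3.CharBasic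
open Cfsg.Agent.Lib.helper3.IndFun Cfsg.Agent.Lib.helper3.CycTI Cfsg.Agent.Lib.Helper7.BrP
open Cfsg.Agent.Lib.helper3.Pf4
open scoped ComplexConjugate

variable {G : Type*} [Group G] [Fintype G] {A R : Subgroup G}

/-- Induction is invariant under conjugation by the normalizer. -/
theorem indFun_conj (n : Subgroup.normalizer (A : Set G)) (θ : A → ℂ) :
    indFun A (fun x => θ (n⁻¹ • x)) = indFun A θ := by
  classical
  funext g
  rw [indFun_apply, indFun_apply]
  congr 1
  have key : ∀ y : G, extendByZero A (fun x => θ (n⁻¹ • x)) y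
      = extendByZero A θ ((n : G)⁻¹ * y * n) := by
    intro y
    by_cases hy : y ∈ A
    · have hy' : (n : G)⁻¹ * y * n ∈ A := by
        have := (n⁻¹ • (⟨y, hy⟩ : A)).2
        rwa [coe_inv_smul] at this
      rw [extendByZero_mem A _ hy, extendByZero_mem A _ hy']
      congr 1
      apply Subtype.ext
      rw [coe_inv_smul]
    · have hy' : (n : G)⁻¹ * y * n ∉ A := by
        intro hmem
        apply hy
        have := (n • (⟨_, hmem⟩ : A)).2
        rw [coe_smul'] at this
        have e : (n : G) * ((n : G)⁻¹ * y * n) * (n : G)⁻¹ = y := by group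
        rwa [e] at this
      rw [extendByZero_not_mem A _ hy, extendByZero_not_mem A _ hy']
  simp_rw [key]
  apply Fintype.sum_equiv (Equiv.mulRight (n : G))
  intro x
  simp only [Equiv.coe_mulRight]
  congr 1
  group

theorem Xi_cj (n : Subgroup.normalizer (A : Set G)) (ω : A →* ℂˣ) :
    Xi A (cj A n ω) = Xi A ω := by
  unfold Xi
  rw [← indFun_conj n (linFun 1 - linFun ω)]
  congr 1

theorem Xi_sub (ω ω' : A →* ℂˣ) :
    Xi A ω - Xi A ω' = indFun A (linFun ω' - linFun ω) := by
  unfold Xi
  rw [← indFun_sub]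
  congr 1
  funext x
  simp only [Pi.sub_apply]
  ring

/-- Sum of all linear characters of an abelian group at a nonidentity element. -/
theorem sum_hom_apply (hab : ∀ a ∈ A, ∀ b ∈ A, a * b = b * a) [Fintype (A →* ℂˣ)]
    (y : A) (hy : y ≠ 1) : ∑ ψ : A →* ℂˣ, ((ψ y : ℂˣ) : ℂ) = 0 := by
  haveI : Fintype A := Fintype.ofFinite _
  letI : CommGroup A := { (inferInstance : Group A) with
    mul_comm := fun a b => Subtype.ext (hab a a.2 b b.2) }
  haveI : NeZero ((Monoid.exponent A : ℕ) : ℂ) :=
    ⟨Nat.cast_ne_zero.mpr Monoid.exponent_ne_zero_of_finite⟩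
  obtain ⟨β, hβ⟩ := CommGroup.exists_apply_ne_one_of_hasEnoughRootsOfUnity A ℂ hy
  have h := sum_mul_hom_eq_zero β y hβ (fun _ => (1 : ℂ)) (fun _ => rfl)
  simpa using h

end Cfsg.Agent.Lib.Helper7.ExcA
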