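import Mathlib
import Cfsg.Prelude.Def_Characters
import Cfsg.Agent.Lib.helper3.Pf4e
import Cfsg.Agent.Lib.helper3.ColFrob3
import Cfsg.Agent.Lib.Helper7.ExcA4

set_option autoImplicit false
set_option linter.style.haveILetI false
set_option linter.unusedSectionVars false
set_option linter.unusedVariables false

/-!
# Brauer–Suzuki–Wall, character theory, part 1: the dual group of an abelian subgroup
-/

namespace Cfsg.Agent.Lib.Helper7.BSWc

open Cfsg Cfsg.Agent.Lib.helper3.Irr Cfsg.Agent.Lib.helper3.CharBasic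
open Cfsg.Agent.Lib.helper3.IndFun Cfsg.Agent.Lib.helper3.CycTI Cfsg.Agent.Lib.helper3.Pf4
open scoped ComplexConjugate

variable {G : Type*} [Group G] (K : Subgroup G)

theorem finite_dual [Finite K] : Finite (K →* ℂˣ) := by
  haveI : NeZero ((Monoid.exponent K : ℕ) : ℂ) :=
    ⟨Nat.cast_ne_zero.mpr Monoid.exponent_ne_zero_of_finite⟩
  infer_instance

variable {K}

theorem card_dual [Finite K] (hab : ∀ a ∈ K, ∀ b ∈ K, a * b = b * a) :
    Nat.card (K →* ℂˣ) = Nat.card K := by
  letI : CommGroup K := { (inferInstance : Group K) with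
    mul_comm := fun a b => Subtype.ext (hab a a.2 b b.2) }
  haveI : NeZero ((Monoid.exponent K : ℕ) : ℂ) :=
    ⟨Nat.cast_ne_zero.mpr Monoid.exponent_ne_zero_of_finite⟩
  exact CommGroup.card_monoidHom_of_hasEnoughRootsOfUnity K ℂ

/-- The dual group is (non-canonically) isomorphic to the group. -/
theorem nonempty_dual_equiv [Finite K] (hab : ∀ a ∈ K, ∀ b ∈ K, a * b = b * a) :
    Nonempty ((K →* ℂˣ) ≃* K) := by
  letI : CommGroup K := { (inferInstance : Group K) with
    mul_comm := fun a b => Subtype.ext (hab a a.2 b b.2) }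
  haveI : NeZero ((Monoid.exponent K : ℕ) : ℂ) :=
    ⟨Nat.cast_ne_zero.mpr Monoid.exponent_ne_zero_of_finite⟩
  exact CommGroup.monoidHom_mulEquiv_of_hasEnoughRootsOfUnity K ℂ

/-- Sum of all linear characters at an element. -/
theorem sum_dual_apply [Finite K] (hab : ∀ a ∈ K, ∀ b ∈ K, a * b = b * a) [Fintype (K →* ℂˣ)]
    [DecidableEq K] (y : K) :
    ∑ ψ : K →* ℂˣ, linFun ψ y = if y = 1 then (Nat.card K : ℂ) else 0 := by
  by_cases hy : y = 1
  · rw [if_pos hy, hy]
    simp only [linFun, map_one, Units.val_one, Finset.sum_const, Finset.card_univ,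
      nsmul_eq_mul, mul_one]
    rw [← Nat.card_eq_fintype_card, card_dual hab]
  · rw [if_neg hy]
    haveI : Fintype K := Fintype.ofFinite _
    letI : CommGroup K := { (inferInstance : Group K) with
      mul_comm := fun a b => Subtype.ext (hab a a.2 b b.2) }
    haveI : NeZero ((Monoid.exponent K : ℕ) : ℂ) :=
      ⟨Nat.cast_ne_zero.mpr Monoid.exponent_ne_zero_of_finite⟩
    obtain ⟨β, hβ⟩ := CommGroup.exists_apply_ne_one_of_hasEnoughRootsOfUnity K ℂ hy
    have h := sum_mul_hom_eq_zero β y hβ (fun _ => (1 : ℂ)) (fun _ => rfl)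
    simpa [linFun] using h

/-- Fourier inversion on a finite abelian group. -/
theorem fourier (hab : ∀ a ∈ K, ∀ b ∈ K, a * b = b * a) [Fintype K] [Fintype (K →* ℂˣ)]
    (f : K → ℂ) (x : K) :
    ∑ ω : K →* ℂˣ, classInner f (linFun ω) * linFun ω x = f x := by
  classical
  have hk : (Nat.card K : ℂ) ≠ 0 := by
    have : Nat.card K ≠ 0 := Nat.card_pos.ne'
    exact_mod_cast this
  simp only [classInner_apply]
  have h1 : ∀ ω : K →* ℂˣ, (Nat.card K : ℂ)⁻¹ * (∑ y : K, f y * conj (linFun ω y)) * linFun ω x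
      = (Nat.card K : ℂ)⁻¹ * ∑ y : K, f y * linFun ω (y⁻¹ * x) := by
    intro ω
    rw [mul_assoc, Finset.sum_mul]
    congr 1
    apply Finset.sum_congr rfl
    intro y _
    rw [← Cfsg.Agent.Lib.helper3.Block.linFun_inv ω y]
    simp only [linFun, map_mul, Units.val_mul]
    ring
  rw [Finset.sum_congr rfl (fun ω _ => h1 ω), ← Finset.mul_sum, Finset.sum_comm]
  have h2 : ∀ y : K, ∑ ω : K →* ℂˣ, f y * linFun ω (y⁻¹ * x)
      = if y = x then f y * (Nat.card K : ℂ) else 0 := by
    intro y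
    rw [← Finset.mul_sum, sum_dual_apply hab]
    by_cases hyx : y = x
    · rw [if_pos hyx, if_pos (by rw [hyx, inv_mul_cancel])]
    · rw [if_neg hyx, if_neg (by
        intro h
        apply hyx
        exact (inv_mul_eq_one.1 h)), mul_zero]
  rw [Finset.sum_congr rfl (fun y _ => h2 y), Finset.sum_ite_eq' Finset.univ x,
    if_pos (Finset.mem_univ _)]
  field_simp

end Cfsg.Agent.Lib.Helper7.BSWc
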