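import Mathlib
import Cfsg.Prelude.Def_Characters
import Cfsg.Agent.Lib.helper3.NormTwo
import Cfsg.Agent.Lib.helper3.GenChar
import Cfsg.Agent.Lib.Helper7.BSWc1

set_option autoImplicit false
set_option linter.style.haveILetI false
set_option linter.unusedSectionVars false
set_option linter.unusedVariables false

/-!
# Brauer–Suzuki–Wall, character theory, part 2: the induced functions and their Gram matrix
-/

namespace Cfsg.Agent.Lib.Helper7.BSWc

open Cfsg Cfsg.Agent.Lib.helper3.Irr Cfsg.Agent.Lib.helper3.CharBasic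
open Cfsg.Agent.Lib.helper3.IndFun Cfsg.Agent.Lib.helper3.CycTI Cfsg.Agent.Lib.Helper7.BrP
open Cfsg.Agent.Lib.helper3.Pf4 Cfsg.Agent.Lib.Helper7.ExcA
open scoped ComplexConjugate

variable {G : Type*} [Group G]

/-- An abelian trivial-intersection subgroup of index two in its normalizer, inverted by the
elements of the normalizer outside it. -/
structure KHyp (K : Subgroup G) : Prop where
  comm : ∀ a ∈ K, ∀ b ∈ K, a * b = b * a
  ti : ∀ x ∈ K, x ≠ 1 → ∀ g : G, g⁻¹ * x * g ∈ K → g ∈ Subgroup.normalizer (K : Set G)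
  inv : ∀ n ∈ Subgroup.normalizer (K : Set G), n ∉ K → ∀ x ∈ K, n * x * n⁻¹ = x⁻¹
  card : Nat.card (Subgroup.normalizer (K : Set G)) = 2 * Nat.card K

variable {K : Subgroup G}

theorem KHyp.cj_of_mem (h : KHyp K) (n : Subgroup.normalizer (K : Set G)) (hn : (n : G) ∈ K)
    (ω : K →* ℂˣ) : cj K n ω = ω := by
  ext x
  rw [cj_apply]
  congr 2
  apply Subtype.ext
  rw [coe_inv_smul]
  have := h.comm _ (K.inv_mem hn) _ x.2
  rw [this, mul_assoc, inv_mul_cancel, mul_one]

theorem KHyp.cj_of_not_mem (h : KHyp K) (n : Subgroup.normalizer (K : Set G))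
    (hn : (n : G) ∉ K) (ω : K →* ℂˣ) : cj K n ω = ω⁻¹ := by
  ext x
  rw [cj_apply, MonoidHom.inv_apply, ← map_inv]
  congr 2
  apply Subtype.ext
  rw [coe_inv_smul]
  have hn' : ((n⁻¹ : Subgroup.normalizer (K : Set G)) : G) ∉ K := by
    intro hc
    apply hn
    have := K.inv_mem hc
    simpa using this
  have := h.inv _ (n⁻¹).2 hn' x x.2
  simpa using this

theorem card_subtype_and_const {α : Type*} (p : α → Prop) (P : Prop) [Decidable P] :
    Nat.card {a : α // p a ∧ P} = if P then Nat.card {a : α // p a} else 0 := by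
  by_cases hP : P
  · rw [if_pos hP]
    exact Nat.card_congr (Equiv.subtypeEquivRight (fun a => by simp [hP]))
  · rw [if_neg hP]
    haveI : IsEmpty {a : α // p a ∧ P} := ⟨fun a => hP a.2.2⟩
    exact Nat.card_of_isEmpty

open Classical in
theorem KHyp.card_cj_eq [Finite G] (h : KHyp K) (ω ω' : K →* ℂˣ) :
    Nat.card {n : Subgroup.normalizer (K : Set G) // ω = cj K n ω'} =
      Nat.card K * ((if ω = ω' then 1 else 0) + (if ω = ω'⁻¹ then 1 else 0)) := by
  haveI : Fintype (Subgroup.normalizer (K : Set G)) := Fintype.ofFinite _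
  have hin : Nat.card {n : Subgroup.normalizer (K : Set G) // (n : G) ∈ K} = Nat.card K := by
    apply Nat.card_congr
    exact
      { toFun := fun n => ⟨(n.1 : G), n.2⟩
        invFun := fun x => ⟨⟨(x : G), Subgroup.le_normalizer x.2⟩, x.2⟩
        left_inv := fun n => rfl
        right_inv := fun x => rfl }
  have hout : Nat.card {n : Subgroup.normalizer (K : Set G) // (n : G) ∉ K} = Nat.card K := by
    have h1 := Fintype.card_subtype_compl (fun n : Subgroup.normalizer (K : Set G) => (n : G) ∈ K)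
    rw [← Nat.card_eq_fintype_card, ← Nat.card_eq_fintype_card, ← Nat.card_eq_fintype_card,
      h.card, hin] at h1
    rw [h1]
    omega
  have hsplit : Nat.card {n : Subgroup.normalizer (K : Set G) // ω = cj K n ω'} =
      Nat.card {n : Subgroup.normalizer (K : Set G) // (n : G) ∈ K ∧ ω = ω'} +
      Nat.card {n : Subgroup.normalizer (K : Set G) // (n : G) ∉ K ∧ ω = ω'⁻¹} := by
    rw [Nat.card_eq_fintype_card, Nat.card_eq_fintype_card, Nat.card_eq_fintype_card,
      Fintype.card_subtype, Fintype.card_subtype, Fintype.card_subtype,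
      ← Finset.card_union_of_disjoint]
    · congr 1
      ext n
      simp only [Finset.mem_filter, Finset.mem_univ, true_and, Finset.mem_union]
      by_cases hn : (n : G) ∈ K
      · rw [h.cj_of_mem n hn]
        tauto
      · rw [h.cj_of_not_mem n hn]
        tauto
    · rw [Finset.disjoint_filter]
      intro n _ h1 h2
      exact h2.1 h1.1
  rw [hsplit, card_subtype_and_const, card_subtype_and_const, hin, hout]
  split_ifs <;> ring

open Classical in
/-- The Gram matrix. -/
theorem KHyp.gram [Fintype G] (h : KHyp K) (ω ω' : K →* ℂˣ) (hω : ω ≠ 1) (hω' : ω' ≠ 1) :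
    classInner (Xi K ω) (Xi K ω') =
      2 + (if ω = ω' then 1 else 0) + (if ω = ω'⁻¹ then 1 else 0) := by
  haveI : Fintype K := Fintype.ofFinite _
  unfold Xi
  rw [Cfsg.Agent.Lib.Helper7.BrP.gram K h.ti ω ω' hω hω', h.card, h.card_cj_eq]
  have hk : (Nat.card K : ℂ) ≠ 0 := by
    have : Nat.card K ≠ 0 := Nat.card_pos.ne'
    exact_mod_cast this
  push_cast
  field_simp
  ring_nf

/-- The induced function only depends on the character up to inversion. -/
theorem KHyp.Xi_inv [Fintype G] (h : KHyp K) (hne : ∃ n ∈ Subgroup.normalizer (K : Set G), n ∉ K)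
    (ω : K →* ℂˣ) : Xi K ω⁻¹ = Xi K ω := by
  obtain ⟨n, hn, hnK⟩ := hne
  rw [← h.cj_of_not_mem ⟨n, hn⟩ hnK ω, Xi_cj]

/-- The induced functions vanish off the conjugates of the subgroup. -/
theorem Xi_eq_zero [Fintype G] (ω : K →* ℂˣ) (g : G) (hg : ∀ x : G, x⁻¹ * g * x ∉ K) :
    Xi K ω g = 0 := by
  unfold Xi
  rw [indFun_apply]
  have : ∀ x : G, extendByZero K (linFun 1 - linFun ω) (x⁻¹ * g * x) = 0 := fun x =>
    extendByZero_not_mem K _ (hg x)
  simp [this]

end Cfsg.Agent.Lib.Helper7.BSWc
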