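import Mathlib
import Cfsg.Agent.Lib.helper3.NormTwo

set_option autoImplicit false
set_option linter.style.haveILetI false
set_option linter.unusedSectionVars false
set_option linter.unusedVariables false

/-!
# Brauer–Suzuki–Wall, character theory, part 3: the combinatorics of the decompositions

Integer vectors `a j` of norm `3` with pairwise inner products `2`, and a vector `c` of norm `4`
with inner products `2` with the `a j`, all containing the coordinate `o` once and of degree `0`.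
-/

namespace Cfsg.Agent.Lib.Helper7.BSWc

open Cfsg.Agent.Lib.helper3.Irr

section comb

variable {I : Type*} [Fintype I] [DecidableEq I]

/-- The indicator vector. -/
def ind (a i : I) : ℤ := if i = a then 1 else 0

theorem ind_self (a : I) : ind a a = 1 := if_pos rfl

theorem ind_ne {a i : I} (h : i ≠ a) : ind a i = 0 := if_neg h

theorem ind_sq (a i : I) : ind a i ^ 2 = ind a i := by
  unfold ind
  split_ifs <;> ring

theorem sum_ind_mul (a : I) (f : I → ℤ) : ∑ i, ind a i * f i = f a := by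
  unfold ind
  simp [Finset.sum_ite_eq']

theorem sum_mul_ind (a : I) (f : I → ℤ) : ∑ i, f i * ind a i = f a := by
  unfold ind
  simp [Finset.sum_ite_eq']

theorem sum_ind (a : I) : ∑ i, ind a i = 1 := by
  unfold ind
  simp [Finset.sum_ite_eq']

theorem sum_sub_ind_mul (f g : I → ℤ) (o : I) :
    ∑ i, (f i - ind o i) * (g i - ind o i) = ∑ i, f i * g i - f o - g o + 1 := by
  have h : ∀ i, (f i - ind o i) * (g i - ind o i)
      = f i * g i - f i * ind o i - ind o i * g i + ind o i ^ 2 := by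
    intro i; ring
  simp only [h, Finset.sum_add_distrib, Finset.sum_sub_distrib, sum_mul_ind, sum_ind_mul, ind_sq,
    sum_ind]

theorem sum_sub_ind_sq (f : I → ℤ) (o : I) :
    ∑ i, (f i - ind o i) ^ 2 = ∑ i, f i ^ 2 - 2 * f o + 1 := by
  have h1 : ∀ i, (f i - ind o i) ^ 2 = (f i - ind o i) * (f i - ind o i) := fun i => by ring
  have h2 : ∀ i, f i ^ 2 = f i * f i := fun i => by ring
  simp only [h1, h2, sum_sub_ind_mul]
  ring

theorem sum_ind_sub_ind_mul (P N : I) (f : I → ℤ) :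
    ∑ i, (ind P i - ind N i) * f i = f P - f N := by
  simp only [sub_mul, Finset.sum_sub_distrib, sum_ind_mul]

/-- A vector of norm two and degree `-1`. -/
theorem shape_two (f d : I → ℤ) (hd : ∀ i, 0 < d i) (h2 : ∑ i, f i ^ 2 = 2)
    (hdeg : ∑ i, f i * d i = -1) :
    ∃ P N : I, P ≠ N ∧ d N = d P + 1 ∧ ∀ i, f i = ind P i - ind N i := by
  obtain ⟨a, b, hab, ha, hb, hrest⟩ := int_sq_sum_two f h2
  have hsum : ∑ i, f i * d i = f a * d a + f b * d b := by
    apply Finset.sum_eq_add a b hab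
    · intro c _ hc
      rw [hrest c hc.1 hc.2, zero_mul]
    · intro h; exact absurd (Finset.mem_univ a) h
    · intro h; exact absurd (Finset.mem_univ b) h
  rw [hsum] at hdeg
  have hda := hd a
  have hdb := hd b
  have key : ∀ P N : I, P ≠ N → f P = 1 → f N = -1 → (∀ c, c ≠ P → c ≠ N → f c = 0) →
      ∀ i, f i = ind P i - ind N i := by
    intro P N hPN hP hN hr i
    by_cases hiP : i = P
    · rw [hiP, hP, ind_self, ind_ne hPN]; ring
    · by_cases hiN : i = N
      · rw [hiN, hN, ind_self, ind_ne (Ne.symm hPN)]; ring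
      · rw [hr i hiP hiN, ind_ne hiP, ind_ne hiN]; ring
  rcases ha with ha | ha <;> rcases hb with hb | hb
  · rw [ha, hb] at hdeg; omega
  · refine ⟨a, b, hab, ?_, key a b hab ha hb hrest⟩
    rw [ha, hb] at hdeg; omega
  · refine ⟨b, a, hab.symm, ?_, key b a hab.symm hb ha (fun c h1 h2 => hrest c h2 h1)⟩
    rw [ha, hb] at hdeg; omega
  · rw [ha, hb] at hdeg; omega

/-- Entries of a vector of norm three. -/
theorem entries_of_norm_three (c : I → ℤ) (h3 : ∑ i, c i ^ 2 = 3) (i : I) :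
    c i = -1 ∨ c i = 0 ∨ c i = 1 := by
  have h1 : c i ^ 2 ≤ ∑ j, c j ^ 2 :=
    Finset.single_le_sum (f := fun j => c j ^ 2) (fun j _ => sq_nonneg _) (Finset.mem_univ i)
  rw [h3] at h1
  have h2 : -1 ≤ c i := by nlinarith
  have h4 : c i ≤ 1 := by nlinarith
  omega

end comb

/-- The abstract data. -/
structure Vecs (J I : Type*) [Fintype I] [DecidableEq I] where
  o : I
  d : I → ℤ
  a : J → I → ℤ
  c : I → ℤ
  hd : ∀ i, 0 < d i
  hdo : d o = 1
  hao : ∀ j, a j o = 1
  hco : c o = 1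
  haa : ∀ j, ∑ i, a j i ^ 2 = 3
  haa' : ∀ j j', a j ≠ a j' → ∑ i, a j i * a j' i = 2
  hac : ∀ j, ∑ i, a j i * c i = 2
  hcc : ∑ i, c i ^ 2 = 4
  had : ∀ j, ∑ i, a j i * d i = 0
  hcd : ∑ i, c i * d i = 0

namespace Vecs

variable {J I : Type*} [Fintype I] [DecidableEq I] (V : Vecs J I)

theorem step1 (j : J) : ∃ P N : I, P ≠ N ∧ P ≠ V.o ∧ N ≠ V.o ∧ V.d N = V.d P + 1 ∧
    ∀ i, V.a j i = ind V.o i + ind P i - ind N i := by
  have h2 : ∑ i, (V.a j i - ind V.o i) ^ 2 = 2 := by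
    rw [sum_sub_ind_sq, V.haa, V.hao]; ring
  have hdeg : ∑ i, (V.a j i - ind V.o i) * V.d i = -1 := by
    simp only [sub_mul, Finset.sum_sub_distrib, sum_ind_mul, V.had, V.hdo]
    ring
  obtain ⟨P, N, hPN, hdN, hf⟩ := shape_two _ V.d V.hd h2 hdeg
  have ho := hf V.o
  rw [V.hao, ind_self] at ho
  have hPo : P ≠ V.o := by
    intro h
    rw [h, ind_self] at ho
    have : ind N V.o = 1 := by omega
    by_cases hN : V.o = N
    · exact hPN (h.trans hN)
    · rw [ind_ne hN] at this; omega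
  have hNo : N ≠ V.o := by
    intro h
    rw [h, ind_self, ind_ne (Ne.symm hPo)] at ho
    omega
  refine ⟨P, N, hPN, hPo, hNo, hdN, fun i => ?_⟩
  have := hf i
  omega

theorem entries_c (i : I) (hi : i ≠ V.o) : V.c i = -1 ∨ V.c i = 0 ∨ V.c i = 1 := by
  have h3 : ∑ i, (V.c i - ind V.o i) ^ 2 = 3 := by
    rw [sum_sub_ind_sq, V.hcc, V.hco]; ring
  have := entries_of_norm_three _ h3 i
  rw [ind_ne hi, sub_zero] at this
  exact this

theorem step2 (j : J) : ∃ (δ : ℤ) (X L : I), (δ = 1 ∨ δ = -1) ∧ X ≠ L ∧ X ≠ V.o ∧ L ≠ V.o ∧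
    (∀ i, V.a j i = ind V.o i + δ * ind X i - δ * ind L i) ∧ V.c X = δ ∧ V.c L = 0 ∧
    V.d L = V.d X + δ := by
  obtain ⟨P, N, hPN, hPo, hNo, hdN, hf⟩ := V.step1 j
  have h1 : ∑ i, (V.a j i - ind V.o i) * (V.c i - ind V.o i) = 1 := by
    rw [sum_sub_ind_mul, V.hac, V.hao, V.hco]; ring
  have h2 : ∑ i, (V.a j i - ind V.o i) * (V.c i - ind V.o i) = V.c P - V.c N := by
    have : ∀ i, (V.a j i - ind V.o i) * (V.c i - ind V.o i)
        = (ind P i - ind N i) * (V.c i - ind V.o i) := by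
      intro i
      rw [hf i]; ring
    simp only [this]
    rw [sum_ind_sub_ind_mul, ind_ne hPo, ind_ne hNo]
    ring
  rw [h2] at h1
  rcases V.entries_c P hPo with hP | hP | hP <;> rcases V.entries_c N hNo with hN | hN | hN <;>
    rw [hP, hN] at h1 <;> try omega
  · -- c P = 0, c N = -1
    refine ⟨-1, N, P, Or.inr rfl, hPN.symm, hNo, hPo, fun i => ?_, hN, hP, ?_⟩
    · rw [hf i]; ring
    · rw [hdN]; ring
  · -- c P = 1, c N = 0
    refine ⟨1, P, N, Or.inl rfl, hPN, hPo, hNo, fun i => ?_, hP, hN, ?_⟩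
    · rw [hf i]; ring
    · rw [hdN]

/-- The shape of a decomposition. -/
def Shape (j : J) (δ : ℤ) (X L : I) : Prop :=
  (δ = 1 ∨ δ = -1) ∧ X ≠ L ∧ X ≠ V.o ∧ L ≠ V.o ∧
    (∀ i, V.a j i = ind V.o i + δ * ind X i - δ * ind L i) ∧ V.c X = δ ∧ V.c L = 0 ∧
    V.d L = V.d X + δ

theorem shape_unique {j j' : J} {δ δ' : ℤ} {X L X' L' : I} (h : V.Shape j δ X L)
    (h' : V.Shape j' δ' X' L') (hjj : V.a j = V.a j') : δ = δ' ∧ X = X' ∧ L = L' := by
  obtain ⟨hδ, hXL, hXo, hLo, hf, hcX, hcL, hdL⟩ := h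
  obtain ⟨hδ', hXL', hXo', hLo', hf', hcX', hcL', hdL'⟩ := h'
  have hXL'' : X ≠ L' := by
    intro e
    rw [e, hcL'] at hcX
    rcases hδ with h | h <;> omega
  have hLX'' : L ≠ X' := by
    intro e
    rw [e, hcX'] at hcL
    rcases hδ' with h | h <;> omega
  have e1 := hf X
  rw [hjj, hf' X, ind_ne hXo, ind_self, ind_ne hXL, ind_ne hXL''] at e1
  have hXX : X = X' := by
    by_contra hne
    rw [ind_ne hne] at e1
    rcases hδ with h | h <;> omega
  rw [hXX, ind_self] at e1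
  have hδδ : δ = δ' := by omega
  have e2 := hf L
  rw [hjj, hf' L, ind_ne hLo, ind_self, ind_ne hXL.symm, ind_ne hLX''] at e2
  have hLL : L = L' := by
    by_contra hne
    rw [ind_ne hne] at e2
    rcases hδ with h | h <;> omega
  exact ⟨hδδ, hXX, hLL⟩

theorem shape_pair {j j' : J} {δ δ' : ℤ} {X L X' L' : I} (h : V.Shape j δ X L)
    (h' : V.Shape j' δ' X' L') (hjj : V.a j ≠ V.a j') :
    δ = δ' ∧ ((X = X' ∧ L ≠ L') ∨ (X ≠ X' ∧ L = L')) := by
  obtain ⟨hδ, hXL, hXo, hLo, hf, hcX, hcL, hdL⟩ := h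
  obtain ⟨hδ', hXL', hXo', hLo', hf', hcX', hcL', hdL'⟩ := h'
  have hXL'' : X ≠ L' := by
    intro e
    rw [e, hcL'] at hcX
    rcases hδ with h | h <;> omega
  have hLX'' : L ≠ X' := by
    intro e
    rw [e, hcX'] at hcL
    rcases hδ' with h | h <;> omega
  have h1 : ∑ i, (V.a j i - ind V.o i) * (V.a j' i - ind V.o i) = 1 := by
    rw [sum_sub_ind_mul, V.haa' j j' hjj, V.hao, V.hao]; ring
  have h2 : ∑ i, (V.a j i - ind V.o i) * (V.a j' i - ind V.o i)
      = δ * δ' * (ind X' X - ind L' X) - δ * δ' * (ind X' L - ind L' L) := by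
    have : ∀ i, (V.a j i - ind V.o i) * (V.a j' i - ind V.o i)
        = (ind X i - ind L i) * (δ * δ' * (ind X' i - ind L' i)) := by
      intro i
      rw [hf i, hf' i]; ring
    simp only [this]
    rw [sum_ind_sub_ind_mul]
  rw [h2, ind_ne hXL'', ind_ne hLX''] at h1
  by_cases hXX : X = X'
  · by_cases hLL : L = L'
    · exfalso
      rw [hXX, hLL, ind_self, ind_self] at h1
      rcases hδ with h | h <;> rcases hδ' with h' | h' <;> rw [h, h'] at h1 <;> omega
    · rw [hXX, ind_self, ind_ne hLL] at h1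
      refine ⟨?_, Or.inl ⟨hXX, hLL⟩⟩
      rcases hδ with h | h <;> rcases hδ' with h' | h' <;> rw [h, h'] at h1 ⊢ <;> omega
  · by_cases hLL : L = L'
    · rw [hLL, ind_self, ind_ne hXX] at h1
      refine ⟨?_, Or.inr ⟨hXX, hLL⟩⟩
      rcases hδ with h | h <;> rcases hδ' with h' | h' <;> rw [h, h'] at h1 ⊢ <;> omega
    · exfalso
      rw [ind_ne hXX, ind_ne hLL] at h1
      omega

/-- The simultaneous decomposition. -/
theorem exists_decomp : ∃ (δ : ℤ) (X L : J → I), (δ = 1 ∨ δ = -1) ∧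
    (∀ j, V.Shape j δ (X j) (L j)) := by
  by_cases hJ : Nonempty J
  · obtain ⟨j₀⟩ := hJ
    choose δ' X L hS using V.step2
    refine ⟨δ' j₀, X, L, (hS j₀).1, fun j => ?_⟩
    have hδ : δ' j = δ' j₀ := by
      by_cases hjj : V.a j = V.a j₀
      · exact (V.shape_unique (hS j) (hS j₀) hjj).1
      · exact (V.shape_pair (hS j) (hS j₀) hjj).1
    rw [← hδ]
    exact hS j
  · refine ⟨1, fun j => absurd ⟨j⟩ hJ, fun j => absurd ⟨j⟩ hJ, Or.inl rfl,
      fun j => absurd ⟨j⟩ hJ⟩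

/-- Main case or exceptional case. -/
theorem dichotomy {δ : ℤ} {X L : J → I} (hS : ∀ j, V.Shape j δ (X j) (L j)) :
    (∀ j j', X j = X j') ∨
      ((∃ j₁ j₂, V.a j₁ ≠ V.a j₂) ∧ ∀ j j', V.a j ≠ V.a j' → X j ≠ X j' ∧ L j = L j') := by
  by_cases hM : ∀ j j', X j = X j'
  · exact Or.inl hM
  · right
    push Not at hM
    obtain ⟨j₁, j₂, h12⟩ := hM
    have ha12 : V.a j₁ ≠ V.a j₂ := fun e => h12 (V.shape_unique (hS j₁) (hS j₂) e).2.1
    have hL12 : L j₁ = L j₂ := by
      rcases (V.shape_pair (hS j₁) (hS j₂) ha12).2 with h | h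
      · exact absurd h.1 h12
      · exact h.2
    -- every `j` inequivalent to `j₁` has a different `X`
    have key1 : ∀ j, V.a j ≠ V.a j₁ → X j ≠ X j₁ ∧ L j = L j₁ := by
      intro j hj
      rcases (V.shape_pair (hS j) (hS j₁) hj).2 with h | h
      · exfalso
        have hj2 : V.a j ≠ V.a j₂ := by
          intro e
          have := (V.shape_unique (hS j) (hS j₂) e).2.1
          exact h12 (h.1.symm.trans this)
        rcases (V.shape_pair (hS j) (hS j₂) hj2).2 with h' | h'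
        · exact h12 (h.1.symm.trans h'.1)
        · exact h.2 (h'.2.trans hL12.symm)
      · exact h
    refine ⟨⟨j₁, j₂, ha12⟩, ?_⟩
    intro j j' hjj
    rcases (V.shape_pair (hS j) (hS j') hjj).2 with h | h
    · exfalso
      by_cases e1 : V.a j = V.a j₁
      · have hj' : V.a j' ≠ V.a j₁ := fun e => hjj (e1.trans e.symm)
        have h3 := key1 j' hj'
        have h4 := (V.shape_unique (hS j) (hS j₁) e1).2.1
        exact h3.1 (h.1.symm.trans h4)
      · have h3 := key1 j e1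
        by_cases e2 : V.a j' = V.a j₁
        · have h4 := (V.shape_unique (hS j') (hS j₁) e2).2.1
          exact h3.1 (h.1.trans h4)
        · have h4 := key1 j' e2
          exact h.2 (h3.2.trans h4.2.symm)
    · exact h

/-- In the main case, the shape of `c`. -/
theorem main_c {δ : ℤ} (hδ : δ = 1 ∨ δ = -1) {X : I} (hXo : X ≠ V.o) (hcX : V.c X = δ) :
    ∃ (Y₁ Y₂ : I) (c₁ c₂ : ℤ), Y₁ ≠ Y₂ ∧ Y₁ ≠ V.o ∧ Y₁ ≠ X ∧ Y₂ ≠ V.o ∧ Y₂ ≠ X ∧
      (c₁ = 1 ∨ c₁ = -1) ∧ (c₂ = 1 ∨ c₂ = -1) ∧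
      ∀ i, V.c i = ind V.o i + δ * ind X i + c₁ * ind Y₁ i + c₂ * ind Y₂ i := by
  set f : I → ℤ := fun i => V.c i - ind V.o i - δ * ind X i with hf
  have hδ2 : δ ^ 2 = 1 := by rcases hδ with h | h <;> rw [h] <;> ring
  have h2 : ∑ i, f i ^ 2 = 2 := by
    have e : ∀ i, f i ^ 2 = V.c i ^ 2 + ind V.o i ^ 2 + δ ^ 2 * ind X i ^ 2
        - 2 * (V.c i * ind V.o i) - 2 * δ * (V.c i * ind X i) + 2 * δ * (ind V.o i * ind X i) := by
      intro i
      simp only [hf]; ring
    simp only [e, Finset.sum_add_distrib, Finset.sum_sub_distrib, ← Finset.mul_sum, ind_sq,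
      sum_ind, sum_mul_ind, V.hcc, V.hco, hcX, ind_ne hXo, hδ2]
    have : δ * δ = 1 := by rw [← sq]; exact hδ2
    linarith
  obtain ⟨a, b, hab, ha, hb, hrest⟩ := int_sq_sum_two f h2
  have hfo : f V.o = 0 := by
    simp only [hf, V.hco, ind_self, ind_ne (Ne.symm hXo)]; ring
  have hfX : f X = 0 := by
    simp only [hf, hcX, ind_self, ind_ne hXo]; ring
  have hao : a ≠ V.o := by
    intro e; rw [e, hfo] at ha; omega
  have haX : a ≠ X := by
    intro e; rw [e, hfX] at ha; omega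
  have hbo : b ≠ V.o := by
    intro e; rw [e, hfo] at hb; omega
  have hbX : b ≠ X := by
    intro e; rw [e, hfX] at hb; omega
  refine ⟨a, b, f a, f b, hab, hao, haX, hbo, hbX, ha, hb, fun i => ?_⟩
  have hi : V.c i = f i + ind V.o i + δ * ind X i := by simp only [hf]; ring
  rw [hi]
  by_cases hia : i = a
  · rw [hia, ind_self, ind_ne hab]; ring
  · by_cases hib : i = b
    · rw [hib, ind_self, ind_ne hab.symm]; ring
    · rw [hrest i hia hib, ind_ne hia, ind_ne hib]; ring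

end Vecs

end Cfsg.Agent.Lib.Helper7.BSWc
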