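import Mathlib
import Cfsg.Prelude.Def_Characters
import Cfsg.Agent.Lib.Helper7.BSWc2
import Cfsg.Agent.Lib.Helper7.BSWc3

set_option autoImplicit false
set_option linter.style.haveILetI false
set_option linter.unusedSectionVars false
set_option linter.unusedVariables false

/-!
# Brauer–Suzuki–Wall, character theory, part 4: the integer coefficients and the restriction
formula
-/

namespace Cfsg.Agent.Lib.Helper7.BSWc

open Cfsg Cfsg.Agent.Lib.helper3.Irr Cfsg.Agent.Lib.helper3.CharBasic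
open Cfsg.Agent.Lib.helper3.IndFun Cfsg.Agent.Lib.helper3.CycTI Cfsg.Agent.Lib.Helper7.BrP
open Cfsg.Agent.Lib.helper3.Pf4 Cfsg.Agent.Lib.Helper7.ExcA
open scoped ComplexConjugate

variable {G : Type*} [Group G] [Fintype G] (K : Subgroup G)

/-- The integer coefficients of the induced functions. -/
noncomputable def zc (ω : K →* ℂˣ) : IrrCharacter G → ℤ :=
  Classical.choose (exists_int_decomposition (Xi_isGeneralizedCharacter K ω))

theorem Xi_eq_sum (ω : K →* ℂˣ) :
    Xi K ω = ∑ ψ : IrrCharacter G, (zc K ω ψ : ℂ) • (ψ : G → ℂ) :=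
  Classical.choose_spec (exists_int_decomposition (Xi_isGeneralizedCharacter K ω))

theorem classInner_Xi_irr (ω : K →* ℂˣ) (χ : IrrCharacter G) :
    classInner (Xi K ω) (χ : G → ℂ) = (zc K ω χ : ℂ) := by
  conv_lhs => rw [Xi_eq_sum K ω]
  rw [classInner_decomposition_left]

theorem classInner_Xi_Xi (ω ω' : K →* ℂˣ) :
    classInner (Xi K ω) (Xi K ω') = ((∑ ψ : IrrCharacter G, zc K ω ψ * zc K ω' ψ : ℤ) : ℂ) := by
  conv_lhs => rw [Xi_eq_sum K ω, Xi_eq_sum K ω']
  rw [classInner_int_decomposition]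

theorem Xi_apply (ω : K →* ℂˣ) (g : G) :
    Xi K ω g = ∑ ψ : IrrCharacter G, (zc K ω ψ : ℂ) * (ψ : G → ℂ) g := by
  conv_lhs => rw [Xi_eq_sum K ω]
  simp only [Finset.sum_apply, Pi.smul_apply, smul_eq_mul]

theorem zc_eq_of_Xi_eq {ω ω' : K →* ℂˣ} (h : Xi K ω = Xi K ω') : zc K ω = zc K ω' := by
  funext χ
  have h1 := classInner_Xi_irr K ω χ
  have h2 := classInner_Xi_irr K ω' χ
  rw [h] at h1
  rw [h1] at h2
  exact_mod_cast h2

theorem zc_one (χ : IrrCharacter G) : zc K (1 : K →* ℂˣ) χ = 0 := by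
  have h1 := classInner_Xi_irr K 1 χ
  have h2 : Xi K (1 : K →* ℂˣ) = 0 := by
    unfold Xi
    rw [indFun_sub, sub_self]
  rw [h2, classInner_zero_left] at h1
  exact_mod_cast h1.symm

variable {K}

/-- The restriction formula: the values of an irreducible character on the nonidentity elements of
`K` in terms of the coefficients. -/
theorem restrict_formula (hab : ∀ a ∈ K, ∀ b ∈ K, a * b = b * a) [Fintype (K →* ℂˣ)]
    (χ : IrrCharacter G) (x : K) (hx : x ≠ 1) :
    (χ : G → ℂ) (x : G) = - ∑ ω : K →* ℂˣ, (zc K ω χ : ℂ) * linFun ω x := by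
  classical
  haveI : Fintype K := Fintype.ofFinite _
  have hcf : IsClassFunction G (χ : G → ℂ) :=
    isClassFunction_of_isCharacter (isCharacter_of_isIrrCharacter χ.2)
  have h1 := fourier hab (fun y : K => (χ : G → ℂ) (y : G)) x
  have h2 : ∀ ω : K →* ℂˣ, classInner (fun y : K => (χ : G → ℂ) (y : G)) (linFun ω)
      = classInner (fun y : K => (χ : G → ℂ) (y : G)) (linFun 1) - (zc K ω χ : ℂ) := by
    intro ω
    have h3 := classInner_Xi K ω (χ : G → ℂ) hcf
    rw [classInner_Xi_irr] at h3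
    have h4 := congrArg conj h3
    rw [map_sub, classInner_conj_symm, classInner_conj_symm, map_intCast] at h4
    rw [h4]; ring
  set m₁ := classInner (fun y : K => (χ : G → ℂ) (y : G)) (linFun 1) with hm₁
  have h5 : ∑ ω : K →* ℂˣ, classInner (fun y : K => (χ : G → ℂ) (y : G)) (linFun ω) * linFun ω x
      = m₁ * ∑ ω : K →* ℂˣ, linFun ω x - ∑ ω : K →* ℂˣ, (zc K ω χ : ℂ) * linFun ω x := by
    rw [Finset.mul_sum, ← Finset.sum_sub_distrib]
    apply Finset.sum_congr rfl
    intro ω _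
    rw [h2 ω]; ring
  rw [h5, sum_dual_apply hab, if_neg hx, mul_zero, zero_sub] at h1
  exact h1.symm

end Cfsg.Agent.Lib.Helper7.BSWc
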