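import Mathlib
import Cfsg.Prelude.Def_Characters
import Cfsg.Agent.Lib.Helper7.BSWc4

set_option autoImplicit false
set_option linter.style.haveILetI false
set_option linter.unusedSectionVars false
set_option linter.unusedVariables false

/-!
# Brauer–Suzuki–Wall, character theory, part 5: the character of order two
-/

namespace Cfsg.Agent.Lib.Helper7.BSWc

open Cfsg Cfsg.Agent.Lib.helper3.Irr Cfsg.Agent.Lib.helper3.CharBasic
open Cfsg.Agent.Lib.helper3.IndFun Cfsg.Agent.Lib.helper3.CycTI Cfsg.Agent.Lib.Helper7.BrP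
open Cfsg.Agent.Lib.helper3.Pf4 Cfsg.Agent.Lib.Helper7.ExcA
open scoped ComplexConjugate

variable {G : Type*} [Group G] {K : Subgroup G}

/-- The unique linear character of order two. -/
structure IsNu (ν : K →* ℂˣ) : Prop where
  ne_one : ν ≠ 1
  sq : ν * ν = 1
  uniq : ∀ ω : K →* ℂˣ, ω * ω = 1 → ω = 1 ∨ ω = ν

theorem exists_nu [Finite K] (hab : ∀ a ∈ K, ∀ b ∈ K, a * b = b * a) {t : G} (htK : t ∈ K)
    (ht : orderOf t = 2) (huniq : ∀ x ∈ K, x * x = 1 → x = 1 ∨ x = t) :
    ∃ ν : K →* ℂˣ, IsNu ν := by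
  obtain ⟨e⟩ := nonempty_dual_equiv hab
  have htt : t * t = 1 := by
    have := pow_orderOf_eq_one t
    rwa [ht, pow_two] at this
  have ht1 : t ≠ 1 := by
    intro h
    rw [h, orderOf_one] at ht
    omega
  refine ⟨e.symm ⟨t, htK⟩, ?_, ?_, ?_⟩
  · intro h
    have := congrArg e h
    rw [MulEquiv.apply_symm_apply, map_one] at this
    exact ht1 (congrArg Subtype.val this)
  · rw [← map_mul]
    have : (⟨t, htK⟩ : K) * ⟨t, htK⟩ = 1 := Subtype.ext htt
    rw [this, map_one]
  · intro ω hω
    have h1 : e ω * e ω = 1 := by rw [← map_mul, hω, map_one]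
    have h2 : ((e ω : K) : G) * ((e ω : K) : G) = 1 := congrArg Subtype.val h1
    rcases huniq _ (e ω).2 h2 with h3 | h3
    · left
      have : e ω = 1 := Subtype.ext h3
      rw [← map_one e] at this
      exact e.injective this
    · right
      have : e ω = ⟨t, htK⟩ := Subtype.ext h3
      rw [← this, MulEquiv.symm_apply_apply]

namespace IsNu

variable {ν : K →* ℂˣ} (hν : IsNu ν)
include hν

theorem inv_eq : ν⁻¹ = ν := by
  letI : CommGroup (K →* ℂˣ) := inferInstance
  exact inv_eq_of_mul_eq_one_left hν.sq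

theorem apply_mul_self (x : K) : linFun ν x * linFun ν x = 1 := by
  have := congrArg (fun ω : K →* ℂˣ => linFun ω x) hν.sq
  simpa [linFun] using this

theorem apply_eq (x : K) : linFun ν x = 1 ∨ linFun ν x = -1 := by
  have h := hν.apply_mul_self x
  have : (linFun ν x - 1) * (linFun ν x + 1) = 0 := by
    have e : (linFun ν x - 1) * (linFun ν x + 1) = linFun ν x * linFun ν x - 1 := by ring
    rw [e, h, sub_self]
  rcases mul_eq_zero.1 this with h1 | h1
  · left; exact sub_eq_zero.1 h1
  · right; exact eq_neg_of_add_eq_zero_left h1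

theorem exists_neg : ∃ x : K, linFun ν x = -1 := by
  by_contra hcon
  push Not at hcon
  apply hν.ne_one
  ext x
  rcases hν.apply_eq x with h | h
  · simpa [linFun] using h
  · exact absurd h (hcon x)

theorem conj_apply (x : K) : conj (linFun ν x) = linFun ν x := by
  rcases hν.apply_eq x with h | h <;> rw [h] <;> simp

theorem exists_pos [Finite K] {t : G} (huniq : ∀ x ∈ K, x * x = 1 → x = 1 ∨ x = t)
    (hk : 4 ≤ Nat.card K) : ∃ x : K, x ≠ 1 ∧ linFun ν x = 1 := by
  classical
  haveI : Fintype K := Fintype.ofFinite _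
  have hex : ∃ y : K, (y : G) * (y : G) ≠ 1 := by
    by_contra hcon
    push Not at hcon
    have hsub : (Finset.univ : Finset K) ⊆ ({1, 1} : Finset K) ∪
        (Finset.univ.filter (fun y : K => (y : G) = t)) := by
      intro y _
      rcases huniq y y.2 (hcon y) with h | h
      · apply Finset.mem_union_left
        simp only [Finset.mem_insert, Finset.mem_singleton, or_self]
        exact Subtype.ext h
      · apply Finset.mem_union_right
        simp only [Finset.mem_filter, Finset.mem_univ, true_and]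
        exact h
    have h1 := Finset.card_le_card hsub
    have h2 : (Finset.univ.filter (fun y : K => (y : G) = t)).card ≤ 1 := by
      rw [Finset.card_le_one]
      intro a ha b hb
      simp only [Finset.mem_filter, Finset.mem_univ, true_and] at ha hb
      exact Subtype.ext (ha.trans hb.symm)
    have h3 := Finset.card_union_le ({1, 1} : Finset K)
      (Finset.univ.filter (fun y : K => (y : G) = t))
    have h4 : ({1, 1} : Finset K).card ≤ 1 := by simp
    rw [Finset.card_univ, ← Nat.card_eq_fintype_card] at h1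
    omega
  obtain ⟨y, hy⟩ := hex
  refine ⟨y * y, ?_, ?_⟩
  · intro h
    exact hy (congrArg Subtype.val h)
  · have : linFun ν (y * y) = linFun ν y * linFun ν y := by simp [linFun]
    rw [this, hν.apply_mul_self]

end IsNu

/-- The value of a linear character at an involution. -/
theorem apply_invol_eq (ω : K →* ℂˣ) (x : K) (hx : x * x = 1) :
    linFun ω x = 1 ∨ linFun ω x = -1 := by
  have h : linFun ω x * linFun ω x = 1 := by
    have : linFun ω (x * x) = linFun ω x * linFun ω x := by simp [linFun]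
    rw [← this, hx]
    simp [linFun]
  have : (linFun ω x - 1) * (linFun ω x + 1) = 0 := by
    have e : (linFun ω x - 1) * (linFun ω x + 1) = linFun ω x * linFun ω x - 1 := by ring
    rw [e, h, sub_self]
  rcases mul_eq_zero.1 this with h1 | h1
  · left; exact sub_eq_zero.1 h1
  · right; exact eq_neg_of_add_eq_zero_left h1

section sums

variable [Fintype (K →* ℂˣ)] [DecidableEq (K →* ℂˣ)] {ν : K →* ℂˣ} (hν : IsNu ν)
include hν

/-- The linear characters of order greater than two. -/
def Lam (K : Subgroup G) [Fintype (K →* ℂˣ)] [DecidableEq (K →* ℂˣ)] : Finset (K →* ℂˣ) :=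
  Finset.univ.filter (fun ω => ω * ω ≠ 1)

omit hν in
theorem mem_Lam {ω : K →* ℂˣ} : ω ∈ Lam K ↔ ω * ω ≠ 1 := by
  simp [Lam]

omit hν in
theorem inv_mem_Lam {ω : K →* ℂˣ} (h : ω ∈ Lam K) : ω⁻¹ ∈ Lam K := by
  rw [mem_Lam] at h ⊢
  intro h1
  apply h
  ext x
  have h2 := congrArg (fun f : K →* ℂˣ => f x) h1
  simp only [MonoidHom.mul_apply, MonoidHom.inv_apply, MonoidHom.one_apply] at h2 ⊢
  rw [← mul_inv_rev, inv_eq_one] at h2
  rw [h2]

omit hν in
theorem ne_inv_of_mem_Lam {ω : K →* ℂˣ} (h : ω ∈ Lam K) : ω ≠ ω⁻¹ := by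
  rw [mem_Lam] at h
  intro h1
  apply h
  have h2 : ω * ω = ω * ω⁻¹ := congrArg (fun f => ω * f) h1
  rw [h2]
  exact mul_inv_cancel ω

omit hν in
theorem ne_one_of_mem_Lam {ω : K →* ℂˣ} (h : ω ∈ Lam K) : ω ≠ 1 := by
  rw [mem_Lam] at h
  intro h1
  apply h
  rw [h1]
  exact one_mul (1 : K →* ℂˣ)

theorem ne_nu_of_mem_Lam {ω : K →* ℂˣ} (h : ω ∈ Lam K) : ω ≠ ν := by
  rw [mem_Lam] at h
  intro h1
  apply h
  rw [h1, hν.sq]

theorem sum_dual_split {M : Type*} [AddCommMonoid M] (F : (K →* ℂˣ) → M) :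
    ∑ ω : K →* ℂˣ, F ω = F 1 + F ν + ∑ ω ∈ Lam K, F ω := by
  have h1 : (Finset.univ : Finset (K →* ℂˣ)) = insert 1 (insert ν (Lam K)) := by
    ext ω
    simp only [Finset.mem_univ, Finset.mem_insert, true_iff]
    by_cases h : ω * ω = 1
    · rcases hν.uniq ω h with h2 | h2
      · exact Or.inl h2
      · exact Or.inr (Or.inl h2)
    · exact Or.inr (Or.inr (mem_Lam.2 h))
  rw [h1, Finset.sum_insert, Finset.sum_insert, add_assoc]
  · intro h
    exact ne_nu_of_mem_Lam hν h rfl
  · intro h
    rcases Finset.mem_insert.1 h with h2 | h2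
    · exact hν.ne_one h2.symm
    · exact ne_one_of_mem_Lam h2 rfl

theorem card_Lam [Finite K] (hab : ∀ a ∈ K, ∀ b ∈ K, a * b = b * a) :
    (Lam K).card + 2 = Nat.card K := by
  have h := sum_dual_split hν (fun _ => (1 : ℕ))
  simp only [Finset.sum_const, smul_eq_mul, mul_one, Finset.card_univ] at h
  rw [← card_dual hab, Nat.card_eq_fintype_card, h]
  ring

theorem sum_Lam_apply [Finite K] (hab : ∀ a ∈ K, ∀ b ∈ K, a * b = b * a) (x : K) (hx : x ≠ 1) :
    ∑ ω ∈ Lam K, linFun ω x = -1 - linFun ν x := by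
  classical
  have h := sum_dual_split hν (fun ω => linFun ω x)
  rw [sum_dual_apply hab, if_neg hx] at h
  have h1 : linFun (1 : K →* ℂˣ) x = 1 := by simp [linFun]
  rw [h1] at h
  linear_combination -h

omit hν in
theorem sum_Lam_inv {M : Type*} [AddCommMonoid M] (F : (K →* ℂˣ) → M) :
    ∑ ω ∈ Lam K, F ω⁻¹ = ∑ ω ∈ Lam K, F ω := by
  apply Finset.sum_nbij' (fun ω => ω⁻¹) (fun ω => ω⁻¹)
  · intro ω hω; exact inv_mem_Lam hω
  · intro ω hω; exact inv_mem_Lam hω
  · intro ω _; exact inv_inv ω
  · intro ω _; exact inv_inv ω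
  · intro ω _; rfl

end sums

end Cfsg.Agent.Lib.Helper7.BSWc
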