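import Mathlib
import Cfsg.Prelude.Def_Characters
import Cfsg.Agent.Lib.Helper7.BSWc5

set_option autoImplicit false
set_option linter.style.haveILetI false
set_option linter.unusedSectionVars false
set_option linter.unusedVariables false

/-!
# Brauer–Suzuki–Wall, character theory, part 6: the abstract data attached to the group
-/

namespace Cfsg.Agent.Lib.Helper7.BSWc

open Cfsg Cfsg.Agent.Lib.helper3.Irr Cfsg.Agent.Lib.helper3.CharBasic
open Cfsg.Agent.Lib.helper3.IndFun Cfsg.Agent.Lib.helper3.CycTI Cfsg.Agent.Lib.Helper7.BrP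
open Cfsg.Agent.Lib.helper3.Pf4 Cfsg.Agent.Lib.Helper7.ExcA
open scoped ComplexConjugate

variable {G : Type*} [Group G] [Fintype G]

/-- The degree of an irreducible character, as an integer. -/
noncomputable def deg (χ : IrrCharacter G) : ℤ :=
  ((Classical.choose (exists_pos_nat_apply_one χ.2) : ℕ) : ℤ)

theorem deg_pos (χ : IrrCharacter G) : 0 < deg χ := by
  unfold deg
  exact_mod_cast (Classical.choose_spec (exists_pos_nat_apply_one χ.2)).1

theorem deg_spec (χ : IrrCharacter G) : (χ : G → ℂ) 1 = (deg χ : ℂ) := by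
  unfold deg
  have := (Classical.choose_spec (exists_pos_nat_apply_one χ.2)).2
  rw [Int.cast_natCast]
  exact this

theorem deg_trivIrr : deg (trivIrr G) = 1 := by
  have h := deg_spec (trivIrr G)
  have h1 : ((trivIrr G : IrrCharacter G) : G → ℂ) 1 = 1 := rfl
  rw [h1] at h
  exact_mod_cast h.symm

variable {K : Subgroup G} [Fintype (K →* ℂˣ)] [DecidableEq (K →* ℂˣ)]
  [DecidableEq (IrrCharacter G)]

theorem zc_trivIrr {ω : K →* ℂˣ} (hω : ω ≠ 1) : zc K ω (trivIrr G) = 1 := by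
  haveI : Fintype K := Fintype.ofFinite _
  have h1 := classInner_Xi_irr K ω (trivIrr G)
  have h2 : ((trivIrr G : IrrCharacter G) : G → ℂ) = fun _ => 1 := rfl
  rw [h2, classInner_Xi_one K hω] at h1
  exact_mod_cast h1.symm

theorem sum_zc_mul_deg (ω : K →* ℂˣ) : ∑ ψ : IrrCharacter G, zc K ω ψ * deg ψ = 0 := by
  have h1 := Xi_apply K ω 1
  rw [Xi_apply_one] at h1
  have h2 : ((∑ ψ : IrrCharacter G, zc K ω ψ * deg ψ : ℤ) : ℂ) = 0 := by
    rw [h1]
    push_cast
    apply Finset.sum_congr rfl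
    intro ψ _
    rw [deg_spec]
  exact_mod_cast h2

theorem sum_zc_mul_zc (h : KHyp K) (ω ω' : K →* ℂˣ) (hω : ω ≠ 1) (hω' : ω' ≠ 1) :
    ∑ ψ : IrrCharacter G, zc K ω ψ * zc K ω' ψ =
      2 + (if ω = ω' then 1 else 0) + (if ω = ω'⁻¹ then 1 else 0) := by
  have h1 := classInner_Xi_Xi K ω ω'
  have h2 := h.gram ω ω' hω hω'
  have h3 : ((∑ ψ : IrrCharacter G, zc K ω ψ * zc K ω' ψ : ℤ) : ℂ) =
      ((2 + (if ω = ω' then 1 else 0) + (if ω = ω'⁻¹ then 1 else 0) : ℤ) : ℂ) := by
    rw [← h1]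
    push_cast
    convert h2 using 2
    · congr 1
      split_ifs <;> simp
    · split_ifs <;> simp
  exact_mod_cast h3

variable (h : KHyp K) (hne : ∃ n ∈ Subgroup.normalizer (K : Set G), n ∉ K) {ν : K →* ℂˣ}
  (hν : IsNu ν)

/-- The abstract data. -/
noncomputable def vecs (h : KHyp K) (hne : ∃ n ∈ Subgroup.normalizer (K : Set G), n ∉ K)
    {ν : K →* ℂˣ} (hν : IsNu ν) : Vecs {ω : K →* ℂˣ // ω ∈ Lam K} (IrrCharacter G) where
  o := trivIrr G
  d := deg
  a := fun j => zc K j.1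
  c := zc K ν
  hd := deg_pos
  hdo := deg_trivIrr
  hao := fun j => zc_trivIrr (ne_one_of_mem_Lam j.2)
  hco := zc_trivIrr hν.ne_one
  haa := fun j => by
    have := sum_zc_mul_zc h j.1 j.1 (ne_one_of_mem_Lam j.2) (ne_one_of_mem_Lam j.2)
    rw [if_pos rfl, if_neg (ne_inv_of_mem_Lam j.2)] at this
    simp only [sq]
    rw [this]; norm_num
  haa' := fun j j' hjj => by
    have h1 : j.1 ≠ j'.1 := by
      intro e
      apply hjj
      rw [e]
    have h2 : j.1 ≠ j'.1⁻¹ := by
      intro e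
      apply hjj
      rw [e]
      exact zc_eq_of_Xi_eq K (h.Xi_inv hne j'.1)
    have := sum_zc_mul_zc h j.1 j'.1 (ne_one_of_mem_Lam j.2) (ne_one_of_mem_Lam j'.2)
    rw [if_neg h1, if_neg h2] at this
    rw [this]; norm_num
  hac := fun j => by
    have := sum_zc_mul_zc h j.1 ν (ne_one_of_mem_Lam j.2) hν.ne_one
    rw [hν.inv_eq, if_neg (ne_nu_of_mem_Lam hν j.2)] at this
    rw [this]; norm_num
  hcc := by
    have := sum_zc_mul_zc h ν ν hν.ne_one hν.ne_one
    rw [hν.inv_eq, if_pos rfl] at this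
    simp only [sq]
    rw [this]; norm_num
  had := fun j => sum_zc_mul_deg j.1
  hcd := sum_zc_mul_deg ν

end Cfsg.Agent.Lib.Helper7.BSWc
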