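import Mathlib
import Cfsg.Prelude.Def_Characters
import Cfsg.Agent.Lib.Helper7.BSWc6

set_option autoImplicit false
set_option linter.style.haveILetI false
set_option linter.unusedSectionVars false
set_option linter.unusedVariables false

/-!
# Brauer–Suzuki–Wall, character theory, part 7: the main case and the exceptional case
-/

namespace Cfsg.Agent.Lib.Helper7.BSWc

open Cfsg Cfsg.Agent.Lib.helper3.Irr Cfsg.Agent.Lib.helper3.CharBasic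
open Cfsg.Agent.Lib.helper3.IndFun Cfsg.Agent.Lib.helper3.CycTI Cfsg.Agent.Lib.Helper7.BrP
open Cfsg.Agent.Lib.helper3.Pf4 Cfsg.Agent.Lib.Helper7.ExcA
open scoped ComplexConjugate

variable {G : Type*} [Group G] [Fintype G]

/-- The data of the main case. -/
structure Main (K : Subgroup G) [Fintype (K →* ℂˣ)] [DecidableEq (K →* ℂˣ)]
    [DecidableEq (IrrCharacter G)] (ν : K →* ℂˣ) where
  δ : ℤ
  X : IrrCharacter G
  L : (K →* ℂˣ) → IrrCharacter G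
  Y₁ : IrrCharacter G
  Y₂ : IrrCharacter G
  c₁ : ℤ
  c₂ : ℤ
  hδ : δ = 1 ∨ δ = -1
  hc₁ : c₁ = 1 ∨ c₁ = -1
  hc₂ : c₂ = 1 ∨ c₂ = -1
  hXo : X ≠ trivIrr G
  hY₁o : Y₁ ≠ trivIrr G
  hY₁X : Y₁ ≠ X
  hY₂o : Y₂ ≠ trivIrr G
  hY₂X : Y₂ ≠ X
  hY : Y₁ ≠ Y₂
  hLo : ∀ ω ∈ Lam K, L ω ≠ trivIrr G
  hLX : ∀ ω ∈ Lam K, L ω ≠ X
  hLY₁ : ∀ ω ∈ Lam K, L ω ≠ Y₁
  hLY₂ : ∀ ω ∈ Lam K, L ω ≠ Y₂
  hLL : ∀ ω ∈ Lam K, ∀ ω' ∈ Lam K, L ω = L ω' ↔ (ω' = ω ∨ ω' = ω⁻¹)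
  hz : ∀ ω ∈ Lam K, ∀ χ, zc K ω χ = ind (trivIrr G) χ + δ * ind X χ - δ * ind (L ω) χ
  hzν : ∀ χ, zc K ν χ = ind (trivIrr G) χ + δ * ind X χ + c₁ * ind Y₁ χ + c₂ * ind Y₂ χ
  hdeg : ∀ ω ∈ Lam K, deg (L ω) = deg X + δ

/-- The data of the exceptional case. -/
structure Exc (K : Subgroup G) [Fintype (K →* ℂˣ)] [DecidableEq (K →* ℂˣ)]
    [DecidableEq (IrrCharacter G)] (ν : K →* ℂˣ) where
  δ : ℤ
  L : IrrCharacter G
  X : (K →* ℂˣ) → IrrCharacter G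
  hδ : δ = 1 ∨ δ = -1
  hLo : L ≠ trivIrr G
  hXo : ∀ ω ∈ Lam K, X ω ≠ trivIrr G
  hXL : ∀ ω ∈ Lam K, X ω ≠ L
  hXX : ∀ ω ∈ Lam K, ∀ ω' ∈ Lam K, X ω = X ω' ↔ (ω' = ω ∨ ω' = ω⁻¹)
  hz : ∀ ω ∈ Lam K, ∀ χ, zc K ω χ = ind (trivIrr G) χ + δ * ind (X ω) χ - δ * ind L χ
  hcX : ∀ ω ∈ Lam K, zc K ν (X ω) = δ
  hcL : zc K ν L = 0
  hdeg : ∀ ω ∈ Lam K, deg L = deg (X ω) + δ
  hex : ∃ ω ∈ Lam K, ∃ ω' ∈ Lam K, ω' ≠ ω ∧ ω' ≠ ω⁻¹

variable {K : Subgroup G} [Fintype (K →* ℂˣ)] [DecidableEq (K →* ℂˣ)]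
  [DecidableEq (IrrCharacter G)]

theorem zc_eq_iff (h : KHyp K) (hne : ∃ n ∈ Subgroup.normalizer (K : Set G), n ∉ K)
    {ω ω' : K →* ℂˣ} (hω : ω ∈ Lam K) (hω' : ω' ∈ Lam K) :
    zc K ω = zc K ω' ↔ (ω' = ω ∨ ω' = ω⁻¹) := by
  constructor
  · intro e
    by_contra hcon
    push Not at hcon
    have h1 := sum_zc_mul_zc h ω ω (ne_one_of_mem_Lam hω) (ne_one_of_mem_Lam hω)
    have h2 := sum_zc_mul_zc h ω ω' (ne_one_of_mem_Lam hω) (ne_one_of_mem_Lam hω')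
    rw [if_pos rfl, if_neg (ne_inv_of_mem_Lam hω)] at h1
    rw [if_neg (fun e' => hcon.1 e'.symm), if_neg (fun e' => hcon.2 (by
      rw [e']; exact inv_inv ω'))] at h2
    rw [← e, h1] at h2
    omega
  · rintro (e | e)
    · rw [e]
    · rw [e]
      exact (zc_eq_of_Xi_eq K (h.Xi_inv hne ω)).symm

/-- Either the main case or the exceptional case holds. -/
theorem main_or_exc (h : KHyp K) (hne : ∃ n ∈ Subgroup.normalizer (K : Set G), n ∉ K)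
    {ν : K →* ℂˣ} (hν : IsNu ν) (hLam : (Lam K).Nonempty) :
    Nonempty (Main K ν) ∨ Nonempty (Exc K ν) := by
  set V := vecs h hne hν with hV
  obtain ⟨δ, X', L', hδ, hS⟩ := V.exists_decomp
  obtain ⟨ω₀, hω₀⟩ := hLam
  -- extend to all linear characters
  set X : (K →* ℂˣ) → IrrCharacter G := fun ω => if hω : ω ∈ Lam K then X' ⟨ω, hω⟩ else trivIrr G
    with hX
  set L : (K →* ℂˣ) → IrrCharacter G := fun ω => if hω : ω ∈ Lam K then L' ⟨ω, hω⟩ else trivIrr G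
    with hL
  have hXe : ∀ ω (hω : ω ∈ Lam K), X ω = X' ⟨ω, hω⟩ := fun ω hω => by
    simp only [hX, dif_pos hω]
  have hLe : ∀ ω (hω : ω ∈ Lam K), L ω = L' ⟨ω, hω⟩ := fun ω hω => by
    simp only [hL, dif_pos hω]
  have hSh : ∀ ω (hω : ω ∈ Lam K), V.Shape ⟨ω, hω⟩ δ (X ω) (L ω) := fun ω hω => by
    rw [hXe ω hω, hLe ω hω]; exact hS _
  have hVa : ∀ ω (hω : ω ∈ Lam K), V.a ⟨ω, hω⟩ = zc K ω := fun ω hω => rfl
  have hVc : V.c = zc K ν := rfl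
  have hVo : V.o = trivIrr G := rfl
  have hVd : V.d = deg := rfl
  have hiff : ∀ ω (hω : ω ∈ Lam K) ω' (hω' : ω' ∈ Lam K),
      V.a ⟨ω, hω⟩ = V.a ⟨ω', hω'⟩ ↔ (ω' = ω ∨ ω' = ω⁻¹) := fun ω hω ω' hω' =>
    zc_eq_iff h hne hω hω'
  rcases V.dichotomy hS with hM | ⟨⟨j₁, j₂, hj12⟩, hE⟩
  · -- main case
    left
    have hXall : ∀ ω (hω : ω ∈ Lam K), X ω = X ω₀ := fun ω hω => by
      rw [hXe ω hω, hXe ω₀ hω₀]; exact hM _ _
    obtain ⟨-, hXL₀, hXo₀, hLo₀, hf₀, hcX₀, hcL₀, hdL₀⟩ := hSh ω₀ hω₀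
    obtain ⟨Y₁, Y₂, c₁, c₂, hY, hY₁o, hY₁X, hY₂o, hY₂X, hc₁, hc₂, hc⟩ :=
      V.main_c hδ hXo₀ hcX₀
    have hcY₁ : V.c Y₁ = c₁ := by
      rw [hc Y₁, ind_ne hY₁o, ind_ne hY₁X, ind_self, ind_ne hY]; ring
    have hcY₂ : V.c Y₂ = c₂ := by
      rw [hc Y₂, ind_ne hY₂o, ind_ne hY₂X, ind_self, ind_ne hY.symm]; ring
    refine ⟨⟨δ, X ω₀, L, Y₁, Y₂, c₁, c₂, hδ, hc₁, hc₂, hXo₀, hY₁o, hY₁X, hY₂o, hY₂X, hY,
      ?_, ?_, ?_, ?_, ?_, ?_, hc, ?_⟩⟩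
    · intro ω hω; exact (hSh ω hω).2.2.2.1
    · intro ω hω
      have := (hSh ω hω).2.1
      rw [hXall ω hω] at this
      exact this.symm
    · intro ω hω e
      have := (hSh ω hω).2.2.2.2.2.2.1
      rw [e, hcY₁] at this
      rcases hc₁ with h1 | h1 <;> omega
    · intro ω hω e
      have := (hSh ω hω).2.2.2.2.2.2.1
      rw [e, hcY₂] at this
      rcases hc₂ with h1 | h1 <;> omega
    · intro ω hω ω' hω'
      rw [← hiff ω hω ω' hω']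
      constructor
      · intro e
        by_contra hne'
        rcases (V.shape_pair (hSh ω hω) (hSh ω' hω') hne').2 with h1 | h1
        · exact h1.2 e
        · exact h1.1 ((hXall ω hω).trans (hXall ω' hω').symm)
      · intro e
        exact (V.shape_unique (hSh ω hω) (hSh ω' hω') e).2.2
    · intro ω hω χ
      have := (hSh ω hω).2.2.2.2.1 χ
      rw [hXall ω hω] at this
      exact this
    · intro ω hω
      have := (hSh ω hω).2.2.2.2.2.2.2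
      rw [hXall ω hω] at this
      exact this
  · -- exceptional case
    right
    have hj12' : ¬ (j₂.1 = j₁.1 ∨ j₂.1 = j₁.1⁻¹) := by
      intro e
      exact hj12 ((hiff j₁.1 j₁.2 j₂.1 j₂.2).2 e)
    have hLall : ∀ ω (hω : ω ∈ Lam K), L ω = L ω₀ := by
      intro ω hω
      by_cases e : V.a ⟨ω, hω⟩ = V.a ⟨ω₀, hω₀⟩
      · exact (V.shape_unique (hSh ω hω) (hSh ω₀ hω₀) e).2.2
      · have := (hE ⟨ω, hω⟩ ⟨ω₀, hω₀⟩ e).2
        rw [hLe ω hω, hLe ω₀ hω₀]; exact this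
    obtain ⟨-, hXL₀, hXo₀, hLo₀, hf₀, hcX₀, hcL₀, hdL₀⟩ := hSh ω₀ hω₀
    refine ⟨⟨δ, L ω₀, X, hδ, hLo₀, ?_, ?_, ?_, ?_, ?_, hcL₀, ?_,
      ⟨j₁.1, j₁.2, j₂.1, j₂.2, fun e => hj12' (Or.inl e), fun e => hj12' (Or.inr e)⟩⟩⟩
    · intro ω hω; exact (hSh ω hω).2.2.1
    · intro ω hω
      have := (hSh ω hω).2.1
      rw [hLall ω hω] at this
      exact this
    · intro ω hω ω' hω'
      rw [← hiff ω hω ω' hω']
      constructor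
      · intro e
        by_contra hne'
        have := (hE ⟨ω, hω⟩ ⟨ω', hω'⟩ hne').1
        rw [← hXe ω hω, ← hXe ω' hω'] at this
        exact this e
      · intro e
        exact (V.shape_unique (hSh ω hω) (hSh ω' hω') e).2.1
    · intro ω hω χ
      have := (hSh ω hω).2.2.2.2.1 χ
      rw [hLall ω hω] at this
      exact this
    · intro ω hω; exact (hSh ω hω).2.2.2.2.2.1
    · intro ω hω
      have := (hSh ω hω).2.2.2.2.2.2.2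
      rw [hLall ω hω] at this
      exact this

end Cfsg.Agent.Lib.Helper7.BSWc
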