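import Mathlib
import Cfsg.Prelude.Def_Characters
import Cfsg.Agent.Lib.Helper7.BSWc7

set_option autoImplicit false
set_option linter.style.haveILetI false
set_option linter.unusedSectionVars false
set_option linter.unusedVariables false

/-!
# Brauer–Suzuki–Wall, character theory, part 8: the main case, values on `K` and sums over the
irreducible characters
-/

namespace Cfsg.Agent.Lib.Helper7.BSWc

open Cfsg Cfsg.Agent.Lib.helper3.Irr Cfsg.Agent.Lib.helper3.CharBasic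
open Cfsg.Agent.Lib.helper3.IndFun Cfsg.Agent.Lib.helper3.CycTI Cfsg.Agent.Lib.Helper7.BrP
open Cfsg.Agent.Lib.helper3.Pf4 Cfsg.Agent.Lib.Helper7.ExcA
open scoped ComplexConjugate

variable {G : Type*} [Group G] [Fintype G] {K : Subgroup G} [Fintype (K →* ℂˣ)]
  [DecidableEq (K →* ℂˣ)] [DecidableEq (IrrCharacter G)] {ν : K →* ℂˣ}

/-- The restriction formula, split along the dual group. -/
theorem restrict_split (hab : ∀ a ∈ K, ∀ b ∈ K, a * b = b * a) (hν : IsNu ν)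
    (χ : IrrCharacter G) (x : K) (hx : x ≠ 1) :
    (χ : G → ℂ) (x : G) = - ((zc K ν χ : ℂ) * linFun ν x +
      ∑ ω ∈ Lam K, (zc K ω χ : ℂ) * linFun ω x) := by
  rw [restrict_formula hab χ x hx, sum_dual_split hν, zc_one]
  push_cast
  ring

/-- A sum over the pair `{μ, μ⁻¹}`. -/
theorem sum_Lam_pair {M : Type*} [AddCommMonoid M] {μ : K →* ℂˣ} (hμ : μ ∈ Lam K)
    (F : (K →* ℂˣ) → M) :
    ∑ ω ∈ Lam K, (if ω = μ ∨ ω = μ⁻¹ then F ω else 0) = F μ + F μ⁻¹ := by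
  rw [← Finset.sum_filter]
  have h1 : (Lam K).filter (fun ω => ω = μ ∨ ω = μ⁻¹) = {μ, μ⁻¹} := by
    ext ω
    simp only [Finset.mem_filter, Finset.mem_insert, Finset.mem_singleton]
    constructor
    · exact fun h => h.2
    · rintro (h | h)
      · exact ⟨h ▸ hμ, Or.inl h⟩
      · exact ⟨h ▸ inv_mem_Lam hμ, Or.inr h⟩
  rw [h1, Finset.sum_pair (ne_inv_of_mem_Lam hμ)]

namespace Main

variable (M : Main K ν)

theorem zν_X : zc K ν M.X = M.δ := by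
  rw [M.hzν, ind_ne M.hXo, ind_self, ind_ne M.hY₁X.symm, ind_ne M.hY₂X.symm]; ring

theorem z_X {ω : K →* ℂˣ} (hω : ω ∈ Lam K) : zc K ω M.X = M.δ := by
  rw [M.hz ω hω, ind_ne M.hXo, ind_self, ind_ne (M.hLX ω hω).symm]; ring

theorem zν_L {μ : K →* ℂˣ} (hμ : μ ∈ Lam K) : zc K ν (M.L μ) = 0 := by
  rw [M.hzν, ind_ne (M.hLo μ hμ), ind_ne (M.hLX μ hμ), ind_ne (M.hLY₁ μ hμ),
    ind_ne (M.hLY₂ μ hμ)]; ring

theorem z_L {ω μ : K →* ℂˣ} (hω : ω ∈ Lam K) (hμ : μ ∈ Lam K) :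
    zc K ω (M.L μ) = if ω = μ ∨ ω = μ⁻¹ then -M.δ else 0 := by
  rw [M.hz ω hω, ind_ne (M.hLo μ hμ), ind_ne (M.hLX μ hμ)]
  by_cases e : ω = μ ∨ ω = μ⁻¹
  · rw [if_pos e, ((M.hLL μ hμ ω hω).2 e), ind_self]; ring
  · rw [if_neg e, ind_ne (fun e' => e ((M.hLL μ hμ ω hω).1 e'))]; ring

theorem zν_Y₁ : zc K ν M.Y₁ = M.c₁ := by
  rw [M.hzν, ind_ne M.hY₁o, ind_ne M.hY₁X, ind_self, ind_ne M.hY]; ring

theorem zν_Y₂ : zc K ν M.Y₂ = M.c₂ := by
  rw [M.hzν, ind_ne M.hY₂o, ind_ne M.hY₂X, ind_self, ind_ne M.hY.symm]; ring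

theorem z_Y₁ {ω : K →* ℂˣ} (hω : ω ∈ Lam K) : zc K ω M.Y₁ = 0 := by
  rw [M.hz ω hω, ind_ne M.hY₁o, ind_ne M.hY₁X, ind_ne (M.hLY₁ ω hω).symm]; ring

theorem z_Y₂ {ω : K →* ℂˣ} (hω : ω ∈ Lam K) : zc K ω M.Y₂ = 0 := by
  rw [M.hz ω hω, ind_ne M.hY₂o, ind_ne M.hY₂X, ind_ne (M.hLY₂ ω hω).symm]; ring

/-- The characters which do not vanish on `K^#`. -/
def Special (χ : IrrCharacter G) : Prop :=
  χ = trivIrr G ∨ χ = M.X ∨ χ = M.Y₁ ∨ χ = M.Y₂ ∨ ∃ ω ∈ Lam K, χ = M.L ω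

theorem zν_other {χ : IrrCharacter G} (hχ : ¬ M.Special χ) : zc K ν χ = 0 := by
  unfold Special at hχ
  push Not at hχ
  rw [M.hzν, ind_ne hχ.1, ind_ne hχ.2.1, ind_ne hχ.2.2.1, ind_ne hχ.2.2.2.1]; ring

theorem z_other {χ : IrrCharacter G} (hχ : ¬ M.Special χ) {ω : K →* ℂˣ} (hω : ω ∈ Lam K) :
    zc K ω χ = 0 := by
  unfold Special at hχ
  push Not at hχ
  rw [M.hz ω hω, ind_ne hχ.1, ind_ne hχ.2.1, ind_ne (hχ.2.2.2.2 ω hω)]; ring

variable (hab : ∀ a ∈ K, ∀ b ∈ K, a * b = b * a) (hν : IsNu ν)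
include hab hν

theorem X_apply [Finite K] (x : K) (hx : x ≠ 1) : (M.X : G → ℂ) (x : G) = (M.δ : ℂ) := by
  rw [restrict_split hab hν M.X x hx, M.zν_X]
  have h1 : ∑ ω ∈ Lam K, (zc K ω M.X : ℂ) * linFun ω x = (M.δ : ℂ) * ∑ ω ∈ Lam K, linFun ω x := by
    rw [Finset.mul_sum]
    apply Finset.sum_congr rfl
    intro ω hω
    rw [M.z_X hω]
  rw [h1, sum_Lam_apply hν hab x hx]
  ring

theorem L_apply {μ : K →* ℂˣ} (hμ : μ ∈ Lam K) (x : K) (hx : x ≠ 1) :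
    (M.L μ : G → ℂ) (x : G) = (M.δ : ℂ) * (linFun μ x + linFun μ⁻¹ x) := by
  rw [restrict_split hab hν (M.L μ) x hx, M.zν_L hμ]
  have h1 : ∑ ω ∈ Lam K, (zc K ω (M.L μ) : ℂ) * linFun ω x
      = ∑ ω ∈ Lam K, (if ω = μ ∨ ω = μ⁻¹ then -(M.δ : ℂ) * linFun ω x else 0) := by
    apply Finset.sum_congr rfl
    intro ω hω
    rw [M.z_L hω hμ]
    split_ifs <;> push_cast <;> ring
  rw [h1, sum_Lam_pair hμ]
  push_cast
  ring

theorem Y₁_apply (x : K) (hx : x ≠ 1) :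
    (M.Y₁ : G → ℂ) (x : G) = -(M.c₁ : ℂ) * linFun ν x := by
  rw [restrict_split hab hν M.Y₁ x hx, M.zν_Y₁]
  have h1 : ∑ ω ∈ Lam K, (zc K ω M.Y₁ : ℂ) * linFun ω x = 0 := by
    apply Finset.sum_eq_zero
    intro ω hω
    rw [M.z_Y₁ hω]; simp
  rw [h1]; ring

theorem Y₂_apply (x : K) (hx : x ≠ 1) :
    (M.Y₂ : G → ℂ) (x : G) = -(M.c₂ : ℂ) * linFun ν x := by
  rw [restrict_split hab hν M.Y₂ x hx, M.zν_Y₂]
  have h1 : ∑ ω ∈ Lam K, (zc K ω M.Y₂ : ℂ) * linFun ω x = 0 := by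
    apply Finset.sum_eq_zero
    intro ω hω
    rw [M.z_Y₂ hω]; simp
  rw [h1]; ring

theorem other_apply {χ : IrrCharacter G} (hχ : ¬ M.Special χ) (x : K) (hx : x ≠ 1) :
    (χ : G → ℂ) (x : G) = 0 := by
  rw [restrict_split hab hν χ x hx, M.zν_other hχ]
  have h1 : ∑ ω ∈ Lam K, (zc K ω χ : ℂ) * linFun ω x = 0 := by
    apply Finset.sum_eq_zero
    intro ω hω
    rw [M.z_other hχ hω]; simp
  rw [h1]; simp

omit hab hν in
/-- Sums over the exceptional characters `L ω`. -/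
theorem sum_image_L {N : Type*} [AddCommMonoid N] (F : IrrCharacter G → N) :
    ∑ ω ∈ Lam K, F (M.L ω) = 2 • ∑ χ ∈ (Lam K).image M.L, F χ := by
  rw [Finset.sum_comp, Finset.smul_sum]
  apply Finset.sum_congr rfl
  intro χ hχ
  obtain ⟨μ, hμ, rfl⟩ := Finset.mem_image.1 hχ
  have h1 : (Lam K).filter (fun ω => M.L ω = M.L μ) = {μ, μ⁻¹} := by
    ext ω
    simp only [Finset.mem_filter, Finset.mem_insert, Finset.mem_singleton]
    constructor
    · rintro ⟨hω, e⟩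
      exact (M.hLL μ hμ ω hω).1 e.symm
    · intro e
      have hω : ω ∈ Lam K := by
        rcases e with e | e
        · exact e ▸ hμ
        · exact e ▸ inv_mem_Lam hμ
      exact ⟨hω, ((M.hLL μ hμ ω hω).2 e).symm⟩
  rw [h1, Finset.card_pair (ne_inv_of_mem_Lam hμ)]

omit hab hν in
/-- The finite set of special characters. -/
theorem sum_special {N : Type*} [AddCommMonoid N] (F : IrrCharacter G → N) :
    ∑ χ ∈ insert (trivIrr G) (insert M.X (insert M.Y₁ (insert M.Y₂ ((Lam K).image M.L)))), F χ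
      = F (trivIrr G) + (F M.X + (F M.Y₁ + (F M.Y₂ + ∑ χ ∈ (Lam K).image M.L, F χ))) := by
  have hY₂ : M.Y₂ ∉ (Lam K).image M.L := by
    intro hc
    obtain ⟨ω, hω, e⟩ := Finset.mem_image.1 hc
    exact M.hLY₂ ω hω e
  have hY₁ : M.Y₁ ∉ insert M.Y₂ ((Lam K).image M.L) := by
    intro hc
    rcases Finset.mem_insert.1 hc with e | hc
    · exact M.hY e
    · obtain ⟨ω, hω, e⟩ := Finset.mem_image.1 hc
      exact M.hLY₁ ω hω e
  have hX : M.X ∉ insert M.Y₁ (insert M.Y₂ ((Lam K).image M.L)) := by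
    intro hc
    rcases Finset.mem_insert.1 hc with e | hc
    · exact M.hY₁X e.symm
    · rcases Finset.mem_insert.1 hc with e | hc
      · exact M.hY₂X e.symm
      · obtain ⟨ω, hω, e⟩ := Finset.mem_image.1 hc
        exact M.hLX ω hω e
  have ho : trivIrr G ∉ insert M.X (insert M.Y₁ (insert M.Y₂ ((Lam K).image M.L))) := by
    intro hc
    rcases Finset.mem_insert.1 hc with e | hc
    · exact M.hXo e.symm
    · rcases Finset.mem_insert.1 hc with e | hc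
      · exact M.hY₁o e.symm
      · rcases Finset.mem_insert.1 hc with e | hc
        · exact M.hY₂o e.symm
        · obtain ⟨ω, hω, e⟩ := Finset.mem_image.1 hc
          exact M.hLo ω hω e
  rw [Finset.sum_insert ho, Finset.sum_insert hX, Finset.sum_insert hY₁, Finset.sum_insert hY₂]

omit hab hν in
theorem mem_special_iff (χ : IrrCharacter G) :
    χ ∈ insert (trivIrr G) (insert M.X (insert M.Y₁ (insert M.Y₂ ((Lam K).image M.L)))) ↔
      M.Special χ := by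
  simp only [Finset.mem_insert, Finset.mem_image, Special]
  constructor
  · rintro (h | h | h | h | ⟨ω, hω, h⟩)
    · exact Or.inl h
    · exact Or.inr (Or.inl h)
    · exact Or.inr (Or.inr (Or.inl h))
    · exact Or.inr (Or.inr (Or.inr (Or.inl h)))
    · exact Or.inr (Or.inr (Or.inr (Or.inr ⟨ω, hω, h.symm⟩)))
  · rintro (h | h | h | h | ⟨ω, hω, h⟩)
    · exact Or.inl h
    · exact Or.inr (Or.inl h)
    · exact Or.inr (Or.inr (Or.inl h))
    · exact Or.inr (Or.inr (Or.inr (Or.inl h)))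
    · exact Or.inr (Or.inr (Or.inr (Or.inr ⟨ω, hω, h.symm⟩)))

omit hab hν in
/-- A sum over all irreducible characters of a function vanishing outside the special ones. -/
theorem sum_irr (F : IrrCharacter G → ℂ) (hF : ∀ χ, ¬ M.Special χ → F χ = 0) :
    ∑ χ : IrrCharacter G, F χ = F (trivIrr G) + F M.X + F M.Y₁ + F M.Y₂ +
      (1 / 2 : ℂ) * ∑ ω ∈ Lam K, F (M.L ω) := by
  rw [← Finset.sum_subset (Finset.subset_univ
    (insert (trivIrr G) (insert M.X (insert M.Y₁ (insert M.Y₂ ((Lam K).image M.L))))))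
    (fun χ _ hχ => hF χ (fun hs => hχ ((M.mem_special_iff χ).2 hs))),
    M.sum_special, M.sum_image_L, nsmul_eq_mul]
  push_cast
  ring

end Main

end Cfsg.Agent.Lib.Helper7.BSWc
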