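import Mathlib
import Cfsg.Prelude.Def_Characters
import Cfsg.Agent.Lib.Helper7.BSWc8

set_option autoImplicit false
set_option linter.style.haveILetI false
set_option linter.unusedSectionVars false
set_option linter.unusedVariables false

/-!
# Brauer–Suzuki–Wall, character theory, part 9: the class-algebra sum on `K`
-/

namespace Cfsg.Agent.Lib.Helper7.BSWc

open Cfsg Cfsg.Agent.Lib.helper3.Irr Cfsg.Agent.Lib.helper3.CharBasic
open Cfsg.Agent.Lib.helper3.IndFun Cfsg.Agent.Lib.helper3.CycTI Cfsg.Agent.Lib.Helper7.BrP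
open Cfsg.Agent.Lib.helper3.Pf4 Cfsg.Agent.Lib.Helper7.ExcA
open scoped ComplexConjugate

variable {G : Type*} [Group G] [Fintype G]

/-- The class-algebra sum. -/
noncomputable def Tsum (t g : G) : ℂ :=
  ∑ χ : IrrCharacter G,
    (χ : G → ℂ) t * (χ : G → ℂ) t * conj ((χ : G → ℂ) g) / (χ : G → ℂ) 1

variable {K : Subgroup G} [Fintype (K →* ℂˣ)] [DecidableEq (K →* ℂˣ)]
  [DecidableEq (IrrCharacter G)] {ν : K →* ℂˣ}

theorem linFun_inv_eq_conj [Finite K] (ω : K →* ℂˣ) (x : K) :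
    linFun ω⁻¹ x = conj (linFun ω x) := by
  rw [← Cfsg.Agent.Lib.helper3.Block.linFun_inv ω x]
  simp [linFun]

theorem trivIrr_apply (g : G) : (trivIrr G : G → ℂ) g = 1 := rfl

theorem intCast_mul_self {δ : ℤ} (hδ : δ = 1 ∨ δ = -1) : (δ : ℂ) * (δ : ℂ) = 1 := by
  rcases hδ with h | h <;> rw [h] <;> norm_num

namespace Main

variable (M : Main K ν) (hab : ∀ a ∈ K, ∀ b ∈ K, a * b = b * a) (hν : IsNu ν)
include hab hν

/-- The class-algebra sum on the nonidentity elements of `K`. -/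
theorem Tsum_K [Finite K] (t' : K) (ht1 : t' ≠ 1) (htt : t' * t' = 1) (x : K) (hx : x ≠ 1) :
    Tsum (t' : G) (x : G) = 1 + (M.δ : ℂ) / (deg M.X : ℂ)
      - linFun ν x * ((M.c₁ : ℂ) / (deg M.Y₁ : ℂ) + (M.c₂ : ℂ) / (deg M.Y₂ : ℂ))
      - 4 * (M.δ : ℂ) / ((deg M.X : ℂ) + (M.δ : ℂ)) * (1 + linFun ν x) := by
  unfold Tsum
  rw [M.sum_irr _ (fun χ hχ => by rw [M.other_apply hab hν hχ t' ht1]; simp)]
  have hδ2 := intCast_mul_self M.hδ
  have hc₁2 := intCast_mul_self M.hc₁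
  have hc₂2 := intCast_mul_self M.hc₂
  have hνt := hν.apply_mul_self t'
  have hνx := hν.conj_apply x
  -- the trivial character
  have e0 : (trivIrr G : G → ℂ) (t' : G) * (trivIrr G : G → ℂ) (t' : G) *
      conj ((trivIrr G : G → ℂ) (x : G)) / (trivIrr G : G → ℂ) 1 = 1 := by
    simp only [trivIrr_apply, map_one, mul_one, div_one]
  -- the character `X`
  have e1 : (M.X : G → ℂ) (t' : G) * (M.X : G → ℂ) (t' : G) *
      conj ((M.X : G → ℂ) (x : G)) / (M.X : G → ℂ) 1 = (M.δ : ℂ) / (deg M.X : ℂ) := by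
    rw [M.X_apply hab hν t' ht1, M.X_apply hab hν x hx, deg_spec, map_intCast, hδ2, one_mul]
  -- the characters `Y`
  have e2 : (M.Y₁ : G → ℂ) (t' : G) * (M.Y₁ : G → ℂ) (t' : G) *
      conj ((M.Y₁ : G → ℂ) (x : G)) / (M.Y₁ : G → ℂ) 1
        = -(linFun ν x * ((M.c₁ : ℂ) / (deg M.Y₁ : ℂ))) := by
    rw [M.Y₁_apply hab hν t' ht1, M.Y₁_apply hab hν x hx, deg_spec, map_mul, map_neg,
      map_intCast, hνx]
    have : -(M.c₁ : ℂ) * linFun ν t' * (-(M.c₁ : ℂ) * linFun ν t') =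
        ((M.c₁ : ℂ) * (M.c₁ : ℂ)) * (linFun ν t' * linFun ν t') := by ring
    rw [this, hc₁2, hνt]
    ring
  have e3 : (M.Y₂ : G → ℂ) (t' : G) * (M.Y₂ : G → ℂ) (t' : G) *
      conj ((M.Y₂ : G → ℂ) (x : G)) / (M.Y₂ : G → ℂ) 1
        = -(linFun ν x * ((M.c₂ : ℂ) / (deg M.Y₂ : ℂ))) := by
    rw [M.Y₂_apply hab hν t' ht1, M.Y₂_apply hab hν x hx, deg_spec, map_mul, map_neg,
      map_intCast, hνx]
    have : -(M.c₂ : ℂ) * linFun ν t' * (-(M.c₂ : ℂ) * linFun ν t') =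
        ((M.c₂ : ℂ) * (M.c₂ : ℂ)) * (linFun ν t' * linFun ν t') := by ring
    rw [this, hc₂2, hνt]
    ring
  -- the characters `L ω`
  have e4 : ∀ ω ∈ Lam K, (M.L ω : G → ℂ) (t' : G) * (M.L ω : G → ℂ) (t' : G) *
      conj ((M.L ω : G → ℂ) (x : G)) / (M.L ω : G → ℂ) 1
        = 4 * (M.δ : ℂ) / ((deg M.X : ℂ) + (M.δ : ℂ)) * (linFun ω x + linFun ω⁻¹ x) := by
    intro ω hω
    rw [M.L_apply hab hν hω t' ht1, M.L_apply hab hν hω x hx, deg_spec, M.hdeg ω hω]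
    have h1 : linFun ω⁻¹ t' = linFun ω t' := by
      rw [linFun_inv_eq_conj]
      rcases apply_invol_eq ω t' htt with h | h <;> rw [h] <;> simp
    have h2 : linFun ω t' * linFun ω t' = 1 := by
      rcases apply_invol_eq ω t' htt with h | h <;> rw [h] <;> norm_num
    rw [h1, map_mul, map_add, map_intCast, linFun_inv_eq_conj ω x, Complex.conj_conj]
    have : (M.δ : ℂ) * (linFun ω t' + linFun ω t') * ((M.δ : ℂ) * (linFun ω t' + linFun ω t')) =
        4 * ((M.δ : ℂ) * (M.δ : ℂ)) * (linFun ω t' * linFun ω t') := by ring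
    rw [this, hδ2, h2]
    push_cast
    ring
  rw [e0, e1, e2, e3, Finset.sum_congr rfl e4, ← Finset.mul_sum, Finset.sum_add_distrib,
    sum_Lam_inv (fun ω => linFun ω x), sum_Lam_apply hν hab x hx]
  ring

end Main

end Cfsg.Agent.Lib.Helper7.BSWc
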