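import Mathlib
import Cfsg.Prelude.Def_Characters
import Cfsg.Agent.Lib.Helper7.BSWc9

set_option autoImplicit false
set_option linter.style.haveILetI false
set_option linter.unusedSectionVars false
set_option linter.unusedVariables false

/-!
# Brauer–Suzuki–Wall, character theory, part 10: the degrees in the main case
-/

namespace Cfsg.Agent.Lib.Helper7.BSWc

open Cfsg Cfsg.Agent.Lib.helper3.Irr Cfsg.Agent.Lib.helper3.CharBasic
open Cfsg.Agent.Lib.helper3.IndFun Cfsg.Agent.Lib.helper3.CycTI Cfsg.Agent.Lib.Helper7.BrP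
open Cfsg.Agent.Lib.helper3.Pf4 Cfsg.Agent.Lib.Helper7.ExcA
open scoped ComplexConjugate

/-- The arithmetic of the two extra constituents. -/
theorem arith_c (δ c₁ c₂ q y₁ y₂ : ℤ) (hδ : δ = 1 ∨ δ = -1) (hc₁ : c₁ = 1 ∨ c₁ = -1)
    (hc₂ : c₂ = 1 ∨ c₂ = -1) (hq : 0 < q) (hy₁ : 0 < y₁) (hy₂ : 0 < y₂) (hA : 0 < q + δ)
    (h1 : (c₁ * y₂ + c₂ * y₁) * (q + δ) = -4 * δ * (y₁ * y₂))
    (h2 : 1 + δ * q + c₁ * y₁ + c₂ * y₂ = 0) :
    c₁ = -δ ∧ c₂ = -δ ∧ 2 * y₁ = q + δ ∧ 2 * y₂ = q + δ := by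
  have hyy : 0 < y₁ * y₂ := mul_pos hy₁ hy₂
  have key : ∀ A : ℤ, y₁ + y₂ = A → A * A = 4 * (y₁ * y₂) → 2 * y₁ = A ∧ 2 * y₂ = A := by
    intro A hA1 hA2
    have h3 : (y₁ - y₂) ^ 2 = 0 := by
      have : (y₁ - y₂) ^ 2 = (y₁ + y₂) * (y₁ + y₂) - 4 * (y₁ * y₂) := by ring
      rw [this, hA1, hA2]; ring
    have h4 : y₁ - y₂ = 0 := pow_eq_zero_iff (by norm_num) |>.1 h3
    constructor <;> omega
  rcases hδ with rfl | rfl <;> rcases hc₁ with rfl | rfl <;> rcases hc₂ with rfl | rfl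
  · exfalso; omega
  · exfalso
    have h4 : (1 * y₂ + -1 * y₁) = q + 1 := by linarith
    rw [h4] at h1
    nlinarith [mul_self_nonneg (q + 1)]
  · exfalso
    have h4 : (-1 * y₂ + 1 * y₁) = q + 1 := by linarith
    rw [h4] at h1
    nlinarith [mul_self_nonneg (q + 1)]
  · have h3 : y₁ + y₂ = q + 1 := by linarith
    have h4 : (q + 1) * (q + 1) = 4 * (y₁ * y₂) := by
      have : (-1 * y₂ + -1 * y₁) * (q + 1) = -((y₁ + y₂) * (q + 1)) := by ring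
      rw [this, h3] at h1
      linarith
    obtain ⟨h5, h6⟩ := key (q + 1) h3 h4
    exact ⟨by ring, by ring, h5, h6⟩
  · have h3 : y₁ + y₂ = q + -1 := by linarith
    have h4 : (q + -1) * (q + -1) = 4 * (y₁ * y₂) := by
      have : (1 * y₂ + 1 * y₁) * (q + -1) = (y₁ + y₂) * (q + -1) := by ring
      rw [this, h3] at h1
      linarith
    obtain ⟨h5, h6⟩ := key (q + -1) h3 h4
    exact ⟨by ring, by ring, h5, h6⟩
  · exfalso
    have h4 : (1 * y₂ + -1 * y₁) = -(q + -1) := by linarith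
    rw [h4] at h1
    nlinarith [mul_self_nonneg (q + -1)]
  · exfalso
    have h4 : (-1 * y₂ + 1 * y₁) = -(q + -1) := by linarith
    rw [h4] at h1
    nlinarith [mul_self_nonneg (q + -1)]
  · exfalso; omega

variable {G : Type*} [Group G] [Fintype G] {K : Subgroup G} [Fintype (K →* ℂˣ)]
  [DecidableEq (K →* ℂˣ)] [DecidableEq (IrrCharacter G)] {ν : K →* ℂˣ}

/-- The degree of an irreducible character in terms of the coefficients. -/
theorem restrict_one (hab : ∀ a ∈ K, ∀ b ∈ K, a * b = b * a) (χ : IrrCharacter G) :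
    ∃ m₁ : ℕ, deg χ = (m₁ : ℤ) * (Nat.card K : ℤ) - ∑ ω : K →* ℂˣ, zc K ω χ := by
  classical
  haveI : Fintype K := Fintype.ofFinite _
  have hcf : IsClassFunction G (χ : G → ℂ) :=
    isClassFunction_of_isCharacter (isCharacter_of_isIrrCharacter χ.2)
  have h1 := fourier hab (fun y : K => (χ : G → ℂ) (y : G)) 1
  have h2 : ∀ ω : K →* ℂˣ, classInner (fun y : K => (χ : G → ℂ) (y : G)) (linFun ω)
      = classInner (fun y : K => (χ : G → ℂ) (y : G)) (linFun 1) - (zc K ω χ : ℂ) := by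
    intro ω
    have h3 := classInner_Xi K ω (χ : G → ℂ) hcf
    rw [classInner_Xi_irr] at h3
    have h4 := congrArg conj h3
    rw [map_sub, classInner_conj_symm, classInner_conj_symm, map_intCast] at h4
    rw [h4]; ring
  obtain ⟨m₁, hm₁⟩ := exists_nat_classInner_of_isCharacter
    (isCharacter_restrict (isCharacter_of_isIrrCharacter χ.2) K)
    ⟨linFun (1 : K →* ℂˣ), isIrrCharacter_linFun 1⟩
  have hm₁' : classInner (fun y : K => (χ : G → ℂ) (y : G)) (linFun 1) = (m₁ : ℂ) := hm₁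
  refine ⟨m₁, ?_⟩
  have h5 : ∑ ω : K →* ℂˣ, classInner (fun y : K => (χ : G → ℂ) (y : G)) (linFun ω) * linFun ω 1
      = (m₁ : ℂ) * (Nat.card K : ℂ) - ∑ ω : K →* ℂˣ, (zc K ω χ : ℂ) := by
    have h6 : ∀ ω : K →* ℂˣ, linFun ω (1 : K) = 1 := fun ω => by simp [linFun]
    simp only [h6, mul_one]
    rw [Finset.sum_congr rfl (fun ω _ => h2 ω), Finset.sum_sub_distrib, hm₁', Finset.sum_const,
      Finset.card_univ, ← Nat.card_eq_fintype_card, card_dual hab, nsmul_eq_mul]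
    ring
  rw [h5] at h1
  have h7 : ((χ : G → ℂ) ((1 : K) : G)) = (deg χ : ℂ) := by
    rw [← deg_spec]; rfl
  rw [h7] at h1
  have h8 : ((deg χ : ℤ) : ℂ) = (((m₁ : ℤ) * (Nat.card K : ℤ) - ∑ ω : K →* ℂˣ, zc K ω χ : ℤ) : ℂ) := by
    rw [← h1]
    push_cast
    ring
  exact_mod_cast h8

namespace Main

variable (M : Main K ν)

theorem deg_eq (hν : IsNu ν) :
    1 + M.δ * deg M.X + M.c₁ * deg M.Y₁ + M.c₂ * deg M.Y₂ = 0 := by
  have h1 := sum_zc_mul_deg (K := K) ν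
  have h2 : ∀ ψ : IrrCharacter G, zc K ν ψ * deg ψ
      = ind (trivIrr G) ψ * deg ψ + M.δ * (ind M.X ψ * deg ψ) + M.c₁ * (ind M.Y₁ ψ * deg ψ)
        + M.c₂ * (ind M.Y₂ ψ * deg ψ) := by
    intro ψ
    rw [M.hzν ψ]; ring
  rw [Finset.sum_congr rfl (fun ψ _ => h2 ψ)] at h1
  simp only [Finset.sum_add_distrib, ← Finset.mul_sum, sum_ind_mul, deg_trivIrr] at h1
  exact h1

variable (hab : ∀ a ∈ K, ∀ b ∈ K, a * b = b * a) (hν : IsNu ν)
include hab hν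

/-- `q = m k + δ`. -/
theorem exists_m [Finite K] : ∃ m : ℤ, deg M.X - M.δ = (Nat.card K : ℤ) * m := by
  obtain ⟨m₁, hm₁⟩ := restrict_one hab M.X
  rw [sum_dual_split hν, zc_one, M.zν_X, Finset.sum_congr rfl (fun ω hω => M.z_X hω),
    Finset.sum_const, nsmul_eq_mul] at hm₁
  have hc := card_Lam hν hab
  refine ⟨(m₁ : ℤ) - M.δ, ?_⟩
  have hc' : ((Lam K).card : ℤ) = (Nat.card K : ℤ) - 2 := by
    have : ((Lam K).card : ℤ) + 2 = (Nat.card K : ℤ) := by exact_mod_cast hc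
    linarith
  rw [hm₁, hc']
  ring

/-- The main arithmetic consequences of the class-algebra equation on `K`. -/
theorem degrees [Finite K] (t' : K) (ht1 : t' ≠ 1) (htt : t' * t' = 1) {t₀ : G}
    (huniq : ∀ x ∈ K, x * x = 1 → x = 1 ∨ x = t₀) (hk : 4 ≤ Nat.card K) (hΛ : (Lam K).Nonempty)
    (i : ℕ) (hT : ∀ x : K, x ≠ 1 → (i : ℂ) * Tsum (t' : G) (x : G) = 2 * (Nat.card K : ℂ) ^ 2) :
    M.c₁ = -M.δ ∧ M.c₂ = -M.δ ∧ 2 * deg M.Y₁ = deg M.X + M.δ ∧ 2 * deg M.Y₂ = deg M.X + M.δ ∧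
      2 * (Nat.card K : ℤ) ^ 2 * (deg M.X * (deg M.X + M.δ)) = (i : ℤ) * (deg M.X - M.δ) ^ 2 := by
  obtain ⟨xp, hxp1, hxp⟩ := hν.exists_pos huniq hk
  obtain ⟨xm, hxm⟩ := hν.exists_neg
  have hxm1 : xm ≠ 1 := by
    intro e
    rw [e] at hxm
    have : linFun ν (1 : K) = 1 := by simp [linFun]
    rw [this] at hxm
    norm_num at hxm
  obtain ⟨ω₀, hω₀⟩ := hΛ
  have hq : 0 < deg M.X := deg_pos _
  have hy₁ : 0 < deg M.Y₁ := deg_pos _
  have hy₂ : 0 < deg M.Y₂ := deg_pos _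
  have hA : 0 < deg M.X + M.δ := by rw [← M.hdeg ω₀ hω₀]; exact deg_pos _
  have hqc : (deg M.X : ℂ) ≠ 0 := by exact_mod_cast hq.ne'
  have hy₁c : (deg M.Y₁ : ℂ) ≠ 0 := by exact_mod_cast hy₁.ne'
  have hy₂c : (deg M.Y₂ : ℂ) ≠ 0 := by exact_mod_cast hy₂.ne'
  have hAc : (deg M.X : ℂ) + (M.δ : ℂ) ≠ 0 := by exact_mod_cast hA.ne'
  have hδ2 := intCast_mul_self M.hδ
  have e1 := hT xp hxp1
  have e2 := hT xm hxm1
  rw [M.Tsum_K hab hν t' ht1 htt xp hxp1, hxp] at e1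
  rw [M.Tsum_K hab hν t' ht1 htt xm hxm1, hxm] at e2
  have hi : (i : ℂ) ≠ 0 := by
    intro hi0
    rw [hi0, zero_mul] at e1
    have hk0 : (Nat.card K : ℂ) ≠ 0 := by
      have : Nat.card K ≠ 0 := by omega
      exact_mod_cast this
    exact (pow_ne_zero 2 hk0) (by linear_combination (-1 / 2 : ℂ) * e1)
  -- the equation for `C`
  have hC : ((M.c₁ : ℂ) * (deg M.Y₂ : ℂ) + (M.c₂ : ℂ) * (deg M.Y₁ : ℂ)) *
      ((deg M.X : ℂ) + (M.δ : ℂ)) = -4 * (M.δ : ℂ) * ((deg M.Y₁ : ℂ) * (deg M.Y₂ : ℂ)) := by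
    have e3 : (M.c₁ : ℂ) / (deg M.Y₁ : ℂ) + (M.c₂ : ℂ) / (deg M.Y₂ : ℂ)
        = -4 * (M.δ : ℂ) / ((deg M.X : ℂ) + (M.δ : ℂ)) := by
      have e4 : (i : ℂ) * (2 * ((M.c₁ : ℂ) / (deg M.Y₁ : ℂ) + (M.c₂ : ℂ) / (deg M.Y₂ : ℂ))
          + 8 * (M.δ : ℂ) / ((deg M.X : ℂ) + (M.δ : ℂ))) = 0 := by
        linear_combination e2 - e1
      rcases mul_eq_zero.1 e4 with h0 | h0
      · exact absurd h0 hi
      · linear_combination (1 / 2 : ℂ) * h0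
    field_simp at e3
    linear_combination e3
  have hC' : (M.c₁ * deg M.Y₂ + M.c₂ * deg M.Y₁) * (deg M.X + M.δ)
      = -4 * M.δ * (deg M.Y₁ * deg M.Y₂) := by exact_mod_cast hC
  obtain ⟨r1, r2, r3, r4⟩ := arith_c M.δ M.c₁ M.c₂ (deg M.X) (deg M.Y₁) (deg M.Y₂) M.hδ M.hc₁
    M.hc₂ hq hy₁ hy₂ hA hC' (M.deg_eq hν)
  refine ⟨r1, r2, r3, r4, ?_⟩
  -- the value of the sum
  have e5 : (M.c₁ : ℂ) / (deg M.Y₁ : ℂ) + (M.c₂ : ℂ) / (deg M.Y₂ : ℂ)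
      = -4 * (M.δ : ℂ) / ((deg M.X : ℂ) + (M.δ : ℂ)) := by
    field_simp
    linear_combination hC
  rw [e5] at e2
  have e6 : (2 * (Nat.card K : ℂ) ^ 2 * ((deg M.X : ℂ) * ((deg M.X : ℂ) + (M.δ : ℂ)))
      = (i : ℂ) * ((deg M.X : ℂ) - (M.δ : ℂ)) ^ 2) := by
    rw [← e2]
    field_simp
    ring
  exact_mod_cast e6

end Main

end Cfsg.Agent.Lib.Helper7.BSWc
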