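import Mathlib
import Cfsg.Prelude.Def_Characters
import Cfsg.Agent.Lib.Helper7.BSWc10

set_option autoImplicit false
set_option linter.style.haveILetI false
set_option linter.unusedSectionVars false
set_option linter.unusedVariables false

/-!
# Brauer–Suzuki–Wall, character theory, part 11: `m = 2` and the order of the group
-/

namespace Cfsg.Agent.Lib.Helper7.BSWc

open Cfsg Cfsg.Agent.Lib.helper3.Irr Cfsg.Agent.Lib.helper3.CharBasic
open Cfsg.Agent.Lib.helper3.IndFun Cfsg.Agent.Lib.helper3.CycTI Cfsg.Agent.Lib.Helper7.BrP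
open Cfsg.Agent.Lib.helper3.Pf4 Cfsg.Agent.Lib.Helper7.ExcA
open scoped ComplexConjugate

/-- The arithmetic which gives `m = 2`. -/
theorem arith_m (k q δ m i N : ℤ) (hk : 4 ≤ k) (hδ : δ = 1 ∨ δ = -1) (hq : 0 < q)
    (hA : 0 < q + δ) (hm : q - δ = k * m) (hi : Odd i)
    (hE : 2 * k ^ 2 * (q * (q + δ)) = i * (q - δ) ^ 2)
    (hN : N = 2 * k * i)
    (hS : 2 + 2 * q ^ 2 + (k - 1) * (q + δ) ^ 2 ≤ 2 * N) :
    m = 2 ∧ q = 2 * k + δ ∧ 2 * i = q * (q + δ) ∧ N = k * (q * (q + δ)) ∧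
      2 * N = q * (q + 1) * (q - 1) := by
  have hk0 : (0 : ℤ) < k := by omega
  have hk2 : k ^ 2 ≠ 0 := pow_ne_zero 2 hk0.ne'
  have hE' : 2 * (q * (q + δ)) = i * m ^ 2 := by
    have h1 : k ^ 2 * (2 * (q * (q + δ)) - i * m ^ 2) = 0 := by
      rw [hm] at hE
      linear_combination hE
    rcases mul_eq_zero.1 h1 with h2 | h2
    · exact absurd h2 hk2
    · linarith
  have hqA : 0 < q * (q + δ) := mul_pos hq hA
  -- `m` is even
  have hme : Even m := by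
    by_contra hmo
    rw [Int.not_even_iff_odd] at hmo
    have h1 : Odd (i * m ^ 2) := hi.mul hmo.pow
    rw [← hE'] at h1
    exact (Int.not_even_iff_odd.2 h1) (even_two_mul _)
  -- `m` is positive
  have hm0 : 0 ≤ m := by
    have h1 : 0 ≤ k * m := by
      rw [← hm]
      rcases hδ with rfl | rfl <;> omega
    by_contra hneg
    push Not at hneg
    nlinarith
  have hm1 : m ≠ 0 := by
    intro e
    rw [e] at hE'
    norm_num at hE'
    omega
  -- `m < 4`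
  have hm4 : m < 4 := by
    by_contra hge
    push Not at hge
    have h16 : 16 ≤ m ^ 2 := by nlinarith
    have hP : 0 < 2 + 2 * q ^ 2 + (k - 1) * (q + δ) ^ 2 := by
      have : 0 ≤ (k - 1) * (q + δ) ^ 2 := mul_nonneg (by omega) (sq_nonneg _)
      nlinarith [sq_nonneg q]
    have h2 : m ^ 2 * (2 + 2 * q ^ 2 + (k - 1) * (q + δ) ^ 2) ≤ 8 * k * (q * (q + δ)) := by
      have h3 : m ^ 2 * (2 * N) = 8 * k * (q * (q + δ)) := by
        rw [hN]
        linear_combination (-4 * k) * hE'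
      rw [← h3]
      exact mul_le_mul_of_nonneg_left hS (sq_nonneg m)
    have h4 : 16 * (2 + 2 * q ^ 2 + (k - 1) * (q + δ) ^ 2) ≤ 8 * k * (q * (q + δ)) :=
      le_trans (mul_le_mul_of_nonneg_right h16 hP.le) h2
    rcases hδ with rfl | rfl
    · -- `A = q + 1`
      have hA1 : 1 ≤ q + 1 := by omega
      nlinarith [mul_pos hk0 hq, mul_pos hk0 hA, sq_nonneg q, mul_pos hq hA,
        mul_pos (mul_pos hk0 hq) hq]
    · have hA1 : 1 ≤ q + -1 := by omega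
      nlinarith [mul_pos hk0 hq, mul_pos hk0 hA, sq_nonneg q, mul_pos hq hA,
        mul_pos (mul_pos hk0 hq) hq, mul_pos (mul_pos hk0 hA) hA]
  obtain ⟨m', hm'⟩ := hme
  have hm2 : m = 2 := by omega
  rw [hm2] at hm hE'
  have hq' : q = 2 * k + δ := by linarith
  have hi2 : 2 * i = q * (q + δ) := by linarith
  have hN' : N = k * (q * (q + δ)) := by rw [hN, ← hi2]; ring
  refine ⟨hm2, hq', hi2, hN', ?_⟩
  have hδ2 : δ * δ = 1 := by rcases hδ with rfl | rfl <;> norm_num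
  have h2k : 2 * k = q - δ := by linarith
  calc 2 * N = (2 * k) * (q * (q + δ)) := by rw [hN']; ring
    _ = (q - δ) * (q * (q + δ)) := by rw [h2k]
    _ = q * (q * q - δ * δ) := by ring
    _ = q * (q + 1) * (q - 1) := by rw [hδ2]; ring

variable {G : Type*} [Group G] [Fintype G]

theorem sum_deg_sq : ∑ χ : IrrCharacter G, deg χ ^ 2 = (Nat.card G : ℤ) := by
  have h1 := sum_sq_degree (G := G)
  have h2 : ((∑ χ : IrrCharacter G, deg χ ^ 2 : ℤ) : ℂ) = ((Nat.card G : ℤ) : ℂ) := by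
    push_cast
    rw [← h1]
    apply Finset.sum_congr rfl
    intro χ _
    rw [deg_spec]
  exact_mod_cast h2

variable {K : Subgroup G} [Fintype (K →* ℂˣ)]
  [DecidableEq (K →* ℂˣ)] [DecidableEq (IrrCharacter G)] {ν : K →* ℂˣ}

namespace Main

variable (M : Main K ν)

/-- The lower bound for the order of the group from the special characters. -/
theorem sum_sq_le :
    2 + 2 * deg M.X ^ 2 + 2 * deg M.Y₁ ^ 2 + 2 * deg M.Y₂ ^ 2 +
      ((Lam K).card : ℤ) * (deg M.X + M.δ) ^ 2 ≤ 2 * (Nat.card G : ℤ) := by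
  have h1 : ∑ χ ∈ insert (trivIrr G) (insert M.X (insert M.Y₁ (insert M.Y₂
      ((Lam K).image M.L)))), deg χ ^ 2 ≤ ∑ χ : IrrCharacter G, deg χ ^ 2 :=
    Finset.sum_le_sum_of_subset_of_nonneg (Finset.subset_univ _) (fun χ _ _ => sq_nonneg _)
  rw [sum_deg_sq, M.sum_special] at h1
  have h2 := M.sum_image_L (fun χ => deg χ ^ 2)
  have h3 : ∑ ω ∈ Lam K, deg (M.L ω) ^ 2 = ((Lam K).card : ℤ) * (deg M.X + M.δ) ^ 2 := by
    rw [Finset.sum_congr rfl (fun ω hω => by rw [M.hdeg ω hω]), Finset.sum_const, nsmul_eq_mul]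
  rw [h3, nsmul_eq_mul] at h2
  rw [deg_trivIrr] at h1
  push_cast at h2
  linarith

variable (hab : ∀ a ∈ K, ∀ b ∈ K, a * b = b * a) (hν : IsNu ν)
include hab hν

/-- The final arithmetic output of the main case. -/
theorem final [Finite K] (t' : K) (ht1 : t' ≠ 1) (htt : t' * t' = 1) {t₀ : G}
    (huniq : ∀ x ∈ K, x * x = 1 → x = 1 ∨ x = t₀) (hk : 4 ≤ Nat.card K) (hΛ : (Lam K).Nonempty)
    (i : ℕ) (hi : Odd i) (hN : Nat.card G = 2 * Nat.card K * i)
    (hT : ∀ x : K, x ≠ 1 → (i : ℂ) * Tsum (t' : G) (x : G) = 2 * (Nat.card K : ℂ) ^ 2) :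
    M.c₁ = -M.δ ∧ M.c₂ = -M.δ ∧ 2 * deg M.Y₁ = deg M.X + M.δ ∧ 2 * deg M.Y₂ = deg M.X + M.δ ∧
      deg M.X = 2 * (Nat.card K : ℤ) + M.δ ∧ 2 * (i : ℤ) = deg M.X * (deg M.X + M.δ) ∧
      (Nat.card G : ℤ) = (Nat.card K : ℤ) * (deg M.X * (deg M.X + M.δ)) ∧
      2 * (Nat.card G : ℤ) = deg M.X * (deg M.X + 1) * (deg M.X - 1) := by
  obtain ⟨r1, r2, r3, r4, r5⟩ := M.degrees hab hν t' ht1 htt huniq hk hΛ i hT
  obtain ⟨m, hm⟩ := M.exists_m hab hν
  obtain ⟨ω₀, hω₀⟩ := hΛ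
  have hA : 0 < deg M.X + M.δ := by rw [← M.hdeg ω₀ hω₀]; exact deg_pos _
  have hS := M.sum_sq_le
  have hc := card_Lam hν hab
  have hc' : ((Lam K).card : ℤ) = (Nat.card K : ℤ) - 2 := by
    have : ((Lam K).card : ℤ) + 2 = (Nat.card K : ℤ) := by exact_mod_cast hc
    linarith
  have hS' : 2 + 2 * deg M.X ^ 2 + ((Nat.card K : ℤ) - 1) * (deg M.X + M.δ) ^ 2
      ≤ 2 * (Nat.card G : ℤ) := by
    rw [hc'] at hS
    have e1 : 4 * deg M.Y₁ ^ 2 = (deg M.X + M.δ) ^ 2 := by rw [← r3]; ring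
    have e2 : 4 * deg M.Y₂ ^ 2 = (deg M.X + M.δ) ^ 2 := by rw [← r4]; ring
    linarith
  have hN' : (Nat.card G : ℤ) = 2 * (Nat.card K : ℤ) * (i : ℤ) := by exact_mod_cast hN
  obtain ⟨-, s2, s3, s4, s5⟩ := arith_m (Nat.card K : ℤ) (deg M.X) M.δ m (i : ℤ) (Nat.card G : ℤ)
    (by exact_mod_cast hk) M.hδ (deg_pos _) hA hm (by exact_mod_cast hi) r5 hN' hS'
  exact ⟨r1, r2, r3, r4, s2, s3, s4, s5⟩

end Main

end Cfsg.Agent.Lib.Helper7.BSWc
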