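import Mathlib
import Cfsg.Prelude.Def_Characters
import Cfsg.Agent.Lib.Helper7.BSWc11
import Cfsg.Agent.Lib.helper3.AlgInt
import Cfsg.Agent.Lib.helper3.PiSection

set_option autoImplicit false
set_option linter.style.haveILetI false
set_option linter.unusedSectionVars false
set_option linter.unusedVariables false

/-!
# Brauer–Suzuki–Wall, character theory, part 12: the values off the conjugates of `K`
-/

namespace Cfsg.Agent.Lib.Helper7.BSWc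

open Cfsg Cfsg.Agent.Lib.helper3.Irr Cfsg.Agent.Lib.helper3.CharBasic
open Cfsg.Agent.Lib.helper3.IndFun Cfsg.Agent.Lib.helper3.CycTI Cfsg.Agent.Lib.Helper7.BrP
open Cfsg.Agent.Lib.helper3.Pf4 Cfsg.Agent.Lib.Helper7.ExcA
open scoped ComplexConjugate

theorem sum_indC_mul {I : Type*} [Fintype I] [DecidableEq I] (a : I) (f : I → ℂ) :
    ∑ i, ((ind a i : ℤ) : ℂ) * f i = f a := by
  unfold ind
  simp [Finset.sum_ite_eq']

variable {G : Type*} [Group G] [Fintype G] {K : Subgroup G} [Fintype (K →* ℂˣ)]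
  [DecidableEq (K →* ℂˣ)] [DecidableEq (IrrCharacter G)] {ν : K →* ℂˣ}

namespace Main

variable (M : Main K ν)

/-- Off the conjugates of `K`, the characters `L ω` are `X + δ`. -/
theorem L_apply_R {ω : K →* ℂˣ} (hω : ω ∈ Lam K) (g : G) (hg : ∀ x : G, x⁻¹ * g * x ∉ K) :
    (M.L ω : G → ℂ) g = (M.X : G → ℂ) g + (M.δ : ℂ) := by
  have h1 := Xi_eq_zero ω g hg
  rw [Xi_apply] at h1
  have h2 : ∀ ψ : IrrCharacter G, (zc K ω ψ : ℂ) * (ψ : G → ℂ) g =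
      ((ind (trivIrr G) ψ : ℤ) : ℂ) * (ψ : G → ℂ) g
        + (M.δ : ℂ) * (((ind M.X ψ : ℤ) : ℂ) * (ψ : G → ℂ) g)
        - (M.δ : ℂ) * (((ind (M.L ω) ψ : ℤ) : ℂ) * (ψ : G → ℂ) g) := by
    intro ψ
    rw [M.hz ω hω ψ]
    push_cast
    ring
  rw [Finset.sum_congr rfl (fun ψ _ => h2 ψ), Finset.sum_sub_distrib, Finset.sum_add_distrib,
    ← Finset.mul_sum, ← Finset.mul_sum, sum_indC_mul, sum_indC_mul, sum_indC_mul,
    trivIrr_apply] at h1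
  have hδ2 := intCast_mul_self M.hδ
  linear_combination (-(M.δ : ℂ)) * h1 + ((M.X : G → ℂ) g - (M.L ω : G → ℂ) g) * hδ2

/-- Off the conjugates of `K`, the sum of the two extra characters is `X + δ`. -/
theorem Y_apply_R (r1 : M.c₁ = -M.δ) (r2 : M.c₂ = -M.δ) (g : G)
    (hg : ∀ x : G, x⁻¹ * g * x ∉ K) :
    (M.Y₁ : G → ℂ) g + (M.Y₂ : G → ℂ) g = (M.X : G → ℂ) g + (M.δ : ℂ) := by
  have h1 := Xi_eq_zero ν g hg
  rw [Xi_apply] at h1
  have h2 : ∀ ψ : IrrCharacter G, (zc K ν ψ : ℂ) * (ψ : G → ℂ) g =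
      ((ind (trivIrr G) ψ : ℤ) : ℂ) * (ψ : G → ℂ) g
        + (M.δ : ℂ) * (((ind M.X ψ : ℤ) : ℂ) * (ψ : G → ℂ) g)
        - (M.δ : ℂ) * (((ind M.Y₁ ψ : ℤ) : ℂ) * (ψ : G → ℂ) g)
        - (M.δ : ℂ) * (((ind M.Y₂ ψ : ℤ) : ℂ) * (ψ : G → ℂ) g) := by
    intro ψ
    rw [M.hzν ψ, r1, r2]
    push_cast
    ring
  rw [Finset.sum_congr rfl (fun ψ _ => h2 ψ), Finset.sum_sub_distrib, Finset.sum_sub_distrib,
    Finset.sum_add_distrib,
    ← Finset.mul_sum, ← Finset.mul_sum, ← Finset.mul_sum, sum_indC_mul, sum_indC_mul,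
    sum_indC_mul, sum_indC_mul, trivIrr_apply] at h1
  have hδ2 := intCast_mul_self M.hδ
  linear_combination (-(M.δ : ℂ)) * h1 +
    ((M.X : G → ℂ) g - (M.Y₁ : G → ℂ) g - (M.Y₂ : G → ℂ) g) * hδ2

variable (hab : ∀ a ∈ K, ∀ b ∈ K, a * b = b * a) (hν : IsNu ν)
include hab hν

/-- The class-algebra sum off the conjugates of `K`. -/
theorem Tsum_R [Finite K] (t' : K) (ht1 : t' ≠ 1) (htt : t' * t' = 1)
    (r1 : M.c₁ = -M.δ) (r2 : M.c₂ = -M.δ) (r3 : 2 * deg M.Y₁ = deg M.X + M.δ)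
    (r4 : 2 * deg M.Y₂ = deg M.X + M.δ) (hA : deg M.X + M.δ ≠ 0) (g : G)
    (hg : ∀ x : G, x⁻¹ * g * x ∉ K) :
    Tsum (t' : G) g = 1 + conj ((M.X : G → ℂ) g) / (deg M.X : ℂ)
      + 2 * ((Nat.card K : ℂ) - 1) / ((deg M.X : ℂ) + (M.δ : ℂ))
        * (conj ((M.X : G → ℂ) g) + (M.δ : ℂ)) := by
  unfold Tsum
  rw [M.sum_irr _ (fun χ hχ => by rw [M.other_apply hab hν hχ t' ht1]; simp)]
  have hδ2 := intCast_mul_self M.hδ
  have hc₁2 := intCast_mul_self M.hc₁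
  have hc₂2 := intCast_mul_self M.hc₂
  have hνt := hν.apply_mul_self t'
  have hAc : (deg M.X : ℂ) + (M.δ : ℂ) ≠ 0 := by exact_mod_cast hA
  have hy₁ : (deg M.Y₁ : ℂ) = ((deg M.X : ℂ) + (M.δ : ℂ)) / 2 := by
    have : (2 : ℂ) * (deg M.Y₁ : ℂ) = (deg M.X : ℂ) + (M.δ : ℂ) := by exact_mod_cast r3
    rw [← this]; ring
  have hy₂ : (deg M.Y₂ : ℂ) = ((deg M.X : ℂ) + (M.δ : ℂ)) / 2 := by
    have : (2 : ℂ) * (deg M.Y₂ : ℂ) = (deg M.X : ℂ) + (M.δ : ℂ) := by exact_mod_cast r4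
    rw [← this]; ring
  have e0 : (trivIrr G : G → ℂ) (t' : G) * (trivIrr G : G → ℂ) (t' : G) *
      conj ((trivIrr G : G → ℂ) g) / (trivIrr G : G → ℂ) 1 = 1 := by
    simp only [trivIrr_apply, map_one, mul_one, div_one]
  have e1 : (M.X : G → ℂ) (t' : G) * (M.X : G → ℂ) (t' : G) *
      conj ((M.X : G → ℂ) g) / (M.X : G → ℂ) 1 = conj ((M.X : G → ℂ) g) / (deg M.X : ℂ) := by
    rw [M.X_apply hab hν t' ht1, deg_spec, hδ2, one_mul]
  have e2 : (M.Y₁ : G → ℂ) (t' : G) * (M.Y₁ : G → ℂ) (t' : G) *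
      conj ((M.Y₁ : G → ℂ) g) / (M.Y₁ : G → ℂ) 1
        = 2 * conj ((M.Y₁ : G → ℂ) g) / ((deg M.X : ℂ) + (M.δ : ℂ)) := by
    rw [M.Y₁_apply hab hν t' ht1, deg_spec, hy₁]
    have : -(M.c₁ : ℂ) * linFun ν t' * (-(M.c₁ : ℂ) * linFun ν t') =
        ((M.c₁ : ℂ) * (M.c₁ : ℂ)) * (linFun ν t' * linFun ν t') := by ring
    rw [this, hc₁2, hνt]
    field_simp
  have e3 : (M.Y₂ : G → ℂ) (t' : G) * (M.Y₂ : G → ℂ) (t' : G) *
      conj ((M.Y₂ : G → ℂ) g) / (M.Y₂ : G → ℂ) 1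
        = 2 * conj ((M.Y₂ : G → ℂ) g) / ((deg M.X : ℂ) + (M.δ : ℂ)) := by
    rw [M.Y₂_apply hab hν t' ht1, deg_spec, hy₂]
    have : -(M.c₂ : ℂ) * linFun ν t' * (-(M.c₂ : ℂ) * linFun ν t') =
        ((M.c₂ : ℂ) * (M.c₂ : ℂ)) * (linFun ν t' * linFun ν t') := by ring
    rw [this, hc₂2, hνt]
    field_simp
  have e4 : ∀ ω ∈ Lam K, (M.L ω : G → ℂ) (t' : G) * (M.L ω : G → ℂ) (t' : G) *
      conj ((M.L ω : G → ℂ) g) / (M.L ω : G → ℂ) 1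
        = 4 * (conj ((M.X : G → ℂ) g) + (M.δ : ℂ)) / ((deg M.X : ℂ) + (M.δ : ℂ)) := by
    intro ω hω
    rw [M.L_apply hab hν hω t' ht1, M.L_apply_R hω g hg, deg_spec, M.hdeg ω hω]
    have h1 : linFun ω⁻¹ t' = linFun ω t' := by
      rw [linFun_inv_eq_conj]
      rcases apply_invol_eq ω t' htt with h | h <;> rw [h] <;> simp
    have h2 : linFun ω t' * linFun ω t' = 1 := by
      rcases apply_invol_eq ω t' htt with h | h <;> rw [h] <;> norm_num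
    rw [h1, map_add, map_intCast]
    have : (M.δ : ℂ) * (linFun ω t' + linFun ω t') * ((M.δ : ℂ) * (linFun ω t' + linFun ω t')) =
        4 * ((M.δ : ℂ) * (M.δ : ℂ)) * (linFun ω t' * linFun ω t') := by ring
    rw [this, hδ2, h2]
    push_cast
    ring
  have hY := congrArg conj (M.Y_apply_R r1 r2 g hg)
  rw [map_add, map_add, map_intCast] at hY
  have hc := card_Lam hν hab
  have hc' : ((Lam K).card : ℂ) = (Nat.card K : ℂ) - 2 := by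
    have : ((Lam K).card : ℂ) + 2 = (Nat.card K : ℂ) := by exact_mod_cast hc
    linear_combination this
  rw [e0, e1, e2, e3, Finset.sum_congr rfl e4, Finset.sum_const, nsmul_eq_mul, hc']
  have e5 : 2 * conj ((M.Y₁ : G → ℂ) g) / ((deg M.X : ℂ) + (M.δ : ℂ)) +
      2 * conj ((M.Y₂ : G → ℂ) g) / ((deg M.X : ℂ) + (M.δ : ℂ)) =
      2 * (conj ((M.X : G → ℂ) g) + (M.δ : ℂ)) / ((deg M.X : ℂ) + (M.δ : ℂ)) := by
    rw [← hY]; ring
  linear_combination e5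

/-- Off the conjugates of `K`, the value of `X` is an integer determined by the number of
factorisations. -/
theorem exists_int_X [Finite K] (t' : K) (ht1 : t' ≠ 1) (htt : t' * t' = 1)
    (r1 : M.c₁ = -M.δ) (r2 : M.c₂ = -M.δ) (r3 : 2 * deg M.Y₁ = deg M.X + M.δ)
    (r4 : 2 * deg M.Y₂ = deg M.X + M.δ) (s2 : deg M.X = 2 * (Nat.card K : ℤ) + M.δ) (i : ℕ)
    (s3 : 2 * (i : ℤ) = deg M.X * (deg M.X + M.δ)) (hk : 4 ≤ Nat.card K) (b : ℕ) (g : G)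
    (hg : ∀ x : G, x⁻¹ * g * x ∉ K)
    (hb : (i : ℂ) * Tsum (t' : G) g = 2 * (Nat.card K : ℂ) * (b : ℂ)) :
    ∃ n : ℤ, (M.X : G → ℂ) g = (n : ℂ) ∧
      (deg M.X - 1) * n = 2 * (b : ℤ) - (1 + M.δ) * deg M.X := by
  have hk' : (4 : ℤ) ≤ (Nat.card K : ℤ) := by exact_mod_cast hk
  have hA : deg M.X + M.δ ≠ 0 := by
    rcases M.hδ with e | e <;> rw [e] at s2 ⊢ <;> omega
  have hq1 : deg M.X - 1 ≠ 0 := by
    rcases M.hδ with e | e <;> rw [e] at s2 <;> omega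
  have hqδ : deg M.X - M.δ ≠ 0 := by
    rcases M.hδ with e | e <;> rw [e] at s2 ⊢ <;> omega
  have hq0 : deg M.X ≠ 0 := (deg_pos _).ne'
  have hAc : (deg M.X : ℂ) + (M.δ : ℂ) ≠ 0 := by exact_mod_cast hA
  have hq0c : (deg M.X : ℂ) ≠ 0 := by exact_mod_cast hq0
  have hqδc : (deg M.X : ℂ) - (M.δ : ℂ) ≠ 0 := by exact_mod_cast hqδ
  have hq1c : (deg M.X : ℂ) - 1 ≠ 0 := by exact_mod_cast hq1
  rw [M.Tsum_R hab hν t' ht1 htt r1 r2 r3 r4 hA g hg] at hb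
  have s2c : (deg M.X : ℂ) = 2 * (Nat.card K : ℂ) + (M.δ : ℂ) := by exact_mod_cast s2
  have s3c : 2 * (i : ℂ) = (deg M.X : ℂ) * ((deg M.X : ℂ) + (M.δ : ℂ)) := by exact_mod_cast s3
  have hkc : (Nat.card K : ℂ) = ((deg M.X : ℂ) - (M.δ : ℂ)) / 2 := by rw [s2c]; ring
  have hic : (i : ℂ) = (deg M.X : ℂ) * ((deg M.X : ℂ) + (M.δ : ℂ)) / 2 := by rw [← s3c]; ring
  rw [hic, hkc] at hb
  set xb := conj ((M.X : G → ℂ) g) with hxb
  have h1 : ((deg M.X : ℂ) - (M.δ : ℂ)) * (((deg M.X : ℂ) - 1) * xb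
      + (1 + (M.δ : ℂ)) * (deg M.X : ℂ) - 2 * (b : ℂ)) = 0 := by
    field_simp at hb
    linear_combination hb
  have h2 : ((deg M.X : ℂ) - 1) * xb + (1 + (M.δ : ℂ)) * (deg M.X : ℂ) - 2 * (b : ℂ) = 0 := by
    rcases mul_eq_zero.1 h1 with h | h
    · exact absurd h hqδc
    · exact h
  have hint : IsIntegral ℤ xb :=
    Cfsg.Agent.Lib.helper3.PiSection.isIntegral_conj'
      (Cfsg.Agent.Lib.helper3.Lin.isIntegral_of_isCharacter
        (isCharacter_of_isIrrCharacter M.X.2) g)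
  have h3 : ((2 * (b : ℤ) - (1 + M.δ) * deg M.X : ℤ) : ℂ) = ((deg M.X - 1 : ℤ) : ℂ) * xb := by
    push_cast
    linear_combination -h2
  obtain ⟨n, hn⟩ := Cfsg.Agent.Lib.helper3.AlgInt.int_dvd_of_eq_mul_isIntegral hint h3 hq1
  refine ⟨n, ?_, hn.symm⟩
  have h4 : xb = (n : ℂ) := by
    rw [hn] at h3
    push_cast at h3
    exact (mul_left_cancel₀ hq1c h3).symm
  have h5 : (M.X : G → ℂ) g = conj xb := by rw [hxb, Complex.conj_conj]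
  rw [h5, h4, map_intCast]

end Main

end Cfsg.Agent.Lib.Helper7.BSWc
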