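import Mathlib
import Cfsg.Prelude.Def_Characters
import Cfsg.Agent.Lib.Helper7.BSWc12

set_option autoImplicit false
set_option linter.style.haveILetI false
set_option linter.unusedSectionVars false
set_option linter.unusedVariables false

/-!
# Brauer–Suzuki–Wall, character theory, part 13: the orthogonality relations and the count
-/

namespace Cfsg.Agent.Lib.Helper7.BSWc

open Cfsg Cfsg.Agent.Lib.helper3.Irr Cfsg.Agent.Lib.helper3.CharBasic
open Cfsg.Agent.Lib.helper3.IndFun Cfsg.Agent.Lib.helper3.CycTI Cfsg.Agent.Lib.Helper7.BrP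
open Cfsg.Agent.Lib.helper3.Pf4 Cfsg.Agent.Lib.Helper7.ExcA
open scoped ComplexConjugate

variable {G : Type*} [Group G] [Fintype G]

/-- Splitting a sum over the group into the identity, a set `P` not containing it, and the rest. -/
theorem sum_split3 {N : Type*} [AddCommMonoid N] [DecidableEq G] (P : G → Prop) [DecidablePred P]
    (hP1 : ¬ P 1) (F : G → N) :
    ∑ g : G, F g = F 1 + ∑ g ∈ Finset.univ.filter (fun g : G => g ≠ 1 ∧ ¬ P g), F g
      + ∑ g ∈ Finset.univ.filter P, F g := by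
  rw [← Finset.sum_filter_add_sum_filter_not Finset.univ P F, add_comm]
  congr 1
  have h1 : Finset.univ.filter (fun g : G => ¬ P g)
      = insert 1 (Finset.univ.filter (fun g : G => g ≠ 1 ∧ ¬ P g)) := by
    ext g
    simp only [Finset.mem_filter, Finset.mem_univ, true_and, Finset.mem_insert]
    constructor
    · intro hg
      by_cases e : g = 1
      · exact Or.inl e
      · exact Or.inr ⟨e, hg⟩
    · rintro (e | ⟨_, hg⟩)
      · rw [e]; exact hP1
      · exact hg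
  rw [h1, Finset.sum_insert]
  simp

theorem irr_sum_mul_conj (χ : IrrCharacter G) :
    ∑ g : G, (χ : G → ℂ) g * conj ((χ : G → ℂ) g) = (Nat.card G : ℂ) := by
  have h1 := irr_classInner_self χ.2
  unfold classInner at h1
  have h0 : (Nat.card G : ℂ) ≠ 0 := by
    have : Nat.card G ≠ 0 := Nat.card_pos.ne'
    exact_mod_cast this
  field_simp at h1
  exact h1

theorem irr_sum_eq_zero {χ : IrrCharacter G} (hχ : χ ≠ trivIrr G) :
    ∑ g : G, (χ : G → ℂ) g = 0 := by
  have h1 := irr_classInner_eq_zero χ.2 (trivIrr G).2 (fun e => hχ (Subtype.ext e))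
  unfold classInner at h1
  have h0 : (Nat.card G : ℂ) ≠ 0 := by
    have : Nat.card G ≠ 0 := Nat.card_pos.ne'
    exact_mod_cast this
  simp only [trivIrr_apply, map_one, mul_one] at h1
  rcases mul_eq_zero.1 h1 with h | h
  · exact absurd (inv_eq_zero.1 h) h0
  · exact h

/-- The arithmetic core of the analysis off the conjugates of `K`. -/
theorem core_R (R : Finset G) (n : G → ℤ) (δ q k i N c : ℤ) (hδ : δ = 1 ∨ δ = -1)
    (s2 : q = 2 * k + δ) (s3 : 2 * i = q * (q + δ)) (s4 : N = k * (q * (q + δ)))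
    (hc : c = (k - 1) * i)
    (h1 : N = q * (q + δ) + 2 * c + ∑ g ∈ R, n g * (n g + δ))
    (h2 : 2 * N = (q + δ) ^ 2 + 4 * c + ∑ g ∈ R, (n g + δ) ^ 2) :
    (∀ g ∈ R, n g = 0 ∨ n g = -δ) ∧ ((R.filter (fun g => n g = 0)).card : ℤ) = q ^ 2 - 1 := by
  have hδ2 : δ * δ = 1 := by rcases hδ with rfl | rfl <;> norm_num
  have e1 : ∑ g ∈ R, n g * (n g + δ) = 0 := by
    have : 2 * c = (k - 1) * (q * (q + δ)) := by rw [hc, ← s3]; ring
    rw [s4] at h1
    linarith
  have hnn : ∀ g ∈ R, 0 ≤ n g * (n g + δ) := by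
    intro g _
    rcases hδ with rfl | rfl
    · rcases le_or_gt 0 (n g) with h | h
      · exact mul_nonneg h (by omega)
      · exact mul_nonneg_of_nonpos_of_nonpos (by omega) (by omega)
    · rcases le_or_gt (n g) 0 with h | h
      · exact mul_nonneg_of_nonpos_of_nonpos h (by omega)
      · exact mul_nonneg (by omega) (by omega)
  have hz := (Finset.sum_eq_zero_iff_of_nonneg hnn).1 e1
  have hval : ∀ g ∈ R, n g = 0 ∨ n g = -δ := by
    intro g hg
    rcases mul_eq_zero.1 (hz g hg) with h | h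
    · exact Or.inl h
    · exact Or.inr (by omega)
  refine ⟨hval, ?_⟩
  have e2 : ∑ g ∈ R, (n g + δ) ^ 2 = q ^ 2 - 1 := by
    have h4c : 4 * c = 2 * (k - 1) * (q * (q + δ)) := by rw [hc]; linear_combination (2 * (k - 1)) * s3
    have : ∑ g ∈ R, (n g + δ) ^ 2 = 2 * N - (q + δ) ^ 2 - 4 * c := by linarith
    rw [this, h4c, s4]
    have hk : 2 * k = q - δ := by linarith
    have : 2 * (k * (q * (q + δ))) - (q + δ) ^ 2 - 2 * (k - 1) * (q * (q + δ))
        = 2 * (q * (q + δ)) - (q + δ) ^ 2 := by ring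
    rw [this]
    have : 2 * (q * (q + δ)) - (q + δ) ^ 2 = q * q - δ * δ := by ring
    rw [this, hδ2]; ring
  have e3 : ∑ g ∈ R, (n g + δ) ^ 2 = ∑ g ∈ R, (if n g = 0 then (1 : ℤ) else 0) := by
    apply Finset.sum_congr rfl
    intro g hg
    rcases hval g hg with h | h
    · rw [if_pos h, h, zero_add, sq, hδ2]
    · have hne : n g ≠ 0 := by
        rw [h]
        rcases hδ with rfl | rfl <;> norm_num
      rw [if_neg hne, h]; ring
  rw [e3, Finset.sum_ite, Finset.sum_const, Finset.sum_const_zero, add_zero, nsmul_eq_mul,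
    mul_one] at e2
  exact e2

variable {K : Subgroup G} [Fintype (K →* ℂˣ)] [DecidableEq (K →* ℂˣ)]
  [DecidableEq (IrrCharacter G)] {ν : K →* ℂˣ}

namespace Main

variable (M : Main K ν) (hab : ∀ a ∈ K, ∀ b ∈ K, a * b = b * a) (hν : IsNu ν)
include hab hν

/-- The analysis of the elements in no conjugate of `K`. -/
theorem R_analysis [Finite K] (t' : K) (ht1 : t' ≠ 1) (htt : t' * t' = 1)
    (r1 : M.c₁ = -M.δ) (r2 : M.c₂ = -M.δ) (r3 : 2 * deg M.Y₁ = deg M.X + M.δ)
    (r4 : 2 * deg M.Y₂ = deg M.X + M.δ) (s2 : deg M.X = 2 * (Nat.card K : ℤ) + M.δ) (i : ℕ)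
    (s3 : 2 * (i : ℤ) = deg M.X * (deg M.X + M.δ))
    (s4 : (Nat.card G : ℤ) = (Nat.card K : ℤ) * (deg M.X * (deg M.X + M.δ)))
    (hk : 4 ≤ Nat.card K) (b : G → ℕ)
    (hb : ∀ g : G, (∀ x : G, x⁻¹ * g * x ∉ K) →
      (i : ℂ) * Tsum (t' : G) g = 2 * (Nat.card K : ℂ) * (b g : ℂ))
    (hC : Nat.card {g : G // g ≠ 1 ∧ ¬ ∀ x : G, x⁻¹ * g * x ∉ K} = (Nat.card K - 1) * i) :
    (∀ g : G, (∀ x : G, x⁻¹ * g * x ∉ K) →
      (M.δ = 1 → (b g : ℤ) = deg M.X ∨ 2 * (b g : ℤ) = deg M.X + 1) ∧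
      (M.δ = -1 → b g = 0 ∨ 2 * (b g : ℤ) + 1 = deg M.X)) ∧
    (Nat.card {g : G // (∀ x : G, x⁻¹ * g * x ∉ K) ∧
        ((M.δ = 1 ∧ (b g : ℤ) = deg M.X) ∨ (M.δ = -1 ∧ b g = 0))} : ℤ) = deg M.X ^ 2 - 1 := by
  classical
  set P : G → Prop := fun g => ∀ x : G, x⁻¹ * g * x ∉ K with hP
  have hP1 : ¬ P 1 := fun h => h 1 (by simp)
  have hδ2 := intCast_mul_self M.hδ
  -- the integer values
  have hex : ∀ g : G, ∃ n : ℤ, P g → ((M.X : G → ℂ) g = (n : ℂ) ∧
      (deg M.X - 1) * n = 2 * (b g : ℤ) - (1 + M.δ) * deg M.X) := by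
    intro g
    by_cases hg : P g
    · obtain ⟨n, h1, h2⟩ := M.exists_int_X hab hν t' ht1 htt r1 r2 r3 r4 s2 i s3 hk (b g) g hg
        (hb g hg)
      exact ⟨n, fun _ => ⟨h1, h2⟩⟩
    · exact ⟨0, fun h => absurd h hg⟩
  choose n hn using hex
  -- the values on the conjugates of `K`
  have hXC : ∀ g : G, g ≠ 1 ∧ ¬ P g → (M.X : G → ℂ) g = (M.δ : ℂ) := by
    rintro g ⟨hg1, hgP⟩
    simp only [hP] at hgP
    push Not at hgP
    obtain ⟨x, hx⟩ := hgP
    have hcf : IsClassFunction G (M.X : G → ℂ) :=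
      isClassFunction_of_isCharacter (isCharacter_of_isIrrCharacter M.X.2)
    have h1 := hcf g x⁻¹
    rw [inv_inv] at h1
    rw [← h1]
    have hne : (⟨x⁻¹ * g * x, hx⟩ : K) ≠ 1 := by
      intro e
      have e' : x⁻¹ * g * x = 1 := congrArg Subtype.val e
      apply hg1
      have : g = x * (x⁻¹ * g * x) * x⁻¹ := by group
      rw [this, e', mul_one, mul_inv_cancel]
    exact M.X_apply hab hν ⟨x⁻¹ * g * x, hx⟩ hne
  have hq : (M.X : G → ℂ) 1 = (deg M.X : ℂ) := deg_spec _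
  have hXX := irr_sum_mul_conj M.X
  have hX0 := irr_sum_eq_zero M.hXo
  have hX0' : ∑ g : G, conj ((M.X : G → ℂ) g) = 0 := by rw [← map_sum, hX0, map_zero]
  have hF1 : ∑ g : G, (M.X : G → ℂ) g * conj ((M.X : G → ℂ) g + (M.δ : ℂ))
      = (Nat.card G : ℂ) := by
    have : ∀ g : G, (M.X : G → ℂ) g * conj ((M.X : G → ℂ) g + (M.δ : ℂ))
        = (M.X : G → ℂ) g * conj ((M.X : G → ℂ) g) + (M.δ : ℂ) * (M.X : G → ℂ) g := by
      intro g; rw [map_add, map_intCast]; ring
    rw [Finset.sum_congr rfl (fun g _ => this g), Finset.sum_add_distrib, ← Finset.mul_sum, hXX,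
      hX0, mul_zero, add_zero]
  have hF2 : ∑ g : G, ((M.X : G → ℂ) g + (M.δ : ℂ)) * conj ((M.X : G → ℂ) g + (M.δ : ℂ))
      = 2 * (Nat.card G : ℂ) := by
    have : ∀ g : G, ((M.X : G → ℂ) g + (M.δ : ℂ)) * conj ((M.X : G → ℂ) g + (M.δ : ℂ))
        = (M.X : G → ℂ) g * conj ((M.X : G → ℂ) g) + (M.δ : ℂ) * (M.X : G → ℂ) g
          + (M.δ : ℂ) * conj ((M.X : G → ℂ) g) + 1 := by
      intro g; rw [map_add, map_intCast]; linear_combination hδ2
    rw [Finset.sum_congr rfl (fun g _ => this g), Finset.sum_add_distrib, Finset.sum_add_distrib,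
      Finset.sum_add_distrib, ← Finset.mul_sum, ← Finset.mul_sum, hXX, hX0, hX0',
      Finset.sum_const, Finset.card_univ, nsmul_eq_mul, mul_one, ← Nat.card_eq_fintype_card]
    ring
  rw [sum_split3 P hP1] at hF1 hF2
  -- the three pieces
  have hcC : ((Finset.univ.filter (fun g : G => g ≠ 1 ∧ ¬ P g)).card : ℤ)
      = ((Nat.card K : ℤ) - 1) * (i : ℤ) := by
    have h1 : (Finset.univ.filter (fun g : G => g ≠ 1 ∧ ¬ P g)).card
        = Nat.card {g : G // g ≠ 1 ∧ ¬ ∀ x : G, x⁻¹ * g * x ∉ K} := by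
      rw [Nat.card_eq_fintype_card, Fintype.card_subtype]
    rw [h1, hC]
    have : 1 ≤ Nat.card K := by omega
    push_cast [this]
    ring
  have hC1 : ∑ g ∈ Finset.univ.filter (fun g : G => g ≠ 1 ∧ ¬ P g),
      (M.X : G → ℂ) g * conj ((M.X : G → ℂ) g + (M.δ : ℂ))
      = 2 * ((Finset.univ.filter (fun g : G => g ≠ 1 ∧ ¬ P g)).card : ℂ) := by
    have : ∀ g ∈ Finset.univ.filter (fun g : G => g ≠ 1 ∧ ¬ P g),
        (M.X : G → ℂ) g * conj ((M.X : G → ℂ) g + (M.δ : ℂ)) = 2 := by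
      intro g hg
      rw [hXC g (Finset.mem_filter.1 hg).2, map_add, map_intCast]
      linear_combination 2 * hδ2
    rw [Finset.sum_congr rfl this, Finset.sum_const, nsmul_eq_mul]; ring
  have hC2 : ∑ g ∈ Finset.univ.filter (fun g : G => g ≠ 1 ∧ ¬ P g),
      ((M.X : G → ℂ) g + (M.δ : ℂ)) * conj ((M.X : G → ℂ) g + (M.δ : ℂ))
      = 4 * ((Finset.univ.filter (fun g : G => g ≠ 1 ∧ ¬ P g)).card : ℂ) := by
    have : ∀ g ∈ Finset.univ.filter (fun g : G => g ≠ 1 ∧ ¬ P g),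
        ((M.X : G → ℂ) g + (M.δ : ℂ)) * conj ((M.X : G → ℂ) g + (M.δ : ℂ)) = 4 := by
      intro g hg
      rw [hXC g (Finset.mem_filter.1 hg).2, map_add, map_intCast]
      linear_combination 4 * hδ2
    rw [Finset.sum_congr rfl this, Finset.sum_const, nsmul_eq_mul]; ring
  have hR1 : ∑ g ∈ Finset.univ.filter P,
      (M.X : G → ℂ) g * conj ((M.X : G → ℂ) g + (M.δ : ℂ))
      = ((∑ g ∈ Finset.univ.filter P, n g * (n g + M.δ) : ℤ) : ℂ) := by
    push_cast
    apply Finset.sum_congr rfl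
    intro g hg
    rw [(hn g (Finset.mem_filter.1 hg).2).1, map_add, map_intCast, map_intCast]
  have hR2 : ∑ g ∈ Finset.univ.filter P,
      ((M.X : G → ℂ) g + (M.δ : ℂ)) * conj ((M.X : G → ℂ) g + (M.δ : ℂ))
      = ((∑ g ∈ Finset.univ.filter P, (n g + M.δ) ^ 2 : ℤ) : ℂ) := by
    push_cast
    apply Finset.sum_congr rfl
    intro g hg
    rw [(hn g (Finset.mem_filter.1 hg).2).1, map_add, map_intCast, map_intCast]
    ring
  rw [hC1, hR1, hq, map_add, map_intCast, map_intCast] at hF1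
  rw [hC2, hR2, hq, map_add, map_intCast, map_intCast] at hF2
  have g1 : (Nat.card G : ℤ) = deg M.X * (deg M.X + M.δ)
      + 2 * ((Finset.univ.filter (fun g : G => g ≠ 1 ∧ ¬ P g)).card : ℤ)
      + ∑ g ∈ Finset.univ.filter P, n g * (n g + M.δ) := by
    have : ((Nat.card G : ℤ) : ℂ) = ((deg M.X * (deg M.X + M.δ)
      + 2 * ((Finset.univ.filter (fun g : G => g ≠ 1 ∧ ¬ P g)).card : ℤ)
      + ∑ g ∈ Finset.univ.filter P, n g * (n g + M.δ) : ℤ) : ℂ) := by
      rw [Int.cast_natCast, ← hF1]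
      push_cast
      ring
    exact_mod_cast this
  have g2 : 2 * (Nat.card G : ℤ) = (deg M.X + M.δ) ^ 2
      + 4 * ((Finset.univ.filter (fun g : G => g ≠ 1 ∧ ¬ P g)).card : ℤ)
      + ∑ g ∈ Finset.univ.filter P, (n g + M.δ) ^ 2 := by
    have : ((2 * (Nat.card G : ℤ) : ℤ) : ℂ) = (((deg M.X + M.δ) ^ 2
      + 4 * ((Finset.univ.filter (fun g : G => g ≠ 1 ∧ ¬ P g)).card : ℤ)
      + ∑ g ∈ Finset.univ.filter P, (n g + M.δ) ^ 2 : ℤ) : ℂ) := by
      rw [Int.cast_mul, Int.cast_natCast, Int.cast_ofNat, ← hF2]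
      push_cast
      ring
    exact_mod_cast this
  obtain ⟨hval, hcount⟩ := core_R (Finset.univ.filter P) n M.δ (deg M.X) (Nat.card K : ℤ) (i : ℤ)
    (Nat.card G : ℤ) _ M.hδ s2 s3 s4 hcC g1 g2
  have hk' : (4 : ℤ) ≤ (Nat.card K : ℤ) := by exact_mod_cast hk
  have hq1 : deg M.X - 1 ≠ 0 := by
    rcases M.hδ with e | e <;> rw [e] at s2 <;> omega
  constructor
  · intro g hg
    have hgR : g ∈ Finset.univ.filter P := Finset.mem_filter.2 ⟨Finset.mem_univ _, hg⟩
    have h2 := (hn g hg).2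
    constructor
    · intro e
      rw [e] at h2
      rcases hval g hgR with h | h
      · left; rw [h] at h2; linarith
      · right; rw [h, e] at h2; linarith
    · intro e
      rw [e] at h2
      rcases hval g hgR with h | h
      · left; rw [h] at h2; omega
      · right; rw [h, e] at h2; linarith
  · rw [← hcount, Nat.card_eq_fintype_card, Fintype.card_subtype]
    congr 2
    ext g
    simp only [Finset.mem_filter, Finset.mem_univ, true_and]
    constructor
    · rintro ⟨hg, hor⟩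
      refine ⟨hg, ?_⟩
      have h2 := (hn g hg).2
      rcases hor with ⟨e, hbq⟩ | ⟨e, hb0⟩
      · rw [e, hbq] at h2
        have : (deg M.X - 1) * n g = 0 := by linarith
        rcases mul_eq_zero.1 this with h | h
        · exact absurd h hq1
        · exact h
      · rw [e, hb0] at h2
        have : (deg M.X - 1) * n g = 0 := by rw [h2]; push_cast; ring
        rcases mul_eq_zero.1 this with h | h
        · exact absurd h hq1
        · exact h
    · rintro ⟨hg, h0⟩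
      refine ⟨hg, ?_⟩
      have h2 := (hn g hg).2
      rw [h0] at h2
      rcases M.hδ with e | e
      · left
        rw [e] at h2
        exact ⟨e, by linarith⟩
      · right
        rw [e] at h2
        exact ⟨e, by omega⟩

end Main

end Cfsg.Agent.Lib.Helper7.BSWc
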