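import Mathlib
import Cfsg.Prelude.Def_Characters
import Cfsg.Agent.Lib.Helper7.BSWc13

set_option autoImplicit false
set_option linter.style.haveILetI false
set_option linter.unusedSectionVars false
set_option linter.unusedVariables false

/-!
# Brauer–Suzuki–Wall, character theory, part 14: the exceptional case does not occur
-/

namespace Cfsg.Agent.Lib.Helper7.BSWc

open Cfsg Cfsg.Agent.Lib.helper3.Irr Cfsg.Agent.Lib.helper3.CharBasic
open Cfsg.Agent.Lib.helper3.IndFun Cfsg.Agent.Lib.helper3.CycTI Cfsg.Agent.Lib.Helper7.BrP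
open Cfsg.Agent.Lib.helper3.Pf4 Cfsg.Agent.Lib.Helper7.ExcA
open scoped ComplexConjugate

variable {G : Type*} [Group G] {K : Subgroup G}

theorem linFun_one_apply (x : K) : linFun (1 : K →* ℂˣ) x = 1 := by simp [linFun]

theorem linFun_apply_one (ω : K →* ℂˣ) : linFun ω (1 : K) = 1 := by simp [linFun]

namespace IsNu

variable {ν : K →* ℂˣ} (hν : IsNu ν)
include hν

theorem sum_apply [Fintype K] : ∑ x : K, linFun ν x = 0 := by
  obtain ⟨x₀, hx₀⟩ := hν.exists_neg
  have h1 : ∑ x : K, linFun ν x = ∑ x : K, linFun ν (x₀ * x) :=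
    (Fintype.sum_equiv (Equiv.mulLeft x₀) _ _ (fun x => rfl)).symm
  have h2 : ∀ x : K, linFun ν (x₀ * x) = - linFun ν x := by
    intro x
    have : linFun ν (x₀ * x) = linFun ν x₀ * linFun ν x := by simp [linFun]
    rw [this, hx₀]; ring
  rw [Finset.sum_congr rfl (fun x _ => h2 x), Finset.sum_neg_distrib] at h1
  linear_combination (1 / 2 : ℂ) * h1

/-- A third element on which `ν` takes the same value as on a given non-identity element. -/
theorem exists_same [Finite K] (t' : K) (ht1 : t' ≠ 1) (hk : 5 ≤ Nat.card K) :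
    ∃ a : K, a ≠ 1 ∧ a ≠ t' ∧ linFun ν a = linFun ν t' := by
  classical
  haveI : Fintype K := Fintype.ofFinite _
  by_contra hcon
  push Not at hcon
  have hf : ∀ x : K, x ∉ ({1, t'} : Finset K) → linFun ν x + linFun ν t' = 0 := by
    intro x hx
    simp only [Finset.mem_insert, Finset.mem_singleton, not_or] at hx
    have h1 := hcon x hx.1 hx.2
    rcases hν.apply_eq x with h | h <;> rcases hν.apply_eq t' with h' | h' <;> rw [h, h'] at h1 ⊢
    · exact absurd rfl h1
    · ring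
    · ring
    · exact absurd rfl h1
  have h2 : ∑ x ∈ ({1, t'} : Finset K), (linFun ν x + linFun ν t')
      = ∑ x : K, (linFun ν x + linFun ν t') :=
    Finset.sum_subset (Finset.subset_univ _) (fun x _ hx => hf x hx)
  rw [Finset.sum_pair (Ne.symm ht1), Finset.sum_add_distrib, hν.sum_apply, Finset.sum_const,
    Finset.card_univ, ← Nat.card_eq_fintype_card, nsmul_eq_mul, linFun_apply_one] at h2
  rcases hν.apply_eq t' with h' | h' <;> rw [h'] at h2
  · have : (Nat.card K : ℂ) = 4 := by linear_combination -h2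
    have : Nat.card K = 4 := by exact_mod_cast this
    omega
  · have : (Nat.card K : ℂ) = 2 := by linear_combination h2
    have : Nat.card K = 2 := by exact_mod_cast this
    omega

end IsNu

variable [Fintype G] [Fintype (K →* ℂˣ)] [DecidableEq (K →* ℂˣ)]
  [DecidableEq (IrrCharacter G)] {ν : K →* ℂˣ}

theorem linFun_mul_inv [Finite K] (ω : K →* ℂˣ) (x y : K) :
    linFun ω (x * y⁻¹) = linFun ω x * conj (linFun ω y) := by
  rw [← linFun_inv_eq_conj]
  simp [linFun]

namespace Exc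

variable (E : Exc K ν)

theorem z_X {ω μ : K →* ℂˣ} (hω : ω ∈ Lam K) (hμ : μ ∈ Lam K) :
    zc K ω (E.X μ) = if ω = μ ∨ ω = μ⁻¹ then E.δ else 0 := by
  rw [E.hz ω hω, ind_ne (E.hXo μ hμ), ind_ne (E.hXL μ hμ)]
  by_cases e : ω = μ ∨ ω = μ⁻¹
  · rw [if_pos e, ((E.hXX μ hμ ω hω).2 e), ind_self]; ring
  · rw [if_neg e, ind_ne (fun e' => e ((E.hXX μ hμ ω hω).1 e'))]; ring

/-- At least five elements in `K`. -/
theorem five_le [Finite K] (E : Exc K ν) (hab : ∀ a ∈ K, ∀ b ∈ K, a * b = b * a) (hν : IsNu ν) :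
    5 ≤ Nat.card K := by
  obtain ⟨ω₁, h₁, ω₂, h₂, hne1, hne2⟩ := E.hex
  have hsub : ({ω₁, ω₁⁻¹, ω₂} : Finset (K →* ℂˣ)) ⊆ Lam K := by
    intro ω hω
    simp only [Finset.mem_insert, Finset.mem_singleton] at hω
    rcases hω with e | e | e
    · exact e ▸ h₁
    · exact e ▸ inv_mem_Lam h₁
    · exact e ▸ h₂
  have hcard : ({ω₁, ω₁⁻¹, ω₂} : Finset (K →* ℂˣ)).card = 3 := by
    rw [Finset.card_insert_of_notMem, Finset.card_insert_of_notMem, Finset.card_singleton]
    · simp only [Finset.mem_singleton]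
      exact fun e => hne2 e.symm
    · simp only [Finset.mem_insert, Finset.mem_singleton, not_or]
      exact ⟨ne_inv_of_mem_Lam h₁, fun e => hne1 e.symm⟩
  have h3 := Finset.card_le_card hsub
  have h4 := card_Lam hν hab
  omega

variable (hab : ∀ a ∈ K, ∀ b ∈ K, a * b = b * a) (hν : IsNu ν)
include hab hν

theorem X_apply [Finite K] {μ : K →* ℂˣ} (hμ : μ ∈ Lam K) (x : K) (hx : x ≠ 1) :
    (E.X μ : G → ℂ) (x : G) = -(E.δ : ℂ) * (linFun ν x + linFun μ x + linFun μ⁻¹ x) := by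
  rw [restrict_split hab hν (E.X μ) x hx, E.hcX μ hμ]
  have h1 : ∑ ω ∈ Lam K, (zc K ω (E.X μ) : ℂ) * linFun ω x
      = ∑ ω ∈ Lam K, (if ω = μ ∨ ω = μ⁻¹ then (E.δ : ℂ) * linFun ω x else 0) := by
    apply Finset.sum_congr rfl
    intro ω hω
    rw [E.z_X hω hμ]
    split_ifs <;> push_cast <;> ring
  rw [h1, sum_Lam_pair hμ]
  ring

/-- The difference of the values of an irreducible character at two elements of `K` on which
`ν` agrees. -/
theorem sub_apply [Finite K] (χ : IrrCharacter G) (x y : K) (hx : x ≠ 1) (hy : y ≠ 1)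
    (hxy : linFun ν x = linFun ν y) :
    (χ : G → ℂ) (x : G) - (χ : G → ℂ) (y : G) = -(E.δ : ℂ) *
      ∑ ω ∈ Lam K, ((ind (E.X ω) χ : ℤ) : ℂ) * (linFun ω x - linFun ω y) := by
  have hS : ∑ ω ∈ Lam K, (linFun ω x - linFun ω y) = 0 := by
    rw [Finset.sum_sub_distrib, sum_Lam_apply hν hab x hx, sum_Lam_apply hν hab y hy, hxy]; ring
  have h1 : ∀ ω ∈ Lam K, (zc K ω χ : ℂ) * linFun ω x - (zc K ω χ : ℂ) * linFun ω y =
      (((ind (trivIrr G) χ : ℤ) : ℂ) - (E.δ : ℂ) * ((ind E.L χ : ℤ) : ℂ))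
        * (linFun ω x - linFun ω y)
      + (E.δ : ℂ) * (((ind (E.X ω) χ : ℤ) : ℂ) * (linFun ω x - linFun ω y)) := by
    intro ω hω
    rw [E.hz ω hω χ]
    push_cast
    ring
  have h2 : (χ : G → ℂ) (x : G) - (χ : G → ℂ) (y : G)
      = -(∑ ω ∈ Lam K, ((zc K ω χ : ℂ) * linFun ω x - (zc K ω χ : ℂ) * linFun ω y)) := by
    rw [restrict_split hab hν χ x hx, restrict_split hab hν χ y hy, hxy, Finset.sum_sub_distrib]
    ring
  rw [h2, Finset.sum_congr rfl h1, Finset.sum_add_distrib, ← Finset.mul_sum, hS, mul_zero,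
    zero_add, ← Finset.mul_sum]
  ring

/-- The difference of two class-algebra sums. -/
theorem Tsum_sub [Finite K] (t' : K) (ht1 : t' ≠ 1) (htt : t' * t' = 1) (a : K) (ha1 : a ≠ 1)
    (hat : a ≠ t') (hνa : linFun ν a = linFun ν t') :
    Tsum (t' : G) (t' : G) - Tsum (t' : G) (a : G)
      = -4 * (E.δ : ℂ) * linFun ν t' * (Nat.card K : ℂ) / ((deg E.L : ℂ) - (E.δ : ℂ)) := by
  have hδ2 := intCast_mul_self E.hδ
  have hνt := hν.apply_mul_self t'
  unfold Tsum
  rw [← Finset.sum_sub_distrib]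
  -- each term
  have h1 : ∀ χ : IrrCharacter G,
      (χ : G → ℂ) (t' : G) * (χ : G → ℂ) (t' : G) * conj ((χ : G → ℂ) (t' : G)) / (χ : G → ℂ) 1
        - (χ : G → ℂ) (t' : G) * (χ : G → ℂ) (t' : G) * conj ((χ : G → ℂ) (a : G))
          / (χ : G → ℂ) 1
      = ∑ ω ∈ Lam K, ((ind (E.X ω) χ : ℤ) : ℂ) *
          (-(E.δ : ℂ) * ((χ : G → ℂ) (t' : G) * (χ : G → ℂ) (t' : G) / (χ : G → ℂ) 1)
            * conj (linFun ω t' - linFun ω a)) := by
    intro χ
    have e1 : (χ : G → ℂ) (t' : G) * (χ : G → ℂ) (t' : G) * conj ((χ : G → ℂ) (t' : G))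
          / (χ : G → ℂ) 1
        - (χ : G → ℂ) (t' : G) * (χ : G → ℂ) (t' : G) * conj ((χ : G → ℂ) (a : G))
          / (χ : G → ℂ) 1
        = (χ : G → ℂ) (t' : G) * (χ : G → ℂ) (t' : G) / (χ : G → ℂ) 1
          * conj ((χ : G → ℂ) (t' : G) - (χ : G → ℂ) (a : G)) := by
      rw [map_sub]; ring
    rw [e1, E.sub_apply hab hν χ t' a ht1 ha1 hνa.symm, map_mul, map_neg, map_intCast, map_sum,
      Finset.mul_sum, Finset.mul_sum]
    apply Finset.sum_congr rfl
    intro ω _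
    rw [map_mul, map_intCast]
    ring
  rw [Finset.sum_congr rfl (fun χ _ => h1 χ), Finset.sum_comm]
  -- the inner sums
  have hd : ∀ ω ∈ Lam K, (deg (E.X ω) : ℂ) = (deg E.L : ℂ) - (E.δ : ℂ) := by
    intro ω hω
    have := E.hdeg ω hω
    have h : ((deg E.L : ℤ) : ℂ) = ((deg (E.X ω) + E.δ : ℤ) : ℂ) := by rw [this]
    push_cast at h
    rw [h]; ring
  have h2 : ∀ ω ∈ Lam K, ∑ χ : IrrCharacter G, ((ind (E.X ω) χ : ℤ) : ℂ) *
          (-(E.δ : ℂ) * ((χ : G → ℂ) (t' : G) * (χ : G → ℂ) (t' : G) / (χ : G → ℂ) 1)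
            * conj (linFun ω t' - linFun ω a))
      = -(E.δ : ℂ) / ((deg E.L : ℂ) - (E.δ : ℂ)) *
          (5 * conj (linFun ω t' - linFun ω a)
            + 4 * linFun ν t' * (1 - linFun ω (t' * a⁻¹))) := by
    intro ω hω
    rw [sum_indC_mul, E.X_apply hab hν hω t' ht1, deg_spec, hd ω hω]
    have h3 : linFun ω⁻¹ t' = linFun ω t' := by
      rw [linFun_inv_eq_conj]
      rcases apply_invol_eq ω t' htt with h | h <;> rw [h] <;> simp
    have h4 : linFun ω t' * linFun ω t' = 1 := by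
      rcases apply_invol_eq ω t' htt with h | h <;> rw [h] <;> norm_num
    have h5 : conj (linFun ω t') = linFun ω t' := by
      rcases apply_invol_eq ω t' htt with h | h <;> rw [h] <;> simp
    rw [h3, linFun_mul_inv, map_sub, h5]
    have e : -(E.δ : ℂ) * (linFun ν t' + linFun ω t' + linFun ω t') *
        (-(E.δ : ℂ) * (linFun ν t' + linFun ω t' + linFun ω t'))
        = ((E.δ : ℂ) * (E.δ : ℂ)) * (linFun ν t' * linFun ν t' + 4 * linFun ν t' * linFun ω t'
          + 4 * (linFun ω t' * linFun ω t')) := by ring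
    rw [e, hδ2, hνt, h4]
    have e2 : linFun ω t' * (linFun ω t' - conj (linFun ω a))
        = 1 - linFun ω t' * conj (linFun ω a) := by
      rw [mul_sub, h4]
    linear_combination (-(E.δ : ℂ) / ((deg E.L : ℂ) - (E.δ : ℂ)) * (4 * linFun ν t')) * e2
  rw [Finset.sum_congr rfl h2, ← Finset.mul_sum, Finset.sum_add_distrib, ← Finset.mul_sum,
    ← Finset.mul_sum, ← map_sum, Finset.sum_sub_distrib, Finset.sum_sub_distrib,
    sum_Lam_apply hν hab t' ht1, sum_Lam_apply hν hab a ha1, hνa]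
  have hta : t' * a⁻¹ ≠ 1 := by
    intro e
    apply hat
    have : t' = a := by
      have := mul_inv_eq_one.1 e
      exact this
    exact this.symm
  rw [sum_Lam_apply hν hab (t' * a⁻¹) hta, linFun_mul_inv, hνa, hν.conj_apply, hνt,
    Finset.sum_const, nsmul_eq_mul, mul_one]
  have hc := card_Lam hν hab
  have hc' : ((Lam K).card : ℂ) = (Nat.card K : ℂ) - 2 := by
    have : ((Lam K).card : ℂ) + 2 = (Nat.card K : ℂ) := by exact_mod_cast hc
    linear_combination this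
  rw [hc', sub_self, map_zero]
  ring

/-- The exceptional case does not occur. -/
theorem elim [Finite K] (E : Exc K ν) (t' : K) (ht1 : t' ≠ 1) (htt : t' * t' = 1) (i : ℕ)
    (hT : ∀ x : K, x ≠ 1 → (i : ℂ) * Tsum (t' : G) (x : G) = 2 * (Nat.card K : ℂ) ^ 2) :
    False := by
  have hk := E.five_le hab hν
  obtain ⟨a, ha1, hat, hνa⟩ := hν.exists_same t' ht1 hk
  have h1 := hT t' ht1
  have h2 := hT a ha1
  have hk0 : (Nat.card K : ℂ) ≠ 0 := by
    have : Nat.card K ≠ 0 := by omega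
    exact_mod_cast this
  have hi : (i : ℂ) ≠ 0 := by
    intro hi0
    rw [hi0, zero_mul] at h1
    exact (pow_ne_zero 2 hk0) (by linear_combination (-1 / 2 : ℂ) * h1)
  have h3 : (i : ℂ) * (Tsum (t' : G) (t' : G) - Tsum (t' : G) (a : G)) = 0 := by
    rw [mul_sub, h1, h2, sub_self]
  rw [E.Tsum_sub hab hν t' ht1 htt a ha1 hat hνa] at h3
  obtain ⟨ω₁, h₁, -⟩ := E.hex
  have hd : (deg E.L : ℂ) - (E.δ : ℂ) ≠ 0 := by
    have := E.hdeg ω₁ h₁
    have hp := deg_pos (E.X ω₁)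
    have h : (deg E.L - E.δ : ℤ) ≠ 0 := by omega
    exact_mod_cast h
  have hδ0 : (E.δ : ℂ) ≠ 0 := by
    rcases E.hδ with e | e <;> rw [e] <;> norm_num
  have hν0 : linFun ν t' ≠ 0 := by
    rcases hν.apply_eq t' with e | e <;> rw [e] <;> norm_num
  rcases mul_eq_zero.1 h3 with h | h
  · exact hi h
  · rw [div_eq_zero_iff] at h
    rcases h with h | h
    · have : (E.δ : ℂ) * linFun ν t' * (Nat.card K : ℂ) = 0 := by linear_combination (-1 / 4 : ℂ) * h
      rcases mul_eq_zero.1 this with h' | h'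
      · rcases mul_eq_zero.1 h' with h'' | h''
        · exact hδ0 h''
        · exact hν0 h''
      · exact hk0 h'
    · exact hd h

end Exc

end Cfsg.Agent.Lib.Helper7.BSWc
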