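import Mathlib
import Cfsg.Prelude.Def_Characters
import Cfsg.Agent.Lib.Helper7.BSWc14
import Cfsg.Agent.Lib.Lead.BSW0g
import Cfsg.Agent.Lib.helper3.ClassMul

set_option autoImplicit false
set_option linter.style.haveILetI false
set_option linter.unusedSectionVars false
set_option linter.unusedVariables false

/-!
# Brauer–Suzuki–Wall, character theory, part 15: the outcome `BB1`
-/

namespace Cfsg.Agent.Lib.Helper7.BSWc

open Cfsg Cfsg.Agent.Lib.helper3.Irr Cfsg.Agent.Lib.helper3.CharBasic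
open Cfsg.Agent.Lib.helper3.IndFun Cfsg.Agent.Lib.helper3.CycTI Cfsg.Agent.Lib.Helper7.BrP
open Cfsg.Agent.Lib.helper3.Pf4 Cfsg.Agent.Lib.Helper7.ExcA
open Cfsg.Agent.Lib.helper3.Central
open Cfsg.Agent.Lib.Lead.BSW
open scoped ComplexConjugate

variable {G : Type*} [Group G] {t s : G} {K : Subgroup G}

theorem isConj_iff_orderOf (h : Hyp t s K) (u : G) : IsConj t u ↔ orderOf u = 2 := by
  constructor
  · intro hc
    obtain ⟨c, hc⟩ := isConj_iff.1 hc
    rw [← hc]
    have := MulEquiv.orderOf_eq (MulAut.conj c) t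
    rw [MulAut.conj_apply] at this
    rw [this, h.ht]
  · intro hu
    exact h.conj t u h.ht hu

theorem khyp_of_hyp (h : Hyp t s K) : KHyp K where
  comm := h.comm
  ti := by
    intro x hx hx1 g hg
    rw [h.normalizer_K]
    exact h.ti x hx hx1 g hg
  inv := by
    intro n hn hnK x hx
    rw [h.normalizer_K] at hn
    rcases h.mem_H_iff.1 hn with h1 | h1
    · exact absurd h1 hnK
    · exact h.inv_of_mul_s_mem h1 hx
  card := by
    rw [h.normalizer_K, h.card_H]

theorem exists_not_mem_of_hyp (h : Hyp t s K) :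
    ∃ n ∈ Subgroup.normalizer (K : Set G), n ∉ K := by
  refine ⟨s, ?_, h.sK⟩
  rw [h.normalizer_K]
  exact h.sH

section fin

variable [Fintype G]

theorem beta_eq_mulCount (h : Hyp t s K) (g : G) : (Lead.BSW.beta g : ℂ) = mulCount t t g := by
  unfold Lead.BSW.beta mulCount
  congr 1
  apply Nat.card_congr
  apply Equiv.subtypeEquivRight
  intro p
  rw [isConj_iff_orderOf h, isConj_iff_orderOf h]

theorem card_cls (h : Hyp t s K) : (cls t).card = Nat.card {u : G // orderOf u = 2} := by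
  classical
  unfold cls
  rw [Nat.card_eq_fintype_card, Fintype.card_subtype]
  congr 1
  ext u
  simp only [Finset.mem_filter, Finset.mem_univ, true_and]
  exact isConj_iff_orderOf h u

/-- The class-algebra equation in terms of the number of factorisations. -/
theorem beta_eq (h : Hyp t s K) (g : G) :
    (Nat.card {u : G // orderOf u = 2} : ℂ) * Tsum t g
      = 2 * (Nat.card K : ℂ) * (Lead.BSW.beta g : ℂ) := by
  have h1 := mulCount_eq t t g
  rw [← beta_eq_mulCount h, card_cls h] at h1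
  have h2 := h.card_invol
  have h3 : (Nat.card G : ℂ) = (Nat.card {u : G // orderOf u = 2} : ℂ) * (2 * (Nat.card K : ℂ)) := by
    rw [← h2]; push_cast; ring
  have hG : (Nat.card G : ℂ) ≠ 0 := by
    have : Nat.card G ≠ 0 := Nat.card_pos.ne'
    exact_mod_cast this
  have hi : (Nat.card {u : G // orderOf u = 2} : ℂ) ≠ 0 := by
    intro e
    rw [e, zero_mul] at h3
    exact hG h3
  have hk : (Nat.card K : ℂ) ≠ 0 := by
    intro e
    rw [e, mul_zero, mul_zero] at h3
    exact hG h3
  rw [h1, h3]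
  unfold Tsum
  field_simp

end fin

/-- The outcome of the character theory. -/
theorem exists_BB1 (h : Hyp t s K) [Finite G] (hk : 4 ≤ Nat.card K) : ∃ q δ, BB1 K q δ := by
  classical
  haveI : Fintype G := Fintype.ofFinite G
  haveI : Finite (K →* ℂˣ) := finite_dual K
  haveI : Fintype (K →* ℂˣ) := Fintype.ofFinite _
  have hab := h.comm
  have hK := khyp_of_hyp h
  have hne := exists_not_mem_of_hyp h
  have huniq : ∀ x ∈ K, x * x = 1 → x = 1 ∨ x = t := fun x hx hxx => h.eq_t_of_mem_of_sq hx hxx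
  obtain ⟨ν, hν⟩ := exists_nu hab h.tK h.ht huniq
  set t' : K := ⟨t, h.tK⟩ with ht'
  have ht1 : t' ≠ 1 := by
    intro e
    exact ne_one_of_orderOf_two h.ht (congrArg Subtype.val e)
  have htt : t' * t' = 1 := Subtype.ext h.tt
  have hΛ : (Lam K).Nonempty := by
    rw [← Finset.card_pos]
    have := card_Lam hν hab
    omega
  set i := Nat.card {u : G // orderOf u = 2} with hi
  have hβ : ∀ g : G, (i : ℂ) * Tsum (t' : G) g = 2 * (Nat.card K : ℂ) * (Lead.BSW.beta g : ℂ) :=
    fun g => beta_eq h g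
  have hT : ∀ x : K, x ≠ 1 → (i : ℂ) * Tsum (t' : G) (x : G) = 2 * (Nat.card K : ℂ) ^ 2 := by
    intro x hx
    rw [hβ, h.beta_eq_card x.2 (fun e => hx (Subtype.ext e))]
    ring
  have hN : Nat.card G = 2 * Nat.card K * i := by
    rw [← h.card_invol]; ring
  have hkpos : 0 < Nat.card K := by omega
  have hipos : 0 < i := by
    rcases Nat.eq_zero_or_pos i with e | e
    · rw [e, mul_zero] at hN
      exact absurd hN Nat.card_pos.ne'
    · exact e
  have hiodd : Odd i := by
    have h2 := h.two_part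
    rw [hN, Nat.factorization_mul (by omega) hipos.ne'] at h2
    have h3 : i.factorization 2 = 0 := by
      have := congrFun (congrArg DFunLike.coe rfl : (⇑(i.factorization) = ⇑(i.factorization))) 2
      simp only [Finsupp.coe_add, Pi.add_apply] at h2
      omega
    rcases (Nat.factorization_eq_zero_iff i 2).1 h3 with h4 | h4 | h4
    · exact absurd Nat.prime_two h4
    · rw [← Nat.not_even_iff_odd]
      intro he
      exact h4 (even_iff_two_dvd.1 he)
    · omega
  rcases main_or_exc hK hne hν hΛ with ⟨⟨M⟩⟩ | ⟨⟨E⟩⟩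
  swap
  · exact absurd (E.elim hab hν t' ht1 htt i hT) id
  obtain ⟨r1, r2, r3, r4, s2, s3, s4, s5⟩ :=
    M.final hab hν t' ht1 htt huniq hk hΛ i hiodd hN hT
  have hC : Nat.card {g : G // g ≠ 1 ∧ ¬ ∀ x : G, x⁻¹ * g * x ∉ K} = (Nat.card K - 1) * i :=
    h.card_conjK
  obtain ⟨hval, hcount⟩ := M.R_analysis hab hν t' ht1 htt r1 r2 r3 r4 s2 i s3 s4 hk
    (fun g => Lead.BSW.beta g) (fun g _ => hβ g) hC
  have hq0 : 0 < deg M.X := deg_pos _
  obtain ⟨q, hq⟩ : ∃ q : ℕ, (q : ℤ) = deg M.X := ⟨(deg M.X).toNat, Int.toNat_of_nonneg hq0.le⟩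
  have hq1 : 1 ≤ q := by
    have : (0 : ℤ) < (q : ℤ) := by rw [hq]; exact hq0
    exact_mod_cast this
  refine ⟨q, M.δ, M.hδ, ?_, ?_, ?_, ?_⟩
  · rw [hq]; exact s2
  · have : ((2 * Nat.card G : ℕ) : ℤ) = ((q * (q + 1) * (q - 1) : ℕ) : ℤ) := by
      push_cast [hq1]
      rw [hq]
      exact s5
    exact_mod_cast this
  · intro g hg
    obtain ⟨h1, h2⟩ := hval g hg
    constructor
    · intro e
      rcases h1 e with h3 | h3
      · left
        rw [← hq] at h3
        exact_mod_cast h3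
      · right
        rw [← hq] at h3
        exact_mod_cast h3
    · intro e
      rcases h2 e with h3 | h3
      · left; exact h3
      · right
        rw [← hq] at h3
        exact_mod_cast h3
  · have e1 : Nat.card {g : G // InR K g ∧ ((M.δ = 1 ∧ Lead.BSW.beta g = q) ∨ (M.δ = -1 ∧ Lead.BSW.beta g = 0))}
        = Nat.card {g : G // (∀ x : G, x⁻¹ * g * x ∉ K) ∧
          ((M.δ = 1 ∧ (Lead.BSW.beta g : ℤ) = deg M.X) ∨ (M.δ = -1 ∧ Lead.BSW.beta g = 0))} := by
      apply Nat.card_congr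
      apply Equiv.subtypeEquivRight
      intro g
      rw [← hq]
      constructor
      · rintro ⟨hg, hor⟩
        refine ⟨hg, ?_⟩
        rcases hor with ⟨a, b⟩ | ⟨a, b⟩
        · exact Or.inl ⟨a, by exact_mod_cast b⟩
        · exact Or.inr ⟨a, b⟩
      · rintro ⟨hg, hor⟩
        refine ⟨hg, ?_⟩
        rcases hor with ⟨a, b⟩ | ⟨a, b⟩
        · exact Or.inl ⟨a, by exact_mod_cast b⟩
        · exact Or.inr ⟨a, b⟩
    rw [e1]
    have : ((Nat.card {g : G // (∀ x : G, x⁻¹ * g * x ∉ K) ∧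
          ((M.δ = 1 ∧ (Lead.BSW.beta g : ℤ) = deg M.X) ∨ (M.δ = -1 ∧ Lead.BSW.beta g = 0))} : ℕ) : ℤ)
        = ((q ^ 2 - 1 : ℕ) : ℤ) := by
      rw [hcount]
      have : 1 ≤ q ^ 2 := Nat.one_le_pow _ _ hq1
      push_cast [this]
      rw [hq]
    exact_mod_cast this

end Cfsg.Agent.Lib.Helper7.BSWc
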