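import Mathlib
import Cfsg.Prelude.Def_Characters
import Cfsg.Agent.Lib.Helper7.BSWc15

set_option autoImplicit false
set_option linter.style.haveILetI false
set_option linter.unusedSectionVars false
set_option linter.unusedVariables false

/-!
# Brauer–Suzuki–Wall, character theory, part 16: the data of the main case, packaged
-/

namespace Cfsg.Agent.Lib.Helper7.BSWc

open Cfsg Cfsg.Agent.Lib.helper3.Irr Cfsg.Agent.Lib.helper3.CharBasic
open Cfsg.Agent.Lib.helper3.IndFun Cfsg.Agent.Lib.helper3.CycTI Cfsg.Agent.Lib.Helper7.BrP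
open Cfsg.Agent.Lib.helper3.Pf4 Cfsg.Agent.Lib.Helper7.ExcA
open Cfsg.Agent.Lib.helper3.Central
open Cfsg.Agent.Lib.Lead.BSW
open scoped ComplexConjugate

variable {G : Type*} [Group G] {t s : G} {K : Subgroup G}

/-- The packaged outcome of the analysis of the first family. -/
structure MainOut [Fintype G] (K : Subgroup G) [Fintype (K →* ℂˣ)] [DecidableEq (K →* ℂˣ)]
    [DecidableEq (IrrCharacter G)] (i : ℕ) where
  ν : K →* ℂˣ
  hν : IsNu ν
  M : Main K ν
  r1 : M.c₁ = -M.δ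
  r2 : M.c₂ = -M.δ
  r3 : 2 * deg M.Y₁ = deg M.X + M.δ
  r4 : 2 * deg M.Y₂ = deg M.X + M.δ
  s2 : deg M.X = 2 * (Nat.card K : ℤ) + M.δ
  s3 : 2 * (i : ℤ) = deg M.X * (deg M.X + M.δ)
  s4 : (Nat.card G : ℤ) = (Nat.card K : ℤ) * (deg M.X * (deg M.X + M.δ))
  s5 : 2 * (Nat.card G : ℤ) = deg M.X * (deg M.X + 1) * (deg M.X - 1)

theorem odd_card_invol (h : Hyp t s K) [Finite G] :
    Odd (Nat.card {u : G // orderOf u = 2}) ∧
      Nat.card G = 2 * Nat.card K * Nat.card {u : G // orderOf u = 2} := by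
  set i := Nat.card {u : G // orderOf u = 2} with hi
  have hN : Nat.card G = 2 * Nat.card K * i := by
    rw [← h.card_invol]; ring
  have hkpos : 0 < Nat.card K := Nat.card_pos
  have hipos : 0 < i := by
    rcases Nat.eq_zero_or_pos i with e | e
    · rw [e, mul_zero] at hN
      exact absurd hN Nat.card_pos.ne'
    · exact e
  refine ⟨?_, hN⟩
  have h2 := h.two_part
  rw [hN, Nat.factorization_mul (by omega) hipos.ne'] at h2
  have h3 : i.factorization 2 = 0 := by
    simp only [Finsupp.coe_add, Pi.add_apply] at h2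
    omega
  rcases (Nat.factorization_eq_zero_iff i 2).1 h3 with h4 | h4 | h4
  · exact absurd Nat.prime_two h4
  · rw [← Nat.not_even_iff_odd]
    intro he
    exact h4 (even_iff_two_dvd.1 he)
  · omega

/-- The outcome of the analysis of the first family. -/
theorem exists_mainOut (h : Hyp t s K) [Fintype G] [Fintype (K →* ℂˣ)] [DecidableEq (K →* ℂˣ)]
    [DecidableEq (IrrCharacter G)] (hk : 4 ≤ Nat.card K) :
    Nonempty (MainOut K (Nat.card {u : G // orderOf u = 2})) := by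
  have hab := h.comm
  have hK := khyp_of_hyp h
  have hne := exists_not_mem_of_hyp h
  have huniq : ∀ x ∈ K, x * x = 1 → x = 1 ∨ x = t := fun x hx hxx => h.eq_t_of_mem_of_sq hx hxx
  obtain ⟨ν, hν⟩ := exists_nu hab h.tK h.ht huniq
  set t' : K := ⟨t, h.tK⟩ with ht'
  have ht1 : t' ≠ 1 := by
    intro e
    exact ne_one_of_orderOf_two h.ht (congrArg Subtype.val e)
  have htt : t' * t' = 1 := Subtype.ext h.tt
  have hΛ : (Lam K).Nonempty := by
    rw [← Finset.card_pos]
    have := card_Lam hν hab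
    omega
  set i := Nat.card {u : G // orderOf u = 2} with hi
  have hβ : ∀ g : G, (i : ℂ) * Tsum (t' : G) g = 2 * (Nat.card K : ℂ) * (Lead.BSW.beta g : ℂ) :=
    fun g => beta_eq h g
  have hT : ∀ x : K, x ≠ 1 → (i : ℂ) * Tsum (t' : G) (x : G) = 2 * (Nat.card K : ℂ) ^ 2 := by
    intro x hx
    rw [hβ, h.beta_eq_card x.2 (fun e => hx (Subtype.ext e))]
    ring
  obtain ⟨hiodd, hN⟩ := odd_card_invol h
  rcases main_or_exc hK hne hν hΛ with ⟨⟨M⟩⟩ | ⟨⟨E⟩⟩
  swap
  · exact absurd (E.elim hab hν t' ht1 htt i hT) id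
  obtain ⟨r1, r2, r3, r4, s2, s3, s4, s5⟩ :=
    M.final hab hν t' ht1 htt huniq hk hΛ i hiodd hN hT
  exact ⟨⟨ν, hν, M, r1, r2, r3, r4, s2, s3, s4, s5⟩⟩

end Cfsg.Agent.Lib.Helper7.BSWc
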