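import Mathlib
import Cfsg.Prelude.Def_Characters
import Cfsg.Agent.Lib.Helper7.BSWc16
import Cfsg.Agent.Lib.helper3.NormOne

set_option autoImplicit false
set_option linter.style.haveILetI false
set_option linter.unusedSectionVars false
set_option linter.unusedVariables false

/-!
# Brauer–Suzuki–Wall, character theory, part 17: the second family of exceptional characters
-/

namespace Cfsg.Agent.Lib.Helper7.BSWc

open Cfsg Cfsg.Agent.Lib.helper3.Irr Cfsg.Agent.Lib.helper3.CharBasic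
open Cfsg.Agent.Lib.helper3.IndFun Cfsg.Agent.Lib.helper3.CycTI Cfsg.Agent.Lib.Helper7.BrP
open Cfsg.Agent.Lib.helper3.Pf4 Cfsg.Agent.Lib.Helper7.ExcA
open scoped ComplexConjugate

variable {G : Type*} [Group G] {D : Subgroup G}

/-- In a group of odd order a nontrivial linear character is not real. -/
theorem ne_inv_of_odd [Finite D] (hodd : Odd (Nat.card D)) {μ : D →* ℂˣ} (hμ : μ ≠ 1) :
    μ ≠ μ⁻¹ := by
  intro e
  apply hμ
  ext d
  have h1 : μ d = (μ d)⁻¹ := by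
    have := congrArg (fun f : D →* ℂˣ => f d) e
    simpa using this
  have h2 : μ d ^ 2 = 1 := by
    rw [sq]
    nth_rewrite 2 [h1]
    exact mul_inv_cancel _
  obtain ⟨m, hm⟩ := hodd
  have h3 : μ d ^ (Nat.card D) = 1 := by
    rw [← map_pow, pow_card_eq_one', map_one]
  rw [hm, pow_succ, pow_mul, h2, one_pow, one_mul] at h3
  rw [MonoidHom.one_apply, h3]

variable [Fintype G] [Fintype (D →* ℂˣ)] [DecidableEq (D →* ℂˣ)] [DecidableEq (IrrCharacter G)]

/-- The multiplicity of a character which is constant `1` on `D^#`. -/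
theorem zc_of_const_one [Finite D] (X : IrrCharacter G)
    (hX : ∀ d : D, d ≠ 1 → (X : G → ℂ) (d : G) = 1) {μ : D →* ℂˣ} (hμ : μ ≠ 1) :
    zc D μ X = 1 := by
  classical
  haveI : Fintype D := Fintype.ofFinite _
  have hcf : IsClassFunction G (X : G → ℂ) :=
    isClassFunction_of_isCharacter (isCharacter_of_isIrrCharacter X.2)
  have h1 := classInner_Xi_irr D μ X
  have h2 : classInner (Xi D μ) (X : G → ℂ)
      = classInner (linFun 1 - linFun μ) (fun x : D => (X : G → ℂ) x) := by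
    unfold Xi
    exact frobenius_reciprocity D _ _ hcf
  have h3 : classInner (linFun 1 - linFun μ) (fun x : D => (X : G → ℂ) x)
      = classInner (linFun 1 - linFun μ) (linFun (1 : D →* ℂˣ)) := by
    unfold classInner
    congr 1
    apply Finset.sum_congr rfl
    intro d _
    by_cases hd : d = 1
    · rw [hd]
      simp [linFun]
    · have e : (fun x : D => (X : G → ℂ) x) d = 1 := hX d hd
      rw [e]
      simp [linFun]
  have h4 : classInner (linFun 1 - linFun μ) (linFun (1 : D →* ℂˣ)) = 1 := by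
    rw [classInner_sub_left, classInner_linFun_self, classInner_linFun_ne hμ, sub_zero]
  rw [h2, h3, h4] at h1
  exact_mod_cast h1.symm

/-- The data of the second family. -/
structure Fam2 (D : Subgroup G) [Fintype (D →* ℂˣ)] [DecidableEq (D →* ℂˣ)]
    (X : IrrCharacter G) where
  Θ : (D →* ℂˣ) → IrrCharacter G
  hΘo : ∀ μ, μ ≠ 1 → Θ μ ≠ trivIrr G
  hΘX : ∀ μ, μ ≠ 1 → Θ μ ≠ X
  hz : ∀ μ, μ ≠ 1 → ∀ χ, zc D μ χ = ind (trivIrr G) χ + ind X χ - ind (Θ μ) χ
  hdeg : ∀ μ, μ ≠ 1 → deg (Θ μ) = deg X + 1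
  hΘΘ : ∀ μ, μ ≠ 1 → ∀ μ', μ' ≠ 1 → (Θ μ = Θ μ' ↔ (μ' = μ ∨ μ' = μ⁻¹))
  hinv : ∀ μ : D →* ℂˣ, μ ≠ 1 → μ ≠ μ⁻¹

/-- The shape of a single decomposition. -/
theorem exists_theta [Finite D] (hD : KHyp D) (hodd : Odd (Nat.card D)) (X : IrrCharacter G)
    (hXo : X ≠ trivIrr G) (hX : ∀ d : D, d ≠ 1 → (X : G → ℂ) (d : G) = 1) (μ : D →* ℂˣ)
    (hμ : μ ≠ 1) :
    ∃ Θ : IrrCharacter G, Θ ≠ trivIrr G ∧ Θ ≠ X ∧ deg Θ = deg X + 1 ∧
      ∀ χ, zc D μ χ = ind (trivIrr G) χ + ind X χ - ind Θ χ := by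
  have h3 : ∑ χ : IrrCharacter G, zc D μ χ ^ 2 = 3 := by
    have := sum_zc_mul_zc hD μ μ hμ hμ
    rw [if_pos rfl, if_neg (ne_inv_of_odd hodd hμ)] at this
    simp only [sq]
    rw [this]; norm_num
  have ho : zc D μ (trivIrr G) = 1 := zc_trivIrr hμ
  have hX1 : zc D μ X = 1 := zc_of_const_one X hX hμ
  set f : IrrCharacter G → ℤ := fun χ => zc D μ χ - ind (trivIrr G) χ - ind X χ with hf
  have hf1 : ∑ χ, f χ ^ 2 = 1 := by
    have e1 := sum_sub_ind_sq (zc D μ) (trivIrr G)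
    rw [h3, ho] at e1
    have e2 := sum_sub_ind_sq (fun χ => zc D μ χ - ind (trivIrr G) χ) X
    beta_reduce at e2
    rw [e1, hX1, ind_ne hXo] at e2
    rw [e2]; norm_num
  obtain ⟨Θ, hΘ, hrest⟩ := int_sq_sum_one f hf1
  have hfo : f (trivIrr G) = 0 := by
    simp only [hf, ho, ind_self, ind_ne (Ne.symm hXo)]; ring
  have hfX : f X = 0 := by
    simp only [hf, hX1, ind_self, ind_ne hXo]; ring
  have hΘo : Θ ≠ trivIrr G := by
    intro e; rw [e, hfo] at hΘ; omega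
  have hΘX : Θ ≠ X := by
    intro e; rw [e, hfX] at hΘ; omega
  have hshape : ∀ χ, zc D μ χ = ind (trivIrr G) χ + ind X χ + f Θ * ind Θ χ := by
    intro χ
    have : zc D μ χ = f χ + ind (trivIrr G) χ + ind X χ := by simp only [hf]; ring
    rw [this]
    by_cases e : χ = Θ
    · rw [e, ind_self]; ring
    · rw [hrest χ e, ind_ne e]; ring
  have hdeg := sum_zc_mul_deg (K := D) μ
  have h2 : ∀ ψ : IrrCharacter G, zc D μ ψ * deg ψ
      = ind (trivIrr G) ψ * deg ψ + ind X ψ * deg ψ + f Θ * (ind Θ ψ * deg ψ) := by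
    intro ψ
    rw [hshape ψ]; ring
  rw [Finset.sum_congr rfl (fun ψ _ => h2 ψ)] at hdeg
  simp only [Finset.sum_add_distrib, ← Finset.mul_sum, sum_ind_mul, deg_trivIrr] at hdeg
  have hq := deg_pos X
  have hθ := deg_pos Θ
  have hfΘ : f Θ = -1 := by
    rcases hΘ with e | e
    · rw [e] at hdeg; omega
    · exact e
  refine ⟨Θ, hΘo, hΘX, ?_, fun χ => ?_⟩
  · rw [hfΘ] at hdeg; omega
  · rw [hshape χ, hfΘ]; ring

/-- The second family exists. -/
theorem exists_fam2 [Finite D] (hD : KHyp D) (hodd : Odd (Nat.card D)) (X : IrrCharacter G)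
    (hXo : X ≠ trivIrr G) (hX : ∀ d : D, d ≠ 1 → (X : G → ℂ) (d : G) = 1) :
    Nonempty (Fam2 D X) := by
  have hex : ∀ μ : D →* ℂˣ, ∃ Θ : IrrCharacter G, μ ≠ 1 → (Θ ≠ trivIrr G ∧ Θ ≠ X ∧
      deg Θ = deg X + 1 ∧ ∀ χ, zc D μ χ = ind (trivIrr G) χ + ind X χ - ind Θ χ) := by
    intro μ
    by_cases hμ : μ = 1
    · exact ⟨trivIrr G, fun h => absurd hμ h⟩
    · obtain ⟨Θ, h1⟩ := exists_theta hD hodd X hXo hX μ hμ
      exact ⟨Θ, fun _ => h1⟩
  choose Θ hΘ using hex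
  refine ⟨⟨Θ, fun μ hμ => (hΘ μ hμ).1, fun μ hμ => (hΘ μ hμ).2.1, fun μ hμ => (hΘ μ hμ).2.2.2,
    fun μ hμ => (hΘ μ hμ).2.2.1, ?_, fun μ hμ => ne_inv_of_odd hodd hμ⟩⟩
  intro μ hμ μ' hμ'
  have hg := sum_zc_mul_zc hD μ μ' hμ hμ'
  have h2 : ∀ ψ : IrrCharacter G, zc D μ ψ * zc D μ' ψ
      = zc D μ ψ * ind (trivIrr G) ψ + zc D μ ψ * ind X ψ - zc D μ ψ * ind (Θ μ') ψ := by
    intro ψ
    rw [(hΘ μ' hμ').2.2.2 ψ]; ring
  rw [Finset.sum_congr rfl (fun ψ _ => h2 ψ)] at hg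
  simp only [Finset.sum_add_distrib, Finset.sum_sub_distrib, sum_mul_ind] at hg
  rw [zc_trivIrr hμ, zc_of_const_one X hX hμ, (hΘ μ hμ).2.2.2 (Θ μ'),
    ind_ne (hΘ μ' hμ').1, ind_ne (hΘ μ' hμ').2.1] at hg
  have hni : μ' ≠ μ'⁻¹ := ne_inv_of_odd hodd hμ'
  constructor
  · intro e
    rw [← e, ind_self] at hg
    by_cases e1 : μ = μ'
    · exact Or.inl e1.symm
    · rw [if_neg e1] at hg
      by_cases e2 : μ = μ'⁻¹
      · right
        rw [e2]
        exact (inv_inv μ').symm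
      · rw [if_neg e2] at hg
        omega
  · intro e
    by_contra hne
    rw [ind_ne (fun e' => hne e'.symm)] at hg
    rcases e with e | e
    · rw [if_pos e.symm] at hg
      split_ifs at hg <;> omega
    · have : μ = μ'⁻¹ := by
        rw [e]
        exact (inv_inv μ).symm
      rw [if_pos this] at hg
      split_ifs at hg <;> omega

namespace Fam2

variable {X : IrrCharacter G} (F : Fam2 D X)

/-- Off the conjugates of `D`, the characters of the second family are `1 + X`. -/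
theorem apply_R {μ : D →* ℂˣ} (hμ : μ ≠ 1) (g : G) (hg : ∀ x : G, x⁻¹ * g * x ∉ D) :
    (F.Θ μ : G → ℂ) g = 1 + (X : G → ℂ) g := by
  have h1 := Xi_eq_zero μ g hg
  rw [Xi_apply] at h1
  have h2 : ∀ ψ : IrrCharacter G, (zc D μ ψ : ℂ) * (ψ : G → ℂ) g =
      ((ind (trivIrr G) ψ : ℤ) : ℂ) * (ψ : G → ℂ) g
        + ((ind X ψ : ℤ) : ℂ) * (ψ : G → ℂ) g
        - ((ind (F.Θ μ) ψ : ℤ) : ℂ) * (ψ : G → ℂ) g := by
    intro ψ
    rw [F.hz μ hμ ψ]
    push_cast
    ring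
  rw [Finset.sum_congr rfl (fun ψ _ => h2 ψ), Finset.sum_sub_distrib, Finset.sum_add_distrib,
    sum_indC_mul, sum_indC_mul, sum_indC_mul, trivIrr_apply] at h1
  linear_combination -h1

/-- Sums over the second family. -/
theorem sum_image {N : Type*} [AddCommMonoid N] (Fn : IrrCharacter G → N) :
    ∑ μ ∈ Finset.univ.erase (1 : D →* ℂˣ), Fn (F.Θ μ)
      = 2 • ∑ χ ∈ (Finset.univ.erase (1 : D →* ℂˣ)).image F.Θ, Fn χ := by
  rw [Finset.sum_comp, Finset.smul_sum]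
  apply Finset.sum_congr rfl
  intro χ hχ
  obtain ⟨μ, hμ, rfl⟩ := Finset.mem_image.1 hχ
  have hμ1 : μ ≠ 1 := (Finset.mem_erase.1 hμ).1
  have hne : μ ≠ μ⁻¹ := F.hinv μ hμ1
  have h1 : (Finset.univ.erase (1 : D →* ℂˣ)).filter (fun ω => F.Θ ω = F.Θ μ) = {μ, μ⁻¹} := by
    ext ω
    simp only [Finset.mem_filter, Finset.mem_insert, Finset.mem_singleton, Finset.mem_erase,
      Finset.mem_univ, and_true]
    constructor
    · rintro ⟨hω, e⟩
      exact (F.hΘΘ μ hμ1 ω hω).1 e.symm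
    · intro e
      have hω : ω ≠ 1 := by
        rcases e with e | e
        · exact e ▸ hμ1
        · rw [e]
          intro e1
          apply hμ1
          refine MonoidHom.ext (fun d => ?_)
          have h := congrArg (fun f : D →* ℂˣ => f d) e1
          simp only [MonoidHom.inv_apply, MonoidHom.one_apply] at h
          rw [MonoidHom.one_apply]
          exact inv_eq_one.1 h
      exact ⟨hω, ((F.hΘΘ μ hμ1 ω hω).2 e).symm⟩
  rw [h1, Finset.card_pair hne]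

end Fam2

end Cfsg.Agent.Lib.Helper7.BSWc
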