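import Mathlib
import Cfsg.Prelude.Def_Characters
import Cfsg.Agent.Lib.Helper7.BSWc17

set_option autoImplicit false
set_option linter.style.haveILetI false
set_option linter.unusedSectionVars false
set_option linter.unusedVariables false

/-!
# Brauer–Suzuki–Wall, character theory, part 18: the complete list of irreducible characters
(case `δ = -1`)
-/

namespace Cfsg.Agent.Lib.Helper7.BSWc

open Cfsg Cfsg.Agent.Lib.helper3.Irr Cfsg.Agent.Lib.helper3.CharBasic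
open Cfsg.Agent.Lib.helper3.IndFun Cfsg.Agent.Lib.helper3.CycTI Cfsg.Agent.Lib.Helper7.BrP
open Cfsg.Agent.Lib.helper3.Pf4 Cfsg.Agent.Lib.Helper7.ExcA
open scoped ComplexConjugate

variable {G : Type*} [Group G] [Fintype G]

/-- The two families together (case `δ = -1`). -/
structure Two (K D : Subgroup G) [Fintype (K →* ℂˣ)] [DecidableEq (K →* ℂˣ)]
    [Fintype (D →* ℂˣ)] [DecidableEq (D →* ℂˣ)] [DecidableEq (IrrCharacter G)] where
  ν : K →* ℂˣ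
  hν : IsNu ν
  M : Main K ν
  F : Fam2 D M.X
  hab : ∀ a ∈ K, ∀ b ∈ K, a * b = b * a
  habD : ∀ a ∈ D, ∀ b ∈ D, a * b = b * a
  hδ : M.δ = -1
  r1 : M.c₁ = 1
  r2 : M.c₂ = 1
  r3 : 2 * deg M.Y₁ = deg M.X - 1
  r4 : 2 * deg M.Y₂ = deg M.X - 1
  s2 : deg M.X = 2 * (Nat.card K : ℤ) - 1
  s4 : (Nat.card G : ℤ) = (Nat.card K : ℤ) * (deg M.X * (deg M.X - 1))
  hD : 2 * (Nat.card D : ℤ) + 1 = deg M.X

variable {K D : Subgroup G} [Fintype (K →* ℂˣ)] [DecidableEq (K →* ℂˣ)]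
  [Fintype (D →* ℂˣ)] [DecidableEq (D →* ℂˣ)] [DecidableEq (IrrCharacter G)]

namespace Two

variable (T : Two K D)

theorem degL {ω : K →* ℂˣ} (hω : ω ∈ Lam K) : deg (T.M.L ω) = deg T.M.X - 1 := by
  rw [T.M.hdeg ω hω, T.hδ]; ring

theorem degΘ {μ : D →* ℂˣ} (hμ : μ ∈ Finset.univ.erase (1 : D →* ℂˣ)) :
    deg (T.F.Θ μ) = deg T.M.X + 1 :=
  T.F.hdeg μ (Finset.mem_erase.1 hμ).1

theorem card_Lam' [Finite K] (T : Two K D) : ((Lam K).card : ℤ) = (Nat.card K : ℤ) - 2 := by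
  have hc := card_Lam T.hν T.hab
  have : ((Lam K).card : ℤ) + 2 = (Nat.card K : ℤ) := by exact_mod_cast hc
  linarith

theorem card_Nt [Finite D] (T : Two K D) :
    ((Finset.univ.erase (1 : D →* ℂˣ)).card : ℤ) = (Nat.card K : ℤ) - 2 := by
  rw [Finset.card_erase_of_mem (Finset.mem_univ _), Finset.card_univ, ← Nat.card_eq_fintype_card,
    card_dual T.habD]
  have h1 : 1 ≤ Nat.card D := Nat.card_pos
  have h2 := T.hD
  have h3 := T.s2
  push_cast [h1]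
  linarith

/-- The characters of the second family are not among those of the first. -/
theorem not_special {μ : D →* ℂˣ} (hμ : μ ∈ Finset.univ.erase (1 : D →* ℂˣ)) :
    ¬ T.M.Special (T.F.Θ μ) := by
  have hμ1 : μ ≠ 1 := (Finset.mem_erase.1 hμ).1
  have hd := T.degΘ hμ
  have hq := deg_pos T.M.X
  rintro (h | h | h | h | ⟨ω, hω, h⟩)
  · exact T.F.hΘo μ hμ1 h
  · exact T.F.hΘX μ hμ1 h
  · rw [h] at hd
    have := T.r3
    omega
  · rw [h] at hd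
    have := T.r4
    omega
  · rw [h, T.degL hω] at hd
    omega

/-- The list of all the characters in the two families. -/
noncomputable def list : Finset (IrrCharacter G) :=
  insert (trivIrr G) (insert T.M.X (insert T.M.Y₁ (insert T.M.Y₂ ((Lam K).image T.M.L))))
    ∪ (Finset.univ.erase (1 : D →* ℂˣ)).image T.F.Θ

theorem sum_list {N : Type*} [AddCommMonoid N] (Fn : IrrCharacter G → N) :
    ∑ χ ∈ T.list, Fn χ = Fn (trivIrr G) + (Fn T.M.X + (Fn T.M.Y₁ + (Fn T.M.Y₂ +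
      ∑ χ ∈ (Lam K).image T.M.L, Fn χ)))
      + ∑ χ ∈ (Finset.univ.erase (1 : D →* ℂˣ)).image T.F.Θ, Fn χ := by
  unfold list
  rw [Finset.sum_union, T.M.sum_special]
  rw [Finset.disjoint_left]
  intro χ hχ hχ'
  obtain ⟨μ, hμ, rfl⟩ := Finset.mem_image.1 hχ'
  exact T.not_special hμ ((T.M.mem_special_iff _).1 hχ)

/-- Twice the sum of the squares of the degrees over the list. -/
theorem sum_list_deg [Finite K] [Finite D] :
    ∑ χ ∈ T.list, deg χ ^ 2 = (Nat.card G : ℤ) := by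
  have h1 := T.sum_list (fun χ => deg χ ^ 2)
  have h2 := T.M.sum_image_L (fun χ => deg χ ^ 2)
  have h3 := T.F.sum_image (fun χ => deg χ ^ 2)
  have h4 : ∑ ω ∈ Lam K, deg (T.M.L ω) ^ 2 = ((Lam K).card : ℤ) * (deg T.M.X - 1) ^ 2 := by
    rw [Finset.sum_congr rfl (fun ω hω => by rw [T.degL hω]), Finset.sum_const, nsmul_eq_mul]
  have h5 : ∑ μ ∈ Finset.univ.erase (1 : D →* ℂˣ), deg (T.F.Θ μ) ^ 2
      = ((Finset.univ.erase (1 : D →* ℂˣ)).card : ℤ) * (deg T.M.X + 1) ^ 2 := by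
    rw [Finset.sum_congr rfl (fun μ hμ => by rw [T.degΘ hμ]), Finset.sum_const, nsmul_eq_mul]
  rw [h4, T.card_Lam', nsmul_eq_mul] at h2
  rw [h5, T.card_Nt, nsmul_eq_mul] at h3
  rw [deg_trivIrr] at h1
  push_cast at h2 h3
  have e1 : 4 * deg T.M.Y₁ ^ 2 = (deg T.M.X - 1) ^ 2 := by rw [← T.r3]; ring
  have e2 : 4 * deg T.M.Y₂ ^ 2 = (deg T.M.X - 1) ^ 2 := by rw [← T.r4]; ring
  have s2 := T.s2
  have s4 := T.s4
  have hk : (Nat.card K : ℤ) = (deg T.M.X + 1) / 2 := by omega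
  -- all in terms of `k`
  set k := (Nat.card K : ℤ) with hkdef
  rw [s2] at h2 h3 e1 e2 s4
  rw [s2] at h1
  have goal2 : 4 * ∑ χ ∈ T.list, deg χ ^ 2 = 4 * (Nat.card G : ℤ) := by
    rw [h1, s4]
    have e3 : 4 * (1 ^ 2 + ((2 * k - 1) ^ 2 + (deg T.M.Y₁ ^ 2 + (deg T.M.Y₂ ^ 2 +
        ∑ χ ∈ (Lam K).image T.M.L, deg χ ^ 2))) +
        ∑ χ ∈ (Finset.univ.erase (1 : D →* ℂˣ)).image T.F.Θ, deg χ ^ 2)
        = 4 + 4 * (2 * k - 1) ^ 2 + 4 * deg T.M.Y₁ ^ 2 + 4 * deg T.M.Y₂ ^ 2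
          + 2 * (2 * ∑ χ ∈ (Lam K).image T.M.L, deg χ ^ 2)
          + 2 * (2 * ∑ χ ∈ (Finset.univ.erase (1 : D →* ℂˣ)).image T.F.Θ, deg χ ^ 2) := by ring
    rw [e3, e1, e2, ← h2, ← h3]
    ring
  linarith

/-- The list is complete. -/
theorem list_eq_univ [Finite K] [Finite D] : T.list = Finset.univ := by
  apply Finset.eq_univ_of_forall
  intro χ
  by_contra hχ
  have h1 : ∑ ψ ∈ insert χ T.list, deg ψ ^ 2 ≤ ∑ ψ : IrrCharacter G, deg ψ ^ 2 :=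
    Finset.sum_le_sum_of_subset_of_nonneg (Finset.subset_univ _) (fun ψ _ _ => sq_nonneg _)
  rw [Finset.sum_insert hχ, T.sum_list_deg, sum_deg_sq] at h1
  have := deg_pos χ
  nlinarith

/-- Sums over all the irreducible characters. -/
theorem sum_irr [Finite K] [Finite D] (Fn : IrrCharacter G → ℂ) :
    ∑ χ : IrrCharacter G, Fn χ = Fn (trivIrr G) + Fn T.M.X + Fn T.M.Y₁ + Fn T.M.Y₂
      + (1 / 2 : ℂ) * ∑ ω ∈ Lam K, Fn (T.M.L ω)
      + (1 / 2 : ℂ) * ∑ μ ∈ Finset.univ.erase (1 : D →* ℂˣ), Fn (T.F.Θ μ) := by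
  rw [← T.list_eq_univ, T.sum_list, T.M.sum_image_L, T.F.sum_image, nsmul_eq_mul, nsmul_eq_mul]
  push_cast
  ring

end Two

end Cfsg.Agent.Lib.Helper7.BSWc
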