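import Mathlib
import Cfsg.Prelude.Def_Characters
import Cfsg.Agent.Lib.Helper7.BSWc18
import Cfsg.Agent.Lib.helper3.Irr13

set_option autoImplicit false
set_option linter.style.haveILetI false
set_option linter.unusedSectionVars false
set_option linter.unusedVariables false

/-!
# Brauer–Suzuki–Wall, character theory, part 19: the number of factorisations inside `U`
(case `δ = -1`)
-/

namespace Cfsg.Agent.Lib.Helper7.BSWc

open Cfsg Cfsg.Agent.Lib.helper3.Irr Cfsg.Agent.Lib.helper3.CharBasic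
open Cfsg.Agent.Lib.helper3.IndFun Cfsg.Agent.Lib.helper3.CycTI Cfsg.Agent.Lib.Helper7.BrP
open Cfsg.Agent.Lib.helper3.Pf4 Cfsg.Agent.Lib.Helper7.ExcA
open Cfsg.Agent.Lib.helper3.Central
open scoped ComplexConjugate

/-- A complex number whose square is a negative real number has real part zero. -/
theorem add_conj_eq_zero_of_sq_neg {z : ℂ} {r : ℝ} (hr : 0 < r) (h : z * z = -(r : ℂ)) :
    z + conj z = 0 := by
  have h1 := congrArg Complex.re h
  have h2 := congrArg Complex.im h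
  simp only [Complex.mul_re, Complex.mul_im, Complex.neg_re, Complex.neg_im, Complex.ofReal_re,
    Complex.ofReal_im, neg_zero] at h1 h2
  have h3 : z.re = 0 := by
    by_contra hne
    have h4 : z.im = 0 := by
      have : z.re * z.im = 0 := by linarith
      rcases mul_eq_zero.1 this with h5 | h5
      · exact absurd h5 hne
      · exact h5
    rw [h4] at h1
    nlinarith [mul_self_nonneg z.re]
  apply Complex.ext
  · simp [h3]
  · simp

variable {G : Type*} [Group G] [Fintype G]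
variable {K D : Subgroup G} [Fintype (K →* ℂˣ)] [DecidableEq (K →* ℂˣ)]
  [Fintype (D →* ℂˣ)] [DecidableEq (D →* ℂˣ)] [DecidableEq (IrrCharacter G)]

namespace Two

variable (T : Two K D) [Finite K] [Finite D] (g : G) (hgK : ∀ x : G, x⁻¹ * g * x ∉ K)
  (hgD : ∀ x : G, x⁻¹ * g * x ∉ D) (hX0 : (T.M.X : G → ℂ) g = 0)
include hgK hgD hX0

theorem L_apply_U {ω : K →* ℂˣ} (hω : ω ∈ Lam K) : (T.M.L ω : G → ℂ) g = -1 := by
  rw [T.M.L_apply_R hω g hgK, hX0, T.hδ]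
  push_cast
  ring

theorem Y_apply_U : (T.M.Y₁ : G → ℂ) g + (T.M.Y₂ : G → ℂ) g = -1 := by
  rw [T.M.Y_apply_R (by rw [T.r1, T.hδ]; ring) (by rw [T.r2, T.hδ]; ring) g hgK, hX0, T.hδ]
  push_cast
  ring

theorem Θ_apply_U {μ : D →* ℂˣ} (hμ : μ ∈ Finset.univ.erase (1 : D →* ℂˣ)) :
    (T.F.Θ μ : G → ℂ) g = 1 := by
  rw [T.F.apply_R (Finset.mem_erase.1 hμ).1 g hgD, hX0, add_zero]

/-- The real parts of the two extra characters. -/
theorem Y_add_conj (hnc : ¬ IsConj g g⁻¹) :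
    (T.M.Y₁ : G → ℂ) g + conj ((T.M.Y₁ : G → ℂ) g) = -1 ∧
      (T.M.Y₂ : G → ℂ) g + conj ((T.M.Y₂ : G → ℂ) g) = -1 := by
  have h1 := (column_orthogonality g g⁻¹).2 hnc
  have h2 : ∀ χ : IrrCharacter G, (χ : G → ℂ) g * conj ((χ : G → ℂ) g⁻¹)
      = (χ : G → ℂ) g * (χ : G → ℂ) g := by
    intro χ
    rw [isCharacter_apply_inv (isCharacter_of_isIrrCharacter χ.2), Complex.conj_conj]
  rw [Finset.sum_congr rfl (fun χ _ => h2 χ), T.sum_irr] at h1
  have eL' : ∀ ω ∈ Lam K, (T.M.L ω : G → ℂ) g * (T.M.L ω : G → ℂ) g = 1 := by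
    intro ω hω
    rw [T.L_apply_U g hgK hgD hX0 hω]; ring
  have eΘ' : ∀ μ ∈ Finset.univ.erase (1 : D →* ℂˣ),
      (T.F.Θ μ : G → ℂ) g * (T.F.Θ μ : G → ℂ) g = 1 := by
    intro μ hμ
    rw [T.Θ_apply_U g hgK hgD hX0 hμ]; ring
  rw [Finset.sum_congr rfl eL', Finset.sum_congr rfl eΘ',
    Finset.sum_const, Finset.sum_const, nsmul_eq_mul, nsmul_eq_mul, hX0, trivIrr_apply] at h1
  have hcL : ((Lam K).card : ℂ) = (Nat.card K : ℂ) - 2 := by
    have := T.card_Lam'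
    have h : (((Lam K).card : ℤ) : ℂ) = (((Nat.card K : ℤ) - 2 : ℤ) : ℂ) := by rw [this]
    push_cast at h
    exact h
  have hcN : ((Finset.univ.erase (1 : D →* ℂˣ)).card : ℂ) = (Nat.card K : ℂ) - 2 := by
    have := T.card_Nt
    have h : (((Finset.univ.erase (1 : D →* ℂˣ)).card : ℤ) : ℂ)
        = (((Nat.card K : ℤ) - 2 : ℤ) : ℂ) := by rw [this]
    push_cast at h
    exact h
  rw [hcL, hcN] at h1
  have hY := T.Y_apply_U g hgK hgD hX0
  set y₁ := (T.M.Y₁ : G → ℂ) g with hy₁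
  set y₂ := (T.M.Y₂ : G → ℂ) g with hy₂
  have hy2 : y₂ = -1 - y₁ := by linear_combination hY
  have hkpos : (0 : ℝ) < 2 * (Nat.card K : ℝ) - 1 := by
    have : 1 ≤ Nat.card K := Nat.card_pos
    have : (1 : ℝ) ≤ (Nat.card K : ℝ) := by exact_mod_cast this
    linarith
  have hsq : (2 * y₁ + 1) * (2 * y₁ + 1) = -((2 * (Nat.card K : ℝ) - 1 : ℝ) : ℂ) := by
    rw [hy2] at h1
    push_cast
    linear_combination 2 * h1
  have h3 := add_conj_eq_zero_of_sq_neg hkpos hsq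
  have h4 : y₁ + conj y₁ = -1 := by
    rw [map_add, map_mul, map_one] at h3
    have : conj (2 : ℂ) = 2 := by
      rw [show (2 : ℂ) = ((2 : ℝ) : ℂ) by norm_num, Complex.conj_ofReal]
    rw [this] at h3
    linear_combination (1 / 2 : ℂ) * h3
  refine ⟨h4, ?_⟩
  rw [hy2, map_sub, map_neg, map_one]
  linear_combination -h4

/-- The class-algebra sum for the factorisations inside `U`. -/
theorem sum_U (hnc : ¬ IsConj g g⁻¹) :
    ∑ χ : IrrCharacter G, ((χ : G → ℂ) g + conj ((χ : G → ℂ) g)) ^ 2 * conj ((χ : G → ℂ) g)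
        / (χ : G → ℂ) 1
      = 2 * (deg T.M.X : ℂ) / (Nat.card K : ℂ) := by
  obtain ⟨hy1, hy2⟩ := T.Y_add_conj g hgK hgD hX0 hnc
  have hY := congrArg conj (T.Y_apply_U g hgK hgD hX0)
  rw [map_add, map_neg, map_one] at hY
  rw [T.sum_irr]
  have hq1 : (deg T.M.X : ℂ) - 1 ≠ 0 := by
    have := T.s2
    have hk : 1 ≤ Nat.card K := Nat.card_pos
    have : deg T.M.X - 1 ≠ 0 := by
      have h3 := T.r3
      have := deg_pos T.M.Y₁
      omega
    exact_mod_cast this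
  have hq2 : (deg T.M.X : ℂ) + 1 ≠ 0 := by
    have : deg T.M.X + 1 ≠ 0 := by
      have := deg_pos T.M.X
      omega
    exact_mod_cast this
  have hk0 : (Nat.card K : ℂ) ≠ 0 := by
    have : Nat.card K ≠ 0 := Nat.card_pos.ne'
    exact_mod_cast this
  have hdY₁ : (deg T.M.Y₁ : ℂ) = ((deg T.M.X : ℂ) - 1) / 2 := by
    have : (2 : ℂ) * (deg T.M.Y₁ : ℂ) = (deg T.M.X : ℂ) - 1 := by exact_mod_cast T.r3
    rw [← this]; ring
  have hdY₂ : (deg T.M.Y₂ : ℂ) = ((deg T.M.X : ℂ) - 1) / 2 := by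
    have : (2 : ℂ) * (deg T.M.Y₂ : ℂ) = (deg T.M.X : ℂ) - 1 := by exact_mod_cast T.r4
    rw [← this]; ring
  have eL : ∀ ω ∈ Lam K, ((T.M.L ω : G → ℂ) g + conj ((T.M.L ω : G → ℂ) g)) ^ 2 *
      conj ((T.M.L ω : G → ℂ) g) / (T.M.L ω : G → ℂ) 1 = -4 / ((deg T.M.X : ℂ) - 1) := by
    intro ω hω
    rw [T.L_apply_U g hgK hgD hX0 hω, deg_spec, T.degL hω, map_neg, map_one]
    push_cast
    ring
  have eΘ : ∀ μ ∈ Finset.univ.erase (1 : D →* ℂˣ),
      ((T.F.Θ μ : G → ℂ) g + conj ((T.F.Θ μ : G → ℂ) g)) ^ 2 *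
      conj ((T.F.Θ μ : G → ℂ) g) / (T.F.Θ μ : G → ℂ) 1 = 4 / ((deg T.M.X : ℂ) + 1) := by
    intro μ hμ
    rw [T.Θ_apply_U g hgK hgD hX0 hμ, deg_spec, T.degΘ hμ, map_one]
    push_cast
    ring
  have hcL : ((Lam K).card : ℂ) = (Nat.card K : ℂ) - 2 := by
    have := T.card_Lam'
    have h : (((Lam K).card : ℤ) : ℂ) = (((Nat.card K : ℤ) - 2 : ℤ) : ℂ) := by rw [this]
    push_cast at h
    exact h
  have hcN : ((Finset.univ.erase (1 : D →* ℂˣ)).card : ℂ) = (Nat.card K : ℂ) - 2 := by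
    have := T.card_Nt
    have h : (((Finset.univ.erase (1 : D →* ℂˣ)).card : ℤ) : ℂ)
        = (((Nat.card K : ℤ) - 2 : ℤ) : ℂ) := by rw [this]
    push_cast at h
    exact h
  rw [Finset.sum_congr rfl eL, Finset.sum_congr rfl eΘ, Finset.sum_const, Finset.sum_const,
    nsmul_eq_mul, nsmul_eq_mul, hcL, hcN, hX0, hy1, hy2]
  simp only [deg_spec, deg_trivIrr, trivIrr_apply, map_one, map_zero, hdY₁, hdY₂]
  have hqk : (deg T.M.X : ℂ) = 2 * (Nat.card K : ℂ) - 1 := by exact_mod_cast T.s2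
  have hq1' : 2 * (Nat.card K : ℂ) - 1 - 1 ≠ 0 := by rw [← hqk]; exact hq1
  have hq2' : 2 * (Nat.card K : ℂ) - 1 + 1 ≠ 0 := by rw [← hqk]; exact hq2
  set a := conj ((T.M.Y₁ : G → ℂ) g) with ha
  set b := conj ((T.M.Y₂ : G → ℂ) g) with hb
  have hb' : b = -1 - a := by linear_combination hY
  rw [hb', hqk]
  field_simp
  ring

end Two

end Cfsg.Agent.Lib.Helper7.BSWc
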