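import Mathlib
import Cfsg.Prelude.Def_Characters
import Cfsg.Agent.Lib.Helper7.BSWc19

set_option autoImplicit false
set_option linter.style.haveILetI false
set_option linter.unusedSectionVars false
set_option linter.unusedVariables false

/-!
# Brauer–Suzuki–Wall, character theory, part 20: the count of factorisations inside `U`
-/

namespace Cfsg.Agent.Lib.Helper7.BSWc

open Cfsg Cfsg.Agent.Lib.helper3.Irr Cfsg.Agent.Lib.helper3.CharBasic
open Cfsg.Agent.Lib.helper3.IndFun Cfsg.Agent.Lib.helper3.CycTI Cfsg.Agent.Lib.Helper7.BrP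
open Cfsg.Agent.Lib.helper3.Pf4 Cfsg.Agent.Lib.Helper7.ExcA
open Cfsg.Agent.Lib.helper3.Central
open scoped ComplexConjugate

variable {G : Type*} [Group G] [Fintype G]

/-- The class equation: the size of a class times the order of the centralizer. -/
theorem card_cls_mul (g : G) :
    (cls g).card * Nat.card (Subgroup.centralizer ({g} : Set G)) = Nat.card G := by
  classical
  have h1 : (Finset.univ : Finset G).card
      = ∑ y ∈ cls g, (Finset.univ.filter (fun x : G => x * g * x⁻¹ = y)).card :=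
    Finset.card_eq_sum_card_fiberwise (fun x _ =>
      Finset.mem_coe.2 (mem_cls.2 (isConj_iff.2 ⟨x, rfl⟩)))
  have h2 : ∀ y ∈ cls g, (Finset.univ.filter (fun x : G => x * g * x⁻¹ = y)).card
      = Nat.card (Subgroup.centralizer ({g} : Set G)) := by
    intro y hy
    rw [mem_cls] at hy
    have e1 : (Finset.univ.filter (fun x : G => x * g * x⁻¹ = y)).card
        = Nat.card {x : G // x * g * x⁻¹ = y} := by
      rw [Nat.card_eq_fintype_card, Fintype.card_subtype]
    rw [e1, card_conj_eq_card_centralizer hy.symm]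
    obtain ⟨c, hc⟩ := isConj_iff.1 hy
    rw [← hc]
    apply Nat.card_congr
    refine ⟨fun a => ⟨c⁻¹ * a.1 * c, ?_⟩, fun a => ⟨c * a.1 * c⁻¹, ?_⟩, ?_, ?_⟩
    · have ha := a.2
      rw [Subgroup.mem_centralizer_iff] at ha ⊢
      intro z hz
      rw [Set.mem_singleton_iff] at hz
      have := ha (c * g * c⁻¹) rfl
      rw [hz]
      calc g * (c⁻¹ * a.1 * c) = c⁻¹ * ((c * g * c⁻¹) * a.1) * c := by group
        _ = c⁻¹ * (a.1 * (c * g * c⁻¹)) * c := by rw [this]
        _ = c⁻¹ * a.1 * c * g := by group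
    · have ha := a.2
      rw [Subgroup.mem_centralizer_iff] at ha ⊢
      intro z hz
      rw [Set.mem_singleton_iff] at hz
      have := ha g rfl
      rw [hz]
      calc c * g * c⁻¹ * (c * a.1 * c⁻¹) = c * (g * a.1) * c⁻¹ := by group
        _ = c * (a.1 * g) * c⁻¹ := by rw [this]
        _ = c * a.1 * c⁻¹ * (c * g * c⁻¹) := by group
    · intro a
      apply Subtype.ext
      show c * (c⁻¹ * a.1 * c) * c⁻¹ = a.1
      group
    · intro a
      apply Subtype.ext
      show c⁻¹ * (c * a.1 * c⁻¹) * c = a.1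
      group
  rw [Finset.sum_congr rfl h2, Finset.sum_const, smul_eq_mul, Finset.card_univ,
    ← Nat.card_eq_fintype_card] at h1
  exact h1.symm

variable {K D : Subgroup G} [Fintype (K →* ℂˣ)] [DecidableEq (K →* ℂˣ)]
  [Fintype (D →* ℂˣ)] [DecidableEq (D →* ℂˣ)] [DecidableEq (IrrCharacter G)]

namespace Two

variable (T : Two K D) [Finite K] [Finite D] (g : G) (hgK : ∀ x : G, x⁻¹ * g * x ∉ K)
  (hgD : ∀ x : G, x⁻¹ * g * x ∉ D) (hX0 : (T.M.X : G → ℂ) g = 0)
include hgK hgD hX0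

/-- The four class-multiplication coefficients add up to `2 (q - 1)`. -/
theorem count (hnc : ¬ IsConj g g⁻¹)
    (hcl : ((cls g).card : ℤ) * deg T.M.X = (Nat.card G : ℤ))
    (hcl' : ((cls g⁻¹).card : ℤ) * deg T.M.X = (Nat.card G : ℤ)) :
    mulCount g g g + mulCount g g⁻¹ g + mulCount g⁻¹ g g + mulCount g⁻¹ g⁻¹ g
      = 2 * ((deg T.M.X : ℂ) - 1) := by
  have hq0 : (deg T.M.X : ℂ) ≠ 0 := by
    have := (deg_pos T.M.X).ne'
    exact_mod_cast this
  have hk0 : (Nat.card K : ℂ) ≠ 0 := by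
    have : Nat.card K ≠ 0 := Nat.card_pos.ne'
    exact_mod_cast this
  have hG0 : (Nat.card G : ℂ) ≠ 0 := by
    have : Nat.card G ≠ 0 := Nat.card_pos.ne'
    exact_mod_cast this
  have hc1 : ((cls g).card : ℂ) = (Nat.card G : ℂ) / (deg T.M.X : ℂ) := by
    have : (((cls g).card : ℤ) : ℂ) * ((deg T.M.X : ℤ) : ℂ) = ((Nat.card G : ℤ) : ℂ) := by
      rw [← hcl]; push_cast; ring
    push_cast at this
    rw [← this]; field_simp
  have hc2 : ((cls g⁻¹).card : ℂ) = (Nat.card G : ℂ) / (deg T.M.X : ℂ) := by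
    have : (((cls g⁻¹).card : ℤ) : ℂ) * ((deg T.M.X : ℤ) : ℂ) = ((Nat.card G : ℤ) : ℂ) := by
      rw [← hcl']; push_cast; ring
    push_cast at this
    rw [← this]; field_simp
  have hsum := T.sum_U g hgK hgD hX0 hnc
  have hinv : ∀ χ : IrrCharacter G, (χ : G → ℂ) g⁻¹ = conj ((χ : G → ℂ) g) := fun χ =>
    isCharacter_apply_inv (isCharacter_of_isIrrCharacter χ.2) g
  rw [mulCount_eq, mulCount_eq, mulCount_eq, mulCount_eq, hc1, hc2]
  have e : ∑ χ : IrrCharacter G, ((χ : G → ℂ) g + conj ((χ : G → ℂ) g)) ^ 2 *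
      conj ((χ : G → ℂ) g) / (χ : G → ℂ) 1
      = ∑ χ : IrrCharacter G, (χ : G → ℂ) g * (χ : G → ℂ) g * conj ((χ : G → ℂ) g)
          / (χ : G → ℂ) 1
        + ∑ χ : IrrCharacter G, (χ : G → ℂ) g * (χ : G → ℂ) g⁻¹ * conj ((χ : G → ℂ) g)
          / (χ : G → ℂ) 1
        + ∑ χ : IrrCharacter G, (χ : G → ℂ) g⁻¹ * (χ : G → ℂ) g * conj ((χ : G → ℂ) g)
          / (χ : G → ℂ) 1
        + ∑ χ : IrrCharacter G, (χ : G → ℂ) g⁻¹ * (χ : G → ℂ) g⁻¹ * conj ((χ : G → ℂ) g)
          / (χ : G → ℂ) 1 := by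
    rw [← Finset.sum_add_distrib, ← Finset.sum_add_distrib, ← Finset.sum_add_distrib]
    apply Finset.sum_congr rfl
    intro χ _
    rw [hinv χ]
    ring
  have s4 : (Nat.card G : ℂ) = (Nat.card K : ℂ) * ((deg T.M.X : ℂ) * ((deg T.M.X : ℂ) - 1)) := by
    exact_mod_cast T.s4
  have key : (Nat.card G : ℂ) / (deg T.M.X : ℂ) * ((Nat.card G : ℂ) / (deg T.M.X : ℂ))
      / (Nat.card G : ℂ) * (2 * (deg T.M.X : ℂ) / (Nat.card K : ℂ))
      = 2 * ((deg T.M.X : ℂ) - 1) := by
    rw [s4]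
    field_simp
  rw [← key, ← hsum, e]
  ring

end Two

end Cfsg.Agent.Lib.Helper7.BSWc
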