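import Mathlib
import Cfsg.Prelude.Def_Characters
import Cfsg.Agent.Lib.Helper7.BSWc20
import Cfsg.Agent.Lib.Helper5.BSW.Minus3

set_option autoImplicit false
set_option linter.style.haveILetI false
set_option linter.unusedSectionVars false
set_option linter.unusedVariables false

/-!
# Brauer–Suzuki–Wall, character theory, part 21: the bound `BB3`
-/

namespace Cfsg.Agent.Lib.Helper7.BSWc

open Cfsg Cfsg.Agent.Lib.helper3.Irr Cfsg.Agent.Lib.helper3.CharBasic
open Cfsg.Agent.Lib.helper3.IndFun Cfsg.Agent.Lib.helper3.CycTI Cfsg.Agent.Lib.Helper7.BrP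
open Cfsg.Agent.Lib.helper3.Pf4 Cfsg.Agent.Lib.Helper7.ExcA
open Cfsg.Agent.Lib.helper3.Central
open Cfsg.Agent.Lib.Lead.BSW Cfsg.Agent.Lib.Helper5.BSW
open scoped ComplexConjugate

/-- A union bound. -/
theorem card_le_four {α : Type*} [Finite α] (P P₁ P₂ P₃ P₄ : α → Prop)
    (hP : ∀ a, P a → P₁ a ∨ P₂ a ∨ P₃ a ∨ P₄ a) :
    Nat.card {a // P a} ≤ Nat.card {a // P₁ a} + Nat.card {a // P₂ a} + Nat.card {a // P₃ a}
      + Nat.card {a // P₄ a} := by
  classical
  haveI : Fintype α := Fintype.ofFinite α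
  have e : ∀ Q : α → Prop, Nat.card {a // Q a} = (Finset.univ.filter Q).card := by
    intro Q
    rw [Nat.card_eq_fintype_card, Fintype.card_subtype]
  rw [e P, e P₁, e P₂, e P₃, e P₄]
  have hsub : Finset.univ.filter P ⊆ Finset.univ.filter P₁ ∪ Finset.univ.filter P₂ ∪
      Finset.univ.filter P₃ ∪ Finset.univ.filter P₄ := by
    intro a ha
    simp only [Finset.mem_filter, Finset.mem_univ, true_and, Finset.mem_union] at ha ⊢
    rcases hP a ha with h | h | h | h
    · exact Or.inl (Or.inl (Or.inl h))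
    · exact Or.inl (Or.inl (Or.inr h))
    · exact Or.inl (Or.inr h)
    · exact Or.inr h
  have h1 := Finset.card_le_card hsub
  have h2 := Finset.card_union_le (Finset.univ.filter P₁ ∪ Finset.univ.filter P₂ ∪
      Finset.univ.filter P₃) (Finset.univ.filter P₄)
  have h3 := Finset.card_union_le (Finset.univ.filter P₁ ∪ Finset.univ.filter P₂)
    (Finset.univ.filter P₃)
  have h4 := Finset.card_union_le (Finset.univ.filter P₁) (Finset.univ.filter P₂)
  omega

variable {G : Type*} [Group G] {t s : G} {K : Subgroup G}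

/-- The centralizer of a strongly real element in no conjugate of `K` (case `δ = -1`). -/
theorem khyp_centralizer [Finite G] (h : Hyp t s K) (q : ℕ) (hB : BB1 K q (-1)) {g u : G}
    (hR : InR K g) (hu : orderOf u = 2) (hinv : u * g * u⁻¹ = g⁻¹) :
    KHyp (Subgroup.centralizer ({g} : Set G)) where
  comm := h.centralizer_comm hR hu hinv
  ti := by
    intro x hx hx1 w hw
    have := ti_centralizer h hR hu hinv x hx hx1 w⁻¹ (by rw [inv_inv]; exact hw)
    exact (Subgroup.inv_mem_iff _).1 this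
  inv := by
    intro n hn hnD x hx
    have huu : u * u = 1 := mul_self_of_orderOf_two hu
    obtain ⟨y, hy⟩ := h.exists_conj_eq hu
    have hE := minus_inf_eq h q hB hR hu hinv hy
    obtain ⟨c, hc, hcu⟩ := h.normalizer_factor hR hu hinv hn
    have hcz : c⁻¹ * n ∈ Subgroup.normalizer
        ((Subgroup.centralizer ({g} : Set G) : Subgroup G) : Set G) :=
      mul_mem (inv_mem (Subgroup.le_normalizer hc)) hn
    have hD := h.normalizer_inf_le hR hu hinv hy hcz hcu
    have hmem : c⁻¹ * n ∈ Subgroup.zpowers u := by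
      rw [← hE]; exact Subgroup.mem_inf.2 ⟨hcz, hD⟩
    obtain ⟨j, hj⟩ := Subgroup.mem_zpowers_iff.1 hmem
    rcases Int.even_or_odd j with ⟨m, hm⟩ | ⟨m, hm⟩
    · exfalso
      have h1 : u ^ j = 1 := by
        rw [hm, ← two_mul, zpow_mul, zpow_two, huu, one_zpow]
      rw [h1] at hj
      have : n = c := by
        have := hj.symm
        calc n = c * (c⁻¹ * n) := by group
          _ = c := by rw [this, mul_one]
      exact hnD (this ▸ hc)
    · have h1 : u ^ j = u := by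
        rw [hm, zpow_add, zpow_mul, zpow_two, huu, one_zpow, one_mul, zpow_one]
      rw [h1] at hj
      have hn' : n = c * u := by
        calc n = c * (c⁻¹ * n) := by group
          _ = c * u := by rw [← hj]
      rw [hn']
      have hux := h.inverts_centralizer hR hu hinv x hx
      have hcomm := h.centralizer_comm hR hu hinv c hc x⁻¹ (inv_mem hx)
      calc c * u * x * (c * u)⁻¹ = c * (u * x * u⁻¹) * c⁻¹ := by group
        _ = c * x⁻¹ * c⁻¹ := by rw [hux]
        _ = x⁻¹ * c * c⁻¹ := by rw [hcomm]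
        _ = x⁻¹ := by group
  card := minus_card_normalizer_D h q hB hR hu hinv

section fin

variable [Fintype G] [Fintype (K →* ℂˣ)] [DecidableEq (K →* ℂˣ)] [DecidableEq (IrrCharacter G)]

/-- The value of `X` off the conjugates of `K`. -/
theorem MainOut.X_apply (h : Hyp t s K) (hk : 4 ≤ Nat.card K)
    (O : MainOut K (Nat.card {u : G // orderOf u = 2})) (g : G) (hg : InR K g) :
    ∃ n : ℤ, (O.M.X : G → ℂ) g = (n : ℂ) ∧
      (deg O.M.X - 1) * n = 2 * (Lead.BSW.beta g : ℤ) - (1 + O.M.δ) * deg O.M.X := by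
  set t' : K := ⟨t, h.tK⟩ with ht'
  have ht1 : t' ≠ 1 := by
    intro e
    exact ne_one_of_orderOf_two h.ht (congrArg Subtype.val e)
  have htt : t' * t' = 1 := Subtype.ext h.tt
  exact O.M.exists_int_X h.comm O.hν t' ht1 htt O.r1 O.r2 O.r3 O.r4 O.s2 _ O.s3 hk
    (Lead.BSW.beta g) g hg (beta_eq h g)

end fin

/-- The bound on the number of factorisations inside `U`. -/
theorem bb3 (h : Hyp t s K) [Finite G] (hk : 4 ≤ Nat.card K) (q : ℕ) (hB : BB1 K q (-1)) :
    BB3 K q := by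
  classical
  haveI : Fintype G := Fintype.ofFinite G
  haveI : Finite (K →* ℂˣ) := finite_dual K
  haveI : Fintype (K →* ℂˣ) := Fintype.ofFinite _
  obtain ⟨O⟩ := exists_mainOut h hk
  have hqB : (q : ℤ) = 2 * (Nat.card K : ℤ) + -1 := hB.2.1
  have hGB : 2 * Nat.card G = q * (q + 1) * (q - 1) := hB.2.2.1
  have hk' : (4 : ℤ) ≤ (Nat.card K : ℤ) := by exact_mod_cast hk
  have hq1 : 1 ≤ q := by omega
  -- `δ = -1`
  have hδ : O.M.δ = -1 := by
    rcases O.M.hδ with e | e
    · exfalso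
      have s2 := O.s2
      have s5 := O.s5
      rw [e] at s2
      have hX : deg O.M.X = (q : ℤ) + 2 := by linarith
      have hG' : (2 * (Nat.card G : ℤ)) = (q : ℤ) * ((q : ℤ) + 1) * ((q : ℤ) - 1) := by
        have : ((2 * Nat.card G : ℕ) : ℤ) = ((q * (q + 1) * (q - 1) : ℕ) : ℤ) := by rw [hGB]
        push_cast [hq1] at this
        exact this
      rw [hX, hG'] at s5
      have hq0 : (0 : ℤ) < (q : ℤ) := by omega
      nlinarith
    · exact e
  have hqX : deg O.M.X = (q : ℤ) := by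
    have := O.s2
    rw [hδ] at this
    linarith
  -- the strongly real element and its centralizer
  obtain ⟨g₀, hR₀, hb₀⟩ := exists_strongly_real h hk q hB
  obtain ⟨u, hu, hinv⟩ := exists_invol_of_beta_ne_zero hb₀
  set D := Subgroup.centralizer ({g₀} : Set G) with hDdef
  haveI : Finite (D →* ℂˣ) := finite_dual D
  haveI : Fintype (D →* ℂˣ) := Fintype.ofFinite _
  have hKD : KHyp D := khyp_centralizer h q hB hR₀ hu hinv
  have hoddD : Odd (Nat.card D) := by
    rw [← Nat.not_even_iff_odd]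
    intro he
    exact not_two_dvd_card_centralizer h hR₀ (even_iff_two_dvd.1 he)
  have hDcard : 2 * Nat.card D + 1 = q := minus_card_D h q hB hR₀ hu hinv
  have hq1' : deg O.M.X - 1 ≠ 0 := by rw [hqX]; omega
  -- elements of `D^#`
  have hDelt : ∀ d ∈ D, d ≠ 1 → InR K d ∧ Lead.BSW.beta d = Nat.card D := by
    intro d hd hd1
    have hRd := h.inR_of_mem_centralizer hR₀ hd hd1
    have hinvd := h.inverts_centralizer hR₀ hu hinv d hd
    refine ⟨hRd, ?_⟩
    rw [h.beta_eq_card_centralizer hRd hu hinvd, h.centralizer_eq hR₀ hu hinv hd hd1]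
  have hXD : ∀ d : D, d ≠ 1 → (O.M.X : G → ℂ) (d : G) = 1 := by
    intro d hd
    have hd1 : (d : G) ≠ 1 := fun e => hd (Subtype.ext e)
    obtain ⟨hRd, hbd⟩ := hDelt d d.2 hd1
    obtain ⟨n, hn1, hn2⟩ := O.X_apply h hk (d : G) hRd
    rw [hbd, hδ, hqX] at hn2
    have hn : n = 1 := by
      have h1 : ((q : ℤ) - 1) * n = ((q : ℤ) - 1) * 1 := by
        have : (2 * (Nat.card D : ℤ) + 1) = (q : ℤ) := by exact_mod_cast hDcard
        linarith
      have h2 : (q : ℤ) - 1 ≠ 0 := by omega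
      exact mul_left_cancel₀ h2 h1
    rw [hn1, hn]; norm_num
  obtain ⟨F⟩ := exists_fam2 hKD hoddD O.M.X O.M.hXo hXD
  let T : Two K D :=
    { ν := O.ν
      hν := O.hν
      M := O.M
      F := F
      hab := h.comm
      habD := hKD.comm
      hδ := hδ
      r1 := by rw [O.r1, hδ]; ring
      r2 := by rw [O.r2, hδ]; ring
      r3 := by rw [O.r3, hδ]; ring
      r4 := by rw [O.r4, hδ]; ring
      s2 := by rw [O.s2, hδ]; ring
      s4 := by rw [O.s4, hδ]; ring
      hD := by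
        rw [hqX]
        exact_mod_cast hDcard }
  intro g hg
  have hgR : InR K g := hg.1
  have hgb : Lead.BSW.beta g = 0 := hg.2
  have hgD : ∀ x : G, x⁻¹ * g * x ∉ D := by
    intro x hx
    have hne : x⁻¹ * g * x ≠ 1 := by
      intro e
      apply hgR.ne_one
      have : g = x * (x⁻¹ * g * x) * x⁻¹ := by group
      rw [this, e]; group
    obtain ⟨_, hb⟩ := hDelt _ hx hne
    have hbc := beta_conj x⁻¹ g
    rw [inv_inv] at hbc
    rw [hbc, hgb] at hb
    have : 0 < Nat.card D := Nat.card_pos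
    omega
  have hX0 : (O.M.X : G → ℂ) g = 0 := by
    obtain ⟨n, hn1, hn2⟩ := O.X_apply h hk g hgR
    rw [hgb, hδ] at hn2
    have hn : n = 0 := by
      have h1 : (deg O.M.X - 1) * n = 0 := by rw [hn2]; push_cast; ring
      rcases mul_eq_zero.1 h1 with h2 | h2
      · exact absurd h2 hq1'
      · exact h2
    rw [hn1, hn]; norm_num
  have hnc : ¬ IsConj g g⁻¹ := by
    intro hc
    obtain ⟨w, hw⟩ := isConj_iff.1 hc
    exact not_real_of_inU h hg hw
  have hcl : ((cls g).card : ℤ) * deg O.M.X = (Nat.card G : ℤ) := by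
    have h1 := card_cls_mul g
    rw [minus_card_centralizer h hk q hB hg] at h1
    rw [hqX]
    exact_mod_cast h1
  have hcl' : ((cls g⁻¹).card : ℤ) * deg O.M.X = (Nat.card G : ℤ) := by
    have h1 := card_cls_mul g⁻¹
    rw [minus_card_centralizer h hk q hB (InU.inv hg)] at h1
    rw [hqX]
    exact_mod_cast h1
  have hcount := T.count g hgR hgD hX0 hnc hcl hcl'
  have hle := card_le_four
    (fun p : G × G => InU K p.1 ∧ InU K p.2 ∧ p.1 * p.2 = g)
    (fun p : G × G => IsConj g p.1 ∧ IsConj g p.2 ∧ p.1 * p.2 = g)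
    (fun p : G × G => IsConj g p.1 ∧ IsConj g⁻¹ p.2 ∧ p.1 * p.2 = g)
    (fun p : G × G => IsConj g⁻¹ p.1 ∧ IsConj g p.2 ∧ p.1 * p.2 = g)
    (fun p : G × G => IsConj g⁻¹ p.1 ∧ IsConj g⁻¹ p.2 ∧ p.1 * p.2 = g)
    (by
      rintro p ⟨h1, h2, h3⟩
      obtain ⟨x, hx⟩ := minus_two_classes h hk q hB hg h1
      obtain ⟨y, hy⟩ := minus_two_classes h hk q hB hg h2
      rcases hx with hx | hx <;> rcases hy with hy | hy
      · exact Or.inl ⟨isConj_iff.2 ⟨x, hx⟩, isConj_iff.2 ⟨y, hy⟩, h3⟩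
      · exact Or.inr (Or.inl ⟨isConj_iff.2 ⟨x, hx⟩, isConj_iff.2 ⟨y, hy⟩, h3⟩)
      · exact Or.inr (Or.inr (Or.inl ⟨isConj_iff.2 ⟨x, hx⟩, isConj_iff.2 ⟨y, hy⟩, h3⟩))
      · exact Or.inr (Or.inr (Or.inr ⟨isConj_iff.2 ⟨x, hx⟩, isConj_iff.2 ⟨y, hy⟩, h3⟩)))
  unfold mulCount at hcount
  have hqc : (deg O.M.X : ℂ) = (q : ℂ) := by exact_mod_cast hqX
  have hsum : Nat.card {p : G × G // IsConj g p.1 ∧ IsConj g p.2 ∧ p.1 * p.2 = g}
      + Nat.card {p : G × G // IsConj g p.1 ∧ IsConj g⁻¹ p.2 ∧ p.1 * p.2 = g}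
      + Nat.card {p : G × G // IsConj g⁻¹ p.1 ∧ IsConj g p.2 ∧ p.1 * p.2 = g}
      + Nat.card {p : G × G // IsConj g⁻¹ p.1 ∧ IsConj g⁻¹ p.2 ∧ p.1 * p.2 = g}
      = 2 * (q - 1) := by
    have e : (T.M.X : G → ℂ) = (O.M.X : G → ℂ) := rfl
    have hc2 : ((Nat.card {p : G × G // IsConj g p.1 ∧ IsConj g p.2 ∧ p.1 * p.2 = g}
      + Nat.card {p : G × G // IsConj g p.1 ∧ IsConj g⁻¹ p.2 ∧ p.1 * p.2 = g}
      + Nat.card {p : G × G // IsConj g⁻¹ p.1 ∧ IsConj g p.2 ∧ p.1 * p.2 = g}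
      + Nat.card {p : G × G // IsConj g⁻¹ p.1 ∧ IsConj g⁻¹ p.2 ∧ p.1 * p.2 = g} : ℕ) : ℂ)
      = ((2 * (q - 1) : ℕ) : ℂ) := by
      push_cast [hq1]
      rw [← hqc]
      exact hcount
    exact_mod_cast hc2
  show Nat.card {p : G × G // InU K p.1 ∧ InU K p.2 ∧ p.1 * p.2 = g} ≤ 2 * (q - 1)
  rw [← hsum]
  exact hle

end Cfsg.Agent.Lib.Helper7.BSWc
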