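import Mathlib
import Cfsg.Agent.H2.BGU.Fit
import Cfsg.Agent.H2.BGU.Balance
import Cfsg.Agent.Lib.Helper7.PQLemma
import Cfsg.Agent.H2.CoprimeFactor
import Cfsg.Agent.S0026
import Cfsg.Agent.S1442
import Cfsg.Agent.S1264

/-!
# Bender's lemma on maximal local subgroups whose Fitting subgroup involves two primes (S1481)
-/

set_option autoImplicit false
set_option linter.unusedVariables false
set_option linter.unusedSectionVars false
set_option linter.style.haveILetI false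

open scoped commutatorElement Pointwise

namespace Cfsg.Agent.Lib.Helper7.Bender

open Cfsg Cfsg.Agent.H2.BGU Cfsg.Agent.Lib.Lead.PiCore Cfsg.Agent.Lib.Helper4.BGTrans

universe u

/-- fixed points of a `p`-group lift modulo a normal `p'`-subgroup -/
theorem exists_mul_mem_centralizer {Γ : Type u} [Group Γ] [Finite Γ] {p : ℕ} [hp : Fact p.Prime]
    (K₀ A : Subgroup Γ) [hK₀ : K₀.Normal] (hA : IsPGroup p ↥A) (hcop : (Nat.card ↥K₀).Coprime p)
    (x : Γ) (hx : ∀ a ∈ A, ⁅x, a⁆ ∈ K₀) :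
    ∃ k ∈ K₀, x * k ∈ Subgroup.centralizer (A : Set Γ) := by
  let S : Set Γ := {y | x⁻¹ * y ∈ K₀}
  have hS : ∀ a ∈ A, ∀ y ∈ S, a * y * a⁻¹ ∈ S := by
    intro a ha y hy
    have h1 : x⁻¹ * ⁅x, a⁆⁻¹ * x ∈ K₀ := by
      have := hK₀.conj_mem _ (K₀.inv_mem (hx a ha)) x⁻¹
      simpa using this
    have h2 : a * (x⁻¹ * y) * a⁻¹ ∈ K₀ := hK₀.conj_mem _ hy a
    have e : x⁻¹ * (a * y * a⁻¹) = (x⁻¹ * ⁅x, a⁆⁻¹ * x) * (a * (x⁻¹ * y) * a⁻¹) := by
      rw [commutatorElement_def]; group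
    show x⁻¹ * (a * y * a⁻¹) ∈ K₀
    rw [e]
    exact K₀.mul_mem h1 h2
  letI : MulAction ↥A ↥S :=
    { smul := fun a y => ⟨a.1 * y.1 * a.1⁻¹, hS a.1 a.2 y.1 y.2⟩
      one_smul := fun y => by
        apply Subtype.ext
        show (1 : ↥A).1 * y.1 * (1 : ↥A).1⁻¹ = y.1
        simp
      mul_smul := fun a b y => by
        apply Subtype.ext
        show (a * b).1 * y.1 * (a * b).1⁻¹ = a.1 * (b.1 * y.1 * b.1⁻¹) * a.1⁻¹
        simp only [Subgroup.coe_mul, mul_inv_rev]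
        group }
  have hcard : Nat.card ↥S = Nat.card ↥K₀ := by
    apply Nat.card_congr
    refine ⟨fun y => ⟨x⁻¹ * y.1, y.2⟩, fun k => ⟨x * k.1, ?_⟩, ?_, ?_⟩
    · show x⁻¹ * (x * k.1) ∈ K₀
      rw [inv_mul_cancel_left]
      exact k.2
    · intro y
      apply Subtype.ext
      show x * (x⁻¹ * y.1) = y.1
      rw [mul_inv_cancel_left]
    · intro k
      apply Subtype.ext
      show x⁻¹ * (x * k.1) = k.1
      rw [inv_mul_cancel_left]
  have hnd : ¬ p ∣ Nat.card ↥S := by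
    rw [hcard]
    exact (Nat.Prime.coprime_iff_not_dvd hp.out).mp hcop.symm
  obtain ⟨y, hy⟩ := hA.nonempty_fixed_point_of_prime_not_dvd_card ↥S hnd
  refine ⟨x⁻¹ * y.1, y.2, ?_⟩
  rw [mul_inv_cancel_left, Subgroup.mem_centralizer_iff]
  intro a ha
  have h0 := hy ⟨a, ha⟩
  have h1 : a * y.1 * a⁻¹ = y.1 := congrArg Subtype.val h0
  calc a * y.1 = (a * y.1 * a⁻¹) * a := by group
    _ = y.1 * a := by rw [h1]

section lemmaR

variable {Γ : Type u} [Group Γ] [Finite Γ]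

theorem Oq_fittingOf_le_Oq (q : ℕ) [Fact q.Prime] (R : Subgroup Γ) :
    Oq q (Cfsg.fittingOf R) ≤ Oq q R := by
  have h1 : Oq q (Cfsg.fittingOf R) ≤ R := (Oq_le q _).trans (fittingOf_le R)
  exact le_piCoreOf h1 (le_normalizer_Oq_fittingOf q R)
    (isPiNat_of_isPGroup (isPGroup_Oq Fact.out (Cfsg.fittingOf R)))

/-- the case `O_{π'}(R) = 1` -/
theorem eq_bot_of_Op'_eq_bot (R : Subgroup Γ) [hRs : Group.IsSolvable ↥R]
    (n : ℕ) (Z : ℕ → Subgroup Γ) (K : Subgroup Γ)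
    (hOp : Op' n R = ⊥)
    (hZp : ∀ p, p.Prime → p ∣ n → IsPGroup p ↥(Z p))
    (hZN : ∀ p, p.Prime → p ∣ n → Z p ≤ Subgroup.normalizer (R : Set Γ))
    (hZc : ∀ p s, p.Prime → s.Prime → p ∣ n → s ∣ n → p ≠ s →
      Z p ≤ Subgroup.centralizer (Z s : Set Γ))
    (hA : ∀ p s, p.Prime → s.Prime → p ∣ n → s ∣ n → p ≠ s →
      Oq p R ⊓ Subgroup.centralizer (Z p : Set Γ) ≤ Subgroup.centralizer (Z s : Set Γ))
    (hKR : K ≤ R) (hKn : (Nat.card ↥K).Coprime n)
    (hKZ : ∀ s, s.Prime → s ∣ n → K ≤ ⁅K, Z s⁆)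
    (h2 : ∀ p, p.Prime → p ∣ n → ∃ s, s.Prime ∧ s ∣ n ∧ s ≠ p) : K = ⊥ := by
  -- Step 1
  have step1 : ∀ p s, p.Prime → s.Prime → p ∣ n → s ∣ n → p ≠ s →
      Z s ≤ Subgroup.centralizer (Oq p R : Set Γ) := by
    intro p s hp hs hpn hsn hps
    haveI : Fact p.Prime := ⟨hp⟩
    haveI : Fact s.Prime := ⟨hs⟩
    have hQ : (Nat.card ↥(Z s)).Coprime p := by
      obtain ⟨k, hk⟩ := (hZp s hs hsn).exists_card_eq
      rw [hk]
      exact Nat.Coprime.pow_left k ((Nat.coprime_primes hs hp).mpr (Ne.symm hps))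
    exact Cfsg.Agent.Lib.Helper7.pq_lemma p (Z p) (Z s) (hZp p hp hpn) hQ
      (hZc p s hp hs hpn hsn hps) _ (Oq p R) rfl (isPGroup_Oq hp R)
      ((hZN p hp hpn).trans (normalizer_le_normalizer_Oq p R))
      ((hZN s hs hsn).trans (normalizer_le_normalizer_Oq p R))
      (hA p s hp hs hpn hsn hps)
  -- Step 2
  have step2 : ∀ p, p.Prime → p ∣ n → K ≤ Subgroup.centralizer (Oq p R : Set Γ) := by
    intro p hp hpn
    obtain ⟨s, hs, hsn, hsp⟩ := h2 p hp hpn
    have hZT := step1 p s hp hs hpn hsn (Ne.symm hsp)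
    set T := Oq p R with hT
    have ha : ⁅⁅Z s, T⁆, K⁆ = ⊥ := by
      rw [Subgroup.commutator_eq_bot_iff_le_centralizer.mpr hZT]
      exact Subgroup.commutator_bot_left K
    have hTK : ⁅T, K⁆ ≤ T := by
      rw [Subgroup.commutator_le]
      intro t ht k hk
      have hkN : k ∈ Subgroup.normalizer (T : Set Γ) := le_normalizer_Oq p R (hKR hk)
      have h1 : k * t⁻¹ * k⁻¹ ∈ T := (Subgroup.mem_normalizer_iff.mp hkN t⁻¹).mp (T.inv_mem ht)
      have e : ⁅t, k⁆ = t * (k * t⁻¹ * k⁻¹) := by rw [commutatorElement_def]; group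
      rw [e]
      exact T.mul_mem ht h1
    have hb : ⁅⁅T, K⁆, Z s⁆ = ⊥ := by
      rw [eq_bot_iff]
      calc ⁅⁅T, K⁆, Z s⁆ ≤ ⁅T, Z s⁆ := Subgroup.commutator_mono hTK le_rfl
        _ = ⊥ := by
          rw [Subgroup.commutator_comm]
          exact Subgroup.commutator_eq_bot_iff_le_centralizer.mpr hZT
    have hc := Subgroup.commutator_commutator_eq_bot_of_rotate ha hb
    have hd : ⁅K, Z s⁆ ≤ Subgroup.centralizer (T : Set Γ) :=
      Subgroup.commutator_eq_bot_iff_le_centralizer.mp hc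
    exact (hKZ s hs hsn).trans hd
  -- Step 3
  have step3 : ∀ p, p.Prime → ¬ p ∣ n → Oq p R = ⊥ := by
    intro p hp hpn
    rw [eq_bot_iff, ← hOp]
    apply le_Op' (Oq_le p R) (le_normalizer_Oq p R)
    haveI : Fact p.Prime := ⟨hp⟩
    obtain ⟨k, hk⟩ := (isPGroup_Oq hp R).exists_card_eq
    rw [hk]
    exact Nat.Coprime.pow_right k ((Nat.Prime.coprime_iff_not_dvd hp).mpr hpn).symm
  -- Step 4
  have step4 : Cfsg.fittingOf R ≤ Subgroup.centralizer (K : Set Γ) := by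
    apply le_of_forall_Oq_le (fittingOf_nilpotent R)
    intro q hq
    haveI : Fact q.Prime := ⟨hq⟩
    refine (Oq_fittingOf_le_Oq q R).trans ?_
    by_cases hqn : q ∣ n
    · have := step2 q hq hqn
      intro x hx
      rw [Subgroup.mem_centralizer_iff]
      intro k hk
      exact (Subgroup.mem_centralizer_iff.mp (this hk) x hx).symm
    · rw [step3 q hq hqn]
      exact bot_le
  -- Step 5
  have step5 : K ≤ Cfsg.fittingOf R := by
    refine le_trans ?_ (inf_centralizer_fittingOf_le R)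
    refine le_inf hKR ?_
    intro k hk
    rw [Subgroup.mem_centralizer_iff]
    intro x hx
    exact (Subgroup.mem_centralizer_iff.mp (step4 hx) k hk).symm
  -- Step 6
  by_contra hne
  have hcard : Nat.card ↥K ≠ 1 := fun h => hne (Subgroup.card_eq_one.mp h)
  obtain ⟨q, hq, hqK⟩ := Nat.exists_prime_and_dvd hcard
  haveI : Fact q.Prime := ⟨hq⟩
  have hqn : ¬ q ∣ n := by
    intro hqn
    have := Nat.Coprime.eq_one_of_dvd (Nat.Coprime.coprime_dvd_left hqK hKn) hqn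
    exact hq.one_lt.ne' this
  have hqF : q ∣ Nat.card ↥(Cfsg.fittingOf R) := hqK.trans (Subgroup.card_dvd_of_le step5)
  have h9 := Oq_ne_bot_of_dvd (fittingOf_nilpotent R) hqF
  apply h9
  rw [eq_bot_iff, ← step3 q hq hqn]
  exact Oq_fittingOf_le_Oq q R

end lemmaR

section lemmaQ

variable {Γ₀ : Type u} [Group Γ₀] [Finite Γ₀]

omit [Finite Γ₀] in
theorem le_normalizer_of_normal (N A : Subgroup Γ₀) [hN : N.Normal] :
    A ≤ Subgroup.normalizer (N : Set Γ₀) := by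
  intro g _
  rw [Subgroup.mem_normalizer_iff]
  intro h
  constructor
  · intro hh
    exact hN.conj_mem h hh g
  · intro hh
    have := hN.conj_mem _ hh g⁻¹
    simpa [mul_assoc] using this

omit [Finite Γ₀] in
theorem map_le_centralizer_map {Γ₁ : Type*} [Group Γ₁] (f : Γ₀ →* Γ₁) {A B : Subgroup Γ₀}
    (h : A ≤ Subgroup.centralizer (B : Set Γ₀)) :
    A.map f ≤ Subgroup.centralizer ((B.map f : Subgroup Γ₁) : Set Γ₁) := by
  rintro _ ⟨a, ha, rfl⟩
  rw [Subgroup.mem_centralizer_iff]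
  rintro _ ⟨b, hb, rfl⟩
  rw [← map_mul, ← map_mul, Subgroup.mem_centralizer_iff.mp (h ha) b hb]

/-- the main lemma for a normal solvable subgroup `R` of `Γ₀` -/
theorem le_Op'_of_normal (R : Subgroup Γ₀) [hRn : R.Normal] [hRs : Group.IsSolvable ↥R]
    (n : ℕ) (Z : ℕ → Subgroup Γ₀) (K : Subgroup Γ₀)
    (hZp : ∀ p, p.Prime → p ∣ n → IsPGroup p ↥(Z p))
    (hZc : ∀ p s, p.Prime → s.Prime → p ∣ n → s ∣ n → p ≠ s →
      Z p ≤ Subgroup.centralizer (Z s : Set Γ₀))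
    (hA : ∀ p s, p.Prime → s.Prime → p ∣ n → s ∣ n → p ≠ s → ∀ D : Subgroup Γ₀, D ≤ R →
      D ≤ Subgroup.centralizer (Z p : Set Γ₀) → Z s ≤ Subgroup.normalizer (D : Set Γ₀) →
      (Nat.card ↥D).Coprime s → D ≤ Subgroup.centralizer (Z s : Set Γ₀))
    (hKR : K ≤ R) (hKn : (Nat.card ↥K).Coprime n)
    (hKZ : ∀ s, s.Prime → s ∣ n → K ≤ ⁅K, Z s⁆)
    (h2 : ∀ p, p.Prime → p ∣ n → ∃ s, s.Prime ∧ s ∣ n ∧ s ≠ p) : K ≤ Op' n R := by
  obtain ⟨K₀, hK₀⟩ : ∃ K₀ : Subgroup Γ₀, K₀ = Op' n R := ⟨_, rfl⟩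
  rw [← hK₀]
  haveI hK₀n : K₀.Normal := by
    have h1 : (⊤ : Subgroup Γ₀) ≤ Subgroup.normalizer (K₀ : Set Γ₀) := by
      rw [hK₀]
      exact (le_normalizer_of_normal R ⊤).trans (normalizer_le_normalizer_Op' n R)
    constructor
    intro x hx g
    exact (Subgroup.mem_normalizer_iff.mp (h1 (Subgroup.mem_top g)) x).mp hx
  have hK₀R : K₀ ≤ R := by rw [hK₀]; exact Op'_le n R
  have hK₀c : n.Coprime (Nat.card ↥K₀) := by rw [hK₀]; exact coprime_card_Op' n R
  set mk := QuotientGroup.mk' K₀ with hmk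
  have hker : ∀ x : Γ₀, mk x = 1 ↔ x ∈ K₀ := fun x => QuotientGroup.eq_one_iff x
  have hsurj : Function.Surjective mk := QuotientGroup.mk'_surjective K₀
  haveI hRbn : (R.map mk).Normal := Subgroup.Normal.map hRn mk hsurj
  haveI hRbs : Group.IsSolvable ↥(R.map mk) :=
    Group.isSolvable_of_surjective (MonoidHom.subgroupMap_surjective mk R)
  -- the quotient has trivial `O_{π'}`
  have hOp : Op' n (R.map mk) = ⊥ := by
    obtain ⟨Nb, hNb⟩ : ∃ Nb : Subgroup (Γ₀ ⧸ K₀), Nb = Op' n (R.map mk) := ⟨_, rfl⟩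
    rw [← hNb]
    have hNbR : Nb ≤ R.map mk := by rw [hNb]; exact Op'_le n _
    have hNbc : n.Coprime (Nat.card ↥Nb) := by rw [hNb]; exact coprime_card_Op' n _
    have hNbn : R.map mk ≤ Subgroup.normalizer (Nb : Set (Γ₀ ⧸ K₀)) := by
      rw [hNb]; exact le_normalizer_Op' n _
    set N := Nb.comap mk ⊓ R with hN
    have hNR : N ≤ R := inf_le_right
    have hNn : R ≤ Subgroup.normalizer (N : Set Γ₀) := by
      apply le_normalizer_inf
      · intro r hr
        apply Subgroup.le_normalizer_comap mk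
        rw [Subgroup.mem_comap]
        exact hNbn (Subgroup.mem_map_of_mem mk hr)
      · exact Subgroup.le_normalizer
    have hNc : n.Coprime (Nat.card ↥N) := by
      by_contra hnc
      obtain ⟨q, hq, hqn, hqN⟩ := Nat.Prime.not_coprime_iff_dvd.mp hnc
      haveI : Fact q.Prime := ⟨hq⟩
      obtain ⟨x, hx⟩ := exists_prime_orderOf_dvd_card' (G := ↥N) q hqN
      have hxN : (x : Γ₀) ∈ N := x.2
      have hmx : mk (x : Γ₀) ∈ Nb := hxN.1
      have ho1 : orderOf (mk (x : Γ₀)) ∣ q := by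
        have := orderOf_map_dvd mk (x : Γ₀)
        rwa [Subgroup.orderOf_coe, hx] at this
      have ho2 : orderOf (mk (x : Γ₀)) ∣ Nat.card ↥Nb := by
        have := orderOf_dvd_natCard (⟨mk (x : Γ₀), hmx⟩ : ↥Nb)
        rwa [← Subgroup.orderOf_coe] at this
      have ho3 : orderOf (mk (x : Γ₀)) = 1 := by
        have hcop : (Nat.card ↥Nb).Coprime q :=
          (Nat.Coprime.coprime_dvd_left hqn hNbc).symm
        exact Nat.eq_one_of_dvd_coprimes hcop ho2 ho1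
      have hxK : (x : Γ₀) ∈ K₀ := (hker _).mp (orderOf_eq_one_iff.mp ho3)
      have hqK : q ∣ Nat.card ↥K₀ := by
        have := orderOf_dvd_natCard (⟨(x : Γ₀), hxK⟩ : ↥K₀)
        rwa [← Subgroup.orderOf_coe, Subgroup.coe_mk, Subgroup.orderOf_coe, hx] at this
      have := Nat.Coprime.eq_one_of_dvd (Nat.Coprime.coprime_dvd_left hqn hK₀c) hqK
      exact hq.one_lt.ne' this
    have hNK : N ≤ K₀ := by rw [hK₀]; exact le_Op' hNR hNn hNc
    rw [eq_bot_iff]
    intro y hy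
    obtain ⟨r, hr, rfl⟩ := hNbR hy
    rw [Subgroup.mem_bot, hker]
    exact hNK ⟨hy, hr⟩
  -- apply the lemma in the quotient
  have key := eq_bot_of_Op'_eq_bot (R.map mk) n (fun p => (Z p).map mk) (K.map mk) hOp
    (fun p hp hpn => (hZp p hp hpn).map mk)
    (fun p hp hpn => le_normalizer_of_normal _ _)
    (fun p s hp hs hpn hsn hps => map_le_centralizer_map mk (hZc p s hp hs hpn hsn hps))
    ?_ (Subgroup.map_mono hKR)
    (Nat.Coprime.coprime_dvd_left (Subgroup.card_map_dvd K mk) hKn)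
    (fun s hs hsn => by
      rw [← Subgroup.map_commutator]
      exact Subgroup.map_mono (hKZ s hs hsn))
    h2
  · rw [Subgroup.map_eq_bot_iff, QuotientGroup.ker_mk'] at key
    exact key
  · -- hypothesis (A) in the quotient
    intro p s hp hs hpn hsn hps xb hxb
    haveI : Fact p.Prime := ⟨hp⟩
    haveI : Fact s.Prime := ⟨hs⟩
    obtain ⟨hxb1, hxb2⟩ := hxb
    obtain ⟨x, rfl⟩ := hsurj xb
    have hK₀p : (Nat.card ↥K₀).Coprime p :=
      (Nat.Coprime.coprime_dvd_left hpn hK₀c).symm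
    have hcomm : ∀ a ∈ Z p, ⁅x, a⁆ ∈ K₀ := by
      intro a ha
      rw [← hker, map_commutatorElement, commutatorElement_eq_one_iff_commute]
      exact (Subgroup.mem_centralizer_iff.mp hxb2 (mk a) (Subgroup.mem_map_of_mem mk ha)).symm
    obtain ⟨k, hk, hy⟩ := exists_mul_mem_centralizer K₀ (Z p) (hZp p hp hpn) hK₀p x hcomm
    have hmky : mk (x * k) = mk x := by
      rw [map_mul, (hker k).mpr hk, mul_one]
    obtain ⟨T, hT⟩ : ∃ T : Subgroup Γ₀, T = (Oq p (R.map mk)).comap mk := ⟨_, rfl⟩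
    have hTmem : ∀ t : Γ₀, t ∈ T ↔ mk t ∈ Oq p (R.map mk) := by
      intro t; rw [hT, Subgroup.mem_comap]
    have hTn : (⊤ : Subgroup Γ₀) ≤ Subgroup.normalizer (T : Set Γ₀) := by
      intro g _
      rw [hT]
      apply Subgroup.le_normalizer_comap mk
      rw [Subgroup.mem_comap]
      exact (le_normalizer_of_normal (R.map mk) ⊤).trans (normalizer_le_normalizer_Oq p _)
        (Subgroup.mem_top _)
    have hTR : T ≤ R := by
      intro t ht
      obtain ⟨r, hr, hrt⟩ := (Oq_le p (R.map mk)) ((hTmem t).mp ht)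
      have h1 : r⁻¹ * t ∈ K₀ := by
        rw [← hker, map_mul, map_inv, hrt, inv_mul_cancel]
      have : t = r * (r⁻¹ * t) := by group
      rw [this]
      exact R.mul_mem hr (hK₀R h1)
    set D := T ⊓ Subgroup.centralizer (Z p : Set Γ₀) with hD
    have hyD : x * k ∈ D := by
      refine ⟨?_, hy⟩
      apply (hTmem _).mpr
      rw [hmky]
      exact hxb1
    have hDR : D ≤ R := inf_le_left.trans hTR
    have hDn : Z s ≤ Subgroup.normalizer (D : Set Γ₀) := by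
      apply le_normalizer_inf
      · exact le_top.trans hTn
      · exact (hZc s p hs hp hsn hpn (Ne.symm hps)).trans Subgroup.le_normalizer
    have hDc : (Nat.card ↥D).Coprime s := by
      rw [Nat.coprime_comm, Nat.Prime.coprime_iff_not_dvd hs]
      intro hsD
      obtain ⟨d, hd⟩ := exists_prime_orderOf_dvd_card' (G := ↥D) s hsD
      have hdD : (d : Γ₀) ∈ D := d.2
      have hdT : mk (d : Γ₀) ∈ Oq p (R.map mk) := (hTmem _).mp hdD.1
      have ho1 : orderOf (mk (d : Γ₀)) ∣ s := by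
        have := orderOf_map_dvd mk (d : Γ₀)
        rwa [Subgroup.orderOf_coe, hd] at this
      obtain ⟨j, hj⟩ := (isPGroup_Oq hp (R.map mk)) ⟨mk (d : Γ₀), hdT⟩
      have ho2 : orderOf (mk (d : Γ₀)) ∣ p ^ j := by
        apply orderOf_dvd_of_pow_eq_one
        have := congrArg Subtype.val hj
        simpa using this
      have ho3 : orderOf (mk (d : Γ₀)) = 1 := by
        have hcop : (p ^ j).Coprime s :=
          Nat.Coprime.pow_left j ((Nat.coprime_primes hp hs).mpr hps)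
        exact Nat.eq_one_of_dvd_coprimes hcop ho2 ho1
      have hdK : (d : Γ₀) ∈ K₀ := (hker _).mp (orderOf_eq_one_iff.mp ho3)
      have hsK : s ∣ Nat.card ↥K₀ := by
        have := orderOf_dvd_natCard (⟨(d : Γ₀), hdK⟩ : ↥K₀)
        rwa [← Subgroup.orderOf_coe, Subgroup.coe_mk, Subgroup.orderOf_coe, hd] at this
      have := Nat.Coprime.eq_one_of_dvd (Nat.Coprime.coprime_dvd_left hsn hK₀c) hsK
      exact hs.one_lt.ne' this
    have hDs := hA p s hp hs hpn hsn hps D hDR inf_le_right hDn hDc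
    have h1 : x * k ∈ Subgroup.centralizer (Z s : Set Γ₀) := hDs hyD
    rw [← hmky, Subgroup.mem_centralizer_iff]
    rintro _ ⟨b, hb, rfl⟩
    rw [← map_mul, ← map_mul, Subgroup.mem_centralizer_iff.mp h1 b hb]

end lemmaQ

section lemmaQ'

variable {G : Type u} [Group G] [Finite G]

/-- the main lemma for a solvable subgroup `R` of `G`, all the `Z p` normalizing `R` -/
theorem le_Op'_of_le_normalizer (R : Subgroup G) [hRs : Group.IsSolvable ↥R]
    (n : ℕ) (Z : ℕ → Subgroup G) (K : Subgroup G)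
    (hZp : ∀ p, p.Prime → p ∣ n → IsPGroup p ↥(Z p))
    (hZN : ∀ p, p.Prime → p ∣ n → Z p ≤ Subgroup.normalizer (R : Set G))
    (hZc : ∀ p s, p.Prime → s.Prime → p ∣ n → s ∣ n → p ≠ s →
      Z p ≤ Subgroup.centralizer (Z s : Set G))
    (hA : ∀ p s, p.Prime → s.Prime → p ∣ n → s ∣ n → p ≠ s → ∀ D : Subgroup G, D ≤ R →
      D ≤ Subgroup.centralizer (Z p : Set G) → Z s ≤ Subgroup.normalizer (D : Set G) →
      (Nat.card ↥D).Coprime s → D ≤ Subgroup.centralizer (Z s : Set G))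
    (hKR : K ≤ R) (hKn : (Nat.card ↥K).Coprime n)
    (hKZ : ∀ s, s.Prime → s ∣ n → K ≤ ⁅K, Z s⁆)
    (h2 : ∀ p, p.Prime → p ∣ n → ∃ s, s.Prime ∧ s ∣ n ∧ s ≠ p) : K ≤ Op' n R := by
  obtain ⟨Y, hY⟩ : ∃ Y : Subgroup G, Y = Subgroup.normalizer (R : Set G) := ⟨_, rfl⟩
  have hRY : R ≤ Y := by rw [hY]; exact Subgroup.le_normalizer
  have hKY : K ≤ Y := hKR.trans hRY
  haveI hR'n : (R.subgroupOf Y).Normal :=
    Subgroup.normal_subgroupOf_of_le_normalizer (by rw [hY])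
  haveI hR's : Group.IsSolvable ↥(R.subgroupOf Y) :=
    Group.isSolvable_of_surjective (f := (Subgroup.subgroupOfEquivOfLe hRY).symm.toMonoidHom)
      (Subgroup.subgroupOfEquivOfLe hRY).symm.surjective
  have hZY : ∀ p, p.Prime → p ∣ n → Z p ≤ Y := by
    intro p hp hpn; rw [hY]; exact hZN p hp hpn
  have key := le_Op'_of_normal (R.subgroupOf Y) n (fun p => (Z p).subgroupOf Y) (K.subgroupOf Y)
    (fun p hp hpn => (hZp p hp hpn).comap_subtype) ?_ ?_ ?_ ?_ ?_ h2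
  · -- transfer the conclusion
    obtain ⟨N', hN'⟩ : ∃ N' : Subgroup ↥Y, N' = Op' n (R.subgroupOf Y) := ⟨_, rfl⟩
    rw [← hN'] at key
    have hN'R : N' ≤ R.subgroupOf Y := by rw [hN']; exact Op'_le n _
    have hN'n : R.subgroupOf Y ≤ Subgroup.normalizer (N' : Set ↥Y) := by
      rw [hN']; exact le_normalizer_Op' n _
    have hN'c : n.Coprime (Nat.card ↥N') := by rw [hN']; exact coprime_card_Op' n _
    have h1 : N'.map Y.subtype ≤ R := by
      rintro _ ⟨y, hy, rfl⟩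
      exact Subgroup.mem_subgroupOf.mp (hN'R hy)
    have h2' : R ≤ Subgroup.normalizer ((N'.map Y.subtype : Subgroup G) : Set G) := by
      intro r hr
      apply Subgroup.le_normalizer_map Y.subtype
      exact ⟨⟨r, hRY hr⟩, hN'n (Subgroup.mem_subgroupOf.mpr hr), rfl⟩
    have h3 : n.Coprime (Nat.card ↥(N'.map Y.subtype)) := by
      rw [Subgroup.card_map_of_injective Y.subtype_injective]
      exact hN'c
    refine le_trans ?_ (le_Op' h1 h2' h3)
    intro k hk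
    exact ⟨⟨k, hKY hk⟩, key (Subgroup.mem_subgroupOf.mpr hk), rfl⟩
  · -- commuting
    intro p s hp hs hpn hsn hps a ha
    rw [Subgroup.mem_centralizer_iff]
    intro b hb
    apply Subtype.ext
    exact Subgroup.mem_centralizer_iff.mp (hZc p s hp hs hpn hsn hps (Subgroup.mem_subgroupOf.mp ha))
      b.1 (Subgroup.mem_subgroupOf.mp hb)
  · -- hypothesis (A)
    intro p s hp hs hpn hsn hps D' hD'R hD'C hD'n hD'c
    have h1 : D'.map Y.subtype ≤ R := by
      rintro _ ⟨y, hy, rfl⟩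
      exact Subgroup.mem_subgroupOf.mp (hD'R hy)
    have h2' : D'.map Y.subtype ≤ Subgroup.centralizer (Z p : Set G) := by
      rintro _ ⟨y, hy, rfl⟩
      rw [Subgroup.mem_centralizer_iff]
      intro a ha
      have haY : a ∈ Y := hZY p hp hpn ha
      have := Subgroup.mem_centralizer_iff.mp (hD'C hy) ⟨a, haY⟩ (Subgroup.mem_subgroupOf.mpr ha)
      exact congrArg Subtype.val this
    have h3 : Z s ≤ Subgroup.normalizer ((D'.map Y.subtype : Subgroup G) : Set G) := by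
      intro z hz
      apply Subgroup.le_normalizer_map Y.subtype
      exact ⟨⟨z, hZY s hs hsn hz⟩, hD'n (Subgroup.mem_subgroupOf.mpr hz), rfl⟩
    have h4 : (Nat.card ↥(D'.map Y.subtype)).Coprime s := by
      rw [Subgroup.card_map_of_injective Y.subtype_injective]
      exact hD'c
    have h5 := hA p s hp hs hpn hsn hps _ h1 h2' h3 h4
    intro d hd
    rw [Subgroup.mem_centralizer_iff]
    intro b hb
    apply Subtype.ext
    exact Subgroup.mem_centralizer_iff.mp (h5 ⟨d, hd, rfl⟩) b.1 (Subgroup.mem_subgroupOf.mp hb)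
  · -- K ≤ R
    intro k hk
    exact Subgroup.mem_subgroupOf.mpr (hKR (Subgroup.mem_subgroupOf.mp hk))
  · -- coprime
    rw [Nat.card_congr (Subgroup.subgroupOfEquivOfLe hKY).toEquiv]
    exact hKn
  · -- K = [K, Z s]
    intro s hs hsn k hk
    have hk' : (k : G) ∈ ⁅K, Z s⁆ := hKZ s hs hsn (Subgroup.mem_subgroupOf.mp hk)
    have e : (⁅K.subgroupOf Y, (Z s).subgroupOf Y⁆).map Y.subtype = ⁅K, Z s⁆ := by
      rw [Subgroup.map_commutator, Subgroup.map_subgroupOf_eq_of_le hKY,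
        Subgroup.map_subgroupOf_eq_of_le (hZY s hs hsn)]
    rw [← e] at hk'
    obtain ⟨k', hk'1, hk'2⟩ := hk'
    have : k' = k := Subtype.ext hk'2
    rw [← this]
    exact hk'1

end lemmaQ'

section Hside

variable {G : Type u} [Group G] [Finite G]

theorem normalizer_Zq_eq (H : Subgroup G)
    (hHmax : ∀ L : Subgroup G, Cfsg.IsLocalSubgroup L → H ≤ L → L = H)
    {s : ℕ} (hs : s.Prime) (hsn : s ∣ Nat.card ↥(Cfsg.fittingOf H)) :
    Subgroup.normalizer (Zq s (Cfsg.fittingOf H) : Set G) = H := by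
  haveI : Fact s.Prime := ⟨hs⟩
  exact hHmax _ ⟨s, Zq s (Cfsg.fittingOf H), hs, isPGroup_Zq hs _,
    Zq_ne_bot_of_dvd (fittingOf_nilpotent H) hsn, rfl⟩ (le_normalizer_Zq_fittingOf s H)

theorem centralizer_Zq_le (H : Subgroup G)
    (hHmax : ∀ L : Subgroup G, Cfsg.IsLocalSubgroup L → H ≤ L → L = H)
    {s : ℕ} (hs : s.Prime) (hsn : s ∣ Nat.card ↥(Cfsg.fittingOf H)) :
    Subgroup.centralizer (Zq s (Cfsg.fittingOf H) : Set G) ≤ H := by
  have h := Subgroup.centralizer_le_normalizer (Zq s (Cfsg.fittingOf H) : Set G)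
  rw [normalizer_Zq_eq H hHmax hs hsn] at h
  exact h

theorem Zq_le_of_le (H M : Subgroup G) (hM : M ≤ Cfsg.fittingOf H)
    (hCM : Cfsg.fittingOf H ⊓ Subgroup.centralizer (M : Set G) ≤ M) (s : ℕ) :
    Zq s (Cfsg.fittingOf H) ≤ M := by
  refine le_trans (le_inf (Zq_le s _) ?_) hCM
  exact (Zq_le_centralizer s _).trans (Subgroup.centralizer_le hM)

theorem Zq_le_centralizer_Zq (H : Subgroup G) (p s : ℕ) :
    Zq p (Cfsg.fittingOf H) ≤ Subgroup.centralizer (Zq s (Cfsg.fittingOf H) : Set G) :=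
  (Zq_le_centralizer p _).trans (Subgroup.centralizer_le (Zq_le s _))

theorem le_centralizer_Zq (H M : Subgroup G) (hM : M ≤ Cfsg.fittingOf H) (s : ℕ) :
    M ≤ Subgroup.centralizer (Zq s (Cfsg.fittingOf H) : Set G) := by
  intro m hm
  rw [Subgroup.mem_centralizer_iff]
  intro z hz
  exact (Subgroup.mem_centralizer_iff.mp (Zq_le_centralizer s _ hz) m (hM hm)).symm

/-- key fact (A) -/
theorem keyA (H : Subgroup G)
    (hHmax : ∀ L : Subgroup G, Cfsg.IsLocalSubgroup L → H ≤ L → L = H)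
    {p s : ℕ} (hp : p.Prime) (hs : s.Prime) (hpn : p ∣ Nat.card ↥(Cfsg.fittingOf H))
    (hsn : s ∣ Nat.card ↥(Cfsg.fittingOf H)) (D : Subgroup G)
    (hDC : D ≤ Subgroup.centralizer (Zq p (Cfsg.fittingOf H) : Set G))
    (hDn : Zq s (Cfsg.fittingOf H) ≤ Subgroup.normalizer (D : Set G))
    (hDc : (Nat.card ↥D).Coprime s) :
    D ≤ Subgroup.centralizer (Zq s (Cfsg.fittingOf H) : Set G) := by
  haveI : Fact s.Prime := ⟨hs⟩
  have hDH : D ≤ H := hDC.trans (centralizer_Zq_le H hHmax hp hpn)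
  apply le_centralizer_of_coprime (hDH.trans (le_normalizer_Zq_fittingOf s H)) hDn
  obtain ⟨k, hk⟩ := (isPGroup_Zq hs (Cfsg.fittingOf H)).exists_card_eq
  rw [hk]
  exact Nat.Coprime.pow_right k hDc

/-- `R ∩ C_H(F(H)) ≤ F(H)` for solvable `R` normalized by `C_H(F(H))` -/
theorem inf_centralizer_le_fittingOf (H R : Subgroup G) [hRs : Group.IsSolvable ↥R]
    (hXR : H ⊓ Subgroup.centralizer (Cfsg.fittingOf H : Set G) ≤ Subgroup.normalizer (R : Set G)) :
    R ⊓ (H ⊓ Subgroup.centralizer (Cfsg.fittingOf H : Set G)) ≤ Cfsg.fittingOf H := by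
  set X := H ⊓ Subgroup.centralizer (Cfsg.fittingOf H : Set G) with hX
  set N := R ⊓ X with hN
  have hNH : N ≤ H := inf_le_right.trans inf_le_left
  have hsolvN : Group.IsSolvable ↥N :=
    Group.isSolvable_of_isSolvable_injective (f := Subgroup.inclusion (inf_le_left : N ≤ R))
      (Subgroup.inclusion_injective _)
  have h1 := Cfsg.Agent.S1264.result (G := ↥H) (N.subgroupOf H) ?_ ?_ ?_
  · intro y hy
    have hyH : y ∈ H := hNH hy
    have h2 := h1 (Subgroup.mem_subgroupOf.mpr (show ((⟨y, hyH⟩ : ↥H) : G) ∈ N from hy))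
    obtain ⟨f, -, hf⟩ := h2
    rw [mem_fittingOf_iff]
    refine ⟨hyH, ?_⟩
    rw [← hf]
    exact f.2
  · -- N' centralizes F(H)
    intro y hy
    rw [Subgroup.mem_centralizer_iff]
    intro f hf
    apply Subtype.ext
    have hyN : (y : G) ∈ N := Subgroup.mem_subgroupOf.mp hy
    have hfF : (f : G) ∈ Cfsg.fittingOf H := mem_fittingOf_iff.mpr ⟨f.2, hf⟩
    exact Subgroup.mem_centralizer_iff.mp hyN.2.2 (f : G) hfF
  · -- C_H(F(H)) normalizes N'
    intro c hc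
    have hcX : (c : G) ∈ X := by
      refine ⟨c.2, ?_⟩
      show (c : G) ∈ Subgroup.centralizer (Cfsg.fittingOf H : Set G)
      rw [Subgroup.mem_centralizer_iff]
      intro f hf
      obtain ⟨hfH, hf'⟩ := mem_fittingOf_iff.mp hf
      have := Subgroup.mem_centralizer_iff.mp hc ⟨f, hfH⟩ hf'
      exact congrArg Subtype.val this
    have hcN : (c : G) ∈ Subgroup.normalizer (N : Set G) :=
      le_normalizer_inf hXR Subgroup.le_normalizer hcX
    apply Subgroup.le_normalizer_comap H.subtype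
    exact hcN
  · exact Group.isSolvable_of_isSolvable_injective
      (f := (Subgroup.subgroupOfEquivOfLe hNH).toMonoidHom) (Subgroup.subgroupOfEquivOfLe hNH).injective

/-- key fact (B): fixed points of `Z_s` on `M`-invariant `π'`-subgroups of `R` are trivial -/
theorem keyB (H : Subgroup G)
    (hHmax : ∀ L : Subgroup G, Cfsg.IsLocalSubgroup L → H ≤ L → L = H)
    (M : Subgroup G) (hM : M ≤ Cfsg.fittingOf H)
    (hCM : Cfsg.fittingOf H ⊓ Subgroup.centralizer (M : Set G) ≤ M)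
    (R : Subgroup G) [hRs : Group.IsSolvable ↥R]
    (hXR : H ⊓ Subgroup.centralizer (Cfsg.fittingOf H : Set G) ≤ Subgroup.normalizer (R : Set G))
    (K : Subgroup G) (hKR : K ≤ R) (hMK : M ≤ Subgroup.normalizer (K : Set G))
    (hKn : (Nat.card ↥K).Coprime (Nat.card ↥(Cfsg.fittingOf H)))
    {s : ℕ} (hs : s.Prime) (hsn : s ∣ Nat.card ↥(Cfsg.fittingOf H)) :
    K ⊓ Subgroup.centralizer (Zq s (Cfsg.fittingOf H) : Set G) = ⊥ := by
  set F := Cfsg.fittingOf H with hF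
  set K₁ := K ⊓ Subgroup.centralizer (Zq s F : Set G) with hK₁
  have hK₁H : K₁ ≤ H := inf_le_right.trans (centralizer_Zq_le H hHmax hs hsn)
  have hK₁c : (Nat.card ↥K₁).Coprime (Nat.card ↥F) :=
    Nat.Coprime.coprime_dvd_left (Subgroup.card_dvd_of_le inf_le_left) hKn
  have hMK₁ : M ≤ Subgroup.normalizer (K₁ : Set G) :=
    le_normalizer_inf hMK ((le_centralizer_Zq H M hM s).trans Subgroup.le_normalizer)
  have hK₁F : K₁ ≤ Subgroup.normalizer (F : Set G) := hK₁H.trans (le_normalizer_fittingOf H)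
  have hbot : K₁ ⊓ F = ⊥ := (Subgroup.disjoint_of_coprime_natCard hK₁c).eq_bot
  -- K₁ centralizes M
  have hK₁M : K₁ ≤ Subgroup.centralizer (M : Set G) := by
    intro k hk
    rw [Subgroup.mem_centralizer_iff]
    intro m hm
    have m1 : k * m * k⁻¹ * m⁻¹ ∈ F :=
      F.mul_mem ((Subgroup.mem_normalizer_iff.mp (hK₁F hk) m).mp (hM hm)) (F.inv_mem (hM hm))
    have m2 : k * m * k⁻¹ * m⁻¹ ∈ K₁ := by
      have : m * k⁻¹ * m⁻¹ ∈ K₁ :=
        (Subgroup.mem_normalizer_iff.mp (hMK₁ hm) k⁻¹).mp (K₁.inv_mem hk)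
      have e : k * m * k⁻¹ * m⁻¹ = k * (m * k⁻¹ * m⁻¹) := by group
      rw [e]; exact K₁.mul_mem hk this
    have h1 : k * m * k⁻¹ * m⁻¹ = 1 := by
      have : k * m * k⁻¹ * m⁻¹ ∈ K₁ ⊓ F := ⟨m2, m1⟩
      rw [hbot, Subgroup.mem_bot] at this
      exact this
    calc m * k = (k * m * k⁻¹ * m⁻¹)⁻¹ * (k * m) := by group
      _ = k * m := by rw [h1, inv_one, one_mul]
  -- K₁ centralizes F
  have hK₁CF : K₁ ≤ Subgroup.centralizer (F : Set G) := by
    apply Cfsg.Agent.S1442.result F K₁ (fittingOf_nilpotent H) hK₁F hK₁c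
    have hMle : M ≤ F ⊓ Subgroup.centralizer (K₁ : Set G) :=
      le_inf hM (Subgroup.le_centralizer_iff.mp hK₁M)
    refine le_trans ?_ (hCM.trans hMle)
    exact inf_le_inf_left F (Subgroup.centralizer_le hMle)
  -- conclusion
  have hK₁F' : K₁ ≤ F := by
    refine le_trans ?_ (inf_centralizer_le_fittingOf H R hXR)
    exact le_inf (inf_le_left.trans hKR) (le_inf hK₁H hK₁CF)
  exact eq_bot_of_le_of_coprime hK₁F' hK₁c

end Hside


section final

variable {G : Type u} [Group G] [Finite G]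

/-- main claim: `M`-invariant `π'`-subgroups of `R` lie in `O_{π'}(R)` -/
theorem inv_le_Op' (H : Subgroup G)
    (hHmax : ∀ L : Subgroup G, Cfsg.IsLocalSubgroup L → H ≤ L → L = H)
    (hF2 : 2 ≤ (Nat.card ↥(Cfsg.fittingOf H)).primeFactors.card)
    (M : Subgroup G) (hM : M ≤ Cfsg.fittingOf H)
    (hCM : Cfsg.fittingOf H ⊓ Subgroup.centralizer (M : Set G) ≤ M)
    (R : Subgroup G) [hRs : Group.IsSolvable ↥R]
    (hMR : M ≤ Subgroup.normalizer (R : Set G))
    (hXR : H ⊓ Subgroup.centralizer (Cfsg.fittingOf H : Set G) ≤ Subgroup.normalizer (R : Set G))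
    (K : Subgroup G) (hKR : K ≤ R) (hMK : M ≤ Subgroup.normalizer (K : Set G))
    (hKn : (Nat.card ↥K).Coprime (Nat.card ↥(Cfsg.fittingOf H))) :
    K ≤ Op' (Nat.card ↥(Cfsg.fittingOf H)) R := by
  set F := Cfsg.fittingOf H with hF
  apply le_Op'_of_le_normalizer R (Nat.card ↥F) (fun p => Zq p F) K
  · exact fun p hp _ => isPGroup_Zq hp F
  · exact fun p _ _ => (Zq_le_of_le H M hM hCM p).trans hMR
  · exact fun p s _ _ _ _ _ => Zq_le_centralizer_Zq H p s
  · exact fun p s hp hs hpn hsn hps D hDR hDC hDn hDc => keyA H hHmax hp hs hpn hsn D hDC hDn hDc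
  · exact hKR
  · exact hKn
  · intro s hs hsn
    haveI : Fact s.Prime := ⟨hs⟩
    have hZK : Zq s F ≤ Subgroup.normalizer (K : Set G) := (Zq_le_of_le H M hM hCM s).trans hMK
    have hcop : (Nat.card ↥(Zq s F)).Coprime (Nat.card ↥K) :=
      Nat.Coprime.coprime_dvd_left (Subgroup.card_dvd_of_le (Zq_le s F)) hKn.symm
    haveI : Group.IsNilpotent ↥(Zq s F) := (isPGroup_Zq hs F).isNilpotent
    have h := Cfsg.Agent.S0026.result (Zq s F) K hZK hcop (Or.inl inferInstance)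
    rw [keyB H hHmax M hM hCM R hXR K hKR hMK hKn hs hsn, sup_bot_eq] at h
    exact h.ge
  · intro p hp hpn
    have h1 : 1 < (Nat.card ↥F).primeFactors.card := hF2
    obtain ⟨s, hs, hsp⟩ := Finset.exists_mem_ne h1 p
    exact ⟨s, (Nat.mem_primeFactors.mp hs).1, (Nat.mem_primeFactors.mp hs).2.1, hsp⟩

open Cfsg.Agent.H2.CoprimeFactor Cfsg.Agent.H2.DiagComp in
/-- Bender's lemma (statement of S1481) -/
theorem bender_two_primes (H : Subgroup G)
    (hHmax : ∀ L : Subgroup G, Cfsg.IsLocalSubgroup L → H ≤ L → L = H)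
    (hF2 : 2 ≤ (Nat.card ↥(Cfsg.fittingOf H)).primeFactors.card)
    (M : Subgroup G) (hM : M ≤ Cfsg.fittingOf H)
    (hCM : Cfsg.fittingOf H ⊓ Subgroup.centralizer (M : Set G) ≤ M)
    (R : Subgroup G) (hR : Group.IsSolvable ↥R)
    (hMR : M ≤ Subgroup.normalizer (R : Set G))
    (hXR : H ⊓ Subgroup.centralizer (Cfsg.fittingOf H : Set G) ≤ Subgroup.normalizer (R : Set G))
    (q : ℕ) [hq : Fact q.Prime] (hqn : ¬ q ∣ Nat.card ↥(Cfsg.fittingOf H)) :
    ∃! Q : Subgroup G, Q ∈ Cfsg.maxInvSubgroups R M {q} ∧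
      (∀ Q' : Subgroup G, Q' ∈ Cfsg.maxInvSubgroups R M {q} →
        Q' ≤ Cfsg.piCoreOf (Cfsg.primesNotDvd (Nat.card ↥(Cfsg.fittingOf H))) R ∧
        ¬ q ∣ Q'.relIndex (Cfsg.piCoreOf (Cfsg.primesNotDvd (Nat.card ↥(Cfsg.fittingOf H))) R)) := by
  haveI := hR
  set F := Cfsg.fittingOf H with hF
  set n := Nat.card ↥F with hn
  obtain ⟨K₀, hK₀⟩ : ∃ K₀ : Subgroup G, K₀ = Op' n R := ⟨_, rfl⟩
  have hK₀' : Cfsg.piCoreOf (Cfsg.primesNotDvd n) R = K₀ := by rw [hK₀]; rfl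
  rw [hK₀']
  have hK₀R : K₀ ≤ R := by rw [hK₀]; exact Op'_le n R
  have hK₀c : n.Coprime (Nat.card ↥K₀) := by rw [hK₀]; exact coprime_card_Op' n R
  have hMK₀ : M ≤ Subgroup.normalizer (K₀ : Set G) := by
    rw [hK₀]; exact hMR.trans (normalizer_le_normalizer_Op' n R)
  have hMsolv : Group.IsSolvable ↥M := by
    haveI : Group.IsNilpotent ↥F := fittingOf_nilpotent H
    exact Group.isSolvable_of_isSolvable_injective (f := Subgroup.inclusion hM)
      (Subgroup.inclusion_injective _)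
  have hcop : (Nat.card ↥M).Coprime (Nat.card ↥K₀) :=
    Nat.Coprime.coprime_dvd_left (Subgroup.card_dvd_of_le hM) hK₀c
  -- every invariant q-subgroup lies in K₀
  have hinv : ∀ Q ∈ Cfsg.invSubgroups R M {q}, Q ≤ K₀ ∧ IsPGroup q ↥Q := by
    rintro Q ⟨hQR, hQπ, hMQ⟩
    have hQp : IsPGroup q ↥Q := isPGroup_of_isPiNat hq.out hQπ
    refine ⟨?_, hQp⟩
    rw [hK₀]
    apply inv_le_Op' H hHmax hF2 M hM hCM R hMR hXR Q hQR hMQ
    obtain ⟨k, hk⟩ := hQp.exists_card_eq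
    rw [hk]
    exact Nat.Coprime.pow_left k ((Nat.Prime.coprime_iff_not_dvd hq.out).mpr hqn)
  -- C_{K₀}(M) = 1
  have hC0 : K₀ ⊓ Subgroup.centralizer (M : Set G) = ⊥ := by
    have h1 : 1 < n.primeFactors.card := hF2
    obtain ⟨s, hs⟩ := Finset.card_pos.mp (Nat.zero_lt_of_lt h1)
    obtain ⟨hsp, hsn, -⟩ := Nat.mem_primeFactors.mp hs
    rw [eq_bot_iff, ← keyB H hHmax M hM hCM R hXR K₀ hK₀R hMK₀ hK₀c.symm hsp hsn]
    exact inf_le_inf_left K₀ (Subgroup.centralizer_le (Zq_le_of_le H M hM hCM s))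
  obtain ⟨S₀, hS₀syl, hMS₀⟩ := exists_inv_syl M K₀ hMK₀ hcop hMsolv q
  have hle : ∀ Q ∈ Cfsg.invSubgroups R M {q}, Q ≤ S₀ := by
    intro Q hQ
    obtain ⟨hQK₀, hQp⟩ := hinv Q hQ
    obtain ⟨S₁, hS₁, hMS₁, hQS₁⟩ := exists_inv_syl_ge M K₀ hMK₀ hcop hMsolv q Q hQK₀ hQp hQ.2.2
    obtain ⟨c, hc, hcj⟩ := inv_syl_conj M K₀ hMK₀ hcop hMsolv q hS₁ hS₀syl hMS₁ hMS₀
    rw [hC0, Subgroup.mem_bot] at hc
    rw [hc, Cfsg.Agent.H2.DiagComp.cj_one] at hcj
    rw [← hcj]
    exact hQS₁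
  have hS₀inv : S₀ ∈ Cfsg.invSubgroups R M {q} :=
    ⟨hS₀syl.1.trans hK₀R, isPiNat_of_isPGroup hS₀syl.2.1, hMS₀⟩
  have hS₀max : S₀ ∈ Cfsg.maxInvSubgroups R M {q} :=
    ⟨hS₀inv, fun Q hQ hle' => le_antisymm (hle Q hQ) hle'⟩
  have huniq : ∀ Q' ∈ Cfsg.maxInvSubgroups R M {q}, Q' = S₀ :=
    fun Q' hQ' => (hQ'.2 S₀ hS₀inv (hle Q' hQ'.1)).symm
  refine ⟨S₀, ⟨hS₀max, fun Q' hQ' => ?_⟩, fun Q hQ => huniq Q hQ.1⟩
  rw [huniq Q' hQ']
  refine ⟨hS₀syl.1, ?_⟩
  intro hdvd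
  have h1 : Nat.card ↥(S₀.subgroupOf K₀) * (S₀.subgroupOf K₀).index = Nat.card ↥K₀ :=
    Subgroup.card_mul_index _
  rw [Nat.card_congr (Subgroup.subgroupOfEquivOfLe hS₀syl.1).toEquiv, hS₀syl.2.2] at h1
  have h2 : q ^ ((Nat.card ↥K₀).factorization q + 1) ∣ Nat.card ↥K₀ := by
    rw [pow_succ]
    exact (Nat.mul_dvd_mul_left _ hdvd).trans (dvd_of_eq h1)
  exact Nat.pow_succ_factorization_not_dvd Nat.card_pos.ne' hq.out h2

end final

end Cfsg.Agent.Lib.Helper7.Bender
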