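import Mathlib
import Cfsg.Agent.Lib.Helper7.BisetTransfer2

/-!
# The determinant of an element acting almost centrally, modulo a quotient of the abelianization
-/

set_option autoImplicit false

universe u

namespace Cfsg.Agent.Lib.Helper7.BisetTransfer

variable {X : Type u} {B : Type u} [Group B] (ρ : B →* Equiv.Perm X)

section centralMod

variable (L : Gr ρ) {A : Type*} [CommGroup A] (θ : Abelianization B →* A) (z : B)
  (hL : ∀ (j : ℤ) (x : X) (b : B), ((L ^ j : Gr ρ) : Equiv.Perm X) x = ρ b x →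
    θ (Abelianization.of b) = θ (Abelianization.of z) ^ (-j))

include hL in
theorem dl_secz_mod (r : R ρ) :
    θ (Abelianization.of (dl ρ (secz ρ L) (secz_spec ρ L) ((L : Equiv.Perm X) (secz ρ L r)))) =
      θ (Abelianization.of z) ^ (-(expo ρ L r + 1 - expo ρ L (bar ρ L r))) := by
  apply hL _ (secz ρ L (bar ρ L r))
  have h1 := dl_spec ρ (secz ρ L) (secz_spec ρ L) ((L : Equiv.Perm X) (secz ρ L r))
  have e : Quotient.mk (rel ρ) ((L : Equiv.Perm X) (secz ρ L r)) = bar ρ L r := by
    rw [← bar_mk, secz_spec]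
  rw [e] at h1
  rw [h1]
  have h2 : secz ρ L (bar ρ L r) =
      ((L ^ (expo ρ L (bar ρ L r)) : Gr ρ) : Equiv.Perm X) ((base ρ L r).out) := by
    unfold secz
    rw [base_apply]
  rw [h2]
  have h3 : (L : Equiv.Perm X) (secz ρ L r) =
      ((L ^ (expo ρ L r + 1) : Gr ρ) : Equiv.Perm X) ((base ρ L r).out) := by
    unfold secz
    rw [add_comm, zpow_one_add]
    rfl
  rw [h3, ← Equiv.Perm.mul_apply, ← Subgroup.coe_mul, ← zpow_add]
  congr 3
  ring

variable [Fintype (R ρ)]

include hL in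
theorem Dfun_central_mod :
    θ (Dfun ρ (secz ρ L) (secz_spec ρ L) L) =
      θ (Abelianization.of z) ^ (-(Fintype.card (R ρ) : ℤ)) := by
  unfold Dfun
  rw [map_prod, Finset.prod_congr rfl (fun r _ => dl_secz_mod ρ L θ z hL r), zpow_prod_eq]
  congr 1
  have h1 : ∑ r : R ρ, expo ρ L (bar ρ L r) = ∑ r : R ρ, expo ρ L r :=
    Equiv.sum_comp (bar ρ L) (fun r => expo ρ L r)
  rw [Finset.sum_neg_distrib, Finset.sum_sub_distrib, Finset.sum_add_distrib, h1]
  simp

end centralMod

end Cfsg.Agent.Lib.Helper7.BisetTransfer
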