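import Mathlib
import Cfsg.Prelude.Def_Characters
import Cfsg.Agent.Lib.helper3.GalPow2
import Cfsg.Agent.Lib.helper3.Inflate2
import Cfsg.Agent.Lib.helper3.Degrees

set_option autoImplicit false
set_option linter.style.haveILetI false
set_option linter.unusedSectionVars false

/-!
# Blichfeldt's theorem, part 1: rationality of irreducible characters from disjoint supports

If no element of `G` has order divisible by `p * q`, every irreducible character of `G` is fixed
by the Galois automorphisms moving only `p`-power roots of unity, or by those moving only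
`q`-power roots of unity.
-/

namespace Cfsg.Agent.Lib.Helper7.Blich

open Cfsg Cfsg.Agent.Lib.helper3.Irr Cfsg.Agent.Lib.helper3.IndFun
open Cfsg.Agent.Lib.helper3.CharBasic Cfsg.Agent.Lib.helper3.GalPow
open scoped ComplexConjugate

variable {G : Type*} [Group G] [Fintype G]

theorem pow_eq_self_of_modEq (g : G) {k m : ℕ} (hg : orderOf g ∣ m) (hk : k ≡ 1 [MOD m]) :
    g ^ k = g := by
  have h1 : k ≡ 1 [MOD orderOf g] := hk.of_dvd hg
  have h2 := (pow_eq_pow_iff_modEq (x := g)).mpr h1
  rwa [pow_one] at h2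

theorem orderOf_dvd_ordCompl {p : ℕ} (hp : p.Prime) (g : G) (hg : ¬ p ∣ orderOf g) :
    orderOf g ∣ ordCompl[p] (Nat.card G) := by
  have h1 : orderOf g ∣ Nat.card G := orderOf_dvd_natCard g
  have h2 : (orderOf g).Coprime (p ^ (Nat.card G).factorization p) :=
    Nat.Coprime.pow_right _ ((Nat.Prime.coprime_iff_not_dvd hp).mpr hg).symm
  rw [← Nat.ordProj_mul_ordCompl_eq_self (Nat.card G) p] at h1
  exact h2.dvd_of_dvd_mul_left h1

/-- Disjoint supports: if no element has order divisible by both `p` and `q`, an irreducible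
character is fixed by one of two Galois conjugations. -/
theorem rational_or_rational {ξ : G → ℂ} (hξ : IsIrrCharacter G ξ) {p q : ℕ} (hp : p.Prime)
    (hq : q.Prime) (hno : ∀ g : G, ¬ (p ∣ orderOf g ∧ q ∣ orderOf g))
    (k l : ℕ) (hk : k.Coprime (Nat.card G)) (hl : l.Coprime (Nat.card G))
    (hk1 : k ≡ 1 [MOD ordCompl[p] (Nat.card G)]) (hl1 : l ≡ 1 [MOD ordCompl[q] (Nat.card G)]) :
    (fun g => ξ (g ^ k)) = ξ ∨ (fun g => ξ (g ^ l)) = ξ := by
  classical
  by_contra hcon
  push Not at hcon
  obtain ⟨hak, hal⟩ := hcon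
  have hirk : IsIrrCharacter G (fun g => ξ (g ^ k)) := isIrrCharacter_pow hξ k hk
  have hirl : IsIrrCharacter G (fun g => ξ (g ^ l)) := isIrrCharacter_pow hξ l hl
  -- the product of the two differences vanishes identically
  have hzero : classInner ((fun g => ξ (g ^ k)) - ξ) ((fun g => ξ (g ^ l)) - ξ) = 0 := by
    rw [classInner_apply]
    have : ∀ g : G, ((fun g => ξ (g ^ k)) - ξ) g * conj (((fun g => ξ (g ^ l)) - ξ) g) = 0 := by
      intro g
      simp only [Pi.sub_apply]
      by_cases h1 : p ∣ orderOf g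
      · have h2 : ¬ q ∣ orderOf g := fun h2 => hno g ⟨h1, h2⟩
        rw [pow_eq_self_of_modEq g (orderOf_dvd_ordCompl hq g h2) hl1, sub_self, map_zero,
          mul_zero]
      · rw [pow_eq_self_of_modEq g (orderOf_dvd_ordCompl hp g h1) hk1, sub_self, zero_mul]
    rw [Finset.sum_eq_zero (fun g _ => this g), mul_zero]
  rw [classInner_sub_left, classInner_sub_right, classInner_sub_right,
    irr_classInner_eq_zero hirk hξ hak, irr_classInner_eq_zero hξ hirl (Ne.symm hal),
    irr_classInner_self hξ, irr_classInner_eq hirk hirl] at hzero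
  split_ifs at hzero with h
  · norm_num at hzero
  · norm_num at hzero

/-- Chinese remainder: a unit modulo `N` congruent to `1` modulo the `p'`-part of `N` and to a
prescribed `j` prime to `p` modulo `p`. -/
theorem exists_coprime_modEq {p : ℕ} (hp : p.Prime) (N : ℕ) (hN : N ≠ 0) (j : ℕ) (hj : ¬ p ∣ j) :
    ∃ k : ℕ, k.Coprime N ∧ k ≡ 1 [MOD ordCompl[p] N] ∧ k ≡ j [MOD p] := by
  have hcop : p.Coprime (ordCompl[p] N) := Nat.coprime_ordCompl hp hN
  obtain ⟨k, hkp, hkm⟩ := Nat.chineseRemainder hcop j 1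
  refine ⟨k, ?_, hkm, hkp⟩
  have h1 : k.Coprime p := by
    rw [Nat.coprime_comm, Nat.Prime.coprime_iff_not_dvd hp]
    intro hpk
    exact hj ((Nat.modEq_zero_iff_dvd.mp ((hkp.symm.trans (Nat.modEq_zero_iff_dvd.mpr hpk)))))
  have h2 : k.Coprime (ordCompl[p] N) := by
    have := hkm.gcd_eq
    rw [Nat.Coprime, this, Nat.gcd_one_left]
  rw [← Nat.ordProj_mul_ordCompl_eq_self N p]
  exact Nat.Coprime.mul_right (Nat.Coprime.pow_right _ h1) h2

theorem geom_sum_of_pow_eq_one {ν : ℂ} {p : ℕ} (hν : ν ^ p = 1) :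
    ∑ j ∈ Finset.range p, ν ^ j = if ν = 1 then (p : ℂ) else 0 := by
  split_ifs with h
  · subst h
    simp
  · have h1 : ν - 1 ≠ 0 := sub_ne_zero.mpr h
    have h2 := geom_sum_mul ν p
    rw [hν, sub_self] at h2
    exact (mul_eq_zero.mp h2).resolve_right h1

end Cfsg.Agent.Lib.Helper7.Blich
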