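import Mathlib
import Cfsg.Prelude.Def_Characters
import Cfsg.Agent.Lib.Helper7.Blich1

set_option autoImplicit false
set_option linter.style.haveILetI false
set_option linter.unusedSectionVars false

/-!
# Blichfeldt's theorem, part 2: a `p`-rational character of degree `< p - 1` is trivial on
elements of order `p`
-/

namespace Cfsg.Agent.Lib.Helper7.Blich

open Cfsg Cfsg.Agent.Lib.helper3.Irr Cfsg.Agent.Lib.helper3.IndFun
open Cfsg.Agent.Lib.helper3.CharBasic Cfsg.Agent.Lib.helper3.GalPow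
open scoped ComplexConjugate

variable {G : Type*} [Group G] [Finite G]

/-- Twisted power sums of a character over a cyclic subgroup of order `p` count eigenvalues. -/
theorem exists_nat_twisted_sum {χ : G → ℂ} (hχ : IsCharacter G χ) (x : G) {p : ℕ}
    (hx : orderOf x = p) (ν : ℂ) (hν : ν ^ p = 1) :
    ∃ c : ℕ, ∑ j ∈ Finset.range p, ν ^ j * χ (x ^ j) = (p : ℂ) * c := by
  classical
  obtain ⟨n, ρ, rfl⟩ := hχ
  obtain ⟨I, _, v, μ, hf, hμ⟩ := exists_eigenbasis ρ x
  rw [hx] at hμ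
  have h1 : ∀ j : ℕ, ρ.character (x ^ j) = ∑ i, μ i ^ j := fun j =>
    character_eq_sum_of_eigenbasis ρ (x ^ j) v (fun i => μ i ^ j)
      (fun i => rho_pow_apply_eigen ρ x v μ hf j i)
  refine ⟨(Finset.univ.filter (fun i => ν * μ i = 1)).card, ?_⟩
  calc ∑ j ∈ Finset.range p, ν ^ j * ρ.character (x ^ j)
      = ∑ j ∈ Finset.range p, ∑ i, (ν * μ i) ^ j := by
        apply Finset.sum_congr rfl
        intro j _
        rw [h1 j, Finset.mul_sum]
        apply Finset.sum_congr rfl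
        intro i _
        rw [mul_pow]
    _ = ∑ i, ∑ j ∈ Finset.range p, (ν * μ i) ^ j := Finset.sum_comm
    _ = ∑ i, (if ν * μ i = 1 then (p : ℂ) else 0) := by
        apply Finset.sum_congr rfl
        intro i _
        apply geom_sum_of_pow_eq_one
        rw [mul_pow, hν, hμ i, one_mul]
    _ = (p : ℂ) * (Finset.univ.filter (fun i => ν * μ i = 1)).card := by
        rw [← Finset.sum_filter, Finset.sum_const, nsmul_eq_mul, mul_comm]

/-- A character of degree `d < p - 1` taking the same value on all nontrivial powers of an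
element `x` of prime order `p` has `x` in its kernel. -/
theorem apply_eq_of_rational {χ : G → ℂ} (hχ : IsCharacter G χ) (x : G) {p : ℕ} (hp : p.Prime)
    (hx : orderOf x = p) (d : ℕ) (hd : χ 1 = d) (hdp : d + 1 < p)
    (hrat : ∀ j : ℕ, 0 < j → j < p → χ (x ^ j) = χ x) : χ x = χ 1 := by
  classical
  have hp0 : p ≠ 0 := hp.ne_zero
  -- a primitive `p`-th root of unity
  set ω : ℂ := Complex.exp (2 * Real.pi * Complex.I / (p : ℂ)) with hω
  have hprim : IsPrimitiveRoot ω p := Complex.isPrimitiveRoot_exp p hp0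
  have hω1 : ω ≠ 1 := hprim.ne_one hp.one_lt
  have hωp : ω ^ p = 1 := hprim.pow_eq_one
  -- split off the `j = 0` term
  have hsplit : ∀ ν : ℂ, ∑ j ∈ Finset.range p, ν ^ j * χ (x ^ j)
      = χ 1 + (∑ j ∈ Finset.range p, ν ^ j - 1) * χ x := by
    intro ν
    obtain ⟨m, rfl⟩ : ∃ m, p = m + 1 := ⟨p - 1, by omega⟩
    rw [Finset.sum_range_succ', Finset.sum_range_succ' (fun j => ν ^ j)]
    simp only [pow_zero, one_mul, add_sub_cancel_right]
    rw [add_comm, Finset.sum_mul]
    congr 1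
    apply Finset.sum_congr rfl
    intro j hj
    rw [hrat (j + 1) (by omega) (by have := Finset.mem_range.mp hj; omega)]
  obtain ⟨c₀, hc₀⟩ := exists_nat_twisted_sum hχ x hx 1 (one_pow p)
  obtain ⟨c₁, hc₁⟩ := exists_nat_twisted_sum hχ x hx ω hωp
  rw [hsplit, geom_sum_of_pow_eq_one (one_pow p), if_pos rfl] at hc₀
  rw [hsplit, geom_sum_of_pow_eq_one hωp, if_neg hω1] at hc₁
  -- `χ x = d - p c₁` and `p c₀ = d + (p - 1) χ x`
  have hs : χ x = (d : ℂ) - (p : ℂ) * c₁ := by
    rw [hd] at hc₁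
    linear_combination -hc₁
  have hnat : (d : ℂ) = (c₀ : ℂ) + ((p : ℂ) - 1) * c₁ := by
    rw [hd, hs] at hc₀
    have hpc : (p : ℂ) ≠ 0 := by exact_mod_cast hp0
    have : (p : ℂ) * ((d : ℂ) - ((c₀ : ℂ) + ((p : ℂ) - 1) * c₁)) = 0 := by
      linear_combination hc₀
    rcases mul_eq_zero.mp this with h | h
    · exact absurd h hpc
    · exact sub_eq_zero.mp h
  have hnat' : d = c₀ + (p - 1) * c₁ := by
    have h1 : ((p - 1 : ℕ) : ℂ) = (p : ℂ) - 1 := by
      rw [Nat.cast_sub hp.one_le, Nat.cast_one]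
    have : (d : ℂ) = ((c₀ + (p - 1) * c₁ : ℕ) : ℂ) := by
      rw [hnat]; push_cast [h1]; ring
    exact_mod_cast this
  have hc1 : c₁ = 0 := by
    by_contra h
    have h1 : 1 ≤ c₁ := Nat.one_le_iff_ne_zero.mpr h
    have h2 : p - 1 ≤ (p - 1) * c₁ := Nat.le_mul_of_pos_right _ h1
    omega
  rw [hs, hc1, hd]
  simp

end Cfsg.Agent.Lib.Helper7.Blich
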