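import Mathlib
import Cfsg.Prelude.Def_Characters
import Cfsg.Agent.Lib.Helper7.Blich2

set_option autoImplicit false
set_option linter.style.haveILetI false
set_option linter.unusedSectionVars false

/-!
# Blichfeldt's theorem, part 3: two large primes dividing the order of a linear group of small
degree give commuting elements of these orders
-/

namespace Cfsg.Agent.Lib.Helper7.Blich

open Cfsg Cfsg.Agent.Lib.helper3.Irr Cfsg.Agent.Lib.helper3.IndFun
open Cfsg.Agent.Lib.helper3.CharBasic Cfsg.Agent.Lib.helper3.GalPow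
open Cfsg.Agent.Lib.helper3.Central
open scoped ComplexConjugate

variable {G : Type*} [Group G] [Finite G]

/-- If `x` lies in the kernel of the character `ψ`, so does every commutator with `x` on the
left. -/
theorem apply_comm_of_left {ψ : G → ℂ} (hψ : IsCharacter G ψ) (x y : G) (hx : ψ x = ψ 1) :
    ψ (x * y * x⁻¹ * y⁻¹) = ψ 1 := by
  have hinv : ψ x⁻¹ = ψ 1 := by
    have := apply_mul_of_apply_eq_one hψ hx x⁻¹
    rw [inv_mul_cancel] at this
    exact this.symm
  have hconj : ψ (y * x⁻¹ * y⁻¹) = ψ 1 := by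
    rw [isClassFunction_of_isCharacter hψ x⁻¹ y, hinv]
  have e : x * y * x⁻¹ * y⁻¹ = x * (y * x⁻¹ * y⁻¹) := by group
  rw [e, apply_mul_of_apply_eq_one hψ hconj x, hx]

/-- If `y` lies in the kernel of the character `ψ`, so does every commutator with `y` on the
right. -/
theorem apply_comm_of_right {ψ : G → ℂ} (hψ : IsCharacter G ψ) (x y : G) (hy : ψ y = ψ 1) :
    ψ (x * y * x⁻¹ * y⁻¹) = ψ 1 := by
  have hinv : ψ y⁻¹ = ψ 1 := by
    have := apply_mul_of_apply_eq_one hψ hy y⁻¹
    rw [inv_mul_cancel] at this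
    exact this.symm
  rw [apply_mul_of_apply_eq_one hψ hinv (x * y * x⁻¹), isClassFunction_of_isCharacter hψ y x, hy]

/-- **Key step of Blichfeldt's theorem.** If `G` has a faithful character of degree `n` and
`p, q > n + 1` are primes dividing `|G|`, there are commuting elements of orders `p` and `q`. -/
theorem exists_commute_of_big_primes {χ : G → ℂ} (hχ : IsCharacter G χ)
    (hfaith : ∀ g : G, χ g = χ 1 → g = 1) (n : ℕ) (hn : χ 1 = n) {p q : ℕ} (hp : p.Prime)
    (hq : q.Prime) (hpn : n + 1 < p) (hqn : n + 1 < q) (hpG : p ∣ Nat.card G)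
    (hqG : q ∣ Nat.card G) :
    ∃ x y : G, orderOf x = p ∧ orderOf y = q ∧ x * y = y * x := by
  classical
  letI := Fintype.ofFinite G
  by_contra hcon
  push Not at hcon
  have hno : ∀ g : G, ¬ (p ∣ orderOf g ∧ q ∣ orderOf g) := by
    rintro g ⟨h1, h2⟩
    have hpos := orderOf_pos g
    refine hcon (g ^ (orderOf g / p)) (g ^ (orderOf g / q))
      (orderOf_pow_orderOf_div hpos.ne' h1) (orderOf_pow_orderOf_div hpos.ne' h2) ?_
    rw [← pow_add, ← pow_add, add_comm]
  haveI : Fact p.Prime := ⟨hp⟩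
  haveI : Fact q.Prime := ⟨hq⟩
  obtain ⟨x, hx⟩ := exists_prime_orderOf_dvd_card' p hpG
  obtain ⟨y, hy⟩ := exists_prime_orderOf_dvd_card' q hqG
  have hN : Nat.card G ≠ 0 := Nat.card_pos.ne'
  -- each constituent kills `x` or `y`
  have hkey : ∀ ψ : IrrCharacter G, classInner χ (ψ : G → ℂ) ≠ 0 →
      (ψ : G → ℂ) x = (ψ : G → ℂ) 1 ∨ (ψ : G → ℂ) y = (ψ : G → ℂ) 1 := by
    intro ψ hψ
    have hψc := isCharacter_of_isIrrCharacter ψ.2
    obtain ⟨d, hd, -, -⟩ := irr_degree_dvd_card ψ.2
    have hdn : d ≤ n := constituent_degree_le hχ ψ hψ hn hd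
    by_cases hA : ∀ k : ℕ, k.Coprime (Nat.card G) → k ≡ 1 [MOD ordCompl[p] (Nat.card G)] →
        (fun g => (ψ : G → ℂ) (g ^ k)) = (ψ : G → ℂ)
    · left
      apply apply_eq_of_rational hψc x hp hx d hd (by omega)
      intro j hj0 hjp
      obtain ⟨k, hkc, hk1, hkj⟩ := exists_coprime_modEq hp (Nat.card G) hN j
        (Nat.not_dvd_of_pos_of_lt hj0 hjp)
      have h1 := congrFun (hA k hkc hk1) x
      change (ψ : G → ℂ) (_ ^ _) = _ at h1
      have h2 : x ^ k = x ^ j := by
        rw [pow_eq_pow_iff_modEq, hx]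
        exact hkj
      rw [← h2, h1]
    · right
      push Not at hA
      obtain ⟨k, hkc, hk1, hkne⟩ := hA
      apply apply_eq_of_rational hψc y hq hy d hd (by omega)
      intro j hj0 hjq
      obtain ⟨l, hlc, hl1, hlj⟩ := exists_coprime_modEq hq (Nat.card G) hN j
        (Nat.not_dvd_of_pos_of_lt hj0 hjq)
      have h0 := (rational_or_rational ψ.2 hp hq hno k l hkc hlc hk1 hl1).resolve_left hkne
      have h1 := congrFun h0 y
      change (ψ : G → ℂ) (_ ^ _) = _ at h1
      have h2 : y ^ l = y ^ j := by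
        rw [pow_eq_pow_iff_modEq, hy]
        exact hlj
      rw [← h2, h1]
  -- hence the commutator lies in the kernel of `χ`
  have hcomm : χ (x * y * x⁻¹ * y⁻¹) = χ 1 := by
    have hdec := isCharacter_eq_sum_classInner hχ
    have h1 := congrFun hdec (x * y * x⁻¹ * y⁻¹)
    have h2 := congrFun hdec 1
    simp only [Finset.sum_apply, Pi.smul_apply, smul_eq_mul] at h1 h2
    rw [h1, h2]
    apply Finset.sum_congr rfl
    intro ψ _
    by_cases h0 : classInner χ (ψ : G → ℂ) = 0
    · rw [h0, zero_mul, zero_mul]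
    · have hψc := isCharacter_of_isIrrCharacter ψ.2
      congr 1
      rcases hkey ψ h0 with h | h
      · exact apply_comm_of_left hψc x y h
      · exact apply_comm_of_right hψc x y h
  have h3 := hfaith _ hcomm
  apply hcon x y hx hy
  calc x * y = (x * y * x⁻¹ * y⁻¹) * (y * x) := by group
    _ = y * x := by rw [h3, one_mul]

end Cfsg.Agent.Lib.Helper7.Blich
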