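import Mathlib

set_option autoImplicit false
set_option linter.style.haveILetI false
set_option linter.unusedSectionVars false

/-!
# Blichfeldt's theorem, part 4: group-theoretic bookkeeping (Sylow subgroups inside subgroups of
index prime to `p`, commuting Sylow subgroups, relative Hall subgroups)
-/

namespace Cfsg.Agent.Lib.Helper7.Blich

open Subgroup

variable {G : Type*} [Group G] [Finite G]

/-- Two commuting abelian subgroups generate an abelian subgroup. -/
theorem abelian_sup (A B : Subgroup G) (hA : ∀ x ∈ A, ∀ y ∈ A, x * y = y * x)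
    (hB : ∀ x ∈ B, ∀ y ∈ B, x * y = y * x) (hAB : ∀ x ∈ A, ∀ y ∈ B, x * y = y * x) :
    ∀ x ∈ A ⊔ B, ∀ y ∈ A ⊔ B, x * y = y * x := by
  have h1 : ∀ a ∈ A, A ⊔ B ≤ centralizer ({a} : Set G) := by
    intro a ha
    apply sup_le
    · intro x hx
      rw [mem_centralizer_iff]
      intro h hh
      rw [Set.mem_singleton_iff.mp hh]
      exact hA a ha x hx
    · intro x hx
      rw [mem_centralizer_iff]
      intro h hh
      rw [Set.mem_singleton_iff.mp hh]
      exact hAB a ha x hx
  have h2 : ∀ b ∈ B, A ⊔ B ≤ centralizer ({b} : Set G) := by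
    intro b hb
    apply sup_le
    · intro x hx
      rw [mem_centralizer_iff]
      intro h hh
      rw [Set.mem_singleton_iff.mp hh]
      exact (hAB x hx b hb).symm
    · intro x hx
      rw [mem_centralizer_iff]
      intro h hh
      rw [Set.mem_singleton_iff.mp hh]
      exact hB b hb x hx
  have h3 : A ⊔ B ≤ centralizer ((A ⊔ B : Subgroup G) : Set G) := by
    apply sup_le
    · intro a ha
      rw [mem_centralizer_iff]
      intro h hh
      have := h1 a ha hh
      rw [mem_centralizer_iff] at this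
      exact (this a rfl).symm
    · intro b hb
      rw [mem_centralizer_iff]
      intro h hh
      have := h2 b hb hh
      rw [mem_centralizer_iff] at this
      exact (this b rfl).symm
  intro x hx y hy
  have := h3 hy
  rw [mem_centralizer_iff] at this
  exact this x hx

theorem card_mul_relIndex_of_le {A M : Subgroup G} (h : A ≤ M) :
    Nat.card A * A.relIndex M = Nat.card M := by
  rw [relIndex, ← Nat.card_congr (subgroupOfEquivOfLe h).toEquiv]
  exact (A.subgroupOf M).card_mul_index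

/-- The order of `P ⊔ Q` divides `|P| * |Q|` when `Q` is normal. -/
theorem card_sup_dvd_of_normal (P Q : Subgroup G) [Q.Normal] :
    Nat.card (P ⊔ Q : Subgroup G) ∣ Nat.card P * Nat.card Q := by
  rw [← card_mul_relIndex_of_le (le_sup_right : Q ≤ P ⊔ Q), relIndex_sup_right, mul_comm]
  exact Nat.mul_dvd_mul_right (relIndex_dvd_card Q P) _

/-- A subgroup of index prime to `p` contains a Sylow `p`-subgroup of the whole group. -/
theorem exists_sylow_le {p : ℕ} [Fact p.Prime] (H : Subgroup G) (h : ¬ p ∣ H.index) :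
    ∃ P : Sylow p G, (P : Subgroup G) ≤ H := by
  obtain ⟨P₀⟩ : Nonempty (Sylow p H) := inferInstance
  have h1 : IsPGroup p ((P₀ : Subgroup H).map H.subtype) := P₀.isPGroup'.map _
  have h2 : ¬ p ∣ ((P₀ : Subgroup H).map H.subtype).index := by
    rw [index_map_subtype]
    exact (Fact.out : p.Prime).not_dvd_mul P₀.not_dvd_index h
  exact ⟨h1.toSylow h2, map_subtype_le _⟩

theorem not_dvd_index_of_sylow_le {p : ℕ} [Fact p.Prime] (P : Sylow p G) (H : Subgroup G)
    (h : (P : Subgroup G) ≤ H) : ¬ p ∣ H.index :=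
  fun hd => P.not_dvd_index (dvd_trans hd (index_dvd_of_le h))

theorem mem_smul_sylow_iff {p : ℕ} [Fact p.Prime] (P : Sylow p G) (g x : G) :
    x ∈ (g • P : Sylow p G) ↔ g⁻¹ * x * g ∈ P := by
  show x ∈ ((g • P : Sylow p G) : Subgroup G) ↔ _
  rw [Sylow.coe_subgroup_smul, Subgroup.mem_pointwise_smul_iff_inv_smul_mem]
  simp [MulAut.smul_def]
  rfl

/-- Some Sylow `p`-subgroup commutes elementwise with some Sylow `q`-subgroup. -/
def KP (G : Type*) [Group G] (p q : ℕ) [Fact p.Prime] [Fact q.Prime] : Prop :=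
  ∃ (P : Sylow p G) (Q : Sylow q G), ∀ x ∈ P, ∀ y ∈ Q, x * y = y * x

theorem KP.symm {p q : ℕ} [Fact p.Prime] [Fact q.Prime] (h : KP G p q) : KP G q p := by
  obtain ⟨P, Q, hc⟩ := h
  exact ⟨Q, P, fun x hx y hy => (hc y hy x hx).symm⟩

theorem kp_of_abelian {p q : ℕ} [Fact p.Prime] [Fact q.Prime] (A : Subgroup G)
    (hA : ∀ x ∈ A, ∀ y ∈ A, x * y = y * x) (hp : ¬ p ∣ A.index) (hq : ¬ q ∣ A.index) :
    KP G p q := by
  obtain ⟨P, hP⟩ := exists_sylow_le (p := p) A hp
  obtain ⟨Q, hQ⟩ := exists_sylow_le (p := q) A hq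
  exact ⟨P, Q, fun x hx y hy => hA x (hP hx) y (hQ hy)⟩

/-- If some Sylow `p`- and Sylow `q`-subgroups commute, the centralizer of every Sylow
`p`-subgroup has index prime to `q`. -/
theorem kp_centralizer {p q : ℕ} [Fact p.Prime] [Fact q.Prime] (h : KP G p q) (P : Sylow p G) :
    ¬ q ∣ (centralizer (P : Set G)).index := by
  obtain ⟨P', Q', hc⟩ := h
  obtain ⟨g, hg⟩ := MulAction.exists_smul_eq G P' P
  apply not_dvd_index_of_sylow_le (g • Q')
  intro y hy
  have hy' : g⁻¹ * y * g ∈ Q' := (mem_smul_sylow_iff Q' g y).mp hy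
  rw [mem_centralizer_iff]
  intro x hx
  have hx0 : x ∈ (g • P' : Sylow p G) := by rw [hg]; exact hx
  have hx' : g⁻¹ * x * g ∈ P' := (mem_smul_sylow_iff P' g x).mp hx0
  have := hc _ hx' _ hy'
  have e1 : x * y = g * ((g⁻¹ * x * g) * (g⁻¹ * y * g)) * g⁻¹ := by group
  have e2 : y * x = g * ((g⁻¹ * y * g) * (g⁻¹ * x * g)) * g⁻¹ := by group
  rw [e1, e2, this]

/-- `A` is an abelian subgroup of `H`, of order divisible only by primes `> n + 1`, whose index
in `H` is divisible by no prime `> n + 1`. -/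
def HallIn (n : ℕ) (H A : Subgroup G) : Prop :=
  A ≤ H ∧ (∀ x ∈ A, ∀ y ∈ A, x * y = y * x) ∧
    (∀ r : ℕ, r.Prime → r ∣ Nat.card A → n + 1 < r) ∧
    ∀ r : ℕ, r.Prime → n + 1 < r → ¬ r ∣ A.relIndex H

/-- The statement of Blichfeldt's theorem for a subgroup. -/
def IsAbHall (n : ℕ) (A : Subgroup G) : Prop :=
  (∀ x ∈ A, ∀ y ∈ A, x * y = y * x) ∧ (∀ q : ℕ, q.Prime → q ∣ Nat.card A → n + 1 < q) ∧
    ∀ q : ℕ, q.Prime → q ∣ A.index → q ≤ n + 1

theorem hallIn_of_isAbHall {n : ℕ} (H : Subgroup G) (B : Subgroup H) (hB : IsAbHall n B) :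
    HallIn n H (B.map H.subtype) := by
  obtain ⟨hab, hcard, hidx⟩ := hB
  refine ⟨map_subtype_le _, ?_, ?_, ?_⟩
  · rintro x ⟨x', hx', rfl⟩ y ⟨y', hy', rfl⟩
    have := hab x' hx' y' hy'
    simp only [coe_subtype, ← coe_mul, this]
  · intro r hr hrd
    apply hcard r hr
    rwa [Nat.card_congr (B.equivMapOfInjective H.subtype H.subtype_injective).toEquiv.symm] at hrd
  · intro r hr hrn hrd
    have h1 : (B.map H.subtype).relIndex H = B.index := by
      rw [relIndex, subgroupOf, comap_map_eq_self_of_injective H.subtype_injective]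
    rw [h1] at hrd
    have := hidx r hr hrd
    omega

theorem isAbHall_of_hallIn_top {n : ℕ} (A : Subgroup G) (hA : HallIn n ⊤ A) : IsAbHall n A := by
  obtain ⟨-, hab, hcard, hidx⟩ := hA
  refine ⟨hab, hcard, ?_⟩
  intro q hq hqd
  by_contra hlt
  push Not at hlt
  apply hidx q hq hlt
  rwa [relIndex_top_right]

theorem HallIn.index_eq {n : ℕ} {H A : Subgroup G} (h : HallIn n H A) :
    A.relIndex H * H.index = A.index := relIndex_mul_index h.1

theorem HallIn.not_dvd_index {n : ℕ} {H A : Subgroup G} (h : HallIn n H A) {r : ℕ} (hr : r.Prime)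
    (hrn : n + 1 < r) (hH : ¬ r ∣ H.index) : ¬ r ∣ A.index := by
  rw [← h.index_eq]
  exact hr.not_dvd_mul (h.2.2.2 r hr hrn) hH

theorem HallIn.card_eq {n : ℕ} {H A : Subgroup G} (h : HallIn n H A) :
    Nat.card A * A.relIndex H = Nat.card H := card_mul_relIndex_of_le h.1

end Cfsg.Agent.Lib.Helper7.Blich
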