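import Mathlib
import Cfsg.Prelude.Def_Characters
import Cfsg.Agent.Lib.Helper7.Blich3
import Cfsg.Agent.Lib.Helper7.Blich4

set_option autoImplicit false
set_option linter.style.haveILetI false
set_option linter.unusedSectionVars false

/-!
# Blichfeldt's theorem, part 5: subgroups of a linear group of degree `n` whose orders involve
only primes `> n` are abelian; commuting Sylow subgroups via centralizers
-/

namespace Cfsg.Agent.Lib.Helper7.Blich

open Cfsg Subgroup Cfsg.Agent.Lib.helper3.Irr Cfsg.Agent.Lib.helper3.Central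

universe u

variable {G : Type u} [Group G] [Finite G]

/-- `G` has a faithful character of degree `n`. -/
def FaithDeg (G : Type u) [Group G] (n : ℕ) : Prop :=
  ∃ χ : G → ℂ, IsCharacter G χ ∧ (∀ g : G, χ g = χ 1 → g = 1) ∧ χ 1 = n

theorem FaithDeg.subgroup {n : ℕ} (h : FaithDeg G n) (H : Subgroup G) : FaithDeg H n := by
  obtain ⟨χ, hχ, hf, h1⟩ := h
  refine ⟨fun h => χ h, isCharacter_restrict hχ H, fun g hg => ?_, h1⟩
  apply Subtype.ext
  exact hf g hg

/-- A subgroup whose order is divisible only by primes `> n` is abelian. -/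
theorem comm_of_big {n : ℕ} (hG : FaithDeg G n) (H : Subgroup G)
    (hH : ∀ r : ℕ, r.Prime → r ∣ Nat.card H → n < r) : ∀ a ∈ H, ∀ b ∈ H, a * b = b * a := by
  classical
  obtain ⟨χ, hχ, hf, h1⟩ := hG
  letI := Fintype.ofFinite H
  have hψ : IsCharacter H (fun h : H => χ h) := isCharacter_restrict hχ H
  intro a ha b hb
  have hlin : ∀ ψ : IrrCharacter H, classInner (fun h : H => χ h) (ψ : H → ℂ) ≠ 0 →
      (ψ : H → ℂ) 1 = 1 := by
    intro ψ hne
    obtain ⟨d, hd, hdvd, hpos⟩ := irr_degree_dvd_card ψ.2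
    have hle : d ≤ n := constituent_degree_le hψ ψ hne (a := n) h1 hd
    rw [hd]
    by_cases hd1 : d = 1
    · rw [hd1]; simp
    · exfalso
      obtain ⟨r, hr, hrd⟩ := Nat.exists_prime_and_dvd hd1
      have h2 := hH r hr (dvd_trans hrd hdvd)
      have h3 := Nat.le_of_dvd hpos hrd
      omega
  have hc := apply_commutator_of_linear_constituents hψ hlin ⟨a, ha⟩ ⟨b, hb⟩
  have h3 : a * b * a⁻¹ * b⁻¹ = 1 := hf _ hc
  calc a * b = (a * b * a⁻¹ * b⁻¹) * (b * a) := by group
    _ = b * a := by rw [h3, one_mul]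

theorem sylow_comm {n : ℕ} (hG : FaithDeg G n) {p : ℕ} [Fact p.Prime] (hpn : n < p)
    (P : Sylow p G) : ∀ a ∈ P, ∀ b ∈ P, a * b = b * a :=
  comm_of_big hG P (fun r hr hrd => by
    obtain ⟨k, hk⟩ := IsPGroup.iff_card.mp P.isPGroup'
    rw [hk] at hrd
    have := (Nat.prime_dvd_prime_iff_eq hr Fact.out).mp (hr.dvd_of_dvd_pow hrd)
    omega)

/-- The centralizer of an element of large prime order `p` has index prime to `p`. -/
theorem not_dvd_index_centralizer_elem {n : ℕ} (hG : FaithDeg G n) {p : ℕ} [Fact p.Prime]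
    (hpn : n < p) (x : G) (hx : orderOf x = p) : ¬ p ∣ (centralizer ({x} : Set G)).index := by
  have h1 : IsPGroup p (zpowers x) := IsPGroup.of_card (n := 1) (by
    rw [Nat.card_zpowers, hx, pow_one])
  obtain ⟨P, hP⟩ := h1.exists_le_sylow
  have hxP : x ∈ P := hP (mem_zpowers x)
  apply not_dvd_index_of_sylow_le P
  intro a ha
  rw [mem_centralizer_iff]
  intro h hh
  rw [Set.mem_singleton_iff.mp hh]
  exact sylow_comm hG hpn P x hxP a ha

theorem kp_of_proper {n : ℕ} {p q : ℕ} [Fact p.Prime] [Fact q.Prime] (hpn : n + 1 < p)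
    (hqn : n + 1 < q) (H : Subgroup G) (hH : ∃ A, HallIn n H A) (hp : ¬ p ∣ H.index)
    (hq : ¬ q ∣ H.index) : KP G p q := by
  obtain ⟨A, hA⟩ := hH
  exact kp_of_abelian A hA.2.1 (hA.not_dvd_index Fact.out hpn hp)
    (hA.not_dvd_index Fact.out hqn hq)

end Cfsg.Agent.Lib.Helper7.Blich
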