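import Mathlib
import Cfsg.Prelude.Def_Characters
import Cfsg.Agent.Lib.Helper7.Blich5

set_option autoImplicit false
set_option linter.style.haveILetI false
set_option linter.unusedSectionVars false

/-!
# Blichfeldt's theorem, part 6: the case of a central element of large prime order, via the
transfer into an (abelian) Sylow subgroup and Frattini's argument
-/

namespace Cfsg.Agent.Lib.Helper7.Blich

open Cfsg Subgroup

universe u

variable {G : Type u} [Group G] [Finite G]

/-- The kernel of the transfer into an abelian Sylow `p`-subgroup: a normal subgroup of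
`p`-power index meeting the central `p`-elements trivially. -/
theorem exists_transfer_kernel {p : ℕ} [Fact p.Prime] (P : Sylow p G)
    (hPab : ∀ a ∈ P, ∀ b ∈ P, a * b = b * a) :
    ∃ K : Subgroup G, K.Normal ∧ (∃ c : ℕ, K.index = p ^ c) ∧
      ∀ w : G, w ∈ center G → w ∈ K → (∃ j : ℕ, orderOf w = p ^ j) → w = 1 := by
  classical
  have hp : p.Prime := Fact.out
  letI : CommGroup (P : Subgroup G) :=
    { (inferInstance : Group (P : Subgroup G)) with
      mul_comm := fun a b => Subtype.ext (hPab a a.2 b b.2) }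
  let V : G →* (P : Subgroup G) := MonoidHom.transfer (MonoidHom.id (P : Subgroup G))
  refine ⟨V.ker, inferInstance, ?_, ?_⟩
  · have h1 : V.ker.index = Nat.card V.range := index_ker V
    have h2 : Nat.card V.range ∣ Nat.card (P : Subgroup G) := card_subgroup_dvd_card _
    obtain ⟨k, hk⟩ := IsPGroup.iff_card.mp P.isPGroup'
    rw [hk] at h2
    obtain ⟨c, -, hc⟩ := (Nat.dvd_prime_pow hp).mp h2
    exact ⟨c, by rw [h1, hc]⟩
  · rintro w hwc hwK ⟨j, hj⟩
    have key : ∀ (k : ℕ) (g₀ : G), g₀⁻¹ * w ^ k * g₀ ∈ (P : Subgroup G) →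
        g₀⁻¹ * w ^ k * g₀ = w ^ k := by
      intro k g₀ _
      have hc : w ^ k ∈ center G := (center G).pow_mem hwc k
      rw [mem_center_iff] at hc
      rw [mul_assoc, ← hc g₀, inv_mul_cancel_left]
    have h1 := MonoidHom.transfer_eq_pow (MonoidHom.id (P : Subgroup G)) w key
    have h2 : V w = 1 := MonoidHom.mem_ker.mp hwK
    have h3 : w ^ (P : Subgroup G).index = 1 := by
      have := congrArg Subtype.val (h1.symm.trans h2)
      simpa using this
    have h4 : orderOf w ∣ (P : Subgroup G).index := orderOf_dvd_of_pow_eq_one h3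
    rw [hj] at h4
    cases j with
    | zero =>
      rw [pow_zero] at hj
      exact orderOf_eq_one_iff.mp hj
    | succ j =>
      exact absurd (dvd_trans (dvd_pow_self p (Nat.succ_ne_zero j)) h4) P.not_dvd_index

/-- **Central case.** If `G` has a central element of large prime order `p`, Sylow `p`- and
Sylow `q`-subgroups commute up to conjugacy (given Hall subgroups in all proper subgroups). -/
theorem kp_central {n : ℕ} (hG : FaithDeg G n)
    (IH : ∀ H : Subgroup G, H ≠ ⊤ → ∃ A, HallIn n H A)
    {p q : ℕ} [Fact p.Prime] [Fact q.Prime] (hpn : n + 1 < p) (hqn : n + 1 < q) (hpq : p ≠ q)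
    (z : G) (hz : z ∈ center G) (hzp : orderOf z = p) : KP G p q := by
  classical
  have hp : p.Prime := Fact.out
  have hq : q.Prime := Fact.out
  obtain ⟨P⟩ : Nonempty (Sylow p G) := inferInstance
  have hPab := sylow_comm hG (by omega) P
  obtain ⟨K, hKn, ⟨c, hKc⟩, hK3⟩ := exists_transfer_kernel P hPab
  haveI := hKn
  have hz1 : z ≠ 1 := by
    intro h
    rw [h, orderOf_one] at hzp
    exact hp.one_lt.ne hzp
  have hKtop : K ≠ ⊤ := by
    intro h
    exact hz1 (hK3 z hz (by rw [h]; exact mem_top z) ⟨1, by rw [hzp, pow_one]⟩)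
  obtain ⟨A₀, hA₀⟩ := IH K hKtop
  have hqK : ¬ q ∣ K.index := by
    rw [hKc]
    intro h
    exact hpq ((Nat.prime_dvd_prime_iff_eq hq hp).mp (hq.dvd_of_dvd_pow h)).symm
  have hqA : ¬ q ∣ A₀.index := hA₀.not_dvd_index hq hqn hqK
  by_cases hpA : p ∣ Nat.card A₀
  · -- an element of order `p` in `A₀`, necessarily non-central
    obtain ⟨z₀, hz₀⟩ := exists_prime_orderOf_dvd_card' p hpA
    have hz₀' : orderOf (z₀ : G) = p := by rw [orderOf_coe]; exact hz₀
    have hz₀c : (z₀ : G) ∉ center G := by
      intro hc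
      have := hK3 z₀ hc (hA₀.1 z₀.2) ⟨1, by rw [hz₀', pow_one]⟩
      rw [this, orderOf_one] at hz₀'
      exact hp.one_lt.ne hz₀'
    have hHtop : centralizer ({(z₀ : G)} : Set G) ≠ ⊤ := by
      rw [Ne, centralizer_eq_top_iff_subset]
      intro h
      exact hz₀c (h rfl)
    have hAle : A₀ ≤ centralizer ({(z₀ : G)} : Set G) := by
      intro a ha
      rw [mem_centralizer_iff]
      intro h hh
      rw [Set.mem_singleton_iff.mp hh]
      exact hA₀.2.1 z₀ z₀.2 a ha
    exact kp_of_proper hpn hqn _ (IH _ hHtop)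
      (not_dvd_index_centralizer_elem hG (by omega) z₀ hz₀')
      (fun h => hqA (dvd_trans h (index_dvd_of_le hAle)))
  · -- `K` is a `p'`-group
    have hpK : ¬ p ∣ Nat.card K := by
      rw [← hA₀.card_eq]
      exact hp.not_dvd_mul hpA (hA₀.2.2.2 p hp hpn)
    obtain ⟨Q₀⟩ : Nonempty (Sylow q K) := inferInstance
    have hfr := Sylow.normalizer_sup_eq_top Q₀
    set Q₁ : Subgroup G := (Q₀ : Subgroup K).map K.subtype with hQ₁
    have hQ₁idx : ¬ q ∣ Q₁.index := by
      rw [hQ₁, index_map_subtype]
      exact hq.not_dvd_mul Q₀.not_dvd_index hqK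
    have hQ₁p : IsPGroup q Q₁ := Q₀.isPGroup'.map _
    set N : Subgroup G := normalizer (Q₁ : Set G) with hN
    have hqN : ¬ q ∣ N.index := fun h => hQ₁idx (dvd_trans h (index_dvd_of_le le_normalizer))
    have hpN : ¬ p ∣ N.index := by
      -- `|N : N ∩ K| = |G : K| = p ^ c` is the full `p`-part of `|G|`
      have h1 : K.relIndex N = p ^ c := by
        rw [← relIndex_sup_right, hfr, relIndex_top_right, hKc]
      have h2 : p ^ c ∣ Nat.card N := by
        rw [← h1]
        exact relIndex_dvd_card K N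
      intro hd
      have h3 : p ^ c * p ∣ Nat.card N * N.index := Nat.mul_dvd_mul h2 hd
      rw [card_mul_index, ← K.card_mul_index, hKc, mul_comm (Nat.card K)] at h3
      exact hpK (Nat.dvd_of_mul_dvd_mul_left (pow_pos hp.pos c) h3)
    by_cases hNtop : N = ⊤
    · -- `Q₁` is normal: `P ⊔ Q₁` is a `{p, q}`-group, hence abelian
      haveI : Q₁.Normal := normalizer_eq_top_iff.mp hNtop
      have hM : ∀ r : ℕ, r.Prime → r ∣ Nat.card ((P : Subgroup G) ⊔ Q₁ : Subgroup G) → n < r := by
        intro r hr hrd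
        have h1 := dvd_trans hrd (card_sup_dvd_of_normal (P : Subgroup G) Q₁)
        obtain ⟨k, hk⟩ := IsPGroup.iff_card.mp P.isPGroup'
        obtain ⟨l, hl⟩ := IsPGroup.iff_card.mp hQ₁p
        rw [hk, hl] at h1
        rcases (Nat.Prime.dvd_mul hr).mp h1 with h | h
        · have := (Nat.prime_dvd_prime_iff_eq hr hp).mp (hr.dvd_of_dvd_pow h)
          omega
        · have := (Nat.prime_dvd_prime_iff_eq hr hq).mp (hr.dvd_of_dvd_pow h)
          omega
      have hab := comm_of_big hG _ hM
      exact ⟨P, hQ₁p.toSylow hQ₁idx, fun x hx y hy =>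
        hab x (le_sup_left (a := (P : Subgroup G)) hx) y (le_sup_right (b := Q₁) hy)⟩
    · exact kp_of_proper hpn hqn N (IH N hNtop) hpN hqN

end Cfsg.Agent.Lib.Helper7.Blich
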