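import Mathlib
import Cfsg.Prelude.Def_Characters
import Cfsg.Agent.Lib.Helper7.Blich6

set_option autoImplicit false
set_option linter.style.haveILetI false
set_option linter.unusedSectionVars false

/-!
# Blichfeldt's theorem, part 7: commuting Sylow subgroups for two large primes, and the
induction giving an abelian Hall subgroup for the primes `> n + 1`
-/

namespace Cfsg.Agent.Lib.Helper7.Blich

open Cfsg Subgroup

universe u

variable {G : Type u} [Group G] [Finite G]

/-- For two large primes dividing `|G|`, some Sylow subgroups commute (given Hall subgroups in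
all proper subgroups). -/
theorem kp_main {n : ℕ} (hG : FaithDeg G n)
    (IH : ∀ H : Subgroup G, H ≠ ⊤ → ∃ A, HallIn n H A)
    {p q : ℕ} [Fact p.Prime] [Fact q.Prime] (hpn : n + 1 < p) (hqn : n + 1 < q) (hpq : p ≠ q)
    (hpG : p ∣ Nat.card G) (hqG : q ∣ Nat.card G) : KP G p q := by
  classical
  have hp : p.Prime := Fact.out
  have hq : q.Prime := Fact.out
  obtain ⟨χ, hχ, hf, h1⟩ := id hG
  obtain ⟨x, y, hx, hy, hxy⟩ := exists_commute_of_big_primes hχ hf n h1 hp hq hpn hqn hpG hqG
  by_cases hxc : x ∈ center G
  · exact kp_central hG IH hpn hqn hpq x hxc hx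
  · have hH₁ : centralizer ({x} : Set G) ≠ ⊤ := by
      rw [Ne, centralizer_eq_top_iff_subset]
      intro h
      exact hxc (h rfl)
    obtain ⟨A₁, hA₁⟩ := IH _ hH₁
    have hpA₁ : ¬ p ∣ A₁.index :=
      hA₁.not_dvd_index hp hpn (not_dvd_index_centralizer_elem hG (by omega) x hx)
    have hqA₁ : q ∣ Nat.card A₁ := by
      have hyH : y ∈ centralizer ({x} : Set G) := by
        rw [mem_centralizer_iff]
        intro h hh
        rw [Set.mem_singleton_iff.mp hh]
        exact hxy
      have h2 : q ∣ Nat.card (centralizer ({x} : Set G)) := by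
        have := orderOf_dvd_natCard (⟨y, hyH⟩ : centralizer ({x} : Set G))
        rwa [← orderOf_coe, hy] at this
      rw [← hA₁.card_eq] at h2
      exact ((Nat.Prime.dvd_mul hq).mp h2).resolve_right (hA₁.2.2.2 q hq hqn)
    obtain ⟨y₁, hy₁⟩ := exists_prime_orderOf_dvd_card' q hqA₁
    have hy₁' : orderOf (y₁ : G) = q := by rw [orderOf_coe]; exact hy₁
    by_cases hyc : (y₁ : G) ∈ center G
    · exact (kp_central hG IH hqn hpn hpq.symm y₁ hyc hy₁').symm
    · have hH₂ : centralizer ({(y₁ : G)} : Set G) ≠ ⊤ := by
        rw [Ne, centralizer_eq_top_iff_subset]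
        intro h
        exact hyc (h rfl)
      have hAle : A₁ ≤ centralizer ({(y₁ : G)} : Set G) := by
        intro a ha
        rw [mem_centralizer_iff]
        intro h hh
        rw [Set.mem_singleton_iff.mp hh]
        exact hA₁.2.1 y₁ y₁.2 a ha
      exact kp_of_proper hpn hqn _ (IH _ hH₂)
        (fun h => hpA₁ (dvd_trans h (index_dvd_of_le hAle)))
        (not_dvd_index_centralizer_elem hG (by omega) y₁ hy₁')

/-- **Blichfeldt's theorem.** A finite group with a faithful character of degree `n` has an
abelian Hall `π`-subgroup for `π` the set of primes `> n + 1`. -/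
theorem exists_isAbHall (n : ℕ) : ∀ (m : ℕ) (G : Type u) [Group G] [Finite G],
    Nat.card G = m → FaithDeg G n → ∃ A : Subgroup G, IsAbHall n A := by
  intro m
  induction m using Nat.strong_induction_on with
  | _ m ih =>
    intro G _ _ hm hG
    classical
    have IH : ∀ H : Subgroup G, H ≠ ⊤ → ∃ A, HallIn n H A := by
      intro H hH
      have hlt : Nat.card H < m := by
        rw [← hm]
        apply lt_of_le_of_ne (card_le_card_group H)
        intro h
        exact hH (eq_top_of_card_eq H h)
      obtain ⟨B, hB⟩ := ih (Nat.card H) hlt H rfl (hG.subgroup H)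
      exact ⟨_, hallIn_of_isAbHall H B hB⟩
    by_cases hbig : ∃ p : ℕ, p.Prime ∧ n + 1 < p ∧ p ∣ Nat.card G
    · obtain ⟨p, hp, hpn, hpG⟩ := hbig
      haveI : Fact p.Prime := ⟨hp⟩
      obtain ⟨P⟩ : Nonempty (Sylow p G) := inferInstance
      have hPab := sylow_comm hG (by omega) P
      obtain ⟨k, hk⟩ := IsPGroup.iff_card.mp P.isPGroup'
      by_cases hPc : (P : Subgroup G) ≤ center G
      · -- the Sylow subgroup is central: split it off by Burnside's transfer theorem
        have hP : normalizer (P : Set G) ≤ centralizer (P : Set G) := by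
          intro g _
          rw [mem_centralizer_iff]
          intro h hh
          exact ((mem_center_iff.mp (hPc hh)) g).symm
        have hcompl := MonoidHom.ker_transferSylow_isComplement' P hP
        set K := (MonoidHom.transferSylow P hP).ker with hK
        have hKidx : K.index = Nat.card (P : Subgroup G) := hcompl.symm.index_eq_card
        have hPne : (P : Subgroup G) ≠ ⊥ := P.ne_bot_of_dvd_card hpG
        have hKtop : K ≠ ⊤ := by
          intro h
          rw [h, index_top] at hKidx
          exact hPne (eq_bot_of_card_eq _ hKidx.symm)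
        obtain ⟨A₀, hA₀⟩ := IH K hKtop
        haveI : (P : Subgroup G).Normal := by
          constructor
          intro x hx g
          have := mem_center_iff.mp (hPc hx) g
          rw [this, mul_inv_cancel_right]
          exact hx
        refine ⟨(A₀ ⊔ (P : Subgroup G) : Subgroup G), ?_, ?_, ?_⟩
        · exact abelian_sup A₀ P hA₀.2.1 hPab (fun x _ y hy => mem_center_iff.mp (hPc hy) x)
        · intro r hr hrd
          have h1 := dvd_trans hrd (card_sup_dvd_of_normal A₀ (P : Subgroup G))
          rcases (Nat.Prime.dvd_mul hr).mp h1 with h | h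
          · exact hA₀.2.2.1 r hr h
          · rw [hk] at h
            have := (Nat.prime_dvd_prime_iff_eq hr hp).mp (hr.dvd_of_dvd_pow h)
            omega
        · intro r hr hrd
          by_contra hlt
          push Not at hlt
          by_cases hrp : r = p
          · subst hrp
            exact P.not_dvd_index (dvd_trans hrd (index_dvd_of_le le_sup_right))
          · have h1 : r ∣ A₀.index := dvd_trans hrd (index_dvd_of_le le_sup_left)
            rw [← hA₀.index_eq, hKidx, hk] at h1
            rcases (Nat.Prime.dvd_mul hr).mp h1 with h | h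
            · exact hA₀.2.2.2 r hr hlt h
            · exact hrp ((Nat.prime_dvd_prime_iff_eq hr hp).mp (hr.dvd_of_dvd_pow h))
      · -- the Sylow subgroup is not central: use its centralizer
        have hHtop : centralizer ((P : Subgroup G) : Set G) ≠ ⊤ := by
          rw [Ne, centralizer_eq_top_iff_subset]
          exact hPc
        obtain ⟨A, hA⟩ := IH _ hHtop
        refine ⟨A, hA.2.1, hA.2.2.1, ?_⟩
        intro r hr hrd
        by_contra hlt
        push Not at hlt
        haveI : Fact r.Prime := ⟨hr⟩
        have hrH : r ∣ (centralizer ((P : Subgroup G) : Set G)).index := by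
          rw [← hA.index_eq] at hrd
          exact ((Nat.Prime.dvd_mul hr).mp hrd).resolve_left (hA.2.2.2 r hr hlt)
        by_cases hrp : r = p
        · have hPH : (P : Subgroup G) ≤ centralizer ((P : Subgroup G) : Set G) := by
            intro a ha
            rw [mem_centralizer_iff]
            intro h hh
            exact hPab h hh a ha
          rw [hrp] at hrH
          exact not_dvd_index_of_sylow_le P _ hPH hrH
        · have hrG : r ∣ Nat.card G := dvd_trans hrH (index_dvd_card _)
          have hkp := kp_main hG IH hpn hlt (Ne.symm hrp) hpG hrG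
          exact kp_centralizer hkp P hrH
    · -- no large prime divides the order: the trivial subgroup works
      push Not at hbig
      refine ⟨⊥, ?_, ?_, ?_⟩
      · intro x hx y hy
        rw [mem_bot.mp hx, mem_bot.mp hy]
      · intro q hq hqd
        rw [card_bot] at hqd
        exact absurd (Nat.dvd_one.mp hqd) hq.one_lt.ne'
      · intro q hq hqd
        rw [index_bot] at hqd
        by_contra hlt
        push Not at hlt
        exact hbig q hq hlt hqd

/-- Blichfeldt's theorem in the form of statement S4465. -/
theorem blichfeldt {G : Type u} [Group G] [Finite G] (χ : G → ℂ) (hχ : IsCharacter G χ)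
    (hfaith : ∀ g : G, χ g = χ 1 → g = 1) (n : ℕ) (hn : χ 1 = n) :
    ∃ A : Subgroup G, (∀ x ∈ A, ∀ y ∈ A, x * y = y * x) ∧
      (∀ q : ℕ, q.Prime → q ∣ Nat.card A → n + 1 < q) ∧
      ∀ q : ℕ, q.Prime → q ∣ A.index → q ≤ n + 1 :=
  exists_isAbHall n (Nat.card G) G rfl ⟨χ, hχ, hfaith, hn⟩

end Cfsg.Agent.Lib.Helper7.Blich
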