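import Mathlib
import Cfsg.Prelude.Def_Characters
import Cfsg.Agent.Lib.Helper7.BrP4
import Cfsg.Agent.Lib.Helper7.BSWc4

set_option autoImplicit false
set_option linter.style.haveILetI false
set_option linter.unusedSectionVars false
set_option linter.unusedVariables false

/-!
# The Frobenius case `|N(P)| = p (p - 1)`, `C(P) = P`, `|P| = p`: one induced function `Ξ`
(helper7, for helper8's S0978 character branch)
-/

namespace Cfsg.Agent.Lib.Helper7.BrF

open Cfsg Cfsg.Agent.Lib.helper3.Irr Cfsg.Agent.Lib.helper3.CharBasic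
open Cfsg.Agent.Lib.helper3.IndFun Cfsg.Agent.Lib.helper3.CycTI Cfsg.Agent.Lib.Helper7.BrP
open Cfsg.Agent.Lib.Helper7.BSWc
open scoped ComplexConjugate

variable {G : Type*} [Group G] [Fintype G] (P : Subgroup G)

section prime

variable {p : ℕ} (hp : p.Prime) (hP : Nat.card P = p)
  (hC : ∀ x ∈ P, x ≠ 1 → ∀ g : G, g * x = x * g → g ∈ P)
  (hN : Nat.card (Subgroup.normalizer (P : Set G)) = p * (p - 1))

include hp hP hC hN

/-- all non-trivial linear characters of `P` are conjugate under the normalizer -/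
theorem all_conj (a b : {ω : P →* ℂˣ // ω ≠ 1}) :
    ∃ n : Subgroup.normalizer (P : Set G), b.1 = cj P n a.1 := by
  classical
  haveI := BrP.finite_dual P hp hP
  letI : Fintype {ω : P →* ℂˣ // ω ≠ 1} := Fintype.ofFinite _
  have h1 := card_orbit P hp hP hC (p - 1) hN a
  have h2 := card_dual_ne_one P hp hP
  rw [Nat.card_eq_fintype_card, Fintype.card_subtype] at h1
  rw [Nat.card_eq_fintype_card, ← Finset.card_univ] at h2
  have h3 : Finset.univ.filter (fun b : {ω : P →* ℂˣ // ω ≠ 1} => (orbSetoid P).r b a)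
      = Finset.univ :=
    Finset.eq_of_subset_of_card_le (Finset.filter_subset _ _) (by rw [h1, h2])
  have h4 : b ∈ Finset.univ.filter (fun b : {ω : P →* ℂˣ // ω ≠ 1} => (orbSetoid P).r b a) := by
    rw [h3]
    exact Finset.mem_univ _
  exact (Finset.mem_filter.mp h4).2

theorem exists_ne_one_dual : ∃ ω : P →* ℂˣ, ω ≠ 1 := by
  have h2 := card_dual_ne_one P hp hP
  have : 0 < Nat.card {ω : P →* ℂˣ // ω ≠ 1} := by
    rw [h2]
    have := hp.two_le
    omega
  obtain ⟨a⟩ := (Nat.card_pos_iff.mp this).1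
  exact ⟨a.1, a.2⟩

theorem zc_eq {ω ω' : P →* ℂˣ} (hω : ω ≠ 1) (hω' : ω' ≠ 1) : zc P ω = zc P ω' := by
  classical
  letI : Fintype P := Fintype.ofFinite P
  funext χ
  obtain ⟨n, hn⟩ := all_conj P hp hP hC hN ⟨ω', hω'⟩ ⟨ω, hω⟩
  have hcf : IsClassFunction G (χ : G → ℂ) :=
    isClassFunction_of_isCharacter (isCharacter_of_isIrrCharacter χ.2)
  have h1 := classInner_Xi_irr P ω χ
  have h2 := classInner_Xi_irr P ω' χ
  have h3 : ω = cj P n ω' := hn
  have h4 := classInner_Xi_cj P n ω' _ hcf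
  rw [← h3, h1, h2] at h4
  exact_mod_cast h4

theorem frob_basic :
    ∃ z : IrrCharacter G → ℤ, z (trivIrr G) = 1 ∧ ∑ ψ : IrrCharacter G, z ψ ^ 2 = (p : ℤ) ∧
      (∀ ψ : IrrCharacter G, ∀ x ∈ P, x ≠ 1 → (ψ : G → ℂ) x = z ψ) ∧
      (∀ (ψ : IrrCharacter G) (d : ℕ), (ψ : G → ℂ) 1 = d → (p : ℤ) ∣ (d : ℤ) - z ψ) ∧
      (∀ g : G, (g = 1 ∨ ∀ h : G, h⁻¹ * g * h ∉ P) →
        ∑ ψ : IrrCharacter G, (z ψ : ℂ) * (ψ : G → ℂ) g = 0) := by
  classical
  letI : Fintype P := Fintype.ofFinite P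
  haveI := BrP.finite_dual P hp hP
  letI : Fintype (P →* ℂˣ) := Fintype.ofFinite _
  obtain ⟨ω₀, hω₀⟩ := exists_ne_one_dual P hp hP hC hN
  have hab : ∀ a ∈ P, ∀ b ∈ P, a * b = b * a := fun a ha b hb => comm_of_prime P hp hP ha hb
  refine ⟨zc P ω₀, ?_, ?_, ?_, ?_, ?_⟩
  · have h1 := classInner_Xi_irr P ω₀ (trivIrr G)
    have h3 : ((trivIrr G : IrrCharacter G) : G → ℂ) = fun _ => 1 := rfl
    rw [h3, classInner_Xi_one P hω₀] at h1
    exact_mod_cast h1.symm
  · have h1 := classInner_Xi_Xi P ω₀ ω₀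
    have h2 := (gram_eq P hp hP hC (p - 1) hN hω₀ hω₀).1 1 (cj_one_left P _).symm
    unfold Xi at h1
    rw [h2] at h1
    have hp1 : 1 ≤ p := hp.one_lt.le
    have h3 : (((p : ℤ)) : ℂ) = ((∑ ψ : IrrCharacter G, zc P ω₀ ψ * zc P ω₀ ψ : ℤ) : ℂ) := by
      rw [← h1]
      push_cast [hp1]
      ring
    have h4 := Int.cast_injective h3
    rw [h4]
    apply Finset.sum_congr rfl
    intro ψ _
    ring
  · intro ψ x hx hx1
    have h1 := restrict_formula hab ψ (⟨x, hx⟩ : P) (fun h => hx1 (congrArg Subtype.val h))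
    have h2 : ∀ ω : P →* ℂˣ, (zc P ω ψ : ℂ) * linFun ω (⟨x, hx⟩ : P)
        = (zc P ω₀ ψ : ℂ) * linFun ω (⟨x, hx⟩ : P)
          - (if ω = 1 then (zc P ω₀ ψ : ℂ) else 0) := by
      intro ω
      by_cases hω : ω = 1
      · rw [if_pos hω, hω, zc_one, linFun_one_eq]
        simp
      · rw [if_neg hω, zc_eq P hp hP hC hN hω hω₀, sub_zero]
    rw [Finset.sum_congr rfl (fun ω _ => h2 ω), Finset.sum_sub_distrib, ← Finset.mul_sum,
      sum_dual_apply hab, if_neg (fun h => hx1 (congrArg Subtype.val h)), mul_zero,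
      Finset.sum_ite_eq' Finset.univ (1 : P →* ℂˣ), if_pos (Finset.mem_univ _), zero_sub,
      neg_neg] at h1
    exact h1
  · intro ψ d hd
    apply degree_congr P hp hP (ψ : G → ℂ) (isCharacter_of_isIrrCharacter ψ.2) (zc P ω₀ ψ) _ d hd
    intro ω hω
    rw [classInner_Xi_irr, zc_eq P hp hP hC hN hω hω₀]
  · intro g hg
    rw [← Xi_apply]
    rcases hg with rfl | hg
    · exact Xi_apply_one P ω₀
    · unfold Xi
      rw [indFun_apply]
      have : ∀ y : G, extendByZero P (linFun 1 - linFun ω₀) (y⁻¹ * g * y) = 0 := fun y =>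
        extendByZero_not_mem P _ (hg y)
      simp [this]

end prime

end Cfsg.Agent.Lib.Helper7.BrF
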