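import Mathlib
import Cfsg.Prelude.Def_Characters
import Cfsg.Agent.Lib.Helper7.BrF1

set_option autoImplicit false
set_option linter.style.haveILetI false
set_option linter.unusedSectionVars false
set_option linter.unusedVariables false

/-!
# The dihedral bound `p |ψ(u)| ≤ ψ(1) + (p - 1) z` for an involution `u` normalizing `P`
(helper7, for helper8's S0978 character branch)
-/

namespace Cfsg.Agent.Lib.Helper7.BrF

open Cfsg Cfsg.Agent.Lib.helper3.Irr Cfsg.Agent.Lib.helper3.CharBasic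
open Cfsg.Agent.Lib.Helper7.BrP
open scoped ComplexConjugate

/-- trace of a scalar multiple of an idempotent -/
theorem trace_of_sq {V : Type*} [AddCommGroup V] [Module ℂ V] [FiniteDimensional ℂ V]
    (Q : V →ₗ[ℂ] V) (c : ℕ) (hc : 0 < c) (hQ : Q * Q = (c : ℂ) • Q) :
    ∃ k : ℕ, LinearMap.trace ℂ V Q = (c : ℂ) * k := by
  have hc0 : (c : ℂ) ≠ 0 := by exact_mod_cast hc.ne'
  set R : V →ₗ[ℂ] V := ((c : ℂ)⁻¹) • Q with hR
  have hRi : IsIdempotentElem R := by
    unfold IsIdempotentElem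
    rw [hR, smul_mul_smul_comm, hQ, smul_smul, mul_assoc, inv_mul_cancel₀ hc0, mul_one]
  have h1 := (LinearMap.IsIdempotentElem.isProj_range R hRi).trace
  refine ⟨Module.finrank ℂ (LinearMap.range R), ?_⟩
  have h2 : Q = (c : ℂ) • R := by rw [hR, smul_smul, mul_inv_cancel₀ hc0, one_smul]
  rw [h2, map_smul, h1, smul_eq_mul]

variable {G : Type*} [Group G] [Fintype G] (P : Subgroup G)

section prime

variable {p : ℕ} (hp : p.Prime) (hP : Nat.card P = p)
  (hC : ∀ x ∈ P, x ≠ 1 → ∀ g : G, g * x = x * g → g ∈ P)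

include hp hP hC

/-- an involution normalizing `P` inverts it -/
theorem inverts (hp2 : p ≠ 2) {u : G} (hu : u ∈ Subgroup.normalizer (P : Set G))
    (hu2 : orderOf u = 2) {x : G} (hx : x ∈ P) : u * x * u⁻¹ = x⁻¹ := by
  have huu : u * u = 1 := by
    have := pow_orderOf_eq_one u
    rwa [hu2, pow_two] at this
  have huinv : u⁻¹ = u := inv_eq_of_mul_eq_one_right huu
  have hy : u * x * u⁻¹ ∈ P := (Subgroup.mem_normalizer_iff.mp hu x).mp hx
  set y := u * x * u⁻¹ with hydef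
  have hw : x * y ∈ P := P.mul_mem hx hy
  have hcomm : u * (x * y) = (x * y) * u := by
    have h1 : u * (x * y) * u⁻¹ = y * x := by
      rw [hydef, huinv]
      calc u * (x * (u * x * u)) * u = (u * x * u) * x * (u * u) := by simp only [mul_assoc]
        _ = u * x * u * x := by rw [huu, mul_one]
    rw [comm_of_prime P hp hP hy hx] at h1
    calc u * (x * y) = u * (x * y) * u⁻¹ * u := by group
      _ = x * y * u := by rw [h1]
  by_cases hw1 : x * y = 1
  · exact (eq_inv_of_mul_eq_one_right hw1)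
  · exfalso
    have huP := hC (x * y) hw hw1 u hcomm
    have h1 : orderOf (⟨u, huP⟩ : P) ∣ Nat.card P := orderOf_dvd_natCard _
    have h2 : orderOf (⟨u, huP⟩ : P) = 2 := by
      rw [← hu2]
      exact Subgroup.orderOf_mk u huP
    rw [h2, hP] at h1
    exact hp2 ((Nat.prime_dvd_prime_iff_eq Nat.prime_two hp).mp h1).symm

/-- all elements `x u`, `x ∈ P`, are conjugate to `u` -/
theorem conj_of_mul (hp2 : p ≠ 2) {u : G} (hu : u ∈ Subgroup.normalizer (P : Set G))
    (hu2 : orderOf u = 2) {x : G} (hx : x ∈ P) : ∃ y : G, y * u * y⁻¹ = x * u := by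
  have hodd : Odd p := hp.odd_of_ne_two hp2
  obtain ⟨m, hm⟩ := hodd
  refine ⟨x ^ (m + 1), ?_⟩
  have hy : x ^ (m + 1) ∈ P := P.pow_mem hx _
  have h1 := inverts P hp hP hC hp2 hu hu2 (P.inv_mem hy)
  rw [inv_inv] at h1
  have hxp : x ^ p = 1 := by
    have : (⟨x, hx⟩ : P) ^ p = 1 := by
      rw [← hP]
      exact pow_card_eq_one'
    have := congrArg Subtype.val this
    simpa using this
  have h2 : x ^ (m + 1) * x ^ (m + 1) = x := by
    rw [← pow_add]
    have : m + 1 + (m + 1) = p + 1 := by omega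
    rw [this, pow_succ, hxp, one_mul]
  calc x ^ (m + 1) * u * (x ^ (m + 1))⁻¹
      = x ^ (m + 1) * (u * (x ^ (m + 1))⁻¹ * u⁻¹) * u := by group
    _ = x * u := by rw [h1, h2]

theorem dihedral_bound (hp2 : p ≠ 2) {u : G} (hu : u ∈ Subgroup.normalizer (P : Set G))
    (hu2 : orderOf u = 2) (ψ : G → ℂ) (hψ : IsCharacter G ψ) (z : ℤ)
    (hz : ∀ x ∈ P, x ≠ 1 → ψ x = z) (f : ℕ) (v : ℤ) (hf : ψ 1 = f) (hv : ψ u = v) :
    (p : ℤ) * |v| ≤ f + ((p : ℤ) - 1) * z := by
  classical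
  letI : Fintype P := Fintype.ofFinite P
  obtain ⟨n, ρ, rfl⟩ := hψ
  have hcf : ∀ g h : G, ρ.character (h * g * h⁻¹) = ρ.character g := by
    intro g h
    rw [Representation.char_mul_comm, inv_mul_cancel_left]
  have huu : u * u = 1 := by
    have := pow_orderOf_eq_one u
    rwa [hu2, pow_two] at this
  have huinv : u⁻¹ = u := inv_eq_of_mul_eq_one_right huu
  set A : (Fin n → ℂ) →ₗ[ℂ] (Fin n → ℂ) := ∑ x : P, ρ (x : G) with hA
  set T : (Fin n → ℂ) →ₗ[ℂ] (Fin n → ℂ) := ρ u with hT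
  have hTT : T * T = 1 := by rw [hT, ← map_mul, huu, map_one]
  have hAA : A * A = (p : ℂ) • A := by
    rw [hA, Finset.sum_mul]
    have : ∀ x : P, ρ (x : G) * ∑ y : P, ρ (y : G) = ∑ y : P, ρ (y : G) := by
      intro x
      rw [Finset.mul_sum]
      apply Fintype.sum_equiv (Equiv.mulLeft x)
      intro y
      rw [Equiv.coe_mulLeft, Subgroup.coe_mul, map_mul]
    rw [Finset.sum_congr rfl (fun x _ => this x), Finset.sum_const, Finset.card_univ,
      ← Nat.card_eq_fintype_card, hP, ← Nat.cast_smul_eq_nsmul ℂ]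
  have hTA : T * A = A * T := by
    rw [hA, Finset.mul_sum, Finset.sum_mul]
    apply Fintype.sum_equiv (Equiv.inv P)
    intro x
    rw [hT, ← map_mul, ← map_mul, Equiv.inv_apply, Subgroup.coe_inv]
    congr 1
    have := inverts P hp hP hC hp2 hu hu2 x.2
    rw [← this]
    group
  have htrA : LinearMap.trace ℂ _ A = (f : ℂ) + ((p : ℂ) - 1) * z := by
    rw [hA, map_sum, ← Finset.add_sum_erase Finset.univ _ (Finset.mem_univ (1 : P))]
    have h1 : LinearMap.trace ℂ _ (ρ ((1 : P) : G)) = f := by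
      rw [← hf]
      rfl
    have h2 : ∀ x ∈ Finset.univ.erase (1 : P), LinearMap.trace ℂ _ (ρ (x : G)) = (z : ℂ) := by
      intro x hx
      have hx1 : (x : G) ≠ 1 := fun h => (Finset.ne_of_mem_erase hx) (Subtype.ext h)
      exact hz x x.2 hx1
    rw [h1, Finset.sum_congr rfl h2, Finset.sum_const, Finset.card_erase_of_mem (Finset.mem_univ _),
      Finset.card_univ, ← Nat.card_eq_fintype_card, hP, nsmul_eq_mul]
    have hp1 : 1 ≤ p := hp.one_lt.le
    push_cast [hp1]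
    ring
  have htrAT : LinearMap.trace ℂ _ (A * T) = (p : ℂ) * v := by
    rw [hA, Finset.sum_mul, map_sum]
    have h2 : ∀ x ∈ (Finset.univ : Finset P), LinearMap.trace ℂ _ (ρ (x : G) * T) = (v : ℂ) := by
      intro x _
      obtain ⟨y, hy⟩ := conj_of_mul P hp hP hC hp2 hu hu2 x.2
      rw [hT, ← map_mul, ← hy, ← hv]
      exact hcf u y
    rw [Finset.sum_congr rfl h2, Finset.sum_const, Finset.card_univ, ← Nat.card_eq_fintype_card,
      hP, nsmul_eq_mul]
  have key : ∀ s : ℤ, s * s = 1 → 0 ≤ (f : ℤ) + ((p : ℤ) - 1) * z + s * ((p : ℤ) * v) := by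
    intro s hs
    set Q : (Fin n → ℂ) →ₗ[ℂ] (Fin n → ℂ) := A * (1 + (s : ℂ) • T) with hQ
    have hsc : (s : ℂ) * (s : ℂ) = 1 := by exact_mod_cast hs
    have hQQ : Q * Q = ((2 * p : ℕ) : ℂ) • Q := by
      have e1 : (1 + (s : ℂ) • T) * A = A * (1 + (s : ℂ) • T) := by
        rw [add_mul, mul_add, one_mul, mul_one, smul_mul_assoc, mul_smul_comm, hTA]
      have e2 : (1 + (s : ℂ) • T) * (1 + (s : ℂ) • T) = (2 : ℂ) • (1 + (s : ℂ) • T) := by
        rw [add_mul, mul_add, mul_add, one_mul, mul_one, one_mul, smul_mul_smul_comm, hTT, hsc,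
          one_smul, two_smul]
        abel
      calc Q * Q = A * ((1 + (s : ℂ) • T) * A) * (1 + (s : ℂ) • T) := by
            rw [hQ]; simp only [mul_assoc]
        _ = (A * A) * ((1 + (s : ℂ) • T) * (1 + (s : ℂ) • T)) := by
            rw [e1]; simp only [mul_assoc]
        _ = ((2 * p : ℕ) : ℂ) • Q := by
            rw [hAA, e2, hQ, smul_mul_smul_comm]
            congr 1
            push_cast
            ring
    obtain ⟨k, hk⟩ := trace_of_sq Q (2 * p) (by have := hp.pos; omega) hQQ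
    have htrQ : LinearMap.trace ℂ _ Q
        = (f : ℂ) + ((p : ℂ) - 1) * z + (s : ℂ) * ((p : ℂ) * v) := by
      rw [hQ, mul_add, mul_one, mul_smul_comm, map_add, map_smul, htrA, htrAT, smul_eq_mul]
    rw [htrQ] at hk
    have hk' : (f : ℤ) + ((p : ℤ) - 1) * z + s * ((p : ℤ) * v) = ((2 * p : ℕ) : ℤ) * k := by
      have : (((f : ℤ) + ((p : ℤ) - 1) * z + s * ((p : ℤ) * v) : ℤ) : ℂ)
          = ((((2 * p : ℕ) : ℤ) * k : ℤ) : ℂ) := by
        push_cast
        rw [hk]
        push_cast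
        ring
      exact Int.cast_injective this
    rw [hk']
    positivity
  have k1 := key 1 (by norm_num)
  have k2 := key (-1) (by norm_num)
  have hp0 : (0 : ℤ) ≤ p := by positivity
  rcases abs_cases v with ⟨h, _⟩ | ⟨h, _⟩
  · rw [h]
    linarith
  · rw [h]
    linarith

/-- **The Frobenius case** `|N(P)| = p (p - 1)`: one integer vector `z` carrying the values on
`P \ 1`, the degree congruences, the vanishing of `Ξ = ∑ z ψ` off the conjugates of `P \ 1`, and
the dihedral bound for involutions normalizing `P`. -/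
theorem frob_full (hN : Nat.card (Subgroup.normalizer (P : Set G)) = p * (p - 1)) :
    ∃ z : IrrCharacter G → ℤ, z (trivIrr G) = 1 ∧ ∑ ψ : IrrCharacter G, z ψ ^ 2 = (p : ℤ) ∧
      (∀ ψ : IrrCharacter G, ∀ x ∈ P, x ≠ 1 → (ψ : G → ℂ) x = z ψ) ∧
      (∀ (ψ : IrrCharacter G) (d : ℕ), (ψ : G → ℂ) 1 = d → (p : ℤ) ∣ (d : ℤ) - z ψ) ∧
      (∀ g : G, (g = 1 ∨ ∀ h : G, h⁻¹ * g * h ∉ P) →
        ∑ ψ : IrrCharacter G, (z ψ : ℂ) * (ψ : G → ℂ) g = 0) ∧
      (∀ u ∈ Subgroup.normalizer (P : Set G), orderOf u = 2 → p ≠ 2 →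
        ∀ (ψ : IrrCharacter G) (f : ℕ) (v : ℤ), (ψ : G → ℂ) 1 = f → (ψ : G → ℂ) u = v →
          (p : ℤ) * |v| ≤ f + ((p : ℤ) - 1) * z ψ) := by
  obtain ⟨z, h1, h2, h3, h4, h5⟩ := frob_basic P hp hP hC hN
  refine ⟨z, h1, h2, h3, h4, h5, ?_⟩
  intro u hu hu2 hp2 ψ f v hf hv
  exact dihedral_bound P hp hP hC hp2 hu hu2 (ψ : G → ℂ) (isCharacter_of_isIrrCharacter ψ.2)
    (z ψ) (h3 ψ) f v hf hv

end prime

end Cfsg.Agent.Lib.Helper7.BrF
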