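import Mathlib
import Cfsg.Prelude.Def_Characters
import Cfsg.Agent.S0840
import Cfsg.Agent.Lib.Helper5.SylCnt
import Cfsg.Agent.Lib.Helper7.BrF2

set_option autoImplicit false
set_option linter.style.haveILetI false
set_option linter.unusedSectionVars false
set_option linter.unusedVariables false

/-!
# Pairs of conjugates of an involution `u ∈ N(P)` with product in `P \ 1`, and the resulting
class equation (helper7, for helper8's S0978 character branch)
-/

namespace Cfsg.Agent.Lib.Helper7.BrF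

open Cfsg Cfsg.Agent.Lib.helper3.Irr Cfsg.Agent.Lib.helper3.CharBasic
open Cfsg.Agent.Lib.Helper7.BrP
open scoped ComplexConjugate

variable {G : Type*} [Group G] [Fintype G] (P : Subgroup G)

theorem sq_eq_one_of_isConj {u a : G} (hu2 : orderOf u = 2) (h : IsConj u a) : a * a = 1 := by
  have huu : u * u = 1 := by
    have := pow_orderOf_eq_one u
    rwa [hu2, pow_two] at this
  obtain ⟨g, hg⟩ := isConj_iff.1 h
  rw [← hg]
  calc g * u * g⁻¹ * (g * u * g⁻¹) = g * (u * u) * g⁻¹ := by group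
    _ = 1 := by rw [huu, mul_one, mul_inv_cancel]

section prime

variable {p : ℕ} (hp : p.Prime) (hP : Nat.card P = p)
  (hC : ∀ x ∈ P, x ≠ 1 → ∀ g : G, g * x = x * g → g ∈ P)

include hp hP hC

/-- the first component of a pair lies in `P u` -/
theorem mul_inv_mem_of_pair (hp2 : p ≠ 2) {u : G} (hu : u ∈ Subgroup.normalizer (P : Set G))
    (hu2 : orderOf u = 2) {x : G} (hx : x ∈ P) (hx1 : x ≠ 1) {a b : G} (ha : IsConj u a)
    (hb : IsConj u b) (hab : a * b = x) : a * u⁻¹ ∈ P := by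
  have haa := sq_eq_one_of_isConj hu2 ha
  have hbb := sq_eq_one_of_isConj hu2 hb
  have huu : u * u = 1 := sq_eq_one_of_isConj hu2 (IsConj.refl u)
  have huinv : u⁻¹ = u := inv_eq_of_mul_eq_one_right huu
  have hainv : a⁻¹ = a := inv_eq_of_mul_eq_one_right haa
  have hbinv : b⁻¹ = b := inv_eq_of_mul_eq_one_right hbb
  have hxinv : x⁻¹ = b * a := by rw [← hab, mul_inv_rev, hainv, hbinv]
  have h1 : a * x⁻¹ * a⁻¹ = x := by
    rw [hxinv, ← hab, hainv]
    calc a * (b * a) * a = a * b * (a * a) := by group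
      _ = a * b := by rw [haa, mul_one]
  have h2 : u⁻¹ * x * u = x⁻¹ := by
    have := inverts P hp hP hC hp2 hu hu2 hx
    rw [huinv] at this ⊢
    exact this
  refine hC x hx hx1 _ ?_
  calc a * u⁻¹ * x = a * (u⁻¹ * x * u) * a⁻¹ * (a * u⁻¹) := by group
    _ = x * (a * u⁻¹) := by rw [h2, h1]

/-- for `x ∈ P \ 1` and an involution `u ∈ N(P)`, exactly `p` pairs of conjugates of `u` have
product `x` -/
theorem pair_count (hp2 : p ≠ 2) {u : G} (hu : u ∈ Subgroup.normalizer (P : Set G))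
    (hu2 : orderOf u = 2) {x : G} (hx : x ∈ P) (hx1 : x ≠ 1) :
    Nat.card {q : G × G // IsConj u q.1 ∧ IsConj u q.2 ∧ q.1 * q.2 = x} = p := by
  have huu : u * u = 1 := sq_eq_one_of_isConj hu2 (IsConj.refl u)
  have huinv : u⁻¹ = u := inv_eq_of_mul_eq_one_right huu
  rw [← hP]
  apply Nat.card_congr
  have hconj : ∀ y ∈ P, IsConj u (y * u) := by
    intro y hy
    obtain ⟨w, hw⟩ := conj_of_mul P hp hP hC hp2 hu hu2 hy
    exact isConj_iff.2 ⟨w, hw⟩
  have hsnd : ∀ y ∈ P, (y * u)⁻¹ * x = (y * x⁻¹) * u := by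
    intro y hy
    have hyy := sq_eq_one_of_isConj hu2 (hconj y hy)
    have hinv : (y * u)⁻¹ = y * u := inv_eq_of_mul_eq_one_right hyy
    have h2 := inverts P hp hP hC hp2 hu hu2 hx
    rw [hinv]
    calc y * u * x = y * (u * x * u⁻¹) * u := by group
      _ = y * x⁻¹ * u := by rw [h2]
  refine ⟨fun q => ⟨q.1.1 * u⁻¹,
      mul_inv_mem_of_pair P hp hP hC hp2 hu hu2 hx hx1 q.2.1 q.2.2.1 q.2.2.2⟩,
    fun y => ⟨(y.1 * u, (y.1 * u)⁻¹ * x), hconj y.1 y.2, ?_, ?_⟩, ?_, ?_⟩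
  · show IsConj u ((y.1 * u)⁻¹ * x)
    rw [hsnd y.1 y.2]
    exact hconj _ (P.mul_mem y.2 (P.inv_mem hx))
  · show y.1 * u * ((y.1 * u)⁻¹ * x) = x
    group
  · rintro ⟨⟨a, b⟩, ha, hb, hab⟩
    apply Subtype.ext
    simp only
    have : b = a⁻¹ * x := by
      rw [← hab]
      group
    rw [this]
    congr 1
    · group
    · congr 1
      group
  · rintro ⟨y, hy⟩
    apply Subtype.ext
    simp only
    group

/-- **the class equation** for an involution `u ∈ N(P)`: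
`p |C(u)|² = |G| ∑ z_ψ ψ(u)² / ψ(1)`. -/
theorem class_eq (hp2 : p ≠ 2) {u : G} (hu : u ∈ Subgroup.normalizer (P : Set G))
    (hu2 : orderOf u = 2) (z : IrrCharacter G → ℤ)
    (hz : ∀ ψ : IrrCharacter G, ∀ x ∈ P, x ≠ 1 → (ψ : G → ℂ) x = z ψ) :
    (p : ℂ) * (Nat.card (Subgroup.centralizer ({u} : Set G)) : ℂ) ^ 2 =
      (Nat.card G : ℂ) * ∑ ψ : IrrCharacter G, (z ψ : ℂ) * (ψ : G → ℂ) u ^ 2 / (ψ : G → ℂ) 1 := by
  classical
  obtain ⟨x, hx, hx1⟩ : ∃ x ∈ P, x ≠ 1 := by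
    have h1 : 1 < Nat.card P := by
      rw [hP]
      exact hp.one_lt
    haveI : Nontrivial P := (Finite.one_lt_card_iff_nontrivial).1 h1
    obtain ⟨y, hy⟩ := exists_ne (1 : P)
    exact ⟨y.1, y.2, fun h => hy (Subtype.ext h)⟩
  have hcnt := pair_count P hp hP hC hp2 hu hu2 hx hx1
  have hS := Cfsg.Agent.S0840.result u u x
  rw [hcnt, finsum_eq_sum_of_fintype] at hS
  have hcc := Cfsg.Agent.Lib.Helper5.SylCnt.card_conj_mul_card_centralizer u
  have hcc' : (Nat.card {g : G // IsConj u g} : ℂ) *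
      (Nat.card (Subgroup.centralizer ({u} : Set G)) : ℂ) = (Nat.card G : ℂ) := by
    exact_mod_cast hcc
  have hG0 : (Nat.card G : ℂ) ≠ 0 := by
    have : 0 < Nat.card G := Nat.card_pos
    exact_mod_cast this.ne'
  have hsum : ∑ χ : IrrCharacter G, (χ : G → ℂ) u * (χ : G → ℂ) u * conj ((χ : G → ℂ) x) /
      (χ : G → ℂ) 1 = ∑ ψ : IrrCharacter G, (z ψ : ℂ) * (ψ : G → ℂ) u ^ 2 / (ψ : G → ℂ) 1 := by
    refine Finset.sum_congr rfl fun ψ _ => ?_
    rw [hz ψ x hx hx1]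
    have : conj ((z ψ : ℤ) : ℂ) = ((z ψ : ℤ) : ℂ) := by
      rw [← Complex.ofReal_intCast, Complex.conj_ofReal]
    rw [this]
    ring
  rw [hsum] at hS
  set c : ℂ := (Nat.card {g : G // IsConj u g} : ℂ) with hc
  set C : ℂ := (Nat.card (Subgroup.centralizer ({u} : Set G)) : ℂ) with hCdef
  set S : ℂ := ∑ ψ : IrrCharacter G, (z ψ : ℂ) * (ψ : G → ℂ) u ^ 2 / (ψ : G → ℂ) 1 with hSdef
  -- hS : p = c * c / |G| * S, hcc' : c * C = |G|
  rw [hS]
  have : c * c / (Nat.card G : ℂ) * S * C ^ 2 = (c * C) * (c * C) / (Nat.card G : ℂ) * S := by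
    ring
  rw [this, hcc']
  field_simp

end prime

end Cfsg.Agent.Lib.Helper7.BrF
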