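import Mathlib
import Cfsg.Prelude.Def_Characters
import Cfsg.Agent.Lib.Helper7.BrF2

set_option autoImplicit false
set_option linter.style.haveILetI false
set_option linter.unusedSectionVars false
set_option linter.unusedVariables false

/-!
# `ψ(u) ≡ ψ(1) (mod 4)` for an involution `u` killed by all linear characters
(helper7, for helper8's S0978 character branch)
-/

namespace Cfsg.Agent.Lib.Helper7.BrF

open Cfsg

/-- trace and determinant of a linear involution -/
theorem trace_det_of_sq_one {V : Type*} [AddCommGroup V] [Module ℂ V] [FiniteDimensional ℂ V]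
    (T : V →ₗ[ℂ] V) (hT : T * T = 1) :
    ∃ b : ℕ, LinearMap.trace ℂ V T = (Module.finrank ℂ V : ℂ) - 2 * b ∧
      LinearMap.det T = (-1 : ℂ) ^ b := by
  set Q : V →ₗ[ℂ] V := (2 : ℂ)⁻¹ • (1 - T) with hQ
  have hQi : IsIdempotentElem Q := by
    unfold IsIdempotentElem
    rw [hQ, smul_mul_smul_comm]
    have : (1 - T) * (1 - T) = (2 : ℂ) • (1 - T) := by
      rw [mul_sub, sub_mul, sub_mul, hT, one_mul, one_mul, mul_one, two_smul]
      abel
    rw [this, smul_smul]
    congr 1
    norm_num
  have hTQ : T = 1 - (2 : ℂ) • Q := by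
    rw [hQ, smul_smul]
    norm_num
  have hproj := LinearMap.IsIdempotentElem.isProj_range Q hQi
  have htr := hproj.trace
  have hcompl : IsCompl (LinearMap.range Q) (LinearMap.ker Q) := LinearMap.IsIdempotentElem.isCompl hQi
  refine ⟨Module.finrank ℂ (LinearMap.range Q), ?_, ?_⟩
  · rw [hTQ, map_sub, map_smul, htr, LinearMap.trace_one, smul_eq_mul]
  · set e := Submodule.prodEquivOfIsCompl _ _ hcompl with he
    set F : Module.End ℂ (LinearMap.range Q × LinearMap.ker Q) :=
      LinearMap.prodMap ((-1 : ℂ) • LinearMap.id) LinearMap.id with hF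
    have hconj : T = (e : _ →ₗ[ℂ] V) ∘ₗ F ∘ₗ (e.symm : V →ₗ[ℂ] _) := by
      apply LinearMap.ext
      intro w
      obtain ⟨⟨r, k⟩, rfl⟩ := e.surjective w
      simp only [LinearMap.coe_comp, LinearEquiv.coe_coe, Function.comp_apply,
        LinearEquiv.symm_apply_apply]
      rw [he, Submodule.coe_prodEquivOfIsCompl', hF, LinearMap.prodMap_apply,
        Submodule.coe_prodEquivOfIsCompl']
      simp only [LinearMap.smul_apply, LinearMap.id_apply, map_add]
      have h1 : T (r : V) = -(r : V) := by
        have hr : Q (r : V) = r := (LinearMap.IsIdempotentElem.mem_range_iff hQi).1 r.2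
        rw [hTQ]
        simp only [LinearMap.sub_apply, Module.End.one_apply, LinearMap.smul_apply, hr]
        rw [two_smul]
        abel
      have h2 : T (k : V) = k := by
        have hk : Q (k : V) = 0 := LinearMap.mem_ker.1 k.2
        rw [hTQ]
        simp only [LinearMap.sub_apply, Module.End.one_apply, LinearMap.smul_apply, hk]
        rw [smul_zero, sub_zero]
      rw [h1, h2]
      simp
    rw [hconj, LinearMap.det_conj, hF, LinearMap.det_prodMap, LinearMap.det_smul,
      LinearMap.det_id, LinearMap.det_id, mul_one, mul_one]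

variable {G : Type*} [Group G]

/-- if every linear character kills the involution `u`, then `ψ(u) ≡ ψ(1) (mod 4)` -/
theorem char_invol_mod_four {u : G} (hu : u * u = 1) (hlin : ∀ φ : G →* ℂˣ, φ u = 1)
    (ψ : G → ℂ) (hψ : IsCharacter G ψ) (f : ℕ) (v : ℤ) (hf : ψ 1 = f) (hv : ψ u = v) :
    (4 : ℤ) ∣ (f : ℤ) - v := by
  obtain ⟨n, ρ, rfl⟩ := hψ
  have hTT : ρ u * ρ u = 1 := by rw [← map_mul, hu, map_one]
  obtain ⟨b, hb1, hb2⟩ := trace_det_of_sq_one (ρ u) hTT
  have hdet : LinearMap.det (ρ u) = 1 := by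
    have := hlin ((LinearMap.det.comp ρ).toHomUnits)
    have h2 := congrArg Units.val this
    rwa [MonoidHom.coe_toHomUnits, Units.val_one, MonoidHom.comp_apply] at h2
  rw [hdet] at hb2
  have hbe : Even b := by
    by_contra hodd
    rw [Nat.not_even_iff_odd] at hodd
    rw [hodd.neg_one_pow] at hb2
    norm_num at hb2
  obtain ⟨c, hc⟩ := hbe
  have hf' : (Module.finrank ℂ (Fin n → ℂ) : ℂ) = f := by
    rw [← hf]
    simp [Representation.character]
  have hv' : ((v : ℤ) : ℂ) = (f : ℂ) - 2 * b := by
    rw [← hv, ← hf']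
    exact hb1
  have : (v : ℤ) = (f : ℤ) - 2 * b := by
    have h : ((v : ℤ) : ℂ) = (((f : ℤ) - 2 * (b : ℤ) : ℤ) : ℂ) := by
      rw [hv']
      push_cast
      ring
    exact_mod_cast h
  refine ⟨c, ?_⟩
  rw [this, hc]
  push_cast
  ring

/-- a nonabelian simple group has no nontrivial linear characters -/
theorem linear_trivial_of_simple [IsSimpleGroup G] (hnc : ∃ a b : G, a * b ≠ b * a)
    (φ : G →* ℂˣ) (g : G) : φ g = 1 := by
  rcases (Subgroup.Normal.eq_bot_or_eq_top (inferInstance : (φ.ker).Normal)) with h | h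
  · exfalso
    obtain ⟨a, b, hab⟩ := hnc
    apply hab
    have hinj : Function.Injective φ := (MonoidHom.ker_eq_bot_iff φ).1 h
    apply hinj
    rw [map_mul, map_mul, mul_comm]
  · have : g ∈ φ.ker := by
      rw [h]
      exact Subgroup.mem_top g
    exact MonoidHom.mem_ker.1 this

end Cfsg.Agent.Lib.Helper7.BrF
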