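import Mathlib
import Cfsg.Prelude.Def_Characters
import Cfsg.Agent.Lib.Helper7.BrF4

set_option autoImplicit false
set_option linter.style.haveILetI false
set_option linter.unusedSectionVars false
set_option linter.unusedVariables false

/-!
# Character values on involutions are integers (helper7, for helper8's S0978 character branch)
-/

namespace Cfsg.Agent.Lib.Helper7.BrF

open Cfsg

variable {G : Type*} [Group G]

/-- the value of a character at an involution is an integer `v` with `|v| ≤ ψ(1)` and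
`v ≡ ψ(1) (mod 2)` -/
theorem char_invol_int {u : G} (hu : u * u = 1) (ψ : G → ℂ) (hψ : IsCharacter G ψ) (f : ℕ)
    (hf : ψ 1 = f) : ∃ v : ℤ, ψ u = v ∧ |v| ≤ f ∧ (2 : ℤ) ∣ (f : ℤ) - v := by
  obtain ⟨n, ρ, rfl⟩ := hψ
  have hTT : ρ u * ρ u = 1 := by rw [← map_mul, hu, map_one]
  obtain ⟨b, hb1, hb2⟩ := trace_det_of_sq_one (ρ u) hTT
  have hT2 := hTT
  -- also apply to `-T` to bound `b ≤ f`
  set T : (Fin n → ℂ) →ₗ[ℂ] (Fin n → ℂ) := ρ u with hTdef
  have hTT' : (-T) * (-T) = 1 := by
    have : (-T) * (-T) = T * T := by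
      apply LinearMap.ext
      intro w
      simp [Module.End.mul_apply]
    rw [this, hTT]
  obtain ⟨b', hb1', -⟩ := trace_det_of_sq_one (-T) hTT'
  have hf' : (Module.finrank ℂ (Fin n → ℂ) : ℂ) = f := by
    rw [← hf]
    simp [Representation.character]
  rw [hf'] at hb1 hb1'
  rw [map_neg, hb1] at hb1'
  -- hb1' : -(f - 2 b) = f - 2 b'
  have hbb : (b : ℤ) + b' = f := by
    have h : ((b : ℂ) + b') * 2 = (f : ℂ) * 2 := by linear_combination hb1'
    have h2 : ((((b : ℤ) + b') * 2 : ℤ) : ℂ) = (((f : ℤ) * 2 : ℤ) : ℂ) := by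
      push_cast
      exact h
    have h3 : ((b : ℤ) + b') * 2 = (f : ℤ) * 2 := by exact_mod_cast h2
    linarith
  refine ⟨(f : ℤ) - 2 * b, ?_, ?_, ?_⟩
  · show ρ.character u = _
    unfold Representation.character
    rw [← hTdef, hb1]
    push_cast
    ring
  · rw [abs_le]
    constructor <;> linarith [Int.natCast_nonneg b, Int.natCast_nonneg b']
  · exact ⟨b, by ring⟩

end Cfsg.Agent.Lib.Helper7.BrF
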