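import Mathlib
import Cfsg.Prelude.Def_Characters
import Cfsg.Prelude.Def_CharExt
import Cfsg.Agent.Lib.helper3.Det

set_option autoImplicit false
set_option linter.style.haveILetI false
set_option linter.unusedSectionVars false
set_option linter.unusedSimpArgs false

/-!
# Determinantal characters of permutation characters; parity of the commutator index
-/

namespace Cfsg.Agent.Lib.Helper7.BrQ

open Cfsg



/-- The permutation representation attached to a homomorphism into a symmetric group. -/
noncomputable def permRep {Z : Type*} [Group Z] {X : Type*} [Fintype X] [DecidableEq X]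
    (σ : Z →* Equiv.Perm X) : Representation ℂ Z (X → ℂ) :=
  ((Matrix.toLinAlgEquiv' : Matrix X X ℂ ≃ₐ[ℂ] _) : Matrix X X ℂ →* _).comp
    ((Matrix.permMatrixHom (R := ℂ) (n := X)).comp σ)

theorem permRep_apply {Z : Type*} [Group Z] {X : Type*} [Fintype X] [DecidableEq X]
    (σ : Z →* Equiv.Perm X) (g : Z) :
    permRep σ g = Matrix.toLin' (((σ g)⁻¹).permMatrix ℂ) := rfl

theorem permRep_character {Z : Type*} [Group Z] {X : Type*} [Fintype X] [DecidableEq X]
    (σ : Z →* Equiv.Perm X) (g : Z) :
    (permRep σ).character g = ((Function.fixedPoints (σ g)).ncard : ℂ) := by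
  unfold Representation.character
  rw [permRep_apply, Matrix.trace_toLin'_eq, Matrix.trace_permutation]
  congr 2
  ext x
  simp only [Function.mem_fixedPoints, Function.IsFixedPt]
  rw [Equiv.Perm.inv_eq_iff_eq, eq_comm]

theorem permRep_det {Z : Type*} [Group Z] {X : Type*} [Fintype X] [DecidableEq X]
    (σ : Z →* Equiv.Perm X) (g : Z) :
    LinearMap.det (permRep σ g) = ((Equiv.Perm.sign (σ g) : ℤˣ) : ℤ) := by
  rw [permRep_apply, LinearMap.det_toLin', Matrix.det_permutation, Equiv.Perm.sign_inv]

/-- The determinantal character of a permutation character is the sign character. -/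
theorem detChar_perm {Z : Type*} [Group Z] [Finite Z] {X : Type*} [Fintype X] [DecidableEq X]
    (σ : Z →* Equiv.Perm X) (φ : Z → ℂ)
    (hφ : ∀ g, φ g = ((Function.fixedPoints (σ g)).ncard : ℂ)) (g : Z) :
    detChar φ g = ((Equiv.Perm.sign (σ g) : ℤˣ) : ℤ) := by
  have h1 : φ = (permRep σ).character := by
    funext g
    rw [hφ, permRep_character]
  rw [h1, Cfsg.Agent.Lib.helper3.Det.detChar_character, permRep_det]



/-- Left multiplication on the second factor of `Fin t × Z`. -/
def prodPerm (t : ℕ) (Z : Type*) [Group Z] : Z →* Equiv.Perm (Fin t × Z) where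
  toFun g := Equiv.prodCongrRight (fun _ => Equiv.mulLeft g)
  map_one' := by
    ext ⟨i, z⟩ <;> simp
  map_mul' a b := by
    ext ⟨i, z⟩ <;> simp [mul_assoc]

theorem prodPerm_apply (t : ℕ) {Z : Type*} [Group Z] (g : Z) (x : Fin t × Z) :
    prodPerm t Z g x = (x.1, g * x.2) := rfl

theorem fixedPoints_prodPerm_one (t : ℕ) {Z : Type*} [Group Z] [Finite Z] :
    (Function.fixedPoints (prodPerm t Z 1)).ncard = t * Nat.card Z := by
  have : Function.fixedPoints (prodPerm t Z 1) = Set.univ := by
    ext x
    simp [Function.mem_fixedPoints, Function.IsFixedPt]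
  rw [this, Set.ncard_univ, Nat.card_prod, Nat.card_fin]

theorem fixedPoints_prodPerm_ne (t : ℕ) {Z : Type*} [Group Z] {g : Z} (hg : g ≠ 1) :
    (Function.fixedPoints (prodPerm t Z g)).ncard = 0 := by
  have : Function.fixedPoints (prodPerm t Z g) = ∅ := by
    ext x
    simp only [Function.mem_fixedPoints, Function.IsFixedPt, Set.mem_empty_iff_false, iff_false]
    intro h
    rw [prodPerm_apply] at h
    have h2 : g * x.2 = x.2 := congrArg Prod.snd h
    exact hg (mul_eq_right.mp h2)
  rw [this, Set.ncard_empty]

theorem sign_prodPerm (t : ℕ) {Z : Type*} [Group Z] [Fintype Z] [DecidableEq Z] (g : Z) :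
    Equiv.Perm.sign (prodPerm t Z g) = Equiv.Perm.sign (Equiv.mulLeft g) ^ t := by
  show Equiv.Perm.sign (Equiv.prodCongrRight (fun _ : Fin t => Equiv.mulLeft g)) = _
  have := Equiv.Perm.sign_prodCongrRight (fun _ : Fin t => (Equiv.mulLeft g : Equiv.Perm Z))
  rw [Finset.prod_const, Finset.card_univ, Fintype.card_fin] at this
  exact this

/-- Left multiplication by a generator of a cyclic group of even order is an odd permutation. -/
theorem sign_mulLeft_generator {Z : Type*} [Group Z] [Fintype Z] [DecidableEq Z] (v : Z)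
    (hv : ∀ z : Z, z ∈ Subgroup.zpowers v) (he : Even (Fintype.card Z)) :
    Equiv.Perm.sign (Equiv.mulLeft v) = -1 := by
  have hv1 : v ≠ 1 := by
    rintro rfl
    have : ∀ z : Z, z = 1 := fun z => by simpa using hv z
    have hc : Fintype.card Z = 1 := Fintype.card_eq_one_iff.mpr ⟨1, this⟩
    rw [hc] at he
    exact absurd he (by decide)
  have hpow : ∀ i : ℤ, ((Equiv.mulLeft v : Equiv.Perm Z) ^ i) = Equiv.mulLeft (v ^ i) := by
    intro i
    have h1 : (Equiv.mulLeft v : Equiv.Perm Z) = MulAction.toPermHom Z Z v := rfl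
    rw [h1, ← map_zpow]
    rfl
  have hcyc : (Equiv.mulLeft v : Equiv.Perm Z).IsCycle := by
    refine ⟨1, ?_, ?_⟩
    · simpa using hv1
    · intro y _
      obtain ⟨i, hi⟩ := Subgroup.mem_zpowers_iff.mp (hv y)
      refine ⟨i, ?_⟩
      rw [hpow]
      simpa using hi
  have hsupp : (Equiv.mulLeft v : Equiv.Perm Z).support = Finset.univ := by
    ext z
    simp only [Equiv.Perm.mem_support, Equiv.coe_mulLeft, ne_eq, mul_eq_right, Finset.mem_univ,
      iff_true]
    exact hv1
  rw [hcyc.sign, hsupp, Finset.card_univ, he.neg_one_pow]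




/-- A homomorphism to `ℂˣ` taking the value `-1` forces the commutator subgroup to have even
index. -/
theorem even_index_of_hom {G : Type*} [Group G] [Finite G] (f : G →* ℂˣ) (v : G)
    (hv : f v = -1) : Even (commutator G).index := by
  have h1 : commutator G ≤ f.ker := Abelianization.commutator_subset_ker f
  have h2 : f.ker.index ∣ (commutator G).index := Subgroup.index_dvd_of_le h1
  have h3 : f.ker.index = Nat.card f.range := Subgroup.index_ker f
  have h4 : orderOf (f v) = 2 := by
    rw [hv]
    rw [orderOf_eq_iff (by norm_num)]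
    refine ⟨by simp, ?_⟩
    intro m hm hm0
    have : m = 1 := by omega
    rw [this, pow_one]
    intro h
    have h5 : ((-1 : ℂˣ) : ℂ) = 1 := by rw [h]; simp
    norm_num at h5
  have h5 : 2 ∣ Nat.card f.range := by
    rw [← h4]
    have := orderOf_dvd_natCard (⟨f v, v, rfl⟩ : f.range)
    rwa [← Subgroup.orderOf_coe] at this
  rw [even_iff_two_dvd]
  exact h5.trans (h3 ▸ h2)

/-- A character whose determinantal character takes the value `-1` forces the commutator
subgroup to have even index. -/
theorem even_index_of_detChar {G : Type*} [Group G] [Finite G] {χ : G → ℂ}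
    (hχ : IsCharacter G χ) (v : G) (hv : detChar χ v = -1) : Even (commutator G).index := by
  obtain ⟨n, ρ, rfl⟩ := hχ
  apply even_index_of_hom (Cfsg.Agent.Lib.helper3.Det.detHom ρ) v
  apply Units.ext
  rw [Cfsg.Agent.Lib.helper3.Det.detHom_apply,
    ← Cfsg.Agent.Lib.helper3.Det.detChar_character, hv]
  simp


/-- A character of degree `t * e` (`t` odd, `e` even) vanishing on the nonidentity elements of a
cyclic subgroup of order `e` forces the commutator subgroup to have even index. -/
theorem even_index_of_vanishing {G : Type*} [Group G] [Finite G] {χ : G → ℂ}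
    (hχ : IsCharacter G χ) (v : G) (e t : ℕ) (hv : orderOf v = e) (he : Even e) (ht : Odd t)
    (hdeg : χ 1 = ((t * e : ℕ) : ℂ))
    (hvan : ∀ z ∈ Subgroup.zpowers v, z ≠ 1 → χ z = 0) : Even (commutator G).index := by
  classical
  letI : Fintype (Subgroup.zpowers v) := Fintype.ofFinite _
  apply even_index_of_detChar hχ v
  have hcardZ : Nat.card (Subgroup.zpowers v) = e := by rw [Nat.card_zpowers, hv]
  have hφ : ∀ g : Subgroup.zpowers v, (fun z : Subgroup.zpowers v => χ z) g
      = ((Function.fixedPoints (prodPerm t (Subgroup.zpowers v) g)).ncard : ℂ) := by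
    intro g
    by_cases hg : g = 1
    · rw [hg, fixedPoints_prodPerm_one, hcardZ]
      exact hdeg
    · rw [fixedPoints_prodPerm_ne t hg]
      have : (g : G) ≠ 1 := fun h => hg (Subtype.ext h)
      simpa using hvan g g.2 this
  have h1 := detChar_perm (prodPerm t (Subgroup.zpowers v)) _ hφ ⟨v, Subgroup.mem_zpowers v⟩
  rw [Cfsg.Agent.Lib.helper3.Det.detChar_restrict (Subgroup.zpowers v) hχ] at h1
  rw [h1, sign_prodPerm, sign_mulLeft_generator, ht.neg_one_pow]
  · simp
  · intro z
    obtain ⟨k, hk⟩ := Subgroup.mem_zpowers_iff.mp z.2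
    exact Subgroup.mem_zpowers_iff.mpr ⟨k, Subtype.ext (by simpa using hk)⟩
  · rw [← Nat.card_eq_fintype_card, hcardZ]
    exact he

end Cfsg.Agent.Lib.Helper7.BrQ
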