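import Mathlib
import Cfsg.Prelude.Def_Characters
import Cfsg.Agent.Lib.Helper7.BrP4

set_option autoImplicit false
set_option linter.style.haveILetI false
set_option linter.unusedSectionVars false

namespace Cfsg.Agent.Lib.Helper7.BrQ

open Cfsg Cfsg.Agent.Lib.helper3.Irr Cfsg.Agent.Lib.helper3.CharBasic
open Cfsg.Agent.Lib.helper3.IndFun Cfsg.Agent.Lib.helper3.CycTI
open Cfsg.Agent.Lib.Helper7.BrP
open scoped ComplexConjugate

variable {G : Type*} [Group G] [Fintype G] (P : Subgroup G)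

/-- The sum over the nontrivial linear characters of a function constant on the orbits of the
normalizer is divisible by `e`. -/
theorem dvd_sum_orbits {p : ℕ} (hp : p.Prime) (hP : Nat.card P = p)
    (hC : ∀ x ∈ P, x ≠ 1 → ∀ g : G, g * x = x * g → g ∈ P) (e : ℕ)
    (hN : Nat.card (Subgroup.normalizer (P : Set G)) = p * e)
    [Fintype {ω : P →* ℂˣ // ω ≠ 1}]
    (f : (P →* ℂˣ) → ℕ) (hf : ∀ (n : Subgroup.normalizer (P : Set G)) ω, f (cj P n ω) = f ω) :
    e ∣ ∑ a : {ω : P →* ℂˣ // ω ≠ 1}, f a.1 := by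
  classical
  letI : Fintype (Quotient (orbSetoid P)) := Fintype.ofFinite _
  rw [← Finset.sum_fiberwise (Finset.univ : Finset {ω : P →* ℂˣ // ω ≠ 1})
    (fun a => Quotient.mk (orbSetoid P) a) (fun a => f a.1)]
  apply Finset.dvd_sum
  intro q _
  have h1 : ∀ a ∈ Finset.univ.filter (fun a : {ω : P →* ℂˣ // ω ≠ 1} =>
      Quotient.mk (orbSetoid P) a = q), f a.1 = f (Quotient.out q).1 := by
    intro a ha
    have h2 : Quotient.mk (orbSetoid P) a = q := (Finset.mem_filter.mp ha).2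
    rw [← Quotient.out_eq q] at h2
    obtain ⟨n, hn⟩ : (orbSetoid P).r a (Quotient.out q) := Quotient.exact h2
    rw [hn, hf]
  rw [Finset.sum_congr rfl h1, Finset.sum_const, smul_eq_mul]
  have h3 := card_orbit P hp hP hC e hN (Quotient.out q)
  rw [Nat.card_eq_fintype_card, Fintype.card_subtype] at h3
  have h4 : (Finset.univ.filter (fun a : {ω : P →* ℂˣ // ω ≠ 1} =>
      Quotient.mk (orbSetoid P) a = q)) = Finset.univ.filter
        (fun b : {ω : P →* ℂˣ // ω ≠ 1} => (orbSetoid P).r b (Quotient.out q)) := by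
    ext b
    simp only [Finset.mem_filter, Finset.mem_univ, true_and]
    constructor
    · intro h
      rw [← Quotient.out_eq q] at h
      exact Quotient.exact h
    · intro h
      rw [← Quotient.out_eq q]
      exact Quotient.sound h
  rw [h4]
  refine ⟨f (Quotient.out q).1, ?_⟩
  congr 1


/-- The coefficient of a nonprincipal irreducible character in `Ξ_ω` has square at most `e`. -/
theorem sq_classInner_Xi_le {p : ℕ} (hp : p.Prime) (hP : Nat.card P = p)
    (hC : ∀ x ∈ P, x ≠ 1 → ∀ g : G, g * x = x * g → g ∈ P) (e : ℕ)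
    (hN : Nat.card (Subgroup.normalizer (P : Set G)) = p * e)
    {ω : P →* ℂˣ} (hω : ω ≠ 1) (χ : IrrCharacter G) (hχ : χ ≠ trivIrr G) (a : ℤ)
    (ha : classInner (Xi P ω) (χ : G → ℂ) = a) : a ^ 2 ≤ e := by
  classical
  letI : Fintype P := Fintype.ofFinite P
  obtain ⟨z, hz⟩ := exists_int_decomposition (Xi_isGeneralizedCharacter P ω)
  have hzin : ∀ ψ : IrrCharacter G, classInner (Xi P ω) (ψ : G → ℂ) = z ψ := by
    intro ψ
    conv_lhs => rw [hz]
    exact classInner_decomposition_left (fun ψ => (z ψ : ℂ)) ψ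
  have hnorm : ∑ ψ : IrrCharacter G, z ψ ^ 2 = (e : ℤ) + 1 := by
    have h1 : classInner (Xi P ω) (Xi P ω) = (e : ℂ) + 1 :=
      (gram_eq P hp hP hC e hN hω hω).1 1 (cj_one_left P ω).symm
    conv_lhs at h1 => rw [hz]
    rw [classInner_int_decomposition] at h1
    have h2 : ((∑ ψ : IrrCharacter G, z ψ * z ψ : ℤ) : ℂ) = (((e : ℤ) + 1 : ℤ) : ℂ) := by
      rw [h1]; push_cast; ring
    have h3 := Int.cast_injective h2
    rw [← h3]
    apply Finset.sum_congr rfl
    intro ψ _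
    ring
  have hztriv : z (trivIrr G) = 1 := by
    have h1 := classInner_Xi_one P hω
    have h2 := hzin (trivIrr G)
    have h3 : ((trivIrr G : IrrCharacter G) : G → ℂ) = fun _ => 1 := rfl
    rw [h3, h1] at h2
    have h4 : ((1 : ℤ) : ℂ) = (z (trivIrr G) : ℂ) := by rw [← h2]; simp
    exact (Int.cast_injective h4).symm
  have hzχ : z χ = a := by
    have h1 := hzin χ
    rw [ha] at h1
    exact (Int.cast_injective h1).symm
  have hsub : ∑ ψ ∈ ({trivIrr G, χ} : Finset (IrrCharacter G)), z ψ ^ 2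
      ≤ ∑ ψ : IrrCharacter G, z ψ ^ 2 :=
    Finset.sum_le_sum_of_subset_of_nonneg (Finset.subset_univ _) (fun ψ _ _ => sq_nonneg _)
  rw [Finset.sum_pair (Ne.symm hχ), hnorm, hztriv, hzχ] at hsub
  linarith


/-- An irreducible character of degree `p - 1` does not contain the principal character of the
self-centralizing subgroup `P` of order `p` (when `|N(P) : P| = e ≥ 2`). -/
theorem mult_triv_eq_zero [Fintype P] {p : ℕ} (hp : p.Prime) (hP : Nat.card P = p)
    (hC : ∀ x ∈ P, x ≠ 1 → ∀ g : G, g * x = x * g → g ∈ P) (e : ℕ)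
    (hN : Nat.card (Subgroup.normalizer (P : Set G)) = p * e) (he2 : 2 ≤ e) (hdiv : e ∣ p - 1)
    (χ : IrrCharacter G) (hdeg : (χ : G → ℂ) 1 = ((p - 1 : ℕ) : ℂ)) :
    classInner (linFun (1 : P →* ℂˣ)) (fun x : P => (χ : G → ℂ) x) = 0 := by
  classical
  haveI := finite_dual P hp hP
  letI : Fintype (P →* ℂˣ) := Fintype.ofFinite _
  have hp1 : 2 ≤ p - 1 := le_trans he2 (Nat.le_of_dvd (by have := hp.two_le; omega) hdiv |>.trans le_rfl)
  have hχtriv : χ ≠ trivIrr G := by
    intro h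
    have h1 : (χ : G → ℂ) 1 = 1 := by rw [h]; rfl
    rw [hdeg] at h1
    have h2 : p - 1 = 1 := by exact_mod_cast h1
    omega
  have hcomm : ∀ a b : P, a * b = b * a := fun a b =>
    Subtype.ext (comm_of_prime P hp hP a.2 b.2)
  have hψc := isCharacter_of_isIrrCharacter χ.2
  have hψP : IsCharacter P (fun x : P => (χ : G → ℂ) x) := isCharacter_restrict hψc P
  have hnat : ∀ ω : P →* ℂˣ, ∃ k : ℕ,
      classInner (fun x : P => (χ : G → ℂ) x) (linFun ω) = k := fun ω =>
    exists_nat_classInner_of_isCharacter hψP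
      ⟨linFun ω, Cfsg.Agent.Lib.helper3.Pf4.isIrrCharacter_linFun ω⟩
  choose nn hnn using hnat
  have hnn' : ∀ ω : P →* ℂˣ, classInner (linFun ω) (fun x : P => (χ : G → ℂ) x) = nn ω := by
    intro ω
    rw [← classInner_conj_symm, hnn, Complex.conj_natCast]
  have hdec := Cfsg.Agent.Lib.helper3.Pf4.isCharacter_eq_sum_hom hcomm hψP
  have h1 := congrFun hdec 1
  simp only [Finset.sum_apply, Pi.smul_apply, smul_eq_mul, linFun_apply_one, mul_one, hnn] at h1
  have h1' : (χ : G → ℂ) 1 = ∑ ω : P →* ℂˣ, (nn ω : ℂ) := h1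
  have hsum : ∑ ω : P →* ℂˣ, nn ω = p - 1 := by
    have h2 : ((∑ ω : P →* ℂˣ, nn ω : ℕ) : ℂ) = ((p - 1 : ℕ) : ℂ) := by
      rw [← hdeg, h1']
      push_cast
      rfl
    exact_mod_cast h2
  have hinv : ∀ (n : Subgroup.normalizer (P : Set G)) (ω : P →* ℂˣ), nn (cj P n ω) = nn ω := by
    intro n ω
    have h2 := classInner_cj P n ω (χ : G → ℂ) (isClassFunction_of_isCharacter hψc)
    rw [hnn', hnn'] at h2
    exact_mod_cast h2
  have hdvd := dvd_sum_orbits P hp hP hC e hN nn hinv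
  have hsplit : ∑ ω : P →* ℂˣ, nn ω = nn 1 + ∑ a : {ω : P →* ℂˣ // ω ≠ 1}, nn a.1 := by
    rw [← Finset.add_sum_erase Finset.univ _ (Finset.mem_univ (1 : P →* ℂˣ))]
    congr 1
    apply Finset.sum_subtype
    intro x
    simp
  have hle : ∀ ω : P →* ℂˣ, ω ≠ 1 → ((nn 1 : ℤ) - nn ω) ^ 2 ≤ e := by
    intro ω hω
    apply sq_classInner_Xi_le P hp hP hC e hN hω χ hχtriv
    rw [classInner_Xi P ω _ (isClassFunction_of_isCharacter hψc), hnn', hnn']
    push_cast
    rfl
  -- conclusion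
  rw [hnn']
  have hdvd1 : e ∣ nn 1 := by
    have h2 : e ∣ nn 1 + ∑ a : {ω : P →* ℂˣ // ω ≠ 1}, nn a.1 := by
      rw [← hsplit, hsum]; exact hdiv
    exact (Nat.dvd_add_left hdvd).mp h2
  by_contra hne
  have hne' : nn 1 ≠ 0 := by
    intro h
    apply hne
    rw [h]
    simp
  have hge : e ≤ nn 1 := Nat.le_of_dvd (Nat.pos_of_ne_zero hne') hdvd1
  have hpos : ∀ a : {ω : P →* ℂˣ // ω ≠ 1}, 1 ≤ nn a.1 := by
    intro a
    by_contra h
    have h0 : nn a.1 = 0 := by omega
    have h2 := hle a.1 a.2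
    rw [h0] at h2
    have h3 : ((nn 1 : ℤ)) ^ 2 ≤ nn 1 := by
      have : ((e : ℕ) : ℤ) ≤ nn 1 := by exact_mod_cast hge
      simpa using h2.trans this
    have h4 : (2 : ℤ) ≤ nn 1 := by
      have : ((2 : ℕ) : ℤ) ≤ nn 1 := by exact_mod_cast he2.trans hge
      simpa using this
    nlinarith
  have hbig : p - 1 ≤ ∑ a : {ω : P →* ℂˣ // ω ≠ 1}, nn a.1 := by
    have h2 : ∑ a : {ω : P →* ℂˣ // ω ≠ 1}, 1 ≤ ∑ a : {ω : P →* ℂˣ // ω ≠ 1}, nn a.1 :=
      Finset.sum_le_sum (fun a _ => hpos a)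
    rw [Finset.sum_const, Finset.card_univ, smul_eq_mul, mul_one, ← Nat.card_eq_fintype_card,
      card_dual_ne_one P hp hP] at h2
    exact h2
  rw [hsplit] at hsum
  omega

end Cfsg.Agent.Lib.Helper7.BrQ
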