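import Mathlib
import Cfsg.Prelude.Def_Characters
import Cfsg.Agent.Lib.helper3.Tifn1

set_option autoImplicit false
set_option linter.style.haveILetI false
set_option linter.unusedSectionVars false

namespace Cfsg.Agent.Lib.Helper7.BrQ

open Cfsg Cfsg.Agent.Lib.helper3.Irr Cfsg.Agent.Lib.helper3.CharBasic
open Cfsg.Agent.Lib.helper3.IndFun Cfsg.Agent.Lib.helper3.Tifn
open scoped ComplexConjugate

/-- In a group with a Frobenius-kernel-like normal subgroup `K`, a character whose values on `K`
sum to zero vanishes off `K`. -/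
theorem apply_eq_zero_of_sum_eq_zero {N : Type*} [Group N] [Fintype N] (K : Subgroup N)
    [K.Normal] [Fintype K]
    (hC : ∀ n ∈ K, n ≠ 1 → Subgroup.centralizer ({n} : Set N) ≤ K)
    (χ : N → ℂ) (hχ : IsCharacter N χ) (h0 : ∑ k : K, χ k = 0) {n : N} (hn : n ∉ K) :
    χ n = 0 := by
  classical
  have hdec := isCharacter_eq_sum_classInner hχ
  have hnat : ∀ θ : IrrCharacter N, ∃ m : ℕ, classInner χ (θ : N → ℂ) = m := fun θ =>
    exists_nat_classInner_of_isCharacter hχ θ
  choose m hm using hnat
  have hnatK : ∀ θ : IrrCharacter N, ∃ b : ℕ,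
      classInner (fun k : K => (θ : N → ℂ) k) (fun _ => (1 : ℂ)) = b := fun θ =>
    exists_nat_classInner_of_isCharacter
      (isCharacter_restrict (isCharacter_of_isIrrCharacter θ.2) K) ⟨_, isIrrCharacter_one⟩
  choose b hb using hnatK
  have hK0 : (Nat.card K : ℂ) ≠ 0 := card_ne_zero_complex K
  -- the inner product of the restriction with the principal character
  have hsumb : ∀ θ : IrrCharacter N, ∑ k : K, (θ : N → ℂ) k = (Nat.card K : ℂ) * b θ := by
    intro θ
    have h1 := hb θ
    rw [classInner_apply] at h1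
    simp only [map_one, mul_one] at h1
    rw [← h1]
    field_simp
  have hzero : ∑ θ : IrrCharacter N, m θ * b θ = 0 := by
    have h1 : ∑ k : K, χ k = ∑ θ : IrrCharacter N, (m θ : ℂ) * ((Nat.card K : ℂ) * b θ) := by
      have h2 : ∀ k : K, χ k = ∑ θ : IrrCharacter N, (m θ : ℂ) * (θ : N → ℂ) k := by
        intro k
        conv_lhs => rw [hdec]
        simp only [Finset.sum_apply, Pi.smul_apply, smul_eq_mul, hm]
      rw [Finset.sum_congr rfl (fun k _ => h2 k), Finset.sum_comm]
      apply Finset.sum_congr rfl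
      intro θ _
      rw [← Finset.mul_sum, hsumb]
    rw [h0] at h1
    have h3 : (Nat.card K : ℂ) * ((∑ θ : IrrCharacter N, m θ * b θ : ℕ) : ℂ) = 0 := by
      rw [h1]
      push_cast
      rw [Finset.mul_sum]
      apply Finset.sum_congr rfl
      intro θ _
      ring
    rcases mul_eq_zero.mp h3 with h | h
    · exact absurd h hK0
    · exact_mod_cast h
  have hzero' : ∀ θ : IrrCharacter N, m θ * b θ = 0 := fun θ =>
    (Finset.sum_eq_zero_iff.mp hzero) θ (Finset.mem_univ θ)
  -- the irrelevant characters do not occur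
  have hirr : ∀ θ : IrrCharacter N, (θ : N → ℂ) ∉ relSet K → m θ = 0 := by
    intro θ hθ
    obtain ⟨d, hd0, hd⟩ := exists_pos_nat_apply_one θ.2
    have h1 : ∑ k : K, (θ : N → ℂ) k = (Nat.card K : ℂ) * d := by
      rw [Finset.sum_congr rfl (fun k _ => apply_eq_of_not_mem_relSet θ.2 hθ k.2),
        Finset.sum_const, Finset.card_univ, nsmul_eq_mul, hd, Nat.card_eq_fintype_card]
    rw [hsumb] at h1
    have h2 : (b θ : ℂ) = d := mul_left_cancel₀ hK0 h1
    have h3 : b θ = d := by exact_mod_cast h2
    rcases Nat.eq_zero_or_pos (m θ) with h | h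
    · exact h
    · have := hzero' θ
      rw [h3] at this
      rcases Nat.mul_eq_zero.mp this with h' | h'
      · exact h'
      · omega
  conv_lhs => rw [hdec]
  simp only [Finset.sum_apply, Pi.smul_apply, smul_eq_mul]
  apply Finset.sum_eq_zero
  intro θ _
  by_cases hθ : (θ : N → ℂ) ∈ relSet K
  · rw [apply_eq_zero_of_not_mem K hC hθ hn, mul_zero]
  · rw [hm, hirr θ hθ]
    simp


/-- A character whose values on the self-centralizing subgroup `P` sum to zero vanishes on
`N(P) \ P`. -/
theorem apply_eq_zero_of_mem_normalizer {G : Type*} [Group G] [Fintype G] (P : Subgroup G)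
    [Fintype P] (hC : ∀ x ∈ P, x ≠ 1 → ∀ g : G, g * x = x * g → g ∈ P)
    (χ : G → ℂ) (hχ : IsCharacter G χ) (h0 : ∑ y : P, χ y = 0)
    {n : G} (hn : n ∈ Subgroup.normalizer (P : Set G)) (hnP : n ∉ P) : χ n = 0 := by
  classical
  letI : Fintype (Subgroup.normalizer (P : Set G)) := Fintype.ofFinite _
  letI : Fintype (P.subgroupOf (Subgroup.normalizer (P : Set G))) := Fintype.ofFinite _
  have hC' : ∀ k ∈ P.subgroupOf (Subgroup.normalizer (P : Set G)), k ≠ 1 →
      Subgroup.centralizer ({k} : Set (Subgroup.normalizer (P : Set G))) ≤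
        P.subgroupOf (Subgroup.normalizer (P : Set G)) := by
    intro k hk hk1 m hm
    rw [Subgroup.mem_centralizer_singleton_iff] at hm
    rw [Subgroup.mem_subgroupOf] at hk ⊢
    apply hC (k : G) hk (fun h => hk1 (Subtype.ext h)) (m : G)
    have := congrArg Subtype.val hm
    simpa using this
  have h0' : ∑ k : P.subgroupOf (Subgroup.normalizer (P : Set G)),
      (fun m : Subgroup.normalizer (P : Set G) => χ m) k = 0 := by
    rw [← h0]
    apply Fintype.sum_equiv (Subgroup.subgroupOfEquivOfLe Subgroup.le_normalizer).toEquiv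
    intro k
    rfl
  have hn' : (⟨n, hn⟩ : Subgroup.normalizer (P : Set G)) ∉
      P.subgroupOf (Subgroup.normalizer (P : Set G)) := by
    rw [Subgroup.mem_subgroupOf]
    exact hnP
  exact apply_eq_zero_of_sum_eq_zero (P.subgroupOf (Subgroup.normalizer (P : Set G))) hC'
    (fun m : Subgroup.normalizer (P : Set G) => χ m)
    (isCharacter_restrict hχ (Subgroup.normalizer (P : Set G))) h0' hn'

end Cfsg.Agent.Lib.Helper7.BrQ
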