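import Mathlib
import Cfsg.Agent.Lib.Helper7.BrP3

set_option autoImplicit false
set_option linter.style.haveILetI false
set_option linter.unusedSectionVars false

namespace Cfsg.Agent.Lib.Helper7.BrQ

open Cfsg.Agent.Lib.Helper7.BrP

/-- The normalizer of a self-centralizing subgroup of prime order `p`, of order `p * e`, contains
an element of order `e`. -/
theorem exists_orderOf_eq {G : Type*} [Group G] [Finite G] (P : Subgroup G) {p : ℕ}
    (hp : p.Prime) (hP : Nat.card P = p)
    (hC : ∀ x ∈ P, x ≠ 1 → ∀ g : G, g * x = x * g → g ∈ P) (e : ℕ)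
    (hN : Nat.card (Subgroup.normalizer (P : Set G)) = p * e) :
    ∃ v ∈ Subgroup.normalizer (P : Set G), orderOf v = e := by
  classical
  haveI : Fact (Nat.card P).Prime := ⟨by rw [hP]; exact hp⟩
  haveI : IsCyclic P := isCyclic_of_prime_card rfl
  haveI : IsCyclic (MulAut P) :=
    (MulEquiv.isCyclic (IsCyclic.mulAutMulEquiv P)).mpr inferInstance
  set φ : Subgroup.normalizer (P : Set G) →* MulAut P :=
    MulDistribMulAction.toMulAut (Subgroup.normalizer (P : Set G)) P with hφ
  -- the kernel
  have hker : ∀ n : Subgroup.normalizer (P : Set G), n ∈ φ.ker ↔ (n : G) ∈ P := by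
    intro n
    rw [MonoidHom.mem_ker]
    constructor
    · intro h
      obtain ⟨x, hx, hx1⟩ := exists_ne_one_mem P hp hP
      apply hC x hx hx1
      have h1 : φ n ⟨x, hx⟩ = ⟨x, hx⟩ := by rw [h]; rfl
      have h2 : ((n • (⟨x, hx⟩ : P) : P) : G) = x := congrArg Subtype.val h1
      have h3 : ((n • (⟨x, hx⟩ : P) : P) : G) = (n : G) * x * (n : G)⁻¹ := rfl
      rw [h3] at h2
      calc (n : G) * x = (n : G) * x * (n : G)⁻¹ * n := by group
        _ = x * n := by rw [h2]
    · intro hn
      ext y
      show ((n • y : P) : G) = y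
      have h3 : ((n • y : P) : G) = (n : G) * y * (n : G)⁻¹ := rfl
      rw [h3, comm_of_prime P hp hP hn y.2, mul_assoc, mul_inv_cancel, mul_one]
  have hcardker : Nat.card φ.ker = p := by
    rw [← hP]
    apply Nat.card_congr
    exact
      { toFun := fun n => ⟨n.1, (hker n.1).mp n.2⟩
        invFun := fun y => ⟨⟨y, Subgroup.le_normalizer y.2⟩, (hker _).mpr y.2⟩
        left_inv := fun n => rfl
        right_inv := fun y => rfl }
  have hcardrange : Nat.card φ.range = e := by
    rw [← Subgroup.index_ker]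
    have h1 := φ.ker.card_mul_index
    rw [hcardker, hN] at h1
    exact Nat.eq_of_mul_eq_mul_left hp.pos h1
  obtain ⟨g, hg⟩ := IsCyclic.exists_generator (α := φ.range)
  have hordg : orderOf g = e := by
    rw [orderOf_eq_card_of_forall_mem_zpowers hg, hcardrange]
  obtain ⟨v, hv⟩ := g.2
  have hord : orderOf (φ v) = e := by
    rw [← hordg, ← Subgroup.orderOf_coe g, ← hv]
  have hdvd : e ∣ orderOf v := hord ▸ orderOf_map_dvd φ v
  have hv0 : orderOf v ≠ 0 := (orderOf_pos v).ne'
  refine ⟨(v ^ (orderOf v / e) : Subgroup.normalizer (P : Set G)), SetLike.coe_mem _, ?_⟩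
  rw [Subgroup.orderOf_coe]
  exact orderOf_pow_orderOf_div hv0 hdvd

end Cfsg.Agent.Lib.Helper7.BrQ
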