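import Mathlib
import Cfsg.Agent.S0995

set_option autoImplicit false
set_option linter.style.haveILetI false
set_option linter.unusedSectionVars false

namespace Cfsg.Agent.Lib.Helper7.BrQ

open Cfsg.Agent.Lib.Helper4.Sylow Cfsg.Agent.S0995

/-- The subgroup generated by a self-centralizing element of prime order is self-centralizing. -/
theorem self_centralizing_zpowers {G : Type*} [Group G] (p : ℕ) [hp : Fact p.Prime] (x : G)
    (hx : orderOf x = p) (hC : Subgroup.centralizer ({x} : Set G) = Subgroup.zpowers x) :
    ∀ y ∈ Subgroup.zpowers x, y ≠ 1 → ∀ g : G, g * y = y * g → g ∈ Subgroup.zpowers x := by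
  intro y hy hy1 g hg
  have hcard : Nat.card (Subgroup.zpowers x) = p := by rw [Nat.card_zpowers, hx]
  have h1 := eq_zpowers_of_card_prime (Subgroup.zpowers x) hcard y hy hy1
  have hxy : x ∈ Subgroup.zpowers y := by rw [← h1]; exact Subgroup.mem_zpowers x
  rw [← hC, Subgroup.mem_centralizer_singleton_iff]
  exact (commute_of_mem_zpowers g y x hg hxy).eq

/-- The number of classes of elements of order `p` times `|N(P) : P|` is `p - 1`. -/
theorem card_classes_mul {G : Type*} [Group G] [Finite G] (p : ℕ) [hp : Fact p.Prime] (x : G)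
    (hx : orderOf x = p) (hC : Subgroup.centralizer ({x} : Set G) = Subgroup.zpowers x) (e : ℕ)
    (hN : Nat.card (Subgroup.normalizer ((Subgroup.zpowers x : Subgroup G) : Set G)) = p * e) :
    Nat.card {C : ConjClasses G // ∃ g ∈ C.carrier, orderOf g = p} * e = p - 1 := by
  obtain ⟨P, hP⟩ := exists_sylow_eq_zpowers p x hx hC
  have hPcard : Nat.card (P : Subgroup G) = p := by rw [hP, Nat.card_zpowers, hx]
  have hcard : ∀ Q : Sylow p G, Nat.card (Q : Subgroup G) = p := fun Q =>
    (Q.card_eq_multiplicity).trans (P.card_eq_multiplicity.symm.trans hPcard)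
  have hcen := card_centralizer_of_orderOf_eq p x hx hC P hP
  have hCcount := card_orderOf_eq_prime (G := G) p hcard
  have hDcount := card_orderOf_eq_mul (G := G) p hcen
  have hequiv : Nat.card {C : ConjClasses G // ∃ g ∈ C.carrier, orderOf g = p} =
      Nat.card {c : ConjClasses G // ∃ g : G, ConjClasses.mk g = c ∧ orderOf g = p} := by
    apply Nat.card_congr
    apply Equiv.subtypeEquivRight
    intro C
    constructor
    · rintro ⟨g, hg, hgo⟩
      exact ⟨g, ConjClasses.mem_carrier_iff_mk_eq.mp hg, hgo⟩
    · rintro ⟨g, hg, hgo⟩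
      exact ⟨g, ConjClasses.mem_carrier_iff_mk_eq.mpr hg, hgo⟩
  rw [hequiv]
  set t := Nat.card {c : ConjClasses G // ∃ g : G, ConjClasses.mk g = c ∧ orderOf g = p} with ht
  set np := Nat.card (Sylow p G) with hnp
  have hkey : t * Nat.card G = np * (p - 1) * p := by
    rw [← hDcount, hCcount]
  have hN' := card_sylow_mul_card_normalizer P
  rw [hP, hN] at hN'
  have h1 : t * (np * (p * e)) = np * (p - 1) * p := by
    rw [hN']; exact hkey
  have hnppos : 0 < np * p := Nat.mul_pos Nat.card_pos hp.out.pos
  have h2 : (np * p) * (t * e) = (np * p) * (p - 1) := by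
    calc (np * p) * (t * e) = t * (np * (p * e)) := by ring
      _ = np * (p - 1) * p := h1
      _ = (np * p) * (p - 1) := by ring
  exact Nat.eq_of_mul_eq_mul_left hnppos h2

end Cfsg.Agent.Lib.Helper7.BrQ
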