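import Mathlib
import Cfsg.Agent.S0995

set_option autoImplicit false
set_option linter.style.haveILetI false
set_option linter.unusedSectionVars false

namespace Cfsg.Agent.Lib.Helper7.BrQ

open Cfsg.Agent.S0995

/-- A group with a self-centralizing involution has a commutator subgroup of even index. -/
theorem even_index_of_two {G : Type*} [Group G] [Finite G] (x : G) (hx : orderOf x = 2)
    (hC : Subgroup.centralizer ({x} : Set G) = Subgroup.zpowers x) :
    Even (commutator G).index := by
  haveI : Fact (Nat.Prime 2) := ⟨Nat.prime_two⟩
  obtain ⟨P, hP⟩ := exists_sylow_eq_zpowers 2 x hx hC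
  have hx1 : x ≠ 1 := by
    rintro rfl
    rw [orderOf_one] at hx
    omega
  have hPN : Subgroup.normalizer ((P : Subgroup G) : Set G) ≤
      Subgroup.centralizer ((P : Subgroup G) : Set G) := by
    intro n hn
    rw [hP] at hn ⊢
    have h1 : n * x * n⁻¹ ∈ Subgroup.zpowers x :=
      (Subgroup.mem_normalizer_iff.mp hn x).mp (Subgroup.mem_zpowers x)
    have h2 : n * x * n⁻¹ = x := by
      obtain ⟨k, hk⟩ := Subgroup.mem_zpowers_iff.mp h1
      have hk' : x ^ k = x ^ (k % 2) := by
        have := zpow_mod_orderOf x k
        rw [hx] at this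
        exact this.symm
      have hk2 : k % 2 = 0 ∨ k % 2 = 1 := by omega
      rcases hk2 with h | h
      · rw [hk', h, zpow_zero] at hk
        exfalso
        apply hx1
        have : x = n⁻¹ * (n * x * n⁻¹) * n := by group
        rw [this, ← hk]; group
      · rw [hk', h, zpow_one] at hk
        exact hk.symm
    have h3 : n * x = x * n := by
      calc n * x = n * x * n⁻¹ * n := by group
        _ = x * n := by rw [h2]
    rw [Subgroup.mem_centralizer_iff]
    intro y hy
    exact ((commute_of_mem_zpowers n x y h3 hy).eq).symm
  have hcompl := MonoidHom.ker_transferSylow_isComplement' P hPN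
  have hidx : (MonoidHom.transferSylow P hPN).ker.index = 2 := by
    have h1 := hcompl.symm.index_eq_card
    rw [h1, hP, Nat.card_zpowers, hx]
  have hle : commutator G ≤ (MonoidHom.transferSylow P hPN).ker := by
    rw [commutator_def, Subgroup.commutator_le]
    intro a _ b _
    rw [MonoidHom.mem_ker, map_commutatorElement, commutatorElement_eq_one_iff_commute]
    have hcomm : ∀ u v : (P : Subgroup G), u * v = v * u := fun u v =>
      Subtype.ext (hPN (Subgroup.le_normalizer v.2) u u.2)
    exact hcomm _ _
  rw [even_iff_two_dvd, ← hidx]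
  exact Subgroup.index_dvd_of_le hle

end Cfsg.Agent.Lib.Helper7.BrQ
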