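import Mathlib
import Cfsg.Prelude.Def_Characters
import Cfsg.Agent.Lib.Helper7.ExcA4

set_option autoImplicit false
set_option linter.style.haveILetI false
set_option linter.unusedSectionVars false
set_option maxHeartbeats 800000

/-!
# Exceptional characters for an abelian trivial-intersection subgroup: the main theorem
-/

namespace Cfsg.Agent.Lib.Helper7.ExcA

open Cfsg Cfsg.Agent.Lib.helper3.Irr Cfsg.Agent.Lib.helper3.CharBasic
open Cfsg.Agent.Lib.helper3.IndFun Cfsg.Agent.Lib.helper3.CycTI Cfsg.Agent.Lib.Helper7.BrP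
open Cfsg.Agent.Lib.helper3.Pf4
open scoped ComplexConjugate

variable {G : Type*} [Group G] [Fintype G] {A R : Subgroup G}

/-- The exceptional characters attached to the family. -/
theorem main [Fintype (Subgroup.normalizer (A : Set G))] (h : Hyp A R) (e : ℕ)
    (hN : Nat.card (Subgroup.normalizer (A : Set G)) = Nat.card A * e)
    (hcard : e * (e + 2) ≤ Nat.card {ω : A →* ℂˣ // IsFam A R ω})
    (hcard2 : (∃ β : A →* ℂˣ, β ≠ 1 ∧ ¬ IsFam A R β) →
      2 * e * e < Nat.card {ω : A →* ℂˣ // IsFam A R ω}) :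
    ∃ (ε : ℤ) (M : {ω : A →* ℂˣ // IsFam A R ω} → IrrCharacter G) (f : ℕ),
      (ε = 1 ∨ ε = -1) ∧
      (∀ a b, M a = M b ↔ ∃ n : Subgroup.normalizer (A : Set G), a.1 = cj A n b.1) ∧
      (∀ a, M a ≠ trivIrr G) ∧
      (∀ a, (M a : G → ℂ) 1 = f) ∧
      (∀ a b, (M a : G → ℂ) - (M b : G → ℂ) = (ε : ℂ) • indFun A (linFun a.1 - linFun b.1)) ∧
      (∀ a (x : A), x ≠ 1 → (M a : G → ℂ) x
        = (ε : ℂ) * ((Nat.card A : ℂ)⁻¹ *
            ∑ n : Subgroup.normalizer (A : Set G), ((cj A n a.1 x : ℂˣ) : ℂ))) := by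
  classical
  letI : Fintype A := Fintype.ofFinite A
  letI : Fintype (A →* ℂˣ) := Fintype.ofFinite _
  letI : Fintype {ω : A →* ℂˣ // IsFam A R ω} := Fintype.ofFinite _
  letI : Fintype (Quotient (famSetoid A R)) := Fintype.ofFinite _
  have hcf := card_fam h e hN
  have he : 0 < e := by
    rcases Nat.eq_zero_or_pos e with h0 | h0
    · rw [h0, mul_zero] at hN
      exact absurd hN Nat.card_pos.ne'
    · exact h0
  have hι : e + 2 ≤ Fintype.card (Quotient (famSetoid A R)) := by
    rw [hcf, Nat.card_eq_fintype_card] at hcard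
    exact Nat.le_of_mul_le_mul_left hcard he
  haveI : Nonempty (Quotient (famSetoid A R)) := by
    rw [← Fintype.card_pos_iff]; omega
  obtain ⟨i₀⟩ := ‹Nonempty (Quotient (famSetoid A R))›
  obtain ⟨Ξ, hΞ⟩ : ∃ Ξ : Quotient (famSetoid A R) → (G → ℂ), ∀ q, Ξ q = Xi A (Quotient.out q).1 :=
    ⟨fun q => Xi A (Quotient.out q).1, fun _ => rfl⟩
  -- `Ξ` on the class of `a` is `Xi A a`
  have hΞmk : ∀ a : {ω : A →* ℂˣ // IsFam A R ω}, Ξ (Quotient.mk (famSetoid A R) a) = Xi A a.1 := by
    intro a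
    obtain ⟨n, hn⟩ : (famSetoid A R).r (Quotient.out (Quotient.mk (famSetoid A R) a)) a :=
      Quotient.exact (s := famSetoid A R) (Quotient.out_eq _)
    rw [hΞ, hn, Xi_cj]
  have hgram : ∀ i j, classInner (Ξ i) (Ξ j) = if i = j then (e : ℂ) + 1 else e := by
    intro i j
    rw [hΞ, hΞ]
    have hg := gram_fam h e hN (Quotient.out i).2 (Quotient.out j).2
    by_cases hij : i = j
    · rw [if_pos hij]
      apply hg.1 1
      rw [cj_one_left, hij]
    · rw [if_neg hij]
      apply hg.2
      intro n₀ hn₀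
      apply hij
      have : (famSetoid A R).r (Quotient.out i) (Quotient.out j) := ⟨n₀, hn₀⟩
      have h2 := Quotient.sound (s := famSetoid A R) this
      rwa [Quotient.out_eq, Quotient.out_eq] at h2
  obtain ⟨ε, Mq, hε, hMinj, hMtriv, hinner, hdiff⟩ := core2 i₀ e Ξ
    (fun i => by rw [hΞ]; exact Xi_isGeneralizedCharacter A _)
    (fun i => by rw [hΞ]; exact Xi_apply_one A _) hgram
    (fun i => by rw [hΞ]; exact classInner_Xi_one A (Quotient.out i).2.ne_one) hι
  have hεsq : (ε : ℂ) * (ε : ℂ) = 1 := by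
    rcases hε with h1 | h1 <;> rw [h1] <;> norm_num
  -- the remaining nontrivial characters
  have hextra : ∀ β : A →* ℂˣ, β ≠ 1 → ¬ IsFam A R β → ∀ j,
      classInner (Xi A β) (Mq j : G → ℂ) = 0 := by
    intro β hβ hβ'
    have h2 := hcard2 ⟨β, hβ, hβ'⟩
    have hι2 : 2 * e < Fintype.card (Quotient (famSetoid A R)) := by
      rw [hcf, Nat.card_eq_fintype_card] at h2
      have : e * (2 * e) < e * Fintype.card (Quotient (famSetoid A R)) := by
        calc e * (2 * e) = 2 * e * e := by ring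
          _ < _ := h2
      exact Nat.lt_of_mul_lt_mul_left this
    apply extra_zero e Mq hMinj (Xi A β) (Xi_isGeneralizedCharacter A β) _
      (gram_self_le h e hN hβ) hι2
    intro i j
    have h3 : classInner (Xi A β) (Ξ i - Ξ j) = 0 := by
      rw [classInner_sub_right, hΞ, hΞ, gram_mixed h e hN hβ hβ' (Quotient.out i).2,
        gram_mixed h e hN hβ hβ' (Quotient.out j).2, sub_self]
    rw [hdiff, classInner_smul_right, classInner_sub_right] at h3
    have hεne : conj (ε : ℂ) ≠ 0 := by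
      rw [map_intCast]
      rcases hε with h1 | h1 <;> rw [h1] <;> norm_num
    have h4 := (mul_eq_zero.mp h3).resolve_left hεne
    exact (sub_eq_zero.mp h4).symm
  -- multiplicities
  have hmult : ∀ (j : Quotient (famSetoid A R)), ∃ nn : (A →* ℂˣ) → ℕ,
      (∀ ω : A →* ℂˣ, classInner (fun x : A => (Mq j : G → ℂ) x) (linFun ω) = nn ω) ∧
      (∀ ω : A →* ℂˣ, ω ≠ 1 → (nn ω : ℂ) = (nn 1 : ℂ) +
        (ε : ℂ) * (if ∃ hω : IsFam A R ω, Quotient.mk (famSetoid A R) ⟨ω, hω⟩ = j
          then 1 else 0)) := by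
    intro j
    have hψc := isCharacter_of_isIrrCharacter (Mq j).2
    have hψP : IsCharacter A (fun x : A => (Mq j : G → ℂ) x) := isCharacter_restrict hψc A
    have hnat : ∀ ω : A →* ℂˣ, ∃ k : ℕ,
        classInner (fun x : A => (Mq j : G → ℂ) x) (linFun ω) = k := fun ω =>
      exists_nat_classInner_of_isCharacter hψP ⟨linFun ω, isIrrCharacter_linFun ω⟩
    choose nn hnn using hnat
    refine ⟨nn, hnn, ?_⟩
    have hnn' : ∀ ω : A →* ℂˣ,
        classInner (linFun ω) (fun x : A => (Mq j : G → ℂ) x) = nn ω := by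
      intro ω
      rw [← classInner_conj_symm, hnn, Complex.conj_natCast]
    intro ω hω1
    have hXi : classInner (Xi A ω) (Mq j : G → ℂ) = (nn 1 : ℂ) - (nn ω : ℂ) := by
      rw [classInner_Xi A ω _ (isClassFunction_of_isCharacter hψc), hnn', hnn']
    by_cases hω : IsFam A R ω
    · have h5 := hinner (Quotient.mk (famSetoid A R) ⟨ω, hω⟩) j
      rw [hΞmk] at h5
      simp only at h5
      rw [hXi] at h5
      by_cases hq : Quotient.mk (famSetoid A R) ⟨ω, hω⟩ = j
      · rw [if_pos hq] at h5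
        rw [if_pos ⟨hω, hq⟩]
        linear_combination -h5
      · rw [if_neg hq] at h5
        rw [if_neg (fun hh => hq hh.2)]
        linear_combination -h5
    · have h5 := hextra ω hω1 hω j
      rw [hXi] at h5
      rw [if_neg (fun hh => hω hh.1)]
      linear_combination -h5
  -- values
  have hval : ∀ (a : {ω : A →* ℂˣ // IsFam A R ω}) (x : A), x ≠ 1 →
      (Mq (Quotient.mk (famSetoid A R) a) : G → ℂ) x
        = (ε : ℂ) * ((Nat.card A : ℂ)⁻¹ *
            ∑ n : Subgroup.normalizer (A : Set G), ((cj A n a.1 x : ℂˣ) : ℂ)) := by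
    intro a x hx
    obtain ⟨nn, hnn, hrel⟩ := hmult (Quotient.mk (famSetoid A R) a)
    have hψc := isCharacter_of_isIrrCharacter (Mq (Quotient.mk (famSetoid A R) a)).2
    have hψP : IsCharacter A (fun x : A => (Mq (Quotient.mk (famSetoid A R) a) : G → ℂ) x) :=
      isCharacter_restrict hψc A
    have hc : ∀ a b : A, a * b = b * a := fun a b => Subtype.ext (h.comm a a.2 b b.2)
    have hdec := isCharacter_eq_sum_hom hc hψP
    have h1 := congrFun hdec x
    simp only [Finset.sum_apply, Pi.smul_apply, smul_eq_mul, hnn] at h1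
    have hS0 := sum_hom_apply h.comm x hx
    have h2 : ∀ ω : A →* ℂˣ, (nn ω : ℂ) * linFun ω x
        = (nn 1 : ℂ) * ((ω x : ℂˣ) : ℂ) + (ε : ℂ) *
          (if (∃ n : Subgroup.normalizer (A : Set G), ω = cj A n a.1)
            then ((ω x : ℂˣ) : ℂ) else 0) := by
      intro ω
      by_cases hω1 : ω = 1
      · have hno : ¬ ∃ n : Subgroup.normalizer (A : Set G), ω = cj A n a.1 := by
          rintro ⟨n, hn⟩
          rw [hω1] at hn
          exact a.2.ne_one ((cj_eq_one_iff A n a.1).mp hn.symm)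
        rw [if_neg hno, hω1]
        simp [linFun]
      · rw [hrel ω hω1]
        have hiff : (∃ hω : IsFam A R ω, Quotient.mk (famSetoid A R) ⟨ω, hω⟩
            = Quotient.mk (famSetoid A R) a) ↔
            ∃ n : Subgroup.normalizer (A : Set G), ω = cj A n a.1 := by
          constructor
          · rintro ⟨hω, hq⟩
            exact Quotient.exact (s := famSetoid A R) hq
          · rintro ⟨n, hn⟩
            have hω : IsFam A R ω := by rw [hn]; exact isFam_cj h n a.2
            exact ⟨hω, Quotient.sound (s := famSetoid A R) ⟨n, hn⟩⟩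
        by_cases hex : ∃ n : Subgroup.normalizer (A : Set G), ω = cj A n a.1
        · rw [if_pos (hiff.mpr hex), if_pos hex]
          show _ * ((ω x : ℂˣ) : ℂ) = _
          ring
        · rw [if_neg (fun hh => hex (hiff.mp hh)), if_neg hex]
          show _ * ((ω x : ℂˣ) : ℂ) = _
          ring
    rw [h1, Finset.sum_congr rfl (fun ω _ => h2 ω), Finset.sum_add_distrib, ← Finset.mul_sum,
      ← Finset.mul_sum, hS0, mul_zero, zero_add]
    congr 1
    have h3 := sum_cj h a.2 (fun ω : A →* ℂˣ => ((ω x : ℂˣ) : ℂ))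
    rw [h3, ← mul_assoc, inv_mul_cancel₀ (card_ne_zero_complex A), one_mul]
    apply Finset.sum_congr rfl
    intro ω _
    split_ifs <;> rfl
  -- degrees
  have hdeg : ∀ i j, (Mq i : G → ℂ) 1 = (Mq j : G → ℂ) 1 := by
    intro i j
    have h1 := congrFun (hdiff i j) 1
    simp only [Pi.sub_apply, Pi.smul_apply, smul_eq_mul] at h1
    rw [hΞ, hΞ, Xi_apply_one, Xi_apply_one, sub_zero] at h1
    have hεne : (ε : ℂ) ≠ 0 := by
      rcases hε with h1 | h1 <;> rw [h1] <;> norm_num
    have h4 := (mul_eq_zero.mp h1.symm).resolve_left hεne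
    exact (sub_eq_zero.mp h4).symm
  obtain ⟨f, hf⟩ := exists_nat_apply_one (isCharacter_of_isIrrCharacter (Mq i₀).2)
  refine ⟨ε, fun a => Mq (Quotient.mk (famSetoid A R) a), f, hε, ?_, ?_, ?_, ?_, hval⟩
  · intro a b
    constructor
    · intro hab
      exact Quotient.exact (s := famSetoid A R) (hMinj hab)
    · intro hr
      show Mq _ = Mq _
      rw [Quotient.sound (s := famSetoid A R) hr]
  · intro a
    exact hMtriv _
  · intro a
    rw [hdeg _ i₀, hf]
  · intro a b
    have h1 := hdiff (Quotient.mk (famSetoid A R) b) (Quotient.mk (famSetoid A R) a)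
    rw [hΞmk, hΞmk, Xi_sub] at h1
    rw [h1, smul_smul, hεsq, one_smul]

end Cfsg.Agent.Lib.Helper7.ExcA
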