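import Mathlib
import Cfsg.Prelude.Def_Characters
import Cfsg.Agent.Lib.Helper7.ExcA3

set_option autoImplicit false
set_option linter.style.haveILetI false
set_option linter.unusedSectionVars false

/-!
# Exceptional characters for an abelian trivial-intersection subgroup: involutions and counting
-/

namespace Cfsg.Agent.Lib.Helper7.ExcA

open Cfsg Cfsg.Agent.Lib.Helper7.BrP

variable {G : Type*} [Group G] {A R : Subgroup G}

/-- Summing along a map all of whose fibres have the same size. -/
theorem sum_comp_eq_of_fiber {X Y : Type*} [Fintype X] [Fintype Y] [DecidableEq Y] (φ : X → Y)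
    (c : ℕ) (hφ : ∀ y, (Finset.univ.filter (fun x => φ x = y)).card = c) (F : Y → ℂ) :
    ∑ x, F (φ x) = (c : ℂ) * ∑ y, F y := by
  rw [← Finset.sum_fiberwise (s := Finset.univ) (g := φ) (f := fun x => F (φ x)), Finset.mul_sum]
  apply Finset.sum_congr rfl
  intro y _
  have h1 : ∑ x ∈ Finset.univ.filter (fun x => φ x = y), F (φ x)
      = ∑ x ∈ Finset.univ.filter (fun x => φ x = y), F y := by
    apply Finset.sum_congr rfl
    intro x hx
    rw [(Finset.mem_filter.mp hx).2]
  rw [h1, Finset.sum_const, nsmul_eq_mul, hφ]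

/-- The involutions of `A`, as elements of `A`. -/
abbrev Inv (A : Subgroup G) := {v : A // v ^ 2 = 1 ∧ v ≠ 1}

/-- The conjugation map from the normalizer to the involutions of `A`. -/
def invMap (t : Inv A) (n : Subgroup.normalizer (A : Set G)) : Inv A :=
  ⟨n⁻¹ • t.1, by
    rw [← smul_pow', t.2.1, smul_one], by
    intro hh
    apply t.2.2
    have := congrArg (fun z => n • z) hh
    simpa using this⟩

theorem invMap_coe (t : Inv A) (n : Subgroup.normalizer (A : Set G)) :
    ((invMap t n).1 : A) = n⁻¹ • t.1 := rfl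

/-- An element of the normalizer fixing an involution of `A` lies in `A`. -/
theorem mem_of_smul_eq (h : Hyp A R) (hinvR : ∀ v : Inv A, ((v.1 : A) : G) ∈ R) (t : Inv A)
    (m : Subgroup.normalizer (A : Set G)) (hm : m⁻¹ • t.1 = t.1) : (m : G) ∈ A := by
  have ht1 : ((t.1 : A) : G) ≠ 1 := fun e => t.2.2 (Subtype.ext e)
  apply h.cent _ (hinvR t) ht1
  have e2 := congrArg Subtype.val hm
  rw [coe_inv_smul] at e2
  calc (m : G) * ((t.1 : A) : G) = (m : G) * ((m : G)⁻¹ * ((t.1 : A) : G) * (m : G)) := by rw [e2]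
    _ = ((t.1 : A) : G) * (m : G) := by group

theorem smul_eq_of_mem (h : Hyp A R) (x : A) (m : Subgroup.normalizer (A : Set G))
    (hm : (m : G) ∈ A) : m⁻¹ • x = x := by
  apply Subtype.ext
  rw [coe_inv_smul, mul_assoc, h.comm x x.2 m hm, ← mul_assoc, inv_mul_cancel, one_mul]

/-- The fibres of the conjugation map have `|A|` elements. -/
theorem card_invMap_fiber [Finite G] (h : Hyp A R) (hinvR : ∀ v : Inv A, ((v.1 : A) : G) ∈ R)
    (hfus : ∀ s t : Inv A, ∃ n : Subgroup.normalizer (A : Set G), n⁻¹ • t.1 = s.1)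
    (t v : Inv A) :
    Nat.card {n : Subgroup.normalizer (A : Set G) // invMap t n = v} = Nat.card A := by
  obtain ⟨n₀, hn₀⟩ := hfus v t
  have e1 : {n : Subgroup.normalizer (A : Set G) // invMap t n = v} ≃
      {m : Subgroup.normalizer (A : Set G) // (m : G) ∈ A} :=
    { toFun := fun n => ⟨n.1 * n₀⁻¹, by
        apply mem_of_smul_eq h hinvR t
        have h1 : n.1⁻¹ • t.1 = v.1 := congrArg Subtype.val n.2
        rw [mul_inv_rev, inv_inv, mul_smul, h1, ← hn₀, smul_inv_smul]⟩
      invFun := fun m => ⟨m.1 * n₀, by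
        apply Subtype.ext
        rw [invMap_coe, mul_inv_rev, mul_smul, smul_eq_of_mem h t.1 m.1 m.2, hn₀]⟩
      left_inv := fun n => by simp
      right_inv := fun m => by simp }
  have e2 : {n : Subgroup.normalizer (A : Set G) // (n : G) ∈ A} ≃ A :=
    { toFun := fun n => ⟨n.1, n.2⟩
      invFun := fun x => ⟨⟨x, Subgroup.le_normalizer x.2⟩, x.2⟩
      left_inv := fun n => rfl
      right_inv := fun x => rfl }
  rw [Nat.card_congr (e1.trans e2)]

/-- Summing over the conjugates of an involution. -/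
theorem sum_invMap [Finite G] (h : Hyp A R) (hinvR : ∀ v : Inv A, ((v.1 : A) : G) ∈ R)
    (hfus : ∀ s t : Inv A, ∃ n : Subgroup.normalizer (A : Set G), n⁻¹ • t.1 = s.1)
    (t : Inv A) [Fintype (Subgroup.normalizer (A : Set G))] [Fintype (Inv A)] (F : Inv A → ℂ) :
    ∑ n : Subgroup.normalizer (A : Set G), F (invMap t n) = (Nat.card A : ℂ) * ∑ v : Inv A, F v := by
  classical
  apply sum_comp_eq_of_fiber
  intro v
  rw [← card_invMap_fiber h hinvR hfus t v, Nat.card_eq_fintype_card, Fintype.card_subtype]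

/-- The order of the normalizer. -/
theorem card_normalizer [Finite G] (h : Hyp A R) (hinvR : ∀ v : Inv A, ((v.1 : A) : G) ∈ R)
    (hfus : ∀ s t : Inv A, ∃ n : Subgroup.normalizer (A : Set G), n⁻¹ • t.1 = s.1)
    (t : Inv A) :
    Nat.card (Subgroup.normalizer (A : Set G)) = Nat.card A * Nat.card (Inv A) := by
  classical
  letI : Fintype (Subgroup.normalizer (A : Set G)) := Fintype.ofFinite _
  letI : Fintype (Inv A) := Fintype.ofFinite _
  have h1 := sum_invMap h hinvR hfus t (fun _ => (1 : ℂ))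
  simp only [Finset.sum_const, Finset.card_univ, nsmul_eq_mul, mul_one] at h1
  rw [Nat.card_eq_fintype_card, Nat.card_eq_fintype_card (α := Inv A)]
  exact_mod_cast h1

end Cfsg.Agent.Lib.Helper7.ExcA
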