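import Mathlib
import Cfsg.Prelude.Def_Characters
import Cfsg.Agent.Lib.Helper7.ExcA6

set_option autoImplicit false
set_option linter.style.haveILetI false
set_option linter.unusedSectionVars false

/-!
# Exceptional characters for an abelian trivial-intersection subgroup: arithmetic of the orders
-/

namespace Cfsg.Agent.Lib.Helper7.ExcA

open Cfsg Cfsg.Agent.Lib.Helper7.BrP

variable {G : Type*} [Group G] {A R : Subgroup G}

/-- The index of `A` in its normalizer divides `|R| - 1`. -/
theorem dvd_card_sub_one [Finite G] (h : Hyp A R) (e : ℕ)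
    (hN : Nat.card (Subgroup.normalizer (A : Set G)) = Nat.card A * e) :
    e ∣ Nat.card R - 1 := by
  classical
  letI : MulAction (Subgroup.normalizer (A : Set G)) {y : A // (y : G) ∈ R ∧ y ≠ 1} :=
    { smul := fun n y => ⟨n • y.1, by
        rw [coe_smul']; exact h.norm n n.2 _ y.2.1, by
        intro hh
        apply y.2.2
        have := congrArg (fun z => n⁻¹ • z) hh
        simpa using this⟩
      one_smul := fun y => Subtype.ext (one_smul _ y.1)
      mul_smul := fun n m y => Subtype.ext (mul_smul n m y.1) }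
  have hsmul : ∀ (n : Subgroup.normalizer (A : Set G)) (y : {y : A // (y : G) ∈ R ∧ y ≠ 1}),
      ((n • y : {y : A // (y : G) ∈ R ∧ y ≠ 1}) : A) = n • y.1 := fun _ _ => rfl
  letI : Fintype (Subgroup.normalizer (A : Set G)) := Fintype.ofFinite _
  letI : Fintype {y : A // (y : G) ∈ R ∧ y ≠ 1} := Fintype.ofFinite _
  letI : Fintype (Quotient (MulAction.orbitRel (Subgroup.normalizer (A : Set G))
    {y : A // (y : G) ∈ R ∧ y ≠ 1})) := Fintype.ofFinite _
  letI : ∀ b : {y : A // (y : G) ∈ R ∧ y ≠ 1},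
      Fintype (MulAction.stabilizer (Subgroup.normalizer (A : Set G)) b) :=
    fun b => Fintype.ofFinite _
  have hstab : ∀ y : {y : A // (y : G) ∈ R ∧ y ≠ 1},
      Fintype.card (MulAction.stabilizer (Subgroup.normalizer (A : Set G)) y) = Nat.card A := by
    intro y
    rw [← Nat.card_eq_fintype_card]
    apply Nat.card_congr
    have hy1 : ((y.1 : A) : G) ≠ 1 := fun e => y.2.2 (Subtype.ext e)
    refine ⟨fun n => ⟨(n.1 : G), ?_⟩, fun x => ⟨⟨x, Subgroup.le_normalizer x.2⟩, ?_⟩, ?_, ?_⟩
    · apply h.cent _ y.2.1 hy1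
      have h1 : n.1 • y = y := n.2
      have h2 := congrArg (fun z : {y : A // (y : G) ∈ R ∧ y ≠ 1} => ((z.1 : A) : G)) h1
      simp only [hsmul, coe_smul'] at h2
      calc ((n.1 : Subgroup.normalizer (A : Set G)) : G) * ((y.1 : A) : G)
          = (n.1 : G) * ((y.1 : A) : G) * (n.1 : G)⁻¹ * (n.1 : G) := by group
        _ = ((y.1 : A) : G) * (n.1 : G) := by rw [h2]
    · rw [MulAction.mem_stabilizer_iff]
      apply Subtype.ext
      rw [hsmul]
      apply Subtype.ext
      rw [coe_smul']
      show (x : G) * ((y.1 : A) : G) * (x : G)⁻¹ = _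
      rw [h.comm x x.2 _ y.1.2, mul_assoc, mul_inv_cancel, mul_one]
    · intro n
      rfl
    · intro x
      rfl
  have hcf := MulAction.card_eq_sum_card_group_div_card_stabilizer
    (Subgroup.normalizer (A : Set G)) {y : A // (y : G) ∈ R ∧ y ≠ 1}
  have hdiv : Fintype.card (Subgroup.normalizer (A : Set G)) / Nat.card A = e := by
    rw [← Nat.card_eq_fintype_card, hN]
    exact Nat.mul_div_cancel_left e Nat.card_pos
  simp_rw [hstab, hdiv] at hcf
  rw [Finset.sum_const, Finset.card_univ, smul_eq_mul] at hcf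
  have hX : Fintype.card {y : A // (y : G) ∈ R ∧ y ≠ 1} = Nat.card R - 1 := by
    have e1 : {y : A // (y : G) ∈ R ∧ y ≠ 1} ≃ {z : R // z ≠ 1} :=
      { toFun := fun y => ⟨⟨y.1.1, y.2.1⟩, fun hh => y.2.2 (Subtype.ext
          (show ((y.1 : A) : G) = 1 from congrArg Subtype.val hh))⟩
        invFun := fun z => ⟨⟨z.1.1, h.le z.1.2⟩, z.1.2,
          fun hh => z.2 (Subtype.ext (show ((z.1 : R) : G) = 1 from congrArg Subtype.val hh))⟩
        left_inv := fun y => rfl
        right_inv := fun z => rfl }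
    letI : Fintype R := Fintype.ofFinite _
    rw [Fintype.card_congr e1, Fintype.card_subtype_compl, Fintype.card_subtype_eq,
      Nat.card_eq_fintype_card]
  rw [hX] at hcf
  exact ⟨_, hcf.trans (mul_comm _ _)⟩

/-- The involutions of `A` together with the identity form a group of order `2 ^ m`. -/
theorem card_inv_add_one [Finite G] (h : Hyp A R) :
    ∃ (V : Subgroup A) (m : ℕ), (∀ x : A, x ∈ V ↔ x ^ 2 = 1) ∧ Nat.card V = 2 ^ m ∧
      Nat.card (Inv A) + 1 = 2 ^ m := by
  classical
  have hc : ∀ a b : A, a * b = b * a := fun a b => Subtype.ext (h.comm a a.2 b b.2)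
  obtain ⟨V, hV⟩ : ∃ V : Subgroup A, ∀ x : A, x ∈ V ↔ x ^ 2 = 1 :=
    ⟨{ carrier := {x | x ^ 2 = 1}
       mul_mem' := by
         intro a b ha hb
         show (a * b) ^ 2 = 1
         rw [(show Commute a b from hc a b).mul_pow, ha, hb, one_mul]
       one_mem' := one_pow 2
       inv_mem' := by
         intro a ha
         show a⁻¹ ^ 2 = 1
         rw [inv_pow, ha, inv_one] }, fun x => Iff.rfl⟩
  have hp : IsPGroup 2 V := by
    intro x
    refine ⟨1, ?_⟩
    apply Subtype.ext
    have := (hV x.1).mp x.2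
    simpa using this
  haveI : Fact (Nat.Prime 2) := ⟨Nat.prime_two⟩
  obtain ⟨m, hm⟩ := hp.exists_card_eq
  refine ⟨V, m, hV, hm, ?_⟩
  have e1 : Inv A ≃ {z : V // z ≠ 1} :=
    { toFun := fun v => ⟨⟨v.1, (hV v.1).mpr v.2.1⟩,
        fun hh => v.2.2 (congrArg Subtype.val hh)⟩
      invFun := fun z => ⟨z.1.1, (hV z.1.1).mp z.1.2,
        fun hh => z.2 (Subtype.ext hh)⟩
      left_inv := fun v => rfl
      right_inv := fun z => rfl }
  letI : Fintype V := Fintype.ofFinite _
  rw [Nat.card_congr e1, Nat.card_eq_fintype_card, Fintype.card_subtype_compl,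
    Fintype.card_subtype_eq, ← Nat.card_eq_fintype_card, hm]
  have : 1 ≤ 2 ^ m := Nat.one_le_two_pow
  omega

end Cfsg.Agent.Lib.Helper7.ExcA
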