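import Mathlib
import Cfsg.Prelude.Def_Characters
import Cfsg.Agent.Lib.Helper7.ExcA7

set_option autoImplicit false
set_option linter.style.haveILetI false
set_option linter.unusedSectionVars false

/-!
# Exceptional characters for an abelian trivial-intersection subgroup: the size of the family
-/

namespace Cfsg.Agent.Lib.Helper7.ExcA

open Cfsg Cfsg.Agent.Lib.Helper7.BrP

variable {G : Type*} [Group G] {A R : Subgroup G}

/-- The number of linear characters of `A` outside the family is `|A : R|`. -/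
theorem card_not_fam [Finite G] (h : Hyp A R) :
    Nat.card {ω : A →* ℂˣ // ¬ IsFam A R ω} = (R.subgroupOf A).index := by
  classical
  letI : CommGroup A := { (inferInstance : Group A) with
    mul_comm := fun a b => Subtype.ext (h.comm a a.2 b b.2) }
  haveI : NeZero ((Monoid.exponent A : ℕ) : ℂ) :=
    ⟨Nat.cast_ne_zero.mpr Monoid.exponent_ne_zero_of_finite⟩
  have h1 := CommGroup.card_domRestrictHom_ker (G := A) (M := ℂ) (R.subgroupOf A)
  rw [Subgroup.index, ← h1]
  apply Nat.card_congr
  apply Equiv.subtypeEquivRight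
  intro ω
  rw [MonoidHom.mem_ker]
  constructor
  · intro hω
    ext y
    by_contra hne
    apply hω
    refine ⟨y.1, Subgroup.mem_subgroupOf.mp y.2, ?_⟩
    intro hh
    apply hne
    have : ((MonoidHom.domRestrictHom (R.subgroupOf A) ℂˣ) ω) y = ω y.1 := rfl
    rw [this, hh]
    rfl
  · intro hker hω
    obtain ⟨y, hyR, hy⟩ := hω
    apply hy
    have := congrArg (fun φ : (R.subgroupOf A) →* ℂˣ => φ ⟨y, Subgroup.mem_subgroupOf.mpr hyR⟩) hker
    exact this

/-- The size of the family. -/
theorem card_fam_add [Finite G] (h : Hyp A R) :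
    Nat.card {ω : A →* ℂˣ // IsFam A R ω} + (R.subgroupOf A).index = Nat.card A := by
  classical
  letI : Fintype (A →* ℂˣ) := Fintype.ofFinite _
  have h0 : Nat.card (A →* ℂˣ) = Nat.card A := by
    letI : CommGroup A := { (inferInstance : Group A) with
      mul_comm := fun a b => Subtype.ext (h.comm a a.2 b b.2) }
    haveI : NeZero ((Monoid.exponent A : ℕ) : ℂ) :=
      ⟨Nat.cast_ne_zero.mpr Monoid.exponent_ne_zero_of_finite⟩
    exact CommGroup.card_monoidHom_of_hasEnoughRootsOfUnity A ℂ
  rw [← card_not_fam h, ← h0, Nat.card_eq_fintype_card, Nat.card_eq_fintype_card,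
    Nat.card_eq_fintype_card, Fintype.card_subtype_compl]
  have := Fintype.card_subtype_le (fun ω : A →* ℂˣ => IsFam A R ω)
  omega

/-- The arithmetic behind the size of the family. -/
theorem arith (a r k e j m F : ℕ) (hm : 2 ≤ m) (he : e + 1 = 2 ^ m) (hr : r = (e + 1) * j)
    (hj : 2 ≤ j) (hdvd : e ∣ r - 1) (hak : a = k * r) (hF : F + k = a) (hk : 1 ≤ k) :
    e * (e + 2) ≤ F ∧ (2 ≤ k → 2 * e * e < F) ∧ a < 2 * F := by
  have he3 : 3 ≤ e := by
    have : 2 ^ 2 ≤ 2 ^ m := Nat.pow_le_pow_right (by norm_num) hm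
    omega
  obtain ⟨c, hc⟩ := hdvd
  have hr1 : 1 ≤ r := by rw [hr]; nlinarith
  have hc' : r = e * c + 1 := by omega
  -- `e ∣ j - 1`
  have hdj : e ∣ j - 1 := by
    have h1 : e * c + 1 = e * j + j := by rw [← hc', hr]; ring
    have h2 : e * j + (j - 1) = e * c := by omega
    have h3 : e ∣ e * j + (j - 1) := by rw [h2]; exact dvd_mul_right _ _
    exact (Nat.dvd_add_right (dvd_mul_right e j)).mp h3
  have hje : e ≤ j - 1 := Nat.le_of_dvd (by omega) hdj
  have hj1 : e + 1 ≤ j := by omega
  have hrq : (e + 1) * (e + 1) ≤ r := by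
    rw [hr]; exact Nat.mul_le_mul_left _ hj1
  have hFk : F = k * (r - 1) := by
    have : k * r = k * (r - 1) + k := by
      rw [← Nat.mul_succ]
      congr 1
      omega
    omega
  have hr2 : e * (e + 2) ≤ r - 1 := by
    have : (e + 1) * (e + 1) = e * (e + 2) + 1 := by ring
    omega
  refine ⟨?_, ?_, ?_⟩
  · rw [hFk]
    calc e * (e + 2) ≤ r - 1 := hr2
      _ = 1 * (r - 1) := (one_mul _).symm
      _ ≤ k * (r - 1) := Nat.mul_le_mul_right _ hk
  · intro hk2
    rw [hFk]
    calc 2 * e * e < 2 * (e * (e + 2)) := by nlinarith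
      _ ≤ 2 * (r - 1) := Nat.mul_le_mul_left _ hr2
      _ ≤ k * (r - 1) := Nat.mul_le_mul_right _ hk2
  · rw [hFk, hak]
    have hr3 : 3 ≤ r := by nlinarith [hrq, he3]
    have : r < 2 * (r - 1) := by omega
    calc k * r < k * (2 * (r - 1)) := Nat.mul_lt_mul_of_pos_left this (by omega)
      _ = 2 * (k * (r - 1)) := by ring

end Cfsg.Agent.Lib.Helper7.ExcA
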