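import Mathlib
import Cfsg.Prelude.Def_Characters
import Cfsg.Agent.Lib.helper3.ClassMul
import Cfsg.Agent.Lib.Helper7.ExcA8

set_option autoImplicit false
set_option linter.style.haveILetI false
set_option linter.unusedSectionVars false

/-!
# Exceptional characters for an abelian trivial-intersection subgroup: products of two involutions
-/

namespace Cfsg.Agent.Lib.Helper7.ExcA

open Cfsg Cfsg.Agent.Lib.Helper7.BrP Cfsg.Agent.Lib.helper3.Central

variable {G : Type*} [Group G] {A R : Subgroup G}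

/-- An element of the normalizer whose square is trivial lies in `A` when `|N : A|` is odd. -/
theorem mem_of_sq_eq_one [Finite G] (e : ℕ)
    (hN : Nat.card (Subgroup.normalizer (A : Set G)) = Nat.card A * e) (he : Odd e)
    (u : G) (hu : u ∈ Subgroup.normalizer (A : Set G)) (hu2 : u ^ 2 = 1) : u ∈ A := by
  have hidx : (A.subgroupOf (Subgroup.normalizer (A : Set G))).index = e := by
    have h1 := (A.subgroupOf (Subgroup.normalizer (A : Set G))).index_mul_card
    rw [Nat.card_congr (Subgroup.subgroupOfEquivOfLe Subgroup.le_normalizer).toEquiv, hN,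
      mul_comm] at h1
    exact Nat.eq_of_mul_eq_mul_left Nat.card_pos h1
  have h2 := (A.subgroupOf (Subgroup.normalizer (A : Set G))).pow_index_mem
    (⟨u, hu⟩ : Subgroup.normalizer (A : Set G))
  rw [hidx, Subgroup.mem_subgroupOf] at h2
  obtain ⟨c, hc⟩ := he
  have h3 : u ^ e = u := by
    rw [hc, pow_succ, pow_mul, hu2, one_pow, one_mul]
  have h4 : (((⟨u, hu⟩ : Subgroup.normalizer (A : Set G)) ^ e :
      Subgroup.normalizer (A : Set G)) : G) = u ^ e := rfl
  rw [h4, h3] at h2
  exact h2

theorem sq_of_isConj {t u : G} (ht : t ^ 2 = 1) (h : IsConj t u) : u ^ 2 = 1 := by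
  obtain ⟨c, hc⟩ := isConj_iff.mp h
  rw [← hc, conj_pow, ht, mul_one, mul_inv_cancel]

theorem ne_one_of_isConj {t u : G} (ht : t ≠ 1) (h : IsConj t u) : u ≠ 1 := by
  obtain ⟨c, hc⟩ := isConj_iff.mp h
  intro hu
  apply ht
  rw [hu] at hc
  have : t = c⁻¹ * (c * t * c⁻¹) * c := by group
  rw [this, hc]
  group

theorem inv_eq_self_of_sq {u : G} (hu : u ^ 2 = 1) : u⁻¹ = u := by
  rw [inv_eq_iff_mul_eq_one, ← sq, hu]

/-- If the product of two conjugates of an involution of `A` is a nonidentity element of `A`,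
then both lie in `A`. -/
theorem pair_mem [Finite G] (h : Hyp A R) (e : ℕ)
    (hN : Nat.card (Subgroup.normalizer (A : Set G)) = Nat.card A * e) (he : Odd e)
    {t u w : G} (ht2 : t ^ 2 = 1) (hu : IsConj t u) (hw : IsConj t w)
    (hz : u * w ∈ A) (hz1 : u * w ≠ 1) : u ∈ A ∧ w ∈ A := by
  have hu2 := sq_of_isConj ht2 hu
  have hw2 := sq_of_isConj ht2 hw
  have hui := inv_eq_self_of_sq hu2
  have hwi := inv_eq_self_of_sq hw2
  have h1 : u * (u * w) * u⁻¹ = (u * w)⁻¹ := by
    rw [mul_inv_rev, hui, hwi]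
    calc u * (u * w) * u = (u * u) * w * u := by group
      _ = w * u := by rw [← sq, hu2, one_mul]
  have h2 : u⁻¹ ∈ Subgroup.normalizer (A : Set G) := by
    apply h.ti (u * w) hz hz1
    rw [inv_inv, h1]
    exact A.inv_mem hz
  have h3 : u ∈ Subgroup.normalizer (A : Set G) := by
    have := (Subgroup.normalizer (A : Set G)).inv_mem h2
    rwa [inv_inv] at this
  have huA := mem_of_sq_eq_one e hN he u h3 hu2
  refine ⟨huA, ?_⟩
  have : w = u⁻¹ * (u * w) := by group
  rw [this]
  exact A.mul_mem (A.inv_mem huA) hz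

section count

variable [Fintype G]

/-- The number of ways of writing an involution of `A` as a product of two conjugates of an
involution of `A`. -/
theorem mulCount_inv (h : Hyp A R) (e : ℕ)
    (hN : Nat.card (Subgroup.normalizer (A : Set G)) = Nat.card A * e) (he : Odd e)
    (hcard : Nat.card (Inv A) = e)
    (t : Inv A) (hconj : ∀ v : Inv A, IsConj ((t.1 : A) : G) ((v.1 : A) : G)) (z : Inv A) :
    mulCount ((t.1 : A) : G) ((t.1 : A) : G) ((z.1 : A) : G) = ((e - 1 : ℕ) : ℂ) := by
  classical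
  have ht2 : ((t.1 : A) : G) ^ 2 = 1 := by
    have := congrArg Subtype.val t.2.1
    simpa using this
  have ht1 : ((t.1 : A) : G) ≠ 1 := fun e => t.2.2 (Subtype.ext e)
  have hz1 : ((z.1 : A) : G) ≠ 1 := fun e => z.2.2 (Subtype.ext e)
  have hmem : ∀ p : {p : G × G // IsConj ((t.1 : A) : G) p.1 ∧ IsConj ((t.1 : A) : G) p.2 ∧
      p.1 * p.2 = ((z.1 : A) : G)}, p.1.1 ∈ A ∧ p.1.2 ∈ A := by
    intro p
    apply pair_mem h e hN he ht2 p.2.1 p.2.2.1
    · rw [p.2.2.2]; exact z.1.2
    · rw [p.2.2.2]; exact hz1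
  unfold mulCount
  congr 1
  have e1 : {p : G × G // IsConj ((t.1 : A) : G) p.1 ∧ IsConj ((t.1 : A) : G) p.2 ∧
      p.1 * p.2 = ((z.1 : A) : G)} ≃ {v : Inv A // v ≠ z} :=
    { toFun := fun p => ⟨⟨⟨p.1.1, (hmem p).1⟩, Subtype.ext (sq_of_isConj ht2 p.2.1),
          fun hh => ne_one_of_isConj ht1 p.2.1 (congrArg Subtype.val hh)⟩, by
        intro hh
        have h1 : p.1.1 = ((z.1 : A) : G) := congrArg (fun v : Inv A => ((v.1 : A) : G)) hh
        have h2 := p.2.2.2
        rw [h1] at h2
        have h3 : p.1.2 = 1 := by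
          have := mul_left_cancel (h2.trans (mul_one _).symm)
          exact this
        exact ne_one_of_isConj ht1 p.2.2.1 h3⟩
      invFun := fun v => ⟨(((v.1.1 : A) : G), ((v.1.1 : A) : G)⁻¹ * ((z.1 : A) : G)),
        hconj v.1, by
          have hw : (v.1.1)⁻¹ * z.1 ∈ (Set.univ : Set A) := trivial
          have hsq : ((v.1.1)⁻¹ * z.1 : A) ^ 2 = 1 := by
            have hc : Commute ((v.1.1)⁻¹ : A) z.1 :=
              Subtype.ext (h.comm _ (v.1.1⁻¹).2 _ z.1.2)
            rw [hc.mul_pow, inv_pow, v.1.2.1, z.2.1, inv_one, one_mul]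
          have hne : ((v.1.1)⁻¹ * z.1 : A) ≠ 1 := by
            intro hh
            apply v.2
            apply Subtype.ext
            have : z.1 = v.1.1 * ((v.1.1)⁻¹ * z.1) := by group
            rw [this, hh, mul_one]
          exact hconj ⟨(v.1.1)⁻¹ * z.1, hsq, hne⟩, by
          simp only
          group⟩
      left_inv := fun p => by
        apply Subtype.ext
        apply Prod.ext
        · rfl
        · simp only
          have h5 := p.2.2.2
          calc (p.1.1)⁻¹ * ((z.1 : A) : G) = (p.1.1)⁻¹ * (p.1.1 * p.1.2) := by rw [h5]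
            _ = p.1.2 := by group
      right_inv := fun v => rfl }
  rw [Nat.card_congr e1]
  letI : Fintype (Inv A) := Fintype.ofFinite _
  rw [Nat.card_eq_fintype_card, Fintype.card_subtype_compl, Fintype.card_subtype_eq,
    ← Nat.card_eq_fintype_card, hcard]

/-- An element of `A` which is not an involution is not a product of two conjugates of an
involution of `A`. -/
theorem mulCount_not_sq (h : Hyp A R) (e : ℕ)
    (hN : Nat.card (Subgroup.normalizer (A : Set G)) = Nat.card A * e) (he : Odd e)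
    (t : Inv A) (z : A) (hz : z ^ 2 ≠ 1) :
    mulCount ((t.1 : A) : G) ((t.1 : A) : G) (z : G) = 0 := by
  classical
  have ht2 : ((t.1 : A) : G) ^ 2 = 1 := by
    have := congrArg Subtype.val t.2.1
    simpa using this
  have hz1 : (z : G) ≠ 1 := by
    intro hh
    apply hz
    have : z = 1 := Subtype.ext hh
    rw [this, one_pow]
  unfold mulCount
  haveI : IsEmpty {p : G × G // IsConj ((t.1 : A) : G) p.1 ∧ IsConj ((t.1 : A) : G) p.2 ∧
      p.1 * p.2 = (z : G)} := by
    refine ⟨fun p => ?_⟩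
    have hm := pair_mem h e hN he ht2 p.2.1 p.2.2.1 (by rw [p.2.2.2]; exact z.2)
      (by rw [p.2.2.2]; exact hz1)
    apply hz
    apply Subtype.ext
    show (z : G) ^ 2 = 1
    rw [← p.2.2.2, (show Commute p.1.1 p.1.2 from h.comm _ hm.1 _ hm.2).mul_pow,
      sq_of_isConj ht2 p.2.1, sq_of_isConj ht2 p.2.2.1, one_mul]
  rw [Nat.card_of_isEmpty]
  simp

end count

end Cfsg.Agent.Lib.Helper7.ExcA
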