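import Mathlib
import Cfsg.Prelude.Def_Characters
import Cfsg.Agent.Lib.Helper7.ExcA9
import Cfsg.Agent.Lib.Helper7.ExcA5

set_option autoImplicit false
set_option linter.style.haveILetI false
set_option linter.unusedSectionVars false

/-!
# Exceptional characters for an abelian trivial-intersection subgroup: auxiliary sums
-/

namespace Cfsg.Agent.Lib.Helper7.ExcA

open Cfsg Cfsg.Agent.Lib.helper3.Irr Cfsg.Agent.Lib.helper3.CharBasic
open Cfsg.Agent.Lib.helper3.IndFun Cfsg.Agent.Lib.helper3.CycTI Cfsg.Agent.Lib.Helper7.BrP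
open Cfsg.Agent.Lib.helper3.Pf4 Cfsg.Agent.Lib.helper3.Central
open scoped ComplexConjugate

variable {G : Type*} [Group G] {A R : Subgroup G}

theorem exists_hom_ne_one [Finite G] (h : Hyp A R) (x : A) (hx : x ≠ 1) :
    ∃ ω : A →* ℂˣ, ω x ≠ 1 := by
  letI : CommGroup A := { (inferInstance : Group A) with
    mul_comm := fun a b => Subtype.ext (h.comm a a.2 b b.2) }
  haveI : NeZero ((Monoid.exponent A : ℕ) : ℂ) :=
    ⟨Nat.cast_ne_zero.mpr Monoid.exponent_ne_zero_of_finite⟩
  exact CommGroup.exists_apply_ne_one_of_hasEnoughRootsOfUnity A ℂ hx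

theorem exists_hom_trivial_on [Finite G] (h : Hyp A R) (V : Subgroup A) (x : A) (hx : x ∉ V) :
    ∃ ω : A →* ℂˣ, (∀ v ∈ V, ω v = 1) ∧ ω x ≠ 1 := by
  letI : CommGroup A := { (inferInstance : Group A) with
    mul_comm := fun a b => Subtype.ext (h.comm a a.2 b b.2) }
  haveI : NeZero ((Monoid.exponent A : ℕ) : ℂ) :=
    ⟨Nat.cast_ne_zero.mpr Monoid.exponent_ne_zero_of_finite⟩
  by_contra hcon
  push Not at hcon
  exact hx ((CommGroup.forall_monoidHom_apply_eq_one_iff (G := A) (M := ℂ) V x).mp hcon)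

/-- The sum over the involutions of `A` of a linear character which is nontrivial on one of them. -/
theorem sum_inv_of_nontrivial [Finite G] (h : Hyp A R) [Fintype (Inv A)] (ω : A →* ℂˣ)
    (t : Inv A) (hω : ω t.1 ≠ 1) : ∑ v : Inv A, ((ω v.1 : ℂˣ) : ℂ) = -1 := by
  classical
  obtain ⟨V, m, hV, -, -⟩ := card_inv_add_one h
  letI : Fintype V := Fintype.ofFinite _
  obtain ⟨f, hf⟩ : ∃ f : V →* ℂ, ∀ x : V, f x = ((ω x.1 : ℂˣ) : ℂ) :=
    ⟨(Units.coeHom ℂ).comp (ω.comp V.subtype), fun _ => rfl⟩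
  have hf1 : f ≠ 1 := by
    intro hh
    apply hω
    have := congrArg (fun g : V →* ℂ => g ⟨t.1, (hV t.1).mpr t.2.1⟩) hh
    simp only [hf, MonoidHom.one_apply] at this
    exact Units.ext this
  have h0 := sum_hom_units_eq_zero f hf1
  rw [← Finset.add_sum_erase Finset.univ (fun x => f x) (Finset.mem_univ (1 : V)), map_one] at h0
  have h2 : ∑ v : Inv A, ((ω v.1 : ℂˣ) : ℂ) = ∑ x ∈ Finset.univ.erase (1 : V), f x := by
    apply Finset.sum_bij (fun (v : Inv A) _ => (⟨v.1, (hV v.1).mpr v.2.1⟩ : V))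
    · intro v _
      rw [Finset.mem_erase]
      exact ⟨fun hh => v.2.2 (congrArg Subtype.val hh), Finset.mem_univ _⟩
    · intro v _ v' _ hh
      apply Subtype.ext
      exact congrArg (fun z : V => (z : A)) hh
    · intro x hx
      have hx1 := (Finset.mem_erase.mp hx).1
      exact ⟨⟨x.1, (hV x.1).mp x.2, fun hh => hx1 (Subtype.ext hh)⟩, Finset.mem_univ _, rfl⟩
    · intro v _
      rw [hf]
  rw [h2]
  linear_combination h0

end Cfsg.Agent.Lib.Helper7.ExcA
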