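import Mathlib
import Cfsg.Prelude.Def_Characters
import Cfsg.Agent.Lib.Helper7.ExcA10

set_option autoImplicit false
set_option linter.style.haveILetI false
set_option linter.unusedSectionVars false
set_option maxHeartbeats 800000

/-!
# Exceptional characters for an abelian trivial-intersection subgroup: inner products with the
class multiplication function
-/

namespace Cfsg.Agent.Lib.Helper7.ExcA

open Cfsg Cfsg.Agent.Lib.helper3.Irr Cfsg.Agent.Lib.helper3.CharBasic
open Cfsg.Agent.Lib.helper3.IndFun Cfsg.Agent.Lib.helper3.CycTI Cfsg.Agent.Lib.Helper7.BrP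
open Cfsg.Agent.Lib.helper3.Pf4 Cfsg.Agent.Lib.helper3.Central
open scoped ComplexConjugate

variable {G : Type*} [Group G] [Fintype G] {A R : Subgroup G}

/-- The inner product on `A` with the class multiplication function of an involution. -/
theorem classInner_mulCount_restrict (h : Hyp A R) (e : ℕ)
    (hN : Nat.card (Subgroup.normalizer (A : Set G)) = Nat.card A * e) (he : Odd e)
    (hcard : Nat.card (Inv A) = e) (t : Inv A)
    (hconj : ∀ v : Inv A, IsConj ((t.1 : A) : G) ((v.1 : A) : G))
    [Fintype A] [Fintype (Inv A)] (φ : A → ℂ) (hφ1 : φ 1 = 0) :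
    classInner φ (fun z : A => mulCount ((t.1 : A) : G) ((t.1 : A) : G) (z : G))
      = (Nat.card A : ℂ)⁻¹ * (((e - 1 : ℕ) : ℂ) * ∑ v : Inv A, φ v.1) := by
  classical
  rw [classInner_apply]
  congr 1
  have hterm : ∀ z : A, φ z * conj (mulCount ((t.1 : A) : G) ((t.1 : A) : G) (z : G))
      = if (z ^ 2 = 1 ∧ z ≠ 1) then ((e - 1 : ℕ) : ℂ) * φ z else 0 := by
    intro z
    by_cases hz : z ^ 2 = 1 ∧ z ≠ 1
    · rw [if_pos hz]
      have := mulCount_inv h e hN he hcard t hconj ⟨z, hz⟩
      simp only at this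
      rw [this, Complex.conj_natCast]
      ring
    · rw [if_neg hz]
      by_cases hz1 : z = 1
      · rw [hz1, hφ1, zero_mul]
      · have hz2 : z ^ 2 ≠ 1 := fun hh => hz ⟨hh, hz1⟩
        rw [mulCount_not_sq h e hN he t z hz2, map_zero, mul_zero]
  rw [Finset.sum_congr rfl (fun z _ => hterm z), ← Finset.sum_filter,
    Finset.sum_subtype (p := fun z : A => z ^ 2 = 1 ∧ z ≠ 1)
      (Finset.univ.filter fun z : A => z ^ 2 = 1 ∧ z ≠ 1) (by intro x; simp)
      (fun z => ((e - 1 : ℕ) : ℂ) * φ z), Finset.mul_sum]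

/-- Bounding the sum of the squares of the degrees of the exceptional characters. -/
theorem sum_degree_bound (h : Hyp A R) (e : ℕ)
    (hN : Nat.card (Subgroup.normalizer (A : Set G)) = Nat.card A * e)
    (M : {ω : A →* ℂˣ // IsFam A R ω} → IrrCharacter G) (f : ℕ)
    (hMeq : ∀ a b, M a = M b ↔ ∃ n : Subgroup.normalizer (A : Set G), a.1 = cj A n b.1)
    (hMdeg : ∀ a, (M a : G → ℂ) 1 = f) :
    Nat.card {ω : A →* ℂˣ // IsFam A R ω} * f ^ 2 ≤ e * Nat.card G := by
  classical
  letI : Fintype {ω : A →* ℂˣ // IsFam A R ω} := Fintype.ofFinite _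
  -- degrees as natural numbers
  have hdeg : ∀ χ : IrrCharacter G, ∃ d : ℕ, (χ : G → ℂ) 1 = d := fun χ =>
    exists_nat_apply_one (isCharacter_of_isIrrCharacter χ.2)
  choose d hd using hdeg
  have hsum : ∑ χ : IrrCharacter G, d χ ^ 2 = Nat.card G := by
    have h1 := sum_sq_degree (G := G)
    have h2 : ((∑ χ : IrrCharacter G, d χ ^ 2 : ℕ) : ℂ) = ((Nat.card G : ℕ) : ℂ) := by
      rw [← h1]
      push_cast
      apply Finset.sum_congr rfl
      intro χ _
      rw [hd]
    exact_mod_cast h2
  have hfib : ∀ χ : IrrCharacter G,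
      (Finset.univ.filter (fun a : {ω : A →* ℂˣ // IsFam A R ω} => M a = χ)).card * f ^ 2
        ≤ e * d χ ^ 2 := by
    intro χ
    by_cases hex : ∃ a₀, M a₀ = χ
    · obtain ⟨a₀, ha₀⟩ := hex
      have hdf : d χ = f := by
        have h1 := hMdeg a₀
        rw [ha₀, hd] at h1
        exact_mod_cast h1
      have hc : (Finset.univ.filter (fun a : {ω : A →* ℂˣ // IsFam A R ω} => M a = χ)).card = e := by
        rw [← card_orbit h e hN a₀, Nat.card_eq_fintype_card, Fintype.card_subtype]
        congr 1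
        ext a
        simp only [Finset.mem_filter, Finset.mem_univ, true_and]
        rw [← ha₀, hMeq]
        rfl
      rw [hc, hdf]
    · have hc : (Finset.univ.filter (fun a : {ω : A →* ℂˣ // IsFam A R ω} => M a = χ)) = ∅ := by
        apply Finset.filter_eq_empty_iff.mpr
        intro a _ ha
        exact hex ⟨a, ha⟩
      rw [hc, Finset.card_empty, zero_mul]
      exact Nat.zero_le _
  have hcard : Fintype.card {ω : A →* ℂˣ // IsFam A R ω}
      = ∑ χ : IrrCharacter G,
        (Finset.univ.filter (fun a : {ω : A →* ℂˣ // IsFam A R ω} => M a = χ)).card := by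
    rw [← Finset.card_univ]
    exact Finset.card_eq_sum_card_fiberwise (fun a _ => Finset.mem_univ (M a))
  rw [Nat.card_eq_fintype_card, hcard, Finset.sum_mul, ← hsum, Finset.mul_sum]
  exact Finset.sum_le_sum (fun χ _ => hfib χ)

end Cfsg.Agent.Lib.Helper7.ExcA
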