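import Mathlib
import Cfsg.Prelude.Def_Characters
import Cfsg.Agent.Lib.Helper7.ExcA11

set_option autoImplicit false
set_option linter.style.haveILetI false
set_option linter.unusedSectionVars false
set_option maxHeartbeats 1600000

/-!
# An abelian trivial-intersection subgroup whose involutions are fused in its normalizer and which
is not an elementary abelian 2-group is normal
-/

namespace Cfsg.Agent.Lib.Helper7.ExcA

open Cfsg Cfsg.Agent.Lib.helper3.Irr Cfsg.Agent.Lib.helper3.CharBasic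
open Cfsg.Agent.Lib.helper3.IndFun Cfsg.Agent.Lib.helper3.CycTI Cfsg.Agent.Lib.Helper7.BrP
open Cfsg.Agent.Lib.helper3.Pf4 Cfsg.Agent.Lib.helper3.Central
open scoped ComplexConjugate

variable {G : Type*} [Group G] [Fintype G] {A R : Subgroup G}

theorem normalizer_eq_top_aux (h : Hyp A R)
    (hinvR : ∀ v : Inv A, ((v.1 : A) : G) ∈ R)
    (hfus : ∀ s t : Inv A, ∃ n : Subgroup.normalizer (A : Set G), n⁻¹ • t.1 = s.1)
    (s t : Inv A) (hst : s ≠ t) (y : A) (hyR : (y : G) ∈ R) (hy2 : y ^ 2 ≠ 1) :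
    Subgroup.normalizer (A : Set G) = ⊤ := by
  classical
  letI : Fintype (Subgroup.normalizer (A : Set G)) := Fintype.ofFinite _
  letI : Fintype A := Fintype.ofFinite _
  letI : Fintype (Inv A) := Fintype.ofFinite _
  letI : Fintype (A →* ℂˣ) := Fintype.ofFinite _
  letI : Fintype {ω : A →* ℂˣ // IsFam A R ω} := Fintype.ofFinite _
  obtain ⟨e, hecard⟩ : ∃ e, Nat.card (Inv A) = e := ⟨_, rfl⟩
  have hN : Nat.card (Subgroup.normalizer (A : Set G)) = Nat.card A * e := by
    rw [← hecard]; exact card_normalizer h hinvR hfus t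
  obtain ⟨V, m, hV, hVcard, hem⟩ := card_inv_add_one h
  rw [hecard] at hem
  have he2 : 2 ≤ e := by
    rw [← hecard, Nat.card_eq_fintype_card]
    exact Fintype.one_lt_card_iff.mpr ⟨s, t, hst⟩
  have hm : 2 ≤ m := by
    by_contra hlt
    have hm1 : m ≤ 1 := by omega
    have : 2 ^ m ≤ 2 ^ 1 := Nat.pow_le_pow_right (by norm_num) hm1
    omega
  have heodd : Odd e := by
    have h1 : Even (e + 1) := by
      rw [hem]
      exact (Nat.even_pow.mpr ⟨even_two, by omega⟩)
    rcases Nat.even_or_odd e with h2 | h2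
    · exact absurd h1 (by rw [Nat.even_add_one]; exact not_not.mpr h2)
    · exact h2
  -- the orders
  have hVR : V ≤ R.subgroupOf A := by
    intro x hx
    rw [Subgroup.mem_subgroupOf]
    by_cases hx1 : x = 1
    · rw [hx1]; exact R.one_mem
    · exact hinvR ⟨x, (hV x).mp hx, hx1⟩
  have hyV : y ∉ V := fun hh => hy2 ((hV y).mp hh)
  have hyR' : y ∈ R.subgroupOf A := Subgroup.mem_subgroupOf.mpr hyR
  obtain ⟨j, hj⟩ := Subgroup.card_dvd_of_le hVR
  have hrR : Nat.card (R.subgroupOf A) = Nat.card R :=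
    Nat.card_congr (Subgroup.subgroupOfEquivOfLe h.le).toEquiv
  have hj2 : 2 ≤ j := by
    by_contra hlt
    have hj1 : j ≤ 1 := by omega
    rcases Nat.eq_zero_or_pos j with hj0 | hj0
    · rw [hj0, mul_zero] at hj
      exact absurd hj Nat.card_pos.ne'
    · have hj' : j = 1 := by omega
      rw [hj', mul_one] at hj
      have := Subgroup.eq_of_le_of_card_ge hVR (le_of_eq hj)
      exact hyV (this ▸ hyR')
  have hdvd := dvd_card_sub_one h e hN
  have hak := (R.subgroupOf A).index_mul_card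
  have hF := card_fam_add h
  have hk : 1 ≤ (R.subgroupOf A).index := by
    have : (R.subgroupOf A).index ≠ 0 := Subgroup.index_ne_zero_of_finite
    omega
  obtain ⟨hc1, hc2, hc3⟩ := arith (Nat.card A) (Nat.card R) (R.subgroupOf A).index e j m
    (Nat.card {ω : A →* ℂˣ // IsFam A R ω}) hm hem
    (by rw [← hrR, hj, hVcard, hem]) hj2 hdvd (by rw [← hrR]; exact hak.symm) hF hk
  -- the exceptional characters
  obtain ⟨ε, M, f, hε, hMeq, hMtriv, hMdeg, hMdiff, hMval⟩ := main h e hN hc1 (by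
    intro ⟨β, hβ1, hβ⟩
    apply hc2
    rw [← card_not_fam h]
    by_contra hlt
    have h1 : Nat.card {ω : A →* ℂˣ // ¬ IsFam A R ω} ≤ 1 := by omega
    haveI := (Finite.card_le_one_iff_subsingleton).mp h1
    have h1' : ¬ IsFam A R (1 : A →* ℂˣ) := fun hh => hh.ne_one rfl
    have := Subsingleton.elim (⟨β, hβ⟩ : {ω : A →* ℂˣ // ¬ IsFam A R ω}) ⟨1, h1'⟩
    exact hβ1 (congrArg Subtype.val this))
  -- two members of the family
  obtain ⟨ω₁, hω₁V, hω₁y⟩ := exists_hom_trivial_on h V y hyV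
  obtain ⟨ω₂, hω₂t⟩ := exists_hom_ne_one h t.1 t.2.2
  have hf₁ : IsFam A R ω₁ := ⟨y, hyR, hω₁y⟩
  have hf₂ : IsFam A R ω₂ := ⟨t.1, hinvR t, hω₂t⟩
  have ht1 : ((t.1 : A) : G) ≠ 1 := fun e => t.2.2 (Subtype.ext e)
  -- values at the involution
  have hvalt : ∀ a : {ω : A →* ℂˣ // IsFam A R ω},
      (M a : G → ℂ) ((t.1 : A) : G) = (ε : ℂ) * ∑ v : Inv A, ((a.1 v.1 : ℂˣ) : ℂ) := by
    intro a
    rw [hMval a t.1 t.2.2]
    congr 1
    have h1 := sum_invMap h hinvR hfus t (fun v : Inv A => ((a.1 v.1 : ℂˣ) : ℂ))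
    have h2 : ∑ n : Subgroup.normalizer (A : Set G), ((cj A n a.1 t.1 : ℂˣ) : ℂ)
        = ∑ n : Subgroup.normalizer (A : Set G), ((a.1 (invMap t n).1 : ℂˣ) : ℂ) := by
      apply Finset.sum_congr rfl
      intro n _
      rw [cj_apply, invMap_coe]
    rw [h2, h1, ← mul_assoc, inv_mul_cancel₀ (card_ne_zero_complex A), one_mul]
  have hs₁ : ∑ v : Inv A, ((ω₁ v.1 : ℂˣ) : ℂ) = (e : ℂ) := by
    have : ∀ v : Inv A, ((ω₁ v.1 : ℂˣ) : ℂ) = 1 := by
      intro v
      rw [hω₁V v.1 ((hV v.1).mpr v.2.1)]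
      rfl
    rw [Finset.sum_congr rfl (fun v _ => this v), Finset.sum_const, Finset.card_univ,
      ← Nat.card_eq_fintype_card, hecard]
    simp
  have hs₂ : ∑ v : Inv A, ((ω₂ v.1 : ℂˣ) : ℂ) = -1 := sum_inv_of_nontrivial h ω₂ t hω₂t
  have hM₁ : (M ⟨ω₁, hf₁⟩ : G → ℂ) ((t.1 : A) : G) = (ε : ℂ) * e := by
    rw [hvalt, hs₁]
  have hM₂ : (M ⟨ω₂, hf₂⟩ : G → ℂ) ((t.1 : A) : G) = -(ε : ℂ) := by
    rw [hvalt, hs₂]; ring
  -- the conjugacy of the involutions
  have hconj : ∀ v : Inv A, IsConj ((t.1 : A) : G) ((v.1 : A) : G) := by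
    intro v
    obtain ⟨n, hn⟩ := hfus v t
    rw [isConj_iff]
    refine ⟨(n : G)⁻¹, ?_⟩
    have := congrArg Subtype.val hn
    rw [coe_inv_smul] at this
    rw [inv_inv]
    exact this
  -- the two inner products
  obtain ⟨β, hβ⟩ : ∃ β : G → ℂ, β = fun c => mulCount ((t.1 : A) : G) ((t.1 : A) : G) c :=
    ⟨_, rfl⟩
  have hβcf : IsClassFunction G β := by
    rw [hβ]; exact mulCount_isClassFunction _ _
  obtain ⟨φ, hφ⟩ : ∃ φ : A → ℂ, φ = linFun ω₁ - linFun ω₂ := ⟨_, rfl⟩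
  have hφ1 : φ 1 = 0 := by
    rw [hφ]; simp [linFun]
  have hI1 : classInner (indFun A φ) β
      = (Nat.card A : ℂ)⁻¹ * (((e - 1 : ℕ) : ℂ) * ((e : ℂ) + 1)) := by
    rw [frobenius_reciprocity A φ β hβcf, hβ,
      classInner_mulCount_restrict h e hN heodd hecard t hconj φ hφ1]
    congr 2
    rw [hφ]
    simp only [Pi.sub_apply, linFun, Finset.sum_sub_distrib]
    rw [hs₁, hs₂]
    ring
  have hεsq : (ε : ℂ) * (ε : ℂ) = 1 := by
    rcases hε with h1 | h1 <;> rw [h1] <;> norm_num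
  have hεconj : conj (ε : ℂ) = (ε : ℂ) := map_intCast _ _
  have hfne : (f : ℂ) ≠ 0 := by
    intro hf0
    have h1 := hMdeg ⟨ω₁, hf₁⟩
    rw [hf0] at h1
    have h2 := exists_nat_apply_one (isCharacter_of_isIrrCharacter (M ⟨ω₁, hf₁⟩).2)
    exact apply_one_ne_zero (M ⟨ω₁, hf₁⟩).2 h1
  have hI2 : ∀ a : {ω : A →* ℂˣ // IsFam A R ω}, classInner (M a : G → ℂ) β
      = (Nat.card G : ℂ)⁻¹ * (((cls ((t.1 : A) : G)).card : ℂ) * ((cls ((t.1 : A) : G)).card : ℂ)
        * (M a : G → ℂ) ((t.1 : A) : G) * (M a : G → ℂ) ((t.1 : A) : G) / f) := by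
    intro a
    rw [← classInner_conj_symm, hβ, classInner_mulCount _ _ (M a).2, hMdeg, map_mul,
      Complex.conj_conj, map_inv₀, Complex.conj_natCast]
  have hrel : classInner (M ⟨ω₁, hf₁⟩ : G → ℂ) β - classInner (M ⟨ω₂, hf₂⟩ : G → ℂ) β
      = (ε : ℂ) * classInner (indFun A φ) β := by
    rw [← classInner_sub_left, hMdiff, classInner_smul_left, hφ]
  rw [hI2, hI2, hM₁, hM₂, hI1] at hrel
  -- the class size
  have hKcard : (cls ((t.1 : A) : G)).card * Nat.card A = Nat.card G := by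
    have h1 : Subgroup.centralizer ({((t.1 : A) : G)} : Set G) = A := by
      apply le_antisymm
      · intro g hg
        apply h.cent _ (hinvR t) ht1
        exact (Subgroup.mem_centralizer_singleton_iff.mp hg)
      · intro g hg
        rw [Subgroup.mem_centralizer_singleton_iff]
        exact h.comm g hg _ t.1.2
    have h2 := card_class_eq_index ((t.1 : A) : G)
    unfold cls
    rw [h2, h1]
    exact A.index_mul_card
  have hK0 : 0 < (cls ((t.1 : A) : G)).card := by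
    rcases Nat.eq_zero_or_pos (cls ((t.1 : A) : G)).card with h0 | h0
    · rw [h0, zero_mul] at hKcard
      exact absurd hKcard.symm Nat.card_pos.ne'
    · exact h0
  have hKc : ((cls ((t.1 : A) : G)).card : ℂ) * (Nat.card A : ℂ) = (Nat.card G : ℂ) := by
    exact_mod_cast hKcard
  have he1 : ((e - 1 : ℕ) : ℂ) = (e : ℂ) - 1 := by
    rw [Nat.cast_sub (by omega)]
    simp
  have hane : (Nat.card A : ℂ) ≠ 0 := card_ne_zero_complex A
  have hgne : (Nat.card G : ℂ) ≠ 0 := card_ne_zero_complex G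
  have hKne : ((cls ((t.1 : A) : G)).card : ℂ) ≠ 0 := by exact_mod_cast hK0.ne'
  have hene : ((e : ℂ) - 1) * ((e : ℂ) + 1) ≠ 0 := by
    have h1 : ((e : ℂ) - 1) * ((e : ℂ) + 1) = (((e - 1) * (e + 1) : ℕ) : ℂ) := by
      push_cast
      rw [he1]
    rw [h1]
    have : (e - 1) * (e + 1) ≠ 0 := by
      apply Nat.mul_ne_zero <;> omega
    exact_mod_cast this
  rw [he1] at hrel
  obtain ⟨K, hK⟩ : ∃ K : ℂ, K = ((cls ((t.1 : A) : G)).card : ℂ) := ⟨_, rfl⟩
  obtain ⟨a, ha⟩ : ∃ a : ℂ, a = (Nat.card A : ℂ) := ⟨_, rfl⟩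
  obtain ⟨g, hg⟩ : ∃ g : ℂ, g = (Nat.card G : ℂ) := ⟨_, rfl⟩
  rw [← hK, ← ha, ← hg] at hrel hKc
  rw [← hK] at hKne
  rw [← ha] at hane
  rw [← hg] at hgne
  have hKf : K = (ε : ℂ) * f := by
    have h1 : a * (K * K) * (((e : ℂ) - 1) * ((e : ℂ) + 1))
        = (ε : ℂ) * (g * f) * (((e : ℂ) - 1) * ((e : ℂ) + 1)) := by
      field_simp at hrel
      linear_combination hrel - (K * K * a * ((e : ℂ) ^ 2 - 1)) * hεsq
    have h2 := mul_right_cancel₀ hene h1
    have h3 : K * g = (ε : ℂ) * f * g := by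
      linear_combination h2 - K * hKc
    exact mul_right_cancel₀ hgne h3
  -- the degree is the class size
  have hKf' : (cls ((t.1 : A) : G)).card = f := by
    rcases hε with h1 | h1
    · rw [hK, h1] at hKf
      have : (((cls ((t.1 : A) : G)).card : ℕ) : ℂ) = ((f : ℕ) : ℂ) := by
        rw [hKf]; push_cast; ring
      exact_mod_cast this
    · exfalso
      rw [hK, h1] at hKf
      have : ((((cls ((t.1 : A) : G)).card + f : ℕ)) : ℂ) = ((0 : ℕ) : ℂ) := by
        push_cast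
        rw [hKf]
        ring
      have h2 : (cls ((t.1 : A) : G)).card + f = 0 := by exact_mod_cast this
      omega
  have hbound := sum_degree_bound h e hN M f hMeq hMdeg
  have hidx := (Subgroup.normalizer (A : Set G)).index_mul_card
  obtain ⟨n, hn⟩ : ∃ n, (Subgroup.normalizer (A : Set G)).index = n := ⟨_, rfl⟩
  obtain ⟨F, hFdef⟩ : ∃ F, Nat.card {ω : A →* ℂˣ // IsFam A R ω} = F := ⟨_, rfl⟩
  obtain ⟨a', ha'⟩ : ∃ a', Nat.card A = a' := ⟨_, rfl⟩
  rw [hn, hN, ha'] at hidx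
  rw [hFdef, ← hKcard, hKf', ha'] at hbound
  rw [hFdef, ha'] at hc3
  rw [hKf', ha'] at hKcard
  have ha0 : 0 < a' := by rw [← ha']; exact Nat.card_pos
  have he0 : 0 < e := by omega
  -- `f = n * e`
  have hfn : f = n * e := by
    have h1 : f * a' = n * e * a' := by
      rw [hKcard, ← hidx]; ring
    exact Nat.eq_of_mul_eq_mul_right ha0 h1
  have hn0 : 0 < n := by
    rcases Nat.eq_zero_or_pos n with h0 | h0
    · exfalso
      rw [h0, zero_mul] at hidx
      rw [← hidx] at hKcard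
      have : f = 0 := by
        rcases Nat.eq_zero_or_pos f with h1 | h1
        · exact h1
        · exfalso
          have := Nat.mul_pos h1 ha0
          omega
      rw [this] at hKf'
      omega
    · exact h0
  have hFn : F * n ≤ a' := by
    rw [hfn] at hbound
    have h1 : (n * e * e) * (F * n) ≤ (n * e * e) * a' := by
      calc (n * e * e) * (F * n) = F * (n * e) ^ 2 := by ring
        _ ≤ e * (n * e * a') := hbound
        _ = (n * e * e) * a' := by ring
    exact Nat.le_of_mul_le_mul_left h1 (by positivity)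
  have hn1 : n = 1 := by
    by_contra hne
    have hn2 : 2 ≤ n := by omega
    have : F * 2 ≤ F * n := Nat.mul_le_mul_left _ hn2
    omega
  rw [← hn] at hn1
  exact Subgroup.index_eq_one.mp hn1

end Cfsg.Agent.Lib.Helper7.ExcA
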