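import Mathlib
import Cfsg.Prelude.Def_Characters
import Cfsg.Agent.Lib.Helper7.ExcA12

set_option autoImplicit false
set_option linter.style.haveILetI false
set_option linter.unusedSectionVars false

/-!
# An abelian trivial-intersection subgroup whose involutions are fused in its normalizer and which
is not an elementary abelian 2-group is normal: the final form
-/

namespace Cfsg.Agent.Lib.Helper7.ExcA

open Cfsg Cfsg.Agent.Lib.Helper7.BrP

variable {G : Type*} [Group G]

/-- Let `A` be an abelian trivial-intersection subgroup of the finite group `G` and `R ≤ A` a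
subgroup normalized by `N_G(A)` with `C_G(y) ≤ A` for all `1 ≠ y ∈ R`.  Assume that `R` contains
all the involutions of `A`, that there are at least two of them, and that they are all conjugate
under `N_G(A)`.  If `R` is not an elementary abelian `2`-group, then `A` is normal in `G`. -/
theorem normalizer_eq_top [Finite G] (A R : Subgroup G) (h : Hyp A R)
    (hinvR : ∀ t ∈ A, orderOf t = 2 → t ∈ R)
    (hfus : ∀ s ∈ A, ∀ t ∈ A, orderOf s = 2 → orderOf t = 2 →
      ∃ n ∈ Subgroup.normalizer (A : Set G), n * s * n⁻¹ = t)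
    (s t : G) (hs : s ∈ A) (ht : t ∈ A) (hs2 : orderOf s = 2) (ht2 : orderOf t = 2) (hst : s ≠ t)
    (y : G) (hy : y ∈ R) (hy2 : y ^ 2 ≠ 1) :
    Subgroup.normalizer (A : Set G) = ⊤ := by
  classical
  letI : Fintype G := Fintype.ofFinite G
  haveI : Fact (Nat.Prime 2) := ⟨Nat.prime_two⟩
  have hord : ∀ v : Inv A, orderOf ((v.1 : A) : G) = 2 := by
    intro v
    rw [orderOf_eq_prime_iff]
    refine ⟨?_, fun e => v.2.2 (Subtype.ext e)⟩
    have := congrArg Subtype.val v.2.1
    simpa using this
  have hmk : ∀ x : G, x ∈ A → orderOf x = 2 → ∃ v : Inv A, ((v.1 : A) : G) = x := by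
    intro x hx hx2
    rw [orderOf_eq_prime_iff] at hx2
    exact ⟨⟨⟨x, hx⟩, Subtype.ext hx2.1, fun e => hx2.2 (congrArg Subtype.val e)⟩, rfl⟩
  obtain ⟨s', hs'⟩ := hmk s hs hs2
  obtain ⟨t', ht'⟩ := hmk t ht ht2
  apply normalizer_eq_top_aux h (fun v => hinvR _ v.1.2 (hord v)) ?_ s' t'
    (fun e => hst (by rw [← hs', ← ht', e])) ⟨y, h.le hy⟩ hy
    (fun e => hy2 (by
      have := congrArg Subtype.val e
      simpa using this))
  intro a b
  obtain ⟨n, hn, hnab⟩ := hfus _ a.1.2 _ b.1.2 (hord a) (hord b)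
  refine ⟨⟨n, hn⟩, ?_⟩
  apply Subtype.ext
  rw [coe_inv_smul]
  show n⁻¹ * ((b.1 : A) : G) * n = _
  rw [← hnab]
  group

end Cfsg.Agent.Lib.Helper7.ExcA
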