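import Mathlib
import Cfsg.Prelude.Def_Involutions
import Cfsg.Agent.Lib.Helper7.ExcA13

set_option autoImplicit false
set_option linter.style.haveILetI false
set_option linter.unusedSectionVars false

/-!
# Groups in which the centralizer of every nonidentity element is abelian: the centralizer of an
involution
-/

namespace Cfsg.Agent.Lib.Helper7.CAGrp

open Cfsg Cfsg.Agent.Lib.Helper7.ExcA

variable {G : Type*} [Group G]

/-- The hypothesis: the centralizer of every nonidentity element is abelian. -/
def IsCA (G : Type*) [Group G] : Prop :=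
  ∀ x : G, x ≠ 1 → ∀ a b : G, a * x = x * a → b * x = x * b → a * b = b * a

theorem mem_cent {t g : G} : g ∈ Subgroup.centralizer ({t} : Set G) ↔ g * t = t * g := by
  rw [Subgroup.mem_centralizer_singleton_iff]

/-- Commuting nonidentity elements have the same centralizer. -/
theorem cent_eq (h : IsCA G) {x y : G} (hx : x ≠ 1) (hy : y ≠ 1) (hxy : y * x = x * y) :
    Subgroup.centralizer ({y} : Set G) = Subgroup.centralizer ({x} : Set G) := by
  ext g
  rw [mem_cent, mem_cent]
  constructor
  · intro hg
    exact h y hy g x hg hxy.symm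
  · intro hg
    exact h x hx g y hg hxy

/-- The standing hypotheses of the exceptional character theory hold for the centralizer of a
nonidentity element. -/
theorem hyp (h : IsCA G) {t : G} (ht : t ≠ 1) :
    Hyp (Subgroup.centralizer ({t} : Set G)) (Subgroup.centralizer ({t} : Set G)) := by
  have hcent : ∀ x ∈ Subgroup.centralizer ({t} : Set G), x ≠ 1 →
      Subgroup.centralizer ({x} : Set G) = Subgroup.centralizer ({t} : Set G) :=
    fun x hx hx1 => cent_eq h ht hx1 (mem_cent.mp hx)
  refine ⟨le_refl _, ?_, ?_, ?_, ?_⟩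
  · intro a ha b hb
    exact h t ht a b (mem_cent.mp ha) (mem_cent.mp hb)
  · intro x hx hx1 g hg
    have hgx1 : g⁻¹ * x * g ≠ 1 := by
      intro hh
      apply hx1
      have : x = g * (g⁻¹ * x * g) * g⁻¹ := by group
      rw [this, hh]
      group
    rw [Subgroup.mem_normalizer_iff]
    intro n
    have h1 := hcent _ hg hgx1
    have h2 := hcent x hx hx1
    constructor
    · intro hn
      rw [← h1, mem_cent] at hn
      have : g * n * g⁻¹ ∈ Subgroup.centralizer ({x} : Set G) := by
        rw [mem_cent]
        calc g * n * g⁻¹ * x = g * (n * (g⁻¹ * x * g)) * g⁻¹ := by group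
          _ = g * ((g⁻¹ * x * g) * n) * g⁻¹ := by rw [hn]
          _ = x * (g * n * g⁻¹) := by group
      rwa [h2] at this
    · intro hn
      change g * n * g⁻¹ ∈ Subgroup.centralizer ({t} : Set G) at hn
      rw [← h2, mem_cent] at hn
      have : n ∈ Subgroup.centralizer ({g⁻¹ * x * g} : Set G) := by
        rw [mem_cent]
        calc n * (g⁻¹ * x * g) = g⁻¹ * ((g * n * g⁻¹) * x) * g := by group
          _ = g⁻¹ * (x * (g * n * g⁻¹)) * g := by rw [hn]
          _ = g⁻¹ * x * g * n := by group
      rwa [h1] at this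
  · intro n hn y hy
    exact (Subgroup.mem_normalizer_iff.mp hn y).mp hy
  · intro y hy hy1 g hg
    rw [← hcent y hy hy1, mem_cent]
    exact hg

/-- An involution normalizing the centralizer of an involution lies in it. -/
theorem mem_of_mem_normalizer (h : IsCA G) {t z : G} (ht : orderOf t = 2) (hz : orderOf z = 2)
    (hzN : z ∈ Subgroup.normalizer ((Subgroup.centralizer ({t} : Set G) : Subgroup G) : Set G)) :
    z ∈ Subgroup.centralizer ({t} : Set G) := by
  haveI : Fact (Nat.Prime 2) := ⟨Nat.prime_two⟩
  have ht' := (orderOf_eq_prime_iff.mp ht)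
  have hz' := (orderOf_eq_prime_iff.mp hz)
  have ht1 : t ≠ 1 := ht'.2
  have htA : t ∈ Subgroup.centralizer ({t} : Set G) := mem_cent.mpr rfl
  have hzt : z * t * z⁻¹ ∈ Subgroup.centralizer ({t} : Set G) :=
    (Subgroup.mem_normalizer_iff.mp hzN t).mp htA
  have hzi : z⁻¹ = z := by
    rw [inv_eq_iff_mul_eq_one, ← sq, hz'.1]
  by_cases hx : t * (z * t * z⁻¹) = 1
  · -- `z` centralizes `t`
    rw [mem_cent]
    have hti : t⁻¹ = t := by
      rw [inv_eq_iff_mul_eq_one, ← sq, ht'.1]
    have h1 : z * t * z⁻¹ = t := by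
      have : z * t * z⁻¹ = t⁻¹ := by
        rw [eq_inv_iff_mul_eq_one, ← hx]
        exact (mem_cent.mp hzt)
      rw [this, hti]
    calc z * t = z * t * z⁻¹ * z := by group
      _ = t * z := by rw [h1]
  · -- `z` centralizes the nonidentity element `t * (z t z⁻¹)` of `A`
    have hxA : t * (z * t * z⁻¹) ∈ Subgroup.centralizer ({t} : Set G) :=
      Subgroup.mul_mem _ htA hzt
    have h1 := cent_eq h ht1 hx (mem_cent.mp hxA)
    rw [← h1, mem_cent]
    have h2 : z * t * z⁻¹ * t = t * (z * t * z⁻¹) := mem_cent.mp hzt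
    rw [hzi] at h2 ⊢
    have hz2 : z * z = 1 := by rw [← sq, hz'.1]
    calc z * (t * (z * t * z)) = (z * t * z) * (z * z) * t * z := by
          rw [hz2]; group
      _ = (z * t * z * t) * z := by rw [hz2]; group
      _ = t * (z * t * z) * z := by rw [h2]

end Cfsg.Agent.Lib.Helper7.CAGrp
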