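import Mathlib
import Cfsg.Prelude.Def_Involutions
import Cfsg.Agent.Lib.Helper7.CAGrpA
import Cfsg.Agent.S1225
import Cfsg.Agent.S0215

set_option autoImplicit false
set_option linter.style.haveILetI false
set_option linter.unusedSectionVars false

/-!
# Groups in which the centralizer of every nonidentity element is abelian: the centralizer of an
involution in a simple group is an elementary abelian 2-group
-/

namespace Cfsg.Agent.Lib.Helper7.CAGrp

open Cfsg Cfsg.Agent.Lib.Helper7.ExcA

variable {G : Type*} [Group G] [Finite G]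

theorem sq_eq_one_of_orderOf {z : G} (hz : orderOf z = 2) : z ^ 2 = 1 := by
  rw [← hz]; exact pow_orderOf_eq_one z

theorem ne_one_of_orderOf {z : G} (hz : orderOf z = 2) : z ≠ 1 := by
  intro h
  rw [h, orderOf_one] at hz
  omega

theorem orderOf_conj_two {z : G} (hz : orderOf z = 2) (g : G) : orderOf (g * z * g⁻¹) = 2 := by
  haveI : Fact (Nat.Prime 2) := ⟨Nat.prime_two⟩
  rw [orderOf_eq_prime_iff]
  constructor
  · rw [conj_pow, sq_eq_one_of_orderOf hz, mul_one, mul_inv_cancel]
  · intro hh
    apply ne_one_of_orderOf hz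
    have : z = g⁻¹ * (g * z * g⁻¹) * g := by group
    rw [this, hh]
    group

/-- The normalizer of the centralizer of an involution is strongly embedded, unless it is `G`. -/
theorem stronglyEmbedded (h : IsCA G) {t : G} (ht : orderOf t = 2)
    (hnn : Subgroup.normalizer ((Subgroup.centralizer ({t} : Set G) : Subgroup G) : Set G) ≠ ⊤) :
    IsStronglyEmbedded
      (Subgroup.normalizer ((Subgroup.centralizer ({t} : Set G) : Subgroup G) : Set G)) := by
  haveI : Fact (Nat.Prime 2) := ⟨Nat.prime_two⟩
  have ht1 := ne_one_of_orderOf ht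
  have htA : t ∈ Subgroup.centralizer ({t} : Set G) := mem_cent.mpr rfl
  refine ⟨hnn, ?_, ?_⟩
  · rw [even_iff_two_dvd, ← ht]
    have := orderOf_dvd_natCard (⟨t, Subgroup.le_normalizer htA⟩ :
      Subgroup.normalizer ((Subgroup.centralizer ({t} : Set G) : Subgroup G) : Set G))
    rwa [Subgroup.orderOf_mk] at this
  · intro g hg
    by_contra hodd
    rw [Nat.not_odd_iff_even, even_iff_two_dvd] at hodd
    obtain ⟨z, hz⟩ := exists_prime_orderOf_dvd_card' 2 hodd
    have hz2 : orderOf (z : G) = 2 := by rw [Subgroup.orderOf_coe]; exact hz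
    have hzN := (Subgroup.mem_inf.mp z.2).1
    obtain ⟨z', hz'N, hz'⟩ := Subgroup.mem_map.mp (Subgroup.mem_inf.mp z.2).2
    have hz'eq : g * z' * g⁻¹ = (z : G) := hz'
    have hz'2 : orderOf z' = 2 := by
      have : z' = g⁻¹ * (z : G) * (g⁻¹)⁻¹ := by rw [← hz'eq]; group
      rw [this]
      exact orderOf_conj_two hz2 _
    have hzA := mem_of_mem_normalizer h ht hz2 hzN
    have hz'A := mem_of_mem_normalizer h ht hz'2 hz'N
    apply hg
    have h1 := (hyp h ht1).ti z' hz'A (ne_one_of_orderOf hz'2) g⁻¹ (by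
      rw [inv_inv, hz'eq]; exact hzA)
    have := Subgroup.inv_mem _ h1
    rwa [inv_inv] at this

section simple

variable [IsSimpleGroup G]

/-- In a simple group the centralizer of an involution is not normal, unless it is `G`. -/
theorem normalizer_ne_top {t : G} (ht : orderOf t = 2)
    (hA : Subgroup.centralizer ({t} : Set G) ≠ ⊤) :
    Subgroup.normalizer ((Subgroup.centralizer ({t} : Set G) : Subgroup G) : Set G) ≠ ⊤ := by
  intro hN
  have hn : (Subgroup.centralizer ({t} : Set G)).Normal := Subgroup.normalizer_eq_top_iff.mp hN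
  rcases hn.eq_bot_or_eq_top with h1 | h1
  · have htA : t ∈ Subgroup.centralizer ({t} : Set G) := mem_cent.mpr rfl
    rw [h1, Subgroup.mem_bot] at htA
    exact ne_one_of_orderOf ht htA
  · exact hA h1

/-- Some involution lies outside the normalizer of the centralizer of a given involution. -/
theorem exists_involution_not_mem (h : IsCA G) {t : G} (ht : orderOf t = 2)
    (hA : Subgroup.centralizer ({t} : Set G) ≠ ⊤) :
    ∃ u : G, orderOf u = 2 ∧
      u ∉ Subgroup.normalizer ((Subgroup.centralizer ({t} : Set G) : Subgroup G) : Set G) := by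
  by_contra hcon
  push Not at hcon
  apply hA
  have hle : Subgroup.normalClosure ({t} : Set G) ≤ Subgroup.centralizer ({t} : Set G) := by
    unfold Subgroup.normalClosure
    rw [Subgroup.closure_le]
    intro x hx
    obtain ⟨a, ha, hax⟩ := Group.mem_conjugatesOfSet_iff.mp hx
    rw [Set.mem_singleton_iff] at ha
    subst ha
    obtain ⟨c, hc⟩ := isConj_iff.mp hax
    have hx2 : orderOf x = 2 := by rw [← hc]; exact orderOf_conj_two ht c
    exact mem_of_mem_normalizer h ht hx2 (hcon x hx2)
  have hne : Subgroup.normalClosure ({t} : Set G) ≠ ⊥ := by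
    intro hb
    have : t ∈ Subgroup.normalClosure ({t} : Set G) :=
      Subgroup.subset_normalClosure (Set.mem_singleton t)
    rw [hb, Subgroup.mem_bot] at this
    exact ne_one_of_orderOf ht this
  have htop := (Subgroup.normalClosure_normal (s := ({t} : Set G))).eq_bot_or_eq_top.resolve_left hne
  rw [htop] at hle
  exact top_le_iff.mp hle

/-- The centralizer of an involution contains a second involution. -/
theorem exists_two_involutions (h : IsCA G) {t : G} (ht : orderOf t = 2)
    (hA : Subgroup.centralizer ({t} : Set G) ≠ ⊤) :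
    ∃ s ∈ Subgroup.centralizer ({t} : Set G), orderOf s = 2 ∧ s ≠ t := by
  haveI : Fact (Nat.Prime 2) := ⟨Nat.prime_two⟩
  by_contra hcon
  push Not at hcon
  have ht1 := ne_one_of_orderOf ht
  -- a Sylow 2-subgroup containing `t`
  have hpz : IsPGroup 2 (Subgroup.zpowers t) := by
    rw [IsPGroup.iff_card]
    refine ⟨1, ?_⟩
    rw [Nat.card_zpowers, ht, pow_one]
  obtain ⟨P, hP⟩ := hpz.exists_le_sylow
  have htP : t ∈ (P : Subgroup G) := hP (Subgroup.mem_zpowers t)
  -- `P` is abelian
  haveI : Nontrivial (P : Subgroup G) := ⟨⟨⟨t, htP⟩, 1, fun hh => ht1 (congrArg Subtype.val hh)⟩⟩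
  haveI := P.isPGroup'.center_nontrivial
  obtain ⟨z, hz1⟩ := exists_ne (1 : Subgroup.center (P : Subgroup G))
  have hz1' : ((z : (P : Subgroup G)) : G) ≠ 1 := by
    intro hh
    apply hz1
    apply Subtype.ext
    apply Subtype.ext
    exact hh
  have hPz : ∀ a ∈ (P : Subgroup G), a * ((z : (P : Subgroup G)) : G) = ((z : (P : Subgroup G)) : G) * a := by
    intro a ha
    have := (Subgroup.mem_center_iff.mp z.2) ⟨a, ha⟩
    exact congrArg Subtype.val this
  have hPab : ∀ a ∈ (P : Subgroup G), ∀ b ∈ (P : Subgroup G), a * b = b * a := by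
    intro a ha b hb
    exact h _ hz1' a b (hPz a ha) (hPz b hb)
  have hPA : (P : Subgroup G) ≤ Subgroup.centralizer ({t} : Set G) := by
    intro a ha
    rw [mem_cent]
    exact hPab a ha t htP
  -- `t` is isolated in `P`
  have hiso : ∀ g : G, g * t * g⁻¹ ∈ P → g * t * g⁻¹ = t := by
    intro g hg
    exact hcon _ (hPA hg) (orderOf_conj_two ht g)
  obtain ⟨N, hNn, hNodd, hN⟩ := Cfsg.Agent.S0215.result P t ht htP hiso
  rcases hNn.eq_bot_or_eq_top with hb | hb
  · apply hA
    rw [eq_top_iff]
    intro g _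
    rw [mem_cent]
    have := hN g
    rw [hb, Subgroup.mem_bot] at this
    calc g * t = (t * g * t⁻¹ * g⁻¹)⁻¹ * (t * g * t⁻¹ * g⁻¹) * g * t := by group
      _ = (t * g * t⁻¹ * g⁻¹)⁻¹ * (t * g) := by group
      _ = t * g := by rw [this]; group
  · rw [hb] at hNodd
    have h2 : 2 ∣ Nat.card G := by
      rw [← ht]; exact orderOf_dvd_natCard t
    rw [Nat.card_congr (Subgroup.topEquiv (G := G)).toEquiv] at hNodd
    exact (Nat.not_even_iff_odd.mpr hNodd) (even_iff_two_dvd.mpr h2)

/-- **The centralizer of an involution in a simple group all of whose centralizers of nonidentity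
elements are abelian is an elementary abelian `2`-group.** -/
theorem centralizer_sq_eq_one (h : IsCA G) (hnc : ∃ a b : G, a * b ≠ b * a) {t : G}
    (ht : orderOf t = 2) : ∀ y ∈ Subgroup.centralizer ({t} : Set G), y ^ 2 = 1 := by
  have ht1 := ne_one_of_orderOf ht
  have hA : Subgroup.centralizer ({t} : Set G) ≠ ⊤ := by
    intro htop
    obtain ⟨a, b, hab⟩ := hnc
    apply hab
    have ha : a ∈ Subgroup.centralizer ({t} : Set G) := by rw [htop]; trivial
    have hb : b ∈ Subgroup.centralizer ({t} : Set G) := by rw [htop]; trivial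
    exact (hyp h ht1).comm a ha b hb
  have hnn := normalizer_ne_top ht hA
  have hSE := stronglyEmbedded h ht hnn
  obtain ⟨u, hu, huN⟩ := exists_involution_not_mem h ht hA
  obtain ⟨s, hsA, hs2, hst⟩ := exists_two_involutions h ht hA
  have htA : t ∈ Subgroup.centralizer ({t} : Set G) := mem_cent.mpr rfl
  intro y hy
  by_contra hy2
  apply hnn
  apply normalizer_eq_top _ _ (hyp h ht1) (fun _ hx _ => hx) ?_ s t hsA htA hs2 ht hst y hy hy2
  intro a ha b hb ha2 hb2
  obtain ⟨⟨d, hd, hdab⟩, -⟩ := Cfsg.Agent.S1225.result _ hSE u hu huN a b ha2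
    (Subgroup.le_normalizer ha) hb2 (Subgroup.le_normalizer hb)
  exact ⟨d, (Subgroup.mem_inf.mp hd).1, hdab⟩

end simple

end Cfsg.Agent.Lib.Helper7.CAGrp
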