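import Mathlib
import Cfsg.Agent.H9.DicksonUN

set_option autoImplicit false

/-!
# `PSL₂` over a field of characteristic two: commuting is transitive on nonidentity elements
-/

namespace Cfsg.Agent.Lib.Helper7.CAGrp

open Matrix

variable {F : Type*} [Field F]

local notation "SL2" => Matrix.SpecialLinearGroup (Fin 2) F
local notation "PSL2" => Matrix.ProjectiveSpecialLinearGroup (Fin 2) F

/-- In characteristic two, `-1 = 1` in `SL₂`. -/
theorem sl_neg_one_eq_one (h2 : (2 : F) = 0) : (-1 : SL2) = 1 := by
  have h1 : (-1 : F) = 1 := by linear_combination (-1 : F) * h2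
  apply Subtype.ext
  ext i j
  fin_cases i <;> fin_cases j <;> simp [h1]

/-- In characteristic two the center of `SL₂` is trivial. -/
theorem sl_center_eq_bot (h2 : (2 : F) = 0) : Subgroup.center SL2 = ⊥ := by
  rw [eq_bot_iff]
  intro z hz
  rw [Cfsg.Agent.H9.AutPSL2.mem_center_iff'] at hz
  rw [Subgroup.mem_bot]
  rcases hz with h | h
  · exact h
  · rw [h]; exact sl_neg_one_eq_one h2

theorem psl_mk_eq_iff (h2 : (2 : F) = 0) (x y : SL2) :
    ((x : SL2 ⧸ Subgroup.center SL2) = (y : SL2 ⧸ Subgroup.center SL2)) ↔ x = y := by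
  rw [QuotientGroup.eq, sl_center_eq_bot h2, Subgroup.mem_bot]
  constructor
  · intro h
    calc x = x * (x⁻¹ * y) := by rw [h, mul_one]
      _ = y := by group
  · intro h
    rw [h]; group

/-- **Commuting is transitive on the nonidentity elements of `PSL₂(F)` in characteristic two.** -/
theorem psl_char_two_ct (h2 : (2 : F) = 0) (a b c : PSL2) (hb : b ≠ 1)
    (hab : a * b = b * a) (hbc : b * c = c * b) : a * c = c * a := by
  obtain ⟨A, rfl⟩ := QuotientGroup.mk_surjective a
  obtain ⟨B, rfl⟩ := QuotientGroup.mk_surjective b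
  obtain ⟨C, rfl⟩ := QuotientGroup.mk_surjective c
  have hAB : A * B = B * A := by
    have := hab
    rw [← QuotientGroup.mk_mul, ← QuotientGroup.mk_mul] at this
    exact (psl_mk_eq_iff h2 _ _).mp this
  have hBC : B * C = C * B := by
    have := hbc
    rw [← QuotientGroup.mk_mul, ← QuotientGroup.mk_mul] at this
    exact (psl_mk_eq_iff h2 _ _).mp this
  have hBn : B ∉ Subgroup.center SL2 := by
    intro hB
    apply hb
    exact (QuotientGroup.eq_one_iff B).mpr hB
  have hns := Cfsg.Agent.H9.DicksonSS.nonScalar_of_not_mem_center hBn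
  have := Cfsg.Agent.H9.DicksonUN.commute_of_nonScalar hns A C hAB hBC.symm
  rw [← QuotientGroup.mk_mul, ← QuotientGroup.mk_mul, this]

end Cfsg.Agent.Lib.Helper7.CAGrp
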