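import Mathlib
import Cfsg.Prelude.Def_SubgroupEmbedding
import Cfsg.Prelude.Def_TwoFusion
import Cfsg.Agent.Lib.Lead.Conj

set_option autoImplicit false

namespace Cfsg.Agent.Lib.Helper7

open Cfsg Cfsg.Agent.Lib.Lead.Conj

variable {G : Type*} [Group G] [Finite G] {p : ℕ} [Fact p.Prime]

/-- A subgroup `H` of a finite `p`-subgroup `T` with `N_T(H) = H` is all of `T`. -/
theorem eq_of_inf_normalizer_eq {H T : Subgroup G} (hT : IsPGroup p ↥T) (hHT : H ≤ T)
    (h : T ⊓ Subgroup.normalizer (H : Set G) = H) : T = H := by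
  by_contra hne
  have : Group.IsNilpotent ↥T := hT.isNilpotent
  have hlt : H.subgroupOf T < ⊤ := by
    rw [lt_top_iff_ne_top]
    intro htop
    apply hne
    apply le_antisymm _ hHT
    intro x hx
    have : (⟨x, hx⟩ : ↥T) ∈ H.subgroupOf T := by rw [htop]; exact Subgroup.mem_top _
    exact Subgroup.mem_subgroupOf.mp this
  have hnc := Group.normalizerCondition_of_isNilpotent (G := ↥T) _ hlt
  obtain ⟨x, hxN, hxK⟩ := SetLike.exists_of_lt hnc
  apply hxK
  rw [Subgroup.mem_subgroupOf, ← h]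
  refine ⟨x.2, ?_⟩
  apply mem_normalizer_of_conj_mem
  intro r hr
  have h1 := (Subgroup.mem_normalizer_iff.mp hxN ⟨r, hHT hr⟩).mp (Subgroup.mem_subgroupOf.mpr hr)
  exact Subgroup.mem_subgroupOf.mp h1

/-- For an extremely closed `p`-subgroup `H`: a conjugate of `H` generating a `p`-group with `H` equals `H`. -/
theorem IsExtremelyClosed.conj_eq_of_isPGroup {H : Subgroup G} (hcl : IsExtremelyClosed H) (g : G)
    (hp : IsPGroup p ↥(H ⊔ H.map (MulAut.conj g).toMonoidHom)) :
    H.map (MulAut.conj g).toMonoidHom = H := by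
  have h1 := eq_of_inf_normalizer_eq hp le_sup_left (hcl g)
  apply map_conj_eq_of_le
  calc H.map (MulAut.conj g).toMonoidHom ≤ H ⊔ H.map (MulAut.conj g).toMonoidHom := le_sup_right
    _ = H := h1

theorem extremelyClosed_pGroup_props (H : Subgroup G) (hHp : IsPGroup p H) (hcl : IsExtremelyClosed H) :
    (∀ Q : Subgroup G, IsPGroup p Q → H ≤ Q →
        Subgroup.normalizer (Q : Set G) ≤ Subgroup.normalizer (H : Set G)) ∧
      ∀ P : Sylow p G, H ≤ (P : Subgroup G) →
        (P : Subgroup G) ≤ Subgroup.normalizer (H : Set G) ∧ IsStronglyClosed H (P : Subgroup G) := by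
  have key : ∀ Q : Subgroup G, IsPGroup p Q → H ≤ Q → ∀ n ∈ Subgroup.normalizer (Q : Set G),
      n ∈ Subgroup.normalizer (H : Set G) := by
    intro Q hQ hHQ n hn
    have hle : H.map (MulAut.conj n).toMonoidHom ≤ Q := by
      rintro _ ⟨x, hx, rfl⟩
      exact (Subgroup.mem_normalizer_iff.mp hn x).mp (hHQ hx)
    have hp' : IsPGroup p ↥(H ⊔ H.map (MulAut.conj n).toMonoidHom) := hQ.to_le (sup_le hHQ hle)
    have heq := IsExtremelyClosed.conj_eq_of_isPGroup hcl n hp'
    apply mem_normalizer_of_conj_mem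
    intro r hr
    rw [← heq]
    exact ⟨r, hr, rfl⟩
  refine ⟨fun Q hQ hHQ n hn => key Q hQ hHQ n hn, fun P hHP => ?_⟩
  have hPN : (P : Subgroup G) ≤ Subgroup.normalizer (H : Set G) := fun x hx =>
    key P P.isPGroup' hHP x (Subgroup.le_normalizer hx)
  refine ⟨hPN, hHP, fun x hx g hgx => ?_⟩
  rw [← hcl g]
  exact ⟨Subgroup.mem_sup_right ⟨x, hx, rfl⟩, hPN hgx⟩

end Cfsg.Agent.Lib.Helper7
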