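import Mathlib
import Cfsg.Agent.Lib.Lead.AlperinGoldschmidt
import Cfsg.Agent.Lib.Helper7.ExtremelyClosed
import Cfsg.Agent.Lib.Helper7.WeaklyClosed

set_option autoImplicit false
set_option linter.style.haveILetI false
set_option linter.unusedVariables false
set_option linter.unusedSectionVars false

open scoped commutatorElement

namespace Cfsg.Agent.Lib.Helper7.NormalLift

open Cfsg Cfsg.Agent.Lib.Helper7 Cfsg.Agent.Lib.Lead.Conj Cfsg.Agent.Lib.Lead.ConjFamily
  Cfsg.Agent.Lib.Lead.AlperinGoldschmidt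

universe u
variable {G : Type u} [Group G]

/-! ### stability group of a descending chain -/

/-- the stability group of the chain `c 0 ≥ c 1 ≥ …` -/
def chainStab (c : ℕ → Subgroup G) (hc : ∀ j, c (j + 1) ≤ c j) : Subgroup G where
  carrier := {x | ∀ j, ∀ u ∈ c j, x * u * x⁻¹ * u⁻¹ ∈ c (j + 1) ∧ x⁻¹ * u * x * u⁻¹ ∈ c (j + 1)}
  one_mem' := by
    intro j u hu
    simp
  mul_mem' := by
    intro x y hx hy j u hu
    constructor
    · have hv := (hy j u hu).1
      have h1 := (hx (j + 1) _ hv).1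
      have h2 : x * (y * u * y⁻¹ * u⁻¹) * x⁻¹ ∈ c (j + 1) := by
        have := (c (j + 1)).mul_mem (hc (j + 1) h1) hv
        have e : x * (y * u * y⁻¹ * u⁻¹) * x⁻¹ * (y * u * y⁻¹ * u⁻¹)⁻¹ * (y * u * y⁻¹ * u⁻¹)
            = x * (y * u * y⁻¹ * u⁻¹) * x⁻¹ := by group
        rwa [e] at this
      have h3 := (c (j + 1)).mul_mem h2 (hx j u hu).1
      have e : x * (y * u * y⁻¹ * u⁻¹) * x⁻¹ * (x * u * x⁻¹ * u⁻¹) = x * y * u * (x * y)⁻¹ * u⁻¹ := by group
      rwa [e] at h3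
    · have hv := (hx j u hu).2
      have h1 := (hy (j + 1) _ hv).2
      have h2 : y⁻¹ * (x⁻¹ * u * x * u⁻¹) * y ∈ c (j + 1) := by
        have := (c (j + 1)).mul_mem (hc (j + 1) h1) hv
        have e : y⁻¹ * (x⁻¹ * u * x * u⁻¹) * y * (x⁻¹ * u * x * u⁻¹)⁻¹ * (x⁻¹ * u * x * u⁻¹)
            = y⁻¹ * (x⁻¹ * u * x * u⁻¹) * y := by group
        rwa [e] at this
      have h3 := (c (j + 1)).mul_mem h2 (hy j u hu).2
      have e : y⁻¹ * (x⁻¹ * u * x * u⁻¹) * y * (y⁻¹ * u * y * u⁻¹) = (x * y)⁻¹ * u * (x * y) * u⁻¹ := by group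
      rwa [e] at h3
  inv_mem' := by
    intro x hx j u hu
    rw [inv_inv]
    exact ⟨(hx j u hu).2, (hx j u hu).1⟩

theorem mem_chainStab {c : ℕ → Subgroup G} {hc : ∀ j, c (j + 1) ≤ c j} {x : G} :
    x ∈ chainStab c hc ↔
      ∀ j, ∀ u ∈ c j, x * u * x⁻¹ * u⁻¹ ∈ c (j + 1) ∧ x⁻¹ * u * x * u⁻¹ ∈ c (j + 1) := Iff.rfl

/-- a `p'`-element centralizing `z` with `y u y⁻¹ = z u`, `z` a `p`-element: then `z = 1` -/
theorem eq_one_of_coprime {p : ℕ} [Fact p.Prime] {y z u : G} {m : ℕ} (hm : y ^ m = 1) (hcop : m.Coprime p)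
    (hz : y * u * y⁻¹ = z * u) (hyz : y * z = z * y) (hzp : ∃ b : ℕ, z ^ p ^ b = 1) : z = 1 := by
  have h1 : ∀ i : ℕ, y ^ i * u * (y ^ i)⁻¹ = z ^ i * u := by
    intro i
    induction i with
    | zero => simp
    | succ i ih =>
      have hc : y * z ^ i = z ^ i * y := (Commute.pow_right (show Commute y z from hyz) i).eq
      calc y ^ (i + 1) * u * (y ^ (i + 1))⁻¹ = y * (y ^ i * u * (y ^ i)⁻¹) * y⁻¹ := by
            rw [pow_succ']; group
        _ = y * (z ^ i * u) * y⁻¹ := by rw [ih]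
        _ = (y * z ^ i) * u * y⁻¹ := by group
        _ = z ^ i * (y * u * y⁻¹) := by rw [hc]; group
        _ = z ^ (i + 1) * u := by rw [hz, pow_succ]; group
  have h2 := h1 m
  rw [hm] at h2
  have h3 : z ^ m = 1 := by
    have : u = z ^ m * u := by simpa using h2
    exact (mul_eq_right.mp this.symm)
  obtain ⟨b, hb⟩ := hzp
  have h4 : orderOf z ∣ m := orderOf_dvd_of_pow_eq_one h3
  have h5 : orderOf z ∣ p ^ b := orderOf_dvd_of_pow_eq_one hb
  have h6 : orderOf z ∣ Nat.gcd m (p ^ b) := Nat.dvd_gcd h4 h5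
  rw [Nat.Coprime.pow_right b hcop, Nat.dvd_one, orderOf_eq_one_iff] at h6
  exact h6

/-- elements of the stability group of a chain of `p`-groups ending in `1` are `p`-elements modulo the centralizer -/
theorem exists_pow_mem_centralizer [Finite G] {p : ℕ} [Fact p.Prime] {c : ℕ → Subgroup G}
    {hc : ∀ j, c (j + 1) ≤ c j} (hp : IsPGroup p ↥(c 0)) {n : ℕ} (hn : c n = ⊥) {x : G}
    (hx : x ∈ chainStab c hc) : ∃ j : ℕ, x ^ p ^ j ∈ Subgroup.centralizer ((c 0 : Subgroup G) : Set G) := by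
  have hpos : orderOf x ≠ 0 := (orderOf_pos x).ne'
  obtain ⟨a, m, hm, hnm⟩ := Nat.exists_eq_pow_mul_and_not_dvd hpos p (Nat.Prime.ne_one Fact.out)
  have hmcop : Nat.Coprime m p := ((Nat.Prime.coprime_iff_not_dvd Fact.out).mpr hm).symm
  refine ⟨a, ?_⟩
  set y := x ^ p ^ a with hy
  have hyS : y ∈ chainStab c hc := Subgroup.pow_mem _ hx _
  have hym : y ^ m = 1 := by rw [hy, ← pow_mul, ← hnm, pow_orderOf_eq_one]
  have hle : ∀ j, c j ≤ c 0 := by
    intro j
    induction j with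
    | zero => exact le_rfl
    | succ j ih => exact (hc j).trans ih
  have key : ∀ k, k ≤ n → y ∈ Subgroup.centralizer ((c (n - k) : Subgroup G) : Set G) := by
    intro k
    induction k with
    | zero =>
      intro _
      rw [Nat.sub_zero, hn]
      rw [Subgroup.mem_centralizer_iff]
      intro u hu
      rw [SetLike.mem_coe, Subgroup.mem_bot] at hu
      rw [hu, one_mul, mul_one]
    | succ k ih =>
      intro hk
      have ih' := ih (by omega)
      have e : n - k = (n - (k + 1)) + 1 := by omega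
      rw [e] at ih'
      rw [Subgroup.mem_centralizer_iff]
      intro u hu
      have hz := ((mem_chainStab.mp hyS) (n - (k + 1)) u hu).1
      set z := y * u * y⁻¹ * u⁻¹ with hzdef
      have hyz : y * z = z * y := ((Subgroup.mem_centralizer_iff.mp ih') z hz).symm
      have hzu : y * u * y⁻¹ = z * u := by rw [hzdef]; group
      have hzp : ∃ b : ℕ, z ^ p ^ b = 1 := by
        obtain ⟨b, hb⟩ := hp ⟨z, hle _ hz⟩
        exact ⟨b, by simpa using congrArg Subtype.val hb⟩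
      have hz1 := eq_one_of_coprime hym hmcop hzu hyz hzp
      rw [hz1, one_mul] at hzu
      calc u * y = (y * u * y⁻¹) * y := by rw [hzu]
        _ = y * u := by group
  have := key n le_rfl
  rwa [Nat.sub_self] at this

/-! ### combining control by several subgroups -/

/-- `N_N(V)` controls strong fusion in `Q` with respect to `N` -/
def Ctl (N Q V : Subgroup G) : Prop :=
  ∀ A : Subgroup G, A ≤ Q → ∀ n ∈ N, cj n A ≤ Q →
    ∃ h ∈ N ⊓ Subgroup.normalizer (V : Set G), ∃ c ∈ N ⊓ Subgroup.centralizer (A : Set G), n = h * c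

theorem Ctl.conj {N Q V : Subgroup G} [hN : N.Normal] (h : Ctl N Q V) {x : G}
    (hx : x ∈ Subgroup.normalizer (Q : Set G)) : Ctl N Q (cj x V) := by
  intro A hA n hn hnA
  have hxQ : cj x⁻¹ Q = Q := cj_eq_of_mem_normalizer (Subgroup.inv_mem _ hx)
  have hA' : cj x⁻¹ A ≤ Q := by
    have := cj_mono x⁻¹ hA
    rwa [hxQ] at this
  have hn' : x⁻¹ * n * x ∈ N := by
    have := hN.conj_mem n hn x⁻¹
    rwa [inv_inv] at this
  have hnA' : cj (x⁻¹ * n * x) (cj x⁻¹ A) ≤ Q := by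
    rw [cj_mul]
    have e : x⁻¹ * n * x * x⁻¹ = x⁻¹ * n := by group
    rw [e, ← cj_mul]
    have := cj_mono x⁻¹ hnA
    rwa [hxQ] at this
  obtain ⟨h', hh', c', hc', he⟩ := h (cj x⁻¹ A) hA' (x⁻¹ * n * x) hn' hnA'
  refine ⟨x * h' * x⁻¹, ⟨hN.conj_mem h' hh'.1 x, ?_⟩, x * c' * x⁻¹, ⟨hN.conj_mem c' hc'.1 x, ?_⟩, ?_⟩
  · show x * h' * x⁻¹ ∈ Subgroup.normalizer ((cj x V : Subgroup G) : Set G)
    rw [normalizer_cj]
    exact (mem_cj _ _ _).mpr (by
      have e : x⁻¹ * (x * h' * x⁻¹) * x = h' := by group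
      rw [e]; exact hh'.2)
  · show x * c' * x⁻¹ ∈ Subgroup.centralizer (A : Set G)
    rw [Subgroup.mem_centralizer_iff]
    intro a ha
    have ha' : x⁻¹ * a * x ∈ cj x⁻¹ A := (mem_cj _ _ _).mpr (by
      rw [inv_inv]
      have e : x * (x⁻¹ * a * x) * x⁻¹ = a := by group
      rw [e]; exact ha)
    have := (Subgroup.mem_centralizer_iff.mp hc'.2) _ ha'
    calc a * (x * c' * x⁻¹) = x * ((x⁻¹ * a * x) * c') * x⁻¹ := by group
      _ = x * (c' * (x⁻¹ * a * x)) * x⁻¹ := by rw [this]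
      _ = x * c' * x⁻¹ * a := by group
  · have : n = x * (x⁻¹ * n * x) * x⁻¹ := by group
    rw [this, he]; group

open Classical in
theorem ctl_finset [Finite G] {N Q : Subgroup G} (s : Finset (Subgroup G))
    (hs : ∀ V' ∈ s, V' ≤ Q ∧ Ctl N Q V') :
    ∀ A : Subgroup G, A ≤ Q → ∀ n ∈ N, cj n A ≤ Q →
      ∃ h ∈ N, (∀ V' ∈ s, h ∈ Subgroup.normalizer (V' : Set G)) ∧
        ∃ c ∈ N ⊓ Subgroup.centralizer (A : Set G), n = h * c := by
  induction s using Finset.induction_on with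
  | empty =>
    intro A hA n hn hnA
    exact ⟨n, hn, by simp, 1, Subgroup.one_mem _, by simp⟩
  | insert V' s hV's ih =>
    intro A hA n hn hnA
    have ih' := ih (fun V'' hV'' => hs V'' (Finset.mem_insert_of_mem hV''))
    obtain ⟨hV'Q, hV'c⟩ := hs V' (Finset.mem_insert_self _ _)
    obtain ⟨h₁, hh₁, c₁, hc₁, he₁⟩ := hV'c A hA n hn hnA
    have hh₁A : cj h₁ A ≤ Q := by
      intro y hy
      apply hnA
      rw [mem_cj] at hy ⊢
      have hc := (Subgroup.mem_centralizer_iff.mp hc₁.2) _ hy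
      have e : n⁻¹ * y * n = c₁⁻¹ * ((h₁⁻¹ * y * h₁) * c₁) := by rw [he₁]; group
      rw [e, hc]
      have e2 : c₁⁻¹ * (c₁ * (h₁⁻¹ * y * h₁)) = h₁⁻¹ * y * h₁ := by group
      rw [e2]; exact hy
    have hB : A ⊔ V' ≤ Q := sup_le hA hV'Q
    have hh₁B : cj h₁ (A ⊔ V') ≤ Q := by
      unfold cj
      rw [Subgroup.map_sup]
      refine sup_le hh₁A ?_
      have : cj h₁ V' = V' := cj_eq_of_mem_normalizer hh₁.2
      unfold cj at this
      rw [this]; exact hV'Q
    obtain ⟨h₂, hh₂, hh₂s, c₂, hc₂, he₂⟩ := ih' (A ⊔ V') hB h₁ hh₁.1 hh₁B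
    have hc₂V : c₂ ∈ Subgroup.centralizer (V' : Set G) :=
      Subgroup.centralizer_le (show (V' : Set G) ⊆ ((A ⊔ V' : Subgroup G) : Set G) from
        (le_sup_right : V' ≤ A ⊔ V')) hc₂.2
    have hc₂A : c₂ ∈ Subgroup.centralizer (A : Set G) :=
      Subgroup.centralizer_le (show (A : Set G) ⊆ ((A ⊔ V' : Subgroup G) : Set G) from
        (le_sup_left : A ≤ A ⊔ V')) hc₂.2
    have hh₂e : h₂ = h₁ * c₂⁻¹ := by rw [he₂]; group
    refine ⟨h₂, hh₂, ?_, c₂ * c₁, ⟨N.mul_mem hc₂.1 hc₁.1, Subgroup.mul_mem _ hc₂A hc₁.2⟩, ?_⟩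
    · intro V'' hV''
      rcases Finset.mem_insert.mp hV'' with rfl | hV''
      · rw [hh₂e]
        exact Subgroup.mul_mem _ hh₁.2
          (Subgroup.inv_mem _ (Subgroup.centralizer_le_normalizer _ hc₂V))
      · exact hh₂s V'' hV''
    · rw [he₁, he₂]; group

/-- the subgroup generated by the conjugates of `V` under `M` -/
def genConj (M V : Subgroup G) : Subgroup G :=
  Subgroup.closure (⋃ x ∈ M, ((cj x V : Subgroup G) : Set G))

theorem cj_le_genConj {M V : Subgroup G} {x : G} (hx : x ∈ M) : cj x V ≤ genConj M V := by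
  intro y hy
  apply Subgroup.subset_closure
  simp only [Set.mem_iUnion]
  exact ⟨x, hx, hy⟩

theorem genConj_le {M V K : Subgroup G} (h : ∀ x ∈ M, cj x V ≤ K) : genConj M V ≤ K := by
  unfold genConj
  rw [Subgroup.closure_le]
  intro y hy
  simp only [Set.mem_iUnion] at hy
  obtain ⟨x, hx, hy⟩ := hy
  exact h x hx hy

theorem mem_normalizer_genConj [Finite G] {M V : Subgroup G} {h : G}
    (hh : ∀ x ∈ M, ∃ x' ∈ M, cj h (cj x V) = cj x' V) : h ∈ Subgroup.normalizer (genConj M V : Set G) := by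
  apply mem_normalizer_of_cj_le
  unfold cj
  rw [Subgroup.map_le_iff_le_comap]
  apply genConj_le
  intro x hx
  rw [← Subgroup.map_le_iff_le_comap]
  obtain ⟨x', hx', he⟩ := hh x hx
  have := cj_le_genConj (V := V) hx'
  unfold cj at he this
  rw [he]
  exact this

theorem le_normalizer_genConj [Finite G] (M V : Subgroup G) :
    M ≤ Subgroup.normalizer (genConj M V : Set G) := by
  intro m hm
  apply mem_normalizer_genConj
  intro x hx
  exact ⟨m * x, M.mul_mem hm hx, cj_mul m x V⟩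

open Classical in
/-- control by all conjugates of `V` under `M ≤ N_G(Q)` gives control by the subgroup they generate -/
theorem ctl_genConj [Finite G] {N Q V M : Subgroup G} [hN : N.Normal] (hV : V ≤ Q) (h : Ctl N Q V)
    (hM : M ≤ Subgroup.normalizer (Q : Set G)) : Ctl N Q (genConj M V) := by
  haveI : Fintype (Subgroup G) := Fintype.ofFinite _
  intro A hA n hn hnA
  set s : Finset (Subgroup G) := Finset.univ.filter (fun V' => ∃ x ∈ M, V' = cj x V) with hs
  have hs' : ∀ V' ∈ s, V' ≤ Q ∧ Ctl N Q V' := by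
    intro V' hV'
    rw [hs, Finset.mem_filter] at hV'
    obtain ⟨-, x, hx, rfl⟩ := hV'
    refine ⟨?_, h.conj (hM hx)⟩
    have := cj_mono x hV
    rwa [cj_eq_of_mem_normalizer (hM hx)] at this
  obtain ⟨h', hh', hh's, c, hc, he⟩ := ctl_finset s hs' A hA n hn hnA
  refine ⟨h', ⟨hh', ?_⟩, c, hc, he⟩
  apply mem_normalizer_genConj
  intro x hx
  refine ⟨x, hx, ?_⟩
  apply cj_eq_of_mem_normalizer
  apply hh's
  rw [hs, Finset.mem_filter]
  exact ⟨Finset.mem_univ _, x, hx, rfl⟩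

/-! ### the lower central series of `W` is strongly closed -/

theorem cj_lcs {W : Subgroup G} {k : G} (hk : cj k W = W) (j : ℕ) :
    cj k (W.lowerCentralSeries j) = W.lowerCentralSeries j := by
  have h1 := Subgroup.map_lowerCentralSeries W (MulAut.conj k).toMonoidHom j
  have hk' : W.map (MulAut.conj k).toMonoidHom = W := hk
  rw [hk'] at h1
  exact h1

theorem lcs_le (W : Subgroup G) (j : ℕ) : W.lowerCentralSeries j ≤ W := by
  have := W.lowerCentralSeries_antitone (Nat.zero_le j)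
  simpa using this

theorem lcs_stronglyClosed [Finite G] {p : ℕ} [Fact p.Prime] (P : Sylow p G) (N : Subgroup G) [hN : N.Normal]
    (W : Subgroup G) (hWQ : W ≤ (P : Subgroup G) ⊓ N)
    (hM : Subgroup.normalizer (((P : Subgroup G) ⊓ N : Subgroup G) : Set G) ≤ Subgroup.normalizer (W : Set G))
    (hctl : Ctl N ((P : Subgroup G) ⊓ N) W) (j : ℕ) :
    ∀ a ∈ W.lowerCentralSeries j, ∀ g : G, g * a * g⁻¹ ∈ (P : Subgroup G) →
      g * a * g⁻¹ ∈ W.lowerCentralSeries j := by
  intro a ha g hga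
  have hSyl : IsSylowIn p ((P : Subgroup G) ⊓ N) N :=
    (IsSylowIn.of_sylow_top P).inf_normal N le_top (by rw [Subgroup.normalizer_eq_top])
  obtain ⟨l, hl, w, hw, hg⟩ := frattini_normal (N := ⊤) hSyl le_top
    (fun n _ => cj_eq_of_mem_normalizer (by rw [Subgroup.normalizer_eq_top]; trivial)) (Subgroup.mem_top g)
  have hwW : w ∈ Subgroup.normalizer (W : Set G) := hM hw.2
  have ha' : w * a * w⁻¹ ∈ W.lowerCentralSeries j := by
    rw [← cj_lcs (cj_eq_of_mem_normalizer hwW) j, mem_cj]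
    have e : w⁻¹ * (w * a * w⁻¹) * w = a := by group
    rw [e]; exact ha
  set a' := w * a * w⁻¹ with ha'def
  have hgl : g * a * g⁻¹ = l * a' * l⁻¹ := by rw [hg, ha'def]; group
  rw [hgl] at hga ⊢
  have ha'W : a' ∈ W := lcs_le W j ha'
  have ha'Q : a' ∈ (P : Subgroup G) ⊓ N := hWQ ha'W
  have hlaQ : l * a' * l⁻¹ ∈ (P : Subgroup G) ⊓ N :=
    ⟨hga, N.mul_mem (N.mul_mem hl ha'Q.2) (N.inv_mem hl)⟩
  have hA : Subgroup.zpowers a' ≤ (P : Subgroup G) ⊓ N := (Subgroup.zpowers_le).mpr ha'Q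
  have hlA : cj l (Subgroup.zpowers a') ≤ (P : Subgroup G) ⊓ N := by
    unfold cj
    rw [MonoidHom.map_zpowers, Subgroup.zpowers_le]
    exact hlaQ
  obtain ⟨h, hh, c, hc, he⟩ := hctl _ hA l hl hlA
  have hca : a' * c = c * a' := (Subgroup.mem_centralizer_iff.mp hc.2) a' (Subgroup.mem_zpowers a')
  have e2 : l * a' * l⁻¹ = h * a' * h⁻¹ := by
    rw [he]
    calc h * c * a' * (h * c)⁻¹ = h * (c * a') * c⁻¹ * h⁻¹ := by group
      _ = h * (a' * c) * c⁻¹ * h⁻¹ := by rw [hca]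
      _ = h * a' * h⁻¹ := by group
  rw [e2, ← cj_lcs (cj_eq_of_mem_normalizer hh.2) j, mem_cj]
  have e : h⁻¹ * (h * a' * h⁻¹) * h = a' := by group
  rw [e]; exact ha'

/-! ### centric radical subgroups contain `W` -/

/-- the chain `U ≥ U ∩ W ≥ U ∩ [W,W] ≥ …` -/
def chainOf (U W : Subgroup G) : ℕ → Subgroup G
  | 0 => U
  | j + 1 => U ⊓ W.lowerCentralSeries j

theorem chainOf_anti (U W : Subgroup G) : ∀ j, chainOf U W (j + 1) ≤ chainOf U W j
  | 0 => inf_le_left
  | j + 1 => inf_le_inf_left U (W.lowerCentralSeries_antitone (Nat.le_succ j))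

theorem le_of_CR [Finite G] {p : ℕ} [Fact p.Prime] (P : Sylow p G) (W : Subgroup G)
    (hWP : W ≤ (P : Subgroup G)) (hPW : (P : Subgroup G) ≤ Subgroup.normalizer (W : Set G))
    (hSC : ∀ j, ∀ a ∈ W.lowerCentralSeries j, ∀ g : G, g * a * g⁻¹ ∈ (P : Subgroup G) →
      g * a * g⁻¹ ∈ W.lowerCentralSeries j)
    {U : Subgroup G} (hU : CR P U) : W ≤ U := by
  have hUP : U ≤ (P : Subgroup G) := hU.1.1
  have hUp : IsPGroup p ↥U := P.isPGroup'.to_le hUP
  have hWp : IsPGroup p ↥W := P.isPGroup'.to_le hWP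
  haveI : Group.IsNilpotent ↥W := hWp.isNilpotent
  obtain ⟨n, hn⟩ := (Subgroup.isNilpotent_iff_lowerCentralSeries W).mp inferInstance
  set c := chainOf U W with hc
  have hanti := chainOf_anti U W
  -- invariance of the chain under `N_G(U)`
  have hinv : ∀ m ∈ Subgroup.normalizer (U : Set G), ∀ j, ∀ u ∈ c j, m * u * m⁻¹ ∈ c j := by
    intro m hm j u hu
    cases j with
    | zero => exact (Subgroup.mem_normalizer_iff.mp hm u).mp hu
    | succ i =>
      have hu' : u ∈ U ⊓ W.lowerCentralSeries i := hu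
      have h1 : m * u * m⁻¹ ∈ U := (Subgroup.mem_normalizer_iff.mp hm u).mp hu'.1
      exact ⟨h1, hSC i u hu'.2 m (hUP h1)⟩
  set L : Subgroup G := chainStab c hanti ⊓ Subgroup.normalizer (U : Set G) with hL
  have hLcj : ∀ m ∈ Subgroup.normalizer (U : Set G), cj m L ≤ L := by
    intro m hm x hx
    rw [mem_cj] at hx
    have hm' : m⁻¹ ∈ Subgroup.normalizer (U : Set G) := Subgroup.inv_mem _ hm
    have hxN : x ∈ Subgroup.normalizer (U : Set G) := by
      have := Subgroup.mul_mem _ (Subgroup.mul_mem _ hm hx.2) hm'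
      have e : m * (m⁻¹ * x * m) * m⁻¹ = x := by group
      rwa [e] at this
    refine ⟨?_, hxN⟩
    show x ∈ chainStab c hanti
    rw [mem_chainStab]
    intro j u hu
    have hu' : m⁻¹ * u * m ∈ c j := by
      have := hinv m⁻¹ hm' j u hu
      rwa [inv_inv] at this
    have h1 := (mem_chainStab.mp hx.1) j _ hu'
    constructor
    · have := hinv m hm (j + 1) _ h1.1
      have e : m * (m⁻¹ * x * m * (m⁻¹ * u * m) * (m⁻¹ * x * m)⁻¹ * (m⁻¹ * u * m)⁻¹) * m⁻¹
          = x * u * x⁻¹ * u⁻¹ := by group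
      rwa [e] at this
    · have := hinv m hm (j + 1) _ h1.2
      have e : m * ((m⁻¹ * x * m)⁻¹ * (m⁻¹ * u * m) * (m⁻¹ * x * m) * (m⁻¹ * u * m)⁻¹) * m⁻¹
          = x⁻¹ * u * x * u⁻¹ := by group
      rwa [e] at this
  have hPModC : PModC p U L := by
    refine ⟨inf_le_right, fun m hm => map_conj_eq_of_le L m (hLcj m hm), ?_⟩
    intro k hk
    have hbot : c (n + 1) = ⊥ := by
      show U ⊓ W.lowerCentralSeries n = ⊥
      rw [hn, inf_bot_eq]
    exact exists_pow_mem_centralizer (c := c) (hc := hanti) hUp hbot hk.1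
  have hD : W ⊓ Subgroup.normalizer (U : Set G) ≤ U := by
    refine le_trans ?_ (hU.2 L hPModC)
    have hstab : ∀ d ∈ W ⊓ Subgroup.normalizer (U : Set G), ∀ j, ∀ u ∈ c j,
        d * u * d⁻¹ * u⁻¹ ∈ c (j + 1) := by
      intro d hd j u hu
      cases j with
      | zero =>
        have huU : u ∈ U := hu
        have h1 : d * u * d⁻¹ * u⁻¹ ∈ U :=
          U.mul_mem ((Subgroup.mem_normalizer_iff.mp hd.2 u).mp huU) (U.inv_mem huU)
        have h2 : u * d⁻¹ * u⁻¹ ∈ W :=
          (Subgroup.mem_normalizer_iff.mp (hPW (hUP huU)) _).mp (W.inv_mem hd.1)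
        have h3 : d * u * d⁻¹ * u⁻¹ ∈ W := by
          have := W.mul_mem hd.1 h2
          have e : d * (u * d⁻¹ * u⁻¹) = d * u * d⁻¹ * u⁻¹ := by group
          rwa [e] at this
        exact ⟨h1, h3⟩
      | succ i =>
        have hu' : u ∈ U ⊓ W.lowerCentralSeries i := hu
        have h1 : d * u * d⁻¹ * u⁻¹ ∈ U :=
          U.mul_mem ((Subgroup.mem_normalizer_iff.mp hd.2 u).mp hu'.1) (U.inv_mem hu'.1)
        refine ⟨h1, ?_⟩
        show d * u * d⁻¹ * u⁻¹ ∈ ⁅W.lowerCentralSeries i, W⁆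
        rw [Subgroup.commutator_comm]
        exact Subgroup.commutator_mem_commutator hd.1 hu'.2
    intro d hd
    refine ⟨hWP hd.1, ?_, hd.2⟩
    show d ∈ chainStab c hanti
    rw [mem_chainStab]
    intro j u hu
    refine ⟨hstab d hd j u hu, ?_⟩
    have := hstab d⁻¹ (Subgroup.inv_mem _ hd) j u hu
    rwa [inv_inv] at this
  have hUW : (U ⊔ W) ⊓ Subgroup.normalizer (U : Set G) = U := by
    apply le_antisymm
    · intro y hy
      have hUN : U ≤ Subgroup.normalizer (W : Set G) := hUP.trans hPW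
      have h1 : y ∈ ((U ⊔ W : Subgroup G) : Set G) := hy.1
      rw [Subgroup.coe_mul_of_left_le_normalizer_right U W hUN] at h1
      obtain ⟨u, hu, w, hw, rfl⟩ := h1
      have hwN : w ∈ Subgroup.normalizer (U : Set G) := by
        have := Subgroup.mul_mem _ (Subgroup.inv_mem _ (Subgroup.le_normalizer hu)) hy.2
        have e : u⁻¹ * (u * w) = w := by group
        rwa [e] at this
      exact U.mul_mem hu (hD ⟨hw, hwN⟩)
    · exact le_inf le_sup_left Subgroup.le_normalizer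
  have hp' : IsPGroup p ↥(U ⊔ W) := P.isPGroup'.to_le (sup_le hUP hWP)
  have := eq_of_inf_normalizer_eq hp' le_sup_left hUW
  rw [← this]
  exact le_sup_right

/-- **Control of strong fusion lifts from a normal subgroup** -/
theorem main [Finite G] {p : ℕ} [Fact p.Prime] (N : Subgroup G) [hN : N.Normal] (P : Sylow p G) (V : Subgroup G)
    (hV : V ≤ (P : Subgroup G) ⊓ N) (hctrl : Ctl N ((P : Subgroup G) ⊓ N) V)
    (A : Subgroup G) (hA : A ≤ (P : Subgroup G)) (g : G) (hg : cj g A ≤ (P : Subgroup G)) :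
    ∃ h ∈ Subgroup.normalizer
        (genConj (Subgroup.normalizer (((P : Subgroup G) ⊓ N : Subgroup G) : Set G)) V : Set G),
      ∃ c ∈ Subgroup.centralizer (A : Set G), g = h * c := by
  set Q : Subgroup G := (P : Subgroup G) ⊓ N with hQ
  set M : Subgroup G := Subgroup.normalizer (Q : Set G) with hMdef
  set W : Subgroup G := genConj M V with hW
  have hMW : M ≤ Subgroup.normalizer (W : Set G) := le_normalizer_genConj M V
  have hWQ : W ≤ Q := by
    apply genConj_le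
    intro x hx
    have := cj_mono x hV
    rwa [cj_eq_of_mem_normalizer hx] at this
  have hctlW : Ctl N Q W := ctl_genConj hV hctrl le_rfl
  have hPM : (P : Subgroup G) ≤ M := by
    intro t ht
    apply mem_normalizer_of_cj_le
    intro y hy
    rw [mem_cj] at hy
    have e : y = t * (t⁻¹ * y * t) * t⁻¹ := by group
    rw [e]
    exact ⟨(P : Subgroup G).mul_mem ((P : Subgroup G).mul_mem ht hy.1) ((P : Subgroup G).inv_mem ht),
      hN.conj_mem _ hy.2 t⟩
  have hSC := lcs_stronglyClosed P N W hWQ hMW hctlW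
  have hWP : W ≤ (P : Subgroup G) := hWQ.trans inf_le_left
  have hCRW : ∀ U ∈ {U | CR P U}, Subgroup.normalizer (U : Set G) ≤ Subgroup.normalizer (W : Set G) := by
    intro U hU x hx
    have hWU : W ≤ U := le_of_CR P W hWP (hPM.trans hMW) hSC hU
    apply mem_normalizer_of_cj_le
    intro y hy
    rw [mem_cj] at hy
    have h1 : x * (x⁻¹ * y * x) * x⁻¹ ∈ U := (Subgroup.mem_normalizer_iff.mp hx _).mp (hWU hy)
    have h2 := hSC 0 _ hy x (hU.1.1 h1)
    have e : x * (x⁻¹ * y * x) * x⁻¹ = y := by group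
    rw [e] at h2
    exact h2
  have hrc : rc g⁻¹ (A : Set G) ⊆ ((P : Subgroup G) : Set G) := by
    rintro _ ⟨a, ha, rfl⟩
    apply hg
    rw [mem_cj]
    have e : g⁻¹ * (g⁻¹⁻¹ * a * g⁻¹) * g = a := by group
    rw [e]; exact ha
  obtain ⟨c, hc, l, hgl, hdec⟩ := alperin_goldschmidt P (A : Set G) g⁻¹ hA hrc
  have hl := prodL_mem (Subgroup.normalizer (W : Set G)) hCRW l _ hdec
  refine ⟨(prodL l)⁻¹, Subgroup.inv_mem _ hl, c⁻¹, Subgroup.inv_mem _ hc, ?_⟩
  have : g = (g⁻¹)⁻¹ := (inv_inv g).symm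
  rw [this, hgl]; group

end Cfsg.Agent.Lib.Helper7.NormalLift
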