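import Mathlib
import Cfsg.Agent.Lib.Helper7.NormalLift
import Cfsg.Agent.Lib.Lead.NormalPComplement

set_option autoImplicit false
set_option linter.style.haveILetI false
set_option linter.unusedVariables false
set_option linter.unusedSectionVars false

open scoped commutatorElement

namespace Cfsg.Agent.Lib.Helper7.CRStab

open Cfsg Cfsg.Agent.Lib.Helper7 Cfsg.Agent.Lib.Lead.Conj Cfsg.Agent.Lib.Lead.ConjFamily
  Cfsg.Agent.Lib.Lead.AlperinGoldschmidt Cfsg.Agent.Lib.Helper7.NormalLift Cfsg.Agent.Lib.Lead.Frobenius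
  Cfsg.Agent.Lib.Lead.LocalControl Cfsg.Agent.Lib.Lead.NormalPComplement

universe u
variable {G : Type u} [Group G] [Finite G] {p : ℕ} [Fact p.Prime]

/-- a `p`-subgroup `C` normalized by the centric radical subgroup `U`, such that `N_C(U)` stabilizes an `N_G(U)`-invariant
chain from `U` down to `1`, lies in `U` -/
theorem le_of_CR_of_stab (P : Sylow p G) {U : Subgroup G} (hU : CR P U) (c : ℕ → Subgroup G)
    (hanti : ∀ j, c (j + 1) ≤ c j) (h0 : c 0 = U) {n : ℕ} (hn : c n = ⊥)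
    (hinv : ∀ m ∈ Subgroup.normalizer (U : Set G), ∀ j, ∀ u ∈ c j, m * u * m⁻¹ ∈ c j)
    (C : Subgroup G) (hCP : C ≤ (P : Subgroup G)) (hUC : U ≤ Subgroup.normalizer (C : Set G))
    (hstab : ∀ d ∈ C ⊓ Subgroup.normalizer (U : Set G), ∀ j, ∀ u ∈ c j, d * u * d⁻¹ * u⁻¹ ∈ c (j + 1)) :
    C ≤ U := by
  have hUP : U ≤ (P : Subgroup G) := hU.1.1
  have hUp : IsPGroup p ↥U := P.isPGroup'.to_le hUP
  set L : Subgroup G := chainStab c hanti ⊓ Subgroup.normalizer (U : Set G) with hL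
  have hLcj : ∀ m ∈ Subgroup.normalizer (U : Set G), cj m L ≤ L := by
    intro m hm x hx
    rw [mem_cj] at hx
    have hm' : m⁻¹ ∈ Subgroup.normalizer (U : Set G) := Subgroup.inv_mem _ hm
    have hxN : x ∈ Subgroup.normalizer (U : Set G) := by
      have := Subgroup.mul_mem _ (Subgroup.mul_mem _ hm hx.2) hm'
      have e : m * (m⁻¹ * x * m) * m⁻¹ = x := by group
      rwa [e] at this
    refine ⟨?_, hxN⟩
    show x ∈ chainStab c hanti
    rw [mem_chainStab]
    intro j u hu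
    have hu' : m⁻¹ * u * m ∈ c j := by
      have := hinv m⁻¹ hm' j u hu
      rwa [inv_inv] at this
    have h1 := (mem_chainStab.mp hx.1) j _ hu'
    constructor
    · have := hinv m hm (j + 1) _ h1.1
      have e : m * (m⁻¹ * x * m * (m⁻¹ * u * m) * (m⁻¹ * x * m)⁻¹ * (m⁻¹ * u * m)⁻¹) * m⁻¹
          = x * u * x⁻¹ * u⁻¹ := by group
      rwa [e] at this
    · have := hinv m hm (j + 1) _ h1.2
      have e : m * ((m⁻¹ * x * m)⁻¹ * (m⁻¹ * u * m) * (m⁻¹ * x * m) * (m⁻¹ * u * m)⁻¹) * m⁻¹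
          = x⁻¹ * u * x * u⁻¹ := by group
      rwa [e] at this
  have hPModC : PModC p U L := by
    refine ⟨inf_le_right, fun m hm => map_conj_eq_of_le L m (hLcj m hm), ?_⟩
    intro k hk
    have := exists_pow_mem_centralizer (c := c) (hc := hanti) (h0 ▸ hUp) hn hk.1
    rwa [h0] at this
  have hD : C ⊓ Subgroup.normalizer (U : Set G) ≤ U := by
    refine le_trans ?_ (hU.2 L hPModC)
    intro d hd
    refine ⟨hCP hd.1, ?_, hd.2⟩
    show d ∈ chainStab c hanti
    rw [mem_chainStab]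
    intro j u hu
    refine ⟨hstab d hd j u hu, ?_⟩
    have := hstab d⁻¹ (Subgroup.inv_mem _ hd) j u hu
    rwa [inv_inv] at this
  have hUW : (U ⊔ C) ⊓ Subgroup.normalizer (U : Set G) = U := by
    apply le_antisymm
    · intro y hy
      have h1 : y ∈ ((U ⊔ C : Subgroup G) : Set G) := hy.1
      rw [Subgroup.coe_mul_of_left_le_normalizer_right U C hUC] at h1
      obtain ⟨u, hu, w, hw, rfl⟩ := h1
      have hwN : w ∈ Subgroup.normalizer (U : Set G) := by
        have := Subgroup.mul_mem _ (Subgroup.inv_mem _ (Subgroup.le_normalizer hu)) hy.2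
        have e : u⁻¹ * (u * w) = w := by group
        rwa [e] at this
      exact U.mul_mem hu (hD ⟨hw, hwN⟩)
    · exact le_inf le_sup_left Subgroup.le_normalizer
  have hp' : IsPGroup p ↥(U ⊔ C) := P.isPGroup'.to_le (sup_le hUP hCP)
  have := eq_of_inf_normalizer_eq hp' le_sup_left hUW
  rw [← this]
  exact le_sup_right

/-- the chain `R ≥ U ≥ 1` -/
def chain2 (R U : Subgroup G) : ℕ → Subgroup G
  | 0 => R
  | 1 => U
  | _ + 2 => ⊥

/-- for a centric radical subgroup `R` and a strongly closed subgroup `D`, `R ∩ D` contains its centralizer in `D` -/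
theorem centric_inf_of_CR (P : Sylow p G) {R : Subgroup G} (hR : CR P R) (D : Subgroup G)
    (hD : Cfsg.IsStronglyClosed D (P : Subgroup G)) :
    D ⊓ Subgroup.centralizer ((R ⊓ D : Subgroup G) : Set G) ≤ R ⊓ D := by
  have hRP : R ≤ (P : Subgroup G) := hR.1.1
  have hDn : ∀ s ∈ (P : Subgroup G), ∀ d ∈ D, s * d * s⁻¹ ∈ D := by
    intro s hs d hd
    exact hD.2 d hd s ((P : Subgroup G).mul_mem ((P : Subgroup G).mul_mem hs (hD.1 hd))
      ((P : Subgroup G).inv_mem hs))
  set U := R ⊓ D with hUdef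
  set C := D ⊓ Subgroup.centralizer (U : Set G) with hCdef
  have hinvU : ∀ m ∈ Subgroup.normalizer (R : Set G), ∀ u ∈ U, m * u * m⁻¹ ∈ U := by
    intro m hm u hu
    have h1 : m * u * m⁻¹ ∈ R := (Subgroup.mem_normalizer_iff.mp hm u).mp hu.1
    exact ⟨h1, hD.2 u hu.2 m (hRP h1)⟩
  have hCR : C ≤ R := by
    refine le_of_CR_of_stab P hR (chain2 R U) ?_ rfl (n := 2) rfl ?_ C (inf_le_left.trans hD.1) ?_ ?_
    · intro j
      match j with
      | 0 => exact inf_le_left
      | 1 => exact bot_le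
      | j + 2 => exact bot_le
    · intro m hm j u hu
      match j with
      | 0 => exact (Subgroup.mem_normalizer_iff.mp hm u).mp hu
      | 1 => exact hinvU m hm u hu
      | j + 2 =>
        have : u = 1 := Subgroup.mem_bot.mp hu
        rw [this]
        simp [chain2]
    · -- R normalizes C
      intro r hr
      apply mem_normalizer_of_cj_le
      intro y hy
      rw [mem_cj] at hy
      have hrP := hRP hr
      have e : y = r * (r⁻¹ * y * r) * r⁻¹ := by group
      rw [e]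
      refine ⟨hDn r hrP _ hy.1, ?_⟩
      show r * (r⁻¹ * y * r) * r⁻¹ ∈ Subgroup.centralizer (U : Set G)
      rw [Subgroup.mem_centralizer_iff]
      intro u hu
      have hu' : r⁻¹ * u * r ∈ U := by
        have := hinvU r⁻¹ (Subgroup.inv_mem _ (Subgroup.le_normalizer hr)) u hu
        rwa [inv_inv] at this
      have hc := (Subgroup.mem_centralizer_iff.mp hy.2) _ hu'
      calc u * (r * (r⁻¹ * y * r) * r⁻¹) = r * ((r⁻¹ * u * r) * (r⁻¹ * y * r)) * r⁻¹ := by group
        _ = r * ((r⁻¹ * y * r) * (r⁻¹ * u * r)) * r⁻¹ := by rw [hc]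
        _ = r * (r⁻¹ * y * r) * r⁻¹ * u := by group
    · intro d hd j u hu
      match j with
      | 0 =>
        have huR : u ∈ R := hu
        have h1 : d * u * d⁻¹ * u⁻¹ ∈ R :=
          R.mul_mem ((Subgroup.mem_normalizer_iff.mp hd.2 u).mp huR) (R.inv_mem huR)
        have h2 : u * d⁻¹ * u⁻¹ ∈ D := hDn u (hRP huR) _ (D.inv_mem hd.1.1)
        have h3 : d * u * d⁻¹ * u⁻¹ ∈ D := by
          have := D.mul_mem hd.1.1 h2
          have e : d * (u * d⁻¹ * u⁻¹) = d * u * d⁻¹ * u⁻¹ := by group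
          rwa [e] at this
        exact ⟨h1, h3⟩
      | 1 =>
        have huU : u ∈ U := hu
        have hc := (Subgroup.mem_centralizer_iff.mp hd.1.2) u huU
        have : d * u * d⁻¹ * u⁻¹ = 1 := by
          calc d * u * d⁻¹ * u⁻¹ = (d * u) * d⁻¹ * u⁻¹ := by group
            _ = (u * d) * d⁻¹ * u⁻¹ := by rw [hc]
            _ = 1 := by group
        rw [this]; exact Subgroup.one_mem _
      | j + 2 =>
        have : u = 1 := Subgroup.mem_bot.mp hu
        rw [this]
        simp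
  exact le_inf hCR inf_le_left

/-- control of fusion along a chain through a family `𝓕` -/
theorem control_of_decL_family {𝓕 : Set (Subgroup G)} (X : Subgroup G)
    (hloc : ∀ U ∈ 𝓕, ∀ n ∈ Subgroup.normalizer (U : Set G),
      ∃ y ∈ X, ∀ u ∈ U, n⁻¹ * u * n = y⁻¹ * u * y) :
    ∀ (l : List (Subgroup G × G)) (A : Set G), DecL 𝓕 l A →
      ∃ y ∈ X, ∀ a ∈ A, (prodL l)⁻¹ * a * prodL l = y⁻¹ * a * y := by
  intro l
  induction l with
  | nil =>
    intro A _
    exact ⟨1, X.one_mem, fun a _ => by simp⟩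
  | cons c l ih =>
    obtain ⟨T, x⟩ := c
    rintro A ⟨hT, hx, hAT, hdec⟩
    obtain ⟨y₁, hy₁, h1⟩ := hloc T hT x hx
    obtain ⟨y₂, hy₂, h2⟩ := ih (rc x A) hdec
    refine ⟨y₁ * y₂, X.mul_mem hy₁ hy₂, fun a ha => ?_⟩
    have hb : x⁻¹ * a * x ∈ rc x A := ⟨a, ha, rfl⟩
    have h3 := h2 _ hb
    rw [h1 a (hAT ha)] at h3
    rw [prodL_cons]
    calc (x * prodL l)⁻¹ * a * (x * prodL l) = (prodL l)⁻¹ * (x⁻¹ * a * x) * prodL l := by group
      _ = y₂⁻¹ * (y₁⁻¹ * a * y₁) * y₂ := by rw [h1 a (hAT ha)]; exact h3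
      _ = (y₁ * y₂)⁻¹ * a * (y₁ * y₂) := by group

/-- if the `p'`-elements of `N_G(R)` centralize `R` for every centric radical `R`, then `P` controls its own fusion -/
theorem controls_of_CR (P : Sylow p G)
    (h : ∀ R : Subgroup G, CR P R → ∀ g ∈ Subgroup.normalizer (R : Set G), Nat.Coprime (orderOf g) p →
      g ∈ Subgroup.centralizer (R : Set G)) : Controls (P : Subgroup G) := by
  intro x hx g hgx
  have hA : ({x} : Set G) ⊆ ((P : Subgroup G) : Set G) := by
    rintro _ rfl; exact hx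
  have hrc : rc g⁻¹ ({x} : Set G) ⊆ ((P : Subgroup G) : Set G) := by
    rintro _ ⟨a, rfl, rfl⟩
    show g⁻¹⁻¹ * a * g⁻¹ ∈ (P : Subgroup G)
    rw [inv_inv]; exact hgx
  obtain ⟨c, hc, l, hgl, hdec⟩ := alperin_goldschmidt P ({x} : Set G) g⁻¹ hA hrc
  obtain ⟨y, hy, hyl⟩ := control_of_decL_family (𝓕 := {U | CR P U}) (P : Subgroup G)
    (fun U hU n hn => by
      obtain ⟨y, hy, h'⟩ := normalizer_decomp P hU.1 (h U hU) hn
      exact ⟨y, hy.1, h'⟩) l {x} hdec
  refine ⟨y⁻¹, Subgroup.inv_mem _ hy, ?_⟩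
  have h1 := hyl x rfl
  have hcx : x * c = c * x := (Subgroup.mem_centralizer_iff.mp hc) x rfl
  have hg' : g = (prodL l)⁻¹ * c⁻¹ := by
    have : g = (g⁻¹)⁻¹ := (inv_inv g).symm
    rw [this, hgl]; group
  rw [inv_inv, ← h1, hg']
  calc (prodL l)⁻¹ * x * prodL l = (prodL l)⁻¹ * (c⁻¹ * (c * x)) * prodL l := by group
    _ = (prodL l)⁻¹ * (c⁻¹ * (x * c)) * prodL l := by rw [hcx]
    _ = (prodL l)⁻¹ * c⁻¹ * x * ((prodL l)⁻¹ * c⁻¹)⁻¹ := by group

/-- Frobenius' criterion relative to a strongly closed subgroup -/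
theorem hasNormalPComplement_of_stronglyClosed (S : Sylow p G) (D : Subgroup G)
    (hD : Cfsg.IsStronglyClosed D (S : Subgroup G))
    (h : ∀ U : Subgroup G, U ≤ D → D ⊓ Subgroup.centralizer (U : Set G) ≤ U →
      Cfsg.HasNormalPComplement p ↥(Subgroup.normalizer (U : Set G))) :
    Cfsg.HasNormalPComplement p G := by
  apply hasNormalPComplement_of_controls S
  apply controls_of_CR S
  intro R hR g hg hgp
  have hRS : R ≤ (S : Subgroup G) := hR.1.1
  set U := R ⊓ D with hUdef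
  have hcent := centric_inf_of_CR S hR D hD
  have hNU := h U inf_le_right hcent
  set NU := Subgroup.normalizer (U : Set G) with hNUdef
  have hRN : Subgroup.normalizer (R : Set G) ≤ NU := by
    intro m hm
    apply mem_normalizer_of_cj_le
    intro y hy
    rw [mem_cj] at hy
    have e : y = m * (m⁻¹ * y * m) * m⁻¹ := by group
    rw [e]
    have h1 : m * (m⁻¹ * y * m) * m⁻¹ ∈ R := (Subgroup.mem_normalizer_iff.mp hm _).mp hy.1
    exact ⟨h1, hD.2 _ hy.2 m (hRS h1)⟩
  obtain ⟨N, hNn, hNc, k, hk⟩ := exists_normal_of_hasNormalPComplement hNU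
  haveI := hNn
  have hgN : g ∈ NU := hRN hg
  have hQ : IsPGroup p ↥(R.subgroupOf NU) :=
    (S.isPGroup'.to_le hRS).comap_of_injective NU.subtype NU.subtype_injective
  have hg' : (⟨g, hgN⟩ : ↥NU) ∈ Subgroup.normalizer ((R.subgroupOf NU : Subgroup ↥NU) : Set ↥NU) := by
    rw [Subgroup.mem_normalizer_iff]
    intro y
    rw [Subgroup.mem_subgroupOf, Subgroup.mem_subgroupOf]
    exact Subgroup.mem_normalizer_iff.mp hg (y : G)
  have hgp' : Nat.Coprime (orderOf (⟨g, hgN⟩ : ↥NU)) p := by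
    rwa [Subgroup.orderOf_mk]
  have hc := centralizes_of_normal N hNc hk (R.subgroupOf NU) hQ ⟨g, hgN⟩ hg' hgp'
  rw [Subgroup.mem_centralizer_iff] at hc ⊢
  intro r hr
  have hrN : r ∈ NU := hRN (Subgroup.le_normalizer hr)
  have := hc ⟨r, hrN⟩ (Subgroup.mem_subgroupOf.mpr hr)
  exact congrArg Subtype.val this

end Cfsg.Agent.Lib.Helper7.CRStab
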