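import Mathlib

set_option autoImplicit false
set_option linter.style.haveILetI false
set_option linter.unusedSectionVars false

/-! S4140 (Camina trichotomy): supplements of a Camina kernel (helper7). -/

namespace Cfsg.Agent.Lib.Helper7.Cam

universe u

variable {G : Type u} [Group G]

/-- The Camina condition, in the shape of the statement. -/
def Camina (N : Subgroup G) : Prop :=
  ∀ g : G, g ∉ N → ∀ n ∈ N, ∃ x : G, x * g * x⁻¹ = g * n

/-- the commutator-type map `g ↦ ℓ⁻¹ g ℓ g⁻¹`. -/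
def phi (ℓ g : G) : G := ℓ⁻¹ * g * ℓ * g⁻¹

theorem phi_eq_iff (ℓ g n : G) : phi ℓ g = n ↔ g * ℓ * g⁻¹ = ℓ * n := by
  unfold phi
  constructor
  · intro h; rw [← h]; group
  · intro h
    have : ℓ⁻¹ * g * ℓ * g⁻¹ = ℓ⁻¹ * (g * ℓ * g⁻¹) := by group
    rw [this, h]; group

theorem phi_mul_of_comm (ℓ g c : G) (hc : c * ℓ = ℓ * c) : phi ℓ (g * c) = phi ℓ g := by
  rw [phi_eq_iff]
  have h1 : g * c * ℓ * (g * c)⁻¹ = g * (c * ℓ) * c⁻¹ * g⁻¹ := by group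
  rw [h1, hc]
  have h2 : g * (ℓ * c) * c⁻¹ * g⁻¹ = g * ℓ * g⁻¹ := by group
  rw [h2]
  exact (phi_eq_iff ℓ g _).mp rfl

theorem comm_of_phi_eq (ℓ g g' : G) (h : phi ℓ g = phi ℓ g') : (g'⁻¹ * g) * ℓ = ℓ * (g'⁻¹ * g) := by
  have h1 := (phi_eq_iff ℓ g _).mp h
  have h2 := (phi_eq_iff ℓ g' _).mp rfl
  have h3 : g * ℓ * g⁻¹ = g' * ℓ * g'⁻¹ := by rw [h1, h2]
  have h4 : g'⁻¹ * g * ℓ = g'⁻¹ * (g * ℓ * g⁻¹) * g := by group
  rw [h4, h3]; group

/-- The full preimage of the centralizer of `ℓ N` in `G ⧸ N`. -/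
def DD (N : Subgroup G) [N.Normal] (ℓ : G) : Subgroup G :=
  (Subgroup.centralizer {(QuotientGroup.mk ℓ : G ⧸ N)}).comap (QuotientGroup.mk' N)

theorem mem_DD (N : Subgroup G) [hN : N.Normal] (ℓ g : G) : g ∈ DD N ℓ ↔ phi ℓ g ∈ N := by
  unfold DD phi
  rw [Subgroup.mem_comap, Subgroup.mem_centralizer_iff]
  simp only [Set.mem_singleton_iff, forall_eq, QuotientGroup.mk'_apply]
  rw [← QuotientGroup.mk_mul, ← QuotientGroup.mk_mul, QuotientGroup.eq]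
  have h1 : (ℓ * g)⁻¹ * (g * ℓ) = g⁻¹ * (ℓ⁻¹ * g * ℓ * g⁻¹) * g⁻¹⁻¹ := by group
  rw [h1]
  constructor
  · intro h
    have := hN.conj_mem _ h g
    convert this using 1
    group
  · intro h
    exact hN.conj_mem _ h g⁻¹

theorem le_DD (N : Subgroup G) [hN : N.Normal] (ℓ : G) : N ≤ DD N ℓ := by
  intro n hn
  rw [mem_DD]
  unfold phi
  have h1 : ℓ⁻¹ * n * ℓ * n⁻¹ = (ℓ⁻¹ * n * ℓ⁻¹⁻¹) * n⁻¹ := by group
  rw [h1]
  exact N.mul_mem (hN.conj_mem _ hn _) (N.inv_mem hn)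

theorem centralizer_le_DD (N : Subgroup G) [hN : N.Normal] (ℓ : G) :
    Subgroup.centralizer {ℓ} ≤ DD N ℓ := by
  intro c hc
  rw [mem_DD]
  rw [Subgroup.mem_centralizer_iff] at hc
  have h := hc ℓ rfl
  have : phi ℓ c = 1 := by
    rw [phi_eq_iff, mul_one, ← h]; group
  rw [this]; exact N.one_mem

variable [Finite G]

/-- The counting injection. -/
theorem card_le (A X : Subgroup G) (ℓ : G) (h : ∀ g ∈ A, phi ℓ g ∈ X) :
    Nat.card A ≤ Nat.card X * Nat.card ↥(Subgroup.centralizer {ℓ} ⊓ A) ∧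
    ((Nat.card A = Nat.card X * Nat.card ↥(Subgroup.centralizer {ℓ} ⊓ A)) ↔
      ∀ n ∈ X, ∃ g ∈ A, phi ℓ g = n) := by
  classical
  -- a partial section
  let s : X → A := fun n => if hn : ∃ g ∈ A, phi ℓ g = (n : G) then ⟨hn.choose, hn.choose_spec.1⟩ else 1
  have hs : ∀ g : A, phi ℓ ((s ⟨phi ℓ g, h g g.2⟩ : A) : G) = phi ℓ g := by
    intro g
    have hn : ∃ g' ∈ A, phi ℓ g' = phi ℓ (g : G) := ⟨g, g.2, rfl⟩
    simp only [s, dif_pos hn]
    exact hn.choose_spec.2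
  have hmem : ∀ g : A, ((s ⟨phi ℓ g, h g g.2⟩ : A) : G)⁻¹ * g ∈ Subgroup.centralizer {ℓ} ⊓ A := by
    intro g
    refine Subgroup.mem_inf.mpr ⟨?_, A.mul_mem (A.inv_mem (s _).2) g.2⟩
    rw [Subgroup.mem_centralizer_iff]
    intro x hx
    rw [Set.mem_singleton_iff] at hx
    subst hx
    exact (comm_of_phi_eq x g _ (hs g).symm).symm
  let ι : A → X × ↥(Subgroup.centralizer {ℓ} ⊓ A) := fun g =>
    (⟨phi ℓ g, h g g.2⟩, ⟨((s ⟨phi ℓ g, h g g.2⟩ : A) : G)⁻¹ * g, hmem g⟩)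
  have hinj : Function.Injective ι := by
    intro g g' hgg
    simp only [ι, Prod.mk.injEq, Subtype.mk.injEq] at hgg
    obtain ⟨h1, h2⟩ := hgg
    have e : (⟨phi ℓ g, h g g.2⟩ : X) = ⟨phi ℓ g', h g' g'.2⟩ := Subtype.ext h1
    rw [e] at h2
    have := mul_left_cancel h2
    exact Subtype.ext this
  have hle : Nat.card A ≤ Nat.card X * Nat.card ↥(Subgroup.centralizer {ℓ} ⊓ A) := by
    rw [← Nat.card_prod]
    exact Nat.card_le_card_of_injective ι hinj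
  refine ⟨hle, ?_, ?_⟩
  · intro heq n hn
    have hbij : Function.Bijective ι := by
      rw [Nat.bijective_iff_injective_and_card]
      exact ⟨hinj, by rw [Nat.card_prod]; exact heq⟩
    obtain ⟨g, hg⟩ := hbij.2 (⟨n, hn⟩, 1)
    refine ⟨g, g.2, ?_⟩
    simp only [ι, Prod.mk.injEq] at hg
    exact congrArg Subtype.val hg.1
  · intro hsurj
    have hsur : Function.Surjective ι := by
      rintro ⟨n, c⟩
      obtain ⟨g0, hg0A, hg0⟩ := hsurj n n.2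
      have hn : ∃ g' ∈ A, phi ℓ g' = (n : G) := ⟨g0, hg0A, hg0⟩
      have hsn : phi ℓ ((s n : A) : G) = n := by
        simp only [s, dif_pos hn]
        exact hn.choose_spec.2
      have hc : (c : G) * ℓ = ℓ * c := by
        have := (Subgroup.mem_inf.mp c.2).1
        rw [Subgroup.mem_centralizer_iff] at this
        exact (this ℓ rfl).symm
      refine ⟨⟨(s n : G) * c, A.mul_mem (s n).2 (Subgroup.mem_inf.mp c.2).2⟩, ?_⟩
      have e1 : phi ℓ ((s n : G) * c) = n := by rw [phi_mul_of_comm _ _ _ hc, hsn]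
      simp only [ι]
      refine Prod.ext (Subtype.ext e1) (Subtype.ext ?_)
      simp only
      have : (⟨phi ℓ ((s n : G) * c), h _ (A.mul_mem (s n).2 (Subgroup.mem_inf.mp c.2).2)⟩ : X) = n := Subtype.ext e1
      rw [this]; group
    have hbij : Function.Bijective ι := ⟨hinj, hsur⟩
    rw [← Nat.card_prod]
    exact Nat.card_congr (Equiv.ofBijective ι hbij)

theorem card_mul_relIndex' {H K : Subgroup G} (h : H ≤ K) :
    Nat.card H * H.relIndex K = Nat.card K := by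
  have h1 := Subgroup.card_mul_index (H.subgroupOf K)
  rw [Nat.card_congr (Subgroup.subgroupOfEquivOfLe h).toEquiv] at h1
  exact h1

/-- **Key lemma**: supplements of the kernel of a Camina pair. -/
theorem supplement (N : Subgroup G) [hN : N.Normal] (hcam : Camina N) (L : Subgroup G)
    (hL : L ⊔ N = ⊤) (ℓ : G) (hℓ : ℓ ∈ L) (hℓN : ℓ ∉ N) :
    Subgroup.centralizer {ℓ} ≤ L ∧ ∀ n ∈ L ⊓ N, ∃ g ∈ L, g * ℓ * g⁻¹ = ℓ * n := by
  classical
  have hND : N ≤ DD N ℓ := le_DD N ℓ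
  have hCD : Subgroup.centralizer {ℓ} ≤ DD N ℓ := centralizer_le_DD N ℓ
  -- (a)
  have ha := (card_le (DD N ℓ) N ℓ (fun g hg => (mem_DD N ℓ g).mp hg)).2.mpr (by
    intro n hn
    obtain ⟨x, hx⟩ := hcam ℓ hℓN n hn
    have : phi ℓ x = n := (phi_eq_iff ℓ x n).mpr hx
    exact ⟨x, (mem_DD N ℓ x).mpr (this ▸ hn), this⟩)
  rw [inf_eq_left.mpr hCD] at ha
  -- (b)
  have hbh : ∀ g ∈ DD N ℓ ⊓ L, phi ℓ g ∈ L ⊓ N := by
    intro g hg
    obtain ⟨hg1, hg2⟩ := Subgroup.mem_inf.mp hg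
    refine Subgroup.mem_inf.mpr ⟨?_, (mem_DD N ℓ g).mp hg1⟩
    unfold phi
    exact L.mul_mem (L.mul_mem (L.mul_mem (L.inv_mem hℓ) hg2) hℓ) (L.inv_mem hg2)
  have hb := card_le (DD N ℓ ⊓ L) (L ⊓ N) ℓ hbh
  have hCL : Subgroup.centralizer {ℓ} ⊓ (DD N ℓ ⊓ L) = Subgroup.centralizer {ℓ} ⊓ L := by
    rw [← inf_assoc, inf_eq_left.mpr hCD]
  rw [hCL] at hb
  -- (c)
  have hsup : N ⊔ (DD N ℓ ⊓ L) = DD N ℓ := by
    apply le_antisymm (sup_le hND inf_le_left)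
    intro g hg
    have hgt : g ∈ L ⊔ N := by rw [hL]; exact Subgroup.mem_top g
    rw [Subgroup.mem_sup_of_normal_right] at hgt
    obtain ⟨l, hl, n, hn, rfl⟩ := hgt
    have hlD : l ∈ DD N ℓ := by
      have : l = l * n * n⁻¹ := by group
      rw [this]
      exact (DD N ℓ).mul_mem hg ((DD N ℓ).inv_mem (hND hn))
    have : l * n ∈ (DD N ℓ ⊓ L) ⊔ N :=
      Subgroup.mul_mem_sup (Subgroup.mem_inf.mpr ⟨hlD, hl⟩) hn
    rwa [sup_comm] at this
  have hr1 : N.relIndex (DD N ℓ) = N.relIndex (DD N ℓ ⊓ L) := by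
    conv_lhs => rw [← hsup]
    exact Subgroup.relIndex_sup_left _ _
  have hd1 := card_mul_relIndex' hND
  have hNL : N ⊓ (DD N ℓ ⊓ L) = L ⊓ N := by
    rw [← inf_assoc, inf_eq_left.mpr hND, inf_comm]
  have hd2 := card_mul_relIndex' (inf_le_right : N ⊓ (DD N ℓ ⊓ L) ≤ DD N ℓ ⊓ L)
  rw [Subgroup.inf_relIndex_right, hNL, ← hr1] at hd2
  -- arithmetic
  have hapos : 0 < Nat.card N := Nat.card_pos
  have hmpos : 0 < Nat.card ↥(L ⊓ N) := Nat.card_pos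
  have hcr : Nat.card ↥(Subgroup.centralizer {ℓ}) = N.relIndex (DD N ℓ) := by
    have : Nat.card N * Nat.card ↥(Subgroup.centralizer {ℓ}) = Nat.card N * N.relIndex (DD N ℓ) := by
      rw [← ha, hd1]
    exact Nat.eq_of_mul_eq_mul_left hapos this
  have hle : Nat.card ↥(Subgroup.centralizer {ℓ}) ≤ Nat.card ↥(Subgroup.centralizer {ℓ} ⊓ L) := by
    have : Nat.card ↥(L ⊓ N) * Nat.card ↥(Subgroup.centralizer {ℓ}) ≤
        Nat.card ↥(L ⊓ N) * Nat.card ↥(Subgroup.centralizer {ℓ} ⊓ L) := by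
      rw [hcr, hd2]; exact hb.1
    exact Nat.le_of_mul_le_mul_left this hmpos
  have hCeq : Subgroup.centralizer {ℓ} ⊓ L = Subgroup.centralizer {ℓ} :=
    Subgroup.eq_of_le_of_card_ge inf_le_left hle
  have hCL' : Subgroup.centralizer {ℓ} ≤ L := by
    rw [← hCeq]; exact inf_le_right
  refine ⟨hCL', ?_⟩
  have heq : Nat.card ↥(DD N ℓ ⊓ L) = Nat.card ↥(L ⊓ N) * Nat.card ↥(Subgroup.centralizer {ℓ} ⊓ L) := by
    rw [hCeq, hcr, hd2]
  intro n hn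
  obtain ⟨g, hg, hgn⟩ := hb.2.mp heq n hn
  exact ⟨g, (Subgroup.mem_inf.mp hg).2, (phi_eq_iff ℓ g n).mp hgn⟩

end Cfsg.Agent.Lib.Helper7.Cam
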