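import Mathlib

set_option autoImplicit false
set_option linter.style.haveILetI false
set_option linter.unusedSectionVars false

/-! S4140 (Camina trichotomy): two operator identities on a finite abelian group (helper7). -/

namespace Cfsg.Agent.Lib.Helper7.Cam

universe u

section ops

variable {W : Type u} [CommGroup W]

/-- the norm element of a cyclic group of operators lands in the fixed points. -/
theorem norm_fixed (γ : MulAut W) (n : ℕ) (hγ : γ ^ n = 1) (w : W) :
    γ (∏ k ∈ Finset.range n, (γ ^ k) w) = ∏ k ∈ Finset.range n, (γ ^ k) w := by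
  rw [map_prod]
  have h1 : ∀ k, γ ((γ ^ k) w) = (γ ^ (k + 1)) w := by
    intro k; rw [pow_succ']; rfl
  simp_rw [h1]
  have h2 := Finset.prod_range_succ' (fun k => (γ ^ k) w) n
  have h3 := Finset.prod_range_succ (fun k => (γ ^ k) w) n
  rw [h3] at h2
  simp only [hγ, pow_zero] at h2
  exact (mul_right_cancel h2).symm

theorem norm_eq_one (γ : MulAut W) (n : ℕ) (hγ : γ ^ n = 1) (hf : ∀ w, γ w = w → w = 1) (w : W) :
    ∏ k ∈ Finset.range n, (γ ^ k) w = 1 := hf _ (norm_fixed γ n hγ w)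

variable [Finite W]

theorem eq_one_of_pow_card {m : ℕ} (hcop : (Nat.card W).Coprime m) (w : W) (h : w ^ m = 1) :
    w = 1 := by
  have h1 : orderOf w ∣ m := orderOf_dvd_of_pow_eq_one h
  have h2 : orderOf w ∣ Nat.card W := orderOf_dvd_natCard w
  have h3 : orderOf w ∣ 1 := by
    rw [← Nat.Coprime.gcd_eq_one hcop]; exact Nat.dvd_gcd h2 h1
  exact orderOf_eq_one_iff.mp (Nat.dvd_one.mp h3)

/-- **Operator lemma A**: `C_q × C_q` cannot act fixed-point-freely. -/
theorem opA (q : ℕ) (hq : q.Prime) (hqW : (Nat.card W).Coprime q)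
    (α β : MulAut W) (hαβ : α * β = β * α) (hα : α ^ q = 1) (hβ : β ^ q = 1)
    (hfβ : ∀ w, β w = w → w = 1) (hf : ∀ j : ℕ, ∀ w, (α * β ^ j) w = w → w = 1) :
    ∀ w : W, w = 1 := by
  intro w
  have hcomm : Commute α β := hαβ
  -- step 1
  have h1 : ∀ j : ℕ, ∏ k ∈ Finset.range q, ((α * β ^ j) ^ k) w = 1 := by
    intro j
    apply norm_eq_one _ q _ (hf j)
    rw [(hcomm.pow_right j).mul_pow, hα, ← pow_mul, mul_comm j q, pow_mul, hβ, one_pow, one_mul]
  have h2 : ∏ j ∈ Finset.range q, ∏ k ∈ Finset.range q, ((α * β ^ j) ^ k) w = 1 := by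
    rw [Finset.prod_congr rfl (fun j _ => h1 j)]; simp
  rw [Finset.prod_comm] at h2
  -- each inner product with k ≠ 0 is trivial
  have h3 : ∀ k ∈ Finset.range q, k ≠ 0 → ∏ j ∈ Finset.range q, ((α * β ^ j) ^ k) w = 1 := by
    intro k hk hk0
    have hkq : k < q := Finset.mem_range.mp hk
    have e1 : ∀ j, ((α * β ^ j) ^ k) w = (α ^ k) (((β ^ k) ^ j) w) := by
      intro j
      rw [(hcomm.pow_right j).mul_pow, ← pow_mul, ← pow_mul, mul_comm j k]; rfl
    simp_rw [e1]
    rw [← map_prod]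
    have hcop : Nat.Coprime k q :=
      (Nat.coprime_comm.mp ((Nat.Prime.coprime_iff_not_dvd hq).mpr
        (fun hd => absurd (Nat.le_of_dvd (Nat.pos_of_ne_zero hk0) hd) (not_le.mpr hkq))))
    obtain ⟨m, -, hm⟩ := Nat.exists_mul_mod_eq_one_of_coprime hcop hq.one_lt
    have hβk : (β ^ k) ^ m = β := by
      rw [← pow_mul, pow_eq_pow_mod (k * m) hβ, hm, pow_one]
    have hfix : ∀ w', (β ^ k) w' = w' → w' = 1 := by
      intro w' hw'
      apply hfβ
      have : ∀ n : ℕ, ((β ^ k) ^ n) w' = w' := by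
        intro n
        induction n with
        | zero => simp
        | succ n ih => rw [pow_succ]; change ((β ^ k) ^ n) ((β ^ k) w') = w'; rw [hw', ih]
      have := this m
      rwa [hβk] at this
    have : ∏ j ∈ Finset.range q, ((β ^ k) ^ j) w = 1 := by
      apply norm_eq_one _ q _ hfix
      rw [← pow_mul, mul_comm, pow_mul, hβ, one_pow]
    rw [this, map_one]
  have hq0 : 0 ∈ Finset.range q := Finset.mem_range.mpr hq.pos
  rw [← Finset.mul_prod_erase _ _ hq0] at h2
  have h4 : ∏ k ∈ (Finset.range q).erase 0, ∏ j ∈ Finset.range q, ((α * β ^ j) ^ k) w = 1 := by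
    apply Finset.prod_eq_one
    intro k hk
    exact h3 k (Finset.mem_of_mem_erase hk) (Finset.ne_of_mem_erase hk)
  rw [h4, mul_one] at h2
  simp only [pow_zero, MulAut.one_apply, Finset.prod_const, Finset.card_range] at h2
  exact eq_one_of_pow_card hqW w h2

/-- **Operator lemma B**: a Frobenius-type group `𝔄 ⋊ ⟨η⟩` whose kernel `𝔄` has no fixed points has
a fixed point of some `η a`. -/
theorem opB (𝔄 : Subgroup (MulAut W)) (η : MulAut W) (r : ℕ) (hr : r.Prime)
    (hcop : (Nat.card W).Coprime (Nat.card 𝔄))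
    (hnorm : ∀ a ∈ 𝔄, η⁻¹ * a * η ∈ 𝔄)
    (hord : ∀ a ∈ 𝔄, (η * a) ^ r = 1)
    (hfix : ∀ a ∈ 𝔄, ∀ w, (η * a) w = w → w = 1)
    (hA : ∀ w, (∀ a ∈ 𝔄, a w = w) → w = 1) : ∀ w : W, w = 1 := by
  classical
  intro w
  haveI : Finite (MulAut W) := Finite.of_injective (fun f : MulAut W => (f : W → W))
    (fun f g h => MulEquiv.ext (congrFun h))
  haveI : Fintype 𝔄 := Fintype.ofFinite 𝔄
  -- the twisted elements
  have hmem : ∀ j : ℕ, ∀ a ∈ 𝔄, (η ^ j)⁻¹ * (η * a) ^ j ∈ 𝔄 := by
    intro j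
    induction j with
    | zero => intro a _; simp [𝔄.one_mem]
    | succ j ih =>
      intro a ha
      have e : (η ^ (j + 1))⁻¹ * (η * a) ^ (j + 1) =
          (η⁻¹ * ((η ^ j)⁻¹ * (η * a) ^ j) * η) * a := by
        rw [pow_succ (η * a), pow_succ η]; group
      rw [e]
      exact 𝔄.mul_mem (hnorm _ (ih a ha)) ha
  -- the sum over 𝔄 is fixed by 𝔄
  have hS : ∏ b : 𝔄, (b : MulAut W) w = 1 := by
    apply hA
    intro c hc
    rw [map_prod]
    exact Fintype.prod_equiv (Equiv.mulLeft (⟨c, hc⟩ : 𝔄)) _ _ (fun b => rfl)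
  -- T_a = 1
  have hT : ∀ a : 𝔄, ∏ j ∈ Finset.range r, ((η * a) ^ j) w = 1 := fun a =>
    norm_eq_one _ r (hord a a.2) (hfix a a.2) w
  have h2 : ∏ a : 𝔄, ∏ j ∈ Finset.range r, ((η * a) ^ j) w = 1 := by
    rw [Finset.prod_congr rfl (fun a _ => hT a)]; simp
  rw [Finset.prod_comm] at h2
  have h3 : ∀ j ∈ Finset.range r, j ≠ 0 → ∏ a : 𝔄, ((η * a) ^ j) w = 1 := by
    intro j hj hj0
    have hjr : j < r := Finset.mem_range.mp hj
    let f : 𝔄 → 𝔄 := fun a => ⟨(η ^ j)⁻¹ * (η * a) ^ j, hmem j a a.2⟩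
    have hcopj : Nat.Coprime j r :=
      (Nat.coprime_comm.mp ((Nat.Prime.coprime_iff_not_dvd hr).mpr
        (fun hd => absurd (Nat.le_of_dvd (Nat.pos_of_ne_zero hj0) hd) (not_le.mpr hjr))))
    obtain ⟨m, -, hm⟩ := Nat.exists_mul_mod_eq_one_of_coprime hcopj hr.one_lt
    have hfinj : Function.Injective f := by
      intro a a' haa
      have h1 : (η * a) ^ j = (η * a') ^ j := by
        have := congrArg Subtype.val haa
        simp only [f] at this
        exact mul_left_cancel this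
      have h2 : ∀ c : 𝔄, ((η * c) ^ j) ^ m = η * c := by
        intro c
        rw [← pow_mul, pow_eq_pow_mod (j * m) (hord c c.2), hm, pow_one]
      have h3 : η * (a : MulAut W) = η * a' := by rw [← h2 a, ← h2 a', h1]
      exact Subtype.ext (mul_left_cancel h3)
    have hfbij : Function.Bijective f := Finite.injective_iff_bijective.mp hfinj
    have e1 : ∀ a : 𝔄, ((η * a) ^ j) w = (η ^ j) (((f a : 𝔄) : MulAut W) w) := by
      intro a
      have : (η * a) ^ j = η ^ j * ((f a : 𝔄) : MulAut W) := by simp [f]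
      rw [this]; rfl
    simp_rw [e1]
    rw [← map_prod, hfbij.prod_comp (fun b : 𝔄 => (b : MulAut W) w), hS, map_one]
  have hr0 : 0 ∈ Finset.range r := Finset.mem_range.mpr hr.pos
  rw [← Finset.mul_prod_erase _ _ hr0] at h2
  have h4 : ∏ j ∈ (Finset.range r).erase 0, ∏ a : 𝔄, ((η * a) ^ j) w = 1 := by
    apply Finset.prod_eq_one
    intro j hj
    exact h3 j (Finset.mem_of_mem_erase hj) (Finset.ne_of_mem_erase hj)
  rw [h4, mul_one] at h2
  simp only [pow_zero, MulAut.one_apply, Finset.prod_const, Finset.card_univ] at h2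
  rw [← Nat.card_eq_fintype_card] at h2
  exact eq_one_of_pow_card hcop w h2

end ops

end Cfsg.Agent.Lib.Helper7.Cam
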