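import Mathlib
import Cfsg.Prelude.Def_Transfer
import Cfsg.Agent.Lib.Helper8.CamDefs
import Cfsg.Agent.Lib.Helper7.Cam1
import Cfsg.Agent.S0081
import Cfsg.Agent.H1.FrattiniExtra

set_option autoImplicit false
set_option linter.style.haveILetI false
set_option linter.unusedSectionVars false

/-! S4140 piece B (helper7): Tate's theorem applied to a Camina pair. -/

namespace Cfsg.Agent.Lib.Helper7.Cam

open Cfsg.Agent.Lib.Helper8.Cam (IsCam)
open scoped commutatorElement

variable {G : Type*} [Group G] [Finite G] (N : Subgroup G) [N.Normal]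

theorem card_DD (hc : IsCam N) {g : G} (hg : g ∉ N) :
    Nat.card (DD N g) = Nat.card N * Nat.card (Subgroup.centralizer ({g} : Set G)) := by
  have ha := (card_le (DD N g) N g (fun x hx => (mem_DD N g x).mp hx)).2.mpr (by
    intro n hn
    obtain ⟨x, hx⟩ := hc g hg n hn
    have : phi g x = n := (phi_eq_iff g x n).mpr hx
    exact ⟨x, (mem_DD N g x).mpr (this ▸ hn), this⟩)
  rwa [inf_eq_left.mpr (centralizer_le_DD N g)] at ha

omit [Finite G] in
theorem pbound {p : ℕ} [hp : Fact p.Prime] (H X : Subgroup G) [Finite X] (hHX : H ≤ X)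
    (hH : IsPGroup p H) : Nat.card H ≤ p ^ (Nat.card X).factorization p := by
  haveI : Finite H := Finite.of_injective (Subgroup.inclusion hHX) (Subgroup.inclusion_injective hHX)
  obtain ⟨a, ha⟩ := IsPGroup.iff_card.mp hH
  rw [ha]
  apply Nat.pow_le_pow_right hp.out.pos
  have hdvd : p ^ a ∣ Nat.card X := ha ▸ Subgroup.card_dvd_of_le hHX
  exact (Nat.Prime.pow_dvd_iff_le_factorization hp.out (Nat.card_pos.ne')).mp hdvd

/-- (B1) -/
theorem inf_sylow_le_frattini (hc : IsCam N) (p : ℕ) [hp : Fact p.Prime] (P : Sylow p G)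
    (hP : ¬ (P : Subgroup G) ≤ N) :
    N ⊓ (P : Subgroup G) ≤ (frattini P).map (P : Subgroup G).subtype := by
  classical
  -- the image of P in G ⧸ N
  have hPbarp : IsPGroup p ((P : Subgroup G).map (QuotientGroup.mk' N)) := P.2.map _
  haveI : Nontrivial ((P : Subgroup G).map (QuotientGroup.mk' N)) := by
    obtain ⟨x, hxP, hxN⟩ := SetLike.not_le_iff_exists.mp hP
    refine ⟨⟨⟨QuotientGroup.mk' N x, Subgroup.mem_map_of_mem _ hxP⟩, 1, ?_⟩⟩
    intro h
    have h1 := congrArg Subtype.val h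
    simp only [Subgroup.coe_one] at h1
    exact hxN ((QuotientGroup.eq_one_iff x).mp h1)
  haveI := hPbarp.center_nontrivial
  obtain ⟨z, hz⟩ := exists_ne (1 : Subgroup.center ((P : Subgroup G).map (QuotientGroup.mk' N)))
  obtain ⟨g, hgP, hgz⟩ := Subgroup.mem_map.mp (z : (P : Subgroup G).map (QuotientGroup.mk' N)).2
  have hgN : g ∉ N := by
    intro hgN
    apply hz
    apply Subtype.ext
    apply Subtype.ext
    rw [← hgz]
    simpa using (QuotientGroup.eq_one_iff g).mpr hgN
  -- P ≤ DD N g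
  have hPD : (P : Subgroup G) ≤ DD N g := by
    intro u hu
    unfold DD
    rw [Subgroup.mem_comap, Subgroup.mem_centralizer_iff]
    intro h hh
    rw [Set.mem_singleton_iff] at hh
    subst hh
    have hzc := Subgroup.mem_center_iff.mp z.2
      ⟨QuotientGroup.mk' N u, Subgroup.mem_map_of_mem _ hu⟩
    have := congrArg Subtype.val hzc
    simp only [Subgroup.coe_mul] at this
    rw [← hgz] at this
    exact this.symm
  have hphi : ∀ u ∈ (P : Subgroup G), phi g u ∈ N ⊓ (P : Subgroup G) := by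
    intro u hu
    refine Subgroup.mem_inf.mpr ⟨(mem_DD N g u).mp (hPD hu), ?_⟩
    unfold phi
    exact (P : Subgroup G).mul_mem ((P : Subgroup G).mul_mem
      ((P : Subgroup G).mul_mem ((P : Subgroup G).inv_mem hgP) hu) hgP) ((P : Subgroup G).inv_mem hu)
  have hcl := card_le (P : Subgroup G) (N ⊓ (P : Subgroup G)) g hphi
  -- the reverse inequality
  have hcardP : Nat.card (P : Subgroup G) = p ^ (Nat.card G).factorization p :=
    Sylow.card_eq_multiplicity P
  have hD := card_DD N hc hgN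
  have hfac : (Nat.card (DD N g)).factorization p = (Nat.card G).factorization p := by
    apply le_antisymm
    · exact (Nat.factorization_le_iff_dvd Nat.card_pos.ne' Nat.card_pos.ne').mpr
        (Subgroup.card_subgroup_dvd_card _) p
    · have hdvd : p ^ (Nat.card G).factorization p ∣ Nat.card (DD N g) :=
        hcardP ▸ Subgroup.card_dvd_of_le hPD
      exact (Nat.Prime.pow_dvd_iff_le_factorization hp.out (Nat.card_pos.ne')).mp hdvd
  have hb1 : Nat.card ↥(N ⊓ (P : Subgroup G)) ≤ p ^ (Nat.card N).factorization p :=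
    pbound _ N inf_le_left (P.2.to_le inf_le_right)
  have hb2 : Nat.card ↥(Subgroup.centralizer {g} ⊓ (P : Subgroup G)) ≤
      p ^ (Nat.card (Subgroup.centralizer ({g} : Set G))).factorization p :=
    pbound _ _ inf_le_left (P.2.to_le inf_le_right)
  have hrev : Nat.card ↥(N ⊓ (P : Subgroup G)) *
      Nat.card ↥(Subgroup.centralizer {g} ⊓ (P : Subgroup G)) ≤ Nat.card (P : Subgroup G) := by
    calc _ ≤ p ^ (Nat.card N).factorization p *
          p ^ (Nat.card (Subgroup.centralizer ({g} : Set G))).factorization p :=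
          Nat.mul_le_mul hb1 hb2
      _ = p ^ (Nat.card (DD N g)).factorization p := by
          rw [← pow_add, hD, Nat.factorization_mul Nat.card_pos.ne' Nat.card_pos.ne']
          rfl
      _ = Nat.card (P : Subgroup G) := by rw [hfac, hcardP]
  have hsurj := hcl.2.mp (le_antisymm hcl.1 hrev)
  -- conclusion
  intro w hw
  obtain ⟨u, hu, huw⟩ := hsurj w hw
  haveI : Group.IsNilpotent P := P.2.isNilpotent
  have hcomm : (⁅(⟨g, hgP⟩ : P)⁻¹, (⟨u, hu⟩ : P)⁆ : P) ∈ frattini P := by
    apply Cfsg.Agent.H1.commutator_le_frattini_of_nilpotent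
    rw [commutator_def]
    exact Subgroup.commutator_mem_commutator (Subgroup.mem_top _) (Subgroup.mem_top _)
  refine Subgroup.mem_map.mpr ⟨_, hcomm, ?_⟩
  rw [← huw]
  simp [commutatorElement_def, phi]

/-- (B) -/
theorem exists_normal_pcomplement (hc : IsCam N) (p : ℕ) [hp : Fact p.Prime] (hpi : p ∣ N.index) :
    ∃ M : Subgroup G, M.Normal ∧ M ≤ N ∧ (Nat.card M).Coprime p ∧
      ∃ k : ℕ, M.relIndex N = p ^ k := by
  classical
  obtain ⟨P⟩ : Nonempty (Sylow p G) := inferInstance
  have hP : ¬ (P : Subgroup G) ≤ N := by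
    intro hPN
    exact P.not_dvd_index (dvd_trans hpi (Subgroup.index_dvd_of_le hPN))
  obtain ⟨P', K, hKn, hKc⟩ := Cfsg.Agent.S0081.result P N (inf_sylow_le_frattini N hc p P hP)
  haveI := hKn
  have hidx : K.index = Nat.card (P' : Subgroup N) := hKc.symm.index_eq_card
  obtain ⟨k, hk⟩ := IsPGroup.iff_card.mp P'.2
  have hcardK : (Nat.card K).Coprime p := by
    have h1 : (P' : Subgroup N).index = Nat.card K := hKc.index_eq_card
    have h2 : ¬ p ∣ (P' : Subgroup N).index := P'.not_dvd_index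
    rw [h1] at h2
    exact ((Nat.Prime.coprime_iff_not_dvd hp.out).mpr h2).symm
  have hsub : (K.map N.subtype).subgroupOf N = K := by
    ext x
    rw [Subgroup.mem_subgroupOf, Subgroup.mem_map]
    constructor
    · rintro ⟨y, hy, hyx⟩
      have : y = x := Subtype.ext hyx
      rwa [← this]
    · intro hx; exact ⟨x, hx, rfl⟩
  refine ⟨K.map N.subtype, ?_, Subgroup.map_subtype_le K, ?_, k, ?_⟩
  · -- normal
    constructor
    intro m hm g
    obtain ⟨kk, hkk, rfl⟩ := Subgroup.mem_map.mp hm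
    have hyN : g * (kk : G) * g⁻¹ ∈ N := (inferInstance : N.Normal).conj_mem _ kk.2 g
    refine Subgroup.mem_map.mpr ⟨⟨g * (kk : G) * g⁻¹, hyN⟩, ?_, rfl⟩
    rw [← QuotientGroup.eq_one_iff (N := K)]
    have ho1 : orderOf (⟨g * (kk : G) * g⁻¹, hyN⟩ : N) = orderOf kk := by
      have : (⟨g * (kk : G) * g⁻¹, hyN⟩ : N) = MulAut.conjNormal g kk := by
        apply Subtype.ext; simp [MulAut.conjNormal_apply]
      rw [this, MulEquiv.orderOf_eq]
    have hd1 : orderOf ((⟨g * (kk : G) * g⁻¹, hyN⟩ : N) : N ⧸ K) ∣ Nat.card K := by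
      refine dvd_trans (orderOf_map_dvd (QuotientGroup.mk' K) _) ?_
      rw [ho1]
      exact Subgroup.orderOf_dvd_natCard K hkk
    have hd2 : orderOf ((⟨g * (kk : G) * g⁻¹, hyN⟩ : N) : N ⧸ K) ∣ p ^ k := by
      rw [← hk, ← hidx, Subgroup.index_eq_card]
      exact orderOf_dvd_natCard _
    have h1 : orderOf ((⟨g * (kk : G) * g⁻¹, hyN⟩ : N) : N ⧸ K) ∣ 1 := by
      have hcop : (Nat.card K).Coprime (p ^ k) := hcardK.pow_right k
      rw [← Nat.Coprime.gcd_eq_one hcop]
      exact Nat.dvd_gcd hd1 hd2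
    exact orderOf_eq_one_iff.mp (Nat.dvd_one.mp h1)
  · rw [Subgroup.card_map_of_injective N.subtype_injective]
    exact hcardK
  · unfold Subgroup.relIndex
    rw [hsub, hidx, hk]

end Cfsg.Agent.Lib.Helper7.Cam
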