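import Mathlib

set_option autoImplicit false
set_option linter.style.haveILetI false
set_option linter.unusedSectionVars false

/-!
# Three character degrees, part A: solvable groups all of whose proper quotients are abelian
(Isaacs, Character Theory, Lemma 12.3, the group-theoretic part)
-/

namespace Cfsg.Agent.Lib.Helper7.Cd3

open scoped commutatorElement

variable {H : Type*} [Group H]

theorem comm_elt_mem (g h : H) : g⁻¹ * h⁻¹ * g * h ∈ commutator H := by
  rw [commutator_def]
  have := Subgroup.commutator_mem_commutator (Subgroup.mem_top g⁻¹) (Subgroup.mem_top h⁻¹)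
    (H₁ := (⊤ : Subgroup H)) (H₂ := (⊤ : Subgroup H))
  rw [commutatorElement_def] at this
  simpa using this

/-- If the commutator subgroup centralizes the normal subgroup `A`, the centralizer in `A` of any
element is normal. -/
theorem inf_centralizer_normal (A : Subgroup H) [hA : A.Normal]
    (hcent : ∀ n ∈ commutator H, ∀ a ∈ A, n * a = a * n) (g : H) :
    (A ⊓ Subgroup.centralizer {g}).Normal := by
  constructor
  intro x hx h
  rw [Subgroup.mem_inf] at hx ⊢
  obtain ⟨hxA, hxg⟩ := hx
  rw [Subgroup.mem_centralizer_singleton_iff] at hxg ⊢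
  refine ⟨hA.conj_mem x hxA h, ?_⟩
  have hxn := hcent _ (comm_elt_mem g h) x hxA
  have key : x * (g * (g⁻¹ * h⁻¹ * g * h)) = g * (g⁻¹ * h⁻¹ * g * h) * x := by
    rw [← mul_assoc, hxg, mul_assoc, ← hxn, ← mul_assoc]
  calc h * x * h⁻¹ * g = h * (x * (g * (g⁻¹ * h⁻¹ * g * h))) * h⁻¹ := by group
    _ = h * (g * (g⁻¹ * h⁻¹ * g * h) * x) * h⁻¹ := by rw [key]
    _ = g * (h * x * h⁻¹) := by group

theorem eq_one_of_pow_of_pow {x : H} {m n : ℕ} (h1 : x ^ m = 1) (h2 : x ^ n = 1)
    (hc : m.Coprime n) : x = 1 := by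
  have := pow_gcd_eq_one.mpr ⟨h1, h2⟩
  rwa [Nat.Coprime.gcd_eq_one hc, pow_one] at this

/-- **Isaacs 12.3** (group-theoretic part). A finite solvable nonabelian group all of whose
proper quotients are abelian is a `p`-group, or its commutator subgroup `N` is an abelian normal
Sylow `p`-subgroup on which every element outside `N` acts without fixed points. -/
theorem isaacs_12_3 [Finite H] (hsolv : Group.IsSolvable H)
    (hna : ¬ ∀ a b : H, a * b = b * a)
    (hmin : ∀ M : Subgroup H, M.Normal → M ≠ ⊥ → commutator H ≤ M) :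
    ∃ p : ℕ, p.Prime ∧ (IsPGroup p H ∨
      (IsPGroup p (commutator H) ∧ (∀ a ∈ commutator H, ∀ b ∈ commutator H, a * b = b * a) ∧
        ¬ p ∣ (commutator H).index ∧
        ∀ g : H, g ∉ commutator H → ∀ x ∈ commutator H, g * x = x * g → x = 1)) := by
  classical
  set N := commutator H with hN
  haveI hNn : N.Normal := by rw [hN]; infer_instance
  have hNbot : N ≠ ⊥ := by
    intro h
    apply hna
    intro a b
    have h1 : ⁅a, b⁆ ∈ N := by
      rw [hN, commutator_def]
      exact Subgroup.commutator_mem_commutator (Subgroup.mem_top a) (Subgroup.mem_top b)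
    rw [h, Subgroup.mem_bot, commutatorElement_eq_one_iff_commute] at h1
    exact h1
  -- `N` is abelian
  have hNab : ∀ a ∈ N, ∀ b ∈ N, a * b = b * a := by
    have hN' : ⁅N, N⁆ = ⊥ := by
      by_contra hne
      have h1 : N ≤ ⁅N, N⁆ := hmin _ inferInstance hne
      have h2 : ⁅N, N⁆ = N := le_antisymm (Subgroup.commutator_le_left N N) h1
      have hds : ∀ k, derivedSeries H (k + 1) = N := by
        intro k
        induction k with
        | zero => rw [derivedSeries_succ, derivedSeries_zero, ← commutator_def]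
        | succ k ih => rw [derivedSeries_succ, ih, h2]
      obtain ⟨n, hn⟩ := (Group.isSolvable_def H).mp hsolv
      cases n with
      | zero =>
        rw [derivedSeries_zero] at hn
        apply hNbot
        rw [eq_bot_iff, ← hn]
        exact le_top
      | succ n =>
        rw [hds n] at hn
        exact hNbot hn
    intro a ha b hb
    have h1 : ⁅a, b⁆ ∈ ⁅N, N⁆ := Subgroup.commutator_mem_commutator ha hb
    rw [hN', Subgroup.mem_bot, commutatorElement_eq_one_iff_commute] at h1
    exact h1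
  -- a prime
  have hcard : 1 < Nat.card N := (Subgroup.one_lt_card_iff_ne_bot N).mpr hNbot
  obtain ⟨p, hp, hpd⟩ := Nat.exists_prime_and_dvd (ne_of_gt hcard)
  haveI : Fact p.Prime := ⟨hp⟩
  have hexp : ∀ x ∈ N, x ^ p = 1 := by
    let Np : Subgroup H :=
      { carrier := {x | x ∈ N ∧ x ^ p = 1}
        mul_mem' := by
          rintro a b ⟨ha, ha'⟩ ⟨hb, hb'⟩
          refine ⟨N.mul_mem ha hb, ?_⟩
          rw [(show Commute a b from hNab a ha b hb).mul_pow, ha', hb', one_mul]
        one_mem' := ⟨N.one_mem, one_pow p⟩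
        inv_mem' := by
          rintro a ⟨ha, ha'⟩
          exact ⟨N.inv_mem ha, by rw [inv_pow, ha', inv_one]⟩ }
    have hNpn : Np.Normal := by
      constructor
      rintro x ⟨hx, hx'⟩ g
      refine ⟨hNn.conj_mem x hx g, ?_⟩
      rw [conj_pow, hx', mul_one, mul_inv_cancel]
    have hNpne : Np ≠ ⊥ := by
      obtain ⟨x, hx⟩ := exists_prime_orderOf_dvd_card' (G := N) p hpd
      intro h
      have hxm : (x : H) ∈ Np := by
        refine ⟨x.2, ?_⟩
        rw [← Subgroup.coe_pow, ← hx, pow_orderOf_eq_one]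
        rfl
      rw [h, Subgroup.mem_bot] at hxm
      have hx1 : x = 1 := Subtype.ext hxm
      rw [hx1, orderOf_one] at hx
      exact hp.one_lt.ne hx
    intro x hx
    exact (hmin Np hNpn hNpne hx).2
  have hNp : IsPGroup p N := by
    intro x
    refine ⟨1, ?_⟩
    apply Subtype.ext
    rw [pow_one, Subgroup.coe_pow, hexp x x.2]
    rfl
  refine ⟨p, hp, ?_⟩
  by_cases hHp : IsPGroup p H
  · left; exact hHp
  right
  -- the centralizer of `N`
  set C := Subgroup.centralizer (N : Set H) with hC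
  haveI hCn : C.Normal := Subgroup.normal_centralizer
  have hNC : N ≤ C := by
    intro x hx
    rw [hC, Subgroup.mem_centralizer_iff]
    intro y hy
    exact hNab y hy x hx
  have hCcomm : ∀ n ∈ N, ∀ a ∈ C, n * a = a * n := by
    intro n hn a ha
    rw [hC, Subgroup.mem_centralizer_iff] at ha
    exact ha n hn
  -- elements of `C` of order prime to `p` are trivial
  have hL1 : ∀ y ∈ C, (orderOf y).Coprime p → y = 1 := by
    intro y hy hcop
    by_contra hy1
    have hcen : ∀ h : H, h * y * h⁻¹ = y := by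
      intro h
      have hn : y⁻¹ * h * y * h⁻¹ ∈ N := by
        have := comm_elt_mem y h⁻¹
        rwa [inv_inv] at this
      have hyn : Commute y (y⁻¹ * h * y * h⁻¹) := (hCcomm _ hn y hy).symm
      have h1 : h * y * h⁻¹ = y * (y⁻¹ * h * y * h⁻¹) := by group
      have h2 : (h * y * h⁻¹) ^ orderOf y = 1 := by
        rw [conj_pow, pow_orderOf_eq_one, mul_one, mul_inv_cancel]
      rw [h1, hyn.mul_pow, pow_orderOf_eq_one, one_mul] at h2
      have h4 : y⁻¹ * h * y * h⁻¹ = 1 := eq_one_of_pow_of_pow h2 (hexp _ hn) hcop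
      rw [h1, h4, mul_one]
    have hYn : (Subgroup.zpowers y).Normal := by
      constructor
      intro x hx h
      obtain ⟨k, rfl⟩ := Subgroup.mem_zpowers_iff.mp hx
      rw [← conj_zpow, hcen h]
      exact Subgroup.zpow_mem_zpowers y k
    have hYne : Subgroup.zpowers y ≠ ⊥ := by
      rw [Ne, Subgroup.zpowers_eq_bot]
      exact hy1
    have hNY := hmin _ hYn hYne
    apply hNbot
    rw [eq_bot_iff]
    intro n hn
    rw [Subgroup.mem_bot]
    obtain ⟨k, hk⟩ := Subgroup.mem_zpowers_iff.mp (hNY hn)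
    have h1 : n ^ orderOf y = 1 := by
      rw [← hk, ← zpow_natCast, ← zpow_mul, mul_comm, zpow_mul, zpow_natCast, pow_orderOf_eq_one,
        one_zpow]
    exact eq_one_of_pow_of_pow h1 (hexp n hn) hcop
  have hCp : ∀ g ∈ C, ∃ k : ℕ, g ^ (p ^ k) = 1 := by
    intro g hg
    obtain ⟨e, m', hm', hord⟩ :=
      Nat.exists_eq_pow_mul_and_not_dvd (orderOf_pos g).ne' p hp.ne_one
    refine ⟨e, ?_⟩
    apply hL1 _ (C.pow_mem hg _)
    have h1 : orderOf (g ^ (p ^ e)) = m' := by
      rw [orderOf_pow_of_dvd (pow_pos hp.pos e).ne' (Dvd.intro _ hord.symm), hord,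
        Nat.mul_div_cancel_left _ (pow_pos hp.pos e)]
    rw [h1]
    exact Nat.Coprime.symm ((Nat.Prime.coprime_iff_not_dvd hp).mpr hm')
  obtain ⟨y₀, hy₀C⟩ : ∃ y₀ : H, y₀ ∉ C := by
    by_contra hcon
    push Not at hcon
    apply hHp
    intro g
    exact hCp g (hcon g)
  -- a normal subgroup contained in the centralizer of an element outside `C` is trivial
  have hcentbot : ∀ (M : Subgroup H) (g : H), M.Normal → g ∉ C →
      M ≤ Subgroup.centralizer {g} → M = ⊥ := by
    intro M g hMn hg hM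
    by_contra hne
    apply hg
    rw [hC, Subgroup.mem_centralizer_iff]
    intro n hn
    have := hM (hmin M hMn hne hn)
    rw [Subgroup.mem_centralizer_singleton_iff] at this
    exact this
  have hD : C ⊓ Subgroup.centralizer {y₀} = ⊥ :=
    hcentbot _ y₀ (inf_centralizer_normal C hCcomm y₀) hy₀C inf_le_right
  -- `C = N`
  have hCN : C = N := by
    symm
    apply Subgroup.eq_of_le_of_card_ge hNC
    have hmem : ∀ x : C, (x : H) * y₀ * (x : H)⁻¹ * y₀⁻¹ ∈ N := by
      intro x
      have := comm_elt_mem (x : H)⁻¹ y₀⁻¹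
      rwa [inv_inv, inv_inv] at this
    apply Nat.card_le_card_of_injective (fun x : C => (⟨_, hmem x⟩ : N))
    intro x₁ x₂ h
    have h1 : (x₁ : H) * y₀ * (x₁ : H)⁻¹ * y₀⁻¹ = (x₂ : H) * y₀ * (x₂ : H)⁻¹ * y₀⁻¹ :=
      congrArg Subtype.val h
    have h2 : (x₂ : H)⁻¹ * (x₁ : H) ∈ C ⊓ Subgroup.centralizer {y₀} := by
      rw [Subgroup.mem_inf]
      refine ⟨C.mul_mem (C.inv_mem x₂.2) x₁.2, ?_⟩
      rw [Subgroup.mem_centralizer_singleton_iff]
      have h3 : (x₁ : H) * y₀ * (x₁ : H)⁻¹ = (x₂ : H) * y₀ * (x₂ : H)⁻¹ := by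
        have := congrArg (fun z => z * y₀) h1
        simpa using this
      calc (x₂ : H)⁻¹ * (x₁ : H) * y₀
          = (x₂ : H)⁻¹ * ((x₁ : H) * y₀ * (x₁ : H)⁻¹) * (x₁ : H) := by group
        _ = (x₂ : H)⁻¹ * ((x₂ : H) * y₀ * (x₂ : H)⁻¹) * (x₁ : H) := by rw [h3]
        _ = y₀ * ((x₂ : H)⁻¹ * (x₁ : H)) := by group
    rw [hD, Subgroup.mem_bot] at h2
    apply Subtype.ext
    have : (x₁ : H) = (x₂ : H) := by
      have := congrArg (fun z => (x₂ : H) * z) h2
      simpa using this
    exact this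
  -- the Frobenius condition
  have hfrob : ∀ g : H, g ∉ N → ∀ x ∈ N, g * x = x * g → x = 1 := by
    intro g hg x hx hgx
    by_contra hx1
    have hgC : g ∉ C := by rw [hCN]; exact hg
    have hbot := hcentbot _ g (inf_centralizer_normal N (fun n hn a ha => hNab n hn a ha) g) hgC
      inf_le_right
    have hxm : x ∈ N ⊓ Subgroup.centralizer {g} := by
      rw [Subgroup.mem_inf]
      refine ⟨hx, ?_⟩
      rw [Subgroup.mem_centralizer_singleton_iff]
      exact hgx.symm
    rw [hbot, Subgroup.mem_bot] at hxm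
    exact hx1 hxm
  refine ⟨hNp, hNab, ?_, hfrob⟩
  -- `N` is a Sylow subgroup
  intro hdvd
  rw [Subgroup.index_eq_card] at hdvd
  obtain ⟨gbar, hgbar⟩ := exists_prime_orderOf_dvd_card' (G := H ⧸ N) p hdvd
  obtain ⟨g, rfl⟩ := QuotientGroup.mk_surjective gbar
  have hgN : g ∉ N := by
    intro hg
    have : (QuotientGroup.mk g : H ⧸ N) = 1 := (QuotientGroup.eq_one_iff g).mpr hg
    rw [this, orderOf_one] at hgbar
    exact hp.one_lt.ne hgbar
  have hgp : g ^ p ∈ N := by
    rw [← QuotientGroup.eq_one_iff, QuotientGroup.mk_pow, ← hgbar, pow_orderOf_eq_one]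
  have hgpp : g ^ (p ^ 2) = 1 := by
    rw [pow_two, pow_mul]
    exact hexp _ hgp
  have hZp : IsPGroup p (Subgroup.zpowers g) := by
    intro z
    refine ⟨2, ?_⟩
    obtain ⟨k, hk⟩ := Subgroup.mem_zpowers_iff.mp z.2
    apply Subtype.ext
    rw [Subgroup.coe_pow, ← hk, ← zpow_natCast, ← zpow_mul, mul_comm, zpow_mul, zpow_natCast, hgpp,
      one_zpow]
    rfl
  letI act : MulAction (Subgroup.zpowers g) N :=
    MulAction.compHom N ((MulAut.conjNormal (H := N)).comp (Subgroup.zpowers g).subtype)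
  have hfix1 : (1 : N) ∈ MulAction.fixedPoints (Subgroup.zpowers g) N := by
    intro z
    change (MulAut.conjNormal (z : H)) (1 : N) = 1
    exact map_one _
  obtain ⟨b, hb, hb1⟩ := hZp.exists_fixed_point_of_prime_dvd_card_of_fixed_point N hpd hfix1
  have hbg := hb ⟨g, Subgroup.mem_zpowers g⟩
  change (MulAut.conjNormal g) b = b at hbg
  have hbg' : g * (b : H) * g⁻¹ = (b : H) := by
    have := congrArg Subtype.val hbg
    rwa [MulAut.conjNormal_apply] at this
  have hcomm : g * (b : H) = (b : H) * g := by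
    have := congrArg (fun z => z * g) hbg'
    simpa using this
  have := hfrob g hgN b b.2 hcomm
  apply hb1
  apply Subtype.ext
  rw [this]
  rfl

end Cfsg.Agent.Lib.Helper7.Cd3
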