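import Mathlib
import Cfsg.Prelude.Def_Characters
import Cfsg.Agent.Lib.helper3.Irr9
import Cfsg.Agent.Lib.helper3.Irr7
import Cfsg.Agent.Lib.helper3.AbelianInertia
import Cfsg.Agent.Lib.helper3.Degrees

set_option autoImplicit false
set_option linter.style.haveILetI false
set_option linter.unusedSectionVars false

/-!
# Three coprime character degrees, part A: multiplicities in products of characters
-/

namespace Cfsg.Agent.Lib.Helper7.ThreeDeg

open Cfsg Cfsg.Agent.Lib.helper3.Irr Cfsg.Agent.Lib.helper3.IndFun
open Cfsg.Agent.Lib.helper3.CharBasic Cfsg.Agent.Lib.helper3.Central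
open scoped ComplexConjugate

variable {G : Type*} [Group G] [Fintype G]

/-- Adjunction: `⟨f g, h⟩ = ⟨f, ḡ h⟩`. -/
theorem classInner_mul_left (f g h : G → ℂ) :
    classInner (f * g) h = classInner f ((fun x => conj (g x)) * h) := by
  rw [classInner_apply, classInner_apply]
  congr 1
  apply Finset.sum_congr rfl
  intro x _
  simp only [Pi.mul_apply, map_mul, Complex.conj_conj]
  ring

/-- The multiplicity of an irreducible character in a character. -/
noncomputable def mult (f : G → ℂ) (φ : IrrCharacter G) : ℕ :=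
  ⌊(classInner f (φ : G → ℂ)).re⌋₊

theorem mult_spec {f : G → ℂ} (hf : IsCharacter G f) (φ : IrrCharacter G) :
    classInner f (φ : G → ℂ) = (mult f φ : ℂ) := by
  obtain ⟨k, hk⟩ := exists_nat_classInner_of_isCharacter hf φ
  unfold mult
  rw [hk, Complex.natCast_re, Nat.floor_natCast]

theorem mult_spec' {f : G → ℂ} (hf : IsCharacter G f) (φ : IrrCharacter G) :
    classInner (φ : G → ℂ) f = (mult f φ : ℂ) := by
  rw [← classInner_conj_symm, mult_spec hf φ, Complex.conj_natCast]

theorem mult_eq_zero_iff {f : G → ℂ} (hf : IsCharacter G f) (φ : IrrCharacter G) :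
    mult f φ = 0 ↔ classInner f (φ : G → ℂ) = 0 := by
  rw [mult_spec hf φ]
  exact Nat.cast_eq_zero.symm

theorem eq_sum_mult {f : G → ℂ} (hf : IsCharacter G f) (g : G) :
    f g = ∑ φ : IrrCharacter G, (mult f φ : ℂ) * (φ : G → ℂ) g := by
  have h := congrFun (isCharacter_eq_sum_classInner hf) g
  simp only [Finset.sum_apply, Pi.smul_apply, smul_eq_mul] at h
  rw [h]
  apply Finset.sum_congr rfl
  intro φ _
  rw [mult_spec hf φ]

/-- The degree of an irreducible character as a natural number. -/
noncomputable def deg (φ : IrrCharacter G) : ℕ := ⌊((φ : G → ℂ) 1).re⌋₊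

theorem deg_spec (φ : IrrCharacter G) : (φ : G → ℂ) 1 = (deg φ : ℂ) := by
  obtain ⟨k, -, hk⟩ := exists_pos_nat_apply_one φ.2
  unfold deg
  rw [hk, Complex.natCast_re, Nat.floor_natCast]

theorem deg_pos (φ : IrrCharacter G) : 0 < deg φ := by
  obtain ⟨k, hk0, hk⟩ := exists_pos_nat_apply_one φ.2
  have : (deg φ : ℂ) = k := by rw [← deg_spec, hk]
  have : deg φ = k := by exact_mod_cast this
  omega

theorem deg_eq {φ : IrrCharacter G} {k : ℕ} (h : (φ : G → ℂ) 1 = k) : deg φ = k := by
  have : (deg φ : ℂ) = k := by rw [← deg_spec, h]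
  exact_mod_cast this

/-- The degree formula in natural numbers. -/
theorem degree_formula {f : G → ℂ} (hf : IsCharacter G f) {k : ℕ} (hk : f 1 = k) :
    ∑ φ : IrrCharacter G, mult f φ * deg φ = k := by
  have h := eq_sum_mult hf 1
  rw [hk] at h
  have : ((∑ φ : IrrCharacter G, mult f φ * deg φ : ℕ) : ℂ) = k := by
    rw [h]
    push_cast
    apply Finset.sum_congr rfl
    intro φ _
    rw [deg_spec]
  exact_mod_cast this

/-- Counting lemma: in a character of degree `m * m` with no linear constituents, where all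
irreducible degrees are `1`, `m`, `n` with `m < n` coprime, no constituent has degree `n`. -/
theorem count_sq {ι : Type*} [Fintype ι] (c d : ι → ℕ) (m n : ℕ) (hm : 1 < m) (hmn : m < n)
    (hcop : m.Coprime n) (hd : ∀ i, d i = 1 ∨ d i = m ∨ d i = n)
    (hsum : ∑ i, c i * d i = m * m) (hL : ∀ i, d i = 1 → c i = 0) :
    ∀ i, d i = n → c i = 0 := by
  classical
  have h1 : ∀ i, c i * d i = m * (if d i = m then c i else 0) + n * (if d i = n then c i else 0) := by
    intro i
    rcases hd i with h | h | h
    · rw [hL i h]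
      simp
    · have hne : ¬ (d i = n) := by rw [h]; omega
      rw [if_pos h, if_neg hne, h]; ring
    · have hne : ¬ (d i = m) := by rw [h]; omega
      rw [if_neg hne, if_pos h, h]; ring
  rw [Finset.sum_congr rfl (fun i _ => h1 i), Finset.sum_add_distrib, ← Finset.mul_sum,
    ← Finset.mul_sum] at hsum
  set a := ∑ i, (if d i = m then c i else 0) with ha
  set b := ∑ i, (if d i = n then c i else 0) with hb
  have hb0 : b = 0 := by
    by_contra hne
    have hdvd : m ∣ n * b := by
      have : m ∣ m * a + n * b := by rw [hsum]; exact dvd_mul_right m m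
      exact (Nat.dvd_add_right (dvd_mul_right m a)).mp this
    have hdvd' : m ∣ b := hcop.dvd_of_dvd_mul_left hdvd
    have hle : m ≤ b := Nat.le_of_dvd (Nat.pos_of_ne_zero hne) hdvd'
    have : n * m ≤ n * b := Nat.mul_le_mul_left n hle
    have : m * m < n * m := Nat.mul_lt_mul_of_pos_right hmn (by omega)
    omega
  intro i hi
  have := (Finset.sum_eq_zero_iff.mp hb0) i (Finset.mem_univ i)
  rwa [if_pos hi] at this

/-- Counting lemma: in a character of degree `m * n` with no linear constituents and at least
one constituent of degree `m`, no constituent has degree `n` and the multiplicities sum to `n`. -/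
theorem count_mn {ι : Type*} [Fintype ι] (c d : ι → ℕ) (m n : ℕ) (hm : 1 < m) (hmn : m < n)
    (hcop : m.Coprime n) (hd : ∀ i, d i = 1 ∨ d i = m ∨ d i = n)
    (hsum : ∑ i, c i * d i = m * n) (hL : ∀ i, d i = 1 → c i = 0)
    (hA : ∃ i, d i = m ∧ c i ≠ 0) :
    (∀ i, d i = n → c i = 0) ∧ ∑ i, c i = n := by
  classical
  have h1 : ∀ i, c i * d i = m * (if d i = m then c i else 0) + n * (if d i = n then c i else 0) := by
    intro i
    rcases hd i with h | h | h
    · rw [hL i h]
      simp
    · have hne : ¬ (d i = n) := by rw [h]; omega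
      rw [if_pos h, if_neg hne, h]; ring
    · have hne : ¬ (d i = m) := by rw [h]; omega
      rw [if_neg hne, if_pos h, h]; ring
  rw [Finset.sum_congr rfl (fun i _ => h1 i), Finset.sum_add_distrib, ← Finset.mul_sum,
    ← Finset.mul_sum] at hsum
  set a := ∑ i, (if d i = m then c i else 0) with ha
  set b := ∑ i, (if d i = n then c i else 0) with hb
  have ha0 : a ≠ 0 := by
    obtain ⟨i, hi, hci⟩ := hA
    intro h0
    have := (Finset.sum_eq_zero_iff.mp h0) i (Finset.mem_univ i)
    rw [if_pos hi] at this
    exact hci this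
  have hdvd : n ∣ m * a := by
    have : n ∣ m * a + n * b := by rw [hsum]; exact dvd_mul_left n m
    exact (Nat.dvd_add_left (dvd_mul_right n b)).mp this
  have hdvd' : n ∣ a := hcop.symm.dvd_of_dvd_mul_left hdvd
  have hle : n ≤ a := Nat.le_of_dvd (Nat.pos_of_ne_zero ha0) hdvd'
  have h2 : m * n ≤ m * a := Nat.mul_le_mul_left m hle
  have hnb : n * b = 0 := by omega
  have hb0 : b = 0 := by
    rcases Nat.mul_eq_zero.mp hnb with h | h
    · omega
    · exact h
  have han : a = n := by
    have : m * a = m * n := by omega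
    exact Nat.eq_of_mul_eq_mul_left (by omega) this
  have hzero : ∀ i, d i = n → c i = 0 := by
    intro i hi
    have := (Finset.sum_eq_zero_iff.mp hb0) i (Finset.mem_univ i)
    rwa [if_pos hi] at this
  refine ⟨hzero, ?_⟩
  rw [← han, ha]
  apply Finset.sum_congr rfl
  intro i _
  rcases hd i with h | h | h
  · have hne : ¬ (d i = m) := by rw [h]; omega
    rw [if_neg hne, hL i h]
  · rw [if_pos h]
  · have hne : ¬ (d i = m) := by rw [h]; omega
    rw [if_neg hne, hzero i h]

end Cfsg.Agent.Lib.Helper7.ThreeDeg
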