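import Mathlib
import Cfsg.Prelude.Def_Characters
import Cfsg.Agent.Lib.Helper7.ThreeDegA

set_option autoImplicit false
set_option linter.style.haveILetI false
set_option linter.unusedSectionVars false

/-!
# Three coprime character degrees, part B: products of two characters of the smaller degree
-/

namespace Cfsg.Agent.Lib.Helper7.ThreeDeg

open Cfsg Cfsg.Agent.Lib.helper3.Irr Cfsg.Agent.Lib.helper3.IndFun
open Cfsg.Agent.Lib.helper3.CharBasic Cfsg.Agent.Lib.helper3.Central
open scoped ComplexConjugate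

variable {G : Type*} [Group G] [Fintype G]

/-- The complex conjugate of an irreducible character. -/
noncomputable def cj (φ : IrrCharacter G) : IrrCharacter G :=
  ⟨fun g => conj ((φ : G → ℂ) g), isIrrCharacter_conj φ.2⟩

theorem cj_apply (φ : IrrCharacter G) (g : G) : (cj φ : G → ℂ) g = conj ((φ : G → ℂ) g) := rfl

theorem deg_cj (φ : IrrCharacter G) : deg (cj φ) = deg φ := by
  apply deg_eq
  rw [cj_apply, deg_spec, Complex.conj_natCast]

/-- The product of a linear character and an irreducible character. -/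
noncomputable def tw (lam φ : IrrCharacter G) (h : deg lam = 1) : IrrCharacter G :=
  ⟨(lam : G → ℂ) * (φ : G → ℂ),
    isIrrCharacter_linear_mul (isCharacter_of_isIrrCharacter lam.2)
      (by rw [deg_spec, h, Nat.cast_one]) φ.2⟩

theorem tw_apply (lam φ : IrrCharacter G) (h : deg lam = 1) (g : G) :
    (tw lam φ h : G → ℂ) g = (lam : G → ℂ) g * (φ : G → ℂ) g := rfl

theorem deg_tw (lam φ : IrrCharacter G) (h : deg lam = 1) : deg (tw lam φ h) = deg φ := by
  apply deg_eq
  rw [tw_apply, deg_spec, deg_spec, h, Nat.cast_one, one_mul]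

theorem isChar (φ : IrrCharacter G) : IsCharacter G (φ : G → ℂ) :=
  isCharacter_of_isIrrCharacter φ.2

theorem isChar_mul (φ ψ : IrrCharacter G) : IsCharacter G ((φ : G → ℂ) * (ψ : G → ℂ)) :=
  isCharacter_mul (isChar φ) (isChar ψ)

theorem mul_apply_one (φ ψ : IrrCharacter G) :
    ((φ : G → ℂ) * (ψ : G → ℂ)) 1 = ((deg φ * deg ψ : ℕ) : ℂ) := by
  rw [Pi.mul_apply, deg_spec, deg_spec, Nat.cast_mul]

/-- Two irreducible characters with nonzero inner product are equal. -/
theorem eq_of_classInner_ne_zero (φ ψ : IrrCharacter G)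
    (h : classInner (φ : G → ℂ) (ψ : G → ℂ) ≠ 0) : φ = ψ := by
  by_contra hne
  apply h
  apply irr_classInner_eq_zero φ.2 ψ.2
  intro h'
  exact hne (Subtype.ext h')

theorem classInner_eq_zero_of_deg_ne (φ ψ : IrrCharacter G) (h : deg φ ≠ deg ψ) :
    classInner (φ : G → ℂ) (ψ : G → ℂ) = 0 := by
  by_contra hne
  exact h (by rw [eq_of_classInner_ne_zero φ ψ hne])

/-- `⟨α β, γ⟩ = ⟨β, ᾱ γ⟩` for irreducible characters. -/
theorem classInner_mul_irr (α β γ : IrrCharacter G) :
    classInner ((α : G → ℂ) * (β : G → ℂ)) (γ : G → ℂ)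
      = classInner (β : G → ℂ) ((cj α : G → ℂ) * (γ : G → ℂ)) := by
  rw [mul_comm, classInner_mul_left]
  rfl

/-- `mult (α β) γ = mult (ᾱ γ) β`. -/
theorem mult_swap (α β γ : IrrCharacter G) :
    mult ((α : G → ℂ) * (β : G → ℂ)) γ = mult ((cj α : G → ℂ) * (γ : G → ℂ)) β := by
  have h1 := mult_spec (isChar_mul α β) γ
  have h2 := mult_spec' (isChar_mul (cj α) γ) β
  rw [classInner_mul_irr, h2] at h1
  exact_mod_cast h1.symm

theorem cj_cj (φ : IrrCharacter G) : cj (cj φ) = φ := by
  apply Subtype.ext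
  funext g
  rw [cj_apply, cj_apply, Complex.conj_conj]

/-- The hypotheses: irreducible degrees `1`, `m`, `n` with `1 < m < n` coprime. -/
structure Hyp (G : Type*) [Group G] [Fintype G] (m n : ℕ) : Prop where
  hm : 1 < m
  hmn : m < n
  hcop : m.Coprime n
  hcd : ∀ φ : IrrCharacter G, deg φ = 1 ∨ deg φ = m ∨ deg φ = n

/-- A product of a linear character and a character of degree `m` has no constituent of another
degree. -/
theorem mult_linear_mul (φ lam γ : IrrCharacter G) (hlam : deg lam = 1)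
    (hγ : deg γ ≠ deg φ) : mult ((φ : G → ℂ) * (lam : G → ℂ)) γ = 0 := by
  rw [mult_eq_zero_iff (isChar_mul φ lam), mul_comm]
  have := classInner_eq_zero_of_deg_ne (tw lam φ hlam) γ (by rw [deg_tw]; exact hγ.symm)
  exact this

/-- **Dichotomy.** For `α, α'` of degree `m`: either `α' = λ ᾱ` for a linear `λ`, or all
constituents of `α α'` have degree `m`. -/
theorem dichotomy {m n : ℕ} (H : Hyp G m n) (α α' : IrrCharacter G) (hα : deg α = m)
    (hα' : deg α' = m) :
    (∃ lam : IrrCharacter G, ∃ h : deg lam = 1, α' = tw lam (cj α) h) ∨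
      ∀ φ : IrrCharacter G, deg φ ≠ m → mult ((α : G → ℂ) * (α' : G → ℂ)) φ = 0 := by
  by_cases h : ∃ lam : IrrCharacter G, deg lam = 1 ∧ mult ((α : G → ℂ) * (α' : G → ℂ)) lam ≠ 0
  · left
    obtain ⟨lam, hlam, hne⟩ := h
    refine ⟨lam, hlam, ?_⟩
    rw [Ne, mult_eq_zero_iff (isChar_mul α α'), classInner_mul_irr] at hne
    have h2 : classInner (α' : G → ℂ) (tw lam (cj α) hlam : G → ℂ) ≠ 0 := by
      have e : (tw lam (cj α) hlam : G → ℂ) = (cj α : G → ℂ) * (lam : G → ℂ) := by
        funext g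
        rw [tw_apply, Pi.mul_apply, mul_comm]
      rw [e]
      exact hne
    exact eq_of_classInner_ne_zero _ _ h2
  · right
    push Not at h
    have hsum := degree_formula (isChar_mul α α') (mul_apply_one α α')
    rw [hα, hα'] at hsum
    have hn := count_sq (fun φ => mult ((α : G → ℂ) * (α' : G → ℂ)) φ) deg m n H.hm H.hmn H.hcop
      H.hcd hsum h
    intro φ hφ
    rcases H.hcd φ with h1 | h1 | h1
    · exact h φ h1
    · exact absurd h1 hφ
    · exact hn φ h1

end Cfsg.Agent.Lib.Helper7.ThreeDeg
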