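import Mathlib
import Cfsg.Prelude.Def_Characters
import Cfsg.Agent.Lib.Helper7.ThreeDegB

set_option autoImplicit false
set_option linter.style.haveILetI false
set_option linter.unusedSectionVars false

/-!
# Three coprime character degrees, part C: the case where `χ χ̄` has no constituent of the
larger degree
-/

namespace Cfsg.Agent.Lib.Helper7.ThreeDeg

open Cfsg Cfsg.Agent.Lib.helper3.Irr Cfsg.Agent.Lib.helper3.IndFun
open Cfsg.Agent.Lib.helper3.CharBasic Cfsg.Agent.Lib.helper3.Central
open scoped ComplexConjugate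

variable {G : Type*} [Group G] [Fintype G]

/-- If `χ χ̄` has no constituent of degree `n`, then `χ φ` has no constituent of degree `n` for
any `φ` of degree `1` or `m`. -/
theorem stable {m n : ℕ} (H : Hyp G m n) (χ : IrrCharacter G) (hχ : deg χ = m)
    (hB : ∀ ψ : IrrCharacter G, deg ψ = n → mult ((χ : G → ℂ) * (cj χ : G → ℂ)) ψ = 0)
    (φ ψ : IrrCharacter G) (hφ : deg φ ≠ n) (hψ : deg ψ = n) :
    mult ((χ : G → ℂ) * (φ : G → ℂ)) ψ = 0 := by
  have hmn : m ≠ n := H.hmn.ne
  rcases H.hcd φ with h1 | h1 | h1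
  · exact mult_linear_mul χ φ ψ h1 (by rw [hχ, hψ]; exact hmn.symm)
  · rcases dichotomy H χ φ hχ h1 with ⟨lam, hlam, rfl⟩ | h2
    · -- `χ φ = (χ χ̄) λ`
      rw [mult_eq_zero_iff (isChar_mul χ _)]
      have e : (χ : G → ℂ) * (tw lam (cj χ) hlam : G → ℂ)
          = ((χ : G → ℂ) * (cj χ : G → ℂ)) * (lam : G → ℂ) := by
        funext g
        simp only [Pi.mul_apply, tw_apply]
        ring
      rw [e, classInner_mul_left]
      have e2 : (fun x => conj ((lam : G → ℂ) x)) * (ψ : G → ℂ)
          = (tw (cj lam) ψ (by rw [deg_cj]; exact hlam) : G → ℂ) := by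
        funext g
        rw [tw_apply, Pi.mul_apply, cj_apply]
      rw [e2, ← mult_eq_zero_iff (isChar_mul χ (cj χ))]
      apply hB
      rw [deg_tw, hψ]
    · exact h2 ψ (by rw [hψ]; exact hmn.symm)
  · exact absurd h1 hφ

/-- The weighted sum of the irreducible characters of degree `≠ n`. -/
noncomputable def Xi (n : ℕ) (g : G) : ℂ :=
  ∑ φ : IrrCharacter G, (if deg φ = n then 0 else (deg φ : ℂ) * (φ : G → ℂ) g)

open Classical in
/-- Key identity: `χ Ξ = m Ξ`. -/
theorem mul_Xi {m n : ℕ} (H : Hyp G m n) (χ : IrrCharacter G) (hχ : deg χ = m)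
    (hB : ∀ ψ : IrrCharacter G, deg ψ = n → mult ((χ : G → ℂ) * (cj χ : G → ℂ)) ψ = 0) (g : G) :
    (χ : G → ℂ) g * Xi n g = (m : ℂ) * Xi n g := by
  have hB' : ∀ ψ : IrrCharacter G, deg ψ = n →
      mult ((cj χ : G → ℂ) * (cj (cj χ) : G → ℂ)) ψ = 0 := by
    intro ψ hψ
    rw [cj_cj, mul_comm]
    exact hB ψ hψ
  have hχ' : deg (cj χ) = m := by rw [deg_cj, hχ]
  -- the coefficient identity in natural numbers
  have hcoef : ∀ φ' : IrrCharacter G,
      ∑ φ : IrrCharacter G, (if deg φ = n then 0 else deg φ * mult ((χ : G → ℂ) * (φ : G → ℂ)) φ')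
        = if deg φ' = n then 0 else m * deg φ' := by
    intro φ'
    by_cases hφ' : deg φ' = n
    · rw [if_pos hφ']
      apply Finset.sum_eq_zero
      intro φ _
      by_cases hφ : deg φ = n
      · rw [if_pos hφ]
      · rw [if_neg hφ, stable H χ hχ hB φ φ' hφ hφ', mul_zero]
    · rw [if_neg hφ']
      have hsum := degree_formula (isChar_mul (cj χ) φ') (mul_apply_one (cj χ) φ')
      rw [hχ'] at hsum
      rw [← hsum]
      apply Finset.sum_congr rfl
      intro φ _
      by_cases hφ : deg φ = n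
      · rw [if_pos hφ, stable H (cj χ) hχ' hB' φ' φ hφ' hφ, zero_mul]
      · rw [if_neg hφ, mult_swap, mul_comm]
  unfold Xi
  rw [Finset.mul_sum, Finset.mul_sum]
  have h1 : ∀ φ : IrrCharacter G,
      (χ : G → ℂ) g * (if deg φ = n then 0 else (deg φ : ℂ) * (φ : G → ℂ) g)
        = ∑ φ' : IrrCharacter G, ((if deg φ = n then 0 else
            deg φ * mult ((χ : G → ℂ) * (φ : G → ℂ)) φ' : ℕ) : ℂ) * (φ' : G → ℂ) g := by
    intro φ
    by_cases hφ : deg φ = n
    · simp [hφ]
    · simp only [if_neg hφ]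
      have := eq_sum_mult (isChar_mul χ φ) g
      rw [Pi.mul_apply] at this
      calc (χ : G → ℂ) g * ((deg φ : ℂ) * (φ : G → ℂ) g)
          = (deg φ : ℂ) * ((χ : G → ℂ) g * (φ : G → ℂ) g) := by ring
        _ = _ := by
          rw [this, Finset.mul_sum]
          apply Finset.sum_congr rfl
          intro φ' _
          push_cast
          ring
  rw [Finset.sum_congr rfl (fun φ _ => h1 φ), Finset.sum_comm]
  apply Finset.sum_congr rfl
  intro φ' _
  rw [← Finset.sum_mul, ← Nat.cast_sum, hcoef φ']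
  by_cases hφ' : deg φ' = n
  · simp [hφ']
  · simp only [if_neg hφ']
    push_cast
    ring

/-- **Case 1**: if `χ χ̄` has no constituent of degree `n`, then `χ` is not faithful. -/
theorem not_faithful_of_no_big {m n : ℕ} (H : Hyp G m n) (χ ψ₀ : IrrCharacter G)
    (hχ : deg χ = m) (hψ₀ : deg ψ₀ = n)
    (hB : ∀ ψ : IrrCharacter G, deg ψ = n → mult ((χ : G → ℂ) * (cj χ : G → ℂ)) ψ = 0)
    (hfaith : ∀ g : G, (χ : G → ℂ) g = (χ : G → ℂ) 1 → g = 1) : False := by
  classical
  have hm0 : m ≠ 0 := by have := H.hm; omega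
  have hn0 : n ≠ 0 := by have := H.hm; have := H.hmn; omega
  -- `Ξ` vanishes off the identity
  have hvan : ∀ g : G, g ≠ 1 → Xi n g = 0 := by
    intro g hg
    have h1 := mul_Xi H χ hχ hB g
    have h2 : ((χ : G → ℂ) g - (m : ℂ)) * Xi n g = 0 := by rw [sub_mul, h1, sub_self]
    rcases mul_eq_zero.mp h2 with h | h
    · exfalso
      apply hg
      apply hfaith
      rw [deg_spec, hχ]
      exact sub_eq_zero.mp h
    · exact h
  -- `Ξ(1)` is a positive natural number
  have hXi1 : ∃ k : ℕ, 0 < k ∧ Xi n (1 : G) = k := by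
    refine ⟨∑ φ : IrrCharacter G, (if deg φ = n then 0 else deg φ * deg φ), ?_, ?_⟩
    · have hmem : χ ∈ (Finset.univ : Finset (IrrCharacter G)) := Finset.mem_univ χ
      have hle : (if deg χ = n then 0 else deg χ * deg χ)
          ≤ ∑ φ : IrrCharacter G, (if deg φ = n then 0 else deg φ * deg φ) :=
        Finset.single_le_sum
          (f := fun φ : IrrCharacter G => (if deg φ = n then 0 else deg φ * deg φ))
          (fun φ _ => Nat.zero_le _) hmem
      have hne : ¬ deg χ = n := by rw [hχ]; exact H.hmn.ne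
      rw [if_neg hne, hχ] at hle
      have : 0 < m * m := Nat.mul_pos (by omega) (by omega)
      omega
    · unfold Xi
      push_cast
      apply Finset.sum_congr rfl
      intro φ _
      by_cases hφ : deg φ = n
      · simp [hφ]
      · simp [hφ, deg_spec]
  obtain ⟨k, hk0, hk⟩ := hXi1
  -- inner product of `Ξ` with `ψ₀` in two ways
  have hin1 : ∑ g : G, Xi n g * conj ((ψ₀ : G → ℂ) g) = (k : ℂ) * n := by
    rw [Finset.sum_eq_single 1]
    · rw [hk, deg_spec, hψ₀, Complex.conj_natCast]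
    · intro g _ hg
      rw [hvan g hg, zero_mul]
    · intro h
      exact absurd (Finset.mem_univ _) h
  have hin2 : ∑ g : G, Xi n g * conj ((ψ₀ : G → ℂ) g) = 0 := by
    unfold Xi
    simp_rw [Finset.sum_mul]
    rw [Finset.sum_comm]
    apply Finset.sum_eq_zero
    intro φ _
    by_cases hφ : deg φ = n
    · simp [hφ]
    · simp only [if_neg hφ]
      have h0 := classInner_eq_zero_of_deg_ne φ ψ₀ (by rw [hψ₀]; exact hφ)
      rw [classInner_apply] at h0
      have hG : (Nat.card G : ℂ)⁻¹ ≠ 0 := inv_ne_zero (card_ne_zero_complex G)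
      have h1 := (mul_eq_zero.mp h0).resolve_left hG
      simp_rw [mul_assoc]
      rw [← Finset.mul_sum, h1, mul_zero]
  rw [hin1] at hin2
  have : (k * n : ℕ) = 0 := by exact_mod_cast hin2
  rcases Nat.mul_eq_zero.mp this with h | h
  · omega
  · exact hn0 h

end Cfsg.Agent.Lib.Helper7.ThreeDeg
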