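import Mathlib
import Cfsg.Prelude.Def_Characters
import Cfsg.Agent.Lib.Helper7.ThreeDegC
import Cfsg.Agent.Lib.helper3.CExt5
import Cfsg.Agent.Lib.helper3.TwoDeg4

set_option autoImplicit false
set_option linter.style.haveILetI false
set_option linter.unusedSectionVars false

/-!
# Three coprime character degrees, part D: the case where `χ χ̄` has a constituent of the larger
degree, and the conclusion: some nonlinear irreducible character is not faithful
-/

namespace Cfsg.Agent.Lib.Helper7.ThreeDeg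

open Cfsg Cfsg.Agent.Lib.helper3.Irr Cfsg.Agent.Lib.helper3.IndFun
open Cfsg.Agent.Lib.helper3.CharBasic Cfsg.Agent.Lib.helper3.Central
open scoped ComplexConjugate

variable {G : Type*} [Group G] [Fintype G]

theorem lin_mul (lam : IrrCharacter G) (h : deg lam = 1) (a b : G) :
    (lam : G → ℂ) (a * b) = (lam : G → ℂ) a * (lam : G → ℂ) b :=
  Cfsg.Agent.Lib.helper3.Lin.map_mul_of_apply_one_eq_one (isChar lam)
    (by rw [deg_spec, h, Nat.cast_one]) a b

theorem lin_one (lam : IrrCharacter G) (h : deg lam = 1) : (lam : G → ℂ) 1 = 1 := by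
  rw [deg_spec, h, Nat.cast_one]

/-- The intersection of the kernels of the linear characters. -/
def linKer (G : Type*) [Group G] [Fintype G] : Subgroup G where
  carrier := {g | ∀ lam : IrrCharacter G, deg lam = 1 → (lam : G → ℂ) g = 1}
  one_mem' := fun lam h => lin_one lam h
  mul_mem' := fun {a b} ha hb lam h => by rw [lin_mul lam h, ha lam h, hb lam h, one_mul]
  inv_mem' := fun {a} ha lam h => by
    have h1 := lin_mul lam h a⁻¹ a
    rw [inv_mul_cancel, lin_one lam h, ha lam h, mul_one] at h1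
    exact h1.symm

theorem mem_linKer (g : G) :
    g ∈ linKer G ↔ ∀ lam : IrrCharacter G, deg lam = 1 → (lam : G → ℂ) g = 1 := Iff.rfl

instance linKer_normal : (linKer G).Normal :=
  ⟨fun a ha g lam h => by
    rw [isClassFunction_of_isCharacter (isChar lam) a g]
    exact ha lam h⟩

theorem commutator_mem_linKer (a b : G) : a * b * a⁻¹ * b⁻¹ ∈ linKer G := by
  intro lam h
  have h1 : (lam : G → ℂ) a * (lam : G → ℂ) a⁻¹ = 1 := by
    rw [← lin_mul lam h, mul_inv_cancel, lin_one lam h]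
  have h2 : (lam : G → ℂ) b * (lam : G → ℂ) b⁻¹ = 1 := by
    rw [← lin_mul lam h, mul_inv_cancel, lin_one lam h]
  rw [lin_mul lam h, lin_mul lam h, lin_mul lam h]
  calc (lam : G → ℂ) a * (lam : G → ℂ) b * (lam : G → ℂ) a⁻¹ * (lam : G → ℂ) b⁻¹
      = ((lam : G → ℂ) a * (lam : G → ℂ) a⁻¹) * ((lam : G → ℂ) b * (lam : G → ℂ) b⁻¹) := by ring
    _ = 1 := by rw [h1, h2, mul_one]

/-- **Case 2**: if `χ χ̄` has a constituent `ψ` of degree `n`, then `χ` or `ψ` is not faithful. -/
theorem not_faithful_of_big {m n : ℕ} (H : Hyp G m n) (χ ψ : IrrCharacter G)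
    (hχ : deg χ = m) (hψ : deg ψ = n)
    (hne : mult ((χ : G → ℂ) * (cj χ : G → ℂ)) ψ ≠ 0)
    (hfχ : ∀ g : G, (χ : G → ℂ) g = (χ : G → ℂ) 1 → g = 1)
    (hfψ : ∀ g : G, (ψ : G → ℂ) g = (ψ : G → ℂ) 1 → g = 1) : False := by
  classical
  have hmn : m ≠ n := H.hmn.ne
  have hχ' : deg (cj χ) = m := by rw [deg_cj, hχ]
  -- `χ` is a constituent of `χ ψ`
  have h1 : mult ((χ : G → ℂ) * (ψ : G → ℂ)) χ ≠ 0 := by
    have := mult_swap (cj χ) χ ψ
    rw [cj_cj, mul_comm] at this
    rwa [← this]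
  -- no linear constituents
  have hL : ∀ lam : IrrCharacter G, deg lam = 1 → mult ((χ : G → ℂ) * (ψ : G → ℂ)) lam = 0 := by
    intro lam hlam
    rw [mult_swap]
    exact mult_linear_mul (cj χ) lam ψ hlam (by rw [hχ', hψ]; exact hmn.symm)
  have hsum := degree_formula (isChar_mul χ ψ) (mul_apply_one χ ψ)
  rw [hχ, hψ] at hsum
  obtain ⟨hzero, htot⟩ := count_mn (fun φ => mult ((χ : G → ℂ) * (ψ : G → ℂ)) φ) deg m n H.hm
    H.hmn H.hcop H.hcd hsum hL ⟨χ, hχ, h1⟩
  -- every constituent is a linear multiple of `χ`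
  have hform : ∀ φ : IrrCharacter G, mult ((χ : G → ℂ) * (ψ : G → ℂ)) φ ≠ 0 →
      ∃ lam : IrrCharacter G, ∃ h : deg lam = 1, φ = tw lam χ h := by
    intro φ hφ
    have hdeg : deg φ = m := by
      rcases H.hcd φ with h | h | h
      · exact absurd (hL φ h) hφ
      · exact h
      · exact absurd (hzero φ h) hφ
    rw [mult_swap] at hφ
    rcases dichotomy H (cj χ) φ hχ' hdeg with ⟨lam, hlam, h⟩ | h
    · rw [cj_cj] at h
      exact ⟨lam, hlam, h⟩
    · exact absurd (h ψ (by rw [hψ]; exact hmn.symm)) hφ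
  -- on the intersection of the kernels of the linear characters
  have hD : ∀ g : G, g ∈ linKer G → (χ : G → ℂ) g * (ψ : G → ℂ) g = (n : ℂ) * (χ : G → ℂ) g := by
    intro g hg
    have h2 := eq_sum_mult (isChar_mul χ ψ) g
    rw [Pi.mul_apply] at h2
    rw [h2]
    have h3 : ∀ φ : IrrCharacter G,
        (mult ((χ : G → ℂ) * (ψ : G → ℂ)) φ : ℂ) * (φ : G → ℂ) g
          = (mult ((χ : G → ℂ) * (ψ : G → ℂ)) φ : ℂ) * (χ : G → ℂ) g := by
      intro φ
      by_cases hφ : mult ((χ : G → ℂ) * (ψ : G → ℂ)) φ = 0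
      · rw [hφ, Nat.cast_zero, zero_mul, zero_mul]
      · obtain ⟨lam, hlam, rfl⟩ := hform φ hφ
        rw [tw_apply, hg lam hlam, one_mul]
    rw [Finset.sum_congr rfl (fun φ _ => h3 φ), ← Finset.sum_mul, ← Nat.cast_sum, htot]
  have hvan : ∀ g : G, g ∈ linKer G → g ≠ 1 → (χ : G → ℂ) g = 0 := by
    intro g hg hg1
    have h2 := hD g hg
    have h3 : (χ : G → ℂ) g * ((ψ : G → ℂ) g - (n : ℂ)) = 0 := by
      rw [mul_sub, h2]; ring
    rcases mul_eq_zero.mp h3 with h | h
    · exact h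
    · exfalso
      apply hg1
      apply hfψ
      rw [deg_spec, hψ]
      exact sub_eq_zero.mp h
  -- the trivial character of `linKer G` is a constituent of the restriction of `χ`
  letI : Fintype (linKer G) := Fintype.ofFinite _
  have hin : classInner (fun d : linKer G => (χ : G → ℂ) d) (fun _ => 1) ≠ 0 := by
    rw [classInner_apply]
    have hs : ∑ d : linKer G, (χ : G → ℂ) d * conj ((fun _ : linKer G => (1 : ℂ)) d) = (m : ℂ) := by
      rw [Finset.sum_eq_single (1 : linKer G)]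
      · simp only [Subgroup.coe_one, map_one, mul_one]
        rw [deg_spec, hχ]
      · intro d _ hd
        have hd' : (d : G) ≠ 1 := fun h => hd (Subtype.ext h)
        rw [hvan d d.2 hd', zero_mul]
      · intro h
        exact absurd (Finset.mem_univ _) h
    rw [hs]
    have hG : (Nat.card (linKer G) : ℂ)⁻¹ ≠ 0 := inv_ne_zero (card_ne_zero_complex _)
    have hm0 : (m : ℂ) ≠ 0 := by
      have := H.hm
      exact_mod_cast (show m ≠ 0 by omega)
    exact mul_ne_zero hG hm0
  have hker := Cfsg.Agent.Lib.helper3.CExt.apply_eq_apply_one_of_trivial_constituent'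
    (linKer G) χ.2 hin
  -- hence `linKer G` is trivial and `G` is abelian
  have hcomm : ∀ a b : G, a * b = b * a := by
    intro a b
    have h2 : a * b * a⁻¹ * b⁻¹ = 1 := hfχ _ (hker ⟨_, commutator_mem_linKer a b⟩)
    calc a * b = (a * b * a⁻¹ * b⁻¹) * (b * a) := by group
      _ = b * a := by rw [h2, one_mul]
  have h3 := Cfsg.Agent.Lib.helper3.TwoDeg.apply_one_eq_one_of_comm hcomm χ
  rw [deg_spec, hχ] at h3
  have : m = 1 := by exact_mod_cast h3
  have := H.hm
  omega

/-- **Three coprime degrees.** If the irreducible character degrees of `G` are `1 < m < n` with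
`m, n` coprime (both occurring), some nonlinear irreducible character of `G` is not faithful. -/
theorem exists_nonfaithful {m n : ℕ} (H : Hyp G m n) (hm : ∃ χ : IrrCharacter G, deg χ = m)
    (hn : ∃ ψ : IrrCharacter G, deg ψ = n) :
    ∃ φ : IrrCharacter G, deg φ ≠ 1 ∧ ∃ g : G, g ≠ 1 ∧ (φ : G → ℂ) g = (φ : G → ℂ) 1 := by
  by_contra hcon
  push Not at hcon
  obtain ⟨χ, hχ⟩ := hm
  obtain ⟨ψ₀, hψ₀⟩ := hn
  have hm1 : m ≠ 1 := by have := H.hm; omega
  have hn1 : n ≠ 1 := by have := H.hm; have := H.hmn; omega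
  have hf : ∀ φ : IrrCharacter G, deg φ ≠ 1 →
      ∀ g : G, (φ : G → ℂ) g = (φ : G → ℂ) 1 → g = 1 := by
    intro φ hφ g hg
    by_contra hg1
    exact hcon φ hφ g hg1 hg
  by_cases hB : ∀ ψ : IrrCharacter G, deg ψ = n → mult ((χ : G → ℂ) * (cj χ : G → ℂ)) ψ = 0
  · exact not_faithful_of_no_big H χ ψ₀ hχ hψ₀ hB (hf χ (by rw [hχ]; exact hm1))
  · push Not at hB
    obtain ⟨ψ, hψ, hne⟩ := hB
    exact not_faithful_of_big H χ ψ hχ hψ hne (hf χ (by rw [hχ]; exact hm1))
      (hf ψ (by rw [hψ]; exact hn1))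

end Cfsg.Agent.Lib.Helper7.ThreeDeg
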