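import Mathlib
import Cfsg.Prelude.Def_Characters
import Cfsg.Agent.Lib.Helper7.ThreeDegD
import Cfsg.Agent.Lib.Helper7.Blich7
import Cfsg.Agent.Lib.helper3.TwoDeg5
import Cfsg.Agent.Lib.helper3.Burnside
import Cfsg.Agent.Lib.helper3.PDeg5
import Cfsg.Agent.Lib.helper3.Det
import Cfsg.Agent.Lib.helper3.GlCyc3
import Cfsg.Agent.Lib.helper3.ClassBound

set_option autoImplicit false
set_option linter.style.haveILetI false
set_option linter.unusedSectionVars false

/-!
# Prime character degrees, part A: simple groups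
-/

namespace Cfsg.Agent.Lib.Helper7.PrimeDeg

open Cfsg Module Cfsg.Agent.Lib.helper3.Irr Cfsg.Agent.Lib.helper3.IndFun
open Cfsg.Agent.Lib.helper3.CharBasic Cfsg.Agent.Lib.helper3.Central
open Cfsg.Agent.Lib.Helper7.ThreeDeg
open scoped ComplexConjugate

variable {G : Type*} [Group G] [Fintype G]

/-- A constant irreducible character has degree `1`. -/
theorem deg_eq_one_of_const (χ : IrrCharacter G)
    (h : ∀ g : G, (χ : G → ℂ) g = (χ : G → ℂ) 1) : deg χ = 1 := by
  have hnorm1 := irr_classInner_self χ.2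
  rw [classInner_apply] at hnorm1
  have hval : ∀ x : G, (χ : G → ℂ) x = (deg χ : ℂ) := fun x => by rw [h x, deg_spec]
  simp only [hval, Complex.conj_natCast, Finset.sum_const, Finset.card_univ, nsmul_eq_mul]
    at hnorm1
  rw [← Nat.card_eq_fintype_card] at hnorm1
  have hG : (Nat.card G : ℂ) ≠ 0 := card_ne_zero_complex G
  have hn2 : ((deg χ * deg χ : ℕ) : ℂ) = 1 := by
    push_cast
    field_simp at hnorm1
    linear_combination hnorm1
  have hn3 : deg χ * deg χ = 1 := by exact_mod_cast hn2
  exact Nat.eq_one_of_mul_eq_one_left hn3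

/-- In a simple group every nonlinear irreducible character is faithful. -/
theorem faithful_of_simple [IsSimpleGroup G] (χ : IrrCharacter G) (h1 : deg χ ≠ 1) :
    ∀ g : G, (χ : G → ℂ) g = (χ : G → ℂ) 1 → g = 1 := by
  intro g hg
  have hc := isChar χ
  have hmem : g ∈ Cfsg.Agent.Lib.helper3.PDeg.kerSub hc :=
    (Cfsg.Agent.Lib.helper3.PDeg.mem_kerSub hc g).mpr hg
  rcases (Cfsg.Agent.Lib.helper3.PDeg.kerSub_normal hc).eq_bot_or_eq_top with hk | hk
  · rw [hk, Subgroup.mem_bot] at hmem
    exact hmem
  · exfalso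
    apply h1
    apply deg_eq_one_of_const
    intro x
    have : x ∈ Cfsg.Agent.Lib.helper3.PDeg.kerSub hc := by rw [hk]; trivial
    exact (Cfsg.Agent.Lib.helper3.PDeg.mem_kerSub hc x).mp this

/-- The centre of a nonabelian simple group is trivial. -/
theorem center_eq_bot [IsSimpleGroup G] (hnc : ¬ ∀ a b : G, a * b = b * a) :
    Subgroup.center G = ⊥ := by
  rcases (Subgroup.center G).normal_of_characteristic.eq_bot_or_eq_top with h | h
  · exact h
  · exfalso
    apply hnc
    intro a b
    have : b ∈ Subgroup.center G := by rw [h]; trivial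
    exact (Subgroup.mem_center_iff.mp this a)

/-- A nonabelian simple group is perfect. -/
theorem commutator_eq_top [IsSimpleGroup G] (hnc : ¬ ∀ a b : G, a * b = b * a) :
    commutator G = ⊤ := by
  have hn : (commutator G).Normal := by
    rw [commutator_def]
    infer_instance
  rcases hn.eq_bot_or_eq_top with h | h
  · exfalso
    apply hnc
    intro a b
    have h1 : a * b * a⁻¹ * b⁻¹ ∈ commutator G := by
      rw [commutator_def, ← commutatorElement_def]
      exact Subgroup.commutator_mem_commutator (Subgroup.mem_top a) (Subgroup.mem_top b)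
    rw [h, Subgroup.mem_bot] at h1
    calc a * b = (a * b * a⁻¹ * b⁻¹) * (b * a) := by group
      _ = b * a := by rw [h1, one_mul]
  · exact h

/-- If `ρ g` is a scalar and the character of `ρ` is faithful, then `g` is central. -/
theorem mem_center_of_scalar {m : ℕ} (ρ : Representation ℂ G (Fin m → ℂ))
    (hfaith : ∀ g : G, ρ.character g = ρ.character 1 → g = 1) (g : G) (ω : ℂ)
    (hω : ρ g = ω • (LinearMap.id : (Fin m → ℂ) →ₗ[ℂ] (Fin m → ℂ))) :
    g ∈ Subgroup.center G := by
  rw [Subgroup.mem_center_iff]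
  intro y
  have h1 : ρ (y * g) = ρ (g * y) := by
    rw [map_mul, map_mul, hω]
    ext v
    simp
  have h2 : ρ ((y * g) * (g * y)⁻¹) = 1 := by
    rw [map_mul, h1, ← map_mul, mul_inv_cancel, map_one]
  have h3 : (y * g) * (g * y)⁻¹ = 1 := by
    apply hfaith
    unfold Representation.character
    rw [h2, ← map_one ρ]
  exact mul_inv_eq_one.mp h3

/-- Burnside's vanishing lemma in a nonabelian simple group: a nonlinear irreducible character
vanishes at nontrivial elements whose class size is prime to its degree. -/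
theorem vanish_of_coprime [IsSimpleGroup G] (hnc : ¬ ∀ a b : G, a * b = b * a)
    (g : G) (hg : g ≠ 1) (χ : IrrCharacter G) (h1 : deg χ ≠ 1)
    (hcop : Nat.Coprime (deg χ) (Subgroup.centralizer ({g} : Set G)).index) :
    (χ : G → ℂ) g = 0 := by
  classical
  have hfaith := faithful_of_simple χ h1
  obtain ⟨m, ρ, hirr, hρ⟩ := χ.2
  haveI := hirr
  have hmn : finrank ℂ (Fin m → ℂ) = deg χ := by
    have := Representation.char_one ρ
    rw [hρ, deg_spec] at this
    exact_mod_cast this.symm
  rw [← hmn] at hcop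
  rcases Cfsg.Agent.Lib.helper3.Central.character_eq_zero_or_norm_eq_of_coprime ρ g hcop with
    h0 | hnorm
  · rw [← hρ]; exact h0
  · exfalso
    obtain ⟨ω, hω⟩ := (norm_character_eq_finrank_iff ρ g).mp hnorm
    have hcen := mem_center_of_scalar ρ (by rw [hρ]; exact hfaith) g ω hω
    rw [center_eq_bot hnc, Subgroup.mem_bot] at hcen
    exact hg hcen

/-- A nonabelian simple group has no irreducible character of degree `2`. -/
theorem no_degree_two [IsSimpleGroup G] (hnc : ¬ ∀ a b : G, a * b = b * a)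
    (χ : IrrCharacter G) : deg χ ≠ 2 := by
  classical
  intro h2
  have hfaith := faithful_of_simple χ (by rw [h2]; norm_num)
  obtain ⟨n, hn1, hndvd, -⟩ := Cfsg.Agent.Lib.helper3.Central.irr_degree_dvd_card χ.2
  have hn2 : n = 2 := by
    rw [deg_spec, h2] at hn1
    exact_mod_cast hn1.symm
  rw [hn2] at hndvd
  obtain ⟨m, ρ, hirr, hρ⟩ := χ.2
  haveI := hirr
  have hmn : finrank ℂ (Fin m → ℂ) = 2 := by
    have := Representation.char_one ρ
    rw [hρ, deg_spec, h2] at this
    exact_mod_cast this.symm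
  haveI : Fact (Nat.Prime 2) := ⟨Nat.prime_two⟩
  obtain ⟨t, ht⟩ := exists_prime_orderOf_dvd_card' 2 hndvd
  obtain ⟨I, _, v, μ, hf, hμ⟩ := exists_eigenbasis ρ t
  rw [ht] at hμ
  have hcardI : Fintype.card I = 2 := by
    rw [← hmn]
    exact (finrank_eq_card_basis v).symm
  have hperf := commutator_eq_top hnc
  have hdet : ∏ i, μ i = 1 := by
    rw [← Cfsg.Agent.Lib.helper3.GlCyc.det_eq_prod_of_eigenbasis v μ (ρ t) hf]
    have hker : commutator G ≤ (Cfsg.Agent.Lib.helper3.Det.detHom ρ).ker :=
      Abelianization.commutator_subset_ker _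
    have hxk : t ∈ (Cfsg.Agent.Lib.helper3.Det.detHom ρ).ker :=
      hker (by rw [hperf]; exact Subgroup.mem_top t)
    have h2 := Cfsg.Agent.Lib.helper3.Det.detHom_apply ρ t
    rw [MonoidHom.mem_ker] at hxk
    rw [hxk] at h2
    rw [← h2]
    rfl
  have hcu : (Finset.univ : Finset I).card = 2 := by rw [Finset.card_univ]; exact hcardI
  obtain ⟨a, b, hab, huniv⟩ := Finset.card_eq_two.mp hcu
  rw [huniv, Finset.prod_pair hab] at hdet
  have hμab : μ b = μ a := by
    calc μ b = μ b * (μ a ^ 2) := by rw [hμ a, mul_one]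
      _ = (μ a * μ b) * μ a := by ring
      _ = μ a := by rw [hdet, one_mul]
  have hscalar : ρ t = μ a • (LinearMap.id : (Fin m → ℂ) →ₗ[ℂ] (Fin m → ℂ)) := by
    apply v.ext
    intro i
    have hi : i = a ∨ i = b := by
      have := Finset.mem_univ i
      rw [huniv] at this
      simpa using this
    rcases hi with rfl | rfl
    · rw [hf]; simp
    · rw [hf, hμab]; simp
  have hcen := mem_center_of_scalar ρ (by rw [hρ]; exact hfaith) t (μ a) hscalar
  rw [center_eq_bot hnc, Subgroup.mem_bot] at hcen
  rw [hcen, orderOf_one] at ht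
  omega

end Cfsg.Agent.Lib.Helper7.PrimeDeg
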