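import Mathlib
import Cfsg.Prelude.Def_Characters
import Cfsg.Agent.Lib.Helper7.PrimeDegA

set_option autoImplicit false
set_option linter.style.haveILetI false
set_option linter.unusedSectionVars false

/-!
# Prime character degrees, part B: a nonabelian simple group has a composite character degree
-/

namespace Cfsg.Agent.Lib.Helper7.PrimeDeg

open Cfsg Module Cfsg.Agent.Lib.helper3.Irr Cfsg.Agent.Lib.helper3.IndFun
open Cfsg.Agent.Lib.helper3.CharBasic Cfsg.Agent.Lib.helper3.Central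
open Cfsg.Agent.Lib.Helper7.ThreeDeg
open scoped ComplexConjugate

variable {G : Type*} [Group G] [Fintype G]

/-- Three distinct prime degrees `p < q`, `p < r`, `q ≠ r` with `p` odd cannot occur in a nonabelian
simple group (Blichfeldt plus Burnside's vanishing lemma). -/
theorem three_primes_false [IsSimpleGroup G] (hnc : ¬ ∀ a b : G, a * b = b * a)
    (χ ψ β : IrrCharacter G) (p q r : ℕ) (hp : p.Prime) (hq : q.Prime) (hr : r.Prime)
    (hχ : deg χ = p) (hψ : deg ψ = q) (hβ : deg β = r) (hp2 : p ≠ 2) (hpq : p < q) (hpr : p < r)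
    (hqr : q ≠ r) : False := by
  classical
  have hq1 : p + 1 < q := by
    rcases hp.eq_two_or_odd' with h | ⟨k, hk⟩
    · exact absurd h hp2
    · rcases hq.eq_two_or_odd' with h | ⟨l, hl⟩
      · have := hp.two_le
        omega
      · omega
  have hr1 : p + 1 < r := by
    rcases hp.eq_two_or_odd' with h | ⟨k, hk⟩
    · exact absurd h hp2
    · rcases hr.eq_two_or_odd' with h | ⟨l, hl⟩
      · have := hp.two_le
        omega
      · omega
  have hχ1 : deg χ ≠ 1 := by rw [hχ]; exact hp.one_lt.ne'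
  have hψ1 : deg ψ ≠ 1 := by rw [hψ]; exact hq.one_lt.ne'
  obtain ⟨A, hAab, -, hAidx⟩ := Cfsg.Agent.Lib.Helper7.Blich.blichfeldt (χ : G → ℂ) (isChar χ)
    (faithful_of_simple χ hχ1) p (by rw [deg_spec, hχ])
  have hqA : ¬ q ∣ A.index := fun h => by have := hAidx q hq h; omega
  have hrA : ¬ r ∣ A.index := fun h => by have := hAidx r hr h; omega
  -- `r` divides the order of `A`
  obtain ⟨n, hn1, hndvd, -⟩ := Cfsg.Agent.Lib.helper3.Central.irr_degree_dvd_card β.2
  have hnr : n = r := by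
    rw [deg_spec, hβ] at hn1
    exact_mod_cast hn1.symm
  rw [hnr] at hndvd
  have hrcard : r ∣ Nat.card A := by
    rw [← A.card_mul_index] at hndvd
    rcases (Nat.Prime.dvd_mul hr).mp hndvd with h | h
    · exact h
    · exact absurd h hrA
  haveI : Fact r.Prime := ⟨hr⟩
  obtain ⟨y, hy⟩ := exists_prime_orderOf_dvd_card' r hrcard
  have hy' : orderOf (y : G) = r := by rw [Subgroup.orderOf_coe]; exact hy
  -- `ψ` vanishes at the nontrivial powers of `y`
  have hvan : ∀ j ∈ Finset.range r, j ≠ 0 → (ψ : G → ℂ) ((y : G) ^ j) = 0 := by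
    intro j hj hj0
    have hjr : j < r := Finset.mem_range.mp hj
    have hne : (y : G) ^ j ≠ 1 := by
      intro h
      have := orderOf_dvd_of_pow_eq_one h
      rw [hy'] at this
      have := Nat.le_of_dvd (Nat.pos_of_ne_zero hj0) this
      omega
    have hle : A ≤ Subgroup.centralizer ({(y : G) ^ j} : Set G) := by
      intro a ha
      rw [Subgroup.mem_centralizer_iff]
      intro z hz
      rw [Set.mem_singleton_iff] at hz
      rw [hz]
      exact hAab _ (A.pow_mem y.2 j) a ha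
    have hdvd : (Subgroup.centralizer ({(y : G) ^ j} : Set G)).index ∣ A.index :=
      Subgroup.index_dvd_of_le hle
    apply vanish_of_coprime hnc _ hne ψ hψ1
    rw [hψ]
    apply (Nat.Prime.coprime_iff_not_dvd hq).mpr
    intro h
    exact hqA (h.trans hdvd)
  obtain ⟨c, hc⟩ := Cfsg.Agent.Lib.Helper7.Blich.exists_nat_twisted_sum (isChar ψ) (y : G) hy' 1
    (one_pow r)
  rw [Finset.sum_eq_single 0] at hc
  · rw [pow_zero, pow_zero, one_mul, deg_spec, hψ] at hc
    have hqc : q = r * c := by exact_mod_cast hc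
    have : r ∣ q := ⟨c, hqc⟩
    exact hqr ((Nat.prime_dvd_prime_iff_eq hr hq).mp this).symm
  · intro j hj hj0
    rw [hvan j hj hj0, mul_zero]
  · intro h
    exact absurd (Finset.mem_range.mpr hr.pos) h

/-- A nonabelian simple group has an irreducible character whose degree is neither `1` nor a
prime. -/
theorem simple_case [IsSimpleGroup G] (hnc : ¬ ∀ a b : G, a * b = b * a)
    (h : ∀ χ : IrrCharacter G, deg χ ≠ 1 → (deg χ).Prime) : False := by
  classical
  -- a nonlinear character exists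
  have hex : ∃ d : ℕ, ∃ χ : IrrCharacter G, deg χ = d ∧ d ≠ 1 := by
    by_contra hcon
    push Not at hcon
    apply hnc
    apply Cfsg.Agent.Lib.helper3.Irr.comm_of_all_linear
    intro φ
    rw [deg_spec, hcon (deg φ) φ rfl, Nat.cast_one]
  obtain ⟨p, hpdef⟩ : ∃ p : ℕ, p = Nat.find hex := ⟨_, rfl⟩
  obtain ⟨χ, hχ, hp1⟩ : ∃ χ : IrrCharacter G, deg χ = p ∧ p ≠ 1 := by
    rw [hpdef]; exact Nat.find_spec hex
  have hpmin : ∀ φ : IrrCharacter G, deg φ ≠ 1 → p ≤ deg φ := by
    intro φ hφ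
    rw [hpdef]
    exact Nat.find_min' hex ⟨φ, rfl, hφ⟩
  have hp : p.Prime := by rw [← hχ]; exact h χ (by rw [hχ]; exact hp1)
  by_cases hA : ∀ φ : IrrCharacter G, deg φ = 1 ∨ deg φ = p
  · -- two degrees
    have hcomm := Cfsg.Agent.Lib.helper3.TwoDeg.commutator_comm p
      (fun φ => by
        rcases hA φ with h1 | h1
        · left; rw [deg_spec, h1, Nat.cast_one]
        · right; rw [deg_spec, h1])
      ⟨χ, by rw [deg_spec, hχ]⟩ hp1
    apply hnc
    intro a b
    have hperf := commutator_eq_top hnc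
    exact hcomm a (by rw [hperf]; trivial) b (by rw [hperf]; trivial)
  push Not at hA
  obtain ⟨ψ, hψ1, hψp⟩ := hA
  obtain ⟨q, hψ⟩ : ∃ q : ℕ, deg ψ = q := ⟨_, rfl⟩
  have hq : q.Prime := by rw [← hψ]; exact h ψ hψ1
  have hpq : p < q := by
    have := hpmin ψ hψ1
    rw [hψ] at this hψp
    omega
  by_cases hB : ∀ φ : IrrCharacter G, deg φ = 1 ∨ deg φ = p ∨ deg φ = q
  · -- three coprime degrees
    have H : Hyp G p q :=
      ⟨hp.one_lt, hpq, (Nat.coprime_primes hp hq).mpr hpq.ne, hB⟩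
    obtain ⟨φ, hφ1, g, hg1, hg⟩ := exists_nonfaithful H ⟨χ, hχ⟩ ⟨ψ, hψ⟩
    exact hg1 (faithful_of_simple φ hφ1 g hg)
  push Not at hB
  obtain ⟨β, hβ1, hβp, hβq⟩ := hB
  obtain ⟨r, hβ⟩ : ∃ r : ℕ, deg β = r := ⟨_, rfl⟩
  have hr : r.Prime := by rw [← hβ]; exact h β hβ1
  have hpr : p < r := by
    have := hpmin β hβ1
    rw [hβ] at this hβp
    omega
  have hp2 : p ≠ 2 := by
    rw [← hχ]
    exact no_degree_two hnc χ
  exact three_primes_false hnc χ ψ β p q r hp hq hr hχ hψ hβ hp2 hpq hpr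
    (by rw [hβ] at hβq; exact fun h => hβq h.symm)

end Cfsg.Agent.Lib.Helper7.PrimeDeg
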