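import Mathlib
import Cfsg.Prelude.Def_Characters
import Cfsg.Prelude.Def_Blocks
import Cfsg.Agent.Lib.Helper7.PrimeDegB
import Cfsg.Agent.Lib.helper3.Clifford2
import Cfsg.Agent.Lib.helper3.Inflate

set_option autoImplicit false
set_option linter.style.haveILetI false
set_option linter.unusedSectionVars false

/-!
# Prime character degrees, part C: the Isaacs–Passman solvability theorem
-/

namespace Cfsg.Agent.Lib.Helper7.PrimeDeg

open Cfsg Module Cfsg.Agent.Lib.helper3.Irr Cfsg.Agent.Lib.helper3.IndFun
open Cfsg.Agent.Lib.helper3.CharBasic Cfsg.Agent.Lib.helper3.Central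
open Cfsg.Agent.Lib.Helper7.ThreeDeg
open scoped ComplexConjugate

universe u

/-- The hypothesis: every nonlinear irreducible character has prime degree. -/
def PrimeDegs (G : Type u) [Group G] : Prop :=
  ∀ χ : IrrCharacter G, charDegree (χ : G → ℂ) ≠ 1 → (charDegree (χ : G → ℂ)).Prime

theorem PrimeDegs.subgroup {G : Type u} [Group G] [Finite G] (h : PrimeDegs G) (N : Subgroup G)
    [N.Normal] : PrimeDegs N := by
  classical
  letI : Fintype G := Fintype.ofFinite G
  letI : Fintype N := Fintype.ofFinite N
  intro θ hθ
  obtain ⟨χ, hχ⟩ := exists_irr_over N θ θ.2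
  have hdvd : deg θ ∣ deg χ :=
    constituent_degree_dvd N χ χ.2 θ θ.2 hχ (deg χ) (deg θ) (deg_spec χ) (deg_spec θ)
  change deg θ ≠ 1 at hθ
  change (deg θ).Prime
  have hχ1 : deg χ ≠ 1 := by
    intro h1
    rw [h1] at hdvd
    exact hθ (Nat.dvd_one.mp hdvd)
  have hpr : (deg χ).Prime := h χ hχ1
  rcases (Nat.dvd_prime hpr).mp hdvd with h1 | h1
  · exact absurd h1 hθ
  · rw [h1]; exact hpr

theorem PrimeDegs.quotient {G : Type u} [Group G] [Finite G] (h : PrimeDegs G) (N : Subgroup G)
    [N.Normal] : PrimeDegs (G ⧸ N) := by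
  intro φ hφ
  have heq : charDegree (inflate N (φ : G ⧸ N → ℂ)) = charDegree (φ : G ⧸ N → ℂ) := by
    unfold charDegree
    rw [inflate_apply, QuotientGroup.mk_one]
  have h1 := h ⟨inflate N (φ : G ⧸ N → ℂ), isIrrCharacter_inflate N φ.2⟩
  simp only at h1
  rw [heq] at h1
  exact h1 hφ

theorem solvable_aux : ∀ (n : ℕ) (G : Type u) [Group G] [Finite G], Nat.card G = n →
    PrimeDegs G → Group.IsSolvable G := by
  intro n
  induction n using Nat.strong_induction_on with
  | _ n ih =>
    intro G _ _ hcard h
    classical
    letI : Fintype G := Fintype.ofFinite G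
    by_cases hs : IsSimpleGroup G
    · haveI := hs
      by_cases hc : ∀ a b : G, a * b = b * a
      · exact Group.isSolvable_of_comm hc
      · exact (simple_case hc h).elim
    · by_cases hnt : Nontrivial G
      · have hex : ∃ N : Subgroup G, N.Normal ∧ N ≠ ⊥ ∧ N ≠ ⊤ := by
          by_contra hcon
          push Not at hcon
          apply hs
          refine ⟨fun N hN => ?_⟩
          by_cases hb : N = ⊥
          · left; exact hb
          · right; exact hcon N hN hb
        obtain ⟨N, hN, hNb, hNt⟩ := hex
        haveI := hN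
        have hlt1 : Nat.card N < n := by
          rw [← hcard]
          apply lt_of_le_of_ne (Subgroup.card_le_card_group N)
          intro heq
          exact hNt ((Subgroup.card_eq_iff_eq_top N).mp heq)
        have hlt2 : Nat.card (G ⧸ N) < n := by
          rw [← hcard, ← Subgroup.index_eq_card, ← N.index_mul_card]
          have h1 : 1 < Nat.card N := (Subgroup.one_lt_card_iff_ne_bot N).mpr hNb
          have h2 : 0 < N.index := Nat.pos_of_ne_zero Subgroup.index_ne_zero_of_finite
          nlinarith
        haveI h1 : Group.IsSolvable N := ih (Nat.card N) hlt1 N rfl (h.subgroup N)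
        haveI h2 : Group.IsSolvable (G ⧸ N) := ih (Nat.card (G ⧸ N)) hlt2 (G ⧸ N) rfl (h.quotient N)
        exact Group.isSolvable_of_ker_le_range N.subtype (QuotientGroup.mk' N) (by simp)
      · haveI : Subsingleton G := not_nontrivial_iff_subsingleton.mp hnt
        infer_instance

/-- **Isaacs–Passman.** A finite group all of whose nonlinear irreducible characters have prime
degree is solvable. -/
theorem solvable_of_primeDegs {G : Type u} [Group G] [Finite G] (h : PrimeDegs G) :
    Group.IsSolvable G :=
  solvable_aux (Nat.card G) G rfl h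

end Cfsg.Agent.Lib.Helper7.PrimeDeg
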