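import Mathlib
import Cfsg.Prelude.Def_Characters
import Cfsg.Prelude.Def_CharExt
import Cfsg.Agent.Lib.Helper7.PrimeDegC
import Cfsg.Agent.Lib.helper3.SolvRam
import Cfsg.Agent.Lib.helper3.Det
import Cfsg.Agent.Lib.helper3.Lin
import Cfsg.Agent.Lib.helper3.PDeg5

set_option autoImplicit false
set_option linter.style.haveILetI false
set_option linter.unusedSectionVars false

/-!
# Prime character degrees: at most three degrees, part A (tools)
-/

namespace Cfsg.Agent.Lib.Helper7.CdPrime

open Cfsg Module Cfsg.Agent.Lib.helper3.Irr Cfsg.Agent.Lib.helper3.IndFun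
open Cfsg.Agent.Lib.helper3.CharBasic Cfsg.Agent.Lib.helper3.Central
open Cfsg.Agent.Lib.Helper7.ThreeDeg Cfsg.Agent.Lib.Helper7.PrimeDeg
open scoped ComplexConjugate

universe u

section tools

variable {G : Type u} [Group G] [Fintype G]

/-- A character with an irreducible constituent of the same degree equals it. -/
theorem eq_of_constituent_of_degree_eq {f : G → ℂ} (hf : IsCharacter G f) (ψ : IrrCharacter G)
    (h : classInner f (ψ : G → ℂ) ≠ 0) (h1 : f 1 = (ψ : G → ℂ) 1) : f = (ψ : G → ℂ) := by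
  have hsub := isCharacter_sub_of_classInner_ne_zero hf ψ h
  have h0 : (f - (ψ : G → ℂ)) 1 = 0 := by rw [Pi.sub_apply, h1, sub_self]
  have := Cfsg.Agent.Lib.helper3.PDeg.eq_zero_of_apply_one_eq_zero hsub h0
  exact sub_eq_zero.mp this

/-- Over a normal subgroup of prime index `s`, an irreducible character of prime degree other than
`s` restricts irreducibly. -/
theorem restrict_irr_of_prime_index (M : Subgroup G) [M.Normal] [Fintype M]
    (hsolv : Group.IsSolvable (G ⧸ M)) {s : ℕ} (hsp : s.Prime) (hs : M.index = s)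
    (χ : IrrCharacter G) (hχp : (deg χ).Prime) (hne : deg χ ≠ s) :
    IsIrrCharacter M (fun m : M => (χ : G → ℂ) m) := by
  have hres := isCharacter_restrict (isChar χ) M
  have hne0 : (fun m : M => (χ : G → ℂ) m) ≠ 0 := by
    intro h
    have h1 := congrFun h 1
    simp only [Pi.zero_apply, Subgroup.coe_one] at h1
    rw [deg_spec] at h1
    have := deg_pos χ
    have h2 : deg χ = 0 := by exact_mod_cast h1
    omega
  obtain ⟨θ, hθ⟩ := exists_constituent hres hne0
  have hdvd1 : deg θ ∣ deg χ :=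
    constituent_degree_dvd M χ χ.2 θ θ.2 hθ (deg χ) (deg θ) (deg_spec χ) (deg_spec θ)
  have hdvd2 : deg χ ∣ deg θ * M.index :=
    Cfsg.Agent.Lib.helper3.SolvRam.degree_dvd_aux (Nat.card G) G M rfl hsolv χ θ χ.2 θ.2 hθ
      (deg χ) (deg θ) (deg_spec χ) (deg_spec θ)
  rcases (Nat.dvd_prime hχp).mp hdvd1 with h1 | h1
  · exfalso
    rw [h1, one_mul, hs] at hdvd2
    exact hne ((Nat.prime_dvd_prime_iff_eq hχp hsp).mp hdvd2)
  · have heq := eq_of_constituent_of_degree_eq hres θ hθ (by
      simp only [Subgroup.coe_one]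
      rw [deg_spec, deg_spec, h1])
    rw [heq]
    exact θ.2

end tools

/-- If twisting a character of degree `n` by a linear character `μ` does not change it, then
`μ ^ n = 1`. -/
theorem pow_eq_one_of_twist_eq {M : Type u} [Group M] [Finite M] (μ : M →* ℂˣ) {θ : M → ℂ}
    (hθ : IsCharacter M θ) (n : ℕ) (hn : θ 1 = n)
    (h : (fun m => ((μ m : ℂˣ) : ℂ)) * θ = θ) (m : M) : ((μ m : ℂˣ) : ℂ) ^ n = 1 := by
  obtain ⟨k, ρ, rfl⟩ := hθ
  have hk : finrank ℂ (Fin k → ℂ) = n := by
    have := Representation.char_one ρ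
    rw [hn] at this
    exact_mod_cast this.symm
  have h1 := Cfsg.Agent.Lib.helper3.Det.detChar_twist μ ρ m
  rw [h, hk] at h1
  have h2 : detChar ρ.character m ≠ 0 := by
    rw [Cfsg.Agent.Lib.helper3.Det.detChar_character]
    have h3 : LinearMap.det (ρ m) * LinearMap.det (ρ m⁻¹) = 1 := by
      rw [← map_mul, ← map_mul, mul_inv_cancel, map_one, map_one]
    intro h0
    rw [h0, zero_mul] at h3
    exact zero_ne_one h3
  have h4 : ((μ m : ℂˣ) : ℂ) ^ n * detChar ρ.character m = 1 * detChar ρ.character m := by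
    rw [one_mul]
    exact h1.symm
  exact mul_right_cancel₀ h2 h4

end Cfsg.Agent.Lib.Helper7.CdPrime
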