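import Mathlib
import Cfsg.Prelude.Def_Characters
import Cfsg.Agent.Lib.Helper7.CdPrimeA
import Cfsg.Agent.Lib.helper3.TwoDeg1
import Cfsg.Agent.Lib.helper3.Frob
import Cfsg.Agent.Lib.helper3.Irr12
import Cfsg.Agent.Lib.helper3.Irr15
import Cfsg.Agent.Lib.helper3.AbelianInertia

set_option autoImplicit false
set_option linter.style.haveILetI false
set_option linter.unusedSectionVars false

/-!
# Three character degrees, part B: characters over a Frobenius quotient
(a restricted form of Isaacs, Character Theory, Theorem 12.4)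
-/

namespace Cfsg.Agent.Lib.Helper7.Cd3

open Cfsg Module Cfsg.Agent.Lib.helper3.Irr Cfsg.Agent.Lib.helper3.IndFun
open Cfsg.Agent.Lib.helper3.CharBasic Cfsg.Agent.Lib.helper3.TwoDeg Cfsg.Agent.Lib.helper3.Lin
open Cfsg.Agent.Lib.Helper7.CdPrime
open scoped ComplexConjugate

universe u

variable {G : Type u} [Group G] [Fintype G]

local notation "cjF" => Cfsg.Agent.Lib.helper3.Irr.conjFun

/-- Conjugation by an element of the normal subgroup fixes its class functions. -/
theorem conjFun_of_mem_self (L : Subgroup G) [hL : L.Normal] {f : L → ℂ}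
    (hf : IsClassFunction L f) (l : G) (hl : l ∈ L) : cjF L f l = f := by
  funext x
  unfold Cfsg.Agent.Lib.helper3.Irr.conjFun
  have := hf x ⟨l, hl⟩
  convert this using 2
  apply Subtype.ext
  simp

/-- An irreducible character of a normal subgroup whose inertia group is the subgroup itself
induces irreducibly. -/
theorem isIrr_indFun_of_inertia (L : Subgroup G) [hL : L.Normal] (θ : L → ℂ)
    (hθ : IsIrrCharacter L θ) (h : ∀ g : G, cjF L θ g = θ → g ∈ L) :
    IsIrrCharacter G (indFun L θ) := by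
  classical
  apply isIrrCharacter_of_classInner_self_eq_one
    (isCharacter_indFun L θ (isCharacter_of_isIrrCharacter hθ))
  have h1 := card_mul_classInner_indFun_normal L θ hθ
  have hcf := isClassFunction_of_isCharacter (isCharacter_of_isIrrCharacter hθ)
  have hstab : Nat.card {g : G // ∀ x : L, θ ⟨g * x * g⁻¹, hL.conj_mem x x.2 g⟩ = θ x}
      = Nat.card L := by
    apply Nat.card_congr
    refine ⟨fun g => ⟨g.1, h g.1 (funext g.2)⟩, fun n => ⟨n.1, ?_⟩, ?_, ?_⟩
    · intro x
      exact congrFun (conjFun_of_mem_self L hcf n.1 n.2) x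
    · intro g; rfl
    · intro n; rfl
  rw [hstab] at h1
  exact mul_left_cancel₀ (card_ne_zero_complex L) (by rw [h1, mul_one])

section frob

variable (K : Subgroup G) [hK : K.Normal] (N : Subgroup (G ⧸ K)) [hN : N.Normal]

/-- The projection of the preimage of `N` onto `N`. -/
def proj : ↥(N.comap (QuotientGroup.mk' K)) →* ↥N := (QuotientGroup.mk' K).subgroupComap N

theorem proj_coe (x : ↥(N.comap (QuotientGroup.mk' K))) :
    ((proj K N x : ↥N) : G ⧸ K) = QuotientGroup.mk (x : G) := rfl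

theorem proj_surjective : Function.Surjective (proj K N) :=
  MonoidHom.subgroupComap_surjective_of_surjective _ _ (QuotientGroup.mk'_surjective K)

/-- Pull a function on `N` back to the preimage of `N`. -/
def pull (d : N → ℂ) : ↥(N.comap (QuotientGroup.mk' K)) → ℂ := fun x => d (proj K N x)

theorem pull_isLin {d : N → ℂ} (hd : IsLin N d) : IsLin _ (pull K N d) := hd.comp (proj K N)

theorem pull_apply_of_mem (d : N → ℂ) (hd : d 1 = 1) (x : ↥(N.comap (QuotientGroup.mk' K)))
    (hx : (x : G) ∈ K) : pull K N d x = 1 := by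
  unfold pull
  have : proj K N x = 1 := by
    apply Subtype.ext
    rw [proj_coe]
    exact (QuotientGroup.eq_one_iff _).mpr hx
  rw [this, hd]

theorem conjFun_pull (d : N → ℂ) (g : G) :
    cjF (N.comap (QuotientGroup.mk' K)) (pull K N d) g
      = pull K N (cjF N d (QuotientGroup.mk g)) := by
  funext x
  unfold Cfsg.Agent.Lib.helper3.Irr.conjFun pull
  congr 1

/-- A linear character of `N` times its conjugate is trivial. -/
theorem lin_mul_conj_cancel [Finite (G ⧸ K)] {d : N → ℂ} (hd : IsLin N d) (y : N) :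
    d y * conj (d y) = 1 := hd.mul_conj y

/-- Twisting a character of degree prime to `p` by the pull-backs of linear characters of the
`p`-group `N` is injective. -/
theorem pull_twist_injective (p : ℕ) (hp : p.Prime) (hNp : IsPGroup p N)
    {θ : ↥(N.comap (QuotientGroup.mk' K)) → ℂ} (hθ : IsCharacter _ θ) (n : ℕ) (hn : θ 1 = n)
    (hpn : ¬ p ∣ n) {d₁ d₂ : N → ℂ} (h₁ : IsLin N d₁) (h₂ : IsLin N d₂)
    (h : pull K N d₁ * θ = pull K N d₂ * θ) : d₁ = d₂ := by
  classical
  haveI : Finite (G ⧸ K) := inferInstance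
  set e : N → ℂ := d₁ * (fun y => conj (d₂ y)) with he
  have heL : IsLin N e := h₁.mul h₂.conj
  have hμ : IsLin _ (pull K N e) := pull_isLin K N heL
  have htw : pull K N e * θ = θ := by
    funext x
    have hx := congrFun h x
    simp only [Pi.mul_apply] at hx ⊢
    change d₁ (proj K N x) * conj (d₂ (proj K N x)) * θ x = θ x
    have hx' : d₁ (proj K N x) * θ x = d₂ (proj K N x) * θ x := hx
    calc d₁ (proj K N x) * conj (d₂ (proj K N x)) * θ x
        = conj (d₂ (proj K N x)) * (d₁ (proj K N x) * θ x) := by ring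
      _ = (d₂ (proj K N x) * conj (d₂ (proj K N x))) * θ x := by rw [hx']; ring
      _ = θ x := by rw [h₂.mul_conj, one_mul]
  have hval : ∀ x, pull K N e x = 1 := by
    intro x
    have h1 := pow_eq_one_of_twist_eq (toHom hμ.1 hμ.2).toHomUnits hθ n hn
      (by
        have : (fun m => (((toHom hμ.1 hμ.2).toHomUnits m : ℂˣ) : ℂ)) = pull K N e := by
          funext m
          rw [MonoidHom.coe_toHomUnits, toHom_apply]
        rw [this]
        exact htw) x
    rw [MonoidHom.coe_toHomUnits, toHom_apply] at h1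
    obtain ⟨k, hk⟩ := hNp (proj K N x)
    have h2 : pull K N e x ^ (p ^ k) = 1 := pow_eq_one_of_linear heL.1 heL.2 _ _ hk
    exact eq_one_of_pow_coprime h1 h2
      (Nat.Coprime.pow_right k (Nat.Coprime.symm ((Nat.Prime.coprime_iff_not_dvd hp).mpr hpn)))
  funext y
  obtain ⟨x, rfl⟩ := proj_surjective K N y
  have h3 : d₁ (proj K N x) * conj (d₂ (proj K N x)) = 1 := hval x
  calc d₁ (proj K N x) = d₁ (proj K N x) * (d₂ (proj K N x) * conj (d₂ (proj K N x))) := by
        rw [h₂.mul_conj, mul_one]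
    _ = (d₁ (proj K N x) * conj (d₂ (proj K N x))) * d₂ (proj K N x) := by ring
    _ = d₂ (proj K N x) := by rw [h3, one_mul]

/-- An element outside `N` fixes no nontrivial linear character of `N`. -/
theorem lin_fixed_eq_one
    (hfrob : ∀ g : G ⧸ K, g ∉ N → ∀ x ∈ N, g * x = x * g → x = 1)
    (g : G ⧸ K) (hg : g ∉ N) {e : N → ℂ} (he : IsLin N e) (hfix : cjF N e g = e) :
    e = fun _ => 1 := by
  by_contra hne
  have hC : ∀ n ∈ N, n ≠ 1 → Subgroup.centralizer ({n} : Set (G ⧸ K)) ≤ N := by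
    intro n hn hn1 h hh
    by_contra hhN
    rw [Subgroup.mem_centralizer_singleton_iff] at hh
    exact hn1 (hfrob h hhN n hn hh)
  exact conjFun_ne_of_centralizer_le N hC e he.isIrr hne g hg hfix

/-- An element outside the preimage of `N` fixes at most one of the twists of `ψ`. -/
theorem fixed_unique (p : ℕ) (hp : p.Prime) (hNp : IsPGroup p N)
    (hfrob : ∀ g : G ⧸ K, g ∉ N → ∀ x ∈ N, g * x = x * g → x = 1)
    {ψ : ↥(N.comap (QuotientGroup.mk' K)) → ℂ} (hψ : IsCharacter _ ψ) (n : ℕ) (hn : ψ 1 = n)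
    (hpn : ¬ p ∣ n) (g : G) (hg : g ∉ N.comap (QuotientGroup.mk' K)) {d₁ d₂ : N → ℂ}
    (h₁ : IsLin N d₁) (h₂ : IsLin N d₂)
    (hf₁ : cjF (N.comap (QuotientGroup.mk' K)) (pull K N d₁ * ψ) g = pull K N d₁ * ψ)
    (hf₂ : cjF (N.comap (QuotientGroup.mk' K)) (pull K N d₂ * ψ) g = pull K N d₂ * ψ) :
    d₁ = d₂ := by
  classical
  set e : N → ℂ := d₂ * (fun y => conj (d₁ y)) with he
  have heL : IsLin N e := h₂.mul h₁.conj
  set θ₁ := pull K N d₁ * ψ with hθ₁
  have hθ₁c : IsCharacter _ θ₁ := isCharacter_mul (pull_isLin K N h₁).1 hψ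
  have hθ₁1 : θ₁ 1 = n := by
    rw [hθ₁, Pi.mul_apply, (pull_isLin K N h₁).2, one_mul, hn]
  have hd₂ : pull K N d₂ * ψ = pull K N e * θ₁ := by
    funext x
    change d₂ (proj K N x) * ψ x
      = d₂ (proj K N x) * conj (d₁ (proj K N x)) * (d₁ (proj K N x) * ψ x)
    calc d₂ (proj K N x) * ψ x
        = d₂ (proj K N x) * (d₁ (proj K N x) * conj (d₁ (proj K N x))) * ψ x := by
          rw [h₁.mul_conj, mul_one]
      _ = d₂ (proj K N x) * conj (d₁ (proj K N x)) * (d₁ (proj K N x) * ψ x) := by ring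
  rw [hd₂] at hf₂
  have h3 : cjF (N.comap (QuotientGroup.mk' K)) (pull K N e * θ₁) g
      = pull K N (cjF N e (QuotientGroup.mk g)) * θ₁ := by
    rw [conjFun_mul_fun, conjFun_pull, hf₁]
  rw [h3] at hf₂
  have h4 := pull_twist_injective K N p hp hNp hθ₁c n hθ₁1 hpn
    (IsLin.conjFun N heL (QuotientGroup.mk g)) heL hf₂
  have hgN : (QuotientGroup.mk g : G ⧸ K) ∉ N := hg
  have h5 := lin_fixed_eq_one K N hfrob _ hgN heL h4
  funext y
  have h6 : d₂ y * conj (d₁ y) = 1 := congrFun h5 y
  calc d₁ y = (d₂ y * conj (d₁ y)) * d₁ y := by rw [h6, one_mul]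
    _ = d₂ y * (d₁ y * conj (d₁ y)) := by ring
    _ = d₂ y := by rw [h₁.mul_conj, mul_one]

/-- The preimage of `N` in `G`. -/
abbrev preim : Subgroup G := N.comap (QuotientGroup.mk' K)

/-- **Restricted Isaacs 12.4.** Let `G/K` have the abelian normal `p`-subgroup `N ≠ 1` on which
the elements outside `N` act without fixed points, `L` the preimage of `N`, and `ψ ∈ Irr(L)` of
degree prime to `p`. Then some twist of `ψ` by a linear character of `L/K` induces irreducibly
to `G`. -/
theorem exists_induced (p : ℕ) (hp : p.Prime) (hNp : IsPGroup p N)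
    (hNab : ∀ a ∈ N, ∀ b ∈ N, a * b = b * a) (hNne : N ≠ ⊥)
    (hfrob : ∀ g : G ⧸ K, g ∉ N → ∀ x ∈ N, g * x = x * g → x = 1)
    {ψ : ↥(preim K N) → ℂ} (hψ : IsIrrCharacter _ ψ) (n : ℕ) (hn : ψ 1 = n)
    (hpn : ¬ p ∣ n) :
    ∃ d : N → ℂ, IsLin N d ∧
      IsIrrCharacter G (indFun (preim K N) (pull K N d * ψ)) := by
  classical
  haveI hLn : (preim K N).Normal := inferInstance
  letI : Fintype (preim K N) := Fintype.ofFinite _
  by_contra hcon
  push Not at hcon
  have hψc := isCharacter_of_isIrrCharacter hψ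
  have hirr : ∀ d : N → ℂ, IsLin N d → IsIrrCharacter (preim K N) (pull K N d * ψ) := fun d hd =>
    isIrrCharacter_linear_mul (pull_isLin K N hd).1 (pull_isLin K N hd).2 hψ
  have hbad : ∀ d : N → ℂ, IsLin N d →
      ∃ g : G, g ∉ preim K N ∧ cjF (preim K N) (pull K N d * ψ) g = pull K N d * ψ := by
    intro d hd
    by_contra hno
    push Not at hno
    apply hcon d hd
    apply isIrr_indFun_of_inertia (preim K N) _ (hirr d hd)
    intro g hg
    by_contra hgL
    exact hno g hgL hg
  choose gd hgd using hbad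
  obtain ⟨y₀, hy₀N, hy₀1⟩ : ∃ y ∈ N, y ≠ 1 := by
    by_contra h
    push Not at h
    apply hNne
    rw [eq_bot_iff]
    intro y hy
    rw [Subgroup.mem_bot]
    exact h y hy
  obtain ⟨d₀, hd₀, hd₀y⟩ := exists_lin_apply_ne_one (X := N)
    (fun a b => Subtype.ext (hNab a a.2 b b.2)) ⟨y₀, hy₀N⟩
    (by intro h; exact hy₀1 (congrArg Subtype.val h))
  have hd₀ne : d₀ ≠ fun _ => 1 := by
    intro h
    apply hd₀y
    rw [h]
  let D := {d : N → ℂ // IsLin N d}
  let ι : Option (G ⧸ preim K N) → D := fun o => match o with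
    | none => ⟨fun _ => 1, ⟨isCharacter_one, rfl⟩⟩
    | some q => ⟨cjF N d₀ (QuotientGroup.mk q.out), IsLin.conjFun N hd₀ _⟩
  let κ : D → {q : G ⧸ preim K N // q ≠ 1} := fun d => ⟨QuotientGroup.mk (gd d.1 d.2), by
    intro h
    exact (hgd d.1 d.2).1 ((QuotientGroup.eq_one_iff _).mp h)⟩
  have hκ : Function.Injective κ := by
    intro d₁ d₂ h
    have h' : (QuotientGroup.mk (gd d₁.1 d₁.2) : G ⧸ preim K N)
        = QuotientGroup.mk (gd d₂.1 d₂.2) := congrArg Subtype.val h
    rw [QuotientGroup.eq] at h'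
    have hf₂ := (hgd d₂.1 d₂.2).2
    have hg₂ : gd d₂.1 d₂.2 = gd d₁.1 d₁.2 * ((gd d₁.1 d₁.2)⁻¹ * gd d₂.1 d₂.2) := by group
    have hf₂' : cjF (preim K N) (cjF (preim K N) (pull K N d₂.1 * ψ) (gd d₁.1 d₁.2))
        ((gd d₁.1 d₁.2)⁻¹ * gd d₂.1 d₂.2) = pull K N d₂.1 * ψ := by
      rw [conjFun_mul, ← hg₂]
      exact hf₂
    have hcf : IsClassFunction (preim K N)
        (cjF (preim K N) (pull K N d₂.1 * ψ) (gd d₁.1 d₁.2)) :=
      isClassFunction_of_isCharacter (isCharacter_of_isIrrCharacter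
        (isIrrCharacter_conjFun (preim K N) (hirr d₂.1 d₂.2) _))
    rw [conjFun_of_mem_self (preim K N) hcf _ h'] at hf₂'
    apply Subtype.ext
    exact fixed_unique K N p hp hNp hfrob hψc n hn hpn (gd d₁.1 d₁.2) (hgd d₁.1 d₁.2).1 d₁.2 d₂.2
      (hgd d₁.1 d₁.2).2 hf₂'
  have hone : ∀ g : G ⧸ K, cjF N (fun _ : N => (1 : ℂ)) g = fun _ => 1 := fun g => rfl
  have hne_one : ∀ q : G ⧸ preim K N, cjF N d₀ (QuotientGroup.mk q.out) ≠ fun _ => 1 := by
    intro q h'
    apply hd₀ne
    have h2 : cjF N (cjF N d₀ (QuotientGroup.mk q.out)) (QuotientGroup.mk q.out : G ⧸ K)⁻¹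
        = cjF N (fun _ => 1) (QuotientGroup.mk q.out : G ⧸ K)⁻¹ := by rw [h']
    rw [conjFun_mul, mul_inv_cancel, conjFun_one, hone] at h2
    exact h2
  have hι : Function.Injective ι := by
    intro a b h
    have h' : (ι a).1 = (ι b).1 := congrArg Subtype.val h
    cases a with
    | none =>
      cases b with
      | none => rfl
      | some q =>
        exfalso
        exact hne_one q h'.symm
    | some q₁ =>
      cases b with
      | none =>
        exfalso
        exact hne_one q₁ h'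
      | some q₂ =>
        change cjF N d₀ (QuotientGroup.mk q₁.out) = cjF N d₀ (QuotientGroup.mk q₂.out) at h'
        have h2 : cjF N d₀ ((QuotientGroup.mk q₁.out : G ⧸ K) * (QuotientGroup.mk q₂.out)⁻¹)
            = d₀ := by
          rw [← conjFun_mul, h', conjFun_mul, mul_inv_cancel, conjFun_one]
        have h3 : ((QuotientGroup.mk q₁.out : G ⧸ K) * (QuotientGroup.mk q₂.out)⁻¹) ∈ N := by
          by_contra hnot
          exact hd₀ne (lin_fixed_eq_one K N hfrob _ hnot hd₀ h2)
        have h4 : q₁.out * q₂.out⁻¹ ∈ preim K N := by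
          show QuotientGroup.mk' K (q₁.out * q₂.out⁻¹) ∈ N
          simpa using h3
        congr 1
        rw [← QuotientGroup.out_eq' q₁, ← QuotientGroup.out_eq' q₂, QuotientGroup.eq]
        have h5 := hLn.conj_mem _ ((preim K N).inv_mem h4) q₁.out⁻¹
        convert h5 using 1
        group
  letI : Fintype (G ⧸ preim K N) := Fintype.ofFinite _
  have h1 := Fintype.card_le_of_injective (κ ∘ ι) (hκ.comp hι)
  rw [Fintype.card_option] at h1
  have h2 : Fintype.card {q : G ⧸ preim K N // q ≠ 1} < Fintype.card (G ⧸ preim K N) :=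
    Fintype.card_subtype_lt (x := 1) (by simp)
  omega

end frob

end Cfsg.Agent.Lib.Helper7.Cd3
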