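import Mathlib
import Cfsg.Prelude.Def_Characters
import Cfsg.Prelude.Def_Blocks
import Cfsg.Agent.Lib.Helper7.ThreeDegD
import Cfsg.Agent.Lib.helper3.Taketa
import Cfsg.Agent.Lib.helper3.NilpM3
import Cfsg.Agent.Lib.helper3.ClassBound
import Cfsg.Agent.Lib.helper3.Inflate2
import Cfsg.Agent.Lib.helper3.TwoDeg5

set_option autoImplicit false
set_option linter.style.haveILetI false
set_option linter.unusedSectionVars false

/-!
# Three character degrees, part C: Taketa's argument for three degrees, quotients
-/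

namespace Cfsg.Agent.Lib.Helper7.Cd3

open Cfsg Module Cfsg.Agent.Lib.helper3.Irr Cfsg.Agent.Lib.helper3.IndFun
open Cfsg.Agent.Lib.helper3.CharBasic
open Cfsg.Agent.Lib.Helper7.ThreeDeg
open scoped ComplexConjugate

universe u

section taketa

variable {G : Type u} [Group G] [Fintype G]

/-- One step of Taketa's argument: if `χ` is monomial and the `n`-th derived subgroup lies in the
kernel of every irreducible character of smaller degree, then the `(n+1)`-st derived subgroup lies
in the kernel of `χ`. -/
theorem taketa_step (χ : IrrCharacter G)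
    (hmon : ∃ (H : Subgroup G) (lam : H →* ℂˣ),
      (χ : G → ℂ) = indFun H (fun h => ((lam h : ℂˣ) : ℂ)))
    (n : ℕ)
    (hsmall : ∀ ψ : IrrCharacter G, deg ψ < deg χ →
      ∀ g ∈ derivedSeries G n, (ψ : G → ℂ) g = (ψ : G → ℂ) 1) :
    ∀ g ∈ derivedSeries G (n + 1), (χ : G → ℂ) g = (χ : G → ℂ) 1 := by
  classical
  intro g hg
  obtain ⟨H, lam, hχeq⟩ := hmon
  have hχ1 : (χ : G → ℂ) 1 = (H.index : ℂ) := by
    rw [hχeq, indFun_apply_one]
    simp
  have hidx : H.index = deg χ := by
    have := deg_spec χ
    rw [hχ1] at this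
    exact_mod_cast this
  have hDH : derivedSeries G n ≤ H := by
    rcases Nat.lt_or_ge (deg χ) 2 with h2 | h2
    · have h1 : deg χ = 1 := by have := deg_pos χ; omega
      have : H = ⊤ := Subgroup.index_eq_one.mp (by rw [hidx, h1])
      rw [this]
      exact le_top
    · obtain ⟨m, hm⟩ : ∃ m, deg χ = m + 1 := ⟨deg χ - 1, by omega⟩
      have hpos : 1 ≤ m := by omega
      intro k hk
      apply mem_of_indFun_one_eq_index
      have hπ : Cfsg.IsCharacter G (Cfsg.indFun H (fun _ => (1 : ℂ))) :=
        isCharacter_indFun H _ isCharacter_one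
      have hdec := isCharacter_eq_sum_classInner hπ
      have h1 : Cfsg.indFun H (fun _ => (1 : ℂ)) k = Cfsg.indFun H (fun _ => (1 : ℂ)) 1 := by
        rw [hdec]
        simp only [Finset.sum_apply, Pi.smul_apply, smul_eq_mul]
        apply Finset.sum_congr rfl
        intro ψ _
        by_cases hψ0 : Cfsg.classInner (Cfsg.indFun H (fun _ => (1 : ℂ))) (ψ : G → ℂ) = 0
        · rw [hψ0, zero_mul, zero_mul]
        · congr 1
          have hle := perm_constituent_degree_le H m hpos (by rw [hidx, hm]) ψ hψ0 (deg ψ)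
            (deg_spec ψ)
          exact hsmall ψ (by omega) k hk
      rw [h1, indFun_apply_one, mul_one]
  rw [hχ1, hχeq]
  apply indFun_eq_index_of_forall
  intro x
  have hnorm := derivedSeries_normal G (n + 1)
  have hx : x⁻¹ * g * x ∈ derivedSeries G (n + 1) := by
    have := hnorm.conj_mem g hg x⁻¹
    rwa [inv_inv] at this
  rw [derivedSeries_succ] at hx
  have hx2 : x⁻¹ * g * x ∈ ⁅H, H⁆ := Subgroup.commutator_mono hDH hDH hx
  rw [← Subgroup.map_subtype_commutator] at hx2
  obtain ⟨y, hy, hyx⟩ := hx2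
  have hlam : lam y = 1 := Abelianization.commutator_subset_ker lam hy
  have hmem : x⁻¹ * g * x ∈ H := by
    rw [← hyx]; exact y.2
  refine ⟨hmem, ?_⟩
  have : (⟨x⁻¹ * g * x, hmem⟩ : H) = y := Subtype.ext hyx.symm
  rw [this, hlam]
  rfl

/-- Taketa's theorem for three degrees: an M-group whose irreducible characters have degrees in
`{1, a, b}` with `a < b` has trivial third derived subgroup. -/
theorem taketa3 (hM : ∀ χ : IrrCharacter G, ∃ (H : Subgroup G) (lam : H →* ℂˣ),
      (χ : G → ℂ) = indFun H (fun h => ((lam h : ℂˣ) : ℂ)))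
    (a b : ℕ) (hab : a < b) (hcd : ∀ χ : IrrCharacter G, deg χ = 1 ∨ deg χ = a ∨ deg χ = b) :
    derivedSeries G 3 = ⊥ := by
  classical
  -- level 1
  have l1 : ∀ χ : IrrCharacter G, deg χ = 1 →
      ∀ g ∈ derivedSeries G 1, (χ : G → ℂ) g = (χ : G → ℂ) 1 := by
    intro χ h1
    apply taketa_step χ (hM χ) 0
    intro ψ hψ
    have := deg_pos ψ
    omega
  have l2 : ∀ χ : IrrCharacter G, deg χ = 1 ∨ deg χ = a →
      ∀ g ∈ derivedSeries G 2, (χ : G → ℂ) g = (χ : G → ℂ) 1 := by
    intro χ h
    by_cases h1 : deg χ = 1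
    · intro g hg
      exact l1 χ h1 g (derivedSeries_antitone G (by norm_num) hg)
    · have ha : deg χ = a := by tauto
      apply taketa_step χ (hM χ) 1
      intro ψ hψ
      apply l1 ψ
      rcases hcd ψ with h' | h' | h'
      · exact h'
      · omega
      · omega
  have l3 : ∀ χ : IrrCharacter G, ∀ g ∈ derivedSeries G 3, (χ : G → ℂ) g = (χ : G → ℂ) 1 := by
    intro χ
    by_cases h1 : deg χ = 1 ∨ deg χ = a
    · intro g hg
      exact l2 χ h1 g (derivedSeries_antitone G (by norm_num) hg)
    · have hb : deg χ = b := by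
        rcases hcd χ with h' | h' | h'
        · exact absurd (Or.inl h') h1
        · exact absurd (Or.inr h') h1
        · exact h'
      apply taketa_step χ (hM χ) 2
      intro ψ hψ
      apply l2 ψ
      rcases hcd ψ with h' | h' | h'
      · left; exact h'
      · right; exact h'
      · omega
  rw [eq_bot_iff]
  intro g hg
  rw [Subgroup.mem_bot]
  exact eq_one_of_forall_irr_apply_eq g (fun ψ => l3 ψ g hg)

/-- A finite nilpotent group whose irreducible characters have degrees in `{1, a, b}` has trivial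
third derived subgroup. -/
theorem nilpotent_dl3 [Group.IsNilpotent G] (a b : ℕ)
    (hcd : ∀ χ : IrrCharacter G, deg χ = 1 ∨ deg χ = a ∨ deg χ = b) :
    derivedSeries G 3 = ⊥ := by
  have hM : ∀ χ : IrrCharacter G, ∃ (H : Subgroup G) (lam : H →* ℂˣ),
      (χ : G → ℂ) = indFun H (fun h => ((lam h : ℂˣ) : ℂ)) := fun χ =>
    nilpotent_monomial (χ : G → ℂ) χ.2
  rcases lt_trichotomy a b with h | h | h
  · exact taketa3 hM a b h hcd
  · subst h
    apply taketa3 hM a (a + 1) (by omega)
    intro χ
    rcases hcd χ with h' | h' | h'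
    · left; exact h'
    · right; left; exact h'
    · right; left; exact h'
  · apply taketa3 hM b a h
    intro χ
    rcases hcd χ with h' | h' | h'
    · left; exact h'
    · right; right; exact h'
    · right; left; exact h'

end taketa

end Cfsg.Agent.Lib.Helper7.Cd3
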