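import Mathlib
import Cfsg.Prelude.Def_Characters
import Cfsg.Prelude.Def_Blocks
import Cfsg.Agent.Lib.Helper7.Cd3C
import Cfsg.Agent.Lib.helper3.SolvRam
import Cfsg.Agent.Lib.helper3.Clifford2
import Cfsg.Agent.Lib.helper3.Inflate2
import Cfsg.Agent.Lib.helper3.TwoDeg5
import Cfsg.Agent.Lib.helper3.Irr8

set_option autoImplicit false
set_option linter.style.haveILetI false
set_option linter.unusedSectionVars false

/-!
# Three character degrees, part D: degrees under normal subgroups and quotients
-/

namespace Cfsg.Agent.Lib.Helper7.Cd3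

open Cfsg Module Cfsg.Agent.Lib.helper3.Irr Cfsg.Agent.Lib.helper3.IndFun
open Cfsg.Agent.Lib.helper3.CharBasic Cfsg.Agent.Lib.helper3.Central
open Cfsg.Agent.Lib.Helper7.ThreeDeg
open scoped ComplexConjugate
open scoped commutatorElement

universe u

section basic

variable {G : Type u} [Group G] [Fintype G]

/-- An irreducible constituent of the restriction to a subgroup. -/
theorem exists_under (N : Subgroup G) [Fintype N] (χ : IrrCharacter G) :
    ∃ θ : IrrCharacter N, classInner (fun n : N => (χ : G → ℂ) n) (θ : N → ℂ) ≠ 0 := by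
  apply exists_constituent (isCharacter_restrict (isChar χ) N)
  intro h0
  have := congrFun h0 1
  simp only [OneMemClass.coe_one, Pi.zero_apply] at this
  rw [deg_spec] at this
  have hpos := deg_pos χ
  have : deg χ = 0 := by exact_mod_cast this
  omega

theorem deg_dvd_of_under (N : Subgroup G) [N.Normal] [Fintype N] (χ : IrrCharacter G)
    (θ : IrrCharacter N) (hcon : classInner (fun n : N => (χ : G → ℂ) n) (θ : N → ℂ) ≠ 0) :
    deg θ ∣ deg χ :=
  constituent_degree_dvd N χ χ.2 θ θ.2 hcon (deg χ) (deg θ) (deg_spec χ) (deg_spec θ)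

theorem deg_dvd_mul_index (N : Subgroup G) [N.Normal] [Fintype N]
    (hsolv : Group.IsSolvable (G ⧸ N)) (χ : IrrCharacter G)
    (θ : IrrCharacter N) (hcon : classInner (fun n : N => (χ : G → ℂ) n) (θ : N → ℂ) ≠ 0) :
    deg χ ∣ deg θ * N.index :=
  Cfsg.Agent.Lib.helper3.SolvRam.degree_dvd_aux (Nat.card G) G N rfl hsolv χ θ χ.2 θ.2 hcon
    (deg χ) (deg θ) (deg_spec χ) (deg_spec θ)

theorem deg_dvd_card (χ : IrrCharacter G) : deg χ ∣ Nat.card G := by
  obtain ⟨n, hn, hdvd, -⟩ := irr_degree_dvd_card χ.2
  rw [deg_eq hn]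
  exact hdvd

theorem sum_deg_sq : ∑ χ : IrrCharacter G, deg χ ^ 2 = Nat.card G := by
  have h := sum_sq_degree (G := G)
  have h2 : ((∑ χ : IrrCharacter G, deg χ ^ 2 : ℕ) : ℂ) = (Nat.card G : ℂ) := by
    push_cast
    rw [← h]
    apply Finset.sum_congr rfl
    intro χ _
    rw [deg_spec]
  exact_mod_cast h2

theorem deg_sq_le_card (χ : IrrCharacter G) : deg χ ^ 2 ≤ Nat.card G := by
  rw [← sum_deg_sq]
  exact Finset.single_le_sum (f := fun χ : IrrCharacter G => deg χ ^ 2)
    (fun _ _ => Nat.zero_le _) (Finset.mem_univ χ)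

/-- A group all of whose irreducible characters are linear is abelian. -/
theorem comm_of_deg_one (h : ∀ χ : IrrCharacter G, deg χ = 1) (a b : G) : a * b = b * a :=
  comm_of_all_linear (fun ψ => by rw [deg_spec, h ψ, Nat.cast_one]) a b

/-- A nonabelian group has a nonlinear irreducible character. -/
theorem exists_deg_ne_one (h : ¬ ∀ a b : G, a * b = b * a) : ∃ χ : IrrCharacter G, deg χ ≠ 1 := by
  by_contra hcon
  push Not at hcon
  exact h (comm_of_deg_one hcon)

end basic

section quot

variable {G : Type u} [Group G] [Finite G]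

/-- The inflation of an irreducible character of a quotient. -/
noncomputable def infl (N : Subgroup G) [N.Normal] (φ : IrrCharacter (G ⧸ N)) : IrrCharacter G :=
  ⟨inflate N (φ : G ⧸ N → ℂ), isIrrCharacter_inflate N φ.2⟩

theorem deg_infl (N : Subgroup G) [N.Normal] (φ : IrrCharacter (G ⧸ N)) :
    deg (infl N φ) = deg φ := by
  unfold deg infl
  simp only
  rw [inflate_apply, QuotientGroup.mk_one]

theorem infl_apply_of_mem (N : Subgroup G) [N.Normal] (φ : IrrCharacter (G ⧸ N)) {n : G}
    (hn : n ∈ N) : (infl N φ : G → ℂ) n = (infl N φ : G → ℂ) 1 := by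
  unfold infl
  simp only
  rw [inflate_apply_of_mem N _ hn, inflate_apply, QuotientGroup.mk_one]

/-- If the derived subgroup of some level of the quotient is trivial, the derived subgroup of the
group lies in the normal subgroup. -/
theorem derivedSeries_le_of_quotient (N : Subgroup G) [N.Normal] (k : ℕ)
    (h : derivedSeries (G ⧸ N) k = ⊥) : derivedSeries G k ≤ N := by
  have h1 := map_derivedSeries_eq (QuotientGroup.mk'_surjective N) k
  rw [h, Subgroup.map_eq_bot_iff, QuotientGroup.ker_mk'] at h1
  exact h1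

/-- At most two character degrees: derived length at most two. -/
theorem dl2_of_two_degrees {X : Type u} [Group X] [Finite X] (m : ℕ)
    (h : ∀ χ : IrrCharacter X, deg χ = 1 ∨ deg χ = m) : derivedSeries X 2 = ⊥ := by
  classical
  letI : Fintype X := Fintype.ofFinite X
  by_cases hm : (∃ χ : IrrCharacter X, deg χ = m) ∧ m ≠ 1
  · have hc := Cfsg.Agent.Lib.helper3.TwoDeg.commutator_comm' m h hm.1 hm.2
    rw [derivedSeries_succ, derivedSeries_one, Subgroup.commutator_eq_bot_iff_le_centralizer]
    intro a ha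
    rw [Subgroup.mem_centralizer_iff]
    intro b hb
    exact hc b hb a ha
  · have hall : ∀ χ : IrrCharacter X, deg χ = 1 := by
      intro χ
      rcases h χ with h1 | h1
      · exact h1
      · by_contra hne
        apply hm
        exact ⟨⟨χ, h1⟩, fun hm1 => hne (by rw [h1, hm1])⟩
    have hab := comm_of_deg_one hall
    have h1 : derivedSeries X 1 = ⊥ := by
      rw [derivedSeries_one, eq_bot_iff]
      rw [commutator_def, Subgroup.commutator_le]
      intro a _ b _
      rw [Subgroup.mem_bot, commutatorElement_eq_one_iff_commute]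
      exact hab a b
    rw [eq_bot_iff, ← h1]
    exact derivedSeries_antitone X (by norm_num)

/-- If the irreducible characters of `G` with `N` in the kernel have degrees in `{1, m}`, then
`G'' ≤ N`. -/
theorem derived2_le_of_degrees (N : Subgroup G) [N.Normal] (m : ℕ)
    (h : ∀ χ : IrrCharacter G, (∀ n ∈ N, (χ : G → ℂ) n = (χ : G → ℂ) 1) → deg χ = 1 ∨ deg χ = m) :
    derivedSeries G 2 ≤ N := by
  apply derivedSeries_le_of_quotient N 2
  apply dl2_of_two_degrees m
  intro φ
  rw [← deg_infl N φ]
  exact h (infl N φ) (fun n hn => infl_apply_of_mem N φ hn)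

/-- If the irreducible characters of `G` with `N` in the kernel are all linear, `G' ≤ N`. -/
theorem commutator_le_of_degrees (N : Subgroup G) [N.Normal]
    (h : ∀ χ : IrrCharacter G, (∀ n ∈ N, (χ : G → ℂ) n = (χ : G → ℂ) 1) → deg χ = 1) :
    commutator G ≤ N := by
  classical
  letI : Fintype (G ⧸ N) := Fintype.ofFinite _
  have hab := comm_of_deg_one (G := G ⧸ N) (fun φ => by
    rw [← deg_infl N φ]
    exact h (infl N φ) (fun n hn => infl_apply_of_mem N φ hn))
  rw [commutator_def, Subgroup.commutator_le]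
  intro a _ b _
  rw [← QuotientGroup.eq_one_iff]
  have h1 : ((⁅a, b⁆ : G) : G ⧸ N) = ⁅(a : G ⧸ N), (b : G ⧸ N)⁆ :=
    map_commutatorElement (QuotientGroup.mk' N) a b
  rw [h1, commutatorElement_eq_one_iff_commute]
  exact hab _ _

end quot

end Cfsg.Agent.Lib.Helper7.Cd3
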