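import Mathlib
import Cfsg.Prelude.Def_Characters
import Cfsg.Prelude.Def_Blocks
import Cfsg.Agent.Lib.Helper7.Cd3A
import Cfsg.Agent.Lib.Helper7.Cd3B
import Cfsg.Agent.Lib.Helper7.Cd3D

set_option autoImplicit false
set_option linter.style.haveILetI false
set_option linter.unusedSectionVars false

/-!
# Three character degrees, part E: maximal nonabelian quotients
-/

namespace Cfsg.Agent.Lib.Helper7.Cd3

open Cfsg Module Cfsg.Agent.Lib.helper3.Irr Cfsg.Agent.Lib.helper3.IndFun
open Cfsg.Agent.Lib.helper3.CharBasic Cfsg.Agent.Lib.helper3.Central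
open Cfsg.Agent.Lib.Helper7.ThreeDeg
open scoped ComplexConjugate
open scoped commutatorElement

universe u

section grp

variable {G : Type u} [Group G] [Finite G]

theorem commutator_quotient (K : Subgroup G) [K.Normal] :
    commutator (G ⧸ K) = (commutator G).map (QuotientGroup.mk' K) := by
  rw [← derivedSeries_one, ← derivedSeries_one,
    map_derivedSeries_eq (QuotientGroup.mk'_surjective K) 1]

/-- The quotient by `K` is abelian iff `K` contains the commutator subgroup. -/
theorem commutator_le_of_quotient_comm (K : Subgroup G) [K.Normal]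
    (h : ∀ a b : G ⧸ K, a * b = b * a) : commutator G ≤ K := by
  rw [commutator_def, Subgroup.commutator_le]
  intro a _ b _
  rw [← QuotientGroup.eq_one_iff]
  have h1 : ((⁅a, b⁆ : G) : G ⧸ K) = ⁅(a : G ⧸ K), (b : G ⧸ K)⁆ :=
    map_commutatorElement (QuotientGroup.mk' K) a b
  rw [h1, commutatorElement_eq_one_iff_commute]
  exact h _ _

theorem quotient_comm_of_commutator_le (K : Subgroup G) [K.Normal] (h : commutator G ≤ K)
    (a b : G ⧸ K) : a * b = b * a := by
  obtain ⟨x, rfl⟩ := QuotientGroup.mk_surjective a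
  obtain ⟨y, rfl⟩ := QuotientGroup.mk_surjective b
  have h1 : ⁅x, y⁆ ∈ K := by
    apply h
    rw [commutator_def]
    exact Subgroup.commutator_mem_commutator (Subgroup.mem_top x) (Subgroup.mem_top y)
  have h2 : ((⁅x, y⁆ : G) : G ⧸ K) = 1 := (QuotientGroup.eq_one_iff _).mpr h1
  have h3 : ((⁅x, y⁆ : G) : G ⧸ K) = ⁅(x : G ⧸ K), (y : G ⧸ K)⁆ :=
    map_commutatorElement (QuotientGroup.mk' K) x y
  rw [h3, commutatorElement_eq_one_iff_commute] at h2
  exact h2

theorem quotient_solvable_of_derivedSeries_le (K : Subgroup G) [K.Normal]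
    (h : ∃ n, derivedSeries G n ≤ K) : Group.IsSolvable (G ⧸ K) := by
  obtain ⟨n, hn⟩ := h
  rw [Group.isSolvable_def]
  refine ⟨n, ?_⟩
  rw [← map_derivedSeries_eq (QuotientGroup.mk'_surjective K) n, Subgroup.map_eq_bot_iff,
    QuotientGroup.ker_mk']
  exact hn

/-- A maximal normal subgroup above `K₀` with nonabelian quotient. -/
theorem exists_max_nonabelian_quotient (K₀ : Subgroup G) [hK₀ : K₀.Normal]
    (h1 : ¬ commutator G ≤ K₀) :
    ∃ K : Subgroup G, K.Normal ∧ K₀ ≤ K ∧ ¬ commutator G ≤ K ∧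
      ∀ M : Subgroup G, M.Normal → K ≤ M → K ≠ M → commutator G ≤ M := by
  classical
  set S : Set (Subgroup G) := {K | K.Normal ∧ K₀ ≤ K ∧ ¬ commutator G ≤ K} with hS
  obtain ⟨K, hKS, hKmax⟩ := Set.exists_max_image S (fun K => Nat.card K) (Set.toFinite S)
    ⟨K₀, hK₀, le_refl _, h1⟩
  refine ⟨K, hKS.1, hKS.2.1, hKS.2.2, ?_⟩
  intro M hMn hKM hne
  by_contra hcon
  have hMS : M ∈ S := ⟨hMn, hKS.2.1.trans hKM, hcon⟩
  have hle := hKmax M hMS
  exact hne (Subgroup.eq_of_le_of_card_ge hKM hle)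

/-- The quotient by such a maximal subgroup satisfies the hypotheses of Isaacs 12.3. -/
theorem quotient_props (K : Subgroup G) [K.Normal]
    (h1 : ¬ commutator G ≤ K) (h2 : ∃ n, derivedSeries G n ≤ K)
    (hmax : ∀ M : Subgroup G, M.Normal → K ≤ M → K ≠ M → commutator G ≤ M) :
    Group.IsSolvable (G ⧸ K) ∧ (¬ ∀ a b : G ⧸ K, a * b = b * a) ∧
      ∀ M : Subgroup (G ⧸ K), M.Normal → M ≠ ⊥ → commutator (G ⧸ K) ≤ M := by
  refine ⟨quotient_solvable_of_derivedSeries_le K h2,
    fun h => h1 (commutator_le_of_quotient_comm K h), ?_⟩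
  intro M hMn hMne
  haveI := hMn
  have hKM : K ≤ M.comap (QuotientGroup.mk' K) := by
    intro x hx
    rw [Subgroup.mem_comap]
    have : (QuotientGroup.mk' K) x = 1 := (QuotientGroup.eq_one_iff x).mpr hx
    rw [this]
    exact M.one_mem
  have hne : K ≠ M.comap (QuotientGroup.mk' K) := by
    intro heq
    apply hMne
    rw [eq_bot_iff]
    intro y hy
    obtain ⟨x, rfl⟩ := QuotientGroup.mk_surjective y
    have hx : x ∈ M.comap (QuotientGroup.mk' K) := hy
    rw [← heq] at hx
    rw [Subgroup.mem_bot]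
    exact (QuotientGroup.eq_one_iff x).mpr hx
  have hle := hmax _ inferInstance hKM hne
  rw [commutator_quotient K]
  rintro y ⟨x, hx, rfl⟩
  exact hle hx

end grp

end Cfsg.Agent.Lib.Helper7.Cd3
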