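import Mathlib
import Cfsg.Prelude.Def_Characters
import Cfsg.Prelude.Def_Blocks
import Cfsg.Agent.Lib.Helper7.Cd3E
import Cfsg.Agent.Lib.helper3.Irr10

set_option autoImplicit false
set_option linter.style.haveILetI false
set_option linter.unusedSectionVars false

/-!
# Three character degrees, part F: character degrees over a Frobenius quotient
-/

namespace Cfsg.Agent.Lib.Helper7.Cd3

open Cfsg Module Cfsg.Agent.Lib.helper3.Irr Cfsg.Agent.Lib.helper3.IndFun
open Cfsg.Agent.Lib.helper3.CharBasic Cfsg.Agent.Lib.helper3.Central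
open Cfsg.Agent.Lib.helper3.TwoDeg
open Cfsg.Agent.Lib.Helper7.ThreeDeg
open scoped ComplexConjugate
open scoped commutatorElement

universe u

/-- The degree hypothesis: all irreducible characters have degree `1`, `a` or `b`. -/
def Cd (X : Type u) [Group X] (a b : ℕ) : Prop :=
  ∀ χ : IrrCharacter X, deg χ = 1 ∨ deg χ = a ∨ deg χ = b

theorem Cd.symm {X : Type u} [Group X] {a b : ℕ} (h : Cd X a b) : Cd X b a := by
  intro χ
  rcases h χ with h' | h' | h'
  · left; exact h'
  · right; right; exact h'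
  · right; left; exact h'

theorem Cd.quotient {X : Type u} [Group X] [Finite X] {a b : ℕ} (h : Cd X a b) (N : Subgroup X)
    [N.Normal] : Cd (X ⧸ N) a b := by
  intro φ
  rw [← deg_infl N φ]
  exact h _

section chars

variable {G : Type u} [Group G] [Fintype G]

/-- An irreducible character with the commutator subgroup in its kernel is linear. -/
theorem deg_eq_one_of_commutator_le_ker (χ : IrrCharacter G)
    (h : ∀ x ∈ commutator G, (χ : G → ℂ) x = (χ : G → ℂ) 1) : deg χ = 1 := by
  classical
  have hconst : ∀ g n : G, n ∈ commutator G → (χ : G → ℂ) (g * n) = (χ : G → ℂ) g := by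
    intro g n hn
    exact apply_mul_of_apply_eq_one (isChar χ) (h n hn) g
  obtain ⟨ψ, hψ, hχψ⟩ := exists_eq_inflate χ.2 (commutator G) hconst
  have h1 : ψ 1 = 1 := Cfsg.Agent.Lib.helper3.Irr.apply_one_eq_one_of_comm
    (quotient_comm_of_commutator_le (commutator G) (le_refl _)) hψ
  apply deg_eq
  rw [hχψ, inflate_apply, QuotientGroup.mk_one, h1, Nat.cast_one]

/-- The character degrees produced by the restricted Isaacs 12.4. -/
theorem frob_degrees (K : Subgroup G) [hK : K.Normal] (N : Subgroup (G ⧸ K)) [hN : N.Normal]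
    (p : ℕ) (hp : p.Prime) (hNp : IsPGroup p N)
    (hNab : ∀ a ∈ N, ∀ b ∈ N, a * b = b * a) (hNne : N ≠ ⊥)
    (hfrob : ∀ g : G ⧸ K, g ∉ N → ∀ x ∈ N, g * x = x * g → x = 1) :
    (∃ χ : IrrCharacter G, deg χ = N.index ∧ ∀ k ∈ K, (χ : G → ℂ) k = (χ : G → ℂ) 1) ∧
    ∀ ψ : IrrCharacter (preim K N), ¬ p ∣ deg ψ →
      ∃ χ : IrrCharacter G, deg χ = N.index * deg ψ := by
  classical
  letI : Fintype (preim K N) := Fintype.ofFinite _
  have hidx : (preim K N).index = N.index :=
    Subgroup.index_comap_of_surjective N (QuotientGroup.mk'_surjective K)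
  have hKL : K ≤ preim K N := by
    intro x hx
    show QuotientGroup.mk' K x ∈ N
    have : (QuotientGroup.mk' K) x = 1 := (QuotientGroup.eq_one_iff x).mpr hx
    rw [this]
    exact N.one_mem
  constructor
  · obtain ⟨d, hd, hirr⟩ := exists_induced K N p hp hNp hNab hNne hfrob
      (ψ := fun _ => 1) isIrrCharacter_one 1 (by simp) (by
        intro h
        exact hp.one_lt.ne' (Nat.dvd_one.mp h))
    refine ⟨⟨_, hirr⟩, ?_, ?_⟩
    · apply deg_eq
      simp only
      rw [indFun_apply_one, Pi.mul_apply, (pull_isLin K N hd).2, one_mul, mul_one, hidx]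
    · intro k hk
      simp only
      rw [indFun_apply_one, Pi.mul_apply, (pull_isLin K N hd).2, one_mul, mul_one]
      apply indFun_eq_index_of_forall
      intro x
      have hxk : x⁻¹ * k * x ∈ K := by
        have := hK.conj_mem k hk x⁻¹
        rwa [inv_inv] at this
      refine ⟨hKL hxk, ?_⟩
      rw [Pi.mul_apply, mul_one]
      exact pull_apply_of_mem K N d hd.2 _ hxk
  · intro ψ hpψ
    obtain ⟨d, hd, hirr⟩ := exists_induced K N p hp hNp hNab hNne hfrob
      (ψ := (ψ : preim K N → ℂ)) ψ.2 (deg ψ) (deg_spec ψ) hpψ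
    refine ⟨⟨_, hirr⟩, ?_⟩
    apply deg_eq
    simp only
    rw [indFun_apply_one, Pi.mul_apply, (pull_isLin K N hd).2, one_mul, deg_spec, hidx]
    push_cast
    rfl

end chars

end Cfsg.Agent.Lib.Helper7.Cd3
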