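import Mathlib
import Cfsg.Prelude.Def_Characters
import Cfsg.Prelude.Def_Blocks
import Cfsg.Agent.Lib.Helper7.Cd3F
import Cfsg.Agent.Lib.helper3.Gallagher2
import Cfsg.Agent.S4456

set_option autoImplicit false
set_option linter.style.haveILetI false
set_option linter.unusedSectionVars false

/-!
# Three character degrees, part G: solvability (Isaacs–Passman)
-/

namespace Cfsg.Agent.Lib.Helper7.Cd3

open Cfsg Module Cfsg.Agent.Lib.helper3.Irr Cfsg.Agent.Lib.helper3.IndFun
open Cfsg.Agent.Lib.helper3.CharBasic Cfsg.Agent.Lib.helper3.Central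
open Cfsg.Agent.Lib.helper3.TwoDeg
open Cfsg.Agent.Lib.Helper7.ThreeDeg Cfsg.Agent.Lib.Helper7.CdPrime
open scoped ComplexConjugate
open scoped commutatorElement

universe u

theorem ordCompl_eq_of {p e d k : ℕ} (hp : p.Prime) (he : e ∣ d) (hd : d ∣ e * p ^ k)
    (hpe : ¬ p ∣ e) (he0 : e ≠ 0) : ordCompl[p] d = e := by
  obtain ⟨t, rfl⟩ := he
  have ht : t ∣ p ^ k := Nat.dvd_of_mul_dvd_mul_left (Nat.pos_of_ne_zero he0) hd
  obtain ⟨j, -, rfl⟩ := (Nat.dvd_prime_pow hp).mp ht
  rw [Nat.ordCompl_mul, Nat.ordCompl_self_pow hp, mul_one,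
    Nat.factorization_eq_zero_of_not_dvd hpe, pow_zero, Nat.div_one]

theorem solvable_of_card_prime_pow {X : Type u} [Group X] [Finite X] {p k : ℕ} (hp : p.Prime)
    (h : Nat.card X = p ^ k) : Group.IsSolvable X := by
  haveI : Fact p.Prime := ⟨hp⟩
  haveI : Group.IsNilpotent X := (IsPGroup.of_card h).isNilpotent
  infer_instance

section main

variable {G : Type u} [Group G] [Fintype G]

/-- The degrees of a normal `p`-complement. -/
theorem Cd.pcomplement {a b : ℕ} (h : Cd G a b) (p : ℕ) (hp : p.Prime) (N : Subgroup G)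
    [N.Normal] (hcop : (Nat.card N).Coprime p) (k : ℕ) (hk : N.index = p ^ k) :
    Cd N (ordCompl[p] a) (ordCompl[p] b) := by
  classical
  letI : Fintype N := Fintype.ofFinite _
  have hsolv : Group.IsSolvable (G ⧸ N) :=
    solvable_of_card_prime_pow hp (by rw [← Subgroup.index_eq_card, hk])
  intro θ
  obtain ⟨χ, hχ⟩ := exists_irr_over N θ θ.2
  have h1 := deg_dvd_of_under N χ θ hχ
  have h2 := deg_dvd_mul_index N hsolv χ θ hχ
  rw [hk] at h2
  have h3 : ¬ p ∣ deg θ := by
    intro hpd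
    have := hpd.trans (deg_dvd_card θ)
    exact (Nat.Prime.coprime_iff_not_dvd hp).mp hcop.symm this
  have h4 := ordCompl_eq_of hp h1 h2 h3 (deg_pos θ).ne'
  rcases h χ with h' | h' | h'
  · left
    rw [← h4, h']
    simp
  · right; left; rw [← h4, h']
  · right; right; rw [← h4, h']

/-- In the coprime case no maximal nonabelian quotient is a `p`-group. -/
theorem no_pgroup_quotient (m n : ℕ) (H : Hyp G m n) (hm : ∃ χ : IrrCharacter G, deg χ = m)
    (hn : ∃ χ : IrrCharacter G, deg χ = n) (K : Subgroup G) [K.Normal] (p : ℕ) (hp : p.Prime)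
    (hKp : IsPGroup p (G ⧸ K)) (hna : ¬ ∀ a b : G ⧸ K, a * b = b * a) : False := by
  classical
  letI : Fintype (G ⧸ K) := Fintype.ofFinite _
  letI : Fintype K := Fintype.ofFinite _
  haveI : Fact p.Prime := ⟨hp⟩
  obtain ⟨j, hj⟩ := IsPGroup.iff_card.mp hKp
  have hsolv : Group.IsSolvable (G ⧸ K) := solvable_of_card_prime_pow hp hj
  obtain ⟨β, hβ⟩ := exists_deg_ne_one hna
  have hpβ : p ∣ deg β := by
    have h1 := deg_dvd_card β
    rw [hj] at h1
    obtain ⟨i, -, hi⟩ := (Nat.dvd_prime_pow hp).mp h1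
    rw [hi]
    rcases Nat.eq_zero_or_pos i with h0 | h0
    · rw [h0, pow_zero] at hi
      exact absurd hi hβ
    · exact dvd_pow_self p h0.ne'
  have hidx : K.index = p ^ j := by rw [Subgroup.index_eq_card, hj]
  -- the key: a character of degree prime to `p` times `β` is irreducible
  have key : ∀ χ : IrrCharacter G, ¬ p ∣ deg χ → ∃ ξ : IrrCharacter G, deg ξ = deg β * deg χ := by
    intro χ hpχ
    obtain ⟨θ, hθ⟩ := exists_under K χ
    have h1 := deg_dvd_of_under K χ θ hθ
    have h2 := deg_dvd_mul_index K hsolv χ θ hθ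
    rw [hidx] at h2
    have hcop : (deg χ).Coprime (p ^ j) :=
      Nat.Coprime.pow_right j (Nat.Coprime.symm ((Nat.Prime.coprime_iff_not_dvd hp).mpr hpχ))
    have h3 : deg χ = deg θ := Nat.dvd_antisymm (hcop.dvd_of_dvd_mul_right h2) h1
    have hres : (fun k : K => (χ : G → ℂ) k) = (θ : K → ℂ) := by
      apply eq_of_constituent_of_degree_eq (isCharacter_restrict (isChar χ) K) θ hθ
      simp only [OneMemClass.coe_one]
      rw [deg_spec, deg_spec, h3]
    have hirr : IsIrrCharacter K (fun k : K => (χ : G → ℂ) k) := by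
      rw [hres]
      exact θ.2
    have hχ1 : (χ : G → ℂ) 1 ≠ 0 := by
      rw [deg_spec]
      exact_mod_cast (deg_pos χ).ne'
    have hg := (Cfsg.Agent.Lib.helper3.Irr.gallagher_inflate K (χ : G → ℂ) (isChar χ) hχ1 hirr).1 β
    refine ⟨⟨_, hg⟩, ?_⟩
    apply deg_eq
    simp only
    rw [Pi.mul_apply, inflate_apply, QuotientGroup.mk_one, deg_spec, deg_spec]
    push_cast
    rfl
  have hβG : deg (infl K β) = deg β := deg_infl K β
  have hm1 := H.hm
  have hmn := H.hmn
  rcases H.hcd (infl K β) with h' | h' | h'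
  · rw [hβG] at h'
    exact hβ h'
  · rw [hβG] at h'
    -- deg β = m
    have hpn : ¬ p ∣ n := by
      intro hpn
      have := Nat.Prime.one_lt hp
      have h1 : p ∣ Nat.gcd m n := Nat.dvd_gcd (h' ▸ hpβ) hpn
      rw [H.hcop] at h1
      exact (Nat.le_of_dvd one_pos h1).not_gt this
    obtain ⟨χ, hχ⟩ := hn
    obtain ⟨ξ, hξ⟩ := key χ (by rw [hχ]; exact hpn)
    rw [h', hχ] at hξ
    rcases H.hcd ξ with h'' | h'' | h'' <;> rw [hξ] at h'' <;> nlinarith
  · rw [hβG] at h'
    have hpm : ¬ p ∣ m := by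
      intro hpm
      have := Nat.Prime.one_lt hp
      have h1 : p ∣ Nat.gcd m n := Nat.dvd_gcd hpm (h' ▸ hpβ)
      rw [H.hcop] at h1
      exact (Nat.le_of_dvd one_pos h1).not_gt this
    obtain ⟨χ, hχ⟩ := hm
    obtain ⟨ξ, hξ⟩ := key χ (by rw [hχ]; exact hpm)
    rw [h', hχ] at hξ
    rcases H.hcd ξ with h'' | h'' | h'' <;> rw [hξ] at h'' <;> nlinarith

/-- The degrees of the preimage of the Frobenius kernel, given coprime degrees `f = |G : L|`
and `h`. -/
theorem frob_kernel_degrees (K : Subgroup G) [hK : K.Normal] (p : ℕ) (hp : p.Prime)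
    (hNp : IsPGroup p (commutator (G ⧸ K)))
    (hNab : ∀ a ∈ commutator (G ⧸ K), ∀ b ∈ commutator (G ⧸ K), a * b = b * a)
    (hNne : commutator (G ⧸ K) ≠ ⊥) (hpf : ¬ p ∣ (commutator (G ⧸ K)).index)
    (hfrob : ∀ g : G ⧸ K, g ∉ commutator (G ⧸ K) → ∀ x ∈ commutator (G ⧸ K),
      g * x = x * g → x = 1)
    (h : ℕ) (hcd : ∀ χ : IrrCharacter G, deg χ = 1 ∨ deg χ = (commutator (G ⧸ K)).index ∨ deg χ = h)
    (hcop : ((commutator (G ⧸ K)).index).Coprime h) (hf1 : (commutator (G ⧸ K)).index ≠ 1) :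
    ∀ ψ : IrrCharacter (preim K (commutator (G ⧸ K))), deg ψ = 1 ∨ deg ψ = h := by
  classical
  set N := commutator (G ⧸ K) with hN
  letI : Fintype (preim K N) := Fintype.ofFinite _
  have hidx : (preim K N).index = N.index :=
    Subgroup.index_comap_of_surjective N (QuotientGroup.mk'_surjective K)
  have hf0 : 0 < N.index := Nat.pos_of_ne_zero Subgroup.index_ne_zero_of_finite
  obtain ⟨-, hF⟩ := frob_degrees K N p hp hNp hNab hNne hfrob
  have hGL : commutator G ≤ preim K N := by
    intro x hx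
    show QuotientGroup.mk' K x ∈ N
    rw [hN, commutator_quotient K]
    exact ⟨x, hx, rfl⟩
  have hsolv : Group.IsSolvable (G ⧸ preim K N) :=
    Group.isSolvable_of_comm (quotient_comm_of_commutator_le _ hGL)
  intro ψ
  by_cases hpψ : p ∣ deg ψ
  · right
    obtain ⟨χ, hχ⟩ := exists_irr_over (preim K N) ψ ψ.2
    have h1 := deg_dvd_of_under (preim K N) χ ψ hχ
    have h2 := deg_dvd_mul_index (preim K N) hsolv χ ψ hχ
    rw [hidx] at h2
    have hpχ : p ∣ deg χ := hpψ.trans h1
    have hχh : deg χ = h := by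
      rcases hcd χ with h' | h' | h'
      · rw [h'] at hpχ
        exact absurd (Nat.dvd_one.mp hpχ) hp.one_lt.ne'
      · rw [h'] at hpχ
        exact absurd hpχ hpf
      · exact h'
    rw [hχh] at h1 h2
    exact Nat.dvd_antisymm h1 (hcop.symm.dvd_of_dvd_mul_right h2)
  · left
    obtain ⟨χ, hχ⟩ := hF ψ hpψ
    rcases hcd χ with h' | h' | h'
    · rw [hχ] at h'
      exact absurd (Nat.eq_one_of_mul_eq_one_right h') hf1
    · rw [hχ] at h'
      exact Nat.eq_of_mul_eq_mul_left hf0 (by rw [h', mul_one])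
    · rw [hχ] at h'
      have h3 : N.index ∣ h := Dvd.intro _ h'
      exact absurd (Nat.Coprime.eq_one_of_dvd hcop h3) hf1

/-- The coprime case of the solvability theorem. -/
theorem solvable_coprime_step
    (ih : ∀ (X : Type u) [Group X] [Finite X], Nat.card X < Nat.card G →
      ∀ a b : ℕ, Cd X a b → Group.IsSolvable X)
    (m n : ℕ) (H : Hyp G m n) (hm : ∃ χ : IrrCharacter G, deg χ = m)
    (hn : ∃ ψ : IrrCharacter G, deg ψ = n) : Group.IsSolvable G := by
  classical
  have hcdG : Cd G m n := H.hcd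
  obtain ⟨φ, hφ1, g, hg1, hgφ⟩ := exists_nonfaithful H hm hn
  set K₀ := Cfsg.Agent.Lib.helper3.PDeg.kerSub (isChar φ) with hK₀
  haveI hK₀n : K₀.Normal := Cfsg.Agent.Lib.helper3.PDeg.kerSub_normal (isChar φ)
  have hgK₀ : g ∈ K₀ := hgφ
  have hK₀bot : K₀ ≠ ⊥ := by
    intro h
    rw [h, Subgroup.mem_bot] at hgK₀
    exact hg1 hgK₀
  have hcomm₀ : ¬ commutator G ≤ K₀ := by
    intro hle
    apply hφ1
    apply deg_eq_one_of_commutator_le_ker
    intro x hx
    exact hle hx
  have hlt₀ : Nat.card (G ⧸ K₀) < Nat.card G := by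
    rw [← Subgroup.index_eq_card, ← K₀.index_mul_card]
    have h1 : 1 < Nat.card K₀ := (Subgroup.one_lt_card_iff_ne_bot K₀).mpr hK₀bot
    have h2 : 0 < K₀.index := Nat.pos_of_ne_zero Subgroup.index_ne_zero_of_finite
    nlinarith
  have hsolv₀ : Group.IsSolvable (G ⧸ K₀) := ih (G ⧸ K₀) hlt₀ m n (hcdG.quotient K₀)
  obtain ⟨k, hk⟩ := (Group.isSolvable_def _).mp hsolv₀
  have hder₀ : derivedSeries G k ≤ K₀ := derivedSeries_le_of_quotient K₀ k hk
  obtain ⟨K, hKn, hK₀K, hKcomm, hKmax⟩ := exists_max_nonabelian_quotient K₀ hcomm₀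
  haveI := hKn
  obtain ⟨hQsolv, hQna, hQmin⟩ := quotient_props K hKcomm ⟨k, hder₀.trans hK₀K⟩ hKmax
  obtain ⟨p, hp, hcase | ⟨hNp, hNab, hpf, hfrob⟩⟩ := isaacs_12_3 hQsolv hQna hQmin
  · exact (no_pgroup_quotient m n H hm hn K p hp hcase hQna).elim
  · -- the Frobenius case
    have hNne : commutator (G ⧸ K) ≠ ⊥ := by
      intro h
      apply hQna
      intro a b
      have h1 : ⁅a, b⁆ ∈ commutator (G ⧸ K) := by
        rw [commutator_def]
        exact Subgroup.commutator_mem_commutator (Subgroup.mem_top a) (Subgroup.mem_top b)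
      rw [h, Subgroup.mem_bot, commutatorElement_eq_one_iff_commute] at h1
      exact h1
    haveI : Nontrivial (G ⧸ K) := by
      by_contra hnt
      haveI : Subsingleton (G ⧸ K) := not_nontrivial_iff_subsingleton.mp hnt
      exact hQna (fun a b => Subsingleton.elim _ _)
    have hNtop : commutator (G ⧸ K) ≠ ⊤ :=
      (Group.IsSolvable.commutator_lt_top_of_nontrivial (G ⧸ K)).ne
    have hf1 : (commutator (G ⧸ K)).index ≠ 1 := fun h => hNtop (Subgroup.index_eq_one.mp h)
    obtain ⟨⟨χ₁, hχ₁, -⟩, -⟩ := frob_degrees K (commutator (G ⧸ K)) p hp hNp hNab hNne hfrob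
    have hm1 := H.hm
    have hmn := H.hmn
    set L := preim K (commutator (G ⧸ K)) with hL
    have hidx : L.index = (commutator (G ⧸ K)).index :=
      Subgroup.index_comap_of_surjective _ (QuotientGroup.mk'_surjective K)
    have hLtop : L ≠ ⊤ := by
      intro h
      rw [← Subgroup.index_eq_one, hidx] at h
      exact hf1 h
    have hltL : Nat.card L < Nat.card G := by
      apply lt_of_le_of_ne (Subgroup.card_le_card_group L)
      intro heq
      exact hLtop ((Subgroup.card_eq_iff_eq_top L).mp heq)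
    have hGL : commutator G ≤ L := by
      intro x hx
      show QuotientGroup.mk' K x ∈ commutator (G ⧸ K)
      rw [commutator_quotient K]
      exact ⟨x, hx, rfl⟩
    haveI hLn : L.Normal := inferInstance
    have hsolvQ : Group.IsSolvable (G ⧸ L) :=
      Group.isSolvable_of_comm (quotient_comm_of_commutator_le _ hGL)
    have hLsolv : Group.IsSolvable L := by
      rcases H.hcd χ₁ with h' | h' | h'
      · rw [hχ₁] at h'
        exact absurd h' hf1
      · rw [hχ₁] at h'
        have hdeg := frob_kernel_degrees K p hp hNp hNab hNne hpf hfrob n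
          (by rw [h']; exact H.hcd) (by rw [h']; exact H.hcop) hf1
        exact ih L hltL n n (fun ψ => by
          rcases hdeg ψ with h1 | h1
          · left; exact h1
          · right; left; exact h1)
      · rw [hχ₁] at h'
        have hdeg := frob_kernel_degrees K p hp hNp hNab hNne hpf hfrob m
          (by rw [h']; exact hcdG.symm) (by rw [h']; exact H.hcop.symm) hf1
        exact ih L hltL m m (fun ψ => by
          rcases hdeg ψ with h1 | h1
          · left; exact h1
          · right; left; exact h1)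
    exact Group.isSolvable_of_ker_le_range L.subtype (QuotientGroup.mk' L) (by simp)

end main

end Cfsg.Agent.Lib.Helper7.Cd3
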