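import Mathlib
import Cfsg.Prelude.Def_Characters
import Cfsg.Prelude.Def_Blocks
import Cfsg.Agent.Lib.Helper7.Cd3G

set_option autoImplicit false
set_option linter.style.haveILetI false
set_option linter.unusedSectionVars false

/-!
# Three character degrees, part H: the solvability theorem
-/

namespace Cfsg.Agent.Lib.Helper7.Cd3

open Cfsg Module Cfsg.Agent.Lib.helper3.Irr Cfsg.Agent.Lib.helper3.IndFun
open Cfsg.Agent.Lib.helper3.CharBasic Cfsg.Agent.Lib.helper3.Central
open Cfsg.Agent.Lib.Helper7.ThreeDeg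
open scoped ComplexConjugate

universe u

theorem solvable_aux : ∀ (n : ℕ) (G : Type u) [Group G] [Finite G], Nat.card G = n →
    ∀ a b : ℕ, Cd G a b → Group.IsSolvable G := by
  intro n
  induction n using Nat.strong_induction_on with
  | _ n ih =>
    intro G _ _ hcard a b h
    classical
    letI : Fintype G := Fintype.ofFinite G
    have ih' : ∀ (X : Type u) [Group X] [Finite X], Nat.card X < Nat.card G →
        ∀ a b : ℕ, Cd X a b → Group.IsSolvable X :=
      fun X _ _ hlt a b hX => ih (Nat.card X) (hcard ▸ hlt) X rfl a b hX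
    by_cases hab : ∀ x y : G, x * y = y * x
    · exact Group.isSolvable_of_comm hab
    by_cases hA : ∃ p : ℕ, p.Prime ∧ ∀ χ : IrrCharacter G, deg χ ≠ 1 → p ∣ deg χ
    · obtain ⟨p, hp, hdiv⟩ := hA
      obtain ⟨N, hNn, hcop, k, hk⟩ := Cfsg.Agent.S4456.result p hp hdiv
      haveI := hNn
      obtain ⟨χ₀, hχ₀⟩ := exists_deg_ne_one hab
      have hpG : p ∣ Nat.card G := (hdiv χ₀ hχ₀).trans (deg_dvd_card χ₀)
      have hNtop : N ≠ ⊤ := by
        intro h'
        rw [h', Subgroup.card_top] at hcop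
        exact (Nat.Prime.coprime_iff_not_dvd hp).mp hcop.symm hpG
      have hlt : Nat.card N < Nat.card G := by
        apply lt_of_le_of_ne (Subgroup.card_le_card_group N)
        intro heq
        exact hNtop ((Subgroup.card_eq_iff_eq_top N).mp heq)
      haveI h1 : Group.IsSolvable N := ih' N hlt _ _ (h.pcomplement p hp N hcop k hk)
      haveI h2 : Group.IsSolvable (G ⧸ N) :=
        solvable_of_card_prime_pow hp (by rw [← Subgroup.index_eq_card, hk])
      exact Group.isSolvable_of_ker_le_range N.subtype (QuotientGroup.mk' N) (by simp)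
    · push Not at hA
      obtain ⟨χ₁, hχ₁⟩ := exists_deg_ne_one hab
      obtain ⟨p, hp, hpd⟩ := Nat.exists_prime_and_dvd hχ₁
      obtain ⟨χ₂, hχ₂, hpχ₂⟩ := hA p hp
      have hne : deg χ₁ ≠ deg χ₂ := fun he => hpχ₂ (he ▸ hpd)
      have hcd' : ∀ χ : IrrCharacter G, deg χ = 1 ∨ deg χ = deg χ₁ ∨ deg χ = deg χ₂ := by
        intro χ
        rcases h χ₁ with h1 | h1 | h1 <;> rcases h χ₂ with h2 | h2 | h2 <;>
          rcases h χ with h3 | h3 | h3 <;> omega
      have hcop : (deg χ₁).Coprime (deg χ₂) := by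
        by_contra hnc
        obtain ⟨r, hr, hr1, hr2⟩ := Nat.Prime.not_coprime_iff_dvd.mp hnc
        obtain ⟨χ₃, hχ₃, hrχ₃⟩ := hA r hr
        rcases hcd' χ₃ with h3 | h3 | h3
        · exact hχ₃ h3
        · exact hrχ₃ (h3 ▸ hr1)
        · exact hrχ₃ (h3 ▸ hr2)
      have hpos₁ := deg_pos χ₁
      have hpos₂ := deg_pos χ₂
      rcases lt_or_gt_of_ne hne with hlt | hlt
      · exact solvable_coprime_step ih' (deg χ₁) (deg χ₂)
          ⟨by omega, hlt, hcop, hcd'⟩ ⟨χ₁, rfl⟩ ⟨χ₂, rfl⟩
      · exact solvable_coprime_step ih' (deg χ₂) (deg χ₁)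
          ⟨by omega, hlt, hcop.symm, fun χ => by
            rcases hcd' χ with h3 | h3 | h3
            · left; exact h3
            · right; right; exact h3
            · right; left; exact h3⟩ ⟨χ₂, rfl⟩ ⟨χ₁, rfl⟩

/-- **Isaacs–Passman.** A finite group with at most three irreducible character degrees is
solvable. -/
theorem solvable_of_cd {G : Type u} [Group G] [Finite G] (a b : ℕ) (h : Cd G a b) :
    Group.IsSolvable G :=
  solvable_aux (Nat.card G) G rfl a b h

end Cfsg.Agent.Lib.Helper7.Cd3
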