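import Mathlib
import Cfsg.Prelude.Def_Characters
import Cfsg.Prelude.Def_Blocks
import Cfsg.Prelude.Def_Solvable
import Cfsg.Agent.Lib.Helper7.Cd3H
import Cfsg.Agent.Lib.helper3.CentralSection
import Cfsg.Agent.H1.Cores

set_option autoImplicit false
set_option linter.style.haveILetI false
set_option linter.unusedSectionVars false

/-!
# Three character degrees, part I: auxiliary facts for the derived length bound
-/

namespace Cfsg.Agent.Lib.Helper7.Cd3

open Cfsg Module Cfsg.Agent.Lib.helper3.Irr Cfsg.Agent.Lib.helper3.IndFun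
open Cfsg.Agent.Lib.helper3.CharBasic Cfsg.Agent.Lib.helper3.Central
open Cfsg.Agent.Lib.Helper7.ThreeDeg
open scoped ComplexConjugate
open scoped commutatorElement

universe u

/-- The kernel of a character is contained in the kernel of each irreducible constituent. -/
theorem apply_eq_of_constituent {X : Type u} [Group X] [Fintype X] {ψ : X → ℂ}
    (hψ : IsCharacter X ψ) (θ : IrrCharacter X) (hcon : classInner ψ (θ : X → ℂ) ≠ 0) {x : X}
    (hx : ψ x = ψ 1) : (θ : X → ℂ) x = (θ : X → ℂ) 1 := by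
  obtain ⟨n, ρ, hρ⟩ := isCharacter_sub_of_classInner_ne_zero hψ θ hcon
  obtain ⟨m, σ, -, hσ⟩ := θ.2
  have h1 : σ.character x + ρ.character x
      = ((finrank ℂ (Fin m → ℂ) : ℝ) : ℂ) + ((finrank ℂ (Fin n → ℂ) : ℝ) : ℂ) := by
    have e1 : σ.character 1 = (finrank ℂ (Fin m → ℂ) : ℂ) := Representation.char_one σ
    have e2 : ρ.character 1 = (finrank ℂ (Fin n → ℂ) : ℂ) := Representation.char_one ρ
    push_cast
    rw [← e1, ← e2, hρ, hσ]
    simp only [Pi.sub_apply]
    rw [hx]
    ring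
  have h2 := eq_of_add_eq_add_of_norm_le (norm_character_le σ x) (norm_character_le ρ x) h1
  rw [← hσ, h2]
  have e1 : σ.character 1 = (finrank ℂ (Fin m → ℂ) : ℂ) := Representation.char_one σ
  rw [e1]
  push_cast
  rfl

section grp

variable {H : Type u} [Group H] [Finite H]

/-- An abelian normal subgroup of order divisible by `q` contains a nontrivial normal
`q`-subgroup. -/
theorem exists_normal_pgroup_of_dvd (A : Subgroup H) [hA : A.Normal]
    (hab : ∀ x ∈ A, ∀ y ∈ A, x * y = y * x) (q : ℕ) [hq : Fact q.Prime]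
    (hqA : q ∣ Nat.card A) :
    ∃ B : Subgroup H, B.Normal ∧ B ≠ ⊥ ∧ B ≤ A ∧ IsPGroup q B := by
  let B : Subgroup H :=
    { carrier := {x | x ∈ A ∧ x ^ q = 1}
      mul_mem' := by
        rintro a b ⟨ha, ha'⟩ ⟨hb, hb'⟩
        refine ⟨A.mul_mem ha hb, ?_⟩
        rw [(show Commute a b from hab a ha b hb).mul_pow, ha', hb', one_mul]
      one_mem' := ⟨A.one_mem, one_pow q⟩
      inv_mem' := by
        rintro a ⟨ha, ha'⟩
        exact ⟨A.inv_mem ha, by rw [inv_pow, ha', inv_one]⟩ }
  refine ⟨B, ?_, ?_, fun x hx => hx.1, ?_⟩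
  · constructor
    rintro x ⟨hx, hx'⟩ g
    refine ⟨hA.conj_mem x hx g, ?_⟩
    rw [conj_pow, hx', mul_one, mul_inv_cancel]
  · obtain ⟨x, hx⟩ := exists_prime_orderOf_dvd_card' (G := A) q hqA
    intro h
    have hxm : (x : H) ∈ B := by
      refine ⟨x.2, ?_⟩
      rw [← Subgroup.coe_pow, ← hx, pow_orderOf_eq_one]
      rfl
    rw [h, Subgroup.mem_bot] at hxm
    have hx1 : x = 1 := Subtype.ext hxm
    rw [hx1, orderOf_one] at hx
    exact hq.out.one_lt.ne hx
  · intro x
    refine ⟨1, ?_⟩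
    apply Subtype.ext
    rw [pow_one, Subgroup.coe_pow, x.2.2]
    rfl

/-- A nontrivial normal subgroup contained in every nontrivial normal subgroup of a solvable
group is a `q`-group for some prime `q`. -/
theorem isPGroup_of_unique_minimal (hsolv : Group.IsSolvable H) (V : Subgroup H) [hV : V.Normal]
    (hVne : V ≠ ⊥) (hmin : ∀ M : Subgroup H, M.Normal → M ≠ ⊥ → V ≤ M) :
    ∃ q : ℕ, q.Prime ∧ IsPGroup q V := by
  classical
  -- `V` is abelian
  have hVab : ∀ a ∈ V, ∀ b ∈ V, a * b = b * a := by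
    have hV' : ⁅V, V⁆ = ⊥ := by
      by_contra hne
      have h1 : V ≤ ⁅V, V⁆ := hmin _ inferInstance hne
      have h2 : ⁅V, V⁆ = V := le_antisymm (Subgroup.commutator_le_left V V) h1
      haveI : Nontrivial V := (Subgroup.nontrivial_iff_ne_bot V).mpr hVne
      haveI : Group.IsSolvable V := inferInstance
      have h3 := Group.IsSolvable.commutator_lt_top_of_nontrivial V
      have h4 : (commutator V).map V.subtype = ⁅V, V⁆ := Subgroup.map_subtype_commutator V
      rw [h2] at h4
      apply h3.ne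
      rw [eq_top_iff]
      intro x _
      have hx : (x : H) ∈ (commutator V).map V.subtype := by rw [h4]; exact x.2
      obtain ⟨y, hy, hyx⟩ := hx
      have : y = x := Subtype.ext hyx
      rw [← this]
      exact hy
    intro a ha b hb
    have h1 : ⁅a, b⁆ ∈ ⁅V, V⁆ := Subgroup.commutator_mem_commutator ha hb
    rw [hV', Subgroup.mem_bot, commutatorElement_eq_one_iff_commute] at h1
    exact h1
  have hcard : 1 < Nat.card V := (Subgroup.one_lt_card_iff_ne_bot V).mpr hVne
  obtain ⟨q, hq, hqd⟩ := Nat.exists_prime_and_dvd (ne_of_gt hcard)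
  haveI : Fact q.Prime := ⟨hq⟩
  obtain ⟨B, hBn, hBne, hBV, hBq⟩ := exists_normal_pgroup_of_dvd V hVab q hqd
  have hVB : V = B := le_antisymm (hmin B hBn hBne) hBV
  refine ⟨q, hq, ?_⟩
  rw [hVB]
  exact hBq

/-- The quotient by the `q`-core has trivial `q`-core. -/
theorem eq_bot_of_normal_pgroup_quotient (q : ℕ) [hq : Fact q.Prime]
    (B : Subgroup (H ⧸ Cfsg.pCore q H)) (hBn : B.Normal) (hBq : IsPGroup q B) : B = ⊥ := by
  haveI := hBn
  have h1 : IsPGroup q (B.comap (QuotientGroup.mk' (Cfsg.pCore q H))) := by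
    apply hBq.comap_of_ker_isPGroup
    rw [QuotientGroup.ker_mk']
    exact Cfsg.Agent.H1.pCore_isPGroup q
  have h2 : B.comap (QuotientGroup.mk' (Cfsg.pCore q H)) ≤ Cfsg.pCore q H :=
    Cfsg.Agent.H1.le_pCore inferInstance h1
  rw [eq_bot_iff]
  intro b hb
  obtain ⟨x, rfl⟩ := QuotientGroup.mk_surjective b
  rw [Subgroup.mem_bot]
  exact (QuotientGroup.eq_one_iff x).mpr (h2 hb)

end grp

end Cfsg.Agent.Lib.Helper7.Cd3
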