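import Mathlib
import Cfsg.Prelude.Def_Characters
import Cfsg.Prelude.Def_Blocks
import Cfsg.Agent.Lib.Helper7.Cd3I

set_option autoImplicit false
set_option linter.style.haveILetI false
set_option linter.unusedSectionVars false

/-!
# Three character degrees, part J: the case of a normal Sylow subgroup
-/

namespace Cfsg.Agent.Lib.Helper7.Cd3

open Cfsg Module Cfsg.Agent.Lib.helper3.Irr Cfsg.Agent.Lib.helper3.IndFun
open Cfsg.Agent.Lib.helper3.CharBasic Cfsg.Agent.Lib.helper3.Central
open Cfsg.Agent.Lib.Helper7.ThreeDeg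
open scoped ComplexConjugate
open scoped commutatorElement

universe u

variable {G : Type u} [Group G] [Fintype G]

/-- The third derived subgroup lies in the commutator subgroup of any subgroup containing the
second derived subgroup. -/
theorem derived3_le_commutator (F : Subgroup G) (h : derivedSeries G 2 ≤ F) :
    derivedSeries G 3 ≤ ⁅F, F⁆ := by
  rw [derivedSeries_succ]
  exact Subgroup.commutator_mono h h

/-- If `F` is abelian and contains the second derived subgroup, the third one is trivial. -/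
theorem derived3_eq_bot_of_comm (F : Subgroup G) (h : derivedSeries G 2 ≤ F)
    (hab : ∀ x ∈ F, ∀ y ∈ F, x * y = y * x) : derivedSeries G 3 = ⊥ := by
  rw [eq_bot_iff]
  apply (derived3_le_commutator F h).trans
  rw [Subgroup.commutator_le]
  intro x hx y hy
  rw [Subgroup.mem_bot, commutatorElement_eq_one_iff_commute]
  exact hab x hx y hy

/-- Degrees over a normal Sylow `q`-subgroup `F` with solvable quotient. -/
theorem sylow_core_degrees (hsolv : Group.IsSolvable G) (q : ℕ) [hq : Fact q.Prime]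
    (F : Subgroup G) [hF : F.Normal] [Fintype F] (hFq : IsPGroup q F) (hidx : ¬ q ∣ F.index)
    (χ : IrrCharacter G) (ν : IrrCharacter F)
    (hcon : classInner (fun x : F => (χ : G → ℂ) x) (ν : F → ℂ) ≠ 0) :
    (deg ν ≠ 1 → q ∣ deg χ) ∧ (deg ν = 1 → ¬ q ∣ deg χ) ∧
      ∃ i : ℕ, deg ν = q ^ i ∧ deg ν ∣ deg χ ∧ deg χ ∣ q ^ i * F.index := by
  have hsolvQ : Group.IsSolvable (G ⧸ F) := inferInstance
  have h1 := deg_dvd_of_under F χ ν hcon
  have h2 := deg_dvd_mul_index F hsolvQ χ ν hcon
  obtain ⟨j, hj⟩ := IsPGroup.iff_card.mp hFq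
  have h3 := deg_dvd_card ν
  rw [hj] at h3
  obtain ⟨i, -, hi⟩ := (Nat.dvd_prime_pow hq.out).mp h3
  refine ⟨?_, ?_, i, hi, h1, hi ▸ h2⟩
  · intro hne
    have hi0 : i ≠ 0 := by
      intro h0
      rw [h0, pow_zero] at hi
      exact hne hi
    exact (hi ▸ dvd_pow_self q hi0 : q ∣ deg ν).trans h1
  · intro h1' hqχ
    rw [h1', one_mul] at h2
    exact hidx (hqχ.trans h2)

/-- The case of a normal Sylow `q`-subgroup where `q` divides `d` but not `c`. -/
theorem dl3_of_sylow_core_aux (hsolv : Group.IsSolvable G) (c d : ℕ) (h : Cd G c d)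
    (q : ℕ) [hq : Fact q.Prime] (F : Subgroup G) [hF : F.Normal] (hFq : IsPGroup q F)
    (hidx : ¬ q ∣ F.index) (hqc : ¬ q ∣ c) (hqd : q ∣ d) : derivedSeries G 3 = ⊥ := by
  classical
  letI : Fintype F := Fintype.ofFinite _
  -- characters with `F'` in the kernel
  have hM : ∀ χ : IrrCharacter G, (∀ n ∈ ⁅F, F⁆, (χ : G → ℂ) n = (χ : G → ℂ) 1) →
      deg χ = 1 ∨ deg χ = c := by
    intro χ hχ
    obtain ⟨ν, hν⟩ := exists_under F χ
    have hν1 : deg ν = 1 := by
      apply deg_eq_one_of_commutator_le_ker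
      intro y hy
      apply apply_eq_of_constituent (isCharacter_restrict (isChar χ) F) ν hν
      simp only [OneMemClass.coe_one]
      apply hχ
      rw [← Subgroup.map_subtype_commutator]
      exact ⟨y, hy, rfl⟩
    have hnq := (sylow_core_degrees hsolv q F hFq hidx χ ν hν).2.1 hν1
    rcases h χ with h' | h' | h'
    · left; exact h'
    · right; exact h'
    · rw [h'] at hnq
      exact absurd hqd hnq
  have hG2 : derivedSeries G 2 ≤ ⁅F, F⁆ := derived2_le_of_degrees ⁅F, F⁆ c hM
  -- the degrees of `F`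
  have hover : ∀ ν : IrrCharacter F, deg ν ≠ 1 →
      ∃ i : ℕ, deg ν = q ^ i ∧ q ^ i ∣ d ∧ d ∣ q ^ i * F.index := by
    intro ν hν1
    obtain ⟨χ, hχ⟩ := exists_irr_over F ν ν.2
    obtain ⟨hq1, -, i, hi, h1, h2⟩ := sylow_core_degrees hsolv q F hFq hidx χ ν hχ
    have hqχ := hq1 hν1
    have hχd : deg χ = d := by
      rcases h χ with h' | h' | h'
      · rw [h'] at hqχ
        exact absurd (Nat.dvd_one.mp hqχ) hq.out.one_lt.ne'
      · rw [h'] at hqχ
        exact absurd hqχ hqc
      · exact h'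
    rw [hχd] at h1 h2
    exact ⟨i, hi, hi ▸ h1, h2⟩
  have hcopq : ∀ i : ℕ, (q ^ i).Coprime F.index := fun i =>
    Nat.Coprime.pow_left i ((Nat.Prime.coprime_iff_not_dvd hq.out).mpr hidx)
  have hFdeg : ∃ m : ℕ, ∀ ν : IrrCharacter F, deg ν = 1 ∨ deg ν = m := by
    by_cases hex : ∃ ν₀ : IrrCharacter F, deg ν₀ ≠ 1
    · obtain ⟨ν₀, hν₀⟩ := hex
      refine ⟨deg ν₀, ?_⟩
      intro ν
      by_cases hν1 : deg ν = 1
      · left; exact hν1
      · right
        obtain ⟨i, hi, hi1, hi2⟩ := hover ν hν1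
        obtain ⟨i₀, hi₀, hi₀1, hi₀2⟩ := hover ν₀ hν₀
        rw [hi, hi₀]
        apply Nat.dvd_antisymm
        · exact (hcopq i).dvd_of_dvd_mul_right (hi1.trans hi₀2)
        · exact (hcopq i₀).dvd_of_dvd_mul_right (hi₀1.trans hi2)
    · push Not at hex
      exact ⟨1, fun ν => Or.inl (hex ν)⟩
  obtain ⟨m, hm⟩ := hFdeg
  have hF2 : derivedSeries F 2 = ⊥ := dl2_of_two_degrees m hm
  -- `F'` is abelian
  have hF'ab : ∀ x ∈ ⁅F, F⁆, ∀ y ∈ ⁅F, F⁆, x * y = y * x := by
    intro x hx y hy
    rw [← Subgroup.map_subtype_commutator] at hx hy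
    obtain ⟨x', hx', rfl⟩ := hx
    obtain ⟨y', hy', rfl⟩ := hy
    have h1 : ⁅x', y'⁆ ∈ derivedSeries F 2 := by
      rw [derivedSeries_succ, derivedSeries_one]
      exact Subgroup.commutator_mem_commutator hx' hy'
    rw [hF2, Subgroup.mem_bot, commutatorElement_eq_one_iff_commute] at h1
    have h2 : x' * y' = y' * x' := h1
    have h3 := congrArg (F.subtype) h2
    simpa using h3
  exact derived3_eq_bot_of_comm ⁅F, F⁆ hG2 hF'ab

/-- **The normal Sylow case.** If `F` is a normal Sylow `q`-subgroup containing the second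
derived subgroup and `q` does not divide both `a` and `b`, the third derived subgroup is
trivial. -/
theorem dl3_of_sylow_core (hsolv : Group.IsSolvable G) (a b : ℕ) (h : Cd G a b)
    (q : ℕ) [hq : Fact q.Prime] (F : Subgroup G) [hF : F.Normal] (hFq : IsPGroup q F)
    (hidx : ¬ q ∣ F.index) (hnot : ¬ (q ∣ a ∧ q ∣ b)) (hG2 : derivedSeries G 2 ≤ F) :
    derivedSeries G 3 = ⊥ := by
  classical
  letI : Fintype F := Fintype.ofFinite _
  by_cases hqa : q ∣ a
  · have hqb : ¬ q ∣ b := fun hb => hnot ⟨hqa, hb⟩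
    exact dl3_of_sylow_core_aux hsolv b a h.symm q F hFq hidx hqb hqa
  · by_cases hqb : q ∣ b
    · exact dl3_of_sylow_core_aux hsolv a b h q F hFq hidx hqa hqb
    · -- all characters of `F` are linear
      have hlin : ∀ ν : IrrCharacter F, deg ν = 1 := by
        intro ν
        by_contra hν1
        obtain ⟨χ, hχ⟩ := exists_irr_over F ν ν.2
        have hqχ := (sylow_core_degrees hsolv q F hFq hidx χ ν hχ).1 hν1
        rcases h χ with h' | h' | h'
        · rw [h'] at hqχ
          exact absurd (Nat.dvd_one.mp hqχ) hq.out.one_lt.ne'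
        · rw [h'] at hqχ
          exact hqa hqχ
        · rw [h'] at hqχ
          exact hqb hqχ
      have hab := comm_of_deg_one hlin
      apply derived3_eq_bot_of_comm F hG2
      intro x hx y hy
      have := hab ⟨x, hx⟩ ⟨y, hy⟩
      exact congrArg Subtype.val this

end Cfsg.Agent.Lib.Helper7.Cd3
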