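import Mathlib
import Cfsg.Prelude.Def_Characters
import Cfsg.Prelude.Def_Blocks
import Cfsg.Prelude.Def_Solvable
import Cfsg.Agent.Lib.Helper7.Cd3J
import Cfsg.Agent.Lib.helper3.TwoDeg4
import Cfsg.Agent.Lib.helper3.CliffCorr

set_option autoImplicit false
set_option linter.style.haveILetI false
set_option linter.unusedSectionVars false
set_option maxHeartbeats 800000

/-!
# Three character degrees, part K: the case where the `q`-core is not a Sylow subgroup
-/

namespace Cfsg.Agent.Lib.Helper7.Cd3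

open Cfsg Module Cfsg.Agent.Lib.helper3.Irr Cfsg.Agent.Lib.helper3.IndFun
open Cfsg.Agent.Lib.helper3.CharBasic Cfsg.Agent.Lib.helper3.Central
open Cfsg.Agent.Lib.Helper7.ThreeDeg
open scoped ComplexConjugate
open scoped commutatorElement

universe u

section grp

variable {H : Type u} [Group H]

theorem commutator_ne_bot_of_nonabelian (hna : ¬ ∀ a b : H, a * b = b * a) :
    commutator H ≠ ⊥ := by
  intro h
  apply hna
  intro a b
  have h1 : ⁅a, b⁆ ∈ commutator H := by
    rw [commutator_def]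
    exact Subgroup.commutator_mem_commutator (Subgroup.mem_top a) (Subgroup.mem_top b)
  rw [h, Subgroup.mem_bot, commutatorElement_eq_one_iff_commute] at h1
  exact h1

theorem commutator_ne_top_of_solvable (hsolv : Group.IsSolvable H)
    (hna : ¬ ∀ a b : H, a * b = b * a) : commutator H ≠ ⊤ := by
  haveI : Nontrivial H := by
    by_contra hnt
    haveI : Subsingleton H := not_nontrivial_iff_subsingleton.mp hnt
    exact hna (fun a b => Subsingleton.elim _ _)
  exact (Group.IsSolvable.commutator_lt_top_of_nontrivial H).ne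

end grp

variable {G : Type u} [Group G] [Fintype G]

/-- If the quotient by the `q`-core `F` has degrees `{1, a}` and `q` divides `|G : F|`, then
`G/F` is nonabelian, `q` divides `a`, and there is a normal subgroup `A ⊇ F` of index `a` all of
whose elements have a power prime to `q` in `F`. -/
theorem core_quotient_structure (a : ℕ) (q : ℕ) [hq : Fact q.Prime]
    (hqidx : q ∣ (Cfsg.pCore q G).index)
    (hF : ∀ χ : IrrCharacter G, (∀ x ∈ Cfsg.pCore q G, (χ : G → ℂ) x = (χ : G → ℂ) 1) →
      deg χ = 1 ∨ deg χ = a) :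
    ¬ commutator G ≤ Cfsg.pCore q G ∧ q ∣ a ∧
      ∃ (A : Subgroup G) (m : ℕ), A.index = a ∧ ¬ q ∣ m ∧ ∀ x ∈ A, x ^ m ∈ Cfsg.pCore q G := by
  classical
  set F := Cfsg.pCore q G with hFdef
  haveI hFn : F.Normal := Cfsg.Agent.H1.pCore_normal q
  letI : Fintype (G ⧸ F) := Fintype.ofFinite _
  have hcommF : ¬ commutator G ≤ F := by
    intro hle
    obtain ⟨S⟩ : Nonempty (Sylow q G) := inferInstance
    have hFS : F ≤ S := Cfsg.Agent.H1.pCore_le_sylow S
    have hSn : (S : Subgroup G).Normal := Subgroup.Normal.of_commutator_le G (hle.trans hFS)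
    have hSF : (S : Subgroup G) ≤ F := Cfsg.Agent.H1.le_pCore hSn S.isPGroup'
    have heq : F = S := le_antisymm hFS hSF
    have := S.not_dvd_index
    rw [← heq] at this
    exact this hqidx
  refine ⟨hcommF, ?_⟩
  have hQna : ¬ ∀ x y : G ⧸ F, x * y = y * x := fun h => hcommF (commutator_le_of_quotient_comm F h)
  have hcdQ : ∀ φ : IrrCharacter (G ⧸ F), deg φ = 1 ∨ deg φ = a := by
    intro φ
    rw [← deg_infl F φ]
    exact hF (infl F φ) (fun x hx => infl_apply_of_mem F φ hx)
  obtain ⟨φ₀, hφ₀⟩ := exists_deg_ne_one hQna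
  have hφ₀a : deg φ₀ = a := by
    rcases hcdQ φ₀ with h' | h'
    · exact absurd h' hφ₀
    · exact h'
  have ha1 : a ≠ 1 := fun h => hφ₀ (hφ₀a.trans h)
  have hqcard : q ∣ Nat.card (G ⧸ F) := by
    rw [← Subgroup.index_eq_card]
    exact hqidx
  have htriv : ∀ B : Subgroup (G ⧸ F), B.Normal → IsPGroup q B → B = ⊥ :=
    fun B hBn hBq => eq_bot_of_normal_pgroup_quotient q B hBn hBq
  have hAq : ∀ A : Subgroup (G ⧸ F), A.Normal → (∀ x ∈ A, ∀ y ∈ A, x * y = y * x) →
      ¬ q ∣ Nat.card A := by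
    intro A hAn hAab hqA
    haveI := hAn
    obtain ⟨B, hBn, hBne, -, hBq⟩ := exists_normal_pgroup_of_dvd A hAab q hqA
    exact hBne (htriv B hBn hBq)
  rcases Cfsg.Agent.Lib.helper3.TwoDeg.two_degrees_structure' a hcdQ ⟨φ₀, hφ₀a⟩ ha1 with
    ⟨A, hAn, hAab, hAidx⟩ | ⟨p, e, hp, -, P, A, hPn, hAn, hPp, hAab, -, hsup⟩
  · haveI := hAn
    have hqA := hAq A hAn hAab
    have hcard : Nat.card (G ⧸ F) = a * Nat.card A := by
      rw [← hAidx]
      exact (Subgroup.index_mul_card A).symm
    rw [hcard] at hqcard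
    have hqa : q ∣ a := by
      rcases (Nat.Prime.dvd_mul hq.out).mp hqcard with h' | h'
      · exact h'
      · exact absurd h' hqA
    refine ⟨hqa, A.comap (QuotientGroup.mk' F), Nat.card A, ?_, hqA, ?_⟩
    · rw [Subgroup.index_comap_of_surjective A (QuotientGroup.mk'_surjective F), hAidx]
    · intro x hx
      have hx' : (QuotientGroup.mk' F x) ∈ A := hx
      have h1 : (⟨QuotientGroup.mk' F x, hx'⟩ : A) ^ Nat.card A = 1 := pow_card_eq_one'
      have h2 : (QuotientGroup.mk' F x) ^ Nat.card A = 1 := by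
        have h3 := congrArg Subtype.val h1
        rw [Subgroup.coe_pow] at h3
        exact h3
      rw [← map_pow] at h2
      exact (QuotientGroup.eq_one_iff _).mp h2
  · exfalso
    haveI := hAn
    haveI := hPn
    have hqA := hAq A hAn hAab
    have h1 := Cfsg.Agent.H1.card_sup_dvd_of_normal P A
    rw [hsup, Subgroup.card_top] at h1
    have h2 : q ∣ Nat.card P * Nat.card A := hqcard.trans h1
    have hqP : q ∣ Nat.card P := by
      rcases (Nat.Prime.dvd_mul hq.out).mp h2 with h' | h'
      · exact h'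
      · exact absurd h' hqA
    haveI : Fact p.Prime := ⟨hp⟩
    obtain ⟨j, hj⟩ := IsPGroup.iff_card.mp hPp
    rw [hj] at hqP
    have hqp : q = p := (Nat.prime_dvd_prime_iff_eq hq.out hp).mp (hq.out.dvd_of_dvd_pow hqP)
    have hPq : IsPGroup q P := by rw [hqp]; exact hPp
    have hPbot := htriv P hPn hPq
    rw [hPbot, Subgroup.card_bot] at hj
    rw [← hj] at hqP
    exact hq.out.one_lt.ne' (Nat.dvd_one.mp hqP)

end Cfsg.Agent.Lib.Helper7.Cd3
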