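import Mathlib
import Cfsg.Prelude.Def_Characters
import Cfsg.Prelude.Def_Blocks
import Cfsg.Prelude.Def_Solvable
import Cfsg.Agent.Lib.Helper7.Cd3K

set_option autoImplicit false
set_option linter.style.haveILetI false
set_option linter.unusedSectionVars false
set_option maxHeartbeats 800000

/-!
# Three character degrees, part L: the `q`-core is a Sylow subgroup
-/

namespace Cfsg.Agent.Lib.Helper7.Cd3

open Cfsg Module Cfsg.Agent.Lib.helper3.Irr Cfsg.Agent.Lib.helper3.IndFun
open Cfsg.Agent.Lib.helper3.CharBasic Cfsg.Agent.Lib.helper3.Central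
open Cfsg.Agent.Lib.Helper7.ThreeDeg
open scoped ComplexConjugate
open scoped commutatorElement

universe u

variable {G : Type u} [Group G] [Fintype G]

/-- In a solvable group with degrees `{1, a, b}` whose nonabelian `q`-core `F` has
`cd(G/F) ⊆ {1, a}`, and such that `q` does not divide both `a` and `b`, the index of `F` is
prime to `q`. -/
theorem false_of_core_index_dvd (hsolv : Group.IsSolvable G) (a b : ℕ) (h : Cd G a b)
    (q : ℕ) [hq : Fact q.Prime]
    (hqidx : q ∣ (Cfsg.pCore q G).index)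
    (hF : ∀ χ : IrrCharacter G, (∀ x ∈ Cfsg.pCore q G, (χ : G → ℂ) x = (χ : G → ℂ) 1) →
      deg χ = 1 ∨ deg χ = a)
    (hFna : ¬ ∀ x y : Cfsg.pCore q G, x * y = y * x)
    (hnot : ¬ (q ∣ a ∧ q ∣ b)) : False := by
  classical
  obtain ⟨hcommF, hqa, A, m, hAidx, hqm, hAm⟩ := core_quotient_structure a q hqidx hF
  have hqb : ¬ q ∣ b := fun hb => hnot ⟨hqa, hb⟩
  set F := Cfsg.pCore q G with hFdef
  haveI hFn : F.Normal := Cfsg.Agent.H1.pCore_normal q
  letI : Fintype F := Fintype.ofFinite _
  have hFq : IsPGroup q F := Cfsg.Agent.H1.pCore_isPGroup q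
  have ha2 : 2 ≤ a := by
    have := Nat.le_of_dvd (Nat.pos_of_ne_zero (by
      intro h0
      rw [h0] at hAidx
      exact Subgroup.index_ne_zero_of_finite hAidx)) hqa
    have := hq.out.two_le
    omega
  obtain ⟨K, hKn, hFK, hKcomm, hKmax⟩ := exists_max_nonabelian_quotient F hcommF
  haveI := hKn
  obtain ⟨n, hn⟩ := (Group.isSolvable_def G).mp hsolv
  obtain ⟨hQsolv, hQna, hQmin⟩ := quotient_props K hKcomm ⟨n, by rw [hn]; exact bot_le⟩ hKmax
  letI : Fintype (G ⧸ K) := Fintype.ofFinite _
  have hcdK : ∀ φ : IrrCharacter (G ⧸ K), deg φ = 1 ∨ deg φ = a := by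
    intro φ
    rw [← deg_infl K φ]
    exact hF (infl K φ) (fun x hx => infl_apply_of_mem K φ (hFK hx))
  obtain ⟨p, hp, hcase | ⟨hNp, hNab, hpf, hfrob⟩⟩ := isaacs_12_3 hQsolv hQna hQmin
  · -- the `p`-group case
    haveI : Fact p.Prime := ⟨hp⟩
    obtain ⟨β, hβ⟩ := exists_deg_ne_one hQna
    have hβa : deg β = a := by
      rcases hcdK β with h' | h'
      · exact absurd h' hβ
      · exact h'
    obtain ⟨j, hj⟩ := IsPGroup.iff_card.mp hcase
    have h1 := deg_dvd_card β
    rw [hβa, hj] at h1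
    have hqp : q = p :=
      (Nat.prime_dvd_prime_iff_eq hq.out hp).mp (hq.out.dvd_of_dvd_pow (hqa.trans h1))
    have hAK : A ≤ K := by
      intro x hx
      have e1 : (QuotientGroup.mk' K x) ^ (p ^ j) = 1 := by
        rw [← hj]
        exact pow_card_eq_one'
      have e2 : (QuotientGroup.mk' K x) ^ m = 1 := by
        rw [← map_pow]
        exact (QuotientGroup.eq_one_iff _).mpr (hFK (hAm x hx))
      have hcop : (p ^ j).Coprime m := by
        apply Nat.Coprime.pow_left
        rw [← hqp]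
        exact (Nat.Prime.coprime_iff_not_dvd hq.out).mpr hqm
      exact (QuotientGroup.eq_one_iff _).mp (eq_one_of_pow_of_pow e1 e2 hcop)
    have h2 : K.index ∣ a := hAidx ▸ Subgroup.index_dvd_of_le hAK
    have h3 : K.index ≤ a := Nat.le_of_dvd (by omega) h2
    have h4 := deg_sq_le_card β
    rw [hβa, ← Subgroup.index_eq_card] at h4
    nlinarith
  · -- the Frobenius case
    have hNne : commutator (G ⧸ K) ≠ ⊥ := commutator_ne_bot_of_nonabelian hQna
    have hNtop : commutator (G ⧸ K) ≠ ⊤ := commutator_ne_top_of_solvable hQsolv hQna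
    have hf1 : (commutator (G ⧸ K)).index ≠ 1 := fun h' => hNtop (Subgroup.index_eq_one.mp h')
    obtain ⟨⟨χ₁, hχ₁, hχ₁K⟩, hF2⟩ :=
      frob_degrees K (commutator (G ⧸ K)) p hp hNp hNab hNne hfrob
    have hfa : (commutator (G ⧸ K)).index = a := by
      rcases hF χ₁ (fun x hx => hχ₁K x (hFK hx)) with h' | h'
      · rw [hχ₁] at h'
        exact absurd h' hf1
      · rw [hχ₁] at h'
        exact h'
    set L := preim K (commutator (G ⧸ K)) with hL
    haveI hLn : L.Normal := inferInstance
    letI : Fintype L := Fintype.ofFinite _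
    have hKL : K ≤ L := by
      intro x hx
      show QuotientGroup.mk' K x ∈ commutator (G ⧸ K)
      have : (QuotientGroup.mk' K) x = 1 := (QuotientGroup.eq_one_iff x).mpr hx
      rw [this]
      exact Subgroup.one_mem _
    have hFL : F ≤ L := hFK.trans hKL
    -- a nonlinear character of `F`
    obtain ⟨ν, hν⟩ := exists_deg_ne_one hFna
    have hqν : q ∣ deg ν := by
      obtain ⟨j, hj⟩ := IsPGroup.iff_card.mp hFq
      have h1 := deg_dvd_card ν
      rw [hj] at h1
      obtain ⟨i, -, hi⟩ := (Nat.dvd_prime_pow hq.out).mp h1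
      rw [hi]
      rcases Nat.eq_zero_or_pos i with h0 | h0
      · rw [h0, pow_zero] at hi
        exact absurd hi hν
      · exact dvd_pow_self q h0.ne'
    -- a character of `L` over `ν`
    haveI : (F.subgroupOf L).Normal := Subgroup.normal_subgroupOf
    letI : Fintype (F.subgroupOf L) := Fintype.ofFinite _
    have hν' : IsIrrCharacter (F.subgroupOf L) (subFun F L (ν : F → ℂ)) :=
      isIrrCharacter_subFun hFL ν.2
    obtain ⟨ψ, hψ⟩ := exists_irr_over (G := L) (F.subgroupOf L) _ hν'
    have hdegν' : deg (⟨_, hν'⟩ : IrrCharacter (F.subgroupOf L)) = deg ν := by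
      unfold deg
      rfl
    have h1 : deg ν ∣ deg ψ := by
      rw [← hdegν']
      exact deg_dvd_of_under (G := L) (F.subgroupOf L) ψ ⟨_, hν'⟩ hψ
    have hqψ : q ∣ deg ψ := hqν.trans h1
    obtain ⟨χ, hχ⟩ := exists_irr_over L ψ ψ.2
    have h2 : deg ψ ∣ deg χ := deg_dvd_of_under L χ ψ hχ
    have hχa : deg χ = a := by
      have hqχ := hqψ.trans h2
      rcases h χ with h' | h' | h'
      · rw [h'] at hqχ
        exact absurd (Nat.dvd_one.mp hqχ) hq.out.one_lt.ne'
      · exact h'
      · rw [h'] at hqχ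
        exact absurd hqχ hqb
    rw [hχa] at h2
    have hpψ : ¬ p ∣ deg ψ := by
      intro hpψ
      apply hpf
      rw [hfa]
      exact hpψ.trans h2
    obtain ⟨χ', hχ'⟩ := hF2 ψ hpψ
    rw [hfa] at hχ'
    have hψ2 : 2 ≤ deg ψ := by
      have := Nat.le_of_dvd (deg_pos ψ) hqψ
      have := hq.out.two_le
      omega
    rcases h χ' with h' | h' | h'
    · rw [hχ'] at h'
      nlinarith
    · rw [hχ'] at h'
      nlinarith
    · rw [hχ'] at h'
      apply hqb
      rw [← h']
      exact Dvd.dvd.mul_left hqψ a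

end Cfsg.Agent.Lib.Helper7.Cd3
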