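import Mathlib
import Cfsg.Prelude.Def_Characters
import Cfsg.Prelude.Def_Blocks
import Cfsg.Prelude.Def_Solvable
import Cfsg.Agent.Lib.Helper7.Cd3L
import Cfsg.Agent.H2.BGThmB

set_option autoImplicit false
set_option linter.style.haveILetI false
set_option linter.unusedSectionVars false
set_option maxHeartbeats 800000

/-!
# Three character degrees, part M: derived length at most three (Isaacs 12.15)
-/

namespace Cfsg.Agent.Lib.Helper7.Cd3

open Cfsg Module Cfsg.Agent.Lib.helper3.Irr Cfsg.Agent.Lib.helper3.IndFun
open Cfsg.Agent.Lib.helper3.CharBasic Cfsg.Agent.Lib.helper3.Central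
open Cfsg.Agent.Lib.Helper7.ThreeDeg
open scoped ComplexConjugate
open scoped commutatorElement

universe u

/-- The inductive step: exactly three degrees `1 < a < b`. -/
theorem dl3_step {G : Type u} [Group G] [Fintype G]
    (ih : ∀ (X : Type u) [Group X] [Finite X], Nat.card X < Nat.card G →
      ∀ a b : ℕ, Cd X a b → derivedSeries X 3 = ⊥)
    (a b : ℕ) (hab : a < b) (ha1 : 1 < a) (h : Cd G a b) : derivedSeries G 3 = ⊥ := by
  classical
  by_contra hV
  have hsolv : Group.IsSolvable G := solvable_of_cd a b h
  set V := derivedSeries G 3 with hVdef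
  haveI hVn : V.Normal := derivedSeries_normal G 3
  have hVmin : ∀ M : Subgroup G, M.Normal → M ≠ ⊥ → V ≤ M := by
    intro M hMn hMne
    haveI := hMn
    have hlt : Nat.card (G ⧸ M) < Nat.card G := by
      rw [← Subgroup.index_eq_card, ← M.index_mul_card]
      have h1 : 1 < Nat.card M := (Subgroup.one_lt_card_iff_ne_bot M).mpr hMne
      have h2 : 0 < M.index := Nat.pos_of_ne_zero Subgroup.index_ne_zero_of_finite
      nlinarith
    exact derivedSeries_le_of_quotient M 3 (ih (G ⧸ M) hlt a b (h.quotient M))
  obtain ⟨q, hq, hVq⟩ := isPGroup_of_unique_minimal hsolv V hV hVmin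
  haveI : Fact q.Prime := ⟨hq⟩
  set F := Cfsg.pCore q G with hFdef
  haveI hFn : F.Normal := Cfsg.Agent.H1.pCore_normal q
  letI : Fintype F := Fintype.ofFinite _
  have hFq : IsPGroup q F := Cfsg.Agent.H1.pCore_isPGroup q
  have hcore : ∀ r : ℕ, r.Prime → r ≠ q → Cfsg.pCore r G = ⊥ := by
    intro r hr hrq
    by_contra hne
    haveI : Fact r.Prime := ⟨hr⟩
    have h1 : V ≤ Cfsg.pCore r G := hVmin _ (Cfsg.Agent.H1.pCore_normal r) hne
    have h2 : IsPGroup r V := (Cfsg.Agent.H1.pCore_isPGroup (G := G) r).to_le h1
    have h3 := IsPGroup.disjoint_of_ne q r (Ne.symm hrq) V V hVq h2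
    exact hV (disjoint_self.mp h3)
  have hFit : Cfsg.fittingSubgroup G = F := by
    rw [Cfsg.Agent.H1.fittingSubgroup_eq_iSup_pCore]
    apply le_antisymm
    · apply iSup_le
      intro r
      by_cases hrq : (r : ℕ) = q
      · rw [hrq]
      · rw [hcore r r.2 hrq]
        exact bot_le
    · exact le_iSup (fun r : Nat.Primes => Cfsg.pCore (r : ℕ) G) ⟨q, hq⟩
  -- `G` is not a `q`-group
  have hnotq : ¬ IsPGroup q G := by
    intro hGq
    haveI : Group.IsNilpotent G := hGq.isNilpotent
    exact hV (nilpotent_dl3 a b h)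
  have hFtop : F ≠ ⊤ := by
    intro htop
    apply hnotq
    intro g
    obtain ⟨k, hk⟩ := hFq ⟨g, by rw [htop]; exact Subgroup.mem_top g⟩
    refine ⟨k, ?_⟩
    have := congrArg Subtype.val hk
    simpa using this
  -- characters of maximal degree are nontrivial on `F`
  have hbmax : ∀ χ : IrrCharacter G, deg χ = b →
      ∃ x ∈ F, (χ : G → ℂ) x ≠ (χ : G → ℂ) 1 := by
    intro χ hχb
    by_contra hall
    push Not at hall
    set K := Cfsg.Agent.Lib.helper3.PDeg.kerSub (isChar χ) with hKdef
    haveI hKn : K.Normal := Cfsg.Agent.Lib.helper3.PDeg.kerSub_normal (isChar χ)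
    have hFK : F ≤ K := fun x hx => hall x hx
    have hcond : ¬ K ≤ Cfsg.fittingSubgroup G ∨
        (K = Cfsg.fittingSubgroup G ∧ Group.IsSolvable (G ⧸ K) ∧ K ≠ ⊤) := by
      by_cases hKF : K ≤ Cfsg.fittingSubgroup G
      · right
        rw [hFit] at hKF ⊢
        have hKeq : K = F := le_antisymm hKF hFK
        refine ⟨hKeq, inferInstance, ?_⟩
        rw [hKeq]
        exact hFtop
      · left; exact hKF
    obtain ⟨ψ, hlt, -⟩ := Cfsg.Agent.H2.BG.broline_garrison χ K
      (fun g => Cfsg.Agent.Lib.helper3.PDeg.mem_kerSub (isChar χ) g) hcond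
    have hlt' : deg χ < deg ψ := hlt
    rcases h ψ with h' | h' | h' <;> omega
  have hF : ∀ χ : IrrCharacter G, (∀ x ∈ F, (χ : G → ℂ) x = (χ : G → ℂ) 1) →
      deg χ = 1 ∨ deg χ = a := by
    intro χ hχ
    rcases h χ with h' | h' | h'
    · left; exact h'
    · right; exact h'
    · obtain ⟨x, hx, hne⟩ := hbmax χ h'
      exact absurd (hχ x hx) hne
  have hG2 : derivedSeries G 2 ≤ F := derived2_le_of_degrees F a hF
  have hFna : ¬ ∀ x y : F, x * y = y * x := by
    intro hcomm
    apply hV
    apply derived3_eq_bot_of_comm F hG2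
    intro x hx y hy
    exact congrArg Subtype.val (hcomm ⟨x, hx⟩ ⟨y, hy⟩)
  -- Thompson
  have hnot : ¬ (q ∣ a ∧ q ∣ b) := by
    rintro ⟨hqa, hqb⟩
    have hdeg : ∀ χ : IrrCharacter G, charDegree (χ : G → ℂ) ≠ 1 →
        q ∣ charDegree (χ : G → ℂ) := by
      intro χ hχ1
      change deg χ ≠ 1 at hχ1
      change q ∣ deg χ
      rcases h χ with h' | h' | h'
      · exact absurd h' hχ1
      · rw [h']; exact hqa
      · rw [h']; exact hqb
    obtain ⟨N₀, hN₀n, hcop, k, hk⟩ := Cfsg.Agent.S4456.result q hq hdeg
    by_cases hN₀ : N₀ = ⊥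
    · apply hnotq
      apply IsPGroup.of_card (n := k)
      rw [← hk, hN₀, Subgroup.index_bot]
    · have h1 : V ≤ N₀ := hVmin N₀ hN₀n hN₀
      have h2 : Nat.card V ∣ Nat.card N₀ := Subgroup.card_dvd_of_le h1
      obtain ⟨i, hi⟩ := IsPGroup.iff_card.mp hVq
      have hi0 : i ≠ 0 := by
        intro h0
        rw [h0, pow_zero] at hi
        have : 1 < Nat.card V := (Subgroup.one_lt_card_iff_ne_bot V).mpr hV
        omega
      have h3 : q ∣ Nat.card N₀ := by
        rw [hi] at h2
        exact (dvd_pow_self q hi0).trans h2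
      exact (Nat.Prime.coprime_iff_not_dvd hq).mp hcop.symm h3
  by_cases hqidx : q ∣ F.index
  · exact false_of_core_index_dvd hsolv a b h q hqidx hF hFna hnot
  · exact hV (dl3_of_sylow_core hsolv a b h q F hFq hqidx hnot hG2)

theorem dl3_aux : ∀ (n : ℕ) (G : Type u) [Group G] [Finite G], Nat.card G = n →
    ∀ a b : ℕ, Cd G a b → derivedSeries G 3 = ⊥ := by
  intro n
  induction n using Nat.strong_induction_on with
  | _ n ih =>
    intro G _ _ hcard a b h
    classical
    letI : Fintype G := Fintype.ofFinite G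
    have ih' : ∀ (X : Type u) [Group X] [Finite X], Nat.card X < Nat.card G →
        ∀ a b : ℕ, Cd X a b → derivedSeries X 3 = ⊥ :=
      fun X _ _ hlt a b hX => ih (Nat.card X) (hcard ▸ hlt) X rfl a b hX
    have htwo : ∀ m : ℕ, (∀ χ : IrrCharacter G, deg χ = 1 ∨ deg χ = m) →
        derivedSeries G 3 = ⊥ := by
      intro m hm
      rw [eq_bot_iff, ← dl2_of_two_degrees m hm]
      exact derivedSeries_antitone G (by norm_num)
    by_cases hea : ∃ χ : IrrCharacter G, deg χ = a
    · by_cases heb : ∃ χ : IrrCharacter G, deg χ = b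
      · obtain ⟨χa, hχa⟩ := hea
        obtain ⟨χb, hχb⟩ := heb
        have hpa := deg_pos χa
        have hpb := deg_pos χb
        rcases lt_trichotomy a b with hlt | heq | hgt
        · by_cases ha1 : a = 1
          · apply htwo b
            intro χ
            rcases h χ with h' | h' | h'
            · left; exact h'
            · left; rw [h', ha1]
            · right; exact h'
          · exact dl3_step ih' a b hlt (by omega) h
        · apply htwo a
          intro χ
          rcases h χ with h' | h' | h'
          · left; exact h'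
          · right; exact h'
          · right; rw [h', heq]
        · by_cases hb1 : b = 1
          · apply htwo a
            intro χ
            rcases h χ with h' | h' | h'
            · left; exact h'
            · right; exact h'
            · left; rw [h', hb1]
          · exact dl3_step ih' b a hgt (by omega) h.symm
      · apply htwo a
        intro χ
        rcases h χ with h' | h' | h'
        · left; exact h'
        · right; exact h'
        · exact absurd ⟨χ, h'⟩ heb
    · apply htwo b
      intro χ
      rcases h χ with h' | h' | h'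
      · left; exact h'
      · exact absurd ⟨χ, h'⟩ hea
      · right; exact h'

/-- **Isaacs 12.15.** A finite group whose irreducible character degrees lie in `{1, a, b}` has
trivial third derived subgroup. -/
theorem dl3_of_cd {G : Type u} [Group G] [Finite G] (a b : ℕ) (h : Cd G a b) :
    derivedSeries G 3 = ⊥ :=
  dl3_aux (Nat.card G) G rfl a b h

end Cfsg.Agent.Lib.Helper7.Cd3
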