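import Mathlib
import Cfsg.Prelude.Def_Characters
import Cfsg.Prelude.Def_CharExt
import Cfsg.Agent.Lib.Helper7.CdPrimeA
import Cfsg.Agent.Lib.helper3.Clifford

set_option autoImplicit false
set_option linter.style.haveILetI false
set_option linter.unusedSectionVars false

/-!
# Prime character degrees: at most three degrees, part B (invariant linear characters)
-/

namespace Cfsg.Agent.Lib.Helper7.CdPrime

open Cfsg Module Cfsg.Agent.Lib.helper3.Irr Cfsg.Agent.Lib.helper3.IndFun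
open Cfsg.Agent.Lib.helper3.CharBasic Cfsg.Agent.Lib.helper3.Central
open Cfsg.Agent.Lib.Helper7.ThreeDeg Cfsg.Agent.Lib.Helper7.PrimeDeg
open scoped ComplexConjugate

universe u

variable {G : Type u} [Group G] [Fintype G]

/-- Conjugation of an element of a normal subgroup. -/
def cjn (M : Subgroup G) [hM : M.Normal] (g : G) (m : M) : M :=
  ⟨g * m * g⁻¹, hM.conj_mem m m.2 g⟩

theorem cjn_eq (M : Subgroup G) [hM : M.Normal] (g : G) (m : M) :
    cjn M g m = MulAut.conjNormal g m := by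
  apply Subtype.ext
  rw [MulAut.conjNormal_apply]
  rfl

/-- The twist `m ↦ lam (g m g⁻¹) / lam m` as a homomorphism. -/
noncomputable def twistHom (M : Subgroup G) [hM : M.Normal] [Fintype M] (lam : IrrCharacter M)
    (h1 : deg lam = 1) (g : G) : M →* ℂˣ :=
  ((Cfsg.Agent.Lib.helper3.Lin.toHom (isChar lam)
      (by rw [deg_spec, h1, Nat.cast_one])).toHomUnits.comp
      (MulAut.conjNormal g : M ≃* M).toMonoidHom) *
    ((Cfsg.Agent.Lib.helper3.Lin.toHom (isChar lam)
      (by rw [deg_spec, h1, Nat.cast_one])).toHomUnits)⁻¹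

theorem twistHom_apply (M : Subgroup G) [hM : M.Normal] [Fintype M] (lam : IrrCharacter M)
    (h1 : deg lam = 1) (g : G) (m : M) :
    ((twistHom M lam h1 g m : ℂˣ) : ℂ) = (lam : M → ℂ) (cjn M g m) * ((lam : M → ℂ) m)⁻¹ := by
  unfold twistHom
  rw [MonoidHom.mul_apply, MonoidHom.inv_apply, Units.val_mul, Units.val_inv_eq_inv_val,
    MonoidHom.comp_apply, MonoidHom.coe_toHomUnits, MonoidHom.coe_toHomUnits,
    Cfsg.Agent.Lib.helper3.Lin.toHom_apply, Cfsg.Agent.Lib.helper3.Lin.toHom_apply, cjn_eq]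
  rfl

theorem lin_ne_zero (M : Subgroup G) [Fintype M] (lam : IrrCharacter M)
    (h1 : deg lam = 1) (m : M) : (lam : M → ℂ) m ≠ 0 := by
  intro h0
  have h2 := Cfsg.Agent.Lib.helper3.Lin.pow_eq_one_of_linear (isChar lam)
    (by rw [deg_spec, h1, Nat.cast_one]) m (orderOf m) (pow_orderOf_eq_one m)
  rw [h0, zero_pow (orderOf_pos m).ne'] at h2
  exact zero_ne_one h2

theorem lin_norm (M : Subgroup G) [Fintype M] (lam : IrrCharacter M)
    (h1 : deg lam = 1) (m : M) : ‖(lam : M → ℂ) m‖ = 1 := by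
  have h2 := Cfsg.Agent.Lib.helper3.Lin.pow_eq_one_of_linear (isChar lam)
    (by rw [deg_spec, h1, Nat.cast_one]) m (orderOf m) (pow_orderOf_eq_one m)
  exact Complex.norm_eq_one_of_pow_eq_one h2 (orderOf_pos m).ne'

/-- If `θ` and `lam * θ` are both `G`-invariant, for `θ` of degree `n`, then the twist of `lam`
has order dividing `n`. -/
theorem twist_pow_eq_one (M : Subgroup G) [hM : M.Normal] [Fintype M] (lam : IrrCharacter M)
    (h1 : deg lam = 1) {θ : M → ℂ} (hθ : IsCharacter M θ) (n : ℕ) (hn : θ 1 = n)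
    (hinv : ∀ (g : G) (m : M), θ (cjn M g m) = θ m)
    (hinv' : ∀ (g : G) (m : M), (lam : M → ℂ) (cjn M g m) * θ (cjn M g m) = (lam : M → ℂ) m * θ m)
    (g : G) (m : M) : ((lam : M → ℂ) (cjn M g m) * ((lam : M → ℂ) m)⁻¹) ^ n = 1 := by
  rw [← twistHom_apply M lam h1 g m]
  apply pow_eq_one_of_twist_eq (twistHom M lam h1 g) hθ n hn
  funext x
  rw [Pi.mul_apply, twistHom_apply]
  have h2 := hinv' g x
  rw [hinv g x] at h2
  rw [mul_assoc, mul_comm _ (θ x), ← mul_assoc, h2, mul_assoc, mul_comm (θ x), ← mul_assoc,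
    mul_inv_cancel₀ (lin_ne_zero M lam h1 x), one_mul]

/-- With two such characters of coprime degrees, `lam` is `G`-invariant. -/
theorem lin_invariant (M : Subgroup G) [hM : M.Normal] [Fintype M] (lam : IrrCharacter M)
    (h1 : deg lam = 1) {θ₁ θ₂ : M → ℂ} (hθ₁ : IsCharacter M θ₁) (hθ₂ : IsCharacter M θ₂)
    (p q : ℕ) (hp : θ₁ 1 = p) (hq : θ₂ 1 = q) (hpq : p.Coprime q)
    (hinv₁ : ∀ (g : G) (m : M), θ₁ (cjn M g m) = θ₁ m)
    (hinv₁' : ∀ (g : G) (m : M),
      (lam : M → ℂ) (cjn M g m) * θ₁ (cjn M g m) = (lam : M → ℂ) m * θ₁ m)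
    (hinv₂ : ∀ (g : G) (m : M), θ₂ (cjn M g m) = θ₂ m)
    (hinv₂' : ∀ (g : G) (m : M),
      (lam : M → ℂ) (cjn M g m) * θ₂ (cjn M g m) = (lam : M → ℂ) m * θ₂ m)
    (g : G) (m : M) : (lam : M → ℂ) (cjn M g m) = (lam : M → ℂ) m := by
  have e1 := twist_pow_eq_one M lam h1 hθ₁ p hp hinv₁ hinv₁' g m
  have e2 := twist_pow_eq_one M lam h1 hθ₂ q hq hinv₂ hinv₂' g m
  have e3 := pow_gcd_eq_one.mpr ⟨e1, e2⟩
  rw [Nat.Coprime.gcd_eq_one hpq, pow_one] at e3
  have e4 := congrArg (fun z => z * (lam : M → ℂ) m) e3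
  change _ * _⁻¹ * _ = 1 * _ at e4
  rw [mul_assoc, inv_mul_cancel₀ (lin_ne_zero M lam h1 m), mul_one, one_mul] at e4
  exact e4

/-- A `G`-invariant linear constituent of the restriction of an irreducible character `χ` to a
normal subgroup `M` forces `χ(1)² ≤ |G : M|`. -/
theorem deg_sq_le_index (M : Subgroup G) [hM : M.Normal] [Fintype M] (χ : IrrCharacter G)
    (lam : IrrCharacter M) (h1 : deg lam = 1)
    (hcon : classInner (fun m : M => (χ : G → ℂ) m) (lam : M → ℂ) ≠ 0)
    (hinv : ∀ (g : G) (m : M), (lam : M → ℂ) (cjn M g m) = (lam : M → ℂ) m) :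
    deg χ * deg χ ≤ M.index := by
  classical
  have hcl := clifford M χ χ.2 lam lam.2 hcon
  have hset : {ψ : M → ℂ | ∃ g : G, ψ = fun n : M =>
      (lam : M → ℂ) ⟨g * n * g⁻¹, hM.conj_mem n n.2 g⟩} = {(lam : M → ℂ)} := by
    ext ψ
    simp only [Set.mem_setOf_eq, Set.mem_singleton_iff]
    constructor
    · rintro ⟨g, rfl⟩
      funext n
      exact hinv g n
    · intro h
      refine ⟨1, ?_⟩
      rw [h]
      funext n
      exact (hinv 1 n).symm
  rw [hset, finsum_mem_singleton] at hcl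
  -- the multiplicity is the degree
  have he : classInner (fun m : M => (χ : G → ℂ) m) (lam : M → ℂ) = (deg χ : ℂ) := by
    have h2 := congrFun hcl 1
    simp only [Pi.smul_apply, smul_eq_mul, Subgroup.coe_one] at h2
    rw [deg_spec, deg_spec lam, h1, Nat.cast_one, mul_one] at h2
    exact h2.symm
  rw [he] at hcl
  have hval : ∀ m : M, (χ : G → ℂ) m = (deg χ : ℂ) * (lam : M → ℂ) m := by
    intro m
    have h2 := congrFun hcl m
    simpa using h2
  -- sums of squares
  have hirr := irr_classInner_self χ.2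
  rw [classInner_apply] at hirr
  have hG : (Nat.card G : ℂ) ≠ 0 := card_ne_zero_complex G
  have hsumC : ∑ g : G, (χ : G → ℂ) g * conj ((χ : G → ℂ) g) = (Nat.card G : ℂ) := by
    field_simp at hirr
    exact hirr
  have hsumR : ∑ g : G, Complex.normSq ((χ : G → ℂ) g) = (Nat.card G : ℝ) := by
    have h2 : ((∑ g : G, Complex.normSq ((χ : G → ℂ) g) : ℝ) : ℂ) = ((Nat.card G : ℝ) : ℂ) := by
      push_cast
      rw [← hsumC]
      apply Finset.sum_congr rfl
      intro g _
      rw [Complex.mul_conj]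
    exact_mod_cast h2
  have hle : ∑ m : M, Complex.normSq ((χ : G → ℂ) m)
      ≤ ∑ g : G, Complex.normSq ((χ : G → ℂ) g) := by
    rw [← Finset.sum_image (s := (Finset.univ : Finset M)) (g := (Subtype.val : M → G))
      (f := fun g => Complex.normSq ((χ : G → ℂ) g)) (Subtype.val_injective.injOn)]
    exact Finset.sum_le_sum_of_subset_of_nonneg (Finset.subset_univ _)
      (fun _ _ _ => Complex.normSq_nonneg _)
  have hM1 : ∑ m : M, Complex.normSq ((χ : G → ℂ) m)
      = (Nat.card M : ℝ) * ((deg χ : ℝ) * (deg χ : ℝ)) := by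
    rw [Finset.sum_congr rfl (fun m _ => by
      rw [hval m, Complex.normSq_mul, Complex.normSq_natCast, Complex.normSq_eq_norm_sq,
        lin_norm M lam h1 m, one_pow, mul_one])]
    rw [Finset.sum_const, Finset.card_univ, nsmul_eq_mul, Nat.card_eq_fintype_card]
  rw [hM1, hsumR, ← M.card_mul_index] at hle
  have hle' : Nat.card M * (deg χ * deg χ) ≤ Nat.card M * M.index := by exact_mod_cast hle
  exact Nat.le_of_mul_le_mul_left hle' Nat.card_pos

end Cfsg.Agent.Lib.Helper7.CdPrime
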