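import Mathlib
import Cfsg.Prelude.Def_Characters
import Cfsg.Prelude.Def_CharExt
import Cfsg.Prelude.Def_DegreeGraph
import Cfsg.Agent.Lib.Helper7.CdPrimeB
import Cfsg.Agent.Lib.Helper4.Perfect

set_option autoImplicit false
set_option linter.style.haveILetI false
set_option linter.unusedSectionVars false

/-!
# Prime character degrees: at most three degrees, part C (the induction)
-/

namespace Cfsg.Agent.Lib.Helper7.CdPrime

open Cfsg Module Cfsg.Agent.Lib.helper3.Irr Cfsg.Agent.Lib.helper3.IndFun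
open Cfsg.Agent.Lib.helper3.CharBasic Cfsg.Agent.Lib.helper3.Central
open Cfsg.Agent.Lib.Helper7.ThreeDeg Cfsg.Agent.Lib.Helper7.PrimeDeg
open scoped ComplexConjugate

universe u

/-- Three nonlinear irreducible characters of pairwise distinct degrees. -/
def ThreeNL (G : Type u) [Group G] : Prop :=
  ∃ χ₁ χ₂ χ₃ : IrrCharacter G, deg χ₁ ≠ 1 ∧ deg χ₂ ≠ 1 ∧ deg χ₃ ≠ 1 ∧
    deg χ₁ ≠ deg χ₂ ∧ deg χ₁ ≠ deg χ₃ ∧ deg χ₂ ≠ deg χ₃

theorem restrict_ne_zero {G : Type u} [Group G] [Fintype G] (M : Subgroup G)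
    (χ : IrrCharacter G) : (fun m : M => (χ : G → ℂ) m) ≠ 0 := by
  intro h
  have h1 := congrFun h 1
  simp only [Pi.zero_apply, Subgroup.coe_one] at h1
  rw [deg_spec] at h1
  have := deg_pos χ
  have h2 : deg χ = 0 := by exact_mod_cast h1
  omega

/-- The key configuration is impossible. -/
theorem key {G : Type u} [Group G] [Fintype G] (M : Subgroup G) [hM : M.Normal] [Fintype M]
    (hG : PrimeDegs G) (hsolv : Group.IsSolvable (G ⧸ M)) {r : ℕ} (hr : r.Prime)
    (hidx : M.index = r) (hMn : ¬ ThreeNL M) (χ₁ χ₂ χ₃ : IrrCharacter G)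
    (hp : (deg χ₁).Prime) (hq : (deg χ₂).Prime) (h3 : deg χ₃ = r) (hpq : deg χ₁ ≠ deg χ₂)
    (hpr : deg χ₁ ≠ r) (hqr : deg χ₂ ≠ r) : False := by
  classical
  have hθ₁ := restrict_irr_of_prime_index M hsolv hr hidx χ₁ hp hpr
  have hθ₂ := restrict_irr_of_prime_index M hsolv hr hidx χ₂ hq hqr
  obtain ⟨θ₁, hθ₁def⟩ : ∃ θ₁ : IrrCharacter M, θ₁ = ⟨_, hθ₁⟩ := ⟨_, rfl⟩
  obtain ⟨θ₂, hθ₂def⟩ : ∃ θ₂ : IrrCharacter M, θ₂ = ⟨_, hθ₂⟩ := ⟨_, rfl⟩
  have hd₁ : deg θ₁ = deg χ₁ := by rw [hθ₁def]; rfl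
  have hd₂ : deg θ₂ = deg χ₂ := by rw [hθ₂def]; rfl
  -- a constituent of the restriction of `χ₃`
  have hres := isCharacter_restrict (isChar χ₃) M
  obtain ⟨lam, hlam⟩ := exists_constituent hres (restrict_ne_zero M χ₃)
  have hdvd : deg lam ∣ deg χ₃ :=
    constituent_degree_dvd M χ₃ χ₃.2 lam lam.2 hlam (deg χ₃) (deg lam) (deg_spec χ₃) (deg_spec lam)
  rw [h3] at hdvd
  rcases (Nat.dvd_prime hr).mp hdvd with hl1 | hlr
  swap
  · apply hMn
    refine ⟨θ₁, θ₂, lam, ?_, ?_, ?_, ?_, ?_, ?_⟩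
    · rw [hd₁]; exact hp.one_lt.ne'
    · rw [hd₂]; exact hq.one_lt.ne'
    · rw [hlr]; exact hr.one_lt.ne'
    · rw [hd₁, hd₂]; exact hpq
    · rw [hd₁, hlr]; exact hpr
    · rw [hd₂, hlr]; exact hqr
  have hlam1 : (lam : M → ℂ) 1 = 1 := by rw [deg_spec, hl1, Nat.cast_one]
  -- invariance
  have hinv : ∀ (χ : IrrCharacter G) (g : G) (m : M),
      (χ : G → ℂ) (cjn M g m) = (χ : G → ℂ) m := by
    intro χ g m
    exact isClassFunction_of_isCharacter (isChar χ) m g
  have hinv' : ∀ (χ : IrrCharacter G), (deg χ).Prime → deg χ ≠ r → ∀ (g : G) (m : M),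
      (lam : M → ℂ) (cjn M g m) * (χ : G → ℂ) (cjn M g m)
        = (lam : M → ℂ) m * (χ : G → ℂ) m := by
    intro χ hχp hχr g m
    have hθ := restrict_irr_of_prime_index M hsolv hr hidx χ hχp hχr
    have hlθ : IsIrrCharacter M ((lam : M → ℂ) * fun m : M => (χ : G → ℂ) m) :=
      isIrrCharacter_linear_mul (isChar lam) hlam1 hθ
    obtain ⟨χ', hχ'⟩ := exists_irr_over M _ hlθ
    have hdvd' : deg χ ∣ deg χ' := by
      apply constituent_degree_dvd M χ' χ'.2 _ hlθ hχ' (deg χ') (deg χ) (deg_spec χ')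
      rw [Pi.mul_apply, hlam1, one_mul, Subgroup.coe_one, deg_spec]
    have hχ'1 : deg χ' ≠ 1 := by
      intro h1
      rw [h1] at hdvd'
      exact hχp.one_lt.ne' (Nat.dvd_one.mp hdvd')
    have hχ'p : (deg χ').Prime := hG χ' hχ'1
    have heq : deg χ = deg χ' := (Nat.prime_dvd_prime_iff_eq hχp hχ'p).mp hdvd'
    have hθ' := restrict_irr_of_prime_index M hsolv hr hidx χ' hχ'p (by rw [← heq]; exact hχr)
    have hfun : (fun m : M => (χ' : G → ℂ) m) = (lam : M → ℂ) * fun m : M => (χ : G → ℂ) m := by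
      by_contra hne
      exact hχ' (irr_classInner_eq_zero hθ' hlθ hne)
    have e1 := congrFun hfun (cjn M g m)
    have e2 := congrFun hfun m
    simp only [Pi.mul_apply] at e1 e2
    rw [← e1, ← e2]
    exact isClassFunction_of_isCharacter (isChar χ') m g
  have hinvl := lin_invariant M lam hl1 (isChar θ₁) (isChar θ₂) (deg χ₁) (deg χ₂)
    (by rw [deg_spec, hd₁]) (by rw [deg_spec, hd₂]) ((Nat.coprime_primes hp hq).mpr hpq)
    (by rw [hθ₁def]; exact hinv χ₁) (by rw [hθ₁def]; exact hinv' χ₁ hp hpr)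
    (by rw [hθ₂def]; exact hinv χ₂) (by rw [hθ₂def]; exact hinv' χ₂ hq hqr)
  have hle := deg_sq_le_index M χ₃ lam hl1 hlam hinvl
  rw [h3, hidx] at hle
  have := hr.two_le
  nlinarith

theorem not_threeNL_aux : ∀ (n : ℕ) (G : Type u) [Group G] [Finite G], Nat.card G = n →
    PrimeDegs G → ¬ ThreeNL G := by
  intro n
  induction n using Nat.strong_induction_on with
  | _ n ih =>
    intro G _ _ hcard hG ⟨χ₁, χ₂, χ₃, h1, h2, h3, h12, h13, h23⟩
    classical
    letI : Fintype G := Fintype.ofFinite G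
    haveI hsolvG : Group.IsSolvable G := solvable_of_primeDegs hG
    haveI : Nontrivial G := by
      by_contra hnt
      haveI : Subsingleton G := not_nontrivial_iff_subsingleton.mp hnt
      apply h1
      apply deg_eq
      rw [Cfsg.Agent.Lib.helper3.TwoDeg.apply_one_eq_one_of_comm
        (fun a b => Subsingleton.elim _ _) χ₁, Nat.cast_one]
    have hlt : commutator G < ⊤ := Group.IsSolvable.commutator_lt_top_of_nontrivial G
    obtain ⟨M, hMn, -, hMp⟩ := Cfsg.Agent.Lib.Helper4.Perfect.exists_normal_prime_index hlt.ne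
    haveI := hMn
    letI : Fintype M := Fintype.ofFinite M
    have hMlt : Nat.card M < n := by
      rw [← hcard]
      apply lt_of_le_of_ne (Subgroup.card_le_card_group M)
      intro heq
      have := (Subgroup.card_eq_iff_eq_top M).mp heq
      rw [this, Subgroup.index_top] at hMp
      exact Nat.not_prime_one hMp
    have ihM : ¬ ThreeNL M := ih (Nat.card M) hMlt M rfl (hG.subgroup M)
    have hsolv : Group.IsSolvable (G ⧸ M) := inferInstance
    have p1 : (deg χ₁).Prime := hG χ₁ h1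
    have p2 : (deg χ₂).Prime := hG χ₂ h2
    have p3 : (deg χ₃).Prime := hG χ₃ h3
    by_cases e1 : deg χ₁ = M.index
    · exact key M hG hsolv hMp rfl ihM χ₂ χ₃ χ₁ p2 p3 e1 h23 (by rw [← e1]; exact h12.symm)
        (by rw [← e1]; exact h13.symm)
    by_cases e2 : deg χ₂ = M.index
    · exact key M hG hsolv hMp rfl ihM χ₁ χ₃ χ₂ p1 p3 e2 h13 e1 (by rw [← e2]; exact h23.symm)
    by_cases e3 : deg χ₃ = M.index
    · exact key M hG hsolv hMp rfl ihM χ₁ χ₂ χ₃ p1 p2 e3 h12 e1 e2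
    apply ihM
    exact ⟨⟨_, restrict_irr_of_prime_index M hsolv hMp rfl χ₁ p1 e1⟩,
      ⟨_, restrict_irr_of_prime_index M hsolv hMp rfl χ₂ p2 e2⟩,
      ⟨_, restrict_irr_of_prime_index M hsolv hMp rfl χ₃ p3 e3⟩, h1, h2, h3, h12, h13, h23⟩

/-- **Isaacs–Passman.** If all nonlinear irreducible characters of a finite group have prime
degree, the group has at most three character degrees. -/
theorem card_charDegrees_le_three {G : Type u} [Group G] [Finite G] (hG : PrimeDegs G) :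
    Nat.card ↥(charDegrees G) ≤ 3 := by
  classical
  letI : Fintype G := Fintype.ofFinite G
  have hno := not_threeNL_aux (Nat.card G) G rfl hG
  have hfin : (charDegrees G).Finite := by
    have : charDegrees G = Set.range (fun χ : IrrCharacter G => charDegree (χ : G → ℂ)) := by
      ext d
      simp [charDegrees]
    rw [this]
    exact Set.finite_range _
  rw [Nat.card_coe_set_eq, Set.ncard_eq_toFinset_card _ hfin]
  by_contra hcon
  push Not at hcon
  have h2 : 2 < (hfin.toFinset.erase 1).card := by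
    have := Finset.pred_card_le_card_erase (s := hfin.toFinset) (a := 1)
    omega
  obtain ⟨a, ha, b, hb, c, hc, hab, hac, hbc⟩ := Finset.two_lt_card.mp h2
  rw [Finset.mem_erase, Set.Finite.mem_toFinset] at ha hb hc
  obtain ⟨ha1, χa, hχa⟩ := ha
  obtain ⟨hb1, χb, hχb⟩ := hb
  obtain ⟨hc1, χc, hχc⟩ := hc
  apply hno
  refine ⟨χa, χb, χc, ?_, ?_, ?_, ?_, ?_, ?_⟩
  · change charDegree (χa : G → ℂ) ≠ 1; rw [hχa]; exact ha1
  · change charDegree (χb : G → ℂ) ≠ 1; rw [hχb]; exact hb1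
  · change charDegree (χc : G → ℂ) ≠ 1; rw [hχc]; exact hc1
  · change charDegree (χa : G → ℂ) ≠ charDegree (χb : G → ℂ); rw [hχa, hχb]; exact hab
  · change charDegree (χa : G → ℂ) ≠ charDegree (χc : G → ℂ); rw [hχa, hχc]; exact hac
  · change charDegree (χb : G → ℂ) ≠ charDegree (χc : G → ℂ); rw [hχb, hχc]; exact hbc

end Cfsg.Agent.Lib.Helper7.CdPrime
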