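import Mathlib
import Cfsg.Prelude.Def_FusionSystem
import Cfsg.Prelude.Def_ConjugacyFunctors
import Cfsg.Agent.Lib.Helper7.WCtlA
import Cfsg.Agent.Lib.Helper7.Core

/-!
# From control of transfer in groups to the local focal condition for a functor
-/

set_option autoImplicit false
set_option linter.unusedSectionVars false

namespace Cfsg.Agent.Lib.Helper7.FocProper

open Cfsg Cfsg.Agent.Lib.Helper7 Cfsg.Agent.Lib.Helper7.WCtl
open scoped commutatorElement

universe u

theorem map_conj_of_normal {G : Type*} [Group G] (K : Subgroup G) [hK : K.Normal] (g : G) :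
    K.map (MulAut.conj g).toMonoidHom = K := by
  ext x
  constructor
  · rintro ⟨y, hy, rfl⟩
    exact hK.conj_mem y hy g
  · intro hx
    refine ⟨g⁻¹ * x * g, ?_, ?_⟩
    · have := hK.conj_mem x hx g⁻¹
      simpa using this
    · show g * (g⁻¹ * x * g) * g⁻¹ = x
      group

theorem map_subtype_commutator {G : Type*} [Group G] (N : Subgroup G) :
    (commutator ↥N).map N.subtype = ⁅N, N⁆ := by
  rw [commutator_def, Subgroup.map_commutator, ← MonoidHom.range_eq_map, Subgroup.range_subtype]

variable {p : ℕ} [Fact p.Prime] (W : ∀ (Q : Type u) [Group Q], Subgroup Q)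
  (hW2 : ∀ (Q R : Type u) [Group Q] [Group R] [Finite Q], IsPGroup p Q → ∀ φ : Q ≃* R,
    (W Q).map φ.toMonoidHom = W R)

include hW2 in
/-- the functor commutes with conjugation -/
theorem WT_map_conj {G : Type u} [Group G] (T : Subgroup G) [Finite T] (hT : IsPGroup p T) (g : G) :
    WT W (T.map (MulAut.conj g).toMonoidHom) = (WT W T).map (MulAut.conj g).toMonoidHom := by
  have hinj : Function.Injective ((MulAut.conj g).toMonoidHom.comp T.subtype) := by
    intro a b hab
    apply Subtype.ext
    exact (MulAut.conj g).injective hab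
  have h1 := WT_map_eq W hW2 (le_refl T) hT ((MulAut.conj g).toMonoidHom.comp T.subtype) hinj
  have h2 : (T.subgroupOf T).map ((MulAut.conj g).toMonoidHom.comp T.subtype) =
      T.map (MulAut.conj g).toMonoidHom := by
    rw [Subgroup.subgroupOf_self, ← Subgroup.map_map, ← MonoidHom.range_eq_map, Subgroup.range_subtype]
  have h3 : ((WT W T).subgroupOf T).map ((MulAut.conj g).toMonoidHom.comp T.subtype) =
      (WT W T).map (MulAut.conj g).toMonoidHom := by
    rw [← Subgroup.map_map, Subgroup.map_subgroupOf_eq_of_le (WT_le W T)]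
  rw [h2, h3] at h1
  exact h1.symm

include hW2 in
/-- a functor controlling transfer in every finite group satisfies the local focal condition -/
theorem focal_condition_of_controlsTransfer
    (hctl : ∀ (G : Type u) [Group G] [Finite G],
      Cfsg.ControlsTransferIn p (Cfsg.inducedFunctor (G := G) W) ⊤)
    (G : Type u) [Group G] [Finite G] (P : Sylow p G) :
    Cfsg.pCore p G ⊓ commutator G = Cfsg.pCore p G ⊓
      (commutator ↥(Subgroup.normalizer
        (((W ↥(P : Subgroup G)).map (P : Subgroup G).subtype : Subgroup G) : Set G))).map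
        (Subgroup.normalizer
          (((W ↥(P : Subgroup G)).map (P : Subgroup G).subtype : Subgroup G) : Set G)).subtype := by
  rw [map_subtype_commutator]
  obtain ⟨T, -, hTp, hTidx, heq⟩ := hctl G
  rw [Subgroup.relIndex_top_right] at hTidx
  have hP₀ : ((hTp.toSylow hTidx : Sylow p G) : Subgroup G) = T := IsPGroup.toSylow_coe hTp hTidx
  obtain ⟨g, hg⟩ := MulAction.exists_smul_eq G (hTp.toSylow hTidx) P
  have hPT : (P : Subgroup G) = T.map (MulAut.conj g).toMonoidHom := by
    rw [← hg, Sylow.coe_subgroup_smul, hP₀, Subgroup.pointwise_smul_def]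
    rfl
  have hOT : Cfsg.pCore p G ≤ T := hP₀ ▸ pCore_le_sylow (hTp.toSylow hTidx)
  -- the condition for `T`
  have hcomm : (⁅(⊤ : Subgroup G), ⊤⁆ : Subgroup G) = commutator G := (commutator_def G).symm
  have hA : Cfsg.pCore p G ⊓ commutator G = Cfsg.pCore p G ⊓
      ⁅Subgroup.normalizer ((WT W T : Subgroup G) : Set G),
        Subgroup.normalizer ((WT W T : Subgroup G) : Set G)⁆ := by
    have h1 : Cfsg.pCore p G ⊓ commutator G = Cfsg.pCore p G ⊓ (T ⊓ ⁅(⊤ : Subgroup G), ⊤⁆) := by
      rw [hcomm, ← inf_assoc, inf_eq_left.mpr hOT]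
    rw [h1, heq, top_inf_eq, ← inf_assoc, inf_eq_left.mpr hOT]
    rfl
  -- transport along conjugation
  have hfinT : Finite ↥T := inferInstance
  have hWP : ((W ↥(P : Subgroup G)).map (P : Subgroup G).subtype : Subgroup G) =
      (WT W T).map (MulAut.conj g).toMonoidHom := by
    rw [← WT_map_conj W hW2 T hTp g, ← hPT]
    rfl
  rw [hWP]
  have hN : Subgroup.normalizer ((((WT W T).map (MulAut.conj g).toMonoidHom : Subgroup G)) : Set G) =
      (Subgroup.normalizer ((WT W T : Subgroup G) : Set G)).map (MulAut.conj g).toMonoidHom :=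
    (Subgroup.map_equiv_normalizer_eq (WT W T) (MulAut.conj g)).symm
  rw [hN, ← Subgroup.map_commutator]
  have hOn : (Cfsg.pCore p G).Normal := pCore_normal p G
  have hCn : (commutator G).Normal := inferInstance
  have hinj : Function.Injective (MulAut.conj g).toMonoidHom := (MulAut.conj g).injective
  calc Cfsg.pCore p G ⊓ commutator G
      = (Cfsg.pCore p G ⊓ commutator G).map (MulAut.conj g).toMonoidHom :=
        (map_conj_of_normal _ g).symm
    _ = (Cfsg.pCore p G ⊓ ⁅Subgroup.normalizer ((WT W T : Subgroup G) : Set G),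
        Subgroup.normalizer ((WT W T : Subgroup G) : Set G)⁆).map (MulAut.conj g).toMonoidHom := by
        rw [hA]
    _ = (Cfsg.pCore p G).map (MulAut.conj g).toMonoidHom ⊓
        (⁅Subgroup.normalizer ((WT W T : Subgroup G) : Set G),
        Subgroup.normalizer ((WT W T : Subgroup G) : Set G)⁆).map (MulAut.conj g).toMonoidHom :=
        Subgroup.map_inf_eq _ _ _ hinj
    _ = _ := by rw [map_conj_of_normal]

end Cfsg.Agent.Lib.Helper7.FocProper
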