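import Mathlib
import Cfsg.Prelude.Def_FusionSystem
import Cfsg.Agent.Lib.Helper7.Alperin3
import Cfsg.Agent.Lib.Helper7.GTFa
import Cfsg.Agent.Lib.Helper7.FusionSat
import Cfsg.Agent.Lib.Helper7.FusionSat2
import Cfsg.Agent.Lib.Helper7.FusionSat3
import Cfsg.Agent.Lib.Helper7.BGHc

/-!
# Control of transfer by a positive characteristic functor, part A: focal subgroups of normalizer systems
-/

set_option autoImplicit false

namespace Cfsg.Agent.Lib.Helper7.FocW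

open Cfsg Cfsg.FusionSystem Cfsg.Agent.Lib.Helper7 Cfsg.Agent.Lib.Helper7.GTF
open scoped commutatorElement

variable {Ω : Type*} [Group Ω] {S : Subgroup Ω}

/-- the focal subgroup of the normalizer system of `V`, without mention of that system -/
def focN (F : FusionSystem S) (V : Subgroup Ω) : Subgroup Ω :=
  Subgroup.closure {y : Ω | ∃ (P : Subgroup Ω) (φ : P →* Ω) (x : P),
    φ ∈ F.normalizerHom V P ∧ y = (x : Ω)⁻¹ * φ x}

theorem focalSubgroup_normalizerSystem (F : FusionSystem S) {V : Subgroup Ω}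
    (N : FusionSystem (normalizerIn S V)) (hN : F.IsNormalizerSystem V N) :
    N.focalSubgroup = focN F V := by
  unfold focalSubgroup focN
  congr 1
  ext y
  constructor
  · rintro ⟨P, φ, x, hφ, rfl⟩
    exact ⟨P, φ, x, by rw [← hN P]; exact hφ, rfl⟩
  · rintro ⟨P, φ, x, hφ, rfl⟩
    exact ⟨P, φ, x, by rw [hN P]; exact hφ, rfl⟩

theorem focN_mono (F : FusionSystem S) {T : Subgroup Ω} (N : FusionSystem T) (hTS : T ≤ S)
    (hNF : ∀ (P : Subgroup Ω) (φ : P →* Ω), φ ∈ N.Hom P → φ ∈ F.Hom P) (V : Subgroup Ω) :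
    focN N V ≤ focN F V := by
  unfold focN
  apply Subgroup.closure_mono
  rintro y ⟨P, φ, x, hφ, rfl⟩
  exact ⟨P, φ, x, normalizerHom_mono F N hTS hNF hφ, rfl⟩

theorem focN_le_focalSubgroup (F : FusionSystem S) (V : Subgroup Ω) :
    focN F V ≤ F.focalSubgroup := by
  unfold focN focalSubgroup
  apply Subgroup.closure_mono
  rintro y ⟨P, φ, x, hφ, rfl⟩
  exact ⟨P, φ, x, hφ.1, rfl⟩

theorem mem_focN (F : FusionSystem S) {V P : Subgroup Ω} {φ : P →* Ω}
    (hφ : φ ∈ F.normalizerHom V P) (x : P) : (x : Ω)⁻¹ * φ x ∈ focN F V :=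
  Subgroup.subset_closure ⟨P, φ, x, hφ, rfl⟩

theorem focN_le_top (F : FusionSystem S) (V : Subgroup Ω) : focN F V ≤ S := by
  unfold focN
  rw [Subgroup.closure_le]
  rintro y ⟨P, φ, x, hφ, rfl⟩
  obtain ⟨hP, hφS⟩ := F.le_of_mem hφ.1
  exact S.mul_mem (S.inv_mem (hP x.2)) (hφS x)

/-- conjugations by elements of `S` are maps of `N_F(V)` when `S` normalizes `V` -/
theorem commutator_le_focN (F : FusionSystem S) {V : Subgroup Ω} (hVS : V ≤ S)
    (hSV : S ≤ Subgroup.normalizer (V : Set Ω)) : ⁅S, S⁆ ≤ focN F V := by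
  rw [Subgroup.commutator_le]
  intro a ha b hb
  -- `⁅a, b⁆ = a * (b a⁻¹ b⁻¹) = (a⁻¹)⁻¹ * c_b(a⁻¹)`
  have hle : S ≤ normalizerIn S V := le_inf le_rfl hSV
  have hconj : conjHom S b ∈ F.normalizerHom V S := by
    have h1 : conjHom S b ∈ F.Hom S := F.conj_mem le_rfl hb
    refine ⟨h1, hle, fun x => hle ((F.le_of_mem h1).2 x), ?_⟩
    have hsup : S ⊔ V = S := sup_eq_left.mpr hVS
    refine ⟨_, fs_mem_of_eq F hsup h1, fun x => rfl, ?_⟩
    ext y
    constructor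
    · rintro ⟨s, hs, rfl⟩
      have hsV : (s : Ω) ∈ V := Subgroup.mem_subgroupOf.mp hs
      show b * (s : Ω) * b⁻¹ ∈ V
      exact (Subgroup.mem_normalizer_iff.mp (hSV hb) _).mp hsV
    · intro hy
      have hy' : b⁻¹ * y * b ∈ V := by
        have := (Subgroup.mem_normalizer_iff.mp (Subgroup.inv_mem _ (hSV hb)) y).mp hy
        simpa using this
      refine ⟨⟨b⁻¹ * y * b, Subgroup.mem_sup_right hy'⟩, Subgroup.mem_subgroupOf.mpr hy', ?_⟩
      show b * (b⁻¹ * y * b) * b⁻¹ = y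
      group
  have := mem_focN F hconj ⟨a⁻¹, S.inv_mem ha⟩
  have e : ((⟨a⁻¹, S.inv_mem ha⟩ : S) : Ω)⁻¹ * conjHom S b ⟨a⁻¹, S.inv_mem ha⟩ = ⁅a, b⁆ := by
    show (a⁻¹)⁻¹ * (b * a⁻¹ * b⁻¹) = _
    rw [commutatorElement_def]
    group
  rw [e] at this
  exact this

/-- the maps of `F` which, on sources of order `> n`, move elements only inside `Φ` -/
def goodSys [Finite S] (F : FusionSystem S) (Φ : Subgroup Ω) (hΦ : ⁅S, S⁆ ≤ Φ) (n : ℕ) :
    FusionSystem S where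
  Hom P := {φ | φ ∈ F.Hom P ∧ (n < Nat.card P → ∀ x : P, (x : Ω)⁻¹ * φ x ∈ Φ)}
  le_of_mem h := F.le_of_mem h.1
  injective_of_mem h := F.injective_of_mem h.1
  conj_mem := by
    intro P g hP hg
    refine ⟨F.conj_mem hP hg, fun _ x => ?_⟩
    apply hΦ
    have : (x : Ω)⁻¹ * conjHom P g x = ⁅(x : Ω)⁻¹, g⁆ := by
      rw [commutatorElement_def]
      show (x : Ω)⁻¹ * (g * x * g⁻¹) = _
      group
    rw [this]
    exact Subgroup.commutator_mem_commutator (S.inv_mem (hP x.2)) hg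
  comp_mem := by
    intro P Q φ ψ hφ hψ h
    refine ⟨F.comp_mem hφ.1 hψ.1 h, fun hn x => ?_⟩
    have hQS : Q ≤ S := (F.le_of_mem hψ.1).1
    have := finite_of_le hQS
    have hinj : Function.Injective (φ.codRestrict Q h) := by
      intro a b hab
      exact F.injective_of_mem hφ.1 (congrArg Subtype.val hab)
    have hcard : Nat.card P ≤ Nat.card Q := Nat.card_le_card_of_injective _ hinj
    have h1 := hψ.2 (lt_of_lt_of_le hn hcard) (φ.codRestrict Q h x)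
    have h2 := hφ.2 hn x
    have e : (x : Ω)⁻¹ * (ψ.comp (φ.codRestrict Q h)) x =
        ((x : Ω)⁻¹ * φ x) * ((φ x)⁻¹ * ψ (φ.codRestrict Q h x)) := by
      show (x : Ω)⁻¹ * ψ (φ.codRestrict Q h x) = _
      group
    rw [e]
    exact Φ.mul_mem h2 h1
  inv_mem := by
    intro P φ hφ
    obtain ⟨ψ, hψ, hinv⟩ := F.inv_mem hφ.1
    refine ⟨ψ, ⟨hψ, fun hn y => ?_⟩, hinv⟩
    have hcard : Nat.card φ.range = Nat.card P :=
      (Nat.card_congr (Equiv.ofInjective φ (F.injective_of_mem hφ.1))).symm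
    rw [hcard] at hn
    obtain ⟨y, x, rfl⟩ := y
    have h1 := Φ.inv_mem (hφ.2 hn x)
    show (φ x)⁻¹ * ψ ⟨φ x, _⟩ ∈ Φ
    rw [hinv x]
    simpa using h1

theorem le_goodSys_of_aut [Finite S] (p : ℕ) [Fact p.Prime] (hS : IsPGroup p S)
    (F : FusionSystem S) (hF : F.IsSaturated p) (Φ : Subgroup Ω) (hΦ : ⁅S, S⁆ ≤ Φ) (n : ℕ)
    (h : ∀ P : Subgroup Ω, (P = S ∨ F.IsEssential p P) → n < Nat.card P →
      ∀ α ∈ F.autGroup P, ∀ x : P, (x : Ω)⁻¹ * ((α x : P) : Ω) ∈ Φ) :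
    F ≤ goodSys F Φ hΦ n := by
  apply alperin_goldschmidt p hS F hF
  intro P hP α hα
  have hPS : P ≤ S := by
    rcases hP with rfl | hP
    · exact le_rfl
    · exact hP.1.1
  rw [mem_autGroup_iff _ hPS]
  exact ⟨(mem_autGroup_iff F hPS α).mp hα, fun hn x => h P hP hn α hα x⟩

theorem focalSubgroup_le_of_le_goodSys [Finite S] (F : FusionSystem S) (Φ : Subgroup Ω)
    (hΦ : ⁅S, S⁆ ≤ Φ) (h : F ≤ goodSys F Φ hΦ 0) : F.focalSubgroup ≤ Φ := by
  unfold focalSubgroup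
  rw [Subgroup.closure_le]
  rintro y ⟨P, φ, x, hφ, rfl⟩
  have hPS : P ≤ S := (F.le_of_mem hφ).1
  have : Finite ↥P := finite_of_le hPS
  exact (h P hφ).2 Nat.card_pos x

end Cfsg.Agent.Lib.Helper7.FocW
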