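import Mathlib
import Cfsg.Prelude.Def_FusionSystem
import Cfsg.Agent.Lib.Helper7.FocWa
import Cfsg.Agent.Lib.Helper7.ModelUqC
import Cfsg.Agent.Lib.Helper7.NormalizerConstrained

/-!
# Control of transfer by a positive characteristic functor, part C0: the focal subgroup theorem in a
normalizer of a realizing group
-/

set_option autoImplicit false

namespace Cfsg.Agent.Lib.Helper7.FocW

open Cfsg Cfsg.FusionSystem Cfsg.Agent.Lib.Helper7 Cfsg.Agent.Lib.Helper7.ModelUq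
  Cfsg.Agent.Lib.Helper7.GTF
open scoped commutatorElement

variable {Ω : Type*} [Group Ω] {T : Subgroup Ω}

/-- In a finite group `L` realizing the system `E` over the Sylow subgroup `T`, the elements of `T` in the
commutator subgroup of `N_L(V)` lie in the focal subgroup of `N_E(V)`. -/
theorem focal_model_le [Finite T] {p : ℕ} [Fact p.Prime] (E : FusionSystem T)
    {L : Type*} [Group L] [Finite L] (ι : T →* L) (hreal : E.IsRealizedBy ι)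
    (Sy : Sylow p L) (hSy : (Sy : Subgroup L) = ι.range) {V : Subgroup Ω} (hVT : V ≤ T)
    (hTV : T ≤ Subgroup.normalizer (V : Set Ω))
    (N : Subgroup L) (hN : N = Subgroup.normalizer ((imQ ι V : Subgroup L) : Set L))
    (n : ↥N) (hn : n ∈ commutator ↥N)
    (hnT : (n : L) ∈ ι.range) : (n : L) ∈ imQ ι (focN E V) := by
  obtain ⟨hinj, hreal⟩ := hreal
  have hfinV : Finite ↥V := finite_of_le hVT
  have hFT : focN E V ≤ T := focN_le_top E V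
  -- `ι(T) ≤ N`
  have hιN : ∀ t : T, ι t ∈ N := by
    intro t
    rw [hN, Subgroup.mem_normalizer_iff]
    intro y
    constructor
    · intro hy
      obtain ⟨v, rfl⟩ := (mem_imQ_iff ι hVT _).mp hy
      have hc : (t : Ω) * (v : Ω) * (t : Ω)⁻¹ ∈ V := (Subgroup.mem_normalizer_iff.mp (hTV t.2) _).mp v.2
      refine (mem_imQ_iff ι hVT _).mpr ⟨⟨_, hc⟩, ?_⟩
      rw [← map_inv, ← map_mul, ← map_mul]
      rfl
    · intro hy
      obtain ⟨v, hv⟩ := (mem_imQ_iff ι hVT _).mp hy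
      have hc : (t : Ω)⁻¹ * (v : Ω) * (t : Ω) ∈ V := by
        have := (Subgroup.mem_normalizer_iff.mp (Subgroup.inv_mem _ (hTV t.2)) (v : Ω)).mp v.2
        simpa using this
      refine (mem_imQ_iff ι hVT _).mpr ⟨⟨_, hc⟩, ?_⟩
      have h1 : ι ⟨(t : Ω)⁻¹ * (v : Ω) * (t : Ω), hVT hc⟩ = (ι t)⁻¹ * ι ⟨v, hVT v.2⟩ * ι t := by
        rw [← map_inv, ← map_mul, ← map_mul]
        rfl
      rw [h1, ← hv]
      group
  have hSyN : (Sy : Subgroup L) ≤ N := by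
    rw [hSy]
    rintro _ ⟨t, rfl⟩
    exact hιN t
  set PN : Sylow p ↥N := Sy.subtype hSyN with hPN
  have hmemPN : ∀ y : ↥N, y ∈ (PN : Subgroup ↥N) ↔ (y : L) ∈ ι.range := by
    intro y
    rw [hPN, Sylow.coe_subtype, Subgroup.mem_subgroupOf, hSy]
  have hFST := Subgroup.commutator_inf_eq_focalSubgroup PN
  have hnfoc : n ∈ (PN : Subgroup ↥N).focalSubgroup := by
    rw [← hFST]
    exact ⟨hn, (hmemPN n).mpr hnT⟩
  -- the focal subgroup lies in the image of `focN E V`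
  have hle : (PN : Subgroup ↥N).focalSubgroup ≤ (imQ ι (focN E V)).subgroupOf N := by
    rw [Subgroup.focalSubgroup_def, Subgroup.closure_le]
    rintro g₀ ⟨hg₀, a, ha, u, rfl⟩
    rw [SetLike.mem_coe, Subgroup.mem_subgroupOf]
    obtain ⟨a₀, ha₀⟩ := (hmemPN a).mp ha
    obtain ⟨c₀, hc₀⟩ := (hmemPN _).mp hg₀
    -- the domain of conjugation by `u`
    let Pu : Subgroup Ω :=
      { carrier := {y | ∃ hy : y ∈ T, (u : L) * ι ⟨y, hy⟩ * (u : L)⁻¹ ∈ ι.range}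
        one_mem' := ⟨T.one_mem, by
          have : (⟨1, T.one_mem⟩ : ↥T) = 1 := rfl
          rw [this, map_one, mul_one, mul_inv_cancel]
          exact Subgroup.one_mem _⟩
        mul_mem' := by
          rintro y z ⟨hy, hy'⟩ ⟨hz, hz'⟩
          refine ⟨T.mul_mem hy hz, ?_⟩
          have : (⟨y * z, T.mul_mem hy hz⟩ : ↥T) = ⟨y, hy⟩ * ⟨z, hz⟩ := rfl
          rw [this, map_mul]
          have e : (u : L) * (ι ⟨y, hy⟩ * ι ⟨z, hz⟩) * (u : L)⁻¹ =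
              ((u : L) * ι ⟨y, hy⟩ * (u : L)⁻¹) * ((u : L) * ι ⟨z, hz⟩ * (u : L)⁻¹) := by group
          rw [e]
          exact Subgroup.mul_mem _ hy' hz'
        inv_mem' := by
          rintro y ⟨hy, hy'⟩
          refine ⟨T.inv_mem hy, ?_⟩
          have : (⟨y⁻¹, T.inv_mem hy⟩ : ↥T) = (⟨y, hy⟩ : ↥T)⁻¹ := rfl
          rw [this, map_inv]
          have e : (u : L) * (ι ⟨y, hy⟩)⁻¹ * (u : L)⁻¹ = ((u : L) * ι ⟨y, hy⟩ * (u : L)⁻¹)⁻¹ := by group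
          rw [e]
          exact Subgroup.inv_mem _ hy' }
    have hPuT : Pu ≤ T := fun y hy => hy.1
    have hPu : ∀ y : Pu, (u : L) * ι ⟨y, hPuT y.2⟩ * (u : L)⁻¹ ∈ ι.range := fun y => y.2.2
    have huN : (u : L) ∈ Subgroup.normalizer ((imQ ι V : Subgroup L) : Set L) := hN ▸ u.2
    have hVPu : V ≤ Pu := by
      intro v hv
      refine ⟨hVT hv, ?_⟩
      have h1 : ι ⟨v, hVT hv⟩ ∈ imQ ι V := (mem_imQ_iff ι hVT _).mpr ⟨⟨v, hv⟩, rfl⟩
      have h2 := (Subgroup.mem_normalizer_iff.mp huN _).mp h1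
      exact Subgroup.map_le_range _ _ h2
    obtain ⟨φ, hφT, hφ⟩ := exists_hom_of_conj ι hinj hPuT (u : L) hPu
    have hφE : φ ∈ E.Hom Pu := (hreal Pu hPuT φ hφT).mpr ⟨u, hφ⟩
    -- `φ` maps `V` onto `V`
    have hφV : ∀ v : Pu, (v : Ω) ∈ V → φ v ∈ V := by
      intro v hv
      have h1 : ι ⟨v, hPuT v.2⟩ ∈ imQ ι V := (mem_imQ_iff ι hVT _).mpr ⟨⟨v, hv⟩, rfl⟩
      have h2 := (Subgroup.mem_normalizer_iff.mp huN _).mp h1
      rw [← hφ v] at h2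
      obtain ⟨w, hw⟩ := (mem_imQ_iff ι hVT _).mp h2
      have := congrArg Subtype.val (hinj hw)
      simp only at this
      rw [this]
      exact w.2
    have hφVsurj : ∀ w ∈ V, ∃ v : Pu, (v : Ω) ∈ V ∧ φ v = w := by
      intro w hw
      have h1 : ι ⟨w, hVT hw⟩ ∈ imQ ι V := (mem_imQ_iff ι hVT _).mpr ⟨⟨w, hw⟩, rfl⟩
      have h2 := (Subgroup.mem_normalizer_iff.mp (Subgroup.inv_mem _ huN) _).mp h1
      obtain ⟨v, hv⟩ := (mem_imQ_iff ι hVT _).mp h2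
      refine ⟨⟨v, hVPu v.2⟩, v.2, ?_⟩
      have h3 := hφ ⟨v, hVPu v.2⟩
      have h4 : ι ⟨(⟨v, hVPu v.2⟩ : Pu), hPuT (hVPu v.2)⟩ = ι ⟨v, hVT v.2⟩ := rfl
      rw [h4, ← hv] at h3
      have h5 : ι ⟨φ ⟨v, hVPu v.2⟩, hφT _⟩ = ι ⟨w, hVT hw⟩ := by
        rw [h3]; group
      exact congrArg Subtype.val (hinj h5)
    have hTN : T ≤ normalizerIn T V := le_inf le_rfl hTV
    have hφN : φ ∈ E.normalizerHom V Pu := by
      refine ⟨hφE, hPuT.trans hTN, fun y => hTN (hφT y), ?_⟩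
      have hsup : Pu ⊔ V = Pu := sup_eq_left.mpr hVPu
      refine ⟨_, fs_mem_of_eq E hsup hφE, fun y => rfl, ?_⟩
      ext y
      constructor
      · rintro ⟨s, hs, rfl⟩
        exact hφV _ (Subgroup.mem_subgroupOf.mp hs)
      · intro hy
        obtain ⟨v, hvV, hv⟩ := hφVsurj y hy
        refine ⟨⟨v, Subgroup.mem_sup_left v.2⟩, Subgroup.mem_subgroupOf.mpr hvV, ?_⟩
        rw [← hv]
        rfl
    -- `a₀⁻¹ ∈ Pu`
    have hcomm : ((⁅a, u⁆ : ↥N) : L) = (a : L) * ((u : L) * (a : L)⁻¹ * (u : L)⁻¹) := by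
      rw [commutatorElement_def]
      push_cast
      group
    have hainv : ((a₀ : Ω))⁻¹ ∈ Pu := by
      refine ⟨T.inv_mem a₀.2, ?_⟩
      have h1 : (⟨(a₀ : Ω)⁻¹, T.inv_mem a₀.2⟩ : ↥T) = a₀⁻¹ := rfl
      rw [h1, map_inv, ha₀]
      have h2 : (u : L) * (a : L)⁻¹ * (u : L)⁻¹ = (a : L)⁻¹ * ((⁅a, u⁆ : ↥N) : L) := by
        rw [hcomm]; group
      rw [h2, ← ha₀, ← hc₀, ← map_inv, ← map_mul]
      exact ⟨_, rfl⟩
    have hfoc := mem_focN E hφN ⟨(a₀ : Ω)⁻¹, hainv⟩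
    refine (mem_imQ_iff ι hFT _).mpr ⟨⟨_, hfoc⟩, ?_⟩
    rw [hcomm]
    have h3 := hφ ⟨(a₀ : Ω)⁻¹, hainv⟩
    have h4 : ι ⟨((⟨(a₀ : Ω)⁻¹, hainv⟩ : Pu) : Ω), hPuT hainv⟩ = (a : L)⁻¹ := by
      have h1 : (⟨(a₀ : Ω)⁻¹, hPuT hainv⟩ : ↥T) = a₀⁻¹ := rfl
      show ι ⟨(a₀ : Ω)⁻¹, hPuT hainv⟩ = _
      rw [h1, map_inv, ha₀]
    rw [h4] at h3
    rw [← h3, ← ha₀, ← map_mul]
    congr 1
    apply Subtype.ext
    show (a₀ : Ω) * φ ⟨(a₀ : Ω)⁻¹, hainv⟩ = ((a₀ : Ω)⁻¹)⁻¹ * φ ⟨(a₀ : Ω)⁻¹, hainv⟩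
    rw [inv_inv]
  exact Subgroup.mem_subgroupOf.mp (hle hnfoc)

end Cfsg.Agent.Lib.Helper7.FocW
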