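import Mathlib
import Cfsg.Prelude.Def_FusionSystem
import Cfsg.Agent.Lib.Helper7.FocWa
import Cfsg.Agent.Lib.Helper7.FocWc0
import Cfsg.Agent.Lib.Helper7.WCtlA
import Cfsg.Agent.Lib.Helper7.WCtlD
import Cfsg.Agent.Lib.Helper7.ModelExI
import Cfsg.Agent.Lib.Helper7.ModelUqC
import Cfsg.Agent.Lib.Helper7.NormalizerConstrained

/-!
# Control of transfer by a positive characteristic functor, part C: the local step
-/

set_option autoImplicit false

namespace Cfsg.Agent.Lib.Helper7.FocW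

open Cfsg Cfsg.FusionSystem Cfsg.Agent.Lib.Helper7 Cfsg.Agent.Lib.Helper7.ModelUq
  Cfsg.Agent.Lib.Helper7.WCtl Cfsg.Agent.Lib.Helper7.GTF
open scoped commutatorElement

universe u

variable {p : ℕ} [Fact p.Prime] (W : ∀ (Q : Type u) [Group Q], Subgroup Q)
  (hW2 : ∀ (Q R : Type u) [Group Q] [Group R] [Finite Q], IsPGroup p Q → ∀ φ : Q ≃* R,
    (W Q).map φ.toMonoidHom = W R)
  (hT : ∀ (G : Type u) [Group G] [Finite G] (P : Sylow p G),
    Subgroup.centralizer ((Cfsg.pCore p G : Subgroup G) : Set G) ≤ Cfsg.pCore p G →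
    Cfsg.pCore p G ⊓ commutator G = Cfsg.pCore p G ⊓
      (commutator ↥(Subgroup.normalizer
        (((W ↥(P : Subgroup G)).map (P : Subgroup G).subtype : Subgroup G) : Set G))).map
        (Subgroup.normalizer
          (((W ↥(P : Subgroup G)).map (P : Subgroup G).subtype : Subgroup G) : Set G)).subtype)

variable {Ω : Type u} [Group Ω] {S : Subgroup Ω}

include hW2 hT in
/-- the local step: the commutators of a fully normalized centric `D` with its `F`-automorphisms lie in the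
focal subgroup of `N_F(W(N_S(D)))` -/
theorem local_step [Finite S] (hS : IsPGroup p S) (F : FusionSystem S) (hF : F.IsSaturated p)
    {D : Subgroup Ω} (hDn : F.IsFullyNormalized D) (hDc : F.IsCentric D)
    (α : MulAut D) (hα : α ∈ F.autGroup D) (x : D) :
    (x : Ω)⁻¹ * ((α x : D) : Ω) ∈ focN F (WT W (normalizerIn S D)) := by
  have hDS : D ≤ S := hDn.1
  set T := normalizerIn S D with hTdef
  have hTS : T ≤ S := inf_le_left
  have hDT : D ≤ T := le_inf hDS Subgroup.le_normalizer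
  have hfinT : Finite ↥T := finite_of_le hTS
  have hfinD : Finite ↥D := finite_of_le hDS
  have hT' : IsPGroup p ↥T := hS.to_le hTS
  obtain ⟨E, hE⟩ := exists_normalizerSystem F D hDS
  have hEc := normalizerSystem_isConstrained p hS F hF D hDn hDc E hE
  obtain ⟨L, instL, ι, hM⟩ := ModelEx.exists_model p hT' E hEc
  have hDnorm : E.IsNormal D := isNormal_normalizerSystem F hDS E hE
  have hnorm : (imQ ι D).Normal := imQ_normal p E ι hM hDnorm
  have hpg : IsPGroup p ↥(imQ ι D) := imQ_isPGroup p hT' ι D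
  have hle : imQ ι D ≤ pCore p L := le_pCore hnorm hpg
  obtain ⟨hfinL, ⟨hinj, hreal⟩, ⟨Sy, hSy⟩, hcent⟩ := hM
  have hEF : ∀ (P : Subgroup Ω) (φ : P →* Ω), φ ∈ E.Hom P → φ ∈ F.Hom P := by
    intro P φ h
    rw [hE P] at h
    exact h.1
  -- α is a map of E
  have hφα : D.subtype.comp α.toMonoidHom ∈ F.Hom D := (mem_autGroup_iff F hDS α).mp hα
  have hφαT : ∀ x : D, (D.subtype.comp α.toMonoidHom) x ∈ T := fun x => hDT (α x).2
  have hφαE : D.subtype.comp α.toMonoidHom ∈ E.Hom D := by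
    rw [hE D]
    refine ⟨hφα, hDT, hφαT, ?_⟩
    have hsup : D ⊔ D = D := sup_idem D
    refine ⟨_, fs_mem_of_eq F hsup hφα, fun x => rfl, ?_⟩
    ext y
    constructor
    · rintro ⟨s, hs, rfl⟩
      exact (α _).2
    · intro hy
      refine ⟨⟨(α⁻¹ ⟨y, hy⟩ : D), Subgroup.mem_sup_left (α⁻¹ ⟨y, hy⟩ : D).2⟩,
        Subgroup.mem_subgroupOf.mpr (α⁻¹ ⟨y, hy⟩ : D).2, ?_⟩
      show ((α (Subgroup.inclusion (le_of_eq hsup) _) : D) : Ω) = y
      have : Subgroup.inclusion (le_of_eq hsup)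
          (⟨(α⁻¹ ⟨y, hy⟩ : D), Subgroup.mem_sup_left (α⁻¹ ⟨y, hy⟩ : D).2⟩ : ↥(D ⊔ D)) =
          α⁻¹ ⟨y, hy⟩ := Subtype.ext rfl
      rw [this]
      simp
  obtain ⟨g, hg⟩ := (hreal D hDT _ hφαT).mp hφαE
  -- the image of W(T)
  set V := WT W T with hVdef
  have hVT : V ≤ T := WT_le W T
  have hfinV : Finite ↥V := finite_of_le (hVT.trans hTS)
  have hWSy : ((W ↥(Sy : Subgroup L)).map (Sy : Subgroup L).subtype : Subgroup L) = imQ ι V := by
    set e : ↥T ≃* ↥(Sy : Subgroup L) :=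
      (MonoidHom.ofInjective hinj).trans (MulEquiv.subgroupCongr hSy.symm) with he
    have hcoe : ∀ x : T, ((e x : ↥(Sy : Subgroup L)) : L) = ι x := fun x => rfl
    ext y
    constructor
    · rintro ⟨s, hs, rfl⟩
      obtain ⟨x, rfl⟩ := e.surjective s
      have hx : x ∈ W ↥T := (W_equiv_mem W hW2 hT' e x).mp hs
      refine (mem_imQ_iff ι hVT _).mpr ⟨⟨x, (mem_WT_iff W T _).mpr ⟨x.2, hx⟩⟩, ?_⟩
      exact hcoe x
    · intro hy
      obtain ⟨v, rfl⟩ := (mem_imQ_iff ι hVT _).mp hy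
      obtain ⟨hvT, hvW⟩ := (mem_WT_iff W T _).mp v.2
      exact ⟨e ⟨v, hvT⟩, (W_equiv_mem W hW2 hT' e ⟨v, hvT⟩).mpr hvW, rfl⟩
  have hTL := hT L Sy hcent
  rw [hWSy] at hTL
  set N := Subgroup.normalizer ((imQ ι V : Subgroup L) : Set L) with hN
  -- the element
  set xT : ↥T := ⟨x, hDT x.2⟩ with hxT
  set e : L := (ι xT)⁻¹ * (g * ι xT * g⁻¹) with he
  have heι : e = ι ⟨(x : Ω)⁻¹ * ((α x : D) : Ω), T.mul_mem (T.inv_mem (hDT x.2)) (hDT (α x).2)⟩ := by
    have h1 := hg x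
    have h2 : (⟨(x : Ω)⁻¹ * ((α x : D) : Ω), T.mul_mem (T.inv_mem (hDT x.2)) (hDT (α x).2)⟩ : ↥T) =
        xT⁻¹ * ⟨(D.subtype.comp α.toMonoidHom) x, hφαT x⟩ := Subtype.ext rfl
    rw [h2, map_mul, map_inv, h1]
  have hepc : e ∈ pCore p L := by
    apply hle
    rw [heι]
    exact (mem_imQ_iff ι hDT _).mpr ⟨⟨(x : Ω)⁻¹ * ((α x : D) : Ω), D.mul_mem (D.inv_mem x.2) (α x).2⟩, rfl⟩
  have hecomm : e ∈ commutator L := by
    have : e = ⁅(ι xT)⁻¹, g⁆ := by
      rw [commutatorElement_def, he, inv_inv]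
      group
    rw [this, commutator_def]
    exact Subgroup.commutator_mem_commutator (Subgroup.mem_top _) (Subgroup.mem_top _)
  have heN : e ∈ (commutator ↥N).map N.subtype := by
    have : e ∈ pCore p L ⊓ commutator L := ⟨hepc, hecomm⟩
    rw [hTL] at this
    exact this.2
  obtain ⟨n, hn, hne⟩ := heN
  have hTV : T ≤ Subgroup.normalizer (V : Set Ω) :=
    Subgroup.le_normalizer.trans (normalizer_le_normalizer_WT W hW2 T hT')
  have hnT : (n : L) ∈ ι.range := by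
    have : (n : L) = e := hne
    rw [this, heι]
    exact ⟨_, rfl⟩
  have h1 := focal_model_le E ι ⟨hinj, hreal⟩ Sy hSy hVT hTV N hN n hn hnT
  have hFT : focN E V ≤ T := focN_le_top E V
  obtain ⟨f, hf⟩ := (mem_imQ_iff ι hFT _).mp h1
  have h2 : (n : L) = e := hne
  rw [h2, heι] at hf
  have h3 := congrArg Subtype.val (hinj hf)
  simp only at h3
  rw [h3]
  exact focN_mono F E hTS hEF V f.2

end Cfsg.Agent.Lib.Helper7.FocW
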