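import Mathlib
import Cfsg.Agent.Lib.Helper7.ModelExA

/-!
# Uniqueness of models, part A: the determinant of a semilinear action on a free set is a crossed homomorphism
-/

set_option autoImplicit false

universe u

namespace Cfsg.Agent.Lib.Helper7.ModelUq

open Cfsg.Agent.Lib.Helper7.BisetTransfer Cfsg.Agent.Lib.Helper7.TateFus Cfsg.Agent.Lib.Helper7.YoshidaFus
  Cfsg.Agent.Lib.Helper7.ModelEx

variable {X : Type u} {B : Type u} [CommGroup B] (lam : B →* Equiv.Perm X)
  (hfree : ∀ (b : B) (x : X), lam b x = x → b = 1) (σ : R lam → X)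
  (hσ : ∀ r : R lam, Quotient.mk (rel lam) (σ r) = r)
  {Γ : Type*} [Group Γ] [MulAction Γ X] (act : Γ →* MulAut B)
  (hsemi : ∀ (γ : Γ) (b : B) (x : X), γ • (lam b x) = lam (act γ b) (γ • x))

/-- the action induced on the orbit space, as a function -/
def sbarFun (γ : Γ) : R lam → R lam :=
  Quotient.map' (s₁ := rel lam) (s₂ := rel lam) (fun x => γ • x) (by
    rintro x y ⟨b, rfl⟩
    exact ⟨act γ b, (hsemi γ b x).symm⟩)

theorem sbarFun_mk (γ : Γ) (x : X) :
    sbarFun lam act hsemi γ (Quotient.mk (rel lam) x) = Quotient.mk (rel lam) (γ • x) := rfl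

theorem sbarFun_mul (γ δ : Γ) (r : R lam) :
    sbarFun lam act hsemi (γ * δ) r = sbarFun lam act hsemi γ (sbarFun lam act hsemi δ r) := by
  induction r using Quotient.inductionOn with
  | h x =>
    rw [sbarFun_mk, sbarFun_mk, sbarFun_mk, mul_smul]

theorem sbarFun_one (r : R lam) : sbarFun lam act hsemi (1 : Γ) r = r := by
  induction r using Quotient.inductionOn with
  | h x => rw [sbarFun_mk, one_smul]

/-- the action induced on the orbit space -/
def sbar (γ : Γ) : Equiv.Perm (R lam) where
  toFun := sbarFun lam act hsemi γ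
  invFun := sbarFun lam act hsemi γ⁻¹
  left_inv r := by rw [← sbarFun_mul, inv_mul_cancel, sbarFun_one]
  right_inv r := by rw [← sbarFun_mul, mul_inv_cancel, sbarFun_one]

theorem sbar_mk (γ : Γ) (x : X) :
    sbar lam act hsemi γ (Quotient.mk (rel lam) x) = Quotient.mk (rel lam) (γ • x) := rfl

/-- the action induced on the orbit space, as a homomorphism -/
def sbarHom : Γ →* Equiv.Perm (R lam) where
  toFun := sbar lam act hsemi
  map_one' := by
    ext r; exact sbarFun_one lam act hsemi r
  map_mul' γ δ := by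
    ext r; exact sbarFun_mul lam act hsemi γ δ r

theorem sbarHom_apply (γ : Γ) (r : R lam) : sbarHom lam act hsemi γ r = sbar lam act hsemi γ r := rfl

include hσ in
theorem mk_smul_sigma (γ : Γ) (r : R lam) :
    Quotient.mk (rel lam) (γ • σ r) = sbar lam act hsemi γ r := by
  conv_rhs => rw [← hσ r]
  rfl

variable [Fintype (R lam)]

/-- the determinant of a semilinear action -/
noncomputable def sdet (γ : Γ) : B := ∏ r : R lam, dl lam σ hσ (γ • σ r)

include hfree hsemi in
/-- the determinant is a crossed homomorphism -/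
theorem sdet_mul (γ δ : Γ) :
    sdet lam σ hσ (γ * δ) = sdet lam σ hσ γ * act γ (sdet lam σ hσ δ) := by
  unfold sdet
  have key : ∀ r : R lam, dl lam σ hσ ((γ * δ) • σ r) =
      act γ (dl lam σ hσ (δ • σ r)) * dl lam σ hσ (γ • σ (sbar lam act hsemi δ r)) := by
    intro r
    have h1 := dl_spec lam σ hσ (δ • σ r)
    rw [mk_smul_sigma lam σ hσ act hsemi δ r] at h1
    have h2 : (γ * δ) • σ r = lam (act γ (dl lam σ hσ (δ • σ r))) (γ • σ (sbar lam act hsemi δ r)) := by
      rw [mul_smul, ← hsemi, h1]
    rw [h2, dl_smul lam hfree σ hσ]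
  rw [Finset.prod_congr rfl (fun r _ => key r), Finset.prod_mul_distrib, map_prod, mul_comm]
  congr 1
  exact Equiv.prod_comp (sbar lam act hsemi δ) (fun r => dl lam σ hσ (γ • σ r))

include hfree hsemi in
theorem sdet_one : sdet lam σ hσ (1 : Γ) = 1 := by
  have h := sdet_mul lam hfree σ hσ act hsemi 1 1
  rw [mul_one, map_one] at h
  simpa using h

include hfree in
/-- the determinant of an element acting as an element of `B` -/
theorem sdet_of_eq_lam (γ : Γ) (b : B) (h : ∀ x : X, γ • x = lam b x) :
    sdet lam σ hσ γ = b ^ Fintype.card (R lam) := by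
  unfold sdet
  rw [Finset.prod_congr rfl (fun r _ => by
    rw [h, dl_smul lam hfree σ hσ, dl_sigma lam hfree σ hσ, mul_one])]
  rw [Finset.prod_const, Finset.card_univ]

include hfree in
/-- the determinant of an element preserving the section -/
theorem sdet_of_sigma (γ : Γ) (h : ∀ r : R lam, γ • σ r = σ (Quotient.mk (rel lam) (γ • σ r))) :
    sdet lam σ hσ γ = 1 := by
  unfold sdet
  apply Finset.prod_eq_one
  intro r _
  rw [h r]
  exact dl_sigma lam hfree σ hσ _

/-- an equivariant section of an equivariant map whose fibres contain points with large stabilizers -/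
theorem exists_equivariant_section {H : Type*} [Group H] {E Bs : Type*} [MulAction H E] [MulAction H Bs]
    (π : E → Bs) (hπ : ∀ (h : H) (e : E), π (h • e) = h • π e)
    (hstab : ∀ b : Bs, ∃ e : E, π e = b ∧ ∀ h : H, h • b = b → h • e = e) :
    ∃ σ : Bs → E, (∀ b, π (σ b) = b) ∧ ∀ (h : H) (b : Bs), σ (h • b) = h • σ b := by
  classical
  -- base point of the orbit of `b`
  let base : Bs → Bs := fun b => Quotient.out (Quotient.mk (MulAction.orbitRel H Bs) b)
  have hbase : ∀ b, ∃ k : H, k • b = base b := by
    intro b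
    have h1 : (MulAction.orbitRel H Bs).r (base b) b := Quotient.mk_out (s := MulAction.orbitRel H Bs) b
    rw [MulAction.orbitRel_apply] at h1
    obtain ⟨k, hk⟩ := h1
    exact ⟨k, hk⟩
  have hbase_smul : ∀ (h : H) (b : Bs), base (h • b) = base b := by
    intro h b
    show Quotient.out _ = Quotient.out _
    congr 1
    apply Quotient.sound
    show (MulAction.orbitRel H Bs).r (h • b) b
    rw [MulAction.orbitRel_apply]
    exact ⟨h, rfl⟩
  choose kk hkk using hbase
  choose ee hee using hstab
  refine ⟨fun b => (kk b)⁻¹ • ee (base b), fun b => ?_, fun h b => ?_⟩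
  · rw [hπ, (hee (base b)).1, ← hkk b, inv_smul_smul]
  · show (kk (h • b))⁻¹ • ee (base (h • b)) = h • (kk b)⁻¹ • ee (base b)
    rw [hbase_smul h b]
    have hfix : (kk (h • b) * h * (kk b)⁻¹) • base b = base b := by
      rw [mul_smul, mul_smul]
      have h1 : (kk b)⁻¹ • base b = b := by rw [← hkk b, inv_smul_smul]
      rw [h1, hkk (h • b), hbase_smul]
    have h2 := (hee (base b)).2 _ hfix
    rw [inv_smul_eq_iff, ← mul_smul, ← mul_smul]
    exact h2.symm

end Cfsg.Agent.Lib.Helper7.ModelUq
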