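import Mathlib
import Cfsg.Agent.Lib.Helper7.ModelUqA

/-!
# Uniqueness of models, part B: a relative form of Gaschütz's theorem

`V` is an abelian normal subgroup of the finite group `Γ` and `P₀` a subgroup meeting `V` trivially, such that the
index of `V P₀` is prime to the order of `V`, and such that `P₀` is stable: every conjugate of a subgroup of `P₀`
inside `V P₀` is conjugate into `P₀` by an element of `V`.  Then `V` has a complement in `Γ` containing `P₀`.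
-/

set_option autoImplicit false

universe u

namespace Cfsg.Agent.Lib.Helper7.ModelUq

open Cfsg.Agent.Lib.Helper7.BisetTransfer Cfsg.Agent.Lib.Helper7.TateFus Cfsg.Agent.Lib.Helper7.YoshidaFus
  Cfsg.Agent.Lib.Helper7.ModelEx

open scoped IsMulCommutative

variable {Γ : Type u} [Group Γ] (V P₀ : Subgroup Γ) [hVn : V.Normal]

/-- the action of `V` on the cosets of `P₀` -/
def lamV : ↥V →* Equiv.Perm (Γ ⧸ P₀) := (MulAction.toPermHom Γ (Γ ⧸ P₀)).comp V.subtype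

omit hVn in
theorem lamV_apply (v : ↥V) (γ : Γ) :
    lamV V P₀ v (QuotientGroup.mk γ) = QuotientGroup.mk ((v : Γ) * γ) := rfl

omit hVn in
theorem lamV_apply' (v : ↥V) (x : Γ ⧸ P₀) : lamV V P₀ v x = (v : Γ) • x := rfl

include hVn in
theorem lamV_free (hVP : V ⊓ P₀ = ⊥) (v : ↥V) (x : Γ ⧸ P₀) (h : lamV V P₀ v x = x) : v = 1 := by
  obtain ⟨γ, rfl⟩ := QuotientGroup.mk_surjective x
  rw [lamV_apply, QuotientGroup.eq] at h
  have h1 : γ⁻¹ * (v : Γ)⁻¹ * γ⁻¹⁻¹ ∈ V := hVn.conj_mem _ (V.inv_mem v.2) γ⁻¹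
  have h2 : γ⁻¹ * (v : Γ)⁻¹ * γ⁻¹⁻¹ ∈ V ⊓ P₀ := by
    refine ⟨h1, ?_⟩
    have e : γ⁻¹ * (v : Γ)⁻¹ * γ⁻¹⁻¹ = ((v : Γ) * γ)⁻¹ * γ := by group
    rw [e]; exact h
  rw [hVP, Subgroup.mem_bot] at h2
  have h3 : (v : Γ)⁻¹ = 1 := by
    have := congrArg (fun t => γ * t * γ⁻¹) h2
    simpa [mul_assoc] using this
  apply Subtype.ext
  simpa using h3

theorem semi_lamV (γ : Γ) (v : ↥V) (x : Γ ⧸ P₀) :
    γ • (lamV V P₀ v x) = lamV V P₀ (MulAut.conjNormal γ v) (γ • x) := by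
  obtain ⟨y, rfl⟩ := QuotientGroup.mk_surjective x
  rw [lamV_apply, MulAction.Quotient.smul_mk, MulAction.Quotient.smul_mk, lamV_apply]
  congr 1
  rw [MulAut.conjNormal_apply]
  simp only [smul_eq_mul]
  group

theorem card_sup_eq (hVP : V ⊓ P₀ = ⊥) : Nat.card ↥(V ⊔ P₀) = Nat.card ↥V * Nat.card ↥P₀ := by
  have h1 : V.relIndex (P₀ ⊔ V) = V.relIndex P₀ := Subgroup.relIndex_sup_right P₀ V
  have h2 : V.relIndex P₀ = Nat.card ↥P₀ := by
    rw [← Subgroup.inf_relIndex_right, hVP, Subgroup.relIndex_bot_left]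
  have h3 : V.relIndex (P₀ ⊔ V) * Nat.card ↥V = Nat.card ↥(P₀ ⊔ V) := by
    have := Subgroup.relIndex_mul_relIndex ⊥ V (P₀ ⊔ V) bot_le le_sup_right
    rw [Subgroup.relIndex_bot_left, Subgroup.relIndex_bot_left] at this
    rw [mul_comm]; exact this
  rw [sup_comm, ← h3, h1, h2, mul_comm]

/-- a relative form of Gaschütz's theorem -/
theorem exists_complement_containing [Finite Γ]
    (hVc : ∀ a ∈ V, ∀ b ∈ V, a * b = b * a) (hVP : V ⊓ P₀ = ⊥)
    (hcop : (Nat.card ↥V).Coprime (V ⊔ P₀).index)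
    (hstab : ∀ γ : Γ, ∃ v ∈ V, ∀ x ∈ P₀, γ⁻¹ * x * γ ∈ V ⊔ P₀ → v⁻¹ * (γ⁻¹ * x * γ) * v ∈ P₀) :
    ∃ K : Subgroup Γ, P₀ ≤ K ∧ K ⊓ V = ⊥ ∧ K ⊔ V = ⊤ := by
  classical
  have hcomm : IsMulCommutative ↥V := ⟨⟨fun a b => Subtype.ext (hVc a a.2 b b.2)⟩⟩
  have hfree := lamV_free V P₀ hVP
  have hsemi := semi_lamV V P₀
  let _ : Fintype (R (lamV V P₀)) := Fintype.ofFinite _
  -- the number of orbits
  have hcardR : Fintype.card (R (lamV V P₀)) = (V ⊔ P₀).index := by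
    have h1 := card_eq (lamV V P₀) hfree
    have h2 : Nat.card (Γ ⧸ P₀) = P₀.index := rfl
    have h3 := Subgroup.card_mul_index P₀
    have h4 := Subgroup.card_mul_index (V ⊔ P₀)
    rw [card_sup_eq V P₀ hVP] at h4
    rw [← h2, h1, ← h4] at h3
    have hpos : 0 < Nat.card ↥V * Nat.card ↥P₀ := Nat.mul_pos Nat.card_pos Nat.card_pos
    rw [← Nat.card_eq_fintype_card]
    apply Nat.eq_of_mul_eq_mul_left hpos
    rw [← h3]
    ring
  -- the action of `P₀` on the orbit space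
  let _ : MulAction ↥P₀ (R (lamV V P₀)) :=
    MulAction.compHom (R (lamV V P₀)) ((sbarHom (lamV V P₀) MulAut.conjNormal hsemi).comp P₀.subtype)
  have hsmR : ∀ (x : ↥P₀) (r : R (lamV V P₀)), x • r = sbar (lamV V P₀) MulAut.conjNormal hsemi (x : Γ) r :=
    fun x r => rfl
  have hsmX : ∀ (x : ↥P₀) (e : Γ ⧸ P₀), x • e = (x : Γ) • e := fun x e => rfl
  -- the equivariant section
  obtain ⟨σ, hσ, hσeq⟩ := exists_equivariant_section (H := ↥P₀) (E := Γ ⧸ P₀) (Bs := R (lamV V P₀))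
    (fun e => Quotient.mk (rel (lamV V P₀)) e) (fun h e => rfl) (by
      intro r
      obtain ⟨e, rfl⟩ := Quotient.exists_rep r
      obtain ⟨γ, rfl⟩ := QuotientGroup.mk_surjective e
      obtain ⟨v, hv, hvst⟩ := hstab γ
      refine ⟨QuotientGroup.mk (γ * v), ?_, ?_⟩
      · apply Quotient.sound
        refine ⟨⟨γ * v⁻¹ * γ⁻¹, hVn.conj_mem _ (V.inv_mem hv) γ⟩, ?_⟩
        rw [lamV_apply]
        congr 1
        simp only []
        group
      · intro x hx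
        rw [hsmR, sbar_mk] at hx
        obtain ⟨u, hu⟩ := Quotient.exact hx
        -- lamV u (x • mk γ) = mk γ
        have hu' : lamV V P₀ u ((x : Γ) • (QuotientGroup.mk γ : Γ ⧸ P₀)) = QuotientGroup.mk γ := hu
        rw [MulAction.Quotient.smul_mk, lamV_apply, QuotientGroup.eq] at hu'
        -- γ⁻¹ x γ ∈ V ⊔ P₀
        have hmem : γ⁻¹ * (x : Γ) * γ ∈ V ⊔ P₀ := by
          have h1 : γ⁻¹ * (u : Γ)⁻¹ * γ⁻¹⁻¹ ∈ V := hVn.conj_mem _ (V.inv_mem u.2) γ⁻¹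
          have e1 : γ⁻¹ * (x : Γ) * γ = (γ⁻¹ * (u : Γ)⁻¹ * γ⁻¹⁻¹) * (((u : Γ) * ((x : Γ) • γ))⁻¹ * γ)⁻¹ := by
            simp only [smul_eq_mul]
            group
          rw [e1]
          exact (V ⊔ P₀).mul_mem (Subgroup.mem_sup_left h1) (Subgroup.mem_sup_right (P₀.inv_mem hu'))
        have h2 := hvst x x.2 hmem
        rw [hsmX, MulAction.Quotient.smul_mk, QuotientGroup.eq]
        have e2 : ((x : Γ) • (γ * v))⁻¹ * (γ * v) = (v⁻¹ * (γ⁻¹ * (x : Γ) * γ) * v)⁻¹ := by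
          simp only [smul_eq_mul]
          group
        rw [e2]
        exact P₀.inv_mem h2)
  -- the crossed homomorphism
  have hmul := sdet_mul (lamV V P₀) hfree σ hσ MulAut.conjNormal hsemi
  have hone := sdet_one (lamV V P₀) hfree σ hσ MulAut.conjNormal hsemi
  have hdV : ∀ v : ↥V, sdet (lamV V P₀) σ hσ (v : Γ) = v ^ (V ⊔ P₀).index := by
    intro v
    rw [← hcardR]
    exact sdet_of_eq_lam (lamV V P₀) hfree σ hσ (v : Γ) v (fun x => rfl)
  have hdP : ∀ x ∈ P₀, sdet (lamV V P₀) σ hσ x = 1 := by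
    intro x hx
    apply sdet_of_sigma (lamV V P₀) hfree σ hσ x
    intro r
    have h1 := hσeq ⟨x, hx⟩ r
    rw [hsmX] at h1
    have h2 : Quotient.mk (rel (lamV V P₀)) (x • σ r) = (⟨x, hx⟩ : ↥P₀) • r := by
      rw [hsmR, ← mk_smul_sigma (lamV V P₀) σ hσ MulAut.conjNormal hsemi]
    rw [h2, h1]
  have hactV : ∀ (v : ↥V) (w : ↥V), MulAut.conjNormal (v : Γ) w = w := by
    intro v w
    apply Subtype.ext
    rw [MulAut.conjNormal_apply]
    have := hVc v v.2 w w.2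
    rw [this]; group
  -- the kernel
  let K : Subgroup Γ :=
    { carrier := {γ | sdet (lamV V P₀) σ hσ γ = 1}
      mul_mem' := by
        intro a b ha hb
        show sdet (lamV V P₀) σ hσ (a * b) = 1
        rw [hmul, ha, hb, map_one, mul_one]
      one_mem' := hone
      inv_mem' := by
        intro a ha
        show sdet (lamV V P₀) σ hσ a⁻¹ = 1
        have h1 := hmul a⁻¹ a
        rw [inv_mul_cancel, hone, ha, map_one, mul_one] at h1
        exact h1.symm }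
  have hKmem : ∀ γ : Γ, γ ∈ K ↔ sdet (lamV V P₀) σ hσ γ = 1 := fun γ => Iff.rfl
  have hpow : Function.Bijective (fun v : ↥V => v ^ (V ⊔ P₀).index) := (powCoprime hcop).bijective
  refine ⟨K, fun x hx => (hKmem x).mpr (hdP x hx), ?_, ?_⟩
  · rw [eq_bot_iff]
    rintro γ ⟨hγK, hγV⟩
    rw [Subgroup.mem_bot]
    have h1 := hdV ⟨γ, hγV⟩
    rw [(hKmem γ).mp hγK] at h1
    have h2 : (⟨γ, hγV⟩ : ↥V) = 1 := by
      apply hpow.1
      show (⟨γ, hγV⟩ : ↥V) ^ (V ⊔ P₀).index = 1 ^ (V ⊔ P₀).index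
      rw [← h1, one_pow]
    exact congrArg Subtype.val h2
  · rw [eq_top_iff]
    intro γ _
    obtain ⟨v, hv⟩ := hpow.2 (sdet (lamV V P₀) σ hσ γ)⁻¹
    have hv' : v ^ (V ⊔ P₀).index = (sdet (lamV V P₀) σ hσ γ)⁻¹ := hv
    have h1 : (v : Γ) * γ ∈ K := by
      rw [hKmem, hmul, hdV, hactV, hv', inv_mul_cancel]
    have e : γ = ((v : Γ) * γ) * (γ⁻¹ * (v : Γ)⁻¹ * γ⁻¹⁻¹) := by group
    rw [e]
    exact (K ⊔ V).mul_mem (Subgroup.mem_sup_left h1)
      (Subgroup.mem_sup_right (hVn.conj_mem _ (V.inv_mem v.2) γ⁻¹))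

end Cfsg.Agent.Lib.Helper7.ModelUq
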