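import Mathlib
import Cfsg.Prelude.Def_FusionSystem
import Cfsg.Agent.Lib.Helper7.ModelUqC
import Cfsg.Agent.Lib.Helper7.ModelExD
import Cfsg.Agent.Lib.Helper7.FusionSat

/-!
# Uniqueness of models, part D: the action of a model on a normal centric subgroup
-/

set_option autoImplicit false

namespace Cfsg.Agent.Lib.Helper7.ModelUq

open Cfsg Cfsg.FusionSystem Cfsg.Agent.Lib.Helper7 Cfsg.Agent.Lib.Helper7.ModelEx

variable {Ω : Type*} [Group Ω] {S : Subgroup Ω}

section model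

variable [Finite S] (p : ℕ) [Fact p.Prime] (hS : IsPGroup p S) (F : FusionSystem S)
  {G : Type*} [Group G] (ι : S →* G) (hG : F.IsModel p G ι) {Q : Subgroup Ω} (hQ : F.IsNormal Q)

/-- the embedding of `Q` in the model -/
def jQ (hQS : Q ≤ S) : ↥Q →* G := ι.comp (Subgroup.inclusion hQS)

theorem jQ_apply (hQS : Q ≤ S) (q : ↥Q) : jQ ι hQS q = ι ⟨q, hQS q.2⟩ := rfl

include hG in
theorem jQ_injective : Function.Injective (jQ ι hQ.1) :=
  hG.2.1.1.comp (Subgroup.inclusion_injective hQ.1)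

include hG hQ in
theorem exists_conj (g : G) (q : ↥Q) : ∃ q' : ↥Q, jQ ι hQ.1 q' = g * jQ ι hQ.1 q * g⁻¹ := by
  obtain ⟨q', hq'⟩ := model_conj_mem p F ι hG hQ g q
  exact ⟨q', hq'.symm⟩

/-- the action of the model on `Q`, as a function -/
noncomputable def actFun (g : G) (q : ↥Q) : ↥Q := Classical.choose (exists_conj p F ι hG hQ g q)

theorem actFun_spec (g : G) (q : ↥Q) :
    jQ ι hQ.1 (actFun p F ι hG hQ g q) = g * jQ ι hQ.1 q * g⁻¹ :=
  Classical.choose_spec (exists_conj p F ι hG hQ g q)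

theorem actFun_unique {g : G} {q q' : ↥Q} (h : jQ ι hQ.1 q' = g * jQ ι hQ.1 q * g⁻¹) :
    actFun p F ι hG hQ g q = q' := by
  apply jQ_injective p F ι hG hQ
  rw [actFun_spec, h]

theorem actFun_mul (g : G) (q q' : ↥Q) :
    actFun p F ι hG hQ g (q * q') = actFun p F ι hG hQ g q * actFun p F ι hG hQ g q' := by
  apply actFun_unique
  rw [map_mul, map_mul, actFun_spec, actFun_spec]
  group

theorem actFun_comp (g h : G) (q : ↥Q) :
    actFun p F ι hG hQ (g * h) q = actFun p F ι hG hQ g (actFun p F ι hG hQ h q) := by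
  apply actFun_unique
  rw [actFun_spec, actFun_spec]
  group

theorem actFun_one (q : ↥Q) : actFun p F ι hG hQ 1 q = q := by
  apply actFun_unique
  simp

/-- the action of the model on `Q`, as an automorphism -/
noncomputable def actAut (g : G) : MulAut ↥Q where
  toFun := actFun p F ι hG hQ g
  invFun := actFun p F ι hG hQ g⁻¹
  left_inv q := by rw [← actFun_comp, inv_mul_cancel, actFun_one]
  right_inv q := by rw [← actFun_comp, mul_inv_cancel, actFun_one]
  map_mul' := actFun_mul p F ι hG hQ g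

/-- the action of the model on `Q` -/
noncomputable def act : G →* MulAut ↥Q where
  toFun := actAut p F ι hG hQ
  map_one' := by
    ext q
    show ((actFun p F ι hG hQ 1 q : ↥Q) : Ω) = q
    rw [actFun_one]
  map_mul' g h := by
    ext q
    show ((actFun p F ι hG hQ (g * h) q : ↥Q) : Ω) = (actFun p F ι hG hQ g (actFun p F ι hG hQ h q) : ↥Q)
    rw [actFun_comp]

theorem act_spec (g : G) (q : ↥Q) : jQ ι hQ.1 (act p F ι hG hQ g q) = g * jQ ι hQ.1 q * g⁻¹ :=
  actFun_spec p F ι hG hQ g q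

theorem act_unique {g : G} {α : MulAut ↥Q} (h : ∀ q, jQ ι hQ.1 (α q) = g * jQ ι hQ.1 q * g⁻¹) :
    act p F ι hG hQ g = α := by
  ext q
  show ((actFun p F ι hG hQ g q : ↥Q) : Ω) = α q
  rw [actFun_unique p F ι hG hQ (h q)]

theorem act_iota (s : ↥S) : act p F ι hG hQ (ι s) = conjS Q (le_normalizer_of_isNormal F hQ) s := by
  apply act_unique
  intro q
  rw [jQ_apply, jQ_apply, ← map_inv, ← map_mul, ← map_mul]
  congr 1

theorem act_mem_autGroup (g : G) : act p F ι hG hQ g ∈ F.autGroup Q := by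
  rw [mem_autGroup_iff F hQ.1]
  apply (hG.2.1.2 Q hQ.1 _ (fun q => hQ.1 (act p F ι hG hQ g q).2)).mpr
  exact ⟨g, fun q => act_spec p F ι hG hQ g q⟩

theorem exists_act_eq (α : MulAut ↥Q) (hα : α ∈ F.autGroup Q) : ∃ g : G, act p F ι hG hQ g = α := by
  have hα' := (mem_autGroup_iff F hQ.1 α).mp hα
  obtain ⟨g, hg⟩ := (hG.2.1.2 Q hQ.1 _ (fun q => hQ.1 (α q).2)).mp hα'
  exact ⟨g, act_unique p F ι hG hQ (fun q => hg q)⟩

include hS in
/-- the kernel of the action is the image of the centre of `Q` -/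
theorem exists_center_of_act_eq_one (hcen : centralizerIn S Q ≤ Q) (g : G) (h : act p F ι hG hQ g = 1) :
    ∃ z : ↥(Subgroup.center ↥Q), g = jQ ι hQ.1 z := by
  have hgC : g ∈ Subgroup.centralizer ((imQ ι Q : Subgroup G) : Set G) := by
    rw [Subgroup.mem_centralizer_iff]
    intro x hx
    obtain ⟨q, rfl⟩ := (mem_imQ_iff ι hQ.1 x).mp hx
    have h1 := act_spec p F ι hG hQ g q
    rw [h] at h1
    have h2 : jQ ι hQ.1 q = g * jQ ι hQ.1 q * g⁻¹ := h1
    rw [← jQ_apply ι hQ.1 q]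
    conv_lhs => rw [h2]
    group
  have h3 := model_centralizer_le p hS F ι hG hQ hcen hgC
  obtain ⟨z, rfl⟩ := (mem_imQ_iff ι hQ.1 g).mp h3
  refine ⟨⟨z, ?_⟩, rfl⟩
  rw [Subgroup.mem_center_iff]
  intro q
  have h4 := (Subgroup.mem_centralizer_iff.mp hgC) _ ((mem_imQ_iff ι hQ.1 _).mpr ⟨q, rfl⟩)
  rw [← jQ_apply, ← jQ_apply, ← map_mul, ← map_mul] at h4
  exact jQ_injective p F ι hG hQ h4

end model

end Cfsg.Agent.Lib.Helper7.ModelUq
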