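import Mathlib
import Cfsg.Prelude.Def_FusionSystem
import Cfsg.Agent.Lib.Helper7.ModelUqB
import Cfsg.Agent.Lib.Helper7.ModelUqD
import Cfsg.Agent.Lib.Helper7.ModelExI
import Cfsg.Agent.Lib.Helper7.FusionCenterFactor

/-!
# Uniqueness of models, part E: two models of a constrained fusion system are isomorphic
-/

set_option autoImplicit false

namespace Cfsg.Agent.Lib.Helper7.ModelUq

open Cfsg Cfsg.FusionSystem Cfsg.Agent.Lib.Helper7 Cfsg.Agent.Lib.Helper7.ModelEx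

variable {Ω : Type*} [Group Ω] {S : Subgroup Ω}

section two

variable [Finite S] (p : ℕ) [Fact p.Prime] (hS : IsPGroup p S) (F : FusionSystem S) (hF : F.IsSaturated p)
  {G₁ G₂ : Type*} [Group G₁] [Group G₂] (ι₁ : S →* G₁) (ι₂ : S →* G₂)
  (h₁ : F.IsModel p G₁ ι₁) (h₂ : F.IsModel p G₂ ι₂) {Q : Subgroup Ω} (hQ : F.IsNormal Q)
  (hcen : centralizerIn S Q ≤ Q)

/-- the fibre product of the two models over the automorphism group of `Q` -/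
noncomputable def fib : Subgroup (G₁ × G₂) :=
  MonoidHom.eqLocus ((act p F ι₁ h₁ hQ).comp (MonoidHom.fst G₁ G₂)) ((act p F ι₂ h₂ hQ).comp (MonoidHom.snd G₁ G₂))

theorem mem_fib_iff (x : G₁ × G₂) :
    x ∈ fib p F ι₁ ι₂ h₁ h₂ hQ ↔ act p F ι₁ h₁ hQ x.1 = act p F ι₂ h₂ hQ x.2 := Iff.rfl

/-- the diagonal embedding of `S` -/
noncomputable def diagS : ↥S →* ↥(fib p F ι₁ ι₂ h₁ h₂ hQ) :=
  (ι₁.prod ι₂).codRestrict (fib p F ι₁ ι₂ h₁ h₂ hQ) (by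
    intro s
    rw [mem_fib_iff]
    show act p F ι₁ h₁ hQ (ι₁ s) = act p F ι₂ h₂ hQ (ι₂ s)
    rw [act_iota, act_iota])

theorem diagS_coe (s : ↥S) : ((diagS p F ι₁ ι₂ h₁ h₂ hQ s : ↥(fib p F ι₁ ι₂ h₁ h₂ hQ)) : G₁ × G₂) = (ι₁ s, ι₂ s) := rfl

/-- the first projection of the fibre product -/
noncomputable def fst' : ↥(fib p F ι₁ ι₂ h₁ h₂ hQ) →* G₁ := (MonoidHom.fst G₁ G₂).comp (fib p F ι₁ ι₂ h₁ h₂ hQ).subtype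

/-- the second projection of the fibre product -/
noncomputable def snd' : ↥(fib p F ι₁ ι₂ h₁ h₂ hQ) →* G₂ := (MonoidHom.snd G₁ G₂).comp (fib p F ι₁ ι₂ h₁ h₂ hQ).subtype

/-- the kernel of the first projection -/
noncomputable def VV : Subgroup ↥(fib p F ι₁ ι₂ h₁ h₂ hQ) := (fst' p F ι₁ ι₂ h₁ h₂ hQ).ker

theorem mem_VV_iff (γ : ↥(fib p F ι₁ ι₂ h₁ h₂ hQ)) : γ ∈ VV p F ι₁ ι₂ h₁ h₂ hQ ↔ (γ : G₁ × G₂).1 = 1 :=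
  MonoidHom.mem_ker

include hS hcen in
/-- elements of the kernel of the first projection -/
theorem exists_center_of_mem_VV (γ : ↥(fib p F ι₁ ι₂ h₁ h₂ hQ)) (hγ : γ ∈ VV p F ι₁ ι₂ h₁ h₂ hQ) :
    ∃ z : ↥(Subgroup.center ↥Q), (γ : G₁ × G₂) = (1, jQ ι₂ hQ.1 z) := by
  rw [mem_VV_iff] at hγ
  have h1 := (mem_fib_iff p F ι₁ ι₂ h₁ h₂ hQ γ.1).mp γ.2
  rw [hγ, map_one] at h1
  obtain ⟨z, hz⟩ := exists_center_of_act_eq_one p hS F ι₂ h₂ hQ hcen _ h1.symm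
  exact ⟨z, Prod.ext hγ hz⟩

theorem act_jQ_center {G : Type*} [Group G] (ι : S →* G) (hG : F.IsModel p G ι)
    (z : ↥(Subgroup.center ↥Q)) : act p F ι hG hQ (jQ ι hQ.1 z) = 1 := by
  apply act_unique
  intro q
  rw [← map_inv, ← map_mul, ← map_mul]
  congr 1
  have := (Subgroup.mem_center_iff.mp z.2) q
  show q = (z : ↥Q) * q * (z : ↥Q)⁻¹
  rw [← this]
  group

/-- an element of the kernel of the first projection -/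
noncomputable def vOf (z : ↥(Subgroup.center ↥Q)) : ↥(fib p F ι₁ ι₂ h₁ h₂ hQ) :=
  ⟨(1, jQ ι₂ hQ.1 z), by
    rw [mem_fib_iff]
    show act p F ι₁ h₁ hQ 1 = act p F ι₂ h₂ hQ (jQ ι₂ hQ.1 z)
    rw [map_one, act_jQ_center]⟩

theorem vOf_mem (z : ↥(Subgroup.center ↥Q)) : vOf p F ι₁ ι₂ h₁ h₂ hQ z ∈ VV p F ι₁ ι₂ h₁ h₂ hQ := by
  rw [mem_VV_iff]
  rfl

include hS hcen in
theorem VV_comm (a : ↥(fib p F ι₁ ι₂ h₁ h₂ hQ)) (ha : a ∈ VV p F ι₁ ι₂ h₁ h₂ hQ)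
    (b : ↥(fib p F ι₁ ι₂ h₁ h₂ hQ)) (hb : b ∈ VV p F ι₁ ι₂ h₁ h₂ hQ) : a * b = b * a := by
  obtain ⟨za, hza⟩ := exists_center_of_mem_VV p hS F ι₁ ι₂ h₁ h₂ hQ hcen a ha
  obtain ⟨zb, hzb⟩ := exists_center_of_mem_VV p hS F ι₁ ι₂ h₁ h₂ hQ hcen b hb
  apply Subtype.ext
  show (a : G₁ × G₂) * (b : G₁ × G₂) = (b : G₁ × G₂) * (a : G₁ × G₂)
  rw [hza, hzb]
  apply Prod.ext
  · rfl
  · show jQ ι₂ hQ.1 za * jQ ι₂ hQ.1 zb = jQ ι₂ hQ.1 zb * jQ ι₂ hQ.1 za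
    rw [← map_mul, ← map_mul]
    congr 1
    exact ((Subgroup.mem_center_iff.mp za.2) zb).symm

theorem VV_inf_range_diagS : VV p F ι₁ ι₂ h₁ h₂ hQ ⊓ (diagS p F ι₁ ι₂ h₁ h₂ hQ).range = ⊥ := by
  rw [eq_bot_iff]
  rintro γ ⟨hγV, ⟨s, rfl⟩⟩
  have hγV' := (mem_VV_iff p F ι₁ ι₂ h₁ h₂ hQ _).mp hγV
  rw [diagS_coe] at hγV'
  have hs : s = 1 := h₁.2.1.1 (by rw [map_one]; exact hγV')
  rw [hs, map_one]
  exact Subgroup.mem_bot.mpr rfl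

include hS hcen in
theorem VV_isPGroup : IsPGroup p ↥(VV p F ι₁ ι₂ h₁ h₂ hQ) := by
  intro a
  obtain ⟨z, hz⟩ := exists_center_of_mem_VV p hS F ι₁ ι₂ h₁ h₂ hQ hcen a.1 a.2
  obtain ⟨k, hk⟩ := hS ⟨(z : ↥Q), hQ.1 (z : ↥Q).2⟩
  refine ⟨k, ?_⟩
  apply Subtype.ext
  apply Subtype.ext
  show ((a : ↥(fib p F ι₁ ι₂ h₁ h₂ hQ)) : G₁ × G₂) ^ p ^ k = 1
  rw [hz]
  apply Prod.ext
  · show (1 : G₁) ^ p ^ k = 1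
    rw [one_pow]
  · show (jQ ι₂ hQ.1 z) ^ p ^ k = 1
    rw [jQ_apply, ← map_pow, hk, map_one]

/-- the action of the fibre product on `Q` -/
noncomputable def varpi : ↥(fib p F ι₁ ι₂ h₁ h₂ hQ) →* MulAut ↥Q :=
  (act p F ι₁ h₁ hQ).comp (fst' p F ι₁ ι₂ h₁ h₂ hQ)

theorem varpi_apply (γ : ↥(fib p F ι₁ ι₂ h₁ h₂ hQ)) :
    varpi p F ι₁ ι₂ h₁ h₂ hQ γ = act p F ι₁ h₁ hQ (γ : G₁ × G₂).1 := rfl

theorem range_varpi : (varpi p F ι₁ ι₂ h₁ h₂ hQ).range = F.autGroup Q := by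
  ext α
  constructor
  · rintro ⟨γ, rfl⟩
    exact act_mem_autGroup p F ι₁ h₁ hQ _
  · intro hα
    obtain ⟨g₁, hg₁⟩ := exists_act_eq p F ι₁ h₁ hQ α hα
    obtain ⟨g₂, hg₂⟩ := exists_act_eq p F ι₂ h₂ hQ α hα
    exact ⟨⟨(g₁, g₂), by rw [mem_fib_iff]; exact hg₁.trans hg₂.symm⟩, hg₁⟩

include hS hcen in
theorem sup_eq_comap : VV p F ι₁ ι₂ h₁ h₂ hQ ⊔ (diagS p F ι₁ ι₂ h₁ h₂ hQ).range =
    (conjS Q (le_normalizer_of_isNormal F hQ)).range.comap (varpi p F ι₁ ι₂ h₁ h₂ hQ) := by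
  apply le_antisymm
  · apply sup_le
    · intro γ hγ
      rw [Subgroup.mem_comap, varpi_apply, (mem_VV_iff p F ι₁ ι₂ h₁ h₂ hQ γ).mp hγ, map_one]
      exact Subgroup.one_mem _
    · rintro _ ⟨s, rfl⟩
      rw [Subgroup.mem_comap, varpi_apply, diagS_coe]
      exact ⟨s, (act_iota p F ι₁ h₁ hQ s).symm⟩
  · intro γ hγ
    rw [Subgroup.mem_comap] at hγ
    obtain ⟨s, hs⟩ := hγ
    have h3 : varpi p F ι₁ ι₂ h₁ h₂ hQ (γ * (diagS p F ι₁ ι₂ h₁ h₂ hQ s)⁻¹) = 1 := by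
      rw [map_mul, map_inv, ← hs, varpi_apply p F ι₁ ι₂ h₁ h₂ hQ (diagS p F ι₁ ι₂ h₁ h₂ hQ s), diagS_coe,
        act_iota, mul_inv_cancel]
    rw [varpi_apply] at h3
    obtain ⟨z, hz⟩ := exists_center_of_act_eq_one p hS F ι₁ h₁ hQ hcen _ h3
    set zS : ↥S := Subgroup.inclusion hQ.1 (z : ↥Q) with hzS
    have h4 : γ * (diagS p F ι₁ ι₂ h₁ h₂ hQ s)⁻¹ * (diagS p F ι₁ ι₂ h₁ h₂ hQ zS)⁻¹ ∈ VV p F ι₁ ι₂ h₁ h₂ hQ := by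
      rw [mem_VV_iff]
      show (γ * (diagS p F ι₁ ι₂ h₁ h₂ hQ s)⁻¹ : ↥(fib p F ι₁ ι₂ h₁ h₂ hQ)).1.1 * (ι₁ zS)⁻¹ = 1
      rw [hz]
      exact mul_inv_cancel _
    have e : γ = (γ * (diagS p F ι₁ ι₂ h₁ h₂ hQ s)⁻¹ * (diagS p F ι₁ ι₂ h₁ h₂ hQ zS)⁻¹) *
        (diagS p F ι₁ ι₂ h₁ h₂ hQ zS * diagS p F ι₁ ι₂ h₁ h₂ hQ s) := by group
    rw [e]
    exact Subgroup.mul_mem _ (Subgroup.mem_sup_left h4)
      (Subgroup.mem_sup_right (Subgroup.mul_mem _ ⟨zS, rfl⟩ ⟨s, rfl⟩))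

include hS hF hcen in
theorem not_dvd_index_sup : ¬ p ∣ (VV p F ι₁ ι₂ h₁ h₂ hQ ⊔ (diagS p F ι₁ ι₂ h₁ h₂ hQ).range).index := by
  rw [sup_eq_comap p hS F ι₁ ι₂ h₁ h₂ hQ hcen, Subgroup.index_comap, range_varpi,
    ← autInducedBy_eq_range_conjS Q (le_normalizer_of_isNormal F hQ)]
  obtain ⟨-, R, hR⟩ := isFullyAutomized_of_isNormal p hS F hF hQ
  have hfin : Finite ↥Q := finite_of_le hQ.1
  have h1 := R.not_dvd_index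
  rw [hR] at h1
  exact h1

include hS hcen in
/-- the diagonal is stable in the fibre product -/
theorem diag_stable (γ : ↥(fib p F ι₁ ι₂ h₁ h₂ hQ)) :
    ∃ v ∈ VV p F ι₁ ι₂ h₁ h₂ hQ, ∀ x ∈ (diagS p F ι₁ ι₂ h₁ h₂ hQ).range,
      γ⁻¹ * x * γ ∈ VV p F ι₁ ι₂ h₁ h₂ hQ ⊔ (diagS p F ι₁ ι₂ h₁ h₂ hQ).range →
        v⁻¹ * (γ⁻¹ * x * γ) * v ∈ (diagS p F ι₁ ι₂ h₁ h₂ hQ).range := by
  obtain ⟨⟨g₁, g₂⟩, hγ⟩ := γ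
  have hγ' : act p F ι₁ h₁ hQ g₁ = act p F ι₂ h₂ hQ g₂ := (mem_fib_iff p F ι₁ ι₂ h₁ h₂ hQ _).mp hγ
  have hinj₁ := h₁.2.1.1
  have hinj₂ := h₂.2.1.1
  -- the subgroup of `S` conjugated into `S` by `g₁⁻¹`
  set R : Subgroup Ω := ((ι₁.range).comap ((MulAut.conj g₁⁻¹).toMonoidHom.comp ι₁)).map S.subtype with hR
  have hRS : R ≤ S := Subgroup.map_subtype_le _
  have hRmem : ∀ s : ↥S, g₁⁻¹ * ι₁ s * g₁ ∈ ι₁.range → (s : Ω) ∈ R := by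
    intro s hs
    refine ⟨s, ?_, rfl⟩
    show g₁⁻¹ * ι₁ s * g₁⁻¹⁻¹ ∈ ι₁.range
    rw [inv_inv]; exact hs
  have hmemR : ∀ x : ↥R, g₁⁻¹ * ι₁ ⟨x, hRS x.2⟩ * g₁⁻¹⁻¹ ∈ ι₁.range := by
    rintro ⟨_, ⟨s, hs, rfl⟩⟩
    exact hs
  obtain ⟨φ, hφS, hφ⟩ := exists_hom_of_conj ι₁ hinj₁ hRS g₁⁻¹ hmemR
  have hφF : φ ∈ F.Hom R := (h₁.2.1.2 R hRS φ hφS).mpr ⟨g₁⁻¹, hφ⟩
  obtain ⟨k₂, hk₂⟩ := (h₂.2.1.2 R hRS φ hφS).mp hφF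
  -- `Q ≤ R`
  have hQR : Q ≤ R := by
    intro q hq
    apply hRmem ⟨q, hQ.1 hq⟩
    obtain ⟨q', hq'⟩ := model_conj_mem p F ι₁ h₁ hQ g₁⁻¹ ⟨q, hq⟩
    rw [inv_inv] at hq'
    rw [hq']
    exact ⟨_, rfl⟩
  -- the actions on `Q`
  have hact₁ : ∀ q : ↥Q, (act p F ι₁ h₁ hQ g₁⁻¹ q : Ω) = φ ⟨q, hQR q.2⟩ := by
    intro q
    have h3 := act_spec p F ι₁ h₁ hQ g₁⁻¹ q
    have h4 := hφ ⟨q, hQR q.2⟩
    rw [jQ_apply, jQ_apply] at h3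
    have h5 := hinj₁ (h3.trans h4.symm)
    exact congrArg (fun t : ↥S => (t : Ω)) h5
  have hact₂ : ∀ q : ↥Q, (act p F ι₂ h₂ hQ k₂ q : Ω) = φ ⟨q, hQR q.2⟩ := by
    intro q
    have h3 := act_spec p F ι₂ h₂ hQ k₂ q
    have h4 := hk₂ ⟨q, hQR q.2⟩
    rw [jQ_apply, jQ_apply] at h3
    have h5 := hinj₂ (h3.trans h4.symm)
    exact congrArg (fun t : ↥S => (t : Ω)) h5
  have hact : act p F ι₂ h₂ hQ k₂ = act p F ι₁ h₁ hQ g₁⁻¹ := by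
    ext q
    rw [hact₁, hact₂]
  have hker : act p F ι₂ h₂ hQ (k₂ * g₂) = 1 := by
    rw [map_mul, hact, map_inv, hγ', inv_mul_cancel]
  obtain ⟨z, hz⟩ := exists_center_of_act_eq_one p hS F ι₂ h₂ hQ hcen _ hker
  -- `k₂ = j z * g₂⁻¹`
  have hk₂' : k₂ = jQ ι₂ hQ.1 z * g₂⁻¹ := by
    rw [← hz]; group
  refine ⟨vOf p F ι₁ ι₂ h₁ h₂ hQ z⁻¹, vOf_mem p F ι₁ ι₂ h₁ h₂ hQ z⁻¹, ?_⟩
  rintro _ ⟨s, rfl⟩ hmem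
  -- the first coordinate lies in the range of `ι₁`
  have hfst : ∀ y ∈ VV p F ι₁ ι₂ h₁ h₂ hQ ⊔ (diagS p F ι₁ ι₂ h₁ h₂ hQ).range,
      (y : G₁ × G₂).1 ∈ ι₁.range := by
    intro y hy
    have hle : VV p F ι₁ ι₂ h₁ h₂ hQ ⊔ (diagS p F ι₁ ι₂ h₁ h₂ hQ).range ≤
        (ι₁.range).comap (fst' p F ι₁ ι₂ h₁ h₂ hQ) := by
      apply sup_le
      · intro y hy
        rw [Subgroup.mem_comap]
        have : fst' p F ι₁ ι₂ h₁ h₂ hQ y = 1 := hy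
        rw [this]; exact Subgroup.one_mem _
      · rintro _ ⟨s, rfl⟩
        exact ⟨s, rfl⟩
    exact hle hy
  have hsR : (s : Ω) ∈ R := hRmem s (hfst _ hmem)
  refine ⟨⟨φ ⟨s, hsR⟩, hφS _⟩, ?_⟩
  apply Subtype.ext
  rw [diagS_coe]
  have h6 := hφ ⟨s, hsR⟩
  have h7 := hk₂ ⟨s, hsR⟩
  apply Prod.ext
  · show ι₁ ⟨φ ⟨s, hsR⟩, hφS _⟩ = (1 : G₁)⁻¹ * (g₁⁻¹ * ι₁ s * g₁) * 1
    rw [h6]
    simp
  · show ι₂ ⟨φ ⟨s, hsR⟩, hφS _⟩ = (jQ ι₂ hQ.1 z⁻¹)⁻¹ * (g₂⁻¹ * ι₂ s * g₂) * jQ ι₂ hQ.1 z⁻¹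
    rw [h7, hk₂', map_inv]
    group

include hS hF h₁ h₂ hQ hcen in
/-- two models are isomorphic, compatibly with the embeddings of `S` -/
theorem exists_iso_of_models : ∃ ψ : G₁ ≃* G₂, ∀ s : ↥S, ψ (ι₁ s) = ι₂ s := by
  have hfin₁ : Finite G₁ := h₁.1
  have hfin₂ : Finite G₂ := h₂.1
  have hVn : (VV p F ι₁ ι₂ h₁ h₂ hQ).Normal := MonoidHom.normal_ker _
  have hVp := VV_isPGroup p hS F ι₁ ι₂ h₁ h₂ hQ hcen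
  have hp : p.Prime := Fact.out
  have hcop : (Nat.card ↥(VV p F ι₁ ι₂ h₁ h₂ hQ)).Coprime
      (VV p F ι₁ ι₂ h₁ h₂ hQ ⊔ (diagS p F ι₁ ι₂ h₁ h₂ hQ).range).index := by
    obtain ⟨k, hk⟩ := IsPGroup.iff_card.mp hVp
    rw [hk]
    apply Nat.Coprime.pow_left
    exact (Nat.Prime.coprime_iff_not_dvd hp).mpr (not_dvd_index_sup p hS F hF ι₁ ι₂ h₁ h₂ hQ hcen)
  obtain ⟨K, hPK, hKV, hKVtop⟩ := exists_complement_containing (VV p F ι₁ ι₂ h₁ h₂ hQ)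
    (diagS p F ι₁ ι₂ h₁ h₂ hQ).range (VV_comm p hS F ι₁ ι₂ h₁ h₂ hQ hcen)
    (VV_inf_range_diagS p F ι₁ ι₂ h₁ h₂ hQ) hcop (diag_stable p hS F ι₁ ι₂ h₁ h₂ hQ hcen)
  have hdK : ∀ s : ↥S, diagS p F ι₁ ι₂ h₁ h₂ hQ s ∈ K := fun s => hPK ⟨s, rfl⟩
  -- every element of the fibre product is a product
  have hdecomp : ∀ γ : ↥(fib p F ι₁ ι₂ h₁ h₂ hQ), ∃ k ∈ K, ∃ v ∈ VV p F ι₁ ι₂ h₁ h₂ hQ, γ = k * v := by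
    intro γ
    have h3 : γ ∈ K ⊔ VV p F ι₁ ι₂ h₁ h₂ hQ := by rw [hKVtop]; exact Subgroup.mem_top γ
    have h4 : γ ∈ ((K ⊔ VV p F ι₁ ι₂ h₁ h₂ hQ : Subgroup _) : Set ↥(fib p F ι₁ ι₂ h₁ h₂ hQ)) := h3
    rw [Subgroup.mul_normal] at h4
    obtain ⟨k, hk, v, hv, rfl⟩ := Set.mem_mul.mp h4
    exact ⟨k, hk, v, hv, rfl⟩
  -- the two projections restricted to `K`
  let e₁ : ↥K →* G₁ := (fst' p F ι₁ ι₂ h₁ h₂ hQ).comp K.subtype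
  let e₂ : ↥K →* G₂ := (snd' p F ι₁ ι₂ h₁ h₂ hQ).comp K.subtype
  have he₁ : Function.Bijective e₁ := by
    constructor
    · rw [injective_iff_map_eq_one]
      intro k hk
      have h3 : (k : ↥(fib p F ι₁ ι₂ h₁ h₂ hQ)) ∈ K ⊓ VV p F ι₁ ι₂ h₁ h₂ hQ := ⟨k.2, hk⟩
      rw [hKV, Subgroup.mem_bot] at h3
      exact Subtype.ext h3
    · intro g₁
      obtain ⟨g₂, hg₂⟩ := exists_act_eq p F ι₂ h₂ hQ _ (act_mem_autGroup p F ι₁ h₁ hQ g₁)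
      obtain ⟨k, hk, v, hv, hkv⟩ := hdecomp ⟨(g₁, g₂), (mem_fib_iff p F ι₁ ι₂ h₁ h₂ hQ _).mpr hg₂.symm⟩
      refine ⟨⟨k, hk⟩, ?_⟩
      have h3 := congrArg (fst' p F ι₁ ι₂ h₁ h₂ hQ) hkv
      rw [map_mul] at h3
      have h4 : fst' p F ι₁ ι₂ h₁ h₂ hQ v = 1 := hv
      rw [h4, mul_one] at h3
      exact h3.symm
  have he₂ : Function.Bijective e₂ := by
    constructor
    · rw [injective_iff_map_eq_one]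
      intro k hk
      have hk2 : ((k : ↥(fib p F ι₁ ι₂ h₁ h₂ hQ)) : G₁ × G₂).2 = 1 := hk
      have h3 := (mem_fib_iff p F ι₁ ι₂ h₁ h₂ hQ _).mp (k : ↥(fib p F ι₁ ι₂ h₁ h₂ hQ)).2
      rw [hk2, map_one] at h3
      obtain ⟨z, hz⟩ := exists_center_of_act_eq_one p hS F ι₁ h₁ hQ hcen _ h3
      set zS : ↥S := Subgroup.inclusion hQ.1 (z : ↥Q) with hzS
      have h5 : (k : ↥(fib p F ι₁ ι₂ h₁ h₂ hQ))⁻¹ * diagS p F ι₁ ι₂ h₁ h₂ hQ zS ∈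
          K ⊓ VV p F ι₁ ι₂ h₁ h₂ hQ := by
        refine ⟨K.mul_mem (K.inv_mem k.2) (hdK zS), (mem_VV_iff p F ι₁ ι₂ h₁ h₂ hQ _).mpr ?_⟩
        show (((k : ↥(fib p F ι₁ ι₂ h₁ h₂ hQ)) : G₁ × G₂).1)⁻¹ * ι₁ zS = 1
        rw [hz]
        exact inv_mul_cancel _
      rw [hKV, Subgroup.mem_bot] at h5
      have h6 := congrArg (snd' p F ι₁ ι₂ h₁ h₂ hQ) h5
      rw [map_mul, map_inv, map_one] at h6
      have h7 : snd' p F ι₁ ι₂ h₁ h₂ hQ (k : ↥(fib p F ι₁ ι₂ h₁ h₂ hQ)) = 1 := hk2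
      rw [h7, inv_one, one_mul] at h6
      have h8 : ι₂ zS = 1 := h6
      have h9 : zS = 1 := h₂.2.1.1 (by rw [map_one]; exact h8)
      have h10 : (k : ↥(fib p F ι₁ ι₂ h₁ h₂ hQ)) = diagS p F ι₁ ι₂ h₁ h₂ hQ zS := by
        rw [inv_mul_eq_one] at h5
        exact h5
      rw [h9, map_one] at h10
      exact Subtype.ext h10
    · intro g₂
      obtain ⟨g₁, hg₁⟩ := exists_act_eq p F ι₁ h₁ hQ _ (act_mem_autGroup p F ι₂ h₂ hQ g₂)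
      obtain ⟨k, hk, v, hv, hkv⟩ := hdecomp ⟨(g₁, g₂), (mem_fib_iff p F ι₁ ι₂ h₁ h₂ hQ _).mpr hg₁⟩
      obtain ⟨z, hz⟩ := exists_center_of_mem_VV p hS F ι₁ ι₂ h₁ h₂ hQ hcen v hv
      set zS : ↥S := Subgroup.inclusion hQ.1 (z : ↥Q) with hzS
      refine ⟨⟨k * diagS p F ι₁ ι₂ h₁ h₂ hQ zS, K.mul_mem hk (hdK zS)⟩, ?_⟩
      have h3 := congrArg (snd' p F ι₁ ι₂ h₁ h₂ hQ) hkv
      rw [map_mul] at h3
      have h4 : snd' p F ι₁ ι₂ h₁ h₂ hQ v = ι₂ zS := by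
        show ((v : ↥(fib p F ι₁ ι₂ h₁ h₂ hQ)) : G₁ × G₂).2 = ι₂ zS
        rw [hz]; rfl
      show snd' p F ι₁ ι₂ h₁ h₂ hQ (k * diagS p F ι₁ ι₂ h₁ h₂ hQ zS) = g₂
      rw [map_mul]
      have h5 : snd' p F ι₁ ι₂ h₁ h₂ hQ (diagS p F ι₁ ι₂ h₁ h₂ hQ zS) = ι₂ zS := rfl
      rw [h5, ← h4, ← h3]
      rfl
  let E₁ : ↥K ≃* G₁ := MulEquiv.ofBijective e₁ he₁
  let E₂ : ↥K ≃* G₂ := MulEquiv.ofBijective e₂ he₂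
  refine ⟨E₁.symm.trans E₂, fun s => ?_⟩
  have h3 : E₁ ⟨diagS p F ι₁ ι₂ h₁ h₂ hQ s, hdK s⟩ = ι₁ s := rfl
  rw [MulEquiv.trans_apply, ← h3, MulEquiv.symm_apply_apply]
  rfl

end two

/-- Model theorem, uniqueness -/
theorem model_unique [Finite S] (p : ℕ) [Fact p.Prime] (hS : IsPGroup p S) (F : FusionSystem S)
    (hF : F.IsConstrained p) {G₁ G₂ : Type*} [Group G₁] [Group G₂] (ι₁ : S →* G₁) (ι₂ : S →* G₂)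
    (h₁ : F.IsModel p G₁ ι₁) (h₂ : F.IsModel p G₂ ι₂) : ∃ φ : G₁ ≃* G₂, ∀ x : S, φ (ι₁ x) = ι₂ x := by
  obtain ⟨hsat, Q, hQ, hQc⟩ := hF
  have hcen : centralizerIn S Q ≤ Q := hQc.2 Q (isConj_refl F hQ.1)
  exact exists_iso_of_models p hS F hsat ι₁ ι₂ h₁ h₂ hQ hcen

end Cfsg.Agent.Lib.Helper7.ModelUq
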