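import Mathlib
import Cfsg.Prelude.Def_FusionSystem
import Cfsg.Agent.Lib.Helper7.Fusion
import Cfsg.Agent.Lib.Helper7.FusionSat
import Cfsg.Agent.Lib.Helper7.FusionSat2
import Cfsg.Agent.Lib.Helper7.FusionSat3

/-!
# Qd(p)-free inheritance, part A: transport of maps along a map of the system
-/

set_option autoImplicit false

namespace Cfsg.Agent.Lib.Helper7.QdF

open Cfsg Cfsg.FusionSystem Cfsg.Agent.Lib.Helper7

variable {Ω : Type*} [Group Ω] {S : Subgroup Ω}

/-- transport of a map `ψ : Y → A` of the system along a map `χ` with source `A` -/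
theorem transport_mem (F : FusionSystem S) {A : Subgroup Ω} {χ : A →* Ω} (hχ : χ ∈ F.Hom A)
    {Y : Subgroup Ω} (hYA : Y ≤ A) {ψ : Y →* Ω} (hψ : ψ ∈ F.Hom Y) (hψA : ∀ y : Y, ψ y ∈ A) :
    ∃ θ ∈ F.Hom ((Y.subgroupOf A).map χ), ∀ (y : Y) (h : χ (Subgroup.inclusion hYA y) ∈
      (Y.subgroupOf A).map χ), θ ⟨χ (Subgroup.inclusion hYA y), h⟩ = χ ⟨ψ y, hψA y⟩ := by
  have hχY : χ.comp (Subgroup.inclusion hYA) ∈ F.Hom Y := fs_restrict_mem F hYA hχ
  have hr : (χ.comp (Subgroup.inclusion hYA)).range = (Y.subgroupOf A).map χ := by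
    ext z
    constructor
    · rintro ⟨y, rfl⟩
      exact ⟨Subgroup.inclusion hYA y, Subgroup.mem_subgroupOf.mpr y.2, rfl⟩
    · rintro ⟨a, ha, rfl⟩
      exact ⟨⟨a, Subgroup.mem_subgroupOf.mp ha⟩, rfl⟩
  have hinv := fs_iso_symm_mem F hχY hr
  have h1 : ∀ x : ↥((Y.subgroupOf A).map χ),
      (Y.subtype.comp (isoOfRange _ (F.injective_of_mem hχY) hr).symm.toMonoidHom) x ∈ Y :=
    fun x => ((isoOfRange _ (F.injective_of_mem hχY) hr).symm x).2
  have step1 := F.comp_mem hinv hψ h1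
  have h2 : ∀ x : ↥((Y.subgroupOf A).map χ), (ψ.comp
      ((Y.subtype.comp (isoOfRange _ (F.injective_of_mem hχY) hr).symm.toMonoidHom).codRestrict Y h1)) x ∈ A :=
    fun x => hψA _
  have step2 := F.comp_mem step1 hχ h2
  refine ⟨_, step2, fun y h => ?_⟩
  have e : (isoOfRange _ (F.injective_of_mem hχY) hr).symm ⟨χ (Subgroup.inclusion hYA y), h⟩ = y := by
    rw [MulEquiv.symm_apply_eq]
    exact Subtype.ext rfl
  show χ ⟨ψ ((isoOfRange _ (F.injective_of_mem hχY) hr).symm ⟨χ (Subgroup.inclusion hYA y), h⟩), _⟩ = _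
  congr 2
  rw [e]

/-- a map of the system whose source contains `V`, lies in `N_S(V)`, with values in `N_S(V)` and preserving `V`
is a map of the normalizer system -/
theorem mem_normalizerHom_of_le [Finite S] (F : FusionSystem S) {V P : Subgroup Ω} (hVP : V ≤ P)
    (hPN : P ≤ normalizerIn S V) {φ : P →* Ω} (hφ : φ ∈ F.Hom P)
    (hφN : ∀ x : P, φ x ∈ normalizerIn S V) (hmap : ∀ x : P, (x : Ω) ∈ V → φ x ∈ V) :
    φ ∈ F.normalizerHom V P := by
  have hPS : P ≤ S := hPN.trans inf_le_left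
  have hVS : V ≤ S := hVP.trans hPS
  have hfinV : Finite ↥V := finite_of_le hVS
  refine ⟨hφ, hPN, hφN, ?_⟩
  have hsup : P ⊔ V = P := sup_eq_left.mpr hVP
  refine ⟨_, fs_mem_of_eq F hsup hφ, fun x => rfl, ?_⟩
  -- the restriction of `φ` to `V` is an injective self-map of the finite group `V`
  let f : V → V := fun v => ⟨φ ⟨v, hVP v.2⟩, hmap ⟨v, hVP v.2⟩ v.2⟩
  have hfinj : Function.Injective f := by
    intro a b hab
    have h1 : φ ⟨a, hVP a.2⟩ = φ ⟨b, hVP b.2⟩ := congrArg Subtype.val hab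
    have h2 := F.injective_of_mem hφ h1
    have h3 : (a : Ω) = (b : Ω) := congrArg (fun t : ↥P => (t : Ω)) h2
    exact Subtype.ext h3
  have hfsurj : Function.Surjective f := Finite.surjective_of_injective hfinj
  ext y
  constructor
  · rintro ⟨s, hs, rfl⟩
    exact hmap (Subgroup.inclusion (le_of_eq hsup) s) (Subgroup.mem_subgroupOf.mp hs)
  · intro hy
    obtain ⟨v, hv⟩ := hfsurj ⟨y, hy⟩
    refine ⟨⟨(v : Ω), Subgroup.mem_sup_right v.2⟩, Subgroup.mem_subgroupOf.mpr v.2, ?_⟩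
    exact congrArg Subtype.val hv

end Cfsg.Agent.Lib.Helper7.QdF
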