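import Mathlib
import Cfsg.Prelude.Def_FusionSystem

/-!
# Qd(p)-free inheritance, part B: the action of a group on an embedded normal subgroup
-/

set_option autoImplicit false

namespace Cfsg.Agent.Lib.Helper7.QdF

section act

variable {X₀ : Type*} [Group X₀] {L : Type*} [Group L] (jX : X₀ →* L)
  (hinj : Function.Injective jX) [hn : jX.range.Normal]

/-- the action of `L` on `X₀` through an embedding with normal image -/
noncomputable def actOn : L →* MulAut X₀ :=
  (MulAut.congr (MonoidHom.ofInjective hinj).symm).toMonoidHom.comp (MulAut.conjNormal (H := jX.range))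

theorem actOn_spec (l : L) (x : X₀) : jX (actOn jX hinj l x) = l * jX x * l⁻¹ := by
  have h1 : ((MonoidHom.ofInjective hinj) (actOn jX hinj l x) : L) = jX (actOn jX hinj l x) := rfl
  rw [← h1]
  unfold actOn
  simp only [MonoidHom.comp_apply, MulEquiv.coe_toMonoidHom, MulAut.congr_apply,
    MulEquiv.trans_apply, MulEquiv.symm_symm, MulEquiv.apply_symm_apply]
  rw [MulAut.conjNormal_apply]
  rfl

theorem actOn_unique {l : L} {α : MulAut X₀} (h : ∀ x, jX (α x) = l * jX x * l⁻¹) :
    actOn jX hinj l = α := by
  ext x
  apply hinj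
  rw [actOn_spec, h]

theorem actOn_eq_one_iff (l : L) :
    actOn jX hinj l = 1 ↔ l ∈ Subgroup.centralizer ((jX.range : Subgroup L) : Set L) := by
  constructor
  · intro h
    rw [Subgroup.mem_centralizer_iff]
    rintro _ ⟨x, rfl⟩
    have h1 := actOn_spec jX hinj l x
    rw [h] at h1
    have h2 : jX x = l * jX x * l⁻¹ := h1
    calc jX x * l = (l * jX x * l⁻¹) * l := by rw [← h2]
      _ = l * jX x := by group
  · intro h
    apply actOn_unique
    intro x
    have h1 := Subgroup.mem_centralizer_iff.mp h (jX x) ⟨x, rfl⟩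
    show jX x = l * jX x * l⁻¹
    rw [← h1]; group

end act

end Cfsg.Agent.Lib.Helper7.QdF
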