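import Mathlib
import Cfsg.Prelude.Def_FusionSystem
import Cfsg.Agent.Lib.Helper7.QdFa
import Cfsg.Agent.Lib.Helper7.QdFb
import Cfsg.Agent.Lib.Helper7.FusionNormal
import Cfsg.Agent.Lib.Helper7.FusionCore2
import Cfsg.Agent.Lib.Helper7.NormalizerConstrained
import Cfsg.Agent.Lib.Helper7.ModelUqC

/-!
# Qd(p)-free inheritance, part C: the context of the embedding theorem
-/

set_option autoImplicit false
set_option linter.unusedSectionVars false
set_option linter.style.haveILetI false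

namespace Cfsg.Agent.Lib.Helper7.QdF

open Cfsg Cfsg.FusionSystem Cfsg.Agent.Lib.Helper7 Cfsg.Agent.Lib.Helper7.ModelUq

universe u v

variable {Ω : Type u} [Group Ω] {S : Subgroup Ω}

/-- the context: a saturated subsystem `E` over `T` of the saturated system `F`, with a normal subgroup `X` that is
`F`-centric, a fully normalized conjugate `U = χ(X)` of `X`, and a model `L` of `N_F(U)` -/
structure Ctx (p : ℕ) [Fact p.Prime] (F : FusionSystem S) {T : Subgroup Ω} (E : FusionSystem T)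
    (X U : Subgroup Ω) (N : FusionSystem (normalizerIn S U)) {L : Type v} [Group L]
    (ι : ↥(normalizerIn S U) →* L) (χ : ↥(normalizerIn S X) →* Ω) : Prop where
  hS : IsPGroup p S
  hF : F.IsSaturated p
  hE : E.IsSaturated p
  hEF : E.IsSubsystemOf F
  hXn : E.IsNormal X
  hXc : F.IsCentric X
  hU : F.IsFullyNormalized U
  hN : F.IsNormalizerSystem U N
  hL : N.IsModel p L ι
  hχ : χ ∈ F.Hom (normalizerIn S X)
  hχN : ∀ x, χ x ∈ normalizerIn S U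
  hχX : (X.subgroupOf (normalizerIn S X)).map χ = U

/-- the embedding of `N_S(X)` in `L` -/
def j0 {X U : Subgroup Ω} {L : Type v} [Group L] (ι : ↥(normalizerIn S U) →* L)
    (χ : ↥(normalizerIn S X) →* Ω) (hχN : ∀ x, χ x ∈ normalizerIn S U) : ↥(normalizerIn S X) →* L :=
  ι.comp (χ.codRestrict (normalizerIn S U) hχN)

theorem j0_apply {X U : Subgroup Ω} {L : Type v} [Group L] (ι : ↥(normalizerIn S U) →* L)
    (χ : ↥(normalizerIn S X) →* Ω) (hχN : ∀ x, χ x ∈ normalizerIn S U) (a : ↥(normalizerIn S X)) :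
    j0 ι χ hχN a = ι ⟨χ a, hχN a⟩ := rfl

section ctx

variable [Finite S] {p : ℕ} [Fact p.Prime] {F : FusionSystem S} {T : Subgroup Ω} {E : FusionSystem T}
  {X U : Subgroup Ω} {N : FusionSystem (normalizerIn S U)} {L : Type v} [Group L]
  {ι : ↥(normalizerIn S U) →* L} {χ : ↥(normalizerIn S X) →* Ω}

theorem Ctx.T_le_S (C : Ctx p F E X U N ι χ) : T ≤ S :=
  (F.le_of_mem (C.hEF T (fs_subtype_mem E le_rfl))).1

theorem Ctx.X_le_T (C : Ctx p F E X U N ι χ) : X ≤ T := C.hXn.1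

theorem Ctx.X_le_S (C : Ctx p F E X U N ι χ) : X ≤ S := C.X_le_T.trans C.T_le_S

theorem Ctx.finT (C : Ctx p F E X U N ι χ) : Finite ↥T := finite_of_le C.T_le_S

theorem Ctx.T_le_N (C : Ctx p F E X U N ι χ) : T ≤ normalizerIn S X := by
  haveI := C.finT
  exact le_inf C.T_le_S (le_normalizer_of_stronglyClosed E (stronglyClosed_of_isNormal E C.hXn))

theorem Ctx.X_le_N (C : Ctx p F E X U N ι χ) : X ≤ normalizerIn S X :=
  le_inf C.X_le_S Subgroup.le_normalizer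

theorem Ctx.U_le_S (C : Ctx p F E X U N ι χ) : U ≤ S := C.hU.1

theorem Ctx.U_le_NU (C : Ctx p F E X U N ι χ) : U ≤ normalizerIn S U :=
  le_inf C.U_le_S Subgroup.le_normalizer

theorem Ctx.χ_injective (C : Ctx p F E X U N ι χ) : Function.Injective χ := F.injective_of_mem C.hχ

theorem Ctx.χ_mem_U (C : Ctx p F E X U N ι χ) (a : ↥(normalizerIn S X)) : χ a ∈ U ↔ (a : Ω) ∈ X := by
  constructor
  · intro h
    rw [← C.hχX] at h
    obtain ⟨b, hb, hba⟩ := h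
    have := C.χ_injective hba
    rw [← this]
    exact Subgroup.mem_subgroupOf.mp hb
  · intro h
    rw [← C.hχX]
    exact ⟨a, Subgroup.mem_subgroupOf.mpr h, rfl⟩

theorem Ctx.exists_of_mem_U (C : Ctx p F E X U N ι χ) {u : Ω} (hu : u ∈ U) :
    ∃ x : ↥X, χ ⟨x, C.X_le_N x.2⟩ = u := by
  rw [← C.hχX] at hu
  obtain ⟨b, hb, rfl⟩ := hu
  exact ⟨⟨b, Subgroup.mem_subgroupOf.mp hb⟩, rfl⟩

theorem Ctx.isConj (C : Ctx p F E X U N ι χ) : F.IsConj X U := by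
  refine ⟨χ.comp (Subgroup.inclusion C.X_le_N), fs_restrict_mem F C.X_le_N C.hχ, ?_⟩
  ext z
  constructor
  · rintro ⟨x, rfl⟩
    exact (C.χ_mem_U _).mpr x.2
  · intro hz
    obtain ⟨x, rfl⟩ := C.exists_of_mem_U hz
    exact ⟨x, rfl⟩

theorem Ctx.cen_U (C : Ctx p F E X U N ι χ) : centralizerIn S U ≤ U := C.hXc.2 U C.isConj

theorem Ctx.cen_X (C : Ctx p F E X U N ι χ) : centralizerIn S X ≤ X :=
  C.hXc.2 X (isConj_refl F C.X_le_S)

theorem Ctx.hUn (C : Ctx p F E X U N ι χ) : N.IsNormal U :=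
  isNormal_normalizerSystem F C.U_le_S N C.hN

theorem Ctx.ι_injective (C : Ctx p F E X U N ι χ) : Function.Injective ι := C.hL.2.1.1

theorem Ctx.j0_injective (C : Ctx p F E X U N ι χ) : Function.Injective (j0 ι χ C.hχN) := by
  intro a b hab
  have h1 := C.ι_injective hab
  exact C.χ_injective (congrArg Subtype.val h1)

/-- the key realization statement: maps of `F` between overgroups of `X` in `N_S(X)` preserving `X` are
conjugations in the model `L`, read through `j0` -/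
theorem Ctx.exists_conj (C : Ctx p F E X U N ι χ) {Y : Subgroup Ω} (hXY : X ≤ Y)
    (hYN : Y ≤ normalizerIn S X) {ψ : Y →* Ω} (hψ : ψ ∈ F.Hom Y)
    (hψN : ∀ y : Y, ψ y ∈ normalizerIn S X) (hψX : ∀ y : Y, (y : Ω) ∈ X → ψ y ∈ X) :
    ∃ l : L, ∀ y : Y, j0 ι χ C.hχN ⟨ψ y, hψN y⟩ = l * j0 ι χ C.hχN ⟨y, hYN y.2⟩ * l⁻¹ := by
  obtain ⟨θ, hθ, hθe⟩ := transport_mem F C.hχ hYN hψ hψN
  have hY'N : (Y.subgroupOf (normalizerIn S X)).map χ ≤ normalizerIn S U := by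
    rintro _ ⟨a, -, rfl⟩
    exact C.hχN a
  have hUY' : U ≤ (Y.subgroupOf (normalizerIn S X)).map χ := by
    intro u hu
    obtain ⟨x, rfl⟩ := C.exists_of_mem_U hu
    exact ⟨⟨x, C.X_le_N x.2⟩, Subgroup.mem_subgroupOf.mpr (hXY x.2), rfl⟩
  have hθN : ∀ x : ↥((Y.subgroupOf (normalizerIn S X)).map χ), θ x ∈ normalizerIn S U := by
    rintro ⟨_, a, ha, rfl⟩
    have h1 := hθe ⟨a, Subgroup.mem_subgroupOf.mp ha⟩ ⟨a, ha, rfl⟩
    have e : (⟨χ a, ⟨a, ha, rfl⟩⟩ : ↥((Y.subgroupOf (normalizerIn S X)).map χ)) =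
        ⟨χ (Subgroup.inclusion hYN ⟨a, Subgroup.mem_subgroupOf.mp ha⟩), ⟨a, ha, rfl⟩⟩ := rfl
    rw [e, h1]
    exact C.hχN _
  have hθU : ∀ x : ↥((Y.subgroupOf (normalizerIn S X)).map χ), (x : Ω) ∈ U → θ x ∈ U := by
    rintro ⟨_, a, ha, rfl⟩ hu
    have haX : (a : Ω) ∈ X := (C.χ_mem_U a).mp hu
    have h1 := hθe ⟨a, Subgroup.mem_subgroupOf.mp ha⟩ ⟨a, ha, rfl⟩
    have e : (⟨χ a, ⟨a, ha, rfl⟩⟩ : ↥((Y.subgroupOf (normalizerIn S X)).map χ)) =
        ⟨χ (Subgroup.inclusion hYN ⟨a, Subgroup.mem_subgroupOf.mp ha⟩), ⟨a, ha, rfl⟩⟩ := rfl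
    rw [e, h1]
    exact (C.χ_mem_U _).mpr (hψX ⟨a, Subgroup.mem_subgroupOf.mp ha⟩ haX)
  have hmem := mem_normalizerHom_of_le F hUY' hY'N hθ hθN hθU
  rw [← C.hN] at hmem
  obtain ⟨l, hl⟩ := (C.hL.2.1.2 _ hY'N θ hθN).mp hmem
  refine ⟨l, fun y => ?_⟩
  have hmemy : χ (Subgroup.inclusion hYN y) ∈ (Y.subgroupOf (normalizerIn S X)).map χ :=
    ⟨Subgroup.inclusion hYN y, Subgroup.mem_subgroupOf.mpr y.2, rfl⟩
  have h2 := hl ⟨χ (Subgroup.inclusion hYN y), hmemy⟩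
  have h3 := hθe y hmemy
  rw [j0_apply, j0_apply]
  have e1 : (⟨χ ⟨ψ y, hψN y⟩, C.hχN _⟩ : ↥(normalizerIn S U)) =
      ⟨θ ⟨χ (Subgroup.inclusion hYN y), hmemy⟩, hθN _⟩ := Subtype.ext h3.symm
  rw [e1, h2]
  rfl

end ctx

end Cfsg.Agent.Lib.Helper7.QdF
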