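import Mathlib
import Cfsg.Prelude.Def_FusionSystem
import Cfsg.Agent.Lib.Helper7.QdFc
import Cfsg.Agent.Lib.Helper7.AutInduced
import Cfsg.Agent.Lib.Helper7.FusionCenterFactor

/-!
# Qd(p)-free inheritance, part D: the action of the model `L` on `X` and the subgroup `H`
-/

set_option autoImplicit false
set_option linter.unusedSectionVars false
set_option linter.style.haveILetI false

namespace Cfsg.Agent.Lib.Helper7.QdF

open Cfsg Cfsg.FusionSystem Cfsg.Agent.Lib.Helper7 Cfsg.Agent.Lib.Helper7.ModelUq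

universe u v

variable {Ω : Type u} [Group Ω] {S : Subgroup Ω}

/-- the embedding of `X` in `L` -/
def jX {X U : Subgroup Ω} {L : Type v} [Group L] (ι : ↥(normalizerIn S U) →* L)
    (χ : ↥(normalizerIn S X) →* Ω) (hχN : ∀ x, χ x ∈ normalizerIn S U)
    (hXN : X ≤ normalizerIn S X) : ↥X →* L :=
  (j0 ι χ hχN).comp (Subgroup.inclusion hXN)

section ctx

variable [Finite S] {p : ℕ} [Fact p.Prime] {F : FusionSystem S} {T : Subgroup Ω} {E : FusionSystem T}
  {X U : Subgroup Ω} {N : FusionSystem (normalizerIn S U)} {L : Type v} [Group L]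
  {ι : ↥(normalizerIn S U) →* L} {χ : ↥(normalizerIn S X) →* Ω}

theorem Ctx.jX_apply (C : Ctx p F E X U N ι χ) (x : ↥X) :
    jX ι χ C.hχN C.X_le_N x = j0 ι χ C.hχN ⟨x, C.X_le_N x.2⟩ := rfl

theorem Ctx.jX_injective (C : Ctx p F E X U N ι χ) : Function.Injective (jX ι χ C.hχN C.X_le_N) :=
  C.j0_injective.comp (Subgroup.inclusion_injective _)

theorem Ctx.jX_range (C : Ctx p F E X U N ι χ) : (jX ι χ C.hχN C.X_le_N).range = imQ ι U := by
  ext z
  rw [mem_imQ_iff ι C.U_le_NU]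
  constructor
  · rintro ⟨x, rfl⟩
    exact ⟨⟨χ ⟨x, C.X_le_N x.2⟩, (C.χ_mem_U _).mpr x.2⟩, rfl⟩
  · rintro ⟨u, rfl⟩
    obtain ⟨x, hx⟩ := C.exists_of_mem_U u.2
    refine ⟨x, ?_⟩
    rw [C.jX_apply, j0_apply]
    congr 1
    exact Subtype.ext hx

theorem Ctx.jX_normal (C : Ctx p F E X U N ι χ) : (jX ι χ C.hχN C.X_le_N).range.Normal := by
  rw [C.jX_range]
  haveI : Finite ↥(normalizerIn S U) := finite_of_le inf_le_left
  exact imQ_normal p N ι C.hL C.hUn

/-- the action of `L` on `X` -/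
noncomputable def Ctx.actL (C : Ctx p F E X U N ι χ) : L →* MulAut ↥X :=
  @actOn _ _ _ _ (jX ι χ C.hχN C.X_le_N) C.jX_injective C.jX_normal

theorem Ctx.actL_spec (C : Ctx p F E X U N ι χ) (l : L) (x : ↥X) :
    jX ι χ C.hχN C.X_le_N (C.actL l x) = l * jX ι χ C.hχN C.X_le_N x * l⁻¹ :=
  @actOn_spec _ _ _ _ (jX ι χ C.hχN C.X_le_N) C.jX_injective C.jX_normal l x

theorem Ctx.actL_unique (C : Ctx p F E X U N ι χ) {l : L} {α : MulAut ↥X}
    (h : ∀ x, jX ι χ C.hχN C.X_le_N (α x) = l * jX ι χ C.hχN C.X_le_N x * l⁻¹) : C.actL l = α :=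
  @actOn_unique _ _ _ _ (jX ι χ C.hχN C.X_le_N) C.jX_injective C.jX_normal l α h

/-- the action of an element of `j0(N_S(X))` is the conjugation -/
theorem Ctx.actL_j0 (C : Ctx p F E X U N ι χ) (a : ↥(normalizerIn S X)) :
    C.actL (j0 ι χ C.hχN a) = X.normalizerMonoidHom ⟨a, a.2.2⟩ := by
  apply C.actL_unique
  intro x
  rw [C.jX_apply, C.jX_apply, ← map_inv, ← map_mul, ← map_mul]
  congr 1

/-- the kernel of the action is the image of the centre of `X` -/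
theorem Ctx.actL_ker (C : Ctx p F E X U N ι χ) {l : L} (h : C.actL l = 1) :
    ∃ z : ↥X, (z : Ω) ∈ Subgroup.centralizer (X : Set Ω) ∧ l = jX ι χ C.hχN C.X_le_N z := by
  haveI : Finite ↥(normalizerIn S U) := finite_of_le inf_le_left
  have hSN : IsPGroup p ↥(normalizerIn S U) := C.hS.to_le inf_le_left
  have h1 := (@actOn_eq_one_iff _ _ _ _ (jX ι χ C.hχN C.X_le_N) C.jX_injective C.jX_normal l).mp h
  have hcen : centralizerIn (normalizerIn S U) U ≤ U := by
    intro c hc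
    exact C.cen_U ⟨hc.1.1, hc.2⟩
  have h2 : l ∈ imQ ι U := by
    apply model_centralizer_le p hSN N ι C.hL C.hUn hcen
    rw [← C.jX_range]
    exact h1
  rw [← C.jX_range] at h2
  obtain ⟨z, rfl⟩ := h2
  refine ⟨z, ?_, rfl⟩
  rw [Subgroup.mem_centralizer_iff]
  intro x hx
  have h3 := Subgroup.mem_centralizer_iff.mp h1 (jX ι χ C.hχN C.X_le_N ⟨x, hx⟩) ⟨⟨x, hx⟩, rfl⟩
  rw [← map_mul, ← map_mul] at h3
  exact congrArg (fun t : ↥X => (t : Ω)) (C.jX_injective h3)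

/-- every `E`-automorphism of `X` is induced by an element of `L` -/
theorem Ctx.actL_surj (C : Ctx p F E X U N ι χ) {κ : MulAut ↥X} (hκ : κ ∈ E.autGroup X) :
    ∃ l : L, C.actL l = κ := by
  have hκE : X.subtype.comp κ.toMonoidHom ∈ E.Hom X := (mem_autGroup_iff E C.X_le_T κ).mp hκ
  have hκF := C.hEF X hκE
  obtain ⟨l, hl⟩ := C.exists_conj (Y := X) le_rfl C.X_le_N hκF (fun y => C.X_le_N (κ y).2)
    (fun y _ => (κ y).2)
  exact ⟨l, C.actL_unique (fun x => hl x)⟩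

/-- the subgroup `H` of `L` of the elements acting on `X` as `E`-automorphisms -/
noncomputable def Ctx.H (C : Ctx p F E X U N ι χ) : Subgroup L := (E.autGroup X).comap C.actL

theorem Ctx.mem_H (C : Ctx p F E X U N ι χ) (l : L) : l ∈ C.H ↔ C.actL l ∈ E.autGroup X := Iff.rfl

theorem Ctx.j0_mem_H (C : Ctx p F E X U N ι χ) (t : ↥T) : j0 ι χ C.hχN ⟨t, C.T_le_N t.2⟩ ∈ C.H := by
  rw [C.mem_H, C.actL_j0, mem_autGroup_iff E C.X_le_T]
  have := E.conj_mem (P := X) (g := (t : Ω)) C.X_le_T t.2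
  convert this using 1
  ext x
  rfl

/-- the embedding of `T` in `H` -/
noncomputable def Ctx.jH (C : Ctx p F E X U N ι χ) : ↥T →* ↥C.H :=
  ((j0 ι χ C.hχN).comp (Subgroup.inclusion C.T_le_N)).codRestrict C.H (fun t => C.j0_mem_H t)

theorem Ctx.jH_coe (C : Ctx p F E X U N ι χ) (t : ↥T) :
    ((C.jH t : ↥C.H) : L) = j0 ι χ C.hχN ⟨t, C.T_le_N t.2⟩ := rfl

theorem Ctx.jH_injective (C : Ctx p F E X U N ι χ) : Function.Injective C.jH := by
  intro a b hab
  have h1 : j0 ι χ C.hχN ⟨a, C.T_le_N a.2⟩ = j0 ι χ C.hχN ⟨b, C.T_le_N b.2⟩ :=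
    congrArg (fun t : ↥C.H => (t : L)) hab
  have h2 := C.j0_injective h1
  exact Subtype.ext (congrArg (fun t : ↥(normalizerIn S X) => (t : Ω)) h2)

end ctx

end Cfsg.Agent.Lib.Helper7.QdF
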