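import Mathlib
import Cfsg.Prelude.Def_FusionSystem
import Cfsg.Agent.Lib.Helper7.QdFd
import Cfsg.Agent.Lib.Helper7.ModelUqD

/-!
# Qd(p)-free inheritance, part E: the subgroup `H` realizes `E`
-/

set_option autoImplicit false
set_option linter.unusedSectionVars false
set_option linter.style.haveILetI false

namespace Cfsg.Agent.Lib.Helper7.QdF

open Cfsg Cfsg.FusionSystem Cfsg.Agent.Lib.Helper7 Cfsg.Agent.Lib.Helper7.ModelUq
  Cfsg.Agent.Lib.Helper7.ModelEx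

universe u v w

variable {Ω : Type u} [Group Ω] {S : Subgroup Ω}

section ctx

variable [Finite S] {p : ℕ} [Fact p.Prime] {F : FusionSystem S} {T : Subgroup Ω} {E : FusionSystem T}
  {X U : Subgroup Ω} {N : FusionSystem (normalizerIn S U)} {L : Type v} [Group L]
  {ι : ↥(normalizerIn S U) →* L} {χ : ↥(normalizerIn S X) →* Ω}

/-- maps of `E` are conjugations in `H` -/
theorem Ctx.realized_mp (C : Ctx p F E X U N ι χ) {P : Subgroup Ω} (hP : P ≤ T) {φ : P →* Ω}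
    (hφT : ∀ x : P, φ x ∈ T) (hφ : φ ∈ E.Hom P) :
    ∃ h : ↥C.H, ∀ x : P, C.jH ⟨φ x, hφT x⟩ = h * C.jH ⟨x, hP x.2⟩ * h⁻¹ := by
  obtain ⟨ψ, hψ, hext, hmap⟩ := C.hXn.2 P φ hφ
  have hYT : P ⊔ X ≤ T := sup_le hP C.X_le_T
  have hψT : ∀ y, ψ y ∈ T := (E.le_of_mem hψ).2
  have hψX : ∀ y : ↥(P ⊔ X), (y : Ω) ∈ X → ψ y ∈ X := fun y hy => by
    have h0 : ψ y ∈ (X.subgroupOf (P ⊔ X)).map ψ := ⟨y, Subgroup.mem_subgroupOf.mpr hy, rfl⟩
    rwa [hmap] at h0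
  obtain ⟨l, hl⟩ := C.exists_conj (Y := P ⊔ X) le_sup_right (hYT.trans C.T_le_N) (C.hEF _ hψ)
    (fun y => C.T_le_N (hψT y)) hψX
  have hlH : l ∈ C.H := by
    rw [C.mem_H]
    have hκinj : Function.Injective (ψ.comp (Subgroup.inclusion (le_sup_right : X ≤ P ⊔ X))) :=
      (E.injective_of_mem hψ).comp (Subgroup.inclusion_injective _)
    have hκr : (ψ.comp (Subgroup.inclusion (le_sup_right : X ≤ P ⊔ X))).range = X := by
      ext z
      constructor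
      · rintro ⟨x, rfl⟩
        exact hψX _ x.2
      · intro hz
        rw [← hmap] at hz
        obtain ⟨y, hy, rfl⟩ := hz
        exact ⟨⟨y, Subgroup.mem_subgroupOf.mp hy⟩, rfl⟩
    have hκE : (isoOfRange _ hκinj hκr : MulAut ↥X) ∈ E.autGroup X := by
      rw [mem_autGroup_iff E C.X_le_T]
      have := fs_restrict_mem E (le_sup_right : X ≤ P ⊔ X) hψ
      convert this using 1
      ext x
      rfl
    have hact : C.actL l = isoOfRange _ hκinj hκr := by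
      apply C.actL_unique
      intro x
      rw [C.jX_apply, C.jX_apply]
      exact hl (Subgroup.inclusion le_sup_right x)
    rw [hact]
    exact hκE
  refine ⟨⟨l, hlH⟩, fun x => ?_⟩
  apply Subtype.ext
  have h1 := hl (Subgroup.inclusion le_sup_left x)
  have h2 := hext x
  show j0 ι χ C.hχN ⟨φ x, _⟩ = l * j0 ι χ C.hχN ⟨x, _⟩ * l⁻¹
  have e : (⟨φ x, C.T_le_N (hφT x)⟩ : ↥(normalizerIn S X)) =
      ⟨ψ (Subgroup.inclusion le_sup_left x), C.T_le_N (hψT _)⟩ := Subtype.ext h2.symm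
  rw [e]
  exact h1

section G

variable [Finite T] {G : Type w} [Group G]

/-- conjugations in `H` are maps of `E` -/
theorem Ctx.realized_mpr (C : Ctx p F E X U N ι χ) (ιG : ↥T →* G) (hG : E.IsModel p G ιG) {P : Subgroup Ω} (hP : P ≤ T) {φ : P →* Ω}
    (hφT : ∀ x : P, φ x ∈ T) (h : ↥C.H)
    (hh : ∀ x : P, C.jH ⟨φ x, hφT x⟩ = h * C.jH ⟨x, hP x.2⟩ * h⁻¹) : φ ∈ E.Hom P := by
  have hT : IsPGroup p ↥T := C.hS.to_le C.T_le_S
  have hcenT : centralizerIn T X ≤ X := fun c hc => C.cen_X ⟨C.T_le_S hc.1, hc.2⟩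
  have hnT : T ≤ Subgroup.normalizer (X : Set Ω) := C.T_le_N.trans inf_le_right
  have hιinj : Function.Injective ιG := hG.2.1.1
  have hl : ∀ x : P, j0 ι χ C.hχN ⟨φ x, C.T_le_N (hφT x)⟩ =
      (h : L) * j0 ι χ C.hχN ⟨x, C.T_le_N (hP x.2)⟩ * (h : L)⁻¹ := fun x =>
    congrArg (fun t : ↥C.H => (t : L)) (hh x)
  have hκ : C.actL (h : L) ∈ E.autGroup X := h.2
  obtain ⟨g, hg⟩ := exists_act_eq p E ιG hG C.hXn (C.actL (h : L)) hκ
  -- Claim A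
  have hA : ∀ x : P, C.actL (h : L) * X.normalizerMonoidHom ⟨x, hnT (hP x.2)⟩ * (C.actL (h : L))⁻¹ =
      X.normalizerMonoidHom ⟨φ x, hnT (hφT x)⟩ := by
    intro x
    have h1 := congrArg C.actL (hl x)
    rw [map_mul, map_mul, map_inv, C.actL_j0, C.actL_j0] at h1
    exact h1.symm
  -- Claim B
  have hB : ∀ x : P, g * ιG ⟨x, hP x.2⟩ * g⁻¹ ∈ ιG.range := by
    intro x
    have hd : act p E ιG hG C.hXn ((ιG ⟨φ x, hφT x⟩)⁻¹ * (g * ιG ⟨x, hP x.2⟩ * g⁻¹)) = 1 := by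
      rw [map_mul, map_mul, map_mul, map_inv, map_inv, act_iota, act_iota, hg, conjS_eq, conjS_eq]
      rw [hA x]
      exact inv_mul_cancel _
    obtain ⟨z, hz⟩ := exists_center_of_act_eq_one p hT E ιG hG C.hXn hcenT _ hd
    have : g * ιG ⟨x, hP x.2⟩ * g⁻¹ = ιG ⟨φ x, hφT x⟩ * jQ ιG C.hXn.1 z := by
      rw [← hz]; group
    rw [this, jQ_apply, ← map_mul]
    exact ⟨_, rfl⟩
  -- Claim C
  have hCc : ∀ x : ↥X, g * ιG ⟨x, C.X_le_T x.2⟩ * g⁻¹ = ιG ⟨C.actL (h : L) x, C.X_le_T (C.actL (h : L) x).2⟩ := by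
    intro x
    have := act_spec p E ιG hG C.hXn g x
    rw [hg, jQ_apply, jQ_apply] at this
    exact this.symm
  -- Claim D
  have hYT : P ⊔ X ≤ T := sup_le hP C.X_le_T
  have hD : ∀ y : ↥(P ⊔ X), g * ιG ⟨y, hYT y.2⟩ * g⁻¹ ∈ ιG.range := by
    have hle : (P ⊔ X).subgroupOf T ≤ ιG.range.comap ((MulAut.conj g).toMonoidHom.comp ιG) := by
      rw [Subgroup.subgroupOf_sup hP C.X_le_T]
      apply sup_le
      · intro t ht
        exact hB ⟨t, Subgroup.mem_subgroupOf.mp ht⟩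
      · intro t ht
        show g * ιG t * g⁻¹ ∈ ιG.range
        have htX : (t : Ω) ∈ X := Subgroup.mem_subgroupOf.mp ht
        have h9 := hCc ⟨t, htX⟩
        have e9 : (⟨((⟨(t : Ω), htX⟩ : ↥X) : Ω), C.X_le_T htX⟩ : ↥T) = t := rfl
        rw [e9] at h9
        rw [h9]
        exact ⟨_, rfl⟩
    intro y
    exact hle (show (⟨y, hYT y.2⟩ : ↥T) ∈ (P ⊔ X).subgroupOf T from Subgroup.mem_subgroupOf.mpr y.2)
  obtain ⟨ψ', hψ'T, hψ'e⟩ := exists_hom_of_conj ιG hιinj hYT g hD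
  have hψ'mem : ψ' ∈ E.Hom (P ⊔ X) := (hG.2.1.2 _ hYT ψ' hψ'T).mpr ⟨g, hψ'e⟩
  -- Claim E
  have hEq : ∀ (y : ↥(P ⊔ X)) (hy : (y : Ω) ∈ X), ψ' y = (C.actL (h : L) ⟨y, hy⟩ : ↥X) := by
    intro y hy
    have h1 := hψ'e y
    have h2 := hCc ⟨y, hy⟩
    have h3 : ιG ⟨ψ' y, hψ'T y⟩ = ιG ⟨C.actL (h : L) ⟨y, hy⟩, C.X_le_T (C.actL (h : L) ⟨y, hy⟩).2⟩ := by
      rw [h1, ← h2]
    exact congrArg (fun t : ↥T => (t : Ω)) (hιinj h3)
  have hEX : ∀ y : ↥(P ⊔ X), (y : Ω) ∈ X → ψ' y ∈ X := fun y hy => by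
    rw [hEq y hy]; exact (C.actL (h : L) ⟨y, hy⟩).2
  obtain ⟨l', hl'⟩ := C.exists_conj (Y := P ⊔ X) le_sup_right (hYT.trans C.T_le_N) (C.hEF _ hψ'mem)
    (fun y => C.T_le_N (hψ'T y)) hEX
  -- Claim F
  have hF' : C.actL l' = C.actL (h : L) := by
    apply C.actL_unique
    intro x
    rw [C.jX_apply, C.jX_apply]
    have h1 := hl' (Subgroup.inclusion le_sup_right x)
    have h2 := hEq (Subgroup.inclusion le_sup_right x) x.2
    have e : (⟨((C.actL (h : L) x : ↥X) : Ω), C.X_le_N (C.actL (h : L) x).2⟩ : ↥(normalizerIn S X)) =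
        ⟨ψ' (Subgroup.inclusion le_sup_right x), C.T_le_N (hψ'T _)⟩ := Subtype.ext h2.symm
    rw [e]
    exact h1
  -- Claim G
  have hG1 : C.actL (l'⁻¹ * (h : L)) = 1 := by
    rw [map_mul, map_inv, hF', inv_mul_cancel]
  obtain ⟨z, hzc, hz⟩ := C.actL_ker hG1
  have hlz : (h : L) = l' * jX ι χ C.hχN C.X_le_N z := by
    rw [← hz]; group
  -- Claim H
  have hzT : (z : Ω) ∈ T := C.X_le_T z.2
  have hconjY : ∀ x : P, (z : Ω) * x * (z : Ω)⁻¹ ∈ P ⊔ X := fun x =>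
    (P ⊔ X).mul_mem ((P ⊔ X).mul_mem (Subgroup.mem_sup_right z.2) (Subgroup.mem_sup_left x.2))
      ((P ⊔ X).inv_mem (Subgroup.mem_sup_right z.2))
  have hH : ∀ x : P, φ x = ψ' ⟨(z : Ω) * x * (z : Ω)⁻¹, hconjY x⟩ := by
    intro x
    have h1 := hl x
    have h2 := hl' ⟨(z : Ω) * x * (z : Ω)⁻¹, hconjY x⟩
    have h3 : j0 ι χ C.hχN ⟨φ x, C.T_le_N (hφT x)⟩ =
        j0 ι χ C.hχN ⟨ψ' ⟨(z : Ω) * x * (z : Ω)⁻¹, hconjY x⟩, C.T_le_N (hψ'T _)⟩ := by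
      rw [h1, h2, hlz, C.jX_apply]
      have e : (⟨(z : Ω) * x * (z : Ω)⁻¹, (hYT.trans C.T_le_N) (hconjY x)⟩ : ↥(normalizerIn S X)) =
          ⟨z, C.X_le_N z.2⟩ * ⟨x, C.T_le_N (hP x.2)⟩ * (⟨z, C.X_le_N z.2⟩ : ↥(normalizerIn S X))⁻¹ := rfl
      rw [e, map_mul, map_mul, map_inv]
      group
    exact congrArg (fun t : ↥(normalizerIn S X) => (t : Ω)) (C.j0_injective h3)
  have hfin := E.comp_mem (E.conj_mem hP hzT) hψ'mem (fun x => hconjY x)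
  convert hfin using 1
  ext x
  rw [hH x]
  rfl

/-- `E` is realized by `H` -/
theorem Ctx.isRealizedBy (C : Ctx p F E X U N ι χ) (ιG : ↥T →* G) (hG : E.IsModel p G ιG) :
    E.IsRealizedBy C.jH :=
  ⟨C.jH_injective, fun P hP φ hφT => ⟨fun hφ => C.realized_mp hP hφT hφ,
    fun ⟨h, hh⟩ => C.realized_mpr ιG hG hP hφT h hh⟩⟩

end G

end ctx

end Cfsg.Agent.Lib.Helper7.QdF
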