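import Mathlib
import Cfsg.Prelude.Def_FusionSystem
import Cfsg.Agent.Lib.Helper7.QdFe
import Cfsg.Agent.Lib.Helper7.ModelUqE
import Cfsg.Agent.Lib.Helper7.Core

/-!
# Qd(p)-free inheritance, part F: the embedding theorem
-/

set_option autoImplicit false
set_option linter.unusedSectionVars false
set_option linter.style.haveILetI false

namespace Cfsg.Agent.Lib.Helper7.QdF

open Cfsg Cfsg.FusionSystem Cfsg.Agent.Lib.Helper7 Cfsg.Agent.Lib.Helper7.ModelUq
  Cfsg.Agent.Lib.Helper7.ModelEx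

universe u v w

variable {Ω : Type u} [Group Ω] {S : Subgroup Ω}

section ctx

variable [Finite S] {p : ℕ} [Fact p.Prime] {F : FusionSystem S} {T : Subgroup Ω} {E : FusionSystem T}
  {X U : Subgroup Ω} {N : FusionSystem (normalizerIn S U)} {L : Type v} [Group L]
  {ι : ↥(normalizerIn S U) →* L} {χ : ↥(normalizerIn S X) →* Ω}

theorem Ctx.isPGroup_T (C : Ctx p F E X U N ι χ) : IsPGroup p ↥T := C.hS.to_le C.T_le_S

/-- `j(T)` is a Sylow `p`-subgroup of `H` -/
theorem Ctx.exists_sylow (C : Ctx p F E X U N ι χ) :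
    ∃ Sy : Sylow p ↥C.H, (Sy : Subgroup ↥C.H) = C.jH.range := by
  haveI := C.finT
  have hT := C.isPGroup_T
  have hnT : T ≤ Subgroup.normalizer (X : Set Ω) := C.T_le_N.trans inf_le_right
  have hrp : IsPGroup p ↥C.jH.range := by
    have : IsPGroup p ↥((⊤ : Subgroup ↥T).map C.jH) := (IsPGroup.of_equiv hT Subgroup.topEquiv.symm).map _
    rwa [← MonoidHom.range_eq_map] at this
  obtain ⟨Sy, hSy⟩ := hrp.exists_le_sylow
  refine ⟨Sy, le_antisymm ?_ hSy⟩
  intro h hh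
  -- the image of `Sy` in `Aut(X)`
  obtain ⟨-, R, hR⟩ := isFullyAutomized_of_isNormal p hT E C.hE C.hXn
  have hBp : IsPGroup p ↥((Sy : Subgroup ↥C.H).map (C.actL.comp C.H.subtype)) := Sy.isPGroup'.map _
  have hBle : (Sy : Subgroup ↥C.H).map (C.actL.comp C.H.subtype) ≤ E.autGroup X := by
    rintro _ ⟨y, -, rfl⟩
    exact y.2
  have hAB : autInducedBy T X ≤ (Sy : Subgroup ↥C.H).map (C.actL.comp C.H.subtype) := by
    intro α hα
    obtain ⟨t, ht, hαt⟩ := (mem_autInducedBy_iff T X α).mp hα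
    refine ⟨C.jH ⟨t, ht⟩, hSy ⟨_, rfl⟩, ?_⟩
    show C.actL (j0 ι χ C.hχN ⟨t, C.T_le_N ht⟩) = α
    rw [C.actL_j0]
    ext x
    rw [hαt x]
    rfl
  have hmax := R.is_maximal' (Q := ((Sy : Subgroup ↥C.H).map (C.actL.comp C.H.subtype)).subgroupOf (E.autGroup X))
    hBp.comap_subtype (by
      rw [hR]
      intro a ha
      exact Subgroup.mem_subgroupOf.mpr (hAB (Subgroup.mem_subgroupOf.mp ha)))
  have hmem : C.actL (h : L) ∈ autInducedBy T X := by
    have h1 : (⟨C.actL (h : L), h.2⟩ : ↥(E.autGroup X)) ∈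
        ((Sy : Subgroup ↥C.H).map (C.actL.comp C.H.subtype)).subgroupOf (E.autGroup X) :=
      Subgroup.mem_subgroupOf.mpr ⟨h, hh, rfl⟩
    rw [hmax, hR] at h1
    exact Subgroup.mem_subgroupOf.mp h1
  obtain ⟨t, ht, hαt⟩ := (mem_autInducedBy_iff T X _).mp hmem
  have hact : C.actL ((j0 ι χ C.hχN ⟨t, C.T_le_N ht⟩)⁻¹ * (h : L)) = 1 := by
    rw [map_mul, map_inv, C.actL_j0, inv_mul_eq_one]
    ext x
    rw [hαt x]
    rfl
  obtain ⟨z, -, hz⟩ := C.actL_ker hact
  refine ⟨⟨t * z, T.mul_mem ht (C.X_le_T z.2)⟩, ?_⟩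
  apply Subtype.ext
  rw [C.jH_coe]
  have e : (⟨t * (z : Ω), C.T_le_N (T.mul_mem ht (C.X_le_T z.2))⟩ : ↥(normalizerIn S X)) =
      ⟨t, C.T_le_N ht⟩ * ⟨z, C.X_le_N z.2⟩ := rfl
  rw [e, map_mul]
  have : (h : L) = j0 ι χ C.hχN ⟨t, C.T_le_N ht⟩ * jX ι χ C.hχN C.X_le_N z := by
    rw [← hz]; group
  rw [this, C.jX_apply]

/-- `H` has characteristic `p` -/
theorem Ctx.charP_H (C : Ctx p F E X U N ι χ) :
    Subgroup.centralizer ((pCore p ↥C.H : Subgroup ↥C.H) : Set ↥C.H) ≤ pCore p ↥C.H := by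
  have hT := C.isPGroup_T
  have hrH : (jX ι χ C.hχN C.X_le_N).range ≤ C.H := by
    rintro _ ⟨x, rfl⟩
    exact C.j0_mem_H ⟨x, C.X_le_T x.2⟩
  have hVn : ((jX ι χ C.hχN C.X_le_N).range.subgroupOf C.H).Normal := by
    haveI := C.jX_normal
    infer_instance
  have hVp : IsPGroup p ↥((jX ι χ C.hχN C.X_le_N).range.subgroupOf C.H) := by
    have h1 : IsPGroup p ↥(jX ι χ C.hχN C.X_le_N).range := by
      have : IsPGroup p ↥((⊤ : Subgroup ↥X).map (jX ι χ C.hχN C.X_le_N)) :=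
        (IsPGroup.of_equiv (C.hS.to_le C.X_le_S) Subgroup.topEquiv.symm).map _
      rwa [← MonoidHom.range_eq_map] at this
    exact h1.comap_subtype
  have hVle := le_pCore hVn hVp
  intro h hh
  apply hVle
  rw [Subgroup.mem_subgroupOf]
  have hcen : (h : L) ∈ Subgroup.centralizer (((jX ι χ C.hχN C.X_le_N).range : Subgroup L) : Set L) := by
    rw [Subgroup.mem_centralizer_iff]
    intro y hy
    have h1 := Subgroup.mem_centralizer_iff.mp hh ⟨y, hrH hy⟩ (hVle (Subgroup.mem_subgroupOf.mpr hy))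
    exact congrArg (fun t : ↥C.H => (t : L)) h1
  have hact : C.actL (h : L) = 1 :=
    (@actOn_eq_one_iff _ _ _ _ (jX ι χ C.hχN C.X_le_N) C.jX_injective C.jX_normal (h : L)).mpr hcen
  obtain ⟨z, -, hz⟩ := C.actL_ker hact
  rw [hz]
  exact ⟨z, rfl⟩

/-- `H` is a model of `E` -/
theorem Ctx.isModel_H (C : Ctx p F E X U N ι χ) {G : Type w} [Group G] (ιG : ↥T →* G)
    (hG : E.IsModel p G ιG) : E.IsModel p ↥C.H C.jH := by
  haveI := C.finT
  haveI : Finite L := C.hL.1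
  exact ⟨inferInstance, C.isRealizedBy ιG hG, C.exists_sylow, C.charP_H⟩

theorem Ctx.isConstrained_E (C : Ctx p F E X U N ι χ) : E.IsConstrained p := by
  refine ⟨C.hE, X, C.hXn, C.X_le_T, fun Q hQ => ?_⟩
  obtain ⟨φ, hφ, hr⟩ := hQ
  have hFc : F.IsConj X Q := ⟨φ, C.hEF X hφ, hr⟩
  intro c hc
  exact C.hXc.2 Q hFc ⟨C.T_le_S hc.1, hc.2⟩

/-- the model of `E` embeds in `L` -/
theorem Ctx.exists_embedding (C : Ctx p F E X U N ι χ) {G : Type w} [Group G] (ιG : ↥T →* G)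
    (hG : E.IsModel p G ιG) : ∃ f : G →* L, Function.Injective f := by
  haveI := C.finT
  obtain ⟨φ, -⟩ := model_unique p C.isPGroup_T E C.isConstrained_E ιG C.jH hG (C.isModel_H ιG hG)
  exact ⟨C.H.subtype.comp φ.toMonoidHom, (Subgroup.subtype_injective _).comp φ.injective⟩

end ctx

/-- **Embedding theorem.** Let `E` be a saturated subsystem over `T` of the saturated system `F` over `S`, with a
normal subgroup `X` that is `F`-centric. Then every model of `E` embeds in the model of `N_F(U)` for every fully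
normalized `F`-conjugate `U` of `X`. -/
theorem model_embeds [Finite S] (p : ℕ) [Fact p.Prime] (hS : IsPGroup p S) (F : FusionSystem S)
    (hF : F.IsSaturated p) {T : Subgroup Ω} (E : FusionSystem T) (hE : E.IsSaturated p)
    (hEF : E.IsSubsystemOf F) {X : Subgroup Ω} (hXn : E.IsNormal X) (hXc : F.IsCentric X)
    {U : Subgroup Ω} (hU : F.IsFullyNormalized U) (hXU : F.IsConj X U)
    (N : FusionSystem (normalizerIn S U)) (hN : F.IsNormalizerSystem U N)
    {L : Type v} [Group L] (ι : ↥(normalizerIn S U) →* L) (hL : N.IsModel p L ι)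
    {G : Type w} [Group G] (ιG : ↥T →* G) (hG : E.IsModel p G ιG) :
    ∃ f : G →* L, Function.Injective f := by
  obtain ⟨R, hc, hFA', hRec'⟩ := hF U hU.1
  obtain ⟨hFA, hRec⟩ := isFullyAutomized_isReceptive_of_isFullyNormalized p hS F hU hFA' hRec' hc
  obtain ⟨χ, hχ, hχN, hχX⟩ := hom_normalizer_of_fullyAutomized_receptive p hS F U X hFA hRec hXU
  have C : Ctx p F E X U N ι χ := ⟨hS, hF, hE, hEF, hXn, hXc, hU, hN, hL, hχ, hχN, hχX⟩
  exact C.exists_embedding ιG hG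

end Cfsg.Agent.Lib.Helper7.QdF
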