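import Mathlib
import Cfsg.Prelude.Def_FusionSystem
import Cfsg.Agent.Lib.Helper7.QdFf
import Cfsg.Agent.Lib.Helper7.GTFa
import Cfsg.Agent.Lib.Helper7.FusionEssential

/-!
# Qd(p)-free inheritance, part G: normal subgroups of realized systems, radical subgroups
-/

set_option autoImplicit false
set_option linter.unusedSectionVars false
set_option linter.style.haveILetI false

namespace Cfsg.Agent.Lib.Helper7.QdF

open Cfsg Cfsg.FusionSystem Cfsg.Agent.Lib.Helper7 Cfsg.Agent.Lib.Helper7.ModelUq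
  Cfsg.Agent.Lib.Helper7.ModelEx Cfsg.Agent.Lib.Helper7.GTF

universe u v w

variable {Ω : Type u} [Group Ω] {S : Subgroup Ω}

/-- a subgroup of `S` whose image in a group realizing the system is normal is normal in the system -/
theorem isNormal_of_realized (F : FusionSystem S) {G : Type v} [Group G] (ι : S →* G)
    (hreal : F.IsRealizedBy ι) {R : Subgroup Ω} (hRS : R ≤ S) (hRn : (imQ ι R).Normal) :
    F.IsNormal R := by
  obtain ⟨hinj, hr⟩ := hreal
  refine ⟨hRS, fun P φ hφ => ?_⟩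
  obtain ⟨hPS, hφS⟩ := F.le_of_mem hφ
  obtain ⟨g, hg⟩ := (hr P hPS φ hφS).mp hφ
  have hYS : P ⊔ R ≤ S := sup_le hPS hRS
  have hconjR : ∀ r : ↥R, ∃ r' : ↥R, g * ι ⟨r, hRS r.2⟩ * g⁻¹ = ι ⟨r', hRS r'.2⟩ := by
    intro r
    have h1 : ι ⟨r, hRS r.2⟩ ∈ imQ ι R := (mem_imQ_iff ι hRS _).mpr ⟨r, rfl⟩
    exact (mem_imQ_iff ι hRS _).mp (hRn.conj_mem _ h1 g)
  have hD : ∀ y : ↥(P ⊔ R), g * ι ⟨y, hYS y.2⟩ * g⁻¹ ∈ ι.range := by
    have hle : (P ⊔ R).subgroupOf S ≤ ι.range.comap ((MulAut.conj g).toMonoidHom.comp ι) := by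
      rw [Subgroup.subgroupOf_sup hPS hRS]
      apply sup_le
      · intro t ht
        show g * ι t * g⁻¹ ∈ ι.range
        have := hg ⟨t, Subgroup.mem_subgroupOf.mp ht⟩
        exact ⟨_, this⟩
      · intro t ht
        show g * ι t * g⁻¹ ∈ ι.range
        obtain ⟨r', hr'⟩ := hconjR ⟨t, Subgroup.mem_subgroupOf.mp ht⟩
        exact ⟨_, hr'.symm⟩
    intro y
    exact hle (show (⟨y, hYS y.2⟩ : ↥S) ∈ (P ⊔ R).subgroupOf S from Subgroup.mem_subgroupOf.mpr y.2)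
  obtain ⟨ψ, hψS, hψe⟩ := exists_hom_of_conj ι hinj hYS g hD
  have hψmem : ψ ∈ F.Hom (P ⊔ R) := (hr _ hYS ψ hψS).mpr ⟨g, hψe⟩
  refine ⟨ψ, hψmem, fun x => ?_, ?_⟩
  · have h1 := hψe (Subgroup.inclusion le_sup_left x)
    have h2 := hg x
    have h3 : ι ⟨ψ (Subgroup.inclusion le_sup_left x), hψS _⟩ = ι ⟨φ x, hφS x⟩ := by
      rw [h1, h2]
      rfl
    exact congrArg (fun t : ↥S => (t : Ω)) (hinj h3)
  · ext y
    constructor
    · rintro ⟨r, hrR, rfl⟩
      have hrR' : (r : Ω) ∈ R := Subgroup.mem_subgroupOf.mp hrR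
      obtain ⟨r', hr'⟩ := hconjR ⟨r, hrR'⟩
      have h1 := hψe r
      have h3 : ι ⟨ψ r, hψS _⟩ = ι ⟨r', hRS r'.2⟩ := by
        rw [h1, ← hr']
      have h4 : ψ r = (r' : Ω) := congrArg (fun t : ↥S => (t : Ω)) (hinj h3)
      show ψ r ∈ R
      rw [h4]
      exact r'.2
    · intro hy
      have h1 : ι ⟨y, hRS hy⟩ ∈ imQ ι R := (mem_imQ_iff ι hRS _).mpr ⟨⟨y, hy⟩, rfl⟩
      obtain ⟨r', hr'⟩ := (mem_imQ_iff ι hRS _).mp (hRn.conj_mem _ h1 g⁻¹)
      refine ⟨⟨r', Subgroup.mem_sup_right r'.2⟩, Subgroup.mem_subgroupOf.mpr r'.2, ?_⟩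
      have h2 := hψe ⟨r', Subgroup.mem_sup_right r'.2⟩
      have h3 : ι ⟨ψ ⟨r', Subgroup.mem_sup_right r'.2⟩, hψS _⟩ = ι ⟨y, hRS hy⟩ := by
        rw [h2]
        have e : (⟨((⟨(r' : Ω), Subgroup.mem_sup_right r'.2⟩ : ↥(P ⊔ R)) : Ω), hYS (Subgroup.mem_sup_right r'.2)⟩ : ↥S) =
            ⟨r', hRS r'.2⟩ := rfl
        rw [e, ← hr']
        group
      exact congrArg (fun t : ↥S => (t : Ω)) (hinj h3)

/-- the automorphism groups of `Q` in `F` and in `N_F(Q)` agree -/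
theorem autGroup_normalizerSystem [Finite S] (F : FusionSystem S) {Q : Subgroup Ω} (hQS : Q ≤ S)
    (N : FusionSystem (normalizerIn S Q)) (hN : F.IsNormalizerSystem Q N) :
    N.autGroup Q = F.autGroup Q := by
  have hQN : Q ≤ normalizerIn S Q := le_inf hQS Subgroup.le_normalizer
  ext α
  rw [mem_autGroup_iff N hQN, mem_autGroup_iff F hQS, hN Q]
  constructor
  · intro h
    exact h.1
  · intro h
    exact aut_mem_normalizerHom F le_rfl hQN α ((mem_autGroup_iff F hQS α).mpr h) (fun x _ => (α x).2)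

/-- if the largest normal `p`-subgroup of a model of `N_F(Q)` is the image of `Q`, then `Q` is radical -/
theorem isRadical_of_pCore_le [Finite S] (p : ℕ) [Fact p.Prime] (hS : IsPGroup p S)
    (F : FusionSystem S) {Q : Subgroup Ω} (hQS : Q ≤ S) (hQc : centralizerIn S Q ≤ Q)
    (N : FusionSystem (normalizerIn S Q)) (hN : F.IsNormalizerSystem Q N)
    {G : Type v} [Group G] (ι : ↥(normalizerIn S Q) →* G) (hG : N.IsModel p G ι)
    (hle : pCore p G ≤ imQ ι Q) : F.IsRadical p Q := by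
  haveI : Finite ↥(normalizerIn S Q) := finite_of_le inf_le_left
  haveI : Finite ↥Q := finite_of_le hQS
  have hSN : IsPGroup p ↥(normalizerIn S Q) := hS.to_le inf_le_left
  have hQN : Q ≤ normalizerIn S Q := le_inf hQS Subgroup.le_normalizer
  have hQn : N.IsNormal Q := isNormal_normalizerSystem F hQS N hN
  have hcenN : centralizerIn (normalizerIn S Q) Q ≤ Q := fun c hc => hQc ⟨hc.1.1, hc.2⟩
  have hAeq := autGroup_normalizerSystem F hQS N hN
  have hQp : IsPGroup p ↥Q := hS.to_le hQS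
  refine ⟨hQS, le_antisymm ?_ ?_⟩
  · -- `O_p(Aut_F(Q)) ≤ Inn(Q)`
    rintro β ⟨b, hb, rfl⟩
    have hmemA : ∀ g : G, act p N ι hG hQn g ∈ F.autGroup Q := fun g => by
      rw [← hAeq]; exact act_mem_autGroup p N ι hG hQn g
    have hβN : (b : MulAut ↥Q) ∈ N.autGroup Q := by rw [hAeq]; exact b.2
    obtain ⟨d, hd⟩ := exists_act_eq p N ι hG hQn (b : MulAut ↥Q) hβN
    obtain ⟨act', hact'⟩ : ∃ a' : G →* ↥(F.autGroup Q), ∀ g, ((a' g : ↥(F.autGroup Q)) : MulAut ↥Q) =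
        act p N ι hG hQn g := ⟨(act p N ι hG hQn).codRestrict (F.autGroup Q) hmemA, fun g => rfl⟩
    have hDn : ((pCore p ↥(F.autGroup Q)).comap act').Normal := (pCore_normal p ↥(F.autGroup Q)).comap act'
    have hDp : IsPGroup p ↥((pCore p ↥(F.autGroup Q)).comap act') := by
      intro x
      have hx : act' (x : G) ∈ pCore p ↥(F.autGroup Q) := x.2
      obtain ⟨k, hk⟩ := (pCore_isPGroup p ↥(F.autGroup Q)) ⟨_, hx⟩
      have hk1 : (act' (x : G)) ^ p ^ k = 1 := congrArg Subtype.val hk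
      have hk' : act p N ι hG hQn ((x : G) ^ p ^ k) = 1 := by
        rw [← hact', map_pow, hk1]
        rfl
      obtain ⟨z, hz⟩ := exists_center_of_act_eq_one p hSN N ι hG hQn hcenN _ hk'
      obtain ⟨m, hm⟩ := hQp (z : ↥Q)
      refine ⟨k + m, ?_⟩
      apply Subtype.ext
      rw [Subgroup.coe_pow, pow_add, pow_mul, hz, ← map_pow, hm, map_one]
      rfl
    have hDle := le_pCore hDn hDp
    have hdD : d ∈ (pCore p ↥(F.autGroup Q)).comap act' := by
      rw [Subgroup.mem_comap]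
      have : act' d = b := Subtype.ext (by rw [hact', hd])
      rw [this]
      exact hb
    obtain ⟨q, hq⟩ := (mem_imQ_iff ι hQN d).mp (hle (hDle hdD))
    show ((b : ↥(F.autGroup Q)) : MulAut ↥Q) ∈ Inn ↥Q
    rw [← hd, hq]
    have h5 := act_iota p N ι hG hQn ⟨q, hQN q.2⟩
    rw [h5]
    refine ⟨q, ?_⟩
    ext x
    rfl
  · -- `Inn(Q) ≤ O_p(Aut_F(Q))`
    have hInnA : Inn ↥Q ≤ F.autGroup Q := inn_le_autGroup F hQS
    have hIn : ((Inn ↥Q).subgroupOf (F.autGroup Q)).Normal := inferInstance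
    have hIp : IsPGroup p ↥((Inn ↥Q).subgroupOf (F.autGroup Q)) := (isPGroup_inn hQp).comap_subtype
    have hI_le := le_pCore hIn hIp
    intro β hβ
    exact ⟨⟨β, hInnA hβ⟩, hI_le (Subgroup.mem_subgroupOf.mpr hβ), rfl⟩

end Cfsg.Agent.Lib.Helper7.QdF
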