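import Mathlib
import Cfsg.Prelude.Def_FusionSystem
import Cfsg.Agent.Lib.Helper7.QdFa
import Cfsg.Agent.Lib.Helper7.FusionNormalizer
import Cfsg.Agent.Lib.Helper7.KNormalizerSat
import Cfsg.Agent.Lib.Helper7.FusionSat4

/-!
# ZJ-theorem for fusion systems (Kessar–Linckelmann), part A: fusion-system bookkeeping

* `castSystem` : transport of a fusion system along an equality of the underlying subgroups;
* `fs_cancel_left` : if `χ ∘ φ` and `χ` are maps of the system, so is `φ`;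
* `normalizerHom_transport` : transport of the maps of `N_F(Q)` along a map `χ : N_S(Q) → N_S(Q')` carrying `Q` onto `Q'`.
-/

set_option autoImplicit false

namespace Cfsg.Agent.Lib.Helper7.ZJK

open Cfsg Cfsg.FusionSystem Cfsg.Agent.Lib.Helper7 Cfsg.Agent.Lib.Helper7.QdF

variable {Ω : Type*} [Group Ω] {S : Subgroup Ω}

/-- transport of a fusion system along an equality of subgroups -/
def castSystem {S T : Subgroup Ω} (h : S = T) (F : FusionSystem S) : FusionSystem T := h ▸ F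

theorem castSystem_hom {S T : Subgroup Ω} (h : S = T) (F : FusionSystem S) (P : Subgroup Ω) :
    (castSystem h F).Hom P = F.Hom P := by
  subst h
  rfl

/-- left cancellation in a fusion system -/
theorem fs_cancel_left (E : FusionSystem S) {A B : Subgroup Ω} {φ : A →* Ω} {χ : B →* Ω}
    (hχ : χ ∈ E.Hom B) (hφB : ∀ a, φ a ∈ B) (hcomp : χ.comp (φ.codRestrict B hφB) ∈ E.Hom A) :
    φ ∈ E.Hom A := by
  obtain ⟨χi, hχi, hinv⟩ := E.inv_mem hχ
  have h : ∀ a : A, (χ.comp (φ.codRestrict B hφB)) a ∈ χ.range := fun a => ⟨_, rfl⟩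
  have h1 := E.comp_mem hcomp hχi h
  have e : χi.comp ((χ.comp (φ.codRestrict B hφB)).codRestrict χ.range h) = φ := by
    ext a
    exact hinv (φ.codRestrict B hφB a)
  rwa [e] at h1

/-- restriction of a map of the normalizer system -/
theorem normalizerHom_restrict (F : FusionSystem S) {Q : Subgroup Ω} (hQS : Q ≤ S) {A B : Subgroup Ω}
    (hAB : A ≤ B) {φ : B →* Ω} (hφ : φ ∈ F.normalizerHom Q B) :
    φ.comp (Subgroup.inclusion hAB) ∈ F.normalizerHom Q A := by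
  obtain ⟨N, hN⟩ := exists_normalizerSystem F Q hQS
  rw [← hN] at hφ ⊢
  exact fs_restrict_mem N hAB hφ

/-- transport of the maps of `N_F(Q)` along a map `χ : N_S(Q) → N_S(Q')` of `F` carrying `Q` onto `Q'` -/
theorem normalizerHom_transport [Finite S] (F : FusionSystem S) {Q Q' : Subgroup Ω} (hQS : Q ≤ S)
    (χ : ↥(normalizerIn S Q) →* Ω) (hχ : χ ∈ F.Hom (normalizerIn S Q))
    (hχN : ∀ x, χ x ∈ normalizerIn S Q') (hχQ : (Q.subgroupOf (normalizerIn S Q)).map χ = Q')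
    {A : Subgroup Ω} {φ : A →* Ω} (hφ : φ ∈ F.normalizerHom Q A) :
    ∃ φ' : ↥((A.subgroupOf (normalizerIn S Q)).map χ) →* Ω,
      φ' ∈ F.normalizerHom Q' ((A.subgroupOf (normalizerIn S Q)).map χ) ∧
      ∀ (a : A) (h : χ ⟨a, hφ.2.1 a.2⟩ ∈ (A.subgroupOf (normalizerIn S Q)).map χ),
        φ' ⟨χ ⟨a, hφ.2.1 a.2⟩, h⟩ = χ ⟨φ a, hφ.2.2.1 a⟩ := by
  obtain ⟨hφF, hA, hφN, ψ, hψ, hext, hmap⟩ := id hφ
  have hQT : Q ≤ normalizerIn S Q := le_normalizerIn hQS
  have hAQ : A ⊔ Q ≤ normalizerIn S Q := sup_le hA hQT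
  have hψQ : ∀ x : Q, ψ (Subgroup.inclusion le_sup_right x) ∈ Q := fun x =>
    hmap.le ⟨_, Subgroup.mem_subgroupOf.mpr x.2, rfl⟩
  have hψT : ∀ y, ψ y ∈ normalizerIn S Q :=
    values_mem_of_sup ψ (fun x => by rw [hext x]; exact hφN x) (fun x => hQT (hψQ x))
  obtain ⟨θ, hθ, hθeq⟩ := transport_mem F hχ hAQ hψ hψT
  have hQ'S : Q' ≤ S := by
    rw [← hχQ]
    rintro _ ⟨x, -, rfl⟩
    exact (hχN x).1
  have hA'B : (A.subgroupOf (normalizerIn S Q)).map χ ≤
      ((A ⊔ Q).subgroupOf (normalizerIn S Q)).map χ :=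
    Subgroup.map_mono (Subgroup.subgroupOf_mono _ le_sup_left)
  have hQ'B : Q' ≤ ((A ⊔ Q).subgroupOf (normalizerIn S Q)).map χ := by
    rw [← hχQ]
    exact Subgroup.map_mono (Subgroup.subgroupOf_mono _ le_sup_right)
  have hBN : ((A ⊔ Q).subgroupOf (normalizerIn S Q)).map χ ≤ normalizerIn S Q' := by
    rintro _ ⟨x, -, rfl⟩
    exact hχN x
  -- elements of the source of `θ`
  have hrep : ∀ x : ↥(((A ⊔ Q).subgroupOf (normalizerIn S Q)).map χ),
      ∃ (y : ↥(A ⊔ Q)) (h : χ (Subgroup.inclusion hAQ y) ∈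
        ((A ⊔ Q).subgroupOf (normalizerIn S Q)).map χ), x = ⟨χ (Subgroup.inclusion hAQ y), h⟩ := by
    rintro ⟨_, ⟨y, hy, rfl⟩⟩
    exact ⟨⟨y, Subgroup.mem_subgroupOf.mp hy⟩, ⟨y, hy, rfl⟩, rfl⟩
  have hθN : θ ∈ F.normalizerHom Q' (((A ⊔ Q).subgroupOf (normalizerIn S Q)).map χ) := by
    refine mem_normalizerHom_of_le F hQ'B hBN hθ ?_ ?_
    · intro x
      obtain ⟨y, h, rfl⟩ := hrep x
      rw [hθeq y h]
      exact hχN _
    · intro x hx
      obtain ⟨y, h, rfl⟩ := hrep x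
      rw [hθeq y h]
      have hx' : χ (Subgroup.inclusion hAQ y) ∈ (Q.subgroupOf (normalizerIn S Q)).map χ := hχQ ▸ hx
      obtain ⟨q, hq, hqy⟩ := hx'
      have hqy' : q = Subgroup.inclusion hAQ y := F.injective_of_mem hχ hqy
      have hyQ : (y : Ω) ∈ Q := by
        have := Subgroup.mem_subgroupOf.mp hq
        rw [hqy'] at this
        exact this
      have h2 : ψ y ∈ Q := by
        have := hψQ ⟨y, hyQ⟩
        exact this
      rw [← hχQ]
      exact ⟨⟨ψ y, hψT y⟩, Subgroup.mem_subgroupOf.mpr h2, rfl⟩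
  refine ⟨θ.comp (Subgroup.inclusion hA'B), normalizerHom_restrict F hQ'S hA'B hθN, fun a h => ?_⟩
  have h3 := hθeq (Subgroup.inclusion le_sup_left a) (hA'B h)
  have e : (θ.comp (Subgroup.inclusion hA'B)) ⟨χ ⟨a, hφ.2.1 a.2⟩, h⟩ =
      θ ⟨χ (Subgroup.inclusion hAQ (Subgroup.inclusion le_sup_left a)), hA'B h⟩ := rfl
  rw [e, h3]
  congr 1
  exact Subtype.ext (hext a)

end Cfsg.Agent.Lib.Helper7.ZJK
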