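import Mathlib
import Cfsg.Prelude.Def_FusionSystem
import Cfsg.Agent.Lib.Helper7.ZJKa
import Cfsg.Agent.Lib.Helper7.GTFc
import Cfsg.Agent.Lib.Helper7.Alperin5

/-!
# ZJ-theorem for fusion systems, part B: the climbing argument

If `N_F(Q) ⊆ N_F(W(N_S(Q)))` for every nontrivial fully normalized subgroup `Q`, then `W(S)` is normal in `F`.
-/

set_option autoImplicit false
set_option linter.unusedSectionVars false
set_option linter.style.haveILetI false

namespace Cfsg.Agent.Lib.Helper7.ZJK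

open Cfsg Cfsg.FusionSystem Cfsg.Agent.Lib.Helper7 Cfsg.Agent.Lib.Helper7.QdF
  Cfsg.Agent.Lib.Helper7.WCtl Cfsg.Agent.Lib.Helper7.GTF

universe u

variable {p : ℕ} [Fact p.Prime] (W : ∀ (Q : Type u) [Group Q], Subgroup Q)
  (hW1 : ∀ (Q : Type u) [Group Q] [Finite Q], IsPGroup p Q → Nontrivial Q → W Q ≠ ⊥)
  (hW2 : ∀ (Q R : Type u) [Group Q] [Group R] [Finite Q], IsPGroup p Q → ∀ φ : Q ≃* R,
    (W Q).map φ.toMonoidHom = W R)

variable {Ω : Type u} [Group Ω] {S : Subgroup Ω}

include hW1 hW2 in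
/-- the climbing step -/
theorem climb [Finite S] (hS : IsPGroup p S) (F : FusionSystem S) (hF : F.IsSaturated p)
    (E : FusionSystem S)
    (hE : ∀ (A : Subgroup Ω) (φ : A →* Ω), φ ∈ E.Hom A ↔ φ ∈ F.normalizerHom (WT W S) A)
    (hloc : ∀ Q : Subgroup Ω, Q ≠ ⊥ → F.IsFullyNormalized Q → ∀ (A : Subgroup Ω) (φ : A →* Ω),
      φ ∈ F.normalizerHom Q A → φ ∈ F.normalizerHom (WT W (normalizerIn S Q)) A)
    (c : ℕ) (ihA : ∀ (B : Subgroup Ω) (φ : B →* Ω), φ ∈ F.Hom B → c < Nat.card B → φ ∈ E.Hom B) :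
    ∀ (k : ℕ) (Q : Subgroup Ω), Q ≤ S → Q ≠ ⊥ → c < Nat.card (normalizerIn S Q) →
      Nat.card S - Nat.card (normalizerIn S Q) = k →
      ∀ (A : Subgroup Ω) (φ : A →* Ω), φ ∈ F.normalizerHom Q A → φ ∈ E.Hom A := by
  intro k
  induction k using Nat.strong_induction_on with
  | _ k ih =>
  intro Q hQS hQne hc hk A φ hφ
  obtain ⟨Q', hconj, hQ'fn⟩ := exists_isFullyNormalized_conj F hQS
  have hQ'S : Q' ≤ S := hQ'fn.1
  obtain ⟨R₀, hc₀, hFA₀, hRec₀⟩ := hF Q' hQ'S
  obtain ⟨hFA, hRec⟩ := isFullyAutomized_isReceptive_of_isFullyNormalized p hS F hQ'fn hFA₀ hRec₀ hc₀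
  obtain ⟨χ, hχ, hχN, hχQ⟩ := hom_normalizer_of_fullyAutomized_receptive p hS F Q' Q hFA hRec hconj
  have hχE : χ ∈ E.Hom (normalizerIn S Q) := ihA _ χ hχ hc
  have hcard : Nat.card (normalizerIn S Q) ≤ Nat.card (normalizerIn S Q') :=
    hQ'fn.2 Q (isConj_symm F hconj)
  have hQ'ne : Q' ≠ ⊥ := by
    intro h
    apply hQne
    have h1 := card_eq_of_isConj F hconj
    rw [h, Subgroup.card_bot] at h1
    exact Subgroup.card_eq_one.mp h1
  obtain ⟨φ', hφ', hφ'eq⟩ := normalizerHom_transport F hQS χ hχ hχN hχQ hφ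
  have hφ'W := hloc Q' hQ'ne hQ'fn _ φ' hφ'
  have hT'S : normalizerIn S Q' ≤ S := inf_le_left
  haveI : Finite ↥(normalizerIn S Q') := finite_of_le hT'S
  have hT'p : IsPGroup p ↥(normalizerIn S Q') := hS.to_le hT'S
  -- `φ'` is a map of `E`
  have hφ'E : φ' ∈ E.Hom ((A.subgroupOf (normalizerIn S Q)).map χ) := by
    by_cases hT' : normalizerIn S Q' = S
    · rw [hE]
      have e : WT W (normalizerIn S Q') = WT W S := by rw [hT']
      rwa [e] at hφ'W
    · have hQ''S : WT W (normalizerIn S Q') ≤ S := (WT_le W _).trans hT'S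
      have hT'ne : normalizerIn S Q' ≠ ⊥ := by
        intro h
        apply hQ'ne
        rw [eq_bot_iff, ← h]
        exact le_normalizerIn hQ'S
      have hQ''ne : WT W (normalizerIn S Q') ≠ ⊥ := WT_ne_bot W hW1 hT'p hT'ne
      have h1 : Nat.card (normalizerIn S Q') < Nat.card (normalizerIn S (normalizerIn S Q')) :=
        card_lt_card_normalizerIn hS hT'S hT'
      have h2 : normalizerIn S (normalizerIn S Q') ≤ normalizerIn S (WT W (normalizerIn S Q')) :=
        inf_le_inf_left S (normalizer_le_normalizer_WT W hW2 _ hT'p)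
      haveI : Finite ↥(normalizerIn S (WT W (normalizerIn S Q'))) := finite_of_le inf_le_left
      have h3 : Nat.card (normalizerIn S (normalizerIn S Q')) ≤
          Nat.card (normalizerIn S (WT W (normalizerIn S Q'))) := Subgroup.card_le_of_le h2
      have h4 : Nat.card (normalizerIn S (WT W (normalizerIn S Q'))) ≤ Nat.card S :=
        Subgroup.card_le_of_le inf_le_left
      exact ih (Nat.card S - Nat.card (normalizerIn S (WT W (normalizerIn S Q')))) (by omega)
        _ hQ''S hQ''ne (by omega) rfl _ φ' hφ'W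
  -- cancel `χ`
  have hA : A ≤ normalizerIn S Q := hφ.2.1
  have hφT : ∀ a, φ a ∈ normalizerIn S Q := hφ.2.2.1
  have hχA : ∀ a : A, (χ.comp (Subgroup.inclusion hA)) a ∈ (A.subgroupOf (normalizerIn S Q)).map χ :=
    fun a => ⟨Subgroup.inclusion hA a, Subgroup.mem_subgroupOf.mpr a.2, rfl⟩
  have hcomp := E.comp_mem (fs_restrict_mem E hA hχE) hφ'E hχA
  have e : φ'.comp ((χ.comp (Subgroup.inclusion hA)).codRestrict _ hχA) =
      χ.comp (φ.codRestrict (normalizerIn S Q) hφT) := by
    ext a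
    exact hφ'eq a (hχA a)
  rw [e] at hcomp
  exact fs_cancel_left E hχE hφT hcomp

include hW1 hW2 in
/-- **Climbing.** If the normalizer systems of the nontrivial fully normalized subgroups `Q` are controlled by
`W(N_S(Q))`, then `W(S)` is normal in `F`. -/
theorem isNormal_WT_of_local [Finite S] (hS : IsPGroup p S) (F : FusionSystem S) (hF : F.IsSaturated p)
    (hloc : ∀ Q : Subgroup Ω, Q ≠ ⊥ → F.IsFullyNormalized Q → ∀ (A : Subgroup Ω) (φ : A →* Ω),
      φ ∈ F.normalizerHom Q A → φ ∈ F.normalizerHom (WT W (normalizerIn S Q)) A) :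
    F.IsNormal (WT W S) := by
  have hVS : WT W S ≤ S := WT_le W S
  have hSV : S ≤ Subgroup.normalizer ((WT W S : Subgroup Ω) : Set Ω) :=
    Subgroup.le_normalizer.trans (normalizer_le_normalizer_WT W hW2 S hS)
  have hTeq : normalizerIn S (WT W S) = S := inf_eq_left.mpr hSV
  obtain ⟨N, hN⟩ := exists_normalizerSystem F (WT W S) hVS
  obtain ⟨E, hEdef⟩ : ∃ E : FusionSystem S, E = castSystem hTeq N := ⟨_, rfl⟩
  have hE : ∀ (A : Subgroup Ω) (φ : A →* Ω), φ ∈ E.Hom A ↔ φ ∈ F.normalizerHom (WT W S) A := by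
    intro A φ
    rw [hEdef, castSystem_hom, hN A]
  have hFE : F ≤ E := by
    apply alperin_goldschmidt_strong p hS F hF E
    intro P hP ih α hα
    by_cases hPS : P = S
    · subst hPS
      rw [mem_autGroup_iff E le_rfl, hE]
      refine aut_mem_normalizerHom F hVS (le_inf le_rfl hSV) α hα ?_
      intro x hx
      obtain ⟨hx1, hx2⟩ := (mem_WT_iff W P x).mp hx
      refine (mem_WT_iff W P _).mpr ⟨(α x).2, ?_⟩
      have h1 := hW2 ↥P ↥P hS α
      rw [← h1]
      exact ⟨x, hx2, rfl⟩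
    · obtain ⟨hPc, hPfn, -⟩ := hP.resolve_left hPS
      have hPle : P ≤ S := hPfn.1
      have hPne : P ≠ ⊥ := by
        intro h
        apply hPS
        have h1 := hPc.2 P (isConj_refl F hPle)
        rw [h] at h1
        apply le_antisymm hPle
        have h2 : centralizerIn S ⊥ = S := by
          unfold centralizerIn
          rw [inf_eq_left]
          intro s _
          rw [Subgroup.mem_centralizer_iff]
          intro y hy
          have : y = 1 := hy
          rw [this, one_mul, mul_one]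
        rw [h2] at h1
        rw [h]
        exact h1
      have hlt : Nat.card P < Nat.card (normalizerIn S P) := card_lt_card_normalizerIn hS hPle hPS
      have hmem : P.subtype.comp α.toMonoidHom ∈ F.normalizerHom P P :=
        aut_mem_normalizerHom F le_rfl (le_normalizerIn hPle) α hα (fun x _ => (α x).2)
      rw [mem_autGroup_iff E hPle]
      exact climb W hW1 hW2 hS F hF E hE hloc (Nat.card P) ih _ P hPle hPne hlt rfl P _ hmem
  exact isNormal_of_forall_mem F hVS (fun A φ hφ => (hE A φ).mp (hFE A hφ))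

end Cfsg.Agent.Lib.Helper7.ZJK
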