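import Mathlib
import Cfsg.Prelude.Def_FusionSystem
import Cfsg.Prelude.Def_FusionReduction
import Cfsg.Agent.Lib.Helper7.ZJKb
import Cfsg.Agent.Lib.Helper7.GTFg
import Cfsg.Agent.Lib.Helper7.QdFg
import Cfsg.Agent.Lib.Helper7.ModelExI
import Cfsg.Agent.Lib.Helper7.NormalizerConstrained
import Cfsg.Agent.Lib.Helper7.MaxClassC

/-!
# ZJ-theorem for fusion systems, part C: the constrained case
-/

set_option autoImplicit false
set_option linter.unusedSectionVars false
set_option linter.style.haveILetI false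

namespace Cfsg.Agent.Lib.Helper7.ZJK

open Cfsg Cfsg.FusionSystem Cfsg.Agent.Lib.Helper7 Cfsg.Agent.Lib.Helper7.QdF
  Cfsg.Agent.Lib.Helper7.WCtl Cfsg.Agent.Lib.Helper7.GTF Cfsg.Agent.Lib.Helper7.ModelUq
  Cfsg.Agent.Lib.Helper7.ModelEx

universe u

variable {p : ℕ} [Fact p.Prime] (W : ∀ (Q : Type u) [Group Q], Subgroup Q)
  (hW2 : ∀ (Q R : Type u) [Group Q] [Group R] [Finite Q], IsPGroup p Q → ∀ φ : Q ≃* R,
    (W Q).map φ.toMonoidHom = W R)
  (hW3 : ∀ (L : Type u) [Group L] [Finite L] (P : Sylow p L),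
    Subgroup.centralizer ((Cfsg.pCore p L : Subgroup L) : Set L) =
      Cfsg.pCore p L ⊓ Subgroup.centralizer ((Cfsg.pCore p L : Subgroup L) : Set L) →
    ¬ Cfsg.Involves ↥(Cfsg.qd p) L → (((W ↥(P : Subgroup L)).map (P : Subgroup L).subtype : Subgroup L)).Normal)

variable {Ω : Type u} [Group Ω] {S : Subgroup Ω}

theorem WT_congr {A B : Subgroup Ω} (h : A = B) : WT W A = WT W B := by rw [h]

include hW2 hW3 in
/-- the constrained case: if a normal subgroup of `F` is centric, `W(S)` is normal in `F` -/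
theorem isNormal_WT_of_constrained [Finite S] (hS : IsPGroup p S) (F : FusionSystem S)
    (hF : F.IsSaturated p) (hfree : F.IsSectionFree p ↥(Cfsg.qd p)) {Q : Subgroup Ω}
    (hQ : F.IsNormal Q) (hQc : F.IsCentric Q) : F.IsNormal (WT W S) := by
  have hQS : Q ≤ S := hQ.1
  have hSQ : S ≤ Subgroup.normalizer (Q : Set Ω) := le_normalizer_of_isNormal F hQ
  have hTeq : normalizerIn S Q = S := inf_eq_left.mpr hSQ
  have hTS : normalizerIn S Q ≤ S := inf_le_left
  have hQfn : F.IsFullyNormalized Q :=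
    Cfsg.Agent.Lib.Helper7.MaxClass.isFullyNormalized_of_normalizer F hQS hSQ
  obtain ⟨N, hN⟩ := exists_normalizerSystem F Q hQS
  have hNc := normalizerSystem_isConstrained p hS F hF Q hQfn hQc N hN
  haveI : Finite ↥(normalizerIn S Q) := finite_of_le hTS
  haveI : Finite ↥(S ⊓ Subgroup.normalizer (Q : Set Ω)) := finite_of_le inf_le_left
  have hTp : IsPGroup p ↥(normalizerIn S Q) := hS.to_le hTS
  obtain ⟨L, _, ι, hL⟩ := exists_model p hTp N hNc
  have hnot := hfree Q hQfn hQc N hN L ι hL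
  obtain ⟨hfin, hreal, ⟨P₀, hP₀⟩, hcent⟩ := hL
  haveI := hfin
  have hn := hW3 L P₀ (inf_eq_right.mpr hcent).symm hnot
  have h1 : imQ ι (normalizerIn S Q) = ι.range := by
    unfold imQ
    rw [Subgroup.subgroupOf_self, ← MonoidHom.range_eq_map]
  have h2 : WT W (P₀ : Subgroup L) = imQ ι (WT W (normalizerIn S Q)) := by
    rw [hP₀, ← h1]
    exact WT_imQ W hW2 ι hreal.1 le_rfl hTp
  have hn' : (imQ ι (WT W (normalizerIn S Q))).Normal := by
    rw [← h2]
    exact hn
  have hNn : N.IsNormal (WT W (normalizerIn S Q)) :=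
    isNormal_of_realized N ι hreal (WT_le W _) hn'
  rw [WT_congr W hTeq] at hNn
  have hNF : ∀ (P : Subgroup Ω) (φ : P →* Ω), φ ∈ N.Hom P → φ ∈ F.Hom P := by
    intro P φ h
    rw [hN P] at h
    exact h.1
  refine isNormal_of_forall_mem F ((WT_le W S)) (fun A φ hφ => ?_)
  have h3 : φ ∈ N.Hom A := by
    rw [hN A]
    exact mem_normalizerHom_of_isNormal F hQ hφ
  exact normalizerHom_mono F N hTS hNF (mem_normalizerHom_of_isNormal N hNn h3)

end Cfsg.Agent.Lib.Helper7.ZJK
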