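import Mathlib
import Cfsg.Prelude.Def_FusionSystem
import Cfsg.Agent.Lib.Helper7.KNormalizerSat2
import Cfsg.Agent.Lib.Helper7.FusionNormalizer

/-!
# ZJ-theorem for fusion systems, part D: existence of `K`-normalizer systems
-/

set_option autoImplicit false

namespace Cfsg.Agent.Lib.Helper7.ZJK

open Cfsg Cfsg.FusionSystem Cfsg.Agent.Lib.Helper7

variable {Ω : Type*} [Group Ω] {S : Subgroup Ω}

/-- Existence of the `K`-normalizer fusion system `N_F^K(Q)`. -/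
theorem exists_kNormSystem (F : FusionSystem S) (Q : Subgroup Ω) (hQ : Q ≤ S) (K : Subgroup (MulAut Q)) :
    ∃ E : FusionSystem (kNorm S K Q.subtype), ∀ P : Subgroup Ω, E.Hom P = kNormHom F Q K P := by
  refine ⟨{ Hom := fun P => kNormHom F Q K P
            le_of_mem := fun h => ⟨h.2.1, h.2.2.1⟩
            injective_of_mem := fun h => F.injective_of_mem h.1
            conj_mem := ?_
            comp_mem := ?_
            inv_mem := ?_ }, fun P => rfl⟩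
  · -- conj_mem
    intro P g hP hg
    have hgS : g ∈ S := hg.1
    obtain ⟨l, hl, hlg⟩ := hg.2
    have hPS : P ≤ S := hP.trans (kNorm_le K _)
    refine ⟨F.conj_mem hPS hgS, hP, fun x => ?_, conjHom (P ⊔ Q) g,
      F.conj_mem (sup_le hPS hQ) hgS, fun x => rfl, l, hl, fun x => ?_⟩
    · exact Subgroup.mul_mem _ (Subgroup.mul_mem _ hg (hP x.2)) (Subgroup.inv_mem _ hg)
    · exact (hlg x).symm
  · -- comp_mem
    rintro P P' φ ψ ⟨hφ, hP, hφN, φ', hφ', eφ, κ₁, hκ₁, mφ⟩ ⟨hψ, hP', hψN, ψ', hψ', eψ, κ₂, hκ₂, mψ⟩ h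
    have hval : ∀ u : ↥(P ⊔ Q), φ' u ∈ P' ⊔ Q :=
      values_mem_of_sup φ' (fun x => by rw [eφ x]; exact Subgroup.mem_sup_left (h x))
        (fun x => by rw [mφ x]; exact Subgroup.mem_sup_right (κ₁ x).2)
    refine ⟨F.comp_mem hφ hψ h, hP, fun x => hψN _, ψ'.comp (φ'.codRestrict (P' ⊔ Q) hval),
      F.comp_mem hφ' hψ' hval, fun x => ?_, κ₂ * κ₁, K.mul_mem hκ₂ hκ₁, fun x => ?_⟩
    · show ψ' ⟨φ' (Subgroup.inclusion le_sup_left x), _⟩ = ψ ⟨φ x, _⟩
      rw [← eψ]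
      congr 1
      apply Subtype.ext
      exact eφ x
    · show ψ' ⟨φ' (Subgroup.inclusion le_sup_right x), _⟩ = ((κ₂ * κ₁) x : Q)
      rw [MulAut.mul_apply, ← mψ (κ₁ x)]
      congr 1
      apply Subtype.ext
      exact mφ x
  · -- inv_mem
    rintro P φ ⟨hφ, hP, hφN, φ', hφ', eφ, κ, hκ, mφ⟩
    obtain ⟨χ, hχ, hχφ⟩ := F.inv_mem hφ'
    have hle2 : φ.range ⊔ Q ≤ φ'.range := by
      apply sup_le
      · rintro _ ⟨x, rfl⟩
        exact ⟨Subgroup.inclusion le_sup_left x, eφ x⟩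
      · intro y hy
        refine ⟨Subgroup.inclusion le_sup_right (κ⁻¹ ⟨y, hy⟩), ?_⟩
        rw [mφ, MulAut.apply_inv_self]
    have hle1 : φ.range ≤ φ'.range := le_sup_left.trans hle2
    have key : ∀ x : P, χ ⟨φ x, hle1 (MonoidHom.mem_range.mpr ⟨x, rfl⟩)⟩ = x := by
      intro x
      have := hχφ (Subgroup.inclusion le_sup_left x)
      have e : (x : Ω) = ((Subgroup.inclusion (le_sup_left : P ≤ P ⊔ Q) x : ↥(P ⊔ Q)) : Ω) := rfl
      rw [e, ← this]
      congr 1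
      exact Subtype.ext (eφ x).symm
    refine ⟨χ.comp (Subgroup.inclusion hle1), ⟨fs_restrict_mem F hle1 hχ, ?_, ?_,
      χ.comp (Subgroup.inclusion hle2), fs_restrict_mem F hle2 hχ, fun x => rfl, κ⁻¹, K.inv_mem hκ, ?_⟩,
      fun x => key x⟩
    · rintro _ ⟨x, rfl⟩
      exact hφN x
    · rintro ⟨_, x, rfl⟩
      show χ ⟨φ x, _⟩ ∈ kNorm S K Q.subtype
      rw [key x]
      exact hP x.2
    · intro y
      have h1 := hχφ (Subgroup.inclusion le_sup_right (κ⁻¹ y))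
      have e : ((Subgroup.inclusion (le_sup_right : Q ≤ P ⊔ Q) (κ⁻¹ y) : ↥(P ⊔ Q)) : Ω) = ((κ⁻¹ y : Q) : Ω) := rfl
      rw [e] at h1
      rw [← h1]
      show χ ⟨(y : Ω), _⟩ = χ ⟨φ' _, _⟩
      congr 1
      apply Subtype.ext
      show (y : Ω) = φ' (Subgroup.inclusion le_sup_right (κ⁻¹ y))
      rw [mφ, MulAut.apply_inv_self]

end Cfsg.Agent.Lib.Helper7.ZJK
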