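import Mathlib
import Cfsg.Prelude.Def_FusionSystem
import Cfsg.Prelude.Def_FusionReduction
import Cfsg.Agent.Lib.Helper7.QdFg
import Cfsg.Agent.Lib.Helper7.InvolvesLib
import Cfsg.Agent.Lib.Helper7.FusionCentric
import Cfsg.Agent.Lib.Helper7.FusionNormalizer
import Cfsg.Agent.Lib.Helper7.KNormalizerSat2
import Cfsg.Agent.Lib.Helper7.ModelExI
import Cfsg.Agent.Lib.Helper7.FusionSat4

/-!
# Qd(p)-free inheritance, part H: it suffices to test the centric radical subgroups
-/

set_option autoImplicit false
set_option linter.unusedSectionVars false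
set_option linter.style.haveILetI false

namespace Cfsg.Agent.Lib.Helper7.QdF

open Cfsg Cfsg.FusionSystem Cfsg.Agent.Lib.Helper7 Cfsg.Agent.Lib.Helper7.ModelUq
  Cfsg.Agent.Lib.Helper7.ModelEx

universe u w

variable {Ω : Type u} [Group Ω] {S : Subgroup Ω}

/-- the models at the fully normalized centric subgroups embed in the models at the fully normalized centric
radical subgroups: section-freeness can be tested at the latter -/
theorem isSectionFree_of_radical [Finite S] (p : ℕ) [Fact p.Prime] (hS : IsPGroup p S)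
    (F : FusionSystem S) (hF : F.IsSaturated p) {Y : Type w} [Group Y]
    (h : ∀ Q : Subgroup Ω, F.IsFullyNormalized Q → F.IsCentric Q → F.IsRadical p Q →
      ∀ N : FusionSystem (normalizerIn S Q), F.IsNormalizerSystem Q N →
      ∀ (L : Type u) [Group L] (ι : ↥(normalizerIn S Q) →* L), N.IsModel p L ι → ¬ Involves Y L) :
    F.IsSectionFree p Y := by
  have claim : ∀ k : ℕ, ∀ Q : Subgroup Ω, F.IsFullyNormalized Q → F.IsCentric Q →
      Nat.card S - Nat.card Q = k →
      ∀ N : FusionSystem (normalizerIn S Q), F.IsNormalizerSystem Q N →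
      ∀ (L : Type u) [Group L] (ι : ↥(normalizerIn S Q) →* L), N.IsModel p L ι → ¬ Involves Y L := by
    intro k
    induction k using Nat.strong_induction_on with
    | _ k ih =>
    intro Q hQn hQc hk N hN L _ ι hL
    have hQS : Q ≤ S := hQn.1
    have hTS : normalizerIn S Q ≤ S := inf_le_left
    haveI : Finite ↥(normalizerIn S Q) := finite_of_le hTS
    have hQT : Q ≤ normalizerIn S Q := le_inf hQS Subgroup.le_normalizer
    have hcenQ : centralizerIn S Q ≤ Q := hQc.2 Q (isConj_refl F hQS)
    by_cases hle : pCore p L ≤ imQ ι Q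
    · exact h Q hQn hQc (isRadical_of_pCore_le p hS F hQS hcenQ N hN ι hL hle) N hN L ι hL
    · -- the preimage `R` of `O_p(L)`
      obtain ⟨R, hRdef⟩ : ∃ R : Subgroup Ω, R = ((pCore p L).comap ι).map (normalizerIn S Q).subtype :=
        ⟨_, rfl⟩
      have hRT : R ≤ normalizerIn S Q := by
        rw [hRdef]; exact Subgroup.map_subtype_le _
      have hmemR : ∀ x : Ω, x ∈ R ↔ ∃ n : ↥(normalizerIn S Q), n ∈ (pCore p L).comap ι ∧
          (normalizerIn S Q).subtype n = x := by
        intro x
        rw [hRdef]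
        exact Subgroup.mem_map
      have hRS : R ≤ S := hRT.trans hTS
      obtain ⟨hfin, hreal, ⟨Sy, hSy⟩, hcent⟩ := hL
      have hUT : pCore p L ≤ ι.range := hSy ▸ pCore_le_sylow Sy
      have himR : imQ ι R = pCore p L := by
        ext x
        rw [mem_imQ_iff ι hRT]
        constructor
        · rintro ⟨r, rfl⟩
          obtain ⟨n, hn, hnr⟩ := (hmemR r).mp r.2
          have : (⟨r, hRT r.2⟩ : ↥(normalizerIn S Q)) = n := Subtype.ext hnr.symm
          rw [this]
          exact hn
        · intro hx
          obtain ⟨n, rfl⟩ := hUT hx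
          have hnR : (n : Ω) ∈ R := by
            rw [hRdef]; exact ⟨n, hx, rfl⟩
          exact ⟨⟨n, hnR⟩, rfl⟩
      have hL' : N.IsModel p L ι := ⟨hfin, hreal, ⟨Sy, hSy⟩, hcent⟩
      have hQnN : N.IsNormal Q := isNormal_normalizerSystem F hQS N hN
      have hQR : Q ≤ R := by
        intro q hq
        have h1 : ι ⟨q, hQT hq⟩ ∈ imQ ι Q := (mem_imQ_iff ι hQT _).mpr ⟨⟨q, hq⟩, rfl⟩
        have h2 : imQ ι Q ≤ pCore p L :=
          le_pCore (imQ_normal p N ι hL' hQnN) (imQ_isPGroup p (hS.to_le hTS) ι Q)
        rw [hRdef]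
        exact ⟨⟨q, hQT hq⟩, h2 h1, rfl⟩
      have hnle : ¬ R ≤ Q := by
        intro hRQ
        apply hle
        rw [← himR]
        intro x hx
        obtain ⟨r, rfl⟩ := (mem_imQ_iff ι hRT x).mp hx
        exact (mem_imQ_iff ι hQT _).mpr ⟨⟨r, hRQ r.2⟩, rfl⟩
      haveI : Finite ↥R := finite_of_le hRS
      haveI : Finite ↥Q := finite_of_le hQS
      have hcardlt : Nat.card ↥Q < Nat.card ↥R := by
        apply lt_of_le_of_ne (Subgroup.card_le_of_le hQR)
        intro heq
        exact hnle (le_of_eq (Subgroup.eq_of_le_of_card_ge hQR (le_of_eq heq.symm)).symm)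
      have hRnN : N.IsNormal R := by
        apply isNormal_of_realized N ι hreal hRT
        rw [himR]
        exact pCore_normal p L
      have hRc : F.IsCentric R := isCentric_of_le F hQc hQR hRS
      have hNsat : N.IsSaturated p := normalizerSystem_isSaturated p hS F hF Q hQn N hN
      have hNF : N.IsSubsystemOf F := by
        intro P φ hφ
        rw [hN P] at hφ
        exact hφ.1
      obtain ⟨U, hRU, hUn⟩ := exists_isFullyNormalized_conj F hRS
      have hUc : F.IsCentric U := isCentric_of_isConj F hRc hRU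
      have hUS : U ≤ S := hUn.1
      obtain ⟨NU, hNU⟩ := exists_normalizerSystem F U hUS
      have hcon := normalizerSystem_isConstrained p hS F hF U hUn hUc NU hNU
      haveI : Finite ↥(normalizerIn S U) := finite_of_le inf_le_left
      haveI : Finite ↥(S ⊓ Subgroup.normalizer (U : Set Ω)) := finite_of_le inf_le_left
      obtain ⟨LU, _, ιU, hLU⟩ := exists_model p (hS.to_le (inf_le_left : normalizerIn S U ≤ S)) NU hcon
      have hcardU : Nat.card ↥R = Nat.card ↥U := card_eq_of_isConj F hRU
      have hRleS : Nat.card ↥R ≤ Nat.card ↥S := Subgroup.card_le_of_le hRS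
      have hIH : ¬ Involves Y LU := by
        apply ih (Nat.card S - Nat.card U) _ U hUn hUc rfl NU hNU LU ιU hLU
        rw [← hk, ← hcardU]
        omega
      obtain ⟨f, hf⟩ := model_embeds p hS F hF N hNsat hNF hRnN hRc hUn hRU NU hNU ιU hLU ι hL'
      intro hinv
      exact hIH (involves_of_injective f hf hinv)
  intro Q hQn hQc N hN L _ ι hL
  exact claim _ Q hQn hQc rfl N hN L ι hL

end Cfsg.Agent.Lib.Helper7.QdF
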