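import Mathlib
import Cfsg.Prelude.Def_FusionSystem
import Cfsg.Prelude.Def_FusionReduction
import Cfsg.Agent.Lib.Helper7.QdFh

/-!
# Qd(p)-free inheritance, part I: normalizer systems
-/

set_option autoImplicit false
set_option linter.unusedSectionVars false
set_option linter.style.haveILetI false

namespace Cfsg.Agent.Lib.Helper7.QdF

open Cfsg Cfsg.FusionSystem Cfsg.Agent.Lib.Helper7 Cfsg.Agent.Lib.Helper7.ModelUq
  Cfsg.Agent.Lib.Helper7.ModelEx

universe u w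

variable {Ω : Type u} [Group Ω] {S : Subgroup Ω}

/-- a subgroup of `N_S(Q)` containing the fully normalized subgroup `Q` and centric in `N_F(Q)` is centric in `F` -/
theorem isCentric_of_normalizer_centric [Finite S] (p : ℕ) [Fact p.Prime] (hS : IsPGroup p S)
    (F : FusionSystem S) (hF : F.IsSaturated p) {Q : Subgroup Ω} (hQn : F.IsFullyNormalized Q)
    (N : FusionSystem (normalizerIn S Q)) (hN : F.IsNormalizerSystem Q N) {R : Subgroup Ω}
    (hQR : Q ≤ R) (hRc : N.IsCentric R) : F.IsCentric R := by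
  have hQS : Q ≤ S := hQn.1
  have hRT : R ≤ normalizerIn S Q := hRc.1
  have hRS : R ≤ S := hRT.trans inf_le_left
  obtain ⟨Q₀, hc₀, hFA', hRec'⟩ := hF Q hQS
  obtain ⟨hFA, hRec⟩ := isFullyAutomized_isReceptive_of_isFullyNormalized p hS F hQn hFA' hRec' hc₀
  refine ⟨hRS, ?_⟩
  rintro R' ⟨φ, hφ, rfl⟩
  have hφS : ∀ x, φ x ∈ S := (F.le_of_mem hφ).2
  -- the image of `Q`
  obtain ⟨Q', hQ'def⟩ : ∃ Q' : Subgroup Ω, Q' = (Q.subgroupOf R).map φ := ⟨_, rfl⟩
  have hmemQ' : ∀ x : Ω, x ∈ Q' ↔ ∃ r : ↥R, (r : Ω) ∈ Q ∧ φ r = x := by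
    intro x
    rw [hQ'def]
    constructor
    · rintro ⟨r, hr, rfl⟩
      exact ⟨r, Subgroup.mem_subgroupOf.mp hr, rfl⟩
    · rintro ⟨r, hr, rfl⟩
      exact ⟨r, Subgroup.mem_subgroupOf.mpr hr, rfl⟩
  have hconj : F.IsConj Q' Q := by
    apply isConj_symm
    refine ⟨φ.comp (Subgroup.inclusion hQR), fs_restrict_mem F hQR hφ, ?_⟩
    ext x
    rw [hmemQ']
    constructor
    · rintro ⟨q, rfl⟩
      exact ⟨Subgroup.inclusion hQR q, q.2, rfl⟩
    · rintro ⟨r, hr, rfl⟩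
      exact ⟨⟨r, hr⟩, rfl⟩
  obtain ⟨ψ, hψ, hψN, hψQ⟩ := hom_normalizer_of_fullyAutomized_receptive p hS F Q Q' hFA hRec hconj
  -- `φ(R)` normalizes `Q'`
  have hRQ' : φ.range ≤ normalizerIn S Q' := by
    rintro _ ⟨r, rfl⟩
    refine ⟨hφS r, ?_⟩
    haveI : Finite ↥Q' := finite_of_le (isConj_le F hconj).1
    apply mem_normalizer_of_conj_mem_finite
    intro x hx
    obtain ⟨r₁, hr₁, rfl⟩ := (hmemQ' x).mp hx
    rw [hmemQ']
    have hrN : (r : Ω) ∈ Subgroup.normalizer (Q : Set Ω) := (hRT r.2).2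
    have h1 : (r : Ω) * r₁ * (r : Ω)⁻¹ ∈ Q := (Subgroup.mem_normalizer_iff.mp hrN _).mp hr₁
    refine ⟨r * r₁ * r⁻¹, h1, ?_⟩
    rw [map_mul, map_mul, map_inv]
  have hCQ' : centralizerIn S φ.range ≤ normalizerIn S Q' := by
    intro c hc
    refine ⟨hc.1, ?_⟩
    apply Subgroup.centralizer_le_normalizer
    rw [Subgroup.mem_centralizer_iff]
    intro x hx
    obtain ⟨r₁, -, rfl⟩ := (hmemQ' x).mp hx
    exact Subgroup.mem_centralizer_iff.mp hc.2 _ ⟨r₁, rfl⟩
  -- the composite `θ = ψ ∘ φ`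
  have hφN' : ∀ x : ↥R, φ x ∈ normalizerIn S Q' := fun x => hRQ' ⟨x, rfl⟩
  have hθ := F.comp_mem hφ hψ hφN'
  have hθN : ∀ x : ↥R, (ψ.comp (φ.codRestrict (normalizerIn S Q') hφN')) x ∈
      normalizerIn S Q := fun x => hψN _
  have hθQ : ∀ x : ↥R, (x : Ω) ∈ Q →
      (ψ.comp (φ.codRestrict (normalizerIn S Q') hφN')) x ∈ Q := by
    intro x hx
    have hmem : φ.codRestrict (normalizerIn S Q') hφN' x ∈ Q'.subgroupOf (normalizerIn S Q') :=
      Subgroup.mem_subgroupOf.mpr ((hmemQ' _).mpr ⟨x, hx, rfl⟩)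
    have h0 : ψ (φ.codRestrict (normalizerIn S Q') hφN' x) ∈
        (Q'.subgroupOf (normalizerIn S Q')).map ψ := ⟨_, hmem, rfl⟩
    rw [hψQ] at h0
    exact h0
  have hθmem := mem_normalizerHom_of_le F hQR hRT hθ hθN hθQ
  rw [← hN R] at hθmem
  have hcen := hRc.2 _ ⟨_, hθmem, rfl⟩
  -- conclude
  intro c hc
  have hcN : c ∈ normalizerIn S Q' := hCQ' hc
  have h1 : ψ ⟨c, hcN⟩ ∈ centralizerIn (normalizerIn S Q)
      (ψ.comp (φ.codRestrict (normalizerIn S Q') hφN')).range := by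
    apply Subgroup.mem_inf.mpr
    refine ⟨hψN _, Subgroup.mem_centralizer_iff.mpr ?_⟩
    rintro _ ⟨r, rfl⟩
    have h2 := Subgroup.mem_centralizer_iff.mp hc.2 (φ r) ⟨r, rfl⟩
    show ψ (φ.codRestrict _ hφN' r) * ψ ⟨c, hcN⟩ = ψ ⟨c, hcN⟩ * ψ (φ.codRestrict _ hφN' r)
    rw [← map_mul, ← map_mul]
    congr 1
    exact Subtype.ext h2
  obtain ⟨r, hr⟩ := hcen h1
  have h3 : φ.codRestrict (normalizerIn S Q') hφN' r = ⟨c, hcN⟩ :=
    F.injective_of_mem hψ hr
  exact ⟨r, congrArg Subtype.val h3⟩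

/-- **Normalizer systems of `H`-free systems are `H`-free.** -/
theorem isSectionFree_normalizerSystem [Finite S] (p : ℕ) [Fact p.Prime] (hS : IsPGroup p S)
    (F : FusionSystem S) (hF : F.IsSaturated p) {Y : Type w} [Group Y] (hfree : F.IsSectionFree p Y)
    {Q : Subgroup Ω} (hQn : F.IsFullyNormalized Q) (N : FusionSystem (normalizerIn S Q))
    (hN : F.IsNormalizerSystem Q N) : N.IsSectionFree p Y := by
  have hQS : Q ≤ S := hQn.1
  have hTS : normalizerIn S Q ≤ S := inf_le_left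
  haveI : Finite ↥(normalizerIn S Q) := finite_of_le hTS
  have hT : IsPGroup p ↥(normalizerIn S Q) := hS.to_le hTS
  have hNsat : N.IsSaturated p := normalizerSystem_isSaturated p hS F hF Q hQn N hN
  have hNF : N.IsSubsystemOf F := by
    intro P φ hφ
    rw [hN P] at hφ
    exact hφ.1
  have hQnN : N.IsNormal Q := isNormal_normalizerSystem F hQS N hN
  apply isSectionFree_of_radical p hT N hNsat
  intro R hRn hRc hRr N' hN' L _ ι hL
  have hRT : R ≤ normalizerIn S Q := hRn.1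
  have hRS : R ≤ S := hRT.trans hTS
  have hQR : Q ≤ R := le_of_isNormal_of_centric_radical p hT N hQnN hRc hRr
  have hRcF : F.IsCentric R := isCentric_of_normalizer_centric p hS F hF hQn N hN hQR hRc
  have hN'sat : N'.IsSaturated p := normalizerSystem_isSaturated p hT N hNsat R hRn N' hN'
  have hN'F : N'.IsSubsystemOf F := by
    intro P φ hφ
    rw [hN' P] at hφ
    exact hNF P hφ.1
  have hRnN' : N'.IsNormal R := isNormal_normalizerSystem N hRT N' hN'
  obtain ⟨U, hRU, hUn⟩ := exists_isFullyNormalized_conj F hRS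
  have hUc : F.IsCentric U := isCentric_of_isConj F hRcF hRU
  have hUS : U ≤ S := hUn.1
  obtain ⟨NU, hNU⟩ := exists_normalizerSystem F U hUS
  have hcon := normalizerSystem_isConstrained p hS F hF U hUn hUc NU hNU
  haveI : Finite ↥(normalizerIn S U) := finite_of_le inf_le_left
  haveI : Finite ↥(S ⊓ Subgroup.normalizer (U : Set Ω)) := finite_of_le inf_le_left
  obtain ⟨LU, _, ιU, hLU⟩ := exists_model p (hS.to_le (inf_le_left : normalizerIn S U ≤ S)) NU hcon
  have hfreeU : ¬ Involves Y LU := hfree U hUn hUc NU hNU LU ιU hLU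
  obtain ⟨f, hf⟩ := model_embeds p hS F hF N' hN'sat hN'F hRnN' hRcF hUn hRU NU hNU ιU hLU ι hL
  intro hinv
  exact hfreeU (involves_of_injective f hf hinv)

end Cfsg.Agent.Lib.Helper7.QdF
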