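import Mathlib
import Cfsg.Prelude.Def_FusionSystem
import Cfsg.Prelude.Def_FusionReduction
import Cfsg.Agent.Lib.Helper7.QdFi

/-!
# ZJ-theorem for fusion systems, part E: `H`-free subsystems

A saturated subsystem `E` of an `H`-free saturated system `F`, with a normal subgroup `Q` such that the `E`-centric
subgroups containing `Q` are `F`-centric, is `H`-free.
-/

set_option autoImplicit false
set_option linter.unusedSectionVars false
set_option linter.style.haveILetI false

namespace Cfsg.Agent.Lib.Helper7.ZJK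

open Cfsg Cfsg.FusionSystem Cfsg.Agent.Lib.Helper7 Cfsg.Agent.Lib.Helper7.QdF
  Cfsg.Agent.Lib.Helper7.ModelUq Cfsg.Agent.Lib.Helper7.ModelEx

universe u w

variable {Ω : Type u} [Group Ω] {S : Subgroup Ω}

theorem isSectionFree_of_subsystem [Finite S] (p : ℕ) [Fact p.Prime] (hS : IsPGroup p S)
    (F : FusionSystem S) (hF : F.IsSaturated p) {Y : Type w} [Group Y] (hfree : F.IsSectionFree p Y)
    {T : Subgroup Ω} (hTS : T ≤ S) (E : FusionSystem T) (hE : E.IsSaturated p) (hEF : E.IsSubsystemOf F)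
    {Q : Subgroup Ω} (hQ : E.IsNormal Q)
    (hcen : ∀ R : Subgroup Ω, Q ≤ R → E.IsCentric R → F.IsCentric R) : E.IsSectionFree p Y := by
  haveI : Finite ↥T := finite_of_le hTS
  have hT : IsPGroup p ↥T := hS.to_le hTS
  apply isSectionFree_of_radical p hT E hE
  intro R hRn hRc hRr N' hN' L _ ι hL
  have hRT : R ≤ T := hRn.1
  have hRS : R ≤ S := hRT.trans hTS
  have hQR : Q ≤ R := le_of_isNormal_of_centric_radical p hT E hQ hRc hRr
  have hRcF : F.IsCentric R := hcen R hQR hRc
  have hN'sat : N'.IsSaturated p := normalizerSystem_isSaturated p hT E hE R hRn N' hN'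
  have hN'F : N'.IsSubsystemOf F := by
    intro P φ hφ
    rw [hN' P] at hφ
    exact hEF P hφ.1
  have hRnN' : N'.IsNormal R := isNormal_normalizerSystem E hRT N' hN'
  obtain ⟨U, hRU, hUn⟩ := exists_isFullyNormalized_conj F hRS
  have hUc : F.IsCentric U := isCentric_of_isConj F hRcF hRU
  have hUS : U ≤ S := hUn.1
  obtain ⟨NU, hNU⟩ := exists_normalizerSystem F U hUS
  have hcon := normalizerSystem_isConstrained p hS F hF U hUn hUc NU hNU
  haveI : Finite ↥(normalizerIn S U) := finite_of_le inf_le_left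
  haveI : Finite ↥(S ⊓ Subgroup.normalizer (U : Set Ω)) := finite_of_le inf_le_left
  obtain ⟨LU, _, ιU, hLU⟩ := exists_model p (hS.to_le (inf_le_left : normalizerIn S U ≤ S)) NU hcon
  have hfreeU : ¬ Involves Y LU := hfree U hUn hUc NU hNU LU ιU hLU
  obtain ⟨f, hf⟩ := model_embeds p hS F hF N' hN'sat hN'F hRnN' hRcF hUn hRU NU hNU ιU hLU ι hL
  intro hinv
  exact hfreeU (involves_of_injective f hf hinv)

end Cfsg.Agent.Lib.Helper7.ZJK
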