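import Mathlib
import Cfsg.Prelude.Def_FusionSystem
import Cfsg.Prelude.Def_FusionReduction
import Cfsg.Agent.Lib.Helper7.ZJKd
import Cfsg.Agent.Lib.Helper7.ZJKe
import Cfsg.Agent.Lib.Helper7.FactorSystem
import Cfsg.Agent.Lib.Helper7.FusionNormal
import Cfsg.Agent.Lib.Helper7.MaxClassC

/-!
# ZJ-theorem for fusion systems, part F: the system `S C_F(Q)` for `Q` normal in `F`

`Q` normal in `F`, `K = Aut_S(Q)`: the `K`-normalizer system `N_F^K(Q) = S C_F(Q)` is a saturated system over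
(a subgroup equal to) `S`, `Q` is normal in it, and it is `H`-free if `F` is.
-/

set_option autoImplicit false
set_option linter.unusedSectionVars false
set_option linter.style.haveILetI false

namespace Cfsg.Agent.Lib.Helper7.ZJK

open Cfsg Cfsg.FusionSystem Cfsg.Agent.Lib.Helper7 Cfsg.Agent.Lib.Helper7.QdF

universe u w

variable {Ω : Type u} [Group Ω] {S : Subgroup Ω}

theorem kNorm_autInduced_eq {Q : Subgroup Ω} (hSQ : S ≤ Subgroup.normalizer (Q : Set Ω)) :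
    kNorm S (autInducedBy S Q) Q.subtype = S := by
  apply le_antisymm (kNorm_le _ _)
  intro g hg
  refine ⟨hg, Q.normalizerMonoidHom ⟨g, hSQ hg⟩, ?_, fun u => rfl⟩
  exact (mem_autInducedBy_iff S Q _).mpr ⟨g, hg, fun x => rfl⟩

/-- membership in `S C_F(Q)` -/
theorem mem_kNormHom_iff (F : FusionSystem S) {Q : Subgroup Ω}
    (hSQ : S ≤ Subgroup.normalizer (Q : Set Ω)) {P : Subgroup Ω} (φ : P →* Ω) :
    φ ∈ kNormHom F Q (autInducedBy S Q) P ↔ φ ∈ F.Hom P ∧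
      ∃ ψ ∈ F.Hom (P ⊔ Q), (∀ x : P, ψ (Subgroup.inclusion le_sup_left x) = φ x) ∧
        ∃ κ ∈ autInducedBy S Q, ∀ x : Q, ψ (Subgroup.inclusion le_sup_right x) = κ x := by
  constructor
  · rintro ⟨h1, -, -, h2⟩
    exact ⟨h1, h2⟩
  · rintro ⟨h1, h2⟩
    obtain ⟨hPS, hφS⟩ := F.le_of_mem h1
    refine ⟨h1, ?_, ?_, h2⟩
    · rw [kNorm_autInduced_eq hSQ]; exact hPS
    · intro x; rw [kNorm_autInduced_eq hSQ]; exact hφS x

/-- a map of `F` whose source contains `Q` and which fixes `Q` elementwise is a map of `S C_F(Q)` -/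
theorem mem_kNormHom_of_fix (F : FusionSystem S) {Q : Subgroup Ω}
    (hSQ : S ≤ Subgroup.normalizer (Q : Set Ω)) {P : Subgroup Ω} (hQP : Q ≤ P) {φ : P →* Ω}
    (hφ : φ ∈ F.Hom P) (hfix : ∀ q : Q, φ ⟨q, hQP q.2⟩ = q) :
    φ ∈ kNormHom F Q (autInducedBy S Q) P := by
  rw [mem_kNormHom_iff F hSQ]
  have hsup : P ⊔ Q = P := sup_eq_left.mpr hQP
  refine ⟨hφ, _, fs_mem_of_eq F hsup hφ, fun x => rfl, 1, Subgroup.one_mem _, fun x => ?_⟩
  exact hfix x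

/-- the maps of `F` extend, modulo their action on `Q`, to `B C_S(Q)` -/
theorem exists_extension_centralizer [Finite S] (F : FusionSystem S) {Q : Subgroup Ω}
    (hQsc : F.StronglyClosed Q) (hrec : F.IsReceptive Q)
    (hSQ : S ≤ Subgroup.normalizer (Q : Set Ω)) {B : Subgroup Ω} (hQB : Q ≤ B) {φ : B →* Ω}
    (hφ : φ ∈ F.Hom B) :
    ∃ β ∈ F.Hom (B ⊔ centralizerIn S Q),
      ∀ q : Q, β ⟨q, Subgroup.mem_sup_left (hQB q.2)⟩ = φ ⟨q, hQB q.2⟩ := by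
  obtain ⟨hBS, hφS⟩ := F.le_of_mem hφ
  have hα₀ : φ.comp (Subgroup.inclusion hQB) ∈ F.Hom Q := fs_restrict_mem F hQB hφ
  have hr : (φ.comp (Subgroup.inclusion hQB)).range = Q := by
    apply le_antisymm
    · rintro _ ⟨x, rfl⟩
      exact hQsc.2 Q le_rfl _ hα₀ x
    · exact stronglyClosed_le_range F Q hQsc hα₀ le_rfl
  obtain ⟨β₀, hβ₀, hβ₀eq⟩ := hrec.2 Q _ hα₀ hr
  have hB : B ≤ extender S Q (φ.comp (Subgroup.inclusion hQB)) := by
    intro g hg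
    apply mem_extender_of_mem (hBS hg) (hSQ (hBS hg))
    refine ⟨φ ⟨g, hg⟩, hφS _, fun x hx => ?_⟩
    show φ ⟨g * x * g⁻¹, _⟩ = φ ⟨g, hg⟩ * φ ⟨x, _⟩ * (φ ⟨g, hg⟩)⁻¹
    rw [← map_inv, ← map_mul, ← map_mul]
    rfl
  have hC : centralizerIn S Q ≤ extender S Q (φ.comp (Subgroup.inclusion hQB)) :=
    centralizerIn_le_extender S Q _
  refine ⟨β₀.comp (Subgroup.inclusion (sup_le hB hC)), fs_restrict_mem F _ hβ₀, fun q => ?_⟩
  exact hβ₀eq q q.2 _

/-- a subgroup normal in `F` is receptive -/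
theorem isReceptive_of_isNormal' [Finite S] (p : ℕ) [Fact p.Prime] (hS : IsPGroup p S)
    (F : FusionSystem S) (hF : F.IsSaturated p) {Q : Subgroup Ω} (hQ : F.IsNormal Q) :
    F.IsReceptive Q := by
  have hQS : Q ≤ S := hQ.1
  have hSQ : S ≤ Subgroup.normalizer (Q : Set Ω) := le_normalizer_of_isNormal F hQ
  have hQfn : F.IsFullyNormalized Q :=
    Cfsg.Agent.Lib.Helper7.MaxClass.isFullyNormalized_of_normalizer F hQS hSQ
  obtain ⟨Q', hc, hFA', hRec'⟩ := hF Q hQS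
  exact (isFullyAutomized_isReceptive_of_isFullyNormalized p hS F hQfn hFA' hRec' hc).2

section kn

variable [Finite S] (p : ℕ) [Fact p.Prime] (hS : IsPGroup p S) (F : FusionSystem S)
  (hF : F.IsSaturated p) {Q : Subgroup Ω} (hQ : F.IsNormal Q)
  (F₁ : FusionSystem (kNorm S (autInducedBy S Q) Q.subtype))
  (hF₁ : ∀ P : Subgroup Ω, F₁.Hom P = kNormHom F Q (autInducedBy S Q) P)

include hS hF hQ hF₁ in
theorem kNormSystem_autInduced_isSaturated : F₁.IsSaturated p := by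
  have hQS : Q ≤ S := hQ.1
  haveI : Finite ↥Q := finite_of_le hQS
  have hRec := isReceptive_of_isNormal' p hS F hF hQ
  have hKle : autInducedBy S Q ≤ F.autGroup Q := autInducedBy_le_autGroup F hQS
  have hKp : IsPGroup p ↥(autInducedBy S Q) := isPGroup_autInducedBy S Q hS
  have hsyl : IsSylowIn p (autInducedBy S Q ⊓ autInducedBy S Q) (F.autGroup Q ⊓ autInducedBy S Q) := by
    rw [inf_idem, inf_eq_right.mpr hKle]
    refine ⟨le_rfl, ?_⟩
    obtain ⟨n, hn⟩ := IsPGroup.iff_card.mp hKp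
    rw [hn, Nat.Prime.factorization_pow Fact.out, Finsupp.single_eq_same]
  exact kNormSystem_isSaturated p hS F hF (autInducedBy S Q) hRec hsyl rfl F₁ hF₁

include hF₁ in
theorem kNormSystem_isSubsystemOf : F₁.IsSubsystemOf F := by
  intro P φ hφ
  rw [hF₁] at hφ
  exact hφ.1

include hQ hF₁ in
theorem isNormal_kNormSystem : F₁.IsNormal Q := by
  have hQS : Q ≤ S := hQ.1
  have hSQ : S ≤ Subgroup.normalizer (Q : Set Ω) := le_normalizer_of_isNormal F hQ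
  have hT₁ : kNorm S (autInducedBy S Q) Q.subtype = S := kNorm_autInduced_eq hSQ
  refine ⟨hT₁.ge.trans' hQS, fun P φ hφ => ?_⟩
  rw [hF₁] at hφ
  obtain ⟨hφF, ψ, hψ, hext, κ, hκ, hκeq⟩ := (mem_kNormHom_iff F hSQ φ).mp hφ
  refine ⟨ψ, ?_, hext, ?_⟩
  · rw [hF₁, mem_kNormHom_iff F hSQ]
    have e : (P ⊔ Q) ⊔ Q = P ⊔ Q := by rw [sup_assoc, sup_idem]
    exact ⟨hψ, _, fs_mem_of_eq F e hψ, fun x => rfl, κ, hκ, fun x => hκeq x⟩
  · ext y
    constructor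
    · rintro ⟨r, hr, rfl⟩
      have hrQ : (r : Ω) ∈ Q := Subgroup.mem_subgroupOf.mp hr
      have := hκeq ⟨r, hrQ⟩
      have e : Subgroup.inclusion (le_sup_right : Q ≤ P ⊔ Q) ⟨r, hrQ⟩ = r := rfl
      rw [e] at this
      rw [this]
      exact (κ _).2
    · intro hy
      refine ⟨Subgroup.inclusion le_sup_right (κ⁻¹ ⟨y, hy⟩), Subgroup.mem_subgroupOf.mpr (κ⁻¹ ⟨y, hy⟩).2, ?_⟩
      rw [hκeq, MulAut.apply_inv_self]

include hS hF hQ hF₁ in
/-- subgroups containing `Q` that are centric in `S C_F(Q)` are centric in `F` -/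
theorem isCentric_of_kNorm_centric {R₁ : Subgroup Ω} (hQR : Q ≤ R₁) (hRc : F₁.IsCentric R₁) :
    F.IsCentric R₁ := by
  have hQS : Q ≤ S := hQ.1
  have hSQ : S ≤ Subgroup.normalizer (Q : Set Ω) := le_normalizer_of_isNormal F hQ
  have hT₁ : kNorm S (autInducedBy S Q) Q.subtype = S := kNorm_autInduced_eq hSQ
  have hQsc := stronglyClosed_of_isNormal F hQ
  have hRec := isReceptive_of_isNormal' p hS F hF hQ
  have hR₁S : R₁ ≤ S := hRc.1.trans (kNorm_le _ _)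
  refine ⟨hR₁S, ?_⟩
  rintro R₂ ⟨φ, hφ, rfl⟩
  intro c hc
  obtain ⟨φi, hφi, hinv⟩ := F.inv_mem hφ
  have hQR₂ : Q ≤ φ.range := stronglyClosed_le_range F Q hQsc hφ hQR
  obtain ⟨β, hβ, hβeq⟩ := exists_extension_centralizer F hQsc hRec hSQ hQR₂ hφi
  have hφr : ∀ x : ↥R₁, φ x ∈ φ.range := fun x => ⟨x, rfl⟩
  have hγ := F.comp_mem hφ (fs_restrict_mem F (le_sup_left : φ.range ≤ φ.range ⊔ centralizerIn S Q) hβ) hφr
  have hφQ : ∀ q : ↥Q, φ ⟨q, hQR q.2⟩ ∈ Q := fun q =>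
    hQsc.2 Q le_rfl _ (fs_restrict_mem F hQR hφ) q
  have hfix : ∀ q : ↥Q, ((β.comp (Subgroup.inclusion (le_sup_left : φ.range ≤ φ.range ⊔ centralizerIn S Q))).comp
      (φ.codRestrict φ.range hφr)) ⟨q, hQR q.2⟩ = q := by
    intro q
    have h1 := hβeq ⟨φ ⟨q, hQR q.2⟩, hφQ q⟩
    have h2 := hinv ⟨q, hQR q.2⟩
    show β ⟨φ ⟨q, hQR q.2⟩, _⟩ = q
    rw [h1]
    exact h2
  have hγ₁ : ((β.comp (Subgroup.inclusion (le_sup_left : φ.range ≤ φ.range ⊔ centralizerIn S Q))).comp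
      (φ.codRestrict φ.range hφr)) ∈ F₁.Hom R₁ := by
    rw [hF₁]
    exact mem_kNormHom_of_fix F hSQ hQR hγ hfix
  have hcen := hRc.2 _ ⟨_, hγ₁, rfl⟩
  have hcQ : c ∈ centralizerIn S Q :=
    ⟨hc.1, Subgroup.centralizer_le (show (Q : Set Ω) ⊆ (φ.range : Set Ω) from hQR₂) hc.2⟩
  have hcD : c ∈ φ.range ⊔ centralizerIn S Q := Subgroup.mem_sup_right hcQ
  have h1 : β ⟨c, hcD⟩ ∈ centralizerIn (kNorm S (autInducedBy S Q) Q.subtype)
      ((β.comp (Subgroup.inclusion (le_sup_left : φ.range ≤ φ.range ⊔ centralizerIn S Q))).comp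
      (φ.codRestrict φ.range hφr)).range := by
    apply Subgroup.mem_inf.mpr
    refine ⟨hT₁.ge ((F.le_of_mem hβ).2 _), Subgroup.mem_centralizer_iff.mpr ?_⟩
    rintro _ ⟨x, rfl⟩
    have h2 := Subgroup.mem_centralizer_iff.mp hc.2 (φ x) ⟨x, rfl⟩
    show β ⟨φ x, _⟩ * β ⟨c, hcD⟩ = β ⟨c, hcD⟩ * β ⟨φ x, _⟩
    rw [← map_mul, ← map_mul]
    congr 1
    exact Subtype.ext h2
  obtain ⟨x, hx⟩ := hcen h1
  have h3 : (⟨φ x, Subgroup.mem_sup_left (hφr x)⟩ : ↥(φ.range ⊔ centralizerIn S Q)) = ⟨c, hcD⟩ :=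
    F.injective_of_mem hβ hx
  exact ⟨x, congrArg Subtype.val h3⟩

include hS hF hQ hF₁ in
/-- `S C_F(Q)` is `H`-free if `F` is -/
theorem isSectionFree_kNormSystem {Y : Type w} [Group Y] (hfree : F.IsSectionFree p Y) :
    F₁.IsSectionFree p Y :=
  isSectionFree_of_subsystem p hS F hF hfree (kNorm_le _ _) F₁
    (kNormSystem_autInduced_isSaturated p hS F hF hQ F₁ hF₁) (kNormSystem_isSubsystemOf F F₁ hF₁)
    (isNormal_kNormSystem F hQ F₁ hF₁)
    (fun _ hQR hRc => isCentric_of_kNorm_centric p hS F hF hQ F₁ hF₁ hQR hRc)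

end kn

end Cfsg.Agent.Lib.Helper7.ZJK
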