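import Mathlib
import Cfsg.Prelude.Def_FusionSystem
import Cfsg.Agent.Lib.Helper7.ZJKf
import Cfsg.Agent.Lib.Helper7.ZJKb
import Cfsg.Agent.Lib.Helper7.FusionEssential

/-!
# ZJ-theorem for fusion systems, part G: `F = ⟨S C_F(Q), N_F(Q C_S(Q))⟩` for `Q` normal in `F`

In the form needed: a subgroup `V` normal in `S` such that the maps of `S C_F(Q)` and of `N_F(Q C_S(Q))` are maps of
`N_F(V)` is normal in `F`.
-/

set_option autoImplicit false
set_option linter.unusedSectionVars false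
set_option linter.style.haveILetI false

namespace Cfsg.Agent.Lib.Helper7.ZJK

open Cfsg Cfsg.FusionSystem Cfsg.Agent.Lib.Helper7 Cfsg.Agent.Lib.Helper7.QdF
  Cfsg.Agent.Lib.Helper7.GTF

universe u

variable {Ω : Type u} [Group Ω] {S : Subgroup Ω}

theorem le_normalizer_sup_centralizerIn [Finite S] {Q : Subgroup Ω} (hQS : Q ≤ S)
    (hSQ : S ≤ Subgroup.normalizer (Q : Set Ω)) :
    S ≤ Subgroup.normalizer ((Q ⊔ centralizerIn S Q : Subgroup Ω) : Set Ω) := by
  intro g hg
  have hRS : Q ⊔ centralizerIn S Q ≤ S := sup_le hQS inf_le_left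
  haveI : Finite ↥(Q ⊔ centralizerIn S Q) := finite_of_le hRS
  apply mem_normalizer_of_conj_mem_finite
  have hle : Q ⊔ centralizerIn S Q ≤
      (Q ⊔ centralizerIn S Q).comap (MulAut.conj g).toMonoidHom := by
    apply sup_le
    · intro x hx
      exact Subgroup.mem_sup_left ((Subgroup.mem_normalizer_iff.mp (hSQ hg) x).mp hx)
    · intro c hc
      apply Subgroup.mem_sup_right
      refine ⟨S.mul_mem (S.mul_mem hg hc.1) (S.inv_mem hg), ?_⟩
      show g * c * g⁻¹ ∈ Subgroup.centralizer (Q : Set Ω)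
      rw [Subgroup.mem_centralizer_iff]
      intro y hy
      have hy' : g⁻¹ * y * g ∈ Q := by
        have := (Subgroup.mem_normalizer_iff.mp (Subgroup.inv_mem _ (hSQ hg)) y).mp hy
        simpa using this
      have h1 := Subgroup.mem_centralizer_iff.mp hc.2 _ hy'
      calc y * (g * c * g⁻¹) = g * ((g⁻¹ * y * g) * c) * g⁻¹ := by group
        _ = g * (c * (g⁻¹ * y * g)) * g⁻¹ := by rw [h1]
        _ = g * c * g⁻¹ * y := by group
  intro r hr
  exact hle hr

theorem isNormal_of_kNorm_of_normalizer [Finite S] (p : ℕ) [Fact p.Prime] (hS : IsPGroup p S)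
    (F : FusionSystem S) (hF : F.IsSaturated p) {Q : Subgroup Ω} (hQ : F.IsNormal Q)
    {V : Subgroup Ω} (hVS : V ≤ S) (hSV : S ≤ Subgroup.normalizer (V : Set Ω))
    (h₁ : ∀ (A : Subgroup Ω) (φ : A →* Ω), φ ∈ kNormHom F Q (autInducedBy S Q) A →
      φ ∈ F.normalizerHom V A)
    (h₂ : ∀ (A : Subgroup Ω) (φ : A →* Ω), φ ∈ F.normalizerHom (Q ⊔ centralizerIn S Q) A →
      φ ∈ F.normalizerHom V A) : F.IsNormal V := by
  have hQS : Q ≤ S := hQ.1
  have hSQ : S ≤ Subgroup.normalizer (Q : Set Ω) := le_normalizer_of_isNormal F hQ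
  have hQsc := stronglyClosed_of_isNormal F hQ
  have hRec := isReceptive_of_isNormal' p hS F hF hQ
  have hTeq : normalizerIn S V = S := inf_eq_left.mpr hSV
  obtain ⟨N, hN⟩ := exists_normalizerSystem F V hVS
  obtain ⟨E, hEdef⟩ : ∃ E : FusionSystem S, E = castSystem hTeq N := ⟨_, rfl⟩
  have hE : ∀ (A : Subgroup Ω) (φ : A →* Ω), φ ∈ E.Hom A ↔ φ ∈ F.normalizerHom V A := by
    intro A φ
    rw [hEdef, castSystem_hom, hN A]
  have hSR := le_normalizer_sup_centralizerIn hQS hSQ
  have hFE : F ≤ E := by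
    apply alperin_goldschmidt_strong p hS F hF E
    intro P hP ih α hα
    have hPS : P ≤ S := by
      rcases hP with rfl | hess
      · exact le_rfl
      · exact hess.1.1
    have hQP : Q ≤ P := by
      rcases hP with rfl | hess
      · exact hQS
      · exact le_of_isNormal_of_centric_radical p hS F hQ hess.1 (isRadical_of_isEssential p hS F P hess)
    haveI : Finite ↥P := finite_of_le hPS
    have hφα : P.subtype.comp α.toMonoidHom ∈ F.Hom P := (mem_autGroup_iff F hPS α).mp hα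
    obtain ⟨β, hβ, hβeq⟩ := exists_extension_centralizer F hQsc hRec hSQ hQP hφα
    obtain ⟨hDS, hβS⟩ := F.le_of_mem hβ
    have hRD : Q ⊔ centralizerIn S Q ≤ P ⊔ centralizerIn S Q :=
      sup_le (hQP.trans le_sup_left) le_sup_right
    have hDN : P ⊔ centralizerIn S Q ≤ normalizerIn S (Q ⊔ centralizerIn S Q) :=
      fun x hx => ⟨hDS hx, hSR (hDS hx)⟩
    have hβN : ∀ x, β x ∈ normalizerIn S (Q ⊔ centralizerIn S Q) := fun x => ⟨hβS x, hSR (hβS x)⟩
    -- the restriction of `α` to `Q` is onto `Q`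
    have hαQ : ∀ q : ↥Q, ((α ⟨q, hQP q.2⟩ : ↥P) : Ω) ∈ Q := fun q =>
      hQsc.2 Q le_rfl _ (fs_restrict_mem F hQP hφα) q
    have hαsurj : ∀ y ∈ Q, ∃ q : ↥Q, ((α ⟨q, hQP q.2⟩ : ↥P) : Ω) = y := by
      intro y hy
      obtain ⟨q, hq⟩ := stronglyClosed_le_range F Q hQsc (fs_restrict_mem F hQP hφα) le_rfl hy
      exact ⟨q, hq⟩
    have hβR : ∀ x : ↥(P ⊔ centralizerIn S Q), (x : Ω) ∈ Q ⊔ centralizerIn S Q →
        β x ∈ Q ⊔ centralizerIn S Q := by
      have hle : (Q ⊔ centralizerIn S Q).subgroupOf (P ⊔ centralizerIn S Q) ≤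
          (Q ⊔ centralizerIn S Q).comap β := by
        rw [Subgroup.subgroupOf_sup (hQP.trans le_sup_left) le_sup_right]
        apply sup_le
        · intro x hx
          have hxQ : (x : Ω) ∈ Q := Subgroup.mem_subgroupOf.mp hx
          have h1 := hβeq ⟨x, hxQ⟩
          show β x ∈ Q ⊔ centralizerIn S Q
          have e : x = ⟨((⟨x, hxQ⟩ : ↥Q) : Ω), Subgroup.mem_sup_left (hQP hxQ)⟩ := Subtype.ext rfl
          rw [e, h1]
          exact Subgroup.mem_sup_left (hαQ ⟨x, hxQ⟩)
        · intro c hc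
          have hcC : (c : Ω) ∈ centralizerIn S Q := Subgroup.mem_subgroupOf.mp hc
          show β c ∈ Q ⊔ centralizerIn S Q
          apply Subgroup.mem_sup_right
          refine ⟨hβS c, ?_⟩
          show β c ∈ Subgroup.centralizer (Q : Set Ω)
          rw [Subgroup.mem_centralizer_iff]
          intro y hy
          obtain ⟨q, hq⟩ := hαsurj y hy
          have h1 := hβeq q
          have h1' : β ⟨q, Subgroup.mem_sup_left (hQP q.2)⟩ = y := by rw [h1]; exact hq
          rw [← h1', ← map_mul, ← map_mul]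
          congr 1
          apply Subtype.ext
          exact Subgroup.mem_centralizer_iff.mp hcC.2 q q.2
      intro x hx
      exact hle (Subgroup.mem_subgroupOf.mpr hx)
    have hβnorm : β ∈ F.normalizerHom (Q ⊔ centralizerIn S Q) (P ⊔ centralizerIn S Q) :=
      mem_normalizerHom_of_le F hRD hDN hβ hβN hβR
    have hβE : β ∈ E.Hom (P ⊔ centralizerIn S Q) := (hE _ β).mpr (h₂ _ β hβnorm)
    have hβPE := fs_restrict_mem E (le_sup_left : P ≤ P ⊔ centralizerIn S Q) hβE
    have hβPF := fs_restrict_mem F (le_sup_left : P ≤ P ⊔ centralizerIn S Q) hβ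
    obtain ⟨βi, hβi, hβinv⟩ := F.inv_mem hβPF
    have hβiP : ∀ y, βi y ∈ P := by
      rintro ⟨_, x, rfl⟩
      rw [hβinv x]
      exact x.2
    have hγ := F.comp_mem hβi hφα hβiP
    have hQr : Q ≤ (β.comp (Subgroup.inclusion (le_sup_left : P ≤ P ⊔ centralizerIn S Q))).range :=
      stronglyClosed_le_range F Q hQsc hβPF hQP
    have hfix : ∀ q : ↥Q, ((P.subtype.comp α.toMonoidHom).comp (βi.codRestrict P hβiP))
        ⟨q, hQr q.2⟩ = q := by
      intro q
      obtain ⟨q', hq'⟩ := hαsurj q q.2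
      have h1 := hβeq q'
      have h2 : (⟨(q : Ω), hQr q.2⟩ : ↥(β.comp (Subgroup.inclusion
          (le_sup_left : P ≤ P ⊔ centralizerIn S Q))).range) =
          ⟨(β.comp (Subgroup.inclusion (le_sup_left : P ≤ P ⊔ centralizerIn S Q))) ⟨q', hQP q'.2⟩,
            ⟨_, rfl⟩⟩ := by
        apply Subtype.ext
        show (q : Ω) = β ⟨q', _⟩
        rw [h1]
        exact hq'.symm
      have h3 := hβinv ⟨q', hQP q'.2⟩
      show ((α ⟨βi ⟨q, hQr q.2⟩, hβiP _⟩ : ↥P) : Ω) = q
      refine Eq.trans ?_ hq'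
      congr 2
      apply Subtype.ext
      rw [h2]
      exact h3
    have hγ₁ := mem_kNormHom_of_fix F hSQ hQr hγ hfix
    have hγE := (hE _ _).mpr (h₁ _ _ hγ₁)
    have hr : ∀ x : ↥P, (β.comp (Subgroup.inclusion (le_sup_left : P ≤ P ⊔ centralizerIn S Q))) x ∈
        (β.comp (Subgroup.inclusion (le_sup_left : P ≤ P ⊔ centralizerIn S Q))).range := fun x => ⟨x, rfl⟩
    have hcomp := E.comp_mem hβPE hγE hr
    have e : ((P.subtype.comp α.toMonoidHom).comp (βi.codRestrict P hβiP)).comp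
        ((β.comp (Subgroup.inclusion (le_sup_left : P ≤ P ⊔ centralizerIn S Q))).codRestrict _ hr) =
        P.subtype.comp α.toMonoidHom := by
      ext x
      show ((α ⟨βi ⟨_, hr x⟩, hβiP _⟩ : ↥P) : Ω) = ((α x : ↥P) : Ω)
      congr 2
      apply Subtype.ext
      exact hβinv x
    rw [e] at hcomp
    exact (mem_autGroup_iff E hPS α).mpr hcomp
  exact isNormal_of_forall_mem F hVS (fun A φ hφ => (hE A φ).mp (hFE A hφ))

end Cfsg.Agent.Lib.Helper7.ZJK
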