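import Mathlib
import Cfsg.Prelude.Def_FusionSystem
import Cfsg.Agent.Lib.Helper7.FocWc
import Cfsg.Agent.Lib.Helper7.CharBisetK
import Cfsg.Agent.Lib.Helper7.PStableFrc
import Cfsg.Agent.Lib.Helper7.MaxClassC
import Cfsg.Agent.Lib.Helper7.ZJKg
import Cfsg.Agent.Lib.Helper7.ZJKc
import Cfsg.Agent.Lib.Helper7.FusionNormal

/-!
# Control of transfer by a positive characteristic functor, part D: the part of the focal subgroup inside a
normal subgroup
-/

set_option autoImplicit false

namespace Cfsg.Agent.Lib.Helper7.FocW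

open Cfsg Cfsg.FusionSystem Cfsg.Agent.Lib.Helper7 Cfsg.Agent.Lib.Helper7.ModelUq
  Cfsg.Agent.Lib.Helper7.WCtl Cfsg.Agent.Lib.Helper7.GTF Cfsg.Agent.Lib.Helper7.ZJK
open scoped commutatorElement

universe u

variable {p : ℕ} [Fact p.Prime] (W : ∀ (Q : Type u) [Group Q], Subgroup Q)
  (hW2 : ∀ (Q R : Type u) [Group Q] [Group R] [Finite Q], IsPGroup p Q → ∀ φ : Q ≃* R,
    (W Q).map φ.toMonoidHom = W R)
  (hT : ∀ (G : Type u) [Group G] [Finite G] (P : Sylow p G),
    Subgroup.centralizer ((Cfsg.pCore p G : Subgroup G) : Set G) ≤ Cfsg.pCore p G →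
    Cfsg.pCore p G ⊓ commutator G = Cfsg.pCore p G ⊓
      (commutator ↥(Subgroup.normalizer
        (((W ↥(P : Subgroup G)).map (P : Subgroup G).subtype : Subgroup G) : Set G))).map
        (Subgroup.normalizer
          (((W ↥(P : Subgroup G)).map (P : Subgroup G).subtype : Subgroup G) : Set G)).subtype)

variable {Ω : Type u} [Group Ω] {S : Subgroup Ω}

include hW2 in
theorem le_normalizer_WT' [Finite S] (hS : IsPGroup p S) :
    S ≤ Subgroup.normalizer (WT W S : Set Ω) :=
  Subgroup.le_normalizer.trans (normalizer_le_normalizer_WT W hW2 S hS)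

include hW2 hT in
/-- the part of the focal subgroup of `F` inside a normal subgroup `Q` lies in the focal subgroup of
`N_F(W(S))` -/
theorem focal_inf_normal_le [Finite S] (hS : IsPGroup p S) (F : FusionSystem S) (hF : F.IsSaturated p)
    {Q : Subgroup Ω} (hQ : F.IsNormal Q) : F.focalSubgroup ⊓ Q ≤ focN F (WT W S) := by
  have hQS : Q ≤ S := hQ.1
  have hSQ : S ≤ Subgroup.normalizer (Q : Set Ω) := le_normalizer_of_isNormal F hQ
  have hfinQ : Finite ↥Q := finite_of_le hQS
  have hVS : WT W S ≤ S := WT_le W S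
  have hSV := le_normalizer_WT' W hW2 hS
  obtain ⟨hFA, hRec⟩ := MaxClass.isReceptive_of_normalizer p hS F hF hQS hSQ
  have hFC : F.IsFullyCentralized Q := isFullyCentralized_of_isReceptive F Q hRec
  have hRc : F.IsCentric (Q ⊔ centralizerIn S Q) := isCentric_sup_centralizerIn F hFC
  have hRS : Q ⊔ centralizerIn S Q ≤ S := hRc.1
  have hSR := le_normalizer_sup_centralizerIn hQS hSQ
  have hRn : F.IsFullyNormalized (Q ⊔ centralizerIn S Q) :=
    MaxClass.isFullyNormalized_of_normalizer F hRS hSR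
  have hTR : normalizerIn S (Q ⊔ centralizerIn S Q) = S := inf_eq_left.mpr hSR
  apply CharBiset.focal_inf_le_of_moves p hS F hF hQS (commutator_le_focN F hVS hSV)
  intro T θ hθ a haQ
  obtain ⟨ψ, hψ, hext, hmapQ⟩ := hQ.2 T θ hθ
  -- the automorphism of `Q` induced by `ψ`
  have hψQ : ψ.comp (Subgroup.inclusion (le_sup_right : Q ≤ T ⊔ Q)) ∈ F.Hom Q :=
    fs_restrict_mem F le_sup_right hψ
  have hr : (ψ.comp (Subgroup.inclusion (le_sup_right : Q ≤ T ⊔ Q))).range = Q := by
    rw [range_comp_inclusion]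
    exact hmapQ
  set β : MulAut Q := isoOfRange _ (F.injective_of_mem hψQ) hr with hβ
  have hβF : β ∈ F.autGroup Q := by
    rw [mem_autGroup_iff F hQS]
    convert hψQ using 1
    ext y
    rfl
  obtain ⟨γ, hγ, hγβ⟩ := liftProp_sup_centralizerIn F hRec β hβF
  have h1 := local_step W hW2 hT hS F hF hRn hRc γ hγ
    (Subgroup.inclusion le_sup_left (⟨a, haQ⟩ : Q))
  rw [WT_congr W hTR] at h1
  have h2 := hγβ ⟨a, haQ⟩
  rw [h2] at h1
  have h3 : ((β ⟨a, haQ⟩ : Q) : Ω) = θ a := by
    show ψ (Subgroup.inclusion le_sup_right ⟨a, haQ⟩) = θ a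
    rw [← hext a]
    congr 1
  rw [h3] at h1
  exact h1

end Cfsg.Agent.Lib.Helper7.FocW
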