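import Mathlib
import Cfsg.Prelude.Def_FusionSystem
import Cfsg.Prelude.Def_ConjugacyFunctors
import Cfsg.Agent.Lib.Helper7.FocProperA
import Cfsg.Agent.Lib.Helper7.FocWd

/-!
# From control of weak closure of elements in groups to the local centre condition for a functor
-/

set_option autoImplicit false
set_option linter.unusedSectionVars false

namespace Cfsg.Agent.Lib.Helper7.CenterSplit

open Cfsg Cfsg.Agent.Lib.Helper7 Cfsg.Agent.Lib.Helper7.WCtl Cfsg.Agent.Lib.Helper7.FocProper
  Cfsg.Agent.Lib.Helper7.FocW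
open scoped commutatorElement

universe u

theorem mem_map_center_subtype {G : Type*} [Group G] (N : Subgroup G) (y : G) :
    y ∈ (Subgroup.center ↥N).map N.subtype ↔ y ∈ N ∧ ∀ m ∈ N, m * y = y * m := by
  constructor
  · rintro ⟨n, hn, rfl⟩
    refine ⟨n.2, fun m hm => ?_⟩
    have := Subgroup.mem_center_iff.mp hn ⟨m, hm⟩
    exact congrArg Subtype.val this
  · rintro ⟨hy, h⟩
    refine ⟨⟨y, hy⟩, ?_, rfl⟩
    rw [SetLike.mem_coe, Subgroup.mem_center_iff]
    intro m
    exact Subtype.ext (h m m.2)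

variable {p : ℕ} [Fact p.Prime] (W : ∀ (Q : Type u) [Group Q], Subgroup Q)
  (hW2 : ∀ (Q R : Type u) [Group Q] [Group R] [Finite Q], IsPGroup p Q → ∀ φ : Q ≃* R,
    (W Q).map φ.toMonoidHom = W R)

include hW2 in
/-- a functor controlling weak closure of elements in every finite group satisfies the local centre
condition -/
theorem center_condition_of_controlsWeakClosure
    (hctl : ∀ (G : Type u) [Group G] [Finite G],
      Cfsg.ControlsWeakClosureOfElementsIn p (Cfsg.inducedFunctor (G := G) W) ⊤)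
    (G : Type u) [Group G] [Finite G] (P : Sylow p G) :
    Cfsg.pCore p G ⊓ Subgroup.center G = Cfsg.pCore p G ⊓
      (Subgroup.center ↥(Subgroup.normalizer
        (((W ↥(P : Subgroup G)).map (P : Subgroup G).subtype : Subgroup G) : Set G))).map
        (Subgroup.normalizer
          (((W ↥(P : Subgroup G)).map (P : Subgroup G).subtype : Subgroup G) : Set G)).subtype := by
  obtain ⟨-, T, -, hTp, hTidx, hwc⟩ := hctl G
  rw [Subgroup.relIndex_top_right] at hTidx
  have hP₀ : ((hTp.toSylow hTidx : Sylow p G) : Subgroup G) = T := IsPGroup.toSylow_coe hTp hTidx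
  obtain ⟨g, hg⟩ := MulAction.exists_smul_eq G (hTp.toSylow hTidx) P
  have hPT : (P : Subgroup G) = T.map (MulAut.conj g).toMonoidHom := by
    rw [← hg, Sylow.coe_subgroup_smul, hP₀, Subgroup.pointwise_smul_def]
    rfl
  have hOT : Cfsg.pCore p G ≤ T := hP₀ ▸ pCore_le_sylow (hTp.toSylow hTidx)
  have hOP : Cfsg.pCore p G ≤ (P : Subgroup G) := pCore_le_sylow P
  have hOn : (Cfsg.pCore p G).Normal := pCore_normal p G
  have hfinT : Finite ↥T := inferInstance
  have hWP : ((W ↥(P : Subgroup G)).map (P : Subgroup G).subtype : Subgroup G) =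
      (WT W T).map (MulAut.conj g).toMonoidHom := by
    rw [← WT_map_conj W hW2 T hTp g, ← hPT]
    rfl
  have hPN : (P : Subgroup G) ≤ Subgroup.normalizer
      (((W ↥(P : Subgroup G)).map (P : Subgroup G).subtype : Subgroup G) : Set G) :=
    le_normalizer_WT' W hW2 P.2
  rw [hWP] at hPN ⊢
  have hN : Subgroup.normalizer ((((WT W T).map (MulAut.conj g).toMonoidHom : Subgroup G)) : Set G) =
      (Subgroup.normalizer ((WT W T : Subgroup G) : Set G)).map (MulAut.conj g).toMonoidHom :=
    (Subgroup.map_equiv_normalizer_eq (WT W T) (MulAut.conj g)).symm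
  ext x
  rw [Subgroup.mem_inf, Subgroup.mem_inf, mem_map_center_subtype]
  constructor
  · rintro ⟨hxO, hxZ⟩
    refine ⟨hxO, hPN (hOP hxO), fun m _ => ?_⟩
    exact Subgroup.mem_center_iff.mp hxZ m
  · rintro ⟨hxO, -, hxc⟩
    refine ⟨hxO, ?_⟩
    -- `x' = g⁻¹ x g`
    have hx'O : g⁻¹ * x * g ∈ Cfsg.pCore p G := by
      have := hOn.conj_mem x hxO g⁻¹
      simpa using this
    have hx'c : g⁻¹ * x * g ∈ Subgroup.centralizer
        (((⊤ : Subgroup G) ⊓ Subgroup.normalizer ((Cfsg.inducedFunctor W T : Subgroup G) : Set G) :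
          Subgroup G) : Set G) := by
      rw [Subgroup.mem_centralizer_iff]
      intro m hm
      have hm' : m ∈ Subgroup.normalizer ((WT W T : Subgroup G) : Set G) := hm.2
      have h1 : g * m * g⁻¹ ∈ Subgroup.normalizer
          ((((WT W T).map (MulAut.conj g).toMonoidHom : Subgroup G)) : Set G) := by
        rw [hN]
        exact ⟨m, hm', rfl⟩
      have h2 := hxc _ h1
      calc m * (g⁻¹ * x * g) = g⁻¹ * ((g * m * g⁻¹) * x) * g := by group
        _ = g⁻¹ * (x * (g * m * g⁻¹)) * g := by rw [h2]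
        _ = g⁻¹ * x * g * m := by group
    have hweak := hwc (g⁻¹ * x * g) ⟨hOT hx'O, hx'c⟩
    have hx'Z : ∀ h : G, h * (g⁻¹ * x * g) * h⁻¹ = g⁻¹ * x * g := by
      intro h
      exact hweak h (Subgroup.mem_top h) (hOT (hOn.conj_mem _ hx'O h))
    have hxx' : g⁻¹ * x * g = x := by
      have := hx'Z g
      rw [← this]
      group
    rw [Subgroup.mem_center_iff]
    intro h
    have := hx'Z h
    rw [hxx'] at this
    calc h * x = (h * x * h⁻¹) * h := by group
      _ = x * h := by rw [this]

end Cfsg.Agent.Lib.Helper7.CenterSplit
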