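import Mathlib
import Cfsg.Prelude.Def_FusionSystem
import Cfsg.Prelude.Def_FusionComponents
import Cfsg.Prelude.Def_ConjugacyFunctors
import Cfsg.Agent.Lib.Helper7.CenterSplitA
import Cfsg.Agent.Lib.Helper7.WCtlE
import Cfsg.Agent.Lib.Helper7.ModelExI
import Cfsg.Agent.Lib.Helper7.ModelUqC
import Cfsg.Agent.Lib.Helper7.NormalizerConstrained
import Cfsg.Agent.Lib.Helper7.FactorSystem
import Cfsg.Agent.Lib.Helper7.FusionCentral
import Cfsg.Agent.Lib.Helper7.MaxClassC
import Cfsg.Agent.H1.ZJFactor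

/-!
# The centre of a saturated fusion system is a direct factor of `Z(S)`, given a suitable functor
-/

set_option autoImplicit false
set_option linter.unusedSectionVars false

namespace Cfsg.Agent.Lib.Helper7.CenterSplit

open Cfsg Cfsg.FusionSystem Cfsg.Agent.Lib.Helper7 Cfsg.Agent.Lib.Helper7.ModelUq
  Cfsg.Agent.Lib.Helper7.WCtl Cfsg.Agent.Lib.Helper7.FocW
open scoped commutatorElement

universe u

theorem mem_sup_of_commute {G : Type*} [Group G] {H K : Subgroup G}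
    (hc : ∀ h ∈ H, ∀ k ∈ K, h * k = k * h) {x : G} (hx : x ∈ H ⊔ K) :
    ∃ h ∈ H, ∃ k ∈ K, h * k = x := by
  rw [Subgroup.sup_eq_closure] at hx
  induction hx using Subgroup.closure_induction with
  | mem y hy =>
    rcases hy with hy | hy
    · exact ⟨y, hy, 1, K.one_mem, mul_one y⟩
    · exact ⟨1, H.one_mem, y, hy, one_mul y⟩
  | one => exact ⟨1, H.one_mem, 1, K.one_mem, mul_one 1⟩
  | mul a b _ _ iha ihb =>
    obtain ⟨h1, hh1, k1, hk1, rfl⟩ := iha
    obtain ⟨h2, hh2, k2, hk2, rfl⟩ := ihb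
    refine ⟨h1 * h2, H.mul_mem hh1 hh2, k1 * k2, K.mul_mem hk1 hk2, ?_⟩
    have := hc h2 hh2 k1 hk1
    calc h1 * h2 * (k1 * k2) = h1 * (h2 * k1) * k2 := by group
      _ = h1 * (k1 * h2) * k2 := by rw [this]
      _ = h1 * k1 * (h2 * k2) := by group
  | inv a _ ih =>
    obtain ⟨h, hh, k, hk, rfl⟩ := ih
    refine ⟨h⁻¹, H.inv_mem hh, k⁻¹, K.inv_mem hk, ?_⟩
    have := hc h hh k hk
    rw [mul_inv_rev]
    have h2 : k⁻¹ * h⁻¹ = (h * k)⁻¹ := by rw [mul_inv_rev]
    have h3 : h⁻¹ * k⁻¹ = (k * h)⁻¹ := by rw [mul_inv_rev]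
    rw [h3, ← this, mul_inv_rev]

variable {p : ℕ} [Fact p.Prime] (W : ∀ (Q : Type u) [Group Q], Subgroup Q)
  (hW2 : ∀ (Q R : Type u) [Group Q] [Group R] [Finite Q], IsPGroup p Q → ∀ φ : Q ≃* R,
    (W Q).map φ.toMonoidHom = W R)
  (hWZ : ∀ (Q : Type u) [Group Q] [Finite Q], IsPGroup p Q → Subgroup.center Q ≤ W Q)
  (hWC : ∀ (Q : Type u) [Group Q] [Finite Q], IsPGroup p Q →
    Subgroup.centralizer ((W Q : Subgroup Q) : Set Q) ≤ W Q)
  (hC : ∀ (G : Type u) [Group G] [Finite G] (P : Sylow p G),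
    Cfsg.pCore p G ⊓ Subgroup.center G = Cfsg.pCore p G ⊓
      (Subgroup.center ↥(Subgroup.normalizer
        (((W ↥(P : Subgroup G)).map (P : Subgroup G).subtype : Subgroup G) : Set G))).map
        (Subgroup.normalizer
          (((W ↥(P : Subgroup G)).map (P : Subgroup G).subtype : Subgroup G) : Set G)).subtype)
  (hsplit : ∀ (G : Type u) [Group G] [Finite G] (R : Sylow p G),
    ((R : Subgroup G) ⊓ Subgroup.centralizer ((R : Subgroup G) : Set G)) ≤ Cfsg.pPrimePCore p G →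
    ∃ W₀ K₀ : Subgroup G, (∀ x : G, x ∈ W₀ ↔ (x ∈ (R : Subgroup G) ∧
        ∀ g : G, g * x * g⁻¹ ∈ (R : Subgroup G) → g * x * g⁻¹ = x)) ∧
      K₀ ≤ ((R : Subgroup G) ⊓ Subgroup.centralizer ((R : Subgroup G) : Set G)) ∧ W₀ ⊓ K₀ = ⊥ ∧
      W₀ ⊔ K₀ = ((R : Subgroup G) ⊓ Subgroup.centralizer ((R : Subgroup G) : Set G)))

variable {Ω : Type u} [Group Ω] {S : Subgroup Ω}

include hW2 hWZ hWC hC hsplit in
theorem center_direct_factor [Finite S] (hS : IsPGroup p S) (F : FusionSystem S)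
    (hF : F.IsSaturated p) :
    ∃ K : Subgroup Ω, K ≤ (S ⊓ Subgroup.centralizer (S : Set Ω)) ∧ F.center ⊓ K = ⊥ ∧
      F.center ⊔ K = (S ⊓ Subgroup.centralizer (S : Set Ω)) := by
  obtain ⟨V, hVdef⟩ : ∃ V : Subgroup Ω, V = WT W S := ⟨_, rfl⟩
  have hVS : V ≤ S := hVdef ▸ WT_le W S
  have hSV : S ≤ Subgroup.normalizer (V : Set Ω) := hVdef ▸ le_normalizer_WT' W hW2 hS
  obtain ⟨N, hN⟩ := exists_normalizerSystem F V hVS
  have hNeq : N.center = F.center := by
    subst hVdef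
    exact center_normalizerSystem_eq W hW2 hWZ hC hS F hF N hN
  obtain ⟨T, hTdef⟩ : ∃ T : Subgroup Ω, T = normalizerIn S V := ⟨_, rfl⟩
  have hTS : normalizerIn S V ≤ S := inf_le_left
  have hST : S ≤ normalizerIn S V := le_inf le_rfl hSV
  have hTeq : normalizerIn S V = S := le_antisymm hTS hST
  have hfinT : Finite ↥(normalizerIn S V) := finite_of_le hTS
  have hTp : IsPGroup p ↥(normalizerIn S V) := hS.to_le hTS
  have hVfn : F.IsFullyNormalized V := MaxClass.isFullyNormalized_of_normalizer F hVS hSV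
  have hNsat := normalizerSystem_isSaturated p hS F hF V hVfn N hN
  have hVn : N.IsNormal V := isNormal_normalizerSystem F hVS N hN
  have hVsc := stronglyClosed_of_isNormal N hVn
  have hVT : V ≤ normalizerIn S V := hVn.1
  -- membership in `V`
  have hmemV : ∀ (x : Ω) (hx : x ∈ S), (⟨x, hx⟩ : ↥S) ∈ W ↥S → x ∈ V := by
    intro x hx h
    rw [hVdef]
    exact ⟨⟨x, hx⟩, h, rfl⟩
  have hcenV : centralizerIn (normalizerIn S V) V ≤ V := by
    intro x hx
    have hxS : x ∈ S := hTS hx.1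
    apply hmemV x hxS
    apply hWC ↥S hS
    rw [Subgroup.mem_centralizer_iff]
    intro w hw
    apply Subtype.ext
    have hwV : (w : Ω) ∈ V := by rw [hVdef]; exact ⟨w, hw, rfl⟩
    exact Subgroup.mem_centralizer_iff.mp hx.2 w hwV
  have hZV : S ⊓ Subgroup.centralizer (S : Set Ω) ≤ V := by
    intro x hx
    apply hmemV x hx.1
    apply hWZ ↥S hS
    rw [Subgroup.mem_center_iff]
    intro s
    apply Subtype.ext
    exact Subgroup.mem_centralizer_iff.mp hx.2 s s.2
  have hVc : N.IsCentric V := by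
    refine ⟨hVT, fun Q' hQ' => ?_⟩
    obtain ⟨φ, hφ, hr⟩ := hQ'
    have hQ'eq : Q' = V := by
      rw [← hr]
      apply le_antisymm
      · rintro _ ⟨x, rfl⟩
        exact hVsc.2 V le_rfl φ hφ x
      · exact stronglyClosed_le_range N V hVsc hφ le_rfl
    rw [hQ'eq]
    exact hcenV
  have hNc : N.IsConstrained p := ⟨hNsat, V, hVn, hVc⟩
  obtain ⟨G, instG, ι, hM⟩ := ModelEx.exists_model p hTp N hNc
  have hVnorm : (imQ ι V).Normal := imQ_normal p N ι hM hVn
  have hVpg : IsPGroup p ↥(imQ ι V) := imQ_isPGroup p hTp ι V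
  obtain ⟨hfinG, ⟨hinj, hreal⟩, ⟨R, hR⟩, -⟩ := hM
  have hVle : imQ ι V ≤ pPrimePCore p G := (le_pCore hVnorm hVpg).trans Cfsg.Agent.H1.pCore_le_pPrimePCore
  have hιR : ∀ t : ↥(normalizerIn S V), ι t ∈ (R : Subgroup G) := fun t => hR ▸ ⟨t, rfl⟩
  -- the centre of `R`
  have hZR : ∀ t : ↥(normalizerIn S V),
      ι t ∈ (R : Subgroup G) ⊓ Subgroup.centralizer ((R : Subgroup G) : Set G) ↔
        (t : Ω) ∈ S ⊓ Subgroup.centralizer (S : Set Ω) := by
    intro t
    constructor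
    · intro ht
      refine ⟨hTS t.2, Subgroup.mem_centralizer_iff.mpr ?_⟩
      intro s hs
      have h1 := Subgroup.mem_centralizer_iff.mp ht.2 (ι ⟨s, hST hs⟩) (hιR _)
      rw [← map_mul, ← map_mul] at h1
      exact congrArg (fun u : ↥(normalizerIn S V) => (u : Ω)) (hinj h1)
    · intro ht
      refine ⟨hιR t, Subgroup.mem_centralizer_iff.mpr ?_⟩
      intro y hy
      rw [SetLike.mem_coe, hR] at hy
      obtain ⟨u, rfl⟩ := hy
      rw [← map_mul, ← map_mul]
      congr 1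
      apply Subtype.ext
      exact Subgroup.mem_centralizer_iff.mp ht.2 u (hTS u.2)
  have hZRle : ((R : Subgroup G) ⊓ Subgroup.centralizer ((R : Subgroup G) : Set G)) ≤
      Cfsg.pPrimePCore p G := by
    intro y hy
    have hy' : y ∈ ι.range := hR ▸ hy.1
    obtain ⟨t, rfl⟩ := hy'
    apply hVle
    have h1 := hZV ((hZR t).mp hy)
    exact (mem_imQ_iff ι hVT _).mpr ⟨⟨t, h1⟩, rfl⟩
  obtain ⟨W₀, K₀, hW₀, hK₀Z, hdisj, hsup⟩ := hsplit G R hZRle
  -- the centre of `N` corresponds to `W₀`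
  have hcenter_iff : ∀ t : ↥(normalizerIn S V), (t : Ω) ∈ N.center ↔ ι t ∈ W₀ := by
    intro t
    constructor
    · intro ht
      rw [hW₀]
      refine ⟨hιR t, fun g hg => ?_⟩
      have hle : Subgroup.zpowers (t : Ω) ≤ normalizerIn S V := Subgroup.zpowers_le.mpr t.2
      have hD : ∀ x : ↥(Subgroup.zpowers (t : Ω)), g * ι ⟨x, hle x.2⟩ * g⁻¹ ∈ ι.range := by
        intro x
        obtain ⟨k, hk⟩ := Subgroup.mem_zpowers_iff.mp x.2
        have e : (⟨x, hle x.2⟩ : ↥(normalizerIn S V)) = t ^ k := by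
          apply Subtype.ext
          rw [Subgroup.coe_zpow]
          exact hk.symm
        rw [e, map_zpow, ← hR]
        have e2 : g * ι t ^ k * g⁻¹ = (g * ι t * g⁻¹) ^ k := by
          rw [conj_zpow]
        rw [e2]
        exact Subgroup.zpow_mem _ hg k
      obtain ⟨φ, hφT, hφe⟩ := exists_hom_of_conj ι hinj hle g hD
      have hφmem : φ ∈ N.Hom (Subgroup.zpowers (t : Ω)) := (hreal _ hle φ hφT).mpr ⟨g, hφe⟩
      have hfix := central_fix N (isCentral_center N) ht hφmem (Subgroup.mem_zpowers (t : Ω))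
      have h1 := hφe ⟨t, Subgroup.mem_zpowers (t : Ω)⟩
      rw [← h1]
      congr 1
      exact Subtype.ext hfix
    · intro ht
      -- the subgroup of elements mapping into `W₀` is central
      have hcen : N.IsCentral ((W₀.comap ι).map (normalizerIn S V).subtype) := by
        rw [isCentral_iff_conj_singletons p hTp N hNsat]
        refine ⟨Subgroup.map_subtype_le _, ?_⟩
        rintro x ⟨u, hu, rfl⟩ y ⟨φ, hφ, rfl⟩
        have hle : Subgroup.zpowers ((normalizerIn S V).subtype u) ≤ normalizerIn S V :=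
          Subgroup.zpowers_le.mpr u.2
        obtain ⟨g, hg⟩ := (hreal _ hle φ (N.le_of_mem hφ).2).mp hφ
        have h1 := hg ⟨u, Subgroup.mem_zpowers _⟩
        have hu' : ι u ∈ W₀ := hu
        have e : (⟨((⟨u, Subgroup.mem_zpowers _⟩ : ↥(Subgroup.zpowers ((normalizerIn S V).subtype u))) : Ω),
            hle (Subgroup.mem_zpowers _)⟩ : ↥(normalizerIn S V)) = u := Subtype.ext rfl
        rw [e] at h1
        have h2 := ((hW₀ _).mp hu').2 g (by rw [← h1]; exact hιR _)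
        rw [h2] at h1
        exact congrArg (fun w : ↥(normalizerIn S V) => (w : Ω)) (hinj h1)
      have hle : (W₀.comap ι).map (normalizerIn S V).subtype ≤ N.center := le_sSup hcen
      exact hle ⟨t, ht, rfl⟩
  -- the complement
  refine ⟨(K₀.comap ι).map (normalizerIn S V).subtype, ?_, ?_, ?_⟩
  · rintro _ ⟨t, ht, rfl⟩
    exact (hZR t).mp (hK₀Z ht)
  · rw [eq_bot_iff]
    rintro x ⟨hxZ, ⟨t, ht, rfl⟩⟩
    rw [← hNeq] at hxZ
    have h1 : ι t ∈ W₀ ⊓ K₀ := ⟨(hcenter_iff t).mp hxZ, ht⟩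
    rw [hdisj, Subgroup.mem_bot] at h1
    have h2 : t = 1 := hinj (h1.trans (map_one ι).symm)
    rw [h2]
    exact Subgroup.one_mem _
  · apply le_antisymm
    · apply sup_le
      · intro x hx
        exact ⟨(isCentral_center F).1 hx, center_le_centralizer F hx⟩
      · rintro _ ⟨t, ht, rfl⟩
        exact (hZR t).mp (hK₀Z ht)
    · intro x hx
      have hxT : x ∈ normalizerIn S V := hST hx.1
      have h1 : ι ⟨x, hxT⟩ ∈ W₀ ⊔ K₀ := by
        rw [hsup]
        exact (hZR ⟨x, hxT⟩).mpr hx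
      have hcomm : ∀ h ∈ W₀, ∀ k ∈ K₀, h * k = k * h := by
        intro h hh k hk
        exact (Subgroup.mem_centralizer_iff.mp (hK₀Z hk).2 h ((hW₀ h).mp hh).1)
      obtain ⟨w, hw, k, hk, hwk⟩ := mem_sup_of_commute hcomm h1
      have hwR : w ∈ ι.range := by rw [← hR]; exact ((hW₀ w).mp hw).1
      have hkR : k ∈ ι.range := by rw [← hR]; exact (hK₀Z hk).1
      obtain ⟨a, rfl⟩ := hwR
      obtain ⟨b, rfl⟩ := hkR
      have h2 : a * b = ⟨x, hxT⟩ := hinj (by rw [map_mul]; exact hwk)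
      have h3 : x = (a : Ω) * (b : Ω) := by
        have := congrArg (fun u : ↥(normalizerIn S V) => (u : Ω)) h2
        exact this.symm
      rw [h3]
      apply Subgroup.mul_mem
      · apply Subgroup.mem_sup_left
        rw [← hNeq]
        exact (hcenter_iff a).mpr hw
      · apply Subgroup.mem_sup_right
        exact ⟨b, hk, rfl⟩

end Cfsg.Agent.Lib.Helper7.CenterSplit
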