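import Mathlib
import Cfsg.Prelude.Def_BaumannBlocks
import Cfsg.Prelude.Def_PLocal
import Cfsg.Agent.Lib.Helper7.CentrallyLarge2
import Cfsg.Agent.H1.Card

set_option autoImplicit false

namespace Cfsg.Agent.Lib.Helper7

open Cfsg
open scoped Pointwise commutatorElement

variable {X : Type*} [Group X]

/-- `[BZ, BZ] = [B, B]` when `Z` centralizes `B ⊔ Z`. -/
theorem commutator_sup_central (B Z : Subgroup X)
    (hZ : Z ≤ Subgroup.centralizer ((B ⊔ Z : Subgroup X) : Set X)) :
    ⁅B ⊔ Z, B ⊔ Z⁆ = ⁅B, B⁆ := by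
  apply le_antisymm _ (Subgroup.commutator_mono le_sup_left le_sup_left)
  have hBN : B ≤ Subgroup.normalizer (Z : Set X) := by
    have h1 : B ⊔ Z ≤ Subgroup.centralizer (Z : Set X) := Subgroup.le_centralizer_iff.mp hZ
    exact (le_sup_left.trans h1).trans (Subgroup.centralizer_le_normalizer _)
  have hset := Subgroup.coe_mul_of_left_le_normalizer_right B Z hBN
  rw [Subgroup.commutator_le]
  intro x hx y hy
  have hx' : x ∈ ((B ⊔ Z : Subgroup X) : Set X) := hx
  have hy' : y ∈ ((B ⊔ Z : Subgroup X) : Set X) := hy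
  rw [hset] at hx' hy'
  obtain ⟨b, hb, z, hz, rfl⟩ := hx'
  obtain ⟨b', hb', z', hz', rfl⟩ := hy'
  have hzc : ∀ q ∈ B ⊔ Z, q * z = z * q := fun q hq => Subgroup.mem_centralizer_iff.mp (hZ hz) q hq
  have hz'c : ∀ q ∈ B ⊔ Z, q * z' = z' * q := fun q hq => Subgroup.mem_centralizer_iff.mp (hZ hz') q hq
  have hbQ : b ∈ B ⊔ Z := Subgroup.mem_sup_left hb
  have hb'Q : b' ∈ B ⊔ Z := Subgroup.mem_sup_left hb'
  have hzQ : z ∈ B ⊔ Z := Subgroup.mem_sup_right hz
  have hz'Q : z' ∈ B ⊔ Z := Subgroup.mem_sup_right hz'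
  have e : ⁅b * z, b' * z'⁆ = ⁅b, b'⁆ := by
    rw [commutatorElement_def, commutatorElement_def]
    have h1 : (b' * z') * z = z * (b' * z') := hzc _ (Subgroup.mul_mem _ hb'Q hz'Q)
    have h2 : b⁻¹ * z' = z' * b⁻¹ := hz'c _ (Subgroup.inv_mem _ hbQ)
    calc b * z * (b' * z') * (b * z)⁻¹ * (b' * z')⁻¹
        = b * (z * (b' * z')) * z⁻¹ * b⁻¹ * z'⁻¹ * b'⁻¹ := by group
      _ = b * ((b' * z') * z) * z⁻¹ * b⁻¹ * z'⁻¹ * b'⁻¹ := by rw [h1]
      _ = b * b' * (z' * b⁻¹) * z'⁻¹ * b'⁻¹ := by group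
      _ = b * b' * (b⁻¹ * z') * z'⁻¹ * b'⁻¹ := by rw [h2]
      _ = b * b' * b⁻¹ * b'⁻¹ := by group
  rw [e]
  exact Subgroup.commutator_mem_commutator hb hb'

variable [Finite X]

theorem isMinimalCentrallyLarge_decomp {Q R : Subgroup X} (hQ : IsMinimalCentrallyLarge Q)
    (hR : IsCentrallyLarge R) :
    (Q ⊓ R) ⊔ (Q ⊓ Subgroup.centralizer (Q : Set X)) = Q := by
  have hQ' := (isCentrallyLarge_iff Q).mp hQ.1
  have hR' := (isCentrallyLarge_iff R).mp hR
  set B := Q ⊓ R with hB
  set Z := Q ⊓ Subgroup.centralizer (Q : Set X) with hZ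
  have hCQ : Subgroup.centralizer (Q : Set X) = Z := (inf_eq_right.mpr hQ'.2).symm
  obtain ⟨-, -, hBcz, hCQcz, hQdual, hCset, hCB⟩ := chermak_delgado_lattice Q R hQ'.1 hR'.1
  rw [hCQ] at hCQcz hQdual
  -- T₁ = B ⊔ Z is centralizer-large
  have hT₁ : IsCentralizerLarge (B ⊔ Z) := (chermak_delgado_lattice _ _ hBcz hCQcz).2.1
  have hT₁le : B ⊔ Z ≤ Q := sup_le inf_le_left inf_le_left
  have hCT₁ : Subgroup.centralizer ((B ⊔ Z : Subgroup X) : Set X) ≤ B ⊔ Z := by
    rw [centralizer_sup_eq, ← hQdual, hCB]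
    intro x hx
    obtain ⟨hx1, hxQ⟩ := Subgroup.mem_inf.mp hx
    have hx1' : x ∈ ((Subgroup.centralizer (Q : Set X) ⊔ Subgroup.centralizer (R : Set X) :
        Subgroup X) : Set X) := hx1
    rw [hCset] at hx1'
    obtain ⟨z, hz, r, hr, rfl⟩ := hx1'
    have hzZ : z ∈ Z := by rw [← hCQ]; exact hz
    have hrR : r ∈ R := hR'.2 hr
    have hrQ : r ∈ Q := by
      have : r = z⁻¹ * (z * r) := by group
      rw [this]
      exact Subgroup.mul_mem _ (Subgroup.inv_mem _ (inf_le_left (a := Q) hzZ)) hxQ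
    exact Subgroup.mul_mem _ (Subgroup.mem_sup_right hzZ)
      (Subgroup.mem_sup_left (Subgroup.mem_inf.mpr ⟨hrQ, hrR⟩))
  have hT₁CL : IsCentrallyLarge (B ⊔ Z) := (isCentrallyLarge_iff _).mpr ⟨hT₁, hCT₁⟩
  exact hQ.2 _ hT₁le hT₁CL

theorem minimalCentrallyLarge_card {Q R : Subgroup X} (hQ : IsMinimalCentrallyLarge Q)
    (hR : IsMinimalCentrallyLarge R) :
    Nat.card ↥Q = Nat.card ↥R ∧
      Nat.card ↥(Q ⊓ Subgroup.centralizer (Q : Set X)) =
        Nat.card ↥(R ⊓ Subgroup.centralizer (R : Set X)) := by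
  have hQ' := (isCentrallyLarge_iff Q).mp hQ.1
  have hR' := (isCentrallyLarge_iff R).mp hR.1
  have hQd := isMinimalCentrallyLarge_decomp hQ hR.1
  have hRd := isMinimalCentrallyLarge_decomp hR hQ.1
  rw [inf_comm R Q] at hRd
  set B := Q ⊓ R with hB
  set Zq := Q ⊓ Subgroup.centralizer (Q : Set X) with hZq
  set Zr := R ⊓ Subgroup.centralizer (R : Set X) with hZr
  have hCQ : Subgroup.centralizer (Q : Set X) = Zq := (inf_eq_right.mpr hQ'.2).symm
  have hCR : Subgroup.centralizer (R : Set X) = Zr := (inf_eq_right.mpr hR'.2).symm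
  obtain ⟨-, -, hBcz, hCQcz, -, -, hCB⟩ := chermak_delgado_lattice Q R hQ'.1 hR'.1
  have hCRcz : IsCentralizerLarge (Subgroup.centralizer (R : Set X)) :=
    (chermak_delgado_lattice R Q hR'.1 hQ'.1).2.2.2.1
  -- normalizing conditions
  have hBNq : B ≤ Subgroup.normalizer (Zq : Set X) := by
    have h1 : Zq ≤ Subgroup.centralizer (Q : Set X) := inf_le_right
    have h2 : Q ≤ Subgroup.centralizer (Zq : Set X) := Subgroup.le_centralizer_iff.mp h1
    exact (inf_le_left.trans h2).trans (Subgroup.centralizer_le_normalizer _)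
  have hBNr : B ≤ Subgroup.normalizer (Zr : Set X) := by
    have h1 : Zr ≤ Subgroup.centralizer (R : Set X) := inf_le_right
    have h2 : R ≤ Subgroup.centralizer (Zr : Set X) := Subgroup.le_centralizer_iff.mp h1
    exact (inf_le_right.trans h2).trans (Subgroup.centralizer_le_normalizer _)
  have hA := Cfsg.Agent.H1.card_sup_mul_card_inf B Zq hBNq
  have hA' := Cfsg.Agent.H1.card_sup_mul_card_inf B Zr hBNr
  rw [hQd] at hA
  rw [hRd] at hA'
  -- (B): |C(B)| * i = z * r
  have hBeq : Nat.card ↥(Subgroup.centralizer (B : Set X)) * Nat.card ↥(Zq ⊓ Zr) =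
      Nat.card ↥Zq * Nat.card ↥Zr := by
    have h1 := (cdm_sup_of_max cdm_le_maxCentralizerProduct hCQcz hCRcz).2
    have h2 := card_mul_card_le_card_sup_mul_card_inf (Subgroup.centralizer (Q : Set X))
      (Subgroup.centralizer (R : Set X))
    have h3 := le_antisymm h1 h2
    rw [← hCB, hCQ, hCR] at h3
    exact h3
  -- (C)
  have hfQ : cdm Q = maxCentralizerProduct X := hQ'.1
  have hfR : cdm R = maxCentralizerProduct X := hR'.1
  have hfB : cdm B = maxCentralizerProduct X := hBcz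
  have hcQ : cdm Q = Nat.card ↥Q * Nat.card ↥Zq := by unfold cdm; rw [hCQ]
  have hcR : cdm R = Nat.card ↥R * Nat.card ↥Zr := by unfold cdm; rw [hCR]
  have hcB : cdm B = Nat.card ↥B * Nat.card ↥(Subgroup.centralizer (B : Set X)) := rfl
  set f := maxCentralizerProduct X with hf
  set q := Nat.card ↥Q with hq
  set r' := Nat.card ↥R with hr'
  set z := Nat.card ↥Zq with hz
  set r := Nat.card ↥Zr with hr
  set b := Nat.card ↥B with hb
  set i := Nat.card ↥(Zq ⊓ Zr) with hi
  set u := Nat.card ↥(B ⊓ Zq) with hu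
  set v := Nat.card ↥(B ⊓ Zr) with hv
  set c := Nat.card ↥(Subgroup.centralizer (B : Set X)) with hc
  have hfpos : 0 < f := by rw [← hfQ]; exact cdm_pos Q
  have hzpos : 0 < z := Nat.card_pos
  have hrpos : 0 < r := Nat.card_pos
  have hipos : 0 < i := Nat.card_pos
  have hvpos : 0 < v := Nat.card_pos
  have e1 : q * z = f := by rw [← hcQ, hfQ]
  have e2 : r' * r = f := by rw [← hcR, hfR]
  have e3 : b * c = f := by rw [← hcB, hfB]
  have hur : u * r = i * z := by
    have : f * (u * r) = f * (i * z) := by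
      calc f * (u * r) = (q * z) * (u * r) := by rw [e1]
        _ = (q * u) * z * r := by ring
        _ = (b * z) * z * r := by rw [hA]
        _ = b * (z * r) * z := by ring
        _ = b * (c * i) * z := by rw [hBeq]
        _ = (b * c) * (i * z) := by ring
        _ = f * (i * z) := by rw [e3]
    exact Nat.eq_of_mul_eq_mul_left hfpos this
  have hvz : v * z = i * r := by
    have : f * (v * z) = f * (i * r) := by
      calc f * (v * z) = (r' * r) * (v * z) := by rw [e2]
        _ = (r' * v) * r * z := by ring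
        _ = (b * r) * r * z := by rw [hA']
        _ = b * (z * r) * r := by ring
        _ = b * (c * i) * r := by rw [hBeq]
        _ = (b * c) * (i * r) := by ring
        _ = f * (i * r) := by rw [e3]
    exact Nat.eq_of_mul_eq_mul_left hfpos this
  have huv : u * v = i * i := by
    have : (r * z) * (u * v) = (r * z) * (i * i) := by
      calc (r * z) * (u * v) = (u * r) * (v * z) := by ring
        _ = (i * z) * (i * r) := by rw [hur, hvz]
        _ = (r * z) * (i * i) := by ring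
    exact Nat.eq_of_mul_eq_mul_left (Nat.mul_pos hrpos hzpos) this
  have hiu : i ≤ u := Subgroup.card_le_of_le
    (le_inf (inf_le_inf inf_le_left inf_le_left) inf_le_left)
  have hiv : i ≤ v := Subgroup.card_le_of_le
    (le_inf (inf_le_inf inf_le_left inf_le_left) inf_le_right)
  have hui : u = i := by
    apply le_antisymm _ hiu
    by_contra hlt
    push Not at hlt
    have : i * i < u * v :=
      calc i * i ≤ i * v := Nat.mul_le_mul_left _ hiv
        _ < u * v := Nat.mul_lt_mul_of_pos_right hlt hvpos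
    rw [huv] at this
    exact lt_irrefl _ this
  have hzr : z = r := by
    rw [hui] at hur
    exact (Nat.eq_of_mul_eq_mul_left hipos hur).symm
  refine ⟨?_, hzr⟩
  have : q * z = r' * z := by rw [e1, hzr, e2]
  exact Nat.eq_of_mul_eq_mul_right hzpos this

theorem minimalCentrallyLarge_commutator {Q R : Subgroup X} (hQ : IsMinimalCentrallyLarge Q)
    (hR : IsMinimalCentrallyLarge R) : ⁅Q, Q⁆ = ⁅R, R⁆ := by
  have hQd := isMinimalCentrallyLarge_decomp hQ hR.1
  have hRd := isMinimalCentrallyLarge_decomp hR hQ.1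
  rw [inf_comm R Q] at hRd
  have h1 : ⁅Q, Q⁆ = ⁅Q ⊓ R, Q ⊓ R⁆ := by
    conv_lhs => rw [← hQd]
    apply commutator_sup_central
    rw [hQd]; exact inf_le_right
  have h2 : ⁅R, R⁆ = ⁅Q ⊓ R, Q ⊓ R⁆ := by
    conv_lhs => rw [← hRd]
    apply commutator_sup_central
    rw [hRd]; exact inf_le_right
  rw [h1, h2]

omit [Finite X] in
theorem zm_of_abelian {A : Subgroup X} (hA : IsMulCommutative ↥A) :
    zm A = Nat.card ↥A * Nat.card ↥A := by
  unfold zm
  rw [inf_eq_left.mpr ((isMulCommutative_iff_le_centralizer A).mp hA)]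

theorem card_sq_le_of_abelian {A : Subgroup X} (hA : IsMulCommutative ↥A) :
    Nat.card ↥A * Nat.card ↥A ≤ maxCentralProduct X := by
  rw [← zm_of_abelian hA]; exact zm_le_maxCentralProduct A

omit [Finite X] in
theorem isMulCommutative_of_le {A B : Subgroup X} (h : B ≤ A) (hA : IsMulCommutative ↥A) :
    IsMulCommutative ↥B := by
  rw [isMulCommutative_iff_le_centralizer] at hA ⊢
  exact h.trans (hA.trans (Subgroup.centralizer_le (show (B : Set X) ⊆ (A : Set X) from h)))

omit [Finite X] in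
theorem isMulCommutative_iff_commutator_eq_bot (A : Subgroup X) :
    IsMulCommutative ↥A ↔ ⁅A, A⁆ = ⊥ := by
  rw [isMulCommutative_iff_le_centralizer, Subgroup.commutator_eq_bot_iff_le_centralizer]

theorem minimalCentrallyLarge_abelian_iff {Q : Subgroup X} (hQ : IsMinimalCentrallyLarge Q)
    (hQab : IsMulCommutative ↥Q) (Y : Subgroup X) :
    IsMinimalCentrallyLarge Y ↔ Y ∈ maxAbelianSubgroups X := by
  have hf : maxCentralProduct X = Nat.card ↥Q * Nat.card ↥Q := by
    rw [← zm_of_abelian hQab]; exact ((isCentrallyLarge_iff_zm Q).mp hQ.1).symm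
  have hbound : ∀ B : Subgroup X, IsMulCommutative ↥B → Nat.card ↥B ≤ Nat.card ↥Q := by
    intro B hB
    have := card_sq_le_of_abelian hB
    rw [hf] at this
    exact Nat.mul_self_le_mul_self_iff.mp this
  constructor
  · intro hY
    have hYab : IsMulCommutative ↥Y := by
      rw [isMulCommutative_iff_commutator_eq_bot, minimalCentrallyLarge_commutator hY hQ,
        ← isMulCommutative_iff_commutator_eq_bot]
      exact hQab
    refine ⟨hYab, fun B hB => ?_⟩
    rw [(minimalCentrallyLarge_card hY hQ).1]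
    exact hbound B hB
  · intro hY
    have hYcard : Nat.card ↥Y = Nat.card ↥Q := le_antisymm (hbound Y hY.1) (hY.2 Q hQab)
    have hYCL : IsCentrallyLarge Y := by
      rw [isCentrallyLarge_iff_zm, zm_of_abelian hY.1, hf, hYcard]
    refine ⟨hYCL, fun Y' hY'le hY'CL => ?_⟩
    have hY'ab : IsMulCommutative ↥Y' := isMulCommutative_of_le hY'le hY.1
    have h1 : Nat.card ↥Y' * Nat.card ↥Y' = Nat.card ↥Q * Nat.card ↥Q := by
      rw [← zm_of_abelian hY'ab, ← hf]; exact (isCentrallyLarge_iff_zm Y').mp hY'CL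
    have h2 : Nat.card ↥Y' = Nat.card ↥Q := by
      apply le_antisymm
      · exact Nat.mul_self_le_mul_self_iff.mp h1.le
      · exact Nat.mul_self_le_mul_self_iff.mp h1.ge
    exact Subgroup.eq_of_le_of_card_ge hY'le (by rw [h2, hYcard])

theorem minimal_centrally_large_uniform (Q R : Subgroup X) (hQ : IsMinimalCentrallyLarge Q)
    (hR : IsMinimalCentrallyLarge R) :
    (Q ⊓ R) ⊔ (Q ⊓ Subgroup.centralizer (Q : Set X)) = Q ∧ ⁅Q, Q⁆ = ⁅R, R⁆ ∧
    Nat.card ↥Q = Nat.card ↥R ∧
    Nat.card ↥(Q ⊓ Subgroup.centralizer (Q : Set X)) =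
      Nat.card ↥(R ⊓ Subgroup.centralizer (R : Set X)) ∧
    (IsMulCommutative ↥Q → ∀ Y : Subgroup X,
      IsMinimalCentrallyLarge Y ↔ Y ∈ maxAbelianSubgroups X) :=
  ⟨isMinimalCentrallyLarge_decomp hQ hR.1, minimalCentrallyLarge_commutator hQ hR,
    (minimalCentrallyLarge_card hQ hR).1, (minimalCentrallyLarge_card hQ hR).2,
    fun hab Y => minimalCentrallyLarge_abelian_iff hQ hab Y⟩

end Cfsg.Agent.Lib.Helper7
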