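import Mathlib
import Cfsg.Prelude.Def_FusionSystem
import Cfsg.Agent.Lib.Helper7.ThA2
import Cfsg.Agent.Lib.Helper7.TNPa
import Cfsg.Agent.Lib.Lead.NormalPComplement

set_option autoImplicit false

namespace Cfsg.Agent.Lib.Helper7.CharFrob

open Cfsg Cfsg.Agent.Lib.Helper7 Cfsg.Agent.Lib.Lead.NormalPComplement

universe u

/-- a characteristic subgroup is mapped to a characteristic subgroup by an isomorphism -/
theorem char_map_equiv {A B : Type*} [Group A] [Group B] (e : A ≃* B) (K : Subgroup A)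
    (hK : K.Characteristic) : (K.map e.toMonoidHom).Characteristic := by
  rw [Subgroup.characteristic_iff_map_le]
  intro φ
  rintro _ ⟨_, ⟨x, hx, rfl⟩, rfl⟩
  have h1 := (Subgroup.characteristic_iff_map_le.mp hK) ((e.trans φ).trans e.symm)
  have h2 : ((e.trans φ).trans e.symm) x ∈ K := h1 ⟨x, hx, rfl⟩
  refine ⟨((e.trans φ).trans e.symm) x, h2, ?_⟩
  show e (e.symm (φ (e x))) = φ (e x)
  exact e.apply_symm_apply _

/-- the hypothesis: `p'`-elements normalizing a nontrivial characteristic subgroup of `P` centralize it -/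
def CHyp (p : ℕ) {G : Type*} [Group G] (P : Subgroup G) : Prop :=
  ∀ Q : Subgroup G, Q ≤ P → Q ≠ ⊥ → (Q.subgroupOf P).Characteristic →
    ∀ g ∈ Subgroup.normalizer (Q : Set G), (orderOf g).Coprime p →
      g ∈ Subgroup.centralizer (Q : Set G)

variable {G : Type*} [Group G]

theorem pchar_map_subtype {H P : Subgroup G} (hPH : P ≤ H) (Q' : Subgroup ↥H)
    (hc : (Q'.subgroupOf (P.subgroupOf H)).Characteristic) :
    ((Q'.map H.subtype).subgroupOf P).Characteristic := by
  set e : ↥(P.subgroupOf H) ≃* ↥P := Subgroup.subgroupOfEquivOfLe hPH with he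
  have hecoe : ∀ y : ↥(P.subgroupOf H), ((e y : ↥P) : G) = ((y : ↥H) : G) := fun y => rfl
  rw [Subgroup.characteristic_iff_map_le]
  intro φ
  rintro _ ⟨x, hx, rfl⟩
  rw [SetLike.mem_coe, Subgroup.mem_subgroupOf] at hx
  obtain ⟨q, hq, hqx⟩ := hx
  have h1 := (Subgroup.characteristic_iff_map_le.mp hc) ((e.trans φ).trans e.symm)
  have hy : e.symm x ∈ Q'.subgroupOf (P.subgroupOf H) := by
    rw [Subgroup.mem_subgroupOf]
    have : ((e.symm x : ↥(P.subgroupOf H)) : ↥H) = q := by
      apply Subtype.ext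
      have h2 := hecoe (e.symm x)
      rw [e.apply_symm_apply] at h2
      rw [← h2]
      exact hqx.symm
    rw [this]
    exact hq
  have h3 : ((e.trans φ).trans e.symm) (e.symm x) ∈ Q'.subgroupOf (P.subgroupOf H) :=
    h1 ⟨_, hy, rfl⟩
  have h4 : ((e.trans φ).trans e.symm) (e.symm x) = e.symm (φ x) := by
    show e.symm (φ (e (e.symm x))) = e.symm (φ x)
    rw [e.apply_symm_apply]
  rw [h4, Subgroup.mem_subgroupOf] at h3
  show φ.toMonoidHom x ∈ (Q'.map H.subtype).subgroupOf P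
  rw [Subgroup.mem_subgroupOf]
  refine ⟨((e.symm (φ x) : ↥(P.subgroupOf H)) : ↥H), h3, ?_⟩
  have h5 := hecoe (e.symm (φ x))
  rw [e.apply_symm_apply] at h5
  exact h5.symm

/-- the hypothesis passes to subgroups containing `P` -/
theorem chyp_sub {p : ℕ} {P : Subgroup G} (h : CHyp p P) (H : Subgroup G) (hPH : P ≤ H) :
    CHyp p (P.subgroupOf H) := by
  intro Q' hQ'P hQ'ne hQ'c g hg hgp
  have h1 := h (Q'.map H.subtype) ?_ ?_ (pchar_map_subtype hPH Q' hQ'c) (g : G)
    (Subgroup.le_normalizer_map H.subtype ⟨g, hg, rfl⟩)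
    (by rw [Subgroup.orderOf_coe] at *; exact hgp)
  · rw [Subgroup.mem_centralizer_iff] at h1 ⊢
    intro q hq
    apply Subtype.ext
    exact h1 q ⟨q, hq, rfl⟩
  · rintro _ ⟨q, hq, rfl⟩
    exact Subgroup.mem_subgroupOf.mp (hQ'P hq)
  · intro hbot
    apply hQ'ne
    rw [eq_bot_iff]
    intro q hq
    have : (q : G) ∈ Q'.map H.subtype := ⟨q, hq, rfl⟩
    rw [hbot, Subgroup.mem_bot] at this
    rw [Subgroup.mem_bot]
    exact Subtype.ext this

end Cfsg.Agent.Lib.Helper7.CharFrob
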