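import Mathlib
import Cfsg.Prelude.Def_FusionSystem
import Cfsg.Agent.Lib.Helper7.CharFrobA

set_option autoImplicit false

namespace Cfsg.Agent.Lib.Helper7.CharFrob

open Cfsg Cfsg.Agent.Lib.Helper7 Cfsg.Agent.Lib.Lead.NormalPComplement

universe u

/-- the preimage of a characteristic subgroup under a surjection with characteristic kernel -/
theorem char_comap_of_surjective {A B : Type*} [Group A] [Group B] (ρ : A →* B)
    (hρ : Function.Surjective ρ) (hker : ρ.ker.Characteristic) (K : Subgroup B)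
    (hK : K.Characteristic) : (K.comap ρ).Characteristic := by
  rw [Subgroup.characteristic_iff_le_comap]
  intro φ x hx
  have hmap : ρ.ker.map (φ : A →* A) = ρ.ker := (Subgroup.characteristic_iff_map_eq.mp hker) φ
  set ε := QuotientGroup.quotientKerEquivOfSurjective ρ hρ with hε
  have hεmk : ∀ a : A, ε (QuotientGroup.mk a) = ρ a := fun a => rfl
  set φq := QuotientGroup.congr ρ.ker ρ.ker φ hmap with hφq
  set φb : B ≃* B := (ε.symm.trans φq).trans ε with hφb
  have hφbρ : ∀ a : A, φb (ρ a) = ρ (φ a) := by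
    intro a
    show ε (φq (ε.symm (ρ a))) = ρ (φ a)
    have h1 : ε.symm (ρ a) = QuotientGroup.mk a := by
      rw [← hεmk a, ε.symm_apply_apply]
    rw [h1]
    have h4 : φq (QuotientGroup.mk a) = QuotientGroup.mk (φ a) :=
      QuotientGroup.congr_mk ρ.ker ρ.ker φ hmap a
    rw [h4, hεmk]
  have h2 := (Subgroup.characteristic_iff_map_le.mp hK) φb
  have h3 : φb (ρ x) ∈ K := h2 ⟨ρ x, hx, rfl⟩
  rw [hφbρ] at h3
  exact h3

variable {G : Type*} [Group G] [Finite G] {p : ℕ} [Fact p.Prime]

/-- the hypothesis passes to the quotient by a normal subgroup `Y ≤ P` characteristic in `P` -/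
theorem chyp_quot (P : Sylow p G) (h : CHyp p (P : Subgroup G)) (Y : Subgroup G) [Y.Normal]
    (hYP : Y ≤ (P : Subgroup G)) (hYne : Y ≠ ⊥)
    (hYc : (Y.subgroupOf (P : Subgroup G)).Characteristic) :
    CHyp p ((P : Subgroup G).map (QuotientGroup.mk' Y)) := by
  set π := QuotientGroup.mk' Y with hπ
  have hπs : Function.Surjective π := QuotientGroup.mk'_surjective Y
  intro Qb hQbP hQbne hQbc gb hgb hgbp
  set Q : Subgroup G := Qb.comap π with hQ
  have hYQ : Y ≤ Q := by
    intro y hy
    show π y ∈ Qb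
    have : π y = 1 := by rw [hπ, QuotientGroup.mk'_apply, QuotientGroup.eq_one_iff]; exact hy
    rw [this]; exact Qb.one_mem
  have hQP : Q ≤ (P : Subgroup G) := by
    intro x hx
    obtain ⟨y, hy, hyx⟩ := hQbP (show π x ∈ Qb from hx)
    have h1 : y⁻¹ * x ∈ Y := by
      rw [← QuotientGroup.eq_one_iff, ← QuotientGroup.mk'_apply, ← hπ, map_mul, map_inv, hyx]
      group
    have : x = y * (y⁻¹ * x) := by group
    rw [this]
    exact (P : Subgroup G).mul_mem hy (hYP h1)
  have hQne : Q ≠ ⊥ := fun hb => hYne (eq_bot_iff.mpr (hb ▸ hYQ))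
  have hQmap : Q.map π = Qb := Subgroup.map_comap_eq_self_of_surjective hπs Qb
  -- characteristic
  have hQc : (Q.subgroupOf (P : Subgroup G)).Characteristic := by
    set ρ := π.subgroupMap (P : Subgroup G) with hρ
    have hρs : Function.Surjective ρ := π.subgroupMap_surjective _
    have hker : ρ.ker = Y.subgroupOf (P : Subgroup G) := by
      ext x
      rw [MonoidHom.mem_ker, Subgroup.mem_subgroupOf]
      constructor
      · intro hx
        have : π (x : G) = 1 := congrArg Subtype.val hx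
        rw [hπ, QuotientGroup.mk'_apply, QuotientGroup.eq_one_iff] at this
        exact this
      · intro hx
        apply Subtype.ext
        show π (x : G) = 1
        rw [hπ, QuotientGroup.mk'_apply, QuotientGroup.eq_one_iff]
        exact hx
    have h1 := char_comap_of_surjective ρ hρs (hker ▸ hYc) _ hQbc
    have h2 : (Qb.subgroupOf ((P : Subgroup G).map π)).comap ρ = Q.subgroupOf (P : Subgroup G) := by
      ext x
      rfl
    rw [h2] at h1
    exact h1
  obtain ⟨g, rfl⟩ := hπs gb
  have hgN : g ∈ Subgroup.normalizer (Q : Set G) := by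
    rw [Subgroup.mem_normalizer_iff]
    intro x
    have := (Subgroup.mem_normalizer_iff.mp hgb) (π x)
    show π x ∈ Qb ↔ π (g * x * g⁻¹) ∈ Qb
    rw [map_mul, map_mul, map_inv]
    exact this
  obtain ⟨a, ha⟩ := Cfsg.Agent.Lib.Helper7.TNP.exists_pow_coprime p g
  have hg1N : g ^ p ^ a ∈ Subgroup.normalizer (Q : Set G) := Subgroup.pow_mem _ hgN _
  have hg1C := h Q hQP hQne hQc (g ^ p ^ a) hg1N ha
  have hπg1 : π g ^ p ^ a ∈ Subgroup.centralizer (Qb : Set (G ⧸ Y)) := by
    rw [Subgroup.mem_centralizer_iff]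
    intro qb hqb
    rw [← hQmap] at hqb
    obtain ⟨q, hq, rfl⟩ := hqb
    have := (Subgroup.mem_centralizer_iff.mp hg1C) q hq
    rw [← map_pow, ← map_mul, ← map_mul, this]
  have hcop : (p ^ a).Coprime (orderOf (π g)) := (hgbp.pow_right a).symm
  obtain ⟨m, hm⟩ := exists_pow_eq_self_of_coprime hcop
  rw [← hm]
  exact Subgroup.pow_mem _ hπg1 _

/-- lifting a normal `p`-complement from `G ⧸ Y` -/
theorem hnpc_of_quot (P : Sylow p G) (Y : Subgroup G) [Y.Normal] (hYP : Y ≤ (P : Subgroup G))
    (hcent : ∀ g : G, (orderOf g).Coprime p → g ∈ Subgroup.centralizer (Y : Set G))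
    (hq : HasNormalPComplement p (G ⧸ Y)) : HasNormalPComplement p G := by
  set π := QuotientGroup.mk' Y with hπ
  obtain ⟨K, hKn, hKc, k, hk⟩ := exists_normal_of_hasNormalPComplement hq
  apply hasNormalPComplement_of_p'_centralize P
  intro Q₁ hQ₁ g hg hgp
  have hπgp : (orderOf (π g)).Coprime p :=
    Nat.Coprime.coprime_dvd_left (orderOf_map_dvd π g) hgp
  have hc := centralizes_of_normal K hKc hk (Q₁.map π) ((P.isPGroup'.to_le hQ₁).map π) (π g)
    (Subgroup.le_normalizer_map π ⟨g, hg, rfl⟩) hπgp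
  have hgY := hcent g hgp
  rw [Subgroup.mem_centralizer_iff]
  intro x hx
  set y := g * x * g⁻¹ * x⁻¹ with hy
  have hyY : y ∈ Y := by
    rw [← QuotientGroup.eq_one_iff, ← QuotientGroup.mk'_apply, ← hπ]
    have h1 := (Subgroup.mem_centralizer_iff.mp hc) (π x) ⟨x, hx, rfl⟩
    rw [hy, map_mul, map_mul, map_mul, map_inv, map_inv, ← h1]
    group
  have hgy : g * y = y * g := ((Subgroup.mem_centralizer_iff.mp hgY) y hyY).symm
  have hpow : ∀ n : ℕ, g ^ n * x * (g ^ n)⁻¹ = y ^ n * x := by
    intro n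
    induction n with
    | zero => simp
    | succ n ih =>
      have hc1 : Commute g (y ^ n) := (show Commute g y from hgy).pow_right n
      calc g ^ (n + 1) * x * (g ^ (n + 1))⁻¹ = g * (g ^ n * x * (g ^ n)⁻¹) * g⁻¹ := by
            rw [pow_succ']; group
        _ = g * (y ^ n * x) * g⁻¹ := by rw [ih]
        _ = (g * y ^ n) * (x * g⁻¹) := by group
        _ = (y ^ n * g) * (x * g⁻¹) := by rw [hc1.eq]
        _ = y ^ n * (g * x * g⁻¹ * x⁻¹) * x := by group
        _ = y ^ (n + 1) * x := by rw [← hy, pow_succ]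
  have h1 := hpow (orderOf g)
  rw [pow_orderOf_eq_one] at h1
  simp only [one_mul, inv_one, mul_one] at h1
  have hyn : y ^ orderOf g = 1 := by
    have : y ^ orderOf g * x = 1 * x := by rw [one_mul]; exact h1.symm
    exact mul_right_cancel this
  have hy1 : y = 1 := by
    obtain ⟨m, hm⟩ := P.isPGroup' ⟨y, hYP hyY⟩
    have hm' : y ^ p ^ m = 1 := congrArg Subtype.val hm
    have d1 : orderOf y ∣ p ^ m := orderOf_dvd_of_pow_eq_one hm'
    have d2 : orderOf y ∣ orderOf g := orderOf_dvd_of_pow_eq_one hyn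
    have d3 : orderOf y = 1 :=
      Nat.Coprime.eq_one_of_dvd (Nat.Coprime.coprime_dvd_left d2 (hgp.pow_right m)) d1
    exact orderOf_eq_one_iff.mp d3
  have h2 : g * x * g⁻¹ * x⁻¹ = 1 := hy1
  calc x * g = (g * x * g⁻¹ * x⁻¹)⁻¹ * (g * x) := by group
    _ = g * x := by rw [h2]; group

end Cfsg.Agent.Lib.Helper7.CharFrob
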