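import Mathlib
import Cfsg.Prelude.Def_FusionSystem
import Cfsg.Agent.Lib.Helper7.CharFrobB
import Cfsg.Agent.Lib.Lead.ZJFunctor
import Cfsg.Agent.S2800

set_option autoImplicit false

namespace Cfsg.Agent.Lib.Helper7.CharFrob

open Cfsg Cfsg.Agent.Lib.Helper7 Cfsg.Agent.Lib.Lead.NormalPComplement
  Cfsg.Agent.Lib.Helper7.ThA

universe u

section chars
variable {G : Type*} [Group G]

theorem center_char (P : Subgroup G) :
    ((P ⊓ Subgroup.centralizer (P : Set G)).subgroupOf P).Characteristic := by
  have h : (P ⊓ Subgroup.centralizer (P : Set G)).subgroupOf P = Subgroup.center ↥P := by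
    ext x
    rw [Subgroup.mem_subgroupOf, Subgroup.mem_inf, Subgroup.mem_center_iff,
      Subgroup.mem_centralizer_iff]
    constructor
    · rintro ⟨-, h2⟩ g
      apply Subtype.ext
      exact h2 g g.2
    · intro h2
      refine ⟨x.2, fun g hg => ?_⟩
      exact congrArg Subtype.val (h2 ⟨g, hg⟩)
  rw [h]
  infer_instance

theorem JA_char [Finite G] (P : Subgroup G) :
    ((Cfsg.thompsonSubgroupAOf P).subgroupOf P).Characteristic := by
  have h : (Cfsg.thompsonSubgroupAOf P).subgroupOf P = Cfsg.thompsonSubgroupA ↥P := by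
    unfold Cfsg.thompsonSubgroupAOf Subgroup.subgroupOf
    exact Subgroup.comap_map_eq_self_of_injective P.subtype_injective _
  rw [h, Subgroup.characteristic_iff_map_eq]
  intro φ
  exact Cfsg.Agent.Lib.Lead.ZJFunctor.thompsonSubgroupA_map φ

end chars

/-- the strengthened Frobenius criterion for groups, by induction on the order -/
theorem charFrob_aux (p : ℕ) [Fact p.Prime] : ∀ n : ℕ, ∀ (G : Type u) [Group G] [Finite G],
    Nat.card G = n → Free p G → ∀ P : Sylow p G, CHyp p (P : Subgroup G) →
      HasNormalPComplement p G := by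
  intro n
  induction n using Nat.strong_induction_on with
  | _ n ih =>
  intro G _ _ hn hfree P hC
  by_cases hPbot : (P : Subgroup G) = ⊥
  · apply hasNormalPComplement_of_p'_centralize P
    intro Q₁ hQ₁ g hg hgp
    rw [hPbot, le_bot_iff] at hQ₁
    rw [hQ₁, Subgroup.mem_centralizer_iff]
    intro x hx
    have : x = 1 := hx
    rw [this, one_mul, mul_one]
  set Z : Subgroup G := (P : Subgroup G) ⊓ Subgroup.centralizer ((P : Subgroup G) : Set G) with hZ
  set J : Subgroup G := Cfsg.thompsonSubgroupAOf (P : Subgroup G) with hJ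
  have hZne : Z ≠ ⊥ := center_ne_bot P.isPGroup' hPbot
  have hJne : J ≠ ⊥ := JA_ne_bot hPbot
  have hZP : Z ≤ (P : Subgroup G) := inf_le_left
  have hJP : J ≤ (P : Subgroup G) := JA_le _
  have hZc : (Z.subgroupOf (P : Subgroup G)).Characteristic := center_char _
  have hJc : (J.subgroupOf (P : Subgroup G)).Characteristic := JA_char _
  -- the quotient step
  have quot : ∀ (Y : Subgroup G) [Y.Normal], Y ≤ (P : Subgroup G) → Y ≠ ⊥ →
      (Y.subgroupOf (P : Subgroup G)).Characteristic →
      (∀ g : G, (orderOf g).Coprime p → g ∈ Subgroup.centralizer (Y : Set G)) →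
      HasNormalPComplement p G := by
    intro Y _ hYP hYne hYc hcent
    apply hnpc_of_quot P Y hYP hcent
    have hlt : Nat.card (G ⧸ Y) < n := by
      rw [← hn, ← Subgroup.index_eq_card]
      have h1 := Y.card_mul_index
      have h2 : 1 < Nat.card ↥Y := by
        rw [Finite.one_lt_card_iff_nontrivial, Subgroup.nontrivial_iff_ne_bot]
        exact hYne
      have h3 : 0 < Y.index := Nat.pos_of_ne_zero Subgroup.index_ne_zero_of_finite
      nlinarith
    set Pq : Sylow p (G ⧸ Y) := P.mapSurjective (QuotientGroup.mk'_surjective Y) with hPq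
    have hPqc : (Pq : Subgroup (G ⧸ Y)) = (P : Subgroup G).map (QuotientGroup.mk' Y) :=
      Sylow.coe_mapSurjective _ _
    refine ih _ hlt (G ⧸ Y) rfl (free_quot Y hfree) Pq ?_
    rw [hPqc]
    exact chyp_quot P hC Y hYP hYne hYc
  -- the subgroup step
  have sub : ∀ H : Subgroup G, (P : Subgroup G) ≤ H → H ≠ ⊤ → HasNormalPComplement p ↥H := by
    intro H hPH hHne
    have hlt : Nat.card ↥H < n := by
      rw [← hn]
      by_contra hnot
      exact hHne (Subgroup.eq_top_of_le_card H (not_lt.mp hnot))
    set PH : Sylow p ↥H := P.subtype hPH with hPHdef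
    have hPHc : (PH : Subgroup ↥H) = (P : Subgroup G).subgroupOf H := Sylow.coe_subtype _ _
    refine ih _ hlt ↥H rfl (free_sub H hfree) PH ?_
    rw [hPHc]
    exact chyp_sub hC H hPH
  by_cases hCZ : Subgroup.centralizer (Z : Set G) = ⊤
  · have hZn : Z.Normal := by
      constructor
      intro z hz g
      have hg : g ∈ Subgroup.centralizer (Z : Set G) := by rw [hCZ]; trivial
      have := (Subgroup.mem_centralizer_iff.mp hg) z hz
      have h2 : g * z * g⁻¹ = z := by rw [← this]; group
      rw [h2]; exact hz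
    exact quot Z hZP hZne hZc (fun g _ => by rw [hCZ]; trivial)
  by_cases hNJ : Subgroup.normalizer (J : Set G) = ⊤
  · have hJn : J.Normal := Subgroup.normalizer_eq_top_iff.mp hNJ
    exact quot J hJP hJne hJc (fun g hg =>
      hC J hJP hJne hJc g (by rw [hNJ]; trivial) hg)
  have hPCZ : (P : Subgroup G) ≤ Subgroup.centralizer (Z : Set G) := by
    intro x hx
    rw [Subgroup.mem_centralizer_iff]
    intro z hz
    exact ((Subgroup.mem_centralizer_iff.mp hz.2) x hx).symm
  have hPNJ : (P : Subgroup G) ≤ Subgroup.normalizer (J : Set G) :=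
    Subgroup.le_normalizer.trans (normalizer_le_normalizer_JA _)
  exact Cfsg.Agent.S2800.result P hfree (sub _ hPCZ hCZ) (sub _ hPNJ hNJ)

theorem charFrob {p : ℕ} [Fact p.Prime] {G : Type u} [Group G] [Finite G] (hfree : Free p G)
    (P : Sylow p G) (hC : CHyp p (P : Subgroup G)) : HasNormalPComplement p G :=
  charFrob_aux p _ G rfl hfree P hC

end Cfsg.Agent.Lib.Helper7.CharFrob
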