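import Mathlib
import Cfsg.Prelude.Def_FusionSystem
import Cfsg.Prelude.Def_FusionReduction
import Cfsg.Agent.Lib.Helper7.CharFrobC
import Cfsg.Agent.Lib.Helper7.TNPe

set_option autoImplicit false

namespace Cfsg.Agent.Lib.Helper7.CharFrob

open Cfsg Cfsg.FusionSystem Cfsg.Agent.Lib.Helper7 Cfsg.Agent.Lib.Helper7.ModelUq
  Cfsg.Agent.Lib.Lead.NormalPComplement Cfsg.Agent.Lib.Helper7.WCtl Cfsg.Agent.Lib.Helper7.TNP

universe u

variable {Ω : Type u} [Group Ω] {S : Subgroup Ω}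

/-- some nontrivial characteristic subgroup of `T` has a nontrivial `p'`-automorphism in `F` -/
def CNP (F : FusionSystem S) (p : ℕ) (T : Subgroup Ω) : Prop :=
  ∃ Q : Subgroup Ω, Q ≤ T ∧ Q ≠ ⊥ ∧ (Q.subgroupOf T).Characteristic ∧ NP F p Q

/-- the local step for the strengthened Frobenius criterion -/
theorem char_local_step [Finite S] (p : ℕ) [Fact p.Prime] (hS : IsPGroup p S) (F : FusionSystem S)
    (hF : F.IsSaturated p) (hp : p ≠ 2 ∨ F.IsSectionFree p (Equiv.Perm (Fin 4)))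
    {D : Subgroup Ω} (hDn : F.IsFullyNormalized D) (hDc : F.IsCentric D) (hm : NP F p D) :
    CNP F p (normalizerIn S D) := by
  obtain ⟨α, hα, hne, hord⟩ := hm
  have hDS : D ≤ S := hDn.1
  set T := normalizerIn S D with hTdef
  have hTS : T ≤ S := inf_le_left
  have hDT : D ≤ T := le_inf hDS Subgroup.le_normalizer
  have hfinT : Finite ↥T := finite_of_le hTS
  have hfinD : Finite ↥D := finite_of_le hDS
  have hT : IsPGroup p ↥T := hS.to_le hTS
  obtain ⟨E, hE⟩ := exists_normalizerSystem F D hDS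
  have hEc := normalizerSystem_isConstrained p hS F hF D hDn hDc E hE
  obtain ⟨L, instL, ι, hM⟩ := ModelEx.exists_model p hT E hEc
  have hDnorm : E.IsNormal D := isNormal_normalizerSystem F hDS E hE
  have hnorm : (imQ ι D).Normal := imQ_normal p E ι hM hDnorm
  have hpg : IsPGroup p ↥(imQ ι D) := imQ_isPGroup p hT ι D
  have hS4 : p ≠ 2 ∨ ¬ Involves (Equiv.Perm (Fin 4)) L := by
    rcases hp with h2 | hfree
    · exact Or.inl h2
    · exact Or.inr (hfree D hDn hDc E hE L ι hM)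
  obtain ⟨hfinL, ⟨hinj, hreal⟩, ⟨Sy, hSy⟩, hcent⟩ := hM
  have hEF : ∀ (P : Subgroup Ω) (φ : P →* Ω), φ ∈ E.Hom P → φ ∈ F.Hom P := by
    intro P φ h
    rw [hE P] at h
    exact h.1
  have hDX : (⊤ : Subgroup L) ≤ Subgroup.normalizer ((imQ ι D : Subgroup L) : Set L) :=
    (Subgroup.normalizer_eq_top_iff.mpr hnorm).ge
  -- L is not p-nilpotent
  have hLn : ¬ HasNormalPComplement p L := by
    intro hnpc
    obtain ⟨K, hKn, hKc, k, hk⟩ := exists_normal_of_hasNormalPComplement hnpc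
    have hφα : D.subtype.comp α.toMonoidHom ∈ F.Hom D := (mem_autGroup_iff F hDS α).mp hα
    have hφαT : ∀ x : D, (D.subtype.comp α.toMonoidHom) x ∈ T := fun x => hDT (α x).2
    have hφαE : D.subtype.comp α.toMonoidHom ∈ E.Hom D := by
      rw [hE D]
      refine ⟨hφα, hDT, hφαT, ?_⟩
      have hsup : D ⊔ D = D := sup_idem D
      refine ⟨_, fs_mem_of_eq F hsup hφα, fun x => rfl, ?_⟩
      ext y
      constructor
      · rintro ⟨s, hs, rfl⟩
        exact (α _).2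
      · intro hy
        refine ⟨⟨(α⁻¹ ⟨y, hy⟩ : D), Subgroup.mem_sup_left (α⁻¹ ⟨y, hy⟩ : D).2⟩,
          Subgroup.mem_subgroupOf.mpr (α⁻¹ ⟨y, hy⟩ : D).2, ?_⟩
        show ((α (Subgroup.inclusion (le_of_eq hsup) _) : D) : Ω) = y
        have : Subgroup.inclusion (le_of_eq hsup)
            (⟨(α⁻¹ ⟨y, hy⟩ : D), Subgroup.mem_sup_left (α⁻¹ ⟨y, hy⟩ : D).2⟩ : ↥(D ⊔ D)) =
            α⁻¹ ⟨y, hy⟩ := Subtype.ext rfl
        rw [this]
        simp
    obtain ⟨g₀, hg₀⟩ := (hreal D hDT _ hφαT).mp hφαE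
    have hpow : ∀ (k : ℕ) (x : D), ι ⟨(((α ^ k) x : D) : Ω), hDT ((α ^ k) x).2⟩ =
        g₀ ^ k * ι ⟨x, hDT x.2⟩ * (g₀ ^ k)⁻¹ := by
      intro k
      induction k with
      | zero => intro x; simp
      | succ k ih =>
        intro x
        have h1 : (α ^ (k + 1)) x = α ((α ^ k) x) := by rw [pow_succ']; rfl
        have h2 : ι ⟨(((α ^ (k + 1)) x : D) : Ω), hDT ((α ^ (k + 1)) x).2⟩ =
            ι ⟨(D.subtype.comp α.toMonoidHom) ((α ^ k) x), hφαT _⟩ := by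
          congr 1
          apply Subtype.ext
          show (((α ^ (k + 1)) x : D) : Ω) = ((α ((α ^ k) x) : D) : Ω)
          rw [h1]
        rw [h2, hg₀, ih x, pow_succ']
        group
    obtain ⟨a, ha⟩ := exists_pow_coprime p g₀
    have hcen := centralizes_of_normal K hKc hk (imQ ι D) hpg (g₀ ^ p ^ a)
      (hDX (Subgroup.mem_top _)) ha
    apply hne
    apply eq_one_of_coprime_of_pow hord (a := a)
    ext x
    have h1 := hpow (p ^ a) x
    have h2 : g₀ ^ p ^ a * ι ⟨x, hDT x.2⟩ * (g₀ ^ p ^ a)⁻¹ = ι ⟨x, hDT x.2⟩ := by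
      have := (Subgroup.mem_centralizer_iff.mp hcen) _ ((mem_imQ_iff ι hDT _).mpr ⟨x, rfl⟩)
      rw [← this, mul_inv_cancel_right]
    rw [h2] at h1
    have h3 := congrArg Subtype.val (hinj h1)
    exact h3
  -- the group theorem
  have hnC : ¬ CHyp p (Sy : Subgroup L) := fun hC => hLn (charFrob hS4 Sy hC)
  unfold CHyp at hnC
  simp only [not_forall] at hnC
  obtain ⟨Q', hQ'Sy, hQ'ne, hQ'c, g', hg'N, hg'p, hg'c⟩ := hnC
  set e : ↥T ≃* ↥(Sy : Subgroup L) :=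
    (MonoidHom.ofInjective hinj).trans (MulEquiv.subgroupCongr hSy.symm) with he
  have hcoe : ∀ x : T, ((e x : ↥(Sy : Subgroup L)) : L) = ι x := fun x => rfl
  set Q : Subgroup Ω :=
    ((Q'.subgroupOf (Sy : Subgroup L)).map e.symm.toMonoidHom).map T.subtype with hQ
  have hQT : Q ≤ T := by
    rintro _ ⟨x, -, rfl⟩
    exact x.2
  have hQsub : Q.subgroupOf T = (Q'.subgroupOf (Sy : Subgroup L)).map e.symm.toMonoidHom :=
    Subgroup.comap_map_eq_self_of_injective T.subtype_injective _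
  have hQchar : (Q.subgroupOf T).Characteristic := by
    rw [hQsub]
    exact char_map_equiv e.symm _ hQ'c
  have himQ : imQ ι Q = Q' := by
    ext y
    rw [mem_imQ_iff ι hQT]
    constructor
    · rintro ⟨q, rfl⟩
      obtain ⟨x, ⟨s, hs, rfl⟩, hx⟩ := q.2
      have h1 : (⟨(q : Ω), hQT q.2⟩ : ↥T) = e.symm s := Subtype.ext hx.symm
      rw [h1, ← hcoe, e.apply_symm_apply]
      exact Subgroup.mem_subgroupOf.mp hs
    · intro hy
      set s : ↥(Sy : Subgroup L) := ⟨y, hQ'Sy hy⟩ with hs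
      have hsQ : s ∈ Q'.subgroupOf (Sy : Subgroup L) := Subgroup.mem_subgroupOf.mpr hy
      have hq : ((e.symm s : ↥T) : Ω) ∈ Q := ⟨e.symm s, ⟨s, hsQ, rfl⟩, rfl⟩
      refine ⟨⟨_, hq⟩, ?_⟩
      have h1 : (⟨((e.symm s : ↥T) : Ω), hQT hq⟩ : ↥T) = e.symm s := Subtype.ext rfl
      rw [h1, ← hcoe, e.apply_symm_apply]
  have hQne : Q ≠ ⊥ := by
    intro hb
    apply hQ'ne
    rw [← himQ, hb, eq_bot_iff]
    intro y hy
    obtain ⟨q, rfl⟩ := (mem_imQ_iff ι bot_le y).mp hy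
    have : (q : Ω) = 1 := Subgroup.mem_bot.mp q.2
    rw [Subgroup.mem_bot]
    have h2 : (⟨(q : Ω), (bot_le : (⊥ : Subgroup Ω) ≤ T) q.2⟩ : ↥T) = 1 := Subtype.ext this
    rw [h2, map_one]
  refine ⟨Q, hQT, hQne, hQchar, ?_⟩
  rw [← himQ] at hg'N hg'c
  obtain ⟨β, hβ, hβk⟩ := aut_of_conj F hTS E hEF ι hinj hreal hQT g' hg'N
  refine ⟨β, hβ, ?_, ?_⟩
  · intro h1
    apply hg'c
    rw [Subgroup.mem_centralizer_iff]
    intro y hy
    obtain ⟨v, rfl⟩ := (mem_imQ_iff ι hQT y).mp hy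
    have h2 := hβk 1 v
    rw [h1] at h2
    simp only [pow_one, MulAut.one_apply] at h2
    calc ι ⟨v, hQT v.2⟩ * g' = (g' * ι ⟨v, hQT v.2⟩ * g'⁻¹) * g' := by rw [← h2]
      _ = g' * ι ⟨v, hQT v.2⟩ := by group
  · have h1 : β ^ orderOf g' = 1 := by
      ext v
      have h2 := hβk (orderOf g') v
      rw [pow_orderOf_eq_one] at h2
      simp only [one_mul, inv_one, mul_one] at h2
      have h3 := congrArg Subtype.val (hinj h2)
      exact h3
    exact Nat.Coprime.coprime_dvd_left (orderOf_dvd_of_pow_eq_one h1) hg'p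

end Cfsg.Agent.Lib.Helper7.CharFrob
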