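import Mathlib
import Cfsg.Prelude.Def_FusionSystem
import Cfsg.Prelude.Def_FusionReduction
import Cfsg.Agent.Lib.Helper7.CharFrobD

set_option autoImplicit false

namespace Cfsg.Agent.Lib.Helper7.CharFrob

open Cfsg Cfsg.FusionSystem Cfsg.Agent.Lib.Helper7 Cfsg.Agent.Lib.Helper7.ModelUq
  Cfsg.Agent.Lib.Lead.NormalPComplement Cfsg.Agent.Lib.Helper7.WCtl Cfsg.Agent.Lib.Helper7.TNP

universe u

section general
variable {Ω : Type*} [Group Ω]

/-- the normalizer of `T` normalizes the characteristic subgroups of `T` -/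
theorem normalizer_le_of_char {T Q : Subgroup Ω} (hQT : Q ≤ T)
    (hc : (Q.subgroupOf T).Characteristic) :
    Subgroup.normalizer (T : Set Ω) ≤ Subgroup.normalizer (Q : Set Ω) := by
  intro g hg
  set φ : MulAut ↥T := T.normalizerMonoidHom ⟨g, hg⟩ with hφ
  have hφa : ∀ x : T, ((φ x : T) : Ω) = g * x * g⁻¹ := fun x => rfl
  have key : ∀ x : T, (x : Ω) ∈ Q ↔ g * x * g⁻¹ ∈ Q := by
    intro x
    have h1 := (Subgroup.characteristic_iff_comap_eq.mp hc) φ
    have h2 : x ∈ (Q.subgroupOf T).comap φ.toMonoidHom ↔ x ∈ Q.subgroupOf T := by rw [h1]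
    rw [Subgroup.mem_comap, Subgroup.mem_subgroupOf, Subgroup.mem_subgroupOf] at h2
    rw [← hφa x]
    exact h2.symm
  rw [Subgroup.mem_normalizer_iff]
  intro h
  constructor
  · intro hh
    exact (key ⟨h, hQT hh⟩).mp hh
  · intro hh
    have hT : h ∈ T := by
      have h1 := (Subgroup.mem_normalizer_iff.mp (Subgroup.inv_mem _ hg) (g * h * g⁻¹)).mp (hQT hh)
      have h2 : g⁻¹ * (g * h * g⁻¹) * g⁻¹⁻¹ = h := by group
      rw [h2] at h1
      exact h1
    exact (key ⟨h, hT⟩).mpr hh

variable {S : Subgroup Ω}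

theorem not_np_of_isPGroup (F : FusionSystem S) (p : ℕ) {X : Subgroup Ω}
    (h : IsPGroup p (F.autGroup X)) : ¬ NP F p X := by
  rintro ⟨α, hα, hne, hord⟩
  apply hne
  obtain ⟨k, hk⟩ := h ⟨α, hα⟩
  have hk' : α ^ p ^ k = 1 := congrArg Subtype.val hk
  exact eq_one_of_coprime_of_pow hord hk'

end general

variable {Ω : Type u} [Group Ω] {S : Subgroup Ω}

/-- the strengthened Frobenius normal `p`-complement criterion for fusion systems -/
theorem char_frobenius_fusion [Finite S] (p : ℕ) [Fact p.Prime] (hS : IsPGroup p S)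
    (F : FusionSystem S) (hF : F.IsSaturated p)
    (hp : p ≠ 2 ∨ F.IsSectionFree p (Equiv.Perm (Fin 4)))
    (h : ∀ Q : Subgroup Ω, Q ≤ S → Q ≠ ⊥ → (Q.subgroupOf S).Characteristic →
      IsPGroup p (F.autGroup Q)) :
    F = innerFusionSystem S := by
  have claim1 : ∀ (m : ℕ) (T : Subgroup Ω), T ≤ S → Nat.card S - Nat.card T = m →
      ¬ CNP F p T := by
    intro m
    induction m using Nat.strong_induction_on with
    | _ m ih =>
    intro T hTS hm hcnp
    obtain ⟨Q, hQT, hQne, hQc, hnp⟩ := hcnp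
    have hfinT : Finite ↥T := finite_of_le hTS
    have hT : IsPGroup p ↥T := hS.to_le hTS
    have hcardT : Nat.card T ≤ Nat.card S := Subgroup.card_le_of_le hTS
    by_cases hTeq : T = S
    · subst hTeq
      exact not_np_of_isPGroup F p (h Q hQT hQne hQc) hnp
    · have hbig : ∀ T' : Subgroup Ω, T' ≤ S → Nat.card T < Nat.card T' → ¬ CNP F p T' := by
        intro T' hT'S hlt
        have := Subgroup.card_le_of_le hT'S
        exact ih (Nat.card S - Nat.card T') (by omega) T' hT'S rfl
      have hQS : Q ≤ S := hQT.trans hTS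
      have h1 : Nat.card T < Nat.card (normalizerIn S T) := card_lt_card_normalizerIn hS hTS hTeq
      have h2 : normalizerIn S T ≤ normalizerIn S Q :=
        inf_le_inf_left S (normalizer_le_of_char hQT hQc)
      have hfin2 : Finite ↥(normalizerIn S Q) := finite_of_le inf_le_left
      have h3 := Subgroup.card_le_of_le h2
      obtain ⟨V₁, hV₁n, -, hV₁card, hV₁np⟩ := exists_fullyNormalized_np F p hQS hnp
      obtain ⟨hDc, hDnp⟩ := np_sup_centralizerIn p hS F hF hV₁n hV₁np
      have hDle := normalizerIn_le_sup_centralizerIn (S := S) hV₁n.1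
      have hDS : V₁ ⊔ centralizerIn S V₁ ≤ S := hDc.1
      have hfin3 : Finite ↥(normalizerIn S (V₁ ⊔ centralizerIn S V₁)) := finite_of_le inf_le_left
      have h4 := Subgroup.card_le_of_le hDle
      obtain ⟨D₁, hD₁n, hD₁conj, hD₁card, hD₁np⟩ := exists_fullyNormalized_np F p hDS hDnp
      have hD₁c : F.IsCentric D₁ := isCentric_of_isConj F hDc hD₁conj
      have h5 := char_local_step p hS F hF hp hD₁n hD₁c hD₁np
      exact hbig (normalizerIn S D₁) inf_le_left (by omega) h5
  apply eq_inner_of_essential p hS F hF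
  intro P hP
  have hPS : P ≤ S := by
    rcases hP with rfl | hP
    · exact le_rfl
    · exact hP.1.1
  have hfinP : Finite ↥P := finite_of_le hPS
  by_contra hnot
  have hnp := np_of_not_isPGroup F p hnot
  rcases hP with rfl | hess
  · by_cases hPb : P = ⊥
    · obtain ⟨α, hα, hne, hord⟩ := hnp
      apply hne
      ext x
      have hall : ∀ y : ↥P, y = 1 := by
        intro y
        have hy : (y : Ω) ∈ (⊥ : Subgroup Ω) := hPb ▸ y.2
        exact Subtype.ext (Subgroup.mem_bot.mp hy)
      have hx1 : x = 1 := hall x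
      rw [hx1, map_one]
      rfl
    · refine not_np_of_isPGroup F p (h P le_rfl hPb ?_) hnp
      have : P.subgroupOf P = ⊤ := Subgroup.subgroupOf_self P
      rw [this]
      infer_instance
  · obtain ⟨hc, hn', -⟩ := hess
    have h5 := char_local_step p hS F hF hp hn' hc hnp
    exact claim1 _ (normalizerIn S P) inf_le_left rfl h5

end Cfsg.Agent.Lib.Helper7.CharFrob
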