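import Cfsg.Agent.Lib.Helper7.Co1MT
import Cfsg.Agent.Lib.Helper5.Co1Gen.LH0D
import Cfsg.Agent.Lib.Helper5.Co1Gen.LH1D
import Cfsg.Agent.Lib.Helper5.Co1Gen.LH2D
import Cfsg.Agent.Lib.Helper5.Co1Gen.LH3D
import Cfsg.Agent.Lib.Helper5.Co1Gen.LXxD

/-! # The multiplier of the first Conway group: the tables of the letters agree with the tables of the five involutions that generate the group -/

set_option autoImplicit false
set_option maxRecDepth 100000
set_option maxHeartbeats 0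

namespace Cfsg.Agent.Lib.Helper7.Co1T

open Cfsg.Agent.Lib.Helper7.MG2 Cfsg.Agent.Lib.Helper7.HSMult Cfsg.Agent.Lib.Helper5.Co1Gen

theorem cmp_0 : allN 98280 (fun q => Nat.beq (tlx0 q) (fH0 q)) = true := by decide +kernel

theorem cmp_1 : allN 98280 (fun q => Nat.beq (tlx1 q) (fH1 q)) = true := by decide +kernel

theorem cmp_2 : allN 98280 (fun q => Nat.beq (tlx2 q) (fH2 q)) = true := by decide +kernel

theorem cmp_3 : allN 98280 (fun q => Nat.beq (tlx3 q) (fH3 q)) = true := by decide +kernel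

theorem cmp_4 : allN 98280 (fun q => Nat.beq (tlx4 q) (fXx q)) = true := by decide +kernel

theorem tl_eq_0 (q : ℕ) (hq : q < 98280) : tl 0 q = fH0 q :=
  Nat.eq_of_beq_eq_true (allN_iff.1 cmp_0 q hq)

theorem tl_eq_1 (q : ℕ) (hq : q < 98280) : tl 1 q = fH1 q :=
  Nat.eq_of_beq_eq_true (allN_iff.1 cmp_1 q hq)

theorem tl_eq_2 (q : ℕ) (hq : q < 98280) : tl 2 q = fH2 q :=
  Nat.eq_of_beq_eq_true (allN_iff.1 cmp_2 q hq)

theorem tl_eq_3 (q : ℕ) (hq : q < 98280) : tl 3 q = fH3 q :=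
  Nat.eq_of_beq_eq_true (allN_iff.1 cmp_3 q hq)

theorem tl_eq_4 (q : ℕ) (hq : q < 98280) : tl 4 q = fXx q :=
  Nat.eq_of_beq_eq_true (allN_iff.1 cmp_4 q hq)

theorem tl_eq_5 (q : ℕ) (hq : q < 98280) : tl 5 q = fXx q :=
  Nat.eq_of_beq_eq_true (allN_iff.1 cmp_4 q hq)

theorem tl_ge {y : ℕ} (hy : 6 ≤ y) (q : ℕ) : tl y q = q := by
  have h4 : Nat.ble 4 y = true := Nat.ble_eq_true_of_le (by omega)
  have h6 : Nat.ble 6 y = true := Nat.ble_eq_true_of_le hy
  unfold tl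
  rw [h4, h6]

theorem tl_fix_0 : tl 0 98257 = 98257 ∧ tl 1 98257 = 98257 ∧ tl 2 98257 = 98257 ∧ tl 3 98257 = 98257 := by
  decide +kernel

theorem traceG_cons (y : ℕ) (w : List ℕ) (q : ℕ) : traceG (y :: w) q = tl y (traceG w q) := rfl

theorem traceG_nil (q : ℕ) : traceG [] q = q := rfl

theorem fixesBase_spec {w : List ℕ} (h : fixesBase w = true) :
    ∀ b ∈ [1000, 27425, 17791, 24000, 15574], traceG w b = b := by
  rw [fixesBase, Bool.and_eq_true, Bool.and_eq_true, Bool.and_eq_true, Bool.and_eq_true] at h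
  obtain ⟨⟨⟨⟨h1, h2⟩, h3⟩, h4⟩, h5⟩ := h
  intro b hb
  simp only [List.mem_cons, List.not_mem_nil, or_false] at hb
  rcases hb with rfl | rfl | rfl | rfl | rfl
  · exact Nat.eq_of_beq_eq_true h1
  · exact Nat.eq_of_beq_eq_true h2
  · exact Nat.eq_of_beq_eq_true h3
  · exact Nat.eq_of_beq_eq_true h4
  · exact Nat.eq_of_beq_eq_true h5

end Cfsg.Agent.Lib.Helper7.Co1T
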