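import Cfsg.Agent.Lib.Helper7.Co1MT

/-! # The multiplier of the first Conway group, the letters as permutations of the 98280 pairs of minimal vectors: the words 84032 to 84863 of the certificate fix the base points (generated) -/

set_option autoImplicit false
set_option maxRecDepth 100000
set_option maxHeartbeats 0

namespace Cfsg.Agent.Lib.Helper7.Co1T

theorem words_g_f101 : wordsG 84032 208 = true ∧ wordsG 84240 208 = true ∧ wordsG 84448 208 = true ∧ wordsG 84656 208 = true :=
  ⟨by decide +kernel, by decide +kernel, by decide +kernel, by decide +kernel⟩

end Cfsg.Agent.Lib.Helper7.Co1T
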