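import Cfsg.Agent.Lib.Helper7.Co1MG0
import Cfsg.Agent.Lib.Helper7.Co1MG1
import Cfsg.Agent.Lib.Helper7.Co1MG2
import Cfsg.Agent.Lib.Helper7.Co1MG3
import Cfsg.Agent.Lib.Helper7.Co1MG4
import Cfsg.Agent.Lib.Helper7.Co1MG5
import Cfsg.Agent.Lib.Helper7.Co1MG6
import Cfsg.Agent.Lib.Helper7.Co1MG7
import Cfsg.Agent.Lib.Helper7.Co1MG8
import Cfsg.Agent.Lib.Helper7.Co1MG9
import Cfsg.Agent.Lib.Helper7.Co1MG10
import Cfsg.Agent.Lib.Helper7.Co1MG11
import Cfsg.Agent.Lib.Helper7.Co1MG12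
import Cfsg.Agent.Lib.Helper7.Co1MG13
import Cfsg.Agent.Lib.Helper7.Co1MG14
import Cfsg.Agent.Lib.Helper7.Co1MG15
import Cfsg.Agent.Lib.Helper7.Co1MG16
import Cfsg.Agent.Lib.Helper7.Co1MG17
import Cfsg.Agent.Lib.Helper7.Co1MG18
import Cfsg.Agent.Lib.Helper7.Co1MG19
import Cfsg.Agent.Lib.Helper7.Co1MG20
import Cfsg.Agent.Lib.Helper7.Co1MG21
import Cfsg.Agent.Lib.Helper7.Co1MG22
import Cfsg.Agent.Lib.Helper7.Co1MG23
import Cfsg.Agent.Lib.Helper7.Co1MG24
import Cfsg.Agent.Lib.Helper7.Co1MG25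
import Cfsg.Agent.Lib.Helper7.Co1MG26
import Cfsg.Agent.Lib.Helper7.Co1MG27
import Cfsg.Agent.Lib.Helper7.Co1MG28
import Cfsg.Agent.Lib.Helper7.Co1MG29
import Cfsg.Agent.Lib.Helper7.Co1MG30
import Cfsg.Agent.Lib.Helper7.Co1MG31
import Cfsg.Agent.Lib.Helper7.Co1MG32
import Cfsg.Agent.Lib.Helper7.Co1MG33
import Cfsg.Agent.Lib.Helper7.Co1MG34
import Cfsg.Agent.Lib.Helper7.Co1MG35
import Cfsg.Agent.Lib.Helper7.Co1MG36
import Cfsg.Agent.Lib.Helper7.Co1MG37
import Cfsg.Agent.Lib.Helper7.Co1MG38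
import Cfsg.Agent.Lib.Helper7.Co1MG39
import Cfsg.Agent.Lib.Helper7.Co1MG40
import Cfsg.Agent.Lib.Helper7.Co1MG41
import Cfsg.Agent.Lib.Helper7.Co1MG42
import Cfsg.Agent.Lib.Helper7.Co1MG43
import Cfsg.Agent.Lib.Helper7.Co1MG44
import Cfsg.Agent.Lib.Helper7.Co1MG45
import Cfsg.Agent.Lib.Helper7.Co1MG46
import Cfsg.Agent.Lib.Helper7.Co1MG47
import Cfsg.Agent.Lib.Helper7.Co1MG48
import Cfsg.Agent.Lib.Helper7.Co1MG49
import Cfsg.Agent.Lib.Helper7.Co1MG50
import Cfsg.Agent.Lib.Helper7.Co1MG51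
import Cfsg.Agent.Lib.Helper7.Co1MG52
import Cfsg.Agent.Lib.Helper7.Co1MG53
import Cfsg.Agent.Lib.Helper7.Co1MG54
import Cfsg.Agent.Lib.Helper7.Co1MG55
import Cfsg.Agent.Lib.Helper7.Co1MG56
import Cfsg.Agent.Lib.Helper7.Co1MG57
import Cfsg.Agent.Lib.Helper7.Co1MG58
import Cfsg.Agent.Lib.Helper7.Co1MG59
import Cfsg.Agent.Lib.Helper7.Co1MG60
import Cfsg.Agent.Lib.Helper7.Co1MG61
import Cfsg.Agent.Lib.Helper7.Co1MG62
import Cfsg.Agent.Lib.Helper7.Co1MG63
import Cfsg.Agent.Lib.Helper7.Co1MG64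
import Cfsg.Agent.Lib.Helper7.Co1MG65
import Cfsg.Agent.Lib.Helper7.Co1MG66
import Cfsg.Agent.Lib.Helper7.Co1MG67
import Cfsg.Agent.Lib.Helper7.Co1MG68
import Cfsg.Agent.Lib.Helper7.Co1MG69
import Cfsg.Agent.Lib.Helper7.Co1MG70
import Cfsg.Agent.Lib.Helper7.Co1MG71
import Cfsg.Agent.Lib.Helper7.Co1MG72
import Cfsg.Agent.Lib.Helper7.Co1MG73
import Cfsg.Agent.Lib.Helper7.Co1MG74
import Cfsg.Agent.Lib.Helper7.Co1MG75
import Cfsg.Agent.Lib.Helper7.Co1MG76
import Cfsg.Agent.Lib.Helper7.Co1MG77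
import Cfsg.Agent.Lib.Helper7.Co1MG78
import Cfsg.Agent.Lib.Helper7.Co1MG79
import Cfsg.Agent.Lib.Helper7.Co1MG80
import Cfsg.Agent.Lib.Helper7.Co1MG81
import Cfsg.Agent.Lib.Helper7.Co1MG82
import Cfsg.Agent.Lib.Helper7.Co1MG83
import Cfsg.Agent.Lib.Helper7.Co1MG84
import Cfsg.Agent.Lib.Helper7.Co1MG85
import Cfsg.Agent.Lib.Helper7.Co1MG86
import Cfsg.Agent.Lib.Helper7.Co1MG87
import Cfsg.Agent.Lib.Helper7.Co1MG88
import Cfsg.Agent.Lib.Helper7.Co1MG89
import Cfsg.Agent.Lib.Helper7.Co1MG90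
import Cfsg.Agent.Lib.Helper7.Co1MG91
import Cfsg.Agent.Lib.Helper7.Co1MG92
import Cfsg.Agent.Lib.Helper7.Co1MG93
import Cfsg.Agent.Lib.Helper7.Co1MG94
import Cfsg.Agent.Lib.Helper7.Co1MG95
import Cfsg.Agent.Lib.Helper7.Co1MG96
import Cfsg.Agent.Lib.Helper7.Co1MG97
import Cfsg.Agent.Lib.Helper7.Co1MG98
import Cfsg.Agent.Lib.Helper7.Co1MG99
import Cfsg.Agent.Lib.Helper7.Co1MG100
import Cfsg.Agent.Lib.Helper7.Co1MG101
import Cfsg.Agent.Lib.Helper7.Co1MG102
import Cfsg.Agent.Lib.Helper7.Co1MG103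
import Cfsg.Agent.Lib.Helper7.Co1MG104
import Cfsg.Agent.Lib.Helper7.Co1MG105
import Cfsg.Agent.Lib.Helper7.Co1MG106
import Cfsg.Agent.Lib.Helper7.Co1MG107
import Cfsg.Agent.Lib.Helper7.Co1MG108
import Cfsg.Agent.Lib.Helper7.Co1MG109
import Cfsg.Agent.Lib.Helper7.Co1MG110
import Cfsg.Agent.Lib.Helper7.Co1MG111
import Cfsg.Agent.Lib.Helper7.Co1MG112
import Cfsg.Agent.Lib.Helper7.Co1MG113
import Cfsg.Agent.Lib.Helper7.Co1MG114
import Cfsg.Agent.Lib.Helper7.Co1MG115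
import Cfsg.Agent.Lib.Helper7.Co1MG116
import Cfsg.Agent.Lib.Helper7.Co1MG117
import Cfsg.Agent.Lib.Helper7.Co1MG118
import Cfsg.Agent.Lib.Helper7.Co1MG119
import Cfsg.Agent.Lib.Helper7.Co1MG120
import Cfsg.Agent.Lib.Helper7.Co1MG121
import Cfsg.Agent.Lib.Helper7.Co1MG122
import Cfsg.Agent.Lib.Helper7.Co1MG123

/-! # The multiplier of the first Conway group, the letters as permutations of the 98280 pairs of minimal vectors: all the words of the certificate fix the base points (generated) -/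

set_option autoImplicit false
set_option maxRecDepth 100000
set_option maxHeartbeats 0

namespace Cfsg.Agent.Lib.Helper7.Co1T

open Cfsg.Agent.Lib.Helper7.MG2 Cfsg.Agent.Lib.Helper7.HSMult

theorem words_g_all : ∀ k, k < 496 → wordsG (208 * k) 208 = true
  | 0, _ => words_g_f0.1
  | 1, _ => words_g_f0.2.1
  | 2, _ => words_g_f0.2.2.1
  | 3, _ => words_g_f0.2.2.2
  | 4, _ => words_g_f1.1
  | 5, _ => words_g_f1.2.1
  | 6, _ => words_g_f1.2.2.1
  | 7, _ => words_g_f1.2.2.2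
  | 8, _ => words_g_f2.1
  | 9, _ => words_g_f2.2.1
  | 10, _ => words_g_f2.2.2.1
  | 11, _ => words_g_f2.2.2.2
  | 12, _ => words_g_f3.1
  | 13, _ => words_g_f3.2.1
  | 14, _ => words_g_f3.2.2.1
  | 15, _ => words_g_f3.2.2.2
  | 16, _ => words_g_f4.1
  | 17, _ => words_g_f4.2.1
  | 18, _ => words_g_f4.2.2.1
  | 19, _ => words_g_f4.2.2.2
  | 20, _ => words_g_f5.1
  | 21, _ => words_g_f5.2.1
  | 22, _ => words_g_f5.2.2.1
  | 23, _ => words_g_f5.2.2.2
  | 24, _ => words_g_f6.1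
  | 25, _ => words_g_f6.2.1
  | 26, _ => words_g_f6.2.2.1
  | 27, _ => words_g_f6.2.2.2
  | 28, _ => words_g_f7.1
  | 29, _ => words_g_f7.2.1
  | 30, _ => words_g_f7.2.2.1
  | 31, _ => words_g_f7.2.2.2
  | 32, _ => words_g_f8.1
  | 33, _ => words_g_f8.2.1
  | 34, _ => words_g_f8.2.2.1
  | 35, _ => words_g_f8.2.2.2
  | 36, _ => words_g_f9.1
  | 37, _ => words_g_f9.2.1
  | 38, _ => words_g_f9.2.2.1
  | 39, _ => words_g_f9.2.2.2
  | 40, _ => words_g_f10.1
  | 41, _ => words_g_f10.2.1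
  | 42, _ => words_g_f10.2.2.1
  | 43, _ => words_g_f10.2.2.2
  | 44, _ => words_g_f11.1
  | 45, _ => words_g_f11.2.1
  | 46, _ => words_g_f11.2.2.1
  | 47, _ => words_g_f11.2.2.2
  | 48, _ => words_g_f12.1
  | 49, _ => words_g_f12.2.1
  | 50, _ => words_g_f12.2.2.1
  | 51, _ => words_g_f12.2.2.2
  | 52, _ => words_g_f13.1
  | 53, _ => words_g_f13.2.1
  | 54, _ => words_g_f13.2.2.1
  | 55, _ => words_g_f13.2.2.2
  | 56, _ => words_g_f14.1
  | 57, _ => words_g_f14.2.1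
  | 58, _ => words_g_f14.2.2.1
  | 59, _ => words_g_f14.2.2.2
  | 60, _ => words_g_f15.1
  | 61, _ => words_g_f15.2.1
  | 62, _ => words_g_f15.2.2.1
  | 63, _ => words_g_f15.2.2.2
  | 64, _ => words_g_f16.1
  | 65, _ => words_g_f16.2.1
  | 66, _ => words_g_f16.2.2.1
  | 67, _ => words_g_f16.2.2.2
  | 68, _ => words_g_f17.1
  | 69, _ => words_g_f17.2.1
  | 70, _ => words_g_f17.2.2.1
  | 71, _ => words_g_f17.2.2.2
  | 72, _ => words_g_f18.1
  | 73, _ => words_g_f18.2.1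
  | 74, _ => words_g_f18.2.2.1
  | 75, _ => words_g_f18.2.2.2
  | 76, _ => words_g_f19.1
  | 77, _ => words_g_f19.2.1
  | 78, _ => words_g_f19.2.2.1
  | 79, _ => words_g_f19.2.2.2
  | 80, _ => words_g_f20.1
  | 81, _ => words_g_f20.2.1
  | 82, _ => words_g_f20.2.2.1
  | 83, _ => words_g_f20.2.2.2
  | 84, _ => words_g_f21.1
  | 85, _ => words_g_f21.2.1
  | 86, _ => words_g_f21.2.2.1
  | 87, _ => words_g_f21.2.2.2
  | 88, _ => words_g_f22.1
  | 89, _ => words_g_f22.2.1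
  | 90, _ => words_g_f22.2.2.1
  | 91, _ => words_g_f22.2.2.2
  | 92, _ => words_g_f23.1
  | 93, _ => words_g_f23.2.1
  | 94, _ => words_g_f23.2.2.1
  | 95, _ => words_g_f23.2.2.2
  | 96, _ => words_g_f24.1
  | 97, _ => words_g_f24.2.1
  | 98, _ => words_g_f24.2.2.1
  | 99, _ => words_g_f24.2.2.2
  | 100, _ => words_g_f25.1
  | 101, _ => words_g_f25.2.1
  | 102, _ => words_g_f25.2.2.1
  | 103, _ => words_g_f25.2.2.2
  | 104, _ => words_g_f26.1
  | 105, _ => words_g_f26.2.1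
  | 106, _ => words_g_f26.2.2.1
  | 107, _ => words_g_f26.2.2.2
  | 108, _ => words_g_f27.1
  | 109, _ => words_g_f27.2.1
  | 110, _ => words_g_f27.2.2.1
  | 111, _ => words_g_f27.2.2.2
  | 112, _ => words_g_f28.1
  | 113, _ => words_g_f28.2.1
  | 114, _ => words_g_f28.2.2.1
  | 115, _ => words_g_f28.2.2.2
  | 116, _ => words_g_f29.1
  | 117, _ => words_g_f29.2.1
  | 118, _ => words_g_f29.2.2.1
  | 119, _ => words_g_f29.2.2.2
  | 120, _ => words_g_f30.1
  | 121, _ => words_g_f30.2.1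
  | 122, _ => words_g_f30.2.2.1
  | 123, _ => words_g_f30.2.2.2
  | 124, _ => words_g_f31.1
  | 125, _ => words_g_f31.2.1
  | 126, _ => words_g_f31.2.2.1
  | 127, _ => words_g_f31.2.2.2
  | 128, _ => words_g_f32.1
  | 129, _ => words_g_f32.2.1
  | 130, _ => words_g_f32.2.2.1
  | 131, _ => words_g_f32.2.2.2
  | 132, _ => words_g_f33.1
  | 133, _ => words_g_f33.2.1
  | 134, _ => words_g_f33.2.2.1
  | 135, _ => words_g_f33.2.2.2
  | 136, _ => words_g_f34.1
  | 137, _ => words_g_f34.2.1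
  | 138, _ => words_g_f34.2.2.1
  | 139, _ => words_g_f34.2.2.2
  | 140, _ => words_g_f35.1
  | 141, _ => words_g_f35.2.1
  | 142, _ => words_g_f35.2.2.1
  | 143, _ => words_g_f35.2.2.2
  | 144, _ => words_g_f36.1
  | 145, _ => words_g_f36.2.1
  | 146, _ => words_g_f36.2.2.1
  | 147, _ => words_g_f36.2.2.2
  | 148, _ => words_g_f37.1
  | 149, _ => words_g_f37.2.1
  | 150, _ => words_g_f37.2.2.1
  | 151, _ => words_g_f37.2.2.2
  | 152, _ => words_g_f38.1
  | 153, _ => words_g_f38.2.1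
  | 154, _ => words_g_f38.2.2.1
  | 155, _ => words_g_f38.2.2.2
  | 156, _ => words_g_f39.1
  | 157, _ => words_g_f39.2.1
  | 158, _ => words_g_f39.2.2.1
  | 159, _ => words_g_f39.2.2.2
  | 160, _ => words_g_f40.1
  | 161, _ => words_g_f40.2.1
  | 162, _ => words_g_f40.2.2.1
  | 163, _ => words_g_f40.2.2.2
  | 164, _ => words_g_f41.1
  | 165, _ => words_g_f41.2.1
  | 166, _ => words_g_f41.2.2.1
  | 167, _ => words_g_f41.2.2.2
  | 168, _ => words_g_f42.1
  | 169, _ => words_g_f42.2.1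
  | 170, _ => words_g_f42.2.2.1
  | 171, _ => words_g_f42.2.2.2
  | 172, _ => words_g_f43.1
  | 173, _ => words_g_f43.2.1
  | 174, _ => words_g_f43.2.2.1
  | 175, _ => words_g_f43.2.2.2
  | 176, _ => words_g_f44.1
  | 177, _ => words_g_f44.2.1
  | 178, _ => words_g_f44.2.2.1
  | 179, _ => words_g_f44.2.2.2
  | 180, _ => words_g_f45.1
  | 181, _ => words_g_f45.2.1
  | 182, _ => words_g_f45.2.2.1
  | 183, _ => words_g_f45.2.2.2
  | 184, _ => words_g_f46.1
  | 185, _ => words_g_f46.2.1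
  | 186, _ => words_g_f46.2.2.1
  | 187, _ => words_g_f46.2.2.2
  | 188, _ => words_g_f47.1
  | 189, _ => words_g_f47.2.1
  | 190, _ => words_g_f47.2.2.1
  | 191, _ => words_g_f47.2.2.2
  | 192, _ => words_g_f48.1
  | 193, _ => words_g_f48.2.1
  | 194, _ => words_g_f48.2.2.1
  | 195, _ => words_g_f48.2.2.2
  | 196, _ => words_g_f49.1
  | 197, _ => words_g_f49.2.1
  | 198, _ => words_g_f49.2.2.1
  | 199, _ => words_g_f49.2.2.2
  | 200, _ => words_g_f50.1
  | 201, _ => words_g_f50.2.1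
  | 202, _ => words_g_f50.2.2.1
  | 203, _ => words_g_f50.2.2.2
  | 204, _ => words_g_f51.1
  | 205, _ => words_g_f51.2.1
  | 206, _ => words_g_f51.2.2.1
  | 207, _ => words_g_f51.2.2.2
  | 208, _ => words_g_f52.1
  | 209, _ => words_g_f52.2.1
  | 210, _ => words_g_f52.2.2.1
  | 211, _ => words_g_f52.2.2.2
  | 212, _ => words_g_f53.1
  | 213, _ => words_g_f53.2.1
  | 214, _ => words_g_f53.2.2.1
  | 215, _ => words_g_f53.2.2.2
  | 216, _ => words_g_f54.1
  | 217, _ => words_g_f54.2.1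
  | 218, _ => words_g_f54.2.2.1
  | 219, _ => words_g_f54.2.2.2
  | 220, _ => words_g_f55.1
  | 221, _ => words_g_f55.2.1
  | 222, _ => words_g_f55.2.2.1
  | 223, _ => words_g_f55.2.2.2
  | 224, _ => words_g_f56.1
  | 225, _ => words_g_f56.2.1
  | 226, _ => words_g_f56.2.2.1
  | 227, _ => words_g_f56.2.2.2
  | 228, _ => words_g_f57.1
  | 229, _ => words_g_f57.2.1
  | 230, _ => words_g_f57.2.2.1
  | 231, _ => words_g_f57.2.2.2
  | 232, _ => words_g_f58.1
  | 233, _ => words_g_f58.2.1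
  | 234, _ => words_g_f58.2.2.1
  | 235, _ => words_g_f58.2.2.2
  | 236, _ => words_g_f59.1
  | 237, _ => words_g_f59.2.1
  | 238, _ => words_g_f59.2.2.1
  | 239, _ => words_g_f59.2.2.2
  | 240, _ => words_g_f60.1
  | 241, _ => words_g_f60.2.1
  | 242, _ => words_g_f60.2.2.1
  | 243, _ => words_g_f60.2.2.2
  | 244, _ => words_g_f61.1
  | 245, _ => words_g_f61.2.1
  | 246, _ => words_g_f61.2.2.1
  | 247, _ => words_g_f61.2.2.2
  | 248, _ => words_g_f62.1
  | 249, _ => words_g_f62.2.1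
  | 250, _ => words_g_f62.2.2.1
  | 251, _ => words_g_f62.2.2.2
  | 252, _ => words_g_f63.1
  | 253, _ => words_g_f63.2.1
  | 254, _ => words_g_f63.2.2.1
  | 255, _ => words_g_f63.2.2.2
  | 256, _ => words_g_f64.1
  | 257, _ => words_g_f64.2.1
  | 258, _ => words_g_f64.2.2.1
  | 259, _ => words_g_f64.2.2.2
  | 260, _ => words_g_f65.1
  | 261, _ => words_g_f65.2.1
  | 262, _ => words_g_f65.2.2.1
  | 263, _ => words_g_f65.2.2.2
  | 264, _ => words_g_f66.1
  | 265, _ => words_g_f66.2.1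
  | 266, _ => words_g_f66.2.2.1
  | 267, _ => words_g_f66.2.2.2
  | 268, _ => words_g_f67.1
  | 269, _ => words_g_f67.2.1
  | 270, _ => words_g_f67.2.2.1
  | 271, _ => words_g_f67.2.2.2
  | 272, _ => words_g_f68.1
  | 273, _ => words_g_f68.2.1
  | 274, _ => words_g_f68.2.2.1
  | 275, _ => words_g_f68.2.2.2
  | 276, _ => words_g_f69.1
  | 277, _ => words_g_f69.2.1
  | 278, _ => words_g_f69.2.2.1
  | 279, _ => words_g_f69.2.2.2
  | 280, _ => words_g_f70.1
  | 281, _ => words_g_f70.2.1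
  | 282, _ => words_g_f70.2.2.1
  | 283, _ => words_g_f70.2.2.2
  | 284, _ => words_g_f71.1
  | 285, _ => words_g_f71.2.1
  | 286, _ => words_g_f71.2.2.1
  | 287, _ => words_g_f71.2.2.2
  | 288, _ => words_g_f72.1
  | 289, _ => words_g_f72.2.1
  | 290, _ => words_g_f72.2.2.1
  | 291, _ => words_g_f72.2.2.2
  | 292, _ => words_g_f73.1
  | 293, _ => words_g_f73.2.1
  | 294, _ => words_g_f73.2.2.1
  | 295, _ => words_g_f73.2.2.2
  | 296, _ => words_g_f74.1
  | 297, _ => words_g_f74.2.1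
  | 298, _ => words_g_f74.2.2.1
  | 299, _ => words_g_f74.2.2.2
  | 300, _ => words_g_f75.1
  | 301, _ => words_g_f75.2.1
  | 302, _ => words_g_f75.2.2.1
  | 303, _ => words_g_f75.2.2.2
  | 304, _ => words_g_f76.1
  | 305, _ => words_g_f76.2.1
  | 306, _ => words_g_f76.2.2.1
  | 307, _ => words_g_f76.2.2.2
  | 308, _ => words_g_f77.1
  | 309, _ => words_g_f77.2.1
  | 310, _ => words_g_f77.2.2.1
  | 311, _ => words_g_f77.2.2.2
  | 312, _ => words_g_f78.1
  | 313, _ => words_g_f78.2.1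
  | 314, _ => words_g_f78.2.2.1
  | 315, _ => words_g_f78.2.2.2
  | 316, _ => words_g_f79.1
  | 317, _ => words_g_f79.2.1
  | 318, _ => words_g_f79.2.2.1
  | 319, _ => words_g_f79.2.2.2
  | 320, _ => words_g_f80.1
  | 321, _ => words_g_f80.2.1
  | 322, _ => words_g_f80.2.2.1
  | 323, _ => words_g_f80.2.2.2
  | 324, _ => words_g_f81.1
  | 325, _ => words_g_f81.2.1
  | 326, _ => words_g_f81.2.2.1
  | 327, _ => words_g_f81.2.2.2
  | 328, _ => words_g_f82.1
  | 329, _ => words_g_f82.2.1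
  | 330, _ => words_g_f82.2.2.1
  | 331, _ => words_g_f82.2.2.2
  | 332, _ => words_g_f83.1
  | 333, _ => words_g_f83.2.1
  | 334, _ => words_g_f83.2.2.1
  | 335, _ => words_g_f83.2.2.2
  | 336, _ => words_g_f84.1
  | 337, _ => words_g_f84.2.1
  | 338, _ => words_g_f84.2.2.1
  | 339, _ => words_g_f84.2.2.2
  | 340, _ => words_g_f85.1
  | 341, _ => words_g_f85.2.1
  | 342, _ => words_g_f85.2.2.1
  | 343, _ => words_g_f85.2.2.2
  | 344, _ => words_g_f86.1
  | 345, _ => words_g_f86.2.1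
  | 346, _ => words_g_f86.2.2.1
  | 347, _ => words_g_f86.2.2.2
  | 348, _ => words_g_f87.1
  | 349, _ => words_g_f87.2.1
  | 350, _ => words_g_f87.2.2.1
  | 351, _ => words_g_f87.2.2.2
  | 352, _ => words_g_f88.1
  | 353, _ => words_g_f88.2.1
  | 354, _ => words_g_f88.2.2.1
  | 355, _ => words_g_f88.2.2.2
  | 356, _ => words_g_f89.1
  | 357, _ => words_g_f89.2.1
  | 358, _ => words_g_f89.2.2.1
  | 359, _ => words_g_f89.2.2.2
  | 360, _ => words_g_f90.1
  | 361, _ => words_g_f90.2.1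
  | 362, _ => words_g_f90.2.2.1
  | 363, _ => words_g_f90.2.2.2
  | 364, _ => words_g_f91.1
  | 365, _ => words_g_f91.2.1
  | 366, _ => words_g_f91.2.2.1
  | 367, _ => words_g_f91.2.2.2
  | 368, _ => words_g_f92.1
  | 369, _ => words_g_f92.2.1
  | 370, _ => words_g_f92.2.2.1
  | 371, _ => words_g_f92.2.2.2
  | 372, _ => words_g_f93.1
  | 373, _ => words_g_f93.2.1
  | 374, _ => words_g_f93.2.2.1
  | 375, _ => words_g_f93.2.2.2
  | 376, _ => words_g_f94.1
  | 377, _ => words_g_f94.2.1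
  | 378, _ => words_g_f94.2.2.1
  | 379, _ => words_g_f94.2.2.2
  | 380, _ => words_g_f95.1
  | 381, _ => words_g_f95.2.1
  | 382, _ => words_g_f95.2.2.1
  | 383, _ => words_g_f95.2.2.2
  | 384, _ => words_g_f96.1
  | 385, _ => words_g_f96.2.1
  | 386, _ => words_g_f96.2.2.1
  | 387, _ => words_g_f96.2.2.2
  | 388, _ => words_g_f97.1
  | 389, _ => words_g_f97.2.1
  | 390, _ => words_g_f97.2.2.1
  | 391, _ => words_g_f97.2.2.2
  | 392, _ => words_g_f98.1
  | 393, _ => words_g_f98.2.1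
  | 394, _ => words_g_f98.2.2.1
  | 395, _ => words_g_f98.2.2.2
  | 396, _ => words_g_f99.1
  | 397, _ => words_g_f99.2.1
  | 398, _ => words_g_f99.2.2.1
  | 399, _ => words_g_f99.2.2.2
  | 400, _ => words_g_f100.1
  | 401, _ => words_g_f100.2.1
  | 402, _ => words_g_f100.2.2.1
  | 403, _ => words_g_f100.2.2.2
  | 404, _ => words_g_f101.1
  | 405, _ => words_g_f101.2.1
  | 406, _ => words_g_f101.2.2.1
  | 407, _ => words_g_f101.2.2.2
  | 408, _ => words_g_f102.1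
  | 409, _ => words_g_f102.2.1
  | 410, _ => words_g_f102.2.2.1
  | 411, _ => words_g_f102.2.2.2
  | 412, _ => words_g_f103.1
  | 413, _ => words_g_f103.2.1
  | 414, _ => words_g_f103.2.2.1
  | 415, _ => words_g_f103.2.2.2
  | 416, _ => words_g_f104.1
  | 417, _ => words_g_f104.2.1
  | 418, _ => words_g_f104.2.2.1
  | 419, _ => words_g_f104.2.2.2
  | 420, _ => words_g_f105.1
  | 421, _ => words_g_f105.2.1
  | 422, _ => words_g_f105.2.2.1
  | 423, _ => words_g_f105.2.2.2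
  | 424, _ => words_g_f106.1
  | 425, _ => words_g_f106.2.1
  | 426, _ => words_g_f106.2.2.1
  | 427, _ => words_g_f106.2.2.2
  | 428, _ => words_g_f107.1
  | 429, _ => words_g_f107.2.1
  | 430, _ => words_g_f107.2.2.1
  | 431, _ => words_g_f107.2.2.2
  | 432, _ => words_g_f108.1
  | 433, _ => words_g_f108.2.1
  | 434, _ => words_g_f108.2.2.1
  | 435, _ => words_g_f108.2.2.2
  | 436, _ => words_g_f109.1
  | 437, _ => words_g_f109.2.1
  | 438, _ => words_g_f109.2.2.1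
  | 439, _ => words_g_f109.2.2.2
  | 440, _ => words_g_f110.1
  | 441, _ => words_g_f110.2.1
  | 442, _ => words_g_f110.2.2.1
  | 443, _ => words_g_f110.2.2.2
  | 444, _ => words_g_f111.1
  | 445, _ => words_g_f111.2.1
  | 446, _ => words_g_f111.2.2.1
  | 447, _ => words_g_f111.2.2.2
  | 448, _ => words_g_f112.1
  | 449, _ => words_g_f112.2.1
  | 450, _ => words_g_f112.2.2.1
  | 451, _ => words_g_f112.2.2.2
  | 452, _ => words_g_f113.1
  | 453, _ => words_g_f113.2.1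
  | 454, _ => words_g_f113.2.2.1
  | 455, _ => words_g_f113.2.2.2
  | 456, _ => words_g_f114.1
  | 457, _ => words_g_f114.2.1
  | 458, _ => words_g_f114.2.2.1
  | 459, _ => words_g_f114.2.2.2
  | 460, _ => words_g_f115.1
  | 461, _ => words_g_f115.2.1
  | 462, _ => words_g_f115.2.2.1
  | 463, _ => words_g_f115.2.2.2
  | 464, _ => words_g_f116.1
  | 465, _ => words_g_f116.2.1
  | 466, _ => words_g_f116.2.2.1
  | 467, _ => words_g_f116.2.2.2
  | 468, _ => words_g_f117.1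
  | 469, _ => words_g_f117.2.1
  | 470, _ => words_g_f117.2.2.1
  | 471, _ => words_g_f117.2.2.2
  | 472, _ => words_g_f118.1
  | 473, _ => words_g_f118.2.1
  | 474, _ => words_g_f118.2.2.1
  | 475, _ => words_g_f118.2.2.2
  | 476, _ => words_g_f119.1
  | 477, _ => words_g_f119.2.1
  | 478, _ => words_g_f119.2.2.1
  | 479, _ => words_g_f119.2.2.2
  | 480, _ => words_g_f120.1
  | 481, _ => words_g_f120.2.1
  | 482, _ => words_g_f120.2.2.1
  | 483, _ => words_g_f120.2.2.2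
  | 484, _ => words_g_f121.1
  | 485, _ => words_g_f121.2.1
  | 486, _ => words_g_f121.2.2.1
  | 487, _ => words_g_f121.2.2.2
  | 488, _ => words_g_f122.1
  | 489, _ => words_g_f122.2.1
  | 490, _ => words_g_f122.2.2.1
  | 491, _ => words_g_f122.2.2.2
  | 492, _ => words_g_f123.1
  | 493, _ => words_g_f123.2.1
  | 494, _ => words_g_f123.2.2.1
  | 495, _ => words_g_f123.2.2.2
  | k + 496, h => absurd h (by omega)

/-- **the product of the letters of every word of the certificate fixes the base points** -/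
theorem words_fix : ∀ i, i < cert.nW → fixesBase (cert.W i) = true := by
  intro i hi
  have hi' : i < 103143 := hi
  have h1 := words_g_all (i / 208) (by omega)
  rw [wordsG, allN_iff] at h1
  have h2 := h1 (i % 208) (Nat.mod_lt _ (by norm_num))
  have e : Nat.add (208 * (i / 208)) (i % 208) = i := Nat.div_add_mod i 208
  rw [e, strictL_eq] at h2
  exact h2

end Cfsg.Agent.Lib.Helper7.Co1T
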