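import Cfsg.Agent.Lib.Helper7.Co1TT0
import Cfsg.Agent.Lib.Helper7.Co1TT1
import Cfsg.Agent.Lib.Helper7.Co1TT2
import Cfsg.Agent.Lib.Helper7.Co1TT3
import Cfsg.Agent.Lib.Helper7.Co1TT4
import Cfsg.Agent.Lib.Helper7.Co1TT5
import Cfsg.Agent.Lib.Helper7.Co1TT6
import Cfsg.Agent.Lib.Helper7.Co1TT7
import Cfsg.Agent.Lib.Helper7.Co1TT8
import Cfsg.Agent.Lib.Helper7.Co1TT9
import Cfsg.Agent.Lib.Helper7.Co1TT10
import Cfsg.Agent.Lib.Helper7.Co1TT11
import Cfsg.Agent.Lib.Helper7.Co1TW0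
import Cfsg.Agent.Lib.Helper7.Co1TW1
import Cfsg.Agent.Lib.Helper7.Co1TW2
import Cfsg.Agent.Lib.Helper7.Co1TW3
import Cfsg.Agent.Lib.Helper7.Co1TW4
import Cfsg.Agent.Lib.Helper7.Co1TW5
import Cfsg.Agent.Lib.Helper7.Co1TW6
import Cfsg.Agent.Lib.Helper7.Co1TW7
import Cfsg.Agent.Lib.Helper7.Co1TW8
import Cfsg.Agent.Lib.Helper7.Co1TW9
import Cfsg.Agent.Lib.Helper7.Co1TW10
import Cfsg.Agent.Lib.Helper7.Co1TW11
import Cfsg.Agent.Lib.Helper7.Co1TW12
import Cfsg.Agent.Lib.Helper7.MG2C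

/-! # The multiplier of the first Conway group, the table of the group: the certificate of the enumeration of the cosets (generated) -/

set_option autoImplicit false

namespace Cfsg.Agent.Lib.Helper7.Co1T

open Cfsg.Agent.Lib.Helper7.MG2 Cfsg.Agent.Lib.Helper7.HSMult

/-- a part of the choice of the part of the table -/
noncomputable def selT0 (j : ℕ) : ℕ := (Bool.rec (motive := fun _ => ℕ) (Bool.rec (motive := fun _ => ℕ) (Bool.rec (motive := fun _ => ℕ) rl0 rl1 (Nat.ble 1 j)) (Bool.rec (motive := fun _ => ℕ) rl2 rl3 (Nat.ble 3 j)) (Nat.ble 2 j)) (Bool.rec (motive := fun _ => ℕ) (Bool.rec (motive := fun _ => ℕ) rl4 rl5 (Nat.ble 5 j)) (Bool.rec (motive := fun _ => ℕ) rl6 rl7 (Nat.ble 7 j)) (Nat.ble 6 j)) (Nat.ble 4 j))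

/-- a part of the choice of the part of the table -/
noncomputable def selT1 (j : ℕ) : ℕ := (Bool.rec (motive := fun _ => ℕ) (Bool.rec (motive := fun _ => ℕ) (Bool.rec (motive := fun _ => ℕ) rl8 rl9 (Nat.ble 9 j)) (Bool.rec (motive := fun _ => ℕ) rl10 rl11 (Nat.ble 11 j)) (Nat.ble 10 j)) (Bool.rec (motive := fun _ => ℕ) (Bool.rec (motive := fun _ => ℕ) rl12 rl13 (Nat.ble 13 j)) (Bool.rec (motive := fun _ => ℕ) rl14 rl15 (Nat.ble 15 j)) (Nat.ble 14 j)) (Nat.ble 12 j))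

/-- a part of the choice of the part of the table -/
noncomputable def selT2 (j : ℕ) : ℕ := (Bool.rec (motive := fun _ => ℕ) (Bool.rec (motive := fun _ => ℕ) (Bool.rec (motive := fun _ => ℕ) rl16 rl17 (Nat.ble 17 j)) (Bool.rec (motive := fun _ => ℕ) rl18 rl19 (Nat.ble 19 j)) (Nat.ble 18 j)) (Bool.rec (motive := fun _ => ℕ) (Bool.rec (motive := fun _ => ℕ) rl20 rl21 (Nat.ble 21 j)) (Bool.rec (motive := fun _ => ℕ) rl22 rl23 (Nat.ble 23 j)) (Nat.ble 22 j)) (Nat.ble 20 j))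

/-- a part of the choice of the part of the table -/
noncomputable def selT3 (j : ℕ) : ℕ := (Bool.rec (motive := fun _ => ℕ) (Bool.rec (motive := fun _ => ℕ) (Bool.rec (motive := fun _ => ℕ) rl24 rl25 (Nat.ble 25 j)) (Bool.rec (motive := fun _ => ℕ) rl26 rl27 (Nat.ble 27 j)) (Nat.ble 26 j)) (Bool.rec (motive := fun _ => ℕ) (Bool.rec (motive := fun _ => ℕ) rl28 rl29 (Nat.ble 29 j)) (Bool.rec (motive := fun _ => ℕ) rl30 rl31 (Nat.ble 31 j)) (Nat.ble 30 j)) (Nat.ble 28 j))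

/-- a part of the choice of the part of the table -/
noncomputable def selT4 (j : ℕ) : ℕ := (Bool.rec (motive := fun _ => ℕ) (Bool.rec (motive := fun _ => ℕ) (Bool.rec (motive := fun _ => ℕ) rl32 rl33 (Nat.ble 33 j)) (Bool.rec (motive := fun _ => ℕ) rl34 rl35 (Nat.ble 35 j)) (Nat.ble 34 j)) (Bool.rec (motive := fun _ => ℕ) (Bool.rec (motive := fun _ => ℕ) rl36 rl37 (Nat.ble 37 j)) (Bool.rec (motive := fun _ => ℕ) rl38 rl39 (Nat.ble 39 j)) (Nat.ble 38 j)) (Nat.ble 36 j))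

/-- a part of the choice of the part of the table -/
noncomputable def selT5 (j : ℕ) : ℕ := (Bool.rec (motive := fun _ => ℕ) (Bool.rec (motive := fun _ => ℕ) (Bool.rec (motive := fun _ => ℕ) rl40 rl41 (Nat.ble 41 j)) (Bool.rec (motive := fun _ => ℕ) rl42 rl43 (Nat.ble 43 j)) (Nat.ble 42 j)) (Bool.rec (motive := fun _ => ℕ) (Bool.rec (motive := fun _ => ℕ) rl44 rl45 (Nat.ble 45 j)) (Bool.rec (motive := fun _ => ℕ) rl46 rl47 (Nat.ble 47 j)) (Nat.ble 46 j)) (Nat.ble 44 j))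

/-- a part of the choice of the part of the table -/
noncomputable def selT6 (j : ℕ) : ℕ := (Bool.rec (motive := fun _ => ℕ) (Bool.rec (motive := fun _ => ℕ) (Bool.rec (motive := fun _ => ℕ) rl48 rl49 (Nat.ble 49 j)) (Bool.rec (motive := fun _ => ℕ) rl50 rl51 (Nat.ble 51 j)) (Nat.ble 50 j)) (Bool.rec (motive := fun _ => ℕ) (Bool.rec (motive := fun _ => ℕ) rl52 rl53 (Nat.ble 53 j)) (Bool.rec (motive := fun _ => ℕ) rl54 rl55 (Nat.ble 55 j)) (Nat.ble 54 j)) (Nat.ble 52 j))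

/-- a part of the choice of the part of the table -/
noncomputable def selT7 (j : ℕ) : ℕ := (Bool.rec (motive := fun _ => ℕ) (Bool.rec (motive := fun _ => ℕ) (Bool.rec (motive := fun _ => ℕ) rl56 rl57 (Nat.ble 57 j)) (Bool.rec (motive := fun _ => ℕ) rl58 rl59 (Nat.ble 59 j)) (Nat.ble 58 j)) (Bool.rec (motive := fun _ => ℕ) (Bool.rec (motive := fun _ => ℕ) rl60 rl61 (Nat.ble 61 j)) (Bool.rec (motive := fun _ => ℕ) rl62 rl63 (Nat.ble 63 j)) (Nat.ble 62 j)) (Nat.ble 60 j))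

/-- a part of the choice of the part of the table -/
noncomputable def selT8 (j : ℕ) : ℕ := (Bool.rec (motive := fun _ => ℕ) (Bool.rec (motive := fun _ => ℕ) (Bool.rec (motive := fun _ => ℕ) rl64 rl65 (Nat.ble 65 j)) (Bool.rec (motive := fun _ => ℕ) rl66 rl67 (Nat.ble 67 j)) (Nat.ble 66 j)) (Bool.rec (motive := fun _ => ℕ) (Bool.rec (motive := fun _ => ℕ) rl68 rl69 (Nat.ble 69 j)) (Bool.rec (motive := fun _ => ℕ) rl70 rl71 (Nat.ble 71 j)) (Nat.ble 70 j)) (Nat.ble 68 j))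

/-- a part of the choice of the part of the table -/
noncomputable def selT9 (j : ℕ) : ℕ := (Bool.rec (motive := fun _ => ℕ) (Bool.rec (motive := fun _ => ℕ) (Bool.rec (motive := fun _ => ℕ) rl72 rl73 (Nat.ble 73 j)) (Bool.rec (motive := fun _ => ℕ) rl74 rl75 (Nat.ble 75 j)) (Nat.ble 74 j)) (Bool.rec (motive := fun _ => ℕ) (Bool.rec (motive := fun _ => ℕ) rl76 rl77 (Nat.ble 77 j)) (Bool.rec (motive := fun _ => ℕ) rl78 rl79 (Nat.ble 79 j)) (Nat.ble 78 j)) (Nat.ble 76 j))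

/-- a part of the choice of the part of the table -/
noncomputable def selT10 (j : ℕ) : ℕ := (Bool.rec (motive := fun _ => ℕ) (Bool.rec (motive := fun _ => ℕ) (Bool.rec (motive := fun _ => ℕ) rl80 rl81 (Nat.ble 81 j)) (Bool.rec (motive := fun _ => ℕ) rl82 rl83 (Nat.ble 83 j)) (Nat.ble 82 j)) (Bool.rec (motive := fun _ => ℕ) (Bool.rec (motive := fun _ => ℕ) rl84 rl85 (Nat.ble 85 j)) (Bool.rec (motive := fun _ => ℕ) rl86 rl87 (Nat.ble 87 j)) (Nat.ble 86 j)) (Nat.ble 84 j))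

/-- a part of the choice of the part of the table -/
noncomputable def selT11 (j : ℕ) : ℕ := (Bool.rec (motive := fun _ => ℕ) (Bool.rec (motive := fun _ => ℕ) (Bool.rec (motive := fun _ => ℕ) rl88 rl89 (Nat.ble 89 j)) (Bool.rec (motive := fun _ => ℕ) rl90 rl91 (Nat.ble 91 j)) (Nat.ble 90 j)) (Bool.rec (motive := fun _ => ℕ) (Bool.rec (motive := fun _ => ℕ) rl92 rl93 (Nat.ble 93 j)) (Bool.rec (motive := fun _ => ℕ) rl94 rl95 (Nat.ble 95 j)) (Nat.ble 94 j)) (Nat.ble 92 j))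

/-- a part of the choice of the part of the table -/
noncomputable def selT12 (j : ℕ) : ℕ := (Bool.rec (motive := fun _ => ℕ) (Bool.rec (motive := fun _ => ℕ) (Bool.rec (motive := fun _ => ℕ) rl96 rl97 (Nat.ble 97 j)) (Bool.rec (motive := fun _ => ℕ) rl98 rl99 (Nat.ble 99 j)) (Nat.ble 98 j)) (Bool.rec (motive := fun _ => ℕ) (Bool.rec (motive := fun _ => ℕ) rl100 rl101 (Nat.ble 101 j)) (Bool.rec (motive := fun _ => ℕ) rl102 rl103 (Nat.ble 103 j)) (Nat.ble 102 j)) (Nat.ble 100 j))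

/-- a part of the choice of the part of the table -/
noncomputable def selT13 (j : ℕ) : ℕ := (Bool.rec (motive := fun _ => ℕ) (Bool.rec (motive := fun _ => ℕ) (Bool.rec (motive := fun _ => ℕ) rl104 rl105 (Nat.ble 105 j)) (Bool.rec (motive := fun _ => ℕ) rl106 rl107 (Nat.ble 107 j)) (Nat.ble 106 j)) (Bool.rec (motive := fun _ => ℕ) (Bool.rec (motive := fun _ => ℕ) rl108 rl109 (Nat.ble 109 j)) (Bool.rec (motive := fun _ => ℕ) rl110 rl111 (Nat.ble 111 j)) (Nat.ble 110 j)) (Nat.ble 108 j))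

/-- a part of the choice of the part of the table -/
noncomputable def selT14 (j : ℕ) : ℕ := (Bool.rec (motive := fun _ => ℕ) (Bool.rec (motive := fun _ => ℕ) (Bool.rec (motive := fun _ => ℕ) rl112 rl113 (Nat.ble 113 j)) (Bool.rec (motive := fun _ => ℕ) rl114 rl115 (Nat.ble 115 j)) (Nat.ble 114 j)) (Bool.rec (motive := fun _ => ℕ) (Bool.rec (motive := fun _ => ℕ) rl116 rl117 (Nat.ble 117 j)) (Bool.rec (motive := fun _ => ℕ) rl118 rl119 (Nat.ble 119 j)) (Nat.ble 118 j)) (Nat.ble 116 j))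

/-- a part of the choice of the part of the table -/
noncomputable def selT15 (j : ℕ) : ℕ := (Bool.rec (motive := fun _ => ℕ) (Bool.rec (motive := fun _ => ℕ) (Bool.rec (motive := fun _ => ℕ) rl120 rl121 (Nat.ble 121 j)) (Bool.rec (motive := fun _ => ℕ) rl122 rl123 (Nat.ble 123 j)) (Nat.ble 122 j)) (Bool.rec (motive := fun _ => ℕ) (Bool.rec (motive := fun _ => ℕ) rl124 rl125 (Nat.ble 125 j)) (Bool.rec (motive := fun _ => ℕ) rl126 rl127 (Nat.ble 127 j)) (Nat.ble 126 j)) (Nat.ble 124 j))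

/-- a part of the choice of the part of the table -/
noncomputable def selT16 (j : ℕ) : ℕ := (Bool.rec (motive := fun _ => ℕ) (Bool.rec (motive := fun _ => ℕ) (Bool.rec (motive := fun _ => ℕ) rl128 rl129 (Nat.ble 129 j)) (Bool.rec (motive := fun _ => ℕ) rl130 rl131 (Nat.ble 131 j)) (Nat.ble 130 j)) (Bool.rec (motive := fun _ => ℕ) (Bool.rec (motive := fun _ => ℕ) rl132 rl133 (Nat.ble 133 j)) (Bool.rec (motive := fun _ => ℕ) rl134 rl135 (Nat.ble 135 j)) (Nat.ble 134 j)) (Nat.ble 132 j))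

/-- a part of the choice of the part of the table -/
noncomputable def selT17 (j : ℕ) : ℕ := (Bool.rec (motive := fun _ => ℕ) (Bool.rec (motive := fun _ => ℕ) (Bool.rec (motive := fun _ => ℕ) rl136 rl137 (Nat.ble 137 j)) (Bool.rec (motive := fun _ => ℕ) rl138 rl139 (Nat.ble 139 j)) (Nat.ble 138 j)) (Bool.rec (motive := fun _ => ℕ) (Bool.rec (motive := fun _ => ℕ) rl140 rl141 (Nat.ble 141 j)) (Bool.rec (motive := fun _ => ℕ) rl142 rl143 (Nat.ble 143 j)) (Nat.ble 142 j)) (Nat.ble 140 j))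

/-- a part of the choice of the part of the table -/
noncomputable def selT18 (j : ℕ) : ℕ := (Bool.rec (motive := fun _ => ℕ) (Bool.rec (motive := fun _ => ℕ) (Bool.rec (motive := fun _ => ℕ) rl144 rl145 (Nat.ble 145 j)) (Bool.rec (motive := fun _ => ℕ) rl146 rl147 (Nat.ble 147 j)) (Nat.ble 146 j)) (Bool.rec (motive := fun _ => ℕ) (Bool.rec (motive := fun _ => ℕ) rl148 rl149 (Nat.ble 149 j)) (Bool.rec (motive := fun _ => ℕ) rl150 rl151 (Nat.ble 151 j)) (Nat.ble 150 j)) (Nat.ble 148 j))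

/-- a part of the choice of the part of the table -/
noncomputable def selT19 (j : ℕ) : ℕ := (Bool.rec (motive := fun _ => ℕ) (Bool.rec (motive := fun _ => ℕ) (Bool.rec (motive := fun _ => ℕ) rl152 rl153 (Nat.ble 153 j)) (Bool.rec (motive := fun _ => ℕ) rl154 rl155 (Nat.ble 155 j)) (Nat.ble 154 j)) (Bool.rec (motive := fun _ => ℕ) (Bool.rec (motive := fun _ => ℕ) rl156 rl157 (Nat.ble 157 j)) (Bool.rec (motive := fun _ => ℕ) rl158 rl159 (Nat.ble 159 j)) (Nat.ble 158 j)) (Nat.ble 156 j))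

/-- a part of the choice of the part of the table -/
noncomputable def selT20 (j : ℕ) : ℕ := (Bool.rec (motive := fun _ => ℕ) (Bool.rec (motive := fun _ => ℕ) (Bool.rec (motive := fun _ => ℕ) rl160 rl161 (Nat.ble 161 j)) (Bool.rec (motive := fun _ => ℕ) rl162 rl163 (Nat.ble 163 j)) (Nat.ble 162 j)) (Bool.rec (motive := fun _ => ℕ) (Bool.rec (motive := fun _ => ℕ) rl164 rl165 (Nat.ble 165 j)) (Bool.rec (motive := fun _ => ℕ) rl166 rl167 (Nat.ble 167 j)) (Nat.ble 166 j)) (Nat.ble 164 j))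

/-- a part of the choice of the part of the table -/
noncomputable def selT21 (j : ℕ) : ℕ := (Bool.rec (motive := fun _ => ℕ) (Bool.rec (motive := fun _ => ℕ) (Bool.rec (motive := fun _ => ℕ) rl168 rl169 (Nat.ble 169 j)) (Bool.rec (motive := fun _ => ℕ) rl170 rl171 (Nat.ble 171 j)) (Nat.ble 170 j)) (Bool.rec (motive := fun _ => ℕ) (Bool.rec (motive := fun _ => ℕ) rl172 rl173 (Nat.ble 173 j)) (Bool.rec (motive := fun _ => ℕ) rl174 rl175 (Nat.ble 175 j)) (Nat.ble 174 j)) (Nat.ble 172 j))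

/-- a part of the choice of the part of the table -/
noncomputable def selT22 (j : ℕ) : ℕ := (Bool.rec (motive := fun _ => ℕ) (Bool.rec (motive := fun _ => ℕ) (Bool.rec (motive := fun _ => ℕ) rl176 rl177 (Nat.ble 177 j)) (Bool.rec (motive := fun _ => ℕ) rl178 rl179 (Nat.ble 179 j)) (Nat.ble 178 j)) (Bool.rec (motive := fun _ => ℕ) (Bool.rec (motive := fun _ => ℕ) rl180 rl181 (Nat.ble 181 j)) (Bool.rec (motive := fun _ => ℕ) rl182 rl183 (Nat.ble 183 j)) (Nat.ble 182 j)) (Nat.ble 180 j))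

/-- a part of the choice of the part of the table -/
noncomputable def selT23 (j : ℕ) : ℕ := (Bool.rec (motive := fun _ => ℕ) (Bool.rec (motive := fun _ => ℕ) (Bool.rec (motive := fun _ => ℕ) rl184 rl185 (Nat.ble 185 j)) (Bool.rec (motive := fun _ => ℕ) rl186 rl187 (Nat.ble 187 j)) (Nat.ble 186 j)) (Bool.rec (motive := fun _ => ℕ) (Bool.rec (motive := fun _ => ℕ) rl188 rl189 (Nat.ble 189 j)) (Bool.rec (motive := fun _ => ℕ) rl190 rl191 (Nat.ble 191 j)) (Nat.ble 190 j)) (Nat.ble 188 j))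

/-- a part of the choice of the part of the table -/
noncomputable def selT24 (j : ℕ) : ℕ := (Bool.rec (motive := fun _ => ℕ) (Bool.rec (motive := fun _ => ℕ) (Bool.rec (motive := fun _ => ℕ) rl192 rl193 (Nat.ble 193 j)) (Bool.rec (motive := fun _ => ℕ) rl194 rl195 (Nat.ble 195 j)) (Nat.ble 194 j)) (Bool.rec (motive := fun _ => ℕ) (Bool.rec (motive := fun _ => ℕ) rl196 rl197 (Nat.ble 197 j)) (Bool.rec (motive := fun _ => ℕ) rl198 rl199 (Nat.ble 199 j)) (Nat.ble 198 j)) (Nat.ble 196 j))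

/-- a part of the choice of the part of the table -/
noncomputable def selT25 (j : ℕ) : ℕ := (Bool.rec (motive := fun _ => ℕ) (Bool.rec (motive := fun _ => ℕ) (Bool.rec (motive := fun _ => ℕ) rl200 rl201 (Nat.ble 201 j)) (Bool.rec (motive := fun _ => ℕ) rl202 rl203 (Nat.ble 203 j)) (Nat.ble 202 j)) (Bool.rec (motive := fun _ => ℕ) (Bool.rec (motive := fun _ => ℕ) rl204 rl205 (Nat.ble 205 j)) (Bool.rec (motive := fun _ => ℕ) rl206 rl207 (Nat.ble 207 j)) (Nat.ble 206 j)) (Nat.ble 204 j))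

/-- a part of the choice of the part of the table -/
noncomputable def selT26 (j : ℕ) : ℕ := (Bool.rec (motive := fun _ => ℕ) (Bool.rec (motive := fun _ => ℕ) (Bool.rec (motive := fun _ => ℕ) rl208 rl209 (Nat.ble 209 j)) (Bool.rec (motive := fun _ => ℕ) rl210 rl211 (Nat.ble 211 j)) (Nat.ble 210 j)) (Bool.rec (motive := fun _ => ℕ) (Bool.rec (motive := fun _ => ℕ) rl212 rl213 (Nat.ble 213 j)) (Bool.rec (motive := fun _ => ℕ) rl214 rl215 (Nat.ble 215 j)) (Nat.ble 214 j)) (Nat.ble 212 j))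

/-- a part of the choice of the part of the table -/
noncomputable def selT27 (j : ℕ) : ℕ := (Bool.rec (motive := fun _ => ℕ) (Bool.rec (motive := fun _ => ℕ) (Bool.rec (motive := fun _ => ℕ) rl216 rl217 (Nat.ble 217 j)) (Bool.rec (motive := fun _ => ℕ) rl218 rl219 (Nat.ble 219 j)) (Nat.ble 218 j)) (Bool.rec (motive := fun _ => ℕ) (Bool.rec (motive := fun _ => ℕ) rl220 rl221 (Nat.ble 221 j)) (Bool.rec (motive := fun _ => ℕ) rl222 rl223 (Nat.ble 223 j)) (Nat.ble 222 j)) (Nat.ble 220 j))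

/-- a part of the choice of the part of the table -/
noncomputable def selT28 (j : ℕ) : ℕ := (Bool.rec (motive := fun _ => ℕ) (Bool.rec (motive := fun _ => ℕ) (Bool.rec (motive := fun _ => ℕ) rl224 rl225 (Nat.ble 225 j)) (Bool.rec (motive := fun _ => ℕ) rl226 rl227 (Nat.ble 227 j)) (Nat.ble 226 j)) (Bool.rec (motive := fun _ => ℕ) (Bool.rec (motive := fun _ => ℕ) rl228 rl229 (Nat.ble 229 j)) (Bool.rec (motive := fun _ => ℕ) rl230 rl231 (Nat.ble 231 j)) (Nat.ble 230 j)) (Nat.ble 228 j))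

/-- a part of the choice of the part of the table -/
noncomputable def selT29 (j : ℕ) : ℕ := (Bool.rec (motive := fun _ => ℕ) (Bool.rec (motive := fun _ => ℕ) (Bool.rec (motive := fun _ => ℕ) rl232 rl233 (Nat.ble 233 j)) (Bool.rec (motive := fun _ => ℕ) rl234 rl235 (Nat.ble 235 j)) (Nat.ble 234 j)) (Bool.rec (motive := fun _ => ℕ) (Bool.rec (motive := fun _ => ℕ) rl236 rl237 (Nat.ble 237 j)) (Bool.rec (motive := fun _ => ℕ) rl238 rl239 (Nat.ble 239 j)) (Nat.ble 238 j)) (Nat.ble 236 j))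

/-- a part of the choice of the part of the table -/
noncomputable def selT30 (j : ℕ) : ℕ := (Bool.rec (motive := fun _ => ℕ) (Bool.rec (motive := fun _ => ℕ) (Bool.rec (motive := fun _ => ℕ) rl240 rl241 (Nat.ble 241 j)) (Bool.rec (motive := fun _ => ℕ) rl242 rl243 (Nat.ble 243 j)) (Nat.ble 242 j)) (Bool.rec (motive := fun _ => ℕ) (Bool.rec (motive := fun _ => ℕ) rl244 rl245 (Nat.ble 245 j)) (Bool.rec (motive := fun _ => ℕ) rl246 rl247 (Nat.ble 247 j)) (Nat.ble 246 j)) (Nat.ble 244 j))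

/-- a part of the choice of the part of the table -/
noncomputable def selT31 (j : ℕ) : ℕ := (Bool.rec (motive := fun _ => ℕ) (Bool.rec (motive := fun _ => ℕ) (Bool.rec (motive := fun _ => ℕ) rl248 rl249 (Nat.ble 249 j)) (Bool.rec (motive := fun _ => ℕ) rl250 rl251 (Nat.ble 251 j)) (Nat.ble 250 j)) (Bool.rec (motive := fun _ => ℕ) (Bool.rec (motive := fun _ => ℕ) rl252 rl253 (Nat.ble 253 j)) (Bool.rec (motive := fun _ => ℕ) rl254 rl255 (Nat.ble 255 j)) (Nat.ble 254 j)) (Nat.ble 252 j))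

/-- a part of the choice of the part of the table -/
noncomputable def selT32 (j : ℕ) : ℕ := (Bool.rec (motive := fun _ => ℕ) (Bool.rec (motive := fun _ => ℕ) (Bool.rec (motive := fun _ => ℕ) rl256 rl257 (Nat.ble 257 j)) (Bool.rec (motive := fun _ => ℕ) rl258 rl259 (Nat.ble 259 j)) (Nat.ble 258 j)) (Bool.rec (motive := fun _ => ℕ) (Bool.rec (motive := fun _ => ℕ) rl260 rl261 (Nat.ble 261 j)) (Bool.rec (motive := fun _ => ℕ) rl262 rl263 (Nat.ble 263 j)) (Nat.ble 262 j)) (Nat.ble 260 j))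

/-- a part of the choice of the part of the table -/
noncomputable def selT33 (j : ℕ) : ℕ := (Bool.rec (motive := fun _ => ℕ) (Bool.rec (motive := fun _ => ℕ) (Bool.rec (motive := fun _ => ℕ) rl264 rl265 (Nat.ble 265 j)) (Bool.rec (motive := fun _ => ℕ) rl266 rl267 (Nat.ble 267 j)) (Nat.ble 266 j)) (Bool.rec (motive := fun _ => ℕ) (Bool.rec (motive := fun _ => ℕ) rl268 rl269 (Nat.ble 269 j)) (Bool.rec (motive := fun _ => ℕ) rl270 rl271 (Nat.ble 271 j)) (Nat.ble 270 j)) (Nat.ble 268 j))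

/-- a part of the choice of the part of the table -/
noncomputable def selT34 (j : ℕ) : ℕ := (Bool.rec (motive := fun _ => ℕ) (Bool.rec (motive := fun _ => ℕ) (Bool.rec (motive := fun _ => ℕ) rl272 rl273 (Nat.ble 273 j)) (Bool.rec (motive := fun _ => ℕ) rl274 rl275 (Nat.ble 275 j)) (Nat.ble 274 j)) (Bool.rec (motive := fun _ => ℕ) (Bool.rec (motive := fun _ => ℕ) rl276 rl277 (Nat.ble 277 j)) (Bool.rec (motive := fun _ => ℕ) rl278 rl279 (Nat.ble 279 j)) (Nat.ble 278 j)) (Nat.ble 276 j))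

/-- a part of the choice of the part of the table -/
noncomputable def selT35 (j : ℕ) : ℕ := (Bool.rec (motive := fun _ => ℕ) (Bool.rec (motive := fun _ => ℕ) (Bool.rec (motive := fun _ => ℕ) rl280 rl281 (Nat.ble 281 j)) (Bool.rec (motive := fun _ => ℕ) rl282 rl283 (Nat.ble 283 j)) (Nat.ble 282 j)) (Bool.rec (motive := fun _ => ℕ) (Bool.rec (motive := fun _ => ℕ) rl284 rl285 (Nat.ble 285 j)) (Bool.rec (motive := fun _ => ℕ) rl286 rl287 (Nat.ble 287 j)) (Nat.ble 286 j)) (Nat.ble 284 j))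

/-- a part of the choice of the part of the table -/
noncomputable def selT36 (j : ℕ) : ℕ := (Bool.rec (motive := fun _ => ℕ) (Bool.rec (motive := fun _ => ℕ) (Bool.rec (motive := fun _ => ℕ) rl288 rl289 (Nat.ble 289 j)) (Bool.rec (motive := fun _ => ℕ) rl290 rl291 (Nat.ble 291 j)) (Nat.ble 290 j)) (Bool.rec (motive := fun _ => ℕ) (Bool.rec (motive := fun _ => ℕ) rl292 rl293 (Nat.ble 293 j)) (Bool.rec (motive := fun _ => ℕ) rl294 rl295 (Nat.ble 295 j)) (Nat.ble 294 j)) (Nat.ble 292 j))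

/-- a part of the choice of the part of the table -/
noncomputable def selT37 (j : ℕ) : ℕ := (Bool.rec (motive := fun _ => ℕ) (Bool.rec (motive := fun _ => ℕ) (Bool.rec (motive := fun _ => ℕ) rl296 rl297 (Nat.ble 297 j)) (Bool.rec (motive := fun _ => ℕ) rl298 rl299 (Nat.ble 299 j)) (Nat.ble 298 j)) (Bool.rec (motive := fun _ => ℕ) (Bool.rec (motive := fun _ => ℕ) rl300 rl301 (Nat.ble 301 j)) (Bool.rec (motive := fun _ => ℕ) rl302 rl303 (Nat.ble 303 j)) (Nat.ble 302 j)) (Nat.ble 300 j))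

/-- a part of the choice of the part of the table -/
noncomputable def selT38 (j : ℕ) : ℕ := (Bool.rec (motive := fun _ => ℕ) (Bool.rec (motive := fun _ => ℕ) (Bool.rec (motive := fun _ => ℕ) rl304 rl305 (Nat.ble 305 j)) (Bool.rec (motive := fun _ => ℕ) rl306 rl307 (Nat.ble 307 j)) (Nat.ble 306 j)) (Bool.rec (motive := fun _ => ℕ) (Bool.rec (motive := fun _ => ℕ) rl308 rl309 (Nat.ble 309 j)) (Bool.rec (motive := fun _ => ℕ) rl310 rl311 (Nat.ble 311 j)) (Nat.ble 310 j)) (Nat.ble 308 j))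

/-- a part of the choice of the part of the table -/
noncomputable def selT39 (j : ℕ) : ℕ := (Bool.rec (motive := fun _ => ℕ) (Bool.rec (motive := fun _ => ℕ) (Bool.rec (motive := fun _ => ℕ) rl312 rl313 (Nat.ble 313 j)) (Bool.rec (motive := fun _ => ℕ) rl314 rl315 (Nat.ble 315 j)) (Nat.ble 314 j)) (Bool.rec (motive := fun _ => ℕ) (Bool.rec (motive := fun _ => ℕ) rl316 rl317 (Nat.ble 317 j)) (Bool.rec (motive := fun _ => ℕ) rl318 rl319 (Nat.ble 319 j)) (Nat.ble 318 j)) (Nat.ble 316 j))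

/-- a part of the choice of the part of the table -/
noncomputable def selT40 (j : ℕ) : ℕ := (Bool.rec (motive := fun _ => ℕ) (Bool.rec (motive := fun _ => ℕ) (Bool.rec (motive := fun _ => ℕ) rl320 rl321 (Nat.ble 321 j)) (Bool.rec (motive := fun _ => ℕ) rl322 rl323 (Nat.ble 323 j)) (Nat.ble 322 j)) (Bool.rec (motive := fun _ => ℕ) (Bool.rec (motive := fun _ => ℕ) rl324 rl325 (Nat.ble 325 j)) (Bool.rec (motive := fun _ => ℕ) rl326 rl327 (Nat.ble 327 j)) (Nat.ble 326 j)) (Nat.ble 324 j))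

/-- a part of the choice of the part of the table -/
noncomputable def selT41 (j : ℕ) : ℕ := (Bool.rec (motive := fun _ => ℕ) (Bool.rec (motive := fun _ => ℕ) (Bool.rec (motive := fun _ => ℕ) rl328 rl329 (Nat.ble 329 j)) (Bool.rec (motive := fun _ => ℕ) rl330 rl331 (Nat.ble 331 j)) (Nat.ble 330 j)) (Bool.rec (motive := fun _ => ℕ) (Bool.rec (motive := fun _ => ℕ) rl332 rl333 (Nat.ble 333 j)) (Bool.rec (motive := fun _ => ℕ) rl334 rl335 (Nat.ble 335 j)) (Nat.ble 334 j)) (Nat.ble 332 j))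

/-- a part of the choice of the part of the table -/
noncomputable def selT42 (j : ℕ) : ℕ := (Bool.rec (motive := fun _ => ℕ) (Bool.rec (motive := fun _ => ℕ) (Bool.rec (motive := fun _ => ℕ) rl336 rl337 (Nat.ble 337 j)) (Bool.rec (motive := fun _ => ℕ) rl338 rl339 (Nat.ble 339 j)) (Nat.ble 338 j)) (Bool.rec (motive := fun _ => ℕ) (Bool.rec (motive := fun _ => ℕ) rl340 rl341 (Nat.ble 341 j)) (Bool.rec (motive := fun _ => ℕ) rl342 rl343 (Nat.ble 343 j)) (Nat.ble 342 j)) (Nat.ble 340 j))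

/-- a part of the choice of the part of the table -/
noncomputable def selT43 (j : ℕ) : ℕ := (Bool.rec (motive := fun _ => ℕ) (Bool.rec (motive := fun _ => ℕ) (Bool.rec (motive := fun _ => ℕ) rl344 rl345 (Nat.ble 345 j)) (Bool.rec (motive := fun _ => ℕ) rl346 rl347 (Nat.ble 347 j)) (Nat.ble 346 j)) (Bool.rec (motive := fun _ => ℕ) (Bool.rec (motive := fun _ => ℕ) rl348 rl349 (Nat.ble 349 j)) (Bool.rec (motive := fun _ => ℕ) rl350 rl351 (Nat.ble 351 j)) (Nat.ble 350 j)) (Nat.ble 348 j))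

/-- a part of the choice of the part of the table -/
noncomputable def selT44 (j : ℕ) : ℕ := (Bool.rec (motive := fun _ => ℕ) (Bool.rec (motive := fun _ => ℕ) (Bool.rec (motive := fun _ => ℕ) rl352 rl353 (Nat.ble 353 j)) (Bool.rec (motive := fun _ => ℕ) rl354 rl355 (Nat.ble 355 j)) (Nat.ble 354 j)) (Bool.rec (motive := fun _ => ℕ) (Bool.rec (motive := fun _ => ℕ) rl356 rl357 (Nat.ble 357 j)) (Bool.rec (motive := fun _ => ℕ) rl358 rl359 (Nat.ble 359 j)) (Nat.ble 358 j)) (Nat.ble 356 j))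

/-- a part of the choice of the part of the table -/
noncomputable def selT45 (j : ℕ) : ℕ := (Bool.rec (motive := fun _ => ℕ) (Bool.rec (motive := fun _ => ℕ) (Bool.rec (motive := fun _ => ℕ) rl360 rl361 (Nat.ble 361 j)) (Bool.rec (motive := fun _ => ℕ) rl362 rl363 (Nat.ble 363 j)) (Nat.ble 362 j)) (Bool.rec (motive := fun _ => ℕ) (Bool.rec (motive := fun _ => ℕ) rl364 rl365 (Nat.ble 365 j)) (Bool.rec (motive := fun _ => ℕ) rl366 rl367 (Nat.ble 367 j)) (Nat.ble 366 j)) (Nat.ble 364 j))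

/-- a part of the choice of the part of the table -/
noncomputable def selT46 (j : ℕ) : ℕ := (Bool.rec (motive := fun _ => ℕ) (Bool.rec (motive := fun _ => ℕ) (Bool.rec (motive := fun _ => ℕ) rl368 rl369 (Nat.ble 369 j)) (Bool.rec (motive := fun _ => ℕ) rl370 rl371 (Nat.ble 371 j)) (Nat.ble 370 j)) (Bool.rec (motive := fun _ => ℕ) (Bool.rec (motive := fun _ => ℕ) rl372 rl373 (Nat.ble 373 j)) (Bool.rec (motive := fun _ => ℕ) rl374 rl375 (Nat.ble 375 j)) (Nat.ble 374 j)) (Nat.ble 372 j))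

/-- a part of the choice of the part of the table -/
noncomputable def selT47 (j : ℕ) : ℕ := (Bool.rec (motive := fun _ => ℕ) (Bool.rec (motive := fun _ => ℕ) (Bool.rec (motive := fun _ => ℕ) rl376 rl377 (Nat.ble 377 j)) (Bool.rec (motive := fun _ => ℕ) rl378 rl379 (Nat.ble 379 j)) (Nat.ble 378 j)) (Bool.rec (motive := fun _ => ℕ) (Bool.rec (motive := fun _ => ℕ) rl380 rl381 (Nat.ble 381 j)) (Bool.rec (motive := fun _ => ℕ) rl382 rl383 (Nat.ble 383 j)) (Nat.ble 382 j)) (Nat.ble 380 j))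

/-- the choice of the part of the table -/
noncomputable def selT (j : ℕ) : ℕ := (Bool.rec (motive := fun _ => ℕ) (Bool.rec (motive := fun _ => ℕ) (Bool.rec (motive := fun _ => ℕ) (Bool.rec (motive := fun _ => ℕ) (Bool.rec (motive := fun _ => ℕ) (selT0 j) (Bool.rec (motive := fun _ => ℕ) (selT1 j) (selT2 j) (Nat.ble 16 j)) (Nat.ble 8 j)) (Bool.rec (motive := fun _ => ℕ) (selT3 j) (Bool.rec (motive := fun _ => ℕ) (selT4 j) (selT5 j) (Nat.ble 40 j)) (Nat.ble 32 j)) (Nat.ble 24 j)) (Bool.rec (motive := fun _ => ℕ) (Bool.rec (motive := fun _ => ℕ) (selT6 j) (Bool.rec (motive := fun _ => ℕ) (selT7 j) (selT8 j) (Nat.ble 64 j)) (Nat.ble 56 j)) (Bool.rec (motive := fun _ => ℕ) (selT9 j) (Bool.rec (motive := fun _ => ℕ) (selT10 j) (selT11 j) (Nat.ble 88 j)) (Nat.ble 80 j)) (Nat.ble 72 j)) (Nat.ble 48 j)) (Bool.rec (motive := fun _ => ℕ) (Bool.rec (motive := fun _ => ℕ) (Bool.rec (motive := fun _ => ℕ) (selT12 j) (Bool.rec (motive :=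 fun _ => ℕ) (selT13 j) (selT14 j) (Nat.ble 112 j)) (Nat.ble 104 j)) (Bool.rec (motive := fun _ => ℕ) (selT15 j) (Bool.rec (motive := fun _ => ℕ) (selT16 j) (selT17 j) (Nat.ble 136 j)) (Nat.ble 128 j)) (Nat.ble 120 j)) (Bool.rec (motive := fun _ => ℕ) (Bool.rec (motive := fun _ => ℕ) (selT18 j) (Bool.rec (motive := fun _ => ℕ) (selT19 j) (selT20 j) (Nat.ble 160 j)) (Nat.ble 152 j)) (Bool.rec (motive := fun _ => ℕ) (selT21 j) (Bool.rec (motive := fun _ => ℕ) (selT22 j) (selT23 j) (Nat.ble 184 j)) (Nat.ble 176 j)) (Nat.ble 168 j)) (Nat.ble 144 j)) (Nat.ble 96 j)) (Bool.rec (motive := fun _ => ℕ) (Bool.rec (motive := fun _ => ℕ) (Bool.rec (motive := fun _ => ℕ) (Bool.rec (motive := fun _ => ℕ) (selT24 j) (Bool.rec (motive := fun _ => ℕ) (selT25 j) (selT26 j) (Nat.ble 208 j)) (Nat.ble 200 j)) (Bool.rec (motive := fun _ => ℕ) (selT27 j) (Bool.rec (motive := fun _ => ℕ) (selT28 j) (selT29 j) (Nat.ble 232 j)) (Nat.ble 224 j)) (Nat.ble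 216 j)) (Bool.rec (motive := fun _ => ℕ) (Bool.rec (motive := fun _ => ℕ) (selT30 j) (Bool.rec (motive := fun _ => ℕ) (selT31 j) (selT32 j) (Nat.ble 256 j)) (Nat.ble 248 j)) (Bool.rec (motive := fun _ => ℕ) (selT33 j) (Bool.rec (motive := fun _ => ℕ) (selT34 j) (selT35 j) (Nat.ble 280 j)) (Nat.ble 272 j)) (Nat.ble 264 j)) (Nat.ble 240 j)) (Bool.rec (motive := fun _ => ℕ) (Bool.rec (motive := fun _ => ℕ) (Bool.rec (motive := fun _ => ℕ) (selT36 j) (Bool.rec (motive := fun _ => ℕ) (selT37 j) (selT38 j) (Nat.ble 304 j)) (Nat.ble 296 j)) (Bool.rec (motive := fun _ => ℕ) (selT39 j) (Bool.rec (motive := fun _ => ℕ) (selT40 j) (selT41 j) (Nat.ble 328 j)) (Nat.ble 320 j)) (Nat.ble 312 j)) (Bool.rec (motive := fun _ => ℕ) (Bool.rec (motive := fun _ => ℕ) (selT42 j) (Bool.rec (motive := fun _ => ℕ) (selT43 j) (selT44 j) (Nat.ble 352 j)) (Nat.ble 344 j)) (Bool.rec (motive := fun _ => ℕ) (selT45 j) (Bool.rec (motive := fun _ => ℕ) (selT46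 j) (selT47 j) (Nat.ble 376 j)) (Nat.ble 368 j)) (Nat.ble 360 j)) (Nat.ble 336 j)) (Nat.ble 288 j)) (Nat.ble 192 j))

/-- a part of the choice of the part of the words -/
noncomputable def selW0 (j : ℕ) : ℕ := (Bool.rec (motive := fun _ => ℕ) (Bool.rec (motive := fun _ => ℕ) (Bool.rec (motive := fun _ => ℕ) wl0 wl1 (Nat.ble 1 j)) (Bool.rec (motive := fun _ => ℕ) wl2 wl3 (Nat.ble 3 j)) (Nat.ble 2 j)) (Bool.rec (motive := fun _ => ℕ) (Bool.rec (motive := fun _ => ℕ) wl4 wl5 (Nat.ble 5 j)) (Bool.rec (motive := fun _ => ℕ) wl6 wl7 (Nat.ble 7 j)) (Nat.ble 6 j)) (Nat.ble 4 j))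

/-- a part of the choice of the part of the words -/
noncomputable def selW1 (j : ℕ) : ℕ := (Bool.rec (motive := fun _ => ℕ) (Bool.rec (motive := fun _ => ℕ) (Bool.rec (motive := fun _ => ℕ) wl8 wl9 (Nat.ble 9 j)) (Bool.rec (motive := fun _ => ℕ) wl10 wl11 (Nat.ble 11 j)) (Nat.ble 10 j)) (Bool.rec (motive := fun _ => ℕ) (Bool.rec (motive := fun _ => ℕ) wl12 wl13 (Nat.ble 13 j)) (Bool.rec (motive := fun _ => ℕ) wl14 wl15 (Nat.ble 15 j)) (Nat.ble 14 j)) (Nat.ble 12 j))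

/-- a part of the choice of the part of the words -/
noncomputable def selW2 (j : ℕ) : ℕ := (Bool.rec (motive := fun _ => ℕ) (Bool.rec (motive := fun _ => ℕ) (Bool.rec (motive := fun _ => ℕ) wl16 wl17 (Nat.ble 17 j)) (Bool.rec (motive := fun _ => ℕ) wl18 wl19 (Nat.ble 19 j)) (Nat.ble 18 j)) (Bool.rec (motive := fun _ => ℕ) (Bool.rec (motive := fun _ => ℕ) wl20 wl21 (Nat.ble 21 j)) (Bool.rec (motive := fun _ => ℕ) wl22 wl23 (Nat.ble 23 j)) (Nat.ble 22 j)) (Nat.ble 20 j))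

/-- a part of the choice of the part of the words -/
noncomputable def selW3 (j : ℕ) : ℕ := (Bool.rec (motive := fun _ => ℕ) (Bool.rec (motive := fun _ => ℕ) (Bool.rec (motive := fun _ => ℕ) wl24 wl25 (Nat.ble 25 j)) (Bool.rec (motive := fun _ => ℕ) wl26 wl27 (Nat.ble 27 j)) (Nat.ble 26 j)) (Bool.rec (motive := fun _ => ℕ) (Bool.rec (motive := fun _ => ℕ) wl28 wl29 (Nat.ble 29 j)) (Bool.rec (motive := fun _ => ℕ) wl30 wl31 (Nat.ble 31 j)) (Nat.ble 30 j)) (Nat.ble 28 j))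

/-- a part of the choice of the part of the words -/
noncomputable def selW4 (j : ℕ) : ℕ := (Bool.rec (motive := fun _ => ℕ) (Bool.rec (motive := fun _ => ℕ) (Bool.rec (motive := fun _ => ℕ) wl32 wl33 (Nat.ble 33 j)) (Bool.rec (motive := fun _ => ℕ) wl34 wl35 (Nat.ble 35 j)) (Nat.ble 34 j)) (Bool.rec (motive := fun _ => ℕ) (Bool.rec (motive := fun _ => ℕ) wl36 wl37 (Nat.ble 37 j)) (Bool.rec (motive := fun _ => ℕ) wl38 wl39 (Nat.ble 39 j)) (Nat.ble 38 j)) (Nat.ble 36 j))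

/-- a part of the choice of the part of the words -/
noncomputable def selW5 (j : ℕ) : ℕ := (Bool.rec (motive := fun _ => ℕ) (Bool.rec (motive := fun _ => ℕ) (Bool.rec (motive := fun _ => ℕ) wl40 wl41 (Nat.ble 41 j)) (Bool.rec (motive := fun _ => ℕ) wl42 wl43 (Nat.ble 43 j)) (Nat.ble 42 j)) (Bool.rec (motive := fun _ => ℕ) (Bool.rec (motive := fun _ => ℕ) wl44 wl45 (Nat.ble 45 j)) (Bool.rec (motive := fun _ => ℕ) wl46 wl47 (Nat.ble 47 j)) (Nat.ble 46 j)) (Nat.ble 44 j))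

/-- a part of the choice of the part of the words -/
noncomputable def selW6 (j : ℕ) : ℕ := (Bool.rec (motive := fun _ => ℕ) (Bool.rec (motive := fun _ => ℕ) (Bool.rec (motive := fun _ => ℕ) wl48 wl49 (Nat.ble 49 j)) (Bool.rec (motive := fun _ => ℕ) wl50 wl51 (Nat.ble 51 j)) (Nat.ble 50 j)) (Bool.rec (motive := fun _ => ℕ) (Bool.rec (motive := fun _ => ℕ) wl52 wl53 (Nat.ble 53 j)) (Bool.rec (motive := fun _ => ℕ) wl54 wl55 (Nat.ble 55 j)) (Nat.ble 54 j)) (Nat.ble 52 j))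

/-- a part of the choice of the part of the words -/
noncomputable def selW7 (j : ℕ) : ℕ := (Bool.rec (motive := fun _ => ℕ) (Bool.rec (motive := fun _ => ℕ) (Bool.rec (motive := fun _ => ℕ) wl56 wl57 (Nat.ble 57 j)) (Bool.rec (motive := fun _ => ℕ) wl58 wl59 (Nat.ble 59 j)) (Nat.ble 58 j)) (Bool.rec (motive := fun _ => ℕ) (Bool.rec (motive := fun _ => ℕ) wl60 wl61 (Nat.ble 61 j)) (Bool.rec (motive := fun _ => ℕ) wl62 wl63 (Nat.ble 63 j)) (Nat.ble 62 j)) (Nat.ble 60 j))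

/-- a part of the choice of the part of the words -/
noncomputable def selW8 (j : ℕ) : ℕ := (Bool.rec (motive := fun _ => ℕ) (Bool.rec (motive := fun _ => ℕ) (Bool.rec (motive := fun _ => ℕ) wl64 wl65 (Nat.ble 65 j)) (Bool.rec (motive := fun _ => ℕ) wl66 wl67 (Nat.ble 67 j)) (Nat.ble 66 j)) (Bool.rec (motive := fun _ => ℕ) (Bool.rec (motive := fun _ => ℕ) wl68 wl69 (Nat.ble 69 j)) (Bool.rec (motive := fun _ => ℕ) wl70 wl71 (Nat.ble 71 j)) (Nat.ble 70 j)) (Nat.ble 68 j))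

/-- a part of the choice of the part of the words -/
noncomputable def selW9 (j : ℕ) : ℕ := (Bool.rec (motive := fun _ => ℕ) (Bool.rec (motive := fun _ => ℕ) (Bool.rec (motive := fun _ => ℕ) wl72 wl73 (Nat.ble 73 j)) (Bool.rec (motive := fun _ => ℕ) wl74 wl75 (Nat.ble 75 j)) (Nat.ble 74 j)) (Bool.rec (motive := fun _ => ℕ) (Bool.rec (motive := fun _ => ℕ) wl76 wl77 (Nat.ble 77 j)) (Bool.rec (motive := fun _ => ℕ) wl78 wl79 (Nat.ble 79 j)) (Nat.ble 78 j)) (Nat.ble 76 j))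

/-- a part of the choice of the part of the words -/
noncomputable def selW10 (j : ℕ) : ℕ := (Bool.rec (motive := fun _ => ℕ) (Bool.rec (motive := fun _ => ℕ) (Bool.rec (motive := fun _ => ℕ) wl80 wl81 (Nat.ble 81 j)) (Bool.rec (motive := fun _ => ℕ) wl82 wl83 (Nat.ble 83 j)) (Nat.ble 82 j)) (Bool.rec (motive := fun _ => ℕ) (Bool.rec (motive := fun _ => ℕ) wl84 wl85 (Nat.ble 85 j)) (Bool.rec (motive := fun _ => ℕ) wl86 wl87 (Nat.ble 87 j)) (Nat.ble 86 j)) (Nat.ble 84 j))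

/-- a part of the choice of the part of the words -/
noncomputable def selW11 (j : ℕ) : ℕ := (Bool.rec (motive := fun _ => ℕ) (Bool.rec (motive := fun _ => ℕ) (Bool.rec (motive := fun _ => ℕ) wl88 wl89 (Nat.ble 89 j)) (Bool.rec (motive := fun _ => ℕ) wl90 wl91 (Nat.ble 91 j)) (Nat.ble 90 j)) (Bool.rec (motive := fun _ => ℕ) (Bool.rec (motive := fun _ => ℕ) wl92 wl93 (Nat.ble 93 j)) (Bool.rec (motive := fun _ => ℕ) wl94 wl95 (Nat.ble 95 j)) (Nat.ble 94 j)) (Nat.ble 92 j))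

/-- a part of the choice of the part of the words -/
noncomputable def selW12 (j : ℕ) : ℕ := (Bool.rec (motive := fun _ => ℕ) (Bool.rec (motive := fun _ => ℕ) (Bool.rec (motive := fun _ => ℕ) wl96 wl97 (Nat.ble 97 j)) (Bool.rec (motive := fun _ => ℕ) wl98 wl99 (Nat.ble 99 j)) (Nat.ble 98 j)) (Bool.rec (motive := fun _ => ℕ) (Bool.rec (motive := fun _ => ℕ) wl100 wl101 (Nat.ble 101 j)) (Bool.rec (motive := fun _ => ℕ) wl102 wl103 (Nat.ble 103 j)) (Nat.ble 102 j)) (Nat.ble 100 j))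

/-- a part of the choice of the part of the words -/
noncomputable def selW13 (j : ℕ) : ℕ := (Bool.rec (motive := fun _ => ℕ) (Bool.rec (motive := fun _ => ℕ) (Bool.rec (motive := fun _ => ℕ) wl104 wl105 (Nat.ble 105 j)) (Bool.rec (motive := fun _ => ℕ) wl106 wl107 (Nat.ble 107 j)) (Nat.ble 106 j)) (Bool.rec (motive := fun _ => ℕ) (Bool.rec (motive := fun _ => ℕ) wl108 wl109 (Nat.ble 109 j)) (Bool.rec (motive := fun _ => ℕ) wl110 wl111 (Nat.ble 111 j)) (Nat.ble 110 j)) (Nat.ble 108 j))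

/-- a part of the choice of the part of the words -/
noncomputable def selW14 (j : ℕ) : ℕ := (Bool.rec (motive := fun _ => ℕ) (Bool.rec (motive := fun _ => ℕ) (Bool.rec (motive := fun _ => ℕ) wl112 wl113 (Nat.ble 113 j)) (Bool.rec (motive := fun _ => ℕ) wl114 wl115 (Nat.ble 115 j)) (Nat.ble 114 j)) (Bool.rec (motive := fun _ => ℕ) (Bool.rec (motive := fun _ => ℕ) wl116 wl117 (Nat.ble 117 j)) (Bool.rec (motive := fun _ => ℕ) wl118 wl119 (Nat.ble 119 j)) (Nat.ble 118 j)) (Nat.ble 116 j))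

/-- a part of the choice of the part of the words -/
noncomputable def selW15 (j : ℕ) : ℕ := (Bool.rec (motive := fun _ => ℕ) (Bool.rec (motive := fun _ => ℕ) (Bool.rec (motive := fun _ => ℕ) wl120 wl121 (Nat.ble 121 j)) (Bool.rec (motive := fun _ => ℕ) wl122 wl123 (Nat.ble 123 j)) (Nat.ble 122 j)) (Bool.rec (motive := fun _ => ℕ) (Bool.rec (motive := fun _ => ℕ) wl124 wl125 (Nat.ble 125 j)) (Bool.rec (motive := fun _ => ℕ) wl126 wl127 (Nat.ble 127 j)) (Nat.ble 126 j)) (Nat.ble 124 j))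

/-- a part of the choice of the part of the words -/
noncomputable def selW16 (j : ℕ) : ℕ := (Bool.rec (motive := fun _ => ℕ) (Bool.rec (motive := fun _ => ℕ) (Bool.rec (motive := fun _ => ℕ) wl128 wl129 (Nat.ble 129 j)) (Bool.rec (motive := fun _ => ℕ) wl130 wl131 (Nat.ble 131 j)) (Nat.ble 130 j)) (Bool.rec (motive := fun _ => ℕ) (Bool.rec (motive := fun _ => ℕ) wl132 wl133 (Nat.ble 133 j)) (Bool.rec (motive := fun _ => ℕ) wl134 wl135 (Nat.ble 135 j)) (Nat.ble 134 j)) (Nat.ble 132 j))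

/-- a part of the choice of the part of the words -/
noncomputable def selW17 (j : ℕ) : ℕ := (Bool.rec (motive := fun _ => ℕ) (Bool.rec (motive := fun _ => ℕ) (Bool.rec (motive := fun _ => ℕ) wl136 wl137 (Nat.ble 137 j)) (Bool.rec (motive := fun _ => ℕ) wl138 wl139 (Nat.ble 139 j)) (Nat.ble 138 j)) (Bool.rec (motive := fun _ => ℕ) (Bool.rec (motive := fun _ => ℕ) wl140 wl141 (Nat.ble 141 j)) (Bool.rec (motive := fun _ => ℕ) wl142 wl143 (Nat.ble 143 j)) (Nat.ble 142 j)) (Nat.ble 140 j))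

/-- a part of the choice of the part of the words -/
noncomputable def selW18 (j : ℕ) : ℕ := (Bool.rec (motive := fun _ => ℕ) (Bool.rec (motive := fun _ => ℕ) (Bool.rec (motive := fun _ => ℕ) wl144 wl145 (Nat.ble 145 j)) (Bool.rec (motive := fun _ => ℕ) wl146 wl147 (Nat.ble 147 j)) (Nat.ble 146 j)) (Bool.rec (motive := fun _ => ℕ) (Bool.rec (motive := fun _ => ℕ) wl148 wl149 (Nat.ble 149 j)) (Bool.rec (motive := fun _ => ℕ) wl150 wl151 (Nat.ble 151 j)) (Nat.ble 150 j)) (Nat.ble 148 j))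

/-- a part of the choice of the part of the words -/
noncomputable def selW19 (j : ℕ) : ℕ := (Bool.rec (motive := fun _ => ℕ) (Bool.rec (motive := fun _ => ℕ) (Bool.rec (motive := fun _ => ℕ) wl152 wl153 (Nat.ble 153 j)) (Bool.rec (motive := fun _ => ℕ) wl154 wl155 (Nat.ble 155 j)) (Nat.ble 154 j)) (Bool.rec (motive := fun _ => ℕ) (Bool.rec (motive := fun _ => ℕ) wl156 wl157 (Nat.ble 157 j)) (Bool.rec (motive := fun _ => ℕ) wl158 wl159 (Nat.ble 159 j)) (Nat.ble 158 j)) (Nat.ble 156 j))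

/-- a part of the choice of the part of the words -/
noncomputable def selW20 (j : ℕ) : ℕ := (Bool.rec (motive := fun _ => ℕ) (Bool.rec (motive := fun _ => ℕ) (Bool.rec (motive := fun _ => ℕ) wl160 wl161 (Nat.ble 161 j)) (Bool.rec (motive := fun _ => ℕ) wl162 wl163 (Nat.ble 163 j)) (Nat.ble 162 j)) (Bool.rec (motive := fun _ => ℕ) (Bool.rec (motive := fun _ => ℕ) wl164 wl165 (Nat.ble 165 j)) (Bool.rec (motive := fun _ => ℕ) wl166 wl167 (Nat.ble 167 j)) (Nat.ble 166 j)) (Nat.ble 164 j))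

/-- a part of the choice of the part of the words -/
noncomputable def selW21 (j : ℕ) : ℕ := (Bool.rec (motive := fun _ => ℕ) (Bool.rec (motive := fun _ => ℕ) (Bool.rec (motive := fun _ => ℕ) wl168 wl169 (Nat.ble 169 j)) (Bool.rec (motive := fun _ => ℕ) wl170 wl171 (Nat.ble 171 j)) (Nat.ble 170 j)) (Bool.rec (motive := fun _ => ℕ) (Bool.rec (motive := fun _ => ℕ) wl172 wl173 (Nat.ble 173 j)) (Bool.rec (motive := fun _ => ℕ) wl174 wl175 (Nat.ble 175 j)) (Nat.ble 174 j)) (Nat.ble 172 j))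

/-- a part of the choice of the part of the words -/
noncomputable def selW22 (j : ℕ) : ℕ := (Bool.rec (motive := fun _ => ℕ) (Bool.rec (motive := fun _ => ℕ) (Bool.rec (motive := fun _ => ℕ) wl176 wl177 (Nat.ble 177 j)) (Bool.rec (motive := fun _ => ℕ) wl178 wl179 (Nat.ble 179 j)) (Nat.ble 178 j)) (Bool.rec (motive := fun _ => ℕ) (Bool.rec (motive := fun _ => ℕ) wl180 wl181 (Nat.ble 181 j)) (Bool.rec (motive := fun _ => ℕ) wl182 wl183 (Nat.ble 183 j)) (Nat.ble 182 j)) (Nat.ble 180 j))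

/-- a part of the choice of the part of the words -/
noncomputable def selW23 (j : ℕ) : ℕ := (Bool.rec (motive := fun _ => ℕ) (Bool.rec (motive := fun _ => ℕ) (Bool.rec (motive := fun _ => ℕ) wl184 wl185 (Nat.ble 185 j)) (Bool.rec (motive := fun _ => ℕ) wl186 wl187 (Nat.ble 187 j)) (Nat.ble 186 j)) (Bool.rec (motive := fun _ => ℕ) (Bool.rec (motive := fun _ => ℕ) wl188 wl189 (Nat.ble 189 j)) (Bool.rec (motive := fun _ => ℕ) wl190 wl191 (Nat.ble 191 j)) (Nat.ble 190 j)) (Nat.ble 188 j))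

/-- a part of the choice of the part of the words -/
noncomputable def selW24 (j : ℕ) : ℕ := (Bool.rec (motive := fun _ => ℕ) (Bool.rec (motive := fun _ => ℕ) (Bool.rec (motive := fun _ => ℕ) wl192 wl193 (Nat.ble 193 j)) (Bool.rec (motive := fun _ => ℕ) wl194 wl195 (Nat.ble 195 j)) (Nat.ble 194 j)) (Bool.rec (motive := fun _ => ℕ) (Bool.rec (motive := fun _ => ℕ) wl196 wl197 (Nat.ble 197 j)) (Bool.rec (motive := fun _ => ℕ) wl198 wl199 (Nat.ble 199 j)) (Nat.ble 198 j)) (Nat.ble 196 j))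

/-- a part of the choice of the part of the words -/
noncomputable def selW25 (j : ℕ) : ℕ := (Bool.rec (motive := fun _ => ℕ) (Bool.rec (motive := fun _ => ℕ) (Bool.rec (motive := fun _ => ℕ) wl200 wl201 (Nat.ble 201 j)) (Bool.rec (motive := fun _ => ℕ) wl202 wl203 (Nat.ble 203 j)) (Nat.ble 202 j)) (Bool.rec (motive := fun _ => ℕ) (Bool.rec (motive := fun _ => ℕ) wl204 wl205 (Nat.ble 205 j)) (Bool.rec (motive := fun _ => ℕ) wl206 wl207 (Nat.ble 207 j)) (Nat.ble 206 j)) (Nat.ble 204 j))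

/-- a part of the choice of the part of the words -/
noncomputable def selW26 (j : ℕ) : ℕ := (Bool.rec (motive := fun _ => ℕ) (Bool.rec (motive := fun _ => ℕ) (Bool.rec (motive := fun _ => ℕ) wl208 wl209 (Nat.ble 209 j)) (Bool.rec (motive := fun _ => ℕ) wl210 wl211 (Nat.ble 211 j)) (Nat.ble 210 j)) (Bool.rec (motive := fun _ => ℕ) (Bool.rec (motive := fun _ => ℕ) wl212 wl213 (Nat.ble 213 j)) (Bool.rec (motive := fun _ => ℕ) wl214 wl215 (Nat.ble 215 j)) (Nat.ble 214 j)) (Nat.ble 212 j))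

/-- a part of the choice of the part of the words -/
noncomputable def selW27 (j : ℕ) : ℕ := (Bool.rec (motive := fun _ => ℕ) (Bool.rec (motive := fun _ => ℕ) (Bool.rec (motive := fun _ => ℕ) wl216 wl217 (Nat.ble 217 j)) (Bool.rec (motive := fun _ => ℕ) wl218 wl219 (Nat.ble 219 j)) (Nat.ble 218 j)) (Bool.rec (motive := fun _ => ℕ) (Bool.rec (motive := fun _ => ℕ) wl220 wl221 (Nat.ble 221 j)) (Bool.rec (motive := fun _ => ℕ) wl222 wl223 (Nat.ble 223 j)) (Nat.ble 222 j)) (Nat.ble 220 j))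

/-- a part of the choice of the part of the words -/
noncomputable def selW28 (j : ℕ) : ℕ := (Bool.rec (motive := fun _ => ℕ) (Bool.rec (motive := fun _ => ℕ) (Bool.rec (motive := fun _ => ℕ) wl224 wl225 (Nat.ble 225 j)) (Bool.rec (motive := fun _ => ℕ) wl226 wl227 (Nat.ble 227 j)) (Nat.ble 226 j)) (Bool.rec (motive := fun _ => ℕ) (Bool.rec (motive := fun _ => ℕ) wl228 wl229 (Nat.ble 229 j)) (Bool.rec (motive := fun _ => ℕ) wl230 wl231 (Nat.ble 231 j)) (Nat.ble 230 j)) (Nat.ble 228 j))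

/-- a part of the choice of the part of the words -/
noncomputable def selW29 (j : ℕ) : ℕ := (Bool.rec (motive := fun _ => ℕ) (Bool.rec (motive := fun _ => ℕ) (Bool.rec (motive := fun _ => ℕ) wl232 wl233 (Nat.ble 233 j)) (Bool.rec (motive := fun _ => ℕ) wl234 wl235 (Nat.ble 235 j)) (Nat.ble 234 j)) (Bool.rec (motive := fun _ => ℕ) (Bool.rec (motive := fun _ => ℕ) wl236 wl237 (Nat.ble 237 j)) (Bool.rec (motive := fun _ => ℕ) wl238 wl239 (Nat.ble 239 j)) (Nat.ble 238 j)) (Nat.ble 236 j))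

/-- a part of the choice of the part of the words -/
noncomputable def selW30 (j : ℕ) : ℕ := (Bool.rec (motive := fun _ => ℕ) (Bool.rec (motive := fun _ => ℕ) (Bool.rec (motive := fun _ => ℕ) wl240 wl241 (Nat.ble 241 j)) (Bool.rec (motive := fun _ => ℕ) wl242 wl243 (Nat.ble 243 j)) (Nat.ble 242 j)) (Bool.rec (motive := fun _ => ℕ) (Bool.rec (motive := fun _ => ℕ) wl244 wl245 (Nat.ble 245 j)) (Bool.rec (motive := fun _ => ℕ) wl246 wl247 (Nat.ble 247 j)) (Nat.ble 246 j)) (Nat.ble 244 j))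

/-- a part of the choice of the part of the words -/
noncomputable def selW31 (j : ℕ) : ℕ := (Bool.rec (motive := fun _ => ℕ) (Bool.rec (motive := fun _ => ℕ) (Bool.rec (motive := fun _ => ℕ) wl248 wl249 (Nat.ble 249 j)) (Bool.rec (motive := fun _ => ℕ) wl250 wl251 (Nat.ble 251 j)) (Nat.ble 250 j)) (Bool.rec (motive := fun _ => ℕ) (Bool.rec (motive := fun _ => ℕ) wl252 wl253 (Nat.ble 253 j)) (Bool.rec (motive := fun _ => ℕ) wl254 wl255 (Nat.ble 255 j)) (Nat.ble 254 j)) (Nat.ble 252 j))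

/-- a part of the choice of the part of the words -/
noncomputable def selW32 (j : ℕ) : ℕ := (Bool.rec (motive := fun _ => ℕ) (Bool.rec (motive := fun _ => ℕ) (Bool.rec (motive := fun _ => ℕ) wl256 wl257 (Nat.ble 257 j)) (Bool.rec (motive := fun _ => ℕ) wl258 wl259 (Nat.ble 259 j)) (Nat.ble 258 j)) (Bool.rec (motive := fun _ => ℕ) (Bool.rec (motive := fun _ => ℕ) wl260 wl261 (Nat.ble 261 j)) (Bool.rec (motive := fun _ => ℕ) wl262 wl263 (Nat.ble 263 j)) (Nat.ble 262 j)) (Nat.ble 260 j))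

/-- a part of the choice of the part of the words -/
noncomputable def selW33 (j : ℕ) : ℕ := (Bool.rec (motive := fun _ => ℕ) (Bool.rec (motive := fun _ => ℕ) (Bool.rec (motive := fun _ => ℕ) wl264 wl265 (Nat.ble 265 j)) (Bool.rec (motive := fun _ => ℕ) wl266 wl267 (Nat.ble 267 j)) (Nat.ble 266 j)) (Bool.rec (motive := fun _ => ℕ) (Bool.rec (motive := fun _ => ℕ) wl268 wl269 (Nat.ble 269 j)) (Bool.rec (motive := fun _ => ℕ) wl270 wl271 (Nat.ble 271 j)) (Nat.ble 270 j)) (Nat.ble 268 j))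

/-- a part of the choice of the part of the words -/
noncomputable def selW34 (j : ℕ) : ℕ := (Bool.rec (motive := fun _ => ℕ) (Bool.rec (motive := fun _ => ℕ) (Bool.rec (motive := fun _ => ℕ) wl272 wl273 (Nat.ble 273 j)) (Bool.rec (motive := fun _ => ℕ) wl274 wl275 (Nat.ble 275 j)) (Nat.ble 274 j)) (Bool.rec (motive := fun _ => ℕ) (Bool.rec (motive := fun _ => ℕ) wl276 wl277 (Nat.ble 277 j)) (Bool.rec (motive := fun _ => ℕ) wl278 wl279 (Nat.ble 279 j)) (Nat.ble 278 j)) (Nat.ble 276 j))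

/-- a part of the choice of the part of the words -/
noncomputable def selW35 (j : ℕ) : ℕ := (Bool.rec (motive := fun _ => ℕ) (Bool.rec (motive := fun _ => ℕ) (Bool.rec (motive := fun _ => ℕ) wl280 wl281 (Nat.ble 281 j)) (Bool.rec (motive := fun _ => ℕ) wl282 wl283 (Nat.ble 283 j)) (Nat.ble 282 j)) (Bool.rec (motive := fun _ => ℕ) (Bool.rec (motive := fun _ => ℕ) wl284 wl285 (Nat.ble 285 j)) (Bool.rec (motive := fun _ => ℕ) wl286 wl287 (Nat.ble 287 j)) (Nat.ble 286 j)) (Nat.ble 284 j))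

/-- a part of the choice of the part of the words -/
noncomputable def selW36 (j : ℕ) : ℕ := (Bool.rec (motive := fun _ => ℕ) (Bool.rec (motive := fun _ => ℕ) (Bool.rec (motive := fun _ => ℕ) wl288 wl289 (Nat.ble 289 j)) (Bool.rec (motive := fun _ => ℕ) wl290 wl291 (Nat.ble 291 j)) (Nat.ble 290 j)) (Bool.rec (motive := fun _ => ℕ) (Bool.rec (motive := fun _ => ℕ) wl292 wl293 (Nat.ble 293 j)) (Bool.rec (motive := fun _ => ℕ) wl294 wl295 (Nat.ble 295 j)) (Nat.ble 294 j)) (Nat.ble 292 j))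

/-- a part of the choice of the part of the words -/
noncomputable def selW37 (j : ℕ) : ℕ := (Bool.rec (motive := fun _ => ℕ) (Bool.rec (motive := fun _ => ℕ) (Bool.rec (motive := fun _ => ℕ) wl296 wl297 (Nat.ble 297 j)) (Bool.rec (motive := fun _ => ℕ) wl298 wl299 (Nat.ble 299 j)) (Nat.ble 298 j)) (Bool.rec (motive := fun _ => ℕ) (Bool.rec (motive := fun _ => ℕ) wl300 wl301 (Nat.ble 301 j)) (Bool.rec (motive := fun _ => ℕ) wl302 wl303 (Nat.ble 303 j)) (Nat.ble 302 j)) (Nat.ble 300 j))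

/-- a part of the choice of the part of the words -/
noncomputable def selW38 (j : ℕ) : ℕ := (Bool.rec (motive := fun _ => ℕ) (Bool.rec (motive := fun _ => ℕ) (Bool.rec (motive := fun _ => ℕ) wl304 wl305 (Nat.ble 305 j)) (Bool.rec (motive := fun _ => ℕ) wl306 wl307 (Nat.ble 307 j)) (Nat.ble 306 j)) (Bool.rec (motive := fun _ => ℕ) (Bool.rec (motive := fun _ => ℕ) wl308 wl309 (Nat.ble 309 j)) (Bool.rec (motive := fun _ => ℕ) wl310 wl311 (Nat.ble 311 j)) (Nat.ble 310 j)) (Nat.ble 308 j))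

/-- a part of the choice of the part of the words -/
noncomputable def selW39 (j : ℕ) : ℕ := (Bool.rec (motive := fun _ => ℕ) (Bool.rec (motive := fun _ => ℕ) (Bool.rec (motive := fun _ => ℕ) wl312 wl313 (Nat.ble 313 j)) (Bool.rec (motive := fun _ => ℕ) wl314 wl315 (Nat.ble 315 j)) (Nat.ble 314 j)) (Bool.rec (motive := fun _ => ℕ) (Bool.rec (motive := fun _ => ℕ) wl316 wl317 (Nat.ble 317 j)) (Bool.rec (motive := fun _ => ℕ) wl318 wl319 (Nat.ble 319 j)) (Nat.ble 318 j)) (Nat.ble 316 j))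

/-- a part of the choice of the part of the words -/
noncomputable def selW40 (j : ℕ) : ℕ := (Bool.rec (motive := fun _ => ℕ) (Bool.rec (motive := fun _ => ℕ) (Bool.rec (motive := fun _ => ℕ) wl320 wl321 (Nat.ble 321 j)) (Bool.rec (motive := fun _ => ℕ) wl322 wl323 (Nat.ble 323 j)) (Nat.ble 322 j)) (Bool.rec (motive := fun _ => ℕ) (Bool.rec (motive := fun _ => ℕ) wl324 wl325 (Nat.ble 325 j)) (Bool.rec (motive := fun _ => ℕ) wl326 wl327 (Nat.ble 327 j)) (Nat.ble 326 j)) (Nat.ble 324 j))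

/-- a part of the choice of the part of the words -/
noncomputable def selW41 (j : ℕ) : ℕ := (Bool.rec (motive := fun _ => ℕ) (Bool.rec (motive := fun _ => ℕ) (Bool.rec (motive := fun _ => ℕ) wl328 wl329 (Nat.ble 329 j)) (Bool.rec (motive := fun _ => ℕ) wl330 wl331 (Nat.ble 331 j)) (Nat.ble 330 j)) (Bool.rec (motive := fun _ => ℕ) (Bool.rec (motive := fun _ => ℕ) wl332 wl333 (Nat.ble 333 j)) (Bool.rec (motive := fun _ => ℕ) wl334 wl335 (Nat.ble 335 j)) (Nat.ble 334 j)) (Nat.ble 332 j))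

/-- a part of the choice of the part of the words -/
noncomputable def selW42 (j : ℕ) : ℕ := (Bool.rec (motive := fun _ => ℕ) (Bool.rec (motive := fun _ => ℕ) (Bool.rec (motive := fun _ => ℕ) wl336 wl337 (Nat.ble 337 j)) (Bool.rec (motive := fun _ => ℕ) wl338 wl339 (Nat.ble 339 j)) (Nat.ble 338 j)) (Bool.rec (motive := fun _ => ℕ) (Bool.rec (motive := fun _ => ℕ) wl340 wl341 (Nat.ble 341 j)) (Bool.rec (motive := fun _ => ℕ) wl342 wl343 (Nat.ble 343 j)) (Nat.ble 342 j)) (Nat.ble 340 j))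

/-- a part of the choice of the part of the words -/
noncomputable def selW43 (j : ℕ) : ℕ := (Bool.rec (motive := fun _ => ℕ) (Bool.rec (motive := fun _ => ℕ) (Bool.rec (motive := fun _ => ℕ) wl344 wl345 (Nat.ble 345 j)) (Bool.rec (motive := fun _ => ℕ) wl346 wl347 (Nat.ble 347 j)) (Nat.ble 346 j)) (Bool.rec (motive := fun _ => ℕ) (Bool.rec (motive := fun _ => ℕ) wl348 wl349 (Nat.ble 349 j)) (Bool.rec (motive := fun _ => ℕ) wl350 wl351 (Nat.ble 351 j)) (Nat.ble 350 j)) (Nat.ble 348 j))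

/-- a part of the choice of the part of the words -/
noncomputable def selW44 (j : ℕ) : ℕ := (Bool.rec (motive := fun _ => ℕ) (Bool.rec (motive := fun _ => ℕ) (Bool.rec (motive := fun _ => ℕ) wl352 wl353 (Nat.ble 353 j)) (Bool.rec (motive := fun _ => ℕ) wl354 wl355 (Nat.ble 355 j)) (Nat.ble 354 j)) (Bool.rec (motive := fun _ => ℕ) (Bool.rec (motive := fun _ => ℕ) wl356 wl357 (Nat.ble 357 j)) (Bool.rec (motive := fun _ => ℕ) wl358 wl359 (Nat.ble 359 j)) (Nat.ble 358 j)) (Nat.ble 356 j))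

/-- a part of the choice of the part of the words -/
noncomputable def selW45 (j : ℕ) : ℕ := (Bool.rec (motive := fun _ => ℕ) (Bool.rec (motive := fun _ => ℕ) (Bool.rec (motive := fun _ => ℕ) wl360 wl361 (Nat.ble 361 j)) (Bool.rec (motive := fun _ => ℕ) wl362 wl363 (Nat.ble 363 j)) (Nat.ble 362 j)) (Bool.rec (motive := fun _ => ℕ) (Bool.rec (motive := fun _ => ℕ) wl364 wl365 (Nat.ble 365 j)) (Bool.rec (motive := fun _ => ℕ) wl366 wl367 (Nat.ble 367 j)) (Nat.ble 366 j)) (Nat.ble 364 j))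

/-- a part of the choice of the part of the words -/
noncomputable def selW46 (j : ℕ) : ℕ := (Bool.rec (motive := fun _ => ℕ) (Bool.rec (motive := fun _ => ℕ) (Bool.rec (motive := fun _ => ℕ) wl368 wl369 (Nat.ble 369 j)) (Bool.rec (motive := fun _ => ℕ) wl370 wl371 (Nat.ble 371 j)) (Nat.ble 370 j)) (Bool.rec (motive := fun _ => ℕ) (Bool.rec (motive := fun _ => ℕ) wl372 wl373 (Nat.ble 373 j)) (Bool.rec (motive := fun _ => ℕ) wl374 wl375 (Nat.ble 375 j)) (Nat.ble 374 j)) (Nat.ble 372 j))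

/-- a part of the choice of the part of the words -/
noncomputable def selW47 (j : ℕ) : ℕ := (Bool.rec (motive := fun _ => ℕ) (Bool.rec (motive := fun _ => ℕ) (Bool.rec (motive := fun _ => ℕ) wl376 wl377 (Nat.ble 377 j)) (Bool.rec (motive := fun _ => ℕ) wl378 wl379 (Nat.ble 379 j)) (Nat.ble 378 j)) (Bool.rec (motive := fun _ => ℕ) (Bool.rec (motive := fun _ => ℕ) wl380 wl381 (Nat.ble 381 j)) (Bool.rec (motive := fun _ => ℕ) wl382 wl383 (Nat.ble 383 j)) (Nat.ble 382 j)) (Nat.ble 380 j))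

/-- a part of the choice of the part of the words -/
noncomputable def selW48 (j : ℕ) : ℕ := (Bool.rec (motive := fun _ => ℕ) (Bool.rec (motive := fun _ => ℕ) (Bool.rec (motive := fun _ => ℕ) wl384 wl385 (Nat.ble 385 j)) (Bool.rec (motive := fun _ => ℕ) wl386 wl387 (Nat.ble 387 j)) (Nat.ble 386 j)) (Bool.rec (motive := fun _ => ℕ) (Bool.rec (motive := fun _ => ℕ) wl388 wl389 (Nat.ble 389 j)) (Bool.rec (motive := fun _ => ℕ) wl390 wl391 (Nat.ble 391 j)) (Nat.ble 390 j)) (Nat.ble 388 j))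

/-- a part of the choice of the part of the words -/
noncomputable def selW49 (j : ℕ) : ℕ := (Bool.rec (motive := fun _ => ℕ) (Bool.rec (motive := fun _ => ℕ) (Bool.rec (motive := fun _ => ℕ) wl392 wl393 (Nat.ble 393 j)) (Bool.rec (motive := fun _ => ℕ) wl394 wl395 (Nat.ble 395 j)) (Nat.ble 394 j)) (Bool.rec (motive := fun _ => ℕ) (Bool.rec (motive := fun _ => ℕ) wl396 wl397 (Nat.ble 397 j)) (Bool.rec (motive := fun _ => ℕ) wl398 wl399 (Nat.ble 399 j)) (Nat.ble 398 j)) (Nat.ble 396 j))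

/-- a part of the choice of the part of the words -/
noncomputable def selW50 (j : ℕ) : ℕ := (Bool.rec (motive := fun _ => ℕ) wl400 (Bool.rec (motive := fun _ => ℕ) wl401 wl402 (Nat.ble 402 j)) (Nat.ble 401 j))

/-- the choice of the part of the words -/
noncomputable def selW (j : ℕ) : ℕ := (Bool.rec (motive := fun _ => ℕ) (Bool.rec (motive := fun _ => ℕ) (Bool.rec (motive := fun _ => ℕ) (Bool.rec (motive := fun _ => ℕ) (Bool.rec (motive := fun _ => ℕ) (selW0 j) (Bool.rec (motive := fun _ => ℕ) (selW1 j) (selW2 j) (Nat.ble 16 j)) (Nat.ble 8 j)) (Bool.rec (motive := fun _ => ℕ) (selW3 j) (Bool.rec (motive := fun _ => ℕ) (selW4 j) (selW5 j) (Nat.ble 40 j)) (Nat.ble 32 j)) (Nat.ble 24 j)) (Bool.rec (motive := fun _ => ℕ) (Bool.rec (motive := fun _ => ℕ) (selW6 j) (Bool.rec (motive := fun _ => ℕ) (selW7 j) (selW8 j) (Nat.ble 64 j)) (Nat.ble 56 j)) (Bool.rec (motive := fun _ => ℕ) (selW9 j) (Bool.rec (motive := fun _ => ℕ) (selW10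 j) (selW11 j) (Nat.ble 88 j)) (Nat.ble 80 j)) (Nat.ble 72 j)) (Nat.ble 48 j)) (Bool.rec (motive := fun _ => ℕ) (Bool.rec (motive := fun _ => ℕ) (Bool.rec (motive := fun _ => ℕ) (selW12 j) (Bool.rec (motive := fun _ => ℕ) (selW13 j) (selW14 j) (Nat.ble 112 j)) (Nat.ble 104 j)) (Bool.rec (motive := fun _ => ℕ) (selW15 j) (Bool.rec (motive := fun _ => ℕ) (selW16 j) (selW17 j) (Nat.ble 136 j)) (Nat.ble 128 j)) (Nat.ble 120 j)) (Bool.rec (motive := fun _ => ℕ) (Bool.rec (motive := fun _ => ℕ) (selW18 j) (Bool.rec (motive := fun _ => ℕ) (selW19 j) (selW20 j) (Nat.ble 160 j)) (Nat.ble 152 j)) (Bool.rec (motive := fun _ => ℕ) (Bool.rec (motive := fun _ => ℕ) (selW21 j) (selW22 j) (Nat.ble 176 j)) (Bool.rec (motive := fun _ => ℕ) (selW23 j) (selW24 j) (Nat.ble 192 j)) (Nat.ble 184 j)) (Nat.ble 168 j)) (Nat.ble 144 j)) (Nat.ble 96 j)) (Bool.rec (motive := fun _ => ℕ) (Bool.rec (motive := fun _ => ℕ) (Bool.rec (motive := fun _ => ℕ) (Bool.rec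 (motive := fun _ => ℕ) (selW25 j) (Bool.rec (motive := fun _ => ℕ) (selW26 j) (selW27 j) (Nat.ble 216 j)) (Nat.ble 208 j)) (Bool.rec (motive := fun _ => ℕ) (selW28 j) (Bool.rec (motive := fun _ => ℕ) (selW29 j) (selW30 j) (Nat.ble 240 j)) (Nat.ble 232 j)) (Nat.ble 224 j)) (Bool.rec (motive := fun _ => ℕ) (Bool.rec (motive := fun _ => ℕ) (selW31 j) (Bool.rec (motive := fun _ => ℕ) (selW32 j) (selW33 j) (Nat.ble 264 j)) (Nat.ble 256 j)) (Bool.rec (motive := fun _ => ℕ) (Bool.rec (motive := fun _ => ℕ) (selW34 j) (selW35 j) (Nat.ble 280 j)) (Bool.rec (motive := fun _ => ℕ) (selW36 j) (selW37 j) (Nat.ble 296 j)) (Nat.ble 288 j)) (Nat.ble 272 j)) (Nat.ble 248 j)) (Bool.rec (motive := fun _ => ℕ) (Bool.rec (motive := fun _ => ℕ) (Bool.rec (motive := fun _ => ℕ) (selW38 j) (Bool.rec (motive := fun _ => ℕ) (selW39 j) (selW40 j) (Nat.ble 320 j)) (Nat.ble 312 j)) (Bool.rec (motive := fun _ => ℕ) (selW41 j) (Bool.rec (motive := fun _ =>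 ℕ) (selW42 j) (selW43 j) (Nat.ble 344 j)) (Nat.ble 336 j)) (Nat.ble 328 j)) (Bool.rec (motive := fun _ => ℕ) (Bool.rec (motive := fun _ => ℕ) (selW44 j) (Bool.rec (motive := fun _ => ℕ) (selW45 j) (selW46 j) (Nat.ble 368 j)) (Nat.ble 360 j)) (Bool.rec (motive := fun _ => ℕ) (Bool.rec (motive := fun _ => ℕ) (selW47 j) (selW48 j) (Nat.ble 384 j)) (Bool.rec (motive := fun _ => ℕ) (selW49 j) (selW50 j) (Nat.ble 400 j)) (Nat.ble 392 j)) (Nat.ble 376 j)) (Nat.ble 352 j)) (Nat.ble 304 j)) (Nat.ble 200 j))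

/-- a row of the table, shifted by `k` binary digits -/
noncomputable def rowSh (a k : ℕ) : ℕ :=
  strictN a fun a' => Nat.shiftRight (selT (Nat.shiftRight a' 8)) (Nat.add (Nat.mul 756 (Nat.land a' 255)) k)

/-- the record of a word -/
noncomputable def wrec (i : ℕ) : ℕ :=
  strictN i fun i' => Nat.land (Nat.shiftRight (selW (Nat.shiftRight i' 8)) (Nat.mul 588 (Nat.land i' 255))) 1013065324433836171511818326096474890383898005918563696288002277756507034036354527929615978746851512277392062160962106733983191180520452956027069051297354415786421338721071661055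

/-- the letters of a packed word, four binary digits for each -/
def unpL (k : ℕ) : ℕ → List ℕ :=
  Nat.rec (motive := fun _ => ℕ → List ℕ) (fun _ => []) (fun _ ih v => strictN (Nat.shiftRight v 4) fun v' => Nat.land v 15 :: ih v') k

/-- a word -/
noncomputable def wordOf (i : ℕ) : List ℕ :=
  strictN (wrec i) fun v => unpL (Nat.land (Nat.shiftRight v 92) 255) (Nat.shiftRight v 100)

/-- the certificate -/
noncomputable def cert : VCert where
  n := 98280
  g := 6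
  k := 3
  nW := 103143
  B := 2048
  iv := fun x => cond (Nat.blt x 4) x (Nat.sub 9 x)
  sub := fun x => Nat.beq x 0 || Nat.beq x 1 || Nat.beq x 2 || Nat.beq x 3
  sl := fun a x => Nat.land (rowSh a (Nat.mul 122 x)) 5316911983139663491615228241121378303
  pr := fun a => Nat.land (rowSh a 732) 16777215
  W := wordOf
  rhs := fun i => Nat.land (Nat.shiftRight (wrec i) 32) 1152921504606846975
  wT := fun i => Nat.land (wrec i) 4095
  wA := fun i => Nat.land (Nat.shiftRight (wrec i) 12) 1048575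

/-- the check of the rows from `lo` to `lo + k` -/
noncomputable def rowsOK (lo k : ℕ) : Bool := allN k fun i => allN 6 fun x => cert.slotOKR (Nat.add lo i) x

/-- the check of the words from `lo` to `lo + k` -/
noncomputable def wordsOK (lo k : ℕ) : Bool := allN k fun i => cert.wordOKR (Nat.add lo i)

/-- the check that a word given at the start has letters of the subgroup only and the trivial class -/
noncomputable def pureOK (i : ℕ) : Bool :=
  strictN (wrec i) fun v =>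
    Nat.blt 0 (Nat.land v 4095) ||
      ((unpL (Nat.land (Nat.shiftRight v 92) 255) (Nat.shiftRight v 100)).all (fun x => Nat.blt x 4) &&
        Nat.beq (Nat.land (Nat.shiftRight v 32) 1152921504606846975) (Nat.mul (Nat.land (Nat.shiftRight v 92) 255) 2251801961170944))

/-- the check of the given words from `lo` to `lo + k` -/
noncomputable def puresOK (lo k : ℕ) : Bool := allN k fun i => pureOK (Nat.add lo i)

end Cfsg.Agent.Lib.Helper7.Co1T
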