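import Cfsg.Agent.Lib.Helper7.Co1ML0
import Cfsg.Agent.Lib.Helper7.Co1ML1
import Cfsg.Agent.Lib.Helper7.Co1ML2
import Cfsg.Agent.Lib.Helper7.Co1ML3
import Cfsg.Agent.Lib.Helper7.Co1ML4
import Cfsg.Agent.Lib.Helper7.Co1TC

/-! # The multiplier of the first Conway group, the letters as permutations of the 98280 pairs of minimal vectors: words traced on the base points (generated) -/

set_option autoImplicit false

namespace Cfsg.Agent.Lib.Helper7.Co1T

open Cfsg.Agent.Lib.Helper7.MG2 Cfsg.Agent.Lib.Helper7.HSMult

/-- the table of a letter: the first four letters generate the stabiliser of a point, the last two are an involution that moves it -/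
noncomputable def tl (y q : ℕ) : ℕ :=
  Bool.rec (motive := fun _ => ℕ)
    (Bool.rec (motive := fun _ => ℕ)
      (Bool.rec (motive := fun _ => ℕ) (tlx0 q) (tlx1 q) (Nat.ble 1 y))
      (Bool.rec (motive := fun _ => ℕ) (tlx2 q) (tlx3 q) (Nat.ble 3 y)) (Nat.ble 2 y))
    (Bool.rec (motive := fun _ => ℕ) (tlx4 q) q (Nat.ble 6 y)) (Nat.ble 4 y)

/-- the image of a point under the product of the letters of a word; the last letter acts first -/
noncomputable def traceG (w : List ℕ) (q : ℕ) : ℕ := List.rec (motive := fun _ => ℕ) q (fun y _ ih => tl y ih) w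

/-- the product of the letters of a word fixes the base points -/
noncomputable def fixesBase (w : List ℕ) : Bool := Nat.beq (traceG w 1000) 1000 && Nat.beq (traceG w 27425) 27425 && Nat.beq (traceG w 17791) 17791 && Nat.beq (traceG w 24000) 24000 && Nat.beq (traceG w 15574) 15574

/-- the words from `lo` to `lo + k` of the certificate fix the base points -/
noncomputable def wordsG (lo k : ℕ) : Bool := allN k fun i => strictL (cert.W (Nat.add lo i)) fun w => fixesBase w

end Cfsg.Agent.Lib.Helper7.Co1T
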