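import Cfsg.Agent.Lib.Helper7.Co1TC

/-! # The multiplier of the first Conway group, the table of the group: the check of the rows 57720 to 59279 of the certificate (generated) -/

set_option autoImplicit false
set_option maxRecDepth 100000
set_option maxHeartbeats 0

namespace Cfsg.Agent.Lib.Helper7.Co1T

theorem rows_ok_f37 : rowsOK 57720 195 = true ∧ rowsOK 57915 195 = true ∧ rowsOK 58110 195 = true ∧ rowsOK 58305 195 = true ∧ rowsOK 58500 195 = true ∧ rowsOK 58695 195 = true ∧ rowsOK 58890 195 = true ∧ rowsOK 59085 195 = true :=
  ⟨by decide +kernel, by decide +kernel, by decide +kernel, by decide +kernel, by decide +kernel, by decide +kernel, by decide +kernel, by decide +kernel⟩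

end Cfsg.Agent.Lib.Helper7.Co1T
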