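import Cfsg.Agent.Lib.Helper7.Co1TC

/-! # The multiplier of the first Conway group, the table of the group: the check of the rows 95160 to 96719 of the certificate (generated) -/

set_option autoImplicit false
set_option maxRecDepth 100000
set_option maxHeartbeats 0

namespace Cfsg.Agent.Lib.Helper7.Co1T

theorem rows_ok_f61 : rowsOK 95160 195 = true ∧ rowsOK 95355 195 = true ∧ rowsOK 95550 195 = true ∧ rowsOK 95745 195 = true ∧ rowsOK 95940 195 = true ∧ rowsOK 96135 195 = true ∧ rowsOK 96330 195 = true ∧ rowsOK 96525 195 = true :=
  ⟨by decide +kernel, by decide +kernel, by decide +kernel, by decide +kernel, by decide +kernel, by decide +kernel, by decide +kernel, by decide +kernel⟩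

end Cfsg.Agent.Lib.Helper7.Co1T
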