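import Cfsg.Agent.Lib.Helper7.Co1TC

/-! # The multiplier of the first Conway group, the table of the group: the words that give the relations between the classes are traced (generated) -/

set_option autoImplicit false
set_option maxRecDepth 100000
set_option maxHeartbeats 0

namespace Cfsg.Agent.Lib.Helper7.Co1T

open Cfsg.Agent.Lib.Helper7.MG2

theorem closeR_0 : cert.scanR 4095 (cert.W 62621) 8588 = some (8588, 45036039225516032) := by decide +kernel

theorem closeR_1 : cert.scanR 4095 (cert.W 102699) 1985 = some (1985, 31523028433137665) := by decide +kernel

theorem closeR_2 : cert.scanR 4095 (cert.W 103026) 27222 = some (27222, 44962372153024534) := by decide +kernel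

end Cfsg.Agent.Lib.Helper7.Co1T
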