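import Cfsg.Agent.Lib.Helper7.Co1TC

/-! # The multiplier of the first Conway group, the table of the group: the check of the words of the certificate that are traced (generated) -/

set_option autoImplicit false
set_option maxRecDepth 100000
set_option maxHeartbeats 0

namespace Cfsg.Agent.Lib.Helper7.Co1T

theorem words_ok_f : wordsOK 0 12893 = true ∧ wordsOK 12893 12893 = true ∧ wordsOK 25786 12893 = true ∧ wordsOK 38679 12893 = true ∧ wordsOK 51572 12893 = true ∧ wordsOK 64465 12893 = true ∧ wordsOK 77358 12893 = true ∧ wordsOK 90251 12893 = true :=
  ⟨by decide +kernel, by decide +kernel, by decide +kernel, by decide +kernel, by decide +kernel, by decide +kernel, by decide +kernel, by decide +kernel⟩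

end Cfsg.Agent.Lib.Helper7.Co1T
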