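import Cfsg.Agent.Lib.Helper7.Co1TK0
import Cfsg.Agent.Lib.Helper7.Co1TK1
import Cfsg.Agent.Lib.Helper7.Co1TK2
import Cfsg.Agent.Lib.Helper7.Co1TK3
import Cfsg.Agent.Lib.Helper7.Co1TK4
import Cfsg.Agent.Lib.Helper7.Co1TK5
import Cfsg.Agent.Lib.Helper7.Co1TK6
import Cfsg.Agent.Lib.Helper7.Co1TK7
import Cfsg.Agent.Lib.Helper7.Co1TK8
import Cfsg.Agent.Lib.Helper7.Co1TK9
import Cfsg.Agent.Lib.Helper7.Co1TK10
import Cfsg.Agent.Lib.Helper7.Co1TK11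
import Cfsg.Agent.Lib.Helper7.Co1TK12
import Cfsg.Agent.Lib.Helper7.Co1TK13
import Cfsg.Agent.Lib.Helper7.Co1TK14
import Cfsg.Agent.Lib.Helper7.Co1TK15
import Cfsg.Agent.Lib.Helper7.Co1TK16
import Cfsg.Agent.Lib.Helper7.Co1TK17
import Cfsg.Agent.Lib.Helper7.Co1TK18
import Cfsg.Agent.Lib.Helper7.Co1TK19
import Cfsg.Agent.Lib.Helper7.Co1TK20
import Cfsg.Agent.Lib.Helper7.Co1TK21
import Cfsg.Agent.Lib.Helper7.Co1TK22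
import Cfsg.Agent.Lib.Helper7.Co1TK23
import Cfsg.Agent.Lib.Helper7.Co1TK24
import Cfsg.Agent.Lib.Helper7.Co1TK25
import Cfsg.Agent.Lib.Helper7.Co1TK26
import Cfsg.Agent.Lib.Helper7.Co1TK27
import Cfsg.Agent.Lib.Helper7.Co1TK28
import Cfsg.Agent.Lib.Helper7.Co1TK29
import Cfsg.Agent.Lib.Helper7.Co1TK30
import Cfsg.Agent.Lib.Helper7.Co1TK31
import Cfsg.Agent.Lib.Helper7.Co1TK32
import Cfsg.Agent.Lib.Helper7.Co1TK33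
import Cfsg.Agent.Lib.Helper7.Co1TK34
import Cfsg.Agent.Lib.Helper7.Co1TK35
import Cfsg.Agent.Lib.Helper7.Co1TK36
import Cfsg.Agent.Lib.Helper7.Co1TK37
import Cfsg.Agent.Lib.Helper7.Co1TK38
import Cfsg.Agent.Lib.Helper7.Co1TK39
import Cfsg.Agent.Lib.Helper7.Co1TK40
import Cfsg.Agent.Lib.Helper7.Co1TK41
import Cfsg.Agent.Lib.Helper7.Co1TK42
import Cfsg.Agent.Lib.Helper7.Co1TK43
import Cfsg.Agent.Lib.Helper7.Co1TK44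
import Cfsg.Agent.Lib.Helper7.Co1TK45
import Cfsg.Agent.Lib.Helper7.Co1TK46
import Cfsg.Agent.Lib.Helper7.Co1TK47
import Cfsg.Agent.Lib.Helper7.Co1TK48
import Cfsg.Agent.Lib.Helper7.Co1TK49
import Cfsg.Agent.Lib.Helper7.Co1TK50
import Cfsg.Agent.Lib.Helper7.Co1TK51
import Cfsg.Agent.Lib.Helper7.Co1TK52
import Cfsg.Agent.Lib.Helper7.Co1TK53
import Cfsg.Agent.Lib.Helper7.Co1TK54
import Cfsg.Agent.Lib.Helper7.Co1TK55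
import Cfsg.Agent.Lib.Helper7.Co1TK56
import Cfsg.Agent.Lib.Helper7.Co1TK57
import Cfsg.Agent.Lib.Helper7.Co1TK58
import Cfsg.Agent.Lib.Helper7.Co1TK59
import Cfsg.Agent.Lib.Helper7.Co1TK60
import Cfsg.Agent.Lib.Helper7.Co1TK61
import Cfsg.Agent.Lib.Helper7.Co1TK62
import Cfsg.Agent.Lib.Helper7.Co1TKW
import Cfsg.Agent.Lib.Helper7.Co1TKP0
import Cfsg.Agent.Lib.Helper7.Co1TKP1
import Cfsg.Agent.Lib.Helper7.Co1TKP2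
import Cfsg.Agent.Lib.Helper7.Co1TKP3
import Cfsg.Agent.Lib.Helper7.Co1TKP4
import Cfsg.Agent.Lib.Helper7.Co1TKP5
import Cfsg.Agent.Lib.Helper7.Co1TKP6
import Cfsg.Agent.Lib.Helper7.Co1TKP7
import Cfsg.Agent.Lib.Helper7.Co1TKP8
import Cfsg.Agent.Lib.Helper7.Co1TKP9
import Cfsg.Agent.Lib.Helper7.Co1TKP10
import Cfsg.Agent.Lib.Helper7.Co1TKP11
import Cfsg.Agent.Lib.Helper7.Co1TKP12
import Cfsg.Agent.Lib.Helper7.Co1TKP13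
import Cfsg.Agent.Lib.Helper7.Co1TKP14
import Cfsg.Agent.Lib.Helper7.Co1TKP15
import Cfsg.Agent.Lib.Helper7.Co1TKP16
import Cfsg.Agent.Lib.Helper7.Co1TKP17
import Cfsg.Agent.Lib.Helper7.Co1TKP18
import Cfsg.Agent.Lib.Helper7.Co1TKP19
import Cfsg.Agent.Lib.Helper7.Co1TKP20
import Cfsg.Agent.Lib.Helper7.Co1TKP21
import Cfsg.Agent.Lib.Helper7.Co1TKP22
import Cfsg.Agent.Lib.Helper7.Co1TKP23
import Cfsg.Agent.Lib.Helper7.Co1TKP24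
import Cfsg.Agent.Lib.Helper7.Co1TKP25
import Cfsg.Agent.Lib.Helper7.Co1TKP26
import Cfsg.Agent.Lib.Helper7.Co1TKP27
import Cfsg.Agent.Lib.Helper7.Co1TKP28
import Cfsg.Agent.Lib.Helper7.Co1TKP29
import Cfsg.Agent.Lib.Helper7.Co1TKP30
import Cfsg.Agent.Lib.Helper7.Co1TKP31
import Cfsg.Agent.Lib.Helper7.Co1TKC

/-! # The multiplier of the first Conway group, the table of the group: all the rows and words of the certificate are checked (generated) -/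

set_option autoImplicit false
set_option maxRecDepth 100000
set_option maxHeartbeats 0

namespace Cfsg.Agent.Lib.Helper7.Co1T

open Cfsg.Agent.Lib.Helper7.MG2 Cfsg.Agent.Lib.Helper7.HSMult

theorem rows_ok_all : ∀ k, k < 504 → rowsOK (195 * k) 195 = true
  | 0, _ => rows_ok_f0.1
  | 1, _ => rows_ok_f0.2.1
  | 2, _ => rows_ok_f0.2.2.1
  | 3, _ => rows_ok_f0.2.2.2.1
  | 4, _ => rows_ok_f0.2.2.2.2.1
  | 5, _ => rows_ok_f0.2.2.2.2.2.1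
  | 6, _ => rows_ok_f0.2.2.2.2.2.2.1
  | 7, _ => rows_ok_f0.2.2.2.2.2.2.2
  | 8, _ => rows_ok_f1.1
  | 9, _ => rows_ok_f1.2.1
  | 10, _ => rows_ok_f1.2.2.1
  | 11, _ => rows_ok_f1.2.2.2.1
  | 12, _ => rows_ok_f1.2.2.2.2.1
  | 13, _ => rows_ok_f1.2.2.2.2.2.1
  | 14, _ => rows_ok_f1.2.2.2.2.2.2.1
  | 15, _ => rows_ok_f1.2.2.2.2.2.2.2
  | 16, _ => rows_ok_f2.1
  | 17, _ => rows_ok_f2.2.1
  | 18, _ => rows_ok_f2.2.2.1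
  | 19, _ => rows_ok_f2.2.2.2.1
  | 20, _ => rows_ok_f2.2.2.2.2.1
  | 21, _ => rows_ok_f2.2.2.2.2.2.1
  | 22, _ => rows_ok_f2.2.2.2.2.2.2.1
  | 23, _ => rows_ok_f2.2.2.2.2.2.2.2
  | 24, _ => rows_ok_f3.1
  | 25, _ => rows_ok_f3.2.1
  | 26, _ => rows_ok_f3.2.2.1
  | 27, _ => rows_ok_f3.2.2.2.1
  | 28, _ => rows_ok_f3.2.2.2.2.1
  | 29, _ => rows_ok_f3.2.2.2.2.2.1
  | 30, _ => rows_ok_f3.2.2.2.2.2.2.1
  | 31, _ => rows_ok_f3.2.2.2.2.2.2.2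
  | 32, _ => rows_ok_f4.1
  | 33, _ => rows_ok_f4.2.1
  | 34, _ => rows_ok_f4.2.2.1
  | 35, _ => rows_ok_f4.2.2.2.1
  | 36, _ => rows_ok_f4.2.2.2.2.1
  | 37, _ => rows_ok_f4.2.2.2.2.2.1
  | 38, _ => rows_ok_f4.2.2.2.2.2.2.1
  | 39, _ => rows_ok_f4.2.2.2.2.2.2.2
  | 40, _ => rows_ok_f5.1
  | 41, _ => rows_ok_f5.2.1
  | 42, _ => rows_ok_f5.2.2.1
  | 43, _ => rows_ok_f5.2.2.2.1
  | 44, _ => rows_ok_f5.2.2.2.2.1
  | 45, _ => rows_ok_f5.2.2.2.2.2.1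
  | 46, _ => rows_ok_f5.2.2.2.2.2.2.1
  | 47, _ => rows_ok_f5.2.2.2.2.2.2.2
  | 48, _ => rows_ok_f6.1
  | 49, _ => rows_ok_f6.2.1
  | 50, _ => rows_ok_f6.2.2.1
  | 51, _ => rows_ok_f6.2.2.2.1
  | 52, _ => rows_ok_f6.2.2.2.2.1
  | 53, _ => rows_ok_f6.2.2.2.2.2.1
  | 54, _ => rows_ok_f6.2.2.2.2.2.2.1
  | 55, _ => rows_ok_f6.2.2.2.2.2.2.2
  | 56, _ => rows_ok_f7.1
  | 57, _ => rows_ok_f7.2.1
  | 58, _ => rows_ok_f7.2.2.1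
  | 59, _ => rows_ok_f7.2.2.2.1
  | 60, _ => rows_ok_f7.2.2.2.2.1
  | 61, _ => rows_ok_f7.2.2.2.2.2.1
  | 62, _ => rows_ok_f7.2.2.2.2.2.2.1
  | 63, _ => rows_ok_f7.2.2.2.2.2.2.2
  | 64, _ => rows_ok_f8.1
  | 65, _ => rows_ok_f8.2.1
  | 66, _ => rows_ok_f8.2.2.1
  | 67, _ => rows_ok_f8.2.2.2.1
  | 68, _ => rows_ok_f8.2.2.2.2.1
  | 69, _ => rows_ok_f8.2.2.2.2.2.1
  | 70, _ => rows_ok_f8.2.2.2.2.2.2.1
  | 71, _ => rows_ok_f8.2.2.2.2.2.2.2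
  | 72, _ => rows_ok_f9.1
  | 73, _ => rows_ok_f9.2.1
  | 74, _ => rows_ok_f9.2.2.1
  | 75, _ => rows_ok_f9.2.2.2.1
  | 76, _ => rows_ok_f9.2.2.2.2.1
  | 77, _ => rows_ok_f9.2.2.2.2.2.1
  | 78, _ => rows_ok_f9.2.2.2.2.2.2.1
  | 79, _ => rows_ok_f9.2.2.2.2.2.2.2
  | 80, _ => rows_ok_f10.1
  | 81, _ => rows_ok_f10.2.1
  | 82, _ => rows_ok_f10.2.2.1
  | 83, _ => rows_ok_f10.2.2.2.1
  | 84, _ => rows_ok_f10.2.2.2.2.1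
  | 85, _ => rows_ok_f10.2.2.2.2.2.1
  | 86, _ => rows_ok_f10.2.2.2.2.2.2.1
  | 87, _ => rows_ok_f10.2.2.2.2.2.2.2
  | 88, _ => rows_ok_f11.1
  | 89, _ => rows_ok_f11.2.1
  | 90, _ => rows_ok_f11.2.2.1
  | 91, _ => rows_ok_f11.2.2.2.1
  | 92, _ => rows_ok_f11.2.2.2.2.1
  | 93, _ => rows_ok_f11.2.2.2.2.2.1
  | 94, _ => rows_ok_f11.2.2.2.2.2.2.1
  | 95, _ => rows_ok_f11.2.2.2.2.2.2.2
  | 96, _ => rows_ok_f12.1
  | 97, _ => rows_ok_f12.2.1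
  | 98, _ => rows_ok_f12.2.2.1
  | 99, _ => rows_ok_f12.2.2.2.1
  | 100, _ => rows_ok_f12.2.2.2.2.1
  | 101, _ => rows_ok_f12.2.2.2.2.2.1
  | 102, _ => rows_ok_f12.2.2.2.2.2.2.1
  | 103, _ => rows_ok_f12.2.2.2.2.2.2.2
  | 104, _ => rows_ok_f13.1
  | 105, _ => rows_ok_f13.2.1
  | 106, _ => rows_ok_f13.2.2.1
  | 107, _ => rows_ok_f13.2.2.2.1
  | 108, _ => rows_ok_f13.2.2.2.2.1
  | 109, _ => rows_ok_f13.2.2.2.2.2.1
  | 110, _ => rows_ok_f13.2.2.2.2.2.2.1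
  | 111, _ => rows_ok_f13.2.2.2.2.2.2.2
  | 112, _ => rows_ok_f14.1
  | 113, _ => rows_ok_f14.2.1
  | 114, _ => rows_ok_f14.2.2.1
  | 115, _ => rows_ok_f14.2.2.2.1
  | 116, _ => rows_ok_f14.2.2.2.2.1
  | 117, _ => rows_ok_f14.2.2.2.2.2.1
  | 118, _ => rows_ok_f14.2.2.2.2.2.2.1
  | 119, _ => rows_ok_f14.2.2.2.2.2.2.2
  | 120, _ => rows_ok_f15.1
  | 121, _ => rows_ok_f15.2.1
  | 122, _ => rows_ok_f15.2.2.1
  | 123, _ => rows_ok_f15.2.2.2.1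
  | 124, _ => rows_ok_f15.2.2.2.2.1
  | 125, _ => rows_ok_f15.2.2.2.2.2.1
  | 126, _ => rows_ok_f15.2.2.2.2.2.2.1
  | 127, _ => rows_ok_f15.2.2.2.2.2.2.2
  | 128, _ => rows_ok_f16.1
  | 129, _ => rows_ok_f16.2.1
  | 130, _ => rows_ok_f16.2.2.1
  | 131, _ => rows_ok_f16.2.2.2.1
  | 132, _ => rows_ok_f16.2.2.2.2.1
  | 133, _ => rows_ok_f16.2.2.2.2.2.1
  | 134, _ => rows_ok_f16.2.2.2.2.2.2.1
  | 135, _ => rows_ok_f16.2.2.2.2.2.2.2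
  | 136, _ => rows_ok_f17.1
  | 137, _ => rows_ok_f17.2.1
  | 138, _ => rows_ok_f17.2.2.1
  | 139, _ => rows_ok_f17.2.2.2.1
  | 140, _ => rows_ok_f17.2.2.2.2.1
  | 141, _ => rows_ok_f17.2.2.2.2.2.1
  | 142, _ => rows_ok_f17.2.2.2.2.2.2.1
  | 143, _ => rows_ok_f17.2.2.2.2.2.2.2
  | 144, _ => rows_ok_f18.1
  | 145, _ => rows_ok_f18.2.1
  | 146, _ => rows_ok_f18.2.2.1
  | 147, _ => rows_ok_f18.2.2.2.1
  | 148, _ => rows_ok_f18.2.2.2.2.1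
  | 149, _ => rows_ok_f18.2.2.2.2.2.1
  | 150, _ => rows_ok_f18.2.2.2.2.2.2.1
  | 151, _ => rows_ok_f18.2.2.2.2.2.2.2
  | 152, _ => rows_ok_f19.1
  | 153, _ => rows_ok_f19.2.1
  | 154, _ => rows_ok_f19.2.2.1
  | 155, _ => rows_ok_f19.2.2.2.1
  | 156, _ => rows_ok_f19.2.2.2.2.1
  | 157, _ => rows_ok_f19.2.2.2.2.2.1
  | 158, _ => rows_ok_f19.2.2.2.2.2.2.1
  | 159, _ => rows_ok_f19.2.2.2.2.2.2.2
  | 160, _ => rows_ok_f20.1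
  | 161, _ => rows_ok_f20.2.1
  | 162, _ => rows_ok_f20.2.2.1
  | 163, _ => rows_ok_f20.2.2.2.1
  | 164, _ => rows_ok_f20.2.2.2.2.1
  | 165, _ => rows_ok_f20.2.2.2.2.2.1
  | 166, _ => rows_ok_f20.2.2.2.2.2.2.1
  | 167, _ => rows_ok_f20.2.2.2.2.2.2.2
  | 168, _ => rows_ok_f21.1
  | 169, _ => rows_ok_f21.2.1
  | 170, _ => rows_ok_f21.2.2.1
  | 171, _ => rows_ok_f21.2.2.2.1
  | 172, _ => rows_ok_f21.2.2.2.2.1
  | 173, _ => rows_ok_f21.2.2.2.2.2.1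
  | 174, _ => rows_ok_f21.2.2.2.2.2.2.1
  | 175, _ => rows_ok_f21.2.2.2.2.2.2.2
  | 176, _ => rows_ok_f22.1
  | 177, _ => rows_ok_f22.2.1
  | 178, _ => rows_ok_f22.2.2.1
  | 179, _ => rows_ok_f22.2.2.2.1
  | 180, _ => rows_ok_f22.2.2.2.2.1
  | 181, _ => rows_ok_f22.2.2.2.2.2.1
  | 182, _ => rows_ok_f22.2.2.2.2.2.2.1
  | 183, _ => rows_ok_f22.2.2.2.2.2.2.2
  | 184, _ => rows_ok_f23.1
  | 185, _ => rows_ok_f23.2.1
  | 186, _ => rows_ok_f23.2.2.1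
  | 187, _ => rows_ok_f23.2.2.2.1
  | 188, _ => rows_ok_f23.2.2.2.2.1
  | 189, _ => rows_ok_f23.2.2.2.2.2.1
  | 190, _ => rows_ok_f23.2.2.2.2.2.2.1
  | 191, _ => rows_ok_f23.2.2.2.2.2.2.2
  | 192, _ => rows_ok_f24.1
  | 193, _ => rows_ok_f24.2.1
  | 194, _ => rows_ok_f24.2.2.1
  | 195, _ => rows_ok_f24.2.2.2.1
  | 196, _ => rows_ok_f24.2.2.2.2.1
  | 197, _ => rows_ok_f24.2.2.2.2.2.1
  | 198, _ => rows_ok_f24.2.2.2.2.2.2.1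
  | 199, _ => rows_ok_f24.2.2.2.2.2.2.2
  | 200, _ => rows_ok_f25.1
  | 201, _ => rows_ok_f25.2.1
  | 202, _ => rows_ok_f25.2.2.1
  | 203, _ => rows_ok_f25.2.2.2.1
  | 204, _ => rows_ok_f25.2.2.2.2.1
  | 205, _ => rows_ok_f25.2.2.2.2.2.1
  | 206, _ => rows_ok_f25.2.2.2.2.2.2.1
  | 207, _ => rows_ok_f25.2.2.2.2.2.2.2
  | 208, _ => rows_ok_f26.1
  | 209, _ => rows_ok_f26.2.1
  | 210, _ => rows_ok_f26.2.2.1
  | 211, _ => rows_ok_f26.2.2.2.1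
  | 212, _ => rows_ok_f26.2.2.2.2.1
  | 213, _ => rows_ok_f26.2.2.2.2.2.1
  | 214, _ => rows_ok_f26.2.2.2.2.2.2.1
  | 215, _ => rows_ok_f26.2.2.2.2.2.2.2
  | 216, _ => rows_ok_f27.1
  | 217, _ => rows_ok_f27.2.1
  | 218, _ => rows_ok_f27.2.2.1
  | 219, _ => rows_ok_f27.2.2.2.1
  | 220, _ => rows_ok_f27.2.2.2.2.1
  | 221, _ => rows_ok_f27.2.2.2.2.2.1
  | 222, _ => rows_ok_f27.2.2.2.2.2.2.1
  | 223, _ => rows_ok_f27.2.2.2.2.2.2.2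
  | 224, _ => rows_ok_f28.1
  | 225, _ => rows_ok_f28.2.1
  | 226, _ => rows_ok_f28.2.2.1
  | 227, _ => rows_ok_f28.2.2.2.1
  | 228, _ => rows_ok_f28.2.2.2.2.1
  | 229, _ => rows_ok_f28.2.2.2.2.2.1
  | 230, _ => rows_ok_f28.2.2.2.2.2.2.1
  | 231, _ => rows_ok_f28.2.2.2.2.2.2.2
  | 232, _ => rows_ok_f29.1
  | 233, _ => rows_ok_f29.2.1
  | 234, _ => rows_ok_f29.2.2.1
  | 235, _ => rows_ok_f29.2.2.2.1
  | 236, _ => rows_ok_f29.2.2.2.2.1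
  | 237, _ => rows_ok_f29.2.2.2.2.2.1
  | 238, _ => rows_ok_f29.2.2.2.2.2.2.1
  | 239, _ => rows_ok_f29.2.2.2.2.2.2.2
  | 240, _ => rows_ok_f30.1
  | 241, _ => rows_ok_f30.2.1
  | 242, _ => rows_ok_f30.2.2.1
  | 243, _ => rows_ok_f30.2.2.2.1
  | 244, _ => rows_ok_f30.2.2.2.2.1
  | 245, _ => rows_ok_f30.2.2.2.2.2.1
  | 246, _ => rows_ok_f30.2.2.2.2.2.2.1
  | 247, _ => rows_ok_f30.2.2.2.2.2.2.2
  | 248, _ => rows_ok_f31.1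
  | 249, _ => rows_ok_f31.2.1
  | 250, _ => rows_ok_f31.2.2.1
  | 251, _ => rows_ok_f31.2.2.2.1
  | 252, _ => rows_ok_f31.2.2.2.2.1
  | 253, _ => rows_ok_f31.2.2.2.2.2.1
  | 254, _ => rows_ok_f31.2.2.2.2.2.2.1
  | 255, _ => rows_ok_f31.2.2.2.2.2.2.2
  | 256, _ => rows_ok_f32.1
  | 257, _ => rows_ok_f32.2.1
  | 258, _ => rows_ok_f32.2.2.1
  | 259, _ => rows_ok_f32.2.2.2.1
  | 260, _ => rows_ok_f32.2.2.2.2.1
  | 261, _ => rows_ok_f32.2.2.2.2.2.1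
  | 262, _ => rows_ok_f32.2.2.2.2.2.2.1
  | 263, _ => rows_ok_f32.2.2.2.2.2.2.2
  | 264, _ => rows_ok_f33.1
  | 265, _ => rows_ok_f33.2.1
  | 266, _ => rows_ok_f33.2.2.1
  | 267, _ => rows_ok_f33.2.2.2.1
  | 268, _ => rows_ok_f33.2.2.2.2.1
  | 269, _ => rows_ok_f33.2.2.2.2.2.1
  | 270, _ => rows_ok_f33.2.2.2.2.2.2.1
  | 271, _ => rows_ok_f33.2.2.2.2.2.2.2
  | 272, _ => rows_ok_f34.1
  | 273, _ => rows_ok_f34.2.1
  | 274, _ => rows_ok_f34.2.2.1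
  | 275, _ => rows_ok_f34.2.2.2.1
  | 276, _ => rows_ok_f34.2.2.2.2.1
  | 277, _ => rows_ok_f34.2.2.2.2.2.1
  | 278, _ => rows_ok_f34.2.2.2.2.2.2.1
  | 279, _ => rows_ok_f34.2.2.2.2.2.2.2
  | 280, _ => rows_ok_f35.1
  | 281, _ => rows_ok_f35.2.1
  | 282, _ => rows_ok_f35.2.2.1
  | 283, _ => rows_ok_f35.2.2.2.1
  | 284, _ => rows_ok_f35.2.2.2.2.1
  | 285, _ => rows_ok_f35.2.2.2.2.2.1
  | 286, _ => rows_ok_f35.2.2.2.2.2.2.1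
  | 287, _ => rows_ok_f35.2.2.2.2.2.2.2
  | 288, _ => rows_ok_f36.1
  | 289, _ => rows_ok_f36.2.1
  | 290, _ => rows_ok_f36.2.2.1
  | 291, _ => rows_ok_f36.2.2.2.1
  | 292, _ => rows_ok_f36.2.2.2.2.1
  | 293, _ => rows_ok_f36.2.2.2.2.2.1
  | 294, _ => rows_ok_f36.2.2.2.2.2.2.1
  | 295, _ => rows_ok_f36.2.2.2.2.2.2.2
  | 296, _ => rows_ok_f37.1
  | 297, _ => rows_ok_f37.2.1
  | 298, _ => rows_ok_f37.2.2.1
  | 299, _ => rows_ok_f37.2.2.2.1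
  | 300, _ => rows_ok_f37.2.2.2.2.1
  | 301, _ => rows_ok_f37.2.2.2.2.2.1
  | 302, _ => rows_ok_f37.2.2.2.2.2.2.1
  | 303, _ => rows_ok_f37.2.2.2.2.2.2.2
  | 304, _ => rows_ok_f38.1
  | 305, _ => rows_ok_f38.2.1
  | 306, _ => rows_ok_f38.2.2.1
  | 307, _ => rows_ok_f38.2.2.2.1
  | 308, _ => rows_ok_f38.2.2.2.2.1
  | 309, _ => rows_ok_f38.2.2.2.2.2.1
  | 310, _ => rows_ok_f38.2.2.2.2.2.2.1
  | 311, _ => rows_ok_f38.2.2.2.2.2.2.2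
  | 312, _ => rows_ok_f39.1
  | 313, _ => rows_ok_f39.2.1
  | 314, _ => rows_ok_f39.2.2.1
  | 315, _ => rows_ok_f39.2.2.2.1
  | 316, _ => rows_ok_f39.2.2.2.2.1
  | 317, _ => rows_ok_f39.2.2.2.2.2.1
  | 318, _ => rows_ok_f39.2.2.2.2.2.2.1
  | 319, _ => rows_ok_f39.2.2.2.2.2.2.2
  | 320, _ => rows_ok_f40.1
  | 321, _ => rows_ok_f40.2.1
  | 322, _ => rows_ok_f40.2.2.1
  | 323, _ => rows_ok_f40.2.2.2.1
  | 324, _ => rows_ok_f40.2.2.2.2.1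
  | 325, _ => rows_ok_f40.2.2.2.2.2.1
  | 326, _ => rows_ok_f40.2.2.2.2.2.2.1
  | 327, _ => rows_ok_f40.2.2.2.2.2.2.2
  | 328, _ => rows_ok_f41.1
  | 329, _ => rows_ok_f41.2.1
  | 330, _ => rows_ok_f41.2.2.1
  | 331, _ => rows_ok_f41.2.2.2.1
  | 332, _ => rows_ok_f41.2.2.2.2.1
  | 333, _ => rows_ok_f41.2.2.2.2.2.1
  | 334, _ => rows_ok_f41.2.2.2.2.2.2.1
  | 335, _ => rows_ok_f41.2.2.2.2.2.2.2
  | 336, _ => rows_ok_f42.1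
  | 337, _ => rows_ok_f42.2.1
  | 338, _ => rows_ok_f42.2.2.1
  | 339, _ => rows_ok_f42.2.2.2.1
  | 340, _ => rows_ok_f42.2.2.2.2.1
  | 341, _ => rows_ok_f42.2.2.2.2.2.1
  | 342, _ => rows_ok_f42.2.2.2.2.2.2.1
  | 343, _ => rows_ok_f42.2.2.2.2.2.2.2
  | 344, _ => rows_ok_f43.1
  | 345, _ => rows_ok_f43.2.1
  | 346, _ => rows_ok_f43.2.2.1
  | 347, _ => rows_ok_f43.2.2.2.1
  | 348, _ => rows_ok_f43.2.2.2.2.1
  | 349, _ => rows_ok_f43.2.2.2.2.2.1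
  | 350, _ => rows_ok_f43.2.2.2.2.2.2.1
  | 351, _ => rows_ok_f43.2.2.2.2.2.2.2
  | 352, _ => rows_ok_f44.1
  | 353, _ => rows_ok_f44.2.1
  | 354, _ => rows_ok_f44.2.2.1
  | 355, _ => rows_ok_f44.2.2.2.1
  | 356, _ => rows_ok_f44.2.2.2.2.1
  | 357, _ => rows_ok_f44.2.2.2.2.2.1
  | 358, _ => rows_ok_f44.2.2.2.2.2.2.1
  | 359, _ => rows_ok_f44.2.2.2.2.2.2.2
  | 360, _ => rows_ok_f45.1
  | 361, _ => rows_ok_f45.2.1
  | 362, _ => rows_ok_f45.2.2.1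
  | 363, _ => rows_ok_f45.2.2.2.1
  | 364, _ => rows_ok_f45.2.2.2.2.1
  | 365, _ => rows_ok_f45.2.2.2.2.2.1
  | 366, _ => rows_ok_f45.2.2.2.2.2.2.1
  | 367, _ => rows_ok_f45.2.2.2.2.2.2.2
  | 368, _ => rows_ok_f46.1
  | 369, _ => rows_ok_f46.2.1
  | 370, _ => rows_ok_f46.2.2.1
  | 371, _ => rows_ok_f46.2.2.2.1
  | 372, _ => rows_ok_f46.2.2.2.2.1
  | 373, _ => rows_ok_f46.2.2.2.2.2.1
  | 374, _ => rows_ok_f46.2.2.2.2.2.2.1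
  | 375, _ => rows_ok_f46.2.2.2.2.2.2.2
  | 376, _ => rows_ok_f47.1
  | 377, _ => rows_ok_f47.2.1
  | 378, _ => rows_ok_f47.2.2.1
  | 379, _ => rows_ok_f47.2.2.2.1
  | 380, _ => rows_ok_f47.2.2.2.2.1
  | 381, _ => rows_ok_f47.2.2.2.2.2.1
  | 382, _ => rows_ok_f47.2.2.2.2.2.2.1
  | 383, _ => rows_ok_f47.2.2.2.2.2.2.2
  | 384, _ => rows_ok_f48.1
  | 385, _ => rows_ok_f48.2.1
  | 386, _ => rows_ok_f48.2.2.1
  | 387, _ => rows_ok_f48.2.2.2.1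
  | 388, _ => rows_ok_f48.2.2.2.2.1
  | 389, _ => rows_ok_f48.2.2.2.2.2.1
  | 390, _ => rows_ok_f48.2.2.2.2.2.2.1
  | 391, _ => rows_ok_f48.2.2.2.2.2.2.2
  | 392, _ => rows_ok_f49.1
  | 393, _ => rows_ok_f49.2.1
  | 394, _ => rows_ok_f49.2.2.1
  | 395, _ => rows_ok_f49.2.2.2.1
  | 396, _ => rows_ok_f49.2.2.2.2.1
  | 397, _ => rows_ok_f49.2.2.2.2.2.1
  | 398, _ => rows_ok_f49.2.2.2.2.2.2.1
  | 399, _ => rows_ok_f49.2.2.2.2.2.2.2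
  | 400, _ => rows_ok_f50.1
  | 401, _ => rows_ok_f50.2.1
  | 402, _ => rows_ok_f50.2.2.1
  | 403, _ => rows_ok_f50.2.2.2.1
  | 404, _ => rows_ok_f50.2.2.2.2.1
  | 405, _ => rows_ok_f50.2.2.2.2.2.1
  | 406, _ => rows_ok_f50.2.2.2.2.2.2.1
  | 407, _ => rows_ok_f50.2.2.2.2.2.2.2
  | 408, _ => rows_ok_f51.1
  | 409, _ => rows_ok_f51.2.1
  | 410, _ => rows_ok_f51.2.2.1
  | 411, _ => rows_ok_f51.2.2.2.1
  | 412, _ => rows_ok_f51.2.2.2.2.1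
  | 413, _ => rows_ok_f51.2.2.2.2.2.1
  | 414, _ => rows_ok_f51.2.2.2.2.2.2.1
  | 415, _ => rows_ok_f51.2.2.2.2.2.2.2
  | 416, _ => rows_ok_f52.1
  | 417, _ => rows_ok_f52.2.1
  | 418, _ => rows_ok_f52.2.2.1
  | 419, _ => rows_ok_f52.2.2.2.1
  | 420, _ => rows_ok_f52.2.2.2.2.1
  | 421, _ => rows_ok_f52.2.2.2.2.2.1
  | 422, _ => rows_ok_f52.2.2.2.2.2.2.1
  | 423, _ => rows_ok_f52.2.2.2.2.2.2.2
  | 424, _ => rows_ok_f53.1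
  | 425, _ => rows_ok_f53.2.1
  | 426, _ => rows_ok_f53.2.2.1
  | 427, _ => rows_ok_f53.2.2.2.1
  | 428, _ => rows_ok_f53.2.2.2.2.1
  | 429, _ => rows_ok_f53.2.2.2.2.2.1
  | 430, _ => rows_ok_f53.2.2.2.2.2.2.1
  | 431, _ => rows_ok_f53.2.2.2.2.2.2.2
  | 432, _ => rows_ok_f54.1
  | 433, _ => rows_ok_f54.2.1
  | 434, _ => rows_ok_f54.2.2.1
  | 435, _ => rows_ok_f54.2.2.2.1
  | 436, _ => rows_ok_f54.2.2.2.2.1
  | 437, _ => rows_ok_f54.2.2.2.2.2.1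
  | 438, _ => rows_ok_f54.2.2.2.2.2.2.1
  | 439, _ => rows_ok_f54.2.2.2.2.2.2.2
  | 440, _ => rows_ok_f55.1
  | 441, _ => rows_ok_f55.2.1
  | 442, _ => rows_ok_f55.2.2.1
  | 443, _ => rows_ok_f55.2.2.2.1
  | 444, _ => rows_ok_f55.2.2.2.2.1
  | 445, _ => rows_ok_f55.2.2.2.2.2.1
  | 446, _ => rows_ok_f55.2.2.2.2.2.2.1
  | 447, _ => rows_ok_f55.2.2.2.2.2.2.2
  | 448, _ => rows_ok_f56.1
  | 449, _ => rows_ok_f56.2.1
  | 450, _ => rows_ok_f56.2.2.1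
  | 451, _ => rows_ok_f56.2.2.2.1
  | 452, _ => rows_ok_f56.2.2.2.2.1
  | 453, _ => rows_ok_f56.2.2.2.2.2.1
  | 454, _ => rows_ok_f56.2.2.2.2.2.2.1
  | 455, _ => rows_ok_f56.2.2.2.2.2.2.2
  | 456, _ => rows_ok_f57.1
  | 457, _ => rows_ok_f57.2.1
  | 458, _ => rows_ok_f57.2.2.1
  | 459, _ => rows_ok_f57.2.2.2.1
  | 460, _ => rows_ok_f57.2.2.2.2.1
  | 461, _ => rows_ok_f57.2.2.2.2.2.1
  | 462, _ => rows_ok_f57.2.2.2.2.2.2.1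
  | 463, _ => rows_ok_f57.2.2.2.2.2.2.2
  | 464, _ => rows_ok_f58.1
  | 465, _ => rows_ok_f58.2.1
  | 466, _ => rows_ok_f58.2.2.1
  | 467, _ => rows_ok_f58.2.2.2.1
  | 468, _ => rows_ok_f58.2.2.2.2.1
  | 469, _ => rows_ok_f58.2.2.2.2.2.1
  | 470, _ => rows_ok_f58.2.2.2.2.2.2.1
  | 471, _ => rows_ok_f58.2.2.2.2.2.2.2
  | 472, _ => rows_ok_f59.1
  | 473, _ => rows_ok_f59.2.1
  | 474, _ => rows_ok_f59.2.2.1
  | 475, _ => rows_ok_f59.2.2.2.1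
  | 476, _ => rows_ok_f59.2.2.2.2.1
  | 477, _ => rows_ok_f59.2.2.2.2.2.1
  | 478, _ => rows_ok_f59.2.2.2.2.2.2.1
  | 479, _ => rows_ok_f59.2.2.2.2.2.2.2
  | 480, _ => rows_ok_f60.1
  | 481, _ => rows_ok_f60.2.1
  | 482, _ => rows_ok_f60.2.2.1
  | 483, _ => rows_ok_f60.2.2.2.1
  | 484, _ => rows_ok_f60.2.2.2.2.1
  | 485, _ => rows_ok_f60.2.2.2.2.2.1
  | 486, _ => rows_ok_f60.2.2.2.2.2.2.1
  | 487, _ => rows_ok_f60.2.2.2.2.2.2.2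
  | 488, _ => rows_ok_f61.1
  | 489, _ => rows_ok_f61.2.1
  | 490, _ => rows_ok_f61.2.2.1
  | 491, _ => rows_ok_f61.2.2.2.1
  | 492, _ => rows_ok_f61.2.2.2.2.1
  | 493, _ => rows_ok_f61.2.2.2.2.2.1
  | 494, _ => rows_ok_f61.2.2.2.2.2.2.1
  | 495, _ => rows_ok_f61.2.2.2.2.2.2.2
  | 496, _ => rows_ok_f62.1
  | 497, _ => rows_ok_f62.2.1
  | 498, _ => rows_ok_f62.2.2.1
  | 499, _ => rows_ok_f62.2.2.2.1
  | 500, _ => rows_ok_f62.2.2.2.2.1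
  | 501, _ => rows_ok_f62.2.2.2.2.2.1
  | 502, _ => rows_ok_f62.2.2.2.2.2.2.1
  | 503, _ => rows_ok_f62.2.2.2.2.2.2.2
  | k + 504, h => absurd h (by omega)

/-- **every entry of the table is justified** -/
theorem cert_all : ∀ a, a < cert.n → ∀ x, x < cert.g → cert.slotOK a x = true := by
  intro a ha x hx
  have ha' : a < 98280 := ha
  have hx' : x < 6 := hx
  have h1 := rows_ok_all (a / 195) (by omega)
  rw [rowsOK, allN_iff] at h1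
  have h2 := h1 (a % 195) (Nat.mod_lt _ (by norm_num))
  rw [allN_iff] at h2
  have h3 := h2 x hx'
  have e : Nat.add (195 * (a / 195)) (a % 195) = a := Nat.div_add_mod a 195
  rw [e, VCert.slotOKR_eq] at h3
  exact h3

theorem words_ok_all : ∀ k, k < 8 → wordsOK (12893 * k) 12893 = true
  | 0, _ => words_ok_f.1
  | 1, _ => words_ok_f.2.1
  | 2, _ => words_ok_f.2.2.1
  | 3, _ => words_ok_f.2.2.2.1
  | 4, _ => words_ok_f.2.2.2.2.1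
  | 5, _ => words_ok_f.2.2.2.2.2.1
  | 6, _ => words_ok_f.2.2.2.2.2.2.1
  | 7, _ => words_ok_f.2.2.2.2.2.2.2
  | k + 8, h => absurd h (by omega)

/-- **every word of the certificate is justified** -/
theorem cert_wall : ∀ i, i < cert.nW → cert.wordOK i = true := by
  intro i hi
  have hi' : i < 103143 := hi
  have h1 := words_ok_all (i / 12893) (by omega)
  rw [wordsOK, allN_iff] at h1
  have h2 := h1 (i % 12893) (Nat.mod_lt _ (by norm_num))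
  have e : Nat.add (12893 * (i / 12893)) (i % 12893) = i := Nat.div_add_mod i 12893
  rw [e, VCert.wordOKR_eq] at h2
  exact h2

theorem pures_ok_all : ∀ k, k < 64 → puresOK (51 + 1611 * k) 1611 = true
  | 0, _ => pures_ok_f0.1
  | 1, _ => pures_ok_f0.2
  | 2, _ => pures_ok_f1.1
  | 3, _ => pures_ok_f1.2
  | 4, _ => pures_ok_f2.1
  | 5, _ => pures_ok_f2.2
  | 6, _ => pures_ok_f3.1
  | 7, _ => pures_ok_f3.2
  | 8, _ => pures_ok_f4.1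
  | 9, _ => pures_ok_f4.2
  | 10, _ => pures_ok_f5.1
  | 11, _ => pures_ok_f5.2
  | 12, _ => pures_ok_f6.1
  | 13, _ => pures_ok_f6.2
  | 14, _ => pures_ok_f7.1
  | 15, _ => pures_ok_f7.2
  | 16, _ => pures_ok_f8.1
  | 17, _ => pures_ok_f8.2
  | 18, _ => pures_ok_f9.1
  | 19, _ => pures_ok_f9.2
  | 20, _ => pures_ok_f10.1
  | 21, _ => pures_ok_f10.2
  | 22, _ => pures_ok_f11.1
  | 23, _ => pures_ok_f11.2
  | 24, _ => pures_ok_f12.1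
  | 25, _ => pures_ok_f12.2
  | 26, _ => pures_ok_f13.1
  | 27, _ => pures_ok_f13.2
  | 28, _ => pures_ok_f14.1
  | 29, _ => pures_ok_f14.2
  | 30, _ => pures_ok_f15.1
  | 31, _ => pures_ok_f15.2
  | 32, _ => pures_ok_f16.1
  | 33, _ => pures_ok_f16.2
  | 34, _ => pures_ok_f17.1
  | 35, _ => pures_ok_f17.2
  | 36, _ => pures_ok_f18.1
  | 37, _ => pures_ok_f18.2
  | 38, _ => pures_ok_f19.1
  | 39, _ => pures_ok_f19.2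
  | 40, _ => pures_ok_f20.1
  | 41, _ => pures_ok_f20.2
  | 42, _ => pures_ok_f21.1
  | 43, _ => pures_ok_f21.2
  | 44, _ => pures_ok_f22.1
  | 45, _ => pures_ok_f22.2
  | 46, _ => pures_ok_f23.1
  | 47, _ => pures_ok_f23.2
  | 48, _ => pures_ok_f24.1
  | 49, _ => pures_ok_f24.2
  | 50, _ => pures_ok_f25.1
  | 51, _ => pures_ok_f25.2
  | 52, _ => pures_ok_f26.1
  | 53, _ => pures_ok_f26.2
  | 54, _ => pures_ok_f27.1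
  | 55, _ => pures_ok_f27.2
  | 56, _ => pures_ok_f28.1
  | 57, _ => pures_ok_f28.2
  | 58, _ => pures_ok_f29.1
  | 59, _ => pures_ok_f29.2
  | 60, _ => pures_ok_f30.1
  | 61, _ => pures_ok_f30.2
  | 62, _ => pures_ok_f31.1
  | 63, _ => pures_ok_f31.2
  | k + 64, h => absurd h (by omega)

/-- the given words, but for the first 51, have letters of the subgroup only and the trivial class -/
theorem cert_pure : ∀ i, 51 ≤ i → i < cert.nW → pureOK i = true := by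
  intro i h0 hi
  have hi' : i < 103143 := hi
  have h1 := pures_ok_all ((i - 51) / 1611) (by omega)
  rw [puresOK, allN_iff] at h1
  have h2 := h1 ((i - 51) % 1611) (Nat.mod_lt _ (by norm_num))
  have e : Nat.add (51 + 1611 * ((i - 51) / 1611)) ((i - 51) % 1611) = i := by
    have := Nat.div_add_mod (i - 51) 1611
    show 51 + 1611 * ((i - 51) / 1611) + (i - 51) % 1611 = i
    omega
  rw [e] at h2
  exact h2

theorem close_0 : cert.scan 4095 (cert.W 62621) 8588 0 = some (8588, 45036039225516032) := by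
  rw [← VCert.scanR_eq]
  exact closeR_0

theorem close_1 : cert.scan 4095 (cert.W 102699) 1985 0 = some (1985, 31523028433137665) := by
  rw [← VCert.scanR_eq]
  exact closeR_1

theorem close_2 : cert.scan 4095 (cert.W 103026) 27222 0 = some (27222, 44962372153024534) := by
  rw [← VCert.scanR_eq]
  exact closeR_2

end Cfsg.Agent.Lib.Helper7.Co1T
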