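import Cfsg.Agent.Lib.Helper7.Co1TU
import Cfsg.Agent.Lib.Helper7.Co1MC
import Cfsg.Agent.Lib.Helper5.Co1Gen.Gen
import Cfsg.Agent.Lib.Helper8.Co1M.PStab

/-!
# The multiplier of the first Conway group: the kernel of every finite stem extension of the group is an image of the cyclic group of order two

The letters of the certificate are five involutions of the group that generate it, the first four in the stabiliser of
a pair of minimal vectors of the lattice; their tables on the 98280 pairs are the tables by which the words of the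
certificate were checked, and an element that fixes five given pairs is trivial.
-/

set_option autoImplicit false
set_option maxRecDepth 100000

namespace Cfsg.Agent.Lib.Helper7.Co1T

open Cfsg MulAction Cfsg.Agent.Lib.Helper7.MG2
open Cfsg.Agent.Lib.Helper6.Leech (Co1 mkPair a0 card_co1)
open Cfsg.Agent.Co1P (rho)
open Cfsg.Agent.Lib.Helper5.Co1Gen (gH0 gH1 gH2 gH3 gXx acts_fH0 acts_fH1 acts_fH2 acts_fH3 acts_fXx eq_one_of_fix
  closure_letters)
open Cfsg.Agent.Lib.Helper8.Co1M (rho_b0_iff perfect_stab MF_stab card_stab finite_co1 not_dvd_card_ker_co1)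
open Cfsg.Agent.PL (Acts)

/-- the letters in the group -/
noncomputable def lT (y : ℕ) : Co1 :=
  if y = 0 then gH0 else if y = 1 then gH1 else if y = 2 then gH2 else if y = 3 then gH3 else
    if y = 4 then gXx else if y = 5 then gXx else 1

theorem lT_ge {y : ℕ} (hy : 6 ≤ y) : lT y = 1 := by
  rw [lT, if_neg (by omega), if_neg (by omega), if_neg (by omega), if_neg (by omega), if_neg (by omega),
    if_neg (by omega)]

theorem acts_congr {g : Equiv.Perm (Fin 98280)} {f f' : ℕ → ℕ} (h : Acts g f) (e : ∀ q, q < 98280 → f' q = f q) :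
    Acts g f' := by
  intro q hq
  rw [h q hq, e q hq]

/-- the letters act by their tables -/
theorem acts_lT (y : ℕ) : Acts (rho (lT y)) (tl y) := by
  rcases Nat.lt_or_ge y 6 with h | h
  · have : y = 0 ∨ y = 1 ∨ y = 2 ∨ y = 3 ∨ y = 4 ∨ y = 5 := by omega
    rcases this with rfl | rfl | rfl | rfl | rfl | rfl
    · exact acts_congr acts_fH0 tl_eq_0
    · exact acts_congr acts_fH1 tl_eq_1
    · exact acts_congr acts_fH2 tl_eq_2
    · exact acts_congr acts_fH3 tl_eq_3
    · exact acts_congr acts_fXx tl_eq_4
    · exact acts_congr acts_fXx tl_eq_5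
  · rw [lT_ge h, map_one]
    intro q hq
    rw [tl_ge h]
    rfl

/-- a word in the letters acts by the composition of the tables -/
theorem acts_wd : ∀ w : List ℕ, Acts (rho (VCert.wd lT w)) (traceG w)
  | [] => by
    rw [VCert.wd_nil, map_one]
    intro q hq
    rfl
  | y :: w => by
    rw [VCert.wd_cons, map_mul]
    exact (acts_lT y).mul (acts_wd w)

/-- **a word in the letters that fixes the five base points is trivial in the group** -/
theorem hword_co1 (w : List ℕ) (h : fixesBase w = true) : VCert.wd lT w = 1 := by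
  apply eq_one_of_fix
  intro b hb
  have hb' : b < 98280 := by
    simp only [List.mem_cons, List.not_mem_nil, or_false] at hb
    rcases hb with rfl | rfl | rfl | rfl | rfl <;> norm_num
  refine ⟨hb', Fin.ext ?_⟩
  rw [acts_wd w b hb']
  exact fixesBase_spec h b hb

theorem lT_mem_stab {y : ℕ} (hy : y < 4) : lT y ∈ stabilizer Co1 (mkPair a0) := by
  rw [← rho_b0_iff]
  apply Fin.ext
  have h := acts_lT y 98257 (by norm_num)
  have e : tl y 98257 = 98257 := by
    have : y = 0 ∨ y = 1 ∨ y = 2 ∨ y = 3 := by omega
    rcases this with rfl | rfl | rfl | rfl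
    · exact tl_fix_0.1
    · exact tl_fix_0.2.1
    · exact tl_fix_0.2.2.1
    · exact tl_fix_0.2.2.2
  rw [e] at h
  exact h

theorem closure_lT : Subgroup.closure (lT '' Set.Iio 6) = ⊤ := by
  rw [eq_top_iff, ← closure_letters]
  apply Subgroup.closure_mono
  intro g hg
  simp only [Set.mem_insert_iff, Set.mem_singleton_iff] at hg
  rcases hg with rfl | rfl | rfl | rfl | rfl
  · exact ⟨0, by norm_num, rfl⟩
  · exact ⟨1, by norm_num, rfl⟩
  · exact ⟨2, by norm_num, rfl⟩
  · exact ⟨3, by norm_num, rfl⟩
  · exact ⟨4, by norm_num, rfl⟩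

/-- **the kernel of every finite stem extension of the first Conway group is an image of the cyclic group of order
two** -/
theorem co1_upper (Γ : Type) [Group Γ] [Finite Γ] (σ : Γ →* Cfsg.Spor.Co1) (hσ : IsStemExtension σ) :
    ∃ π : Multiplicative (ZMod 2) →* ↥σ.ker, Function.Surjective π := by
  have := finite_co1
  exact exists_surj_of_stem (stabilizer Co1 (mkPair a0)) lT hword_co1 (fun x hx => lT_ge hx)
    (fun x hx => lT_mem_stab hx) closure_lT perfect_stab MF_stab (by
      show Nat.card Co1 = _
      rw [card_co1]) card_stab σ hσ.1 hσ.2.1 hσ.2.2 (not_dvd_card_ker_co1 σ hσ)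

end Cfsg.Agent.Lib.Helper7.Co1T
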