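import Cfsg.Agent.Lib.Helper7.Co1TC

/-! # The multiplier of the first Conway group, the table of the group: the check of the rows 85800 to 87359 of the certificate (generated) -/

set_option autoImplicit false
set_option maxRecDepth 100000
set_option maxHeartbeats 0

namespace Cfsg.Agent.Lib.Helper7.Co1T

theorem rows_ok_f55 : rowsOK 85800 195 = true ∧ rowsOK 85995 195 = true ∧ rowsOK 86190 195 = true ∧ rowsOK 86385 195 = true ∧ rowsOK 86580 195 = true ∧ rowsOK 86775 195 = true ∧ rowsOK 86970 195 = true ∧ rowsOK 87165 195 = true :=
  ⟨by decide +kernel, by decide +kernel, by decide +kernel, by decide +kernel, by decide +kernel, by decide +kernel, by decide +kernel, by decide +kernel⟩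

end Cfsg.Agent.Lib.Helper7.Co1T
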