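import Cfsg.Agent.Lib.Helper7.M12MultA

/-!
# Stem extensions whose kernel has order prime to the multiplier of a subgroup

If the kernels of the finite stem extensions of a perfect subgroup `Q` are images of a cyclic group of order `N`, and
`σ` is a central extension whose kernel has order prime to `N`, then `σ` is injective on the derived subgroup of the
preimage of `Q`.
-/

set_option autoImplicit false

namespace Cfsg.Agent.Lib.Helper7.M12Mult

open scoped commutatorElement

universe u v

/-- the kernels of the finite stem extensions of `Q` (in the universe `u`) are images of the cyclic group of order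
`N` -/
def MFN (N : ℕ) (Q : Type v) [Group Q] : Prop :=
  ∀ (Γ' : Type u) [Group Γ'] [Finite Γ'] (τ : Γ' →* Q), Function.Surjective τ →
    τ.ker ≤ Subgroup.center Γ' → τ.ker ≤ commutator Γ' →
    ∃ π : Multiplicative (ZMod N) →* ↥τ.ker, Function.Surjective π

section general

variable {Γ : Type u} {G : Type v} [Group Γ] [Group G] {σ : Γ →* G}

theorem resMt_ker_eq_bot_cop [Finite Γ] (hsurj : Function.Surjective σ) (hcen : σ.ker ≤ Subgroup.center Γ)
    (Q : Subgroup G) (hperf : commutator ↥Q = ⊤) (N : ℕ) [NeZero N] (hMF : MFN.{u} N ↥Q)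
    (hcop : (Nat.card ↥σ.ker).Coprime N) : (resMt (σ := σ) Q).ker = ⊥ := by
  obtain ⟨π, hπ⟩ := hMF ↥(Mt σ Q) (resMt (σ := σ) Q) (by
      intro q
      obtain ⟨x, hx, e⟩ := exists_mem_Mt hsurj Q hperf q.1 q.2
      exact ⟨⟨x, hx⟩, Subtype.ext e⟩) (by
      intro x hx
      rw [MonoidHom.mem_ker] at hx
      have h1 : σ x.1 = 1 := by
        have := congrArg Subtype.val hx
        exact this
      have h2 : x.1 ∈ Subgroup.center Γ := hcen (MonoidHom.mem_ker.2 h1)
      rw [Subgroup.mem_center_iff]
      intro y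
      apply Subtype.ext
      exact Subgroup.mem_center_iff.1 h2 y.1) (by
      rw [commutator_eq_top_of_self (Mt_perfect hsurj hcen Q hperf)]
      exact le_top)
  -- the order of the kernel divides `N`
  have d1 : Nat.card ↥(resMt (σ := σ) Q).ker ∣ N := by
    have h1 := Subgroup.card_dvd_of_surjective π hπ
    have h2 : Nat.card (Multiplicative (ZMod N)) = N := by
      show Nat.card (ZMod N) = N
      rw [Nat.card_eq_fintype_card, ZMod.card]
    rwa [h2] at h1
  -- the kernel embeds into the kernel of `σ`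
  let ι : ↥(resMt (σ := σ) Q).ker →* ↥σ.ker :=
    { toFun := fun x => ⟨x.1.1, by
        have h := x.2
        rw [MonoidHom.mem_ker] at h
        rw [MonoidHom.mem_ker]
        have := congrArg Subtype.val h
        exact this⟩
      map_one' := rfl
      map_mul' := fun _ _ => rfl }
  have hι : Function.Injective ι := by
    intro x y h
    apply Subtype.ext
    apply Subtype.ext
    have h' : ((ι x : ↥σ.ker) : Γ) = ((ι y : ↥σ.ker) : Γ) := congrArg Subtype.val h
    exact h'
  have d2 : Nat.card ↥(resMt (σ := σ) Q).ker ∣ Nat.card ↥σ.ker := Subgroup.card_dvd_of_injective ι hι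
  have d3 : Nat.card ↥(resMt (σ := σ) Q).ker ∣ 1 := by
    have := Nat.dvd_gcd d2 d1
    rwa [hcop] at this
  exact Subgroup.eq_bot_of_card_eq _ (Nat.dvd_one.1 d3)

/-- **`σ` is injective on the derived subgroup of the preimage of `Q`** -/
theorem eq_one_of_mem_Mt_of_ker (Q : Subgroup G) (hk : (resMt (σ := σ) Q).ker = ⊥) {x : Γ} (hx : x ∈ Mt σ Q)
    (h1 : σ x = 1) : x = 1 := by
  have : (⟨x, hx⟩ : ↥(Mt σ Q)) ∈ (resMt (σ := σ) Q).ker := by
    rw [MonoidHom.mem_ker]
    exact Subtype.ext h1
  rw [hk, Subgroup.mem_bot] at this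
  exact congrArg Subtype.val this

theorem card_Mt_le_of_ker [Finite G] (Q : Subgroup G) (hk : (resMt (σ := σ) Q).ker = ⊥) :
    Nat.card ↥(Mt σ Q) ≤ Nat.card ↥Q :=
  Nat.card_le_card_of_injective _ ((MonoidHom.ker_eq_bot_iff _).1 hk)

/-- a word in elements of the derived subgroup of the preimage of `Q` whose image is trivial is trivial -/
theorem prod_eq_one_of_Mt_of_ker (Q : Subgroup G) (hk : (resMt (σ := σ) Q).ker = ⊥) (l : List Γ)
    (hl : ∀ x ∈ l, x ∈ Mt σ Q) (h1 : (l.map σ).prod = 1) : l.prod = 1 := by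
  apply eq_one_of_mem_Mt_of_ker Q hk (Subgroup.list_prod_mem _ hl)
  rw [map_list_prod]
  exact h1

end general

/-- **a group generated by two elements `x`, `y` with `x ^ a = y ^ b = (x y) ^ c = (x y y) ^ d = 1`, where `a` is
prime to `c b` and `2 d` is prime to `b`, is perfect** -/
theorem perfect_of_pair {G : Type*} [Group G] {x y : G} (hgen : Subgroup.closure {x, y} = (⊤ : Subgroup G))
    {a b c d : ℕ} (hx : x ^ a = 1) (hy : y ^ b = 1) (hxy : (x * y) ^ c = 1) (hxyy : (x * y * y) ^ d = 1)
    (h1 : Nat.Coprime a (c * b)) (h2 : Nat.Coprime (2 * d) b) : commutator G = ⊤ := by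
  set π := (Abelianization.of : G →* Abelianization G) with hπ
  set X := π x with hX
  set Y := π y with hY
  have e1 : X ^ a = 1 := by rw [hX, ← map_pow, hx, map_one]
  have e2 : Y ^ b = 1 := by rw [hY, ← map_pow, hy, map_one]
  have e3 : X ^ c * Y ^ c = 1 := by rw [← mul_pow, hX, hY, ← map_mul, ← map_pow, hxy, map_one]
  have e4 : X ^ (c * b) = 1 := by
    have : (X ^ c * Y ^ c) ^ b = 1 := by rw [e3, one_pow]
    rw [mul_pow, ← pow_mul, ← pow_mul, mul_comm c b, pow_mul Y, e2, one_pow, mul_one, mul_comm b c] at this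
    exact this
  have x1 : X = 1 := by
    have d1 := orderOf_dvd_of_pow_eq_one e1
    have d2 := orderOf_dvd_of_pow_eq_one e4
    have d3 : orderOf X ∣ Nat.gcd a (c * b) := Nat.dvd_gcd d1 d2
    rw [h1] at d3
    have : X ^ 1 = 1 := orderOf_dvd_iff_pow_eq_one.1 d3
    rwa [pow_one] at this
  have e5 : Y ^ (2 * d) = 1 := by
    have : (X * Y * Y) ^ d = 1 := by rw [hX, hY, ← map_mul, ← map_mul, ← map_pow, hxyy, map_one]
    rw [x1, one_mul, ← pow_two, ← pow_mul] at this
    exact this
  have y1 : Y = 1 := by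
    have d1 := orderOf_dvd_of_pow_eq_one e5
    have d2 := orderOf_dvd_of_pow_eq_one e2
    have d3 : orderOf Y ∣ Nat.gcd (2 * d) b := Nat.dvd_gcd d1 d2
    rw [h2] at d3
    have : Y ^ 1 = 1 := orderOf_dvd_iff_pow_eq_one.1 d3
    rwa [pow_one] at this
  have hk : (⊤ : Subgroup G) ≤ π.ker := by
    rw [← hgen, Subgroup.closure_le]
    intro g hg
    rcases hg with rfl | rfl
    · exact x1
    · exact y1
  rw [← Abelianization.ker_of G]
  exact top_le_iff.1 hk

end Cfsg.Agent.Lib.Helper7.M12Mult
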