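import Cfsg.Agent.Lib.Helper7.MG2A
import Cfsg.Agent.Lib.Helper7.MGenP

/-!
# The kernel of a central extension and a checked table with up to a million words

The statements of `MGenB`, `MGenD`, `MGenE`, `MGenG` and `MGenH` about a checked table, for the certificate of `MG2A`:
the kernel is generated by the central elements of the table; the classes of the given words; the passage from a traced
word to a relation between the central elements; repeated words; the effect of multiplying one generator by a central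
element.
-/

set_option autoImplicit false

namespace Cfsg.Agent.Lib.Helper7.MG2

open Cfsg.Agent.Lib.Helper8.CosetCert (R index_le_of_closed)
open Cfsg.Agent.Lib.Helper7.MG (Zc Zc_le_center zprod zprod_congr zprod_add zprod_smul zprod_zero dotL expsumL wpow)
open scoped Pointwise IsMulCommutative

namespace VCert

variable (C : VCert) {Γ : Type*} [Group Γ] (z : ℕ → Subgroup.center Γ)

/-- with trivial central elements all products of their powers are trivial -/
theorem kap_triv (hz : ∀ j, j < C.k → z j = 1) (v c : ℕ) : C.kap z v c = 1 := by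
  unfold VCert.kap
  apply Finset.prod_eq_one
  intro j hj
  rw [hz j (Finset.mem_range.1 hj), one_zpow]

/-! ### the classes of the given words -/

theorem kap_eq_zprod (v c : ℕ) : C.kap z v c = zprod z C.k (fun j => (fld v j : ℤ) - (c : ℤ) * (C.B : ℤ)) := rfl

theorem kap_unit {v c j : ℕ} (hj : j < C.k)
    (h : ∀ l, l < C.k → (fld v l : ℤ) - (c : ℤ) * (C.B : ℤ) = if l = j then 1 else 0) : C.kap z v c = z j := by
  unfold kap
  rw [Finset.prod_eq_single j]
  · rw [h j hj, if_pos rfl, zpow_one]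
  · intro b hb hbj
    rw [h b (Finset.mem_range.1 hb), if_neg hbj, zpow_zero]
  · intro hn
    exact absurd (Finset.mem_range.2 hj) hn

theorem kap_one {v c : ℕ} (h : ∀ l, l < C.k → (fld v l : ℤ) - (c : ℤ) * (C.B : ℤ) = 0) : C.kap z v c = 1 := by
  unfold kap
  apply Finset.prod_eq_one
  intro l hl
  rw [h l (Finset.mem_range.1 hl), zpow_zero]

/-! ### from a traced word to a relation -/

/-- the relation that a traced word gives -/
theorem rel_of_close {i v : ℕ} (h : C.ek z i = C.kap z v (C.W i).length) (r : List ℤ)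
    (hr : ∀ j, j < C.k → (fld (C.rhs i) j : ℤ) - (fld v j : ℤ) = r.getD j 0) :
    zprod z C.k (fun l => r.getD l 0) = 1 := by
  rw [ek, kap_eq_zprod, kap_eq_zprod] at h
  refine Cfsg.Agent.Lib.Helper7.MG.VCert.rel_of_eq z C.k h r ?_
  intro j hj
  rw [← hr j hj]
  ring

end VCert

/-! ### repeated words, and one generator multiplied by a central element -/

theorem wd_eq {Γ : Type*} [Group Γ] (γ : ℕ → Γ) (w : List ℕ) :
    VCert.wd γ w = Cfsg.Agent.Lib.Helper7.MG.VCert.wd γ w := rfl

theorem wd_wpow {Γ : Type*} [Group Γ] (γ : ℕ → Γ) (w : List ℕ) (m : ℕ) :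
    VCert.wd γ (wpow m w) = VCert.wd γ w ^ m := by
  rw [wd_eq, wd_eq]
  exact Cfsg.Agent.Lib.Helper7.MG.wd_wpow γ w m

/-- multiplying a generator by a central element multiplies the value of a word by a power -/
theorem wd_central_mul_at {Γ : Type*} [Group Γ] (p q : ℕ) (hpq : q ≠ p) (γ γ' : ℕ → Γ) (w : Γ)
    (hw : w ∈ Subgroup.center Γ)
    (h0 : γ' p = γ p * w) (h1 : γ' q = γ q * w⁻¹) (hx : ∀ x, x ≠ p → x ≠ q → γ' x = γ x) (u : List ℕ) :
    VCert.wd γ' u = VCert.wd γ u * w ^ expsumL p q u := by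
  rw [wd_eq, wd_eq]
  exact Cfsg.Agent.Lib.Helper7.MG.wd_central_mul_at p q hpq γ γ' w hw h0 h1 hx u

/-! ### the kernel of a stem extension -/

section stem

variable {G : Type*} [Group G] [Finite G] {Γ : Type*} [Group Γ] [Finite Γ] (σ : Γ →* G)

variable (C : VCert) (γ : ℕ → Γ) (z : ℕ → Subgroup.center Γ) (H : Subgroup Γ) (h : ℕ)
  (hsurj : Function.Surjective σ)
  (hcard : Nat.card G = h * C.n) (hn0 : 0 < C.n) (hh : 0 < h)
  (hHK : ∀ u, u ∈ H → u ∈ σ.ker → u = 1) (hHc : Nat.card ↥H ≤ h)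
  (hsubx : ∀ x, C.sub x = true → γ x ∈ H)
  (hzK : ∀ j, j < C.k → (z j : Γ) ∈ σ.ker)
  (hgen : ∀ y : Γ, ∃ u : List ℕ, (∀ x ∈ u, x < C.g) ∧ y = (u.map γ).prod)
  (hn : C.n ≤ 1048576) (hB : C.B < 4096) (hinv : ∀ x, x < C.g → γ (C.iv x) = (γ x)⁻¹)
  (hWK : ∀ i, i < C.nW → VCert.wd γ (C.W i) ∈ σ.ker)
  (hW0 : ∀ i, i < C.nW → C.wT i = 0 → VCert.wd γ (C.W i) = (C.ek z i : Γ))
  (hall : ∀ a, a < C.n → ∀ x, x < C.g → C.slotOK a x = true)
  (hwall : ∀ i, i < C.nW → C.wordOK i = true)

include hHK hHc hsubx hzK hgen hn hB hinv hWK hW0 hall hwall hn0 in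
omit [Finite G] [Finite Γ] in
/-- **the order of the group is at most the number of rows times the bound for the order of the subgroup of the table
times the order of the subgroup generated by the central elements** -/
theorem card_le_Zc_of_sub : Nat.card Γ ≤ C.n * (h * Nat.card ↥(Zc z C.k)) := by
  have hnorm : (Zc z C.k).Normal := by
    constructor
    intro n hn' g
    have := Subgroup.mem_center_iff.1 (Zc_le_center z C.k hn') g
    rw [this, mul_inv_cancel_right]
    exact hn'
  have hKn : ∀ u, u ∈ σ.ker → ∀ g : Γ, g * u * g⁻¹ ∈ σ.ker := fun u hu g =>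
    (inferInstance : σ.ker.Normal).conj_mem u hu g
  have hidx := C.index_le (γ := γ) (H := H) (z := z) σ.ker hKn hzK hHK hn hB hinv hsubx hWK hW0 hall hwall
    (H ⊔ Zc z C.k) le_sup_left (fun j hj => (le_sup_right : Zc z C.k ≤ H ⊔ Zc z C.k)
      (Subgroup.subset_closure ⟨j, hj, rfl⟩)) hgen hn0
  have hc1 : Nat.card ↥(H ⊔ Zc z C.k) ≤ h * Nat.card ↥(Zc z C.k) := by
    have e : ((H ⊔ Zc z C.k : Subgroup Γ) : Set Γ) = (H : Set Γ) * (Zc z C.k : Set Γ) := Subgroup.mul_normal H _
    have h1 : Nat.card ↥(H ⊔ Zc z C.k) = Nat.card ((H : Set Γ) * (Zc z C.k : Set Γ) : Set Γ) := by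
      rw [← e]; rfl
    rw [h1]
    refine le_trans Set.natCard_mul_le ?_
    exact Nat.mul_le_mul_right _ hHc
  exact Cfsg.Agent.Lib.Helper7.M12Mult.card_le_of_index_le _ hidx.1 hc1

include hsurj hcard hn0 hh hHK hHc hsubx hzK hgen hn hB hinv hWK hW0 hall hwall in
omit [Finite G] in
/-- **the kernel is generated by the central elements of the table** -/
theorem ker_eq_Zc_of_sub : σ.ker = Zc z C.k := by
  have hZK : Zc z C.k ≤ σ.ker := by
    rw [Zc, Subgroup.closure_le]
    rintro _ ⟨j, hj, rfl⟩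
    exact hzK j hj
  have hc2 : Nat.card Γ ≤ C.n * (h * Nat.card ↥(Zc z C.k)) :=
    card_le_Zc_of_sub σ C γ z H h hn0 hHK hHc hsubx hzK hgen hn hB hinv hWK hW0 hall hwall
  have hc3 : Nat.card Γ = Nat.card σ.ker * (h * C.n) := by
    rw [← hcard, ← Subgroup.card_mul_index σ.ker, Subgroup.index_ker, MonoidHom.range_eq_top.2 hsurj,
      Subgroup.card_top]
  have hc4 : Nat.card σ.ker ≤ Nat.card ↥(Zc z C.k) := by
    have : Nat.card σ.ker * (h * C.n) ≤ Nat.card ↥(Zc z C.k) * (h * C.n) := by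
      rw [← hc3]
      calc Nat.card Γ ≤ C.n * (h * Nat.card ↥(Zc z C.k)) := hc2
        _ = Nat.card ↥(Zc z C.k) * (h * C.n) := by ring
    exact Nat.le_of_mul_le_mul_right this (Nat.mul_pos hh hn0)
  symm
  apply Subgroup.eq_of_le_of_card_ge hZK
  exact hc4

end stem

end Cfsg.Agent.Lib.Helper7.MG2
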