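import Cfsg.Agent.Lib.Helper7.MGenE

/-!
# Multiplying one generator by a central element

The exponent sum of any pair of letters `p`, `q` that stand for a generator and its inverse, and the effect on the
value of a word of multiplying that generator by a central element.
-/

set_option autoImplicit false

namespace Cfsg.Agent.Lib.Helper7.MG

/-- the exponent sum of the generator with the letters `p` and `q` in a word -/
def expsumL (p q : ℕ) : List ℕ → ℤ
  | [] => 0
  | x :: w => (if x = p then 1 else if x = q then -1 else 0) + expsumL p q w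

/-- multiplying a generator by a central element multiplies the value of a word by a power -/
theorem wd_central_mul_at {Γ : Type*} [Group Γ] (p q : ℕ) (hpq : q ≠ p) (γ γ' : ℕ → Γ) (w : Γ)
    (hw : w ∈ Subgroup.center Γ)
    (h0 : γ' p = γ p * w) (h1 : γ' q = γ q * w⁻¹) (hx : ∀ x, x ≠ p → x ≠ q → γ' x = γ x) :
    ∀ u : List ℕ, VCert.wd γ' u = VCert.wd γ u * w ^ expsumL p q u
  | [] => by simp [VCert.wd_nil, expsumL]
  | x :: u => by
    have hc : ∀ (i : ℤ) (y : Γ), w ^ i * y = y * w ^ i := fun i y =>
      (Subgroup.mem_center_iff.1 (Subgroup.zpow_mem _ hw i) y).symm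
    rw [VCert.wd_cons, VCert.wd_cons, wd_central_mul_at p q hpq γ γ' w hw h0 h1 hx u, expsumL]
    by_cases hx0 : x = p
    · subst hx0
      rw [h0, if_pos rfl, zpow_add, zpow_one]
      have := hc 1 (VCert.wd γ u)
      rw [zpow_one] at this
      rw [mul_assoc (γ x), ← mul_assoc w, this]
      simp only [mul_assoc]
    · by_cases hx1 : x = q
      · subst hx1
        rw [h1, if_neg hpq, if_pos rfl, zpow_add, zpow_neg, zpow_one]
        have := hc (-1) (VCert.wd γ u)
        rw [zpow_neg, zpow_one] at this
        rw [mul_assoc (γ x), ← mul_assoc w⁻¹, this]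
        simp only [mul_assoc]
      · rw [hx x hx0 hx1, if_neg hx0, if_neg hx1, zero_add, mul_assoc]

end Cfsg.Agent.Lib.Helper7.MG
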