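import Cfsg.Agent.Lib.Helper7.Co1TU1
import Cfsg.Agent.Lib.Helper7.Co1MD
import Cfsg.Agent.Lib.Helper7.MG2B
import Cfsg.Agent.Lib.Helper7.MGenH
import Cfsg.Agent.Lib.Helper7.MGenP

/-!
# The multiplier of the first Conway group: the kernel of every finite stem extension is an image of the cyclic group of order two

The setting is a finite group `G` of order `42305421312000 * 98280` with six letters `lT 0, …, lT 5`, the first four
in a perfect subgroup `Q` of order `42305421312000` that has no proper finite stem extension, such that every word in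
the letters that fixes five given points under the tables of the letters is trivial in `G`.  For the first Conway group
`Q` is the stabiliser of a pair of minimal vectors of the lattice, a copy of the second Conway group.

In a finite stem extension the derived subgroup of the preimage of `Q` is a copy of `Q`; the first four letters are
lifted into this copy, so that all the words in these letters that are trivial in the group are trivial in the
extension.  The fifth letter is an involution outside `Q`; its lift is chosen so that the twenty-third power of a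
given word is trivial, which is possible since the order of the kernel is prime to twenty-three.  Three elements of
`G` outside `Q`, words in the letters, conjugate subgroups of `Q`, each given by sixteen generators, into `Q`; the
conjugates of the lifts of the generators are the lifts of the conjugates up to central elements, and the relations
between the generators that say that certain products have certain orders show that these central elements are
trivial for two of the three subgroups and powers of one of them for the third.  The checked table over the copy of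
`Q` shows that the kernel is generated by the values of three given words; three traced words give relations between
them, which make the kernel cyclic of order dividing two, up to elements of order twenty-three.
-/

set_option autoImplicit false
set_option maxRecDepth 100000

namespace Cfsg.Agent.Lib.Helper7.Co1T

open Cfsg Cfsg.Agent.Lib.Helper7.MG2 Cfsg.Agent.Lib.Helper7.HSMult
open Cfsg.Agent.Lib.Helper7.MG (Zc zprod zprod_congr zprod_smul zprod_zero zprod_single zprod_mem dotL expsumL wpow
  cyclic_of_relations cyclic_of_relations_q Zc_le_zpowers exists_root eq_one_of_pow_of_coprime exists_surj_zmod)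
open Cfsg.Agent.Lib.Helper7.M12Mult
open scoped IsMulCommutative commutatorElement

/-! ### the given words of the certificate -/

theorem length_unpL : ∀ (k v : ℕ), (unpL k v).length = k
  | 0, _ => rfl
  | k + 1, v => by
    have e : unpL (k + 1) v = strictN (Nat.shiftRight v 4) fun v' => Nat.land v 15 :: unpL k v' := rfl
    rw [e, strictN_eq, List.length_cons, length_unpL k]

/-- a given word that is not among the first has letters of the subgroup only, and the trivial class -/
theorem pure_spec {i : ℕ} (h : pureOK i = true) (hT : cert.wT i = 0) :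
    (∀ x ∈ cert.W i, x < 4) ∧
      ∀ l, l < 3 → ((fld (cert.rhs i) l : ℤ) - ((cert.W i).length : ℤ) * (cert.B : ℤ)) = 0 := by
  have hT' : Nat.land (wrec i) 4095 = 0 := hT
  rw [pureOK, strictN_eq, hT'] at h
  have h' : ((unpL (Nat.land (Nat.shiftRight (wrec i) 92) 255) (Nat.shiftRight (wrec i) 100)).all
        (fun x => Nat.blt x 4) &&
      Nat.beq (Nat.land (Nat.shiftRight (wrec i) 32) 1152921504606846975)
        (Nat.mul (Nat.land (Nat.shiftRight (wrec i) 92) 255) 2251801961170944)) = true := by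
    simpa using h
  rw [Bool.and_eq_true] at h'
  obtain ⟨h1, h2⟩ := h'
  have eW : cert.W i = unpL (Nat.land (Nat.shiftRight (wrec i) 92) 255) (Nat.shiftRight (wrec i) 100) := by
    show wordOf i = _
    rw [wordOf, strictN_eq]
  have eR : cert.rhs i = Nat.land (Nat.shiftRight (wrec i) 92) 255 * 2251801961170944 := Nat.eq_of_beq_eq_true h2
  have hlt : Nat.land (Nat.shiftRight (wrec i) 92) 255 < 256 := by
    show (Nat.shiftRight (wrec i) 92) &&& 255 < 256
    exact Nat.lt_succ_of_le Nat.and_le_right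
  constructor
  · intro x hx
    rw [eW] at hx
    have := List.all_eq_true.1 h1 x hx
    simpa [Nat.blt] using this
  · intro l hl
    rw [eW, length_unpL, eR, chk_fld _ hlt l hl]
    show ((Nat.land (Nat.shiftRight (wrec i) 92) 255 * 2048 : ℕ) : ℤ) -
      ((Nat.land (Nat.shiftRight (wrec i) 92) 255 : ℕ) : ℤ) * ((2048 : ℕ) : ℤ) = 0
    push_cast
    ring

/-- the places of the first three words -/
def axI : ℕ → ℕ
  | 0 => 0
  | 1 => 1
  | 2 => 2
  | _ => 0

theorem axI_lt : ∀ j, axI j < 103143
  | 0 => by decide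
  | 1 => by decide
  | 2 => by decide
  | _ + 3 => by
    show (0 : ℕ) < 103143
    decide

theorem axI_eq {j : ℕ} (hj : j < 3) : axI j = j := by
  have : j = 0 ∨ j = 1 ∨ j = 2 := by omega
  rcases this with rfl | rfl | rfl <;> rfl

theorem iv_lt {x : ℕ} (hx : x < 4) : cert.iv x = x := by
  have : x = 0 ∨ x = 1 ∨ x = 2 ∨ x = 3 := by omega
  rcases this with rfl | rfl | rfl | rfl <;> rfl

theorem iv_lt_six {x : ℕ} (hx : x < 6) : cert.iv x < 6 := by
  have : x = 0 ∨ x = 1 ∨ x = 2 ∨ x = 3 ∨ x = 4 ∨ x = 5 := by omega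
  rcases this with rfl | rfl | rfl | rfl | rfl | rfl <;> decide

theorem lt_four_of_sub {x : ℕ} (h : cert.sub x = true) : x < 4 := by
  have h' : (Nat.beq x 0 || Nat.beq x 1 || Nat.beq x 2 || Nat.beq x 3) = true := h
  simp only [Bool.or_eq_true] at h'
  rcases h' with ((h0 | h0) | h0) | h0
  · have := Nat.eq_of_beq_eq_true h0; omega
  · have := Nat.eq_of_beq_eq_true h0; omega
  · have := Nat.eq_of_beq_eq_true h0; omega
  · have := Nat.eq_of_beq_eq_true h0; omega

theorem all_blt {w : List ℕ} {n : ℕ} (h : w.all (fun x => Nat.blt x n) = true) : ∀ x ∈ w, x < n := by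
  intro x hx
  have := List.all_eq_true.1 h x hx
  simpa [Nat.blt] using this

/-! ### the letters in the group -/

section upper

universe u

variable {G : Type u} [Group G] [Finite G] (Q : Subgroup G) (lT : ℕ → G)
  (hword : ∀ w : List ℕ, fixesBase w = true → VCert.wd lT w = 1)
  (hge : ∀ x, 6 ≤ x → lT x = 1)
  (hQ : ∀ x, x < 4 → lT x ∈ Q)
  (hgenG : Subgroup.closure (lT '' Set.Iio 6) = ⊤)
  (hQperf : commutator ↥Q = ⊤)
  (hMF : MF.{u} ↥Q)
  (hcardG : Nat.card G = 42305421312000 * 98280)
  (hcardQ : Nat.card ↥Q = 42305421312000)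

include hword in
omit [Finite G] in
theorem lT_iv {x : ℕ} (hx : x < 6) : lT (cert.iv x) = (lT x)⁻¹ := by
  have h := hword _ (chk_inv x hx)
  rw [VCert.wd_cons, VCert.wd_cons, VCert.wd_nil, mul_one] at h
  exact eq_inv_of_mul_eq_one_right h

include hword in
omit [Finite G] in
theorem lT_sq {x : ℕ} (hx : x < 4) : lT x * lT x = 1 := by
  have h := lT_iv lT hword (x := x) (by omega)
  rw [iv_lt hx] at h
  nth_rewrite 1 [h]
  exact inv_mul_cancel _

include hword in
omit [Finite G] in
theorem wd_lT_W {i : ℕ} (hi : i < cert.nW) : VCert.wd lT (cert.W i) = 1 := hword _ (words_fix i hi)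

include hQ in
omit [Finite G] in
theorem wd_lT_mem_Q : ∀ w : List ℕ, (∀ x ∈ w, x < 4) → VCert.wd lT w ∈ Q
  | [], _ => Q.one_mem
  | x :: w, h => by
    rw [VCert.wd_cons]
    exact Q.mul_mem (hQ x (h x List.mem_cons_self))
      (wd_lT_mem_Q w fun y hy => h y (List.mem_cons_of_mem _ hy))

variable {Γ : Type u} [Group Γ] [Finite Γ] (σ : Γ →* G) (hsurj : Function.Surjective σ)
  (hcen : σ.ker ≤ Subgroup.center Γ) (hder : σ.ker ≤ commutator Γ) (hnd : ¬ 23 ∣ Nat.card σ.ker)

/-! ### the letters in the extension -/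

/-- the letters in the extension -/
def gU (f : ℕ → Γ) (t : Γ) (x : ℕ) : Γ :=
  if x < 4 then f x else if x = 4 then t else if x = 5 then t⁻¹ else 1

omit [Finite Γ] in
theorem gU_lt (f : ℕ → Γ) (t : Γ) {x : ℕ} (hx : x < 4) : gU f t x = f x := by
  rw [gU, if_pos hx]

omit [Finite Γ] in
theorem gU_four (f : ℕ → Γ) (t : Γ) : gU f t 4 = t := rfl

omit [Finite Γ] in
theorem gU_five (f : ℕ → Γ) (t : Γ) : gU f t 5 = t⁻¹ := rfl

omit [Finite Γ] in
theorem gU_ge (f : ℕ → Γ) (t : Γ) {x : ℕ} (hx : 6 ≤ x) : gU f t x = 1 := by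
  rw [gU, if_neg (by omega), if_neg (by omega), if_neg (by omega)]

variable (f : ℕ → Γ) (t : Γ) (hfM : ∀ x, x < 4 → f x ∈ Mt σ Q) (hf : ∀ x, x < 4 → σ (f x) = lT x)
  (ht : σ t = lT 4)

include hword hge hf ht in
omit [Finite G] [Finite Γ] in
theorem map_gU (x : ℕ) : σ (gU f t x) = lT x := by
  rcases Nat.lt_or_ge x 4 with h | h
  · rw [gU_lt f t h, hf x h]
  · rcases Nat.lt_or_ge x 6 with h' | h'
    · have : x = 4 ∨ x = 5 := by omega
      rcases this with rfl | rfl
      · exact ht
      · rw [gU_five, map_inv, ht]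
        exact (lT_iv lT hword (x := 4) (by norm_num)).symm
    · rw [gU_ge f t h', map_one, hge x h']

include hword hge hf ht in
omit [Finite G] [Finite Γ] in
theorem map_wd_gU : ∀ w : List ℕ, σ (VCert.wd (gU f t) w) = VCert.wd lT w
  | [] => map_one σ
  | x :: w => by
    rw [VCert.wd_cons, VCert.wd_cons, map_mul, map_gU lT hword hge σ f t hf ht x, map_wd_gU w]

include hfM in
omit [Finite G] [Finite Γ] in
theorem gU_mem_Mt : ∀ x, x < 4 → gU f t x ∈ Mt σ Q := by
  intro x hx
  rw [gU_lt f t hx]
  exact hfM x hx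

include hword hge hQperf hMF hsurj hcen hfM hf ht in
omit [Finite G] in
/-- **a word in the letters of the subgroup that is trivial in the group is trivial in the extension** -/
theorem wd_gU_pure (w : List ℕ) (hw : ∀ x ∈ w, x < 4) (h1 : fixesBase w = true) : VCert.wd (gU f t) w = 1 := by
  have hl : ∀ x ∈ w.map (gU f t), x ∈ Mt σ Q := by
    intro x hx
    obtain ⟨y, hy', rfl⟩ := List.mem_map.1 hx
    exact gU_mem_Mt Q σ f t hfM y (hw y hy')
  have h2 : ((w.map (gU f t)).map σ).prod = 1 := by
    rw [← map_list_prod]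
    have := map_wd_gU lT hword hge σ f t hf ht w
    rw [VCert.wd] at this
    rw [this]
    exact hword w h1
  exact prod_eq_one_of_Mt hsurj hcen Q hQperf hMF _ hl h2

include hword hQperf hMF hsurj hcen hfM hf in
omit [Finite G] in
theorem f_sq {x : ℕ} (hx : x < 4) : f x * f x = 1 :=
  eq_one_of_mem_Mt hsurj hcen Q hQperf hMF (Subgroup.mul_mem _ (hfM x hx) (hfM x hx))
    (by rw [map_mul, hf x hx, lT_sq lT hword hx])

include hword hQperf hMF hsurj hcen hfM hf in
omit [Finite G] in
theorem gU_iv : ∀ x, x < 6 → gU f t (cert.iv x) = (gU f t x)⁻¹ := by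
  intro x hx
  rcases Nat.lt_or_ge x 4 with h | h
  · rw [iv_lt h, gU_lt f t h]
    exact eq_inv_of_mul_eq_one_left (f_sq Q lT hword hQperf hMF σ hsurj hcen f hfM hf h)
  · have : x = 4 ∨ x = 5 := by omega
    rcases this with rfl | rfl
    · rfl
    · exact (inv_inv t).symm

include hword hge hQ hQperf hsurj hcen hnd in
omit [Finite G] [Finite Γ] in
/-- **lifts of the letters: the first four in the copy of `Q`, the fifth such that the given word is trivial** -/
theorem exists_lifts : ∃ (f : ℕ → Γ) (t : Γ), (∀ x, x < 4 → f x ∈ Mt σ Q) ∧ (∀ x, x < 4 → σ (f x) = lT x) ∧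
    σ t = lT 4 ∧ VCert.wd (gU f t) (wpow 23 [4, 1, 2, 3]) = 1 := by
  have cop : (Nat.card ↥σ.ker).Coprime 23 :=
    ((Nat.Prime.coprime_iff_not_dvd (by norm_num)).2 hnd).symm
  have hex : ∀ x : ℕ, ∃ a : Γ, x < 4 → (a ∈ Mt σ Q ∧ σ a = lT x) := by
    intro x
    by_cases hx : x < 4
    · obtain ⟨a, haM, ha⟩ := exists_mem_Mt (σ := σ) hsurj Q hQperf (lT x) (hQ x hx)
      exact ⟨a, fun _ => ⟨haM, ha⟩⟩
    · exact ⟨1, fun h => absurd h hx⟩
  choose f hf using hex
  obtain ⟨t0, ht0⟩ := hsurj (lT 4)
  have hf1 : ∀ x, x < 4 → σ (f x) = lT x := fun x hx => (hf x hx).2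
  have hk2 : VCert.wd (gU f t0) (wpow 23 [4, 1, 2, 3]) ∈ σ.ker := by
    rw [MonoidHom.mem_ker, map_wd_gU lT hword hge σ f t0 hf1 ht0, ← chk_W3]
    exact wd_lT_W lT hword (by decide)
  obtain ⟨w, hw, hwr⟩ := exists_root σ.ker 23 cop _ (Subgroup.inv_mem _ hk2)
  have hwc : ∀ x : Γ, w⁻¹ * x = x * w⁻¹ := fun x =>
    (Subgroup.mem_center_iff.1 (Subgroup.inv_mem _ (hcen hw)) x).symm
  refine ⟨f, t0 * w, fun x hx => (hf x hx).1, hf1, ?_, ?_⟩
  · rw [map_mul, MonoidHom.mem_ker.1 hw, mul_one, ht0]
  · rw [wd_central_mul_at 4 5 (by norm_num) (gU f t0) (gU f (t0 * w)) w (hcen hw) rfl (by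
        show (t0 * w)⁻¹ = t0⁻¹ * w⁻¹
        rw [mul_inv_rev, hwc]) (by
        intro x h0 h1
        rcases Nat.lt_or_ge x 4 with h | h
        · rw [gU_lt _ _ h, gU_lt _ _ h]
        · rw [gU_ge _ _ (by omega), gU_ge _ _ (by omega)]), chk_yW]
    show _ * w ^ ((23 : ℕ) : ℤ) = 1
    rw [zpow_natCast, hwr, mul_inv_cancel]

variable (hy : VCert.wd (gU f t) (wpow 23 [4, 1, 2, 3]) = 1)

include hword hge hf ht in
omit [Finite G] [Finite Γ] in
theorem wd_gU_mem_ker {i : ℕ} (hi : i < 103143) : VCert.wd (gU f t) (cert.W i) ∈ σ.ker := by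
  rw [MonoidHom.mem_ker, map_wd_gU lT hword hge σ f t hf ht, wd_lT_W lT hword hi]

/-- the central elements: the values of the first three words -/
noncomputable def zU (j : ℕ) : Subgroup.center Γ :=
  ⟨VCert.wd (gU f t) (cert.W (axI j)), hcen (wd_gU_mem_ker lT hword hge σ f t hf ht (axI_lt j))⟩

/-- the central elements by which the conjugates of the lifts of the generators differ from the lifts of the
conjugates -/
noncomputable def cU (fam k : ℕ) : Subgroup.center Γ :=
  if h : cjI fam k < 103143 then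
    ⟨VCert.wd (gU f t) (cert.W (cjI fam k)), hcen (wd_gU_mem_ker lT hword hge σ f t hf ht h)⟩
  else 1

omit [Finite G] [Finite Γ] in
theorem cU_val {fam k : ℕ} (hf4 : fam < 4) (hf1 : 1 ≤ fam) (hk : k < 16) :
    (cU lT hword hge σ hcen f t hf ht fam k : Γ) = VCert.wd (gU f t) (cert.W (cjI fam k)) := by
  have h : cjI fam k < 103143 := lt_trans (chk_conjW fam hf4 hf1 k hk).1 (by norm_num)
  rw [cU, dif_pos h]

include hQperf hMF hsurj hfM in
omit [Finite G] in
/-- **the conjugates of the lifts of the generators** -/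
theorem conj_eq {fam k : ℕ} (hf4 : fam < 4) (hf1 : 1 ≤ fam) (hk : k < 16) :
    VCert.wd (gU f t) (gW fam) * VCert.wd (gU f t) (sW fam k) * (VCert.wd (gU f t) (gW fam))⁻¹ =
      (cU lT hword hge σ hcen f t hf ht fam k : Γ) * VCert.wd (gU f t) (sT fam k) := by
  have hiv := gU_iv Q lT hword hQperf hMF σ hsurj hcen f t hfM hf
  obtain ⟨hg6, _, ht4⟩ := chk_conjL fam hf4 hf1 k hk
  rw [cU_val lT hword hge σ hcen f t hf ht hf4 hf1 hk, (chk_conjW fam hf4 hf1 k hk).2, VCert.wd_append,
    VCert.wd_append, VCert.wd_append, wd_ivw (gU f t) cert.iv 6 hiv _ (all_blt hg6),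
    wd_ivw (gU f t) cert.iv 6 hiv _ (fun x hx => lt_trans (all_blt ht4 x hx) (by norm_num)),
    inv_mul_cancel_right]

include hQperf hMF hsurj hfM in
omit [Finite G] in
/-- the relations between the central elements of one of the three subgroups -/
theorem rel_cU {fam : ℕ} (hf4 : fam < 4) (hf1 : 1 ≤ fam) :
    ∀ r ∈ relF fam, zprod (cU lT hword hge σ hcen f t hf ht fam) 16 (fun l => r.getD l 0) = 1 := by
  intro r' hr'
  obtain ⟨p, hp, rfl⟩ := List.mem_map.1 hr'
  have hpow : (∀ k ∈ p.1, k < 16) ∧ fixesBase (wpow p.2 (p.1.flatMap (sW fam))) = true ∧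
      fixesBase (wpow p.2 (p.1.flatMap (sT fam))) = true := by
    have : fam = 1 ∨ fam = 2 ∨ fam = 3 := by omega
    rcases this with rfl | rfl | rfl
    · exact chk_pow_1 p hp
    · exact chk_pow_2 p hp
    · exact chk_pow_3 p hp
  obtain ⟨hk16, hA0, hB0⟩ := hpow
  have hsW : ∀ k, k < 16 → ∀ x ∈ sW fam k, x < 4 := fun k hk => all_blt (chk_conjL fam hf4 hf1 k hk).2.1
  have hsT : ∀ k, k < 16 → ∀ x ∈ sT fam k, x < 4 := fun k hk => all_blt (chk_conjL fam hf4 hf1 k hk).2.2
  have hA : ((p.1.map fun k => VCert.wd (gU f t) (sW fam k)).prod) ^ p.2 = 1 := by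
    rw [← wd_flatMap, ← wd_wpow]
    exact wd_gU_pure Q lT hword hge hQperf hMF σ hsurj hcen f t hfM hf ht _
      (mem_wpow_lt 4 _ (mem_flatMap_lt (sW fam) 16 4 hsW p.1 hk16) p.2) hA0
  have hB : ((p.1.map fun k => VCert.wd (gU f t) (sT fam k)).prod) ^ p.2 = 1 := by
    rw [← wd_flatMap, ← wd_wpow]
    exact wd_gU_pure Q lT hword hge hQperf hMF σ hsurj hcen f t hfM hf ht _
      (mem_wpow_lt 4 _ (mem_flatMap_lt (sT fam) 16 4 hsT p.1 hk16) p.2) hB0
  have hC := conj_rel (VCert.wd (gU f t) (gW fam)) (fun k => VCert.wd (gU f t) (sW fam k))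
    (fun k => VCert.wd (gU f t) (sT fam k)) (fun k => (cU lT hword hge σ hcen f t hf ht fam k : Γ)) p.1
    (fun k _ => (cU lT hword hge σ hcen f t hf ht fam k).2)
    (fun k hk => conj_eq Q lT hword hge hQperf hMF σ hsurj hcen f t hfM hf ht hf4 hf1 (hk16 k hk)) p.2 hA hB
  have e1 : (p.1.map fun k => (cU lT hword hge σ hcen f t hf ht fam k : Γ)).prod =
      (((p.1.map (cU lT hword hge σ hcen f t hf ht fam)).prod : Subgroup.center Γ) : Γ) := by
    have := map_list_prod (Subgroup.center Γ).subtype (p.1.map (cU lT hword hge σ hcen f t hf ht fam))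
    rw [List.map_map] at this
    exact this.symm
  rw [e1] at hC
  have hC' : ((p.1.map (cU lT hword hge σ hcen f t hf ht fam)).prod) ^ p.2 = 1 := by
    apply Subtype.ext
    rw [Subgroup.coe_pow, Subgroup.coe_one]
    exact hC
  rw [prod_map_eq_zprod (cU lT hword hge σ hcen f t hf ht fam) 16 p.1 hk16, ← zpow_natCast, ← zprod_smul] at hC'
  rw [← hC']
  apply zprod_congr
  intro l hl
  exact getD_map_range (fun l => (p.2 : ℤ) * (p.1.count l : ℤ)) 16 l 0 hl

include hQperf hMF hsurj hfM in
omit [Finite G] in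
/-- **the central elements of the three subgroups are powers of the second central element** -/
theorem cU_eq {fam k : ℕ} (hf4 : fam < 4) (hf1 : 1 ≤ fam) (hk : k < 16) :
    cU lT hword hge σ hcen f t hf ht fam k = zU lT hword hge σ hcen f t hf ht 1 ^ (cjP fam k : ℤ) := by
  have h := (cyclic_of_relations (cU lT hword hge σ hcen f t hf ht fam) 16 (relF fam)
    (rel_cU Q lT hword hge hQperf hMF σ hsurj hcen f t hfM hf ht hf4 hf1) (cF fam) (mF fam) 0 (lamF fam) []
    (chk_lamF fam hf4 hf1) (by
      intro l _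
      rw [zero_mul]
      cases relF fam <;> rfl)).1 k hk
  rw [chk_mF fam hf4 hf1 k hk] at h
  by_cases h2 : fam = 2
  · subst h2
    rw [h]
    congr 1
    rw [zprod_congr _ 16 chk_cF, zprod_single _ 16 (by norm_num : 2 < 16)]
    apply Subtype.ext
    rw [cU_val lT hword hge σ hcen f t hf ht (by norm_num) (by norm_num) (by norm_num), chk_seed]
    rfl
  · rw [h, chk_cjP fam hf4 hf1 h2 k hk, zprod_congr _ 16 (chk_cF' fam hf4 hf1 h2), zprod_zero]
    simp

include hQperf hMF hsurj hfM hy in
omit [Finite G] in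
theorem hW0_U : ∀ i, i < cert.nW → cert.wT i = 0 →
    VCert.wd (gU f t) (cert.W i) = (cert.ek (zU lT hword hge σ hcen f t hf ht) i : Γ) := by
  intro i hi hT
  rcases Nat.lt_or_ge i 51 with h51 | h51
  · rcases chk_first i h51 with rfl | rfl | rfl | rfl | ⟨fam, hf4, hf1, k, hk, rfl⟩
    · rw [VCert.ek, cert.kap_unit _ (by decide : 0 < cert.k) (chk_ax 0 (by norm_num))]
      rfl
    · rw [VCert.ek, cert.kap_unit _ (by decide : 1 < cert.k) (chk_ax 1 (by norm_num))]
      rfl
    · rw [VCert.ek, cert.kap_unit _ (by decide : 2 < cert.k) (chk_ax 2 (by norm_num))]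
      rfl
    · rw [VCert.ek, cert.kap_one _ chk_ex, chk_W3]
      exact hy
    · rw [← cU_val lT hword hge σ hcen f t hf ht hf4 hf1 hk,
        cU_eq Q lT hword hge hQperf hMF σ hsurj hcen f t hfM hf ht hf4 hf1 hk]
      rcases chk_conjC fam hf4 hf1 k hk with ⟨hp, hc⟩ | ⟨hp, hc⟩
      · rw [VCert.ek, cert.kap_one _ hc, hp]
        simp
      · rw [VCert.ek, cert.kap_unit _ (by decide : 1 < cert.k) hc, hp]
        simp
  · obtain ⟨h4, h0⟩ := pure_spec (cert_pure i h51 hi) hT
    rw [VCert.ek, cert.kap_one _ h0]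
    exact wd_gU_pure Q lT hword hge hQperf hMF σ hsurj hcen f t hfM hf ht _ h4 (words_fix i hi)

include hword hge hgenG hQperf hMF hsurj hcen hder hfM hf ht in
omit [Finite G] in
theorem hgen_U : ∀ y : Γ, ∃ u : List ℕ, (∀ x ∈ u, x < cert.g) ∧ y = (u.map (gU f t)).prod := by
  apply MG.exists_word_of_closure (gU f t) 6 cert.iv
  · intro x hx
    exact ⟨iv_lt_six hx, gU_iv Q lT hword hQperf hMF σ hsurj hcen f t hfM hf x hx⟩
  · apply Cfsg.Agent.Lib.Helper7.M12Mult.closure_eq_top_of_stem (σ := σ) hcen hder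
    intro g
    have hg : g ∈ Subgroup.closure (lT '' Set.Iio 6) := by rw [hgenG]; exact Subgroup.mem_top g
    induction hg using Subgroup.closure_induction with
    | mem y hy =>
      obtain ⟨x, hx, rfl⟩ := hy
      exact ⟨gU f t x, Subgroup.subset_closure ⟨x, hx, rfl⟩, map_gU lT hword hge σ f t hf ht x⟩
    | one => exact ⟨1, one_mem _, map_one σ⟩
    | mul p q _ _ ihp ihq =>
      obtain ⟨p', hp', rfl⟩ := ihp
      obtain ⟨q', hq', rfl⟩ := ihq
      exact ⟨p' * q', mul_mem hp' hq', map_mul σ p' q'⟩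
    | inv p _ ihp =>
      obtain ⟨p', hp', rfl⟩ := ihp
      exact ⟨p'⁻¹, inv_mem hp', map_inv σ p'⟩

include hQperf hMF hsurj hcen in
omit [Finite G] in
theorem hHK_U : ∀ u, u ∈ Mt σ Q → u ∈ σ.ker → u = 1 := fun _ hu hk =>
  eq_one_of_mem_Mt hsurj hcen Q hQperf hMF hu (MonoidHom.mem_ker.1 hk)

include hfM in
omit [Finite G] [Finite Γ] in
theorem hsub_U : ∀ x, cert.sub x = true → gU f t x ∈ Mt σ Q := fun x hx =>
  gU_mem_Mt Q σ f t hfM x (lt_four_of_sub hx)

include hgenG hQperf hMF hcardG hcardQ hsurj hder hfM hy in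
/-- **the kernel is generated by the central elements** -/
theorem ker_eq_Zc_U : σ.ker = Zc (zU lT hword hge σ hcen f t hf ht) 3 := by
  refine ker_eq_Zc_of_sub σ cert (gU f t) (zU lT hword hge σ hcen f t hf ht) (Mt σ Q) 42305421312000 hsurj
    (by rw [hcardG]; rfl) (by decide) (by norm_num) (hHK_U Q hQperf hMF σ hsurj hcen) ?_
    (hsub_U Q σ f t hfM) ?_ (hgen_U Q lT hword hge hgenG hQperf hMF σ hsurj hcen hder f t hfM hf ht)
    (by decide) (by decide)
    (gU_iv Q lT hword hQperf hMF σ hsurj hcen f t hfM hf) ?_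
    (hW0_U Q lT hword hge hQperf hMF σ hsurj hcen f t hfM hf ht hy) cert_all cert_wall
  · rw [← hcardQ]
    exact card_Mt_le hsurj hcen Q hQperf hMF
  · intro j _
    exact wd_gU_mem_ker lT hword hge σ f t hf ht (axI_lt j)
  · intro i hi
    exact wd_gU_mem_ker lT hword hge σ f t hf ht hi

include hQperf hMF hsurj hfM hy in
omit [Finite G] in
/-- the relations between the central elements -/
theorem rel_U : ∀ r ∈ relL, zprod (zU lT hword hge σ hcen f t hf ht) 3 (fun l => r.getD l 0) = 1 := by
  have hKn : ∀ u, u ∈ σ.ker → ∀ g : Γ, g * u * g⁻¹ ∈ σ.ker := fun u hu g =>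
    (inferInstance : σ.ker.Normal).conj_mem u hu g
  have key : ∀ {i v row : ℕ}, i < 103143 → (cert.W i).length ≤ 255 →
      cert.scan 4095 (cert.W i) row 0 = some (row, v) →
      cert.ek (zU lT hword hge σ hcen f t hf ht) i =
        cert.kap (zU lT hword hge σ hcen f t hf ht) v (cert.W i).length := by
    intro i v row hi hl h
    exact cert.close_spec (γ := gU f t) (H := Mt σ Q) σ.ker hKn
      (fun j _ => wd_gU_mem_ker lT hword hge σ f t hf ht (axI_lt j)) (hHK_U Q hQperf hMF σ hsurj hcen)
      (by decide) (by decide)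
      (gU_iv Q lT hword hQperf hMF σ hsurj hcen f t hfM hf) (hsub_U Q σ f t hfM)
      (fun i hi => wd_gU_mem_ker lT hword hge σ f t hf ht hi)
      (hW0_U Q lT hword hge hQperf hMF σ hsurj hcen f t hfM hf ht hy)
      cert_all cert_wall hi hl h
  intro r hr
  simp only [relL, List.mem_cons, List.not_mem_nil, or_false] at hr
  rcases hr with rfl | rfl | rfl
  · exact cert.rel_of_close _ (key (by norm_num) chk_len0.1 close_0) _ chk_rel_0
  · exact cert.rel_of_close _ (key (by norm_num) chk_len0.2.1 close_1) _ chk_rel_1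
  · exact cert.rel_of_close _ (key (by norm_num) chk_len0.2.2 close_2) _ chk_rel_2

include hword hge hgenG hQperf hMF hcardG hcardQ hsurj hcen hder hnd hfM hf ht hy in
/-- **the kernel is an image of the cyclic group of order two** -/
theorem exists_surj_U : ∃ π : Multiplicative (ZMod 2) →* ↥σ.ker, Function.Surjective π := by
  have copq : (Nat.card ↥σ.ker).Coprime 23 :=
    ((Nat.Prime.coprime_iff_not_dvd (by norm_num)).2 hnd).symm
  have hK := ker_eq_Zc_U Q lT hword hge hgenG hQperf hMF hcardG hcardQ σ hsurj hcen hder f t hfM hf ht hy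
  set S : Subgroup (Subgroup.center Γ) := σ.ker.comap (Subgroup.center Γ).subtype with hS
  have hzS : ∀ j, j < 3 → zU lT hword hge σ hcen f t hf ht j ∈ S :=
    fun j _ => wd_gU_mem_ker lT hword hge σ f t hf ht (axI_lt j)
  have hq : ∀ u, u ∈ S → u ^ 23 = 1 → u = 1 := by
    intro u hu huq
    have h1 : (⟨(u : Γ), hu⟩ : ↥σ.ker) ^ 23 = 1 := by
      apply Subtype.ext
      rw [Subgroup.coe_pow, Subgroup.coe_one]
      show (u : Γ) ^ 23 = 1
      rw [← Subgroup.coe_pow, huq, Subgroup.coe_one]
    have h2 := eq_one_of_pow_of_coprime 23 copq _ h1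
    apply Subtype.ext
    have h3 : ((⟨(u : Γ), hu⟩ : ↥σ.ker) : Γ) = ((1 : ↥σ.ker) : Γ) := congrArg Subtype.val h2
    exact h3
  obtain ⟨hz, hN⟩ := cyclic_of_relations_q (zU lT hword hge σ hcen f t hf ht) 3 relL
    (rel_U Q lT hword hge hQperf hMF σ hsurj hcen f t hfM hf ht hy) S hzS 23 hq cL mL 2 lamL muL chk_lam chk_mu
  set g := zprod (zU lT hword hge σ hcen f t hf ht) 3 (fun l => cL.getD l 0) with hg
  have hle : σ.ker ≤ Subgroup.zpowers (g : Γ) := by
    rw [hK]
    exact Zc_le_zpowers _ 3 g (fun j => mL.getD j 0) hz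
  have hgK : (g : Γ) ∈ σ.ker := by
    have : g ∈ S := zprod_mem _ 3 S hzS _
    exact this
  set g' : ↥σ.ker := ⟨(g : Γ), hgK⟩ with hg'
  have h6 : g' ^ 2 = 1 := by
    apply Subtype.ext
    rw [Subgroup.coe_pow, Subgroup.coe_one]
    have := congrArg (fun t : Subgroup.center Γ => (t : Γ)) hN
    simpa using this
  apply exists_surj_zmod g' 2 h6
  intro y
  obtain ⟨i, hi⟩ := Subgroup.mem_zpowers_iff.1 (hle y.2)
  refine Subgroup.mem_zpowers_iff.2 ⟨i, ?_⟩
  apply Subtype.ext
  rw [Subgroup.coe_zpow]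
  exact hi

include hword hge hQ hgenG hQperf hMF hcardG hcardQ hsurj hcen hder hnd in
/-- **the kernel of a finite stem extension of the group, of order prime to twenty-three, is an image of the cyclic
group of order two** -/
theorem exists_surj_of_stem : ∃ π : Multiplicative (ZMod 2) →* ↥σ.ker, Function.Surjective π := by
  obtain ⟨f, t, hfM, hf, ht, hy⟩ := exists_lifts Q lT hword hge hQ hQperf σ hsurj hcen hnd
  exact exists_surj_U Q lT hword hge hgenG hQperf hMF hcardG hcardQ σ hsurj hcen hder hnd f t hfM hf ht hy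

end upper

end Cfsg.Agent.Lib.Helper7.Co1T
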