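import Cfsg.Agent.Lib.Helper7.MG2C

/-!
# Words and their inverses, and conjugation of lifted elements of a subgroup

Small tools for the multiplier of a group given by a checked table: the value of the inverse word; the value of a
word made of given words; products over a list in a commutative group as products of powers; and the relation between
the central elements by which the conjugates of lifted elements differ from the lifts of the conjugates, that a
relation between the elements gives.
-/

set_option autoImplicit false

namespace Cfsg.Agent.Lib.Helper7.MG2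

open Cfsg.Agent.Lib.Helper7.MG (zprod zprod_congr zprod_add zprod_smul zprod_zero zprod_single)

/-- the inverse of a word -/
def ivw (iv : ℕ → ℕ) (w : List ℕ) : List ℕ := (w.map iv).reverse

theorem ivw_cons (iv : ℕ → ℕ) (x : ℕ) (w : List ℕ) : ivw iv (x :: w) = ivw iv w ++ [iv x] := by
  rw [ivw, ivw, List.map_cons, List.reverse_cons]

theorem wd_singleton {Γ : Type*} [Group Γ] (γ : ℕ → Γ) (x : ℕ) : VCert.wd γ [x] = γ x := by
  rw [VCert.wd_cons, VCert.wd_nil, mul_one]

/-- the value of the inverse of a word -/
theorem wd_ivw {Γ : Type*} [Group Γ] (γ : ℕ → Γ) (iv : ℕ → ℕ) (g : ℕ) (hiv : ∀ x, x < g → γ (iv x) = (γ x)⁻¹) :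
    ∀ w : List ℕ, (∀ x ∈ w, x < g) → VCert.wd γ (ivw iv w) = (VCert.wd γ w)⁻¹
  | [], _ => by rw [ivw, List.map_nil, List.reverse_nil, VCert.wd_nil, inv_one]
  | x :: w, h => by
    rw [ivw_cons, VCert.wd_append, wd_singleton, wd_ivw γ iv g hiv w fun y hy => h y (List.mem_cons_of_mem _ hy),
      hiv x (h x List.mem_cons_self), VCert.wd_cons, mul_inv_rev]

/-- the value of a word made of given words -/
theorem wd_flatMap {Γ : Type*} [Group Γ] (γ : ℕ → Γ) (s : ℕ → List ℕ) :
    ∀ r : List ℕ, VCert.wd γ (r.flatMap s) = (r.map fun k => VCert.wd γ (s k)).prod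
  | [] => by rw [List.flatMap_nil, VCert.wd_nil, List.map_nil, List.prod_nil]
  | k :: r => by rw [List.flatMap_cons, VCert.wd_append, wd_flatMap γ s r, List.map_cons, List.prod_cons]

/-- the letters of a word made of given words -/
theorem mem_flatMap_lt (s : ℕ → List ℕ) (n g : ℕ) (hs : ∀ k, k < n → ∀ x ∈ s k, x < g) (r : List ℕ)
    (hr : ∀ k ∈ r, k < n) : ∀ x ∈ r.flatMap s, x < g := by
  intro x hx
  obtain ⟨k, hk, hxk⟩ := List.mem_flatMap.1 hx
  exact hs k (hr k hk) x hxk

/-- the letters of a repeated word -/
theorem mem_wpow_lt (g : ℕ) (w : List ℕ) (hw : ∀ x ∈ w, x < g) : ∀ m, ∀ x ∈ Cfsg.Agent.Lib.Helper7.MG.wpow m w, x < g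
  | 0 => fun x hx => absurd hx (by simp [Cfsg.Agent.Lib.Helper7.MG.wpow])
  | m + 1 => by
    intro x hx
    rw [Cfsg.Agent.Lib.Helper7.MG.wpow, List.mem_append] at hx
    rcases hx with h | h
    · exact hw x h
    · exact mem_wpow_lt g w hw m x h

/-- a product over a list in a commutative group as a product of powers -/
theorem prod_map_eq_zprod {A : Type*} [CommGroup A] (z : ℕ → A) (n : ℕ) :
    ∀ r : List ℕ, (∀ k ∈ r, k < n) → (r.map z).prod = zprod z n (fun l => (r.count l : ℤ))
  | [], _ => by
    rw [List.map_nil, List.prod_nil]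
    have : (fun l => (([] : List ℕ).count l : ℤ)) = fun _ => 0 := by funext l; simp
    rw [this, zprod_zero]
  | k :: r, h => by
    rw [List.map_cons, List.prod_cons, prod_map_eq_zprod z n r fun k' hk' => h k' (List.mem_cons_of_mem _ hk')]
    have e : (fun l => ((k :: r).count l : ℤ)) = fun l => (if l = k then (1 : ℤ) else 0) + (r.count l : ℤ) := by
      funext l
      rw [List.count_cons]
      by_cases hl : l = k
      · subst hl; simp; ring
      · have : (k == l) = false := by simpa using fun h' => hl h'.symm
        rw [this]; simp [hl]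
    rw [e, zprod_add, zprod_single z n (h k List.mem_cons_self)]

/-- the entries of the list of the values of a function -/
theorem getD_map_range {α : Type*} (f : ℕ → α) (n l : ℕ) (d : α) (hl : l < n) :
    ((List.range n).map f).getD l d = f l := by
  rw [List.getD_eq_getElem?_getD, List.getElem?_map, List.getElem?_range hl]
  rfl

section conj

variable {Γ : Type*} [Group Γ]

/-- conjugation of a product -/
theorem conj_list_prod (t : Γ) : ∀ l : List Γ, t * l.prod * t⁻¹ = (l.map fun x => t * x * t⁻¹).prod
  | [] => by rw [List.prod_nil, mul_one, mul_inv_cancel, List.map_nil, List.prod_nil]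
  | x :: l => by
    rw [List.prod_cons, List.map_cons, List.prod_cons, ← conj_list_prod t l]
    group

/-- a product of central elements times elements -/
theorem prod_central_mul (c a : ℕ → Γ) :
    ∀ r : List ℕ, (∀ k ∈ r, c k ∈ Subgroup.center Γ) → (r.map fun k => c k * a k).prod = (r.map c).prod * (r.map a).prod
  | [], _ => by simp
  | k :: r, hc => by
    have hc' : ∀ k' ∈ r, c k' ∈ Subgroup.center Γ := fun k' hk' => hc k' (List.mem_cons_of_mem _ hk')
    rw [List.map_cons, List.prod_cons, prod_central_mul c a r hc', List.map_cons, List.prod_cons, List.map_cons,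
      List.prod_cons]
    have h1 : (r.map c).prod ∈ Subgroup.center Γ := by
      apply Subgroup.list_prod_mem
      intro x hx
      obtain ⟨k', hk', rfl⟩ := List.mem_map.1 hx
      exact hc' k' hk'
    have h2 := Subgroup.mem_center_iff.1 h1 (a k)
    calc c k * a k * ((r.map c).prod * (r.map a).prod) = c k * (a k * (r.map c).prod) * (r.map a).prod := by group
      _ = c k * ((r.map c).prod * a k) * (r.map a).prod := by rw [h2]
      _ = c k * (r.map c).prod * (a k * (r.map a).prod) := by group

/-- **a relation between elements gives a relation between the central elements by which their conjugates differ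
from given elements that satisfy the same relation** -/
theorem conj_rel (t : Γ) (a a' c : ℕ → Γ) (r : List ℕ) (hc : ∀ k ∈ r, c k ∈ Subgroup.center Γ)
    (hca : ∀ k ∈ r, t * a k * t⁻¹ = c k * a' k) (o : ℕ)
    (hA : ((r.map a).prod) ^ o = 1) (hA' : ((r.map a').prod) ^ o = 1) : ((r.map c).prod) ^ o = 1 := by
  have h1 : t * (r.map a).prod * t⁻¹ = (r.map c).prod * (r.map a').prod := by
    rw [conj_list_prod, List.map_map, ← prod_central_mul c a' r hc]
    congr 1
    apply List.map_congr_left
    intro k hk
    exact hca k hk
  have h2 : (t * (r.map a).prod * t⁻¹) ^ o = 1 := by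
    rw [conj_pow, hA, mul_one, mul_inv_cancel]
  have h3 : (r.map c).prod ∈ Subgroup.center Γ := by
    apply Subgroup.list_prod_mem
    intro x hx
    obtain ⟨k', hk', rfl⟩ := List.mem_map.1 hx
    exact hc k' hk'
  have hcomm : Commute ((r.map c).prod) ((r.map a').prod) := (Subgroup.mem_center_iff.1 h3 _).symm
  rw [h1, hcomm.mul_pow, hA', mul_one] at h2
  exact h2

end conj

end Cfsg.Agent.Lib.Helper7.MG2
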