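import Cfsg.Agent.Lib.Helper7.Co1TD
import Cfsg.Agent.Lib.Helper7.Co1MT
import Cfsg.Agent.Lib.Helper7.MG2D

/-! # The multiplier of the first Conway group: the words that conjugate the generators of three subgroups of the stabiliser of a point into this stabiliser, and the relations between these generators (generated) -/

set_option autoImplicit false
set_option maxRecDepth 100000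

namespace Cfsg.Agent.Lib.Helper7.Co1T

open Cfsg.Agent.Lib.Helper7.MG2 Cfsg.Agent.Lib.Helper7.HSMult
open Cfsg.Agent.Lib.Helper7.MG (dotL expsumL wpow)

/-- the words of three elements outside the stabiliser of the point -/
def gW : ℕ → List ℕ
  | 1 => [4]
  | 2 => [4, 0, 4]
  | 3 => [4, 0, 3, 4]
  | _ => []

/-- words in the letters of the stabiliser of the point for sixteen generators of its intersection with a conjugate -/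
def sW : ℕ → ℕ → List ℕ
  | 1, 0 => [2]
  | 1, 1 => [0, 1, 2, 1, 0]
  | 1, 2 => [1, 2, 0, 2, 0, 1]
  | 1, 3 => [0, 1, 3, 0, 3, 1, 0]
  | 1, 4 => [0, 3, 1, 0, 1, 3, 0]
  | 1, 5 => [0, 3, 2, 3, 2, 3, 0]
  | 1, 6 => [1, 0, 3, 0, 3, 0, 1]
  | 1, 7 => [1, 2, 3, 0, 3, 2, 1]
  | 1, 8 => [1, 3, 2, 0, 2, 3, 1]
  | 1, 9 => [1, 3, 2, 3, 2, 3, 1]
  | 1, 10 => [3, 1, 2, 0, 2, 0, 1, 3]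
  | 1, 11 => [3, 2, 3, 2, 3, 0, 2, 0]
  | 1, 12 => [0, 1, 0, 3, 1, 0, 1, 3, 1]
  | 1, 13 => [0, 2, 3, 1, 0, 1, 3, 2, 0]
  | 1, 14 => [1, 0, 2, 1, 3, 0, 2, 0, 3]
  | 1, 15 => [1, 3, 1, 2, 0, 2, 1, 3, 1]
  | 2, 0 => [0]
  | 2, 1 => [1, 0, 1]
  | 2, 2 => [2, 0, 2]
  | 2, 3 => [2, 1, 2, 1]
  | 2, 4 => [1, 2, 3, 2, 1]
  | 2, 5 => [3, 0, 2, 3, 2, 3, 2, 0, 3]
  | 2, 6 => [1, 2, 0, 2, 1]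
  | 2, 7 => [1, 3, 2, 3, 1]
  | 2, 8 => [3, 2, 3, 2, 3, 2]
  | 2, 9 => [1, 3, 1, 0, 1, 3, 1]
  | 2, 10 => [1, 3, 0, 1, 2, 1, 0, 3, 1]
  | 2, 11 => [1, 3, 1, 2, 0, 2, 1, 3, 1]
  | 2, 12 => [2, 3, 1, 3, 1, 3, 1, 3, 2]
  | 2, 13 => [1, 3, 1, 2, 1, 0, 2, 0, 3, 1]
  | 2, 14 => [1, 3, 0, 2, 0, 3, 0, 2, 0, 3, 1]
  | 2, 15 => [1, 3, 0, 3, 2, 3, 2, 3, 0, 3, 1]
  | 3, 0 => [1, 2, 0, 2, 1, 0]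
  | 3, 1 => [0, 3, 2, 1, 2, 1, 3, 0]
  | 3, 2 => [1, 2, 3, 1, 3, 1, 2, 1, 3]
  | 3, 3 => [2, 3, 2, 0, 3, 0, 2, 3, 2]
  | 3, 4 => [3, 2, 0, 3, 0, 3, 0, 2, 3]
  | 3, 5 => [1, 0, 3, 1, 0, 1, 0, 3, 0, 1]
  | 3, 6 => [0, 1, 0, 1, 2, 3, 2, 1, 0, 1, 0]
  | 3, 7 => [0, 1, 3, 1, 3, 0, 3, 1, 3, 1, 0]
  | 3, 8 => [0, 3, 0, 3, 1, 3, 0, 2, 3, 2, 3]
  | 3, 9 => [2, 3, 2, 3, 0, 1, 2, 1, 0, 2, 3]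
  | 3, 10 => [3, 2, 1, 3, 2, 1, 2, 3, 1, 2, 3]
  | 3, 11 => [0, 2, 0, 3, 2, 1, 2, 1, 3, 0, 2, 0]
  | 3, 12 => [0, 2, 1, 3, 0, 2, 0, 3, 2, 3, 1, 0]
  | 3, 13 => [0, 3, 1, 0, 1, 3, 2, 3, 2, 0, 2, 0]
  | 3, 14 => [1, 0, 2, 3, 1, 2, 3, 2, 1, 2, 1, 0]
  | 3, 15 => [1, 3, 2, 3, 0, 1, 3, 2, 3, 1, 0, 1]
  | _, _ => []

/-- words in the letters of the stabiliser of the point for the conjugates of the sixteen generators -/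
def sT : ℕ → ℕ → List ℕ
  | 1, 0 => [0, 1, 0, 3, 1, 0, 1, 3, 1, 1, 3, 2, 3, 2, 3, 1, 3, 2, 3, 2, 3, 0, 2, 0, 1, 3, 1, 0, 1, 3, 0, 1, 0]
  | 1, 1 => [2, 1, 3, 1, 2, 0, 2, 1, 3, 1, 0, 3, 1, 0, 1, 3, 0, 0, 2, 3, 1, 0, 1, 3, 2, 0, 1, 3, 2, 3, 2, 3, 1, 1, 3, 1, 2, 0, 2, 1, 3, 1]
  | 1, 2 => [0, 3, 1, 0, 1, 3, 0, 1, 3, 1, 2, 0, 2, 1, 3, 1, 1, 3, 2, 3, 2, 3, 1, 1, 3, 1, 2, 0, 2, 1, 3, 1, 0, 3, 1, 0, 1, 3, 0]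
  | 1, 3 => [1, 0, 3, 0, 3, 0, 1, 1, 0, 2, 1, 3, 0, 2, 0, 3, 0, 1, 3, 0, 3, 1, 0, 3, 1, 2, 0, 2, 0, 1, 3, 0, 1, 3, 0, 3, 1, 0, 3, 0, 2, 0, 3, 1, 2, 0, 1, 1, 0, 3, 0, 3, 0, 1]
  | 1, 4 => [2, 3, 2, 3, 2, 3, 0, 2, 0, 0, 2, 3, 1, 0, 1, 3, 2, 0, 1, 0, 2, 1, 3, 0, 2, 0, 3, 0, 2, 3, 1, 0, 1, 3, 2, 0, 1, 0, 2, 1, 3, 0, 2, 0, 3]
  | 1, 5 => [2, 0, 3, 1, 0, 1, 3, 0, 0, 2, 3, 1, 0, 1, 3, 2, 0, 1, 3, 2, 3, 2, 3, 1, 3, 2, 3, 2, 3, 0, 2, 0]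
  | 1, 6 => [0, 1, 3, 0, 3, 1, 0, 1, 3, 2, 0, 2, 3, 1, 2, 1, 3, 2, 3, 2, 3, 1, 3, 2, 3, 2, 3, 0, 2, 0, 0, 1, 0, 3, 1, 0, 1, 3, 1, 0, 1, 3, 0, 3, 1, 0]
  | 1, 7 => [1, 2, 0, 2, 0, 1, 1, 2, 3, 0, 3, 2, 1, 0, 1, 3, 0, 3, 1, 0, 1, 3, 1, 0, 1, 3, 0, 1, 0, 1, 2, 0, 2, 0, 1, 0, 1, 3, 0, 3, 1, 0]
  | 1, 8 => [1, 2, 3, 0, 3, 2, 1, 0, 1, 3, 0, 3, 1, 0, 1, 0, 3, 0, 3, 0, 1, 1, 2, 3, 0, 3, 2, 1]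
  | 1, 9 => [0, 1, 2, 1, 0, 3, 0, 2, 0, 3, 1, 2, 0, 1, 0, 3, 2, 3, 2, 3, 0, 1, 3, 2, 3, 2, 3, 1, 1, 0, 2, 1, 3, 0, 2, 0, 3]
  | 1, 10 => [0, 3, 2, 3, 2, 3, 0, 1, 0, 2, 1, 3, 0, 2, 0, 3, 0, 2, 3, 1, 0, 1, 3, 2, 0, 3, 0, 2, 0, 3, 1, 2, 0, 1, 0, 3, 2, 3, 2, 3, 0]
  | 1, 11 => [1, 3, 1, 2, 0, 2, 1, 3, 1, 0, 1, 2, 1, 0, 0, 3, 2, 3, 2, 3, 0, 1, 3, 1, 2, 0, 2, 1, 3, 1]
  | 1, 12 => [0, 3, 2, 3, 2, 3, 0, 1, 3, 2, 0, 2, 3, 1, 0, 1, 3, 0, 3, 1, 0, 0, 3, 2, 3, 2, 3, 0, 1, 2, 3, 0, 3, 2, 1, 1, 3, 1, 0, 1, 3, 0, 1, 0]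
  | 1, 13 => [2, 0, 3, 1, 0, 1, 3, 0, 1, 0, 2, 1, 3, 0, 2, 0, 3, 0, 3, 1, 0, 1, 3, 0, 1, 3, 2, 3, 2, 3, 1, 1, 0, 2, 1, 3, 0, 2, 0, 3]
  | 1, 14 => [0, 1, 3, 0, 3, 1, 0, 1, 2, 3, 0, 3, 2, 1, 1, 3, 2, 0, 2, 3, 1, 3, 1, 2, 0, 2, 0, 1, 3, 0, 1, 3, 0, 3, 1, 0, 0, 1, 0, 3, 1, 0, 1, 3, 1, 1, 0, 2, 0, 2, 1, 0, 1, 3, 0, 3, 1, 0, 1, 3, 2, 0, 2, 3, 1, 1, 0, 2, 0, 2, 1]
  | 1, 15 => [1, 2, 3, 0, 3, 2, 1, 0, 1, 0, 3, 1, 0, 1, 3, 1, 0, 1, 2, 1, 0, 1, 0, 3, 0, 3, 0, 1, 0, 1, 2, 1, 0, 1, 3, 1, 0, 1, 3, 0, 1, 0, 1, 2, 3, 0, 3, 2, 1]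
  | 2, 0 => [0]
  | 2, 1 => [0, 1, 0, 1]
  | 2, 2 => [1, 2, 3, 2, 1, 1, 3, 0, 1, 2, 1, 0, 3, 1, 3, 2, 3, 2, 3, 2, 1, 3, 1, 0, 1, 3, 1, 3, 2, 3, 2, 3, 2, 1, 3, 1, 2, 0, 2, 1, 3, 1, 0]
  | 2, 3 => [3, 2, 3, 2, 3, 2, 1, 2, 0, 2, 1, 3, 2, 3, 2, 3, 2, 1, 3, 1, 0, 1, 3, 1, 3, 2, 3, 2, 3, 2, 1, 3, 1, 0, 1, 3, 1, 1, 0, 1]
  | 2, 4 => [3, 2, 3, 2, 3, 2, 1, 2, 3, 2, 1, 3, 0, 2, 3, 2, 3, 2, 0, 3, 1, 2, 0, 2, 1, 3, 0, 2, 3, 2, 3, 2, 0, 3, 1, 2, 3, 2, 1, 2, 3, 2, 3, 2, 3]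
  | 2, 5 => [1, 3, 1, 2, 1, 0, 2, 0, 3, 1, 3, 0, 2, 3, 2, 3, 2, 0, 3, 1, 2, 3, 2, 1, 2, 0, 2, 1, 2, 3, 2, 1, 3, 0, 2, 3, 2, 3, 2, 0, 3, 1, 3, 0, 2, 0, 1, 2, 1, 3, 1]
  | 2, 6 => [0, 1, 2, 0, 2, 1]
  | 2, 7 => [1, 3, 0, 2, 0, 3, 0, 2, 0, 3, 1, 3, 0, 2, 3, 2, 3, 2, 0, 3, 2, 1, 2, 1, 3, 0, 2, 3, 2, 3, 2, 0, 3, 1, 3, 1, 2, 0, 2, 1, 3, 1, 1, 3, 0, 2, 0, 3, 0, 2, 0, 3, 1]
  | 2, 8 => [1, 3, 1, 2, 0, 2, 1, 3, 1, 1, 3, 0, 2, 0, 3, 0, 2, 0, 3, 1, 1, 3, 0, 3, 2, 3, 2, 3, 0, 3, 1, 2, 0, 2, 2, 3, 1, 3, 1, 3, 1, 3, 2]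
  | 2, 9 => [3, 2, 3, 2, 3, 2, 2, 0, 2, 1, 3, 0, 3, 2, 3, 2, 3, 0, 3, 1, 2, 0, 2, 1, 3, 0, 3, 2, 3, 2, 3, 0, 3, 1, 3, 2, 3, 2, 3, 2]
  | 2, 10 => [1, 2, 3, 2, 1, 1, 3, 0, 2, 0, 3, 0, 2, 0, 3, 1, 3, 0, 2, 3, 2, 3, 2, 0, 3, 2, 1, 2, 1, 3, 0, 2, 3, 2, 3, 2, 0, 3, 1, 3, 0, 2, 0, 3, 0, 2, 0, 3, 1, 1, 2, 3, 2, 1]
  | 2, 11 => [2, 1, 2, 1, 3, 2, 3, 2, 3, 2, 1, 3, 1, 2, 0, 2, 1, 3, 1, 2, 1, 2, 1, 3, 2, 3, 2, 3, 2]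
  | 2, 12 => [1, 2, 0, 2, 1, 1, 3, 1, 2, 0, 2, 1, 3, 1, 1, 0, 1, 1, 3, 0, 2, 0, 3, 0, 2, 0, 3, 1, 1, 0, 1, 1, 3, 1, 2, 0, 2, 1, 3, 1, 1, 2, 0, 2, 1]
  | 2, 13 => [2, 0, 2, 1, 3, 0, 3, 2, 3, 2, 3, 0, 3, 1, 1, 3, 0, 2, 0, 3, 0, 2, 0, 3, 1, 3, 2, 3, 2, 3, 2, 2, 3, 1, 3, 1, 3, 1, 3, 2]
  | 2, 14 => [0, 1, 3, 0, 3, 2, 3, 2, 3, 0, 3, 1, 3, 0, 2, 3, 2, 3, 2, 0, 3, 1, 2, 0, 2, 1, 3, 0, 2, 3, 2, 3, 2, 0, 3, 1, 3, 0, 3, 2, 3, 2, 3, 0, 3, 1, 0]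
  | 2, 15 => [2, 1, 2, 1, 1, 3, 0, 3, 2, 3, 2, 3, 0, 3, 1, 1, 0, 1, 1, 3, 1, 2, 0, 2, 1, 3, 1, 1, 0, 1, 1, 3, 0, 3, 2, 3, 2, 3, 0, 3, 1, 1, 2, 1, 2]
  | 3, 0 => [2, 0, 2, 3, 0, 2, 0, 3, 0, 3, 1, 0, 2, 1, 3, 0, 2, 0, 3, 2, 3, 1, 0, 0, 3, 1, 0, 1, 3, 2, 3, 2, 0, 2, 0, 0, 1, 2, 1, 2, 3, 2, 1, 3, 2, 0, 1, 2, 3, 2, 3, 0, 1, 2, 1, 0, 2, 3, 0, 1, 0, 1, 2, 3, 2, 1, 0, 1, 0, 0, 3, 1, 2, 1, 2, 3, 0, 1, 3, 0, 3, 0, 2, 0, 3, 2, 0, 2]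
  | 3, 1 => [2, 0, 2, 3, 0, 2, 0, 3, 0, 3, 1, 0, 1, 0, 1, 2, 3, 2, 1, 0, 1, 0, 1, 2, 3, 1, 3, 1, 2, 1, 3, 2, 3, 2, 3, 0, 1, 2, 1, 0, 2, 3, 0, 2, 0, 3, 2, 1, 2, 1, 3, 0, 2, 0, 3, 1, 2, 1, 3, 1, 3, 2, 1, 0, 1, 0, 1, 2, 3, 2, 1, 0, 1, 0, 1, 3, 0, 3, 0, 2, 0, 3, 2, 0, 2]
  | 3, 2 => [2, 0, 2, 3, 0, 2, 0, 3, 0, 3, 1, 0, 2, 1, 3, 0, 2, 0, 3, 2, 3, 1, 0, 1, 0, 2, 3, 1, 2, 3, 2, 1, 2, 1, 0, 0, 3, 0, 3, 1, 3, 0, 2, 3, 2, 3, 0, 3, 2, 1, 2, 1, 3, 0, 3, 2, 0, 3, 0, 3, 0, 2, 3, 0, 1, 3, 2, 3, 0, 2, 0, 3, 1, 2, 0, 3, 2, 1, 3, 2, 1, 2, 3, 1, 2, 3, 1, 3, 0, 3, 0, 2, 0, 3, 2, 0, 2]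
  | 3, 3 => [2, 0, 2, 3, 0, 2, 0, 3, 0, 3, 1, 0, 2, 1, 3, 0, 2, 0, 3, 2, 3, 1, 0, 0, 1, 0, 1, 2, 3, 2, 1, 0, 1, 0, 2, 3, 2, 3, 0, 1, 2, 1, 0, 2, 3, 1, 0, 2, 3, 1, 2, 3, 2, 1, 2, 1, 0, 3, 2, 0, 3, 0, 3, 0, 2, 3, 0, 3, 1, 0, 1, 3, 2, 3, 2, 0, 2, 0, 2, 3, 2, 0, 3, 0, 2, 3, 2, 1, 3, 0, 3, 0, 2, 0, 3, 2, 0, 2]
  | 3, 4 => [2, 0, 2, 3, 0, 2, 0, 3, 0, 3, 1, 0, 3, 1, 0, 1, 3, 2, 3, 2, 0, 2, 0, 3, 2, 3, 2, 0, 3, 1, 3, 0, 3, 0, 2, 3, 2, 3, 0, 1, 2, 1, 0, 2, 3, 1, 0, 2, 3, 1, 2, 3, 2, 1, 2, 1, 0, 3, 2, 3, 2, 0, 3, 1, 3, 0, 3, 0, 0, 1, 0, 1, 2, 3, 2, 1, 0, 1, 0, 1, 3, 0, 3, 0, 2, 0, 3, 2, 0, 2]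
  | 3, 5 => [2, 0, 2, 3, 0, 2, 0, 3, 0, 3, 1, 3, 1, 2, 1, 3, 1, 3, 2, 1, 1, 0, 3, 1, 0, 1, 0, 3, 0, 1, 0, 3, 0, 3, 1, 3, 0, 2, 3, 2, 3, 2, 3, 2, 3, 0, 1, 2, 1, 0, 2, 3, 3, 2, 3, 2, 0, 3, 1, 3, 0, 3, 0, 1, 0, 3, 0, 1, 0, 1, 3, 0, 1, 1, 2, 3, 1, 3, 1, 2, 1, 3, 1, 3, 0, 3, 0, 2, 0, 3, 2, 0, 2]
  | 3, 6 => [2, 0, 2, 3, 0, 2, 0, 3, 0, 3, 1, 2, 3, 2, 0, 3, 0, 2, 3, 2, 0, 3, 1, 0, 1, 3, 2, 3, 2, 0, 2, 0, 0, 1, 2, 1, 2, 3, 2, 1, 3, 2, 0, 1, 0, 1, 2, 1, 2, 3, 2, 1, 3, 2, 0, 1, 0, 2, 0, 3, 2, 1, 2, 1, 3, 0, 2, 0, 1, 3, 0, 3, 0, 2, 0, 3, 2, 0, 2]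
  | 3, 7 => [2, 0, 2, 3, 0, 2, 0, 3, 0, 3, 1, 0, 1, 3, 1, 3, 0, 3, 1, 3, 1, 0, 1, 2, 0, 2, 1, 0, 0, 2, 0, 2, 3, 2, 3, 1, 0, 1, 3, 0, 3, 2, 0, 3, 0, 3, 0, 2, 3, 0, 3, 1, 0, 1, 3, 2, 3, 2, 0, 2, 0, 0, 1, 3, 1, 3, 0, 3, 1, 3, 1, 0, 1, 3, 0, 3, 0, 2, 0, 3, 2, 0, 2]
  | 3, 8 => [2, 0, 2, 3, 0, 2, 0, 3, 0, 3, 1, 1, 2, 0, 2, 1, 0, 3, 2, 1, 3, 2, 1, 2, 3, 1, 2, 3, 0, 2, 0, 2, 3, 2, 3, 1, 0, 1, 3, 0, 2, 3, 2, 3, 0, 1, 2, 1, 0, 2, 3, 3, 2, 3, 2, 0, 3, 1, 3, 0, 3, 0, 1, 0, 2, 3, 1, 2, 3, 2, 1, 2, 1, 0, 3, 1, 2, 1, 3, 1, 3, 2, 1, 1, 3, 0, 3, 0, 2, 0, 3, 2, 0, 2]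
  | 3, 9 => [2, 0, 2, 3, 0, 2, 0, 3, 0, 3, 1, 1, 0, 2, 3, 1, 2, 3, 2, 1, 2, 1, 0, 3, 2, 0, 3, 0, 3, 0, 2, 3, 0, 3, 1, 0, 1, 3, 2, 3, 2, 0, 2, 0, 0, 3, 1, 0, 1, 3, 2, 3, 2, 0, 2, 0, 0, 1, 2, 1, 2, 3, 2, 1, 3, 2, 0, 1, 2, 3, 2, 0, 3, 0, 2, 3, 2, 1, 3, 0, 3, 0, 2, 0, 3, 2, 0, 2]
  | 3, 10 => [2, 0, 2, 3, 0, 2, 0, 3, 0, 3, 1, 1, 0, 3, 1, 0, 1, 0, 3, 0, 1, 0, 2, 0, 2, 3, 2, 3, 1, 0, 1, 3, 0, 1, 2, 3, 1, 3, 1, 2, 1, 3, 1, 2, 0, 2, 1, 0, 3, 1, 2, 1, 3, 1, 3, 2, 1, 0, 3, 1, 0, 1, 3, 2, 3, 2, 0, 2, 0, 1, 0, 3, 0, 1, 0, 1, 3, 0, 1, 1, 3, 0, 3, 0, 2, 0, 3, 2, 0, 2]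
  | 3, 11 => [2, 0, 2, 3, 0, 2, 0, 3, 0, 3, 1, 2, 3, 2, 0, 3, 0, 2, 3, 2, 0, 1, 2, 1, 2, 3, 2, 1, 3, 2, 0, 1, 0, 3, 2, 1, 2, 1, 3, 0, 1, 0, 2, 3, 1, 2, 3, 2, 1, 2, 1, 0, 2, 3, 2, 0, 3, 0, 2, 3, 2, 1, 3, 0, 3, 0, 2, 0, 3, 2, 0, 2]
  | 3, 12 => [2, 0, 2, 3, 0, 2, 0, 3, 0, 3, 1, 0, 2, 1, 3, 0, 2, 0, 3, 2, 3, 1, 0, 2, 3, 2, 3, 0, 1, 2, 1, 0, 2, 3, 0, 2, 0, 2, 3, 2, 3, 1, 0, 1, 3, 0, 0, 2, 1, 3, 0, 2, 0, 3, 2, 3, 1, 0, 0, 2, 0, 2, 3, 2, 3, 1, 0, 1, 3, 0, 0, 1, 3, 2, 3, 0, 2, 0, 3, 1, 2, 0, 0, 1, 2, 0, 2, 1, 1, 3, 0, 3, 0, 2, 0, 3, 2, 0, 2]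
  | 3, 13 => [2, 0, 2, 3, 0, 2, 0, 3, 0, 3, 1, 1, 3, 2, 3, 0, 1, 3, 2, 3, 1, 0, 1, 0, 2, 0, 3, 2, 1, 2, 1, 3, 0, 2, 0, 0, 1, 2, 1, 2, 3, 2, 1, 3, 2, 0, 1, 1, 3, 2, 3, 0, 1, 3, 2, 3, 1, 0, 1, 3, 2, 3, 2, 0, 3, 1, 3, 0, 3, 0, 1, 0, 1, 3, 2, 3, 1, 0, 3, 2, 3, 1, 0, 3, 1, 2, 1, 2, 3, 0, 1, 3, 0, 3, 0, 2, 0, 3, 2, 0, 2]
  | 3, 14 => [2, 0, 2, 3, 0, 2, 0, 3, 0, 3, 1, 0, 2, 0, 2, 3, 2, 3, 1, 0, 1, 3, 0, 0, 1, 2, 1, 2, 3, 2, 1, 3, 2, 0, 1, 0, 2, 0, 2, 3, 2, 3, 1, 0, 1, 3, 0, 1, 0, 2, 3, 1, 2, 3, 2, 1, 2, 1, 0, 0, 1, 0, 1, 2, 3, 2, 1, 0, 1, 0, 0, 2, 1, 3, 0, 2, 0, 3, 2, 3, 1, 0, 3, 2, 0, 3, 0, 3, 0, 2, 3, 1, 3, 0, 3, 0, 2, 0, 3, 2, 0, 2]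
  | 3, 15 => [2, 0, 2, 3, 0, 2, 0, 3, 0, 3, 1, 0, 1, 0, 1, 2, 3, 2, 1, 0, 1, 0, 0, 3, 0, 3, 1, 3, 0, 2, 3, 2, 3, 3, 2, 0, 3, 0, 3, 0, 2, 3, 3, 2, 3, 2, 0, 3, 1, 3, 0, 3, 0, 0, 1, 0, 1, 2, 3, 2, 1, 0, 1, 0, 1, 3, 0, 3, 0, 2, 0, 3, 2, 0, 2]
  | _, _ => []

/-- the places in the certificate of the words that say that the conjugates of the generators are these words -/
def cjI : ℕ → ℕ → ℕ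
  | 1, 0 => 4
  | 1, 1 => 5
  | 1, 2 => 6
  | 1, 3 => 7
  | 1, 4 => 8
  | 1, 5 => 9
  | 1, 6 => 10
  | 1, 7 => 11
  | 1, 8 => 12
  | 1, 9 => 13
  | 1, 10 => 14
  | 1, 11 => 15
  | 1, 12 => 16
  | 1, 13 => 17
  | 1, 14 => 18
  | 1, 15 => 19
  | 2, 0 => 20
  | 2, 1 => 21
  | 2, 2 => 1
  | 2, 3 => 22
  | 2, 4 => 23
  | 2, 5 => 24
  | 2, 6 => 25
  | 2, 7 => 26
  | 2, 8 => 27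
  | 2, 9 => 28
  | 2, 10 => 29
  | 2, 11 => 30
  | 2, 12 => 31
  | 2, 13 => 32
  | 2, 14 => 33
  | 2, 15 => 34
  | 3, 0 => 35
  | 3, 1 => 36
  | 3, 2 => 37
  | 3, 3 => 38
  | 3, 4 => 39
  | 3, 5 => 40
  | 3, 6 => 41
  | 3, 7 => 42
  | 3, 8 => 43
  | 3, 9 => 44
  | 3, 10 => 45
  | 3, 11 => 46
  | 3, 12 => 47
  | 3, 13 => 48
  | 3, 14 => 49
  | 3, 15 => 50
  | _, _ => 0

/-- the exponents of the second central element in the classes of these words -/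
def cjP : ℕ → ℕ → ℕ
  | 1, 0 => 0
  | 1, 1 => 0
  | 1, 2 => 0
  | 1, 3 => 0
  | 1, 4 => 0
  | 1, 5 => 0
  | 1, 6 => 0
  | 1, 7 => 0
  | 1, 8 => 0
  | 1, 9 => 0
  | 1, 10 => 0
  | 1, 11 => 0
  | 1, 12 => 0
  | 1, 13 => 0
  | 1, 14 => 0
  | 1, 15 => 0
  | 2, 0 => 0
  | 2, 1 => 0
  | 2, 2 => 1
  | 2, 3 => 1
  | 2, 4 => 0
  | 2, 5 => 1
  | 2, 6 => 0
  | 2, 7 => 1
  | 2, 8 => 1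
  | 2, 9 => 0
  | 2, 10 => 1
  | 2, 11 => 0
  | 2, 12 => 0
  | 2, 13 => 0
  | 2, 14 => 0
  | 2, 15 => 0
  | 3, 0 => 0
  | 3, 1 => 0
  | 3, 2 => 0
  | 3, 3 => 0
  | 3, 4 => 0
  | 3, 5 => 0
  | 3, 6 => 0
  | 3, 7 => 0
  | 3, 8 => 0
  | 3, 9 => 0
  | 3, 10 => 0
  | 3, 11 => 0
  | 3, 12 => 0
  | 3, 13 => 0
  | 3, 14 => 0
  | 3, 15 => 0
  | _, _ => 0

/-- relations between the sixteen generators: the product of the generators in the list has the given order -/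
def PR : ℕ → List (List ℕ × ℕ)
  | 1 => [([0], 2),
    ([1], 2),
    ([2], 2),
    ([3], 2),
    ([4], 2),
    ([5], 2),
    ([6], 2),
    ([7], 2),
    ([8], 2),
    ([9], 2),
    ([10], 2),
    ([11], 2),
    ([12], 3),
    ([13], 2),
    ([14], 4),
    ([15], 2),
    ([2, 3], 5),
    ([2, 6], 5),
    ([2, 7], 5),
    ([2, 8], 5),
    ([2, 12], 3),
    ([3, 4], 5),
    ([3, 5], 5),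
    ([3, 9], 5),
    ([3, 10], 5),
    ([3, 14], 7),
    ([4, 12], 2),
    ([4, 15], 5),
    ([6, 13], 5),
    ([0, 1, 2], 1),
    ([0, 3, 11], 5),
    ([0, 3, 14], 9)]
  | 2 => [([0], 2),
    ([1], 2),
    ([2], 2),
    ([3], 2),
    ([4], 2),
    ([5], 2),
    ([6], 2),
    ([7], 2),
    ([8], 2),
    ([9], 2),
    ([10], 2),
    ([11], 2),
    ([12], 2),
    ([13], 2),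
    ([14], 2),
    ([15], 2),
    ([1, 4], 5),
    ([1, 12], 5),
    ([1, 14], 5),
    ([1, 15], 5),
    ([4, 6], 5),
    ([5, 8], 3),
    ([7, 8], 3),
    ([8, 10], 3),
    ([0, 1, 4], 5),
    ([0, 1, 9], 3),
    ([0, 1, 13], 3),
    ([1, 4, 13], 5),
    ([5, 7, 11], 5),
    ([2, 13, 1, 3], 3),
    ([5, 2, 6, 15], 11)]
  | 3 => [([0], 2),
    ([1], 2),
    ([2], 4),
    ([3], 2),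
    ([4], 2),
    ([5], 2),
    ([6], 2),
    ([7], 2),
    ([8], 7),
    ([9], 2),
    ([10], 2),
    ([11], 2),
    ([12], 6),
    ([13], 12),
    ([14], 5),
    ([15], 2),
    ([0, 2], 11),
    ([0, 3], 5),
    ([0, 7], 5),
    ([0, 8], 5),
    ([0, 12], 8),
    ([0, 13], 4),
    ([0, 15], 5),
    ([1, 11], 3),
    ([1, 13], 5),
    ([1, 14], 4),
    ([1, 15], 5),
    ([2, 4], 11),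
    ([2, 5], 11),
    ([2, 6], 3),
    ([2, 10], 3),
    ([3, 9], 5),
    ([3, 12], 9)]
  | _ => []

/-- the vectors of exponents of these relations -/
def relF (f : ℕ) : List (List ℤ) := (PR f).map fun p => (List.range 16).map fun l => (p.2 : ℤ) * (p.1.count l : ℤ)

/-- the generator of the group generated by the classes of the sixteen words as a product of their powers -/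
def cF : ℕ → List ℤ
  | 2 => [0, 0, 1, 0, 0, 0, 0, 0, 0, 0, 0, 0, 0, 0, 0, 0]
  | _ => []

/-- the classes as powers of this generator -/
def mF (f : ℕ) : List ℤ := (List.range 16).map fun k => (cjP f k : ℤ)

/-- the combinations of the relations that express the classes by the generator -/
def lamF : ℕ → List (List ℤ)
  | 1 => [[(-222), (-50), 0, (-205), (-15), 0, 0, 0, 0, 0, 0, 210, (-60), 0, (-270), 0, (-50), 0, 0, 0, 50, 0, 0, 0, 0, 45, 15, 0, 0, 100, (-84), 85],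
    [224, 52, 0, 205, 12, 0, 0, 0, 0, 0, 0, (-210), 57, 0, 270, 0, 50, 0, 0, 0, (-49), 0, 0, 0, 0, (-45), (-12), 0, 0, (-103), 84, (-85)],
    [(-2), (-2), 0, 0, 3, 0, 0, 0, 0, 0, 0, 0, 3, 0, 0, 0, 0, 0, 0, 0, (-1), 0, 0, 0, 0, 0, (-3), 0, 0, 4, 0, 0],
    [1, 1, 0, (-2), 3, 0, 0, 0, 0, 0, 0, 0, 3, 0, 0, 0, 1, 0, 0, 0, (-1), 0, 0, 0, 0, 0, (-3), 0, 0, (-2), 0, 0],
    [(-1), (-1), 0, 0, (-5), 0, 0, 0, 0, 0, 0, 0, (-3), 0, 0, 0, (-1), 0, 0, 0, 1, 1, 0, 0, 0, 0, 3, 0, 0, 2, 0, 0],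
    [(-1), (-1), 0, 0, (-3), (-2), 0, 0, 0, 0, 0, 0, (-3), 0, 0, 0, (-1), 0, 0, 0, 1, 0, 1, 0, 0, 0, 3, 0, 0, 2, 0, 0],
    [1, 1, 0, 0, 3, 0, (-2), 0, 0, 0, 0, 0, 3, 0, 0, 0, 0, 1, 0, 0, (-1), 0, 0, 0, 0, 0, (-3), 0, 0, (-2), 0, 0],
    [1, 1, 0, 0, 3, 0, 0, (-2), 0, 0, 0, 0, 3, 0, 0, 0, 0, 0, 1, 0, (-1), 0, 0, 0, 0, 0, (-3), 0, 0, (-2), 0, 0],
    [1, 1, 0, 0, 3, 0, 0, 0, (-2), 0, 0, 0, 3, 0, 0, 0, 0, 0, 0, 1, (-1), 0, 0, 0, 0, 0, (-3), 0, 0, (-2), 0, 0],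
    [(-1), (-1), 0, 0, (-3), 0, 0, 0, 0, (-2), 0, 0, (-3), 0, 0, 0, (-1), 0, 0, 0, 1, 0, 0, 1, 0, 0, 3, 0, 0, 2, 0, 0],
    [(-1), (-1), 0, 0, (-3), 0, 0, 0, 0, 0, (-2), 0, (-3), 0, 0, 0, (-1), 0, 0, 0, 1, 0, 0, 0, 1, 0, 3, 0, 0, 2, 0, 0],
    [43, 9, 0, 43, 0, 0, 0, 0, 0, 0, 0, (-42), 9, 0, 54, 0, 9, 0, 0, 0, (-9), 0, 0, 0, 0, (-9), 0, 0, 0, (-18), 17, (-17)],
    [0, 0, 0, 0, 1, 0, 0, 0, 0, 0, 0, 0, 1, 0, 0, 0, 0, 0, 0, 0, 0, 0, 0, 0, 0, 0, (-1), 0, 0, 0, 0, 0],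
    [(-1), (-1), 0, 0, 0, 0, 0, 0, 0, 0, 0, 0, (-1), (-2), 0, 0, 0, (-1), 0, 0, 1, 0, 0, 0, 0, 0, 0, 0, 1, 2, 0, 0],
    [(-5), (-1), 0, (-5), 0, 0, 0, 0, 0, 0, 0, 5, (-1), 0, (-6), 0, (-1), 0, 0, 0, 1, 0, 0, 0, 0, 1, 0, 0, 0, 2, (-2), 2],
    [1, 1, 0, 0, (-3), 0, 0, 0, 0, 0, 0, 0, (-1), 0, 0, (-2), 1, 0, 0, 0, (-1), (-1), 0, 0, 0, 0, 3, 1, 0, (-2), 0, 0]]
  | 2 => [[65276, 65307, (-234), (-36), 328770, 396, 792, 0, (-1188), (-6), (-1782), 0, (-334380), 65418, 365700, (-196038), (-489), 133752, (-146280), 78336, (-396), (-396), 0, 1188, (-65277), 4, 65274, (-65346), 0, 24, 36],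
    [(-21633), (-21643), 78, 12, (-108960), (-132), (-264), 0, 396, 0, 594, 0, 110820, (-21681), (-121200), 64971, 162, (-44328), 48480, (-25962), 132, 132, 0, (-396), 21633, 0, (-21633), 21657, 0, (-8), (-12)],
    [0, 0, 0, 0, 0, 0, 0, 0, 0, 0, 0, 0, 0, 0, 0, 0, 0, 0, 0, 0, 0, 0, 0, 0, 0, 0, 0, 0, 0, 0, 0],
    [(-3319), (-3320), 12, 2, (-16720), (-22), (-44), 0, 66, 0, 99, 0, 17000, (-3325), (-18590), 9966, 25, (-6800), 7436, (-3982), 22, 22, 0, (-66), 3319, 0, (-3319), 3322, 0, (-1), (-2)],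
    [125, 125, 0, 0, 628, 0, 0, 0, 0, 0, 0, 0, (-640), 125, 700, (-375), (-1), 256, (-280), 150, 0, 0, 0, 0, (-125), 0, 125, (-125), 0, 0, 0],
    [(-5252), (-5254), 19, 3, (-26455), (-34), (-66), 0, 102, 0, 153, 0, 26905, (-5264), (-29425), 15774, 39, (-10762), 11770, (-6303), 33, 34, 0, (-102), 5252, 0, (-5252), 5258, 0, (-2), (-3)],
    [(-125), (-125), 0, 0, (-630), 0, (-2), 0, 0, 0, 0, 0, 640, (-125), (-700), 375, 1, (-256), 280, (-150), 1, 0, 0, 0, 125, 0, (-125), 125, 0, 0, 0],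
    [(-5252), (-5254), 19, 3, (-26455), (-33), (-66), (-1), 102, 0, 153, 0, 26905, (-5264), (-29425), 15774, 39, (-10762), 11770, (-6303), 33, 33, 1, (-102), 5252, 0, (-5252), 5258, 0, (-2), (-3)],
    [(-5252), (-5254), 19, 3, (-26455), (-33), (-66), 0, 98, 0, 147, 0, 26905, (-5264), (-29425), 15774, 39, (-10762), 11770, (-6303), 33, 33, 0, (-98), 5252, 0, (-5252), 5258, 0, (-2), (-3)],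
    [(-126), (-126), 0, 0, (-630), 0, 0, 0, 0, 2, 0, 0, 640, (-125), (-700), 375, 1, (-256), 280, (-150), 0, 0, 0, 0, 126, (-1), (-125), 125, 0, 0, 0],
    [(-5252), (-5254), 19, 3, (-26455), (-33), (-66), 0, 99, 0, 149, 0, 26905, (-5264), (-29425), 15774, 39, (-10762), 11770, (-6303), 33, 33, 0, (-99), 5252, 0, (-5252), 5258, 0, (-2), (-3)],
    [0, 0, 0, 0, 0, (-1), 0, (-1), 3, 0, 0, (-2), 0, 0, 0, 0, 0, 0, 0, 0, 0, (-1), (-1), 0, 0, 0, 0, 0, 1, 0, 0],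
    [(-25), (-25), 0, 0, (-125), 0, 0, 0, 0, 0, 0, 0, 128, (-25), (-140), 75, 0, (-51), 56, (-30), 0, 0, 0, 0, 25, 0, (-25), 25, 0, 0, 0],
    [26, 26, 0, 0, 130, 0, 0, 0, 0, 0, 0, 0, (-130), 24, 140, (-75), (-1), 52, (-56), 30, 0, 0, 0, 0, (-26), 0, 26, (-25), 0, 0, 0],
    [5, 5, 0, 0, 25, 0, 0, 0, 0, 0, 0, 0, (-25), 5, 28, (-15), 0, 10, (-11), 6, 0, 0, 0, 0, (-5), 0, 5, (-5), 0, 0, 0],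
    [(-1), (-1), 0, 0, (-5), 0, 0, 0, 0, 0, 0, 0, 5, (-1), (-5), 3, 0, (-2), 2, (-1), 0, 0, 0, 0, 1, 0, (-1), 1, 0, 0, 0]]
  | 3 => [[(-32), 0, (-20), (-15), 0, 0, 15, 225, 28875, 0, 0, 0, 0, 0, 0, (-101250), 10, 6, (-90), (-40425), 0, 0, 40500, 0, 0, 0, 0, 0, 0, (-10), 0, 0, 0],
    [30, (-28), 0, 0, 0, 0, 0, 0, 375, 0, 0, 39, 0, 0, 0, (-1350), 0, 0, 0, (-525), 0, (-15), 525, (-26), 12, 0, 15, 0, 0, 0, 0, 0, 0],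
    [9, 0, 7, 0, 0, 0, (-3), (-45), (-5775), 0, 0, 0, 0, 0, 0, 20250, (-3), 0, 18, 8085, 0, 0, (-8100), 0, 0, 0, 0, 0, 0, 2, 0, 0, 0],
    [6, 0, 4, 3, 0, 0, (-3), (-45), (-5775), 0, 0, 0, 0, 0, 0, 20250, (-2), (-1), 18, 8085, 0, 0, (-8100), 0, 0, 0, 0, 0, 0, 2, 0, 0, 0],
    [9, 0, 4, 0, (-5), 0, (-3), (-45), (-5775), 0, 0, 0, 0, 0, 0, 20250, (-3), 0, 18, 8085, 0, 0, (-8100), 0, 0, 0, 0, 1, 0, 2, 0, 0, 0],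
    [9, 0, 4, 0, 0, (-5), (-3), (-45), (-5775), 0, 0, 0, 0, 0, 0, 20250, (-3), 0, 18, 8085, 0, 0, (-8100), 0, 0, 0, 0, 0, 1, 2, 0, 0, 0],
    [3, 0, 2, 0, 0, 0, (-1), (-15), (-1925), 0, 0, 0, 0, 0, 0, 6750, (-1), 0, 6, 2695, 0, 0, (-2700), 0, 0, 0, 0, 0, 0, 1, 0, 0, 0],
    [0, 0, 0, 0, 0, 0, 0, 3, 385, 0, 0, 0, 0, 0, 0, (-1350), 0, 0, (-1), (-539), 0, 0, 540, 0, 0, 0, 0, 0, 0, 0, 0, 0, 0],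
    [0, 0, 0, 0, 0, 0, 0, 0, (-77), 0, 0, 0, 0, 0, 0, 270, 0, 0, 0, 108, 0, 0, (-108), 0, 0, 0, 0, 0, 0, 0, 0, 0, 0],
    [0, 0, 0, (-5), 0, 0, 0, 0, (-25), (-2), 0, 0, 0, 0, 0, 90, 0, 1, 0, 35, 0, 0, (-36), 0, 0, 0, 0, 0, 0, 0, 0, 1, 0],
    [(-3), 0, (-2), 0, 0, 0, 3, 0, (-25), 0, (-1), 0, 0, 0, 0, 90, 1, 0, 0, 35, 0, 0, (-36), 0, 0, 0, 0, 0, 0, (-2), 1, 0, 0],
    [(-10), 9, 0, 0, 0, 0, 0, 0, (-125), 0, 0, (-13), 0, 0, 0, 450, 0, 0, 0, 175, 0, 5, (-175), 9, (-4), 0, (-5), 0, 0, 0, 0, 0, 0],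
    [4, 0, 0, (-7), 0, 0, 0, 0, (-25), 0, 0, 0, 0, 0, 0, 90, 0, 1, 0, 35, (-1), 0, (-36), 0, 0, 0, 0, 0, 0, 0, 0, 0, 1],
    [2, (-2), 0, 0, 0, 0, 0, 0, 25, 0, 0, 3, 0, 0, 0, (-90), 0, 0, 0, (-35), 0, (-1), 35, (-2), 1, 0, 1, 0, 0, 0, 0, 0, 0],
    [0, 2, 0, 0, 0, 0, 0, 0, 0, 0, 0, 0, 0, 0, 1, 0, 0, 0, 0, 0, 0, 0, 0, 0, 0, (-1), 0, 0, 0, 0, 0, 0, 0],
    [0, 0, 0, 0, 0, 0, 0, 0, (-5), 0, 0, 0, 0, 0, 0, 18, 0, 0, 0, 7, 0, 0, (-7), 0, 0, 0, 0, 0, 0, 0, 0, 0, 0]]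
  | _ => []

theorem chk_first : ∀ i, i < 51 → i = 0 ∨ i = 1 ∨ i = 2 ∨ i = 3 ∨
    ∃ f, f < 4 ∧ 1 ≤ f ∧ ∃ k, k < 16 ∧ i = cjI f k := by decide

theorem chk_conjW : ∀ f, f < 4 → 1 ≤ f → ∀ k, k < 16 → cjI f k < 51 ∧
    cert.W (cjI f k) = gW f ++ sW f k ++ ivw cert.iv (gW f) ++ ivw cert.iv (sT f k) := by decide +kernel

theorem chk_conjL : ∀ f, f < 4 → 1 ≤ f → ∀ k, k < 16 →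
    (gW f).all (fun x => Nat.blt x 6) = true ∧ (sW f k).all (fun x => Nat.blt x 4) = true ∧
    (sT f k).all (fun x => Nat.blt x 4) = true := by decide +kernel

theorem chk_conjC : ∀ f, f < 4 → 1 ≤ f → ∀ k, k < 16 →
    ((cjP f k = 0 ∧ ∀ l, l < 3 → ((fld (cert.rhs (cjI f k)) l : ℤ) - ((cert.W (cjI f k)).length : ℤ) * (cert.B : ℤ)) = 0) ∨
     (cjP f k = 1 ∧ ∀ l, l < 3 → ((fld (cert.rhs (cjI f k)) l : ℤ) - ((cert.W (cjI f k)).length : ℤ) * (cert.B : ℤ)) =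
        if l = 1 then 1 else 0)) := by decide +kernel

theorem chk_seed : cjI 2 2 = 1 := by decide

theorem chk_ax : ∀ j, j < 3 → ∀ l, l < 3 →
    ((fld (cert.rhs j) l : ℤ) - ((cert.W j).length : ℤ) * (cert.B : ℤ)) = if l = j then 1 else 0 := by
  decide +kernel

theorem chk_W0 : cert.W 0 = [4, 4] := by decide +kernel

theorem chk_W3 : cert.W 3 = wpow 23 [4, 1, 2, 3] := by decide +kernel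

theorem chk_ex : ∀ l, l < 3 → ((fld (cert.rhs 3) l : ℤ) - ((cert.W 3).length : ℤ) * (cert.B : ℤ)) = 0 := by
  decide +kernel

theorem chk_yW : expsumL 4 5 (wpow 23 [4, 1, 2, 3]) = 23 := by decide

theorem chk_wT : ∀ i, i < 51 → cert.wT i = 0 := by decide +kernel

theorem chk_len0 : (cert.W 62621).length ≤ 255 ∧ (cert.W 102699).length ≤ 255 ∧ (cert.W 103026).length ≤ 255 := by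
  decide +kernel

theorem chk_pow_1 : ∀ p ∈ PR 1, (∀ k ∈ p.1, k < 16) ∧ fixesBase (wpow p.2 (p.1.flatMap (sW 1))) = true ∧
    fixesBase (wpow p.2 (p.1.flatMap (sT 1))) = true := by decide +kernel

theorem chk_pow_2 : ∀ p ∈ PR 2, (∀ k ∈ p.1, k < 16) ∧ fixesBase (wpow p.2 (p.1.flatMap (sW 2))) = true ∧
    fixesBase (wpow p.2 (p.1.flatMap (sT 2))) = true := by decide +kernel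

theorem chk_pow_3 : ∀ p ∈ PR 3, (∀ k ∈ p.1, k < 16) ∧ fixesBase (wpow p.2 (p.1.flatMap (sW 3))) = true ∧
    fixesBase (wpow p.2 (p.1.flatMap (sT 3))) = true := by decide +kernel

theorem chk_lamF : ∀ f, f < 4 → 1 ≤ f → ∀ j, j < 16 → ∀ l, l < 16 →
    (if l = j then 1 else 0) - (mF f).getD j 0 * (cF f).getD l 0 = dotL ((lamF f).getD j []) (relF f) l := by
  decide +kernel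

theorem chk_cF : ∀ l, l < 16 → (cF 2).getD l 0 = if l = 2 then 1 else 0 := by decide

theorem chk_cF' : ∀ f, f < 4 → 1 ≤ f → f ≠ 2 → ∀ l, l < 16 → (cF f).getD l 0 = 0 := by decide

theorem chk_mF : ∀ f, f < 4 → 1 ≤ f → ∀ k, k < 16 → (mF f).getD k 0 = (cjP f k : ℤ) := by decide

theorem chk_cjP : ∀ f, f < 4 → 1 ≤ f → f ≠ 2 → ∀ k, k < 16 → cjP f k = 0 := by decide

theorem chk_inv : ∀ x, x < 6 → fixesBase [x, cert.iv x] = true := by decide +kernel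

/-- the relation vectors of the three closing words -/
def relL : List (List ℤ) := [[0, (-2), 0],
    [(-1), 0, 2],
    [(-22), (-198), 67]]

/-- the generator of the kernel as a product of powers of the central elements -/
def cL : List ℤ := [0, 1, 0]

/-- the central elements as powers of the generator -/
def mL : List ℤ := [0, 1, 0]

/-- the combinations of the relations that express the central elements by the generator -/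
def lamL : List (List ℤ) := [[(-198), (-67), 2],
    [0, 0, 0],
    [(-99), (-22), 1]]

/-- the combination of the relations that gives the power of the generator -/
def muL : List ℤ := [(-23), 0, 0]

theorem chk_rel_0 : ∀ l, l < 3 → ((fld (cert.rhs 62621) l : ℤ) - (fld 45036039225516032 l : ℤ)) = (relL.getD 0 []).getD l 0 := by
  decide +kernel

theorem chk_rel_1 : ∀ l, l < 3 → ((fld (cert.rhs 102699) l : ℤ) - (fld 31523028433137665 l : ℤ)) = (relL.getD 1 []).getD l 0 := by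
  decide +kernel

theorem chk_rel_2 : ∀ l, l < 3 → ((fld (cert.rhs 103026) l : ℤ) - (fld 44962372153024534 l : ℤ)) = (relL.getD 2 []).getD l 0 := by
  decide +kernel

theorem chk_lam : ∀ j, j < 3 → ∀ l, l < 3 →
    ((23 : ℕ) : ℤ) * ((if l = j then 1 else 0) - mL.getD j 0 * cL.getD l 0) = dotL (lamL.getD j []) relL l := by
  decide +kernel

theorem chk_mu : ∀ l, l < 3 → ((23 : ℕ) : ℤ) * ((2 : ℤ) * cL.getD l 0) = dotL muL relL l := by decide +kernel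

theorem chk_fld : ∀ n, n < 256 → ∀ l, l < 3 → fld (n * 2251801961170944) l = n * 2048 := by decide +kernel

end Cfsg.Agent.Lib.Helper7.Co1T
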