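import Mathlib
import Cfsg.Prelude.Def_FusionSystem
import Cfsg.Agent.Lib.Helper7.FusionNormal
import Cfsg.Agent.Lib.Helper7.SolvableConstrained

set_option autoImplicit false

namespace Cfsg.Agent.Lib.Helper7.ConstrNormal

open Cfsg Cfsg.FusionSystem Cfsg.Agent.Lib.Helper7

variable {Ω : Type*} [Group Ω] {S : Subgroup Ω}

/-- The trace on a strongly closed `T` of a subgroup normal in `F` lies in every centric radical subgroup of a
subsystem over `T`. -/
theorem inf_le_of_centric_radical_sub [Finite S] (p : ℕ) [Fact p.Prime] (hS : IsPGroup p S)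
    (F : FusionSystem S) {T : Subgroup Ω} (E : FusionSystem T) (hsub : E.IsSubsystemOf F)
    (hT : F.StronglyClosed T) {Q P : Subgroup Ω} (hQ : F.IsNormal Q) (hcen : E.IsCentric P)
    (hrad : E.IsRadical p P) : Q ⊓ T ≤ P := by
  have hPT := hcen.1
  have hTS := hT.1
  have hPS : P ≤ S := hPT.trans hTS
  have hRT : Q ⊓ T ≤ T := inf_le_right
  have hPRT : P ⊔ Q ⊓ T ≤ T := sup_le hPT hRT
  have hPRS : P ⊔ Q ⊓ T ≤ S := hPRT.trans hTS
  have hle2 : P ⊔ Q ⊓ T ≤ P ⊔ Q := sup_le_sup_left inf_le_left P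
  have := finite_of_le hTS
  have := finite_of_le hPS
  have := finite_of_le hPRS
  have : Finite (MulAut ↥P) := inferInstance
  have hcenP : centralizerIn T P ≤ P := hcen.2 P (isConj_refl E hPT)
  have hXA : autInducedBy (P ⊔ Q ⊓ T) P ≤ E.autGroup P :=
    (autInducedBy_mono hPRT P).trans (autInducedBy_le_autGroup E hPT)
  have hXp : IsPGroup p ↥(autInducedBy (P ⊔ Q ⊓ T) P) := isPGroup_autInducedBy _ _ (hS.to_le hPRS)
  -- X is normalized by A
  have hXnorm : ∀ α ∈ E.autGroup P, ∀ β ∈ autInducedBy (P ⊔ Q ⊓ T) P,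
      α * β * α⁻¹ ∈ autInducedBy (P ⊔ Q ⊓ T) P := by
    intro α hα β hβ
    obtain ⟨g, hg, hgβ⟩ := (mem_autInducedBy_iff _ P β).mp hβ
    obtain ⟨ψ, hψ, hext, hmap⟩ := hQ.2 P _ (hsub P ((mem_autGroup_iff E hPT α).mp hα))
    have hall : P ⊔ Q ⊓ T ≤ ((P ⊔ Q ⊓ T).comap ψ).map (P ⊔ Q).subtype := by
      apply sup_le
      · intro x hx
        refine ⟨⟨x, le_sup_left (b := Q) hx⟩, ?_, rfl⟩
        show ψ ⟨x, _⟩ ∈ P ⊔ Q ⊓ T
        have := hext ⟨x, hx⟩
        have e : Subgroup.inclusion le_sup_left (⟨x, hx⟩ : P) = ⟨x, le_sup_left (b := Q) hx⟩ :=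
          Subtype.ext rfl
        rw [e] at this
        rw [this]
        exact le_sup_left (b := Q ⊓ T) (α _).2
      · intro y hy
        have hyPQ : y ∈ P ⊔ Q := le_sup_right (a := P) hy.1
        refine ⟨⟨y, hyPQ⟩, ?_, rfl⟩
        show ψ ⟨y, _⟩ ∈ P ⊔ Q ⊓ T
        apply le_sup_right (a := P)
        constructor
        · have h2 : ψ ⟨y, hyPQ⟩ ∈ (Q.subgroupOf (P ⊔ Q)).map ψ :=
            ⟨_, Subgroup.mem_subgroupOf.mpr hy.1, rfl⟩
          rw [hmap] at h2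
          exact h2
        · have hle3 : Q ⊓ T ≤ P ⊔ Q := inf_le_left.trans le_sup_right
          have h3 := hT.2 (Q ⊓ T) hRT _ (fs_restrict_mem F hle3 hψ) ⟨y, hy⟩
          exact h3
    have hψg : ψ ⟨g, hle2 hg⟩ ∈ P ⊔ Q ⊓ T := by
      obtain ⟨⟨g', hg'⟩, hmem, hgg⟩ := hall hg
      have e : (⟨g, hle2 hg⟩ : ↥(P ⊔ Q)) = ⟨g', hg'⟩ := Subtype.ext hgg.symm
      rw [e]
      exact hmem
    apply (mem_autInducedBy_iff _ P _).mpr
    refine ⟨ψ ⟨g, hle2 hg⟩, hψg, fun x => ?_⟩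
    show ((α (β (α⁻¹ x)) : P) : Ω) = _
    have h1 := hext (β (α⁻¹ x))
    simp only [MonoidHom.comp_apply, Subgroup.coe_subtype, MulEquiv.coe_toMonoidHom] at h1
    rw [← h1]
    have e1 : Subgroup.inclusion le_sup_left (β (α⁻¹ x)) =
        (⟨g, hle2 hg⟩ : ↥(P ⊔ Q)) * Subgroup.inclusion le_sup_left (α⁻¹ x) *
          (⟨g, hle2 hg⟩ : ↥(P ⊔ Q))⁻¹ := by
      apply Subtype.ext
      exact hgβ _
    rw [e1, map_mul, map_mul, map_inv, hext]
    simp
  have hnormal : ((autInducedBy (P ⊔ Q ⊓ T) P).subgroupOf (E.autGroup P)).Normal := by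
    refine ⟨fun n hn a => ?_⟩
    exact Subgroup.mem_subgroupOf.mpr (hXnorm a a.2 n (Subgroup.mem_subgroupOf.mp hn))
  have hle := le_pCore hnormal hXp.comap_subtype
  have hXInn : autInducedBy (P ⊔ Q ⊓ T) P ≤ Inn P := by
    intro β hβ
    rw [← hrad.2]
    exact ⟨⟨β, hXA hβ⟩, hle (Subgroup.mem_subgroupOf.mpr hβ), rfl⟩
  by_contra hnot
  have hne : P ≠ P ⊔ Q ⊓ T := fun h => hnot (by rw [h]; exact le_sup_right)
  obtain ⟨g, hgN, hgP⟩ := lt_normalizerIn_of_ne (hS.to_le hPRS) le_sup_left hne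
  apply hgP
  apply mem_of_normalizerMonoidHom_mem_inn hcenP hPT (hPRT hgN.1) hgN.2
  apply hXInn
  exact (mem_autInducedBy_iff _ P _).mpr ⟨g, hgN.1, fun x => rfl⟩

/-- The trace on `T` of a subgroup normal in `F` is normal in a saturated subsystem over the strongly closed `T`. -/
theorem isNormal_inf_sub [Finite S] (p : ℕ) [Fact p.Prime] (hS : IsPGroup p S)
    (F : FusionSystem S) {T : Subgroup Ω} (E : FusionSystem T) (hEsat : E.IsSaturated p)
    (hsub : E.IsSubsystemOf F) (hT : F.StronglyClosed T) {Q : Subgroup Ω} (hQ : F.IsNormal Q) :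
    E.IsNormal (Q ⊓ T) := by
  have hTS := hT.1
  have := finite_of_le hTS
  rw [isNormal_iff_stronglyClosed_le_centric_radical p (hS.to_le hTS) E hEsat]
  refine ⟨⟨inf_le_right, fun R hR φ hφ x => ?_⟩, fun P hcen hrad =>
    inf_le_of_centric_radical_sub p hS F E hsub hT hQ hcen hrad⟩
  have hQsc := stronglyClosed_of_isNormal F hQ
  exact ⟨hQsc.2 R (hR.trans inf_le_left) φ (hsub R hφ) x, (E.le_of_mem hφ).2 x⟩

end Cfsg.Agent.Lib.Helper7.ConstrNormal
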