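import Mathlib
import Cfsg.Prelude.Def_FusionSystem
import Cfsg.Prelude.Def_FusionComponents
import Cfsg.Agent.Lib.Helper7.SolvableConstrained

set_option autoImplicit false

namespace Cfsg.Agent.Lib.Helper7

open Cfsg Cfsg.FusionSystem
open scoped commutatorElement

variable {Ω : Type*} [Group Ω] {S : Subgroup Ω}

theorem aut_fixes_central' (F : FusionSystem S) {Q : Subgroup Ω} (hQ : F.IsCentral Q) {P : Subgroup Ω}
    (hP : P ≤ S) (α : MulAut P) (hα : α ∈ F.autGroup P) (z : P) (hz : (z : Ω) ∈ Q) : α z = z := by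
  have hφ := (mem_autGroup_iff F hP α).mp hα
  obtain ⟨ψ, hψ, hext, hfix⟩ := hQ.2 P _ hφ
  have h1 := hext z
  have h2 := hfix ⟨z, hz⟩
  have e : Subgroup.inclusion (le_sup_left : P ≤ P ⊔ Q) z =
      Subgroup.inclusion le_sup_right (⟨z, hz⟩ : Q) := Subtype.ext rfl
  rw [e, h2] at h1
  exact Subtype.ext h1.symm

theorem pow_apply_of_extends {P R : Subgroup Ω} (hPR : P ≤ R) (α : MulAut P) (γ : MulAut R)
    (h : ∀ x : P, γ (Subgroup.inclusion hPR x) = Subgroup.inclusion hPR (α x)) (k : ℕ) (x : P) :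
    (γ ^ k) (Subgroup.inclusion hPR x) = Subgroup.inclusion hPR ((α ^ k) x) := by
  induction k generalizing x with
  | zero => simp
  | succ k ih =>
    rw [pow_succ, pow_succ, MulAut.mul_apply, MulAut.mul_apply, h, ih]

variable {Ω' : Type*} [Group Ω'] {S' : Subgroup Ω'}

theorem grun_center [Finite S] (p : ℕ) [Fact p.Prime] (hS : IsPGroup p S)
    (F : FusionSystem S) (hF : F.IsSaturated p) (hperf : F.hyperfocalSubgroup p = S)
    (θ : S →* Ω') (E : FusionSystem S') [Finite S'] (hE : F.IsFactorSystem F.center θ E) : E.center = ⊥ := by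
  have hp := (Fact.out : p.Prime)
  have hZc : F.IsCentral F.center := isCentral_center F
  have hZ : F.StronglyClosed F.center := stronglyClosed_of_isCentral F hZc
  set Z := F.center with hZdef
  have hker := hE.2.1
  have hrange := hE.2.2.1
  have hθ : ∀ s : S, θ s ∈ S' := fun s => hrange ▸ ⟨s, rfl⟩
  have hEc : E.IsCentral E.center := isCentral_center E
  have hEcsc : E.StronglyClosed E.center := stronglyClosed_of_isCentral E hEc
  set W := preimageAlong θ E.center with hWdef
  have hWsc : F.StronglyClosed W := stronglyClosed_preimage p hS F hF Z hZ θ E hE hEcsc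
  have hWS := hWsc.1
  have hZW : Z ≤ W := by
    intro z hz
    refine (mem_preimageAlong θ _ z).mpr ⟨hZ.1 hz, ?_⟩
    rw [(hker ⟨z, hZ.1 hz⟩).mpr hz]
    exact Subgroup.one_mem _
  haveI := finite_of_le hWS
  -- (a) automorphisms act trivially on `W` modulo `Z`
  have ha : ∀ (P : Subgroup Ω) (hP : P ≤ S) (β : MulAut P), β ∈ F.autGroup P → ∀ x : P, (x : Ω) ∈ W →
      (x : Ω)⁻¹ * ((β x : P) : Ω) ∈ Z := by
    intro P hP β hβ x hx
    have hA := autGroup_preserves_ker F Z hZ θ hker hP
    have hspec := indHom_spec θ hP (F.autGroup P) hA ⟨β, hβ⟩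
    have hβ' := indAut_mem_autGroup_of_isSaturated p hS F hF Z hZ θ E hE hP hβ hspec
    have hy : ((imageHom θ hP x : imageAlong θ P) : Ω') ∈ E.center :=
      ((mem_preimageAlong θ _ _).mp hx).2
    have h1 := aut_fixes_central' E hEc (imageAlong_le θ hθ P) _ hβ' (imageHom θ hP x) hy
    rw [hspec x] at h1
    exact (imageHom_eq_iff θ Z hker hP _ _).mp h1.symm
  -- (b) automorphisms fix `Z`
  have hb : ∀ (P : Subgroup Ω) (hP : P ≤ S) (β : MulAut P), β ∈ F.autGroup P → ∀ x : P, (x : Ω) ∈ Z →
      β x = x := fun P hP β hβ x hx => aut_fixes_central' F hZc hP β hβ x hx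
  -- conjugation by `s ∈ S`
  have hconj : ∀ s ∈ S, ∀ w ∈ W, w⁻¹ * (s * w * s⁻¹) ∈ Z := by
    intro s hs w hw
    have hmem : conjHom S s ∈ F.Hom S := F.conj_mem le_rfl hs
    have hN : s ∈ Subgroup.normalizer ((S : Subgroup Ω) : Set Ω) := Subgroup.le_normalizer hs
    have := ha S le_rfl (S.normalizerMonoidHom ⟨s, hN⟩)
      (autInducedBy_le_autGroup F le_rfl ((mem_autInducedBy_iff S S _).mpr ⟨s, hs, fun x => rfl⟩))
      ⟨w, hWS hw⟩ hw
    exact this
  have hZcent : ∀ z ∈ Z, ∀ s ∈ S, s * z = z * s := fun z hz s hs =>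
    F.center_le_centralizer hz s hs
  -- `Aut_F(W)` is a `p`-group
  have hWp : IsPGroup p W := hS.to_le hWS
  let C : ℕ → Subgroup W := fun i => match i with
    | 0 => ⊥
    | 1 => Z.subgroupOf W
    | _ + 2 => ⊤
  have hAC : ∀ i, ∀ β ∈ F.autGroup W, ∀ x ∈ C i, β x ∈ C i := by
    intro i β hβ x hx
    match i with
    | 0 =>
      have : x = 1 := hx
      rw [this, map_one]; exact Subgroup.one_mem _
    | 1 =>
      have hx' : (x : Ω) ∈ Z := Subgroup.mem_subgroupOf.mp hx
      rw [hb W hWS β hβ x hx']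
      exact hx
    | _ + 2 => exact Subgroup.mem_top _
  have hAutp : IsPGroup p (F.autGroup W) := by
    have hPG := isPGroup_stabChain hWp (F.autGroup W) C 2 hAC rfl rfl
    have hle : F.autGroup W ≤ stabChain (F.autGroup W) C 2 hAC := by
      intro β hβ
      refine ⟨hβ, fun i hi x hx => ?_⟩
      match i, hi with
      | 0, _ =>
        have hx' : (x : Ω) ∈ Z := Subgroup.mem_subgroupOf.mp hx
        rw [hb W hWS β hβ x hx', inv_mul_cancel]
        exact Subgroup.one_mem _
      | 1, _ => exact Subgroup.mem_subgroupOf.mpr (ha W hWS β hβ x x.2)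
    exact hPG.to_le hle
  -- `W` is normal in `F`
  have hWn : F.IsNormal W := by
    apply isNormal_of_series p hS F hF W 2 ![⊥, Z, W] rfl rfl
    intro i
    fin_cases i
    · refine ⟨hZ, ?_⟩
      show ⁅W, Z⁆ ≤ ⊥
      rw [Subgroup.commutator_le]
      intro a haW b hbZ
      rw [Subgroup.mem_bot, commutatorElement_eq_one_iff_mul_comm]
      exact hZcent b hbZ a (hWS haW)
    · refine ⟨hWsc, ?_⟩
      show ⁅W, W⁆ ≤ Z
      rw [Subgroup.commutator_le]
      intro a haW b hbW
      have h1 := hconj a (hWS haW) b hbW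
      have h2 := hZcent _ h1 b (hWS hbW)
      have e : ⁅a, b⁆ = b * (b⁻¹ * (a * b * a⁻¹)) * b⁻¹ := by
        rw [commutatorElement_def]; group
      rw [e, h2, mul_inv_cancel_right]
      exact h1
  -- `p'`-automorphisms move elements within `C_S(W)`
  have hkey : ∀ (P : Subgroup Ω) (hP : P ≤ S) (α : F.autGroup P), α ∈ Cfsg.pResidual p (F.autGroup P) →
      ∀ x : P, (x : Ω)⁻¹ * (((α : MulAut P) x : P) : Ω) ∈ centralizerIn S W := by
    intro P hP α hα
    unfold Cfsg.pResidual at hα
    induction hα using Subgroup.closure_induction with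
    | one => intro x; simp
    | mul a b _ _ iha ihb =>
      intro x
      have e : (x : Ω)⁻¹ * ((((a * b : F.autGroup P) : MulAut P) x : P) : Ω) =
          ((x : Ω)⁻¹ * (((b : MulAut P) x : P) : Ω)) *
            ((((b : MulAut P) x : P) : Ω)⁻¹ * (((a : MulAut P) ((b : MulAut P) x) : P) : Ω)) := by
        show (x : Ω)⁻¹ * (((a : MulAut P) ((b : MulAut P) x) : P) : Ω) = _
        group
      rw [e]
      exact Subgroup.mul_mem _ (ihb x) (iha _)
    | inv a _ iha =>
      intro x
      have h1 := iha ((a : MulAut P)⁻¹ x)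
      rw [MulAut.apply_inv_self] at h1
      have e : (x : Ω)⁻¹ * ((((a⁻¹ : F.autGroup P) : MulAut P) x : P) : Ω) =
          ((((a : MulAut P)⁻¹ x : P) : Ω)⁻¹ * (x : Ω))⁻¹ := by
        show (x : Ω)⁻¹ * ((((a : MulAut P)⁻¹) x : P) : Ω) = _
        group
      rw [e]
      exact Subgroup.inv_mem _ h1
    | mem α hαcop =>
      intro x
      haveI := finite_of_le hP
      have hcop : Nat.Coprime (orderOf (α : MulAut P)) p := by
        rw [Subgroup.orderOf_coe]; exact hαcop
      -- extend `α` to `P ⊔ W`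
      obtain ⟨ψ, hψ, hext, hmap⟩ := hWn.2 P _ ((mem_autGroup_iff F hP (α : MulAut P)).mp α.2)
      have hPWS : P ⊔ W ≤ S := sup_le hP hWS
      haveI := finite_of_le hPWS
      have hinj := F.injective_of_mem hψ
      have hNW : P ≤ Subgroup.normalizer (W : Set Ω) :=
        hP.trans (le_normalizer_of_stronglyClosed F hWsc)
      have hr : ψ.range = P ⊔ W := by
        apply Subgroup.eq_of_le_of_card_ge
        · rintro _ ⟨y, rfl⟩
          have hy : (y : Ω) ∈ ((P ⊔ W : Subgroup Ω) : Set Ω) := y.2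
          rw [Subgroup.coe_mul_of_left_le_normalizer_right P W hNW] at hy
          obtain ⟨a, haP, b, hbW, hab⟩ := hy
          have e : y = Subgroup.inclusion le_sup_left ⟨a, haP⟩ * Subgroup.inclusion le_sup_right ⟨b, hbW⟩ :=
            Subtype.ext hab.symm
          rw [e, map_mul, hext]
          apply Subgroup.mul_mem
          · exact Subgroup.mem_sup_left ((α : MulAut P) ⟨a, haP⟩).2
          · apply Subgroup.mem_sup_right
            have : ψ (Subgroup.inclusion le_sup_right ⟨b, hbW⟩) ∈ (W.subgroupOf (P ⊔ W)).map ψ :=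
              ⟨_, Subgroup.mem_subgroupOf.mpr hbW, rfl⟩
            rw [hmap] at this
            exact this
        · exact (Nat.card_congr (Equiv.ofInjective ψ hinj)).le
      set γ : MulAut (P ⊔ W : Subgroup Ω) := isoOfRange ψ hinj hr with hγ
      have hγA : γ ∈ F.autGroup (P ⊔ W) := by
        apply (mem_autGroup_iff F hPWS _).mpr
        convert hψ using 1
        ext y
        rfl
      have hγcoe : ∀ y, ((γ y : (P ⊔ W : Subgroup Ω)) : Ω) = ψ y := fun y => rfl
      -- the restriction of `γ` to `W`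
      have hγW : ∀ w : W, ψ (Subgroup.inclusion le_sup_right w) ∈ W := by
        intro w
        have : ψ (Subgroup.inclusion le_sup_right w) ∈ (W.subgroupOf (P ⊔ W)).map ψ :=
          ⟨_, Subgroup.mem_subgroupOf.mpr w.2, rfl⟩
        rw [hmap] at this
        exact this
      have hρr : (ψ.comp (Subgroup.inclusion (le_sup_right : W ≤ P ⊔ W))).range = W := by
        apply Subgroup.eq_of_le_of_card_ge
        · rintro _ ⟨w, rfl⟩
          exact hγW w
        · exact (Nat.card_congr (Equiv.ofInjective _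
            (F.injective_of_mem (fs_restrict_mem F le_sup_right hψ)))).le
      set ρ : MulAut W := isoOfRange _ (F.injective_of_mem (fs_restrict_mem F le_sup_right hψ)) hρr with hρ
      have hρA : ρ ∈ F.autGroup W := by
        apply (mem_autGroup_iff F hWS _).mpr
        convert fs_restrict_mem F le_sup_right hψ using 1
        ext y
        rfl
      have hγρ : ∀ w : W, γ (Subgroup.inclusion le_sup_right w) = Subgroup.inclusion le_sup_right (ρ w) :=
        fun w => Subtype.ext rfl
      have hγα : ∀ x : P, γ (Subgroup.inclusion le_sup_left x) =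
          Subgroup.inclusion le_sup_left ((α : MulAut P) x) := fun x => Subtype.ext (hext x)
      obtain ⟨a, ha'⟩ := hAutp ⟨ρ, hρA⟩
      have hρpow : ρ ^ (p ^ a) = 1 := congrArg Subtype.val ha'
      -- choose `k = p^a * u` with `k ≡ 1` modulo the order of `α`
      obtain ⟨k, hkα, hkρ⟩ : ∃ k : ℕ, (α : MulAut P) ^ k = (α : MulAut P) ∧ ρ ^ k = 1 := by
        by_cases h1 : orderOf (α : MulAut P) = 1
        · refine ⟨p ^ a, ?_, hρpow⟩
          rw [orderOf_eq_one_iff.mp h1, one_pow]
        · have hpos : 0 < orderOf (α : MulAut P) := orderOf_pos _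
          have hlt : 1 < orderOf (α : MulAut P) := by omega
          have hcop' : Nat.Coprime (p ^ a) (orderOf (α : MulAut P)) := (Nat.Coprime.pow_right a hcop).symm
          obtain ⟨u, -, hu⟩ := Nat.exists_mul_mod_eq_one_of_coprime hcop' hlt
          refine ⟨p ^ a * u, ?_, ?_⟩
          · rw [← pow_mod_orderOf, hu, pow_one]
          · rw [pow_mul, hρpow, one_pow]
      set δ := γ ^ k with hδ
      have hδA : δ ∈ F.autGroup (P ⊔ W) := Subgroup.pow_mem _ hγA k
      have hδα : ∀ x : P, δ (Subgroup.inclusion le_sup_left x) =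
          Subgroup.inclusion le_sup_left ((α : MulAut P) x) := by
        intro x
        rw [hδ, pow_apply_of_extends le_sup_left (α : MulAut P) γ hγα k x, hkα]
      have hδW : ∀ w : W, δ (Subgroup.inclusion le_sup_right w) = Subgroup.inclusion le_sup_right w := by
        intro w
        rw [hδ, pow_apply_of_extends le_sup_right ρ γ hγρ k w, hkρ]
        rfl
      -- now compute
      refine ⟨S.mul_mem (S.inv_mem (hP x.2)) (hP ((α : MulAut P) x).2), ?_⟩
      show _ ∈ Subgroup.centralizer (W : Set Ω)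
      rw [Subgroup.mem_centralizer_iff]
      intro w hw
      have hz := hconj x (hP x.2) w hw
      set z := w⁻¹ * ((x : Ω) * w * (x : Ω)⁻¹) with hzdef
      have hzW : z ∈ W := hZW hz
      have e1 : (x : Ω) * w * (x : Ω)⁻¹ = w * z := by rw [hzdef]; group
      -- apply `δ`
      have e2 : Subgroup.inclusion (le_sup_left : P ≤ P ⊔ W) x * Subgroup.inclusion le_sup_right ⟨w, hw⟩ *
          (Subgroup.inclusion (le_sup_left : P ≤ P ⊔ W) x)⁻¹ =
          Subgroup.inclusion le_sup_right ⟨w, hw⟩ * Subgroup.inclusion le_sup_right ⟨z, hzW⟩ :=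
        Subtype.ext e1
      have e3 := congrArg δ e2
      simp only [map_mul, map_inv] at e3
      rw [hδα, hδW, hδW] at e3
      have e4 := congrArg Subtype.val e3
      have e5 : (((α : MulAut P) x : P) : Ω) * w * (((α : MulAut P) x : P) : Ω)⁻¹ = w * z := e4
      -- so `x⁻¹ α(x)` commutes with `w`
      have e6 : (((α : MulAut P) x : P) : Ω) * w * (((α : MulAut P) x : P) : Ω)⁻¹ =
          (x : Ω) * w * (x : Ω)⁻¹ := by rw [e5, e1]
      calc w * ((x : Ω)⁻¹ * (((α : MulAut P) x : P) : Ω))
          = (x : Ω)⁻¹ * ((x : Ω) * w * (x : Ω)⁻¹) * (((α : MulAut P) x : P) : Ω) := by group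
        _ = (x : Ω)⁻¹ * ((((α : MulAut P) x : P) : Ω) * w * (((α : MulAut P) x : P) : Ω)⁻¹) *
              (((α : MulAut P) x : P) : Ω) := by rw [e6]
        _ = (x : Ω)⁻¹ * (((α : MulAut P) x : P) : Ω) * w := by group
  -- hence `W ≤ Z(S)`
  have hhyp : F.hyperfocalSubgroup p ≤ centralizerIn S W := by
    conv_lhs => unfold FusionSystem.hyperfocalSubgroup
    rw [Subgroup.closure_le]
    rintro _ ⟨P, α, x, hPS, hα, rfl⟩
    exact hkey P hPS α hα x
  have hWZS : S ≤ centralizerIn S W := by
    intro s hs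
    apply hhyp
    rw [hperf]
    exact hs
  -- `Aut_F(W)` is trivial
  have hAtriv : ∀ α ∈ F.autGroup W, α = 1 := by
    intro α hα
    obtain ⟨-, R, hR⟩ := isFullyAutomized_of_isNormal p hS F hF hWn
    have hbot : autInducedBy S W = ⊥ := by
      rw [eq_bot_iff]
      intro β hβ
      obtain ⟨g, hg, hgβ⟩ := (mem_autInducedBy_iff S W β).mp hβ
      rw [Subgroup.mem_bot]
      ext x
      rw [hgβ x]
      have := (Subgroup.mem_centralizer_iff.mp (hWZS hg).2) x x.2
      show g * x * g⁻¹ = x
      rw [← this, mul_inv_cancel_right]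
    have hRbot : (R : Subgroup (F.autGroup W)) = ⊥ := by
      rw [hR, hbot]
      exact Subgroup.bot_subgroupOf _
    haveI : Finite (MulAut W) := inferInstance
    have hnd : ¬ p ∣ Nat.card (F.autGroup W) := by
      have := R.not_dvd_index
      rwa [hRbot, Subgroup.index_bot] at this
    obtain ⟨k, hk⟩ := hAutp ⟨α, hα⟩
    have hk' : α ^ (p ^ k) = 1 := congrArg Subtype.val hk
    have hcard : α ^ Nat.card (F.autGroup W) = 1 := by
      have : (⟨α, hα⟩ : F.autGroup W) ^ Nat.card (F.autGroup W) = 1 := pow_card_eq_one'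
      exact congrArg Subtype.val this
    have hcop : Nat.Coprime (p ^ k) (Nat.card (F.autGroup W)) :=
      Nat.Coprime.pow_left _ ((Nat.Prime.coprime_iff_not_dvd Fact.out).mpr hnd)
    have hd := Nat.dvd_gcd (orderOf_dvd_of_pow_eq_one hk') (orderOf_dvd_of_pow_eq_one hcard)
    rw [hcop.gcd_eq_one, Nat.dvd_one] at hd
    exact orderOf_eq_one_iff.mp hd
  -- `W` is central in `F`
  have hWc : F.IsCentral W := by
    rw [isCentral_iff_conj_singletons p hS F hF]
    refine ⟨hWS, fun x hx y ⟨φ, hφ, hφx⟩ => ?_⟩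
    have hle : Subgroup.zpowers x ≤ W := Subgroup.zpowers_le.mpr hx
    obtain ⟨α, hα, hαφ⟩ := (isNormal_iff_extend p hS F hF W hWS).mp hWn _ hle φ hφ
    have h1 := hαφ ⟨x, Subgroup.mem_zpowers x⟩
    rw [hAtriv α hα, hφx] at h1
    exact h1.symm
  have hWZ : W ≤ Z := le_sSup hWc
  rw [eq_bot_iff]
  intro y hy
  have hyS' : y ∈ S' := hEc.1 hy
  rw [← hrange] at hyS'
  obtain ⟨s, rfl⟩ := hyS'
  have hsW : (s : Ω) ∈ W := (mem_preimageAlong θ _ _).mpr ⟨s.2, hy⟩
  exact Subgroup.mem_bot.mpr ((hker s).mpr (hWZ hsW))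

end Cfsg.Agent.Lib.Helper7
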