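import Mathlib
import Cfsg.Prelude.Def_FusionSystem
import Cfsg.Agent.Lib.Helper7.FusionNormal
import Cfsg.Agent.Lib.Helper7.SolvableConstrained
import Cfsg.Agent.Lib.Helper7.FusionCore2
import Cfsg.Agent.Lib.Helper7.Stability
import Cfsg.Agent.Lib.Helper7.FusionEssential
import Cfsg.Agent.Lib.Helper7.Alperin1
import Cfsg.Agent.Lib.Helper7.FusionGrun

set_option autoImplicit false

namespace Cfsg.Agent.Lib.Helper7.ConstrNormal

open Cfsg Cfsg.FusionSystem Cfsg.Agent.Lib.Helper7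

variable {Ω : Type*} [Group Ω] {S : Subgroup Ω}

/-- The elements of `S` acting on `Q` by conjugation as an element of `K`. -/
def preimK (S Q : Subgroup Ω) (K : Subgroup (MulAut Q)) : Subgroup Ω where
  carrier := {s | s ∈ S ∧ ∃ α ∈ K, ∀ x : Q, ((α x : Q) : Ω) = s * x * s⁻¹}
  one_mem' := ⟨S.one_mem, 1, K.one_mem, fun x => by simp⟩
  mul_mem' := by
    rintro a b ⟨ha, α, hα, hαe⟩ ⟨hb, β, hβ, hβe⟩
    refine ⟨S.mul_mem ha hb, α * β, K.mul_mem hα hβ, fun x => ?_⟩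
    rw [MulAut.mul_apply, hαe, hβe]
    group
  inv_mem' := by
    rintro a ⟨ha, α, hα, hαe⟩
    refine ⟨S.inv_mem ha, α⁻¹, K.inv_mem hα, fun x => ?_⟩
    have := hαe (α⁻¹ x)
    rw [MulAut.apply_inv_self] at this
    rw [this]
    group

theorem mem_preimK {S Q : Subgroup Ω} {K : Subgroup (MulAut Q)} {s : Ω} :
    s ∈ preimK S Q K ↔ s ∈ S ∧ ∃ α ∈ K, ∀ x : Q, ((α x : Q) : Ω) = s * x * s⁻¹ := Iff.rfl

theorem preimK_le (S Q : Subgroup Ω) (K : Subgroup (MulAut Q)) : preimK S Q K ≤ S := fun _ h => h.1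

/-- The restriction to `Q` of an extension preserving `Q`. -/
theorem exists_restrict_of_map_eq (F : FusionSystem S) {P Q : Subgroup Ω} [Finite Q] (hQS : Q ≤ S)
    {ψ : ↥(P ⊔ Q) →* Ω} (hψ : ψ ∈ F.Hom (P ⊔ Q)) (hmap : (Q.subgroupOf (P ⊔ Q)).map ψ = Q) :
    ∃ k ∈ F.autGroup Q, ∀ x : Q, ψ (Subgroup.inclusion le_sup_right x) = k x := by
  have hmem : ∀ x : Q, (ψ.comp (Subgroup.inclusion (le_sup_right : Q ≤ P ⊔ Q))) x ∈ Q := by
    intro x
    have : ψ (Subgroup.inclusion le_sup_right x) ∈ (Q.subgroupOf (P ⊔ Q)).map ψ :=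
      ⟨_, Subgroup.mem_subgroupOf.mpr x.2, rfl⟩
    rw [hmap] at this
    exact this
  let f : Q →* Q := (ψ.comp (Subgroup.inclusion (le_sup_right : Q ≤ P ⊔ Q))).codRestrict Q hmem
  have hinj : Function.Injective f := by
    intro a b hab
    have h1 : ψ (Subgroup.inclusion le_sup_right a) = ψ (Subgroup.inclusion le_sup_right b) :=
      congrArg (fun z : Q => (z : Ω)) hab
    exact Subgroup.inclusion_injective _ (F.injective_of_mem hψ h1)
  refine ⟨MulEquiv.ofBijective f ⟨hinj, Finite.injective_iff_surjective.mp hinj⟩, ?_, fun x => rfl⟩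
  rw [mem_autGroup_iff F hQS]
  have h2 := fs_restrict_mem F (le_sup_right : Q ≤ P ⊔ Q) hψ
  convert h2 using 1
  ext x
  rfl

/-- `preimK` is strongly closed when `K` is normalized by `Aut_F(Q)`. -/
theorem stronglyClosed_preimK [Finite S] (F : FusionSystem S) {Q : Subgroup Ω} (hQ : F.IsNormal Q)
    (K : Subgroup (MulAut Q)) (hKn : ∀ β ∈ F.autGroup Q, ∀ α ∈ K, β * α * β⁻¹ ∈ K) :
    F.StronglyClosed (preimK S Q K) := by
  have := finite_of_le hQ.1
  refine ⟨preimK_le S Q K, fun A hA φ hφ a => ?_⟩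
  obtain ⟨ψ, hψ, hext, hmap⟩ := hQ.2 A φ hφ
  obtain ⟨k, hk, hkψ⟩ := exists_restrict_of_map_eq F hQ.1 hψ hmap
  obtain ⟨-, α, hα, hαe⟩ := hA a.2
  refine ⟨(F.le_of_mem hφ).2 a, k * α * k⁻¹, hKn k hk α hα, fun x => ?_⟩
  show ((k (α (k⁻¹ x)) : Q) : Ω) = _
  rw [← hkψ]
  have e1 : Subgroup.inclusion (le_sup_right : Q ≤ A ⊔ Q) (α (k⁻¹ x)) =
      Subgroup.inclusion (le_sup_left : A ≤ A ⊔ Q) a * Subgroup.inclusion le_sup_right (k⁻¹ x) *
        (Subgroup.inclusion (le_sup_left : A ≤ A ⊔ Q) a)⁻¹ := by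
    apply Subtype.ext
    exact hαe _
  rw [e1, map_mul, map_mul, map_inv, hext, hkψ, MulAut.apply_inv_self]


/-- The automorphisms in `A` of `P` acting on `Q ≤ P` as elements of `K`. -/
def resK {P Q : Subgroup Ω} (hQP : Q ≤ P) (A : Subgroup (MulAut P)) (K : Subgroup (MulAut Q)) :
    Subgroup (MulAut P) where
  carrier := {α | α ∈ A ∧ ∃ k ∈ K, ∀ x : Q, α (Subgroup.inclusion hQP x) = Subgroup.inclusion hQP (k x)}
  one_mem' := ⟨A.one_mem, 1, K.one_mem, fun x => rfl⟩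
  mul_mem' := by
    rintro α β ⟨hα, k, hk, hkα⟩ ⟨hβ, l, hl, hlβ⟩
    refine ⟨A.mul_mem hα hβ, k * l, K.mul_mem hk hl, fun x => ?_⟩
    rw [MulAut.mul_apply, MulAut.mul_apply, hlβ, hkα]
  inv_mem' := by
    rintro α ⟨hα, k, hk, hkα⟩
    refine ⟨A.inv_mem hα, k⁻¹, K.inv_mem hk, fun x => ?_⟩
    have := hkα (k⁻¹ x)
    rw [MulAut.apply_inv_self] at this
    rw [← this, MulAut.inv_apply_self]

theorem mem_resK {P Q : Subgroup Ω} {hQP : Q ≤ P} {A : Subgroup (MulAut P)} {K : Subgroup (MulAut Q)}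
    {α : MulAut P} : α ∈ resK hQP A K ↔
      α ∈ A ∧ ∃ k ∈ K, ∀ x : Q, α (Subgroup.inclusion hQP x) = Subgroup.inclusion hQP (k x) := Iff.rfl

/-- The chain `1 ≤ Q ≤ P`. -/
def chainQ {P : Subgroup Ω} (Q : Subgroup Ω) : ℕ → Subgroup ↥P
  | 0 => ⊥
  | 1 => Q.subgroupOf P
  | _ => ⊤

theorem preimK_le_of_centric_radical [Finite S] (p : ℕ) [Fact p.Prime] (hS : IsPGroup p S)
    (F : FusionSystem S) {Q : Subgroup Ω} (hQ : F.IsNormal Q) (hQc : F.IsCentric Q)
    (K : Subgroup (MulAut Q)) (hKp : IsPGroup p K)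
    (hKn : ∀ β ∈ F.autGroup Q, ∀ α ∈ K, β * α * β⁻¹ ∈ K)
    {P : Subgroup Ω} (hcen : F.IsCentric P) (hrad : F.IsRadical p P) : preimK S Q K ≤ P := by
  have hp : p.Prime := Fact.out
  have hPS := hcen.1
  have hQS := hQ.1
  have hQP : Q ≤ P := le_of_isNormal_of_centric_radical p hS F hQ hcen hrad
  have := finite_of_le hPS
  have := finite_of_le hQS
  have : Finite (MulAut ↥P) := inferInstance
  have hPp : IsPGroup p ↥P := hS.to_le hPS
  have hcenP : centralizerIn S P ≤ P := hcen.2 P (isConj_refl F hPS)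
  have hcenQ : centralizerIn S Q ≤ Q := hQc.2 Q (isConj_refl F hQS)
  have hNQ := le_normalizer_of_isNormal F hQ
  -- restriction of elements of `Aut_F(P)`
  have hres : ∀ γ ∈ F.autGroup P, ∃ k ∈ F.autGroup Q,
      ∀ x : Q, γ (Subgroup.inclusion hQP x) = Subgroup.inclusion hQP (k x) := by
    intro γ hγ
    have hm := map_eq_of_isNormal F hQ hPS hQP γ hγ
    have h1 : ∀ x : Q, ((γ (Subgroup.inclusion hQP x) : P) : Ω) ∈ Q := by
      intro x
      have : γ (Subgroup.inclusion hQP x) ∈ (Q.subgroupOf P).map γ.toMonoidHom :=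
        ⟨_, Subgroup.mem_subgroupOf.mpr x.2, rfl⟩
      rw [hm] at this
      exact Subgroup.mem_subgroupOf.mp this
    obtain ⟨k, hk⟩ := exists_restrict_mulAut hQP γ h1
    refine ⟨k, ?_, fun x => Subtype.ext (hk x)⟩
    rw [mem_autGroup_iff F hQS]
    have h2 := fs_restrict_mem F hQP ((mem_autGroup_iff F hPS γ).mp hγ)
    convert h2 using 1
    ext x
    exact (hk x).symm
  -- normality of `B`
  have hBnorm : ∀ γ ∈ F.autGroup P, ∀ α ∈ resK hQP (F.autGroup P) K,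
      γ * α * γ⁻¹ ∈ resK hQP (F.autGroup P) K := by
    rintro γ hγ α ⟨hα, k, hk, hkα⟩
    obtain ⟨l, hl, hlγ⟩ := hres γ hγ
    refine ⟨(F.autGroup P).mul_mem ((F.autGroup P).mul_mem hγ hα) ((F.autGroup P).inv_mem hγ),
      l * k * l⁻¹, hKn l hl k hk, fun x => ?_⟩
    have h3 : γ⁻¹ (Subgroup.inclusion hQP x) = Subgroup.inclusion hQP (l⁻¹ x) := by
      have := hlγ (l⁻¹ x)
      rw [MulAut.apply_inv_self] at this
      rw [← this, MulAut.inv_apply_self]
    rw [MulAut.mul_apply, MulAut.mul_apply, h3, hkα, hlγ]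
    rfl
  -- `B` is a `p`-group
  have hAinv : ∀ i, ∀ α ∈ F.autGroup P, ∀ x ∈ chainQ (P := P) Q i, α x ∈ chainQ (P := P) Q i := by
    intro i α hα x hx
    match i, hx with
    | 0, hx =>
      have hx' : x = 1 := Subgroup.mem_bot.mp hx
      rw [hx', map_one]
      exact Subgroup.one_mem _
    | 1, hx =>
      have hm := map_eq_of_isNormal F hQ hPS hQP α hα
      show α x ∈ Q.subgroupOf P
      rw [← hm]
      exact ⟨x, hx, rfl⟩
    | (n + 2), hx => exact Subgroup.mem_top _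
  have hstabp := isPGroup_stabChain hPp (F.autGroup P) (chainQ (P := P) Q) 2 hAinv rfl rfl
  have hBp : IsPGroup p ↥(resK hQP (F.autGroup P) K) := by
    rintro ⟨α, hα, k, hk, hkα⟩
    obtain ⟨n, hn⟩ := hKp ⟨k, hk⟩
    have hkn : k ^ (p ^ n) = 1 := by
      have := congrArg (fun z : ↥K => (z : MulAut Q)) hn
      simpa using this
    have hδ : ∀ x : Q, (α ^ (p ^ n)) (Subgroup.inclusion hQP x) = Subgroup.inclusion hQP x := by
      intro x
      rw [pow_apply_of_extends hQP k α hkα, hkn]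
      rfl
    have hδA : α ^ (p ^ n) ∈ F.autGroup P := (F.autGroup P).pow_mem hα _
    have hδs : α ^ (p ^ n) ∈ stabChain (F.autGroup P) (chainQ (P := P) Q) 2 hAinv := by
      refine ⟨hδA, fun i hi x hx => ?_⟩
      match i, hi, hx with
      | 0, _, hx =>
        have hxQ : (x : Ω) ∈ Q := Subgroup.mem_subgroupOf.mp hx
        have := hδ ⟨x, hxQ⟩
        have e : Subgroup.inclusion hQP ⟨(x : Ω), hxQ⟩ = x := Subtype.ext rfl
        rw [e] at this
        rw [this, inv_mul_cancel]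
        exact Subgroup.one_mem _
      | 1, _, hx =>
        show x⁻¹ * (α ^ (p ^ n)) x ∈ Q.subgroupOf P
        rw [Subgroup.mem_subgroupOf]
        apply hcenQ
        refine ⟨hPS (x⁻¹ * (α ^ (p ^ n)) x).2, ?_⟩
        show _ ∈ Subgroup.centralizer (Q : Set Ω)
        rw [Subgroup.mem_centralizer_iff]
        intro q hq
        have hxq : (x : Ω) * q * (x : Ω)⁻¹ ∈ Q := by
          have := (Subgroup.mem_normalizer_iff.mp (hNQ (hPS x.2))) q
          exact this.mp hq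
        have h4 := hδ ⟨(x : Ω) * q * (x : Ω)⁻¹, hxq⟩
        have h5 := hδ ⟨q, hq⟩
        have e1 : Subgroup.inclusion hQP ⟨(x : Ω) * q * (x : Ω)⁻¹, hxq⟩ =
            x * Subgroup.inclusion hQP ⟨q, hq⟩ * x⁻¹ := Subtype.ext rfl
        rw [e1, map_mul, map_mul, map_inv, h5] at h4
        have h6 := congrArg (fun z : ↥P => (z : Ω)) h4
        simp only [Subgroup.coe_mul, Subgroup.coe_inv, Subgroup.coe_inclusion] at h6
        show q * ((x : Ω)⁻¹ * (((α ^ (p ^ n)) x : P) : Ω)) = (x : Ω)⁻¹ * (((α ^ (p ^ n)) x : P) : Ω) * q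
        calc q * ((x : Ω)⁻¹ * (((α ^ (p ^ n)) x : P) : Ω))
            = (x : Ω)⁻¹ * ((x : Ω) * q * (x : Ω)⁻¹) * (((α ^ (p ^ n)) x : P) : Ω) := by group
          _ = (x : Ω)⁻¹ * ((((α ^ (p ^ n)) x : P) : Ω) * q * (((α ^ (p ^ n)) x : P) : Ω)⁻¹) *
                (((α ^ (p ^ n)) x : P) : Ω) := by rw [h6]
          _ = (x : Ω)⁻¹ * (((α ^ (p ^ n)) x : P) : Ω) * q := by group
    obtain ⟨m, hm⟩ := hstabp ⟨α ^ (p ^ n), hδs⟩
    refine ⟨n + m, ?_⟩
    apply Subtype.ext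
    have h7 := congrArg (fun z : ↥(stabChain (F.autGroup P) (chainQ (P := P) Q) 2 hAinv) =>
      (z : MulAut P)) hm
    simp only [Subgroup.coe_pow, Subgroup.coe_one] at h7
    show α ^ (p ^ (n + m)) = 1
    rw [pow_add, pow_mul, h7]
  have hBA : resK hQP (F.autGroup P) K ≤ F.autGroup P := fun α h => h.1
  have hnormal : ((resK hQP (F.autGroup P) K).subgroupOf (F.autGroup P)).Normal := by
    refine ⟨fun n hn a => ?_⟩
    exact Subgroup.mem_subgroupOf.mpr (hBnorm a a.2 n (Subgroup.mem_subgroupOf.mp hn))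
  have hle := le_pCore hnormal hBp.comap_subtype
  have hBInn : resK hQP (F.autGroup P) K ≤ Inn P := by
    intro β hβ
    rw [← hrad.2]
    exact ⟨⟨β, hBA hβ⟩, hle (Subgroup.mem_subgroupOf.mpr hβ), rfl⟩
  -- conclusion
  have hsc := stronglyClosed_preimK F hQ K hKn
  have hNQ₁ := le_normalizer_of_stronglyClosed F hsc
  have hPQ₁S : P ⊔ preimK S Q K ≤ S := sup_le hPS (preimK_le S Q K)
  have := finite_of_le hPQ₁S
  by_contra hnot
  have hne : P ≠ P ⊔ preimK S Q K := fun h => hnot (by rw [h]; exact le_sup_right)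
  obtain ⟨g, hgN, hgP⟩ := lt_normalizerIn_of_ne (hS.to_le hPQ₁S) le_sup_left hne
  have hg : g ∈ ((P ⊔ preimK S Q K : Subgroup Ω) : Set Ω) := hgN.1
  rw [Subgroup.coe_mul_of_left_le_normalizer_right P (preimK S Q K) (hPS.trans hNQ₁)] at hg
  obtain ⟨y, hy, x, hx, hyx⟩ := hg
  have hxN : x ∈ Subgroup.normalizer (P : Set Ω) := by
    have e : x = y⁻¹ * g := by rw [← hyx]; group
    rw [e]
    exact Subgroup.mul_mem _ (Subgroup.inv_mem _ (Subgroup.le_normalizer hy)) hgN.2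
  have hxS : x ∈ S := preimK_le S Q K hx
  apply hgP
  have hxP : x ∈ P := by
    apply mem_of_normalizerMonoidHom_mem_inn hcenP hPS hxS hxN
    apply hBInn
    obtain ⟨-, α, hα, hαe⟩ := hx
    refine ⟨autInducedBy_le_autGroup F hPS
      ((mem_autInducedBy_iff S P _).mpr ⟨x, hxS, fun _ => rfl⟩), α, hα, fun q => ?_⟩
    apply Subtype.ext
    show x * (q : Ω) * x⁻¹ = ((α q : Q) : Ω)
    exact (hαe q).symm
  rw [← hyx]
  exact P.mul_mem hy hxP

end Cfsg.Agent.Lib.Helper7.ConstrNormal
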