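import Mathlib
import Cfsg.Prelude.Def_FusionSystem
import Cfsg.Agent.Lib.Helper7.FusionSat4

set_option autoImplicit false

namespace Cfsg.Agent.Lib.Helper7

open Cfsg Cfsg.FusionSystem

variable {Ω : Type*} [Group Ω] {S : Subgroup Ω}

theorem isFullyCentralized_sub [Finite S] (p : ℕ) [Fact p.Prime] (hS : IsPGroup p S)
    (F : FusionSystem S) (hF : F.IsSaturated p) {T : Subgroup Ω} (hT : F.StronglyClosed T)
    (F' : FusionSystem T) (hsub : F'.IsSubsystemOf F) {Q : Subgroup Ω} (hQT : Q ≤ T)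
    (hQ : F.IsFullyCentralized Q) : F'.IsFullyCentralized Q := by
  refine ⟨hQT, fun R hc => ?_⟩
  obtain ⟨ρ, hρ, hr⟩ := hc
  have hρF := hsub Q hρ
  have hrec : F.IsReceptive Q := ((isSaturated_iff_sylow_extension p hS F).mp hF).2 Q hQ
  obtain ⟨φ, hφ, hφr⟩ := isConj_symm F ⟨ρ, hρF, hr⟩
  obtain ⟨ψ, hψ, hψφ⟩ := hrec.2 R φ hφ hφr
  have hTS : T ≤ S := hT.1
  have hle : centralizerIn T R ≤ extender S R φ :=
    (inf_le_inf_right _ hTS).trans (centralizerIn_le_extender S R φ)
  have hRext : R ≤ extender S R φ := le_extender F hφ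
  have hres := fs_restrict_mem F hle hψ
  haveI : Finite ↥(centralizerIn T Q) := finite_of_le ((inf_le_left : centralizerIn T Q ≤ T).trans hTS)
  have hmem : ∀ c : centralizerIn T R, ψ (Subgroup.inclusion hle c) ∈ centralizerIn T Q := by
    intro c
    refine ⟨hT.2 _ inf_le_left _ hres c, ?_⟩
    show ψ (Subgroup.inclusion hle c) ∈ Subgroup.centralizer (Q : Set Ω)
    rw [Subgroup.mem_centralizer_iff]
    intro y hy
    rw [← hφr] at hy
    obtain ⟨x, rfl⟩ := hy
    rw [← hψφ x x.2 (hRext x.2)]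
    have hcx : (x : Ω) * c = c * x := (Subgroup.mem_centralizer_iff.mp c.2.2) x x.2
    have e : (⟨(x : Ω), hRext x.2⟩ : extender S R φ) * Subgroup.inclusion hle c =
        Subgroup.inclusion hle c * ⟨(x : Ω), hRext x.2⟩ := Subtype.ext hcx
    rw [← map_mul, ← map_mul, e]
  apply Nat.card_le_card_of_injective (fun c => (⟨ψ (Subgroup.inclusion hle c), hmem c⟩ : centralizerIn T Q))
  intro a b hab
  have := congrArg Subtype.val hab
  have h2 := F.injective_of_mem hψ this
  exact Subgroup.inclusion_injective hle h2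

theorem isFullyNormalized_sub [Finite S] (p : ℕ) [Fact p.Prime] (hS : IsPGroup p S)
    (F : FusionSystem S) (hF : F.IsSaturated p) {T : Subgroup Ω} (hT : F.StronglyClosed T)
    (F' : FusionSystem T) (hsub : F'.IsSubsystemOf F) {Q : Subgroup Ω} (hQT : Q ≤ T)
    (hQ : F.IsFullyNormalized Q) : F'.IsFullyNormalized Q := by
  refine ⟨hQT, fun R hc => ?_⟩
  obtain ⟨ρ, hρ, hr⟩ := hc
  have hρF := hsub Q hρ
  obtain ⟨R₀, hc₀, hFA₀, hRec₀⟩ := hF Q hQ.1
  obtain ⟨hFA, hRec⟩ := isFullyAutomized_isReceptive_of_isFullyNormalized p hS F hQ hFA₀ hRec₀ hc₀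
  have hcRQ : F.IsConj R Q := isConj_symm F ⟨ρ, hρF, hr⟩
  obtain ⟨φ, hφ, hφN, -⟩ := hom_normalizer_of_fullyAutomized_receptive p hS F Q R hFA hRec hcRQ
  have hTS : T ≤ S := hT.1
  have hle : normalizerIn T R ≤ normalizerIn S R := inf_le_inf_right _ hTS
  have hres := fs_restrict_mem F hle hφ
  haveI : Finite ↥(normalizerIn T Q) := finite_of_le ((inf_le_left : normalizerIn T Q ≤ T).trans hTS)
  have hmem : ∀ c : normalizerIn T R, φ (Subgroup.inclusion hle c) ∈ normalizerIn T Q := by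
    intro c
    exact ⟨hT.2 _ inf_le_left _ hres c, (hφN _).2⟩
  apply Nat.card_le_card_of_injective (fun c => (⟨φ (Subgroup.inclusion hle c), hmem c⟩ : normalizerIn T Q))
  intro a b hab
  have := congrArg Subtype.val hab
  have h2 := F.injective_of_mem hφ this
  exact Subgroup.inclusion_injective hle h2

end Cfsg.Agent.Lib.Helper7
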