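import Mathlib
import Cfsg.Prelude.Def_FusionSystem
import Cfsg.Prelude.Def_FusionComponents
import Cfsg.Agent.Lib.Helper7.FusionSubFully

set_option autoImplicit false

namespace Cfsg.Agent.Lib.Helper7

open Cfsg Cfsg.FusionSystem

variable {Ω : Type*} [Group Ω]

theorem le_of_isSubnormalIn {T S : Subgroup Ω} (E : FusionSystem T) (F : FusionSystem S)
    (p : ℕ) (hE : E.IsSubnormalIn F p) : T ≤ S := by
  induction hE with
  | refl F p => exact le_rfl
  | step _ h2 ih => exact ih.trans h2.1.2.2.2.1.1

theorem isFullyNormalized_of_isSubnormalIn {T S : Subgroup Ω} (E : FusionSystem T) (F : FusionSystem S)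
    (p : ℕ) (hE : E.IsSubnormalIn F p) :
    Fact p.Prime → Finite S → IsPGroup p S → F.IsSaturated p → ∀ P : Subgroup Ω, P ≤ T →
      F.IsFullyNormalized P → E.IsFullyNormalized P := by
  induction hE with
  | refl F p => intro _ _ _ _ P _ hP; exact hP
  | step hED hDF ih =>
    rename_i T U S E D F p
    intro hp hfin hS hF P hPT hP
    obtain ⟨⟨hDsat, -, hDinv⟩, -⟩ := hDF
    have hU : F.StronglyClosed U := hDinv.2.1
    have hUS := hU.1
    haveI : Finite U := finite_of_le hUS
    have hTU : T ≤ U := le_of_isSubnormalIn E D p hED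
    have hPD : D.IsFullyNormalized P :=
      isFullyNormalized_sub p hS F hF hU D hDinv.1 (hPT.trans hTU) hP
    exact ih hp inferInstance (hS.to_le hUS) hDsat P hPT hPD

end Cfsg.Agent.Lib.Helper7
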