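import Mathlib
import Cfsg.Prelude.Def_FusionSystem
import Cfsg.Prelude.Def_FusionComponents
import Cfsg.Agent.Lib.Helper7.ConstrNormalA
import Cfsg.Agent.Lib.Helper7.ConstrNormalB
import Cfsg.Agent.Lib.Helper7.CNR4
import Cfsg.Agent.Lib.Helper7.FusionSubnormal
import Cfsg.Agent.Lib.Helper7.FusionCentric

set_option autoImplicit false

namespace Cfsg.Agent.Lib.Helper7.ConstrNormal

open Cfsg Cfsg.FusionSystem Cfsg.Agent.Lib.Helper7

variable {Ω : Type*} [Group Ω] {S : Subgroup Ω}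

theorem isNormal_preimK [Finite S] (p : ℕ) [Fact p.Prime] (hS : IsPGroup p S)
    (F : FusionSystem S) (hF : F.IsSaturated p) {Q : Subgroup Ω} (hQ : F.IsNormal Q)
    (hQc : F.IsCentric Q) (K : Subgroup (MulAut Q)) (hKp : IsPGroup p K)
    (hKn : ∀ β ∈ F.autGroup Q, ∀ α ∈ K, β * α * β⁻¹ ∈ K) : F.IsNormal (preimK S Q K) := by
  rw [isNormal_iff_stronglyClosed_le_centric_radical p hS F hF]
  exact ⟨stronglyClosed_preimK F hQ K hKn, fun P hcen hrad =>
    preimK_le_of_centric_radical p hS F hQ hQc K hKp hKn hcen hrad⟩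

/-- `O_p(F)` is radical when it is centric. -/
theorem isRadical_core [Finite S] (p : ℕ) [Fact p.Prime] (hS : IsPGroup p S)
    (F : FusionSystem S) (hF : F.IsSaturated p) (hQc : F.IsCentric F.core) : F.IsRadical p F.core := by
  have hQ := isNormal_core F
  have hQS := hQ.1
  have := finite_of_le hQS
  have hQp : IsPGroup p ↥F.core := hS.to_le hQS
  have hKp : IsPGroup p ↥(pCoreOf p (F.autGroup F.core)) := (pCore_isPGroup p _).map _
  have hKn : ∀ β ∈ F.autGroup F.core, ∀ α ∈ pCoreOf p (F.autGroup F.core),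
      β * α * β⁻¹ ∈ pCoreOf p (F.autGroup F.core) := by
    rintro β hβ _ ⟨a, ha, rfl⟩
    exact ⟨⟨β, hβ⟩ * a * ⟨β, hβ⟩⁻¹, (pCore_normal p _).conj_mem a ha ⟨β, hβ⟩, rfl⟩
  have hQ₁ := isNormal_preimK p hS F hF hQ hQc _ hKp hKn
  have hQ₁le : preimK S F.core (pCoreOf p (F.autGroup F.core)) ≤ F.core := le_sSup hQ₁
  refine ⟨hQS, ?_⟩
  show pCoreOf p (F.autGroup F.core) = Inn ↥F.core
  apply le_antisymm
  · rintro _ ⟨a, ha, rfl⟩
    obtain ⟨R, hc, hFA, -⟩ := hF F.core hQS
    have hRQ : R = F.core := eq_of_isConj_of_isNormal F hQ hc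
    subst hRQ
    obtain ⟨-, Syl, hSyl⟩ := hFA
    have h1 : a ∈ (Syl : Subgroup ↥(F.autGroup F.core)) := pCore_le_sylow Syl ha
    rw [hSyl, Subgroup.mem_subgroupOf] at h1
    obtain ⟨s, hs, hse⟩ := (mem_autInducedBy_iff S F.core _).mp h1
    have hsQ₁ : s ∈ preimK S F.core (pCoreOf p (F.autGroup F.core)) :=
      ⟨hs, (a : MulAut ↥F.core), ⟨a, ha, rfl⟩, hse⟩
    have hsQ := hQ₁le hsQ₁
    refine ⟨⟨s, hsQ⟩, ?_⟩
    ext x
    rw [MulAut.conj_apply]
    exact (hse x).symm
  · have hInnA : Inn ↥F.core ≤ F.autGroup F.core := inn_le_autGroup F hQS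
    have hn : ((Inn ↥F.core).subgroupOf (F.autGroup F.core)).Normal := by
      have := inn_normal ↥F.core
      infer_instance
    have hle := le_pCore hn (isPGroup_inn hQp).comap_subtype
    intro α hα
    exact ⟨⟨α, hInnA hα⟩, hle (Subgroup.mem_subgroupOf.mpr hα), rfl⟩

/-- A normal subsystem of a constrained system is constrained. -/
theorem isConstrained_of_isNormalIn [Finite S] (p : ℕ) [Fact p.Prime] (hS : IsPGroup p S)
    (F : FusionSystem S) (hF : F.IsConstrained p) {T : Subgroup Ω} (E : FusionSystem T)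
    (hE : E.IsNormalIn F p) : E.IsConstrained p := by
  obtain ⟨hFsat, Q₀, hQ₀n, hQ₀c⟩ := hF
  have hEsat : E.IsSaturated p := hE.1.1
  have hsub : E.IsSubsystemOf F := hE.1.2.2.1
  have hT : F.StronglyClosed T := hE.1.2.2.2.1
  have hQ := isNormal_core F
  have hQ₀le : Q₀ ≤ F.core := le_sSup hQ₀n
  have hQc : F.IsCentric F.core := isCentric_of_le F hQ₀c hQ₀le hQ.1
  have hrad := isRadical_core p hS F hFsat hQc
  refine ⟨hEsat, F.core ⊓ T, isNormal_inf_sub p hS F E hEsat hsub hT hQ, ?_⟩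
  by_contra h
  exact (centric_meet_not_centric p hS F hFsat E hE F.core hQc h).2 hrad

theorem isConstrained_of_isSubnormalIn {T S : Subgroup Ω} (E : FusionSystem T) (F : FusionSystem S)
    (p : ℕ) (hE : E.IsSubnormalIn F p) :
    Fact p.Prime → Finite S → IsPGroup p S → F.IsConstrained p → E.IsConstrained p := by
  induction hE with
  | refl F p => intro _ _ _ h; exact h
  | step hED hDF ih =>
    rename_i T U S E D F p
    intro hp hfin hS hF
    have hU : F.StronglyClosed U := hDF.1.2.2.2.1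
    have hUS := hU.1
    have : Finite U := finite_of_le hUS
    exact ih hp inferInstance (hS.to_le hUS) (isConstrained_of_isNormalIn p hS F hF D hDF)

end Cfsg.Agent.Lib.Helper7.ConstrNormal
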