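import Mathlib
import Cfsg.Prelude.Def_FusionSystem
import Cfsg.Prelude.Def_FusionComponents
import Cfsg.Agent.Lib.Helper7.SolvableConstrained

set_option autoImplicit false

namespace Cfsg.Agent.Lib.Helper7

open Cfsg Cfsg.FusionSystem
open scoped commutatorElement

variable {Ω : Type*} [Group Ω] {S : Subgroup Ω}

/-- an `ℕ`-indexed series from `A` to `B` of strongly closed subgroups with abelian quotients -/
def SerN (F : FusionSystem S) (A B : Subgroup Ω) : Prop :=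
  ∃ (n : ℕ) (f : ℕ → Subgroup Ω), f 0 = A ∧ f n = B ∧ (∀ i, i < n → f i ≤ f (i + 1)) ∧
    (∀ i, i ≤ n → F.StronglyClosed (f i)) ∧ ∀ i, i < n → ⁅f (i + 1), f (i + 1)⁆ ≤ f i

theorem serN_bot_top_iff (F : FusionSystem S) :
    SerN F ⊥ S ↔ ∃ (n : ℕ) (T : Fin (n + 1) → Subgroup Ω), T 0 = ⊥ ∧ T (Fin.last n) = S ∧
      Monotone T ∧ (∀ i, F.StronglyClosed (T i)) ∧
      ∀ i : Fin n, ⁅T i.succ, T i.succ⁆ ≤ T (Fin.castSucc i) := by
  constructor
  · rintro ⟨n, f, h0, hn, hmono, hsc, hab⟩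
    refine ⟨n, fun i => f i.val, h0, hn, ?_, fun i => hsc _ (by omega), fun i => hab _ i.2⟩
    rw [Fin.monotone_iff_le_succ]
    intro i
    exact hmono _ i.2
  · rintro ⟨n, T, h0, hlast, hmono, hsc, hab⟩
    refine ⟨n, fun i => if h : i ≤ n then T ⟨i, by omega⟩ else S, ?_, ?_, ?_, ?_, ?_⟩
    · simp only [Nat.zero_le, dite_true]; exact h0
    · simp only [le_refl, dite_true]; exact hlast
    · intro i hi
      have h1 : i ≤ n := by omega
      have h2 : i + 1 ≤ n := by omega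
      simp only [h1, h2, dite_true]
      exact hmono (by simp [Fin.le_def])
    · intro i hi
      simp only [hi, dite_true]
      exact hsc _
    · intro i hi
      have h1 : i ≤ n := by omega
      have h2 : i + 1 ≤ n := by omega
      simp only [h1, h2, dite_true]
      exact hab ⟨i, hi⟩

theorem SerN.trans {F : FusionSystem S} {A B C : Subgroup Ω} (h₁ : SerN F A B) (h₂ : SerN F B C) :
    SerN F A C := by
  obtain ⟨n, f, hf0, hfn, hfm, hfs, hfa⟩ := h₁
  obtain ⟨m, g, hg0, hgm, hgm', hgs, hga⟩ := h₂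
  refine ⟨n + m, fun i => if i ≤ n then f i else g (i - n), ?_, ?_, ?_, ?_, ?_⟩
  · simp only [Nat.zero_le, if_true]; exact hf0
  · by_cases hm : m = 0
    · subst hm
      simp only [Nat.add_zero, le_refl, if_true]
      rw [hfn, ← hg0, hgm]
    · have : ¬ n + m ≤ n := by omega
      simp only [this, if_false, Nat.add_sub_cancel_left]
      exact hgm
  · intro i hi
    by_cases h1 : i + 1 ≤ n
    · have h2 : i ≤ n := by omega
      simp only [h1, h2, if_true]
      exact hfm i (by omega)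
    · by_cases h2 : i ≤ n
      · have h3 : i = n := by omega
        subst h3
        simp only [le_refl, if_true, h1, if_false, Nat.add_sub_cancel_left]
        rw [hfn, ← hg0]
        exact hgm' 0 (by omega)
      · simp only [h1, h2, if_false]
        have : i + 1 - n = (i - n) + 1 := by omega
        rw [this]
        exact hgm' _ (by omega)
  · intro i hi
    by_cases h1 : i ≤ n
    · simp only [h1, if_true]; exact hfs i h1
    · simp only [h1, if_false]; exact hgs _ (by omega)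
  · intro i hi
    by_cases h1 : i + 1 ≤ n
    · have h2 : i ≤ n := by omega
      simp only [h1, h2, if_true]
      exact hfa i (by omega)
    · by_cases h2 : i ≤ n
      · have h3 : i = n := by omega
        subst h3
        simp only [le_refl, if_true, h1, if_false, Nat.add_sub_cancel_left]
        rw [hfn, ← hg0]
        exact hga 0 (by omega)
      · simp only [h1, h2, if_false]
        have : i + 1 - n = (i - n) + 1 := by omega
        rw [this]
        exact hga _ (by omega)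

theorem isSolvableSystem_iff_serN [Finite S] (p : ℕ) [Fact p.Prime] (hS : IsPGroup p S)
    (F : FusionSystem S) (hF : F.IsSaturated p) : F.IsSolvableSystem ↔ SerN F ⊥ S := by
  rw [serN_bot_top_iff]
  exact isSolvableSystem_iff_series p hS F hF

variable {Ω' : Type*} [Group Ω'] {S' : Subgroup Ω'}

theorem imageAlong_mono (θ : S →* Ω') {A B : Subgroup Ω} (h : A ≤ B) : imageAlong θ A ≤ imageAlong θ B := by
  intro y hy
  obtain ⟨s, hs, rfl⟩ := (mem_imageAlong θ A y).mp hy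
  exact (mem_imageAlong θ B _).mpr ⟨s, h hs, rfl⟩

theorem SerN.image {F : FusionSystem S} (T₀ : Subgroup Ω) (θ : S →* Ω') (D : FusionSystem S')
    (hD : F.IsFactorSystem T₀ θ D) (h : SerN F ⊥ S) : SerN D ⊥ S' := by
  obtain ⟨n, f, hf0, hfn, hfm, hfs, hfa⟩ := h
  refine ⟨n, fun i => imageAlong θ (f i), ?_, ?_, fun i hi => imageAlong_mono θ (hfm i hi),
    fun i hi => stronglyClosed_image F T₀ θ D hD (hfs i hi), fun i hi => ?_⟩
  · show imageAlong θ (f 0) = ⊥
    rw [hf0, eq_bot_iff]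
    intro y hy
    obtain ⟨s, hs, rfl⟩ := (mem_imageAlong θ ⊥ y).mp hy
    have : s = 1 := Subtype.ext (Subgroup.mem_bot.mp hs)
    rw [this, map_one]; exact Subgroup.one_mem _
  · show imageAlong θ (f n) = S'
    rw [hfn, ← hD.2.2.1]
    ext y
    constructor
    · intro hy
      obtain ⟨s, -, rfl⟩ := (mem_imageAlong θ S y).mp hy
      exact ⟨s, rfl⟩
    · rintro ⟨s, rfl⟩
      exact (mem_imageAlong θ S _).mpr ⟨s, s.2, rfl⟩
  · show ⁅imageAlong θ (f (i + 1)), imageAlong θ (f (i + 1))⁆ ≤ imageAlong θ (f i)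
    rw [Subgroup.commutator_le]
    intro a' ha' b' hb'
    obtain ⟨a, ha, rfl⟩ := (mem_imageAlong θ _ a').mp ha'
    obtain ⟨b, hb, rfl⟩ := (mem_imageAlong θ _ b').mp hb'
    rw [← map_commutatorElement]
    refine (mem_imageAlong θ _ _).mpr ⟨⁅a, b⁆, ?_, rfl⟩
    exact hfa i hi (Subgroup.commutator_mem_commutator ha hb)

theorem SerN.inf_sub {F : FusionSystem S} {T : Subgroup Ω} (E : FusionSystem T) (hEF : E.IsSubsystemOf F)
    (hTS : T ≤ S) (h : SerN F ⊥ S) : SerN E ⊥ T := by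
  obtain ⟨n, f, hf0, hfn, hfm, hfs, hfa⟩ := h
  refine ⟨n, fun i => f i ⊓ T, ?_, ?_, fun i hi => inf_le_inf_right T (hfm i hi), fun i hi => ?_,
    fun i hi => ?_⟩
  · show f 0 ⊓ T = ⊥
    rw [hf0, bot_inf_eq]
  · show f n ⊓ T = T
    rw [hfn, inf_eq_right]; exact hTS
  · refine ⟨inf_le_right, fun R hR φ hφ x => ⟨?_, (E.le_of_mem hφ).2 x⟩⟩
    exact (hfs i hi).2 R (hR.trans inf_le_left) φ (hEF R hφ) x
  · show ⁅f (i + 1) ⊓ T, f (i + 1) ⊓ T⁆ ≤ f i ⊓ T
    apply le_inf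
    · exact (Subgroup.commutator_mono inf_le_left inf_le_left).trans (hfa i hi)
    · rw [Subgroup.commutator_le]
      intro a ha b hb
      rw [commutatorElement_def]
      exact T.mul_mem (T.mul_mem (T.mul_mem ha.2 hb.2) (T.inv_mem ha.2)) (T.inv_mem hb.2)

theorem SerN.preimage [Finite S] (p : ℕ) [Fact p.Prime] (hS : IsPGroup p S)
    (F : FusionSystem S) (hF : F.IsSaturated p) (T₀ : Subgroup Ω) (hT₀ : F.StronglyClosed T₀)
    (θ : S →* Ω') (D : FusionSystem S') (hD : F.IsFactorSystem T₀ θ D) (h : SerN D ⊥ S') :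
    SerN F T₀ S := by
  obtain ⟨n, g, hg0, hgn, hgm, hgs, hga⟩ := h
  have hker := hD.2.1
  have hrange := hD.2.2.1
  refine ⟨n, fun i => preimageAlong θ (g i), ?_, ?_, fun i hi => preimageAlong_mono θ (hgm i hi),
    fun i hi => stronglyClosed_preimage p hS F hF T₀ hT₀ θ D hD (hgs i hi), fun i hi => ?_⟩
  · show preimageAlong θ (g 0) = T₀
    rw [hg0]
    ext x
    rw [mem_preimageAlong]
    constructor
    · rintro ⟨hx, h1⟩
      exact (hker _).mp (Subgroup.mem_bot.mp h1)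
    · intro hx
      exact ⟨hT₀.1 hx, Subgroup.mem_bot.mpr ((hker ⟨x, hT₀.1 hx⟩).mpr hx)⟩
  · show preimageAlong θ (g n) = S
    rw [hgn]
    apply le_antisymm (preimageAlong_le θ _)
    intro x hx
    exact (mem_preimageAlong θ _ _).mpr ⟨hx, hrange ▸ ⟨⟨x, hx⟩, rfl⟩⟩
  · show ⁅preimageAlong θ (g (i + 1)), preimageAlong θ (g (i + 1))⁆ ≤ preimageAlong θ (g i)
    rw [Subgroup.commutator_le]
    intro a ha b hb
    obtain ⟨haS, ha'⟩ := (mem_preimageAlong θ _ a).mp ha
    obtain ⟨hbS, hb'⟩ := (mem_preimageAlong θ _ b).mp hb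
    have hcS : ⁅a, b⁆ ∈ S := by
      rw [commutatorElement_def]
      exact S.mul_mem (S.mul_mem (S.mul_mem haS hbS) (S.inv_mem haS)) (S.inv_mem hbS)
    refine (mem_preimageAlong θ _ _).mpr ⟨hcS, ?_⟩
    have h1 : θ ⟨⁅a, b⁆, hcS⟩ = ⁅θ ⟨a, haS⟩, θ ⟨b, hbS⟩⁆ := by
      rw [← map_commutatorElement]; rfl
    rw [h1]
    exact hga i hi (Subgroup.commutator_mem_commutator ha' hb')

/-- the image of a subgroup of `T` under an automorphism of `T` -/
def autImage {T : Subgroup Ω} (α : MulAut T) (U : Subgroup Ω) : Subgroup Ω :=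
  (U.subgroupOf T).map (T.subtype.comp α.toMonoidHom)

theorem mem_autImage {T : Subgroup Ω} (α : MulAut T) (U : Subgroup Ω) (y : Ω) :
    y ∈ autImage α U ↔ ∃ x : T, (x : Ω) ∈ U ∧ ((α x : T) : Ω) = y := by
  unfold autImage
  constructor
  · rintro ⟨x, hx, rfl⟩
    exact ⟨x, Subgroup.mem_subgroupOf.mp hx, rfl⟩
  · rintro ⟨x, hx, rfl⟩
    exact ⟨x, Subgroup.mem_subgroupOf.mpr hx, rfl⟩

theorem autImage_le {T : Subgroup Ω} (α : MulAut T) (U : Subgroup Ω) : autImage α U ≤ T := by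
  intro y hy
  obtain ⟨x, -, rfl⟩ := (mem_autImage α U y).mp hy
  exact (α x).2

theorem stronglyClosed_autImage {F : FusionSystem S} {T : Subgroup Ω} (E : FusionSystem T)
    (hE : E.IsInvariantIn F) {U : Subgroup Ω} (hU : E.StronglyClosed U) (α : MulAut T)
    (hα : α ∈ F.autGroup T) : E.StronglyClosed (autImage α U) := by
  obtain ⟨hEF, hT, hinv, hfrat⟩ := hE
  refine ⟨autImage_le α U, fun P hP φ hφ x => ?_⟩
  have hPT : P ≤ T := hP.trans (autImage_le α U)
  obtain ⟨χ, hχ, hχ'⟩ := hinv P hPT φ hφ α⁻¹ (Subgroup.inv_mem _ hα)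
  have hle : (P.subgroupOf T).map (T.subtype.comp (α⁻¹).toMonoidHom) ≤ U := by
    rintro _ ⟨y, hy, rfl⟩
    obtain ⟨u, hu, hu'⟩ := (mem_autImage α U _).mp (hP (Subgroup.mem_subgroupOf.mp hy))
    have : y = α u := Subtype.ext hu'.symm
    show ((α⁻¹ y : T) : Ω) ∈ U
    rw [this, MulAut.inv_apply_self]
    exact hu
  have hφT := (E.le_of_mem hφ).2 x
  have hαx : ((α⁻¹ ⟨x, hPT x.2⟩ : T) : Ω) ∈ (P.subgroupOf T).map (T.subtype.comp (α⁻¹).toMonoidHom) :=
    ⟨⟨x, hPT x.2⟩, Subgroup.mem_subgroupOf.mpr x.2, rfl⟩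
  have h1 := hχ' x hφT hαx
  have h2 := hU.2 _ hle χ hχ ⟨_, hαx⟩
  rw [h1] at h2
  refine (mem_autImage α U _).mpr ⟨α⁻¹ ⟨φ x, hφT⟩, h2, ?_⟩
  rw [MulAut.apply_inv_self]

theorem SerN.of_invariant [Finite S] {F : FusionSystem S} {T : Subgroup Ω} (E : FusionSystem T)
    (hE : E.IsInvariantIn F) (h : SerN E ⊥ T) : SerN F ⊥ T := by
  obtain ⟨n, f, hf0, hfn, hfm, hfs, hfa⟩ := h
  have hTS := hE.2.1.1
  obtain ⟨hEF, hT, hinv, hfrat⟩ := id hE
  let g : ℕ → Subgroup Ω := fun i => ⨅ α : F.autGroup T, autImage (α : MulAut T) (f i)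
  have hgmem : ∀ i y, y ∈ g i ↔ ∀ α : F.autGroup T, y ∈ autImage (α : MulAut T) (f i) := fun i y =>
    Subgroup.mem_iInf
  have hgT : ∀ i, g i ≤ T := fun i => (iInf_le _ (1 : F.autGroup T)).trans (autImage_le _ _)
  refine ⟨n, g, ?_, ?_, ?_, ?_, ?_⟩
  · rw [eq_bot_iff]
    intro y hy
    have := (hgmem 0 y).mp hy 1
    obtain ⟨x, hx, rfl⟩ := (mem_autImage _ _ _).mp this
    rw [hf0] at hx
    have : x = 1 := Subtype.ext (Subgroup.mem_bot.mp hx)
    rw [this, map_one]; exact Subgroup.one_mem _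
  · apply le_antisymm (hgT n)
    intro y hy
    rw [hgmem]
    intro α
    refine (mem_autImage _ _ _).mpr ⟨(α : MulAut T)⁻¹ ⟨y, hy⟩, ?_, ?_⟩
    · rw [hfn]; exact ((α : MulAut T)⁻¹ ⟨y, hy⟩).2
    · rw [MulAut.apply_inv_self]
  · intro i hi y hy
    rw [hgmem] at hy ⊢
    intro α
    obtain ⟨x, hx, hxy⟩ := (mem_autImage _ _ _).mp (hy α)
    exact (mem_autImage _ _ _).mpr ⟨x, hfm i hi hx, hxy⟩
  · intro i hi
    -- invariance under `Aut_F(T)`
    have hgE : E.StronglyClosed (g i) := by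
      refine ⟨hgT i, fun P hP φ hφ x => ?_⟩
      rw [hgmem]
      intro α
      exact (stronglyClosed_autImage E hE (hfs i hi) α α.2).2 P
        (hP.trans (iInf_le _ α)) φ hφ x
    have hginv : ∀ β ∈ F.autGroup T, ∀ y : T, (y : Ω) ∈ g i → ((β y : T) : Ω) ∈ g i := by
      intro β hβ y hy
      rw [hgmem] at hy ⊢
      intro α
      have := hy (⟨β, hβ⟩⁻¹ * α)
      obtain ⟨x, hx, hxy⟩ := (mem_autImage _ _ _).mp this
      refine (mem_autImage _ _ _).mpr ⟨x, hx, ?_⟩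
      have e : y = ((⟨β, hβ⟩⁻¹ * α : F.autGroup T) : MulAut T) x := Subtype.ext hxy.symm
      rw [e]
      show _ = (((β * (β⁻¹ * (α : MulAut T))) x : T) : Ω)
      rw [mul_inv_cancel_left]
    refine ⟨(hgT i).trans hTS, fun P hP φ hφ x => ?_⟩
    obtain ⟨α, hα, φ₀, hφ₀, hφφ₀⟩ := hfrat P (hP.trans (hgT i)) φ hφ
    have h1 := hgE.2 P hP φ₀ hφ₀ x
    have h2 := (E.le_of_mem hφ₀).2 x
    rw [hφφ₀ x h2]
    exact hginv α hα ⟨φ₀ x, h2⟩ h1
  · intro i hi
    rw [Subgroup.commutator_le]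
    intro a ha b hb
    rw [hgmem] at ha hb ⊢
    intro α
    obtain ⟨a₀, ha₀, rfl⟩ := (mem_autImage _ _ _).mp (ha α)
    obtain ⟨b₀, hb₀, rfl⟩ := (mem_autImage _ _ _).mp (hb α)
    refine (mem_autImage _ _ _).mpr ⟨⁅a₀, b₀⁆, ?_, ?_⟩
    · exact hfa i hi (Subgroup.commutator_mem_commutator ha₀ hb₀)
    · rw [map_commutatorElement]; rfl

theorem isSolvableSystem_extension [Finite S] (p : ℕ) [Fact p.Prime] (hS : IsPGroup p S)
    (F : FusionSystem S) (hF : F.IsSaturated p) {T : Subgroup Ω} (E : FusionSystem T)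
    (hE : E.IsNormalIn F p) (θ : S →* Ω') (D : FusionSystem S') (hD : F.IsFactorSystem T θ D) :
    F.IsSolvableSystem ↔ (E.IsSolvableSystem ∧ D.IsSolvableSystem) := by
  obtain ⟨⟨hEsat, -, hEinv⟩, -⟩ := hE
  have hT : F.StronglyClosed T := hEinv.2.1
  have hTS := hT.1
  haveI : Finite T := finite_of_le hTS
  have hTp : IsPGroup p T := hS.to_le hTS
  have hDsat : D.IsSaturated p := isSaturated_of_isFactorSystem p hS F hF T hT θ D hD
  have hrange := hD.2.2.1
  haveI : Finite S' := by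
    rw [← hrange]
    exact Finite.of_surjective (fun s : S => (⟨θ s, ⟨s, rfl⟩⟩ : θ.range)) (fun ⟨_, s, rfl⟩ => ⟨s, rfl⟩)
  have hS'p : IsPGroup p S' := by
    rw [← hrange]
    exact hS.of_surjective θ.rangeRestrict θ.rangeRestrict_surjective
  rw [isSolvableSystem_iff_serN p hS F hF, isSolvableSystem_iff_serN p hTp E hEsat,
    isSolvableSystem_iff_serN p hS'p D hDsat]
  constructor
  · intro h
    exact ⟨h.inf_sub E hEinv.1 hTS, h.image T θ D hD⟩
  · rintro ⟨h₁, h₂⟩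
    exact (h₁.of_invariant E hEinv).trans (h₂.preimage p hS F hF T hT θ D hD)

end Cfsg.Agent.Lib.Helper7
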