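import Mathlib
import Cfsg.Prelude.Def_FusionSystem
import Cfsg.Prelude.Def_FusionComponents
import Cfsg.Agent.Lib.Helper7.ConstrNormalC
import Cfsg.Agent.Lib.Helper7.FactorSaturated
import Cfsg.Agent.Lib.Helper7.FactorMorphism
import Cfsg.Agent.Lib.Helper7.FusionQuasisimple
import Cfsg.Agent.Lib.Helper7.SolvableExtension

set_option autoImplicit false

namespace Cfsg.Agent.Lib.Helper7.ConstrNormal

open Cfsg Cfsg.FusionSystem Cfsg.Agent.Lib.Helper7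

variable {Ω : Type*} [Group Ω] {S : Subgroup Ω} {Ω' : Type*} [Group Ω'] {S' : Subgroup Ω'}

theorem central_fix (F : FusionSystem S) {Z : Subgroup Ω} (hZ : F.IsCentral Z) {P : Subgroup Ω}
    {φ : P →* Ω} (hφ : φ ∈ F.Hom P) (x : P) (hx : (x : Ω) ∈ Z) : φ x = x := by
  obtain ⟨ψ, hψ, hext, hfix⟩ := hZ.2 P φ hφ
  have h1 := hext x
  have h2 := hfix ⟨x, hx⟩
  have e : Subgroup.inclusion (le_sup_left : P ≤ P ⊔ Z) x =
      Subgroup.inclusion le_sup_right (⟨x, hx⟩ : Z) := Subtype.ext rfl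
  rw [e, h2] at h1
  exact h1.symm

theorem isNormal_of_isCentral (F : FusionSystem S) {Z : Subgroup Ω} (hZ : F.IsCentral Z) :
    F.IsNormal Z := by
  refine ⟨hZ.1, fun P φ hφ => ?_⟩
  obtain ⟨ψ, hψ, hext, hfix⟩ := hZ.2 P φ hφ
  refine ⟨ψ, hψ, hext, ?_⟩
  ext y
  constructor
  · rintro ⟨x, hx, rfl⟩
    have hxZ : (x : Ω) ∈ Z := Subgroup.mem_subgroupOf.mp hx
    have h2 := hfix ⟨x, hxZ⟩
    have e : Subgroup.inclusion (le_sup_right : Z ≤ P ⊔ Z) ⟨(x : Ω), hxZ⟩ = x := Subtype.ext rfl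
    rw [e] at h2
    rw [h2]
    exact hxZ
  · intro hy
    exact ⟨Subgroup.inclusion le_sup_right ⟨y, hy⟩, Subgroup.mem_subgroupOf.mpr hy, hfix ⟨y, hy⟩⟩

/-- The image of a subgroup normal in `F` is normal in a factor system. -/
theorem isNormal_image (F : FusionSystem S) (S₀ : Subgroup Ω) (hS₀ : F.StronglyClosed S₀)
    (θ : S →* Ω') (E : FusionSystem S') (hE : F.IsFactorSystem S₀ θ E) {Q : Subgroup Ω}
    (hQ : F.IsNormal Q) : E.IsNormal (imageAlong θ Q) := by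
  have hker := hE.2.1
  have hrange := hE.2.2.1
  have hθS' : ∀ s : S, θ s ∈ S' := fun s => hrange ▸ ⟨s, rfl⟩
  have hQS := hQ.1
  refine ⟨imageAlong_le θ hθS' Q, fun P' φ' hφ' => ?_⟩
  obtain ⟨hP'S', φ, hφ, hind⟩ := (hE.2.2.2 P' φ').mp hφ'
  obtain ⟨ψ, hψ, hext, hmap⟩ := hQ.2 _ φ hφ
  have hR'S' : P' ⊔ imageAlong θ Q ≤ S' := sup_le hP'S' (imageAlong_le θ hθS' Q)
  have hS₀P : S₀ ≤ preimageAlong θ P' := by
    intro z hz
    refine (mem_preimageAlong θ P' z).mpr ⟨hS₀.1 hz, ?_⟩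
    rw [(hker ⟨z, hS₀.1 hz⟩).mpr hz]
    exact P'.one_mem
  -- the preimage of `P' ⊔ Q'`
  have hReq : preimageAlong θ (P' ⊔ imageAlong θ Q) = preimageAlong θ P' ⊔ Q := by
    apply le_antisymm
    · intro x hx
      obtain ⟨hxS, hx'⟩ := (mem_preimageAlong θ _ x).mp hx
      -- the image of `P ⊔ Q`
      have him : P' ⊔ imageAlong θ Q ≤ imageAlong θ (preimageAlong θ P' ⊔ Q) := by
        apply sup_le
        · intro y hy
          obtain ⟨s, hs, hsy⟩ := exists_preimage_of_mem θ S' hrange hP'S' y hy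
          exact (mem_imageAlong θ _ y).mpr ⟨⟨s, _⟩, Subgroup.mem_sup_left hs, hsy⟩
        · exact imageAlong_mono θ le_sup_right
      obtain ⟨s, hs, hse⟩ := (mem_imageAlong θ _ _).mp (him hx')
      have h1 : θ (s⁻¹ * ⟨x, hxS⟩) = 1 := by rw [map_mul, map_inv, hse, inv_mul_cancel]
      have h2 : ((s⁻¹ * ⟨x, hxS⟩ : S) : Ω) ∈ S₀ := (hker _).mp h1
      have h3 : (s : Ω)⁻¹ * x ∈ preimageAlong θ P' ⊔ Q := Subgroup.mem_sup_left (hS₀P h2)
      have := Subgroup.mul_mem _ hs h3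
      rwa [mul_inv_cancel_left] at this
    · apply sup_le
      · exact preimageAlong_mono θ le_sup_left
      · intro x hx
        exact (mem_preimageAlong θ _ x).mpr ⟨hQS hx, Subgroup.mem_sup_right
          ((mem_imageAlong θ Q _).mpr ⟨⟨x, hQS hx⟩, hx, rfl⟩)⟩
  have hψ₁ := fs_mem_of_eq F hReq hψ
  have hR'r : P' ⊔ imageAlong θ Q ≤ θ.range := hrange ▸ hR'S'
  obtain ⟨ψ', hind'⟩ := exists_inducedAlong F S₀ hS₀ θ hker hR'r hψ₁
  have hψ'E : ψ' ∈ E.Hom (P' ⊔ imageAlong θ Q) :=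
    (hE.2.2.2 _ ψ').mpr ⟨hR'S', _, hψ₁, hind'⟩
  obtain ⟨hP₁, hφS, hPP', hi⟩ := hind
  obtain ⟨hR₁, hψS, hRR', hi'⟩ := hind'
  refine ⟨ψ', hψ'E, fun x' => ?_, ?_⟩
  · obtain ⟨s, hs, hsx⟩ := exists_preimage_of_mem θ S' hrange hP'S' x' x'.2
    have h1 := hi ⟨s, hs⟩
    have hsR : s ∈ preimageAlong θ (P' ⊔ imageAlong θ Q) := preimageAlong_mono θ le_sup_left hs
    have h2 := hi' ⟨s, hsR⟩
    have e1 : (⟨θ ⟨s, hP₁ hs⟩, hPP' ⟨s, hs⟩⟩ : P') = x' := Subtype.ext hsx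
    have e2 : (⟨θ ⟨s, hR₁ hsR⟩, hRR' ⟨s, hsR⟩⟩ : ↥(P' ⊔ imageAlong θ Q)) =
        Subgroup.inclusion le_sup_left x' := Subtype.ext hsx
    rw [e1] at h1
    rw [e2] at h2
    rw [h1, h2]
    congr 1
    apply Subtype.ext
    show ψ (Subgroup.inclusion (le_of_eq hReq) ⟨s, hsR⟩) = φ ⟨s, hs⟩
    rw [← hext ⟨s, hs⟩]
    rfl
  · ext y
    constructor
    · rintro ⟨x', hx', rfl⟩
      have hx'Q : (x' : Ω') ∈ imageAlong θ Q := Subgroup.mem_subgroupOf.mp hx'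
      obtain ⟨s, hs, hsx⟩ := (mem_imageAlong θ Q _).mp hx'Q
      have hsR : (s : Ω) ∈ preimageAlong θ (P' ⊔ imageAlong θ Q) := by
        rw [hReq]; exact Subgroup.mem_sup_right hs
      have h2 := hi' ⟨s, hsR⟩
      have e2 : (⟨θ ⟨s, hR₁ hsR⟩, hRR' ⟨s, hsR⟩⟩ : ↥(P' ⊔ imageAlong θ Q)) = x' := Subtype.ext hsx
      rw [e2] at h2
      rw [h2]
      refine (mem_imageAlong θ Q _).mpr ⟨⟨_, hψS ⟨s, hsR⟩⟩, ?_, rfl⟩
      show ψ (Subgroup.inclusion (le_of_eq hReq) ⟨s, hsR⟩) ∈ Q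
      have : ψ (Subgroup.inclusion (le_of_eq hReq) ⟨(s : Ω), hsR⟩) ∈
          (Q.subgroupOf (preimageAlong θ P' ⊔ Q)).map ψ := ⟨_, Subgroup.mem_subgroupOf.mpr hs, rfl⟩
      rw [hmap] at this
      exact this
    · intro hy
      obtain ⟨s, hs, hsy⟩ := (mem_imageAlong θ Q _).mp hy
      have hs' : (s : Ω) ∈ (Q.subgroupOf (preimageAlong θ P' ⊔ Q)).map ψ := by rw [hmap]; exact hs
      obtain ⟨t, ht, hts⟩ := hs'
      have htQ : (t : Ω) ∈ Q := Subgroup.mem_subgroupOf.mp ht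
      have htR : (t : Ω) ∈ preimageAlong θ (P' ⊔ imageAlong θ Q) := by
        rw [hReq]; exact t.2
      have h2 := hi' ⟨t, htR⟩
      refine ⟨⟨θ ⟨t, hR₁ htR⟩, hRR' ⟨t, htR⟩⟩, ?_, ?_⟩
      · rw [SetLike.mem_coe, Subgroup.mem_subgroupOf]
        exact (mem_imageAlong θ Q _).mpr ⟨⟨t, hR₁ htR⟩, htQ, rfl⟩
      · rw [h2, ← hsy]
        congr 1
        apply Subtype.ext
        show ψ (Subgroup.inclusion (le_of_eq hReq) ⟨(t : Ω), htR⟩) = s
        rw [← hts]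
        rfl


/-- The factor system of a constrained system by a central subgroup is constrained. -/
theorem isConstrained_factor_central [Finite S] (p : ℕ) [Fact p.Prime] (hS : IsPGroup p S)
    (F : FusionSystem S) (hF : F.IsConstrained p) (Z : Subgroup Ω) (hZ : F.IsCentral Z)
    (θ : S →* Ω') (E : FusionSystem S') (hE : F.IsFactorSystem Z θ E) : E.IsConstrained p := by
  obtain ⟨hFsat, Q₀, hQ₀n, hQ₀c⟩ := hF
  have hQ := isNormal_core F
  have hQS := hQ.1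
  have hQ₀le : Q₀ ≤ F.core := le_sSup hQ₀n
  have hQc : F.IsCentric F.core := isCentric_of_le F hQ₀c hQ₀le hQS
  have hrad := isRadical_core p hS F hFsat hQc
  have hZsc := stronglyClosed_of_isCentral F hZ
  have hZn := isNormal_of_isCentral F hZ
  have hZQ : Z ≤ F.core := le_sSup hZn
  have hEsat := isSaturated_of_isFactorSystem p hS F hFsat Z hZsc θ E hE
  have hQ'n := isNormal_image F Z hZsc θ E hE hQ
  have hker := hE.2.1
  have hrange := hE.2.2.1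
  have hθS' : ∀ s : S, θ s ∈ S' := fun s => hrange ▸ ⟨s, rfl⟩
  have hfin : Finite ↥S' := by
    rw [← hrange]
    exact Finite.of_surjective θ.rangeRestrict θ.rangeRestrict_surjective
  have := finite_of_le hQS
  have hQp : IsPGroup p ↥F.core := hS.to_le hQS
  have hcenQ : centralizerIn S F.core ≤ F.core := hQc.2 _ (isConj_refl F hQS)
  have hNQ := le_normalizer_of_isNormal F hQ
  refine ⟨hEsat, imageAlong θ F.core, hQ'n, imageAlong_le θ hθS' _, fun Q'' hc => ?_⟩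
  have hQ''eq := eq_of_isConj_of_isNormal E hQ'n hc
  rw [hQ''eq]
  intro c' hc'
  have hc'r : c' ∈ θ.range := by rw [hrange]; exact hc'.1
  obtain ⟨c, rfl⟩ := hc'r
  have hcN : (c : Ω) ∈ Subgroup.normalizer (F.core : Set Ω) := hNQ c.2
  -- the chain `1 ≤ Z ≤ Q`
  have hAinv : ∀ i, ∀ α ∈ F.autGroup F.core, ∀ x ∈ chainQ (P := F.core) Z i,
      α x ∈ chainQ (P := F.core) Z i := by
    intro i α hα x hx
    match i, hx with
    | 0, hx =>
      have hx' : x = 1 := Subgroup.mem_bot.mp hx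
      rw [hx', map_one]
      exact Subgroup.one_mem _
    | 1, hx =>
      have hxZ : (x : Ω) ∈ Z := Subgroup.mem_subgroupOf.mp hx
      have h1 := central_fix F hZ ((mem_autGroup_iff F hQS α).mp hα) x hxZ
      have h2 : α x = x := Subtype.ext h1
      rw [h2]
      exact hx
    | (n + 2), hx => exact Subgroup.mem_top _
  have hβA : F.core.normalizerMonoidHom ⟨c, hcN⟩ ∈ F.autGroup F.core :=
    autInducedBy_le_autGroup F hQS ((mem_autInducedBy_iff S F.core _).mpr ⟨c, c.2, fun _ => rfl⟩)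
  have hβs : F.core.normalizerMonoidHom ⟨c, hcN⟩ ∈
      stabChain (F.autGroup F.core) (chainQ (P := F.core) Z) 2 hAinv := by
    refine ⟨hβA, fun i hi x hx => ?_⟩
    match i, hi, hx with
    | 0, _, hx =>
      have hxZ : (x : Ω) ∈ Z := Subgroup.mem_subgroupOf.mp hx
      have h1 := central_fix F hZ (F.conj_mem le_rfl c.2) ⟨x, hQS x.2⟩ hxZ
      have h2 : F.core.normalizerMonoidHom ⟨c, hcN⟩ x = x := Subtype.ext h1
      rw [h2, inv_mul_cancel]
      exact Subgroup.one_mem _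
    | 1, _, hx =>
      show x⁻¹ * F.core.normalizerMonoidHom ⟨c, hcN⟩ x ∈ Z.subgroupOf F.core
      rw [Subgroup.mem_subgroupOf]
      have hxS : (x : Ω) ∈ S := hQS x.2
      have hθx : θ ⟨x, hxS⟩ ∈ imageAlong θ F.core :=
        (mem_imageAlong θ _ _).mpr ⟨⟨x, hxS⟩, x.2, rfl⟩
      have hcomm := (Subgroup.mem_centralizer_iff.mp hc'.2) _ hθx
      have h3 : θ (⟨x, hxS⟩⁻¹ * (c * ⟨x, hxS⟩ * c⁻¹)) = 1 := by
        rw [map_mul, map_inv, map_mul, map_mul, map_inv, ← hcomm]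
        group
      exact (hker _).mp h3
  have hle := stabChain_le_pCore hQp (F.autGroup F.core) (chainQ (P := F.core) Z) 2 hAinv rfl rfl
  have hβI : F.core.normalizerMonoidHom ⟨c, hcN⟩ ∈ Inn ↥F.core := by
    rw [← hrad.2]
    exact ⟨⟨_, hβA⟩, hle (Subgroup.mem_subgroupOf.mpr hβs), rfl⟩
  have hcQ : (c : Ω) ∈ F.core := mem_of_normalizerMonoidHom_mem_inn hcenQ hQS c.2 hcN hβI
  exact (mem_imageAlong θ _ _).mpr ⟨c, hcQ, rfl⟩

end Cfsg.Agent.Lib.Helper7.ConstrNormal
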