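import Mathlib
import Cfsg.Prelude.Def_FusionSystem
import Cfsg.Prelude.Def_FusionComponents
import Cfsg.Agent.Lib.Helper7.ConstrFactor
import Cfsg.Agent.Lib.Helper7.GroupNormalSubsystem
import Cfsg.Agent.Lib.Helper7.SylowLib

set_option autoImplicit false

namespace Cfsg.Agent.Lib.Helper7.ConstrNormal

open Cfsg Cfsg.FusionSystem Cfsg.Agent.Lib.Helper7

/-- A system `F_T(N)` inside an ambient group is isomorphic to the system of the group `N ≃ G₂` on the image of `T`. -/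
theorem fsos_isFactorSystem_iso {Ω : Type*} [Group Ω] {G₂ : Type*} [Group G₂] (N T : Subgroup Ω)
    (hTN : T ≤ N) (F : FusionSystem T)
    (hF : ∀ (P : Subgroup Ω) (φ : P →* Ω), φ ∈ F.Hom P ↔
      P ≤ T ∧ (∀ x : P, φ x ∈ T) ∧ ∃ g ∈ N, ∀ x : P, φ x = g * (x : Ω) * g⁻¹)
    (e : ↥N ≃* G₂) :
    F.IsFactorSystem ⊥ (e.toMonoidHom.comp (Subgroup.inclusion hTN))
      (groupFusionSystem ((T.subgroupOf N).map e.toMonoidHom)) := by
  set θ : ↥T →* G₂ := e.toMonoidHom.comp (Subgroup.inclusion hTN) with hθ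
  have hθe : ∀ s : ↥T, θ s = e (Subgroup.inclusion hTN s) := fun s => rfl
  have hrange : θ.range = (T.subgroupOf N).map e.toMonoidHom := by
    ext y
    constructor
    · rintro ⟨s, rfl⟩
      exact ⟨Subgroup.inclusion hTN s, Subgroup.mem_subgroupOf.mpr s.2, rfl⟩
    · rintro ⟨n, hn, rfl⟩
      exact ⟨⟨n, Subgroup.mem_subgroupOf.mp hn⟩, rfl⟩
  refine ⟨bot_le, fun s => ?_, hrange, fun P' φ' => ⟨?_, ?_⟩⟩
  · rw [hθe, Subgroup.mem_bot]
    constructor
    · intro h
      have h1 : Subgroup.inclusion hTN s = 1 := e.injective (by rw [h, map_one])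
      exact congrArg (fun z : ↥N => (z : Ω)) h1
    · intro h
      have h1 : s = 1 := Subtype.ext h
      rw [h1, map_one, map_one]
  · rintro ⟨hP'S', hφ'S', g₂, hg₂⟩
    refine ⟨hP'S', ?_⟩
    have hP : preimageAlong θ P' ≤ T := preimageAlong_le θ P'
    have hPP' : ∀ x : ↥(preimageAlong θ P'), θ ⟨x, hP x.2⟩ ∈ P' := fun x =>
      ((mem_preimageAlong θ P' _).mp x.2).2
    have hval : ∀ x : ↥(preimageAlong θ P'),
        (e.symm g₂ : Ω) * (x : Ω) * (e.symm g₂ : Ω)⁻¹ ∈ T := by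
      intro x
      have h1 := hφ'S' ⟨_, hPP' x⟩
      rw [hg₂] at h1
      obtain ⟨n, hn, hne⟩ := h1
      have h2 : n = e.symm g₂ * Subgroup.inclusion hTN ⟨x, hP x.2⟩ * (e.symm g₂)⁻¹ := by
        apply e.injective
        rw [map_mul, map_mul, map_inv, MulEquiv.apply_symm_apply]
        exact hne
      have h3 := Subgroup.mem_subgroupOf.mp hn
      rw [h2] at h3
      exact h3
    refine ⟨conjHom (preimageAlong θ P') (e.symm g₂ : Ω), ?_, hP, hval, hPP', fun x => ?_⟩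
    · rw [hF]
      exact ⟨hP, hval, _, (e.symm g₂).2, fun x => rfl⟩
    · rw [hg₂]
      show g₂ * θ ⟨x, hP x.2⟩ * g₂⁻¹ = θ ⟨(e.symm g₂ : Ω) * (x : Ω) * (e.symm g₂ : Ω)⁻¹, hval x⟩
      rw [hθe, hθe]
      have e1 : Subgroup.inclusion hTN ⟨(e.symm g₂ : Ω) * (x : Ω) * (e.symm g₂ : Ω)⁻¹, hval x⟩ =
          e.symm g₂ * Subgroup.inclusion hTN ⟨x, hP x.2⟩ * (e.symm g₂)⁻¹ := Subtype.ext rfl
      rw [e1, map_mul, map_mul, map_inv, MulEquiv.apply_symm_apply]
  · rintro ⟨hP'S', φ, hφ, hP, hφT, hPP', hi⟩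
    obtain ⟨-, -, g, hgN, hg⟩ := (hF _ φ).mp hφ
    have key : ∀ x' : ↥P', ∃ s : ↥(preimageAlong θ P'), θ ⟨s, hP s.2⟩ = x' ∧
        φ' x' = θ ⟨φ s, hφT s⟩ := by
      intro x'
      obtain ⟨s, hs, hsx⟩ := exists_preimage_of_mem θ _ hrange hP'S' x' x'.2
      refine ⟨⟨s, hs⟩, hsx, ?_⟩
      rw [← hi ⟨s, hs⟩]
      congr 1
      exact Subtype.ext hsx.symm
    refine ⟨hP'S', fun x' => ?_, e ⟨g, hgN⟩, fun x' => ?_⟩
    · obtain ⟨s, -, hs⟩ := key x'
      rw [hs, ← hrange]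
      exact ⟨_, rfl⟩
    · obtain ⟨s, hsx, hs⟩ := key x'
      rw [hs, ← hsx, hθe, hθe]
      have e1 : Subgroup.inclusion hTN ⟨φ s, hφT s⟩ =
          ⟨g, hgN⟩ * Subgroup.inclusion hTN ⟨s, hP s.2⟩ * (⟨g, hgN⟩ : ↥N)⁻¹ := Subtype.ext (hg s)
      rw [e1, map_mul, map_mul, map_inv]


/-- If `F_S(G)` is constrained then so is `F_{S ∩ H}(H)` for every subnormal subgroup `H`. -/
theorem gfs_subnormal_constrained {G : Type*} [Group G] [Finite G] (p : ℕ) [Fact p.Prime] (S : Sylow p G)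
    (hF : (groupFusionSystem (S : Subgroup G)).IsConstrained p) (H : Subgroup G) (hH : H.IsSubnormal) :
    IsSylowIn p ((S : Subgroup G) ⊓ H) H ∧
      (groupFusionSystem ((S : Subgroup G).subgroupOf H)).IsConstrained p := by
  induction hH with
  | top =>
    constructor
    · rw [inf_top_eq]; exact IsSylowIn.of_sylow_top S
    · have hfac := fsos_isFactorSystem_iso (⊤ : Subgroup G) (S : Subgroup G) le_top
        (groupFusionSystem (S : Subgroup G))
        (fun P φ => ⟨fun ⟨a, b, g, hg⟩ => ⟨a, b, g, trivial, hg⟩, fun ⟨a, b, g, _, hg⟩ => ⟨a, b, g, hg⟩⟩)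
        (MulEquiv.refl _)
      have hmap : ((S : Subgroup G).subgroupOf ⊤).map (MulEquiv.refl ↥(⊤ : Subgroup G)).toMonoidHom =
          (S : Subgroup G).subgroupOf ⊤ := by
        ext x
        constructor
        · rintro ⟨y, hy, rfl⟩
          exact hy
        · intro hx
          exact ⟨x, hx, rfl⟩
      rw [hmap] at hfac
      exact isConstrained_factor_central p S.2 _ hF ⊥ (isCentral_bot _) _ _ hfac
  | step H K h_le hK hN ih =>
    obtain ⟨hSylK, hconK⟩ := ih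
    have hNorm : K ≤ Subgroup.normalizer (H : Set G) :=
      (Subgroup.normal_subgroupOf_iff_le_normalizer h_le).mp hN
    have hSylH : IsSylowIn p ((S : Subgroup G) ⊓ H) H := by
      have h1 := hSylK.inf_normal H h_le hNorm
      rwa [inf_assoc, inf_eq_right.mpr h_le] at h1
    refine ⟨hSylH, ?_⟩
    obtain ⟨R, hR⟩ := hSylK.exists_sylow
    rw [Subgroup.inf_subgroupOf_right] at hR
    rw [← hR] at hconK
    have hnorm := fsos_isNormalIn p R (H.subgroupOf K)
    have hE := isConstrained_of_isNormalIn p R.2 (groupFusionSystem (R : Subgroup ↥K)) hconK _ hnorm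
    have hfac := fsos_isFactorSystem_iso (H.subgroupOf K) ((R : Subgroup ↥K) ⊓ H.subgroupOf K) inf_le_right
      (fusionSystemOfSubgroup (H.subgroupOf K) ((R : Subgroup ↥K) ⊓ H.subgroupOf K) inf_le_right)
      (fun P φ => Iff.rfl) (Subgroup.subgroupOfEquivOfLe h_le)
    have hmap : (((R : Subgroup ↥K) ⊓ H.subgroupOf K).subgroupOf (H.subgroupOf K)).map
        (Subgroup.subgroupOfEquivOfLe h_le).toMonoidHom = (S : Subgroup G).subgroupOf H := by
      ext x
      constructor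
      · rintro ⟨n, hn, rfl⟩
        have h1 : (n : ↥K) ∈ (R : Subgroup ↥K) := (Subgroup.mem_subgroupOf.mp hn).1
        rw [hR, Subgroup.mem_subgroupOf] at h1
        exact Subgroup.mem_subgroupOf.mpr h1
      · intro hx
        have hxS : (x : G) ∈ (S : Subgroup G) := Subgroup.mem_subgroupOf.mp hx
        refine ⟨(Subgroup.subgroupOfEquivOfLe h_le).symm x, ?_, MulEquiv.apply_symm_apply _ x⟩
        rw [SetLike.mem_coe, Subgroup.mem_subgroupOf]
        refine ⟨?_, ((Subgroup.subgroupOfEquivOfLe h_le).symm x).2⟩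
        rw [hR]
        exact Subgroup.mem_subgroupOf.mpr hxS
    rw [hmap] at hfac
    exact isConstrained_factor_central p (R.2.to_le inf_le_left) _ hE ⊥ (isCentral_bot _) _ _ hfac

end Cfsg.Agent.Lib.Helper7.ConstrNormal
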