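import Mathlib
import Cfsg.Prelude.Def_FusionSystem
import Cfsg.Prelude.Def_FusionComponents
import Cfsg.Agent.Lib.Helper7.FactorSystem
import Cfsg.Agent.Lib.Helper7.KNormalizer

set_option autoImplicit false

namespace Cfsg.Agent.Lib.Helper7

open Cfsg Cfsg.FusionSystem

theorem group_factorSystem {G : Type*} [Group G] [Finite G] (p : ℕ) [Fact p.Prime] (S : Sylow p G)
    (H : Subgroup G) [H.Normal] :
    (groupFusionSystem (S : Subgroup G)).IsFactorSystem ((S : Subgroup G) ⊓ H)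
      ((QuotientGroup.mk' H).comp (S : Subgroup G).subtype)
      (groupFusionSystem ((S : Subgroup G).map (QuotientGroup.mk' H))) := by
  set θ : ↥(S : Subgroup G) →* G ⧸ H := (QuotientGroup.mk' H).comp (S : Subgroup G).subtype with hθ
  have hθe : ∀ s : ↥(S : Subgroup G), θ s = QuotientGroup.mk' H (s : G) := fun s => rfl
  refine ⟨inf_le_left, fun s => ?_, ?_, fun P' φ' => ⟨?_, ?_⟩⟩
  · rw [hθe, QuotientGroup.mk'_apply, QuotientGroup.eq_one_iff]
    exact ⟨fun h => ⟨s.2, h⟩, fun h => h.2⟩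
  · rw [hθ, MonoidHom.range_comp, Subgroup.range_subtype]
  · rintro ⟨hP', hφ'S', g₀, hg₀⟩
    obtain ⟨g, rfl⟩ := QuotientGroup.mk'_surjective H g₀
    refine ⟨hP', ?_⟩
    have hPS : preimageAlong θ P' ≤ (S : Subgroup G) := preimageAlong_le θ P'
    have hPmem : ∀ x : ↥(preimageAlong θ P'), QuotientGroup.mk' H (x : G) ∈ P' := by
      intro x
      obtain ⟨h1, h2⟩ := (mem_preimageAlong θ P' x).mp x.2
      exact h2
    -- the conjugate of `P` by `g` lies in `S ⊔ H`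
    have hQX : (preimageAlong θ P').map (MulAut.conj g).toMonoidHom ≤ (S : Subgroup G) ⊔ H := by
      rintro _ ⟨x, hx, rfl⟩
      have h1 := hφ'S' ⟨_, hPmem ⟨x, hx⟩⟩
      rw [hg₀] at h1
      obtain ⟨s, hs, hse⟩ := h1
      have h2 : QuotientGroup.mk' H (s⁻¹ * (g * x * g⁻¹)) = 1 := by
        rw [map_mul, map_inv, hse]
        simp only [map_mul, map_inv]
        group
      have h3 : s⁻¹ * (g * x * g⁻¹) ∈ H := by
        rwa [QuotientGroup.mk'_apply, QuotientGroup.eq_one_iff] at h2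
      have h4 : g * x * g⁻¹ = s * (s⁻¹ * (g * x * g⁻¹)) := by group
      show g * x * g⁻¹ ∈ _
      rw [h4]
      exact Subgroup.mul_mem _ (Subgroup.mem_sup_left hs) (Subgroup.mem_sup_right h3)
    have hsyl : IsSylowIn p (S : Subgroup G) ((S : Subgroup G) ⊔ H) :=
      IsSylowIn.of_sylow_le S le_sup_left
    have hQp : IsPGroup p ↥((preimageAlong θ P').map (MulAut.conj g).toMonoidHom) :=
      (S.isPGroup'.to_le hPS).map _
    obtain ⟨y, hy, hyQ⟩ := hsyl.exists_conj_le hQp hQX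
    obtain ⟨s, hs, h, hh, rfl⟩ : ∃ s ∈ (S : Subgroup G), ∃ h ∈ H, s * h = y := by
      have := hy
      rw [← SetLike.mem_coe, Subgroup.mul_normal] at this
      obtain ⟨s, hs, h, hh, e⟩ := this
      exact ⟨s, hs, h, hh, e⟩
    have hval : ∀ x : ↥(preimageAlong θ P'), conjHom (preimageAlong θ P') (h * g) x ∈ (S : Subgroup G) := by
      intro x
      have h1 := hyQ _ ⟨x, x.2, rfl⟩
      have h2 : s * h * (g * (x : G) * g⁻¹) * (s * h)⁻¹ ∈ (S : Subgroup G) := h1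
      have h3 : h * g * (x : G) * (h * g)⁻¹ = s⁻¹ * (s * h * (g * (x : G) * g⁻¹) * (s * h)⁻¹) * s := by
        group
      show h * g * (x : G) * (h * g)⁻¹ ∈ (S : Subgroup G)
      rw [h3]
      exact Subgroup.mul_mem _ (Subgroup.mul_mem _ (Subgroup.inv_mem _ hs) h2) hs
    refine ⟨conjHom (preimageAlong θ P') (h * g), ⟨hPS, hval, h * g, fun x => rfl⟩,
      hPS, hval, fun x => hPmem x, fun x => ?_⟩
    have h1 := hg₀ ⟨_, hPmem x⟩
    show φ' ⟨QuotientGroup.mk' H (x : G), _⟩ = QuotientGroup.mk' H (h * g * (x : G) * (h * g)⁻¹)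
    rw [h1]
    have hh1 : QuotientGroup.mk' H h = 1 := by
      rw [QuotientGroup.mk'_apply, QuotientGroup.eq_one_iff]; exact hh
    simp only [map_mul, map_inv, hh1, one_mul]
  · rintro ⟨hP', φ, ⟨hP, hφS, g, hg⟩, hP₁, hφ₁, hP'₁, hind⟩
    have hkey : ∀ y : P', φ' y = QuotientGroup.mk' H g * (y : G ⧸ H) * (QuotientGroup.mk' H g)⁻¹ := by
      intro y
      obtain ⟨s, hs, hsy⟩ := hP' y.2
      have hsP : s ∈ preimageAlong θ P' := by
        refine (mem_preimageAlong θ P' s).mpr ⟨hs, ?_⟩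
        rw [hθe]
        show QuotientGroup.mk' H s ∈ P'
        rw [hsy]; exact y.2
      have h1 := hind ⟨s, hsP⟩
      have e1 : (⟨θ ⟨s, hP₁ hsP⟩, hP'₁ ⟨s, hsP⟩⟩ : P') = y := Subtype.ext hsy
      rw [e1] at h1
      rw [h1, hθe]
      show QuotientGroup.mk' H (φ ⟨s, hsP⟩) = _
      rw [hg, ← hsy]
      simp only [map_mul, map_inv]
    refine ⟨hP', fun y => ?_, QuotientGroup.mk' H g, hkey⟩
    obtain ⟨s, hs, hsy⟩ := hP' y.2
    have hsP : s ∈ preimageAlong θ P' := by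
      refine (mem_preimageAlong θ P' s).mpr ⟨hs, ?_⟩
      rw [hθe]
      show QuotientGroup.mk' H s ∈ P'
      rw [hsy]; exact y.2
    have h1 := hind ⟨s, hsP⟩
    have e1 : (⟨θ ⟨s, hP₁ hsP⟩, hP'₁ ⟨s, hsP⟩⟩ : P') = y := Subtype.ext hsy
    rw [e1] at h1
    rw [h1, hθe]
    exact ⟨_, hφ₁ ⟨s, hsP⟩, rfl⟩

end Cfsg.Agent.Lib.Helper7
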