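import Mathlib
import Cfsg.Prelude.Def_FusionSystem
import Cfsg.Prelude.Def_FusionComponents
import Cfsg.Agent.Lib.Helper7.ConstrSubnormalGroup
import Cfsg.Agent.Lib.Helper7.GroupFactorSystem

set_option autoImplicit false

namespace Cfsg.Agent.Lib.Helper7.ConstrNormal

open Cfsg Cfsg.FusionSystem Cfsg.Agent.Lib.Helper7

/-- The intersection of `S` with a central subgroup is central in `F_S(G)`. -/
theorem gfs_isCentral_inf_center {G : Type*} [Group G] (S Z : Subgroup G)
    (hZ : Z ≤ Subgroup.center G) : (groupFusionSystem S).IsCentral (S ⊓ Z) := by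
  refine ⟨inf_le_left, fun P φ hφ => ?_⟩
  obtain ⟨hP, hφS, g, hg⟩ := hφ
  have hle : P ⊔ S ⊓ Z ≤ S := sup_le hP inf_le_left
  have hval : ∀ x : ↥(P ⊔ S ⊓ Z), g * (x : G) * g⁻¹ ∈ S := by
    have hall : P ⊔ S ⊓ Z ≤ S.comap (MulAut.conj g).toMonoidHom := by
      apply sup_le
      · intro x hx
        show g * x * g⁻¹ ∈ S
        rw [← hg ⟨x, hx⟩]
        exact hφS _
      · intro z hz
        show g * z * g⁻¹ ∈ S
        have hc := (Subgroup.mem_center_iff.mp (hZ hz.2)) g
        rw [hc, mul_inv_cancel_right]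
        exact hz.1
    intro x
    exact hall x.2
  refine ⟨conjHom (P ⊔ S ⊓ Z) g, ⟨hle, hval, g, fun x => rfl⟩, fun x => (hg x).symm, fun z => ?_⟩
  show g * (z : G) * g⁻¹ = z
  have hc := (Subgroup.mem_center_iff.mp (hZ z.2.2)) g
  rw [hc, mul_inv_cancel_right]

/-- The fusion system of `L / Z(L)` for a subnormal subgroup `L`, when `F_S(G)` is constrained. -/
theorem gfs_subnormal_central_quotient_constrained {G : Type*} [Group G] [Finite G] (p : ℕ) [Fact p.Prime]
    (S : Sylow p G) (hF : (groupFusionSystem (S : Subgroup G)).IsConstrained p) (L : Subgroup G)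
    (hL : L.IsSubnormal) :
    (groupFusionSystem (((S : Subgroup G).subgroupOf L).map
      (QuotientGroup.mk' (Subgroup.center L)))).IsConstrained p := by
  obtain ⟨hSyl, hcon⟩ := gfs_subnormal_constrained p S hF L hL
  obtain ⟨R, hR⟩ := hSyl.exists_sylow
  rw [Subgroup.inf_subgroupOf_right] at hR
  rw [← hR] at hcon ⊢
  have hfac := group_factorSystem p R (Subgroup.center ↥L)
  have hcen := gfs_isCentral_inf_center (R : Subgroup ↥L) (Subgroup.center ↥L) le_rfl
  exact isConstrained_factor_central p R.2 _ hcon _ hcen _ _ hfac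

end Cfsg.Agent.Lib.Helper7.ConstrNormal
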