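import Mathlib
import Cfsg.Prelude.Def_DStar
import Cfsg.Prelude.Def_PLocal
import Cfsg.Agent.S0015
import Cfsg.Agent.S0649
import Cfsg.Agent.S0650

set_option autoImplicit false

namespace Cfsg.Agent.Lib.Helper7

open Cfsg
open scoped commutatorElement

variable {S : Type*} [Group S]

/-- if the commutators of the generators lie in a subgroup `M` centralized by `closure X`, then all commutators
of `closure X` lie in `M` -/
theorem commutator_mem_of_generators (M : Subgroup S) (X : Set S)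
    (hM : ∀ m ∈ M, ∀ k ∈ Subgroup.closure X, m * k = k * m)
    (hX : ∀ s ∈ X, ∀ t ∈ X, ⁅s, t⁆ ∈ M) :
    ∀ g ∈ Subgroup.closure X, ∀ h ∈ Subgroup.closure X, ⁅g, h⁆ ∈ M := by
  have step1 : ∀ s ∈ X, ∀ h ∈ Subgroup.closure X, ⁅s, h⁆ ∈ M := by
    intro s hs h hh
    induction hh using Subgroup.closure_induction with
    | mem t ht => exact hX s hs t ht
    | one => rw [commutatorElement_one_right]; exact M.one_mem
    | mul h₁ h₂ hh₁ hh₂ ih₁ ih₂ =>
      have e : ⁅s, h₁ * h₂⁆ = ⁅s, h₁⁆ * (h₁ * ⁅s, h₂⁆ * h₁⁻¹) := by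
        simp only [commutatorElement_def]; group
      rw [e, (hM _ ih₂ h₁ hh₁).symm, mul_inv_cancel_right]
      exact M.mul_mem ih₁ ih₂
    | inv h₁ hh₁ ih₁ =>
      have e : ⁅s, h₁⁻¹⁆ = h₁⁻¹ * ⁅s, h₁⁆⁻¹ * h₁ := by
        simp only [commutatorElement_def]; group
      have hc := hM _ (M.inv_mem ih₁) h₁ hh₁
      rw [e, mul_assoc, hc, inv_mul_cancel_left]
      exact M.inv_mem ih₁
  intro g hg h hh
  induction hg using Subgroup.closure_induction with
  | mem s hs => exact step1 s hs h hh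
  | one => rw [commutatorElement_one_left]; exact M.one_mem
  | mul g₁ g₂ hg₁ hg₂ ih₁ ih₂ =>
    have e : ⁅g₁ * g₂, h⁆ = (g₁ * ⁅g₂, h⁆ * g₁⁻¹) * ⁅g₁, h⁆ := by
      simp only [commutatorElement_def]; group
    rw [e, (hM _ ih₂ g₁ hg₁).symm, mul_inv_cancel_right]
    exact M.mul_mem ih₂ ih₁
  | inv g₁ hg₁ ih₁ =>
    have e : ⁅g₁⁻¹, h⁆ = g₁⁻¹ * ⁅g₁, h⁆⁻¹ * g₁ := by
      simp only [commutatorElement_def]; group
    have hc := hM _ (M.inv_mem ih₁) g₁ hg₁
    rw [e, mul_assoc, hc, inv_mul_cancel_left]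
    exact M.inv_mem ih₁

/-- class at most two criterion for `⟨A, x⟩` -/
theorem class_two_of_commutators (A : Subgroup S) (hA : ∀ a ∈ A, ∀ b ∈ A, a * b = b * a) (x : S)
    (M : Subgroup S) (hMA : ∀ m ∈ M, ∀ a ∈ A, m * a = a * m) (hMx : ∀ m ∈ M, m * x = x * m)
    (hax : ∀ a ∈ A, ⁅a, x⁆ ∈ M) :
    ⁅⁅A ⊔ Subgroup.zpowers x, A ⊔ Subgroup.zpowers x⁆, A ⊔ Subgroup.zpowers x⁆ = ⊥ := by
  have hK : A ⊔ Subgroup.zpowers x = Subgroup.closure ((A : Set S) ∪ {x}) := by
    rw [Subgroup.closure_union, Subgroup.closure_eq, Subgroup.zpowers_eq_closure]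
  have hMK : ∀ m ∈ M, ∀ k ∈ Subgroup.closure ((A : Set S) ∪ {x}), m * k = k * m := by
    intro m hm k hk
    have : Subgroup.closure ((A : Set S) ∪ {x}) ≤ Subgroup.centralizer {m} := by
      rw [Subgroup.closure_le]
      rintro y (hy | hy)
      · exact Subgroup.mem_centralizer_singleton_iff.mpr (hMA m hm y hy).symm
      · rw [Set.mem_singleton_iff] at hy
        subst hy
        exact Subgroup.mem_centralizer_singleton_iff.mpr (hMx m hm).symm
    exact (Subgroup.mem_centralizer_singleton_iff.mp (this hk)).symm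
  have hgen : ∀ s ∈ ((A : Set S) ∪ {x}), ∀ t ∈ ((A : Set S) ∪ {x}), ⁅s, t⁆ ∈ M := by
    rintro s (hs | hs) t (ht | ht)
    · rw [commutatorElement_eq_one_iff_mul_comm.mpr (hA s hs t ht)]; exact M.one_mem
    · rw [Set.mem_singleton_iff] at ht; subst ht; exact hax s hs
    · rw [Set.mem_singleton_iff] at hs; subst hs
      rw [← commutatorElement_inv]; exact M.inv_mem (hax t ht)
    · rw [Set.mem_singleton_iff] at hs ht; subst hs; subst ht
      rw [commutatorElement_self]; exact M.one_mem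
  have hall := commutator_mem_of_generators M _ hMK hgen
  rw [hK, Subgroup.commutator_eq_bot_iff_le_centralizer]
  refine le_trans (Subgroup.commutator_le.mpr (fun g hg h hh => hall g hg h hh)) ?_
  intro m hm
  rw [Subgroup.mem_centralizer_iff]
  intro k hk
  exact (hMK m hm k hk).symm

/-- a member of the `D*` family commutes with every normal abelian subgroup of a nilpotent group -/
theorem dStarFamily_commute_normal_abelian [Group.IsNilpotent S] {A : Subgroup S}
    (hA : A ∈ Cfsg.dStarFamily S) (N : Subgroup S) [N.Normal] (hN : ∀ a ∈ N, ∀ b ∈ N, a * b = b * a) :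
    ∀ a ∈ A, ∀ n ∈ N, a * n = n * a := by
  obtain ⟨hAc, hAx⟩ := hA
  have hAcomm : ∀ a ∈ A, ∀ b ∈ A, a * b = b * a := by
    intro a ha b hb
    have := hAc.is_comm.comm ⟨a, ha⟩ ⟨b, hb⟩
    exact congrArg Subtype.val this
  by_contra hcon
  push Not at hcon
  -- the predicate
  have hex : ∃ k : ℕ, ¬ (∀ n ∈ N ⊓ Subgroup.upperCentralSeries S k, ∀ a ∈ A, a * n = n * a) := by
    obtain ⟨c, hc⟩ := Group.IsNilpotent.nilpotent S
    refine ⟨c, ?_⟩
    intro h
    obtain ⟨a, ha, n, hn, hne⟩ := hcon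
    exact hne (h n ⟨hn, by rw [hc]; exact Subgroup.mem_top n⟩ a ha)
  classical
  set k := Nat.find hex with hk
  have hk_spec := Nat.find_spec hex
  have hk0 : k ≠ 0 := by
    intro h0
    apply hk_spec
    rw [← hk, h0]
    intro n hn a ha
    have : n = 1 := by
      have h2 : n ∈ Subgroup.upperCentralSeries S 0 := hn.2
      rw [Subgroup.upperCentralSeries_zero] at h2
      exact Subgroup.mem_bot.mp h2
    rw [this, mul_one, one_mul]
  obtain ⟨j, hj⟩ := Nat.exists_eq_succ_of_ne_zero hk0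
  have hjmin : ∀ n ∈ N ⊓ Subgroup.upperCentralSeries S j, ∀ a ∈ A, a * n = n * a := by
    have := Nat.find_min hex (m := j) (by rw [← hk, hj]; exact Nat.lt_succ_self j)
    push Not at this
    exact this
  rw [← hk, hj] at hk_spec
  push Not at hk_spec
  obtain ⟨x, hx, a₀, ha₀, hne⟩ := hk_spec
  set M : Subgroup S := N ⊓ Subgroup.upperCentralSeries S j with hM
  have hcl := class_two_of_commutators A hAcomm x M
    (fun m hm a ha => (hjmin m hm a ha).symm)
    (fun m hm => hN m hm.1 x hx.1)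
    (fun a ha => by
      refine ⟨?_, ?_⟩
      · -- ⁅a, x⁆ = (a x a⁻¹) x⁻¹ ∈ N
        rw [commutatorElement_def]
        exact N.mul_mem (‹N.Normal›.conj_mem x hx.1 a) (N.inv_mem hx.1)
      · have h1 := (Subgroup.mem_upperCentralSeries_succ_iff.mp hx.2) a
        rw [← commutatorElement_inv]
        exact Subgroup.inv_mem _ h1)
  exact hne (hAx x hcl a₀ ha₀)

theorem isMulCommutative_iff (A : Subgroup S) :
    IsMulCommutative ↥A ↔ ∀ a ∈ A, ∀ b ∈ A, a * b = b * a := by
  constructor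
  · intro h a ha b hb
    exact congrArg Subtype.val (h.is_comm.comm ⟨a, ha⟩ ⟨b, hb⟩)
  · intro h
    exact ⟨⟨fun a b => Subtype.ext (h a a.2 b b.2)⟩⟩

theorem dStar_le_of_max_normal_abelian [Finite S] [Group.IsNilpotent S]
    (N : Subgroup S) [N.Normal] [IsMulCommutative N]
    (hmax : ∀ M : Subgroup S, M.Normal → IsMulCommutative M → N ≤ M → M = N) :
    Cfsg.dStar S ≤ N := by
  have hcent := Cfsg.Agent.S0015.result N hmax
  have hNc := (isMulCommutative_iff N).mp inferInstance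
  unfold Cfsg.dStar
  apply sSup_le
  intro A hA
  intro a ha
  rw [← hcent, Subgroup.mem_centralizer_iff]
  intro n hn
  exact (dStarFamily_commute_normal_abelian hA N hNc a ha n hn).symm

theorem exists_max_normal_abelian [Finite S] :
    ∃ N : Subgroup S, N.Normal ∧ IsMulCommutative N ∧
      ∀ M : Subgroup S, M.Normal → IsMulCommutative M → N ≤ M → M = N := by
  obtain ⟨A, -, hAmax⟩ := Finite.exists_le_maximal
    (p := fun M : Subgroup S => M.Normal ∧ IsMulCommutative M) (a := ⊥) ⟨inferInstance, inferInstance⟩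
  obtain ⟨⟨hAn, hAc⟩, hAm⟩ := hAmax
  exact ⟨A, hAn, hAc, fun M hMn hMc hle => le_antisymm (hAm ⟨hMn, hMc⟩ hle) hle⟩

/-- `D*(S)` is a member of its own family (finite nilpotent `S`) -/
theorem dStar_mem_dStarFamily [Finite S] [Group.IsNilpotent S] : Cfsg.dStar S ∈ Cfsg.dStarFamily S := by
  obtain ⟨N, hNn, hNc, hmax⟩ := exists_max_normal_abelian (S := S)
  have hle := dStar_le_of_max_normal_abelian N hmax
  have hNcomm := (isMulCommutative_iff N).mp hNc
  refine ⟨(isMulCommutative_iff _).mpr (fun a ha b hb => hNcomm a (hle ha) b (hle hb)), ?_⟩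
  intro x hx
  have : Cfsg.dStar S ≤ Subgroup.centralizer {x} := by
    unfold Cfsg.dStar
    apply sSup_le
    intro A hA a ha
    rw [Subgroup.mem_centralizer_singleton_iff]
    have hAD : A ≤ Cfsg.dStar S := le_sSup hA
    have hle2 : A ⊔ Subgroup.zpowers x ≤ Cfsg.dStar S ⊔ Subgroup.zpowers x := sup_le_sup_right hAD _
    have h3 : ⁅⁅A ⊔ Subgroup.zpowers x, A ⊔ Subgroup.zpowers x⁆, A ⊔ Subgroup.zpowers x⁆ = ⊥ := by
      rw [eq_bot_iff, ← hx]
      exact Subgroup.commutator_mono (Subgroup.commutator_mono hle2 hle2) hle2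
    exact hA.2 x h3 a ha
  intro a ha
  exact (Subgroup.mem_centralizer_singleton_iff.mp (this ha))

end Cfsg.Agent.Lib.Helper7
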