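import Mathlib
import Cfsg.Prelude.Def_DStar
import Cfsg.Prelude.Def_PLocal
import Cfsg.Agent.Lib.Helper7.DStar
import Cfsg.Agent.S0649
import Cfsg.Agent.S0650

set_option autoImplicit false

namespace Cfsg.Agent.Lib.Helper7

open Cfsg
open scoped commutatorElement

variable {S : Type*} [Group S]

theorem center_mem_dStarFamily : Subgroup.center S ∈ Cfsg.dStarFamily S := by
  refine ⟨inferInstance, fun x _ a ha => ?_⟩
  exact (Subgroup.mem_center_iff.mp ha x).symm

theorem map_conj_mem_dStarFamily {A : Subgroup S} (hA : A ∈ Cfsg.dStarFamily S) (g : S) :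
    A.map (MulAut.conj g).toMonoidHom ∈ Cfsg.dStarFamily S := by
  obtain ⟨hAc, hAx⟩ := hA
  have hAcomm := (isMulCommutative_iff A).mp hAc
  refine ⟨(isMulCommutative_iff _).mpr ?_, ?_⟩
  · rintro _ ⟨a, ha, rfl⟩ _ ⟨b, hb, rfl⟩
    show g * a * g⁻¹ * (g * b * g⁻¹) = g * b * g⁻¹ * (g * a * g⁻¹)
    have := hAcomm a ha b hb
    calc g * a * g⁻¹ * (g * b * g⁻¹) = g * (a * b) * g⁻¹ := by group
      _ = g * (b * a) * g⁻¹ := by rw [this]
      _ = g * b * g⁻¹ * (g * a * g⁻¹) := by group
  · intro x hx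
    set y : S := g⁻¹ * x * g with hy
    have hxy : x = (MulAut.conj g).toMonoidHom y := by
      show x = g * (g⁻¹ * x * g) * g⁻¹
      group
    have hK : A.map (MulAut.conj g).toMonoidHom ⊔ Subgroup.zpowers x =
        (A ⊔ Subgroup.zpowers y).map (MulAut.conj g).toMonoidHom := by
      rw [Subgroup.map_sup, MonoidHom.map_zpowers, ← hxy]
    rw [hK, ← Subgroup.map_commutator, ← Subgroup.map_commutator,
      Subgroup.map_eq_bot_iff_of_injective _ (MulAut.conj g).injective] at hx
    have h1 := hAx y hx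
    rintro _ ⟨a, ha, rfl⟩
    show g * a * g⁻¹ * x = x * (g * a * g⁻¹)
    have h2 := h1 a ha
    calc g * a * g⁻¹ * x = g * (a * y) * g⁻¹ := by rw [hy]; group
      _ = g * (y * a) * g⁻¹ := by rw [h2]
      _ = x * (g * a * g⁻¹) := by rw [hy]; group

theorem dStar_normal : (Cfsg.dStar S).Normal := by
  refine ⟨fun n hn g => ?_⟩
  have hle : Cfsg.dStar S ≤ (Cfsg.dStar S).comap (MulAut.conj g).toMonoidHom := by
    unfold Cfsg.dStar
    apply sSup_le
    intro A hA
    rw [← Subgroup.map_le_iff_le_comap]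
    exact le_sSup (map_conj_mem_dStarFamily hA g)
  exact hle hn

theorem mem_of_centralizes_maxAbelian [Finite S] {B : Subgroup S} (hB : B ∈ Cfsg.maxAbelianSubgroups S)
    {d : S} (hd : ∀ b ∈ B, d * b = b * d) : d ∈ B := by
  obtain ⟨hBc, hBmax⟩ := hB
  have hBcomm := (isMulCommutative_iff B).mp hBc
  have hK : B ⊔ Subgroup.zpowers d = Subgroup.closure ((B : Set S) ∪ {d}) := by
    rw [Subgroup.closure_union, Subgroup.closure_eq, Subgroup.zpowers_eq_closure]
  have hall := commutator_mem_of_generators (⊥ : Subgroup S) ((B : Set S) ∪ {d})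
    (fun m hm k _ => by rw [Subgroup.mem_bot.mp hm, one_mul, mul_one])
    (by
      rintro s (hs | hs) t (ht | ht)
      · rw [commutatorElement_eq_one_iff_mul_comm.mpr (hBcomm s hs t ht)]; exact Subgroup.one_mem _
      · rw [Set.mem_singleton_iff] at ht; subst ht
        rw [commutatorElement_eq_one_iff_mul_comm.mpr (hd s hs).symm]; exact Subgroup.one_mem _
      · rw [Set.mem_singleton_iff] at hs; subst hs
        rw [commutatorElement_eq_one_iff_mul_comm.mpr (hd t ht)]; exact Subgroup.one_mem _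
      · rw [Set.mem_singleton_iff] at hs ht; subst hs; subst ht
        rw [commutatorElement_self]; exact Subgroup.one_mem _)
  have hcomm : IsMulCommutative ↥(B ⊔ Subgroup.zpowers d) := by
    rw [isMulCommutative_iff, hK]
    intro a ha b hb
    exact commutatorElement_eq_one_iff_mul_comm.mp (Subgroup.mem_bot.mp (hall a ha b hb))
  have hcard := hBmax _ hcomm
  have heq : B = B ⊔ Subgroup.zpowers d := Subgroup.eq_of_le_of_card_ge le_sup_left hcard
  rw [heq]
  exact (le_sup_right : Subgroup.zpowers d ≤ B ⊔ Subgroup.zpowers d) (Subgroup.mem_zpowers d)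

/-- `D*(S)` lies in every abelian subgroup of maximal order -/
theorem dStar_le_maxAbelian [Finite S] {p : ℕ} [Fact p.Prime] (hS : IsPGroup p S) :
    ∀ (m : ℕ) (B : Subgroup S), B ∈ Cfsg.maxAbelianSubgroups S →
      Nat.card ↥(Cfsg.dStar S) - Nat.card ↥(B ⊓ Cfsg.dStar S) = m → Cfsg.dStar S ≤ B := by
  haveI : Group.IsNilpotent S := hS.isNilpotent
  haveI hDn : (Cfsg.dStar S).Normal := dStar_normal
  have hDfam : Cfsg.dStar S ∈ Cfsg.dStarFamily S := dStar_mem_dStarFamily
  have hDc : IsMulCommutative ↥(Cfsg.dStar S) := hDfam.1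
  have hDcomm := (isMulCommutative_iff _).mp hDc
  intro m
  induction m using Nat.strong_induction_on with
  | _ m ih =>
  intro B hB hm
  have hBcomm := (isMulCommutative_iff B).mp hB.1
  have hnorm : Cfsg.dStar S ≤ Subgroup.normalizer (B : Set S) := by
    by_contra hnot
    have hBA : ⁅Cfsg.dStar S, Cfsg.dStar S⁆ ≤ B := by
      rw [Subgroup.commutator_le]
      intro a ha b hb
      rw [commutatorElement_eq_one_iff_mul_comm.mpr (hDcomm a ha b hb)]
      exact B.one_mem
    obtain ⟨b, hbD, hbNN, hbN⟩ := Cfsg.Agent.S0649.result hS (Cfsg.dStar S) (fun _ => hDc) B hB.1 hBA hnot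
    obtain ⟨h1, h2, -, h4, -, -, h7, -⟩ :=
      Cfsg.Agent.S0650.result hS (Cfsg.dStar S) (fun _ => hDc) B hB.1 hBA hnot b hbD hbNN hbN
    set A' : Subgroup S := (B ⊓ B.map (MulAut.conj (b⁻¹)).toMonoidHom) ⊔
      Subgroup.closure {g : S | ∃ a ∈ B, g = a * b⁻¹ * a⁻¹ * b} with hA'
    have hA'max : A' ∈ Cfsg.maxAbelianSubgroups S := ⟨h2, fun C hC => by rw [h1]; exact hB.2 C hC⟩
    have hlt : Nat.card ↥(B ⊓ Cfsg.dStar S) < Nat.card ↥(A' ⊓ Cfsg.dStar S) := by
      by_contra hge
      push Not at hge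
      exact h4.ne (Subgroup.eq_of_le_of_card_ge h4.le hge)
    have hle : Nat.card ↥(A' ⊓ Cfsg.dStar S) ≤ Nat.card ↥(Cfsg.dStar S) :=
      Subgroup.card_le_of_le inf_le_right
    have hDA' : Cfsg.dStar S ≤ A' :=
      ih (Nat.card ↥(Cfsg.dStar S) - Nat.card ↥(A' ⊓ Cfsg.dStar S)) (by omega) A' hA'max rfl
    exact hnot (hDA'.trans h7)
  -- now D normalizes B, so B acts quadratically on D
  intro d hd
  apply mem_of_centralizes_maxAbelian hB
  intro x hx
  have hcl := class_two_of_commutators (Cfsg.dStar S) hDcomm x (Cfsg.dStar S ⊓ B)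
    (fun m hm a ha => hDcomm m hm.1 a ha)
    (fun m hm => hBcomm m hm.2 x hx)
    (fun a ha => by
      refine ⟨?_, ?_⟩
      · rw [commutatorElement_def, mul_assoc, mul_assoc]
        refine Subgroup.mul_mem _ ha ?_
        have := hDn.conj_mem a⁻¹ (Subgroup.inv_mem _ ha) x
        simpa [mul_assoc] using this
      · rw [commutatorElement_def]
        exact B.mul_mem ((Subgroup.mem_normalizer_iff.mp (hnorm ha) x).mp hx) (B.inv_mem hx))
  exact hDfam.2 x hcl d hd

theorem exists_maxAbelian [Finite S] : ∃ B : Subgroup S, B ∈ Cfsg.maxAbelianSubgroups S := by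
  haveI : Nonempty {B : Subgroup S // IsMulCommutative B} := ⟨⟨⊥, inferInstance⟩⟩
  obtain ⟨B, hB⟩ := Finite.exists_max (fun B : {B : Subgroup S // IsMulCommutative B} => Nat.card ↥B.1)
  exact ⟨B.1, B.2, fun C hC => hB ⟨C, hC⟩⟩

theorem dStar_between [Finite S] {p : ℕ} [Fact p.Prime] (hS : IsPGroup p S) :
    Subgroup.center S ≤ Cfsg.dStar S ∧
    Cfsg.dStar S ≤ Cfsg.thompsonSubgroupA S ⊓ Subgroup.centralizer (Cfsg.thompsonSubgroupA S : Set S) ∧
    ∀ A : Subgroup S, A.Normal → IsMulCommutative A →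
      (∀ B : Subgroup S, B.Normal → IsMulCommutative B → A ≤ B → B = A) → Cfsg.dStar S ≤ A := by
  haveI : Group.IsNilpotent S := hS.isNilpotent
  refine ⟨le_sSup center_mem_dStarFamily, le_inf ?_ ?_, ?_⟩
  · obtain ⟨B, hB⟩ := exists_maxAbelian (S := S)
    exact (dStar_le_maxAbelian hS _ B hB rfl).trans (le_sSup hB)
  · rw [Subgroup.le_centralizer_iff]
    unfold Cfsg.thompsonSubgroupA
    apply sSup_le
    intro B hB b hb
    rw [Subgroup.mem_centralizer_iff]
    intro d hd
    have hdB : d ∈ B := dStar_le_maxAbelian hS _ B hB rfl hd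
    exact (isMulCommutative_iff B).mp hB.1 d hdB b hb
  · intro A hAn hAc hmax
    haveI := hAn
    haveI := hAc
    exact dStar_le_of_max_normal_abelian A hmax

end Cfsg.Agent.Lib.Helper7
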