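import Mathlib
import Cfsg.Prelude.Def_DStar
import Cfsg.Prelude.Def_PLocal
import Cfsg.Agent.Lib.Helper7.DStar
import Cfsg.Agent.Lib.Helper7.DStar2
import Cfsg.Agent.H1.SncQuad

set_option autoImplicit false

namespace Cfsg.Agent.Lib.Helper7

open Cfsg
open scoped commutatorElement

section dstarthm

variable {G : Type*} [Group G]

theorem dStarOf_le (P : Subgroup G) : Cfsg.dStarOf P ≤ P := by
  unfold Cfsg.dStarOf
  exact Subgroup.map_subtype_le _

theorem dStarOf_comm (P : Subgroup G) [Finite P] [Group.IsNilpotent P] :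
    ∀ a ∈ Cfsg.dStarOf P, ∀ b ∈ Cfsg.dStarOf P, a * b = b * a := by
  have hfam := dStar_mem_dStarFamily (S := ↥P)
  have hcomm := (isMulCommutative_iff _).mp hfam.1
  rintro _ ⟨a, ha, rfl⟩ _ ⟨b, hb, rfl⟩
  exact congrArg Subtype.val (hcomm a ha b hb)

theorem dStarOf_conj_mem (P : Subgroup G) {s : G} (hs : s ∈ P) {a : G} (ha : a ∈ Cfsg.dStarOf P) :
    s * a * s⁻¹ ∈ Cfsg.dStarOf P := by
  obtain ⟨a', ha', rfl⟩ := ha
  have := (dStar_normal (S := ↥P)).conj_mem a' ha' ⟨s, hs⟩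
  exact ⟨_, this, rfl⟩

/-- the `D*`-property, read off inside the ambient group -/
theorem dStarOf_apply (P : Subgroup G) [Finite P] [Group.IsNilpotent P] {x : G} (hx : x ∈ P)
    (M : Subgroup G) (hMD : ∀ m ∈ M, ∀ a ∈ Cfsg.dStarOf P, m * a = a * m)
    (hMx : ∀ m ∈ M, m * x = x * m) (hax : ∀ a ∈ Cfsg.dStarOf P, ⁅a, x⁆ ∈ M) :
    ∀ a ∈ Cfsg.dStarOf P, a * x = x * a := by
  have hfam := dStar_mem_dStarFamily (S := ↥P)
  have hcomm := (isMulCommutative_iff _).mp hfam.1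
  have hcl := class_two_of_commutators (Cfsg.dStar ↥P) hcomm ⟨x, hx⟩ (M.comap P.subtype)
    (fun m hm a ha => Subtype.ext (hMD m hm a (Subgroup.mem_map_of_mem _ ha)))
    (fun m hm => Subtype.ext (hMx m hm))
    (fun a ha => by
      rw [Subgroup.mem_comap]
      have e : P.subtype ⁅a, (⟨x, hx⟩ : ↥P)⁆ = ⁅(a : G), x⁆ := by
        rw [map_commutatorElement]; rfl
      rw [e]
      exact hax _ (Subgroup.mem_map_of_mem _ ha))
  rintro _ ⟨a, ha, rfl⟩
  exact congrArg Subtype.val (hfam.2 ⟨x, hx⟩ hcl a ha)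

/-- a criterion for lying in `D*(P)` -/
theorem le_dStarOf (P : Subgroup G) (M₀ : Subgroup G) (hle : M₀ ≤ P)
    (hab : ∀ a ∈ M₀, ∀ b ∈ M₀, a * b = b * a)
    (h : ∀ x ∈ P, (∀ m ∈ M₀, ⁅m, x⁆ * x = x * ⁅m, x⁆) → ∀ m ∈ M₀, m * x = x * m) :
    M₀ ≤ Cfsg.dStarOf P := by
  have hmem : M₀.subgroupOf P ∈ Cfsg.dStarFamily ↥P := by
    refine ⟨(isMulCommutative_iff _).mpr ?_, ?_⟩
    · intro a ha b hb
      exact Subtype.ext (hab a ha b hb)
    · intro x hx a ha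
      apply Subtype.ext
      refine h x x.2 ?_ a ha
      intro m hm
      have hm' : (⟨m, hle hm⟩ : ↥P) ∈ M₀.subgroupOf P := hm
      have h1 : (⟨m, hle hm⟩ : ↥P) ∈ M₀.subgroupOf P ⊔ Subgroup.zpowers x :=
        Subgroup.mem_sup_left hm'
      have h2 : x ∈ M₀.subgroupOf P ⊔ Subgroup.zpowers x :=
        Subgroup.mem_sup_right (Subgroup.mem_zpowers x)
      have h3 : ⁅⁅(⟨m, hle hm⟩ : ↥P), x⁆, x⁆ ∈
          ⁅⁅M₀.subgroupOf P ⊔ Subgroup.zpowers x, M₀.subgroupOf P ⊔ Subgroup.zpowers x⁆,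
            M₀.subgroupOf P ⊔ Subgroup.zpowers x⁆ :=
        Subgroup.commutator_mem_commutator (Subgroup.commutator_mem_commutator h1 h2) h2
      rw [hx, Subgroup.mem_bot, commutatorElement_eq_one_iff_mul_comm] at h3
      exact congrArg Subtype.val h3
  have h1 : M₀.subgroupOf P ≤ Cfsg.dStar ↥P := le_sSup hmem
  have h2 := Subgroup.map_mono (f := P.subtype) h1
  rwa [Subgroup.map_subgroupOf_eq_of_le hle] at h2

end dstarthm

section dstarmain

variable {G : Type*} [Group G] [Finite G] {p : ℕ} [Fact p.Prime]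

/-- upgrading `[m, y]` commutes with `y` (for all `m` in an abelian normal subgroup) to the quadratic condition -/
theorem quad_of_generator (M₀ : Subgroup G) [hM₀n : M₀.Normal] (y : G)
    (hy : ∀ m ∈ M₀, ⁅m, y⁆ * y = y * ⁅m, y⁆) :
    ⁅⁅M₀, Subgroup.zpowers y⁆, Subgroup.zpowers y⁆ = ⊥ := by
  set L : Subgroup G := M₀ ⊓ Subgroup.centralizer {y} with hL
  let T : Subgroup G :=
    { carrier := {z | z ∈ Subgroup.centralizer (L : Set G) ∧ ∀ m ∈ M₀, ⁅m, z⁆ ∈ L}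
      one_mem' := by
        refine ⟨Subgroup.one_mem _, fun m _ => ?_⟩
        rw [commutatorElement_one_right]; exact L.one_mem
      mul_mem' := by
        rintro z₁ z₂ ⟨hz₁, h₁⟩ ⟨hz₂, h₂⟩
        refine ⟨Subgroup.mul_mem _ hz₁ hz₂, fun m hm => ?_⟩
        have e : ⁅m, z₁ * z₂⁆ = ⁅m, z₁⁆ * (z₁ * ⁅m, z₂⁆ * z₁⁻¹) := by
          simp only [commutatorElement_def]; group
        have hc : z₁ * ⁅m, z₂⁆ = ⁅m, z₂⁆ * z₁ :=
          (Subgroup.mem_centralizer_iff.mp hz₁ _ (h₂ m hm)).symm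
        rw [e, hc, mul_inv_cancel_right]
        exact L.mul_mem (h₁ m hm) (h₂ m hm)
      inv_mem' := by
        rintro z ⟨hz, h⟩
        refine ⟨Subgroup.inv_mem _ hz, fun m hm => ?_⟩
        have e : ⁅m, z⁻¹⁆ = z⁻¹ * ⁅m, z⁆⁻¹ * z := by
          simp only [commutatorElement_def]; group
        have hc : ⁅m, z⁆⁻¹ * z = z * ⁅m, z⁆⁻¹ :=
          Subgroup.mem_centralizer_iff.mp hz _ (L.inv_mem (h m hm))
        rw [e, mul_assoc, hc, inv_mul_cancel_left]
        exact L.inv_mem (h m hm) }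
  have hyT : y ∈ T := by
    refine ⟨?_, fun m hm => ⟨?_, ?_⟩⟩
    · rw [Subgroup.mem_centralizer_iff]
      intro l hl
      exact Subgroup.mem_centralizer_singleton_iff.mp hl.2
    · rw [commutatorElement_def]
      have : m * y * m⁻¹ * y⁻¹ = m * (y * m⁻¹ * y⁻¹) := by group
      rw [this]
      exact M₀.mul_mem hm (hM₀n.conj_mem _ (M₀.inv_mem hm) y)
    · exact Subgroup.mem_centralizer_singleton_iff.mpr (hy m hm)
  rw [Cfsg.Agent.H1.quad_iff]
  intro v hv i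
  have h1 : y ^ i ∈ T := T.zpow_mem hyT i
  have h2 : ⁅v, y ^ i⁆ ∈ L := h1.2 v hv
  exact Subgroup.mem_centralizer_singleton_iff.mp h2.2

theorem dStarOf_sylow_normal
    (hc : Subgroup.centralizer (Cfsg.pCore p G : Set G) ≤ Cfsg.pCore p G)
    (hst : ∀ (P : Subgroup G) [P.Normal], IsPGroup p P → Cfsg.IsPStableOn p P) (S : Sylow p G) :
    (Cfsg.dStarOf (S : Subgroup G)).Normal := by
  haveI : Group.IsNilpotent ↥(S : Subgroup G) := S.isPGroup'.isNilpotent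
  set D := Cfsg.dStarOf (S : Subgroup G) with hD
  set Q := Cfsg.pCore p G with hQ
  haveI hQn : Q.Normal := Cfsg.Agent.H1.pCore_normal p
  have hQp : IsPGroup p Q := Cfsg.Agent.H1.pCore_isPGroup p
  have hQS : Q ≤ (S : Subgroup G) := Cfsg.Agent.H1.pCore_le_sylow S
  have hDS : D ≤ (S : Subgroup G) := dStarOf_le _
  have hDc : ∀ a ∈ D, ∀ b ∈ D, a * b = b * a := dStarOf_comm _
  have hDn : ∀ s ∈ (S : Subgroup G), ∀ a ∈ D, s * a * s⁻¹ ∈ D := fun s hs a ha =>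
    dStarOf_conj_mem _ hs ha
  -- Step 1: `D ≤ Q`
  have hDQ : D ≤ Q := by
    intro a ha
    have hquad : ⁅⁅Q, Subgroup.zpowers a⁆, Subgroup.zpowers a⁆ = ⊥ := by
      have h1 : ⁅Q, Subgroup.zpowers a⁆ ≤ D := by
        rw [Subgroup.commutator_le]
        intro q hq z hz
        have hzD : z ∈ D := (Subgroup.zpowers_le.mpr ha) hz
        rw [commutatorElement_def]
        exact D.mul_mem (hDn q (hQS hq) z hzD) (D.inv_mem hzD)
      have h2 : ⁅D, Subgroup.zpowers a⁆ = ⊥ := by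
        rw [Subgroup.commutator_eq_bot_iff_le_centralizer]
        intro d hd
        rw [Subgroup.mem_centralizer_iff]
        intro z hz
        exact hDc z ((Subgroup.zpowers_le.mpr ha) hz) d hd
      rw [eq_bot_iff, ← h2]
      exact Subgroup.commutator_mono h1 le_rfl
    have h3 := hst Q hQp a hquad
    set C := Subgroup.centralizer (Q : Set G) with hC
    have hCp : IsPGroup p C := hQp.to_le hc
    have hTp : IsPGroup p ((Cfsg.pCore p (G ⧸ C)).comap (QuotientGroup.mk' C)) := by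
      apply IsPGroup.comap_of_ker_isPGroup (Cfsg.Agent.H1.pCore_isPGroup p)
      rw [QuotientGroup.ker_mk']
      exact hCp
    have hTn : ((Cfsg.pCore p (G ⧸ C)).comap (QuotientGroup.mk' C)).Normal :=
      Subgroup.Normal.comap (Cfsg.Agent.H1.pCore_normal p) _
    exact Cfsg.Agent.H1.le_pCore hTn hTp (Subgroup.mem_comap.mpr h3)
  -- Step 2: `D` commutes with its conjugates
  have hconj : ∀ g : G, ∀ d ∈ D, ∀ e ∈ D, d * (g * e * g⁻¹) = (g * e * g⁻¹) * d := by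
    intro g d hd e he
    set Dg := D.map (MulAut.conj g).toMonoidHom with hDg
    have hyDg : g * e * g⁻¹ ∈ Dg := ⟨e, he, rfl⟩
    have hyQ : g * e * g⁻¹ ∈ Q := hQn.conj_mem e (hDQ he) g
    refine dStarOf_apply (S : Subgroup G) (hQS hyQ) (D ⊓ Dg) ?_ ?_ ?_ d hd
    · intro m hm a ha
      exact hDc m hm.1 a ha
    · rintro m ⟨-, m₀, hm₀, rfl⟩
      show g * m₀ * g⁻¹ * (g * e * g⁻¹) = g * e * g⁻¹ * (g * m₀ * g⁻¹)
      have := hDc m₀ hm₀ e he
      calc g * m₀ * g⁻¹ * (g * e * g⁻¹) = g * (m₀ * e) * g⁻¹ := by group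
        _ = g * (e * m₀) * g⁻¹ := by rw [this]
        _ = g * e * g⁻¹ * (g * m₀ * g⁻¹) := by group
    · intro a ha
      constructor
      · have e1 : ⁅a, g * e * g⁻¹⁆ = a * ((g * e * g⁻¹) * a⁻¹ * (g * e * g⁻¹)⁻¹) := by
          rw [commutatorElement_def]; group
        rw [e1]
        exact D.mul_mem ha (hDn _ (hQS hyQ) _ (D.inv_mem ha))
      · have haQ : g⁻¹ * a * g⁻¹⁻¹ ∈ Q := hQn.conj_mem a (hDQ ha) g⁻¹
        have h1 : (g⁻¹ * a * g⁻¹⁻¹) * e * (g⁻¹ * a * g⁻¹⁻¹)⁻¹ ∈ D := hDn _ (hQS haQ) e he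
        have e1 : ⁅a, g * e * g⁻¹⁆ =
            (g * ((g⁻¹ * a * g⁻¹⁻¹) * e * (g⁻¹ * a * g⁻¹⁻¹)⁻¹) * g⁻¹) * (g * e⁻¹ * g⁻¹) := by
          rw [commutatorElement_def]; group
        rw [e1]
        exact Dg.mul_mem ⟨_, h1, rfl⟩ ⟨_, D.inv_mem he, rfl⟩
  -- Step 3: the normal closure is abelian
  set M₀ := Subgroup.normalClosure (D : Set G) with hM₀
  haveI hM₀n : M₀.Normal := Subgroup.normalClosure_normal
  have hM₀Q : M₀ ≤ Q := Subgroup.normalClosure_le_normal hDQ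
  have hDM₀ : D ≤ M₀ := Subgroup.le_normalClosure
  have hXcomm : ∀ u ∈ Group.conjugatesOfSet (D : Set G), ∀ v ∈ Group.conjugatesOfSet (D : Set G),
      u * v = v * u := by
    intro u hu v hv
    rw [Group.mem_conjugatesOfSet_iff] at hu hv
    obtain ⟨d, hd, hdu⟩ := hu
    obtain ⟨e, he, hev⟩ := hv
    obtain ⟨g, rfl⟩ := isConj_iff.mp hdu
    obtain ⟨h, rfl⟩ := isConj_iff.mp hev
    have := hconj (g⁻¹ * h) d hd e he
    calc g * d * g⁻¹ * (h * e * h⁻¹) = g * (d * (g⁻¹ * h * e * (g⁻¹ * h)⁻¹)) * g⁻¹ := by group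
      _ = g * ((g⁻¹ * h * e * (g⁻¹ * h)⁻¹) * d) * g⁻¹ := by rw [this]
      _ = h * e * h⁻¹ * (g * d * g⁻¹) := by group
  have hM₀c : ∀ u ∈ M₀, ∀ v ∈ M₀, u * v = v * u := by
    have h1 : M₀ ≤ Subgroup.centralizer (Group.conjugatesOfSet (D : Set G)) := by
      rw [hM₀, Subgroup.normalClosure, Subgroup.closure_le]
      intro u hu
      rw [SetLike.mem_coe, Subgroup.mem_centralizer_iff]
      intro v hv
      exact hXcomm v hv u hu
    have h2 : M₀ ≤ Subgroup.centralizer (M₀ : Set G) := by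
      rw [Subgroup.le_centralizer_iff]
      conv_lhs => rw [hM₀, Subgroup.normalClosure]
      rw [Subgroup.closure_le]
      intro u hu
      rw [SetLike.mem_coe, Subgroup.mem_centralizer_iff]
      intro v hv
      exact (Subgroup.mem_centralizer_iff.mp (h1 hv) u hu).symm
    intro u hu v hv
    exact (Subgroup.mem_centralizer_iff.mp (h2 hv) u hu)
  -- Step 4: elements acting quadratically on `M₀` centralize `D`
  have hK : ∀ y : G, (∀ m ∈ M₀, ⁅m, y⁆ * y = y * ⁅m, y⁆) → ∀ d ∈ D, d * y = y * d := by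
    intro y hy
    have hquad := quad_of_generator M₀ y hy
    have h3 := hst M₀ (hQp.to_le hM₀Q) y hquad
    obtain ⟨s, hs, hsc⟩ := Cfsg.Agent.H1.exists_mem_sylow_of_mk_mem_pCore
      (Subgroup.centralizer (M₀ : Set G)) S y h3
    set c := s⁻¹ * y with hcdef
    have hyc : y = s * c := by rw [hcdef]; group
    have hcm : ∀ m ∈ M₀, m * c = c * m := fun m hm => Subgroup.mem_centralizer_iff.mp hsc m hm
    have hcomm_s : ∀ m ∈ M₀, ⁅m, s⁆ = ⁅m, y⁆ := by
      intro m hm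
      have h1 : c * m⁻¹ = m⁻¹ * c := (hcm _ (M₀.inv_mem hm)).symm
      have hsy : s = y * c⁻¹ := by rw [hyc]; group
      calc ⁅m, s⁆ = m * y * (c⁻¹ * m⁻¹ * c) * y⁻¹ := by
            rw [commutatorElement_def, hsy]; group
        _ = m * y * m⁻¹ * y⁻¹ := by
            have : c⁻¹ * m⁻¹ * c = m⁻¹ := by rw [mul_assoc, ← h1, inv_mul_cancel_left]
            rw [this]
    have hmem_y : ∀ m ∈ M₀, ⁅m, y⁆ ∈ M₀ := by
      intro m hm
      have : ⁅m, y⁆ = m * (y * m⁻¹ * y⁻¹) := by rw [commutatorElement_def]; group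
      rw [this]
      exact M₀.mul_mem hm (hM₀n.conj_mem _ (M₀.inv_mem hm) y)
    have hs_comm : ∀ m ∈ M₀, ⁅m, s⁆ * s = s * ⁅m, s⁆ := by
      intro m hm
      rw [hcomm_s m hm]
      have h1 := hy m hm
      have h2 := hcm _ (hmem_y m hm)
      have hsy : s = y * c⁻¹ := by rw [hyc]; group
      have h3' : ⁅m, y⁆ * c⁻¹ = c⁻¹ * ⁅m, y⁆ := by
        calc ⁅m, y⁆ * c⁻¹ = c⁻¹ * (c * ⁅m, y⁆) * c⁻¹ := by group
          _ = c⁻¹ * (⁅m, y⁆ * c) * c⁻¹ := by rw [h2]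
          _ = c⁻¹ * ⁅m, y⁆ := by group
      rw [hsy, ← mul_assoc, h1, mul_assoc, h3', ← mul_assoc]
    have hDs : ∀ a ∈ D, a * s = s * a := by
      refine dStarOf_apply (S : Subgroup G) hs (M₀ ⊓ Subgroup.centralizer {s}) ?_ ?_ ?_
      · intro m hm a ha
        exact hM₀c m hm.1 a (hDM₀ ha)
      · intro m hm
        exact Subgroup.mem_centralizer_singleton_iff.mp hm.2
      · intro a ha
        refine ⟨?_, ?_⟩
        · rw [hcomm_s a (hDM₀ ha)]
          exact hmem_y a (hDM₀ ha)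
        · exact Subgroup.mem_centralizer_singleton_iff.mpr (hs_comm a (hDM₀ ha))
    intro d hd
    rw [hyc, ← mul_assoc, hDs d hd, mul_assoc, hcm d (hDM₀ hd), ← mul_assoc]
  -- Step 5: `M₀ ≤ D`
  have hM₀D : M₀ ≤ D := by
    apply le_dStarOf (S : Subgroup G) M₀ (hM₀Q.trans hQS) hM₀c
    intro x _ hxq
    have hcent : M₀ ≤ Subgroup.centralizer {x} := by
      rw [hM₀, Subgroup.normalClosure, Subgroup.closure_le]
      intro u hu
      rw [Group.mem_conjugatesOfSet_iff] at hu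
      obtain ⟨d, hd, hdu⟩ := hu
      obtain ⟨g, rfl⟩ := isConj_iff.mp hdu
      rw [SetLike.mem_coe, Subgroup.mem_centralizer_singleton_iff]
      have hq : ∀ m ∈ M₀, ⁅m, g⁻¹ * x * g⁆ * (g⁻¹ * x * g) = (g⁻¹ * x * g) * ⁅m, g⁻¹ * x * g⁆ := by
        intro m hm
        have hm' : g * m * g⁻¹ ∈ M₀ := hM₀n.conj_mem m hm g
        have h1 := hxq _ hm'
        have e1 : ⁅m, g⁻¹ * x * g⁆ = g⁻¹ * ⁅g * m * g⁻¹, x⁆ * g := by
          simp only [commutatorElement_def]; group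
        rw [e1]
        calc g⁻¹ * ⁅g * m * g⁻¹, x⁆ * g * (g⁻¹ * x * g)
            = g⁻¹ * (⁅g * m * g⁻¹, x⁆ * x) * g := by group
          _ = g⁻¹ * (x * ⁅g * m * g⁻¹, x⁆) * g := by rw [h1]
          _ = g⁻¹ * x * g * (g⁻¹ * ⁅g * m * g⁻¹, x⁆ * g) := by group
      have h2 := hK (g⁻¹ * x * g) hq d hd
      calc g * d * g⁻¹ * x = g * (d * (g⁻¹ * x * g)) * g⁻¹ := by group
        _ = g * ((g⁻¹ * x * g) * d) * g⁻¹ := by rw [h2]
        _ = x * (g * d * g⁻¹) := by group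
    intro m hm
    exact Subgroup.mem_centralizer_singleton_iff.mp (hcent hm)
  have hDeq : D = M₀ := le_antisymm hDM₀ hM₀D
  rw [hDeq]
  exact hM₀n

end dstarmain


end Cfsg.Agent.Lib.Helper7
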