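import Mathlib
import Cfsg.Agent.H2.ConjUnion

set_option autoImplicit false

namespace Cfsg.Agent.Lib.Helper7.Der

open MulAction

variable {G : Type*} [Group G] {Ω : Type*} [MulAction G Ω]

/-- a derangement: an element without fixed points -/
def IsDer (Ω : Type*) [MulAction G Ω] (g : G) : Prop := ∀ ω : Ω, g • ω ≠ ω

theorem isDer_conj {g : G} (x : G) (h : IsDer Ω g) : IsDer Ω (x * g * x⁻¹) := by
  intro ω hω
  apply h (x⁻¹ • ω)
  have : x⁻¹ • ((x * g * x⁻¹) • ω) = x⁻¹ • ω := by rw [hω]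
  rw [mul_smul, mul_smul, inv_smul_smul] at this
  exact this

theorem isDer_of_isConj {g h : G} (hc : IsConj g h) (hg : IsDer Ω g) : IsDer Ω h := by
  obtain ⟨c, hc⟩ := isConj_iff.mp hc
  rw [← hc]
  exact isDer_conj c hg

theorem IsDer.ne_one [Nonempty Ω] {g : G} (h : IsDer Ω g) : g ≠ 1 := by
  rintro rfl
  obtain ⟨ω⟩ := ‹Nonempty Ω›
  exact h ω (one_smul _ _)

/-- transitivity of a subgroup, as a bare proposition -/
def Trans (Ω : Type*) [MulAction G Ω] (H : Subgroup G) : Prop := ∀ a b : Ω, ∃ h ∈ H, h • a = b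

/-- relative form of: a finite group is not the union of the conjugates of a proper subgroup -/
theorem exists_not_conj_mem [Finite G] {H S : Subgroup G} (hS : S ≤ H) (hne : S ≠ H) :
    ∃ g ∈ H, ∀ x ∈ H, x⁻¹ * g * x ∉ S := by
  have hne' : S.subgroupOf H ≠ ⊤ := by
    intro h
    rw [Subgroup.subgroupOf_eq_top] at h
    exact hne (le_antisymm hS h)
  obtain ⟨g, hg⟩ := Cfsg.Agent.H2.exists_not_mem_conj_of_ne_top (S.subgroupOf H) hne'
  refine ⟨g, g.2, fun x hx hmem => ?_⟩
  apply hg ⟨x, hx⟩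
  rw [Cfsg.Agent.H2.mem_map_conj_iff, Subgroup.mem_subgroupOf]
  simpa using hmem

/-- a transitive subgroup (on at least two points) contains a derangement -/
theorem exists_isDer_of_trans [Finite G] [Fintype Ω] (hΩ : 2 ≤ Fintype.card Ω) {H : Subgroup G}
    (hH : Trans Ω H) : ∃ h ∈ H, IsDer Ω h := by
  have hnt : Nontrivial Ω := Fintype.one_lt_card_iff_nontrivial.mp (by omega)
  obtain ⟨α, β, hαβ⟩ := exists_pair_ne Ω
  have hS : H ⊓ stabilizer G α ≤ H := inf_le_left
  have hne : H ⊓ stabilizer G α ≠ H := by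
    intro h
    obtain ⟨x, hx, hxα⟩ := hH α β
    have : x ∈ H ⊓ stabilizer G α := by rw [h]; exact hx
    exact hαβ (hxα ▸ (mem_stabilizer_iff.mp this.2).symm)
  obtain ⟨g, hg, hgc⟩ := exists_not_conj_mem hS hne
  refine ⟨g, hg, fun ω hω => ?_⟩
  obtain ⟨x, hx, hxα⟩ := hH α ω
  apply hgc x hx
  refine ⟨H.mul_mem (H.mul_mem (H.inv_mem hx) hg) hx, ?_⟩
  show x⁻¹ * g * x ∈ stabilizer G α
  rw [mem_stabilizer_iff, mul_smul, mul_smul, hxα, hω, ← hxα, inv_smul_smul]

/-- in a faithful primitive action every nontrivial normal subgroup is transitive -/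
theorem trans_of_normal [FaithfulSMul G Ω] (hprim : IsPreprimitive G Ω) {N : Subgroup G}
    (hN : N.Normal) (hN1 : N ≠ ⊥) : Trans Ω N := by
  have hfix : fixedPoints N Ω ≠ Set.univ := by
    intro h
    apply hN1
    rw [Subgroup.eq_bot_iff_forall]
    intro n hn
    apply FaithfulSMul.eq_of_smul_eq_smul (α := Ω)
    intro ω
    have : ω ∈ fixedPoints N Ω := by rw [h]; trivial
    rw [one_smul]
    exact this ⟨n, hn⟩
  have := IsQuasiPreprimitive.isPretransitive_of_normal (G := G) (X := Ω) (N := N) hfix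
  intro a b
  obtain ⟨n, hn⟩ := this.exists_smul_eq a b
  exact ⟨n, n.2, hn⟩

end Cfsg.Agent.Lib.Helper7.Der
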