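import Mathlib
import Cfsg.Agent.Lib.Helper7.Der1
import Cfsg.Agent.Lib.Helper8.Derangement

set_option autoImplicit false

namespace Cfsg.Agent.Lib.Helper7.Der

open MulAction

variable {G : Type*} [Group G] {Ω : Type*} [MulAction G Ω]

theorem card_classes_eq_one_iff :
    Nat.card {c : ConjClasses G // ∃ g : G, ConjClasses.mk g = c ∧ IsDer Ω g} = 1 ↔
      (∃ g : G, IsDer Ω g) ∧ ∀ g h : G, IsDer Ω g → IsDer Ω h → IsConj g h := by
  rw [Nat.card_eq_one_iff_unique]
  constructor
  · rintro ⟨hsub, ⟨⟨c, g, hg, hd⟩⟩⟩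
    refine ⟨⟨g, hd⟩, fun g₁ g₂ h₁ h₂ => ?_⟩
    have := hsub.elim ⟨ConjClasses.mk g₁, g₁, rfl, h₁⟩ ⟨ConjClasses.mk g₂, g₂, rfl, h₂⟩
    exact ConjClasses.mk_eq_mk_iff_isConj.mp (congrArg Subtype.val this)
  · rintro ⟨⟨g, hd⟩, hall⟩
    refine ⟨⟨?_⟩, ⟨⟨ConjClasses.mk g, g, rfl, hd⟩⟩⟩
    rintro ⟨c₁, g₁, rfl, h₁⟩ ⟨c₂, g₂, rfl, h₂⟩
    exact Subtype.ext (ConjClasses.mk_eq_mk_iff_isConj.mpr (hall g₁ g₂ h₁ h₂))

/-- counting derangements in a sharply 2-transitive group: at most `n - 1` -/
theorem card_der_le [Finite G] [Fintype Ω] (hΩ : 2 ≤ Fintype.card Ω)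
    (htr : IsPretransitive G Ω)
    (hsharp : ∀ g : G, g ≠ 1 → ∀ a b : Ω, a ≠ b → g • a = a → g • b ≠ b) :
    Nat.card {g : G // IsDer Ω g} + 1 ≤ Fintype.card Ω := by
  classical
  haveI : Fintype G := Fintype.ofFinite G
  have hne : Nonempty Ω := Fintype.card_pos_iff.mp (by omega)
  have hB := Cfsg.Agent.Lib.Helper8.Derangement.burnside G Ω
  have horb : Nat.card (orbitRel.Quotient G Ω) = 1 := by
    rw [Nat.card_eq_one_iff_unique]
    refine ⟨⟨?_⟩, ⟨Quotient.mk'' hne.some⟩⟩
    intro a b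
    induction a using Quotient.inductionOn' with | _ a => ?_
    induction b using Quotient.inductionOn' with | _ b => ?_
    apply Quotient.sound'
    obtain ⟨g, hg⟩ := htr.exists_smul_eq b a
    exact (orbitRel_apply).mpr ⟨g, hg⟩
  rw [horb, one_mul] at hB
  have key : ∀ g : G, Nat.card (fixedBy Ω g) + (if IsDer Ω g then 1 else 0) ≤
      1 + (if g = 1 then Fintype.card Ω - 1 else 0) := by
    intro g
    by_cases hg : g = 1
    · subst hg
      have h1 : ¬ IsDer Ω (1 : G) := fun h => h.ne_one rfl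
      rw [if_neg h1, if_pos rfl]
      have : Nat.card (fixedBy Ω (1 : G)) ≤ Fintype.card Ω := by
        rw [← Nat.card_eq_fintype_card]
        exact Nat.card_le_card_of_injective _ Subtype.val_injective
      omega
    · rw [if_neg hg]
      by_cases hd : IsDer Ω g
      · rw [if_pos hd]
        have : IsEmpty (fixedBy Ω g) := ⟨fun ⟨ω, hω⟩ => hd ω hω⟩
        rw [Nat.card_of_isEmpty]
      · rw [if_neg hd]
        have : Subsingleton (fixedBy Ω g) := by
          refine ⟨fun ⟨a, ha⟩ ⟨b, hb⟩ => ?_⟩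
          by_contra hab
          have hab' : a ≠ b := fun h => hab (Subtype.ext h)
          exact hsharp g hg a b hab' ha hb
        have := Finite.card_le_one_iff_subsingleton.mpr this
        omega
  have hsum := Finset.sum_le_sum (fun g (_ : g ∈ Finset.univ) => key g)
  rw [Finset.sum_add_distrib, Finset.sum_add_distrib, hB] at hsum
  have h1 : ∑ g : G, (if IsDer Ω g then 1 else 0) = Nat.card {g : G // IsDer Ω g} := by
    rw [Finset.sum_boole, Nat.card_eq_fintype_card, Fintype.card_subtype]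
    simp
  have h2 : ∑ g : G, (if g = 1 then Fintype.card Ω - 1 else 0) = Fintype.card Ω - 1 := by
    rw [Finset.sum_ite_eq']
    simp
  have h3 : ∑ _g : G, 1 = Nat.card G := by
    rw [Finset.sum_const, Nat.card_eq_fintype_card]
    simp
  rw [h1, h2, h3] at hsum
  omega

/-- sharply 2-transitive ⇒ the derangements form a single class -/
theorem classes_of_sharp [Finite G] [Fintype Ω] (hΩ : 2 ≤ Fintype.card Ω)
    (h2 : IsMultiplyPretransitive G Ω 2)
    (hsharp : ∀ g : G, g ≠ 1 → ∀ a b : Ω, a ≠ b → g • a = a → g • b ≠ b) :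
    Nat.card {c : ConjClasses G // ∃ g : G, ConjClasses.mk g = c ∧ IsDer Ω g} = 1 := by
  classical
  have htr : IsPretransitive G Ω := isPretransitive_of_is_two_pretransitive
  have hnt : Nontrivial Ω := Fintype.one_lt_card_iff_nontrivial.mp (by omega)
  rw [card_classes_eq_one_iff]
  have htop : Trans Ω (⊤ : Subgroup G) := fun a b => by
    obtain ⟨g, hg⟩ := htr.exists_smul_eq a b
    exact ⟨g, trivial, hg⟩
  obtain ⟨d, -, hd⟩ := exists_isDer_of_trans hΩ htop
  refine ⟨⟨d, hd⟩, ?_⟩
  have hcard := card_der_le hΩ htr hsharp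
  obtain ⟨α, β₀, hαβ⟩ := exists_pair_ne Ω
  -- the stabilizer has at least n - 1 elements
  have hstab : Fintype.card Ω ≤ Nat.card (stabilizer G α) + 1 := by
    have hsurj : Function.Surjective (fun h : stabilizer G α => (⟨(h : G) • β₀, by
        intro he
        have : (h : G) • β₀ = (h : G) • α := by rw [he]; exact (mem_stabilizer_iff.mp h.2).symm
        exact hαβ (smul_left_cancel _ this).symm⟩ : {ω : Ω // ω ≠ α})) := by
      rintro ⟨ω, hω⟩
      obtain ⟨g, hg1, hg2⟩ := (is_two_pretransitive_iff.mp h2) hαβ (Ne.symm hω)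
      exact ⟨⟨g, mem_stabilizer_iff.mpr hg1⟩, Subtype.ext hg2⟩
    have h1 := Nat.card_le_card_of_surjective _ hsurj
    have h2 : Nat.card {ω : Ω // ω ≠ α} = Fintype.card Ω - 1 := by
      rw [Nat.card_eq_fintype_card, Fintype.card_subtype_compl, Fintype.card_subtype_eq]
    omega
  intro x y hx hy
  -- conjugation map from the stabilizer to the derangements
  let φ : stabilizer G α → {g : G // IsDer Ω g} := fun h => ⟨(h : G) * x * (h : G)⁻¹, isDer_conj _ hx⟩
  have hinj : Function.Injective φ := by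
    intro h h' hh
    have hh' : (h : G) * x * (h : G)⁻¹ = (h' : G) * x * (h' : G)⁻¹ := congrArg Subtype.val hh
    set c : G := (h' : G)⁻¹ * (h : G) with hc
    have hcx : c * x = x * c := by
      have : c * x * c⁻¹ = x := by
        rw [hc]
        calc (h' : G)⁻¹ * (h : G) * x * ((h' : G)⁻¹ * (h : G))⁻¹
            = (h' : G)⁻¹ * ((h : G) * x * (h : G)⁻¹) * (h' : G) := by group
          _ = x := by rw [hh']; group
      calc c * x = c * x * c⁻¹ * c := by group
        _ = x * c := by rw [this]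
    have hcα : c • α = α := by
      rw [hc, mul_smul, mem_stabilizer_iff.mp h.2, inv_smul_eq_iff, mem_stabilizer_iff.mp h'.2]
    by_cases hc1 : c = 1
    · apply Subtype.ext
      have : (h : G) = (h' : G) * c := by rw [hc]; group
      rw [this, hc1, mul_one]
    · exfalso
      refine hsharp c hc1 α (x • α) (Ne.symm (hx α)) hcα ?_
      rw [← mul_smul, hcx, mul_smul, hcα]
  have hbij := hinj.bijective_of_nat_card_le (by omega)
  obtain ⟨h, hh⟩ := hbij.2 ⟨y, hy⟩
  have : (h : G) * x * (h : G)⁻¹ = y := congrArg Subtype.val hh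
  exact isConj_iff.mpr ⟨h, this⟩

end Cfsg.Agent.Lib.Helper7.Der
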