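import Mathlib
import Cfsg.Agent.Lib.Helper7.Der1

set_option autoImplicit false

namespace Cfsg.Agent.Lib.Helper7.Der

open MulAction

variable {G : Type*} [Group G] {Ω : Type*} [MulAction G Ω]

/-- a transitive abelian subgroup of a faithful action is semiregular -/
theorem semiregular_of_abelian [FaithfulSMul G Ω] {N : Subgroup G} (htr : Trans Ω N)
    (hab : ∀ a ∈ N, ∀ b ∈ N, a * b = b * a) {n : G} (hn : n ∈ N) {ω : Ω} (h : n • ω = ω) : n = 1 := by
  apply FaithfulSMul.eq_of_smul_eq_smul (α := Ω)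
  intro β
  obtain ⟨m, hm, hmβ⟩ := htr ω β
  rw [one_smul, ← hmβ, ← mul_smul, hab n hn m hm, mul_smul, h]

/-- the affine argument: a point stabilizer acts semiregularly on `N` -/
theorem not_comm_of_abelian [Finite G] [FaithfulSMul G Ω] {N : Subgroup G} (hN : N.Normal)
    (htr : Trans Ω N) (hab : ∀ a ∈ N, ∀ b ∈ N, a * b = b * a)
    (hder : ∀ g : G, IsDer Ω g → g ∈ N)
    {α : Ω} {h : G} (hα : h • α = α) (h1 : h ≠ 1) {v : G} (hv : v ∈ N) (hv1 : v ≠ 1) :
    h * v ≠ v * h := by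
  intro hcomm
  have hmem : ∀ u : N, h⁻¹ * (u : G) * h * (u : G)⁻¹ ∈ N := by
    intro u
    have : h⁻¹ * (u : G) * h⁻¹⁻¹ ∈ N := hN.conj_mem _ u.2 _
    rw [inv_inv] at this
    exact N.mul_mem this (N.inv_mem u.2)
  let ψ : N → N := fun u => ⟨h⁻¹ * (u : G) * h * (u : G)⁻¹, hmem u⟩
  have hninj : ¬ Function.Injective ψ := by
    intro hinj
    have h1' : ψ ⟨v, hv⟩ = ψ 1 := by
      apply Subtype.ext
      show h⁻¹ * v * h * v⁻¹ = h⁻¹ * ((1 : N) : G) * h * ((1 : N) : G)⁻¹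
      rw [Subgroup.coe_one]
      calc h⁻¹ * v * h * v⁻¹ = h⁻¹ * (v * h) * v⁻¹ := by group
        _ = h⁻¹ * (h * v) * v⁻¹ := by rw [hcomm]
        _ = h⁻¹ * 1 * h * 1⁻¹ := by group
    have := hinj h1'
    exact hv1 (congrArg Subtype.val this)
  have hnsurj : ¬ Function.Surjective ψ := fun hs => hninj (Finite.injective_iff_surjective.mpr hs)
  rw [Function.Surjective] at hnsurj
  push Not at hnsurj
  obtain ⟨w, hw⟩ := hnsurj
  have hdw : IsDer Ω (h * (w : G)) := by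
    intro β hβ
    obtain ⟨u, hu, huβ⟩ := htr α β
    set z : G := h⁻¹ * u⁻¹ * h * (w : G) * u with hz
    have hzN : z ∈ N := by
      have : h⁻¹ * u⁻¹ * h⁻¹⁻¹ ∈ N := hN.conj_mem _ (N.inv_mem hu) _
      rw [inv_inv] at this
      exact N.mul_mem (N.mul_mem this w.2) hu
    have hzα : z • α = α := by
      have e : z = h⁻¹ * (u⁻¹ * (h * (w : G)) * u) := by rw [hz]; group
      rw [e, mul_smul, mul_smul, mul_smul, huβ, hβ, ← huβ, inv_smul_smul, inv_smul_eq_iff, hα]
    have hz1 := semiregular_of_abelian htr hab hzN hzα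
    apply hw ⟨u, hu⟩
    apply Subtype.ext
    show h⁻¹ * u * h * u⁻¹ = (w : G)
    have : (w : G) = (h⁻¹ * u⁻¹ * h)⁻¹ * z * u⁻¹ := by rw [hz]; group
    rw [this, hz1]
    group
  have hhw := hder _ hdw
  have hhN : h ∈ N := by
    have := N.mul_mem hhw (N.inv_mem w.2)
    simpa using this
  exact h1 (semiregular_of_abelian htr hab hhN hα)

/-- abelian minimal normal subgroup case -/
theorem sharp_of_abelian [Finite G] [Fintype Ω] [FaithfulSMul G Ω]
    (hconj : ∀ g h : G, IsDer Ω g → IsDer Ω h → IsConj g h)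
    {N : Subgroup G} (hN : N.Normal) (htr : Trans Ω N) (hab : ∀ a ∈ N, ∀ b ∈ N, a * b = b * a)
    (hder : ∀ g : G, IsDer Ω g → g ∈ N) :
    IsMultiplyPretransitive G Ω 2 ∧
      ∀ g : G, g ≠ 1 → ∀ a b : Ω, a ≠ b → g • a = a → g • b ≠ b := by
  have hsharp : ∀ g : G, g ≠ 1 → ∀ a b : Ω, a ≠ b → g • a = a → g • b ≠ b := by
    intro g hg a b hab' hga hgb
    obtain ⟨v, hv, hvb⟩ := htr a b
    have hv1 : v ≠ 1 := by
      rintro rfl
      rw [one_smul] at hvb
      exact hab' hvb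
    set c : G := g⁻¹ * v⁻¹ * g * v with hc
    have hcN : c ∈ N := by
      have : g⁻¹ * v⁻¹ * g⁻¹⁻¹ ∈ N := hN.conj_mem _ (N.inv_mem hv) _
      rw [inv_inv] at this
      exact N.mul_mem this hv
    have hca : c • a = a := by
      rw [hc, mul_smul, mul_smul, mul_smul, hvb, hgb, ← hvb, inv_smul_smul, inv_smul_eq_iff, hga]
    have hc1 := semiregular_of_abelian htr hab hcN hca
    apply not_comm_of_abelian hN htr hab hder hga hg hv hv1
    have : g * v = v * g * c := by rw [hc]; group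
    rw [this, hc1, mul_one]
  refine ⟨?_, hsharp⟩
  rw [is_two_pretransitive_iff]
  intro a b c d hab' hcd
  obtain ⟨g₁, hg₁, hg₁a⟩ := htr a c
  obtain ⟨v, hv, hvb⟩ := htr a b
  obtain ⟨v', hv', hvd⟩ := htr a (g₁⁻¹ • d)
  have hv1 : v ≠ 1 := by
    rintro rfl
    rw [one_smul] at hvb
    exact hab' hvb
  have hv'1 : v' ≠ 1 := by
    rintro rfl
    rw [one_smul] at hvd
    apply hcd
    rw [← hg₁a, hvd, smul_inv_smul]
  have hdv : IsDer Ω v := fun ω hω => hv1 (semiregular_of_abelian htr hab hv hω)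
  have hdv' : IsDer Ω v' := fun ω hω => hv'1 (semiregular_of_abelian htr hab hv' hω)
  obtain ⟨x, hx⟩ := isConj_iff.mp (hconj v v' hdv hdv')
  obtain ⟨m, hm, hma⟩ := htr a (x • a)
  set h : G := m⁻¹ * x with hh
  have hha : h • a = a := by
    rw [hh, mul_smul, inv_smul_eq_iff, hma]
  have hhv : h * v * h⁻¹ = v' := by
    have e : h * v * h⁻¹ = m⁻¹ * (x * v * x⁻¹) * m := by rw [hh]; group
    rw [e, hx]
    have := hab v' hv' m hm
    calc m⁻¹ * v' * m = m⁻¹ * (v' * m) := by group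
      _ = m⁻¹ * (m * v') := by rw [this]
      _ = v' := by group
  refine ⟨g₁ * h, ?_, ?_⟩
  · rw [mul_smul, hha, hg₁a]
  · have : h • b = g₁⁻¹ • d := by
      rw [← hvb, ← hvd, ← hhv]
      have e : (h * v * h⁻¹) • a = (h * v * h⁻¹) • (h • a) := by rw [hha]
      rw [e, ← mul_smul, ← mul_smul]
      congr 1
      group
    rw [mul_smul, this, smul_inv_smul]

end Cfsg.Agent.Lib.Helper7.Der
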