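import Mathlib
import Cfsg.Agent.Lib.Helper7.Der1

set_option autoImplicit false

namespace Cfsg.Agent.Lib.Helper7.Der

open MulAction

variable {G : Type*} [Group G] {Ω : Type*} [MulAction G Ω]

/-- conjugate of a subgroup -/
abbrev cj (g : G) (T : Subgroup G) : Subgroup G := T.map (MulAut.conj g).toMonoidHom

/-- configuration: `N` minimal normal, nonabelian, `T` a minimal `N`-invariant subgroup, `T ≠ N` -/
structure Cfg (Ω : Type*) [MulAction G Ω] (N T : Subgroup G) : Prop where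
  hN : N.Normal
  htr : Trans Ω N
  hmin : ∀ M : Subgroup G, M.Normal → M ≠ ⊥ → M ≤ N → M = N
  hnonab : ¬ ∀ a ∈ N, ∀ b ∈ N, a * b = b * a
  hTN : T ≤ N
  hT1 : T ≠ ⊥
  hTne : T ≠ N
  hTnorm : ∀ n ∈ N, ∀ t ∈ T, n * t * n⁻¹ ∈ T
  hTmin : ∀ S : Subgroup G, S ≤ T → S ≠ ⊥ → (∀ n ∈ N, ∀ s ∈ S, n * s * n⁻¹ ∈ S) → S = T

variable {N T : Subgroup G}

theorem mem_cj_iff (g x : G) (T : Subgroup G) : x ∈ cj g T ↔ g⁻¹ * x * g ∈ T :=
  Cfsg.Agent.H2.mem_map_conj_iff T g x

theorem Cfg.cj_le (c : Cfg Ω N T) (g : G) : cj g T ≤ N := by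
  intro x hx
  rw [mem_cj_iff] at hx
  have h1 := c.hTN hx
  have := c.hN.conj_mem _ h1 g
  have e : g * (g⁻¹ * x * g) * g⁻¹ = x := by group
  rwa [e] at this

theorem Cfg.cj_norm (c : Cfg Ω N T) (g : G) : ∀ n ∈ N, ∀ s ∈ cj g T, n * s * n⁻¹ ∈ cj g T := by
  intro n hn s hs
  rw [mem_cj_iff] at hs ⊢
  have hn' : g⁻¹ * n * g ∈ N := by
    have := c.hN.conj_mem _ hn g⁻¹
    rwa [inv_inv] at this
  have := c.hTnorm _ hn' _ hs
  have e : g⁻¹ * n * g * (g⁻¹ * s * g) * (g⁻¹ * n * g)⁻¹ = g⁻¹ * (n * s * n⁻¹) * g := by group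
  rwa [e] at this

theorem card_cj [Finite G] (g : G) (T : Subgroup G) : Nat.card (cj g T) = Nat.card T :=
  Subgroup.card_map_of_injective (MulAut.conj g).injective

/-- distinct conjugates of `T` commute elementwise -/
theorem Cfg.comm_of_ne [Finite G] (c : Cfg Ω N T) {g : G} (hg : cj g T ≠ T) :
    ∀ t ∈ T, ∀ s ∈ cj g T, t * s = s * t := by
  have hbot : T ⊓ cj g T = ⊥ := by
    by_contra hne
    have := c.hTmin (T ⊓ cj g T) (inf_le_left : T ⊓ cj g T ≤ T) hne (fun n hn s hs =>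
      Subgroup.mem_inf.mpr ⟨c.hTnorm n hn s (Subgroup.mem_inf.mp hs).1,
        c.cj_norm g n hn s (Subgroup.mem_inf.mp hs).2⟩)
    have hle : T ≤ cj g T := by
      intro x hx
      have hx' : x ∈ T ⊓ cj g T := by rw [this]; exact hx
      exact (Subgroup.mem_inf.mp hx').2
    have := Subgroup.eq_of_le_of_card_ge hle (by rw [card_cj])
    exact hg this.symm
  intro t ht s hs
  have h1 : t * s * t⁻¹ * s⁻¹ ∈ T := by
    have hsN : s ∈ N := c.cj_le g hs
    have := c.hTnorm s hsN t⁻¹ (T.inv_mem ht)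
    have e : t * s * t⁻¹ * s⁻¹ = t * (s * t⁻¹ * s⁻¹) := by group
    rw [e]
    exact T.mul_mem ht this
  have h2 : t * s * t⁻¹ * s⁻¹ ∈ cj g T := by
    have htN : t ∈ N := c.hTN ht
    have := c.cj_norm g t htN s hs
    exact (cj g T).mul_mem this ((cj g T).inv_mem hs)
  have : t * s * t⁻¹ * s⁻¹ ∈ T ⊓ cj g T := Subgroup.mem_inf.mpr ⟨h1, h2⟩
  rw [hbot, Subgroup.mem_bot] at this
  calc t * s = t * s * t⁻¹ * s⁻¹ * s * t := by group
    _ = s * t := by rw [this, one_mul]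

theorem Cfg.exists_cj_ne (c : Cfg Ω N T) : ∃ g : G, cj g T ≠ T := by
  by_contra h
  push Not at h
  have hnorm : T.Normal := by
    refine ⟨fun t ht g => ?_⟩
    have : g * t * g⁻¹ ∈ cj g T := Cfsg.Agent.H2.conj_mem_map_conj T g ht
    rwa [h g] at this
  exact c.hTne (c.hmin T hnorm c.hT1 c.hTN)

theorem Cfg.normalClosure_eq (c : Cfg Ω N T) : Subgroup.normalClosure (T : Set G) = N := by
  haveI := c.hN
  apply c.hmin _ Subgroup.normalClosure_normal
  · intro h
    apply c.hT1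
    have := Subgroup.le_normalClosure (H := T)
    rw [h] at this
    exact le_bot_iff.mp this
  · exact Subgroup.normalClosure_le_normal c.hTN

/-- induction principle: a property of elements closed under products and inverses that holds
on all conjugates of `T` holds on `N` -/
theorem Cfg.induction (c : Cfg Ω N T) (P : G → Prop) (h1 : P 1)
    (hmul : ∀ x y, P x → P y → P (x * y)) (hinv : ∀ x, P x → P x⁻¹)
    (hcj : ∀ g : G, ∀ s ∈ cj g T, P s) : ∀ n ∈ N, P n := by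
  intro n hn
  rw [← c.normalClosure_eq] at hn
  unfold Subgroup.normalClosure at hn
  induction hn using Subgroup.closure_induction with
  | mem x hx =>
    rw [Group.mem_conjugatesOfSet_iff] at hx
    obtain ⟨a, ha, hax⟩ := hx
    obtain ⟨g, hg⟩ := isConj_iff.mp hax
    apply hcj g
    rw [← hg]
    exact Cfsg.Agent.H2.conj_mem_map_conj T g ha
  | one => exact h1
  | mul x y _ _ hx hy => exact hmul x y hx hy
  | inv x _ hx => exact hinv x hx

theorem Cfg.nonabelian [Finite G] (c : Cfg Ω N T) : ¬ ∀ a ∈ T, ∀ b ∈ T, a * b = b * a := by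
  intro hab
  -- N centralizes T
  have hcen : ∀ n ∈ N, ∀ t ∈ T, t * n = n * t := by
    apply c.induction (fun n => ∀ t ∈ T, t * n = n * t)
    · intro t _; simp
    · intro x y hx hy t ht
      calc t * (x * y) = t * x * y := by group
        _ = x * t * y := by rw [hx t ht]
        _ = x * (t * y) := by group
        _ = x * (y * t) := by rw [hy t ht]
        _ = x * y * t := by group
    · intro x hx t ht
      have := hx t ht
      calc t * x⁻¹ = x⁻¹ * (x * t) * x⁻¹ := by group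
        _ = x⁻¹ * (t * x) * x⁻¹ := by rw [this]
        _ = x⁻¹ * t := by group
    · intro g s hs t ht
      by_cases hg : cj g T = T
      · rw [hg] at hs
        exact hab t ht s hs
      · exact c.comm_of_ne hg t ht s hs
  haveI := c.hN
  have hZn : (N ⊓ Subgroup.centralizer (N : Set G)).Normal := inferInstance
  have hTZ : T ≤ N ⊓ Subgroup.centralizer (N : Set G) := by
    intro t ht
    refine Subgroup.mem_inf.mpr ⟨c.hTN ht, ?_⟩
    rw [Subgroup.mem_centralizer_iff]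
    intro n hn
    exact (hcen n hn t ht).symm
  have hZ1 : N ⊓ Subgroup.centralizer (N : Set G) ≠ ⊥ := by
    intro h
    rw [h] at hTZ
    exact c.hT1 (le_bot_iff.mp hTZ)
  have hZ := c.hmin _ hZn hZ1 inf_le_left
  apply c.hnonab
  intro a ha b hb
  have : a ∈ N ⊓ Subgroup.centralizer (N : Set G) := by rw [hZ]; exact ha
  have := Subgroup.mem_centralizer_iff.mp (Subgroup.mem_inf.mp this).2 b hb
  exact this.symm

/-- the centralizer of `T` in `N` -/
abbrev cK (N T : Subgroup G) : Subgroup G := N ⊓ Subgroup.centralizer (T : Set G)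

theorem mem_cK_iff {x : G} : x ∈ cK N T ↔ x ∈ N ∧ ∀ t ∈ T, t * x = x * t := by
  simp only [cK, Subgroup.mem_inf, Subgroup.mem_centralizer_iff, SetLike.mem_coe]

theorem Cfg.inf_cK [Finite G] (c : Cfg Ω N T) {x : G} (hxT : x ∈ T) (hxK : x ∈ cK N T) : x = 1 := by
  have hbot : T ⊓ cK N T = ⊥ := by
    by_contra hne
    have := c.hTmin (T ⊓ cK N T) (inf_le_left : T ⊓ cK N T ≤ T) hne (by
      intro n hn s hs
      have hs := Subgroup.mem_inf.mp hs
      refine Subgroup.mem_inf.mpr ⟨c.hTnorm n hn s hs.1, ?_⟩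
      rw [mem_cK_iff]
      refine ⟨c.hN.conj_mem _ (c.hTN hs.1) _, fun t ht => ?_⟩
      have hs2 := (mem_cK_iff.mp hs.2).2
      have ht' : n⁻¹ * t * n ∈ T := by
        have := c.hTnorm n⁻¹ (N.inv_mem hn) t ht
        rwa [inv_inv] at this
      have := hs2 _ ht'
      calc t * (n * s * n⁻¹) = n * ((n⁻¹ * t * n) * s) * n⁻¹ := by group
        _ = n * (s * (n⁻¹ * t * n)) * n⁻¹ := by rw [this]
        _ = n * s * n⁻¹ * t := by group)
    apply c.nonabelian
    intro a ha b hb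
    have hb' : b ∈ T ⊓ cK N T := by rw [this]; exact hb
    exact (mem_cK_iff.mp (Subgroup.mem_inf.mp hb').2).2 a ha
  have : x ∈ T ⊓ cK N T := Subgroup.mem_inf.mpr ⟨hxT, hxK⟩
  rwa [hbot, Subgroup.mem_bot] at this

theorem Cfg.cj_eq_or_le [Finite G] (c : Cfg Ω N T) (g : G) : cj g T = T ∨ cj g T ≤ cK N T := by
  by_cases hg : cj g T = T
  · exact Or.inl hg
  · refine Or.inr (fun s hs => ?_)
    rw [mem_cK_iff]
    exact ⟨c.cj_le g hs, fun t ht => c.comm_of_ne hg t ht s hs⟩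

/-- decomposition `N = T K` -/
theorem Cfg.decomp [Finite G] (c : Cfg Ω N T) : ∀ n ∈ N, ∃ t ∈ T, ∃ k ∈ cK N T, n = t * k := by
  apply c.induction (fun n => ∃ t ∈ T, ∃ k ∈ cK N T, n = t * k)
  · exact ⟨1, T.one_mem, 1, (cK N T).one_mem, by simp⟩
  · rintro x y ⟨t, ht, k, hk, rfl⟩ ⟨t', ht', k', hk', rfl⟩
    refine ⟨t * t', T.mul_mem ht ht', k * k', (cK N T).mul_mem hk hk', ?_⟩
    have := (mem_cK_iff.mp hk).2 t' ht'
    calc t * k * (t' * k') = t * (k * t') * k' := by group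
      _ = t * (t' * k) * k' := by rw [this]
      _ = t * t' * (k * k') := by group
  · rintro x ⟨t, ht, k, hk, rfl⟩
    refine ⟨t⁻¹, T.inv_mem ht, k⁻¹, (cK N T).inv_mem hk, ?_⟩
    have := (mem_cK_iff.mp hk).2 t ht
    calc (t * k)⁻¹ = k⁻¹ * t⁻¹ := by group
      _ = t⁻¹ * (t * k⁻¹) * t⁻¹ := by group
      _ = t⁻¹ * (k⁻¹ * (k * t) * k⁻¹) * t⁻¹ := by group
      _ = t⁻¹ * (k⁻¹ * (t * k) * k⁻¹) * t⁻¹ := by rw [this]
      _ = t⁻¹ * k⁻¹ := by group
  · intro g s hs
    rcases c.cj_eq_or_le g with h | h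
    · rw [h] at hs
      exact ⟨s, hs, 1, (cK N T).one_mem, by simp⟩
    · exact ⟨1, T.one_mem, s, h hs, by simp⟩

theorem Cfg.decomp_unique [Finite G] (c : Cfg Ω N T) {t t' k k' : G} (ht : t ∈ T) (ht' : t' ∈ T)
    (hk : k ∈ cK N T) (hk' : k' ∈ cK N T) (h : t * k = t' * k') : t = t' ∧ k = k' := by
  have e : t'⁻¹ * t = k' * k⁻¹ := by
    calc t'⁻¹ * t = t'⁻¹ * (t * k) * k⁻¹ := by group
      _ = t'⁻¹ * (t' * k') * k⁻¹ := by rw [h]
      _ = k' * k⁻¹ := by group
  have h1 : t'⁻¹ * t = 1 := c.inf_cK (T.mul_mem (T.inv_mem ht') ht) (by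
    rw [e]; exact (cK N T).mul_mem hk' ((cK N T).inv_mem hk))
  have h2 : k' * k⁻¹ = 1 := by rw [← e, h1]
  constructor
  · calc t = t' * (t'⁻¹ * t) := by group
      _ = t' := by rw [h1, mul_one]
  · calc k = (k' * k⁻¹)⁻¹ * k' := by group
      _ = k' := by rw [h2]; group

theorem Cfg.card_T_le [Finite G] (c : Cfg Ω N T) : Nat.card T ≤ Nat.card (cK N T) := by
  obtain ⟨g, hg⟩ := c.exists_cj_ne
  rcases c.cj_eq_or_le g with h | h
  · exact absurd h hg
  · rw [← card_cj g T]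
    exact Subgroup.card_le_of_le h

end Cfsg.Agent.Lib.Helper7.Der
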