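import Mathlib
import Cfsg.Agent.Lib.Helper7.Der4

set_option autoImplicit false

namespace Cfsg.Agent.Lib.Helper7.Der

open MulAction

variable {G : Type*} [Group G] {Ω : Type*} [MulAction G Ω] {N T : Subgroup G}

/-- sub-case D: `T` semiregular -/
theorem Cfg.caseD [Finite G] (c : Cfg Ω N T)
    (hconj : ∀ g h : G, IsDer Ω g → IsDer Ω h → IsConj g h) (α : Ω)
    (hD : T ⊓ stabilizer G α = ⊥) : False := by
  have hder : ∀ t ∈ T, t ≠ 1 → IsDer Ω t := by
    intro t ht ht1 ω hω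
    obtain ⟨n, hn, hnω⟩ := c.htr α ω
    have h1 : n⁻¹ * t * n ∈ T := by
      have := c.hTnorm n⁻¹ (N.inv_mem hn) t ht
      rwa [inv_inv] at this
    have h2 : n⁻¹ * t * n ∈ stabilizer G α := by
      rw [mem_stabilizer_iff, mul_smul, mul_smul, hnω, hω, ← hnω, inv_smul_smul]
    have h3 : n⁻¹ * t * n ∈ T ⊓ stabilizer G α := Subgroup.mem_inf.mpr ⟨h1, h2⟩
    rw [hD, Subgroup.mem_bot] at h3
    apply ht1
    calc t = n * (n⁻¹ * t * n) * n⁻¹ := by group
      _ = 1 := by rw [h3]; group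
  have hcard : 1 < Nat.card T := by
    by_contra h
    exact c.hT1 (Subgroup.eq_bot_of_card_le T (by omega))
  obtain ⟨p, hp, hpdvd⟩ := Nat.exists_prime_and_dvd (n := Nat.card T) (by omega)
  haveI : Fact p.Prime := ⟨hp⟩
  obtain ⟨x, hx⟩ := exists_prime_orderOf_dvd_card' (G := T) p hpdvd
  have hx1 : (x : G) ≠ 1 := by
    intro h
    have : x = 1 := Subtype.ext h
    rw [this, orderOf_one] at hx
    exact hp.one_lt.ne hx
  have hxp : (x : G) ^ p = 1 := by
    have := pow_orderOf_eq_one x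
    rw [hx] at this
    have := congrArg Subtype.val this
    simpa using this
  have hpow : ∀ t ∈ T, t ^ p = 1 := by
    intro t ht
    by_cases ht1 : t = 1
    · rw [ht1, one_pow]
    · obtain ⟨g, hg⟩ := isConj_iff.mp (hconj _ _ (hder x x.2 hx1) (hder t ht ht1))
      rw [← hg, conj_pow, hxp]
      group
  have hpg : IsPGroup p T := by
    intro t
    refine ⟨1, ?_⟩
    apply Subtype.ext
    have := hpow t t.2
    simpa using this
  haveI : Nontrivial T := (Subgroup.nontrivial_iff_ne_bot T).mpr c.hT1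
  haveI : Nontrivial (Subgroup.center T) := hpg.center_nontrivial
  obtain ⟨z, hz⟩ := exists_ne (1 : Subgroup.center T)
  have hzK : ((z : T) : G) ∈ cK N T := by
    rw [mem_cK_iff]
    refine ⟨c.hTN (z : T).2, fun t ht => ?_⟩
    have := Subgroup.mem_center_iff.mp z.2 ⟨t, ht⟩
    exact congrArg Subtype.val this
  have := c.inf_cK (z : T).2 hzK
  apply hz
  apply Subtype.ext
  apply Subtype.ext
  simpa using this

/-- the subgroup of `K` of elements which, up to an element of `T`, fix `α` -/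
def cM (N T : Subgroup G) (_c : Cfg Ω N T) [Finite G] (α : Ω) : Subgroup G where
  carrier := {k | k ∈ cK N T ∧ ∃ t ∈ T, t * k ∈ stabilizer G α}
  one_mem' := ⟨(cK N T).one_mem, 1, T.one_mem, by simp⟩
  mul_mem' := by
    rintro k k' ⟨hk, t, ht, htk⟩ ⟨hk', t', ht', htk'⟩
    refine ⟨(cK N T).mul_mem hk hk', t * t', T.mul_mem ht ht', ?_⟩
    have e : t * t' * (k * k') = (t * k) * (t' * k') := by
      have := (mem_cK_iff.mp hk).2 t' ht'
      calc t * t' * (k * k') = t * (t' * k) * k' := by group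
        _ = t * (k * t') * k' := by rw [this]
        _ = (t * k) * (t' * k') := by group
    rw [e]
    exact (stabilizer G α).mul_mem htk htk'
  inv_mem' := by
    rintro k ⟨hk, t, ht, htk⟩
    refine ⟨(cK N T).inv_mem hk, t⁻¹, T.inv_mem ht, ?_⟩
    have e : t⁻¹ * k⁻¹ = (t * k)⁻¹ := by
      have := (mem_cK_iff.mp hk).2 t ht
      calc t⁻¹ * k⁻¹ = (k * t)⁻¹ := by group
        _ = (t * k)⁻¹ := by rw [this]
    rw [e]
    exact (stabilizer G α).inv_mem htk

/-- sub-case P: `T` not semiregular -/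
theorem Cfg.caseP [Finite G] [FaithfulSMul G Ω] (c : Cfg Ω N T)
    (hconj : ∀ g h : G, IsDer Ω g → IsDer Ω h → IsConj g h) (α : Ω)
    (hP : T ⊓ stabilizer G α ≠ ⊥) : False := by
  have hΩne : Nonempty Ω := ⟨α⟩
  -- T_α is proper in T
  have hne : T ⊓ stabilizer G α ≠ T := by
    intro h
    apply c.hT1
    rw [Subgroup.eq_bot_iff_forall]
    intro t ht
    apply FaithfulSMul.eq_of_smul_eq_smul (α := Ω)
    intro ω
    obtain ⟨n, hn, hnω⟩ := c.htr α ω
    have h1 : n⁻¹ * t * n ∈ T := by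
      have := c.hTnorm n⁻¹ (N.inv_mem hn) t ht
      rwa [inv_inv] at this
    rw [← h] at h1
    have h2 := mem_stabilizer_iff.mp (Subgroup.mem_inf.mp h1).2
    rw [one_smul, ← hnω]
    calc t • n • α = n • (n⁻¹ * t * n) • α := by simp [mul_smul]
      _ = n • α := by rw [h2]
  obtain ⟨d, hdT, hd⟩ := exists_not_conj_mem (inf_le_left : T ⊓ stabilizer G α ≤ T) hne
  -- d is a derangement
  have hdder : IsDer Ω d := by
    intro ω hω
    obtain ⟨n, hn, hnω⟩ := c.htr α ω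
    obtain ⟨t, ht, k, hk, rfl⟩ := c.decomp n hn
    apply hd t ht
    have h1 : t⁻¹ * d * t ∈ T := T.mul_mem (T.mul_mem (T.inv_mem ht) hdT) ht
    refine Subgroup.mem_inf.mpr ⟨h1, ?_⟩
    have hcomm := (mem_cK_iff.mp hk).2 _ h1
    have e : t⁻¹ * d * t = (t * k)⁻¹ * d * (t * k) := by
      calc t⁻¹ * d * t = k⁻¹ * (k * (t⁻¹ * d * t)) := by group
        _ = k⁻¹ * ((t⁻¹ * d * t) * k) := by rw [hcomm]
        _ = (t * k)⁻¹ * d * (t * k) := by group
    rw [e, mem_stabilizer_iff, mul_smul, mul_smul, hnω, hω, ← hnω, inv_smul_smul]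
  have hd1 : d ≠ 1 := hdder.ne_one
  -- d * k is never a derangement
  have hnd : ∀ k ∈ cK N T, k ≠ 1 → ¬ IsDer Ω (d * k) := by
    intro k hk hk1 hdk
    obtain ⟨g, hg⟩ := isConj_iff.mp (hconj _ _ hdder hdk)
    have hmem : d * k ∈ cj g T := by
      rw [← hg]; exact Cfsg.Agent.H2.conj_mem_map_conj T g hdT
    rcases c.cj_eq_or_le g with h | h
    · rw [h] at hmem
      apply hk1
      apply c.inf_cK _ hk
      have := T.mul_mem (T.inv_mem hdT) hmem
      simpa using this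
    · apply hd1
      apply c.inf_cK hdT
      have := (cK N T).mul_mem (h hmem) ((cK N T).inv_mem hk)
      simpa using this
  -- every element of K is K-conjugate into M
  have hconjM : ∀ k ∈ cK N T, ∃ x ∈ cK N T, x⁻¹ * k * x ∈ cM N T c α := by
    intro k hk
    by_cases hk1 : k = 1
    · exact ⟨1, (cK N T).one_mem, by rw [hk1]; simpa using (cM N T c α).one_mem⟩
    · have := hnd k hk hk1
      unfold IsDer at this
      push Not at this
      obtain ⟨ω, hω⟩ := this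
      obtain ⟨n, hn, hnω⟩ := c.htr α ω
      obtain ⟨t₁, ht₁, k₁, hk₁, rfl⟩ := c.decomp n hn
      refine ⟨k₁, hk₁, ?_⟩
      have ha : t₁⁻¹ * d * t₁ ∈ T := T.mul_mem (T.mul_mem (T.inv_mem ht₁) hdT) ht₁
      refine ⟨(cK N T).mul_mem ((cK N T).mul_mem ((cK N T).inv_mem hk₁) hk) hk₁,
        t₁⁻¹ * d * t₁, ha, ?_⟩
      have c1 := (mem_cK_iff.mp hk).2 t₁ ht₁
      have c2 := (mem_cK_iff.mp hk₁).2 _ ha
      have e : t₁⁻¹ * d * t₁ * (k₁⁻¹ * k * k₁) = (t₁ * k₁)⁻¹ * (d * k) * (t₁ * k₁) := by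
        calc t₁⁻¹ * d * t₁ * (k₁⁻¹ * k * k₁)
            = k₁⁻¹ * (k₁ * (t₁⁻¹ * d * t₁)) * (k₁⁻¹ * k * k₁) := by group
          _ = k₁⁻¹ * ((t₁⁻¹ * d * t₁) * k₁) * (k₁⁻¹ * k * k₁) := by rw [c2]
          _ = k₁⁻¹ * t₁⁻¹ * d * (t₁ * k) * k₁ := by group
          _ = k₁⁻¹ * t₁⁻¹ * d * (k * t₁) * k₁ := by rw [c1]
          _ = (t₁ * k₁)⁻¹ * (d * k) * (t₁ * k₁) := by group
      rw [e, mem_stabilizer_iff, mul_smul, mul_smul, hnω, hω, ← hnω, inv_smul_smul]
  have hMK : cM N T c α ≤ cK N T := fun k hk => hk.1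
  have hMeq : cM N T c α = cK N T := by
    by_contra hne'
    obtain ⟨g, hg, hgc⟩ := exists_not_conj_mem hMK hne'
    obtain ⟨x, hx, hxm⟩ := hconjM g hg
    exact hgc x hx hxm
  have hM : ∀ k ∈ cK N T, ∃ t ∈ T, t * k ∈ stabilizer G α := by
    intro k hk
    have : k ∈ cM N T c α := by rw [hMeq]; exact hk
    exact this.2
  -- T is transitive
  have hTtr : ∀ ω : Ω, ∃ t ∈ T, t • α = ω := by
    intro ω
    obtain ⟨n, hn, hnω⟩ := c.htr α ω
    obtain ⟨t₁, ht₁, k₁, hk₁, rfl⟩ := c.decomp n hn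
    obtain ⟨t₂, ht₂, h2⟩ := hM k₁ hk₁
    refine ⟨t₁ * t₂⁻¹, T.mul_mem ht₁ (T.inv_mem ht₂), ?_⟩
    rw [mem_stabilizer_iff, mul_smul] at h2
    rw [mul_smul, inv_smul_eq_iff.mpr h2.symm, ← mul_smul, hnω]
  -- K is semiregular
  have hKs : ∀ k ∈ cK N T, k • α = α → k = 1 := by
    intro k hk hkα
    apply FaithfulSMul.eq_of_smul_eq_smul (α := Ω)
    intro ω
    obtain ⟨t, ht, htω⟩ := hTtr ω
    have := (mem_cK_iff.mp hk).2 t ht
    rw [one_smul, ← htω, ← mul_smul, ← this, mul_smul, hkα]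
  -- counting
  choose τ hτT hτ using fun k : cK N T => hM k k.2
  have hKN : cK N T ≤ N := inf_le_left
  let f₁ : (↥(T ⊓ stabilizer G α)) × (↥(cK N T)) → ↥(N ⊓ stabilizer G α) := fun sk =>
    ⟨(sk.1 : G) * τ sk.2 * (sk.2 : G), Subgroup.mem_inf.mpr
      ⟨N.mul_mem (N.mul_mem (c.hTN (Subgroup.mem_inf.mp sk.1.2).1) (c.hTN (hτT sk.2))) (hKN sk.2.2),
        by
          rw [mul_assoc]
          exact (stabilizer G α).mul_mem (Subgroup.mem_inf.mp sk.1.2).2 (hτ sk.2)⟩⟩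
  have hf₁ : Function.Injective f₁ := by
    rintro ⟨s, k⟩ ⟨s', k'⟩ h
    have h' : (s : G) * τ k * (k : G) = (s' : G) * τ k' * (k' : G) := congrArg Subtype.val h
    have hs := (Subgroup.mem_inf.mp s.2).1
    have hs' := (Subgroup.mem_inf.mp s'.2).1
    obtain ⟨e1, e2⟩ := c.decomp_unique (T.mul_mem hs (hτT k)) (T.mul_mem hs' (hτT k')) k.2 k'.2 h'
    have ek : k = k' := Subtype.ext e2
    subst ek
    have es : (s : G) = (s' : G) := mul_right_cancel e1
    rw [Prod.mk.injEq]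
    exact ⟨Subtype.ext es, rfl⟩
  let f₂ : (↥(N ⊓ stabilizer G α)) × (↥(cK N T)) → ↥N := fun ak =>
    ⟨(ak.1 : G) * (ak.2 : G), N.mul_mem (Subgroup.mem_inf.mp ak.1.2).1 (hKN ak.2.2)⟩
  have hf₂ : Function.Injective f₂ := by
    rintro ⟨a, k⟩ ⟨a', k'⟩ h
    have h' : (a : G) * (k : G) = (a' : G) * (k' : G) := congrArg Subtype.val h
    have e : (a' : G)⁻¹ * (a : G) = (k' : G) * (k : G)⁻¹ := by
      calc (a' : G)⁻¹ * (a : G) = (a' : G)⁻¹ * ((a : G) * (k : G)) * (k : G)⁻¹ := by group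
        _ = (a' : G)⁻¹ * ((a' : G) * (k' : G)) * (k : G)⁻¹ := by rw [h']
        _ = (k' : G) * (k : G)⁻¹ := by group
    have hfix : ((k' : G) * (k : G)⁻¹) • α = α := by
      rw [← e]
      exact mem_stabilizer_iff.mp ((stabilizer G α).mul_mem
        ((stabilizer G α).inv_mem (Subgroup.mem_inf.mp a'.2).2) (Subgroup.mem_inf.mp a.2).2)
    have h1 := hKs _ ((cK N T).mul_mem k'.2 ((cK N T).inv_mem k.2)) hfix
    have ek : (k' : G) = (k : G) := by
      calc (k' : G) = (k' : G) * (k : G)⁻¹ * (k : G) := by group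
        _ = (k : G) := by rw [h1, one_mul]
    have ea : (a : G) = (a' : G) := by
      rw [ek] at h'
      exact mul_right_cancel h'
    rw [Prod.mk.injEq]
    exact ⟨Subtype.ext ea, Subtype.ext ek.symm⟩
  choose dt hdt dk hdk hdec using fun n : N => c.decomp n n.2
  let f₃ : ↥N → ↥T × ↥(cK N T) := fun n => (⟨dt n, hdt n⟩, ⟨dk n, hdk n⟩)
  have hf₃ : Function.Injective f₃ := by
    intro n n' h
    have h1 : dt n = dt n' := congrArg (fun p => (p.1 : G)) h
    have h2 : dk n = dk n' := congrArg (fun p => (p.2 : G)) h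
    apply Subtype.ext
    rw [hdec n, hdec n', h1, h2]
  have c1 := Nat.card_le_card_of_injective f₁ hf₁
  have c2 := Nat.card_le_card_of_injective f₂ hf₂
  have c3 := Nat.card_le_card_of_injective f₃ hf₃
  have c4 := c.card_T_le
  rw [Nat.card_prod] at c1 c2 c3
  have hKpos : 0 < Nat.card (cK N T) := Nat.card_pos
  have hle : Nat.card ↥(T ⊓ stabilizer G α) ≤ 1 := by
    set a := Nat.card ↥(T ⊓ stabilizer G α)
    set k := Nat.card ↥(cK N T)
    set b := Nat.card ↥(N ⊓ stabilizer G α)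
    set n := Nat.card ↥N
    set t := Nat.card ↥T
    by_contra hcon
    have h2 : 2 ≤ a := by omega
    have : a * k * k ≤ k * k := by
      calc a * k * k ≤ b * k := Nat.mul_le_mul_right k c1
        _ ≤ n := c2
        _ ≤ t * k := c3
        _ ≤ k * k := Nat.mul_le_mul_right k c4
    have : 2 * (k * k) ≤ k * k := by
      calc 2 * (k * k) ≤ a * (k * k) := Nat.mul_le_mul_right _ h2
        _ = a * k * k := by ring
        _ ≤ k * k := this
    have : 0 < k * k := Nat.mul_pos hKpos hKpos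
    omega
  exact hP (Subgroup.eq_bot_of_card_le _ hle)

/-- the nonabelian case is impossible -/
theorem Cfg.false [Finite G] [FaithfulSMul G Ω] [Nonempty Ω] (c : Cfg Ω N T)
    (hconj : ∀ g h : G, IsDer Ω g → IsDer Ω h → IsConj g h) : False := by
  obtain ⟨α⟩ := ‹Nonempty Ω›
  by_cases h : T ⊓ stabilizer G α = ⊥
  · exact c.caseD hconj α h
  · exact c.caseP hconj α h

end Cfsg.Agent.Lib.Helper7.Der
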