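import Mathlib
import Cfsg.Agent.Lib.Helper7.Der2
import Cfsg.Agent.Lib.Helper7.Der3
import Cfsg.Agent.Lib.Helper7.Der5

set_option autoImplicit false

namespace Cfsg.Agent.Lib.Helper7.Der

open MulAction

variable {G : Type*} [Group G] {Ω : Type*} [MulAction G Ω]

/-- a minimal element (for cardinality) of a nonempty family of subgroups -/
theorem exists_min_subgroup [Finite G] (P : Subgroup G → Prop) (h : ∃ M, P M) :
    ∃ M, P M ∧ ∀ M', P M' → M' ≤ M → M' = M := by
  obtain ⟨M, hM, hmin⟩ := Set.exists_min_image {M | P M} (fun M : Subgroup G => Nat.card M)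
    (Set.toFinite _) h
  exact ⟨M, hM, fun M' hM' hle => Subgroup.eq_of_le_of_card_ge hle (hmin M' hM')⟩

theorem main [Finite G] [Fintype Ω] [FaithfulSMul G Ω]
    (hΩ : 2 ≤ Fintype.card Ω) (hprim : MulAction.IsPreprimitive G Ω)
    (hnas : ¬ ∃ T : Subgroup G, T.Normal ∧ IsSimpleGroup T ∧ ¬ IsMulCommutative T ∧
      Subgroup.centralizer (T : Set G) = ⊥) :
    Nat.card {c : ConjClasses G // ∃ g : G, ConjClasses.mk g = c ∧ ∀ ω : Ω, g • ω ≠ ω} = 1 ↔
      (MulAction.IsMultiplyPretransitive G Ω 2 ∧
        ∀ g : G, g ≠ 1 → ∀ a b : Ω, a ≠ b → g • a = a → g • b ≠ b) := by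
  have hne : Nonempty Ω := Fintype.card_pos_iff.mp (by omega)
  constructor
  · intro h
    have h' : Nat.card {c : ConjClasses G // ∃ g : G, ConjClasses.mk g = c ∧ IsDer Ω g} = 1 := h
    obtain ⟨⟨d, hd⟩, hconj⟩ := card_classes_eq_one_iff.mp h'
    have hd1 : d ≠ 1 := hd.ne_one
    -- a minimal normal subgroup
    obtain ⟨N, ⟨hN, hN1⟩, hNmin⟩ := exists_min_subgroup (G := G)
      (fun M => M.Normal ∧ M ≠ ⊥) ⟨⊤, inferInstance, by
        intro h
        have : d ∈ (⊤ : Subgroup G) := trivial
        rw [h, Subgroup.mem_bot] at this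
        exact hd1 this⟩
    have hmin : ∀ M : Subgroup G, M.Normal → M ≠ ⊥ → M ≤ N → M = N :=
      fun M h1 h2 h3 => hNmin M ⟨h1, h2⟩ h3
    have htrN : Trans Ω N := trans_of_normal hprim hN hN1
    have hder_of_normal : ∀ M : Subgroup G, M.Normal → M ≠ ⊥ → ∀ g : G, IsDer Ω g → g ∈ M := by
      intro M hM hM1 g hg
      obtain ⟨x, hxM, hx⟩ := exists_isDer_of_trans hΩ (trans_of_normal hprim hM hM1)
      obtain ⟨c, hc⟩ := isConj_iff.mp (hconj x g hx hg)
      rw [← hc]
      exact hM.conj_mem x hxM c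
    have hder := hder_of_normal N hN hN1
    by_cases hab : ∀ a ∈ N, ∀ b ∈ N, a * b = b * a
    · exact sharp_of_abelian hconj hN htrN hab hder
    · exfalso
      haveI := hN
      -- the centralizer of N is trivial
      have hC : Subgroup.centralizer (N : Set G) = ⊥ := by
        by_contra hC1
        have hCn : (Subgroup.centralizer (N : Set G)).Normal := inferInstance
        have hdC := hder_of_normal _ hCn hC1 d hd
        have hZn : (N ⊓ Subgroup.centralizer (N : Set G)).Normal := inferInstance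
        have hZ1 : N ⊓ Subgroup.centralizer (N : Set G) ≠ ⊥ := by
          intro h0
          have : d ∈ N ⊓ Subgroup.centralizer (N : Set G) := Subgroup.mem_inf.mpr ⟨hder d hd, hdC⟩
          rw [h0, Subgroup.mem_bot] at this
          exact hd1 this
        have hZ := hmin _ hZn hZ1 inf_le_left
        apply hab
        intro a ha b hb
        have : a ∈ N ⊓ Subgroup.centralizer (N : Set G) := by rw [hZ]; exact ha
        exact (Subgroup.mem_centralizer_iff.mp (Subgroup.mem_inf.mp this).2 b hb).symm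
      -- a minimal N-invariant subgroup of N
      obtain ⟨T, ⟨hTN, hT1, hTnorm⟩, hTmin'⟩ := exists_min_subgroup (G := G)
        (fun S => S ≤ N ∧ S ≠ ⊥ ∧ ∀ n ∈ N, ∀ s ∈ S, n * s * n⁻¹ ∈ S)
        ⟨N, le_refl _, hN1, fun n hn s hs => N.mul_mem (N.mul_mem hn hs) (N.inv_mem hn)⟩
      have hTmin : ∀ S : Subgroup G, S ≤ T → S ≠ ⊥ → (∀ n ∈ N, ∀ s ∈ S, n * s * n⁻¹ ∈ S) → S = T :=
        fun S h1 h2 h3 => hTmin' S ⟨h1.trans hTN, h2, h3⟩ h1
      by_cases hTeq : T = N
      · -- N is simple: contradiction with the hypothesis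
        apply hnas
        refine ⟨N, hN, ?_, ?_, hC⟩
        · haveI : Nontrivial N := (Subgroup.nontrivial_iff_ne_bot N).mpr hN1
          refine ⟨fun H hH => ?_⟩
          by_cases hH1 : H = ⊥
          · exact Or.inl hH1
          · right
            have hS1 : H.map N.subtype ≠ ⊥ := by
              intro h0
              exact hH1 ((Subgroup.map_eq_bot_iff_of_injective H N.subtype_injective).mp h0)
            have hSle : H.map N.subtype ≤ T := by
              rw [hTeq]
              rintro x ⟨y, -, rfl⟩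
              exact y.2
            have hSnorm : ∀ n ∈ N, ∀ s ∈ H.map N.subtype, n * s * n⁻¹ ∈ H.map N.subtype := by
              rintro n hn s ⟨y, hy, rfl⟩
              exact ⟨(⟨n, hn⟩ : N) * y * (⟨n, hn⟩ : N)⁻¹, hH.conj_mem y hy _, by simp⟩
            have hS := hTmin _ hSle hS1 hSnorm
            rw [eq_top_iff]
            intro y _
            have : (y : G) ∈ H.map N.subtype := by rw [hS, hTeq]; exact y.2
            obtain ⟨z, hz, hzy⟩ := this
            have : z = y := Subtype.ext (by simpa using hzy)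
            rwa [← this]
        · intro hcomm
          apply hab
          intro a ha b hb
          have := hcomm.is_comm.comm (⟨a, ha⟩ : N) ⟨b, hb⟩
          exact congrArg Subtype.val this
      · have c : Cfg Ω N T := ⟨hN, htrN, hmin, hab, hTN, hT1, hTeq, hTnorm, hTmin⟩
        exact c.false hconj
  · rintro ⟨h2, hsharp⟩
    exact classes_of_sharp hΩ h2 hsharp

end Cfsg.Agent.Lib.Helper7.Der
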