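import Mathlib
import Cfsg.Agent.H1.OnanScott

/-! Primitive groups all of whose derangements are `p`-elements are affine or almost simple
(helper7).  Elementary argument through the projection of a non-abelian minimal normal
subgroup onto one of its simple direct factors. -/

set_option autoImplicit false

namespace Cfsg.Agent.Lib.Helper7.DerP

open Cfsg.Agent.Lib.Helper4.MinNormal Cfsg.Agent.H1.OnanScott

/-- a finite group is not the union of the conjugates of a proper subgroup -/
theorem exists_not_conj_mem {T : Type*} [Group T] [Finite T] (R : Subgroup T) (hR : R ≠ ⊤) :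
    ∃ x : T, ∀ t : T, t⁻¹ * x * t ∉ R := by
  classical
  by_contra hcon
  push Not at hcon
  haveI : Fintype T := Fintype.ofFinite T
  haveI : Fintype (T ⧸ R) := Fintype.ofFinite _
  have h1 := MulAction.sum_card_fixedBy_eq_card_orbits_mul_card_group T (T ⧸ R)
  have h2 : Fintype.card (Quotient (MulAction.orbitRel T (T ⧸ R))) = 1 := by
    have hs : Subsingleton (Quotient (MulAction.orbitRel T (T ⧸ R))) :=
      (MulAction.pretransitive_iff_subsingleton_quotient T (T ⧸ R)).1 inferInstance
    have hn : Nonempty (Quotient (MulAction.orbitRel T (T ⧸ R))) :=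
      ⟨Quotient.mk _ ((1 : T) : T ⧸ R)⟩
    exact le_antisymm (Fintype.card_le_one_iff_subsingleton.2 hs) (Fintype.card_pos_iff.2 hn)
  rw [h2, one_mul] at h1
  have hge : ∀ g : T, 1 ≤ Fintype.card (MulAction.fixedBy (T ⧸ R) g) := by
    intro g
    obtain ⟨t, ht⟩ := hcon g
    rw [Nat.succ_le_iff, Fintype.card_pos_iff]
    refine ⟨⟨(t : T ⧸ R), ?_⟩⟩
    rw [MulAction.mem_fixedBy]
    show ((g * t : T) : T ⧸ R) = (t : T ⧸ R)
    rw [QuotientGroup.eq]
    have h3 := R.inv_mem ht
    have e : (t⁻¹ * g * t)⁻¹ = (g * t)⁻¹ * t := by group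
    rwa [e] at h3
  have h1' : 2 ≤ Fintype.card (MulAction.fixedBy (T ⧸ R) (1 : T)) := by
    have h4 : Fintype.card (MulAction.fixedBy (T ⧸ R) (1 : T)) = Fintype.card (T ⧸ R) := by
      apply Fintype.card_congr
      exact (Equiv.subtypeUnivEquiv (fun x => by simp [MulAction.mem_fixedBy]))
    rw [h4]
    have hidx : R.index ≠ 1 := fun h => hR (Subgroup.index_eq_one.mp h)
    have hidx0 : R.index ≠ 0 := Subgroup.index_ne_zero_of_finite
    have h5 : Fintype.card (T ⧸ R) = R.index := by
      rw [Subgroup.index, Nat.card_eq_fintype_card]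
    omega
  have h6 : Fintype.card T + 1 ≤ ∑ g : T, Fintype.card (MulAction.fixedBy (T ⧸ R) g) := by
    have h7 : ∑ g : T, (if g = 1 then 2 else 1) = Fintype.card T + 1 := by
      have h8 : ∀ g : T, (if g = 1 then 2 else 1) = 1 + (if g = 1 then 1 else 0) := by
        intro g; split_ifs <;> rfl
      simp only [h8, Finset.sum_add_distrib, Finset.sum_ite_eq', Finset.mem_univ, if_true,
        Finset.sum_const, Finset.card_univ, smul_eq_mul, mul_one]
    rw [← h7]
    apply Finset.sum_le_sum
    intro g _
    split_ifs with h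
    · subst h; exact h1'
    · exact hge g
  omega

section act

variable {G Ω : Type*} [Group G] [MulAction G Ω]

/-- non-trivial normal subgroups of a faithful primitive group are transitive -/
theorem pretransitive_of_normal [FaithfulSMul G Ω] (hprim : MulAction.IsPreprimitive G Ω)
    (N : Subgroup G) [N.Normal] (hN : N ≠ ⊥) : MulAction.IsPretransitive N Ω := by
  apply MulAction.IsQuasiPreprimitive.isPretransitive_of_normal (G := G)
  intro h
  apply hN
  rw [eq_bot_iff]
  intro n hn
  rw [Subgroup.mem_bot]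
  apply FaithfulSMul.eq_of_smul_eq_smul (α := Ω)
  intro ω
  have h1 : ω ∈ MulAction.fixedPoints N Ω := by rw [h]; exact Set.mem_univ _
  have h2 := h1 ⟨n, hn⟩
  rw [one_smul]
  exact h2

/-- an element commuting with a transitive subgroup and fixing a point is trivial -/
theorem eq_one_of_fix_of_commute [FaithfulSMul G Ω] (C : Subgroup G)
    [hC : MulAction.IsPretransitive C Ω]
    (n : G) (hn : ∀ c ∈ C, n * c = c * n) (a : Ω) (ha : n • a = a) : n = 1 := by
  apply FaithfulSMul.eq_of_smul_eq_smul (α := Ω)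
  intro ω
  obtain ⟨c, hc⟩ := MulAction.exists_smul_eq C a ω
  rw [one_smul, ← hc]
  show n • ((c : G) • a) = (c : G) • a
  rw [← mul_smul, hn c c.2, mul_smul, ha]

/-- a semiregular subgroup is a `p`-group when all derangements are `p`-elements -/
theorem isPGroup_of_semiregular (p : ℕ)
    (hder : ∀ g : G, (∀ ω : Ω, g • ω ≠ ω) → ∃ k : ℕ, orderOf g = p ^ k)
    (T : Subgroup G) (hsr : ∀ t ∈ T, ∀ ω : Ω, t • ω = ω → t = 1) : IsPGroup p T := by
  intro g
  by_cases hg : g = 1
  · exact ⟨0, by rw [hg]; simp⟩
  · have hd : ∀ ω : Ω, (g : G) • ω ≠ ω := by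
      intro ω h
      apply hg
      exact Subtype.ext (hsr g g.2 ω h)
    obtain ⟨k, hk⟩ := hder g hd
    refine ⟨k, ?_⟩
    apply Subtype.ext
    rw [Subgroup.coe_pow, ← hk, pow_orderOf_eq_one]
    rfl

/-- a non-trivial subgroup with trivial centre is not a `p`-group -/
theorem not_isPGroup_of_center_free [Finite G] (T : Subgroup G) (hT : T ≠ ⊥)
    (hZ : T ⊓ Subgroup.centralizer (T : Set G) = ⊥) (p : ℕ) [Fact p.Prime] :
    ¬ IsPGroup p T := by
  intro hp
  have : Nontrivial T := (Subgroup.nontrivial_iff_ne_bot T).mpr hT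
  have hc := hp.center_nontrivial
  obtain ⟨z, hz⟩ := exists_ne (1 : Subgroup.center T)
  apply hz
  apply Subtype.ext; apply Subtype.ext
  have h1 : ((z : T) : G) ∈ T ⊓ Subgroup.centralizer (T : Set G) := by
    refine Subgroup.mem_inf.mpr ⟨(z : T).2, ?_⟩
    rw [Subgroup.mem_centralizer_iff]
    intro y hy
    have h2 := (Subgroup.mem_center_iff.mp z.2) ⟨y, hy⟩
    exact congrArg Subtype.val h2
  rw [hZ, Subgroup.mem_bot] at h1
  exact h1

/-- the centralizer of a centre-free normal subgroup of a primitive group all of whose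
derangements are `p`-elements is trivial -/
theorem centralizer_eq_bot [Finite G] [FaithfulSMul G Ω] (hprim : MulAction.IsPreprimitive G Ω)
    (p : ℕ) [Fact p.Prime]
    (hder : ∀ g : G, (∀ ω : Ω, g • ω ≠ ω) → ∃ k : ℕ, orderOf g = p ^ k)
    (N : Subgroup G) [N.Normal] (hN : N ≠ ⊥)
    (hZ : N ⊓ Subgroup.centralizer (N : Set G) = ⊥) :
    Subgroup.centralizer (N : Set G) = ⊥ := by
  by_contra hC
  have : (Subgroup.centralizer (N : Set G)).Normal := inferInstance
  have := pretransitive_of_normal hprim (Subgroup.centralizer (N : Set G)) hC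
  have hsr : ∀ t ∈ N, ∀ ω : Ω, t • ω = ω → t = 1 := by
    intro t ht ω h
    apply eq_one_of_fix_of_commute (Subgroup.centralizer (N : Set G)) t _ ω h
    intro c hc
    exact (Subgroup.mem_centralizer_iff.mp hc) t ht
  exact not_isPGroup_of_center_free N hN hZ p (isPGroup_of_semiregular p hder N hsr)

/-- the key contradiction: a transitive `N ≤ T · C(T)` with `T` simple centre-free and a
second non-`p`-group factor `T' ≤ C(T)` -/
theorem false_of_two_factors [Finite G] [FaithfulSMul G Ω] (p : ℕ) [Fact p.Prime]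
    (hder : ∀ g : G, (∀ ω : Ω, g • ω ≠ ω) → ∃ k : ℕ, orderOf g = p ^ k)
    (N T T' : Subgroup G) [hNt : MulAction.IsPretransitive N Ω]
    (hTN : T ≤ N) (hT : T ≠ ⊥) (hnorm : N ≤ Subgroup.normalizer (T : Set G))
    (hZ : T ⊓ Subgroup.centralizer (T : Set G) = ⊥) (hNle : N ≤ prodCent T)
    (hsimple : IsSimpleGroup T)
    (hT'N : T' ≤ N) (hT'c : T' ≤ Subgroup.centralizer (T : Set G))
    (hT'p : ¬ IsPGroup p T') : False := by
  classical
  by_cases hR : ∃ a : Ω, (MulAction.stabilizer N a).map (projHom T N hZ hNle) ≠ ⊤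
  · obtain ⟨a, ha⟩ := hR
    obtain ⟨x, hx⟩ := exists_not_conj_mem _ ha
    have hder' : ∀ n : N, projHom T N hZ hNle n = x → ∀ ω : Ω, (n : G) • ω ≠ ω := by
      intro n hn ω hω
      obtain ⟨m, hm⟩ := MulAction.exists_smul_eq N a ω
      have hmem : m⁻¹ * n * m ∈ MulAction.stabilizer N a := by
        rw [MulAction.mem_stabilizer_iff, mul_smul, mul_smul, hm]
        have h1 : n • ω = ω := hω
        rw [h1, ← hm, inv_smul_smul]
      apply hx (projHom T N hZ hNle m)
      have h2 : projHom T N hZ hNle (m⁻¹ * n * m)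
          = (projHom T N hZ hNle m)⁻¹ * x * projHom T N hZ hNle m := by
        rw [map_mul, map_mul, map_inv, hn]
      rw [← h2]
      exact Subgroup.mem_map_of_mem _ hmem
    have hxN : projHom T N hZ hNle ⟨(x : G), hTN x.2⟩ = x :=
      Subtype.ext (projHom_of_mem hZ hNle ⟨(x : G), hTN x.2⟩ x.2)
    obtain ⟨j, hj⟩ := hder (x : G) (hder' _ hxN)
    have hex : ∃ c : T', ∀ k : ℕ, c ^ p ^ k ≠ 1 := by
      by_contra h
      push Not at h
      exact hT'p h
    obtain ⟨c, hc⟩ := hex
    have hcN : projHom T N hZ hNle ⟨(c : G), hT'N c.2⟩ = 1 :=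
      projHom_of_centralizer hZ hNle _ (hT'c c.2)
    have hxc : projHom T N hZ hNle (⟨(x : G), hTN x.2⟩ * ⟨(c : G), hT'N c.2⟩) = x := by
      rw [map_mul, hxN, hcN, mul_one]
    obtain ⟨k, hk⟩ := hder ((x : G) * (c : G)) (hder' _ hxc)
    have hcomm : Commute (x : G) (c : G) :=
      (Subgroup.mem_centralizer_iff.mp (hT'c c.2)) (x : G) x.2
    apply hc (j + k)
    apply Subtype.ext
    rw [Subgroup.coe_pow]
    have h1 : ((x : G) * (c : G)) ^ p ^ (j + k) = 1 := by
      rw [pow_add, pow_mul', ← hk, pow_orderOf_eq_one, one_pow]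
    have h2 : (x : G) ^ p ^ (j + k) = 1 := by
      rw [pow_add, pow_mul, ← hj, pow_orderOf_eq_one, one_pow]
    rw [hcomm.mul_pow, h2, one_mul] at h1
    exact h1
  · push Not at hR
    have hsr : ∀ t ∈ T, ∀ a : Ω, t • a = a → t = 1 := by
      intro t ht a hta
      have hKn : ((MulAction.stabilizer G a).subgroupOf T).Normal := by
        constructor
        intro u hu s
        have hs : s ∈ (MulAction.stabilizer N a).map (projHom T N hZ hNle) := by
          rw [hR a]; trivial
        obtain ⟨n, hn, hns⟩ := hs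
        have hcen := projHom_spec hZ hNle n
        rw [hns] at hcen
        rw [Subgroup.mem_subgroupOf, MulAction.mem_stabilizer_iff] at hu ⊢
        have hcu : (u : G) * ((s : G)⁻¹ * (n : G)) = ((s : G)⁻¹ * (n : G)) * (u : G) :=
          (Subgroup.mem_centralizer_iff.mp hcen) u u.2
        have e : ((s * u * s⁻¹ : T) : G) = (n : G) * (u : G) * (n : G)⁻¹ := by
          push_cast
          calc (s : G) * u * (s : G)⁻¹
              = (s : G) * ((u : G) * ((s : G)⁻¹ * (n : G))) * (n : G)⁻¹ := by group
            _ = (s : G) * (((s : G)⁻¹ * (n : G)) * (u : G)) * (n : G)⁻¹ := by rw [hcu]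
            _ = (n : G) * (u : G) * (n : G)⁻¹ := by group
        have hn' : (n : G) • a = a := hn
        have hn'' : (n : G)⁻¹ • a = a := by rw [inv_smul_eq_iff, hn']
        rw [e, mul_smul, mul_smul, hn'', hu, hn']
      rcases hKn.eq_bot_or_eq_top with hK | hK
      · have h1 : (⟨t, ht⟩ : T) ∈ (MulAction.stabilizer G a).subgroupOf T := by
          rw [Subgroup.mem_subgroupOf, MulAction.mem_stabilizer_iff]; exact hta
        rw [hK, Subgroup.mem_bot] at h1
        exact congrArg Subtype.val h1
      · exfalso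
        apply hT
        rw [eq_bot_iff]
        intro u hu
        rw [Subgroup.mem_bot]
        apply FaithfulSMul.eq_of_smul_eq_smul (α := Ω)
        intro ω
        rw [one_smul]
        obtain ⟨m, hm⟩ := MulAction.exists_smul_eq N a ω
        have hconj : (m : G)⁻¹ * u * (m : G) ∈ T := by
          have h1 := (Subgroup.mem_normalizer_iff.mp (hnorm (N.inv_mem m.2))) u
          rw [inv_inv] at h1
          exact h1.mp hu
        have hfix : ((m : G)⁻¹ * u * (m : G)) • a = a := by
          have h1 : (⟨_, hconj⟩ : T) ∈ (MulAction.stabilizer G a).subgroupOf T := by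
            rw [hK]; trivial
          exact h1
        rw [← hm]
        show u • ((m : G) • a) = (m : G) • a
        calc u • ((m : G) • a) = (m : G) • (((m : G)⁻¹ * u * (m : G)) • a) := by
              simp [mul_smul]
          _ = (m : G) • a := by rw [hfix]
    exact not_isPGroup_of_center_free T hT hZ p (isPGroup_of_semiregular p hder T hsr)

/-- **Main theorem**: a faithful primitive group all of whose derangements are `p`-elements is
affine or almost simple. -/
theorem main [Finite G] [FaithfulSMul G Ω] [Finite Ω]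
    (hprim : MulAction.IsPreprimitive G Ω) (hΩ : 2 ≤ Nat.card Ω) (p : ℕ) (hp : p.Prime)
    (hder : ∀ g : G, (∀ ω : Ω, g • ω ≠ ω) → ∃ k : ℕ, orderOf g = p ^ k) :
    (∃ (N : Subgroup G) (r : ℕ), r.Prime ∧ N.Normal ∧ (IsMulCommutative N ∧ ∀ a ∈ N, a ^ r = 1) ∧
      MulAction.IsPretransitive N Ω ∧ ∀ a : Ω, MulAction.stabilizer N a = ⊥) ∨
    (∃ T : Subgroup G, T.Normal ∧ IsSimpleGroup ↥T ∧ ¬ IsMulCommutative ↥T ∧
      Subgroup.centralizer (T : Set G) = ⊥) := by
  classical
  haveI : Fact p.Prime := ⟨hp⟩
  have htr : MulAction.IsPretransitive G Ω := hprim.toIsPretransitive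
  -- `G` is non-trivial
  have htop : (⊤ : Subgroup G) ≠ ⊥ := by
    intro h
    have hsub : ∀ g : G, g = 1 := by
      intro g
      have : g ∈ (⊤ : Subgroup G) := Subgroup.mem_top g
      rw [h, Subgroup.mem_bot] at this
      exact this
    have hss : Subsingleton Ω := by
      constructor
      intro a b
      obtain ⟨g, hg⟩ := MulAction.exists_smul_eq G a b
      rw [hsub g, one_smul] at hg
      exact hg
    have := Finite.card_le_one_iff_subsingleton.mpr hss
    omega
  -- a minimal normal subgroup
  let 𝒜 : Set (Subgroup G) := {M | M.Normal ∧ M ≠ ⊥}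
  obtain ⟨N, hN, hNmin⟩ := (wellFounded_lt (α := Subgroup G)).has_min 𝒜 ⟨⊤, inferInstance, htop⟩
  haveI hNn : N.Normal := hN.1
  have hNne : N ≠ ⊥ := hN.2
  have hmin : ∀ M : Subgroup G, M.Normal → M ≤ N → M = ⊥ ∨ M = N := by
    intro M hM hMN
    by_cases h : M = ⊥
    · left; exact h
    · right
      by_contra hne
      exact hNmin M ⟨hM, h⟩ (lt_of_le_of_ne hMN hne)
  haveI hNt : MulAction.IsPretransitive N Ω := pretransitive_of_normal hprim N hNne
  by_cases hab : IsMulCommutative N
  · -- affine case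
    left
    have hcomm : ∀ x ∈ N, ∀ y ∈ N, x * y = y * x := by
      intro x hx y hy
      exact congrArg Subtype.val (hab.is_comm.comm (⟨x, hx⟩ : N) ⟨y, hy⟩)
    have hcard : Nat.card N ≠ 1 := by
      intro h
      exact hNne (Subgroup.card_eq_one.mp h)
    obtain ⟨r, hr, hrdvd⟩ := Nat.exists_prime_and_dvd hcard
    haveI : Fact r.Prime := ⟨hr⟩
    obtain ⟨x, hx⟩ := exists_prime_orderOf_dvd_card' (G := N) r hrdvd
    let M : Subgroup G :=
      { carrier := {y | y ∈ N ∧ y ^ r = 1}
        one_mem' := ⟨N.one_mem, one_pow r⟩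
        mul_mem' := by
          rintro a b ⟨ha, ha'⟩ ⟨hb, hb'⟩
          refine ⟨N.mul_mem ha hb, ?_⟩
          have hc : Commute a b := hcomm a ha b hb
          rw [hc.mul_pow, ha', hb', one_mul]
        inv_mem' := by
          rintro a ⟨ha, ha'⟩
          exact ⟨N.inv_mem ha, by rw [inv_pow, ha', inv_one]⟩ }
    have hMn : M.Normal := by
      constructor
      rintro n ⟨hn, hn'⟩ g
      refine ⟨hNn.conj_mem n hn g, ?_⟩
      rw [conj_pow, hn', mul_one, mul_inv_cancel]
    have hMN : M ≤ N := fun y hy => hy.1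
    have hMne : M ≠ ⊥ := by
      intro h
      have hxM : (x : G) ∈ M := by
        refine ⟨x.2, ?_⟩
        have : x ^ r = 1 := by rw [← hx]; exact pow_orderOf_eq_one x
        have := congrArg Subtype.val this
        simpa using this
      rw [h, Subgroup.mem_bot] at hxM
      have hx1 : x = 1 := Subtype.ext hxM
      rw [hx1, orderOf_one] at hx
      exact hr.one_lt.ne hx
    have hMeq : M = N := (hmin M hMn hMN).resolve_left hMne
    refine ⟨N, r, hr, hNn, ⟨hab, ?_⟩, hNt, ?_⟩
    · intro a ha
      have : a ∈ M := by rw [hMeq]; exact ha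
      exact this.2
    · intro a
      rw [eq_bot_iff]
      intro n hn
      rw [Subgroup.mem_bot]
      apply Subtype.ext
      have hfix : (n : G) • a = a := hn
      exact eq_one_of_fix_of_commute N (n : G) (fun c hc => hcomm n n.2 c hc) a hfix
  · -- non-abelian minimal normal subgroup
    right
    obtain ⟨S, hS⟩ := exists_minNormalIn N hNne
    have F := isFam_of_minNormalIn N hmin hab hS
    by_cases hSN : S = N
    · subst hSN
      refine ⟨S, hNn, hS.isSimpleGroup S hmin, hab, ?_⟩
      exact centralizer_eq_bot hprim p hder S hNne (center_eq_bot S hmin hab)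
    · exfalso
      -- some conjugate of `S` differs from `S`
      have hex : ∃ g : G, cj g S ≠ S := by
        by_contra hcon
        push Not at hcon
        apply hSN
        have h1 := iSup_map_conj_eq N hmin hS
        rw [← h1]
        apply le_antisymm
        · exact (le_iSup (fun h : G => S.map (MulAut.conj h).toMonoidHom) 1).trans' (by
            rw [show S.map (MulAut.conj (1 : G)).toMonoidHom = cj 1 S from rfl, cj_one])
        · exact iSup_le fun h => le_of_eq (hcon h)
      obtain ⟨g, hg⟩ := hex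
      let i₀ : Idx S := ⟨S, 1, (cj_one S).symm⟩
      let j : Idx S := ⟨cj g S, g, rfl⟩
      have hij : i₀ ≠ j := by
        intro h
        apply hg
        exact (congrArg Subtype.val h).symm
      have hjne : cj g S ≠ ⊥ := by
        haveI := F.simple j
        exact (Subgroup.nontrivial_iff_ne_bot _).mp inferInstance
      have hSne : S ≠ ⊥ := hS.2.1
      exact false_of_two_factors p hder N S (cj g S) hS.1 hSne hS.2.2.1 (F.hZ i₀) (F.hN i₀)
        (F.simple i₀) (F.le j) (F.comm i₀ j hij)
        (not_isPGroup_of_center_free (cj g S) hjne (F.hZ j) p)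

end act

end Cfsg.Agent.Lib.Helper7.DerP
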