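import Mathlib
import Cfsg.Prelude.Def_FusionSystem
import Cfsg.Agent.S3116
import Cfsg.Agent.Lib.Helper7.FusionInner

set_option autoImplicit false

namespace Cfsg.Agent.Lib.Helper7

open Cfsg Cfsg.FusionSystem Subgroup

theorem quaternion_case {X : Type*} [Group X] [Finite X] (m : ℕ) (hm : 2 ≤ m)
    (e : X ≃* QuaternionGroup (2 ^ m)) : IsPGroup 2 (MulAut X) := by
  haveI : NeZero (2 ^ m) := ⟨by positivity⟩
  have hcard : Nat.card X = 2 * 2 ^ (m + 1) := by
    rw [Nat.card_congr e.toEquiv, Nat.card_eq_fintype_card, QuaternionGroup.card, pow_succ]; ring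
  obtain ⟨c, hcdef⟩ : ∃ c : X, c = e.symm (QuaternionGroup.a 1) := ⟨_, rfl⟩
  have hc : orderOf c = 2 ^ (m + 1) := by
    rw [hcdef, MulEquiv.orderOf_eq, QuaternionGroup.orderOf_a_one, pow_succ]; ring
  have hidx := Cfsg.Agent.S3116.index_zpowers_eq_two c (2 ^ (m + 1)) (by positivity) hc hcard
  refine Cfsg.Agent.S3116.isPGroup_aut c (m + 1) (by omega) hc hidx ?_
  intro g hg
  have hne : ∀ i : ZMod (2 * 2 ^ m), e g ≠ QuaternionGroup.a i := by
    intro i hi
    apply hg
    haveI : NeZero (2 * 2 ^ m) := ⟨by positivity⟩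
    have : g = c ^ (i.val) := by
      apply e.injective
      rw [map_pow, hcdef, MulEquiv.apply_symm_apply, QuaternionGroup.a_one_pow, hi]
      simp
    rw [this]
    exact pow_mem (mem_zpowers c) _
  have h4 : orderOf g = 4 := by
    rw [← MulEquiv.orderOf_eq e]
    rcases hge : e g with i | i
    · exact absurd hge (hne i)
    · exact QuaternionGroup.orderOf_xa i
  rw [h4]
  have : 8 ≤ 2 ^ (m + 1) := by
    calc 8 = 2 ^ 3 := by norm_num
      _ ≤ 2 ^ (m + 1) := Nat.pow_le_pow_right (by norm_num) (by omega)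
  omega

variable {Ω : Type*} [Group Ω] {S : Subgroup Ω}

theorem autGroup_top_eq_inn_of_isPGroup_aut [Finite S] (p : ℕ) [Fact p.Prime] (hS : IsPGroup p S)
    (F : FusionSystem S) (hF : F.IsSaturated p) (h : IsPGroup p (MulAut S)) :
    F.autGroup S = Inn S := by
  haveI : Finite (MulAut ↥S) := inferInstance
  have hInn : Inn S = autInducedBy S S := by
    ext α
    rw [mem_autInducedBy_iff]
    constructor
    · rintro ⟨g, rfl⟩
      exact ⟨g, g.2, fun x => rfl⟩
    · rintro ⟨g, hg, hα⟩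
      refine ⟨⟨g, hg⟩, ?_⟩
      ext x
      rw [hα]; rfl
  rw [hInn]
  apply le_antisymm _ (autInducedBy_le_autGroup F le_rfl)
  obtain ⟨-, T, hT⟩ := isFullyAutomized_top_of_isSaturated p hS F hF
  have htop := sylow_eq_top_of_isPGroup (h.to_subgroup (F.autGroup S)) T
  rw [hT] at htop
  intro α hα
  have : (⟨α, hα⟩ : F.autGroup S) ∈ (autInducedBy S S).subgroupOf (F.autGroup S) := by
    rw [htop]; exact Subgroup.mem_top _
  exact Subgroup.mem_subgroupOf.mp this

theorem autGroup_top_eq_inn_dihedral_quaternion [Finite S] (n : ℕ) (hn : 4 ≤ n)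
    (hshape : Nonempty (S ≃* DihedralGroup (2 ^ (n - 1))) ∨
      Nonempty (S ≃* QuaternionGroup (2 ^ (n - 2))))
    (F : FusionSystem S) (hF : F.IsSaturated 2) : F.autGroup S = Inn S := by
  haveI : Fact (Nat.Prime 2) := ⟨Nat.prime_two⟩
  rcases hshape with ⟨⟨e⟩⟩ | ⟨⟨e⟩⟩
  · have hcard : Nat.card S = 2 ^ n := by
      haveI : NeZero (2 ^ (n - 1)) := ⟨by positivity⟩
      rw [Nat.card_congr e.toEquiv, DihedralGroup.nat_card, ← pow_succ']
      congr 1; omega
    have hS : IsPGroup 2 S := IsPGroup.of_card hcard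
    have h8 : 4 ≤ 2 ^ (n - 1) := by
      calc 4 = 2 ^ 2 := by norm_num
        _ ≤ 2 ^ (n - 1) := Nat.pow_le_pow_right (by norm_num) (by omega)
    exact autGroup_top_eq_inn_of_isPGroup_aut 2 hS F hF
      (Cfsg.Agent.S3116.dihedral_case hS _ h8 e)
  · have hcard : Nat.card S = 2 ^ n := by
      haveI : NeZero (2 ^ (n - 2)) := ⟨by positivity⟩
      rw [Nat.card_congr e.toEquiv, Nat.card_eq_fintype_card, QuaternionGroup.card]
      have : n = (n - 2) + 2 := by omega
      conv_rhs => rw [this, pow_add]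
      ring
    have hS : IsPGroup 2 S := IsPGroup.of_card hcard
    exact autGroup_top_eq_inn_of_isPGroup_aut 2 hS F hF (quaternion_case (n - 2) (by omega) e)

end Cfsg.Agent.Lib.Helper7
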