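import Mathlib
import Cfsg.Prelude.Def_FusionSystem
import Cfsg.Agent.Lib.Helper7.Fusion
import Cfsg.Agent.Lib.Helper7.AutInduced
import Cfsg.Agent.Lib.Helper7.FusionSat

/-!
# The full subsystem on a strongly closed factor

`full_restrict_isSaturated` : let `F` be a saturated fusion system over `T`, `T₁ ≤ T` strongly closed in `F`,
`T₂` a subgroup commuting elementwise with `T₁` such that every element of `T` is a product of an element of
`T₁` and an element of `T₂`. Then the full subsystem of `F` on `T₁` is saturated.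
-/

set_option autoImplicit false
set_option linter.unusedSectionVars false
set_option linter.unusedVariables false
set_option linter.style.haveILetI false

namespace Cfsg.Agent.Lib.Helper7.DirProd

open Cfsg Cfsg.FusionSystem Cfsg.Agent.Lib.Helper7

variable {Ω : Type*} [Group Ω]

/-- elements of `A ⊔ B` are products when `A` and `B` commute elementwise -/
theorem exists_mul_of_mem_sup {A B : Subgroup Ω} (hcomm : ∀ a ∈ A, ∀ b ∈ B, a * b = b * a)
    {g : Ω} (hg : g ∈ A ⊔ B) : ∃ a ∈ A, ∃ b ∈ B, g = a * b := by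
  rw [Subgroup.sup_eq_closure] at hg
  induction hg using Subgroup.closure_induction with
  | mem x hx =>
    rcases hx with hx | hx
    · exact ⟨x, hx, 1, B.one_mem, by simp⟩
    · exact ⟨1, A.one_mem, x, hx, by simp⟩
  | one => exact ⟨1, A.one_mem, 1, B.one_mem, by simp⟩
  | mul x y _ _ hx hy =>
    obtain ⟨a, ha, b, hb, rfl⟩ := hx
    obtain ⟨a', ha', b', hb', rfl⟩ := hy
    refine ⟨a * a', A.mul_mem ha ha', b * b', B.mul_mem hb hb', ?_⟩
    calc a * b * (a' * b') = a * (b * a') * b' := by group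
      _ = a * (a' * b) * b' := by rw [hcomm a' ha' b hb]
      _ = a * a' * (b * b') := by group
  | inv x _ hx =>
    obtain ⟨a, ha, b, hb, rfl⟩ := hx
    refine ⟨a⁻¹, A.inv_mem ha, b⁻¹, B.inv_mem hb, ?_⟩
    rw [mul_inv_rev]
    exact (hcomm a⁻¹ (A.inv_mem ha) b⁻¹ (B.inv_mem hb)).symm

theorem autInducedBy_eq_of_centralizing {T T₁ T₂ Q : Subgroup Ω} (hT₁ : T₁ ≤ T) (hQ : Q ≤ T₁)
    (hcomm : ∀ a ∈ T₁, ∀ b ∈ T₂, a * b = b * a)
    (hdec : ∀ g ∈ T, ∃ a ∈ T₁, ∃ b ∈ T₂, g = a * b) :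
    autInducedBy T₁ Q = autInducedBy T Q := by
  apply le_antisymm
  · apply Subgroup.closure_mono
    rintro α ⟨g, hg, hα⟩
    exact ⟨g, hT₁ hg, hα⟩
  · rw [autInducedBy, Subgroup.closure_le]
    rintro α ⟨g, hg, hα⟩
    obtain ⟨a, ha, b, hb, rfl⟩ := hdec g hg
    apply Subgroup.subset_closure
    refine ⟨a, ha, fun x => ?_⟩
    rw [hα x]
    have hx : (x : Ω) * b = b * x := hcomm _ (hQ x.2) b hb
    calc a * b * ↑x * (a * b)⁻¹ = a * (b * x) * b⁻¹ * a⁻¹ := by group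
      _ = a * (x * b) * b⁻¹ * a⁻¹ := by rw [hx]
      _ = a * x * a⁻¹ := by group

theorem autGroup_eq_of_hom_eq {T T₁ : Subgroup Ω} (F : FusionSystem T) (R : FusionSystem T₁)
    {Q : Subgroup Ω} (h : R.Hom Q = F.Hom Q) : R.autGroup Q = F.autGroup Q := by
  unfold FusionSystem.autGroup
  rw [h]

theorem isFullyAutomized_of_eq {T T₁ : Subgroup Ω} (F : FusionSystem T) (R : FusionSystem T₁) (p : ℕ)
    {Q : Subgroup Ω} (hQ : Q ≤ T₁) (h1 : R.autGroup Q = F.autGroup Q)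
    (h2 : autInducedBy T₁ Q = autInducedBy T Q) (hFA : F.IsFullyAutomized p Q) :
    R.IsFullyAutomized p Q := by
  refine ⟨hQ, ?_⟩
  obtain ⟨-, hsyl⟩ := hFA
  rw [h1, h2]
  exact hsyl

theorem extender_mono {T T₁ P : Subgroup Ω} (h : T₁ ≤ T) (φ : P →* Ω) :
    extender T₁ P φ ≤ extender T P φ := by
  apply Subgroup.closure_mono
  rintro g ⟨hg, hgN, k, hk, hgk⟩
  exact ⟨h hg, hgN, k, h hk, hgk⟩

theorem extender_le' (T P : Subgroup Ω) (φ : P →* Ω) : extender T P φ ≤ T := by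
  rw [extender, Subgroup.closure_le]
  rintro g ⟨hg, -⟩
  exact hg

/-- **The full subsystem on a strongly closed factor is saturated.** -/
theorem full_restrict_isSaturated {T T₁ T₂ : Subgroup Ω} (p : ℕ) (F : FusionSystem T)
    (hF : F.IsSaturated p) (hT₁ : F.StronglyClosed T₁)
    (hcomm : ∀ a ∈ T₁, ∀ b ∈ T₂, a * b = b * a)
    (hdec : ∀ g ∈ T, ∃ a ∈ T₁, ∃ b ∈ T₂, g = a * b)
    (R : FusionSystem T₁) (hR : ∀ P : Subgroup Ω, P ≤ T₁ → R.Hom P = F.Hom P) :
    R.IsSaturated p := by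
  intro P hP
  have hT₁T := hT₁.1
  obtain ⟨Q, ⟨φ, hφ, hφQ⟩, hFA, hRec⟩ := hF P (hP.trans hT₁T)
  have hQ : Q ≤ T₁ := by
    rw [← hφQ]
    rintro _ ⟨x, rfl⟩
    exact hT₁.2 P hP φ hφ x
  refine ⟨Q, ⟨φ, by rw [hR P hP]; exact hφ, hφQ⟩, ?_, ?_⟩
  · exact isFullyAutomized_of_eq F R p hQ (autGroup_eq_of_hom_eq F R (hR Q hQ))
      (autInducedBy_eq_of_centralizing hT₁T hQ hcomm hdec) hFA
  · refine ⟨hQ, fun P' φ' hφ' hr => ?_⟩
    have hP' : P' ≤ T₁ := (R.le_of_mem hφ').1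
    have hφF : φ' ∈ F.Hom P' := by rw [← hR P' hP']; exact hφ'
    obtain ⟨ψ, hψ, hψe⟩ := hRec.2 P' φ' hφF hr
    have hle := extender_mono hT₁T φ'
    refine ⟨ψ.comp (Subgroup.inclusion hle), ?_, fun x hxP hxN => ?_⟩
    · rw [hR _ (extender_le' T₁ P' φ')]
      exact fs_restrict_mem F hle hψ
    · exact hψe x hxP (hle hxN)

end Cfsg.Agent.Lib.Helper7.DirProd
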