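import Mathlib
import Cfsg.Prelude.Def_FusionSystem
import Cfsg.Agent.Lib.Helper7.Fusion
import Cfsg.Agent.Lib.Helper7.StrongInv
import Cfsg.Agent.Lib.Helper7.DirProdA

/-!
# Extending maps over a centralizing strongly closed subgroup

* `conj_hom_exists` : transport of an `F`-map `f : U → V` along an `F`-map `g` on `V ≥ U`;
* `exists_extension_sup` : if `P` and `φ(P)` centralize the strongly closed subgroup `S₂` of the saturated system
  `F`, then `φ` extends to `P ⊔ S₂`.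
-/

set_option autoImplicit false
set_option linter.unusedSectionVars false
set_option linter.unusedVariables false
set_option linter.style.haveILetI false

namespace Cfsg.Agent.Lib.Helper7.DirProd

open Cfsg Cfsg.FusionSystem Cfsg.Agent.Lib.Helper7

variable {Ω : Type*} [Group Ω] {S : Subgroup Ω}

/-- transport of `f ∈ Hom_F(U, V)` along `g ∈ Hom_F(V, S)` -/
theorem conj_hom_exists (F : FusionSystem S) {U V : Subgroup Ω} (hUV : U ≤ V) {f : U →* Ω}
    (hf : f ∈ F.Hom U) (hfV : ∀ u : U, f u ∈ V) {g : V →* Ω} (hg : g ∈ F.Hom V)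
    (W : Subgroup Ω) (hW : (g.comp (Subgroup.inclusion hUV)).range = W) :
    ∃ k ∈ F.Hom W, ∀ (u : U) (hu : g (Subgroup.inclusion hUV u) ∈ W),
      k ⟨g (Subgroup.inclusion hUV u), hu⟩ = g ⟨f u, hfV u⟩ := by
  subst hW
  have hgU : g.comp (Subgroup.inclusion hUV) ∈ F.Hom U := fs_restrict_mem F hUV hg
  obtain ⟨ginv, hginv, hinv⟩ := F.inv_mem hgU
  have h1 : ∀ w : ↥(g.comp (Subgroup.inclusion hUV)).range, ginv w ∈ U := by
    rintro ⟨_, u, rfl⟩
    rw [hinv u]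
    exact u.2
  have hk1 := F.comp_mem hginv hf h1
  have h2 : ∀ w : ↥(g.comp (Subgroup.inclusion hUV)).range,
      (f.comp (ginv.codRestrict U h1)) w ∈ V := fun w => hfV _
  have hk2 := F.comp_mem hk1 hg h2
  refine ⟨_, hk2, fun u hu => ?_⟩
  have e : ginv.codRestrict U h1 ⟨g (Subgroup.inclusion hUV u), hu⟩ = u :=
    Subtype.ext (hinv u)
  show g ⟨f (ginv.codRestrict U h1 ⟨g (Subgroup.inclusion hUV u), hu⟩), _⟩ = g ⟨f u, hfV u⟩
  congr 2
  rw [e]

/-- an injective endomorphism-like map of a finite strongly closed subgroup is onto -/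
theorem exists_preimage_of_stronglyClosed (F : FusionSystem S) {S₂ V : Subgroup Ω} [Finite S₂]
    (h₂ : F.StronglyClosed S₂) (hSV : S₂ ≤ V) {g : V →* Ω} (hg : g ∈ F.Hom V) (b : Ω) (hb : b ∈ S₂) :
    ∃ b' : S₂, g (Subgroup.inclusion hSV b') = b := by
  have hgS : g.comp (Subgroup.inclusion hSV) ∈ F.Hom S₂ := fs_restrict_mem F hSV hg
  have hval : ∀ x : S₂, (g.comp (Subgroup.inclusion hSV)) x ∈ S₂ := h₂.2 S₂ le_rfl _ hgS
  let e : S₂ →* S₂ := (g.comp (Subgroup.inclusion hSV)).codRestrict S₂ hval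
  have hinj : Function.Injective e := by
    intro a c hac
    have h1 : g (Subgroup.inclusion hSV a) = g (Subgroup.inclusion hSV c) :=
      congrArg (fun z : S₂ => (z : Ω)) hac
    exact Subgroup.inclusion_injective hSV (F.injective_of_mem hg h1)
  obtain ⟨b', hb'⟩ := (Finite.injective_iff_surjective.mp hinj) ⟨b, hb⟩
  exact ⟨b', congrArg (fun z : S₂ => (z : Ω)) hb'⟩

/-- **Extension over a centralizing strongly closed subgroup.** -/
theorem exists_extension_sup [Finite S] (p : ℕ) (F : FusionSystem S) (hF : F.IsSaturated p)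
    {S₂ : Subgroup Ω} (h₂ : F.StronglyClosed S₂) {P : Subgroup Ω}
    (hcent : ∀ a ∈ P, ∀ b ∈ S₂, a * b = b * a) {φ : P →* Ω} (hφ : φ ∈ F.Hom P)
    (hφc : ∀ x : P, ∀ b ∈ S₂, φ x * b = b * φ x) :
    ∃ ψ ∈ F.Hom (P ⊔ S₂), ∀ x : P, ψ (Subgroup.inclusion le_sup_left x) = φ x := by
  have hS₂S : S₂ ≤ S := h₂.1
  haveI : Finite S₂ := finite_of_le hS₂S
  have hPS : P ≤ S := (F.le_of_mem hφ).1
  have hQS : φ.range ≤ S := by
    rintro _ ⟨x, rfl⟩
    exact (F.le_of_mem hφ).2 x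
  obtain ⟨Qs, ⟨χ₀, hχ₀, hχ₀r⟩, -, hRec⟩ := hF φ.range hQS
  -- θ = χ₀ ∘ φ
  have hφQ : ∀ x : P, φ x ∈ φ.range := fun x => ⟨x, rfl⟩
  have hθ := F.comp_mem hφ hχ₀ hφQ
  set θ : P →* Ω := χ₀.comp (φ.codRestrict φ.range hφQ) with hθdef
  have hθr : θ.range = Qs := by
    rw [← hχ₀r]
    ext y
    constructor
    · rintro ⟨x, rfl⟩
      exact ⟨_, rfl⟩
    · rintro ⟨⟨_, x, rfl⟩, rfl⟩
      exact ⟨x, rfl⟩
  obtain ⟨ψ₁, hψ₁, hψ₁e⟩ := hRec.2 P θ hθ hθr
  obtain ⟨ψ₂, hψ₂, hψ₂e⟩ := hRec.2 φ.range χ₀ hχ₀ hχ₀r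
  -- `S₂` lies in both extenders
  have hS₂ext : ∀ (P' : Subgroup Ω) (φ' : P' →* Ω), (∀ a ∈ P', ∀ b ∈ S₂, a * b = b * a) →
      S₂ ≤ extender S P' φ' := by
    intro P' φ' hc b hb
    have hconj : ∀ x : P', b * (x : Ω) * b⁻¹ = x := by
      intro x
      rw [← hc x x.2 b hb, mul_inv_cancel_right]
    apply mem_extender_of_mem (hS₂S hb)
    · rw [Subgroup.mem_normalizer_iff]
      intro x
      constructor
      · intro hx
        have := hconj ⟨x, hx⟩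
        simp only at this
        rw [this]; exact hx
      · intro hx
        have h1 : x = b⁻¹ * (b * x * b⁻¹) * b := by group
        have h2 := hconj ⟨b * x * b⁻¹, hx⟩
        simp only at h2
        have h3 : b * x * b⁻¹ = x := by
          have : b * (b * x * b⁻¹) * b⁻¹ = b * x * b⁻¹ := h2
          have h4 : b * x * b⁻¹ = b⁻¹ * (b * (b * x * b⁻¹) * b⁻¹) * b := by group
          rw [this] at h4
          rw [h4]; group
        rw [← h3]; exact hx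
    · refine ⟨1, S.one_mem, fun x hx => ?_⟩
      have e : (⟨b * (x : Ω) * b⁻¹, hx⟩ : P') = x := Subtype.ext (hconj x)
      rw [e]; simp
  have hle₁ : P ⊔ S₂ ≤ extender S P θ := sup_le (le_extender F hθ) (hS₂ext P θ hcent)
  have hcentQ : ∀ a ∈ φ.range, ∀ b ∈ S₂, a * b = b * a := by
    rintro _ ⟨x, rfl⟩ b hb
    exact hφc x b hb
  have hle₂ : φ.range ⊔ S₂ ≤ extender S φ.range χ₀ :=
    sup_le (le_extender F hχ₀) (hS₂ext _ χ₀ hcentQ)
  have hψ₁' : ψ₁.comp (Subgroup.inclusion hle₁) ∈ F.Hom (P ⊔ S₂) := fs_restrict_mem F hle₁ hψ₁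
  have hψ₂' : ψ₂.comp (Subgroup.inclusion hle₂) ∈ F.Hom (φ.range ⊔ S₂) := fs_restrict_mem F hle₂ hψ₂
  set ψ₁' := ψ₁.comp (Subgroup.inclusion hle₁) with hψ₁'def
  set ψ₂' := ψ₂.comp (Subgroup.inclusion hle₂) with hψ₂'def
  -- values of ψ₁' on P and ψ₂' on φ.range
  have hψ₁P : ∀ x : P, ψ₁' (Subgroup.inclusion le_sup_left x) = θ x := by
    intro x
    exact hψ₁e x x.2 (hle₁ (le_sup_left (a := P) (b := S₂) x.2))
  have hψ₂Q : ∀ y : φ.range, ψ₂' (Subgroup.inclusion le_sup_left y) = χ₀ y := by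
    intro y
    exact hψ₂e y y.2 (hle₂ (le_sup_left (a := φ.range) (b := S₂) y.2))
  -- ψ₁' has values in the range of ψ₂'
  have hK : ∀ y : ↥(P ⊔ S₂), ψ₁' y ∈ ψ₂'.range := by
    have hcomap : (⊤ : Subgroup ↥(P ⊔ S₂)) ≤ ψ₂'.range.comap ψ₁' := by
      have htop : (P.subgroupOf (P ⊔ S₂)) ⊔ (S₂.subgroupOf (P ⊔ S₂)) = ⊤ := by
        rw [← Subgroup.subgroupOf_sup le_sup_left le_sup_right, Subgroup.subgroupOf_self]
      rw [← htop]
      apply sup_le
      · intro y hy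
        rw [Subgroup.mem_subgroupOf] at hy
        rw [Subgroup.mem_comap]
        have e : y = Subgroup.inclusion le_sup_left (⟨(y : Ω), hy⟩ : P) := Subtype.ext rfl
        rw [e, hψ₁P]
        refine ⟨Subgroup.inclusion le_sup_left (⟨φ ⟨(y : Ω), hy⟩, ⟨_, rfl⟩⟩ : φ.range), ?_⟩
        rw [hψ₂Q]
        rfl
      · intro y hy
        rw [Subgroup.mem_subgroupOf] at hy
        rw [Subgroup.mem_comap]
        have hyS₂ : ψ₁' y ∈ S₂ := by
          have h1 := fs_restrict_mem F (le_sup_right : S₂ ≤ P ⊔ S₂) hψ₁'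
          have h2 := h₂.2 S₂ le_rfl _ h1 ⟨(y : Ω), hy⟩
          exact h2
        obtain ⟨b', hb'⟩ := exists_preimage_of_stronglyClosed F h₂
          (le_sup_right : S₂ ≤ φ.range ⊔ S₂) hψ₂' (ψ₁' y) hyS₂
        exact ⟨_, hb'⟩
    intro y
    exact hcomap (Subgroup.mem_top y)
  obtain ⟨ψinv, hψinv, hinv⟩ := F.inv_mem hψ₂'
  have hcomp := F.comp_mem hψ₁' hψinv hK
  refine ⟨_, hcomp, fun x => ?_⟩
  show ψinv ⟨ψ₁' (Subgroup.inclusion le_sup_left x), _⟩ = φ x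
  have e : (⟨ψ₁' (Subgroup.inclusion le_sup_left x), hK _⟩ : ψ₂'.range) =
      ⟨ψ₂' (Subgroup.inclusion le_sup_left (⟨φ x, ⟨x, rfl⟩⟩ : φ.range)), ⟨_, rfl⟩⟩ := by
    apply Subtype.ext
    show ψ₁' (Subgroup.inclusion le_sup_left x) = ψ₂' _
    rw [hψ₁P, hψ₂Q]
    rfl
  rw [e, hinv]
  rfl

end Cfsg.Agent.Lib.Helper7.DirProd
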