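import Mathlib
import Cfsg.Prelude.Def_FusionSystem
import Cfsg.Prelude.Def_TwoFusion
import Cfsg.Agent.Lib.Helper7.DirProdB
import Cfsg.Agent.Lib.Helper7.KNormalizerSat2
import Cfsg.Agent.Lib.Helper7.FusionNormalizer

/-!
# Direct products of strongly closed subgroups: saturation and strong invariance

Setting: `F` saturated over `S = S₁ × S₂` with `S₁`, `S₂` strongly closed; `R` the full subsystem on `S₁`,
`R'` the subsystem of the maps of `C_F(S₂)` between subgroups of `S₁`.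
-/

set_option autoImplicit false
set_option linter.unusedSectionVars false
set_option linter.unusedVariables false
set_option linter.style.haveILetI false

namespace Cfsg.Agent.Lib.Helper7.DirProd

open Cfsg Cfsg.FusionSystem Cfsg.Agent.Lib.Helper7

variable {Ω : Type*} [Group Ω] {S : Subgroup Ω}

theorem dec_of_prod {S₁ S₂ : Subgroup Ω} (hprod : IsInternalDirectProduct S₁ S₂ S) :
    ∀ g ∈ S, ∃ a ∈ S₁, ∃ b ∈ S₂, g = a * b := by
  intro g hg
  rw [← hprod.2.2.2.2] at hg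
  exact exists_mul_of_mem_sup hprod.2.2.1 hg

theorem le_centralizerIn_of_prod {S₁ S₂ : Subgroup Ω} (hprod : IsInternalDirectProduct S₁ S₂ S) :
    S₁ ≤ centralizerIn S S₂ := by
  refine le_inf hprod.1 ?_
  intro a ha
  rw [Subgroup.mem_centralizer_iff]
  intro b hb
  exact (hprod.2.2.1 a ha b hb).symm

/-- a strongly closed subgroup of a finite `S` is fully centralized -/
theorem isFullyCentralized_of_stronglyClosed [Finite S] (F : FusionSystem S) {S₂ : Subgroup Ω}
    (h₂ : F.StronglyClosed S₂) : F.IsFullyCentralized S₂ := by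
  haveI : Finite S₂ := finite_of_le h₂.1
  refine ⟨h₂.1, ?_⟩
  rintro Q ⟨φ, hφ, rfl⟩
  have hle : φ.range ≤ S₂ := by
    rintro _ ⟨x, rfl⟩
    exact h₂.2 S₂ le_rfl φ hφ x
  have hcard : Nat.card ↥φ.range = Nat.card ↥S₂ := by
    have e : S₂ ≃ φ.range := Equiv.ofInjective φ (F.injective_of_mem hφ)
    exact (Nat.card_congr e).symm
  have heq : φ.range = S₂ := Subgroup.eq_of_le_of_card_ge hle hcard.ge
  rw [heq]

/-- the full subsystem on `S₁` is saturated -/
theorem full_isSaturated (p : ℕ) (F : FusionSystem S) (hF : F.IsSaturated p) {S₁ S₂ : Subgroup Ω}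
    (hprod : IsInternalDirectProduct S₁ S₂ S) (h₁ : F.StronglyClosed S₁)
    (R : FusionSystem S₁) (hR : ∀ P : Subgroup Ω, P ≤ S₁ → R.Hom P = F.Hom P) : R.IsSaturated p :=
  full_restrict_isSaturated p F hF h₁ hprod.2.2.1 (dec_of_prod hprod) R hR

/-- the `C_F(S₂)`-part on `S₁` is saturated -/
theorem cent_isSaturated [Finite S] (p : ℕ) [Fact p.Prime] (hS : IsPGroup p S) (F : FusionSystem S)
    (hF : F.IsSaturated p) {S₁ S₂ : Subgroup Ω}
    (hprod : IsInternalDirectProduct S₁ S₂ S) (h₁ : F.StronglyClosed S₁) (h₂ : F.StronglyClosed S₂)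
    (R' : FusionSystem S₁) (hR' : ∀ P : Subgroup Ω, P ≤ S₁ → R'.Hom P = F.centralizerHom S₂ P) :
    R'.IsSaturated p := by
  obtain ⟨C, hC⟩ := exists_centralizerSystem F S₂ h₂.1
  have hCsat := centralizerSystem_isSaturated p hS F hF S₂
    (isFullyCentralized_of_stronglyClosed F h₂) C hC
  have hcomm := hprod.2.2.1
  have hC₁ : C.StronglyClosed S₁ := by
    refine ⟨le_centralizerIn_of_prod hprod, fun P hP φ hφ x => ?_⟩
    rw [hC P] at hφ
    exact h₁.2 P hP φ hφ.1 x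
  refine full_restrict_isSaturated (T₂ := S₂ ⊓ Subgroup.centralizer (S₂ : Set Ω)) p C hCsat hC₁
    (fun a ha b hb => hcomm a ha b hb.1) ?_ R' (fun P hP => (hR' P hP).trans (hC P).symm)
  intro g hg
  obtain ⟨a, ha, b, hb, rfl⟩ := dec_of_prod hprod g hg.1
  refine ⟨a, ha, b, ⟨hb, ?_⟩, rfl⟩
  have haC : a ∈ Subgroup.centralizer (S₂ : Set Ω) := (le_centralizerIn_of_prod hprod ha).2
  have : b = a⁻¹ * (a * b) := by group
  rw [this]
  exact Subgroup.mul_mem _ (Subgroup.inv_mem _ haC) hg.2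

theorem cent_isSubsystemOf (F : FusionSystem S) {S₁ S₂ : Subgroup Ω}
    (R' : FusionSystem S₁) (hR' : ∀ P : Subgroup Ω, P ≤ S₁ → R'.Hom P = F.centralizerHom S₂ P) :
    R'.IsSubsystemOf F := by
  intro P φ hφ
  have hP := (R'.le_of_mem hφ).1
  rw [hR' P hP] at hφ
  exact hφ.1

/-- strong invariance of the `C_F(S₂)`-part -/
theorem cent_strongInv [Finite S] (p : ℕ) (F : FusionSystem S)
    (hF : F.IsSaturated p) {S₁ S₂ : Subgroup Ω}
    (hprod : IsInternalDirectProduct S₁ S₂ S) (h₁ : F.StronglyClosed S₁) (h₂ : F.StronglyClosed S₂)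
    (R' : FusionSystem S₁) (hR' : ∀ P : Subgroup Ω, P ≤ S₁ → R'.Hom P = F.centralizerHom S₂ P) :
    StrongInv F R' := by
  haveI : Finite S₂ := finite_of_le h₂.1
  have hcomm := hprod.2.2.1
  intro P Q hPQ hQ φ hφ hφQ ψ hψ
  have hP : P ≤ S₁ := hPQ.trans hQ
  rw [hR' P hP] at hφ
  obtain ⟨hφF, hPle, hφval, φt, hφt, hφtP, hφtS⟩ := hφ
  -- extend ψ
  have hψS₁ : ∀ x : Q, ψ x ∈ S₁ := h₁.2 Q hQ ψ hψ
  obtain ⟨ψt, hψt, hψtQ⟩ := exists_extension_sup p F hF h₂
    (fun a ha b hb => hcomm a (hQ ha) b hb) hψ (fun x b hb => hcomm _ (hψS₁ x) b hb)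
  have hUV : P ⊔ S₂ ≤ Q ⊔ S₂ := sup_le_sup_right hPQ S₂
  have hfV : ∀ u : ↥(P ⊔ S₂), φt u ∈ Q ⊔ S₂ := by
    apply ext_values_mem_sup φ φt hφtP _ hφQ
    rintro _ ⟨y, hy, rfl⟩
    rw [SetLike.mem_coe, Subgroup.mem_subgroupOf] at hy
    have e : y = Subgroup.inclusion le_sup_right (⟨(y : Ω), hy⟩ : S₂) := Subtype.ext rfl
    rw [e, hφtS]
    exact hy
  obtain ⟨W, hWdef⟩ : ∃ W, (ψt.comp (Subgroup.inclusion hUV)).range = W := ⟨_, rfl⟩
  obtain ⟨k, hk, hkeq⟩ := conj_hom_exists F hUV hφt hfV hψt W hWdef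
  have hmemW : ∀ u : ↥(P ⊔ S₂), ψt (Subgroup.inclusion hUV u) ∈ W := fun u => by
    rw [← hWdef]; exact ⟨u, rfl⟩
  -- the image of `P` under `ψ`
  set ψP := (P.subgroupOf Q).map ψ with hψP
  have hψP₁ : ψP ≤ S₁ := by
    rintro _ ⟨y, -, rfl⟩
    exact hψS₁ y
  have hleW : ψP ⊔ S₂ ≤ W := by
    apply sup_le
    · rintro _ ⟨y, hy, rfl⟩
      rw [SetLike.mem_coe, Subgroup.mem_subgroupOf] at hy
      rw [← hWdef]
      refine ⟨Subgroup.inclusion le_sup_left (⟨(y : Ω), hy⟩ : P), ?_⟩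
      show ψt (Subgroup.inclusion hUV (Subgroup.inclusion le_sup_left (⟨(y : Ω), hy⟩ : P))) = ψ y
      rw [← hψtQ y]
      rfl
    · intro b hb
      obtain ⟨b', hb'⟩ := exists_preimage_of_stronglyClosed F h₂
        (le_sup_right : S₂ ≤ Q ⊔ S₂) hψt b hb
      rw [← hWdef]
      refine ⟨Subgroup.inclusion le_sup_right b', ?_⟩
      rw [← hb']
      rfl
  have hχt : k.comp (Subgroup.inclusion hleW) ∈ F.Hom (ψP ⊔ S₂) := fs_restrict_mem F hleW hk
  have hχ : (k.comp (Subgroup.inclusion hleW)).comp (Subgroup.inclusion le_sup_left) ∈ F.Hom ψP :=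
    fs_restrict_mem F le_sup_left hχt
  refine ⟨(k.comp (Subgroup.inclusion hleW)).comp (Subgroup.inclusion le_sup_left), ?_,
    fun x hx => ?_⟩
  · rw [hR' ψP hψP₁]
    refine ⟨hχ, hψP₁.trans (le_centralizerIn_of_prod hprod), fun x => ?_, _, hχt, fun x => rfl,
      fun b => ?_⟩
    · exact le_centralizerIn_of_prod hprod (h₁.2 ψP hψP₁ _ hχ x)
    · -- identity on S₂
      obtain ⟨b', hb'⟩ := exists_preimage_of_stronglyClosed F h₂
        (le_sup_right : S₂ ≤ Q ⊔ S₂) hψt b b.2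
      have hu : ψt (Subgroup.inclusion hUV (Subgroup.inclusion le_sup_right b')) ∈ W := hmemW _
      have h1 := hkeq (Subgroup.inclusion le_sup_right b') hu
      have e1 : (Subgroup.inclusion hleW (Subgroup.inclusion le_sup_right b) : W) =
          ⟨ψt (Subgroup.inclusion hUV (Subgroup.inclusion le_sup_right b')), hu⟩ := by
        apply Subtype.ext
        show (b : Ω) = _
        rw [← hb']
        rfl
      show k (Subgroup.inclusion hleW (Subgroup.inclusion le_sup_right b)) = b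
      rw [e1, h1, ← hb']
      congr 1
      apply Subtype.ext
      exact hφtS b'
  · -- the defining equation
    have hu : ψt (Subgroup.inclusion hUV (Subgroup.inclusion le_sup_left x)) ∈ W := hmemW _
    have h1 := hkeq (Subgroup.inclusion le_sup_left x) hu
    have e1 : (Subgroup.inclusion hleW (Subgroup.inclusion le_sup_left
        (⟨ψ (Subgroup.inclusion hPQ x), hx⟩ : ψP)) : W) =
        ⟨ψt (Subgroup.inclusion hUV (Subgroup.inclusion le_sup_left x)), hu⟩ := by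
      apply Subtype.ext
      show ψ (Subgroup.inclusion hPQ x) = _
      rw [← hψtQ]
      rfl
    show k (Subgroup.inclusion hleW (Subgroup.inclusion le_sup_left
        (⟨ψ (Subgroup.inclusion hPQ x), hx⟩ : ψP))) = ψ ⟨φ x, hφQ x⟩
    rw [e1, h1, ← hψtQ]
    congr 1
    apply Subtype.ext
    exact hφtP x

end Cfsg.Agent.Lib.Helper7.DirProd
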