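import Mathlib
import Cfsg.Prelude.Def_FusionSystem
import Cfsg.Prelude.Def_TwoFusion
import Cfsg.Agent.Lib.Helper7.DirProdC

/-!
# Direct products of strongly closed subgroups: normality of the factors

Setting: `F` saturated over `S = S₁ × S₂` with `S₁`, `S₂` strongly closed; `R` the full subsystem on `S₁`,
`R'` the subsystem of the maps of `C_F(S₂)` between subgroups of `S₁`.  Then `R' ⊴ F`, `R' ⊴ R` and `R` is weakly
normal in `F`.
-/

set_option autoImplicit false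
set_option linter.unusedSectionVars false
set_option linter.unusedVariables false
set_option linter.style.haveILetI false

namespace Cfsg.Agent.Lib.Helper7.DirProd

open Cfsg Cfsg.FusionSystem Cfsg.Agent.Lib.Helper7

variable {Ω : Type*} [Group Ω] {S : Subgroup Ω}

/-- an `F`-map on `V ≥ U` preserving the finite subgroup `U` restricts to an element of `Aut_F(U)` -/
theorem exists_aut_of_hom (F : FusionSystem S) {U V : Subgroup Ω} [Finite U] (hUS : U ≤ S) (hUV : U ≤ V)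
    {ψ : V →* Ω} (hψ : ψ ∈ F.Hom V) (hmem : ∀ u : U, ψ (Subgroup.inclusion hUV u) ∈ U) :
    ∃ β ∈ F.autGroup U, ∀ u : U, ((β u : U) : Ω) = ψ (Subgroup.inclusion hUV u) := by
  let f : U →* U := (ψ.comp (Subgroup.inclusion hUV)).codRestrict U hmem
  have hinj : Function.Injective f := by
    intro a b hab
    have h1 : ψ (Subgroup.inclusion hUV a) = ψ (Subgroup.inclusion hUV b) :=
      congrArg (fun z : U => (z : Ω)) hab
    exact Subgroup.inclusion_injective _ (F.injective_of_mem hψ h1)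
  refine ⟨MulEquiv.ofBijective f ⟨hinj, Finite.injective_iff_surjective.mp hinj⟩, ?_, fun x => rfl⟩
  rw [mem_autGroup_iff F hUS]
  have h2 := fs_restrict_mem F hUV hψ
  convert h2 using 1
  ext x
  rfl

/-- an automorphism preserves the centre -/
theorem aut_mem_centralizer {T : Subgroup Ω} (α : MulAut T) (a : T)
    (ha : (a : Ω) ∈ Subgroup.centralizer (T : Set Ω)) :
    ((α a : T) : Ω) ∈ Subgroup.centralizer (T : Set Ω) := by
  rw [Subgroup.mem_centralizer_iff]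
  intro y hy
  have hy' : y = ((α (α⁻¹ ⟨y, hy⟩) : T) : Ω) := by rw [MulAut.apply_inv_self]
  rw [hy']
  have h1 : (α⁻¹ ⟨y, hy⟩ : T) * a = a * (α⁻¹ ⟨y, hy⟩ : T) := by
    apply Subtype.ext
    exact (Subgroup.mem_centralizer_iff.mp ha _ (α⁻¹ ⟨y, hy⟩ : T).2)
  have h2 := congrArg (fun z : T => ((α z : T) : Ω)) h1
  simpa only [map_mul, Subgroup.coe_mul] using h2

theorem full_isSubsystemOf (F : FusionSystem S) {S₁ : Subgroup Ω}
    (R : FusionSystem S₁) (hR : ∀ P : Subgroup Ω, P ≤ S₁ → R.Hom P = F.Hom P) :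
    R.IsSubsystemOf F := by
  intro P φ hφ
  have hP := (R.le_of_mem hφ).1
  rw [hR P hP] at hφ
  exact hφ

theorem cent_isSubsystemOf_full (F : FusionSystem S) {S₁ S₂ : Subgroup Ω}
    (R R' : FusionSystem S₁) (hR : ∀ P : Subgroup Ω, P ≤ S₁ → R.Hom P = F.Hom P)
    (hR' : ∀ P : Subgroup Ω, P ≤ S₁ → R'.Hom P = F.centralizerHom S₂ P) :
    R'.IsSubsystemOf R := by
  intro P φ hφ
  have hP := (R'.le_of_mem hφ).1
  rw [hR P hP]
  exact cent_isSubsystemOf F R' hR' P hφ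

/-- `R'` is invariant in `F` -/
theorem cent_isInvariantIn [Finite S] (p : ℕ) [Fact p.Prime] (hS : IsPGroup p S) (F : FusionSystem S)
    (hF : F.IsSaturated p) {S₁ S₂ : Subgroup Ω}
    (hprod : IsInternalDirectProduct S₁ S₂ S) (h₁ : F.StronglyClosed S₁) (h₂ : F.StronglyClosed S₂)
    (R' : FusionSystem S₁) (hR' : ∀ P : Subgroup Ω, P ≤ S₁ → R'.Hom P = F.centralizerHom S₂ P) :
    R'.IsInvariantIn F :=
  (isInvariantIn_iff_strongInv p hS F hF R' (cent_isSubsystemOf F R' hR') h₁).mpr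
    (cent_strongInv p F hF hprod h₁ h₂ R' hR')

/-- `R'` is invariant in `R` -/
theorem cent_isInvariantIn_full [Finite S] (p : ℕ) [Fact p.Prime] (hS : IsPGroup p S)
    (F : FusionSystem S)
    (hF : F.IsSaturated p) {S₁ S₂ : Subgroup Ω}
    (hprod : IsInternalDirectProduct S₁ S₂ S) (h₁ : F.StronglyClosed S₁) (h₂ : F.StronglyClosed S₂)
    (R R' : FusionSystem S₁) (hR : ∀ P : Subgroup Ω, P ≤ S₁ → R.Hom P = F.Hom P)
    (hR' : ∀ P : Subgroup Ω, P ≤ S₁ → R'.Hom P = F.centralizerHom S₂ P) :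
    R'.IsInvariantIn R := by
  obtain ⟨-, -, hinv, hfr⟩ := cent_isInvariantIn p hS F hF hprod h₁ h₂ R' hR'
  have hAut : R.autGroup S₁ = F.autGroup S₁ := autGroup_eq_of_hom_eq F R (hR S₁ le_rfl)
  refine ⟨cent_isSubsystemOf_full F R R' hR hR',
    ⟨le_rfl, fun P hP φ hφ x => (R.le_of_mem hφ).2 x⟩, ?_, ?_⟩
  · intro P hPT φ hφ α hα
    rw [hAut] at hα
    exact hinv P hPT φ hφ α hα
  · intro P hPT φ hφ
    rw [hR P hPT] at hφ
    obtain ⟨α, hα, φ₀, hφ₀, h⟩ := hfr P hPT φ hφ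
    exact ⟨α, hAut ▸ hα, φ₀, hφ₀, h⟩

/-- `R` is invariant in `F` -/
theorem full_isInvariantIn (F : FusionSystem S) {S₁ : Subgroup Ω} (h₁ : F.StronglyClosed S₁)
    (R : FusionSystem S₁) (hR : ∀ P : Subgroup Ω, P ≤ S₁ → R.Hom P = F.Hom P) :
    R.IsInvariantIn F := by
  refine ⟨full_isSubsystemOf F R hR, h₁, ?_, ?_⟩
  · intro P hPT φ hφ α hα
    have hφF : φ ∈ F.Hom P := full_isSubsystemOf F R hR P hφ
    have hfV : ∀ u : P, φ u ∈ S₁ := (R.le_of_mem hφ).2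
    have hg : S₁.subtype.comp α.toMonoidHom ∈ F.Hom S₁ := (mem_autGroup_iff F h₁.1 α).mp hα
    have hW : ((S₁.subtype.comp α.toMonoidHom).comp (Subgroup.inclusion hPT)).range =
        (P.subgroupOf S₁).map (S₁.subtype.comp α.toMonoidHom) := by
      ext y
      constructor
      · rintro ⟨u, rfl⟩
        exact ⟨Subgroup.inclusion hPT u, Subgroup.mem_subgroupOf.mpr u.2, rfl⟩
      · rintro ⟨u, hu, rfl⟩
        exact ⟨⟨(u : Ω), Subgroup.mem_subgroupOf.mp hu⟩, rfl⟩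
    obtain ⟨k, hk, hkeq⟩ := conj_hom_exists F hPT hφF hfV hg _ hW
    have hWle : (P.subgroupOf S₁).map (S₁.subtype.comp α.toMonoidHom) ≤ S₁ := by
      rintro _ ⟨u, -, rfl⟩
      exact (α u).2
    refine ⟨k, ?_, fun x hφx hαx => ?_⟩
    · rw [hR _ hWle]
      exact hk
    · exact hkeq x hαx
  · intro P hPT φ hφ
    refine ⟨1, Subgroup.one_mem _, φ, ?_, fun x hx => rfl⟩
    rw [hR P hPT]
    exact hφ

/-- `R` is weakly normal in `F` -/
theorem full_isWeaklyNormalIn (p : ℕ) (F : FusionSystem S) (hF : F.IsSaturated p) {S₁ S₂ : Subgroup Ω}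
    (hprod : IsInternalDirectProduct S₁ S₂ S) (h₁ : F.StronglyClosed S₁)
    (R : FusionSystem S₁) (hR : ∀ P : Subgroup Ω, P ≤ S₁ → R.Hom P = F.Hom P) :
    R.IsWeaklyNormalIn F p :=
  ⟨full_isSaturated p F hF hprod h₁ R hR, hF, full_isInvariantIn F h₁ R hR⟩

/-- the extension condition for `R'` in `F` -/
theorem cent_extension [Finite S] (F : FusionSystem S) {S₁ S₂ : Subgroup Ω}
    (hprod : IsInternalDirectProduct S₁ S₂ S)
    (R' : FusionSystem S₁) (hR' : ∀ P : Subgroup Ω, P ≤ S₁ → R'.Hom P = F.centralizerHom S₂ P) :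
    ∀ α ∈ R'.autGroup S₁, ∃ β ∈ F.autGroup (S₁ ⊔ centralizerIn S S₁),
      (∀ x : S₁, ((β (Subgroup.inclusion le_sup_left x) : ↥(S₁ ⊔ centralizerIn S S₁)) : Ω) =
        ((α x : S₁) : Ω)) ∧
      ∀ c : ↥(S₁ ⊔ centralizerIn S S₁), (c : Ω) ∈ centralizerIn S S₁ →
        (c : Ω)⁻¹ * ((β c : ↥(S₁ ⊔ centralizerIn S S₁)) : Ω) ∈
          S₁ ⊓ Subgroup.centralizer (S₁ : Set Ω) := by
  intro α hα
  have hcomm := hprod.2.2.1
  have hα' := (mem_autGroup_iff R' le_rfl α).mp hα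
  rw [hR' S₁ le_rfl] at hα'
  obtain ⟨-, -, -, ψ, hψ, hψ₁, hψ₂⟩ := hα'
  have hUS : S₁ ⊔ centralizerIn S S₁ ≤ S := sup_le hprod.1 inf_le_left
  have hUV : S₁ ⊔ centralizerIn S S₁ ≤ S₁ ⊔ S₂ := by
    rw [hprod.2.2.2.2]; exact hUS
  have hS₂U : S₂ ≤ S₁ ⊔ centralizerIn S S₁ := by
    refine le_trans ?_ le_sup_right
    refine le_inf hprod.2.1 ?_
    intro b hb
    rw [Subgroup.mem_centralizer_iff]
    intro a ha
    exact hcomm a ha b hb
  haveI : Finite ↥(S₁ ⊔ centralizerIn S S₁) := finite_of_le hUS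
  -- the value of `ψ` on a product
  have hval : ∀ (u : ↥(S₁ ⊔ S₂)) (a : S₁) (b : S₂), (u : Ω) = (a : Ω) * (b : Ω) →
      ψ u = ((α a : S₁) : Ω) * (b : Ω) := by
    intro u a b hu
    have e : u = Subgroup.inclusion le_sup_left a * Subgroup.inclusion le_sup_right b :=
      Subtype.ext hu
    rw [e, map_mul, hψ₁, hψ₂]
    rfl
  have hmem : ∀ u : ↥(S₁ ⊔ centralizerIn S S₁), ψ (Subgroup.inclusion hUV u) ∈
      S₁ ⊔ centralizerIn S S₁ := by
    intro u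
    obtain ⟨a, ha, b, hb, hab⟩ := exists_mul_of_mem_sup hcomm (hUV u.2)
    rw [hval (Subgroup.inclusion hUV u) ⟨a, ha⟩ ⟨b, hb⟩ hab]
    exact Subgroup.mul_mem _ (le_sup_left (a := S₁) (α ⟨a, ha⟩).2) (hS₂U hb)
  obtain ⟨β, hβ, hβe⟩ := exists_aut_of_hom F hUS hUV hψ hmem
  refine ⟨β, hβ, fun x => ?_, fun c hc => ?_⟩
  · rw [hβe]
    exact hψ₁ x
  · obtain ⟨a, ha, b, hb, hab⟩ := exists_mul_of_mem_sup hcomm (hUV c.2)
    rw [hβe, hval (Subgroup.inclusion hUV c) ⟨a, ha⟩ ⟨b, hb⟩ hab]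
    have hcab : (c : Ω) = a * b := hab
    -- `a` is central in `S₁`
    have haZ : a ∈ Subgroup.centralizer (S₁ : Set Ω) := by
      have hbZ : b ∈ Subgroup.centralizer (S₁ : Set Ω) := by
        rw [Subgroup.mem_centralizer_iff]
        intro y hy
        exact hcomm y hy b hb
      have : a = (c : Ω) * b⁻¹ := by rw [hcab]; group
      rw [this]
      exact Subgroup.mul_mem _ hc.2 (Subgroup.inv_mem _ hbZ)
    have hαaZ := aut_mem_centralizer α ⟨a, ha⟩ haZ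
    have hαa : ((α ⟨a, ha⟩ : S₁) : Ω) ∈ S₁ := (α ⟨a, ha⟩).2
    have hbcomm : ((α ⟨a, ha⟩ : S₁) : Ω) * b = b * ((α ⟨a, ha⟩ : S₁) : Ω) := hcomm _ hαa b hb
    have e : (c : Ω)⁻¹ * (((α ⟨a, ha⟩ : S₁) : Ω) * b) = a⁻¹ * ((α ⟨a, ha⟩ : S₁) : Ω) := by
      rw [hcab, hcomm a ha b hb, hbcomm]; group
    show (c : Ω)⁻¹ * (((α ⟨a, ha⟩ : S₁) : Ω) * b) ∈ _
    rw [e]
    exact ⟨Subgroup.mul_mem _ (Subgroup.inv_mem _ ha) hαa,
      Subgroup.mul_mem _ (Subgroup.inv_mem _ haZ) hαaZ⟩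

/-- the extension condition for `R'` in `R` -/
theorem cent_extension_full [Finite S] (F : FusionSystem S) {S₁ S₂ : Subgroup Ω}
    (hS₁ : S₁ ≤ S)
    (R R' : FusionSystem S₁) (hR : ∀ P : Subgroup Ω, P ≤ S₁ → R.Hom P = F.Hom P)
    (hR' : ∀ P : Subgroup Ω, P ≤ S₁ → R'.Hom P = F.centralizerHom S₂ P) :
    ∀ α ∈ R'.autGroup S₁, ∃ β ∈ R.autGroup (S₁ ⊔ centralizerIn S₁ S₁),
      (∀ x : S₁, ((β (Subgroup.inclusion le_sup_left x) : ↥(S₁ ⊔ centralizerIn S₁ S₁)) : Ω) =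
        ((α x : S₁) : Ω)) ∧
      ∀ c : ↥(S₁ ⊔ centralizerIn S₁ S₁), (c : Ω) ∈ centralizerIn S₁ S₁ →
        (c : Ω)⁻¹ * ((β c : ↥(S₁ ⊔ centralizerIn S₁ S₁)) : Ω) ∈
          S₁ ⊓ Subgroup.centralizer (S₁ : Set Ω) := by
  intro α hα
  have hα' := (mem_autGroup_iff R' le_rfl α).mp hα
  have hαR : S₁.subtype.comp α.toMonoidHom ∈ R.Hom S₁ :=
    cent_isSubsystemOf_full F R R' hR hR' S₁ hα'
  have hUV : S₁ ⊔ centralizerIn S₁ S₁ ≤ S₁ := sup_le le_rfl inf_le_left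
  haveI : Finite S₁ := finite_of_le hS₁
  haveI : Finite ↥(S₁ ⊔ centralizerIn S₁ S₁) := finite_of_le hUV
  have hmem : ∀ u : ↥(S₁ ⊔ centralizerIn S₁ S₁),
      (S₁.subtype.comp α.toMonoidHom) (Subgroup.inclusion hUV u) ∈ S₁ ⊔ centralizerIn S₁ S₁ :=
    fun u => le_sup_left (a := S₁) (α (Subgroup.inclusion hUV u)).2
  obtain ⟨β, hβ, hβe⟩ := exists_aut_of_hom R hUV hUV hαR hmem
  refine ⟨β, hβ, fun x => ?_, fun c hc => ?_⟩
  · rw [hβe]
    rfl
  · rw [hβe]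
    have hαcZ := aut_mem_centralizer α (Subgroup.inclusion hUV c) hc.2
    exact ⟨Subgroup.mul_mem _ (Subgroup.inv_mem _ hc.1) (α (Subgroup.inclusion hUV c)).2,
      Subgroup.mul_mem _ (Subgroup.inv_mem _ hc.2) hαcZ⟩

/-- **The theorem on direct products of strongly closed subgroups.** -/
theorem directProduct_main [Finite S] (p : ℕ) [Fact p.Prime] (hS : IsPGroup p S)
    (F : FusionSystem S) (hF : F.IsSaturated p) (S₁ S₂ : Subgroup Ω)
    (hprod : IsInternalDirectProduct S₁ S₂ S) (h₁ : F.StronglyClosed S₁) (h₂ : F.StronglyClosed S₂)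
    (R R' : FusionSystem S₁) (hR : ∀ P : Subgroup Ω, P ≤ S₁ → R.Hom P = F.Hom P)
    (hR' : ∀ P : Subgroup Ω, P ≤ S₁ → R'.Hom P = F.centralizerHom S₂ P) :
    R.IsSaturated p ∧ R'.IsSaturated p ∧ R'.IsNormalIn F p ∧ R'.IsNormalIn R p ∧
      R.IsWeaklyNormalIn F p := by
  have hRsat := full_isSaturated p F hF hprod h₁ R hR
  have hR'sat := cent_isSaturated p hS F hF hprod h₁ h₂ R' hR'
  exact ⟨hRsat, hR'sat,
    ⟨⟨hR'sat, hF, cent_isInvariantIn p hS F hF hprod h₁ h₂ R' hR'⟩, cent_extension F hprod R' hR'⟩,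
    ⟨⟨hR'sat, hRsat, cent_isInvariantIn_full p hS F hF hprod h₁ h₂ R R' hR hR'⟩,
      cent_extension_full F hprod.1 R R' hR hR'⟩,
    full_isWeaklyNormalIn p F hF hprod h₁ R hR⟩

end Cfsg.Agent.Lib.Helper7.DirProd
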