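import Mathlib
import Cfsg.Prelude.Def_FusionSystem
import Cfsg.Agent.Lib.Lead.OmegaFaithful
import Cfsg.Agent.Lib.Helper7.FusionExtend
import Cfsg.Agent.Lib.Helper7.FusionCore2
import Cfsg.Agent.Lib.Helper7.FusionInner

set_option autoImplicit false

namespace Cfsg.Agent.Lib.Helper7

theorem zmod_two_pow_two_torsion (a : ℕ) (ha : 1 ≤ a) (z : ZMod (2 ^ a)) (h : (2 : ℕ) • z = 0) :
    z = 0 ∨ z = (2 : ZMod (2 ^ a)) ^ (a - 1) := by
  haveI : NeZero (2 ^ a) := ⟨by positivity⟩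
  have hz : ((z.val : ℕ) : ZMod (2 ^ a)) = z := ZMod.natCast_zmod_val z
  have h1 : (((2 * z.val : ℕ)) : ZMod (2 ^ a)) = 0 := by
    rw [Nat.cast_mul, hz]
    rw [nsmul_eq_mul] at h
    exact_mod_cast h
  rw [ZMod.natCast_eq_zero_iff] at h1
  have hlt : z.val < 2 ^ a := ZMod.val_lt z
  have e : 2 ^ a = 2 * 2 ^ (a - 1) := by
    rw [← pow_succ']; congr 1; omega
  generalize z.val = v at *
  rw [e] at h1 hlt
  have h2 : 2 ^ (a - 1) ∣ v := (Nat.mul_dvd_mul_iff_left (by norm_num)).mp h1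
  obtain ⟨c, hc⟩ := h2
  have hpos : 0 < 2 ^ (a - 1) := by positivity
  have hc2 : c < 2 := by
    by_contra hcon
    push Not at hcon
    have : 2 * 2 ^ (a - 1) ≤ 2 ^ (a - 1) * c := by nlinarith
    omega
  interval_cases c
  · left
    rw [← hz, hc]; simp
  · right
    rw [← hz, hc]; simp

theorem zmod_two_pow_divisible (a : ℕ) (ha : 1 ≤ a) (k : ℕ) (hk : k + 1 ≠ a) (z : ZMod (2 ^ a))
    (h2 : (2 : ℕ) • z = 0) (hz : ∃ w : ZMod (2 ^ a), z = (2 ^ k : ℕ) • w) :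
    ∃ w' : ZMod (2 ^ a), z = (2 ^ (k + 1) : ℕ) • w' := by
  rcases zmod_two_pow_two_torsion a ha z h2 with h0 | h1
  · exact ⟨0, by rw [h0]; simp⟩
  · by_cases hak : a ≤ k
    · obtain ⟨w, hw⟩ := hz
      refine ⟨0, ?_⟩
      rw [hw, nsmul_eq_mul]
      have : ((2 ^ k : ℕ) : ZMod (2 ^ a)) = 0 := by
        rw [ZMod.natCast_eq_zero_iff]
        exact pow_dvd_pow 2 hak
      rw [this]; simp
    · refine ⟨(2 : ZMod (2 ^ a)) ^ (a - 2 - k), ?_⟩
      rw [h1, nsmul_eq_mul]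
      push_cast
      rw [← pow_add]
      congr 1
      omega

theorem flag_pi (n : ℕ) (a : Fin n → ℕ) (ha : StrictMono a) (ha1 : ∀ i, 1 ≤ a i) (k : ℕ)
    (x y : (i : Fin n) → ZMod (2 ^ a i)) (hx2 : (2 : ℕ) • x = 0) (hy2 : (2 : ℕ) • y = 0)
    (hx : ∃ u : (i : Fin n) → ZMod (2 ^ a i), x = (2 ^ k : ℕ) • u)
    (hy : ∃ v : (i : Fin n) → ZMod (2 ^ a i), y = (2 ^ k : ℕ) • v)
    (hx' : ¬ ∃ u : (i : Fin n) → ZMod (2 ^ a i), x = (2 ^ (k + 1) : ℕ) • u)
    (hy' : ¬ ∃ v : (i : Fin n) → ZMod (2 ^ a i), y = (2 ^ (k + 1) : ℕ) • v) :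
    ∃ w : (i : Fin n) → ZMod (2 ^ a i), -x + y = (2 ^ (k + 1) : ℕ) • w := by
  have hx2i : ∀ i, (2 : ℕ) • x i = 0 := fun i => congrFun hx2 i
  have hy2i : ∀ i, (2 : ℕ) • y i = 0 := fun i => congrFun hy2 i
  obtain ⟨u, hu⟩ := hx
  obtain ⟨v, hv⟩ := hy
  have hxi : ∀ i, ∃ w : ZMod (2 ^ a i), x i = (2 ^ k : ℕ) • w := fun i => ⟨u i, congrFun hu i⟩
  have hyi : ∀ i, ∃ w : ZMod (2 ^ a i), y i = (2 ^ k : ℕ) • w := fun i => ⟨v i, congrFun hv i⟩
  -- the exceptional index for x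
  have hexx : ∃ i, ¬ ∃ w : ZMod (2 ^ a i), x i = (2 ^ (k + 1) : ℕ) • w := by
    by_contra hcon
    push Not at hcon
    choose w hw using hcon
    exact hx' ⟨w, funext hw⟩
  have hexy : ∃ i, ¬ ∃ w : ZMod (2 ^ a i), y i = (2 ^ (k + 1) : ℕ) • w := by
    by_contra hcon
    push Not at hcon
    choose w hw using hcon
    exact hy' ⟨w, funext hw⟩
  obtain ⟨i, hi⟩ := hexx
  obtain ⟨j, hj⟩ := hexy
  have hai : k + 1 = a i := by
    by_contra hne
    exact hi (zmod_two_pow_divisible (a i) (ha1 i) k hne (x i) (hx2i i) (hxi i))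
  have haj : k + 1 = a j := by
    by_contra hne
    exact hj (zmod_two_pow_divisible (a j) (ha1 j) k hne (y j) (hy2i j) (hyi j))
  have hij : i = j := ha.injective (hai.symm.trans haj)
  subst hij
  have hxi0 : x i ≠ 0 := fun h0 => hi ⟨0, by rw [h0]; simp⟩
  have hyi0 : y i ≠ 0 := fun h0 => hj ⟨0, by rw [h0]; simp⟩
  have hxiv : x i = (2 : ZMod (2 ^ a i)) ^ (a i - 1) :=
    (zmod_two_pow_two_torsion (a i) (ha1 i) (x i) (hx2i i)).resolve_left hxi0
  have hyiv : y i = (2 : ZMod (2 ^ a i)) ^ (a i - 1) :=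
    (zmod_two_pow_two_torsion (a i) (ha1 i) (y i) (hy2i i)).resolve_left hyi0
  have hcomp : ∀ l, ∃ w : ZMod (2 ^ a l), -x l + y l = (2 ^ (k + 1) : ℕ) • w := by
    intro l
    by_cases hl : l = i
    · subst hl
      exact ⟨0, by rw [hxiv, hyiv]; simp⟩
    · have hne : k + 1 ≠ a l := fun h => hl (ha.injective (h.symm.trans hai))
      obtain ⟨w₁, hw₁⟩ := zmod_two_pow_divisible (a l) (ha1 l) k hne (x l) (hx2i l) (hxi l)
      obtain ⟨w₂, hw₂⟩ := zmod_two_pow_divisible (a l) (ha1 l) k hne (y l) (hy2i l) (hyi l)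
      exact ⟨-w₁ + w₂, by rw [hw₁, hw₂, smul_add, smul_neg]⟩
  choose w hw using hcomp
  exact ⟨w, funext hw⟩


/-- An automorphism of odd order of an abelian `2`-group stabilizing a flag with steps of order `≤ 2` in the
layers `Ω₁ ∩ ℧ᵏ` is trivial. -/
theorem aut_eq_one_of_flag {A : Type*} [Group A] (hc : ∀ x y : A, x * y = y * x) (α : MulAut A)
    (hα : Nat.Coprime (orderOf α) 2) (K : ℕ) (hK : ∀ x : A, x ^ 2 ^ K = 1)
    (hflag : ∀ k, ∀ x y : A, x ^ 2 = 1 → y ^ 2 = 1 → (∃ u, x = u ^ 2 ^ k) → (∃ v, y = v ^ 2 ^ k) →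
      (¬ ∃ u, x = u ^ 2 ^ (k + 1)) → (¬ ∃ v, y = v ^ 2 ^ (k + 1)) → ∃ w, x⁻¹ * y = w ^ 2 ^ (k + 1)) :
    α = 1 := by
  haveI : Fact (Nat.Prime 2) := ⟨Nat.prime_two⟩
  have hsq : ∀ x y : A, (x⁻¹ * y) ^ 2 = (x ^ 2)⁻¹ * y ^ 2 := by
    intro x y
    have h1 : Commute x⁻¹ y := hc _ _
    rw [h1.mul_pow, inv_pow]
  -- Claim 1
  have claim1 : ∀ t k, k + t = K → ∀ x : A, x ^ 2 = 1 → (∃ u, x = u ^ 2 ^ k) → α x = x := by
    intro t
    induction t with
    | zero =>
      intro k hk x _ ⟨u, hu⟩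
      have : k = K := by omega
      subst this
      rw [hu, hK, map_one]
    | succ t ih =>
      intro k hk x hx2 hxk
      have ih' := ih (k + 1) (by omega)
      by_cases hxk1 : ∃ u, x = u ^ 2 ^ (k + 1)
      · exact ih' x hx2 hxk1
      · have hy2 : (α x) ^ 2 = 1 := by rw [← map_pow, hx2, map_one]
        have hyk : ∃ v, α x = v ^ 2 ^ k := by
          obtain ⟨u, hu⟩ := hxk
          exact ⟨α u, by rw [hu, map_pow]⟩
        have hyk1 : ¬ ∃ v, α x = v ^ 2 ^ (k + 1) := by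
          rintro ⟨v, hv⟩
          apply hxk1
          refine ⟨α⁻¹ v, ?_⟩
          rw [← map_pow, ← hv, MulAut.inv_apply_self]
        obtain ⟨w, hw⟩ := hflag k x (α x) hx2 hy2 hxk hyk hxk1 hyk1
        have hd2 : (x⁻¹ * α x) ^ 2 = 1 := by rw [hsq, hx2, hy2]; simp
        have hdfix : α (x⁻¹ * α x) = x⁻¹ * α x := ih' _ hd2 ⟨w, hw⟩
        have hx' : α x = x * (x⁻¹ * α x) := by group
        have hd1 : (x⁻¹ * α x) ^ 2 ^ 1 = 1 := by rw [pow_one]; exact hd2
        have := Cfsg.Agent.Lib.Lead.OmegaFaithful.eq_one_of_step α hα hx' hdfix hd1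
        rw [this, mul_one] at hx'
        exact hx'
  have claim1' : ∀ x : A, x ^ 2 = 1 → α x = x := fun x hx =>
    claim1 K 0 (by omega) x hx ⟨x, by simp⟩
  -- Claim 2
  have claim2 : ∀ j, ∀ x : A, x ^ 2 ^ j = 1 → α x = x := by
    intro j
    induction j with
    | zero =>
      intro x hx
      rw [pow_zero, pow_one] at hx
      rw [hx, map_one]
    | succ j ih =>
      intro x hx
      have h1 : (x ^ 2) ^ 2 ^ j = 1 := by rw [← pow_mul, ← pow_succ']; exact hx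
      have h2 : α (x ^ 2) = x ^ 2 := ih _ h1
      have hd2 : (x⁻¹ * α x) ^ 2 = 1 := by
        rw [hsq, ← map_pow, h2]; simp
      have hdfix : α (x⁻¹ * α x) = x⁻¹ * α x := claim1' _ hd2
      have hx' : α x = x * (x⁻¹ * α x) := by group
      have hd1 : (x⁻¹ * α x) ^ 2 ^ 1 = 1 := by rw [pow_one]; exact hd2
      have := Cfsg.Agent.Lib.Lead.OmegaFaithful.eq_one_of_step α hα hx' hdfix hd1
      rw [this, mul_one] at hx'
      exact hx'
  ext x
  exact claim2 K x (hK x)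

/-- Automorphisms of odd order of `∏ ℤ/2^{aᵢ}` with distinct `aᵢ ≥ 1` are trivial. -/
theorem aut_eq_one_of_distinct_invariants (n : ℕ) (a : Fin n → ℕ) (ha : StrictMono a)
    (ha1 : ∀ i, 1 ≤ a i) (α : MulAut (Multiplicative ((i : Fin n) → ZMod (2 ^ a i))))
    (hα : Nat.Coprime (orderOf α) 2) : α = 1 := by
  apply aut_eq_one_of_flag (fun x y => mul_comm x y) α hα (∑ i, a i)
  · intro x
    apply Multiplicative.toAdd.injective
    rw [toAdd_pow, toAdd_one]
    funext i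
    rw [Pi.smul_apply, nsmul_eq_mul]
    have : ((2 ^ (∑ i, a i) : ℕ) : ZMod (2 ^ a i)) = 0 := by
      rw [ZMod.natCast_eq_zero_iff]
      exact pow_dvd_pow 2 (Finset.single_le_sum (f := a) (fun _ _ => Nat.zero_le _) (Finset.mem_univ i))
    rw [this]; simp
  · intro k x y hx2 hy2 hxk hyk hxk1 hyk1
    have conv1 : ∀ z : Multiplicative ((i : Fin n) → ZMod (2 ^ a i)), z ^ 2 = 1 →
        (2 : ℕ) • Multiplicative.toAdd z = 0 := by
      intro z hz
      rw [← toAdd_pow, hz, toAdd_one]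
    have conv2 : ∀ (m : ℕ) (z : Multiplicative ((i : Fin n) → ZMod (2 ^ a i))),
        (∃ u, z = u ^ 2 ^ m) ↔
          ∃ u : (i : Fin n) → ZMod (2 ^ a i), Multiplicative.toAdd z = (2 ^ m : ℕ) • u := by
      intro m z
      constructor
      · rintro ⟨u, rfl⟩
        exact ⟨Multiplicative.toAdd u, toAdd_pow _ _⟩
      · rintro ⟨u, hu⟩
        refine ⟨Multiplicative.ofAdd u, ?_⟩
        apply Multiplicative.toAdd.injective
        rw [hu, toAdd_pow, toAdd_ofAdd]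
    obtain ⟨w, hw⟩ := flag_pi n a ha ha1 k (Multiplicative.toAdd x) (Multiplicative.toAdd y)
      (conv1 x hx2) (conv1 y hy2) ((conv2 k x).mp hxk) ((conv2 k y).mp hyk)
      (fun h => hxk1 ((conv2 (k + 1) x).mpr h)) (fun h => hyk1 ((conv2 (k + 1) y).mpr h))
    apply (conv2 (k + 1) _).mpr
    exact ⟨w, by rw [toAdd_mul, toAdd_inv]; exact hw⟩


open Cfsg Cfsg.FusionSystem in
/-- Every saturated fusion system over an abelian `2`-group with pairwise distinct invariants is inner. -/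
theorem hom_eq_inner_of_distinct_invariants {Ω : Type*} [Group Ω] {S : Subgroup Ω} [Finite S]
    (n : ℕ) (a : Fin n → ℕ) (ha : StrictMono a) (ha1 : ∀ i, 1 ≤ a i)
    (e : ↥S ≃* Multiplicative ((i : Fin n) → ZMod (2 ^ a i))) (F : FusionSystem S)
    (hF : F.IsSaturated 2) (P : Subgroup Ω) : F.Hom P = (innerFusionSystem S).Hom P := by
  haveI : Fact (Nat.Prime 2) := ⟨Nat.prime_two⟩
  have hab : ∀ x ∈ S, ∀ y ∈ S, x * y = y * x := by
    intro x hx y hy
    have h1 : e (⟨x, hx⟩ * ⟨y, hy⟩) = e (⟨y, hy⟩ * ⟨x, hx⟩) := by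
      rw [map_mul, map_mul, mul_comm]
    exact congrArg Subtype.val (e.injective h1)
  have hS : IsPGroup 2 S := by
    apply IsPGroup.of_card (n := ∑ i, a i)
    rw [Nat.card_congr e.toEquiv]
    show Nat.card ((i : Fin n) → ZMod (2 ^ a i)) = _
    rw [Nat.card_pi]
    simp only [Nat.card_zmod]
    exact Finset.prod_pow_eq_pow_sum _ _ _
  haveI : Finite (MulAut ↥S) := inferInstance
  have hScl : F.StronglyClosed S := ⟨le_rfl, fun R _ φ hφ x => (F.le_of_mem hφ).2 x⟩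
  have habS : IsMulCommutative S := ⟨⟨fun a b => Subtype.ext (hab a a.2 b b.2)⟩⟩
  have hSn : F.IsNormal S := isNormal_of_abelian_stronglyClosed 2 hS F hF habS hScl
  have hext := (isNormal_iff_extend 2 hS F hF S le_rfl).mp hSn
  have hK : ¬ 2 ∣ Nat.card (F.autGroup S) := by
    obtain ⟨-, R, hR⟩ := isFullyAutomized_top_of_isSaturated 2 hS F hF
    have hbot : autInducedBy S S = ⊥ := by
      rw [eq_bot_iff]
      intro α hα
      obtain ⟨g, hg, hgα⟩ := (mem_autInducedBy_iff S S α).mp hα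
      rw [Subgroup.mem_bot]
      ext x
      rw [hgα, hab g hg x x.2]
      simp
    rw [hbot, Subgroup.bot_subgroupOf] at hR
    have := R.not_dvd_index
    rwa [hR, Subgroup.index_bot] at this
  have htriv : ∀ α ∈ F.autGroup S, α = 1 := by
    intro α hα
    have hcop : Nat.Coprime (orderOf α) 2 := by
      rw [Nat.coprime_comm, Nat.Prime.coprime_iff_not_dvd Nat.prime_two]
      intro h2
      apply hK
      have h3 : orderOf (⟨α, hα⟩ : F.autGroup S) ∣ Nat.card (F.autGroup S) := orderOf_dvd_natCard _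
      rw [← Subgroup.orderOf_coe] at h3
      exact h2.trans h3
    have hinj : Function.Injective (MulAut.congr e).toMonoidHom := (MulAut.congr e).injective
    have hord : orderOf ((MulAut.congr e) α) = orderOf α := orderOf_injective _ hinj α
    have h1 := aut_eq_one_of_distinct_invariants n a ha ha1 ((MulAut.congr e) α) (hord ▸ hcop)
    apply (MulAut.congr e).injective
    rw [h1, map_one]
  apply Set.Subset.antisymm
  · intro φ hφ
    obtain ⟨hPS, -⟩ := F.le_of_mem hφ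
    obtain ⟨α, hα, hαφ⟩ := hext P hPS φ hφ
    have h1 := htriv α hα
    subst h1
    have h2 : φ = conjHom P 1 := by
      ext x
      rw [← hαφ x]
      simp [conjHom]
    rw [h2]
    exact (innerFusionSystem S).conj_mem hPS S.one_mem
  · exact innerFusionSystem_le F P

end Cfsg.Agent.Lib.Helper7
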