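import Mathlib
import Cfsg.Agent.H2.ExtAction
import Cfsg.Agent.Lib.Helper7.CoprimeGen5

/-!
# Elementary abelian groups of order 8 acting on odd `p`-groups (helper7, for S4412), part A

* `fixG`, `fix1`, `ext_generation` (external form of generation by fixed points of cocyclic subgroups)
* `Adapted`, `prod3`, `exists_adapted` : bases of an elementary abelian group of order 8 adapted to
  three index two subgroups
* `cyc_dichotomy` : an involutory operator fixes or inverts the generator of an invariant cyclic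
  subgroup of odd prime power order
-/

set_option autoImplicit false

namespace Cfsg.Agent.Lib.Helper7.E8Act


open Cfsg.Agent.H2.ExtAct

section gen

variable {A P : Type*} [Group A] [Group P] [MulDistribMulAction A P]

/-- common fixed points of a subgroup of operators -/
def fixG (J : Subgroup A) : Subgroup P where
  carrier := {x | ∀ t ∈ J, t • x = x}
  one_mem' := fun t _ => smul_one t
  mul_mem' := fun {a b} ha hb t ht => by rw [smul_mul', ha t ht, hb t ht]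
  inv_mem' := fun {a} ha t ht => by rw [smul_inv', ha t ht]

theorem mem_fixG {J : Subgroup A} {x : P} : x ∈ fixG J ↔ ∀ t ∈ J, t • x = x := Iff.rfl

theorem fixG_anti {J K : Subgroup A} (h : J ≤ K) : fixG (P := P) K ≤ fixG J :=
  fun _ hx t ht => hx t (h ht)

/-- fixed points of one operator -/
def fix1 (a : A) : Subgroup P where
  carrier := {x | a • x = x}
  one_mem' := smul_one a
  mul_mem' := fun {x y} hx hy => by
    change a • (x * y) = x * y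
    rw [smul_mul', hx, hy]
  inv_mem' := fun {x} hx => by
    change a • x⁻¹ = x⁻¹
    rw [smul_inv', hx]

theorem mem_fix1 {a : A} {x : P} : x ∈ fix1 a ↔ a • x = x := Iff.rfl

theorem fixG_le_fix1 {J : Subgroup A} {a : A} (ha : a ∈ J) : fixG (P := P) J ≤ fix1 a :=
  fun _ hx => hx a ha

/-- **External generation lemma**: an abelian group `A` of operators of coprime order. -/
theorem ext_generation [Finite A] [Finite P]
    (hcomm : ∀ s t : A, s * t = t * s) (hcop : (Nat.card A).Coprime (Nat.card P)) :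
    (⨆ J ∈ {J : Subgroup A | ∃ a : A, J ⊔ Subgroup.zpowers a = ⊤}, fixG (P := P) J) = ⊤ := by
  set U : Subgroup P :=
    ⨆ J ∈ {J : Subgroup A | ∃ a : A, J ⊔ Subgroup.zpowers a = ⊤}, fixG (P := P) J with hU
  have hAab : IsMulCommutative ↥(AA A P) := by
    refine ⟨⟨?_⟩⟩
    rintro ⟨_, ⟨a, rfl⟩⟩ ⟨_, ⟨b, rfl⟩⟩
    apply Subtype.ext
    change (iA a : SD A P) * iA b = iA b * iA a
    rw [← map_mul, ← map_mul, hcomm a b]
  have hcop' : (Nat.card ↥(AA A P)).Coprime (Nat.card ↥(KK A P)) := by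
    rw [card_AA, card_KK]; exact hcop
  have hgen := (abelian_coprime_generation (AA A P) (KK A P) hAab (AA_le_normalizer_KK A P)
    hcop').1
  have hle : KK A P ≤ U.map (iG : P →* SD A P) := by
    rw [← hgen]
    apply iSup₂_le
    rintro B ⟨hBA, a, haA, hBa⟩
    obtain ⟨a', rfl⟩ := haA
    let J : Subgroup A := B.comap (iA : A →* SD A P)
    have hJcoc : J ∈ {J : Subgroup A | ∃ a : A, J ⊔ Subgroup.zpowers a = ⊤} := by
      refine ⟨a', ?_⟩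
      have hZ : Subgroup.zpowers (iA a' : SD A P) ≤ (iA : A →* SD A P).range := by
        rw [Subgroup.zpowers_le]; exact ⟨a', rfl⟩
      have h1 := Subgroup.comap_sup_eq_of_le_range (iA : A →* SD A P) hBA hZ
      rw [hBa] at h1
      have h2 : (Subgroup.zpowers (iA a' : SD A P)).comap (iA : A →* SD A P) =
          Subgroup.zpowers a' := by
        rw [← MonoidHom.map_zpowers, Subgroup.comap_map_eq_self_of_injective iA_injective]
      have h3 : (AA A P).comap (iA : A →* SD A P) = ⊤ := by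
        rw [eq_top_iff]; intro t _; exact ⟨t, rfl⟩
      rw [h2, h3] at h1
      exact h1
    refine le_trans ?_ (Subgroup.map_mono (le_iSup₂_of_le (f := fun J
      (_ : J ∈ {J : Subgroup A | ∃ a : A, J ⊔ Subgroup.zpowers a = ⊤}) => fixG (P := P) J)
      J hJcoc le_rfl))
    rintro x ⟨⟨g, rfl⟩, hx⟩
    refine ⟨g, ?_, rfl⟩
    intro t ht
    have hc := (Subgroup.mem_centralizer_iff.mp hx) _ ht
    have h2 : (iA t : SD A P) * iG g * (iA t)⁻¹ = iG g := by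
      rw [hc]; group
    rw [conj_iA_iG] at h2
    exact iG_injective h2
  rw [eq_top_iff]
  intro g _
  obtain ⟨u, hu, hug⟩ := hle (⟨g, rfl⟩ : (iG g : SD A P) ∈ KK A P)
  rw [← iG_injective hug]; exact hu



end gen

section basis

variable {A : Type*} [Group A]

/-- the eight products of a triple -/
def prod3 (t₁ t₂ t₃ : A) (v : Bool × Bool × Bool) : A :=
  (if v.1 then t₁ else 1) * (if v.2.1 then t₂ else 1) * (if v.2.2 then t₃ else 1)

/-- An *adapted basis* of an elementary abelian group of order 8 w.r.t. three index two subgroups. -/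
structure Adapted (t₁ t₂ t₃ : A) (J₁ J₂ J₃ : Subgroup A) : Prop where
  i1 : J₁.index = 2
  i2 : J₂.index = 2
  i3 : J₃.index = 2
  h11 : t₁ ∉ J₁
  h21 : t₂ ∈ J₁
  h31 : t₃ ∈ J₁
  h12 : t₁ ∈ J₂
  h22 : t₂ ∉ J₂
  h32 : t₃ ∈ J₂
  h13 : t₁ ∈ J₃
  h23 : t₂ ∈ J₃
  h33 : t₃ ∉ J₃

theorem Adapted.mem1 {t₁ t₂ t₃ : A} {J₁ J₂ J₃ : Subgroup A} (h : Adapted t₁ t₂ t₃ J₁ J₂ J₃)
    (v : Bool × Bool × Bool) : prod3 t₁ t₂ t₃ v ∈ J₁ ↔ v.1 = false := by
  obtain ⟨i, j, k⟩ := v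
  have m := @Subgroup.mul_mem_iff_of_index_two _ _ J₁ h.i1
  cases i <;> cases j <;> cases k <;>
    simp [prod3, m, h.h11, h.h21, h.h31]

theorem Adapted.mem2 {t₁ t₂ t₃ : A} {J₁ J₂ J₃ : Subgroup A} (h : Adapted t₁ t₂ t₃ J₁ J₂ J₃)
    (v : Bool × Bool × Bool) : prod3 t₁ t₂ t₃ v ∈ J₂ ↔ v.2.1 = false := by
  obtain ⟨i, j, k⟩ := v
  have m := @Subgroup.mul_mem_iff_of_index_two _ _ J₂ h.i2
  cases i <;> cases j <;> cases k <;>
    simp [prod3, m, h.h12, h.h22, h.h32]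

theorem Adapted.mem3 {t₁ t₂ t₃ : A} {J₁ J₂ J₃ : Subgroup A} (h : Adapted t₁ t₂ t₃ J₁ J₂ J₃)
    (v : Bool × Bool × Bool) : prod3 t₁ t₂ t₃ v ∈ J₃ ↔ v.2.2 = false := by
  obtain ⟨i, j, k⟩ := v
  have m := @Subgroup.mul_mem_iff_of_index_two _ _ J₃ h.i3
  cases i <;> cases j <;> cases k <;>
    simp [prod3, m, h.h13, h.h23, h.h33]

theorem Adapted.injective {t₁ t₂ t₃ : A} {J₁ J₂ J₃ : Subgroup A} (h : Adapted t₁ t₂ t₃ J₁ J₂ J₃) :
    Function.Injective (prod3 t₁ t₂ t₃) := by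
  intro v w hvw
  have e1 : v.1 = w.1 := by
    have a := h.mem1 v; have b := h.mem1 w; rw [hvw] at a
    cases hv : v.1 <;> cases hw : w.1 <;> simp_all
  have e2 : v.2.1 = w.2.1 := by
    have a := h.mem2 v; have b := h.mem2 w; rw [hvw] at a
    cases hv : v.2.1 <;> cases hw : w.2.1 <;> simp_all
  have e3 : v.2.2 = w.2.2 := by
    have a := h.mem3 v; have b := h.mem3 w; rw [hvw] at a
    cases hv : v.2.2 <;> cases hw : w.2.2 <;> simp_all
  exact Prod.ext e1 (Prod.ext e2 e3)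

theorem Adapted.surjective [Finite A] (hcard : Nat.card A = 8) {t₁ t₂ t₃ : A}
    {J₁ J₂ J₃ : Subgroup A} (h : Adapted t₁ t₂ t₃ J₁ J₂ J₃) :
    Function.Surjective (prod3 t₁ t₂ t₃) := by
  have := h.injective.bijective_of_nat_card_le (by
    rw [hcard]; simp)
  exact this.2

theorem exists_adapted [Finite A] (hcard : Nat.card A = 8)
    (𝓗 : Set (Subgroup A)) (hidx : ∀ J ∈ 𝓗, J.index = 2)
    (hint : ∀ a : A, (∀ J ∈ 𝓗, a ∈ J) → a = 1) :
    ∃ (t₁ t₂ t₃ : A) (J₁ J₂ J₃ : Subgroup A), J₁ ∈ 𝓗 ∧ J₂ ∈ 𝓗 ∧ J₃ ∈ 𝓗 ∧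
      Adapted t₁ t₂ t₃ J₁ J₂ J₃ := by
  have hsep : ∀ a : A, a ≠ 1 → ∃ J ∈ 𝓗, a ∉ J := by
    intro a ha
    by_contra hcon
    push Not at hcon
    exact ha (hint a hcon)
  -- a ∉ J₁
  have hnt : Nontrivial A := by
    rw [← Finite.one_lt_card_iff_nontrivial, hcard]; norm_num
  obtain ⟨a, ha⟩ := exists_ne (1 : A)
  obtain ⟨J₁, hJ₁, haJ₁⟩ := hsep a ha
  have i1 := hidx J₁ hJ₁
  have c1 : Nat.card J₁ = 4 := by
    have := J₁.card_mul_index; rw [i1, hcard] at this; omega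
  -- b ∈ J₁, b ∉ J₂
  have hJ₁nt : J₁ ≠ ⊥ := by
    intro h; rw [h, Subgroup.card_bot] at c1; omega
  obtain ⟨b, hbJ₁, hb1⟩ : ∃ b : A, b ∈ J₁ ∧ b ≠ 1 := by
    obtain ⟨b, hb⟩ := (Subgroup.ne_bot_iff_exists_ne_one).mp hJ₁nt
    exact ⟨(b : A), b.2, fun h => hb (Subtype.ext h)⟩
  obtain ⟨J₂, hJ₂, hbJ₂⟩ := hsep b hb1
  have i2 := hidx J₂ hJ₂
  -- t₃ ∈ J₁ ⊓ J₂
  have hJ12 : J₁ ⊓ J₂ ≠ ⊥ := by
    intro h
    have h1 := Subgroup.index_inf_le (H := J₁) (K := J₂)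
    rw [i1, i2, h, Subgroup.index_bot, hcard] at h1
    omega
  obtain ⟨t₃, ht₃mem, ht₃1⟩ : ∃ b : A, b ∈ J₁ ⊓ J₂ ∧ b ≠ 1 := by
    obtain ⟨b, hb⟩ := (Subgroup.ne_bot_iff_exists_ne_one).mp hJ12
    exact ⟨(b : A), b.2, fun h => hb (Subtype.ext h)⟩
  obtain ⟨ht₃J₁, ht₃J₂⟩ := Subgroup.mem_inf.mp ht₃mem
  obtain ⟨J₃, hJ₃, ht₃J₃⟩ := hsep t₃ ht₃1
  have i3 := hidx J₃ hJ₃
  have m1 := @Subgroup.mul_mem_iff_of_index_two _ _ J₁ i1
  have m2 := @Subgroup.mul_mem_iff_of_index_two _ _ J₂ i2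
  have m3 := @Subgroup.mul_mem_iff_of_index_two _ _ J₃ i3
  -- t₂ ∈ J₁ ⊓ J₃, ∉ J₂
  obtain ⟨t₂, h21, h22, h23⟩ : ∃ t₂, t₂ ∈ J₁ ∧ t₂ ∉ J₂ ∧ t₂ ∈ J₃ := by
    by_cases hb3 : b ∈ J₃
    · exact ⟨b, hbJ₁, hbJ₂, hb3⟩
    · refine ⟨b * t₃, mul_mem hbJ₁ ht₃J₁, ?_, ?_⟩
      · rw [m2]; tauto
      · rw [m3]; tauto
  -- t₁ ∉ J₁, ∈ J₂ ⊓ J₃
  obtain ⟨a', ha'1, ha'2⟩ : ∃ a', a' ∉ J₁ ∧ a' ∈ J₂ := by
    by_cases ha2 : a ∈ J₂
    · exact ⟨a, haJ₁, ha2⟩
    · refine ⟨a * t₂, ?_, ?_⟩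
      · rw [m1]; tauto
      · rw [m2]; tauto
  obtain ⟨t₁, h11, h12, h13⟩ : ∃ t₁, t₁ ∉ J₁ ∧ t₁ ∈ J₂ ∧ t₁ ∈ J₃ := by
    by_cases ha3 : a' ∈ J₃
    · exact ⟨a', ha'1, ha'2, ha3⟩
    · refine ⟨a' * t₃, ?_, mul_mem ha'2 ht₃J₂, ?_⟩
      · rw [m1]; tauto
      · rw [m3]; tauto
  exact ⟨t₁, t₂, t₃, J₁, J₂, J₃, hJ₁, hJ₂, hJ₃,
    ⟨i1, i2, i3, h11, h21, ht₃J₁, h12, h22, ht₃J₂, h13, h23, ht₃J₃⟩⟩


end basis

section cyc

variable {A P : Type*} [Group A] [Group P] [MulDistribMulAction A P]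



theorem smul_zpow' (a : A) (x : P) (k : ℤ) : a • x ^ k = (a • x) ^ k :=
  map_zpow (MulDistribMulAction.toMonoidHom P a) x k

/-- an involutory operator on an invariant cyclic subgroup of odd prime power order fixes or inverts
the generator. -/
theorem cyc_dichotomy [Finite P] {p : ℕ} [Fact p.Prime] (hp2 : p ≠ 2) (hP : IsPGroup p P)
    (s : A) (hs : s * s = 1) (g : P) (hinv : s • g ∈ Subgroup.zpowers g) :
    s • g = g ∨ s • g = g⁻¹ := by
  have hp : p.Prime := Fact.out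
  obtain ⟨k, hk⟩ := Subgroup.mem_zpowers_iff.mp hinv
  have h1 : g ^ (k * k) = g := by
    rw [zpow_mul, hk, ← smul_zpow', hk, ← mul_smul, hs, one_smul]
  have h2 : g ^ (k * k - 1) = 1 := by
    rw [zpow_sub, zpow_one, h1, mul_inv_cancel]
  have h3 : (orderOf g : ℤ) ∣ k * k - 1 := orderOf_dvd_iff_zpow_eq_one.mpr h2
  obtain ⟨m, hm⟩ := hP.exists_orderOf_eq_pow g
  have h4 : ((p : ℤ)) ^ m ∣ (k - 1) * (k + 1) := by
    have : (k - 1) * (k + 1) = k * k - 1 := by ring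
    rw [this, ← Nat.cast_pow, ← hm]; exact h3
  have hpi : Prime (p : ℤ) := Nat.prime_iff_prime_int.mp hp
  have hnot : ¬ ((p : ℤ) ∣ k - 1 ∧ (p : ℤ) ∣ k + 1) := by
    rintro ⟨ha, hb⟩
    have h5 : (p : ℤ) ∣ 2 := by
      have := dvd_sub hb ha
      have e : k + 1 - (k - 1) = 2 := by ring
      rwa [e] at this
    have h6 : p ∣ 2 := by exact_mod_cast h5
    exact hp2 ((Nat.prime_dvd_prime_iff_eq hp Nat.prime_two).mp h6)
  by_cases ha : (p : ℤ) ∣ k - 1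
  · left
    have hb : ¬ (p : ℤ) ∣ k + 1 := fun hb => hnot ⟨ha, hb⟩
    have hc : IsCoprime ((p : ℤ) ^ m) (k + 1) :=
      IsCoprime.pow_left ((hpi.irreducible.coprime_iff_not_dvd).mpr hb)
    have h7 : (p : ℤ) ^ m ∣ k - 1 := hc.dvd_of_dvd_mul_right h4
    rw [← Nat.cast_pow, ← hm] at h7
    have h8 : g ^ (k - 1) = 1 := orderOf_dvd_iff_zpow_eq_one.mp h7
    rw [← hk]
    rw [zpow_sub, zpow_one, mul_inv_eq_one] at h8
    exact h8
  · right
    have hc : IsCoprime ((p : ℤ) ^ m) (k - 1) :=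
      IsCoprime.pow_left ((hpi.irreducible.coprime_iff_not_dvd).mpr ha)
    have h7 : (p : ℤ) ^ m ∣ k + 1 := hc.dvd_of_dvd_mul_left h4
    rw [← Nat.cast_pow, ← hm] at h7
    have h8 : g ^ (k + 1) = 1 := orderOf_dvd_iff_zpow_eq_one.mp h7
    rw [← hk]
    rw [zpow_add, zpow_one] at h8
    exact eq_inv_of_mul_eq_one_left h8


end cyc

end Cfsg.Agent.Lib.Helper7.E8Act
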