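import Mathlib
import Cfsg.Agent.Lib.Helper7.E8ActA

/-!
# Elementary abelian groups of order 8 acting on odd `p`-groups (helper7, for S4412), part B

Non-broad operators `NB`, action on cyclic fixed point subgroups, `broad_of_two`, `cyc_struct`,
`stage1` (existence of an adapted basis whose hyperplanes have extra fixed points).
-/

set_option autoImplicit false

namespace Cfsg.Agent.Lib.Helper7.E8Act

section main


variable {A P : Type*} [Group A] [Group P] [MulDistribMulAction A P]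

/-- non-broad operators: the fixed points form a cyclic subgroup -/
def NB (P : Type*) [Group P] [MulDistribMulAction A P] (a : A) : Prop :=
  ∃ g : P, ∀ x : P, (a • x = x ↔ x ∈ Subgroup.zpowers g)

theorem comm_of_exp (hexp : ∀ a : A, a * a = 1) (a b : A) : a * b = b * a := by
  have h1 : a⁻¹ = a := inv_eq_of_mul_eq_one_left (hexp a)
  have h2 : b⁻¹ = b := inv_eq_of_mul_eq_one_left (hexp b)
  have h3 : (a * b)⁻¹ = a * b := inv_eq_of_mul_eq_one_left (hexp (a * b))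
  rw [mul_inv_rev, h1, h2] at h3
  exact h3.symm

theorem inv_self_of_exp (hexp : ∀ a : A, a * a = 1) (a : A) : a⁻¹ = a :=
  inv_eq_of_mul_eq_one_left (hexp a)

theorem sq_eq_one_imp [Finite P] {p : ℕ} [Fact p.Prime] (hp2 : p ≠ 2) (hP : IsPGroup p P) {x : P}
    (h : x * x = 1) : x = 1 := by
  have hp : p.Prime := Fact.out
  obtain ⟨k, hk⟩ := hP.exists_orderOf_eq_pow x
  have h2 : orderOf x ∣ 2 := orderOf_dvd_of_pow_eq_one (by rw [pow_two]; exact h)
  rcases k with _ | k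
  · rw [pow_zero] at hk; exact orderOf_eq_one_iff.mp hk
  · exfalso
    have : p ∣ 2 := dvd_trans (by rw [hk, pow_succ]; exact dvd_mul_left _ _) h2
    exact hp2 ((Nat.prime_dvd_prime_iff_eq hp Nat.prime_two).mp this)

theorem eq_one_of_eq_inv [Finite P] {p : ℕ} [Fact p.Prime] (hp2 : p ≠ 2) (hP : IsPGroup p P) {x : P}
    (h : x = x⁻¹) : x = 1 := by
  apply sq_eq_one_imp hp2 hP
  nth_rewrite 1 [h]
  exact inv_mul_cancel x

/-- an operator acts trivially or by inversion on the fixed points of a non-broad operator -/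
theorem nb_act [Finite P] {p : ℕ} [Fact p.Prime] (hp2 : p ≠ 2) (hP : IsPGroup p P)
    (hexp : ∀ a : A, a * a = 1) {s : A} (hs : NB P s) (t : A) :
    (∀ x ∈ fix1 (P := P) s, t • x = x) ∨ (∀ x ∈ fix1 (P := P) s, t • x = x⁻¹) := by
  obtain ⟨g, hg⟩ := hs
  have hgs : s • g = g := (hg g).mpr (Subgroup.mem_zpowers g)
  have htg : t • g ∈ Subgroup.zpowers g := by
    rw [← hg, ← mul_smul, comm_of_exp hexp s t, mul_smul, hgs]
  rcases cyc_dichotomy hp2 hP t (hexp t) g htg with h | h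
  · left
    intro x hx
    obtain ⟨k, rfl⟩ := Subgroup.mem_zpowers_iff.mp ((hg x).mp hx)
    rw [smul_zpow', h]
  · right
    intro x hx
    obtain ⟨k, rfl⟩ := Subgroup.mem_zpowers_iff.mp ((hg x).mp hx)
    rw [smul_zpow', h, inv_zpow]

theorem nb_fix_all [Finite P] {p : ℕ} [Fact p.Prime] (hp2 : p ≠ 2) (hP : IsPGroup p P)
    (hexp : ∀ a : A, a * a = 1) {s : A} (hs : NB P s) (t : A) {x : P}
    (hx : x ∈ fix1 (P := P) s) (hx1 : x ≠ 1) (htx : t • x = x) :
    ∀ y ∈ fix1 (P := P) s, t • y = y := by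
  rcases nb_act hp2 hP hexp hs t with h | h
  · exact h
  · exfalso
    apply hx1
    apply eq_one_of_eq_inv hp2 hP
    rw [← h x hx, htx]


theorem mem_zpowers_of_sq {b z : A} (hb : b * b = 1) (hz : z ∈ Subgroup.zpowers b) :
    z = 1 ∨ z = b := by
  obtain ⟨k, rfl⟩ := Subgroup.mem_zpowers_iff.mp hz
  have hb2 : b ^ (2 : ℤ) = 1 := by
    rw [zpow_two]; exact hb
  rcases Int.emod_two_eq_zero_or_one k with h | h
  · left
    have : k = 2 * (k / 2) := by omega
    rw [this, zpow_mul, hb2, one_zpow]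
  · right
    have : k = 2 * (k / 2) + 1 := by omega
    rw [this, zpow_add, zpow_mul, hb2, one_zpow, one_mul, zpow_one]

/-- a proper cocyclic subgroup of a group of exponent two has index two -/
theorem cocyclic_index (hexp : ∀ a : A, a * a = 1) {J : Subgroup A} {b : A}
    (h : J ⊔ Subgroup.zpowers b = ⊤) (hJ : J ≠ ⊤) : J.index = 2 := by
  have hbJ : b ∉ J := by
    intro hb
    apply hJ
    rw [← h]
    exact (sup_eq_left.mpr (Subgroup.zpowers_le.mpr hb)).symm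
  rw [Subgroup.index_eq_two_iff]
  refine ⟨b, fun x => ?_⟩
  have hx : x ∈ J ⊔ Subgroup.zpowers b := by rw [h]; trivial
  let _ : CommGroup A := { (inferInstance : Group A) with mul_comm := comm_of_exp hexp }
  obtain ⟨j, hj, z, hz, rfl⟩ := Subgroup.mem_sup.mp hx
  rcases mem_zpowers_of_sq (hexp b) hz with rfl | rfl
  · rw [mul_one]
    refine Or.inr ⟨hj, ?_⟩
    intro hjb
    exact hbJ ((Subgroup.mul_mem_cancel_left J hj).mp hjb)
  · refine Or.inl ⟨?_, ?_⟩
    · rw [mul_assoc, hexp, mul_one]; exact hj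
    · intro hjb
      exact hbJ ((Subgroup.mul_mem_cancel_left J hj).mp hjb)

theorem exists_ne_one_of_fixG_ne {J : Subgroup A} (h : fixG (P := P) J ≠ fixG (P := P) (⊤ : Subgroup A)) :
    ∃ x ∈ fixG (P := P) J, x ≠ 1 := by
  by_contra hcon
  push Not at hcon
  apply h
  have h1 : fixG (P := P) J = ⊥ := by
    rw [eq_bot_iff]; intro x hx; rw [Subgroup.mem_bot]; exact hcon x hx
  have h2 : fixG (P := P) (⊤ : Subgroup A) ≤ fixG J := fixG_anti le_top
  rw [h1] at h2 ⊢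
  exact (le_bot_iff.mp h2).symm

theorem broad_of_two [Finite P] {p : ℕ} [Fact p.Prime] (hp2 : p ≠ 2) (hP : IsPGroup p P)
    (hexp : ∀ a : A, a * a = 1) (J K : Subgroup A) (hJ2 : J.index = 2)
    (hJ : fixG (P := P) J ≠ fixG (P := P) (⊤ : Subgroup A)) (hK : fixG (P := P) K ≠ fixG (P := P) (⊤ : Subgroup A))
    {t : A} (htJ : t ∈ J) (htK : t ∈ K) {u : A} (huK : u ∈ K) (huJ : u ∉ J) : ¬ NB P t := by
  intro hnb
  obtain ⟨x, hxJ, hx1⟩ := exists_ne_one_of_fixG_ne hJ
  obtain ⟨x', hxK, hx'1⟩ := exists_ne_one_of_fixG_ne hK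
  have hJfix : ∀ j ∈ J, ∀ y ∈ fix1 (P := P) t, j • y = y := fun j hj =>
    nb_fix_all hp2 hP hexp hnb j (fixG_le_fix1 htJ hxJ) hx1 (hxJ j hj)
  have hKfix : ∀ k ∈ K, ∀ y ∈ fix1 (P := P) t, k • y = y := fun k hk =>
    nb_fix_all hp2 hP hexp hnb k (fixG_le_fix1 htK hxK) hx'1 (hxK k hk)
  have hall : ∀ a : A, ∀ y ∈ fix1 (P := P) t, a • y = y := by
    intro a y hy
    by_cases ha : a ∈ J
    · exact hJfix a ha y hy
    · have hau : a * u ∈ J := by
        rw [Subgroup.mul_mem_iff_of_index_two hJ2]; tauto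
      have h1 := hJfix _ hau y hy
      rw [mul_smul, hKfix u huK y hy] at h1
      exact h1
  apply hJ
  apply le_antisymm
  · intro y hy a _
    exact hall a y (fixG_le_fix1 htJ hy)
  · exact fixG_anti le_top

theorem fixG_top_eq_bot [Finite P] {p : ℕ} [Fact p.Prime] (hp2 : p ≠ 2) (hP : IsPGroup p P)
    (hexp : ∀ a : A, a * a = 1) (J : Subgroup A) {s : A} (hsJ : s ∈ J) (hs : NB P s)
    (hJ : fixG (P := P) J ≠ fixG (P := P) (⊤ : Subgroup A)) : fixG (P := P) (⊤ : Subgroup A) = ⊥ := by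
  by_contra hne
  obtain ⟨x, hx, hx1⟩ : ∃ x ∈ fixG (P := P) (⊤ : Subgroup A), x ≠ 1 := by
    by_contra hcon
    push Not at hcon
    apply hne
    rw [eq_bot_iff]; intro x hx; rw [Subgroup.mem_bot]; exact hcon x hx
  have hall : ∀ a : A, ∀ y ∈ fix1 (P := P) s, a • y = y := fun a =>
    nb_fix_all hp2 hP hexp hs a (fixG_le_fix1 (Subgroup.mem_top s) hx) hx1 (hx a (Subgroup.mem_top a))
  apply hJ
  apply le_antisymm
  · intro y hy a _
    exact hall a y (fixG_le_fix1 hsJ hy)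
  · exact fixG_anti le_top

theorem cyc_struct [Finite P] {p : ℕ} [Fact p.Prime] (hp2 : p ≠ 2) (hP : IsPGroup p P)
    (hexp : ∀ a : A, a * a = 1) (J : Subgroup A) (hJ2 : J.index = 2) {s : A} (hsJ : s ∈ J)
    (hs : NB P s) (hJ : fixG (P := P) J ≠ fixG (P := P) (⊤ : Subgroup A)) (hF : fixG (P := P) (⊤ : Subgroup A) = ⊥) :
    (∀ j ∈ J, ∀ x ∈ fix1 (P := P) s, j • x = x) ∧ (∀ a ∉ J, ∀ x ∈ fix1 (P := P) s, a • x = x⁻¹) := by
  obtain ⟨x, hxJ, hx1⟩ := exists_ne_one_of_fixG_ne hJ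
  have hJfix : ∀ j ∈ J, ∀ y ∈ fix1 (P := P) s, j • y = y := fun j hj =>
    nb_fix_all hp2 hP hexp hs j (fixG_le_fix1 hsJ hxJ) hx1 (hxJ j hj)
  refine ⟨hJfix, ?_⟩
  intro a ha
  rcases nb_act hp2 hP hexp hs a with h | h
  · exfalso
    have hall : ∀ b : A, ∀ y ∈ fix1 (P := P) s, b • y = y := by
      intro b y hy
      by_cases hb : b ∈ J
      · exact hJfix b hb y hy
      · have hba : b * a ∈ J := by
          rw [Subgroup.mul_mem_iff_of_index_two hJ2]; tauto
        have h1 := hJfix _ hba y hy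
        rw [mul_smul, h y hy] at h1
        exact h1
    have : x ∈ fixG (P := P) (⊤ : Subgroup A) := fun b _ => hall b x (fixG_le_fix1 hsJ hxJ)
    rw [hF, Subgroup.mem_bot] at this
    exact hx1 this
  · exact h


omit [Group A] [MulDistribMulAction A P] in
theorem coprime_card [Finite A] [Finite P] {p : ℕ} [Fact p.Prime] (hp2 : p ≠ 2) (hP : IsPGroup p P)
    (hcard : Nat.card A = 8) : (Nat.card A).Coprime (Nat.card P) := by
  have hp : p.Prime := Fact.out
  obtain ⟨n, hn⟩ := IsPGroup.iff_card.mp hP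
  rw [hcard, hn]
  have : (8 : ℕ) = 2 ^ 3 := by norm_num
  rw [this]
  exact Nat.Coprime.pow _ _ ((Nat.coprime_primes Nat.prime_two hp).mpr (Ne.symm hp2))

theorem stage1 [Finite A] [Finite P] {p : ℕ} [Fact p.Prime] (hp2 : p ≠ 2) (hP : IsPGroup p P)
    (hexp : ∀ a : A, a * a = 1) (hcard : Nat.card A = 8)
    (hfaith : ∀ a : A, (∀ x : P, a • x = x) → a = 1) :
    ∃ (t₁ t₂ t₃ : A) (J₁ J₂ J₃ : Subgroup A), Adapted t₁ t₂ t₃ J₁ J₂ J₃ ∧
      fixG (P := P) J₁ ≠ fixG (P := P) (⊤ : Subgroup A) ∧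
      fixG (P := P) J₂ ≠ fixG (P := P) (⊤ : Subgroup A) ∧
      fixG (P := P) J₃ ≠ fixG (P := P) (⊤ : Subgroup A) := by
  have hgen := ext_generation (A := A) (P := P) (comm_of_exp hexp) (coprime_card hp2 hP hcard)
  let 𝓗 : Set (Subgroup A) :=
    {J | J.index = 2 ∧ fixG (P := P) J ≠ fixG (P := P) (⊤ : Subgroup A)}
  have hint : ∀ a : A, (∀ J ∈ 𝓗, a ∈ J) → a = 1 := by
    intro a ha
    apply hfaith
    have hle : (⊤ : Subgroup P) ≤ fix1 a := by
      rw [← hgen]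
      apply iSup₂_le
      rintro J ⟨b, hb⟩
      by_cases hJt : J = ⊤
      · rw [hJt]; exact fixG_le_fix1 (Subgroup.mem_top a)
      · have hJ2 := cocyclic_index hexp hb hJt
        by_cases hJF : fixG (P := P) J = fixG (P := P) (⊤ : Subgroup A)
        · rw [hJF]; exact fixG_le_fix1 (Subgroup.mem_top a)
        · exact fixG_le_fix1 (ha J ⟨hJ2, hJF⟩)
    intro x
    exact hle (Subgroup.mem_top x)
  obtain ⟨t₁, t₂, t₃, J₁, J₂, J₃, h1, h2, h3, had⟩ :=
    exists_adapted hcard 𝓗 (fun J hJ => hJ.1) hint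
  exact ⟨t₁, t₂, t₃, J₁, J₂, J₃, had, h1.2, h2.2, h3.2⟩


end main

end Cfsg.Agent.Lib.Helper7.E8Act
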