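import Mathlib
import Cfsg.Agent.Lib.Helper7.E8ActB

/-!
# Elementary abelian groups of order 8 acting on odd `p`-groups (helper7, for S4412), part C

`pair_comm`, the configuration `Cfg` and its first consequences (`broad1..3`, `nb1..3`, `F_bot`,
`struct1..3`, `gen`).
-/

set_option autoImplicit false
set_option linter.unusedSectionVars false

namespace Cfsg.Agent.Lib.Helper7.E8Act

section stage2

variable {A P : Type*} [Group A] [Group P] [MulDistribMulAction A P]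

theorem inf_eq_bot_of_fix_inv [Finite P] {p : ℕ} [Fact p.Prime] (hp2 : p ≠ 2) (hP : IsPGroup p P)
    (t : A) (H K : Subgroup P) (hfix : ∀ x ∈ H, t • x = x) (hinv : ∀ x ∈ K, t • x = x⁻¹) :
    H ⊓ K = ⊥ := by
  rw [eq_bot_iff]
  rintro x ⟨hxH, hxK⟩
  rw [Subgroup.mem_bot]
  apply eq_one_of_eq_inv hp2 hP
  rw [← hinv x hxK, hfix x hxH]

/-- two subgroups inverted by an involutory operator `τ` whose fixed points are inverted by an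
operator `t` fixing both subgroups commute elementwise. -/
theorem pair_comm [Finite P] {p : ℕ} [Fact p.Prime] (hp2 : p ≠ 2) (hP : IsPGroup p P)
    (τ t : A) (hτ : τ * τ = 1) (C C' : Subgroup P)
    (hC : ∀ x ∈ C, τ • x = x⁻¹) (hC' : ∀ x ∈ C', τ • x = x⁻¹)
    (htC : ∀ x ∈ C, t • x = x) (htC' : ∀ x ∈ C', t • x = x)
    (hτt : ∀ x : P, τ • x = x → t • x = x⁻¹) :
    ∀ x ∈ C, ∀ y ∈ C', x * y = y * x := by
  set D : Subgroup P := C ⊔ C' with hD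
  have hDt : ∀ x ∈ D, t • x = x := by
    have : D ≤ fix1 t := sup_le (fun x hx => htC x hx) (fun x hx => htC' x hx)
    exact fun x hx => this hx
  have hDτ : ∀ x ∈ D, τ • x ∈ D := by
    have hmap : D.map (MulDistribMulAction.toMonoidHom P τ) ≤ D := by
      rw [hD, Subgroup.map_sup]
      apply sup_le
      · rintro _ ⟨x, hx, rfl⟩
        change τ • x ∈ C ⊔ C'
        rw [hC x hx]; exact le_sup_left (a := C) (inv_mem hx)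
      · rintro _ ⟨x, hx, rfl⟩
        change τ • x ∈ C ⊔ C'
        rw [hC' x hx]; exact le_sup_right (b := C') (inv_mem hx)
    exact fun x hx => hmap ⟨x, hx, rfl⟩
  let φ : ↥D →* ↥D :=
    ((MulDistribMulAction.toMonoidHom P τ).comp D.subtype).codRestrict D (fun x => hDτ x x.2)
  have hφ_apply : ∀ d : ↥D, ((φ d : ↥D) : P) = τ • (d : P) := fun d => rfl
  have hfpf : MonoidHom.FixedPointFree φ := by
    intro d hd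
    have h1 : τ • (d : P) = d := by rw [← hφ_apply, hd]
    have h2 := hτt _ h1
    rw [hDt _ d.2] at h2
    exact Subtype.ext (eq_one_of_eq_inv hp2 hP h2)
  have hinv : Function.Involutive φ := by
    intro d
    apply Subtype.ext
    rw [hφ_apply, hφ_apply, ← mul_smul, hτ, one_smul]
  intro x hx y hy
  have := hfpf.commute_all_of_involutive hinv ⟨x, le_sup_left (a := C) hx⟩ ⟨y, le_sup_right (b := C') hy⟩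
  exact congrArg Subtype.val this


/-- the configuration after choosing an adapted basis -/
structure Cfg (P : Type*) [Group P] [MulDistribMulAction A P] (p : ℕ) (A₀ : Subgroup A)
    (t₁ t₂ t₃ : A) (J₁ J₂ J₃ : Subgroup A) : Prop where
  hp2 : p ≠ 2
  hP : IsPGroup p P
  hexp : ∀ a : A, a * a = 1
  hcard : Nat.card A = 8
  had : Adapted t₁ t₂ t₃ J₁ J₂ J₃
  hJ₁ : fixG (P := P) J₁ ≠ fixG (P := P) (⊤ : Subgroup A)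
  hJ₂ : fixG (P := P) J₂ ≠ fixG (P := P) (⊤ : Subgroup A)
  hJ₃ : fixG (P := P) J₃ ≠ fixG (P := P) (⊤ : Subgroup A)
  hdisj : ∀ a ∈ A₀, a ≠ 1 → NB P a
  hprod : ∀ a b : A, a ≠ 1 → b ≠ 1 → ¬ NB P a → ¬ NB P b → a * b ∈ A₀

namespace Cfg

variable [Finite A] [Finite P] {p : ℕ} [Fact p.Prime] {A₀ : Subgroup A} {t₁ t₂ t₃ : A}
  {J₁ J₂ J₃ : Subgroup A}

theorem broad1 (h : Cfg P p A₀ t₁ t₂ t₃ J₁ J₂ J₃) : ¬ NB P t₁ :=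
  broad_of_two h.hp2 h.hP h.hexp J₂ J₃ h.had.i2 h.hJ₂ h.hJ₃ h.had.h12 h.had.h13 h.had.h23 h.had.h22

theorem broad2 (h : Cfg P p A₀ t₁ t₂ t₃ J₁ J₂ J₃) : ¬ NB P t₂ :=
  broad_of_two h.hp2 h.hP h.hexp J₁ J₃ h.had.i1 h.hJ₁ h.hJ₃ h.had.h21 h.had.h23 h.had.h13 h.had.h11

theorem broad3 (h : Cfg P p A₀ t₁ t₂ t₃ J₁ J₂ J₃) : ¬ NB P t₃ :=
  broad_of_two h.hp2 h.hP h.hexp J₁ J₂ h.had.i1 h.hJ₁ h.hJ₂ h.had.h31 h.had.h32 h.had.h12 h.had.h11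

theorem t1_ne (h : Cfg P p A₀ t₁ t₂ t₃ J₁ J₂ J₃) : t₁ ≠ 1 := fun e => h.had.h11 (e ▸ J₁.one_mem)
theorem t2_ne (h : Cfg P p A₀ t₁ t₂ t₃ J₁ J₂ J₃) : t₂ ≠ 1 := fun e => h.had.h22 (e ▸ J₂.one_mem)
theorem t3_ne (h : Cfg P p A₀ t₁ t₂ t₃ J₁ J₂ J₃) : t₃ ≠ 1 := fun e => h.had.h33 (e ▸ J₃.one_mem)

/-! memberships of the products -/

theorem s1_mem (h : Cfg P p A₀ t₁ t₂ t₃ J₁ J₂ J₃) : t₂ * t₃ ∈ J₁ := mul_mem h.had.h21 h.had.h31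
theorem s2_mem (h : Cfg P p A₀ t₁ t₂ t₃ J₁ J₂ J₃) : t₁ * t₃ ∈ J₂ := mul_mem h.had.h12 h.had.h32
theorem s3_mem (h : Cfg P p A₀ t₁ t₂ t₃ J₁ J₂ J₃) : t₁ * t₂ ∈ J₃ := mul_mem h.had.h13 h.had.h23

theorem s1_nmem2 (h : Cfg P p A₀ t₁ t₂ t₃ J₁ J₂ J₃) : t₂ * t₃ ∉ J₂ := by
  rw [Subgroup.mul_mem_iff_of_index_two h.had.i2]; have := h.had.h22; have := h.had.h32; tauto
theorem s1_nmem3 (h : Cfg P p A₀ t₁ t₂ t₃ J₁ J₂ J₃) : t₂ * t₃ ∉ J₃ := by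
  rw [Subgroup.mul_mem_iff_of_index_two h.had.i3]; have := h.had.h23; have := h.had.h33; tauto
theorem s2_nmem1 (h : Cfg P p A₀ t₁ t₂ t₃ J₁ J₂ J₃) : t₁ * t₃ ∉ J₁ := by
  rw [Subgroup.mul_mem_iff_of_index_two h.had.i1]; have := h.had.h11; have := h.had.h31; tauto
theorem s2_nmem3 (h : Cfg P p A₀ t₁ t₂ t₃ J₁ J₂ J₃) : t₁ * t₃ ∉ J₃ := by
  rw [Subgroup.mul_mem_iff_of_index_two h.had.i3]; have := h.had.h13; have := h.had.h33; tauto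
theorem s3_nmem1 (h : Cfg P p A₀ t₁ t₂ t₃ J₁ J₂ J₃) : t₁ * t₂ ∉ J₁ := by
  rw [Subgroup.mul_mem_iff_of_index_two h.had.i1]; have := h.had.h11; have := h.had.h21; tauto
theorem s3_nmem2 (h : Cfg P p A₀ t₁ t₂ t₃ J₁ J₂ J₃) : t₁ * t₂ ∉ J₂ := by
  rw [Subgroup.mul_mem_iff_of_index_two h.had.i2]; have := h.had.h12; have := h.had.h22; tauto

theorem s1_ne (h : Cfg P p A₀ t₁ t₂ t₃ J₁ J₂ J₃) : t₂ * t₃ ≠ 1 := fun e => h.s1_nmem2 (e ▸ J₂.one_mem)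
theorem s2_ne (h : Cfg P p A₀ t₁ t₂ t₃ J₁ J₂ J₃) : t₁ * t₃ ≠ 1 := fun e => h.s2_nmem1 (e ▸ J₁.one_mem)
theorem s3_ne (h : Cfg P p A₀ t₁ t₂ t₃ J₁ J₂ J₃) : t₁ * t₂ ≠ 1 := fun e => h.s3_nmem1 (e ▸ J₁.one_mem)

theorem s1_A₀ (h : Cfg P p A₀ t₁ t₂ t₃ J₁ J₂ J₃) : t₂ * t₃ ∈ A₀ :=
  h.hprod _ _ h.t2_ne h.t3_ne h.broad2 h.broad3
theorem s2_A₀ (h : Cfg P p A₀ t₁ t₂ t₃ J₁ J₂ J₃) : t₁ * t₃ ∈ A₀ :=
  h.hprod _ _ h.t1_ne h.t3_ne h.broad1 h.broad3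
theorem s3_A₀ (h : Cfg P p A₀ t₁ t₂ t₃ J₁ J₂ J₃) : t₁ * t₂ ∈ A₀ :=
  h.hprod _ _ h.t1_ne h.t2_ne h.broad1 h.broad2

theorem nb1 (h : Cfg P p A₀ t₁ t₂ t₃ J₁ J₂ J₃) : NB P (t₂ * t₃) := h.hdisj _ h.s1_A₀ h.s1_ne
theorem nb2 (h : Cfg P p A₀ t₁ t₂ t₃ J₁ J₂ J₃) : NB P (t₁ * t₃) := h.hdisj _ h.s2_A₀ h.s2_ne
theorem nb3 (h : Cfg P p A₀ t₁ t₂ t₃ J₁ J₂ J₃) : NB P (t₁ * t₂) := h.hdisj _ h.s3_A₀ h.s3_ne

theorem F_bot (h : Cfg P p A₀ t₁ t₂ t₃ J₁ J₂ J₃) : fixG (P := P) (⊤ : Subgroup A) = ⊥ :=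
  fixG_top_eq_bot h.hp2 h.hP h.hexp J₁ h.s1_mem h.nb1 h.hJ₁

theorem struct1 (h : Cfg P p A₀ t₁ t₂ t₃ J₁ J₂ J₃) :
    (∀ j ∈ J₁, ∀ x ∈ fix1 (P := P) (t₂ * t₃), j • x = x) ∧
      (∀ a ∉ J₁, ∀ x ∈ fix1 (P := P) (t₂ * t₃), a • x = x⁻¹) :=
  cyc_struct h.hp2 h.hP h.hexp J₁ h.had.i1 h.s1_mem h.nb1 h.hJ₁ h.F_bot

theorem struct2 (h : Cfg P p A₀ t₁ t₂ t₃ J₁ J₂ J₃) :
    (∀ j ∈ J₂, ∀ x ∈ fix1 (P := P) (t₁ * t₃), j • x = x) ∧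
      (∀ a ∉ J₂, ∀ x ∈ fix1 (P := P) (t₁ * t₃), a • x = x⁻¹) :=
  cyc_struct h.hp2 h.hP h.hexp J₂ h.had.i2 h.s2_mem h.nb2 h.hJ₂ h.F_bot

theorem struct3 (h : Cfg P p A₀ t₁ t₂ t₃ J₁ J₂ J₃) :
    (∀ j ∈ J₃, ∀ x ∈ fix1 (P := P) (t₁ * t₂), j • x = x) ∧
      (∀ a ∉ J₃, ∀ x ∈ fix1 (P := P) (t₁ * t₂), a • x = x⁻¹) :=
  cyc_struct h.hp2 h.hP h.hexp J₃ h.had.i3 h.s3_mem h.nb3 h.hJ₃ h.F_bot

/-- generation by the three cyclic subgroups -/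
theorem gen (h : Cfg P p A₀ t₁ t₂ t₃ J₁ J₂ J₃) :
    fix1 (P := P) (t₂ * t₃) ⊔ fix1 (P := P) (t₁ * t₃) ⊔ fix1 (P := P) (t₁ * t₂) = ⊤ := by
  rw [eq_top_iff, ← ext_generation (A := A) (P := P) (comm_of_exp h.hexp)
    (coprime_card h.hp2 h.hP h.hcard)]
  apply iSup₂_le
  rintro J ⟨b, hb⟩
  by_cases hJt : J = ⊤
  · rw [hJt, h.F_bot]; exact bot_le
  · have hJ2 := cocyclic_index h.hexp hb hJt
    have m := @Subgroup.mul_mem_iff_of_index_two _ _ J hJ2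
    by_cases h23 : (t₂ ∈ J ↔ t₃ ∈ J)
    · exact le_trans (fixG_le_fix1 ((m).mpr h23)) (le_trans le_sup_left le_sup_left)
    · by_cases h13 : (t₁ ∈ J ↔ t₃ ∈ J)
      · exact le_trans (fixG_le_fix1 ((m).mpr h13)) (le_trans le_sup_right le_sup_left)
      · have h12 : (t₁ ∈ J ↔ t₂ ∈ J) := by tauto
        exact le_trans (fixG_le_fix1 ((m).mpr h12)) le_sup_right

end Cfg

end stage2

end Cfsg.Agent.Lib.Helper7.E8Act
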