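import Mathlib
import Cfsg.Agent.Lib.Helper7.E8ActC
import Cfsg.Agent.H1.AbelianRank
import Cfsg.Agent.H1.Card

/-!
# Elementary abelian groups of order 8 acting on odd `p`-groups (helper7, for S4412), part D

Consequences of the configuration `Cfg`: `P` is commutative of rank exactly three, classification of
the broad operators, and the generic main theorem `main_generic`.
-/

set_option autoImplicit false
set_option linter.unusedSectionVars false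

namespace Cfsg.Agent.Lib.Helper7.E8Act

section stage3

variable {A P : Type*} [Group A] [Group P] [MulDistribMulAction A P]

theorem nb_comm {s : A} (hs : NB P s) :
    ∀ x ∈ fix1 (P := P) s, ∀ y ∈ fix1 (P := P) s, x * y = y * x := by
  obtain ⟨g, hg⟩ := hs
  intro x hx y hy
  obtain ⟨m, rfl⟩ := Subgroup.mem_zpowers_iff.mp ((hg x).mp hx)
  obtain ⟨n, rfl⟩ := Subgroup.mem_zpowers_iff.mp ((hg y).mp hy)
  rw [← zpow_add, ← zpow_add, add_comm]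

/-- elements inverted by an operator, in a commutative group -/
def invSub (hcomm : ∀ x y : P, x * y = y * x) (a : A) : Subgroup P where
  carrier := {x | a • x = x⁻¹}
  one_mem' := by change a • (1 : P) = 1⁻¹; rw [smul_one, inv_one]
  mul_mem' := fun {x y} hx hy => by
    change a • (x * y) = (x * y)⁻¹
    rw [smul_mul', hx, hy, mul_inv_rev, hcomm]
  inv_mem' := fun {x} hx => by
    change a • x⁻¹ = x⁻¹⁻¹
    rw [smul_inv', hx]

namespace Cfg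

variable [Finite A] [Finite P] {p : ℕ} [Fact p.Prime] {A₀ : Subgroup A} {t₁ t₂ t₃ : A}
  {J₁ J₂ J₃ : Subgroup A}

theorem comm12 (h : Cfg P p A₀ t₁ t₂ t₃ J₁ J₂ J₃) :
    ∀ x ∈ fix1 (P := P) (t₂ * t₃), ∀ y ∈ fix1 (P := P) (t₁ * t₃), x * y = y * x :=
  pair_comm h.hp2 h.hP (t₁ * t₂) t₃ (h.hexp _) _ _
    (h.struct1.2 _ h.s3_nmem1) (h.struct2.2 _ h.s3_nmem2)
    (h.struct1.1 _ h.had.h31) (h.struct2.1 _ h.had.h32)
    (fun x hx => h.struct3.2 _ h.had.h33 x hx)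

theorem comm13 (h : Cfg P p A₀ t₁ t₂ t₃ J₁ J₂ J₃) :
    ∀ x ∈ fix1 (P := P) (t₂ * t₃), ∀ y ∈ fix1 (P := P) (t₁ * t₂), x * y = y * x :=
  pair_comm h.hp2 h.hP (t₁ * t₃) t₂ (h.hexp _) _ _
    (h.struct1.2 _ h.s2_nmem1) (h.struct3.2 _ h.s2_nmem3)
    (h.struct1.1 _ h.had.h21) (h.struct3.1 _ h.had.h23)
    (fun x hx => h.struct2.2 _ h.had.h22 x hx)

theorem comm23 (h : Cfg P p A₀ t₁ t₂ t₃ J₁ J₂ J₃) :
    ∀ x ∈ fix1 (P := P) (t₁ * t₃), ∀ y ∈ fix1 (P := P) (t₁ * t₂), x * y = y * x :=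
  pair_comm h.hp2 h.hP (t₂ * t₃) t₁ (h.hexp _) _ _
    (h.struct2.2 _ h.s1_nmem2) (h.struct3.2 _ h.s1_nmem3)
    (h.struct2.1 _ h.had.h12) (h.struct3.1 _ h.had.h13)
    (fun x hx => h.struct1.2 _ h.had.h11 x hx)

/-- `P` is commutative -/
theorem commP (h : Cfg P p A₀ t₁ t₂ t₃ J₁ J₂ J₃) : ∀ x y : P, x * y = y * x := by
  have hcen : ∀ (C : Subgroup P), (∀ x ∈ C, ∀ y ∈ fix1 (P := P) (t₂ * t₃), x * y = y * x) →
      (∀ x ∈ C, ∀ y ∈ fix1 (P := P) (t₁ * t₃), x * y = y * x) →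
      (∀ x ∈ C, ∀ y ∈ fix1 (P := P) (t₁ * t₂), x * y = y * x) → C ≤ Subgroup.center P := by
    intro C h1 h2 h3 x hx
    rw [Subgroup.mem_center_iff]
    intro g
    have hg : g ∈ Subgroup.centralizer ({x} : Set P) := by
      have hle : (⊤ : Subgroup P) ≤ Subgroup.centralizer ({x} : Set P) := by
        rw [← h.gen]
        refine sup_le (sup_le ?_ ?_) ?_
        · intro y hy
          rw [Subgroup.mem_centralizer_iff]
          rintro _ rfl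
          exact h1 _ hx y hy
        · intro y hy
          rw [Subgroup.mem_centralizer_iff]
          rintro _ rfl
          exact h2 _ hx y hy
        · intro y hy
          rw [Subgroup.mem_centralizer_iff]
          rintro _ rfl
          exact h3 _ hx y hy
      exact hle (Subgroup.mem_top g)
    exact ((Subgroup.mem_centralizer_iff.mp hg) x rfl).symm
  have c1 : fix1 (P := P) (t₂ * t₃) ≤ Subgroup.center P :=
    hcen _ (nb_comm h.nb1) h.comm12 h.comm13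
  have c2 : fix1 (P := P) (t₁ * t₃) ≤ Subgroup.center P :=
    hcen _ (fun x hx y hy => (h.comm12 y hy x hx).symm) (nb_comm h.nb2) h.comm23
  have c3 : fix1 (P := P) (t₁ * t₂) ≤ Subgroup.center P :=
    hcen _ (fun x hx y hy => (h.comm13 y hy x hx).symm)
      (fun x hx y hy => (h.comm23 y hy x hx).symm) (nb_comm h.nb3)
  have htop : (⊤ : Subgroup P) ≤ Subgroup.center P := by
    rw [← h.gen]; exact sup_le (sup_le c1 c2) c3
  intro x y
  exact ((Subgroup.mem_center_iff.mp (htop (Subgroup.mem_top y))) x)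

theorem w_nmem1 (h : Cfg P p A₀ t₁ t₂ t₃ J₁ J₂ J₃) : t₁ * t₂ * t₃ ∉ J₁ := by
  rw [Subgroup.mul_mem_iff_of_index_two h.had.i1]; have := h.s3_nmem1; have := h.had.h31; tauto
theorem w_nmem2 (h : Cfg P p A₀ t₁ t₂ t₃ J₁ J₂ J₃) : t₁ * t₂ * t₃ ∉ J₂ := by
  rw [Subgroup.mul_mem_iff_of_index_two h.had.i2]; have := h.s3_nmem2; have := h.had.h32; tauto
theorem w_nmem3 (h : Cfg P p A₀ t₁ t₂ t₃ J₁ J₂ J₃) : t₁ * t₂ * t₃ ∉ J₃ := by
  rw [Subgroup.mul_mem_iff_of_index_two h.had.i3]; have := h.s3_mem; have := h.had.h33; tauto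

theorem w_inv (h : Cfg P p A₀ t₁ t₂ t₃ J₁ J₂ J₃) : ∀ x : P, (t₁ * t₂ * t₃) • x = x⁻¹ := by
  have hle : (⊤ : Subgroup P) ≤ invSub h.commP (t₁ * t₂ * t₃) := by
    rw [← h.gen]
    refine sup_le (sup_le ?_ ?_) ?_
    · exact fun x hx => h.struct1.2 _ h.w_nmem1 x hx
    · exact fun x hx => h.struct2.2 _ h.w_nmem2 x hx
    · exact fun x hx => h.struct3.2 _ h.w_nmem3 x hx
  exact fun x => hle (Subgroup.mem_top x)

theorem nb_w (h : Cfg P p A₀ t₁ t₂ t₃ J₁ J₂ J₃) : NB P (t₁ * t₂ * t₃) := by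
  refine ⟨1, fun x => ?_⟩
  rw [Subgroup.zpowers_one_eq_bot, Subgroup.mem_bot]
  constructor
  · intro hx
    apply eq_one_of_eq_inv h.hp2 h.hP
    rw [← h.w_inv x, hx]
  · rintro rfl; exact smul_one _

/-- classification of the broad operators -/
theorem broad_iff (h : Cfg P p A₀ t₁ t₂ t₃ J₁ J₂ J₃) (a : A) :
    (a ≠ 1 ∧ ¬ NB P a) ↔ (a = t₁ ∨ a = t₂ ∨ a = t₃) := by
  constructor
  · rintro ⟨ha1, hab⟩
    obtain ⟨⟨i, j, k⟩, rfl⟩ := h.had.surjective h.hcard a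
    cases i <;> cases j <;> cases k <;> simp only [prod3, if_true, if_false, Bool.false_eq_true,
      one_mul, mul_one] at ha1 hab ⊢
    · exact absurd rfl ha1
    · right; right; trivial
    · right; left; trivial
    · exact absurd h.nb1 hab
    · left; trivial
    · exact absurd h.nb2 hab
    · exact absurd h.nb3 hab
    · exact absurd h.nb_w hab
  · rintro (rfl | rfl | rfl)
    · exact ⟨h.t1_ne, h.broad1⟩
    · exact ⟨h.t2_ne, h.broad2⟩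
    · exact ⟨h.t3_ne, h.broad3⟩

theorem mem_A₀_iff (h : Cfg P p A₀ t₁ t₂ t₃ J₁ J₂ J₃) (a : A) :
    a ∈ A₀ ↔ (a = 1 ∨ a = t₁ * t₂ ∨ a = t₁ * t₃ ∨ a = t₂ * t₃) := by
  constructor
  · intro ha
    obtain ⟨⟨i, j, k⟩, rfl⟩ := h.had.surjective h.hcard a
    cases i <;> cases j <;> cases k <;> simp only [prod3, if_true, if_false, Bool.false_eq_true,
      one_mul, mul_one] at ha ⊢
    · left; trivial
    · exact absurd (h.hdisj _ ha h.t3_ne) h.broad3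
    · exact absurd (h.hdisj _ ha h.t2_ne) h.broad2
    · right; right; right; trivial
    · exact absurd (h.hdisj _ ha h.t1_ne) h.broad1
    · right; right; left; trivial
    · right; left; trivial
    · exfalso
      have : t₃ ∈ A₀ := by
        have := A₀.mul_mem (A₀.inv_mem h.s3_A₀) ha
        rwa [← mul_assoc, inv_mul_cancel, one_mul] at this
      exact h.broad3 (h.hdisj _ this h.t3_ne)
  · rintro (rfl | rfl | rfl | rfl)
    · exact A₀.one_mem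
    · exact h.s3_A₀
    · exact h.s2_A₀
    · exact h.s1_A₀

theorem closure_t (h : Cfg P p A₀ t₁ t₂ t₃ J₁ J₂ J₃) :
    Subgroup.closure ({t₁, t₂, t₃} : Set A) = ⊤ := by
  rw [eq_top_iff]
  intro a _
  have m1 : t₁ ∈ Subgroup.closure ({t₁, t₂, t₃} : Set A) := Subgroup.subset_closure (by simp)
  have m2 : t₂ ∈ Subgroup.closure ({t₁, t₂, t₃} : Set A) := Subgroup.subset_closure (by simp)
  have m3 : t₃ ∈ Subgroup.closure ({t₁, t₂, t₃} : Set A) := Subgroup.subset_closure (by simp)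
  obtain ⟨⟨i, j, k⟩, rfl⟩ := h.had.surjective h.hcard a
  cases i <;> cases j <;> cases k <;> simp only [prod3, if_true, if_false, Bool.false_eq_true,
    one_mul, mul_one]
  · exact Subgroup.one_mem _
  · exact m3
  · exact m2
  · exact mul_mem m2 m3
  · exact m1
  · exact mul_mem m1 m3
  · exact mul_mem m1 m2
  · exact mul_mem (mul_mem m1 m2) m3

theorem t12_ne (h : Cfg P p A₀ t₁ t₂ t₃ J₁ J₂ J₃) : t₁ ≠ t₂ := fun e => h.had.h11 (e ▸ h.had.h21)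
theorem t13_ne (h : Cfg P p A₀ t₁ t₂ t₃ J₁ J₂ J₃) : t₁ ≠ t₃ := fun e => h.had.h11 (e ▸ h.had.h31)
theorem t23_ne (h : Cfg P p A₀ t₁ t₂ t₃ J₁ J₂ J₃) : t₂ ≠ t₃ := fun e => h.had.h22 (e ▸ h.had.h32)


theorem three_gen (h : Cfg P p A₀ t₁ t₂ t₃ J₁ J₂ J₃) :
    ∃ a b c : P, Subgroup.closure ({a, b, c} : Set P) = ⊤ := by
  obtain ⟨g₁, hg₁⟩ := h.nb1
  obtain ⟨g₂, hg₂⟩ := h.nb2
  obtain ⟨g₃, hg₃⟩ := h.nb3
  refine ⟨g₁, g₂, g₃, ?_⟩
  rw [eq_top_iff, ← h.gen]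
  have m1 : g₁ ∈ Subgroup.closure ({g₁, g₂, g₃} : Set P) := Subgroup.subset_closure (by simp)
  have m2 : g₂ ∈ Subgroup.closure ({g₁, g₂, g₃} : Set P) := Subgroup.subset_closure (by simp)
  have m3 : g₃ ∈ Subgroup.closure ({g₁, g₂, g₃} : Set P) := Subgroup.subset_closure (by simp)
  refine sup_le (sup_le ?_ ?_) ?_
  · intro x hx
    exact (Subgroup.zpowers_le.mpr m1) ((hg₁ x).mp hx)
  · intro x hx
    exact (Subgroup.zpowers_le.mpr m2) ((hg₂ x).mp hx)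
  · intro x hx
    exact (Subgroup.zpowers_le.mpr m3) ((hg₃ x).mp hx)

theorem exists_order_p (hP : IsPGroup p P) (C : Subgroup P) (hC : C ≠ ⊥) :
    ∃ z ∈ C, orderOf z = p := by
  have hCp : IsPGroup p ↥C := hP.to_subgroup C
  have hdvd : p ∣ Nat.card ↥C := by
    rcases hCp.card_eq_or_dvd with h1 | h1
    · exact absurd (Subgroup.card_eq_one.mp h1) hC
    · exact h1
  obtain ⟨x, hx⟩ := exists_prime_orderOf_dvd_card' p hdvd
  exact ⟨(x : P), x.2, by rw [Subgroup.orderOf_coe]; exact hx⟩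

theorem C1_ne (h : Cfg P p A₀ t₁ t₂ t₃ J₁ J₂ J₃) : fix1 (P := P) (t₂ * t₃) ≠ ⊥ := by
  intro e
  apply h.hJ₁
  have : fixG (P := P) J₁ ≤ ⊥ := e ▸ fixG_le_fix1 h.s1_mem
  rw [le_bot_iff.mp this, h.F_bot]

theorem C2_ne (h : Cfg P p A₀ t₁ t₂ t₃ J₁ J₂ J₃) : fix1 (P := P) (t₁ * t₃) ≠ ⊥ := by
  intro e
  apply h.hJ₂
  have : fixG (P := P) J₂ ≤ ⊥ := e ▸ fixG_le_fix1 h.s2_mem
  rw [le_bot_iff.mp this, h.F_bot]

theorem C3_ne (h : Cfg P p A₀ t₁ t₂ t₃ J₁ J₂ J₃) : fix1 (P := P) (t₁ * t₂) ≠ ⊥ := by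
  intro e
  apply h.hJ₃
  have : fixG (P := P) J₃ ≤ ⊥ := e ▸ fixG_le_fix1 h.s3_mem
  rw [le_bot_iff.mp this, h.F_bot]

theorem not_two_gen (h : Cfg P p A₀ t₁ t₂ t₃ J₁ J₂ J₃) :
    ¬ ∃ a b : P, Subgroup.closure ({a, b} : Set P) = ⊤ := by
  classical
  have hp : p.Prime := Fact.out
  rintro ⟨a, b, hab⟩
  have hcomm := h.commP
  -- rank ≤ 2
  have hrank : Group.rank P ≤ 2 := by
    have h1 : Subgroup.closure ((({a, b} : Finset P)) : Set P) = ⊤ := by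
      rw [Finset.coe_insert, Finset.coe_singleton]; exact hab
    exact le_trans (Group.rank_le h1) Finset.card_le_two
  obtain ⟨z₁, hz₁C, hz₁⟩ := exists_order_p h.hP _ h.C1_ne
  obtain ⟨z₂, hz₂C, hz₂⟩ := exists_order_p h.hP _ h.C2_ne
  obtain ⟨z₃, hz₃C, hz₃⟩ := exists_order_p h.hP _ h.C3_ne
  set Z₁ := Subgroup.zpowers z₁ with hZ₁
  set Z₂ := Subgroup.zpowers z₂ with hZ₂
  set Z₃ := Subgroup.zpowers z₃ with hZ₃
  have hZ₁C : Z₁ ≤ fix1 (P := P) (t₂ * t₃) := Subgroup.zpowers_le.mpr hz₁C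
  have hZ₂C : Z₂ ≤ fix1 (P := P) (t₁ * t₃) := Subgroup.zpowers_le.mpr hz₂C
  have hZ₃C : Z₃ ≤ fix1 (P := P) (t₁ * t₂) := Subgroup.zpowers_le.mpr hz₃C
  have c1 : Nat.card Z₁ = p := by rw [hZ₁, Nat.card_zpowers, hz₁]
  have c2 : Nat.card Z₂ = p := by rw [hZ₂, Nat.card_zpowers, hz₂]
  have c3 : Nat.card Z₃ = p := by rw [hZ₃, Nat.card_zpowers, hz₃]
  have hnorm : ∀ H N : Subgroup P, H ≤ Subgroup.normalizer (N : Set P) := by
    intro H N x _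
    rw [Subgroup.mem_normalizer_iff]
    intro n
    rw [hcomm x n, mul_assoc, mul_inv_cancel, mul_one]
  -- C₂ ⊓ C₁ = ⊥ and (C₁ ⊔ C₂) ⊓ C₃ = ⊥
  have i12 : fix1 (P := P) (t₁ * t₃) ⊓ fix1 (P := P) (t₂ * t₃) = ⊥ :=
    inf_eq_bot_of_fix_inv h.hp2 h.hP t₁ _ _ (h.struct2.1 _ h.had.h12) (h.struct1.2 _ h.had.h11)
  have i123 : (fix1 (P := P) (t₂ * t₃) ⊔ fix1 (P := P) (t₁ * t₃)) ⊓ fix1 (P := P) (t₁ * t₂) = ⊥ := by
    apply inf_eq_bot_of_fix_inv h.hp2 h.hP t₃ _ _ _ (h.struct3.2 _ h.had.h33)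
    have : fix1 (P := P) (t₂ * t₃) ⊔ fix1 (P := P) (t₁ * t₃) ≤ fix1 (P := P) t₃ :=
      sup_le (fun x hx => h.struct1.1 _ h.had.h31 x hx) (fun x hx => h.struct2.1 _ h.had.h32 x hx)
    exact fun x hx => this hx
  have j12 : Z₁ ⊓ Z₂ = ⊥ := by
    rw [eq_bot_iff, ← i12, inf_comm]
    exact inf_le_inf hZ₂C hZ₁C
  have j123 : (Z₁ ⊔ Z₂) ⊓ Z₃ = ⊥ := by
    rw [eq_bot_iff, ← i123]
    exact inf_le_inf (sup_le_sup hZ₁C hZ₂C) hZ₃C
  have d12 : Nat.card ↥(Z₁ ⊔ Z₂) = p * p := by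
    have := Cfsg.Agent.H1.card_sup_mul_card_inf Z₁ Z₂ (hnorm _ _)
    rw [j12, Subgroup.card_bot, mul_one, c1, c2] at this
    exact this
  have d123 : Nat.card ↥(Z₁ ⊔ Z₂ ⊔ Z₃) = p * p * p := by
    have := Cfsg.Agent.H1.card_sup_mul_card_inf (Z₁ ⊔ Z₂) Z₃ (hnorm _ _)
    rw [j123, Subgroup.card_bot, mul_one, d12, c3] at this
    exact this
  -- exponent p
  let K : Subgroup P :=
    { carrier := {x | x ^ p = 1}
      one_mem' := one_pow p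
      mul_mem' := fun {x y} hx hy => by
        change (x * y) ^ p = 1
        rw [(show Commute x y from hcomm x y).mul_pow, hx, hy, one_mul]
      inv_mem' := fun {x} hx => by
        change (x⁻¹) ^ p = 1
        rw [inv_pow, hx, inv_one] }
  have hWK : Z₁ ⊔ Z₂ ⊔ Z₃ ≤ K := by
    refine sup_le (sup_le ?_ ?_) ?_
    · rw [hZ₁, Subgroup.zpowers_le]; change z₁ ^ p = 1; rw [← hz₁]; exact pow_orderOf_eq_one z₁
    · rw [hZ₂, Subgroup.zpowers_le]; change z₂ ^ p = 1; rw [← hz₂]; exact pow_orderOf_eq_one z₂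
    · rw [hZ₃, Subgroup.zpowers_le]; change z₃ ^ p = 1; rw [← hz₃]; exact pow_orderOf_eq_one z₃
  have hle := Cfsg.Agent.H1.card_le_pow_rank_of_exponent hcomm p (Z₁ ⊔ Z₂ ⊔ Z₃)
    (fun w hw => hWK hw)
  rw [d123] at hle
  have h2 : p ^ Group.rank P ≤ p ^ 2 := Nat.pow_le_pow_right hp.pos hrank
  have h3 : p * p * p ≤ p ^ 2 := le_trans hle h2
  have h4 : p ^ 2 < p * p * p := by
    have : p * p * p = p ^ 2 * p := by ring
    rw [this]
    exact (Nat.lt_mul_iff_one_lt_right (pow_pos hp.pos 2)).mpr hp.one_lt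
  omega


end Cfg

/-- **Generic main theorem.** -/
theorem main_generic [Finite A] [Finite P] {p : ℕ} [Fact p.Prime] (hp2 : p ≠ 2)
    (hP : IsPGroup p P) (hexp : ∀ a : A, a * a = 1) (hcard : Nat.card A = 8)
    (hfaith : ∀ a : A, (∀ x : P, a • x = x) → a = 1) (A₀ : Subgroup A)
    (hdisj : ∀ a ∈ A₀, a ≠ 1 → NB P a)
    (hprod : ∀ a b : A, a ≠ 1 → b ≠ 1 → ¬ NB P a → ¬ NB P b → a * b ∈ A₀) :
    (∀ x y : P, x * y = y * x) ∧ (∃ a b c : P, Subgroup.closure ({a, b, c} : Set P) = ⊤) ∧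
    (¬ ∃ a b : P, Subgroup.closure ({a, b} : Set P) = ⊤) ∧
    ∃ t₁ t₂ t₃ : A, t₁ ≠ t₂ ∧ t₁ ≠ t₃ ∧ t₂ ≠ t₃ ∧
      (∀ a : A, (a ≠ 1 ∧ ¬ NB P a) ↔ (a = t₁ ∨ a = t₂ ∨ a = t₃)) ∧
      Subgroup.closure ({t₁, t₂, t₃} : Set A) = ⊤ ∧
      (∀ a : A, a ∈ A₀ ↔ (a = 1 ∨ a = t₁ * t₂ ∨ a = t₁ * t₃ ∨ a = t₂ * t₃)) := by
  obtain ⟨t₁, t₂, t₃, J₁, J₂, J₃, had, h1, h2, h3⟩ := stage1 hp2 hP hexp hcard hfaith
  have h : Cfg P p A₀ t₁ t₂ t₃ J₁ J₂ J₃ := ⟨hp2, hP, hexp, hcard, had, h1, h2, h3, hdisj, hprod⟩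
  exact ⟨h.commP, h.three_gen, h.not_two_gen, t₁, t₂, t₃, h.t12_ne, h.t13_ne, h.t23_ne,
    h.broad_iff, h.closure_t, h.mem_A₀_iff⟩

end stage3

end Cfsg.Agent.Lib.Helper7.E8Act
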