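import Mathlib

set_option autoImplicit false

/-! Extremely primitive groups: the point stabiliser is faithful on every nontrivial orbit. -/

namespace Cfsg.Agent.Lib.Helper7.EP

open MulAction
open scoped Pointwise

section conv

variable {G : Type*} [Group G] {Ω : Type*} [MulAction G Ω]

/-- clean form of quasiprimitivity of the stabiliser on its orbits -/
def QP (G : Type*) [Group G] {Ω : Type*} [MulAction G Ω] (α : Ω) : Prop :=
  ∀ (ω : Ω) (N : Subgroup G), N ≤ stabilizer G α → stabilizer G α ≤ Subgroup.normalizer (N : Set G) →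
    (∃ n ∈ N, ∃ x ∈ orbit (stabilizer G α) ω, n • x ≠ x) →
    ∀ x ∈ orbit (stabilizer G α) ω, ∀ y ∈ orbit (stabilizer G α) ω, ∃ n ∈ N, n • x = y

theorem qp_of_hep (α : Ω)
    (hep : ∀ ω : Ω, IsPreprimitive (stabilizer G α) (orbit (stabilizer G α) ω)) : QP G α := by
  intro ω N hNH hnorm hnt x hx y hy
  haveI := hep ω
  haveI hN' : (N.subgroupOf (stabilizer G α)).Normal :=
    (Subgroup.normal_subgroupOf_iff_le_normalizer hNH).mpr hnorm
  have hne : fixedPoints (N.subgroupOf (stabilizer G α)) (orbit (stabilizer G α) ω) ≠ Set.univ := by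
    intro h
    obtain ⟨n, hn, z, hz, hnz⟩ := hnt
    have h1 : (⟨z, hz⟩ : orbit (stabilizer G α) ω) ∈
        fixedPoints (N.subgroupOf (stabilizer G α)) (orbit (stabilizer G α) ω) := by
      rw [h]; exact Set.mem_univ _
    rw [mem_fixedPoints] at h1
    have h2 := h1 ⟨⟨n, hNH hn⟩, by rw [Subgroup.mem_subgroupOf]; exact hn⟩
    apply hnz
    have h3 := congrArg Subtype.val h2
    exact h3
  haveI := IsQuasiPreprimitive.isPretransitive_of_normal
    (N := N.subgroupOf (stabilizer G α)) hne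
  obtain ⟨n, hn⟩ := exists_smul_eq (N.subgroupOf (stabilizer G α))
    (⟨x, hx⟩ : orbit (stabilizer G α) ω) ⟨y, hy⟩
  refine ⟨((n : stabilizer G α) : G), ?_, ?_⟩
  · have := n.2
    rw [Subgroup.mem_subgroupOf] at this
    exact this
  · have h3 := congrArg Subtype.val hn
    exact h3

end conv


section A

variable {G : Type*} [Group G] {Ω : Type*} [MulAction G Ω]

theorem mem_orb {α β x : Ω} :
    x ∈ orbit (stabilizer G α) β ↔ ∃ h : G, h • α = α ∧ h • β = x := by
  constructor
  · rintro ⟨h, rfl⟩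
    exact ⟨h.1, h.2, rfl⟩
  · rintro ⟨h, hα, rfl⟩
    exact ⟨⟨h, hα⟩, rfl⟩

/-- the kernel of `G_α` on the orbit of `β` -/
def ker (G : Type*) [Group G] {Ω : Type*} [MulAction G Ω] (α β : Ω) : Subgroup G where
  carrier := {k | k • α = α ∧ ∀ h : G, h • α = α → k • h • β = h • β}
  mul_mem' := by
    rintro a b ⟨ha, ha'⟩ ⟨hb, hb'⟩
    refine ⟨by rw [mul_smul, hb, ha], fun h hh => ?_⟩
    rw [mul_smul, hb' h hh, ha' h hh]
  one_mem' := ⟨one_smul _ _, fun h _ => one_smul _ _⟩
  inv_mem' := by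
    rintro a ⟨ha, ha'⟩
    refine ⟨by rw [inv_smul_eq_iff, ha], fun h hh => ?_⟩
    rw [inv_smul_eq_iff, ha' h hh]

theorem mem_ker {α β : Ω} {k : G} :
    k ∈ ker G α β ↔ k • α = α ∧ ∀ h : G, h • α = α → k • h • β = h • β := Iff.rfl

theorem ker_le (α β : Ω) : ker G α β ≤ stabilizer G α := fun _ hk => hk.1

theorem ker_fix {α β : Ω} {k : G} (hk : k ∈ ker G α β) : k • β = β := by
  have := hk.2 1 (one_smul _ _)
  rwa [one_smul] at this

theorem stab_le_normalizer_ker (α β : Ω) :
    stabilizer G α ≤ Subgroup.normalizer (ker G α β : Set G) := by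
  have key : ∀ h0 : G, h0 • α = α → ∀ k ∈ ker G α β, h0 * k * h0⁻¹ ∈ ker G α β := by
    intro h0 hh0 k hk
    have hh0' : h0⁻¹ • α = α := by rw [inv_smul_eq_iff, hh0]
    refine ⟨by rw [mul_smul, mul_smul, hh0', hk.1, hh0], fun h hh => ?_⟩
    have h1 : (h0⁻¹ * h) • α = α := by rw [mul_smul, hh, hh0']
    have h2 := hk.2 (h0⁻¹ * h) h1
    rw [mul_smul, mul_smul, ← mul_smul h0⁻¹ h β, h2, ← mul_smul, mul_inv_cancel_left]
  intro h0 hh0
  rw [Subgroup.mem_normalizer_iff]
  intro k
  constructor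
  · exact key h0 hh0 k
  · intro hk
    have hh0' : h0⁻¹ • α = α := by
      rw [inv_smul_eq_iff]; exact (mem_stabilizer_iff.mp hh0).symm
    have := key h0⁻¹ hh0' _ hk
    simpa [mul_assoc] using this

theorem mem_normalizer_of_conj_mem [Finite G] (K : Subgroup G) (g : G)
    (h : ∀ k ∈ K, g * k * g⁻¹ ∈ K) : g ∈ Subgroup.normalizer (K : Set G) := by
  have hle : K.map (MulAut.conj g).toMonoidHom ≤ K := by
    rintro _ ⟨k, hk, rfl⟩
    exact h k hk
  have hcard : Nat.card (K.map (MulAut.conj g).toMonoidHom) = Nat.card K :=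
    Subgroup.card_map_of_injective (MulAut.conj g).injective
  have heq : K.map (MulAut.conj g).toMonoidHom = K :=
    Subgroup.eq_of_le_of_card_ge hle hcard.ge
  rw [Subgroup.mem_normalizer_iff]
  intro k
  refine ⟨h k, fun hk => ?_⟩
  rw [← heq] at hk
  obtain ⟨k', hk', hkk⟩ := hk
  have : k' = k := by
    have h1 : g * k' * g⁻¹ = g * k * g⁻¹ := hkk
    have h2 := mul_right_cancel h1
    exact mul_left_cancel h2
  rwa [← this]

theorem card_stabilizer_eq [IsPretransitive G Ω] (a b : Ω) :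
    Nat.card (stabilizer G a) = Nat.card (stabilizer G b) := by
  obtain ⟨g, rfl⟩ := exists_smul_eq G a b
  rw [stabilizer_smul_eq_stabilizer_map_conj]
  exact (Subgroup.card_map_of_injective (MulAut.conj g).injective).symm

theorem ncard_orbit_stab [Finite G] (a b : Ω) :
    (orbit (stabilizer G a) b).ncard * Nat.card (stabilizer G a ⊓ stabilizer G b : Subgroup G)
      = Nat.card (stabilizer G a) := by
  have h1 : (orbit (stabilizer G a) b).ncard = (stabilizer G b).relIndex (stabilizer G a) := by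
    rw [← index_stabilizer, Subgroup.relIndex]
    congr 1
  rw [h1, ← Subgroup.inf_relIndex_right, inf_comm]
  have := Subgroup.relIndex_mul_relIndex ⊥ (stabilizer G a ⊓ stabilizer G b) (stabilizer G a)
    bot_le inf_le_left
  rw [Subgroup.relIndex_bot_left, Subgroup.relIndex_bot_left] at this
  rw [mul_comm]; exact this

theorem ncard_orbit_symm [Finite G] [IsPretransitive G Ω] (a b : Ω) :
    (orbit (stabilizer G a) b).ncard = (orbit (stabilizer G b) a).ncard := by
  have h1 := ncard_orbit_stab (G := G) a b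
  have h2 := ncard_orbit_stab (G := G) b a
  rw [inf_comm, ← card_stabilizer_eq a b, ← h1] at h2
  have hpos : 0 < Nat.card (stabilizer G a ⊓ stabilizer G b : Subgroup G) := Nat.card_pos
  exact (Nat.eq_of_mul_eq_mul_right hpos h2).symm


/-- **Key lemma.** In a primitive group whose point stabiliser is quasiprimitive on each of its
orbits, the point stabiliser acts faithfully on each orbit other than the fixed point. -/
theorem ker_eq_bot [Finite G] [Finite Ω] [FaithfulSMul G Ω] [IsPreprimitive G Ω] (α : Ω)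
    (hqp : QP G α) (β : Ω) (hβ : β ≠ α) : ker G α β = ⊥ := by
  classical
  rw [Subgroup.eq_bot_iff_forall]
  intro k1 hk1
  by_contra hk1ne
  haveI : Nontrivial Ω := ⟨⟨β, α, hβ⟩⟩
  have hco : IsCoatom (stabilizer G α) := IsPreprimitive.isCoatom_stabilizer_of_isPreprimitive G α
  obtain ⟨g0, hg0⟩ := exists_smul_eq G α β
  have hg0' : g0⁻¹ • β = α := by rw [inv_smul_eq_iff, hg0]
  have hg0H : g0⁻¹ ∉ stabilizer G α := by
    intro h
    rw [mem_stabilizer_iff] at h
    apply hβ
    rw [← hg0]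
    exact (inv_smul_eq_iff.mp h).symm
  set K := ker G α β with hK
  have hKN := stab_le_normalizer_ker (G := G) α β
  by_cases hc : ∀ k ∈ K, ∀ h : G, h • α = α → k • g0 • h • β = g0 • h • β
  · -- Case 1 : K is normalised by g0⁻¹, so K is normal in G
    have h1 : g0⁻¹ ∈ Subgroup.normalizer (K : Set G) := by
      apply mem_normalizer_of_conj_mem
      intro k hk
      rw [inv_inv]
      refine ⟨?_, fun h hh => ?_⟩
      · rw [mul_smul, mul_smul, hg0, ker_fix hk, hg0']
      · rw [mul_smul, mul_smul, hc k hk h hh, ← mul_smul, inv_mul_cancel, one_smul]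
    have h2 : Subgroup.normalizer (K : Set G) = ⊤ := by
      apply hco.2
      exact lt_of_le_of_ne hKN (fun h => hg0H (h ▸ h1))
    apply hk1ne
    apply FaithfulSMul.eq_of_smul_eq_smul (α := Ω)
    intro ω
    obtain ⟨g, rfl⟩ := exists_smul_eq G α ω
    have h3 : g⁻¹ ∈ Subgroup.normalizer (K : Set G) := by rw [h2]; trivial
    rw [Subgroup.mem_normalizer_iff] at h3
    have h4 := ((h3 k1).mp hk1).1
    rw [inv_inv, mul_smul, mul_smul, inv_smul_eq_iff] at h4
    rw [one_smul]; exact h4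
  · -- Case 2
    push Not at hc
    obtain ⟨k0, hk0, h0, hh0, hmove⟩ := hc
    set γ := g0 • h0 • β with hγ
    have htr := hqp γ K (ker_le α β) hKN
      ⟨k0, hk0, γ, mem_orbit_self _, hmove⟩
    -- (i)
    have hi : ∀ h : G, h • α = α → ∃ h' : G, h' • α = α ∧ h • γ = g0 • h' • β := by
      intro h hh
      have hmem : h • γ ∈ orbit (stabilizer G α) γ := mem_orb.mpr ⟨h, hh, rfl⟩
      obtain ⟨n, hn, hnγ⟩ := htr γ (mem_orbit_self _) _ hmem
      refine ⟨g0⁻¹ * n * g0 * h0, ?_, ?_⟩
      · rw [mul_smul, mul_smul, mul_smul, hh0, hg0, ker_fix hn, hg0']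
      · rw [← hnγ, hγ]
        simp only [mul_smul, smul_inv_smul]
    -- the set S
    set Γ : Set Ω := orbit (stabilizer G α) β with hΓ
    set S : Set Ω := {δ | ∃ g : G, g • α = δ ∧ g • β = γ} with hS
    have hΓS : Γ ⊆ S := by
      intro x hx
      obtain ⟨h, hh, rfl⟩ := mem_orb.mp hx
      have hh' : h⁻¹ • α = α := by rw [inv_smul_eq_iff, hh]
      obtain ⟨h', hh'α, hh'γ⟩ := hi h⁻¹ hh'
      refine ⟨h * g0 * h', ?_, ?_⟩
      · rw [mul_smul, mul_smul, hh'α, hg0]
      · rw [mul_smul, mul_smul, ← hh'γ, smul_inv_smul]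
    have hScard : S.ncard = Γ.ncard := by
      have h1 : S = (fun x => (g0 * h0) • x) '' (orbit (stabilizer G β) α) := by
        ext δ
        constructor
        · rintro ⟨g, rfl, hg⟩
          refine ⟨((g0 * h0)⁻¹ * g) • α, mem_orb.mpr ⟨(g0 * h0)⁻¹ * g, ?_, rfl⟩, ?_⟩
          · rw [mul_smul, hg, hγ, inv_smul_eq_iff, mul_smul]
          · simp only [← mul_smul, mul_inv_cancel_left]
        · rintro ⟨y, hy, rfl⟩
          obtain ⟨x, hx, rfl⟩ := mem_orb.mp hy
          refine ⟨g0 * h0 * x, by simp only [mul_smul], ?_⟩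
          rw [mul_smul, hx, hγ, mul_smul]
      rw [h1, Set.ncard_image_of_injective _ (MulAction.injective (g0 * h0)), hΓ]
      exact (ncard_orbit_symm α β).symm
    have hSΓ : S = Γ := by
      symm
      apply Set.eq_of_subset_of_ncard_le hΓS hScard.le (Set.toFinite S)
    -- stabiliser of γ preserves Γ
    have hstabγ : stabilizer G γ ≤ stabilizer G Γ := by
      intro x hx
      rw [mem_stabilizer_set' (Set.toFinite Γ)]
      intro y hy
      rw [← hSΓ] at hy ⊢
      obtain ⟨g, rfl, hg⟩ := hy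
      exact ⟨x * g, mul_smul _ _ _, by rw [mul_smul, hg]; exact hx⟩
    have hstabα : stabilizer G α ≤ stabilizer G Γ := by
      intro x hx
      rw [mem_stabilizer_set' (Set.toFinite Γ)]
      intro y hy
      obtain ⟨h, hh, rfl⟩ := mem_orb.mp hy
      exact mem_orb.mpr ⟨x * h, by rw [mul_smul, hh]; exact hx, mul_smul _ _ _⟩
    have hne : stabilizer G α ≠ stabilizer G Γ := by
      intro heq
      have h1 : stabilizer G γ ≤ stabilizer G α := heq ▸ hstabγ
      have h2 : stabilizer G γ = stabilizer G α :=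
        Subgroup.eq_of_le_of_card_ge h1 (card_stabilizer_eq α γ).le
      have h3 : k0 ∈ stabilizer G γ := h2 ▸ ker_le α β hk0
      exact hmove h3
    have htop : stabilizer G Γ = ⊤ := hco.2 _ (lt_of_le_of_ne hstabα hne)
    have h5 : g0⁻¹ ∈ stabilizer G Γ := by rw [htop]; trivial
    rw [mem_stabilizer_set' (Set.toFinite Γ)] at h5
    have h6 := h5 (mem_orbit_self β)
    rw [hg0'] at h6
    obtain ⟨h, hh, hhβ⟩ := mem_orb.mp h6
    apply hβ
    have h7 : β = h⁻¹ • α := by rw [← hhβ, inv_smul_smul]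
    rw [h7, inv_smul_eq_iff, hh]

end A

end Cfsg.Agent.Lib.Helper7.EP
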