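import Mathlib
import Cfsg.Prelude.Def_Solvable
import Cfsg.Agent.H1.Cores
import Cfsg.Agent.Lib.Helper7.ElemAbGL

set_option autoImplicit false

/-! Extremely primitive groups, part B: structure of a group acting faithfully and
quasiprimitively on each of its nontrivial orbits. -/

namespace Cfsg.Agent.Lib.Helper7.EP

open MulAction

/-- `H` fixes `α`, and is faithful and quasiprimitive on every other orbit. -/
structure Cfg (H : Type*) (Ω : Type*) [Group H] [MulAction H Ω] (α : Ω) : Prop where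
  fixα : ∀ h : H, h • α = α
  faith : ∀ β : Ω, β ≠ α → ∀ k : H, (∀ x ∈ orbit H β, k • x = x) → k = 1
  qp : ∀ (ω : Ω) (N : Subgroup H), N.Normal → (∃ n ∈ N, ∃ x ∈ orbit H ω, n • x ≠ x) →
      ∀ x ∈ orbit H ω, ∀ y ∈ orbit H ω, ∃ n ∈ N, n • x = y
  ne : ∃ β : Ω, β ≠ α

namespace Cfg

variable {H : Type*} [Group H] {Ω : Type*} [MulAction H Ω] {α : Ω}

theorem trans (c : Cfg H Ω α) (A : Subgroup H) (hA : A.Normal) (hne : A ≠ ⊥) (β : Ω) (hβ : β ≠ α) :
    ∀ x ∈ orbit H β, ∀ y ∈ orbit H β, ∃ n ∈ A, n • x = y := by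
  obtain ⟨⟨a, haA⟩, ha1⟩ := (Subgroup.ne_bot_iff_exists_ne_one).mp hne
  have ha1' : a ≠ 1 := fun h => ha1 (Subtype.ext h)
  apply c.qp β A hA
  by_contra hcon
  push Not at hcon
  exact ha1' (c.faith β hβ a (fun x hx => hcon a haA x hx))

theorem free (c : Cfg H Ω α) (A : Subgroup H) (hA : A.Normal)
    (hcomm : ∀ a ∈ A, ∀ b ∈ A, a * b = b * a) (a : H) (ha : a ∈ A) (x : Ω) (hx : x ≠ α)
    (hax : a • x = x) : a = 1 := by
  by_cases hne : A = ⊥
  · rw [hne, Subgroup.mem_bot] at ha; exact ha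
  apply c.faith x hx a
  intro y hy
  obtain ⟨n, hn, rfl⟩ := c.trans A hA hne x hx x (mem_orbit_self x) y hy
  rw [← mul_smul, hcomm a ha n hn, mul_smul, hax]

theorem cent (c : Cfg H Ω α) (A : Subgroup H) (hA : A.Normal) (hne : A ≠ ⊥)
    (hcomm : ∀ a ∈ A, ∀ b ∈ A, a * b = b * a) (g : H) (hg : ∀ a ∈ A, g * a = a * g) : g ∈ A := by
  obtain ⟨β, hβ⟩ := c.ne
  obtain ⟨n, hn, hnβ⟩ := c.trans A hA hne β hβ β (mem_orbit_self β) (g • β) (mem_orbit _ _)
  have hd : n⁻¹ * g = 1 := by
    apply c.faith β hβ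
    intro y hy
    obtain ⟨m, hm, rfl⟩ := c.trans A hA hne β hβ β (mem_orbit_self β) y hy
    have h1 : (n⁻¹ * g) * m = m * (n⁻¹ * g) := by
      rw [mul_assoc, hg m hm, ← mul_assoc, ← mul_assoc, hcomm _ (A.inv_mem hn) m hm]
    rw [← mul_smul, h1, mul_smul, mul_smul, ← hnβ, inv_smul_smul]
  have : g = n := by
    have := congrArg (fun t => n * t) hd
    simpa using this
  rw [this]; exact hn


theorem center_eq_bot [Finite H] (c : Cfg H Ω α) (hHp : ¬ (Nat.card H).Prime) :
    Subgroup.center H = ⊥ := by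
  by_contra hne
  have hcomm : ∀ a b : H, a * b = b * a := by
    intro a b
    have hb : b ∈ Subgroup.center H := by
      apply c.cent (Subgroup.center H) inferInstance hne
      · intro x hx y _
        exact ((Subgroup.mem_center_iff.mp hx) y).symm
      · intro z hz
        exact (Subgroup.mem_center_iff.mp hz) b
    exact (Subgroup.mem_center_iff.mp hb) a
  haveI : Nontrivial H := by
    obtain ⟨⟨a, haZ⟩, ha1⟩ := (Subgroup.ne_bot_iff_exists_ne_one).mp hne
    exact ⟨⟨a, 1, fun h => ha1 (Subtype.ext h)⟩⟩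
  have hcard : Nat.card H ≠ 1 := by
    intro h
    have := (Nat.card_eq_one_iff_unique.mp h).1
    exact not_subsingleton H this
  obtain ⟨p, hp, hpd⟩ := Nat.exists_prime_and_dvd hcard
  haveI := Fact.mk hp
  obtain ⟨y, hy⟩ := exists_prime_orderOf_dvd_card' p hpd
  have hN : (Subgroup.zpowers y).Normal := by
    refine ⟨fun n hn g => ?_⟩
    rw [hcomm g n, mul_inv_cancel_right]; exact hn
  have hNne : Subgroup.zpowers y ≠ ⊥ := by
    intro h
    rw [Subgroup.zpowers_eq_bot] at h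
    rw [h, orderOf_one] at hy
    exact hp.one_lt.ne hy
  have htop : Subgroup.zpowers y = ⊤ := by
    rw [eq_top_iff]
    intro g _
    exact c.cent _ hN hNne (fun a _ b _ => hcomm a b) g (fun a _ => hcomm g a)
  apply hHp
  have h1 : Nat.card (Subgroup.zpowers y) = p := by rw [Nat.card_zpowers, hy]
  rw [htop, Subgroup.card_top] at h1
  rw [h1]; exact hp

/-- A nontrivial normal abelian subgroup contains every normal nilpotent subgroup... in fact the
Fitting subgroup is abelian. -/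
theorem fitting_comm [Finite H] (c : Cfg H Ω α) :
    ∀ a ∈ Cfsg.fittingSubgroup H, ∀ b ∈ Cfsg.fittingSubgroup H, a * b = b * a := by
  set F := Cfsg.fittingSubgroup H with hF
  by_cases hFb : F = ⊥
  · intro a ha b hb
    rw [hFb, Subgroup.mem_bot] at ha hb
    rw [ha, hb]
  haveI hFn : F.Normal := Cfsg.Agent.H1.fittingSubgroup_normal
  haveI hnil : Group.IsNilpotent F := Cfsg.Agent.H1.fittingSubgroup_nilpotent
  haveI : Nontrivial F := (Subgroup.nontrivial_iff_ne_bot F).mpr hFb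
  have hZne : Subgroup.center F ≠ ⊥ := Group.IsNilpotent.center_ne_bot F
  set A : Subgroup H := (Subgroup.center F).map F.subtype with hA
  have hAn : A.Normal := ConjAct.normal_of_characteristic_of_normal
  have hAne : A ≠ ⊥ := by
    intro h
    apply hZne
    rwa [Subgroup.map_eq_bot_iff_of_injective _ (Subgroup.subtype_injective F)] at h
  have hAF : A ≤ F := Subgroup.map_subtype_le _
  have hAcent : ∀ a ∈ A, ∀ f ∈ F, f * a = a * f := by
    rintro _ ⟨z, hz, rfl⟩ f hf
    have := (Subgroup.mem_center_iff.mp hz) ⟨f, hf⟩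
    exact congrArg Subtype.val this
  have hAcomm : ∀ a ∈ A, ∀ b ∈ A, a * b = b * a := fun a ha b hb =>
    hAcent b hb a (hAF ha)
  have hFA : F ≤ A := fun f hf => c.cent A hAn hAne hAcomm f (fun a ha => hAcent a ha f hf)
  intro a ha b hb
  exact hAcomm a (hFA ha) b (hFA hb)


/-- A nontrivial normal abelian subgroup has prime exponent. -/
theorem exponent_prime [Finite H] (c : Cfg H Ω α) (A : Subgroup H) (hA : A.Normal) (hne : A ≠ ⊥)
    (hcomm : ∀ a ∈ A, ∀ b ∈ A, a * b = b * a) :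
    ∃ p : ℕ, p.Prime ∧ ∀ a ∈ A, a ^ p = 1 := by
  haveI : Nontrivial A := (Subgroup.nontrivial_iff_ne_bot A).mpr hne
  have hcard : Nat.card A ≠ 1 := by
    intro h
    have := (Nat.card_eq_one_iff_unique.mp h).1
    exact not_subsingleton A this
  obtain ⟨p, hp, hpd⟩ := Nat.exists_prime_and_dvd hcard
  haveI := Fact.mk hp
  obtain ⟨⟨y, hyA⟩, hy⟩ := exists_prime_orderOf_dvd_card' p hpd
  refine ⟨p, hp, ?_⟩
  -- the subgroup of elements of order dividing p
  let B : Subgroup H :=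
    { carrier := {x | x ∈ A ∧ x ^ p = 1}
      mul_mem' := by
        rintro a b ⟨ha, ha'⟩ ⟨hb, hb'⟩
        refine ⟨A.mul_mem ha hb, ?_⟩
        rw [(show Commute a b from hcomm a ha b hb).mul_pow, ha', hb', one_mul]
      one_mem' := ⟨A.one_mem, one_pow _⟩
      inv_mem' := by
        rintro a ⟨ha, ha'⟩
        exact ⟨A.inv_mem ha, by rw [inv_pow, ha', inv_one]⟩ }
  have hBA : B ≤ A := fun x hx => hx.1
  have hBn : B.Normal := by
    refine ⟨fun n hn g => ⟨hA.conj_mem n hn.1 g, ?_⟩⟩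
    rw [conj_pow, hn.2, mul_one, mul_inv_cancel]
  have hyB : y ∈ B := by
    refine ⟨hyA, ?_⟩
    have h1 : orderOf y = p := by
      rw [← hy]; exact (Subgroup.orderOf_mk y hyA).symm
    rw [← h1]; exact pow_orderOf_eq_one y
  have hBne : B ≠ ⊥ := by
    intro h
    rw [h, Subgroup.mem_bot] at hyB
    have h1 : orderOf (⟨y, hyA⟩ : A) = 1 := by
      rw [orderOf_eq_one_iff]; exact Subtype.ext hyB
    rw [hy] at h1
    exact hp.one_lt.ne' h1
  intro a ha
  have : a ∈ B := c.cent B hBn hBne (fun x hx z hz => hcomm x (hBA hx) z (hBA hz)) a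
    (fun x hx => hcomm a ha x (hBA hx))
  exact this.2


theorem card_dvd [Finite H] [Fintype Ω] (c : Cfg H Ω α) (A : Subgroup H) (hA : A.Normal)
    (hcomm : ∀ a ∈ A, ∀ b ∈ A, a * b = b * a) : Nat.card A ∣ Fintype.card Ω - 1 := by
  classical
  letI : Fintype A := Fintype.ofFinite A
  letI : Fintype (Quotient (orbitRel A Ω)) := Fintype.ofFinite _
  have hB := sum_card_fixedBy_eq_card_orbits_mul_card_group A Ω
  have hpos : 1 ≤ Fintype.card Ω := Fintype.card_pos_iff.mpr ⟨α⟩
  have hf : ∀ a : A, Fintype.card (fixedBy Ω a)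
      = 1 + (if a = 1 then Fintype.card Ω - 1 else 0) := by
    intro a
    by_cases ha : a = 1
    · rw [if_pos ha, ha]
      have : Fintype.card (fixedBy Ω (1 : A)) = Fintype.card Ω := by
        apply Fintype.card_of_subtype
        intro x
        simp
      omega
    · rw [if_neg ha, add_zero, Fintype.card_eq_one_iff]
      refine ⟨⟨α, ?_⟩, ?_⟩
      · rw [mem_fixedBy]; exact c.fixα a
      · rintro ⟨y, hy⟩
        apply Subtype.ext
        by_contra hyα
        rw [mem_fixedBy] at hy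
        exact ha (Subtype.ext (c.free A hA hcomm a a.2 y hyα hy))
  simp_rw [hf] at hB
  rw [Finset.sum_add_distrib, Finset.sum_const, Finset.sum_ite_eq' Finset.univ (1 : A),
    if_pos (Finset.mem_univ _), Finset.card_univ, smul_eq_mul, mul_one] at hB
  rw [Nat.card_eq_fintype_card]
  have h1 : Fintype.card A ∣ Fintype.card A + (Fintype.card Ω - 1) := hB ▸ dvd_mul_left _ _
  exact (Nat.dvd_add_right (dvd_refl _)).mp h1

theorem exists_hom [Finite H] (c : Cfg H Ω α) (A : Subgroup H) (hA : A.Normal) (hne : A ≠ ⊥)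
    (hcomm : ∀ a ∈ A, ∀ b ∈ A, a * b = b * a) (p e : ℕ) (hp : p.Prime)
    (hexp : ∀ a ∈ A, a ^ p = 1) (hcard : Nat.card A = p ^ e) :
    ∃ φ : H →* GL (Fin e) (ZMod p), φ.ker = A := by
  haveI := hA
  haveI := Fact.mk hp
  letI : CommGroup A := { (inferInstance : Group A) with
    mul_comm := fun a b => Subtype.ext (hcomm a a.2 b b.2) }
  obtain ⟨ε⟩ := mulAut_equiv_gl (V := A) p e (fun x => Subtype.ext (hexp x x.2)) hcard
  refine ⟨ε.toMonoidHom.comp (MulAut.conjNormal (H := A)), ?_⟩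
  ext h
  rw [MonoidHom.mem_ker, MonoidHom.comp_apply]
  have h1 : ε.toMonoidHom (MulAut.conjNormal (H := A) h) = 1 ↔
      MulAut.conjNormal (H := A) h = 1 := by
    constructor
    · intro hh
      apply ε.injective
      rw [map_one]; exact hh
    · intro hh
      rw [hh, map_one]
  rw [h1]
  constructor
  · intro hh
    apply c.cent A hA hne hcomm
    intro a ha
    have h2 := congrArg (fun f : MulAut A => ((f ⟨a, ha⟩ : A) : H)) hh
    simp only [MulAut.conjNormal_apply, MulAut.one_apply] at h2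
    exact mul_inv_eq_iff_eq_mul.mp h2
  · intro hh
    ext a
    rw [MulAut.conjNormal_apply, MulAut.one_apply, hcomm h hh a a.2, mul_inv_cancel_right]


theorem main [Finite H] [Fintype Ω] (c : Cfg H Ω α) (hHp : ¬ (Nat.card H).Prime) :
    Subgroup.center H = ⊥ ∧ IsMulCommutative (Cfsg.fittingSubgroup H) ∧
    ∃ p e : ℕ, p.Prime ∧ Nat.card (Cfsg.fittingSubgroup H) = p ^ e ∧
      (∀ x ∈ Cfsg.fittingSubgroup H, x ^ p = 1) ∧
      (Cfsg.fittingSubgroup H ≠ ⊥ → p ^ e ∣ Fintype.card Ω - 1 ∧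
        ∃ φ : H →* GL (Fin e) (ZMod p), φ.ker = Cfsg.fittingSubgroup H) := by
  have hcomm := c.fitting_comm
  have hFn : (Cfsg.fittingSubgroup H).Normal := Cfsg.Agent.H1.fittingSubgroup_normal
  refine ⟨c.center_eq_bot hHp, ⟨⟨fun a b => Subtype.ext (hcomm a a.2 b b.2)⟩⟩, ?_⟩
  by_cases hFb : Cfsg.fittingSubgroup H = ⊥
  · refine ⟨2, 0, Nat.prime_two, by rw [hFb, Subgroup.card_bot, pow_zero], ?_, fun h => absurd hFb h⟩
    intro x hx
    rw [hFb, Subgroup.mem_bot] at hx
    rw [hx, one_pow]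
  · obtain ⟨p, hp, hexp⟩ := c.exponent_prime _ hFn hFb hcomm
    haveI := Fact.mk hp
    have hpg : IsPGroup p (Cfsg.fittingSubgroup H) := by
      intro x
      refine ⟨1, ?_⟩
      rw [pow_one]
      exact Subtype.ext (hexp x x.2)
    obtain ⟨e, he⟩ := IsPGroup.iff_card.mp hpg
    refine ⟨p, e, hp, he, hexp, fun _ => ⟨?_, c.exists_hom _ hFn hFb hcomm p e hp hexp he⟩⟩
    rw [← he]
    exact c.card_dvd _ hFn hcomm

end Cfg

end Cfsg.Agent.Lib.Helper7.EP
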