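import Mathlib
import Cfsg.Agent.Lib.Helper7.EP1
import Cfsg.Agent.Lib.Helper7.EP2

set_option autoImplicit false

namespace Cfsg.Agent.Lib.Helper7.EP

open MulAction

variable {G : Type*} [Group G] [Finite G] {Ω : Type*} [Finite Ω] [MulAction G Ω] [FaithfulSMul G Ω]

/-- the point stabiliser of an extremely primitive group satisfies `Cfg` -/
theorem cfg_of_extremely_primitive (hprim : IsPreprimitive G Ω)
    (hep : ∀ (α : Ω) (ω : Ω), IsPreprimitive (stabilizer G α) (orbit (stabilizer G α) ω))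
    (α : Ω) (hH1 : stabilizer G α ≠ ⊥) : Cfg (stabilizer G α) Ω α := by
  haveI := hprim
  have hqp : QP G α := qp_of_hep α (hep α)
  refine ⟨fun h => h.2, ?_, ?_, ?_⟩
  · intro β hβ k hk
    have hker := ker_eq_bot α hqp β hβ
    have : (k : G) ∈ ker G α β := by
      refine ⟨k.2, fun h hh => ?_⟩
      exact hk (h • β) (mem_orb.mpr ⟨h, hh, rfl⟩)
    rw [hker, Subgroup.mem_bot] at this
    exact Subtype.ext this
  · intro ω N hN hnt x hx y hy
    haveI := hep α ω
    haveI := hN
    have hne : fixedPoints N (orbit (stabilizer G α) ω) ≠ Set.univ := by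
      intro h
      obtain ⟨n, hn, z, hz, hnz⟩ := hnt
      have h1 : (⟨z, hz⟩ : orbit (stabilizer G α) ω) ∈
          fixedPoints N (orbit (stabilizer G α) ω) := by
        rw [h]; exact Set.mem_univ _
      rw [mem_fixedPoints] at h1
      have h2 := h1 ⟨n, hn⟩
      apply hnz
      exact congrArg Subtype.val h2
    haveI := IsQuasiPreprimitive.isPretransitive_of_normal (N := N) hne
    obtain ⟨n, hn⟩ := exists_smul_eq N
      (⟨x, hx⟩ : orbit (stabilizer G α) ω) ⟨y, hy⟩
    exact ⟨n.1, n.2, congrArg Subtype.val hn⟩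
  · obtain ⟨⟨h, hh⟩, h1⟩ := (Subgroup.ne_bot_iff_exists_ne_one).mp hH1
    have h1' : h ≠ 1 := fun e => h1 (Subtype.ext e)
    by_contra hcon
    push Not at hcon
    apply h1'
    apply FaithfulSMul.eq_of_smul_eq_smul (α := Ω)
    intro ω
    rw [hcon ω, one_smul]
    exact hh

end Cfsg.Agent.Lib.Helper7.EP
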