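import Mathlib

set_option autoImplicit false

/-! Finite-field facts used for solvable extremely primitive groups. -/

namespace Cfsg.Agent.Lib.Helper7.EP

theorem ff_bound {K : Type*} [Field K] [Finite K] {p : ℕ} [Fact p.Prime] (d i : ℕ)
    (hi : 0 < i) (hcard : Nat.card K = p ^ d) (hall : ∀ r : K, r ^ (p ^ i) = r) : d ≤ i := by
  classical
  have hp : p.Prime := Fact.out
  haveI : Fintype K := Fintype.ofFinite K
  obtain ⟨g, hg⟩ := IsCyclic.exists_generator (α := Kˣ)
  have hord : orderOf g = Nat.card Kˣ := orderOf_eq_card_of_forall_mem_zpowers hg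
  have hcu : Nat.card Kˣ = p ^ d - 1 := by
    rw [Nat.card_eq_fintype_card, Fintype.card_units, ← Nat.card_eq_fintype_card, hcard]
  have h1 : g ^ (p ^ i - 1) = 1 := by
    have h2 : (g : K) ^ (p ^ i) = g := hall g
    have hpos : 1 ≤ p ^ i := Nat.one_le_pow _ _ hp.pos
    apply Units.ext
    rw [Units.val_pow_eq_pow_val, Units.val_one]
    have h3 : (g : K) ^ (p ^ i - 1) * g = 1 * g := by
      rw [← pow_succ, Nat.sub_add_cancel hpos, h2, one_mul]
    exact mul_right_cancel₀ g.ne_zero h3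
  have h4 : p ^ d - 1 ∣ p ^ i - 1 := by
    rw [← hcu, ← hord]; exact orderOf_dvd_of_pow_eq_one h1
  have h5 : 0 < p ^ i - 1 := by
    have h51 : p ^ 1 ≤ p ^ i := Nat.pow_le_pow_right hp.pos hi
    rw [pow_one] at h51
    have := hp.two_le
    omega
  have h6 := Nat.le_of_dvd h5 h4
  have h7 : p ^ d ≤ p ^ i := by
    have : 1 ≤ p ^ i := Nat.one_le_pow _ _ hp.pos
    omega
  exact (Nat.pow_le_pow_iff_right hp.one_lt).mp h7

theorem ff_aut {K : Type*} [Field K] [Finite K] {p : ℕ} [Fact p.Prime] [Algebra (ZMod p) K]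
    (d : ℕ) (hcard : Nat.card K = p ^ d) {Γ : Type*} [Group Γ] [Finite Γ]
    (f : Γ →* (K ≃ₐ[ZMod p] K)) : f.ker.index ∣ d := by
  have hp : p.Prime := Fact.out
  haveI : Module.Finite (ZMod p) K := Module.Finite.of_finite
  have hfr : Module.finrank (ZMod p) K = d := by
    have h1 : Nat.card K = Nat.card (ZMod p) ^ Module.finrank (ZMod p) K :=
      Module.natCard_eq_pow_finrank
    rw [Nat.card_zmod, hcard] at h1
    exact (Nat.pow_right_injective hp.two_le h1).symm
  have h2 : Nat.card (K ≃ₐ[ZMod p] K) = d := by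
    rw [IsGalois.card_aut_eq_finrank, hfr]
  rw [Subgroup.index_ker, ← h2]
  exact Subgroup.card_subgroup_dvd_card _

end Cfsg.Agent.Lib.Helper7.EP
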