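import Mathlib
import Cfsg.Agent.Lib.Helper7.EP5a

set_option autoImplicit false

namespace Cfsg.Agent.Lib.Helper7.EP

open scoped IsMulCommutative

section lin

variable {p : ℕ} [Fact p.Prime] {W : Type*} [AddCommGroup W] [Module (ZMod p) W]

/-- `x` acts irreducibly: every nonzero vector generates `W` over the algebra generated by `x`. -/
structure Irr (x : Module.End (ZMod p) W) : Prop where
  nt : ∃ w : W, w ≠ 0
  gen : ∀ w : W, w ≠ 0 → ∀ w' : W,
    ∃ r ∈ Algebra.adjoin (ZMod p) ({x} : Set (Module.End (ZMod p) W)), r w = w'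

variable {x : Module.End (ZMod p) W}

theorem adj_comm (a b : Module.End (ZMod p) W)
    (ha : a ∈ Algebra.adjoin (ZMod p) ({x} : Set (Module.End (ZMod p) W)))
    (hb : b ∈ Algebra.adjoin (ZMod p) ({x} : Set (Module.End (ZMod p) W))) : a * b = b * a := by
  have hc : IsMulCommutative (Algebra.adjoin (ZMod p) ({x} : Set (Module.End (ZMod p) W))) :=
    Algebra.isMulCommutative_adjoin (ZMod p) (by
      intro a ha b hb
      rw [Set.mem_singleton_iff] at ha hb
      rw [ha, hb])
  have := hc.is_comm.comm ⟨a, ha⟩ ⟨b, hb⟩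
  exact congrArg Subtype.val this

theorem Irr.inj (h : Irr x) (r : Module.End (ZMod p) W)
    (hr : r ∈ Algebra.adjoin (ZMod p) ({x} : Set (Module.End (ZMod p) W))) (w : W) (hw : w ≠ 0)
    (hrw : r w = 0) : r = 0 := by
  ext w'
  obtain ⟨s, hs, rfl⟩ := h.gen w hw w'
  have : r (s w) = (r * s) w := rfl
  rw [this, adj_comm r s hr hs]
  change s (r w) = 0
  rw [hrw, map_zero]


theorem Irr.card_eq [Finite W] (h : Irr x) :
    Nat.card (Algebra.adjoin (ZMod p) ({x} : Set (Module.End (ZMod p) W))) = Nat.card W := by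
  obtain ⟨w₀, hw₀⟩ := h.nt
  apply Nat.card_congr
  refine Equiv.ofBijective (fun r => (r : Module.End (ZMod p) W) w₀) ⟨?_, ?_⟩
  · intro r s hrs
    apply Subtype.ext
    have h1 : ((r : Module.End (ZMod p) W) - s) w₀ = 0 := by
      rw [LinearMap.sub_apply]; exact sub_eq_zero.mpr hrs
    have := h.inj _ (Subalgebra.sub_mem _ r.2 s.2) w₀ hw₀ h1
    exact sub_eq_zero.mp this
  · intro w'
    obtain ⟨r, hr, hrw⟩ := h.gen w₀ hw₀ w'
    exact ⟨⟨r, hr⟩, hrw⟩

theorem Irr.isDomain (h : Irr x) :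
    IsDomain (Algebra.adjoin (ZMod p) ({x} : Set (Module.End (ZMod p) W))) := by
  obtain ⟨w₀, hw₀⟩ := h.nt
  haveI : Nontrivial (Algebra.adjoin (ZMod p) ({x} : Set (Module.End (ZMod p) W))) := by
    refine ⟨⟨0, 1, fun h01 => ?_⟩⟩
    have h1 := congrArg (fun r : Algebra.adjoin (ZMod p) ({x} : Set (Module.End (ZMod p) W)) =>
      (r : Module.End (ZMod p) W) w₀) h01
    simp at h1
    exact hw₀ h1.symm
  haveI : NoZeroDivisors (Algebra.adjoin (ZMod p) ({x} : Set (Module.End (ZMod p) W))) := by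
    refine ⟨fun {a b} hab => ?_⟩
    by_cases hb : (b : Module.End (ZMod p) W) w₀ = 0
    · right
      exact Subtype.ext (h.inj _ b.2 w₀ hw₀ hb)
    · left
      apply Subtype.ext
      apply h.inj _ a.2 _ hb
      have h1 := congrArg (fun r : Algebra.adjoin (ZMod p) ({x} : Set (Module.End (ZMod p) W)) =>
        (r : Module.End (ZMod p) W) w₀) hab
      simpa using h1
  exact NoZeroDivisors.to_isDomain _


theorem adj_pow_fix (i : ℕ) (hxi : x ^ (p ^ i) = x) (r : Module.End (ZMod p) W)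
    (hr : r ∈ Algebra.adjoin (ZMod p) ({x} : Set (Module.End (ZMod p) W))) :
    r ^ (p ^ i) = r := by
  by_cases hW : Subsingleton W
  · ext w; exact Subsingleton.elim _ _
  rw [not_subsingleton_iff_nontrivial] at hW
  haveI : CharP (Module.End (ZMod p) W) p := by
    apply charP_of_injective_algebraMap (R := ZMod p)
    exact FaithfulSMul.algebraMap_injective (ZMod p) (Module.End (ZMod p) W)
  induction hr using Algebra.adjoin_induction with
  | mem y hy =>
    rw [Set.mem_singleton_iff] at hy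
    rw [hy]; exact hxi
  | algebraMap c =>
    rw [← map_pow, ZMod.pow_card_pow]
  | add a b ha hb iha ihb =>
    rw [add_pow_char_pow_of_commute _ _ (adj_comm a b ha hb), iha, ihb]
  | mul a b ha hb iha ihb =>
    rw [(show Commute a b from adj_comm a b ha hb).mul_pow, iha, ihb]

theorem Irr.bound [Finite W] (h : Irr x) (d : ℕ) (hcard : Nat.card W = p ^ d) (q i : ℕ)
    (hxq : x ^ q = 1) (hq : q ∣ p ^ i - 1) (hi : 0 < i) : d ≤ i := by
  classical
  have hp : p.Prime := Fact.out
  have hxi : x ^ (p ^ i) = x := by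
    obtain ⟨c, hc⟩ := hq
    have hpos : 1 ≤ p ^ i := Nat.one_le_pow _ _ hp.pos
    have : p ^ i = q * c + 1 := by omega
    rw [this, pow_succ, pow_mul, hxq, one_pow, one_mul]
  haveI hcomm : IsMulCommutative (Algebra.adjoin (ZMod p) ({x} : Set (Module.End (ZMod p) W))) :=
    Algebra.isMulCommutative_adjoin (ZMod p) (by
      intro a ha b hb
      rw [Set.mem_singleton_iff] at ha hb
      rw [ha, hb])
  haveI := h.isDomain
  haveI : Finite (Algebra.adjoin (ZMod p) ({x} : Set (Module.End (ZMod p) W))) :=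
    Nat.finite_of_card_ne_zero (by rw [h.card_eq, hcard]; exact (pow_pos hp.pos d).ne')
  letI : Fintype (Algebra.adjoin (ZMod p) ({x} : Set (Module.End (ZMod p) W))) :=
    Fintype.ofFinite _
  letI : Field (Algebra.adjoin (ZMod p) ({x} : Set (Module.End (ZMod p) W))) :=
    Fintype.fieldOfDomain _
  apply ff_bound (K := Algebra.adjoin (ZMod p) ({x} : Set (Module.End (ZMod p) W))) (p := p) d i hi
  · rw [h.card_eq, hcard]
  · intro r
    apply Subtype.ext
    exact adj_pow_fix i hxi r r.2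


/-- conjugation by a linear automorphism, as an algebra automorphism of the endomorphism ring -/
noncomputable def cj (g : W ≃ₗ[ZMod p] W) : Module.End (ZMod p) W ≃ₐ[ZMod p] Module.End (ZMod p) W :=
  g.conjAlgEquiv (ZMod p)

theorem cj_apply (g : W ≃ₗ[ZMod p] W) (r : Module.End (ZMod p) W) (w : W) :
    cj g r w = g (r (g.symm w)) := rfl

theorem cj_mul (g g' : W ≃ₗ[ZMod p] W) (r : Module.End (ZMod p) W) :
    cj (g * g') r = cj g (cj g' r) := by
  ext w
  simp only [cj_apply]
  rfl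

theorem cj_one (r : Module.End (ZMod p) W) : cj (1 : W ≃ₗ[ZMod p] W) r = r := by
  ext w
  simp only [cj_apply]
  rfl

theorem cj_mem_adjoin (g : W ≃ₗ[ZMod p] W)
    (hg : cj g x ∈ Algebra.adjoin (ZMod p) ({x} : Set (Module.End (ZMod p) W)))
    (r : Module.End (ZMod p) W)
    (hr : r ∈ Algebra.adjoin (ZMod p) ({x} : Set (Module.End (ZMod p) W))) :
    cj g r ∈ Algebra.adjoin (ZMod p) ({x} : Set (Module.End (ZMod p) W)) := by
  induction hr using Algebra.adjoin_induction with
  | mem y hy =>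
    rw [Set.mem_singleton_iff] at hy
    rw [hy]; exact hg
  | algebraMap c =>
    rw [AlgEquiv.commutes]; exact Subalgebra.algebraMap_mem _ c
  | add a b ha hb iha ihb =>
    rw [map_add]; exact Subalgebra.add_mem _ iha ihb
  | mul a b ha hb iha ihb =>
    rw [map_mul]; exact Subalgebra.mul_mem _ iha ihb

theorem cj_fix_adjoin (g : W ≃ₗ[ZMod p] W) (hg : cj g x = x)
    (r : Module.End (ZMod p) W)
    (hr : r ∈ Algebra.adjoin (ZMod p) ({x} : Set (Module.End (ZMod p) W))) :
    cj g r = r := by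
  induction hr using Algebra.adjoin_induction with
  | mem y hy =>
    rw [Set.mem_singleton_iff] at hy
    rw [hy]; exact hg
  | algebraMap c =>
    rw [AlgEquiv.commutes]
  | add a b ha hb iha ihb =>
    rw [map_add, iha, ihb]
  | mul a b ha hb iha ihb =>
    rw [map_mul, iha, ihb]


section aut

variable {Γ : Type*} [Group Γ] (ρ : Γ →* (W ≃ₗ[ZMod p] W))

/-- the algebra automorphism of `𝔽_p[x]` induced by `γ` -/
noncomputable def sig
    (hn : ∀ γ : Γ, cj (ρ γ) x ∈ Algebra.adjoin (ZMod p) ({x} : Set (Module.End (ZMod p) W)))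
    (γ : Γ) : Algebra.adjoin (ZMod p) ({x} : Set (Module.End (ZMod p) W)) ≃ₐ[ZMod p]
      Algebra.adjoin (ZMod p) ({x} : Set (Module.End (ZMod p) W)) where
  toFun r := ⟨cj (ρ γ) r, cj_mem_adjoin _ (hn γ) r r.2⟩
  invFun r := ⟨cj (ρ γ⁻¹) r, cj_mem_adjoin _ (hn γ⁻¹) r r.2⟩
  left_inv r := by
    apply Subtype.ext
    change cj (ρ γ⁻¹) (cj (ρ γ) r) = r
    rw [← cj_mul, ← map_mul, inv_mul_cancel, map_one, cj_one]
  right_inv r := by
    apply Subtype.ext
    change cj (ρ γ) (cj (ρ γ⁻¹) r) = r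
    rw [← cj_mul, ← map_mul, mul_inv_cancel, map_one, cj_one]
  map_mul' a b := Subtype.ext (map_mul _ _ _)
  map_add' a b := Subtype.ext (map_add _ _ _)
  commutes' c := Subtype.ext (AlgEquiv.commutes _ c)

theorem sig_apply
    (hn : ∀ γ : Γ, cj (ρ γ) x ∈ Algebra.adjoin (ZMod p) ({x} : Set (Module.End (ZMod p) W)))
    (γ : Γ) (r : Algebra.adjoin (ZMod p) ({x} : Set (Module.End (ZMod p) W))) :
    ((sig ρ hn γ r : Algebra.adjoin (ZMod p) ({x} : Set (Module.End (ZMod p) W))) :
      Module.End (ZMod p) W) = cj (ρ γ) r := rfl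

/-- the homomorphism `Γ → Aut(𝔽_p[x])` -/
noncomputable def sigHom
    (hn : ∀ γ : Γ, cj (ρ γ) x ∈ Algebra.adjoin (ZMod p) ({x} : Set (Module.End (ZMod p) W))) :
    Γ →* (Algebra.adjoin (ZMod p) ({x} : Set (Module.End (ZMod p) W)) ≃ₐ[ZMod p]
      Algebra.adjoin (ZMod p) ({x} : Set (Module.End (ZMod p) W))) where
  toFun := sig ρ hn
  map_one' := by
    ext r
    rw [sig_apply, map_one, cj_one]
    rfl
  map_mul' a b := by
    ext r
    rw [sig_apply, map_mul, cj_mul]
    rfl

theorem mem_ker_sigHom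
    (hn : ∀ γ : Γ, cj (ρ γ) x ∈ Algebra.adjoin (ZMod p) ({x} : Set (Module.End (ZMod p) W)))
    (γ : Γ) : γ ∈ (sigHom ρ hn).ker ↔ cj (ρ γ) x = x := by
  rw [MonoidHom.mem_ker]
  constructor
  · intro h
    have h1 := congrArg (fun f : Algebra.adjoin (ZMod p) ({x} : Set (Module.End (ZMod p) W)) ≃ₐ[ZMod p]
      Algebra.adjoin (ZMod p) ({x} : Set (Module.End (ZMod p) W)) =>
        ((f ⟨x, Algebra.subset_adjoin (Set.mem_singleton x)⟩ :
          Algebra.adjoin (ZMod p) ({x} : Set (Module.End (ZMod p) W))) : Module.End (ZMod p) W)) h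
    exact h1
  · intro h
    apply AlgEquiv.ext
    intro r
    apply Subtype.ext
    change cj (ρ γ) r = r
    exact cj_fix_adjoin _ h r r.2


theorem Irr.index_dvd [Finite W] [Finite Γ] (h : Irr x) (d : ℕ) (hcard : Nat.card W = p ^ d)
    (hn : ∀ γ : Γ, cj (ρ γ) x ∈ Algebra.adjoin (ZMod p) ({x} : Set (Module.End (ZMod p) W))) :
    (sigHom ρ hn).ker.index ∣ d := by
  classical
  have hp : p.Prime := Fact.out
  haveI hcomm : IsMulCommutative (Algebra.adjoin (ZMod p) ({x} : Set (Module.End (ZMod p) W))) :=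
    Algebra.isMulCommutative_adjoin (ZMod p) (by
      intro a ha b hb
      rw [Set.mem_singleton_iff] at ha hb
      rw [ha, hb])
  haveI := h.isDomain
  haveI : Finite (Algebra.adjoin (ZMod p) ({x} : Set (Module.End (ZMod p) W))) :=
    Nat.finite_of_card_ne_zero (by rw [h.card_eq, hcard]; exact (pow_pos hp.pos d).ne')
  letI : Fintype (Algebra.adjoin (ZMod p) ({x} : Set (Module.End (ZMod p) W))) :=
    Fintype.ofFinite _
  letI : Field (Algebra.adjoin (ZMod p) ({x} : Set (Module.End (ZMod p) W))) :=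
    Fintype.fieldOfDomain _
  exact ff_aut (K := Algebra.adjoin (ZMod p) ({x} : Set (Module.End (ZMod p) W))) (p := p) d
    (by rw [h.card_eq, hcard]) (sigHom ρ hn)

end aut

end lin

end Cfsg.Agent.Lib.Helper7.EP
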