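import Mathlib
import Cfsg.Agent.Lib.Helper7.ElemAbGL
import Cfsg.Agent.Lib.Helper7.EP5b

set_option autoImplicit false

/-! Bridge: an irreducible cyclic group of automorphisms of an elementary abelian group. -/

namespace Cfsg.Agent.Lib.Helper7.EP

open Cfsg.Agent.Lib.Helper7

section core

variable {p : ℕ} [Fact p.Prime] {V : Type*} [CommGroup V] [Module (ZMod p) (Additive V)]
  {Γ : Type*} [Group Γ]

/-- the linear representation attached to an action by automorphisms -/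
noncomputable def linRep (κ : Γ →* MulAut V) : Γ →* (Additive V ≃ₗ[ZMod p] Additive V) :=
  (mulAutEquivLinear (V := V) p).toMonoidHom.comp κ

theorem linRep_apply (κ : Γ →* MulAut V) (γ : Γ) (v : V) :
    linRep (p := p) κ γ (Additive.ofMul v) = Additive.ofMul (κ γ v) := rfl

/-- the same, as endomorphisms -/
noncomputable def linRep' (κ : Γ →* MulAut V) : Γ →* Module.End (ZMod p) (Additive V) :=
  (LinearEquiv.automorphismGroup.toLinearMapMonoidHom
      (R := ZMod p) (M := Additive V)).comp (linRep κ)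

theorem linRep'_apply (κ : Γ →* MulAut V) (γ : Γ) (v : V) :
    linRep' (p := p) κ γ (Additive.ofMul v) = Additive.ofMul (κ γ v) := rfl

theorem cj_linRep (κ : Γ →* MulAut V) (γ y : Γ) :
    cj (linRep (p := p) κ γ) (linRep' (p := p) κ y) = linRep' (p := p) κ (γ * y * γ⁻¹) := by
  ext w
  rw [cj_apply]
  change linRep (p := p) κ γ (linRep (p := p) κ y ((linRep (p := p) κ γ).symm w)) =
    linRep (p := p) κ (γ * y * γ⁻¹) w
  rw [map_mul, map_mul, map_inv]
  rfl


theorem linRep'_injective (κ : Γ →* MulAut V) (hinj : Function.Injective κ) :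
    Function.Injective (linRep' (p := p) κ) := by
  intro a b hab
  apply hinj
  ext v
  have h1 := congrArg (fun f : Module.End (ZMod p) (Additive V) => f (Additive.ofMul v)) hab
  simp only [linRep'_apply] at h1
  exact Additive.ofMul.injective h1

theorem lin_core [Finite V] [Finite Γ] (d : ℕ) (hcard : Nat.card V = p ^ d)
    (hne : ∃ v : V, v ≠ 1)
    (κ : Γ →* MulAut V) (hinj : Function.Injective κ) (x : Γ) (q : ℕ) (hxq : x ^ q = 1)
    (hnorm : ∀ γ : Γ, ∃ k : ℕ, γ * x * γ⁻¹ = x ^ k)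
    (hirr : ∀ v : V, v ≠ 1 → ∀ v' : V,
      v' ∈ Subgroup.closure {y | ∃ j : ℕ, y = κ (x ^ j) v}) :
    (∀ i, 0 < i → q ∣ p ^ i - 1 → d ≤ i) ∧
    (∀ C : Subgroup Γ, (∀ γ : Γ, γ ∈ C ↔ γ * x = x * γ) → Nat.card Γ ∣ Nat.card C * d) := by
  haveI : Finite (Additive V) := inferInstanceAs (Finite V)
  have hcardW : Nat.card (Additive V) = p ^ d := hcard
  set xh : Module.End (ZMod p) (Additive V) := linRep' (p := p) κ x with hxh
  have hxhpow : ∀ j : ℕ, xh ^ j = linRep' (p := p) κ (x ^ j) := fun j => (map_pow _ _ _).symm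
  have hIrr : Irr xh := by
    refine ⟨?_, ?_⟩
    · obtain ⟨v, hv⟩ := hne
      exact ⟨Additive.ofMul v, fun h => hv (Additive.ofMul.injective h)⟩
    · intro w hw w'
      have hv : w.toMul ≠ 1 := fun h => hw (Additive.toMul.injective h)
      have hmem := hirr w.toMul hv w'.toMul
      have key : ∀ y : V, y ∈ Subgroup.closure {y | ∃ j : ℕ, y = κ (x ^ j) w.toMul} →
          ∃ r ∈ Algebra.adjoin (ZMod p) ({xh} : Set (Module.End (ZMod p) (Additive V))),
            r w = Additive.ofMul y := by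
        intro y hy
        induction hy using Subgroup.closure_induction with
        | mem y hy =>
          obtain ⟨j, rfl⟩ := hy
          refine ⟨xh ^ j, pow_mem (Algebra.subset_adjoin (Set.mem_singleton _)) j, ?_⟩
          rw [hxhpow]
          rfl
        | one => exact ⟨0, zero_mem _, rfl⟩
        | mul a b ha hb iha ihb =>
          obtain ⟨r₁, hr₁, h₁⟩ := iha
          obtain ⟨r₂, hr₂, h₂⟩ := ihb
          refine ⟨r₁ + r₂, add_mem hr₁ hr₂, ?_⟩
          rw [LinearMap.add_apply, h₁, h₂]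
          rfl
        | inv a ha iha =>
          obtain ⟨r₁, hr₁, h₁⟩ := iha
          refine ⟨-r₁, neg_mem hr₁, ?_⟩
          rw [LinearMap.neg_apply, h₁]
          rfl
      exact key _ hmem
  have hn : ∀ γ : Γ, cj (linRep (p := p) κ γ) xh ∈
      Algebra.adjoin (ZMod p) ({xh} : Set (Module.End (ZMod p) (Additive V))) := by
    intro γ
    obtain ⟨k, hk⟩ := hnorm γ
    rw [hxh, cj_linRep, hk, ← hxh, ← hxhpow]
    exact pow_mem (Algebra.subset_adjoin (Set.mem_singleton _)) k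
  refine ⟨?_, ?_⟩
  · intro i hi hq
    refine hIrr.bound d hcardW q i ?_ hq hi
    rw [hxhpow, hxq, map_one]
  · intro C hC
    have h1 := hIrr.index_dvd (linRep (p := p) κ) d hcardW hn
    have h2 : (sigHom (linRep (p := p) κ) hn).ker = C := by
      ext γ
      rw [mem_ker_sigHom, hC, hxh, cj_linRep]
      constructor
      · intro h
        have := linRep'_injective (p := p) κ hinj h
        exact mul_inv_eq_iff_eq_mul.mp this
      · intro h
        congr 1
        rw [h]; group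
    rw [h2] at h1
    rw [← Subgroup.card_mul_index C]
    exact Nat.mul_dvd_mul_left _ h1

end core


theorem lin_abs {p : ℕ} [Fact p.Prime] {V : Type*} [CommGroup V] {Γ : Type*} [Group Γ]
    [Finite V] [Finite Γ] (hexp : ∀ v : V, v ^ p = 1) (d : ℕ) (hcard : Nat.card V = p ^ d)
    (hne : ∃ v : V, v ≠ 1)
    (κ : Γ →* MulAut V) (hinj : Function.Injective κ) (x : Γ) (q : ℕ) (hxq : x ^ q = 1)
    (hnorm : ∀ γ : Γ, ∃ k : ℕ, γ * x * γ⁻¹ = x ^ k)
    (hirr : ∀ v : V, v ≠ 1 → ∀ v' : V,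
      v' ∈ Subgroup.closure {y | ∃ j : ℕ, y = κ (x ^ j) v}) :
    (∀ i, 0 < i → q ∣ p ^ i - 1 → d ≤ i) ∧
    (∀ C : Subgroup Γ, (∀ γ : Γ, γ ∈ C ↔ γ * x = x * γ) → Nat.card Γ ∣ Nat.card C * d) := by
  have hW : ∀ w : Additive V, p • w = 0 := fun w => by
    change Additive.ofMul (w.toMul ^ p) = 0
    rw [hexp]
    rfl
  exact @lin_core p _ V _ (AddCommGroup.zmodModule hW) Γ _ _ _ d hcard hne κ hinj x q hxq hnorm hirr

section bridge

variable {X : Type*} [Group X] {p : ℕ} [Fact p.Prime]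

theorem lin_bridge [Finite X] (d : ℕ)
    (M : Subgroup X) [hMn : M.Normal] (hMab : ∀ a ∈ M, ∀ b ∈ M, a * b = b * a)
    (hMexp : ∀ a ∈ M, a ^ p = 1) (hMcard : Nat.card M = p ^ d) (hMne : M ≠ ⊥)
    (H : Subgroup X) (x : X) (hxH : x ∈ H) (q : ℕ) (hxq : x ^ q = 1)
    (hnorm : ∀ h ∈ H, ∃ k : ℕ, h * x * h⁻¹ = x ^ k)
    (hirr : ∀ m ∈ M, m ≠ 1 → M ≤ Subgroup.closure {y | ∃ j : ℕ, y = x ^ j * m * (x ^ j)⁻¹})
    (hfaith : ∀ h ∈ H, (∀ m ∈ M, h * m = m * h) → h = 1) :
    (∀ i, 0 < i → q ∣ p ^ i - 1 → d ≤ i) ∧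
    (∀ C : Subgroup H, (∀ h : H, h ∈ C ↔ (h : X) * x = x * h) → Nat.card H ∣ Nat.card C * d) := by
  classical
  letI cg : CommGroup M := { (inferInstance : Group M) with
    mul_comm := fun a b => Subtype.ext (hMab a a.2 b b.2) }
  let κ : H →* MulAut M := (MulAut.conjNormal (H := M)).comp H.subtype
  have hκ : ∀ (h : H) (m : M), ((κ h m : M) : X) = h * m * (h : X)⁻¹ := fun h m => rfl
  have hinj : Function.Injective κ := by
    rw [injective_iff_map_eq_one]
    intro h hh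
    apply Subtype.ext
    apply hfaith h h.2
    intro m hm
    have h1 := congrArg (fun f : MulAut M => ((f ⟨m, hm⟩ : M) : X)) hh
    simp only [hκ, MulAut.one_apply] at h1
    exact mul_inv_eq_iff_eq_mul.mp h1
  have hne : ∃ v : M, v ≠ 1 := by
    obtain ⟨v, hv⟩ := (Subgroup.ne_bot_iff_exists_ne_one).mp hMne
    exact ⟨v, hv⟩
  have hxq' : (⟨x, hxH⟩ : H) ^ q = 1 := Subtype.ext hxq
  have hnorm' : ∀ γ : H, ∃ k : ℕ, γ * ⟨x, hxH⟩ * γ⁻¹ = (⟨x, hxH⟩ : H) ^ k := by
    intro γ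
    obtain ⟨k, hk⟩ := hnorm γ γ.2
    exact ⟨k, Subtype.ext hk⟩
  have hirr' : ∀ v : M, v ≠ 1 → ∀ v' : M,
      v' ∈ Subgroup.closure {y | ∃ j : ℕ, y = κ ((⟨x, hxH⟩ : H) ^ j) v} := by
    intro v hv v'
    have hv1 : (v : X) ≠ 1 := fun h => hv (Subtype.ext h)
    have h1 := hirr v v.2 hv1 v'.2
    -- transfer along the subtype embedding
    have h2 : Subgroup.closure {y : X | ∃ j : ℕ, y = x ^ j * v * (x ^ j)⁻¹} =
        (Subgroup.closure {y : M | ∃ j : ℕ, y = κ ((⟨x, hxH⟩ : H) ^ j) v}).map M.subtype := by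
      rw [MonoidHom.map_closure]
      congr 1
      ext y
      constructor
      · rintro ⟨j, rfl⟩
        exact ⟨κ ((⟨x, hxH⟩ : H) ^ j) v, ⟨j, rfl⟩, rfl⟩
      · rintro ⟨_, ⟨j, rfl⟩, rfl⟩
        exact ⟨j, rfl⟩
    rw [h2] at h1
    obtain ⟨y, hy, hyv⟩ := h1
    have : y = v' := Subtype.ext hyv
    rwa [← this]
  have hexp' : ∀ v : M, v ^ p = 1 := fun v => Subtype.ext (hMexp v v.2)
  have main := lin_abs (p := p) (V := M) (Γ := H) hexp' d hMcard hne κ hinj ⟨x, hxH⟩ q hxq'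
    hnorm' hirr'
  refine ⟨main.1, fun C hC => main.2 C (fun γ => ?_)⟩
  rw [hC]
  constructor
  · intro h; exact Subtype.ext h
  · intro h; exact congrArg Subtype.val h

end bridge

end Cfsg.Agent.Lib.Helper7.EP
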