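import Mathlib
import Cfsg.Agent.Lib.Helper7.EP3
import Cfsg.Agent.Lib.Helper7.EP6a
import Cfsg.Agent.S0041
import Cfsg.Agent.S0548
import Cfsg.Agent.H2.BGChief
import Cfsg.Agent.Lib.helper3.Berger1

set_option autoImplicit false

/-! Solvable extremely primitive groups: auxiliary lemmas. -/

namespace Cfsg.Agent.Lib.Helper7.EP

open MulAction

theorem fitting_ne_bot_of_solvable {K : Type*} [Group K] [Finite K] [Nontrivial K]
    [Group.IsSolvable K] : Cfsg.fittingSubgroup K ≠ ⊥ := by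
  obtain ⟨N, hNn, hNb, hNmin⟩ := Cfsg.Agent.H2.BG.exists_minimal_normal (G := K)
  haveI := hNn
  obtain ⟨-, r, a, hr, hNc⟩ := Cfsg.Agent.Lib.helper3.Berger.minimal_normal_solvable N hNb hNmin
  haveI := Fact.mk hr
  have hpg : IsPGroup r N := IsPGroup.of_card hNc
  have hle : N ≤ Cfsg.fittingSubgroup K := Cfsg.Agent.H1.le_fittingSubgroup hNn hpg.isNilpotent
  intro h
  rw [h, le_bot_iff] at hle
  exact hNb hle

theorem min_normal_exp {G : Type*} [Group G] [Finite G] (M : Subgroup G) [hMn : M.Normal]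
    (hab : ∀ a ∈ M, ∀ b ∈ M, a * b = b * a)
    (hmin : ∀ K : Subgroup G, K.Normal → K ≤ M → K = ⊥ ∨ K = M) (p : ℕ) (hp : p.Prime)
    (hpd : p ∣ Nat.card M) : ∀ m ∈ M, m ^ p = 1 := by
  haveI := Fact.mk hp
  obtain ⟨⟨y, hyM⟩, hy⟩ := exists_prime_orderOf_dvd_card' p hpd
  let B : Subgroup G :=
    { carrier := {x | x ∈ M ∧ x ^ p = 1}
      mul_mem' := by
        rintro a b ⟨ha, ha'⟩ ⟨hb, hb'⟩
        refine ⟨M.mul_mem ha hb, ?_⟩
        rw [(show Commute a b from hab a ha b hb).mul_pow, ha', hb', one_mul]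
      one_mem' := ⟨M.one_mem, one_pow _⟩
      inv_mem' := by
        rintro a ⟨ha, ha'⟩
        exact ⟨M.inv_mem ha, by rw [inv_pow, ha', inv_one]⟩ }
  have hBM : B ≤ M := fun x hx => hx.1
  have hBn : B.Normal := by
    refine ⟨fun n hn g => ⟨hMn.conj_mem n hn.1 g, ?_⟩⟩
    rw [conj_pow, hn.2, mul_one, mul_inv_cancel]
  have hyB : y ∈ B := by
    refine ⟨hyM, ?_⟩
    have h1 : orderOf y = p := by
      rw [← hy]; exact (Subgroup.orderOf_mk y hyM).symm
    rw [← h1]; exact pow_orderOf_eq_one y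
  have hBne : B ≠ ⊥ := by
    intro h
    rw [h, Subgroup.mem_bot] at hyB
    have h1 : orderOf (⟨y, hyM⟩ : M) = 1 := by
      rw [orderOf_eq_one_iff]; exact Subtype.ext hyB
    rw [hy] at h1
    exact hp.one_lt.ne' h1
  have hBeq : B = M := (hmin B hBn hBM).resolve_left hBne
  intro m hm
  have : m ∈ B := hBeq ▸ hm
  exact this.2

theorem exists_gen_mod_ker {H A : Type*} [Group H] [Group A] [IsCyclic A] (f : H →* A) :
    ∃ h₀ : H, ∀ h : H, ∃ k : ℤ, h * (h₀ ^ k)⁻¹ ∈ f.ker := by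
  obtain ⟨⟨a, h₀, rfl⟩, hgen⟩ := IsCyclic.exists_generator (α := f.range)
  refine ⟨h₀, fun h => ?_⟩
  obtain ⟨k, hk⟩ := Subgroup.mem_zpowers_iff.mp (hgen ⟨f h, h, rfl⟩)
  refine ⟨k, ?_⟩
  rw [MonoidHom.mem_ker, map_mul, map_inv, map_zpow]
  have h1 := congrArg Subtype.val hk
  simp only [Subgroup.coe_zpow] at h1
  rw [h1, mul_inv_cancel]

end Cfsg.Agent.Lib.Helper7.EP
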