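import Mathlib
import Cfsg.Agent.Lib.Helper7.EP6b

set_option autoImplicit false

/-! Solvable extremely primitive groups: main theorem. -/

namespace Cfsg.Agent.Lib.Helper7.EP

open MulAction

section main

variable {G : Type*} [Group G] [Finite G] {Ω : Type*} [Fintype Ω] [MulAction G Ω]
  [FaithfulSMul G Ω] [Group.IsSolvable G]

theorem solv_main (p d : ℕ) (hp : p.Prime) (hcard : Fintype.card Ω = p ^ d)
    (hprim : IsPreprimitive G Ω) (hH : ∀ α : Ω, stabilizer G α ≠ ⊥)
    (hep : ∀ (α ω : Ω), IsPreprimitive (stabilizer G α) (orbit (stabilizer G α) ω)) (α : Ω) :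
    ∃ q : ℕ, q.Prime ∧ (∀ ω : Ω, ω ≠ α → Nat.card (orbit (stabilizer G α) ω) = q) ∧
      q ∣ p ^ d - 1 ∧ (∀ i : ℕ, 0 < i → i < d → ¬ q ∣ p ^ i - 1) ∧
      ∃ T : Subgroup G, T ≤ stabilizer G α ∧
        stabilizer G α ≤ Subgroup.normalizer (T : Set G) ∧ Nat.card T = q ∧
        (∃ h : G, stabilizer G α = T ⊔ Subgroup.zpowers h) ∧
        Nat.card (stabilizer G α) ∣ q * d := by
  classical
  haveI := Fact.mk hp
  haveI : Nonempty Ω := ⟨α⟩
  set H := stabilizer G α with hHdef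
  have c := cfg_of_extremely_primitive hprim hep α (hH α)
  haveI : Nontrivial H := (Subgroup.nontrivial_iff_ne_bot H).mpr (hH α)
  set F := Cfsg.fittingSubgroup H with hFdef
  have hFb : F ≠ ⊥ := fitting_ne_bot_of_solvable
  have hFn : F.Normal := Cfsg.Agent.H1.fittingSubgroup_normal
  have hcomm := c.fitting_comm
  obtain ⟨q, hq, hexp⟩ := c.exponent_prime F hFn hFb hcomm
  -- minimal normal subgroup of G
  haveI : Nontrivial G := by
    obtain ⟨⟨h, hh⟩, h1⟩ := (Subgroup.ne_bot_iff_exists_ne_one).mp (hH α)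
    exact ⟨⟨h, 1, fun e => h1 (Subtype.ext e)⟩⟩
  obtain ⟨M, hMn, hMb, hMmin⟩ := Cfsg.Agent.H2.BG.exists_minimal_normal (G := G)
  haveI := hMn
  obtain ⟨htr, hab, hreg⟩ := Cfsg.Agent.S0547.aux hprim M hMb hMmin
  obtain ⟨hcompl, hcent, hirrM⟩ := Cfsg.Agent.S0548.result hprim M hMb hMmin α
  obtain ⟨-, -, p', d', hp', hd', hΩ', hM'⟩ := Cfsg.Agent.S0547.result hprim M hMb hMmin
  have hMcard : Nat.card M = p ^ d := by
    rw [hM', ← hΩ', Nat.card_eq_fintype_card, hcard]
  have hd0 : d ≠ 0 := by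
    intro h0
    rw [h0, pow_zero] at hMcard
    exact hMb (Subgroup.card_eq_one.mp hMcard)
  have hMexp : ∀ m ∈ M, m ^ p = 1 :=
    min_normal_exp M hab hMmin p hp (by rw [hMcard]; exact dvd_pow_self p hd0)
  -- regularity of M at α
  have hregα : ∀ m ∈ M, m • α = α → m = 1 := by
    intro m hm hfix
    have h1 : (⟨m, hm⟩ : M) ∈ stabilizer M α := hfix
    rw [hreg α, Subgroup.mem_bot] at h1
    exact congrArg Subtype.val h1
  have hinjα : ∀ m ∈ M, ∀ m' ∈ M, m • α = m' • α → m = m' := by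
    intro m hm m' hm' h
    have h1 : (m'⁻¹ * m) • α = α := by rw [mul_smul, h, inv_smul_smul]
    have h2 := hregα _ (M.mul_mem (M.inv_mem hm') hm) h1
    exact (inv_mul_eq_one.mp h2).symm
  have hsurjα : ∀ ω : Ω, ∃ m ∈ M, m • α = ω := by
    intro ω
    obtain ⟨m, hm⟩ := exists_smul_eq M α ω
    exact ⟨m.1, m.2, hm⟩
  have hcompat : ∀ h ∈ H, ∀ m : G, h • (m • α) = (h * m * h⁻¹) • α := by
    intro h hh m
    have h1 : h⁻¹ • α = α := by rw [inv_smul_eq_iff]; exact (mem_stabilizer_iff.mp hh).symm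
    rw [mul_smul, mul_smul, h1]
  -- T
  set T := F.map H.subtype with hTdef
  have hTH : T ≤ H := Subgroup.map_subtype_le F
  have hmemT : ∀ t : G, t ∈ T ↔ ∃ ht : t ∈ H, (⟨t, ht⟩ : H) ∈ F := by
    intro t
    constructor
    · rintro ⟨f, hf, rfl⟩
      exact ⟨f.2, hf⟩
    · rintro ⟨ht, hf⟩
      exact ⟨⟨t, ht⟩, hf, rfl⟩
  have hfpf : ∀ t ∈ T, t ≠ 1 → ∀ m ∈ M, t * m = m * t → m = 1 := by
    intro t ht ht1 m hm hcm
    obtain ⟨htH, htF⟩ := (hmemT t).mp ht
    by_contra hm1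
    have hne : m • α ≠ α := fun h => hm1 (hregα m hm h)
    have hfix : (⟨t, htH⟩ : H) • (m • α) = m • α := by
      change t • (m • α) = m • α
      rw [hcompat t htH m, hcm, mul_inv_cancel_right]
    have := c.free F hFn hcomm ⟨t, htH⟩ htF (m • α) hne hfix
    exact ht1 (congrArg Subtype.val this)
  -- T is cyclic (S0041)
  have hTcomm : ∀ a ∈ T, ∀ b ∈ T, a * b = b * a := by
    intro a ha b hb
    obtain ⟨haH, haF⟩ := (hmemT a).mp ha
    obtain ⟨hbH, hbF⟩ := (hmemT b).mp hb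
    exact congrArg Subtype.val (hcomm _ haF _ hbF)
  have hTcyc : IsCyclic T := by
    haveI : IsMulCommutative M := ⟨⟨fun a b => Subtype.ext (hab a a.2 b b.2)⟩⟩
    apply Cfsg.Agent.S0041.result T M hMb
    · rw [Subgroup.normalizer_eq_top]; exact le_top
    · intro a ha ha1
      rw [Subgroup.eq_bot_iff_forall]
      rintro m ⟨hmM, hmC⟩
      have h1 := Subgroup.mem_centralizer_iff.mp hmC a (Set.mem_singleton a)
      exact hfpf a ha ha1 m hmM h1
    · exact Or.inl ⟨⟨fun a b => Subtype.ext (hTcomm a a.2 b b.2)⟩⟩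
  have hTexp : ∀ t ∈ T, t ^ q = 1 := by
    intro t ht
    obtain ⟨htH, htF⟩ := (hmemT t).mp ht
    exact congrArg Subtype.val (hexp _ htF)
  have hTne : T ≠ ⊥ := by
    intro h
    apply hFb
    rwa [hTdef, Subgroup.map_eq_bot_iff_of_injective _ (Subgroup.subtype_injective H)] at h
  obtain ⟨⟨x, hxT⟩, hgen⟩ := IsCyclic.exists_generator (α := T)
  have hTcard : Nat.card T = q := by
    have h1 : orderOf (⟨x, hxT⟩ : T) = Nat.card T := orderOf_eq_card_of_forall_mem_zpowers hgen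
    have h2 : orderOf (⟨x, hxT⟩ : T) ∣ q := by
      apply orderOf_dvd_of_pow_eq_one
      exact Subtype.ext (hTexp x hxT)
    rcases (Nat.dvd_prime hq).mp h2 with h3 | h3
    · exfalso
      rw [h1] at h3
      exact hTne (Subgroup.card_eq_one.mp h3)
    · rw [← h1, h3]
  have hTpow : ∀ t ∈ T, ∃ k : ℕ, t = x ^ k := by
    intro t ht
    have h1 := hgen ⟨t, ht⟩
    have hfin : IsOfFinOrder (⟨x, hxT⟩ : T) := isOfFinOrder_of_finite _
    rw [← hfin.mem_powers_iff_mem_zpowers] at h1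
    obtain ⟨k, hk⟩ := h1
    refine ⟨k, ?_⟩
    have := congrArg Subtype.val hk
    simpa using this.symm
  -- H normalises T
  have hTconj : ∀ h ∈ H, ∀ t ∈ T, h * t * h⁻¹ ∈ T := by
    intro h hh t ht
    obtain ⟨htH, htF⟩ := (hmemT t).mp ht
    rw [hmemT]
    refine ⟨H.mul_mem (H.mul_mem hh htH) (H.inv_mem hh), ?_⟩
    exact hFn.conj_mem ⟨t, htH⟩ htF ⟨h, hh⟩
  have hHT : H ≤ Subgroup.normalizer (T : Set G) := by
    intro h hh
    exact mem_normalizer_of_conj_mem T h (hTconj h hh)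
  -- the H-orbit of a point other than α is a regular T-orbit
  have horb : ∀ ω : Ω, ω ≠ α → ∀ h ∈ H, ∃ t ∈ T, t • ω = h • ω := by
    intro ω hω h hh
    obtain ⟨n, hn, hnω⟩ := c.trans F hFn hFb ω hω ω (mem_orbit_self ω)
      ((⟨h, hh⟩ : H) • ω) (mem_orbit _ _)
    exact ⟨n.1, (hmemT n.1).mpr ⟨n.2, hn⟩, hnω⟩
  have hxH : x ∈ H := hTH hxT
  have hxq : x ^ q = 1 := hTexp x hxT
  have hnorm : ∀ h ∈ H, ∃ k : ℕ, h * x * h⁻¹ = x ^ k := fun h hh =>
    hTpow _ (hTconj h hh x hxT)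
  have hfaith : ∀ h ∈ H, (∀ m ∈ M, h * m = m * h) → h = 1 := by
    intro h hh hc
    have : h ∈ H ⊓ Subgroup.centralizer (M : Set G) := by
      refine ⟨hh, ?_⟩
      exact Subgroup.mem_centralizer_iff.mpr (fun m hm => (hc m hm).symm)
    rw [hcent, Subgroup.mem_bot] at this
    exact this
  -- irreducibility
  have hirr : ∀ m ∈ M, m ≠ 1 →
      M ≤ Subgroup.closure {y | ∃ j : ℕ, y = x ^ j * m * (x ^ j)⁻¹} := by
    intro m hm hm1
    set K' := Subgroup.closure {y | ∃ j : ℕ, y = x ^ j * m * (x ^ j)⁻¹} with hK'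
    have hK'M : K' ≤ M := by
      rw [hK', Subgroup.closure_le]
      rintro y ⟨j, rfl⟩
      exact hMn.conj_mem m hm _
    have hmα : m • α ≠ α := fun h => hm1 (hregα m hm h)
    have hgenconj : ∀ g ∈ H, ∃ j : ℕ, g * m * g⁻¹ = x ^ j * m * (x ^ j)⁻¹ := by
      intro g hg
      obtain ⟨t, ht, htω⟩ := horb (m • α) hmα g hg
      obtain ⟨j, rfl⟩ := hTpow t ht
      refine ⟨j, ?_⟩
      rw [hcompat g hg m, hcompat _ (hTH ht) m] at htω
      exact (hinjα _ (hMn.conj_mem m hm _) _ (hMn.conj_mem m hm _) htω).symm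
    have hK'norm : H ≤ Subgroup.normalizer (K' : Set G) := by
      intro h hh
      apply mem_normalizer_of_conj_mem
      intro k hk
      induction hk using Subgroup.closure_induction with
      | mem y hy =>
        obtain ⟨j, rfl⟩ := hy
        obtain ⟨j', hj'⟩ := hgenconj (h * x ^ j) (H.mul_mem hh (H.pow_mem hxH j))
        apply Subgroup.subset_closure
        refine ⟨j', ?_⟩
        rw [← hj']
        group
      | one => simp [K'.one_mem]
      | mul a b ha hb iha ihb =>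
        have : h * (a * b) * h⁻¹ = (h * a * h⁻¹) * (h * b * h⁻¹) := by group
        rw [this]; exact K'.mul_mem iha ihb
      | inv a ha iha =>
        have : h * a⁻¹ * h⁻¹ = (h * a * h⁻¹)⁻¹ := by group
        rw [this]; exact K'.inv_mem iha
    have hK'ne : K' ≠ ⊥ := by
      intro h
      have : m ∈ K' := Subgroup.subset_closure ⟨0, by simp⟩
      rw [h, Subgroup.mem_bot] at this
      exact hm1 this
    have := (hirrM K' hK'M hK'norm).resolve_left hK'ne
    rw [this]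
  have hbridge := lin_bridge (p := p) d M hab hMexp hMcard hMb H x hxH q hxq hnorm hirr hfaith
  have hFT : Nat.card F = Nat.card T :=
    (Subgroup.card_map_of_injective (Subgroup.subtype_injective H)).symm
  have hFx : ∀ h : H, h ∈ F ↔ (h : G) * x = x * h := by
    intro h
    constructor
    · intro hF
      exact hTcomm _ ((hmemT h.1).mpr ⟨h.2, hF⟩) x hxT
    · intro hc
      apply c.cent F hFn hFb hcomm
      intro a ha
      obtain ⟨k, hk⟩ := hTpow (a : G) ((hmemT a.1).mpr ⟨a.2, ha⟩)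
      apply Subtype.ext
      change (h : G) * (a : G) = (a : G) * (h : G)
      rw [hk]
      exact (Commute.pow_right (show Commute (h : G) x from hc) k)
  refine ⟨q, hq, ?_, ?_, ?_, T, hTH, hHT, hTcard, ?_, ?_⟩
  · intro ω hω
    have h1 : Nat.card (orbit H ω) = Nat.card T := by
      apply Nat.card_congr
      symm
      refine Equiv.ofBijective
        (fun t : T => (⟨(t : G) • ω, ⟨⟨t, hTH t.2⟩, rfl⟩⟩ : orbit H ω)) ⟨?_, ?_⟩
      · intro t t' htt'
        have h1 : (t : G) • ω = (t' : G) • ω := congrArg Subtype.val htt'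
        have h2 : ((t' : G)⁻¹ * t) • ω = ω := by rw [mul_smul, h1, inv_smul_smul]
        have h3 : (t' : G)⁻¹ * t ∈ T := T.mul_mem (T.inv_mem t'.2) t.2
        obtain ⟨h4, h5⟩ := (hmemT _).mp h3
        have h6 := c.free F hFn hcomm ⟨_, h4⟩ h5 ω hω h2
        have h7 : (t' : G)⁻¹ * t = 1 := congrArg Subtype.val h6
        exact Subtype.ext (inv_mul_eq_one.mp h7).symm
      · rintro ⟨y, h, rfl⟩
        obtain ⟨t, ht, htω⟩ := horb ω hω h.1 h.2
        exact ⟨⟨t, ht⟩, Subtype.ext htω⟩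
    rw [h1, hTcard]
  · have h1 := c.card_dvd F hFn hcomm
    rw [hcard, hFT, hTcard] at h1
    exact h1
  · intro i hi hid hqi
    have := hbridge.1 i hi hqi
    omega
  · -- H / F embeds in Aut(F), which is cyclic
    haveI : IsCyclic F :=
      isCyclic_of_surjective (Subgroup.equivMapOfInjective F H.subtype
        (Subgroup.subtype_injective H)).symm (MulEquiv.surjective _)
    haveI : Fact (Nat.card F).Prime := ⟨by rw [hFT, hTcard]; exact hq⟩
    haveI : IsCyclic (MulAut F) :=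
      isCyclic_of_surjective (IsCyclic.mulAutMulEquiv F).symm (MulEquiv.surjective _)
    haveI := hFn
    obtain ⟨h₀, hh₀⟩ := exists_gen_mod_ker (MulAut.conjNormal (H := F))
    have hker : ∀ h : H, h ∈ (MulAut.conjNormal (H := F)).ker → h ∈ F := by
      intro h hh
      rw [MonoidHom.mem_ker] at hh
      apply c.cent F hFn hFb hcomm
      intro a ha
      have h2 := congrArg (fun f : MulAut F => ((f ⟨a, ha⟩ : F) : H)) hh
      simp only [MulAut.conjNormal_apply, MulAut.one_apply] at h2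
      exact mul_inv_eq_iff_eq_mul.mp h2
    refine ⟨(h₀ : G), le_antisymm ?_ ?_⟩
    · intro h hh
      obtain ⟨k, hk⟩ := hh₀ ⟨h, hh⟩
      have h1 := hker _ hk
      have h2 : h = ((⟨h, hh⟩ * (h₀ ^ k)⁻¹ : H) : G) * (h₀ : G) ^ k := by
        simp
      rw [h2]
      apply Subgroup.mul_mem
      · exact Subgroup.mem_sup_left ((hmemT _).mpr ⟨(⟨h, hh⟩ * (h₀ ^ k)⁻¹ : H).2, h1⟩)
      · exact Subgroup.mem_sup_right (Subgroup.zpow_mem_zpowers _ k)
    · rw [sup_le_iff]
      refine ⟨hTH, ?_⟩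
      rw [Subgroup.zpowers_le]
      exact h₀.2
  · have h1 := hbridge.2 F hFx
    rwa [hFT, hTcard] at h1

end main

end Cfsg.Agent.Lib.Helper7.EP
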