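import Mathlib

set_option autoImplicit false
set_option linter.style.haveILetI false
set_option linter.unusedVariables false
set_option linter.unusedSectionVars false

namespace Cfsg.Agent.Lib.Helper7.Eng

open Finset

section avg
variable {E : Type*} [Ring E]

theorem units_conj_pow (a x : Eˣ) (k : ℕ) : (a⁻¹ * x * a) ^ k = a⁻¹ * x ^ k * a := by
  induction k with
  | zero => simp
  | succ k ih => rw [pow_succ, ih, pow_succ]; group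

/-- the averaging identity: if `(γ - 1) ^ n = 0` then `∑ₖ (∑ₐ a⁻¹ γᵏ a) cₖ = 0` -/
theorem avg_expand (𝒜 : Subgroup Eˣ) [Fintype 𝒜] (γ : Eˣ) (n : ℕ) (hN : ((γ : E) - 1) ^ n = 0) :
    ∑ k ∈ range (n + 1), (∑ a : 𝒜, (((a : Eˣ)⁻¹ * γ ^ k * (a : Eˣ) : Eˣ) : E)) *
      ((-1 : E) ^ (n - k) * (n.choose k : E)) = 0 := by
  have hexp : ∀ x : E, (x - 1) ^ n = ∑ k ∈ range (n + 1), x ^ k * ((-1 : E) ^ (n - k) * (n.choose k : E)) := by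
    intro x
    have hc : Commute x (-1 : E) := (Commute.one_right x).neg_right
    rw [sub_eq_add_neg, hc.add_pow]
    apply Finset.sum_congr rfl
    intro k _
    rw [mul_assoc]
  have h1 : ∀ a : 𝒜, ((((a : Eˣ)⁻¹ * γ * (a : Eˣ) : Eˣ) : E) - 1) ^ n = 0 := by
    intro a
    have e : ((((a : Eˣ)⁻¹ * γ * (a : Eˣ) : Eˣ) : E) - 1) =
        (((a : Eˣ)⁻¹ : Eˣ) : E) * ((γ : E) - 1) * ((a : Eˣ) : E) := by
      rw [mul_sub, sub_mul, mul_one, Units.inv_mul]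
      push_cast
      rfl
    rw [e]
    have e2 : ∀ m : ℕ, ((((a : Eˣ)⁻¹ : Eˣ) : E) * ((γ : E) - 1) * ((a : Eˣ) : E)) ^ m =
        (((a : Eˣ)⁻¹ : Eˣ) : E) * ((γ : E) - 1) ^ m * ((a : Eˣ) : E) := by
      intro m
      induction m with
      | zero => simp
      | succ m ih =>
        rw [pow_succ, ih, pow_succ]
        calc (((a : Eˣ)⁻¹ : Eˣ) : E) * ((γ : E) - 1) ^ m * ((a : Eˣ) : E) *
              ((((a : Eˣ)⁻¹ : Eˣ) : E) * ((γ : E) - 1) * ((a : Eˣ) : E))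
            = (((a : Eˣ)⁻¹ : Eˣ) : E) * ((γ : E) - 1) ^ m *
                (((a : Eˣ) : E) * (((a : Eˣ)⁻¹ : Eˣ) : E)) * ((γ : E) - 1) * ((a : Eˣ) : E) := by
              simp only [mul_assoc]
          _ = (((a : Eˣ)⁻¹ : Eˣ) : E) * (((γ : E) - 1) ^ m * ((γ : E) - 1)) * ((a : Eˣ) : E) := by
              rw [Units.mul_inv, mul_one]; simp only [mul_assoc]
    rw [e2, hN, mul_zero, zero_mul]
  have h2 : ∑ a : 𝒜, ((((a : Eˣ)⁻¹ * γ * (a : Eˣ) : Eˣ) : E) - 1) ^ n = 0 :=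
    Finset.sum_eq_zero (fun a _ => h1 a)
  rw [← h2]
  simp_rw [hexp]
  rw [Finset.sum_comm]
  apply Finset.sum_congr rfl
  intro k _
  rw [Finset.sum_mul]
  apply Finset.sum_congr rfl
  intro a _
  congr 1
  rw [← Units.val_pow_eq_pow_val, units_conj_pow]


/-- **Averaging lemma.** A finite commutative group `𝒜` of units of a ring `E` in which `|𝒜|` is not a zero
divisor, normalised by a unit `γ` with `(γ - 1) ^ n = 0`, is centralised by `γ ^ n!`. -/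
theorem avg_key (𝒜 : Subgroup Eˣ) [Finite 𝒜] (hab : ∀ a ∈ 𝒜, ∀ b ∈ 𝒜, a * b = b * a)
    (γ : Eˣ) (hγ : ∀ a ∈ 𝒜, γ * a * γ⁻¹ ∈ 𝒜) (n : ℕ) (hN : ((γ : E) - 1) ^ n = 0)
    (hinj : ∀ e : E, (Nat.card 𝒜 : E) * e = 0 → e = 0) :
    ∀ b ∈ 𝒜, γ ^ n.factorial * b = b * γ ^ n.factorial := by
  classical
  haveI : Fintype 𝒜 := Fintype.ofFinite 𝒜
  have hγk : ∀ k : ℕ, ∀ a ∈ 𝒜, γ ^ k * a * (γ ^ k)⁻¹ ∈ 𝒜 := by
    intro k
    induction k with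
    | zero => intro a ha; simpa using ha
    | succ k ih =>
      intro a ha
      have := hγ _ (ih a ha)
      have e : γ ^ (k + 1) * a * (γ ^ (k + 1))⁻¹ = γ * (γ ^ k * a * (γ ^ k)⁻¹) * γ⁻¹ := by
        rw [pow_succ']; group
      rw [e]; exact this
  -- `δ k a = a⁻¹ γᵏ a γ⁻ᵏ`
  have hδmem : ∀ k : ℕ, ∀ a ∈ 𝒜, a⁻¹ * γ ^ k * a * (γ ^ k)⁻¹ ∈ 𝒜 := by
    intro k a ha
    have e : a⁻¹ * γ ^ k * a * (γ ^ k)⁻¹ = a⁻¹ * (γ ^ k * a * (γ ^ k)⁻¹) := by group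
    rw [e]; exact 𝒜.mul_mem (𝒜.inv_mem ha) (hγk k a ha)
  have hδmul : ∀ k : ℕ, ∀ x ∈ 𝒜, ∀ y ∈ 𝒜, (x * y)⁻¹ * γ ^ k * (x * y) * (γ ^ k)⁻¹ =
      (x⁻¹ * γ ^ k * x * (γ ^ k)⁻¹) * (y⁻¹ * γ ^ k * y * (γ ^ k)⁻¹) := by
    intro k x hx y hy
    have h1 : y⁻¹ * (x⁻¹ * γ ^ k * x * (γ ^ k)⁻¹) = (x⁻¹ * γ ^ k * x * (γ ^ k)⁻¹) * y⁻¹ :=
      hab _ (𝒜.inv_mem hy) _ (hδmem k x hx)
    calc (x * y)⁻¹ * γ ^ k * (x * y) * (γ ^ k)⁻¹
        = (y⁻¹ * (x⁻¹ * γ ^ k * x * (γ ^ k)⁻¹)) * (γ ^ k * y * (γ ^ k)⁻¹) := by group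
      _ = ((x⁻¹ * γ ^ k * x * (γ ^ k)⁻¹) * y⁻¹) * (γ ^ k * y * (γ ^ k)⁻¹) := by rw [h1]
      _ = _ := by group
  obtain ⟨S, hS⟩ : ∃ S : ℕ → E, S = fun k => ∑ a : 𝒜, (((a : Eˣ)⁻¹ * γ ^ k * (a : Eˣ) : Eˣ) : E) :=
    ⟨_, rfl⟩
  have hsum := avg_expand 𝒜 γ n hN
  have hsum' : ∑ k ∈ range (n + 1), S k * ((-1 : E) ^ (n - k) * (n.choose k : E)) = 0 := by
    rw [hS]; exact hsum
  -- Lemma A
  have hA : ∀ k : ℕ, ∀ b' ∈ 𝒜, ((b'⁻¹ * γ ^ k * b' * (γ ^ k)⁻¹ : Eˣ) : E) * S k = S k := by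
    intro k b' hb'
    rw [hS]
    simp only
    rw [Finset.mul_sum]
    apply Fintype.sum_equiv (Equiv.mulLeft (⟨b', hb'⟩ : 𝒜))
    intro a
    rw [← Units.val_mul]
    congr 1
    simp only [Equiv.coe_mulLeft, Subgroup.coe_mul]
    have h1 : (a : Eˣ)⁻¹ * (b'⁻¹ * γ ^ k * b' * (γ ^ k)⁻¹) = (b'⁻¹ * γ ^ k * b' * (γ ^ k)⁻¹) * (a : Eˣ)⁻¹ :=
      hab _ (𝒜.inv_mem a.2) _ (hδmem k b' hb')
    symm
    calc (b' * (a : Eˣ))⁻¹ * γ ^ k * (b' * (a : Eˣ))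
        = ((a : Eˣ)⁻¹ * (b'⁻¹ * γ ^ k * b' * (γ ^ k)⁻¹)) * γ ^ k * (a : Eˣ) := by group
      _ = ((b'⁻¹ * γ ^ k * b' * (γ ^ k)⁻¹) * (a : Eˣ)⁻¹) * γ ^ k * (a : Eˣ) := by rw [h1]
      _ = (b'⁻¹ * γ ^ k * b' * (γ ^ k)⁻¹) * ((a : Eˣ)⁻¹ * γ ^ k * (a : Eˣ)) := by group
  -- Lemma B
  have hB : ∀ k i : ℕ, ∀ b ∈ 𝒜, ∃ b' ∈ 𝒜,
      b'⁻¹ * γ ^ k * b' * (γ ^ k)⁻¹ = b⁻¹ * γ ^ (k * i) * b * (γ ^ (k * i))⁻¹ := by
    intro k i
    induction i with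
    | zero =>
      intro b hb
      refine ⟨1, 𝒜.one_mem, ?_⟩
      simp
    | succ i ih =>
      intro b hb
      obtain ⟨bi, hbi, hbie⟩ := ih b hb
      obtain ⟨w, hwdef⟩ : ∃ w : Eˣ, w = γ ^ (k * i) * b * (γ ^ (k * i))⁻¹ := ⟨_, rfl⟩
      have hw : w ∈ 𝒜 := by rw [hwdef]; exact hγk _ b hb
      refine ⟨bi * w, 𝒜.mul_mem hbi hw, ?_⟩
      rw [hδmul k bi hbi w hw, hbie, hwdef, Nat.mul_succ, pow_add]
      group
  intro b hb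
  obtain ⟨c, hcdef⟩ : ∃ c : Eˣ, c = b⁻¹ * γ ^ n.factorial * b * (γ ^ n.factorial)⁻¹ := ⟨_, rfl⟩
  have hcS : ∀ k : ℕ, 1 ≤ k → k ≤ n → (c : E) * S k = S k := by
    intro k hk1 hkn
    obtain ⟨i, hi⟩ : k ∣ n.factorial := Nat.dvd_factorial hk1 hkn
    obtain ⟨b', hb', hb'e⟩ := hB k i b hb
    rw [← hi] at hb'e
    rw [hcdef, ← hb'e]
    exact hA k b' hb'
  have hS0 : S 0 = (Nat.card 𝒜 : E) := by
    rw [hS]
    simp only [pow_zero, mul_one, inv_mul_cancel, Units.val_one, Finset.sum_const, Finset.card_univ,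
      nsmul_eq_mul, Nat.card_eq_fintype_card]
  rw [Finset.sum_range_succ'] at hsum'
  have h2 : ∑ k ∈ range n, S (k + 1) * ((-1 : E) ^ (n - (k + 1)) * (n.choose (k + 1) : E)) +
      (c : E) * (S 0 * ((-1 : E) ^ (n - 0) * (n.choose 0 : E))) = 0 := by
    have h3 : (c : E) * (∑ k ∈ range n, S (k + 1) * ((-1 : E) ^ (n - (k + 1)) * (n.choose (k + 1) : E)) +
        S 0 * ((-1 : E) ^ (n - 0) * (n.choose 0 : E))) = 0 := by rw [hsum', mul_zero]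
    rw [mul_add, Finset.mul_sum] at h3
    have hterm : ∀ k ∈ range n,
        (c : E) * (S (k + 1) * ((-1 : E) ^ (n - (k + 1)) * (n.choose (k + 1) : E))) =
          S (k + 1) * ((-1 : E) ^ (n - (k + 1)) * (n.choose (k + 1) : E)) := by
      intro k hk
      rw [Finset.mem_range] at hk
      rw [← mul_assoc, hcS (k + 1) (by omega) (by omega)]
    rw [Finset.sum_congr rfl hterm] at h3
    exact h3
  have h4 : ((c : E) - 1) * (S 0 * ((-1 : E) ^ (n - 0) * (n.choose 0 : E))) = 0 := by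
    rw [sub_mul, one_mul]
    have := congrArg₂ (· - ·) h2 hsum'
    simp only [add_sub_add_left_eq_sub, sub_zero] at this
    exact this
  rw [hS0, Nat.sub_zero, Nat.choose_zero_right, Nat.cast_one, mul_one] at h4
  have h5 : (Nat.card 𝒜 : E) * ((c : E) - 1) = 0 := by
    have h6 : ((c : E) - 1) * ((Nat.card 𝒜 : E) * (-1 : E) ^ n) * (-1 : E) ^ n = 0 := by
      rw [h4, zero_mul]
    rw [mul_assoc, mul_assoc, ← pow_add, ← two_mul, pow_mul] at h6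
    simp only [even_two, Even.neg_pow, one_pow, mul_one] at h6
    rw [← h6]
    exact (Nat.cast_commute _ _).eq
  have h7 := hinj _ h5
  have h8 : c = 1 := by
    apply Units.ext
    rw [Units.val_one]
    exact sub_eq_zero.mp h7
  rw [hcdef] at h8
  have h9 : b⁻¹ * γ ^ n.factorial * b = γ ^ n.factorial := by
    rw [mul_inv_eq_one] at h8
    exact h8
  calc γ ^ n.factorial * b = b * (b⁻¹ * γ ^ n.factorial * b) := by group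
    _ = b * γ ^ n.factorial := by rw [h9]

end avg

end Cfsg.Agent.Lib.Helper7.Eng
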