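import Mathlib
import Cfsg.Agent.Lib.Helper7.EngA
import Cfsg.Agent.Lib.Helper7.ThA9

set_option autoImplicit false
set_option linter.style.haveILetI false
set_option linter.unusedVariables false
set_option linter.unusedSectionVars false

namespace Cfsg.Agent.Lib.Helper7.Eng

open Finset Cfsg.Agent.Lib.Helper7.ThA

section lin
variable {M : Type*} [CommGroup M]

/-- the iterated commutators `[m, f, …, f]` of an element with an automorphism -/
def engel (f : MulAut M) : ℕ → M → M
  | 0, m => m
  | i + 1, m => f (engel f i m) / engel f i m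

/-- automorphisms as units of the endomorphism ring of the additive version -/
def autUnit : MulAut M →* (AddMonoid.End (Additive M))ˣ where
  toFun f :=
    { val := MonoidHom.toAdditive f.toMonoidHom
      inv := MonoidHom.toAdditive f.symm.toMonoidHom
      val_inv := by
        ext m
        show Additive.ofMul (f (f.symm (Additive.toMul m))) = m
        rw [MulEquiv.apply_symm_apply]; rfl
      inv_val := by
        ext m
        show Additive.ofMul (f.symm (f (Additive.toMul m))) = m
        rw [MulEquiv.symm_apply_apply]; rfl }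
  map_one' := by
    ext m
    rfl
  map_mul' f g := by
    ext m
    rfl

theorem autUnit_apply (f : MulAut M) (m : M) :
    ((autUnit f : (AddMonoid.End (Additive M))ˣ) : AddMonoid.End (Additive M)) (Additive.ofMul m) =
      Additive.ofMul (f m) := rfl

theorem autUnit_injective : Function.Injective (autUnit (M := M)) := by
  intro f g h
  ext m
  have := congrArg (fun u : (AddMonoid.End (Additive M))ˣ =>
    ((u : AddMonoid.End (Additive M)) (Additive.ofMul m))) h
  simp only [autUnit_apply] at this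
  exact Additive.ofMul.injective this

theorem sub_one_pow_apply (f : MulAut M) (n : ℕ) (m : M) :
    ((((autUnit f : (AddMonoid.End (Additive M))ˣ) : AddMonoid.End (Additive M)) - 1) ^ n)
      (Additive.ofMul m) = Additive.ofMul (engel f n m) := by
  induction n with
  | zero => rfl
  | succ n ih =>
    rw [pow_succ']
    show ((((autUnit f : (AddMonoid.End (Additive M))ˣ) : AddMonoid.End (Additive M)) - 1))
      (((((autUnit f : (AddMonoid.End (Additive M))ˣ) : AddMonoid.End (Additive M)) - 1) ^ n)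
        (Additive.ofMul m)) = _
    rw [ih]
    show ((autUnit f : (AddMonoid.End (Additive M))ˣ) : AddMonoid.End (Additive M))
      (Additive.ofMul (engel f n m)) - Additive.ofMul (engel f n m) = _
    rw [autUnit_apply]
    rfl


/-- **Hall–Higman for abelian `p'`-groups, Engel form.** Let the finite group `Γ` act on the finite abelian
`p`-group `M`, let `A` be a normal subgroup acting as an abelian group of order prime to `p`, and `g` a `p`-element
with `[M, g, …, g] = 1` (`p - 1` entries).  Then `g` commutes with `A` in the action. -/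
theorem engel_commute {Γ : Type*} [Group Γ] [Finite Γ] [Finite M] (φ : Γ →* MulAut M)
    {p : ℕ} (hp : p.Prime) (hM : IsPGroup p M) (A : Subgroup Γ) (hAn : A.Normal)
    (hAab : ∀ a ∈ A, ∀ b ∈ A, φ (a * b) = φ (b * a))
    (hAcop : (Nat.card (A.map φ)).Coprime p)
    (g : Γ) (hgp : ∃ j : ℕ, g ^ p ^ j = 1)
    (hE : ∀ m : M, engel (φ g) (p - 1) m = 1) :
    ∀ a ∈ A, φ (g * a) = φ (a * g) := by
  classical
  obtain ⟨Ψ, hΨ⟩ : ∃ Ψ : Γ →* (AddMonoid.End (Additive M))ˣ, Ψ = autUnit.comp φ := ⟨_, rfl⟩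
  obtain ⟨𝒜, h𝒜⟩ : ∃ 𝒜 : Subgroup (AddMonoid.End (Additive M))ˣ, 𝒜 = A.map Ψ := ⟨_, rfl⟩
  haveI : Finite 𝒜 := by
    rw [h𝒜]
    exact Finite.of_surjective (fun a : A => (⟨Ψ a, ⟨a, a.2, rfl⟩⟩ : A.map Ψ))
      (by rintro ⟨_, ⟨a, ha, rfl⟩⟩; exact ⟨⟨a, ha⟩, rfl⟩)
  have hab : ∀ a ∈ 𝒜, ∀ b ∈ 𝒜, a * b = b * a := by
    rw [h𝒜]
    rintro _ ⟨a, ha, rfl⟩ _ ⟨b, hb, rfl⟩
    rw [← map_mul, ← map_mul, hΨ, MonoidHom.comp_apply, MonoidHom.comp_apply, hAab a ha b hb]
  have hγ : ∀ a ∈ 𝒜, Ψ g * a * (Ψ g)⁻¹ ∈ 𝒜 := by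
    rw [h𝒜]
    rintro _ ⟨a, ha, rfl⟩
    refine ⟨g * a * g⁻¹, hAn.conj_mem a ha g, ?_⟩
    rw [map_mul, map_mul, map_inv]
  have hN : (((Ψ g : (AddMonoid.End (Additive M))ˣ) : AddMonoid.End (Additive M)) - 1) ^ (p - 1) = 0 := by
    ext m
    rw [hΨ, MonoidHom.comp_apply]
    have := sub_one_pow_apply (φ g) (p - 1) (Additive.toMul m)
    rw [hE] at this
    exact this
  have hcard : Nat.card 𝒜 = Nat.card (A.map φ) := by
    rw [h𝒜, hΨ, ← Subgroup.map_map]
    exact Subgroup.card_map_of_injective autUnit_injective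
  have hinj : ∀ e : AddMonoid.End (Additive M),
      (Nat.card 𝒜 : AddMonoid.End (Additive M)) * e = 0 → e = 0 := by
    intro e he
    ext m
    have h1 : ((Nat.card 𝒜 : AddMonoid.End (Additive M)) * e) m = 0 := by rw [he]; rfl
    have h2 : Nat.card 𝒜 • (e m) = 0 := by
      have : ((Nat.card 𝒜 : AddMonoid.End (Additive M)) * e) m = Nat.card 𝒜 • (e m) := by
        simp [AddMonoid.End.natCast_apply]
      rw [← this]; exact h1
    -- the order of `e m` is a power of `p`
    obtain ⟨k, hk⟩ := hM (Additive.toMul (e m))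
    have h3 : (p ^ k) • (e m) = 0 := by
      have : Additive.ofMul ((Additive.toMul (e m)) ^ p ^ k) = (p ^ k) • (e m) := rfl
      rw [← this, hk]; rfl
    have hc : Nat.Coprime (Nat.card 𝒜) (p ^ k) := by
      rw [hcard]; exact Nat.Coprime.pow_right k hAcop
    have h4 : (1 : ℕ) • (e m) = 0 := by
      have h5 := addOrderOf_dvd_of_nsmul_eq_zero h2
      have h6 := addOrderOf_dvd_of_nsmul_eq_zero h3
      have h7 : addOrderOf (e m) ∣ 1 := by
        have := Nat.dvd_gcd h5 h6
        rwa [hc.gcd_eq_one] at this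
      exact addOrderOf_dvd_iff_nsmul_eq_zero.mp h7
    rw [one_nsmul] at h4
    exact h4
  have hkey := avg_key 𝒜 hab (Ψ g) hγ (p - 1) hN hinj
  intro a ha
  obtain ⟨j, hj⟩ := hgp
  have hcop : Nat.Coprime (p - 1).factorial (p ^ j) := by
    apply Nat.Coprime.pow_right
    apply Nat.Coprime.symm
    rw [Nat.Prime.coprime_iff_not_dvd hp, Nat.Prime.dvd_factorial hp]
    have := hp.one_lt
    omega
  have hmem : Ψ g ∈ Subgroup.centralizer ({Ψ a} : Set (AddMonoid.End (Additive M))ˣ) := by
    apply mem_of_pow_mem_of_coprime _ hcop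
    · rw [Subgroup.mem_centralizer_singleton_iff]
      exact hkey (Ψ a) (by rw [h𝒜]; exact ⟨a, ha, rfl⟩)
    · rw [← map_pow, hj, map_one]; exact Subgroup.one_mem _
  rw [Subgroup.mem_centralizer_singleton_iff] at hmem
  have h1 : Ψ (g * a) = Ψ (a * g) := by rw [map_mul, map_mul]; exact hmem
  rw [hΨ, MonoidHom.comp_apply, MonoidHom.comp_apply] at h1
  exact autUnit_injective h1

end lin

end Cfsg.Agent.Lib.Helper7.Eng
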