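import Mathlib
import Cfsg.Agent.Lib.Helper7.EngB
import Cfsg.Agent.H1.PQ
import Cfsg.Agent.H1.ThompsonNPC
import Cfsg.Prelude.Def_PLocal

set_option autoImplicit false
set_option linter.style.haveILetI false
set_option linter.unusedVariables false
set_option linter.unusedSectionVars false

open scoped commutatorElement IsMulCommutative

namespace Cfsg.Agent.Lib.Helper7.Eng

open Cfsg Cfsg.Agent.Lib.Helper7.ThA

universe u

section minimal
variable {Y : Type u} [Group Y] [Finite Y] {p : ℕ} [Fact p.Prime]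

theorem engel_mem_iter (M : Subgroup Y) [hMn : M.Normal] [IsMulCommutative ↥M] (g : Y) :
    ∀ (i : ℕ) (m : ↥M), ((engel (MulAut.conjNormal g : MulAut ↥M) i m : ↥M) : Y) ∈
      Cfsg.iterCommutator M (Subgroup.zpowers g) i := by
  intro i
  induction i with
  | zero => intro m; exact m.2
  | succ i ih =>
    intro m
    have h1 := ih m
    show ((((MulAut.conjNormal g : MulAut ↥M) (engel (MulAut.conjNormal g : MulAut ↥M) i m)) /
      engel (MulAut.conjNormal g : MulAut ↥M) i m : ↥M) : Y) ∈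
      ⁅Cfsg.iterCommutator M (Subgroup.zpowers g) i, Subgroup.zpowers g⁆
    rw [Subgroup.coe_div, MulAut.conjNormal_apply, div_eq_mul_inv, Subgroup.commutator_comm]
    have := Subgroup.commutator_mem_commutator (Subgroup.mem_zpowers g) h1
    rw [commutatorElement_def] at this
    exact this


/-- a normal `p`-subgroup centralises a minimal normal `p`-subgroup -/
theorem centralizes_of_minimal (M : Subgroup Y) [hMn : M.Normal] (hMp : IsPGroup p ↥M) (hMne : M ≠ ⊥)
    (hMmin : ∀ N : Subgroup Y, N.Normal → N ≤ M → N = ⊥ ∨ N = M)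
    (H : Subgroup Y) [hHn : H.Normal] (hHp : IsPGroup p ↥H) :
    H ≤ Subgroup.centralizer (M : Set Y) := by
  have hlt : ⁅M, H⁆ < M := Cfsg.Agent.H1.commutator_lt_of_pgroup M H hMp hHp
    (by rw [Subgroup.normalizer_eq_top]; exact le_top) hMne
  have hn : (⁅M, H⁆).Normal := inferInstance
  rcases hMmin _ hn hlt.le with h | h
  · rw [Subgroup.commutator_comm] at h
    exact Subgroup.commutator_eq_bot_iff_le_centralizer.mp h
  · exact absurd h hlt.ne

/-- **Key lemma.** In a group with a normal series `1 ≤ H ≤ A ≤ Y`, `H` a `p`-group, `A / H` abelian of order prime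
to `p` and `Y / A` a `p`-group, a `p`-element satisfying the `(p-1)`-Engel condition on a minimal normal
`p`-subgroup `M` centralises `M`. -/
theorem engel_centralizes (M : Subgroup Y) [hMn : M.Normal] (hMp : IsPGroup p ↥M) (hMne : M ≠ ⊥)
    (hMmin : ∀ N : Subgroup Y, N.Normal → N ≤ M → N = ⊥ ∨ N = M)
    (H A : Subgroup Y) [hHn : H.Normal] [hAn : A.Normal] (hHp : IsPGroup p ↥H) (hHA : H ≤ A)
    (hcop : (H.relIndex A).Coprime p) (hab : ⁅A, A⁆ ≤ H) (hidx : ∃ k : ℕ, A.index = p ^ k)
    (g : Y) (hgp : ∃ j : ℕ, g ^ p ^ j = 1)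
    (hE : Cfsg.iterCommutator M (Subgroup.zpowers g) (p - 1) = ⊥) :
    ⁅M, Subgroup.zpowers g⁆ = ⊥ := by
  have hp : p.Prime := Fact.out
  -- `M` is abelian
  have hMM : M ≤ Subgroup.centralizer (M : Set Y) := centralizes_of_minimal M hMp hMne hMmin M hMp
  haveI hMc : IsMulCommutative ↥M := ⟨⟨fun a b => by
    apply Subtype.ext
    have := Subgroup.mem_centralizer_iff.mp (hMM a.2) b b.2
    rw [Subgroup.coe_mul, Subgroup.coe_mul]
    exact this.symm⟩⟩
  have hHC : H ≤ Subgroup.centralizer (M : Set Y) := centralizes_of_minimal M hMp hMne hMmin H hHp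
  obtain ⟨φ, hφ⟩ : ∃ φ : Y →* MulAut ↥M, φ = MulAut.conjNormal := ⟨_, rfl⟩
  have hφapp : ∀ (y : Y) (m : ↥M), ((φ y m : ↥M) : Y) = y * m * y⁻¹ := by
    intro y m; rw [hφ]; exact MulAut.conjNormal_apply y m
  have hker : ∀ y : Y, φ y = 1 ↔ y ∈ Subgroup.centralizer (M : Set Y) := by
    intro y
    constructor
    · intro h
      rw [Subgroup.mem_centralizer_iff]
      intro m hm
      have h1 := hφapp y ⟨m, hm⟩
      rw [h, MulAut.one_apply] at h1
      simp only at h1
      conv_lhs => rw [h1]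
      group
    · intro h
      ext m
      rw [hφapp, MulAut.one_apply]
      have := Subgroup.mem_centralizer_iff.mp h m m.2
      rw [← this]; group
  have hφeq : ∀ x y : Y, x * y⁻¹ ∈ Subgroup.centralizer (M : Set Y) → φ x = φ y := by
    intro x y h
    have := (hker _).mpr h
    rw [map_mul, map_inv, mul_inv_eq_one] at this
    exact this
  have hAab : ∀ a ∈ A, ∀ b ∈ A, φ (a * b) = φ (b * a) := by
    intro a ha b hb
    apply hφeq
    apply hHC
    apply hab
    have : a * b * (b * a)⁻¹ = ⁅a, b⁆ := by rw [commutatorElement_def]; group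
    rw [this]
    exact Subgroup.commutator_mem_commutator ha hb
  have hAcop : (Nat.card (A.map φ)).Coprime p := by
    have h1 : φ.ker.relIndex A = Nat.card (A.map φ) := Subgroup.relIndex_ker (K := A) φ
    have h2 : H ≤ φ.ker := by
      intro h hh
      rw [MonoidHom.mem_ker, hker]
      exact hHC hh
    have h3 : φ.ker.relIndex A ∣ H.relIndex A := Subgroup.relIndex_dvd_of_le_left A h2
    rw [← h1]
    exact Nat.Coprime.coprime_dvd_left h3 hcop
  have hEng : ∀ m : ↥M, engel (φ g) (p - 1) m = 1 := by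
    intro m
    have := engel_mem_iter M g (p - 1) m
    rw [hE, Subgroup.mem_bot] at this
    rw [hφ]
    exact Subtype.ext this
  have hlin := engel_commute φ hp hMp A hAn hAab hAcop g hgp hEng
  -- consequence: `[a, g']` centralises `M` for every conjugate `g'` of `g` and every `a ∈ A`
  have hcomm : ∀ a ∈ A, a * g * a⁻¹ * g⁻¹ ∈ Subgroup.centralizer (M : Set Y) := by
    intro a ha
    rw [← hker]
    have := hlin a ha
    rw [map_mul, map_mul] at this
    rw [map_mul, map_mul, map_mul, map_inv, map_inv, ← this]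
    group
  haveI hCn : (Subgroup.centralizer (M : Set Y)).Normal := Subgroup.normal_centralizer
  have hcomm' : ∀ s : Y, ∀ a ∈ A, a * (s * g * s⁻¹) * a⁻¹ * (s * g * s⁻¹)⁻¹ ∈
      Subgroup.centralizer (M : Set Y) := by
    intro s a ha
    have h1 : s⁻¹ * a * s ∈ A := by
      have := hAn.conj_mem a ha s⁻¹
      rwa [inv_inv] at this
    have h2 := hcomm _ h1
    have h3 := hCn.conj_mem _ h2 s
    have e : a * (s * g * s⁻¹) * a⁻¹ * (s * g * s⁻¹)⁻¹ =
        s * (s⁻¹ * a * s * g * (s⁻¹ * a * s)⁻¹ * g⁻¹) * s⁻¹ := by group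
    rw [e]; exact h3
  -- a Sylow subgroup containing `g`
  have hgP : IsPGroup p ↥(Subgroup.zpowers g) := by
    obtain ⟨j, hj⟩ := hgp
    rw [IsPGroup]
    rintro ⟨x, hx⟩
    obtain ⟨i, rfl⟩ := Subgroup.mem_zpowers_iff.mp hx
    refine ⟨j, ?_⟩
    apply Subtype.ext
    rw [Subgroup.coe_pow, Subgroup.coe_one]
    simp only
    rw [← zpow_natCast, ← zpow_mul, mul_comm, zpow_mul, zpow_natCast, hj, one_zpow]
  obtain ⟨S, hS⟩ := hgP.exists_le_sylow
  have hgS : g ∈ (S : Subgroup Y) := hS (Subgroup.mem_zpowers g)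
  have htop : A ⊔ (S : Subgroup Y) = ⊤ := by
    obtain ⟨k, hk⟩ := hidx
    have h1 : (A ⊔ (S : Subgroup Y)).index ∣ A.index := Subgroup.index_dvd_of_le le_sup_left
    have h2 : (A ⊔ (S : Subgroup Y)).index ∣ (S : Subgroup Y).index := Subgroup.index_dvd_of_le le_sup_right
    have h3 : ¬ p ∣ (S : Subgroup Y).index := S.not_dvd_index
    rw [hk, Nat.dvd_prime_pow hp] at h1
    obtain ⟨j, -, hj⟩ := h1
    rcases Nat.eq_zero_or_pos j with h0 | h0
    · rw [h0, pow_zero] at hj
      exact Subgroup.index_eq_one.mp hj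
    · exfalso
      apply h3
      exact dvd_trans (by rw [hj]; exact dvd_pow_self p h0.ne') h2
  -- the `S`-normal closure of `g`
  obtain ⟨D₀, hD₀⟩ : ∃ D₀ : Subgroup Y, D₀ = Subgroup.closure {x | ∃ s ∈ (S : Subgroup Y), x = s * g * s⁻¹} :=
    ⟨_, rfl⟩
  have hD₀S : D₀ ≤ (S : Subgroup Y) := by
    rw [hD₀, Subgroup.closure_le]
    rintro _ ⟨s, hs, rfl⟩
    exact Subgroup.mul_mem _ (Subgroup.mul_mem _ hs hgS) (Subgroup.inv_mem _ hs)
  have hD₀p : IsPGroup p ↥D₀ := S.isPGroup'.to_le hD₀S
  have hMD : IsPGroup p ↥(M ⊔ D₀ : Subgroup Y) := by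
    rw [sup_comm]
    exact IsPGroup.to_sup_of_normal_right' hD₀p hMp (by rw [Subgroup.normalizer_eq_top]; exact le_top)
  obtain ⟨y, hyM, hyC, -, hy1⟩ := Cfsg.Agent.H1.exists_central_order_p hMD (le_sup_left : M ≤ M ⊔ D₀)
    (by rw [Subgroup.normalizer_eq_top]; exact le_top) hMne
  -- `y` commutes with every conjugate of `g`
  have hyconj : ∀ t : Y, (t * g * t⁻¹) * y = y * (t * g * t⁻¹) := by
    intro t
    have ht : t ∈ A ⊔ (S : Subgroup Y) := by rw [htop]; exact Subgroup.mem_top t
    obtain ⟨a, ha, s, hs, rfl⟩ := (Cfsg.Agent.H1.mem_sup_of_le_normalizer A (S : Subgroup Y)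
      (by rw [Subgroup.normalizer_eq_top]; exact le_top)).mp ht
    obtain ⟨w, hwdef⟩ : ∃ w : Y, w = s * g * s⁻¹ := ⟨_, rfl⟩
    have hwD : w ∈ D₀ := by
      rw [hD₀, hwdef]; exact Subgroup.subset_closure ⟨s, hs, rfl⟩
    have h1 : w * y = y * w :=
      Subgroup.mem_centralizer_iff.mp hyC w (Subgroup.mem_sup_right hwD)
    obtain ⟨c, hcdef⟩ : ∃ c : Y, c = a * w * a⁻¹ * w⁻¹ := ⟨_, rfl⟩
    have hc : c ∈ Subgroup.centralizer (M : Set Y) := by
      rw [hcdef, hwdef]; exact hcomm' s a ha
    have h2 : y * c = c * y := Subgroup.mem_centralizer_iff.mp hc y hyM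
    have e : a * s * g * (a * s)⁻¹ = c * w := by rw [hcdef, hwdef]; group
    rw [e, mul_assoc, h1, ← mul_assoc, ← h2, mul_assoc]
  -- the fixed points of the normal closure of `g`
  obtain ⟨D, hD⟩ : ∃ D : Subgroup Y, D = Subgroup.normalClosure ({g} : Set Y) := ⟨_, rfl⟩
  haveI hDn : D.Normal := by rw [hD]; exact Subgroup.normalClosure_normal
  haveI hCDn : (Subgroup.centralizer (D : Set Y)).Normal := Subgroup.normal_centralizer
  have hyD : y ∈ Subgroup.centralizer (D : Set Y) := by
    have hle : D ≤ Subgroup.centralizer ({y} : Set Y) := by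
      rw [hD, Subgroup.normalClosure, Subgroup.closure_le]
      intro x hx
      rw [Group.mem_conjugatesOfSet_iff] at hx
      obtain ⟨g', hg', hconj⟩ := hx
      rw [Set.mem_singleton_iff] at hg'
      rw [hg', isConj_iff] at hconj
      obtain ⟨t, rfl⟩ := hconj
      rw [SetLike.mem_coe, Subgroup.mem_centralizer_singleton_iff]
      exact hyconj t
    rw [Subgroup.mem_centralizer_iff]
    intro d hd
    have := hle hd
    rw [Subgroup.mem_centralizer_singleton_iff] at this
    exact this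
  have hFn : (M ⊓ Subgroup.centralizer (D : Set Y)).Normal := inferInstance
  rcases hMmin _ hFn inf_le_left with h | h
  · exfalso
    apply hy1
    have : y ∈ M ⊓ Subgroup.centralizer (D : Set Y) := Subgroup.mem_inf.mpr ⟨hyM, hyD⟩
    rw [h, Subgroup.mem_bot] at this
    exact this
  · have hMD' : M ≤ Subgroup.centralizer (D : Set Y) := by
      rw [← h]; exact inf_le_right
    have hgD : Subgroup.zpowers g ≤ D := by
      rw [Subgroup.zpowers_le, hD]
      exact Subgroup.subset_normalClosure (Set.mem_singleton g)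
    rw [Subgroup.commutator_eq_bot_iff_le_centralizer]
    exact hMD'.trans (Subgroup.centralizer_le (SetLike.coe_subset_coe.mpr hgD))

end minimal

end Cfsg.Agent.Lib.Helper7.Eng
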