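import Mathlib
import Cfsg.Agent.Lib.Helper7.EngC
import Cfsg.Prelude.Def_LocalEven

set_option autoImplicit false
set_option linter.style.haveILetI false
set_option linter.unusedVariables false
set_option linter.unusedSectionVars false

open scoped commutatorElement

namespace Cfsg.Agent.Lib.Helper7.Eng

open Cfsg

universe u

section chief
variable {Y : Type u} [Group Y] [Finite Y] {p : ℕ} [Fact p.Prime]

theorem iterCommutator_map {Z : Type*} [Group Z] (f : Y →* Z) (U G : Subgroup Y) (n : ℕ) :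
    (Cfsg.iterCommutator U G n).map f = Cfsg.iterCommutator (U.map f) (G.map f) n := by
  induction n with
  | zero => rfl
  | succ n ih =>
    show (⁅Cfsg.iterCommutator U G n, G⁆).map f = ⁅Cfsg.iterCommutator (U.map f) (G.map f) n, G.map f⁆
    rw [Subgroup.map_commutator, ih]

/-- **Key lemma, chief factor form.** -/
theorem chief_engel_false (U V : Subgroup Y) (hUV : Cfsg.IsChiefFactor U V)
    (H A : Subgroup Y) [hHn : H.Normal] [hAn : A.Normal] (hHp : IsPGroup p ↥H) (hUH : U ≤ H) (hHA : H ≤ A)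
    (hcop : (H.relIndex A).Coprime p) (hab : ⁅A, A⁆ ≤ H) (hidx : ∃ k : ℕ, A.index = p ^ k)
    (g : Y) (hgp : ∃ j : ℕ, g ^ p ^ j = 1)
    (hE : Cfsg.iterCommutator U (Subgroup.zpowers g) (p - 1) ≤ V)
    (hne : ¬ ⁅U, Subgroup.zpowers g⁆ ≤ V) : False := by
  obtain ⟨hVU, hUn, hVn, hmin⟩ := hUV
  haveI := hVn
  haveI := hUn
  obtain ⟨π, hπ⟩ : ∃ π : Y →* Y ⧸ V, π = QuotientGroup.mk' V := ⟨_, rfl⟩
  have hπs : Function.Surjective π := by rw [hπ]; exact QuotientGroup.mk'_surjective V
  have hπ1 : ∀ x : Y, π x = 1 ↔ x ∈ V := by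
    intro x; rw [hπ, QuotientGroup.mk'_apply, QuotientGroup.eq_one_iff]
  have hπk : π.ker = V := by
    ext x; rw [MonoidHom.mem_ker, hπ1]
  have hVH : V ≤ H := hVU.le.trans hUH
  have hle_of_map : ∀ L : Subgroup Y, L.map π = ⊥ → L ≤ V := by
    intro L hL x hx
    rw [← hπ1]
    have : π x ∈ L.map π := ⟨x, hx, rfl⟩
    rw [hL, Subgroup.mem_bot] at this
    exact this
  have hmap_bot : ∀ L : Subgroup Y, L ≤ V → L.map π = ⊥ := by
    intro L hL
    rw [eq_bot_iff]
    rintro _ ⟨x, hx, rfl⟩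
    rw [Subgroup.mem_bot, hπ1]
    exact hL hx
  haveI hMn : (U.map π).Normal := hUn.map π hπs
  haveI hHbn : (H.map π).Normal := hHn.map π hπs
  haveI hAbn : (A.map π).Normal := hAn.map π hπs
  have hMp : IsPGroup p ↥(U.map π) := (hHp.to_le hUH).map π
  have hMne : U.map π ≠ ⊥ := by
    intro h
    exact absurd (hle_of_map U h) (not_le_of_gt hVU)
  have hMmin : ∀ N : Subgroup (Y ⧸ V), N.Normal → N ≤ U.map π → N = ⊥ ∨ N = U.map π := by
    intro N hN hNM
    have h1 : (N.comap π).Normal := hN.comap π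
    have h2 : V ≤ N.comap π := by
      intro x hx
      rw [Subgroup.mem_comap, (hπ1 x).mpr hx]
      exact N.one_mem
    have h3 : N.comap π ≤ U := by
      intro x hx
      obtain ⟨u, hu, hux⟩ := hNM hx
      have h4 : u⁻¹ * x ∈ V := by
        rw [← hπ1, map_mul, map_inv, hux, inv_mul_cancel]
      have e : x = u * (u⁻¹ * x) := by group
      rw [e]; exact U.mul_mem hu (hVU.le h4)
    have h5 : N = (N.comap π).map π := (Subgroup.map_comap_eq_self_of_surjective hπs N).symm
    rcases hmin _ h1 h2 h3 with h | h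
    · left
      rw [h5, h]
      exact hmap_bot V le_rfl
    · right
      rw [h5, h]
  have hHbp : IsPGroup p ↥(H.map π) := hHp.map π
  have hHAb : H.map π ≤ A.map π := Subgroup.map_mono hHA
  have hcopb : ((H.map π).relIndex (A.map π)).Coprime p := by
    rw [Subgroup.relIndex_map_map, hπk, sup_eq_left.mpr hVH, sup_eq_left.mpr (hVH.trans hHA)]
    exact hcop
  have habb : ⁅A.map π, A.map π⁆ ≤ H.map π := by
    rw [← Subgroup.map_commutator]; exact Subgroup.map_mono hab
  have hidxb : ∃ k : ℕ, (A.map π).index = p ^ k := by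
    obtain ⟨k, hk⟩ := hidx
    refine ⟨k, ?_⟩
    have h1 : π.ker ≤ A := by rw [hπk]; exact hVH.trans hHA
    rw [Subgroup.index_map_eq A hπs h1, hk]
  have hgpb : ∃ j : ℕ, (π g) ^ p ^ j = 1 := by
    obtain ⟨j, hj⟩ := hgp
    exact ⟨j, by rw [← map_pow, hj, map_one]⟩
  have hEb : Cfsg.iterCommutator (U.map π) (Subgroup.zpowers (π g)) (p - 1) = ⊥ := by
    rw [← MonoidHom.map_zpowers, ← iterCommutator_map]
    exact hmap_bot _ hE
  have hfin := engel_centralizes (U.map π) hMp hMne hMmin (H.map π) (A.map π) hHbp hHAb hcopb habb hidxb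
    (π g) hgpb hEb
  rw [← MonoidHom.map_zpowers, ← Subgroup.map_commutator] at hfin
  exact hne (hle_of_map _ hfin)

end chief

end Cfsg.Agent.Lib.Helper7.Eng
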