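import Mathlib
import Cfsg.Agent.Lib.Helper7.EssChainB
import Cfsg.Agent.H2.UniqueOrderP

set_option autoImplicit false

namespace Cfsg.Agent.Lib.Helper7.EssChain

open scoped commutatorElement

theorem mem_zpowers_four {H : Type*} [Group H] {a y : H} (ha : a ^ 4 = 1)
    (hy : y ∈ Subgroup.zpowers a) : y = 1 ∨ y = a ∨ y = a ^ 2 ∨ y = a ^ 3 := by
  obtain ⟨k, hk⟩ := hy
  have hk' : a ^ k = y := hk
  rw [← hk']
  have h4 : a ^ (4 : ℤ) = 1 := by exact_mod_cast ha
  rw [zpow_eq_zpow_emod k h4]
  have h1 : 0 ≤ k % 4 := Int.emod_nonneg _ (by norm_num)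
  have h2 : k % 4 < 4 := Int.emod_lt_of_pos _ (by norm_num)
  obtain ⟨n, hn⟩ := Int.eq_ofNat_of_zero_le h1
  rw [hn] at h2 ⊢
  have h3 : n < 4 := by exact_mod_cast h2
  rw [zpow_natCast]
  interval_cases n
  · left; simp
  · right; left; simp
  · right; right; left; rfl
  · right; right; right; rfl

variable {H : Type*} [Group H] [Finite H]

/-- A nonabelian group of order `8` is quaternion or has a characteristic chain. -/
theorem quaternion_or_hasChain3 (hH : Nat.card H = 2 ^ 3) (hna : ¬ ∀ a b : H, a * b = b * a) :
    Nonempty (H ≃* QuaternionGroup 2) ∨ HasChain3 2 H := by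
  have : Fact (Nat.Prime 2) := ⟨Nat.prime_two⟩
  have hHp : IsPGroup 2 H := IsPGroup.of_card hH
  have hZ := card_center_of_nonab 2 hH hna
  by_cases huniq : ∀ T₁ T₂ : Subgroup H, Nat.card T₁ = 2 → Nat.card T₂ = 2 → T₁ = T₂
  · left
    rcases Cfsg.Agent.H2.UOP.main 2 hHp huniq with hc | ⟨-, n, ⟨e⟩⟩
    · exfalso
      apply hna
      intro a b
      exact (IsCyclic.isMulCommutative (α := H)).is_comm.comm a b
    · have h1 := Nat.card_congr e.toEquiv
      have : NeZero (2 ^ n) := ⟨by positivity⟩
      rw [hH, Nat.card_eq_fintype_card, QuaternionGroup.card] at h1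
      have h2 : 2 ^ n = 2 ^ 1 := by omega
      have h3 : n = 1 := Nat.pow_right_injective (le_refl 2) h2
      subst h3
      exact ⟨e⟩
  · right
    push Not at huniq
    obtain ⟨T₁, T₂, hT₁, hT₂, hne⟩ := huniq
    -- an involution outside the centre
    have hex : ∃ T : Subgroup H, Nat.card T = 2 ∧ T ≠ Subgroup.center H := by
      by_cases h1 : T₁ = Subgroup.center H
      · exact ⟨T₂, hT₂, fun h2 => hne (h1.trans h2.symm)⟩
      · exact ⟨T₁, hT₁, h1⟩
    obtain ⟨T, hT, hTZ⟩ := hex
    have hTnt : Nontrivial T := by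
      rw [← Finite.one_lt_card_iff_nontrivial, hT]; norm_num
    obtain ⟨t, ht1⟩ := exists_ne (1 : T)
    have ht2 : (t : H) ^ 2 = 1 := by
      have := pow_card_eq_one' (G := T) (x := t)
      rw [hT] at this
      exact congrArg (fun z : T => (z : H)) this
    have ht1' : (t : H) ≠ 1 := fun h => ht1 (Subtype.ext h)
    have hordt : orderOf (t : H) = 2 := orderOf_eq_prime ht2 ht1'
    have htZ : (t : H) ∉ Subgroup.center H := by
      intro htz
      apply hTZ
      have e1 : Subgroup.zpowers (t : H) = T := by
        apply Subgroup.eq_of_le_of_card_ge (Subgroup.zpowers_le.mpr t.2)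
        rw [Nat.card_zpowers, hordt, hT]
      have e2 : Subgroup.zpowers (t : H) = Subgroup.center H := by
        apply Subgroup.eq_of_le_of_card_ge (Subgroup.zpowers_le.mpr htz)
        rw [Nat.card_zpowers, hordt, hZ]
      rw [← e1, e2]
    -- an element of order 4
    have hexa : ∃ a : H, a ^ 2 ≠ 1 := by
      by_contra hcon
      push Not at hcon
      apply hna
      intro x y
      have hinv : ∀ z : H, z⁻¹ = z := fun z => by
        rw [inv_eq_iff_mul_eq_one, ← pow_two]; exact hcon z
      calc x * y = (x * y)⁻¹ := (hinv _).symm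
        _ = y⁻¹ * x⁻¹ := mul_inv_rev x y
        _ = y * x := by rw [hinv, hinv]
    obtain ⟨a, ha2⟩ := hexa
    have ha2Z : a ^ 2 ∈ Subgroup.center H := pow_mem_center_of_nonab 2 hH hna a
    have ha4 : a ^ 4 = 1 := by
      have := pow_eq_one_of_mem_center_of_nonab 2 hH hna ha2Z
      rw [← pow_mul] at this
      exact this
    have horda : orderOf a = 4 := by
      have := orderOf_eq_prime_pow (p := 2) (n := 1) (x := a) (by simpa using ha2) (by simpa using ha4)
      simpa using this
    have hA : Nat.card (Subgroup.zpowers a) = 4 := by rw [Nat.card_zpowers, horda]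
    have hAidx : (Subgroup.zpowers a).index = 2 := by
      have := (Subgroup.zpowers a).card_mul_index
      rw [hA, hH] at this
      omega
    have hAn : (Subgroup.zpowers a).Normal := Subgroup.normal_of_index_eq_two hAidx
    have ha2c : ∀ g : H, g * a ^ 2 = a ^ 2 * g := fun g => Subgroup.mem_center_iff.mp ha2Z g
    have hZA : Subgroup.center H ≤ Subgroup.zpowers a := by
      have e2 : Subgroup.zpowers (a ^ 2) = Subgroup.center H := by
        apply Subgroup.eq_of_le_of_card_ge (Subgroup.zpowers_le.mpr ha2Z)
        rw [Nat.card_zpowers, hZ]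
        have : orderOf (a ^ 2) = 2 := orderOf_eq_prime (by rw [← pow_mul]; exact ha4) ha2
        rw [this]
      rw [← e2]
      exact Subgroup.zpowers_le.mpr (Subgroup.pow_mem _ (Subgroup.mem_zpowers a) 2)
    have htA : (t : H) ∉ Subgroup.zpowers a := by
      intro h
      rcases mem_zpowers_four ha4 h with h | h | h | h
      · exact ht1' h
      · rw [h] at ht2; exact ha2 ht2
      · rw [h] at htZ; exact htZ ha2Z
      · rw [h, ← pow_mul] at ht2
        have : a ^ (3 * 2) = a ^ 4 * a ^ 2 := by rw [← pow_add]
        rw [this, ha4, one_mul] at ht2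
        exact ha2 ht2
    -- decomposition into cosets
    have hdecomp : ∀ h : H, h ∉ Subgroup.zpowers a → (t : H)⁻¹ * h ∈ Subgroup.zpowers a := by
      intro h hh
      rw [Subgroup.mul_mem_iff_of_index_two hAidx]
      constructor
      · intro h1; exact absurd ((Subgroup.inv_mem_iff _).mp h1) htA
      · intro h1; exact absurd h1 hh
    -- t inverts a
    have hinv : (t : H) * a * (t : H)⁻¹ = a ^ 3 := by
      have hmem : (t : H) * a * (t : H)⁻¹ ∈ Subgroup.zpowers a := hAn.conj_mem a (Subgroup.mem_zpowers a) t
      rcases mem_zpowers_four ha4 hmem with h | h | h | h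
      · exfalso
        have : a = 1 := by
          have := congrArg (fun z => (t : H)⁻¹ * z * (t : H)) h
          simpa [mul_assoc] using this
        rw [this, one_pow] at ha2
        exact ha2 rfl
      · exfalso
        -- t commutes with a, so a is central
        have hta : (t : H) * a = a * (t : H) := by
          have := congrArg (fun z => z * (t : H)) h
          simpa [mul_assoc] using this
        have haZ : a ∈ Subgroup.center H := by
          rw [Subgroup.mem_center_iff]
          intro g
          by_cases hg : g ∈ Subgroup.zpowers a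
          · obtain ⟨k, rfl⟩ := hg
            exact (Commute.zpow_left (Commute.refl a) k).eq
          · obtain ⟨k, hk⟩ := hdecomp g hg
            have hk' : a ^ k = (t : H)⁻¹ * g := hk
            have hgk : g = (t : H) * a ^ k := by rw [hk']; group
            rw [hgk]
            have c1 : Commute (a ^ k) a := Commute.zpow_left (Commute.refl a) k
            have c2 : Commute (t : H) a := hta
            exact (c2.mul_left c1).eq
        have := pow_eq_one_of_mem_center_of_nonab 2 hH hna haZ
        exact ha2 this
      · exfalso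
        have h1 : ((t : H) * a * (t : H)⁻¹) ^ 2 = (t : H) * a ^ 2 * (t : H)⁻¹ := by
          rw [conj_pow]
        rw [h, ha2c, mul_inv_cancel_right, ← pow_mul] at h1
        rw [show (2 * 2) = 4 from rfl, ha4] at h1
        exact ha2 h1.symm
      · exact h
    have ha3 : a ^ 3 = a⁻¹ := by
      rw [eq_inv_iff_mul_eq_one, ← pow_succ]
      exact ha4
    rw [ha3] at hinv
    have hinvk : ∀ c ∈ Subgroup.zpowers a, (t : H) * c * (t : H)⁻¹ = c⁻¹ := by
      rintro _ ⟨k, rfl⟩
      show (t : H) * a ^ k * (t : H)⁻¹ = (a ^ k)⁻¹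
      rw [← conj_zpow, hinv, inv_zpow]
    have hsq : ∀ b : H, b ∉ Subgroup.zpowers a → b ^ 2 = 1 := by
      intro b hb
      have hc := hdecomp b hb
      have h1 := hinvk _ hc
      have hb' : b = (t : H) * ((t : H)⁻¹ * b) := by group
      have ht' : (t : H)⁻¹ = (t : H) := by
        rw [inv_eq_iff_mul_eq_one, ← pow_two]; exact ht2
      set c := (t : H)⁻¹ * b with hcdef
      rw [hb', pow_two]
      calc (t : H) * c * ((t : H) * c) = ((t : H) * c * (t : H)⁻¹) * c := by rw [ht']; group
        _ = 1 := by rw [h1, inv_mul_cancel]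
    have hAinv : ∀ α : MulAut H, ∀ x ∈ Subgroup.zpowers a, α x ∈ Subgroup.zpowers a := by
      rintro α _ ⟨k, rfl⟩
      show α (a ^ k) ∈ Subgroup.zpowers a
      rw [map_zpow]
      apply Subgroup.zpow_mem
      by_contra hαa
      have h1 := hsq (α a) hαa
      rw [← map_pow] at h1
      have : a ^ 2 = 1 := by
        have := congrArg α.symm h1
        simpa using this
      exact ha2 this
    refine ⟨Subgroup.center H, Subgroup.zpowers a, inferInstance, hAn, hZA, hZ, ?_,
      fun α => center_invariant α, hAinv⟩
    rw [hA]; norm_num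

end Cfsg.Agent.Lib.Helper7.EssChain
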