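import Mathlib
import Cfsg.Prelude.Def_FusionSystem
import Cfsg.Agent.Lib.Helper7.ElemAbGL
import Cfsg.Agent.Lib.Helper7.GL2p
import Cfsg.Agent.Lib.Helper7.Core
import Cfsg.Agent.Lib.Helper7.FusionEssential
import Cfsg.Agent.Lib.Helper7.PStableFusion

set_option autoImplicit false

namespace Cfsg.Agent.Lib.Helper7

open Cfsg Matrix

section gl

variable (p : ℕ) [Fact p.Prime]

local notation "SL2p" => Matrix.SpecialLinearGroup (Fin 2) (ZMod p)
local notation "GL2p" => GL (Fin 2) (ZMod p)

theorem det_eq_one_of_pow_p_pow (g : GL2p) (k : ℕ) (hg : g ^ p ^ k = 1) :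
    Matrix.GeneralLinearGroup.det g = 1 := by
  have hp : p.Prime := Fact.out
  have h1 : (Matrix.GeneralLinearGroup.det g) ^ p ^ k = 1 := by
    rw [← map_pow, hg, map_one]
  have h2 : (Matrix.GeneralLinearGroup.det g) ^ (p - 1) = 1 :=
    ZMod.units_pow_card_sub_one_eq_one p _
  have hcop : Nat.Coprime (p ^ k) (p - 1) := by
    apply Nat.Coprime.pow_left
    have : p - 1 + 1 = p := Nat.sub_add_cancel hp.pos
    rw [Nat.coprime_comm]
    nth_rewrite 2 [← this]
    simp
  have h3 := pow_gcd_eq_one.mpr ⟨h1, h2⟩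
  rw [hcop.gcd_eq_one, pow_one] at h3
  exact h3

/-- A nontrivial `p`-subgroup of `GL₂(p)` has order `p`. -/
theorem card_eq_p_of_isPGroup_gl (P : Subgroup GL2p) (hP : IsPGroup p P) (hne : P ≠ ⊥) :
    Nat.card P = p := by
  have hp : p.Prime := Fact.out
  have hinj : Function.Injective (Matrix.SpecialLinearGroup.toGL : SL2p →* GL2p) :=
    Matrix.SpecialLinearGroup.toGL_injective
  have hle : P ≤ (Matrix.SpecialLinearGroup.toGL : SL2p →* GL2p).range := by
    intro g hg
    rw [mem_range_toGL_iff]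
    obtain ⟨k, hk⟩ := hP ⟨g, hg⟩
    exact det_eq_one_of_pow_p_pow p g k (congrArg Subtype.val hk)
  have hmap : (P.comap (Matrix.SpecialLinearGroup.toGL : SL2p →* GL2p)).map
      (Matrix.SpecialLinearGroup.toGL : SL2p →* GL2p) = P := Subgroup.map_comap_eq_self hle
  obtain ⟨Q, hQ⟩ : ∃ Q : Subgroup SL2p,
      Q = P.comap (Matrix.SpecialLinearGroup.toGL : SL2p →* GL2p) := ⟨_, rfl⟩
  rw [← hQ] at hmap
  have hQp : IsPGroup p Q := by
    rw [hQ]
    exact hP.comap_of_injective _ hinj
  have hcard : Nat.card Q = Nat.card P := by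
    conv_rhs => rw [← hmap]
    exact (Subgroup.card_map_of_injective hinj).symm
  rw [← hcard]
  obtain ⟨T, hT⟩ := hQp.exists_le_sylow
  have hTcard : Nat.card T = p := by
    rw [Sylow.card_eq_multiplicity, card_sl2p_factorization, pow_one]
  have hdvd : Nat.card Q ∣ p := by
    have h := Subgroup.card_dvd_of_le hT
    rw [hTcard] at h
    exact h
  rcases (Nat.dvd_prime hp).mp hdvd with h | h
  · exfalso
    apply hne
    have hQbot : Q = ⊥ := Subgroup.card_eq_one.mp h
    rw [← hmap, hQbot, Subgroup.map_bot]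
  · exact h

end gl

/-- A group of automorphisms of a group of order `p²` with trivial `p`-core and order divisible by `p`:
the group is elementary abelian and the automorphism group contains `SL₂(p)`. -/
theorem sl2_of_aut_order_p_sq {V : Type*} [Group V] [Finite V] (p : ℕ) [Fact p.Prime]
    (hcard : Nat.card V = p ^ 2) (A : Subgroup (MulAut V)) (hcore : pCore p A = ⊥)
    (hdvd : p ∣ Nat.card A) :
    (∀ x : V, x ^ p = 1) ∧
      ∃ K : Subgroup ↥A, Nonempty (↥K ≃* Matrix.SpecialLinearGroup (Fin 2) (ZMod p)) := by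
  have hp : p.Prime := Fact.out
  haveI : Finite (MulAut V) := inferInstance
  -- two distinct Sylow subgroups
  have hSne : ∀ P₁ : Sylow p A, (P₁ : Subgroup A) ≠ ⊥ := by
    intro P₁ h
    have h1 := P₁.card_eq_multiplicity
    rw [h, Subgroup.card_bot] at h1
    have h2 : (Nat.card A).factorization p = 0 := by
      by_contra hcon
      have : 1 < p ^ (Nat.card A).factorization p := Nat.one_lt_pow hcon hp.one_lt
      omega
    have h3 := (hp.factorization_pos_of_dvd Nat.card_pos.ne' hdvd)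
    omega
  obtain ⟨P₁⟩ : Nonempty (Sylow p A) := inferInstance
  have hP₁ne := hSne P₁
  obtain ⟨P₂, hP₂⟩ : ∃ P₂ : Sylow p A, P₂ ≠ P₁ := by
    by_contra hcon
    push Not at hcon
    haveI : Subsingleton (Sylow p A) := ⟨fun a b => (hcon a).trans (hcon b).symm⟩
    have hn : (P₁ : Subgroup A).Normal := Sylow.normal_of_subsingleton P₁
    have := le_pCore hn P₁.isPGroup'
    rw [hcore, le_bot_iff] at this
    exact hP₁ne this
  have hcommV : IsMulCommutative V := IsPGroup.isMulCommutative_of_card_eq_prime_sq hcard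
  have hVp : ∀ x : V, x ^ p = 1 := by
    by_contra hcon
    push Not at hcon
    obtain ⟨x, hx⟩ := hcon
    have hx2 : x ^ p ^ 2 = 1 := by rw [← hcard]; exact pow_card_eq_one'
    have hord : orderOf x = p ^ 2 := by
      obtain ⟨j, hj, hjo⟩ := (Nat.dvd_prime_pow hp).mp (orderOf_dvd_of_pow_eq_one hx2)
      interval_cases j
      · exfalso; apply hx
        rw [pow_zero, orderOf_eq_one_iff] at hjo
        rw [hjo, one_pow]
      · exfalso; apply hx
        rw [pow_one] at hjo
        rw [← hjo]; exact pow_orderOf_eq_one x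
      · exact hjo
    haveI : IsCyclic V := isCyclic_of_orderOf_eq_card x (by rw [hord, hcard])
    have hn : (P₁ : Subgroup A).Normal := by
      refine ⟨fun n hn g => ?_⟩
      have h1 : g * n = n * g := Subtype.ext (mulAut_comm_of_isCyclic (g : MulAut V) n)
      rw [h1, mul_inv_cancel_right]
      exact hn
    have := le_pCore hn P₁.isPGroup'
    rw [hcore, le_bot_iff] at this
    exact hP₁ne this
  refine ⟨hVp, ?_⟩
  letI : CommGroup V := { (inferInstance : Group V) with
    mul_comm := (isMulCommutative_iff.mp hcommV) }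
  obtain ⟨e⟩ := mulAut_equiv_gl p 2 hVp hcard
  obtain ⟨f, hf⟩ : ∃ f : ↥A →* GL (Fin 2) (ZMod p), f = e.toMonoidHom.comp A.subtype := ⟨_, rfl⟩
  have hfinj : Function.Injective f := by
    rw [hf]
    exact e.injective.comp Subtype.val_injective
  have hc : ∀ P : Sylow p A, Nat.card ((P : Subgroup A).map f) = p := fun P =>
    card_eq_p_of_isPGroup_gl p _ (P.isPGroup'.map f)
      ((Subgroup.map_eq_bot_iff_of_injective _ hfinj).not.mpr (hSne P))
  have hne' : (P₁ : Subgroup A).map f ≠ (P₂ : Subgroup A).map f := fun h =>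
    hP₂ (Sylow.ext (Subgroup.map_injective hfinj h)).symm
  have hle := range_toGL_le_sup p _ _ (hc P₁) (hc P₂) hne'
  obtain ⟨Ψ, hΨ⟩ : ∃ Ψ : Matrix.SpecialLinearGroup (Fin 2) (ZMod p) →* MulAut V,
      Ψ = e.symm.toMonoidHom.comp Matrix.SpecialLinearGroup.toGL := ⟨_, rfl⟩
  have hΨinj : Function.Injective Ψ := by
    rw [hΨ]
    exact e.symm.injective.comp Matrix.SpecialLinearGroup.toGL_injective
  have hΨA : Ψ.range ≤ A := by
    rintro _ ⟨s, rfl⟩
    have h1 : Matrix.SpecialLinearGroup.toGL s ∈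
        (P₁ : Subgroup A).map f ⊔ (P₂ : Subgroup A).map f := hle ⟨s, rfl⟩
    rw [← Subgroup.map_sup] at h1
    obtain ⟨a, -, ha⟩ := h1
    have h2 : (a : MulAut V) = Ψ s := by
      rw [hΨ]
      show _ = e.symm (Matrix.SpecialLinearGroup.toGL s)
      rw [← ha, hf]
      simp
    rw [← h2]
    exact a.2
  exact ⟨Ψ.range.subgroupOf A,
    ⟨(Subgroup.subgroupOfEquivOfLe hΨA).trans (MonoidHom.ofInjective hΨinj).symm⟩⟩

end Cfsg.Agent.Lib.Helper7
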