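import Mathlib
import Cfsg.Prelude.Def_FusionSystem
import Cfsg.Agent.Lib.Helper7.EssPSq

set_option autoImplicit false

namespace Cfsg.Agent.Lib.Helper7

open Cfsg Cfsg.FusionSystem

universe u

theorem essential_order_p_sq {Ω : Type u} [Group Ω] {S : Subgroup Ω} [Finite S] (p : ℕ)
    [Fact p.Prime] (hS : IsPGroup p S) (F : FusionSystem S) (hF : F.IsSaturated p)
    (H : Subgroup Ω) (hH : F.IsEssential p H) (hcard : Nat.card H = p ^ 2) :
    IsElementaryAbelian p H ∧
      ∃ K : Subgroup ↥(F.autGroup H),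
        Nonempty (↥K ≃* Matrix.SpecialLinearGroup (Fin 2) (ZMod p)) := by
  have hHS : H ≤ S := hH.1.1
  haveI : Finite ↥H := finite_of_le hHS
  have hrad := isRadical_of_isEssential p hS F H hH
  have hcomm : IsMulCommutative ↥H := IsPGroup.isMulCommutative_of_card_eq_prime_sq hcard
  have hInn : Inn ↥H = ⊥ := by
    rw [eq_bot_iff]
    rintro _ ⟨x, rfl⟩
    rw [Subgroup.mem_bot]
    ext y
    have := (isMulCommutative_iff.mp hcomm) x y
    simp [MulAut.conj_apply, this]
  have hcore : pCore p ↥(F.autGroup H) = ⊥ := by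
    have h1 := hrad.2
    rw [hInn] at h1
    exact (Subgroup.map_eq_bot_iff_of_injective _ Subtype.val_injective).mp h1
  obtain ⟨-, -, hnorm, E, hE⟩ := hH
  have hdvd : p ∣ Nat.card ↥(F.autGroup H) := by
    have h1 : p ∣ Nat.card (↥(F.autGroup H) ⧸ (Inn ↥H).subgroupOf (F.autGroup H)) := hE.1
    exact h1.trans (Subgroup.card_quotient_dvd_card _)
  obtain ⟨hVp, K, hK⟩ := sl2_of_aut_order_p_sq p hcard (F.autGroup H) hcore hdvd
  refine ⟨⟨hcomm, fun a ha => ?_⟩, K, hK⟩
  exact congrArg Subtype.val (hVp ⟨a, ha⟩)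

end Cfsg.Agent.Lib.Helper7
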