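import Mathlib
import Cfsg.Prelude.Def_FusionSystem
import Cfsg.Agent.Lib.Helper7.Alperin2
import Cfsg.Agent.Lib.Helper7.SEQuot2
import Cfsg.Agent.Lib.Helper7.FusionSat4
import Cfsg.Agent.Lib.Helper7.FusionNormal

set_option autoImplicit false

namespace Cfsg.Agent.Lib.Helper7

open Cfsg Cfsg.FusionSystem

variable {Ω : Type*} [Group Ω] {S : Subgroup Ω}

/-- For an essential subgroup the extendable automorphisms generate a proper subgroup of `Aut_F(Q)`. -/
theorem closure_extGen_ne_of_isEssential [Finite S] (p : ℕ) [Fact p.Prime] (hS : IsPGroup p S)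
    (F : FusionSystem S) (hF : F.IsSaturated p) {Q : Subgroup Ω} (hess : F.IsEssential p Q) :
    Subgroup.closure (extGen F Q) ≠ F.autGroup Q := by
  obtain ⟨hcen, hFN, hnorm, M, hM⟩ := hess
  have hQS := hcen.1
  haveI := finite_of_le hQS
  haveI : Finite (MulAut ↥Q) := inferInstance
  have hcenQ : centralizerIn S Q ≤ Q := hcen.2 Q (isConj_refl F hQS)
  obtain ⟨R', hcR, hFAR, hRecR⟩ := hF Q hQS
  obtain ⟨hFA, hRec⟩ := isFullyAutomized_isReceptive_of_isFullyNormalized p hS F hFN hFAR hRecR hcR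
  obtain ⟨-, T, hT⟩ := hFA
  intro heq
  have key := closure_ne_top_of_stronglyPEmbedded_quot (p := p) ((Inn Q).subgroupOf (F.autGroup Q)) T M hM
    {a : F.autGroup Q | (a : MulAut Q) ∈ extGen F Q} (by
      rintro ⟨α, hαA⟩ ⟨R, hQR, φ, hφ, hα⟩
      have hRS : R ≤ S := (F.le_of_mem hφ).1
      haveI := finite_of_le hRS
      obtain ⟨g, hgN, hgQ⟩ := lt_normalizerIn_of_ne (hS.to_le hRS) hQR.le hQR.ne
      have hgS : g ∈ S := hRS hgN.1
      have hcgT : Q.normalizerMonoidHom ⟨g, hgN.2⟩ ∈ autInducedBy S Q :=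
        (mem_autInducedBy_iff S Q _).mpr ⟨g, hgS, fun x => rfl⟩
      have hcgA := autInducedBy_le_autGroup F hQS hcgT
      refine ⟨⟨_, hcgA⟩, ?_, ?_, ?_⟩
      · rw [hT]; exact Subgroup.mem_subgroupOf.mpr hcgT
      · intro hI
        exact hgQ (mem_of_normalizerMonoidHom_mem_inn hcenQ hQS hgS hgN.2 (Subgroup.mem_subgroupOf.mp hI))
      · rw [hT, Subgroup.mem_subgroupOf]
        show α * Q.normalizerMonoidHom ⟨g, hgN.2⟩ * α⁻¹ ∈ autInducedBy S Q
        rw [mem_autInducedBy_iff]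
        refine ⟨φ ⟨g, hgN.1⟩, (F.le_of_mem hφ).2 _, fun y => ?_⟩
        simp only [MulAut.mul_apply]
        rw [← hα]
        have e1 : (y : Ω) = φ (Subgroup.inclusion hQR.le (α⁻¹ y)) := by
          rw [hα]; simp
        conv_rhs => rw [e1]
        rw [← map_inv, ← map_mul, ← map_mul]
        rfl)
  apply key
  have hmap : (Subgroup.closure {a : F.autGroup Q | (a : MulAut Q) ∈ extGen F Q}).map
      (F.autGroup Q).subtype = Subgroup.closure (extGen F Q) := by
    rw [MonoidHom.map_closure]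
    congr 1
    ext α
    constructor
    · rintro ⟨a, ha, rfl⟩; exact ha
    · intro hα
      exact ⟨⟨α, extGen_subset_autGroup F Q hα⟩, hα, rfl⟩
  apply Subgroup.map_injective (F.autGroup Q).subtype_injective
  rw [hmap, heq, ← MonoidHom.range_eq_map, Subgroup.range_subtype]

end Cfsg.Agent.Lib.Helper7
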