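import Mathlib
import Cfsg.Agent.Lib.Helper4.ClassProd
import Cfsg.Agent.Lib.Helper4.InvAction
import Cfsg.Agent.Lib.Helper4.SylowPrime
import Cfsg.Agent.S4744

set_option autoImplicit false
set_option linter.style.haveILetI false
set_option linter.unusedSectionVars false

/-! Real elements with odd centralizer force an irreducible character of even degree (helper7). -/

namespace Cfsg.Agent.Lib.Helper7.EvenDeg

open Cfsg Module Cfsg.Agent.Lib.helper3.IndFun Cfsg.Agent.Lib.helper3.CharBasic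
open Cfsg.Agent.Lib.helper3.Irr Cfsg.Agent.Lib.helper3.Central Cfsg.Agent.Lib.Helper4.CharExtra
open Cfsg.Agent.Lib.Helper4.InflateEquiv Cfsg.Agent.Lib.Helper4.Codegree
open Cfsg.Agent.Lib.Helper4.ClassProd Cfsg.Agent.Lib.Helper4.InvAction
open Cfsg.Agent.Lib.helper3.AlgInt
open scoped ComplexConjugate
open Classical

/-- `(∑ c i)² = ∑ (c i)² + 2 d` with `d` integral -/
lemma sq_sum_eq {ι : Type*} (s : Finset ι) (c : ι → ℂ) (hc : ∀ i, IsIntegral ℤ (c i)) :
    ∃ d : ℂ, IsIntegral ℤ d ∧ (∑ i ∈ s, c i) ^ 2 = ∑ i ∈ s, c i ^ 2 + 2 * d := by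
  induction s using Finset.induction_on with
  | empty => exact ⟨0, isIntegral_zero, by simp⟩
  | insert a s ha ih =>
    obtain ⟨d, hd, hsq⟩ := ih
    refine ⟨d + c a * ∑ i ∈ s, c i, hd.add ((hc a).mul (IsIntegral.sum _ (fun i _ => hc i))), ?_⟩
    rw [Finset.sum_insert ha, Finset.sum_insert ha, add_sq, hsq]
    ring

variable {G : Type*} [Group G] [Finite G]

/-- If `x ≠ 1` is real and `|C_G(x)|` is odd, some irreducible character has even degree. -/
theorem exists_even_degree (x : G) (hx1 : x ≠ 1) (hreal : IsConj x x⁻¹)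
    (hodd : Odd (Nat.card (Subgroup.centralizer ({x} : Set G)))) :
    ∃ χ : IrrCharacter G, Even (charDegree (χ : G → ℂ)) := by
  haveI : Fintype G := Fintype.ofFinite G
  by_contra hcon
  push Not at hcon
  have hk : ∀ χ : IrrCharacter G, ∃ k : ℕ, charDegree (χ : G → ℂ) = 2 * k + 1 := fun χ =>
    Nat.not_even_iff_odd.mp (hcon χ)
  choose k hk using hk
  have hint : ∀ χ : IrrCharacter G, IsIntegral ℤ ((χ : G → ℂ) x) := fun χ =>
    Cfsg.Agent.Lib.helper3.Lin.isIntegral_of_isCharacter (isCharacter_of_isIrrCharacter χ.2) x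
  -- (i)
  have h1 : ∑ χ : IrrCharacter G, (χ : G → ℂ) x * conj ((χ : G → ℂ) 1) = 0 := by
    apply (column_orthogonality x 1).2
    intro h
    exact hx1 (isConj_one_left.mp h)
  have h1' : ∑ χ : IrrCharacter G, (χ : G → ℂ) x * ((2 * (k χ : ℂ) + 1)) = 0 := by
    rw [← h1]
    apply Finset.sum_congr rfl
    intro χ _
    rw [← charDegree_cast (isCharacter_of_isIrrCharacter χ.2), hk χ]
    push_cast
    simp [Complex.conj_ofNat]
  set b : ℂ := -∑ χ : IrrCharacter G, (k χ : ℂ) * (χ : G → ℂ) x with hb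
  have hbint : IsIntegral ℤ b := by
    rw [hb]
    apply IsIntegral.neg
    apply IsIntegral.sum
    intro χ _
    exact (isIntegral_nat _).mul (hint χ)
  have ha : ∑ χ : IrrCharacter G, (χ : G → ℂ) x = 2 * b := by
    have e : ∑ χ : IrrCharacter G, (χ : G → ℂ) x * ((2 * (k χ : ℂ) + 1)) =
        2 * ∑ χ : IrrCharacter G, (k χ : ℂ) * (χ : G → ℂ) x + ∑ χ : IrrCharacter G, (χ : G → ℂ) x := by
      rw [Finset.mul_sum, ← Finset.sum_add_distrib]
      apply Finset.sum_congr rfl
      intro χ _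
      ring
    rw [e] at h1'
    rw [hb]
    linear_combination h1'
  -- (iii)
  have h2 : ∑ χ : IrrCharacter G, (χ : G → ℂ) x * conj ((χ : G → ℂ) x) =
      (Nat.card (Subgroup.centralizer ({x} : Set G)) : ℂ) :=
    (column_orthogonality x x).1 (IsConj.refl x)
  have h2' : ∑ χ : IrrCharacter G, (χ : G → ℂ) x ^ 2 =
      (Nat.card (Subgroup.centralizer ({x} : Set G)) : ℂ) := by
    rw [← h2]
    apply Finset.sum_congr rfl
    intro χ _
    rw [← isCharacter_apply_inv (isCharacter_of_isIrrCharacter χ.2), ← irr_eq_of_isConj χ hreal]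
    ring
  obtain ⟨d, hd, hsq⟩ := sq_sum_eq (Finset.univ : Finset (IrrCharacter G))
    (fun χ => (χ : G → ℂ) x) hint
  rw [ha, h2'] at hsq
  have hfin : ((Nat.card (Subgroup.centralizer ({x} : Set G)) : ℤ) : ℂ) =
      ((2 : ℤ) : ℂ) * (2 * b ^ 2 - d) := by
    push_cast
    linear_combination -hsq
  have hdvd : (2 : ℤ) ∣ (Nat.card (Subgroup.centralizer ({x} : Set G)) : ℤ) :=
    int_dvd_of_eq_mul_isIntegral
      (((isIntegral_nat 2).mul (hbint.pow 2)).sub hd) (by simpa using hfin) two_ne_zero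
  have : 2 ∣ Nat.card (Subgroup.centralizer ({x} : Set G)) := by exact_mod_cast hdvd
  exact (Nat.not_even_iff_odd.mpr hodd) (even_iff_two_dvd.mpr this)

/-- S4746: defect zero character or even degree character. -/
theorem core (p : ℕ) [Fact p.Prime] (hp2 : p ≠ 2) (hpG : p ∣ Nat.card G)
    (h2G : 2 ∣ Nat.card G)
    (hC : ∀ g : G, g ≠ 1 → (∃ k : ℕ, orderOf g = p ^ k) →
      Odd (Nat.card ↥(Subgroup.centralizer ({g} : Set G)))) :
    (∃ χ : Cfsg.IrrCharacter G,
      (Cfsg.charDegree (χ : G → ℂ)).factorization p = (Nat.card G).factorization p) ∨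
    ∃ χ : Cfsg.IrrCharacter G, Even (Cfsg.charDegree (χ : G → ℂ)) := by
  have hp : p.Prime := Fact.out
  rcases Cfsg.Agent.S4744.result p hp2 hpG h2G hC with h | h
  · exact Or.inl h
  right
  have P : Sylow p G := default
  obtain ⟨heven, -⟩ := h P
  -- an element of order p in P
  obtain ⟨x, hx⟩ := exists_prime_orderOf_dvd_card' p (P.dvd_card_of_dvd_card hpG)
  have hx' : orderOf (x : G) = p := by rw [Subgroup.orderOf_coe]; exact hx
  have hx1 : (x : G) ≠ 1 := by
    intro h1
    rw [h1, orderOf_one] at hx'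
    exact hp.one_lt.ne hx'
  -- an involution in N(P)
  obtain ⟨t, ht⟩ := exists_prime_orderOf_dvd_card' 2 (even_iff_two_dvd.mp heven)
  have ht' : orderOf (t : G) = 2 := by rw [Subgroup.orderOf_coe]; exact ht
  have htt : (t : G) * (t : G) = 1 := by
    have := pow_orderOf_eq_one (t : G)
    rwa [ht', pow_two] at this
  have hnorm : ∀ y ∈ (P : Subgroup G), (t : G) * y * (t : G)⁻¹ ∈ (P : Subgroup G) := by
    intro y hy
    exact (Subgroup.mem_normalizer_iff.mp t.2 y).mp hy
  have hfpf : ∀ y ∈ (P : Subgroup G), (t : G) * y = y * (t : G) → y = 1 := by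
    intro y hy hcomm
    by_contra hy1
    have hyp : ∃ k : ℕ, orderOf y = p ^ k := by
      obtain ⟨j, hj⟩ := P.isPGroup' ⟨y, hy⟩
      have hj' : y ^ p ^ j = 1 := by
        have := congrArg Subtype.val hj
        simpa using this
      obtain ⟨i, _, hi⟩ := (Nat.dvd_prime_pow hp).mp (orderOf_dvd_of_pow_eq_one hj')
      exact ⟨i, hi⟩
    have hodd := hC y hy1 hyp
    have h2 := Cfsg.Agent.S4744.two_dvd_card_centralizer ht' hcomm
    exact (Nat.not_even_iff_odd.mpr hodd) (even_iff_two_dvd.mpr h2)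
  have hinv := inverts_of_fixedPointFree (P : Subgroup G) (t : G) htt hnorm hfpf
  have hreal : IsConj (x : G) (x : G)⁻¹ := isConj_iff.mpr ⟨(t : G), hinv x x.2⟩
  exact exists_even_degree (x : G) hx1 hreal (hC x hx1 ⟨1, by rw [hx', pow_one]⟩)

end Cfsg.Agent.Lib.Helper7.EvenDeg
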