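import Mathlib

set_option autoImplicit false

namespace Cfsg.Agent.Lib.Helper7.Trv

variable {P : Type*} [Group P]

/-- fixed points of an automorphism -/
def fixSub (α : MulAut P) : Subgroup P where
  carrier := {x | α x = x}
  mul_mem' := by
    intro a b ha hb
    simp only [Set.mem_ofPred_eq] at *
    rw [map_mul, ha, hb]
  one_mem' := map_one α
  inv_mem' := by
    intro a ha
    simp only [Set.mem_ofPred_eq] at *
    rw [map_inv, ha]

theorem mem_fixSub {α : MulAut P} {x : P} : x ∈ fixSub α ↔ α x = x := Iff.rfl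

theorem fixSub_conj (g α : MulAut P) :
    fixSub (g * α * g⁻¹) = (fixSub α).map g.toMonoidHom := by
  ext x
  constructor
  · intro hx
    refine ⟨g⁻¹ x, ?_, by simp⟩
    have h1 : g (α (g⁻¹ x)) = x := hx
    show α (g⁻¹ x) = g⁻¹ x
    apply g.injective
    rw [h1]
    simp
  · rintro ⟨y, hy, rfl⟩
    have hy' : α y = y := hy
    show g (α (g⁻¹ (g y))) = g y
    simp [hy']

/-- commutator map `x ↦ x⁻¹ α(x)` of a commutative group -/
def commHom (hc : ∀ a b : P, a * b = b * a) (α : MulAut P) : P →* P where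
  toFun x := x⁻¹ * α x
  map_one' := by simp
  map_mul' x y := by
    rw [map_mul, mul_inv_rev, hc y⁻¹ x⁻¹, mul_assoc, mul_assoc]
    congr 1
    rw [← mul_assoc, ← mul_assoc, hc y⁻¹ (α x)]

theorem commHom_apply (hc : ∀ a b : P, a * b = b * a) (α : MulAut P) (x : P) :
    commHom hc α x = x⁻¹ * α x := rfl

/-- `[P, α]` -/
def commSub (hc : ∀ a b : P, a * b = b * a) (α : MulAut P) : Subgroup P := (commHom hc α).range

theorem comm_mem_commSub (hc : ∀ a b : P, a * b = b * a) (α : MulAut P) (x : P) :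
    x⁻¹ * α x ∈ commSub hc α := ⟨x, rfl⟩

theorem mem_commSub (hc : ∀ a b : P, a * b = b * a) (α : MulAut P) {y : P} :
    y ∈ commSub hc α ↔ ∃ x, x⁻¹ * α x = y := Iff.rfl

theorem ker_commHom (hc : ∀ a b : P, a * b = b * a) (α : MulAut P) :
    (commHom hc α).ker = fixSub α := by
  ext x
  rw [MonoidHom.mem_ker, commHom_apply, mem_fixSub, inv_mul_eq_one, eq_comm]

theorem index_fixSub (hc : ∀ a b : P, a * b = b * a) (α : MulAut P) :
    (fixSub α).index = Nat.card (commSub hc α) := by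
  rw [← ker_commHom hc α, Subgroup.index_ker]
  rfl

theorem commSub_conj (hc : ∀ a b : P, a * b = b * a) (g α : MulAut P) :
    commSub hc (g * α * g⁻¹) = (commSub hc α).map g.toMonoidHom := by
  ext y
  constructor
  · rintro ⟨x, rfl⟩
    refine ⟨(g⁻¹ x)⁻¹ * α (g⁻¹ x), comm_mem_commSub hc α _, ?_⟩
    show g ((g⁻¹ x)⁻¹ * α (g⁻¹ x)) = x⁻¹ * g (α (g⁻¹ x))
    simp
  · rintro ⟨_, ⟨x, rfl⟩, rfl⟩
    refine ⟨g x, ?_⟩
    show (g x)⁻¹ * g (α (g⁻¹ (g x))) = g (x⁻¹ * α x)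
    simp

theorem commSub_pow_le (hc : ∀ a b : P, a * b = b * a) (α : MulAut P) (n : ℕ) :
    commSub hc (α ^ n) ≤ commSub hc α := by
  induction n with
  | zero =>
    rintro _ ⟨x, rfl⟩
    simp [commHom_apply]
  | succ n ih =>
    rintro _ ⟨x, rfl⟩
    have h1 : commHom hc (α ^ (n + 1)) x = (x⁻¹ * (α ^ n) x) * (((α ^ n) x)⁻¹ * α ((α ^ n) x)) := by
      rw [commHom_apply, pow_succ']
      simp [mul_assoc]
    rw [h1]
    exact Subgroup.mul_mem _ (ih (comm_mem_commSub hc _ x)) (comm_mem_commSub hc α _)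

theorem normal_of_comm (hc : ∀ a b : P, a * b = b * a) (A : Subgroup P) : A.Normal :=
  ⟨fun n hn g => by rw [hc g n, mul_inv_cancel_right]; exact hn⟩

theorem mem_sup_comm (hc : ∀ a b : P, a * b = b * a) {A B : Subgroup P} {x : P} :
    x ∈ A ⊔ B ↔ ∃ a ∈ A, ∃ b ∈ B, x = a * b := by
  have := normal_of_comm hc B
  rw [Subgroup.mem_sup_of_normal_right]
  constructor
  · rintro ⟨a, ha, b, hb, rfl⟩; exact ⟨a, ha, b, hb, rfl⟩
  · rintro ⟨a, ha, b, hb, rfl⟩; exact ⟨a, ha, b, hb, rfl⟩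

theorem fixSub_le_pow (α : MulAut P) (n : ℕ) : fixSub α ≤ fixSub (α ^ n) := by
  intro x hx
  have hx' : α x = x := hx
  show (α ^ n) x = x
  induction n with
  | zero => simp
  | succ n ih => rw [pow_succ]; simp [hx', ih]

/-- the stabiliser of the chain `P ≥ W₁ ≥ W₂ ≥ 1` -/
def chainStab (W₁ W₂ : Subgroup P) (h21 : W₂ ≤ W₁) : Subgroup (MulAut P) where
  carrier := {k | (∀ x, x⁻¹ * k x ∈ W₁) ∧ (∀ x ∈ W₁, x⁻¹ * k x ∈ W₂) ∧ (∀ x ∈ W₂, k x = x)}
  one_mem' := by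
    refine ⟨fun x => by simp, fun x _ => by simp, fun x _ => rfl⟩
  mul_mem' := by
    rintro a b ⟨ha1, ha2, ha3⟩ ⟨hb1, hb2, hb3⟩
    refine ⟨fun x => ?_, fun x hx => ?_, fun x hx => ?_⟩
    · have e : x⁻¹ * (a * b) x = (x⁻¹ * b x) * ((b x)⁻¹ * a (b x)) := by
        simp [mul_assoc]
      rw [e]
      exact W₁.mul_mem (hb1 x) (ha1 _)
    · have hbx : b x ∈ W₁ := by
        have : b x = x * (x⁻¹ * b x) := by simp
        rw [this]
        exact W₁.mul_mem hx (h21 (hb2 x hx))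
      have e : x⁻¹ * (a * b) x = (x⁻¹ * b x) * ((b x)⁻¹ * a (b x)) := by
        simp [mul_assoc]
      rw [e]
      exact W₂.mul_mem (hb2 x hx) (ha2 _ hbx)
    · show a (b x) = x
      rw [hb3 x hx, ha3 x hx]
  inv_mem' := by
    rintro a ⟨ha1, ha2, ha3⟩
    have h1 : ∀ x, x⁻¹ * a⁻¹ x ∈ W₁ := by
      intro x
      have := ha1 (a⁻¹ x)
      rw [MulAut.apply_inv_self] at this
      have e : x⁻¹ * a⁻¹ x = ((a⁻¹ x)⁻¹ * x)⁻¹ := by simp
      rw [e]
      exact W₁.inv_mem this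
    have hmem1 : ∀ x ∈ W₁, a⁻¹ x ∈ W₁ := by
      intro x hx
      have : a⁻¹ x = x * (x⁻¹ * a⁻¹ x) := by simp
      rw [this]
      exact W₁.mul_mem hx (h1 x)
    have h2 : ∀ x ∈ W₁, x⁻¹ * a⁻¹ x ∈ W₂ := by
      intro x hx
      have := ha2 (a⁻¹ x) (hmem1 x hx)
      rw [MulAut.apply_inv_self] at this
      have e : x⁻¹ * a⁻¹ x = ((a⁻¹ x)⁻¹ * x)⁻¹ := by simp
      rw [e]
      exact W₂.inv_mem this
    refine ⟨h1, h2, fun x hx => ?_⟩
    have hy : a⁻¹ x ∈ W₂ := by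
      have : a⁻¹ x = x * (x⁻¹ * a⁻¹ x) := by simp
      rw [this]
      exact W₂.mul_mem hx (h2 x (h21 hx))
    have := ha3 _ hy
    rw [MulAut.apply_inv_self] at this
    exact this.symm

theorem mem_chainStab {W₁ W₂ : Subgroup P} {h21 : W₂ ≤ W₁} {k : MulAut P} :
    k ∈ chainStab W₁ W₂ h21 ↔
      (∀ x, x⁻¹ * k x ∈ W₁) ∧ (∀ x ∈ W₁, x⁻¹ * k x ∈ W₂) ∧ (∀ x ∈ W₂, k x = x) := Iff.rfl

/-- a `p'`-automorphism fixing `x⁻¹ α(x)` fixes `x` -/
theorem fix_of_coprime {p : ℕ} [Fact p.Prime] (hP : IsPGroup p P) (α : MulAut P)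
    (hord : (orderOf α).Coprime p) (x : P) (hfix : α (x⁻¹ * α x) = x⁻¹ * α x) : α x = x := by
  set w := x⁻¹ * α x with hw
  have hpow : ∀ k : ℕ, (α ^ k) x = x * w ^ k := by
    intro k
    induction k with
    | zero => simp
    | succ k ih =>
      rw [pow_succ', MulAut.mul_apply, ih, map_mul, map_pow, hfix, pow_succ']
      have : α x = x * w := by rw [hw]; simp
      rw [this, mul_assoc]
  have h1 := hpow (orderOf α)
  rw [pow_orderOf_eq_one, MulAut.one_apply] at h1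
  have h2 : w ^ orderOf α = 1 := by
    have := mul_left_cancel (a := x) (b := 1) (c := w ^ orderOf α) (by rw [mul_one]; exact h1)
    exact this.symm
  obtain ⟨n, hn⟩ := hP w
  have h3 : orderOf w ∣ orderOf α := orderOf_dvd_of_pow_eq_one h2
  have h4 : orderOf w ∣ p ^ n := orderOf_dvd_of_pow_eq_one hn
  have h5 : orderOf w = 1 := by
    have hcop : (orderOf α).Coprime (p ^ n) := Nat.Coprime.pow_right n hord
    exact Nat.eq_one_of_dvd_coprimes hcop h3 h4
  have h6 : w = 1 := orderOf_eq_one_iff.mp h5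
  rw [hw, inv_mul_eq_one] at h6
  exact h6.symm

theorem isPGroup_chainStab [Finite P] {p : ℕ} [Fact p.Prime] (hP : IsPGroup p P)
    (W₁ W₂ : Subgroup P) (h21 : W₂ ≤ W₁) : IsPGroup p (chainStab W₁ W₂ h21) := by
  have hp : p.Prime := Fact.out
  -- p'-elements are trivial
  have key : ∀ k ∈ chainStab W₁ W₂ h21, (orderOf k).Coprime p → k = 1 := by
    rintro k ⟨h1, h2, h3⟩ hord
    have hW1 : ∀ x ∈ W₁, k x = x := fun x hx =>
      fix_of_coprime hP k hord x (h3 _ (h2 x hx))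
    ext x
    exact fix_of_coprime hP k hord x (hW1 _ (h1 x))
  intro ⟨k, hk⟩
  have hk0 : 0 < orderOf k := orderOf_pos k
  obtain ⟨a, m, hm, hkm⟩ := Nat.exists_eq_pow_mul_and_not_dvd hk0.ne' p hp.ne_one
  refine ⟨a, ?_⟩
  have hmem : k ^ p ^ a ∈ chainStab W₁ W₂ h21 := Subgroup.pow_mem _ hk _
  have hord : orderOf (k ^ p ^ a) = m := by
    rw [orderOf_pow' k (pow_ne_zero a hp.ne_zero), hkm, Nat.gcd_eq_right (Dvd.intro _ rfl)]
    exact Nat.mul_div_cancel_left m (pow_pos hp.pos a)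
  have hcop : (orderOf (k ^ p ^ a)).Coprime p := by
    rw [hord]
    exact ((Nat.Prime.coprime_iff_not_dvd hp).mpr hm).symm
  have := key _ hmem hcop
  exact Subtype.ext this

end Cfsg.Agent.Lib.Helper7.Trv
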