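import Mathlib
import Cfsg.Agent.Lib.Helper7.TrvA

set_option autoImplicit false

namespace Cfsg.Agent.Lib.Helper7.Trv

variable {P : Type*} [Group P]

/-- in a subgroup of prime order every nonidentity element generates -/
theorem mem_zpowers_of_card_prime {p : ℕ} [Fact p.Prime] {L : Subgroup P} (hL : Nat.card L = p)
    {e : P} (heL : e ∈ L) (he1 : e ≠ 1) {a : P} (ha : a ∈ L) : a ∈ Subgroup.zpowers e := by
  have hp : p.Prime := Fact.out
  have : Finite L := Nat.finite_of_card_ne_zero (by rw [hL]; exact hp.ne_zero)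
  have hle : Subgroup.zpowers e ≤ L := by rw [Subgroup.zpowers_le]; exact heL
  have hfin : Finite (Subgroup.zpowers e) := Finite.of_injective (Subgroup.inclusion hle)
    (Subgroup.inclusion_injective hle)
  have hdvd : Nat.card (Subgroup.zpowers e) ∣ p := hL ▸ Subgroup.card_dvd_of_le hle
  have hcard : Nat.card (Subgroup.zpowers e) = p := by
    rcases (Nat.dvd_prime hp).mp hdvd with h | h
    · exfalso
      rw [Nat.card_zpowers, orderOf_eq_one_iff] at h
      exact he1 h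
    · exact h
  have : Subgroup.zpowers e = L := Subgroup.eq_of_le_of_card_ge hle (by rw [hcard, hL])
  rw [this]
  exact ha

theorem exists_ne_one_of_card_prime {p : ℕ} [Fact p.Prime] {L : Subgroup P} (hL : Nat.card L = p) :
    ∃ e ∈ L, e ≠ 1 := by
  have hp : p.Prime := Fact.out
  by_contra hcon
  push Not at hcon
  have : L = ⊥ := by
    rw [eq_bot_iff]
    intro x hx
    exact Subgroup.mem_bot.mpr (hcon x hx)
  rw [this, Subgroup.card_bot] at hL
  exact hp.ne_one hL.symm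

theorem pow_eq_one_of_card_prime {p : ℕ} [Fact p.Prime] {L : Subgroup P} (hL : Nat.card L = p)
    {a : P} (ha : a ∈ L) : a ^ p = 1 := by
  have hp : p.Prime := Fact.out
  have : Finite L := Nat.finite_of_card_ne_zero (by rw [hL]; exact hp.ne_zero)
  have h1 : (⟨a, ha⟩ : L) ^ Nat.card L = 1 := pow_card_eq_one'
  rw [hL] at h1
  exact congrArg Subtype.val h1

variable (p : ℕ) (hc : ∀ a b : P, a * b = b * a) (G : Subgroup (MulAut P))

structure Hyp (u : MulAut P) : Prop where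
  hP : IsPGroup p P
  huG : u ∈ G
  hu1 : u ≠ 1
  hup : u ^ p = 1
  hSyl : ∀ Q : Subgroup (MulAut P), Q ≤ G → IsPGroup p Q → Nat.card Q ≤ p
  hL : Nat.card (commSub hc u) = p
  hLZ : commSub hc u ≤ fixSub u

variable {p hc G}

theorem Hyp.orderOf [Fact p.Prime] {u : MulAut P} (h : Hyp p hc G u) : orderOf u = p :=
  orderOf_eq_prime h.hup h.hu1

theorem Hyp.card_zpowers [Fact p.Prime] {u : MulAut P} (h : Hyp p hc G u) :
    Nat.card (Subgroup.zpowers u) = p := by
  rw [Nat.card_zpowers, h.orderOf]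

theorem Hyp.conj [Finite P] {u : MulAut P} (h : Hyp p hc G u) {g : MulAut P} (hg : g ∈ G) :
    Hyp p hc G (g * u * g⁻¹) where
  hP := h.hP
  huG := G.mul_mem (G.mul_mem hg h.huG) (G.inv_mem hg)
  hu1 := by
    intro h1
    apply h.hu1
    have : u = g⁻¹ * (g * u * g⁻¹) * g := by group
    rw [this, h1]
    group
  hup := by
    rw [conj_pow, h.hup]
    group
  hSyl := h.hSyl
  hL := by
    rw [commSub_conj, Subgroup.card_map_of_injective g.injective]
    exact h.hL
  hLZ := by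
    rw [commSub_conj, fixSub_conj]
    exact Subgroup.map_mono h.hLZ

theorem Hyp.fix_comm {u : MulAut P} (h : Hyp p hc G u) (x : P) : u (x⁻¹ * u x) = x⁻¹ * u x :=
  h.hLZ (comm_mem_commSub hc u x)

theorem Hyp.pow_apply {u : MulAut P} (h : Hyp p hc G u) (x : P) (k : ℕ) :
    (u ^ k) x = x * (x⁻¹ * u x) ^ k := by
  induction k with
  | zero => simp
  | succ k ih =>
    rw [pow_succ', MulAut.mul_apply, ih, map_mul, map_pow, h.fix_comm, pow_succ']
    have : u x = x * (x⁻¹ * u x) := by simp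
    rw [← mul_assoc, ← this]

/-- the key step: two automorphisms in a common chain stabiliser -/
theorem Hyp.key [Finite P] [Fact p.Prime] {u : MulAut P} (h : Hyp p hc G u) {u' : MulAut P}
    (hu' : u' ∈ G) (W₁ W₂ : Subgroup P) (h21 : W₂ ≤ W₁) (h1 : u ∈ chainStab W₁ W₂ h21)
    (h2 : u' ∈ chainStab W₁ W₂ h21) : u' ∈ Subgroup.zpowers u := by
  set K := G ⊓ chainStab W₁ W₂ h21 with hK
  have hKp : IsPGroup p K :=
    (isPGroup_chainStab h.hP W₁ W₂ h21).to_le inf_le_right
  have hcard := h.hSyl K inf_le_left hKp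
  have hle : Subgroup.zpowers u ≤ K := by
    rw [Subgroup.zpowers_le]
    exact ⟨h.huG, h1⟩
  have heq : Subgroup.zpowers u = K :=
    Subgroup.eq_of_le_of_card_ge hle (by rw [h.card_zpowers]; exact hcard)
  rw [heq]
  exact ⟨hu', h2⟩

variable (p hc G)

/-- a pair of non-commensurable transvection-like automorphisms -/
structure Pair (u u' : MulAut P) : Prop where
  hu : Hyp p hc G u
  hu' : Hyp p hc G u'
  hne : u' ∉ Subgroup.zpowers u

variable {p hc G}

namespace Pair

variable {u u' : MulAut P}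

theorem symm [Finite P] [Fact p.Prime] (h : Pair p hc G u u') : Pair p hc G u' u where
  hu := h.hu'
  hu' := h.hu
  hne := by
    intro hmem
    apply h.hne
    have hle : Subgroup.zpowers u ≤ Subgroup.zpowers u' := by
      rw [Subgroup.zpowers_le]; exact hmem
    have heq : Subgroup.zpowers u = Subgroup.zpowers u' :=
      Subgroup.eq_of_le_of_card_ge hle (by rw [h.hu.card_zpowers, h.hu'.card_zpowers])
    rw [heq]
    exact Subgroup.mem_zpowers u'

theorem of_conj [Finite P] {u : MulAut P} (h : Hyp p hc G u) {g : MulAut P} (hg : g ∈ G)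
    (hne : g * u * g⁻¹ ∉ Subgroup.zpowers u) : Pair p hc G u (g * u * g⁻¹) :=
  ⟨h, h.conj hg, hne⟩

/-- `[P,u']` is not centralized by `u` -/
theorem not_le [Finite P] [Fact p.Prime] (h : Pair p hc G u u') :
    ¬ commSub hc u' ≤ fixSub u := by
  intro hle
  have hW2 : commSub hc u' ≤ commSub hc u ⊔ commSub hc u' := le_sup_right
  have hWZ : commSub hc u ⊔ commSub hc u' ≤ fixSub u := sup_le h.hu.hLZ hle
  apply h.hne
  apply h.hu.key h.hu'.huG (commSub hc u ⊔ commSub hc u') (commSub hc u') hW2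
  · refine ⟨fun x => le_sup_left (a := commSub hc u) (comm_mem_commSub hc u x), fun x hx => ?_,
      fun x hx => hle hx⟩
    have : u x = x := hWZ hx
    rw [this, inv_mul_cancel]
    exact Subgroup.one_mem _
  · exact ⟨fun x => hW2 (comm_mem_commSub hc u' x), fun x _ => comm_mem_commSub hc u' x,
      fun x hx => h.hu'.hLZ hx⟩

theorem fix_ne [Finite P] [Fact p.Prime] (h : Pair p hc G u u') {b : P} (hb : b ∈ commSub hc u')
    (hb1 : b ≠ 1) : u b ≠ b := by
  intro hfix
  apply h.not_le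
  intro a ha
  have := mem_zpowers_of_card_prime h.hu'.hL hb hb1 ha
  obtain ⟨k, rfl⟩ := Subgroup.mem_zpowers_iff.mp this
  show u (b ^ k) = b ^ k
  rw [map_zpow, hfix]

/-- `P = Z · [P,u']` -/
theorem exists_mul [Finite P] [Fact p.Prime] (h : Pair p hc G u u') (x : P) :
    ∃ z ∈ fixSub u, ∃ b ∈ commSub hc u', x = z * b := by
  obtain ⟨b₀, hb₀, hb₀1⟩ := exists_ne_one_of_card_prime h.hu'.hL
  have he1 : b₀⁻¹ * u b₀ ≠ 1 := by
    intro h1
    rw [inv_mul_eq_one] at h1
    exact h.fix_ne hb₀ hb₀1 h1.symm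
  have hmem := mem_zpowers_of_card_prime h.hu.hL (comm_mem_commSub hc u b₀) he1
    (comm_mem_commSub hc u x)
  obtain ⟨k, hk⟩ := Subgroup.mem_zpowers_iff.mp hmem
  refine ⟨x * (b₀ ^ k)⁻¹, ?_, b₀ ^ k, Subgroup.zpow_mem _ hb₀ k, by simp⟩
  rw [← ker_commHom hc u, MonoidHom.mem_ker, map_mul, map_inv, map_zpow, commHom_apply,
    commHom_apply, hk, mul_inv_cancel]

/-- `Z = (Z ∩ Z') · [P,u]` -/
theorem exists_mul_of_mem [Finite P] [Fact p.Prime] (h : Pair p hc G u u') {y : P}
    (hy : y ∈ fixSub u) :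
    ∃ c ∈ fixSub u ⊓ fixSub u', ∃ a ∈ commSub hc u, y = c * a := by
  obtain ⟨z', hz', a, ha, rfl⟩ := h.symm.exists_mul y
  refine ⟨z', ⟨?_, hz'⟩, a, ha, rfl⟩
  have : z' = z' * a * a⁻¹ := by simp
  rw [this]
  exact Subgroup.mul_mem _ hy (Subgroup.inv_mem _ (h.hu.hLZ ha))

/-- `P = C · L · L'` -/
theorem exists_mul_mul [Finite P] [Fact p.Prime] (h : Pair p hc G u u') (x : P) :
    ∃ c ∈ fixSub u ⊓ fixSub u', ∃ a ∈ commSub hc u, ∃ b ∈ commSub hc u', x = c * a * b := by
  obtain ⟨z, hz, b, hb, rfl⟩ := h.exists_mul x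
  obtain ⟨c, hcC, a, ha, rfl⟩ := h.exists_mul_of_mem hz
  exact ⟨c, hcC, a, ha, b, hb, rfl⟩

theorem inf_commSub [Finite P] [Fact p.Prime] (h : Pair p hc G u u') :
    (fixSub u ⊓ fixSub u') ⊓ commSub hc u = ⊥ := by
  rw [eq_bot_iff]
  intro x ⟨⟨_, hx2⟩, hx3⟩
  rw [Subgroup.mem_bot]
  by_contra hx1
  exact h.symm.fix_ne hx3 hx1 hx2

/-- `W ∩ Z = L` -/
theorem mem_commSub_of_mem [Finite P] [Fact p.Prime] (h : Pair p hc G u u') {x : P}
    (hx : x ∈ commSub hc u ⊔ commSub hc u') (hxZ : x ∈ fixSub u) : x ∈ commSub hc u := by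
  obtain ⟨a, ha, b, hb, rfl⟩ := (mem_sup_comm hc).mp hx
  have hbZ : b ∈ fixSub u := by
    have : b = a⁻¹ * (a * b) := by simp
    rw [this]
    exact Subgroup.mul_mem _ (Subgroup.inv_mem _ (h.hu.hLZ ha)) hxZ
  have hb1 : b = 1 := by
    by_contra hb1
    exact h.fix_ne hb hb1 hbZ
  rw [hb1, mul_one]
  exact ha

end Pair

end Cfsg.Agent.Lib.Helper7.Trv
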