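import Mathlib
import Cfsg.Agent.Lib.Helper7.TrvB

set_option autoImplicit false

namespace Cfsg.Agent.Lib.Helper7.Exsp

open Cfsg.Agent.Lib.Helper7.Trv

variable {P : Type*} [Group P]

/-- the automorphisms acting trivially on `P/W` -/
def quotStab (W : Subgroup P) : Subgroup (MulAut P) where
  carrier := {k | ∀ x, x⁻¹ * k x ∈ W}
  one_mem' := by
    intro x
    simp
  mul_mem' := by
    intro a b ha hb x
    have e : x⁻¹ * (a * b) x = (x⁻¹ * b x) * ((b x)⁻¹ * a (b x)) := by simp [mul_assoc]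
    rw [e]
    exact W.mul_mem (hb x) (ha _)
  inv_mem' := by
    intro a ha x
    have := ha (a⁻¹ x)
    rw [MulAut.apply_inv_self] at this
    have e : x⁻¹ * a⁻¹ x = ((a⁻¹ x)⁻¹ * x)⁻¹ := by simp
    rw [e]
    exact W.inv_mem this

theorem mem_quotStab {W : Subgroup P} {k : MulAut P} : k ∈ quotStab W ↔ ∀ x, x⁻¹ * k x ∈ W :=
  Iff.rfl

theorem quotStab_map_mem {W : Subgroup P} {k : MulAut P} (hk : k ∈ quotStab W) {w : P}
    (hw : w ∈ W) : k w ∈ W := by
  have : k w = w * (w⁻¹ * k w) := by simp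
  rw [this]
  exact W.mul_mem hw (hk w)

theorem quotStab_mono {W W' : Subgroup P} (h : W ≤ W') : quotStab W ≤ quotStab W' :=
  fun _ hk x => h (hk x)

/-- distinct subgroups of prime order meet trivially -/
theorem inf_eq_bot_of_card_prime {p : ℕ} [Fact p.Prime] {L L₁ : Subgroup P} (hL : Nat.card L = p)
    (hL₁ : Nat.card L₁ = p) (hne : L₁ ≠ L) : L ⊓ L₁ = ⊥ := by
  have hp : p.Prime := Fact.out
  have : Finite L := Nat.finite_of_card_ne_zero (by rw [hL]; exact hp.ne_zero)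
  have : Finite L₁ := Nat.finite_of_card_ne_zero (by rw [hL₁]; exact hp.ne_zero)
  have hdvd : Nat.card (L ⊓ L₁ : Subgroup P) ∣ p := hL ▸ Subgroup.card_dvd_of_le inf_le_left
  rcases (Nat.dvd_prime hp).mp hdvd with h | h
  · exact Subgroup.card_eq_one.mp h
  · exfalso
    have h1 : L ⊓ L₁ = L := Subgroup.eq_of_le_of_card_ge inf_le_left (by rw [h, hL])
    have h2 : L ≤ L₁ := inf_eq_left.mp h1
    exact hne (Subgroup.eq_of_le_of_card_ge h2 (by rw [hL, hL₁])).symm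

/-- a maximal `p`-subgroup of `G` acting trivially on `P/W` contains the stabilizer of `P ≥ W ≥ 1` -/
theorem chainStab_le_of_max [Finite P] {p : ℕ} [Fact p.Prime] (hP : IsPGroup p P)
    {G T : Subgroup (MulAut P)} (hTG : T ≤ G) (hTp : IsPGroup p T)
    (hmax : ∀ Q : Subgroup (MulAut P), Q ≤ G → IsPGroup p Q → T ≤ Q → Q ≤ T) (W : Subgroup P)
    (hTW : T ≤ quotStab W) : G ⊓ chainStab W W le_rfl ≤ T := by
  obtain ⟨K, hKdef⟩ : ∃ K, K = G ⊓ chainStab W W le_rfl := ⟨_, rfl⟩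
  rw [← hKdef]
  have hKp : IsPGroup p K := hKdef ▸ (isPGroup_chainStab hP W W le_rfl).to_le inf_le_right
  have hnorm : T ≤ Subgroup.normalizer (K : Set (MulAut P)) := by
    intro t ht
    have key : ∀ s ∈ T, ∀ k ∈ K, s * k * s⁻¹ ∈ K := by
      intro s hs k hk
      rw [hKdef] at hk ⊢
      obtain ⟨hkG, hk1, -, hk3⟩ := hk
      have hsq := hTW hs
      refine ⟨G.mul_mem (G.mul_mem (hTG hs) hkG) (G.inv_mem (hTG hs)), ?_, ?_, ?_⟩
      · have : s * k * s⁻¹ ∈ quotStab W :=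
          Subgroup.mul_mem _ (Subgroup.mul_mem _ hsq hk1) (Subgroup.inv_mem _ hsq)
        exact this
      · intro x hx
        have h1 : s⁻¹ x ∈ W := quotStab_map_mem (Subgroup.inv_mem _ hsq) hx
        show x⁻¹ * s (k (s⁻¹ x)) ∈ W
        rw [hk3 _ h1, MulAut.apply_inv_self, inv_mul_cancel]
        exact W.one_mem
      · intro x hx
        have h1 : s⁻¹ x ∈ W := quotStab_map_mem (Subgroup.inv_mem _ hsq) hx
        show s (k (s⁻¹ x)) = x
        rw [hk3 _ h1, MulAut.apply_inv_self]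
    rw [Subgroup.mem_normalizer_iff]
    intro k
    constructor
    · exact key t ht k
    · intro hk
      have := key t⁻¹ (T.inv_mem ht) _ hk
      have e : t⁻¹ * (t * k * t⁻¹) * t⁻¹⁻¹ = k := by group
      rwa [e] at this
  have hsup : IsPGroup p (T ⊔ K : Subgroup (MulAut P)) := hTp.to_sup_of_normal_right' hKp hnorm
  have hle : T ⊔ K ≤ G := sup_le hTG (hKdef ▸ inf_le_left)
  exact le_sup_right.trans (hmax _ hle hsup le_sup_left)

/-- the hypotheses of the common-centre transvection lemma -/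
structure CHyp (p : ℕ) (G T I : Subgroup (MulAut P)) (L : Subgroup P) (g : MulAut P) : Prop where
  hP : IsPGroup p P
  hTG : T ≤ G
  hIT : I ≤ T
  hTp : IsPGroup p T
  hmax : ∀ Q : Subgroup (MulAut P), Q ≤ G → IsPGroup p Q → T ≤ Q → Q ≤ T
  hg : g ∈ G
  hgT : ∀ t ∈ T, g * t * g⁻¹ ∈ T → t ∈ I
  hne : ∃ t ∈ T, t ∉ I
  hL : Nat.card L = p
  hTL1 : ∀ t ∈ T, ∀ x, x⁻¹ * t x ∈ L
  hTL2 : ∀ t ∈ T, ∀ x ∈ L, t x = x
  hIn : ∀ i ∈ I, g⁻¹ * i * g ∈ I

namespace CHyp

variable {p : ℕ} {G T I : Subgroup (MulAut P)} {L : Subgroup P} {g : MulAut P}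

theorem conj_quot (h : CHyp p G T I L g) {t : MulAut P} (ht : t ∈ T) (x : P) :
    x⁻¹ * (g * t * g⁻¹) x ∈ L.map g.toMonoidHom := by
  refine ⟨(g⁻¹ x)⁻¹ * t (g⁻¹ x), h.hTL1 t ht _, ?_⟩
  show g ((g⁻¹ x)⁻¹ * t (g⁻¹ x)) = x⁻¹ * g (t (g⁻¹ x))
  rw [map_mul, map_inv, MulAut.apply_inv_self]

theorem map_ne [Finite P] [Fact p.Prime] (h : CHyp p G T I L g) : L.map g.toMonoidHom ≠ L := by
  intro heq
  have hginv : ∀ x ∈ L, g⁻¹ x ∈ L := by
    intro x hx
    rw [← heq] at hx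
    obtain ⟨y, hy, rfl⟩ := hx
    show g⁻¹ (g y) ∈ L
    rw [MulAut.inv_apply_self]
    exact hy
  have hQp : IsPGroup p (G ⊓ chainStab L L le_rfl : Subgroup (MulAut P)) :=
    (isPGroup_chainStab h.hP L L le_rfl).to_le inf_le_right
  have hTQ : T ≤ G ⊓ chainStab L L le_rfl := by
    intro t ht
    refine ⟨h.hTG ht, h.hTL1 t ht, fun x hx => ?_, h.hTL2 t ht⟩
    rw [h.hTL2 t ht x hx, inv_mul_cancel]
    exact L.one_mem
  have hQT := h.hmax _ inf_le_left hQp hTQ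
  obtain ⟨t, ht, htI⟩ := h.hne
  apply htI
  apply h.hgT t ht
  apply hQT
  refine ⟨G.mul_mem (G.mul_mem h.hg (h.hTG ht)) (G.inv_mem h.hg), ?_, ?_, ?_⟩
  · intro x
    have := h.conj_quot ht x
    rwa [heq] at this
  · intro x hx
    show x⁻¹ * g (t (g⁻¹ x)) ∈ L
    rw [h.hTL2 t ht _ (hginv x hx), MulAut.apply_inv_self, inv_mul_cancel]
    exact L.one_mem
  · intro x hx
    show g (t (g⁻¹ x)) = x
    rw [h.hTL2 t ht _ (hginv x hx), MulAut.apply_inv_self]

theorem card_map [Fact p.Prime] (h : CHyp p G T I L g) : Nat.card (L.map g.toMonoidHom) = p := by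
  rw [Subgroup.card_map_of_injective g.injective]
  exact h.hL

theorem inf_map [Finite P] [Fact p.Prime] (h : CHyp p G T I L g) : L ⊓ L.map g.toMonoidHom = ⊥ :=
  inf_eq_bot_of_card_prime h.hL h.card_map h.map_ne

/-- `I` is trivial -/
theorem I_trivial [Finite P] [Fact p.Prime] (h : CHyp p G T I L g) : ∀ i ∈ I, i = 1 := by
  intro i hi
  ext x
  have h1 : x⁻¹ * i x ∈ L := h.hTL1 i (h.hIT hi) x
  have h2 : x⁻¹ * i x ∈ L.map g.toMonoidHom := by
    have := h.conj_quot (h.hIT (h.hIn i hi)) x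
    have e : g * (g⁻¹ * i * g) * g⁻¹ = i := by group
    rwa [e] at this
  have h3 : x⁻¹ * i x ∈ L ⊓ L.map g.toMonoidHom := ⟨h1, h2⟩
  rw [h.inf_map, Subgroup.mem_bot, inv_mul_eq_one] at h3
  rw [MulAut.one_apply]
  exact h3.symm

/-- the conjugate of `T` -/
theorem conj_max [Finite P] (h : CHyp p G T I L g) :
    ∀ Q : Subgroup (MulAut P), Q ≤ G → IsPGroup p Q → T.map (MulAut.conj g).toMonoidHom ≤ Q →
      Q ≤ T.map (MulAut.conj g).toMonoidHom := by
  intro Q hQG hQp hTQ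
  have h1 : Q.map (MulAut.conj g⁻¹).toMonoidHom ≤ G := by
    rintro _ ⟨q, hq, rfl⟩
    show g⁻¹ * q * g⁻¹⁻¹ ∈ G
    exact G.mul_mem (G.mul_mem (G.inv_mem h.hg) (hQG hq)) (G.inv_mem (G.inv_mem h.hg))
  have h2 : IsPGroup p (Q.map (MulAut.conj g⁻¹).toMonoidHom) := hQp.map _
  have h3 : T ≤ Q.map (MulAut.conj g⁻¹).toMonoidHom := by
    intro t ht
    refine ⟨g * t * g⁻¹, hTQ ⟨t, ht, rfl⟩, ?_⟩
    show g⁻¹ * (g * t * g⁻¹) * g⁻¹⁻¹ = t
    group
  have h4 := h.hmax _ h1 h2 h3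
  intro q hq
  refine ⟨g⁻¹ * q * g, h4 ⟨q, hq, ?_⟩, ?_⟩
  · show g⁻¹ * q * g⁻¹⁻¹ = g⁻¹ * q * g
    rw [inv_inv]
  · show g * (g⁻¹ * q * g) * g⁻¹ = q
    group

/-- `T` acts faithfully on `W = L g(L)` -/
theorem eq_one_of_fix [Finite P] [Fact p.Prime] (h : CHyp p G T I L g) {t : MulAut P} (ht : t ∈ T)
    (hfix : ∀ x ∈ L ⊔ L.map g.toMonoidHom, t x = x) : t = 1 := by
  obtain ⟨W, hWdef⟩ : ∃ W, W = L ⊔ L.map g.toMonoidHom := ⟨_, rfl⟩
  rw [← hWdef] at hfix
  have hTW : T ≤ quotStab W := fun s hs x => hWdef ▸ Subgroup.mem_sup_left (h.hTL1 s hs x)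
  have hT'W : T.map (MulAut.conj g).toMonoidHom ≤ quotStab W := by
    rintro _ ⟨s, hs, rfl⟩ x
    rw [hWdef]
    exact Subgroup.mem_sup_right (h.conj_quot hs x)
  have hT'G : T.map (MulAut.conj g).toMonoidHom ≤ G := by
    rintro _ ⟨s, hs, rfl⟩
    exact G.mul_mem (G.mul_mem h.hg (h.hTG hs)) (G.inv_mem h.hg)
  have hK1 := chainStab_le_of_max h.hP h.hTG h.hTp h.hmax W hTW
  have hK2 := chainStab_le_of_max h.hP hT'G (h.hTp.map _) h.conj_max W hT'W
  have htK : t ∈ G ⊓ chainStab W W le_rfl := by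
    refine ⟨h.hTG ht, hTW ht, fun x hx => ?_, hfix⟩
    rw [hfix x hx, inv_mul_cancel]
    exact W.one_mem
  obtain ⟨s, hs, hst⟩ := hK2 htK
  have hst' : g * s * g⁻¹ = t := hst
  have hsI : s ∈ I := h.hgT s hs (hst' ▸ ht)
  have hs1 : s = 1 := h.I_trivial s hsI
  rw [← hst', hs1]
  group

/-- the Sylow subgroup has order at most `p` -/
theorem card_le [Finite P] [Fact p.Prime] (h : CHyp p G T I L g) : Nat.card T ≤ p := by
  obtain ⟨b, hb, hb1⟩ := exists_ne_one_of_card_prime h.card_map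
  have : Finite L := Nat.finite_of_card_ne_zero (by rw [h.hL]; exact (Fact.out : p.Prime).ne_zero)
  let f : T → L := fun t => ⟨b⁻¹ * (t : MulAut P) b, h.hTL1 t t.2 b⟩
  have hf : Function.Injective f := by
    intro t s hts
    have h1 : b⁻¹ * (t : MulAut P) b = b⁻¹ * (s : MulAut P) b := congrArg Subtype.val hts
    have h2 : (t : MulAut P) b = (s : MulAut P) b := mul_left_cancel h1
    have h3 : ((s : MulAut P)⁻¹ * (t : MulAut P)) b = b := by
      show (s : MulAut P)⁻¹ ((t : MulAut P) b) = b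
      rw [h2, MulAut.inv_apply_self]
    have hmem : (s : MulAut P)⁻¹ * (t : MulAut P) ∈ T := T.mul_mem (T.inv_mem s.2) t.2
    have hfix : ∀ x ∈ L ⊔ L.map g.toMonoidHom, ((s : MulAut P)⁻¹ * (t : MulAut P)) x = x := by
      have hle : L ⊔ L.map g.toMonoidHom ≤ fixSub ((s : MulAut P)⁻¹ * (t : MulAut P)) := by
        apply sup_le
        · intro x hx
          exact h.hTL2 _ hmem x hx
        · intro x hx
          obtain ⟨k, rfl⟩ := Subgroup.mem_zpowers_iff.mp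
            (mem_zpowers_of_card_prime h.card_map hb hb1 hx)
          show ((s : MulAut P)⁻¹ * (t : MulAut P)) (b ^ k) = b ^ k
          rw [map_zpow, h3]
      exact fun x hx => hle hx
    have h4 := h.eq_one_of_fix hmem hfix
    have h5 : (t : MulAut P) = (s : MulAut P) := by
      have : (t : MulAut P) = (s : MulAut P) * ((s : MulAut P)⁻¹ * (t : MulAut P)) := by group
      rw [this, h4, mul_one]
    exact Subtype.ext h5
  have := Nat.card_le_card_of_injective f hf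
  rwa [h.hL] at this

end CHyp

end Cfsg.Agent.Lib.Helper7.Exsp
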