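import Mathlib
import Cfsg.Prelude.Def_FusionSystem
import Cfsg.Agent.Lib.Helper7.FusionNormal
import Cfsg.Agent.Lib.Helper7.FusionEssential
import Cfsg.Agent.Lib.Helper7.Core

set_option autoImplicit false

namespace Cfsg.Agent.Lib.Helper7

open Cfsg Cfsg.FusionSystem

variable {Ω : Type*} [Group Ω] {S : Subgroup Ω}

/-- An essential subgroup's automizer has no normal Sylow `p`-subgroup. -/
theorem not_isEssential_of_normal_sylow [Finite S] (p : ℕ) [Fact p.Prime] (hS : IsPGroup p S)
    (F : FusionSystem S) {P : Subgroup Ω}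
    (R : Sylow p ↥(F.autGroup P)) (hR : (R : Subgroup ↥(F.autGroup P)).Normal) :
    ¬ F.IsEssential p P := by
  intro hess
  have hrad := isRadical_of_isEssential p hS F P hess
  obtain ⟨hcen, -, hn, M, hM⟩ := hess
  haveI := finite_of_le hcen.1
  haveI : Finite (MulAut ↥P) := inferInstance
  have h1 : (R : Subgroup ↥(F.autGroup P)) ≤ pCore p (F.autGroup P) := le_pCore hR R.2
  have h2 : (R : Subgroup ↥(F.autGroup P)) ≤ (Inn P).subgroupOf (F.autGroup P) := by
    intro x hx
    rw [Subgroup.mem_subgroupOf, ← hrad.2]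
    exact ⟨x, h1 hx, rfl⟩
  have h3 : ¬ p ∣ ((Inn P).subgroupOf (F.autGroup P)).index := by
    intro hdvd
    exact R.not_dvd_index (hdvd.trans (Subgroup.index_dvd_of_le h2))
  apply h3
  rw [Subgroup.index_eq_card]
  exact hM.1

theorem isNormal_top_of_normal_sylow [Finite S] (p : ℕ) [Fact p.Prime] (hS : IsPGroup p S)
    (F : FusionSystem S) (hF : F.IsSaturated p)
    (hcl : ∀ P : Subgroup Ω, F.IsFullyNormalized P → F.IsCentric P → F.IsRadical p P →
      ∃ R : Sylow p ↥(F.autGroup P), (R : Subgroup ↥(F.autGroup P)).Normal) :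
    F.IsNormal S := by
  rw [isNormal_iff_essential_invariant p hS F hF]
  rintro P (rfl | hess)
  · refine ⟨le_rfl, fun α _ => ?_⟩
    rw [Subgroup.subgroupOf_self]
    exact Subgroup.map_top_of_surjective _ α.surjective
  · exfalso
    obtain ⟨R, hR⟩ := hcl P hess.2.1 hess.1 (isRadical_of_isEssential p hS F P hess)
    exact not_isEssential_of_normal_sylow p hS F R hR hess

end Cfsg.Agent.Lib.Helper7
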