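import Mathlib
import Cfsg.Prelude.Def_FusionSystem
import Cfsg.Agent.Lib.Helper7.EssentialProper
import Cfsg.Agent.Lib.Helper7.FusionCentricSub
import Cfsg.Agent.Lib.Helper7.FusionTopNormal

set_option autoImplicit false

namespace Cfsg.Agent.Lib.Helper7

open Cfsg Cfsg.FusionSystem

variable {Ω : Type*} [Group Ω] {S : Subgroup Ω}

/-- transporters: maps `N_S(P) → S` of the system carrying `P` onto `Q` -/
def Tr (F : FusionSystem S) (Q P : Subgroup Ω) : Set (↥(normalizerIn S P) →* Ω) :=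
  {χ | P ≤ S ∧ χ ∈ F.Hom (normalizerIn S P) ∧ (P.subgroupOf (normalizerIn S P)).map χ = Q}

theorem Tr.apply_mem {F : FusionSystem S} {Q P : Subgroup Ω} {χ : ↥(normalizerIn S P) →* Ω}
    (hχ : χ ∈ Tr F Q P) {x : Ω} (hx : x ∈ P) (hxN : x ∈ normalizerIn S P) : χ ⟨x, hxN⟩ ∈ Q := by
  rw [← hχ.2.2]
  exact ⟨⟨x, hxN⟩, Subgroup.mem_subgroupOf.mpr hx, rfl⟩

theorem Tr.isConj {F : FusionSystem S} {Q P : Subgroup Ω} {χ : ↥(normalizerIn S P) →* Ω}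
    (hχ : χ ∈ Tr F Q P) : F.IsConj P Q := by
  have := isConj_map_of_le F (le_normalizerIn hχ.1) hχ.2.1
  rwa [hχ.2.2] at this

/-- the compatibility condition defining the subsystem -/
def Good (F : FusionSystem S) (Q : Subgroup Ω) (M : Subgroup (MulAut Q)) {P : Subgroup Ω}
    (φ : P →* Ω) : Prop :=
  ∀ (P₁ P₂ : Subgroup Ω), P₁ = P → P₂ = φ.range → ∀ χ₁ ∈ Tr F Q P₁, ∀ χ₂ ∈ Tr F Q P₂,
    ∃ β ∈ M, ∀ (x : P) (hx₁ : (x : Ω) ∈ normalizerIn S P₁) (hx₂ : φ x ∈ normalizerIn S P₂)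
      (hq : χ₁ ⟨x, hx₁⟩ ∈ Q), ((β ⟨χ₁ ⟨x, hx₁⟩, hq⟩ : Q) : Ω) = χ₂ ⟨φ x, hx₂⟩

/-- Lemma R: the restriction of a map on a strictly larger subgroup is good (w.r.t. the group generated by the
extendable automorphisms). -/
theorem good_of_restrict [Finite S] (p : ℕ) [Fact p.Prime] (hS : IsPGroup p S)
    (F : FusionSystem S) (Q : Subgroup Ω) {P R : Subgroup Ω} (hPR : P < R) (ψ : R →* Ω)
    (hψ : ψ ∈ F.Hom R) :
    Good F Q (Subgroup.closure (extGen F Q)) (ψ.comp (Subgroup.inclusion hPR.le)) := by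
  intro P₁ P₂ h₁ h₂ χ₁ hχ₁ χ₂ hχ₂
  subst h₁
  have hRS : R ≤ S := (F.le_of_mem hψ).1
  have hPS : P₁ ≤ S := hPR.le.trans hRS
  haveI := finite_of_le hRS
  have hRp : IsPGroup p R := hS.to_le hRS
  -- N' = N_R(P)
  have hN'N : normalizerIn R P₁ ≤ normalizerIn S P₁ := inf_le_inf_right _ hRS
  have hPN' : P₁ ≤ normalizerIn R P₁ := le_normalizerIn hPR.le
  have hPN : P₁ ≤ normalizerIn S P₁ := le_normalizerIn hPS
  have hN'R : normalizerIn R P₁ ≤ R := normalizerIn_le R P₁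
  obtain ⟨g, hgN', hgP⟩ := lt_normalizerIn_of_ne hRp hPR.le hPR.ne
  -- χ₁ restricted to N'
  have hχ₁' := fs_restrict_mem F hN'N hχ₁.2.1
  obtain ⟨ι, hι, hιe⟩ := F.inv_mem hχ₁'
  -- ι maps X into N' ≤ R
  have hιR : ∀ y : (χ₁.comp (Subgroup.inclusion hN'N)).range, ι y ∈ R := by
    rintro ⟨_, x, rfl⟩
    rw [hιe]; exact hN'R x.2
  have hψι := F.comp_mem hι hψ hιR
  -- ψ(N') ≤ N_S(P₂)
  have hP₂ : P₂ = (P₁.subgroupOf R).map ψ := by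
    rw [h₂, range_comp_inclusion]
  have hψN : ∀ y : (χ₁.comp (Subgroup.inclusion hN'N)).range,
      (ψ.comp (ι.codRestrict R hιR)) y ∈ normalizerIn S P₂ := by
    rintro ⟨_, x, rfl⟩
    show ψ ⟨ι ⟨_, _⟩, _⟩ ∈ _
    have e : (⟨ι ⟨(χ₁.comp (Subgroup.inclusion hN'N)) x, ⟨x, rfl⟩⟩, hιR _⟩ : R) =
        Subgroup.inclusion hN'R x := Subtype.ext (hιe x)
    rw [e]
    refine ⟨(F.le_of_mem hψ).2 _, ?_⟩
    haveI : Finite P₂ := finite_of_le hχ₂.1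
    apply mem_normalizer_of_conj_mem_finite
    intro y hy
    rw [hP₂] at hy ⊢
    obtain ⟨z, hz, rfl⟩ := hy
    have hzP : (z : Ω) ∈ P₁ := Subgroup.mem_subgroupOf.mp hz
    have hconj : (x : Ω) * z * (x : Ω)⁻¹ ∈ P₁ :=
      (Subgroup.mem_normalizer_iff.mp x.2.2 z).mp hzP
    refine ⟨Subgroup.inclusion hN'R x * z * (Subgroup.inclusion hN'R x)⁻¹,
      Subgroup.mem_subgroupOf.mpr hconj, ?_⟩
    rw [map_mul, map_mul, map_inv]
  have hθ := F.comp_mem hψι hχ₂.2.1 hψN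
  have hQS : Q ≤ S := by
    rw [← hχ₁.2.2]
    rintro _ ⟨x, -, rfl⟩
    exact (F.le_of_mem hχ₁.2.1).2 x
  haveI := finite_of_le hQS
  -- key property of θ
  have hθe : ∀ (x : normalizerIn R P₁) (hm : ψ (Subgroup.inclusion hN'R x) ∈ normalizerIn S P₂),
      (χ₂.comp ((ψ.comp (ι.codRestrict R hιR)).codRestrict _ hψN))
        ⟨χ₁ (Subgroup.inclusion hN'N x), ⟨x, rfl⟩⟩ = χ₂ ⟨ψ (Subgroup.inclusion hN'R x), hm⟩ := by
    intro x hm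
    show χ₂ ⟨ψ ⟨ι ⟨_, _⟩, _⟩, _⟩ = _
    congr 2
    congr 1
    exact Subtype.ext (hιe x)
  -- Q ≤ X
  have hQX : Q ≤ (χ₁.comp (Subgroup.inclusion hN'N)).range := by
    rw [← hχ₁.2.2]
    rintro _ ⟨x, hx, rfl⟩
    exact ⟨⟨x, hPN' (Subgroup.mem_subgroupOf.mp hx)⟩, rfl⟩
  have hQX' : Q < (χ₁.comp (Subgroup.inclusion hN'N)).range := by
    refine lt_of_le_of_ne hQX (fun heq => hgP ?_)
    have hgX : χ₁ ⟨g, hN'N hgN'⟩ ∈ (χ₁.comp (Subgroup.inclusion hN'N)).range := ⟨⟨g, hgN'⟩, rfl⟩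
    rw [← heq, ← hχ₁.2.2] at hgX
    obtain ⟨z, hz, hzg⟩ := hgX
    have := F.injective_of_mem hχ₁.2.1 hzg
    have hzP : (z : Ω) ∈ P₁ := Subgroup.mem_subgroupOf.mp hz
    rw [this] at hzP
    exact hzP
  -- θ maps Q into Q
  have hθQ : ∀ q : Q, (χ₂.comp ((ψ.comp (ι.codRestrict R hιR)).codRestrict _ hψN))
      (Subgroup.inclusion hQX q) ∈ Q := by
    rintro ⟨q, hq⟩
    have hq' := hq
    rw [← hχ₁.2.2] at hq'
    obtain ⟨x, hx, rfl⟩ := hq'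
    have hxP : (x : Ω) ∈ P₁ := Subgroup.mem_subgroupOf.mp hx
    have hψx : ψ (Subgroup.inclusion hN'R ⟨x, hPN' hxP⟩) ∈ P₂ := by
      rw [hP₂]
      exact ⟨⟨x, hPR.le hxP⟩, Subgroup.mem_subgroupOf.mpr hxP, rfl⟩
    have hm : ψ (Subgroup.inclusion hN'R ⟨x, hPN' hxP⟩) ∈ normalizerIn S P₂ :=
      le_normalizerIn hχ₂.1 hψx
    have := hθe ⟨x, hPN' hxP⟩ hm
    have e : (Subgroup.inclusion hQX ⟨χ₁ x, hq⟩ : (χ₁.comp (Subgroup.inclusion hN'N)).range) =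
        ⟨χ₁ (Subgroup.inclusion hN'N ⟨x, hPN' hxP⟩), ⟨⟨x, hPN' hxP⟩, rfl⟩⟩ := Subtype.ext rfl
    rw [e, this]
    exact Tr.apply_mem hχ₂ hψx hm
  let f : Q →* Q := ((χ₂.comp ((ψ.comp (ι.codRestrict R hιR)).codRestrict _ hψN)).comp
    (Subgroup.inclusion hQX)).codRestrict Q hθQ
  have hfinj : Function.Injective f := by
    intro a b hab
    have h1 := congrArg Subtype.val hab
    exact Subgroup.inclusion_injective hQX (F.injective_of_mem hθ h1)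
  let β : MulAut Q := MulEquiv.ofBijective f ⟨hfinj, Finite.injective_iff_surjective.mp hfinj⟩
  have hβext : β ∈ extGen F Q := ⟨_, hQX', _, hθ, fun x => rfl⟩
  refine ⟨β, Subgroup.subset_closure hβext, ?_⟩
  intro x hx₁ hx₂ hq
  show (χ₂.comp ((ψ.comp (ι.codRestrict R hιR)).codRestrict _ hψN))
    (Subgroup.inclusion hQX ⟨χ₁ ⟨x, hx₁⟩, hq⟩) = _
  have := hθe ⟨x, hPN' x.2⟩ hx₂
  have e : (Subgroup.inclusion hQX ⟨χ₁ ⟨x, hx₁⟩, hq⟩ : (χ₁.comp (Subgroup.inclusion hN'N)).range) =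
      ⟨χ₁ (Subgroup.inclusion hN'N ⟨x, hPN' x.2⟩), ⟨⟨x, hPN' x.2⟩, rfl⟩⟩ := Subtype.ext rfl
  rw [e, this]
  rfl

theorem not_isEssential_top [Finite S] (p : ℕ) [Fact p.Prime] (hS : IsPGroup p S)
    (F : FusionSystem S) (hF : F.IsSaturated p) : ¬ F.IsEssential p S := by
  obtain ⟨-, T, hT⟩ := isFullyAutomized_top_of_isSaturated p hS F hF
  apply not_isEssential_of_normal_sylow p hS F T
  rw [hT]
  refine ⟨fun n hn g => ?_⟩
  rw [Subgroup.mem_subgroupOf] at hn ⊢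
  obtain ⟨s, hs, hsn⟩ := (mem_autInducedBy_iff S S _).mp hn
  rw [mem_autInducedBy_iff]
  refine ⟨((g : MulAut S) ⟨s, hs⟩ : S), ((g : MulAut S) ⟨s, hs⟩).2, fun x => ?_⟩
  show ((((g : MulAut S) * n * (g : MulAut S)⁻¹) x : S) : Ω) = _
  simp only [MulAut.mul_apply]
  have e : (n : MulAut S) ((g : MulAut S)⁻¹ x) =
      (⟨s, hs⟩ : S) * ((g : MulAut S)⁻¹ x) * (⟨s, hs⟩ : S)⁻¹ := Subtype.ext (hsn _)
  rw [e, map_mul, map_mul, map_inv, MulAut.apply_inv_self]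
  rfl

theorem exists_Tr [Finite S] (p : ℕ) [Fact p.Prime] (hS : IsPGroup p S)
    (F : FusionSystem S) (hF : F.IsSaturated p) {Q P : Subgroup Ω} (hFN : F.IsFullyNormalized Q)
    (hc : F.IsConj P Q) : ∃ χ, χ ∈ Tr F Q P := by
  obtain ⟨R', hcR, hFAR, hRecR⟩ := hF Q hFN.1
  obtain ⟨hFA, hRec⟩ := isFullyAutomized_isReceptive_of_isFullyNormalized p hS F hFN hFAR hRecR hcR
  obtain ⟨χ, hχ, -, hχQ⟩ := hom_normalizer_of_fullyAutomized_receptive p hS F Q P hFA hRec hc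
  exact ⟨χ, (isConj_le F hc).1, hχ, hχQ⟩

/-- the subsystem omitting the class of `Q` -/
def omitSystem [Finite S] (p : ℕ) [Fact p.Prime] (hS : IsPGroup p S)
    (F : FusionSystem S) (hF : F.IsSaturated p) (Q : Subgroup Ω) (hFN : F.IsFullyNormalized Q)
    (hQne : Q ≠ S) : FusionSystem S where
  Hom P := {φ | φ ∈ F.Hom P ∧ Good F Q (Subgroup.closure (extGen F Q)) φ}
  le_of_mem h := F.le_of_mem h.1
  injective_of_mem h := F.injective_of_mem h.1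
  conj_mem := by
    intro P g hP hg
    refine ⟨F.conj_mem hP hg, ?_⟩
    by_cases hPS : P = S
    · -- no transporters
      intro P₁ P₂ h₁ h₂ χ₁ hχ₁ χ₂ hχ₂
      exfalso
      subst h₁
      have hc := Tr.isConj hχ₁
      apply hQne
      have hle := (isConj_le F hc).2
      apply Subgroup.eq_of_le_of_card_ge hle
      rw [← card_eq_of_isConj F hc, hPS]
    · have hlt : P < S := lt_of_le_of_ne hP hPS
      have := good_of_restrict p hS F Q hlt (conjHom S g) (F.conj_mem le_rfl hg)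
      exact this
  comp_mem := by
    rintro P R φ ψ ⟨hφ, hφG⟩ ⟨hψ, hψG⟩ h
    refine ⟨F.comp_mem hφ hψ h, ?_⟩
    intro P₁ P₂ h₁ h₂ χ₁ hχ₁ χ₂ hχ₂
    subst h₁
    have hRS : R ≤ S := (F.le_of_mem hψ).1
    haveI := finite_of_le hRS
    have hcP : F.IsConj P₁ Q := Tr.isConj hχ₁
    have hcP' : F.IsConj φ.range Q :=
      isConj_trans F (isConj_symm F ⟨φ, hφ, rfl⟩) hcP
    obtain ⟨χ', hχ'⟩ := exists_Tr p hS F hF hFN hcP'
    obtain ⟨β₁, hβ₁, hβ₁e⟩ := hφG P₁ φ.range rfl rfl χ₁ hχ₁ χ' hχ'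
    have hrR : φ.range ≤ R := by rintro _ ⟨x, rfl⟩; exact h x
    have hrange : (ψ.comp (φ.codRestrict R h)).range = (ψ.comp (Subgroup.inclusion hrR)).range := by
      ext y
      constructor
      · rintro ⟨x, rfl⟩; exact ⟨⟨φ x, ⟨x, rfl⟩⟩, rfl⟩
      · rintro ⟨⟨_, x, rfl⟩, rfl⟩; exact ⟨x, rfl⟩
    have hβ₂ : ∃ β₂ ∈ Subgroup.closure (extGen F Q), ∀ (y : φ.range)
        (hy₁ : (y : Ω) ∈ normalizerIn S φ.range)
        (hy₂ : (ψ.comp (Subgroup.inclusion hrR)) y ∈ normalizerIn S P₂)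
        (hq : χ' ⟨y, hy₁⟩ ∈ Q), ((β₂ ⟨χ' ⟨y, hy₁⟩, hq⟩ : Q) : Ω) =
          χ₂ ⟨(ψ.comp (Subgroup.inclusion hrR)) y, hy₂⟩ := by
      by_cases heq : φ.range = R
      · have h₂' : P₂ = ψ.range := by
          rw [h₂, hrange]
          ext y
          constructor
          · rintro ⟨x, rfl⟩; exact ⟨_, rfl⟩
          · rintro ⟨x, rfl⟩
            exact ⟨⟨x, heq ▸ x.2⟩, rfl⟩
        obtain ⟨β₂, hβ₂, hβ₂e⟩ := hψG φ.range P₂ heq h₂' χ' hχ' χ₂ hχ₂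
        refine ⟨β₂, hβ₂, fun y hy₁ hy₂ hq => ?_⟩
        exact hβ₂e ⟨y, hrR y.2⟩ hy₁ hy₂ hq
      · have hlt : φ.range < R := lt_of_le_of_ne hrR heq
        have := good_of_restrict p hS F Q hlt ψ hψ
        exact this φ.range P₂ rfl (h₂.trans hrange) χ' hχ' χ₂ hχ₂
    obtain ⟨β₂, hβ₂, hβ₂e⟩ := hβ₂
    refine ⟨β₂ * β₁, Subgroup.mul_mem _ hβ₂ hβ₁, fun x hx₁ hx₂ hq => ?_⟩
    have hPS : P₁ ≤ S := hχ₁.1
    have hφxN : φ x ∈ normalizerIn S φ.range := le_normalizerIn hχ'.1 ⟨x, rfl⟩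
    have e1 := hβ₁e x hx₁ hφxN hq
    have hq' : χ' ⟨φ x, hφxN⟩ ∈ Q := Tr.apply_mem hχ' ⟨x, rfl⟩ hφxN
    have e2 : β₁ ⟨χ₁ ⟨x, hx₁⟩, hq⟩ = ⟨χ' ⟨φ x, hφxN⟩, hq'⟩ := Subtype.ext e1
    rw [MulAut.mul_apply, e2]
    exact hβ₂e ⟨φ x, ⟨x, rfl⟩⟩ hφxN hx₂ hq'
  inv_mem := by
    rintro P φ ⟨hφ, hφG⟩
    obtain ⟨ι, hι, hιe⟩ := F.inv_mem hφ
    refine ⟨ι, ⟨hι, ?_⟩, hιe⟩
    intro P₁ P₂ h₁ h₂ χ₁ hχ₁ χ₂ hχ₂
    have hιr : ι.range = P := by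
      ext y
      constructor
      · rintro ⟨⟨_, x, rfl⟩, rfl⟩
        rw [hιe]; exact x.2
      · intro hy
        exact ⟨⟨φ ⟨y, hy⟩, ⟨⟨y, hy⟩, rfl⟩⟩, hιe ⟨y, hy⟩⟩
    obtain ⟨β, hβ, hβe⟩ := hφG P₂ P₁ (h₂.trans hιr) h₁ χ₂ hχ₂ χ₁ hχ₁
    refine ⟨β⁻¹, Subgroup.inv_mem _ hβ, ?_⟩
    rintro ⟨_, x, rfl⟩ hx₁ hx₂ hq
    have hx₂' : (x : Ω) ∈ normalizerIn S P₂ := by
      have := hx₂
      rw [hιe] at this
      exact this
    have hq₂ : χ₂ ⟨x, hx₂'⟩ ∈ Q := Tr.apply_mem hχ₂ (by rw [h₂, hιr]; exact x.2) hx₂'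
    have e1 := hβe x hx₂' hx₁ hq₂
    have e2 : β ⟨χ₂ ⟨x, hx₂'⟩, hq₂⟩ = ⟨χ₁ ⟨φ x, hx₁⟩, hq⟩ := Subtype.ext e1
    rw [← e2, MulAut.inv_apply_self]
    show χ₂ ⟨x, hx₂'⟩ = χ₂ ⟨ι ⟨φ x, _⟩, hx₂⟩
    congr 1
    exact Subtype.ext (hιe x).symm

theorem essential_class_needed [Finite S] (p : ℕ) [Fact p.Prime] (hS : IsPGroup p S)
    (F : FusionSystem S) (hF : F.IsSaturated p) (Q : Subgroup Ω) (hQ : F.IsEssential p Q) :
    ∃ E : FusionSystem S, (∀ R : Subgroup Ω, R ≤ S → ¬ F.IsConj Q R → F.autGroup R ≤ E.autGroup R) ∧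
      ¬ F ≤ E := by
  have hFN := hQ.2.1
  have hQS := hFN.1
  have hQne : Q ≠ S := by
    rintro rfl
    exact not_isEssential_top p hS F hF hQ
  refine ⟨omitSystem p hS F hF Q hFN hQne, ?_, ?_⟩
  · intro R hRS hnc α hα
    rw [mem_autGroup_iff _ hRS]
    refine ⟨(mem_autGroup_iff F hRS α).mp hα, ?_⟩
    intro P₁ P₂ h₁ h₂ χ₁ hχ₁ χ₂ hχ₂
    exfalso
    subst h₁
    exact hnc (isConj_symm F (Tr.isConj hχ₁))
  · intro hle
    have hne := closure_extGen_ne_of_isEssential p hS F hF hQ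
    apply hne
    apply le_antisymm (closure_extGen_le_autGroup F Q)
    intro α hα
    have hα' := (mem_autGroup_iff F hQS α).mp hα
    obtain ⟨-, hG⟩ := hle Q hα'
    have hid : (normalizerIn S Q).subtype ∈ Tr F Q Q := by
      refine ⟨hQS, fs_subtype_mem F (normalizerIn_le S Q), ?_⟩
      ext y
      constructor
      · rintro ⟨x, hx, rfl⟩; exact Subgroup.mem_subgroupOf.mp hx
      · intro hy
        exact ⟨⟨y, le_normalizerIn hQS hy⟩, Subgroup.mem_subgroupOf.mpr hy, rfl⟩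
    obtain ⟨β, hβ, hβe⟩ := hG Q Q rfl (range_subtype_comp_mulAut α).symm _ hid _ hid
    have : β = α := by
      ext x
      exact hβe x (le_normalizerIn hQS x.2) (le_normalizerIn hQS (α x).2) x.2
    rw [← this]
    exact hβ

end Cfsg.Agent.Lib.Helper7
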