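import Mathlib
import Cfsg.Agent.Lib.Helper7.TrvB

set_option autoImplicit false

namespace Cfsg.Agent.Lib.Helper7.Trv

variable {P : Type*} [Group P]
variable {p : ℕ} {hc : ∀ a b : P, a * b = b * a} {G : Subgroup (MulAut P)}

theorem inv_apply_eq {α : MulAut P} {x y : P} : α⁻¹ x = y ↔ x = α y :=
  MulEquiv.symm_apply_eq α

namespace Pair

variable {u u' : MulAut P}

/-- for odd `p`: an element of `G` commuting with `u`, trivial on `Z ∩ Z'`, inverting `[P,u]` -/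
theorem exists_inverting [Finite P] [Fact p.Prime] (h : Pair p hc G u u') :
    ∃ t ∈ G, t * u = u * t ∧ (∀ x ∈ fixSub u ⊓ fixSub u', t x = x) ∧
      ∀ x ∈ commSub hc u, t x = x⁻¹ := by
  have hp : p.Prime := Fact.out
  -- e₁ ∈ L
  obtain ⟨b₀, hb₀, hb₀1⟩ := exists_ne_one_of_card_prime h.hu'.hL
  obtain ⟨e₁, he₁def⟩ : ∃ e₁, e₁ = b₀⁻¹ * u b₀ := ⟨_, rfl⟩
  have he₁L : e₁ ∈ commSub hc u := he₁def ▸ comm_mem_commSub hc u b₀
  have he₁1 : e₁ ≠ 1 := by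
    intro h1
    rw [he₁def, inv_mul_eq_one] at h1
    exact h.fix_ne hb₀ hb₀1 h1.symm
  -- e₂ ∈ L'
  obtain ⟨e₂, he₂def⟩ : ∃ e₂, e₂ = e₁⁻¹ * u' e₁ := ⟨_, rfl⟩
  have he₂L : e₂ ∈ commSub hc u' := he₂def ▸ comm_mem_commSub hc u' e₁
  have he₂1 : e₂ ≠ 1 := by
    intro h1
    rw [he₂def, inv_mul_eq_one] at h1
    exact h.symm.fix_ne he₁L he₁1 h1.symm
  have hu'e₁ : u' e₁ = e₁ * e₂ := by rw [he₂def]; simp
  have hu'e₂ : u' e₂ = e₂ := h.hu'.hLZ he₂L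
  have hue₁ : u e₁ = e₁ := h.hu.hLZ he₁L
  -- f
  obtain ⟨f, hfdef⟩ : ∃ f, f = e₂⁻¹ * u e₂ := ⟨_, rfl⟩
  have hfL : f ∈ commSub hc u := hfdef ▸ comm_mem_commSub hc u e₂
  have hf1 : f ≠ 1 := by
    intro h1
    rw [hfdef, inv_mul_eq_one] at h1
    exact h.fix_ne he₂L he₂1 h1.symm
  have he₁p : e₁ ^ p = 1 := pow_eq_one_of_card_prime h.hu.hL he₁L
  have he₂p : e₂ ^ p = 1 := pow_eq_one_of_card_prime h.hu'.hL he₂L
  -- f = e₁ ^ c
  have hfz := mem_zpowers_of_card_prime h.hu.hL he₁L he₁1 hfL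
  have hfin : IsOfFinOrder e₁ := isOfFinOrder_iff_pow_eq_one.mpr ⟨p, hp.pos, he₁p⟩
  obtain ⟨c, hc'⟩ := (hfin.mem_powers_iff_mem_zpowers.mpr hfz)
  have hcop : Nat.Coprime c p := by
    rw [Nat.coprime_comm, Nat.Prime.coprime_iff_not_dvd hp]
    rintro ⟨d, rfl⟩
    apply hf1
    rw [← hc']
    show e₁ ^ (p * d) = 1
    rw [pow_mul, he₁p, one_pow]
  obtain ⟨m, -, hm⟩ := Nat.exists_mul_mod_eq_one_of_coprime hcop hp.one_lt
  -- v := u ^ m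
  obtain ⟨v, hvdef⟩ : ∃ v, v = u ^ m := ⟨_, rfl⟩
  have hvG : v ∈ G := hvdef ▸ G.pow_mem h.hu.huG m
  have hve₁ : v e₁ = e₁ := by
    rw [hvdef]
    exact fixSub_le_pow u m (h.hu.hLZ he₁L)
  have hve₂ : v e₂ = e₂ * e₁ := by
    rw [hvdef, h.hu.pow_apply, ← hfdef]
    congr 1
    have hc'' : e₁ ^ c = f := hc'
    rw [← hc'', ← pow_mul]
    have h1 : e₁ ^ (c * m) = e₁ ^ (c * m % p) := by
      conv_lhs => rw [← Nat.div_add_mod (c * m) p]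
      rw [pow_add, pow_mul, he₁p, one_pow, one_mul]
    rw [h1, hm, pow_one]
  have hu'inv_e₁ : u'⁻¹ e₁ = e₁ * e₂⁻¹ := by
    rw [inv_apply_eq, map_mul, map_inv, hu'e₁, hu'e₂]
    simp
  have hu'inv_e₂ : u'⁻¹ e₂ = e₂ := by
    rw [inv_apply_eq, hu'e₂]
  obtain ⟨n, hndef⟩ : ∃ n, n = v * u'⁻¹ * v := ⟨_, rfl⟩
  have hnG : n ∈ G := hndef ▸ G.mul_mem (G.mul_mem hvG (G.inv_mem h.hu'.huG)) hvG
  have hne₁ : n e₁ = e₂⁻¹ := by
    rw [hndef]
    show v (u'⁻¹ (v e₁)) = e₂⁻¹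
    rw [hve₁, hu'inv_e₁, map_mul, map_inv, hve₁, hve₂, mul_inv_rev, mul_inv_cancel_left]
  have hne₂ : n e₂ = e₁ := by
    rw [hndef]
    show v (u'⁻¹ (v e₂)) = e₁
    rw [hve₂, map_mul, hu'inv_e₁, hu'inv_e₂, hc e₁ e₂⁻¹, mul_inv_cancel_left, hve₁]
  refine ⟨n * n, G.mul_mem hnG hnG, ?_, ?_, ?_⟩
  swap
  · -- fixes C
    rintro x ⟨hx1, hx2⟩
    have hvx : v x = x := by rw [hvdef]; exact fixSub_le_pow u m hx1
    have hu'x : u'⁻¹ x = x := by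
      rw [inv_apply_eq]; exact (mem_fixSub.mp hx2).symm
    have hnx : n x = x := by
      rw [hndef]
      show v (u'⁻¹ (v x)) = x
      rw [hvx, hu'x, hvx]
    show n (n x) = x
    rw [hnx, hnx]
  · -- commutes with u, via equalizer
    have hte₁ : (n * n) e₁ = e₁⁻¹ := by
      show n (n e₁) = e₁⁻¹
      rw [hne₁, map_inv, hne₂]
    have hte₂ : (n * n) e₂ = e₂⁻¹ := by
      show n (n e₂) = e₂⁻¹
      rw [hne₂, hne₁]
    have hinvL : ∀ x ∈ commSub hc u, (n * n) x = x⁻¹ := by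
      intro x hx
      obtain ⟨k, rfl⟩ := Subgroup.mem_zpowers_iff.mp
        (mem_zpowers_of_card_prime h.hu.hL he₁L he₁1 hx)
      rw [map_zpow, hte₁, inv_zpow]
    have hinvL' : ∀ x ∈ commSub hc u', (n * n) x = x⁻¹ := by
      intro x hx
      obtain ⟨k, rfl⟩ := Subgroup.mem_zpowers_iff.mp
        (mem_zpowers_of_card_prime h.hu'.hL he₂L he₂1 hx)
      rw [map_zpow, hte₂, inv_zpow]
    have hfixC : ∀ x ∈ fixSub u ⊓ fixSub u', (n * n) x = x := by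
      rintro x ⟨hx1, hx2⟩
      have hvx : v x = x := by rw [hvdef]; exact fixSub_le_pow u m hx1
      have hu'x : u'⁻¹ x = x := by
        rw [inv_apply_eq]; exact (mem_fixSub.mp hx2).symm
      have hnx : n x = x := by
        rw [hndef]
        show v (u'⁻¹ (v x)) = x
        rw [hvx, hu'x, hvx]
      show n (n x) = x
      rw [hnx, hnx]
    ext x
    obtain ⟨c₀, hc₀, a, ha, b, hb, rfl⟩ := h.exists_mul_mul x
    show (n * n) (u (c₀ * a * b)) = u ((n * n) (c₀ * a * b))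
    have hlb : b⁻¹ * u b ∈ commSub hc u := comm_mem_commSub hc u b
    have hub : u b = b * (b⁻¹ * u b) := by simp
    have huc : u c₀ = c₀ := mem_fixSub.mp hc₀.1
    have hua : u a = a := mem_fixSub.mp (h.hu.hLZ ha)
    have e1 : u (c₀ * a * b) = c₀ * a * (b * (b⁻¹ * u b)) := by
      rw [map_mul, map_mul, huc, hua, ← hub]
    have e2 : (n * n) (c₀ * a * b) = c₀ * a⁻¹ * b⁻¹ := by
      rw [map_mul, map_mul, hfixC c₀ hc₀, hinvL a ha, hinvL' b hb]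
    rw [e1, e2, map_mul, map_mul, map_mul, hfixC c₀ hc₀, hinvL a ha, hinvL' b hb, hinvL _ hlb,
      map_mul, map_mul, huc, map_inv, hua, map_inv]
    congr 1
    rw [← mul_inv_rev, hc, ← hub]
  · intro x hx
    obtain ⟨k, rfl⟩ := Subgroup.mem_zpowers_iff.mp
      (mem_zpowers_of_card_prime h.hu.hL he₁L he₁1 hx)
    have hte₁ : (n * n) e₁ = e₁⁻¹ := by
      show n (n e₁) = e₁⁻¹
      rw [hne₁, map_inv, hne₂]
    rw [map_zpow, hte₁, inv_zpow]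

end Pair

end Cfsg.Agent.Lib.Helper7.Trv
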