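import Mathlib
import Cfsg.Agent.Lib.Helper7.TrvC

set_option autoImplicit false

namespace Cfsg.Agent.Lib.Helper7.Trv

variable {P : Type*} [Group P]
variable {hc : ∀ a b : P, a * b = b * a} {G : Subgroup (MulAut P)}

theorem eq_of_card_two {L : Subgroup P} (hL : Nat.card L = 2) {x y : P} (hx : x ∈ L) (hy : y ∈ L)
    (hx1 : x ≠ 1) (hy1 : y ≠ 1) : x = y := by
  obtain ⟨z, -, hz⟩ := (Nat.card_eq_two_iff' (1 : L)).mp hL
  have h1 := hz ⟨x, hx⟩ (fun h => hx1 (congrArg Subtype.val h))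
  have h2 := hz ⟨y, hy⟩ (fun h => hy1 (congrArg Subtype.val h))
  exact congrArg Subtype.val (h1.trans h2.symm)

theorem mem_zpowers_two {H : Type*} [Group H] {u d : H} (hu : u ^ 2 = 1)
    (hd : d ∈ Subgroup.zpowers u) : d = 1 ∨ d = u := by
  obtain ⟨k, rfl⟩ := Subgroup.mem_zpowers_iff.mp hd
  have h2 : u ^ (2 : ℤ) = 1 := by
    have : u ^ (2 : ℤ) = u ^ (2 : ℕ) := by norm_cast
    rw [this, hu]
  rcases Int.emod_two_eq_zero_or_one k with h | h
  · left
    have : k = 2 * (k / 2) := by omega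
    rw [this, zpow_mul, h2, one_zpow]
  · right
    have : k = 2 * (k / 2) + 1 := by omega
    rw [this, zpow_add, zpow_mul, h2, one_zpow, one_mul, zpow_one]

namespace Pair

variable {u u' : MulAut P}

theorem mk_of_ne [Finite P] (hu : Hyp 2 hc G u) {d : MulAut P} (hd : Hyp 2 hc G d) (hne : d ≠ u) :
    Pair 2 hc G u d :=
  ⟨hu, hd, fun hmem => by
    rcases mem_zpowers_two hu.hup hmem with h | h
    · exact hd.hu1 h
    · exact hne h⟩

theorem inv_eq (hu : Hyp 2 hc G u) : u⁻¹ = u := by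
  have := hu.hup
  rw [pow_two] at this
  exact inv_eq_of_mul_eq_one_left this

/-- classification of the transvections when `p = 2` -/
theorem classify [Finite P] (h : Pair 2 hc G u u') {d : MulAut P} (hd : Hyp 2 hc G d) :
    d = u ∨ d = u' ∨ d = u'⁻¹ * u * u' := by
  by_contra hcon
  push Not at hcon
  obtain ⟨hdu, hdu', hd3⟩ := hcon
  have hpud := mk_of_ne h.hu hd hdu
  have hpu'd := mk_of_ne h.hu' hd hdu'
  have hd'' : Hyp 2 hc G (u' * d * u'⁻¹) := hd.conj h.hu'.huG
  have hne'' : u' * d * u'⁻¹ ≠ u := by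
    intro he
    apply hd3
    rw [← he]
    group
  have hpud'' := mk_of_ne h.hu hd'' hne''
  obtain ⟨c', hc'L, hc'1⟩ := exists_ne_one_of_card_prime h.hu'.hL
  obtain ⟨cd, hcdL, hcd1⟩ := exists_ne_one_of_card_prime hd.hL
  have h1 : c'⁻¹ * u c' ≠ 1 := by
    intro he
    rw [inv_mul_eq_one] at he
    exact h.fix_ne hc'L hc'1 he.symm
  have h2 : cd⁻¹ * u cd ≠ 1 := by
    intro he
    rw [inv_mul_eq_one] at he
    exact hpud.fix_ne hcdL hcd1 he.symm
  have h3 : c'⁻¹ * u c' = cd⁻¹ * u cd :=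
    eq_of_card_two h.hu.hL (comm_mem_commSub hc u c') (comm_mem_commSub hc u cd) h1 h2
  have h4 : (cd⁻¹ * u cd) ^ 2 = 1 := pow_eq_one_of_card_prime h.hu.hL (comm_mem_commSub hc u cd)
  have h5 : c' * cd ∈ fixSub u := by
    rw [← ker_commHom hc u, MonoidHom.mem_ker, map_mul, commHom_apply, commHom_apply, h3, ← pow_two,
      h4]
  have h6 : cd⁻¹ * u' cd ≠ 1 := by
    intro he
    rw [inv_mul_eq_one] at he
    exact hpu'd.fix_ne hcdL hcd1 he.symm
  have h7 : cd⁻¹ * u' cd = c' :=
    eq_of_card_two h.hu'.hL (comm_mem_commSub hc u' cd) hc'L h6 hc'1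
  have h8 : u' cd = c' * cd := by
    rw [← h7, hc (cd⁻¹ * u' cd) cd, mul_inv_cancel_left]
  have h9 : u' cd ∈ commSub hc (u' * d * u'⁻¹) := by
    rw [commSub_conj]
    exact ⟨cd, hcdL, rfl⟩
  have h10 : u' cd ≠ 1 := by
    intro he
    apply hcd1
    have := u'.injective (he.trans (map_one u').symm)
    exact this
  have := hpud''.fix_ne h9 h10
  rw [h8] at this
  exact this (mem_fixSub.mp h5)

theorem commSub_le_sup [Finite P] (h : Pair 2 hc G u u') {d : MulAut P} (hd : Hyp 2 hc G d) :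
    commSub hc d ≤ commSub hc u ⊔ commSub hc u' := by
  rcases h.classify hd with rfl | rfl | rfl
  · exact le_sup_left
  · exact le_sup_right
  · have e : u'⁻¹ * u * u' = u'⁻¹ * u * u'⁻¹⁻¹ := by rw [inv_inv]
    rw [e, commSub_conj]
    rintro _ ⟨a, ha, rfl⟩
    show u'⁻¹ a ∈ _
    rw [inv_eq h.hu']
    have : u' a = a * (a⁻¹ * u' a) := by simp
    rw [this]
    exact Subgroup.mul_mem_sup ha (comm_mem_commSub hc u' a)

theorem inf_le_fixSub [Finite P] (h : Pair 2 hc G u u') {d : MulAut P} (hd : Hyp 2 hc G d) :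
    fixSub u ⊓ fixSub u' ≤ fixSub d := by
  rcases h.classify hd with rfl | rfl | rfl
  · exact inf_le_left
  · exact inf_le_right
  · rintro x ⟨hx1, hx2⟩
    show u'⁻¹ (u (u' x)) = x
    rw [mem_fixSub.mp hx2, mem_fixSub.mp hx1, inv_apply_eq, mem_fixSub.mp hx2]

/-- `W = L ⊔ L'` is `G`-invariant -/
theorem map_mem_sup [Finite P] (h : Pair 2 hc G u u') {g : MulAut P} (hg : g ∈ G) {x : P}
    (hx : x ∈ commSub hc u ⊔ commSub hc u') : g x ∈ commSub hc u ⊔ commSub hc u' := by
  obtain ⟨a, ha, b, hb, rfl⟩ := (mem_sup_comm hc).mp hx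
  rw [map_mul]
  refine Subgroup.mul_mem _ (h.commSub_le_sup (h.hu.conj hg) ?_) (h.commSub_le_sup (h.hu'.conj hg) ?_)
  · rw [commSub_conj]; exact ⟨a, ha, rfl⟩
  · rw [commSub_conj]; exact ⟨b, hb, rfl⟩

/-- `C = Z ∩ Z'` lies in every `G`-translate of `Z` -/
theorem map_mem_fixSub [Finite P] (h : Pair 2 hc G u u') {g : MulAut P} (hg : g ∈ G) {x : P}
    (hx : x ∈ fixSub u ⊓ fixSub u') : g x ∈ fixSub u := by
  have h1 := h.inf_le_fixSub (h.hu.conj (G.inv_mem hg)) hx
  rw [fixSub_conj] at h1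
  obtain ⟨z, hz, hzx⟩ := h1
  have : g x = z := by
    rw [← hzx]
    show g (g⁻¹ z) = z
    simp
  rw [this]
  exact hz

/-- the explicit Frattini argument -/
theorem frattini [Finite P] (h : Pair 2 hc G u u') {g : MulAut P} (hg : g ∈ G) :
    ∃ k ∈ G, (∀ x ∈ fixSub u ⊓ fixSub u', k x = x) ∧ g * u * g⁻¹ = k * u * k⁻¹ := by
  rcases h.classify (h.hu.conj hg) with he | he | he
  · exact ⟨1, G.one_mem, fun x _ => rfl, by rw [he]; group⟩
  · -- braid relation
    have hbraid : u * u' * u⁻¹ = u'⁻¹ * u * u' := by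
      rcases h.classify (h.hu'.conj h.hu.huG) with h1 | h1 | h1
      · exfalso
        apply h.hne
        have : u' = u := by
          have : u' = u⁻¹ * (u * u' * u⁻¹) * u := by group
          rw [this, h1]; group
        rw [this]; exact Subgroup.mem_zpowers u
      · exfalso
        -- u commutes with u'
        have hcomm : u * u' = u' * u := by
          have : u * u' = (u * u' * u⁻¹) * u := by group
          rw [this, h1]
        obtain ⟨c', hc'L, hc'1⟩ := exists_ne_one_of_card_prime h.hu'.hL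
        have h2 : u c' ∈ commSub hc u' := by
          obtain ⟨x, rfl⟩ := hc'L
          refine ⟨u x, ?_⟩
          show (u x)⁻¹ * u' (u x) = u (x⁻¹ * u' x)
          have : u' (u x) = u (u' x) := by
            have := congrArg (fun f : MulAut P => f x) hcomm
            exact this.symm
          rw [this, map_mul, map_inv]
        have h3 : u c' ≠ 1 := by
          intro he
          apply hc'1
          exact u.injective (he.trans (map_one u).symm)
        exact h.fix_ne hc'L hc'1 (eq_of_card_two h.hu'.hL h2 hc'L h3 hc'1)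
      · exact h1
    refine ⟨u * u', G.mul_mem h.hu.huG h.hu'.huG, ?_, ?_⟩
    · rintro x ⟨hx1, hx2⟩
      show u (u' x) = x
      rw [mem_fixSub.mp hx2, mem_fixSub.mp hx1]
    · rw [he]
      have hi := inv_eq h.hu
      have hi' := inv_eq h.hu'
      have h2 : u * u = 1 := by rw [← pow_two]; exact h.hu.hup
      have h2' : u' * u' = 1 := by rw [← pow_two]; exact h.hu'.hup
      have hb : u * u' * u = u' * u * u' := by
        rw [hi, hi'] at hbraid; exact hbraid
      rw [mul_inv_rev, hi, hi', hb]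
      have e : u' * u * u' * (u' * u) = u' * u * (u' * u') * u := by group
      rw [e, h2', mul_one, mul_assoc, h2, mul_one]
  · refine ⟨u'⁻¹, G.inv_mem h.hu'.huG, ?_, ?_⟩
    · rintro x ⟨_, hx2⟩
      rw [inv_apply_eq, mem_fixSub.mp hx2]
    · rw [he]; group

end Pair

end Cfsg.Agent.Lib.Helper7.Trv
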