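import Mathlib
import Cfsg.Prelude.Def_FusionSystem

set_option autoImplicit false

namespace Cfsg.Agent.Lib.Helper7.Trv

variable {Ω : Type*} [Group Ω]

/-- the centre of `S`, as a subgroup of the ambient group -/
def Zc (S : Subgroup Ω) : Subgroup Ω := S ⊓ Subgroup.centralizer (S : Set Ω)

theorem Zc_le (S : Subgroup Ω) : Zc S ≤ S := inf_le_left

theorem mem_Zc {S : Subgroup Ω} {x : Ω} : x ∈ Zc S ↔ x ∈ S ∧ ∀ s ∈ S, s * x = x * s := by
  unfold Zc
  rw [Subgroup.mem_inf, Subgroup.mem_centralizer_iff]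
  rfl

theorem Zc_subgroupOf (S : Subgroup Ω) : (Zc S).subgroupOf S = Subgroup.center ↥S := by
  ext x
  rw [Subgroup.mem_subgroupOf, mem_Zc, Subgroup.mem_center_iff]
  constructor
  · rintro ⟨-, h⟩ g
    exact Subtype.ext (h g g.2)
  · intro h
    exact ⟨x.2, fun s hs => congrArg Subtype.val (h ⟨s, hs⟩)⟩

/-- the standing hypothesis: `S` is a finite `p`-group whose centre has index `p²` -/
structure Sq (p : ℕ) (S : Subgroup Ω) : Prop where
  hS : IsPGroup p S
  hidx : (Zc S).relIndex S = p ^ 2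

/-- `P` lies strictly between `Z(S)` and `S` -/
structure Mid (S P : Subgroup Ω) : Prop where
  hZP : Zc S ≤ P
  hPS : P ≤ S
  hne1 : ¬ P ≤ Zc S
  hne2 : ¬ S ≤ P

variable {p : ℕ} {S : Subgroup Ω}

theorem Sq.comm_mem [Fact p.Prime] (h : Sq p S) {a b : Ω} (ha : a ∈ S) (hb : b ∈ S) :
    a * b * a⁻¹ * b⁻¹ ∈ Zc S := by
  have hcard : Nat.card (↥S ⧸ Subgroup.center ↥S) = p ^ 2 := by
    rw [← Subgroup.index_eq_card, ← Zc_subgroupOf]
    exact h.hidx
  have hcomm := (IsPGroup.isMulCommutative_of_card_eq_prime_sq hcard).is_comm.comm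
  have h1 : (⟨a, ha⟩ * ⟨b, hb⟩ * ⟨a, ha⟩⁻¹ * ⟨b, hb⟩⁻¹ : ↥S) ∈ Subgroup.center ↥S := by
    rw [← QuotientGroup.eq_one_iff]
    simp only [QuotientGroup.mk_mul, QuotientGroup.mk_inv]
    rw [hcomm (⟨a, ha⟩ : ↥S) (⟨b, hb⟩ : ↥S)]
    group
  rw [← Zc_subgroupOf, Subgroup.mem_subgroupOf] at h1
  exact h1

theorem isPGroup_of_le (h : Sq p S) {P : Subgroup Ω} (hPS : P ≤ S) : IsPGroup p P :=
  h.hS.to_le hPS

theorem relIndex_pow [Fact p.Prime] [Finite S] (h : Sq p S) {A B : Subgroup Ω} (hBS : B ≤ S) :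
    ∃ n : ℕ, A.relIndex B = p ^ n := by
  have : Finite B := Finite.of_injective (Subgroup.inclusion hBS) (Subgroup.inclusion_injective hBS)
  exact (isPGroup_of_le h hBS).index _

namespace Mid

variable {P : Subgroup Ω}

theorem relIndex_eq [Fact p.Prime] [Finite S] (h : Sq p S) (hM : Mid S P) :
    (Zc S).relIndex P = p ∧ P.relIndex S = p := by
  have hp : p.Prime := Fact.out
  have hmul := Subgroup.relIndex_mul_relIndex (Zc S) P S hM.hZP hM.hPS
  rw [h.hidx] at hmul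
  obtain ⟨i, hi⟩ := relIndex_pow (A := Zc S) h hM.hPS
  obtain ⟨j, hj⟩ := relIndex_pow (A := P) h le_rfl
  have hi1 : (Zc S).relIndex P ≠ 1 := fun h1 => hM.hne1 (Subgroup.relIndex_eq_one.mp h1)
  have hj1 : P.relIndex S ≠ 1 := fun h1 => hM.hne2 (Subgroup.relIndex_eq_one.mp h1)
  rw [hi, hj, ← pow_add] at hmul
  have hij : i + j = 2 := Nat.pow_right_injective hp.two_le hmul
  have hi0 : i ≠ 0 := by rintro rfl; exact hi1 (by rw [hi, pow_zero])
  have hj0 : j ≠ 0 := by rintro rfl; exact hj1 (by rw [hj, pow_zero])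
  have : i = 1 ∧ j = 1 := by omega
  rw [hi, hj, this.1, this.2, pow_one]
  exact ⟨rfl, rfl⟩

/-- `S = P⟨y⟩` for `y ∈ S ∖ P` -/
theorem sup_zpowers [Fact p.Prime] [Finite S] (h : Sq p S) (hM : Mid S P) {y : Ω} (hyS : y ∈ S)
    (hyP : y ∉ P) : P ⊔ Subgroup.zpowers y = S := by
  have hp : p.Prime := Fact.out
  have hle : P ⊔ Subgroup.zpowers y ≤ S := sup_le hM.hPS (by rw [Subgroup.zpowers_le]; exact hyS)
  apply le_antisymm hle
  have hmul := Subgroup.relIndex_mul_relIndex P (P ⊔ Subgroup.zpowers y) S le_sup_left hle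
  rw [(hM.relIndex_eq h).2] at hmul
  have h1 : P.relIndex (P ⊔ Subgroup.zpowers y) ≠ 1 := by
    intro h1
    have := Subgroup.relIndex_eq_one.mp h1
    exact hyP (this (le_sup_right (a := P) (Subgroup.mem_zpowers y)))
  rcases (Nat.dvd_prime hp).mp (Dvd.intro _ hmul) with h2 | h2
  · exact absurd h2 h1
  · rw [h2] at hmul
    have h3 : (P ⊔ Subgroup.zpowers y).relIndex S = 1 := by
      have := Nat.eq_of_mul_eq_mul_left hp.pos (hmul.trans (mul_one p).symm)
      exact this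
    exact Subgroup.relIndex_eq_one.mp h3

/-- `P = Z⟨x⟩` for `x ∈ P ∖ Z` -/
theorem Zc_sup_zpowers [Fact p.Prime] [Finite S] (h : Sq p S) (hM : Mid S P) {x : Ω} (hxP : x ∈ P)
    (hxZ : x ∉ Zc S) : Zc S ⊔ Subgroup.zpowers x = P := by
  have hp : p.Prime := Fact.out
  have hle : Zc S ⊔ Subgroup.zpowers x ≤ P := sup_le hM.hZP (by rw [Subgroup.zpowers_le]; exact hxP)
  apply le_antisymm hle
  have hmul := Subgroup.relIndex_mul_relIndex (Zc S) (Zc S ⊔ Subgroup.zpowers x) P le_sup_left hle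
  rw [(hM.relIndex_eq h).1] at hmul
  have h1 : (Zc S).relIndex (Zc S ⊔ Subgroup.zpowers x) ≠ 1 := by
    intro h1
    have := Subgroup.relIndex_eq_one.mp h1
    exact hxZ (this (le_sup_right (a := Zc S) (Subgroup.mem_zpowers x)))
  rcases (Nat.dvd_prime hp).mp (Dvd.intro _ hmul) with h2 | h2
  · exact absurd h2 h1
  · rw [h2] at hmul
    have h3 : (Zc S ⊔ Subgroup.zpowers x).relIndex P = 1 := by
      have := Nat.eq_of_mul_eq_mul_left hp.pos (hmul.trans (mul_one p).symm)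
      exact this
    exact Subgroup.relIndex_eq_one.mp h3

/-- `P` is abelian -/
theorem comm [Fact p.Prime] [Finite S] (h : Sq p S) (hM : Mid S P) {a b : Ω} (ha : a ∈ P)
    (hb : b ∈ P) : a * b = b * a := by
  obtain ⟨x, hxP, hxZ⟩ : ∃ x ∈ P, x ∉ Zc S := by
    by_contra hcon
    push Not at hcon
    exact hM.hne1 hcon
  have hP := hM.Zc_sup_zpowers h hxP hxZ
  -- P ≤ centralizer {x}
  have h1 : P ≤ Subgroup.centralizer {x} := by
    rw [← hP]
    apply sup_le
    · intro z hz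
      rw [Subgroup.mem_centralizer_singleton_iff]
      exact ((mem_Zc.mp hz).2 x (hM.hPS hxP)).symm
    · rw [Subgroup.zpowers_le, Subgroup.mem_centralizer_singleton_iff]
  -- P ≤ centralizer P
  have h2 : P ≤ Subgroup.centralizer (P : Set Ω) := by
    conv_lhs => rw [← hP]
    apply sup_le
    · intro z hz
      rw [Subgroup.mem_centralizer_iff]
      intro g hg
      exact (mem_Zc.mp hz).2 g (hM.hPS hg)
    · rw [Subgroup.zpowers_le, Subgroup.mem_centralizer_iff]
      intro g hg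
      have := h1 hg
      rw [Subgroup.mem_centralizer_singleton_iff] at this
      exact this
  exact ((Subgroup.mem_centralizer_iff.mp (h2 hb)) a ha)

/-- `P` is normal in `S` -/
theorem le_normalizer [Fact p.Prime] (h : Sq p S) (hM : Mid S P) :
    S ≤ Subgroup.normalizer (P : Set Ω) := by
  have key : ∀ s ∈ S, ∀ x ∈ P, s * x * s⁻¹ ∈ P := by
    intro s hs x hx
    have h1 := h.comm_mem hs (hM.hPS hx)
    have : s * x * s⁻¹ = (s * x * s⁻¹ * x⁻¹) * x := by group
    rw [this]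
    exact P.mul_mem (hM.hZP h1) hx
  intro s hs
  rw [Subgroup.mem_normalizer_iff]
  intro x
  constructor
  · exact key s hs x
  · intro hx
    have := key s⁻¹ (S.inv_mem hs) _ hx
    have e : s⁻¹ * (s * x * s⁻¹) * s⁻¹⁻¹ = x := by group
    rwa [e] at this

/-- `y^p ∈ P` for `y ∈ S` -/
theorem pow_mem [Fact p.Prime] [Finite S] (h : Sq p S) (hM : Mid S P) {y : Ω} (hyS : y ∈ S) :
    y ^ p ∈ P := by
  have hn : (P.subgroupOf S).Normal := by
    rw [← Subgroup.normalizer_eq_top_iff, eq_top_iff]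
    intro s _
    rw [Subgroup.mem_normalizer_iff]
    intro x
    rw [Subgroup.mem_subgroupOf, Subgroup.mem_subgroupOf]
    exact Subgroup.mem_normalizer_iff.mp (hM.le_normalizer h s.2) x
  have h1 := Subgroup.pow_index_mem (P.subgroupOf S) (⟨y, hyS⟩ : ↥S)
  have h2 : (P.subgroupOf S).index = p := (hM.relIndex_eq h).2
  rw [h2, Subgroup.mem_subgroupOf] at h1
  exact h1

/-- an element of `P` commuting with some `y ∈ S ∖ P` is central -/
theorem mem_Zc_of_comm [Fact p.Prime] [Finite S] (h : Sq p S) (hM : Mid S P) {y : Ω} (hyS : y ∈ S)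
    (hyP : y ∉ P) {x : Ω} (hxP : x ∈ P) (hxy : y * x = x * y) : x ∈ Zc S := by
  refine mem_Zc.mpr ⟨hM.hPS hxP, ?_⟩
  have hle : S ≤ Subgroup.centralizer {x} := by
    rw [← hM.sup_zpowers h hyS hyP]
    apply sup_le
    · intro z hz
      rw [Subgroup.mem_centralizer_singleton_iff]
      exact hM.comm h hz hxP
    · rw [Subgroup.zpowers_le, Subgroup.mem_centralizer_singleton_iff]
      exact hxy
  intro s hs
  have := hle hs
  rw [Subgroup.mem_centralizer_singleton_iff] at this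
  exact this

/-- `C_S(P) ≤ P` -/
theorem centralizer_le [Fact p.Prime] [Finite S] (h : Sq p S) (hM : Mid S P) {y : Ω} (hyS : y ∈ S)
    (hy : ∀ x ∈ P, y * x = x * y) : y ∈ P := by
  by_contra hyP
  apply hM.hne1
  intro x hx
  exact hM.mem_Zc_of_comm h hyS hyP hx (hy x hx)

end Mid

end Cfsg.Agent.Lib.Helper7.Trv
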