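import Mathlib
import Cfsg.Prelude.Def_FusionSystem
import Cfsg.Agent.Lib.Helper7.TrvD
import Cfsg.Agent.Lib.Helper7.TrvE
import Cfsg.Agent.Lib.Helper7.FusionSat4
import Cfsg.Agent.Lib.Helper7.FusionProdClosed

set_option autoImplicit false

namespace Cfsg.Agent.Lib.Helper7.Trv

open Cfsg Cfsg.FusionSystem Cfsg.Agent.Lib.Helper7

variable {Ω : Type*} [Group Ω] {p : ℕ} {S P : Subgroup Ω}

/-- conjugation by `y` on `P` -/
noncomputable def uAut (P : Subgroup Ω) (y : Ω) (hy : y ∈ Subgroup.normalizer (P : Set Ω)) :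
    MulAut P := P.normalizerMonoidHom ⟨y, hy⟩

theorem uAut_apply (y : Ω) (hy : y ∈ Subgroup.normalizer (P : Set Ω)) (x : P) :
    ((uAut P y hy x : P) : Ω) = y * x * y⁻¹ := rfl

theorem uAut_pow_apply (y : Ω) (hy : y ∈ Subgroup.normalizer (P : Set Ω)) (k : ℕ) (x : P) :
    (((uAut P y hy) ^ k) x : Ω) = y ^ k * x * (y ^ k)⁻¹ := by
  induction k generalizing x with
  | zero => simp
  | succ k ih =>
    rw [pow_succ', MulAut.mul_apply, uAut_apply, ih, pow_succ']
    group

theorem uAut_zpow_apply (y : Ω) (hy : y ∈ Subgroup.normalizer (P : Set Ω)) (k : ℤ) (x : P) :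
    (((uAut P y hy) ^ k) x : Ω) = y ^ k * x * (y ^ k)⁻¹ := by
  have h1 : (uAut P y hy) ^ k = P.normalizerMonoidHom (⟨y, hy⟩ ^ k) := by
    rw [map_zpow]; rfl
  rw [h1]
  show ((⟨y, hy⟩ ^ k : Subgroup.normalizer (P : Set Ω)) : Ω) * x *
    ((⟨y, hy⟩ ^ k : Subgroup.normalizer (P : Set Ω)) : Ω)⁻¹ = _
  simp

theorem uAut_mem_autInducedBy {y : Ω} (hyS : y ∈ S) (hy : y ∈ Subgroup.normalizer (P : Set Ω)) :
    uAut P y hy ∈ autInducedBy S P :=
  (mem_autInducedBy_iff S P _).mpr ⟨y, hyS, fun x => uAut_apply y hy x⟩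

namespace Mid

theorem commP [Fact p.Prime] [Finite S] (h : Sq p S) (hM : Mid S P) (a b : P) : a * b = b * a :=
  Subtype.ext (hM.comm h a.2 b.2)

theorem fixSub_uAut [Fact p.Prime] [Finite S] (h : Sq p S) (hM : Mid S P) {y : Ω} (hyS : y ∈ S)
    (hyP : y ∉ P) : fixSub (uAut P y (hM.le_normalizer h hyS)) = (Zc S).subgroupOf P := by
  ext x
  rw [mem_fixSub, Subgroup.mem_subgroupOf]
  constructor
  · intro hx
    have h1 := congrArg Subtype.val hx
    rw [uAut_apply] at h1
    apply hM.mem_Zc_of_comm h hyS hyP x.2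
    calc y * x = y * x * y⁻¹ * y := by group
      _ = x * y := by rw [h1]
  · intro hx
    apply Subtype.ext
    rw [uAut_apply, (mem_Zc.mp hx).2 y hyS]
    group

theorem autInducedBy_eq [Fact p.Prime] [Finite S] (h : Sq p S) (hM : Mid S P) {y : Ω} (hyS : y ∈ S)
    (hyP : y ∉ P) :
    autInducedBy S P = Subgroup.zpowers (uAut P y (hM.le_normalizer h hyS)) := by
  apply le_antisymm
  · intro α hα
    obtain ⟨s, hs, hα⟩ := (mem_autInducedBy_iff S P α).mp hα
    have hs' : s ∈ ((P ⊔ Subgroup.zpowers y : Subgroup Ω) : Set Ω) := by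
      rw [hM.sup_zpowers h hyS hyP]; exact hs
    rw [Subgroup.coe_mul_of_right_le_normalizer_left P (Subgroup.zpowers y)
      (by rw [Subgroup.zpowers_le]; exact hM.le_normalizer h hyS)] at hs'
    obtain ⟨a, ha, b, hb, rfl⟩ := hs'
    obtain ⟨k, rfl⟩ := Subgroup.mem_zpowers_iff.mp hb
    rw [Subgroup.mem_zpowers_iff]
    refine ⟨k, ?_⟩
    ext x
    rw [uAut_zpow_apply, hα]
    have hyk : y ^ k * x * (y ^ k)⁻¹ ∈ P := by
      have := Subgroup.zpow_mem _ (hM.le_normalizer h hyS) k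
      exact (Subgroup.mem_normalizer_iff.mp this x).mp x.2
    have := hM.comm h ha hyk
    calc y ^ k * x * (y ^ k)⁻¹ = a * (y ^ k * x * (y ^ k)⁻¹) * a⁻¹ := by
          rw [this]; group
      _ = a * y ^ k * x * (a * y ^ k)⁻¹ := by group
  · rw [Subgroup.zpowers_le]
    exact uAut_mem_autInducedBy hyS _

theorem isFullyNormalized [Fact p.Prime] [Finite S] (h : Sq p S) (hM : Mid S P)
    (F : FusionSystem S) : F.IsFullyNormalized P := by
  refine ⟨hM.hPS, fun Q _ => ?_⟩
  have h1 : normalizerIn S P = S := inf_eq_left.mpr (hM.le_normalizer h)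
  rw [h1]
  exact Subgroup.card_le_of_le inf_le_left

theorem isFullyAutomized_isReceptive [Fact p.Prime] [Finite S] (h : Sq p S) (hM : Mid S P)
    (F : FusionSystem S) (hF : F.IsSaturated p) : F.IsFullyAutomized p P ∧ F.IsReceptive P := by
  obtain ⟨R, hcR, hFAR, hRecR⟩ := hF P hM.hPS
  exact isFullyAutomized_isReceptive_of_isFullyNormalized p h.hS F (hM.isFullyNormalized h F) hFAR
    hRecR hcR

/-- the abstract hypothesis holds for `(P, Aut_F(P), c_y)` -/
theorem hyp [Fact p.Prime] [Finite S] (h : Sq p S) (hM : Mid S P) (F : FusionSystem S)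
    (hF : F.IsSaturated p) {y : Ω} (hyS : y ∈ S) (hyP : y ∉ P) :
    Hyp p (hM.commP h) (F.autGroup P) (uAut P y (hM.le_normalizer h hyS)) := by
  have hp : p.Prime := Fact.out
  have : Finite P := finite_of_le hM.hPS
  have hu1 : uAut P y (hM.le_normalizer h hyS) ≠ 1 := by
    intro h1
    apply hyP
    apply hM.centralizer_le h hyS
    intro x hx
    have := congrArg (fun f : MulAut P => ((f ⟨x, hx⟩ : P) : Ω)) h1
    simp only [uAut_apply, MulAut.one_apply] at this
    calc y * x = y * x * y⁻¹ * y := by group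
      _ = x * y := by rw [this]
  have hup : uAut P y (hM.le_normalizer h hyS) ^ p = 1 := by
    ext x
    rw [uAut_pow_apply, MulAut.one_apply]
    have := hM.comm h (hM.pow_mem h hyS) x.2
    rw [this]
    group
  have hord : orderOf (uAut P y (hM.le_normalizer h hyS)) = p := orderOf_eq_prime hup hu1
  refine ⟨isPGroup_of_le h hM.hPS, autInducedBy_le_autGroup F hM.hPS (uAut_mem_autInducedBy hyS _),
    hu1, hup, ?_, ?_, ?_⟩
  · intro Q hQ hQp
    obtain ⟨a, -, ha⟩ := exists_conj_le_autInducedBy p F (hM.isFullyAutomized_isReceptive h F hF).1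
      Q hQp hQ
    rw [hM.autInducedBy_eq h hyS hyP] at ha
    have hle : Q.map (MulAut.conj a).toMonoidHom ≤
        Subgroup.zpowers (uAut P y (hM.le_normalizer h hyS)) := by
      rintro _ ⟨β, hβ, rfl⟩
      exact ha β hβ
    have h1 := Subgroup.card_le_of_le hle
    rw [Subgroup.card_map_of_injective (MulAut.conj a).injective, Nat.card_zpowers, hord] at h1
    exact h1
  · rw [← index_fixSub, hM.fixSub_uAut h hyS hyP]
    exact (hM.relIndex_eq h).1
  · rw [hM.fixSub_uAut h hyS hyP]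
    rintro _ ⟨x, rfl⟩
    rw [Subgroup.mem_subgroupOf]
    show ((x⁻¹ * uAut P y _ x : P) : Ω) ∈ Zc S
    rw [Subgroup.coe_mul, uAut_apply, Subgroup.coe_inv]
    have := h.comm_mem (S.inv_mem (hM.hPS x.2)) hyS
    convert this using 1
    group

end Mid

end Cfsg.Agent.Lib.Helper7.Trv
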