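import Mathlib
import Cfsg.Prelude.Def_FusionSystem
import Cfsg.Agent.Lib.Helper7.TrvF
import Cfsg.Agent.Lib.Helper7.FusionTopNormal
import Cfsg.Agent.Lib.Helper7.FusionWeaklyNormal
import Cfsg.Agent.Lib.Helper7.OmitSystem

set_option autoImplicit false

namespace Cfsg.Agent.Lib.Helper7.Trv

open Cfsg Cfsg.FusionSystem Cfsg.Agent.Lib.Helper7

variable {Ω : Type*} [Group Ω] {p : ℕ} {S P : Subgroup Ω}

theorem conj_zpow_mem {H : Type*} [Group H] {u g : H} (h : g * u * g⁻¹ ∈ Subgroup.zpowers u)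
    {a : H} (ha : a ∈ Subgroup.zpowers u) : g * a * g⁻¹ ∈ Subgroup.zpowers u := by
  obtain ⟨k, rfl⟩ := Subgroup.mem_zpowers_iff.mp ha
  have : g * u ^ k * g⁻¹ = (g * u * g⁻¹) ^ k := by rw [conj_zpow]
  rw [this]
  exact Subgroup.zpow_mem _ h k

namespace Mid

/-- an `F`-automorphism of `P` normalizing `Aut_S(P)` extends to `S` -/
theorem exists_extension [Fact p.Prime] [Finite S] (h : Sq p S) (hM : Mid S P) (F : FusionSystem S)
    (hF : F.IsSaturated p) {y : Ω} (hyS : y ∈ S) (hyP : y ∉ P) {n : MulAut P}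
    (hn : n ∈ F.autGroup P)
    (hnorm : n * uAut P y (hM.le_normalizer h hyS) * n⁻¹ ∈
      Subgroup.zpowers (uAut P y (hM.le_normalizer h hyS))) :
    ∃ m ∈ F.autGroup S, ∀ x : P, ((m ⟨x, hM.hPS x.2⟩ : S) : Ω) = (n x : Ω) := by
  have hRec := (hM.isFullyAutomized_isReceptive h F hF).2
  obtain ⟨φ, hφdef⟩ : ∃ φ : P →* Ω, φ = P.subtype.comp n.toMonoidHom := ⟨_, rfl⟩
  have hφ : φ ∈ F.Hom P := hφdef ▸ (mem_autGroup_iff F hM.hPS n).mp hn
  have hr : φ.range = P := by
    rw [hφdef]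
    ext z
    constructor
    · rintro ⟨x, rfl⟩; exact (n x).2
    · intro hz
      exact ⟨n⁻¹ ⟨z, hz⟩, by simp⟩
  obtain ⟨ψ, hψ, hext⟩ := hRec.2 P φ hφ hr
  have hSle : S ≤ extender S P φ := by
    intro g hg
    have hgN := hM.le_normalizer h hg
    rw [hφdef]
    apply mem_extender_of_conj n hg hgN
    rw [hM.autInducedBy_eq h hyS hyP]
    apply conj_zpow_mem hnorm
    rw [← hM.autInducedBy_eq h hyS hyP]
    exact (mem_autInducedBy_iff S P _).mpr ⟨g, hg, fun x => rfl⟩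
  have heq : S = extender S P φ := le_antisymm hSle (extender_le S P φ)
  have hψ' := fs_mem_of_eq F heq hψ
  obtain ⟨χ, hχdef⟩ : ∃ χ : S →* Ω, χ = ψ.comp (Subgroup.inclusion (le_of_eq heq)) := ⟨_, rfl⟩
  rw [← hχdef] at hψ'
  have hχinj := F.injective_of_mem hψ'
  have hχS : ∀ x : S, χ x ∈ S := (F.le_of_mem hψ').2
  have hχr : χ.range = S := by
    apply Subgroup.eq_of_le_of_card_ge
    · rintro _ ⟨x, rfl⟩; exact hχS x
    · exact (Nat.card_congr (Equiv.ofInjective χ hχinj)).le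
  refine ⟨isoOfRange χ hχinj hχr, ?_, fun x => ?_⟩
  · rw [mem_autGroup_iff F le_rfl]
    convert hψ' using 1
    ext x
    rfl
  · rw [isoOfRange_coe, hχdef]
    show ψ ⟨(x : Ω), _⟩ = _
    rw [hext (x : Ω) x.2 (hSle (hM.hPS x.2)), hφdef]
    rfl

end Mid

/-- essential subgroups lie strictly between `Z(S)` and `S` -/
theorem mid_of_isEssential [Fact p.Prime] [Finite S] (h : Sq p S) (F : FusionSystem S)
    (hF : F.IsSaturated p) (hE : F.IsEssential p P) : Mid S P := by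
  have hp : p.Prime := Fact.out
  have hPS : P ≤ S := hE.1.1
  have hcen : centralizerIn S P ≤ P := hE.1.2 P (isConj_refl F hPS)
  have hZP : Zc S ≤ P := by
    intro z hz
    apply hcen
    refine Subgroup.mem_inf.mpr ⟨(mem_Zc.mp hz).1, Subgroup.mem_centralizer_iff.mpr ?_⟩
    intro g hg
    exact (mem_Zc.mp hz).2 g (hPS hg)
  have hnS : ¬ S ≤ Zc S := by
    intro hle
    have := Subgroup.relIndex_eq_one.mpr hle
    rw [h.hidx] at this
    have h2 : 1 < p ^ 2 := Nat.one_lt_pow (by norm_num) hp.one_lt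
    omega
  refine ⟨hZP, hPS, fun hle => ?_, fun hle => ?_⟩
  · apply hnS
    intro s hs
    apply hle
    apply hcen
    refine Subgroup.mem_inf.mpr ⟨hs, Subgroup.mem_centralizer_iff.mpr ?_⟩
    intro g hg
    exact ((mem_Zc.mp (hle hg)).2 s hs).symm
  · have : P = S := le_antisymm hPS hle
    rw [this] at hE
    exact not_isEssential_top p h.hS F hF hE

/-- for essential `P`, `Aut_S(P)` is not normal in `Aut_F(P)` -/
theorem exists_not_normalizing [Fact p.Prime] [Finite S] (h : Sq p S) (F : FusionSystem S)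
    (hF : F.IsSaturated p) (hE : F.IsEssential p P) {y : Ω} (hyS : y ∈ S) (hyP : y ∉ P) :
    ∃ g ∈ F.autGroup P,
      g * uAut P y ((mid_of_isEssential h F hF hE).le_normalizer h hyS) * g⁻¹ ∉
        Subgroup.zpowers (uAut P y ((mid_of_isEssential h F hF hE).le_normalizer h hyS)) := by
  have hM := mid_of_isEssential h F hF hE
  by_contra hcon
  push Not at hcon
  obtain ⟨-, R, hR⟩ := (hM.isFullyAutomized_isReceptive h F hF).1
  apply not_isEssential_of_normal_sylow p h.hS F R ?_ hE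
  rw [hR, hM.autInducedBy_eq h hyS hyP]
  refine ⟨fun n hn g => ?_⟩
  rw [Subgroup.mem_subgroupOf] at hn ⊢
  exact conj_zpow_mem (hcon g.1 g.2) hn

end Cfsg.Agent.Lib.Helper7.Trv
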