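import Mathlib
import Cfsg.Prelude.Def_FusionSystem
import Cfsg.Agent.Lib.Helper7.TrvG

set_option autoImplicit false

namespace Cfsg.Agent.Lib.Helper7.Trv

open Cfsg Cfsg.FusionSystem Cfsg.Agent.Lib.Helper7

variable {Ω : Type*} [Group Ω] {p : ℕ} {S P : Subgroup Ω}

/-- the derived subgroup of `S`, as a subgroup of the ambient group -/
def Lc (S : Subgroup Ω) : Subgroup Ω :=
  Subgroup.closure {c | ∃ a ∈ S, ∃ b ∈ S, c = a * b * a⁻¹ * b⁻¹}

theorem comm_mem_Lc {a b : Ω} (ha : a ∈ S) (hb : b ∈ S) : a * b * a⁻¹ * b⁻¹ ∈ Lc S :=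
  Subgroup.subset_closure ⟨a, ha, b, hb, rfl⟩

theorem Sq.Lc_le_Zc [Fact p.Prime] (h : Sq p S) : Lc S ≤ Zc S := by
  unfold Lc
  rw [Subgroup.closure_le]
  rintro _ ⟨a, ha, b, hb, rfl⟩
  exact h.comm_mem ha hb

/-- the elements of `S` whose commutator with `b` lies in the central subgroup `L` -/
def commLeft (L : Subgroup Ω) (hL : L ≤ Zc S) (b : Ω) : Subgroup Ω where
  carrier := {a | a ∈ S ∧ a * b * a⁻¹ * b⁻¹ ∈ L}
  one_mem' := ⟨S.one_mem, by simp⟩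
  mul_mem' := by
    rintro a a' ⟨ha, hal⟩ ⟨ha', hal'⟩
    refine ⟨S.mul_mem ha ha', ?_⟩
    have hc := (mem_Zc.mp (hL hal')).2 a ha
    have e : a * a' * b * (a * a')⁻¹ * b⁻¹ = (a * (a' * b * a'⁻¹ * b⁻¹)) * b * a⁻¹ * b⁻¹ := by
      group
    rw [e, hc]
    have e2 : a' * b * a'⁻¹ * b⁻¹ * a * b * a⁻¹ * b⁻¹ =
        (a' * b * a'⁻¹ * b⁻¹) * (a * b * a⁻¹ * b⁻¹) := by group
    rw [e2]
    exact L.mul_mem hal' hal
  inv_mem' := by
    rintro a ⟨ha, hal⟩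
    refine ⟨S.inv_mem ha, ?_⟩
    have hc := (mem_Zc.mp (hL (L.inv_mem hal))).2 a⁻¹ (S.inv_mem ha)
    have e : a⁻¹ * b * a⁻¹⁻¹ * b⁻¹ = a⁻¹ * (a * b * a⁻¹ * b⁻¹)⁻¹ * a := by group
    rw [e, hc]
    rw [inv_mul_cancel_right]
    exact L.inv_mem hal

theorem mem_commLeft {L : Subgroup Ω} {hL : L ≤ Zc S} {a b : Ω} :
    a ∈ commLeft L hL b ↔ a ∈ S ∧ a * b * a⁻¹ * b⁻¹ ∈ L := Iff.rfl

theorem commLeft_symm {L : Subgroup Ω} {hL : L ≤ Zc S} {a b : Ω} (ha : a ∈ S) (hb : b ∈ S) :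
    a ∈ commLeft L hL b ↔ b ∈ commLeft L hL a := by
  rw [mem_commLeft, mem_commLeft]
  have e : b * a * b⁻¹ * a⁻¹ = (a * b * a⁻¹ * b⁻¹)⁻¹ := by group
  constructor
  · rintro ⟨-, h1⟩
    exact ⟨hb, e ▸ L.inv_mem h1⟩
  · rintro ⟨-, h1⟩
    refine ⟨ha, ?_⟩
    have := L.inv_mem h1
    rwa [e, inv_inv] at this

namespace Mid

/-- all commutators of `S` lie in `[P, y]` -/
theorem comm_mem_of_gen [Fact p.Prime] [Finite S] (h : Sq p S) (hM : Mid S P) {y : Ω}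
    (hyS : y ∈ S) (hyP : y ∉ P) (L : Subgroup Ω) (hL : L ≤ Zc S)
    (hPy : ∀ x ∈ P, x * y * x⁻¹ * y⁻¹ ∈ L) {a b : Ω} (ha : a ∈ S) (hb : b ∈ S) :
    a * b * a⁻¹ * b⁻¹ ∈ L := by
  have hsup := hM.sup_zpowers h hyS hyP
  -- (2) A_y = S
  have h2 : S ≤ commLeft L hL y := by
    refine hsup.ge.trans (sup_le ?_ ?_)
    · intro x hx
      exact ⟨hM.hPS hx, hPy x hx⟩
    · rw [Subgroup.zpowers_le]
      exact ⟨hyS, by simp⟩
  -- (1) A_x = S for x ∈ P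
  have h1 : ∀ x ∈ P, S ≤ commLeft L hL x := by
    intro x hx
    refine hsup.ge.trans (sup_le ?_ ?_)
    · intro x' hx'
      refine ⟨hM.hPS hx', ?_⟩
      rw [hM.comm h hx' hx]
      simp
    · rw [Subgroup.zpowers_le]
      exact (commLeft_symm (hM.hPS hx) hyS).mp (h2 (hM.hPS hx))
  -- (3)
  have h3 : S ≤ commLeft L hL b := by
    refine hsup.ge.trans (sup_le ?_ ?_)
    · intro x hx
      exact (commLeft_symm hb (hM.hPS hx)).mp (h1 x hx hb)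
    · rw [Subgroup.zpowers_le]
      exact (commLeft_symm hb hyS).mp (h2 hb)
  exact (h3 ha).2

/-- `[P, c_y] = S'` -/
theorem commSub_uAut [Fact p.Prime] [Finite S] (h : Sq p S) (hM : Mid S P) {y : Ω}
    (hyS : y ∈ S) (hyP : y ∉ P) :
    commSub (hM.commP h) (uAut P y (hM.le_normalizer h hyS)) = (Lc S).subgroupOf P := by
  apply le_antisymm
  · rintro _ ⟨x, rfl⟩
    rw [Subgroup.mem_subgroupOf]
    show ((x⁻¹ * uAut P y _ x : P) : Ω) ∈ Lc S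
    rw [Subgroup.coe_mul, uAut_apply, Subgroup.coe_inv]
    have := comm_mem_Lc (S.inv_mem (hM.hPS x.2)) hyS
    convert this using 1
    group
  · -- the image of commSub in Ω
    obtain ⟨L, hLdef⟩ : ∃ L : Subgroup Ω, L =
        (commSub (hM.commP h) (uAut P y (hM.le_normalizer h hyS))).map P.subtype := ⟨_, rfl⟩
    have hLZ : L ≤ Zc S := by
      rw [hLdef]
      rintro _ ⟨_, ⟨x, rfl⟩, rfl⟩
      show ((x⁻¹ * uAut P y _ x : P) : Ω) ∈ Zc S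
      rw [Subgroup.coe_mul, uAut_apply, Subgroup.coe_inv]
      have := h.comm_mem (S.inv_mem (hM.hPS x.2)) hyS
      convert this using 1
      group
    have hPy : ∀ x ∈ P, x * y * x⁻¹ * y⁻¹ ∈ L := by
      intro x hx
      rw [hLdef]
      refine ⟨_, comm_mem_commSub (hM.commP h) _ (⟨x, hx⟩⁻¹ : P), ?_⟩
      show (((⟨x, hx⟩⁻¹ : P)⁻¹ * uAut P y _ (⟨x, hx⟩⁻¹ : P) : P) : Ω) = _
      rw [Subgroup.coe_mul, uAut_apply]
      simp
      group
    have hle : Lc S ≤ L := by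
      unfold Lc
      rw [Subgroup.closure_le]
      rintro _ ⟨a, ha, b, hb, rfl⟩
      exact hM.comm_mem_of_gen h hyS hyP L hLZ hPy ha hb
    intro x hx
    rw [Subgroup.mem_subgroupOf] at hx
    have := hle hx
    rw [hLdef] at this
    obtain ⟨x', hx', hxx'⟩ := this
    have : x' = x := Subtype.ext hxx'
    rw [← this]
    exact hx'

theorem card_Lc [Fact p.Prime] [Finite S] (h : Sq p S) (hM : Mid S P) (F : FusionSystem S)
    (hF : F.IsSaturated p) : Nat.card (Lc S) = p := by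
  obtain ⟨y, hyS, hyP⟩ : ∃ y ∈ S, y ∉ P := by
    by_contra hcon
    push Not at hcon
    exact hM.hne2 hcon
  have h1 := (hM.hyp h F hF hyS hyP).hL
  rw [hM.commSub_uAut h hyS hyP] at h1
  rw [← h1]
  exact (Nat.card_congr (Subgroup.subgroupOfEquivOfLe (h.Lc_le_Zc.trans hM.hZP)).toEquiv).symm

end Mid

end Cfsg.Agent.Lib.Helper7.Trv
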