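import Mathlib
import Cfsg.Prelude.Def_FusionSystem
import Cfsg.Agent.Lib.Helper7.TrvH
import Cfsg.Agent.Lib.Helper7.FusionInner

set_option autoImplicit false

namespace Cfsg.Agent.Lib.Helper7.Trv

open Cfsg Cfsg.FusionSystem Cfsg.Agent.Lib.Helper7

variable {Ω : Type*} [Group Ω] {p : ℕ} {S : Subgroup Ω}

/-- `Z(S)` inside `S` -/
def ZS (S : Subgroup Ω) : Subgroup S := (Zc S).subgroupOf S

/-- `S'` inside `S` -/
def LS (S : Subgroup Ω) : Subgroup S := (Lc S).subgroupOf S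

theorem mem_ZS {z : S} : z ∈ ZS S ↔ ∀ s : S, s * z = z * s := by
  unfold ZS
  rw [Zc_subgroupOf, Subgroup.mem_center_iff]

theorem map_mem_ZS (α : MulAut S) {z : S} (hz : z ∈ ZS S) : α z ∈ ZS S := by
  rw [mem_ZS] at hz ⊢
  intro s
  have := hz (α⁻¹ s)
  have h2 := congrArg α this
  rw [map_mul, map_mul, MulAut.apply_inv_self] at h2
  exact h2

theorem map_mem_LS (α : MulAut S) {a : S} (ha : a ∈ LS S) : α a ∈ LS S := by
  unfold LS at ha ⊢
  rw [Subgroup.mem_subgroupOf] at ha ⊢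
  have key : ∀ c ∈ Lc S, ∀ hc : c ∈ S, ((α ⟨c, hc⟩ : S) : Ω) ∈ Lc S := by
    intro c hc
    unfold Lc at hc
    induction hc using Subgroup.closure_induction with
    | mem c hcmem =>
      intro hcS
      obtain ⟨a, ha, b, hb, rfl⟩ := hcmem
      have e : (⟨a * b * a⁻¹ * b⁻¹, hcS⟩ : S) = ⟨a, ha⟩ * ⟨b, hb⟩ * ⟨a, ha⟩⁻¹ * ⟨b, hb⟩⁻¹ := rfl
      rw [e, map_mul, map_mul, map_mul, map_inv, map_inv]
      exact comm_mem_Lc (α ⟨a, ha⟩).2 (α ⟨b, hb⟩).2
    | one =>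
      intro hcS
      have : (⟨1, hcS⟩ : S) = 1 := rfl
      rw [this, map_one]
      exact Subgroup.one_mem _
    | mul c d hc' hd' ihc ihd =>
      intro hcS
      have hcS' : c ∈ S := by
        have : Subgroup.closure {c | ∃ a ∈ S, ∃ b ∈ S, c = a * b * a⁻¹ * b⁻¹} ≤ S := by
          rw [Subgroup.closure_le]
          rintro _ ⟨a, ha, b, hb, rfl⟩
          exact S.mul_mem (S.mul_mem (S.mul_mem ha hb) (S.inv_mem ha)) (S.inv_mem hb)
        exact this hc'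
      have hdS' : d ∈ S := by
        have : Subgroup.closure {c | ∃ a ∈ S, ∃ b ∈ S, c = a * b * a⁻¹ * b⁻¹} ≤ S := by
          rw [Subgroup.closure_le]
          rintro _ ⟨a, ha, b, hb, rfl⟩
          exact S.mul_mem (S.mul_mem (S.mul_mem ha hb) (S.inv_mem ha)) (S.inv_mem hb)
        exact this hd'
      have e : (⟨c * d, hcS⟩ : S) = ⟨c, hcS'⟩ * ⟨d, hdS'⟩ := rfl
      rw [e, map_mul]
      exact Subgroup.mul_mem _ (ihc hcS') (ihd hdS')
    | inv c hc' ihc =>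
      intro hcS
      have hcS' : c ∈ S := by
        have := S.inv_mem hcS
        rwa [inv_inv] at this
      have e : (⟨c⁻¹, hcS⟩ : S) = (⟨c, hcS'⟩ : S)⁻¹ := rfl
      rw [e, map_inv]
      exact Subgroup.inv_mem _ (ihc hcS')
  exact key a ha a.2

/-- an `F`-automorphism of `S` that stabilizes the chain `1 ≤ S' ≤ Z(S)` is trivial on `Z(S)` -/
theorem fix_center_of_stab [Fact p.Prime] [Finite S] (hS : IsPGroup p S) (F : FusionSystem S)
    (hF : F.IsSaturated p) (hLp : ∀ a ∈ LS S, a ^ p = 1) {σ : MulAut S} (hσ : σ ∈ F.autGroup S)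
    (h1 : ∀ a ∈ LS S, σ a = a) (h2 : ∀ z ∈ ZS S, z⁻¹ * σ z ∈ LS S) :
    ∀ z ∈ ZS S, σ z = z := by
  have hp : p.Prime := Fact.out
  intro z hz
  have hpow : ∀ k : ℕ, (σ ^ k) z = z * (z⁻¹ * σ z) ^ k := by
    intro k
    induction k with
    | zero => simp
    | succ k ih =>
      rw [pow_succ', MulAut.mul_apply, ih, map_mul, map_pow, h1 _ (h2 z hz), pow_succ']
      have : σ z = z * (z⁻¹ * σ z) := by simp
      rw [← mul_assoc, ← this]
  have hσp : (σ ^ p) z = z := by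
    rw [hpow, hLp _ (h2 z hz), mul_one]
  obtain ⟨-, R, hR⟩ := isFullyAutomized_top_of_isSaturated p hS F hF
  have hRn : (R : Subgroup (F.autGroup S)).Normal := by
    rw [hR]
    refine ⟨fun n hn g => ?_⟩
    rw [Subgroup.mem_subgroupOf] at hn ⊢
    obtain ⟨s, hs, hsn⟩ := (mem_autInducedBy_iff S S _).mp hn
    rw [mem_autInducedBy_iff]
    refine ⟨((g : MulAut S) ⟨s, hs⟩ : S), ((g : MulAut S) ⟨s, hs⟩).2, fun x => ?_⟩
    show ((((g : MulAut S) * n * (g : MulAut S)⁻¹) x : S) : Ω) = _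
    simp only [MulAut.mul_apply]
    have e : (n : MulAut S) ((g : MulAut S)⁻¹ x) =
        (⟨s, hs⟩ : S) * ((g : MulAut S)⁻¹ x) * (⟨s, hs⟩ : S)⁻¹ := Subtype.ext (hsn _)
    rw [e, map_mul, map_mul, map_inv, MulAut.apply_inv_self]
    rfl
  obtain ⟨m, hmdef⟩ : ∃ m : ℕ, m = (R : Subgroup (F.autGroup S)).index := ⟨_, rfl⟩
  have hm := Subgroup.pow_index_mem (R : Subgroup (F.autGroup S)) (⟨σ, hσ⟩ : F.autGroup S)
  rw [← hmdef] at hm
  have hcop : Nat.Coprime p m := by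
    rw [hmdef]
    exact (Nat.Prime.coprime_iff_not_dvd hp).mpr R.not_dvd_index
  rw [hR, Subgroup.mem_subgroupOf] at hm
  obtain ⟨s, hs, hsσ⟩ := (mem_autInducedBy_iff S S _).mp hm
  have hσm : (σ ^ m) z = z := by
    apply Subtype.ext
    have := hsσ z
    simp only [Subgroup.coe_pow] at this
    rw [this]
    have hc := congrArg Subtype.val ((mem_ZS.mp hz) ⟨s, hs⟩)
    simp only [Subgroup.coe_mul] at hc
    rw [hc]
    group
  -- Bezout
  have hA : σ ^ p ∈ MulAction.stabilizer (MulAut S) z := by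
    rw [MulAction.mem_stabilizer_iff]; exact hσp
  have hB : σ ^ m ∈ MulAction.stabilizer (MulAut S) z := by
    rw [MulAction.mem_stabilizer_iff]; exact hσm
  have hbez := Nat.gcd_eq_gcd_ab p m
  rw [Nat.Coprime.gcd_eq_one hcop] at hbez
  have h3 : σ = (σ ^ p) ^ (p.gcdA m) * (σ ^ m) ^ (p.gcdB m) := by
    rw [← zpow_natCast, ← zpow_natCast, ← zpow_mul, ← zpow_mul, ← zpow_add]
    have : (p : ℤ) * p.gcdA m + (m : ℤ) * p.gcdB m = 1 := by
      push_cast at hbez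
      linarith
    rw [this, zpow_one]
  have h4 : σ ∈ MulAction.stabilizer (MulAut S) z := by
    rw [h3]
    exact Subgroup.mul_mem _ (Subgroup.zpow_mem _ hA _) (Subgroup.zpow_mem _ hB _)
  exact MulAction.mem_stabilizer_iff.mp h4

/-- `τ` inverts `S'` and acts trivially on `Z(S)/S'` -/
def Rinv (S : Subgroup Ω) (τ : MulAut S) : Prop :=
  (∀ a ∈ LS S, τ a = a⁻¹) ∧ ∀ z ∈ ZS S, z⁻¹ * τ z ∈ LS S

theorem LS_le_ZS [Fact p.Prime] (h : Sq p S) : LS S ≤ ZS S := by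
  unfold LS ZS
  intro x hx
  rw [Subgroup.mem_subgroupOf] at hx ⊢
  exact h.Lc_le_Zc hx

theorem Rinv.conj {τ : MulAut S} (hτ : Rinv S τ) (α : MulAut S) : Rinv S (α * τ * α⁻¹) := by
  refine ⟨fun a ha => ?_, fun z hz => ?_⟩
  · show α (τ (α⁻¹ a)) = a⁻¹
    rw [hτ.1 _ (map_mem_LS α⁻¹ ha), map_inv, MulAut.apply_inv_self]
  · show z⁻¹ * α (τ (α⁻¹ z)) ∈ LS S
    have := map_mem_LS α (hτ.2 _ (map_mem_ZS α⁻¹ hz))
    rw [map_mul, map_inv, MulAut.apply_inv_self] at this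
    exact this

/-- two inverting automorphisms agree on `Z(S)` -/
theorem Rinv.agree [Fact p.Prime] [Finite S] (h : Sq p S) (F : FusionSystem S)
    (hF : F.IsSaturated p) (hLp : ∀ a ∈ LS S, a ^ p = 1) {τ₁ τ₂ : MulAut S}
    (h₁ : τ₁ ∈ F.autGroup S) (h₂ : τ₂ ∈ F.autGroup S) (hR₁ : Rinv S τ₁) (hR₂ : Rinv S τ₂) :
    ∀ z ∈ ZS S, τ₁ z = τ₂ z := by
  have key : ∀ {τ τ' : MulAut S}, τ ∈ F.autGroup S → τ' ∈ F.autGroup S → Rinv S τ → Rinv S τ' →
      ∀ z ∈ ZS S, τ (τ' z) = z := by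
    intro τ τ' hτ hτ' hR hR'
    have := fix_center_of_stab h.hS F hF hLp (Subgroup.mul_mem _ hτ hτ')
      (fun a ha => by
        show τ (τ' a) = a
        rw [hR'.1 a ha, map_inv, hR.1 a ha, inv_inv])
      (fun z hz => by
        show z⁻¹ * τ (τ' z) ∈ LS S
        have hl := hR'.2 z hz
        have e : τ' z = z * (z⁻¹ * τ' z) := by simp
        rw [e, map_mul, hR.1 _ hl]
        have := Subgroup.mul_mem _ (hR.2 z hz) (Subgroup.inv_mem _ hl)
        rw [← mul_assoc]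
        exact this)
    exact this
  intro z hz
  have hw : τ₂ z ∈ ZS S := map_mem_ZS τ₂ hz
  have e1 : τ₁ (τ₂ (τ₂ z)) = τ₂ z := key h₁ h₂ hR₁ hR₂ _ hw
  have e2 : τ₂ (τ₂ z) = z := key h₂ h₂ hR₂ hR₂ z hz
  rw [e2] at e1
  exact e1

end Cfsg.Agent.Lib.Helper7.Trv
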