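import Mathlib
import Cfsg.Prelude.Def_FusionSystem
import Cfsg.Agent.Lib.Helper7.TrvI
import Cfsg.Agent.Lib.Helper7.FusionNormal

set_option autoImplicit false

namespace Cfsg.Agent.Lib.Helper7.Trv

open Cfsg Cfsg.FusionSystem Cfsg.Agent.Lib.Helper7

variable {Ω : Type*} [Group Ω] {p : ℕ} {S P : Subgroup Ω}

theorem map_eq_of_forall_mem {H : Type*} [Group H] (A : Subgroup (MulAut H)) (Q : Subgroup H)
    (h : ∀ α ∈ A, ∀ x ∈ Q, α x ∈ Q) : ∀ α ∈ A, Q.map α.toMonoidHom = Q := by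
  intro α hα
  apply le_antisymm
  · rintro _ ⟨x, hx, rfl⟩
    exact h α hα x hx
  · intro x hx
    exact ⟨α⁻¹ x, h α⁻¹ (A.inv_mem hα) x hx, by simp⟩

/-- fixed points of `τ` in `Z(S)`, as a subgroup of the ambient group -/
def fixZ (S : Subgroup Ω) (τ : MulAut S) : Subgroup Ω := (ZS S ⊓ fixSub τ).map S.subtype

theorem mem_fixZ {τ : MulAut S} {x : Ω} :
    x ∈ fixZ S τ ↔ ∃ hx : x ∈ S, (⟨x, hx⟩ : S) ∈ ZS S ∧ τ ⟨x, hx⟩ = ⟨x, hx⟩ := by
  unfold fixZ
  constructor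
  · rintro ⟨z, ⟨hz1, hz2⟩, rfl⟩
    exact ⟨z.2, hz1, hz2⟩
  · rintro ⟨hx, h1, h2⟩
    exact ⟨⟨x, hx⟩, ⟨h1, h2⟩, rfl⟩

theorem fixZ_le_Zc (τ : MulAut S) : fixZ S τ ≤ Zc S := by
  intro x hx
  obtain ⟨hxS, h1, -⟩ := mem_fixZ.mp hx
  exact Subgroup.mem_subgroupOf.mp h1

theorem eq_one_of_sq_of_pow [Fact p.Prime] (hp2 : p ≠ 2) {H : Type*} [Group H] {a : H}
    (h2 : a * a = 1) (hp : a ^ p = 1) : a = 1 := by
  have hpp : p.Prime := Fact.out
  have hodd : p % 2 = 1 := by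
    rcases hpp.eq_two_or_odd with h | h
    · exact absurd h hp2
    · exact h
  have h3 : a ^ 2 = 1 := by rw [pow_two]; exact h2
  have : a ^ p = a := by
    conv_lhs => rw [← Nat.div_add_mod p 2, hodd, pow_add, pow_mul, h3, one_pow, one_mul, pow_one]
  rw [← this]
  exact hp

namespace Mid

/-- the extension to `S` of the inverting element attached to a non-normalizing `g` -/
theorem exists_invertor [Fact p.Prime] [Finite S] (h : Sq p S) (hM : Mid S P) (F : FusionSystem S)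
    (hF : F.IsSaturated p) (hp2 : p ≠ 2) {y : Ω} (hyS : y ∈ S) (hyP : y ∉ P) {g : MulAut P}
    (hg : g ∈ F.autGroup P)
    (hne : g * uAut P y (hM.le_normalizer h hyS) * g⁻¹ ∉
      Subgroup.zpowers (uAut P y (hM.le_normalizer h hyS))) :
    ∃ τ ∈ F.autGroup S, Rinv S τ ∧ ∀ x : P, x ∈ fixSub (uAut P y (hM.le_normalizer h hyS)) →
      (((τ ⟨x, hM.hPS x.2⟩ : S) : Ω) = x ↔
        x ∈ fixSub (g * uAut P y (hM.le_normalizer h hyS) * g⁻¹)) := by
  have : Finite P := finite_of_le hM.hPS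
  obtain ⟨u, hudef⟩ : ∃ u, u = uAut P y (hM.le_normalizer h hyS) := ⟨_, rfl⟩
  rw [← hudef] at hne ⊢
  have hH : Hyp p (hM.commP h) (F.autGroup P) u := hudef ▸ hM.hyp h F hF hyS hyP
  have hpair := Pair.of_conj hH hg hne
  obtain ⟨t, htG, htu, htC, htL⟩ := hpair.exists_inverting
  have hnorm : t * u * t⁻¹ ∈ Subgroup.zpowers u := by
    rw [htu, mul_inv_cancel_right]
    exact Subgroup.mem_zpowers u
  rw [hudef] at hnorm
  obtain ⟨τ, hτ, hτext⟩ := hM.exists_extension h F hF hyS hyP htG hnorm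
  have hfixeq : fixSub u = (Zc S).subgroupOf P := hudef ▸ hM.fixSub_uAut h hyS hyP
  have hcommeq : commSub (hM.commP h) u = (Lc S).subgroupOf P := hudef ▸ hM.commSub_uAut h hyS hyP
  have hLp : ∀ a ∈ commSub (hM.commP h) u, a ^ p = 1 := fun a ha =>
    pow_eq_one_of_card_prime hH.hL ha
  -- action of t on Z
  have htZ : ∀ x : P, x ∈ fixSub u → ∃ c ∈ fixSub u ⊓ fixSub (g * u * g⁻¹),
      ∃ a ∈ commSub (hM.commP h) u, x = c * a ∧ t x = c * a⁻¹ := by
    intro x hx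
    obtain ⟨c, hcC, a, ha, rfl⟩ := hpair.exists_mul_of_mem hx
    exact ⟨c, hcC, a, ha, rfl, by rw [map_mul, htC c hcC, htL a ha]⟩
  refine ⟨τ, hτ, ⟨fun a ha => ?_, fun z hz => ?_⟩, fun x hx => ?_⟩
  · -- inverts S'
    have haL : (a : Ω) ∈ Lc S := Subgroup.mem_subgroupOf.mp ha
    have haP : (a : Ω) ∈ P := hM.hZP (h.Lc_le_Zc haL)
    have h1 : (⟨(a : Ω), haP⟩ : P) ∈ commSub (hM.commP h) u := by
      rw [hcommeq, Subgroup.mem_subgroupOf]; exact haL
    apply Subtype.ext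
    have := hτext ⟨(a : Ω), haP⟩
    rw [htL _ h1] at this
    exact this
  · have hzZ : (z : Ω) ∈ Zc S := Subgroup.mem_subgroupOf.mp hz
    have hzP : (z : Ω) ∈ P := hM.hZP hzZ
    have h1 : (⟨(z : Ω), hzP⟩ : P) ∈ fixSub u := by
      rw [hfixeq, Subgroup.mem_subgroupOf]; exact hzZ
    obtain ⟨c, hcC, a, ha, hx, htx⟩ := htZ _ h1
    have h2 := hτext ⟨(z : Ω), hzP⟩
    rw [htx] at h2
    unfold LS
    rw [Subgroup.mem_subgroupOf]
    show (z : Ω)⁻¹ * ((τ z : S) : Ω) ∈ Lc S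
    have hz' : (z : Ω) = (c : Ω) * (a : Ω) := congrArg Subtype.val hx
    have e1 : ((τ z : S) : Ω) = (c : Ω) * (a : Ω)⁻¹ := h2
    rw [e1, hz']
    have e2 : ((c : Ω) * (a : Ω))⁻¹ * ((c : Ω) * (a : Ω)⁻¹) = (a : Ω)⁻¹ * (a : Ω)⁻¹ := by group
    rw [e2]
    have haL : (a : Ω) ∈ Lc S := by
      rw [hcommeq, Subgroup.mem_subgroupOf] at ha; exact ha
    exact Subgroup.mul_mem _ (Subgroup.inv_mem _ haL) (Subgroup.inv_mem _ haL)
  · obtain ⟨c, hcC, a, ha, hxe, htx⟩ := htZ x hx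
    have h2 := hτext x
    rw [htx] at h2
    rw [h2]
    constructor
    · intro he
      have he' : c * a⁻¹ = c * a := by
        apply Subtype.ext
        rw [hxe] at he
        exact he
      have h3 : a⁻¹ = a := mul_left_cancel he'
      have h4 : a * a = 1 := by
        nth_rewrite 1 [← h3]
        exact inv_mul_cancel a
      have h5 : a = 1 := eq_one_of_sq_of_pow hp2 h4 (hLp a ha)
      rw [hxe, h5, mul_one]
      exact hcC.2
    · intro hx'
      have h3 := htC x ⟨hx, hx'⟩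
      rw [htx] at h3
      exact congrArg Subtype.val h3

end Mid

end Cfsg.Agent.Lib.Helper7.Trv
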