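import Mathlib
import Cfsg.Prelude.Def_FusionSystem
import Cfsg.Agent.Lib.Helper7.TrvJ
import Cfsg.Agent.Lib.Helper7.FusionCore

set_option autoImplicit false

namespace Cfsg.Agent.Lib.Helper7.Trv

open Cfsg Cfsg.FusionSystem Cfsg.Agent.Lib.Helper7

variable {Ω : Type*} [Group Ω] {p : ℕ} {S P : Subgroup Ω}

theorem mem_fixSub_conj_inv {H : Type*} [Group H] {α β : MulAut H} {x : H}
    (hx : x ∈ fixSub (α⁻¹ * β * α⁻¹⁻¹)) : α x ∈ fixSub β := by
  rw [fixSub_conj] at hx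
  obtain ⟨w, hw, hwx⟩ := hx
  have : α x = w := by
    rw [← hwx]
    show α (α⁻¹ w) = w
    simp
  rw [this]
  exact hw

theorem exists_not_mem_of_mid (hM : Mid S P) : ∃ y ∈ S, y ∉ P := by
  by_contra hcon
  push Not at hcon
  exact hM.hne2 hcon

theorem LS_pow [Fact p.Prime] [Finite S] (h : Sq p S) (hM : Mid S P) (F : FusionSystem S)
    (hF : F.IsSaturated p) : ∀ a ∈ LS S, a ^ p = 1 := by
  intro a ha
  have h1 : ((a : Ω)) ^ p = 1 :=
    pow_eq_one_of_card_prime (hM.card_Lc h F hF) (Subgroup.mem_subgroupOf.mp ha)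
  exact Subtype.ext h1

/-- if there is no essential subgroup then `S` is normal in `F` -/
theorem isNormal_top_of_no_essential [Fact p.Prime] [Finite S] (hS : IsPGroup p S)
    (F : FusionSystem S) (hF : F.IsSaturated p) (hE : ¬ ∃ P, F.IsEssential p P) : F.IsNormal S := by
  apply isNormal_of_essential_invariant p hS F hF
  intro P hP
  rcases hP with rfl | hess
  · refine ⟨le_rfl, fun α _ => ?_⟩
    have : P.subgroupOf P = ⊤ := Subgroup.subgroupOf_self P
    rw [this]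
    exact Subgroup.map_top_of_surjective _ α.surjective
  · exact absurd ⟨P, hess⟩ hE

theorem Sq.ne_bot [Fact p.Prime] (h : Sq p S) : S ≠ ⊥ := by
  have hp : p.Prime := Fact.out
  intro hS
  have h1 : S ≤ Zc S := by rw [hS]; exact bot_le
  have := Subgroup.relIndex_eq_one.mpr h1
  rw [h.hidx] at this
  have h2 : 1 < p ^ 2 := Nat.one_lt_pow (by norm_num) hp.one_lt
  omega

/-- the odd case: `Z(S)` has order `p` -/
theorem card_Zc_odd [Fact p.Prime] [Finite S] (h : Sq p S) (F : FusionSystem S)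
    (hF : F.IsSaturated p) (hcore : F.core = ⊥) (hp2 : p ≠ 2) : Nat.card (Zc S) = p := by
  by_cases hE : ∃ P, F.IsEssential p P
  swap
  · exfalso
    have := isNormal_top_of_no_essential h.hS F hF hE
    have h1 : S ≤ F.core := le_sSup this
    rw [hcore] at h1
    exact h.ne_bot (eq_bot_iff.mpr h1)
  obtain ⟨P₀, hE₀⟩ := hE
  have hM₀ := mid_of_isEssential h F hF hE₀
  obtain ⟨y₀, hy₀S, hy₀P⟩ := exists_not_mem_of_mid hM₀
  obtain ⟨g₀, hg₀, hne₀⟩ := exists_not_normalizing h F hF hE₀ hy₀S hy₀P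
  obtain ⟨τ₀, hτ₀, hR₀, hiff₀⟩ := hM₀.exists_invertor h F hF hp2 hy₀S hy₀P hg₀ hne₀
  have hLp := LS_pow h hM₀ F hF
  -- the key local description of X = fixZ S τ₀
  have hA : ∀ (P : Subgroup Ω) (hM : Mid S P) (y : Ω) (hyS : y ∈ S) (_ : y ∉ P) (k : MulAut P),
      k ∈ F.autGroup P →
      k * uAut P y (hM.le_normalizer h hyS) * k⁻¹ ∉
        Subgroup.zpowers (uAut P y (hM.le_normalizer h hyS)) →
      ∀ x : P, (x : Ω) ∈ fixZ S τ₀ ↔ x ∈ fixSub (uAut P y (hM.le_normalizer h hyS)) ⊓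
        fixSub (k * uAut P y (hM.le_normalizer h hyS) * k⁻¹) := by
    intro P hM y hyS hyP k hk hne x
    obtain ⟨τ, hτ, hR, hiff⟩ := hM.exists_invertor h F hF hp2 hyS hyP hk hne
    have hag := Rinv.agree h F hF hLp hτ hτ₀ hR hR₀
    have hfixeq := hM.fixSub_uAut h hyS hyP
    rw [mem_fixZ]
    constructor
    · rintro ⟨hxS, hxZ, hxfix⟩
      have hxu : x ∈ fixSub (uAut P y (hM.le_normalizer h hyS)) := by
        rw [hfixeq, Subgroup.mem_subgroupOf]
        exact Subgroup.mem_subgroupOf.mp hxZ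
      refine ⟨hxu, (hiff x hxu).mp ?_⟩
      have := hag ⟨x, hxS⟩ hxZ
      rw [this, hxfix]
    · rintro ⟨hxu, hxk⟩
      have hxZc : (x : Ω) ∈ Zc S := by
        have h1 : x ∈ (Zc S).subgroupOf P := hfixeq ▸ hxu
        exact Subgroup.mem_subgroupOf.mp h1
      have hxZ : (⟨(x : Ω), hM.hPS x.2⟩ : S) ∈ ZS S := Subgroup.mem_subgroupOf.mpr hxZc
      refine ⟨hM.hPS x.2, hxZ, ?_⟩
      have := hag _ hxZ
      rw [← this]
      exact Subtype.ext ((hiff x hxu).mpr hxk)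
  have hnormal : F.IsNormal (fixZ S τ₀) := by
    apply isNormal_of_essential_invariant p h.hS F hF
    intro P hP
    rcases hP with rfl | hess
    · refine ⟨(fixZ_le_Zc τ₀).trans (Zc_le P), ?_⟩
      apply map_eq_of_forall_mem
      intro α hα x hx
      rw [Subgroup.mem_subgroupOf] at hx ⊢
      obtain ⟨hxS, hxZ, hxfix⟩ := mem_fixZ.mp hx
      rw [mem_fixZ]
      have hαxZ : α x ∈ ZS P := map_mem_ZS α hxZ
      refine ⟨(α x).2, hαxZ, ?_⟩
      have hconj : α * τ₀ * α⁻¹ ∈ F.autGroup P :=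
        Subgroup.mul_mem _ (Subgroup.mul_mem _ hα hτ₀) (Subgroup.inv_mem _ hα)
      have hag := Rinv.agree h F hF hLp hconj hτ₀ (hR₀.conj α) hR₀ (α x) hαxZ
      rw [← hag]
      show α (τ₀ (α⁻¹ (α x))) = α x
      rw [MulAut.inv_apply_self]
      have : τ₀ x = x := hxfix
      rw [this]
    · have hM := mid_of_isEssential h F hF hess
      have : Finite P := finite_of_le hM.hPS
      obtain ⟨y, hyS, hyP⟩ := exists_not_mem_of_mid hM
      obtain ⟨g₁, hg₁, hne₁⟩ := exists_not_normalizing h F hF hess hyS hyP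
      obtain ⟨u, hudef⟩ : ∃ u, u = uAut P y (hM.le_normalizer h hyS) := ⟨_, rfl⟩
      have hH : Hyp p (hM.commP h) (F.autGroup P) u := hudef ▸ hM.hyp h F hF hyS hyP
      have hne₁' : g₁ * u * g₁⁻¹ ∉ Subgroup.zpowers u := by rw [hudef]; exact hne₁
      have hA' : ∀ k ∈ F.autGroup P, k * u * k⁻¹ ∉ Subgroup.zpowers u →
          ∀ x : P, (x : Ω) ∈ fixZ S τ₀ ↔ x ∈ fixSub u ⊓ fixSub (k * u * k⁻¹) := by
        intro k hk hne x
        rw [hudef] at hne ⊢
        exact hA P hM y hyS hyP k hk hne x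
      -- (B)
      have hB : ∀ k ∈ F.autGroup P, ∀ x : P, (x : Ω) ∈ fixZ S τ₀ → x ∈ fixSub (k * u * k⁻¹) := by
        intro k hk x hx
        by_cases hn : k * u * k⁻¹ ∈ Subgroup.zpowers u
        · obtain ⟨j, hj⟩ := Subgroup.mem_zpowers_iff.mp hn
          have hxu : x ∈ fixSub u := ((hA' g₁ hg₁ hne₁' x).mp hx).1
          rw [← hj]
          have hxu' : u x = x := hxu
          show (u ^ j) x = x
          have : u ∈ MulAction.stabilizer (MulAut P) x := MulAction.mem_stabilizer_iff.mpr hxu'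
          exact MulAction.mem_stabilizer_iff.mp (Subgroup.zpow_mem _ this j)
        · exact ((hA' k hk hn x).mp hx).2
      refine ⟨(fixZ_le_Zc τ₀).trans hM.hZP, ?_⟩
      apply map_eq_of_forall_mem
      intro α hα x hx
      rw [Subgroup.mem_subgroupOf] at hx ⊢
      rw [hA' g₁ hg₁ hne₁' (α x)]
      constructor
      · have h1 := hB α⁻¹ (Subgroup.inv_mem _ hα) x hx
        have h2 := mem_fixSub_conj_inv h1
        have e : α⁻¹⁻¹ = α := inv_inv α
        exact h2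
      · have h1 := hB (α⁻¹ * g₁) (Subgroup.mul_mem _ (Subgroup.inv_mem _ hα) hg₁) x hx
        have e : α⁻¹ * g₁ * u * (α⁻¹ * g₁)⁻¹ = α⁻¹ * (g₁ * u * g₁⁻¹) * α⁻¹⁻¹ := by group
        rw [e] at h1
        exact mem_fixSub_conj_inv h1
  have hX : fixZ S τ₀ = ⊥ := by
    have h1 : fixZ S τ₀ ≤ F.core := le_sSup hnormal
    rw [hcore] at h1
    exact eq_bot_iff.mpr h1
  -- Z ≤ L
  have hZL : Zc S ≤ Lc S := by
    intro z hz
    have hzP : z ∈ P₀ := hM₀.hZP hz
    have : Finite P₀ := finite_of_le hM₀.hPS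
    obtain ⟨u, hudef⟩ : ∃ u, u = uAut P₀ y₀ (hM₀.le_normalizer h hy₀S) := ⟨_, rfl⟩
    have hH : Hyp p (hM₀.commP h) (F.autGroup P₀) u := hudef ▸ hM₀.hyp h F hF hy₀S hy₀P
    have hne₀' : g₀ * u * g₀⁻¹ ∉ Subgroup.zpowers u := hudef ▸ hne₀
    have hpair := Pair.of_conj hH hg₀ hne₀'
    have hzu : (⟨z, hzP⟩ : P₀) ∈ fixSub u := by
      rw [hudef, hM₀.fixSub_uAut h hy₀S hy₀P, Subgroup.mem_subgroupOf]; exact hz
    obtain ⟨c, hcC, a, ha, hzca⟩ := hpair.exists_mul_of_mem hzu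
    have hcX : (c : Ω) ∈ fixZ S τ₀ := by
      rw [hA P₀ hM₀ y₀ hy₀S hy₀P g₀ hg₀ hne₀ c, ← hudef]
      exact hcC
    rw [hX, Subgroup.mem_bot] at hcX
    have hc1 : c = 1 := Subtype.ext hcX
    rw [hc1, one_mul] at hzca
    have haL : (a : Ω) ∈ Lc S := by
      rw [hudef, hM₀.commSub_uAut h hy₀S hy₀P, Subgroup.mem_subgroupOf] at ha; exact ha
    have : z = (a : Ω) := congrArg Subtype.val hzca
    rw [this]
    exact haL
  have heq : Zc S = Lc S := le_antisymm hZL h.Lc_le_Zc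
  rw [heq]
  exact hM₀.card_Lc h F hF

end Cfsg.Agent.Lib.Helper7.Trv
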