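import Mathlib
import Cfsg.Prelude.Def_FusionSystem
import Cfsg.Agent.Lib.Helper7.TrvK

set_option autoImplicit false

namespace Cfsg.Agent.Lib.Helper7.Trv

open Cfsg Cfsg.FusionSystem Cfsg.Agent.Lib.Helper7

variable {Ω : Type*} [Group Ω] {S P : Subgroup Ω}

/-- the `Aut_F(P)`-core of `Z(S)` in `P` -/
def Cc (F : FusionSystem S) (P : Subgroup Ω) : Subgroup Ω where
  carrier := {x | ∃ hx : x ∈ P, ∀ α ∈ F.autGroup P, ((α ⟨x, hx⟩ : P) : Ω) ∈ Zc S}
  one_mem' := ⟨P.one_mem, fun α _ => by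
    have : (⟨1, P.one_mem⟩ : P) = 1 := rfl
    rw [this, map_one]
    exact Subgroup.one_mem _⟩
  mul_mem' := by
    rintro a b ⟨ha, ha'⟩ ⟨hb, hb'⟩
    refine ⟨P.mul_mem ha hb, fun α hα => ?_⟩
    have : (⟨a * b, P.mul_mem ha hb⟩ : P) = ⟨a, ha⟩ * ⟨b, hb⟩ := rfl
    rw [this, map_mul]
    exact Subgroup.mul_mem _ (ha' α hα) (hb' α hα)
  inv_mem' := by
    rintro a ⟨ha, ha'⟩
    refine ⟨P.inv_mem ha, fun α hα => ?_⟩
    have : (⟨a⁻¹, P.inv_mem ha⟩ : P) = (⟨a, ha⟩ : P)⁻¹ := rfl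
    rw [this, map_inv]
    exact Subgroup.inv_mem _ (ha' α hα)

theorem mem_Cc {F : FusionSystem S} {x : Ω} :
    x ∈ Cc F P ↔ ∃ hx : x ∈ P, ∀ α ∈ F.autGroup P, ((α ⟨x, hx⟩ : P) : Ω) ∈ Zc S := Iff.rfl

theorem Cc_le (F : FusionSystem S) (P : Subgroup Ω) : Cc F P ≤ P := fun _ hx => hx.1

theorem Cc_le_Zc (F : FusionSystem S) (P : Subgroup Ω) : Cc F P ≤ Zc S := by
  rintro x ⟨hx, h⟩
  exact h 1 (Subgroup.one_mem _)

theorem map_mem_Cc {F : FusionSystem S} {x : P} (hx : (x : Ω) ∈ Cc F P) {β : MulAut P}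
    (hβ : β ∈ F.autGroup P) : ((β x : P) : Ω) ∈ Cc F P := by
  obtain ⟨hxP, h⟩ := hx
  refine ⟨(β x).2, fun α hα => ?_⟩
  exact h (α * β) (Subgroup.mul_mem _ hα hβ)

/-- the data attached to an essential subgroup -/
theorem exists_pair [Fact (Nat.Prime 2)] [Finite S] (h : Sq 2 S) (F : FusionSystem S)
    (hF : F.IsSaturated 2) (hE : F.IsEssential 2 P) :
    ∃ (hM : Mid S P) (y : Ω) (hyS : y ∈ S) (_ : y ∉ P) (g : MulAut P), g ∈ F.autGroup P ∧
      Pair 2 (hM.commP h) (F.autGroup P) (uAut P y (hM.le_normalizer h hyS))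
        (g * uAut P y (hM.le_normalizer h hyS) * g⁻¹) := by
  have hM := mid_of_isEssential h F hF hE
  have : Finite P := finite_of_le hM.hPS
  obtain ⟨y, hyS, hyP⟩ := exists_not_mem_of_mid hM
  obtain ⟨g, hg, hne⟩ := exists_not_normalizing h F hF hE hyS hyP
  exact ⟨hM, y, hyS, hyP, g, hg, Pair.of_conj (hM.hyp h F hF hyS hyP) hg hne⟩

theorem mem_Cc_iff_pair [Fact (Nat.Prime 2)] [Finite S] (h : Sq 2 S) (F : FusionSystem S)
    (hM : Mid S P) {y : Ω} (hyS : y ∈ S) (hyP : y ∉ P) {g : MulAut P} (hg : g ∈ F.autGroup P)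
    (hpair : Pair 2 (hM.commP h) (F.autGroup P) (uAut P y (hM.le_normalizer h hyS))
        (g * uAut P y (hM.le_normalizer h hyS) * g⁻¹)) (x : P) :
    (x : Ω) ∈ Cc F P ↔ x ∈ fixSub (uAut P y (hM.le_normalizer h hyS)) ⊓
      fixSub (g * uAut P y (hM.le_normalizer h hyS) * g⁻¹) := by
  have : Finite P := finite_of_le hM.hPS
  have hfix := hM.fixSub_uAut h hyS hyP
  constructor
  · rintro ⟨hx, hx'⟩
    refine Subgroup.mem_inf.mpr ⟨?_, ?_⟩
    · rw [hfix, Subgroup.mem_subgroupOf]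
      exact hx' 1 (Subgroup.one_mem _)
    · rw [fixSub_conj]
      have h1 : g⁻¹ x ∈ fixSub (uAut P y (hM.le_normalizer h hyS)) := by
        rw [hfix, Subgroup.mem_subgroupOf]
        exact hx' g⁻¹ (Subgroup.inv_mem _ hg)
      exact ⟨g⁻¹ x, h1, by simp⟩
  · intro hx
    refine ⟨x.2, fun α hα => ?_⟩
    have h1 := hpair.map_mem_fixSub hα hx
    rw [hfix, Subgroup.mem_subgroupOf] at h1
    exact h1

/-- a `Γ`-invariant central subgroup lying in all the cores is normal in `F` -/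
theorem isNormal_of_le_Cc [Fact (Nat.Prime 2)] [Finite S] (h : Sq 2 S) (F : FusionSystem S)
    (hF : F.IsSaturated 2) {X : Subgroup Ω} (hXZ : X ≤ Zc S)
    (hΓ : ∀ α ∈ F.autGroup S, ∀ x : S, (x : Ω) ∈ X → ((α x : S) : Ω) ∈ X)
    (hC : ∀ P, F.IsEssential 2 P → X ≤ Cc F P) : F.IsNormal X := by
  apply isNormal_of_essential_invariant 2 h.hS F hF
  intro P hP
  rcases hP with rfl | hess
  · refine ⟨hXZ.trans (Zc_le P), ?_⟩
    apply map_eq_of_forall_mem
    intro α hα x hx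
    rw [Subgroup.mem_subgroupOf] at hx ⊢
    exact hΓ α hα x hx
  · obtain ⟨hM, y, hyS, hyP, g, hg, hpair⟩ := exists_pair h F hF hess
    have : Finite P := finite_of_le hM.hPS
    refine ⟨hXZ.trans hM.hZP, ?_⟩
    apply map_eq_of_forall_mem
    intro α hα x hx
    rw [Subgroup.mem_subgroupOf] at hx ⊢
    obtain ⟨k, hkG, hkC, hke⟩ := hpair.frattini hα
    obtain ⟨n, hndef⟩ : ∃ n, n = k⁻¹ * α := ⟨_, rfl⟩
    have hn : n ∈ F.autGroup P := hndef ▸ Subgroup.mul_mem _ (Subgroup.inv_mem _ hkG) hα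
    have hnu : n * uAut P y (hM.le_normalizer h hyS) * n⁻¹ = uAut P y (hM.le_normalizer h hyS) := by
      have e : n * uAut P y (hM.le_normalizer h hyS) * n⁻¹ =
          k⁻¹ * (α * uAut P y (hM.le_normalizer h hyS) * α⁻¹) * k := by
        rw [hndef]; group
      rw [e, hke]
      group
    obtain ⟨m, hm, hmext⟩ := hM.exists_extension h F hF hyS hyP hn
      (by rw [hnu]; exact Subgroup.mem_zpowers _)
    have h1 : ((n x : P) : Ω) ∈ X := by
      rw [← hmext x]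
      exact hΓ m hm ⟨x, hM.hPS x.2⟩ hx
    have h2 := (mem_Cc_iff_pair h F hM hyS hyP hg hpair (n x)).mp (hC P hess h1)
    have h3 : α x = k (n x) := by
      rw [hndef]
      simp
    rw [h3, hkC _ h2]
    exact h1

/-- the squares of the central elements -/
def Xsq (S : Subgroup Ω) : Subgroup Ω where
  carrier := {x | ∃ z ∈ Zc S, x = z * z}
  one_mem' := ⟨1, Subgroup.one_mem _, by simp⟩
  mul_mem' := by
    rintro _ _ ⟨z₁, hz₁, rfl⟩ ⟨z₂, hz₂, rfl⟩
    refine ⟨z₁ * z₂, Subgroup.mul_mem _ hz₁ hz₂, ?_⟩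
    have hc := (mem_Zc.mp hz₂).2 z₁ (Zc_le S hz₁)
    calc z₁ * z₁ * (z₂ * z₂) = z₁ * (z₁ * z₂) * z₂ := by group
      _ = z₁ * (z₂ * z₁) * z₂ := by rw [hc]
      _ = z₁ * z₂ * (z₁ * z₂) := by group
  inv_mem' := by
    rintro _ ⟨z, hz, rfl⟩
    exact ⟨z⁻¹, Subgroup.inv_mem _ hz, by group⟩

theorem Xsq_le_Zc (S : Subgroup Ω) : Xsq S ≤ Zc S := by
  rintro _ ⟨z, hz, rfl⟩
  exact Subgroup.mul_mem _ hz hz

theorem mul3_sq {H : Type*} [Group H] (hc : ∀ a b : H, a * b = b * a) (c a b : H) :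
    (c * a * b) * (c * a * b) = (c * c) * (a * a) * (b * b) := by
  calc (c * a * b) * (c * a * b) = c * (a * (b * c) * a) * b := by group
    _ = c * (a * (c * b) * a) * b := by rw [hc b c]
    _ = c * ((a * c) * (b * a)) * b := by group
    _ = c * ((c * a) * (a * b)) * b := by rw [hc a c, hc b a]
    _ = (c * c) * (a * a) * (b * b) := by group

/-- when the core is trivial the centre has exponent 2 -/
theorem Zc_sq [Fact (Nat.Prime 2)] [Finite S] (h : Sq 2 S) (F : FusionSystem S)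
    (hF : F.IsSaturated 2) (hcore : F.core = ⊥) : ∀ z ∈ Zc S, z * z = 1 := by
  have hnormal : F.IsNormal (Xsq S) := by
    apply isNormal_of_le_Cc h F hF (Xsq_le_Zc S)
    · rintro α hα x ⟨z, hz, hxz⟩
      have hzZ : (⟨z, Zc_le S hz⟩ : S) ∈ ZS S := Subgroup.mem_subgroupOf.mpr hz
      have hx : x = ⟨z, Zc_le S hz⟩ * ⟨z, Zc_le S hz⟩ := Subtype.ext hxz
      refine ⟨((α ⟨z, Zc_le S hz⟩ : S) : Ω), Subgroup.mem_subgroupOf.mp (map_mem_ZS α hzZ), ?_⟩
      rw [hx, map_mul]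
      rfl
    · intro P hess
      obtain ⟨hM, y, hyS, hyP, g, hg, hpair⟩ := exists_pair h F hF hess
      have : Finite P := finite_of_le hM.hPS
      rintro _ ⟨z, hz, rfl⟩
      have hzP : z ∈ P := hM.hZP hz
      have hzu : (⟨z, hzP⟩ : P) ∈ fixSub (uAut P y (hM.le_normalizer h hyS)) := by
        rw [hM.fixSub_uAut h hyS hyP, Subgroup.mem_subgroupOf]; exact hz
      obtain ⟨c, hcC, a, ha, hzca⟩ := hpair.exists_mul_of_mem hzu
      have ha2 : a * a = 1 := by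
        have := pow_eq_one_of_card_prime hpair.hu.hL ha
        rwa [pow_two] at this
      have hcc : c * c ∈ fixSub (uAut P y (hM.le_normalizer h hyS)) ⊓
          fixSub (g * uAut P y (hM.le_normalizer h hyS) * g⁻¹) := Subgroup.mul_mem _ hcC hcC
      have e : (⟨z, hzP⟩ : P) * ⟨z, hzP⟩ = c * c := by
        rw [hzca]
        have := mul3_sq (hM.commP h) c a 1
        simp only [mul_one] at this
        rw [this, ha2, mul_one]
      have := (mem_Cc_iff_pair h F hM hyS hyP hg hpair (c * c)).mpr hcc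
      rw [← e] at this
      exact this
  have hX : Xsq S = ⊥ := by
    have h1 : Xsq S ≤ F.core := le_sSup hnormal
    rw [hcore] at h1
    exact eq_bot_iff.mpr h1
  intro z hz
  have : z * z ∈ Xsq S := ⟨z, hz, rfl⟩
  rw [hX, Subgroup.mem_bot] at this
  exact this

/-- essential subgroups are elementary abelian -/
theorem essential_sq [Fact (Nat.Prime 2)] [Finite S] (h : Sq 2 S) (F : FusionSystem S)
    (hF : F.IsSaturated 2) (hcore : F.core = ⊥) (hess : F.IsEssential 2 P) :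
    ∀ x ∈ P, x * x = 1 := by
  obtain ⟨hM, y, hyS, hyP, g, hg, hpair⟩ := exists_pair h F hF hess
  have : Finite P := finite_of_le hM.hPS
  intro x hx
  obtain ⟨c, hcC, a, ha, b, hb, hxe⟩ := hpair.exists_mul_mul ⟨x, hx⟩
  have ha2 : a * a = 1 := by
    have := pow_eq_one_of_card_prime hpair.hu.hL ha
    rwa [pow_two] at this
  have hb2 : b * b = 1 := by
    have := pow_eq_one_of_card_prime hpair.hu'.hL hb
    rwa [pow_two] at this
  have hc2 : c * c = 1 := by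
    have hcZ : (c : Ω) ∈ Zc S := by
      have := (Subgroup.mem_inf.mp hcC).1
      rw [hM.fixSub_uAut h hyS hyP, Subgroup.mem_subgroupOf] at this
      exact this
    exact Subtype.ext (Zc_sq h F hF hcore _ hcZ)
  have e : (⟨x, hx⟩ : P) * ⟨x, hx⟩ = 1 := by
    rw [hxe, mul3_sq (hM.commP h), ha2, hb2, hc2]
    simp
  exact congrArg Subtype.val e

end Cfsg.Agent.Lib.Helper7.Trv
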