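import Mathlib
import Cfsg.Prelude.Def_FusionSystem
import Cfsg.Agent.Lib.Helper7.TrvL

set_option autoImplicit false

namespace Cfsg.Agent.Lib.Helper7.Trv

open Cfsg Cfsg.FusionSystem Cfsg.Agent.Lib.Helper7
open scoped Pointwise

variable {Ω : Type*} [Group Ω] {p : ℕ} {S P : Subgroup Ω}

theorem mid_eq_of_mem [Fact p.Prime] [Finite S] (h : Sq p S) {Q Q' : Subgroup Ω} (hQ : Mid S Q)
    (hQ' : Mid S Q') {w : Ω} (hw : w ∈ Q) (hw' : w ∈ Q') (hwZ : w ∉ Zc S) : Q = Q' :=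
  (hQ.Zc_sup_zpowers h hw hwZ).symm.trans (hQ'.Zc_sup_zpowers h hw' hwZ)

theorem exists_not_mem_Zc_of_mid (hM : Mid S P) : ∃ x ∈ P, x ∉ Zc S := by
  by_contra hcon
  push Not at hcon
  exact hM.hne1 hcon

theorem Mid.mul_mem_of_not_mem [Fact (Nat.Prime 2)] [Finite S] (h : Sq 2 S) (hM : Mid S P)
    {a b : Ω} (ha : a ∈ S) (hb : b ∈ S) (haP : a ∉ P) (hbP : b ∉ P) : a * b ∈ P := by
  have hidx : (P.subgroupOf S).index = 2 := (hM.relIndex_eq h).2
  have := Subgroup.mul_mem_iff_of_index_two hidx (a := ⟨a, ha⟩) (b := ⟨b, hb⟩)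
  rw [Subgroup.mem_subgroupOf, Subgroup.mem_subgroupOf, Subgroup.mem_subgroupOf] at this
  exact this.mpr ⟨fun h => absurd h haP, fun h => absurd h hbP⟩

/-- at most two intermediate subgroups are elementary abelian -/
theorem mid_trichotomy [Fact (Nat.Prime 2)] [Finite S] (h : Sq 2 S) {Q₁ Q₂ Q : Subgroup Ω}
    (h₁ : Mid S Q₁) (h₂ : Mid S Q₂) (hQ : Mid S Q) (e₁ : ∀ x ∈ Q₁, x * x = 1)
    (e₂ : ∀ x ∈ Q₂, x * x = 1) (e : ∀ x ∈ Q, x * x = 1) (h12 : Q₁ ≠ Q₂) :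
    Q = Q₁ ∨ Q = Q₂ := by
  by_contra hcon
  push Not at hcon
  obtain ⟨hne1, hne2⟩ := hcon
  obtain ⟨w, hwQ, hwZ⟩ := exists_not_mem_Zc_of_mid hQ
  obtain ⟨q, hqQ, hqZ⟩ := exists_not_mem_Zc_of_mid h₂
  have hw1 : w ∉ Q₁ := fun hw => hne1 (mid_eq_of_mem h hQ h₁ hwQ hw hwZ)
  have hw2 : w ∉ Q₂ := fun hw => hne2 (mid_eq_of_mem h hQ h₂ hwQ hw hwZ)
  have hq1 : q ∉ Q₁ := fun hq => h12 (mid_eq_of_mem h h₁ h₂ hq hqQ hqZ)
  have hwq : w * q ∈ Q₁ := h₁.mul_mem_of_not_mem h (hQ.hPS hwQ) (h₂.hPS hqQ) hw1 hq1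
  have h1 := e₁ _ hwq
  have hw2' := e w hwQ
  have hq2 := e₂ q hqQ
  have hcomm : w * q = q * w := by
    have hwi : w⁻¹ = w := inv_eq_of_mul_eq_one_right hw2'
    have hqi : q⁻¹ = q := inv_eq_of_mul_eq_one_right hq2
    have := inv_eq_of_mul_eq_one_right h1
    rw [mul_inv_rev, hwi, hqi] at this
    exact this.symm
  exact hqZ (h₂.mem_Zc_of_comm h (hQ.hPS hwQ) hw2 hqQ hcomm)

/-- a subgroup of `↥S` viewed in the ambient group -/
def up (Q : Subgroup S) : Subgroup Ω := Q.map S.subtype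

theorem mem_up {Q : Subgroup S} {x : Ω} : x ∈ up Q ↔ ∃ hx : x ∈ S, (⟨x, hx⟩ : S) ∈ Q := by
  unfold up
  constructor
  · rintro ⟨w, hw, rfl⟩
    exact ⟨w.2, hw⟩
  · rintro ⟨hx, hxQ⟩
    exact ⟨⟨x, hx⟩, hxQ, rfl⟩

theorem coe_mem_up {Q : Subgroup S} {x : S} : (x : Ω) ∈ up Q ↔ x ∈ Q := by
  rw [mem_up]
  constructor
  · rintro ⟨_, h⟩; exact h
  · intro h; exact ⟨x.2, h⟩

theorem up_le (Q : Subgroup S) : up Q ≤ S := fun _ hx => (mem_up.mp hx).1

theorem up_injective {Q Q' : Subgroup S} (h : up Q = up Q') : Q = Q' := by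
  ext x
  rw [← coe_mem_up, h, coe_mem_up]

theorem up_subgroupOf (hPS : P ≤ S) : up (P.subgroupOf S) = P := by
  ext x
  rw [mem_up]
  constructor
  · rintro ⟨hx, h⟩; exact Subgroup.mem_subgroupOf.mp h
  · intro hx; exact ⟨hPS hx, Subgroup.mem_subgroupOf.mpr hx⟩

theorem mem_smul_iff {H : Type*} [Group H] (α : MulAut H) (Q : Subgroup H) (x : H) :
    x ∈ α • Q ↔ α⁻¹ x ∈ Q := Subgroup.mem_pointwise_smul_iff_inv_smul_mem

theorem apply_mem_smul {H : Type*} [Group H] (α : MulAut H) (Q : Subgroup H) (x : H) :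
    α x ∈ α • Q ↔ x ∈ Q := by
  rw [mem_smul_iff, MulAut.inv_apply_self]

theorem Mid.smul {Q : Subgroup S} (hM : Mid S (up Q)) (α : MulAut S) : Mid S (up (α • Q)) := by
  refine ⟨fun z hz => ?_, up_le _, fun hle => ?_, fun hle => ?_⟩
  · have hzS : z ∈ S := Zc_le S hz
    rw [mem_up]
    refine ⟨hzS, ?_⟩
    rw [mem_smul_iff, ← coe_mem_up]
    apply hM.hZP
    have h1 : (⟨z, hzS⟩ : S) ∈ ZS S := Subgroup.mem_subgroupOf.mpr hz
    exact Subgroup.mem_subgroupOf.mp (map_mem_ZS α⁻¹ h1)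
  · obtain ⟨x, hxQ, hxZ⟩ := exists_not_mem_Zc_of_mid hM
    obtain ⟨hxS, hxQ'⟩ := mem_up.mp hxQ
    apply hxZ
    have h1 : ((α ⟨x, hxS⟩ : S) : Ω) ∈ up (α • Q) := by
      rw [coe_mem_up, apply_mem_smul]; exact hxQ'
    have h2 : α ⟨x, hxS⟩ ∈ ZS S := Subgroup.mem_subgroupOf.mpr (hle h1)
    have h3 := map_mem_ZS α⁻¹ h2
    rw [MulAut.inv_apply_self] at h3
    exact Subgroup.mem_subgroupOf.mp h3
  · obtain ⟨y, hyS, hyQ⟩ := exists_not_mem_of_mid hM
    apply hyQ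
    have h1 := hle (α ⟨y, hyS⟩).2
    rw [coe_mem_up, apply_mem_smul] at h1
    rw [mem_up]
    exact ⟨hyS, h1⟩

theorem sq_smul {Q : Subgroup S} (hsq : ∀ x ∈ up Q, x * x = 1) (α : MulAut S) :
    ∀ x ∈ up (α • Q), x * x = 1 := by
  intro x hx
  obtain ⟨hxS, hxQ⟩ := mem_up.mp hx
  rw [mem_smul_iff, ← coe_mem_up] at hxQ
  have h1 := hsq _ hxQ
  have h2 : α⁻¹ ⟨x, hxS⟩ * α⁻¹ ⟨x, hxS⟩ = 1 := Subtype.ext h1
  rw [← map_mul] at h2
  have h3 : (⟨x, hxS⟩ : S) * ⟨x, hxS⟩ = 1 := by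
    have := congrArg α h2
    rw [MulAut.apply_inv_self, map_one] at this
    exact this
  exact congrArg Subtype.val h3

theorem smul_eq_of_forall_mem {H : Type*} [Group H] [Finite H] (β : MulAut H) (Q : Subgroup H)
    (hβ : ∀ x ∈ Q, β x ∈ Q) : β • Q = Q := by
  apply Subgroup.eq_of_le_of_card_ge
  · intro x hx
    rw [mem_smul_iff] at hx
    have := hβ _ hx
    rwa [MulAut.apply_inv_self] at this
  · exact (Nat.card_congr (Subgroup.equivSMul β Q).toEquiv).le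

/-- some power of odd... prime-to-`p` exponent of an `F`-automorphism of `S` is inner -/
theorem exists_pow_inner [Fact p.Prime] [Finite S] (hS : IsPGroup p S) (F : FusionSystem S)
    (hF : F.IsSaturated p) {σ : MulAut S} (hσ : σ ∈ F.autGroup S) :
    ∃ m : ℕ, Nat.Coprime p m ∧ ∃ s ∈ S, ∀ x : S, (((σ ^ m) x : S) : Ω) = s * x * s⁻¹ := by
  have hp : p.Prime := Fact.out
  obtain ⟨-, R, hR⟩ := isFullyAutomized_top_of_isSaturated p hS F hF
  have hRn : (R : Subgroup (F.autGroup S)).Normal := by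
    rw [hR]
    refine ⟨fun n hn g => ?_⟩
    rw [Subgroup.mem_subgroupOf] at hn ⊢
    obtain ⟨s, hs, hsn⟩ := (mem_autInducedBy_iff S S _).mp hn
    rw [mem_autInducedBy_iff]
    refine ⟨((g : MulAut S) ⟨s, hs⟩ : S), ((g : MulAut S) ⟨s, hs⟩).2, fun x => ?_⟩
    show ((((g : MulAut S) * n * (g : MulAut S)⁻¹) x : S) : Ω) = _
    simp only [MulAut.mul_apply]
    have e : (n : MulAut S) ((g : MulAut S)⁻¹ x) =
        (⟨s, hs⟩ : S) * ((g : MulAut S)⁻¹ x) * (⟨s, hs⟩ : S)⁻¹ := Subtype.ext (hsn _)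
    rw [e, map_mul, map_mul, map_inv, MulAut.apply_inv_self]
    rfl
  obtain ⟨m, hmdef⟩ : ∃ m : ℕ, m = (R : Subgroup (F.autGroup S)).index := ⟨_, rfl⟩
  have hm := Subgroup.pow_index_mem (R : Subgroup (F.autGroup S)) (⟨σ, hσ⟩ : F.autGroup S)
  rw [← hmdef] at hm
  have hcop : Nat.Coprime p m := by
    rw [hmdef]
    exact (Nat.Prime.coprime_iff_not_dvd hp).mpr R.not_dvd_index
  rw [hR, Subgroup.mem_subgroupOf] at hm
  obtain ⟨s, hs, hsσ⟩ := (mem_autInducedBy_iff S S _).mp hm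
  refine ⟨m, hcop, s, hs, fun x => ?_⟩
  have := hsσ x
  simp only [Subgroup.coe_pow] at this
  exact this

/-- `Aut_F(S)` fixes every elementary abelian intermediate subgroup -/
theorem smul_eq_of_sq [Fact (Nat.Prime 2)] [Finite S] (h : Sq 2 S) (F : FusionSystem S)
    (hF : F.IsSaturated 2) (hM : Mid S P) (hsq : ∀ x ∈ P, x * x = 1) {α : MulAut S}
    (hα : α ∈ F.autGroup S) : α • P.subgroupOf S = P.subgroupOf S := by
  obtain ⟨P', hP'def⟩ : ∃ P', P' = P.subgroupOf S := ⟨_, rfl⟩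
  rw [← hP'def]
  have hup : up P' = P := hP'def ▸ up_subgroupOf hM.hPS
  have hM' : Mid S (up P') := hup.symm ▸ hM
  have hsq' : ∀ x ∈ up P', x * x = 1 := hup.symm ▸ hsq
  -- A: an odd power is inner
  obtain ⟨m, hcop, s, hs, hsσ⟩ := exists_pow_inner h.hS F hF hα
  have hA : α ^ m ∈ MulAction.stabilizer (MulAut S) P' := by
    rw [MulAction.mem_stabilizer_iff]
    apply smul_eq_of_forall_mem
    intro x hx
    rw [← coe_mem_up, hsσ x, hup]
    have hxP : (x : Ω) ∈ P := by rw [← hup, coe_mem_up]; exact hx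
    exact (Subgroup.mem_normalizer_iff.mp (hM.le_normalizer h hs) _).mp hxP
  -- B: the square stabilizes
  have hB : α ^ 2 ∈ MulAction.stabilizer (MulAut S) P' := by
    rw [MulAction.mem_stabilizer_iff, pow_two, mul_smul]
    by_cases hfix : α • P' = P'
    · rw [hfix, hfix]
    · have h12 : up P' ≠ up (α • P') := fun he => hfix (up_injective he).symm
      rcases mid_trichotomy h hM' (hM'.smul α) ((hM'.smul α).smul α) hsq' (sq_smul hsq' α)
        (sq_smul (sq_smul hsq' α) α) h12 with h1 | h1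
      · exact up_injective h1
      · exfalso
        have := up_injective h1
        exact hfix (smul_left_cancel α this)
  -- C: Bezout
  have hbez := Nat.gcd_eq_gcd_ab 2 m
  rw [Nat.Coprime.gcd_eq_one hcop] at hbez
  have h3 : α = (α ^ 2) ^ (Nat.gcdA 2 m) * (α ^ m) ^ (Nat.gcdB 2 m) := by
    rw [← zpow_natCast, ← zpow_natCast, ← zpow_mul, ← zpow_mul, ← zpow_add]
    have : ((2 : ℕ) : ℤ) * Nat.gcdA 2 m + (m : ℤ) * Nat.gcdB 2 m = 1 := by
      push_cast at hbez ⊢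
      linarith
    rw [this, zpow_one]
  have h4 : α ∈ MulAction.stabilizer (MulAut S) P' := by
    rw [h3]
    exact Subgroup.mul_mem _ (Subgroup.zpow_mem _ hB _) (Subgroup.zpow_mem _ hA _)
  exact MulAction.mem_stabilizer_iff.mp h4

/-- restriction of an automorphism of `S` stabilizing `P` -/
theorem exists_restrict [Finite S] (F : FusionSystem S) (hPS : P ≤ S) {α : MulAut S}
    (hα : α ∈ F.autGroup S) (hst : ∀ x : S, (x : Ω) ∈ P → ((α x : S) : Ω) ∈ P) :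
    ∃ β ∈ F.autGroup P, ∀ x : P, ((β x : P) : Ω) = (α ⟨x, hPS x.2⟩ : S) := by
  have : Finite P := finite_of_le hPS
  obtain ⟨φ, hφdef⟩ : ∃ φ : P →* Ω,
      φ = (S.subtype.comp α.toMonoidHom).comp (Subgroup.inclusion hPS) := ⟨_, rfl⟩
  have hφ : φ ∈ F.Hom P := by
    rw [hφdef]
    exact fs_restrict_mem F hPS ((mem_autGroup_iff F le_rfl α).mp hα)
  have hφx : ∀ x : P, φ x = (α ⟨x, hPS x.2⟩ : S) := fun x => by rw [hφdef]; rfl
  have hinj := F.injective_of_mem hφ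
  have hr : φ.range = P := by
    apply Subgroup.eq_of_le_of_card_ge
    · rintro _ ⟨x, rfl⟩
      rw [hφx]
      exact hst _ x.2
    · exact (Nat.card_congr (Equiv.ofInjective φ hinj)).le
  refine ⟨isoOfRange φ hinj hr, ?_, fun x => ?_⟩
  · rw [mem_autGroup_iff F hPS]
    convert hφ using 1
    ext x
    rfl
  · rw [isoOfRange_coe, hφx]

end Cfsg.Agent.Lib.Helper7.Trv
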