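import Mathlib
import Cfsg.Prelude.Def_FusionSystem
import Cfsg.Agent.Lib.Helper7.TrvM
import Cfsg.Agent.Lib.Helper7.FusionFocal

set_option autoImplicit false

namespace Cfsg.Agent.Lib.Helper7.Trv

open Cfsg Cfsg.FusionSystem Cfsg.Agent.Lib.Helper7
open scoped Pointwise

variable {Ω : Type*} [Group Ω] {S P : Subgroup Ω}

/-- `Aut_F(S)` stabilizes the essential subgroups -/
theorem aut_mem_of_essential [Fact (Nat.Prime 2)] [Finite S] (h : Sq 2 S) (F : FusionSystem S)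
    (hF : F.IsSaturated 2) (hcore : F.core = ⊥) (hess : F.IsEssential 2 P) {α : MulAut S}
    (hα : α ∈ F.autGroup S) (x : S) (hx : (x : Ω) ∈ P) : ((α x : S) : Ω) ∈ P := by
  have hM := mid_of_isEssential h F hF hess
  have h1 := smul_eq_of_sq h F hF hM (essential_sq h F hF hcore hess) hα
  have h2 : α x ∈ α • P.subgroupOf S := by
    rw [apply_mem_smul]; exact Subgroup.mem_subgroupOf.mpr hx
  rw [h1] at h2
  exact Subgroup.mem_subgroupOf.mp h2

theorem exists_restrict_essential [Fact (Nat.Prime 2)] [Finite S] (h : Sq 2 S)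
    (F : FusionSystem S) (hF : F.IsSaturated 2) (hcore : F.core = ⊥) (hess : F.IsEssential 2 P)
    {α : MulAut S} (hα : α ∈ F.autGroup S) :
    ∃ β ∈ F.autGroup P, ∀ (x : P) (hx : (x : Ω) ∈ S), ((β x : P) : Ω) = (α ⟨x, hx⟩ : S) := by
  have hM := mid_of_isEssential h F hF hess
  obtain ⟨β, hβ, hβx⟩ := exists_restrict F hM.hPS hα
    (fun x hx => aut_mem_of_essential h F hF hcore hess hα x hx)
  exact ⟨β, hβ, fun x _ => hβx x⟩

theorem core_ne_of_essential [Fact (Nat.Prime 2)] [Finite S] (h : Sq 2 S)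
    (F : FusionSystem S) (hF : F.IsSaturated 2) (hcore : F.core = ⊥) :
    ∃ P₁ P₂, F.IsEssential 2 P₁ ∧ F.IsEssential 2 P₂ ∧ P₁ ≠ P₂ := by
  by_cases hE : ∃ P, F.IsEssential 2 P
  swap
  · exfalso
    have := isNormal_top_of_no_essential h.hS F hF hE
    have h1 : S ≤ F.core := le_sSup this
    rw [hcore] at h1
    exact h.ne_bot (eq_bot_iff.mpr h1)
  obtain ⟨P₁, hE₁⟩ := hE
  by_contra hcon
  push Not at hcon
  have hM := mid_of_isEssential h F hF hE₁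
  have hnormal : F.IsNormal P₁ := by
    apply isNormal_of_essential_invariant 2 h.hS F hF
    intro P hP
    rcases hP with rfl | hess
    · refine ⟨hM.hPS, ?_⟩
      apply map_eq_of_forall_mem
      intro α hα x hx
      rw [Subgroup.mem_subgroupOf] at hx ⊢
      exact aut_mem_of_essential h F hF hcore hE₁ hα x hx
    · have : P₁ = P := hcon P₁ P hE₁ hess
      subst this
      refine ⟨le_rfl, fun α _ => ?_⟩
      have : P₁.subgroupOf P₁ = ⊤ := Subgroup.subgroupOf_self P₁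
      rw [this]
      exact Subgroup.map_top_of_surjective _ α.surjective
  have h1 : P₁ ≤ F.core := le_sSup hnormal
  rw [hcore] at h1
  exact hM.hne1 (h1.trans bot_le)

/-- decomposition of the centre along an essential subgroup -/
theorem Zc_decomp [Fact (Nat.Prime 2)] [Finite S] (h : Sq 2 S) (F : FusionSystem S)
    (hF : F.IsSaturated 2) (hess : F.IsEssential 2 P) :
    ∀ z ∈ Zc S, ∃ d ∈ Cc F P, ∃ a ∈ Lc S, z = d * a := by
  obtain ⟨hM, y, hyS, hyP, g, hg, hpair⟩ := exists_pair h F hF hess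
  have : Finite P := finite_of_le hM.hPS
  intro z hz
  have hzP : z ∈ P := hM.hZP hz
  have hzu : (⟨z, hzP⟩ : P) ∈ fixSub (uAut P y (hM.le_normalizer h hyS)) := by
    rw [hM.fixSub_uAut h hyS hyP, Subgroup.mem_subgroupOf]; exact hz
  obtain ⟨c, hcC, a, ha, hzca⟩ := hpair.exists_mul_of_mem hzu
  refine ⟨(c : Ω), (mem_Cc_iff_pair h F hM hyS hyP hg hpair c).mpr hcC, (a : Ω), ?_,
    congrArg Subtype.val hzca⟩
  rw [hM.commSub_uAut h hyS hyP, Subgroup.mem_subgroupOf] at ha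
  exact ha

/-- the complement `W` attached to an essential subgroup whose core is centralized -/
theorem exists_W [Fact (Nat.Prime 2)] [Finite S] (h : Sq 2 S) (F : FusionSystem S)
    (hF : F.IsSaturated 2) (hess : F.IsEssential 2 P)
    (hfix : ∀ β ∈ F.autGroup P, ∀ x : P, (x : Ω) ∈ Cc F P → β x = x) :
    ∃ W : Subgroup Ω, Lc S ≤ W ∧ W ≤ P ∧
      (∀ β ∈ F.autGroup P, ∀ x : P, (x : Ω)⁻¹ * ((β x : P) : Ω) ∈ W) ∧
      ∀ x ∈ W, x ∈ Zc S → x ∈ Lc S := by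
  obtain ⟨hM, y, hyS, hyP, g, hg, hpair⟩ := exists_pair h F hF hess
  have : Finite P := finite_of_le hM.hPS
  obtain ⟨u, hudef⟩ : ∃ u, u = uAut P y (hM.le_normalizer h hyS) := ⟨_, rfl⟩
  rw [← hudef] at hpair
  have hfixeq : fixSub u = (Zc S).subgroupOf P := hudef ▸ hM.fixSub_uAut h hyS hyP
  have hcommeq : commSub (hM.commP h) u = (Lc S).subgroupOf P := hudef ▸ hM.commSub_uAut h hyS hyP
  have hCc : ∀ x : P, (x : Ω) ∈ Cc F P ↔ x ∈ fixSub u ⊓ fixSub (g * u * g⁻¹) := by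
    intro x
    rw [hudef]
    rw [hudef] at hpair
    exact mem_Cc_iff_pair h F hM hyS hyP hg hpair x
  refine ⟨(commSub (hM.commP h) u ⊔ commSub (hM.commP h) (g * u * g⁻¹)).map P.subtype,
    ?_, ?_, ?_, ?_⟩
  · intro a ha
    have haP : a ∈ P := hM.hZP (h.Lc_le_Zc ha)
    refine ⟨⟨a, haP⟩, ?_, rfl⟩
    apply Subgroup.mem_sup_left
    rw [hcommeq, Subgroup.mem_subgroupOf]
    exact ha
  · rintro _ ⟨w, -, rfl⟩
    exact w.2
  · intro β hβ x
    obtain ⟨c, hcC, a, ha, b, hb, hxe⟩ := hpair.exists_mul_mul x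
    have hw : a * b ∈ commSub (hM.commP h) u ⊔ commSub (hM.commP h) (g * u * g⁻¹) :=
      Subgroup.mul_mem_sup ha hb
    have hβw := hpair.map_mem_sup hβ hw
    have hβc : β c = c := hfix β hβ c ((hCc c).mpr hcC)
    refine ⟨(a * b)⁻¹ * β (a * b), Subgroup.mul_mem _ (Subgroup.inv_mem _ hw) hβw, ?_⟩
    have e : x⁻¹ * β x = (a * b)⁻¹ * β (a * b) := by
      rw [hxe, mul_assoc c a b, map_mul β c (a * b), hβc]
      group
    rw [← e]
    rfl
  · rintro _ ⟨w, hw, rfl⟩ hwZ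
    have hwu : w ∈ fixSub u := by
      rw [hfixeq, Subgroup.mem_subgroupOf]; exact hwZ
    have := hpair.mem_commSub_of_mem hw hwu
    rw [hcommeq, Subgroup.mem_subgroupOf] at this
    exact this

theorem conj_mem_of_Lc_le {T : Subgroup Ω} (hLT : Lc S ≤ T) (hTS : T ≤ S) {s t : Ω} (hs : s ∈ S)
    (ht : t ∈ T) : s * t * s⁻¹ ∈ T := by
  have : s * t * s⁻¹ = (s * t * s⁻¹ * t⁻¹) * t := by group
  rw [this]
  exact T.mul_mem (hLT (comm_mem_Lc hs (hTS ht))) ht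

theorem le_normalizer_of_Lc_le {T : Subgroup Ω} (hLT : Lc S ≤ T) (hTS : T ≤ S) :
    S ≤ Subgroup.normalizer (T : Set Ω) := by
  intro s hs
  rw [Subgroup.mem_normalizer_iff]
  intro x
  constructor
  · exact conj_mem_of_Lc_le hLT hTS hs
  · intro hx
    have := conj_mem_of_Lc_le hLT hTS (S.inv_mem hs) hx
    have e : s⁻¹ * (s * x * s⁻¹) * s⁻¹⁻¹ = x := by group
    rwa [e] at this

/-- the case `p = 2`: `Z(S)` has order 2 -/
theorem card_Zc_two [Fact (Nat.Prime 2)] [Finite S] (h : Sq 2 S) (F : FusionSystem S)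
    (hF : F.IsSaturated 2) (hcore : F.core = ⊥) (hhyp : F.hyperfocalSubgroup 2 = S) :
    Nat.card (Zc S) = 2 := by
  obtain ⟨P₁, P₂, hE₁, hE₂, h12⟩ := core_ne_of_essential h F hF hcore
  have hM₁ := mid_of_isEssential h F hF hE₁
  have hM₂ := mid_of_isEssential h F hF hE₂
  have hsq₁ := essential_sq h F hF hcore hE₁
  have hsq₂ := essential_sq h F hF hcore hE₂
  have hall : ∀ P, F.IsEssential 2 P → P = P₁ ∨ P = P₂ := fun P hess =>
    mid_trichotomy h hM₁ hM₂ (mid_of_isEssential h F hF hess) hsq₁ hsq₂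
      (essential_sq h F hF hcore hess) h12
  -- X₀ = C₁ ∩ C₂ is normal, hence trivial
  have hnormal : F.IsNormal (Cc F P₁ ⊓ Cc F P₂) := by
    apply isNormal_of_le_Cc h F hF (inf_le_left.trans (Cc_le_Zc F P₁))
    · intro α hα x hx
      obtain ⟨β₁, hβ₁, hβ₁x⟩ := exists_restrict_essential h F hF hcore hE₁ hα
      obtain ⟨β₂, hβ₂, hβ₂x⟩ := exists_restrict_essential h F hF hcore hE₂ hα
      obtain ⟨hx1, hx2⟩ := Subgroup.mem_inf.mp hx
      refine Subgroup.mem_inf.mpr ⟨?_, ?_⟩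
      · have := map_mem_Cc (x := ⟨(x : Ω), Cc_le F P₁ hx1⟩) hx1 hβ₁
        rw [hβ₁x _ x.2] at this
        exact this
      · have := map_mem_Cc (x := ⟨(x : Ω), Cc_le F P₂ hx2⟩) hx2 hβ₂
        rw [hβ₂x _ x.2] at this
        exact this
    · intro P hess
      rcases hall P hess with rfl | rfl
      · exact inf_le_left
      · exact inf_le_right
  have hX : Cc F P₁ ⊓ Cc F P₂ = ⊥ := by
    have h1 : Cc F P₁ ⊓ Cc F P₂ ≤ F.core := le_sSup hnormal
    rw [hcore] at h1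
    exact eq_bot_iff.mpr h1
  have hcardL : Nat.card (Lc S) = 2 := hM₁.card_Lc h F hF
  -- each core has at most one nontrivial element
  have huniq : ∀ {Q Q' : Subgroup Ω}, F.IsEssential 2 Q' → Cc F Q ⊓ Cc F Q' = ⊥ →
      ∀ c ∈ Cc F Q, ∀ c' ∈ Cc F Q, c ≠ 1 → c' ≠ 1 → c = c' := by
    intro Q Q' hE' hbot c hc c' hc' hc1 hc'1
    obtain ⟨d, hd, a, ha, hcda⟩ := Zc_decomp h F hF hE' c (Cc_le_Zc F Q hc)
    obtain ⟨d', hd', a', ha', hcda'⟩ := Zc_decomp h F hF hE' c' (Cc_le_Zc F Q hc')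
    have ha1 : a ≠ 1 := by
      rintro rfl
      rw [mul_one] at hcda
      have : c ∈ Cc F Q ⊓ Cc F Q' := Subgroup.mem_inf.mpr ⟨hc, hcda ▸ hd⟩
      rw [hbot, Subgroup.mem_bot] at this
      exact hc1 this
    have ha'1 : a' ≠ 1 := by
      rintro rfl
      rw [mul_one] at hcda'
      have : c' ∈ Cc F Q ⊓ Cc F Q' := Subgroup.mem_inf.mpr ⟨hc', hcda' ▸ hd'⟩
      rw [hbot, Subgroup.mem_bot] at this
      exact hc'1 this
    have haa' : a = a' := eq_of_card_two hcardL ha ha' ha1 ha'1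
    have hmem : c * c'⁻¹ ∈ Cc F Q ⊓ Cc F Q' := by
      refine Subgroup.mem_inf.mpr ⟨Subgroup.mul_mem _ hc (Subgroup.inv_mem _ hc'), ?_⟩
      have e : c * c'⁻¹ = d * d'⁻¹ := by
        rw [hcda, hcda', haa']
        group
      rw [e]
      exact Subgroup.mul_mem _ hd (Subgroup.inv_mem _ hd')
    rw [hbot, Subgroup.mem_bot] at hmem
    exact mul_inv_eq_one.mp hmem
  have hfixC : ∀ {Q Q' : Subgroup Ω}, F.IsEssential 2 Q' → Cc F Q ⊓ Cc F Q' = ⊥ →
      ∀ β ∈ F.autGroup Q, ∀ x : Q, (x : Ω) ∈ Cc F Q → β x = x := by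
    intro Q Q' hE' hbot β hβ x hx
    by_cases hx1 : x = 1
    · rw [hx1, map_one]
    · have h1 : (x : Ω) ≠ 1 := fun he => hx1 (Subtype.ext he)
      have h2 : ((β x : Q) : Ω) ≠ 1 := by
        intro he
        apply hx1
        have : β x = 1 := Subtype.ext he
        exact β.injective (this.trans (map_one β).symm)
      exact Subtype.ext (huniq hE' hbot _ (map_mem_Cc hx hβ) _ hx h2 h1)
  obtain ⟨W₁, hLW₁, hWP₁, hcomm₁, hWZ₁⟩ := exists_W h F hF hE₁ (hfixC hE₂ hX)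
  obtain ⟨W₂, hLW₂, hWP₂, hcomm₂, hWZ₂⟩ := exists_W h F hF hE₂ (hfixC hE₁ (inf_comm (Cc F P₁) _ ▸ hX))
  -- the focal subgroup lies in T = W₁ W₂
  have hT : ⁅S, S⁆ ≤ W₁ ⊔ W₂ := by
    rw [Subgroup.commutator_le]
    intro a ha b hb
    rw [commutatorElement_def]
    exact Subgroup.mem_sup_left (hLW₁ (comm_mem_Lc ha hb))
  have hLT : Lc S ≤ W₁ ⊔ W₂ := hLW₁.trans le_sup_left
  have hTS : W₁ ⊔ W₂ ≤ S := sup_le (hWP₁.trans hM₁.hPS) (hWP₂.trans hM₂.hPS)
  obtain ⟨w, hwP₂, hwP₁⟩ : ∃ w ∈ P₂, w ∉ P₁ := by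
    obtain ⟨w, hwP, hwZ⟩ := exists_not_mem_Zc_of_mid hM₂
    exact ⟨w, hwP, fun hw => h12 (mid_eq_of_mem h hM₁ hM₂ hw hwP hwZ)⟩
  have hle : F ≤ focalSystem F (W₁ ⊔ W₂) hT := by
    apply alperin_goldschmidt 2 h.hS F hF
    intro P hP α hα
    rcases hP with rfl | hess
    · apply (mem_autGroup_iff _ le_rfl α).mpr
      refine ⟨(mem_autGroup_iff F le_rfl α).mp hα, fun x => ?_⟩
      show (x : Ω)⁻¹ * ((α x : P) : Ω) ∈ _
      obtain ⟨β₁, hβ₁, hβ₁x⟩ := exists_restrict_essential h F hF hcore hE₁ hα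
      obtain ⟨β₂, hβ₂, hβ₂x⟩ := exists_restrict_essential h F hF hcore hE₂ hα
      by_cases hxP : (x : Ω) ∈ P₁
      · have := hcomm₁ β₁ hβ₁ ⟨x, hxP⟩
        rw [hβ₁x _ x.2] at this
        exact Subgroup.mem_sup_left this
      · have hv : (x : Ω) * w ∈ P₁ := hM₁.mul_mem_of_not_mem h x.2 (hM₂.hPS hwP₂) hxP hwP₁
        have hwS : w ∈ P := hM₂.hPS hwP₂
        have h1 := hcomm₁ β₁ hβ₁ ⟨(x : Ω) * w, hv⟩
        rw [hβ₁x _ (P.mul_mem x.2 hwS)] at h1
        have h2 := hcomm₂ β₂ hβ₂ ⟨w⁻¹, P₂.inv_mem hwP₂⟩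
        rw [hβ₂x _ (P.inv_mem hwS)] at h2
        have hxe : x = (⟨(x : Ω) * w, P.mul_mem x.2 hwS⟩ : P) * ⟨w⁻¹, P.inv_mem hwS⟩ := by
          apply Subtype.ext
          simp
        have e : (x : Ω)⁻¹ * ((α x : P) : Ω) =
            (w * (((x : Ω) * w)⁻¹ * ((α ⟨(x : Ω) * w, P.mul_mem x.2 hwS⟩ : P) : Ω)) * w⁻¹) *
              ((w⁻¹)⁻¹ * ((α ⟨w⁻¹, P.inv_mem hwS⟩ : P) : Ω)) := by
          conv_lhs => rw [hxe, map_mul]
          simp only [Subgroup.coe_mul]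
          group
        rw [e]
        apply Subgroup.mul_mem
        · exact conj_mem_of_Lc_le hLT hTS hwS (Subgroup.mem_sup_left h1)
        · exact Subgroup.mem_sup_right h2
    · have hPS : P ≤ S := hess.1.1
      apply (mem_autGroup_iff _ hPS α).mpr
      refine ⟨(mem_autGroup_iff F hPS α).mp hα, fun x => ?_⟩
      show (x : Ω)⁻¹ * ((α x : P) : Ω) ∈ _
      rcases hall P hess with rfl | rfl
      · exact Subgroup.mem_sup_left (hcomm₁ α hα x)
      · exact Subgroup.mem_sup_right (hcomm₂ α hα x)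
  have hfoc : F.focalSubgroup ≤ W₁ ⊔ W₂ := by
    unfold FusionSystem.focalSubgroup
    rw [Subgroup.closure_le]
    rintro _ ⟨P, φ, x, hφ, rfl⟩
    exact (hle P hφ).2 x
  have hST : S ≤ W₁ ⊔ W₂ := by
    have h1 := focalSubgroup_eq 2 h.hS F hF
    calc S = F.hyperfocalSubgroup 2 := hhyp.symm
      _ ≤ F.focalSubgroup := by rw [h1]; exact le_sup_left
      _ ≤ W₁ ⊔ W₂ := hfoc
  -- Z ≤ L
  have hZL : Zc S ≤ Lc S := by
    intro z hz
    have hzT : z ∈ ((W₁ ⊔ W₂ : Subgroup Ω) : Set Ω) := hST (Zc_le S hz)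
    rw [Subgroup.coe_mul_of_right_le_normalizer_left W₁ W₂
      ((hWP₂.trans hM₂.hPS).trans (le_normalizer_of_Lc_le hLW₁ (hWP₁.trans hM₁.hPS)))] at hzT
    obtain ⟨w₁, hw₁, w₂, hw₂, rfl⟩ := hzT
    have hw₂P₁ : w₂ ∈ P₁ := by
      have : w₂ = w₁⁻¹ * (w₁ * w₂) := by group
      rw [this]
      exact P₁.mul_mem (P₁.inv_mem (hWP₁ hw₁)) (hM₁.hZP hz)
    have hw₂Z : w₂ ∈ Zc S := by
      by_contra hcon
      exact h12 (mid_eq_of_mem h hM₁ hM₂ hw₂P₁ (hWP₂ hw₂) hcon)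
    have hw₁Z : w₁ ∈ Zc S := by
      have : w₁ = (w₁ * w₂) * w₂⁻¹ := by group
      rw [this]
      exact Subgroup.mul_mem _ hz (Subgroup.inv_mem _ hw₂Z)
    exact Subgroup.mul_mem _ (hWZ₁ w₁ hw₁ hw₁Z) (hWZ₂ w₂ hw₂ hw₂Z)
  have heq : Zc S = Lc S := le_antisymm hZL h.Lc_le_Zc
  rw [heq]
  exact hcardL

end Cfsg.Agent.Lib.Helper7.Trv
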