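import Mathlib
import Cfsg.Prelude.Def_FusionSystem
import Cfsg.Agent.Lib.Helper7.TrvN
import Cfsg.Agent.Lib.Helper7.EssChainB

set_option autoImplicit false

namespace Cfsg.Agent.Lib.Helper7.Trv

open Cfsg Cfsg.FusionSystem Cfsg.Agent.Lib.Helper7
open scoped Pointwise

variable {Ω : Type*} [Group Ω] {p : ℕ} {S P : Subgroup Ω}

/-- an abelian `S` is normal in every saturated fusion system over it -/
theorem not_comm_of_core [Fact p.Prime] [Finite S] (hS : IsPGroup p S) (F : FusionSystem S)
    (hF : F.IsSaturated p) (hS1 : S ≠ ⊥) (hcore : F.core = ⊥) :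
    ¬ ∀ a b : S, a * b = b * a := by
  intro hcomm
  have hE : ¬ ∃ P, F.IsEssential p P := by
    rintro ⟨P, hess⟩
    have hPS : P ≤ S := hess.1.1
    have hcen : centralizerIn S P ≤ P := hess.1.2 P (isConj_refl F hPS)
    have hSP : S ≤ P := by
      intro s hs
      apply hcen
      refine Subgroup.mem_inf.mpr ⟨hs, Subgroup.mem_centralizer_iff.mpr ?_⟩
      intro g hg
      exact congrArg Subtype.val (hcomm ⟨g, hPS hg⟩ ⟨s, hs⟩)
    have : P = S := le_antisymm hPS hSP
    rw [this] at hess
    exact not_isEssential_top p hS F hF hess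
  have := isNormal_top_of_no_essential hS F hF hE
  have h1 : S ≤ F.core := le_sSup this
  rw [hcore] at h1
  exact hS1 (eq_bot_iff.mpr h1)

/-- the index of the centre is exactly `p²` -/
theorem index_center_eq [Fact p.Prime] [Finite S] (hS : IsPGroup p S)
    (hna : ¬ ∀ a b : S, a * b = b * a) (hZ : (Subgroup.center ↥S).index ≤ p ^ 2) :
    (Subgroup.center ↥S).index = p ^ 2 := by
  have hp : p.Prime := Fact.out
  obtain ⟨n, hn⟩ := hS.index (Subgroup.center ↥S)
  rw [hn] at hZ ⊢
  have hn2 : n ≤ 2 := (Nat.pow_le_pow_iff_right hp.one_lt).mp hZ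
  have hcyc : n ≤ 1 → False := by
    intro hn1
    apply hna
    have hcard : Nat.card (↥S ⧸ Subgroup.center ↥S) = p ^ n := by
      rw [← Subgroup.index_eq_card]; exact hn
    have : IsCyclic (↥S ⧸ Subgroup.center ↥S) := by
      interval_cases n
      · rw [pow_zero] at hcard
        have : Subsingleton (↥S ⧸ Subgroup.center ↥S) := (Nat.card_eq_one_iff_unique.mp hcard).1
        infer_instance
      · rw [pow_one] at hcard
        exact isCyclic_of_prime_card hcard
    intro a b
    exact (MonoidHom.isMulCommutative_of_isCyclic_of_ker_le_center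
      (QuotientGroup.mk' (Subgroup.center ↥S)) (by rw [QuotientGroup.ker_mk'])).is_comm.comm a b
  have : n = 2 := by
    by_contra hne
    exact hcyc (by omega)
  rw [this]

theorem Sq.of_index (hS : IsPGroup p S) (hidx : (Subgroup.center ↥S).index = p ^ 2) : Sq p S := by
  refine ⟨hS, ?_⟩
  show ((Zc S).subgroupOf S).index = p ^ 2
  rw [Zc_subgroupOf]
  exact hidx

theorem card_center_eq (S : Subgroup Ω) : Nat.card (Subgroup.center ↥S) = Nat.card (Zc S) := by
  rw [← Zc_subgroupOf]
  exact Nat.card_congr (Subgroup.subgroupOfEquivOfLe (Zc_le S)).toEquiv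

/-- the data attached to an essential subgroup, general `p` -/
theorem exists_pair' [Fact p.Prime] [Finite S] (h : Sq p S) (F : FusionSystem S)
    (hF : F.IsSaturated p) (hE : F.IsEssential p P) :
    ∃ (hM : Mid S P) (y : Ω) (hyS : y ∈ S) (_ : y ∉ P) (g : MulAut P), g ∈ F.autGroup P ∧
      Pair p (hM.commP h) (F.autGroup P) (uAut P y (hM.le_normalizer h hyS))
        (g * uAut P y (hM.le_normalizer h hyS) * g⁻¹) := by
  have hM := mid_of_isEssential h F hF hE
  have : Finite P := finite_of_le hM.hPS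
  obtain ⟨y, hyS, hyP⟩ := exists_not_mem_of_mid hM
  obtain ⟨g, hg, hne⟩ := exists_not_normalizing h F hF hE hyS hyP
  exact ⟨hM, y, hyS, hyP, g, hg, Pair.of_conj (hM.hyp h F hF hyS hyP) hg hne⟩

/-- when `|Z(S)| = p` the essential subgroups have exponent `p` -/
theorem essential_pow [Fact p.Prime] [Finite S] (h : Sq p S) (F : FusionSystem S)
    (hF : F.IsSaturated p) (hZ : Nat.card (Zc S) = p) (hess : F.IsEssential p P) :
    ∀ x ∈ P, x ^ p = 1 := by
  obtain ⟨hM, y, hyS, hyP, g, hg, hpair⟩ := exists_pair' h F hF hess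
  have : Finite P := finite_of_le hM.hPS
  intro x hx
  obtain ⟨c, hcC, a, ha, b, hb, hxe⟩ := hpair.exists_mul_mul ⟨x, hx⟩
  have hap : a ^ p = 1 := pow_eq_one_of_card_prime hpair.hu.hL ha
  have hbp : b ^ p = 1 := pow_eq_one_of_card_prime hpair.hu'.hL hb
  have hcp : c ^ p = 1 := by
    have hcZ : (c : Ω) ∈ Zc S := by
      have := (Subgroup.mem_inf.mp hcC).1
      rw [hM.fixSub_uAut h hyS hyP, Subgroup.mem_subgroupOf] at this
      exact this
    exact Subtype.ext (pow_eq_one_of_card_prime hZ hcZ)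
  have hcomm := hM.commP h
  have e : (⟨x, hx⟩ : P) ^ p = 1 := by
    have h1 : Commute (c * a) b := hcomm _ _
    have h2 : Commute c a := hcomm _ _
    rw [hxe, h1.mul_pow, h2.mul_pow, hap, hbp, hcp]
    simp
  exact congrArg Subtype.val e

/-- for odd `p`, `S` has exponent `p` -/
theorem forall_pow_eq_one [Fact p.Prime] [Finite S] (h : Sq p S) (F : FusionSystem S)
    (hF : F.IsSaturated p) (hcore : F.core = ⊥) (hZ : Nat.card (Zc S) = p)
    (hcard : Nat.card S = p ^ 3) (hna : ¬ ∀ a b : S, a * b = b * a) (hp2 : p ≠ 2) :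
    ∀ x : S, x ^ p = 1 := by
  have hp : p.Prime := Fact.out
  by_contra hexp
  push Not at hexp
  obtain ⟨x₀, hx₀⟩ := hexp
  obtain ⟨f, hfdef⟩ : ∃ f : S →* S, f = EssChain.ppowHom p hcard hna hp2 := ⟨_, rfl⟩
  have hfx : ∀ x, f x = x ^ p := fun x => by rw [hfdef]; rfl
  have hKtop : f.ker ≠ ⊤ := by
    intro htop
    have : x₀ ∈ f.ker := by rw [htop]; exact Subgroup.mem_top _
    rw [MonoidHom.mem_ker, hfx] at this
    exact hx₀ this
  -- every essential subgroup is the kernel
  have hker : ∀ P, F.IsEssential p P → P.subgroupOf S = f.ker := by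
    intro P hess
    have hM := mid_of_isEssential h F hF hess
    have hle : P.subgroupOf S ≤ f.ker := by
      intro x hx
      rw [MonoidHom.mem_ker, hfx]
      exact Subtype.ext (essential_pow h F hF hZ hess _ (Subgroup.mem_subgroupOf.mp hx))
    have hidx : (P.subgroupOf S).index = p := (hM.relIndex_eq h).2
    have hdvd : f.ker.index ∣ p := hidx ▸ Subgroup.index_dvd_of_le hle
    have hKidx : f.ker.index = p := by
      rcases (Nat.dvd_prime hp).mp hdvd with h1 | h1
      · exact absurd (Subgroup.index_eq_one.mp h1) hKtop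
      · exact h1
    apply Subgroup.eq_of_le_of_card_ge hle
    have h1 := Subgroup.card_mul_index (P.subgroupOf S)
    have h2 := Subgroup.card_mul_index f.ker
    rw [hidx] at h1
    rw [hKidx] at h2
    have : Nat.card f.ker * p = Nat.card (P.subgroupOf S) * p := h2.trans h1.symm
    exact (Nat.eq_of_mul_eq_mul_right hp.pos this).le
  by_cases hE : ∃ P, F.IsEssential p P
  swap
  · have := isNormal_top_of_no_essential h.hS F hF hE
    have h1 : S ≤ F.core := le_sSup this
    rw [hcore] at h1
    exact h.ne_bot (eq_bot_iff.mpr h1)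
  obtain ⟨P₀, hE₀⟩ := hE
  have hM₀ := mid_of_isEssential h F hF hE₀
  have hnormal : F.IsNormal P₀ := by
    apply isNormal_of_essential_invariant p h.hS F hF
    intro P hP
    rcases hP with rfl | hess
    · refine ⟨hM₀.hPS, ?_⟩
      apply map_eq_of_forall_mem
      intro α hα x hx
      rw [hker P₀ hE₀, MonoidHom.mem_ker, hfx] at hx ⊢
      rw [← map_pow, hx, map_one]
    · have h1 : P₀.subgroupOf S = P.subgroupOf S := (hker P₀ hE₀).trans (hker P hess).symm
      have h2 : P₀ = P := by
        rw [← up_subgroupOf hM₀.hPS, h1, up_subgroupOf hess.1.1]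
      subst h2
      refine ⟨le_rfl, fun α _ => ?_⟩
      have : P₀.subgroupOf P₀ = ⊤ := Subgroup.subgroupOf_self P₀
      rw [this]
      exact Subgroup.map_top_of_surjective _ α.surjective
  have h1 : P₀ ≤ F.core := le_sSup hnormal
  rw [hcore] at h1
  exact hM₀.hne1 (h1.trans bot_le)

end Cfsg.Agent.Lib.Helper7.Trv
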