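import Mathlib
import Cfsg.Prelude.Def_FusionSystem
import Cfsg.Agent.Lib.Helper7.TrvO
import Cfsg.Agent.Lib.Helper7.ExspA
import Cfsg.Agent.Lib.Helper7.SEQuot2
import Cfsg.Agent.Lib.Lead.PGroup

set_option autoImplicit false

namespace Cfsg.Agent.Lib.Helper7.Exsp

open Cfsg Cfsg.FusionSystem Cfsg.Agent.Lib.Helper7 Cfsg.Agent.Lib.Helper7.Trv

variable {Ω : Type*} [Group Ω] {p : ℕ} {S P : Subgroup Ω}

/-- if the commutators of `S` lie in a central subgroup of order `p`, every essential subgroup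
is abelian of index `p` -/
theorem essential_of_central_comm [Fact p.Prime] [Finite S] (hS : IsPGroup p S)
    (F : FusionSystem S) (hF : F.IsSaturated p) {L : Subgroup Ω} (hLZ : L ≤ Zc S)
    (hLcard : Nat.card L = p) (hcomm : ∀ a ∈ S, ∀ b ∈ S, a * b * a⁻¹ * b⁻¹ ∈ L)
    (hE : F.IsEssential p P) :
    (∀ a ∈ P, ∀ b ∈ P, a * b = b * a) ∧ (P.subgroupOf S).index = p := by
  have hp : p.Prime := Fact.out
  have hPS : P ≤ S := hE.1.1
  have : Finite P := finite_of_le hPS
  have hcen : centralizerIn S P ≤ P := hE.1.2 P (isConj_refl F hPS)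
  have hZP : Zc S ≤ P := by
    intro z hz
    apply hcen
    refine Subgroup.mem_inf.mpr ⟨(mem_Zc.mp hz).1, Subgroup.mem_centralizer_iff.mpr ?_⟩
    intro g hg
    exact (mem_Zc.mp hz).2 g (hPS hg)
  have hLP : L ≤ P := hLZ.trans hZP
  have hPne : P ≠ S := fun h => not_isEssential_top p hS F hF (h ▸ hE)
  obtain ⟨y, hyS, hyP⟩ : ∃ y ∈ S, y ∉ P := by
    by_contra hcon
    push Not at hcon
    exact hPne (le_antisymm hPS hcon)
  have hnorm : S ≤ Subgroup.normalizer (P : Set Ω) := by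
    have key : ∀ s ∈ S, ∀ x ∈ P, s * x * s⁻¹ ∈ P := by
      intro s hs x hx
      have h1 := hcomm s hs x (hPS hx)
      have : s * x * s⁻¹ = (s * x * s⁻¹ * x⁻¹) * x := by group
      rw [this]
      exact P.mul_mem (hLP h1) hx
    intro s hs
    rw [Subgroup.mem_normalizer_iff]
    intro x
    constructor
    · exact key s hs x
    · intro hx
      have := key s⁻¹ (S.inv_mem hs) _ hx
      have e : s⁻¹ * (s * x * s⁻¹) * s⁻¹⁻¹ = x := by group
      rwa [e] at this
  -- the Sylow subgroup of `Aut_F(P)`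
  obtain ⟨R₀, hcR, hFAR, hRecR⟩ := hF P hPS
  obtain ⟨-, R, hR⟩ :=
    (isFullyAutomized_isReceptive_of_isFullyNormalized p hS F hE.2.1 hFAR hRecR hcR).1
  obtain ⟨hIn, E, hSE⟩ := hE.2.2
  have hX := closure_ne_top_of_stronglyPEmbedded_quot ((Inn P).subgroupOf (F.autGroup P)) R E hSE
    {α | ∃ t ∈ (R : Subgroup (F.autGroup P)), t ∉ (Inn P).subgroupOf (F.autGroup P) ∧
      α * t * α⁻¹ ∈ (R : Subgroup (F.autGroup P))} (fun α hα => hα)
  obtain ⟨g, hg⟩ : ∃ g : F.autGroup P, g ∉ Subgroup.closure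
      {α | ∃ t ∈ (R : Subgroup (F.autGroup P)), t ∉ (Inn P).subgroupOf (F.autGroup P) ∧
        α * t * α⁻¹ ∈ (R : Subgroup (F.autGroup P))} := by
    by_contra hcon
    push Not at hcon
    exact hX (eq_top_iff.mpr fun x _ => hcon x)
  have hgX : ∀ t ∈ (R : Subgroup (F.autGroup P)), g * t * g⁻¹ ∈ (R : Subgroup (F.autGroup P)) →
      t ∈ (Inn P).subgroupOf (F.autGroup P) := by
    intro t ht htg
    by_contra htI
    exact hg (Subgroup.subset_closure ⟨t, ht, htI, htg⟩)
  have hTG : autInducedBy S P ≤ F.autGroup P := autInducedBy_le_autGroup F hPS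
  have hInnS : Inn P ≤ autInducedBy S P := by
    rintro _ ⟨x, rfl⟩
    exact (mem_autInducedBy_iff S P _).mpr ⟨x, hPS x.2, fun z => rfl⟩
  have hPp : IsPGroup p P := hS.to_le hPS
  have hTp : IsPGroup p (autInducedBy S P) := by
    have h1 : IsPGroup p (R : Subgroup (F.autGroup P)) := R.isPGroup'
    rw [hR] at h1
    exact h1.of_equiv (Subgroup.subgroupOfEquivOfLe hTG)
  have hCH : CHyp p (F.autGroup P) (autInducedBy S P) (Inn P) (L.subgroupOf P) (g : MulAut P) := by
    refine ⟨hPp, hTG, hInnS, hTp, ?_, g.2, ?_, ?_, ?_, ?_, ?_, ?_⟩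
    · intro Q hQG hQp hTQ
      have h1 : (R : Subgroup (F.autGroup P)) ≤ Q.subgroupOf (F.autGroup P) := by
        rw [hR]
        intro x hx
        exact Subgroup.mem_subgroupOf.mpr (hTQ (Subgroup.mem_subgroupOf.mp hx))
      have h2 : IsPGroup p (Q.subgroupOf (F.autGroup P)) := hQp.comap_subtype
      have h3 := R.is_maximal' h2 h1
      intro q hq
      have : (⟨q, hQG hq⟩ : F.autGroup P) ∈ Q.subgroupOf (F.autGroup P) :=
        Subgroup.mem_subgroupOf.mpr hq
      rw [h3, hR] at this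
      exact Subgroup.mem_subgroupOf.mp this
    · intro t ht htg
      have h1 : (⟨t, hTG ht⟩ : F.autGroup P) ∈ (R : Subgroup (F.autGroup P)) := by
        rw [hR]; exact Subgroup.mem_subgroupOf.mpr ht
      have h2 : g * ⟨t, hTG ht⟩ * g⁻¹ ∈ (R : Subgroup (F.autGroup P)) := by
        rw [hR]; exact Subgroup.mem_subgroupOf.mpr htg
      exact Subgroup.mem_subgroupOf.mp (hgX _ h1 h2)
    · refine ⟨uAut P y (hnorm hyS), uAut_mem_autInducedBy hyS _, ?_⟩
      rintro ⟨x, hx⟩
      apply hyP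
      have hc : (x : Ω)⁻¹ * y ∈ centralizerIn S P := by
        refine Subgroup.mem_inf.mpr ⟨S.mul_mem (S.inv_mem (hPS x.2)) hyS,
          Subgroup.mem_centralizer_iff.mpr ?_⟩
        intro z hz
        have h1 := congrArg (fun f : MulAut P => ((f ⟨z, hz⟩ : P) : Ω)) hx
        simp only [uAut_apply] at h1
        have h2 : (x : Ω) * z * (x : Ω)⁻¹ = y * z * y⁻¹ := h1
        calc z * ((x : Ω)⁻¹ * y) = (x : Ω)⁻¹ * ((x : Ω) * z * (x : Ω)⁻¹) * y := by group
          _ = (x : Ω)⁻¹ * (y * z * y⁻¹) * y := by rw [h2]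
          _ = (x : Ω)⁻¹ * y * z := by group
      have h3 := P.mul_mem x.2 (hcen hc)
      rwa [mul_inv_cancel_left] at h3
    · rw [← hLcard]
      exact Nat.card_congr (Subgroup.subgroupOfEquivOfLe hLP).toEquiv
    · intro t ht x
      obtain ⟨s, hs, hst⟩ := (mem_autInducedBy_iff S P t).mp ht
      rw [Subgroup.mem_subgroupOf]
      show ((x⁻¹ * t x : P) : Ω) ∈ L
      rw [Subgroup.coe_mul, hst, Subgroup.coe_inv]
      have := hcomm _ (S.inv_mem (hPS x.2)) s hs
      convert this using 1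
      group
    · intro t ht x hx
      obtain ⟨s, hs, hst⟩ := (mem_autInducedBy_iff S P t).mp ht
      apply Subtype.ext
      rw [hst]
      have hxZ : (x : Ω) ∈ Zc S := hLZ (Subgroup.mem_subgroupOf.mp hx)
      rw [(mem_Zc.mp hxZ).2 s hs]
      group
    · rintro _ ⟨x, rfl⟩
      refine ⟨(g : MulAut P)⁻¹ x, ?_⟩
      ext z
      simp [MulAut.conj_apply]
  -- `P` is abelian
  have hab : ∀ a ∈ P, ∀ b ∈ P, a * b = b * a := by
    intro a ha b hb
    have h1 := hCH.I_trivial (MulAut.conj (⟨a, ha⟩ : P)) ⟨_, rfl⟩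
    have h2 := congrArg (fun f : MulAut P => ((f ⟨b, hb⟩ : P) : Ω)) h1
    simp only [MulAut.conj_apply, MulAut.one_apply, Subgroup.coe_mul, Subgroup.coe_inv] at h2
    calc a * b = a * b * a⁻¹ * a := by group
      _ = b * a := by rw [h2]
  refine ⟨hab, ?_⟩
  -- the index
  have hcard := hCH.card_le
  obtain ⟨ψ, hψdef⟩ : ∃ ψ : S →* MulAut P,
      ψ = P.normalizerMonoidHom.comp (Subgroup.inclusion hnorm) := ⟨_, rfl⟩
  have hψx : ∀ (s : S) (x : P), ((ψ s x : P) : Ω) = s * x * (s : Ω)⁻¹ := by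
    intro s x
    rw [hψdef]
    rfl
  have hker : ψ.ker = P.subgroupOf S := by
    ext s
    rw [MonoidHom.mem_ker, Subgroup.mem_subgroupOf]
    constructor
    · intro hs
      apply hcen
      refine Subgroup.mem_inf.mpr ⟨s.2, Subgroup.mem_centralizer_iff.mpr ?_⟩
      intro z hz
      have h1 := congrArg (fun f : MulAut P => ((f ⟨z, hz⟩ : P) : Ω)) hs
      simp only [hψx, MulAut.one_apply] at h1
      calc z * (s : Ω) = ((s : Ω) * z * (s : Ω)⁻¹) * s := by rw [h1]
        _ = s * z := by group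
    · intro hs
      ext x
      rw [hψx, MulAut.one_apply, hab _ hs _ x.2]
      group
  have hrange : ψ.range ≤ autInducedBy S P := by
    rintro _ ⟨s, rfl⟩
    exact (mem_autInducedBy_iff S P _).mpr ⟨s, s.2, fun x => hψx s x⟩
  have hidx : (P.subgroupOf S).index ≤ p := by
    rw [← hker, Subgroup.index_ker]
    exact (Subgroup.card_le_of_le hrange).trans hcard
  obtain ⟨n, hn⟩ := hS.index (P.subgroupOf S)
  have hn0 : n ≠ 0 := by
    rintro rfl
    rw [pow_zero, Subgroup.index_eq_one, Subgroup.subgroupOf_eq_top] at hn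
    exact hPne (le_antisymm hPS hn)
  rw [hn] at hidx ⊢
  have hn1 : n ≤ 1 := by
    have : p ^ n ≤ p ^ 1 := by rwa [pow_one]
    exact (Nat.pow_le_pow_iff_right hp.one_lt).mp this
  have : n = 1 := by omega
  rw [this, pow_one]

end Cfsg.Agent.Lib.Helper7.Exsp
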