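import Mathlib
import Cfsg.Prelude.Def_FusionSystem
import Cfsg.Prelude.Def_Transfer
import Cfsg.Agent.Lib.Helper7.ExspB

set_option autoImplicit false

namespace Cfsg.Agent.Lib.Helper7.Exsp

open Cfsg Cfsg.FusionSystem Cfsg.Agent.Lib.Helper7 Cfsg.Agent.Lib.Helper7.Trv

variable {Ω : Type*} [Group Ω] {p : ℕ} {S P : Subgroup Ω}

/-- a subgroup of prime relative index together with an outside element generates -/
theorem sup_zpowers_of_relIndex_prime [Fact p.Prime] [Finite S] (hPS : P ≤ S)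
    (hidx : P.relIndex S = p) {y : Ω} (hyS : y ∈ S) (hyP : y ∉ P) :
    P ⊔ Subgroup.zpowers y = S := by
  have hp : p.Prime := Fact.out
  have hle : P ⊔ Subgroup.zpowers y ≤ S := sup_le hPS (by rw [Subgroup.zpowers_le]; exact hyS)
  apply le_antisymm hle
  have hmul := Subgroup.relIndex_mul_relIndex P (P ⊔ Subgroup.zpowers y) S le_sup_left hle
  rw [hidx] at hmul
  have h1 : P.relIndex (P ⊔ Subgroup.zpowers y) ≠ 1 := by
    intro h1
    have := Subgroup.relIndex_eq_one.mp h1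
    exact hyP (this (le_sup_right (a := P) (Subgroup.mem_zpowers y)))
  rcases (Nat.dvd_prime hp).mp (Dvd.intro _ hmul) with h2 | h2
  · exact absurd h2 h1
  · rw [h2] at hmul
    have h3 : (P ⊔ Subgroup.zpowers y).relIndex S = 1 := by
      have := Nat.eq_of_mul_eq_mul_left hp.pos (hmul.trans (mul_one p).symm)
      exact this
    exact Subgroup.relIndex_eq_one.mp h3

/-- a subgroup of prime relative index together with a subgroup not inside it generates -/
theorem sup_of_relIndex_prime [Fact p.Prime] [Finite S] (hPS : P ≤ S) (hidx : P.relIndex S = p)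
    {K : Subgroup Ω} (hKS : K ≤ S) (hKP : ¬ K ≤ P) : P ⊔ K = S := by
  obtain ⟨y, hyK, hyP⟩ : ∃ y ∈ K, y ∉ P := by
    by_contra hcon
    push Not at hcon
    exact hKP hcon
  apply le_antisymm (sup_le hPS hKS)
  rw [← sup_zpowers_of_relIndex_prime hPS hidx (hKS hyK) hyP]
  exact sup_le_sup_left (by rw [Subgroup.zpowers_le]; exact hyK) P

/-- a normalized subgroup of order `p` of a `p`-group is central -/
theorem le_Zc_of_card_prime [Fact p.Prime] [Finite S] (hS : IsPGroup p S) {N : Subgroup Ω}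
    (hNS : N ≤ S) (hN : Nat.card N = p) (hnorm : ∀ s ∈ S, ∀ n ∈ N, s * n * s⁻¹ ∈ N) :
    N ≤ Zc S := by
  have hp : p.Prime := Fact.out
  have hnormal : (N.subgroupOf S).Normal := by
    refine ⟨fun n hn s => ?_⟩
    rw [Subgroup.mem_subgroupOf] at hn ⊢
    exact hnorm s s.2 n hn
  have hne : N.subgroupOf S ≠ ⊥ := by
    intro h
    obtain ⟨e, heN, he1⟩ := exists_ne_one_of_card_prime hN
    have : (⟨e, hNS heN⟩ : S) ∈ N.subgroupOf S := Subgroup.mem_subgroupOf.mpr heN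
    rw [h, Subgroup.mem_bot] at this
    exact he1 (congrArg Subtype.val this)
  obtain ⟨z, hzN, hzZ, hz1⟩ := Cfsg.Agent.Lib.Lead.PGroup.exists_mem_center_of_normal hS
    (N.subgroupOf S) hne
  have hzN' : (z : Ω) ∈ N := Subgroup.mem_subgroupOf.mp hzN
  have hz1' : (z : Ω) ≠ 1 := fun h => hz1 (Subtype.ext h)
  have hzc : (z : Ω) ∈ Zc S := by
    rw [← Zc_subgroupOf] at hzZ
    exact Subgroup.mem_subgroupOf.mp hzZ
  intro a ha
  obtain ⟨k, rfl⟩ := Subgroup.mem_zpowers_iff.mp (mem_zpowers_of_card_prime hN hzN' hz1' ha)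
  exact Subgroup.zpow_mem _ hzc k

/-- the main theorem: the centre of `S` is the centre of `Q` -/
theorem Zc_eq_of_extraspecial [Fact p.Prime] [Finite S] (hp2 : p ≠ 2) (hS : IsPGroup p S)
    (Q : Subgroup Ω) (hQS : Q ≤ S) (hQ : Cfsg.IsExtraspecial p ↥Q)
    (hQi : (Q.subgroupOf S).index = p) (F : FusionSystem S) (hF : F.IsSaturated p)
    (hO : F.core = ⊥) : Zc S = Zc Q := by
  have hp : p.Prime := Fact.out
  have hcardZQ : Nat.card (Zc Q) = p := by
    rw [← card_center_eq Q]; exact hQ.2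
  obtain ⟨e₀, he₀, he₀1⟩ := exists_ne_one_of_card_prime hcardZQ
  have hS1 : S ≠ ⊥ := by
    intro h
    have : e₀ ∈ S := hQS (Zc_le Q he₀)
    rw [h, Subgroup.mem_bot] at this
    exact he₀1 this
  -- `Q` is normal in `S`
  have hQn : (Q.subgroupOf S).Normal := by
    apply Subgroup.normal_of_index_eq_minFac_card
    obtain ⟨n, hn⟩ := IsPGroup.iff_card.mp hS
    have hn0 : n ≠ 0 := by
      rintro rfl
      rw [pow_zero] at hn
      have : Subsingleton S := (Nat.card_eq_one_iff_unique.mp hn).1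
      apply hS1
      rw [eq_bot_iff]
      intro x hx
      have := Subsingleton.elim (⟨x, hx⟩ : S) 1
      exact Subgroup.mem_bot.mpr (congrArg Subtype.val this)
    rw [hQi, hn, hp.pow_minFac hn0]
  have hSQ : ∀ s ∈ S, ∀ q ∈ Q, s * q * s⁻¹ ∈ Q := by
    intro s hs q hq
    have := hQn.conj_mem ⟨q, hQS hq⟩ (Subgroup.mem_subgroupOf.mpr hq) ⟨s, hs⟩
    exact Subgroup.mem_subgroupOf.mp this
  -- `Z(Q)` is normalized by `S`, hence central
  have hZQn : ∀ s ∈ S, ∀ z ∈ Zc Q, s * z * s⁻¹ ∈ Zc Q := by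
    intro s hs z hz
    obtain ⟨hzQ, hzc⟩ := mem_Zc.mp hz
    refine mem_Zc.mpr ⟨hSQ s hs z hzQ, fun q hq => ?_⟩
    have h1 := hzc (s⁻¹ * q * s) (by
      have := hSQ s⁻¹ (S.inv_mem hs) q hq
      rwa [inv_inv] at this)
    calc q * (s * z * s⁻¹) = s * ((s⁻¹ * q * s) * z) * s⁻¹ := by group
      _ = s * (z * (s⁻¹ * q * s)) * s⁻¹ := by rw [h1]
      _ = s * z * s⁻¹ * q := by group
  have hZQZ : Zc Q ≤ Zc S := le_Zc_of_card_prime hS ((Zc_le Q).trans hQS) hcardZQ hZQn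
  by_contra hne
  -- a central element outside `Q`
  have hZnQ : ¬ Zc S ≤ Q := by
    intro hle
    apply hne
    apply le_antisymm _ hZQZ
    intro z hz
    exact mem_Zc.mpr ⟨hle hz, fun q hq => (mem_Zc.mp hz).2 q (hQS hq)⟩
  have hsup : Q ⊔ Zc S = S := sup_of_relIndex_prime hQS hQi (Zc_le S) hZnQ
  have hdecomp : ∀ s ∈ S, ∃ q ∈ Q, ∃ z ∈ Zc S, s = q * z := by
    intro s hs
    have hs' : s ∈ ((Q ⊔ Zc S : Subgroup Ω) : Set Ω) := by rw [hsup]; exact hs
    rw [Subgroup.coe_mul_of_right_le_normalizer_left Q (Zc S) (by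
      intro z hz
      rw [Subgroup.mem_normalizer_iff]
      intro x
      have hzS := Zc_le S hz
      constructor
      · intro hx
        exact hSQ z hzS x hx
      · intro hx
        have := hSQ z⁻¹ (S.inv_mem hzS) _ hx
        have e : z⁻¹ * (z * x * z⁻¹) * z⁻¹⁻¹ = x := by group
        rwa [e] at this)] at hs'
    obtain ⟨q, hq, z, hz, rfl⟩ := hs'
    exact ⟨q, hq, z, hz, rfl⟩
  -- commutators of `S` lie in `Z(Q)`
  have hcomm : ∀ a ∈ S, ∀ b ∈ S, a * b * a⁻¹ * b⁻¹ ∈ Zc Q := by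
    intro a ha b hb
    obtain ⟨q₁, hq₁, z₁, hz₁, rfl⟩ := hdecomp a ha
    obtain ⟨q₂, hq₂, z₂, hz₂, rfl⟩ := hdecomp b hb
    have h1 : (⟨q₁, hq₁⟩ * ⟨q₂, hq₂⟩ * ⟨q₁, hq₁⟩⁻¹ * ⟨q₂, hq₂⟩⁻¹ : ↥Q) ∈ Subgroup.center ↥Q := by
      rw [← hQ.1.2.2]
      have := Subgroup.commutator_mem_commutator (Subgroup.mem_top (⟨q₁, hq₁⟩ : ↥Q))
        (Subgroup.mem_top (⟨q₂, hq₂⟩ : ↥Q))
      rw [commutatorElement_def] at this
      exact this
    rw [← Zc_subgroupOf, Subgroup.mem_subgroupOf] at h1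
    have hc1 := (mem_Zc.mp hz₁).2
    have hc2 := (mem_Zc.mp hz₂).2
    have e : q₁ * z₁ * (q₂ * z₂) * (q₁ * z₁)⁻¹ * (q₂ * z₂)⁻¹ = q₁ * q₂ * q₁⁻¹ * q₂⁻¹ := by
      have e1 : z₁ * q₂ = q₂ * z₁ := (hc1 q₂ (hQS hq₂)).symm
      have e2 : z₂ * q₁⁻¹ = q₁⁻¹ * z₂ := (hc2 q₁⁻¹ (S.inv_mem (hQS hq₁))).symm
      have e3 : z₁ * z₂ = z₂ * z₁ := (hc1 z₂ (Zc_le S hz₂)).symm
      have e4 : z₁ * q₁⁻¹ = q₁⁻¹ * z₁ := (hc1 q₁⁻¹ (S.inv_mem (hQS hq₁))).symm
      calc q₁ * z₁ * (q₂ * z₂) * (q₁ * z₁)⁻¹ * (q₂ * z₂)⁻¹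
          = q₁ * (z₁ * q₂) * z₂ * z₁⁻¹ * q₁⁻¹ * z₂⁻¹ * q₂⁻¹ := by group
        _ = q₁ * (q₂ * z₁) * z₂ * z₁⁻¹ * q₁⁻¹ * z₂⁻¹ * q₂⁻¹ := by rw [e1]
        _ = q₁ * q₂ * (z₁ * z₂) * z₁⁻¹ * q₁⁻¹ * z₂⁻¹ * q₂⁻¹ := by group
        _ = q₁ * q₂ * (z₂ * z₁) * z₁⁻¹ * q₁⁻¹ * z₂⁻¹ * q₂⁻¹ := by rw [e3]
        _ = q₁ * q₂ * (z₂ * q₁⁻¹) * z₂⁻¹ * q₂⁻¹ := by group
        _ = q₁ * q₂ * (q₁⁻¹ * z₂) * z₂⁻¹ * q₂⁻¹ := by rw [e2]
        _ = q₁ * q₂ * q₁⁻¹ * q₂⁻¹ := by group
    rw [e]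
    exact h1
  have hna := not_comm_of_core hS F hF hS1 hO
  by_cases hE : ∃ P, F.IsEssential p P
  swap
  · have := isNormal_top_of_no_essential hS F hF hE
    have h1 : S ≤ F.core := le_sSup this
    rw [hO] at h1
    exact hS1 (eq_bot_iff.mpr h1)
  obtain ⟨P, hess⟩ := hE
  obtain ⟨hab, hPidx⟩ := essential_of_central_comm hS F hF hZQZ hcardZQ hcomm hess
  have hPS : P ≤ S := hess.1.1
  have : Finite P := finite_of_le hPS
  have hcen : centralizerIn S P ≤ P := hess.1.2 P (isConj_refl F hPS)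
  have hZP : Zc S ≤ P := by
    intro z hz
    apply hcen
    refine Subgroup.mem_inf.mpr ⟨(mem_Zc.mp hz).1, Subgroup.mem_centralizer_iff.mpr ?_⟩
    intro g hg
    exact (mem_Zc.mp hz).2 g (hPS hg)
  obtain ⟨y, hyS, hyP⟩ : ∃ y ∈ S, y ∉ P := by
    by_contra hcon
    push Not at hcon
    have : P.subgroupOf S = ⊤ := Subgroup.subgroupOf_eq_top.mpr hcon
    rw [this, Subgroup.index_top] at hPidx
    exact hp.one_lt.ne hPidx
  have hsupP : P ⊔ Subgroup.zpowers y = S := sup_zpowers_of_relIndex_prime hPS hPidx hyS hyP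
  have hnorm : S ≤ Subgroup.normalizer (P : Set Ω) := by
    intro s hs
    have hn : (P.subgroupOf S).Normal := by
      apply Subgroup.normal_of_index_eq_minFac_card
      obtain ⟨n, hn⟩ := IsPGroup.iff_card.mp hS
      have hn0 : n ≠ 0 := by
        rintro rfl
        rw [pow_zero] at hn
        have : Subsingleton S := (Nat.card_eq_one_iff_unique.mp hn).1
        apply hS1
        rw [eq_bot_iff]
        intro x hx
        have := Subsingleton.elim (⟨x, hx⟩ : S) 1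
        exact Subgroup.mem_bot.mpr (congrArg Subtype.val this)
      rw [hPidx, hn, hp.pow_minFac hn0]
    rw [Subgroup.mem_normalizer_iff]
    intro x
    constructor
    · intro hx
      have := hn.conj_mem ⟨x, hPS hx⟩ (Subgroup.mem_subgroupOf.mpr hx) ⟨s, hs⟩
      exact Subgroup.mem_subgroupOf.mp this
    · intro hx
      have := hn.conj_mem ⟨s * x * s⁻¹, hPS hx⟩ (Subgroup.mem_subgroupOf.mpr hx) ⟨s, hs⟩⁻¹
      have h2 := Subgroup.mem_subgroupOf.mp this
      simp only [Subgroup.coe_mul, Subgroup.coe_inv, inv_inv] at h2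
      have e : s⁻¹ * (s * x * s⁻¹) * s = x := by group
      rwa [e] at h2
  -- the index of the centre in `P`
  have hcP : ∀ a b : P, a * b = b * a := fun a b => Subtype.ext (hab a a.2 b b.2)
  have hfix : fixSub (uAut P y (hnorm hyS)) = (Zc S).subgroupOf P := by
    ext x
    rw [mem_fixSub, Subgroup.mem_subgroupOf]
    constructor
    · intro hx
      have h1 := congrArg Subtype.val hx
      rw [uAut_apply] at h1
      have hxy : y * x = x * y := by
        calc y * x = y * x * y⁻¹ * y := by group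
          _ = x * y := by rw [h1]
      refine mem_Zc.mpr ⟨hPS x.2, ?_⟩
      have hle : S ≤ Subgroup.centralizer {(x : Ω)} := by
        rw [← hsupP]
        apply sup_le
        · intro z hz
          rw [Subgroup.mem_centralizer_singleton_iff]
          exact hab z hz x x.2
        · rw [Subgroup.zpowers_le, Subgroup.mem_centralizer_singleton_iff]
          exact hxy
      intro s hs
      have := hle hs
      rw [Subgroup.mem_centralizer_singleton_iff] at this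
      exact this
    · intro hx
      apply Subtype.ext
      rw [uAut_apply, (mem_Zc.mp hx).2 y hyS]
      group
  have hidxZP : (Zc S).relIndex P ≤ p := by
    have h1 := index_fixSub hcP (uAut P y (hnorm hyS))
    rw [hfix] at h1
    show ((Zc S).subgroupOf P).index ≤ p
    rw [h1]
    have hle : commSub hcP (uAut P y (hnorm hyS)) ≤ (Zc Q).subgroupOf P := by
      rintro _ ⟨x, rfl⟩
      rw [Subgroup.mem_subgroupOf]
      show ((x⁻¹ * uAut P y _ x : P) : Ω) ∈ Zc Q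
      rw [Subgroup.coe_mul, uAut_apply, Subgroup.coe_inv]
      have := hcomm _ (S.inv_mem (hPS x.2)) y hyS
      convert this using 1
      group
    have h2 := Subgroup.card_le_of_le hle
    have h3 : Nat.card ((Zc Q).subgroupOf P) = p := by
      rw [← hcardZQ]
      exact Nat.card_congr (Subgroup.subgroupOfEquivOfLe (hZQZ.trans hZP)).toEquiv
    rw [h3] at h2
    exact h2
  have hidxZ : (Subgroup.center ↥S).index ≤ p ^ 2 := by
    rw [← Zc_subgroupOf]
    show (Zc S).relIndex S ≤ p ^ 2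
    rw [← Subgroup.relIndex_mul_relIndex (Zc S) P S hZP hPS, pow_two]
    have : P.relIndex S = p := hPidx
    rw [this]
    exact Nat.mul_le_mul_right p hidxZP
  have hSq : Sq p S := Sq.of_index hS (index_center_eq hS hna hidxZ)
  have hcardZ := card_Zc_odd hSq F hF hO hp2
  have : Finite (Zc S) := finite_of_le (Zc_le S)
  exact hne (Subgroup.eq_of_le_of_card_ge hZQZ (by rw [hcardZ, hcardZQ])).symm

end Cfsg.Agent.Lib.Helper7.Exsp
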