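import Mathlib
import Cfsg.Prelude.Def_FusionSystem
import Cfsg.Agent.Lib.Helper7.ExspC

set_option autoImplicit false

namespace Cfsg.Agent.Lib.Helper7.Exsp

open Cfsg Cfsg.FusionSystem Cfsg.Agent.Lib.Helper7 Cfsg.Agent.Lib.Helper7.Trv

variable {Ω : Type*} [Group Ω] {p : ℕ} {S E : Subgroup Ω}

/-- an abelian essential subgroup admits no group of order `p²` of automorphisms induced by `S`
that all have their commutators in a common subgroup of order `p` which they centralize -/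
theorem no_common_centre [Fact p.Prime] [Finite S] (hS : IsPGroup p S) (F : FusionSystem S)
    (hF : F.IsSaturated p) (hE : F.IsEssential p E) (hab : ∀ a b : E, a * b = b * a)
    (L : Subgroup E) (hL : Nat.card L = p) (U : Subgroup (MulAut E))
    (hUT : U ≤ autInducedBy S E) (hU1 : ∀ u ∈ U, ∀ x, x⁻¹ * u x ∈ L)
    (hU2 : ∀ u ∈ U, ∀ x ∈ L, u x = x) (hcard : p ^ 2 ≤ Nat.card U) : False := by
  have hp : p.Prime := Fact.out
  have hES : E ≤ S := hE.1.1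
  have : Finite E := finite_of_le hES
  have hfin : Finite (MulAut E) := inferInstance
  have hEp : IsPGroup p E := hS.to_le hES
  obtain ⟨R₀, hcR, hFAR, hRecR⟩ := hF E hES
  have hFA := (isFullyAutomized_isReceptive_of_isFullyNormalized p hS F hE.2.1 hFAR hRecR hcR).1
  obtain ⟨-, R, hR⟩ := hFA
  obtain ⟨hIn, Eq, hSE⟩ := hE.2.2
  have hX := closure_ne_top_of_stronglyPEmbedded_quot ((Inn E).subgroupOf (F.autGroup E)) R Eq hSE
    {α | ∃ t ∈ (R : Subgroup (F.autGroup E)), t ∉ (Inn E).subgroupOf (F.autGroup E) ∧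
      α * t * α⁻¹ ∈ (R : Subgroup (F.autGroup E))} (fun α hα => hα)
  obtain ⟨g, hg⟩ : ∃ g : F.autGroup E, g ∉ Subgroup.closure
      {α | ∃ t ∈ (R : Subgroup (F.autGroup E)), t ∉ (Inn E).subgroupOf (F.autGroup E) ∧
        α * t * α⁻¹ ∈ (R : Subgroup (F.autGroup E))} := by
    by_contra hcon
    push Not at hcon
    exact hX (eq_top_iff.mpr fun x _ => hcon x)
  have hInn : Inn E = ⊥ := by
    rw [eq_bot_iff]
    rintro _ ⟨y, rfl⟩
    rw [Subgroup.mem_bot]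
    ext z
    rw [MulAut.conj_apply, MulAut.one_apply, hab y z]
    simp
  have hTG : autInducedBy S E ≤ F.autGroup E := autInducedBy_le_autGroup F hES
  -- membership in the generating set
  have hmemX : ∀ (a : MulAut E) (ha : a ∈ F.autGroup E) (t : MulAut E), t ∈ autInducedBy S E →
      t ≠ 1 → a * t * a⁻¹ ∈ autInducedBy S E →
      (⟨a, ha⟩ : F.autGroup E) ∈ Subgroup.closure
        {α | ∃ t ∈ (R : Subgroup (F.autGroup E)), t ∉ (Inn E).subgroupOf (F.autGroup E) ∧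
          α * t * α⁻¹ ∈ (R : Subgroup (F.autGroup E))} := by
    intro a ha t ht ht1 hat
    apply Subgroup.subset_closure
    refine ⟨⟨t, hTG ht⟩, ?_, ?_, ?_⟩
    · rw [hR, Subgroup.mem_subgroupOf]; exact ht
    · rw [Subgroup.mem_subgroupOf, hInn, Subgroup.mem_bot]; exact ht1
    · rw [hR, Subgroup.mem_subgroupOf]; exact hat
  obtain ⟨l, hlL, hl1⟩ := exists_ne_one_of_card_prime hL
  have hLgen : ∀ y ∈ L, y ∈ Subgroup.zpowers l := fun y hy =>
    mem_zpowers_of_card_prime hL hlL hl1 hy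
  obtain ⟨γ, hγdef⟩ : ∃ γ : MulAut E, γ = (g : MulAut E) := ⟨_, rfl⟩
  have hγG : γ ∈ F.autGroup E := hγdef ▸ g.2
  -- a nontrivial element of `U` fixing `γ l`
  have hUfin : Finite U := inferInstance
  obtain ⟨u₁, hu₁U, hu₁1, hu₁fix⟩ : ∃ u₁ ∈ U, u₁ ≠ 1 ∧ u₁ (γ l) = γ l := by
    by_contra hcon
    push Not at hcon
    have hinj : Function.Injective (fun u : U => (⟨(γ l)⁻¹ * (u : MulAut E) (γ l),
        hU1 u u.2 (γ l)⟩ : L)) := by
      intro u v huv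
      have h1 : (γ l)⁻¹ * (u : MulAut E) (γ l) = (γ l)⁻¹ * (v : MulAut E) (γ l) :=
        congrArg Subtype.val huv
      have h2 : (u : MulAut E) (γ l) = (v : MulAut E) (γ l) := mul_left_cancel h1
      have h3 : ((v : MulAut E)⁻¹ * (u : MulAut E)) (γ l) = γ l := by
        show (v : MulAut E)⁻¹ ((u : MulAut E) (γ l)) = γ l
        rw [h2, MulAut.inv_apply_self]
      have h4 := hcon _ (U.mul_mem (U.inv_mem v.2) u.2)
      by_contra hne
      apply h4 _ h3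
      intro h5
      apply hne
      apply Subtype.ext
      have : (u : MulAut E) = (v : MulAut E) * ((v : MulAut E)⁻¹ * (u : MulAut E)) := by group
      rw [this, h5, mul_one]
    have := Nat.card_le_card_of_injective _ hinj
    rw [hL] at this
    have h2 : p < p ^ 2 := by
      have := hp.one_lt
      nlinarith
    omega
  obtain ⟨u₂, hu₂U, hu₂1, hu₂fix⟩ : ∃ u₂ ∈ U, u₂ ≠ 1 ∧ (γ * u₂ * γ⁻¹) l = l := by
    by_contra hcon
    push Not at hcon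
    have hmemL : ∀ u ∈ U, (γ⁻¹ l)⁻¹ * u (γ⁻¹ l) ∈ L := fun u hu => hU1 u hu _
    have hinj : Function.Injective (fun u : U => (⟨(γ⁻¹ l)⁻¹ * (u : MulAut E) (γ⁻¹ l),
        hmemL u u.2⟩ : L)) := by
      intro u v huv
      have h1 : (γ⁻¹ l)⁻¹ * (u : MulAut E) (γ⁻¹ l) = (γ⁻¹ l)⁻¹ * (v : MulAut E) (γ⁻¹ l) :=
        congrArg Subtype.val huv
      have h2 : (u : MulAut E) (γ⁻¹ l) = (v : MulAut E) (γ⁻¹ l) := mul_left_cancel h1
      have h3 : (γ * ((v : MulAut E)⁻¹ * (u : MulAut E)) * γ⁻¹) l = l := by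
        show γ ((v : MulAut E)⁻¹ ((u : MulAut E) (γ⁻¹ l))) = l
        rw [h2, MulAut.inv_apply_self, MulAut.apply_inv_self]
      have h4 := hcon _ (U.mul_mem (U.inv_mem v.2) u.2)
      by_contra hne
      apply h4 _ h3
      intro h5
      apply hne
      apply Subtype.ext
      have : (u : MulAut E) = (v : MulAut E) * ((v : MulAut E)⁻¹ * (u : MulAut E)) := by group
      rw [this, h5, mul_one]
    have := Nat.card_le_card_of_injective _ hinj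
    rw [hL] at this
    have h2 : p < p ^ 2 := by
      have := hp.one_lt
      nlinarith
    omega
  obtain ⟨W, hWdef⟩ : ∃ W, W = L ⊔ L.map γ.toMonoidHom := ⟨_, rfl⟩
  have hLW : L ≤ W := hWdef ▸ le_sup_left
  have hL'W : L.map γ.toMonoidHom ≤ W := hWdef ▸ le_sup_right
  obtain ⟨v₂, hv₂def⟩ : ∃ v₂, v₂ = γ * u₂ * γ⁻¹ := ⟨_, rfl⟩
  rw [← hv₂def] at hu₂fix
  have hfixW : ∀ k : MulAut E, (∀ y ∈ L, k y = y) → (∀ y ∈ L.map γ.toMonoidHom, k y = y) →
      ∀ y ∈ W, k y = y := by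
    intro k h1 h2 y hy
    rw [hWdef] at hy
    obtain ⟨a, ha, b, hb, rfl⟩ := (mem_sup_comm hab).mp hy
    rw [map_mul, h1 a ha, h2 b hb]
  have hu₁L' : ∀ y ∈ L.map γ.toMonoidHom, u₁ y = y := by
    rintro _ ⟨y₀, hy₀, rfl⟩
    obtain ⟨k, rfl⟩ := Subgroup.mem_zpowers_iff.mp (hLgen y₀ hy₀)
    show u₁ (γ (l ^ k)) = γ (l ^ k)
    rw [map_zpow, map_zpow, hu₁fix]
  have hv₂L : ∀ y ∈ L, v₂ y = y := by
    intro y hy
    obtain ⟨k, rfl⟩ := Subgroup.mem_zpowers_iff.mp (hLgen y hy)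
    rw [map_zpow, hu₂fix]
  have hv₂L' : ∀ y ∈ L.map γ.toMonoidHom, v₂ y = y := by
    rintro _ ⟨y₀, hy₀, rfl⟩
    rw [hv₂def]
    show γ (u₂ (γ⁻¹ (γ y₀))) = γ y₀
    rw [MulAut.inv_apply_self, hU2 u₂ hu₂U y₀ hy₀]
  have hu₁c : ∀ x, x⁻¹ * u₁ x ∈ W := fun x => hLW (hU1 u₁ hu₁U x)
  have hv₂c : ∀ x, x⁻¹ * v₂ x ∈ W := by
    intro x
    apply hL'W
    refine ⟨(γ⁻¹ x)⁻¹ * u₂ (γ⁻¹ x), hU1 u₂ hu₂U _, ?_⟩
    rw [hv₂def]
    show γ ((γ⁻¹ x)⁻¹ * u₂ (γ⁻¹ x)) = x⁻¹ * γ (u₂ (γ⁻¹ x))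
    rw [map_mul, map_inv, MulAut.apply_inv_self]
  have hu₁K : u₁ ∈ chainStab W W le_rfl :=
    ⟨hu₁c, fun x _ => hu₁c x, hfixW u₁ (hU2 u₁ hu₁U) hu₁L'⟩
  have hv₂K : v₂ ∈ chainStab W W le_rfl :=
    ⟨hv₂c, fun x _ => hv₂c x, hfixW v₂ hv₂L hv₂L'⟩
  have hu₁G : u₁ ∈ F.autGroup E := hTG (hUT hu₁U)
  have hv₂G : v₂ ∈ F.autGroup E := by
    rw [hv₂def]
    exact Subgroup.mul_mem _ (Subgroup.mul_mem _ hγG (hTG (hUT hu₂U))) (Subgroup.inv_mem _ hγG)
  have hKp : IsPGroup p (F.autGroup E ⊓ chainStab W W le_rfl : Subgroup (MulAut E)) :=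
    (isPGroup_chainStab hEp W W le_rfl).to_le inf_le_right
  obtain ⟨a, haG, ha⟩ := exists_conj_le_autInducedBy p F ⟨hES, R, hR⟩ _ hKp inf_le_left
  have h1 := hmemX a haG u₁ (hUT hu₁U) hu₁1 (ha u₁ ⟨hu₁G, hu₁K⟩)
  have h2 := hmemX (a * γ) (Subgroup.mul_mem _ haG hγG) u₂ (hUT hu₂U) hu₂1 (by
    have := ha v₂ ⟨hv₂G, hv₂K⟩
    rw [hv₂def] at this
    convert this using 1
    group)
  apply hg
  have e : g = (⟨a, haG⟩ : F.autGroup E)⁻¹ * ⟨a * γ, Subgroup.mul_mem _ haG hγG⟩ := by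
    apply Subtype.ext
    show (g : MulAut E) = a⁻¹ * (a * γ)
    rw [hγdef]
    group
  rw [e]
  exact Subgroup.mul_mem _ (Subgroup.inv_mem _ h1) h2

end Cfsg.Agent.Lib.Helper7.Exsp
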