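import Mathlib
import Cfsg.Prelude.Def_FusionSystem
import Cfsg.Agent.Lib.Helper7.ExspD
import Cfsg.Agent.Lib.Helper7.FusionEssential

set_option autoImplicit false

namespace Cfsg.Agent.Lib.Helper7.Exsp

open Cfsg Cfsg.FusionSystem Cfsg.Agent.Lib.Helper7 Cfsg.Agent.Lib.Helper7.Trv

variable {Ω : Type*} [Group Ω] {p : ℕ} {S E : Subgroup Ω}

/-- an element of `S` normalizing the centric subgroup `E` and inducing an inner automorphism
lies in `E` -/
theorem mem_of_inner' (hES : E ≤ S) (hcen : centralizerIn S E ≤ E) {n : Ω} (hnS : n ∈ S)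
    (hnN : n ∈ Subgroup.normalizer (E : Set Ω)) (hinn : uAut E n hnN ∈ Inn E) : n ∈ E := by
  obtain ⟨y, hy⟩ := hinn
  have hc : (y : Ω)⁻¹ * n ∈ centralizerIn S E := by
    refine Subgroup.mem_inf.mpr ⟨S.mul_mem (S.inv_mem (hES y.2)) hnS,
      Subgroup.mem_centralizer_iff.mpr ?_⟩
    intro z hz
    have h1 := congrArg (fun f : MulAut E => ((f ⟨z, hz⟩ : E) : Ω)) hy
    simp only [uAut_apply] at h1
    have h2 : (y : Ω) * z * (y : Ω)⁻¹ = n * z * n⁻¹ := h1
    calc z * ((y : Ω)⁻¹ * n) = (y : Ω)⁻¹ * ((y : Ω) * z * (y : Ω)⁻¹) * n := by group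
      _ = (y : Ω)⁻¹ * (n * z * n⁻¹) * n := by rw [h2]
      _ = (y : Ω)⁻¹ * n * z := by group
  have h3 := E.mul_mem y.2 (hcen hc)
  rwa [mul_inv_cancel_left] at h3

/-- an element of `S` stabilizing a chain `E ≥ W ≥ 1` with `W` characteristic lies in the
essential subgroup `E` -/
theorem mem_of_stab_char [Fact p.Prime] [Finite S] (hS : IsPGroup p S) (F : FusionSystem S)
    (hE : F.IsEssential p E) (W : Subgroup E) (hW : ∀ α : MulAut E, ∀ w ∈ W, α w ∈ W)
    {q : Ω} (hqS : q ∈ S) (hqN : q ∈ Subgroup.normalizer (E : Set Ω))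
    (h1 : ∀ x : E, x⁻¹ * uAut E q hqN x ∈ W) (h2 : ∀ w ∈ W, uAut E q hqN w = w) : q ∈ E := by
  have hES : E ≤ S := hE.1.1
  have : Finite E := finite_of_le hES
  have hEp : IsPGroup p E := hS.to_le hES
  have hcen : centralizerIn S E ≤ E := hE.1.2 E (isConj_refl F hES)
  obtain ⟨K, hKdef⟩ : ∃ K, K = F.autGroup E ⊓ chainStab W W le_rfl := ⟨_, rfl⟩
  have hKp : IsPGroup p (K.subgroupOf (F.autGroup E)) := by
    have : IsPGroup p K := hKdef ▸ (isPGroup_chainStab hEp W W le_rfl).to_le inf_le_right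
    exact this.comap_subtype
  have hKn : (K.subgroupOf (F.autGroup E)).Normal := by
    refine ⟨fun k hk γ => ?_⟩
    rw [Subgroup.mem_subgroupOf, hKdef] at hk ⊢
    obtain ⟨-, hk1, -, hk3⟩ := hk
    refine ⟨(γ * k * γ⁻¹).2, ?_⟩
    have hc : ∀ x, x⁻¹ * ((γ : MulAut E) * (k : MulAut E) * (γ : MulAut E)⁻¹) x ∈ W := by
      intro x
      have := hW (γ : MulAut E) _ (hk1 ((γ : MulAut E)⁻¹ x))
      rw [map_mul, map_inv, MulAut.apply_inv_self] at this
      exact this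
    refine ⟨hc, fun x _ => hc x, fun w hw => ?_⟩
    show (γ : MulAut E) ((k : MulAut E) ((γ : MulAut E)⁻¹ w)) = w
    rw [hk3 _ (hW _ w hw), MulAut.apply_inv_self]
  have hle := le_pCore hKn hKp
  have hrad := (isRadical_of_isEssential p hS F E hE).2
  have hcG : uAut E q hqN ∈ F.autGroup E :=
    autInducedBy_le_autGroup F hES (uAut_mem_autInducedBy hqS hqN)
  have hcK : (⟨uAut E q hqN, hcG⟩ : F.autGroup E) ∈ K.subgroupOf (F.autGroup E) := by
    rw [Subgroup.mem_subgroupOf, hKdef]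
    exact ⟨hcG, h1, fun x _ => h1 x, h2⟩
  have hinn : uAut E q hqN ∈ Inn E := by
    rw [← hrad]
    exact ⟨⟨uAut E q hqN, hcG⟩, hle hcK, rfl⟩
  exact mem_of_inner' hES hcen hqS hqN hinn

end Cfsg.Agent.Lib.Helper7.Exsp
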