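import Mathlib
import Cfsg.Prelude.Def_FusionSystem
import Cfsg.Agent.Lib.Helper7.ExspE

set_option autoImplicit false

namespace Cfsg.Agent.Lib.Helper7.Exsp

open Cfsg Cfsg.FusionSystem Cfsg.Agent.Lib.Helper7 Cfsg.Agent.Lib.Helper7.Trv
open scoped commutatorElement

variable {Ω : Type*} [Group Ω] {p : ℕ} {S E : Subgroup Ω}

/-- an essential subgroup inside the extraspecial subgroup `Q` of index `p` is `Q` -/
theorem essential_le_extraspecial [Fact p.Prime] [Finite S] (hp2 : p ≠ 2) (hS : IsPGroup p S)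
    (Q : Subgroup Ω) (hQS : Q ≤ S) (hQ : Cfsg.IsExtraspecial p ↥Q)
    (hQi : (Q.subgroupOf S).index = p) (h6 : p ^ 6 ≤ Nat.card S) (F : FusionSystem S)
    (hF : F.IsSaturated p) (hO : F.core = ⊥) (hEQ : E ≤ Q) (hE : F.IsEssential p E) : E = Q := by
  have hp : p.Prime := Fact.out
  have hZ : Zc S = Zc Q := Zc_eq_of_extraspecial hp2 hS Q hQS hQ hQi F hF hO
  have hcardZ : Nat.card (Zc Q) = p := by rw [← card_center_eq Q]; exact hQ.2
  have hES : E ≤ S := hE.1.1
  have : Finite E := finite_of_le hES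
  have : Finite Q := finite_of_le hQS
  have hcen : centralizerIn S E ≤ E := hE.1.2 E (isConj_refl F hES)
  have hZE : Zc Q ≤ E := by
    rw [← hZ]
    intro z hz
    apply hcen
    refine Subgroup.mem_inf.mpr ⟨(mem_Zc.mp hz).1, Subgroup.mem_centralizer_iff.mpr ?_⟩
    intro g hg
    exact (mem_Zc.mp hz).2 g (hES hg)
  have hcomm : ∀ a ∈ Q, ∀ b ∈ Q, a * b * a⁻¹ * b⁻¹ ∈ Zc Q := by
    intro a ha b hb
    have h1 : ⁅(⟨a, ha⟩ : Q), ⟨b, hb⟩⁆ ∈ commutator ↥Q :=
      Subgroup.commutator_mem_commutator (Subgroup.mem_top _) (Subgroup.mem_top _)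
    rw [hQ.1.2.2, ← Zc_subgroupOf, Subgroup.mem_subgroupOf, commutatorElement_def] at h1
    exact h1
  have hconj : ∀ q ∈ Q, ∀ e ∈ E, q * e * q⁻¹ ∈ E := by
    intro q hq e he
    have e1 : q * e * q⁻¹ = (q * e * q⁻¹ * e⁻¹) * e := by group
    rw [e1]
    exact E.mul_mem (hZE (hcomm q hq e (hEQ he))) he
  have hQN : Q ≤ Subgroup.normalizer (E : Set Ω) := by
    intro q hq
    rw [Subgroup.mem_normalizer_iff]
    intro e
    constructor
    · exact hconj q hq e
    · intro he
      have := hconj q⁻¹ (Q.inv_mem hq) _ he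
      have e1 : q⁻¹ * (q * e * q⁻¹) * q⁻¹⁻¹ = e := by group
      rwa [e1] at this
  obtain ⟨L, hLdef⟩ : ∃ L : Subgroup E, L = (Zc Q).subgroupOf E := ⟨_, rfl⟩
  have hL : Nat.card L = p := by
    rw [hLdef, Nat.card_congr (Subgroup.subgroupOfEquivOfLe hZE).toEquiv, hcardZ]
  have hq1 : ∀ q (hq : q ∈ Q), ∀ x : E, x⁻¹ * uAut E q (hQN hq) x ∈ L := by
    intro q hq x
    rw [hLdef, Subgroup.mem_subgroupOf, Subgroup.coe_mul, Subgroup.coe_inv, uAut_apply]
    have := hcomm (x : Ω)⁻¹ (Q.inv_mem (hEQ x.2)) q hq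
    rw [inv_inv] at this
    have e1 : (x : Ω)⁻¹ * (q * x * q⁻¹) = (x : Ω)⁻¹ * q * x * q⁻¹ := by group
    rw [e1]
    exact this
  have hq2 : ∀ q (hq : q ∈ Q), ∀ x ∈ L, uAut E q (hQN hq) x = x := by
    intro q hq x hx
    rw [hLdef, Subgroup.mem_subgroupOf] at hx
    apply Subtype.ext
    rw [uAut_apply, (mem_Zc.mp hx).2 q hq]
    group
  by_contra hne
  by_cases hab : ∀ a ∈ E, ∀ b ∈ E, a * b = b * a
  · -- the abelian case
    obtain ⟨ψ, hψdef⟩ : ∃ ψ : Q →* MulAut E,
        ψ = E.normalizerMonoidHom.comp (Subgroup.inclusion hQN) := ⟨_, rfl⟩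
    have hψu : ∀ q : Q, ψ q = uAut E q (hQN q.2) := fun q => by rw [hψdef]; rfl
    have hUT : ψ.range ≤ autInducedBy S E := by
      rintro _ ⟨q, rfl⟩
      rw [hψu]
      exact uAut_mem_autInducedBy (hQS q.2) _
    have hU1 : ∀ u ∈ ψ.range, ∀ x, x⁻¹ * u x ∈ L := by
      rintro _ ⟨q, rfl⟩ x
      rw [hψu]
      exact hq1 q q.2 x
    have hU2 : ∀ u ∈ ψ.range, ∀ x ∈ L, u x = x := by
      rintro _ ⟨q, rfl⟩ x hx
      rw [hψu]
      exact hq2 q q.2 x hx
    have hker : ψ.ker = E.subgroupOf Q := by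
      ext q
      rw [MonoidHom.mem_ker, Subgroup.mem_subgroupOf, hψu]
      constructor
      · intro hq
        apply hcen
        refine Subgroup.mem_inf.mpr ⟨hQS q.2, Subgroup.mem_centralizer_iff.mpr ?_⟩
        intro z hz
        have h1 := congrArg (fun f : MulAut E => ((f ⟨z, hz⟩ : E) : Ω)) hq
        simp only [uAut_apply, MulAut.one_apply] at h1
        calc z * (q : Ω) = ((q : Ω) * z * (q : Ω)⁻¹) * q := by rw [h1]
          _ = (q : Ω) * z := by group
      · intro hq
        ext y
        rw [uAut_apply, MulAut.one_apply, hab _ hq y y.2]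
        group
    have hcardU : Nat.card ψ.range = E.relIndex Q := by
      rw [← Subgroup.index_ker, hker]
      rfl
    obtain ⟨k, hk⟩ := (hS.to_le hQS).index (E.subgroupOf Q)
    have hk' : E.relIndex Q = p ^ k := hk
    have hk0 : k ≠ 0 := by
      rintro rfl
      rw [pow_zero] at hk'
      exact hne (le_antisymm hEQ (Subgroup.relIndex_eq_one.mp hk'))
    have hk1 : k ≠ 1 := by
      rintro rfl
      rw [pow_one] at hk'
      -- |Q : E| = p forces |S| ≤ p⁴
      obtain ⟨q, hqQ, hqE⟩ : ∃ q ∈ Q, q ∉ E := by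
        by_contra hcon
        push Not at hcon
        exact hne (le_antisymm hEQ hcon)
      have hsup := sup_zpowers_of_relIndex_prime hEQ hk' hqQ hqE
      have hcE : ∀ a b : E, a * b = b * a := fun a b => Subtype.ext (hab a a.2 b b.2)
      have hrange : commSub hcE (uAut E q (hQN hqQ)) ≤ L := by
        rintro _ ⟨x, rfl⟩
        rw [commHom_apply]
        exact hq1 q hqQ x
      have hfix : fixSub (uAut E q (hQN hqQ)) ≤ L := by
        intro x hx
        rw [hLdef, Subgroup.mem_subgroupOf]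
        have hx' : q * x * q⁻¹ = x := congrArg Subtype.val hx
        refine mem_Zc.mpr ⟨hEQ x.2, ?_⟩
        have hle : Q ≤ Subgroup.centralizer {(x : Ω)} := by
          rw [← hsup]
          apply sup_le
          · intro e he
            rw [Subgroup.mem_centralizer_singleton_iff]
            exact hab e he x x.2
          · rw [Subgroup.zpowers_le, Subgroup.mem_centralizer_singleton_iff]
            calc q * x = (q * x * q⁻¹) * q := by group
              _ = x * q := by rw [hx']
        intro s hs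
        have := hle hs
        rw [Subgroup.mem_centralizer_singleton_iff] at this
        exact this
      have h1 := Subgroup.card_mul_index (fixSub (uAut E q (hQN hqQ)))
      rw [index_fixSub hcE] at h1
      have h2 : Nat.card (fixSub (uAut E q (hQN hqQ))) ≤ p := hL ▸ Subgroup.card_le_of_le hfix
      have h3 : Nat.card (commSub hcE (uAut E q (hQN hqQ))) ≤ p := hL ▸ Subgroup.card_le_of_le hrange
      have h4 : Nat.card E ≤ p * p := by
        rw [← h1]
        exact Nat.mul_le_mul h2 h3
      have h5 : Nat.card Q = p * Nat.card E := by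
        have h5a := Subgroup.card_mul_index (E.subgroupOf Q)
        rw [Nat.card_congr (Subgroup.subgroupOfEquivOfLe hEQ).toEquiv] at h5a
        have h5b : (E.subgroupOf Q).index = p := hk'
        rw [h5b] at h5a
        rw [← h5a, mul_comm]
      have h6' : Nat.card S = p * Nat.card Q := by
        have h6a := Subgroup.card_mul_index (Q.subgroupOf S)
        rw [Nat.card_congr (Subgroup.subgroupOfEquivOfLe hQS).toEquiv, hQi] at h6a
        rw [← h6a, mul_comm]
      have h7 : Nat.card S ≤ p ^ 4 := by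
        rw [h6', h5]
        calc p * (p * Nat.card E) ≤ p * (p * (p * p)) :=
              Nat.mul_le_mul_left p (Nat.mul_le_mul_left p h4)
          _ = p ^ 4 := by ring
      have h8 : p ^ 4 < p ^ 6 := Nat.pow_lt_pow_right hp.one_lt (by norm_num)
      omega
    have hcard : p ^ 2 ≤ Nat.card ψ.range := by
      rw [hcardU, hk']
      exact Nat.pow_le_pow_right hp.pos (by omega)
    exact no_common_centre hS F hF hE (fun a b => Subtype.ext (hab a a.2 b b.2)) L hL ψ.range hUT
      hU1 hU2 hcard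
  · -- the nonabelian case
    push Not at hab
    obtain ⟨a, ha, b, hb, hneab⟩ := hab
    have hcL : commutator ↥E ≤ L := by
      rw [commutator_def, Subgroup.commutator_le]
      intro x _ y _
      rw [hLdef, Subgroup.mem_subgroupOf, commutatorElement_def]
      exact hcomm x (hEQ x.2) y (hEQ y.2)
    have hLc : L ≤ commutator ↥E := by
      have hc : ⁅(⟨a, ha⟩ : E), (⟨b, hb⟩ : E)⁆ ∈ commutator ↥E :=
        Subgroup.commutator_mem_commutator (Subgroup.mem_top _) (Subgroup.mem_top _)
      have hc1 : ⁅(⟨a, ha⟩ : E), (⟨b, hb⟩ : E)⁆ ≠ 1 := by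
        intro h1
        apply hneab
        have := commutatorElement_eq_one_iff_mul_comm.mp h1
        exact congrArg Subtype.val this
      intro w hw
      have := mem_zpowers_of_card_prime hL (hcL hc) hc1 hw
      obtain ⟨j, rfl⟩ := Subgroup.mem_zpowers_iff.mp this
      exact Subgroup.zpow_mem _ hc j
    have hLeq : L = commutator ↥E := le_antisymm hLc hcL
    have hW : ∀ α : MulAut E, ∀ w ∈ L, α w ∈ L := by
      intro α w hw
      rw [hLeq] at hw ⊢
      have hchar : (commutator ↥E).Characteristic := inferInstance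
      have := (Subgroup.characteristic_iff_map_eq.mp hchar) α
      rw [← this]
      exact ⟨w, hw, rfl⟩
    apply hne
    apply le_antisymm hEQ
    intro q hq
    exact mem_of_stab_char hS F hE L hW (hQS hq) (hQN hq) (hq1 q hq) (hq2 q hq)

end Cfsg.Agent.Lib.Helper7.Exsp
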