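import Mathlib

/-! Extremely primitive groups, part A (helper7): internal block criterion and the
"normal subgroups of the point stabilizer are trivial or transitive on each suborbit" step. -/

set_option autoImplicit false

open scoped Pointwise

namespace Cfsg.Agent.Lib.Helper7.ExtPrim

variable {G Ω : Type*} [Group G] [MulAction G Ω]

/-- the point stabilizer is primitive on each of its orbits -/
def EP (α : Ω) : Prop :=
  ∀ ω : Ω, MulAction.IsPreprimitive (MulAction.stabilizer G α)
    (MulAction.orbit (MulAction.stabilizer G α) ω)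

/-- internal form of primitivity of `G_α` on the orbit of `ω`: a subset `B` of the orbit containing
`ω` which is a block for `G_α` is `{ω}` or the whole orbit -/
theorem block_trivial {α : Ω} (hep : EP (G := G) α) (ω : Ω) (B : Set Ω)
    (hB : ∀ b ∈ B, ∃ h : G, h • α = α ∧ h • ω = b) (hω : ω ∈ B)
    (hblock : ∀ h : G, h • α = α → ∀ b ∈ B, h • b ∈ B → ∀ b' ∈ B, h • b' ∈ B) :
    (∀ b ∈ B, b = ω) ∨ (∀ h : G, h • α = α → h • ω ∈ B) := by
  classical
  have hprim := hep ω
  let B' : Set (MulAction.orbit (MulAction.stabilizer G α) ω) := {y | (y : Ω) ∈ B}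
  have hblk : MulAction.IsBlock (MulAction.stabilizer G α) B' := by
    rw [MulAction.isBlock_iff_smul_eq_of_mem]
    intro g a ha hga
    have hg : (g : G) • α = α := g.2
    have key : ∀ (k : MulAction.stabilizer G α) (a : MulAction.orbit (MulAction.stabilizer G α) ω),
        a ∈ B' → k • a ∈ B' → ∀ c ∈ B', k • c ∈ B' := by
      intro k a ha hka c hc
      exact hblock (k : G) k.2 (a : Ω) ha hka (c : Ω) hc
    apply Set.Subset.antisymm
    · rintro _ ⟨c, hc, rfl⟩
      exact key g a ha hga c hc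
    · intro c hc
      refine ⟨g⁻¹ • c, ?_, by simp⟩
      have h1 : g⁻¹ • (g • a) ∈ B' := by rw [inv_smul_smul]; exact ha
      exact key g⁻¹ (g • a) hga h1 c hc
  have htriv := hprim.isTrivialBlock_of_isBlock hblk
  rcases htriv with hs | hu
  · left
    intro b hb
    obtain ⟨h, hh, hhb⟩ := hB b hb
    have hb' : b ∈ MulAction.orbit (MulAction.stabilizer G α) ω := ⟨⟨h, hh⟩, hhb⟩
    have hω' : ω ∈ MulAction.orbit (MulAction.stabilizer G α) ω := MulAction.mem_orbit_self ω
    have := hs (show (⟨b, hb'⟩ : MulAction.orbit (MulAction.stabilizer G α) ω) ∈ B' from hb)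
      (show (⟨ω, hω'⟩ : MulAction.orbit (MulAction.stabilizer G α) ω) ∈ B' from hω)
    exact congrArg Subtype.val this
  · right
    intro h hh
    have hmem : h • ω ∈ MulAction.orbit (MulAction.stabilizer G α) ω := ⟨⟨h, hh⟩, rfl⟩
    have : (⟨h • ω, hmem⟩ : MulAction.orbit (MulAction.stabilizer G α) ω) ∈ B' := by
      rw [hu]; exact Set.mem_univ _
    exact this

/-- a subgroup `K ≤ G_α` normalized by `G_α` fixes `ω` or is transitive on the `G_α`-orbit of `ω` -/
theorem normal_fix_or_trans {α : Ω} (hep : EP (G := G) α) (K : Subgroup G)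
    (hKα : ∀ k ∈ K, k • α = α) (hKn : ∀ h : G, h • α = α → ∀ k ∈ K, h * k * h⁻¹ ∈ K) (ω : Ω) :
    (∀ k ∈ K, k • ω = ω) ∨ (∀ h : G, h • α = α → ∃ k ∈ K, k • ω = h • ω) := by
  have := block_trivial hep ω {b | ∃ k ∈ K, k • ω = b}
    (by
      rintro b ⟨k, hk, rfl⟩
      exact ⟨k, hKα k hk, rfl⟩)
    ⟨1, K.one_mem, one_smul _ _⟩
    (by
      rintro h hh b ⟨k, hk, rfl⟩ ⟨k', hk', hkk⟩ b' ⟨k'', hk'', rfl⟩
      -- h k ω = k' ω, so h ω = (h k⁻¹ h⁻¹) k' ω
      refine ⟨(h * k'' * h⁻¹) * ((h * k⁻¹ * h⁻¹) * k'), ?_, ?_⟩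
      · exact K.mul_mem (hKn h hh k'' hk'') (K.mul_mem (hKn h hh k⁻¹ (K.inv_mem hk)) hk')
      · simp only [mul_smul]
        rw [hkk]
        simp only [smul_inv_smul, inv_smul_smul])
  rcases this with h1 | h2
  · left
    intro k hk
    exact h1 (k • ω) ⟨k, hk, rfl⟩
  · right
    intro h hh
    exact h2 h hh

end Cfsg.Agent.Lib.Helper7.ExtPrim
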