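import Mathlib
import Cfsg.Agent.Lib.Helper7.ExtPrimA

/-! Extremely primitive groups, part B (helper7): in the "diagonal" situation (a regular simple
group `T` commuting with a regular group `C`), extreme primitivity gives the hypothesis `hstar`
of the endgame lemma. -/

set_option autoImplicit false

namespace Cfsg.Agent.Lib.Helper7.ExtPrim

variable {G Ω : Type*} [Group G] [MulAction G Ω]

/-- the diagonal situation -/
structure DiagSetting (α : Ω) (T C : Subgroup G) : Prop where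
  comm : ∀ t ∈ T, ∀ c ∈ C, t * c = c * t
  Tfree : ∀ t ∈ T, t • α = α → t = 1
  Cfree : ∀ c ∈ C, c • α = α → c = 1
  Ctrans : ∀ t ∈ T, ∃ c ∈ C, c • α = t⁻¹ • α
  stab : ∀ h : G, h • α = α →
    ((∀ t ∈ T, h * t * h⁻¹ ∈ T) ∧ (∀ c ∈ C, h * c * h⁻¹ ∈ C)) ∨
    ((∀ t ∈ T, h * t * h⁻¹ ∈ C) ∧ (∀ c ∈ C, h * c * h⁻¹ ∈ T))

namespace DiagSetting

variable {α : Ω} {T C : Subgroup G} (D : DiagSetting α T C)

include D in
lemma T_inj {t s : G} (ht : t ∈ T) (hs : s ∈ T) (h : t • α = s • α) : t = s := by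
  have h1 : (s⁻¹ * t) • α = α := by rw [mul_smul, h, inv_smul_smul]
  have h2 := D.Tfree _ (T.mul_mem (T.inv_mem hs) ht) h1
  exact (inv_mul_eq_one.mp h2).symm

include D in
lemma C_inj {c e : G} (hc : c ∈ C) (he : e ∈ C) (h : c • α = e • α) : c = e := by
  have h1 : (e⁻¹ * c) • α = α := by rw [mul_smul, h, inv_smul_smul]
  have h2 := D.Cfree _ (C.mul_mem (C.inv_mem he) hc) h1
  exact (inv_mul_eq_one.mp h2).symm

/-- the element of `C` attached to `t ∈ T` -/
noncomputable def cOf (t : T) : G := Classical.choose (D.Ctrans t t.2)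

lemma cOf_mem (t : T) : D.cOf t ∈ C := (Classical.choose_spec (D.Ctrans t t.2)).1

lemma cOf_smul (t : T) : D.cOf t • α = (t : G)⁻¹ • α := (Classical.choose_spec (D.Ctrans t t.2)).2

lemma cOf_unique (t : T) {c : G} (hc : c ∈ C) (h : c • α = (t : G)⁻¹ • α) : c = D.cOf t :=
  D.C_inj hc (D.cOf_mem t) (h.trans (D.cOf_smul t).symm)

lemma cOf_mul (t s : T) : D.cOf (t * s) = D.cOf t * D.cOf s := by
  symm
  apply D.cOf_unique (t * s) (C.mul_mem (D.cOf_mem t) (D.cOf_mem s))
  rw [mul_smul, D.cOf_smul s, ← mul_smul, ← D.comm _ (T.inv_mem s.2) _ (D.cOf_mem t), mul_smul,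
    D.cOf_smul t, ← mul_smul, Subgroup.coe_mul, mul_inv_rev]

lemma cOf_inj {t s : T} (h : D.cOf t = D.cOf s) : t = s := by
  have h1 : (t : G)⁻¹ • α = (s : G)⁻¹ • α := by rw [← D.cOf_smul t, ← D.cOf_smul s, h]
  have h2 := D.T_inj (T.inv_mem t.2) (T.inv_mem s.2) h1
  exact Subtype.ext (inv_injective h2)

/-- the diagonal element `t * c_t` fixes `α` -/
lemma dOf_fix (t : T) : ((t : G) * D.cOf t) • α = α := by
  rw [mul_smul, D.cOf_smul, smul_inv_smul]

/-- the diagonal element acts on the points `s • α` by conjugation -/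
lemma dOf_smul (t : T) {s : G} (hs : s ∈ T) :
    ((t : G) * D.cOf t) • (s • α) = ((t : G) * s * (t : G)⁻¹) • α := by
  have h1 : D.cOf t * s = s * D.cOf t := (D.comm s hs _ (D.cOf_mem t)).symm
  calc ((t : G) * D.cOf t) • (s • α) = ((t : G) * (D.cOf t * s)) • α := by
        rw [← mul_smul, mul_assoc]
    _ = ((t : G) * (s * D.cOf t)) • α := by rw [h1]
    _ = ((t : G) * s) • (D.cOf t • α) := by rw [← mul_smul, mul_assoc]
    _ = ((t : G) * s * (t : G)⁻¹) • α := by rw [D.cOf_smul, ← mul_smul]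

end DiagSetting

/-- conjugation by a normalizing element as an endomorphism of `T` -/
def conjHom (T : Subgroup G) (h : G) (hn : ∀ t ∈ T, h * t * h⁻¹ ∈ T) : T →* T :=
  MonoidHom.mk' (fun t => ⟨h * t * h⁻¹, hn t t.2⟩) (by
    intro a b
    apply Subtype.ext
    show h * ((a * b : T) : G) * h⁻¹ = (h * a * h⁻¹) * (h * b * h⁻¹)
    rw [Subgroup.coe_mul]; group)

lemma conjHom_injective (T : Subgroup G) (h : G) (hn : ∀ t ∈ T, h * t * h⁻¹ ∈ T) :
    Function.Injective (conjHom T h hn) := by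
  intro a b hab
  have h1 : h * (a : G) * h⁻¹ = h * (b : G) * h⁻¹ := congrArg Subtype.val hab
  apply Subtype.ext
  have h2 := congrArg (fun y => h⁻¹ * y * h) h1
  simpa [mul_assoc] using h2

/-- the swapping automorphism `t ↦ h * c_t * h⁻¹` -/
noncomputable def swapHom {α : Ω} {T C : Subgroup G} (D : DiagSetting α T C) (h : G)
    (hn : ∀ c ∈ C, h * c * h⁻¹ ∈ T) : T →* T :=
  MonoidHom.mk' (fun t => ⟨h * D.cOf t * h⁻¹, hn _ (D.cOf_mem t)⟩) (by
    intro a b
    apply Subtype.ext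
    show h * D.cOf (a * b) * h⁻¹ = (h * D.cOf a * h⁻¹) * (h * D.cOf b * h⁻¹)
    rw [D.cOf_mul]; group)

lemma swapHom_injective {α : Ω} {T C : Subgroup G} (D : DiagSetting α T C) (h : G)
    (hn : ∀ c ∈ C, h * c * h⁻¹ ∈ T) : Function.Injective (swapHom D h hn) := by
  intro a b hab
  have h1 : h * D.cOf a * h⁻¹ = h * D.cOf b * h⁻¹ := congrArg Subtype.val hab
  apply D.cOf_inj
  have h2 := congrArg (fun y => h⁻¹ * y * h) h1
  simpa [mul_assoc] using h2

/-- **Key derivation**: extreme primitivity in the diagonal setting gives `hstar`. -/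
theorem hstar_of_diag {α : Ω} {T C : Subgroup G} [Finite T] (D : DiagSetting α T C)
    (hep : EP (G := G) α) :
    ∀ x : T, x ≠ 1 → ∀ L : Subgroup T, Subgroup.centralizer ({x} : Set T) ≤ L →
      (∀ σ : T ≃* T, (σ x = x ∨ σ x = x⁻¹) → L.map σ.toMonoidHom = L) →
      L = Subgroup.centralizer ({x} : Set T) ∨ L = ⊤ := by
  intro x hx L hCL hinv
  set ω : Ω := (x : G) • α with hω
  let B : Set Ω := {b | ∃ l ∈ L, b = ((l : G) * x * (l : G)⁻¹) • α}
  -- diagonal elements move `ω` inside `B`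
  have hd : ∀ l : T, ((l : G) * D.cOf l) • ω = ((l : G) * x * (l : G)⁻¹) • α := fun l =>
    D.dOf_smul l x.2
  have hdB : ∀ l ∈ L, ∀ b ∈ B, ((l : G) * D.cOf l) • b ∈ B := by
    rintro l hl b ⟨l', hl', rfl⟩
    refine ⟨l * l', L.mul_mem hl hl', ?_⟩
    rw [D.dOf_smul l (T.mul_mem (T.mul_mem l'.2 x.2) (T.inv_mem l'.2))]
    congr 1
    push_cast
    group
  -- key claim
  have key : ∀ h' : G, h' • α = α → h' • ω = ω → ∀ l ∈ L,
      h' • (((l : G) * x * (l : G)⁻¹) • α) ∈ B := by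
    intro h' hα' hω' l hl
    have hinvα : h'⁻¹ • α = α := by rw [inv_smul_eq_iff, hα']
    rcases D.stab h' hα' with ⟨hT, -⟩ | ⟨hTC, hCT⟩
    · -- normalizing case
      let f := conjHom T h' hT
      have hbij : Function.Bijective f := Finite.injective_iff_bijective.mp (conjHom_injective T h' hT)
      let σ : T ≃* T := MulEquiv.ofBijective f hbij
      have hσx : σ x = x := by
        apply Subtype.ext
        show h' * (x : G) * h'⁻¹ = x
        apply D.T_inj (hT x x.2) x.2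
        rw [mul_smul, mul_smul, hinvα]
        exact hω'
      have hσL := hinv σ (Or.inl hσx)
      have hσl : σ l ∈ L := by
        have : σ.toMonoidHom l ∈ L.map σ.toMonoidHom := Subgroup.mem_map_of_mem _ hl
        rw [hσL] at this
        exact this
      refine ⟨σ l, hσl, ?_⟩
      have e1 : ((σ l : T) : G) = h' * l * h'⁻¹ := rfl
      rw [e1, ← mul_smul]
      have e2 : h' * ((l : G) * x * (l : G)⁻¹)
          = (h' * l * h'⁻¹) * x * (h' * l * h'⁻¹)⁻¹ * h' := by
        have hx' : h' * (x : G) * h'⁻¹ = x := congrArg Subtype.val hσx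
        calc h' * ((l : G) * x * (l : G)⁻¹)
            = (h' * l * h'⁻¹) * (h' * (x : G) * h'⁻¹) * (h' * l * h'⁻¹)⁻¹ * h' := by group
          _ = (h' * l * h'⁻¹) * x * (h' * l * h'⁻¹)⁻¹ * h' := by rw [hx']
      rw [e2, mul_smul, hα']
    · -- swapping case
      let f := swapHom D h' hCT
      have hbij : Function.Bijective f :=
        Finite.injective_iff_bijective.mp (swapHom_injective D h' hCT)
      let σ : T ≃* T := MulEquiv.ofBijective f hbij
      have hσval : ∀ y : T, ((σ y : T) : G) = h' * D.cOf y * h'⁻¹ := fun y => rfl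
      -- `h' • (y • α) = (σ y)⁻¹ • α`
      have hact : ∀ y : T, h' • ((y : G) • α) = ((σ y : T) : G)⁻¹ • α := by
        intro y
        have h1 : (h' * ((y : G) * D.cOf y) * h'⁻¹) • α = α := by
          rw [mul_smul, mul_smul, hinvα, D.dOf_fix, hα']
        have h2 : h' * ((y : G) * D.cOf y) * h'⁻¹ = (h' * y * h'⁻¹) * ((σ y : T) : G) := by
          rw [hσval]; group
        rw [h2] at h1
        have h3 : (h' * (y : G) * h'⁻¹) * ((σ y : T) : G) = ((σ y : T) : G) * (h' * y * h'⁻¹) :=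
          (D.comm _ (σ y).2 _ (hTC y y.2)).symm
        rw [h3, mul_smul] at h1
        have h4 : (h' * (y : G) * h'⁻¹) • α = ((σ y : T) : G)⁻¹ • α := by
          rw [eq_inv_smul_iff]; exact h1
        rw [← h4, mul_smul, mul_smul, hinvα]
      have hσx : σ x = x⁻¹ := by
        have h1 := hact x
        rw [← hω, hω'] at h1
        have h2 := D.T_inj x.2 (T.inv_mem (σ x).2) h1
        apply Subtype.ext
        rw [Subgroup.coe_inv, h2, inv_inv]
      have hσL := hinv σ (Or.inr hσx)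
      have hσl : σ l ∈ L := by
        have : σ.toMonoidHom l ∈ L.map σ.toMonoidHom := Subgroup.mem_map_of_mem _ hl
        rw [hσL] at this
        exact this
      refine ⟨σ l, hσl, ?_⟩
      have h1 := hact (l * x * l⁻¹)
      have e1 : (((l * x * l⁻¹ : T) : T) : G) = (l : G) * x * (l : G)⁻¹ := by push_cast; rfl
      rw [e1] at h1
      rw [h1]
      congr 1
      rw [map_mul, map_mul, map_inv, hσx]
      push_cast
      group
  -- apply the block criterion
  have hblock := block_trivial hep ω B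
    (by
      rintro b ⟨l, hl, rfl⟩
      exact ⟨(l : G) * D.cOf l, D.dOf_fix l, hd l⟩)
    ⟨1, L.one_mem, by simp [hω]⟩
    (by
      rintro h hh b ⟨l₁, hl₁, rfl⟩ ⟨l₂, hl₂, h12⟩ b' ⟨l, hl, rfl⟩
      -- h' := d₂⁻¹ h d₁
      set d₁ : G := (l₁ : G) * D.cOf l₁ with hd₁
      set d₂ : G := (l₂ : G) * D.cOf l₂ with hd₂
      have hd₁α : d₁ • α = α := D.dOf_fix l₁
      have hd₂α : d₂ • α = α := D.dOf_fix l₂
      have hd₂inv : d₂⁻¹ • α = α := by rw [inv_smul_eq_iff, hd₂α]
      have hα' : (d₂⁻¹ * h * d₁) • α = α := by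
        rw [mul_smul, mul_smul, hd₁α, hh, hd₂inv]
      have hω' : (d₂⁻¹ * h * d₁) • ω = ω := by
        rw [mul_smul, mul_smul, hd l₁, h12, ← hd l₂, inv_smul_smul]
      -- `b' = d₁ • b''`
      have hb'' : ((l : G) * x * (l : G)⁻¹) • α
          = d₁ • ((((l₁⁻¹ * l : T) : G) * x * ((l₁⁻¹ * l : T) : G)⁻¹) • α) := by
        rw [D.dOf_smul l₁ (T.mul_mem (T.mul_mem (l₁⁻¹ * l).2 x.2) (T.inv_mem (l₁⁻¹ * l).2))]
        congr 1
        push_cast
        group
      have hk := key (d₂⁻¹ * h * d₁) hα' hω' (l₁⁻¹ * l) (L.mul_mem (L.inv_mem hl₁) hl)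
      have hfin := hdB l₂ hl₂ _ hk
      have e : h • (((l : G) * x * (l : G)⁻¹) • α)
          = d₂ • ((d₂⁻¹ * h * d₁) • ((((l₁⁻¹ * l : T) : G) * x * ((l₁⁻¹ * l : T) : G)⁻¹) • α)) := by
        rw [hb'']
        simp only [mul_smul, smul_inv_smul]
      rw [e]
      exact hfin)
  rcases hblock with h1 | h2
  · left
    apply le_antisymm _ hCL
    intro l hl
    rw [Subgroup.mem_centralizer_iff]
    intro y hy
    rw [Set.mem_singleton_iff] at hy
    subst hy
    have h3 := h1 _ ⟨l, hl, rfl⟩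
    have h4 := D.T_inj (T.mul_mem (T.mul_mem l.2 y.2) (T.inv_mem l.2)) y.2 h3
    apply Subtype.ext
    push_cast
    have h5 : (l : G) * y = y * l := by
      calc (l : G) * y = ((l : G) * y * (l : G)⁻¹) * l := by group
        _ = y * l := by rw [h4]
    exact h5.symm
  · right
    rw [eq_top_iff]
    intro t _
    obtain ⟨l, hl, h3⟩ := h2 ((t : G) * D.cOf t) (D.dOf_fix t)
    rw [hd t] at h3
    have h4 := D.T_inj (T.mul_mem (T.mul_mem t.2 x.2) (T.inv_mem t.2))
      (T.mul_mem (T.mul_mem l.2 x.2) (T.inv_mem l.2)) h3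
    -- l⁻¹ t centralizes x
    have h5 : l⁻¹ * t ∈ Subgroup.centralizer ({x} : Set T) := by
      rw [Subgroup.mem_centralizer_iff]
      intro y hy
      rw [Set.mem_singleton_iff] at hy
      subst hy
      apply Subtype.ext
      push_cast
      have h6 : (l : G)⁻¹ * ((t : G) * y * (t : G)⁻¹) * l = y := by rw [h4]; group
      calc (y : G) * ((l : G)⁻¹ * t) = ((l : G)⁻¹ * ((t : G) * y * (t : G)⁻¹) * l) * ((l : G)⁻¹ * t) := by
            rw [h6]
        _ = (l : G)⁻¹ * t * y := by group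
    have h7 := L.mul_mem hl (hCL h5)
    simpa using h7

end Cfsg.Agent.Lib.Helper7.ExtPrim
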