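import Mathlib
import Cfsg.Agent.Lib.Helper7.ExtPrimB
import Cfsg.Agent.Lib.Helper7.DerP
import Cfsg.Agent.Lib.Helper8.ExtPrimStep56
import Cfsg.Agent.Lib.Lead.ExtPrimProd

/-! Extremely primitive groups, part C (helper7): assembly.  A faithful extremely primitive group is
affine or almost simple.  The holomorph-of-simple and two-factor-diagonal cases are excluded through
`hstar_of_diag` and the endgame lemma (helper8); the other product cases through
`two_factor_structure` (lead). -/

set_option autoImplicit false

namespace Cfsg.Agent.Lib.Helper7.ExtPrim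

open Cfsg.Agent.Lib.Helper4.MinNormal Cfsg.Agent.H1.OnanScott Cfsg.Agent.Lib.Helper7.DerP

variable {G Ω : Type*} [Group G] [MulAction G Ω]

/-- a diagonal setting with `T` finite simple non-abelian is impossible for an extremely primitive
group -/
theorem false_of_diag {α : Ω} {T C : Subgroup G} [Finite T] (D : DiagSetting α T C)
    (hep : EP (G := G) α) (hs : IsSimpleGroup T) (hnc : ¬ IsMulCommutative T) : False :=
  Cfsg.Agent.Lib.Helper8.ExtPrimStep56.endgame hnc (hstar_of_diag D hep)

/-- a simple non-abelian normal subgroup of an extremely primitive group has trivial centralizer -/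
theorem simple_case [Finite G] [FaithfulSMul G Ω] (hprim : MulAction.IsPreprimitive G Ω)
    (α : Ω) (hep : EP (G := G) α) (N : Subgroup G) [hNn : N.Normal] (hNne : N ≠ ⊥)
    (hs : IsSimpleGroup N) (hnc : ¬ IsMulCommutative N) :
    Subgroup.centralizer (N : Set G) = ⊥ := by
  by_contra hC
  have hCn : (Subgroup.centralizer (N : Set G)).Normal := inferInstance
  have hCt := pretransitive_of_normal hprim (Subgroup.centralizer (N : Set G)) hC
  have hNt := pretransitive_of_normal hprim N hNne
  have hcomm : ∀ t ∈ N, ∀ c ∈ Subgroup.centralizer (N : Set G), t * c = c * t :=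
    fun t ht c hc => (Subgroup.mem_centralizer_iff.mp hc) t ht
  have D : DiagSetting α N (Subgroup.centralizer (N : Set G)) :=
    { comm := hcomm
      Tfree := fun t ht h =>
        eq_one_of_fix_of_commute (Subgroup.centralizer (N : Set G)) t (fun c hc => hcomm t ht c hc) α h
      Cfree := fun c hc h =>
        eq_one_of_fix_of_commute N c (fun n hn => (hcomm n hn c hc).symm) α h
      Ctrans := fun t _ => by
        obtain ⟨c, hc⟩ := MulAction.exists_smul_eq (Subgroup.centralizer (N : Set G)) α (t⁻¹ • α)
        exact ⟨c, c.2, hc⟩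
      stab := fun h _ => Or.inl ⟨fun t ht => hNn.conj_mem t ht h, fun c hc => hCn.conj_mem c hc h⟩ }
  exact false_of_diag D hep hs hnc

/-- the members of a family are not commutative -/
theorem not_comm_of_isFam {N : Subgroup G} {I : Type*} {Sub : I → Subgroup G} (F : IsFam N Sub)
    (i : I) : ¬ IsMulCommutative (Sub i) := by
  intro hc
  have := F.simple i
  obtain ⟨x, hx⟩ := exists_ne (1 : Sub i)
  apply hx
  have h1 : (x : G) ∈ Sub i ⊓ Subgroup.centralizer (Sub i : Set G) := by
    refine Subgroup.mem_inf.mpr ⟨x.2, ?_⟩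
    rw [Subgroup.mem_centralizer_iff]
    intro y hy
    exact congrArg Subtype.val (hc.is_comm.comm (⟨y, hy⟩ : Sub i) x)
  rw [F.hZ i, Subgroup.mem_bot] at h1
  exact Subtype.ext h1

/-- a non-abelian non-simple minimal normal subgroup is impossible -/
theorem product_case [Finite G] [FaithfulSMul G Ω] (hprim : MulAction.IsPreprimitive G Ω)
    (hep : ∀ (α ω : Ω), MulAction.IsPreprimitive (MulAction.stabilizer G α)
      (MulAction.orbit (MulAction.stabilizer G α) ω))
    (N : Subgroup G) [hNn : N.Normal] (hNne : N ≠ ⊥)
    (hmin : ∀ M : Subgroup G, M.Normal → M ≤ N → M = ⊥ ∨ M = N) (hnab : ¬ IsMulCommutative N)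
    {S : Subgroup G} (hS : MinNormalIn N S) (hSN : S ≠ N) (α : Ω) : False := by
  classical
  have F := isFam_of_minNormalIn N hmin hnab hS
  -- some conjugate of `S` differs from `S`
  have hex : ∃ g : G, cj g S ≠ S := by
    by_contra hcon
    push Not at hcon
    apply hSN
    have h1 := iSup_map_conj_eq N hmin hS
    rw [← h1]
    apply le_antisymm
    · exact (le_iSup (fun h : G => S.map (MulAut.conj h).toMonoidHom) 1).trans' (by
        rw [show S.map (MulAut.conj (1 : G)).toMonoidHom = cj 1 S from rfl, cj_one])
    · exact iSup_le fun h => le_of_eq (hcon h)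
  obtain ⟨g, hg⟩ := hex
  let i : Idx S := ⟨S, 1, (cj_one S).symm⟩
  let j : Idx S := ⟨cj g S, g, rfl⟩
  have hij : i ≠ j := by
    intro h
    apply hg
    exact (congrArg Subtype.val h).symm
  obtain ⟨hall, hfree_i, hgraph_i⟩ :=
    Cfsg.Agent.Lib.Lead.ExtPrimProd.two_factor_structure hprim hep N hNne hmin hnab hS α i j hij
  obtain ⟨-, hfree_j, -⟩ :=
    Cfsg.Agent.Lib.Lead.ExtPrimProd.two_factor_structure hprim hep N hNne hmin hnab hS α j i hij.symm
  have hinj : ∀ (h : G) (a b : Idx S), act S h a = act S h b → a = b := by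
    intro h a b hab
    have := congrArg (act S h⁻¹) hab
    rwa [act_inv_act, act_inv_act] at this
  have hconj : ∀ (h : G) (a b : Idx S), act S h a = b → ∀ t ∈ a.1, h * t * h⁻¹ ∈ b.1 := by
    intro h a b hab t ht
    have h1 : h * t * h⁻¹ ∈ cj h a.1 := conj_mem_cj h ht
    rw [← hab]
    exact h1
  have D : DiagSetting α i.1 j.1 :=
    { comm := fun t ht c hc => (Subgroup.mem_centralizer_iff.mp (F.comm i j hij hc)) t ht
      Tfree := hfree_i
      Cfree := hfree_j
      Ctrans := fun t ht => by
        obtain ⟨c, hc, h⟩ := hgraph_i t ht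
        refine ⟨c, hc, ?_⟩
        rw [mul_smul] at h
        rw [eq_inv_smul_iff]
        exact h
      stab := fun h _ => by
        rcases hall (act S h i) with h1 | h1
        · left
          have h2 : act S h j = j := by
            rcases hall (act S h j) with h2 | h2
            · exact absurd (hinj h i j (h1.trans h2.symm)) hij
            · exact h2
          exact ⟨hconj h i i h1, hconj h j j h2⟩
        · right
          have h2 : act S h j = i := by
            rcases hall (act S h j) with h2 | h2
            · exact h2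
            · exact absurd (hinj h i j (h1.trans h2.symm)) hij
          exact ⟨hconj h i j h1, hconj h j i h2⟩ }
  exact false_of_diag D (hep α) (F.simple i) (not_comm_of_isFam F i)

/-- **Main theorem**: a faithful extremely primitive group is affine or almost simple. -/
theorem main [Finite G] [FaithfulSMul G Ω] [Finite Ω]
    (hprim : MulAction.IsPreprimitive G Ω) (hΩ : 2 ≤ Nat.card Ω)
    (hep : ∀ (α ω : Ω), MulAction.IsPreprimitive (MulAction.stabilizer G α)
      (MulAction.orbit (MulAction.stabilizer G α) ω)) :
    (∃ N : Subgroup G, N.Normal ∧ N ≠ ⊥ ∧ IsMulCommutative N ∧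
      ∀ ω : Ω, MulAction.stabilizer N ω = ⊥) ∨
    (∃ T : Subgroup G, T.Normal ∧ IsSimpleGroup ↥T ∧ ¬ IsMulCommutative ↥T ∧
      Subgroup.centralizer (T : Set G) = ⊥) := by
  classical
  have htr : MulAction.IsPretransitive G Ω := hprim.toIsPretransitive
  -- `G` is non-trivial
  have htop : (⊤ : Subgroup G) ≠ ⊥ := by
    intro h
    have hsub : ∀ g : G, g = 1 := by
      intro g
      have : g ∈ (⊤ : Subgroup G) := Subgroup.mem_top g
      rw [h, Subgroup.mem_bot] at this
      exact this
    have hss : Subsingleton Ω := by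
      constructor
      intro a b
      obtain ⟨g, hg⟩ := MulAction.exists_smul_eq G a b
      rw [hsub g, one_smul] at hg
      exact hg
    have := Finite.card_le_one_iff_subsingleton.mpr hss
    omega
  have hne : Nonempty Ω := by
    by_contra h
    rw [not_nonempty_iff] at h
    have : Nat.card Ω = 0 := Nat.card_of_isEmpty
    omega
  obtain ⟨α⟩ := hne
  -- a minimal normal subgroup
  let 𝒜 : Set (Subgroup G) := {M | M.Normal ∧ M ≠ ⊥}
  obtain ⟨N, hN, hNmin⟩ := (wellFounded_lt (α := Subgroup G)).has_min 𝒜 ⟨⊤, inferInstance, htop⟩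
  have hNn : N.Normal := hN.1
  have hNne : N ≠ ⊥ := hN.2
  have hmin : ∀ M : Subgroup G, M.Normal → M ≤ N → M = ⊥ ∨ M = N := by
    intro M hM hMN
    by_cases h : M = ⊥
    · left; exact h
    · right
      by_contra hne
      exact hNmin M ⟨hM, h⟩ (lt_of_le_of_ne hMN hne)
  have hNt : MulAction.IsPretransitive N Ω := pretransitive_of_normal hprim N hNne
  by_cases hab : IsMulCommutative N
  · -- affine case
    left
    have hcomm : ∀ x ∈ N, ∀ y ∈ N, x * y = y * x := by
      intro x hx y hy
      exact congrArg Subtype.val (hab.is_comm.comm (⟨x, hx⟩ : N) ⟨y, hy⟩)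
    refine ⟨N, hNn, hNne, hab, ?_⟩
    intro a
    rw [eq_bot_iff]
    intro n hn
    rw [Subgroup.mem_bot]
    apply Subtype.ext
    have hfix : (n : G) • a = a := hn
    exact eq_one_of_fix_of_commute N (n : G) (fun c hc => hcomm n n.2 c hc) a hfix
  · -- non-abelian minimal normal subgroup
    right
    obtain ⟨S, hS⟩ := exists_minNormalIn N hNne
    by_cases hSN : S = N
    · subst hSN
      exact ⟨S, hNn, hS.isSimpleGroup S hmin, hab,
        simple_case hprim α (hep α) S hNne (hS.isSimpleGroup S hmin) hab⟩
    · exact (product_case hprim hep N hNne hmin hab hS hSN α).elim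

end Cfsg.Agent.Lib.Helper7.ExtPrim
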