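import Mathlib
import Cfsg.Prelude.Def_SubgroupEmbedding
import Cfsg.Prelude.Def_TwoFusion
import Cfsg.Prelude.Def_Solvable
import Cfsg.Agent.Lib.Lead.Conj
import Cfsg.Agent.Lib.Lead.PiCore
import Cfsg.Agent.Lib.Helper7.ExtremelyClosed

set_option autoImplicit false

namespace Cfsg.Agent.Lib.Helper7

open Cfsg Cfsg.Agent.Lib.Lead.Conj

/-- A self-normalizing abelian `p`-subgroup of a finite group has a normal `p`-complement, which is the
`p'`-core. -/
theorem sup_pPrimeCore_of_self_normalizing_abelian {T : Type*} [Group T] [Finite T] {p : ℕ}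
    [Fact p.Prime] (H : Subgroup T) (hHp : IsPGroup p H) (hcomm : ∀ a ∈ H, ∀ b ∈ H, a * b = b * a)
    (hN : Subgroup.normalizer (H : Set T) = H) :
    H ⊔ pPrimeCore p T = ⊤ ∧ H ⊓ pPrimeCore p T = ⊥ := by
  have hp : p.Prime := Fact.out
  -- H is a Sylow subgroup
  obtain ⟨S, hS⟩ := hHp.exists_le_sylow
  have hSH : (S : Subgroup T) = H := by
    apply eq_of_inf_normalizer_eq S.isPGroup' hS
    rw [hN]
    exact inf_eq_right.mpr hS
  have hNC : Subgroup.normalizer ((S : Subgroup T) : Set T) ≤ Subgroup.centralizer ((S : Subgroup T) : Set T) := by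
    rw [hSH, hN]
    intro a ha
    rw [Subgroup.mem_centralizer_iff]
    intro b hb
    exact hcomm b hb a ha
  have hcompl := MonoidHom.ker_transferSylow_isComplement' S hNC
  have hKn : (MonoidHom.transferSylow S hNC).ker.Normal := MonoidHom.normal_ker _
  have hKc : (Nat.card ↥(MonoidHom.transferSylow S hNC).ker).Coprime p := by
    rw [Nat.coprime_comm, hp.coprime_iff_not_dvd]
    exact MonoidHom.not_dvd_card_ker_transferSylow S hNC
  have hK_le : (MonoidHom.transferSylow S hNC).ker ≤ pPrimeCore p T :=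
    Cfsg.Agent.Lib.Lead.PiCore.le_pPrimeCore hKn hKc
  constructor
  · rw [eq_top_iff, ← hcompl.sup_eq_top]
    exact sup_le (hK_le.trans le_sup_right) (hSH.le.trans le_sup_left)
  · rw [eq_bot_iff]
    intro x hx
    rw [Subgroup.mem_bot]
    have h1 : orderOf x ∣ Nat.card ↥(pPrimeCore p T) := by
      rw [← Subgroup.orderOf_mk x hx.2]; exact orderOf_dvd_natCard _
    obtain ⟨k, hk⟩ := (IsPGroup.iff_orderOf.mp hHp) ⟨x, hx.1⟩
    rw [Subgroup.orderOf_mk] at hk
    have hcop := Cfsg.Agent.Lib.Lead.PiCore.pPrimeCore_coprime (G := T) hp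
    have h2 : orderOf x ∣ Nat.gcd (Nat.card ↥(pPrimeCore p T)) (p ^ k) := Nat.dvd_gcd h1 (hk ▸ dvd_rfl)
    rw [(hcop.pow_right k).gcd_eq_one] at h2
    exact orderOf_eq_one_iff.mp (Nat.eq_one_of_dvd_one h2)

theorem extremelyClosed_abelian_pair {G : Type*} [Group G] [Finite G] {p : ℕ} [Fact p.Prime]
    (H : Subgroup G) (hHp : IsPGroup p H) (hHab : IsMulCommutative H) (hcl : IsExtremelyClosed H) (g : G)
    (T : Subgroup G) (hT : T = H ⊔ H.map (MulAut.conj g).toMonoidHom) :
    H ⊔ (pPrimeCore p ↥T).map T.subtype = T ∧ H ⊓ (pPrimeCore p ↥T).map T.subtype = ⊥ := by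
  have hHT : H ≤ T := hT ▸ le_sup_left
  have hcl' : T ⊓ Subgroup.normalizer (H : Set G) = H := hT ▸ hcl g
  have hN : Subgroup.normalizer ((H.subgroupOf T : Subgroup ↥T) : Set ↥T) = H.subgroupOf T := by
    apply le_antisymm _ Subgroup.le_normalizer
    intro x hx
    rw [Subgroup.mem_subgroupOf, ← hcl']
    refine ⟨x.2, ?_⟩
    apply mem_normalizer_of_conj_mem
    intro r hr
    have h1 := (Subgroup.mem_normalizer_iff.mp hx ⟨r, hHT hr⟩).mp (Subgroup.mem_subgroupOf.mpr hr)
    exact Subgroup.mem_subgroupOf.mp h1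
  have hcomm : ∀ a ∈ H.subgroupOf T, ∀ b ∈ H.subgroupOf T, a * b = b * a := by
    intro a ha b hb
    have := (isMulCommutative_iff.mp hHab) ⟨a, Subgroup.mem_subgroupOf.mp ha⟩ ⟨b, Subgroup.mem_subgroupOf.mp hb⟩
    apply Subtype.ext
    exact congrArg (fun z : ↥H => (z : G)) this
  obtain ⟨h1, h2⟩ := sup_pPrimeCore_of_self_normalizing_abelian (H.subgroupOf T) hHp.comap_subtype hcomm hN
  have hmapH : (H.subgroupOf T).map T.subtype = H := by
    rw [Subgroup.subgroupOf_map_subtype, inf_eq_left.mpr hHT]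
  constructor
  · have := congrArg (Subgroup.map T.subtype) h1
    rw [Subgroup.map_sup, hmapH, ← MonoidHom.range_eq_map, Subgroup.range_subtype] at this
    exact this
  · have := congrArg (Subgroup.map T.subtype) h2
    rw [Subgroup.map_inf _ _ _ T.subtype_injective, hmapH, Subgroup.map_bot] at this
    exact this

end Cfsg.Agent.Lib.Helper7
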