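import Cfsg.Agent.Lib.Helper7.F42A2T0
import Cfsg.Agent.Lib.Helper7.F42A2T1
import Cfsg.Agent.Lib.Helper7.F42A2T2
import Cfsg.Agent.Lib.Helper7.F42A2T3
import Cfsg.Agent.Lib.Helper7.F42A2R
import Cfsg.Agent.Lib.Helper7.MGenC

/-! # The multiplier of the Chevalley group of type F4 over the field of two elements, the table of the orthogonal subgroup: the certificate of the enumeration of the cosets (generated) -/

set_option autoImplicit false

namespace Cfsg.Agent.Lib.Helper7.F42A2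

open Cfsg.Agent.Lib.Helper7.MG Cfsg.Agent.Lib.Helper7.HSMult

/-- the part of the table that contains a row -/
noncomputable def rowSel (a : ℕ) : ℕ := (cond (Nat.beq (Nat.land a 1) 0) (cond (Nat.beq (Nat.land a 2) 0) (cond (Nat.beq (Nat.land a 4) 0) (cond (Nat.beq (Nat.land a 8) 0) (cond (Nat.beq (Nat.land a 16) 0) (cond (Nat.beq (Nat.land a 32) 0) rl0 rl32) (cond (Nat.beq (Nat.land a 32) 0) rl16 rl48)) (cond (Nat.beq (Nat.land a 16) 0) (cond (Nat.beq (Nat.land a 32) 0) rl8 rl40) (cond (Nat.beq (Nat.land a 32) 0) rl24 rl56))) (cond (Nat.beq (Nat.land a 8) 0) (cond (Nat.beq (Nat.land a 16) 0) (cond (Nat.beq (Nat.land a 32) 0) rl4 rl36) (cond (Nat.beq (Nat.land a 32) 0) rl20 rl52)) (cond (Nat.beq (Nat.land a 16) 0) (cond (Nat.beq (Nat.land a 32) 0) rl12 rl44) (cond (Nat.beq (Nat.land a 32) 0) rl28 rl60)))) (cond (Nat.beq (Nat.land a 4) 0) (cond (Nat.beq (Nat.land a 8) 0) (cond (Nat.beq (Nat.land a 16) 0) (cond (Nat.beq (Nat.land a 32) 0) rl2 rl34)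 (cond (Nat.beq (Nat.land a 32) 0) rl18 rl50)) (cond (Nat.beq (Nat.land a 16) 0) (cond (Nat.beq (Nat.land a 32) 0) rl10 rl42) (cond (Nat.beq (Nat.land a 32) 0) rl26 rl58))) (cond (Nat.beq (Nat.land a 8) 0) (cond (Nat.beq (Nat.land a 16) 0) (cond (Nat.beq (Nat.land a 32) 0) rl6 rl38) (cond (Nat.beq (Nat.land a 32) 0) rl22 rl54)) (cond (Nat.beq (Nat.land a 16) 0) (cond (Nat.beq (Nat.land a 32) 0) rl14 rl46) (cond (Nat.beq (Nat.land a 32) 0) rl30 rl62))))) (cond (Nat.beq (Nat.land a 2) 0) (cond (Nat.beq (Nat.land a 4) 0) (cond (Nat.beq (Nat.land a 8) 0) (cond (Nat.beq (Nat.land a 16) 0) (cond (Nat.beq (Nat.land a 32) 0) rl1 rl33) (cond (Nat.beq (Nat.land a 32) 0) rl17 rl49)) (cond (Nat.beq (Nat.land a 16) 0) (cond (Nat.beq (Nat.land a 32) 0) rl9 rl41) (cond (Nat.beq (Nat.land a 32) 0) rl25 rl57))) (cond (Nat.beq (Nat.land a 8) 0) (cond (Nat.beq (Nat.land a 16) 0) (cond (Nat.beq (Nat.land a 32) 0) rl5 rl37) (cond (Nat.beq (Nat.land a 32) 0) rl21 rl53))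 (cond (Nat.beq (Nat.land a 16) 0) (cond (Nat.beq (Nat.land a 32) 0) rl13 rl45) (cond (Nat.beq (Nat.land a 32) 0) rl29 rl61)))) (cond (Nat.beq (Nat.land a 4) 0) (cond (Nat.beq (Nat.land a 8) 0) (cond (Nat.beq (Nat.land a 16) 0) (cond (Nat.beq (Nat.land a 32) 0) rl3 rl35) (cond (Nat.beq (Nat.land a 32) 0) rl19 rl51)) (cond (Nat.beq (Nat.land a 16) 0) (cond (Nat.beq (Nat.land a 32) 0) rl11 rl43) (cond (Nat.beq (Nat.land a 32) 0) rl27 rl59))) (cond (Nat.beq (Nat.land a 8) 0) (cond (Nat.beq (Nat.land a 16) 0) (cond (Nat.beq (Nat.land a 32) 0) rl7 rl39) (cond (Nat.beq (Nat.land a 32) 0) rl23 rl55)) (cond (Nat.beq (Nat.land a 16) 0) (cond (Nat.beq (Nat.land a 32) 0) rl15 rl47) (cond (Nat.beq (Nat.land a 32) 0) rl31 rl63))))))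

/-- a row of the table -/
noncomputable def rowOf (a : ℕ) : ℕ :=
  strictN a fun a' => Nat.shiftRight (rowSel a') (Nat.mul 1668 (Nat.shiftRight a' 6))

/-- a word -/
noncomputable def wordOf (i : ℕ) : List ℕ :=
  strictN (Nat.land (Nat.shiftRight relP (Nat.mul 296 i)) 127314748520905380391777855525586135065716774604121015664758778084648831235208544136462335) fun v =>
    unp (Nat.land v 255) (Nat.shiftRight v 8)

/-- the certificate -/
noncomputable def cert : VCert where
  n := 32640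
  g := 6
  k := 11
  nW := 779
  B := 2048
  iv := fun x => Nat.xor x 1
  sub := fun x => Nat.beq x 0 || Nat.beq x 1 || Nat.beq x 2 || Nat.beq x 3
  sl := fun a x => Nat.land (Nat.shiftRight (rowOf a) (Nat.mul 274 x)) 30354201441027016733116592294117482916287606860189680019559568902170379456331382783
  pr := fun a => Nat.land (Nat.shiftRight (rowOf a) 1644) 16777215
  W := wordOf
  rhs := fun i => Nat.land (Nat.shiftRight rhsP (Nat.mul 220 i)) 1684996666696914987166688442938726917102321526408785780068975640575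
  wT := fun i => Nat.land (Nat.shiftRight wtaP (Nat.mul 32 i)) 4095
  wA := fun i => Nat.land (Nat.shiftRight wtaP (Nat.add (Nat.mul 32 i) 12)) 1048575

/-- the check of the rows from `lo` to `lo + k` -/
noncomputable def rowsOK (lo k : ℕ) : Bool := allN k fun i => allN 6 fun x => cert.slotOK (Nat.add lo i) x

/-- the check of the words -/
noncomputable def wordsOK : Bool := allN 779 fun i => cert.wordOK i

end Cfsg.Agent.Lib.Helper7.F42A2
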