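import Cfsg.Agent.Lib.Helper7.F42A2C

/-! # The multiplier of the Chevalley group of type F4 over the field of two elements, the table of the orthogonal subgroup: the check of the rows 960 to 1919 of the certificate (generated) -/

set_option autoImplicit false
set_option maxRecDepth 100000

namespace Cfsg.Agent.Lib.Helper7.F42A2

theorem rows_ok_8 : rowsOK 960 120 = true := by decide +kernel

theorem rows_ok_9 : rowsOK 1080 120 = true := by decide +kernel

theorem rows_ok_10 : rowsOK 1200 120 = true := by decide +kernel

theorem rows_ok_11 : rowsOK 1320 120 = true := by decide +kernel

theorem rows_ok_12 : rowsOK 1440 120 = true := by decide +kernel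

theorem rows_ok_13 : rowsOK 1560 120 = true := by decide +kernel

theorem rows_ok_14 : rowsOK 1680 120 = true := by decide +kernel

theorem rows_ok_15 : rowsOK 1800 120 = true := by decide +kernel

end Cfsg.Agent.Lib.Helper7.F42A2
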