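import Cfsg.Agent.Lib.Helper7.F42A2C

/-! # The multiplier of the Chevalley group of type F4 over the field of two elements, the table of the orthogonal subgroup: the check of the rows 1920 to 2879 of the certificate (generated) -/

set_option autoImplicit false
set_option maxRecDepth 100000

namespace Cfsg.Agent.Lib.Helper7.F42A2

theorem rows_ok_16 : rowsOK 1920 120 = true := by decide +kernel

theorem rows_ok_17 : rowsOK 2040 120 = true := by decide +kernel

theorem rows_ok_18 : rowsOK 2160 120 = true := by decide +kernel

theorem rows_ok_19 : rowsOK 2280 120 = true := by decide +kernel

theorem rows_ok_20 : rowsOK 2400 120 = true := by decide +kernel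

theorem rows_ok_21 : rowsOK 2520 120 = true := by decide +kernel

theorem rows_ok_22 : rowsOK 2640 120 = true := by decide +kernel

theorem rows_ok_23 : rowsOK 2760 120 = true := by decide +kernel

end Cfsg.Agent.Lib.Helper7.F42A2
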