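import Cfsg.Agent.Lib.Helper7.F42A2C

/-! # The multiplier of the Chevalley group of type F4 over the field of two elements, the table of the orthogonal subgroup: the check of the rows 2880 to 3839 of the certificate (generated) -/

set_option autoImplicit false
set_option maxRecDepth 100000

namespace Cfsg.Agent.Lib.Helper7.F42A2

theorem rows_ok_24 : rowsOK 2880 120 = true := by decide +kernel

theorem rows_ok_25 : rowsOK 3000 120 = true := by decide +kernel

theorem rows_ok_26 : rowsOK 3120 120 = true := by decide +kernel

theorem rows_ok_27 : rowsOK 3240 120 = true := by decide +kernel

theorem rows_ok_28 : rowsOK 3360 120 = true := by decide +kernel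

theorem rows_ok_29 : rowsOK 3480 120 = true := by decide +kernel

theorem rows_ok_30 : rowsOK 3600 120 = true := by decide +kernel

theorem rows_ok_31 : rowsOK 3720 120 = true := by decide +kernel

end Cfsg.Agent.Lib.Helper7.F42A2
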