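import Cfsg.Agent.Lib.Helper7.F42A2C
import Cfsg.Agent.Lib.Helper7.F42A2K3

/-! # The multiplier of the Chevalley group of type F4 over the field of two elements, the table of the orthogonal subgroup: the check of the rows 10560 to 11519 of the certificate (generated) -/

set_option autoImplicit false
set_option maxRecDepth 100000

namespace Cfsg.Agent.Lib.Helper7.F42A2

theorem rows_ok_88 : rowsOK 10560 120 = true := by decide +kernel

theorem rows_ok_89 : rowsOK 10680 120 = true := by decide +kernel

theorem rows_ok_90 : rowsOK 10800 120 = true := by decide +kernel

theorem rows_ok_91 : rowsOK 10920 120 = true := by decide +kernel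

theorem rows_ok_92 : rowsOK 11040 120 = true := by decide +kernel

theorem rows_ok_93 : rowsOK 11160 120 = true := by decide +kernel

theorem rows_ok_94 : rowsOK 11280 120 = true := by decide +kernel

theorem rows_ok_95 : rowsOK 11400 120 = true := by decide +kernel

end Cfsg.Agent.Lib.Helper7.F42A2
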