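import Cfsg.Agent.Lib.Helper7.F42A2C

/-! # The multiplier of the Chevalley group of type F4 over the field of two elements, the table of the orthogonal subgroup: the check of the rows 3840 to 4799 of the certificate (generated) -/

set_option autoImplicit false
set_option maxRecDepth 100000

namespace Cfsg.Agent.Lib.Helper7.F42A2

theorem rows_ok_32 : rowsOK 3840 120 = true := by decide +kernel

theorem rows_ok_33 : rowsOK 3960 120 = true := by decide +kernel

theorem rows_ok_34 : rowsOK 4080 120 = true := by decide +kernel

theorem rows_ok_35 : rowsOK 4200 120 = true := by decide +kernel

theorem rows_ok_36 : rowsOK 4320 120 = true := by decide +kernel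

theorem rows_ok_37 : rowsOK 4440 120 = true := by decide +kernel

theorem rows_ok_38 : rowsOK 4560 120 = true := by decide +kernel

theorem rows_ok_39 : rowsOK 4680 120 = true := by decide +kernel

end Cfsg.Agent.Lib.Helper7.F42A2
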