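import Cfsg.Agent.Lib.Helper7.F42A2C
import Cfsg.Agent.Lib.Helper7.F42A2K4

/-! # The multiplier of the Chevalley group of type F4 over the field of two elements, the table of the orthogonal subgroup: the check of the rows 11520 to 12479 of the certificate (generated) -/

set_option autoImplicit false
set_option maxRecDepth 100000

namespace Cfsg.Agent.Lib.Helper7.F42A2

theorem rows_ok_96 : rowsOK 11520 120 = true := by decide +kernel

theorem rows_ok_97 : rowsOK 11640 120 = true := by decide +kernel

theorem rows_ok_98 : rowsOK 11760 120 = true := by decide +kernel

theorem rows_ok_99 : rowsOK 11880 120 = true := by decide +kernel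

theorem rows_ok_100 : rowsOK 12000 120 = true := by decide +kernel

theorem rows_ok_101 : rowsOK 12120 120 = true := by decide +kernel

theorem rows_ok_102 : rowsOK 12240 120 = true := by decide +kernel

theorem rows_ok_103 : rowsOK 12360 120 = true := by decide +kernel

end Cfsg.Agent.Lib.Helper7.F42A2
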