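import Cfsg.Agent.Lib.Helper7.F42A2C

/-! # The multiplier of the Chevalley group of type F4 over the field of two elements, the table of the orthogonal subgroup: the check of the rows 5760 to 6719 of the certificate (generated) -/

set_option autoImplicit false
set_option maxRecDepth 100000

namespace Cfsg.Agent.Lib.Helper7.F42A2

theorem rows_ok_48 : rowsOK 5760 120 = true := by decide +kernel

theorem rows_ok_49 : rowsOK 5880 120 = true := by decide +kernel

theorem rows_ok_50 : rowsOK 6000 120 = true := by decide +kernel

theorem rows_ok_51 : rowsOK 6120 120 = true := by decide +kernel

theorem rows_ok_52 : rowsOK 6240 120 = true := by decide +kernel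

theorem rows_ok_53 : rowsOK 6360 120 = true := by decide +kernel

theorem rows_ok_54 : rowsOK 6480 120 = true := by decide +kernel

theorem rows_ok_55 : rowsOK 6600 120 = true := by decide +kernel

end Cfsg.Agent.Lib.Helper7.F42A2
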