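import Cfsg.Agent.Lib.Helper7.F42A2C
import Cfsg.Agent.Lib.Helper7.F42A2K6

/-! # The multiplier of the Chevalley group of type F4 over the field of two elements, the table of the orthogonal subgroup: the check of the rows 13440 to 14399 of the certificate (generated) -/

set_option autoImplicit false
set_option maxRecDepth 100000

namespace Cfsg.Agent.Lib.Helper7.F42A2

theorem rows_ok_112 : rowsOK 13440 120 = true := by decide +kernel

theorem rows_ok_113 : rowsOK 13560 120 = true := by decide +kernel

theorem rows_ok_114 : rowsOK 13680 120 = true := by decide +kernel

theorem rows_ok_115 : rowsOK 13800 120 = true := by decide +kernel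

theorem rows_ok_116 : rowsOK 13920 120 = true := by decide +kernel

theorem rows_ok_117 : rowsOK 14040 120 = true := by decide +kernel

theorem rows_ok_118 : rowsOK 14160 120 = true := by decide +kernel

theorem rows_ok_119 : rowsOK 14280 120 = true := by decide +kernel

end Cfsg.Agent.Lib.Helper7.F42A2
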