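import Cfsg.Agent.Lib.Helper7.F42A2C

/-! # The multiplier of the Chevalley group of type F4 over the field of two elements, the table of the orthogonal subgroup: the check of the rows 6720 to 7679 of the certificate (generated) -/

set_option autoImplicit false
set_option maxRecDepth 100000

namespace Cfsg.Agent.Lib.Helper7.F42A2

theorem rows_ok_56 : rowsOK 6720 120 = true := by decide +kernel

theorem rows_ok_57 : rowsOK 6840 120 = true := by decide +kernel

theorem rows_ok_58 : rowsOK 6960 120 = true := by decide +kernel

theorem rows_ok_59 : rowsOK 7080 120 = true := by decide +kernel

theorem rows_ok_60 : rowsOK 7200 120 = true := by decide +kernel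

theorem rows_ok_61 : rowsOK 7320 120 = true := by decide +kernel

theorem rows_ok_62 : rowsOK 7440 120 = true := by decide +kernel

theorem rows_ok_63 : rowsOK 7560 120 = true := by decide +kernel

end Cfsg.Agent.Lib.Helper7.F42A2
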