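import Cfsg.Agent.Lib.Helper7.F42A2C
import Cfsg.Agent.Lib.Helper7.F42A2K7

/-! # The multiplier of the Chevalley group of type F4 over the field of two elements, the table of the orthogonal subgroup: the check of the rows 14400 to 15359 of the certificate (generated) -/

set_option autoImplicit false
set_option maxRecDepth 100000

namespace Cfsg.Agent.Lib.Helper7.F42A2

theorem rows_ok_120 : rowsOK 14400 120 = true := by decide +kernel

theorem rows_ok_121 : rowsOK 14520 120 = true := by decide +kernel

theorem rows_ok_122 : rowsOK 14640 120 = true := by decide +kernel

theorem rows_ok_123 : rowsOK 14760 120 = true := by decide +kernel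

theorem rows_ok_124 : rowsOK 14880 120 = true := by decide +kernel

theorem rows_ok_125 : rowsOK 15000 120 = true := by decide +kernel

theorem rows_ok_126 : rowsOK 15120 120 = true := by decide +kernel

theorem rows_ok_127 : rowsOK 15240 120 = true := by decide +kernel

end Cfsg.Agent.Lib.Helper7.F42A2
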