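import Cfsg.Agent.Lib.Helper7.F42A2C

/-! # The multiplier of the Chevalley group of type F4 over the field of two elements, the table of the orthogonal subgroup: the check of the rows 0 to 959 of the certificate (generated) -/

set_option autoImplicit false
set_option maxRecDepth 100000

namespace Cfsg.Agent.Lib.Helper7.F42A2

theorem rows_ok_0 : rowsOK 0 120 = true := by decide +kernel

theorem rows_ok_1 : rowsOK 120 120 = true := by decide +kernel

theorem rows_ok_2 : rowsOK 240 120 = true := by decide +kernel

theorem rows_ok_3 : rowsOK 360 120 = true := by decide +kernel

theorem rows_ok_4 : rowsOK 480 120 = true := by decide +kernel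

theorem rows_ok_5 : rowsOK 600 120 = true := by decide +kernel

theorem rows_ok_6 : rowsOK 720 120 = true := by decide +kernel

theorem rows_ok_7 : rowsOK 840 120 = true := by decide +kernel

end Cfsg.Agent.Lib.Helper7.F42A2
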