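import Cfsg.Agent.Lib.Helper7.F42A2C
import Cfsg.Agent.Lib.Helper7.F42A2K0

/-! # The multiplier of the Chevalley group of type F4 over the field of two elements, the table of the orthogonal subgroup: the check of the rows 7680 to 8639 of the certificate (generated) -/

set_option autoImplicit false
set_option maxRecDepth 100000

namespace Cfsg.Agent.Lib.Helper7.F42A2

theorem rows_ok_64 : rowsOK 7680 120 = true := by decide +kernel

theorem rows_ok_65 : rowsOK 7800 120 = true := by decide +kernel

theorem rows_ok_66 : rowsOK 7920 120 = true := by decide +kernel

theorem rows_ok_67 : rowsOK 8040 120 = true := by decide +kernel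

theorem rows_ok_68 : rowsOK 8160 120 = true := by decide +kernel

theorem rows_ok_69 : rowsOK 8280 120 = true := by decide +kernel

theorem rows_ok_70 : rowsOK 8400 120 = true := by decide +kernel

theorem rows_ok_71 : rowsOK 8520 120 = true := by decide +kernel

end Cfsg.Agent.Lib.Helper7.F42A2
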