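import Cfsg.Agent.Lib.Helper7.F42A2C
import Cfsg.Agent.Lib.Helper7.F42A2K8

/-! # The multiplier of the Chevalley group of type F4 over the field of two elements, the table of the orthogonal subgroup: the check of the rows 15360 to 16319 of the certificate (generated) -/

set_option autoImplicit false
set_option maxRecDepth 100000

namespace Cfsg.Agent.Lib.Helper7.F42A2

theorem rows_ok_128 : rowsOK 15360 120 = true := by decide +kernel

theorem rows_ok_129 : rowsOK 15480 120 = true := by decide +kernel

theorem rows_ok_130 : rowsOK 15600 120 = true := by decide +kernel

theorem rows_ok_131 : rowsOK 15720 120 = true := by decide +kernel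

theorem rows_ok_132 : rowsOK 15840 120 = true := by decide +kernel

theorem rows_ok_133 : rowsOK 15960 120 = true := by decide +kernel

theorem rows_ok_134 : rowsOK 16080 120 = true := by decide +kernel

theorem rows_ok_135 : rowsOK 16200 120 = true := by decide +kernel

end Cfsg.Agent.Lib.Helper7.F42A2
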