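import Cfsg.Agent.Lib.Helper7.F42A2C
import Cfsg.Agent.Lib.Helper7.F42A2K1

/-! # The multiplier of the Chevalley group of type F4 over the field of two elements, the table of the orthogonal subgroup: the check of the rows 8640 to 9599 of the certificate (generated) -/

set_option autoImplicit false
set_option maxRecDepth 100000

namespace Cfsg.Agent.Lib.Helper7.F42A2

theorem rows_ok_72 : rowsOK 8640 120 = true := by decide +kernel

theorem rows_ok_73 : rowsOK 8760 120 = true := by decide +kernel

theorem rows_ok_74 : rowsOK 8880 120 = true := by decide +kernel

theorem rows_ok_75 : rowsOK 9000 120 = true := by decide +kernel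

theorem rows_ok_76 : rowsOK 9120 120 = true := by decide +kernel

theorem rows_ok_77 : rowsOK 9240 120 = true := by decide +kernel

theorem rows_ok_78 : rowsOK 9360 120 = true := by decide +kernel

theorem rows_ok_79 : rowsOK 9480 120 = true := by decide +kernel

end Cfsg.Agent.Lib.Helper7.F42A2
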