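import Cfsg.Agent.Lib.Helper7.F42A2C
import Cfsg.Agent.Lib.Helper7.F42A2K9

/-! # The multiplier of the Chevalley group of type F4 over the field of two elements, the table of the orthogonal subgroup: the check of the rows 16320 to 17279 of the certificate (generated) -/

set_option autoImplicit false
set_option maxRecDepth 100000

namespace Cfsg.Agent.Lib.Helper7.F42A2

theorem rows_ok_136 : rowsOK 16320 120 = true := by decide +kernel

theorem rows_ok_137 : rowsOK 16440 120 = true := by decide +kernel

theorem rows_ok_138 : rowsOK 16560 120 = true := by decide +kernel

theorem rows_ok_139 : rowsOK 16680 120 = true := by decide +kernel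

theorem rows_ok_140 : rowsOK 16800 120 = true := by decide +kernel

theorem rows_ok_141 : rowsOK 16920 120 = true := by decide +kernel

theorem rows_ok_142 : rowsOK 17040 120 = true := by decide +kernel

theorem rows_ok_143 : rowsOK 17160 120 = true := by decide +kernel

end Cfsg.Agent.Lib.Helper7.F42A2
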