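import Cfsg.Agent.Lib.Helper7.F42A2C
import Cfsg.Agent.Lib.Helper7.F42A2K10

/-! # The multiplier of the Chevalley group of type F4 over the field of two elements, the table of the orthogonal subgroup: the check of the rows 17280 to 18239 of the certificate (generated) -/

set_option autoImplicit false
set_option maxRecDepth 100000

namespace Cfsg.Agent.Lib.Helper7.F42A2

theorem rows_ok_144 : rowsOK 17280 120 = true := by decide +kernel

theorem rows_ok_145 : rowsOK 17400 120 = true := by decide +kernel

theorem rows_ok_146 : rowsOK 17520 120 = true := by decide +kernel

theorem rows_ok_147 : rowsOK 17640 120 = true := by decide +kernel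

theorem rows_ok_148 : rowsOK 17760 120 = true := by decide +kernel

theorem rows_ok_149 : rowsOK 17880 120 = true := by decide +kernel

theorem rows_ok_150 : rowsOK 18000 120 = true := by decide +kernel

theorem rows_ok_151 : rowsOK 18120 120 = true := by decide +kernel

end Cfsg.Agent.Lib.Helper7.F42A2
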