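import Cfsg.Agent.Lib.Helper7.F42A2C
import Cfsg.Agent.Lib.Helper7.F42A2K11

/-! # The multiplier of the Chevalley group of type F4 over the field of two elements, the table of the orthogonal subgroup: the check of the rows 18240 to 19199 of the certificate (generated) -/

set_option autoImplicit false
set_option maxRecDepth 100000

namespace Cfsg.Agent.Lib.Helper7.F42A2

theorem rows_ok_152 : rowsOK 18240 120 = true := by decide +kernel

theorem rows_ok_153 : rowsOK 18360 120 = true := by decide +kernel

theorem rows_ok_154 : rowsOK 18480 120 = true := by decide +kernel

theorem rows_ok_155 : rowsOK 18600 120 = true := by decide +kernel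

theorem rows_ok_156 : rowsOK 18720 120 = true := by decide +kernel

theorem rows_ok_157 : rowsOK 18840 120 = true := by decide +kernel

theorem rows_ok_158 : rowsOK 18960 120 = true := by decide +kernel

theorem rows_ok_159 : rowsOK 19080 120 = true := by decide +kernel

end Cfsg.Agent.Lib.Helper7.F42A2
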