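import Cfsg.Agent.Lib.Helper7.F42A2C

/-! # The multiplier of the Chevalley group of type F4 over the field of two elements, the table of the orthogonal subgroup: the check of the rows 4800 to 5759 of the certificate (generated) -/

set_option autoImplicit false
set_option maxRecDepth 100000

namespace Cfsg.Agent.Lib.Helper7.F42A2

theorem rows_ok_40 : rowsOK 4800 120 = true := by decide +kernel

theorem rows_ok_41 : rowsOK 4920 120 = true := by decide +kernel

theorem rows_ok_42 : rowsOK 5040 120 = true := by decide +kernel

theorem rows_ok_43 : rowsOK 5160 120 = true := by decide +kernel

theorem rows_ok_44 : rowsOK 5280 120 = true := by decide +kernel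

theorem rows_ok_45 : rowsOK 5400 120 = true := by decide +kernel

theorem rows_ok_46 : rowsOK 5520 120 = true := by decide +kernel

theorem rows_ok_47 : rowsOK 5640 120 = true := by decide +kernel

end Cfsg.Agent.Lib.Helper7.F42A2
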