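import Cfsg.Agent.Lib.Helper7.F42A2C
import Cfsg.Agent.Lib.Helper7.F42A2K5

/-! # The multiplier of the Chevalley group of type F4 over the field of two elements, the table of the orthogonal subgroup: the check of the rows 12480 to 13439 of the certificate (generated) -/

set_option autoImplicit false
set_option maxRecDepth 100000

namespace Cfsg.Agent.Lib.Helper7.F42A2

theorem rows_ok_104 : rowsOK 12480 120 = true := by decide +kernel

theorem rows_ok_105 : rowsOK 12600 120 = true := by decide +kernel

theorem rows_ok_106 : rowsOK 12720 120 = true := by decide +kernel

theorem rows_ok_107 : rowsOK 12840 120 = true := by decide +kernel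

theorem rows_ok_108 : rowsOK 12960 120 = true := by decide +kernel

theorem rows_ok_109 : rowsOK 13080 120 = true := by decide +kernel

theorem rows_ok_110 : rowsOK 13200 120 = true := by decide +kernel

theorem rows_ok_111 : rowsOK 13320 120 = true := by decide +kernel

end Cfsg.Agent.Lib.Helper7.F42A2
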