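import Cfsg.Agent.Lib.Helper7.F42A2C
import Cfsg.Agent.Lib.Helper7.F42A2K13

/-! # The multiplier of the Chevalley group of type F4 over the field of two elements, the table of the orthogonal subgroup: the check of the rows 20160 to 21119 of the certificate (generated) -/

set_option autoImplicit false
set_option maxRecDepth 100000

namespace Cfsg.Agent.Lib.Helper7.F42A2

theorem rows_ok_168 : rowsOK 20160 120 = true := by decide +kernel

theorem rows_ok_169 : rowsOK 20280 120 = true := by decide +kernel

theorem rows_ok_170 : rowsOK 20400 120 = true := by decide +kernel

theorem rows_ok_171 : rowsOK 20520 120 = true := by decide +kernel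

theorem rows_ok_172 : rowsOK 20640 120 = true := by decide +kernel

theorem rows_ok_173 : rowsOK 20760 120 = true := by decide +kernel

theorem rows_ok_174 : rowsOK 20880 120 = true := by decide +kernel

theorem rows_ok_175 : rowsOK 21000 120 = true := by decide +kernel

end Cfsg.Agent.Lib.Helper7.F42A2
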