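import Cfsg.Agent.Lib.Helper7.F42A2C
import Cfsg.Agent.Lib.Helper7.F42A2K14

/-! # The multiplier of the Chevalley group of type F4 over the field of two elements, the table of the orthogonal subgroup: the check of the rows 21120 to 22079 of the certificate (generated) -/

set_option autoImplicit false
set_option maxRecDepth 100000

namespace Cfsg.Agent.Lib.Helper7.F42A2

theorem rows_ok_176 : rowsOK 21120 120 = true := by decide +kernel

theorem rows_ok_177 : rowsOK 21240 120 = true := by decide +kernel

theorem rows_ok_178 : rowsOK 21360 120 = true := by decide +kernel

theorem rows_ok_179 : rowsOK 21480 120 = true := by decide +kernel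

theorem rows_ok_180 : rowsOK 21600 120 = true := by decide +kernel

theorem rows_ok_181 : rowsOK 21720 120 = true := by decide +kernel

theorem rows_ok_182 : rowsOK 21840 120 = true := by decide +kernel

theorem rows_ok_183 : rowsOK 21960 120 = true := by decide +kernel

end Cfsg.Agent.Lib.Helper7.F42A2
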