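import Cfsg.Agent.Lib.Helper7.F42A2C
import Cfsg.Agent.Lib.Helper7.F42A2K15

/-! # The multiplier of the Chevalley group of type F4 over the field of two elements, the table of the orthogonal subgroup: the check of the rows 22080 to 23039 of the certificate (generated) -/

set_option autoImplicit false
set_option maxRecDepth 100000

namespace Cfsg.Agent.Lib.Helper7.F42A2

theorem rows_ok_184 : rowsOK 22080 120 = true := by decide +kernel

theorem rows_ok_185 : rowsOK 22200 120 = true := by decide +kernel

theorem rows_ok_186 : rowsOK 22320 120 = true := by decide +kernel

theorem rows_ok_187 : rowsOK 22440 120 = true := by decide +kernel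

theorem rows_ok_188 : rowsOK 22560 120 = true := by decide +kernel

theorem rows_ok_189 : rowsOK 22680 120 = true := by decide +kernel

theorem rows_ok_190 : rowsOK 22800 120 = true := by decide +kernel

theorem rows_ok_191 : rowsOK 22920 120 = true := by decide +kernel

end Cfsg.Agent.Lib.Helper7.F42A2
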