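import Cfsg.Agent.Lib.Helper7.F42A2C
import Cfsg.Agent.Lib.Helper7.F42A2K16

/-! # The multiplier of the Chevalley group of type F4 over the field of two elements, the table of the orthogonal subgroup: the check of the rows 23040 to 23999 of the certificate (generated) -/

set_option autoImplicit false
set_option maxRecDepth 100000

namespace Cfsg.Agent.Lib.Helper7.F42A2

theorem rows_ok_192 : rowsOK 23040 120 = true := by decide +kernel

theorem rows_ok_193 : rowsOK 23160 120 = true := by decide +kernel

theorem rows_ok_194 : rowsOK 23280 120 = true := by decide +kernel

theorem rows_ok_195 : rowsOK 23400 120 = true := by decide +kernel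

theorem rows_ok_196 : rowsOK 23520 120 = true := by decide +kernel

theorem rows_ok_197 : rowsOK 23640 120 = true := by decide +kernel

theorem rows_ok_198 : rowsOK 23760 120 = true := by decide +kernel

theorem rows_ok_199 : rowsOK 23880 120 = true := by decide +kernel

end Cfsg.Agent.Lib.Helper7.F42A2
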