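import Cfsg.Agent.Lib.Helper7.F42A2C
import Cfsg.Agent.Lib.Helper7.F42A2K17

/-! # The multiplier of the Chevalley group of type F4 over the field of two elements, the table of the orthogonal subgroup: the check of the rows 24000 to 24959 of the certificate (generated) -/

set_option autoImplicit false
set_option maxRecDepth 100000

namespace Cfsg.Agent.Lib.Helper7.F42A2

theorem rows_ok_200 : rowsOK 24000 120 = true := by decide +kernel

theorem rows_ok_201 : rowsOK 24120 120 = true := by decide +kernel

theorem rows_ok_202 : rowsOK 24240 120 = true := by decide +kernel

theorem rows_ok_203 : rowsOK 24360 120 = true := by decide +kernel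

theorem rows_ok_204 : rowsOK 24480 120 = true := by decide +kernel

theorem rows_ok_205 : rowsOK 24600 120 = true := by decide +kernel

theorem rows_ok_206 : rowsOK 24720 120 = true := by decide +kernel

theorem rows_ok_207 : rowsOK 24840 120 = true := by decide +kernel

end Cfsg.Agent.Lib.Helper7.F42A2
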