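import Cfsg.Agent.Lib.Helper7.F42A2C
import Cfsg.Agent.Lib.Helper7.F42A2K18

/-! # The multiplier of the Chevalley group of type F4 over the field of two elements, the table of the orthogonal subgroup: the check of the rows 24960 to 25919 of the certificate (generated) -/

set_option autoImplicit false
set_option maxRecDepth 100000

namespace Cfsg.Agent.Lib.Helper7.F42A2

theorem rows_ok_208 : rowsOK 24960 120 = true := by decide +kernel

theorem rows_ok_209 : rowsOK 25080 120 = true := by decide +kernel

theorem rows_ok_210 : rowsOK 25200 120 = true := by decide +kernel

theorem rows_ok_211 : rowsOK 25320 120 = true := by decide +kernel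

theorem rows_ok_212 : rowsOK 25440 120 = true := by decide +kernel

theorem rows_ok_213 : rowsOK 25560 120 = true := by decide +kernel

theorem rows_ok_214 : rowsOK 25680 120 = true := by decide +kernel

theorem rows_ok_215 : rowsOK 25800 120 = true := by decide +kernel

end Cfsg.Agent.Lib.Helper7.F42A2
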