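import Cfsg.Agent.Lib.Helper7.F42A2C
import Cfsg.Agent.Lib.Helper7.F42A2K20

/-! # The multiplier of the Chevalley group of type F4 over the field of two elements, the table of the orthogonal subgroup: the check of the rows 26880 to 27839 of the certificate (generated) -/

set_option autoImplicit false
set_option maxRecDepth 100000

namespace Cfsg.Agent.Lib.Helper7.F42A2

theorem rows_ok_224 : rowsOK 26880 120 = true := by decide +kernel

theorem rows_ok_225 : rowsOK 27000 120 = true := by decide +kernel

theorem rows_ok_226 : rowsOK 27120 120 = true := by decide +kernel

theorem rows_ok_227 : rowsOK 27240 120 = true := by decide +kernel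

theorem rows_ok_228 : rowsOK 27360 120 = true := by decide +kernel

theorem rows_ok_229 : rowsOK 27480 120 = true := by decide +kernel

theorem rows_ok_230 : rowsOK 27600 120 = true := by decide +kernel

theorem rows_ok_231 : rowsOK 27720 120 = true := by decide +kernel

end Cfsg.Agent.Lib.Helper7.F42A2
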