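import Cfsg.Agent.Lib.Helper7.F42A2C
import Cfsg.Agent.Lib.Helper7.F42A2K21

/-! # The multiplier of the Chevalley group of type F4 over the field of two elements, the table of the orthogonal subgroup: the check of the rows 27840 to 28799 of the certificate (generated) -/

set_option autoImplicit false
set_option maxRecDepth 100000

namespace Cfsg.Agent.Lib.Helper7.F42A2

theorem rows_ok_232 : rowsOK 27840 120 = true := by decide +kernel

theorem rows_ok_233 : rowsOK 27960 120 = true := by decide +kernel

theorem rows_ok_234 : rowsOK 28080 120 = true := by decide +kernel

theorem rows_ok_235 : rowsOK 28200 120 = true := by decide +kernel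

theorem rows_ok_236 : rowsOK 28320 120 = true := by decide +kernel

theorem rows_ok_237 : rowsOK 28440 120 = true := by decide +kernel

theorem rows_ok_238 : rowsOK 28560 120 = true := by decide +kernel

theorem rows_ok_239 : rowsOK 28680 120 = true := by decide +kernel

end Cfsg.Agent.Lib.Helper7.F42A2
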