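import Cfsg.Agent.Lib.Helper7.F42A2C
import Cfsg.Agent.Lib.Helper7.F42A2K22

/-! # The multiplier of the Chevalley group of type F4 over the field of two elements, the table of the orthogonal subgroup: the check of the rows 28800 to 29759 of the certificate (generated) -/

set_option autoImplicit false
set_option maxRecDepth 100000

namespace Cfsg.Agent.Lib.Helper7.F42A2

theorem rows_ok_240 : rowsOK 28800 120 = true := by decide +kernel

theorem rows_ok_241 : rowsOK 28920 120 = true := by decide +kernel

theorem rows_ok_242 : rowsOK 29040 120 = true := by decide +kernel

theorem rows_ok_243 : rowsOK 29160 120 = true := by decide +kernel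

theorem rows_ok_244 : rowsOK 29280 120 = true := by decide +kernel

theorem rows_ok_245 : rowsOK 29400 120 = true := by decide +kernel

theorem rows_ok_246 : rowsOK 29520 120 = true := by decide +kernel

theorem rows_ok_247 : rowsOK 29640 120 = true := by decide +kernel

end Cfsg.Agent.Lib.Helper7.F42A2
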