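import Cfsg.Agent.Lib.Helper7.F42A2C
import Cfsg.Agent.Lib.Helper7.F42A2K23

/-! # The multiplier of the Chevalley group of type F4 over the field of two elements, the table of the orthogonal subgroup: the check of the rows 29760 to 30719 of the certificate (generated) -/

set_option autoImplicit false
set_option maxRecDepth 100000

namespace Cfsg.Agent.Lib.Helper7.F42A2

theorem rows_ok_248 : rowsOK 29760 120 = true := by decide +kernel

theorem rows_ok_249 : rowsOK 29880 120 = true := by decide +kernel

theorem rows_ok_250 : rowsOK 30000 120 = true := by decide +kernel

theorem rows_ok_251 : rowsOK 30120 120 = true := by decide +kernel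

theorem rows_ok_252 : rowsOK 30240 120 = true := by decide +kernel

theorem rows_ok_253 : rowsOK 30360 120 = true := by decide +kernel

theorem rows_ok_254 : rowsOK 30480 120 = true := by decide +kernel

theorem rows_ok_255 : rowsOK 30600 120 = true := by decide +kernel

end Cfsg.Agent.Lib.Helper7.F42A2
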