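import Cfsg.Agent.Lib.Helper7.F42A2C
import Cfsg.Agent.Lib.Helper7.F42A2K24

/-! # The multiplier of the Chevalley group of type F4 over the field of two elements, the table of the orthogonal subgroup: the check of the rows 30720 to 31679 of the certificate (generated) -/

set_option autoImplicit false
set_option maxRecDepth 100000

namespace Cfsg.Agent.Lib.Helper7.F42A2

theorem rows_ok_256 : rowsOK 30720 120 = true := by decide +kernel

theorem rows_ok_257 : rowsOK 30840 120 = true := by decide +kernel

theorem rows_ok_258 : rowsOK 30960 120 = true := by decide +kernel

theorem rows_ok_259 : rowsOK 31080 120 = true := by decide +kernel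

theorem rows_ok_260 : rowsOK 31200 120 = true := by decide +kernel

theorem rows_ok_261 : rowsOK 31320 120 = true := by decide +kernel

theorem rows_ok_262 : rowsOK 31440 120 = true := by decide +kernel

theorem rows_ok_263 : rowsOK 31560 120 = true := by decide +kernel

end Cfsg.Agent.Lib.Helper7.F42A2
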