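import Cfsg.Agent.Lib.Helper7.F42A2K0
import Cfsg.Agent.Lib.Helper7.F42A2K1
import Cfsg.Agent.Lib.Helper7.F42A2K2
import Cfsg.Agent.Lib.Helper7.F42A2K3
import Cfsg.Agent.Lib.Helper7.F42A2K4
import Cfsg.Agent.Lib.Helper7.F42A2K5
import Cfsg.Agent.Lib.Helper7.F42A2K6
import Cfsg.Agent.Lib.Helper7.F42A2K7
import Cfsg.Agent.Lib.Helper7.F42A2K8
import Cfsg.Agent.Lib.Helper7.F42A2K9
import Cfsg.Agent.Lib.Helper7.F42A2K10
import Cfsg.Agent.Lib.Helper7.F42A2K11
import Cfsg.Agent.Lib.Helper7.F42A2K12
import Cfsg.Agent.Lib.Helper7.F42A2K13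
import Cfsg.Agent.Lib.Helper7.F42A2K14
import Cfsg.Agent.Lib.Helper7.F42A2K15
import Cfsg.Agent.Lib.Helper7.F42A2K16
import Cfsg.Agent.Lib.Helper7.F42A2K17
import Cfsg.Agent.Lib.Helper7.F42A2K18
import Cfsg.Agent.Lib.Helper7.F42A2K19
import Cfsg.Agent.Lib.Helper7.F42A2K20
import Cfsg.Agent.Lib.Helper7.F42A2K21
import Cfsg.Agent.Lib.Helper7.F42A2K22
import Cfsg.Agent.Lib.Helper7.F42A2K23
import Cfsg.Agent.Lib.Helper7.F42A2K24
import Cfsg.Agent.Lib.Helper7.F42A2K25
import Cfsg.Agent.Lib.Helper7.F42A2K26
import Cfsg.Agent.Lib.Helper7.F42A2K27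
import Cfsg.Agent.Lib.Helper7.F42A2K28
import Cfsg.Agent.Lib.Helper7.F42A2K29
import Cfsg.Agent.Lib.Helper7.F42A2K30
import Cfsg.Agent.Lib.Helper7.F42A2K31
import Cfsg.Agent.Lib.Helper7.F42A2K32
import Cfsg.Agent.Lib.Helper7.F42A2K33

/-! # The multiplier of the Chevalley group of type F4 over the field of two elements, the table of the orthogonal subgroup: all the rows and words of the certificate are checked, and the words that give the relations
between the classes are traced (generated) -/

set_option autoImplicit false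
set_option maxRecDepth 100000

namespace Cfsg.Agent.Lib.Helper7.F42A2

open Cfsg.Agent.Lib.Helper7.MG Cfsg.Agent.Lib.Helper7.HSMult

theorem rows_ok_all : ∀ k, k < 272 → rowsOK (120 * k) 120 = true
  | 0, _ => rows_ok_0
  | 1, _ => rows_ok_1
  | 2, _ => rows_ok_2
  | 3, _ => rows_ok_3
  | 4, _ => rows_ok_4
  | 5, _ => rows_ok_5
  | 6, _ => rows_ok_6
  | 7, _ => rows_ok_7
  | 8, _ => rows_ok_8
  | 9, _ => rows_ok_9
  | 10, _ => rows_ok_10
  | 11, _ => rows_ok_11
  | 12, _ => rows_ok_12
  | 13, _ => rows_ok_13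
  | 14, _ => rows_ok_14
  | 15, _ => rows_ok_15
  | 16, _ => rows_ok_16
  | 17, _ => rows_ok_17
  | 18, _ => rows_ok_18
  | 19, _ => rows_ok_19
  | 20, _ => rows_ok_20
  | 21, _ => rows_ok_21
  | 22, _ => rows_ok_22
  | 23, _ => rows_ok_23
  | 24, _ => rows_ok_24
  | 25, _ => rows_ok_25
  | 26, _ => rows_ok_26
  | 27, _ => rows_ok_27
  | 28, _ => rows_ok_28
  | 29, _ => rows_ok_29
  | 30, _ => rows_ok_30
  | 31, _ => rows_ok_31
  | 32, _ => rows_ok_32
  | 33, _ => rows_ok_33
  | 34, _ => rows_ok_34
  | 35, _ => rows_ok_35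
  | 36, _ => rows_ok_36
  | 37, _ => rows_ok_37
  | 38, _ => rows_ok_38
  | 39, _ => rows_ok_39
  | 40, _ => rows_ok_40
  | 41, _ => rows_ok_41
  | 42, _ => rows_ok_42
  | 43, _ => rows_ok_43
  | 44, _ => rows_ok_44
  | 45, _ => rows_ok_45
  | 46, _ => rows_ok_46
  | 47, _ => rows_ok_47
  | 48, _ => rows_ok_48
  | 49, _ => rows_ok_49
  | 50, _ => rows_ok_50
  | 51, _ => rows_ok_51
  | 52, _ => rows_ok_52
  | 53, _ => rows_ok_53
  | 54, _ => rows_ok_54
  | 55, _ => rows_ok_55
  | 56, _ => rows_ok_56
  | 57, _ => rows_ok_57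
  | 58, _ => rows_ok_58
  | 59, _ => rows_ok_59
  | 60, _ => rows_ok_60
  | 61, _ => rows_ok_61
  | 62, _ => rows_ok_62
  | 63, _ => rows_ok_63
  | 64, _ => rows_ok_64
  | 65, _ => rows_ok_65
  | 66, _ => rows_ok_66
  | 67, _ => rows_ok_67
  | 68, _ => rows_ok_68
  | 69, _ => rows_ok_69
  | 70, _ => rows_ok_70
  | 71, _ => rows_ok_71
  | 72, _ => rows_ok_72
  | 73, _ => rows_ok_73
  | 74, _ => rows_ok_74
  | 75, _ => rows_ok_75
  | 76, _ => rows_ok_76
  | 77, _ => rows_ok_77
  | 78, _ => rows_ok_78
  | 79, _ => rows_ok_79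
  | 80, _ => rows_ok_80
  | 81, _ => rows_ok_81
  | 82, _ => rows_ok_82
  | 83, _ => rows_ok_83
  | 84, _ => rows_ok_84
  | 85, _ => rows_ok_85
  | 86, _ => rows_ok_86
  | 87, _ => rows_ok_87
  | 88, _ => rows_ok_88
  | 89, _ => rows_ok_89
  | 90, _ => rows_ok_90
  | 91, _ => rows_ok_91
  | 92, _ => rows_ok_92
  | 93, _ => rows_ok_93
  | 94, _ => rows_ok_94
  | 95, _ => rows_ok_95
  | 96, _ => rows_ok_96
  | 97, _ => rows_ok_97
  | 98, _ => rows_ok_98
  | 99, _ => rows_ok_99
  | 100, _ => rows_ok_100
  | 101, _ => rows_ok_101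
  | 102, _ => rows_ok_102
  | 103, _ => rows_ok_103
  | 104, _ => rows_ok_104
  | 105, _ => rows_ok_105
  | 106, _ => rows_ok_106
  | 107, _ => rows_ok_107
  | 108, _ => rows_ok_108
  | 109, _ => rows_ok_109
  | 110, _ => rows_ok_110
  | 111, _ => rows_ok_111
  | 112, _ => rows_ok_112
  | 113, _ => rows_ok_113
  | 114, _ => rows_ok_114
  | 115, _ => rows_ok_115
  | 116, _ => rows_ok_116
  | 117, _ => rows_ok_117
  | 118, _ => rows_ok_118
  | 119, _ => rows_ok_119
  | 120, _ => rows_ok_120
  | 121, _ => rows_ok_121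
  | 122, _ => rows_ok_122
  | 123, _ => rows_ok_123
  | 124, _ => rows_ok_124
  | 125, _ => rows_ok_125
  | 126, _ => rows_ok_126
  | 127, _ => rows_ok_127
  | 128, _ => rows_ok_128
  | 129, _ => rows_ok_129
  | 130, _ => rows_ok_130
  | 131, _ => rows_ok_131
  | 132, _ => rows_ok_132
  | 133, _ => rows_ok_133
  | 134, _ => rows_ok_134
  | 135, _ => rows_ok_135
  | 136, _ => rows_ok_136
  | 137, _ => rows_ok_137
  | 138, _ => rows_ok_138
  | 139, _ => rows_ok_139
  | 140, _ => rows_ok_140
  | 141, _ => rows_ok_141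
  | 142, _ => rows_ok_142
  | 143, _ => rows_ok_143
  | 144, _ => rows_ok_144
  | 145, _ => rows_ok_145
  | 146, _ => rows_ok_146
  | 147, _ => rows_ok_147
  | 148, _ => rows_ok_148
  | 149, _ => rows_ok_149
  | 150, _ => rows_ok_150
  | 151, _ => rows_ok_151
  | 152, _ => rows_ok_152
  | 153, _ => rows_ok_153
  | 154, _ => rows_ok_154
  | 155, _ => rows_ok_155
  | 156, _ => rows_ok_156
  | 157, _ => rows_ok_157
  | 158, _ => rows_ok_158
  | 159, _ => rows_ok_159
  | 160, _ => rows_ok_160
  | 161, _ => rows_ok_161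
  | 162, _ => rows_ok_162
  | 163, _ => rows_ok_163
  | 164, _ => rows_ok_164
  | 165, _ => rows_ok_165
  | 166, _ => rows_ok_166
  | 167, _ => rows_ok_167
  | 168, _ => rows_ok_168
  | 169, _ => rows_ok_169
  | 170, _ => rows_ok_170
  | 171, _ => rows_ok_171
  | 172, _ => rows_ok_172
  | 173, _ => rows_ok_173
  | 174, _ => rows_ok_174
  | 175, _ => rows_ok_175
  | 176, _ => rows_ok_176
  | 177, _ => rows_ok_177
  | 178, _ => rows_ok_178
  | 179, _ => rows_ok_179
  | 180, _ => rows_ok_180
  | 181, _ => rows_ok_181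
  | 182, _ => rows_ok_182
  | 183, _ => rows_ok_183
  | 184, _ => rows_ok_184
  | 185, _ => rows_ok_185
  | 186, _ => rows_ok_186
  | 187, _ => rows_ok_187
  | 188, _ => rows_ok_188
  | 189, _ => rows_ok_189
  | 190, _ => rows_ok_190
  | 191, _ => rows_ok_191
  | 192, _ => rows_ok_192
  | 193, _ => rows_ok_193
  | 194, _ => rows_ok_194
  | 195, _ => rows_ok_195
  | 196, _ => rows_ok_196
  | 197, _ => rows_ok_197
  | 198, _ => rows_ok_198
  | 199, _ => rows_ok_199
  | 200, _ => rows_ok_200
  | 201, _ => rows_ok_201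
  | 202, _ => rows_ok_202
  | 203, _ => rows_ok_203
  | 204, _ => rows_ok_204
  | 205, _ => rows_ok_205
  | 206, _ => rows_ok_206
  | 207, _ => rows_ok_207
  | 208, _ => rows_ok_208
  | 209, _ => rows_ok_209
  | 210, _ => rows_ok_210
  | 211, _ => rows_ok_211
  | 212, _ => rows_ok_212
  | 213, _ => rows_ok_213
  | 214, _ => rows_ok_214
  | 215, _ => rows_ok_215
  | 216, _ => rows_ok_216
  | 217, _ => rows_ok_217
  | 218, _ => rows_ok_218
  | 219, _ => rows_ok_219
  | 220, _ => rows_ok_220
  | 221, _ => rows_ok_221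
  | 222, _ => rows_ok_222
  | 223, _ => rows_ok_223
  | 224, _ => rows_ok_224
  | 225, _ => rows_ok_225
  | 226, _ => rows_ok_226
  | 227, _ => rows_ok_227
  | 228, _ => rows_ok_228
  | 229, _ => rows_ok_229
  | 230, _ => rows_ok_230
  | 231, _ => rows_ok_231
  | 232, _ => rows_ok_232
  | 233, _ => rows_ok_233
  | 234, _ => rows_ok_234
  | 235, _ => rows_ok_235
  | 236, _ => rows_ok_236
  | 237, _ => rows_ok_237
  | 238, _ => rows_ok_238
  | 239, _ => rows_ok_239
  | 240, _ => rows_ok_240
  | 241, _ => rows_ok_241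
  | 242, _ => rows_ok_242
  | 243, _ => rows_ok_243
  | 244, _ => rows_ok_244
  | 245, _ => rows_ok_245
  | 246, _ => rows_ok_246
  | 247, _ => rows_ok_247
  | 248, _ => rows_ok_248
  | 249, _ => rows_ok_249
  | 250, _ => rows_ok_250
  | 251, _ => rows_ok_251
  | 252, _ => rows_ok_252
  | 253, _ => rows_ok_253
  | 254, _ => rows_ok_254
  | 255, _ => rows_ok_255
  | 256, _ => rows_ok_256
  | 257, _ => rows_ok_257
  | 258, _ => rows_ok_258
  | 259, _ => rows_ok_259
  | 260, _ => rows_ok_260
  | 261, _ => rows_ok_261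
  | 262, _ => rows_ok_262
  | 263, _ => rows_ok_263
  | 264, _ => rows_ok_264
  | 265, _ => rows_ok_265
  | 266, _ => rows_ok_266
  | 267, _ => rows_ok_267
  | 268, _ => rows_ok_268
  | 269, _ => rows_ok_269
  | 270, _ => rows_ok_270
  | 271, _ => rows_ok_271
  | k + 272, h => absurd h (by omega)

/-- **every entry of the table is justified** -/
theorem cert_all : ∀ a, a < cert.n → ∀ x, x < cert.g → cert.slotOK a x = true := by
  intro a ha x hx
  have ha' : a < 32640 := ha
  have hx' : x < 6 := hx
  have h1 := rows_ok_all (a / 120) (by omega)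
  rw [rowsOK, allN_iff] at h1
  have h2 := h1 (a % 120) (Nat.mod_lt _ (by norm_num))
  rw [allN_iff] at h2
  have h3 := h2 x hx'
  have e : Nat.add (120 * (a / 120)) (a % 120) = a := Nat.div_add_mod a 120
  rw [e] at h3
  exact h3

theorem words_ok : wordsOK = true := by decide +kernel

/-- **every word of the certificate is justified** -/
theorem cert_wall : ∀ i, i < cert.nW → cert.wordOK i = true := by
  intro i hi
  have h := words_ok
  rw [wordsOK, allN_iff] at h
  exact h i hi

theorem close_0 : cert.scan 4095 (cert.W 136) 18651 0 = some (18651, 62537267493288003028351635039985214244005092211143467497375701001) := by decide +kernel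

theorem close_1 : cert.scan 4095 (cert.W 260) 3863 0 = some (3863, 65841135258500822667741606248461006193514116426185742032181436420) := by decide +kernel

theorem close_2 : cert.scan 4095 (cert.W 506) 24935 0 = some (24935, 69108043456358170542628955642092616285299479350177362172462540823) := by decide +kernel

theorem close_3 : cert.scan 4095 (cert.W 459) 15474 0 = some (15474, 69148216919724609626446009359172051389045686429783935417491433456) := by decide +kernel

theorem close_4 : cert.scan 4095 (cert.W 666) 12439 0 = some (12439, 72415125067009598806752477172486402692138644448207457029081575403) := by decide +kernel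

theorem close_5 : cert.scan 4095 (cert.W 213) 3075 0 = some (3075, 65813817313280918296925162616480509588174997559323804773837217790) := by decide +kernel

theorem close_6 : cert.scan 4095 (cert.W 498) 928 0 = some (928, 69112864255165990643295055644455493933327630848603963767446874106) := by decide +kernel

theorem close_7 : cert.scan 4095 (cert.W 398) 14180 0 = some (14180, 69119292021135483549186948533647268224702488315042039894340839418) := by decide +kernel

theorem close_8 : cert.scan 4095 (cert.W 621) 24978 0 = some (24978, 72423159780218326871121307423559342328826232190555651295512932346) := by decide +kernel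

theorem close_9 : cert.scan 4095 (cert.W 2) 22801 0 = some (22801, 46069350752069984626309314313439009162442178271781481733280526353) := by decide +kernel

theorem close_10 : cert.scan 4095 (cert.W 455) 8727 0 = some (8727, 69103222617705463456446470709788320438637911800115730288763512840) := by decide +kernel

theorem close_11 : cert.scan 4095 (cert.W 737) 26274 0 = some (26274, 72402269571850500129744868414497308419970428497774214790796849178) := by decide +kernel

theorem close_12 : cert.scan 4095 (cert.W 233) 19370 0 = some (19370, 65837921380879812069326514311210487683095037524831778092819193842) := by decide +kernel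

theorem close_13 : cert.scan 4095 (cert.W 103) 29537 0 = some (29537, 59251076055757002604184683902869419571006610623439522850443137015) := by decide +kernel

end Cfsg.Agent.Lib.Helper7.F42A2
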