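import Cfsg.Agent.Lib.Helper7.F42A2C
import Cfsg.Agent.Lib.Helper7.F42A2K19

/-! # The multiplier of the Chevalley group of type F4 over the field of two elements, the table of the orthogonal subgroup: the check of the rows 25920 to 26879 of the certificate (generated) -/

set_option autoImplicit false
set_option maxRecDepth 100000

namespace Cfsg.Agent.Lib.Helper7.F42A2

theorem rows_ok_216 : rowsOK 25920 120 = true := by decide +kernel

theorem rows_ok_217 : rowsOK 26040 120 = true := by decide +kernel

theorem rows_ok_218 : rowsOK 26160 120 = true := by decide +kernel

theorem rows_ok_219 : rowsOK 26280 120 = true := by decide +kernel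

theorem rows_ok_220 : rowsOK 26400 120 = true := by decide +kernel

theorem rows_ok_221 : rowsOK 26520 120 = true := by decide +kernel

theorem rows_ok_222 : rowsOK 26640 120 = true := by decide +kernel

theorem rows_ok_223 : rowsOK 26760 120 = true := by decide +kernel

end Cfsg.Agent.Lib.Helper7.F42A2
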