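import Cfsg.Agent.Lib.Helper7.MGenE
import Cfsg.Prelude.Def_KGroupFacts

/-!
# From relations between commuting elements to a group generated by two or three elements of given orders

Commuting elements `z 0, …, z (k - 1)` satisfy relations given by integer vectors.  If, up to a factor `q` prime to the
torsion, the unit vectors minus combinations of given vectors `c₁, …, cᵣ` are integer combinations of the relations, then
every `z j` is a product of powers of the products `gₜ` of the powers `z j ^ cₜ j`; if multiples `Nₜ cₜ` are combinations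
too, then `gₜ ^ Nₜ = 1`.  A commutative group generated by two or three such elements is a homomorphic image of the
product of the cyclic groups of these orders.
-/

set_option autoImplicit false

namespace Cfsg.Agent.Lib.Helper7.MG

section comb

variable {A : Type*} [CommGroup A] (z : ℕ → A) (k : ℕ)

/-- the product of powers of the elements given by a list of vectors of exponents -/
def gprod : List ℤ → List (List ℤ) → A
  | m :: ms, c :: cs => zprod z k (fun l => c.getD l 0) ^ m * gprod ms cs
  | _, _ => 1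

theorem gprod_cons (m : ℤ) (ms : List ℤ) (c : List ℤ) (cs : List (List ℤ)) :
    gprod z k (m :: ms) (c :: cs) = zprod z k (fun l => c.getD l 0) ^ m * gprod z k ms cs := rfl

theorem zprod_dotL_eq : ∀ (ms : List ℤ) (C : List (List ℤ)), zprod z k (dotL ms C) = gprod z k ms C
  | [], C => by
    have : dotL [] = fun _ _ => 0 := by funext R l; cases R <;> rfl
    rw [this]
    cases C <;> exact zprod_zero z k
  | _ :: _, [] => zprod_zero z k
  | m :: ms, c :: cs => by
    have e : dotL (m :: ms) (c :: cs) = fun l => m * c.getD l 0 + dotL ms cs l := by funext l; rfl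
    rw [e, zprod_add, zprod_smul, zprod_dotL_eq ms cs, gprod_cons]

theorem gprod_mem (S : Subgroup A) : ∀ (ms : List ℤ) (C : List (List ℤ)),
    (∀ c ∈ C, zprod z k (fun l => c.getD l 0) ∈ S) → gprod z k ms C ∈ S
  | [], C, _ => by cases C <;> exact S.one_mem
  | _ :: _, [], _ => S.one_mem
  | m :: ms, c :: cs, h => by
    rw [gprod_cons]
    exact S.mul_mem (S.zpow_mem (h c List.mem_cons_self) m)
      (gprod_mem S ms cs fun c' hc' => h c' (List.mem_cons_of_mem _ hc'))

variable (R : List (List ℤ)) (hR : ∀ r ∈ R, zprod z k (fun l => r.getD l 0) = 1)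

include hR in
/-- **every generator is a product of powers of given elements, of which given powers are trivial**, when the
relations give this up to a factor `q` and the elements have no torsion that divides `q` -/
theorem abelian_of_relations_q (S : Subgroup A) (hzS : ∀ j, j < k → z j ∈ S) (q : ℕ)
    (hq : ∀ u, u ∈ S → u ^ q = 1 → u = 1) (C M : List (List ℤ)) (N : List ℤ) (lam mu : List (List ℤ))
    (h1 : ∀ j, j < k → ∀ l, l < k →
      (q : ℤ) * ((if l = j then 1 else 0) - dotL (M.getD j []) C l) = dotL (lam.getD j []) R l)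
    (h2 : ∀ t, t < C.length → ∀ l, l < k →
      (q : ℤ) * (N.getD t 0 * (C.getD t []).getD l 0) = dotL (mu.getD t []) R l) :
    (∀ j, j < k → z j = gprod z k (M.getD j []) C) ∧
      ∀ t, t < C.length → zprod z k (fun l => (C.getD t []).getD l 0) ^ N.getD t 0 = 1 := by
  have hg : ∀ c : List ℤ, zprod z k (fun l => c.getD l 0) ∈ S := fun c => zprod_mem z k S hzS _
  constructor
  · intro j hj
    have h3 := zprod_dotL z k (lam.getD j []) R hR
    rw [← zprod_congr z k (h1 j hj), zprod_smul] at h3
    have e : (fun l => (if l = j then (1 : ℤ) else 0) - dotL (M.getD j []) C l) =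
        fun l => (if l = j then (1 : ℤ) else 0) + (-1) * dotL (M.getD j []) C l := by
      funext l; ring
    rw [e, zprod_add, zprod_smul, zprod_single z k hj, zprod_dotL_eq, zpow_natCast] at h3
    have hm : gprod z k (M.getD j []) C ∈ S := gprod_mem z k S _ _ fun c _ => hg c
    have h4 := hq _ (S.mul_mem (hzS j hj) (S.zpow_mem hm _)) h3
    rw [zpow_neg, zpow_one, mul_inv_eq_one] at h4
    exact h4
  · intro t ht
    have h3 := zprod_dotL z k (mu.getD t []) R hR
    rw [← zprod_congr z k (h2 t ht), zprod_smul, zprod_smul, zpow_natCast] at h3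
    exact hq _ (S.zpow_mem (hg _) _) h3

end comb

/-! ### elements of a subgroup generated by three commuting elements -/

theorem mem_closure_triple {A : Type*} [CommGroup A] (g1 g2 g3 y : A)
    (hy : y ∈ Subgroup.closure ({g1, g2, g3} : Set A)) : ∃ a b c : ℤ, y = g1 ^ a * g2 ^ b * g3 ^ c := by
  induction hy using Subgroup.closure_induction with
  | mem x hx =>
    rcases hx with rfl | rfl | rfl
    · exact ⟨1, 0, 0, by simp⟩
    · exact ⟨0, 1, 0, by simp⟩
    · exact ⟨0, 0, 1, by simp⟩
  | one => exact ⟨0, 0, 0, by simp⟩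
  | mul p q _ _ ihp ihq =>
    obtain ⟨a, b, c, rfl⟩ := ihp
    obtain ⟨a', b', c', rfl⟩ := ihq
    refine ⟨a + a', b + b', c + c', ?_⟩
    rw [zpow_add, zpow_add, zpow_add]
    simp only [mul_assoc, mul_left_comm]
  | inv p _ ihp =>
    obtain ⟨a, b, c, rfl⟩ := ihp
    refine ⟨-a, -b, -c, ?_⟩
    rw [zpow_neg, zpow_neg, zpow_neg, mul_inv, mul_inv]

theorem mem_closure_two {A : Type*} [CommGroup A] (g1 g2 y : A)
    (hy : y ∈ Subgroup.closure ({g1, g2} : Set A)) : ∃ a b : ℤ, y = g1 ^ a * g2 ^ b := by
  obtain ⟨a, b, h⟩ := Subgroup.mem_closure_pair.1 hy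
  exact ⟨a, b, h.symm⟩

/-! ### images of products of cyclic groups -/

/-- a commutative group generated by three elements of which given powers are trivial is an image of the product of
the cyclic groups of these orders -/
theorem exists_surj_prod3 {K : Type*} [Group K] (g1 g2 g3 : K) (N1 N2 N3 : ℕ) (h1 : g1 ^ N1 = 1)
    (h2 : g2 ^ N2 = 1) (h3 : g3 ^ N3 = 1) (hc : ∀ x y : K, x * y = y * x)
    (hgen : ∀ y : K, ∃ a b c : ℤ, y = g1 ^ a * g2 ^ b * g3 ^ c) :
    ∃ π : Multiplicative (ZMod N1 × ZMod N2 × ZMod N3) →* K, Function.Surjective π := by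
  let _ : CommGroup K := { (inferInstance : Group K) with mul_comm := hc }
  have hf : ∀ (g : K) (N : ℕ), g ^ N = 1 → (zmultiplesHom (Additive K) (Additive.ofMul g)) (N : ℤ) = 0 := by
    intro g N hg
    show (N : ℤ) • Additive.ofMul g = 0
    rw [natCast_zsmul]
    exact congrArg Additive.ofMul hg
  let f1 : ZMod N1 →+ Additive K := ZMod.lift N1 ⟨zmultiplesHom (Additive K) (Additive.ofMul g1), hf g1 N1 h1⟩
  let f2 : ZMod N2 →+ Additive K := ZMod.lift N2 ⟨zmultiplesHom (Additive K) (Additive.ofMul g2), hf g2 N2 h2⟩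
  let f3 : ZMod N3 →+ Additive K := ZMod.lift N3 ⟨zmultiplesHom (Additive K) (Additive.ofMul g3), hf g3 N3 h3⟩
  let φ : ZMod N1 × ZMod N2 × ZMod N3 →+ Additive K :=
    f1.comp (AddMonoidHom.fst _ _) + f2.comp ((AddMonoidHom.fst _ _).comp (AddMonoidHom.snd _ _)) +
      f3.comp ((AddMonoidHom.snd _ _).comp (AddMonoidHom.snd _ _))
  refine ⟨AddMonoidHom.toMultiplicativeLeft φ, ?_⟩
  intro y
  obtain ⟨a, b, c, rfl⟩ := hgen y
  refine ⟨Multiplicative.ofAdd (((a : ℤ) : ZMod N1), ((b : ℤ) : ZMod N2), ((c : ℤ) : ZMod N3)), ?_⟩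
  show (f1 ((a : ℤ) : ZMod N1) + f2 ((b : ℤ) : ZMod N2) + f3 ((c : ℤ) : ZMod N3)).toMul = g1 ^ a * g2 ^ b * g3 ^ c
  rw [ZMod.lift_coe, ZMod.lift_coe, ZMod.lift_coe]
  rfl

/-- a commutative group generated by two elements of which given powers are trivial is an image of the product of
the cyclic groups of these orders -/
theorem exists_surj_prod2 {K : Type*} [Group K] (g1 g2 : K) (N1 N2 : ℕ) (h1 : g1 ^ N1 = 1)
    (h2 : g2 ^ N2 = 1) (hc : ∀ x y : K, x * y = y * x)
    (hgen : ∀ y : K, ∃ a b : ℤ, y = g1 ^ a * g2 ^ b) :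
    ∃ π : Multiplicative (ZMod N1 × ZMod N2) →* K, Function.Surjective π := by
  let _ : CommGroup K := { (inferInstance : Group K) with mul_comm := hc }
  have hf : ∀ (g : K) (N : ℕ), g ^ N = 1 → (zmultiplesHom (Additive K) (Additive.ofMul g)) (N : ℤ) = 0 := by
    intro g N hg
    show (N : ℤ) • Additive.ofMul g = 0
    rw [natCast_zsmul]
    exact congrArg Additive.ofMul hg
  let f1 : ZMod N1 →+ Additive K := ZMod.lift N1 ⟨zmultiplesHom (Additive K) (Additive.ofMul g1), hf g1 N1 h1⟩
  let f2 : ZMod N2 →+ Additive K := ZMod.lift N2 ⟨zmultiplesHom (Additive K) (Additive.ofMul g2), hf g2 N2 h2⟩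
  let φ : ZMod N1 × ZMod N2 →+ Additive K :=
    f1.comp (AddMonoidHom.fst _ _) + f2.comp (AddMonoidHom.snd _ _)
  refine ⟨AddMonoidHom.toMultiplicativeLeft φ, ?_⟩
  intro y
  obtain ⟨a, b, rfl⟩ := hgen y
  refine ⟨Multiplicative.ofAdd (((a : ℤ) : ZMod N1), ((b : ℤ) : ZMod N2)), ?_⟩
  show (f1 ((a : ℤ) : ZMod N1) + f2 ((b : ℤ) : ZMod N2)).toMul = g1 ^ a * g2 ^ b
  rw [ZMod.lift_coe, ZMod.lift_coe]
  rfl

/-- a surjective homomorphism from a finite group onto a group that is not smaller is an isomorphism -/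
theorem nonempty_equiv_of_surj_of_card_le {M K : Type*} [Group M] [Group K] [Finite M] (π : M →* K)
    (hπ : Function.Surjective π) (hcard : Nat.card M ≤ Nat.card K) : Nonempty (K ≃* M) :=
  ⟨(MulEquiv.ofBijective π (hπ.bijective_of_nat_card_le hcard)).symm⟩

/-! ### stem extensions and isomorphisms -/

/-- a stem extension composed with isomorphisms on both sides -/
theorem stem_comp_equiv {Γ : Type*} {Γ' : Type*} {G : Type*} {G' : Type*} [Group Γ] [Group Γ'] [Group G] [Group G']
    (ε : Γ' ≃* Γ) (e : G ≃* G') (σ : Γ →* G) (h : Cfsg.IsStemExtension σ) :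
    Cfsg.IsStemExtension ((e.toMonoidHom.comp σ).comp ε.toMonoidHom) ∧
      Nonempty (↥((e.toMonoidHom.comp σ).comp ε.toMonoidHom).ker ≃* ↥σ.ker) := by
  obtain ⟨hs, hc, hd⟩ := h
  have hker : ∀ x : Γ', x ∈ ((e.toMonoidHom.comp σ).comp ε.toMonoidHom).ker ↔ ε x ∈ σ.ker := by
    intro x
    rw [MonoidHom.mem_ker, MonoidHom.mem_ker]
    show e (σ (ε x)) = 1 ↔ σ (ε x) = 1
    rw [MulEquiv.map_eq_one_iff]
  refine ⟨⟨?_, ?_, ?_⟩, ⟨?_⟩⟩
  · exact (e.surjective.comp hs).comp ε.surjective
  · intro x hx
    have h1 := hc ((hker x).1 hx)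
    rw [Subgroup.mem_center_iff] at h1 ⊢
    intro y
    apply ε.injective
    rw [map_mul, map_mul]
    exact h1 (ε y)
  · intro x hx
    have h1 : ε x ∈ commutator Γ := hd ((hker x).1 hx)
    have h2 : Subgroup.map ε.toMonoidHom (commutator Γ') = commutator Γ := by
      rw [commutator_def, commutator_def, Subgroup.map_commutator, ← MonoidHom.range_eq_map,
        MonoidHom.range_eq_top.2 ε.surjective]
    rw [← h2] at h1
    obtain ⟨y, hy, hyx⟩ := h1
    have : y = x := ε.injective hyx
    rw [← this]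
    exact hy
  · exact
      { toFun := fun x => ⟨ε x.1, (hker x.1).1 x.2⟩
        invFun := fun y => ⟨ε.symm y.1, (hker _).2 (by rw [MulEquiv.apply_symm_apply]; exact y.2)⟩
        left_inv := fun x => Subtype.ext (ε.symm_apply_apply x.1)
        right_inv := fun y => Subtype.ext (ε.apply_symm_apply y.1)
        map_mul' := fun x y => Subtype.ext (map_mul ε x.1 y.1) }

/-- the kernel is not changed by an isomorphism of the target -/
theorem ker_comp_equiv {Γ A B : Type*} [Group Γ] [Group A] [Group B] (e : A ≃* B) (σ : Γ →* A) :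
    (e.toMonoidHom.comp σ).ker = σ.ker := by
  ext x
  simp only [MonoidHom.mem_ker, MonoidHom.coe_comp, Function.comp_apply, MulEquiv.coe_toMonoidHom]
  exact e.map_eq_one_iff

/-- the product of the cyclic groups of orders three, four and four has forty-eight elements -/
theorem card_prod_344 : Nat.card (Multiplicative (ZMod 3 × ZMod 4 × ZMod 4)) = 48 := by
  show Nat.card (ZMod 3 × ZMod 4 × ZMod 4) = 48
  rw [Nat.card_prod, Nat.card_prod, Nat.card_zmod, Nat.card_zmod]

/-- the product of two cyclic groups of order two has four elements -/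
theorem card_prod_22 : Nat.card (Multiplicative (ZMod 2 × ZMod 2)) = 4 := by
  show Nat.card (ZMod 2 × ZMod 2) = 4
  rw [Nat.card_prod, Nat.card_zmod]

end Cfsg.Agent.Lib.Helper7.MG
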