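import Cfsg.Agent.Lib.Helper7.F42L1U
import Cfsg.Agent.Lib.Helper7.F42A2D
import Cfsg.Agent.Lib.Helper7.MGenF
import Cfsg.Agent.Lib.Helper7.MGenH

/-!
# The multiplier of the Chevalley group of type F4 over the field of two elements, the table of the orthogonal subgroup: every finite stem extension of the subgroup generated by the first six letters is an isomorphism

In a finite stem extension the derived subgroup of the preimage of `L` is a copy of `L`, since `L` is perfect and has
no proper stem extensions; the letters of `L` are lifted into this copy, so that all the words in these letters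
that are trivial in the group are trivial in the extension.  The lift of the last letter is chosen so that one more
given word is trivial; this is possible since the kernel has order prime to seven, the Sylow subgroups for this
prime being cyclic.  The checked table over the copy of `L` shows that the kernel is generated by the values of the
other given words; the traced words give relations between them, which make their seventh powers trivial, so that
they are trivial.
-/

set_option autoImplicit false
set_option maxRecDepth 100000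

namespace Cfsg.Agent.Lib.Helper7.F42A2

open Cfsg Cfsg.Agent.Lib.Helper7.MG Cfsg.Agent.Lib.Helper7.HSMult Cfsg.Agent.Lib.Helper7.F42V2
open Cfsg.Agent.Lib.Helper7.M12Mult
open scoped IsMulCommutative

/-! ### the data of the certificate -/

/-- the words that define the central elements -/
def axI : ℕ → ℕ
  | 0 => 770
  | 1 => 3
  | 2 => 4
  | 3 => 5
  | 4 => 223
  | 5 => 24
  | 6 => 56
  | 7 => 128
  | 8 => 132
  | 9 => 25
  | 10 => 260
  | _ => 0

theorem axI_lt : ∀ j, axI j < 779
  | 0 => by decide
  | 1 => by decide
  | 2 => by decide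
  | 3 => by decide
  | 4 => by decide
  | 5 => by decide
  | 6 => by decide
  | 7 => by decide
  | 8 => by decide
  | 9 => by decide
  | 10 => by decide
  | _ + 11 => by
    show (0 : ℕ) < 779
    decide

/-- the word of which a power is the trivial word that is not a word in the letters of `L` -/
def yW : List ℕ := [4, 2]

theorem chk_wT : ∀ i, i < 779 → cert.wT i = 0 →
    (((cert.W i).all fun x => Nat.blt x 4) = true ∧
      ∀ l, l < 11 → ((fld (cert.rhs i) l : ℤ) - ((cert.W i).length : ℤ) * (cert.B : ℤ)) = 0) ∨
    i = 2 ∨ ∃ j, j < 11 ∧ i = axI j := by decide +kernel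

theorem chk_W3 : cert.W 2 = wpow 7 yW := by decide +kernel

theorem chk_yW : expsumL 4 5 (wpow 7 yW) = 7 := by decide

theorem chk_len : ∀ i, i < 779 → (cert.W i).length ≤ 255 := by decide +kernel

theorem chk_ax : ∀ j, j < 11 → ∀ l, l < 11 →
    ((fld (cert.rhs (axI j)) l : ℤ) - ((cert.W (axI j)).length : ℤ) * (cert.B : ℤ)) = if l = j then 1 else 0 := by
  decide +kernel

theorem chk_ex : ∀ l, l < 11 →
    ((fld (cert.rhs 2) l : ℤ) - ((cert.W 2).length : ℤ) * (cert.B : ℤ)) = 0 := by
  decide +kernel

/-- the relations between the central elements that the traced words give -/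
def relL : List (List ℤ) := [[(-8), 3, (-8), (-4), 6, (-3), (-3), 0, 0, 5, (-5)],
    [(-4), 17, 2, (-5), 1, (-2), (-7), (-1), 2, 0, (-12)],
    [(-23), (-21), (-2), (-22), (-5), 3, 19, 0, (-1), (-10), 2],
    [17, 21, 15, 6, (-7), 8, 18, (-1), (-1), (-19), (-23)],
    [25, (-1), 0, 1, (-2), 5, (-8), 0, 0, 4, (-8)],
    [4, 6, 5, 23, (-13), (-24), (-8), 0, 0, (-1), 4],
    [5, 2, 0, 12, (-10), 4, (-4), 0, 0, 0, (-1)],
    [6, 7, (-2), (-6), 10, 5, 13, 0, 2, (-9), (-5)],
    [6, 12, 1, (-4), (-12), 4, 13, (-2), 0, (-10), (-12)],
    [(-17), 20, (-25), (-23), (-2), (-6), 3, 2, (-2), (-14), 3],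
    [(-6), (-6), 4, (-3), 1, (-2), 5, 0, 0, 6, 5],
    [(-25), 2, 19, 10, (-8), (-5), (-2), (-1), 0, (-1), 0],
    [10, 11, 1, 7, 13, (-7), 8, 0, 0, 3, (-6)],
    [9, 17, (-15), (-27), 10, (-3), 1, 1, 0, 4, (-8)]]

/-- the combinations of the relations that give the seventh powers of the central elements -/
def lamL : List (List ℤ) := [[(-153872577209253424542945736065002417631447600707771), 267473539490304284792979177852593585365618776257301, 67323537080632470819896613575247658547663651825349, 737422575858693914700839445930132452182832508123, 76928417321681993030010409163186563163709401998290, (-45755457929289274059204714347097460186868382601384), 13775318902811483896957900245680234606434068684895, (-124848320729262128176941489285513672347635325456163), (-51364887175149339979333221377184255492732419077656), 108594738932796574248738962056491017518060208634402, 190578321672134664354582719538466644875977335462388, (-150493638892945305291493437836919018131386642694314), 167008964189044194650381886851663538177957883931707, (-202201929042674155039957787405745846335170289353006)],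
    [3186610278280734603529034279533348532740341983272, (-5539219174504570829232516433320836442552394119262), (-1394230727282939041560111069284878617331243393487), (-15271586414465112800953799624568624507021762549), (-1593142129515196808520194611043813112473074739005), 947568534753486174518157851230829745253052280566, (-285278726063049012269433933505528564204472297172), 2585535052947896834929958501013274625919339538128, 1063736504474547585089493080369726429581437973599, (-2248932964707971917122025497852838195713922003116), (-3946764587117055896770870209815445905167815980167), 3116634459563008357687159521016140799088039343506, (-3458657101233129528101264214417964339597039001183), 4187482637009011420076726444515864982619343415125],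
    [27733693593449056722399822485519542316659311783, (-48208909755839832070040515640142788319559923763), (-12134263186365759255561737955965527925237057801), (-132911608674395250973124343048082223124400943), (-13865428092018755375838437357030898420866878963), 8246874611797598143131721816247144112904644015, (-2482836646604537397938489318633318895889384398), 22502418140779575642557536455882778466977110286, 9257907212670026827017274245826172678314368509, (-19572904217540179174215548034753204778402084105), (-34349465477666052096554744458786699904543221787), 27124680333027637258370515955733043720426908910, (-30101370394800387865679528204161472802455270959), 36444481828933821939822520533700928091175489432],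
    [24020783621308627811164833990078239984049302, (-41754834636874935073767112894299285909052188), (-10509761688307962132015966790344404139424517), (-115117771167769199508384208654668013576951), (-12009163038199426943778806434675536525220802), 7142805913484448753202211568767031633556974, (-2150441363108970419430042681418395312116424), 19489856816026593778807763639247754044848885, 8018484274097115840891811876918091124351328, (-16952538091110475629197173755551995787702569), (-29750854316120482593734313149378447156033415), 23493303366945895114246153020179073387583887, (-26071482419823026492280206126111138683720693), 31565395689318373781148627182165293289062542],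
    [(-16521217349679264347739113078630300370220), 28718492673310424033182047270040278628866, 7228492620525447053353868723752620610680, 79176672512307618490845832189015001922, 8259763539346946673932736869390090473415, (-4912739352873033949621927842530750014327), 1479048715386093825437697705478003549287, (-13404898260107686053602163538092668359947), (-5515020808472962815964325836146131930947), 11659759766683860643657526453976792462618, 20462293747121827467503281379391052501872, (-16158422527188121675023554291107880024728), 17931664281932041345894769594200395567470, (-21710314331679036942594365769124435181070)],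
    [14607628483907087801272741162874710952, (-25392140464617186524517053426671643886), (-6391244208245320866772522362101739577), (-70005944003528379936129152996103959), (-7303066995244393062681038031377858693), 4343715707270965055946942227689429721, (-1307736208941015425824469478989156456), 11852260611535810323981583595747036630, 4876237225506504857652827548851367471, (-10309254776956951577181144073375685488), (-18092225207141501887090044119591625025), 14286854786021047034413464627651930694, (-15854708789585350605312316663563375978), 19195692382327244999628225292438288767],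
    [(-4221712526430186730907769779860), 7338516145207779211829478448542, 1847116783066405354380706861031, 20232234893560002412021968785, 2110640303396849682063944932382, (-1255365922869676271334463408572), 377945423559673036607759104575, (-3425390859670366763479423200506), (-1409268574939814922328845742340), 2979450776557429769953690833128, 5228786717305390394844378997666, (-4129006558448680381846685149663), 4582127945931472795700189870564, (-5547696881341830552170257883272)],
    [37508258758353792190675859, (-65199835553360529774435942), (-16410907616852030422504532), (-179755465796515664690866), (-18752210660956889628827637), 11153433488573202548280524, (-3357896743243885485634936), 30433253308618124021879577, 12520798144812572531246197, (-26471250703418132708958666), (-46455717663649666048252184), 36684602620299716690300966, (-40710408296135310702174884), 49289109297604081731583891],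
    [313155852640198333689, (-544352384530938204207), (-137014405293080500213), (-1500775509759079512), (-156561906972359421757), 93119837859761465690, (-28035026218701376525), 254086745265210632026, 104535943511409286401, (-221008048864307782322), (-387858043976313566950), 306279160713324749685, (-339890547930793563704), 411513985424061603412],
    [(-12781326054092), 22217516474159, 5592186042170, 61253529074, 6390009204022, (-3800647504287), 1144237950577, (-10370444971339), (-4266591114702), 9020351717198, 15830264965414, (-12500656729379), 13872491537940, (-16795772389946)],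
    [41372214, (-71916472), (-18101496), (-198274), (-20683991), 12302417, (-3703814), 33568370, 13810643, (-29198217), (-51241408), 40463710, (-44904237), 54366684]]

theorem chk_rel_0 : ∀ l, l < 11 → ((fld (cert.rhs 136) l : ℤ) - (fld 62537267493288003028351635039985214244005092211143467497375701001 l : ℤ)) = (relL.getD 0 []).getD l 0 := by
  decide +kernel

theorem chk_rel_1 : ∀ l, l < 11 → ((fld (cert.rhs 260) l : ℤ) - (fld 65841135258500822667741606248461006193514116426185742032181436420 l : ℤ)) = (relL.getD 1 []).getD l 0 := by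
  decide +kernel

theorem chk_rel_2 : ∀ l, l < 11 → ((fld (cert.rhs 506) l : ℤ) - (fld 69108043456358170542628955642092616285299479350177362172462540823 l : ℤ)) = (relL.getD 2 []).getD l 0 := by
  decide +kernel

theorem chk_rel_3 : ∀ l, l < 11 → ((fld (cert.rhs 459) l : ℤ) - (fld 69148216919724609626446009359172051389045686429783935417491433456 l : ℤ)) = (relL.getD 3 []).getD l 0 := by
  decide +kernel

theorem chk_rel_4 : ∀ l, l < 11 → ((fld (cert.rhs 666) l : ℤ) - (fld 72415125067009598806752477172486402692138644448207457029081575403 l : ℤ)) = (relL.getD 4 []).getD l 0 := by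
  decide +kernel

theorem chk_rel_5 : ∀ l, l < 11 → ((fld (cert.rhs 213) l : ℤ) - (fld 65813817313280918296925162616480509588174997559323804773837217790 l : ℤ)) = (relL.getD 5 []).getD l 0 := by
  decide +kernel

theorem chk_rel_6 : ∀ l, l < 11 → ((fld (cert.rhs 498) l : ℤ) - (fld 69112864255165990643295055644455493933327630848603963767446874106 l : ℤ)) = (relL.getD 6 []).getD l 0 := by
  decide +kernel

theorem chk_rel_7 : ∀ l, l < 11 → ((fld (cert.rhs 398) l : ℤ) - (fld 69119292021135483549186948533647268224702488315042039894340839418 l : ℤ)) = (relL.getD 7 []).getD l 0 := by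
  decide +kernel

theorem chk_rel_8 : ∀ l, l < 11 → ((fld (cert.rhs 621) l : ℤ) - (fld 72423159780218326871121307423559342328826232190555651295512932346 l : ℤ)) = (relL.getD 8 []).getD l 0 := by
  decide +kernel

theorem chk_rel_9 : ∀ l, l < 11 → ((fld (cert.rhs 2) l : ℤ) - (fld 46069350752069984626309314313439009162442178271781481733280526353 l : ℤ)) = (relL.getD 9 []).getD l 0 := by
  decide +kernel

theorem chk_rel_10 : ∀ l, l < 11 → ((fld (cert.rhs 455) l : ℤ) - (fld 69103222617705463456446470709788320438637911800115730288763512840 l : ℤ)) = (relL.getD 10 []).getD l 0 := by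
  decide +kernel

theorem chk_rel_11 : ∀ l, l < 11 → ((fld (cert.rhs 737) l : ℤ) - (fld 72402269571850500129744868414497308419970428497774214790796849178 l : ℤ)) = (relL.getD 11 []).getD l 0 := by
  decide +kernel

theorem chk_rel_12 : ∀ l, l < 11 → ((fld (cert.rhs 233) l : ℤ) - (fld 65837921380879812069326514311210487683095037524831778092819193842 l : ℤ)) = (relL.getD 12 []).getD l 0 := by
  decide +kernel

theorem chk_rel_13 : ∀ l, l < 11 → ((fld (cert.rhs 103) l : ℤ) - (fld 59251076055757002604184683902869419571006610623439522850443137015 l : ℤ)) = (relL.getD 13 []).getD l 0 := by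
  decide +kernel

theorem chk_lam : ∀ j, j < 11 → ∀ l, l < 11 →
    ((7 : ℕ) : ℤ) * ((if l = j then 1 else 0) - dotL (([] : List (List ℤ)).getD j []) [] l) =
      dotL (lamL.getD j []) relL l := by
  decide +kernel

theorem chk_mu : ∀ t, t < ([] : List (List ℤ)).length → ∀ l, l < 11 →
    ((7 : ℕ) : ℤ) * (([] : List ℤ).getD t 0 * (([] : List (List ℤ)).getD t []).getD l 0) =
      dotL (([] : List (List ℤ)).getD t []) relL l := by
  intro t ht
  exact absurd ht (Nat.not_lt_zero t)

section upper

universe u

variable {Γ : Type u} [Group Γ] [Finite Γ] (σ : Γ →* G) (hsurj : Function.Surjective σ)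
  (hcen : σ.ker ≤ Subgroup.center Γ) (hder : σ.ker ≤ commutator Γ)

include hsurj hcen hder in
theorem not_dvd_card_ker : ¬ 7 ∣ Nat.card σ.ker := by
  have hperf := perfect_of_stem σ hsurj hcen hder G_perfect
  have : Fact (Nat.Prime 7) := ⟨by norm_num⟩
  exact Cfsg.Agent.S0102.result G_perfect
    (fun P => isCyclic_sylow_of_card_eq 7 28200960 (by rw [card_G]) (by norm_num) P) σ hsurj hcen hperf

/-! ### the letters in the extension -/

/-- the letters in the extension -/
def gU (a0 a1 t : Γ) : ℕ → Γ
  | 0 => a0
  | 1 => a0⁻¹
  | 2 => a1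
  | 3 => a1⁻¹
  | 4 => t
  | 5 => t⁻¹
  | _ => 1

omit [Finite Γ] in
theorem map_gU (a0 a1 t : Γ) (ha0 : σ a0 = lK 0) (ha1 : σ a1 = lK 2) (ht : σ t = lK 4) : ∀ x, σ (gU a0 a1 t x) = lK x
  | 0 => ha0
  | 1 => by
    show σ a0⁻¹ = lK 1
    rw [map_inv, ha0]
    exact (lK_iv (x := 0) (by norm_num)).symm
  | 2 => ha1
  | 3 => by
    show σ a1⁻¹ = lK 3
    rw [map_inv, ha1]
    exact (lK_iv (x := 2) (by norm_num)).symm
  | 4 => ht
  | 5 => by
    show σ t⁻¹ = lK 5
    rw [map_inv, ht]
    exact (lK_iv (x := 4) (by norm_num)).symm
  | x + 6 => by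
    show σ 1 = lK (x + 6)
    rw [map_one, lK_of_ge (by omega)]

omit [Finite Γ] in
theorem map_wd_gU (a0 a1 t : Γ) (ha0 : σ a0 = lK 0) (ha1 : σ a1 = lK 2) (ht : σ t = lK 4) :
    ∀ w : List ℕ, σ (VCert.wd (gU a0 a1 t) w) = VCert.wd lK w
  | [] => map_one σ
  | x :: w => by
    rw [VCert.wd_cons, VCert.wd_cons, map_mul, map_gU σ a0 a1 t ha0 ha1 ht x, map_wd_gU a0 a1 t ha0 ha1 ht w]

include hsurj hcen hder in
/-- **lifts of the generators: those of `L` in the copy of `L`, the last such that the given word is trivial** -/
theorem exists_lifts : ∃ a0 a1 t : Γ, a0 ∈ Mt σ L ∧ a1 ∈ Mt σ L ∧ σ a0 = lK 0 ∧ σ a1 = lK 2 ∧ σ t = lK 4 ∧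
    VCert.wd (gU a0 a1 t) (wpow 7 yW) = 1 := by
  have hnd := not_dvd_card_ker σ hsurj hcen hder
  have cop : (Nat.card ↥σ.ker).Coprime 7 :=
    ((Nat.Prime.coprime_iff_not_dvd (by norm_num)).2 hnd).symm
  obtain ⟨a0, ha0M, ha0⟩ := exists_mem_Mt (σ := σ) hsurj L L_perfect (lK 0) (lK_mem_L (by norm_num))
  obtain ⟨a1, ha1M, ha1⟩ := exists_mem_Mt (σ := σ) hsurj L L_perfect (lK 2) (lK_mem_L (by norm_num))
  obtain ⟨t0, ht0⟩ := hsurj (lK 4)
  have hk2 : VCert.wd (gU a0 a1 t0) (wpow 7 yW) ∈ σ.ker := by
    rw [MonoidHom.mem_ker, map_wd_gU σ a0 a1 t0 ha0 ha1 ht0, ← chk_W3]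
    exact wd_lK_W (by norm_num)
  obtain ⟨w, hw, hwr⟩ := exists_root σ.ker 7 cop _ (Subgroup.inv_mem _ hk2)
  have hwc : ∀ x : Γ, w⁻¹ * x = x * w⁻¹ := fun x =>
    (Subgroup.mem_center_iff.1 (Subgroup.inv_mem _ (hcen hw)) x).symm
  refine ⟨a0, a1, t0 * w, ha0M, ha1M, ha0, ha1, ?_, ?_⟩
  · rw [map_mul, MonoidHom.mem_ker.1 hw, mul_one, ht0]
  · rw [wd_central_mul_at 4 5 (by norm_num) (gU a0 a1 t0) (gU a0 a1 (t0 * w)) w (hcen hw) rfl (by
        show (t0 * w)⁻¹ = t0⁻¹ * w⁻¹
        rw [mul_inv_rev, hwc]) (by
        intro x h0 h1
        match x, h0, h1 with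
        | 0, _, _ => rfl
        | 1, _, _ => rfl
        | 2, _, _ => rfl
        | 3, _, _ => rfl
        | 4, h0, _ => exact absurd rfl h0
        | 5, _, h1 => exact absurd rfl h1
        | _ + 6, _, _ => rfl), chk_yW]
    show _ * w ^ ((7 : ℕ) : ℤ) = 1
    rw [zpow_natCast, hwr, mul_inv_cancel]

variable (a0 a1 t : Γ) (ha0M : a0 ∈ Mt σ L) (ha1M : a1 ∈ Mt σ L) (ha0 : σ a0 = lK 0) (ha1 : σ a1 = lK 2) (ht : σ t = lK 4)
  (hy : VCert.wd (gU a0 a1 t) (wpow 7 yW) = 1)

include ha0 ha1 ht in
omit [Finite Γ] in
theorem wd_gU_mem_ker {i : ℕ} (hi : i < 779) : VCert.wd (gU a0 a1 t) (cert.W i) ∈ σ.ker := by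
  rw [MonoidHom.mem_ker, map_wd_gU σ a0 a1 t ha0 ha1 ht, wd_lK_W hi]

omit [Finite Γ] in
theorem gU_iv : ∀ x, x < 6 → gU a0 a1 t (Nat.xor x 1) = (gU a0 a1 t x)⁻¹
  | 0, _ => rfl
  | 1, _ => (inv_inv a0).symm
  | 2, _ => rfl
  | 3, _ => (inv_inv a1).symm
  | 4, _ => rfl
  | 5, _ => (inv_inv t).symm
  | x + 6, h => absurd h (by omega)

include ha0M ha1M in
omit [Finite Γ] in
theorem gU_mem_Mt : ∀ x, x < 4 → gU a0 a1 t x ∈ Mt σ L
  | 0, _ => ha0M
  | 1, _ => Subgroup.inv_mem _ ha0M
  | 2, _ => ha1M
  | 3, _ => Subgroup.inv_mem _ ha1M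
  | x + 4, h => absurd h (by omega)

/-- the central elements: the values of the given words -/
noncomputable def zU (j : ℕ) : Subgroup.center Γ :=
  ⟨VCert.wd (gU a0 a1 t) (cert.W (axI j)), hcen (wd_gU_mem_ker σ a0 a1 t ha0 ha1 ht (axI_lt j))⟩

include hsurj ha0M ha1M hy in
theorem hW0_U : ∀ i, i < cert.nW → cert.wT i = 0 →
    VCert.wd (gU a0 a1 t) (cert.W i) = (cert.ek (zU σ hcen a0 a1 t ha0 ha1 ht) i : Γ) := by
  intro i hi hT
  rcases chk_wT i hi hT with ⟨h4, h0⟩ | rfl | ⟨j, hj, rfl⟩
  · rw [VCert.ek, cert.kap_one _ h0]
    have hl : ∀ x ∈ (cert.W i).map (gU a0 a1 t), x ∈ Mt σ L := by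
      intro x hx
      obtain ⟨y, hy', rfl⟩ := List.mem_map.1 hx
      exact gU_mem_Mt σ a0 a1 t ha0M ha1M y (by simpa [Nat.blt] using List.all_eq_true.1 h4 y hy')
    have h1 : (((cert.W i).map (gU a0 a1 t)).map σ).prod = 1 := by
      rw [← map_list_prod]
      have := map_wd_gU σ a0 a1 t ha0 ha1 ht (cert.W i)
      rw [VCert.wd] at this
      rw [this]
      exact wd_lK_W hi
    exact prod_eq_one_of_Mt hsurj hcen L L_perfect F42L1.MF_L _ hl h1
  · rw [VCert.ek, cert.kap_one _ chk_ex, chk_W3]
    exact hy
  · rw [VCert.ek, cert.kap_unit _ hj (chk_ax j hj)]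
    rfl

include hcen hder ha0 ha1 ht in
omit [Finite Γ] in
theorem hgen_U : ∀ y : Γ, ∃ u : List ℕ, (∀ x ∈ u, x < cert.g) ∧ y = (u.map (gU a0 a1 t)).prod := by
  apply MG.exists_word_of_closure (gU a0 a1 t) 6 (fun x => Nat.xor x 1)
  · intro x hx
    refine ⟨?_, gU_iv a0 a1 t x hx⟩
    have : x = 0 ∨ x = 1 ∨ x = 2 ∨ x = 3 ∨ x = 4 ∨ x = 5 := by omega
    rcases this with rfl | rfl | rfl | rfl | rfl | rfl <;> decide
  · apply Cfsg.Agent.Lib.Helper7.M12Mult.closure_eq_top_of_stem (σ := σ) hcen hder
    intro g
    have hg : g ∈ Subgroup.closure (lK '' Set.Iio 6) := by rw [closure_lK]; exact Subgroup.mem_top g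
    induction hg using Subgroup.closure_induction with
    | mem y hy =>
      obtain ⟨x, hx, rfl⟩ := hy
      exact ⟨gU a0 a1 t x, Subgroup.subset_closure ⟨x, hx, rfl⟩, map_gU σ a0 a1 t ha0 ha1 ht x⟩
    | one => exact ⟨1, one_mem _, map_one σ⟩
    | mul p q _ _ ihp ihq =>
      obtain ⟨p', hp', rfl⟩ := ihp
      obtain ⟨q', hq', rfl⟩ := ihq
      exact ⟨p' * q', mul_mem hp' hq', map_mul σ p' q'⟩
    | inv p _ ihp =>
      obtain ⟨p', hp', rfl⟩ := ihp
      exact ⟨p'⁻¹, inv_mem hp', map_inv σ p'⟩

include hsurj hcen in
theorem hHK_U : ∀ u, u ∈ Mt σ L → u ∈ σ.ker → u = 1 := fun _ hu hk =>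
  eq_one_of_mem_Mt hsurj hcen L L_perfect F42L1.MF_L hu (MonoidHom.mem_ker.1 hk)

include ha0M ha1M in
omit [Finite Γ] in
theorem hsub_U : ∀ x, cert.sub x = true → gU a0 a1 t x ∈ Mt σ L := fun x hx =>
  gU_mem_Mt σ a0 a1 t ha0M ha1M x (lt_four_of_sub hx)

include hsurj hder ha0M ha1M hy in
/-- **the kernel is generated by the central elements** -/
theorem ker_eq_Zc_U : σ.ker = Zc (zU σ hcen a0 a1 t ha0 ha1 ht) 11 := by
  refine ker_eq_Zc_of_sub σ cert (gU a0 a1 t) (zU σ hcen a0 a1 t ha0 ha1 ht) (Mt σ L) 6048 hsurj
    (by rw [card_G]; rfl) (by decide) (by norm_num) (hHK_U σ hsurj hcen) ?_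
    (hsub_U σ a0 a1 t ha0M ha1M) ?_ (hgen_U σ hcen hder a0 a1 t ha0 ha1 ht) (by decide) (by decide) (gU_iv a0 a1 t) ?_
    (hW0_U σ hsurj hcen a0 a1 t ha0M ha1M ha0 ha1 ht hy) cert_all cert_wall
  · rw [← card_L]
    exact card_Mt_le hsurj hcen L L_perfect F42L1.MF_L
  · intro j _
    exact wd_gU_mem_ker σ a0 a1 t ha0 ha1 ht (axI_lt j)
  · intro i hi
    exact wd_gU_mem_ker σ a0 a1 t ha0 ha1 ht hi

include hsurj ha0M ha1M hy in
/-- the relations between the central elements -/
theorem rel_U : ∀ r ∈ relL, zprod (zU σ hcen a0 a1 t ha0 ha1 ht) 11 (fun l => r.getD l 0) = 1 := by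
  have hKn : ∀ u, u ∈ σ.ker → ∀ g : Γ, g * u * g⁻¹ ∈ σ.ker := fun u hu g =>
    (inferInstance : σ.ker.Normal).conj_mem u hu g
  have key : ∀ {i v row : ℕ}, i < 779 → cert.scan 4095 (cert.W i) row 0 = some (row, v) →
      cert.ek (zU σ hcen a0 a1 t ha0 ha1 ht) i = cert.kap (zU σ hcen a0 a1 t ha0 ha1 ht) v (cert.W i).length := by
    intro i v row hi h
    exact cert.close_spec (γ := gU a0 a1 t) (H := Mt σ L) σ.ker hKn
      (fun j _ => wd_gU_mem_ker σ a0 a1 t ha0 ha1 ht (axI_lt j)) (hHK_U σ hsurj hcen) (by decide) (by decide)
      (gU_iv a0 a1 t) (hsub_U σ a0 a1 t ha0M ha1M)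
      (fun i hi => wd_gU_mem_ker σ a0 a1 t ha0 ha1 ht hi) (hW0_U σ hsurj hcen a0 a1 t ha0M ha1M ha0 ha1 ht hy)
      cert_all cert_wall hi (chk_len i hi) h
  intro r hr
  simp only [relL, List.mem_cons, List.not_mem_nil, or_false] at hr
  rcases hr with rfl | rfl | rfl | rfl | rfl | rfl | rfl | rfl | rfl | rfl | rfl | rfl | rfl | rfl
  · exact cert.rel_of_close _ (key (by norm_num) close_0) _ chk_rel_0
  · exact cert.rel_of_close _ (key (by norm_num) close_1) _ chk_rel_1
  · exact cert.rel_of_close _ (key (by norm_num) close_2) _ chk_rel_2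
  · exact cert.rel_of_close _ (key (by norm_num) close_3) _ chk_rel_3
  · exact cert.rel_of_close _ (key (by norm_num) close_4) _ chk_rel_4
  · exact cert.rel_of_close _ (key (by norm_num) close_5) _ chk_rel_5
  · exact cert.rel_of_close _ (key (by norm_num) close_6) _ chk_rel_6
  · exact cert.rel_of_close _ (key (by norm_num) close_7) _ chk_rel_7
  · exact cert.rel_of_close _ (key (by norm_num) close_8) _ chk_rel_8
  · exact cert.rel_of_close _ (key (by norm_num) close_9) _ chk_rel_9
  · exact cert.rel_of_close _ (key (by norm_num) close_10) _ chk_rel_10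
  · exact cert.rel_of_close _ (key (by norm_num) close_11) _ chk_rel_11
  · exact cert.rel_of_close _ (key (by norm_num) close_12) _ chk_rel_12
  · exact cert.rel_of_close _ (key (by norm_num) close_13) _ chk_rel_13

include hsurj hcen hder ha0M ha1M ha0 ha1 ht hy in
/-- **the kernel is trivial** -/
theorem ker_eq_bot_U : σ.ker = ⊥ := by
  have hnd := not_dvd_card_ker σ hsurj hcen hder
  have copq : (Nat.card ↥σ.ker).Coprime 7 :=
    ((Nat.Prime.coprime_iff_not_dvd (by norm_num)).2 hnd).symm
  have hK := ker_eq_Zc_U σ hsurj hcen hder a0 a1 t ha0M ha1M ha0 ha1 ht hy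
  set S : Subgroup (Subgroup.center Γ) := σ.ker.comap (Subgroup.center Γ).subtype with hS
  have hzS : ∀ j, j < 11 → zU σ hcen a0 a1 t ha0 ha1 ht j ∈ S :=
    fun j _ => wd_gU_mem_ker σ a0 a1 t ha0 ha1 ht (axI_lt j)
  have hq : ∀ u, u ∈ S → u ^ 7 = 1 → u = 1 := by
    intro u hu huq
    have h1 : (⟨(u : Γ), hu⟩ : ↥σ.ker) ^ 7 = 1 := by
      apply Subtype.ext
      rw [Subgroup.coe_pow, Subgroup.coe_one]
      show (u : Γ) ^ 7 = 1
      rw [← Subgroup.coe_pow, huq, Subgroup.coe_one]
    have h2 := eq_one_of_pow_of_coprime 7 copq _ h1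
    apply Subtype.ext
    have h3 : ((⟨(u : Γ), hu⟩ : ↥σ.ker) : Γ) = ((1 : ↥σ.ker) : Γ) := congrArg Subtype.val h2
    exact h3
  obtain ⟨hz, _⟩ := abelian_of_relations_q (zU σ hcen a0 a1 t ha0 ha1 ht) 11 relL
    (rel_U σ hsurj hcen a0 a1 t ha0M ha1M ha0 ha1 ht hy) S hzS 7 hq [] [] [] lamL [] chk_lam chk_mu
  rw [hK]
  apply Zc_eq_bot_of_triv
  intro j hj
  rw [hz j hj]
  rfl

end upper

/-- **every finite stem extension of the group is an isomorphism** -/
theorem ker_eq_bot_of_stem {Γ : Type*} [Group Γ] [Finite Γ] (σ : Γ →* G) (hsurj : Function.Surjective σ)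
    (hcen : σ.ker ≤ Subgroup.center Γ) (hder : σ.ker ≤ commutator Γ) : σ.ker = ⊥ := by
  obtain ⟨a0, a1, t, ha0M, ha1M, ha0, ha1, ht, hy⟩ := exists_lifts σ hsurj hcen hder
  exact ker_eq_bot_U σ hsurj hcen hder a0 a1 t ha0M ha1M ha0 ha1 ht hy

universe u in
theorem MF_G : Cfsg.Agent.Lib.Helper7.M12Mult.MF.{u} G := fun _ _ _ τ hs hc hd =>
  ker_eq_bot_of_stem τ hs hc hd

end Cfsg.Agent.Lib.Helper7.F42A2
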