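import Cfsg.Agent.Lib.Helper7.F42A3T0
import Cfsg.Agent.Lib.Helper7.F42A3R
import Cfsg.Agent.Lib.Helper7.MGenC

/-! # The multiplier of the Chevalley group of type F4 over the field of two elements, the table of the symplectic subgroup: the certificate of the enumeration of the cosets (generated) -/

set_option autoImplicit false

namespace Cfsg.Agent.Lib.Helper7.F42A3

open Cfsg.Agent.Lib.Helper7.MG Cfsg.Agent.Lib.Helper7.HSMult

/-- the part of the table that contains a row -/
noncomputable def rowSel (a : ℕ) : ℕ := rl0

/-- a row of the table -/
noncomputable def rowOf (a : ℕ) : ℕ :=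
  strictN a fun a' => Nat.shiftRight (rowSel a') (Nat.mul 2696 (Nat.shiftRight a' 0))

/-- a word -/
noncomputable def wordOf (i : ℕ) : List ℕ :=
  strictN (Nat.land (Nat.shiftRight relP (Nat.mul 296 i)) 127314748520905380391777855525586135065716774604121015664758778084648831235208544136462335) fun v =>
    unp (Nat.land v 255) (Nat.shiftRight v 8)

/-- the certificate -/
noncomputable def cert : VCert where
  n := 240
  g := 8
  k := 14
  nW := 419
  B := 2048
  iv := fun x => Nat.xor x 1
  sub := fun x => Nat.beq x 0 || Nat.beq x 1 || Nat.beq x 2 || Nat.beq x 3 || Nat.beq x 4 || Nat.beq x 5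
  sl := fun a x => Nat.land (Nat.shiftRight (rowOf a) (Nat.mul 334 x)) 34996011596528190789960035633881941845650710894291398982812329702559247987190014771576210832368861183
  pr := fun a => Nat.land (Nat.shiftRight (rowOf a) 2672) 16777215
  W := wordOf
  rhs := fun i => Nat.land (Nat.shiftRight rhsP (Nat.mul 280 i)) 1942668892225729070919461906823518906642406839052139521251812409738904285205208498175
  wT := fun i => Nat.land (Nat.shiftRight wtaP (Nat.mul 32 i)) 4095
  wA := fun i => Nat.land (Nat.shiftRight wtaP (Nat.add (Nat.mul 32 i) 12)) 1048575

/-- the check of the rows from `lo` to `lo + k` -/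
noncomputable def rowsOK (lo k : ℕ) : Bool := allN k fun i => allN 8 fun x => cert.slotOK (Nat.add lo i) x

/-- the check of the words -/
noncomputable def wordsOK : Bool := allN 419 fun i => cert.wordOK i

end Cfsg.Agent.Lib.Helper7.F42A3
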