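import Cfsg.Agent.Lib.Helper7.F42A3K0

/-! # The multiplier of the Chevalley group of type F4 over the field of two elements, the table of the symplectic subgroup: all the rows and words of the certificate are checked, and the words that give the relations
between the classes are traced (generated) -/

set_option autoImplicit false
set_option maxRecDepth 100000

namespace Cfsg.Agent.Lib.Helper7.F42A3

open Cfsg.Agent.Lib.Helper7.MG Cfsg.Agent.Lib.Helper7.HSMult

theorem rows_ok_all : ∀ k, k < 8 → rowsOK (30 * k) 30 = true
  | 0, _ => rows_ok_0
  | 1, _ => rows_ok_1
  | 2, _ => rows_ok_2
  | 3, _ => rows_ok_3
  | 4, _ => rows_ok_4
  | 5, _ => rows_ok_5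
  | 6, _ => rows_ok_6
  | 7, _ => rows_ok_7
  | k + 8, h => absurd h (by omega)

/-- **every entry of the table is justified** -/
theorem cert_all : ∀ a, a < cert.n → ∀ x, x < cert.g → cert.slotOK a x = true := by
  intro a ha x hx
  have ha' : a < 240 := ha
  have hx' : x < 8 := hx
  have h1 := rows_ok_all (a / 30) (by omega)
  rw [rowsOK, allN_iff] at h1
  have h2 := h1 (a % 30) (Nat.mod_lt _ (by norm_num))
  rw [allN_iff] at h2
  have h3 := h2 x hx'
  have e : Nat.add (30 * (a / 30)) (a % 30) = a := Nat.div_add_mod a 30
  rw [e] at h3
  exact h3

theorem words_ok : wordsOK = true := by decide +kernel

/-- **every word of the certificate is justified** -/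
theorem cert_wall : ∀ i, i < cert.nW → cert.wordOK i = true := by
  intro i hi
  have h := words_ok
  rw [wordsOK, allN_iff] at h
  exact h i hi

theorem close_0 : cert.scan 4095 (cert.W 90) 145 0 = some (145, 68304429070901134717517086940012035609300821471760715146174994683164316852394430478) := by decide +kernel

theorem close_1 : cert.scan 4095 (cert.W 44) 65 0 = some (65, 60701050095043760299927828238052581528731170419849148786804813307881691903103631350) := by decide +kernel

theorem close_2 : cert.scan 4095 (cert.W 81) 126 0 = some (126, 68276638983618975568802504887931224031944179216320940579862134855710857265037742215) := by decide +kernel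

theorem close_3 : cert.scan 4095 (cert.W 302) 120 0 = some (120, 75926334796938103309379575919847699804849208206104602321594784977447783692755836931) := by decide +kernel

theorem close_4 : cert.scan 4095 (cert.W 243) 201 0 = some (201, 75915218728101757808187977526552697811210417933931818103365500833803484619491811277) := by decide +kernel

theorem close_5 : cert.scan 4095 (cert.W 137) 24 0 = some (24, 68313692427439037624479059687943735623044841026385655354721960056153227642095570947) := by decide +kernel

theorem close_6 : cert.scan 4095 (cert.W 336) 7 0 = some (7, 75885575967391781380388224921438639383227789711992166979337700143445214596651065257) := by decide +kernel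

theorem close_7 : cert.scan 4095 (cert.W 251) 110 0 = some (110, 75941156156090923375943096494859961504915727147601002378112558993436852457878626325) := by decide +kernel

theorem close_8 : cert.scan 4095 (cert.W 415) 195 0 = some (195, 75876312621454959177101498382941015644817891494804482725516445155220978771602481073) := by decide +kernel

theorem close_9 : cert.scan 4095 (cert.W 2) 178 0 = some (178, 7588557597269233268470177116895914399644563729592600262827139078503126219721019394) := by decide +kernel

theorem close_10 : cert.scan 4095 (cert.W 299) 68 0 = some (68, 75874459932125550329944322230486830860851657144371362089404237031819587711477522435) := by decide +kernel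

theorem close_11 : cert.scan 4095 (cert.W 155) 151 0 = some (151, 68272933703903556432149400771046015851069371407293497235536121778393548118556708854) := by decide +kernel

theorem close_12 : cert.scan 4095 (cert.W 70) 230 0 = some (230, 64489770898130844663675145206110965082579024302752591902113114349267368761814452218) := by decide +kernel

theorem close_13 : cert.scan 4095 (cert.W 208) 7 0 = some (7, 72083886476812833684402805408304035769034909117797710674352623330708521115040389122) := by decide +kernel

theorem close_14 : cert.scan 4095 (cert.W 22) 6 0 = some (6, 49325624378716322115499382597591857514472049493980252536834176807295060325548713987) := by decide +kernel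

theorem close_15 : cert.scan 4095 (cert.W 377) 2 0 = some (2, 75887428644353286049043497370498455376469752039090464865969760814043609468050120716) := by decide +kernel

theorem close_16 : cert.scan 4095 (cert.W 3) 71 0 = some (71, 53108787147385238783645721257023024669872076703389453686780855177385538341687029761) := by decide +kernel

end Cfsg.Agent.Lib.Helper7.F42A3
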