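import Cfsg.Agent.Lib.Helper7.F42A2U
import Cfsg.Agent.Lib.Helper7.F42A3D
import Cfsg.Agent.Lib.Helper7.MGenF
import Cfsg.Agent.Lib.Helper7.MGenH

/-!
# The multiplier of the Chevalley group of type F4 over the field of two elements, the table of the symplectic subgroup: every finite stem extension of the subgroup generated by the eight letters is an isomorphism

In a finite stem extension the derived subgroup of the preimage of `L` is a copy of `L`, since `L` is perfect and has
no proper stem extensions; the letters of `L` are lifted into this copy, so that all the words in these letters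
that are trivial in the group are trivial in the extension.  The lift of the last letter is chosen so that one more
given word is trivial; this is possible since the kernel has order prime to seven, the Sylow subgroups for this
prime being cyclic.  The checked table over the copy of `L` shows that the kernel is generated by the values of the
other given words; the traced words give relations between them, which make their seventh powers trivial, so that
they are trivial.
-/

set_option autoImplicit false
set_option maxRecDepth 100000

namespace Cfsg.Agent.Lib.Helper7.F42A3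

open Cfsg Cfsg.Agent.Lib.Helper7.MG Cfsg.Agent.Lib.Helper7.HSMult Cfsg.Agent.Lib.Helper7.F42V3
open Cfsg.Agent.Lib.Helper7.M12Mult
open scoped IsMulCommutative

/-! ### the data of the certificate -/

/-- the words that define the central elements -/
def axI : ℕ → ℕ
  | 0 => 418
  | 1 => 4
  | 2 => 6
  | 3 => 9
  | 4 => 35
  | 5 => 19
  | 6 => 17
  | 7 => 7
  | 8 => 102
  | 9 => 341
  | 10 => 117
  | 11 => 370
  | 12 => 180
  | 13 => 29
  | _ => 0

theorem axI_lt : ∀ j, axI j < 419
  | 0 => by decide
  | 1 => by decide
  | 2 => by decide
  | 3 => by decide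
  | 4 => by decide
  | 5 => by decide
  | 6 => by decide
  | 7 => by decide
  | 8 => by decide
  | 9 => by decide
  | 10 => by decide
  | 11 => by decide
  | 12 => by decide
  | 13 => by decide
  | _ + 14 => by
    show (0 : ℕ) < 419
    decide

/-- the word of which a power is the trivial word that is not a word in the letters of `L` -/
def yW : List ℕ := [6, 2]

theorem chk_wT : ∀ i, i < 419 → cert.wT i = 0 →
    (((cert.W i).all fun x => Nat.blt x 6) = true ∧
      ∀ l, l < 14 → ((fld (cert.rhs i) l : ℤ) - ((cert.W i).length : ℤ) * (cert.B : ℤ)) = 0) ∨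
    i = 3 ∨ ∃ j, j < 14 ∧ i = axI j := by decide +kernel

theorem chk_W3 : cert.W 3 = wpow 7 yW := by decide +kernel

theorem chk_yW : expsumL 6 7 (wpow 7 yW) = 7 := by decide

theorem chk_len : ∀ i, i < 419 → (cert.W i).length ≤ 255 := by decide +kernel

theorem chk_ax : ∀ j, j < 14 → ∀ l, l < 14 →
    ((fld (cert.rhs (axI j)) l : ℤ) - ((cert.W (axI j)).length : ℤ) * (cert.B : ℤ)) = if l = j then 1 else 0 := by
  decide +kernel

theorem chk_ex : ∀ l, l < 14 →
    ((fld (cert.rhs 3) l : ℤ) - ((cert.W 3).length : ℤ) * (cert.B : ℤ)) = 0 := by
  decide +kernel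

/-- the relations between the central elements that the traced words give -/
def relL : List (List ℤ) := [[(-14), (-10), 1, 6, 1, 10, 11, 1, 2, (-10), 0, 0, (-1), (-4)],
    [10, (-14), 2, (-2), 8, (-4), 0, (-1), 2, 5, (-2), 0, (-6), 4],
    [(-114), 26, 18, (-6), 16, 46, (-2), 18, 0, 0, 2, (-10), (-10), 14],
    [(-3), 8, 10, 2, 13, (-8), 11, 1, (-4), 5, 2, 0, (-5), (-22)],
    [51, (-19), (-9), 7, (-10), (-35), (-13), 12, (-2), 5, 0, 6, 11, (-16)],
    [(-1), 2, (-1), 0, (-1), 3, 4, (-1), (-1), 0, 1, 0, 5, (-9)],
    [87, (-24), (-20), 9, (-2), (-39), (-3), (-12), (-5), 10, (-1), 6, 3, 0],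
    [(-35), 26, 11, (-13), 1, 23, 12, 3, (-1), (-16), 4, 0, 10, (-29)],
    [79, (-31), (-1), (-5), (-19), (-34), 0, (-5), 3, 6, (-3), 7, (-9), 5],
    [(-2), 0, (-2), 2, 0, 2, 0, 0, 0, 0, 0, 0, 0, 0],
    [(-3), (-2), 1, 4, 0, 3, 4, (-4), (-2), 0, (-2), 0, 0, 6],
    [9, (-2), 4, 24, 3, 30, 1, (-3), 2, (-13), 3, (-4), (-47), 13],
    [6, 8, 3, 5, 5, 3, (-3), 0, (-1), (-6), 1, 0, (-20), 7],
    [(-2), (-2), 0, (-2), 1, (-7), 2, 0, 0, 0, 0, 0, 2, 4],
    [(-3), 2, 1, (-5), (-3), 3, 0, 0, 0, 2, 0, 0, 2, 0],
    [(-11), 0, 0, 4, 9, 3, 0, 1, 0, (-1), 0, (-2), 0, 0],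
    [(-1), (-1), 1, 0, 0, (-4), (-2), 1, 0, 2, (-1), 0, (-4), 6]]

/-- the combinations of the relations that give the seventh powers of the central elements -/
def lamL : List (List ℤ) := [[(-98378449203481220337745649656301663570433066989312767465731), 182022017806347681722345263918226087129666684754376731602729, (-163673736184790697113816678423654122049720538545859347277915), 22989852133797653239793186638178442122924549239372467928047, 134574319194873922017591435056113208711079791864524214125144, (-61538549519228774554439771195937513443809934758170766401178), (-137097180693615617527236820740344567780664502572106772700511), 19421754197758165553565053953657723690315862200050326727439, (-153436269762882606315445440310433732350816432083094116170278), 421778441608551314793582336135378587806141591604417422938218, 157361759870655934225451705792256666669529509469244070507384, 117566281232308504099116927282896192366299865824464451847565, (-6117977494999516787103445147110855797482543276597654342658), 543913798676669148854783140653543572389890131890482256927199, 725458217905354847524864755553608888245152963480592803531832,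 38640589793022268737854339413266085079391316666790750372371, (-2)],
    [(-48324755095952635157984515333987349043837141056286634384657), 89411547994310324318833017379685340665082820671754831828644, (-80398636904815999960566108284116258887060981083354068899442), 11292910012842757827384214681137395058509671463663011606261, 66104630332663500709013773974266226294775413507489861306359, (-30228524220034687802019513894249421937766792218398033910177), (-67343892234582018743493516720738069694604801515334727069693), 9540214576865293839980282409516225456191652949274739874079, (-75369862191987524838920572473192732646432574900404921787814), 207182976154949914856668204191442370196032121314388157900708, 77298113243164067680150184651642399341837417379681772347991, 57750064105423612809919203120121392279902463160096331949001, (-3005228955346650983584267975882716689666639933284090926647), 267177428869545746174605761562413775686630727703567645783955, 356354374321464357911458936537254307253864478684970699342590, 18980752935520883143330903284748415413497802921625857051857, (-2)],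
    [1729184973575794221219061291779964883351614161537225502631, (-3199376902147226826740074898494929601889179892446867890595), 2876871585913694116109085703962181721731355688675257978850, (-404089586452696252947298777323277050404011412432267349312), (-2365394987063224602685896446579870738004507785609993935988), 1081654935464614271886231566301842710040668388166704261239, 2409738989528783656370306003414964866565032510951880284254, (-341373601547457888488453883234984462779262022884315115958), 2696928994344322205417043401051060118271231580578449466558, (-7413543812824346611650671870502636941463315458973784487234), (-2765926814123350263304115089182538141042350956741089144741), (-2066446956137828767090389425165199752684880157821923811826), 107534880237303949548234620069094791991997178661660992249, (-9560300809854039520654439035338774153652838150081038164909), (-12751283025049186914600521472227634665674431145358947142259), (-679180529691008166351769095296516303656133419682210092847), (-2)],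
    [(-21085034919554530580125562972108121538639272829655870715), 39012005501696890309705909598870892003353815302810861434, (-35079496280046548257045269724625248047227675888202085840), 4927317303344579225946157171650397728184442308220826380, 28842741906108296806905160413593663674687384675157396046, (-13189295785989677262204643502400272636102220355903363901), (-29383456089233334145076676666647746931661833851985406476), 4162582036760189584211668682598012674956534982795727410, (-32885343610011770555068719141504842119278611015882509128), 90397980875235231455769680012348591617279545383921060572, 33726677221884132016785896016306883569343955113787268779, 25197481411992772836818563716300375328002552759464362398, (-1311240115732062680198720131749925553747236760146787449), 116574732893017584765070110687103052487404330657741085997, 155484376721308709033153588876460180373679088880270754644, 8281673391830886654334155436096292391734787836008891166, (-2)],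
    [(-244269528137737519936712114800402194410011240259006309), 451952971003552443174432042174133175883102669678020586, (-406394963837106393931493152992849167197491629537017335), 57082830418111458813536112518400100859451175584245436, 334142342305045227385887499631174555805985902951589442, (-152797615484376681037672634705833806998764764480573307), (-340406500693838901584803078192501914643831941540381242), 48223394167161091551390158047533001335354990359176272, (-380975767738242379599584354074460747972573902373083074), 1047258030031493635145937002571068362310910687914999687, 390722593634550738595433998526130439271261176572136494, 291912103453937494070800962138512660352373596526489350, (-15190679340449973988200861966294974976521034789372339), 1350514955521914195435473539927554022905658066263439785, 1801282069458707560671579608627635552191763129198930071, 95942950027427630320571865742625820865164180559941816, (-2)],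
    [564146269458514011309951628635804765536290306788311, (-1043796107136933506926592844343587683080478771276486), 938578808921896158621779894746719134252656053599842, (-131834150890699956979858225801112488501192827503174), (-771709665616694093630710457585340525425291847606440), 352889717415188297675868896795804965468101584440513, 786176888005327553340278527715780652522567095344752, (-111373072717818258507327017308658101451558565124666), 879872572572503879975834596481107477823654192181468, (-2418667261966455090443160205204857697207261454690607), (-902383098180771538602999047807831240912481423671686), (-674177927262654899986588877309724114318141899647954), 35083234269086135237960999333051729797241204801487, (-3119046324828568733034475660044690014467882622656596), (-4160103666940558485539593519020891935649795684092539), (-221582518914507034091596421038950888952381052853228), (-2)],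
    [8224658974803688437086243833225897425928410327, (-15217448887269905786366897342760901597193249819), 13683491396246310924926722658897182417013511648, (-1922003194933039045482817778220898212597240000), (-11250714878163070945604967481831832897712935089), 5144760744834104389847480645219394081526009374, 11461631757172770990434570168718449174581548604, (-1623702205740507252654574567294349861187091185), 12827616245052950859300971926516373007365791250, (-35261623589729563877970600907666977513254724396), (-13155796021282423415887528653654173713238779132), (-9828804762632752933836094680954914425681749096), 511476638626604827219925860907597807249923807, (-45472413338747100113917074469985040975305833438), (-60649933913872173817978882396371209669941805109), (-3230439961251620614919214129108928877317950128), (-3)],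
    [549520077201375820402757756501010701318039, (-1016734397493988000913839030797408853931127), 914244988331459841332846215235624446977179, (-128416186895591519485096388463155378105912), (-751702134685335828674719105556261946221096), 343740613482557806522499700518717981236537, 765794276376748640388201440704990550695053, (-108485587570743591410510989366711126623991), 857060784025926267959795370472847411688392, (-2355960311136979023662914818585737336303877), (-878987696317612441739965844742069547395535), (-656699027705050634037992139630061290156861), 34173657875158376497998823337948241094377, (-3038181177480080038853670804561873756302130), (-4052247815831766036953766570320042662153763), (-215837717082217565588515994816847900240930), (-4)],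
    [(-1334109110777526631778013021711592722), 2468398661329625683976359139734854098, (-2219577808016511830343031568550749278), 311765142014886398773533181872316298, 1824960921504454765454622448902476467, (-834523620186644788465336242926089856), (-1859173419647615577502491216931305731), 263378203583168129546710564662064382, (-2080747633976084977625184045771277730), 5719732992696978630645264300186207707, 2133981163874644651550178859281748130, 1594315098298028001048807376725446904, (-82965828204190709053898728753576894), 7376009280155233492827716240857617855, 9837931232216599102908788779397916700, 524004630140723291785792625016892735, (-5)],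
    [705808708343556107151225205829, (-1305903135474917516124684315016), 1174264783208873843293520628365, (-164938947207869587480485122328), (-965493227187263871697687507176), 441503647406203019926361997595, 983593305305730023009217069151, (-139339899694217345920174044905), 1100816858277548658690884370816, (-3026017379712419490760555715937), (-1128979988770205960778783996687), (-843470351211783697309029672905), 43892964652137989330285746857, (-3902268218318613356540861299458), (-5204744859089298480233127966421), (-277223975293983062496859812234), (-2)],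
    [10991777197581203782523078, (-20337233215003087334491911), 18287188462564646982945130, (-2568645211487015460723478), (-15035924484301449148660583), 6875672780515276337636015, 15317802596012354525756475, (-2169983331272018461029005), 17143361223078636938925830, (-47125104069440410503006067), (-17581954360145760055521491), (-13135624516512297686832927), 683558706904998085042645, (-60771229249387552291686339), (-81055100603149220132538528), (-4317294663890694123531715), (-5)],
    [284665094515315193102, (-526693755819834684424), 473601687747172744657, (-66522785056557378172), (-389400438847204270465), 178066204103233371058, 396700519431956375966, (-56198237918172116830), 443978844836098388451, (-1220446153777874029950), (-455337531841185749812), (-340186461870197513152), 17702806417027575589, (-1573853564089310853090), (-2099165354190522300827), (-111809316314868020903), (-6)],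
    [(-3646391835410), 6746636127805, (-6066558073715), 852117611089, 4987989775615, (-2280922969885), (-5081499498988), 719866256375, (-5687106941090), 15633194854008, 5832605017092, 4357587779394, (-226762501012), 20160135179184, 26889069141842, 1432211345853, (-3)],
    [(-19217), 35553, (-31968), 4490, 26285, (-12019), (-26778), 3794, (-29968), 82387, 30737, 22963, (-1195), 106239, 141692, 7547, (-3)]]

theorem chk_rel_0 : ∀ l, l < 14 → ((fld (cert.rhs 90) l : ℤ) - (fld 68304429070901134717517086940012035609300821471760715146174994683164316852394430478 l : ℤ)) = (relL.getD 0 []).getD l 0 := by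
  decide +kernel

theorem chk_rel_1 : ∀ l, l < 14 → ((fld (cert.rhs 44) l : ℤ) - (fld 60701050095043760299927828238052581528731170419849148786804813307881691903103631350 l : ℤ)) = (relL.getD 1 []).getD l 0 := by
  decide +kernel

theorem chk_rel_2 : ∀ l, l < 14 → ((fld (cert.rhs 81) l : ℤ) - (fld 68276638983618975568802504887931224031944179216320940579862134855710857265037742215 l : ℤ)) = (relL.getD 2 []).getD l 0 := by
  decide +kernel

theorem chk_rel_3 : ∀ l, l < 14 → ((fld (cert.rhs 302) l : ℤ) - (fld 75926334796938103309379575919847699804849208206104602321594784977447783692755836931 l : ℤ)) = (relL.getD 3 []).getD l 0 := by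
  decide +kernel

theorem chk_rel_4 : ∀ l, l < 14 → ((fld (cert.rhs 243) l : ℤ) - (fld 75915218728101757808187977526552697811210417933931818103365500833803484619491811277 l : ℤ)) = (relL.getD 4 []).getD l 0 := by
  decide +kernel

theorem chk_rel_5 : ∀ l, l < 14 → ((fld (cert.rhs 137) l : ℤ) - (fld 68313692427439037624479059687943735623044841026385655354721960056153227642095570947 l : ℤ)) = (relL.getD 5 []).getD l 0 := by
  decide +kernel

theorem chk_rel_6 : ∀ l, l < 14 → ((fld (cert.rhs 336) l : ℤ) - (fld 75885575967391781380388224921438639383227789711992166979337700143445214596651065257 l : ℤ)) = (relL.getD 6 []).getD l 0 := by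
  decide +kernel

theorem chk_rel_7 : ∀ l, l < 14 → ((fld (cert.rhs 251) l : ℤ) - (fld 75941156156090923375943096494859961504915727147601002378112558993436852457878626325 l : ℤ)) = (relL.getD 7 []).getD l 0 := by
  decide +kernel

theorem chk_rel_8 : ∀ l, l < 14 → ((fld (cert.rhs 415) l : ℤ) - (fld 75876312621454959177101498382941015644817891494804482725516445155220978771602481073 l : ℤ)) = (relL.getD 8 []).getD l 0 := by
  decide +kernel

theorem chk_rel_9 : ∀ l, l < 14 → ((fld (cert.rhs 2) l : ℤ) - (fld 7588557597269233268470177116895914399644563729592600262827139078503126219721019394 l : ℤ)) = (relL.getD 9 []).getD l 0 := by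
  decide +kernel

theorem chk_rel_10 : ∀ l, l < 14 → ((fld (cert.rhs 299) l : ℤ) - (fld 75874459932125550329944322230486830860851657144371362089404237031819587711477522435 l : ℤ)) = (relL.getD 10 []).getD l 0 := by
  decide +kernel

theorem chk_rel_11 : ∀ l, l < 14 → ((fld (cert.rhs 155) l : ℤ) - (fld 68272933703903556432149400771046015851069371407293497235536121778393548118556708854 l : ℤ)) = (relL.getD 11 []).getD l 0 := by
  decide +kernel

theorem chk_rel_12 : ∀ l, l < 14 → ((fld (cert.rhs 70) l : ℤ) - (fld 64489770898130844663675145206110965082579024302752591902113114349267368761814452218 l : ℤ)) = (relL.getD 12 []).getD l 0 := by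
  decide +kernel

theorem chk_rel_13 : ∀ l, l < 14 → ((fld (cert.rhs 208) l : ℤ) - (fld 72083886476812833684402805408304035769034909117797710674352623330708521115040389122 l : ℤ)) = (relL.getD 13 []).getD l 0 := by
  decide +kernel

theorem chk_rel_14 : ∀ l, l < 14 → ((fld (cert.rhs 22) l : ℤ) - (fld 49325624378716322115499382597591857514472049493980252536834176807295060325548713987 l : ℤ)) = (relL.getD 14 []).getD l 0 := by
  decide +kernel

theorem chk_rel_15 : ∀ l, l < 14 → ((fld (cert.rhs 377) l : ℤ) - (fld 75887428644353286049043497370498455376469752039090464865969760814043609468050120716 l : ℤ)) = (relL.getD 15 []).getD l 0 := by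
  decide +kernel

theorem chk_rel_16 : ∀ l, l < 14 → ((fld (cert.rhs 3) l : ℤ) - (fld 53108787147385238783645721257023024669872076703389453686780855177385538341687029761 l : ℤ)) = (relL.getD 16 []).getD l 0 := by
  decide +kernel

theorem chk_lam : ∀ j, j < 14 → ∀ l, l < 14 →
    ((7 : ℕ) : ℤ) * ((if l = j then 1 else 0) - dotL (([] : List (List ℤ)).getD j []) [] l) =
      dotL (lamL.getD j []) relL l := by
  decide +kernel

theorem chk_mu : ∀ t, t < ([] : List (List ℤ)).length → ∀ l, l < 14 →
    ((7 : ℕ) : ℤ) * (([] : List ℤ).getD t 0 * (([] : List (List ℤ)).getD t []).getD l 0) =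
      dotL (([] : List (List ℤ)).getD t []) relL l := by
  intro t ht
  exact absurd ht (Nat.not_lt_zero t)

section upper

universe u

variable {Γ : Type u} [Group Γ] [Finite Γ] (σ : Γ →* G) (hsurj : Function.Surjective σ)
  (hcen : σ.ker ≤ Subgroup.center Γ) (hder : σ.ker ≤ commutator Γ)

include hsurj hcen hder in
theorem not_dvd_card_ker : ¬ 7 ∣ Nat.card σ.ker := by
  have hperf := perfect_of_stem σ hsurj hcen hder G_perfect
  have : Fact (Nat.Prime 7) := ⟨by norm_num⟩
  exact Cfsg.Agent.S0102.result G_perfect
    (fun P => isCyclic_sylow_of_card_eq 7 6768230400 (by rw [card_G]) (by norm_num) P) σ hsurj hcen hperf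

/-! ### the letters in the extension -/

/-- the letters in the extension -/
def gU (a0 a1 a2 t : Γ) : ℕ → Γ
  | 0 => a0
  | 1 => a0⁻¹
  | 2 => a1
  | 3 => a1⁻¹
  | 4 => a2
  | 5 => a2⁻¹
  | 6 => t
  | 7 => t⁻¹
  | _ => 1

omit [Finite Γ] in
theorem map_gU (a0 a1 a2 t : Γ) (ha0 : σ a0 = lK 0) (ha1 : σ a1 = lK 2) (ha2 : σ a2 = lK 4) (ht : σ t = lK 6) : ∀ x, σ (gU a0 a1 a2 t x) = lK x
  | 0 => ha0
  | 1 => by
    show σ a0⁻¹ = lK 1
    rw [map_inv, ha0]
    exact (lK_iv (x := 0) (by norm_num)).symm
  | 2 => ha1
  | 3 => by
    show σ a1⁻¹ = lK 3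
    rw [map_inv, ha1]
    exact (lK_iv (x := 2) (by norm_num)).symm
  | 4 => ha2
  | 5 => by
    show σ a2⁻¹ = lK 5
    rw [map_inv, ha2]
    exact (lK_iv (x := 4) (by norm_num)).symm
  | 6 => ht
  | 7 => by
    show σ t⁻¹ = lK 7
    rw [map_inv, ht]
    exact (lK_iv (x := 6) (by norm_num)).symm
  | x + 8 => by
    show σ 1 = lK (x + 8)
    rw [map_one, lK_of_ge (by omega)]

omit [Finite Γ] in
theorem map_wd_gU (a0 a1 a2 t : Γ) (ha0 : σ a0 = lK 0) (ha1 : σ a1 = lK 2) (ha2 : σ a2 = lK 4) (ht : σ t = lK 6) :
    ∀ w : List ℕ, σ (VCert.wd (gU a0 a1 a2 t) w) = VCert.wd lK w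
  | [] => map_one σ
  | x :: w => by
    rw [VCert.wd_cons, VCert.wd_cons, map_mul, map_gU σ a0 a1 a2 t ha0 ha1 ha2 ht x, map_wd_gU a0 a1 a2 t ha0 ha1 ha2 ht w]

include hsurj hcen hder in
/-- **lifts of the generators: those of `L` in the copy of `L`, the last such that the given word is trivial** -/
theorem exists_lifts : ∃ a0 a1 a2 t : Γ, a0 ∈ Mt σ L ∧ a1 ∈ Mt σ L ∧ a2 ∈ Mt σ L ∧ σ a0 = lK 0 ∧ σ a1 = lK 2 ∧ σ a2 = lK 4 ∧ σ t = lK 6 ∧
    VCert.wd (gU a0 a1 a2 t) (wpow 7 yW) = 1 := by
  have hnd := not_dvd_card_ker σ hsurj hcen hder
  have cop : (Nat.card ↥σ.ker).Coprime 7 :=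
    ((Nat.Prime.coprime_iff_not_dvd (by norm_num)).2 hnd).symm
  obtain ⟨a0, ha0M, ha0⟩ := exists_mem_Mt (σ := σ) hsurj L L_perfect (lK 0) (lK_mem_L (by norm_num))
  obtain ⟨a1, ha1M, ha1⟩ := exists_mem_Mt (σ := σ) hsurj L L_perfect (lK 2) (lK_mem_L (by norm_num))
  obtain ⟨a2, ha2M, ha2⟩ := exists_mem_Mt (σ := σ) hsurj L L_perfect (lK 4) (lK_mem_L (by norm_num))
  obtain ⟨t0, ht0⟩ := hsurj (lK 6)
  have hk2 : VCert.wd (gU a0 a1 a2 t0) (wpow 7 yW) ∈ σ.ker := by
    rw [MonoidHom.mem_ker, map_wd_gU σ a0 a1 a2 t0 ha0 ha1 ha2 ht0, ← chk_W3]
    exact wd_lK_W (by norm_num)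
  obtain ⟨w, hw, hwr⟩ := exists_root σ.ker 7 cop _ (Subgroup.inv_mem _ hk2)
  have hwc : ∀ x : Γ, w⁻¹ * x = x * w⁻¹ := fun x =>
    (Subgroup.mem_center_iff.1 (Subgroup.inv_mem _ (hcen hw)) x).symm
  refine ⟨a0, a1, a2, t0 * w, ha0M, ha1M, ha2M, ha0, ha1, ha2, ?_, ?_⟩
  · rw [map_mul, MonoidHom.mem_ker.1 hw, mul_one, ht0]
  · rw [wd_central_mul_at 6 7 (by norm_num) (gU a0 a1 a2 t0) (gU a0 a1 a2 (t0 * w)) w (hcen hw) rfl (by
        show (t0 * w)⁻¹ = t0⁻¹ * w⁻¹
        rw [mul_inv_rev, hwc]) (by
        intro x h0 h1
        match x, h0, h1 with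
        | 0, _, _ => rfl
        | 1, _, _ => rfl
        | 2, _, _ => rfl
        | 3, _, _ => rfl
        | 4, _, _ => rfl
        | 5, _, _ => rfl
        | 6, h0, _ => exact absurd rfl h0
        | 7, _, h1 => exact absurd rfl h1
        | _ + 8, _, _ => rfl), chk_yW]
    show _ * w ^ ((7 : ℕ) : ℤ) = 1
    rw [zpow_natCast, hwr, mul_inv_cancel]

variable (a0 a1 a2 t : Γ) (ha0M : a0 ∈ Mt σ L) (ha1M : a1 ∈ Mt σ L) (ha2M : a2 ∈ Mt σ L) (ha0 : σ a0 = lK 0) (ha1 : σ a1 = lK 2) (ha2 : σ a2 = lK 4) (ht : σ t = lK 6)
  (hy : VCert.wd (gU a0 a1 a2 t) (wpow 7 yW) = 1)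

include ha0 ha1 ha2 ht in
omit [Finite Γ] in
theorem wd_gU_mem_ker {i : ℕ} (hi : i < 419) : VCert.wd (gU a0 a1 a2 t) (cert.W i) ∈ σ.ker := by
  rw [MonoidHom.mem_ker, map_wd_gU σ a0 a1 a2 t ha0 ha1 ha2 ht, wd_lK_W hi]

omit [Finite Γ] in
theorem gU_iv : ∀ x, x < 8 → gU a0 a1 a2 t (Nat.xor x 1) = (gU a0 a1 a2 t x)⁻¹
  | 0, _ => rfl
  | 1, _ => (inv_inv a0).symm
  | 2, _ => rfl
  | 3, _ => (inv_inv a1).symm
  | 4, _ => rfl
  | 5, _ => (inv_inv a2).symm
  | 6, _ => rfl
  | 7, _ => (inv_inv t).symm
  | x + 8, h => absurd h (by omega)

include ha0M ha1M ha2M in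
omit [Finite Γ] in
theorem gU_mem_Mt : ∀ x, x < 6 → gU a0 a1 a2 t x ∈ Mt σ L
  | 0, _ => ha0M
  | 1, _ => Subgroup.inv_mem _ ha0M
  | 2, _ => ha1M
  | 3, _ => Subgroup.inv_mem _ ha1M
  | 4, _ => ha2M
  | 5, _ => Subgroup.inv_mem _ ha2M
  | x + 6, h => absurd h (by omega)

/-- the central elements: the values of the given words -/
noncomputable def zU (j : ℕ) : Subgroup.center Γ :=
  ⟨VCert.wd (gU a0 a1 a2 t) (cert.W (axI j)), hcen (wd_gU_mem_ker σ a0 a1 a2 t ha0 ha1 ha2 ht (axI_lt j))⟩

include hsurj ha0M ha1M ha2M hy in
theorem hW0_U : ∀ i, i < cert.nW → cert.wT i = 0 →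
    VCert.wd (gU a0 a1 a2 t) (cert.W i) = (cert.ek (zU σ hcen a0 a1 a2 t ha0 ha1 ha2 ht) i : Γ) := by
  intro i hi hT
  rcases chk_wT i hi hT with ⟨h4, h0⟩ | rfl | ⟨j, hj, rfl⟩
  · rw [VCert.ek, cert.kap_one _ h0]
    have hl : ∀ x ∈ (cert.W i).map (gU a0 a1 a2 t), x ∈ Mt σ L := by
      intro x hx
      obtain ⟨y, hy', rfl⟩ := List.mem_map.1 hx
      exact gU_mem_Mt σ a0 a1 a2 t ha0M ha1M ha2M y (by simpa [Nat.blt] using List.all_eq_true.1 h4 y hy')
    have h1 : (((cert.W i).map (gU a0 a1 a2 t)).map σ).prod = 1 := by
      rw [← map_list_prod]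
      have := map_wd_gU σ a0 a1 a2 t ha0 ha1 ha2 ht (cert.W i)
      rw [VCert.wd] at this
      rw [this]
      exact wd_lK_W hi
    exact prod_eq_one_of_Mt hsurj hcen L L_perfect F42A2.MF_G _ hl h1
  · rw [VCert.ek, cert.kap_one _ chk_ex, chk_W3]
    exact hy
  · rw [VCert.ek, cert.kap_unit _ hj (chk_ax j hj)]
    rfl

include hcen hder ha0 ha1 ha2 ht in
omit [Finite Γ] in
theorem hgen_U : ∀ y : Γ, ∃ u : List ℕ, (∀ x ∈ u, x < cert.g) ∧ y = (u.map (gU a0 a1 a2 t)).prod := by
  apply MG.exists_word_of_closure (gU a0 a1 a2 t) 8 (fun x => Nat.xor x 1)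
  · intro x hx
    refine ⟨?_, gU_iv a0 a1 a2 t x hx⟩
    have : x = 0 ∨ x = 1 ∨ x = 2 ∨ x = 3 ∨ x = 4 ∨ x = 5 ∨ x = 6 ∨ x = 7 := by omega
    rcases this with rfl | rfl | rfl | rfl | rfl | rfl | rfl | rfl <;> decide
  · apply Cfsg.Agent.Lib.Helper7.M12Mult.closure_eq_top_of_stem (σ := σ) hcen hder
    intro g
    have hg : g ∈ Subgroup.closure (lK '' Set.Iio 8) := by rw [closure_lK]; exact Subgroup.mem_top g
    induction hg using Subgroup.closure_induction with
    | mem y hy =>
      obtain ⟨x, hx, rfl⟩ := hy
      exact ⟨gU a0 a1 a2 t x, Subgroup.subset_closure ⟨x, hx, rfl⟩, map_gU σ a0 a1 a2 t ha0 ha1 ha2 ht x⟩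
    | one => exact ⟨1, one_mem _, map_one σ⟩
    | mul p q _ _ ihp ihq =>
      obtain ⟨p', hp', rfl⟩ := ihp
      obtain ⟨q', hq', rfl⟩ := ihq
      exact ⟨p' * q', mul_mem hp' hq', map_mul σ p' q'⟩
    | inv p _ ihp =>
      obtain ⟨p', hp', rfl⟩ := ihp
      exact ⟨p'⁻¹, inv_mem hp', map_inv σ p'⟩

include hsurj hcen in
theorem hHK_U : ∀ u, u ∈ Mt σ L → u ∈ σ.ker → u = 1 := fun _ hu hk =>
  eq_one_of_mem_Mt hsurj hcen L L_perfect F42A2.MF_G hu (MonoidHom.mem_ker.1 hk)

include ha0M ha1M ha2M in
omit [Finite Γ] in
theorem hsub_U : ∀ x, cert.sub x = true → gU a0 a1 a2 t x ∈ Mt σ L := fun x hx =>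
  gU_mem_Mt σ a0 a1 a2 t ha0M ha1M ha2M x (lt_six_of_sub hx)

include hsurj hder ha0M ha1M ha2M hy in
/-- **the kernel is generated by the central elements** -/
theorem ker_eq_Zc_U : σ.ker = Zc (zU σ hcen a0 a1 a2 t ha0 ha1 ha2 ht) 14 := by
  refine ker_eq_Zc_of_sub σ cert (gU a0 a1 a2 t) (zU σ hcen a0 a1 a2 t ha0 ha1 ha2 ht) (Mt σ L) 197406720 hsurj
    (by rw [card_G]; rfl) (by decide) (by norm_num) (hHK_U σ hsurj hcen) ?_
    (hsub_U σ a0 a1 a2 t ha0M ha1M ha2M) ?_ (hgen_U σ hcen hder a0 a1 a2 t ha0 ha1 ha2 ht) (by decide) (by decide) (gU_iv a0 a1 a2 t) ?_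
    (hW0_U σ hsurj hcen a0 a1 a2 t ha0M ha1M ha2M ha0 ha1 ha2 ht hy) cert_all cert_wall
  · rw [← card_L]
    exact card_Mt_le hsurj hcen L L_perfect F42A2.MF_G
  · intro j _
    exact wd_gU_mem_ker σ a0 a1 a2 t ha0 ha1 ha2 ht (axI_lt j)
  · intro i hi
    exact wd_gU_mem_ker σ a0 a1 a2 t ha0 ha1 ha2 ht hi

include hsurj ha0M ha1M ha2M hy in
/-- the relations between the central elements -/
theorem rel_U : ∀ r ∈ relL, zprod (zU σ hcen a0 a1 a2 t ha0 ha1 ha2 ht) 14 (fun l => r.getD l 0) = 1 := by
  have hKn : ∀ u, u ∈ σ.ker → ∀ g : Γ, g * u * g⁻¹ ∈ σ.ker := fun u hu g =>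
    (inferInstance : σ.ker.Normal).conj_mem u hu g
  have key : ∀ {i v row : ℕ}, i < 419 → cert.scan 4095 (cert.W i) row 0 = some (row, v) →
      cert.ek (zU σ hcen a0 a1 a2 t ha0 ha1 ha2 ht) i = cert.kap (zU σ hcen a0 a1 a2 t ha0 ha1 ha2 ht) v (cert.W i).length := by
    intro i v row hi h
    exact cert.close_spec (γ := gU a0 a1 a2 t) (H := Mt σ L) σ.ker hKn
      (fun j _ => wd_gU_mem_ker σ a0 a1 a2 t ha0 ha1 ha2 ht (axI_lt j)) (hHK_U σ hsurj hcen) (by decide) (by decide)
      (gU_iv a0 a1 a2 t) (hsub_U σ a0 a1 a2 t ha0M ha1M ha2M)
      (fun i hi => wd_gU_mem_ker σ a0 a1 a2 t ha0 ha1 ha2 ht hi) (hW0_U σ hsurj hcen a0 a1 a2 t ha0M ha1M ha2M ha0 ha1 ha2 ht hy)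
      cert_all cert_wall hi (chk_len i hi) h
  intro r hr
  simp only [relL, List.mem_cons, List.not_mem_nil, or_false] at hr
  rcases hr with rfl | rfl | rfl | rfl | rfl | rfl | rfl | rfl | rfl | rfl | rfl | rfl | rfl | rfl | rfl | rfl | rfl
  · exact cert.rel_of_close _ (key (by norm_num) close_0) _ chk_rel_0
  · exact cert.rel_of_close _ (key (by norm_num) close_1) _ chk_rel_1
  · exact cert.rel_of_close _ (key (by norm_num) close_2) _ chk_rel_2
  · exact cert.rel_of_close _ (key (by norm_num) close_3) _ chk_rel_3
  · exact cert.rel_of_close _ (key (by norm_num) close_4) _ chk_rel_4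
  · exact cert.rel_of_close _ (key (by norm_num) close_5) _ chk_rel_5
  · exact cert.rel_of_close _ (key (by norm_num) close_6) _ chk_rel_6
  · exact cert.rel_of_close _ (key (by norm_num) close_7) _ chk_rel_7
  · exact cert.rel_of_close _ (key (by norm_num) close_8) _ chk_rel_8
  · exact cert.rel_of_close _ (key (by norm_num) close_9) _ chk_rel_9
  · exact cert.rel_of_close _ (key (by norm_num) close_10) _ chk_rel_10
  · exact cert.rel_of_close _ (key (by norm_num) close_11) _ chk_rel_11
  · exact cert.rel_of_close _ (key (by norm_num) close_12) _ chk_rel_12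
  · exact cert.rel_of_close _ (key (by norm_num) close_13) _ chk_rel_13
  · exact cert.rel_of_close _ (key (by norm_num) close_14) _ chk_rel_14
  · exact cert.rel_of_close _ (key (by norm_num) close_15) _ chk_rel_15
  · exact cert.rel_of_close _ (key (by norm_num) close_16) _ chk_rel_16

include hsurj hcen hder ha0M ha1M ha2M ha0 ha1 ha2 ht hy in
/-- **the kernel is trivial** -/
theorem ker_eq_bot_U : σ.ker = ⊥ := by
  have hnd := not_dvd_card_ker σ hsurj hcen hder
  have copq : (Nat.card ↥σ.ker).Coprime 7 :=
    ((Nat.Prime.coprime_iff_not_dvd (by norm_num)).2 hnd).symm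
  have hK := ker_eq_Zc_U σ hsurj hcen hder a0 a1 a2 t ha0M ha1M ha2M ha0 ha1 ha2 ht hy
  set S : Subgroup (Subgroup.center Γ) := σ.ker.comap (Subgroup.center Γ).subtype with hS
  have hzS : ∀ j, j < 14 → zU σ hcen a0 a1 a2 t ha0 ha1 ha2 ht j ∈ S :=
    fun j _ => wd_gU_mem_ker σ a0 a1 a2 t ha0 ha1 ha2 ht (axI_lt j)
  have hq : ∀ u, u ∈ S → u ^ 7 = 1 → u = 1 := by
    intro u hu huq
    have h1 : (⟨(u : Γ), hu⟩ : ↥σ.ker) ^ 7 = 1 := by
      apply Subtype.ext
      rw [Subgroup.coe_pow, Subgroup.coe_one]
      show (u : Γ) ^ 7 = 1
      rw [← Subgroup.coe_pow, huq, Subgroup.coe_one]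
    have h2 := eq_one_of_pow_of_coprime 7 copq _ h1
    apply Subtype.ext
    have h3 : ((⟨(u : Γ), hu⟩ : ↥σ.ker) : Γ) = ((1 : ↥σ.ker) : Γ) := congrArg Subtype.val h2
    exact h3
  obtain ⟨hz, _⟩ := abelian_of_relations_q (zU σ hcen a0 a1 a2 t ha0 ha1 ha2 ht) 14 relL
    (rel_U σ hsurj hcen a0 a1 a2 t ha0M ha1M ha2M ha0 ha1 ha2 ht hy) S hzS 7 hq [] [] [] lamL [] chk_lam chk_mu
  rw [hK]
  apply Zc_eq_bot_of_triv
  intro j hj
  rw [hz j hj]
  rfl

end upper

/-- **every finite stem extension of the group is an isomorphism** -/
theorem ker_eq_bot_of_stem {Γ : Type*} [Group Γ] [Finite Γ] (σ : Γ →* G) (hsurj : Function.Surjective σ)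
    (hcen : σ.ker ≤ Subgroup.center Γ) (hder : σ.ker ≤ commutator Γ) : σ.ker = ⊥ := by
  obtain ⟨a0, a1, a2, t, ha0M, ha1M, ha2M, ha0, ha1, ha2, ht, hy⟩ := exists_lifts σ hsurj hcen hder
  exact ker_eq_bot_U σ hsurj hcen hder a0 a1 a2 t ha0M ha1M ha2M ha0 ha1 ha2 ht hy

universe u in
theorem MF_G : Cfsg.Agent.Lib.Helper7.M12Mult.MF.{u} G := fun _ _ _ τ hs hc hd =>
  ker_eq_bot_of_stem τ hs hc hd

end Cfsg.Agent.Lib.Helper7.F42A3
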