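import Cfsg.Agent.Lib.Helper7.F42RootD

/-! # The coded root elements are the root elements of the frozen definition (kernel checks, part 1; generated) -/

set_option autoImplicit false
set_option maxRecDepth 100000
set_option maxHeartbeats 0

namespace Cfsg.Agent.Lib.Helper7.F42B

open Cfsg.Lie Cfsg.Agent.Lib.Helper6.BitMat

theorem chk_x4 : ∀ t : ZMod 2, ∀ a b : Fin 52, chevF4.x (ZMod 2) 4 t (e52.symm a) (e52.symm b) =
    bz (((xB 4 t).getD b 0).testBit a) := by decide +kernel

theorem chk_x5 : ∀ t : ZMod 2, ∀ a b : Fin 52, chevF4.x (ZMod 2) 5 t (e52.symm a) (e52.symm b) =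
    bz (((xB 5 t).getD b 0).testBit a) := by decide +kernel

theorem chk_x6 : ∀ t : ZMod 2, ∀ a b : Fin 52, chevF4.x (ZMod 2) 6 t (e52.symm a) (e52.symm b) =
    bz (((xB 6 t).getD b 0).testBit a) := by decide +kernel

theorem chk_x7 : ∀ t : ZMod 2, ∀ a b : Fin 52, chevF4.x (ZMod 2) 7 t (e52.symm a) (e52.symm b) =
    bz (((xB 7 t).getD b 0).testBit a) := by decide +kernel

end Cfsg.Agent.Lib.Helper7.F42B
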