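import Cfsg.Agent.Lib.Helper7.F42RootD

/-! # The coded root elements are the root elements of the frozen definition (kernel checks, part 4; generated) -/

set_option autoImplicit false
set_option maxRecDepth 100000
set_option maxHeartbeats 0

namespace Cfsg.Agent.Lib.Helper7.F42B

open Cfsg.Lie Cfsg.Agent.Lib.Helper6.BitMat

theorem chk_x16 : ∀ t : ZMod 2, ∀ a b : Fin 52, chevF4.x (ZMod 2) 16 t (e52.symm a) (e52.symm b) =
    bz (((xB 16 t).getD b 0).testBit a) := by decide +kernel

theorem chk_x17 : ∀ t : ZMod 2, ∀ a b : Fin 52, chevF4.x (ZMod 2) 17 t (e52.symm a) (e52.symm b) =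
    bz (((xB 17 t).getD b 0).testBit a) := by decide +kernel

theorem chk_x18 : ∀ t : ZMod 2, ∀ a b : Fin 52, chevF4.x (ZMod 2) 18 t (e52.symm a) (e52.symm b) =
    bz (((xB 18 t).getD b 0).testBit a) := by decide +kernel

theorem chk_x19 : ∀ t : ZMod 2, ∀ a b : Fin 52, chevF4.x (ZMod 2) 19 t (e52.symm a) (e52.symm b) =
    bz (((xB 19 t).getD b 0).testBit a) := by decide +kernel

end Cfsg.Agent.Lib.Helper7.F42B
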