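import Cfsg.Agent.Lib.Helper7.MGenC

/-!
# Small tools for the multiplier of a group given by a checked table

Perfect stem extensions, roots in finite groups of coprime order, central elements, permutations given by checked
tables of numbers, the classes of the given words, and the passage from a traced word to a relation between the
central elements.
-/

set_option autoImplicit false

namespace Cfsg.Agent.Lib.Helper7.MG

open scoped IsMulCommutative

/-! ### stem extensions of perfect groups -/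

/-- a stem extension of a perfect group is perfect -/
theorem perfect_of_stem {G : Type*} [Group G] {Γ : Type*} [Group Γ] (σ : Γ →* G)
    (hsurj : Function.Surjective σ) (hcen : σ.ker ≤ Subgroup.center Γ) (hder : σ.ker ≤ commutator Γ)
    (hG : commutator G = ⊤) : commutator Γ = ⊤ := by
  have h := Cfsg.Agent.Lib.Helper7.M12Mult.closure_eq_top_of_stem (σ := σ) hcen hder (commutator Γ : Set Γ) (by
    intro g
    have hg : g ∈ Subgroup.map σ (commutator Γ) := by
      rw [commutator_def, Subgroup.map_commutator, ← MonoidHom.range_eq_map, MonoidHom.range_eq_top.2 hsurj,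
        ← commutator_def, hG]
      exact Subgroup.mem_top g
    obtain ⟨x, hx, rfl⟩ := hg
    exact ⟨x, Subgroup.subset_closure hx, rfl⟩)
  rwa [Subgroup.closure_eq] at h

/-- roots in a finite subgroup of order prime to the exponent -/
theorem exists_root {Γ : Type*} [Group Γ] (K : Subgroup Γ) (n : ℕ) (h : (Nat.card ↥K).Coprime n) (u : Γ)
    (hu : u ∈ K) : ∃ v ∈ K, v ^ n = u := by
  have h1 := (powCoprime h).apply_symm_apply ⟨u, hu⟩
  refine ⟨((powCoprime h).symm ⟨u, hu⟩ : ↥K).1, ((powCoprime h).symm ⟨u, hu⟩ : ↥K).2, ?_⟩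
  have h2 := congrArg Subtype.val h1
  rw [powCoprime_apply] at h2
  exact h2

/-- an element that commutes with generators is central -/
theorem central_of_comm_gens {E : Type*} [Group E] (S : Set E) (hS : Subgroup.closure S = ⊤) (z : E)
    (hz : ∀ s ∈ S, s * z = z * s) : z ∈ Subgroup.center E := by
  rw [Subgroup.mem_center_iff]
  intro x
  have hx : x ∈ Subgroup.closure S := by rw [hS]; exact Subgroup.mem_top x
  induction hx using Subgroup.closure_induction with
  | mem y hy => exact hz y hy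
  | one => rw [one_mul, mul_one]
  | mul a b _ _ iha ihb => rw [mul_assoc, ihb, ← mul_assoc, iha, mul_assoc]
  | inv a _ iha =>
    have : a⁻¹ * z = a⁻¹ * (z * a) * a⁻¹ := by rw [mul_assoc, mul_assoc, mul_inv_cancel, mul_one]
    rw [this, ← iha, inv_mul_cancel_left]

/-- modulo a subgroup, an element of order prime to the order of a central element, which differs from an element of
the subgroup by a power of the central element, lies in the subgroup -/
theorem mem_of_pow_eq_one {E : Type*} [Group E] (D : Subgroup E) (ζ : E) (hζc : ζ ∈ Subgroup.center E) (N : ℕ)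
    (hζ : ζ ^ N = 1) (x d : E) (i : ℤ) (hd : d ∈ D) (hx : x = d * ζ ^ i) (n s : ℕ) (t : ℤ) (hxn : x ^ n = 1)
    (hns : (n : ℤ) * s = 1 + N * t) : x ∈ D := by
  have hc : Commute d (ζ ^ i) := by
    have h1 : ζ ^ i ∈ Subgroup.center E := Subgroup.zpow_mem _ hζc i
    exact (Subgroup.mem_center_iff.1 h1 d)
  have h1 : d ^ n * (ζ ^ i) ^ n = 1 := by rw [← hc.mul_pow, ← hx, hxn]
  have h2 : (ζ ^ i) ^ n ∈ D := by
    have : (ζ ^ i) ^ n = (d ^ n)⁻¹ := eq_inv_of_mul_eq_one_right h1
    rw [this]
    exact D.inv_mem (D.pow_mem hd n)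
  have h3 : ζ ^ i = ((ζ ^ i) ^ n) ^ s := by
    rw [← zpow_natCast ((ζ ^ i)) n, ← zpow_mul, ← zpow_natCast _ s, ← zpow_mul, mul_assoc, hns, mul_add, mul_one,
      zpow_add, mul_comm (N : ℤ) t, ← mul_assoc, zpow_mul _ _ (N : ℤ), zpow_natCast _ N]
    have : (ζ ^ (i * t)) ^ N = 1 := by
      rw [← zpow_natCast, ← zpow_mul, mul_comm, zpow_mul, zpow_natCast, hζ, one_zpow]
    rw [this, mul_one]
  rw [hx]
  refine D.mul_mem hd ?_
  rw [h3]
  exact D.pow_mem h2 s

/-! ### permutations given by checked tables -/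

/-- the permutation of the numbers below `n` given by two functions that are inverse to each other there -/
def permOf (n : ℕ) (f fi : ℕ → ℕ) (h : ∀ p, p < n → f p < n ∧ fi (f p) = p)
    (h' : ∀ p, p < n → fi p < n ∧ f (fi p) = p) : Equiv.Perm (Fin n) where
  toFun p := ⟨f p.1, (h p.1 p.2).1⟩
  invFun p := ⟨fi p.1, (h' p.1 p.2).1⟩
  left_inv p := Fin.ext (h p.1 p.2).2
  right_inv p := Fin.ext (h' p.1 p.2).2

theorem permOf_val (n : ℕ) (f fi : ℕ → ℕ) (h : ∀ p, p < n → f p < n ∧ fi (f p) = p)
    (h' : ∀ p, p < n → fi p < n ∧ f (fi p) = p) (p : Fin n) : (permOf n f fi h h' p).val = f p.val := rfl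

theorem permOf_inv (n : ℕ) (f fi : ℕ → ℕ) (h : ∀ p, p < n → f p < n ∧ fi (f p) = p)
    (h' : ∀ p, p < n → fi p < n ∧ f (fi p) = p) : (permOf n f fi h h')⁻¹ = permOf n fi f h' h := rfl

namespace VCert

variable (C : VCert) {Γ : Type*} [Group Γ] (z : ℕ → Subgroup.center Γ)

/-! ### the classes of the given words -/

theorem kap_eq_zprod (v c : ℕ) : C.kap z v c = zprod z C.k (fun j => (fld v j : ℤ) - (c : ℤ) * (C.B : ℤ)) := rfl

theorem kap_unit {v c j : ℕ} (hj : j < C.k)
    (h : ∀ l, l < C.k → (fld v l : ℤ) - (c : ℤ) * (C.B : ℤ) = if l = j then 1 else 0) : C.kap z v c = z j := by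
  unfold kap
  rw [Finset.prod_eq_single j]
  · rw [h j hj, if_pos rfl, zpow_one]
  · intro b hb hbj
    rw [h b (Finset.mem_range.1 hb), if_neg hbj, zpow_zero]
  · intro hn
    exact absurd (Finset.mem_range.2 hj) hn

theorem kap_one {v c : ℕ} (h : ∀ l, l < C.k → (fld v l : ℤ) - (c : ℤ) * (C.B : ℤ) = 0) : C.kap z v c = 1 := by
  unfold kap
  apply Finset.prod_eq_one
  intro l hl
  rw [h l (Finset.mem_range.1 hl), zpow_zero]

theorem prod_zpow_sum {A : Type*} [CommGroup A] (b : A) (f : ℕ → ℤ) :
    ∀ k, ∏ j ∈ Finset.range k, b ^ f j = b ^ ∑ j ∈ Finset.range k, f j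
  | 0 => by simp
  | k + 1 => by rw [Finset.prod_range_succ, Finset.sum_range_succ, zpow_add, prod_zpow_sum b f k]

/-- the value of a product of powers of one central element -/
theorem kap_pow (ζ : Subgroup.center Γ) (m : ℕ → ℤ) (hz : ∀ j, j < C.k → z j = ζ ^ m j) (v c : ℕ) :
    C.kap z v c = ζ ^ (∑ j ∈ Finset.range C.k, m j * ((fld v j : ℤ) - (c : ℤ) * (C.B : ℤ))) := by
  unfold kap
  rw [← prod_zpow_sum]
  apply Finset.prod_congr rfl
  intro j hj
  rw [hz j (Finset.mem_range.1 hj), ← zpow_mul]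

/-! ### from a traced word to a relation -/

/-- two equal products of powers give a relation -/
theorem rel_of_eq {A : Type*} [CommGroup A] (y : ℕ → A) (k : ℕ) {e1 e2 : ℕ → ℤ}
    (h : zprod y k e1 = zprod y k e2) (r : List ℤ) (hr : ∀ j, j < k → e1 j - e2 j = r.getD j 0) :
    zprod y k (fun l => r.getD l 0) = 1 := by
  rw [← zprod_congr y k hr]
  have e : (fun j => e1 j - e2 j) = fun j => e1 j + (-1) * e2 j := by
    funext j; ring
  rw [e, zprod_add, zprod_smul, h, zpow_neg, zpow_one, mul_inv_cancel]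

/-- the relation that a traced word gives -/
theorem rel_of_close {i v : ℕ} (h : C.ek z i = C.kap z v (C.W i).length) (r : List ℤ)
    (hr : ∀ j, j < C.k → (fld (C.rhs i) j : ℤ) - (fld v j : ℤ) = r.getD j 0) :
    zprod z C.k (fun l => r.getD l 0) = 1 := by
  rw [ek, kap_eq_zprod, kap_eq_zprod] at h
  refine rel_of_eq z C.k h r ?_
  intro j hj
  rw [← hr j hj]
  ring

end VCert

/-! ### the kernel as a cyclic group -/

/-- the closure of powers of one element lies in the powers of that element -/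
theorem Zc_le_zpowers {Γ : Type*} [Group Γ] (z : ℕ → Subgroup.center Γ) (k : ℕ) (g : Subgroup.center Γ)
    (m : ℕ → ℤ) (hz : ∀ j, j < k → z j = g ^ m j) : Zc z k ≤ Subgroup.zpowers (g : Γ) := by
  rw [Zc, Subgroup.closure_le]
  rintro _ ⟨j, hj, rfl⟩
  show (z j : Γ) ∈ Subgroup.zpowers (g : Γ)
  rw [hz j hj]
  exact ⟨m j, by simp⟩

/-- a subgroup that consists of powers of one of its elements, which has a given order, is cyclic of that order -/
theorem nonempty_equiv_zmod {Γ : Type*} [Group Γ] (K : Subgroup Γ) (g : Γ) (hg : g ∈ K)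
    (hK : K ≤ Subgroup.zpowers g) (n : ℕ) (hn : orderOf g = n) :
    Nonempty (↥K ≃* Multiplicative (ZMod n)) := by
  have hKe : K = Subgroup.zpowers g := le_antisymm hK (by
    rw [Subgroup.zpowers_le]; exact hg)
  have hgen : ∀ x : ↥K, x ∈ Subgroup.zpowers (⟨g, hg⟩ : ↥K) := by
    intro x
    obtain ⟨i, hi⟩ := Subgroup.mem_zpowers_iff.1 (hK x.2)
    refine Subgroup.mem_zpowers_iff.2 ⟨i, ?_⟩
    apply Subtype.ext
    rw [Subgroup.coe_zpow]
    exact hi
  have hcard : Nat.card ↥K = n := by
    rw [hKe, Nat.card_zpowers, hn]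
  exact ⟨(zmodMulEquivOfGenerator hgen hcard).symm⟩

end Cfsg.Agent.Lib.Helper7.MG
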