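import Cfsg.Agent.Lib.Helper7.MGenB
import Cfsg.Agent.Lib.Helper7.MGenD

/-!
# The kernel of a central extension and a checked table over any subgroup that meets the kernel trivially

The statements of `MGenB` for a subgroup `H` of the table that need not be cyclic: it is enough that `H` meets the
kernel trivially and has at most `h` elements.  Also: with trivial central elements all the classes are trivial.
-/

set_option autoImplicit false

namespace Cfsg.Agent.Lib.Helper7.MG

open Cfsg.Agent.Lib.Helper8.CosetCert (R index_le_of_closed)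
open scoped Pointwise IsMulCommutative

/-- with trivial central elements all products of their powers are trivial -/
theorem VCert.kap_triv {Γ : Type*} [Group Γ] (C : VCert) (z : ℕ → Subgroup.center Γ) (hz : ∀ j, j < C.k → z j = 1)
    (v c : ℕ) : C.kap z v c = 1 := by
  unfold VCert.kap
  apply Finset.prod_eq_one
  intro j hj
  rw [hz j (Finset.mem_range.1 hj), one_zpow]

section stem

variable {G : Type*} [Group G] [Finite G] {Γ : Type*} [Group Γ] [Finite Γ] (σ : Γ →* G)

variable (C : VCert) (γ : ℕ → Γ) (z : ℕ → Subgroup.center Γ) (H : Subgroup Γ) (h : ℕ)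
  (hsurj : Function.Surjective σ)
  (hcard : Nat.card G = h * C.n) (hn0 : 0 < C.n) (hh : 0 < h)
  (hHK : ∀ u, u ∈ H → u ∈ σ.ker → u = 1) (hHc : Nat.card ↥H ≤ h)
  (hsubx : ∀ x, C.sub x = true → γ x ∈ H)
  (hzK : ∀ j, j < C.k → (z j : Γ) ∈ σ.ker)
  (hgen : ∀ y : Γ, ∃ u : List ℕ, (∀ x ∈ u, x < C.g) ∧ y = (u.map γ).prod)
  (hn : C.n ≤ 1048576) (hB : C.B < 4096) (hinv : ∀ x, x < C.g → γ (C.iv x) = (γ x)⁻¹)
  (hWK : ∀ i, i < C.nW → VCert.wd γ (C.W i) ∈ σ.ker)
  (hW0 : ∀ i, i < C.nW → C.wT i = 0 → VCert.wd γ (C.W i) = (C.ek z i : Γ))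
  (hall : ∀ a, a < C.n → ∀ x, x < C.g → C.slotOK a x = true)
  (hwall : ∀ i, i < C.nW → C.wordOK i = true)

include hHK hHc hsubx hzK hgen hn hB hinv hWK hW0 hall hwall hn0 in
omit [Finite G] [Finite Γ] in
/-- **the order of the group is at most the number of rows times the bound for the order of the subgroup of the table
times the order of the subgroup generated by the central elements** -/
theorem card_le_Zc_of_sub : Nat.card Γ ≤ C.n * (h * Nat.card ↥(Zc z C.k)) := by
  have hnorm : (Zc z C.k).Normal := by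
    constructor
    intro n hn' g
    have := Subgroup.mem_center_iff.1 (Zc_le_center z C.k hn') g
    rw [this, mul_inv_cancel_right]
    exact hn'
  have hKn : ∀ u, u ∈ σ.ker → ∀ g : Γ, g * u * g⁻¹ ∈ σ.ker := fun u hu g =>
    (inferInstance : σ.ker.Normal).conj_mem u hu g
  have hidx := C.index_le (γ := γ) (H := H) (z := z) σ.ker hKn hzK hHK hn hB hinv hsubx hWK hW0 hall hwall
    (H ⊔ Zc z C.k) le_sup_left (fun j hj => (le_sup_right : Zc z C.k ≤ H ⊔ Zc z C.k)
      (Subgroup.subset_closure ⟨j, hj, rfl⟩)) hgen hn0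
  have hc1 : Nat.card ↥(H ⊔ Zc z C.k) ≤ h * Nat.card ↥(Zc z C.k) := by
    have e : ((H ⊔ Zc z C.k : Subgroup Γ) : Set Γ) = (H : Set Γ) * (Zc z C.k : Set Γ) := Subgroup.mul_normal H _
    have h1 : Nat.card ↥(H ⊔ Zc z C.k) = Nat.card ((H : Set Γ) * (Zc z C.k : Set Γ) : Set Γ) := by
      rw [← e]; rfl
    rw [h1]
    refine le_trans Set.natCard_mul_le ?_
    exact Nat.mul_le_mul_right _ hHc
  exact Cfsg.Agent.Lib.Helper7.M12Mult.card_le_of_index_le _ hidx.1 hc1

include hsurj hcard hn0 hh hHK hHc hsubx hzK hgen hn hB hinv hWK hW0 hall hwall in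
omit [Finite G] in
/-- **the kernel is generated by the central elements of the table** -/
theorem ker_eq_Zc_of_sub : σ.ker = Zc z C.k := by
  have hZK : Zc z C.k ≤ σ.ker := by
    rw [Zc, Subgroup.closure_le]
    rintro _ ⟨j, hj, rfl⟩
    exact hzK j hj
  have hc2 : Nat.card Γ ≤ C.n * (h * Nat.card ↥(Zc z C.k)) :=
    card_le_Zc_of_sub σ C γ z H h hn0 hHK hHc hsubx hzK hgen hn hB hinv hWK hW0 hall hwall
  have hc3 : Nat.card Γ = Nat.card σ.ker * (h * C.n) := by
    rw [← hcard, ← Subgroup.card_mul_index σ.ker, Subgroup.index_ker, MonoidHom.range_eq_top.2 hsurj,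
      Subgroup.card_top]
  have hc4 : Nat.card σ.ker ≤ Nat.card ↥(Zc z C.k) := by
    have : Nat.card σ.ker * (h * C.n) ≤ Nat.card ↥(Zc z C.k) * (h * C.n) := by
      rw [← hc3]
      calc Nat.card Γ ≤ C.n * (h * Nat.card ↥(Zc z C.k)) := hc2
        _ = Nat.card ↥(Zc z C.k) * (h * C.n) := by ring
    exact Nat.le_of_mul_le_mul_right this (Nat.mul_pos hh hn0)
  symm
  apply Subgroup.eq_of_le_of_card_ge hZK
  exact hc4

end stem

/-- the subgroup generated by trivial central elements is trivial -/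
theorem Zc_eq_bot_of_triv {Γ : Type*} [Group Γ] (z : ℕ → Subgroup.center Γ) (k : ℕ)
    (hz : ∀ j, j < k → z j = 1) : Zc z k = ⊥ := by
  rw [Zc, Subgroup.closure_eq_bot_iff]
  rintro _ ⟨j, hj, rfl⟩
  show ((z j : Subgroup.center Γ) : Γ) = 1
  rw [hz j hj]
  rfl

end Cfsg.Agent.Lib.Helper7.MG
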