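import Cfsg.Agent.Lib.Helper7.F42RootC0
import Cfsg.Agent.Lib.Helper7.F42RootC1
import Cfsg.Agent.Lib.Helper7.F42RootC2
import Cfsg.Agent.Lib.Helper7.F42RootC3
import Cfsg.Agent.Lib.Helper7.F42RootC4
import Cfsg.Agent.Lib.Helper7.F42RootC5
import Cfsg.Agent.Lib.Helper7.F42RootC6
import Cfsg.Agent.Lib.Helper7.F42RootC7
import Cfsg.Agent.Lib.Helper7.F42RootC8
import Cfsg.Agent.Lib.Helper7.F42RootC9
import Cfsg.Agent.Lib.Helper7.F42RootC10
import Cfsg.Agent.Lib.Helper7.F42RootC11
import Cfsg.Agent.Lib.Helper7.F42BaseD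
import Cfsg.Agent.Lib.Helper7.MGenG
import Cfsg.Agent.Lib.Helper7.MGenE
import Cfsg.Agent.S1062

/-!
# The Chevalley group of type `F₄` over the field with two elements, and two systems of letters in it

The group is generated by the 48 root elements, matrices with 52 rows over the field with two elements, coded by
lists of column bit masks.  The eight letters `lK` of the chain of subgroups and the twelve letters `lT` of the table
of the group are words in the root elements; a word in the letters is trivial as soon as the product of the coded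
matrices of its letters is the coded unit matrix.  The root elements are words in the twelve letters, so these
generate the group; the group is perfect, every root element being a commutator of two root elements.  The eight
letters generate a subgroup `L`, which contains the first ten of the twelve letters.
-/

set_option autoImplicit false
set_option maxRecDepth 100000

namespace Cfsg.Agent.Lib.Helper7.F42B

open Cfsg Cfsg.Lie Cfsg.Agent.Lib.Helper7.MG Cfsg.Agent.Lib.Helper7.HSMult Cfsg.Agent.Lib.Helper6.BitMat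
open scoped commutatorElement

/-- the field -/
abbrev F : Type := ZMod 2

/-- the set of indices -/
abbrev I : Type := chevF4.Idx

/-- the matrices -/
abbrev M : Type := Matrix I I F

/-- the matrix with the given code -/
def mB (X : List ℕ) : M := toM e52 X

theorem mB_idB : mB (idB 52) = 1 := toM_idB e52

theorem mB_mulB (A B : List ℕ) (hA : A.length ≤ 52) : mB (mulB A B) = mB A * mB B :=
  toM_mulB e52 A B hA

theorem mB_eq_of_chk {A : M} {X : List ℕ}
    (h : ∀ a b : Fin 52, A (e52.symm a) (e52.symm b) = bz ((X.getD b 0).testBit a)) :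
    A = mB X := by
  ext i j
  have := h (e52 i) (e52 j)
  rw [Equiv.symm_apply_apply, Equiv.symm_apply_apply] at this
  rw [this]
  rfl

/-! ### the root elements -/

theorem chk_x : ∀ r, r < 48 → ∀ t : ZMod 2, ∀ a b : Fin 52, chevF4.x (ZMod 2) r t (e52.symm a) (e52.symm b) =
    bz (((xB r t).getD b 0).testBit a)
  | 0, _ => chk_x0
  | 1, _ => chk_x1
  | 2, _ => chk_x2
  | 3, _ => chk_x3
  | 4, _ => chk_x4
  | 5, _ => chk_x5
  | 6, _ => chk_x6
  | 7, _ => chk_x7
  | 8, _ => chk_x8
  | 9, _ => chk_x9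
  | 10, _ => chk_x10
  | 11, _ => chk_x11
  | 12, _ => chk_x12
  | 13, _ => chk_x13
  | 14, _ => chk_x14
  | 15, _ => chk_x15
  | 16, _ => chk_x16
  | 17, _ => chk_x17
  | 18, _ => chk_x18
  | 19, _ => chk_x19
  | 20, _ => chk_x20
  | 21, _ => chk_x21
  | 22, _ => chk_x22
  | 23, _ => chk_x23
  | 24, _ => chk_x24
  | 25, _ => chk_x25
  | 26, _ => chk_x26
  | 27, _ => chk_x27
  | 28, _ => chk_x28
  | 29, _ => chk_x29
  | 30, _ => chk_x30
  | 31, _ => chk_x31
  | 32, _ => chk_x32
  | 33, _ => chk_x33
  | 34, _ => chk_x34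
  | 35, _ => chk_x35
  | 36, _ => chk_x36
  | 37, _ => chk_x37
  | 38, _ => chk_x38
  | 39, _ => chk_x39
  | 40, _ => chk_x40
  | 41, _ => chk_x41
  | 42, _ => chk_x42
  | 43, _ => chk_x43
  | 44, _ => chk_x44
  | 45, _ => chk_x45
  | 46, _ => chk_x46
  | 47, _ => chk_x47
  | r + 48, h => absurd h (by omega)

theorem x_eq {r : ℕ} (hr : r < 48) (t : F) : chevF4.x F r t = mB (xB r t) :=
  mB_eq_of_chk (chk_x r hr t)

theorem xT_ge {r : ℕ} (hr : 48 ≤ r) : xT r = idB 52 := by
  obtain ⟨y, rfl⟩ : ∃ y, r = y + 48 := ⟨r - 48, by omega⟩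
  rfl

theorem chk_xlen : ∀ r, r < 49 → (xT r).length = 52 := by decide +kernel

theorem length_xT (r : ℕ) : (xT r).length = 52 := by
  rcases Nat.lt_or_ge r 48 with h | h
  · exact chk_xlen r (by omega)
  · rw [xT_ge h]
    exact length_idB 52

theorem chk_xsq : ∀ r, r < 49 → mulR (xT r) (xT r) = idB 52 := by decide +kernel

theorem xT_sq (r : ℕ) : mulB (xT r) (xT r) = idB 52 := by
  rw [← mulR_eq]
  rcases Nat.lt_or_ge r 48 with h | h
  · exact chk_xsq r (by omega)
  · rw [xT_ge h]
    have := chk_xsq 48 (by norm_num)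
    rwa [xT_ge (le_refl 48)] at this

/-- the matrix of a root element, as a unit -/
def xU (r : ℕ) : GL I F :=
  glB e52 (xT r) (xT r) (le_of_eq (length_xT r)) (le_of_eq (length_xT r)) (xT_sq r) (xT_sq r)

theorem coe_xU (r : ℕ) : ((xU r : GL I F) : M) = mB (xT r) := rfl

theorem xB_one (r : ℕ) : xB r (1 : F) = xT r := by
  unfold xB
  rw [if_neg (by decide)]

theorem xB_zero (r : ℕ) : xB r (0 : F) = idB 52 := by
  unfold xB
  rw [if_pos rfl]

theorem xMat_eq (r : Fin chevF4.nroots) (t : F) : chevF4.xMat F r t = chevF4.x F r.val t := by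
  unfold ChevalleyDatum.x
  rw [dif_pos r.isLt]

theorem xU_mem {r : ℕ} (hr : r < 48) : xU r ∈ chevF4.group F := by
  refine Subgroup.subset_closure ⟨⟨r, hr⟩, 1, ?_⟩
  rw [coe_xU, xMat_eq, x_eq hr, xB_one]

theorem xU_sq (r : ℕ) : xU r * xU r = 1 := by
  apply Units.ext
  rw [Units.val_mul, coe_xU, ← mB_mulB _ _ (le_of_eq (length_xT r)), xT_sq, mB_idB]
  rfl

theorem length_prodR52 : ∀ l : List (List ℕ), (∀ A ∈ l, A.length = 52) → (prodR 52 l).length = 52
  | [], _ => length_idB 52
  | A :: l, h => by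
    rw [prodR_cons, length_mulB]
    exact length_prodR52 l fun B hB => h B (List.mem_cons_of_mem _ hB)

theorem mB_prodR : ∀ l : List (List ℕ), (∀ A ∈ l, A.length = 52) → (l.map mB).prod = mB (prodR 52 l)
  | [], _ => by rw [prodR_nil, mB_idB, List.map_nil, List.prod_nil]
  | A :: l, h => by
    rw [prodR_cons, mB_mulB _ _ (le_of_eq (h A (List.mem_cons_self ..))), List.map_cons,
      List.prod_cons, mB_prodR l fun B hB => h B (List.mem_cons_of_mem _ hB)]

theorem coe_prod_xU (l : List ℕ) : ((l.map xU).prod : GL I F).val = mB (prodR 52 (l.map xT)) := by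
  rw [← mB_prodR]
  · induction l with
    | nil => rfl
    | cons r l ih =>
      rw [List.map_cons, List.prod_cons, Units.val_mul, ih, List.map_cons, List.map_cons, List.prod_cons]
      rfl
  · intro A hA
    obtain ⟨r, _, rfl⟩ := List.mem_map.1 hA
    exact length_xT r

/-- the group -/
abbrev G : Type := ↥(chevF4.group F)

/-! ### the 8 letters `lK` -/

theorem chk_rootWK_lt : ∀ x, x < 8 → ∀ r ∈ rootWK x, r < 48 := by decide

theorem rootWK_ge {x : ℕ} (hx : 8 ≤ x) : rootWK x = [] := by
  obtain ⟨y, rfl⟩ : ∃ y, x = y + 8 := ⟨x - 8, by omega⟩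
  rfl

theorem letMK_ge {x : ℕ} (hx : 8 ≤ x) : letMK x = idB 52 := by
  obtain ⟨y, rfl⟩ : ∃ y, x = y + 8 := ⟨x - 8, by omega⟩
  rfl

/-- the letters as matrices -/
def lGK (x : ℕ) : GL I F := ((rootWK x).map xU).prod

theorem lGK_mem (x : ℕ) : lGK x ∈ chevF4.group F := by
  apply Subgroup.list_prod_mem
  intro g hg
  obtain ⟨r, hr, rfl⟩ := List.mem_map.1 hg
  rcases Nat.lt_or_ge x 8 with hx | hx
  · exact xU_mem (chk_rootWK_lt x hx r hr)
  · rw [rootWK_ge hx] at hr
    exact absurd hr List.not_mem_nil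

/-- the letters in the group -/
def lK (x : ℕ) : G := ⟨lGK x, lGK_mem x⟩

theorem lK_of_ge {x : ℕ} (hx : 8 ≤ x) : lK x = 1 := by
  apply Subtype.ext
  show lGK x = 1
  rw [lGK, rootWK_ge hx]
  rfl

theorem chk_letK : ∀ x, x < 9 → prodR 52 ((rootWK x).map xT) = letMK x := by decide +kernel

theorem chk_letlenK : ∀ x, x < 9 → (letMK x).length = 52 := by decide +kernel

theorem length_letMK (x : ℕ) : (letMK x).length = 52 := by
  rcases Nat.lt_or_ge x 8 with h | h
  · exact chk_letlenK x (by omega)
  · rw [letMK_ge h]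
    exact length_idB 52

theorem lGK_val (x : ℕ) : (lGK x : GL I F).val = mB (letMK x) := by
  rw [lGK, coe_prod_xU]
  rcases Nat.lt_or_ge x 8 with h | h
  · rw [chk_letK x (by omega)]
  · rw [rootWK_ge h, letMK_ge h]
    rfl

theorem wd_lK_val : ∀ w : List ℕ, ((VCert.wd lK w : G) : GL I F).val = (w.map fun x => mB (letMK x)).prod
  | [] => rfl
  | x :: w => by
    rw [VCert.wd_cons, Subgroup.coe_mul, Units.val_mul, wd_lK_val w, List.map_cons, List.prod_cons]
    congr 1
    exact lGK_val x

theorem wd_lK_mat (w : List ℕ) : ((VCert.wd lK w : G) : GL I F).val = mB (prodR 52 (w.map letMK)) := by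
  rw [wd_lK_val, ← mB_prodR _ (by
    intro A hA
    obtain ⟨x, _, rfl⟩ := List.mem_map.1 hA
    exact length_letMK x), List.map_map]
  rfl

/-- the check that the product of the matrices of the letters of a word is the unit matrix -/
def matOKK (w : List ℕ) : Bool := decide (prodR 52 (w.map letMK) = idB 52)

/-- **a word in the letters is trivial as soon as the product of the matrices is the unit matrix** -/
theorem wd_lK_eq_one {w : List ℕ} (h : matOKK w = true) : VCert.wd lK w = 1 := by
  apply Subtype.ext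
  apply Units.ext
  rw [wd_lK_mat, of_decide_eq_true h, mB_idB]
  rfl

/-- two words in the letters are equal as soon as the products of the matrices agree -/
theorem wd_lK_eq {w w' : List ℕ} (h : prodR 52 (w.map letMK) = prodR 52 (w'.map letMK)) :
    VCert.wd lK w = VCert.wd lK w' := by
  apply Subtype.ext
  apply Units.ext
  rw [wd_lK_mat, wd_lK_mat, h]

/-- the inverse letters -/
def ivK (x : ℕ) : ℕ := Nat.xor x 1

theorem chk_ivK : ∀ x, x < 8 → matOKK [x, ivK x] = true := by decide +kernel

theorem lK_iv {x : ℕ} (hx : x < 8) : lK (ivK x) = (lK x)⁻¹ := by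
  have h := wd_lK_eq_one (chk_ivK x hx)
  rw [VCert.wd_cons, VCert.wd_cons, VCert.wd_nil, mul_one] at h
  exact (eq_inv_of_mul_eq_one_right h)


/-! ### the 12 letters `lT` -/

theorem chk_rootWT_lt : ∀ x, x < 12 → ∀ r ∈ rootWT x, r < 48 := by decide

theorem rootWT_ge {x : ℕ} (hx : 12 ≤ x) : rootWT x = [] := by
  obtain ⟨y, rfl⟩ : ∃ y, x = y + 12 := ⟨x - 12, by omega⟩
  rfl

theorem letMT_ge {x : ℕ} (hx : 12 ≤ x) : letMT x = idB 52 := by
  obtain ⟨y, rfl⟩ : ∃ y, x = y + 12 := ⟨x - 12, by omega⟩
  rfl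

/-- the letters as matrices -/
def lGT (x : ℕ) : GL I F := ((rootWT x).map xU).prod

theorem lGT_mem (x : ℕ) : lGT x ∈ chevF4.group F := by
  apply Subgroup.list_prod_mem
  intro g hg
  obtain ⟨r, hr, rfl⟩ := List.mem_map.1 hg
  rcases Nat.lt_or_ge x 12 with hx | hx
  · exact xU_mem (chk_rootWT_lt x hx r hr)
  · rw [rootWT_ge hx] at hr
    exact absurd hr List.not_mem_nil

/-- the letters in the group -/
def lT (x : ℕ) : G := ⟨lGT x, lGT_mem x⟩

theorem lT_of_ge {x : ℕ} (hx : 12 ≤ x) : lT x = 1 := by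
  apply Subtype.ext
  show lGT x = 1
  rw [lGT, rootWT_ge hx]
  rfl

theorem chk_letT : ∀ x, x < 13 → prodR 52 ((rootWT x).map xT) = letMT x := by decide +kernel

theorem chk_letlenT : ∀ x, x < 13 → (letMT x).length = 52 := by decide +kernel

theorem length_letMT (x : ℕ) : (letMT x).length = 52 := by
  rcases Nat.lt_or_ge x 12 with h | h
  · exact chk_letlenT x (by omega)
  · rw [letMT_ge h]
    exact length_idB 52

theorem lGT_val (x : ℕ) : (lGT x : GL I F).val = mB (letMT x) := by
  rw [lGT, coe_prod_xU]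
  rcases Nat.lt_or_ge x 12 with h | h
  · rw [chk_letT x (by omega)]
  · rw [rootWT_ge h, letMT_ge h]
    rfl

theorem wd_lT_val : ∀ w : List ℕ, ((VCert.wd lT w : G) : GL I F).val = (w.map fun x => mB (letMT x)).prod
  | [] => rfl
  | x :: w => by
    rw [VCert.wd_cons, Subgroup.coe_mul, Units.val_mul, wd_lT_val w, List.map_cons, List.prod_cons]
    congr 1
    exact lGT_val x

theorem wd_lT_mat (w : List ℕ) : ((VCert.wd lT w : G) : GL I F).val = mB (prodR 52 (w.map letMT)) := by
  rw [wd_lT_val, ← mB_prodR _ (by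
    intro A hA
    obtain ⟨x, _, rfl⟩ := List.mem_map.1 hA
    exact length_letMT x), List.map_map]
  rfl

/-- the check that the product of the matrices of the letters of a word is the unit matrix -/
def matOKT (w : List ℕ) : Bool := decide (prodR 52 (w.map letMT) = idB 52)

/-- **a word in the letters is trivial as soon as the product of the matrices is the unit matrix** -/
theorem wd_lT_eq_one {w : List ℕ} (h : matOKT w = true) : VCert.wd lT w = 1 := by
  apply Subtype.ext
  apply Units.ext
  rw [wd_lT_mat, of_decide_eq_true h, mB_idB]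
  rfl

/-- two words in the letters are equal as soon as the products of the matrices agree -/
theorem wd_lT_eq {w w' : List ℕ} (h : prodR 52 (w.map letMT) = prodR 52 (w'.map letMT)) :
    VCert.wd lT w = VCert.wd lT w' := by
  apply Subtype.ext
  apply Units.ext
  rw [wd_lT_mat, wd_lT_mat, h]

/-- the inverse letters -/
def ivT (x : ℕ) : ℕ := cond (Nat.blt x 10) x (Nat.xor x 1)

theorem chk_ivT : ∀ x, x < 12 → matOKT [x, ivT x] = true := by decide +kernel

theorem lT_iv {x : ℕ} (hx : x < 12) : lT (ivT x) = (lT x)⁻¹ := by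
  have h := wd_lT_eq_one (chk_ivT x hx)
  rw [VCert.wd_cons, VCert.wd_cons, VCert.wd_nil, mul_one] at h
  exact (eq_inv_of_mul_eq_one_right h)

/-! ### the order of the group -/

theorem card_G : Nat.card G = 3311126603366400 := by
  have h := Cfsg.Agent.S1062.result (F := F) (q := 2) (by decide)
  rw [h]
  norm_num

instance instFiniteG : Finite G := Nat.finite_of_card_ne_zero (by rw [card_G]; norm_num)

/-! ### the twelve letters generate the group, the group is perfect -/

theorem chk_rootAs : ∀ r, r < 48 → prodR 52 ((rootAsW r).map letMT) = xT r := by decide +kernel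

theorem wd_lT_rootAs {r : ℕ} (hr : r < 48) : ((VCert.wd lT (rootAsW r) : G) : GL I F) = xU r := by
  apply Units.ext
  rw [wd_lT_mat, chk_rootAs r hr]
  rfl

/-- an element of the group of matrices that is a generator of the group -/
theorem gen_cases {g : GL I F} (hg : ∃ (r : Fin chevF4.nroots) (t : F), (g : M) = chevF4.xMat F r t) :
    g = 1 ∨ ∃ r, r < 48 ∧ g = xU r := by
  obtain ⟨r, t, hg⟩ := hg
  have ht : ∀ t : F, t = 0 ∨ t = 1 := by decide
  rw [xMat_eq, x_eq r.isLt] at hg
  rcases ht t with rfl | rfl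
  · left
    apply Units.ext
    rw [hg, xB_zero, mB_idB]
    rfl
  · right
    refine ⟨r.val, r.isLt, ?_⟩
    apply Units.ext
    rw [hg, xB_one]
    rfl

theorem closure_lT : Subgroup.closure (lT '' Set.Iio 12) = ⊤ := by
  set C := Subgroup.closure (lT '' Set.Iio 12) with hC
  have hm : ∀ x, x < 12 → lT x ∈ C := fun x hx => Subgroup.subset_closure ⟨x, hx, rfl⟩
  have hw : ∀ w : List ℕ, VCert.wd lT w ∈ C := by
    intro w
    induction w with
    | nil => exact C.one_mem
    | cons x w ih =>
      rw [VCert.wd_cons]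
      refine C.mul_mem ?_ ih
      rcases Nat.lt_or_ge x 12 with h | h
      · exact hm x h
      · rw [lT_of_ge h]; exact C.one_mem
  have hle : chevF4.group F ≤ C.map (chevF4.group F).subtype := by
    unfold ChevalleyDatum.group
    rw [Subgroup.closure_le]
    intro g hg
    rcases gen_cases hg with rfl | ⟨r, hr, rfl⟩
    · exact Subgroup.one_mem _
    · exact ⟨VCert.wd lT (rootAsW r), hw _, wd_lT_rootAs hr⟩
  rw [eq_top_iff]
  intro g _
  obtain ⟨c, hc, hcg⟩ := hle g.2
  have : c = g := Subtype.ext hcg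
  rw [← this]
  exact hc

theorem chk_comm : ∀ r, r < 48 → (Nat.blt (commA r) 48 && Nat.blt (commB r) 48 &&
    decide (prodR 52 [xT (commA r), xT (commB r), xT (commA r), xT (commB r)] = xT r)) = true := by
  decide +kernel

theorem xU_comm (r : ℕ) (hr : r < 48) :
    xU r = xU (commA r) * xU (commB r) * xU (commA r) * xU (commB r) := by
  have h := chk_comm r hr
  rw [Bool.and_eq_true, Bool.and_eq_true] at h
  have h4 := coe_prod_xU [commA r, commB r, commA r, commB r]
  simp only [List.map_cons, List.map_nil, List.prod_cons, List.prod_nil, mul_one] at h4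
  rw [of_decide_eq_true h.2] at h4
  apply Units.ext
  rw [mul_assoc, mul_assoc, h4]
  rfl

/-- a root element in the group -/
def xG (r : ℕ) (hr : r < 48) : G := ⟨xU r, xU_mem hr⟩

theorem xG_sq (r : ℕ) (hr : r < 48) : xG r hr * xG r hr = 1 := Subtype.ext (xU_sq r)

theorem xG_mem_commutator (r : ℕ) (hr : r < 48) : xG r hr ∈ commutator G := by
  have h := chk_comm r hr
  rw [Bool.and_eq_true, Bool.and_eq_true] at h
  have ha' : commA r < 48 := by simpa [Nat.blt] using h.1.1
  have hb' : commB r < 48 := by simpa [Nat.blt] using h.1.2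
  have e1 : (xG (commA r) ha')⁻¹ = xG (commA r) ha' := inv_eq_of_mul_eq_one_right (xG_sq _ ha')
  have e2 : (xG (commB r) hb')⁻¹ = xG (commB r) hb' := inv_eq_of_mul_eq_one_right (xG_sq _ hb')
  have e : xG r hr = ⁅xG (commA r) ha', xG (commB r) hb'⁆ := by
    rw [commutatorElement_def, e1, e2]
    exact Subtype.ext (xU_comm r hr)
  rw [e]
  exact Subgroup.commutator_mem_commutator (Subgroup.mem_top _) (Subgroup.mem_top _)

theorem G_perfect : commutator G = ⊤ := by
  have hle : chevF4.group F ≤ (commutator G).map (chevF4.group F).subtype := by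
    unfold ChevalleyDatum.group
    rw [Subgroup.closure_le]
    intro g hg
    rcases gen_cases hg with rfl | ⟨r, hr, rfl⟩
    · exact Subgroup.one_mem _
    · exact ⟨xG r hr, xG_mem_commutator r hr, rfl⟩
  rw [eq_top_iff]
  intro g _
  obtain ⟨c, hc, hcg⟩ := hle g.2
  have : c = g := Subtype.ext hcg
  rw [← this]
  exact hc

/-! ### the subgroup generated by the eight letters -/

/-- the subgroup `L` generated by the eight letters of the chain -/
noncomputable def L : Subgroup G := Subgroup.closure (lK '' Set.Iio 8)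

theorem lK_mem_L {x : ℕ} (hx : x < 8) : lK x ∈ L := Subgroup.subset_closure ⟨x, hx, rfl⟩

theorem wd_lK_mem_L (w : List ℕ) : VCert.wd lK w ∈ L := by
  induction w with
  | nil => exact L.one_mem
  | cons x w ih =>
    rw [VCert.wd_cons]
    refine L.mul_mem ?_ ih
    rcases Nat.lt_or_ge x 8 with h | h
    · exact lK_mem_L h
    · rw [lK_of_ge h]; exact L.one_mem

theorem chk_hInK : ∀ x, x < 10 → prodR 52 ((hInK x).map letMK) = letMT x := by decide +kernel

/-- **the first ten of the twelve letters lie in `L`** -/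
theorem lT_mem_L {x : ℕ} (hx : x < 10) : lT x ∈ L := by
  have e : lT x = VCert.wd lK (hInK x) := by
    apply Subtype.ext
    apply Units.ext
    rw [wd_lK_mat, chk_hInK x hx]
    exact lGT_val x
  rw [e]
  exact wd_lK_mem_L _

/-- the eight letters in `L` -/
noncomputable def lK1 (x : ℕ) : ↥L := if h : x < 8 then ⟨lK x, lK_mem_L h⟩ else 1

theorem lK1_val {x : ℕ} (hx : x < 8) : (lK1 x : G) = lK x := by
  rw [lK1, dif_pos hx]

theorem lK1_of_ge {x : ℕ} (hx : 8 ≤ x) : lK1 x = 1 := by
  rw [lK1, dif_neg (by omega)]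

theorem wd_lK1_val : ∀ w : List ℕ, ((VCert.wd lK1 w : ↥L) : G) = VCert.wd lK w
  | [] => rfl
  | x :: w => by
    rw [VCert.wd_cons, VCert.wd_cons, Subgroup.coe_mul, wd_lK1_val w]
    congr 1
    rcases Nat.lt_or_ge x 8 with h | h
    · exact lK1_val h
    · rw [lK1_of_ge h, lK_of_ge h]
      rfl

theorem lK1_iv {x : ℕ} (hx : x < 8) : lK1 (Nat.xor x 1) = (lK1 x)⁻¹ := by
  have hx' : Nat.xor x 1 < 8 := by
    have : x = 0 ∨ x = 1 ∨ x = 2 ∨ x = 3 ∨ x = 4 ∨ x = 5 ∨ x = 6 ∨ x = 7 := by omega
    rcases this with rfl | rfl | rfl | rfl | rfl | rfl | rfl | rfl <;> decide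
  apply Subtype.ext
  rw [Subgroup.coe_inv, lK1_val hx', lK1_val hx]
  exact lK_iv hx

theorem closure_lK1 : Subgroup.closure (lK1 '' Set.Iio 8) = ⊤ := by
  have h := Subgroup.closure_closure_coe_preimage (k := lK '' Set.Iio 8)
  have e : ((↑) ⁻¹' (lK '' Set.Iio 8) : Set ↥(Subgroup.closure (lK '' Set.Iio 8))) = lK1 '' Set.Iio 8 := by
    ext z
    constructor
    · rintro ⟨x, hx, hz⟩
      exact ⟨x, hx, Subtype.ext (by rw [lK1_val hx]; exact hz)⟩
    · rintro ⟨x, hx, rfl⟩
      exact ⟨x, hx, (lK1_val hx).symm⟩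
  rw [e] at h
  exact h

/-- **a word in the eight letters is trivial in `L` as soon as the product of the matrices is the unit matrix** -/
theorem wd_lK1_eq_one {w : List ℕ} (h : matOKK w = true) : VCert.wd lK1 w = 1 := by
  apply Subtype.ext
  rw [wd_lK1_val w, wd_lK_eq_one h]
  rfl

/-- the check of a word in the first six letters -/
def matOK6 (w : List ℕ) : Bool := (w.all fun x => Nat.blt x 6) && matOKK w

/-- the check of a word in the first four letters -/
def matOK4 (w : List ℕ) : Bool := (w.all fun x => Nat.blt x 4) && matOKK w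

end Cfsg.Agent.Lib.Helper7.F42B
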