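import Cfsg.Agent.Lib.Helper7.F42Base

/-!
# The Chevalley group of type `F₄` over the field with two elements: the eight letters as words in the twelve letters

The eight letters of the chain are words in the first ten of the twelve letters of the table of the group, and these
ten letters are words in the eight letters.
-/

set_option autoImplicit false
set_option maxRecDepth 100000

namespace Cfsg.Agent.Lib.Helper7.F42B

open Cfsg Cfsg.Lie Cfsg.Agent.Lib.Helper7.MG Cfsg.Agent.Lib.Helper7.HSMult Cfsg.Agent.Lib.Helper6.BitMat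

/-- the eight letters as words in the first ten of the twelve letters -/
def kInT : ℕ → List ℕ
  | 0 => [3, 7, 2, 6, 5, 4, 5, 1, 0, 6, 2, 1, 3, 1, 0, 8, 2, 1, 2, 7, 3]
  | 1 => [3, 7, 2, 1, 2, 8, 0, 1, 3, 1, 2, 6, 0, 1, 5, 4, 5, 6, 2, 7, 3]
  | 2 => [7, 3, 0, 1, 5, 2, 6, 4, 0, 1, 0, 3, 7, 5, 4, 5, 6, 2, 1, 5, 7, 3, 5]
  | 3 => [5, 3, 7, 5, 1, 2, 6, 5, 4, 5, 7, 3, 0, 1, 0, 4, 6, 2, 5, 1, 0, 3, 7]
  | 4 => [0, 1, 4, 5, 6, 7, 5, 1, 4, 0]
  | 5 => [0, 4, 1, 5, 7, 6, 5, 4, 1, 0]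
  | 6 => [0, 1, 2, 4, 5, 6, 9, 6, 2, 5, 1, 4, 0]
  | 7 => [0, 4, 1, 5, 2, 6, 9, 6, 5, 4, 2, 1, 0]
  | _ => []

theorem chk_kInT : ∀ y, y < 8 → prodR 52 ((kInT y).map letMT) = letMK y := by decide +kernel

theorem chk_kInT_lt : ∀ y, y < 8 → ∀ x ∈ kInT y, x < 10 := by decide

theorem lK_eq_kInT {y : ℕ} (hy : y < 8) : lK y = VCert.wd lT (kInT y) := by
  apply Subtype.ext
  apply Units.ext
  rw [wd_lT_mat, chk_kInT y hy]
  exact lGK_val y

theorem lT_eq_hInK {x : ℕ} (hx : x < 10) : lT x = VCert.wd lK (hInK x) := by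
  apply Subtype.ext
  apply Units.ext
  rw [wd_lK_mat, chk_hInK x hx]
  exact lGT_val x

theorem chk_hInK_lt : ∀ x, x < 10 → ∀ y ∈ hInK x, y < 8 := by decide

end Cfsg.Agent.Lib.Helper7.F42B
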