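import Cfsg.Agent.Lib.Helper7.F42Base
import Cfsg.Agent.Lib.Helper7.F42A2C

/-! # The Chevalley group of type F4 over the field of two elements: the words of the certificate of the table of the subgroup generated by the first six letters are
trivial, part 1 (generated) -/

set_option autoImplicit false
set_option maxRecDepth 100000

namespace Cfsg.Agent.Lib.Helper7.F42B

open Cfsg Cfsg.Agent.Lib.Helper7.MG Cfsg.Agent.Lib.Helper7.HSMult

theorem chk_triv2_10 : (allN 20 fun i => strictL (F42A2.cert.W (Nat.add 200 i)) fun w => matOK6 w) = true := by
  decide +kernel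

theorem chk_triv2_11 : (allN 20 fun i => strictL (F42A2.cert.W (Nat.add 220 i)) fun w => matOK6 w) = true := by
  decide +kernel

theorem chk_triv2_12 : (allN 20 fun i => strictL (F42A2.cert.W (Nat.add 240 i)) fun w => matOK6 w) = true := by
  decide +kernel

theorem chk_triv2_13 : (allN 20 fun i => strictL (F42A2.cert.W (Nat.add 260 i)) fun w => matOK6 w) = true := by
  decide +kernel

theorem chk_triv2_14 : (allN 20 fun i => strictL (F42A2.cert.W (Nat.add 280 i)) fun w => matOK6 w) = true := by
  decide +kernel

theorem chk_triv2_15 : (allN 20 fun i => strictL (F42A2.cert.W (Nat.add 300 i)) fun w => matOK6 w) = true := by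
  decide +kernel

theorem chk_triv2_16 : (allN 20 fun i => strictL (F42A2.cert.W (Nat.add 320 i)) fun w => matOK6 w) = true := by
  decide +kernel

theorem chk_triv2_17 : (allN 20 fun i => strictL (F42A2.cert.W (Nat.add 340 i)) fun w => matOK6 w) = true := by
  decide +kernel

theorem chk_triv2_18 : (allN 20 fun i => strictL (F42A2.cert.W (Nat.add 360 i)) fun w => matOK6 w) = true := by
  decide +kernel

theorem chk_triv2_19 : (allN 20 fun i => strictL (F42A2.cert.W (Nat.add 380 i)) fun w => matOK6 w) = true := by
  decide +kernel

end Cfsg.Agent.Lib.Helper7.F42B
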