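import Cfsg.Agent.Lib.Helper7.F42Base
import Cfsg.Agent.Lib.Helper7.F42A2C

/-! # The Chevalley group of type F4 over the field of two elements: the words of the certificate of the table of the subgroup generated by the first six letters are
trivial, part 3 (generated) -/

set_option autoImplicit false
set_option maxRecDepth 100000

namespace Cfsg.Agent.Lib.Helper7.F42B

open Cfsg Cfsg.Agent.Lib.Helper7.MG Cfsg.Agent.Lib.Helper7.HSMult

theorem chk_triv2_30 : (allN 20 fun i => strictL (F42A2.cert.W (Nat.add 600 i)) fun w => matOK6 w) = true := by
  decide +kernel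

theorem chk_triv2_31 : (allN 20 fun i => strictL (F42A2.cert.W (Nat.add 620 i)) fun w => matOK6 w) = true := by
  decide +kernel

theorem chk_triv2_32 : (allN 20 fun i => strictL (F42A2.cert.W (Nat.add 640 i)) fun w => matOK6 w) = true := by
  decide +kernel

theorem chk_triv2_33 : (allN 20 fun i => strictL (F42A2.cert.W (Nat.add 660 i)) fun w => matOK6 w) = true := by
  decide +kernel

theorem chk_triv2_34 : (allN 20 fun i => strictL (F42A2.cert.W (Nat.add 680 i)) fun w => matOK6 w) = true := by
  decide +kernel

theorem chk_triv2_35 : (allN 20 fun i => strictL (F42A2.cert.W (Nat.add 700 i)) fun w => matOK6 w) = true := by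
  decide +kernel

theorem chk_triv2_36 : (allN 20 fun i => strictL (F42A2.cert.W (Nat.add 720 i)) fun w => matOK6 w) = true := by
  decide +kernel

theorem chk_triv2_37 : (allN 20 fun i => strictL (F42A2.cert.W (Nat.add 740 i)) fun w => matOK6 w) = true := by
  decide +kernel

theorem chk_triv2_38 : (allN 20 fun i => strictL (F42A2.cert.W (Nat.add 760 i)) fun w => matOK6 w) = true := by
  decide +kernel

end Cfsg.Agent.Lib.Helper7.F42B
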