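import Cfsg.Agent.Lib.Helper7.F42Grp2w0
import Cfsg.Agent.Lib.Helper7.F42Grp2w1
import Cfsg.Agent.Lib.Helper7.F42Grp2w2
import Cfsg.Agent.Lib.Helper7.F42Grp2w3
import Cfsg.Agent.Lib.Helper7.O73A1D

/-! # The Chevalley group of type F4 over the field of two elements: the words of the certificates of the subgroups generated by the first six and by the first four
letters are trivial (generated) -/

set_option autoImplicit false
set_option maxRecDepth 100000

namespace Cfsg.Agent.Lib.Helper7.F42B

open Cfsg Cfsg.Agent.Lib.Helper7.MG Cfsg.Agent.Lib.Helper7.HSMult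

theorem chk_triv2_all : ∀ k, k < 39 →
    (allN 20 fun i => strictL (F42A2.cert.W (Nat.add (20 * k) i)) fun w => matOK6 w) = true
  | 0, _ => chk_triv2_0
  | 1, _ => chk_triv2_1
  | 2, _ => chk_triv2_2
  | 3, _ => chk_triv2_3
  | 4, _ => chk_triv2_4
  | 5, _ => chk_triv2_5
  | 6, _ => chk_triv2_6
  | 7, _ => chk_triv2_7
  | 8, _ => chk_triv2_8
  | 9, _ => chk_triv2_9
  | 10, _ => chk_triv2_10
  | 11, _ => chk_triv2_11
  | 12, _ => chk_triv2_12
  | 13, _ => chk_triv2_13
  | 14, _ => chk_triv2_14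
  | 15, _ => chk_triv2_15
  | 16, _ => chk_triv2_16
  | 17, _ => chk_triv2_17
  | 18, _ => chk_triv2_18
  | 19, _ => chk_triv2_19
  | 20, _ => chk_triv2_20
  | 21, _ => chk_triv2_21
  | 22, _ => chk_triv2_22
  | 23, _ => chk_triv2_23
  | 24, _ => chk_triv2_24
  | 25, _ => chk_triv2_25
  | 26, _ => chk_triv2_26
  | 27, _ => chk_triv2_27
  | 28, _ => chk_triv2_28
  | 29, _ => chk_triv2_29
  | 30, _ => chk_triv2_30
  | 31, _ => chk_triv2_31
  | 32, _ => chk_triv2_32
  | 33, _ => chk_triv2_33
  | 34, _ => chk_triv2_34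
  | 35, _ => chk_triv2_35
  | 36, _ => chk_triv2_36
  | 37, _ => chk_triv2_37
  | 38, _ => chk_triv2_38
  | k + 39, h => absurd h (by omega)

theorem chk_triv2 {i : ℕ} (hi : i < 779) : matOK6 (F42A2.cert.W i) = true := by
  have h := chk_triv2_all (i / 20) (by omega)
  rw [allN_iff] at h
  have h1 := h (i % 20) (Nat.mod_lt _ (by norm_num))
  rw [strictL_eq] at h1
  have e : Nat.add (20 * (i / 20)) (i % 20) = i := Nat.div_add_mod i 20
  rw [e] at h1
  exact h1

theorem chk_triv1_0 : (allN 13 fun i => strictL (O73A1.cert.W (Nat.add 0 i)) fun w => matOK4 w) = true := by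
  decide +kernel

theorem chk_triv1_1 : (allN 13 fun i => strictL (O73A1.cert.W (Nat.add 13 i)) fun w => matOK4 w) = true := by
  decide +kernel

theorem chk_triv1_2 : (allN 13 fun i => strictL (O73A1.cert.W (Nat.add 26 i)) fun w => matOK4 w) = true := by
  decide +kernel

theorem chk_triv1_3 : (allN 13 fun i => strictL (O73A1.cert.W (Nat.add 39 i)) fun w => matOK4 w) = true := by
  decide +kernel

theorem chk_triv1_4 : (allN 13 fun i => strictL (O73A1.cert.W (Nat.add 52 i)) fun w => matOK4 w) = true := by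
  decide +kernel

theorem chk_triv1_all : ∀ k, k < 5 →
    (allN 13 fun i => strictL (O73A1.cert.W (Nat.add (13 * k) i)) fun w => matOK4 w) = true
  | 0, _ => chk_triv1_0
  | 1, _ => chk_triv1_1
  | 2, _ => chk_triv1_2
  | 3, _ => chk_triv1_3
  | 4, _ => chk_triv1_4
  | k + 5, h => absurd h (by omega)

theorem chk_triv1 {i : ℕ} (hi : i < 65) : matOK4 (O73A1.cert.W i) = true := by
  have h := chk_triv1_all (i / 13) (by omega)
  rw [allN_iff] at h
  have h1 := h (i % 13) (Nat.mod_lt _ (by norm_num))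
  rw [strictL_eq] at h1
  have e : Nat.add (13 * (i / 13)) (i % 13) = i := Nat.div_add_mod i 13
  rw [e] at h1
  exact h1

theorem chk_v7 : matOK4 (wpow 7 [2]) = true := by decide +kernel

theorem chk_u2 : matOK4 (wpow 2 [0]) = true := by decide +kernel

theorem chk_uv7 : matOK4 (wpow 7 [0, 2]) = true := by decide +kernel

theorem chk_uvv6 : matOK4 (wpow 6 [0, 2, 2]) = true := by decide +kernel

theorem chk_c2 : matOK6 (wpow 2 [4]) = true := by decide +kernel

theorem chk_y2 : matOK6 (wpow 7 [4, 2]) = true := by decide +kernel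

theorem chk_v_move : ∃ a b : Fin 52, a ≠ b ∧ ((letMK 2).getD b 0).testBit a = true := by decide +kernel

end Cfsg.Agent.Lib.Helper7.F42B
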