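import Cfsg.Agent.Lib.Helper7.F42Grp3
import Cfsg.Agent.Lib.Helper7.F42Grp2w
import Cfsg.Agent.Lib.Helper7.F42A2D
import Cfsg.Agent.Lib.Helper7.MGenP

/-!
# The Chevalley group of type F4 over the field of two elements: the subgroup generated by the first six letters of the chain

The subgroup generated by the first six letters is taken as the group here; it is the orthogonal group of dimension
eight of minus type over the field of two elements.  Its subgroup generated by the first four letters is again called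
`L`; it is the unitary group of dimension three over the field of nine elements.  All the words of the two
certificates are trivial.  The table of the cosets of the smaller subgroup shows that it has index at most 32640, the
table of the cosets in it of the subgroup generated by `v` shows that it has at most 6048 elements.
-/

set_option autoImplicit false
set_option maxRecDepth 100000

namespace Cfsg.Agent.Lib.Helper7.F42V2

open Cfsg Cfsg.Agent.Lib.Helper7.MG Cfsg.Agent.Lib.Helper7.HSMult Cfsg.Agent.Lib.Helper6.BitMat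
open scoped IsMulCommutative commutatorElement

/-- the group: the subgroup generated by the first six letters -/
abbrev G : Type := ↥F42V3.L

/-- the letters -/
noncomputable def lK (x : ℕ) : G := F42V3.lK1 x

theorem lK_of_ge {x : ℕ} (hx : 6 ≤ x) : lK x = 1 := F42V3.lK1_of_ge hx

theorem lK_iv {x : ℕ} (hx : x < 6) : lK (Nat.xor x 1) = (lK x)⁻¹ := F42V3.lK1_iv hx

theorem closure_lK : Subgroup.closure (lK '' Set.Iio 6) = ⊤ := F42V3.closure_lK1

/-- **a word in the six letters is trivial as soon as the product of the matrices is the unit matrix** -/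
theorem wd_lK_eq_one {w : List ℕ} (h : F42B.matOK6 w = true) : VCert.wd lK w = 1 := F42V3.wd_lK1_eq_one h

instance instFiniteG : Finite G := inferInstance

/-- the subgroup generated by the first 4 letters -/
noncomputable def L : Subgroup G := Subgroup.closure (lK '' Set.Iio 4)

theorem lK_mem_L {x : ℕ} (hx : x < 4) : lK x ∈ L := Subgroup.subset_closure ⟨x, hx, rfl⟩

/-- the first 4 letters in the subgroup -/
noncomputable def lK1 (x : ℕ) : ↥L := if h : x < 4 then ⟨lK x, lK_mem_L h⟩ else 1

theorem lK1_val {x : ℕ} (hx : x < 4) : (lK1 x : G) = lK x := by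
  rw [lK1, dif_pos hx]

theorem lK1_of_ge {x : ℕ} (hx : 4 ≤ x) : lK1 x = 1 := by
  rw [lK1, dif_neg (by omega)]

theorem wd_lK1_val : ∀ w : List ℕ, (∀ x ∈ w, x < 4) → ((VCert.wd lK1 w : ↥L) : G) = VCert.wd lK w
  | [], _ => rfl
  | x :: w, h => by
    rw [VCert.wd_cons, VCert.wd_cons, Subgroup.coe_mul, lK1_val (h x List.mem_cons_self),
      wd_lK1_val w fun y hy => h y (List.mem_cons_of_mem _ hy)]

theorem lK1_iv {x : ℕ} (hx : x < 4) : lK1 (Nat.xor x 1) = (lK1 x)⁻¹ := by
  have hx' : Nat.xor x 1 < 4 := by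
    have : x = 0 ∨ x = 1 ∨ x = 2 ∨ x = 3 := by omega
    rcases this with rfl | rfl | rfl | rfl <;> decide
  apply Subtype.ext
  rw [Subgroup.coe_inv, lK1_val hx', lK1_val hx, lK_iv (by omega)]

theorem closure_lK1 : Subgroup.closure (lK1 '' Set.Iio 4) = ⊤ := by
  have h := Subgroup.closure_closure_coe_preimage (k := lK '' Set.Iio 4)
  have e : ((↑) ⁻¹' (lK '' Set.Iio 4) : Set ↥(Subgroup.closure (lK '' Set.Iio 4))) = lK1 '' Set.Iio 4 := by
    ext z
    constructor
    · rintro ⟨x, hx, hz⟩
      exact ⟨x, hx, Subtype.ext (by rw [lK1_val hx]; exact hz)⟩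
    · rintro ⟨x, hx, rfl⟩
      exact ⟨x, hx, (lK1_val hx).symm⟩
  rw [e] at h
  exact h

theorem matOK6_of_matOK4 {w : List ℕ} (h : F42B.matOK4 w = true) : F42B.matOK6 w = true := by
  rw [F42B.matOK4, Bool.and_eq_true] at h
  rw [F42B.matOK6, Bool.and_eq_true]
  refine ⟨?_, h.2⟩
  rw [List.all_eq_true]
  intro x hx
  have := List.all_eq_true.1 h.1 x hx
  have h4 : x < 4 := by simpa [Nat.blt] using this
  have h6 : x < 6 := by omega
  simpa [Nat.blt] using h6

theorem wd_lK1_eq_one {w : List ℕ} (h : F42B.matOK4 w = true) : VCert.wd lK1 w = 1 := by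
  have hw : ∀ x ∈ w, x < 4 := by
    rw [F42B.matOK4, Bool.and_eq_true] at h
    exact fun x hx => by simpa [Nat.blt] using List.all_eq_true.1 h.1 x hx
  apply Subtype.ext
  rw [wd_lK1_val w hw, wd_lK_eq_one (matOK6_of_matOK4 h)]
  rfl

/-! ### the words of the certificates -/

theorem wd_lK1_W {i : ℕ} (hi : i < 65) : VCert.wd lK1 (O73A1.cert.W i) = 1 :=
  wd_lK1_eq_one (F42B.chk_triv1 hi)

theorem wd_lK_W {i : ℕ} (hi : i < 779) : VCert.wd lK (F42A2.cert.W i) = 1 :=
  wd_lK_eq_one (F42B.chk_triv2 hi)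

/-! ### the order of `v` -/

theorem lK1_two_pow : lK1 2 ^ 7 = 1 := by
  have h := wd_lK1_eq_one F42B.chk_v7
  rw [wd_wpow, VCert.wd_cons, VCert.wd_nil, mul_one] at h
  exact h

theorem lK_two_ne : lK 2 ≠ 1 := by
  intro h
  have h0 : F42V3.lK 2 = 1 := by
    have := congrArg Subtype.val h
    rw [lK, F42V3.lK1_val (by norm_num)] at this
    exact this
  have h1 : F42B.lK 2 = 1 := by
    have := congrArg Subtype.val h0
    rw [F42V3.lK, F42B.lK1_val (by norm_num)] at this
    exact this
  have h2 : F42B.mB (F42B.letMK 2) = 1 := by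
    rw [← F42B.lGK_val]
    have := congrArg Subtype.val h1
    have h3 : F42B.lGK 2 = 1 := this
    rw [h3]
    rfl
  obtain ⟨a, b, hab, hne⟩ := F42B.chk_v_move
  have h4 := congrFun (congrFun h2 (F42B.e52.symm a)) (F42B.e52.symm b)
  rw [Matrix.one_apply_ne (fun h => hab (F42B.e52.symm.injective h))] at h4
  have h5 : F42B.mB (F42B.letMK 2) (F42B.e52.symm a) (F42B.e52.symm b) =
      bz (((F42B.letMK 2).getD b 0).testBit a) := by
    show bz _ = _
    rw [Equiv.apply_symm_apply, Equiv.apply_symm_apply]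
  rw [h5, hne] at h4
  exact one_ne_zero h4

theorem lK1_two_ne : lK1 2 ≠ 1 := by
  intro h
  have h1 : lK 2 = 1 := by
    have := congrArg Subtype.val h
    rw [lK1_val (by norm_num)] at this
    exact this
  exact lK_two_ne h1

theorem dvd_of_lK1_two_pow {i : ℕ} (h : lK1 2 ^ i = 1) : 7 ∣ i := by
  have h1 : orderOf (lK1 2) ∣ 7 := orderOf_dvd_of_pow_eq_one lK1_two_pow
  have h2 : orderOf (lK1 2) = 1 ∨ orderOf (lK1 2) = 7 := (Nat.dvd_prime (by norm_num)).1 h1
  rcases h2 with h2 | h2
  · exact absurd (orderOf_eq_one_iff.1 h2) lK1_two_ne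
  · rw [← h2]
    exact orderOf_dvd_of_pow_eq_one h

/-! ### the orders -/

/-- the letters of the subgroup of the second table -/
theorem lt_four_of_sub {x : ℕ}
    (hx : (Nat.beq x 0 || Nat.beq x 1 || Nat.beq x 2 || Nat.beq x 3) = true) : x < 4 := by
  simp only [Bool.or_eq_true] at hx
  rcases hx with ((h | h) | h) | h <;>
    (rw [Nat.eq_of_beq_eq_true h]; norm_num)

instance instFiniteL : Finite ↥L := inferInstance

theorem hgen_L : ∀ y : ↥L, ∃ u : List ℕ, (∀ x ∈ u, x < O73A1.cert.g) ∧ y = (u.map lK1).prod := by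
  apply MG.exists_word_of_closure lK1 4 (fun x => Nat.xor x 1) _ closure_lK1
  intro x hx
  refine ⟨?_, lK1_iv hx⟩
  have : x = 0 ∨ x = 1 ∨ x = 2 ∨ x = 3 := by omega
  rcases this with rfl | rfl | rfl | rfl <;> decide

theorem hgen_G : ∀ y : G, ∃ u : List ℕ, (∀ x ∈ u, x < F42A2.cert.g) ∧ y = (u.map lK).prod := by
  apply MG.exists_word_of_closure lK 6 (fun x => Nat.xor x 1) _ closure_lK
  intro x hx
  refine ⟨?_, lK_iv hx⟩
  have : x = 0 ∨ x = 1 ∨ x = 2 ∨ x = 3 ∨ x = 4 ∨ x = 5 := by omega
  rcases this with rfl | rfl | rfl | rfl | rfl | rfl <;> decide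

theorem index_L_le : L.index ≤ 32640 ∧ L.index ≠ 0 := by
  refine F42A2.cert.index_le (γ := lK) (H := L) (z := fun _ => 1) ⊥ ?_ ?_ ?_ (by decide) (by decide)
    (fun x hx => lK_iv hx) ?_ ?_ ?_ F42A2.cert_all F42A2.cert_wall L le_rfl ?_ hgen_G (by decide)
  · intro u hu g
    rw [Subgroup.mem_bot] at hu
    rw [hu, mul_one, mul_inv_cancel]
    exact Subgroup.one_mem _
  · intro j _
    exact Subgroup.one_mem _
  · intro u _ hu
    exact Subgroup.mem_bot.1 hu
  · intro x hx
    exact lK_mem_L (lt_four_of_sub hx)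
  · intro i hi
    rw [Subgroup.mem_bot]
    exact wd_lK_W hi
  · intro i hi _
    rw [wd_lK_W hi, VCert.ek, F42A2.cert.kap_triv _ (fun _ _ => rfl)]
    rfl
  · intro j _
    exact Subgroup.one_mem _

theorem card_L_le : Nat.card ↥L ≤ 6048 := by
  have h := card_le_Zc (MonoidHom.id ↥L) O73A1.cert lK1 (fun _ => 1) 2 7 (by decide) (by norm_num)
    (fun i hi => dvd_of_lK1_two_pow hi) lK1_two_pow
    (by
      intro x hx
      rcases eq_two_or_three hx with rfl | rfl
      · exact Subgroup.mem_zpowers _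
      · have : lK1 3 = (lK1 2)⁻¹ := lK1_iv (x := 2) (by norm_num)
        rw [this]
        exact Subgroup.inv_mem _ (Subgroup.mem_zpowers _))
    (fun j _ => Subgroup.one_mem _) hgen_L (by decide) (by decide)
    (fun x hx => lK1_iv hx)
    (fun i hi => by rw [MonoidHom.mem_ker]; exact wd_lK1_W hi)
    (fun i hi _ => by rw [wd_lK1_W hi, VCert.ek, O73A1.cert.kap_triv _ (fun _ _ => rfl)]; rfl)
    O73A1.cert_all O73A1.cert_wall
  rw [Zc_eq_bot_of_triv _ _ (fun _ _ => rfl), Subgroup.card_bot] at h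
  exact h

theorem card_G_le : Nat.card G ≤ 197406720 := by
  have h1 := Subgroup.card_mul_index L
  obtain ⟨h2, _⟩ := index_L_le
  have h3 := card_L_le
  have : Nat.card ↥L * L.index ≤ 6048 * 32640 := Nat.mul_le_mul h3 h2
  omega

end Cfsg.Agent.Lib.Helper7.F42V2
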