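import Cfsg.Agent.Lib.Helper7.F42Grp3w
import Cfsg.Agent.Lib.Helper7.F42A3D

/-!
# The Chevalley group of type F4 over the field of two elements: the subgroup generated by the eight letters of the chain

The subgroup `L` of the group generated by the eight letters is taken as the group here; it is the symplectic group
of dimension eight over the field of two elements.  Its subgroup generated by the first six letters is again called
`L`; the table of its cosets shows that it has index at most 240.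
-/

set_option autoImplicit false
set_option maxRecDepth 100000

namespace Cfsg.Agent.Lib.Helper7.F42V3

open Cfsg Cfsg.Agent.Lib.Helper7.MG Cfsg.Agent.Lib.Helper7.HSMult

/-- the group: the subgroup generated by the eight letters -/
abbrev G : Type := ↥F42B.L

/-- the letters -/
noncomputable def lK (x : ℕ) : G := F42B.lK1 x

theorem lK_of_ge {x : ℕ} (hx : 8 ≤ x) : lK x = 1 := F42B.lK1_of_ge hx

theorem lK_iv {x : ℕ} (hx : x < 8) : lK (Nat.xor x 1) = (lK x)⁻¹ := F42B.lK1_iv hx

theorem closure_lK : Subgroup.closure (lK '' Set.Iio 8) = ⊤ := F42B.closure_lK1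

/-- **a word in the eight letters is trivial as soon as the product of the matrices is the unit matrix** -/
theorem wd_lK_eq_one {w : List ℕ} (h : F42B.matOKK w = true) : VCert.wd lK w = 1 := F42B.wd_lK1_eq_one h

instance instFiniteG : Finite G := inferInstance

/-- the subgroup generated by the first 6 letters -/
noncomputable def L : Subgroup G := Subgroup.closure (lK '' Set.Iio 6)

theorem lK_mem_L {x : ℕ} (hx : x < 6) : lK x ∈ L := Subgroup.subset_closure ⟨x, hx, rfl⟩

/-- the first 6 letters in the subgroup -/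
noncomputable def lK1 (x : ℕ) : ↥L := if h : x < 6 then ⟨lK x, lK_mem_L h⟩ else 1

theorem lK1_val {x : ℕ} (hx : x < 6) : (lK1 x : G) = lK x := by
  rw [lK1, dif_pos hx]

theorem lK1_of_ge {x : ℕ} (hx : 6 ≤ x) : lK1 x = 1 := by
  rw [lK1, dif_neg (by omega)]

theorem wd_lK1_val : ∀ w : List ℕ, (∀ x ∈ w, x < 6) → ((VCert.wd lK1 w : ↥L) : G) = VCert.wd lK w
  | [], _ => rfl
  | x :: w, h => by
    rw [VCert.wd_cons, VCert.wd_cons, Subgroup.coe_mul, lK1_val (h x List.mem_cons_self),
      wd_lK1_val w fun y hy => h y (List.mem_cons_of_mem _ hy)]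

theorem lK1_iv {x : ℕ} (hx : x < 6) : lK1 (Nat.xor x 1) = (lK1 x)⁻¹ := by
  have hx' : Nat.xor x 1 < 6 := by
    have : x = 0 ∨ x = 1 ∨ x = 2 ∨ x = 3 ∨ x = 4 ∨ x = 5 := by omega
    rcases this with rfl | rfl | rfl | rfl | rfl | rfl <;> decide
  apply Subtype.ext
  rw [Subgroup.coe_inv, lK1_val hx', lK1_val hx, lK_iv (by omega)]

theorem closure_lK1 : Subgroup.closure (lK1 '' Set.Iio 6) = ⊤ := by
  have h := Subgroup.closure_closure_coe_preimage (k := lK '' Set.Iio 6)
  have e : ((↑) ⁻¹' (lK '' Set.Iio 6) : Set ↥(Subgroup.closure (lK '' Set.Iio 6))) = lK1 '' Set.Iio 6 := by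
    ext z
    constructor
    · rintro ⟨x, hx, hz⟩
      exact ⟨x, hx, Subtype.ext (by rw [lK1_val hx]; exact hz)⟩
    · rintro ⟨x, hx, rfl⟩
      exact ⟨x, hx, (lK1_val hx).symm⟩
  rw [e] at h
  exact h

theorem wd_lK1_eq_one {w : List ℕ} (h : F42B.matOK6 w = true) : VCert.wd lK1 w = 1 := by
  rw [F42B.matOK6, Bool.and_eq_true] at h
  have hw : ∀ x ∈ w, x < 6 := fun x hx => by simpa [Nat.blt] using List.all_eq_true.1 h.1 x hx
  apply Subtype.ext
  rw [wd_lK1_val w hw, wd_lK_eq_one h.2]
  rfl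

theorem wd_lK_W {i : ℕ} (hi : i < 419) : VCert.wd lK (F42A3.cert.W i) = 1 :=
  wd_lK_eq_one (F42B.chk_triv3 hi)

/-- the letters of the subgroup of the table -/
theorem lt_six_of_sub {x : ℕ}
    (hx : (Nat.beq x 0 || Nat.beq x 1 || Nat.beq x 2 || Nat.beq x 3 || Nat.beq x 4 || Nat.beq x 5) = true) : x < 6 := by
  simp only [Bool.or_eq_true] at hx
  rcases hx with ((((h | h) | h) | h) | h) | h <;>
    (rw [Nat.eq_of_beq_eq_true h]; norm_num)

theorem hgen_G : ∀ y : G, ∃ u : List ℕ, (∀ x ∈ u, x < F42A3.cert.g) ∧ y = (u.map lK).prod := by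
  apply MG.exists_word_of_closure lK 8 (fun x => Nat.xor x 1) _ closure_lK
  intro x hx
  refine ⟨?_, lK_iv hx⟩
  have : x = 0 ∨ x = 1 ∨ x = 2 ∨ x = 3 ∨ x = 4 ∨ x = 5 ∨ x = 6 ∨ x = 7 := by omega
  rcases this with rfl | rfl | rfl | rfl | rfl | rfl | rfl | rfl <;> decide

theorem index_L_le : L.index ≤ 240 ∧ L.index ≠ 0 := by
  refine F42A3.cert.index_le (γ := lK) (H := L) (z := fun _ => 1) ⊥ ?_ ?_ ?_ (by decide) (by decide)
    (fun x hx => lK_iv hx) ?_ ?_ ?_ F42A3.cert_all F42A3.cert_wall L le_rfl ?_ hgen_G (by decide)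
  · intro u hu g
    rw [Subgroup.mem_bot] at hu
    rw [hu, mul_one, mul_inv_cancel]
    exact Subgroup.one_mem _
  · intro j _
    exact Subgroup.one_mem _
  · intro u _ hu
    exact Subgroup.mem_bot.1 hu
  · intro x hx
    exact lK_mem_L (lt_six_of_sub hx)
  · intro i hi
    rw [Subgroup.mem_bot]
    exact wd_lK_W hi
  · intro i hi _
    rw [wd_lK_W hi, VCert.ek, F42A3.cert.kap_triv _ (fun _ _ => rfl)]
    rfl
  · intro j _
    exact Subgroup.one_mem _

end Cfsg.Agent.Lib.Helper7.F42V3
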