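import Cfsg.Agent.Lib.Helper7.F42Base
import Cfsg.Agent.Lib.Helper7.F42A3C

/-! # The Chevalley group of type F4 over the field of two elements: the words of the certificate of the table of the subgroup generated by the eight letters are trivial
(generated) -/

set_option autoImplicit false
set_option maxRecDepth 100000

namespace Cfsg.Agent.Lib.Helper7.F42B

open Cfsg Cfsg.Agent.Lib.Helper7.MG Cfsg.Agent.Lib.Helper7.HSMult

theorem chk_triv3_0 : (allN 20 fun i => strictL (F42A3.cert.W (Nat.add 0 i)) fun w => matOKK w) = true := by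
  decide +kernel

theorem chk_triv3_1 : (allN 20 fun i => strictL (F42A3.cert.W (Nat.add 20 i)) fun w => matOKK w) = true := by
  decide +kernel

theorem chk_triv3_2 : (allN 20 fun i => strictL (F42A3.cert.W (Nat.add 40 i)) fun w => matOKK w) = true := by
  decide +kernel

theorem chk_triv3_3 : (allN 20 fun i => strictL (F42A3.cert.W (Nat.add 60 i)) fun w => matOKK w) = true := by
  decide +kernel

theorem chk_triv3_4 : (allN 20 fun i => strictL (F42A3.cert.W (Nat.add 80 i)) fun w => matOKK w) = true := by
  decide +kernel

theorem chk_triv3_5 : (allN 20 fun i => strictL (F42A3.cert.W (Nat.add 100 i)) fun w => matOKK w) = true := by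
  decide +kernel

theorem chk_triv3_6 : (allN 20 fun i => strictL (F42A3.cert.W (Nat.add 120 i)) fun w => matOKK w) = true := by
  decide +kernel

theorem chk_triv3_7 : (allN 20 fun i => strictL (F42A3.cert.W (Nat.add 140 i)) fun w => matOKK w) = true := by
  decide +kernel

theorem chk_triv3_8 : (allN 20 fun i => strictL (F42A3.cert.W (Nat.add 160 i)) fun w => matOKK w) = true := by
  decide +kernel

theorem chk_triv3_9 : (allN 20 fun i => strictL (F42A3.cert.W (Nat.add 180 i)) fun w => matOKK w) = true := by
  decide +kernel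

theorem chk_triv3_10 : (allN 20 fun i => strictL (F42A3.cert.W (Nat.add 200 i)) fun w => matOKK w) = true := by
  decide +kernel

theorem chk_triv3_11 : (allN 20 fun i => strictL (F42A3.cert.W (Nat.add 220 i)) fun w => matOKK w) = true := by
  decide +kernel

theorem chk_triv3_12 : (allN 20 fun i => strictL (F42A3.cert.W (Nat.add 240 i)) fun w => matOKK w) = true := by
  decide +kernel

theorem chk_triv3_13 : (allN 20 fun i => strictL (F42A3.cert.W (Nat.add 260 i)) fun w => matOKK w) = true := by
  decide +kernel

theorem chk_triv3_14 : (allN 20 fun i => strictL (F42A3.cert.W (Nat.add 280 i)) fun w => matOKK w) = true := by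
  decide +kernel

theorem chk_triv3_15 : (allN 20 fun i => strictL (F42A3.cert.W (Nat.add 300 i)) fun w => matOKK w) = true := by
  decide +kernel

theorem chk_triv3_16 : (allN 20 fun i => strictL (F42A3.cert.W (Nat.add 320 i)) fun w => matOKK w) = true := by
  decide +kernel

theorem chk_triv3_17 : (allN 20 fun i => strictL (F42A3.cert.W (Nat.add 340 i)) fun w => matOKK w) = true := by
  decide +kernel

theorem chk_triv3_18 : (allN 20 fun i => strictL (F42A3.cert.W (Nat.add 360 i)) fun w => matOKK w) = true := by
  decide +kernel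

theorem chk_triv3_19 : (allN 20 fun i => strictL (F42A3.cert.W (Nat.add 380 i)) fun w => matOKK w) = true := by
  decide +kernel

theorem chk_triv3_20 : (allN 20 fun i => strictL (F42A3.cert.W (Nat.add 400 i)) fun w => matOKK w) = true := by
  decide +kernel

theorem chk_triv3_all : ∀ k, k < 21 →
    (allN 20 fun i => strictL (F42A3.cert.W (Nat.add (20 * k) i)) fun w => matOKK w) = true
  | 0, _ => chk_triv3_0
  | 1, _ => chk_triv3_1
  | 2, _ => chk_triv3_2
  | 3, _ => chk_triv3_3
  | 4, _ => chk_triv3_4
  | 5, _ => chk_triv3_5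
  | 6, _ => chk_triv3_6
  | 7, _ => chk_triv3_7
  | 8, _ => chk_triv3_8
  | 9, _ => chk_triv3_9
  | 10, _ => chk_triv3_10
  | 11, _ => chk_triv3_11
  | 12, _ => chk_triv3_12
  | 13, _ => chk_triv3_13
  | 14, _ => chk_triv3_14
  | 15, _ => chk_triv3_15
  | 16, _ => chk_triv3_16
  | 17, _ => chk_triv3_17
  | 18, _ => chk_triv3_18
  | 19, _ => chk_triv3_19
  | 20, _ => chk_triv3_20
  | k + 21, h => absurd h (by omega)

theorem chk_triv3 {i : ℕ} (hi : i < 419) : matOKK (F42A3.cert.W i) = true := by
  have h := chk_triv3_all (i / 20) (by omega)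
  rw [allN_iff] at h
  have h1 := h (i % 20) (Nat.mod_lt _ (by norm_num))
  rw [strictL_eq] at h1
  have e : Nat.add (20 * (i / 20)) (i % 20) = i := Nat.div_add_mod i 20
  rw [e] at h1
  exact h1

theorem chk_t2 : matOKK (wpow 2 [6]) = true := by decide +kernel

theorem chk_y3 : matOKK (wpow 7 [6, 2]) = true := by decide +kernel

end Cfsg.Agent.Lib.Helper7.F42B
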