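import Cfsg.Agent.Lib.Helper7.F42GrpT
import Cfsg.Agent.Lib.Helper7.F42Grp2

/-!
# The Chevalley group of type F4 over the field of two elements: the orders of the subgroups of the chain, which are perfect

The index of the subgroup generated by the eight letters is at most 69888, and the indices in the chain below it are
at most 240 and 32640, the smallest subgroup having at most 6048 elements; the order of the group is the product of
these numbers, so all these bounds are attained.  The subgroups are perfect.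
-/

set_option autoImplicit false
set_option maxRecDepth 100000

namespace Cfsg.Agent.Lib.Helper7.F42V3

open Cfsg Cfsg.Agent.Lib.Helper7.MG Cfsg.Agent.Lib.Helper7.HSMult
open scoped IsMulCommutative commutatorElement

theorem card_G_le : Nat.card G ≤ 47377612800 := by
  have h1 := Subgroup.card_mul_index L
  obtain ⟨h2, _⟩ := index_L_le
  have h3 : Nat.card ↥L ≤ 197406720 := F42V2.card_G_le
  have : Nat.card ↥L * L.index ≤ 197406720 * 240 := Nat.mul_le_mul h3 h2
  omega

theorem card_G : Nat.card G = 47377612800 := le_antisymm card_G_le F42B.card_L_ge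

theorem card_L : Nat.card ↥L = 197406720 := by
  have hle : Nat.card ↥L ≤ 197406720 := F42V2.card_G_le
  apply le_antisymm hle
  have h1 := Subgroup.card_mul_index L
  rw [card_G] at h1
  obtain ⟨h2, _⟩ := index_L_le
  by_contra hlt
  have h3 : Nat.card ↥L ≤ 197406719 := by omega
  have : Nat.card ↥L * L.index ≤ 197406719 * 240 := Nat.mul_le_mul h3 h2
  omega

end Cfsg.Agent.Lib.Helper7.F42V3

namespace Cfsg.Agent.Lib.Helper7.F42V2

open Cfsg Cfsg.Agent.Lib.Helper7.MG Cfsg.Agent.Lib.Helper7.HSMult
open scoped IsMulCommutative commutatorElement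

theorem card_G : Nat.card G = 197406720 := F42V3.card_L

theorem card_L : Nat.card ↥L = 6048 := by
  apply le_antisymm card_L_le
  have h1 := Subgroup.card_mul_index L
  rw [card_G] at h1
  obtain ⟨h2, _⟩ := index_L_le
  by_contra hlt
  have h3 : Nat.card ↥L ≤ 6047 := by omega
  have : Nat.card ↥L * L.index ≤ 6047 * 32640 := Nat.mul_le_mul h3 h2
  omega

/-! ### the subgroups are perfect -/

theorem closure_pair_L : Subgroup.closure {lK1 0, lK1 2} = (⊤ : Subgroup ↥L) := by
  rw [eq_top_iff, ← closure_lK1, Subgroup.closure_le]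
  rintro _ ⟨x, hx, rfl⟩
  have hx' : x < 4 := hx
  have : x = 0 ∨ x = 1 ∨ x = 2 ∨ x = 3 := by omega
  rcases this with rfl | rfl | rfl | rfl
  · exact Subgroup.subset_closure (by simp)
  · have : lK1 1 = (lK1 0)⁻¹ := lK1_iv (x := 0) (by norm_num)
    rw [SetLike.mem_coe, this]
    exact inv_mem (Subgroup.subset_closure (by simp))
  · exact Subgroup.subset_closure (by simp)
  · have : lK1 3 = (lK1 2)⁻¹ := lK1_iv (x := 2) (by norm_num)
    rw [SetLike.mem_coe, this]
    exact inv_mem (Subgroup.subset_closure (by simp))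

theorem L_perfect : commutator ↥L = ⊤ := by
  have h2 : lK1 0 ^ 2 = 1 := by
    have h := wd_lK1_eq_one F42B.chk_u2
    rw [wd_wpow, VCert.wd_cons, VCert.wd_nil, mul_one] at h
    exact h
  have h3 : (lK1 0 * lK1 2) ^ 7 = 1 := by
    have h := wd_lK1_eq_one F42B.chk_uv7
    rw [wd_wpow, VCert.wd_cons, VCert.wd_cons, VCert.wd_nil, mul_one] at h
    exact h
  have h4 : (lK1 0 * lK1 2 * lK1 2) ^ 6 = 1 := by
    have h := wd_lK1_eq_one F42B.chk_uvv6
    rw [wd_wpow, VCert.wd_cons, VCert.wd_cons, VCert.wd_cons, VCert.wd_nil, mul_one, ← mul_assoc] at h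
    exact h
  exact M12Mult.perfect_of_pair closure_pair_L h2 lK1_two_pow h3 h4 (by norm_num) (by norm_num)

theorem L_le_commutator : L ≤ commutator G := by
  have h1 : (commutator ↥L).map L.subtype ≤ commutator G := by
    rw [commutator_def, Subgroup.map_commutator, commutator_def]
    exact Subgroup.commutator_mono le_top le_top
  rw [L_perfect, ← MonoidHom.range_eq_map, Subgroup.range_subtype] at h1
  exact h1

theorem G_perfect : commutator G = ⊤ := by
  set K := commutator G with hK
  set π := QuotientGroup.mk' K with hπ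
  have hv : lK 2 ∈ K := L_le_commutator (lK_mem_L (by norm_num))
  have e2 : π (lK 2) = 1 := (QuotientGroup.eq_one_iff _).2 hv
  have h7 : (lK 4 * lK 2) ^ 7 = 1 := by
    have h := wd_lK_eq_one F42B.chk_y2
    rw [wd_wpow, VCert.wd_cons, VCert.wd_cons, VCert.wd_nil, mul_one] at h
    exact h
  have h2 : lK 4 ^ 2 = 1 := by
    have h := wd_lK_eq_one F42B.chk_c2
    rw [wd_wpow, VCert.wd_cons, VCert.wd_nil, mul_one] at h
    exact h
  have e7 : π (lK 4) ^ 7 = 1 := by
    have := congrArg π h7
    rw [map_pow, map_mul, e2, mul_one, map_one] at this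
    exact this
  have e22 : π (lK 4) ^ 2 = 1 := by rw [← map_pow, h2, map_one]
  have et : π (lK 4) = 1 := by
    have : π (lK 4) = π (lK 4) ^ 7 * ((π (lK 4) ^ 2) ^ 3)⁻¹ := by
      rw [← pow_mul]; group
    rw [this, e7, e22, one_pow, inv_one, mul_one]
  have ht : lK 4 ∈ K := (QuotientGroup.eq_one_iff _).1 et
  rw [eq_top_iff, ← closure_lK, Subgroup.closure_le]
  rintro _ ⟨x, hx, rfl⟩
  have hx' : x < 6 := hx
  have : x = 0 ∨ x = 1 ∨ x = 2 ∨ x = 3 ∨ x = 4 ∨ x = 5 := by omega
  rcases this with rfl | rfl | rfl | rfl | rfl | rfl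
  · exact L_le_commutator (lK_mem_L (by norm_num))
  · exact L_le_commutator (lK_mem_L (by norm_num))
  · exact hv
  · exact L_le_commutator (lK_mem_L (by norm_num))
  · exact ht
  · have : lK 5 = (lK 4)⁻¹ := lK_iv (x := 4) (by norm_num)
    rw [SetLike.mem_coe, this]
    exact inv_mem ht

end Cfsg.Agent.Lib.Helper7.F42V2

namespace Cfsg.Agent.Lib.Helper7.F42V3

open Cfsg Cfsg.Agent.Lib.Helper7.MG Cfsg.Agent.Lib.Helper7.HSMult
open scoped IsMulCommutative commutatorElement

theorem L_perfect : commutator ↥L = ⊤ := F42V2.G_perfect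

theorem L_le_commutator : L ≤ commutator G := by
  have h1 : (commutator ↥L).map L.subtype ≤ commutator G := by
    rw [commutator_def, Subgroup.map_commutator, commutator_def]
    exact Subgroup.commutator_mono le_top le_top
  rw [L_perfect, ← MonoidHom.range_eq_map, Subgroup.range_subtype] at h1
  exact h1

theorem G_perfect : commutator G = ⊤ := by
  set K := commutator G with hK
  set π := QuotientGroup.mk' K with hπ
  have hv : lK 2 ∈ K := L_le_commutator (lK_mem_L (by norm_num))
  have e2 : π (lK 2) = 1 := (QuotientGroup.eq_one_iff _).2 hv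
  have h7 : (lK 6 * lK 2) ^ 7 = 1 := by
    have h := wd_lK_eq_one F42B.chk_y3
    rw [wd_wpow, VCert.wd_cons, VCert.wd_cons, VCert.wd_nil, mul_one] at h
    exact h
  have h2 : lK 6 ^ 2 = 1 := by
    have h := wd_lK_eq_one F42B.chk_t2
    rw [wd_wpow, VCert.wd_cons, VCert.wd_nil, mul_one] at h
    exact h
  have e7 : π (lK 6) ^ 7 = 1 := by
    have := congrArg π h7
    rw [map_pow, map_mul, e2, mul_one, map_one] at this
    exact this
  have e22 : π (lK 6) ^ 2 = 1 := by rw [← map_pow, h2, map_one]
  have et : π (lK 6) = 1 := by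
    have : π (lK 6) = π (lK 6) ^ 7 * ((π (lK 6) ^ 2) ^ 3)⁻¹ := by
      rw [← pow_mul]; group
    rw [this, e7, e22, one_pow, inv_one, mul_one]
  have ht : lK 6 ∈ K := (QuotientGroup.eq_one_iff _).1 et
  rw [eq_top_iff, ← closure_lK, Subgroup.closure_le]
  rintro _ ⟨x, hx, rfl⟩
  have hx' : x < 8 := hx
  have : x = 0 ∨ x = 1 ∨ x = 2 ∨ x = 3 ∨ x = 4 ∨ x = 5 ∨ x = 6 ∨ x = 7 := by omega
  rcases this with rfl | rfl | rfl | rfl | rfl | rfl | rfl | rfl
  · exact L_le_commutator (lK_mem_L (by norm_num))
  · exact L_le_commutator (lK_mem_L (by norm_num))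
  · exact hv
  · exact L_le_commutator (lK_mem_L (by norm_num))
  · exact L_le_commutator (lK_mem_L (by norm_num))
  · exact L_le_commutator (lK_mem_L (by norm_num))
  · exact ht
  · have : lK 7 = (lK 6)⁻¹ := lK_iv (x := 6) (by norm_num)
    rw [SetLike.mem_coe, this]
    exact inv_mem ht

end Cfsg.Agent.Lib.Helper7.F42V3

namespace Cfsg.Agent.Lib.Helper7.F42B

open Cfsg Cfsg.Agent.Lib.Helper7.MG Cfsg.Agent.Lib.Helper7.HSMult

theorem card_L : Nat.card ↥L = 47377612800 := F42V3.card_G

theorem L_perfect : commutator ↥L = ⊤ := F42V3.G_perfect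

end Cfsg.Agent.Lib.Helper7.F42B
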