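import Cfsg.Agent.Lib.Helper7.F42Base
import Cfsg.Agent.Lib.Helper7.F42TC

/-! # The Chevalley group of type F4 over the field of two elements: the words of the certificate of the table of the group are trivial, part 12 (generated) -/

set_option autoImplicit false
set_option maxRecDepth 100000

namespace Cfsg.Agent.Lib.Helper7.F42B

open Cfsg Cfsg.Agent.Lib.Helper7.MG Cfsg.Agent.Lib.Helper7.HSMult

theorem chk_trivT_120 : (allN 24 fun i => strictL (F42T.cert.W (Nat.add 2880 i)) fun w => matOKT w) = true := by
  decide +kernel

theorem chk_trivT_121 : (allN 24 fun i => strictL (F42T.cert.W (Nat.add 2904 i)) fun w => matOKT w) = true := by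
  decide +kernel

theorem chk_trivT_122 : (allN 24 fun i => strictL (F42T.cert.W (Nat.add 2928 i)) fun w => matOKT w) = true := by
  decide +kernel

theorem chk_trivT_123 : (allN 24 fun i => strictL (F42T.cert.W (Nat.add 2952 i)) fun w => matOKT w) = true := by
  decide +kernel

theorem chk_trivT_124 : (allN 24 fun i => strictL (F42T.cert.W (Nat.add 2976 i)) fun w => matOKT w) = true := by
  decide +kernel

theorem chk_trivT_125 : (allN 24 fun i => strictL (F42T.cert.W (Nat.add 3000 i)) fun w => matOKT w) = true := by
  decide +kernel

theorem chk_trivT_126 : (allN 24 fun i => strictL (F42T.cert.W (Nat.add 3024 i)) fun w => matOKT w) = true := by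
  decide +kernel

theorem chk_trivT_127 : (allN 24 fun i => strictL (F42T.cert.W (Nat.add 3048 i)) fun w => matOKT w) = true := by
  decide +kernel

theorem chk_trivT_128 : (allN 24 fun i => strictL (F42T.cert.W (Nat.add 3072 i)) fun w => matOKT w) = true := by
  decide +kernel

theorem chk_trivT_129 : (allN 24 fun i => strictL (F42T.cert.W (Nat.add 3096 i)) fun w => matOKT w) = true := by
  decide +kernel

end Cfsg.Agent.Lib.Helper7.F42B
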