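import Cfsg.Agent.Lib.Helper7.F42Base
import Cfsg.Agent.Lib.Helper7.F42TC

/-! # The Chevalley group of type F4 over the field of two elements: the words of the certificate of the table of the group are trivial, part 13 (generated) -/

set_option autoImplicit false
set_option maxRecDepth 100000

namespace Cfsg.Agent.Lib.Helper7.F42B

open Cfsg Cfsg.Agent.Lib.Helper7.MG Cfsg.Agent.Lib.Helper7.HSMult

theorem chk_trivT_130 : (allN 24 fun i => strictL (F42T.cert.W (Nat.add 3120 i)) fun w => matOKT w) = true := by
  decide +kernel

theorem chk_trivT_131 : (allN 24 fun i => strictL (F42T.cert.W (Nat.add 3144 i)) fun w => matOKT w) = true := by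
  decide +kernel

end Cfsg.Agent.Lib.Helper7.F42B
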