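import Cfsg.Agent.Lib.Helper7.F42Base
import Cfsg.Agent.Lib.Helper7.F42TC

/-! # The Chevalley group of type F4 over the field of two elements: the words of the certificate of the table of the group are trivial, part 3 (generated) -/

set_option autoImplicit false
set_option maxRecDepth 100000

namespace Cfsg.Agent.Lib.Helper7.F42B

open Cfsg Cfsg.Agent.Lib.Helper7.MG Cfsg.Agent.Lib.Helper7.HSMult

theorem chk_trivT_30 : (allN 24 fun i => strictL (F42T.cert.W (Nat.add 720 i)) fun w => matOKT w) = true := by
  decide +kernel

theorem chk_trivT_31 : (allN 24 fun i => strictL (F42T.cert.W (Nat.add 744 i)) fun w => matOKT w) = true := by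
  decide +kernel

theorem chk_trivT_32 : (allN 24 fun i => strictL (F42T.cert.W (Nat.add 768 i)) fun w => matOKT w) = true := by
  decide +kernel

theorem chk_trivT_33 : (allN 24 fun i => strictL (F42T.cert.W (Nat.add 792 i)) fun w => matOKT w) = true := by
  decide +kernel

theorem chk_trivT_34 : (allN 24 fun i => strictL (F42T.cert.W (Nat.add 816 i)) fun w => matOKT w) = true := by
  decide +kernel

theorem chk_trivT_35 : (allN 24 fun i => strictL (F42T.cert.W (Nat.add 840 i)) fun w => matOKT w) = true := by
  decide +kernel

theorem chk_trivT_36 : (allN 24 fun i => strictL (F42T.cert.W (Nat.add 864 i)) fun w => matOKT w) = true := by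
  decide +kernel

theorem chk_trivT_37 : (allN 24 fun i => strictL (F42T.cert.W (Nat.add 888 i)) fun w => matOKT w) = true := by
  decide +kernel

theorem chk_trivT_38 : (allN 24 fun i => strictL (F42T.cert.W (Nat.add 912 i)) fun w => matOKT w) = true := by
  decide +kernel

theorem chk_trivT_39 : (allN 24 fun i => strictL (F42T.cert.W (Nat.add 936 i)) fun w => matOKT w) = true := by
  decide +kernel

end Cfsg.Agent.Lib.Helper7.F42B
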