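import Cfsg.Agent.Lib.Helper7.F42Base
import Cfsg.Agent.Lib.Helper7.F42TC

/-! # The Chevalley group of type F4 over the field of two elements: the words of the certificate of the table of the group are trivial, part 5 (generated) -/

set_option autoImplicit false
set_option maxRecDepth 100000

namespace Cfsg.Agent.Lib.Helper7.F42B

open Cfsg Cfsg.Agent.Lib.Helper7.MG Cfsg.Agent.Lib.Helper7.HSMult

theorem chk_trivT_50 : (allN 24 fun i => strictL (F42T.cert.W (Nat.add 1200 i)) fun w => matOKT w) = true := by
  decide +kernel

theorem chk_trivT_51 : (allN 24 fun i => strictL (F42T.cert.W (Nat.add 1224 i)) fun w => matOKT w) = true := by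
  decide +kernel

theorem chk_trivT_52 : (allN 24 fun i => strictL (F42T.cert.W (Nat.add 1248 i)) fun w => matOKT w) = true := by
  decide +kernel

theorem chk_trivT_53 : (allN 24 fun i => strictL (F42T.cert.W (Nat.add 1272 i)) fun w => matOKT w) = true := by
  decide +kernel

theorem chk_trivT_54 : (allN 24 fun i => strictL (F42T.cert.W (Nat.add 1296 i)) fun w => matOKT w) = true := by
  decide +kernel

theorem chk_trivT_55 : (allN 24 fun i => strictL (F42T.cert.W (Nat.add 1320 i)) fun w => matOKT w) = true := by
  decide +kernel

theorem chk_trivT_56 : (allN 24 fun i => strictL (F42T.cert.W (Nat.add 1344 i)) fun w => matOKT w) = true := by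
  decide +kernel

theorem chk_trivT_57 : (allN 24 fun i => strictL (F42T.cert.W (Nat.add 1368 i)) fun w => matOKT w) = true := by
  decide +kernel

theorem chk_trivT_58 : (allN 24 fun i => strictL (F42T.cert.W (Nat.add 1392 i)) fun w => matOKT w) = true := by
  decide +kernel

theorem chk_trivT_59 : (allN 24 fun i => strictL (F42T.cert.W (Nat.add 1416 i)) fun w => matOKT w) = true := by
  decide +kernel

end Cfsg.Agent.Lib.Helper7.F42B
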