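import Cfsg.Agent.Lib.Helper7.F42Base
import Cfsg.Agent.Lib.Helper7.F42TC

/-! # The Chevalley group of type F4 over the field of two elements: the words of the certificate of the table of the group are trivial, part 7 (generated) -/

set_option autoImplicit false
set_option maxRecDepth 100000

namespace Cfsg.Agent.Lib.Helper7.F42B

open Cfsg Cfsg.Agent.Lib.Helper7.MG Cfsg.Agent.Lib.Helper7.HSMult

theorem chk_trivT_70 : (allN 24 fun i => strictL (F42T.cert.W (Nat.add 1680 i)) fun w => matOKT w) = true := by
  decide +kernel

theorem chk_trivT_71 : (allN 24 fun i => strictL (F42T.cert.W (Nat.add 1704 i)) fun w => matOKT w) = true := by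
  decide +kernel

theorem chk_trivT_72 : (allN 24 fun i => strictL (F42T.cert.W (Nat.add 1728 i)) fun w => matOKT w) = true := by
  decide +kernel

theorem chk_trivT_73 : (allN 24 fun i => strictL (F42T.cert.W (Nat.add 1752 i)) fun w => matOKT w) = true := by
  decide +kernel

theorem chk_trivT_74 : (allN 24 fun i => strictL (F42T.cert.W (Nat.add 1776 i)) fun w => matOKT w) = true := by
  decide +kernel

theorem chk_trivT_75 : (allN 24 fun i => strictL (F42T.cert.W (Nat.add 1800 i)) fun w => matOKT w) = true := by
  decide +kernel

theorem chk_trivT_76 : (allN 24 fun i => strictL (F42T.cert.W (Nat.add 1824 i)) fun w => matOKT w) = true := by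
  decide +kernel

theorem chk_trivT_77 : (allN 24 fun i => strictL (F42T.cert.W (Nat.add 1848 i)) fun w => matOKT w) = true := by
  decide +kernel

theorem chk_trivT_78 : (allN 24 fun i => strictL (F42T.cert.W (Nat.add 1872 i)) fun w => matOKT w) = true := by
  decide +kernel

theorem chk_trivT_79 : (allN 24 fun i => strictL (F42T.cert.W (Nat.add 1896 i)) fun w => matOKT w) = true := by
  decide +kernel

end Cfsg.Agent.Lib.Helper7.F42B
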