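import Cfsg.Agent.Lib.Helper7.F42TC

/-! # The multiplier of the Chevalley group of type F4 over the field of two elements, the table of the group: the check of the rows 1344 to 2687 of the certificate (generated) -/

set_option autoImplicit false
set_option maxRecDepth 100000

namespace Cfsg.Agent.Lib.Helper7.F42T

theorem rows_ok_8 : rowsOK 1344 168 = true := by decide +kernel

theorem rows_ok_9 : rowsOK 1512 168 = true := by decide +kernel

theorem rows_ok_10 : rowsOK 1680 168 = true := by decide +kernel

theorem rows_ok_11 : rowsOK 1848 168 = true := by decide +kernel

theorem rows_ok_12 : rowsOK 2016 168 = true := by decide +kernel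

theorem rows_ok_13 : rowsOK 2184 168 = true := by decide +kernel

theorem rows_ok_14 : rowsOK 2352 168 = true := by decide +kernel

theorem rows_ok_15 : rowsOK 2520 168 = true := by decide +kernel

end Cfsg.Agent.Lib.Helper7.F42T
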