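import Cfsg.Agent.Lib.Helper7.F42TC
import Cfsg.Agent.Lib.Helper7.F42TK2

/-! # The multiplier of the Chevalley group of type F4 over the field of two elements, the table of the group: the check of the rows 13440 to 14783 of the certificate (generated) -/

set_option autoImplicit false
set_option maxRecDepth 100000

namespace Cfsg.Agent.Lib.Helper7.F42T

theorem rows_ok_80 : rowsOK 13440 168 = true := by decide +kernel

theorem rows_ok_81 : rowsOK 13608 168 = true := by decide +kernel

theorem rows_ok_82 : rowsOK 13776 168 = true := by decide +kernel

theorem rows_ok_83 : rowsOK 13944 168 = true := by decide +kernel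

theorem rows_ok_84 : rowsOK 14112 168 = true := by decide +kernel

theorem rows_ok_85 : rowsOK 14280 168 = true := by decide +kernel

theorem rows_ok_86 : rowsOK 14448 168 = true := by decide +kernel

theorem rows_ok_87 : rowsOK 14616 168 = true := by decide +kernel

end Cfsg.Agent.Lib.Helper7.F42T
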