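import Cfsg.Agent.Lib.Helper7.F42TC

/-! # The multiplier of the Chevalley group of type F4 over the field of two elements, the table of the group: the check of the rows 4032 to 5375 of the certificate (generated) -/

set_option autoImplicit false
set_option maxRecDepth 100000

namespace Cfsg.Agent.Lib.Helper7.F42T

theorem rows_ok_24 : rowsOK 4032 168 = true := by decide +kernel

theorem rows_ok_25 : rowsOK 4200 168 = true := by decide +kernel

theorem rows_ok_26 : rowsOK 4368 168 = true := by decide +kernel

theorem rows_ok_27 : rowsOK 4536 168 = true := by decide +kernel

theorem rows_ok_28 : rowsOK 4704 168 = true := by decide +kernel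

theorem rows_ok_29 : rowsOK 4872 168 = true := by decide +kernel

theorem rows_ok_30 : rowsOK 5040 168 = true := by decide +kernel

theorem rows_ok_31 : rowsOK 5208 168 = true := by decide +kernel

end Cfsg.Agent.Lib.Helper7.F42T
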