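import Cfsg.Agent.Lib.Helper7.F42TC
import Cfsg.Agent.Lib.Helper7.F42TK3

/-! # The multiplier of the Chevalley group of type F4 over the field of two elements, the table of the group: the check of the rows 14784 to 16127 of the certificate (generated) -/

set_option autoImplicit false
set_option maxRecDepth 100000

namespace Cfsg.Agent.Lib.Helper7.F42T

theorem rows_ok_88 : rowsOK 14784 168 = true := by decide +kernel

theorem rows_ok_89 : rowsOK 14952 168 = true := by decide +kernel

theorem rows_ok_90 : rowsOK 15120 168 = true := by decide +kernel

theorem rows_ok_91 : rowsOK 15288 168 = true := by decide +kernel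

theorem rows_ok_92 : rowsOK 15456 168 = true := by decide +kernel

theorem rows_ok_93 : rowsOK 15624 168 = true := by decide +kernel

theorem rows_ok_94 : rowsOK 15792 168 = true := by decide +kernel

theorem rows_ok_95 : rowsOK 15960 168 = true := by decide +kernel

end Cfsg.Agent.Lib.Helper7.F42T
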