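import Cfsg.Agent.Lib.Helper7.F42TC

/-! # The multiplier of the Chevalley group of type F4 over the field of two elements, the table of the group: the check of the rows 5376 to 6719 of the certificate (generated) -/

set_option autoImplicit false
set_option maxRecDepth 100000

namespace Cfsg.Agent.Lib.Helper7.F42T

theorem rows_ok_32 : rowsOK 5376 168 = true := by decide +kernel

theorem rows_ok_33 : rowsOK 5544 168 = true := by decide +kernel

theorem rows_ok_34 : rowsOK 5712 168 = true := by decide +kernel

theorem rows_ok_35 : rowsOK 5880 168 = true := by decide +kernel

theorem rows_ok_36 : rowsOK 6048 168 = true := by decide +kernel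

theorem rows_ok_37 : rowsOK 6216 168 = true := by decide +kernel

theorem rows_ok_38 : rowsOK 6384 168 = true := by decide +kernel

theorem rows_ok_39 : rowsOK 6552 168 = true := by decide +kernel

end Cfsg.Agent.Lib.Helper7.F42T
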