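import Cfsg.Agent.Lib.Helper7.F42TC
import Cfsg.Agent.Lib.Helper7.F42TK4

/-! # The multiplier of the Chevalley group of type F4 over the field of two elements, the table of the group: the check of the rows 16128 to 17471 of the certificate (generated) -/

set_option autoImplicit false
set_option maxRecDepth 100000

namespace Cfsg.Agent.Lib.Helper7.F42T

theorem rows_ok_96 : rowsOK 16128 168 = true := by decide +kernel

theorem rows_ok_97 : rowsOK 16296 168 = true := by decide +kernel

theorem rows_ok_98 : rowsOK 16464 168 = true := by decide +kernel

theorem rows_ok_99 : rowsOK 16632 168 = true := by decide +kernel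

theorem rows_ok_100 : rowsOK 16800 168 = true := by decide +kernel

theorem rows_ok_101 : rowsOK 16968 168 = true := by decide +kernel

theorem rows_ok_102 : rowsOK 17136 168 = true := by decide +kernel

theorem rows_ok_103 : rowsOK 17304 168 = true := by decide +kernel

end Cfsg.Agent.Lib.Helper7.F42T
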