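import Cfsg.Agent.Lib.Helper7.F42TC

/-! # The multiplier of the Chevalley group of type F4 over the field of two elements, the table of the group: the check of the rows 8064 to 9407 of the certificate (generated) -/

set_option autoImplicit false
set_option maxRecDepth 100000

namespace Cfsg.Agent.Lib.Helper7.F42T

theorem rows_ok_48 : rowsOK 8064 168 = true := by decide +kernel

theorem rows_ok_49 : rowsOK 8232 168 = true := by decide +kernel

theorem rows_ok_50 : rowsOK 8400 168 = true := by decide +kernel

theorem rows_ok_51 : rowsOK 8568 168 = true := by decide +kernel

theorem rows_ok_52 : rowsOK 8736 168 = true := by decide +kernel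

theorem rows_ok_53 : rowsOK 8904 168 = true := by decide +kernel

theorem rows_ok_54 : rowsOK 9072 168 = true := by decide +kernel

theorem rows_ok_55 : rowsOK 9240 168 = true := by decide +kernel

end Cfsg.Agent.Lib.Helper7.F42T
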