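import Cfsg.Agent.Lib.Helper7.F42TC
import Cfsg.Agent.Lib.Helper7.F42TK6

/-! # The multiplier of the Chevalley group of type F4 over the field of two elements, the table of the group: the check of the rows 18816 to 20159 of the certificate (generated) -/

set_option autoImplicit false
set_option maxRecDepth 100000

namespace Cfsg.Agent.Lib.Helper7.F42T

theorem rows_ok_112 : rowsOK 18816 168 = true := by decide +kernel

theorem rows_ok_113 : rowsOK 18984 168 = true := by decide +kernel

theorem rows_ok_114 : rowsOK 19152 168 = true := by decide +kernel

theorem rows_ok_115 : rowsOK 19320 168 = true := by decide +kernel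

theorem rows_ok_116 : rowsOK 19488 168 = true := by decide +kernel

theorem rows_ok_117 : rowsOK 19656 168 = true := by decide +kernel

theorem rows_ok_118 : rowsOK 19824 168 = true := by decide +kernel

theorem rows_ok_119 : rowsOK 19992 168 = true := by decide +kernel

end Cfsg.Agent.Lib.Helper7.F42T
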