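import Cfsg.Agent.Lib.Helper7.F42TC
import Cfsg.Agent.Lib.Helper7.F42TK7

/-! # The multiplier of the Chevalley group of type F4 over the field of two elements, the table of the group: the check of the rows 20160 to 21503 of the certificate (generated) -/

set_option autoImplicit false
set_option maxRecDepth 100000

namespace Cfsg.Agent.Lib.Helper7.F42T

theorem rows_ok_120 : rowsOK 20160 168 = true := by decide +kernel

theorem rows_ok_121 : rowsOK 20328 168 = true := by decide +kernel

theorem rows_ok_122 : rowsOK 20496 168 = true := by decide +kernel

theorem rows_ok_123 : rowsOK 20664 168 = true := by decide +kernel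

theorem rows_ok_124 : rowsOK 20832 168 = true := by decide +kernel

theorem rows_ok_125 : rowsOK 21000 168 = true := by decide +kernel

theorem rows_ok_126 : rowsOK 21168 168 = true := by decide +kernel

theorem rows_ok_127 : rowsOK 21336 168 = true := by decide +kernel

end Cfsg.Agent.Lib.Helper7.F42T
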