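import Cfsg.Agent.Lib.Helper7.F42TC
import Cfsg.Agent.Lib.Helper7.F42TK0

/-! # The multiplier of the Chevalley group of type F4 over the field of two elements, the table of the group: the check of the rows 10752 to 12095 of the certificate (generated) -/

set_option autoImplicit false
set_option maxRecDepth 100000

namespace Cfsg.Agent.Lib.Helper7.F42T

theorem rows_ok_64 : rowsOK 10752 168 = true := by decide +kernel

theorem rows_ok_65 : rowsOK 10920 168 = true := by decide +kernel

theorem rows_ok_66 : rowsOK 11088 168 = true := by decide +kernel

theorem rows_ok_67 : rowsOK 11256 168 = true := by decide +kernel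

theorem rows_ok_68 : rowsOK 11424 168 = true := by decide +kernel

theorem rows_ok_69 : rowsOK 11592 168 = true := by decide +kernel

theorem rows_ok_70 : rowsOK 11760 168 = true := by decide +kernel

theorem rows_ok_71 : rowsOK 11928 168 = true := by decide +kernel

end Cfsg.Agent.Lib.Helper7.F42T
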