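import Cfsg.Agent.Lib.Helper7.F42TC
import Cfsg.Agent.Lib.Helper7.F42TK1

/-! # The multiplier of the Chevalley group of type F4 over the field of two elements, the table of the group: the check of the rows 12096 to 13439 of the certificate (generated) -/

set_option autoImplicit false
set_option maxRecDepth 100000

namespace Cfsg.Agent.Lib.Helper7.F42T

theorem rows_ok_72 : rowsOK 12096 168 = true := by decide +kernel

theorem rows_ok_73 : rowsOK 12264 168 = true := by decide +kernel

theorem rows_ok_74 : rowsOK 12432 168 = true := by decide +kernel

theorem rows_ok_75 : rowsOK 12600 168 = true := by decide +kernel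

theorem rows_ok_76 : rowsOK 12768 168 = true := by decide +kernel

theorem rows_ok_77 : rowsOK 12936 168 = true := by decide +kernel

theorem rows_ok_78 : rowsOK 13104 168 = true := by decide +kernel

theorem rows_ok_79 : rowsOK 13272 168 = true := by decide +kernel

end Cfsg.Agent.Lib.Helper7.F42T
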