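import Cfsg.Agent.Lib.Helper7.F42TC
import Cfsg.Agent.Lib.Helper7.F42TK9

/-! # The multiplier of the Chevalley group of type F4 over the field of two elements, the table of the group: the check of the rows 22848 to 24191 of the certificate (generated) -/

set_option autoImplicit false
set_option maxRecDepth 100000

namespace Cfsg.Agent.Lib.Helper7.F42T

theorem rows_ok_136 : rowsOK 22848 168 = true := by decide +kernel

theorem rows_ok_137 : rowsOK 23016 168 = true := by decide +kernel

theorem rows_ok_138 : rowsOK 23184 168 = true := by decide +kernel

theorem rows_ok_139 : rowsOK 23352 168 = true := by decide +kernel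

theorem rows_ok_140 : rowsOK 23520 168 = true := by decide +kernel

theorem rows_ok_141 : rowsOK 23688 168 = true := by decide +kernel

theorem rows_ok_142 : rowsOK 23856 168 = true := by decide +kernel

theorem rows_ok_143 : rowsOK 24024 168 = true := by decide +kernel

end Cfsg.Agent.Lib.Helper7.F42T
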