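import Cfsg.Agent.Lib.Helper7.F42TC
import Cfsg.Agent.Lib.Helper7.F42TK10

/-! # The multiplier of the Chevalley group of type F4 over the field of two elements, the table of the group: the check of the rows 24192 to 25535 of the certificate (generated) -/

set_option autoImplicit false
set_option maxRecDepth 100000

namespace Cfsg.Agent.Lib.Helper7.F42T

theorem rows_ok_144 : rowsOK 24192 168 = true := by decide +kernel

theorem rows_ok_145 : rowsOK 24360 168 = true := by decide +kernel

theorem rows_ok_146 : rowsOK 24528 168 = true := by decide +kernel

theorem rows_ok_147 : rowsOK 24696 168 = true := by decide +kernel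

theorem rows_ok_148 : rowsOK 24864 168 = true := by decide +kernel

theorem rows_ok_149 : rowsOK 25032 168 = true := by decide +kernel

theorem rows_ok_150 : rowsOK 25200 168 = true := by decide +kernel

theorem rows_ok_151 : rowsOK 25368 168 = true := by decide +kernel

end Cfsg.Agent.Lib.Helper7.F42T
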