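import Cfsg.Agent.Lib.Helper7.F42TC
import Cfsg.Agent.Lib.Helper7.F42TK11

/-! # The multiplier of the Chevalley group of type F4 over the field of two elements, the table of the group: the check of the rows 25536 to 26879 of the certificate (generated) -/

set_option autoImplicit false
set_option maxRecDepth 100000

namespace Cfsg.Agent.Lib.Helper7.F42T

theorem rows_ok_152 : rowsOK 25536 168 = true := by decide +kernel

theorem rows_ok_153 : rowsOK 25704 168 = true := by decide +kernel

theorem rows_ok_154 : rowsOK 25872 168 = true := by decide +kernel

theorem rows_ok_155 : rowsOK 26040 168 = true := by decide +kernel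

theorem rows_ok_156 : rowsOK 26208 168 = true := by decide +kernel

theorem rows_ok_157 : rowsOK 26376 168 = true := by decide +kernel

theorem rows_ok_158 : rowsOK 26544 168 = true := by decide +kernel

theorem rows_ok_159 : rowsOK 26712 168 = true := by decide +kernel

end Cfsg.Agent.Lib.Helper7.F42T
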