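import Cfsg.Agent.Lib.Helper7.F42TC
import Cfsg.Agent.Lib.Helper7.F42TK12

/-! # The multiplier of the Chevalley group of type F4 over the field of two elements, the table of the group: the check of the rows 26880 to 28223 of the certificate (generated) -/

set_option autoImplicit false
set_option maxRecDepth 100000

namespace Cfsg.Agent.Lib.Helper7.F42T

theorem rows_ok_160 : rowsOK 26880 168 = true := by decide +kernel

theorem rows_ok_161 : rowsOK 27048 168 = true := by decide +kernel

theorem rows_ok_162 : rowsOK 27216 168 = true := by decide +kernel

theorem rows_ok_163 : rowsOK 27384 168 = true := by decide +kernel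

theorem rows_ok_164 : rowsOK 27552 168 = true := by decide +kernel

theorem rows_ok_165 : rowsOK 27720 168 = true := by decide +kernel

theorem rows_ok_166 : rowsOK 27888 168 = true := by decide +kernel

theorem rows_ok_167 : rowsOK 28056 168 = true := by decide +kernel

end Cfsg.Agent.Lib.Helper7.F42T
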