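import Cfsg.Agent.Lib.Helper7.F42TC
import Cfsg.Agent.Lib.Helper7.F42TK5

/-! # The multiplier of the Chevalley group of type F4 over the field of two elements, the table of the group: the check of the rows 17472 to 18815 of the certificate (generated) -/

set_option autoImplicit false
set_option maxRecDepth 100000

namespace Cfsg.Agent.Lib.Helper7.F42T

theorem rows_ok_104 : rowsOK 17472 168 = true := by decide +kernel

theorem rows_ok_105 : rowsOK 17640 168 = true := by decide +kernel

theorem rows_ok_106 : rowsOK 17808 168 = true := by decide +kernel

theorem rows_ok_107 : rowsOK 17976 168 = true := by decide +kernel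

theorem rows_ok_108 : rowsOK 18144 168 = true := by decide +kernel

theorem rows_ok_109 : rowsOK 18312 168 = true := by decide +kernel

theorem rows_ok_110 : rowsOK 18480 168 = true := by decide +kernel

theorem rows_ok_111 : rowsOK 18648 168 = true := by decide +kernel

end Cfsg.Agent.Lib.Helper7.F42T
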