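import Cfsg.Agent.Lib.Helper7.F42TC
import Cfsg.Agent.Lib.Helper7.F42TK13

/-! # The multiplier of the Chevalley group of type F4 over the field of two elements, the table of the group: the check of the rows 28224 to 29567 of the certificate (generated) -/

set_option autoImplicit false
set_option maxRecDepth 100000

namespace Cfsg.Agent.Lib.Helper7.F42T

theorem rows_ok_168 : rowsOK 28224 168 = true := by decide +kernel

theorem rows_ok_169 : rowsOK 28392 168 = true := by decide +kernel

theorem rows_ok_170 : rowsOK 28560 168 = true := by decide +kernel

theorem rows_ok_171 : rowsOK 28728 168 = true := by decide +kernel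

theorem rows_ok_172 : rowsOK 28896 168 = true := by decide +kernel

theorem rows_ok_173 : rowsOK 29064 168 = true := by decide +kernel

theorem rows_ok_174 : rowsOK 29232 168 = true := by decide +kernel

theorem rows_ok_175 : rowsOK 29400 168 = true := by decide +kernel

end Cfsg.Agent.Lib.Helper7.F42T
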