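import Cfsg.Agent.Lib.Helper7.F42TC
import Cfsg.Agent.Lib.Helper7.F42TK14

/-! # The multiplier of the Chevalley group of type F4 over the field of two elements, the table of the group: the check of the rows 29568 to 30911 of the certificate (generated) -/

set_option autoImplicit false
set_option maxRecDepth 100000

namespace Cfsg.Agent.Lib.Helper7.F42T

theorem rows_ok_176 : rowsOK 29568 168 = true := by decide +kernel

theorem rows_ok_177 : rowsOK 29736 168 = true := by decide +kernel

theorem rows_ok_178 : rowsOK 29904 168 = true := by decide +kernel

theorem rows_ok_179 : rowsOK 30072 168 = true := by decide +kernel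

theorem rows_ok_180 : rowsOK 30240 168 = true := by decide +kernel

theorem rows_ok_181 : rowsOK 30408 168 = true := by decide +kernel

theorem rows_ok_182 : rowsOK 30576 168 = true := by decide +kernel

theorem rows_ok_183 : rowsOK 30744 168 = true := by decide +kernel

end Cfsg.Agent.Lib.Helper7.F42T
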