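import Cfsg.Agent.Lib.Helper7.F42TC
import Cfsg.Agent.Lib.Helper7.F42TK15

/-! # The multiplier of the Chevalley group of type F4 over the field of two elements, the table of the group: the check of the rows 30912 to 32255 of the certificate (generated) -/

set_option autoImplicit false
set_option maxRecDepth 100000

namespace Cfsg.Agent.Lib.Helper7.F42T

theorem rows_ok_184 : rowsOK 30912 168 = true := by decide +kernel

theorem rows_ok_185 : rowsOK 31080 168 = true := by decide +kernel

theorem rows_ok_186 : rowsOK 31248 168 = true := by decide +kernel

theorem rows_ok_187 : rowsOK 31416 168 = true := by decide +kernel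

theorem rows_ok_188 : rowsOK 31584 168 = true := by decide +kernel

theorem rows_ok_189 : rowsOK 31752 168 = true := by decide +kernel

theorem rows_ok_190 : rowsOK 31920 168 = true := by decide +kernel

theorem rows_ok_191 : rowsOK 32088 168 = true := by decide +kernel

end Cfsg.Agent.Lib.Helper7.F42T
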