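import Cfsg.Agent.Lib.Helper7.F42TC
import Cfsg.Agent.Lib.Helper7.F42TK16

/-! # The multiplier of the Chevalley group of type F4 over the field of two elements, the table of the group: the check of the rows 32256 to 33599 of the certificate (generated) -/

set_option autoImplicit false
set_option maxRecDepth 100000

namespace Cfsg.Agent.Lib.Helper7.F42T

theorem rows_ok_192 : rowsOK 32256 168 = true := by decide +kernel

theorem rows_ok_193 : rowsOK 32424 168 = true := by decide +kernel

theorem rows_ok_194 : rowsOK 32592 168 = true := by decide +kernel

theorem rows_ok_195 : rowsOK 32760 168 = true := by decide +kernel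

theorem rows_ok_196 : rowsOK 32928 168 = true := by decide +kernel

theorem rows_ok_197 : rowsOK 33096 168 = true := by decide +kernel

theorem rows_ok_198 : rowsOK 33264 168 = true := by decide +kernel

theorem rows_ok_199 : rowsOK 33432 168 = true := by decide +kernel

end Cfsg.Agent.Lib.Helper7.F42T
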