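import Cfsg.Agent.Lib.Helper7.F42TC
import Cfsg.Agent.Lib.Helper7.F42TK17

/-! # The multiplier of the Chevalley group of type F4 over the field of two elements, the table of the group: the check of the rows 33600 to 34943 of the certificate (generated) -/

set_option autoImplicit false
set_option maxRecDepth 100000

namespace Cfsg.Agent.Lib.Helper7.F42T

theorem rows_ok_200 : rowsOK 33600 168 = true := by decide +kernel

theorem rows_ok_201 : rowsOK 33768 168 = true := by decide +kernel

theorem rows_ok_202 : rowsOK 33936 168 = true := by decide +kernel

theorem rows_ok_203 : rowsOK 34104 168 = true := by decide +kernel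

theorem rows_ok_204 : rowsOK 34272 168 = true := by decide +kernel

theorem rows_ok_205 : rowsOK 34440 168 = true := by decide +kernel

theorem rows_ok_206 : rowsOK 34608 168 = true := by decide +kernel

theorem rows_ok_207 : rowsOK 34776 168 = true := by decide +kernel

end Cfsg.Agent.Lib.Helper7.F42T
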