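import Cfsg.Agent.Lib.Helper7.F42TC
import Cfsg.Agent.Lib.Helper7.F42TK19

/-! # The multiplier of the Chevalley group of type F4 over the field of two elements, the table of the group: the check of the rows 36288 to 37631 of the certificate (generated) -/

set_option autoImplicit false
set_option maxRecDepth 100000

namespace Cfsg.Agent.Lib.Helper7.F42T

theorem rows_ok_216 : rowsOK 36288 168 = true := by decide +kernel

theorem rows_ok_217 : rowsOK 36456 168 = true := by decide +kernel

theorem rows_ok_218 : rowsOK 36624 168 = true := by decide +kernel

theorem rows_ok_219 : rowsOK 36792 168 = true := by decide +kernel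

theorem rows_ok_220 : rowsOK 36960 168 = true := by decide +kernel

theorem rows_ok_221 : rowsOK 37128 168 = true := by decide +kernel

theorem rows_ok_222 : rowsOK 37296 168 = true := by decide +kernel

theorem rows_ok_223 : rowsOK 37464 168 = true := by decide +kernel

end Cfsg.Agent.Lib.Helper7.F42T
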