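import Cfsg.Agent.Lib.Helper7.F42TC
import Cfsg.Agent.Lib.Helper7.F42TK20

/-! # The multiplier of the Chevalley group of type F4 over the field of two elements, the table of the group: the check of the rows 37632 to 38975 of the certificate (generated) -/

set_option autoImplicit false
set_option maxRecDepth 100000

namespace Cfsg.Agent.Lib.Helper7.F42T

theorem rows_ok_224 : rowsOK 37632 168 = true := by decide +kernel

theorem rows_ok_225 : rowsOK 37800 168 = true := by decide +kernel

theorem rows_ok_226 : rowsOK 37968 168 = true := by decide +kernel

theorem rows_ok_227 : rowsOK 38136 168 = true := by decide +kernel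

theorem rows_ok_228 : rowsOK 38304 168 = true := by decide +kernel

theorem rows_ok_229 : rowsOK 38472 168 = true := by decide +kernel

theorem rows_ok_230 : rowsOK 38640 168 = true := by decide +kernel

theorem rows_ok_231 : rowsOK 38808 168 = true := by decide +kernel

end Cfsg.Agent.Lib.Helper7.F42T
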