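import Cfsg.Agent.Lib.Helper7.F42TC
import Cfsg.Agent.Lib.Helper7.F42TK22

/-! # The multiplier of the Chevalley group of type F4 over the field of two elements, the table of the group: the check of the rows 40320 to 41663 of the certificate (generated) -/

set_option autoImplicit false
set_option maxRecDepth 100000

namespace Cfsg.Agent.Lib.Helper7.F42T

theorem rows_ok_240 : rowsOK 40320 168 = true := by decide +kernel

theorem rows_ok_241 : rowsOK 40488 168 = true := by decide +kernel

theorem rows_ok_242 : rowsOK 40656 168 = true := by decide +kernel

theorem rows_ok_243 : rowsOK 40824 168 = true := by decide +kernel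

theorem rows_ok_244 : rowsOK 40992 168 = true := by decide +kernel

theorem rows_ok_245 : rowsOK 41160 168 = true := by decide +kernel

theorem rows_ok_246 : rowsOK 41328 168 = true := by decide +kernel

theorem rows_ok_247 : rowsOK 41496 168 = true := by decide +kernel

end Cfsg.Agent.Lib.Helper7.F42T
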