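import Cfsg.Agent.Lib.Helper7.F42TC
import Cfsg.Agent.Lib.Helper7.F42TK23

/-! # The multiplier of the Chevalley group of type F4 over the field of two elements, the table of the group: the check of the rows 41664 to 43007 of the certificate (generated) -/

set_option autoImplicit false
set_option maxRecDepth 100000

namespace Cfsg.Agent.Lib.Helper7.F42T

theorem rows_ok_248 : rowsOK 41664 168 = true := by decide +kernel

theorem rows_ok_249 : rowsOK 41832 168 = true := by decide +kernel

theorem rows_ok_250 : rowsOK 42000 168 = true := by decide +kernel

theorem rows_ok_251 : rowsOK 42168 168 = true := by decide +kernel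

theorem rows_ok_252 : rowsOK 42336 168 = true := by decide +kernel

theorem rows_ok_253 : rowsOK 42504 168 = true := by decide +kernel

theorem rows_ok_254 : rowsOK 42672 168 = true := by decide +kernel

theorem rows_ok_255 : rowsOK 42840 168 = true := by decide +kernel

end Cfsg.Agent.Lib.Helper7.F42T
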