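import Cfsg.Agent.Lib.Helper7.F42TC
import Cfsg.Agent.Lib.Helper7.F42TK24

/-! # The multiplier of the Chevalley group of type F4 over the field of two elements, the table of the group: the check of the rows 43008 to 44351 of the certificate (generated) -/

set_option autoImplicit false
set_option maxRecDepth 100000

namespace Cfsg.Agent.Lib.Helper7.F42T

theorem rows_ok_256 : rowsOK 43008 168 = true := by decide +kernel

theorem rows_ok_257 : rowsOK 43176 168 = true := by decide +kernel

theorem rows_ok_258 : rowsOK 43344 168 = true := by decide +kernel

theorem rows_ok_259 : rowsOK 43512 168 = true := by decide +kernel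

theorem rows_ok_260 : rowsOK 43680 168 = true := by decide +kernel

theorem rows_ok_261 : rowsOK 43848 168 = true := by decide +kernel

theorem rows_ok_262 : rowsOK 44016 168 = true := by decide +kernel

theorem rows_ok_263 : rowsOK 44184 168 = true := by decide +kernel

end Cfsg.Agent.Lib.Helper7.F42T
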