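import Cfsg.Agent.Lib.Helper7.F42TC
import Cfsg.Agent.Lib.Helper7.F42TK25

/-! # The multiplier of the Chevalley group of type F4 over the field of two elements, the table of the group: the check of the rows 44352 to 45695 of the certificate (generated) -/

set_option autoImplicit false
set_option maxRecDepth 100000

namespace Cfsg.Agent.Lib.Helper7.F42T

theorem rows_ok_264 : rowsOK 44352 168 = true := by decide +kernel

theorem rows_ok_265 : rowsOK 44520 168 = true := by decide +kernel

theorem rows_ok_266 : rowsOK 44688 168 = true := by decide +kernel

theorem rows_ok_267 : rowsOK 44856 168 = true := by decide +kernel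

theorem rows_ok_268 : rowsOK 45024 168 = true := by decide +kernel

theorem rows_ok_269 : rowsOK 45192 168 = true := by decide +kernel

theorem rows_ok_270 : rowsOK 45360 168 = true := by decide +kernel

theorem rows_ok_271 : rowsOK 45528 168 = true := by decide +kernel

end Cfsg.Agent.Lib.Helper7.F42T
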