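import Cfsg.Agent.Lib.Helper7.F42TC
import Cfsg.Agent.Lib.Helper7.F42TK26

/-! # The multiplier of the Chevalley group of type F4 over the field of two elements, the table of the group: the check of the rows 45696 to 47039 of the certificate (generated) -/

set_option autoImplicit false
set_option maxRecDepth 100000

namespace Cfsg.Agent.Lib.Helper7.F42T

theorem rows_ok_272 : rowsOK 45696 168 = true := by decide +kernel

theorem rows_ok_273 : rowsOK 45864 168 = true := by decide +kernel

theorem rows_ok_274 : rowsOK 46032 168 = true := by decide +kernel

theorem rows_ok_275 : rowsOK 46200 168 = true := by decide +kernel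

theorem rows_ok_276 : rowsOK 46368 168 = true := by decide +kernel

theorem rows_ok_277 : rowsOK 46536 168 = true := by decide +kernel

theorem rows_ok_278 : rowsOK 46704 168 = true := by decide +kernel

theorem rows_ok_279 : rowsOK 46872 168 = true := by decide +kernel

end Cfsg.Agent.Lib.Helper7.F42T
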