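import Cfsg.Agent.Lib.Helper7.F42TC
import Cfsg.Agent.Lib.Helper7.F42TK27

/-! # The multiplier of the Chevalley group of type F4 over the field of two elements, the table of the group: the check of the rows 47040 to 48383 of the certificate (generated) -/

set_option autoImplicit false
set_option maxRecDepth 100000

namespace Cfsg.Agent.Lib.Helper7.F42T

theorem rows_ok_280 : rowsOK 47040 168 = true := by decide +kernel

theorem rows_ok_281 : rowsOK 47208 168 = true := by decide +kernel

theorem rows_ok_282 : rowsOK 47376 168 = true := by decide +kernel

theorem rows_ok_283 : rowsOK 47544 168 = true := by decide +kernel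

theorem rows_ok_284 : rowsOK 47712 168 = true := by decide +kernel

theorem rows_ok_285 : rowsOK 47880 168 = true := by decide +kernel

theorem rows_ok_286 : rowsOK 48048 168 = true := by decide +kernel

theorem rows_ok_287 : rowsOK 48216 168 = true := by decide +kernel

end Cfsg.Agent.Lib.Helper7.F42T
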