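import Cfsg.Agent.Lib.Helper7.F42TC
import Cfsg.Agent.Lib.Helper7.F42TK28

/-! # The multiplier of the Chevalley group of type F4 over the field of two elements, the table of the group: the check of the rows 48384 to 49727 of the certificate (generated) -/

set_option autoImplicit false
set_option maxRecDepth 100000

namespace Cfsg.Agent.Lib.Helper7.F42T

theorem rows_ok_288 : rowsOK 48384 168 = true := by decide +kernel

theorem rows_ok_289 : rowsOK 48552 168 = true := by decide +kernel

theorem rows_ok_290 : rowsOK 48720 168 = true := by decide +kernel

theorem rows_ok_291 : rowsOK 48888 168 = true := by decide +kernel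

theorem rows_ok_292 : rowsOK 49056 168 = true := by decide +kernel

theorem rows_ok_293 : rowsOK 49224 168 = true := by decide +kernel

theorem rows_ok_294 : rowsOK 49392 168 = true := by decide +kernel

theorem rows_ok_295 : rowsOK 49560 168 = true := by decide +kernel

end Cfsg.Agent.Lib.Helper7.F42T
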