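import Cfsg.Agent.Lib.Helper7.F42TC
import Cfsg.Agent.Lib.Helper7.F42TK29

/-! # The multiplier of the Chevalley group of type F4 over the field of two elements, the table of the group: the check of the rows 49728 to 51071 of the certificate (generated) -/

set_option autoImplicit false
set_option maxRecDepth 100000

namespace Cfsg.Agent.Lib.Helper7.F42T

theorem rows_ok_296 : rowsOK 49728 168 = true := by decide +kernel

theorem rows_ok_297 : rowsOK 49896 168 = true := by decide +kernel

theorem rows_ok_298 : rowsOK 50064 168 = true := by decide +kernel

theorem rows_ok_299 : rowsOK 50232 168 = true := by decide +kernel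

theorem rows_ok_300 : rowsOK 50400 168 = true := by decide +kernel

theorem rows_ok_301 : rowsOK 50568 168 = true := by decide +kernel

theorem rows_ok_302 : rowsOK 50736 168 = true := by decide +kernel

theorem rows_ok_303 : rowsOK 50904 168 = true := by decide +kernel

end Cfsg.Agent.Lib.Helper7.F42T
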