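import Cfsg.Agent.Lib.Helper7.F42TC
import Cfsg.Agent.Lib.Helper7.F42TK30

/-! # The multiplier of the Chevalley group of type F4 over the field of two elements, the table of the group: the check of the rows 51072 to 52415 of the certificate (generated) -/

set_option autoImplicit false
set_option maxRecDepth 100000

namespace Cfsg.Agent.Lib.Helper7.F42T

theorem rows_ok_304 : rowsOK 51072 168 = true := by decide +kernel

theorem rows_ok_305 : rowsOK 51240 168 = true := by decide +kernel

theorem rows_ok_306 : rowsOK 51408 168 = true := by decide +kernel

theorem rows_ok_307 : rowsOK 51576 168 = true := by decide +kernel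

theorem rows_ok_308 : rowsOK 51744 168 = true := by decide +kernel

theorem rows_ok_309 : rowsOK 51912 168 = true := by decide +kernel

theorem rows_ok_310 : rowsOK 52080 168 = true := by decide +kernel

theorem rows_ok_311 : rowsOK 52248 168 = true := by decide +kernel

end Cfsg.Agent.Lib.Helper7.F42T
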