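import Cfsg.Agent.Lib.Helper7.F42TC
import Cfsg.Agent.Lib.Helper7.F42TK32

/-! # The multiplier of the Chevalley group of type F4 over the field of two elements, the table of the group: the check of the rows 53760 to 55103 of the certificate (generated) -/

set_option autoImplicit false
set_option maxRecDepth 100000

namespace Cfsg.Agent.Lib.Helper7.F42T

theorem rows_ok_320 : rowsOK 53760 168 = true := by decide +kernel

theorem rows_ok_321 : rowsOK 53928 168 = true := by decide +kernel

theorem rows_ok_322 : rowsOK 54096 168 = true := by decide +kernel

theorem rows_ok_323 : rowsOK 54264 168 = true := by decide +kernel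

theorem rows_ok_324 : rowsOK 54432 168 = true := by decide +kernel

theorem rows_ok_325 : rowsOK 54600 168 = true := by decide +kernel

theorem rows_ok_326 : rowsOK 54768 168 = true := by decide +kernel

theorem rows_ok_327 : rowsOK 54936 168 = true := by decide +kernel

end Cfsg.Agent.Lib.Helper7.F42T
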