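import Cfsg.Agent.Lib.Helper7.F42TC
import Cfsg.Agent.Lib.Helper7.F42TK33

/-! # The multiplier of the Chevalley group of type F4 over the field of two elements, the table of the group: the check of the rows 55104 to 56447 of the certificate (generated) -/

set_option autoImplicit false
set_option maxRecDepth 100000

namespace Cfsg.Agent.Lib.Helper7.F42T

theorem rows_ok_328 : rowsOK 55104 168 = true := by decide +kernel

theorem rows_ok_329 : rowsOK 55272 168 = true := by decide +kernel

theorem rows_ok_330 : rowsOK 55440 168 = true := by decide +kernel

theorem rows_ok_331 : rowsOK 55608 168 = true := by decide +kernel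

theorem rows_ok_332 : rowsOK 55776 168 = true := by decide +kernel

theorem rows_ok_333 : rowsOK 55944 168 = true := by decide +kernel

theorem rows_ok_334 : rowsOK 56112 168 = true := by decide +kernel

theorem rows_ok_335 : rowsOK 56280 168 = true := by decide +kernel

end Cfsg.Agent.Lib.Helper7.F42T
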