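import Cfsg.Agent.Lib.Helper7.F42TC
import Cfsg.Agent.Lib.Helper7.F42TK34

/-! # The multiplier of the Chevalley group of type F4 over the field of two elements, the table of the group: the check of the rows 56448 to 57791 of the certificate (generated) -/

set_option autoImplicit false
set_option maxRecDepth 100000

namespace Cfsg.Agent.Lib.Helper7.F42T

theorem rows_ok_336 : rowsOK 56448 168 = true := by decide +kernel

theorem rows_ok_337 : rowsOK 56616 168 = true := by decide +kernel

theorem rows_ok_338 : rowsOK 56784 168 = true := by decide +kernel

theorem rows_ok_339 : rowsOK 56952 168 = true := by decide +kernel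

theorem rows_ok_340 : rowsOK 57120 168 = true := by decide +kernel

theorem rows_ok_341 : rowsOK 57288 168 = true := by decide +kernel

theorem rows_ok_342 : rowsOK 57456 168 = true := by decide +kernel

theorem rows_ok_343 : rowsOK 57624 168 = true := by decide +kernel

end Cfsg.Agent.Lib.Helper7.F42T
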