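import Cfsg.Agent.Lib.Helper7.F42TC
import Cfsg.Agent.Lib.Helper7.F42TK35

/-! # The multiplier of the Chevalley group of type F4 over the field of two elements, the table of the group: the check of the rows 57792 to 59135 of the certificate (generated) -/

set_option autoImplicit false
set_option maxRecDepth 100000

namespace Cfsg.Agent.Lib.Helper7.F42T

theorem rows_ok_344 : rowsOK 57792 168 = true := by decide +kernel

theorem rows_ok_345 : rowsOK 57960 168 = true := by decide +kernel

theorem rows_ok_346 : rowsOK 58128 168 = true := by decide +kernel

theorem rows_ok_347 : rowsOK 58296 168 = true := by decide +kernel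

theorem rows_ok_348 : rowsOK 58464 168 = true := by decide +kernel

theorem rows_ok_349 : rowsOK 58632 168 = true := by decide +kernel

theorem rows_ok_350 : rowsOK 58800 168 = true := by decide +kernel

theorem rows_ok_351 : rowsOK 58968 168 = true := by decide +kernel

end Cfsg.Agent.Lib.Helper7.F42T
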