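import Cfsg.Agent.Lib.Helper7.F42TC
import Cfsg.Agent.Lib.Helper7.F42TK36

/-! # The multiplier of the Chevalley group of type F4 over the field of two elements, the table of the group: the check of the rows 59136 to 60479 of the certificate (generated) -/

set_option autoImplicit false
set_option maxRecDepth 100000

namespace Cfsg.Agent.Lib.Helper7.F42T

theorem rows_ok_352 : rowsOK 59136 168 = true := by decide +kernel

theorem rows_ok_353 : rowsOK 59304 168 = true := by decide +kernel

theorem rows_ok_354 : rowsOK 59472 168 = true := by decide +kernel

theorem rows_ok_355 : rowsOK 59640 168 = true := by decide +kernel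

theorem rows_ok_356 : rowsOK 59808 168 = true := by decide +kernel

theorem rows_ok_357 : rowsOK 59976 168 = true := by decide +kernel

theorem rows_ok_358 : rowsOK 60144 168 = true := by decide +kernel

theorem rows_ok_359 : rowsOK 60312 168 = true := by decide +kernel

end Cfsg.Agent.Lib.Helper7.F42T
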