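import Cfsg.Agent.Lib.Helper7.F42TC
import Cfsg.Agent.Lib.Helper7.F42TK37

/-! # The multiplier of the Chevalley group of type F4 over the field of two elements, the table of the group: the check of the rows 60480 to 61823 of the certificate (generated) -/

set_option autoImplicit false
set_option maxRecDepth 100000

namespace Cfsg.Agent.Lib.Helper7.F42T

theorem rows_ok_360 : rowsOK 60480 168 = true := by decide +kernel

theorem rows_ok_361 : rowsOK 60648 168 = true := by decide +kernel

theorem rows_ok_362 : rowsOK 60816 168 = true := by decide +kernel

theorem rows_ok_363 : rowsOK 60984 168 = true := by decide +kernel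

theorem rows_ok_364 : rowsOK 61152 168 = true := by decide +kernel

theorem rows_ok_365 : rowsOK 61320 168 = true := by decide +kernel

theorem rows_ok_366 : rowsOK 61488 168 = true := by decide +kernel

theorem rows_ok_367 : rowsOK 61656 168 = true := by decide +kernel

end Cfsg.Agent.Lib.Helper7.F42T
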