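import Cfsg.Agent.Lib.Helper7.F42TC
import Cfsg.Agent.Lib.Helper7.F42TK38

/-! # The multiplier of the Chevalley group of type F4 over the field of two elements, the table of the group: the check of the rows 61824 to 63167 of the certificate (generated) -/

set_option autoImplicit false
set_option maxRecDepth 100000

namespace Cfsg.Agent.Lib.Helper7.F42T

theorem rows_ok_368 : rowsOK 61824 168 = true := by decide +kernel

theorem rows_ok_369 : rowsOK 61992 168 = true := by decide +kernel

theorem rows_ok_370 : rowsOK 62160 168 = true := by decide +kernel

theorem rows_ok_371 : rowsOK 62328 168 = true := by decide +kernel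

theorem rows_ok_372 : rowsOK 62496 168 = true := by decide +kernel

theorem rows_ok_373 : rowsOK 62664 168 = true := by decide +kernel

theorem rows_ok_374 : rowsOK 62832 168 = true := by decide +kernel

theorem rows_ok_375 : rowsOK 63000 168 = true := by decide +kernel

end Cfsg.Agent.Lib.Helper7.F42T
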