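import Cfsg.Agent.Lib.Helper7.F42TC
import Cfsg.Agent.Lib.Helper7.F42TK31

/-! # The multiplier of the Chevalley group of type F4 over the field of two elements, the table of the group: the check of the rows 52416 to 53759 of the certificate (generated) -/

set_option autoImplicit false
set_option maxRecDepth 100000

namespace Cfsg.Agent.Lib.Helper7.F42T

theorem rows_ok_312 : rowsOK 52416 168 = true := by decide +kernel

theorem rows_ok_313 : rowsOK 52584 168 = true := by decide +kernel

theorem rows_ok_314 : rowsOK 52752 168 = true := by decide +kernel

theorem rows_ok_315 : rowsOK 52920 168 = true := by decide +kernel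

theorem rows_ok_316 : rowsOK 53088 168 = true := by decide +kernel

theorem rows_ok_317 : rowsOK 53256 168 = true := by decide +kernel

theorem rows_ok_318 : rowsOK 53424 168 = true := by decide +kernel

theorem rows_ok_319 : rowsOK 53592 168 = true := by decide +kernel

end Cfsg.Agent.Lib.Helper7.F42T
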