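import Cfsg.Agent.Lib.Helper7.F42TC
import Cfsg.Agent.Lib.Helper7.F42TK39

/-! # The multiplier of the Chevalley group of type F4 over the field of two elements, the table of the group: the check of the rows 63168 to 64511 of the certificate (generated) -/

set_option autoImplicit false
set_option maxRecDepth 100000

namespace Cfsg.Agent.Lib.Helper7.F42T

theorem rows_ok_376 : rowsOK 63168 168 = true := by decide +kernel

theorem rows_ok_377 : rowsOK 63336 168 = true := by decide +kernel

theorem rows_ok_378 : rowsOK 63504 168 = true := by decide +kernel

theorem rows_ok_379 : rowsOK 63672 168 = true := by decide +kernel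

theorem rows_ok_380 : rowsOK 63840 168 = true := by decide +kernel

theorem rows_ok_381 : rowsOK 64008 168 = true := by decide +kernel

theorem rows_ok_382 : rowsOK 64176 168 = true := by decide +kernel

theorem rows_ok_383 : rowsOK 64344 168 = true := by decide +kernel

end Cfsg.Agent.Lib.Helper7.F42T
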