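import Cfsg.Agent.Lib.Helper7.F42TC
import Cfsg.Agent.Lib.Helper7.F42TK40

/-! # The multiplier of the Chevalley group of type F4 over the field of two elements, the table of the group: the check of the rows 64512 to 65855 of the certificate (generated) -/

set_option autoImplicit false
set_option maxRecDepth 100000

namespace Cfsg.Agent.Lib.Helper7.F42T

theorem rows_ok_384 : rowsOK 64512 168 = true := by decide +kernel

theorem rows_ok_385 : rowsOK 64680 168 = true := by decide +kernel

theorem rows_ok_386 : rowsOK 64848 168 = true := by decide +kernel

theorem rows_ok_387 : rowsOK 65016 168 = true := by decide +kernel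

theorem rows_ok_388 : rowsOK 65184 168 = true := by decide +kernel

theorem rows_ok_389 : rowsOK 65352 168 = true := by decide +kernel

theorem rows_ok_390 : rowsOK 65520 168 = true := by decide +kernel

theorem rows_ok_391 : rowsOK 65688 168 = true := by decide +kernel

end Cfsg.Agent.Lib.Helper7.F42T
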