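import Cfsg.Agent.Lib.Helper7.F42TC
import Cfsg.Agent.Lib.Helper7.F42TK41

/-! # The multiplier of the Chevalley group of type F4 over the field of two elements, the table of the group: the check of the rows 65856 to 67199 of the certificate (generated) -/

set_option autoImplicit false
set_option maxRecDepth 100000

namespace Cfsg.Agent.Lib.Helper7.F42T

theorem rows_ok_392 : rowsOK 65856 168 = true := by decide +kernel

theorem rows_ok_393 : rowsOK 66024 168 = true := by decide +kernel

theorem rows_ok_394 : rowsOK 66192 168 = true := by decide +kernel

theorem rows_ok_395 : rowsOK 66360 168 = true := by decide +kernel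

theorem rows_ok_396 : rowsOK 66528 168 = true := by decide +kernel

theorem rows_ok_397 : rowsOK 66696 168 = true := by decide +kernel

theorem rows_ok_398 : rowsOK 66864 168 = true := by decide +kernel

theorem rows_ok_399 : rowsOK 67032 168 = true := by decide +kernel

end Cfsg.Agent.Lib.Helper7.F42T
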