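import Cfsg.Agent.Lib.Helper7.F42TC
import Cfsg.Agent.Lib.Helper7.F42TK42

/-! # The multiplier of the Chevalley group of type F4 over the field of two elements, the table of the group: the check of the rows 67200 to 68543 of the certificate (generated) -/

set_option autoImplicit false
set_option maxRecDepth 100000

namespace Cfsg.Agent.Lib.Helper7.F42T

theorem rows_ok_400 : rowsOK 67200 168 = true := by decide +kernel

theorem rows_ok_401 : rowsOK 67368 168 = true := by decide +kernel

theorem rows_ok_402 : rowsOK 67536 168 = true := by decide +kernel

theorem rows_ok_403 : rowsOK 67704 168 = true := by decide +kernel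

theorem rows_ok_404 : rowsOK 67872 168 = true := by decide +kernel

theorem rows_ok_405 : rowsOK 68040 168 = true := by decide +kernel

theorem rows_ok_406 : rowsOK 68208 168 = true := by decide +kernel

theorem rows_ok_407 : rowsOK 68376 168 = true := by decide +kernel

end Cfsg.Agent.Lib.Helper7.F42T
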