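import Cfsg.Agent.Lib.Helper7.F42TC
import Cfsg.Agent.Lib.Helper7.F42TK43

/-! # The multiplier of the Chevalley group of type F4 over the field of two elements, the table of the group: the check of the rows 68544 to 69887 of the certificate (generated) -/

set_option autoImplicit false
set_option maxRecDepth 100000

namespace Cfsg.Agent.Lib.Helper7.F42T

theorem rows_ok_408 : rowsOK 68544 168 = true := by decide +kernel

theorem rows_ok_409 : rowsOK 68712 168 = true := by decide +kernel

theorem rows_ok_410 : rowsOK 68880 168 = true := by decide +kernel

theorem rows_ok_411 : rowsOK 69048 168 = true := by decide +kernel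

theorem rows_ok_412 : rowsOK 69216 168 = true := by decide +kernel

theorem rows_ok_413 : rowsOK 69384 168 = true := by decide +kernel

theorem rows_ok_414 : rowsOK 69552 168 = true := by decide +kernel

theorem rows_ok_415 : rowsOK 69720 168 = true := by decide +kernel

end Cfsg.Agent.Lib.Helper7.F42T
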