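import Cfsg.Agent.Lib.Helper7.F42TK0
import Cfsg.Agent.Lib.Helper7.F42TK1
import Cfsg.Agent.Lib.Helper7.F42TK2
import Cfsg.Agent.Lib.Helper7.F42TK3
import Cfsg.Agent.Lib.Helper7.F42TK4
import Cfsg.Agent.Lib.Helper7.F42TK5
import Cfsg.Agent.Lib.Helper7.F42TK6
import Cfsg.Agent.Lib.Helper7.F42TK7
import Cfsg.Agent.Lib.Helper7.F42TK8
import Cfsg.Agent.Lib.Helper7.F42TK9
import Cfsg.Agent.Lib.Helper7.F42TK10
import Cfsg.Agent.Lib.Helper7.F42TK11
import Cfsg.Agent.Lib.Helper7.F42TK12
import Cfsg.Agent.Lib.Helper7.F42TK13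
import Cfsg.Agent.Lib.Helper7.F42TK14
import Cfsg.Agent.Lib.Helper7.F42TK15
import Cfsg.Agent.Lib.Helper7.F42TK16
import Cfsg.Agent.Lib.Helper7.F42TK17
import Cfsg.Agent.Lib.Helper7.F42TK18
import Cfsg.Agent.Lib.Helper7.F42TK19
import Cfsg.Agent.Lib.Helper7.F42TK20
import Cfsg.Agent.Lib.Helper7.F42TK21
import Cfsg.Agent.Lib.Helper7.F42TK22
import Cfsg.Agent.Lib.Helper7.F42TK23
import Cfsg.Agent.Lib.Helper7.F42TK24
import Cfsg.Agent.Lib.Helper7.F42TK25
import Cfsg.Agent.Lib.Helper7.F42TK26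
import Cfsg.Agent.Lib.Helper7.F42TK27
import Cfsg.Agent.Lib.Helper7.F42TK28
import Cfsg.Agent.Lib.Helper7.F42TK29
import Cfsg.Agent.Lib.Helper7.F42TK30
import Cfsg.Agent.Lib.Helper7.F42TK31
import Cfsg.Agent.Lib.Helper7.F42TK32
import Cfsg.Agent.Lib.Helper7.F42TK33
import Cfsg.Agent.Lib.Helper7.F42TK34
import Cfsg.Agent.Lib.Helper7.F42TK35
import Cfsg.Agent.Lib.Helper7.F42TK36
import Cfsg.Agent.Lib.Helper7.F42TK37
import Cfsg.Agent.Lib.Helper7.F42TK38
import Cfsg.Agent.Lib.Helper7.F42TK39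
import Cfsg.Agent.Lib.Helper7.F42TK40
import Cfsg.Agent.Lib.Helper7.F42TK41
import Cfsg.Agent.Lib.Helper7.F42TK42
import Cfsg.Agent.Lib.Helper7.F42TK43
import Cfsg.Agent.Lib.Helper7.F42TK44
import Cfsg.Agent.Lib.Helper7.F42TK45
import Cfsg.Agent.Lib.Helper7.F42TK46
import Cfsg.Agent.Lib.Helper7.F42TK47
import Cfsg.Agent.Lib.Helper7.F42TK48
import Cfsg.Agent.Lib.Helper7.F42TK49
import Cfsg.Agent.Lib.Helper7.F42TK50
import Cfsg.Agent.Lib.Helper7.F42TK51

/-! # The multiplier of the Chevalley group of type F4 over the field of two elements, the table of the group: all the rows and words of the certificate are checked, and the words that give the relations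
between the classes are traced (generated) -/

set_option autoImplicit false
set_option maxRecDepth 100000

namespace Cfsg.Agent.Lib.Helper7.F42T

open Cfsg.Agent.Lib.Helper7.MG Cfsg.Agent.Lib.Helper7.HSMult

theorem rows_ok_all : ∀ k, k < 416 → rowsOK (168 * k) 168 = true
  | 0, _ => rows_ok_0
  | 1, _ => rows_ok_1
  | 2, _ => rows_ok_2
  | 3, _ => rows_ok_3
  | 4, _ => rows_ok_4
  | 5, _ => rows_ok_5
  | 6, _ => rows_ok_6
  | 7, _ => rows_ok_7
  | 8, _ => rows_ok_8
  | 9, _ => rows_ok_9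
  | 10, _ => rows_ok_10
  | 11, _ => rows_ok_11
  | 12, _ => rows_ok_12
  | 13, _ => rows_ok_13
  | 14, _ => rows_ok_14
  | 15, _ => rows_ok_15
  | 16, _ => rows_ok_16
  | 17, _ => rows_ok_17
  | 18, _ => rows_ok_18
  | 19, _ => rows_ok_19
  | 20, _ => rows_ok_20
  | 21, _ => rows_ok_21
  | 22, _ => rows_ok_22
  | 23, _ => rows_ok_23
  | 24, _ => rows_ok_24
  | 25, _ => rows_ok_25
  | 26, _ => rows_ok_26
  | 27, _ => rows_ok_27
  | 28, _ => rows_ok_28
  | 29, _ => rows_ok_29
  | 30, _ => rows_ok_30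
  | 31, _ => rows_ok_31
  | 32, _ => rows_ok_32
  | 33, _ => rows_ok_33
  | 34, _ => rows_ok_34
  | 35, _ => rows_ok_35
  | 36, _ => rows_ok_36
  | 37, _ => rows_ok_37
  | 38, _ => rows_ok_38
  | 39, _ => rows_ok_39
  | 40, _ => rows_ok_40
  | 41, _ => rows_ok_41
  | 42, _ => rows_ok_42
  | 43, _ => rows_ok_43
  | 44, _ => rows_ok_44
  | 45, _ => rows_ok_45
  | 46, _ => rows_ok_46
  | 47, _ => rows_ok_47
  | 48, _ => rows_ok_48
  | 49, _ => rows_ok_49
  | 50, _ => rows_ok_50
  | 51, _ => rows_ok_51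
  | 52, _ => rows_ok_52
  | 53, _ => rows_ok_53
  | 54, _ => rows_ok_54
  | 55, _ => rows_ok_55
  | 56, _ => rows_ok_56
  | 57, _ => rows_ok_57
  | 58, _ => rows_ok_58
  | 59, _ => rows_ok_59
  | 60, _ => rows_ok_60
  | 61, _ => rows_ok_61
  | 62, _ => rows_ok_62
  | 63, _ => rows_ok_63
  | 64, _ => rows_ok_64
  | 65, _ => rows_ok_65
  | 66, _ => rows_ok_66
  | 67, _ => rows_ok_67
  | 68, _ => rows_ok_68
  | 69, _ => rows_ok_69
  | 70, _ => rows_ok_70
  | 71, _ => rows_ok_71
  | 72, _ => rows_ok_72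
  | 73, _ => rows_ok_73
  | 74, _ => rows_ok_74
  | 75, _ => rows_ok_75
  | 76, _ => rows_ok_76
  | 77, _ => rows_ok_77
  | 78, _ => rows_ok_78
  | 79, _ => rows_ok_79
  | 80, _ => rows_ok_80
  | 81, _ => rows_ok_81
  | 82, _ => rows_ok_82
  | 83, _ => rows_ok_83
  | 84, _ => rows_ok_84
  | 85, _ => rows_ok_85
  | 86, _ => rows_ok_86
  | 87, _ => rows_ok_87
  | 88, _ => rows_ok_88
  | 89, _ => rows_ok_89
  | 90, _ => rows_ok_90
  | 91, _ => rows_ok_91
  | 92, _ => rows_ok_92
  | 93, _ => rows_ok_93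
  | 94, _ => rows_ok_94
  | 95, _ => rows_ok_95
  | 96, _ => rows_ok_96
  | 97, _ => rows_ok_97
  | 98, _ => rows_ok_98
  | 99, _ => rows_ok_99
  | 100, _ => rows_ok_100
  | 101, _ => rows_ok_101
  | 102, _ => rows_ok_102
  | 103, _ => rows_ok_103
  | 104, _ => rows_ok_104
  | 105, _ => rows_ok_105
  | 106, _ => rows_ok_106
  | 107, _ => rows_ok_107
  | 108, _ => rows_ok_108
  | 109, _ => rows_ok_109
  | 110, _ => rows_ok_110
  | 111, _ => rows_ok_111
  | 112, _ => rows_ok_112
  | 113, _ => rows_ok_113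
  | 114, _ => rows_ok_114
  | 115, _ => rows_ok_115
  | 116, _ => rows_ok_116
  | 117, _ => rows_ok_117
  | 118, _ => rows_ok_118
  | 119, _ => rows_ok_119
  | 120, _ => rows_ok_120
  | 121, _ => rows_ok_121
  | 122, _ => rows_ok_122
  | 123, _ => rows_ok_123
  | 124, _ => rows_ok_124
  | 125, _ => rows_ok_125
  | 126, _ => rows_ok_126
  | 127, _ => rows_ok_127
  | 128, _ => rows_ok_128
  | 129, _ => rows_ok_129
  | 130, _ => rows_ok_130
  | 131, _ => rows_ok_131
  | 132, _ => rows_ok_132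
  | 133, _ => rows_ok_133
  | 134, _ => rows_ok_134
  | 135, _ => rows_ok_135
  | 136, _ => rows_ok_136
  | 137, _ => rows_ok_137
  | 138, _ => rows_ok_138
  | 139, _ => rows_ok_139
  | 140, _ => rows_ok_140
  | 141, _ => rows_ok_141
  | 142, _ => rows_ok_142
  | 143, _ => rows_ok_143
  | 144, _ => rows_ok_144
  | 145, _ => rows_ok_145
  | 146, _ => rows_ok_146
  | 147, _ => rows_ok_147
  | 148, _ => rows_ok_148
  | 149, _ => rows_ok_149
  | 150, _ => rows_ok_150
  | 151, _ => rows_ok_151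
  | 152, _ => rows_ok_152
  | 153, _ => rows_ok_153
  | 154, _ => rows_ok_154
  | 155, _ => rows_ok_155
  | 156, _ => rows_ok_156
  | 157, _ => rows_ok_157
  | 158, _ => rows_ok_158
  | 159, _ => rows_ok_159
  | 160, _ => rows_ok_160
  | 161, _ => rows_ok_161
  | 162, _ => rows_ok_162
  | 163, _ => rows_ok_163
  | 164, _ => rows_ok_164
  | 165, _ => rows_ok_165
  | 166, _ => rows_ok_166
  | 167, _ => rows_ok_167
  | 168, _ => rows_ok_168
  | 169, _ => rows_ok_169
  | 170, _ => rows_ok_170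
  | 171, _ => rows_ok_171
  | 172, _ => rows_ok_172
  | 173, _ => rows_ok_173
  | 174, _ => rows_ok_174
  | 175, _ => rows_ok_175
  | 176, _ => rows_ok_176
  | 177, _ => rows_ok_177
  | 178, _ => rows_ok_178
  | 179, _ => rows_ok_179
  | 180, _ => rows_ok_180
  | 181, _ => rows_ok_181
  | 182, _ => rows_ok_182
  | 183, _ => rows_ok_183
  | 184, _ => rows_ok_184
  | 185, _ => rows_ok_185
  | 186, _ => rows_ok_186
  | 187, _ => rows_ok_187
  | 188, _ => rows_ok_188
  | 189, _ => rows_ok_189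
  | 190, _ => rows_ok_190
  | 191, _ => rows_ok_191
  | 192, _ => rows_ok_192
  | 193, _ => rows_ok_193
  | 194, _ => rows_ok_194
  | 195, _ => rows_ok_195
  | 196, _ => rows_ok_196
  | 197, _ => rows_ok_197
  | 198, _ => rows_ok_198
  | 199, _ => rows_ok_199
  | 200, _ => rows_ok_200
  | 201, _ => rows_ok_201
  | 202, _ => rows_ok_202
  | 203, _ => rows_ok_203
  | 204, _ => rows_ok_204
  | 205, _ => rows_ok_205
  | 206, _ => rows_ok_206
  | 207, _ => rows_ok_207
  | 208, _ => rows_ok_208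
  | 209, _ => rows_ok_209
  | 210, _ => rows_ok_210
  | 211, _ => rows_ok_211
  | 212, _ => rows_ok_212
  | 213, _ => rows_ok_213
  | 214, _ => rows_ok_214
  | 215, _ => rows_ok_215
  | 216, _ => rows_ok_216
  | 217, _ => rows_ok_217
  | 218, _ => rows_ok_218
  | 219, _ => rows_ok_219
  | 220, _ => rows_ok_220
  | 221, _ => rows_ok_221
  | 222, _ => rows_ok_222
  | 223, _ => rows_ok_223
  | 224, _ => rows_ok_224
  | 225, _ => rows_ok_225
  | 226, _ => rows_ok_226
  | 227, _ => rows_ok_227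
  | 228, _ => rows_ok_228
  | 229, _ => rows_ok_229
  | 230, _ => rows_ok_230
  | 231, _ => rows_ok_231
  | 232, _ => rows_ok_232
  | 233, _ => rows_ok_233
  | 234, _ => rows_ok_234
  | 235, _ => rows_ok_235
  | 236, _ => rows_ok_236
  | 237, _ => rows_ok_237
  | 238, _ => rows_ok_238
  | 239, _ => rows_ok_239
  | 240, _ => rows_ok_240
  | 241, _ => rows_ok_241
  | 242, _ => rows_ok_242
  | 243, _ => rows_ok_243
  | 244, _ => rows_ok_244
  | 245, _ => rows_ok_245
  | 246, _ => rows_ok_246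
  | 247, _ => rows_ok_247
  | 248, _ => rows_ok_248
  | 249, _ => rows_ok_249
  | 250, _ => rows_ok_250
  | 251, _ => rows_ok_251
  | 252, _ => rows_ok_252
  | 253, _ => rows_ok_253
  | 254, _ => rows_ok_254
  | 255, _ => rows_ok_255
  | 256, _ => rows_ok_256
  | 257, _ => rows_ok_257
  | 258, _ => rows_ok_258
  | 259, _ => rows_ok_259
  | 260, _ => rows_ok_260
  | 261, _ => rows_ok_261
  | 262, _ => rows_ok_262
  | 263, _ => rows_ok_263
  | 264, _ => rows_ok_264
  | 265, _ => rows_ok_265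
  | 266, _ => rows_ok_266
  | 267, _ => rows_ok_267
  | 268, _ => rows_ok_268
  | 269, _ => rows_ok_269
  | 270, _ => rows_ok_270
  | 271, _ => rows_ok_271
  | 272, _ => rows_ok_272
  | 273, _ => rows_ok_273
  | 274, _ => rows_ok_274
  | 275, _ => rows_ok_275
  | 276, _ => rows_ok_276
  | 277, _ => rows_ok_277
  | 278, _ => rows_ok_278
  | 279, _ => rows_ok_279
  | 280, _ => rows_ok_280
  | 281, _ => rows_ok_281
  | 282, _ => rows_ok_282
  | 283, _ => rows_ok_283
  | 284, _ => rows_ok_284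
  | 285, _ => rows_ok_285
  | 286, _ => rows_ok_286
  | 287, _ => rows_ok_287
  | 288, _ => rows_ok_288
  | 289, _ => rows_ok_289
  | 290, _ => rows_ok_290
  | 291, _ => rows_ok_291
  | 292, _ => rows_ok_292
  | 293, _ => rows_ok_293
  | 294, _ => rows_ok_294
  | 295, _ => rows_ok_295
  | 296, _ => rows_ok_296
  | 297, _ => rows_ok_297
  | 298, _ => rows_ok_298
  | 299, _ => rows_ok_299
  | 300, _ => rows_ok_300
  | 301, _ => rows_ok_301
  | 302, _ => rows_ok_302
  | 303, _ => rows_ok_303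
  | 304, _ => rows_ok_304
  | 305, _ => rows_ok_305
  | 306, _ => rows_ok_306
  | 307, _ => rows_ok_307
  | 308, _ => rows_ok_308
  | 309, _ => rows_ok_309
  | 310, _ => rows_ok_310
  | 311, _ => rows_ok_311
  | 312, _ => rows_ok_312
  | 313, _ => rows_ok_313
  | 314, _ => rows_ok_314
  | 315, _ => rows_ok_315
  | 316, _ => rows_ok_316
  | 317, _ => rows_ok_317
  | 318, _ => rows_ok_318
  | 319, _ => rows_ok_319
  | 320, _ => rows_ok_320
  | 321, _ => rows_ok_321
  | 322, _ => rows_ok_322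
  | 323, _ => rows_ok_323
  | 324, _ => rows_ok_324
  | 325, _ => rows_ok_325
  | 326, _ => rows_ok_326
  | 327, _ => rows_ok_327
  | 328, _ => rows_ok_328
  | 329, _ => rows_ok_329
  | 330, _ => rows_ok_330
  | 331, _ => rows_ok_331
  | 332, _ => rows_ok_332
  | 333, _ => rows_ok_333
  | 334, _ => rows_ok_334
  | 335, _ => rows_ok_335
  | 336, _ => rows_ok_336
  | 337, _ => rows_ok_337
  | 338, _ => rows_ok_338
  | 339, _ => rows_ok_339
  | 340, _ => rows_ok_340
  | 341, _ => rows_ok_341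
  | 342, _ => rows_ok_342
  | 343, _ => rows_ok_343
  | 344, _ => rows_ok_344
  | 345, _ => rows_ok_345
  | 346, _ => rows_ok_346
  | 347, _ => rows_ok_347
  | 348, _ => rows_ok_348
  | 349, _ => rows_ok_349
  | 350, _ => rows_ok_350
  | 351, _ => rows_ok_351
  | 352, _ => rows_ok_352
  | 353, _ => rows_ok_353
  | 354, _ => rows_ok_354
  | 355, _ => rows_ok_355
  | 356, _ => rows_ok_356
  | 357, _ => rows_ok_357
  | 358, _ => rows_ok_358
  | 359, _ => rows_ok_359
  | 360, _ => rows_ok_360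
  | 361, _ => rows_ok_361
  | 362, _ => rows_ok_362
  | 363, _ => rows_ok_363
  | 364, _ => rows_ok_364
  | 365, _ => rows_ok_365
  | 366, _ => rows_ok_366
  | 367, _ => rows_ok_367
  | 368, _ => rows_ok_368
  | 369, _ => rows_ok_369
  | 370, _ => rows_ok_370
  | 371, _ => rows_ok_371
  | 372, _ => rows_ok_372
  | 373, _ => rows_ok_373
  | 374, _ => rows_ok_374
  | 375, _ => rows_ok_375
  | 376, _ => rows_ok_376
  | 377, _ => rows_ok_377
  | 378, _ => rows_ok_378
  | 379, _ => rows_ok_379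
  | 380, _ => rows_ok_380
  | 381, _ => rows_ok_381
  | 382, _ => rows_ok_382
  | 383, _ => rows_ok_383
  | 384, _ => rows_ok_384
  | 385, _ => rows_ok_385
  | 386, _ => rows_ok_386
  | 387, _ => rows_ok_387
  | 388, _ => rows_ok_388
  | 389, _ => rows_ok_389
  | 390, _ => rows_ok_390
  | 391, _ => rows_ok_391
  | 392, _ => rows_ok_392
  | 393, _ => rows_ok_393
  | 394, _ => rows_ok_394
  | 395, _ => rows_ok_395
  | 396, _ => rows_ok_396
  | 397, _ => rows_ok_397
  | 398, _ => rows_ok_398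
  | 399, _ => rows_ok_399
  | 400, _ => rows_ok_400
  | 401, _ => rows_ok_401
  | 402, _ => rows_ok_402
  | 403, _ => rows_ok_403
  | 404, _ => rows_ok_404
  | 405, _ => rows_ok_405
  | 406, _ => rows_ok_406
  | 407, _ => rows_ok_407
  | 408, _ => rows_ok_408
  | 409, _ => rows_ok_409
  | 410, _ => rows_ok_410
  | 411, _ => rows_ok_411
  | 412, _ => rows_ok_412
  | 413, _ => rows_ok_413
  | 414, _ => rows_ok_414
  | 415, _ => rows_ok_415
  | k + 416, h => absurd h (by omega)

/-- **every entry of the table is justified** -/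
theorem cert_all : ∀ a, a < cert.n → ∀ x, x < cert.g → cert.slotOK a x = true := by
  intro a ha x hx
  have ha' : a < 69888 := ha
  have hx' : x < 12 := hx
  have h1 := rows_ok_all (a / 168) (by omega)
  rw [rowsOK, allN_iff] at h1
  have h2 := h1 (a % 168) (Nat.mod_lt _ (by norm_num))
  rw [allN_iff] at h2
  have h3 := h2 x hx'
  have e : Nat.add (168 * (a / 168)) (a % 168) = a := Nat.div_add_mod a 168
  rw [e] at h3
  exact h3

theorem words_ok : wordsOK = true := by decide +kernel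

/-- **every word of the certificate is justified** -/
theorem cert_wall : ∀ i, i < cert.nW → cert.wordOK i = true := by
  intro i hi
  have h := words_ok
  rw [wordsOK, allN_iff] at h
  exact h i hi

theorem close_0 : cert.scan 4095 (cert.W 550) 8271 0 = some (8271, 18014415691464704) := by decide +kernel

theorem close_1 : cert.scan 4095 (cert.W 2029) 58915 0 = some (58915, 22515820586356738) := by decide +kernel

theorem close_2 : cert.scan 4095 (cert.W 1934) 49756 0 = some (49756, 22518019616952320) := by decide +kernel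

theorem close_3 : cert.scan 4095 (cert.W 1596) 56723 0 = some (56723, 22534512292417538) := by decide +kernel

end Cfsg.Agent.Lib.Helper7.F42T
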