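import Cfsg.Agent.Lib.Helper7.F42GrpTw0
import Cfsg.Agent.Lib.Helper7.F42GrpTw1
import Cfsg.Agent.Lib.Helper7.F42GrpTw2
import Cfsg.Agent.Lib.Helper7.F42GrpTw3
import Cfsg.Agent.Lib.Helper7.F42GrpTw4
import Cfsg.Agent.Lib.Helper7.F42GrpTw5
import Cfsg.Agent.Lib.Helper7.F42GrpTw6
import Cfsg.Agent.Lib.Helper7.F42GrpTw7
import Cfsg.Agent.Lib.Helper7.F42GrpTw8
import Cfsg.Agent.Lib.Helper7.F42GrpTw9
import Cfsg.Agent.Lib.Helper7.F42GrpTw10
import Cfsg.Agent.Lib.Helper7.F42GrpTw11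
import Cfsg.Agent.Lib.Helper7.F42GrpTw12
import Cfsg.Agent.Lib.Helper7.F42GrpTw13
import Cfsg.Agent.Lib.Helper7.F42TD

/-!
# The Chevalley group of type F4 over the field of two elements: the words of the certificate of the table of the group, the index of the subgroup `L`

All the words of the certificate are trivial in the group, so the subgroup `L` generated by the eight letters of the
chain, which contains the first ten of the twelve letters, has index at most 69888.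
-/

set_option autoImplicit false
set_option maxRecDepth 100000

namespace Cfsg.Agent.Lib.Helper7.F42B

open Cfsg Cfsg.Agent.Lib.Helper7.MG Cfsg.Agent.Lib.Helper7.HSMult

theorem chk_trivT_all : ∀ k, k < 132 →
    (allN 24 fun i => strictL (F42T.cert.W (Nat.add (24 * k) i)) fun w => matOKT w) = true
  | 0, _ => chk_trivT_0
  | 1, _ => chk_trivT_1
  | 2, _ => chk_trivT_2
  | 3, _ => chk_trivT_3
  | 4, _ => chk_trivT_4
  | 5, _ => chk_trivT_5
  | 6, _ => chk_trivT_6
  | 7, _ => chk_trivT_7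
  | 8, _ => chk_trivT_8
  | 9, _ => chk_trivT_9
  | 10, _ => chk_trivT_10
  | 11, _ => chk_trivT_11
  | 12, _ => chk_trivT_12
  | 13, _ => chk_trivT_13
  | 14, _ => chk_trivT_14
  | 15, _ => chk_trivT_15
  | 16, _ => chk_trivT_16
  | 17, _ => chk_trivT_17
  | 18, _ => chk_trivT_18
  | 19, _ => chk_trivT_19
  | 20, _ => chk_trivT_20
  | 21, _ => chk_trivT_21
  | 22, _ => chk_trivT_22
  | 23, _ => chk_trivT_23
  | 24, _ => chk_trivT_24
  | 25, _ => chk_trivT_25
  | 26, _ => chk_trivT_26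
  | 27, _ => chk_trivT_27
  | 28, _ => chk_trivT_28
  | 29, _ => chk_trivT_29
  | 30, _ => chk_trivT_30
  | 31, _ => chk_trivT_31
  | 32, _ => chk_trivT_32
  | 33, _ => chk_trivT_33
  | 34, _ => chk_trivT_34
  | 35, _ => chk_trivT_35
  | 36, _ => chk_trivT_36
  | 37, _ => chk_trivT_37
  | 38, _ => chk_trivT_38
  | 39, _ => chk_trivT_39
  | 40, _ => chk_trivT_40
  | 41, _ => chk_trivT_41
  | 42, _ => chk_trivT_42
  | 43, _ => chk_trivT_43
  | 44, _ => chk_trivT_44
  | 45, _ => chk_trivT_45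
  | 46, _ => chk_trivT_46
  | 47, _ => chk_trivT_47
  | 48, _ => chk_trivT_48
  | 49, _ => chk_trivT_49
  | 50, _ => chk_trivT_50
  | 51, _ => chk_trivT_51
  | 52, _ => chk_trivT_52
  | 53, _ => chk_trivT_53
  | 54, _ => chk_trivT_54
  | 55, _ => chk_trivT_55
  | 56, _ => chk_trivT_56
  | 57, _ => chk_trivT_57
  | 58, _ => chk_trivT_58
  | 59, _ => chk_trivT_59
  | 60, _ => chk_trivT_60
  | 61, _ => chk_trivT_61
  | 62, _ => chk_trivT_62
  | 63, _ => chk_trivT_63
  | 64, _ => chk_trivT_64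
  | 65, _ => chk_trivT_65
  | 66, _ => chk_trivT_66
  | 67, _ => chk_trivT_67
  | 68, _ => chk_trivT_68
  | 69, _ => chk_trivT_69
  | 70, _ => chk_trivT_70
  | 71, _ => chk_trivT_71
  | 72, _ => chk_trivT_72
  | 73, _ => chk_trivT_73
  | 74, _ => chk_trivT_74
  | 75, _ => chk_trivT_75
  | 76, _ => chk_trivT_76
  | 77, _ => chk_trivT_77
  | 78, _ => chk_trivT_78
  | 79, _ => chk_trivT_79
  | 80, _ => chk_trivT_80
  | 81, _ => chk_trivT_81
  | 82, _ => chk_trivT_82
  | 83, _ => chk_trivT_83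
  | 84, _ => chk_trivT_84
  | 85, _ => chk_trivT_85
  | 86, _ => chk_trivT_86
  | 87, _ => chk_trivT_87
  | 88, _ => chk_trivT_88
  | 89, _ => chk_trivT_89
  | 90, _ => chk_trivT_90
  | 91, _ => chk_trivT_91
  | 92, _ => chk_trivT_92
  | 93, _ => chk_trivT_93
  | 94, _ => chk_trivT_94
  | 95, _ => chk_trivT_95
  | 96, _ => chk_trivT_96
  | 97, _ => chk_trivT_97
  | 98, _ => chk_trivT_98
  | 99, _ => chk_trivT_99
  | 100, _ => chk_trivT_100
  | 101, _ => chk_trivT_101
  | 102, _ => chk_trivT_102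
  | 103, _ => chk_trivT_103
  | 104, _ => chk_trivT_104
  | 105, _ => chk_trivT_105
  | 106, _ => chk_trivT_106
  | 107, _ => chk_trivT_107
  | 108, _ => chk_trivT_108
  | 109, _ => chk_trivT_109
  | 110, _ => chk_trivT_110
  | 111, _ => chk_trivT_111
  | 112, _ => chk_trivT_112
  | 113, _ => chk_trivT_113
  | 114, _ => chk_trivT_114
  | 115, _ => chk_trivT_115
  | 116, _ => chk_trivT_116
  | 117, _ => chk_trivT_117
  | 118, _ => chk_trivT_118
  | 119, _ => chk_trivT_119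
  | 120, _ => chk_trivT_120
  | 121, _ => chk_trivT_121
  | 122, _ => chk_trivT_122
  | 123, _ => chk_trivT_123
  | 124, _ => chk_trivT_124
  | 125, _ => chk_trivT_125
  | 126, _ => chk_trivT_126
  | 127, _ => chk_trivT_127
  | 128, _ => chk_trivT_128
  | 129, _ => chk_trivT_129
  | 130, _ => chk_trivT_130
  | 131, _ => chk_trivT_131
  | k + 132, h => absurd h (by omega)

theorem chk_trivT {i : ℕ} (hi : i < 3167) : matOKT (F42T.cert.W i) = true := by
  have h := chk_trivT_all (i / 24) (by omega)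
  rw [allN_iff] at h
  have h1 := h (i % 24) (Nat.mod_lt _ (by norm_num))
  rw [strictL_eq] at h1
  have e : Nat.add (24 * (i / 24)) (i % 24) = i := Nat.div_add_mod i 24
  rw [e] at h1
  exact h1

theorem wd_lT_W {i : ℕ} (hi : i < 3167) : VCert.wd lT (F42T.cert.W i) = 1 :=
  wd_lT_eq_one (chk_trivT hi)

/-- the letters of the subgroup of the table -/
theorem lt_ten_of_sub {x : ℕ}
    (hx : (Nat.beq x 0 || Nat.beq x 1 || Nat.beq x 2 || Nat.beq x 3 || Nat.beq x 4 || Nat.beq x 5 || Nat.beq x 6 || Nat.beq x 7 || Nat.beq x 8 || Nat.beq x 9) = true) : x < 10 := by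
  simp only [Bool.or_eq_true] at hx
  rcases hx with ((((((((h | h) | h) | h) | h) | h) | h) | h) | h) | h <;>
    (rw [Nat.eq_of_beq_eq_true h]; norm_num)

theorem hgen_G : ∀ y : G, ∃ u : List ℕ, (∀ x ∈ u, x < F42T.cert.g) ∧ y = (u.map lT).prod := by
  apply MG.exists_word_of_closure lT 12 ivT _ closure_lT
  intro x hx
  refine ⟨?_, lT_iv hx⟩
  have : x = 0 ∨ x = 1 ∨ x = 2 ∨ x = 3 ∨ x = 4 ∨ x = 5 ∨ x = 6 ∨ x = 7 ∨ x = 8 ∨ x = 9 ∨ x = 10 ∨ x = 11 := by omega
  rcases this with rfl | rfl | rfl | rfl | rfl | rfl | rfl | rfl | rfl | rfl | rfl | rfl <;> decide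

theorem index_L_le : L.index ≤ 69888 ∧ L.index ≠ 0 := by
  refine F42T.cert.index_le (γ := lT) (H := L) (z := fun _ => 1) ⊥ ?_ ?_ ?_ (by decide) (by decide)
    (fun x hx => lT_iv hx) ?_ ?_ ?_ F42T.cert_all F42T.cert_wall L le_rfl ?_ hgen_G (by decide)
  · intro u hu g
    rw [Subgroup.mem_bot] at hu
    rw [hu, mul_one, mul_inv_cancel]
    exact Subgroup.one_mem _
  · intro j _
    exact Subgroup.one_mem _
  · intro u _ hu
    exact Subgroup.mem_bot.1 hu
  · intro x hx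
    exact lT_mem_L (lt_ten_of_sub hx)
  · intro i hi
    rw [Subgroup.mem_bot]
    exact wd_lT_W hi
  · intro i hi _
    rw [wd_lT_W hi, VCert.ek, F42T.cert.kap_triv _ (fun _ _ => rfl)]
    rfl
  · intro j _
    exact Subgroup.one_mem _

theorem card_L_ge : 47377612800 ≤ Nat.card ↥L := by
  have h1 := Subgroup.card_mul_index L
  rw [card_G] at h1
  obtain ⟨h2, _⟩ := index_L_le
  by_contra hlt
  have h3 : Nat.card ↥L ≤ 47377612799 := by omega
  have : Nat.card ↥L * L.index ≤ 47377612799 * 69888 := Nat.mul_le_mul h3 h2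
  omega

end Cfsg.Agent.Lib.Helper7.F42B
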