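import Mathlib

/-!
# Canonical lifts of perfect subgroups without proper stem extensions

Let `σ : Γ → G` be a surjective homomorphism of finite groups with central kernel and let `Q` be a perfect subgroup
of `G` all of whose finite stem extensions are isomorphisms.  Then `σ` is injective on the derived subgroup of the
preimage of `Q`.  Lifts of elements of `G` chosen in these derived subgroups satisfy every relation that holds between
elements of one such `Q`.
-/

set_option autoImplicit false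

namespace Cfsg.Agent.Lib.Helper7.M12Mult

open scoped commutatorElement

universe u v

/-- every finite stem extension of `Q` (in the universe `u`) is injective -/
def MF (Q : Type v) [Group Q] : Prop :=
  ∀ (Γ' : Type u) [Group Γ'] [Finite Γ'] (τ : Γ' →* Q), Function.Surjective τ →
    τ.ker ≤ Subgroup.center Γ' → τ.ker ≤ commutator Γ' → τ.ker = ⊥

theorem MF.of_equiv {Q : Type v} {Q' : Type v} [Group Q] [Group Q'] (e : Q ≃* Q') (h : MF.{u} Q) :
    MF.{u} Q' := by
  intro Γ' _ _ τ hs hc hd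
  have hk : (e.symm.toMonoidHom.comp τ).ker = τ.ker := by
    ext x
    simp only [MonoidHom.mem_ker, MonoidHom.coe_comp, Function.comp_apply, MulEquiv.coe_toMonoidHom]
    exact e.symm.map_eq_one_iff
  have := h Γ' (e.symm.toMonoidHom.comp τ) (e.symm.surjective.comp hs) (by rw [hk]; exact hc)
    (by rw [hk]; exact hd)
  rw [← hk]; exact this

section general

variable {Γ : Type u} {G : Type v} [Group Γ] [Group G]

theorem commutatorElement_central_mul {x y k l : Γ} (hk : k ∈ Subgroup.center Γ)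
    (hl : l ∈ Subgroup.center Γ) : ⁅x * k, y * l⁆ = ⁅x, y⁆ := by
  have hk' := Subgroup.mem_center_iff.1 hk
  have hl' := Subgroup.mem_center_iff.1 hl
  rw [commutatorElement_def, commutatorElement_def]
  calc x * k * (y * l) * (x * k)⁻¹ * (y * l)⁻¹
      = x * (k * y) * (l * k⁻¹) * x⁻¹ * l⁻¹ * y⁻¹ := by group
    _ = x * (y * k) * (k⁻¹ * l) * x⁻¹ * l⁻¹ * y⁻¹ := by
        rw [← hk' y, hl' k⁻¹]
    _ = x * y * (l * x⁻¹) * l⁻¹ * y⁻¹ := by group
    _ = x * y * (x⁻¹ * l) * l⁻¹ * y⁻¹ := by rw [← hl' x⁻¹]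
    _ = x * y * x⁻¹ * y⁻¹ := by group

theorem commutator_eq_top_of_self {K : Subgroup Γ} (h : ⁅K, K⁆ = K) : commutator ↥K = ⊤ := by
  have h1 := Subgroup.map_subtype_commutator K
  rw [h] at h1
  have h2 : (⊤ : Subgroup ↥K).map K.subtype = K := by
    rw [← MonoidHom.range_eq_map, Subgroup.range_subtype]
  exact Subgroup.map_injective K.subtype_injective (h1.trans h2.symm)

variable (σ : Γ →* G)

/-- the derived subgroup of the preimage of a subgroup -/
def Mt (Q : Subgroup G) : Subgroup Γ := ⁅Q.comap σ, Q.comap σ⁆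

theorem Mt_le (Q : Subgroup G) : Mt σ Q ≤ Q.comap σ := by
  unfold Mt
  rw [Subgroup.commutator_le]
  intro x hx y hy
  rw [commutatorElement_def]
  exact mul_mem (mul_mem (mul_mem hx hy) (inv_mem hx)) (inv_mem hy)

theorem commutator_mem_Mt {Q : Subgroup G} {x y : Γ} (hx : σ x ∈ Q) (hy : σ y ∈ Q) : ⁅x, y⁆ ∈ Mt σ Q :=
  Subgroup.commutator_mem_commutator hx hy

variable {σ}

theorem exists_mem_Mt (hsurj : Function.Surjective σ) (Q : Subgroup G) (hperf : commutator ↥Q = ⊤)
    (q : G) (hq : q ∈ Q) : ∃ x ∈ Mt σ Q, σ x = q := by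
  have hmem : (⟨q, hq⟩ : ↥Q) ∈ commutator ↥Q := by rw [hperf]; exact Subgroup.mem_top _
  rw [commutator_eq_closure] at hmem
  have key : ∀ s : ↥Q, s ∈ Subgroup.closure (commutatorSet ↥Q) → ∃ x ∈ Mt σ Q, σ x = s.1 := by
    intro s hs
    induction hs using Subgroup.closure_induction with
    | mem s hs =>
      obtain ⟨s₁, s₂, rfl⟩ := hs
      obtain ⟨x₁, h₁⟩ := hsurj s₁.1
      obtain ⟨x₂, h₂⟩ := hsurj s₂.1
      refine ⟨⁅x₁, x₂⁆, commutator_mem_Mt σ (by rw [h₁]; exact s₁.2) (by rw [h₂]; exact s₂.2), ?_⟩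
      rw [map_commutatorElement, h₁, h₂]
      rfl
    | one => exact ⟨1, Subgroup.one_mem _, map_one σ⟩
    | mul a b _ _ ha hb =>
      obtain ⟨x, hx, hxa⟩ := ha
      obtain ⟨y, hy, hyb⟩ := hb
      exact ⟨x * y, mul_mem hx hy, by rw [map_mul, hxa, hyb]; rfl⟩
    | inv a _ ha =>
      obtain ⟨x, hx, hxa⟩ := ha
      exact ⟨x⁻¹, inv_mem hx, by rw [map_inv, hxa]; rfl⟩
  exact key ⟨q, hq⟩ hmem

theorem Mt_perfect (hsurj : Function.Surjective σ) (hcen : σ.ker ≤ Subgroup.center Γ) (Q : Subgroup G)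
    (hperf : commutator ↥Q = ⊤) : ⁅Mt σ Q, Mt σ Q⁆ = Mt σ Q := by
  apply le_antisymm
  · rw [Subgroup.commutator_le]
    intro x hx y hy
    rw [commutatorElement_def]
    exact mul_mem (mul_mem (mul_mem hx hy) (inv_mem hx)) (inv_mem hy)
  · conv_lhs => rw [Mt]
    rw [Subgroup.commutator_le]
    intro x hx y hy
    obtain ⟨x', hx', ex⟩ := exists_mem_Mt hsurj Q hperf (σ x) hx
    obtain ⟨y', hy', ey⟩ := exists_mem_Mt hsurj Q hperf (σ y) hy
    have hk : x'⁻¹ * x ∈ Subgroup.center Γ := hcen (by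
      rw [MonoidHom.mem_ker, map_mul, map_inv, ex, inv_mul_cancel])
    have hl : y'⁻¹ * y ∈ Subgroup.center Γ := hcen (by
      rw [MonoidHom.mem_ker, map_mul, map_inv, ey, inv_mul_cancel])
    have e := commutatorElement_central_mul (x := x') (y := y') hk hl
    rw [mul_inv_cancel_left, mul_inv_cancel_left] at e
    rw [e]
    exact Subgroup.commutator_mem_commutator hx' hy'

/-- the restriction of `σ` to the derived subgroup of the preimage of `Q` -/
def resMt (Q : Subgroup G) : ↥(Mt σ Q) →* ↥Q :=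
  (σ.comp (Mt σ Q).subtype).codRestrict Q fun x => Mt_le σ Q x.2

theorem resMt_apply (Q : Subgroup G) (x : ↥(Mt σ Q)) : ((resMt (σ := σ) Q x : ↥Q) : G) = σ x.1 := rfl

theorem resMt_ker_eq_bot [Finite Γ] (hsurj : Function.Surjective σ) (hcen : σ.ker ≤ Subgroup.center Γ)
    (Q : Subgroup G) (hperf : commutator ↥Q = ⊤) (hMF : MF.{u} ↥Q) : (resMt (σ := σ) Q).ker = ⊥ := by
  apply hMF
  · intro q
    obtain ⟨x, hx, e⟩ := exists_mem_Mt hsurj Q hperf q.1 q.2
    exact ⟨⟨x, hx⟩, Subtype.ext e⟩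
  · intro x hx
    rw [MonoidHom.mem_ker] at hx
    have h1 : σ x.1 = 1 := by
      have := congrArg Subtype.val hx
      exact this
    have h2 : x.1 ∈ Subgroup.center Γ := hcen (MonoidHom.mem_ker.2 h1)
    rw [Subgroup.mem_center_iff]
    intro y
    apply Subtype.ext
    exact Subgroup.mem_center_iff.1 h2 y.1
  · rw [commutator_eq_top_of_self (Mt_perfect hsurj hcen Q hperf)]
    exact le_top

/-- **`σ` is injective on the derived subgroup of the preimage of `Q`** -/
theorem eq_one_of_mem_Mt [Finite Γ] (hsurj : Function.Surjective σ) (hcen : σ.ker ≤ Subgroup.center Γ)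
    (Q : Subgroup G) (hperf : commutator ↥Q = ⊤) (hMF : MF.{u} ↥Q) {x : Γ} (hx : x ∈ Mt σ Q)
    (h1 : σ x = 1) : x = 1 := by
  have hk := resMt_ker_eq_bot hsurj hcen Q hperf hMF
  have : (⟨x, hx⟩ : ↥(Mt σ Q)) ∈ (resMt (σ := σ) Q).ker := by
    rw [MonoidHom.mem_ker]
    exact Subtype.ext h1
  rw [hk, Subgroup.mem_bot] at this
  exact congrArg Subtype.val this

theorem card_Mt_le [Finite Γ] [Finite G] (hsurj : Function.Surjective σ) (hcen : σ.ker ≤ Subgroup.center Γ)
    (Q : Subgroup G) (hperf : commutator ↥Q = ⊤) (hMF : MF.{u} ↥Q) :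
    Nat.card ↥(Mt σ Q) ≤ Nat.card ↥Q :=
  Nat.card_le_card_of_injective _
    ((MonoidHom.ker_eq_bot_iff _).1 (resMt_ker_eq_bot hsurj hcen Q hperf hMF))

/-- a word in elements of the derived subgroup of the preimage of `Q` whose image is trivial is trivial -/
theorem prod_eq_one_of_Mt [Finite Γ] (hsurj : Function.Surjective σ) (hcen : σ.ker ≤ Subgroup.center Γ)
    (Q : Subgroup G) (hperf : commutator ↥Q = ⊤) (hMF : MF.{u} ↥Q) (l : List Γ)
    (hl : ∀ x ∈ l, x ∈ Mt σ Q) (h1 : (l.map σ).prod = 1) : l.prod = 1 := by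
  apply eq_one_of_mem_Mt hsurj hcen Q hperf hMF (Subgroup.list_prod_mem _ hl)
  rw [map_list_prod]
  exact h1

/-- a central commutator relation: a word whose image is trivial commutes with everything -/
theorem comm_of_map_eq_one (hcen : σ.ker ≤ Subgroup.center Γ) {w : Γ} (h1 : σ w = 1) (x : Γ) :
    w * x * w⁻¹ * x⁻¹ = 1 := by
  have h := Subgroup.mem_center_iff.1 (hcen (MonoidHom.mem_ker.2 h1)) x
  rw [← h]
  group

/-- lifts that generate modulo the kernel generate a stem extension -/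
theorem closure_eq_top_of_stem (hcen : σ.ker ≤ Subgroup.center Γ) (hder : σ.ker ≤ commutator Γ)
    (S : Set Γ) (hS : ∀ g : G, ∃ x ∈ Subgroup.closure S, σ x = g) : Subgroup.closure S = ⊤ := by
  set Γ₁ := Subgroup.closure S with hΓ₁
  have hdec : ∀ z : Γ, ∃ h ∈ Γ₁, h⁻¹ * z ∈ Subgroup.center Γ := by
    intro z
    obtain ⟨h, hh, e⟩ := hS (σ z)
    exact ⟨h, hh, hcen (by rw [MonoidHom.mem_ker, map_mul, map_inv, e, inv_mul_cancel])⟩
  have hcomm : commutator Γ ≤ Γ₁ := by
    rw [commutator_eq_closure, Subgroup.closure_le]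
    rintro _ ⟨p, q, rfl⟩
    obtain ⟨h₁, hm₁, hz₁⟩ := hdec p
    obtain ⟨h₂, hm₂, hz₂⟩ := hdec q
    have e := commutatorElement_central_mul (x := h₁) (y := h₂) hz₁ hz₂
    rw [mul_inv_cancel_left, mul_inv_cancel_left] at e
    rw [SetLike.mem_coe, e, commutatorElement_def]
    exact mul_mem (mul_mem (mul_mem hm₁ hm₂) (inv_mem hm₁)) (inv_mem hm₂)
  rw [Subgroup.eq_top_iff']
  intro z
  obtain ⟨h, hh, e⟩ := hS (σ z)
  have h1 : h⁻¹ * z ∈ Γ₁ := hcomm (hder (by
    rw [MonoidHom.mem_ker, map_mul, map_inv, e, inv_mul_cancel]))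
  have h2 : z = h * (h⁻¹ * z) := by group
  rw [h2]
  exact mul_mem hh h1

end general

/-- a subgroup of index at most `n` and order at most `m` -/
theorem card_le_of_index_le {Γ : Type*} [Group Γ] (H : Subgroup Γ) {n m : ℕ}
    (hi : H.index ≤ n) (hc : Nat.card ↥H ≤ m) : Nat.card Γ ≤ n * m := by
  rw [← Subgroup.card_mul_index H, mul_comm]
  exact Nat.mul_le_mul hi hc

end Cfsg.Agent.Lib.Helper7.M12Mult
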