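import Cfsg.Agent.Lib.Helper7.F42MEL

/-! # The multiplier of the Chevalley group of type F4 over the field of two elements: the letters are permutations of the 139776 points, file 4 (generated) -/

set_option autoImplicit false
set_option maxRecDepth 100000

namespace Cfsg.Agent.Lib.Helper7.F42M

theorem chk_inv5_8_0 : inv5OK 8 (8736 * 0) 8736 = true := by decide +kernel

theorem chk_inv5_8_1 : inv5OK 8 (8736 * 1) 8736 = true := by decide +kernel

theorem chk_inv5_8_2 : inv5OK 8 (8736 * 2) 8736 = true := by decide +kernel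

theorem chk_inv5_8_3 : inv5OK 8 (8736 * 3) 8736 = true := by decide +kernel

theorem chk_inv5_8_4 : inv5OK 8 (8736 * 4) 8736 = true := by decide +kernel

theorem chk_inv5_8_5 : inv5OK 8 (8736 * 5) 8736 = true := by decide +kernel

theorem chk_inv5_8_6 : inv5OK 8 (8736 * 6) 8736 = true := by decide +kernel

theorem chk_inv5_8_7 : inv5OK 8 (8736 * 7) 8736 = true := by decide +kernel

theorem chk_inv5_8_8 : inv5OK 8 (8736 * 8) 8736 = true := by decide +kernel

theorem chk_inv5_8_9 : inv5OK 8 (8736 * 9) 8736 = true := by decide +kernel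

theorem chk_inv5_8_10 : inv5OK 8 (8736 * 10) 8736 = true := by decide +kernel

theorem chk_inv5_8_11 : inv5OK 8 (8736 * 11) 8736 = true := by decide +kernel

theorem chk_inv5_8_12 : inv5OK 8 (8736 * 12) 8736 = true := by decide +kernel

theorem chk_inv5_8_13 : inv5OK 8 (8736 * 13) 8736 = true := by decide +kernel

theorem chk_inv5_8_14 : inv5OK 8 (8736 * 14) 8736 = true := by decide +kernel

theorem chk_inv5_8_15 : inv5OK 8 (8736 * 15) 8736 = true := by decide +kernel

theorem chk_inv5_9_0 : inv5OK 9 (8736 * 0) 8736 = true := by decide +kernel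

theorem chk_inv5_9_1 : inv5OK 9 (8736 * 1) 8736 = true := by decide +kernel

theorem chk_inv5_9_2 : inv5OK 9 (8736 * 2) 8736 = true := by decide +kernel

theorem chk_inv5_9_3 : inv5OK 9 (8736 * 3) 8736 = true := by decide +kernel

theorem chk_inv5_9_4 : inv5OK 9 (8736 * 4) 8736 = true := by decide +kernel

theorem chk_inv5_9_5 : inv5OK 9 (8736 * 5) 8736 = true := by decide +kernel

theorem chk_inv5_9_6 : inv5OK 9 (8736 * 6) 8736 = true := by decide +kernel

theorem chk_inv5_9_7 : inv5OK 9 (8736 * 7) 8736 = true := by decide +kernel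

theorem chk_inv5_9_8 : inv5OK 9 (8736 * 8) 8736 = true := by decide +kernel

theorem chk_inv5_9_9 : inv5OK 9 (8736 * 9) 8736 = true := by decide +kernel

theorem chk_inv5_9_10 : inv5OK 9 (8736 * 10) 8736 = true := by decide +kernel

theorem chk_inv5_9_11 : inv5OK 9 (8736 * 11) 8736 = true := by decide +kernel

theorem chk_inv5_9_12 : inv5OK 9 (8736 * 12) 8736 = true := by decide +kernel

theorem chk_inv5_9_13 : inv5OK 9 (8736 * 13) 8736 = true := by decide +kernel

theorem chk_inv5_9_14 : inv5OK 9 (8736 * 14) 8736 = true := by decide +kernel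

theorem chk_inv5_9_15 : inv5OK 9 (8736 * 15) 8736 = true := by decide +kernel

end Cfsg.Agent.Lib.Helper7.F42M
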