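import Cfsg.Agent.Lib.Helper7.F42MEL

/-! # The multiplier of the Chevalley group of type F4 over the field of two elements: the letters are permutations of the 139776 points, file 5 (generated) -/

set_option autoImplicit false
set_option maxRecDepth 100000

namespace Cfsg.Agent.Lib.Helper7.F42M

theorem chk_inv5_10_0 : inv5OK 10 (8736 * 0) 8736 = true := by decide +kernel

theorem chk_inv5_10_1 : inv5OK 10 (8736 * 1) 8736 = true := by decide +kernel

theorem chk_inv5_10_2 : inv5OK 10 (8736 * 2) 8736 = true := by decide +kernel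

theorem chk_inv5_10_3 : inv5OK 10 (8736 * 3) 8736 = true := by decide +kernel

theorem chk_inv5_10_4 : inv5OK 10 (8736 * 4) 8736 = true := by decide +kernel

theorem chk_inv5_10_5 : inv5OK 10 (8736 * 5) 8736 = true := by decide +kernel

theorem chk_inv5_10_6 : inv5OK 10 (8736 * 6) 8736 = true := by decide +kernel

theorem chk_inv5_10_7 : inv5OK 10 (8736 * 7) 8736 = true := by decide +kernel

theorem chk_inv5_10_8 : inv5OK 10 (8736 * 8) 8736 = true := by decide +kernel

theorem chk_inv5_10_9 : inv5OK 10 (8736 * 9) 8736 = true := by decide +kernel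

theorem chk_inv5_10_10 : inv5OK 10 (8736 * 10) 8736 = true := by decide +kernel

theorem chk_inv5_10_11 : inv5OK 10 (8736 * 11) 8736 = true := by decide +kernel

theorem chk_inv5_10_12 : inv5OK 10 (8736 * 12) 8736 = true := by decide +kernel

theorem chk_inv5_10_13 : inv5OK 10 (8736 * 13) 8736 = true := by decide +kernel

theorem chk_inv5_10_14 : inv5OK 10 (8736 * 14) 8736 = true := by decide +kernel

theorem chk_inv5_10_15 : inv5OK 10 (8736 * 15) 8736 = true := by decide +kernel

theorem chk_inv5_11_0 : inv5OK 11 (8736 * 0) 8736 = true := by decide +kernel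

theorem chk_inv5_11_1 : inv5OK 11 (8736 * 1) 8736 = true := by decide +kernel

theorem chk_inv5_11_2 : inv5OK 11 (8736 * 2) 8736 = true := by decide +kernel

theorem chk_inv5_11_3 : inv5OK 11 (8736 * 3) 8736 = true := by decide +kernel

theorem chk_inv5_11_4 : inv5OK 11 (8736 * 4) 8736 = true := by decide +kernel

theorem chk_inv5_11_5 : inv5OK 11 (8736 * 5) 8736 = true := by decide +kernel

theorem chk_inv5_11_6 : inv5OK 11 (8736 * 6) 8736 = true := by decide +kernel

theorem chk_inv5_11_7 : inv5OK 11 (8736 * 7) 8736 = true := by decide +kernel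

theorem chk_inv5_11_8 : inv5OK 11 (8736 * 8) 8736 = true := by decide +kernel

theorem chk_inv5_11_9 : inv5OK 11 (8736 * 9) 8736 = true := by decide +kernel

theorem chk_inv5_11_10 : inv5OK 11 (8736 * 10) 8736 = true := by decide +kernel

theorem chk_inv5_11_11 : inv5OK 11 (8736 * 11) 8736 = true := by decide +kernel

theorem chk_inv5_11_12 : inv5OK 11 (8736 * 12) 8736 = true := by decide +kernel

theorem chk_inv5_11_13 : inv5OK 11 (8736 * 13) 8736 = true := by decide +kernel

theorem chk_inv5_11_14 : inv5OK 11 (8736 * 14) 8736 = true := by decide +kernel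

theorem chk_inv5_11_15 : inv5OK 11 (8736 * 15) 8736 = true := by decide +kernel

end Cfsg.Agent.Lib.Helper7.F42M
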