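import Cfsg.Agent.Lib.Helper7.F42MEL

/-! # The multiplier of the Chevalley group of type F4 over the field of two elements: the letters on the 139776 points one by one, and the checks of maps of the points -/

set_option autoImplicit false
set_option maxRecDepth 100000

namespace Cfsg.Agent.Lib.Helper7.F42M

open Cfsg Cfsg.Agent.Lib.Helper7.MG Cfsg.Agent.Lib.Helper7.HSMult Cfsg.Agent.Lib.Helper7.F42B

/-- the letter 0 of the twelve letters on the points -/
noncomputable def f5_0 (p : ℕ) : ℕ := strictN p fun q => ent5 (n5_0_0_273 (Nat.div q 512)) (Nat.mod q 512)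

theorem lk5_eq_0 (p : ℕ) : lk5 0 p = f5_0 p := rfl

/-- the letter 1 of the twelve letters on the points -/
noncomputable def f5_1 (p : ℕ) : ℕ := strictN p fun q => ent5 (n5_1_0_273 (Nat.div q 512)) (Nat.mod q 512)

theorem lk5_eq_1 (p : ℕ) : lk5 1 p = f5_1 p := rfl

/-- the letter 2 of the twelve letters on the points -/
noncomputable def f5_2 (p : ℕ) : ℕ := strictN p fun q => ent5 (n5_2_0_273 (Nat.div q 512)) (Nat.mod q 512)

theorem lk5_eq_2 (p : ℕ) : lk5 2 p = f5_2 p := rfl

/-- the letter 3 of the twelve letters on the points -/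
noncomputable def f5_3 (p : ℕ) : ℕ := strictN p fun q => ent5 (n5_3_0_273 (Nat.div q 512)) (Nat.mod q 512)

theorem lk5_eq_3 (p : ℕ) : lk5 3 p = f5_3 p := rfl

/-- the letter 4 of the twelve letters on the points -/
noncomputable def f5_4 (p : ℕ) : ℕ := strictN p fun q => ent5 (n5_4_0_273 (Nat.div q 512)) (Nat.mod q 512)

theorem lk5_eq_4 (p : ℕ) : lk5 4 p = f5_4 p := rfl

/-- the letter 5 of the twelve letters on the points -/
noncomputable def f5_5 (p : ℕ) : ℕ := strictN p fun q => ent5 (n5_5_0_273 (Nat.div q 512)) (Nat.mod q 512)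

theorem lk5_eq_5 (p : ℕ) : lk5 5 p = f5_5 p := rfl

/-- the letter 6 of the twelve letters on the points -/
noncomputable def f5_6 (p : ℕ) : ℕ := strictN p fun q => ent5 (n5_6_0_273 (Nat.div q 512)) (Nat.mod q 512)

theorem lk5_eq_6 (p : ℕ) : lk5 6 p = f5_6 p := rfl

/-- the letter 7 of the twelve letters on the points -/
noncomputable def f5_7 (p : ℕ) : ℕ := strictN p fun q => ent5 (n5_7_0_273 (Nat.div q 512)) (Nat.mod q 512)

theorem lk5_eq_7 (p : ℕ) : lk5 7 p = f5_7 p := rfl

/-- the letter 8 of the twelve letters on the points -/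
noncomputable def f5_8 (p : ℕ) : ℕ := strictN p fun q => ent5 (n5_8_0_273 (Nat.div q 512)) (Nat.mod q 512)

theorem lk5_eq_8 (p : ℕ) : lk5 8 p = f5_8 p := rfl

/-- the letter 9 of the twelve letters on the points -/
noncomputable def f5_9 (p : ℕ) : ℕ := strictN p fun q => ent5 (n5_9_0_273 (Nat.div q 512)) (Nat.mod q 512)

theorem lk5_eq_9 (p : ℕ) : lk5 9 p = f5_9 p := rfl

/-- the letter 10 of the twelve letters on the points -/
noncomputable def f5_10 (p : ℕ) : ℕ := strictN p fun q => ent5 (n5_10_0_273 (Nat.div q 512)) (Nat.mod q 512)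

theorem lk5_eq_10 (p : ℕ) : lk5 10 p = f5_10 p := rfl

/-- the letter 11 of the twelve letters on the points -/
noncomputable def f5_11 (p : ℕ) : ℕ := strictN p fun q => ent5 (n5_11_0_273 (Nat.div q 512)) (Nat.mod q 512)

theorem lk5_eq_11 (p : ℕ) : lk5 11 p = f5_11 p := rfl

/-- the letter 0 of the eight letters on the points -/
noncomputable def fK_0 (p : ℕ) : ℕ := strictN p fun q => ent5 (nK_0_0_273 (Nat.div q 512)) (Nat.mod q 512)

theorem lkK_eq_0 (p : ℕ) : lkK 0 p = fK_0 p := rfl

/-- the letter 1 of the eight letters on the points -/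
noncomputable def fK_1 (p : ℕ) : ℕ := strictN p fun q => ent5 (nK_0_0_273 (Nat.div q 512)) (Nat.mod q 512)

theorem lkK_eq_1 (p : ℕ) : lkK 1 p = fK_1 p := rfl

/-- the letter 2 of the eight letters on the points -/
noncomputable def fK_2 (p : ℕ) : ℕ := strictN p fun q => ent5 (nK_2_0_273 (Nat.div q 512)) (Nat.mod q 512)

theorem lkK_eq_2 (p : ℕ) : lkK 2 p = fK_2 p := rfl

/-- the letter 3 of the eight letters on the points -/
noncomputable def fK_3 (p : ℕ) : ℕ := strictN p fun q => ent5 (nK_3_0_273 (Nat.div q 512)) (Nat.mod q 512)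

theorem lkK_eq_3 (p : ℕ) : lkK 3 p = fK_3 p := rfl

/-- the letter 4 of the eight letters on the points -/
noncomputable def fK_4 (p : ℕ) : ℕ := strictN p fun q => ent5 (nK_4_0_273 (Nat.div q 512)) (Nat.mod q 512)

theorem lkK_eq_4 (p : ℕ) : lkK 4 p = fK_4 p := rfl

/-- the letter 5 of the eight letters on the points -/
noncomputable def fK_5 (p : ℕ) : ℕ := strictN p fun q => ent5 (nK_4_0_273 (Nat.div q 512)) (Nat.mod q 512)

theorem lkK_eq_5 (p : ℕ) : lkK 5 p = fK_5 p := rfl

/-- the letter 6 of the eight letters on the points -/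
noncomputable def fK_6 (p : ℕ) : ℕ := strictN p fun q => ent5 (nK_6_0_273 (Nat.div q 512)) (Nat.mod q 512)

theorem lkK_eq_6 (p : ℕ) : lkK 6 p = fK_6 p := rfl

/-- the letter 7 of the eight letters on the points -/
noncomputable def fK_7 (p : ℕ) : ℕ := strictN p fun q => ent5 (nK_6_0_273 (Nat.div q 512)) (Nat.mod q 512)

theorem lkK_eq_7 (p : ℕ) : lkK 7 p = fK_7 p := rfl

/-- the check that a map fixes the points from `lo` to `lo + k` -/
noncomputable def fxF (f : ℕ → ℕ) (lo k : ℕ) : Bool :=
  allN k fun i => Nat.beq (f (Nat.add lo i)) (Nat.add lo i)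

/-- the check that a map shifts the points from `lo` to `lo + k` -/
noncomputable def shF (f : ℕ → ℕ) (e lo k : ℕ) : Bool :=
  allN k fun i => Nat.beq (f (Nat.add lo i)) (Nat.xor (Nat.add lo i) e)

/-- the check that a map commutes with the shift on the points from `lo` to `lo + k` -/
noncomputable def cenF (f : ℕ → ℕ) (lo k : ℕ) : Bool :=
  allN k fun i => Nat.beq (f (Nat.xor (Nat.add lo i) 1)) (Nat.xor (f (Nat.add lo i)) 1)

/-- the check that two maps agree on the points from `lo` to `lo + k` -/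
noncomputable def eqF (f g : ℕ → ℕ) (lo k : ℕ) : Bool :=
  allN k fun i => Nat.beq (f (Nat.add lo i)) (g (Nat.add lo i))

end Cfsg.Agent.Lib.Helper7.F42M
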