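import Cfsg.Agent.Lib.Helper7.F42MEI0
import Cfsg.Agent.Lib.Helper7.F42MEI1
import Cfsg.Agent.Lib.Helper7.F42MEI2
import Cfsg.Agent.Lib.Helper7.F42MEI3
import Cfsg.Agent.Lib.Helper7.F42MEI4
import Cfsg.Agent.Lib.Helper7.F42MEI5
import Cfsg.Agent.Lib.Helper7.F42MEI6
import Cfsg.Agent.Lib.Helper7.F42MEI7
import Cfsg.Agent.Lib.Helper7.F42MEI8
import Cfsg.Agent.Lib.Helper7.F42MEI9
import Cfsg.Agent.Lib.Helper7.F42MEL2

/-!
# The multiplier of the Chevalley group of type F4 over the field of two elements: a stem extension with kernel of order two, the group of pairs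

Permutations of 139776 points, paired with the twelve letters of the table of the group and with the eight letters of
the chain of subgroups, generate a group that maps onto the group.  The points are the cosets of `L` taken twice; the
kernel of order two exchanges the two copies of each coset.
-/

set_option autoImplicit false
set_option maxRecDepth 100000

namespace Cfsg.Agent.Lib.Helper7.F42M

open Cfsg Cfsg.Agent.Lib.Helper7.MG Cfsg.Agent.Lib.Helper7.HSMult Cfsg.Agent.Lib.Helper7.F42B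
open scoped IsMulCommutative

theorem lK_ivK {x : ℕ} (hx : x < 8) : lK (ivK x) = (lK x)⁻¹ := lK_iv hx

theorem lT_iv5 {x : ℕ} (hx : x < 12) : lT (iv5 x) = (lT x)⁻¹ := by
  rw [iv5_eq hx]
  exact lT_iv hx

theorem chk_inv5_0 : ∀ r, r < 16 → inv5OK 0 (8736 * r) 8736 = true
  | 0, _ => chk_inv5_0_0
  | 1, _ => chk_inv5_0_1
  | 2, _ => chk_inv5_0_2
  | 3, _ => chk_inv5_0_3
  | 4, _ => chk_inv5_0_4
  | 5, _ => chk_inv5_0_5
  | 6, _ => chk_inv5_0_6
  | 7, _ => chk_inv5_0_7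
  | 8, _ => chk_inv5_0_8
  | 9, _ => chk_inv5_0_9
  | 10, _ => chk_inv5_0_10
  | 11, _ => chk_inv5_0_11
  | 12, _ => chk_inv5_0_12
  | 13, _ => chk_inv5_0_13
  | 14, _ => chk_inv5_0_14
  | 15, _ => chk_inv5_0_15
  | r + 16, h => absurd h (by omega)

theorem chk_inv5_1 : ∀ r, r < 16 → inv5OK 1 (8736 * r) 8736 = true
  | 0, _ => chk_inv5_1_0
  | 1, _ => chk_inv5_1_1
  | 2, _ => chk_inv5_1_2
  | 3, _ => chk_inv5_1_3
  | 4, _ => chk_inv5_1_4
  | 5, _ => chk_inv5_1_5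
  | 6, _ => chk_inv5_1_6
  | 7, _ => chk_inv5_1_7
  | 8, _ => chk_inv5_1_8
  | 9, _ => chk_inv5_1_9
  | 10, _ => chk_inv5_1_10
  | 11, _ => chk_inv5_1_11
  | 12, _ => chk_inv5_1_12
  | 13, _ => chk_inv5_1_13
  | 14, _ => chk_inv5_1_14
  | 15, _ => chk_inv5_1_15
  | r + 16, h => absurd h (by omega)

theorem chk_inv5_2 : ∀ r, r < 16 → inv5OK 2 (8736 * r) 8736 = true
  | 0, _ => chk_inv5_2_0
  | 1, _ => chk_inv5_2_1
  | 2, _ => chk_inv5_2_2
  | 3, _ => chk_inv5_2_3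
  | 4, _ => chk_inv5_2_4
  | 5, _ => chk_inv5_2_5
  | 6, _ => chk_inv5_2_6
  | 7, _ => chk_inv5_2_7
  | 8, _ => chk_inv5_2_8
  | 9, _ => chk_inv5_2_9
  | 10, _ => chk_inv5_2_10
  | 11, _ => chk_inv5_2_11
  | 12, _ => chk_inv5_2_12
  | 13, _ => chk_inv5_2_13
  | 14, _ => chk_inv5_2_14
  | 15, _ => chk_inv5_2_15
  | r + 16, h => absurd h (by omega)

theorem chk_inv5_3 : ∀ r, r < 16 → inv5OK 3 (8736 * r) 8736 = true
  | 0, _ => chk_inv5_3_0
  | 1, _ => chk_inv5_3_1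
  | 2, _ => chk_inv5_3_2
  | 3, _ => chk_inv5_3_3
  | 4, _ => chk_inv5_3_4
  | 5, _ => chk_inv5_3_5
  | 6, _ => chk_inv5_3_6
  | 7, _ => chk_inv5_3_7
  | 8, _ => chk_inv5_3_8
  | 9, _ => chk_inv5_3_9
  | 10, _ => chk_inv5_3_10
  | 11, _ => chk_inv5_3_11
  | 12, _ => chk_inv5_3_12
  | 13, _ => chk_inv5_3_13
  | 14, _ => chk_inv5_3_14
  | 15, _ => chk_inv5_3_15
  | r + 16, h => absurd h (by omega)

theorem chk_inv5_4 : ∀ r, r < 16 → inv5OK 4 (8736 * r) 8736 = true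
  | 0, _ => chk_inv5_4_0
  | 1, _ => chk_inv5_4_1
  | 2, _ => chk_inv5_4_2
  | 3, _ => chk_inv5_4_3
  | 4, _ => chk_inv5_4_4
  | 5, _ => chk_inv5_4_5
  | 6, _ => chk_inv5_4_6
  | 7, _ => chk_inv5_4_7
  | 8, _ => chk_inv5_4_8
  | 9, _ => chk_inv5_4_9
  | 10, _ => chk_inv5_4_10
  | 11, _ => chk_inv5_4_11
  | 12, _ => chk_inv5_4_12
  | 13, _ => chk_inv5_4_13
  | 14, _ => chk_inv5_4_14
  | 15, _ => chk_inv5_4_15
  | r + 16, h => absurd h (by omega)

theorem chk_inv5_5 : ∀ r, r < 16 → inv5OK 5 (8736 * r) 8736 = true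
  | 0, _ => chk_inv5_5_0
  | 1, _ => chk_inv5_5_1
  | 2, _ => chk_inv5_5_2
  | 3, _ => chk_inv5_5_3
  | 4, _ => chk_inv5_5_4
  | 5, _ => chk_inv5_5_5
  | 6, _ => chk_inv5_5_6
  | 7, _ => chk_inv5_5_7
  | 8, _ => chk_inv5_5_8
  | 9, _ => chk_inv5_5_9
  | 10, _ => chk_inv5_5_10
  | 11, _ => chk_inv5_5_11
  | 12, _ => chk_inv5_5_12
  | 13, _ => chk_inv5_5_13
  | 14, _ => chk_inv5_5_14
  | 15, _ => chk_inv5_5_15
  | r + 16, h => absurd h (by omega)

theorem chk_inv5_6 : ∀ r, r < 16 → inv5OK 6 (8736 * r) 8736 = true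
  | 0, _ => chk_inv5_6_0
  | 1, _ => chk_inv5_6_1
  | 2, _ => chk_inv5_6_2
  | 3, _ => chk_inv5_6_3
  | 4, _ => chk_inv5_6_4
  | 5, _ => chk_inv5_6_5
  | 6, _ => chk_inv5_6_6
  | 7, _ => chk_inv5_6_7
  | 8, _ => chk_inv5_6_8
  | 9, _ => chk_inv5_6_9
  | 10, _ => chk_inv5_6_10
  | 11, _ => chk_inv5_6_11
  | 12, _ => chk_inv5_6_12
  | 13, _ => chk_inv5_6_13
  | 14, _ => chk_inv5_6_14
  | 15, _ => chk_inv5_6_15
  | r + 16, h => absurd h (by omega)

theorem chk_inv5_7 : ∀ r, r < 16 → inv5OK 7 (8736 * r) 8736 = true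
  | 0, _ => chk_inv5_7_0
  | 1, _ => chk_inv5_7_1
  | 2, _ => chk_inv5_7_2
  | 3, _ => chk_inv5_7_3
  | 4, _ => chk_inv5_7_4
  | 5, _ => chk_inv5_7_5
  | 6, _ => chk_inv5_7_6
  | 7, _ => chk_inv5_7_7
  | 8, _ => chk_inv5_7_8
  | 9, _ => chk_inv5_7_9
  | 10, _ => chk_inv5_7_10
  | 11, _ => chk_inv5_7_11
  | 12, _ => chk_inv5_7_12
  | 13, _ => chk_inv5_7_13
  | 14, _ => chk_inv5_7_14
  | 15, _ => chk_inv5_7_15
  | r + 16, h => absurd h (by omega)

theorem chk_inv5_8 : ∀ r, r < 16 → inv5OK 8 (8736 * r) 8736 = true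
  | 0, _ => chk_inv5_8_0
  | 1, _ => chk_inv5_8_1
  | 2, _ => chk_inv5_8_2
  | 3, _ => chk_inv5_8_3
  | 4, _ => chk_inv5_8_4
  | 5, _ => chk_inv5_8_5
  | 6, _ => chk_inv5_8_6
  | 7, _ => chk_inv5_8_7
  | 8, _ => chk_inv5_8_8
  | 9, _ => chk_inv5_8_9
  | 10, _ => chk_inv5_8_10
  | 11, _ => chk_inv5_8_11
  | 12, _ => chk_inv5_8_12
  | 13, _ => chk_inv5_8_13
  | 14, _ => chk_inv5_8_14
  | 15, _ => chk_inv5_8_15
  | r + 16, h => absurd h (by omega)

theorem chk_inv5_9 : ∀ r, r < 16 → inv5OK 9 (8736 * r) 8736 = true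
  | 0, _ => chk_inv5_9_0
  | 1, _ => chk_inv5_9_1
  | 2, _ => chk_inv5_9_2
  | 3, _ => chk_inv5_9_3
  | 4, _ => chk_inv5_9_4
  | 5, _ => chk_inv5_9_5
  | 6, _ => chk_inv5_9_6
  | 7, _ => chk_inv5_9_7
  | 8, _ => chk_inv5_9_8
  | 9, _ => chk_inv5_9_9
  | 10, _ => chk_inv5_9_10
  | 11, _ => chk_inv5_9_11
  | 12, _ => chk_inv5_9_12
  | 13, _ => chk_inv5_9_13
  | 14, _ => chk_inv5_9_14
  | 15, _ => chk_inv5_9_15
  | r + 16, h => absurd h (by omega)

theorem chk_inv5_10 : ∀ r, r < 16 → inv5OK 10 (8736 * r) 8736 = true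
  | 0, _ => chk_inv5_10_0
  | 1, _ => chk_inv5_10_1
  | 2, _ => chk_inv5_10_2
  | 3, _ => chk_inv5_10_3
  | 4, _ => chk_inv5_10_4
  | 5, _ => chk_inv5_10_5
  | 6, _ => chk_inv5_10_6
  | 7, _ => chk_inv5_10_7
  | 8, _ => chk_inv5_10_8
  | 9, _ => chk_inv5_10_9
  | 10, _ => chk_inv5_10_10
  | 11, _ => chk_inv5_10_11
  | 12, _ => chk_inv5_10_12
  | 13, _ => chk_inv5_10_13
  | 14, _ => chk_inv5_10_14
  | 15, _ => chk_inv5_10_15
  | r + 16, h => absurd h (by omega)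

theorem chk_inv5_11 : ∀ r, r < 16 → inv5OK 11 (8736 * r) 8736 = true
  | 0, _ => chk_inv5_11_0
  | 1, _ => chk_inv5_11_1
  | 2, _ => chk_inv5_11_2
  | 3, _ => chk_inv5_11_3
  | 4, _ => chk_inv5_11_4
  | 5, _ => chk_inv5_11_5
  | 6, _ => chk_inv5_11_6
  | 7, _ => chk_inv5_11_7
  | 8, _ => chk_inv5_11_8
  | 9, _ => chk_inv5_11_9
  | 10, _ => chk_inv5_11_10
  | 11, _ => chk_inv5_11_11
  | 12, _ => chk_inv5_11_12
  | 13, _ => chk_inv5_11_13
  | 14, _ => chk_inv5_11_14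
  | 15, _ => chk_inv5_11_15
  | r + 16, h => absurd h (by omega)

theorem chk_inv5 : ∀ x, x < 12 → ∀ r, r < 16 → inv5OK x (8736 * r) 8736 = true
  | 0, _ => chk_inv5_0
  | 1, _ => chk_inv5_1
  | 2, _ => chk_inv5_2
  | 3, _ => chk_inv5_3
  | 4, _ => chk_inv5_4
  | 5, _ => chk_inv5_5
  | 6, _ => chk_inv5_6
  | 7, _ => chk_inv5_7
  | 8, _ => chk_inv5_8
  | 9, _ => chk_inv5_9
  | 10, _ => chk_inv5_10
  | 11, _ => chk_inv5_11
  | x + 12, h => absurd h (by omega)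

theorem iv5_ge {x : ℕ} (hx : 12 ≤ x) : 12 ≤ iv5 x := by
  by_contra h
  have h1 := iv5_lt (iv5 x) (by omega)
  rw [iv5_iv5] at h1
  omega

theorem hh5 (x p : ℕ) (hp : p < 139776) : lk5 x p < 139776 ∧ lk5 (iv5 x) (lk5 x p) = p := by
  rcases Nat.lt_or_ge x 12 with hx | hx
  · have h1 := chk_inv5 x hx (p / 8736) (by omega)
    rw [inv5OK, allN_iff] at h1
    have h2 := h1 (p % 8736) (Nat.mod_lt _ (by norm_num))
    have e1 : Nat.add (8736 * (p / 8736)) (p % 8736) = p := Nat.div_add_mod p 8736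
    rw [e1, Bool.and_eq_true] at h2
    exact ⟨by simpa [Nat.blt] using h2.1, Nat.eq_of_beq_eq_true h2.2⟩
  · rw [lk5_ge (iv5_ge hx), lk5_ge hx]
    exact ⟨hp, rfl⟩

theorem hh5' (x p : ℕ) (hp : p < 139776) : lk5 (iv5 x) p < 139776 ∧ lk5 x (lk5 (iv5 x) p) = p := by
  have h := hh5 (iv5 x) p hp
  rwa [iv5_iv5] at h

/-- the letters as permutations of the 139776 points -/
noncomputable def pm5 (x : ℕ) : Equiv.Perm (Fin 139776) := permOf 139776 (lk5 x) (lk5 (iv5 x)) (hh5 x) (hh5' x)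

theorem pm5_val (x : ℕ) (p : Fin 139776) : (pm5 x p).val = lk5 x p.val := rfl

theorem pm5_iv (x : ℕ) : pm5 (iv5 x) = (pm5 x)⁻¹ := by
  apply Equiv.ext
  intro p
  apply Fin.ext
  rw [pm5, pm5, permOf_inv]
  rfl

theorem pm5_ge {x : ℕ} (hx : 12 ≤ x) : pm5 x = 1 := by
  apply Equiv.ext
  intro p
  apply Fin.ext
  rw [pm5_val, lk5_ge hx]
  rfl

/-- the image of one of the 139776 points under a word -/
noncomputable def ev5 (w : List ℕ) (p : ℕ) : ℕ := List.rec p (fun x _ ih => lk5 x ih) w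

theorem ev5_nil (p : ℕ) : ev5 [] p = p := rfl

theorem ev5_cons (x : ℕ) (w : List ℕ) (p : ℕ) : ev5 (x :: w) p = lk5 x (ev5 w p) := rfl

theorem wd_pm5_val : ∀ (w : List ℕ) (p : Fin 139776), ((VCert.wd pm5 w) p).val = ev5 w p.val
  | [], _ => rfl
  | x :: w, p => by
    rw [VCert.wd_cons, Equiv.Perm.mul_apply, pm5_val, wd_pm5_val w p]
    rfl

theorem wd_pm5_eq {w w' : List ℕ} (h : ∀ p, p < 139776 → ev5 w p = ev5 w' p) :
    VCert.wd pm5 w = VCert.wd pm5 w' := by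
  apply Equiv.ext
  intro p
  apply Fin.ext
  rw [wd_pm5_val, wd_pm5_val]
  exact h p.val p.2

theorem ev5_append : ∀ (w w' : List ℕ) (p : ℕ), ev5 (w ++ w') p = ev5 w (ev5 w' p)
  | [], _, _ => rfl
  | x :: w, w', p => by
    show ev5 (x :: (w ++ w')) p = ev5 (x :: w) (ev5 w' p)
    rw [ev5_cons, ev5_cons, ev5_append w w' p]

theorem ev5_lt : ∀ (w : List ℕ) (p : ℕ), p < 139776 → ev5 w p < 139776
  | [], _, hp => hp
  | x :: w, p, hp => by
    rw [ev5_cons]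
    exact (hh5 x _ (ev5_lt w p hp)).1

/-- the pairs -/
noncomputable def gX (x : ℕ) : Equiv.Perm (Fin 139776) × G := (pm5 x, lT x)

theorem gX_ge {x : ℕ} (hx : 12 ≤ x) : gX x = 1 := by
  rw [gX, pm5_ge hx, lT_of_ge hx]
  rfl

theorem wd_gX : ∀ w : List ℕ, VCert.wd gX w = (VCert.wd pm5 w, VCert.wd lT w)
  | [] => rfl
  | x :: w => by
    rw [VCert.wd_cons, VCert.wd_cons, VCert.wd_cons, wd_gX w]
    rfl

theorem gX_iv {x : ℕ} (hx : x < 12) : gX (iv5 x) = (gX x)⁻¹ := by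
  rw [gX, gX, pm5_iv, lT_iv5 hx]
  rfl


theorem chk_invK_0 : ∀ r, r < 16 → invKOK 0 (8736 * r) 8736 = true
  | 0, _ => chk_invK_0_0
  | 1, _ => chk_invK_0_1
  | 2, _ => chk_invK_0_2
  | 3, _ => chk_invK_0_3
  | 4, _ => chk_invK_0_4
  | 5, _ => chk_invK_0_5
  | 6, _ => chk_invK_0_6
  | 7, _ => chk_invK_0_7
  | 8, _ => chk_invK_0_8
  | 9, _ => chk_invK_0_9
  | 10, _ => chk_invK_0_10
  | 11, _ => chk_invK_0_11
  | 12, _ => chk_invK_0_12
  | 13, _ => chk_invK_0_13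
  | 14, _ => chk_invK_0_14
  | 15, _ => chk_invK_0_15
  | r + 16, h => absurd h (by omega)

theorem chk_invK_1 : ∀ r, r < 16 → invKOK 1 (8736 * r) 8736 = true
  | 0, _ => chk_invK_1_0
  | 1, _ => chk_invK_1_1
  | 2, _ => chk_invK_1_2
  | 3, _ => chk_invK_1_3
  | 4, _ => chk_invK_1_4
  | 5, _ => chk_invK_1_5
  | 6, _ => chk_invK_1_6
  | 7, _ => chk_invK_1_7
  | 8, _ => chk_invK_1_8
  | 9, _ => chk_invK_1_9
  | 10, _ => chk_invK_1_10
  | 11, _ => chk_invK_1_11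
  | 12, _ => chk_invK_1_12
  | 13, _ => chk_invK_1_13
  | 14, _ => chk_invK_1_14
  | 15, _ => chk_invK_1_15
  | r + 16, h => absurd h (by omega)

theorem chk_invK_2 : ∀ r, r < 16 → invKOK 2 (8736 * r) 8736 = true
  | 0, _ => chk_invK_2_0
  | 1, _ => chk_invK_2_1
  | 2, _ => chk_invK_2_2
  | 3, _ => chk_invK_2_3
  | 4, _ => chk_invK_2_4
  | 5, _ => chk_invK_2_5
  | 6, _ => chk_invK_2_6
  | 7, _ => chk_invK_2_7
  | 8, _ => chk_invK_2_8
  | 9, _ => chk_invK_2_9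
  | 10, _ => chk_invK_2_10
  | 11, _ => chk_invK_2_11
  | 12, _ => chk_invK_2_12
  | 13, _ => chk_invK_2_13
  | 14, _ => chk_invK_2_14
  | 15, _ => chk_invK_2_15
  | r + 16, h => absurd h (by omega)

theorem chk_invK_3 : ∀ r, r < 16 → invKOK 3 (8736 * r) 8736 = true
  | 0, _ => chk_invK_3_0
  | 1, _ => chk_invK_3_1
  | 2, _ => chk_invK_3_2
  | 3, _ => chk_invK_3_3
  | 4, _ => chk_invK_3_4
  | 5, _ => chk_invK_3_5
  | 6, _ => chk_invK_3_6
  | 7, _ => chk_invK_3_7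
  | 8, _ => chk_invK_3_8
  | 9, _ => chk_invK_3_9
  | 10, _ => chk_invK_3_10
  | 11, _ => chk_invK_3_11
  | 12, _ => chk_invK_3_12
  | 13, _ => chk_invK_3_13
  | 14, _ => chk_invK_3_14
  | 15, _ => chk_invK_3_15
  | r + 16, h => absurd h (by omega)

theorem chk_invK_4 : ∀ r, r < 16 → invKOK 4 (8736 * r) 8736 = true
  | 0, _ => chk_invK_4_0
  | 1, _ => chk_invK_4_1
  | 2, _ => chk_invK_4_2
  | 3, _ => chk_invK_4_3
  | 4, _ => chk_invK_4_4
  | 5, _ => chk_invK_4_5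
  | 6, _ => chk_invK_4_6
  | 7, _ => chk_invK_4_7
  | 8, _ => chk_invK_4_8
  | 9, _ => chk_invK_4_9
  | 10, _ => chk_invK_4_10
  | 11, _ => chk_invK_4_11
  | 12, _ => chk_invK_4_12
  | 13, _ => chk_invK_4_13
  | 14, _ => chk_invK_4_14
  | 15, _ => chk_invK_4_15
  | r + 16, h => absurd h (by omega)

theorem chk_invK_5 : ∀ r, r < 16 → invKOK 5 (8736 * r) 8736 = true
  | 0, _ => chk_invK_5_0
  | 1, _ => chk_invK_5_1
  | 2, _ => chk_invK_5_2
  | 3, _ => chk_invK_5_3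
  | 4, _ => chk_invK_5_4
  | 5, _ => chk_invK_5_5
  | 6, _ => chk_invK_5_6
  | 7, _ => chk_invK_5_7
  | 8, _ => chk_invK_5_8
  | 9, _ => chk_invK_5_9
  | 10, _ => chk_invK_5_10
  | 11, _ => chk_invK_5_11
  | 12, _ => chk_invK_5_12
  | 13, _ => chk_invK_5_13
  | 14, _ => chk_invK_5_14
  | 15, _ => chk_invK_5_15
  | r + 16, h => absurd h (by omega)

theorem chk_invK_6 : ∀ r, r < 16 → invKOK 6 (8736 * r) 8736 = true
  | 0, _ => chk_invK_6_0
  | 1, _ => chk_invK_6_1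
  | 2, _ => chk_invK_6_2
  | 3, _ => chk_invK_6_3
  | 4, _ => chk_invK_6_4
  | 5, _ => chk_invK_6_5
  | 6, _ => chk_invK_6_6
  | 7, _ => chk_invK_6_7
  | 8, _ => chk_invK_6_8
  | 9, _ => chk_invK_6_9
  | 10, _ => chk_invK_6_10
  | 11, _ => chk_invK_6_11
  | 12, _ => chk_invK_6_12
  | 13, _ => chk_invK_6_13
  | 14, _ => chk_invK_6_14
  | 15, _ => chk_invK_6_15
  | r + 16, h => absurd h (by omega)

theorem chk_invK_7 : ∀ r, r < 16 → invKOK 7 (8736 * r) 8736 = true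
  | 0, _ => chk_invK_7_0
  | 1, _ => chk_invK_7_1
  | 2, _ => chk_invK_7_2
  | 3, _ => chk_invK_7_3
  | 4, _ => chk_invK_7_4
  | 5, _ => chk_invK_7_5
  | 6, _ => chk_invK_7_6
  | 7, _ => chk_invK_7_7
  | 8, _ => chk_invK_7_8
  | 9, _ => chk_invK_7_9
  | 10, _ => chk_invK_7_10
  | 11, _ => chk_invK_7_11
  | 12, _ => chk_invK_7_12
  | 13, _ => chk_invK_7_13
  | 14, _ => chk_invK_7_14
  | 15, _ => chk_invK_7_15
  | r + 16, h => absurd h (by omega)

theorem chk_invK : ∀ x, x < 8 → ∀ r, r < 16 → invKOK x (8736 * r) 8736 = true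
  | 0, _ => chk_invK_0
  | 1, _ => chk_invK_1
  | 2, _ => chk_invK_2
  | 3, _ => chk_invK_3
  | 4, _ => chk_invK_4
  | 5, _ => chk_invK_5
  | 6, _ => chk_invK_6
  | 7, _ => chk_invK_7
  | x + 8, h => absurd h (by omega)

theorem ivK_ge {x : ℕ} (hx : 8 ≤ x) : 8 ≤ ivK x := by
  by_contra h
  have h1 := ivK_lt (ivK x) (by omega)
  rw [ivK_ivK] at h1
  omega

theorem hhK (x p : ℕ) (hp : p < 139776) : lkK x p < 139776 ∧ lkK (ivK x) (lkK x p) = p := by
  rcases Nat.lt_or_ge x 8 with hx | hx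
  · have h1 := chk_invK x hx (p / 8736) (by omega)
    rw [invKOK, allN_iff] at h1
    have h2 := h1 (p % 8736) (Nat.mod_lt _ (by norm_num))
    have e1 : Nat.add (8736 * (p / 8736)) (p % 8736) = p := Nat.div_add_mod p 8736
    rw [e1, Bool.and_eq_true] at h2
    exact ⟨by simpa [Nat.blt] using h2.1, Nat.eq_of_beq_eq_true h2.2⟩
  · rw [lkK_ge (ivK_ge hx), lkK_ge hx]
    exact ⟨hp, rfl⟩

theorem hhK' (x p : ℕ) (hp : p < 139776) : lkK (ivK x) p < 139776 ∧ lkK x (lkK (ivK x) p) = p := by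
  have h := hhK (ivK x) p hp
  rwa [ivK_ivK] at h

/-- the letters as permutations of the 139776 points -/
noncomputable def pmK (x : ℕ) : Equiv.Perm (Fin 139776) := permOf 139776 (lkK x) (lkK (ivK x)) (hhK x) (hhK' x)

theorem pmK_val (x : ℕ) (p : Fin 139776) : (pmK x p).val = lkK x p.val := rfl

theorem pmK_iv (x : ℕ) : pmK (ivK x) = (pmK x)⁻¹ := by
  apply Equiv.ext
  intro p
  apply Fin.ext
  rw [pmK, pmK, permOf_inv]
  rfl

theorem pmK_ge {x : ℕ} (hx : 8 ≤ x) : pmK x = 1 := by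
  apply Equiv.ext
  intro p
  apply Fin.ext
  rw [pmK_val, lkK_ge hx]
  rfl

/-- the image of one of the 139776 points under a word -/
noncomputable def evK (w : List ℕ) (p : ℕ) : ℕ := List.rec p (fun x _ ih => lkK x ih) w

theorem evK_nil (p : ℕ) : evK [] p = p := rfl

theorem evK_cons (x : ℕ) (w : List ℕ) (p : ℕ) : evK (x :: w) p = lkK x (evK w p) := rfl

theorem wd_pmK_val : ∀ (w : List ℕ) (p : Fin 139776), ((VCert.wd pmK w) p).val = evK w p.val
  | [], _ => rfl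
  | x :: w, p => by
    rw [VCert.wd_cons, Equiv.Perm.mul_apply, pmK_val, wd_pmK_val w p]
    rfl

theorem wd_pmK_eq {w w' : List ℕ} (h : ∀ p, p < 139776 → evK w p = evK w' p) :
    VCert.wd pmK w = VCert.wd pmK w' := by
  apply Equiv.ext
  intro p
  apply Fin.ext
  rw [wd_pmK_val, wd_pmK_val]
  exact h p.val p.2

theorem evK_append : ∀ (w w' : List ℕ) (p : ℕ), evK (w ++ w') p = evK w (evK w' p)
  | [], _, _ => rfl
  | x :: w, w', p => by
    show evK (x :: (w ++ w')) p = evK (x :: w) (evK w' p)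
    rw [evK_cons, evK_cons, evK_append w w' p]

theorem evK_lt : ∀ (w : List ℕ) (p : ℕ), p < 139776 → evK w p < 139776
  | [], _, hp => hp
  | x :: w, p, hp => by
    rw [evK_cons]
    exact (hhK x _ (evK_lt w p hp)).1

/-- the pairs -/
noncomputable def kX (x : ℕ) : Equiv.Perm (Fin 139776) × G := (pmK x, lK x)

theorem kX_ge {x : ℕ} (hx : 8 ≤ x) : kX x = 1 := by
  rw [kX, pmK_ge hx, lK_of_ge hx]
  rfl

theorem wd_kX : ∀ w : List ℕ, VCert.wd kX w = (VCert.wd pmK w, VCert.wd lK w)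
  | [] => rfl
  | x :: w => by
    rw [VCert.wd_cons, VCert.wd_cons, VCert.wd_cons, wd_kX w]
    rfl

theorem kX_iv {x : ℕ} (hx : x < 8) : kX (ivK x) = (kX x)⁻¹ := by
  rw [kX, kX, pmK_iv, lK_ivK hx]
  rfl

/-! ### the extension -/

/-- the extension: the group generated by the pairs of both kinds -/
noncomputable def GE : Subgroup (Equiv.Perm (Fin 139776) × G) :=
  Subgroup.closure (gX '' Set.Iio 12 ∪ kX '' Set.Iio 8)

theorem gX_mem (x : ℕ) : gX x ∈ GE := by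
  rcases Nat.lt_or_ge x 12 with h | h
  · exact Subgroup.subset_closure (Or.inl ⟨x, h, rfl⟩)
  · rw [gX_ge h]; exact one_mem _

theorem kX_mem (y : ℕ) : kX y ∈ GE := by
  rcases Nat.lt_or_ge y 8 with h | h
  · exact Subgroup.subset_closure (Or.inr ⟨y, h, rfl⟩)
  · rw [kX_ge h]; exact one_mem _

/-- the twelve letters of the extension -/
noncomputable def gE (x : ℕ) : ↥GE := ⟨gX x, gX_mem x⟩

/-- the eight letters of the extension -/
noncomputable def kE (y : ℕ) : ↥GE := ⟨kX y, kX_mem y⟩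

theorem gE_val (x : ℕ) : ((gE x : ↥GE) : Equiv.Perm (Fin 139776) × G) = gX x := rfl

theorem kE_val (y : ℕ) : ((kE y : ↥GE) : Equiv.Perm (Fin 139776) × G) = kX y := rfl

theorem kE_of_ge {y : ℕ} (hy : 8 ≤ y) : kE y = 1 := by
  apply Subtype.ext
  rw [kE_val, kX_ge hy]
  rfl

theorem wd_gE_val : ∀ w : List ℕ, (VCert.wd gE w : ↥GE).1 = VCert.wd gX w
  | [] => rfl
  | x :: w => by
    rw [VCert.wd_cons, Subgroup.coe_mul, wd_gE_val w, VCert.wd_cons]
    rfl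

theorem wd_kE_val : ∀ w : List ℕ, (VCert.wd kE w : ↥GE).1 = VCert.wd kX w
  | [] => rfl
  | x :: w => by
    rw [VCert.wd_cons, Subgroup.coe_mul, wd_kE_val w, VCert.wd_cons]
    rfl

/-- two words in the twelve letters with the same values on all the points give the same element -/
theorem wd_gE_eq {w w' : List ℕ} (h5 : ∀ p, p < 139776 → ev5 w p = ev5 w' p)
    (hK : VCert.wd lT w = VCert.wd lT w') :
    VCert.wd gE w = VCert.wd gE w' := by
  apply Subtype.ext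
  rw [wd_gE_val, wd_gE_val, wd_gX, wd_gX, wd_pm5_eq h5, hK]

/-- two words in the eight letters with the same values on all the points give the same element -/
theorem wd_kE_eq {w w' : List ℕ} (h5 : ∀ p, p < 139776 → evK w p = evK w' p)
    (hK : VCert.wd lK w = VCert.wd lK w') :
    VCert.wd kE w = VCert.wd kE w' := by
  apply Subtype.ext
  rw [wd_kE_val, wd_kE_val, wd_kX, wd_kX, wd_pmK_eq h5, hK]

/-- one of the twelve letters that acts as a word in the eight letters -/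
theorem gE_eq_wd_kE {x : ℕ} {w : List ℕ} (h5 : ∀ p, p < 139776 → lk5 x p = evK w p)
    (hK : lT x = VCert.wd lK w) : gE x = VCert.wd kE w := by
  apply Subtype.ext
  rw [wd_kE_val, wd_kX, gE_val, gX, Prod.mk.injEq]
  refine ⟨?_, hK⟩
  apply Equiv.ext
  intro p
  apply Fin.ext
  rw [pm5_val, wd_pmK_val]
  exact h5 p.val p.2

theorem gE_iv (x : ℕ) (hx : x < 12) : gE (ivT x) = (gE x)⁻¹ := by
  apply Subtype.ext
  rw [Subgroup.coe_inv, ← iv5_eq hx]
  exact gX_iv hx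

theorem kE_iv (y : ℕ) (hy : y < 8) : kE (Nat.xor y 1) = (kE y)⁻¹ := by
  apply Subtype.ext
  rw [Subgroup.coe_inv]
  exact kX_iv hy

theorem closure_gkE : Subgroup.closure (gE '' Set.Iio 12 ∪ kE '' Set.Iio 8) = ⊤ := by
  have h := Subgroup.closure_closure_coe_preimage (k := gX '' Set.Iio 12 ∪ kX '' Set.Iio 8)
  have e : ((↑) ⁻¹' (gX '' Set.Iio 12 ∪ kX '' Set.Iio 8) :
      Set ↥(Subgroup.closure (gX '' Set.Iio 12 ∪ kX '' Set.Iio 8))) = gE '' Set.Iio 12 ∪ kE '' Set.Iio 8 := by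
    ext z
    constructor
    · rintro (⟨x, hx, hz⟩ | ⟨y, hy, hz⟩)
      · exact Or.inl ⟨x, hx, Subtype.ext hz⟩
      · exact Or.inr ⟨y, hy, Subtype.ext hz⟩
    · rintro (⟨x, hx, rfl⟩ | ⟨y, hy, rfl⟩)
      · exact Or.inl ⟨x, hx, rfl⟩
      · exact Or.inr ⟨y, hy, rfl⟩
  rw [e] at h
  exact h

/-- the projection onto the group -/
noncomputable def sigE : ↥GE →* G := (MonoidHom.snd _ _).comp GE.subtype

theorem sigE_gE (x : ℕ) : sigE (gE x) = lT x := rfl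

theorem sigE_kE (y : ℕ) : sigE (kE y) = lK y := rfl

theorem sigE_wd : ∀ w : List ℕ, sigE (VCert.wd gE w) = VCert.wd lT w
  | [] => map_one sigE
  | x :: w => by rw [VCert.wd_cons, VCert.wd_cons, map_mul, sigE_gE, sigE_wd w]

theorem sigE_wdK : ∀ w : List ℕ, sigE (VCert.wd kE w) = VCert.wd lK w
  | [] => map_one sigE
  | x :: w => by rw [VCert.wd_cons, VCert.wd_cons, map_mul, sigE_kE, sigE_wdK w]

theorem sigE_surj : Function.Surjective sigE := by
  rw [← MonoidHom.range_eq_top, eq_top_iff, ← closure_lT, Subgroup.closure_le]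
  rintro _ ⟨x, _, rfl⟩
  exact ⟨gE x, sigE_gE x⟩

theorem ev5_of_wd_gE_eq {w w' : List ℕ} (h : VCert.wd gE w = VCert.wd gE w') {p : ℕ} (hp : p < 139776) :
    ev5 w p = ev5 w' p := by
  have h1 : (VCert.wd gE w : ↥GE).1 = (VCert.wd gE w' : ↥GE).1 := congrArg Subtype.val h
  rw [wd_gE_val, wd_gE_val, wd_gX, wd_gX] at h1
  have h2 : VCert.wd pm5 w = VCert.wd pm5 w' := congrArg Prod.fst h1
  have h3 := wd_pm5_val w ⟨p, hp⟩
  rw [h2, wd_pm5_val] at h3
  exact h3.symm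

/-! ### the checks -/

/-- the shift of a point by the element of the kernel: the two copies of a coset are exchanged -/
def sh (e p : ℕ) : ℕ := Nat.xor p e

/-- a map that shifts the points -/
theorem shF_spec {f : ℕ → ℕ} {e : ℕ} {cs nck : ℕ} (hN : cs * nck = 139776)
    (h : ∀ r, r < nck → shF f e (cs * r) cs = true) {p : ℕ} (hp : p < 139776) : f p = sh e p := by
  have hcs : 0 < cs := by
    rcases Nat.eq_zero_or_pos cs with h0 | h0
    · rw [h0, Nat.zero_mul] at hN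
      omega
    · exact h0
  have h1 := h (p / cs) ((Nat.div_lt_iff_lt_mul hcs).2 (by rw [Nat.mul_comm, hN]; exact hp))
  rw [shF, allN_iff] at h1
  have := Nat.eq_of_beq_eq_true (h1 (p % cs) (Nat.mod_lt _ hcs))
  have e1 : Nat.add (cs * (p / cs)) (p % cs) = p := Nat.div_add_mod p cs
  rwa [e1] at this

/-- a map that fixes the points -/
theorem fxF_spec {f : ℕ → ℕ} {cs nck : ℕ} (hN : cs * nck = 139776)
    (h : ∀ r, r < nck → fxF f (cs * r) cs = true) {p : ℕ} (hp : p < 139776) : f p = p := by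
  have hcs : 0 < cs := by
    rcases Nat.eq_zero_or_pos cs with h0 | h0
    · rw [h0, Nat.zero_mul] at hN
      omega
    · exact h0
  have h1 := h (p / cs) ((Nat.div_lt_iff_lt_mul hcs).2 (by rw [Nat.mul_comm, hN]; exact hp))
  rw [fxF, allN_iff] at h1
  have := Nat.eq_of_beq_eq_true (h1 (p % cs) (Nat.mod_lt _ hcs))
  have e1 : Nat.add (cs * (p / cs)) (p % cs) = p := Nat.div_add_mod p cs
  rwa [e1] at this

/-- a map that commutes with the shift -/
theorem cenF_spec {f : ℕ → ℕ} {cs nck : ℕ} (hN : cs * nck = 139776)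
    (h : ∀ r, r < nck → cenF f (cs * r) cs = true) {p : ℕ} (hp : p < 139776) : f (sh 1 p) = sh 1 (f p) := by
  have hcs : 0 < cs := by
    rcases Nat.eq_zero_or_pos cs with h0 | h0
    · rw [h0, Nat.zero_mul] at hN
      omega
    · exact h0
  have h1 := h (p / cs) ((Nat.div_lt_iff_lt_mul hcs).2 (by rw [Nat.mul_comm, hN]; exact hp))
  rw [cenF, allN_iff] at h1
  have := Nat.eq_of_beq_eq_true (h1 (p % cs) (Nat.mod_lt _ hcs))
  have e1 : Nat.add (cs * (p / cs)) (p % cs) = p := Nat.div_add_mod p cs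
  rwa [e1] at this

/-- two maps that agree on the points -/
theorem eqF_spec {f g : ℕ → ℕ} {cs nck : ℕ} (hN : cs * nck = 139776)
    (h : ∀ r, r < nck → eqF f g (cs * r) cs = true) {p : ℕ} (hp : p < 139776) : f p = g p := by
  have hcs : 0 < cs := by
    rcases Nat.eq_zero_or_pos cs with h0 | h0
    · rw [h0, Nat.zero_mul] at hN
      omega
    · exact h0
  have h1 := h (p / cs) ((Nat.div_lt_iff_lt_mul hcs).2 (by rw [Nat.mul_comm, hN]; exact hp))
  rw [eqF, allN_iff] at h1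
  have := Nat.eq_of_beq_eq_true (h1 (p % cs) (Nat.mod_lt _ hcs))
  have e1 : Nat.add (cs * (p / cs)) (p % cs) = p := Nat.div_add_mod p cs
  rwa [e1] at this

end Cfsg.Agent.Lib.Helper7.F42M
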