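import Cfsg.Agent.Lib.Helper7.F42MEWD

/-! # The multiplier of the Chevalley group of type F4 over the field of two elements: checks of words on the 139776 points, file 1 (generated) -/

set_option autoImplicit false
set_option maxRecDepth 100000

namespace Cfsg.Agent.Lib.Helper7.F42M

theorem c_axT2_15 : fxF cf_axT2 (8736 * 15) 8736 = true := by decide +kernel

theorem c_y17_0 : fxF cf_y17 (2184 * 0) 2184 = true := by decide +kernel

theorem c_y17_1 : fxF cf_y17 (2184 * 1) 2184 = true := by decide +kernel

theorem c_y17_2 : fxF cf_y17 (2184 * 2) 2184 = true := by decide +kernel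

theorem c_y17_3 : fxF cf_y17 (2184 * 3) 2184 = true := by decide +kernel

theorem c_y17_4 : fxF cf_y17 (2184 * 4) 2184 = true := by decide +kernel

theorem c_y17_5 : fxF cf_y17 (2184 * 5) 2184 = true := by decide +kernel

theorem c_y17_6 : fxF cf_y17 (2184 * 6) 2184 = true := by decide +kernel

theorem c_y17_7 : fxF cf_y17 (2184 * 7) 2184 = true := by decide +kernel

theorem c_y17_8 : fxF cf_y17 (2184 * 8) 2184 = true := by decide +kernel

theorem c_y17_9 : fxF cf_y17 (2184 * 9) 2184 = true := by decide +kernel

theorem c_y17_10 : fxF cf_y17 (2184 * 10) 2184 = true := by decide +kernel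

theorem c_y17_11 : fxF cf_y17 (2184 * 11) 2184 = true := by decide +kernel

end Cfsg.Agent.Lib.Helper7.F42M
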