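import Cfsg.Agent.Lib.Helper7.F42MEWD

/-! # The multiplier of the Chevalley group of type F4 over the field of two elements: checks of words on the 139776 points, file 12 (generated) -/

set_option autoImplicit false
set_option maxRecDepth 100000

namespace Cfsg.Agent.Lib.Helper7.F42M

theorem c_ax3_5_8 : fxF cf_ax3_5 (8736 * 8) 8736 = true := by decide +kernel

theorem c_ax3_5_9 : fxF cf_ax3_5 (8736 * 9) 8736 = true := by decide +kernel

theorem c_ax3_5_10 : fxF cf_ax3_5 (8736 * 10) 8736 = true := by decide +kernel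

theorem c_ax3_5_11 : fxF cf_ax3_5 (8736 * 11) 8736 = true := by decide +kernel

theorem c_ax3_5_12 : fxF cf_ax3_5 (8736 * 12) 8736 = true := by decide +kernel

theorem c_ax3_5_13 : fxF cf_ax3_5 (8736 * 13) 8736 = true := by decide +kernel

theorem c_ax3_5_14 : fxF cf_ax3_5 (8736 * 14) 8736 = true := by decide +kernel

theorem c_ax3_5_15 : fxF cf_ax3_5 (8736 * 15) 8736 = true := by decide +kernel

theorem c_ax3_6_0 : fxF cf_ax3_6 (8736 * 0) 8736 = true := by decide +kernel

theorem c_ax3_6_1 : fxF cf_ax3_6 (8736 * 1) 8736 = true := by decide +kernel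

theorem c_ax3_6_2 : fxF cf_ax3_6 (8736 * 2) 8736 = true := by decide +kernel

theorem c_ax3_6_3 : fxF cf_ax3_6 (8736 * 3) 8736 = true := by decide +kernel

theorem c_ax3_6_4 : fxF cf_ax3_6 (8736 * 4) 8736 = true := by decide +kernel

theorem c_ax3_6_5 : fxF cf_ax3_6 (8736 * 5) 8736 = true := by decide +kernel

theorem c_ax3_6_6 : fxF cf_ax3_6 (8736 * 6) 8736 = true := by decide +kernel

theorem c_ax3_6_7 : fxF cf_ax3_6 (8736 * 7) 8736 = true := by decide +kernel

theorem c_ax3_6_8 : fxF cf_ax3_6 (8736 * 8) 8736 = true := by decide +kernel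

theorem c_ax3_6_9 : fxF cf_ax3_6 (8736 * 9) 8736 = true := by decide +kernel

theorem c_ax3_6_10 : fxF cf_ax3_6 (8736 * 10) 8736 = true := by decide +kernel

theorem c_ax3_6_11 : fxF cf_ax3_6 (8736 * 11) 8736 = true := by decide +kernel

theorem c_ax3_6_12 : fxF cf_ax3_6 (8736 * 12) 8736 = true := by decide +kernel

theorem c_ax3_6_13 : fxF cf_ax3_6 (8736 * 13) 8736 = true := by decide +kernel

theorem c_ax3_6_14 : fxF cf_ax3_6 (8736 * 14) 8736 = true := by decide +kernel

theorem c_ax3_6_15 : fxF cf_ax3_6 (8736 * 15) 8736 = true := by decide +kernel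

theorem c_ax3_7_0 : fxF cf_ax3_7 (8736 * 0) 8736 = true := by decide +kernel

theorem c_ax3_7_1 : fxF cf_ax3_7 (8736 * 1) 8736 = true := by decide +kernel

theorem c_ax3_7_2 : fxF cf_ax3_7 (8736 * 2) 8736 = true := by decide +kernel

theorem c_ax3_7_3 : fxF cf_ax3_7 (8736 * 3) 8736 = true := by decide +kernel

theorem c_ax3_7_4 : fxF cf_ax3_7 (8736 * 4) 8736 = true := by decide +kernel

end Cfsg.Agent.Lib.Helper7.F42M
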