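import Cfsg.Agent.Lib.Helper7.F42MEWD

/-! # The multiplier of the Chevalley group of type F4 over the field of two elements: checks of words on the 139776 points, file 2 (generated) -/

set_option autoImplicit false
set_option maxRecDepth 100000

namespace Cfsg.Agent.Lib.Helper7.F42M

theorem c_y17_12 : fxF cf_y17 (2184 * 12) 2184 = true := by decide +kernel

theorem c_y17_13 : fxF cf_y17 (2184 * 13) 2184 = true := by decide +kernel

theorem c_y17_14 : fxF cf_y17 (2184 * 14) 2184 = true := by decide +kernel

theorem c_y17_15 : fxF cf_y17 (2184 * 15) 2184 = true := by decide +kernel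

theorem c_y17_16 : fxF cf_y17 (2184 * 16) 2184 = true := by decide +kernel

theorem c_y17_17 : fxF cf_y17 (2184 * 17) 2184 = true := by decide +kernel

theorem c_y17_18 : fxF cf_y17 (2184 * 18) 2184 = true := by decide +kernel

theorem c_y17_19 : fxF cf_y17 (2184 * 19) 2184 = true := by decide +kernel

theorem c_y17_20 : fxF cf_y17 (2184 * 20) 2184 = true := by decide +kernel

theorem c_y17_21 : fxF cf_y17 (2184 * 21) 2184 = true := by decide +kernel

theorem c_y17_22 : fxF cf_y17 (2184 * 22) 2184 = true := by decide +kernel

theorem c_y17_23 : fxF cf_y17 (2184 * 23) 2184 = true := by decide +kernel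

theorem c_y17_24 : fxF cf_y17 (2184 * 24) 2184 = true := by decide +kernel

end Cfsg.Agent.Lib.Helper7.F42M
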