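import Cfsg.Agent.Lib.Helper7.F42MEWD

/-! # The multiplier of the Chevalley group of type F4 over the field of two elements: checks of words on the 139776 points, file 24 (generated) -/

set_option autoImplicit false
set_option maxRecDepth 100000

namespace Cfsg.Agent.Lib.Helper7.F42M

theorem c_ax2_8_2 : fxF cf_ax2_8 (8736 * 2) 8736 = true := by decide +kernel

theorem c_ax2_8_3 : fxF cf_ax2_8 (8736 * 3) 8736 = true := by decide +kernel

theorem c_ax2_8_4 : fxF cf_ax2_8 (8736 * 4) 8736 = true := by decide +kernel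

theorem c_ax2_8_5 : fxF cf_ax2_8 (8736 * 5) 8736 = true := by decide +kernel

theorem c_ax2_8_6 : fxF cf_ax2_8 (8736 * 6) 8736 = true := by decide +kernel

theorem c_ax2_8_7 : fxF cf_ax2_8 (8736 * 7) 8736 = true := by decide +kernel

theorem c_ax2_8_8 : fxF cf_ax2_8 (8736 * 8) 8736 = true := by decide +kernel

theorem c_ax2_8_9 : fxF cf_ax2_8 (8736 * 9) 8736 = true := by decide +kernel

theorem c_ax2_8_10 : fxF cf_ax2_8 (8736 * 10) 8736 = true := by decide +kernel

theorem c_ax2_8_11 : fxF cf_ax2_8 (8736 * 11) 8736 = true := by decide +kernel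

theorem c_ax2_8_12 : fxF cf_ax2_8 (8736 * 12) 8736 = true := by decide +kernel

theorem c_ax2_8_13 : fxF cf_ax2_8 (8736 * 13) 8736 = true := by decide +kernel

theorem c_ax2_8_14 : fxF cf_ax2_8 (8736 * 14) 8736 = true := by decide +kernel

theorem c_ax2_8_15 : fxF cf_ax2_8 (8736 * 15) 8736 = true := by decide +kernel

theorem c_ax2_9_0 : fxF cf_ax2_9 (8736 * 0) 8736 = true := by decide +kernel

theorem c_ax2_9_1 : fxF cf_ax2_9 (8736 * 1) 8736 = true := by decide +kernel

theorem c_ax2_9_2 : fxF cf_ax2_9 (8736 * 2) 8736 = true := by decide +kernel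

theorem c_ax2_9_3 : fxF cf_ax2_9 (8736 * 3) 8736 = true := by decide +kernel

end Cfsg.Agent.Lib.Helper7.F42M
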