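import Cfsg.Agent.Lib.Helper7.F42MEWD

/-! # The multiplier of the Chevalley group of type F4 over the field of two elements: checks of words on the 139776 points, file 3 (generated) -/

set_option autoImplicit false
set_option maxRecDepth 100000

namespace Cfsg.Agent.Lib.Helper7.F42M

theorem c_y17_25 : fxF cf_y17 (2184 * 25) 2184 = true := by decide +kernel

theorem c_y17_26 : fxF cf_y17 (2184 * 26) 2184 = true := by decide +kernel

theorem c_y17_27 : fxF cf_y17 (2184 * 27) 2184 = true := by decide +kernel

theorem c_y17_28 : fxF cf_y17 (2184 * 28) 2184 = true := by decide +kernel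

theorem c_y17_29 : fxF cf_y17 (2184 * 29) 2184 = true := by decide +kernel

theorem c_y17_30 : fxF cf_y17 (2184 * 30) 2184 = true := by decide +kernel

theorem c_y17_31 : fxF cf_y17 (2184 * 31) 2184 = true := by decide +kernel

theorem c_y17_32 : fxF cf_y17 (2184 * 32) 2184 = true := by decide +kernel

theorem c_y17_33 : fxF cf_y17 (2184 * 33) 2184 = true := by decide +kernel

theorem c_y17_34 : fxF cf_y17 (2184 * 34) 2184 = true := by decide +kernel

theorem c_y17_35 : fxF cf_y17 (2184 * 35) 2184 = true := by decide +kernel

theorem c_y17_36 : fxF cf_y17 (2184 * 36) 2184 = true := by decide +kernel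

theorem c_y17_37 : fxF cf_y17 (2184 * 37) 2184 = true := by decide +kernel

end Cfsg.Agent.Lib.Helper7.F42M
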