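import Cfsg.Agent.Lib.Helper7.F42MEWD

/-! # The multiplier of the Chevalley group of type F4 over the field of two elements: checks of words on the 139776 points, file 35 (generated) -/

set_option autoImplicit false
set_option maxRecDepth 100000

namespace Cfsg.Agent.Lib.Helper7.F42M

theorem c_B3_8 : eqF f5_3 cf_B3 (8736 * 8) 8736 = true := by decide +kernel

theorem c_B3_9 : eqF f5_3 cf_B3 (8736 * 9) 8736 = true := by decide +kernel

theorem c_B3_10 : eqF f5_3 cf_B3 (8736 * 10) 8736 = true := by decide +kernel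

theorem c_B3_11 : eqF f5_3 cf_B3 (8736 * 11) 8736 = true := by decide +kernel

theorem c_B3_12 : eqF f5_3 cf_B3 (8736 * 12) 8736 = true := by decide +kernel

theorem c_B3_13 : eqF f5_3 cf_B3 (8736 * 13) 8736 = true := by decide +kernel

theorem c_B3_14 : eqF f5_3 cf_B3 (8736 * 14) 8736 = true := by decide +kernel

theorem c_B3_15 : eqF f5_3 cf_B3 (8736 * 15) 8736 = true := by decide +kernel

theorem c_B4_0 : eqF f5_4 cf_B4 (8736 * 0) 8736 = true := by decide +kernel

theorem c_B4_1 : eqF f5_4 cf_B4 (8736 * 1) 8736 = true := by decide +kernel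

theorem c_B4_2 : eqF f5_4 cf_B4 (8736 * 2) 8736 = true := by decide +kernel

theorem c_B4_3 : eqF f5_4 cf_B4 (8736 * 3) 8736 = true := by decide +kernel

theorem c_B4_4 : eqF f5_4 cf_B4 (8736 * 4) 8736 = true := by decide +kernel

theorem c_B4_5 : eqF f5_4 cf_B4 (8736 * 5) 8736 = true := by decide +kernel

theorem c_B4_6 : eqF f5_4 cf_B4 (8736 * 6) 8736 = true := by decide +kernel

theorem c_B4_7 : eqF f5_4 cf_B4 (8736 * 7) 8736 = true := by decide +kernel

theorem c_B4_8 : eqF f5_4 cf_B4 (8736 * 8) 8736 = true := by decide +kernel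

theorem c_B4_9 : eqF f5_4 cf_B4 (8736 * 9) 8736 = true := by decide +kernel

theorem c_B4_10 : eqF f5_4 cf_B4 (8736 * 10) 8736 = true := by decide +kernel

theorem c_B4_11 : eqF f5_4 cf_B4 (8736 * 11) 8736 = true := by decide +kernel

theorem c_B4_12 : eqF f5_4 cf_B4 (8736 * 12) 8736 = true := by decide +kernel

theorem c_B4_13 : eqF f5_4 cf_B4 (8736 * 13) 8736 = true := by decide +kernel

theorem c_B4_14 : eqF f5_4 cf_B4 (8736 * 14) 8736 = true := by decide +kernel

theorem c_B4_15 : eqF f5_4 cf_B4 (8736 * 15) 8736 = true := by decide +kernel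

theorem c_B5_0 : eqF f5_5 cf_B5 (8736 * 0) 8736 = true := by decide +kernel

end Cfsg.Agent.Lib.Helper7.F42M
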