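import Cfsg.Agent.Lib.Helper7.F42MEWD

/-! # The multiplier of the Chevalley group of type F4 over the field of two elements: checks of words on the 139776 points, file 4 (generated) -/

set_option autoImplicit false
set_option maxRecDepth 100000

namespace Cfsg.Agent.Lib.Helper7.F42M

theorem c_y17_38 : fxF cf_y17 (2184 * 38) 2184 = true := by decide +kernel

theorem c_y17_39 : fxF cf_y17 (2184 * 39) 2184 = true := by decide +kernel

theorem c_y17_40 : fxF cf_y17 (2184 * 40) 2184 = true := by decide +kernel

theorem c_y17_41 : fxF cf_y17 (2184 * 41) 2184 = true := by decide +kernel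

theorem c_y17_42 : fxF cf_y17 (2184 * 42) 2184 = true := by decide +kernel

theorem c_y17_43 : fxF cf_y17 (2184 * 43) 2184 = true := by decide +kernel

theorem c_y17_44 : fxF cf_y17 (2184 * 44) 2184 = true := by decide +kernel

theorem c_y17_45 : fxF cf_y17 (2184 * 45) 2184 = true := by decide +kernel

theorem c_y17_46 : fxF cf_y17 (2184 * 46) 2184 = true := by decide +kernel

theorem c_y17_47 : fxF cf_y17 (2184 * 47) 2184 = true := by decide +kernel

theorem c_y17_48 : fxF cf_y17 (2184 * 48) 2184 = true := by decide +kernel

theorem c_y17_49 : fxF cf_y17 (2184 * 49) 2184 = true := by decide +kernel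

theorem c_y17_50 : fxF cf_y17 (2184 * 50) 2184 = true := by decide +kernel

end Cfsg.Agent.Lib.Helper7.F42M
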