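import Cfsg.Agent.Lib.Helper7.F42MEWD

/-! # The multiplier of the Chevalley group of type F4 over the field of two elements: checks of words on the 139776 points, file 5 (generated) -/

set_option autoImplicit false
set_option maxRecDepth 100000

namespace Cfsg.Agent.Lib.Helper7.F42M

theorem c_y17_51 : fxF cf_y17 (2184 * 51) 2184 = true := by decide +kernel

theorem c_y17_52 : fxF cf_y17 (2184 * 52) 2184 = true := by decide +kernel

theorem c_y17_53 : fxF cf_y17 (2184 * 53) 2184 = true := by decide +kernel

theorem c_y17_54 : fxF cf_y17 (2184 * 54) 2184 = true := by decide +kernel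

theorem c_y17_55 : fxF cf_y17 (2184 * 55) 2184 = true := by decide +kernel

theorem c_y17_56 : fxF cf_y17 (2184 * 56) 2184 = true := by decide +kernel

theorem c_y17_57 : fxF cf_y17 (2184 * 57) 2184 = true := by decide +kernel

theorem c_y17_58 : fxF cf_y17 (2184 * 58) 2184 = true := by decide +kernel

theorem c_y17_59 : fxF cf_y17 (2184 * 59) 2184 = true := by decide +kernel

theorem c_y17_60 : fxF cf_y17 (2184 * 60) 2184 = true := by decide +kernel

theorem c_y17_61 : fxF cf_y17 (2184 * 61) 2184 = true := by decide +kernel

theorem c_y17_62 : fxF cf_y17 (2184 * 62) 2184 = true := by decide +kernel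

theorem c_y17_63 : fxF cf_y17 (2184 * 63) 2184 = true := by decide +kernel

end Cfsg.Agent.Lib.Helper7.F42M
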