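import Cfsg.Agent.Lib.Helper7.F42MEWD

/-! # The multiplier of the Chevalley group of type F4 over the field of two elements: checks of words on the 139776 points, file 6 (generated) -/

set_option autoImplicit false
set_option maxRecDepth 100000

namespace Cfsg.Agent.Lib.Helper7.F42M

theorem c_tri0_0 : fxF cf_tri0 (8736 * 0) 8736 = true := by decide +kernel

theorem c_tri0_1 : fxF cf_tri0 (8736 * 1) 8736 = true := by decide +kernel

theorem c_tri0_2 : fxF cf_tri0 (8736 * 2) 8736 = true := by decide +kernel

theorem c_tri0_3 : fxF cf_tri0 (8736 * 3) 8736 = true := by decide +kernel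

theorem c_tri0_4 : fxF cf_tri0 (8736 * 4) 8736 = true := by decide +kernel

theorem c_tri0_5 : fxF cf_tri0 (8736 * 5) 8736 = true := by decide +kernel

theorem c_tri0_6 : fxF cf_tri0 (8736 * 6) 8736 = true := by decide +kernel

theorem c_tri0_7 : fxF cf_tri0 (8736 * 7) 8736 = true := by decide +kernel

theorem c_tri0_8 : fxF cf_tri0 (8736 * 8) 8736 = true := by decide +kernel

theorem c_tri0_9 : fxF cf_tri0 (8736 * 9) 8736 = true := by decide +kernel

theorem c_tri0_10 : fxF cf_tri0 (8736 * 10) 8736 = true := by decide +kernel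

theorem c_tri0_11 : fxF cf_tri0 (8736 * 11) 8736 = true := by decide +kernel

theorem c_tri0_12 : fxF cf_tri0 (8736 * 12) 8736 = true := by decide +kernel

theorem c_tri0_13 : fxF cf_tri0 (8736 * 13) 8736 = true := by decide +kernel

theorem c_tri0_14 : fxF cf_tri0 (8736 * 14) 8736 = true := by decide +kernel

theorem c_tri0_15 : fxF cf_tri0 (8736 * 15) 8736 = true := by decide +kernel

theorem c_tri1_0 : fxF cf_tri1 (8736 * 0) 8736 = true := by decide +kernel

theorem c_tri1_1 : fxF cf_tri1 (8736 * 1) 8736 = true := by decide +kernel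

theorem c_tri1_2 : fxF cf_tri1 (8736 * 2) 8736 = true := by decide +kernel

theorem c_tri1_3 : fxF cf_tri1 (8736 * 3) 8736 = true := by decide +kernel

theorem c_tri1_4 : fxF cf_tri1 (8736 * 4) 8736 = true := by decide +kernel

theorem c_tri1_5 : fxF cf_tri1 (8736 * 5) 8736 = true := by decide +kernel

theorem c_tri1_6 : fxF cf_tri1 (8736 * 6) 8736 = true := by decide +kernel

theorem c_tri1_7 : fxF cf_tri1 (8736 * 7) 8736 = true := by decide +kernel

theorem c_tri1_8 : fxF cf_tri1 (8736 * 8) 8736 = true := by decide +kernel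

theorem c_tri1_9 : fxF cf_tri1 (8736 * 9) 8736 = true := by decide +kernel

theorem c_tri1_10 : fxF cf_tri1 (8736 * 10) 8736 = true := by decide +kernel

theorem c_tri1_11 : fxF cf_tri1 (8736 * 11) 8736 = true := by decide +kernel

theorem c_tri1_12 : fxF cf_tri1 (8736 * 12) 8736 = true := by decide +kernel

theorem c_tri1_13 : fxF cf_tri1 (8736 * 13) 8736 = true := by decide +kernel

theorem c_tri1_14 : fxF cf_tri1 (8736 * 14) 8736 = true := by decide +kernel

theorem c_tri1_15 : fxF cf_tri1 (8736 * 15) 8736 = true := by decide +kernel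

theorem c_tri2_0 : fxF cf_tri2 (8736 * 0) 8736 = true := by decide +kernel

theorem c_tri2_1 : fxF cf_tri2 (8736 * 1) 8736 = true := by decide +kernel

theorem c_tri2_2 : fxF cf_tri2 (8736 * 2) 8736 = true := by decide +kernel

theorem c_tri2_3 : fxF cf_tri2 (8736 * 3) 8736 = true := by decide +kernel

theorem c_tri2_4 : fxF cf_tri2 (8736 * 4) 8736 = true := by decide +kernel

theorem c_tri2_5 : fxF cf_tri2 (8736 * 5) 8736 = true := by decide +kernel

theorem c_tri2_6 : fxF cf_tri2 (8736 * 6) 8736 = true := by decide +kernel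

theorem c_tri2_7 : fxF cf_tri2 (8736 * 7) 8736 = true := by decide +kernel

theorem c_tri2_8 : fxF cf_tri2 (8736 * 8) 8736 = true := by decide +kernel

theorem c_tri2_9 : fxF cf_tri2 (8736 * 9) 8736 = true := by decide +kernel

theorem c_tri2_10 : fxF cf_tri2 (8736 * 10) 8736 = true := by decide +kernel

theorem c_tri2_11 : fxF cf_tri2 (8736 * 11) 8736 = true := by decide +kernel

theorem c_tri2_12 : fxF cf_tri2 (8736 * 12) 8736 = true := by decide +kernel

theorem c_tri2_13 : fxF cf_tri2 (8736 * 13) 8736 = true := by decide +kernel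

theorem c_tri2_14 : fxF cf_tri2 (8736 * 14) 8736 = true := by decide +kernel

theorem c_tri2_15 : fxF cf_tri2 (8736 * 15) 8736 = true := by decide +kernel

theorem c_tri3_0 : fxF cf_tri3 (8736 * 0) 8736 = true := by decide +kernel

theorem c_tri3_1 : fxF cf_tri3 (8736 * 1) 8736 = true := by decide +kernel

theorem c_tri3_2 : fxF cf_tri3 (8736 * 2) 8736 = true := by decide +kernel

theorem c_tri3_3 : fxF cf_tri3 (8736 * 3) 8736 = true := by decide +kernel

theorem c_tri3_4 : fxF cf_tri3 (8736 * 4) 8736 = true := by decide +kernel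

theorem c_tri3_5 : fxF cf_tri3 (8736 * 5) 8736 = true := by decide +kernel

theorem c_tri3_6 : fxF cf_tri3 (8736 * 6) 8736 = true := by decide +kernel

theorem c_tri3_7 : fxF cf_tri3 (8736 * 7) 8736 = true := by decide +kernel

theorem c_tri3_8 : fxF cf_tri3 (8736 * 8) 8736 = true := by decide +kernel

theorem c_tri3_9 : fxF cf_tri3 (8736 * 9) 8736 = true := by decide +kernel

theorem c_tri3_10 : fxF cf_tri3 (8736 * 10) 8736 = true := by decide +kernel

theorem c_tri3_11 : fxF cf_tri3 (8736 * 11) 8736 = true := by decide +kernel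

theorem c_tri3_12 : fxF cf_tri3 (8736 * 12) 8736 = true := by decide +kernel

theorem c_tri3_13 : fxF cf_tri3 (8736 * 13) 8736 = true := by decide +kernel

theorem c_tri3_14 : fxF cf_tri3 (8736 * 14) 8736 = true := by decide +kernel

theorem c_tri3_15 : fxF cf_tri3 (8736 * 15) 8736 = true := by decide +kernel

theorem c_tri4_0 : fxF cf_tri4 (8736 * 0) 8736 = true := by decide +kernel

theorem c_tri4_1 : fxF cf_tri4 (8736 * 1) 8736 = true := by decide +kernel

theorem c_tri4_2 : fxF cf_tri4 (8736 * 2) 8736 = true := by decide +kernel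

theorem c_tri4_3 : fxF cf_tri4 (8736 * 3) 8736 = true := by decide +kernel

theorem c_tri4_4 : fxF cf_tri4 (8736 * 4) 8736 = true := by decide +kernel

theorem c_tri4_5 : fxF cf_tri4 (8736 * 5) 8736 = true := by decide +kernel

theorem c_tri4_6 : fxF cf_tri4 (8736 * 6) 8736 = true := by decide +kernel

theorem c_tri4_7 : fxF cf_tri4 (8736 * 7) 8736 = true := by decide +kernel

theorem c_tri4_8 : fxF cf_tri4 (8736 * 8) 8736 = true := by decide +kernel

theorem c_tri4_9 : fxF cf_tri4 (8736 * 9) 8736 = true := by decide +kernel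

theorem c_tri4_10 : fxF cf_tri4 (8736 * 10) 8736 = true := by decide +kernel

theorem c_tri4_11 : fxF cf_tri4 (8736 * 11) 8736 = true := by decide +kernel

theorem c_tri4_12 : fxF cf_tri4 (8736 * 12) 8736 = true := by decide +kernel

theorem c_tri4_13 : fxF cf_tri4 (8736 * 13) 8736 = true := by decide +kernel

theorem c_tri4_14 : fxF cf_tri4 (8736 * 14) 8736 = true := by decide +kernel

theorem c_tri4_15 : fxF cf_tri4 (8736 * 15) 8736 = true := by decide +kernel

theorem c_tri5_0 : fxF cf_tri5 (8736 * 0) 8736 = true := by decide +kernel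

theorem c_tri5_1 : fxF cf_tri5 (8736 * 1) 8736 = true := by decide +kernel

end Cfsg.Agent.Lib.Helper7.F42M
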