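import Cfsg.Agent.Lib.Helper7.F42MEWD

/-! # The multiplier of the Chevalley group of type F4 over the field of two elements: checks of words on the 139776 points, file 7 (generated) -/

set_option autoImplicit false
set_option maxRecDepth 100000

namespace Cfsg.Agent.Lib.Helper7.F42M

theorem c_tri5_2 : fxF cf_tri5 (8736 * 2) 8736 = true := by decide +kernel

theorem c_tri5_3 : fxF cf_tri5 (8736 * 3) 8736 = true := by decide +kernel

theorem c_tri5_4 : fxF cf_tri5 (8736 * 4) 8736 = true := by decide +kernel

theorem c_tri5_5 : fxF cf_tri5 (8736 * 5) 8736 = true := by decide +kernel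

theorem c_tri5_6 : fxF cf_tri5 (8736 * 6) 8736 = true := by decide +kernel

theorem c_tri5_7 : fxF cf_tri5 (8736 * 7) 8736 = true := by decide +kernel

theorem c_tri5_8 : fxF cf_tri5 (8736 * 8) 8736 = true := by decide +kernel

theorem c_tri5_9 : fxF cf_tri5 (8736 * 9) 8736 = true := by decide +kernel

theorem c_tri5_10 : fxF cf_tri5 (8736 * 10) 8736 = true := by decide +kernel

theorem c_tri5_11 : fxF cf_tri5 (8736 * 11) 8736 = true := by decide +kernel

theorem c_tri5_12 : fxF cf_tri5 (8736 * 12) 8736 = true := by decide +kernel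

theorem c_tri5_13 : fxF cf_tri5 (8736 * 13) 8736 = true := by decide +kernel

theorem c_tri5_14 : fxF cf_tri5 (8736 * 14) 8736 = true := by decide +kernel

theorem c_tri5_15 : fxF cf_tri5 (8736 * 15) 8736 = true := by decide +kernel

theorem c_tri6_0 : fxF cf_tri6 (8736 * 0) 8736 = true := by decide +kernel

theorem c_tri6_1 : fxF cf_tri6 (8736 * 1) 8736 = true := by decide +kernel

theorem c_tri6_2 : fxF cf_tri6 (8736 * 2) 8736 = true := by decide +kernel

theorem c_tri6_3 : fxF cf_tri6 (8736 * 3) 8736 = true := by decide +kernel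

theorem c_tri6_4 : fxF cf_tri6 (8736 * 4) 8736 = true := by decide +kernel

theorem c_tri6_5 : fxF cf_tri6 (8736 * 5) 8736 = true := by decide +kernel

theorem c_tri6_6 : fxF cf_tri6 (8736 * 6) 8736 = true := by decide +kernel

theorem c_tri6_7 : fxF cf_tri6 (8736 * 7) 8736 = true := by decide +kernel

theorem c_tri6_8 : fxF cf_tri6 (8736 * 8) 8736 = true := by decide +kernel

theorem c_tri6_9 : fxF cf_tri6 (8736 * 9) 8736 = true := by decide +kernel

theorem c_tri6_10 : fxF cf_tri6 (8736 * 10) 8736 = true := by decide +kernel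

theorem c_tri6_11 : fxF cf_tri6 (8736 * 11) 8736 = true := by decide +kernel

theorem c_tri6_12 : fxF cf_tri6 (8736 * 12) 8736 = true := by decide +kernel

theorem c_tri6_13 : fxF cf_tri6 (8736 * 13) 8736 = true := by decide +kernel

theorem c_tri6_14 : fxF cf_tri6 (8736 * 14) 8736 = true := by decide +kernel

theorem c_tri6_15 : fxF cf_tri6 (8736 * 15) 8736 = true := by decide +kernel

theorem c_tri7_0 : fxF cf_tri7 (8736 * 0) 8736 = true := by decide +kernel

theorem c_tri7_1 : fxF cf_tri7 (8736 * 1) 8736 = true := by decide +kernel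

theorem c_tri7_2 : fxF cf_tri7 (8736 * 2) 8736 = true := by decide +kernel

theorem c_tri7_3 : fxF cf_tri7 (8736 * 3) 8736 = true := by decide +kernel

theorem c_tri7_4 : fxF cf_tri7 (8736 * 4) 8736 = true := by decide +kernel

theorem c_tri7_5 : fxF cf_tri7 (8736 * 5) 8736 = true := by decide +kernel

theorem c_tri7_6 : fxF cf_tri7 (8736 * 6) 8736 = true := by decide +kernel

theorem c_tri7_7 : fxF cf_tri7 (8736 * 7) 8736 = true := by decide +kernel

theorem c_tri7_8 : fxF cf_tri7 (8736 * 8) 8736 = true := by decide +kernel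

theorem c_tri7_9 : fxF cf_tri7 (8736 * 9) 8736 = true := by decide +kernel

theorem c_tri7_10 : fxF cf_tri7 (8736 * 10) 8736 = true := by decide +kernel

theorem c_tri7_11 : fxF cf_tri7 (8736 * 11) 8736 = true := by decide +kernel

theorem c_tri7_12 : fxF cf_tri7 (8736 * 12) 8736 = true := by decide +kernel

theorem c_tri7_13 : fxF cf_tri7 (8736 * 13) 8736 = true := by decide +kernel

theorem c_tri7_14 : fxF cf_tri7 (8736 * 14) 8736 = true := by decide +kernel

theorem c_tri7_15 : fxF cf_tri7 (8736 * 15) 8736 = true := by decide +kernel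

theorem c_s6_0 : fxF cf_s6 (8736 * 0) 8736 = true := by decide +kernel

theorem c_s6_1 : fxF cf_s6 (8736 * 1) 8736 = true := by decide +kernel

theorem c_s6_2 : fxF cf_s6 (8736 * 2) 8736 = true := by decide +kernel

theorem c_s6_3 : fxF cf_s6 (8736 * 3) 8736 = true := by decide +kernel

theorem c_s6_4 : fxF cf_s6 (8736 * 4) 8736 = true := by decide +kernel

theorem c_s6_5 : fxF cf_s6 (8736 * 5) 8736 = true := by decide +kernel

theorem c_s6_6 : fxF cf_s6 (8736 * 6) 8736 = true := by decide +kernel

theorem c_s6_7 : fxF cf_s6 (8736 * 7) 8736 = true := by decide +kernel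

theorem c_s6_8 : fxF cf_s6 (8736 * 8) 8736 = true := by decide +kernel

theorem c_s6_9 : fxF cf_s6 (8736 * 9) 8736 = true := by decide +kernel

theorem c_s6_10 : fxF cf_s6 (8736 * 10) 8736 = true := by decide +kernel

theorem c_s6_11 : fxF cf_s6 (8736 * 11) 8736 = true := by decide +kernel

theorem c_s6_12 : fxF cf_s6 (8736 * 12) 8736 = true := by decide +kernel

theorem c_s6_13 : fxF cf_s6 (8736 * 13) 8736 = true := by decide +kernel

theorem c_s6_14 : fxF cf_s6 (8736 * 14) 8736 = true := by decide +kernel

theorem c_s6_15 : fxF cf_s6 (8736 * 15) 8736 = true := by decide +kernel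

theorem c_cen0_0 : cenF f5_0 (8736 * 0) 8736 = true := by decide +kernel

theorem c_cen0_1 : cenF f5_0 (8736 * 1) 8736 = true := by decide +kernel

theorem c_cen0_2 : cenF f5_0 (8736 * 2) 8736 = true := by decide +kernel

theorem c_cen0_3 : cenF f5_0 (8736 * 3) 8736 = true := by decide +kernel

theorem c_cen0_4 : cenF f5_0 (8736 * 4) 8736 = true := by decide +kernel

theorem c_cen0_5 : cenF f5_0 (8736 * 5) 8736 = true := by decide +kernel

theorem c_cen0_6 : cenF f5_0 (8736 * 6) 8736 = true := by decide +kernel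

theorem c_cen0_7 : cenF f5_0 (8736 * 7) 8736 = true := by decide +kernel

theorem c_cen0_8 : cenF f5_0 (8736 * 8) 8736 = true := by decide +kernel

theorem c_cen0_9 : cenF f5_0 (8736 * 9) 8736 = true := by decide +kernel

theorem c_cen0_10 : cenF f5_0 (8736 * 10) 8736 = true := by decide +kernel

theorem c_cen0_11 : cenF f5_0 (8736 * 11) 8736 = true := by decide +kernel

theorem c_cen0_12 : cenF f5_0 (8736 * 12) 8736 = true := by decide +kernel

theorem c_cen0_13 : cenF f5_0 (8736 * 13) 8736 = true := by decide +kernel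

theorem c_cen0_14 : cenF f5_0 (8736 * 14) 8736 = true := by decide +kernel

theorem c_cen0_15 : cenF f5_0 (8736 * 15) 8736 = true := by decide +kernel

theorem c_cen1_0 : cenF f5_1 (8736 * 0) 8736 = true := by decide +kernel

theorem c_cen1_1 : cenF f5_1 (8736 * 1) 8736 = true := by decide +kernel

theorem c_cen1_2 : cenF f5_1 (8736 * 2) 8736 = true := by decide +kernel

theorem c_cen1_3 : cenF f5_1 (8736 * 3) 8736 = true := by decide +kernel

theorem c_cen1_4 : cenF f5_1 (8736 * 4) 8736 = true := by decide +kernel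

theorem c_cen1_5 : cenF f5_1 (8736 * 5) 8736 = true := by decide +kernel

theorem c_cen1_6 : cenF f5_1 (8736 * 6) 8736 = true := by decide +kernel

theorem c_cen1_7 : cenF f5_1 (8736 * 7) 8736 = true := by decide +kernel

theorem c_cen1_8 : cenF f5_1 (8736 * 8) 8736 = true := by decide +kernel

end Cfsg.Agent.Lib.Helper7.F42M
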