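import Cfsg.Agent.Lib.Helper7.F42MEWD

/-! # The multiplier of the Chevalley group of type F4 over the field of two elements: checks of words on the 139776 points, file 8 (generated) -/

set_option autoImplicit false
set_option maxRecDepth 100000

namespace Cfsg.Agent.Lib.Helper7.F42M

theorem c_cen1_9 : cenF f5_1 (8736 * 9) 8736 = true := by decide +kernel

theorem c_cen1_10 : cenF f5_1 (8736 * 10) 8736 = true := by decide +kernel

theorem c_cen1_11 : cenF f5_1 (8736 * 11) 8736 = true := by decide +kernel

theorem c_cen1_12 : cenF f5_1 (8736 * 12) 8736 = true := by decide +kernel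

theorem c_cen1_13 : cenF f5_1 (8736 * 13) 8736 = true := by decide +kernel

theorem c_cen1_14 : cenF f5_1 (8736 * 14) 8736 = true := by decide +kernel

theorem c_cen1_15 : cenF f5_1 (8736 * 15) 8736 = true := by decide +kernel

theorem c_cen2_0 : cenF f5_2 (8736 * 0) 8736 = true := by decide +kernel

theorem c_cen2_1 : cenF f5_2 (8736 * 1) 8736 = true := by decide +kernel

theorem c_cen2_2 : cenF f5_2 (8736 * 2) 8736 = true := by decide +kernel

theorem c_cen2_3 : cenF f5_2 (8736 * 3) 8736 = true := by decide +kernel

theorem c_cen2_4 : cenF f5_2 (8736 * 4) 8736 = true := by decide +kernel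

theorem c_cen2_5 : cenF f5_2 (8736 * 5) 8736 = true := by decide +kernel

theorem c_cen2_6 : cenF f5_2 (8736 * 6) 8736 = true := by decide +kernel

theorem c_cen2_7 : cenF f5_2 (8736 * 7) 8736 = true := by decide +kernel

theorem c_cen2_8 : cenF f5_2 (8736 * 8) 8736 = true := by decide +kernel

theorem c_cen2_9 : cenF f5_2 (8736 * 9) 8736 = true := by decide +kernel

theorem c_cen2_10 : cenF f5_2 (8736 * 10) 8736 = true := by decide +kernel

theorem c_cen2_11 : cenF f5_2 (8736 * 11) 8736 = true := by decide +kernel

theorem c_cen2_12 : cenF f5_2 (8736 * 12) 8736 = true := by decide +kernel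

theorem c_cen2_13 : cenF f5_2 (8736 * 13) 8736 = true := by decide +kernel

theorem c_cen2_14 : cenF f5_2 (8736 * 14) 8736 = true := by decide +kernel

theorem c_cen2_15 : cenF f5_2 (8736 * 15) 8736 = true := by decide +kernel

theorem c_cen3_0 : cenF f5_3 (8736 * 0) 8736 = true := by decide +kernel

theorem c_cen3_1 : cenF f5_3 (8736 * 1) 8736 = true := by decide +kernel

theorem c_cen3_2 : cenF f5_3 (8736 * 2) 8736 = true := by decide +kernel

theorem c_cen3_3 : cenF f5_3 (8736 * 3) 8736 = true := by decide +kernel

theorem c_cen3_4 : cenF f5_3 (8736 * 4) 8736 = true := by decide +kernel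

theorem c_cen3_5 : cenF f5_3 (8736 * 5) 8736 = true := by decide +kernel

theorem c_cen3_6 : cenF f5_3 (8736 * 6) 8736 = true := by decide +kernel

theorem c_cen3_7 : cenF f5_3 (8736 * 7) 8736 = true := by decide +kernel

theorem c_cen3_8 : cenF f5_3 (8736 * 8) 8736 = true := by decide +kernel

theorem c_cen3_9 : cenF f5_3 (8736 * 9) 8736 = true := by decide +kernel

theorem c_cen3_10 : cenF f5_3 (8736 * 10) 8736 = true := by decide +kernel

theorem c_cen3_11 : cenF f5_3 (8736 * 11) 8736 = true := by decide +kernel

theorem c_cen3_12 : cenF f5_3 (8736 * 12) 8736 = true := by decide +kernel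

theorem c_cen3_13 : cenF f5_3 (8736 * 13) 8736 = true := by decide +kernel

theorem c_cen3_14 : cenF f5_3 (8736 * 14) 8736 = true := by decide +kernel

theorem c_cen3_15 : cenF f5_3 (8736 * 15) 8736 = true := by decide +kernel

theorem c_cen4_0 : cenF f5_4 (8736 * 0) 8736 = true := by decide +kernel

theorem c_cen4_1 : cenF f5_4 (8736 * 1) 8736 = true := by decide +kernel

theorem c_cen4_2 : cenF f5_4 (8736 * 2) 8736 = true := by decide +kernel

theorem c_cen4_3 : cenF f5_4 (8736 * 3) 8736 = true := by decide +kernel

theorem c_cen4_4 : cenF f5_4 (8736 * 4) 8736 = true := by decide +kernel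

theorem c_cen4_5 : cenF f5_4 (8736 * 5) 8736 = true := by decide +kernel

theorem c_cen4_6 : cenF f5_4 (8736 * 6) 8736 = true := by decide +kernel

theorem c_cen4_7 : cenF f5_4 (8736 * 7) 8736 = true := by decide +kernel

theorem c_cen4_8 : cenF f5_4 (8736 * 8) 8736 = true := by decide +kernel

theorem c_cen4_9 : cenF f5_4 (8736 * 9) 8736 = true := by decide +kernel

theorem c_cen4_10 : cenF f5_4 (8736 * 10) 8736 = true := by decide +kernel

theorem c_cen4_11 : cenF f5_4 (8736 * 11) 8736 = true := by decide +kernel

theorem c_cen4_12 : cenF f5_4 (8736 * 12) 8736 = true := by decide +kernel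

theorem c_cen4_13 : cenF f5_4 (8736 * 13) 8736 = true := by decide +kernel

theorem c_cen4_14 : cenF f5_4 (8736 * 14) 8736 = true := by decide +kernel

theorem c_cen4_15 : cenF f5_4 (8736 * 15) 8736 = true := by decide +kernel

theorem c_cen5_0 : cenF f5_5 (8736 * 0) 8736 = true := by decide +kernel

theorem c_cen5_1 : cenF f5_5 (8736 * 1) 8736 = true := by decide +kernel

theorem c_cen5_2 : cenF f5_5 (8736 * 2) 8736 = true := by decide +kernel

theorem c_cen5_3 : cenF f5_5 (8736 * 3) 8736 = true := by decide +kernel

theorem c_cen5_4 : cenF f5_5 (8736 * 4) 8736 = true := by decide +kernel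

theorem c_cen5_5 : cenF f5_5 (8736 * 5) 8736 = true := by decide +kernel

theorem c_cen5_6 : cenF f5_5 (8736 * 6) 8736 = true := by decide +kernel

theorem c_cen5_7 : cenF f5_5 (8736 * 7) 8736 = true := by decide +kernel

theorem c_cen5_8 : cenF f5_5 (8736 * 8) 8736 = true := by decide +kernel

theorem c_cen5_9 : cenF f5_5 (8736 * 9) 8736 = true := by decide +kernel

theorem c_cen5_10 : cenF f5_5 (8736 * 10) 8736 = true := by decide +kernel

theorem c_cen5_11 : cenF f5_5 (8736 * 11) 8736 = true := by decide +kernel

theorem c_cen5_12 : cenF f5_5 (8736 * 12) 8736 = true := by decide +kernel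

theorem c_cen5_13 : cenF f5_5 (8736 * 13) 8736 = true := by decide +kernel

theorem c_cen5_14 : cenF f5_5 (8736 * 14) 8736 = true := by decide +kernel

theorem c_cen5_15 : cenF f5_5 (8736 * 15) 8736 = true := by decide +kernel

theorem c_cen6_0 : cenF f5_6 (8736 * 0) 8736 = true := by decide +kernel

theorem c_cen6_1 : cenF f5_6 (8736 * 1) 8736 = true := by decide +kernel

theorem c_cen6_2 : cenF f5_6 (8736 * 2) 8736 = true := by decide +kernel

theorem c_cen6_3 : cenF f5_6 (8736 * 3) 8736 = true := by decide +kernel

theorem c_cen6_4 : cenF f5_6 (8736 * 4) 8736 = true := by decide +kernel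

theorem c_cen6_5 : cenF f5_6 (8736 * 5) 8736 = true := by decide +kernel

theorem c_cen6_6 : cenF f5_6 (8736 * 6) 8736 = true := by decide +kernel

theorem c_cen6_7 : cenF f5_6 (8736 * 7) 8736 = true := by decide +kernel

theorem c_cen6_8 : cenF f5_6 (8736 * 8) 8736 = true := by decide +kernel

theorem c_cen6_9 : cenF f5_6 (8736 * 9) 8736 = true := by decide +kernel

theorem c_cen6_10 : cenF f5_6 (8736 * 10) 8736 = true := by decide +kernel

theorem c_cen6_11 : cenF f5_6 (8736 * 11) 8736 = true := by decide +kernel

theorem c_cen6_12 : cenF f5_6 (8736 * 12) 8736 = true := by decide +kernel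

theorem c_cen6_13 : cenF f5_6 (8736 * 13) 8736 = true := by decide +kernel

theorem c_cen6_14 : cenF f5_6 (8736 * 14) 8736 = true := by decide +kernel

theorem c_cen6_15 : cenF f5_6 (8736 * 15) 8736 = true := by decide +kernel

theorem c_cen7_0 : cenF f5_7 (8736 * 0) 8736 = true := by decide +kernel

theorem c_cen7_1 : cenF f5_7 (8736 * 1) 8736 = true := by decide +kernel

theorem c_cen7_2 : cenF f5_7 (8736 * 2) 8736 = true := by decide +kernel

theorem c_cen7_3 : cenF f5_7 (8736 * 3) 8736 = true := by decide +kernel

theorem c_cen7_4 : cenF f5_7 (8736 * 4) 8736 = true := by decide +kernel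

theorem c_cen7_5 : cenF f5_7 (8736 * 5) 8736 = true := by decide +kernel

theorem c_cen7_6 : cenF f5_7 (8736 * 6) 8736 = true := by decide +kernel

theorem c_cen7_7 : cenF f5_7 (8736 * 7) 8736 = true := by decide +kernel

theorem c_cen7_8 : cenF f5_7 (8736 * 8) 8736 = true := by decide +kernel

theorem c_cen7_9 : cenF f5_7 (8736 * 9) 8736 = true := by decide +kernel

theorem c_cen7_10 : cenF f5_7 (8736 * 10) 8736 = true := by decide +kernel

theorem c_cen7_11 : cenF f5_7 (8736 * 11) 8736 = true := by decide +kernel

theorem c_cen7_12 : cenF f5_7 (8736 * 12) 8736 = true := by decide +kernel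

theorem c_cen7_13 : cenF f5_7 (8736 * 13) 8736 = true := by decide +kernel

theorem c_cen7_14 : cenF f5_7 (8736 * 14) 8736 = true := by decide +kernel

theorem c_cen7_15 : cenF f5_7 (8736 * 15) 8736 = true := by decide +kernel

theorem c_cen8_0 : cenF f5_8 (8736 * 0) 8736 = true := by decide +kernel

theorem c_cen8_1 : cenF f5_8 (8736 * 1) 8736 = true := by decide +kernel

theorem c_cen8_2 : cenF f5_8 (8736 * 2) 8736 = true := by decide +kernel

theorem c_cen8_3 : cenF f5_8 (8736 * 3) 8736 = true := by decide +kernel

theorem c_cen8_4 : cenF f5_8 (8736 * 4) 8736 = true := by decide +kernel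

theorem c_cen8_5 : cenF f5_8 (8736 * 5) 8736 = true := by decide +kernel

theorem c_cen8_6 : cenF f5_8 (8736 * 6) 8736 = true := by decide +kernel

theorem c_cen8_7 : cenF f5_8 (8736 * 7) 8736 = true := by decide +kernel

theorem c_cen8_8 : cenF f5_8 (8736 * 8) 8736 = true := by decide +kernel

theorem c_cen8_9 : cenF f5_8 (8736 * 9) 8736 = true := by decide +kernel

theorem c_cen8_10 : cenF f5_8 (8736 * 10) 8736 = true := by decide +kernel

theorem c_cen8_11 : cenF f5_8 (8736 * 11) 8736 = true := by decide +kernel

theorem c_cen8_12 : cenF f5_8 (8736 * 12) 8736 = true := by decide +kernel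

theorem c_cen8_13 : cenF f5_8 (8736 * 13) 8736 = true := by decide +kernel

theorem c_cen8_14 : cenF f5_8 (8736 * 14) 8736 = true := by decide +kernel

theorem c_cen8_15 : cenF f5_8 (8736 * 15) 8736 = true := by decide +kernel

theorem c_cen9_0 : cenF f5_9 (8736 * 0) 8736 = true := by decide +kernel

theorem c_cen9_1 : cenF f5_9 (8736 * 1) 8736 = true := by decide +kernel

theorem c_cen9_2 : cenF f5_9 (8736 * 2) 8736 = true := by decide +kernel

theorem c_cen9_3 : cenF f5_9 (8736 * 3) 8736 = true := by decide +kernel

theorem c_cen9_4 : cenF f5_9 (8736 * 4) 8736 = true := by decide +kernel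

theorem c_cen9_5 : cenF f5_9 (8736 * 5) 8736 = true := by decide +kernel

theorem c_cen9_6 : cenF f5_9 (8736 * 6) 8736 = true := by decide +kernel

theorem c_cen9_7 : cenF f5_9 (8736 * 7) 8736 = true := by decide +kernel

theorem c_cen9_8 : cenF f5_9 (8736 * 8) 8736 = true := by decide +kernel

theorem c_cen9_9 : cenF f5_9 (8736 * 9) 8736 = true := by decide +kernel

theorem c_cen9_10 : cenF f5_9 (8736 * 10) 8736 = true := by decide +kernel

theorem c_cen9_11 : cenF f5_9 (8736 * 11) 8736 = true := by decide +kernel

theorem c_cen9_12 : cenF f5_9 (8736 * 12) 8736 = true := by decide +kernel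

theorem c_cen9_13 : cenF f5_9 (8736 * 13) 8736 = true := by decide +kernel

theorem c_cen9_14 : cenF f5_9 (8736 * 14) 8736 = true := by decide +kernel

theorem c_cen9_15 : cenF f5_9 (8736 * 15) 8736 = true := by decide +kernel

theorem c_cen10_0 : cenF f5_10 (8736 * 0) 8736 = true := by decide +kernel

theorem c_cen10_1 : cenF f5_10 (8736 * 1) 8736 = true := by decide +kernel

theorem c_cen10_2 : cenF f5_10 (8736 * 2) 8736 = true := by decide +kernel

theorem c_cen10_3 : cenF f5_10 (8736 * 3) 8736 = true := by decide +kernel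

theorem c_cen10_4 : cenF f5_10 (8736 * 4) 8736 = true := by decide +kernel

theorem c_cen10_5 : cenF f5_10 (8736 * 5) 8736 = true := by decide +kernel

theorem c_cen10_6 : cenF f5_10 (8736 * 6) 8736 = true := by decide +kernel

theorem c_cen10_7 : cenF f5_10 (8736 * 7) 8736 = true := by decide +kernel

theorem c_cen10_8 : cenF f5_10 (8736 * 8) 8736 = true := by decide +kernel

theorem c_cen10_9 : cenF f5_10 (8736 * 9) 8736 = true := by decide +kernel

theorem c_cen10_10 : cenF f5_10 (8736 * 10) 8736 = true := by decide +kernel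

theorem c_cen10_11 : cenF f5_10 (8736 * 11) 8736 = true := by decide +kernel

theorem c_cen10_12 : cenF f5_10 (8736 * 12) 8736 = true := by decide +kernel

theorem c_cen10_13 : cenF f5_10 (8736 * 13) 8736 = true := by decide +kernel

theorem c_cen10_14 : cenF f5_10 (8736 * 14) 8736 = true := by decide +kernel

theorem c_cen10_15 : cenF f5_10 (8736 * 15) 8736 = true := by decide +kernel

theorem c_cen11_0 : cenF f5_11 (8736 * 0) 8736 = true := by decide +kernel

theorem c_cen11_1 : cenF f5_11 (8736 * 1) 8736 = true := by decide +kernel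

theorem c_cen11_2 : cenF f5_11 (8736 * 2) 8736 = true := by decide +kernel

theorem c_cen11_3 : cenF f5_11 (8736 * 3) 8736 = true := by decide +kernel

theorem c_cen11_4 : cenF f5_11 (8736 * 4) 8736 = true := by decide +kernel

theorem c_cen11_5 : cenF f5_11 (8736 * 5) 8736 = true := by decide +kernel

theorem c_cen11_6 : cenF f5_11 (8736 * 6) 8736 = true := by decide +kernel

theorem c_cen11_7 : cenF f5_11 (8736 * 7) 8736 = true := by decide +kernel

theorem c_cen11_8 : cenF f5_11 (8736 * 8) 8736 = true := by decide +kernel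

theorem c_cen11_9 : cenF f5_11 (8736 * 9) 8736 = true := by decide +kernel

theorem c_cen11_10 : cenF f5_11 (8736 * 10) 8736 = true := by decide +kernel

theorem c_cen11_11 : cenF f5_11 (8736 * 11) 8736 = true := by decide +kernel

theorem c_cen11_12 : cenF f5_11 (8736 * 12) 8736 = true := by decide +kernel

theorem c_cen11_13 : cenF f5_11 (8736 * 13) 8736 = true := by decide +kernel

end Cfsg.Agent.Lib.Helper7.F42M
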