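import Cfsg.Agent.Lib.Helper7.F42MEWD

/-! # The multiplier of the Chevalley group of type F4 over the field of two elements: checks of words on the 139776 points, file 9 (generated) -/

set_option autoImplicit false
set_option maxRecDepth 100000

namespace Cfsg.Agent.Lib.Helper7.F42M

theorem c_cen11_14 : cenF f5_11 (8736 * 14) 8736 = true := by decide +kernel

theorem c_cen11_15 : cenF f5_11 (8736 * 15) 8736 = true := by decide +kernel

theorem c_cenK0_0 : cenF fK_0 (8736 * 0) 8736 = true := by decide +kernel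

theorem c_cenK0_1 : cenF fK_0 (8736 * 1) 8736 = true := by decide +kernel

theorem c_cenK0_2 : cenF fK_0 (8736 * 2) 8736 = true := by decide +kernel

theorem c_cenK0_3 : cenF fK_0 (8736 * 3) 8736 = true := by decide +kernel

theorem c_cenK0_4 : cenF fK_0 (8736 * 4) 8736 = true := by decide +kernel

theorem c_cenK0_5 : cenF fK_0 (8736 * 5) 8736 = true := by decide +kernel

theorem c_cenK0_6 : cenF fK_0 (8736 * 6) 8736 = true := by decide +kernel

theorem c_cenK0_7 : cenF fK_0 (8736 * 7) 8736 = true := by decide +kernel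

theorem c_cenK0_8 : cenF fK_0 (8736 * 8) 8736 = true := by decide +kernel

theorem c_cenK0_9 : cenF fK_0 (8736 * 9) 8736 = true := by decide +kernel

theorem c_cenK0_10 : cenF fK_0 (8736 * 10) 8736 = true := by decide +kernel

theorem c_cenK0_11 : cenF fK_0 (8736 * 11) 8736 = true := by decide +kernel

theorem c_cenK0_12 : cenF fK_0 (8736 * 12) 8736 = true := by decide +kernel

theorem c_cenK0_13 : cenF fK_0 (8736 * 13) 8736 = true := by decide +kernel

theorem c_cenK0_14 : cenF fK_0 (8736 * 14) 8736 = true := by decide +kernel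

theorem c_cenK0_15 : cenF fK_0 (8736 * 15) 8736 = true := by decide +kernel

theorem c_cenK1_0 : cenF fK_1 (8736 * 0) 8736 = true := by decide +kernel

theorem c_cenK1_1 : cenF fK_1 (8736 * 1) 8736 = true := by decide +kernel

theorem c_cenK1_2 : cenF fK_1 (8736 * 2) 8736 = true := by decide +kernel

theorem c_cenK1_3 : cenF fK_1 (8736 * 3) 8736 = true := by decide +kernel

theorem c_cenK1_4 : cenF fK_1 (8736 * 4) 8736 = true := by decide +kernel

theorem c_cenK1_5 : cenF fK_1 (8736 * 5) 8736 = true := by decide +kernel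

theorem c_cenK1_6 : cenF fK_1 (8736 * 6) 8736 = true := by decide +kernel

theorem c_cenK1_7 : cenF fK_1 (8736 * 7) 8736 = true := by decide +kernel

theorem c_cenK1_8 : cenF fK_1 (8736 * 8) 8736 = true := by decide +kernel

theorem c_cenK1_9 : cenF fK_1 (8736 * 9) 8736 = true := by decide +kernel

theorem c_cenK1_10 : cenF fK_1 (8736 * 10) 8736 = true := by decide +kernel

theorem c_cenK1_11 : cenF fK_1 (8736 * 11) 8736 = true := by decide +kernel

theorem c_cenK1_12 : cenF fK_1 (8736 * 12) 8736 = true := by decide +kernel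

theorem c_cenK1_13 : cenF fK_1 (8736 * 13) 8736 = true := by decide +kernel

theorem c_cenK1_14 : cenF fK_1 (8736 * 14) 8736 = true := by decide +kernel

theorem c_cenK1_15 : cenF fK_1 (8736 * 15) 8736 = true := by decide +kernel

theorem c_cenK2_0 : cenF fK_2 (8736 * 0) 8736 = true := by decide +kernel

theorem c_cenK2_1 : cenF fK_2 (8736 * 1) 8736 = true := by decide +kernel

theorem c_cenK2_2 : cenF fK_2 (8736 * 2) 8736 = true := by decide +kernel

theorem c_cenK2_3 : cenF fK_2 (8736 * 3) 8736 = true := by decide +kernel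

theorem c_cenK2_4 : cenF fK_2 (8736 * 4) 8736 = true := by decide +kernel

theorem c_cenK2_5 : cenF fK_2 (8736 * 5) 8736 = true := by decide +kernel

theorem c_cenK2_6 : cenF fK_2 (8736 * 6) 8736 = true := by decide +kernel

theorem c_cenK2_7 : cenF fK_2 (8736 * 7) 8736 = true := by decide +kernel

theorem c_cenK2_8 : cenF fK_2 (8736 * 8) 8736 = true := by decide +kernel

theorem c_cenK2_9 : cenF fK_2 (8736 * 9) 8736 = true := by decide +kernel

theorem c_cenK2_10 : cenF fK_2 (8736 * 10) 8736 = true := by decide +kernel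

theorem c_cenK2_11 : cenF fK_2 (8736 * 11) 8736 = true := by decide +kernel

theorem c_cenK2_12 : cenF fK_2 (8736 * 12) 8736 = true := by decide +kernel

theorem c_cenK2_13 : cenF fK_2 (8736 * 13) 8736 = true := by decide +kernel

theorem c_cenK2_14 : cenF fK_2 (8736 * 14) 8736 = true := by decide +kernel

theorem c_cenK2_15 : cenF fK_2 (8736 * 15) 8736 = true := by decide +kernel

theorem c_cenK3_0 : cenF fK_3 (8736 * 0) 8736 = true := by decide +kernel

theorem c_cenK3_1 : cenF fK_3 (8736 * 1) 8736 = true := by decide +kernel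

theorem c_cenK3_2 : cenF fK_3 (8736 * 2) 8736 = true := by decide +kernel

theorem c_cenK3_3 : cenF fK_3 (8736 * 3) 8736 = true := by decide +kernel

theorem c_cenK3_4 : cenF fK_3 (8736 * 4) 8736 = true := by decide +kernel

theorem c_cenK3_5 : cenF fK_3 (8736 * 5) 8736 = true := by decide +kernel

theorem c_cenK3_6 : cenF fK_3 (8736 * 6) 8736 = true := by decide +kernel

theorem c_cenK3_7 : cenF fK_3 (8736 * 7) 8736 = true := by decide +kernel

theorem c_cenK3_8 : cenF fK_3 (8736 * 8) 8736 = true := by decide +kernel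

theorem c_cenK3_9 : cenF fK_3 (8736 * 9) 8736 = true := by decide +kernel

theorem c_cenK3_10 : cenF fK_3 (8736 * 10) 8736 = true := by decide +kernel

theorem c_cenK3_11 : cenF fK_3 (8736 * 11) 8736 = true := by decide +kernel

theorem c_cenK3_12 : cenF fK_3 (8736 * 12) 8736 = true := by decide +kernel

theorem c_cenK3_13 : cenF fK_3 (8736 * 13) 8736 = true := by decide +kernel

theorem c_cenK3_14 : cenF fK_3 (8736 * 14) 8736 = true := by decide +kernel

theorem c_cenK3_15 : cenF fK_3 (8736 * 15) 8736 = true := by decide +kernel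

theorem c_cenK4_0 : cenF fK_4 (8736 * 0) 8736 = true := by decide +kernel

theorem c_cenK4_1 : cenF fK_4 (8736 * 1) 8736 = true := by decide +kernel

theorem c_cenK4_2 : cenF fK_4 (8736 * 2) 8736 = true := by decide +kernel

theorem c_cenK4_3 : cenF fK_4 (8736 * 3) 8736 = true := by decide +kernel

theorem c_cenK4_4 : cenF fK_4 (8736 * 4) 8736 = true := by decide +kernel

theorem c_cenK4_5 : cenF fK_4 (8736 * 5) 8736 = true := by decide +kernel

theorem c_cenK4_6 : cenF fK_4 (8736 * 6) 8736 = true := by decide +kernel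

theorem c_cenK4_7 : cenF fK_4 (8736 * 7) 8736 = true := by decide +kernel

theorem c_cenK4_8 : cenF fK_4 (8736 * 8) 8736 = true := by decide +kernel

theorem c_cenK4_9 : cenF fK_4 (8736 * 9) 8736 = true := by decide +kernel

theorem c_cenK4_10 : cenF fK_4 (8736 * 10) 8736 = true := by decide +kernel

theorem c_cenK4_11 : cenF fK_4 (8736 * 11) 8736 = true := by decide +kernel

theorem c_cenK4_12 : cenF fK_4 (8736 * 12) 8736 = true := by decide +kernel

theorem c_cenK4_13 : cenF fK_4 (8736 * 13) 8736 = true := by decide +kernel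

theorem c_cenK4_14 : cenF fK_4 (8736 * 14) 8736 = true := by decide +kernel

theorem c_cenK4_15 : cenF fK_4 (8736 * 15) 8736 = true := by decide +kernel

theorem c_cenK5_0 : cenF fK_5 (8736 * 0) 8736 = true := by decide +kernel

theorem c_cenK5_1 : cenF fK_5 (8736 * 1) 8736 = true := by decide +kernel

theorem c_cenK5_2 : cenF fK_5 (8736 * 2) 8736 = true := by decide +kernel

theorem c_cenK5_3 : cenF fK_5 (8736 * 3) 8736 = true := by decide +kernel

theorem c_cenK5_4 : cenF fK_5 (8736 * 4) 8736 = true := by decide +kernel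

theorem c_cenK5_5 : cenF fK_5 (8736 * 5) 8736 = true := by decide +kernel

theorem c_cenK5_6 : cenF fK_5 (8736 * 6) 8736 = true := by decide +kernel

theorem c_cenK5_7 : cenF fK_5 (8736 * 7) 8736 = true := by decide +kernel

theorem c_cenK5_8 : cenF fK_5 (8736 * 8) 8736 = true := by decide +kernel

theorem c_cenK5_9 : cenF fK_5 (8736 * 9) 8736 = true := by decide +kernel

theorem c_cenK5_10 : cenF fK_5 (8736 * 10) 8736 = true := by decide +kernel

theorem c_cenK5_11 : cenF fK_5 (8736 * 11) 8736 = true := by decide +kernel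

theorem c_cenK5_12 : cenF fK_5 (8736 * 12) 8736 = true := by decide +kernel

theorem c_cenK5_13 : cenF fK_5 (8736 * 13) 8736 = true := by decide +kernel

theorem c_cenK5_14 : cenF fK_5 (8736 * 14) 8736 = true := by decide +kernel

theorem c_cenK5_15 : cenF fK_5 (8736 * 15) 8736 = true := by decide +kernel

theorem c_cenK6_0 : cenF fK_6 (8736 * 0) 8736 = true := by decide +kernel

theorem c_cenK6_1 : cenF fK_6 (8736 * 1) 8736 = true := by decide +kernel

theorem c_cenK6_2 : cenF fK_6 (8736 * 2) 8736 = true := by decide +kernel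

theorem c_cenK6_3 : cenF fK_6 (8736 * 3) 8736 = true := by decide +kernel

theorem c_cenK6_4 : cenF fK_6 (8736 * 4) 8736 = true := by decide +kernel

theorem c_cenK6_5 : cenF fK_6 (8736 * 5) 8736 = true := by decide +kernel

theorem c_cenK6_6 : cenF fK_6 (8736 * 6) 8736 = true := by decide +kernel

theorem c_cenK6_7 : cenF fK_6 (8736 * 7) 8736 = true := by decide +kernel

theorem c_cenK6_8 : cenF fK_6 (8736 * 8) 8736 = true := by decide +kernel

theorem c_cenK6_9 : cenF fK_6 (8736 * 9) 8736 = true := by decide +kernel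

theorem c_cenK6_10 : cenF fK_6 (8736 * 10) 8736 = true := by decide +kernel

theorem c_cenK6_11 : cenF fK_6 (8736 * 11) 8736 = true := by decide +kernel

theorem c_cenK6_12 : cenF fK_6 (8736 * 12) 8736 = true := by decide +kernel

theorem c_cenK6_13 : cenF fK_6 (8736 * 13) 8736 = true := by decide +kernel

theorem c_cenK6_14 : cenF fK_6 (8736 * 14) 8736 = true := by decide +kernel

theorem c_cenK6_15 : cenF fK_6 (8736 * 15) 8736 = true := by decide +kernel

theorem c_cenK7_0 : cenF fK_7 (8736 * 0) 8736 = true := by decide +kernel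

theorem c_cenK7_1 : cenF fK_7 (8736 * 1) 8736 = true := by decide +kernel

theorem c_cenK7_2 : cenF fK_7 (8736 * 2) 8736 = true := by decide +kernel

theorem c_cenK7_3 : cenF fK_7 (8736 * 3) 8736 = true := by decide +kernel

theorem c_cenK7_4 : cenF fK_7 (8736 * 4) 8736 = true := by decide +kernel

theorem c_cenK7_5 : cenF fK_7 (8736 * 5) 8736 = true := by decide +kernel

theorem c_cenK7_6 : cenF fK_7 (8736 * 6) 8736 = true := by decide +kernel

theorem c_cenK7_7 : cenF fK_7 (8736 * 7) 8736 = true := by decide +kernel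

theorem c_cenK7_8 : cenF fK_7 (8736 * 8) 8736 = true := by decide +kernel

theorem c_cenK7_9 : cenF fK_7 (8736 * 9) 8736 = true := by decide +kernel

theorem c_cenK7_10 : cenF fK_7 (8736 * 10) 8736 = true := by decide +kernel

theorem c_cenK7_11 : cenF fK_7 (8736 * 11) 8736 = true := by decide +kernel

theorem c_cenK7_12 : cenF fK_7 (8736 * 12) 8736 = true := by decide +kernel

theorem c_cenK7_13 : cenF fK_7 (8736 * 13) 8736 = true := by decide +kernel

theorem c_cenK7_14 : cenF fK_7 (8736 * 14) 8736 = true := by decide +kernel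

theorem c_cenK7_15 : cenF fK_7 (8736 * 15) 8736 = true := by decide +kernel

theorem c_ax3_0_0 : fxF cf_ax3_0 (8736 * 0) 8736 = true := by decide +kernel

theorem c_ax3_0_1 : fxF cf_ax3_0 (8736 * 1) 8736 = true := by decide +kernel

theorem c_ax3_0_2 : fxF cf_ax3_0 (8736 * 2) 8736 = true := by decide +kernel

theorem c_ax3_0_3 : fxF cf_ax3_0 (8736 * 3) 8736 = true := by decide +kernel

theorem c_ax3_0_4 : fxF cf_ax3_0 (8736 * 4) 8736 = true := by decide +kernel

theorem c_ax3_0_5 : fxF cf_ax3_0 (8736 * 5) 8736 = true := by decide +kernel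

theorem c_ax3_0_6 : fxF cf_ax3_0 (8736 * 6) 8736 = true := by decide +kernel

theorem c_ax3_0_7 : fxF cf_ax3_0 (8736 * 7) 8736 = true := by decide +kernel

theorem c_ax3_0_8 : fxF cf_ax3_0 (8736 * 8) 8736 = true := by decide +kernel

theorem c_ax3_0_9 : fxF cf_ax3_0 (8736 * 9) 8736 = true := by decide +kernel

theorem c_ax3_0_10 : fxF cf_ax3_0 (8736 * 10) 8736 = true := by decide +kernel

theorem c_ax3_0_11 : fxF cf_ax3_0 (8736 * 11) 8736 = true := by decide +kernel

theorem c_ax3_0_12 : fxF cf_ax3_0 (8736 * 12) 8736 = true := by decide +kernel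

theorem c_ax3_0_13 : fxF cf_ax3_0 (8736 * 13) 8736 = true := by decide +kernel

theorem c_ax3_0_14 : fxF cf_ax3_0 (8736 * 14) 8736 = true := by decide +kernel

theorem c_ax3_0_15 : fxF cf_ax3_0 (8736 * 15) 8736 = true := by decide +kernel

theorem c_ax3_1_0 : fxF cf_ax3_1 (8736 * 0) 8736 = true := by decide +kernel

theorem c_ax3_1_1 : fxF cf_ax3_1 (8736 * 1) 8736 = true := by decide +kernel

theorem c_ax3_1_2 : fxF cf_ax3_1 (8736 * 2) 8736 = true := by decide +kernel

theorem c_ax3_1_3 : fxF cf_ax3_1 (8736 * 3) 8736 = true := by decide +kernel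

theorem c_ax3_1_4 : fxF cf_ax3_1 (8736 * 4) 8736 = true := by decide +kernel

theorem c_ax3_1_5 : fxF cf_ax3_1 (8736 * 5) 8736 = true := by decide +kernel

theorem c_ax3_1_6 : fxF cf_ax3_1 (8736 * 6) 8736 = true := by decide +kernel

theorem c_ax3_1_7 : fxF cf_ax3_1 (8736 * 7) 8736 = true := by decide +kernel

theorem c_ax3_1_8 : fxF cf_ax3_1 (8736 * 8) 8736 = true := by decide +kernel

end Cfsg.Agent.Lib.Helper7.F42M
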