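import Cfsg.Agent.Lib.Helper7.F42MEC0
import Cfsg.Agent.Lib.Helper7.F42MEC1
import Cfsg.Agent.Lib.Helper7.F42MEC2
import Cfsg.Agent.Lib.Helper7.F42MEC3
import Cfsg.Agent.Lib.Helper7.F42MEC4
import Cfsg.Agent.Lib.Helper7.F42MEC5
import Cfsg.Agent.Lib.Helper7.F42MEC6
import Cfsg.Agent.Lib.Helper7.F42MEC7
import Cfsg.Agent.Lib.Helper7.F42MEC8
import Cfsg.Agent.Lib.Helper7.F42MEC9
import Cfsg.Agent.Lib.Helper7.F42MEC10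
import Cfsg.Agent.Lib.Helper7.F42MEC11
import Cfsg.Agent.Lib.Helper7.F42MEC12
import Cfsg.Agent.Lib.Helper7.F42MEC13
import Cfsg.Agent.Lib.Helper7.F42MEC14
import Cfsg.Agent.Lib.Helper7.F42MEC15
import Cfsg.Agent.Lib.Helper7.F42MEC16
import Cfsg.Agent.Lib.Helper7.F42MEC17
import Cfsg.Agent.Lib.Helper7.F42MEC18
import Cfsg.Agent.Lib.Helper7.F42MEC19
import Cfsg.Agent.Lib.Helper7.F42MEC20
import Cfsg.Agent.Lib.Helper7.F42MEC21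
import Cfsg.Agent.Lib.Helper7.F42MEC22
import Cfsg.Agent.Lib.Helper7.F42MEC23
import Cfsg.Agent.Lib.Helper7.F42MEC24
import Cfsg.Agent.Lib.Helper7.F42MEC25
import Cfsg.Agent.Lib.Helper7.F42MEC26
import Cfsg.Agent.Lib.Helper7.F42MEC27
import Cfsg.Agent.Lib.Helper7.F42MEC28
import Cfsg.Agent.Lib.Helper7.F42MEC29
import Cfsg.Agent.Lib.Helper7.F42MEC30
import Cfsg.Agent.Lib.Helper7.F42MEC31
import Cfsg.Agent.Lib.Helper7.F42MEC32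
import Cfsg.Agent.Lib.Helper7.F42MEC33
import Cfsg.Agent.Lib.Helper7.F42MEC34
import Cfsg.Agent.Lib.Helper7.F42MEC35
import Cfsg.Agent.Lib.Helper7.F42MEC36
import Cfsg.Agent.Lib.Helper7.F42MEC37
import Cfsg.Agent.Lib.Helper7.F42MEC38
import Cfsg.Agent.Lib.Helper7.F42MEC39

/-! # The multiplier of the Chevalley group of type F4 over the field of two elements: the checks of words on the 139776 points, put together (generated) -/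

set_option autoImplicit false
set_option maxRecDepth 100000

namespace Cfsg.Agent.Lib.Helper7.F42M

theorem c_axT0 : ∀ r, r < 16 → shF cf_axT0 1 (8736 * r) 8736 = true
  | 0, _ => c_axT0_0
  | 1, _ => c_axT0_1
  | 2, _ => c_axT0_2
  | 3, _ => c_axT0_3
  | 4, _ => c_axT0_4
  | 5, _ => c_axT0_5
  | 6, _ => c_axT0_6
  | 7, _ => c_axT0_7
  | 8, _ => c_axT0_8
  | 9, _ => c_axT0_9
  | 10, _ => c_axT0_10
  | 11, _ => c_axT0_11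
  | 12, _ => c_axT0_12
  | 13, _ => c_axT0_13
  | 14, _ => c_axT0_14
  | 15, _ => c_axT0_15
  | r + 16, h => absurd h (by omega)

theorem c_axT1 : ∀ r, r < 16 → fxF cf_axT1 (8736 * r) 8736 = true
  | 0, _ => c_axT1_0
  | 1, _ => c_axT1_1
  | 2, _ => c_axT1_2
  | 3, _ => c_axT1_3
  | 4, _ => c_axT1_4
  | 5, _ => c_axT1_5
  | 6, _ => c_axT1_6
  | 7, _ => c_axT1_7
  | 8, _ => c_axT1_8
  | 9, _ => c_axT1_9
  | 10, _ => c_axT1_10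
  | 11, _ => c_axT1_11
  | 12, _ => c_axT1_12
  | 13, _ => c_axT1_13
  | 14, _ => c_axT1_14
  | 15, _ => c_axT1_15
  | r + 16, h => absurd h (by omega)

theorem c_axT2 : ∀ r, r < 16 → fxF cf_axT2 (8736 * r) 8736 = true
  | 0, _ => c_axT2_0
  | 1, _ => c_axT2_1
  | 2, _ => c_axT2_2
  | 3, _ => c_axT2_3
  | 4, _ => c_axT2_4
  | 5, _ => c_axT2_5
  | 6, _ => c_axT2_6
  | 7, _ => c_axT2_7
  | 8, _ => c_axT2_8
  | 9, _ => c_axT2_9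
  | 10, _ => c_axT2_10
  | 11, _ => c_axT2_11
  | 12, _ => c_axT2_12
  | 13, _ => c_axT2_13
  | 14, _ => c_axT2_14
  | 15, _ => c_axT2_15
  | r + 16, h => absurd h (by omega)

theorem c_y17 : ∀ r, r < 64 → fxF cf_y17 (2184 * r) 2184 = true
  | 0, _ => c_y17_0
  | 1, _ => c_y17_1
  | 2, _ => c_y17_2
  | 3, _ => c_y17_3
  | 4, _ => c_y17_4
  | 5, _ => c_y17_5
  | 6, _ => c_y17_6
  | 7, _ => c_y17_7
  | 8, _ => c_y17_8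
  | 9, _ => c_y17_9
  | 10, _ => c_y17_10
  | 11, _ => c_y17_11
  | 12, _ => c_y17_12
  | 13, _ => c_y17_13
  | 14, _ => c_y17_14
  | 15, _ => c_y17_15
  | 16, _ => c_y17_16
  | 17, _ => c_y17_17
  | 18, _ => c_y17_18
  | 19, _ => c_y17_19
  | 20, _ => c_y17_20
  | 21, _ => c_y17_21
  | 22, _ => c_y17_22
  | 23, _ => c_y17_23
  | 24, _ => c_y17_24
  | 25, _ => c_y17_25
  | 26, _ => c_y17_26
  | 27, _ => c_y17_27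
  | 28, _ => c_y17_28
  | 29, _ => c_y17_29
  | 30, _ => c_y17_30
  | 31, _ => c_y17_31
  | 32, _ => c_y17_32
  | 33, _ => c_y17_33
  | 34, _ => c_y17_34
  | 35, _ => c_y17_35
  | 36, _ => c_y17_36
  | 37, _ => c_y17_37
  | 38, _ => c_y17_38
  | 39, _ => c_y17_39
  | 40, _ => c_y17_40
  | 41, _ => c_y17_41
  | 42, _ => c_y17_42
  | 43, _ => c_y17_43
  | 44, _ => c_y17_44
  | 45, _ => c_y17_45
  | 46, _ => c_y17_46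
  | 47, _ => c_y17_47
  | 48, _ => c_y17_48
  | 49, _ => c_y17_49
  | 50, _ => c_y17_50
  | 51, _ => c_y17_51
  | 52, _ => c_y17_52
  | 53, _ => c_y17_53
  | 54, _ => c_y17_54
  | 55, _ => c_y17_55
  | 56, _ => c_y17_56
  | 57, _ => c_y17_57
  | 58, _ => c_y17_58
  | 59, _ => c_y17_59
  | 60, _ => c_y17_60
  | 61, _ => c_y17_61
  | 62, _ => c_y17_62
  | 63, _ => c_y17_63
  | r + 64, h => absurd h (by omega)

theorem c_tri0 : ∀ r, r < 16 → fxF cf_tri0 (8736 * r) 8736 = true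
  | 0, _ => c_tri0_0
  | 1, _ => c_tri0_1
  | 2, _ => c_tri0_2
  | 3, _ => c_tri0_3
  | 4, _ => c_tri0_4
  | 5, _ => c_tri0_5
  | 6, _ => c_tri0_6
  | 7, _ => c_tri0_7
  | 8, _ => c_tri0_8
  | 9, _ => c_tri0_9
  | 10, _ => c_tri0_10
  | 11, _ => c_tri0_11
  | 12, _ => c_tri0_12
  | 13, _ => c_tri0_13
  | 14, _ => c_tri0_14
  | 15, _ => c_tri0_15
  | r + 16, h => absurd h (by omega)

theorem c_tri1 : ∀ r, r < 16 → fxF cf_tri1 (8736 * r) 8736 = true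
  | 0, _ => c_tri1_0
  | 1, _ => c_tri1_1
  | 2, _ => c_tri1_2
  | 3, _ => c_tri1_3
  | 4, _ => c_tri1_4
  | 5, _ => c_tri1_5
  | 6, _ => c_tri1_6
  | 7, _ => c_tri1_7
  | 8, _ => c_tri1_8
  | 9, _ => c_tri1_9
  | 10, _ => c_tri1_10
  | 11, _ => c_tri1_11
  | 12, _ => c_tri1_12
  | 13, _ => c_tri1_13
  | 14, _ => c_tri1_14
  | 15, _ => c_tri1_15
  | r + 16, h => absurd h (by omega)

theorem c_tri2 : ∀ r, r < 16 → fxF cf_tri2 (8736 * r) 8736 = true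
  | 0, _ => c_tri2_0
  | 1, _ => c_tri2_1
  | 2, _ => c_tri2_2
  | 3, _ => c_tri2_3
  | 4, _ => c_tri2_4
  | 5, _ => c_tri2_5
  | 6, _ => c_tri2_6
  | 7, _ => c_tri2_7
  | 8, _ => c_tri2_8
  | 9, _ => c_tri2_9
  | 10, _ => c_tri2_10
  | 11, _ => c_tri2_11
  | 12, _ => c_tri2_12
  | 13, _ => c_tri2_13
  | 14, _ => c_tri2_14
  | 15, _ => c_tri2_15
  | r + 16, h => absurd h (by omega)

theorem c_tri3 : ∀ r, r < 16 → fxF cf_tri3 (8736 * r) 8736 = true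
  | 0, _ => c_tri3_0
  | 1, _ => c_tri3_1
  | 2, _ => c_tri3_2
  | 3, _ => c_tri3_3
  | 4, _ => c_tri3_4
  | 5, _ => c_tri3_5
  | 6, _ => c_tri3_6
  | 7, _ => c_tri3_7
  | 8, _ => c_tri3_8
  | 9, _ => c_tri3_9
  | 10, _ => c_tri3_10
  | 11, _ => c_tri3_11
  | 12, _ => c_tri3_12
  | 13, _ => c_tri3_13
  | 14, _ => c_tri3_14
  | 15, _ => c_tri3_15
  | r + 16, h => absurd h (by omega)

theorem c_tri4 : ∀ r, r < 16 → fxF cf_tri4 (8736 * r) 8736 = true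
  | 0, _ => c_tri4_0
  | 1, _ => c_tri4_1
  | 2, _ => c_tri4_2
  | 3, _ => c_tri4_3
  | 4, _ => c_tri4_4
  | 5, _ => c_tri4_5
  | 6, _ => c_tri4_6
  | 7, _ => c_tri4_7
  | 8, _ => c_tri4_8
  | 9, _ => c_tri4_9
  | 10, _ => c_tri4_10
  | 11, _ => c_tri4_11
  | 12, _ => c_tri4_12
  | 13, _ => c_tri4_13
  | 14, _ => c_tri4_14
  | 15, _ => c_tri4_15
  | r + 16, h => absurd h (by omega)

theorem c_tri5 : ∀ r, r < 16 → fxF cf_tri5 (8736 * r) 8736 = true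
  | 0, _ => c_tri5_0
  | 1, _ => c_tri5_1
  | 2, _ => c_tri5_2
  | 3, _ => c_tri5_3
  | 4, _ => c_tri5_4
  | 5, _ => c_tri5_5
  | 6, _ => c_tri5_6
  | 7, _ => c_tri5_7
  | 8, _ => c_tri5_8
  | 9, _ => c_tri5_9
  | 10, _ => c_tri5_10
  | 11, _ => c_tri5_11
  | 12, _ => c_tri5_12
  | 13, _ => c_tri5_13
  | 14, _ => c_tri5_14
  | 15, _ => c_tri5_15
  | r + 16, h => absurd h (by omega)

theorem c_tri6 : ∀ r, r < 16 → fxF cf_tri6 (8736 * r) 8736 = true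
  | 0, _ => c_tri6_0
  | 1, _ => c_tri6_1
  | 2, _ => c_tri6_2
  | 3, _ => c_tri6_3
  | 4, _ => c_tri6_4
  | 5, _ => c_tri6_5
  | 6, _ => c_tri6_6
  | 7, _ => c_tri6_7
  | 8, _ => c_tri6_8
  | 9, _ => c_tri6_9
  | 10, _ => c_tri6_10
  | 11, _ => c_tri6_11
  | 12, _ => c_tri6_12
  | 13, _ => c_tri6_13
  | 14, _ => c_tri6_14
  | 15, _ => c_tri6_15
  | r + 16, h => absurd h (by omega)

theorem c_tri7 : ∀ r, r < 16 → fxF cf_tri7 (8736 * r) 8736 = true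
  | 0, _ => c_tri7_0
  | 1, _ => c_tri7_1
  | 2, _ => c_tri7_2
  | 3, _ => c_tri7_3
  | 4, _ => c_tri7_4
  | 5, _ => c_tri7_5
  | 6, _ => c_tri7_6
  | 7, _ => c_tri7_7
  | 8, _ => c_tri7_8
  | 9, _ => c_tri7_9
  | 10, _ => c_tri7_10
  | 11, _ => c_tri7_11
  | 12, _ => c_tri7_12
  | 13, _ => c_tri7_13
  | 14, _ => c_tri7_14
  | 15, _ => c_tri7_15
  | r + 16, h => absurd h (by omega)

theorem c_s6 : ∀ r, r < 16 → fxF cf_s6 (8736 * r) 8736 = true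
  | 0, _ => c_s6_0
  | 1, _ => c_s6_1
  | 2, _ => c_s6_2
  | 3, _ => c_s6_3
  | 4, _ => c_s6_4
  | 5, _ => c_s6_5
  | 6, _ => c_s6_6
  | 7, _ => c_s6_7
  | 8, _ => c_s6_8
  | 9, _ => c_s6_9
  | 10, _ => c_s6_10
  | 11, _ => c_s6_11
  | 12, _ => c_s6_12
  | 13, _ => c_s6_13
  | 14, _ => c_s6_14
  | 15, _ => c_s6_15
  | r + 16, h => absurd h (by omega)

theorem c_cen0 : ∀ r, r < 16 → cenF f5_0 (8736 * r) 8736 = true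
  | 0, _ => c_cen0_0
  | 1, _ => c_cen0_1
  | 2, _ => c_cen0_2
  | 3, _ => c_cen0_3
  | 4, _ => c_cen0_4
  | 5, _ => c_cen0_5
  | 6, _ => c_cen0_6
  | 7, _ => c_cen0_7
  | 8, _ => c_cen0_8
  | 9, _ => c_cen0_9
  | 10, _ => c_cen0_10
  | 11, _ => c_cen0_11
  | 12, _ => c_cen0_12
  | 13, _ => c_cen0_13
  | 14, _ => c_cen0_14
  | 15, _ => c_cen0_15
  | r + 16, h => absurd h (by omega)

theorem c_cen1 : ∀ r, r < 16 → cenF f5_1 (8736 * r) 8736 = true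
  | 0, _ => c_cen1_0
  | 1, _ => c_cen1_1
  | 2, _ => c_cen1_2
  | 3, _ => c_cen1_3
  | 4, _ => c_cen1_4
  | 5, _ => c_cen1_5
  | 6, _ => c_cen1_6
  | 7, _ => c_cen1_7
  | 8, _ => c_cen1_8
  | 9, _ => c_cen1_9
  | 10, _ => c_cen1_10
  | 11, _ => c_cen1_11
  | 12, _ => c_cen1_12
  | 13, _ => c_cen1_13
  | 14, _ => c_cen1_14
  | 15, _ => c_cen1_15
  | r + 16, h => absurd h (by omega)

theorem c_cen2 : ∀ r, r < 16 → cenF f5_2 (8736 * r) 8736 = true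
  | 0, _ => c_cen2_0
  | 1, _ => c_cen2_1
  | 2, _ => c_cen2_2
  | 3, _ => c_cen2_3
  | 4, _ => c_cen2_4
  | 5, _ => c_cen2_5
  | 6, _ => c_cen2_6
  | 7, _ => c_cen2_7
  | 8, _ => c_cen2_8
  | 9, _ => c_cen2_9
  | 10, _ => c_cen2_10
  | 11, _ => c_cen2_11
  | 12, _ => c_cen2_12
  | 13, _ => c_cen2_13
  | 14, _ => c_cen2_14
  | 15, _ => c_cen2_15
  | r + 16, h => absurd h (by omega)

theorem c_cen3 : ∀ r, r < 16 → cenF f5_3 (8736 * r) 8736 = true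
  | 0, _ => c_cen3_0
  | 1, _ => c_cen3_1
  | 2, _ => c_cen3_2
  | 3, _ => c_cen3_3
  | 4, _ => c_cen3_4
  | 5, _ => c_cen3_5
  | 6, _ => c_cen3_6
  | 7, _ => c_cen3_7
  | 8, _ => c_cen3_8
  | 9, _ => c_cen3_9
  | 10, _ => c_cen3_10
  | 11, _ => c_cen3_11
  | 12, _ => c_cen3_12
  | 13, _ => c_cen3_13
  | 14, _ => c_cen3_14
  | 15, _ => c_cen3_15
  | r + 16, h => absurd h (by omega)

theorem c_cen4 : ∀ r, r < 16 → cenF f5_4 (8736 * r) 8736 = true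
  | 0, _ => c_cen4_0
  | 1, _ => c_cen4_1
  | 2, _ => c_cen4_2
  | 3, _ => c_cen4_3
  | 4, _ => c_cen4_4
  | 5, _ => c_cen4_5
  | 6, _ => c_cen4_6
  | 7, _ => c_cen4_7
  | 8, _ => c_cen4_8
  | 9, _ => c_cen4_9
  | 10, _ => c_cen4_10
  | 11, _ => c_cen4_11
  | 12, _ => c_cen4_12
  | 13, _ => c_cen4_13
  | 14, _ => c_cen4_14
  | 15, _ => c_cen4_15
  | r + 16, h => absurd h (by omega)

theorem c_cen5 : ∀ r, r < 16 → cenF f5_5 (8736 * r) 8736 = true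
  | 0, _ => c_cen5_0
  | 1, _ => c_cen5_1
  | 2, _ => c_cen5_2
  | 3, _ => c_cen5_3
  | 4, _ => c_cen5_4
  | 5, _ => c_cen5_5
  | 6, _ => c_cen5_6
  | 7, _ => c_cen5_7
  | 8, _ => c_cen5_8
  | 9, _ => c_cen5_9
  | 10, _ => c_cen5_10
  | 11, _ => c_cen5_11
  | 12, _ => c_cen5_12
  | 13, _ => c_cen5_13
  | 14, _ => c_cen5_14
  | 15, _ => c_cen5_15
  | r + 16, h => absurd h (by omega)

theorem c_cen6 : ∀ r, r < 16 → cenF f5_6 (8736 * r) 8736 = true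
  | 0, _ => c_cen6_0
  | 1, _ => c_cen6_1
  | 2, _ => c_cen6_2
  | 3, _ => c_cen6_3
  | 4, _ => c_cen6_4
  | 5, _ => c_cen6_5
  | 6, _ => c_cen6_6
  | 7, _ => c_cen6_7
  | 8, _ => c_cen6_8
  | 9, _ => c_cen6_9
  | 10, _ => c_cen6_10
  | 11, _ => c_cen6_11
  | 12, _ => c_cen6_12
  | 13, _ => c_cen6_13
  | 14, _ => c_cen6_14
  | 15, _ => c_cen6_15
  | r + 16, h => absurd h (by omega)

theorem c_cen7 : ∀ r, r < 16 → cenF f5_7 (8736 * r) 8736 = true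
  | 0, _ => c_cen7_0
  | 1, _ => c_cen7_1
  | 2, _ => c_cen7_2
  | 3, _ => c_cen7_3
  | 4, _ => c_cen7_4
  | 5, _ => c_cen7_5
  | 6, _ => c_cen7_6
  | 7, _ => c_cen7_7
  | 8, _ => c_cen7_8
  | 9, _ => c_cen7_9
  | 10, _ => c_cen7_10
  | 11, _ => c_cen7_11
  | 12, _ => c_cen7_12
  | 13, _ => c_cen7_13
  | 14, _ => c_cen7_14
  | 15, _ => c_cen7_15
  | r + 16, h => absurd h (by omega)

theorem c_cen8 : ∀ r, r < 16 → cenF f5_8 (8736 * r) 8736 = true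
  | 0, _ => c_cen8_0
  | 1, _ => c_cen8_1
  | 2, _ => c_cen8_2
  | 3, _ => c_cen8_3
  | 4, _ => c_cen8_4
  | 5, _ => c_cen8_5
  | 6, _ => c_cen8_6
  | 7, _ => c_cen8_7
  | 8, _ => c_cen8_8
  | 9, _ => c_cen8_9
  | 10, _ => c_cen8_10
  | 11, _ => c_cen8_11
  | 12, _ => c_cen8_12
  | 13, _ => c_cen8_13
  | 14, _ => c_cen8_14
  | 15, _ => c_cen8_15
  | r + 16, h => absurd h (by omega)

theorem c_cen9 : ∀ r, r < 16 → cenF f5_9 (8736 * r) 8736 = true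
  | 0, _ => c_cen9_0
  | 1, _ => c_cen9_1
  | 2, _ => c_cen9_2
  | 3, _ => c_cen9_3
  | 4, _ => c_cen9_4
  | 5, _ => c_cen9_5
  | 6, _ => c_cen9_6
  | 7, _ => c_cen9_7
  | 8, _ => c_cen9_8
  | 9, _ => c_cen9_9
  | 10, _ => c_cen9_10
  | 11, _ => c_cen9_11
  | 12, _ => c_cen9_12
  | 13, _ => c_cen9_13
  | 14, _ => c_cen9_14
  | 15, _ => c_cen9_15
  | r + 16, h => absurd h (by omega)

theorem c_cen10 : ∀ r, r < 16 → cenF f5_10 (8736 * r) 8736 = true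
  | 0, _ => c_cen10_0
  | 1, _ => c_cen10_1
  | 2, _ => c_cen10_2
  | 3, _ => c_cen10_3
  | 4, _ => c_cen10_4
  | 5, _ => c_cen10_5
  | 6, _ => c_cen10_6
  | 7, _ => c_cen10_7
  | 8, _ => c_cen10_8
  | 9, _ => c_cen10_9
  | 10, _ => c_cen10_10
  | 11, _ => c_cen10_11
  | 12, _ => c_cen10_12
  | 13, _ => c_cen10_13
  | 14, _ => c_cen10_14
  | 15, _ => c_cen10_15
  | r + 16, h => absurd h (by omega)

theorem c_cen11 : ∀ r, r < 16 → cenF f5_11 (8736 * r) 8736 = true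
  | 0, _ => c_cen11_0
  | 1, _ => c_cen11_1
  | 2, _ => c_cen11_2
  | 3, _ => c_cen11_3
  | 4, _ => c_cen11_4
  | 5, _ => c_cen11_5
  | 6, _ => c_cen11_6
  | 7, _ => c_cen11_7
  | 8, _ => c_cen11_8
  | 9, _ => c_cen11_9
  | 10, _ => c_cen11_10
  | 11, _ => c_cen11_11
  | 12, _ => c_cen11_12
  | 13, _ => c_cen11_13
  | 14, _ => c_cen11_14
  | 15, _ => c_cen11_15
  | r + 16, h => absurd h (by omega)

theorem c_cenK0 : ∀ r, r < 16 → cenF fK_0 (8736 * r) 8736 = true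
  | 0, _ => c_cenK0_0
  | 1, _ => c_cenK0_1
  | 2, _ => c_cenK0_2
  | 3, _ => c_cenK0_3
  | 4, _ => c_cenK0_4
  | 5, _ => c_cenK0_5
  | 6, _ => c_cenK0_6
  | 7, _ => c_cenK0_7
  | 8, _ => c_cenK0_8
  | 9, _ => c_cenK0_9
  | 10, _ => c_cenK0_10
  | 11, _ => c_cenK0_11
  | 12, _ => c_cenK0_12
  | 13, _ => c_cenK0_13
  | 14, _ => c_cenK0_14
  | 15, _ => c_cenK0_15
  | r + 16, h => absurd h (by omega)

theorem c_cenK1 : ∀ r, r < 16 → cenF fK_1 (8736 * r) 8736 = true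
  | 0, _ => c_cenK1_0
  | 1, _ => c_cenK1_1
  | 2, _ => c_cenK1_2
  | 3, _ => c_cenK1_3
  | 4, _ => c_cenK1_4
  | 5, _ => c_cenK1_5
  | 6, _ => c_cenK1_6
  | 7, _ => c_cenK1_7
  | 8, _ => c_cenK1_8
  | 9, _ => c_cenK1_9
  | 10, _ => c_cenK1_10
  | 11, _ => c_cenK1_11
  | 12, _ => c_cenK1_12
  | 13, _ => c_cenK1_13
  | 14, _ => c_cenK1_14
  | 15, _ => c_cenK1_15
  | r + 16, h => absurd h (by omega)

theorem c_cenK2 : ∀ r, r < 16 → cenF fK_2 (8736 * r) 8736 = true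
  | 0, _ => c_cenK2_0
  | 1, _ => c_cenK2_1
  | 2, _ => c_cenK2_2
  | 3, _ => c_cenK2_3
  | 4, _ => c_cenK2_4
  | 5, _ => c_cenK2_5
  | 6, _ => c_cenK2_6
  | 7, _ => c_cenK2_7
  | 8, _ => c_cenK2_8
  | 9, _ => c_cenK2_9
  | 10, _ => c_cenK2_10
  | 11, _ => c_cenK2_11
  | 12, _ => c_cenK2_12
  | 13, _ => c_cenK2_13
  | 14, _ => c_cenK2_14
  | 15, _ => c_cenK2_15
  | r + 16, h => absurd h (by omega)

theorem c_cenK3 : ∀ r, r < 16 → cenF fK_3 (8736 * r) 8736 = true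
  | 0, _ => c_cenK3_0
  | 1, _ => c_cenK3_1
  | 2, _ => c_cenK3_2
  | 3, _ => c_cenK3_3
  | 4, _ => c_cenK3_4
  | 5, _ => c_cenK3_5
  | 6, _ => c_cenK3_6
  | 7, _ => c_cenK3_7
  | 8, _ => c_cenK3_8
  | 9, _ => c_cenK3_9
  | 10, _ => c_cenK3_10
  | 11, _ => c_cenK3_11
  | 12, _ => c_cenK3_12
  | 13, _ => c_cenK3_13
  | 14, _ => c_cenK3_14
  | 15, _ => c_cenK3_15
  | r + 16, h => absurd h (by omega)

theorem c_cenK4 : ∀ r, r < 16 → cenF fK_4 (8736 * r) 8736 = true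
  | 0, _ => c_cenK4_0
  | 1, _ => c_cenK4_1
  | 2, _ => c_cenK4_2
  | 3, _ => c_cenK4_3
  | 4, _ => c_cenK4_4
  | 5, _ => c_cenK4_5
  | 6, _ => c_cenK4_6
  | 7, _ => c_cenK4_7
  | 8, _ => c_cenK4_8
  | 9, _ => c_cenK4_9
  | 10, _ => c_cenK4_10
  | 11, _ => c_cenK4_11
  | 12, _ => c_cenK4_12
  | 13, _ => c_cenK4_13
  | 14, _ => c_cenK4_14
  | 15, _ => c_cenK4_15
  | r + 16, h => absurd h (by omega)

theorem c_cenK5 : ∀ r, r < 16 → cenF fK_5 (8736 * r) 8736 = true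
  | 0, _ => c_cenK5_0
  | 1, _ => c_cenK5_1
  | 2, _ => c_cenK5_2
  | 3, _ => c_cenK5_3
  | 4, _ => c_cenK5_4
  | 5, _ => c_cenK5_5
  | 6, _ => c_cenK5_6
  | 7, _ => c_cenK5_7
  | 8, _ => c_cenK5_8
  | 9, _ => c_cenK5_9
  | 10, _ => c_cenK5_10
  | 11, _ => c_cenK5_11
  | 12, _ => c_cenK5_12
  | 13, _ => c_cenK5_13
  | 14, _ => c_cenK5_14
  | 15, _ => c_cenK5_15
  | r + 16, h => absurd h (by omega)

theorem c_cenK6 : ∀ r, r < 16 → cenF fK_6 (8736 * r) 8736 = true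
  | 0, _ => c_cenK6_0
  | 1, _ => c_cenK6_1
  | 2, _ => c_cenK6_2
  | 3, _ => c_cenK6_3
  | 4, _ => c_cenK6_4
  | 5, _ => c_cenK6_5
  | 6, _ => c_cenK6_6
  | 7, _ => c_cenK6_7
  | 8, _ => c_cenK6_8
  | 9, _ => c_cenK6_9
  | 10, _ => c_cenK6_10
  | 11, _ => c_cenK6_11
  | 12, _ => c_cenK6_12
  | 13, _ => c_cenK6_13
  | 14, _ => c_cenK6_14
  | 15, _ => c_cenK6_15
  | r + 16, h => absurd h (by omega)

theorem c_cenK7 : ∀ r, r < 16 → cenF fK_7 (8736 * r) 8736 = true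
  | 0, _ => c_cenK7_0
  | 1, _ => c_cenK7_1
  | 2, _ => c_cenK7_2
  | 3, _ => c_cenK7_3
  | 4, _ => c_cenK7_4
  | 5, _ => c_cenK7_5
  | 6, _ => c_cenK7_6
  | 7, _ => c_cenK7_7
  | 8, _ => c_cenK7_8
  | 9, _ => c_cenK7_9
  | 10, _ => c_cenK7_10
  | 11, _ => c_cenK7_11
  | 12, _ => c_cenK7_12
  | 13, _ => c_cenK7_13
  | 14, _ => c_cenK7_14
  | 15, _ => c_cenK7_15
  | r + 16, h => absurd h (by omega)

theorem c_ax3_0 : ∀ r, r < 16 → fxF cf_ax3_0 (8736 * r) 8736 = true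
  | 0, _ => c_ax3_0_0
  | 1, _ => c_ax3_0_1
  | 2, _ => c_ax3_0_2
  | 3, _ => c_ax3_0_3
  | 4, _ => c_ax3_0_4
  | 5, _ => c_ax3_0_5
  | 6, _ => c_ax3_0_6
  | 7, _ => c_ax3_0_7
  | 8, _ => c_ax3_0_8
  | 9, _ => c_ax3_0_9
  | 10, _ => c_ax3_0_10
  | 11, _ => c_ax3_0_11
  | 12, _ => c_ax3_0_12
  | 13, _ => c_ax3_0_13
  | 14, _ => c_ax3_0_14
  | 15, _ => c_ax3_0_15
  | r + 16, h => absurd h (by omega)

theorem c_ax3_1 : ∀ r, r < 16 → fxF cf_ax3_1 (8736 * r) 8736 = true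
  | 0, _ => c_ax3_1_0
  | 1, _ => c_ax3_1_1
  | 2, _ => c_ax3_1_2
  | 3, _ => c_ax3_1_3
  | 4, _ => c_ax3_1_4
  | 5, _ => c_ax3_1_5
  | 6, _ => c_ax3_1_6
  | 7, _ => c_ax3_1_7
  | 8, _ => c_ax3_1_8
  | 9, _ => c_ax3_1_9
  | 10, _ => c_ax3_1_10
  | 11, _ => c_ax3_1_11
  | 12, _ => c_ax3_1_12
  | 13, _ => c_ax3_1_13
  | 14, _ => c_ax3_1_14
  | 15, _ => c_ax3_1_15
  | r + 16, h => absurd h (by omega)

theorem c_ax3_2 : ∀ r, r < 16 → fxF cf_ax3_2 (8736 * r) 8736 = true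
  | 0, _ => c_ax3_2_0
  | 1, _ => c_ax3_2_1
  | 2, _ => c_ax3_2_2
  | 3, _ => c_ax3_2_3
  | 4, _ => c_ax3_2_4
  | 5, _ => c_ax3_2_5
  | 6, _ => c_ax3_2_6
  | 7, _ => c_ax3_2_7
  | 8, _ => c_ax3_2_8
  | 9, _ => c_ax3_2_9
  | 10, _ => c_ax3_2_10
  | 11, _ => c_ax3_2_11
  | 12, _ => c_ax3_2_12
  | 13, _ => c_ax3_2_13
  | 14, _ => c_ax3_2_14
  | 15, _ => c_ax3_2_15
  | r + 16, h => absurd h (by omega)

theorem c_ax3_3 : ∀ r, r < 16 → fxF cf_ax3_3 (8736 * r) 8736 = true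
  | 0, _ => c_ax3_3_0
  | 1, _ => c_ax3_3_1
  | 2, _ => c_ax3_3_2
  | 3, _ => c_ax3_3_3
  | 4, _ => c_ax3_3_4
  | 5, _ => c_ax3_3_5
  | 6, _ => c_ax3_3_6
  | 7, _ => c_ax3_3_7
  | 8, _ => c_ax3_3_8
  | 9, _ => c_ax3_3_9
  | 10, _ => c_ax3_3_10
  | 11, _ => c_ax3_3_11
  | 12, _ => c_ax3_3_12
  | 13, _ => c_ax3_3_13
  | 14, _ => c_ax3_3_14
  | 15, _ => c_ax3_3_15
  | r + 16, h => absurd h (by omega)

theorem c_ax3_4 : ∀ r, r < 16 → fxF cf_ax3_4 (8736 * r) 8736 = true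
  | 0, _ => c_ax3_4_0
  | 1, _ => c_ax3_4_1
  | 2, _ => c_ax3_4_2
  | 3, _ => c_ax3_4_3
  | 4, _ => c_ax3_4_4
  | 5, _ => c_ax3_4_5
  | 6, _ => c_ax3_4_6
  | 7, _ => c_ax3_4_7
  | 8, _ => c_ax3_4_8
  | 9, _ => c_ax3_4_9
  | 10, _ => c_ax3_4_10
  | 11, _ => c_ax3_4_11
  | 12, _ => c_ax3_4_12
  | 13, _ => c_ax3_4_13
  | 14, _ => c_ax3_4_14
  | 15, _ => c_ax3_4_15
  | r + 16, h => absurd h (by omega)

theorem c_ax3_5 : ∀ r, r < 16 → fxF cf_ax3_5 (8736 * r) 8736 = true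
  | 0, _ => c_ax3_5_0
  | 1, _ => c_ax3_5_1
  | 2, _ => c_ax3_5_2
  | 3, _ => c_ax3_5_3
  | 4, _ => c_ax3_5_4
  | 5, _ => c_ax3_5_5
  | 6, _ => c_ax3_5_6
  | 7, _ => c_ax3_5_7
  | 8, _ => c_ax3_5_8
  | 9, _ => c_ax3_5_9
  | 10, _ => c_ax3_5_10
  | 11, _ => c_ax3_5_11
  | 12, _ => c_ax3_5_12
  | 13, _ => c_ax3_5_13
  | 14, _ => c_ax3_5_14
  | 15, _ => c_ax3_5_15
  | r + 16, h => absurd h (by omega)

theorem c_ax3_6 : ∀ r, r < 16 → fxF cf_ax3_6 (8736 * r) 8736 = true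
  | 0, _ => c_ax3_6_0
  | 1, _ => c_ax3_6_1
  | 2, _ => c_ax3_6_2
  | 3, _ => c_ax3_6_3
  | 4, _ => c_ax3_6_4
  | 5, _ => c_ax3_6_5
  | 6, _ => c_ax3_6_6
  | 7, _ => c_ax3_6_7
  | 8, _ => c_ax3_6_8
  | 9, _ => c_ax3_6_9
  | 10, _ => c_ax3_6_10
  | 11, _ => c_ax3_6_11
  | 12, _ => c_ax3_6_12
  | 13, _ => c_ax3_6_13
  | 14, _ => c_ax3_6_14
  | 15, _ => c_ax3_6_15
  | r + 16, h => absurd h (by omega)

theorem c_ax3_7 : ∀ r, r < 16 → fxF cf_ax3_7 (8736 * r) 8736 = true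
  | 0, _ => c_ax3_7_0
  | 1, _ => c_ax3_7_1
  | 2, _ => c_ax3_7_2
  | 3, _ => c_ax3_7_3
  | 4, _ => c_ax3_7_4
  | 5, _ => c_ax3_7_5
  | 6, _ => c_ax3_7_6
  | 7, _ => c_ax3_7_7
  | 8, _ => c_ax3_7_8
  | 9, _ => c_ax3_7_9
  | 10, _ => c_ax3_7_10
  | 11, _ => c_ax3_7_11
  | 12, _ => c_ax3_7_12
  | 13, _ => c_ax3_7_13
  | 14, _ => c_ax3_7_14
  | 15, _ => c_ax3_7_15
  | r + 16, h => absurd h (by omega)

theorem c_ax3_8 : ∀ r, r < 16 → fxF cf_ax3_8 (8736 * r) 8736 = true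
  | 0, _ => c_ax3_8_0
  | 1, _ => c_ax3_8_1
  | 2, _ => c_ax3_8_2
  | 3, _ => c_ax3_8_3
  | 4, _ => c_ax3_8_4
  | 5, _ => c_ax3_8_5
  | 6, _ => c_ax3_8_6
  | 7, _ => c_ax3_8_7
  | 8, _ => c_ax3_8_8
  | 9, _ => c_ax3_8_9
  | 10, _ => c_ax3_8_10
  | 11, _ => c_ax3_8_11
  | 12, _ => c_ax3_8_12
  | 13, _ => c_ax3_8_13
  | 14, _ => c_ax3_8_14
  | 15, _ => c_ax3_8_15
  | r + 16, h => absurd h (by omega)

theorem c_ax3_9 : ∀ r, r < 16 → fxF cf_ax3_9 (8736 * r) 8736 = true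
  | 0, _ => c_ax3_9_0
  | 1, _ => c_ax3_9_1
  | 2, _ => c_ax3_9_2
  | 3, _ => c_ax3_9_3
  | 4, _ => c_ax3_9_4
  | 5, _ => c_ax3_9_5
  | 6, _ => c_ax3_9_6
  | 7, _ => c_ax3_9_7
  | 8, _ => c_ax3_9_8
  | 9, _ => c_ax3_9_9
  | 10, _ => c_ax3_9_10
  | 11, _ => c_ax3_9_11
  | 12, _ => c_ax3_9_12
  | 13, _ => c_ax3_9_13
  | 14, _ => c_ax3_9_14
  | 15, _ => c_ax3_9_15
  | r + 16, h => absurd h (by omega)

theorem c_ax3_10 : ∀ r, r < 16 → fxF cf_ax3_10 (8736 * r) 8736 = true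
  | 0, _ => c_ax3_10_0
  | 1, _ => c_ax3_10_1
  | 2, _ => c_ax3_10_2
  | 3, _ => c_ax3_10_3
  | 4, _ => c_ax3_10_4
  | 5, _ => c_ax3_10_5
  | 6, _ => c_ax3_10_6
  | 7, _ => c_ax3_10_7
  | 8, _ => c_ax3_10_8
  | 9, _ => c_ax3_10_9
  | 10, _ => c_ax3_10_10
  | 11, _ => c_ax3_10_11
  | 12, _ => c_ax3_10_12
  | 13, _ => c_ax3_10_13
  | 14, _ => c_ax3_10_14
  | 15, _ => c_ax3_10_15
  | r + 16, h => absurd h (by omega)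

theorem c_ax3_11 : ∀ r, r < 16 → fxF cf_ax3_11 (8736 * r) 8736 = true
  | 0, _ => c_ax3_11_0
  | 1, _ => c_ax3_11_1
  | 2, _ => c_ax3_11_2
  | 3, _ => c_ax3_11_3
  | 4, _ => c_ax3_11_4
  | 5, _ => c_ax3_11_5
  | 6, _ => c_ax3_11_6
  | 7, _ => c_ax3_11_7
  | 8, _ => c_ax3_11_8
  | 9, _ => c_ax3_11_9
  | 10, _ => c_ax3_11_10
  | 11, _ => c_ax3_11_11
  | 12, _ => c_ax3_11_12
  | 13, _ => c_ax3_11_13
  | 14, _ => c_ax3_11_14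
  | 15, _ => c_ax3_11_15
  | r + 16, h => absurd h (by omega)

theorem c_ax3_12 : ∀ r, r < 16 → fxF cf_ax3_12 (8736 * r) 8736 = true
  | 0, _ => c_ax3_12_0
  | 1, _ => c_ax3_12_1
  | 2, _ => c_ax3_12_2
  | 3, _ => c_ax3_12_3
  | 4, _ => c_ax3_12_4
  | 5, _ => c_ax3_12_5
  | 6, _ => c_ax3_12_6
  | 7, _ => c_ax3_12_7
  | 8, _ => c_ax3_12_8
  | 9, _ => c_ax3_12_9
  | 10, _ => c_ax3_12_10
  | 11, _ => c_ax3_12_11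
  | 12, _ => c_ax3_12_12
  | 13, _ => c_ax3_12_13
  | 14, _ => c_ax3_12_14
  | 15, _ => c_ax3_12_15
  | r + 16, h => absurd h (by omega)

theorem c_ax3_13 : ∀ r, r < 16 → fxF cf_ax3_13 (8736 * r) 8736 = true
  | 0, _ => c_ax3_13_0
  | 1, _ => c_ax3_13_1
  | 2, _ => c_ax3_13_2
  | 3, _ => c_ax3_13_3
  | 4, _ => c_ax3_13_4
  | 5, _ => c_ax3_13_5
  | 6, _ => c_ax3_13_6
  | 7, _ => c_ax3_13_7
  | 8, _ => c_ax3_13_8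
  | 9, _ => c_ax3_13_9
  | 10, _ => c_ax3_13_10
  | 11, _ => c_ax3_13_11
  | 12, _ => c_ax3_13_12
  | 13, _ => c_ax3_13_13
  | 14, _ => c_ax3_13_14
  | 15, _ => c_ax3_13_15
  | r + 16, h => absurd h (by omega)

theorem c_ax2_0 : ∀ r, r < 16 → fxF cf_ax2_0 (8736 * r) 8736 = true
  | 0, _ => c_ax2_0_0
  | 1, _ => c_ax2_0_1
  | 2, _ => c_ax2_0_2
  | 3, _ => c_ax2_0_3
  | 4, _ => c_ax2_0_4
  | 5, _ => c_ax2_0_5
  | 6, _ => c_ax2_0_6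
  | 7, _ => c_ax2_0_7
  | 8, _ => c_ax2_0_8
  | 9, _ => c_ax2_0_9
  | 10, _ => c_ax2_0_10
  | 11, _ => c_ax2_0_11
  | 12, _ => c_ax2_0_12
  | 13, _ => c_ax2_0_13
  | 14, _ => c_ax2_0_14
  | 15, _ => c_ax2_0_15
  | r + 16, h => absurd h (by omega)

theorem c_ax2_1 : ∀ r, r < 16 → fxF cf_ax2_1 (8736 * r) 8736 = true
  | 0, _ => c_ax2_1_0
  | 1, _ => c_ax2_1_1
  | 2, _ => c_ax2_1_2
  | 3, _ => c_ax2_1_3
  | 4, _ => c_ax2_1_4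
  | 5, _ => c_ax2_1_5
  | 6, _ => c_ax2_1_6
  | 7, _ => c_ax2_1_7
  | 8, _ => c_ax2_1_8
  | 9, _ => c_ax2_1_9
  | 10, _ => c_ax2_1_10
  | 11, _ => c_ax2_1_11
  | 12, _ => c_ax2_1_12
  | 13, _ => c_ax2_1_13
  | 14, _ => c_ax2_1_14
  | 15, _ => c_ax2_1_15
  | r + 16, h => absurd h (by omega)

theorem c_ax2_2 : ∀ r, r < 16 → fxF cf_ax2_2 (8736 * r) 8736 = true
  | 0, _ => c_ax2_2_0
  | 1, _ => c_ax2_2_1
  | 2, _ => c_ax2_2_2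
  | 3, _ => c_ax2_2_3
  | 4, _ => c_ax2_2_4
  | 5, _ => c_ax2_2_5
  | 6, _ => c_ax2_2_6
  | 7, _ => c_ax2_2_7
  | 8, _ => c_ax2_2_8
  | 9, _ => c_ax2_2_9
  | 10, _ => c_ax2_2_10
  | 11, _ => c_ax2_2_11
  | 12, _ => c_ax2_2_12
  | 13, _ => c_ax2_2_13
  | 14, _ => c_ax2_2_14
  | 15, _ => c_ax2_2_15
  | r + 16, h => absurd h (by omega)

theorem c_ax2_3 : ∀ r, r < 16 → fxF cf_ax2_3 (8736 * r) 8736 = true
  | 0, _ => c_ax2_3_0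
  | 1, _ => c_ax2_3_1
  | 2, _ => c_ax2_3_2
  | 3, _ => c_ax2_3_3
  | 4, _ => c_ax2_3_4
  | 5, _ => c_ax2_3_5
  | 6, _ => c_ax2_3_6
  | 7, _ => c_ax2_3_7
  | 8, _ => c_ax2_3_8
  | 9, _ => c_ax2_3_9
  | 10, _ => c_ax2_3_10
  | 11, _ => c_ax2_3_11
  | 12, _ => c_ax2_3_12
  | 13, _ => c_ax2_3_13
  | 14, _ => c_ax2_3_14
  | 15, _ => c_ax2_3_15
  | r + 16, h => absurd h (by omega)

theorem c_ax2_4 : ∀ r, r < 16 → fxF cf_ax2_4 (8736 * r) 8736 = true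
  | 0, _ => c_ax2_4_0
  | 1, _ => c_ax2_4_1
  | 2, _ => c_ax2_4_2
  | 3, _ => c_ax2_4_3
  | 4, _ => c_ax2_4_4
  | 5, _ => c_ax2_4_5
  | 6, _ => c_ax2_4_6
  | 7, _ => c_ax2_4_7
  | 8, _ => c_ax2_4_8
  | 9, _ => c_ax2_4_9
  | 10, _ => c_ax2_4_10
  | 11, _ => c_ax2_4_11
  | 12, _ => c_ax2_4_12
  | 13, _ => c_ax2_4_13
  | 14, _ => c_ax2_4_14
  | 15, _ => c_ax2_4_15
  | r + 16, h => absurd h (by omega)

theorem c_ax2_5 : ∀ r, r < 16 → fxF cf_ax2_5 (8736 * r) 8736 = true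
  | 0, _ => c_ax2_5_0
  | 1, _ => c_ax2_5_1
  | 2, _ => c_ax2_5_2
  | 3, _ => c_ax2_5_3
  | 4, _ => c_ax2_5_4
  | 5, _ => c_ax2_5_5
  | 6, _ => c_ax2_5_6
  | 7, _ => c_ax2_5_7
  | 8, _ => c_ax2_5_8
  | 9, _ => c_ax2_5_9
  | 10, _ => c_ax2_5_10
  | 11, _ => c_ax2_5_11
  | 12, _ => c_ax2_5_12
  | 13, _ => c_ax2_5_13
  | 14, _ => c_ax2_5_14
  | 15, _ => c_ax2_5_15
  | r + 16, h => absurd h (by omega)

theorem c_ax2_6 : ∀ r, r < 16 → fxF cf_ax2_6 (8736 * r) 8736 = true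
  | 0, _ => c_ax2_6_0
  | 1, _ => c_ax2_6_1
  | 2, _ => c_ax2_6_2
  | 3, _ => c_ax2_6_3
  | 4, _ => c_ax2_6_4
  | 5, _ => c_ax2_6_5
  | 6, _ => c_ax2_6_6
  | 7, _ => c_ax2_6_7
  | 8, _ => c_ax2_6_8
  | 9, _ => c_ax2_6_9
  | 10, _ => c_ax2_6_10
  | 11, _ => c_ax2_6_11
  | 12, _ => c_ax2_6_12
  | 13, _ => c_ax2_6_13
  | 14, _ => c_ax2_6_14
  | 15, _ => c_ax2_6_15
  | r + 16, h => absurd h (by omega)

theorem c_ax2_7 : ∀ r, r < 16 → fxF cf_ax2_7 (8736 * r) 8736 = true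
  | 0, _ => c_ax2_7_0
  | 1, _ => c_ax2_7_1
  | 2, _ => c_ax2_7_2
  | 3, _ => c_ax2_7_3
  | 4, _ => c_ax2_7_4
  | 5, _ => c_ax2_7_5
  | 6, _ => c_ax2_7_6
  | 7, _ => c_ax2_7_7
  | 8, _ => c_ax2_7_8
  | 9, _ => c_ax2_7_9
  | 10, _ => c_ax2_7_10
  | 11, _ => c_ax2_7_11
  | 12, _ => c_ax2_7_12
  | 13, _ => c_ax2_7_13
  | 14, _ => c_ax2_7_14
  | 15, _ => c_ax2_7_15
  | r + 16, h => absurd h (by omega)

theorem c_ax2_8 : ∀ r, r < 16 → fxF cf_ax2_8 (8736 * r) 8736 = true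
  | 0, _ => c_ax2_8_0
  | 1, _ => c_ax2_8_1
  | 2, _ => c_ax2_8_2
  | 3, _ => c_ax2_8_3
  | 4, _ => c_ax2_8_4
  | 5, _ => c_ax2_8_5
  | 6, _ => c_ax2_8_6
  | 7, _ => c_ax2_8_7
  | 8, _ => c_ax2_8_8
  | 9, _ => c_ax2_8_9
  | 10, _ => c_ax2_8_10
  | 11, _ => c_ax2_8_11
  | 12, _ => c_ax2_8_12
  | 13, _ => c_ax2_8_13
  | 14, _ => c_ax2_8_14
  | 15, _ => c_ax2_8_15
  | r + 16, h => absurd h (by omega)

theorem c_ax2_9 : ∀ r, r < 16 → fxF cf_ax2_9 (8736 * r) 8736 = true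
  | 0, _ => c_ax2_9_0
  | 1, _ => c_ax2_9_1
  | 2, _ => c_ax2_9_2
  | 3, _ => c_ax2_9_3
  | 4, _ => c_ax2_9_4
  | 5, _ => c_ax2_9_5
  | 6, _ => c_ax2_9_6
  | 7, _ => c_ax2_9_7
  | 8, _ => c_ax2_9_8
  | 9, _ => c_ax2_9_9
  | 10, _ => c_ax2_9_10
  | 11, _ => c_ax2_9_11
  | 12, _ => c_ax2_9_12
  | 13, _ => c_ax2_9_13
  | 14, _ => c_ax2_9_14
  | 15, _ => c_ax2_9_15
  | r + 16, h => absurd h (by omega)

theorem c_ax2_10 : ∀ r, r < 16 → fxF cf_ax2_10 (8736 * r) 8736 = true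
  | 0, _ => c_ax2_10_0
  | 1, _ => c_ax2_10_1
  | 2, _ => c_ax2_10_2
  | 3, _ => c_ax2_10_3
  | 4, _ => c_ax2_10_4
  | 5, _ => c_ax2_10_5
  | 6, _ => c_ax2_10_6
  | 7, _ => c_ax2_10_7
  | 8, _ => c_ax2_10_8
  | 9, _ => c_ax2_10_9
  | 10, _ => c_ax2_10_10
  | 11, _ => c_ax2_10_11
  | 12, _ => c_ax2_10_12
  | 13, _ => c_ax2_10_13
  | 14, _ => c_ax2_10_14
  | 15, _ => c_ax2_10_15
  | r + 16, h => absurd h (by omega)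

theorem c_ax1_0 : ∀ r, r < 16 → fxF cf_ax1_0 (8736 * r) 8736 = true
  | 0, _ => c_ax1_0_0
  | 1, _ => c_ax1_0_1
  | 2, _ => c_ax1_0_2
  | 3, _ => c_ax1_0_3
  | 4, _ => c_ax1_0_4
  | 5, _ => c_ax1_0_5
  | 6, _ => c_ax1_0_6
  | 7, _ => c_ax1_0_7
  | 8, _ => c_ax1_0_8
  | 9, _ => c_ax1_0_9
  | 10, _ => c_ax1_0_10
  | 11, _ => c_ax1_0_11
  | 12, _ => c_ax1_0_12
  | 13, _ => c_ax1_0_13
  | 14, _ => c_ax1_0_14
  | 15, _ => c_ax1_0_15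
  | r + 16, h => absurd h (by omega)

theorem c_ax1_1 : ∀ r, r < 16 → fxF cf_ax1_1 (8736 * r) 8736 = true
  | 0, _ => c_ax1_1_0
  | 1, _ => c_ax1_1_1
  | 2, _ => c_ax1_1_2
  | 3, _ => c_ax1_1_3
  | 4, _ => c_ax1_1_4
  | 5, _ => c_ax1_1_5
  | 6, _ => c_ax1_1_6
  | 7, _ => c_ax1_1_7
  | 8, _ => c_ax1_1_8
  | 9, _ => c_ax1_1_9
  | 10, _ => c_ax1_1_10
  | 11, _ => c_ax1_1_11
  | 12, _ => c_ax1_1_12
  | 13, _ => c_ax1_1_13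
  | 14, _ => c_ax1_1_14
  | 15, _ => c_ax1_1_15
  | r + 16, h => absurd h (by omega)

theorem c_ax1_2 : ∀ r, r < 16 → fxF cf_ax1_2 (8736 * r) 8736 = true
  | 0, _ => c_ax1_2_0
  | 1, _ => c_ax1_2_1
  | 2, _ => c_ax1_2_2
  | 3, _ => c_ax1_2_3
  | 4, _ => c_ax1_2_4
  | 5, _ => c_ax1_2_5
  | 6, _ => c_ax1_2_6
  | 7, _ => c_ax1_2_7
  | 8, _ => c_ax1_2_8
  | 9, _ => c_ax1_2_9
  | 10, _ => c_ax1_2_10
  | 11, _ => c_ax1_2_11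
  | 12, _ => c_ax1_2_12
  | 13, _ => c_ax1_2_13
  | 14, _ => c_ax1_2_14
  | 15, _ => c_ax1_2_15
  | r + 16, h => absurd h (by omega)

theorem c_ax1_3 : ∀ r, r < 16 → fxF cf_ax1_3 (8736 * r) 8736 = true
  | 0, _ => c_ax1_3_0
  | 1, _ => c_ax1_3_1
  | 2, _ => c_ax1_3_2
  | 3, _ => c_ax1_3_3
  | 4, _ => c_ax1_3_4
  | 5, _ => c_ax1_3_5
  | 6, _ => c_ax1_3_6
  | 7, _ => c_ax1_3_7
  | 8, _ => c_ax1_3_8
  | 9, _ => c_ax1_3_9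
  | 10, _ => c_ax1_3_10
  | 11, _ => c_ax1_3_11
  | 12, _ => c_ax1_3_12
  | 13, _ => c_ax1_3_13
  | 14, _ => c_ax1_3_14
  | 15, _ => c_ax1_3_15
  | r + 16, h => absurd h (by omega)

theorem c_ax1_4 : ∀ r, r < 16 → fxF cf_ax1_4 (8736 * r) 8736 = true
  | 0, _ => c_ax1_4_0
  | 1, _ => c_ax1_4_1
  | 2, _ => c_ax1_4_2
  | 3, _ => c_ax1_4_3
  | 4, _ => c_ax1_4_4
  | 5, _ => c_ax1_4_5
  | 6, _ => c_ax1_4_6
  | 7, _ => c_ax1_4_7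
  | 8, _ => c_ax1_4_8
  | 9, _ => c_ax1_4_9
  | 10, _ => c_ax1_4_10
  | 11, _ => c_ax1_4_11
  | 12, _ => c_ax1_4_12
  | 13, _ => c_ax1_4_13
  | 14, _ => c_ax1_4_14
  | 15, _ => c_ax1_4_15
  | r + 16, h => absurd h (by omega)

theorem c_ex3 : ∀ r, r < 16 → fxF cf_ex3 (8736 * r) 8736 = true
  | 0, _ => c_ex3_0
  | 1, _ => c_ex3_1
  | 2, _ => c_ex3_2
  | 3, _ => c_ex3_3
  | 4, _ => c_ex3_4
  | 5, _ => c_ex3_5
  | 6, _ => c_ex3_6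
  | 7, _ => c_ex3_7
  | 8, _ => c_ex3_8
  | 9, _ => c_ex3_9
  | 10, _ => c_ex3_10
  | 11, _ => c_ex3_11
  | 12, _ => c_ex3_12
  | 13, _ => c_ex3_13
  | 14, _ => c_ex3_14
  | 15, _ => c_ex3_15
  | r + 16, h => absurd h (by omega)

theorem c_ex2 : ∀ r, r < 16 → fxF cf_ex2 (8736 * r) 8736 = true
  | 0, _ => c_ex2_0
  | 1, _ => c_ex2_1
  | 2, _ => c_ex2_2
  | 3, _ => c_ex2_3
  | 4, _ => c_ex2_4
  | 5, _ => c_ex2_5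
  | 6, _ => c_ex2_6
  | 7, _ => c_ex2_7
  | 8, _ => c_ex2_8
  | 9, _ => c_ex2_9
  | 10, _ => c_ex2_10
  | 11, _ => c_ex2_11
  | 12, _ => c_ex2_12
  | 13, _ => c_ex2_13
  | 14, _ => c_ex2_14
  | 15, _ => c_ex2_15
  | r + 16, h => absurd h (by omega)

theorem c_l1a : ∀ r, r < 16 → fxF cf_l1a (8736 * r) 8736 = true
  | 0, _ => c_l1a_0
  | 1, _ => c_l1a_1
  | 2, _ => c_l1a_2
  | 3, _ => c_l1a_3
  | 4, _ => c_l1a_4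
  | 5, _ => c_l1a_5
  | 6, _ => c_l1a_6
  | 7, _ => c_l1a_7
  | 8, _ => c_l1a_8
  | 9, _ => c_l1a_9
  | 10, _ => c_l1a_10
  | 11, _ => c_l1a_11
  | 12, _ => c_l1a_12
  | 13, _ => c_l1a_13
  | 14, _ => c_l1a_14
  | 15, _ => c_l1a_15
  | r + 16, h => absurd h (by omega)

theorem c_l1b : ∀ r, r < 16 → fxF cf_l1b (8736 * r) 8736 = true
  | 0, _ => c_l1b_0
  | 1, _ => c_l1b_1
  | 2, _ => c_l1b_2
  | 3, _ => c_l1b_3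
  | 4, _ => c_l1b_4
  | 5, _ => c_l1b_5
  | 6, _ => c_l1b_6
  | 7, _ => c_l1b_7
  | 8, _ => c_l1b_8
  | 9, _ => c_l1b_9
  | 10, _ => c_l1b_10
  | 11, _ => c_l1b_11
  | 12, _ => c_l1b_12
  | 13, _ => c_l1b_13
  | 14, _ => c_l1b_14
  | 15, _ => c_l1b_15
  | r + 16, h => absurd h (by omega)

theorem c_B0 : ∀ r, r < 16 → eqF f5_0 cf_B0 (8736 * r) 8736 = true
  | 0, _ => c_B0_0
  | 1, _ => c_B0_1
  | 2, _ => c_B0_2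
  | 3, _ => c_B0_3
  | 4, _ => c_B0_4
  | 5, _ => c_B0_5
  | 6, _ => c_B0_6
  | 7, _ => c_B0_7
  | 8, _ => c_B0_8
  | 9, _ => c_B0_9
  | 10, _ => c_B0_10
  | 11, _ => c_B0_11
  | 12, _ => c_B0_12
  | 13, _ => c_B0_13
  | 14, _ => c_B0_14
  | 15, _ => c_B0_15
  | r + 16, h => absurd h (by omega)

theorem c_B1 : ∀ r, r < 16 → eqF f5_1 cf_B1 (8736 * r) 8736 = true
  | 0, _ => c_B1_0
  | 1, _ => c_B1_1
  | 2, _ => c_B1_2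
  | 3, _ => c_B1_3
  | 4, _ => c_B1_4
  | 5, _ => c_B1_5
  | 6, _ => c_B1_6
  | 7, _ => c_B1_7
  | 8, _ => c_B1_8
  | 9, _ => c_B1_9
  | 10, _ => c_B1_10
  | 11, _ => c_B1_11
  | 12, _ => c_B1_12
  | 13, _ => c_B1_13
  | 14, _ => c_B1_14
  | 15, _ => c_B1_15
  | r + 16, h => absurd h (by omega)

theorem c_B2 : ∀ r, r < 16 → eqF f5_2 cf_B2 (8736 * r) 8736 = true
  | 0, _ => c_B2_0
  | 1, _ => c_B2_1
  | 2, _ => c_B2_2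
  | 3, _ => c_B2_3
  | 4, _ => c_B2_4
  | 5, _ => c_B2_5
  | 6, _ => c_B2_6
  | 7, _ => c_B2_7
  | 8, _ => c_B2_8
  | 9, _ => c_B2_9
  | 10, _ => c_B2_10
  | 11, _ => c_B2_11
  | 12, _ => c_B2_12
  | 13, _ => c_B2_13
  | 14, _ => c_B2_14
  | 15, _ => c_B2_15
  | r + 16, h => absurd h (by omega)

theorem c_B3 : ∀ r, r < 16 → eqF f5_3 cf_B3 (8736 * r) 8736 = true
  | 0, _ => c_B3_0
  | 1, _ => c_B3_1
  | 2, _ => c_B3_2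
  | 3, _ => c_B3_3
  | 4, _ => c_B3_4
  | 5, _ => c_B3_5
  | 6, _ => c_B3_6
  | 7, _ => c_B3_7
  | 8, _ => c_B3_8
  | 9, _ => c_B3_9
  | 10, _ => c_B3_10
  | 11, _ => c_B3_11
  | 12, _ => c_B3_12
  | 13, _ => c_B3_13
  | 14, _ => c_B3_14
  | 15, _ => c_B3_15
  | r + 16, h => absurd h (by omega)

theorem c_B4 : ∀ r, r < 16 → eqF f5_4 cf_B4 (8736 * r) 8736 = true
  | 0, _ => c_B4_0
  | 1, _ => c_B4_1
  | 2, _ => c_B4_2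
  | 3, _ => c_B4_3
  | 4, _ => c_B4_4
  | 5, _ => c_B4_5
  | 6, _ => c_B4_6
  | 7, _ => c_B4_7
  | 8, _ => c_B4_8
  | 9, _ => c_B4_9
  | 10, _ => c_B4_10
  | 11, _ => c_B4_11
  | 12, _ => c_B4_12
  | 13, _ => c_B4_13
  | 14, _ => c_B4_14
  | 15, _ => c_B4_15
  | r + 16, h => absurd h (by omega)

theorem c_B5 : ∀ r, r < 16 → eqF f5_5 cf_B5 (8736 * r) 8736 = true
  | 0, _ => c_B5_0
  | 1, _ => c_B5_1
  | 2, _ => c_B5_2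
  | 3, _ => c_B5_3
  | 4, _ => c_B5_4
  | 5, _ => c_B5_5
  | 6, _ => c_B5_6
  | 7, _ => c_B5_7
  | 8, _ => c_B5_8
  | 9, _ => c_B5_9
  | 10, _ => c_B5_10
  | 11, _ => c_B5_11
  | 12, _ => c_B5_12
  | 13, _ => c_B5_13
  | 14, _ => c_B5_14
  | 15, _ => c_B5_15
  | r + 16, h => absurd h (by omega)

theorem c_B6 : ∀ r, r < 16 → eqF f5_6 cf_B6 (8736 * r) 8736 = true
  | 0, _ => c_B6_0
  | 1, _ => c_B6_1
  | 2, _ => c_B6_2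
  | 3, _ => c_B6_3
  | 4, _ => c_B6_4
  | 5, _ => c_B6_5
  | 6, _ => c_B6_6
  | 7, _ => c_B6_7
  | 8, _ => c_B6_8
  | 9, _ => c_B6_9
  | 10, _ => c_B6_10
  | 11, _ => c_B6_11
  | 12, _ => c_B6_12
  | 13, _ => c_B6_13
  | 14, _ => c_B6_14
  | 15, _ => c_B6_15
  | r + 16, h => absurd h (by omega)

theorem c_B7 : ∀ r, r < 16 → eqF f5_7 cf_B7 (8736 * r) 8736 = true
  | 0, _ => c_B7_0
  | 1, _ => c_B7_1
  | 2, _ => c_B7_2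
  | 3, _ => c_B7_3
  | 4, _ => c_B7_4
  | 5, _ => c_B7_5
  | 6, _ => c_B7_6
  | 7, _ => c_B7_7
  | 8, _ => c_B7_8
  | 9, _ => c_B7_9
  | 10, _ => c_B7_10
  | 11, _ => c_B7_11
  | 12, _ => c_B7_12
  | 13, _ => c_B7_13
  | 14, _ => c_B7_14
  | 15, _ => c_B7_15
  | r + 16, h => absurd h (by omega)

theorem c_B8 : ∀ r, r < 16 → eqF f5_8 cf_B8 (8736 * r) 8736 = true
  | 0, _ => c_B8_0
  | 1, _ => c_B8_1
  | 2, _ => c_B8_2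
  | 3, _ => c_B8_3
  | 4, _ => c_B8_4
  | 5, _ => c_B8_5
  | 6, _ => c_B8_6
  | 7, _ => c_B8_7
  | 8, _ => c_B8_8
  | 9, _ => c_B8_9
  | 10, _ => c_B8_10
  | 11, _ => c_B8_11
  | 12, _ => c_B8_12
  | 13, _ => c_B8_13
  | 14, _ => c_B8_14
  | 15, _ => c_B8_15
  | r + 16, h => absurd h (by omega)

theorem c_B9 : ∀ r, r < 16 → eqF f5_9 cf_B9 (8736 * r) 8736 = true
  | 0, _ => c_B9_0
  | 1, _ => c_B9_1
  | 2, _ => c_B9_2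
  | 3, _ => c_B9_3
  | 4, _ => c_B9_4
  | 5, _ => c_B9_5
  | 6, _ => c_B9_6
  | 7, _ => c_B9_7
  | 8, _ => c_B9_8
  | 9, _ => c_B9_9
  | 10, _ => c_B9_10
  | 11, _ => c_B9_11
  | 12, _ => c_B9_12
  | 13, _ => c_B9_13
  | 14, _ => c_B9_14
  | 15, _ => c_B9_15
  | r + 16, h => absurd h (by omega)

end Cfsg.Agent.Lib.Helper7.F42M
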