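import Cfsg.Agent.Lib.Helper7.F42A3U
import Cfsg.Agent.Lib.Helper7.F42TD
import Cfsg.Agent.Lib.Helper7.MGenH
import Cfsg.Agent.Lib.Helper7.MGenP

/-!
# The multiplier of the Chevalley group of type F4 over the field of two elements, the table of the group: the kernel of every finite stem extension of the group is an image of the cyclic group of order two

In a finite stem extension the derived subgroup of the preimage of `L` is a copy of `L`, since `L` is perfect and has
no proper stem extensions; the first ten letters, which are root elements in `L`, are lifted into this copy, so that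
all the words in these letters that are trivial in the group are trivial in the extension.  The eleventh letter is an
element of order three that permutes the long root elements; since each of the eight long root elements among the
letters is a commutator of two elements of `L` whose conjugates lie in `L` again, every lift of the eleventh letter
permutes their lifts in the same way.  Its lift is chosen so that one more given word is trivial; this is possible
since the kernel has order prime to seventeen, the Sylow subgroups for this prime being cyclic.  The checked table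
over the copy of `L` shows that the kernel is generated by the values of three other given words; the traced words
give relations between them, which make the kernel cyclic of order dividing two.
-/

set_option autoImplicit false
set_option maxRecDepth 100000

namespace Cfsg.Agent.Lib.Helper7.F42T

open Cfsg Cfsg.Agent.Lib.Helper7.MG Cfsg.Agent.Lib.Helper7.HSMult Cfsg.Agent.Lib.Helper7.F42B
open Cfsg.Agent.Lib.Helper7.M12Mult Cfsg.Agent.Lib.Helper6.BitMat
open scoped IsMulCommutative commutatorElement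

/-! ### the data of the certificate -/

/-- the words that define the central elements -/
def axI : ℕ → ℕ
  | 0 => 1
  | 1 => 661
  | 2 => 2572
  | _ => 0

theorem axI_lt : ∀ j, axI j < 3167
  | 0 => by decide
  | 1 => by decide
  | 2 => by decide
  | _ + 3 => by
    show (0 : ℕ) < 3167
    decide

/-- the word of which a power is a trivial word -/
def yW : List ℕ := [10, 1, 2, 5, 6, 9]

/-- the words of the certificate that say how the element of order three acts on root elements -/
def triI : ℕ → ℕ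
  | 0 => 9
  | 1 => 10
  | 2 => 16
  | 3 => 22
  | 4 => 31
  | 5 => 32
  | 6 => 35
  | 7 => 38
  | _ => 0

/-- the first letter of such a word -/
def triA : ℕ → ℕ
  | 0 => 0
  | 1 => 0
  | 2 => 1
  | 3 => 2
  | 4 => 4
  | 5 => 4
  | 6 => 5
  | 7 => 6
  | _ => 0

/-- the third letter of such a word -/
def triB : ℕ → ℕ
  | 0 => 3
  | 1 => 2
  | 2 => 1
  | 3 => 3
  | 4 => 7
  | 5 => 6
  | 6 => 5
  | 7 => 7
  | _ => 0

/-- the second letter of such a word -/
def triD : ℕ → ℕ
  | 0 => 10
  | 1 => 11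
  | 2 => 10
  | 3 => 11
  | 4 => 10
  | 5 => 11
  | 6 => 10
  | 7 => 11
  | _ => 10

/-- a letter such that the third letter is a commutator of two words in the letters -/
def triG : ℕ → ℕ
  | 0 => 1
  | 1 => 1
  | 2 => 0
  | 3 => 1
  | 4 => 5
  | 5 => 5
  | 6 => 4
  | 7 => 5
  | _ => 0

/-- the second of these two words -/
def triQ : ℕ → ℕ
  | 0 => 5
  | 1 => 5
  | 2 => 4
  | 3 => 5
  | 4 => 1
  | 5 => 1
  | 6 => 0
  | 7 => 1
  | _ => 0

/-- the letter of the conjugate of the first word -/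
def triG2 : ℕ → ℕ
  | 0 => 1
  | 1 => 1
  | 2 => 2
  | 3 => 1
  | 4 => 5
  | 5 => 5
  | 6 => 6
  | 7 => 5
  | _ => 0

/-- the conjugate of the second word -/
def triQ2 : ℕ → ℕ
  | 0 => 5
  | 1 => 5
  | 2 => 6
  | 3 => 5
  | 4 => 1
  | 5 => 1
  | 6 => 2
  | 7 => 1
  | _ => 0

/-- the first of the two words -/
def triP (k : ℕ) : List ℕ := [triB k, triG k, triB k, triG k]

/-- the conjugate of the first of the two words -/
def triP2 (k : ℕ) : List ℕ := [triA k, triG2 k, triA k, triG2 k]

theorem chk_wT : ∀ i, i < 3167 → cert.wT i = 0 →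
    (((cert.W i).all fun x => Nat.blt x 10) = true ∧
      ∀ l, l < 3 → ((fld (cert.rhs i) l : ℤ) - ((cert.W i).length : ℤ) * (cert.B : ℤ)) = 0) ∨
    i = 0 ∨ (∃ j, j < 3 ∧ i = axI j) ∨ ∃ k, k < 8 ∧ i = triI k := by decide +kernel

theorem chk_W3 : cert.W 0 = wpow 17 yW := by decide +kernel

theorem chk_yW : expsumL 10 11 (wpow 17 yW) = 17 := by decide

theorem chk_len : ∀ i, i < 3167 → (cert.W i).length ≤ 255 := by decide +kernel

theorem chk_ax : ∀ j, j < 3 → ∀ l, l < 3 →
    ((fld (cert.rhs (axI j)) l : ℤ) - ((cert.W (axI j)).length : ℤ) * (cert.B : ℤ)) = if l = j then 1 else 0 := by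
  decide +kernel

theorem chk_ex : ∀ l, l < 3 →
    ((fld (cert.rhs 0) l : ℤ) - ((cert.W 0).length : ℤ) * (cert.B : ℤ)) = 0 := by
  decide +kernel

theorem chk_triW : ∀ k, k < 8 → triI k < 3167 ∧ cert.W (triI k) = [triA k, triD k, triB k, ivT (triD k)] ∧
    (∀ l, l < 3 → ((fld (cert.rhs (triI k)) l : ℤ) - ((cert.W (triI k)).length : ℤ) * (cert.B : ℤ)) = 0) ∧
    (triD k = 10 ∨ triD k = 11) ∧ triA k < 10 ∧ triB k < 10 ∧ triG k < 10 ∧ triQ k < 10 ∧ triG2 k < 10 ∧
    triQ2 k < 10 := by decide +kernel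

theorem chk_triM : ∀ k, k < 8 →
    prodR 52 ((([triB k] ++ [triQ k]) ++ triP k).map letMT) = prodR 52 ((triP k ++ [triQ k]).map letMT) ∧
    prodR 52 (([triD k] ++ triP k).map letMT) = prodR 52 ((triP2 k ++ [triD k]).map letMT) ∧
    prodR 52 ([triD k, triQ k].map letMT) = prodR 52 ([triQ2 k, triD k].map letMT) ∧
    prodR 52 ((([triA k] ++ [triQ2 k]) ++ triP2 k).map letMT) = prodR 52 ((triP2 k ++ [triQ2 k]).map letMT) := by
  decide +kernel

/-- the relations between the central elements that the traced words give -/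
def relL : List (List ℤ) := [[0, (-2), 0],
    [(-2), 2, 2],
    [0, (-5), 0],
    [(-2), (-6), (-15)]]

/-- the generator of the kernel as a product of powers of the central elements -/
def cL : List ℤ := [1, 0, 0]

/-- the central elements as powers of the generator -/
def mL : List ℤ := [1, 0, 0]

/-- the combinations of the relations that express the central elements by the generator -/
def lamL : List (List ℤ) := [[0, 0, 0, 0],
    [34, 0, (-17), 0],
    [4, 1, 0, (-1)]]

/-- the combination of the relations that gives the power of the generator -/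
def muL : List ℤ := [76, (-15), (-34), (-2)]

theorem chk_rel_0 : ∀ l, l < 3 → ((fld (cert.rhs 550) l : ℤ) - (fld 18014415691464704 l : ℤ)) = (relL.getD 0 []).getD l 0 := by
  decide +kernel

theorem chk_rel_1 : ∀ l, l < 3 → ((fld (cert.rhs 2029) l : ℤ) - (fld 22515820586356738 l : ℤ)) = (relL.getD 1 []).getD l 0 := by
  decide +kernel

theorem chk_rel_2 : ∀ l, l < 3 → ((fld (cert.rhs 1934) l : ℤ) - (fld 22518019616952320 l : ℤ)) = (relL.getD 2 []).getD l 0 := by
  decide +kernel

theorem chk_rel_3 : ∀ l, l < 3 → ((fld (cert.rhs 1596) l : ℤ) - (fld 22534512292417538 l : ℤ)) = (relL.getD 3 []).getD l 0 := by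
  decide +kernel

theorem chk_lam : ∀ j, j < 3 → ∀ l, l < 3 →
    ((17 : ℕ) : ℤ) * ((if l = j then 1 else 0) - mL.getD j 0 * cL.getD l 0) = dotL (lamL.getD j []) relL l := by
  decide +kernel

theorem chk_mu : ∀ l, l < 3 → ((17 : ℕ) : ℤ) * ((2 : ℤ) * cL.getD l 0) = dotL muL relL l := by decide +kernel

/-! ### the letters in the group -/

theorem lT_sq {x : ℕ} (hx : x < 10) : lT x * lT x = 1 := by
  have h := lT_iv (x := x) (by omega)
  have e : ivT x = x := by
    have : x = 0 ∨ x = 1 ∨ x = 2 ∨ x = 3 ∨ x = 4 ∨ x = 5 ∨ x = 6 ∨ x = 7 ∨ x = 8 ∨ x = 9 := by omega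
    rcases this with rfl | rfl | rfl | rfl | rfl | rfl | rfl | rfl | rfl | rfl <;> rfl
  rw [e] at h
  nth_rewrite 1 [h]
  exact inv_mul_cancel _

theorem wd_lT_mem_L : ∀ w : List ℕ, (∀ x ∈ w, x < 10) → VCert.wd lT w ∈ L
  | [], _ => L.one_mem
  | x :: w, h => by
    rw [VCert.wd_cons]
    exact L.mul_mem (lT_mem_L (h x List.mem_cons_self)) (wd_lT_mem_L w fun y hy => h y (List.mem_cons_of_mem _ hy))

section upper

universe u

variable {Γ : Type u} [Group Γ] [Finite Γ] (σ : Γ →* G) (hsurj : Function.Surjective σ)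
  (hcen : σ.ker ≤ Subgroup.center Γ) (hder : σ.ker ≤ commutator Γ)

theorem MF_L : MF.{u} ↥L := F42A3.MF_G

include hsurj hcen hder in
theorem not_dvd_card_ker : ¬ 17 ∣ Nat.card σ.ker := by
  have hperf := perfect_of_stem σ hsurj hcen hder G_perfect
  have : Fact (Nat.Prime 17) := ⟨by norm_num⟩
  exact Cfsg.Agent.S0102.result G_perfect
    (fun P => isCyclic_sylow_of_card_eq 17 194772153139200 (by rw [card_G]) (by norm_num) P) σ hsurj hcen hperf

/-! ### the copy of `L` in the extension -/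

include hsurj hcen in
theorem eq_of_mem_Mt {x y : Γ} (hx : x ∈ Mt σ L) (hy : y ∈ Mt σ L) (h : σ x = σ y) : x = y := by
  have h1 : x * y⁻¹ = 1 := eq_one_of_mem_Mt hsurj hcen L L_perfect MF_L
    (Subgroup.mul_mem _ hx (Subgroup.inv_mem _ hy)) (by rw [map_mul, map_inv, h, mul_inv_cancel])
  exact mul_inv_eq_one.1 h1

include hsurj hcen in
/-- **conjugation of the lift of a commutator of two elements of `L` whose conjugates lie in `L`** -/
theorem conj_eq_of_comm (T a b : Γ) (ha : a ∈ Mt σ L) (hb : b ∈ Mt σ L) (p q p' q' : G)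
    (hp : p ∈ L) (hq : q ∈ L) (hp' : p' ∈ L) (hq' : q' ∈ L)
    (h1 : σ b * q * p = p * q) (h2 : σ T * p = p' * σ T) (h3 : σ T * q = q' * σ T)
    (h4 : σ a * q' * p' = p' * q') : T * b * T⁻¹ = a := by
  obtain ⟨P, hPM, hP⟩ := exists_mem_Mt (σ := σ) hsurj L L_perfect p hp
  obtain ⟨Q, hQM, hQ⟩ := exists_mem_Mt (σ := σ) hsurj L L_perfect q hq
  obtain ⟨P', hPM', hP'⟩ := exists_mem_Mt (σ := σ) hsurj L L_perfect p' hp'
  obtain ⟨Q', hQM', hQ'⟩ := exists_mem_Mt (σ := σ) hsurj L L_perfect q' hq'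
  have cM : ∀ {X Y : Γ}, X ∈ Mt σ L → Y ∈ Mt σ L → ⁅X, Y⁆ ∈ Mt σ L := by
    intro X Y hX hY
    rw [commutatorElement_def]
    exact Subgroup.mul_mem _ (Subgroup.mul_mem _ (Subgroup.mul_mem _ hX hY) (Subgroup.inv_mem _ hX))
      (Subgroup.inv_mem _ hY)
  have eb : b = ⁅P, Q⁆ := by
    apply eq_of_mem_Mt σ hsurj hcen hb (cM hPM hQM)
    rw [map_commutatorElement, hP, hQ, commutatorElement_def]
    have : σ b = p * q * (q * p)⁻¹ := by
      rw [eq_mul_inv_iff_mul_eq, ← mul_assoc]
      exact h1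
    rw [this, mul_inv_rev, mul_assoc, mul_assoc, mul_assoc]
  have ea : a = ⁅P', Q'⁆ := by
    apply eq_of_mem_Mt σ hsurj hcen ha (cM hPM' hQM')
    rw [map_commutatorElement, hP', hQ', commutatorElement_def]
    have : σ a = p' * q' * (q' * p')⁻¹ := by
      rw [eq_mul_inv_iff_mul_eq, ← mul_assoc]
      exact h4
    rw [this, mul_inv_rev, mul_assoc, mul_assoc, mul_assoc]
  have k1 : P'⁻¹ * (T * P * T⁻¹) ∈ Subgroup.center Γ := by
    apply hcen
    rw [MonoidHom.mem_ker, map_mul, map_inv, map_mul, map_mul, map_inv, hP, hP', h2, mul_inv_cancel_right,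
      inv_mul_cancel]
  have k2 : Q'⁻¹ * (T * Q * T⁻¹) ∈ Subgroup.center Γ := by
    apply hcen
    rw [MonoidHom.mem_ker, map_mul, map_inv, map_mul, map_mul, map_inv, hQ, hQ', h3, mul_inv_cancel_right,
      inv_mul_cancel]
  have e1 : T * P * T⁻¹ = P' * (P'⁻¹ * (T * P * T⁻¹)) := by rw [mul_inv_cancel_left]
  have e2 : T * Q * T⁻¹ = Q' * (Q'⁻¹ * (T * Q * T⁻¹)) := by rw [mul_inv_cancel_left]
  have e3 : T * ⁅P, Q⁆ * T⁻¹ = ⁅T * P * T⁻¹, T * Q * T⁻¹⁆ := by
    rw [commutatorElement_def, commutatorElement_def]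
    group
  rw [eb, e3, e1, e2, commutatorElement_central_mul k1 k2, ← ea]

/-! ### the letters in the extension -/

/-- the letters in the extension -/
def gU (f : ℕ → Γ) (t : Γ) (x : ℕ) : Γ :=
  if x < 10 then f x else if x = 10 then t else if x = 11 then t⁻¹ else 1

omit [Finite Γ] in
theorem gU_lt (f : ℕ → Γ) (t : Γ) {x : ℕ} (hx : x < 10) : gU f t x = f x := by
  rw [gU, if_pos hx]

omit [Finite Γ] in
theorem gU_ten (f : ℕ → Γ) (t : Γ) : gU f t 10 = t := rfl

omit [Finite Γ] in
theorem gU_eleven (f : ℕ → Γ) (t : Γ) : gU f t 11 = t⁻¹ := rfl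

omit [Finite Γ] in
theorem gU_ge (f : ℕ → Γ) (t : Γ) {x : ℕ} (hx : 12 ≤ x) : gU f t x = 1 := by
  rw [gU, if_neg (by omega), if_neg (by omega), if_neg (by omega)]

variable (f : ℕ → Γ) (t : Γ) (hfM : ∀ x, x < 10 → f x ∈ Mt σ L) (hf : ∀ x, x < 10 → σ (f x) = lT x)
  (ht : σ t = lT 10)

include hf ht in
omit [Finite Γ] in
theorem map_gU (x : ℕ) : σ (gU f t x) = lT x := by
  rcases Nat.lt_or_ge x 10 with h | h
  · rw [gU_lt f t h, hf x h]
  · rcases Nat.lt_or_ge x 12 with h' | h'
    · have : x = 10 ∨ x = 11 := by omega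
      rcases this with rfl | rfl
      · exact ht
      · rw [gU_eleven, map_inv, ht]
        exact (lT_iv (x := 10) (by norm_num)).symm
    · rw [gU_ge f t h', map_one, lT_of_ge h']

include hf ht in
omit [Finite Γ] in
theorem map_wd_gU : ∀ w : List ℕ, σ (VCert.wd (gU f t) w) = VCert.wd lT w
  | [] => map_one σ
  | x :: w => by
    rw [VCert.wd_cons, VCert.wd_cons, map_mul, map_gU σ f t hf ht x, map_wd_gU w]

include hsurj hcen hfM hf in
theorem f_sq {x : ℕ} (hx : x < 10) : f x * f x = 1 :=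
  eq_one_of_mem_Mt hsurj hcen L L_perfect MF_L (Subgroup.mul_mem _ (hfM x hx) (hfM x hx))
    (by rw [map_mul, hf x hx, lT_sq hx])

include hsurj hcen hfM hf in
theorem gU_iv : ∀ x, x < 12 → gU f t (ivT x) = (gU f t x)⁻¹ := by
  intro x hx
  rcases Nat.lt_or_ge x 10 with h | h
  · have e : ivT x = x := by
      have : x = 0 ∨ x = 1 ∨ x = 2 ∨ x = 3 ∨ x = 4 ∨ x = 5 ∨ x = 6 ∨ x = 7 ∨ x = 8 ∨ x = 9 := by omega
      rcases this with rfl | rfl | rfl | rfl | rfl | rfl | rfl | rfl | rfl | rfl <;> rfl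
    rw [e, gU_lt f t h]
    exact eq_inv_of_mul_eq_one_left (f_sq σ hsurj hcen f hfM hf h)
  · have : x = 10 ∨ x = 11 := by omega
    rcases this with rfl | rfl
    · rfl
    · exact (inv_inv t).symm

include hsurj hcen hder in
/-- **lifts of the letters: the first ten in the copy of `L`, the eleventh such that the given word is trivial** -/
theorem exists_lifts : ∃ (f : ℕ → Γ) (t : Γ), (∀ x, x < 10 → f x ∈ Mt σ L) ∧ (∀ x, x < 10 → σ (f x) = lT x) ∧
    σ t = lT 10 ∧ VCert.wd (gU f t) (wpow 17 yW) = 1 := by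
  have hnd := not_dvd_card_ker σ hsurj hcen hder
  have cop : (Nat.card ↥σ.ker).Coprime 17 :=
    ((Nat.Prime.coprime_iff_not_dvd (by norm_num)).2 hnd).symm
  have hex : ∀ x : ℕ, ∃ a : Γ, x < 10 → (a ∈ Mt σ L ∧ σ a = lT x) := by
    intro x
    by_cases hx : x < 10
    · obtain ⟨a, haM, ha⟩ := exists_mem_Mt (σ := σ) hsurj L L_perfect (lT x) (lT_mem_L hx)
      exact ⟨a, fun _ => ⟨haM, ha⟩⟩
    · exact ⟨1, fun h => absurd h hx⟩
  choose f hf using hex
  obtain ⟨t0, ht0⟩ := hsurj (lT 10)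
  have hf1 : ∀ x, x < 10 → σ (f x) = lT x := fun x hx => (hf x hx).2
  have hk2 : VCert.wd (gU f t0) (wpow 17 yW) ∈ σ.ker := by
    rw [MonoidHom.mem_ker, map_wd_gU σ f t0 hf1 ht0, ← chk_W3]
    exact wd_lT_W (by norm_num)
  obtain ⟨w, hw, hwr⟩ := exists_root σ.ker 17 cop _ (Subgroup.inv_mem _ hk2)
  have hwc : ∀ x : Γ, w⁻¹ * x = x * w⁻¹ := fun x =>
    (Subgroup.mem_center_iff.1 (Subgroup.inv_mem _ (hcen hw)) x).symm
  refine ⟨f, t0 * w, fun x hx => (hf x hx).1, hf1, ?_, ?_⟩
  · rw [map_mul, MonoidHom.mem_ker.1 hw, mul_one, ht0]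
  · rw [wd_central_mul_at 10 11 (by norm_num) (gU f t0) (gU f (t0 * w)) w (hcen hw) rfl (by
        show (t0 * w)⁻¹ = t0⁻¹ * w⁻¹
        rw [mul_inv_rev, hwc]) (by
        intro x h0 h1
        rcases Nat.lt_or_ge x 10 with h | h
        · rw [gU_lt _ _ h, gU_lt _ _ h]
        · rw [gU_ge _ _ (by omega), gU_ge _ _ (by omega)]), chk_yW]
    show _ * w ^ ((17 : ℕ) : ℤ) = 1
    rw [zpow_natCast, hwr, mul_inv_cancel]

variable (hy : VCert.wd (gU f t) (wpow 17 yW) = 1)

include hf ht in
omit [Finite Γ] in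
theorem wd_gU_mem_ker {i : ℕ} (hi : i < 3167) : VCert.wd (gU f t) (cert.W i) ∈ σ.ker := by
  rw [MonoidHom.mem_ker, map_wd_gU σ f t hf ht, wd_lT_W hi]

include hfM in
omit [Finite Γ] in
theorem gU_mem_Mt : ∀ x, x < 10 → gU f t x ∈ Mt σ L := by
  intro x hx
  rw [gU_lt f t hx]
  exact hfM x hx

/-- the central elements: the values of the given words -/
noncomputable def zU (j : ℕ) : Subgroup.center Γ :=
  ⟨VCert.wd (gU f t) (cert.W (axI j)), hcen (wd_gU_mem_ker σ f t hf ht (axI_lt j))⟩

include hsurj hcen hfM hf ht in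
/-- **the words that say how the element of order three acts on root elements are trivial in the extension** -/
theorem tri_rel {k : ℕ} (hk : k < 8) :
    VCert.wd (gU f t) [triA k, triD k, triB k, ivT (triD k)] = 1 := by
  obtain ⟨_, _, _, hd, ha, hb, hg, hq, hg2, hq2⟩ := chk_triW k hk
  obtain ⟨m1, m2, m3, m4⟩ := chk_triM k hk
  have hd12 : triD k < 12 := by rcases hd with h | h <;> omega
  have hP : ∀ x ∈ triP k, x < 10 := by
    intro x hx
    simp only [triP, List.mem_cons, List.not_mem_nil, or_false] at hx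
    rcases hx with rfl | rfl | rfl | rfl <;> assumption
  have hP2 : ∀ x ∈ triP2 k, x < 10 := by
    intro x hx
    simp only [triP2, List.mem_cons, List.not_mem_nil, or_false] at hx
    rcases hx with rfl | rfl | rfl | rfl <;> assumption
  have w1 : ∀ x : ℕ, VCert.wd lT [x] = lT x := fun x => by rw [VCert.wd_cons, VCert.wd_nil, mul_one]
  have c := conj_eq_of_comm σ hsurj hcen (gU f t (triD k)) (gU f t (triA k)) (gU f t (triB k))
    (gU_mem_Mt σ f t hfM _ ha) (gU_mem_Mt σ f t hfM _ hb)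
    (VCert.wd lT (triP k)) (lT (triQ k)) (VCert.wd lT (triP2 k)) (lT (triQ2 k))
    (wd_lT_mem_L _ hP) (lT_mem_L hq) (wd_lT_mem_L _ hP2) (lT_mem_L hq2)
    (by
      have h := wd_lT_eq m1
      rw [VCert.wd_append, VCert.wd_append, VCert.wd_append, w1, w1] at h
      rw [map_gU σ f t hf ht]
      exact h)
    (by
      have h := wd_lT_eq m2
      rw [VCert.wd_append, VCert.wd_append, w1] at h
      rw [map_gU σ f t hf ht]
      exact h)
    (by
      have h := wd_lT_eq m3
      rw [VCert.wd_cons, VCert.wd_cons, VCert.wd_nil, mul_one, VCert.wd_cons, VCert.wd_cons, VCert.wd_nil,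
        mul_one] at h
      rw [map_gU σ f t hf ht]
      exact h)
    (by
      have h := wd_lT_eq m4
      rw [VCert.wd_append, VCert.wd_append, VCert.wd_append, w1, w1] at h
      rw [map_gU σ f t hf ht]
      exact h)
  rw [VCert.wd_cons, VCert.wd_cons, VCert.wd_cons, VCert.wd_cons, VCert.wd_nil, mul_one,
    gU_iv σ hsurj hcen f t hfM hf _ hd12, ← mul_assoc (gU f t (triD k)), c, gU_lt f t ha]
  exact f_sq σ hsurj hcen f hfM hf ha

include hsurj hcen hfM hf ht hy in
theorem hW0_U : ∀ i, i < cert.nW → cert.wT i = 0 →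
    VCert.wd (gU f t) (cert.W i) = (cert.ek (zU σ hcen f t hf ht) i : Γ) := by
  intro i hi hT
  rcases chk_wT i hi hT with ⟨h4, h0⟩ | rfl | ⟨j, hj, rfl⟩ | ⟨k, hk, rfl⟩
  · rw [VCert.ek, cert.kap_one _ h0]
    have hl : ∀ x ∈ (cert.W i).map (gU f t), x ∈ Mt σ L := by
      intro x hx
      obtain ⟨y, hy', rfl⟩ := List.mem_map.1 hx
      exact gU_mem_Mt σ f t hfM y (by simpa [Nat.blt] using List.all_eq_true.1 h4 y hy')
    have h1 : (((cert.W i).map (gU f t)).map σ).prod = 1 := by
      rw [← map_list_prod]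
      have := map_wd_gU σ f t hf ht (cert.W i)
      rw [VCert.wd] at this
      rw [this]
      exact wd_lT_W hi
    exact prod_eq_one_of_Mt hsurj hcen L L_perfect MF_L _ hl h1
  · rw [VCert.ek, cert.kap_one _ chk_ex, chk_W3]
    exact hy
  · rw [VCert.ek, cert.kap_unit _ hj (chk_ax j hj)]
    rfl
  · obtain ⟨_, hW, h0, _⟩ := chk_triW k hk
    rw [VCert.ek, cert.kap_one _ h0, hW]
    exact tri_rel σ hsurj hcen f t hfM hf ht hk

include hsurj hcen hder hfM hf ht in
theorem hgen_U : ∀ y : Γ, ∃ u : List ℕ, (∀ x ∈ u, x < cert.g) ∧ y = (u.map (gU f t)).prod := by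
  apply MG.exists_word_of_closure (gU f t) 12 ivT
  · intro x hx
    refine ⟨?_, gU_iv σ hsurj hcen f t hfM hf x hx⟩
    have : x = 0 ∨ x = 1 ∨ x = 2 ∨ x = 3 ∨ x = 4 ∨ x = 5 ∨ x = 6 ∨ x = 7 ∨ x = 8 ∨ x = 9 ∨ x = 10 ∨ x = 11 := by omega
    rcases this with rfl | rfl | rfl | rfl | rfl | rfl | rfl | rfl | rfl | rfl | rfl | rfl <;> decide
  · apply Cfsg.Agent.Lib.Helper7.M12Mult.closure_eq_top_of_stem (σ := σ) hcen hder
    intro g
    have hg : g ∈ Subgroup.closure (lT '' Set.Iio 12) := by rw [closure_lT]; exact Subgroup.mem_top g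
    induction hg using Subgroup.closure_induction with
    | mem y hy =>
      obtain ⟨x, hx, rfl⟩ := hy
      exact ⟨gU f t x, Subgroup.subset_closure ⟨x, hx, rfl⟩, map_gU σ f t hf ht x⟩
    | one => exact ⟨1, one_mem _, map_one σ⟩
    | mul p q _ _ ihp ihq =>
      obtain ⟨p', hp', rfl⟩ := ihp
      obtain ⟨q', hq', rfl⟩ := ihq
      exact ⟨p' * q', mul_mem hp' hq', map_mul σ p' q'⟩
    | inv p _ ihp =>
      obtain ⟨p', hp', rfl⟩ := ihp
      exact ⟨p'⁻¹, inv_mem hp', map_inv σ p'⟩

include hsurj hcen in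
theorem hHK_U : ∀ u, u ∈ Mt σ L → u ∈ σ.ker → u = 1 := fun _ hu hk =>
  eq_one_of_mem_Mt hsurj hcen L L_perfect MF_L hu (MonoidHom.mem_ker.1 hk)

include hfM in
omit [Finite Γ] in
theorem hsub_U : ∀ x, cert.sub x = true → gU f t x ∈ Mt σ L := fun x hx =>
  gU_mem_Mt σ f t hfM x (lt_ten_of_sub hx)

include hsurj hder hfM hy in
/-- **the kernel is generated by the central elements** -/
theorem ker_eq_Zc_U : σ.ker = Zc (zU σ hcen f t hf ht) 3 := by
  refine ker_eq_Zc_of_sub σ cert (gU f t) (zU σ hcen f t hf ht) (Mt σ L) 47377612800 hsurj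
    (by rw [card_G]; rfl) (by decide) (by norm_num) (hHK_U σ hsurj hcen) ?_
    (hsub_U σ f t hfM) ?_ (hgen_U σ hsurj hcen hder f t hfM hf ht) (by decide) (by decide)
    (gU_iv σ hsurj hcen f t hfM hf) ?_
    (hW0_U σ hsurj hcen f t hfM hf ht hy) cert_all cert_wall
  · rw [← card_L]
    exact card_Mt_le hsurj hcen L L_perfect MF_L
  · intro j _
    exact wd_gU_mem_ker σ f t hf ht (axI_lt j)
  · intro i hi
    exact wd_gU_mem_ker σ f t hf ht hi

include hsurj hfM hy in
/-- the relations between the central elements -/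
theorem rel_U : ∀ r ∈ relL, zprod (zU σ hcen f t hf ht) 3 (fun l => r.getD l 0) = 1 := by
  have hKn : ∀ u, u ∈ σ.ker → ∀ g : Γ, g * u * g⁻¹ ∈ σ.ker := fun u hu g =>
    (inferInstance : σ.ker.Normal).conj_mem u hu g
  have key : ∀ {i v row : ℕ}, i < 3167 → cert.scan 4095 (cert.W i) row 0 = some (row, v) →
      cert.ek (zU σ hcen f t hf ht) i = cert.kap (zU σ hcen f t hf ht) v (cert.W i).length := by
    intro i v row hi h
    exact cert.close_spec (γ := gU f t) (H := Mt σ L) σ.ker hKn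
      (fun j _ => wd_gU_mem_ker σ f t hf ht (axI_lt j)) (hHK_U σ hsurj hcen) (by decide) (by decide)
      (gU_iv σ hsurj hcen f t hfM hf) (hsub_U σ f t hfM)
      (fun i hi => wd_gU_mem_ker σ f t hf ht hi) (hW0_U σ hsurj hcen f t hfM hf ht hy)
      cert_all cert_wall hi (chk_len i hi) h
  intro r hr
  simp only [relL, List.mem_cons, List.not_mem_nil, or_false] at hr
  rcases hr with rfl | rfl | rfl | rfl
  · exact cert.rel_of_close _ (key (by norm_num) close_0) _ chk_rel_0
  · exact cert.rel_of_close _ (key (by norm_num) close_1) _ chk_rel_1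
  · exact cert.rel_of_close _ (key (by norm_num) close_2) _ chk_rel_2
  · exact cert.rel_of_close _ (key (by norm_num) close_3) _ chk_rel_3

include hsurj hcen hder hfM hf ht hy in
/-- **the kernel is an image of the cyclic group of order two** -/
theorem exists_surj_U : ∃ π : Multiplicative (ZMod 2) →* ↥σ.ker, Function.Surjective π := by
  have hnd := not_dvd_card_ker σ hsurj hcen hder
  have copq : (Nat.card ↥σ.ker).Coprime 17 :=
    ((Nat.Prime.coprime_iff_not_dvd (by norm_num)).2 hnd).symm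
  have hK := ker_eq_Zc_U σ hsurj hcen hder f t hfM hf ht hy
  set S : Subgroup (Subgroup.center Γ) := σ.ker.comap (Subgroup.center Γ).subtype with hS
  have hzS : ∀ j, j < 3 → zU σ hcen f t hf ht j ∈ S :=
    fun j _ => wd_gU_mem_ker σ f t hf ht (axI_lt j)
  have hq : ∀ u, u ∈ S → u ^ 17 = 1 → u = 1 := by
    intro u hu huq
    have h1 : (⟨(u : Γ), hu⟩ : ↥σ.ker) ^ 17 = 1 := by
      apply Subtype.ext
      rw [Subgroup.coe_pow, Subgroup.coe_one]
      show (u : Γ) ^ 17 = 1
      rw [← Subgroup.coe_pow, huq, Subgroup.coe_one]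
    have h2 := eq_one_of_pow_of_coprime 17 copq _ h1
    apply Subtype.ext
    have h3 : ((⟨(u : Γ), hu⟩ : ↥σ.ker) : Γ) = ((1 : ↥σ.ker) : Γ) := congrArg Subtype.val h2
    exact h3
  obtain ⟨hz, hN⟩ := cyclic_of_relations_q (zU σ hcen f t hf ht) 3 relL
    (rel_U σ hsurj hcen f t hfM hf ht hy) S hzS 17 hq cL mL 2 lamL muL chk_lam chk_mu
  set g := zprod (zU σ hcen f t hf ht) 3 (fun l => cL.getD l 0) with hg
  have hle : σ.ker ≤ Subgroup.zpowers (g : Γ) := by
    rw [hK]
    exact Zc_le_zpowers _ 3 g (fun j => mL.getD j 0) hz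
  have hgK : (g : Γ) ∈ σ.ker := by
    have : g ∈ S := zprod_mem _ 3 S hzS _
    exact this
  set g' : ↥σ.ker := ⟨(g : Γ), hgK⟩ with hg'
  have h6 : g' ^ 2 = 1 := by
    apply Subtype.ext
    rw [Subgroup.coe_pow, Subgroup.coe_one]
    have := congrArg (fun t : Subgroup.center Γ => (t : Γ)) hN
    simpa using this
  apply exists_surj_zmod g' 2 h6
  intro y
  obtain ⟨i, hi⟩ := Subgroup.mem_zpowers_iff.1 (hle y.2)
  refine Subgroup.mem_zpowers_iff.2 ⟨i, ?_⟩
  apply Subtype.ext
  rw [Subgroup.coe_zpow]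
  exact hi

end upper

/-- **the kernel of every finite stem extension of the group is an image of the cyclic group of order two** -/
theorem exists_surj_of_stem {Γ : Type*} [Group Γ] [Finite Γ] (σ : Γ →* G) (hsurj : Function.Surjective σ)
    (hcen : σ.ker ≤ Subgroup.center Γ) (hder : σ.ker ≤ commutator Γ) :
    ∃ π : Multiplicative (ZMod 2) →* ↥σ.ker, Function.Surjective π := by
  obtain ⟨f, t, hfM, hf, ht, hy⟩ := exists_lifts σ hsurj hcen hder
  exact exists_surj_U σ hsurj hcen hder f t hfM hf ht hy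

end Cfsg.Agent.Lib.Helper7.F42T
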