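import Cfsg.Agent.Lib.Helper7.F42ME
import Cfsg.Agent.Lib.Helper7.F42MEW
import Cfsg.Agent.Lib.Helper7.F42TU

/-!
# The multiplier of the Chevalley group of type F4 over the field of two elements: the chain of subgroups in the group of pairs

The checks of the words on the 139776 points are put together.  The first word of the table of the group exchanges the
two copies of each coset, which commutes with all the letters, so its value is central in the group generated by the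
pairs.  The words that are trivial in the three smaller tables are trivial on the points.  So, step by step, the
subgroups generated by the first four, the first six and all the eight pairs of the chain map isomorphically onto the
subgroups of the chain in the group, the last one onto `L`; and the first ten of the twelve pairs of the table lie in
this last subgroup.
-/

set_option autoImplicit false
set_option maxRecDepth 100000
set_option linter.unusedSimpArgs false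
set_option synthInstance.maxHeartbeats 400000

namespace Cfsg.Agent.Lib.Helper7.F42M

open Cfsg Cfsg.Agent.Lib.Helper7.MG Cfsg.Agent.Lib.Helper7.HSMult Cfsg.Agent.Lib.Helper7.F42B
open scoped IsMulCommutative

/-! ### the words on the 139776 points -/

/-- the words of the classes of the table of the group -/
def axTW : ℕ → List ℕ
  | 0 => cw_axT0
  | 1 => cw_axT1
  | 2 => cw_axT2
  | _ => []

/-- the words of the classes of the largest table of the chain -/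
def ax3W : ℕ → List ℕ
  | 0 => cw_ax3_0
  | 1 => cw_ax3_1
  | 2 => cw_ax3_2
  | 3 => cw_ax3_3
  | 4 => cw_ax3_4
  | 5 => cw_ax3_5
  | 6 => cw_ax3_6
  | 7 => cw_ax3_7
  | 8 => cw_ax3_8
  | 9 => cw_ax3_9
  | 10 => cw_ax3_10
  | 11 => cw_ax3_11
  | 12 => cw_ax3_12
  | 13 => cw_ax3_13
  | _ => []

/-- the words of the classes of the middle table of the chain -/
def ax2W : ℕ → List ℕ
  | 0 => cw_ax2_0
  | 1 => cw_ax2_1
  | 2 => cw_ax2_2
  | 3 => cw_ax2_3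
  | 4 => cw_ax2_4
  | 5 => cw_ax2_5
  | 6 => cw_ax2_6
  | 7 => cw_ax2_7
  | 8 => cw_ax2_8
  | 9 => cw_ax2_9
  | 10 => cw_ax2_10
  | _ => []

/-- the words of the classes of the smallest table of the chain -/
def ax1W : ℕ → List ℕ
  | 0 => cw_ax1_0
  | 1 => cw_ax1_1
  | 2 => cw_ax1_2
  | 3 => cw_ax1_3
  | 4 => cw_ax1_4
  | _ => []

/-- the words that say how the element of order three acts on root elements -/
def triW : ℕ → List ℕ
  | 0 => cw_tri0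
  | 1 => cw_tri1
  | 2 => cw_tri2
  | 3 => cw_tri3
  | 4 => cw_tri4
  | 5 => cw_tri5
  | 6 => cw_tri6
  | 7 => cw_tri7
  | _ => []

/-- the first ten of the twelve letters as words in the eight letters -/
def hBW : ℕ → List ℕ
  | 0 => cw_B0
  | 1 => cw_B1
  | 2 => cw_B2
  | 3 => cw_B3
  | 4 => cw_B4
  | 5 => cw_B5
  | 6 => cw_B6
  | 7 => cw_B7
  | 8 => cw_B8
  | 9 => cw_B9
  | _ => []

theorem chk_axTW : ∀ j, j < 3 → F42T.cert.W (F42T.axI j) = axTW j := by decide +kernel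

theorem chk_ax3W : ∀ j, j < 14 → F42A3.cert.W (F42A3.axI j) = ax3W j := by decide +kernel

theorem chk_ax2W : ∀ j, j < 11 → F42A2.cert.W (F42A2.axI j) = ax2W j := by decide +kernel

theorem chk_ax1W : ∀ j, j < 5 → O73A1.cert.W (F42L1.axI j) = ax1W j := by decide +kernel

theorem chk_triWW : ∀ k, k < 8 → F42T.cert.W (F42T.triI k) = triW k := by decide +kernel

theorem chk_hBW : ∀ x, x < 10 → hInK x = hBW x := by decide

theorem chk_y17W : cw_y17 = wpow 17 F42T.yW := by decide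

theorem chk_s6W : cw_s6 = wpow 6 [10] := by decide

theorem chk_ex3W : cw_ex3 = wpow 7 F42A3.yW := by decide

theorem chk_ex2W : cw_ex2 = wpow 7 F42A2.yW := by decide

theorem chk_l1aW : cw_l1a = wpow 7 [2] := by decide

theorem chk_l1bW : cw_l1b = wpow 7 F42L1.yW := by decide

theorem ev5_cw_axT0 (p : ℕ) : ev5 cw_axT0 p = cf_axT0 p := by
  simp only [cw_axT0, cf_axT0, ev5_cons, ev5_nil, lk5_eq_0, lk5_eq_1, lk5_eq_2, lk5_eq_3, lk5_eq_4, lk5_eq_5, lk5_eq_6, lk5_eq_7, lk5_eq_8, lk5_eq_9, lk5_eq_10, lk5_eq_11]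

theorem ev5_cw_axT1 (p : ℕ) : ev5 cw_axT1 p = cf_axT1 p := by
  simp only [cw_axT1, cf_axT1, ev5_cons, ev5_nil, lk5_eq_0, lk5_eq_1, lk5_eq_2, lk5_eq_3, lk5_eq_4, lk5_eq_5, lk5_eq_6, lk5_eq_7, lk5_eq_8, lk5_eq_9, lk5_eq_10, lk5_eq_11]

theorem ev5_cw_axT2 (p : ℕ) : ev5 cw_axT2 p = cf_axT2 p := by
  simp only [cw_axT2, cf_axT2, ev5_cons, ev5_nil, lk5_eq_0, lk5_eq_1, lk5_eq_2, lk5_eq_3, lk5_eq_4, lk5_eq_5, lk5_eq_6, lk5_eq_7, lk5_eq_8, lk5_eq_9, lk5_eq_10, lk5_eq_11]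

theorem ev5_cw_y17 (p : ℕ) : ev5 cw_y17 p = cf_y17 p := by
  simp only [cw_y17, cf_y17, cf_y, ev5_cons, ev5_nil, lk5_eq_0, lk5_eq_1, lk5_eq_2, lk5_eq_3, lk5_eq_4, lk5_eq_5, lk5_eq_6, lk5_eq_7, lk5_eq_8, lk5_eq_9, lk5_eq_10, lk5_eq_11]

theorem ev5_cw_tri0 (p : ℕ) : ev5 cw_tri0 p = cf_tri0 p := by
  simp only [cw_tri0, cf_tri0, ev5_cons, ev5_nil, lk5_eq_0, lk5_eq_1, lk5_eq_2, lk5_eq_3, lk5_eq_4, lk5_eq_5, lk5_eq_6, lk5_eq_7, lk5_eq_8, lk5_eq_9, lk5_eq_10, lk5_eq_11]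

theorem ev5_cw_tri1 (p : ℕ) : ev5 cw_tri1 p = cf_tri1 p := by
  simp only [cw_tri1, cf_tri1, ev5_cons, ev5_nil, lk5_eq_0, lk5_eq_1, lk5_eq_2, lk5_eq_3, lk5_eq_4, lk5_eq_5, lk5_eq_6, lk5_eq_7, lk5_eq_8, lk5_eq_9, lk5_eq_10, lk5_eq_11]

theorem ev5_cw_tri2 (p : ℕ) : ev5 cw_tri2 p = cf_tri2 p := by
  simp only [cw_tri2, cf_tri2, ev5_cons, ev5_nil, lk5_eq_0, lk5_eq_1, lk5_eq_2, lk5_eq_3, lk5_eq_4, lk5_eq_5, lk5_eq_6, lk5_eq_7, lk5_eq_8, lk5_eq_9, lk5_eq_10, lk5_eq_11]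

theorem ev5_cw_tri3 (p : ℕ) : ev5 cw_tri3 p = cf_tri3 p := by
  simp only [cw_tri3, cf_tri3, ev5_cons, ev5_nil, lk5_eq_0, lk5_eq_1, lk5_eq_2, lk5_eq_3, lk5_eq_4, lk5_eq_5, lk5_eq_6, lk5_eq_7, lk5_eq_8, lk5_eq_9, lk5_eq_10, lk5_eq_11]

theorem ev5_cw_tri4 (p : ℕ) : ev5 cw_tri4 p = cf_tri4 p := by
  simp only [cw_tri4, cf_tri4, ev5_cons, ev5_nil, lk5_eq_0, lk5_eq_1, lk5_eq_2, lk5_eq_3, lk5_eq_4, lk5_eq_5, lk5_eq_6, lk5_eq_7, lk5_eq_8, lk5_eq_9, lk5_eq_10, lk5_eq_11]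

theorem ev5_cw_tri5 (p : ℕ) : ev5 cw_tri5 p = cf_tri5 p := by
  simp only [cw_tri5, cf_tri5, ev5_cons, ev5_nil, lk5_eq_0, lk5_eq_1, lk5_eq_2, lk5_eq_3, lk5_eq_4, lk5_eq_5, lk5_eq_6, lk5_eq_7, lk5_eq_8, lk5_eq_9, lk5_eq_10, lk5_eq_11]

theorem ev5_cw_tri6 (p : ℕ) : ev5 cw_tri6 p = cf_tri6 p := by
  simp only [cw_tri6, cf_tri6, ev5_cons, ev5_nil, lk5_eq_0, lk5_eq_1, lk5_eq_2, lk5_eq_3, lk5_eq_4, lk5_eq_5, lk5_eq_6, lk5_eq_7, lk5_eq_8, lk5_eq_9, lk5_eq_10, lk5_eq_11]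

theorem ev5_cw_tri7 (p : ℕ) : ev5 cw_tri7 p = cf_tri7 p := by
  simp only [cw_tri7, cf_tri7, ev5_cons, ev5_nil, lk5_eq_0, lk5_eq_1, lk5_eq_2, lk5_eq_3, lk5_eq_4, lk5_eq_5, lk5_eq_6, lk5_eq_7, lk5_eq_8, lk5_eq_9, lk5_eq_10, lk5_eq_11]

theorem ev5_cw_s6 (p : ℕ) : ev5 cw_s6 p = cf_s6 p := by
  simp only [cw_s6, cf_s6, ev5_cons, ev5_nil, lk5_eq_0, lk5_eq_1, lk5_eq_2, lk5_eq_3, lk5_eq_4, lk5_eq_5, lk5_eq_6, lk5_eq_7, lk5_eq_8, lk5_eq_9, lk5_eq_10, lk5_eq_11]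

theorem evK_cw_ax3_0 (p : ℕ) : evK cw_ax3_0 p = cf_ax3_0 p := by
  simp only [cw_ax3_0, cf_ax3_0, evK_cons, evK_nil, lkK_eq_0, lkK_eq_1, lkK_eq_2, lkK_eq_3, lkK_eq_4, lkK_eq_5, lkK_eq_6, lkK_eq_7]

theorem evK_cw_ax3_1 (p : ℕ) : evK cw_ax3_1 p = cf_ax3_1 p := by
  simp only [cw_ax3_1, cf_ax3_1, evK_cons, evK_nil, lkK_eq_0, lkK_eq_1, lkK_eq_2, lkK_eq_3, lkK_eq_4, lkK_eq_5, lkK_eq_6, lkK_eq_7]

theorem evK_cw_ax3_2 (p : ℕ) : evK cw_ax3_2 p = cf_ax3_2 p := by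
  simp only [cw_ax3_2, cf_ax3_2, evK_cons, evK_nil, lkK_eq_0, lkK_eq_1, lkK_eq_2, lkK_eq_3, lkK_eq_4, lkK_eq_5, lkK_eq_6, lkK_eq_7]

theorem evK_cw_ax3_3 (p : ℕ) : evK cw_ax3_3 p = cf_ax3_3 p := by
  simp only [cw_ax3_3, cf_ax3_3, evK_cons, evK_nil, lkK_eq_0, lkK_eq_1, lkK_eq_2, lkK_eq_3, lkK_eq_4, lkK_eq_5, lkK_eq_6, lkK_eq_7]

theorem evK_cw_ax3_4 (p : ℕ) : evK cw_ax3_4 p = cf_ax3_4 p := by
  simp only [cw_ax3_4, cf_ax3_4, evK_cons, evK_nil, lkK_eq_0, lkK_eq_1, lkK_eq_2, lkK_eq_3, lkK_eq_4, lkK_eq_5, lkK_eq_6, lkK_eq_7]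

theorem evK_cw_ax3_5 (p : ℕ) : evK cw_ax3_5 p = cf_ax3_5 p := by
  simp only [cw_ax3_5, cf_ax3_5, evK_cons, evK_nil, lkK_eq_0, lkK_eq_1, lkK_eq_2, lkK_eq_3, lkK_eq_4, lkK_eq_5, lkK_eq_6, lkK_eq_7]

theorem evK_cw_ax3_6 (p : ℕ) : evK cw_ax3_6 p = cf_ax3_6 p := by
  simp only [cw_ax3_6, cf_ax3_6, evK_cons, evK_nil, lkK_eq_0, lkK_eq_1, lkK_eq_2, lkK_eq_3, lkK_eq_4, lkK_eq_5, lkK_eq_6, lkK_eq_7]

theorem evK_cw_ax3_7 (p : ℕ) : evK cw_ax3_7 p = cf_ax3_7 p := by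
  simp only [cw_ax3_7, cf_ax3_7, evK_cons, evK_nil, lkK_eq_0, lkK_eq_1, lkK_eq_2, lkK_eq_3, lkK_eq_4, lkK_eq_5, lkK_eq_6, lkK_eq_7]

theorem evK_cw_ax3_8 (p : ℕ) : evK cw_ax3_8 p = cf_ax3_8 p := by
  simp only [cw_ax3_8, cf_ax3_8, evK_cons, evK_nil, lkK_eq_0, lkK_eq_1, lkK_eq_2, lkK_eq_3, lkK_eq_4, lkK_eq_5, lkK_eq_6, lkK_eq_7]

theorem evK_cw_ax3_9 (p : ℕ) : evK cw_ax3_9 p = cf_ax3_9 p := by
  simp only [cw_ax3_9, cf_ax3_9, evK_cons, evK_nil, lkK_eq_0, lkK_eq_1, lkK_eq_2, lkK_eq_3, lkK_eq_4, lkK_eq_5, lkK_eq_6, lkK_eq_7]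

theorem evK_cw_ax3_10 (p : ℕ) : evK cw_ax3_10 p = cf_ax3_10 p := by
  simp only [cw_ax3_10, cf_ax3_10, evK_cons, evK_nil, lkK_eq_0, lkK_eq_1, lkK_eq_2, lkK_eq_3, lkK_eq_4, lkK_eq_5, lkK_eq_6, lkK_eq_7]

theorem evK_cw_ax3_11 (p : ℕ) : evK cw_ax3_11 p = cf_ax3_11 p := by
  simp only [cw_ax3_11, cf_ax3_11, evK_cons, evK_nil, lkK_eq_0, lkK_eq_1, lkK_eq_2, lkK_eq_3, lkK_eq_4, lkK_eq_5, lkK_eq_6, lkK_eq_7]

theorem evK_cw_ax3_12 (p : ℕ) : evK cw_ax3_12 p = cf_ax3_12 p := by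
  simp only [cw_ax3_12, cf_ax3_12, evK_cons, evK_nil, lkK_eq_0, lkK_eq_1, lkK_eq_2, lkK_eq_3, lkK_eq_4, lkK_eq_5, lkK_eq_6, lkK_eq_7]

theorem evK_cw_ax3_13 (p : ℕ) : evK cw_ax3_13 p = cf_ax3_13 p := by
  simp only [cw_ax3_13, cf_ax3_13, evK_cons, evK_nil, lkK_eq_0, lkK_eq_1, lkK_eq_2, lkK_eq_3, lkK_eq_4, lkK_eq_5, lkK_eq_6, lkK_eq_7]

theorem evK_cw_ax2_0 (p : ℕ) : evK cw_ax2_0 p = cf_ax2_0 p := by
  simp only [cw_ax2_0, cf_ax2_0, evK_cons, evK_nil, lkK_eq_0, lkK_eq_1, lkK_eq_2, lkK_eq_3, lkK_eq_4, lkK_eq_5, lkK_eq_6, lkK_eq_7]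

theorem evK_cw_ax2_1 (p : ℕ) : evK cw_ax2_1 p = cf_ax2_1 p := by
  simp only [cw_ax2_1, cf_ax2_1, evK_cons, evK_nil, lkK_eq_0, lkK_eq_1, lkK_eq_2, lkK_eq_3, lkK_eq_4, lkK_eq_5, lkK_eq_6, lkK_eq_7]

theorem evK_cw_ax2_2 (p : ℕ) : evK cw_ax2_2 p = cf_ax2_2 p := by
  simp only [cw_ax2_2, cf_ax2_2, evK_cons, evK_nil, lkK_eq_0, lkK_eq_1, lkK_eq_2, lkK_eq_3, lkK_eq_4, lkK_eq_5, lkK_eq_6, lkK_eq_7]

theorem evK_cw_ax2_3 (p : ℕ) : evK cw_ax2_3 p = cf_ax2_3 p := by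
  simp only [cw_ax2_3, cf_ax2_3, evK_cons, evK_nil, lkK_eq_0, lkK_eq_1, lkK_eq_2, lkK_eq_3, lkK_eq_4, lkK_eq_5, lkK_eq_6, lkK_eq_7]

theorem evK_cw_ax2_4 (p : ℕ) : evK cw_ax2_4 p = cf_ax2_4 p := by
  simp only [cw_ax2_4, cf_ax2_4, evK_cons, evK_nil, lkK_eq_0, lkK_eq_1, lkK_eq_2, lkK_eq_3, lkK_eq_4, lkK_eq_5, lkK_eq_6, lkK_eq_7]

theorem evK_cw_ax2_5 (p : ℕ) : evK cw_ax2_5 p = cf_ax2_5 p := by
  simp only [cw_ax2_5, cf_ax2_5, evK_cons, evK_nil, lkK_eq_0, lkK_eq_1, lkK_eq_2, lkK_eq_3, lkK_eq_4, lkK_eq_5, lkK_eq_6, lkK_eq_7]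

theorem evK_cw_ax2_6 (p : ℕ) : evK cw_ax2_6 p = cf_ax2_6 p := by
  simp only [cw_ax2_6, cf_ax2_6, evK_cons, evK_nil, lkK_eq_0, lkK_eq_1, lkK_eq_2, lkK_eq_3, lkK_eq_4, lkK_eq_5, lkK_eq_6, lkK_eq_7]

theorem evK_cw_ax2_7 (p : ℕ) : evK cw_ax2_7 p = cf_ax2_7 p := by
  simp only [cw_ax2_7, cf_ax2_7, evK_cons, evK_nil, lkK_eq_0, lkK_eq_1, lkK_eq_2, lkK_eq_3, lkK_eq_4, lkK_eq_5, lkK_eq_6, lkK_eq_7]

theorem evK_cw_ax2_8 (p : ℕ) : evK cw_ax2_8 p = cf_ax2_8 p := by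
  simp only [cw_ax2_8, cf_ax2_8, evK_cons, evK_nil, lkK_eq_0, lkK_eq_1, lkK_eq_2, lkK_eq_3, lkK_eq_4, lkK_eq_5, lkK_eq_6, lkK_eq_7]

theorem evK_cw_ax2_9 (p : ℕ) : evK cw_ax2_9 p = cf_ax2_9 p := by
  simp only [cw_ax2_9, cf_ax2_9, evK_cons, evK_nil, lkK_eq_0, lkK_eq_1, lkK_eq_2, lkK_eq_3, lkK_eq_4, lkK_eq_5, lkK_eq_6, lkK_eq_7]

theorem evK_cw_ax2_10 (p : ℕ) : evK cw_ax2_10 p = cf_ax2_10 p := by
  simp only [cw_ax2_10, cf_ax2_10, evK_cons, evK_nil, lkK_eq_0, lkK_eq_1, lkK_eq_2, lkK_eq_3, lkK_eq_4, lkK_eq_5, lkK_eq_6, lkK_eq_7]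

theorem evK_cw_ax1_0 (p : ℕ) : evK cw_ax1_0 p = cf_ax1_0 p := by
  simp only [cw_ax1_0, cf_ax1_0, evK_cons, evK_nil, lkK_eq_0, lkK_eq_1, lkK_eq_2, lkK_eq_3, lkK_eq_4, lkK_eq_5, lkK_eq_6, lkK_eq_7]

theorem evK_cw_ax1_1 (p : ℕ) : evK cw_ax1_1 p = cf_ax1_1 p := by
  simp only [cw_ax1_1, cf_ax1_1, evK_cons, evK_nil, lkK_eq_0, lkK_eq_1, lkK_eq_2, lkK_eq_3, lkK_eq_4, lkK_eq_5, lkK_eq_6, lkK_eq_7]

theorem evK_cw_ax1_2 (p : ℕ) : evK cw_ax1_2 p = cf_ax1_2 p := by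
  simp only [cw_ax1_2, cf_ax1_2, evK_cons, evK_nil, lkK_eq_0, lkK_eq_1, lkK_eq_2, lkK_eq_3, lkK_eq_4, lkK_eq_5, lkK_eq_6, lkK_eq_7]

theorem evK_cw_ax1_3 (p : ℕ) : evK cw_ax1_3 p = cf_ax1_3 p := by
  simp only [cw_ax1_3, cf_ax1_3, evK_cons, evK_nil, lkK_eq_0, lkK_eq_1, lkK_eq_2, lkK_eq_3, lkK_eq_4, lkK_eq_5, lkK_eq_6, lkK_eq_7]

theorem evK_cw_ax1_4 (p : ℕ) : evK cw_ax1_4 p = cf_ax1_4 p := by
  simp only [cw_ax1_4, cf_ax1_4, evK_cons, evK_nil, lkK_eq_0, lkK_eq_1, lkK_eq_2, lkK_eq_3, lkK_eq_4, lkK_eq_5, lkK_eq_6, lkK_eq_7]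

theorem evK_cw_ex3 (p : ℕ) : evK cw_ex3 p = cf_ex3 p := by
  simp only [cw_ex3, cf_ex3, evK_cons, evK_nil, lkK_eq_0, lkK_eq_1, lkK_eq_2, lkK_eq_3, lkK_eq_4, lkK_eq_5, lkK_eq_6, lkK_eq_7]

theorem evK_cw_ex2 (p : ℕ) : evK cw_ex2 p = cf_ex2 p := by
  simp only [cw_ex2, cf_ex2, evK_cons, evK_nil, lkK_eq_0, lkK_eq_1, lkK_eq_2, lkK_eq_3, lkK_eq_4, lkK_eq_5, lkK_eq_6, lkK_eq_7]

theorem evK_cw_l1a (p : ℕ) : evK cw_l1a p = cf_l1a p := by
  simp only [cw_l1a, cf_l1a, evK_cons, evK_nil, lkK_eq_0, lkK_eq_1, lkK_eq_2, lkK_eq_3, lkK_eq_4, lkK_eq_5, lkK_eq_6, lkK_eq_7]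

theorem evK_cw_l1b (p : ℕ) : evK cw_l1b p = cf_l1b p := by
  simp only [cw_l1b, cf_l1b, evK_cons, evK_nil, lkK_eq_0, lkK_eq_1, lkK_eq_2, lkK_eq_3, lkK_eq_4, lkK_eq_5, lkK_eq_6, lkK_eq_7]

theorem evK_cw_B0 (p : ℕ) : evK cw_B0 p = cf_B0 p := by
  simp only [cw_B0, cf_B0, evK_cons, evK_nil, lkK_eq_0, lkK_eq_1, lkK_eq_2, lkK_eq_3, lkK_eq_4, lkK_eq_5, lkK_eq_6, lkK_eq_7]

theorem evK_cw_B1 (p : ℕ) : evK cw_B1 p = cf_B1 p := by
  simp only [cw_B1, cf_B1, evK_cons, evK_nil, lkK_eq_0, lkK_eq_1, lkK_eq_2, lkK_eq_3, lkK_eq_4, lkK_eq_5, lkK_eq_6, lkK_eq_7]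

theorem evK_cw_B2 (p : ℕ) : evK cw_B2 p = cf_B2 p := by
  simp only [cw_B2, cf_B2, evK_cons, evK_nil, lkK_eq_0, lkK_eq_1, lkK_eq_2, lkK_eq_3, lkK_eq_4, lkK_eq_5, lkK_eq_6, lkK_eq_7]

theorem evK_cw_B3 (p : ℕ) : evK cw_B3 p = cf_B3 p := by
  simp only [cw_B3, cf_B3, evK_cons, evK_nil, lkK_eq_0, lkK_eq_1, lkK_eq_2, lkK_eq_3, lkK_eq_4, lkK_eq_5, lkK_eq_6, lkK_eq_7]

theorem evK_cw_B4 (p : ℕ) : evK cw_B4 p = cf_B4 p := by
  simp only [cw_B4, cf_B4, evK_cons, evK_nil, lkK_eq_0, lkK_eq_1, lkK_eq_2, lkK_eq_3, lkK_eq_4, lkK_eq_5, lkK_eq_6, lkK_eq_7]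

theorem evK_cw_B5 (p : ℕ) : evK cw_B5 p = cf_B5 p := by
  simp only [cw_B5, cf_B5, evK_cons, evK_nil, lkK_eq_0, lkK_eq_1, lkK_eq_2, lkK_eq_3, lkK_eq_4, lkK_eq_5, lkK_eq_6, lkK_eq_7]

theorem evK_cw_B6 (p : ℕ) : evK cw_B6 p = cf_B6 p := by
  simp only [cw_B6, cf_B6, evK_cons, evK_nil, lkK_eq_0, lkK_eq_1, lkK_eq_2, lkK_eq_3, lkK_eq_4, lkK_eq_5, lkK_eq_6, lkK_eq_7]

theorem evK_cw_B7 (p : ℕ) : evK cw_B7 p = cf_B7 p := by
  simp only [cw_B7, cf_B7, evK_cons, evK_nil, lkK_eq_0, lkK_eq_1, lkK_eq_2, lkK_eq_3, lkK_eq_4, lkK_eq_5, lkK_eq_6, lkK_eq_7]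

theorem evK_cw_B8 (p : ℕ) : evK cw_B8 p = cf_B8 p := by
  simp only [cw_B8, cf_B8, evK_cons, evK_nil, lkK_eq_0, lkK_eq_1, lkK_eq_2, lkK_eq_3, lkK_eq_4, lkK_eq_5, lkK_eq_6, lkK_eq_7]

theorem evK_cw_B9 (p : ℕ) : evK cw_B9 p = cf_B9 p := by
  simp only [cw_B9, cf_B9, evK_cons, evK_nil, lkK_eq_0, lkK_eq_1, lkK_eq_2, lkK_eq_3, lkK_eq_4, lkK_eq_5, lkK_eq_6, lkK_eq_7]

theorem ev5_axT0 {p : ℕ} (hp : p < 139776) : ev5 cw_axT0 p = sh 1 p := by
  rw [ev5_cw_axT0]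
  exact shF_spec (by norm_num) c_axT0 hp

theorem ev5_axT1 {p : ℕ} (hp : p < 139776) : ev5 cw_axT1 p = p := by
  rw [ev5_cw_axT1]
  exact fxF_spec (by norm_num) c_axT1 hp

theorem ev5_axT2 {p : ℕ} (hp : p < 139776) : ev5 cw_axT2 p = p := by
  rw [ev5_cw_axT2]
  exact fxF_spec (by norm_num) c_axT2 hp

theorem ev5_y17 {p : ℕ} (hp : p < 139776) : ev5 (wpow 17 F42T.yW) p = p := by
  rw [← chk_y17W, ev5_cw_y17]
  exact fxF_spec (by norm_num) c_y17 hp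

theorem ev5_s6 {p : ℕ} (hp : p < 139776) : ev5 (wpow 6 [10]) p = p := by
  rw [← chk_s6W, ev5_cw_s6]
  exact fxF_spec (by norm_num) c_s6 hp

theorem ev5_tri : ∀ j, j < 8 → ∀ p, p < 139776 → ev5 (triW j) p = p
  | 0, _, p, hp => by
    show ev5 cw_tri0 p = p
    rw [ev5_cw_tri0]
    exact fxF_spec (by norm_num) c_tri0 hp
  | 1, _, p, hp => by
    show ev5 cw_tri1 p = p
    rw [ev5_cw_tri1]
    exact fxF_spec (by norm_num) c_tri1 hp
  | 2, _, p, hp => by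
    show ev5 cw_tri2 p = p
    rw [ev5_cw_tri2]
    exact fxF_spec (by norm_num) c_tri2 hp
  | 3, _, p, hp => by
    show ev5 cw_tri3 p = p
    rw [ev5_cw_tri3]
    exact fxF_spec (by norm_num) c_tri3 hp
  | 4, _, p, hp => by
    show ev5 cw_tri4 p = p
    rw [ev5_cw_tri4]
    exact fxF_spec (by norm_num) c_tri4 hp
  | 5, _, p, hp => by
    show ev5 cw_tri5 p = p
    rw [ev5_cw_tri5]
    exact fxF_spec (by norm_num) c_tri5 hp
  | 6, _, p, hp => by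
    show ev5 cw_tri6 p = p
    rw [ev5_cw_tri6]
    exact fxF_spec (by norm_num) c_tri6 hp
  | 7, _, p, hp => by
    show ev5 cw_tri7 p = p
    rw [ev5_cw_tri7]
    exact fxF_spec (by norm_num) c_tri7 hp
  | j + 8, h, _, _ => absurd h (by omega)

theorem evK_ax3 : ∀ j, j < 14 → ∀ p, p < 139776 → evK (ax3W j) p = p
  | 0, _, p, hp => by
    show evK cw_ax3_0 p = p
    rw [evK_cw_ax3_0]
    exact fxF_spec (by norm_num) c_ax3_0 hp
  | 1, _, p, hp => by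
    show evK cw_ax3_1 p = p
    rw [evK_cw_ax3_1]
    exact fxF_spec (by norm_num) c_ax3_1 hp
  | 2, _, p, hp => by
    show evK cw_ax3_2 p = p
    rw [evK_cw_ax3_2]
    exact fxF_spec (by norm_num) c_ax3_2 hp
  | 3, _, p, hp => by
    show evK cw_ax3_3 p = p
    rw [evK_cw_ax3_3]
    exact fxF_spec (by norm_num) c_ax3_3 hp
  | 4, _, p, hp => by
    show evK cw_ax3_4 p = p
    rw [evK_cw_ax3_4]
    exact fxF_spec (by norm_num) c_ax3_4 hp
  | 5, _, p, hp => by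
    show evK cw_ax3_5 p = p
    rw [evK_cw_ax3_5]
    exact fxF_spec (by norm_num) c_ax3_5 hp
  | 6, _, p, hp => by
    show evK cw_ax3_6 p = p
    rw [evK_cw_ax3_6]
    exact fxF_spec (by norm_num) c_ax3_6 hp
  | 7, _, p, hp => by
    show evK cw_ax3_7 p = p
    rw [evK_cw_ax3_7]
    exact fxF_spec (by norm_num) c_ax3_7 hp
  | 8, _, p, hp => by
    show evK cw_ax3_8 p = p
    rw [evK_cw_ax3_8]
    exact fxF_spec (by norm_num) c_ax3_8 hp
  | 9, _, p, hp => by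
    show evK cw_ax3_9 p = p
    rw [evK_cw_ax3_9]
    exact fxF_spec (by norm_num) c_ax3_9 hp
  | 10, _, p, hp => by
    show evK cw_ax3_10 p = p
    rw [evK_cw_ax3_10]
    exact fxF_spec (by norm_num) c_ax3_10 hp
  | 11, _, p, hp => by
    show evK cw_ax3_11 p = p
    rw [evK_cw_ax3_11]
    exact fxF_spec (by norm_num) c_ax3_11 hp
  | 12, _, p, hp => by
    show evK cw_ax3_12 p = p
    rw [evK_cw_ax3_12]
    exact fxF_spec (by norm_num) c_ax3_12 hp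
  | 13, _, p, hp => by
    show evK cw_ax3_13 p = p
    rw [evK_cw_ax3_13]
    exact fxF_spec (by norm_num) c_ax3_13 hp
  | j + 14, h, _, _ => absurd h (by omega)

theorem evK_ax2 : ∀ j, j < 11 → ∀ p, p < 139776 → evK (ax2W j) p = p
  | 0, _, p, hp => by
    show evK cw_ax2_0 p = p
    rw [evK_cw_ax2_0]
    exact fxF_spec (by norm_num) c_ax2_0 hp
  | 1, _, p, hp => by
    show evK cw_ax2_1 p = p
    rw [evK_cw_ax2_1]
    exact fxF_spec (by norm_num) c_ax2_1 hp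
  | 2, _, p, hp => by
    show evK cw_ax2_2 p = p
    rw [evK_cw_ax2_2]
    exact fxF_spec (by norm_num) c_ax2_2 hp
  | 3, _, p, hp => by
    show evK cw_ax2_3 p = p
    rw [evK_cw_ax2_3]
    exact fxF_spec (by norm_num) c_ax2_3 hp
  | 4, _, p, hp => by
    show evK cw_ax2_4 p = p
    rw [evK_cw_ax2_4]
    exact fxF_spec (by norm_num) c_ax2_4 hp
  | 5, _, p, hp => by
    show evK cw_ax2_5 p = p
    rw [evK_cw_ax2_5]
    exact fxF_spec (by norm_num) c_ax2_5 hp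
  | 6, _, p, hp => by
    show evK cw_ax2_6 p = p
    rw [evK_cw_ax2_6]
    exact fxF_spec (by norm_num) c_ax2_6 hp
  | 7, _, p, hp => by
    show evK cw_ax2_7 p = p
    rw [evK_cw_ax2_7]
    exact fxF_spec (by norm_num) c_ax2_7 hp
  | 8, _, p, hp => by
    show evK cw_ax2_8 p = p
    rw [evK_cw_ax2_8]
    exact fxF_spec (by norm_num) c_ax2_8 hp
  | 9, _, p, hp => by
    show evK cw_ax2_9 p = p
    rw [evK_cw_ax2_9]
    exact fxF_spec (by norm_num) c_ax2_9 hp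
  | 10, _, p, hp => by
    show evK cw_ax2_10 p = p
    rw [evK_cw_ax2_10]
    exact fxF_spec (by norm_num) c_ax2_10 hp
  | j + 11, h, _, _ => absurd h (by omega)

theorem evK_ax1 : ∀ j, j < 5 → ∀ p, p < 139776 → evK (ax1W j) p = p
  | 0, _, p, hp => by
    show evK cw_ax1_0 p = p
    rw [evK_cw_ax1_0]
    exact fxF_spec (by norm_num) c_ax1_0 hp
  | 1, _, p, hp => by
    show evK cw_ax1_1 p = p
    rw [evK_cw_ax1_1]
    exact fxF_spec (by norm_num) c_ax1_1 hp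
  | 2, _, p, hp => by
    show evK cw_ax1_2 p = p
    rw [evK_cw_ax1_2]
    exact fxF_spec (by norm_num) c_ax1_2 hp
  | 3, _, p, hp => by
    show evK cw_ax1_3 p = p
    rw [evK_cw_ax1_3]
    exact fxF_spec (by norm_num) c_ax1_3 hp
  | 4, _, p, hp => by
    show evK cw_ax1_4 p = p
    rw [evK_cw_ax1_4]
    exact fxF_spec (by norm_num) c_ax1_4 hp
  | j + 5, h, _, _ => absurd h (by omega)

theorem evK_ex3 {p : ℕ} (hp : p < 139776) : evK (wpow 7 F42A3.yW) p = p := by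
  rw [← chk_ex3W, evK_cw_ex3]
  exact fxF_spec (by norm_num) c_ex3 hp

theorem evK_ex2 {p : ℕ} (hp : p < 139776) : evK (wpow 7 F42A2.yW) p = p := by
  rw [← chk_ex2W, evK_cw_ex2]
  exact fxF_spec (by norm_num) c_ex2 hp

theorem evK_l1a {p : ℕ} (hp : p < 139776) : evK (wpow 7 [2]) p = p := by
  rw [← chk_l1aW, evK_cw_l1a]
  exact fxF_spec (by norm_num) c_l1a hp

theorem evK_l1b {p : ℕ} (hp : p < 139776) : evK (wpow 7 F42L1.yW) p = p := by
  rw [← chk_l1bW, evK_cw_l1b]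
  exact fxF_spec (by norm_num) c_l1b hp

theorem lk5_hBW : ∀ x, x < 10 → ∀ p, p < 139776 → lk5 x p = evK (hBW x) p
  | 0, _, p, hp => by
    show lk5 0 p = evK cw_B0 p
    rw [lk5_eq_0, evK_cw_B0]
    exact eqF_spec (by norm_num) c_B0 hp
  | 1, _, p, hp => by
    show lk5 1 p = evK cw_B1 p
    rw [lk5_eq_1, evK_cw_B1]
    exact eqF_spec (by norm_num) c_B1 hp
  | 2, _, p, hp => by
    show lk5 2 p = evK cw_B2 p
    rw [lk5_eq_2, evK_cw_B2]
    exact eqF_spec (by norm_num) c_B2 hp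
  | 3, _, p, hp => by
    show lk5 3 p = evK cw_B3 p
    rw [lk5_eq_3, evK_cw_B3]
    exact eqF_spec (by norm_num) c_B3 hp
  | 4, _, p, hp => by
    show lk5 4 p = evK cw_B4 p
    rw [lk5_eq_4, evK_cw_B4]
    exact eqF_spec (by norm_num) c_B4 hp
  | 5, _, p, hp => by
    show lk5 5 p = evK cw_B5 p
    rw [lk5_eq_5, evK_cw_B5]
    exact eqF_spec (by norm_num) c_B5 hp
  | 6, _, p, hp => by
    show lk5 6 p = evK cw_B6 p
    rw [lk5_eq_6, evK_cw_B6]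
    exact eqF_spec (by norm_num) c_B6 hp
  | 7, _, p, hp => by
    show lk5 7 p = evK cw_B7 p
    rw [lk5_eq_7, evK_cw_B7]
    exact eqF_spec (by norm_num) c_B7 hp
  | 8, _, p, hp => by
    show lk5 8 p = evK cw_B8 p
    rw [lk5_eq_8, evK_cw_B8]
    exact eqF_spec (by norm_num) c_B8 hp
  | 9, _, p, hp => by
    show lk5 9 p = evK cw_B9 p
    rw [lk5_eq_9, evK_cw_B9]
    exact eqF_spec (by norm_num) c_B9 hp
  | x + 10, h, _, _ => absurd h (by omega)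

/-- the letters commute with the exchange of the two copies of each coset -/
theorem lk5_sh (x p : ℕ) (hp : p < 139776) : lk5 x (sh 1 p) = sh 1 (lk5 x p) := by
  rcases Nat.lt_or_ge x 12 with hx | hx
  · have : x = 0 ∨ x = 1 ∨ x = 2 ∨ x = 3 ∨ x = 4 ∨ x = 5 ∨ x = 6 ∨ x = 7 ∨ x = 8 ∨ x = 9 ∨ x = 10 ∨ x = 11 := by omega
    rcases this with rfl | rfl | rfl | rfl | rfl | rfl | rfl | rfl | rfl | rfl | rfl | rfl
    · rw [lk5_eq_0, lk5_eq_0]
      exact cenF_spec (by norm_num) c_cen0 hp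
    · rw [lk5_eq_1, lk5_eq_1]
      exact cenF_spec (by norm_num) c_cen1 hp
    · rw [lk5_eq_2, lk5_eq_2]
      exact cenF_spec (by norm_num) c_cen2 hp
    · rw [lk5_eq_3, lk5_eq_3]
      exact cenF_spec (by norm_num) c_cen3 hp
    · rw [lk5_eq_4, lk5_eq_4]
      exact cenF_spec (by norm_num) c_cen4 hp
    · rw [lk5_eq_5, lk5_eq_5]
      exact cenF_spec (by norm_num) c_cen5 hp
    · rw [lk5_eq_6, lk5_eq_6]
      exact cenF_spec (by norm_num) c_cen6 hp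
    · rw [lk5_eq_7, lk5_eq_7]
      exact cenF_spec (by norm_num) c_cen7 hp
    · rw [lk5_eq_8, lk5_eq_8]
      exact cenF_spec (by norm_num) c_cen8 hp
    · rw [lk5_eq_9, lk5_eq_9]
      exact cenF_spec (by norm_num) c_cen9 hp
    · rw [lk5_eq_10, lk5_eq_10]
      exact cenF_spec (by norm_num) c_cen10 hp
    · rw [lk5_eq_11, lk5_eq_11]
      exact cenF_spec (by norm_num) c_cen11 hp
  · rw [lk5_ge hx, lk5_ge hx]

theorem lkK_sh (y p : ℕ) (hp : p < 139776) : lkK y (sh 1 p) = sh 1 (lkK y p) := by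
  rcases Nat.lt_or_ge y 8 with hy | hy
  · have : y = 0 ∨ y = 1 ∨ y = 2 ∨ y = 3 ∨ y = 4 ∨ y = 5 ∨ y = 6 ∨ y = 7 := by omega
    rcases this with rfl | rfl | rfl | rfl | rfl | rfl | rfl | rfl
    · rw [lkK_eq_0, lkK_eq_0]
      exact cenF_spec (by norm_num) c_cenK0 hp
    · rw [lkK_eq_1, lkK_eq_1]
      exact cenF_spec (by norm_num) c_cenK1 hp
    · rw [lkK_eq_2, lkK_eq_2]
      exact cenF_spec (by norm_num) c_cenK2 hp
    · rw [lkK_eq_3, lkK_eq_3]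
      exact cenF_spec (by norm_num) c_cenK3 hp
    · rw [lkK_eq_4, lkK_eq_4]
      exact cenF_spec (by norm_num) c_cenK4 hp
    · rw [lkK_eq_5, lkK_eq_5]
      exact cenF_spec (by norm_num) c_cenK5 hp
    · rw [lkK_eq_6, lkK_eq_6]
      exact cenF_spec (by norm_num) c_cenK6 hp
    · rw [lkK_eq_7, lkK_eq_7]
      exact cenF_spec (by norm_num) c_cenK7 hp
  · rw [lkK_ge hy, lkK_ge hy]

/-! ### the central element -/

/-- the element of the kernel: the value of the first word of the classes of the table of the group -/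
noncomputable def zX : ↥GE := VCert.wd gE cw_axT0

theorem wd_lT_axT (j : ℕ) (hj : j < 3) : VCert.wd lT (axTW j) = 1 := by
  rw [← chk_axTW j hj]
  exact wd_lT_W (F42T.axI_lt j)

theorem wd_lT_axT0 : VCert.wd lT cw_axT0 = 1 := wd_lT_axT 0 (by norm_num)

theorem zX_val : ((zX : ↥GE) : Equiv.Perm (Fin 139776) × G) = (VCert.wd pm5 cw_axT0, 1) := by
  rw [zX, wd_gE_val, wd_gX, wd_lT_axT0]

theorem pm_zX_val (p : Fin 139776) : ((VCert.wd pm5 cw_axT0) p).val = sh 1 p.val := by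
  rw [wd_pm5_val]
  exact ev5_axT0 p.2

theorem zX_comm_gE (x : ℕ) : gE x * zX = zX * gE x := by
  apply Subtype.ext
  rw [Subgroup.coe_mul, Subgroup.coe_mul, zX_val, gE_val, gX, Prod.mk_mul_mk, Prod.mk_mul_mk, mul_one, one_mul,
    Prod.mk.injEq]
  refine ⟨?_, rfl⟩
  apply Equiv.ext
  intro p
  apply Fin.ext
  rw [Equiv.Perm.mul_apply, Equiv.Perm.mul_apply, pm5_val, pm_zX_val, pm_zX_val, pm5_val]
  exact lk5_sh x p.val p.2

theorem zX_comm_kE (y : ℕ) : kE y * zX = zX * kE y := by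
  apply Subtype.ext
  rw [Subgroup.coe_mul, Subgroup.coe_mul, zX_val, kE_val, kX, Prod.mk_mul_mk, Prod.mk_mul_mk, mul_one, one_mul,
    Prod.mk.injEq]
  refine ⟨?_, rfl⟩
  apply Equiv.ext
  intro p
  apply Fin.ext
  rw [Equiv.Perm.mul_apply, Equiv.Perm.mul_apply, pmK_val, pm_zX_val, pm_zX_val, pmK_val]
  exact lkK_sh y p.val p.2

theorem zX_center : zX ∈ Subgroup.center ↥GE := by
  apply central_of_comm_gens (gE '' Set.Iio 12 ∪ kE '' Set.Iio 8) closure_gkE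
  rintro _ (⟨x, _, rfl⟩ | ⟨y, _, rfl⟩)
  · exact zX_comm_gE x
  · exact zX_comm_kE y

theorem zX_mem_ker : zX ∈ sigE.ker := by
  rw [MonoidHom.mem_ker, zX, sigE_wd, wd_lT_axT0]

theorem zX_sq : zX * zX = 1 := by
  apply Subtype.ext
  rw [Subgroup.coe_mul, zX_val, Prod.mk_mul_mk, mul_one, Subgroup.coe_one, Prod.mk_eq_one]
  refine ⟨?_, rfl⟩
  apply Equiv.ext
  intro p
  apply Fin.ext
  rw [Equiv.Perm.mul_apply, Equiv.Perm.one_apply, pm_zX_val, pm_zX_val]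
  show (p.val ^^^ 1) ^^^ 1 = p.val
  rw [Nat.xor_assoc, Nat.xor_self, Nat.xor_zero]

theorem zX_ne_one : zX ≠ 1 := by
  intro h
  have h1 : VCert.wd gE cw_axT0 = VCert.wd gE [] := h
  have h2 := ev5_of_wd_gE_eq h1 (p := 0) (by norm_num)
  rw [ev5_axT0 (by norm_num), ev5_nil] at h2
  exact absurd h2 (by decide)

/-! ### the subgroup generated by the first eight of the eight pairs -/

/-- the subgroup generated by the first eight of the eight pairs -/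
noncomputable def HE3 : Subgroup ↥GE := Subgroup.closure (kE '' Set.Iio 8)

theorem kE_mem_HE3 {x : ℕ} (hx : x < 8) : kE x ∈ HE3 := Subgroup.subset_closure ⟨x, hx, rfl⟩

theorem sigE_mem_HE3 (h : ↥GE) (hh : h ∈ HE3) : sigE h ∈ F42B.L := by
  induction hh using Subgroup.closure_induction with
  | mem y hy =>
    obtain ⟨x, hx, rfl⟩ := hy
    rw [sigE_kE]
    exact lK_mem_L hx
  | one => rw [map_one]; exact Subgroup.one_mem _
  | mul a b _ _ iha ihb => rw [map_mul]; exact Subgroup.mul_mem _ iha ihb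
  | inv a _ iha => rw [map_inv]; exact Subgroup.inv_mem _ iha

/-- the projection of the subgroup -/
noncomputable def sig3 : ↥HE3 →* ↥F42B.L :=
  (sigE.comp HE3.subtype).codRestrict F42B.L fun h => sigE_mem_HE3 h.1 h.2

theorem sig3_val (h : ↥HE3) : ((sig3 h : ↥F42B.L) : G) = sigE h.1 := rfl

/-- the first eight letters in the subgroup -/
noncomputable def k3 (x : ℕ) : ↥HE3 := if h : x < 8 then ⟨kE x, kE_mem_HE3 h⟩ else 1

theorem k3_val {x : ℕ} (hx : x < 8) : (k3 x : ↥GE) = kE x := by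
  rw [k3, dif_pos hx]

theorem k3_of_ge {x : ℕ} (hx : 8 ≤ x) : k3 x = 1 := by
  rw [k3, dif_neg (by omega)]

theorem sig3_k3 (x : ℕ) : sig3 (k3 x) = F42B.lK1 x := by
  rcases Nat.lt_or_ge x 8 with hx | hx
  · apply Subtype.ext
    rw [sig3_val, k3_val hx, sigE_kE, F42B.lK1_val hx]
    try rfl
  · rw [k3_of_ge hx, F42B.lK1_of_ge hx, map_one]

theorem sig3_wd : ∀ w : List ℕ, sig3 (VCert.wd k3 w) = VCert.wd F42B.lK1 w
  | [] => map_one sig3
  | x :: w => by rw [VCert.wd_cons, VCert.wd_cons, map_mul, sig3_k3, sig3_wd w]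

theorem wd_k3_val : ∀ w : List ℕ, (∀ x ∈ w, x < 8) → ((VCert.wd k3 w : ↥HE3) : ↥GE) = VCert.wd kE w
  | [], _ => rfl
  | x :: w, h => by
    rw [VCert.wd_cons, VCert.wd_cons, Subgroup.coe_mul, k3_val (h x List.mem_cons_self),
      wd_k3_val w fun y hy => h y (List.mem_cons_of_mem _ hy)]

theorem xor_lt_8 {x : ℕ} (hx : x < 8) : Nat.xor x 1 < 8 := by
  have : x = 0 ∨ x = 1 ∨ x = 2 ∨ x = 3 ∨ x = 4 ∨ x = 5 ∨ x = 6 ∨ x = 7 := by omega
  rcases this with rfl | rfl | rfl | rfl | rfl | rfl | rfl | rfl <;> decide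

theorem k3_iv {x : ℕ} (hx : x < 8) : k3 (Nat.xor x 1) = (k3 x)⁻¹ := by
  apply Subtype.ext
  rw [Subgroup.coe_inv, k3_val (xor_lt_8 hx), k3_val hx, kE_iv x hx]

theorem closure_k3 : Subgroup.closure (k3 '' Set.Iio 8) = ⊤ := by
  have h := Subgroup.closure_closure_coe_preimage (k := kE '' Set.Iio 8)
  have e : ((↑) ⁻¹' (kE '' Set.Iio 8) : Set ↥(Subgroup.closure (kE '' Set.Iio 8))) = k3 '' Set.Iio 8 := by
    ext z
    constructor
    · rintro ⟨x, hx, hz⟩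
      exact ⟨x, hx, Subtype.ext (by rw [k3_val hx]; exact hz)⟩
    · rintro ⟨x, hx, rfl⟩
      exact ⟨x, hx, (k3_val hx).symm⟩
  rw [e] at h
  exact h

theorem sig3_surj : Function.Surjective sig3 := by
  rw [← MonoidHom.range_eq_top, eq_top_iff, ← F42B.closure_lK1, Subgroup.closure_le]
  rintro _ ⟨x, _, rfl⟩
  exact ⟨k3 x, sig3_k3 x⟩

theorem hgen_HE3 : ∀ y : ↥HE3, ∃ u : List ℕ, (∀ x ∈ u, x < F42A3.cert.g) ∧ y = (u.map k3).prod := by
  apply MG.exists_word_of_closure k3 8 (fun x => Nat.xor x 1) _ closure_k3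
  intro x hx
  refine ⟨?_, k3_iv hx⟩
  have : x = 0 ∨ x = 1 ∨ x = 2 ∨ x = 3 ∨ x = 4 ∨ x = 5 ∨ x = 6 ∨ x = 7 := by omega
  rcases this with rfl | rfl | rfl | rfl | rfl | rfl | rfl | rfl <;> decide

theorem wd_kE_mem_HE3 : ∀ w : List ℕ, (∀ x ∈ w, x < 8) → VCert.wd kE w ∈ HE3
  | [], _ => Subgroup.one_mem _
  | x :: w, h => by
    rw [VCert.wd_cons]
    exact Subgroup.mul_mem _ (kE_mem_HE3 (h x List.mem_cons_self))
      (wd_kE_mem_HE3 w fun y hy => h y (List.mem_cons_of_mem _ hy))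

/-- a word in the eight letters that is trivial in the group and on the 139776 points is trivial -/
theorem wd_k3_eq_one {w : List ℕ} (hw : ∀ x ∈ w, x < 8) (h5 : ∀ p, p < 139776 → evK w p = p)
    (hK : VCert.wd F42B.lK1 w = 1) : VCert.wd k3 w = 1 := by
  apply Subtype.ext
  rw [wd_k3_val w hw]
  refine wd_kE_eq (w' := []) (fun p hp => by rw [h5 p hp, evK_nil]) ?_
  have := congrArg Subtype.val hK
  rw [F42B.wd_lK1_val w] at this
  rw [this]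
  rfl

/-! ### the subgroup generated by the first six of the eight pairs -/

/-- the subgroup generated by the first six of the eight pairs -/
noncomputable def HE2 : Subgroup ↥HE3 := Subgroup.closure (k3 '' Set.Iio 6)

theorem k3_mem_HE2 {x : ℕ} (hx : x < 6) : k3 x ∈ HE2 := Subgroup.subset_closure ⟨x, hx, rfl⟩

theorem sig3_mem_HE2 (h : ↥HE3) (hh : h ∈ HE2) : sig3 h ∈ F42V3.L := by
  induction hh using Subgroup.closure_induction with
  | mem y hy =>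
    obtain ⟨x, hx, rfl⟩ := hy
    rw [sig3_k3]
    exact F42V3.lK_mem_L hx
  | one => rw [map_one]; exact Subgroup.one_mem _
  | mul a b _ _ iha ihb => rw [map_mul]; exact Subgroup.mul_mem _ iha ihb
  | inv a _ iha => rw [map_inv]; exact Subgroup.inv_mem _ iha

/-- the projection of the subgroup -/
noncomputable def sig2 : ↥HE2 →* ↥F42V3.L :=
  (sig3.comp HE2.subtype).codRestrict F42V3.L fun h => sig3_mem_HE2 h.1 h.2

theorem sig2_val (h : ↥HE2) : ((sig2 h : ↥F42V3.L) : F42V3.G) = sig3 h.1 := rfl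

/-- the first six letters in the subgroup -/
noncomputable def k2 (x : ℕ) : ↥HE2 := if h : x < 6 then ⟨k3 x, k3_mem_HE2 h⟩ else 1

theorem k2_val {x : ℕ} (hx : x < 6) : (k2 x : ↥HE3) = k3 x := by
  rw [k2, dif_pos hx]

theorem k2_of_ge {x : ℕ} (hx : 6 ≤ x) : k2 x = 1 := by
  rw [k2, dif_neg (by omega)]

theorem sig2_k2 (x : ℕ) : sig2 (k2 x) = F42V3.lK1 x := by
  rcases Nat.lt_or_ge x 6 with hx | hx
  · apply Subtype.ext
    rw [sig2_val, k2_val hx, sig3_k3, F42V3.lK1_val hx]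
    try rfl
  · rw [k2_of_ge hx, F42V3.lK1_of_ge hx, map_one]

theorem sig2_wd : ∀ w : List ℕ, sig2 (VCert.wd k2 w) = VCert.wd F42V3.lK1 w
  | [] => map_one sig2
  | x :: w => by rw [VCert.wd_cons, VCert.wd_cons, map_mul, sig2_k2, sig2_wd w]

theorem wd_k2_val : ∀ w : List ℕ, (∀ x ∈ w, x < 6) → ((VCert.wd k2 w : ↥HE2) : ↥HE3) = VCert.wd k3 w
  | [], _ => rfl
  | x :: w, h => by
    rw [VCert.wd_cons, VCert.wd_cons, Subgroup.coe_mul, k2_val (h x List.mem_cons_self),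
      wd_k2_val w fun y hy => h y (List.mem_cons_of_mem _ hy)]

theorem xor_lt_6 {x : ℕ} (hx : x < 6) : Nat.xor x 1 < 6 := by
  have : x = 0 ∨ x = 1 ∨ x = 2 ∨ x = 3 ∨ x = 4 ∨ x = 5 := by omega
  rcases this with rfl | rfl | rfl | rfl | rfl | rfl <;> decide

theorem k2_iv {x : ℕ} (hx : x < 6) : k2 (Nat.xor x 1) = (k2 x)⁻¹ := by
  apply Subtype.ext
  rw [Subgroup.coe_inv, k2_val (xor_lt_6 hx), k2_val hx, k3_iv (by omega)]

theorem closure_k2 : Subgroup.closure (k2 '' Set.Iio 6) = ⊤ := by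
  have h := Subgroup.closure_closure_coe_preimage (k := k3 '' Set.Iio 6)
  have e : ((↑) ⁻¹' (k3 '' Set.Iio 6) : Set ↥(Subgroup.closure (k3 '' Set.Iio 6))) = k2 '' Set.Iio 6 := by
    ext z
    constructor
    · rintro ⟨x, hx, hz⟩
      exact ⟨x, hx, Subtype.ext (by rw [k2_val hx]; exact hz)⟩
    · rintro ⟨x, hx, rfl⟩
      exact ⟨x, hx, (k2_val hx).symm⟩
  rw [e] at h
  exact h

theorem sig2_surj : Function.Surjective sig2 := by
  rw [← MonoidHom.range_eq_top, eq_top_iff, ← F42V3.closure_lK1, Subgroup.closure_le]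
  rintro _ ⟨x, _, rfl⟩
  exact ⟨k2 x, sig2_k2 x⟩

theorem hgen_HE2 : ∀ y : ↥HE2, ∃ u : List ℕ, (∀ x ∈ u, x < F42A2.cert.g) ∧ y = (u.map k2).prod := by
  apply MG.exists_word_of_closure k2 6 (fun x => Nat.xor x 1) _ closure_k2
  intro x hx
  refine ⟨?_, k2_iv hx⟩
  have : x = 0 ∨ x = 1 ∨ x = 2 ∨ x = 3 ∨ x = 4 ∨ x = 5 := by omega
  rcases this with rfl | rfl | rfl | rfl | rfl | rfl <;> decide

theorem wd_k3_mem_HE2 : ∀ w : List ℕ, (∀ x ∈ w, x < 6) → VCert.wd k3 w ∈ HE2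
  | [], _ => Subgroup.one_mem _
  | x :: w, h => by
    rw [VCert.wd_cons]
    exact Subgroup.mul_mem _ (k3_mem_HE2 (h x List.mem_cons_self))
      (wd_k3_mem_HE2 w fun y hy => h y (List.mem_cons_of_mem _ hy))

/-- a word in the first six letters that is trivial in the group and on the 139776 points is trivial -/
theorem wd_k2_eq_one {w : List ℕ} (hw : ∀ x ∈ w, x < 6) (h5 : ∀ p, p < 139776 → evK w p = p)
    (hK : VCert.wd F42V3.lK1 w = 1) : VCert.wd k2 w = 1 := by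
  apply Subtype.ext
  rw [wd_k2_val w hw]
  refine wd_k3_eq_one (fun x hx => by have := hw x hx; omega) h5 ?_
  have := congrArg Subtype.val hK
  rw [F42V3.wd_lK1_val w hw] at this
  exact this

/-! ### the subgroup generated by the first four of the eight pairs -/

/-- the subgroup generated by the first four of the eight pairs -/
noncomputable def HE1 : Subgroup ↥HE2 := Subgroup.closure (k2 '' Set.Iio 4)

theorem k2_mem_HE1 {x : ℕ} (hx : x < 4) : k2 x ∈ HE1 := Subgroup.subset_closure ⟨x, hx, rfl⟩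

theorem sig2_mem_HE1 (h : ↥HE2) (hh : h ∈ HE1) : sig2 h ∈ F42V2.L := by
  induction hh using Subgroup.closure_induction with
  | mem y hy =>
    obtain ⟨x, hx, rfl⟩ := hy
    rw [sig2_k2]
    exact F42V2.lK_mem_L hx
  | one => rw [map_one]; exact Subgroup.one_mem _
  | mul a b _ _ iha ihb => rw [map_mul]; exact Subgroup.mul_mem _ iha ihb
  | inv a _ iha => rw [map_inv]; exact Subgroup.inv_mem _ iha

/-- the projection of the subgroup -/
noncomputable def sig1 : ↥HE1 →* ↥F42V2.L :=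
  (sig2.comp HE1.subtype).codRestrict F42V2.L fun h => sig2_mem_HE1 h.1 h.2

theorem sig1_val (h : ↥HE1) : ((sig1 h : ↥F42V2.L) : F42V2.G) = sig2 h.1 := rfl

/-- the first four letters in the subgroup -/
noncomputable def k1 (x : ℕ) : ↥HE1 := if h : x < 4 then ⟨k2 x, k2_mem_HE1 h⟩ else 1

theorem k1_val {x : ℕ} (hx : x < 4) : (k1 x : ↥HE2) = k2 x := by
  rw [k1, dif_pos hx]

theorem k1_of_ge {x : ℕ} (hx : 4 ≤ x) : k1 x = 1 := by
  rw [k1, dif_neg (by omega)]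

theorem sig1_k1 (x : ℕ) : sig1 (k1 x) = F42V2.lK1 x := by
  rcases Nat.lt_or_ge x 4 with hx | hx
  · apply Subtype.ext
    rw [sig1_val, k1_val hx, sig2_k2, F42V2.lK1_val hx]
    try rfl
  · rw [k1_of_ge hx, F42V2.lK1_of_ge hx, map_one]

theorem sig1_wd : ∀ w : List ℕ, sig1 (VCert.wd k1 w) = VCert.wd F42V2.lK1 w
  | [] => map_one sig1
  | x :: w => by rw [VCert.wd_cons, VCert.wd_cons, map_mul, sig1_k1, sig1_wd w]

theorem wd_k1_val : ∀ w : List ℕ, (∀ x ∈ w, x < 4) → ((VCert.wd k1 w : ↥HE1) : ↥HE2) = VCert.wd k2 w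
  | [], _ => rfl
  | x :: w, h => by
    rw [VCert.wd_cons, VCert.wd_cons, Subgroup.coe_mul, k1_val (h x List.mem_cons_self),
      wd_k1_val w fun y hy => h y (List.mem_cons_of_mem _ hy)]

theorem xor_lt_4 {x : ℕ} (hx : x < 4) : Nat.xor x 1 < 4 := by
  have : x = 0 ∨ x = 1 ∨ x = 2 ∨ x = 3 := by omega
  rcases this with rfl | rfl | rfl | rfl <;> decide

theorem k1_iv {x : ℕ} (hx : x < 4) : k1 (Nat.xor x 1) = (k1 x)⁻¹ := by
  apply Subtype.ext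
  rw [Subgroup.coe_inv, k1_val (xor_lt_4 hx), k1_val hx, k2_iv (by omega)]

theorem closure_k1 : Subgroup.closure (k1 '' Set.Iio 4) = ⊤ := by
  have h := Subgroup.closure_closure_coe_preimage (k := k2 '' Set.Iio 4)
  have e : ((↑) ⁻¹' (k2 '' Set.Iio 4) : Set ↥(Subgroup.closure (k2 '' Set.Iio 4))) = k1 '' Set.Iio 4 := by
    ext z
    constructor
    · rintro ⟨x, hx, hz⟩
      exact ⟨x, hx, Subtype.ext (by rw [k1_val hx]; exact hz)⟩
    · rintro ⟨x, hx, rfl⟩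
      exact ⟨x, hx, (k1_val hx).symm⟩
  rw [e] at h
  exact h

theorem sig1_surj : Function.Surjective sig1 := by
  rw [← MonoidHom.range_eq_top, eq_top_iff, ← F42V2.closure_lK1, Subgroup.closure_le]
  rintro _ ⟨x, _, rfl⟩
  exact ⟨k1 x, sig1_k1 x⟩

theorem hgen_HE1 : ∀ y : ↥HE1, ∃ u : List ℕ, (∀ x ∈ u, x < O73A1.cert.g) ∧ y = (u.map k1).prod := by
  apply MG.exists_word_of_closure k1 4 (fun x => Nat.xor x 1) _ closure_k1
  intro x hx
  refine ⟨?_, k1_iv hx⟩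
  have : x = 0 ∨ x = 1 ∨ x = 2 ∨ x = 3 := by omega
  rcases this with rfl | rfl | rfl | rfl <;> decide

theorem wd_k2_mem_HE1 : ∀ w : List ℕ, (∀ x ∈ w, x < 4) → VCert.wd k2 w ∈ HE1
  | [], _ => Subgroup.one_mem _
  | x :: w, h => by
    rw [VCert.wd_cons]
    exact Subgroup.mul_mem _ (k2_mem_HE1 (h x List.mem_cons_self))
      (wd_k2_mem_HE1 w fun y hy => h y (List.mem_cons_of_mem _ hy))

/-- a word in the first four letters that is trivial in the group and on the 139776 points is trivial -/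
theorem wd_k1_eq_one {w : List ℕ} (hw : ∀ x ∈ w, x < 4) (h5 : ∀ p, p < 139776 → evK w p = p)
    (hK : VCert.wd F42V2.lK1 w = 1) : VCert.wd k1 w = 1 := by
  apply Subtype.ext
  rw [wd_k1_val w hw]
  refine wd_k2_eq_one (fun x hx => by have := hw x hx; omega) h5 ?_
  have := congrArg Subtype.val hK
  rw [F42V2.wd_lK1_val w hw] at this
  exact this

instance instFiniteGE : Finite ↥GE := inferInstance

instance instFiniteHE3 : Finite ↥HE3 := inferInstance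

instance instFiniteHE2 : Finite ↥HE2 := inferInstance

instance instFiniteHE1 : Finite ↥HE1 := inferInstance

/-! ### the subgroup generated by the first four pairs maps injectively -/

theorem chk_lt1 : ∀ i, i < 65 → ∀ x ∈ O73A1.cert.W i, x < 4 := by decide +kernel

theorem k1_two_pow : k1 2 ^ 7 = 1 := by
  have h := wd_k1_eq_one (w := wpow 7 [2]) (by decide) (fun p hp => evK_l1a hp) (by
      rw [← F42L1.chk_W2]; exact F42V2.wd_lK1_W (by norm_num))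
  rw [wd_wpow, VCert.wd_cons, VCert.wd_nil, mul_one] at h
  exact h

theorem hW0_1 : ∀ i, i < O73A1.cert.nW → O73A1.cert.wT i = 0 →
    VCert.wd k1 (O73A1.cert.W i) = (O73A1.cert.ek (fun _ => (1 : Subgroup.center ↥HE1)) i : ↥HE1) := by
  intro i hi hT
  rw [VCert.ek, O73A1.cert.kap_triv _ (fun _ _ => rfl)]
  show _ = (1 : ↥HE1)
  rcases F42L1.chk_wT i hi hT with rfl | rfl | ⟨j, hj, rfl⟩
  · rw [F42L1.chk_W2]
    exact wd_k1_eq_one (by decide) (fun p hp => evK_l1a hp) (by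
      rw [← F42L1.chk_W2]; exact F42V2.wd_lK1_W (by norm_num))
  · rw [F42L1.chk_W3]
    exact wd_k1_eq_one (by decide) (fun p hp => evK_l1b hp) (by
      rw [← F42L1.chk_W3]; exact F42V2.wd_lK1_W (by norm_num))
  · refine wd_k1_eq_one (chk_lt1 _ (F42L1.axI_lt j)) (fun p hp => ?_) (F42V2.wd_lK1_W (F42L1.axI_lt j))
    rw [chk_ax1W j hj]
    exact evK_ax1 j hj p hp

/-- **the subgroup generated by the first four pairs maps injectively to the group** -/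
theorem sig1_ker : sig1.ker = ⊥ := by
  have h := ker_eq_Zc sig1 O73A1.cert k1 (fun _ => 1) 2 7 sig1_surj (by rw [F42V2.card_L]; rfl) (by decide)
    (by norm_num)
    (fun i hi => by rw [sig1_k1] at hi; exact F42V2.dvd_of_lK1_two_pow hi) k1_two_pow
    (by
      intro x hx
      rcases eq_two_or_three hx with rfl | rfl
      · exact Subgroup.mem_zpowers _
      · have : k1 3 = (k1 2)⁻¹ := k1_iv (x := 2) (by norm_num)
        rw [this]
        exact Subgroup.inv_mem _ (Subgroup.mem_zpowers _))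
    (fun j _ => Subgroup.one_mem _) hgen_HE1 (by decide) (by decide)
    (fun x hx => k1_iv hx)
    (fun i hi => by rw [MonoidHom.mem_ker, sig1_wd]; exact F42V2.wd_lK1_W hi)
    hW0_1 O73A1.cert_all O73A1.cert_wall
  rw [h]
  exact Zc_eq_bot_of_triv _ _ (fun _ _ => rfl)

theorem sig1_injective : Function.Injective sig1 := (MonoidHom.ker_eq_bot_iff sig1).1 sig1_ker

/-- an element of the smallest subgroup that lies in the kernel of the projection is trivial -/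
theorem hHK_2 : ∀ u, u ∈ HE1 → u ∈ sig2.ker → u = 1 := by
  intro u hu hk
  have h1 : sig1 ⟨u, hu⟩ = 1 := by
    apply Subtype.ext
    rw [sig1_val]
    exact MonoidHom.mem_ker.1 hk
  have h2 : (⟨u, hu⟩ : ↥HE1) = 1 := sig1_injective (by rw [h1, map_one])
  exact congrArg Subtype.val h2

theorem card_HE1_le : Nat.card ↥HE1 ≤ 6048 := by
  rw [← F42V2.card_L]
  exact Nat.card_le_card_of_injective sig1 sig1_injective

/-! ### the subgroup generated by the first six pairs maps injectively -/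

theorem wd_k2_mem_ker {i : ℕ} (hi : i < 779) : VCert.wd k2 (F42A2.cert.W i) ∈ sig2.ker := by
  rw [MonoidHom.mem_ker, sig2_wd]
  exact F42V2.wd_lK_W hi

theorem chk_lt2 : ∀ i, i < 779 → ∀ x ∈ F42A2.cert.W i, x < 6 := by decide +kernel

theorem hW0_2 : ∀ i, i < F42A2.cert.nW → F42A2.cert.wT i = 0 →
    VCert.wd k2 (F42A2.cert.W i) = (F42A2.cert.ek (fun _ => (1 : Subgroup.center ↥HE2)) i : ↥HE2) := by
  intro i hi hT
  rw [VCert.ek, F42A2.cert.kap_triv _ (fun _ _ => rfl)]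
  show _ = (1 : ↥HE2)
  rcases F42A2.chk_wT i hi hT with ⟨h4, _⟩ | rfl | ⟨j, hj, rfl⟩
  · exact hHK_2 _ (wd_k2_mem_HE1 _ fun x hx => by simpa [Nat.blt] using List.all_eq_true.1 h4 x hx)
      (wd_k2_mem_ker hi)
  · rw [F42A2.chk_W3]
    exact wd_k2_eq_one (by decide) (fun p hp => evK_ex2 hp) (by
      rw [← F42A2.chk_W3]; exact F42V2.wd_lK_W (by norm_num))
  · refine wd_k2_eq_one (chk_lt2 _ (F42A2.axI_lt j)) (fun p hp => ?_) (F42V2.wd_lK_W (F42A2.axI_lt j))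
    rw [chk_ax2W j hj]
    exact evK_ax2 j hj p hp

/-- **the subgroup generated by the first six pairs maps injectively** -/
theorem sig2_ker : sig2.ker = ⊥ := by
  have h := ker_eq_Zc_of_sub sig2 F42A2.cert k2 (fun _ => 1) HE1 6048 sig2_surj
    (by rw [F42V3.card_L]; rfl) (by decide)
    (by norm_num) hHK_2 card_HE1_le (fun x hx => k2_mem_HE1 (F42V2.lt_four_of_sub hx))
    (fun j _ => Subgroup.one_mem _) hgen_HE2 (by decide) (by decide)
    (fun x hx => k2_iv hx) (fun i hi => wd_k2_mem_ker hi) hW0_2 F42A2.cert_all F42A2.cert_wall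
  rw [h]
  exact Zc_eq_bot_of_triv _ _ (fun _ _ => rfl)

theorem sig2_injective : Function.Injective sig2 := (MonoidHom.ker_eq_bot_iff sig2).1 sig2_ker

/-- an element of the middle subgroup that lies in the kernel of the projection is trivial -/
theorem hHK_3 : ∀ u, u ∈ HE2 → u ∈ sig3.ker → u = 1 := by
  intro u hu hk
  have h1 : sig2 ⟨u, hu⟩ = 1 := by
    apply Subtype.ext
    rw [sig2_val]
    exact MonoidHom.mem_ker.1 hk
  have h2 : (⟨u, hu⟩ : ↥HE2) = 1 := sig2_injective (by rw [h1, map_one])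
  exact congrArg Subtype.val h2

theorem card_HE2_le : Nat.card ↥HE2 ≤ 197406720 := by
  rw [← F42V3.card_L]
  exact Nat.card_le_card_of_injective sig2 sig2_injective

/-! ### the subgroup generated by the eight pairs maps injectively -/

theorem wd_k3_mem_ker {i : ℕ} (hi : i < 419) : VCert.wd k3 (F42A3.cert.W i) ∈ sig3.ker := by
  rw [MonoidHom.mem_ker, sig3_wd]
  exact F42V3.wd_lK_W hi

theorem chk_lt3 : ∀ i, i < 419 → ∀ x ∈ F42A3.cert.W i, x < 8 := by decide +kernel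

theorem hW0_3 : ∀ i, i < F42A3.cert.nW → F42A3.cert.wT i = 0 →
    VCert.wd k3 (F42A3.cert.W i) = (F42A3.cert.ek (fun _ => (1 : Subgroup.center ↥HE3)) i : ↥HE3) := by
  intro i hi hT
  rw [VCert.ek, F42A3.cert.kap_triv _ (fun _ _ => rfl)]
  show _ = (1 : ↥HE3)
  rcases F42A3.chk_wT i hi hT with ⟨h4, _⟩ | rfl | ⟨j, hj, rfl⟩
  · exact hHK_3 _ (wd_k3_mem_HE2 _ fun x hx => by simpa [Nat.blt] using List.all_eq_true.1 h4 x hx)
      (wd_k3_mem_ker hi)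
  · rw [F42A3.chk_W3]
    exact wd_k3_eq_one (by decide) (fun p hp => evK_ex3 hp) (by
      rw [← F42A3.chk_W3]; exact F42V3.wd_lK_W (by norm_num))
  · refine wd_k3_eq_one (chk_lt3 _ (F42A3.axI_lt j)) (fun p hp => ?_) (F42V3.wd_lK_W (F42A3.axI_lt j))
    rw [chk_ax3W j hj]
    exact evK_ax3 j hj p hp

/-- **the subgroup generated by the eight pairs maps injectively to `L`** -/
theorem sig3_ker : sig3.ker = ⊥ := by
  have h := ker_eq_Zc_of_sub sig3 F42A3.cert k3 (fun _ => 1) HE2 197406720 sig3_surj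
    (by rw [F42B.card_L]; rfl) (by decide)
    (by norm_num) hHK_3 card_HE2_le (fun x hx => k3_mem_HE2 (F42V3.lt_six_of_sub hx))
    (fun j _ => Subgroup.one_mem _) hgen_HE3 (by decide) (by decide)
    (fun x hx => k3_iv hx) (fun i hi => wd_k3_mem_ker hi) hW0_3 F42A3.cert_all F42A3.cert_wall
  rw [h]
  exact Zc_eq_bot_of_triv _ _ (fun _ _ => rfl)

theorem sig3_injective : Function.Injective sig3 := (MonoidHom.ker_eq_bot_iff sig3).1 sig3_ker

/-- an element of the subgroup generated by the eight pairs that lies in the kernel of the projection is trivial -/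
theorem hHK_E : ∀ u, u ∈ HE3 → u ∈ sigE.ker → u = 1 := by
  intro u hu hk
  have h1 : sig3 ⟨u, hu⟩ = 1 := by
    apply Subtype.ext
    rw [sig3_val]
    exact MonoidHom.mem_ker.1 hk
  have h2 : (⟨u, hu⟩ : ↥HE3) = 1 := sig3_injective (by rw [h1, map_one])
  exact congrArg Subtype.val h2

theorem card_HE3_le : Nat.card ↥HE3 ≤ 47377612800 := by
  rw [← F42B.card_L]
  exact Nat.card_le_card_of_injective sig3 sig3_injective

/-- two elements of the subgroup generated by the eight pairs with the same image are equal -/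
theorem eq_of_mem_HE3 {a b : ↥GE} (ha : a ∈ HE3) (hb : b ∈ HE3) (h : sigE a = sigE b) : a = b := by
  have h1 : a * b⁻¹ = 1 := hHK_E _ (Subgroup.mul_mem _ ha (Subgroup.inv_mem _ hb)) (by
    rw [MonoidHom.mem_ker, map_mul, map_inv, h, mul_inv_cancel])
  exact mul_inv_eq_one.1 h1

/-! ### the first ten of the twelve pairs lie in the subgroup generated by the eight pairs -/

theorem gE_eq_hInK {x : ℕ} (hx : x < 10) : gE x = VCert.wd kE (hInK x) := by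
  apply gE_eq_wd_kE
  · intro p hp
    rw [chk_hBW x hx]
    exact lk5_hBW x hx p hp
  · exact lT_eq_hInK hx

theorem gE_mem_HE3 {x : ℕ} (hx : x < 10) : gE x ∈ HE3 := by
  rw [gE_eq_hInK hx]
  exact wd_kE_mem_HE3 _ (chk_hInK_lt x hx)

theorem wd_gE_mem_HE3 : ∀ w : List ℕ, (∀ x ∈ w, x < 10) → VCert.wd gE w ∈ HE3
  | [], _ => Subgroup.one_mem _
  | x :: w, h => by
    rw [VCert.wd_cons]
    exact Subgroup.mul_mem _ (gE_mem_HE3 (h x List.mem_cons_self))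
      (wd_gE_mem_HE3 w fun y hy => h y (List.mem_cons_of_mem _ hy))

/-- the eight pairs are words in the twelve pairs -/
theorem kE_eq_kInT {y : ℕ} (hy : y < 8) : kE y = VCert.wd gE (kInT y) := by
  apply eq_of_mem_HE3 (kE_mem_HE3 hy) (wd_gE_mem_HE3 _ (chk_kInT_lt y hy))
  rw [sigE_kE, sigE_wd]
  exact lK_eq_kInT hy

theorem closure_gE : Subgroup.closure (gE '' Set.Iio 12) = ⊤ := by
  rw [eq_top_iff, ← closure_gkE, Subgroup.closure_le]
  rintro _ (⟨x, hx, rfl⟩ | ⟨y, hy, rfl⟩)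
  · exact Subgroup.subset_closure ⟨x, hx, rfl⟩
  · rw [kE_eq_kInT hy]
    have key : ∀ w : List ℕ, (∀ x ∈ w, x < 10) → VCert.wd gE w ∈ Subgroup.closure (gE '' Set.Iio 12) := by
      intro w
      induction w with
      | nil => intro _; exact Subgroup.one_mem _
      | cons x w ih =>
        intro h
        rw [VCert.wd_cons]
        refine Subgroup.mul_mem _ (Subgroup.subset_closure ⟨x, ?_, rfl⟩) (ih fun y hy => h y (List.mem_cons_of_mem _ hy))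
        have := h x List.mem_cons_self
        show x < 12
        omega
    exact key _ (chk_kInT_lt y hy)

end Cfsg.Agent.Lib.Helper7.F42M
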