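import Cfsg.Agent.Lib.Helper7.F42MEL

/-! # The multiplier of the Chevalley group of type F4 over the field of two elements: the letters are permutations of the 139776 points, file 0 (generated) -/

set_option autoImplicit false
set_option maxRecDepth 100000

namespace Cfsg.Agent.Lib.Helper7.F42M

theorem chk_inv5_0_0 : inv5OK 0 (8736 * 0) 8736 = true := by decide +kernel

theorem chk_inv5_0_1 : inv5OK 0 (8736 * 1) 8736 = true := by decide +kernel

theorem chk_inv5_0_2 : inv5OK 0 (8736 * 2) 8736 = true := by decide +kernel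

theorem chk_inv5_0_3 : inv5OK 0 (8736 * 3) 8736 = true := by decide +kernel

theorem chk_inv5_0_4 : inv5OK 0 (8736 * 4) 8736 = true := by decide +kernel

theorem chk_inv5_0_5 : inv5OK 0 (8736 * 5) 8736 = true := by decide +kernel

theorem chk_inv5_0_6 : inv5OK 0 (8736 * 6) 8736 = true := by decide +kernel

theorem chk_inv5_0_7 : inv5OK 0 (8736 * 7) 8736 = true := by decide +kernel

theorem chk_inv5_0_8 : inv5OK 0 (8736 * 8) 8736 = true := by decide +kernel

theorem chk_inv5_0_9 : inv5OK 0 (8736 * 9) 8736 = true := by decide +kernel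

theorem chk_inv5_0_10 : inv5OK 0 (8736 * 10) 8736 = true := by decide +kernel

theorem chk_inv5_0_11 : inv5OK 0 (8736 * 11) 8736 = true := by decide +kernel

theorem chk_inv5_0_12 : inv5OK 0 (8736 * 12) 8736 = true := by decide +kernel

theorem chk_inv5_0_13 : inv5OK 0 (8736 * 13) 8736 = true := by decide +kernel

theorem chk_inv5_0_14 : inv5OK 0 (8736 * 14) 8736 = true := by decide +kernel

theorem chk_inv5_0_15 : inv5OK 0 (8736 * 15) 8736 = true := by decide +kernel

theorem chk_inv5_1_0 : inv5OK 1 (8736 * 0) 8736 = true := by decide +kernel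

theorem chk_inv5_1_1 : inv5OK 1 (8736 * 1) 8736 = true := by decide +kernel

theorem chk_inv5_1_2 : inv5OK 1 (8736 * 2) 8736 = true := by decide +kernel

theorem chk_inv5_1_3 : inv5OK 1 (8736 * 3) 8736 = true := by decide +kernel

theorem chk_inv5_1_4 : inv5OK 1 (8736 * 4) 8736 = true := by decide +kernel

theorem chk_inv5_1_5 : inv5OK 1 (8736 * 5) 8736 = true := by decide +kernel

theorem chk_inv5_1_6 : inv5OK 1 (8736 * 6) 8736 = true := by decide +kernel

theorem chk_inv5_1_7 : inv5OK 1 (8736 * 7) 8736 = true := by decide +kernel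

theorem chk_inv5_1_8 : inv5OK 1 (8736 * 8) 8736 = true := by decide +kernel

theorem chk_inv5_1_9 : inv5OK 1 (8736 * 9) 8736 = true := by decide +kernel

theorem chk_inv5_1_10 : inv5OK 1 (8736 * 10) 8736 = true := by decide +kernel

theorem chk_inv5_1_11 : inv5OK 1 (8736 * 11) 8736 = true := by decide +kernel

theorem chk_inv5_1_12 : inv5OK 1 (8736 * 12) 8736 = true := by decide +kernel

theorem chk_inv5_1_13 : inv5OK 1 (8736 * 13) 8736 = true := by decide +kernel

theorem chk_inv5_1_14 : inv5OK 1 (8736 * 14) 8736 = true := by decide +kernel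

theorem chk_inv5_1_15 : inv5OK 1 (8736 * 15) 8736 = true := by decide +kernel

end Cfsg.Agent.Lib.Helper7.F42M
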