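import Cfsg.Agent.Lib.Helper7.F42MED5x0
import Cfsg.Agent.Lib.Helper7.F42MED5x1
import Cfsg.Agent.Lib.Helper7.F42MED5x2
import Cfsg.Agent.Lib.Helper7.F42MED5x3
import Cfsg.Agent.Lib.Helper7.F42MED5x4
import Cfsg.Agent.Lib.Helper7.F42MED5x5
import Cfsg.Agent.Lib.Helper7.F42MED5x6
import Cfsg.Agent.Lib.Helper7.F42MED5x7
import Cfsg.Agent.Lib.Helper7.F42MED5x8
import Cfsg.Agent.Lib.Helper7.F42MED5x9
import Cfsg.Agent.Lib.Helper7.F42MED5x10
import Cfsg.Agent.Lib.Helper7.F42MED5x11
import Cfsg.Agent.Lib.Helper7.F42MEDKx0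
import Cfsg.Agent.Lib.Helper7.F42MEDKx2
import Cfsg.Agent.Lib.Helper7.F42MEDKx3
import Cfsg.Agent.Lib.Helper7.F42MEDKx4
import Cfsg.Agent.Lib.Helper7.F42MEDKx6
import Cfsg.Agent.Lib.Helper7.F42BaseX
import Cfsg.Agent.Lib.Helper7.MGenD

/-!
# The multiplier of the Chevalley group of type F4 over the field of two elements: the letters on 139776 points

The twelve letters of the table of the group and the eight letters of the chain of subgroups as maps of 139776 points,
the cosets of `L` taken twice, with the checks that make them permutations.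
-/

set_option autoImplicit false
set_option maxRecDepth 100000

namespace Cfsg.Agent.Lib.Helper7.F42M

open Cfsg Cfsg.Agent.Lib.Helper7.MG Cfsg.Agent.Lib.Helper7.HSMult Cfsg.Agent.Lib.Helper7.F42B

/-- an entry of a part of a table -/
def ent5 (t i : ℕ) : ℕ := Nat.land (Nat.shiftRight t (Nat.mul 20 i)) 1048575

/-! ### the twelve letters on the 139776 points -/

/-- the inverse of a letter -/
def iv5 (x : ℕ) : ℕ := cond (Nat.blt x 12) (ivT x) x

theorem iv5_of_ge {x : ℕ} (hx : 12 ≤ x) : iv5 x = x := by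
  have h : Nat.blt x 12 = false := by
    rw [Bool.eq_false_iff]
    intro h2
    have : x < 12 := by simpa [Nat.blt] using h2
    omega
  rw [iv5, h]
  rfl

theorem iv5_lt : ∀ x, x < 12 → iv5 x < 12 := by decide

theorem iv5_iv5 (x : ℕ) : iv5 (iv5 x) = x := by
  rcases Nat.lt_or_ge x 12 with h | h
  · have : x = 0 ∨ x = 1 ∨ x = 2 ∨ x = 3 ∨ x = 4 ∨ x = 5 ∨ x = 6 ∨ x = 7 ∨ x = 8 ∨ x = 9 ∨ x = 10 ∨ x = 11 := by
      omega
    rcases this with rfl | rfl | rfl | rfl | rfl | rfl | rfl | rfl | rfl | rfl | rfl | rfl <;> rfl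
  · rw [iv5_of_ge h, iv5_of_ge h]

theorem iv5_eq {x : ℕ} (hx : x < 12) : iv5 x = ivT x := by
  have : x = 0 ∨ x = 1 ∨ x = 2 ∨ x = 3 ∨ x = 4 ∨ x = 5 ∨ x = 6 ∨ x = 7 ∨ x = 8 ∨ x = 9 ∨ x = 10 ∨ x = 11 := by
    omega
  rcases this with rfl | rfl | rfl | rfl | rfl | rfl | rfl | rfl | rfl | rfl | rfl | rfl <;> rfl

/-- the part of the table of a letter that contains the points from `512 c` on -/
noncomputable def sel5 (x c : ℕ) : ℕ :=
  cond (Nat.ble 12 x) 0 (cond (Nat.ble 6 x) (cond (Nat.ble 9 x) (cond (Nat.ble 10 x) (cond (Nat.ble 11 x) (n5_11_0_273 c) (n5_10_0_273 c)) (n5_9_0_273 c)) (cond (Nat.ble 7 x) (cond (Nat.ble 8 x) (n5_8_0_273 c) (n5_7_0_273 c)) (n5_6_0_273 c))) (cond (Nat.ble 3 x) (cond (Nat.ble 4 x) (cond (Nat.ble 5 x) (n5_5_0_273 c) (n5_4_0_273 c)) (n5_3_0_273 c)) (cond (Nat.ble 1 x) (cond (Nat.ble 2 x) (n5_2_0_273 c) (n5_1_0_273 c)) (n5_0_0_273 c))))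

/-- the image of one of the 139776 points under a letter -/
noncomputable def lk5 (x p : ℕ) : ℕ :=
  cond (Nat.ble 12 x) p (strictN p fun q => ent5 (sel5 x (Nat.div q 512)) (Nat.mod q 512))

theorem lk5_ge {x : ℕ} (hx : 12 ≤ x) (p : ℕ) : lk5 x p = p := by
  have h : Nat.ble 12 x = true := Nat.ble_eq_true_of_le hx
  rw [lk5, h]
  rfl

/-- the check that a letter and its inverse are inverse permutations of the points from `lo` to `lo + k` -/
noncomputable def inv5OK (x lo k : ℕ) : Bool := allN k fun i =>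
  Nat.blt (lk5 x (Nat.add lo i)) 139776 && Nat.beq (lk5 (iv5 x) (lk5 x (Nat.add lo i))) (Nat.add lo i)


/-! ### the eight letters on the 139776 points -/

/-- the inverse of a letter -/
def ivK (x : ℕ) : ℕ := Nat.xor x 1

theorem ivK_ivK (x : ℕ) : ivK (ivK x) = x := by
  show (x ^^^ 1) ^^^ 1 = x
  rw [Nat.xor_assoc, Nat.xor_self, Nat.xor_zero]

theorem ivK_lt : ∀ x, x < 8 → ivK x < 8 := by decide

/-- the part of the table of a letter that contains the points from `512 c` on -/
noncomputable def selK (x c : ℕ) : ℕ :=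
  cond (Nat.ble 8 x) 0 (cond (Nat.ble 4 x) (cond (Nat.ble 6 x) (nK_6_0_273 c) (nK_4_0_273 c)) (cond (Nat.ble 2 x) (cond (Nat.ble 3 x) (nK_3_0_273 c) (nK_2_0_273 c)) (nK_0_0_273 c)))

/-- the image of one of the 139776 points under a letter -/
noncomputable def lkK (x p : ℕ) : ℕ :=
  cond (Nat.ble 8 x) p (strictN p fun q => ent5 (selK x (Nat.div q 512)) (Nat.mod q 512))

theorem lkK_ge {x : ℕ} (hx : 8 ≤ x) (p : ℕ) : lkK x p = p := by
  have h : Nat.ble 8 x = true := Nat.ble_eq_true_of_le hx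
  rw [lkK, h]
  rfl

/-- the check that a letter and its inverse are inverse permutations of the points from `lo` to `lo + k` -/
noncomputable def invKOK (x lo k : ℕ) : Bool := allN k fun i =>
  Nat.blt (lkK x (Nat.add lo i)) 139776 && Nat.beq (lkK (ivK x) (lkK x (Nat.add lo i))) (Nat.add lo i)

/-- the check that a word shifts the points from `lo` to `lo + k` -/
noncomputable def shOK (w : List ℕ) (e lo k : ℕ) : Bool :=
  allN k fun i => Nat.beq (List.rec (Nat.add lo i) (fun x _ ih => lk5 x ih) w) (Nat.xor (Nat.add lo i) e)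

/-- the check that a word in the twelve letters fixes the points from `lo` to `lo + k` -/
noncomputable def fxOK (w : List ℕ) (lo k : ℕ) : Bool :=
  allN k fun i => Nat.beq (List.rec (Nat.add lo i) (fun x _ ih => lk5 x ih) w) (Nat.add lo i)

/-- the check that a word in the eight letters fixes the points from `lo` to `lo + k` -/
noncomputable def fxKOK (w : List ℕ) (lo k : ℕ) : Bool :=
  allN k fun i => Nat.beq (List.rec (Nat.add lo i) (fun x _ ih => lkK x ih) w) (Nat.add lo i)

/-- the check that a letter commutes with the shift on the points from `lo` to `lo + k` -/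
noncomputable def cenOK (x lo k : ℕ) : Bool :=
  allN k fun i => Nat.beq (lk5 x (Nat.xor (Nat.add lo i) 1)) (Nat.xor (lk5 x (Nat.add lo i)) 1)

/-- the check that one of the eight letters acts as a word in the twelve letters on the points from `lo` to
`lo + k` -/
noncomputable def eqAOK (y : ℕ) (w : List ℕ) (lo k : ℕ) : Bool :=
  allN k fun i => Nat.beq (lkK y (Nat.add lo i)) (List.rec (Nat.add lo i) (fun x _ ih => lk5 x ih) w)

/-- the check that one of the twelve letters acts as a word in the eight letters on the points from `lo` to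
`lo + k` -/
noncomputable def eqBOK (x : ℕ) (w : List ℕ) (lo k : ℕ) : Bool :=
  allN k fun i => Nat.beq (lk5 x (Nat.add lo i)) (List.rec (Nat.add lo i) (fun y _ ih => lkK y ih) w)

end Cfsg.Agent.Lib.Helper7.F42M
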