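import Cfsg.Agent.Lib.Helper7.F42MEL2

/-! # The multiplier of the Chevalley group of type F4 over the field of two elements: the words that are checked on the 139776 points, and the maps that they give (generated) -/

set_option autoImplicit false

namespace Cfsg.Agent.Lib.Helper7.F42M

/-- the word `axT0` -/
def cw_axT0 : List ℕ := [10, 10, 10]

/-- the map of the points that the word `axT0` gives -/
noncomputable def cf_axT0 (p : ℕ) : ℕ := f5_10 (f5_10 (f5_10 p))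

/-- the word `axT1` -/
def cw_axT1 : List ℕ := [8, 11, 9, 10, 8, 11, 9, 10]

/-- the map of the points that the word `axT1` gives -/
noncomputable def cf_axT1 (p : ℕ) : ℕ := f5_8 (f5_11 (f5_9 (f5_10 (f5_8 (f5_11 (f5_9 (f5_10 p)))))))

/-- the word `axT2` -/
def cw_axT2 : List ℕ := [8, 10, 8, 10, 9, 10, 8, 10, 8, 11]

/-- the map of the points that the word `axT2` gives -/
noncomputable def cf_axT2 (p : ℕ) : ℕ := f5_8 (f5_10 (f5_8 (f5_10 (f5_9 (f5_10 (f5_8 (f5_10 (f5_8 (f5_11 p)))))))))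

/-- the word `y17` -/
def cw_y17 : List ℕ := [10, 1, 2, 5, 6, 9, 10, 1, 2, 5, 6, 9, 10, 1, 2, 5, 6, 9, 10, 1, 2, 5, 6, 9, 10, 1, 2, 5, 6, 9, 10, 1, 2, 5, 6, 9, 10, 1, 2, 5, 6, 9, 10, 1, 2, 5, 6, 9, 10, 1, 2, 5, 6, 9, 10, 1, 2, 5, 6, 9, 10, 1, 2, 5, 6, 9, 10, 1, 2, 5, 6, 9, 10, 1, 2, 5, 6, 9, 10, 1, 2, 5, 6, 9, 10, 1, 2, 5, 6, 9, 10, 1, 2, 5, 6, 9, 10, 1, 2, 5, 6, 9]

/-- the map of the points that the word `y` gives -/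
noncomputable def cf_y (p : ℕ) : ℕ := f5_10 (f5_1 (f5_2 (f5_5 (f5_6 (f5_9 p)))))

/-- the map of the points that the word `y17` gives -/
noncomputable def cf_y17 (p : ℕ) : ℕ := cf_y (cf_y (cf_y (cf_y (cf_y (cf_y (cf_y (cf_y (cf_y (cf_y (cf_y (cf_y (cf_y (cf_y (cf_y (cf_y (cf_y p))))))))))))))))

/-- the word `tri0` -/
def cw_tri0 : List ℕ := [0, 10, 3, 11]

/-- the map of the points that the word `tri0` gives -/
noncomputable def cf_tri0 (p : ℕ) : ℕ := f5_0 (f5_10 (f5_3 (f5_11 p)))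

/-- the word `tri1` -/
def cw_tri1 : List ℕ := [0, 11, 2, 10]

/-- the map of the points that the word `tri1` gives -/
noncomputable def cf_tri1 (p : ℕ) : ℕ := f5_0 (f5_11 (f5_2 (f5_10 p)))

/-- the word `tri2` -/
def cw_tri2 : List ℕ := [1, 10, 1, 11]

/-- the map of the points that the word `tri2` gives -/
noncomputable def cf_tri2 (p : ℕ) : ℕ := f5_1 (f5_10 (f5_1 (f5_11 p)))

/-- the word `tri3` -/
def cw_tri3 : List ℕ := [2, 11, 3, 10]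

/-- the map of the points that the word `tri3` gives -/
noncomputable def cf_tri3 (p : ℕ) : ℕ := f5_2 (f5_11 (f5_3 (f5_10 p)))

/-- the word `tri4` -/
def cw_tri4 : List ℕ := [4, 10, 7, 11]

/-- the map of the points that the word `tri4` gives -/
noncomputable def cf_tri4 (p : ℕ) : ℕ := f5_4 (f5_10 (f5_7 (f5_11 p)))

/-- the word `tri5` -/
def cw_tri5 : List ℕ := [4, 11, 6, 10]

/-- the map of the points that the word `tri5` gives -/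
noncomputable def cf_tri5 (p : ℕ) : ℕ := f5_4 (f5_11 (f5_6 (f5_10 p)))

/-- the word `tri6` -/
def cw_tri6 : List ℕ := [5, 10, 5, 11]

/-- the map of the points that the word `tri6` gives -/
noncomputable def cf_tri6 (p : ℕ) : ℕ := f5_5 (f5_10 (f5_5 (f5_11 p)))

/-- the word `tri7` -/
def cw_tri7 : List ℕ := [6, 11, 7, 10]

/-- the map of the points that the word `tri7` gives -/
noncomputable def cf_tri7 (p : ℕ) : ℕ := f5_6 (f5_11 (f5_7 (f5_10 p)))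

/-- the word `s6` -/
def cw_s6 : List ℕ := [10, 10, 10, 10, 10, 10]

/-- the map of the points that the word `s6` gives -/
noncomputable def cf_s6 (p : ℕ) : ℕ := f5_10 (f5_10 (f5_10 (f5_10 (f5_10 (f5_10 p)))))

/-- the word `ax3_0` -/
def cw_ax3_0 : List ℕ := [6, 6]

/-- the map of the points that the word `ax3_0` gives -/
noncomputable def cf_ax3_0 (p : ℕ) : ℕ := fK_6 (fK_6 p)

/-- the word `ax3_1` -/
def cw_ax3_1 : List ℕ := [4, 6, 4, 6]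

/-- the map of the points that the word `ax3_1` gives -/
noncomputable def cf_ax3_1 (p : ℕ) : ℕ := fK_4 (fK_6 (fK_4 (fK_6 p)))

/-- the word `ax3_2` -/
def cw_ax3_2 : List ℕ := [0, 4, 0, 6, 0, 4, 0, 6]

/-- the map of the points that the word `ax3_2` gives -/
noncomputable def cf_ax3_2 (p : ℕ) : ℕ := fK_0 (fK_4 (fK_0 (fK_6 (fK_0 (fK_4 (fK_0 (fK_6 p)))))))

/-- the word `ax3_3` -/
def cw_ax3_3 : List ℕ := [2, 4, 3, 6, 2, 4, 3, 6]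

/-- the map of the points that the word `ax3_3` gives -/
noncomputable def cf_ax3_3 (p : ℕ) : ℕ := fK_2 (fK_4 (fK_3 (fK_6 (fK_2 (fK_4 (fK_3 (fK_6 p)))))))

/-- the word `ax3_4` -/
def cw_ax3_4 : List ℕ := [0, 2, 2, 4, 3, 3, 0, 6, 0, 2, 2, 4, 3, 3, 0, 6]

/-- the map of the points that the word `ax3_4` gives -/
noncomputable def cf_ax3_4 (p : ℕ) : ℕ := fK_0 (fK_2 (fK_2 (fK_4 (fK_3 (fK_3 (fK_0 (fK_6 (fK_0 (fK_2 (fK_2 (fK_4 (fK_3 (fK_3 (fK_0 (fK_6 p)))))))))))))))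

/-- the word `ax3_5` -/
def cw_ax3_5 : List ℕ := [2, 2, 4, 3, 3, 6, 2, 2, 4, 3, 3, 6]

/-- the map of the points that the word `ax3_5` gives -/
noncomputable def cf_ax3_5 (p : ℕ) : ℕ := fK_2 (fK_2 (fK_4 (fK_3 (fK_3 (fK_6 (fK_2 (fK_2 (fK_4 (fK_3 (fK_3 (fK_6 p)))))))))))

/-- the word `ax3_6` -/
def cw_ax3_6 : List ℕ := [2, 2, 2, 4, 6, 3, 4, 6, 3, 3, 4, 6]

/-- the map of the points that the word `ax3_6` gives -/
noncomputable def cf_ax3_6 (p : ℕ) : ℕ := fK_2 (fK_2 (fK_2 (fK_4 (fK_6 (fK_3 (fK_4 (fK_6 (fK_3 (fK_3 (fK_4 (fK_6 p)))))))))))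

/-- the word `ax3_7` -/
def cw_ax3_7 : List ℕ := [0, 6, 0, 6, 0, 6, 0, 6]

/-- the map of the points that the word `ax3_7` gives -/
noncomputable def cf_ax3_7 (p : ℕ) : ℕ := fK_0 (fK_6 (fK_0 (fK_6 (fK_0 (fK_6 (fK_0 (fK_6 p)))))))

/-- the word `ax3_8` -/
def cw_ax3_8 : List ℕ := [0, 2, 4, 6, 3, 0, 4, 6, 0, 2, 4, 6, 3, 4, 6, 0, 4, 6]

/-- the map of the points that the word `ax3_8` gives -/
noncomputable def cf_ax3_8 (p : ℕ) : ℕ := fK_0 (fK_2 (fK_4 (fK_6 (fK_3 (fK_0 (fK_4 (fK_6 (fK_0 (fK_2 (fK_4 (fK_6 (fK_3 (fK_4 (fK_6 (fK_0 (fK_4 (fK_6 p)))))))))))))))))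

/-- the word `ax3_9` -/
def cw_ax3_9 : List ℕ := [0, 2, 4, 3, 0, 4, 0, 3, 3, 6, 2, 2, 0, 4, 0, 2, 4, 3, 0, 6]

/-- the map of the points that the word `ax3_9` gives -/
noncomputable def cf_ax3_9 (p : ℕ) : ℕ := fK_0 (fK_2 (fK_4 (fK_3 (fK_0 (fK_4 (fK_0 (fK_3 (fK_3 (fK_6 (fK_2 (fK_2 (fK_0 (fK_4 (fK_0 (fK_2 (fK_4 (fK_3 (fK_0 (fK_6 p)))))))))))))))))))

/-- the word `ax3_10` -/
def cw_ax3_10 : List ℕ := [0, 3, 4, 6, 2, 0, 4, 6, 0, 3, 4, 6, 2, 4, 6, 0, 4, 6]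

/-- the map of the points that the word `ax3_10` gives -/
noncomputable def cf_ax3_10 (p : ℕ) : ℕ := fK_0 (fK_3 (fK_4 (fK_6 (fK_2 (fK_0 (fK_4 (fK_6 (fK_0 (fK_3 (fK_4 (fK_6 (fK_2 (fK_4 (fK_6 (fK_0 (fK_4 (fK_6 p)))))))))))))))))

/-- the word `ax3_11` -/
def cw_ax3_11 : List ℕ := [0, 2, 6, 2, 6, 3, 6, 3, 0, 4, 0, 2, 6, 2, 6, 3, 6, 3, 0, 4]

/-- the map of the points that the word `ax3_11` gives -/
noncomputable def cf_ax3_11 (p : ℕ) : ℕ := fK_0 (fK_2 (fK_6 (fK_2 (fK_6 (fK_3 (fK_6 (fK_3 (fK_0 (fK_4 (fK_0 (fK_2 (fK_6 (fK_2 (fK_6 (fK_3 (fK_6 (fK_3 (fK_0 (fK_4 p)))))))))))))))))))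

/-- the word `ax3_12` -/
def cw_ax3_12 : List ℕ := [0, 2, 2, 0, 4, 6, 3, 0, 3, 4, 6, 2, 0, 2, 4, 6, 0, 3, 3]

/-- the map of the points that the word `ax3_12` gives -/
noncomputable def cf_ax3_12 (p : ℕ) : ℕ := fK_0 (fK_2 (fK_2 (fK_0 (fK_4 (fK_6 (fK_3 (fK_0 (fK_3 (fK_4 (fK_6 (fK_2 (fK_0 (fK_2 (fK_4 (fK_6 (fK_0 (fK_3 (fK_3 p))))))))))))))))))

/-- the word `ax3_13` -/
def cw_ax3_13 : List ℕ := [0, 3, 4, 6, 2, 0, 3, 4, 6, 2, 0, 3, 4, 6, 2]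

/-- the map of the points that the word `ax3_13` gives -/
noncomputable def cf_ax3_13 (p : ℕ) : ℕ := fK_0 (fK_3 (fK_4 (fK_6 (fK_2 (fK_0 (fK_3 (fK_4 (fK_6 (fK_2 (fK_0 (fK_3 (fK_4 (fK_6 (fK_2 p))))))))))))))

/-- the word `ax2_0` -/
def cw_ax2_0 : List ℕ := [4, 4]

/-- the map of the points that the word `ax2_0` gives -/
noncomputable def cf_ax2_0 (p : ℕ) : ℕ := fK_4 (fK_4 p)

/-- the word `ax2_1` -/
def cw_ax2_1 : List ℕ := [0, 4, 0, 4, 0, 4, 0, 4]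

/-- the map of the points that the word `ax2_1` gives -/
noncomputable def cf_ax2_1 (p : ℕ) : ℕ := fK_0 (fK_4 (fK_0 (fK_4 (fK_0 (fK_4 (fK_0 (fK_4 p)))))))

/-- the word `ax2_2` -/
def cw_ax2_2 : List ℕ := [2, 4, 3, 4, 2, 4, 3, 4]

/-- the map of the points that the word `ax2_2` gives -/
noncomputable def cf_ax2_2 (p : ℕ) : ℕ := fK_2 (fK_4 (fK_3 (fK_4 (fK_2 (fK_4 (fK_3 (fK_4 p)))))))

/-- the word `ax2_3` -/
def cw_ax2_3 : List ℕ := [2, 2, 4, 3, 3, 4, 2, 2, 4, 3, 3, 4]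

/-- the map of the points that the word `ax2_3` gives -/
noncomputable def cf_ax2_3 (p : ℕ) : ℕ := fK_2 (fK_2 (fK_4 (fK_3 (fK_3 (fK_4 (fK_2 (fK_2 (fK_4 (fK_3 (fK_3 (fK_4 p)))))))))))

/-- the word `ax2_4` -/
def cw_ax2_4 : List ℕ := [0, 2, 2, 2, 4, 2, 2, 2, 2, 4, 0, 4, 3, 3, 3, 3, 4, 3, 3, 3]

/-- the map of the points that the word `ax2_4` gives -/
noncomputable def cf_ax2_4 (p : ℕ) : ℕ := fK_0 (fK_2 (fK_2 (fK_2 (fK_4 (fK_2 (fK_2 (fK_2 (fK_2 (fK_4 (fK_0 (fK_4 (fK_3 (fK_3 (fK_3 (fK_3 (fK_4 (fK_3 (fK_3 (fK_3 p)))))))))))))))))))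

/-- the word `ax2_5` -/
def cw_ax2_5 : List ℕ := [0, 2, 2, 4, 3, 0, 2, 4, 3, 3, 0, 3, 4, 0, 4, 2]

/-- the map of the points that the word `ax2_5` gives -/
noncomputable def cf_ax2_5 (p : ℕ) : ℕ := fK_0 (fK_2 (fK_2 (fK_4 (fK_3 (fK_0 (fK_2 (fK_4 (fK_3 (fK_3 (fK_0 (fK_3 (fK_4 (fK_0 (fK_4 (fK_2 p)))))))))))))))

/-- the word `ax2_6` -/
def cw_ax2_6 : List ℕ := [0, 2, 2, 2, 0, 3, 4, 2, 2, 0, 2, 2, 2, 0, 3, 4, 2, 2]

/-- the map of the points that the word `ax2_6` gives -/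
noncomputable def cf_ax2_6 (p : ℕ) : ℕ := fK_0 (fK_2 (fK_2 (fK_2 (fK_0 (fK_3 (fK_4 (fK_2 (fK_2 (fK_0 (fK_2 (fK_2 (fK_2 (fK_0 (fK_3 (fK_4 (fK_2 (fK_2 p)))))))))))))))))

/-- the word `ax2_7` -/
def cw_ax2_7 : List ℕ := [0, 2, 4, 3, 0, 4, 0, 2, 4, 3, 0, 4, 0, 2, 4, 3, 4, 0, 4]

/-- the map of the points that the word `ax2_7` gives -/
noncomputable def cf_ax2_7 (p : ℕ) : ℕ := fK_0 (fK_2 (fK_4 (fK_3 (fK_0 (fK_4 (fK_0 (fK_2 (fK_4 (fK_3 (fK_0 (fK_4 (fK_0 (fK_2 (fK_4 (fK_3 (fK_4 (fK_0 (fK_4 p))))))))))))))))))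

/-- the word `ax2_8` -/
def cw_ax2_8 : List ℕ := [0, 3, 4, 2, 0, 4, 0, 3, 4, 2, 0, 4, 0, 3, 4, 2, 4, 0, 4]

/-- the map of the points that the word `ax2_8` gives -/
noncomputable def cf_ax2_8 (p : ℕ) : ℕ := fK_0 (fK_3 (fK_4 (fK_2 (fK_0 (fK_4 (fK_0 (fK_3 (fK_4 (fK_2 (fK_0 (fK_4 (fK_0 (fK_3 (fK_4 (fK_2 (fK_4 (fK_0 (fK_4 p))))))))))))))))))

/-- the word `ax2_9` -/
def cw_ax2_9 : List ℕ := [0, 2, 2, 4, 3, 3, 0, 4, 0, 2, 2, 4, 3, 3, 0, 4]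

/-- the map of the points that the word `ax2_9` gives -/
noncomputable def cf_ax2_9 (p : ℕ) : ℕ := fK_0 (fK_2 (fK_2 (fK_4 (fK_3 (fK_3 (fK_0 (fK_4 (fK_0 (fK_2 (fK_2 (fK_4 (fK_3 (fK_3 (fK_0 (fK_4 p)))))))))))))))

/-- the word `ax2_10` -/
def cw_ax2_10 : List ℕ := [0, 2, 4, 3, 3, 3, 4, 0, 4, 2, 0, 3, 4, 0, 4, 2, 2, 2, 4, 3]

/-- the map of the points that the word `ax2_10` gives -/
noncomputable def cf_ax2_10 (p : ℕ) : ℕ := fK_0 (fK_2 (fK_4 (fK_3 (fK_3 (fK_3 (fK_4 (fK_0 (fK_4 (fK_2 (fK_0 (fK_3 (fK_4 (fK_0 (fK_4 (fK_2 (fK_2 (fK_2 (fK_4 (fK_3 p)))))))))))))))))))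

/-- the word `ax1_0` -/
def cw_ax1_0 : List ℕ := [0, 0]

/-- the map of the points that the word `ax1_0` gives -/
noncomputable def cf_ax1_0 (p : ℕ) : ℕ := fK_0 (fK_0 p)

/-- the word `ax1_1` -/
def cw_ax1_1 : List ℕ := [0, 2, 2, 0, 2, 2, 0, 2, 2, 0, 2, 2, 0, 2, 2, 0, 2, 2]

/-- the map of the points that the word `ax1_1` gives -/
noncomputable def cf_ax1_1 (p : ℕ) : ℕ := fK_0 (fK_2 (fK_2 (fK_0 (fK_2 (fK_2 (fK_0 (fK_2 (fK_2 (fK_0 (fK_2 (fK_2 (fK_0 (fK_2 (fK_2 (fK_0 (fK_2 (fK_2 p)))))))))))))))))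

/-- the word `ax1_2` -/
def cw_ax1_2 : List ℕ := [0, 2, 0, 2, 2, 2, 2, 0, 2, 0, 3, 0, 3, 3, 3, 3, 0, 3]

/-- the map of the points that the word `ax1_2` gives -/
noncomputable def cf_ax1_2 (p : ℕ) : ℕ := fK_0 (fK_2 (fK_0 (fK_2 (fK_2 (fK_2 (fK_2 (fK_0 (fK_2 (fK_0 (fK_3 (fK_0 (fK_3 (fK_3 (fK_3 (fK_3 (fK_0 (fK_3 p)))))))))))))))))

/-- the word `ax1_3` -/
def cw_ax1_3 : List ℕ := [0, 2, 0, 2, 0, 3, 0, 2, 0, 3, 3, 0, 2, 0, 3]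

/-- the map of the points that the word `ax1_3` gives -/
noncomputable def cf_ax1_3 (p : ℕ) : ℕ := fK_0 (fK_2 (fK_0 (fK_2 (fK_0 (fK_3 (fK_0 (fK_2 (fK_0 (fK_3 (fK_3 (fK_0 (fK_2 (fK_0 (fK_3 p))))))))))))))

/-- the word `ax1_4` -/
def cw_ax1_4 : List ℕ := [0, 2, 2, 0, 3, 3, 0, 2, 2, 0, 3, 3, 0, 2, 2, 0, 3, 3]

/-- the map of the points that the word `ax1_4` gives -/
noncomputable def cf_ax1_4 (p : ℕ) : ℕ := fK_0 (fK_2 (fK_2 (fK_0 (fK_3 (fK_3 (fK_0 (fK_2 (fK_2 (fK_0 (fK_3 (fK_3 (fK_0 (fK_2 (fK_2 (fK_0 (fK_3 (fK_3 p)))))))))))))))))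

/-- the word `ex3` -/
def cw_ex3 : List ℕ := [6, 2, 6, 2, 6, 2, 6, 2, 6, 2, 6, 2, 6, 2]

/-- the map of the points that the word `ex3` gives -/
noncomputable def cf_ex3 (p : ℕ) : ℕ := fK_6 (fK_2 (fK_6 (fK_2 (fK_6 (fK_2 (fK_6 (fK_2 (fK_6 (fK_2 (fK_6 (fK_2 (fK_6 (fK_2 p)))))))))))))

/-- the word `ex2` -/
def cw_ex2 : List ℕ := [4, 2, 4, 2, 4, 2, 4, 2, 4, 2, 4, 2, 4, 2]

/-- the map of the points that the word `ex2` gives -/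
noncomputable def cf_ex2 (p : ℕ) : ℕ := fK_4 (fK_2 (fK_4 (fK_2 (fK_4 (fK_2 (fK_4 (fK_2 (fK_4 (fK_2 (fK_4 (fK_2 (fK_4 (fK_2 p)))))))))))))

/-- the word `l1a` -/
def cw_l1a : List ℕ := [2, 2, 2, 2, 2, 2, 2]

/-- the map of the points that the word `l1a` gives -/
noncomputable def cf_l1a (p : ℕ) : ℕ := fK_2 (fK_2 (fK_2 (fK_2 (fK_2 (fK_2 (fK_2 p))))))

/-- the word `l1b` -/
def cw_l1b : List ℕ := [0, 2, 0, 2, 0, 2, 0, 2, 0, 2, 0, 2, 0, 2]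

/-- the map of the points that the word `l1b` gives -/
noncomputable def cf_l1b (p : ℕ) : ℕ := fK_0 (fK_2 (fK_0 (fK_2 (fK_0 (fK_2 (fK_0 (fK_2 (fK_0 (fK_2 (fK_0 (fK_2 (fK_0 (fK_2 p)))))))))))))

/-- the word `B0` -/
def cw_B0 : List ℕ := [3, 4, 0, 2, 4, 2, 0, 3, 4, 3, 0, 4, 2]

/-- the map of the points that the word `B0` gives -/
noncomputable def cf_B0 (p : ℕ) : ℕ := fK_3 (fK_4 (fK_0 (fK_2 (fK_4 (fK_2 (fK_0 (fK_3 (fK_4 (fK_3 (fK_0 (fK_4 (fK_2 p))))))))))))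

/-- the word `B1` -/
def cw_B1 : List ℕ := [0, 2, 0, 3, 3, 0, 2, 2, 0, 3]

/-- the map of the points that the word `B1` gives -/
noncomputable def cf_B1 (p : ℕ) : ℕ := fK_0 (fK_2 (fK_0 (fK_3 (fK_3 (fK_0 (fK_2 (fK_2 (fK_0 (fK_3 p)))))))))

/-- the word `B2` -/
def cw_B2 : List ℕ := [0, 3, 3, 4, 0, 2, 6, 0, 6, 3, 0, 4, 2, 2, 0]

/-- the map of the points that the word `B2` gives -/
noncomputable def cf_B2 (p : ℕ) : ℕ := fK_0 (fK_3 (fK_3 (fK_4 (fK_0 (fK_2 (fK_6 (fK_0 (fK_6 (fK_3 (fK_0 (fK_4 (fK_2 (fK_2 (fK_0 p))))))))))))))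

/-- the word `B3` -/
def cw_B3 : List ℕ := [0, 4, 3, 3, 0, 6, 2, 0, 4, 6, 0, 3, 6, 0, 2, 2, 4, 0]

/-- the map of the points that the word `B3` gives -/
noncomputable def cf_B3 (p : ℕ) : ℕ := fK_0 (fK_4 (fK_3 (fK_3 (fK_0 (fK_6 (fK_2 (fK_0 (fK_4 (fK_6 (fK_0 (fK_3 (fK_6 (fK_0 (fK_2 (fK_2 (fK_4 (fK_0 p)))))))))))))))))

/-- the word `B4` -/
def cw_B4 : List ℕ := [2, 2, 2, 4, 3, 4, 3, 3, 4]

/-- the map of the points that the word `B4` gives -/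
noncomputable def cf_B4 (p : ℕ) : ℕ := fK_2 (fK_2 (fK_2 (fK_4 (fK_3 (fK_4 (fK_3 (fK_3 (fK_4 p))))))))

/-- the word `B5` -/
def cw_B5 : List ℕ := [3, 4, 2, 0, 3, 0, 2, 2, 0, 4, 3, 3, 0, 3]

/-- the map of the points that the word `B5` gives -/
noncomputable def cf_B5 (p : ℕ) : ℕ := fK_3 (fK_4 (fK_2 (fK_0 (fK_3 (fK_0 (fK_2 (fK_2 (fK_0 (fK_4 (fK_3 (fK_3 (fK_0 (fK_3 p)))))))))))))

/-- the word `B6` -/
def cw_B6 : List ℕ := [0, 3, 3, 0, 3, 0, 4, 6, 0, 2, 0, 2, 2, 0]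

/-- the map of the points that the word `B6` gives -/
noncomputable def cf_B6 (p : ℕ) : ℕ := fK_0 (fK_3 (fK_3 (fK_0 (fK_3 (fK_0 (fK_4 (fK_6 (fK_0 (fK_2 (fK_0 (fK_2 (fK_2 (fK_0 p)))))))))))))

/-- the word `B7` -/
def cw_B7 : List ℕ := [2, 2, 4, 0, 6, 2, 6, 0, 6, 3, 6, 0, 4, 3, 3]

/-- the map of the points that the word `B7` gives -/
noncomputable def cf_B7 (p : ℕ) : ℕ := fK_2 (fK_2 (fK_4 (fK_0 (fK_6 (fK_2 (fK_6 (fK_0 (fK_6 (fK_3 (fK_6 (fK_0 (fK_4 (fK_3 (fK_3 p))))))))))))))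

/-- the word `B8` -/
def cw_B8 : List ℕ := [0, 2, 4, 6, 0, 3, 6, 2, 0, 4, 6, 3, 0]

/-- the map of the points that the word `B8` gives -/
noncomputable def cf_B8 (p : ℕ) : ℕ := fK_0 (fK_2 (fK_4 (fK_6 (fK_0 (fK_3 (fK_6 (fK_2 (fK_0 (fK_4 (fK_6 (fK_3 (fK_0 p))))))))))))

/-- the word `B9` -/
def cw_B9 : List ℕ := [4, 0, 4, 2, 6, 0, 3, 6, 2, 0, 6, 3, 4, 0, 4]

/-- the map of the points that the word `B9` gives -/
noncomputable def cf_B9 (p : ℕ) : ℕ := fK_4 (fK_0 (fK_4 (fK_2 (fK_6 (fK_0 (fK_3 (fK_6 (fK_2 (fK_0 (fK_6 (fK_3 (fK_4 (fK_0 (fK_4 p))))))))))))))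

end Cfsg.Agent.Lib.Helper7.F42M
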