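import Cfsg.Agent.Lib.Helper7.F42MEA
import Cfsg.Agent.Lib.Helper6.ChevRing

/-!
# The multiplier of the Chevalley group of type F4 over the field of two elements: a stem extension of the group with kernel of order two, and the multiplier

The group generated by the pairs is a stem extension of the group whose kernel has at least two elements; together
with the bound for the kernels of the stem extensions of the group, applied to this one, this shows that its kernel is
cyclic of order two.  This is then carried over to the Chevalley group over any field of two elements.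
-/

set_option autoImplicit false
set_option maxRecDepth 100000
set_option linter.unusedSimpArgs false
set_option synthInstance.maxHeartbeats 400000

namespace Cfsg.Agent.Lib.Helper7.F42M

open Cfsg Cfsg.Agent.Lib.Helper7.MG Cfsg.Agent.Lib.Helper7.HSMult Cfsg.Agent.Lib.Helper7.F42B
open scoped IsMulCommutative commutatorElement

/-! ### the kernel of the projection -/

/-- the central elements of the table of the group: the first one exchanges the two copies of each coset, the
others are trivial -/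
noncomputable def zE (j : ℕ) : Subgroup.center ↥GE := if j = 0 then ⟨zX, zX_center⟩ else 1

theorem zE_zero : ((zE 0 : Subgroup.center ↥GE) : ↥GE) = zX := by
  rw [zE, if_pos rfl]

theorem zE_succ (j : ℕ) : zE (j + 1) = 1 := by
  rw [zE, if_neg (Nat.succ_ne_zero j)]

theorem zE_mem_ker (j : ℕ) : ((zE j : Subgroup.center ↥GE) : ↥GE) ∈ sigE.ker := by
  rcases Nat.eq_zero_or_pos j with rfl | h
  · rw [zE_zero]
    exact zX_mem_ker
  · obtain ⟨k, rfl⟩ : ∃ k, j = k + 1 := ⟨j - 1, by omega⟩
    rw [zE_succ]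
    exact Subgroup.one_mem _

theorem wd_gE_mem_ker {i : ℕ} (hi : i < 3167) : VCert.wd gE (F42T.cert.W i) ∈ sigE.ker := by
  rw [MonoidHom.mem_ker, sigE_wd, wd_lT_W hi]

theorem wd_gE_axT1 : VCert.wd gE (axTW 1) = 1 :=
  wd_gE_eq (w' := []) (fun p hp => by rw [ev5_nil]; exact ev5_axT1 hp) (by
    rw [wd_lT_axT 1 (by norm_num)]; rfl)

theorem wd_gE_axT2 : VCert.wd gE (axTW 2) = 1 :=
  wd_gE_eq (w' := []) (fun p hp => by rw [ev5_nil]; exact ev5_axT2 hp) (by
    rw [wd_lT_axT 2 (by norm_num)]; rfl)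

theorem wd_gE_axT : ∀ j, j < 3 →
    VCert.wd gE (F42T.cert.W (F42T.axI j)) = ((zE j : Subgroup.center ↥GE) : ↥GE) := by
  intro j hj
  rw [chk_axTW j hj]
  have : j = 0 ∨ j = 1 ∨ j = 2 := by omega
  rcases this with rfl | rfl | rfl
  · rw [zE_zero]
    rfl
  · rw [zE_succ]
    exact wd_gE_axT1
  · rw [zE_succ]
    exact wd_gE_axT2

theorem wd_gE_y17 : VCert.wd gE (wpow 17 F42T.yW) = 1 := by
  refine wd_gE_eq (w' := []) (fun p hp => by rw [ev5_y17 hp, ev5_nil]) ?_
  rw [← F42T.chk_W3]
  exact wd_lT_W (by norm_num)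

theorem wd_gE_tri (k : ℕ) (hk : k < 8) : VCert.wd gE (triW k) = 1 := by
  refine wd_gE_eq (w' := []) (fun p hp => by rw [ev5_tri k hk p hp, ev5_nil]) ?_
  rw [← chk_triWW k hk]
  exact wd_lT_W (F42T.chk_triW k hk).1

theorem hW0_E : ∀ i, i < F42T.cert.nW → F42T.cert.wT i = 0 →
    VCert.wd gE (F42T.cert.W i) = ((F42T.cert.ek zE i : Subgroup.center ↥GE) : ↥GE) := by
  intro i hi hT
  rcases F42T.chk_wT i hi hT with ⟨h4, h0⟩ | rfl | ⟨j, hj, rfl⟩ | ⟨k, hk, rfl⟩
  · rw [VCert.ek, F42T.cert.kap_one _ h0]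
    apply hHK_E _ (wd_gE_mem_HE3 _ fun x hx => by simpa [Nat.blt] using List.all_eq_true.1 h4 x hx)
    exact wd_gE_mem_ker hi
  · rw [VCert.ek, F42T.cert.kap_one _ F42T.chk_ex, F42T.chk_W3]
    exact wd_gE_y17
  · rw [VCert.ek, F42T.cert.kap_unit _ hj (F42T.chk_ax j hj)]
    exact wd_gE_axT j hj
  · obtain ⟨_, _, h0, _⟩ := F42T.chk_triW k hk
    rw [VCert.ek, F42T.cert.kap_one _ h0, chk_triWW k hk]
    exact wd_gE_tri k hk

theorem hgen_E : ∀ y : ↥GE, ∃ u : List ℕ, (∀ x ∈ u, x < F42T.cert.g) ∧ y = (u.map gE).prod := by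
  apply MG.exists_word_of_closure gE 12 ivT _ closure_gE
  intro x hx
  refine ⟨?_, gE_iv x hx⟩
  have : x = 0 ∨ x = 1 ∨ x = 2 ∨ x = 3 ∨ x = 4 ∨ x = 5 ∨ x = 6 ∨ x = 7 ∨ x = 8 ∨ x = 9 ∨ x = 10 ∨ x = 11 := by omega
  rcases this with rfl | rfl | rfl | rfl | rfl | rfl | rfl | rfl | rfl | rfl | rfl | rfl <;> decide

/-- **the kernel of the projection is generated by the central elements of the table** -/
theorem ker_sigE : sigE.ker = Zc zE 3 := by
  refine ker_eq_Zc_of_sub sigE F42T.cert gE zE HE3 47377612800 sigE_surj (by rw [F42B.card_G]; rfl) (by decide)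
    (by norm_num)
    hHK_E card_HE3_le ?_ (fun j _ => zE_mem_ker j) hgen_E (by decide) (by decide) (fun x hx => gE_iv x hx)
    (fun i hi => wd_gE_mem_ker hi) hW0_E F42T.cert_all F42T.cert_wall
  intro x hx
  exact gE_mem_HE3 (lt_ten_of_sub hx)

/-! ### the extension is perfect -/

theorem HE3_perfect : commutator ↥HE3 = ⊤ := by
  have e := MulEquiv.ofBijective sig3 ⟨sig3_injective, sig3_surj⟩
  have hs : Function.Surjective e.symm.toMonoidHom := e.symm.surjective
  have h1 : (commutator ↥F42B.L).map e.symm.toMonoidHom = commutator ↥HE3 := by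
    rw [commutator_def, Subgroup.map_commutator, ← MonoidHom.range_eq_map, MonoidHom.range_eq_top.2 hs,
      commutator_def]
  have h2 : commutator ↥F42B.L = ⊤ := F42B.L_perfect
  rw [← h1, h2, ← MonoidHom.range_eq_map, MonoidHom.range_eq_top.2 hs]

theorem HE3_le_commutator : HE3 ≤ commutator ↥GE := by
  have h1 : (commutator ↥HE3).map HE3.subtype ≤ commutator ↥GE := by
    rw [commutator_def, Subgroup.map_commutator, commutator_def]
    exact Subgroup.commutator_mono le_top le_top
  rw [HE3_perfect, ← MonoidHom.range_eq_map, Subgroup.range_subtype] at h1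
  exact h1

theorem chk_s6M : matOKT (wpow 6 [10]) = true := by decide +kernel

theorem gE_ten_pow : gE 10 ^ 6 = 1 := by
  have h := wd_gE_eq (w := wpow 6 [10]) (w' := []) (fun p hp => by
      rw [ev5_s6 hp, ev5_nil]) (by
      rw [wd_lT_eq_one chk_s6M]; rfl)
  rw [wd_wpow, VCert.wd_cons, VCert.wd_nil, mul_one] at h
  exact h

theorem commutator_GE : commutator ↥GE = ⊤ := by
  set K := commutator ↥GE with hK
  set π := QuotientGroup.mk' K with hπ
  have hH : ∀ x, x < 10 → π (gE x) = 1 := fun x hx =>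
    (QuotientGroup.eq_one_iff _).2 (HE3_le_commutator (gE_mem_HE3 hx))
  have e17 : π (gE 10) ^ 17 = 1 := by
    have := congrArg π wd_gE_y17
    rw [wd_wpow] at this
    simp only [F42T.yW, VCert.wd_cons, VCert.wd_nil, mul_one, one_mul, map_pow, map_mul, hH 1 (by norm_num), hH 2 (by norm_num), hH 5 (by norm_num), hH 6 (by norm_num), hH 9 (by norm_num), map_one] at this
    exact this
  have e6 : π (gE 10) ^ 6 = 1 := by rw [← map_pow, gE_ten_pow, map_one]
  have et : π (gE 10) = 1 := by
    have : π (gE 10) = (π (gE 10) ^ 6) ^ 3 * (π (gE 10) ^ 17)⁻¹ := by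
      rw [← pow_mul]; group
    rw [this, e17, e6, one_pow, inv_one, mul_one]
  have ht : gE 10 ∈ K := (QuotientGroup.eq_one_iff _).1 et
  rw [eq_top_iff, ← closure_gE, Subgroup.closure_le]
  rintro _ ⟨x, hx, rfl⟩
  have hx' : x < 12 := hx
  rcases Nat.lt_or_ge x 10 with h10 | h10
  · exact HE3_le_commutator (gE_mem_HE3 h10)
  · have : x = 10 ∨ x = 11 := by omega
    rcases this with rfl | rfl
    · exact ht
    · have : gE 11 = (gE 10)⁻¹ := gE_iv 10 (by norm_num)
      rw [SetLike.mem_coe, this]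
      exact inv_mem ht

/-- **the group generated by the pairs is a stem extension of the group** -/
theorem stem_GE : IsStemExtension sigE := by
  refine ⟨sigE_surj, ?_, ?_⟩
  · rw [ker_sigE]
    exact Zc_le_center zE 3
  · rw [commutator_GE]
    exact le_top

/-! ### the order of the kernel -/

theorem card_ker_ge : 2 ≤ Nat.card ↥sigE.ker := by
  have h : sigE.ker ≠ ⊥ := by
    intro h
    have := zX_mem_ker
    rw [h, Subgroup.mem_bot] at this
    exact zX_ne_one this
  exact Nat.succ_le_of_lt ((Subgroup.one_lt_card_iff_ne_bot (H := sigE.ker)).2 h)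

theorem card_zmod2 : Nat.card (Multiplicative (ZMod 2)) = 2 := by
  show Nat.card (ZMod 2) = 2
  rw [Nat.card_eq_fintype_card, ZMod.card]

/-- **the kernel of the stem extension is cyclic of order two** -/
theorem ker_GE : Nonempty (↥sigE.ker ≃* Multiplicative (ZMod 2)) := by
  obtain ⟨hs, hc, hd⟩ := stem_GE
  obtain ⟨π, hπ⟩ := F42T.exists_surj_of_stem sigE hs hc hd
  exact nonempty_equiv_of_surj_of_card_le π hπ (by rw [card_zmod2]; exact card_ker_ge)

/-! ### the Chevalley group over any field of two elements -/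

/-- **the Schur multiplier of the Chevalley group of type F4 over a field of two elements is cyclic of order two** -/
theorem multiplier_f42 {F : Type*} [Field F] [Fintype F] (hF : Fintype.card F = 2) :
    Cfsg.HasCyclicSchurMultiplier ↥(Cfsg.Lie.chevF4.group F) 2 := by
  obtain ⟨e0⟩ : Nonempty (F ≃+* ZMod 2) := ⟨FiniteField.ringEquivOfCardEq (by rw [hF, ZMod.card])⟩
  obtain ⟨e⟩ : Nonempty (↥(Cfsg.Lie.chevF4.group F) ≃* G) :=
    ⟨Cfsg.Agent.Lib.Helper6.ChevRing.groupEquiv Cfsg.Lie.chevF4 e0⟩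
  constructor
  · obtain ⟨iso⟩ := ker_GE
    obtain ⟨hs, hc, hd⟩ := stem_GE
    have hk1 : (e.symm.toMonoidHom.comp sigE).ker = sigE.ker := by
      ext x
      rw [MonoidHom.mem_ker, MonoidHom.mem_ker]
      show e.symm (sigE x) = 1 ↔ sigE x = 1
      exact MulEquiv.map_eq_one_iff e.symm
    have h1 : IsStemExtension (e.symm.toMonoidHom.comp sigE) :=
      ⟨e.symm.surjective.comp hs, by rw [hk1]; exact hc, by rw [hk1]; exact hd⟩
    obtain ⟨h2, ⟨iso'⟩⟩ := stem_comp_equiv (MulEquiv.ulift (α := ↥GE)) (MulEquiv.refl _)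
      (e.symm.toMonoidHom.comp sigE) h1
    refine ⟨ULift ↥GE, inferInstance, inferInstance, _, h2, ⟨?_⟩⟩
    exact iso'.trans ((MulEquiv.subgroupCongr hk1).trans iso)
  · intro Γ _ _ σ hσ
    have hk : ∀ x, x ∈ (e.toMonoidHom.comp σ).ker ↔ x ∈ σ.ker := by
      intro x
      rw [MonoidHom.mem_ker, MonoidHom.mem_ker]
      show e (σ x) = 1 ↔ σ x = 1
      exact MulEquiv.map_eq_one_iff e
    obtain ⟨π, hπ⟩ := F42T.exists_surj_of_stem (e.toMonoidHom.comp σ) (e.surjective.comp hσ.1)
      (fun x hx => hσ.2.1 ((hk x).1 hx)) (fun x hx => hσ.2.2 ((hk x).1 hx))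
    have hle : (e.toMonoidHom.comp σ).ker ≤ σ.ker := fun x hx => (hk x).1 hx
    refine ⟨(Subgroup.inclusion hle).comp π, ?_⟩
    intro y
    obtain ⟨a, ha⟩ := hπ ⟨y.1, (hk y.1).2 y.2⟩
    refine ⟨a, ?_⟩
    apply Subtype.ext
    show ((π a : ↥(e.toMonoidHom.comp σ).ker) : Γ) = y.1
    rw [ha]

end Cfsg.Agent.Lib.Helper7.F42M
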