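import Mathlib

/-!
# Feit–Higman, part II.1: identities in the algebra generated by two "Hecke generators"

`A * A = a + (a-1) A`, `B * B = b + (b-1) B` in an `ℝ`-algebra.  The element
`T = AB + BA - (a-1) B - (b-1) A + (a-1)(b-1)` is central and `M = AB` satisfies `M² = T M - ab`.
(helper7)
-/

set_option autoImplicit false
set_option linter.unusedSimpArgs false

namespace Cfsg.Agent.Lib.Helper7.FH

variable {R : Type*} [Ring R] [Algebra ℝ R] (A B : R) (a b : ℝ)

/-- the central element `T = M + Q M⁻¹` -/
def Tm : R := A * B + B * A - (a - 1) • B - (b - 1) • A + ((a - 1) * (b - 1)) • (1 : R)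

theorem Tm_swap : Tm B A b a = Tm A B a b := by
  unfold Tm
  rw [mul_comm (b - 1) (a - 1)]
  abel

section
variable {A B a b}

theorem quad_mul (hA : A * A = a • (1 : R) + (a - 1) • A) (x : R) :
    A * (A * x) = a • x + (a - 1) • (A * x) := by
  rw [← mul_assoc, hA, add_mul, smul_mul_assoc, smul_mul_assoc, one_mul]

variable (hA : A * A = a • (1 : R) + (a - 1) • A) (hB : B * B = b • (1 : R) + (b - 1) • B)
include hA hB

theorem Tm_comm_A : A * Tm A B a b = Tm A B a b * A := by
  unfold Tm
  have h1 := quad_mul hA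
  have h2 := quad_mul hB
  simp only [mul_add, mul_sub, add_mul, sub_mul, mul_smul_comm, smul_mul_assoc, mul_one, one_mul,
    mul_assoc, h1, h2, hA, hB, smul_add, smul_sub, smul_smul]
  module

theorem Tm_comm_B : B * Tm A B a b = Tm A B a b * B := by
  unfold Tm
  have h1 := quad_mul hA
  have h2 := quad_mul hB
  simp only [mul_add, mul_sub, add_mul, sub_mul, mul_smul_comm, smul_mul_assoc, mul_one, one_mul,
    mul_assoc, h1, h2, hA, hB, smul_add, smul_sub, smul_smul]
  module

/-- `M² = T M - Q` for `M = AB` -/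
theorem M_sq : (A * B) * (A * B) = Tm A B a b * (A * B) - (a * b) • (1 : R) := by
  unfold Tm
  have h1 := quad_mul hA
  have h2 := quad_mul hB
  simp only [mul_add, mul_sub, add_mul, sub_mul, mul_smul_comm, smul_mul_assoc, mul_one, one_mul,
    mul_assoc, h1, h2, hA, hB, smul_add, smul_sub, smul_smul]
  module

/-- `M'² = T M' - Q` for `M' = BA` -/
theorem M'_sq : (B * A) * (B * A) = Tm A B a b * (B * A) - (a * b) • (1 : R) := by
  unfold Tm
  have h1 := quad_mul hA
  have h2 := quad_mul hB
  simp only [mul_add, mul_sub, add_mul, sub_mul, mul_smul_comm, smul_mul_assoc, mul_one, one_mul,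
    mul_assoc, h1, h2, hA, hB, smul_add, smul_sub, smul_smul]
  module

/-- `(AB - BA)² = (T - (Q+1)) (T + (a+b))` -/
theorem J_sq : (A * B - B * A) * (A * B - B * A)
    = (Tm A B a b - (a * b + 1) • (1 : R)) * (Tm A B a b + (a + b) • (1 : R)) := by
  unfold Tm
  have h1 := quad_mul hA
  have h2 := quad_mul hB
  simp only [mul_add, mul_sub, add_mul, sub_mul, mul_smul_comm, smul_mul_assoc, mul_one, one_mul,
    mul_assoc, h1, h2, hA, hB, smul_add, smul_sub, smul_smul]
  module

omit hB in
/-- the traceless part of `A` anticommutes with `AB - BA` -/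
theorem anti_A : ((2 : ℝ) • A - (a - 1) • (1 : R)) * (A * B - B * A)
    = -((A * B - B * A) * ((2 : ℝ) • A - (a - 1) • (1 : R))) := by
  have h1 := quad_mul hA
  simp only [mul_add, mul_sub, add_mul, sub_mul, mul_smul_comm, smul_mul_assoc, mul_one, one_mul,
    mul_assoc, h1, hA, smul_add, smul_sub, smul_smul]
  module

omit hA in
theorem anti_B : ((2 : ℝ) • B - (b - 1) • (1 : R)) * (A * B - B * A)
    = -((A * B - B * A) * ((2 : ℝ) • B - (b - 1) • (1 : R))) := by
  have h2 := quad_mul hB
  simp only [mul_add, mul_sub, add_mul, sub_mul, mul_smul_comm, smul_mul_assoc, mul_one, one_mul,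
    mul_assoc, h2, hB, smul_add, smul_sub, smul_smul]
  module

end

section odd
variable {A B a}
variable (hA : A * A = a • (1 : R) + (a - 1) • A) (hB : B * B = a • (1 : R) + (a - 1) • B)
include hA hB

/-- equal parameters: `ABA - BAB = (T + q)(A - B)` -/
theorem aba_sub_bab : A * B * A - B * A * B = (Tm A B a a + a • (1 : R)) * (A - B) := by
  unfold Tm
  have h1 := quad_mul hA
  have h2 := quad_mul hB
  simp only [mul_add, mul_sub, add_mul, sub_mul, mul_smul_comm, smul_mul_assoc, mul_one, one_mul,
    mul_assoc, h1, h2, hA, hB, smul_add, smul_sub, smul_smul]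
  module

/-- equal parameters: `(A - B)² = (q² + 1) - T` -/
theorem sub_sq : (A - B) * (A - B) = (a * a + 1) • (1 : R) - Tm A B a a := by
  unfold Tm
  simp only [mul_add, mul_sub, add_mul, sub_mul, mul_smul_comm, smul_mul_assoc, mul_one, one_mul,
    mul_assoc, hA, hB, smul_add, smul_sub, smul_smul]
  module

end odd

end Cfsg.Agent.Lib.Helper7.FH
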