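import Mathlib

/-!
# Feit–Higman, part II.2: Lucas/Chebyshev polynomials with parameter `Q`

`luc Q 0 = 0`, `luc Q 1 = 1`, `luc Q (k+2) = X * luc Q (k+1) - C Q * luc Q k`.
If `M² = T M - Q` with `T` commuting with `M`, then `M^(k+1) = luc_{k+1}(T) M - Q luc_k(T)`.
`luc (s²) (k+1)` evaluated at `2 s cos φ`, times `sin φ`, is `s^k sin ((k+1) φ)`.
(helper7)
-/

set_option autoImplicit false

namespace Cfsg.Agent.Lib.Helper7.FH

open Polynomial

/-- Lucas-type polynomials -/
noncomputable def luc (Q : ℝ) : ℕ → ℝ[X]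
  | 0 => 0
  | 1 => 1
  | (k + 2) => X * luc Q (k + 1) - C Q * luc Q k

@[simp] theorem luc_zero (Q : ℝ) : luc Q 0 = 0 := by rw [luc]
@[simp] theorem luc_one (Q : ℝ) : luc Q 1 = 1 := by rw [luc]
theorem luc_add_two (Q : ℝ) (k : ℕ) : luc Q (k + 2) = X * luc Q (k + 1) - C Q * luc Q k := by
  rw [luc]

theorem luc_monic_natDegree (Q : ℝ) :
    ∀ k : ℕ, ((luc Q (k + 1)).Monic ∧ (luc Q (k + 1)).natDegree = k) := by
  intro k
  induction k using Nat.strong_induction_on with
  | _ k ih =>
    rcases k with _ | _ | k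
    · simp
    · rw [luc_add_two]
      simp
    · obtain ⟨hm1, hd1⟩ := ih (k + 1) (by omega)
      obtain ⟨hm0, hd0⟩ := ih k (by omega)
      rw [luc_add_two]
      have hXm : (X * luc Q (k + 1 + 1)).Monic := monic_X.mul hm1
      have hXd : (X * luc Q (k + 1 + 1)).natDegree = k + 2 := by
        rw [natDegree_X_mul hm1.ne_zero, hd1]
      have hnlt : (C Q * luc Q (k + 1)).natDegree < (X * luc Q (k + 1 + 1)).natDegree := by
        rw [hXd]
        have := natDegree_C_mul_le Q (luc Q (k + 1))
        rw [hd0] at this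
        omega
      refine ⟨hXm.sub_of_left (degree_lt_degree hnlt), ?_⟩
      rw [natDegree_sub_eq_left_of_natDegree_lt hnlt]
      exact hXd

theorem luc_succ_ne_zero (Q : ℝ) (k : ℕ) : luc Q (k + 1) ≠ 0 := (luc_monic_natDegree Q k).1.ne_zero

theorem luc_natDegree (Q : ℝ) (k : ℕ) : (luc Q (k + 1)).natDegree = k := (luc_monic_natDegree Q k).2

/-- evaluation at `2 s cos φ` -/
theorem luc_eval_cos (s φ : ℝ) :
    ∀ k : ℕ, (luc (s ^ 2) (k + 1)).eval (2 * s * Real.cos φ) * Real.sin φ
      = s ^ k * Real.sin ((k + 1 : ℕ) * φ) := by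
  intro k
  induction k using Nat.strong_induction_on with
  | _ k ih =>
    rcases k with _ | _ | k
    · simp
    · rw [luc_add_two]
      simp only [zero_add, luc_one, mul_one, luc_zero, mul_zero, sub_zero, eval_X, pow_one]
      have : ((1 + 1 : ℕ) : ℝ) * φ = 2 * φ := by norm_num
      rw [this, Real.sin_two_mul]
      ring
    · have h1 := ih (k + 1) (by omega)
      have h0 := ih k (by omega)
      rw [luc_add_two]
      simp only [eval_sub, eval_mul, eval_X, eval_C]
      have e2 : ((k + 2 + 1 : ℕ) : ℝ) * φ = ((k + 1 + 1 : ℕ) : ℝ) * φ + φ := by push_cast; ring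
      have e0 : ((k + 1 : ℕ) : ℝ) * φ = ((k + 1 + 1 : ℕ) : ℝ) * φ - φ := by push_cast; ring
      rw [e2, Real.sin_add]
      rw [e0, Real.sin_sub] at h0
      have h1' : eval (2 * s * Real.cos φ) (luc (s ^ 2) (k + 1 + 1)) * Real.sin φ
          = s ^ (k + 1) * Real.sin (((k + 1 + 1 : ℕ) : ℝ) * φ) := h1
      linear_combination (2 * s * Real.cos φ) * h1' - s ^ 2 * h0

section power

variable {R : Type*} [Ring R] [Algebra ℝ R]

theorem aeval_comm_self (T : R) (f : ℝ[X]) : aeval T f * T = T * aeval T f := by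
  have h : f * X = X * f := (commute_X f).symm.eq ▸ rfl
  have := congrArg (aeval T) h
  simpa using this

theorem commute_aeval {T Y : R} (h : Commute T Y) (f : ℝ[X]) : Commute (aeval T f) Y := by
  induction f using Polynomial.induction_on' with
  | add p q hp hq =>
    rw [map_add]
    exact hp.add_left hq
  | monomial n c =>
    rw [aeval_monomial]
    exact Commute.mul_left (Algebra.commutes c Y) (h.pow_left n)

/-- powers of `M` when `M² = T M - Q` -/
theorem pow_succ_eq_luc (M T : R) (Q : ℝ) (hM : M * M = T * M - Q • (1 : R))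
    (k : ℕ) : M ^ (k + 1) = aeval T (luc Q (k + 1)) * M - Q • aeval T (luc Q k) := by
  induction k with
  | zero => simp
  | succ k ih =>
    rw [pow_succ, ih, luc_add_two]
    simp only [map_sub, map_mul, aeval_X, aeval_C]
    have h1 : aeval T (luc Q (k + 1)) * M * M = aeval T (luc Q (k + 1)) * (T * M - Q • (1 : R)) := by
      rw [mul_assoc, hM]
    have h2 : aeval T (luc Q (k + 1)) * T = T * aeval T (luc Q (k + 1)) := aeval_comm_self T _
    rw [sub_mul, h1, mul_sub, ← mul_assoc, h2]
    simp only [Algebra.algebraMap_eq_smul_one, smul_mul_assoc, one_mul, mul_smul_comm, mul_one,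
      sub_mul]
    abel

end power

end Cfsg.Agent.Lib.Helper7.FH
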