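import Mathlib
import Cfsg.Agent.Lib.Helper7.FHAlg

/-!
# Feit–Higman, part II.4: the linear-algebra data, the length filtration, Parseval

(helper7)
-/

set_option autoImplicit false

namespace Cfsg.Agent.Lib.Helper7.FH

open Matrix

/-- alternating product `A * B * A * ...` with `k` factors, starting with `A` -/
def alt {R : Type*} [Monoid R] (A B : R) : ℕ → R
  | 0 => 1
  | (k + 1) => A * alt B A k

section alt
variable {R : Type*} [Monoid R] (A B : R)

@[simp] theorem alt_zero : alt A B 0 = 1 := rfl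
theorem alt_succ (k : ℕ) : alt A B (k + 1) = A * alt B A k := rfl
@[simp] theorem alt_one : alt A B 1 = A := by simp [alt_succ]
theorem alt_add_two (k : ℕ) : alt A B (k + 2) = A * B * alt A B k := by
  rw [alt_succ, alt_succ, mul_assoc]

theorem alt_even (k : ℕ) : alt A B (2 * k) = (A * B) ^ k := by
  induction k with
  | zero => simp
  | succ k ih => rw [show 2 * (k + 1) = 2 * k + 2 by ring, alt_add_two, ih, pow_succ']

theorem alt_odd (k : ℕ) : alt A B (2 * k + 1) = (A * B) ^ k * A := by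
  induction k with
  | zero => simp
  | succ k ih =>
    rw [show 2 * (k + 1) + 1 = (2 * k + 1) + 2 by ring, alt_add_two, ih, pow_succ']
    simp only [mul_assoc]

theorem mul_pow_shift (k : ℕ) : A * (B * A) ^ k = (A * B) ^ k * A := by
  induction k with
  | zero => simp
  | succ k ih =>
    calc A * (B * A) ^ (k + 1) = A * B * (A * (B * A) ^ k) := by
          rw [pow_succ']; simp only [mul_assoc]
      _ = (A * B) ^ (k + 1) * A := by
          rw [ih, pow_succ']; simp only [mul_assoc]

end alt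

variable {X : Type*} [Fintype X] [DecidableEq X]

/-- Frobenius inner product -/
def fro (Y Z : Matrix X X ℝ) : ℝ := (Y * Zᵀ).trace

omit [DecidableEq X] in
theorem fro_comm (Y Z : Matrix X X ℝ) : fro Y Z = fro Z Y := by
  unfold fro
  rw [← trace_transpose, transpose_mul, transpose_transpose]

omit [DecidableEq X] in
theorem fro_add_left (Y Y' Z : Matrix X X ℝ) : fro (Y + Y') Z = fro Y Z + fro Y' Z := by
  unfold fro; rw [add_mul, trace_add]

omit [DecidableEq X] in
theorem fro_sub_left (Y Y' Z : Matrix X X ℝ) : fro (Y - Y') Z = fro Y Z - fro Y' Z := by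
  unfold fro; rw [sub_mul, trace_sub]

omit [DecidableEq X] in
theorem fro_smul_left (c : ℝ) (Y Z : Matrix X X ℝ) : fro (c • Y) Z = c * fro Y Z := by
  unfold fro; rw [smul_mul_assoc, trace_smul, smul_eq_mul]

omit [DecidableEq X] in
theorem fro_zero_left (Z : Matrix X X ℝ) : fro 0 Z = 0 := by
  unfold fro; rw [zero_mul, trace_zero]

omit [DecidableEq X] in
theorem fro_add_right (Y Z Z' : Matrix X X ℝ) : fro Y (Z + Z') = fro Y Z + fro Y Z' := by
  rw [fro_comm, fro_add_left, fro_comm Z, fro_comm Z']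

omit [DecidableEq X] in
theorem fro_smul_right (c : ℝ) (Y Z : Matrix X X ℝ) : fro Y (c • Z) = c * fro Y Z := by
  rw [fro_comm, fro_smul_left, fro_comm]

omit [DecidableEq X] in
theorem fro_sum_right {ι : Type*} (s : Finset ι) (Y : Matrix X X ℝ) (Z : ι → Matrix X X ℝ) :
    fro Y (∑ i ∈ s, Z i) = ∑ i ∈ s, fro Y (Z i) := by
  unfold fro
  rw [transpose_sum, Finset.mul_sum, trace_sum]

omit [DecidableEq X] in
theorem fro_sum_left {ι : Type*} (s : Finset ι) (Y : ι → Matrix X X ℝ) (Z : Matrix X X ℝ) :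
    fro (∑ i ∈ s, Y i) Z = ∑ i ∈ s, fro (Y i) Z := by
  unfold fro
  rw [Finset.sum_mul, trace_sum]

omit [DecidableEq X] in
theorem fro_self_eq_zero {Y : Matrix X X ℝ} (h : fro Y Y = 0) : Y = 0 := by
  unfold fro at h
  have h1 : (Y * Yᴴ).trace = 0 := by rwa [conjTranspose_eq_transpose_of_trivial]
  exact trace_mul_conjTranspose_self_eq_zero_iff.mp h1

/-- The data extracted from a rank 2 (B,N)-pair: two symmetric matrices satisfying the quadratic
Hecke relations and the braid relation of length `m`, such that the `2m` alternating products of length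
at most `m` are pairwise orthogonal of the expected norms. -/
structure FHData (X : Type*) [Fintype X] [DecidableEq X] where
  a : ℕ
  b : ℕ
  m : ℕ
  A : Matrix X X ℝ
  B : Matrix X X ℝ
  ha : 2 ≤ a
  hb : 2 ≤ b
  hm : 2 ≤ m
  hX : Nonempty X
  A_symm : Aᵀ = A
  B_symm : Bᵀ = B
  A_sq : A * A = (a : ℝ) • (1 : Matrix X X ℝ) + ((a : ℝ) - 1) • A
  B_sq : B * B = (b : ℝ) • (1 : Matrix X X ℝ) + ((b : ℝ) - 1) • B
  braid : alt A B m = alt B A m
  orth_same : ∀ k l, k ≤ m → l ≤ m → k ≠ l → fro (alt A B k) (alt A B l) = 0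
  orth_same' : ∀ k l, k ≤ m → l ≤ m → k ≠ l → fro (alt B A k) (alt B A l) = 0
  orth_cross : ∀ k l, k ≤ m → l ≤ m → ¬(k = 0 ∧ l = 0) → ¬(k = m ∧ l = m) →
    fro (alt A B k) (alt B A l) = 0
  norm : ∀ k, k ≤ m → fro (alt A B k) (alt A B k)
    = (Fintype.card X : ℝ) * (a : ℝ) ^ ((k + 1) / 2) * (b : ℝ) ^ (k / 2)
  norm' : ∀ k, k ≤ m → fro (alt B A k) (alt B A k)
    = (Fintype.card X : ℝ) * (b : ℝ) ^ ((k + 1) / 2) * (a : ℝ) ^ (k / 2)

namespace FHData

variable (D : FHData X)

/-- the data with the roles of `A` and `B` exchanged -/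
def swap : FHData X where
  a := D.b
  b := D.a
  m := D.m
  A := D.B
  B := D.A
  ha := D.hb
  hb := D.ha
  hm := D.hm
  hX := D.hX
  A_symm := D.B_symm
  B_symm := D.A_symm
  A_sq := D.B_sq
  B_sq := D.A_sq
  braid := D.braid.symm
  orth_same := D.orth_same'
  orth_same' := D.orth_same
  orth_cross := fun k l hk hl h0 hm => by
    rw [fro_comm]
    exact D.orth_cross l k hl hk (fun h => h0 ⟨h.2, h.1⟩) (fun h => hm ⟨h.2, h.1⟩)
  norm := D.norm'
  norm' := D.norm

/-- the central element -/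
def T : Matrix X X ℝ := Tm D.A D.B (D.a : ℝ) (D.b : ℝ)

theorem T_swap : D.swap.T = D.T := Tm_swap D.A D.B _ _

theorem T_symm : D.Tᵀ = D.T := by
  unfold T Tm
  simp only [transpose_add, transpose_sub, transpose_mul, transpose_smul, transpose_one, D.A_symm,
    D.B_symm]
  abel

theorem T_comm_A : D.A * D.T = D.T * D.A := Tm_comm_A D.A_sq D.B_sq
theorem T_comm_B : D.B * D.T = D.T * D.B := Tm_comm_B D.A_sq D.B_sq

/-- the number of points -/
def N (_D : FHData X) : ℝ := (Fintype.card X : ℝ)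

theorem N_pos : 0 < D.N := by
  unfold N
  haveI := D.hX
  exact_mod_cast Fintype.card_pos

theorem a_pos : (0 : ℝ) < D.a := by
  have := D.ha
  exact_mod_cast (by omega : 0 < D.a)

theorem b_pos : (0 : ℝ) < D.b := by
  have := D.hb
  exact_mod_cast (by omega : 0 < D.b)

theorem norm_pos (k : ℕ) (hk : k ≤ D.m) : 0 < fro (alt D.A D.B k) (alt D.A D.B k) := by
  rw [D.norm k hk]
  have := D.N_pos
  unfold N at this
  have h1 := D.a_pos
  have h2 := D.b_pos
  positivity

theorem norm'_pos (k : ℕ) (hk : k ≤ D.m) : 0 < fro (alt D.B D.A k) (alt D.B D.A k) :=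
  D.swap.norm_pos k hk

end FHData

end Cfsg.Agent.Lib.Helper7.FH
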