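import Mathlib
import Cfsg.Agent.Lib.Helper7.FHData

/-!
# Feit–Higman, part II.5: the length filtration, independence of `1, T, …, T^h`, Parseval

(helper7)
-/

set_option autoImplicit false
set_option linter.unusedSimpArgs false

namespace Cfsg.Agent.Lib.Helper7.FH

open Matrix Polynomial

variable {X : Type*} [Fintype X] [DecidableEq X]

/-- span of the alternating products of length at most `n` -/
def Hn (A B : Matrix X X ℝ) (n : ℕ) : Submodule ℝ (Matrix X X ℝ) :=
  Submodule.span ℝ ({Y | ∃ k, k ≤ n ∧ Y = alt A B k} ∪ {Y | ∃ k, k ≤ n ∧ Y = alt B A k})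

section general
variable (A B : Matrix X X ℝ)

theorem Hn_swap (n : ℕ) : Hn B A n = Hn A B n := by
  unfold Hn
  rw [Set.union_comm]

theorem alt_mem_Hn {k n : ℕ} (h : k ≤ n) : alt A B k ∈ Hn A B n :=
  Submodule.subset_span (Or.inl ⟨k, h, rfl⟩)

theorem alt'_mem_Hn {k n : ℕ} (h : k ≤ n) : alt B A k ∈ Hn A B n :=
  Submodule.subset_span (Or.inr ⟨k, h, rfl⟩)

theorem Hn_mono {n n' : ℕ} (h : n ≤ n') : Hn A B n ≤ Hn A B n' := by
  unfold Hn
  apply Submodule.span_mono
  rintro Y (⟨k, hk, rfl⟩ | ⟨k, hk, rfl⟩)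
  · exact Or.inl ⟨k, hk.trans h, rfl⟩
  · exact Or.inr ⟨k, hk.trans h, rfl⟩

theorem one_mem_Hn (n : ℕ) : (1 : Matrix X X ℝ) ∈ Hn A B n := by
  have := alt_mem_Hn A B (Nat.zero_le n)
  simpa using this

variable {A B} {a b : ℝ}

theorem mulA_alt (hA : A * A = a • (1 : Matrix X X ℝ) + (a - 1) • A) {k : ℕ} (hk : 1 ≤ k) :
    A * alt A B k ∈ Hn A B k := by
  obtain ⟨j, rfl⟩ : ∃ j, k = j + 1 := ⟨k - 1, by omega⟩
  rw [alt_succ, quad_mul hA]
  refine Submodule.add_mem _ (Submodule.smul_mem _ _ (alt'_mem_Hn A B (by omega))) ?_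
  refine Submodule.smul_mem _ _ ?_
  rw [← alt_succ]
  exact alt_mem_Hn A B le_rfl

theorem mulA_mem (hA : A * A = a • (1 : Matrix X X ℝ) + (a - 1) • A) {n : ℕ} {Y : Matrix X X ℝ}
    (hY : Y ∈ Hn A B n) : A * Y ∈ Hn A B (n + 1) := by
  unfold Hn at hY
  induction hY using Submodule.span_induction with
  | mem Y hY =>
    rcases hY with ⟨k, hk, rfl⟩ | ⟨k, hk, rfl⟩
    · rcases Nat.eq_zero_or_pos k with rfl | hk0
      · rw [alt_zero, mul_one]
        have h1 : alt A B 1 ∈ Hn A B (n + 1) := alt_mem_Hn A B (by omega)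
        rwa [alt_one] at h1
      · exact Hn_mono A B (by omega) (mulA_alt hA hk0)
    · rw [← alt_succ]
      exact alt_mem_Hn A B (by omega)
  | zero => rw [mul_zero]; exact Submodule.zero_mem _
  | add Y Z _ _ hY hZ => rw [mul_add]; exact Submodule.add_mem _ hY hZ
  | smul c Y _ hY => rw [mul_smul_comm]; exact Submodule.smul_mem _ _ hY

theorem mulB_mem (hB : B * B = b • (1 : Matrix X X ℝ) + (b - 1) • B) {n : ℕ} {Y : Matrix X X ℝ}
    (hY : Y ∈ Hn A B n) : B * Y ∈ Hn A B (n + 1) := by
  rw [← Hn_swap] at hY ⊢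
  exact mulA_mem hB hY

theorem Tm_mul (A B : Matrix X X ℝ) (a b : ℝ) (Y : Matrix X X ℝ) :
    Tm A B a b * Y = A * (B * Y) + B * (A * Y) - (a - 1) • (B * Y) - (b - 1) • (A * Y)
      + ((a - 1) * (b - 1)) • Y := by
  unfold Tm
  rw [add_mul, sub_mul, sub_mul, add_mul, smul_mul_assoc, smul_mul_assoc, smul_mul_assoc, one_mul,
    mul_assoc, mul_assoc]

theorem Tm_mul_mem (hA : A * A = a • (1 : Matrix X X ℝ) + (a - 1) • A)
    (hB : B * B = b • (1 : Matrix X X ℝ) + (b - 1) • B) {n : ℕ} {Y : Matrix X X ℝ}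
    (hY : Y ∈ Hn A B n) : Tm A B a b * Y ∈ Hn A B (n + 2) := by
  rw [Tm_mul]
  have h1 : A * (B * Y) ∈ Hn A B (n + 2) := mulA_mem hA (mulB_mem hB hY)
  have h2 : B * (A * Y) ∈ Hn A B (n + 2) := mulB_mem hB (mulA_mem hA hY)
  have h3 : B * Y ∈ Hn A B (n + 2) := Hn_mono A B (by omega) (mulB_mem hB hY)
  have h4 : A * Y ∈ Hn A B (n + 2) := Hn_mono A B (by omega) (mulA_mem hA hY)
  have h5 : Y ∈ Hn A B (n + 2) := Hn_mono A B (by omega) hY
  exact Submodule.add_mem _ (Submodule.sub_mem _ (Submodule.sub_mem _ (Submodule.add_mem _ h1 h2)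
    (Submodule.smul_mem _ _ h3)) (Submodule.smul_mem _ _ h4)) (Submodule.smul_mem _ _ h5)

theorem Tm_mul_alt (hA : A * A = a • (1 : Matrix X X ℝ) + (a - 1) • A)
    (hB : B * B = b • (1 : Matrix X X ℝ) + (b - 1) • B) {k : ℕ} (hk : 1 ≤ k) :
    Tm A B a b * alt A B (2 * k) - alt A B (2 * k + 2) ∈ Hn A B (2 * k + 1) := by
  rw [Tm_mul, alt_add_two, mul_assoc]
  have hAY : A * alt A B (2 * k) ∈ Hn A B (2 * k) := mulA_alt hA (by omega)
  have h2 : B * (A * alt A B (2 * k)) ∈ Hn A B (2 * k + 1) := mulB_mem hB hAY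
  have h3 : B * alt A B (2 * k) ∈ Hn A B (2 * k + 1) := mulB_mem hB (alt_mem_Hn A B le_rfl)
  have h4 : A * alt A B (2 * k) ∈ Hn A B (2 * k + 1) := Hn_mono A B (by omega) hAY
  have h5 : alt A B (2 * k) ∈ Hn A B (2 * k + 1) := alt_mem_Hn A B (by omega)
  have e : A * (B * alt A B (2 * k)) + B * (A * alt A B (2 * k)) - (a - 1) • (B * alt A B (2 * k))
      - (b - 1) • (A * alt A B (2 * k)) + ((a - 1) * (b - 1)) • alt A B (2 * k)
      - A * (B * alt A B (2 * k))
      = B * (A * alt A B (2 * k)) - (a - 1) • (B * alt A B (2 * k))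
      - (b - 1) • (A * alt A B (2 * k)) + ((a - 1) * (b - 1)) • alt A B (2 * k) := by abel
  rw [e]
  exact Submodule.add_mem _ (Submodule.sub_mem _ (Submodule.sub_mem _ h2
    (Submodule.smul_mem _ _ h3)) (Submodule.smul_mem _ _ h4)) (Submodule.smul_mem _ _ h5)

theorem Tm_pow_succ (hA : A * A = a • (1 : Matrix X X ℝ) + (a - 1) • A)
    (hB : B * B = b • (1 : Matrix X X ℝ) + (b - 1) • B) (j : ℕ) :
    Tm A B a b ^ (j + 1) - alt A B (2 * j + 2) - alt B A (2 * j + 2) ∈ Hn A B (2 * j + 1) := by
  induction j with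
  | zero =>
    rw [zero_add, pow_one, mul_zero, zero_add, alt_add_two, alt_add_two, alt_zero, alt_zero, mul_one,
      mul_one]
    unfold Tm
    have h3 : B ∈ Hn A B 1 := by
      have := alt'_mem_Hn A B (le_refl 1); simpa using this
    have h4 : A ∈ Hn A B 1 := by
      have := alt_mem_Hn A B (le_refl 1); simpa using this
    have h5 : (1 : Matrix X X ℝ) ∈ Hn A B 1 := one_mem_Hn A B 1
    have e : A * B + B * A - (a - 1) • B - (b - 1) • A + ((a - 1) * (b - 1)) • (1 : Matrix X X ℝ)
        - A * B - B * A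
        = ((a - 1) * (b - 1)) • (1 : Matrix X X ℝ) - (a - 1) • B - (b - 1) • A := by abel
    rw [e]
    exact Submodule.sub_mem _ (Submodule.sub_mem _ (Submodule.smul_mem _ _ h5)
      (Submodule.smul_mem _ _ h3)) (Submodule.smul_mem _ _ h4)
  | succ j ih =>
    have h1 := Tm_mul_mem hA hB ih
    have h2 := Tm_mul_alt (A := A) (B := B) hA hB (k := j + 1) (by omega)
    have h3 := Tm_mul_alt (A := B) (B := A) hB hA (k := j + 1) (by omega)
    rw [Tm_swap, Hn_swap] at h3
    have e : Tm A B a b ^ (j + 1 + 1) - alt A B (2 * (j + 1) + 2) - alt B A (2 * (j + 1) + 2)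
        = Tm A B a b * (Tm A B a b ^ (j + 1) - alt A B (2 * j + 2) - alt B A (2 * j + 2))
          + (Tm A B a b * alt A B (2 * (j + 1)) - alt A B (2 * (j + 1) + 2))
          + (Tm A B a b * alt B A (2 * (j + 1)) - alt B A (2 * (j + 1) + 2)) := by
      rw [pow_succ' _ (j + 1), mul_sub, mul_sub]
      have : 2 * (j + 1) = 2 * j + 2 := by ring
      rw [this]
      abel
    rw [e]
    have e2 : 2 * j + 1 + 2 = 2 * (j + 1) + 1 := by ring
    rw [e2] at h1
    exact Submodule.add_mem _ (Submodule.add_mem _ h1 h2) h3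

theorem Tm_pow_mem (hA : A * A = a • (1 : Matrix X X ℝ) + (a - 1) • A)
    (hB : B * B = b • (1 : Matrix X X ℝ) + (b - 1) • B) (k : ℕ) :
    Tm A B a b ^ k ∈ Hn A B (2 * k) := by
  rcases k with _ | j
  · rw [pow_zero]; exact one_mem_Hn A B _
  · have h := Tm_pow_succ hA hB j
    have h1 : alt A B (2 * j + 2) ∈ Hn A B (2 * (j + 1)) := alt_mem_Hn A B (by omega)
    have h2 : alt B A (2 * j + 2) ∈ Hn A B (2 * (j + 1)) := alt'_mem_Hn A B (by omega)
    have h3 := Hn_mono A B (show 2 * j + 1 ≤ 2 * (j + 1) by omega) h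
    have e : Tm A B a b ^ (j + 1) = (Tm A B a b ^ (j + 1) - alt A B (2 * j + 2) - alt B A (2 * j + 2))
        + alt A B (2 * j + 2) + alt B A (2 * j + 2) := by abel
    rw [e]
    exact Submodule.add_mem _ (Submodule.add_mem _ h3 h1) h2

end general

namespace FHData

variable (D : FHData X)

/-- the span of all `2m` alternating products -/
def H : Submodule ℝ (Matrix X X ℝ) := Hn D.A D.B D.m

theorem H_swap : D.swap.H = D.H := Hn_swap D.A D.B D.m

theorem mulA_H {Y : Matrix X X ℝ} (hY : Y ∈ D.H) : D.A * Y ∈ D.H := by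
  have hm := D.hm
  unfold H Hn at hY
  induction hY using Submodule.span_induction with
  | mem Y hY =>
    rcases hY with ⟨k, hk, rfl⟩ | ⟨k, hk, rfl⟩
    · rcases Nat.eq_zero_or_pos k with rfl | hk0
      · rw [alt_zero, mul_one]
        have h1 : alt D.A D.B 1 ∈ Hn D.A D.B D.m := alt_mem_Hn _ _ (by omega)
        rwa [alt_one] at h1
      · exact Hn_mono _ _ hk (mulA_alt D.A_sq hk0)
    · rcases Nat.lt_or_ge k D.m with h | h
      · rw [← alt_succ]
        exact alt_mem_Hn _ _ (by omega)
      · have hk' : k = D.m := by omega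
        subst hk'
        rw [← D.braid]
        exact mulA_alt D.A_sq (by omega)
  | zero => rw [mul_zero]; exact Submodule.zero_mem _
  | add Y Z _ _ hY hZ => rw [mul_add]; exact Submodule.add_mem _ hY hZ
  | smul c Y _ hY => rw [mul_smul_comm]; exact Submodule.smul_mem _ _ hY

theorem mulB_H {Y : Matrix X X ℝ} (hY : Y ∈ D.H) : D.B * Y ∈ D.H := by
  rw [← D.H_swap] at hY ⊢
  exact D.swap.mulA_H hY

theorem Hn_le_H (n : ℕ) : Hn D.A D.B n ≤ D.H := by
  induction n with
  | zero => exact Hn_mono _ _ (Nat.zero_le _)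
  | succ n ih =>
    unfold Hn
    rw [Submodule.span_le]
    rintro Y (⟨k, hk, rfl⟩ | ⟨k, hk, rfl⟩)
    · rcases Nat.lt_or_ge k (n + 1) with h | h
      · exact ih (alt_mem_Hn _ _ (by omega))
      · have hk' : k = n + 1 := by omega
        subst hk'
        rw [alt_succ]
        exact D.mulA_H (ih (alt'_mem_Hn _ _ le_rfl))
    · rcases Nat.lt_or_ge k (n + 1) with h | h
      · exact ih (alt'_mem_Hn _ _ (by omega))
      · have hk' : k = n + 1 := by omega
        subst hk'
        rw [alt_succ]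
        exact D.mulB_H (ih (alt_mem_Hn _ _ le_rfl))

theorem T_pow_mem_H (k : ℕ) : D.T ^ k ∈ D.H :=
  D.Hn_le_H _ (Tm_pow_mem D.A_sq D.B_sq k)

theorem aeval_T_mem_H (f : ℝ[X]) : aeval D.T f ∈ D.H := by
  rw [aeval_eq_sum_range]
  exact Submodule.sum_mem _ fun i _ => Submodule.smul_mem _ _ (D.T_pow_mem_H i)

/-- elements of filtration degree `< l` are orthogonal to the alternating product of length `l` -/
theorem fro_eq_zero_of_mem {n l : ℕ} (hnl : n < l) (hl : l ≤ D.m) {Y : Matrix X X ℝ}
    (hY : Y ∈ Hn D.A D.B n) : fro Y (alt D.A D.B l) = 0 := by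
  unfold Hn at hY
  induction hY using Submodule.span_induction with
  | mem Y hY =>
    rcases hY with ⟨k, hk, rfl⟩ | ⟨k, hk, rfl⟩
    · exact D.orth_same k l (by omega) hl (by omega)
    · rw [fro_comm]
      exact D.orth_cross l k hl (by omega) (by omega) (by omega)
  | zero => exact fro_zero_left _
  | add Y Z _ _ hY hZ => rw [fro_add_left, hY, hZ, add_zero]
  | smul c Y _ hY => rw [fro_smul_left, hY, mul_zero]

/-- **Independence of `1, T, …, T^h`**: no nonzero polynomial of degree `≤ m/2` kills `T`. -/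
theorem aeval_T_ne_zero {f : ℝ[X]} (hf : f ≠ 0) (hdeg : 2 * f.natDegree ≤ D.m) :
    aeval D.T f ≠ 0 := by
  intro h0
  set k := f.natDegree with hk
  have hlead : f.coeff k ≠ 0 := by
    rw [hk]
    exact leadingCoeff_ne_zero.mpr hf
  have hfro : fro (aeval D.T f) (alt D.A D.B (2 * k)) = 0 := by rw [h0, fro_zero_left]
  rw [aeval_eq_sum_range, fro_sum_left, Finset.sum_range_succ, ← hk] at hfro
  have hlow : ∀ j ∈ Finset.range k, fro (f.coeff j • D.T ^ j) (alt D.A D.B (2 * k)) = 0 := by
    intro j hj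
    rw [Finset.mem_range] at hj
    have hTj : D.T ^ j ∈ Hn D.A D.B (2 * j) := Tm_pow_mem D.A_sq D.B_sq j
    rw [fro_smul_left, D.fro_eq_zero_of_mem (n := 2 * j) (by omega) hdeg hTj, mul_zero]
  rw [Finset.sum_eq_zero hlow, zero_add, fro_smul_left] at hfro
  have htop : fro (D.T ^ k) (alt D.A D.B (2 * k)) ≠ 0 := by
    rcases Nat.eq_zero_or_pos k with hk0 | hk0
    · rw [hk0, pow_zero, mul_zero, alt_zero]
      have := D.norm_pos 0 (Nat.zero_le _)
      rw [alt_zero] at this
      exact this.ne'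
    · obtain ⟨j, hj⟩ : ∃ j, k = j + 1 := ⟨k - 1, by omega⟩
      have h1 := Tm_pow_succ D.A_sq D.B_sq j
      have h2 := D.fro_eq_zero_of_mem (n := 2 * j + 1) (l := 2 * k) (by omega) hdeg h1
      have e : 2 * j + 2 = 2 * k := by omega
      rw [e, ← hj] at h2
      rw [fro_sub_left, fro_sub_left] at h2
      have hT : fro (D.T ^ k) (alt D.A D.B (2 * k))
          = fro (alt D.A D.B (2 * k)) (alt D.A D.B (2 * k))
            + fro (alt D.B D.A (2 * k)) (alt D.A D.B (2 * k)) := by
        have : D.T = Tm D.A D.B (D.a : ℝ) (D.b : ℝ) := rfl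
        rw [this]
        linarith
      rw [hT]
      have hp := D.norm_pos (2 * k) hdeg
      rcases Nat.lt_or_ge (2 * k) D.m with hlt | hge
      · rw [fro_comm (alt D.B D.A (2 * k)), D.orth_cross (2 * k) (2 * k) hdeg hdeg (by omega)
          (by omega), add_zero]
        exact hp.ne'
      · have hkm : 2 * k = D.m := by omega
        rw [hkm] at hp ⊢
        rw [← D.braid]
        linarith
  exact (mul_ne_zero hlead htop) hfro

/-- **Parseval** in the orthogonal basis of alternating products -/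
theorem parseval {Y : Matrix X X ℝ} (hY : Y ∈ D.H) :
    fro Y Y = ∑ k ∈ Finset.range (D.m + 1),
        (fro Y (alt D.A D.B k)) ^ 2 / fro (alt D.A D.B k) (alt D.A D.B k)
      + ∑ k ∈ Finset.Ico 1 D.m,
        (fro Y (alt D.B D.A k)) ^ 2 / fro (alt D.B D.A k) (alt D.B D.A k) := by
  have hm := D.hm
  -- the orthogonal projection
  set proj : Matrix X X ℝ → Matrix X X ℝ := fun Y =>
    ∑ k ∈ Finset.range (D.m + 1),
        (fro Y (alt D.A D.B k) / fro (alt D.A D.B k) (alt D.A D.B k)) • alt D.A D.B k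
      + ∑ k ∈ Finset.Ico 1 D.m,
        (fro Y (alt D.B D.A k) / fro (alt D.B D.A k) (alt D.B D.A k)) • alt D.B D.A k with hproj
  have hfix : ∀ Y ∈ D.H, proj Y = Y := by
    intro Y hY
    unfold H Hn at hY
    induction hY using Submodule.span_induction with
    | mem Y hY =>
      have key : ∀ j, j ≤ D.m → proj (alt D.A D.B j) = alt D.A D.B j := by
        intro j hj
        rw [hproj]
        simp only
        have h1 : ∑ k ∈ Finset.range (D.m + 1),
            (fro (alt D.A D.B j) (alt D.A D.B k) / fro (alt D.A D.B k) (alt D.A D.B k))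
              • alt D.A D.B k = alt D.A D.B j := by
          rw [Finset.sum_eq_single j]
          · rw [div_self (D.norm_pos j hj).ne', one_smul]
          · intro k hk hkj
            rw [Finset.mem_range] at hk
            rw [D.orth_same j k hj (by omega) (Ne.symm hkj), zero_div, zero_smul]
          · intro hj'
            exact absurd (Finset.mem_range.mpr (by omega)) hj'
        have h2 : ∑ k ∈ Finset.Ico 1 D.m,
            (fro (alt D.A D.B j) (alt D.B D.A k) / fro (alt D.B D.A k) (alt D.B D.A k))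
              • alt D.B D.A k = 0 := by
          apply Finset.sum_eq_zero
          intro k hk
          rw [Finset.mem_Ico] at hk
          rw [D.orth_cross j k hj (by omega) (by omega) (by omega), zero_div, zero_smul]
        rw [h1, h2, add_zero]
      have key' : ∀ j, 1 ≤ j → j < D.m → proj (alt D.B D.A j) = alt D.B D.A j := by
        intro j hj1 hj
        rw [hproj]
        simp only
        have h1 : ∑ k ∈ Finset.range (D.m + 1),
            (fro (alt D.B D.A j) (alt D.A D.B k) / fro (alt D.A D.B k) (alt D.A D.B k))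
              • alt D.A D.B k = 0 := by
          apply Finset.sum_eq_zero
          intro k hk
          rw [Finset.mem_range] at hk
          rw [fro_comm, D.orth_cross k j (by omega) (by omega) (by omega) (by omega), zero_div,
            zero_smul]
        have h2 : ∑ k ∈ Finset.Ico 1 D.m,
            (fro (alt D.B D.A j) (alt D.B D.A k) / fro (alt D.B D.A k) (alt D.B D.A k))
              • alt D.B D.A k = alt D.B D.A j := by
          rw [Finset.sum_eq_single j]
          · rw [div_self (D.norm'_pos j (by omega)).ne', one_smul]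
          · intro k hk hkj
            rw [Finset.mem_Ico] at hk
            rw [D.orth_same' j k (by omega) (by omega) (Ne.symm hkj), zero_div, zero_smul]
          · intro hj'
            exact absurd (Finset.mem_Ico.mpr ⟨hj1, hj⟩) hj'
        rw [h1, h2, zero_add]
      rcases hY with ⟨k, hk, rfl⟩ | ⟨k, hk, rfl⟩
      · exact key k hk
      · rcases Nat.eq_zero_or_pos k with rfl | hk0
        · have := key 0 (Nat.zero_le _)
          simpa using this
        · rcases Nat.lt_or_ge k D.m with hlt | hge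
          · exact key' k hk0 hlt
          · have hkm : k = D.m := by omega
            rw [hkm, ← D.braid]
            exact key D.m le_rfl
    | zero =>
      rw [hproj]
      simp only [fro_zero_left, zero_div, zero_smul, Finset.sum_const_zero, add_zero]
    | add Y Z _ _ hY hZ =>
      have : proj (Y + Z) = proj Y + proj Z := by
        rw [hproj]
        simp only [fro_add_left, add_div, add_smul, Finset.sum_add_distrib]
        abel
      rw [this, hY, hZ]
    | smul c Y _ hY =>
      have : proj (c • Y) = c • proj Y := by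
        rw [hproj]
        simp only [fro_smul_left, mul_div_assoc, smul_add, Finset.smul_sum, smul_smul]
      rw [this, hY]
  have h := hfix Y hY
  have h2 : fro Y Y = fro Y (proj Y) := by rw [h]
  rw [h2, hproj]
  simp only [fro_add_right, fro_sum_right, fro_smul_right]
  congr 1
  · apply Finset.sum_congr rfl
    intro k _
    ring
  · apply Finset.sum_congr rfl
    intro k _
    ring

end FHData

end Cfsg.Agent.Lib.Helper7.FH
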