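import Mathlib

/-!
# Feit–Higman, part II.3: spectral idempotents of a real symmetric matrix

If `p(T) = 0`, `p(θ) = 0` and no nonzero polynomial of smaller degree kills `T`, there is a polynomial
`g` with `g(T)` a nonzero idempotent and `T g(T) = θ g(T)`.  The trace of a nonzero idempotent matrix is
a positive natural number.  (helper7)
-/

set_option autoImplicit false

namespace Cfsg.Agent.Lib.Helper7.FH

open Polynomial Matrix

variable {ι : Type*} [Fintype ι] [DecidableEq ι]

theorem transpose_aeval (T : Matrix ι ι ℝ) (hT : Tᵀ = T) (f : ℝ[X]) : (aeval T f)ᵀ = aeval T f := by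
  induction f using Polynomial.induction_on' with
  | add p q hp hq => rw [map_add, transpose_add, hp, hq]
  | monomial n c =>
    rw [aeval_monomial, Algebra.algebraMap_eq_smul_one, smul_mul_assoc, one_mul, transpose_smul,
      transpose_pow, hT]

omit [DecidableEq ι] in
theorem eq_zero_of_transpose_mul_self (Y : Matrix ι ι ℝ) (h : Yᵀ * Y = 0) : Y = 0 := by
  have : Yᴴ * Y = 0 := by rwa [conjTranspose_eq_transpose_of_trivial]
  exact conjTranspose_mul_self_eq_zero.mp this

/-- a symmetric nilpotent-on-`G` factor can be reduced to exponent one -/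
theorem symm_pow_mul_eq_zero (N G : Matrix ι ι ℝ) (hN : Nᵀ = N) (hG : Gᵀ = G) :
    ∀ e : ℕ, N ^ (e + 1) * G = 0 → N * G = 0 := by
  intro e
  induction e with
  | zero => intro h; simpa using h
  | succ e ih =>
    intro h
    apply ih
    -- Y = N^(e+1) G; Yᵀ Y = G N^(e+1) N^(e+1) G = N^e G * N^(e+2) G
    have hY : (N ^ (e + 1) * G)ᵀ * (N ^ (e + 1) * G) = 0 := by
      rw [transpose_mul, transpose_pow, hN, hG]
      have h1 : G * N ^ (e + 1) * (N ^ (e + 1) * G) = G * N ^ e * (N ^ (e + 1 + 1) * G) := by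
        have h2 : N ^ (e + 1) * N ^ (e + 1) = N ^ e * N ^ (e + 1 + 1) := by
          rw [← pow_add, ← pow_add]
          congr 1
          omega
        calc G * N ^ (e + 1) * (N ^ (e + 1) * G) = G * (N ^ (e + 1) * N ^ (e + 1)) * G := by
              simp only [mul_assoc]
          _ = G * (N ^ e * N ^ (e + 1 + 1)) * G := by rw [h2]
          _ = G * N ^ e * (N ^ (e + 1 + 1) * G) := by simp only [mul_assoc]
      rw [h1, h, mul_zero]
    exact eq_zero_of_transpose_mul_self _ hY

theorem exists_idem (T : Matrix ι ι ℝ) (hT : Tᵀ = T) (p : ℝ[X]) (hp0 : p ≠ 0)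
    (hpT : aeval T p = 0) (θ : ℝ) (hθ : p.IsRoot θ)
    (hmin : ∀ f : ℝ[X], f ≠ 0 → f.natDegree < p.natDegree → aeval T f ≠ 0) :
    ∃ g : ℝ[X], aeval T g * aeval T g = aeval T g ∧ T * aeval T g = θ • aeval T g ∧
      aeval T g ≠ 0 := by
  obtain ⟨g0, hpg, hnd⟩ := exists_eq_pow_rootMultiplicity_mul_and_not_dvd p hp0 θ
  have he : 0 < rootMultiplicity θ p := (rootMultiplicity_pos hp0).mpr hθ
  obtain ⟨e, he'⟩ : ∃ e, rootMultiplicity θ p = e + 1 := ⟨rootMultiplicity θ p - 1, by omega⟩
  rw [he'] at hpg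
  have hg0 : g0 ≠ 0 := by
    rintro rfl
    exact hnd (dvd_zero _)
  have hg0θ : g0.eval θ ≠ 0 := by
    intro h
    exact hnd (dvd_iff_isRoot.mpr h)
  -- degree
  have hdeg : g0.natDegree < p.natDegree := by
    have hX : (X - C θ) ^ (e + 1) ≠ 0 := pow_ne_zero _ (X_sub_C_ne_zero θ)
    rw [hpg, natDegree_mul hX hg0, natDegree_pow, natDegree_X_sub_C]
    omega
  have hG0 : aeval T g0 ≠ 0 := hmin g0 hg0 hdeg
  set G := aeval T g0 with hGdef
  set N : Matrix ι ι ℝ := T - θ • 1 with hNdef
  have hNaeval : aeval T (X - C θ) = N := by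
    simp [hNdef, Algebra.algebraMap_eq_smul_one]
  have hNsymm : Nᵀ = N := by
    rw [hNdef, transpose_sub, transpose_smul, transpose_one, hT]
  have hGsymm : Gᵀ = G := transpose_aeval T hT g0
  have hNG : Commute N G := by
    rw [← hNaeval, hGdef]
    exact (Commute.all (X - C θ) g0).map (aeval T)
  have hpow : N ^ (e + 1) * G = 0 := by
    have := hpT
    rw [hpg, map_mul, map_pow, hNaeval] at this
    exact this
  have hNG0 : N * G = 0 := symm_pow_mul_eq_zero N G hNsymm hGsymm e hpow
  have hTG : T * G = θ • G := by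
    have : (T - θ • 1) * G = 0 := hNG0
    rw [sub_mul, smul_mul_assoc, one_mul, sub_eq_zero] at this
    exact this
  -- G * G = g0(θ) • G
  have hGG : G * G = g0.eval θ • G := by
    have hroot : (g0 - C (g0.eval θ)).IsRoot θ := by simp [IsRoot]
    obtain ⟨r, hr⟩ := dvd_iff_isRoot.mpr hroot
    have h1 : aeval T (g0 - C (g0.eval θ)) * G = 0 := by
      rw [hr, map_mul, hNaeval]
      have : aeval T r * G = G * aeval T r := by
        rw [hGdef]
        exact ((Commute.all r g0).map (aeval T)).eq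
      rw [mul_assoc, this, ← mul_assoc, hNG0, zero_mul]
    rw [map_sub, sub_mul, sub_eq_zero, aeval_C, Algebra.algebraMap_eq_smul_one, smul_mul_assoc,
      one_mul] at h1
    exact h1
  refine ⟨C (g0.eval θ)⁻¹ * g0, ?_, ?_, ?_⟩
  · rw [map_mul, aeval_C, Algebra.algebraMap_eq_smul_one, smul_mul_assoc, one_mul, smul_mul_assoc,
      mul_smul_comm, hGG, smul_smul, smul_smul]
    congr 1
    field_simp
  · rw [map_mul, aeval_C, Algebra.algebraMap_eq_smul_one, smul_mul_assoc, one_mul, mul_smul_comm,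
      hTG, smul_comm]
  · rw [map_mul, aeval_C, Algebra.algebraMap_eq_smul_one, smul_mul_assoc, one_mul]
    exact smul_ne_zero (inv_ne_zero hg0θ) hG0

/-- the trace of a nonzero idempotent real matrix is a positive natural number -/
theorem trace_idem_nat (π : Matrix ι ι ℝ) (h : π * π = π) (h0 : π ≠ 0) :
    ∃ d : ℕ, 0 < d ∧ π.trace = d := by
  have hidem : IsIdempotentElem (Matrix.toLin' π) := by
    show Matrix.toLin' π * Matrix.toLin' π = Matrix.toLin' π
    rw [Module.End.mul_eq_comp, ← Matrix.toLin'_mul, h]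
  have htr := (LinearMap.IsIdempotentElem.isProj_range _ hidem).trace
  rw [Matrix.trace_toLin'_eq] at htr
  refine ⟨_, ?_, htr⟩
  rw [Nat.pos_iff_ne_zero]
  intro hz
  have hbot : LinearMap.range (Matrix.toLin' π) = ⊥ := Submodule.finrank_eq_zero.mp hz
  have h00 : Matrix.toLin' π = 0 := LinearMap.range_eq_bot.mp hbot
  apply h0
  exact Matrix.toLin'.injective (by rw [h00, map_zero])

end Cfsg.Agent.Lib.Helper7.FH
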