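import Mathlib
import Cfsg.Agent.Lib.Helper7.FHFilt
import Cfsg.Agent.Lib.Helper7.FHProj
import Cfsg.Agent.Lib.Helper7.FHCheb

/-!
# Feit–Higman, part II.6: the trace functional attached to a spectral idempotent

(helper7)
-/

set_option autoImplicit false
set_option linter.unusedSimpArgs false

namespace Cfsg.Agent.Lib.Helper7.FH

open Matrix Polynomial

variable {X : Type*} [Fintype X] [DecidableEq X]

/-- solution of `x (k+2) = θ x (k+1) - Q x k` -/
def rec2 (θ Q x0 x1 : ℝ) : ℕ → ℝ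
  | 0 => x0
  | 1 => x1
  | (k + 2) => θ * rec2 θ Q x0 x1 (k + 1) - Q * rec2 θ Q x0 x1 k

@[simp] theorem rec2_zero (θ Q x0 x1 : ℝ) : rec2 θ Q x0 x1 0 = x0 := by rw [rec2]
@[simp] theorem rec2_one (θ Q x0 x1 : ℝ) : rec2 θ Q x0 x1 1 = x1 := by rw [rec2]
theorem rec2_add_two (θ Q x0 x1 : ℝ) (k : ℕ) :
    rec2 θ Q x0 x1 (k + 2) = θ * rec2 θ Q x0 x1 (k + 1) - Q * rec2 θ Q x0 x1 k := by rw [rec2]

theorem eq_rec2 (θ Q : ℝ) (x : ℕ → ℝ) (h : ∀ k, x (k + 2) = θ * x (k + 1) - Q * x k) :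
    ∀ k, x k = rec2 θ Q (x 0) (x 1) k := by
  intro k
  induction k using Nat.strong_induction_on with
  | _ k ih =>
    rcases k with _ | _ | k
    · simp
    · simp
    · rw [h, rec2_add_two, ih (k + 1) (by omega), ih k (by omega)]

/-- closed form: `x_k sin φ = s^k ((x1/s) sin(kφ) - x0 sin((k-1)φ))` -/
theorem rec2_closed (s φ x0 x1 : ℝ) (hs : s ≠ 0) (k : ℕ) :
    rec2 (2 * s * Real.cos φ) (s ^ 2) x0 x1 k * Real.sin φ
      = s ^ k * ((x1 / s) * Real.sin (k * φ) - x0 * Real.sin (k * φ - φ)) := by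
  induction k using Nat.strong_induction_on with
  | _ k ih =>
    rcases k with _ | _ | k
    · simp
    · simp
      field_simp
    · have h1 := ih (k + 1) (by omega)
      have h0 := ih k (by omega)
      rw [rec2_add_two]
      have e1 : ((k + 1 + 1 : ℕ) : ℝ) * φ = (k : ℝ) * φ + φ + φ := by push_cast; ring
      have e2 : ((k + 1 : ℕ) : ℝ) * φ = (k : ℝ) * φ + φ := by push_cast; ring
      rw [e1]
      rw [e2] at h1
      have e3 : (k : ℝ) * φ + φ + φ - φ = (k : ℝ) * φ + φ := by ring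
      have e4 : (k : ℝ) * φ + φ - φ = (k : ℝ) * φ := by ring
      rw [e3]
      rw [e4] at h1
      have hs2 : Real.sin ((k : ℝ) * φ + φ + φ)
          = 2 * Real.cos φ * Real.sin ((k : ℝ) * φ + φ) - Real.sin ((k : ℝ) * φ) := by
        have : Real.sin ((k : ℝ) * φ) = Real.sin (((k : ℝ) * φ + φ) - φ) := by ring_nf
        rw [this, Real.sin_sub, Real.sin_add ((k : ℝ) * φ + φ) φ]
        ring
      have hs1 : Real.sin ((k : ℝ) * φ - φ)
          = 2 * Real.cos φ * Real.sin ((k : ℝ) * φ) - Real.sin ((k : ℝ) * φ + φ) := by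
        rw [Real.sin_sub, Real.sin_add]
        ring
      rw [hs1] at h0
      rw [hs2]
      linear_combination (2 * s * Real.cos φ) * h1 - s ^ 2 * h0

/-- a spectral idempotent of `T` for the eigenvalue `θ` -/
structure Spec (D : FHData X) (θ : ℝ) where
  π : Matrix X X ℝ
  g : ℝ[X]
  hg : π = aeval D.T g
  idem : π * π = π
  eig : D.T * π = θ • π
  ne : π ≠ 0

namespace Spec

variable {D : FHData X} {θ : ℝ} (S : Spec D θ)

/-- the same idempotent for the swapped data -/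
def swap : Spec D.swap θ where
  π := S.π
  g := S.g
  hg := by rw [D.T_swap]; exact S.hg
  idem := S.idem
  eig := by rw [D.T_swap]; exact S.eig
  ne := S.ne

theorem symm : S.πᵀ = S.π := by
  rw [S.hg]
  exact transpose_aeval D.T D.T_symm S.g

theorem comm_A : D.A * S.π = S.π * D.A := by
  rw [S.hg]
  exact ((commute_aeval (show Commute D.T D.A from D.T_comm_A.symm) S.g).eq).symm

theorem comm_B : D.B * S.π = S.π * D.B := by
  rw [S.hg]
  exact ((commute_aeval (show Commute D.T D.B from D.T_comm_B.symm) S.g).eq).symm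

theorem comm_T : D.T * S.π = S.π * D.T := by
  rw [S.hg]
  exact (aeval_comm_self D.T S.g).symm

theorem mem_H : S.π ∈ D.H := by
  rw [S.hg]
  exact D.aeval_T_mem_H S.g

/-- the multiplicity (as a real number) -/
def d : ℝ := S.π.trace

theorem d_nat : ∃ n : ℕ, 0 < n ∧ S.d = n := trace_idem_nat S.π S.idem S.ne

theorem d_pos : 0 < S.d := by
  obtain ⟨n, hn, h⟩ := S.d_nat
  rw [h]
  exact_mod_cast hn

/-- the trace functional -/
def t (Y : Matrix X X ℝ) : ℝ := (Y * S.π).trace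

theorem t_add (Y Z : Matrix X X ℝ) : S.t (Y + Z) = S.t Y + S.t Z := by
  unfold t; rw [add_mul, trace_add]

theorem t_sub (Y Z : Matrix X X ℝ) : S.t (Y - Z) = S.t Y - S.t Z := by
  unfold t; rw [sub_mul, trace_sub]

theorem t_smul (c : ℝ) (Y : Matrix X X ℝ) : S.t (c • Y) = c * S.t Y := by
  unfold t; rw [smul_mul_assoc, trace_smul, smul_eq_mul]

theorem t_one : S.t 1 = S.d := by
  unfold t d; rw [one_mul]

theorem t_T_mul (Y : Matrix X X ℝ) : S.t (D.T * Y) = θ * S.t Y := by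
  unfold t
  rw [trace_mul_cycle, S.comm_T.symm, S.eig, smul_mul_assoc, trace_smul, smul_eq_mul,
    trace_mul_comm]

/-- `t` is a trace on elements commuting with `π` -/
theorem t_comm {Y : Matrix X X ℝ} (hY : Y * S.π = S.π * Y) (Z : Matrix X X ℝ) :
    S.t (Y * Z) = S.t (Z * Y) := by
  unfold t
  rw [mul_assoc, trace_mul_comm, mul_assoc, ← hY, mul_assoc]

theorem fro_eq_t (Y : Matrix X X ℝ) : fro S.π Y = S.t Y := by
  unfold fro t
  rw [← trace_transpose, transpose_mul, transpose_transpose, S.symm]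

theorem d_eq_fro : S.d = fro S.π S.π := by
  unfold d fro
  rw [S.symm, S.idem]

/-- the commutator `AB - BA` -/
def J (D : FHData X) : Matrix X X ℝ := D.A * D.B - D.B * D.A

theorem comm_J : J D * S.π = S.π * J D := by
  unfold J
  have h1 : D.A * D.B * S.π = S.π * (D.A * D.B) := by
    rw [mul_assoc, S.comm_B, ← mul_assoc, S.comm_A, mul_assoc]
  have h2 : D.B * D.A * S.π = S.π * (D.B * D.A) := by
    rw [mul_assoc, S.comm_A, ← mul_assoc, S.comm_B, mul_assoc]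
  rw [sub_mul, mul_sub, h1, h2]

theorem J_sq_pi : J D * J D * S.π
    = ((θ - ((D.a : ℝ) * D.b + 1)) * (θ + ((D.a : ℝ) + D.b))) • S.π := by
  have h := J_sq D.A_sq D.B_sq
  have hT : Tm D.A D.B (D.a : ℝ) (D.b : ℝ) = D.T := rfl
  rw [hT] at h
  unfold J
  rw [h, mul_assoc, add_mul, S.eig, smul_mul_assoc, one_mul, ← add_smul, mul_smul_comm, sub_mul,
    S.eig, smul_mul_assoc, one_mul, ← sub_smul, smul_smul]
  congr 1
  ring

variable (hκ : (θ - ((D.a : ℝ) * D.b + 1)) * (θ + ((D.a : ℝ) + D.b)) ≠ 0)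
include hκ

theorem t_A : S.t D.A = ((D.a : ℝ) - 1) * S.d / 2 := by
  set A0 : Matrix X X ℝ := (2 : ℝ) • D.A - ((D.a : ℝ) - 1) • (1 : Matrix X X ℝ) with hA0
  have hanti : A0 * J D = -(J D * A0) := anti_A D.A_sq
  have h1 : S.t (A0 * J D * J D) = 0 := by
    have e1 : S.t (A0 * J D * J D) = - S.t (J D * A0 * J D) := by
      rw [hanti, neg_mul]
      unfold Spec.t
      rw [neg_mul, trace_neg]
    have e2 : S.t (J D * A0 * J D) = S.t (A0 * J D * J D) := by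
      rw [mul_assoc, S.t_comm S.comm_J]
    linarith
  have h2 : S.t (A0 * J D * J D) = ((θ - ((D.a : ℝ) * D.b + 1)) * (θ + ((D.a : ℝ) + D.b))) * S.t A0 := by
    unfold Spec.t
    rw [mul_assoc, mul_assoc, ← mul_assoc (J D), S.J_sq_pi, mul_smul_comm, trace_smul, smul_eq_mul]
  have h3 : S.t A0 = 0 := by
    rw [h2] at h1
    exact (mul_eq_zero.mp h1).resolve_left hκ
  rw [hA0, S.t_sub, S.t_smul, S.t_smul, S.t_one] at h3
  linarith

omit hκ in
theorem hκ_swap (hκ : (θ - ((D.a : ℝ) * D.b + 1)) * (θ + ((D.a : ℝ) + D.b)) ≠ 0) :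
    (θ - ((D.swap.a : ℝ) * D.swap.b + 1)) * (θ + ((D.swap.a : ℝ) + D.swap.b)) ≠ 0 := by
  have e : (θ - ((D.swap.a : ℝ) * D.swap.b + 1)) * (θ + ((D.swap.a : ℝ) + D.swap.b))
      = (θ - ((D.a : ℝ) * D.b + 1)) * (θ + ((D.a : ℝ) + D.b)) := by
    show (θ - ((D.b : ℝ) * D.a + 1)) * (θ + ((D.b : ℝ) + D.a)) = _
    ring
  rw [e]; exact hκ

theorem t_B : S.t D.B = ((D.b : ℝ) - 1) * S.d / 2 :=
  S.swap.t_A (Spec.hκ_swap hκ)

omit hκ in
theorem t_T : S.t D.T = θ * S.d := by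
  have := S.t_T_mul 1
  rwa [mul_one, S.t_one] at this

theorem t_M : S.t (D.A * D.B) = θ * S.d / 2 := by
  have h1 : S.t (D.B * D.A) = S.t (D.A * D.B) := S.t_comm S.comm_B D.A
  have h2 := S.t_T
  have hT : D.T = D.A * D.B + D.B * D.A - ((D.a : ℝ) - 1) • D.B - ((D.b : ℝ) - 1) • D.A
      + (((D.a : ℝ) - 1) * ((D.b : ℝ) - 1)) • (1 : Matrix X X ℝ) := rfl
  rw [hT, S.t_add, S.t_sub, S.t_sub, S.t_add, S.t_smul, S.t_smul, S.t_smul, S.t_one, h1, S.t_A hκ,
    S.t_B hκ] at h2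
  linarith

omit hκ in
theorem M_pow_add_two (k : ℕ) : (D.A * D.B) ^ (k + 2)
    = D.T * (D.A * D.B) ^ (k + 1) - ((D.a : ℝ) * D.b) • (D.A * D.B) ^ k := by
  have hM : (D.A * D.B) * (D.A * D.B) = D.T * (D.A * D.B) - ((D.a : ℝ) * D.b) • (1 : Matrix X X ℝ) :=
    M_sq D.A_sq D.B_sq
  have hc : Commute D.T (D.A * D.B) := by
    have h1 : Commute D.T D.A := D.T_comm_A.symm
    have h2 : Commute D.T D.B := D.T_comm_B.symm
    exact h1.mul_right h2
  have hck : (D.A * D.B) ^ k * D.T = D.T * (D.A * D.B) ^ k := ((hc.pow_right k).eq).symm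
  rw [pow_add, pow_two, hM, mul_sub, ← mul_assoc, hck, mul_assoc, ← pow_succ, mul_smul_comm,
    mul_one]

omit hκ in
theorem t_rec (Y : Matrix X X ℝ) (k : ℕ) : S.t ((D.A * D.B) ^ (k + 2) * Y)
    = θ * S.t ((D.A * D.B) ^ (k + 1) * Y) - ((D.a : ℝ) * D.b) * S.t ((D.A * D.B) ^ k * Y) := by
  rw [Spec.M_pow_add_two, sub_mul, S.t_sub, mul_assoc, S.t_T_mul, smul_mul_assoc, S.t_smul]

theorem t_alt_even (k : ℕ) : S.t (alt D.A D.B (2 * k))
    = rec2 θ ((D.a : ℝ) * D.b) S.d (θ * S.d / 2) k := by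
  have h := eq_rec2 θ ((D.a : ℝ) * D.b) (fun k => S.t ((D.A * D.B) ^ k)) (fun k => by
    have := S.t_rec 1 k
    simpa using this)
  have := h k
  simp only [pow_zero, pow_one, S.t_one, S.t_M hκ] at this
  rw [alt_even]
  exact this

theorem t_ABA : S.t (D.A * D.B * D.A)
    = (D.a : ℝ) * ((D.b : ℝ) - 1) * S.d / 2 + ((D.a : ℝ) - 1) * θ * S.d / 2 := by
  have h1 : S.t (D.A * D.B * D.A) = S.t (D.A * (D.A * D.B)) := by
    have hc : D.A * D.B * S.π = S.π * (D.A * D.B) := by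
      rw [mul_assoc, S.comm_B, ← mul_assoc, S.comm_A, mul_assoc]
    exact S.t_comm hc D.A
  rw [h1, quad_mul D.A_sq, S.t_add, S.t_smul, S.t_smul, S.t_B hκ, S.t_M hκ]
  ring

theorem t_alt_odd (k : ℕ) : S.t (alt D.A D.B (2 * k + 1))
    = rec2 θ ((D.a : ℝ) * D.b) (((D.a : ℝ) - 1) * S.d / 2)
        ((D.a : ℝ) * ((D.b : ℝ) - 1) * S.d / 2 + ((D.a : ℝ) - 1) * θ * S.d / 2) k := by
  have h := eq_rec2 θ ((D.a : ℝ) * D.b) (fun k => S.t ((D.A * D.B) ^ k * D.A)) (fun k =>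
    S.t_rec D.A k)
  have := h k
  simp only [pow_zero, pow_one, one_mul, S.t_A hκ, S.t_ABA hκ] at this
  rw [alt_odd]
  exact this

theorem t_alt'_even (k : ℕ) : S.t (alt D.B D.A (2 * k))
    = rec2 θ ((D.a : ℝ) * D.b) S.d (θ * S.d / 2) k := by
  have := S.swap.t_alt_even (Spec.hκ_swap hκ) k
  have e : ((D.swap.a : ℝ) * D.swap.b) = (D.a : ℝ) * D.b := mul_comm _ _
  rw [e] at this
  exact this

theorem t_alt'_odd (k : ℕ) : S.t (alt D.B D.A (2 * k + 1))
    = rec2 θ ((D.a : ℝ) * D.b) (((D.b : ℝ) - 1) * S.d / 2)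
        ((D.b : ℝ) * ((D.a : ℝ) - 1) * S.d / 2 + ((D.b : ℝ) - 1) * θ * S.d / 2) k := by
  have := S.swap.t_alt_odd (Spec.hκ_swap hκ) k
  have e : ((D.swap.a : ℝ) * D.swap.b) = (D.a : ℝ) * D.b := mul_comm _ _
  rw [e] at this
  exact this

end Spec

end Cfsg.Agent.Lib.Helper7.FH
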