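import Mathlib

/-!
# Feit–Higman, part II.7: trigonometric sums

(helper7)
-/

set_option autoImplicit false

namespace Cfsg.Agent.Lib.Helper7.FH

open Real Finset

/-- `sin φ · Σ_{j<n} cos (2jφ + β) = sin (nφ) cos ((n-1)φ + β)` -/
theorem sum_cos_arith (φ β : ℝ) (n : ℕ) :
    sin φ * ∑ j ∈ range n, cos (2 * (j : ℝ) * φ + β) = sin (n * φ) * cos (n * φ - φ + β) := by
  induction n with
  | zero => simp
  | succ n ih =>
    rw [sum_range_succ, mul_add, ih]
    have e1 : ((n + 1 : ℕ) : ℝ) * φ = (n : ℝ) * φ + φ := by push_cast; ring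
    rw [e1]
    have e2 : (n : ℝ) * φ + φ - φ + β = (n : ℝ) * φ + β := by ring
    have e3 : 2 * (n : ℝ) * φ + β = (n : ℝ) * φ + ((n : ℝ) * φ + β) := by ring
    have e4 : (n : ℝ) * φ - φ + β = ((n : ℝ) * φ + β) - φ := by ring
    rw [e2, e3, e4, sin_add, cos_add ((n : ℝ) * φ) ((n : ℝ) * φ + β), cos_sub]
    have h := sin_sq_add_cos_sq φ
    have h' := sin_sq_add_cos_sq ((n : ℝ) * φ)
    -- remaining identity in sin/cos of nφ, φ, nφ+β
    set x := (n : ℝ) * φ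
    set y := (n : ℝ) * φ + β
    ring

theorem sum_range_two_mul {M : Type*} [AddCommMonoid M] (f : ℕ → M) (n : ℕ) :
    ∑ k ∈ range (2 * n), f k = ∑ j ∈ range n, (f (2 * j) + f (2 * j + 1)) := by
  induction n with
  | zero => simp
  | succ n ih =>
    rw [show 2 * (n + 1) = 2 * n + 1 + 1 by ring, sum_range_succ, sum_range_succ, ih,
      sum_range_succ, add_assoc]

section sums
variable (φ : ℝ) (n : ℕ)

theorem sum_cos_sq : sin φ * (2 * ∑ j ∈ range n, cos ((j : ℝ) * φ) ^ 2 - n)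
    = sin (n * φ) * cos (n * φ - φ) := by
  have h := sum_cos_arith φ 0 n
  simp only [add_zero] at h
  rw [← h]
  have : ∀ j : ℕ, cos ((j : ℝ) * φ) ^ 2 = 1 / 2 + cos (2 * (j : ℝ) * φ) / 2 := by
    intro j
    rw [cos_sq ((j : ℝ) * φ)]
    ring_nf
  simp only [this, sum_add_distrib, sum_const, card_range, ← sum_div, nsmul_eq_mul]
  ring

theorem sum_sin_sq : sin φ * (n - 2 * ∑ j ∈ range n, sin ((j : ℝ) * φ) ^ 2)
    = sin (n * φ) * cos (n * φ - φ) := by
  have h := sum_cos_sq φ n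
  rw [← h]
  have : ∀ j : ℕ, sin ((j : ℝ) * φ) ^ 2 = 1 - cos ((j : ℝ) * φ) ^ 2 := by
    intro j
    rw [sin_sq]
  simp only [this, sum_sub_distrib, sum_const, card_range, nsmul_eq_mul]
  ring

theorem sum_sin_succ_sq : sin φ * (n - 2 * ∑ j ∈ range n, sin (((j : ℝ) + 1) * φ) ^ 2)
    = sin (n * φ) * cos (n * φ + φ) := by
  have h := sum_cos_arith φ (2 * φ) n
  have e : (n : ℝ) * φ - φ + 2 * φ = n * φ + φ := by ring
  rw [e] at h
  rw [← h]
  have : ∀ j : ℕ, sin (((j : ℝ) + 1) * φ) ^ 2 = 1 / 2 - cos (2 * (j : ℝ) * φ + 2 * φ) / 2 := by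
    intro j
    rw [sin_sq, cos_sq (((j : ℝ) + 1) * φ)]
    ring_nf
  simp only [this, sum_sub_distrib, sum_const, card_range, ← sum_div, nsmul_eq_mul]
  ring

theorem sum_sin_mul_sin : sin φ * (n * cos φ - 2 * ∑ j ∈ range n,
      sin ((j : ℝ) * φ) * sin (((j : ℝ) + 1) * φ))
    = sin (n * φ) * cos (n * φ) := by
  have h := sum_cos_arith φ φ n
  have e : (n : ℝ) * φ - φ + φ = n * φ := by ring
  rw [e] at h
  rw [← h]
  have : ∀ j : ℕ, sin ((j : ℝ) * φ) * sin (((j : ℝ) + 1) * φ)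
      = cos φ / 2 - cos (2 * (j : ℝ) * φ + φ) / 2 := by
    intro j
    have e1 : ((j : ℝ) + 1) * φ = (j : ℝ) * φ + φ := by ring
    have e2 : 2 * (j : ℝ) * φ + φ = (j : ℝ) * φ + ((j : ℝ) * φ + φ) := by ring
    rw [e1, e2, cos_add ((j : ℝ) * φ) ((j : ℝ) * φ + φ), sin_add, cos_add]
    have h1 := sin_sq_add_cos_sq ((j : ℝ) * φ)
    linear_combination (cos φ / 2) * h1
  simp only [this, sum_sub_distrib, sum_const, card_range, ← sum_div, nsmul_eq_mul]
  ring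

end sums

end Cfsg.Agent.Lib.Helper7.FH
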