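import Mathlib
import Cfsg.Agent.Lib.Helper7.FHTrace
import Cfsg.Agent.Lib.Helper7.FHTrig

/-!
# Feit–Higman, part II.8: closed forms of the trace values and the multiplicity formula (even case)

(helper7)
-/

set_option autoImplicit false
set_option linter.unusedSimpArgs false

namespace Cfsg.Agent.Lib.Helper7.FH

open Matrix Polynomial Real Finset

variable {X : Type*} [Fintype X] [DecidableEq X]

/-- closed form of the "rotation" sequence -/
theorem ev_closed (s φ d : ℝ) (hs : s ≠ 0) (hsin : sin φ ≠ 0) (k : ℕ) :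
    rec2 (2 * s * cos φ) (s ^ 2) d (2 * s * cos φ * d / 2) k = s ^ k * d * cos (k * φ) := by
  have h := rec2_closed s φ d (2 * s * cos φ * d / 2) hs k
  have e : 2 * s * cos φ * d / 2 / s = cos φ * d := by field_simp
  rw [e, sin_sub] at h
  have h2 : rec2 (2 * s * cos φ) (s ^ 2) d (2 * s * cos φ * d / 2) k * sin φ
      = s ^ k * d * cos (k * φ) * sin φ := by
    rw [h]; ring
  exact mul_right_cancel₀ hsin h2

/-- closed form of the "reflection" sequence -/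
theorem od_closed (s φ d a b : ℝ) (hs : s ≠ 0) (k : ℕ) :
    rec2 (2 * s * cos φ) (s ^ 2) ((a - 1) * d / 2)
        (a * (b - 1) * d / 2 + (a - 1) * (2 * s * cos φ) * d / 2) k * sin φ
      = s ^ k * (d / 2) * ((a * (b - 1) / s) * sin (k * φ) + (a - 1) * sin ((k + 1) * φ)) := by
  have h := rec2_closed s φ ((a - 1) * d / 2)
    (a * (b - 1) * d / 2 + (a - 1) * (2 * s * cos φ) * d / 2) hs k
  rw [h, sin_sub]
  have e : ((k : ℝ) + 1) * φ = k * φ + φ := by ring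
  rw [e, sin_add]
  field_simp
  ring

section closed

variable {D : FHData X} {θ : ℝ} (S : Spec D θ) (s φ : ℝ)
variable (hs0 : 0 < s) (hs : s ^ 2 = (D.a : ℝ) * D.b) (hθ : θ = 2 * s * cos φ) (hsin : sin φ ≠ 0)
include hs0 hs hθ hsin

omit S in
theorem hκ_of : (θ - ((D.a : ℝ) * D.b + 1)) * (θ + ((D.a : ℝ) + D.b)) ≠ 0 := by
  have ha := D.a_pos
  have hb := D.b_pos
  have hc : cos φ ^ 2 < 1 := by
    have := sin_sq_add_cos_sq φ
    have h2 : 0 < sin φ ^ 2 := by positivity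
    linarith
  have hc1 : cos φ < 1 := by nlinarith
  have hc2 : -1 < cos φ := by nlinarith
  have h1 : θ - ((D.a : ℝ) * D.b + 1) < 0 := by
    rw [hθ, ← hs]
    nlinarith [sq_nonneg (s - 1)]
  have hab : 2 * s ≤ (D.a : ℝ) + D.b := by
    by_contra hlt
    push Not at hlt
    nlinarith [sq_nonneg ((D.a : ℝ) - D.b)]
  have h2 : 0 < θ + ((D.a : ℝ) + D.b) := by
    rw [hθ]
    nlinarith
  exact mul_ne_zero h1.ne h2.ne'

theorem F_even (j : ℕ) (hj : 2 * j ≤ D.m) :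
    (S.t (alt D.A D.B (2 * j))) ^ 2 / fro (alt D.A D.B (2 * j)) (alt D.A D.B (2 * j))
      = S.d ^ 2 * cos (j * φ) ^ 2 / D.N := by
  have hκ := hκ_of (D := D) s φ hs0 hs hθ hsin
  rw [S.t_alt_even hκ, D.norm _ hj, ← hs]
  subst hθ
  rw [ev_closed s φ S.d hs0.ne' hsin]
  have e1 : (2 * j + 1) / 2 = j := by omega
  have e2 : 2 * j / 2 = j := by omega
  rw [e1, e2]
  have hN := D.N_pos
  have hsj : (s ^ 2) ^ j ≠ 0 := pow_ne_zero _ (pow_ne_zero _ hs0.ne')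
  have hab : (D.a : ℝ) ^ j * (D.b : ℝ) ^ j = (s ^ 2) ^ j := by rw [hs, mul_pow]
  have hnorm : (Fintype.card X : ℝ) * (D.a : ℝ) ^ j * (D.b : ℝ) ^ j = D.N * (s ^ 2) ^ j := by
    unfold FHData.N
    rw [mul_assoc, hab]
  rw [hnorm, div_eq_div_iff (by positivity) (by positivity)]
  ring

theorem F_odd (j : ℕ) (hj : 2 * j + 1 ≤ D.m) :
    (S.t (alt D.A D.B (2 * j + 1))) ^ 2
        / fro (alt D.A D.B (2 * j + 1)) (alt D.A D.B (2 * j + 1))
      = (S.d / 2) ^ 2 * (((D.a : ℝ) * ((D.b : ℝ) - 1) / s) * sin (j * φ)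
          + ((D.a : ℝ) - 1) * sin ((j + 1) * φ)) ^ 2 / (D.N * D.a * sin φ ^ 2) := by
  have hκ := hκ_of (D := D) s φ hs0 hs hθ hsin
  rw [S.t_alt_odd hκ, D.norm _ hj, ← hs]
  subst hθ
  have e1 : (2 * j + 1 + 1) / 2 = j + 1 := by omega
  have e2 : (2 * j + 1) / 2 = j := by omega
  rw [e1, e2]
  have hcl := od_closed s φ S.d (D.a : ℝ) (D.b : ℝ) hs0.ne' j
  have hN := D.N_pos
  have ha := D.a_pos
  have hsj : (s ^ 2) ^ j ≠ 0 := pow_ne_zero _ (pow_ne_zero _ hs0.ne')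
  set r := rec2 (2 * s * cos φ) (s ^ 2) (((D.a : ℝ) - 1) * S.d / 2)
        ((D.a : ℝ) * ((D.b : ℝ) - 1) * S.d / 2 + ((D.a : ℝ) - 1) * (2 * s * cos φ) * S.d / 2) j with hr
  have hr2 : r ^ 2 * sin φ ^ 2 = (s ^ 2) ^ j * ((S.d / 2) ^ 2 *
      (((D.a : ℝ) * ((D.b : ℝ) - 1) / s) * sin (j * φ)
          + ((D.a : ℝ) - 1) * sin ((j + 1) * φ)) ^ 2) := by
    rw [← mul_pow, hcl]
    ring
  have hab : (D.a : ℝ) ^ (j + 1) * (D.b : ℝ) ^ j = (D.a : ℝ) * (s ^ 2) ^ j := by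
    rw [hs, mul_pow]; ring
  have hnorm : (Fintype.card X : ℝ) * (D.a : ℝ) ^ (j + 1) * (D.b : ℝ) ^ j
      = D.N * D.a * (s ^ 2) ^ j := by
    unfold FHData.N
    rw [mul_assoc, hab]; ring
  rw [hnorm]
  have hsin2 : sin φ ^ 2 ≠ 0 := pow_ne_zero _ hsin
  rw [div_eq_div_iff (by positivity) (by positivity)]
  calc r ^ 2 * (D.N * ↑D.a * sin φ ^ 2) = (r ^ 2 * sin φ ^ 2) * (D.N * D.a) := by ring
    _ = _ := by rw [hr2]; ring

/-- expanded form of the odd terms -/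
theorem F_odd' (j : ℕ) (hj : 2 * j + 1 ≤ D.m) :
    (S.t (alt D.A D.B (2 * j + 1))) ^ 2
        / fro (alt D.A D.B (2 * j + 1)) (alt D.A D.B (2 * j + 1))
      = (S.d / 2) ^ 2 * ((((D.b : ℝ) - 1) ^ 2 / D.b) * sin (j * φ) ^ 2
          + 2 * ((((D.a : ℝ) - 1) * ((D.b : ℝ) - 1)) / s) * (sin (j * φ) * sin ((j + 1) * φ))
          + (((D.a : ℝ) - 1) ^ 2 / D.a) * sin ((j + 1) * φ) ^ 2) / (D.N * sin φ ^ 2) := by
  rw [F_odd S s φ hs0 hs hθ hsin j hj]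
  have hN := D.N_pos
  have ha := D.a_pos
  have hb := D.b_pos
  have hsin2 : sin φ ^ 2 ≠ 0 := pow_ne_zero _ hsin
  have hbe : (D.b : ℝ) = s ^ 2 / D.a := by
    field_simp
    linarith
  rw [hbe]
  field_simp
  ring

omit hs0 hs hθ hsin in
/-- the Parseval identity for `π`, in terms of the trace functional -/
theorem parseval_t : S.d = ∑ k ∈ range (D.m + 1),
        (S.t (alt D.A D.B k)) ^ 2 / fro (alt D.A D.B k) (alt D.A D.B k)
      + ∑ k ∈ Ico 1 D.m,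
        (S.t (alt D.B D.A k)) ^ 2 / fro (alt D.B D.A k) (alt D.B D.A k) := by
  have P := D.parseval S.mem_H
  simp only [S.fro_eq_t] at P
  rw [← S.fro_eq_t, ← S.d_eq_fro] at P
  exact P

/-- **multiplicity formula, even case** -/
theorem mult_even (h : ℕ) (hm : D.m = 2 * h) (hh : sin (h * φ) = 0) :
    D.N * (4 * ((D.a : ℝ) * D.b) - θ ^ 2)
      = S.d * h * (((D.a : ℝ) * D.b + 1 - θ) * ((D.a : ℝ) + D.b + θ)) := by
  have P := parseval_t S
  rw [hm, sum_range_succ, sum_range_two_mul, sum_Ico_eq_sub _ (by have := D.hm; omega : 1 ≤ 2 * h),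
    sum_range_two_mul, sum_range_one] at P
  -- abbreviations
  set α : ℝ := ((D.a : ℝ) - 1) ^ 2 / D.a + ((D.b : ℝ) - 1) ^ 2 / D.b with hα
  set β : ℝ := (((D.a : ℝ) - 1) * ((D.b : ℝ) - 1)) / s with hβ
  have hs' : s ^ 2 = (D.swap.a : ℝ) * D.swap.b := by rw [hs]; exact mul_comm _ _
  -- the four kinds of terms
  have hE : ∀ j ∈ range h, (S.t (alt D.A D.B (2 * j))) ^ 2
      / fro (alt D.A D.B (2 * j)) (alt D.A D.B (2 * j)) = S.d ^ 2 * cos (j * φ) ^ 2 / D.N := by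
    intro j hj
    exact F_even S s φ hs0 hs hθ hsin j (by have := mem_range.mp hj; omega)
  have hE' : ∀ j ∈ range h, (S.t (alt D.B D.A (2 * j))) ^ 2
      / fro (alt D.B D.A (2 * j)) (alt D.B D.A (2 * j)) = S.d ^ 2 * cos (j * φ) ^ 2 / D.N := by
    intro j hj
    exact F_even S.swap s φ hs0 hs' hθ hsin j (by have := mem_range.mp hj; show 2 * j ≤ D.m; omega)
  have hO : ∀ j ∈ range h, (S.t (alt D.A D.B (2 * j + 1))) ^ 2
      / fro (alt D.A D.B (2 * j + 1)) (alt D.A D.B (2 * j + 1))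
      = (S.d / 2) ^ 2 * ((((D.b : ℝ) - 1) ^ 2 / D.b) * sin (j * φ) ^ 2
          + 2 * β * (sin (j * φ) * sin ((j + 1) * φ))
          + (((D.a : ℝ) - 1) ^ 2 / D.a) * sin ((j + 1) * φ) ^ 2) / (D.N * sin φ ^ 2) := by
    intro j hj
    exact F_odd' S s φ hs0 hs hθ hsin j (by have := mem_range.mp hj; omega)
  have hO' : ∀ j ∈ range h, (S.t (alt D.B D.A (2 * j + 1))) ^ 2
      / fro (alt D.B D.A (2 * j + 1)) (alt D.B D.A (2 * j + 1))
      = (S.d / 2) ^ 2 * ((((D.a : ℝ) - 1) ^ 2 / D.a) * sin (j * φ) ^ 2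
          + 2 * β * (sin (j * φ) * sin ((j + 1) * φ))
          + (((D.b : ℝ) - 1) ^ 2 / D.b) * sin ((j + 1) * φ) ^ 2) / (D.N * sin φ ^ 2) := by
    intro j hj
    have h1 := F_odd' S.swap s φ hs0 hs' hθ hsin j
      (by have := mem_range.mp hj; show 2 * j + 1 ≤ D.m; omega)
    refine Eq.trans h1 ?_
    show (S.d / 2) ^ 2 * ((((D.a : ℝ) - 1) ^ 2 / D.a) * sin (j * φ) ^ 2
          + 2 * ((((D.b : ℝ) - 1) * ((D.a : ℝ) - 1)) / s) * (sin (j * φ) * sin ((j + 1) * φ))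
          + (((D.b : ℝ) - 1) ^ 2 / D.b) * sin ((j + 1) * φ) ^ 2) / (D.N * sin φ ^ 2) = _
    rw [hβ, mul_comm ((D.b : ℝ) - 1) ((D.a : ℝ) - 1)]
  have hEh : (S.t (alt D.A D.B (2 * h))) ^ 2
      / fro (alt D.A D.B (2 * h)) (alt D.A D.B (2 * h)) = S.d ^ 2 * cos (h * φ) ^ 2 / D.N :=
    F_even S s φ hs0 hs hθ hsin h (by omega)
  have hE0 : (S.t (alt D.B D.A 0)) ^ 2
      / fro (alt D.B D.A 0) (alt D.B D.A 0) = S.d ^ 2 / D.N := by
    have h0 := F_even S.swap s φ hs0 hs' hθ hsin 0 (by omega)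
    simp only [Nat.cast_zero, zero_mul, cos_zero, one_pow, mul_one, mul_zero] at h0
    exact h0
  rw [sum_add_distrib, sum_add_distrib, sum_congr rfl hE, sum_congr rfl hE', sum_congr rfl hO,
    sum_congr rfl hO', hEh, hE0] at P
  -- the trigonometric sums
  have hsinφ := hsin
  have hCC : ∑ j ∈ range h, cos ((j : ℝ) * φ) ^ 2 = h / 2 := by
    have := sum_cos_sq φ h
    rw [hh, zero_mul] at this
    have := (mul_eq_zero.mp this).resolve_left hsin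
    linarith
  have hSS : ∑ j ∈ range h, sin ((j : ℝ) * φ) ^ 2 = h / 2 := by
    have := sum_sin_sq φ h
    rw [hh, zero_mul] at this
    have := (mul_eq_zero.mp this).resolve_left hsin
    linarith
  have hSS1 : ∑ j ∈ range h, sin (((j : ℝ) + 1) * φ) ^ 2 = h / 2 := by
    have := sum_sin_succ_sq φ h
    rw [hh, zero_mul] at this
    have := (mul_eq_zero.mp this).resolve_left hsin
    linarith
  have hSC : ∑ j ∈ range h, sin ((j : ℝ) * φ) * sin (((j : ℝ) + 1) * φ) = h * cos φ / 2 := by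
    have := sum_sin_mul_sin φ h
    rw [hh, zero_mul] at this
    have := (mul_eq_zero.mp this).resolve_left hsin
    linarith
  have hch : cos (h * φ) ^ 2 = 1 := by
    have := sin_sq_add_cos_sq ((h : ℝ) * φ)
    rw [hh] at this
    linarith
  -- evaluate the sums
  have hsumE : ∑ j ∈ range h, S.d ^ 2 * cos ((j : ℝ) * φ) ^ 2 / D.N = S.d ^ 2 / D.N * (h / 2) := by
    rw [← hCC, mul_sum]
    apply sum_congr rfl
    intro j _
    ring
  have hsumO : ∑ j ∈ range h, (S.d / 2) ^ 2 * ((((D.b : ℝ) - 1) ^ 2 / D.b) * sin (j * φ) ^ 2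
          + 2 * β * (sin (j * φ) * sin ((j + 1) * φ))
          + (((D.a : ℝ) - 1) ^ 2 / D.a) * sin ((j + 1) * φ) ^ 2) / (D.N * sin φ ^ 2)
      = (S.d / 2) ^ 2 / (D.N * sin φ ^ 2) * ((((D.b : ℝ) - 1) ^ 2 / D.b) * (h / 2)
          + 2 * β * (h * cos φ / 2) + (((D.a : ℝ) - 1) ^ 2 / D.a) * (h / 2)) := by
    have e : ∑ j ∈ range h, (S.d / 2) ^ 2 * ((((D.b : ℝ) - 1) ^ 2 / D.b) * sin (j * φ) ^ 2
          + 2 * β * (sin (j * φ) * sin ((j + 1) * φ))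
          + (((D.a : ℝ) - 1) ^ 2 / D.a) * sin ((j + 1) * φ) ^ 2) / (D.N * sin φ ^ 2)
        = (S.d / 2) ^ 2 / (D.N * sin φ ^ 2) * ((((D.b : ℝ) - 1) ^ 2 / D.b)
            * (∑ j ∈ range h, sin ((j : ℝ) * φ) ^ 2)
          + 2 * β * (∑ j ∈ range h, sin ((j : ℝ) * φ) * sin (((j : ℝ) + 1) * φ))
          + (((D.a : ℝ) - 1) ^ 2 / D.a) * (∑ j ∈ range h, sin (((j : ℝ) + 1) * φ) ^ 2)) := by
      simp only [mul_sum, ← sum_add_distrib]
      apply sum_congr rfl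
      intro j _
      ring
    rw [e, hSS, hSS1, hSC]
  have hsumO' : ∑ j ∈ range h, (S.d / 2) ^ 2 * ((((D.a : ℝ) - 1) ^ 2 / D.a) * sin (j * φ) ^ 2
          + 2 * β * (sin (j * φ) * sin ((j + 1) * φ))
          + (((D.b : ℝ) - 1) ^ 2 / D.b) * sin ((j + 1) * φ) ^ 2) / (D.N * sin φ ^ 2)
      = (S.d / 2) ^ 2 / (D.N * sin φ ^ 2) * ((((D.a : ℝ) - 1) ^ 2 / D.a) * (h / 2)
          + 2 * β * (h * cos φ / 2) + (((D.b : ℝ) - 1) ^ 2 / D.b) * (h / 2)) := by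
    have e : ∑ j ∈ range h, (S.d / 2) ^ 2 * ((((D.a : ℝ) - 1) ^ 2 / D.a) * sin (j * φ) ^ 2
          + 2 * β * (sin (j * φ) * sin ((j + 1) * φ))
          + (((D.b : ℝ) - 1) ^ 2 / D.b) * sin ((j + 1) * φ) ^ 2) / (D.N * sin φ ^ 2)
        = (S.d / 2) ^ 2 / (D.N * sin φ ^ 2) * ((((D.a : ℝ) - 1) ^ 2 / D.a)
            * (∑ j ∈ range h, sin ((j : ℝ) * φ) ^ 2)
          + 2 * β * (∑ j ∈ range h, sin ((j : ℝ) * φ) * sin (((j : ℝ) + 1) * φ))
          + (((D.b : ℝ) - 1) ^ 2 / D.b) * (∑ j ∈ range h, sin (((j : ℝ) + 1) * φ) ^ 2)) := by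
      simp only [mul_sum, ← sum_add_distrib]
      apply sum_congr rfl
      intro j _
      ring
    rw [e, hSS, hSS1, hSC]
  rw [hsumE, hsumO, hsumO', hch] at P
  -- now pure algebra
  have hN := D.N_pos
  have hd := S.d_pos
  have ha := D.a_pos
  have hb := D.b_pos
  have hsin2 : sin φ ^ 2 ≠ 0 := pow_ne_zero _ hsin
  have key : 4 * D.N * sin φ ^ 2 = S.d * h * (4 * sin φ ^ 2 + α + 2 * β * cos φ) := by
    have hP4 : S.d * (4 * D.N * sin φ ^ 2)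
        = S.d * (S.d * h * (4 * sin φ ^ 2 + α + 2 * β * cos φ)) := by
      conv_lhs => rw [P]
      rw [hα]
      field_simp
      ring
    exact mul_left_cancel₀ hd.ne' hP4
  have hαs : α * s ^ 2 = (D.b : ℝ) * ((D.a : ℝ) - 1) ^ 2 + (D.a : ℝ) * ((D.b : ℝ) - 1) ^ 2 := by
    rw [hα, hs]
    field_simp
  have hβs : β * s ^ 2 = s * (((D.a : ℝ) - 1) * ((D.b : ℝ) - 1)) := by
    rw [hβ]
    field_simp
  have hsc := sin_sq_add_cos_sq φ
  have key2 : 4 * D.N * sin φ ^ 2 * s ^ 2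
      = S.d * h * (4 * sin φ ^ 2 * s ^ 2 + α * s ^ 2 + 2 * (β * s ^ 2) * cos φ) := by
    rw [key]; ring
  rw [hαs, hβs] at key2
  have hsq : sin φ ^ 2 = 1 - cos φ ^ 2 := by linarith
  rw [hsq] at key2
  subst hθ
  linear_combination key2 + (-4 * D.N + 4 * S.d * h) * hs

end closed

end Cfsg.Agent.Lib.Helper7.FH
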