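import Mathlib
import Cfsg.Agent.Lib.Helper7.FHSum

/-!
# Feit–Higman, part II.9: the even case `m = 2h` forces `h ≤ 4`

(helper7)
-/

set_option autoImplicit false
set_option linter.unusedSimpArgs false

namespace Cfsg.Agent.Lib.Helper7.FH

open Matrix Polynomial Real Finset

variable {X : Type*} [Fintype X] [DecidableEq X]

namespace FHData

variable (D : FHData X)

/-- the commutator squared, in terms of `T` -/
theorem J_sq_T : (D.A * D.B - D.B * D.A) * (D.A * D.B - D.B * D.A)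
    = (D.T - ((D.a : ℝ) * D.b + 1) • (1 : Matrix X X ℝ)) * (D.T + ((D.a : ℝ) + D.b) • (1 : Matrix X X ℝ)) :=
  J_sq D.A_sq D.B_sq

/-- the annihilating polynomial in the even case -/
noncomputable def pEven (h : ℕ) : ℝ[X] :=
  luc ((D.a : ℝ) * D.b) h * ((Polynomial.X - C ((D.a : ℝ) * D.b + 1)) * (Polynomial.X + C ((D.a : ℝ) + D.b)))

theorem aeval_pEven (h : ℕ) (hm : D.m = 2 * h) : aeval D.T (D.pEven h) = 0 := by
  have hm2 := D.hm
  obtain ⟨k, rfl⟩ : ∃ k, h = k + 1 := ⟨h - 1, by omega⟩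
  have hbraid := D.braid
  rw [hm, alt_even, alt_even] at hbraid
  have hM : (D.A * D.B) * (D.A * D.B) = D.T * (D.A * D.B) - ((D.a : ℝ) * D.b) • (1 : Matrix X X ℝ) :=
    M_sq D.A_sq D.B_sq
  have hM' : (D.B * D.A) * (D.B * D.A) = D.T * (D.B * D.A) - ((D.a : ℝ) * D.b) • (1 : Matrix X X ℝ) :=
    M'_sq D.A_sq D.B_sq
  have h1 := pow_succ_eq_luc (D.A * D.B) D.T ((D.a : ℝ) * D.b) hM k
  have h2 := pow_succ_eq_luc (D.B * D.A) D.T ((D.a : ℝ) * D.b) hM' k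
  rw [h1, h2] at hbraid
  have h3 : aeval D.T (luc ((D.a : ℝ) * D.b) (k + 1)) * (D.A * D.B - D.B * D.A) = 0 := by
    rw [mul_sub]
    have := sub_eq_zero.mpr hbraid
    rw [← this]
    abel
  unfold pEven
  have e1 : aeval D.T (Polynomial.X - C ((D.a : ℝ) * D.b + 1))
      = D.T - ((D.a : ℝ) * D.b + 1) • (1 : Matrix X X ℝ) := by
    rw [map_sub, aeval_X, aeval_C, Algebra.algebraMap_eq_smul_one]
  have e2 : aeval D.T (Polynomial.X + C ((D.a : ℝ) + D.b))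
      = D.T + ((D.a : ℝ) + D.b) • (1 : Matrix X X ℝ) := by
    rw [map_add, aeval_X, aeval_C, Algebra.algebraMap_eq_smul_one]
  rw [map_mul, map_mul, e1, e2, ← D.J_sq_T, ← mul_assoc, h3, zero_mul]

theorem pEven_ne_zero (h : ℕ) (hh : 1 ≤ h) : D.pEven h ≠ 0 := by
  obtain ⟨k, rfl⟩ : ∃ k, h = k + 1 := ⟨h - 1, by omega⟩
  unfold pEven
  exact mul_ne_zero (luc_succ_ne_zero _ k) (mul_ne_zero (X_sub_C_ne_zero _) (X_add_C_ne_zero _))

theorem pEven_natDegree_le (h : ℕ) (hh : 1 ≤ h) : (D.pEven h).natDegree ≤ h + 1 := by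
  obtain ⟨k, rfl⟩ : ∃ k, h = k + 1 := ⟨h - 1, by omega⟩
  unfold pEven
  refine natDegree_mul_le.trans ?_
  rw [luc_natDegree]
  have h1 : ((Polynomial.X - C ((D.a : ℝ) * D.b + 1)) * (Polynomial.X + C ((D.a : ℝ) + D.b))).natDegree ≤ 2 := by
    refine natDegree_mul_le.trans ?_
    have e1 := natDegree_X_sub_C ((D.a : ℝ) * D.b + 1)
    have e2 := natDegree_X_add_C ((D.a : ℝ) + D.b)
    omega
  omega

theorem pEven_isRoot (h : ℕ) (hh : 1 ≤ h) (s φ : ℝ) (hs : s ^ 2 = (D.a : ℝ) * D.b)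
    (hsin : sin φ ≠ 0) (hhφ : sin (h * φ) = 0) : (D.pEven h).IsRoot (2 * s * cos φ) := by
  obtain ⟨k, rfl⟩ : ∃ k, h = k + 1 := ⟨h - 1, by omega⟩
  unfold pEven
  rw [IsRoot, eval_mul]
  have h1 := luc_eval_cos s φ k
  rw [hhφ, mul_zero, hs] at h1
  rw [(mul_eq_zero.mp h1).resolve_right hsin, zero_mul]

/-- existence of the spectral idempotent, even case -/
theorem exists_spec_even (h : ℕ) (hm : D.m = 2 * h) (s φ : ℝ) (hs : s ^ 2 = (D.a : ℝ) * D.b)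
    (hsin : sin φ ≠ 0) (hhφ : sin (h * φ) = 0) : Nonempty (Spec D (2 * s * cos φ)) := by
  have hm2 := D.hm
  have hh : 1 ≤ h := by omega
  obtain ⟨g, h1, h2, h3⟩ := exists_idem D.T D.T_symm (D.pEven h) (D.pEven_ne_zero h hh)
    (D.aeval_pEven h hm) (2 * s * cos φ) (D.pEven_isRoot h hh s φ hs hsin hhφ)
    (fun f hf hdeg => D.aeval_T_ne_zero hf (by
      have := D.pEven_natDegree_le h hh
      omega))
  exact ⟨⟨aeval D.T g, g, rfl, h1, h2, h3⟩⟩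

/-- the multiplicity equation, even case -/
theorem mult_eq_even (h : ℕ) (hm : D.m = 2 * h) (s φ : ℝ) (hs0 : 0 < s)
    (hs : s ^ 2 = (D.a : ℝ) * D.b) (hsin : sin φ ≠ 0) (hhφ : sin (h * φ) = 0) :
    ∃ d : ℕ, 0 < d ∧ (Fintype.card X : ℝ) * (4 * ((D.a : ℝ) * D.b) - (2 * s * cos φ) ^ 2)
      = d * h * (((D.a : ℝ) * D.b + 1 - 2 * s * cos φ) * ((D.a : ℝ) + D.b + 2 * s * cos φ)) := by
  obtain ⟨S⟩ := D.exists_spec_even h hm s φ hs hsin hhφ
  obtain ⟨d, hd, hSd⟩ := S.d_nat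
  refine ⟨d, hd, ?_⟩
  have := mult_even S s φ hs0 hs rfl hsin h hm hhφ
  rw [hSd] at this
  exact this

end FHData

end Cfsg.Agent.Lib.Helper7.FH
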