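import Mathlib
import Cfsg.Agent.Lib.Helper7.FHEven

/-!
# Feit–Higman, part II.10: arithmetic of the multiplicity equations (even case)

(helper7)
-/

set_option autoImplicit false
set_option linter.unusedSimpArgs false

namespace Cfsg.Agent.Lib.Helper7.FH

open Real

/-- two multiplicity equations for `θ` and `-θ` force `θ` to be rational -/
theorem rat_of_two (N d d' h a b : ℕ) (hN : 0 < N) (hd : 0 < d) (hd' : 0 < d') (hh : 0 < h)
    (ha : 2 ≤ a) (hb : 2 ≤ b) (θ : ℝ)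
    (E1 : (N : ℝ) * (4 * ((a : ℝ) * b) - θ ^ 2)
      = d * h * (((a : ℝ) * b + 1 - θ) * ((a : ℝ) + b + θ)))
    (E2 : (N : ℝ) * (4 * ((a : ℝ) * b) - θ ^ 2)
      = d' * h * (((a : ℝ) * b + 1 + θ) * ((a : ℝ) + b - θ))) : ∃ r : ℚ, θ = r := by
  have hNr : (0 : ℝ) < N := by exact_mod_cast hN
  have hdr : (0 : ℝ) < d := by exact_mod_cast hd
  have hdr' : (0 : ℝ) < d' := by exact_mod_cast hd'
  have hhr : (0 : ℝ) < h := by exact_mod_cast hh
  have har : (2 : ℝ) ≤ a := by exact_mod_cast ha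
  have hbr : (2 : ℝ) ≤ b := by exact_mod_cast hb
  have hL : ((a : ℝ) - 1) * ((b : ℝ) - 1) ≠ 0 := by
    apply mul_ne_zero <;> linarith
  have hK : ((a : ℝ) * b + 1) * ((a : ℝ) + b) - 4 * ((a : ℝ) * b)
      = (b : ℝ) * ((a : ℝ) - 1) ^ 2 + (a : ℝ) * ((b : ℝ) - 1) ^ 2 := by ring
  have hKpos : 0 < ((a : ℝ) * b + 1) * ((a : ℝ) + b) - 4 * ((a : ℝ) * b) := by
    rw [hK]
    have h1 : (0 : ℝ) < ((a : ℝ) - 1) ^ 2 := by apply pow_pos; linarith
    have h2 : (0 : ℝ) < ((b : ℝ) - 1) ^ 2 := by apply pow_pos; linarith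
    have : (0 : ℝ) < b := by linarith
    have : (0 : ℝ) < a := by linarith
    positivity
  have key : ((a : ℝ) - 1) * ((b : ℝ) - 1) * (2 * d * d' * h - N * (d + d')) * θ * h
      = N * ((d' : ℝ) - d) * (4 * ((a : ℝ) * b) - ((a : ℝ) * b + 1) * ((a : ℝ) + b)) * h := by
    linear_combination -(((d' : ℝ) * h - N) * E1) + ((d : ℝ) * h - N) * E2
  have key' : ((a : ℝ) - 1) * ((b : ℝ) - 1) * (2 * d * d' * h - N * (d + d')) * θ
      = N * ((d' : ℝ) - d) * (4 * ((a : ℝ) * b) - ((a : ℝ) * b + 1) * ((a : ℝ) + b)) :=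
    mul_right_cancel₀ hhr.ne' key
  by_cases hΔ : (2 * (d : ℝ) * d' * h - N * (d + d')) = 0
  · rw [hΔ, mul_zero, zero_mul] at key'
    have hdd : (d' : ℝ) = d := by
      have h1 : (N : ℝ) * ((d' : ℝ) - d) = 0 := by
        rcases mul_eq_zero.mp key'.symm with h | h
        · exact h
        · exfalso; linarith
      have := (mul_eq_zero.mp h1).resolve_left hNr.ne'
      linarith
    rw [hdd] at hΔ
    have hdh : (d : ℝ) * h = N := by
      have : 2 * (d : ℝ) * ((d : ℝ) * h - N) = 0 := by linear_combination hΔ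
      have := (mul_eq_zero.mp this).resolve_left (by positivity)
      linarith
    rw [hdh] at E1
    have E1' : 4 * ((a : ℝ) * b) - θ ^ 2 = (((a : ℝ) * b + 1 - θ) * ((a : ℝ) + b + θ)) :=
      mul_left_cancel₀ hNr.ne' E1
    refine ⟨(4 * ((a : ℚ) * b) - ((a : ℚ) * b + 1) * ((a : ℚ) + b)) / (((a : ℚ) - 1) * ((b : ℚ) - 1)), ?_⟩
    push_cast
    rw [eq_div_iff hL]
    linear_combination -E1'
  · refine ⟨((N : ℚ) * ((d' : ℚ) - d) * (4 * ((a : ℚ) * b) - ((a : ℚ) * b + 1) * ((a : ℚ) + b)))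
      / (((a : ℚ) - 1) * ((b : ℚ) - 1) * (2 * d * d' * h - N * (d + d'))), ?_⟩
    push_cast
    rw [eq_div_iff (mul_ne_zero hL hΔ)]
    linear_combination key'

variable {X : Type*} [Fintype X] [DecidableEq X]

namespace FHData

variable (D : FHData X)

/-- for `m = 2h` and `0 < j < h`, the number `2 √(ab) cos (jπ/h)` is rational -/
theorem theta_rat_even (h : ℕ) (hm : D.m = 2 * h) (j : ℕ) (hj0 : 0 < j) (hjh : j < h) :
    ∃ r : ℚ, 2 * Real.sqrt ((D.a : ℝ) * D.b) * cos (j * π / h) = r := by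
  have ha := D.a_pos
  have hb := D.b_pos
  have hh0 : (0 : ℝ) < h := by exact_mod_cast (by omega : 0 < h)
  have hj0r : (0 : ℝ) < j := by exact_mod_cast hj0
  have hjhr : (j : ℝ) < h := by exact_mod_cast hjh
  set s := Real.sqrt ((D.a : ℝ) * D.b) with hsdef
  have hs0 : 0 < s := Real.sqrt_pos.mpr (by positivity)
  have hs : s ^ 2 = (D.a : ℝ) * D.b := Real.sq_sqrt (by positivity)
  set φ : ℝ := j * π / h with hφ
  have hφ0 : 0 < φ := by rw [hφ]; positivity
  have hφπ : φ < π := by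
    rw [hφ, div_lt_iff₀ hh0]
    nlinarith [pi_pos]
  have hsin : sin φ ≠ 0 := (sin_pos_of_pos_of_lt_pi hφ0 hφπ).ne'
  have hhφ : sin (h * φ) = 0 := by
    have : (h : ℝ) * φ = j * π := by rw [hφ]; field_simp
    rw [this]
    exact sin_nat_mul_pi j
  -- the mirror angle
  have hsin' : sin (π - φ) ≠ 0 := by rw [sin_pi_sub]; exact hsin
  have hhφ' : sin (h * (π - φ)) = 0 := by
    have : (h : ℝ) * (π - φ) = ((h - j : ℕ) : ℝ) * π := by
      rw [Nat.cast_sub hjh.le, hφ]; field_simp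
    rw [this]
    exact sin_nat_mul_pi _
  obtain ⟨d, hd, E1⟩ := D.mult_eq_even h hm s φ hs0 hs hsin hhφ
  obtain ⟨d', hd', E2⟩ := D.mult_eq_even h hm s (π - φ) hs0 hs hsin' hhφ'
  rw [cos_pi_sub] at E2
  have := D.hX
  refine rat_of_two (Fintype.card X) d d' h D.a D.b Fintype.card_pos hd hd' (by omega) D.ha D.hb
    (2 * s * cos φ) E1 ?_
  linear_combination E2

/-- **even case**: `m = 2h` implies `h ≤ 4` -/
theorem even_case (h : ℕ) (hm : D.m = 2 * h) : h ≤ 4 := by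
  by_contra hcon
  push Not at hcon
  have ha := D.a_pos
  have hb := D.b_pos
  have hh5 : (5 : ℝ) ≤ h := by exact_mod_cast hcon
  have hh0 : (0 : ℝ) < h := by linarith
  obtain ⟨r1, hr1⟩ := D.theta_rat_even h hm 1 (by omega) (by omega)
  obtain ⟨r2, hr2⟩ := D.theta_rat_even h hm 2 (by omega) (by omega)
  set s := Real.sqrt ((D.a : ℝ) * D.b) with hsdef
  have hs0 : 0 < s := Real.sqrt_pos.mpr (by positivity)
  have hs : s ^ 2 = (D.a : ℝ) * D.b := Real.sq_sqrt (by positivity)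
  simp only [Nat.cast_one, one_mul, Nat.cast_ofNat] at hr1 hr2
  have hcos2 : cos (2 * π / h) = 2 * cos (π / h) ^ 2 - 1 := by
    rw [← cos_two_mul]
    congr 1
    ring
  -- cos (2π/h) > 0
  have hpos2 : 0 < cos (2 * π / h) := by
    apply cos_pos_of_mem_Ioo
    constructor
    · have : 0 < 2 * π / h := by positivity
      linarith [pi_pos]
    · rw [div_lt_iff₀ hh0]
      nlinarith [pi_pos]
  have hr2ne : (r2 : ℝ) ≠ 0 := by
    rw [← hr2]
    positivity
  -- s is rational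
  have hs_rat : s = ((r1 : ℝ) ^ 2 - 2 * ((D.a : ℝ) * D.b)) / r2 := by
    rw [eq_div_iff hr2ne, ← hr1, ← hr2, hcos2, ← hs]
    ring
  -- cos (π/h) is rational
  have hcos_rat : ∃ q : ℚ, cos (π / h) = q := by
    refine ⟨r1 / (2 * (((r1 : ℚ) ^ 2 - 2 * ((D.a : ℚ) * D.b)) / r2)), ?_⟩
    push_cast
    rw [← hs_rat, ← hr1]
    field_simp
  have hangle : ∃ r : ℚ, π / h = r * π := ⟨1 / h, by push_cast; ring⟩
  have hniven := niven hangle hcos_rat
  -- but 1/2 < cos (π/h) < 1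
  have h1 : cos (π / h) < 1 := by
    have : cos (π / h) < cos 0 := by
      apply cos_lt_cos_of_nonneg_of_le_pi le_rfl
      · rw [div_le_iff₀ hh0]; nlinarith [pi_pos]
      · positivity
    rwa [cos_zero] at this
  have h2 : 1 / 2 < cos (π / h) := by
    rw [← cos_pi_div_three]
    apply cos_lt_cos_of_nonneg_of_le_pi
    · positivity
    · linarith [pi_pos]
    · rw [div_lt_div_iff₀ hh0 (by norm_num)]
      nlinarith [pi_pos]
  simp only [Set.mem_insert_iff, Set.mem_singleton_iff] at hniven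
  rcases hniven with h | h | h | h | h <;> linarith

end FHData

end Cfsg.Agent.Lib.Helper7.FH
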