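import Mathlib
import Cfsg.Agent.Lib.Helper5.BNCoxeter
import Cfsg.Agent.S0206
import Cfsg.Agent.Lib.Helper7.FHData

/-!
# Feit–Higman, part I.1: the Weyl group of a rank 2 (B,N)-pair

(helper7, on top of helper5's (B,N)-pair library)
-/

set_option autoImplicit false

namespace Cfsg.Agent.Lib.Helper7.FH

open Cfsg Cfsg.Agent.Lib.Helper5.BN

theorem altw_prod_eq_alt {M : Type*} [Monoid M] (a b : M) (k : ℕ) :
    (altw a b k).prod = alt a b k := by
  induction k generalizing a b with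
  | zero => rfl
  | succ k ih => rw [altw, List.prod_cons, ih, alt_succ]

theorem altw_append {α : Type*} (a b : α) (k j : ℕ) : ∃ L2, altw a b (k + j) = altw a b k ++ L2 := by
  induction k generalizing a b with
  | zero => exact ⟨altw a b (0 + j), rfl⟩
  | succ k ih =>
    obtain ⟨L2, hL2⟩ := ih b a
    refine ⟨L2, ?_⟩
    rw [show k + 1 + j = (k + j) + 1 by ring, altw, hL2, altw, List.cons_append]

variable {G : Type*} [Group G] (P : BNPair G)

/-- rank two: exactly two distinguished generators of the Weyl group -/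
theorem exists_two_gens (h2 : P.rank = 2) :
    ∃ σ τ : W P, σ ∈ Sbar P ∧ τ ∈ Sbar P ∧ σ ≠ τ ∧ Sbar P = {σ, τ} := by
  unfold BNPair.rank at h2
  obtain ⟨x, y, hxy, huniv⟩ := Nat.card_eq_two_iff.mp h2
  refine ⟨sg P x, sg P y, sg_mem P x, sg_mem P y, fun h => hxy (sg_injective P h), ?_⟩
  ext ρ
  constructor
  · intro hρ
    obtain ⟨s, rfl⟩ := exists_sg P hρ
    have : s ∈ ({x, y} : Set P.S) := by rw [huniv]; trivial
    rcases this with rfl | h
    · exact Or.inl rfl
    · rw [Set.mem_singleton_iff] at h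
      subst h
      exact Or.inr rfl
  · rintro (rfl | h)
    · exact sg_mem P x
    · rw [Set.mem_singleton_iff] at h
      subst h
      exact sg_mem P y

variable [Finite G]

theorem weyl_rank_two {σ τ : W P} (hσ : σ ∈ Sbar P) (hτ : τ ∈ Sbar P) (hne : σ ≠ τ)
    (hS : Sbar P = {σ, τ}) :
    2 ≤ orderOf (σ * τ) ∧ Nat.card (W P) = 2 * orderOf (σ * τ) ∧
    (∀ k, k ≤ orderOf (σ * τ) → len P (alt σ τ k) = k) ∧
    (∀ k, k ≤ orderOf (σ * τ) → len P (alt τ σ k) = k) ∧
    alt σ τ (orderOf (σ * τ)) = alt τ σ (orderOf (σ * τ)) ∧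
    (∀ k, 0 < k → k < orderOf (σ * τ) → alt σ τ k ≠ alt τ σ k) := by
  have hσσ := Sbar_sq P hσ
  have hττ := Sbar_sq P hτ
  have hσ2 : orderOf σ = 2 := orderOf_eq_prime (by rw [pow_two]; exact hσσ) (Sbar_ne_one P hσ)
  have hτ2 : orderOf τ = 2 := orderOf_eq_prime (by rw [pow_two]; exact hττ) (Sbar_ne_one P hτ)
  have hm0 : orderOf (σ * τ) ≠ 0 := (orderOf_pos (σ * τ)).ne'
  have hm1 : orderOf (σ * τ) ≠ 1 := by
    intro h1
    rw [orderOf_eq_one_iff] at h1
    apply hne
    have : σ = τ⁻¹ := eq_inv_of_mul_eq_one_left h1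
    rw [this, Sbar_inv P hτ]
  -- cardinality
  have hcard : Nat.card (W P) = 2 * orderOf (σ * τ) := by
    obtain ⟨e⟩ := Cfsg.Agent.S0206.result σ τ hσ2 hτ2 hne
    have h1 : Nat.card (Subgroup.closure ({σ, τ} : Set (W P))) = 2 * orderOf (σ * τ) := by
      rw [Nat.card_congr e.toEquiv, DihedralGroup.nat_card]
    have h2 : Subgroup.closure ({σ, τ} : Set (W P)) = ⊤ := by
      rw [← hS]; exact closure_Sbar P
    rw [h2] at h1
    rw [← h1]
    exact (Nat.card_congr (Subgroup.topEquiv (G := W P)).toEquiv).symm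
  -- a longest element
  obtain ⟨w0, hw0⟩ := Finite.exists_max (fun w : W P => len P w)
  have hd1 : len P (σ * w0) < len P w0 :=
    lt_of_le_of_ne (hw0 _) (len_mul_ne P hσ)
  have hd2 : len P (τ * w0) < len P w0 :=
    lt_of_le_of_ne (hw0 _) (len_mul_ne P hτ)
  obtain ⟨-, R, hR1, -, hR2, -⟩ := dihedral_factor' P hσ hτ hd1 hd2
  have hred1 := isReduced_of_append_left P hR1
  have hred2 := isReduced_of_append_left P hR2
  have hlen : ∀ (a b : W P), IsReduced P (altw a b (orderOf (σ * τ))) →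
      ∀ k, k ≤ orderOf (σ * τ) → len P (alt a b k) = k := by
    intro a b hred k hk
    obtain ⟨L2, hL2⟩ := altw_append a b k (orderOf (σ * τ) - k)
    rw [show k + (orderOf (σ * τ) - k) = orderOf (σ * τ) by omega] at hL2
    rw [hL2] at hred
    have := (isReduced_of_append_left P hred).2
    rw [altw_length, altw_prod_eq_alt] at this
    exact this.symm
  refine ⟨by omega, hcard, hlen σ τ hred1, hlen τ σ hred2, ?_, ?_⟩
  · rw [← altw_prod_eq_alt, ← altw_prod_eq_alt]
    exact altw_prod_eq_of_pow σ τ hσσ hττ _ (pow_orderOf_eq_one _)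
  · intro k hk0 hkm h
    rw [← altw_prod_eq_alt, ← altw_prod_eq_alt] at h
    have := pow_eq_one_of_altw_prod_eq σ τ hσσ hττ k h
    exact pow_ne_one_of_lt_orderOf hk0.ne' hkm this

end Cfsg.Agent.Lib.Helper7.FH
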