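import Mathlib
import Cfsg.Agent.Lib.Helper5.BNFix
import Cfsg.Agent.Lib.Helper7.FHBN1

/-!
# Feit–Higman, part I.2: relative position of cosets of `B`

(helper7, on top of helper5's (B,N)-pair library)
-/

set_option autoImplicit false

namespace Cfsg.Agent.Lib.Helper7.FH

open Cfsg Cfsg.Agent.Lib.Helper5.BN

variable {G : Type*} [Group G] (P : BNPair G)

theorem cell_eq_one_iff (g : G) : cell P g = 1 ↔ g ∈ P.B := by
  constructor
  · intro h
    have := mem_C_cell P g
    rw [h, C_one] at this
    exact this
  · intro h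
    apply cell_eq
    rw [C_one]
    exact h

theorem cell_inv (g : G) : cell P g⁻¹ = (cell P g)⁻¹ :=
  cell_eq P (inv_mem_C P (mem_C_cell P g))

theorem cell_mul_L2 {σ w : W P} (hσ : σ ∈ Sbar P) (hle : len P w ≤ len P (σ * w)) {x y : G}
    (hx : cell P x = σ) (hy : cell P y = w) : cell P (x * y) = σ * w := by
  apply cell_eq
  apply L2 P hσ hle
  · rw [← hx]; exact mem_C_cell P x
  · rw [← hy]; exact mem_C_cell P y

theorem cell_mul_T1 {σ : W P} (hσ : σ ∈ Sbar P) {x y : G}
    (hx : cell P x = σ) (hy : cell P y = σ) : cell P (x * y) = 1 ∨ cell P (x * y) = σ := by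
  have h := T1W_left P hσ (w := σ) (by rw [← hx]; exact mem_C_cell P x)
    (by rw [← hy]; exact mem_C_cell P y)
  rw [Sbar_sq P hσ] at h
  rcases h with h | h
  · exact Or.inl (cell_eq P h)
  · exact Or.inr (cell_eq P h)

/-- relative position of two cosets of `B` -/
noncomputable def kap (x y : G ⧸ P.B) : W P := cell P ((Quotient.out x)⁻¹ * Quotient.out y)

theorem kap_mk (g g' : G) :
    kap P (QuotientGroup.mk g) (QuotientGroup.mk g') = cell P (g⁻¹ * g') := by
  unfold kap
  obtain ⟨b, hb⟩ := QuotientGroup.mk_out_eq_mul P.B g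
  obtain ⟨b', hb'⟩ := QuotientGroup.mk_out_eq_mul P.B g'
  rw [hb, hb']
  have e : (g * (b : G))⁻¹ * (g' * (b' : G)) = (b : G)⁻¹ * (g⁻¹ * g') * b' := by group
  rw [e, cell_mul_B P b'.2, cell_B_mul P (inv_mem b.2)]

theorem kap_eq_one_iff (x y : G ⧸ P.B) : kap P x y = 1 ↔ x = y := by
  induction x using QuotientGroup.induction_on with
  | H g =>
    induction y using QuotientGroup.induction_on with
    | H g' =>
      rw [kap_mk, cell_eq_one_iff, QuotientGroup.eq]

theorem kap_self (x : G ⧸ P.B) : kap P x x = 1 := (kap_eq_one_iff P x x).mpr rfl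

theorem kap_inv (x y : G ⧸ P.B) : kap P y x = (kap P x y)⁻¹ := by
  induction x using QuotientGroup.induction_on with
  | H g =>
    induction y using QuotientGroup.induction_on with
    | H g' =>
      rw [kap_mk, kap_mk, ← cell_inv]
      congr 1
      group

theorem kap_L2 {σ w : W P} (hσ : σ ∈ Sbar P) (hle : len P w ≤ len P (σ * w)) {x y z : G ⧸ P.B}
    (hxy : kap P x y = σ) (hyz : kap P y z = w) : kap P x z = σ * w := by
  induction x using QuotientGroup.induction_on with
  | H g =>
    induction y using QuotientGroup.induction_on with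
    | H g' =>
      induction z using QuotientGroup.induction_on with
      | H g'' =>
        rw [kap_mk] at hxy hyz ⊢
        have e : g⁻¹ * g'' = (g⁻¹ * g') * (g'⁻¹ * g'') := by group
        rw [e]
        exact cell_mul_L2 P hσ hle hxy hyz

theorem kap_T1 {σ : W P} (hσ : σ ∈ Sbar P) {x y z : G ⧸ P.B}
    (hxy : kap P x y = σ) (hyz : kap P y z = σ) : kap P x z = 1 ∨ kap P x z = σ := by
  induction x using QuotientGroup.induction_on with
  | H g =>
    induction y using QuotientGroup.induction_on with
    | H g' =>
      induction z using QuotientGroup.induction_on with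
      | H g'' =>
        rw [kap_mk] at hxy hyz ⊢
        have e : g⁻¹ * g'' = (g⁻¹ * g') * (g'⁻¹ * g'') := by group
        rw [e]
        exact cell_mul_T1 P hσ hxy hyz

theorem kap_decomp {w1 w2 : W P} {x z : G ⧸ P.B} (h : kap P x z = w1 * w2) :
    ∃ y, kap P x y = w1 ∧ kap P y z = w2 := by
  induction x using QuotientGroup.induction_on with
  | H g =>
    induction z using QuotientGroup.induction_on with
    | H g'' =>
      rw [kap_mk] at h
      have hmem : g⁻¹ * g'' ∈ C P (w1 * w2) := by rw [← h]; exact mem_C_cell P _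
      obtain ⟨y1, hy1, y2, hy2, he⟩ := C_mul_decomp P hmem
      refine ⟨QuotientGroup.mk (g * y1), ?_, ?_⟩
      · rw [kap_mk]
        have : g⁻¹ * (g * y1) = y1 := by group
        rw [this]
        exact cell_eq P hy1
      · rw [kap_mk]
        have : (g * y1)⁻¹ * g'' = y1⁻¹ * (g⁻¹ * g'') := by group
        rw [this, he]
        have : y1⁻¹ * (y1 * y2) = y2 := by group
        rw [this]
        exact cell_eq P hy2

theorem kap_smul (g : G) (x y : G ⧸ P.B) : kap P (g • x) (g • y) = kap P x y := by
  induction x using QuotientGroup.induction_on with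
  | H a =>
    induction y using QuotientGroup.induction_on with
    | H b =>
      rw [MulAction.Quotient.smul_mk, MulAction.Quotient.smul_mk, kap_mk, kap_mk]
      congr 1
      simp only [smul_eq_mul]
      group

/-- if `σ` is a generator, the relation `kap x y ∈ {1, σ}` is transitive and the middle point of a
`σ`-`w` path is unique when the lengths add -/
theorem kap_mid_unique {σ w : W P} (hσ : σ ∈ Sbar P) (hle : len P w ≤ len P (σ * w))
    {x y y' z : G ⧸ P.B} (h1 : kap P x y = σ) (h2 : kap P y z = w) (h1' : kap P x y' = σ)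
    (h2' : kap P y' z = w) : y = y' := by
  have hyx : kap P y x = σ := by rw [kap_inv, h1, Sbar_inv P hσ]
  rcases kap_T1 P hσ hyx h1' with h | h
  · exact (kap_eq_one_iff P y y').mp h
  · exfalso
    have := kap_L2 P hσ hle h h2'
    rw [h2] at this
    have : σ = 1 := by
      have h3 : 1 * w = σ * w := by rw [one_mul]; exact this
      exact (mul_right_cancel h3).symm
    exact Sbar_ne_one P hσ this

end Cfsg.Agent.Lib.Helper7.FH
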