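import Mathlib
import Cfsg.Agent.Lib.Helper7.FHBN2

/-!
# Feit–Higman, part I.3: the Hecke operators on `G ⧸ B`

(helper7, on top of helper5's (B,N)-pair library)
-/

set_option autoImplicit false

namespace Cfsg.Agent.Lib.Helper7.FH

open Cfsg Cfsg.Agent.Lib.Helper5.BN Matrix Finset

open scoped Classical

variable {G : Type*} [Group G] (P : BNPair G) [Fintype (G ⧸ P.B)] [DecidableEq (G ⧸ P.B)]

/-- the `0/1` matrix of the relation "relative position `w`" -/
noncomputable def Aw (w : W P) : Matrix (G ⧸ P.B) (G ⧸ P.B) ℝ :=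
  fun x y => if kap P x y = w then 1 else 0

omit [Fintype (G ⧸ P.B)] [DecidableEq (G ⧸ P.B)] in
theorem Aw_apply (w : W P) (x y : G ⧸ P.B) : Aw P w x y = if kap P x y = w then 1 else 0 := rfl

omit [Fintype (G ⧸ P.B)] [DecidableEq (G ⧸ P.B)] in
theorem Aw_transpose (w : W P) : (Aw P w)ᵀ = Aw P w⁻¹ := by
  ext x y
  rw [transpose_apply, Aw_apply, Aw_apply, kap_inv P x y]
  by_cases h : kap P x y = w⁻¹
  · rw [if_pos h, if_pos (by rw [h, inv_inv])]
  · rw [if_neg h, if_neg (fun h' => h (by rw [← h', inv_inv]))]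

omit [Fintype (G ⧸ P.B)] in
theorem Aw_one : Aw P 1 = 1 := by
  ext x y
  rw [Aw_apply, one_apply]
  by_cases h : x = y
  · rw [if_pos h, if_pos ((kap_eq_one_iff P x y).mpr h)]
  · rw [if_neg h, if_neg (fun h' => h ((kap_eq_one_iff P x y).mp h'))]

omit [DecidableEq (G ⧸ P.B)] in
theorem fro_apply (Y Z : Matrix (G ⧸ P.B) (G ⧸ P.B) ℝ) :
    fro Y Z = ∑ x, ∑ y, Y x y * Z x y := by
  unfold fro
  rw [trace]
  apply sum_congr rfl
  intro x _
  rw [diag_apply, mul_apply]
  rfl

omit [DecidableEq (G ⧸ P.B)] in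
theorem fro_Aw_ne {w w' : W P} (h : w ≠ w') : fro (Aw P w) (Aw P w') = 0 := by
  rw [fro_apply]
  apply sum_eq_zero
  intro x _
  apply sum_eq_zero
  intro y _
  rw [Aw_apply, Aw_apply]
  by_cases h1 : kap P x y = w
  · rw [if_neg (fun h2 => h (h1.symm.trans h2)), mul_zero]
  · rw [if_neg h1, zero_mul]

/-- number of `y` in relative position `w` to `x` -/
noncomputable def rcount (w : W P) (x : G ⧸ P.B) : ℕ := (univ.filter fun y => kap P x y = w).card

/-- the index parameter `|B w B / B|` -/
noncomputable def rr (w : W P) : ℕ := rcount P w (QuotientGroup.mk 1)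

omit [DecidableEq (G ⧸ P.B)] in
theorem rcount_uniform (w : W P) (x : G ⧸ P.B) : rcount P w x = rr P w := by
  induction x using QuotientGroup.induction_on with
  | H g =>
    unfold rr rcount
    apply card_bij (fun y _ => g⁻¹ • y)
    · intro y hy
      rw [mem_filter] at hy ⊢
      refine ⟨mem_univ _, ?_⟩
      have := kap_smul P g⁻¹ (QuotientGroup.mk g) y
      rw [MulAction.Quotient.smul_mk, smul_eq_mul, inv_mul_cancel] at this
      rw [this]
      exact hy.2
    · intro y _ y' _ h
      exact smul_left_cancel _ h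
    · intro y hy
      rw [mem_filter] at hy
      refine ⟨g • y, ?_, by rw [inv_smul_smul]⟩
      rw [mem_filter]
      refine ⟨mem_univ _, ?_⟩
      have := kap_smul P g (QuotientGroup.mk 1) y
      rw [MulAction.Quotient.smul_mk, smul_eq_mul, mul_one] at this
      rw [this]
      exact hy.2

omit [DecidableEq (G ⧸ P.B)] in
theorem row_sum (w : W P) (x : G ⧸ P.B) : ∑ y, Aw P w x y = rr P w := by
  rw [← rcount_uniform P w x]
  unfold rcount
  rw [card_filter]
  push_cast
  rfl

omit [DecidableEq (G ⧸ P.B)] in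
theorem fro_Aw_self (w : W P) :
    fro (Aw P w) (Aw P w) = (Fintype.card (G ⧸ P.B) : ℝ) * rr P w := by
  rw [fro_apply]
  have : ∀ x : G ⧸ P.B, ∑ y, Aw P w x y * Aw P w x y = rr P w := by
    intro x
    rw [← row_sum P w x]
    apply sum_congr rfl
    intro y _
    rw [Aw_apply]
    by_cases h : kap P x y = w
    · rw [if_pos h, mul_one]
    · rw [if_neg h, mul_zero]
  rw [sum_congr rfl (fun x _ => this x), sum_const, card_univ, nsmul_eq_mul]

omit [DecidableEq (G ⧸ P.B)] in
theorem Aw_mul_apply (u w : W P) (x z : G ⧸ P.B) :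
    (Aw P u * Aw P w) x z = ((univ.filter fun y => kap P x y = u ∧ kap P y z = w).card : ℝ) := by
  rw [mul_apply, card_filter]
  push_cast
  apply sum_congr rfl
  intro y _
  rw [Aw_apply, Aw_apply]
  by_cases h1 : kap P x y = u
  · by_cases h2 : kap P y z = w
    · simp [h1, h2]
    · simp [h1, h2]
  · simp [h1]

omit [DecidableEq (G ⧸ P.B)] in
/-- multiplication rule when the length goes up -/
theorem Aw_mul {σ w : W P} (hσ : σ ∈ Sbar P) (hle : len P w ≤ len P (σ * w)) :
    Aw P σ * Aw P w = Aw P (σ * w) := by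
  ext x z
  rw [Aw_mul_apply, Aw_apply]
  by_cases h : kap P x z = σ * w
  · rw [if_pos h]
    obtain ⟨y, hy1, hy2⟩ := kap_decomp P h
    have : (univ.filter fun y => kap P x y = σ ∧ kap P y z = w) = {y} := by
      ext y'
      rw [mem_filter, mem_singleton]
      constructor
      · rintro ⟨-, h1, h2⟩
        exact kap_mid_unique P hσ hle h1 h2 hy1 hy2
      · rintro rfl
        exact ⟨mem_univ _, hy1, hy2⟩
    rw [this, card_singleton, Nat.cast_one]
  · rw [if_neg h]
    have : (univ.filter fun y => kap P x y = σ ∧ kap P y z = w) = ∅ := by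
      ext y'
      rw [mem_filter]
      constructor
      · rintro ⟨-, h1, h2⟩
        exact absurd (kap_L2 P hσ hle h1 h2) h
      · intro h'
        exact absurd h' (notMem_empty _)
    rw [this, card_empty, Nat.cast_zero]

omit [DecidableEq (G ⧸ P.B)] in
theorem rr_mul [Nonempty (G ⧸ P.B)] {σ w : W P} (hσ : σ ∈ Sbar P)
    (hle : len P w ≤ len P (σ * w)) : rr P (σ * w) = rr P σ * rr P w := by
  obtain ⟨x⟩ := ‹Nonempty (G ⧸ P.B)›
  have h1 : ∑ z, (Aw P σ * Aw P w) x z = (rr P σ : ℝ) * rr P w := by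
    simp only [mul_apply]
    rw [sum_comm]
    have : ∀ y, ∑ z, Aw P σ x y * Aw P w y z = Aw P σ x y * rr P w := by
      intro y
      rw [← mul_sum, row_sum]
    rw [sum_congr rfl (fun y _ => this y), ← sum_mul, row_sum]
  rw [Aw_mul P hσ hle, row_sum] at h1
  exact_mod_cast h1

theorem Aw_sq {σ : W P} (hσ : σ ∈ Sbar P) :
    Aw P σ * Aw P σ = (rr P σ : ℝ) • (1 : Matrix (G ⧸ P.B) (G ⧸ P.B) ℝ)
      + ((rr P σ : ℝ) - 1) • Aw P σ := by
  ext x z
  rw [Aw_mul_apply, Matrix.add_apply, Matrix.smul_apply, Matrix.smul_apply, one_apply, Aw_apply,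
    smul_eq_mul, smul_eq_mul]
  have hsymm : ∀ a b : G ⧸ P.B, kap P a b = σ ↔ kap P b a = σ := by
    intro a b
    rw [kap_inv P a b]
    constructor
    · intro h; rw [h, Sbar_inv P hσ]
    · intro h
      have : kap P a b = σ⁻¹ := by rw [← h, inv_inv]
      rw [this, Sbar_inv P hσ]
  by_cases hxz : x = z
  · subst hxz
    rw [if_pos rfl, if_neg (by rw [kap_self]; exact (Sbar_ne_one P hσ).symm), mul_one, mul_zero,
      add_zero]
    have : (univ.filter fun y => kap P x y = σ ∧ kap P y x = σ)
        = univ.filter fun y => kap P x y = σ := by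
      ext y
      rw [mem_filter, mem_filter]
      constructor
      · rintro ⟨h0, h1, -⟩; exact ⟨h0, h1⟩
      · rintro ⟨h0, h1⟩; exact ⟨h0, h1, (hsymm x y).mp h1⟩
    rw [this]
    have := rcount_uniform P σ x
    unfold rcount at this
    rw [this]
  · rw [if_neg hxz, mul_zero, zero_add]
    by_cases hσxz : kap P x z = σ
    · rw [if_pos hσxz, mul_one]
      -- the filter is `{y | kap x y = σ} \ {z}`
      have : (univ.filter fun y => kap P x y = σ ∧ kap P y z = σ)
          = (univ.filter fun y => kap P x y = σ).erase z := by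
        ext y
        rw [mem_filter, mem_erase, mem_filter]
        constructor
        · rintro ⟨h0, h1, h2⟩
          refine ⟨?_, h0, h1⟩
          rintro rfl
          rw [kap_self] at h2
          exact Sbar_ne_one P hσ h2.symm
        · rintro ⟨hne, h0, h1⟩
          refine ⟨h0, h1, ?_⟩
          rcases kap_T1 P hσ ((hsymm x y).mp h1) hσxz with h | h
          · exact absurd ((kap_eq_one_iff P y z).mp h) hne
          · exact h
      rw [this, card_erase_of_mem (by rw [mem_filter]; exact ⟨mem_univ _, hσxz⟩)]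
      have h1 := rcount_uniform P σ x
      unfold rcount at h1
      rw [h1]
      have hpos : 1 ≤ rr P σ := by
        rw [← h1]
        exact card_pos.mpr ⟨z, by rw [mem_filter]; exact ⟨mem_univ _, hσxz⟩⟩
      rw [Nat.cast_sub hpos, Nat.cast_one]
    · rw [if_neg hσxz, mul_zero]
      have : (univ.filter fun y => kap P x y = σ ∧ kap P y z = σ) = ∅ := by
        ext y
        rw [mem_filter]
        constructor
        · rintro ⟨-, h1, h2⟩
          rcases kap_T1 P hσ h1 h2 with h | h
          · exact absurd ((kap_eq_one_iff P x z).mp h) hxz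
          · exact absurd h hσxz
        · intro h'
          exact absurd h' (notMem_empty _)
      rw [this, card_empty, Nat.cast_zero]

omit [DecidableEq (G ⧸ P.B)] in
theorem rr_ge_two {σ : W P} (hσ : σ ∈ Sbar P) : 2 ≤ rr P σ := by
  obtain ⟨x, hx, y, hy, hxy⟩ := exists_sbs_W P hσ
  unfold rr rcount
  have h1 : (QuotientGroup.mk x : G ⧸ P.B) ∈ univ.filter fun y => kap P (QuotientGroup.mk 1) y = σ := by
    rw [mem_filter]
    refine ⟨mem_univ _, ?_⟩
    rw [kap_mk, inv_one, one_mul]
    exact cell_eq P hx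
  have h2 : (QuotientGroup.mk (x * y) : G ⧸ P.B)
      ∈ univ.filter fun y => kap P (QuotientGroup.mk 1) y = σ := by
    rw [mem_filter]
    refine ⟨mem_univ _, ?_⟩
    rw [kap_mk, inv_one, one_mul]
    exact cell_eq P hxy
  have hne : (QuotientGroup.mk x : G ⧸ P.B) ≠ QuotientGroup.mk (x * y) := by
    intro h
    rw [QuotientGroup.eq] at h
    have e : x⁻¹ * (x * y) = y := by group
    rw [e] at h
    have := (cell_eq_one_iff P y).mpr h
    rw [cell_eq P hy] at this
    exact Sbar_ne_one P hσ this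
  exact one_lt_card.mpr ⟨_, h1, _, h2, hne⟩

end Cfsg.Agent.Lib.Helper7.FH
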