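import Mathlib
import Cfsg.Agent.Lib.Helper7.FHArith

/-!
# Feit–Higman, part II.11: the odd case `m = 2h+1` forces `h ≤ 1`

(helper7)
-/

set_option autoImplicit false
set_option linter.unusedSimpArgs false

namespace Cfsg.Agent.Lib.Helper7.FH

open Matrix Polynomial Real Finset

variable {X : Type*} [Fintype X] [DecidableEq X]

namespace FHData

variable (D : FHData X)

/-- for odd `m` the two parameters agree -/
theorem a_eq_b_of_odd (h : ℕ) (hm : D.m = 2 * h + 1) : D.a = D.b := by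
  have h1 := D.norm D.m le_rfl
  have h2 := D.norm' D.m le_rfl
  rw [D.braid, h2, hm] at h1
  have e1 : (2 * h + 1 + 1) / 2 = h + 1 := by omega
  have e2 : (2 * h + 1) / 2 = h := by omega
  rw [e1, e2] at h1
  have ha := D.a_pos
  have hb := D.b_pos
  have hN := D.N_pos
  unfold N at hN
  have h3 : (D.b : ℝ) * ((D.a : ℝ) ^ h * (D.b : ℝ) ^ h) = (D.a : ℝ) * ((D.a : ℝ) ^ h * (D.b : ℝ) ^ h) := by
    have := mul_left_cancel₀ hN.ne' (by rw [← mul_assoc, ← mul_assoc]; exact h1 :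
      (Fintype.card X : ℝ) * ((D.b : ℝ) ^ (h + 1) * (D.a : ℝ) ^ h)
        = (Fintype.card X : ℝ) * ((D.a : ℝ) ^ (h + 1) * (D.b : ℝ) ^ h))
    rw [pow_succ, pow_succ] at this
    linear_combination this
  have h4 : (D.b : ℝ) = D.a := mul_right_cancel₀ (by positivity) h3
  exact_mod_cast h4.symm

/-- the annihilating polynomial in the odd case -/
noncomputable def pOdd (h : ℕ) : ℝ[X] :=
  (luc ((D.a : ℝ) * D.b) (h + 1) + C (D.a : ℝ) * luc ((D.a : ℝ) * D.b) h)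
    * (C ((D.a : ℝ) * D.a + 1) - Polynomial.X)

theorem aeval_pOdd (h : ℕ) (hm : D.m = 2 * h + 1) : aeval D.T (D.pOdd h) = 0 := by
  have hm2 := D.hm
  have hab := D.a_eq_b_of_odd h hm
  obtain ⟨k, rfl⟩ : ∃ k, h = k + 1 := ⟨h - 1, by omega⟩
  have hbraid := D.braid
  rw [hm, alt_odd, alt_odd] at hbraid
  have hM : (D.A * D.B) * (D.A * D.B) = D.T * (D.A * D.B) - ((D.a : ℝ) * D.b) • (1 : Matrix X X ℝ) :=
    M_sq D.A_sq D.B_sq
  have hM' : (D.B * D.A) * (D.B * D.A) = D.T * (D.B * D.A) - ((D.a : ℝ) * D.b) • (1 : Matrix X X ℝ) :=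
    M'_sq D.A_sq D.B_sq
  have h1 := pow_succ_eq_luc (D.A * D.B) D.T ((D.a : ℝ) * D.b) hM k
  have h2 := pow_succ_eq_luc (D.B * D.A) D.T ((D.a : ℝ) * D.b) hM' k
  rw [h1, h2] at hbraid
  set L1 := aeval D.T (luc ((D.a : ℝ) * D.b) (k + 1)) with hL1
  set L0 := aeval D.T (luc ((D.a : ℝ) * D.b) k) with hL0
  have hBsq : D.B * D.B = (D.a : ℝ) • (1 : Matrix X X ℝ) + ((D.a : ℝ) - 1) • D.B := by
    have := D.B_sq
    rw [← hab] at this
    exact this
  have haba : D.A * D.B * D.A - D.B * D.A * D.B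
      = (Tm D.A D.B (D.a : ℝ) (D.a : ℝ) + (D.a : ℝ) • (1 : Matrix X X ℝ)) * (D.A - D.B) :=
    aba_sub_bab D.A_sq hBsq
  have hsub : (D.A - D.B) * (D.A - D.B)
      = ((D.a : ℝ) * D.a + 1) • (1 : Matrix X X ℝ) - Tm D.A D.B (D.a : ℝ) (D.a : ℝ) :=
    sub_sq D.A_sq hBsq
  have hT : Tm D.A D.B (D.a : ℝ) (D.a : ℝ) = D.T := by
    unfold T
    rw [← hab]
  rw [hT] at haba hsub
  have hL1T : L1 * D.T = D.T * L1 := aeval_comm_self D.T _
  -- W (A - B) = 0
  have hW : (D.T * L1 - ((D.a : ℝ) * D.b) • L0 + (D.a : ℝ) • L1) * (D.A - D.B) = 0 := by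
    have e : (D.T * L1 - ((D.a : ℝ) * D.b) • L0 + (D.a : ℝ) • L1) * (D.A - D.B)
        = L1 * ((D.T + (D.a : ℝ) • (1 : Matrix X X ℝ)) * (D.A - D.B))
          - ((D.a : ℝ) * D.b) • (L0 * (D.A - D.B)) := by
      rw [← hL1T]
      simp only [add_mul, sub_mul, mul_add, mul_sub, smul_mul_assoc, mul_smul_comm, one_mul,
        mul_one, mul_assoc, smul_sub, smul_add]
      abel
    rw [e, ← haba]
    have hb' := sub_eq_zero.mpr hbraid
    rw [← hb']
    simp only [add_mul, sub_mul, mul_add, mul_sub, smul_mul_assoc, mul_smul_comm, one_mul,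
      mul_one, mul_assoc, smul_sub, smul_add]
    abel
  unfold pOdd
  rw [map_mul, map_add, map_sub, map_mul, aeval_C, aeval_C, aeval_X, luc_add_two, map_sub, map_mul,
    map_mul, aeval_X, aeval_C, Algebra.algebraMap_eq_smul_one, Algebra.algebraMap_eq_smul_one,
    Algebra.algebraMap_eq_smul_one, smul_mul_assoc, smul_mul_assoc, one_mul, one_mul, ← hsub,
    ← mul_assoc, hW, zero_mul]

theorem pOdd_factor_natDegree (h : ℕ) (hh : 1 ≤ h) :
    (luc ((D.a : ℝ) * D.b) (h + 1) + C (D.a : ℝ) * luc ((D.a : ℝ) * D.b) h).natDegree = h := by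
  obtain ⟨k, rfl⟩ : ∃ k, h = k + 1 := ⟨h - 1, by omega⟩
  have h1 := luc_natDegree ((D.a : ℝ) * D.b) (k + 1)
  have h0 := luc_natDegree ((D.a : ℝ) * D.b) k
  have h2 : (C (D.a : ℝ) * luc ((D.a : ℝ) * D.b) (k + 1)).natDegree
      < (luc ((D.a : ℝ) * D.b) (k + 1 + 1)).natDegree := by
    have := natDegree_C_mul_le (D.a : ℝ) (luc ((D.a : ℝ) * D.b) (k + 1))
    omega
  rw [natDegree_add_eq_left_of_natDegree_lt h2, h1]

theorem pOdd_ne_zero (h : ℕ) (hh : 1 ≤ h) : D.pOdd h ≠ 0 := by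
  unfold pOdd
  refine mul_ne_zero ?_ ?_
  · intro h0
    have := D.pOdd_factor_natDegree h hh
    rw [h0, natDegree_zero] at this
    omega
  · intro h0
    have h1 : (Polynomial.X : ℝ[X]) = C ((D.a : ℝ) * D.a + 1) := by
      rw [sub_eq_zero] at h0; exact h0.symm
    have := congrArg natDegree h1
    rw [natDegree_X, natDegree_C] at this
    omega

theorem pOdd_natDegree_le (h : ℕ) (hh : 1 ≤ h) : (D.pOdd h).natDegree ≤ h + 1 := by
  unfold pOdd
  refine natDegree_mul_le.trans ?_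
  rw [D.pOdd_factor_natDegree h hh]
  have : (C ((D.a : ℝ) * D.a + 1) - Polynomial.X).natDegree ≤ 1 := by
    refine (natDegree_sub_le _ _).trans ?_
    rw [natDegree_C, natDegree_X]
    omega
  omega

theorem pOdd_isRoot (h : ℕ) (hh : 1 ≤ h) (hab : D.a = D.b) (φ : ℝ)
    (hsin : sin φ ≠ 0) (hodd : sin ((h + 1 : ℕ) * φ) + sin (h * φ) = 0) :
    (D.pOdd h).IsRoot (2 * (D.a : ℝ) * cos φ) := by
  obtain ⟨k, rfl⟩ : ∃ k, h = k + 1 := ⟨h - 1, by omega⟩
  unfold pOdd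
  rw [IsRoot, eval_mul]
  have hs : ((D.a : ℝ)) ^ 2 = (D.a : ℝ) * D.b := by rw [← hab]; ring
  have h1 := luc_eval_cos (D.a : ℝ) φ (k + 1)
  have h0 := luc_eval_cos (D.a : ℝ) φ k
  rw [hs] at h1 h0
  have h2 : (eval (2 * (D.a : ℝ) * cos φ) (luc ((D.a : ℝ) * D.b) (k + 1 + 1)
      + C (D.a : ℝ) * luc ((D.a : ℝ) * D.b) (k + 1))) * sin φ = 0 := by
    rw [eval_add, eval_mul, eval_C]
    linear_combination h1 + (D.a : ℝ) * h0 + (D.a : ℝ) ^ (k + 1) * hodd
  rw [(mul_eq_zero.mp h2).resolve_right hsin, zero_mul]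

/-- existence of the spectral idempotent, odd case -/
theorem exists_spec_odd (h : ℕ) (hm : D.m = 2 * h + 1) (φ : ℝ)
    (hsin : sin φ ≠ 0) (hodd : sin ((h + 1 : ℕ) * φ) + sin (h * φ) = 0) :
    Nonempty (Spec D (2 * (D.a : ℝ) * cos φ)) := by
  have hm2 := D.hm
  have hh : 1 ≤ h := by omega
  have hab := D.a_eq_b_of_odd h hm
  obtain ⟨g, h1, h2, h3⟩ := exists_idem D.T D.T_symm (D.pOdd h) (D.pOdd_ne_zero h hh)
    (D.aeval_pOdd h hm) (2 * (D.a : ℝ) * cos φ) (D.pOdd_isRoot h hh hab φ hsin hodd)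
    (fun f hf hdeg => D.aeval_T_ne_zero hf (by
      have := D.pOdd_natDegree_le h hh
      omega))
  exact ⟨⟨aeval D.T g, g, rfl, h1, h2, h3⟩⟩

end FHData

section oddsum

variable {D : FHData X} {θ : ℝ} (S : Spec D θ) (φ : ℝ)

/-- **multiplicity formula, odd case** -/
theorem mult_odd (hab : D.a = D.b) (hθ : θ = 2 * (D.a : ℝ) * cos φ) (hsin : sin φ ≠ 0)
    (h : ℕ) (hm : D.m = 2 * h + 1) (hodd : sin ((h + 1 : ℕ) * φ) + sin (h * φ) = 0) :
    2 * D.N * (2 * (D.a : ℝ) - θ) = S.d * (2 * h + 1) * ((D.a : ℝ) * D.a + 1 - θ) := by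
  have ha := D.a_pos
  have hs : (D.a : ℝ) ^ 2 = (D.a : ℝ) * D.b := by rw [← hab]; ring
  have hs' : (D.a : ℝ) ^ 2 = (D.swap.a : ℝ) * D.swap.b := by rw [hs]; exact mul_comm _ _
  have hbr : (D.b : ℝ) = D.a := by rw [hab]
  have P := parseval_t S
  have split1 : ∀ f : ℕ → ℝ, ∑ k ∈ range (2 * h + 1 + 1), f k
      = ∑ j ∈ range (h + 1), (f (2 * j) + f (2 * j + 1)) := by
    intro f
    rw [show 2 * h + 1 + 1 = 2 * (h + 1) by ring, sum_range_two_mul]
  have split2 : ∀ f : ℕ → ℝ, ∑ k ∈ Ico 1 (2 * h + 1), f k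
      = ∑ j ∈ range h, (f (2 * j) + f (2 * j + 1)) + f (2 * h) - f 0 := by
    intro f
    rw [sum_Ico_eq_sub _ (by omega : 1 ≤ 2 * h + 1), sum_range_succ, sum_range_two_mul,
      sum_range_one]
  rw [hm, split1, split2] at P
  set γ : ℝ := ((D.a : ℝ) - 1) ^ 2 / D.a with hγ
  have hE : ∀ j ∈ range (h + 1), (S.t (alt D.A D.B (2 * j))) ^ 2
      / fro (alt D.A D.B (2 * j)) (alt D.A D.B (2 * j)) = S.d ^ 2 * cos (j * φ) ^ 2 / D.N := by
    intro j hj
    exact F_even S (D.a : ℝ) φ ha hs hθ hsin j (by have := mem_range.mp hj; omega)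
  have hE' : ∀ j ∈ range h, (S.t (alt D.B D.A (2 * j))) ^ 2
      / fro (alt D.B D.A (2 * j)) (alt D.B D.A (2 * j)) = S.d ^ 2 * cos (j * φ) ^ 2 / D.N := by
    intro j hj
    exact F_even S.swap (D.a : ℝ) φ ha hs' hθ hsin j
      (by have := mem_range.mp hj; show 2 * j ≤ D.m; omega)
  have hO : ∀ j ∈ range (h + 1), (S.t (alt D.A D.B (2 * j + 1))) ^ 2
      / fro (alt D.A D.B (2 * j + 1)) (alt D.A D.B (2 * j + 1))
      = (S.d / 2) ^ 2 * γ / (D.N * sin φ ^ 2) * (sin (j * φ) + sin ((j + 1) * φ)) ^ 2 := by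
    intro j hj
    rw [F_odd' S (D.a : ℝ) φ ha hs hθ hsin j (by have := mem_range.mp hj; omega), hbr, hγ]
    field_simp
    ring
  have hO' : ∀ j ∈ range h, (S.t (alt D.B D.A (2 * j + 1))) ^ 2
      / fro (alt D.B D.A (2 * j + 1)) (alt D.B D.A (2 * j + 1))
      = (S.d / 2) ^ 2 * γ / (D.N * sin φ ^ 2) * (sin (j * φ) + sin ((j + 1) * φ)) ^ 2 := by
    intro j hj
    have h1 := F_odd' S.swap (D.a : ℝ) φ ha hs' hθ hsin j
      (by have := mem_range.mp hj; show 2 * j + 1 ≤ D.m; omega)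
    refine Eq.trans h1 ?_
    show (S.d / 2) ^ 2 * ((((D.a : ℝ) - 1) ^ 2 / D.a) * sin (j * φ) ^ 2
          + 2 * ((((D.b : ℝ) - 1) * ((D.a : ℝ) - 1)) / (D.a : ℝ)) * (sin (j * φ) * sin ((j + 1) * φ))
          + (((D.b : ℝ) - 1) ^ 2 / D.b) * sin ((j + 1) * φ) ^ 2) / (D.N * sin φ ^ 2) = _
    rw [hbr, hγ]
    field_simp
    ring
  have hEh : (S.t (alt D.B D.A (2 * h))) ^ 2
      / fro (alt D.B D.A (2 * h)) (alt D.B D.A (2 * h)) = S.d ^ 2 * cos (h * φ) ^ 2 / D.N :=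
    F_even S.swap (D.a : ℝ) φ ha hs' hθ hsin h (by show 2 * h ≤ D.m; omega)
  have hE0 : (S.t (alt D.B D.A 0)) ^ 2
      / fro (alt D.B D.A 0) (alt D.B D.A 0) = S.d ^ 2 / D.N := by
    have h0 := F_even S.swap (D.a : ℝ) φ ha hs' hθ hsin 0 (by omega)
    simp only [Nat.cast_zero, zero_mul, cos_zero, one_pow, mul_one, mul_zero] at h0
    exact h0
  rw [sum_add_distrib, sum_add_distrib, sum_congr rfl hE, sum_congr rfl hE', sum_congr rfl hO,
    sum_congr rfl hO', hEh, hE0] at P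
  -- trigonometric evaluations
  set Sh := sin ((h : ℝ) * φ) with hSh
  set Ch := cos ((h : ℝ) * φ) with hCh
  set c := cos φ with hc
  set σ := sin φ with hσ
  have hpyth : σ ^ 2 + c ^ 2 = 1 := sin_sq_add_cos_sq φ
  have hpythh : Sh ^ 2 + Ch ^ 2 = 1 := sin_sq_add_cos_sq _
  have hcast : ((h + 1 : ℕ) : ℝ) * φ = (h : ℝ) * φ + φ := by push_cast; ring
  have hS1 : sin ((h : ℝ) * φ + φ) = -Sh := by
    rw [hcast] at hodd
    linarith
  have hi : Ch * σ = -Sh * (1 + c) := by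
    rw [sin_add] at hS1
    linarith
  have hc1 : 1 + c ≠ 0 := by
    intro h0
    have : c = -1 := by linarith
    rw [this] at hpyth
    have : σ ^ 2 = 0 := by linarith
    exact hsin (pow_eq_zero_iff (by norm_num) |>.mp this)
  have hSh2 : 2 * Sh ^ 2 = 1 - c := by
    have h1 : Ch ^ 2 * σ ^ 2 = Sh ^ 2 * (1 + c) ^ 2 := by
      have h0 : (Ch * σ) ^ 2 = (-Sh * (1 + c)) ^ 2 := by rw [hi]
      linear_combination h0
    have h2 : (1 + c) * ((1 - c) - 2 * Sh ^ 2) = 0 := by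
      have e1 : Ch ^ 2 = 1 - Sh ^ 2 := by linarith
      have e2 : σ ^ 2 = (1 - c) * (1 + c) := by linarith
      rw [e1, e2] at h1
      linear_combination h1
    have := (mul_eq_zero.mp h2).resolve_left hc1
    linarith
  have hSC : Sh * Ch = -σ / 2 := by
    have h1 : Sh * Ch * σ = (-σ / 2) * σ := by
      have : Sh * Ch * σ = -Sh ^ 2 * (1 + c) := by
        rw [mul_assoc, hi]; ring
      rw [this]
      have e2 : σ ^ 2 = (1 - c) * (1 + c) := by linarith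
      have : Sh ^ 2 = (1 - c) / 2 := by linarith
      rw [this]
      linear_combination (1 / 2 : ℝ) * e2
    exact mul_right_cancel₀ hsin h1
  -- cosine sums
  have hCC1 : 2 * ∑ j ∈ range (h + 1), cos ((j : ℝ) * φ) ^ 2 = (h : ℝ) + 1 + 1 / 2 := by
    have := sum_cos_sq φ (h + 1)
    rw [hcast] at this
    have e : (h : ℝ) * φ + φ - φ = (h : ℝ) * φ := by ring
    rw [e, hS1] at this
    have h2 : σ * (2 * ∑ j ∈ range (h + 1), cos ((j : ℝ) * φ) ^ 2 - ((h + 1 : ℕ) : ℝ))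
        = σ * (1 / 2) := by
      rw [this]
      linear_combination -hSC
    have := mul_left_cancel₀ hsin h2
    push_cast at this
    linarith
  have hCC0 : ∑ j ∈ range (h + 1), cos ((j : ℝ) * φ) ^ 2
      = ∑ j ∈ range h, cos ((j : ℝ) * φ) ^ 2 + Ch ^ 2 := sum_range_succ _ _
  -- sine sums
  have hT1 : ∑ j ∈ range h, (sin ((j : ℝ) * φ) + sin (((j : ℝ) + 1) * φ)) ^ 2
      = ((h : ℝ) + 1 / 2) * (1 + c) := by
    have e : ∑ j ∈ range h, (sin ((j : ℝ) * φ) + sin (((j : ℝ) + 1) * φ)) ^ 2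
        = ∑ j ∈ range h, sin ((j : ℝ) * φ) ^ 2 + ∑ j ∈ range h, sin (((j : ℝ) + 1) * φ) ^ 2
          + 2 * ∑ j ∈ range h, sin ((j : ℝ) * φ) * sin (((j : ℝ) + 1) * φ) := by
      rw [mul_sum, ← sum_add_distrib, ← sum_add_distrib]
      apply sum_congr rfl
      intro j _
      ring
    rw [e]
    have h1 := sum_sin_sq φ h
    have h2 := sum_sin_succ_sq φ h
    have h3 := sum_sin_mul_sin φ h
    rw [cos_sub] at h1
    rw [cos_add] at h2
    have h4 : σ * (2 * (h : ℝ) * (1 + c) + (1 + c) - 2 * (∑ j ∈ range h, sin ((j : ℝ) * φ) ^ 2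
        + ∑ j ∈ range h, sin (((j : ℝ) + 1) * φ) ^ 2
        + 2 * ∑ j ∈ range h, sin ((j : ℝ) * φ) * sin (((j : ℝ) + 1) * φ))) = σ * 0 := by
      linear_combination h1 + h2 + 2 * h3 + 2 * (1 + c) * hSC
    have := mul_left_cancel₀ hsin h4
    linarith
  have hlast : (sin ((h : ℝ) * φ) + sin (((h : ℝ) + 1) * φ)) ^ 2 = 0 := by
    have : ((h : ℝ) + 1) * φ = (h : ℝ) * φ + φ := by ring
    rw [this, hS1]
    ring
  have hT1' : ∑ j ∈ range (h + 1), (sin ((j : ℝ) * φ) + sin (((j : ℝ) + 1) * φ)) ^ 2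
      = ((h : ℝ) + 1 / 2) * (1 + c) := by
    rw [sum_range_succ, hT1, hlast, add_zero]
  -- evaluate the sums in P
  have hsumE1 : ∑ j ∈ range (h + 1), S.d ^ 2 * cos ((j : ℝ) * φ) ^ 2 / D.N
      = S.d ^ 2 / D.N * ∑ j ∈ range (h + 1), cos ((j : ℝ) * φ) ^ 2 := by
    rw [mul_sum]
    apply sum_congr rfl
    intro j _
    ring
  have hsumE0 : ∑ j ∈ range h, S.d ^ 2 * cos ((j : ℝ) * φ) ^ 2 / D.N
      = S.d ^ 2 / D.N * ∑ j ∈ range h, cos ((j : ℝ) * φ) ^ 2 := by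
    rw [mul_sum]
    apply sum_congr rfl
    intro j _
    ring
  rw [hsumE1, hsumE0, ← mul_sum, ← mul_sum, hT1, hT1'] at P
  have hN := D.N_pos
  have hd := S.d_pos
  have hsin2 : σ ^ 2 ≠ 0 := pow_ne_zero _ hsin
  -- P : d = d²/N * CC(h+1) + K * T1 + (d²/N * CC(h) + K * T1 + d² Ch²/N - d²/N)
  have key : D.N * σ ^ 2 = S.d * (((h : ℝ) + 1 / 2) * σ ^ 2
      + γ / 4 * (2 * (h : ℝ) + 1) * (1 + c)) := by
    have hP4 : S.d * (D.N * σ ^ 2) = S.d * (S.d * (((h : ℝ) + 1 / 2) * σ ^ 2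
        + γ / 4 * (2 * (h : ℝ) + 1) * (1 + c))) := by
      have P' : S.d = S.d ^ 2 / D.N * ((h : ℝ) + 1 / 2)
          + 2 * ((S.d / 2) ^ 2 * γ / (D.N * σ ^ 2) * (((h : ℝ) + 1 / 2) * (1 + c))) := by
        linear_combination P + (S.d ^ 2 / D.N) * hCC1 - (S.d ^ 2 / D.N) * hCC0
      conv_lhs => rw [P']
      field_simp
      ring
    exact mul_left_cancel₀ hd.ne' hP4
  have e2 : σ ^ 2 = (1 - c) * (1 + c) := by linarith
  rw [e2] at key
  have key2 : (1 + c) * (D.N * (1 - c)) = (1 + c) * (S.d * (((h : ℝ) + 1 / 2) * (1 - c)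
      + γ / 4 * (2 * (h : ℝ) + 1))) := by
    linear_combination key
  have key3 := mul_left_cancel₀ hc1 key2
  have hγa : γ * D.a = ((D.a : ℝ) - 1) ^ 2 := by
    rw [hγ]; field_simp
  subst hθ
  have key4 : D.N * (1 - c) * (4 * D.a) = S.d * (((h : ℝ) + 1 / 2) * (1 - c) * (4 * D.a)
      + (γ * D.a) * (2 * (h : ℝ) + 1)) := by
    rw [key3]; ring
  rw [hγa] at key4
  linear_combination key4

end oddsum

namespace FHData

variable (D : FHData X)

/-- **odd case**: `m = 2h+1` implies `h ≤ 1` -/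
theorem odd_case (h : ℕ) (hm : D.m = 2 * h + 1) : h ≤ 1 := by
  by_contra hcon
  push Not at hcon
  have ha := D.a_pos
  have ha2 : (2 : ℝ) ≤ D.a := by exact_mod_cast D.ha
  have hab := D.a_eq_b_of_odd h hm
  have hh2 : (2 : ℝ) ≤ h := by exact_mod_cast hcon
  set mm : ℝ := 2 * (h : ℝ) + 1 with hmm
  have hmm5 : (5 : ℝ) ≤ mm := by rw [hmm]; linarith
  have hmm0 : (0 : ℝ) < mm := by linarith
  set φ : ℝ := 2 * π / mm with hφ
  have hφ0 : 0 < φ := by rw [hφ]; positivity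
  have hφ2 : φ < π / 2 := by
    rw [hφ, div_lt_div_iff₀ hmm0 (by norm_num)]
    nlinarith [pi_pos]
  have hφπ : φ < π := by linarith [pi_pos]
  have hsin : sin φ ≠ 0 := (sin_pos_of_pos_of_lt_pi hφ0 hφπ).ne'
  have hmφ : mm * φ = 2 * π := by rw [hφ]; field_simp
  have hodd : sin ((h + 1 : ℕ) * φ) + sin (h * φ) = 0 := by
    have e : ((h + 1 : ℕ) : ℝ) * φ = 2 * π - (h : ℝ) * φ := by
      push_cast
      rw [hmm] at hmφ
      linarith
    rw [e, sin_two_pi_sub]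
    ring
  obtain ⟨S⟩ := D.exists_spec_odd h hm φ hsin hodd
  obtain ⟨d, hd, hSd⟩ := S.d_nat
  have E := mult_odd S φ hab rfl hsin h hm hodd
  rw [hSd] at E
  have hN := D.N_pos
  have hdr : (0 : ℝ) < d := by exact_mod_cast hd
  -- θ is rational
  have hθrat : ∃ r : ℚ, 2 * (D.a : ℝ) * cos φ = r := by
    by_cases hΔ : (d : ℝ) * (2 * h + 1) - 2 * D.N = 0
    · exfalso
      have h1 : 2 * D.N * ((D.a : ℝ) - 1) ^ 2 = 0 := by
        have : (d : ℝ) * (2 * h + 1) = 2 * D.N := by linarith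
        rw [this] at E
        linear_combination -E
      have h2 : ((D.a : ℝ) - 1) ^ 2 = 0 := by
        rcases mul_eq_zero.mp h1 with h | h
        · exfalso; linarith
        · exact h
      have : (D.a : ℝ) - 1 = 0 := pow_eq_zero_iff (by norm_num) |>.mp h2
      linarith
    · refine ⟨((d : ℚ) * (2 * h + 1) * ((D.a : ℚ) * D.a + 1) - 4 * D.a * (Fintype.card X : ℚ))
        / ((d : ℚ) * (2 * h + 1) - 2 * (Fintype.card X : ℚ)), ?_⟩
      push_cast
      have hΔ' : (d : ℝ) * (2 * h + 1) - 2 * (Fintype.card X : ℝ) ≠ 0 := hΔ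
      rw [eq_div_iff hΔ']
      have E' : 2 * (Fintype.card X : ℝ) * (2 * (D.a : ℝ) - 2 * (D.a : ℝ) * cos φ)
          = d * (2 * h + 1) * ((D.a : ℝ) * D.a + 1 - 2 * (D.a : ℝ) * cos φ) := E
      linear_combination E'
  obtain ⟨r, hr⟩ := hθrat
  have hcos_rat : ∃ q : ℚ, cos φ = q := by
    refine ⟨r / (2 * D.a), ?_⟩
    push_cast
    rw [← hr]
    field_simp
  have hangle : ∃ r : ℚ, φ = r * π := by
    refine ⟨2 / (2 * h + 1), ?_⟩
    push_cast
    rw [hφ, hmm]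
    ring
  have hniven := niven hangle hcos_rat
  have h1 : cos φ < 1 := by
    have : cos φ < cos 0 := by
      apply cos_lt_cos_of_nonneg_of_le_pi le_rfl hφπ.le hφ0
    rwa [cos_zero] at this
  have h2 : 0 < cos φ := cos_pos_of_mem_Ioo ⟨by linarith [pi_pos], hφ2⟩
  simp only [Set.mem_insert_iff, Set.mem_singleton_iff] at hniven
  have hhalf : cos φ = 1 / 2 := by
    rcases hniven with h | h | h | h | h <;> linarith
  -- hence φ = π/3, so m = 6
  have hinj : φ = π / 3 := by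
    apply injOn_cos ⟨hφ0.le, hφπ.le⟩ ⟨by positivity, by linarith [pi_pos]⟩
    rw [hhalf, cos_pi_div_three]
  have hm6 : mm = 6 := by
    have : mm * (π / 3) = 2 * π := by rw [← hinj]; exact hmφ
    have hpi := pi_pos
    have : π * (mm - 6) = 0 := by linarith
    have := (mul_eq_zero.mp this).resolve_left hpi.ne'
    linarith
  have : (2 * h + 1 : ℕ) = 6 := by
    have : ((2 * h + 1 : ℕ) : ℝ) = 6 := by push_cast; rw [← hmm]; exact hm6
    exact_mod_cast this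
  omega

end FHData

end Cfsg.Agent.Lib.Helper7.FH
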