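import Mathlib
import Cfsg.Agent.Lib.Helper7.FHOdd

/-!
# Feit–Higman, part II: the linear-algebra theorem

From the data `FHData` (two symmetric matrices with the Hecke quadratic relations, the braid relation
of length `m`, and orthogonality of the `2m` alternating products) it follows that
`m ∈ {2, 3, 4, 6, 8}`.  (helper7)
-/

set_option autoImplicit false

namespace Cfsg.Agent.Lib.Helper7.FH

variable {X : Type*} [Fintype X] [DecidableEq X]

theorem FHData.m_mem (D : FHData X) : D.m = 2 ∨ D.m = 3 ∨ D.m = 4 ∨ D.m = 6 ∨ D.m = 8 := by
  have hm := D.hm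
  rcases Nat.even_or_odd' D.m with ⟨h, hh | hh⟩
  · have := D.even_case h hh
    omega
  · have := D.odd_case h hh
    omega

end Cfsg.Agent.Lib.Helper7.FH
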