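import Mathlib
import Cfsg.Agent.Lib.Helper7.FHBN3
import Cfsg.Agent.Lib.Helper7.FHMain

/-!
# Feit–Higman, part I.4: the data attached to a rank 2 (B,N)-pair, and the theorem

(helper7, on top of helper5's (B,N)-pair library)
-/

set_option autoImplicit false

namespace Cfsg.Agent.Lib.Helper7.FH

open Cfsg Cfsg.Agent.Lib.Helper5.BN Matrix Finset

variable {G : Type*} [Group G] (P : BNPair G) [Fintype (G ⧸ P.B)] [DecidableEq (G ⧸ P.B)]

theorem alt_Aw {σ τ : W P} (hσ : σ ∈ Sbar P) (hτ : τ ∈ Sbar P) (m : ℕ)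
    (hlen1 : ∀ k, k ≤ m → len P (alt σ τ k) = k) (hlen2 : ∀ k, k ≤ m → len P (alt τ σ k) = k) :
    ∀ k, k ≤ m → alt (Aw P σ) (Aw P τ) k = Aw P (alt σ τ k)
      ∧ alt (Aw P τ) (Aw P σ) k = Aw P (alt τ σ k) := by
  intro k
  induction k with
  | zero =>
    intro _
    simp only [alt_zero]
    exact ⟨(Aw_one P).symm, (Aw_one P).symm⟩
  | succ k ih =>
    intro hk
    obtain ⟨ih1, ih2⟩ := ih (by omega)
    constructor
    · rw [alt_succ, ih2, alt_succ]
      apply Aw_mul P hσ
      rw [← alt_succ, hlen1 (k + 1) hk, hlen2 k (by omega)]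
      omega
    · rw [alt_succ, ih1, alt_succ]
      apply Aw_mul P hτ
      rw [← alt_succ, hlen2 (k + 1) hk, hlen1 k (by omega)]
      omega

omit [DecidableEq (G ⧸ P.B)] in
theorem rr_one [Nonempty (G ⧸ P.B)] : rr P 1 = 1 := by
  classical
  obtain ⟨x⟩ := ‹Nonempty (G ⧸ P.B)›
  have h := row_sum P 1 x
  rw [Aw_one] at h
  have h2 : ∑ y, (1 : Matrix (G ⧸ P.B) (G ⧸ P.B) ℝ) x y = 1 := by
    simp [Matrix.one_apply]
  rw [h2] at h
  exact_mod_cast h.symm

omit [DecidableEq (G ⧸ P.B)] in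
theorem rr_alt [Nonempty (G ⧸ P.B)] {σ τ : W P} (hσ : σ ∈ Sbar P) (hτ : τ ∈ Sbar P) (m : ℕ)
    (hlen1 : ∀ k, k ≤ m → len P (alt σ τ k) = k) (hlen2 : ∀ k, k ≤ m → len P (alt τ σ k) = k) :
    ∀ k, k ≤ m → rr P (alt σ τ k) = rr P σ ^ ((k + 1) / 2) * rr P τ ^ (k / 2)
      ∧ rr P (alt τ σ k) = rr P τ ^ ((k + 1) / 2) * rr P σ ^ (k / 2) := by
  intro k
  induction k with
  | zero =>
    intro _
    simp only [alt_zero]
    rw [rr_one]
    simp
  | succ k ih =>
    intro hk
    obtain ⟨ih1, ih2⟩ := ih (by omega)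
    have e : (k + 1 + 1) / 2 = k / 2 + 1 := by omega
    constructor
    · rw [alt_succ, rr_mul P hσ, ih2, e, pow_succ]
      · ring
      · rw [← alt_succ, hlen1 (k + 1) hk, hlen2 k (by omega)]
        omega
    · rw [alt_succ, rr_mul P hτ, ih1, e, pow_succ]
      · ring
      · rw [← alt_succ, hlen2 (k + 1) hk, hlen1 k (by omega)]
        omega

/-- the Feit–Higman data of a rank two (B,N)-pair -/
noncomputable def bnData [Finite G] [Nonempty (G ⧸ P.B)] {σ τ : W P} (hσ : σ ∈ Sbar P)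
    (hτ : τ ∈ Sbar P) (hne : σ ≠ τ) (hS : Sbar P = {σ, τ}) : FHData (G ⧸ P.B) :=
  have W2 := weyl_rank_two P hσ hτ hne hS
  have hA := alt_Aw P hσ hτ (orderOf (σ * τ)) W2.2.2.1 W2.2.2.2.1
  have hR := rr_alt P hσ hτ (orderOf (σ * τ)) W2.2.2.1 W2.2.2.2.1
  { a := rr P σ
    b := rr P τ
    m := orderOf (σ * τ)
    A := Aw P σ
    B := Aw P τ
    ha := rr_ge_two P hσ
    hb := rr_ge_two P hτ
    hm := W2.1
    hX := inferInstance
    A_symm := by rw [Aw_transpose, Sbar_inv P hσ]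
    B_symm := by rw [Aw_transpose, Sbar_inv P hτ]
    A_sq := Aw_sq P hσ
    B_sq := Aw_sq P hτ
    braid := by
      rw [(hA _ le_rfl).1, (hA _ le_rfl).2, W2.2.2.2.2.1]
    orth_same := by
      intro k l hk hl hkl
      rw [(hA k hk).1, (hA l hl).1]
      apply fro_Aw_ne
      intro h
      have := congrArg (len P) h
      rw [W2.2.2.1 k hk, W2.2.2.1 l hl] at this
      exact hkl this
    orth_same' := by
      intro k l hk hl hkl
      rw [(hA k hk).2, (hA l hl).2]
      apply fro_Aw_ne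
      intro h
      have := congrArg (len P) h
      rw [W2.2.2.2.1 k hk, W2.2.2.2.1 l hl] at this
      exact hkl this
    orth_cross := by
      intro k l hk hl h0 hm
      rw [(hA k hk).1, (hA l hl).2]
      apply fro_Aw_ne
      intro h
      have hlen := congrArg (len P) h
      rw [W2.2.2.1 k hk, W2.2.2.2.1 l hl] at hlen
      subst hlen
      have hk0 : 0 < k := by
        rcases Nat.eq_zero_or_pos k with h | h
        · exact absurd ⟨h, h⟩ h0
        · exact h
      have hkm : k < orderOf (σ * τ) := by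
        rcases Nat.lt_or_ge k (orderOf (σ * τ)) with h | h
        · exact h
        · exact absurd ⟨le_antisymm hk h, le_antisymm hk h⟩ hm
      exact W2.2.2.2.2.2 k hk0 hkm h
    norm := by
      intro k hk
      rw [(hA k hk).1, fro_Aw_self, (hR k hk).1]
      push_cast
      ring
    norm' := by
      intro k hk
      rw [(hA k hk).2, fro_Aw_self, (hR k hk).2]
      push_cast
      ring }

/-- **Feit–Higman** for rank two (B,N)-pairs -/
theorem feit_higman {G : Type*} [Group G] [Finite G] (P : BNPair G) (h2 : P.rank = 2) :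
    Nat.card (W P) ∈ ({4, 6, 8, 12, 16} : Set ℕ) := by
  classical
  haveI : Fintype (G ⧸ P.B) := Fintype.ofFinite _
  haveI : Nonempty (G ⧸ P.B) := ⟨QuotientGroup.mk 1⟩
  obtain ⟨σ, τ, hσ, hτ, hne, hS⟩ := exists_two_gens P h2
  have W2 := weyl_rank_two P hσ hτ hne hS
  have hm := (bnData P hσ hτ hne hS).m_mem
  have hmdef : (bnData P hσ hτ hne hS).m = orderOf (σ * τ) := rfl
  rw [hmdef] at hm
  rw [W2.2.1]
  simp only [Set.mem_insert_iff, Set.mem_singleton_iff]
  omega

end Cfsg.Agent.Lib.Helper7.FH
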