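import Mathlib
import Cfsg.Prelude.Def_Characters
import Cfsg.Agent.Lib.Helper7.FTLem3

set_option autoImplicit false
set_option linter.style.haveILetI false
set_option linter.unusedSectionVars false

namespace Cfsg.Agent.Lib.Helper7.FT

open Cfsg Cfsg.Agent.Lib.helper3.Irr Cfsg.Agent.Lib.helper3.CharBasic
open Cfsg.Agent.Lib.helper3.IndFun Cfsg.Agent.Lib.helper3.Central
open scoped ComplexConjugate
open Classical

variable {G : Type*} [Group G] [Fintype G] (H : Subgroup G) [Fintype H]

theorem avg_one_eq_classInner (χ : G → ℂ) :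
    avg H χ 1 = classInner (fun h : H => χ h) (fun _ => 1) := by
  rw [avg_apply, classInner_apply]
  simp

/-- The Feit-Thompson lemma, part (a). -/
theorem part_a (hab : ∀ a ∈ H, ∀ b ∈ H, a * b = b * a)
    (hZ : H ⊓ Subgroup.center G = ⊥) (hone : OneConj H) {χ : G → ℂ} (hχ : IsIrrCharacter G χ)
    (hker : ∃ h ∈ H, χ h ≠ χ 1) :
    (Nat.card H : ℝ) * (classInner (fun h : H => χ h) (fun _ => 1)).re ^ 2 < (χ 1).re ^ 2 := by
  have h1 := card_mul_normSq_avg_lt H hab hZ hone hχ hker
  rw [avg_one_eq_classInner] at h1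
  obtain ⟨d, _, hd⟩ := exists_pos_nat_apply_one hχ
  have h2 : Complex.normSq (χ 1) = (χ 1).re ^ 2 := by
    rw [hd, Complex.normSq_natCast, Complex.natCast_re]
    ring
  rw [h2] at h1
  refine lt_of_le_of_lt ?_ h1
  apply mul_le_mul_of_nonneg_left _ (Nat.cast_nonneg _)
  rw [Complex.normSq_apply]
  nlinarith [mul_self_nonneg (classInner (fun h : H => χ h) (fun _ => 1)).im]

/-- An irreducible character trivial on a subgroup contained in no proper normal subgroup is
the principal character. -/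
theorem eq_one_of_forall_apply_eq {ξ : G → ℂ} (hξ : IsIrrCharacter G ξ)
    (hH : ∀ h ∈ H, ξ h = ξ 1) (hnorm : ∀ M : Subgroup G, M.Normal → H ≤ M → M = ⊤) :
    ξ = fun _ => 1 := by
  have hchar := isCharacter_of_isIrrCharacter hξ
  have hcf := isClassFunction_of_isCharacter hchar
  set K : Subgroup G :=
    { carrier := {g | ξ g = ξ 1}
      one_mem' := rfl
      mul_mem' := by
        intro a b ha hb
        simp only [Set.mem_ofPred_eq] at ha hb ⊢
        rw [apply_mul_of_apply_eq_one hchar hb a, ha]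
      inv_mem' := by
        intro a ha
        simp only [Set.mem_ofPred_eq] at ha ⊢
        have := apply_mul_of_apply_eq_one hchar ha a⁻¹
        rw [inv_mul_cancel] at this
        exact this.symm } with hK
  have hKn : K.Normal := by
    constructor
    intro a ha g
    show ξ (g * a * g⁻¹) = ξ 1
    rw [hcf a g]
    exact ha
  have hKtop := hnorm K hKn (fun h hh => hH h hh)
  have hall : ∀ g : G, ξ g = ξ 1 := by
    intro g
    have : g ∈ K := by rw [hKtop]; exact Subgroup.mem_top g
    exact this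
  have h1 := irr_classInner_eq hξ (isIrrCharacter_one (G := G))
  by_contra hne
  rw [if_neg hne, classInner_apply] at h1
  simp only [map_one, mul_one] at h1
  rw [Finset.sum_congr rfl (fun g _ => hall g), Finset.sum_const, Finset.card_univ, nsmul_eq_mul,
    ← Nat.card_eq_fintype_card, ← mul_assoc, inv_mul_cancel₀ (card_ne_zero_complex G), one_mul] at h1
  exact apply_one_ne_zero hξ h1

/-- The Feit-Thompson lemma, part (b). -/
theorem part_b (hab : ∀ a ∈ H, ∀ b ∈ H, a * b = b * a)
    (hZ : H ⊓ Subgroup.center G = ⊥) (hone : OneConj H) {χ : G → ℂ} (hχ : IsIrrCharacter G χ)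
    (hχ1 : χ 1 ≠ 1) (hnorm : ∀ M : Subgroup G, M.Normal → H ≤ M → M = ⊤) :
    (Nat.card H : ℝ) < (1 + (χ 1).re) ^ 2 := by
  by_contra hle
  push Not at hle
  obtain ⟨d, hdpos, hd⟩ := exists_pos_nat_apply_one hχ
  have hd1 : d ≠ 1 := by
    rintro rfl
    apply hχ1
    rw [hd]
    simp
  have hd2 : 2 ≤ d := by omega
  rw [hd, Complex.natCast_re] at hle
  have hle' : (d + 1) ^ 2 ≤ Nat.card H := by
    have : ((1 : ℝ) + d) ^ 2 = (((d + 1) ^ 2 : ℕ) : ℝ) := by push_cast; ring
    rw [this] at hle
    exact_mod_cast hle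
  have hchar := isCharacter_of_isIrrCharacter hχ
  set one : IrrCharacter G := ⟨fun _ => 1, isIrrCharacter_one⟩ with hone'
  set oneH : IrrCharacter H := ⟨fun _ => 1, isIrrCharacter_one⟩ with honeH
  have hdd : ∀ ξ : IrrCharacter G, ∃ n : ℕ, 0 < n ∧ (ξ : G → ℂ) 1 = n :=
    fun ξ => exists_pos_nat_apply_one ξ.2
  choose dd hddpos hdd using hdd
  have hk : ∀ ξ : IrrCharacter G, ∃ n : ℕ,
      classInner (fun h : H => (ξ : G → ℂ) h) (fun _ => 1) = n :=
    fun ξ => exists_nat_classInner_of_isCharacter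
      (isCharacter_restrict (isCharacter_of_isIrrCharacter ξ.2) H) oneH
  choose k hk using hk
  -- the key inequality
  have hkey : ∀ ξ : IrrCharacter G, ξ ≠ one → (d + 1) * k ξ + 1 ≤ dd ξ := by
    intro ξ hξ
    have hex : ∃ h ∈ H, (ξ : G → ℂ) h ≠ (ξ : G → ℂ) 1 := by
      by_contra hcon
      push Not at hcon
      apply hξ
      apply Subtype.ext
      exact eq_one_of_forall_apply_eq H ξ.2 hcon hnorm
    have h1 := part_a H hab hZ hone ξ.2 hex
    rw [hk ξ, hdd ξ, Complex.natCast_re, Complex.natCast_re] at h1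
    have h2 : Nat.card H * k ξ ^ 2 < dd ξ ^ 2 := by exact_mod_cast h1
    have h3 : ((d + 1) * k ξ) ^ 2 < dd ξ ^ 2 := by
      calc ((d + 1) * k ξ) ^ 2 = (d + 1) ^ 2 * k ξ ^ 2 := by ring
        _ ≤ Nat.card H * k ξ ^ 2 := Nat.mul_le_mul_right _ hle'
        _ < dd ξ ^ 2 := h2
    have h4 : (d + 1) * k ξ < dd ξ := lt_of_pow_lt_pow_left₀ 2 (Nat.zero_le _) h3
    omega
  -- decompose `χ χ̄`
  have hΦchar : IsCharacter G (χ * fun g => conj (χ g)) :=
    isCharacter_mul hchar (isCharacter_conj hchar)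
  obtain ⟨m, hm⟩ := exists_decomposition_of_isCharacter hΦchar
  have hm1 : m one = 1 := by
    have h1 := classInner_decomposition_left (fun ξ => (m ξ : ℂ)) one
    rw [← hm] at h1
    have h2 : classInner (χ * fun g => conj (χ g)) (one : G → ℂ) = classInner χ χ := by
      rw [classInner_apply, classInner_apply]
      congr 1
      apply Finset.sum_congr rfl
      intro g _
      simp [hone']
    rw [h2, irr_classInner_self hχ] at h1
    exact_mod_cast h1.symm
  have hE1 : d ^ 2 = ∑ ξ : IrrCharacter G, m ξ * dd ξ := by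
    have h1 := congrFun hm 1
    simp only [Pi.mul_apply, Finset.sum_apply, Pi.smul_apply, smul_eq_mul] at h1
    rw [hd, Complex.conj_natCast] at h1
    have h2 : ∑ ξ : IrrCharacter G, (m ξ : ℂ) * (ξ : G → ℂ) 1
        = ((∑ ξ : IrrCharacter G, m ξ * dd ξ : ℕ) : ℂ) := by
      push_cast
      apply Finset.sum_congr rfl
      intro ξ _
      rw [hdd ξ]
    rw [h2] at h1
    have h3 : ((d ^ 2 : ℕ) : ℂ) = ((∑ ξ : IrrCharacter G, m ξ * dd ξ : ℕ) : ℂ) := by
      rw [← h1]; push_cast; ring
    exact_mod_cast h3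
  -- restriction to `H`
  have hresH : IsCharacter H (fun h : H => χ h) := isCharacter_restrict hchar H
  obtain ⟨μ, hμ⟩ := exists_decomposition_of_isCharacter hresH
  have hHcomm : ∀ a b : H, a * b = b * a := by
    intro a b
    apply Subtype.ext
    exact hab a a.2 b b.2
  have hE3 : d = ∑ l : IrrCharacter H, μ l := by
    have h1 := congrFun hμ 1
    simp only [Finset.sum_apply, Pi.smul_apply, smul_eq_mul, OneMemClass.coe_one] at h1
    rw [hd] at h1
    have h2 : ∑ l : IrrCharacter H, (μ l : ℂ) * (l : H → ℂ) 1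
        = ((∑ l : IrrCharacter H, μ l : ℕ) : ℂ) := by
      push_cast
      apply Finset.sum_congr rfl
      intro l _
      rw [apply_one_eq_one_of_comm hHcomm l.2, mul_one]
    rw [h2] at h1
    exact_mod_cast h1
  have hE2 : ∑ l : IrrCharacter H, μ l ^ 2 = ∑ ξ : IrrCharacter G, m ξ * k ξ := by
    have h1 := classInner_self_decomposition μ
    rw [← hμ] at h1
    have h2 : classInner (fun h : H => χ h) (fun h : H => χ h)
        = ((∑ ξ : IrrCharacter G, m ξ * k ξ : ℕ) : ℂ) := by
      rw [classInner_apply]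
      have h3 : ∀ h ∈ (Finset.univ : Finset H), χ h * conj (χ h)
          = ∑ ξ : IrrCharacter G, (m ξ : ℂ) * (ξ : G → ℂ) h := by
        intro h _
        have := congrFun hm h
        simp only [Pi.mul_apply, Finset.sum_apply, Pi.smul_apply, smul_eq_mul] at this
        exact this
      rw [Finset.sum_congr rfl h3, Finset.sum_comm, Finset.mul_sum]
      push_cast
      apply Finset.sum_congr rfl
      intro ξ _
      rw [← hk ξ, classInner_apply, ← Finset.mul_sum]
      simp only [map_one, mul_one]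
      ring
    rw [h2] at h1
    exact_mod_cast h1.symm
  have hE4 : ∑ l : IrrCharacter H, μ l ≤ ∑ l : IrrCharacter H, μ l ^ 2 := by
    apply Finset.sum_le_sum
    intro l _
    nlinarith [Nat.zero_le (μ l)]
  -- the principal character
  have hk1 : k one = 1 := by
    have h1 := hk one
    have h2 : classInner (fun h : H => (one : G → ℂ) h) (fun _ => 1) = 1 := by
      simp only [hone']
      exact classInner_one_one
    rw [h2] at h1
    exact_mod_cast h1.symm
  have hdd1 : dd one = 1 := by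
    have h1 := hdd one
    simp only [hone'] at h1
    exact_mod_cast h1.symm
  -- split the sums
  have hs1 := Finset.add_sum_erase Finset.univ (fun ξ => m ξ * dd ξ) (Finset.mem_univ one)
  have hs2 := Finset.add_sum_erase Finset.univ (fun ξ => m ξ * k ξ) (Finset.mem_univ one)
  simp only [hm1, hk1, hdd1] at hs1 hs2
  have hs3 : ∑ ξ ∈ Finset.univ.erase one, (m ξ * ((d + 1) * k ξ) + m ξ)
      ≤ ∑ ξ ∈ Finset.univ.erase one, m ξ * dd ξ := by
    apply Finset.sum_le_sum
    intro ξ hξ
    have := hkey ξ (Finset.ne_of_mem_erase hξ)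
    nlinarith [Nat.zero_le (m ξ)]
  rw [Finset.sum_add_distrib] at hs3
  have hs4 : ∑ ξ ∈ Finset.univ.erase one, m ξ * ((d + 1) * k ξ)
      = (d + 1) * ∑ ξ ∈ Finset.univ.erase one, m ξ * k ξ := by
    rw [Finset.mul_sum]
    apply Finset.sum_congr rfl
    intro ξ _
    ring
  rw [hs4] at hs3
  set R := ∑ ξ ∈ Finset.univ.erase one, m ξ * dd ξ with hR
  set Q := ∑ ξ ∈ Finset.univ.erase one, m ξ * k ξ with hQ
  set M := ∑ ξ ∈ Finset.univ.erase one, m ξ with hM
  have hQd : d ≤ 1 + Q := by
    rw [hs2, ← hE2]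
    rw [hE3]
    exact hE4
  have hRd : d ^ 2 = 1 * 1 + R := by rw [hs1, hE1]
  have hM0 : M = 0 := by
    have h1 : (d + 1) * (d - 1) ≤ (d + 1) * Q := Nat.mul_le_mul_left _ (by omega)
    have h2 : (d + 1) * (d - 1) + 1 = d ^ 2 := by
      obtain ⟨e, rfl⟩ : ∃ e, d = e + 2 := ⟨d - 2, by omega⟩
      have : e + 2 - 1 = e + 1 := by omega
      rw [this]
      ring
    omega
  have hR0 : R = 0 := by
    rw [hR]
    apply Finset.sum_eq_zero
    intro ξ hξ
    have : m ξ = 0 := (Finset.sum_eq_zero_iff.mp hM0) ξ hξ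
    rw [this, zero_mul]
  rw [hR0] at hRd
  have : d ^ 2 = 1 := by omega
  have : d = 1 := by
    rcases Nat.eq_zero_or_pos d with h | h
    · omega
    · nlinarith
  exact hd1 this

end Cfsg.Agent.Lib.Helper7.FT
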