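import Mathlib
import Cfsg.Agent.Lib.Helper7.ItoP5
import Cfsg.Agent.Lib.Helper7.FTLem2

set_option autoImplicit false
set_option linter.style.haveILetI false
set_option linter.unusedSectionVars false

namespace Cfsg.Agent.Lib.Helper7.FTN

open Cfsg.Agent.Lib.Helper7.ItoP Cfsg.Agent.Lib.Helper7.FT
open scoped Pointwise

universe u

variable {G : Type u} [Group G] {p : ℕ}

/-- All Sylow `p`-subgroups are normal. -/
def AllNormal (p : ℕ) (A : Type*) [Group A] : Prop :=
  ∀ Q : Sylow p A, (Q : Subgroup A).Normal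

theorem AllNormal.of_mulEquiv {A B : Type*} [Group A] [Group B] [Finite B] [Fact p.Prime]
    (e : A ≃* B) (h : AllNormal p A) : AllNormal p B := by
  intro Q
  have h1 : ((Q : Subgroup B).map e.symm.toMonoidHom).Normal :=
    h (Sylow.mapSurjective (f := e.symm.toMonoidHom) e.symm.surjective Q)
  have h2 := h1.map e.toMonoidHom e.surjective
  rw [Subgroup.map_map] at h2
  have : e.toMonoidHom.comp e.symm.toMonoidHom = MonoidHom.id B := by
    ext x
    simp
  rw [this, Subgroup.map_id] at h2
  exact h2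

theorem coe_smul_sylow (P : Sylow p G) (c : G) :
    ((c • P : Sylow p G) : Subgroup G) = (P : Subgroup G).map (MulAut.conj c).toMonoidHom := rfl

/-- In a minimal group with abelian Sylow `p`-subgroups, distinct Sylow subgroups meet in the
centre. -/
theorem inf_le_center_of_minNN [Finite G] (hp : p.Prime) (hmin : MinNN p G)
    (hab : ∀ R : Sylow p G, ∀ a ∈ (R : Subgroup G), ∀ b ∈ (R : Subgroup G), a * b = b * a)
    (R₁ R₂ : Sylow p G) (hne : R₁ ≠ R₂) :
    (R₁ : Subgroup G) ⊓ (R₂ : Subgroup G) ≤ Subgroup.center G := by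
  haveI := Fact.mk hp
  set D := (R₁ : Subgroup G) ⊓ (R₂ : Subgroup G) with hD
  set C := Subgroup.centralizer (D : Set G) with hC
  have h1 : (R₁ : Subgroup G) ≤ C := by
    intro a ha
    rw [Subgroup.mem_centralizer_iff]
    intro d hd
    exact hab R₁ d hd.1 a ha
  have h2 : (R₂ : Subgroup G) ≤ C := by
    intro a ha
    rw [Subgroup.mem_centralizer_iff]
    intro d hd
    exact hab R₂ d hd.2 a ha
  have hCtop : C = ⊤ := by
    by_contra hCne
    apply hne
    have hn := hmin C hCne (R₁.subtype h1)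
    haveI := Sylow.unique_of_normal _ hn
    have he : R₁.subtype h1 = R₂.subtype h2 := Subsingleton.elim _ _
    apply Sylow.ext
    have := congrArg (fun S : Sylow p C => (S : Subgroup C).map C.subtype) he
    simp only [Sylow.coe_subtype, Subgroup.map_subgroupOf_eq_of_le h1,
      Subgroup.map_subgroupOf_eq_of_le h2] at this
    exact this
  intro d hd
  rw [Subgroup.mem_center_iff]
  intro g
  have : g ∈ C := hCtop ▸ Subgroup.mem_top g
  exact (Subgroup.mem_centralizer_iff.1 this d hd).symm

theorem inf_center_eq_bot [Finite G] [Fact p.Prime] (P : Sylow p G)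
    (hZ : (P : Subgroup G) ⊓ Subgroup.center G = ⊥) (R : Sylow p G) :
    (R : Subgroup G) ⊓ Subgroup.center G = ⊥ := by
  obtain ⟨c, rfl⟩ := MulAction.exists_smul_eq G P R
  rw [eq_bot_iff]
  intro y hy
  rw [← hZ]
  refine ⟨?_, hy.2⟩
  have h1 := hy.1
  rw [coe_smul_sylow] at h1
  obtain ⟨w, hw, hwy⟩ := h1
  have h2 : w = y := by
    have : y = c * w * c⁻¹ := hwy.symm
    have hyc := (Subgroup.mem_center_iff.1 hy.2) c
    rw [this]
    rw [this] at hyc
    calc w = c⁻¹ * ((c * w * c⁻¹) * c) := by group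
      _ = c⁻¹ * (c * (c * w * c⁻¹)) := by rw [hyc]
      _ = c * w * c⁻¹ := by group
  rw [← h2]
  exact hw

/-- In a minimal group whose abelian Sylow `p`-subgroups meet the centre trivially, the
hypothesis of the Feit-Thompson lemma holds. -/
theorem oneConj_of_minNN [Finite G] (hp : p.Prime) (hmin : MinNN p G)
    (hab : ∀ R : Sylow p G, ∀ a ∈ (R : Subgroup G), ∀ b ∈ (R : Subgroup G), a * b = b * a)
    (P : Sylow p G) (hZ : (P : Subgroup G) ⊓ Subgroup.center G = ⊥) :
    OneConj (P : Subgroup G) := by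
  haveI := Fact.mk hp
  intro g hg a b ha hb
  set C := Subgroup.centralizer ({g} : Set G) with hC
  have hCne : C ≠ ⊤ := by
    intro h
    apply hg
    rw [Subgroup.mem_center_iff]
    intro x
    have : x ∈ C := h ▸ Subgroup.mem_top x
    exact (Subgroup.mem_centralizer_iff.1 this g rfl).symm
  obtain ⟨S⟩ : Nonempty (Sylow p C) := inferInstance
  have hSn := hmin C hCne S
  haveI := Sylow.unique_of_normal S hSn
  obtain ⟨R, hR⟩ := (S.isPGroup'.map C.subtype).exists_le_sylow
  have key : ∀ c : G, C ⊓ (P : Subgroup G).map (MulAut.conj c).toMonoidHom ≠ ⊥ →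
      (P : Subgroup G).map (MulAut.conj c).toMonoidHom = R := by
    intro c hc
    by_contra hne
    apply hc
    rw [← coe_smul_sylow] at hne ⊢
    have h1 : C ⊓ ((c • P : Sylow p G) : Subgroup G) ≤ R := by
      have hpg : IsPGroup p ((C ⊓ ((c • P : Sylow p G) : Subgroup G)).subgroupOf C) :=
        ((c • P : Sylow p G).isPGroup'.to_le inf_le_right).comap_subtype
      obtain ⟨S', hS'⟩ := hpg.exists_le_sylow
      have hSS : S' = S := Subsingleton.elim _ _
      intro y hy
      apply hR
      refine ⟨⟨y, hy.1⟩, ?_, rfl⟩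
      rw [← hSS]
      exact hS' (Subgroup.mem_subgroupOf.2 hy)
    have h3 := inf_le_center_of_minNN hp hmin hab (c • P) R (by
      intro h
      apply hne
      rw [h])
    have h4 := inf_center_eq_bot P hZ (c • P)
    rw [eq_bot_iff]
    intro y hy
    rw [← h4]
    exact ⟨hy.2, h3 ⟨hy.2, h1 hy⟩⟩
  rw [key a ha, key b hb]

end Cfsg.Agent.Lib.Helper7.FTN
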