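import Mathlib
import Cfsg.Prelude.Def_Characters
import Cfsg.Prelude.Def_Local
import Cfsg.Agent.Lib.helper3.Degrees
import Cfsg.Agent.Lib.Helper7.ItoP4
import Cfsg.Agent.Lib.Helper7.ItoP5

set_option autoImplicit false
set_option linter.style.haveILetI false
set_option linter.unusedSectionVars false

namespace Cfsg.Agent.Lib.Helper7.ItoP

open Cfsg Cfsg.Agent.Lib.helper3.Irr Cfsg.Agent.Lib.helper3.CharBasic
open Cfsg.Agent.Lib.helper3.IndFun
open scoped ComplexConjugate
open Classical

universe u

variable {G : Type u} [Group G] {p : ℕ}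

theorem char_one_fin {d : ℕ} (ρ : Representation ℂ G (Fin d → ℂ)) : ρ.character 1 = d := by
  rw [Representation.char_one, Module.finrank_fin_fun]

theorem injective_of_faithful [Finite G] {d : ℕ} (ρ : Representation ℂ G (Fin d → ℂ))
    (hfaith : ∀ g : G, ρ.character g = ρ.character 1 → g = 1) : Function.Injective ρ := by
  intro g h hgh
  have h1 : ρ (g * h⁻¹) = 1 := by
    rw [map_mul, hgh, ← map_mul, mul_inv_cancel, map_one]
  have h2 : g * h⁻¹ = 1 := by
    apply hfaith
    simp only [Representation.character, h1, map_one]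
  exact mul_inv_eq_one.mp h2

/-- A Sylow `p`-subgroup of a group with a faithful representation of degree less than `p` is
abelian. -/
theorem sylow_comm_of_faithful [Finite G] (hp : p.Prime) {d : ℕ}
    (ρ : Representation ℂ G (Fin d → ℂ)) (hinj : Function.Injective ρ) (hd : d < p)
    (P : Sylow p G) : ∀ a ∈ (P : Subgroup G), ∀ b ∈ (P : Subgroup G), a * b = b * a := by
  letI : Fintype (P : Subgroup G) := Fintype.ofFinite _
  haveI := Fact.mk hp
  intro a ha b hb
  let ρ' : Representation ℂ (P : Subgroup G) (Fin d → ℂ) := ρ.comp (P : Subgroup G).subtype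
  have hinj' : Function.Injective ρ' := by
    intro u v huv
    exact Subtype.ext (hinj huv)
  have hcomm := Cfsg.Agent.Lib.helper3.Central.comm_of_faithful_of_small_degree ρ' hinj' (by
    intro q hq hqP
    rw [Module.finrank_fin_fun]
    obtain ⟨k, hk⟩ := IsPGroup.iff_card.mp P.isPGroup'
    rw [hk] at hqP
    have := (Nat.prime_dvd_prime_iff_eq hq hp).1 (hq.dvd_of_dvd_pow hqP)
    rw [this]
    exact hd) ⟨a, ha⟩ ⟨b, hb⟩
  exact congrArg Subtype.val hcomm

/-- A representation descends to a faithful character of the quotient by its kernel. -/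
theorem exists_descend [Finite G] {d : ℕ} (ρ : Representation ℂ G (Fin d → ℂ)) :
    ∃ χ' : G ⧸ (MonoidHom.ker ρ) → ℂ, IsCharacter (G ⧸ MonoidHom.ker ρ) χ' ∧
      (∀ y, χ' y = χ' 1 → y = 1) ∧ χ' 1 = d := by
  let ρ' : Representation ℂ (G ⧸ MonoidHom.ker ρ) (Fin d → ℂ) :=
    QuotientGroup.lift (MonoidHom.ker ρ) ρ le_rfl
  refine ⟨ρ'.character, ⟨d, ρ', rfl⟩, ?_, char_one_fin ρ'⟩
  intro y hy
  obtain ⟨g, rfl⟩ := QuotientGroup.mk_surjective y
  have h1 : ρ'.character (g : G ⧸ MonoidHom.ker ρ) = ρ.character g := by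
    simp only [Representation.character]
    rfl
  rw [h1, char_one_fin ρ'] at hy
  have h2 : ρ g = LinearMap.id := by
    rw [← character_eq_finrank_iff, Module.finrank_fin_fun]
    exact hy
  rw [QuotientGroup.eq_one_iff, MonoidHom.mem_ker]
  exact h2

/-- If the images of the Sylow subgroup `P` modulo two normal subgroups with trivial
intersection are normal, then `P` is normal. -/
theorem sylow_normal_of_quotients [Finite G] (P : Sylow p G)
    (N₁ N₂ : Subgroup G) [N₁.Normal] [N₂.Normal] (hN : ∀ g, g ∈ N₁ → g ∈ N₂ → g = 1)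
    (h₁ : ((P : Subgroup G).map (QuotientGroup.mk' N₁)).Normal)
    (h₂ : ((P : Subgroup G).map (QuotientGroup.mk' N₂)).Normal) :
    (P : Subgroup G).Normal := by
  set D : Subgroup G := ((P : Subgroup G).map (QuotientGroup.mk' N₁)).comap (QuotientGroup.mk' N₁) ⊓
    ((P : Subgroup G).map (QuotientGroup.mk' N₂)).comap (QuotientGroup.mk' N₂) with hD
  haveI hDn : D.Normal := by
    haveI := h₁.comap (QuotientGroup.mk' N₁)
    haveI := h₂.comap (QuotientGroup.mk' N₂)
    exact Subgroup.normal_inf_normal _ _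
  have hPD : (P : Subgroup G) ≤ D := le_inf (Subgroup.le_comap_map _ _) (Subgroup.le_comap_map _ _)
  have hDp : IsPGroup p D := by
    rintro ⟨g, hg⟩
    have hp₁ : IsPGroup p ((P : Subgroup G).map (QuotientGroup.mk' N₁)) := P.isPGroup'.map _
    have hp₂ : IsPGroup p ((P : Subgroup G).map (QuotientGroup.mk' N₂)) := P.isPGroup'.map _
    obtain ⟨a, ha⟩ := hp₁ ⟨_, hg.1⟩
    obtain ⟨b, hb⟩ := hp₂ ⟨_, hg.2⟩
    have ha' : g ^ (p ^ a) ∈ N₁ := by
      have := congrArg Subtype.val ha
      simp only [Subgroup.coe_pow, Subgroup.coe_one] at this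
      rw [← map_pow] at this
      exact (QuotientGroup.eq_one_iff _).1 this
    have hb' : g ^ (p ^ b) ∈ N₂ := by
      have := congrArg Subtype.val hb
      simp only [Subgroup.coe_pow, Subgroup.coe_one] at this
      rw [← map_pow] at this
      exact (QuotientGroup.eq_one_iff _).1 this
    refine ⟨a + b, Subtype.ext ?_⟩
    simp only [Subgroup.coe_pow, Subgroup.coe_one]
    apply hN
    · rw [pow_add, pow_mul]
      exact Subgroup.pow_mem _ ha' _
    · rw [pow_add, mul_comm, pow_mul]
      exact Subgroup.pow_mem _ hb' _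
  have := P.is_maximal' hDp hPD
  rw [← this]
  exact hDn

theorem pow_two_of_dvd_prime_pow {d t k p : ℕ} (ht : t.Prime) (hp : p.Prime) (hd : d ∣ t ^ k)
    (hdp : d + 1 = p) : ∃ j : ℕ, d = 2 ^ j := by
  obtain ⟨j, -, rfl⟩ := (Nat.dvd_prime_pow ht).1 hd
  rcases ht.eq_two_or_odd' with rfl | hodd
  · exact ⟨j, rfl⟩
  · have h1 : Odd (t ^ j) := hodd.pow
    have h2 : Even p := by rw [← hdp]; exact h1.add_one
    have h3 : p = 2 := (Nat.Prime.even_iff hp).1 h2
    refine ⟨0, ?_⟩
    rw [pow_zero]
    omega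

open Cfsg.Agent.Lib.Lead.PSolvable in
/-- **Itô's theorem** on `p`-solvable linear groups of small degree, by induction. -/
theorem ito_aux (hp : p.Prime) : ∀ (N : ℕ) (G : Type u) [Group G] [Finite G] (χ : G → ℂ),
    IsCharacter G χ → (∀ g : G, χ g = χ 1 → g = 1) → ∀ d : ℕ, χ 1 = d → Nat.card G + d = N →
    IsPSolvable p G → d + 1 ≤ p → ∀ P : Sylow p G, ¬ (P : Subgroup G).Normal →
    d + 1 = p ∧ (∃ k : ℕ, d = 2 ^ k) ∧ IsIrrCharacter G χ := by
  haveI := Fact.mk hp
  intro N
  induction N using Nat.strong_induction_on with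
  | _ N ih =>
  intro G _ _ χ hχ hfaith d hd hN hsolv hdp P hP
  letI : Fintype G := Fintype.ofFinite G
  by_cases hirr : IsIrrCharacter G χ
  · -- the irreducible case
    suffices h : d + 1 = p ∧ (∃ k : ℕ, d = 2 ^ k) from ⟨h.1, h.2, hirr⟩
    by_cases hL : ∃ L : Subgroup G, L ≠ ⊤ ∧ ∃ S : Sylow p L, ¬ (S : Subgroup L).Normal
    · obtain ⟨L, hLtop, S, hS⟩ := hL
      have hlt : Nat.card L + d < N := by
        rw [← hN]
        have := Cfsg.Agent.Lib.Helper7.KW.card_lt_of_ne_top hLtop
        omega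
      have := ih _ hlt L (fun l : L => χ l) (isCharacter_restrict hχ L)
        (fun l hl => Subtype.ext (hfaith l hl)) d hd rfl (IsPSolvable.subgroup L hsolv) hdp S hS
      exact ⟨this.1, this.2.1⟩
    · have hmin : MinNN p G := by
        intro L hLtop S
        by_contra hS
        exact hL ⟨L, hLtop, S, hS⟩
      obtain ⟨d', ρ, rfl⟩ := hχ
      have hdd : d' = d := by
        rw [char_one_fin] at hd
        exact_mod_cast hd
      subst hdd
      have hab := sylow_comm_of_faithful hp ρ (injective_of_faithful ρ hfaith)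
        (Nat.lt_of_succ_le hdp) P
      obtain ⟨Q, x, m, t, k, hcfg, htop, hder, hxm, ht, hQ⟩ :=
        hmin.exists_config hp hsolv P hP hab
      obtain ⟨h1, h2⟩ := hcfg.degree_eq hp htop hder m hxm hirr hfaith d' hd hdp
      rw [hQ] at h2
      exact ⟨h1, pow_two_of_dvd_prime_pow ht hp h2 h1⟩
  · -- the reducible case
    exfalso
    have hχ0 : χ ≠ 0 := by
      intro h0
      have h1 : ∀ g : G, g = 1 := fun g => hfaith g (by rw [h0]; rfl)
      apply hP
      refine ⟨fun n hn g => ?_⟩
      rw [h1 g]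
      simpa using hn
    obtain ⟨ψ, hψ⟩ := exists_constituent hχ hχ0
    have hδ := isCharacter_sub_of_classInner_ne_zero hχ ψ hψ
    have hδ0 : χ - (ψ : G → ℂ) ≠ 0 := by
      intro h0
      apply hirr
      rw [sub_eq_zero.1 h0]
      exact ψ.2
    obtain ⟨d₁, ρ₁, h₁⟩ := isCharacter_of_isIrrCharacter ψ.2
    obtain ⟨d₂, ρ₂, h₂⟩ := hδ
    have hsum : ∀ g : G, χ g = ρ₁.character g + ρ₂.character g := by
      intro g
      rw [h₁, h₂]
      simp
    have hdsum : d₁ + d₂ = d := by
      have := hsum 1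
      rw [hd, char_one_fin, char_one_fin] at this
      exact_mod_cast this.symm
    have hd₁ : d₁ ≠ 0 := by
      rintro rfl
      have := apply_one_ne_zero ψ.2
      rw [← h₁, char_one_fin] at this
      simp at this
    have hd₂ : d₂ ≠ 0 := by
      rintro rfl
      apply hδ0
      rw [← h₂]
      funext g
      simp only [Representation.character, Pi.zero_apply]
      have : ρ₂ g = 0 := Subsingleton.elim _ _
      rw [this, map_zero]
    -- both quotients have normal Sylow subgroups
    have key : ∀ (e : ℕ) (ρ' : Representation ℂ G (Fin e → ℂ)), e < d →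
        ((P : Subgroup G).map (QuotientGroup.mk' (MonoidHom.ker ρ'))).Normal := by
      intro e ρ' he
      obtain ⟨χ', hχ', hfaith', hdeg'⟩ := exists_descend ρ'
      by_contra hnn
      have hlt : Nat.card (G ⧸ MonoidHom.ker ρ') + e < N := by
        rw [← hN]
        have : Nat.card (G ⧸ MonoidHom.ker ρ') ≤ Nat.card G :=
          Nat.card_le_card_of_surjective _ (QuotientGroup.mk_surjective)
        omega
      have hsurj : Function.Surjective (QuotientGroup.mk' (MonoidHom.ker ρ')) :=
        QuotientGroup.mk'_surjective _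
      have := ih _ hlt (G ⧸ MonoidHom.ker ρ') χ' hχ' hfaith' e hdeg' rfl
        (IsPSolvable.quotient _ hsolv) (by omega) (Sylow.mapSurjective hsurj P)
        (by rw [Sylow.coe_mapSurjective]; exact hnn)
      omega
    apply hP
    apply sylow_normal_of_quotients P (MonoidHom.ker ρ₁) (MonoidHom.ker ρ₂) ?_
      (key d₁ ρ₁ (by omega)) (key d₂ ρ₂ (by omega))
    intro g hg₁ hg₂
    apply hfaith
    rw [hsum, hsum]
    rw [MonoidHom.mem_ker] at hg₁ hg₂
    simp only [Representation.character, hg₁, hg₂, map_one]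

end Cfsg.Agent.Lib.Helper7.ItoP
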