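import Mathlib
import Cfsg.Prelude.Def_Characters
import Cfsg.Agent.Lib.helper3.Degrees
import Cfsg.Agent.Lib.Helper7.FTNorm1
import Cfsg.Agent.Lib.Helper7.FTLem4
import Cfsg.Agent.Lib.Helper7.ItoP6
import Cfsg.Agent.Lib.Helper4.SolvPSolv

set_option autoImplicit false
set_option linter.style.haveILetI false
set_option linter.unusedSectionVars false

namespace Cfsg.Agent.Lib.Helper7.FTN

open Cfsg Cfsg.Agent.Lib.helper3.Irr Cfsg.Agent.Lib.helper3.CharBasic
open Cfsg.Agent.Lib.helper3.IndFun Cfsg.Agent.Lib.helper3.Central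
open Cfsg.Agent.Lib.Helper7.ItoP Cfsg.Agent.Lib.Helper7.FT
open scoped ComplexConjugate commutatorElement
open Classical

universe u

variable {G : Type u} [Group G] {p : ℕ}

/-- Case A: if the Sylow subgroup meets the centre trivially, its order is less than
`(n + 1) ^ 2`. -/
theorem card_lt_of_inf_center_eq_bot [Finite G] (hp : p.Prime) (hmin : MinNN p G) {n : ℕ}
    (ρ : Representation ℂ G (Fin n → ℂ)) (hρ : Function.Injective ρ) (hnp : n < p)
    (P : Sylow p G) (hP : ¬ (P : Subgroup G).Normal)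
    (hZ : (P : Subgroup G) ⊓ Subgroup.center G = ⊥) : Nat.card (P : Subgroup G) < (n + 1) ^ 2 := by
  letI : Fintype G := Fintype.ofFinite G
  letI : Fintype (P : Subgroup G) := Fintype.ofFinite _
  have hab : ∀ R : Sylow p G, ∀ a ∈ (R : Subgroup G), ∀ b ∈ (R : Subgroup G), a * b = b * a :=
    fun R => sylow_comm_of_faithful hp ρ hρ hnp R
  have hone := oneConj_of_minNN hp hmin hab P hZ
  have hnorm : ∀ M : Subgroup G, M.Normal → (P : Subgroup G) ≤ M → M = ⊤ :=
    fun M hM hPM => @MinNN.eq_top_of_normal _ _ _ _ hp hmin P hP M hM hPM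
  have hχ : IsCharacter G ρ.character := ⟨n, ρ, rfl⟩
  -- a nonlinear constituent
  have hex : ∃ ψ : IrrCharacter G, classInner ρ.character (ψ : G → ℂ) ≠ 0 ∧
      (ψ : G → ℂ) 1 ≠ 1 := by
    by_contra hcon
    push Not at hcon
    have hcomm := comm_of_faithful_of_linear_constituents ρ hρ hcon
    apply hP
    refine ⟨fun x hx g => ?_⟩
    rw [hcomm g x, mul_assoc, mul_inv_cancel, mul_one]
    exact hx
  obtain ⟨ψ, hψ, hψ1⟩ := hex
  obtain ⟨d, hdpos, hd⟩ := exists_pos_nat_apply_one ψ.2
  have hle : d ≤ n := constituent_degree_le hχ ψ hψ (char_one_fin ρ) hd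
  have hlt := part_b (P : Subgroup G) (hab P) hZ hone ψ.2 hψ1 hnorm
  rw [hd, Complex.natCast_re] at hlt
  have h2 : ((Nat.card (P : Subgroup G) : ℕ) : ℝ) < (((n + 1) ^ 2 : ℕ) : ℝ) := by
    refine lt_of_lt_of_le hlt ?_
    have : (d : ℝ) ≤ n := by exact_mod_cast hle
    push_cast
    nlinarith
  exact_mod_cast h2

open scoped IsMulCommutative in
/-- Transfer: a central element of an abelian Sylow subgroup lying in the commutator subgroup is
trivial. -/
theorem eq_one_of_mem_center_of_mem_commutator [Finite G] [Fact p.Prime] (P : Sylow p G)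
    (hab : ∀ a ∈ (P : Subgroup G), ∀ b ∈ (P : Subgroup G), a * b = b * a) {z : G}
    (hzP : z ∈ (P : Subgroup G)) (hzZ : z ∈ Subgroup.center G) (hzc : z ∈ commutator G) :
    z = 1 := by
  haveI : IsMulCommutative (P : Subgroup G) := ⟨⟨fun a b => Subtype.ext (hab a a.2 b b.2)⟩⟩
  have h1 : MonoidHom.transfer (MonoidHom.id (P : Subgroup G)) z = 1 :=
    (Abelianization.commutator_subset_ker _) hzc
  have key : ∀ (k : ℕ) (g₀ : G), g₀⁻¹ * z ^ k * g₀ ∈ (P : Subgroup G) →
      g₀⁻¹ * z ^ k * g₀ = z ^ k := by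
    intro k g₀ _
    have hc : z ^ k ∈ Subgroup.center G := Subgroup.pow_mem _ hzZ k
    have := (Subgroup.mem_center_iff.1 hc) g₀
    rw [mul_assoc, ← this, inv_mul_cancel_left]
  have h2 := MonoidHom.transfer_eq_pow (MonoidHom.id (P : Subgroup G)) z key
  rw [h1] at h2
  have h3 : z ^ (P : Subgroup G).index = 1 := by
    have := congrArg Subtype.val h2
    simpa using this.symm
  obtain ⟨k, hk⟩ := P.isPGroup' ⟨z, hzP⟩
  have h4 : z ^ (p ^ k) = 1 := by simpa using congrArg Subtype.val hk
  have hcop : Nat.Coprime (p ^ k) (P : Subgroup G).index := by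
    apply Nat.Coprime.pow_left
    rw [Nat.Prime.coprime_iff_not_dvd Fact.out]
    exact P.not_dvd_index
  have h5 : orderOf z ∣ 1 := by
    rw [← Nat.Coprime.gcd_eq_one hcop]
    exact Nat.dvd_gcd (orderOf_dvd_of_pow_eq_one h4) (orderOf_dvd_of_pow_eq_one h3)
  exact orderOf_eq_one_iff.1 (Nat.dvd_one.1 h5)

open Cfsg.Agent.Lib.Helper4.SolvPSolv Cfsg.Agent.Lib.Lead.PSolvable in
/-- If the commutator subgroup has a normal Sylow `p`-subgroup, the group is `p`-solvable. -/
theorem isPSolvable_of_commutator_sylow_normal [Finite G] [Fact p.Prime]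
    (K : Subgroup G) [hKn : K.Normal] (hK : commutator G ≤ K)
    (S : Sylow p K) (hS : (S : Subgroup K).Normal) :
    IsPSolvable p G := by
  have hp : p.Prime := Fact.out
  haveI hSc : (S : Subgroup K).Characteristic := Sylow.characteristic_of_normal S hS
  set D : Subgroup G := (S : Subgroup K).map K.subtype with hD
  haveI hDn : D.Normal := ConjAct.normal_of_characteristic_of_normal
  have hDK : D ≤ K := Subgroup.map_subtype_le _
  obtain ⟨a, ha⟩ := IsPGroup.iff_card.mp (S.isPGroup'.map K.subtype)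
  apply isPSolvable_of_quotient D (Or.inl ⟨a, ha⟩)
  set N : Subgroup (G ⧸ D) := K.map (QuotientGroup.mk' D) with hN
  haveI hNn : N.Normal := hKn.map _ (QuotientGroup.mk'_surjective D)
  have hNc : (Nat.card N).Coprime p := by
    have h1 := relIndex_map_dvd (QuotientGroup.mk' D) hDK
    rw [QuotientGroup.map_mk'_self, Subgroup.relIndex_bot_left] at h1
    have h2 : D.relIndex K = (S : Subgroup K).index := by
      unfold Subgroup.relIndex
      congr 1
      exact Subgroup.comap_map_eq_self_of_injective K.subtype_injective _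
    rw [h2] at h1
    apply Nat.Coprime.coprime_dvd_left h1
    rw [Nat.coprime_comm, Nat.Prime.coprime_iff_not_dvd hp]
    exact S.not_dvd_index
  apply isPSolvable_of_quotient N (Or.inr hNc)
  haveI : Group.IsSolvable ((G ⧸ D) ⧸ N) := by
    apply Group.isSolvable_of_comm
    intro x y
    obtain ⟨x', rfl⟩ := QuotientGroup.mk_surjective x
    obtain ⟨y', rfl⟩ := QuotientGroup.mk_surjective y
    obtain ⟨g, rfl⟩ := QuotientGroup.mk_surjective x'
    obtain ⟨h, rfl⟩ := QuotientGroup.mk_surjective y'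
    have e1 : (((g : G ⧸ D) : (G ⧸ D) ⧸ N)) * (((h : G ⧸ D) : (G ⧸ D) ⧸ N)) =
        (((g * h : G) : G ⧸ D) : (G ⧸ D) ⧸ N) := rfl
    have e2 : (((h : G ⧸ D) : (G ⧸ D) ⧸ N)) * (((g : G ⧸ D) : (G ⧸ D) ⧸ N)) =
        (((h * g : G) : G ⧸ D) : (G ⧸ D) ⧸ N) := rfl
    rw [e1, e2, QuotientGroup.eq]
    refine ⟨(g * h)⁻¹ * (h * g), ?_, ?_⟩
    · have : (g * h)⁻¹ * (h * g) = ⁅h⁻¹, g⁻¹⁆ := by
        rw [commutatorElement_def]
        group
      rw [this]
      apply hK
      exact Subgroup.commutator_mem_commutator (Subgroup.mem_top _) (Subgroup.mem_top _)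
    · simp
  exact isPSolvable_of_isSolvable p _

/-- Case B: the Sylow subgroup cannot meet the centre nontrivially. -/
theorem false_of_inf_center_ne_bot [Finite G] (hp : p.Prime) (hmin : MinNN p G) {n : ℕ}
    (ρ : Representation ℂ G (Fin n → ℂ)) (hρ : Function.Injective ρ) (hnp : n + 1 < p)
    (P : Sylow p G) (hP : ¬ (P : Subgroup G).Normal)
    (hZ : (P : Subgroup G) ⊓ Subgroup.center G ≠ ⊥) : False := by
  haveI := Fact.mk hp
  obtain ⟨z, hz1⟩ := (Subgroup.ne_bot_iff_exists_ne_one).1 hZ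
  have hab := sylow_comm_of_faithful hp ρ hρ (by omega) P
  have hzc : (z : G) ∉ commutator G := by
    intro h
    apply hz1
    exact Subtype.ext (eq_one_of_mem_center_of_mem_commutator P hab z.2.1 z.2.2 h)
  have hne : commutator G ≠ ⊤ := by
    intro h
    apply hzc
    rw [h]
    exact Subgroup.mem_top _
  obtain ⟨S⟩ : Nonempty (Sylow p (commutator G)) := inferInstance
  have hsolv := isPSolvable_of_commutator_sylow_normal (commutator G) le_rfl S (hmin _ hne S)
  have hfaith : ∀ g : G, ρ.character g = ρ.character 1 → g = 1 := by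
    intro g hg
    rw [char_one_fin] at hg
    have : ρ g = LinearMap.id := by
      rw [← character_eq_finrank_iff, Module.finrank_fin_fun]
      exact hg
    apply hρ
    rw [this, map_one]
    rfl
  have := ito_aux hp _ G ρ.character ⟨n, ρ, rfl⟩ hfaith n (char_one_fin ρ) rfl hsolv (by omega) P hP
  omega

end Cfsg.Agent.Lib.Helper7.FTN
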