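import Mathlib
import Cfsg.Agent.Lib.Helper7.FTNorm2

set_option autoImplicit false
set_option linter.style.haveILetI false
set_option linter.unusedSectionVars false

namespace Cfsg.Agent.Lib.Helper7.FTN

open Cfsg Cfsg.Agent.Lib.Helper7.ItoP

universe u

variable {G : Type u} [Group G] {p : ℕ}

/-- The hypothesis of the theorem of Feit and Thompson. -/
def Hyp (p n : ℕ) (G : Type*) [Group G] : Prop :=
  (n + 1) ^ 2 ≤ p ∨ (n + 1 < p ∧ ∀ K : Subgroup G, ¬ p ^ 2 ∣ Nat.card K →
    ∀ Q : Sylow p K, (Q : Subgroup K).Normal)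

theorem Hyp.subgroup [Finite G] [Fact p.Prime] {n : ℕ} (h : Hyp p n G) (L : Subgroup G) :
    Hyp p n L := by
  rcases h with h | ⟨h1, h2⟩
  · exact Or.inl h
  · refine Or.inr ⟨h1, ?_⟩
    intro K hK
    have hcard : Nat.card (K.map L.subtype) = Nat.card K :=
      Subgroup.card_map_of_injective L.subtype_injective
    have h3 : AllNormal p (K.map L.subtype) := h2 (K.map L.subtype) (by rw [hcard]; exact hK)
    exact AllNormal.of_mulEquiv (K.equivMapOfInjective L.subtype L.subtype_injective).symm h3

theorem Hyp.lt {n : ℕ} (hp : p.Prime) (h : Hyp p n G) : n + 1 < p := by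
  rcases h with h | ⟨h1, -⟩
  · have := hp.two_le
    rcases Nat.eq_zero_or_pos n with rfl | hn
    · omega
    · nlinarith
  · exact h1

/-- **Feit-Thompson**: normal Sylow `p`-subgroups in linear groups of small degree. -/
theorem ft_aux (hp : p.Prime) (n : ℕ) : ∀ (N : ℕ) (G : Type u) [Group G] [Finite G],
    Nat.card G = N → ∀ (ρ : Representation ℂ G (Fin n → ℂ)), Function.Injective ρ →
    Hyp p n G → ∀ P : Sylow p G, (P : Subgroup G).Normal := by
  haveI := Fact.mk hp
  intro N
  induction N using Nat.strong_induction_on with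
  | _ N ih =>
  intro G _ _ hN ρ hρ h P
  by_contra hP
  have hmin : MinNN p G := by
    intro L hL S
    have hlt : Nat.card L < N := by
      rw [← hN]
      exact Cfsg.Agent.Lib.Helper7.KW.card_lt_of_ne_top hL
    exact ih _ hlt L rfl (ρ.comp L.subtype) (fun a b hab => Subtype.ext (hρ hab)) (h.subgroup L) S
  have hnp := h.lt hp
  by_cases hZ : (P : Subgroup G) ⊓ Subgroup.center G = ⊥
  · have hlt := card_lt_of_inf_center_eq_bot hp hmin ρ hρ (by omega) P hP hZ
    have hcard := P.card_eq_multiplicity
    have hk0 : (Nat.card G).factorization p ≠ 0 := by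
      intro h0
      rw [h0, pow_zero] at hcard
      apply hP
      rw [Subgroup.card_eq_one.1 hcard]
      infer_instance
    rcases h with h1 | ⟨_, h2⟩
    · have : p ≤ Nat.card (P : Subgroup G) := by
        rw [hcard]
        exact Nat.le_self_pow hk0 p
      omega
    · have h3 : p ^ (Nat.card G).factorization p < p ^ 2 := by
        rw [← hcard]
        refine lt_trans hlt ?_
        exact Nat.pow_lt_pow_left hnp (by norm_num)
      have h4 : (Nat.card G).factorization p < 2 := (Nat.pow_lt_pow_iff_right hp.one_lt).1 h3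
      have h5 : ¬ p ^ 2 ∣ Nat.card (⊤ : Subgroup G) := by
        rw [Subgroup.card_top, hp.pow_dvd_iff_le_factorization Nat.card_pos.ne']
        omega
      have h6 : AllNormal p (⊤ : Subgroup G) := h2 ⊤ h5
      exact hP (AllNormal.of_mulEquiv Subgroup.topEquiv h6 P)
  · exact false_of_inf_center_ne_bot hp hmin ρ hρ hnp P hP hZ

end Cfsg.Agent.Lib.Helper7.FTN
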