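import Cfsg.Agent.Lib.Helper7.Fi24LT0
import Cfsg.Agent.Lib.Helper7.Fi24LT1
import Cfsg.Agent.Lib.Helper7.Fi24LT2
import Cfsg.Agent.Lib.Helper7.Fi24LT3
import Cfsg.Agent.Lib.Helper7.Fi24LT4
import Cfsg.Agent.Lib.Helper7.Fi24LT5
import Cfsg.Agent.Lib.Helper7.Fi24LT6
import Cfsg.Agent.Lib.Helper7.Fi24LT7
import Cfsg.Agent.Lib.Helper7.Fi24LT8
import Cfsg.Agent.Lib.Helper7.Fi24LT9
import Cfsg.Agent.Lib.Helper7.Fi24LT10
import Cfsg.Agent.Lib.Helper7.Fi24LT11
import Cfsg.Agent.Lib.Helper7.Fi24LT12
import Cfsg.Agent.Lib.Helper7.Fi24LT13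
import Cfsg.Agent.Lib.Helper7.Fi24LT14
import Cfsg.Agent.Lib.Helper7.Fi24LT15
import Cfsg.Agent.Lib.Helper7.Fi24LT16
import Cfsg.Agent.Lib.Helper7.Fi24LT17
import Cfsg.Agent.Lib.Helper7.Fi24LT18
import Mathlib.Data.Nat.Notation

/-! # The multiplier of the Fischer group Fi₂₄′, a threefold cover of a permutation representation of the presented group Fi₂₄: the entries of the table and the walk along a word (generated) -/

set_option autoImplicit false

namespace Cfsg.Agent.Lib.Helper7.Fi24L

/-- a part of the choice of the part of the table -/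
noncomputable def selTN0 (j : ℕ) : ℕ := (Bool.rec (motive := fun _ => ℕ) rl0 rl1 (Nat.ble 1 j))

/-- a part of the choice of the part of the table -/
noncomputable def selTN1 (j : ℕ) : ℕ := (Bool.rec (motive := fun _ => ℕ) rl2 rl3 (Nat.ble 3 j))

/-- a part of the choice of the part of the table -/
noncomputable def selTN2 (j : ℕ) : ℕ := (Bool.rec (motive := fun _ => ℕ) (selTN0 j) (Bool.rec (motive := fun _ => ℕ) (selTN1 j) rl4 (Nat.ble 4 j)) (Nat.ble 2 j))

/-- a part of the choice of the part of the table -/
noncomputable def selTN3 (j : ℕ) : ℕ := (Bool.rec (motive := fun _ => ℕ) rl5 rl6 (Nat.ble 6 j))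

/-- a part of the choice of the part of the table -/
noncomputable def selTN4 (j : ℕ) : ℕ := (Bool.rec (motive := fun _ => ℕ) rl7 rl8 (Nat.ble 8 j))

/-- a part of the choice of the part of the table -/
noncomputable def selTN5 (j : ℕ) : ℕ := (Bool.rec (motive := fun _ => ℕ) (selTN3 j) (Bool.rec (motive := fun _ => ℕ) (selTN4 j) rl9 (Nat.ble 9 j)) (Nat.ble 7 j))

/-- a part of the choice of the part of the table -/
noncomputable def selTN6 (j : ℕ) : ℕ := (Bool.rec (motive := fun _ => ℕ) rl10 rl11 (Nat.ble 11 j))

/-- a part of the choice of the part of the table -/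
noncomputable def selTN7 (j : ℕ) : ℕ := (Bool.rec (motive := fun _ => ℕ) rl12 rl13 (Nat.ble 13 j))

/-- a part of the choice of the part of the table -/
noncomputable def selTN8 (j : ℕ) : ℕ := (Bool.rec (motive := fun _ => ℕ) (selTN6 j) (Bool.rec (motive := fun _ => ℕ) (selTN7 j) rl14 (Nat.ble 14 j)) (Nat.ble 12 j))

/-- a part of the choice of the part of the table -/
noncomputable def selTN9 (j : ℕ) : ℕ := (Bool.rec (motive := fun _ => ℕ) (Bool.rec (motive := fun _ => ℕ) rl15 rl16 (Nat.ble 16 j)) (Bool.rec (motive := fun _ => ℕ) rl17 rl18 (Nat.ble 18 j)) (Nat.ble 17 j))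

/-- a part of the choice of the part of the table -/
noncomputable def selTN10 (j : ℕ) : ℕ := (Bool.rec (motive := fun _ => ℕ) (Bool.rec (motive := fun _ => ℕ) (selTN2 j) (selTN5 j) (Nat.ble 5 j)) (Bool.rec (motive := fun _ => ℕ) (selTN8 j) (selTN9 j) (Nat.ble 15 j)) (Nat.ble 10 j))

/-- a part of the choice of the part of the table -/
noncomputable def selTN11 (j : ℕ) : ℕ := (Bool.rec (motive := fun _ => ℕ) rl19 rl20 (Nat.ble 20 j))

/-- a part of the choice of the part of the table -/
noncomputable def selTN12 (j : ℕ) : ℕ := (Bool.rec (motive := fun _ => ℕ) rl21 rl22 (Nat.ble 22 j))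

/-- a part of the choice of the part of the table -/
noncomputable def selTN13 (j : ℕ) : ℕ := (Bool.rec (motive := fun _ => ℕ) (selTN11 j) (Bool.rec (motive := fun _ => ℕ) (selTN12 j) rl23 (Nat.ble 23 j)) (Nat.ble 21 j))

/-- a part of the choice of the part of the table -/
noncomputable def selTN14 (j : ℕ) : ℕ := (Bool.rec (motive := fun _ => ℕ) rl24 rl25 (Nat.ble 25 j))

/-- a part of the choice of the part of the table -/
noncomputable def selTN15 (j : ℕ) : ℕ := (Bool.rec (motive := fun _ => ℕ) rl26 rl27 (Nat.ble 27 j))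

/-- a part of the choice of the part of the table -/
noncomputable def selTN16 (j : ℕ) : ℕ := (Bool.rec (motive := fun _ => ℕ) (selTN14 j) (Bool.rec (motive := fun _ => ℕ) (selTN15 j) rl28 (Nat.ble 28 j)) (Nat.ble 26 j))

/-- a part of the choice of the part of the table -/
noncomputable def selTN17 (j : ℕ) : ℕ := (Bool.rec (motive := fun _ => ℕ) rl29 rl30 (Nat.ble 30 j))

/-- a part of the choice of the part of the table -/
noncomputable def selTN18 (j : ℕ) : ℕ := (Bool.rec (motive := fun _ => ℕ) rl31 rl32 (Nat.ble 32 j))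

/-- a part of the choice of the part of the table -/
noncomputable def selTN19 (j : ℕ) : ℕ := (Bool.rec (motive := fun _ => ℕ) (selTN17 j) (Bool.rec (motive := fun _ => ℕ) (selTN18 j) rl33 (Nat.ble 33 j)) (Nat.ble 31 j))

/-- a part of the choice of the part of the table -/
noncomputable def selTN20 (j : ℕ) : ℕ := (Bool.rec (motive := fun _ => ℕ) (Bool.rec (motive := fun _ => ℕ) rl34 rl35 (Nat.ble 35 j)) (Bool.rec (motive := fun _ => ℕ) rl36 rl37 (Nat.ble 37 j)) (Nat.ble 36 j))

/-- a part of the choice of the part of the table -/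
noncomputable def selTN21 (j : ℕ) : ℕ := (Bool.rec (motive := fun _ => ℕ) (Bool.rec (motive := fun _ => ℕ) (selTN13 j) (selTN16 j) (Nat.ble 24 j)) (Bool.rec (motive := fun _ => ℕ) (selTN19 j) (selTN20 j) (Nat.ble 34 j)) (Nat.ble 29 j))

/-- a part of the choice of the part of the table -/
noncomputable def selTN22 (j : ℕ) : ℕ := (Bool.rec (motive := fun _ => ℕ) rl38 rl39 (Nat.ble 39 j))

/-- a part of the choice of the part of the table -/
noncomputable def selTN23 (j : ℕ) : ℕ := (Bool.rec (motive := fun _ => ℕ) rl40 rl41 (Nat.ble 41 j))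

/-- a part of the choice of the part of the table -/
noncomputable def selTN24 (j : ℕ) : ℕ := (Bool.rec (motive := fun _ => ℕ) (selTN22 j) (Bool.rec (motive := fun _ => ℕ) (selTN23 j) rl42 (Nat.ble 42 j)) (Nat.ble 40 j))

/-- a part of the choice of the part of the table -/
noncomputable def selTN25 (j : ℕ) : ℕ := (Bool.rec (motive := fun _ => ℕ) rl43 rl44 (Nat.ble 44 j))

/-- a part of the choice of the part of the table -/
noncomputable def selTN26 (j : ℕ) : ℕ := (Bool.rec (motive := fun _ => ℕ) rl45 rl46 (Nat.ble 46 j))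

/-- a part of the choice of the part of the table -/
noncomputable def selTN27 (j : ℕ) : ℕ := (Bool.rec (motive := fun _ => ℕ) (selTN25 j) (Bool.rec (motive := fun _ => ℕ) (selTN26 j) rl47 (Nat.ble 47 j)) (Nat.ble 45 j))

/-- a part of the choice of the part of the table -/
noncomputable def selTN28 (j : ℕ) : ℕ := (Bool.rec (motive := fun _ => ℕ) rl48 rl49 (Nat.ble 49 j))

/-- a part of the choice of the part of the table -/
noncomputable def selTN29 (j : ℕ) : ℕ := (Bool.rec (motive := fun _ => ℕ) rl50 rl51 (Nat.ble 51 j))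

/-- a part of the choice of the part of the table -/
noncomputable def selTN30 (j : ℕ) : ℕ := (Bool.rec (motive := fun _ => ℕ) (selTN28 j) (Bool.rec (motive := fun _ => ℕ) (selTN29 j) rl52 (Nat.ble 52 j)) (Nat.ble 50 j))

/-- a part of the choice of the part of the table -/
noncomputable def selTN31 (j : ℕ) : ℕ := (Bool.rec (motive := fun _ => ℕ) (Bool.rec (motive := fun _ => ℕ) rl53 rl54 (Nat.ble 54 j)) (Bool.rec (motive := fun _ => ℕ) rl55 rl56 (Nat.ble 56 j)) (Nat.ble 55 j))

/-- a part of the choice of the part of the table -/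
noncomputable def selTN32 (j : ℕ) : ℕ := (Bool.rec (motive := fun _ => ℕ) (Bool.rec (motive := fun _ => ℕ) (selTN24 j) (selTN27 j) (Nat.ble 43 j)) (Bool.rec (motive := fun _ => ℕ) (selTN30 j) (selTN31 j) (Nat.ble 53 j)) (Nat.ble 48 j))

/-- a part of the choice of the part of the table -/
noncomputable def selTN33 (j : ℕ) : ℕ := (Bool.rec (motive := fun _ => ℕ) rl57 rl58 (Nat.ble 58 j))

/-- a part of the choice of the part of the table -/
noncomputable def selTN34 (j : ℕ) : ℕ := (Bool.rec (motive := fun _ => ℕ) rl59 rl60 (Nat.ble 60 j))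

/-- a part of the choice of the part of the table -/
noncomputable def selTN35 (j : ℕ) : ℕ := (Bool.rec (motive := fun _ => ℕ) (selTN33 j) (Bool.rec (motive := fun _ => ℕ) (selTN34 j) rl61 (Nat.ble 61 j)) (Nat.ble 59 j))

/-- a part of the choice of the part of the table -/
noncomputable def selTN36 (j : ℕ) : ℕ := (Bool.rec (motive := fun _ => ℕ) rl62 rl63 (Nat.ble 63 j))

/-- a part of the choice of the part of the table -/
noncomputable def selTN37 (j : ℕ) : ℕ := (Bool.rec (motive := fun _ => ℕ) rl64 rl65 (Nat.ble 65 j))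

/-- a part of the choice of the part of the table -/
noncomputable def selTN38 (j : ℕ) : ℕ := (Bool.rec (motive := fun _ => ℕ) (selTN36 j) (Bool.rec (motive := fun _ => ℕ) (selTN37 j) rl66 (Nat.ble 66 j)) (Nat.ble 64 j))

/-- a part of the choice of the part of the table -/
noncomputable def selTN39 (j : ℕ) : ℕ := (Bool.rec (motive := fun _ => ℕ) rl67 rl68 (Nat.ble 68 j))

/-- a part of the choice of the part of the table -/
noncomputable def selTN40 (j : ℕ) : ℕ := (Bool.rec (motive := fun _ => ℕ) rl69 rl70 (Nat.ble 70 j))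

/-- a part of the choice of the part of the table -/
noncomputable def selTN41 (j : ℕ) : ℕ := (Bool.rec (motive := fun _ => ℕ) (selTN39 j) (Bool.rec (motive := fun _ => ℕ) (selTN40 j) rl71 (Nat.ble 71 j)) (Nat.ble 69 j))

/-- a part of the choice of the part of the table -/
noncomputable def selTN42 (j : ℕ) : ℕ := (Bool.rec (motive := fun _ => ℕ) rl72 (Bool.rec (motive := fun _ => ℕ) rl73 rl74 (Nat.ble 74 j)) (Nat.ble 73 j))

/-- a part of the choice of the part of the table -/
noncomputable def selTN43 (j : ℕ) : ℕ := (Bool.rec (motive := fun _ => ℕ) (Bool.rec (motive := fun _ => ℕ) (selTN35 j) (selTN38 j) (Nat.ble 62 j)) (Bool.rec (motive := fun _ => ℕ) (selTN41 j) (selTN42 j) (Nat.ble 72 j)) (Nat.ble 67 j))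

/-- a part of the choice of the part of the table -/
noncomputable def selTN44 (j : ℕ) : ℕ := (Bool.rec (motive := fun _ => ℕ) (Bool.rec (motive := fun _ => ℕ) (selTN10 j) (selTN21 j) (Nat.ble 19 j)) (Bool.rec (motive := fun _ => ℕ) (selTN32 j) (selTN43 j) (Nat.ble 57 j)) (Nat.ble 38 j))

/-- a part of the choice of the part of the table -/
noncomputable def selTN45 (j : ℕ) : ℕ := (Bool.rec (motive := fun _ => ℕ) rl75 rl76 (Nat.ble 76 j))

/-- a part of the choice of the part of the table -/
noncomputable def selTN46 (j : ℕ) : ℕ := (Bool.rec (motive := fun _ => ℕ) rl77 rl78 (Nat.ble 78 j))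

/-- a part of the choice of the part of the table -/
noncomputable def selTN47 (j : ℕ) : ℕ := (Bool.rec (motive := fun _ => ℕ) (selTN45 j) (Bool.rec (motive := fun _ => ℕ) (selTN46 j) rl79 (Nat.ble 79 j)) (Nat.ble 77 j))

/-- a part of the choice of the part of the table -/
noncomputable def selTN48 (j : ℕ) : ℕ := (Bool.rec (motive := fun _ => ℕ) rl80 rl81 (Nat.ble 81 j))

/-- a part of the choice of the part of the table -/
noncomputable def selTN49 (j : ℕ) : ℕ := (Bool.rec (motive := fun _ => ℕ) rl82 rl83 (Nat.ble 83 j))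

/-- a part of the choice of the part of the table -/
noncomputable def selTN50 (j : ℕ) : ℕ := (Bool.rec (motive := fun _ => ℕ) (selTN48 j) (Bool.rec (motive := fun _ => ℕ) (selTN49 j) rl84 (Nat.ble 84 j)) (Nat.ble 82 j))

/-- a part of the choice of the part of the table -/
noncomputable def selTN51 (j : ℕ) : ℕ := (Bool.rec (motive := fun _ => ℕ) rl85 rl86 (Nat.ble 86 j))

/-- a part of the choice of the part of the table -/
noncomputable def selTN52 (j : ℕ) : ℕ := (Bool.rec (motive := fun _ => ℕ) rl87 rl88 (Nat.ble 88 j))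

/-- a part of the choice of the part of the table -/
noncomputable def selTN53 (j : ℕ) : ℕ := (Bool.rec (motive := fun _ => ℕ) (selTN51 j) (Bool.rec (motive := fun _ => ℕ) (selTN52 j) rl89 (Nat.ble 89 j)) (Nat.ble 87 j))

/-- a part of the choice of the part of the table -/
noncomputable def selTN54 (j : ℕ) : ℕ := (Bool.rec (motive := fun _ => ℕ) (Bool.rec (motive := fun _ => ℕ) rl90 rl91 (Nat.ble 91 j)) (Bool.rec (motive := fun _ => ℕ) rl92 rl93 (Nat.ble 93 j)) (Nat.ble 92 j))

/-- a part of the choice of the part of the table -/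
noncomputable def selTN55 (j : ℕ) : ℕ := (Bool.rec (motive := fun _ => ℕ) (Bool.rec (motive := fun _ => ℕ) (selTN47 j) (selTN50 j) (Nat.ble 80 j)) (Bool.rec (motive := fun _ => ℕ) (selTN53 j) (selTN54 j) (Nat.ble 90 j)) (Nat.ble 85 j))

/-- a part of the choice of the part of the table -/
noncomputable def selTN56 (j : ℕ) : ℕ := (Bool.rec (motive := fun _ => ℕ) rl94 rl95 (Nat.ble 95 j))

/-- a part of the choice of the part of the table -/
noncomputable def selTN57 (j : ℕ) : ℕ := (Bool.rec (motive := fun _ => ℕ) rl96 rl97 (Nat.ble 97 j))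

/-- a part of the choice of the part of the table -/
noncomputable def selTN58 (j : ℕ) : ℕ := (Bool.rec (motive := fun _ => ℕ) (selTN56 j) (Bool.rec (motive := fun _ => ℕ) (selTN57 j) rl98 (Nat.ble 98 j)) (Nat.ble 96 j))

/-- a part of the choice of the part of the table -/
noncomputable def selTN59 (j : ℕ) : ℕ := (Bool.rec (motive := fun _ => ℕ) rl99 rl100 (Nat.ble 100 j))

/-- a part of the choice of the part of the table -/
noncomputable def selTN60 (j : ℕ) : ℕ := (Bool.rec (motive := fun _ => ℕ) rl101 rl102 (Nat.ble 102 j))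

/-- a part of the choice of the part of the table -/
noncomputable def selTN61 (j : ℕ) : ℕ := (Bool.rec (motive := fun _ => ℕ) (selTN59 j) (Bool.rec (motive := fun _ => ℕ) (selTN60 j) rl103 (Nat.ble 103 j)) (Nat.ble 101 j))

/-- a part of the choice of the part of the table -/
noncomputable def selTN62 (j : ℕ) : ℕ := (Bool.rec (motive := fun _ => ℕ) rl104 rl105 (Nat.ble 105 j))

/-- a part of the choice of the part of the table -/
noncomputable def selTN63 (j : ℕ) : ℕ := (Bool.rec (motive := fun _ => ℕ) rl106 rl107 (Nat.ble 107 j))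

/-- a part of the choice of the part of the table -/
noncomputable def selTN64 (j : ℕ) : ℕ := (Bool.rec (motive := fun _ => ℕ) (selTN62 j) (Bool.rec (motive := fun _ => ℕ) (selTN63 j) rl108 (Nat.ble 108 j)) (Nat.ble 106 j))

/-- a part of the choice of the part of the table -/
noncomputable def selTN65 (j : ℕ) : ℕ := (Bool.rec (motive := fun _ => ℕ) (Bool.rec (motive := fun _ => ℕ) rl109 rl110 (Nat.ble 110 j)) (Bool.rec (motive := fun _ => ℕ) rl111 rl112 (Nat.ble 112 j)) (Nat.ble 111 j))

/-- a part of the choice of the part of the table -/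
noncomputable def selTN66 (j : ℕ) : ℕ := (Bool.rec (motive := fun _ => ℕ) (Bool.rec (motive := fun _ => ℕ) (selTN58 j) (selTN61 j) (Nat.ble 99 j)) (Bool.rec (motive := fun _ => ℕ) (selTN64 j) (selTN65 j) (Nat.ble 109 j)) (Nat.ble 104 j))

/-- a part of the choice of the part of the table -/
noncomputable def selTN67 (j : ℕ) : ℕ := (Bool.rec (motive := fun _ => ℕ) rl113 rl114 (Nat.ble 114 j))

/-- a part of the choice of the part of the table -/
noncomputable def selTN68 (j : ℕ) : ℕ := (Bool.rec (motive := fun _ => ℕ) rl115 rl116 (Nat.ble 116 j))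

/-- a part of the choice of the part of the table -/
noncomputable def selTN69 (j : ℕ) : ℕ := (Bool.rec (motive := fun _ => ℕ) (selTN67 j) (Bool.rec (motive := fun _ => ℕ) (selTN68 j) rl117 (Nat.ble 117 j)) (Nat.ble 115 j))

/-- a part of the choice of the part of the table -/
noncomputable def selTN70 (j : ℕ) : ℕ := (Bool.rec (motive := fun _ => ℕ) rl118 rl119 (Nat.ble 119 j))

/-- a part of the choice of the part of the table -/
noncomputable def selTN71 (j : ℕ) : ℕ := (Bool.rec (motive := fun _ => ℕ) rl120 rl121 (Nat.ble 121 j))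

/-- a part of the choice of the part of the table -/
noncomputable def selTN72 (j : ℕ) : ℕ := (Bool.rec (motive := fun _ => ℕ) (selTN70 j) (Bool.rec (motive := fun _ => ℕ) (selTN71 j) rl122 (Nat.ble 122 j)) (Nat.ble 120 j))

/-- a part of the choice of the part of the table -/
noncomputable def selTN73 (j : ℕ) : ℕ := (Bool.rec (motive := fun _ => ℕ) rl123 rl124 (Nat.ble 124 j))

/-- a part of the choice of the part of the table -/
noncomputable def selTN74 (j : ℕ) : ℕ := (Bool.rec (motive := fun _ => ℕ) rl125 rl126 (Nat.ble 126 j))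

/-- a part of the choice of the part of the table -/
noncomputable def selTN75 (j : ℕ) : ℕ := (Bool.rec (motive := fun _ => ℕ) (selTN73 j) (Bool.rec (motive := fun _ => ℕ) (selTN74 j) rl127 (Nat.ble 127 j)) (Nat.ble 125 j))

/-- a part of the choice of the part of the table -/
noncomputable def selTN76 (j : ℕ) : ℕ := (Bool.rec (motive := fun _ => ℕ) (Bool.rec (motive := fun _ => ℕ) rl128 rl129 (Nat.ble 129 j)) (Bool.rec (motive := fun _ => ℕ) rl130 rl131 (Nat.ble 131 j)) (Nat.ble 130 j))

/-- a part of the choice of the part of the table -/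
noncomputable def selTN77 (j : ℕ) : ℕ := (Bool.rec (motive := fun _ => ℕ) (Bool.rec (motive := fun _ => ℕ) (selTN69 j) (selTN72 j) (Nat.ble 118 j)) (Bool.rec (motive := fun _ => ℕ) (selTN75 j) (selTN76 j) (Nat.ble 128 j)) (Nat.ble 123 j))

/-- a part of the choice of the part of the table -/
noncomputable def selTN78 (j : ℕ) : ℕ := (Bool.rec (motive := fun _ => ℕ) rl132 rl133 (Nat.ble 133 j))

/-- a part of the choice of the part of the table -/
noncomputable def selTN79 (j : ℕ) : ℕ := (Bool.rec (motive := fun _ => ℕ) rl134 rl135 (Nat.ble 135 j))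

/-- a part of the choice of the part of the table -/
noncomputable def selTN80 (j : ℕ) : ℕ := (Bool.rec (motive := fun _ => ℕ) (selTN78 j) (Bool.rec (motive := fun _ => ℕ) (selTN79 j) rl136 (Nat.ble 136 j)) (Nat.ble 134 j))

/-- a part of the choice of the part of the table -/
noncomputable def selTN81 (j : ℕ) : ℕ := (Bool.rec (motive := fun _ => ℕ) rl137 rl138 (Nat.ble 138 j))

/-- a part of the choice of the part of the table -/
noncomputable def selTN82 (j : ℕ) : ℕ := (Bool.rec (motive := fun _ => ℕ) rl139 rl140 (Nat.ble 140 j))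

/-- a part of the choice of the part of the table -/
noncomputable def selTN83 (j : ℕ) : ℕ := (Bool.rec (motive := fun _ => ℕ) (selTN81 j) (Bool.rec (motive := fun _ => ℕ) (selTN82 j) rl141 (Nat.ble 141 j)) (Nat.ble 139 j))

/-- a part of the choice of the part of the table -/
noncomputable def selTN84 (j : ℕ) : ℕ := (Bool.rec (motive := fun _ => ℕ) rl142 rl143 (Nat.ble 143 j))

/-- a part of the choice of the part of the table -/
noncomputable def selTN85 (j : ℕ) : ℕ := (Bool.rec (motive := fun _ => ℕ) rl144 rl145 (Nat.ble 145 j))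

/-- a part of the choice of the part of the table -/
noncomputable def selTN86 (j : ℕ) : ℕ := (Bool.rec (motive := fun _ => ℕ) (selTN84 j) (Bool.rec (motive := fun _ => ℕ) (selTN85 j) rl146 (Nat.ble 146 j)) (Nat.ble 144 j))

/-- a part of the choice of the part of the table -/
noncomputable def selTN87 (j : ℕ) : ℕ := (Bool.rec (motive := fun _ => ℕ) rl147 (Bool.rec (motive := fun _ => ℕ) rl148 rl149 (Nat.ble 149 j)) (Nat.ble 148 j))

/-- a part of the choice of the part of the table -/
noncomputable def selTN88 (j : ℕ) : ℕ := (Bool.rec (motive := fun _ => ℕ) (Bool.rec (motive := fun _ => ℕ) (selTN80 j) (selTN83 j) (Nat.ble 137 j)) (Bool.rec (motive := fun _ => ℕ) (selTN86 j) (selTN87 j) (Nat.ble 147 j)) (Nat.ble 142 j))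

/-- a part of the choice of the part of the table -/
noncomputable def selTN89 (j : ℕ) : ℕ := (Bool.rec (motive := fun _ => ℕ) (Bool.rec (motive := fun _ => ℕ) (selTN55 j) (selTN66 j) (Nat.ble 94 j)) (Bool.rec (motive := fun _ => ℕ) (selTN77 j) (selTN88 j) (Nat.ble 132 j)) (Nat.ble 113 j))

/-- a part of the choice of the part of the table -/
noncomputable def selTN90 (j : ℕ) : ℕ := (Bool.rec (motive := fun _ => ℕ) rl150 rl151 (Nat.ble 151 j))

/-- a part of the choice of the part of the table -/
noncomputable def selTN91 (j : ℕ) : ℕ := (Bool.rec (motive := fun _ => ℕ) rl152 rl153 (Nat.ble 153 j))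

/-- a part of the choice of the part of the table -/
noncomputable def selTN92 (j : ℕ) : ℕ := (Bool.rec (motive := fun _ => ℕ) (selTN90 j) (Bool.rec (motive := fun _ => ℕ) (selTN91 j) rl154 (Nat.ble 154 j)) (Nat.ble 152 j))

/-- a part of the choice of the part of the table -/
noncomputable def selTN93 (j : ℕ) : ℕ := (Bool.rec (motive := fun _ => ℕ) rl155 rl156 (Nat.ble 156 j))

/-- a part of the choice of the part of the table -/
noncomputable def selTN94 (j : ℕ) : ℕ := (Bool.rec (motive := fun _ => ℕ) rl157 rl158 (Nat.ble 158 j))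

/-- a part of the choice of the part of the table -/
noncomputable def selTN95 (j : ℕ) : ℕ := (Bool.rec (motive := fun _ => ℕ) (selTN93 j) (Bool.rec (motive := fun _ => ℕ) (selTN94 j) rl159 (Nat.ble 159 j)) (Nat.ble 157 j))

/-- a part of the choice of the part of the table -/
noncomputable def selTN96 (j : ℕ) : ℕ := (Bool.rec (motive := fun _ => ℕ) rl160 rl161 (Nat.ble 161 j))

/-- a part of the choice of the part of the table -/
noncomputable def selTN97 (j : ℕ) : ℕ := (Bool.rec (motive := fun _ => ℕ) rl162 rl163 (Nat.ble 163 j))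

/-- a part of the choice of the part of the table -/
noncomputable def selTN98 (j : ℕ) : ℕ := (Bool.rec (motive := fun _ => ℕ) (selTN96 j) (Bool.rec (motive := fun _ => ℕ) (selTN97 j) rl164 (Nat.ble 164 j)) (Nat.ble 162 j))

/-- a part of the choice of the part of the table -/
noncomputable def selTN99 (j : ℕ) : ℕ := (Bool.rec (motive := fun _ => ℕ) (Bool.rec (motive := fun _ => ℕ) rl165 rl166 (Nat.ble 166 j)) (Bool.rec (motive := fun _ => ℕ) rl167 rl168 (Nat.ble 168 j)) (Nat.ble 167 j))

/-- a part of the choice of the part of the table -/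
noncomputable def selTN100 (j : ℕ) : ℕ := (Bool.rec (motive := fun _ => ℕ) (Bool.rec (motive := fun _ => ℕ) (selTN92 j) (selTN95 j) (Nat.ble 155 j)) (Bool.rec (motive := fun _ => ℕ) (selTN98 j) (selTN99 j) (Nat.ble 165 j)) (Nat.ble 160 j))

/-- a part of the choice of the part of the table -/
noncomputable def selTN101 (j : ℕ) : ℕ := (Bool.rec (motive := fun _ => ℕ) rl169 rl170 (Nat.ble 170 j))

/-- a part of the choice of the part of the table -/
noncomputable def selTN102 (j : ℕ) : ℕ := (Bool.rec (motive := fun _ => ℕ) rl171 rl172 (Nat.ble 172 j))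

/-- a part of the choice of the part of the table -/
noncomputable def selTN103 (j : ℕ) : ℕ := (Bool.rec (motive := fun _ => ℕ) (selTN101 j) (Bool.rec (motive := fun _ => ℕ) (selTN102 j) rl173 (Nat.ble 173 j)) (Nat.ble 171 j))

/-- a part of the choice of the part of the table -/
noncomputable def selTN104 (j : ℕ) : ℕ := (Bool.rec (motive := fun _ => ℕ) rl174 rl175 (Nat.ble 175 j))

/-- a part of the choice of the part of the table -/
noncomputable def selTN105 (j : ℕ) : ℕ := (Bool.rec (motive := fun _ => ℕ) rl176 rl177 (Nat.ble 177 j))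

/-- a part of the choice of the part of the table -/
noncomputable def selTN106 (j : ℕ) : ℕ := (Bool.rec (motive := fun _ => ℕ) (selTN104 j) (Bool.rec (motive := fun _ => ℕ) (selTN105 j) rl178 (Nat.ble 178 j)) (Nat.ble 176 j))

/-- a part of the choice of the part of the table -/
noncomputable def selTN107 (j : ℕ) : ℕ := (Bool.rec (motive := fun _ => ℕ) rl179 rl180 (Nat.ble 180 j))

/-- a part of the choice of the part of the table -/
noncomputable def selTN108 (j : ℕ) : ℕ := (Bool.rec (motive := fun _ => ℕ) rl181 rl182 (Nat.ble 182 j))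

/-- a part of the choice of the part of the table -/
noncomputable def selTN109 (j : ℕ) : ℕ := (Bool.rec (motive := fun _ => ℕ) (selTN107 j) (Bool.rec (motive := fun _ => ℕ) (selTN108 j) rl183 (Nat.ble 183 j)) (Nat.ble 181 j))

/-- a part of the choice of the part of the table -/
noncomputable def selTN110 (j : ℕ) : ℕ := (Bool.rec (motive := fun _ => ℕ) (Bool.rec (motive := fun _ => ℕ) rl184 rl185 (Nat.ble 185 j)) (Bool.rec (motive := fun _ => ℕ) rl186 rl187 (Nat.ble 187 j)) (Nat.ble 186 j))

/-- a part of the choice of the part of the table -/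
noncomputable def selTN111 (j : ℕ) : ℕ := (Bool.rec (motive := fun _ => ℕ) (Bool.rec (motive := fun _ => ℕ) (selTN103 j) (selTN106 j) (Nat.ble 174 j)) (Bool.rec (motive := fun _ => ℕ) (selTN109 j) (selTN110 j) (Nat.ble 184 j)) (Nat.ble 179 j))

/-- a part of the choice of the part of the table -/
noncomputable def selTN112 (j : ℕ) : ℕ := (Bool.rec (motive := fun _ => ℕ) rl188 rl189 (Nat.ble 189 j))

/-- a part of the choice of the part of the table -/
noncomputable def selTN113 (j : ℕ) : ℕ := (Bool.rec (motive := fun _ => ℕ) rl190 rl191 (Nat.ble 191 j))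

/-- a part of the choice of the part of the table -/
noncomputable def selTN114 (j : ℕ) : ℕ := (Bool.rec (motive := fun _ => ℕ) (selTN112 j) (Bool.rec (motive := fun _ => ℕ) (selTN113 j) rl192 (Nat.ble 192 j)) (Nat.ble 190 j))

/-- a part of the choice of the part of the table -/
noncomputable def selTN115 (j : ℕ) : ℕ := (Bool.rec (motive := fun _ => ℕ) rl193 rl194 (Nat.ble 194 j))

/-- a part of the choice of the part of the table -/
noncomputable def selTN116 (j : ℕ) : ℕ := (Bool.rec (motive := fun _ => ℕ) rl195 rl196 (Nat.ble 196 j))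

/-- a part of the choice of the part of the table -/
noncomputable def selTN117 (j : ℕ) : ℕ := (Bool.rec (motive := fun _ => ℕ) (selTN115 j) (Bool.rec (motive := fun _ => ℕ) (selTN116 j) rl197 (Nat.ble 197 j)) (Nat.ble 195 j))

/-- a part of the choice of the part of the table -/
noncomputable def selTN118 (j : ℕ) : ℕ := (Bool.rec (motive := fun _ => ℕ) rl198 rl199 (Nat.ble 199 j))

/-- a part of the choice of the part of the table -/
noncomputable def selTN119 (j : ℕ) : ℕ := (Bool.rec (motive := fun _ => ℕ) rl200 rl201 (Nat.ble 201 j))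

/-- a part of the choice of the part of the table -/
noncomputable def selTN120 (j : ℕ) : ℕ := (Bool.rec (motive := fun _ => ℕ) (selTN118 j) (Bool.rec (motive := fun _ => ℕ) (selTN119 j) rl202 (Nat.ble 202 j)) (Nat.ble 200 j))

/-- a part of the choice of the part of the table -/
noncomputable def selTN121 (j : ℕ) : ℕ := (Bool.rec (motive := fun _ => ℕ) (Bool.rec (motive := fun _ => ℕ) rl203 rl204 (Nat.ble 204 j)) (Bool.rec (motive := fun _ => ℕ) rl205 rl206 (Nat.ble 206 j)) (Nat.ble 205 j))

/-- a part of the choice of the part of the table -/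
noncomputable def selTN122 (j : ℕ) : ℕ := (Bool.rec (motive := fun _ => ℕ) (Bool.rec (motive := fun _ => ℕ) (selTN114 j) (selTN117 j) (Nat.ble 193 j)) (Bool.rec (motive := fun _ => ℕ) (selTN120 j) (selTN121 j) (Nat.ble 203 j)) (Nat.ble 198 j))

/-- a part of the choice of the part of the table -/
noncomputable def selTN123 (j : ℕ) : ℕ := (Bool.rec (motive := fun _ => ℕ) rl207 rl208 (Nat.ble 208 j))

/-- a part of the choice of the part of the table -/
noncomputable def selTN124 (j : ℕ) : ℕ := (Bool.rec (motive := fun _ => ℕ) rl209 rl210 (Nat.ble 210 j))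

/-- a part of the choice of the part of the table -/
noncomputable def selTN125 (j : ℕ) : ℕ := (Bool.rec (motive := fun _ => ℕ) (selTN123 j) (Bool.rec (motive := fun _ => ℕ) (selTN124 j) rl211 (Nat.ble 211 j)) (Nat.ble 209 j))

/-- a part of the choice of the part of the table -/
noncomputable def selTN126 (j : ℕ) : ℕ := (Bool.rec (motive := fun _ => ℕ) rl212 rl213 (Nat.ble 213 j))

/-- a part of the choice of the part of the table -/
noncomputable def selTN127 (j : ℕ) : ℕ := (Bool.rec (motive := fun _ => ℕ) rl214 rl215 (Nat.ble 215 j))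

/-- a part of the choice of the part of the table -/
noncomputable def selTN128 (j : ℕ) : ℕ := (Bool.rec (motive := fun _ => ℕ) (selTN126 j) (Bool.rec (motive := fun _ => ℕ) (selTN127 j) rl216 (Nat.ble 216 j)) (Nat.ble 214 j))

/-- a part of the choice of the part of the table -/
noncomputable def selTN129 (j : ℕ) : ℕ := (Bool.rec (motive := fun _ => ℕ) rl217 rl218 (Nat.ble 218 j))

/-- a part of the choice of the part of the table -/
noncomputable def selTN130 (j : ℕ) : ℕ := (Bool.rec (motive := fun _ => ℕ) rl219 rl220 (Nat.ble 220 j))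

/-- a part of the choice of the part of the table -/
noncomputable def selTN131 (j : ℕ) : ℕ := (Bool.rec (motive := fun _ => ℕ) (selTN129 j) (Bool.rec (motive := fun _ => ℕ) (selTN130 j) rl221 (Nat.ble 221 j)) (Nat.ble 219 j))

/-- a part of the choice of the part of the table -/
noncomputable def selTN132 (j : ℕ) : ℕ := (Bool.rec (motive := fun _ => ℕ) rl222 (Bool.rec (motive := fun _ => ℕ) rl223 rl224 (Nat.ble 224 j)) (Nat.ble 223 j))

/-- a part of the choice of the part of the table -/
noncomputable def selTN133 (j : ℕ) : ℕ := (Bool.rec (motive := fun _ => ℕ) (Bool.rec (motive := fun _ => ℕ) (selTN125 j) (selTN128 j) (Nat.ble 212 j)) (Bool.rec (motive := fun _ => ℕ) (selTN131 j) (selTN132 j) (Nat.ble 222 j)) (Nat.ble 217 j))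

/-- a part of the choice of the part of the table -/
noncomputable def selTN134 (j : ℕ) : ℕ := (Bool.rec (motive := fun _ => ℕ) (Bool.rec (motive := fun _ => ℕ) (selTN100 j) (selTN111 j) (Nat.ble 169 j)) (Bool.rec (motive := fun _ => ℕ) (selTN122 j) (selTN133 j) (Nat.ble 207 j)) (Nat.ble 188 j))

/-- a part of the choice of the part of the table -/
noncomputable def selTN135 (j : ℕ) : ℕ := (Bool.rec (motive := fun _ => ℕ) rl225 rl226 (Nat.ble 226 j))

/-- a part of the choice of the part of the table -/
noncomputable def selTN136 (j : ℕ) : ℕ := (Bool.rec (motive := fun _ => ℕ) rl227 rl228 (Nat.ble 228 j))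

/-- a part of the choice of the part of the table -/
noncomputable def selTN137 (j : ℕ) : ℕ := (Bool.rec (motive := fun _ => ℕ) (selTN135 j) (Bool.rec (motive := fun _ => ℕ) (selTN136 j) rl229 (Nat.ble 229 j)) (Nat.ble 227 j))

/-- a part of the choice of the part of the table -/
noncomputable def selTN138 (j : ℕ) : ℕ := (Bool.rec (motive := fun _ => ℕ) rl230 rl231 (Nat.ble 231 j))

/-- a part of the choice of the part of the table -/
noncomputable def selTN139 (j : ℕ) : ℕ := (Bool.rec (motive := fun _ => ℕ) rl232 rl233 (Nat.ble 233 j))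

/-- a part of the choice of the part of the table -/
noncomputable def selTN140 (j : ℕ) : ℕ := (Bool.rec (motive := fun _ => ℕ) (selTN138 j) (Bool.rec (motive := fun _ => ℕ) (selTN139 j) rl234 (Nat.ble 234 j)) (Nat.ble 232 j))

/-- a part of the choice of the part of the table -/
noncomputable def selTN141 (j : ℕ) : ℕ := (Bool.rec (motive := fun _ => ℕ) rl235 rl236 (Nat.ble 236 j))

/-- a part of the choice of the part of the table -/
noncomputable def selTN142 (j : ℕ) : ℕ := (Bool.rec (motive := fun _ => ℕ) rl237 rl238 (Nat.ble 238 j))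

/-- a part of the choice of the part of the table -/
noncomputable def selTN143 (j : ℕ) : ℕ := (Bool.rec (motive := fun _ => ℕ) (selTN141 j) (Bool.rec (motive := fun _ => ℕ) (selTN142 j) rl239 (Nat.ble 239 j)) (Nat.ble 237 j))

/-- a part of the choice of the part of the table -/
noncomputable def selTN144 (j : ℕ) : ℕ := (Bool.rec (motive := fun _ => ℕ) (Bool.rec (motive := fun _ => ℕ) rl240 rl241 (Nat.ble 241 j)) (Bool.rec (motive := fun _ => ℕ) rl242 rl243 (Nat.ble 243 j)) (Nat.ble 242 j))

/-- a part of the choice of the part of the table -/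
noncomputable def selTN145 (j : ℕ) : ℕ := (Bool.rec (motive := fun _ => ℕ) (Bool.rec (motive := fun _ => ℕ) (selTN137 j) (selTN140 j) (Nat.ble 230 j)) (Bool.rec (motive := fun _ => ℕ) (selTN143 j) (selTN144 j) (Nat.ble 240 j)) (Nat.ble 235 j))

/-- a part of the choice of the part of the table -/
noncomputable def selTN146 (j : ℕ) : ℕ := (Bool.rec (motive := fun _ => ℕ) rl244 rl245 (Nat.ble 245 j))

/-- a part of the choice of the part of the table -/
noncomputable def selTN147 (j : ℕ) : ℕ := (Bool.rec (motive := fun _ => ℕ) rl246 rl247 (Nat.ble 247 j))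

/-- a part of the choice of the part of the table -/
noncomputable def selTN148 (j : ℕ) : ℕ := (Bool.rec (motive := fun _ => ℕ) (selTN146 j) (Bool.rec (motive := fun _ => ℕ) (selTN147 j) rl248 (Nat.ble 248 j)) (Nat.ble 246 j))

/-- a part of the choice of the part of the table -/
noncomputable def selTN149 (j : ℕ) : ℕ := (Bool.rec (motive := fun _ => ℕ) rl249 rl250 (Nat.ble 250 j))

/-- a part of the choice of the part of the table -/
noncomputable def selTN150 (j : ℕ) : ℕ := (Bool.rec (motive := fun _ => ℕ) rl251 rl252 (Nat.ble 252 j))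

/-- a part of the choice of the part of the table -/
noncomputable def selTN151 (j : ℕ) : ℕ := (Bool.rec (motive := fun _ => ℕ) (selTN149 j) (Bool.rec (motive := fun _ => ℕ) (selTN150 j) rl253 (Nat.ble 253 j)) (Nat.ble 251 j))

/-- a part of the choice of the part of the table -/
noncomputable def selTN152 (j : ℕ) : ℕ := (Bool.rec (motive := fun _ => ℕ) rl254 rl255 (Nat.ble 255 j))

/-- a part of the choice of the part of the table -/
noncomputable def selTN153 (j : ℕ) : ℕ := (Bool.rec (motive := fun _ => ℕ) rl256 rl257 (Nat.ble 257 j))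

/-- a part of the choice of the part of the table -/
noncomputable def selTN154 (j : ℕ) : ℕ := (Bool.rec (motive := fun _ => ℕ) (selTN152 j) (Bool.rec (motive := fun _ => ℕ) (selTN153 j) rl258 (Nat.ble 258 j)) (Nat.ble 256 j))

/-- a part of the choice of the part of the table -/
noncomputable def selTN155 (j : ℕ) : ℕ := (Bool.rec (motive := fun _ => ℕ) (Bool.rec (motive := fun _ => ℕ) rl259 rl260 (Nat.ble 260 j)) (Bool.rec (motive := fun _ => ℕ) rl261 rl262 (Nat.ble 262 j)) (Nat.ble 261 j))

/-- a part of the choice of the part of the table -/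
noncomputable def selTN156 (j : ℕ) : ℕ := (Bool.rec (motive := fun _ => ℕ) (Bool.rec (motive := fun _ => ℕ) (selTN148 j) (selTN151 j) (Nat.ble 249 j)) (Bool.rec (motive := fun _ => ℕ) (selTN154 j) (selTN155 j) (Nat.ble 259 j)) (Nat.ble 254 j))

/-- a part of the choice of the part of the table -/
noncomputable def selTN157 (j : ℕ) : ℕ := (Bool.rec (motive := fun _ => ℕ) rl263 rl264 (Nat.ble 264 j))

/-- a part of the choice of the part of the table -/
noncomputable def selTN158 (j : ℕ) : ℕ := (Bool.rec (motive := fun _ => ℕ) rl265 rl266 (Nat.ble 266 j))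

/-- a part of the choice of the part of the table -/
noncomputable def selTN159 (j : ℕ) : ℕ := (Bool.rec (motive := fun _ => ℕ) (selTN157 j) (Bool.rec (motive := fun _ => ℕ) (selTN158 j) rl267 (Nat.ble 267 j)) (Nat.ble 265 j))

/-- a part of the choice of the part of the table -/
noncomputable def selTN160 (j : ℕ) : ℕ := (Bool.rec (motive := fun _ => ℕ) rl268 rl269 (Nat.ble 269 j))

/-- a part of the choice of the part of the table -/
noncomputable def selTN161 (j : ℕ) : ℕ := (Bool.rec (motive := fun _ => ℕ) rl270 rl271 (Nat.ble 271 j))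

/-- a part of the choice of the part of the table -/
noncomputable def selTN162 (j : ℕ) : ℕ := (Bool.rec (motive := fun _ => ℕ) (selTN160 j) (Bool.rec (motive := fun _ => ℕ) (selTN161 j) rl272 (Nat.ble 272 j)) (Nat.ble 270 j))

/-- a part of the choice of the part of the table -/
noncomputable def selTN163 (j : ℕ) : ℕ := (Bool.rec (motive := fun _ => ℕ) rl273 rl274 (Nat.ble 274 j))

/-- a part of the choice of the part of the table -/
noncomputable def selTN164 (j : ℕ) : ℕ := (Bool.rec (motive := fun _ => ℕ) rl275 rl276 (Nat.ble 276 j))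

/-- a part of the choice of the part of the table -/
noncomputable def selTN165 (j : ℕ) : ℕ := (Bool.rec (motive := fun _ => ℕ) (selTN163 j) (Bool.rec (motive := fun _ => ℕ) (selTN164 j) rl277 (Nat.ble 277 j)) (Nat.ble 275 j))

/-- a part of the choice of the part of the table -/
noncomputable def selTN166 (j : ℕ) : ℕ := (Bool.rec (motive := fun _ => ℕ) (Bool.rec (motive := fun _ => ℕ) rl278 rl279 (Nat.ble 279 j)) (Bool.rec (motive := fun _ => ℕ) rl280 rl281 (Nat.ble 281 j)) (Nat.ble 280 j))

/-- a part of the choice of the part of the table -/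
noncomputable def selTN167 (j : ℕ) : ℕ := (Bool.rec (motive := fun _ => ℕ) (Bool.rec (motive := fun _ => ℕ) (selTN159 j) (selTN162 j) (Nat.ble 268 j)) (Bool.rec (motive := fun _ => ℕ) (selTN165 j) (selTN166 j) (Nat.ble 278 j)) (Nat.ble 273 j))

/-- a part of the choice of the part of the table -/
noncomputable def selTN168 (j : ℕ) : ℕ := (Bool.rec (motive := fun _ => ℕ) rl282 rl283 (Nat.ble 283 j))

/-- a part of the choice of the part of the table -/
noncomputable def selTN169 (j : ℕ) : ℕ := (Bool.rec (motive := fun _ => ℕ) rl284 rl285 (Nat.ble 285 j))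

/-- a part of the choice of the part of the table -/
noncomputable def selTN170 (j : ℕ) : ℕ := (Bool.rec (motive := fun _ => ℕ) (selTN168 j) (Bool.rec (motive := fun _ => ℕ) (selTN169 j) rl286 (Nat.ble 286 j)) (Nat.ble 284 j))

/-- a part of the choice of the part of the table -/
noncomputable def selTN171 (j : ℕ) : ℕ := (Bool.rec (motive := fun _ => ℕ) rl287 rl288 (Nat.ble 288 j))

/-- a part of the choice of the part of the table -/
noncomputable def selTN172 (j : ℕ) : ℕ := (Bool.rec (motive := fun _ => ℕ) rl289 rl290 (Nat.ble 290 j))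

/-- a part of the choice of the part of the table -/
noncomputable def selTN173 (j : ℕ) : ℕ := (Bool.rec (motive := fun _ => ℕ) (selTN171 j) (Bool.rec (motive := fun _ => ℕ) (selTN172 j) rl291 (Nat.ble 291 j)) (Nat.ble 289 j))

/-- a part of the choice of the part of the table -/
noncomputable def selTN174 (j : ℕ) : ℕ := (Bool.rec (motive := fun _ => ℕ) rl292 rl293 (Nat.ble 293 j))

/-- a part of the choice of the part of the table -/
noncomputable def selTN175 (j : ℕ) : ℕ := (Bool.rec (motive := fun _ => ℕ) rl294 rl295 (Nat.ble 295 j))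

/-- a part of the choice of the part of the table -/
noncomputable def selTN176 (j : ℕ) : ℕ := (Bool.rec (motive := fun _ => ℕ) (selTN174 j) (Bool.rec (motive := fun _ => ℕ) (selTN175 j) rl296 (Nat.ble 296 j)) (Nat.ble 294 j))

/-- a part of the choice of the part of the table -/
noncomputable def selTN177 (j : ℕ) : ℕ := (Bool.rec (motive := fun _ => ℕ) rl297 (Bool.rec (motive := fun _ => ℕ) rl298 rl299 (Nat.ble 299 j)) (Nat.ble 298 j))

/-- a part of the choice of the part of the table -/
noncomputable def selTN178 (j : ℕ) : ℕ := (Bool.rec (motive := fun _ => ℕ) (Bool.rec (motive := fun _ => ℕ) (selTN170 j) (selTN173 j) (Nat.ble 287 j)) (Bool.rec (motive := fun _ => ℕ) (selTN176 j) (selTN177 j) (Nat.ble 297 j)) (Nat.ble 292 j))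

/-- a part of the choice of the part of the table -/
noncomputable def selTN179 (j : ℕ) : ℕ := (Bool.rec (motive := fun _ => ℕ) (Bool.rec (motive := fun _ => ℕ) (selTN145 j) (selTN156 j) (Nat.ble 244 j)) (Bool.rec (motive := fun _ => ℕ) (selTN167 j) (selTN178 j) (Nat.ble 282 j)) (Nat.ble 263 j))

/-- a part of the choice of the part of the table -/
noncomputable def selTN180 (j : ℕ) : ℕ := (Bool.rec (motive := fun _ => ℕ) (Bool.rec (motive := fun _ => ℕ) (selTN44 j) (selTN89 j) (Nat.ble 75 j)) (Bool.rec (motive := fun _ => ℕ) (selTN134 j) (selTN179 j) (Nat.ble 225 j)) (Nat.ble 150 j))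

/-- a part of the choice of the part of the table -/
noncomputable def selTN181 (j : ℕ) : ℕ := (Bool.rec (motive := fun _ => ℕ) rl300 rl301 (Nat.ble 301 j))

/-- a part of the choice of the part of the table -/
noncomputable def selTN182 (j : ℕ) : ℕ := (Bool.rec (motive := fun _ => ℕ) rl302 rl303 (Nat.ble 303 j))

/-- a part of the choice of the part of the table -/
noncomputable def selTN183 (j : ℕ) : ℕ := (Bool.rec (motive := fun _ => ℕ) (selTN181 j) (Bool.rec (motive := fun _ => ℕ) (selTN182 j) rl304 (Nat.ble 304 j)) (Nat.ble 302 j))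

/-- a part of the choice of the part of the table -/
noncomputable def selTN184 (j : ℕ) : ℕ := (Bool.rec (motive := fun _ => ℕ) rl305 rl306 (Nat.ble 306 j))

/-- a part of the choice of the part of the table -/
noncomputable def selTN185 (j : ℕ) : ℕ := (Bool.rec (motive := fun _ => ℕ) rl307 rl308 (Nat.ble 308 j))

/-- a part of the choice of the part of the table -/
noncomputable def selTN186 (j : ℕ) : ℕ := (Bool.rec (motive := fun _ => ℕ) (selTN184 j) (Bool.rec (motive := fun _ => ℕ) (selTN185 j) rl309 (Nat.ble 309 j)) (Nat.ble 307 j))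

/-- a part of the choice of the part of the table -/
noncomputable def selTN187 (j : ℕ) : ℕ := (Bool.rec (motive := fun _ => ℕ) rl310 rl311 (Nat.ble 311 j))

/-- a part of the choice of the part of the table -/
noncomputable def selTN188 (j : ℕ) : ℕ := (Bool.rec (motive := fun _ => ℕ) rl312 rl313 (Nat.ble 313 j))

/-- a part of the choice of the part of the table -/
noncomputable def selTN189 (j : ℕ) : ℕ := (Bool.rec (motive := fun _ => ℕ) (selTN187 j) (Bool.rec (motive := fun _ => ℕ) (selTN188 j) rl314 (Nat.ble 314 j)) (Nat.ble 312 j))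

/-- a part of the choice of the part of the table -/
noncomputable def selTN190 (j : ℕ) : ℕ := (Bool.rec (motive := fun _ => ℕ) (Bool.rec (motive := fun _ => ℕ) rl315 rl316 (Nat.ble 316 j)) (Bool.rec (motive := fun _ => ℕ) rl317 rl318 (Nat.ble 318 j)) (Nat.ble 317 j))

/-- a part of the choice of the part of the table -/
noncomputable def selTN191 (j : ℕ) : ℕ := (Bool.rec (motive := fun _ => ℕ) (Bool.rec (motive := fun _ => ℕ) (selTN183 j) (selTN186 j) (Nat.ble 305 j)) (Bool.rec (motive := fun _ => ℕ) (selTN189 j) (selTN190 j) (Nat.ble 315 j)) (Nat.ble 310 j))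

/-- a part of the choice of the part of the table -/
noncomputable def selTN192 (j : ℕ) : ℕ := (Bool.rec (motive := fun _ => ℕ) rl319 rl320 (Nat.ble 320 j))

/-- a part of the choice of the part of the table -/
noncomputable def selTN193 (j : ℕ) : ℕ := (Bool.rec (motive := fun _ => ℕ) rl321 rl322 (Nat.ble 322 j))

/-- a part of the choice of the part of the table -/
noncomputable def selTN194 (j : ℕ) : ℕ := (Bool.rec (motive := fun _ => ℕ) (selTN192 j) (Bool.rec (motive := fun _ => ℕ) (selTN193 j) rl323 (Nat.ble 323 j)) (Nat.ble 321 j))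

/-- a part of the choice of the part of the table -/
noncomputable def selTN195 (j : ℕ) : ℕ := (Bool.rec (motive := fun _ => ℕ) rl324 rl325 (Nat.ble 325 j))

/-- a part of the choice of the part of the table -/
noncomputable def selTN196 (j : ℕ) : ℕ := (Bool.rec (motive := fun _ => ℕ) rl326 rl327 (Nat.ble 327 j))

/-- a part of the choice of the part of the table -/
noncomputable def selTN197 (j : ℕ) : ℕ := (Bool.rec (motive := fun _ => ℕ) (selTN195 j) (Bool.rec (motive := fun _ => ℕ) (selTN196 j) rl328 (Nat.ble 328 j)) (Nat.ble 326 j))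

/-- a part of the choice of the part of the table -/
noncomputable def selTN198 (j : ℕ) : ℕ := (Bool.rec (motive := fun _ => ℕ) rl329 rl330 (Nat.ble 330 j))

/-- a part of the choice of the part of the table -/
noncomputable def selTN199 (j : ℕ) : ℕ := (Bool.rec (motive := fun _ => ℕ) rl331 rl332 (Nat.ble 332 j))

/-- a part of the choice of the part of the table -/
noncomputable def selTN200 (j : ℕ) : ℕ := (Bool.rec (motive := fun _ => ℕ) (selTN198 j) (Bool.rec (motive := fun _ => ℕ) (selTN199 j) rl333 (Nat.ble 333 j)) (Nat.ble 331 j))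

/-- a part of the choice of the part of the table -/
noncomputable def selTN201 (j : ℕ) : ℕ := (Bool.rec (motive := fun _ => ℕ) (Bool.rec (motive := fun _ => ℕ) rl334 rl335 (Nat.ble 335 j)) (Bool.rec (motive := fun _ => ℕ) rl336 rl337 (Nat.ble 337 j)) (Nat.ble 336 j))

/-- a part of the choice of the part of the table -/
noncomputable def selTN202 (j : ℕ) : ℕ := (Bool.rec (motive := fun _ => ℕ) (Bool.rec (motive := fun _ => ℕ) (selTN194 j) (selTN197 j) (Nat.ble 324 j)) (Bool.rec (motive := fun _ => ℕ) (selTN200 j) (selTN201 j) (Nat.ble 334 j)) (Nat.ble 329 j))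

/-- a part of the choice of the part of the table -/
noncomputable def selTN203 (j : ℕ) : ℕ := (Bool.rec (motive := fun _ => ℕ) rl338 rl339 (Nat.ble 339 j))

/-- a part of the choice of the part of the table -/
noncomputable def selTN204 (j : ℕ) : ℕ := (Bool.rec (motive := fun _ => ℕ) rl340 rl341 (Nat.ble 341 j))

/-- a part of the choice of the part of the table -/
noncomputable def selTN205 (j : ℕ) : ℕ := (Bool.rec (motive := fun _ => ℕ) (selTN203 j) (Bool.rec (motive := fun _ => ℕ) (selTN204 j) rl342 (Nat.ble 342 j)) (Nat.ble 340 j))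

/-- a part of the choice of the part of the table -/
noncomputable def selTN206 (j : ℕ) : ℕ := (Bool.rec (motive := fun _ => ℕ) rl343 rl344 (Nat.ble 344 j))

/-- a part of the choice of the part of the table -/
noncomputable def selTN207 (j : ℕ) : ℕ := (Bool.rec (motive := fun _ => ℕ) rl345 rl346 (Nat.ble 346 j))

/-- a part of the choice of the part of the table -/
noncomputable def selTN208 (j : ℕ) : ℕ := (Bool.rec (motive := fun _ => ℕ) (selTN206 j) (Bool.rec (motive := fun _ => ℕ) (selTN207 j) rl347 (Nat.ble 347 j)) (Nat.ble 345 j))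

/-- a part of the choice of the part of the table -/
noncomputable def selTN209 (j : ℕ) : ℕ := (Bool.rec (motive := fun _ => ℕ) rl348 rl349 (Nat.ble 349 j))

/-- a part of the choice of the part of the table -/
noncomputable def selTN210 (j : ℕ) : ℕ := (Bool.rec (motive := fun _ => ℕ) rl350 rl351 (Nat.ble 351 j))

/-- a part of the choice of the part of the table -/
noncomputable def selTN211 (j : ℕ) : ℕ := (Bool.rec (motive := fun _ => ℕ) (selTN209 j) (Bool.rec (motive := fun _ => ℕ) (selTN210 j) rl352 (Nat.ble 352 j)) (Nat.ble 350 j))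

/-- a part of the choice of the part of the table -/
noncomputable def selTN212 (j : ℕ) : ℕ := (Bool.rec (motive := fun _ => ℕ) (Bool.rec (motive := fun _ => ℕ) rl353 rl354 (Nat.ble 354 j)) (Bool.rec (motive := fun _ => ℕ) rl355 rl356 (Nat.ble 356 j)) (Nat.ble 355 j))

/-- a part of the choice of the part of the table -/
noncomputable def selTN213 (j : ℕ) : ℕ := (Bool.rec (motive := fun _ => ℕ) (Bool.rec (motive := fun _ => ℕ) (selTN205 j) (selTN208 j) (Nat.ble 343 j)) (Bool.rec (motive := fun _ => ℕ) (selTN211 j) (selTN212 j) (Nat.ble 353 j)) (Nat.ble 348 j))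

/-- a part of the choice of the part of the table -/
noncomputable def selTN214 (j : ℕ) : ℕ := (Bool.rec (motive := fun _ => ℕ) rl357 rl358 (Nat.ble 358 j))

/-- a part of the choice of the part of the table -/
noncomputable def selTN215 (j : ℕ) : ℕ := (Bool.rec (motive := fun _ => ℕ) rl359 rl360 (Nat.ble 360 j))

/-- a part of the choice of the part of the table -/
noncomputable def selTN216 (j : ℕ) : ℕ := (Bool.rec (motive := fun _ => ℕ) (selTN214 j) (Bool.rec (motive := fun _ => ℕ) (selTN215 j) rl361 (Nat.ble 361 j)) (Nat.ble 359 j))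

/-- a part of the choice of the part of the table -/
noncomputable def selTN217 (j : ℕ) : ℕ := (Bool.rec (motive := fun _ => ℕ) rl362 rl363 (Nat.ble 363 j))

/-- a part of the choice of the part of the table -/
noncomputable def selTN218 (j : ℕ) : ℕ := (Bool.rec (motive := fun _ => ℕ) rl364 rl365 (Nat.ble 365 j))

/-- a part of the choice of the part of the table -/
noncomputable def selTN219 (j : ℕ) : ℕ := (Bool.rec (motive := fun _ => ℕ) (selTN217 j) (Bool.rec (motive := fun _ => ℕ) (selTN218 j) rl366 (Nat.ble 366 j)) (Nat.ble 364 j))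

/-- a part of the choice of the part of the table -/
noncomputable def selTN220 (j : ℕ) : ℕ := (Bool.rec (motive := fun _ => ℕ) rl367 rl368 (Nat.ble 368 j))

/-- a part of the choice of the part of the table -/
noncomputable def selTN221 (j : ℕ) : ℕ := (Bool.rec (motive := fun _ => ℕ) rl369 rl370 (Nat.ble 370 j))

/-- a part of the choice of the part of the table -/
noncomputable def selTN222 (j : ℕ) : ℕ := (Bool.rec (motive := fun _ => ℕ) (selTN220 j) (Bool.rec (motive := fun _ => ℕ) (selTN221 j) rl371 (Nat.ble 371 j)) (Nat.ble 369 j))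

/-- a part of the choice of the part of the table -/
noncomputable def selTN223 (j : ℕ) : ℕ := (Bool.rec (motive := fun _ => ℕ) rl372 (Bool.rec (motive := fun _ => ℕ) rl373 rl374 (Nat.ble 374 j)) (Nat.ble 373 j))

/-- a part of the choice of the part of the table -/
noncomputable def selTN224 (j : ℕ) : ℕ := (Bool.rec (motive := fun _ => ℕ) (Bool.rec (motive := fun _ => ℕ) (selTN216 j) (selTN219 j) (Nat.ble 362 j)) (Bool.rec (motive := fun _ => ℕ) (selTN222 j) (selTN223 j) (Nat.ble 372 j)) (Nat.ble 367 j))

/-- a part of the choice of the part of the table -/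
noncomputable def selTN225 (j : ℕ) : ℕ := (Bool.rec (motive := fun _ => ℕ) (Bool.rec (motive := fun _ => ℕ) (selTN191 j) (selTN202 j) (Nat.ble 319 j)) (Bool.rec (motive := fun _ => ℕ) (selTN213 j) (selTN224 j) (Nat.ble 357 j)) (Nat.ble 338 j))

/-- a part of the choice of the part of the table -/
noncomputable def selTN226 (j : ℕ) : ℕ := (Bool.rec (motive := fun _ => ℕ) rl375 rl376 (Nat.ble 376 j))

/-- a part of the choice of the part of the table -/
noncomputable def selTN227 (j : ℕ) : ℕ := (Bool.rec (motive := fun _ => ℕ) rl377 rl378 (Nat.ble 378 j))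

/-- a part of the choice of the part of the table -/
noncomputable def selTN228 (j : ℕ) : ℕ := (Bool.rec (motive := fun _ => ℕ) (selTN226 j) (Bool.rec (motive := fun _ => ℕ) (selTN227 j) rl379 (Nat.ble 379 j)) (Nat.ble 377 j))

/-- a part of the choice of the part of the table -/
noncomputable def selTN229 (j : ℕ) : ℕ := (Bool.rec (motive := fun _ => ℕ) rl380 rl381 (Nat.ble 381 j))

/-- a part of the choice of the part of the table -/
noncomputable def selTN230 (j : ℕ) : ℕ := (Bool.rec (motive := fun _ => ℕ) rl382 rl383 (Nat.ble 383 j))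

/-- a part of the choice of the part of the table -/
noncomputable def selTN231 (j : ℕ) : ℕ := (Bool.rec (motive := fun _ => ℕ) (selTN229 j) (Bool.rec (motive := fun _ => ℕ) (selTN230 j) rl384 (Nat.ble 384 j)) (Nat.ble 382 j))

/-- a part of the choice of the part of the table -/
noncomputable def selTN232 (j : ℕ) : ℕ := (Bool.rec (motive := fun _ => ℕ) rl385 rl386 (Nat.ble 386 j))

/-- a part of the choice of the part of the table -/
noncomputable def selTN233 (j : ℕ) : ℕ := (Bool.rec (motive := fun _ => ℕ) rl387 rl388 (Nat.ble 388 j))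

/-- a part of the choice of the part of the table -/
noncomputable def selTN234 (j : ℕ) : ℕ := (Bool.rec (motive := fun _ => ℕ) (selTN232 j) (Bool.rec (motive := fun _ => ℕ) (selTN233 j) rl389 (Nat.ble 389 j)) (Nat.ble 387 j))

/-- a part of the choice of the part of the table -/
noncomputable def selTN235 (j : ℕ) : ℕ := (Bool.rec (motive := fun _ => ℕ) (Bool.rec (motive := fun _ => ℕ) rl390 rl391 (Nat.ble 391 j)) (Bool.rec (motive := fun _ => ℕ) rl392 rl393 (Nat.ble 393 j)) (Nat.ble 392 j))

/-- a part of the choice of the part of the table -/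
noncomputable def selTN236 (j : ℕ) : ℕ := (Bool.rec (motive := fun _ => ℕ) (Bool.rec (motive := fun _ => ℕ) (selTN228 j) (selTN231 j) (Nat.ble 380 j)) (Bool.rec (motive := fun _ => ℕ) (selTN234 j) (selTN235 j) (Nat.ble 390 j)) (Nat.ble 385 j))

/-- a part of the choice of the part of the table -/
noncomputable def selTN237 (j : ℕ) : ℕ := (Bool.rec (motive := fun _ => ℕ) rl394 rl395 (Nat.ble 395 j))

/-- a part of the choice of the part of the table -/
noncomputable def selTN238 (j : ℕ) : ℕ := (Bool.rec (motive := fun _ => ℕ) rl396 rl397 (Nat.ble 397 j))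

/-- a part of the choice of the part of the table -/
noncomputable def selTN239 (j : ℕ) : ℕ := (Bool.rec (motive := fun _ => ℕ) (selTN237 j) (Bool.rec (motive := fun _ => ℕ) (selTN238 j) rl398 (Nat.ble 398 j)) (Nat.ble 396 j))

/-- a part of the choice of the part of the table -/
noncomputable def selTN240 (j : ℕ) : ℕ := (Bool.rec (motive := fun _ => ℕ) rl399 rl400 (Nat.ble 400 j))

/-- a part of the choice of the part of the table -/
noncomputable def selTN241 (j : ℕ) : ℕ := (Bool.rec (motive := fun _ => ℕ) rl401 rl402 (Nat.ble 402 j))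

/-- a part of the choice of the part of the table -/
noncomputable def selTN242 (j : ℕ) : ℕ := (Bool.rec (motive := fun _ => ℕ) (selTN240 j) (Bool.rec (motive := fun _ => ℕ) (selTN241 j) rl403 (Nat.ble 403 j)) (Nat.ble 401 j))

/-- a part of the choice of the part of the table -/
noncomputable def selTN243 (j : ℕ) : ℕ := (Bool.rec (motive := fun _ => ℕ) rl404 rl405 (Nat.ble 405 j))

/-- a part of the choice of the part of the table -/
noncomputable def selTN244 (j : ℕ) : ℕ := (Bool.rec (motive := fun _ => ℕ) rl406 rl407 (Nat.ble 407 j))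

/-- a part of the choice of the part of the table -/
noncomputable def selTN245 (j : ℕ) : ℕ := (Bool.rec (motive := fun _ => ℕ) (selTN243 j) (Bool.rec (motive := fun _ => ℕ) (selTN244 j) rl408 (Nat.ble 408 j)) (Nat.ble 406 j))

/-- a part of the choice of the part of the table -/
noncomputable def selTN246 (j : ℕ) : ℕ := (Bool.rec (motive := fun _ => ℕ) (Bool.rec (motive := fun _ => ℕ) rl409 rl410 (Nat.ble 410 j)) (Bool.rec (motive := fun _ => ℕ) rl411 rl412 (Nat.ble 412 j)) (Nat.ble 411 j))

/-- a part of the choice of the part of the table -/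
noncomputable def selTN247 (j : ℕ) : ℕ := (Bool.rec (motive := fun _ => ℕ) (Bool.rec (motive := fun _ => ℕ) (selTN239 j) (selTN242 j) (Nat.ble 399 j)) (Bool.rec (motive := fun _ => ℕ) (selTN245 j) (selTN246 j) (Nat.ble 409 j)) (Nat.ble 404 j))

/-- a part of the choice of the part of the table -/
noncomputable def selTN248 (j : ℕ) : ℕ := (Bool.rec (motive := fun _ => ℕ) rl413 rl414 (Nat.ble 414 j))

/-- a part of the choice of the part of the table -/
noncomputable def selTN249 (j : ℕ) : ℕ := (Bool.rec (motive := fun _ => ℕ) rl415 rl416 (Nat.ble 416 j))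

/-- a part of the choice of the part of the table -/
noncomputable def selTN250 (j : ℕ) : ℕ := (Bool.rec (motive := fun _ => ℕ) (selTN248 j) (Bool.rec (motive := fun _ => ℕ) (selTN249 j) rl417 (Nat.ble 417 j)) (Nat.ble 415 j))

/-- a part of the choice of the part of the table -/
noncomputable def selTN251 (j : ℕ) : ℕ := (Bool.rec (motive := fun _ => ℕ) rl418 rl419 (Nat.ble 419 j))

/-- a part of the choice of the part of the table -/
noncomputable def selTN252 (j : ℕ) : ℕ := (Bool.rec (motive := fun _ => ℕ) rl420 rl421 (Nat.ble 421 j))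

/-- a part of the choice of the part of the table -/
noncomputable def selTN253 (j : ℕ) : ℕ := (Bool.rec (motive := fun _ => ℕ) (selTN251 j) (Bool.rec (motive := fun _ => ℕ) (selTN252 j) rl422 (Nat.ble 422 j)) (Nat.ble 420 j))

/-- a part of the choice of the part of the table -/
noncomputable def selTN254 (j : ℕ) : ℕ := (Bool.rec (motive := fun _ => ℕ) rl423 rl424 (Nat.ble 424 j))

/-- a part of the choice of the part of the table -/
noncomputable def selTN255 (j : ℕ) : ℕ := (Bool.rec (motive := fun _ => ℕ) rl425 rl426 (Nat.ble 426 j))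

/-- a part of the choice of the part of the table -/
noncomputable def selTN256 (j : ℕ) : ℕ := (Bool.rec (motive := fun _ => ℕ) (selTN254 j) (Bool.rec (motive := fun _ => ℕ) (selTN255 j) rl427 (Nat.ble 427 j)) (Nat.ble 425 j))

/-- a part of the choice of the part of the table -/
noncomputable def selTN257 (j : ℕ) : ℕ := (Bool.rec (motive := fun _ => ℕ) (Bool.rec (motive := fun _ => ℕ) rl428 rl429 (Nat.ble 429 j)) (Bool.rec (motive := fun _ => ℕ) rl430 rl431 (Nat.ble 431 j)) (Nat.ble 430 j))

/-- a part of the choice of the part of the table -/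
noncomputable def selTN258 (j : ℕ) : ℕ := (Bool.rec (motive := fun _ => ℕ) (Bool.rec (motive := fun _ => ℕ) (selTN250 j) (selTN253 j) (Nat.ble 418 j)) (Bool.rec (motive := fun _ => ℕ) (selTN256 j) (selTN257 j) (Nat.ble 428 j)) (Nat.ble 423 j))

/-- a part of the choice of the part of the table -/
noncomputable def selTN259 (j : ℕ) : ℕ := (Bool.rec (motive := fun _ => ℕ) rl432 rl433 (Nat.ble 433 j))

/-- a part of the choice of the part of the table -/
noncomputable def selTN260 (j : ℕ) : ℕ := (Bool.rec (motive := fun _ => ℕ) rl434 rl435 (Nat.ble 435 j))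

/-- a part of the choice of the part of the table -/
noncomputable def selTN261 (j : ℕ) : ℕ := (Bool.rec (motive := fun _ => ℕ) (selTN259 j) (Bool.rec (motive := fun _ => ℕ) (selTN260 j) rl436 (Nat.ble 436 j)) (Nat.ble 434 j))

/-- a part of the choice of the part of the table -/
noncomputable def selTN262 (j : ℕ) : ℕ := (Bool.rec (motive := fun _ => ℕ) rl437 rl438 (Nat.ble 438 j))

/-- a part of the choice of the part of the table -/
noncomputable def selTN263 (j : ℕ) : ℕ := (Bool.rec (motive := fun _ => ℕ) rl439 rl440 (Nat.ble 440 j))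

/-- a part of the choice of the part of the table -/
noncomputable def selTN264 (j : ℕ) : ℕ := (Bool.rec (motive := fun _ => ℕ) (selTN262 j) (Bool.rec (motive := fun _ => ℕ) (selTN263 j) rl441 (Nat.ble 441 j)) (Nat.ble 439 j))

/-- a part of the choice of the part of the table -/
noncomputable def selTN265 (j : ℕ) : ℕ := (Bool.rec (motive := fun _ => ℕ) rl442 rl443 (Nat.ble 443 j))

/-- a part of the choice of the part of the table -/
noncomputable def selTN266 (j : ℕ) : ℕ := (Bool.rec (motive := fun _ => ℕ) rl444 rl445 (Nat.ble 445 j))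

/-- a part of the choice of the part of the table -/
noncomputable def selTN267 (j : ℕ) : ℕ := (Bool.rec (motive := fun _ => ℕ) (selTN265 j) (Bool.rec (motive := fun _ => ℕ) (selTN266 j) rl446 (Nat.ble 446 j)) (Nat.ble 444 j))

/-- a part of the choice of the part of the table -/
noncomputable def selTN268 (j : ℕ) : ℕ := (Bool.rec (motive := fun _ => ℕ) rl447 (Bool.rec (motive := fun _ => ℕ) rl448 rl449 (Nat.ble 449 j)) (Nat.ble 448 j))

/-- a part of the choice of the part of the table -/
noncomputable def selTN269 (j : ℕ) : ℕ := (Bool.rec (motive := fun _ => ℕ) (Bool.rec (motive := fun _ => ℕ) (selTN261 j) (selTN264 j) (Nat.ble 437 j)) (Bool.rec (motive := fun _ => ℕ) (selTN267 j) (selTN268 j) (Nat.ble 447 j)) (Nat.ble 442 j))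

/-- a part of the choice of the part of the table -/
noncomputable def selTN270 (j : ℕ) : ℕ := (Bool.rec (motive := fun _ => ℕ) (Bool.rec (motive := fun _ => ℕ) (selTN236 j) (selTN247 j) (Nat.ble 394 j)) (Bool.rec (motive := fun _ => ℕ) (selTN258 j) (selTN269 j) (Nat.ble 432 j)) (Nat.ble 413 j))

/-- a part of the choice of the part of the table -/
noncomputable def selTN271 (j : ℕ) : ℕ := (Bool.rec (motive := fun _ => ℕ) rl450 rl451 (Nat.ble 451 j))

/-- a part of the choice of the part of the table -/
noncomputable def selTN272 (j : ℕ) : ℕ := (Bool.rec (motive := fun _ => ℕ) rl452 rl453 (Nat.ble 453 j))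

/-- a part of the choice of the part of the table -/
noncomputable def selTN273 (j : ℕ) : ℕ := (Bool.rec (motive := fun _ => ℕ) (selTN271 j) (Bool.rec (motive := fun _ => ℕ) (selTN272 j) rl454 (Nat.ble 454 j)) (Nat.ble 452 j))

/-- a part of the choice of the part of the table -/
noncomputable def selTN274 (j : ℕ) : ℕ := (Bool.rec (motive := fun _ => ℕ) rl455 rl456 (Nat.ble 456 j))

/-- a part of the choice of the part of the table -/
noncomputable def selTN275 (j : ℕ) : ℕ := (Bool.rec (motive := fun _ => ℕ) rl457 rl458 (Nat.ble 458 j))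

/-- a part of the choice of the part of the table -/
noncomputable def selTN276 (j : ℕ) : ℕ := (Bool.rec (motive := fun _ => ℕ) (selTN274 j) (Bool.rec (motive := fun _ => ℕ) (selTN275 j) rl459 (Nat.ble 459 j)) (Nat.ble 457 j))

/-- a part of the choice of the part of the table -/
noncomputable def selTN277 (j : ℕ) : ℕ := (Bool.rec (motive := fun _ => ℕ) rl460 rl461 (Nat.ble 461 j))

/-- a part of the choice of the part of the table -/
noncomputable def selTN278 (j : ℕ) : ℕ := (Bool.rec (motive := fun _ => ℕ) rl462 rl463 (Nat.ble 463 j))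

/-- a part of the choice of the part of the table -/
noncomputable def selTN279 (j : ℕ) : ℕ := (Bool.rec (motive := fun _ => ℕ) (selTN277 j) (Bool.rec (motive := fun _ => ℕ) (selTN278 j) rl464 (Nat.ble 464 j)) (Nat.ble 462 j))

/-- a part of the choice of the part of the table -/
noncomputable def selTN280 (j : ℕ) : ℕ := (Bool.rec (motive := fun _ => ℕ) (Bool.rec (motive := fun _ => ℕ) rl465 rl466 (Nat.ble 466 j)) (Bool.rec (motive := fun _ => ℕ) rl467 rl468 (Nat.ble 468 j)) (Nat.ble 467 j))

/-- a part of the choice of the part of the table -/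
noncomputable def selTN281 (j : ℕ) : ℕ := (Bool.rec (motive := fun _ => ℕ) (Bool.rec (motive := fun _ => ℕ) (selTN273 j) (selTN276 j) (Nat.ble 455 j)) (Bool.rec (motive := fun _ => ℕ) (selTN279 j) (selTN280 j) (Nat.ble 465 j)) (Nat.ble 460 j))

/-- a part of the choice of the part of the table -/
noncomputable def selTN282 (j : ℕ) : ℕ := (Bool.rec (motive := fun _ => ℕ) rl469 rl470 (Nat.ble 470 j))

/-- a part of the choice of the part of the table -/
noncomputable def selTN283 (j : ℕ) : ℕ := (Bool.rec (motive := fun _ => ℕ) rl471 rl472 (Nat.ble 472 j))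

/-- a part of the choice of the part of the table -/
noncomputable def selTN284 (j : ℕ) : ℕ := (Bool.rec (motive := fun _ => ℕ) (selTN282 j) (Bool.rec (motive := fun _ => ℕ) (selTN283 j) rl473 (Nat.ble 473 j)) (Nat.ble 471 j))

/-- a part of the choice of the part of the table -/
noncomputable def selTN285 (j : ℕ) : ℕ := (Bool.rec (motive := fun _ => ℕ) rl474 rl475 (Nat.ble 475 j))

/-- a part of the choice of the part of the table -/
noncomputable def selTN286 (j : ℕ) : ℕ := (Bool.rec (motive := fun _ => ℕ) rl476 rl477 (Nat.ble 477 j))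

/-- a part of the choice of the part of the table -/
noncomputable def selTN287 (j : ℕ) : ℕ := (Bool.rec (motive := fun _ => ℕ) (selTN285 j) (Bool.rec (motive := fun _ => ℕ) (selTN286 j) rl478 (Nat.ble 478 j)) (Nat.ble 476 j))

/-- a part of the choice of the part of the table -/
noncomputable def selTN288 (j : ℕ) : ℕ := (Bool.rec (motive := fun _ => ℕ) rl479 rl480 (Nat.ble 480 j))

/-- a part of the choice of the part of the table -/
noncomputable def selTN289 (j : ℕ) : ℕ := (Bool.rec (motive := fun _ => ℕ) rl481 rl482 (Nat.ble 482 j))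

/-- a part of the choice of the part of the table -/
noncomputable def selTN290 (j : ℕ) : ℕ := (Bool.rec (motive := fun _ => ℕ) (selTN288 j) (Bool.rec (motive := fun _ => ℕ) (selTN289 j) rl483 (Nat.ble 483 j)) (Nat.ble 481 j))

/-- a part of the choice of the part of the table -/
noncomputable def selTN291 (j : ℕ) : ℕ := (Bool.rec (motive := fun _ => ℕ) (Bool.rec (motive := fun _ => ℕ) rl484 rl485 (Nat.ble 485 j)) (Bool.rec (motive := fun _ => ℕ) rl486 rl487 (Nat.ble 487 j)) (Nat.ble 486 j))

/-- a part of the choice of the part of the table -/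
noncomputable def selTN292 (j : ℕ) : ℕ := (Bool.rec (motive := fun _ => ℕ) (Bool.rec (motive := fun _ => ℕ) (selTN284 j) (selTN287 j) (Nat.ble 474 j)) (Bool.rec (motive := fun _ => ℕ) (selTN290 j) (selTN291 j) (Nat.ble 484 j)) (Nat.ble 479 j))

/-- a part of the choice of the part of the table -/
noncomputable def selTN293 (j : ℕ) : ℕ := (Bool.rec (motive := fun _ => ℕ) rl488 rl489 (Nat.ble 489 j))

/-- a part of the choice of the part of the table -/
noncomputable def selTN294 (j : ℕ) : ℕ := (Bool.rec (motive := fun _ => ℕ) rl490 rl491 (Nat.ble 491 j))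

/-- a part of the choice of the part of the table -/
noncomputable def selTN295 (j : ℕ) : ℕ := (Bool.rec (motive := fun _ => ℕ) (selTN293 j) (Bool.rec (motive := fun _ => ℕ) (selTN294 j) rl492 (Nat.ble 492 j)) (Nat.ble 490 j))

/-- a part of the choice of the part of the table -/
noncomputable def selTN296 (j : ℕ) : ℕ := (Bool.rec (motive := fun _ => ℕ) rl493 rl494 (Nat.ble 494 j))

/-- a part of the choice of the part of the table -/
noncomputable def selTN297 (j : ℕ) : ℕ := (Bool.rec (motive := fun _ => ℕ) rl495 rl496 (Nat.ble 496 j))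

/-- a part of the choice of the part of the table -/
noncomputable def selTN298 (j : ℕ) : ℕ := (Bool.rec (motive := fun _ => ℕ) (selTN296 j) (Bool.rec (motive := fun _ => ℕ) (selTN297 j) rl497 (Nat.ble 497 j)) (Nat.ble 495 j))

/-- a part of the choice of the part of the table -/
noncomputable def selTN299 (j : ℕ) : ℕ := (Bool.rec (motive := fun _ => ℕ) rl498 rl499 (Nat.ble 499 j))

/-- a part of the choice of the part of the table -/
noncomputable def selTN300 (j : ℕ) : ℕ := (Bool.rec (motive := fun _ => ℕ) rl500 rl501 (Nat.ble 501 j))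

/-- a part of the choice of the part of the table -/
noncomputable def selTN301 (j : ℕ) : ℕ := (Bool.rec (motive := fun _ => ℕ) (selTN299 j) (Bool.rec (motive := fun _ => ℕ) (selTN300 j) rl502 (Nat.ble 502 j)) (Nat.ble 500 j))

/-- a part of the choice of the part of the table -/
noncomputable def selTN302 (j : ℕ) : ℕ := (Bool.rec (motive := fun _ => ℕ) (Bool.rec (motive := fun _ => ℕ) rl503 rl504 (Nat.ble 504 j)) (Bool.rec (motive := fun _ => ℕ) rl505 rl506 (Nat.ble 506 j)) (Nat.ble 505 j))

/-- a part of the choice of the part of the table -/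
noncomputable def selTN303 (j : ℕ) : ℕ := (Bool.rec (motive := fun _ => ℕ) (Bool.rec (motive := fun _ => ℕ) (selTN295 j) (selTN298 j) (Nat.ble 493 j)) (Bool.rec (motive := fun _ => ℕ) (selTN301 j) (selTN302 j) (Nat.ble 503 j)) (Nat.ble 498 j))

/-- a part of the choice of the part of the table -/
noncomputable def selTN304 (j : ℕ) : ℕ := (Bool.rec (motive := fun _ => ℕ) rl507 rl508 (Nat.ble 508 j))

/-- a part of the choice of the part of the table -/
noncomputable def selTN305 (j : ℕ) : ℕ := (Bool.rec (motive := fun _ => ℕ) rl509 rl510 (Nat.ble 510 j))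

/-- a part of the choice of the part of the table -/
noncomputable def selTN306 (j : ℕ) : ℕ := (Bool.rec (motive := fun _ => ℕ) (selTN304 j) (Bool.rec (motive := fun _ => ℕ) (selTN305 j) rl511 (Nat.ble 511 j)) (Nat.ble 509 j))

/-- a part of the choice of the part of the table -/
noncomputable def selTN307 (j : ℕ) : ℕ := (Bool.rec (motive := fun _ => ℕ) rl512 rl513 (Nat.ble 513 j))

/-- a part of the choice of the part of the table -/
noncomputable def selTN308 (j : ℕ) : ℕ := (Bool.rec (motive := fun _ => ℕ) rl514 rl515 (Nat.ble 515 j))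

/-- a part of the choice of the part of the table -/
noncomputable def selTN309 (j : ℕ) : ℕ := (Bool.rec (motive := fun _ => ℕ) (selTN307 j) (Bool.rec (motive := fun _ => ℕ) (selTN308 j) rl516 (Nat.ble 516 j)) (Nat.ble 514 j))

/-- a part of the choice of the part of the table -/
noncomputable def selTN310 (j : ℕ) : ℕ := (Bool.rec (motive := fun _ => ℕ) rl517 rl518 (Nat.ble 518 j))

/-- a part of the choice of the part of the table -/
noncomputable def selTN311 (j : ℕ) : ℕ := (Bool.rec (motive := fun _ => ℕ) rl519 rl520 (Nat.ble 520 j))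

/-- a part of the choice of the part of the table -/
noncomputable def selTN312 (j : ℕ) : ℕ := (Bool.rec (motive := fun _ => ℕ) (selTN310 j) (Bool.rec (motive := fun _ => ℕ) (selTN311 j) rl521 (Nat.ble 521 j)) (Nat.ble 519 j))

/-- a part of the choice of the part of the table -/
noncomputable def selTN313 (j : ℕ) : ℕ := (Bool.rec (motive := fun _ => ℕ) rl522 (Bool.rec (motive := fun _ => ℕ) rl523 rl524 (Nat.ble 524 j)) (Nat.ble 523 j))

/-- a part of the choice of the part of the table -/
noncomputable def selTN314 (j : ℕ) : ℕ := (Bool.rec (motive := fun _ => ℕ) (Bool.rec (motive := fun _ => ℕ) (selTN306 j) (selTN309 j) (Nat.ble 512 j)) (Bool.rec (motive := fun _ => ℕ) (selTN312 j) (selTN313 j) (Nat.ble 522 j)) (Nat.ble 517 j))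

/-- a part of the choice of the part of the table -/
noncomputable def selTN315 (j : ℕ) : ℕ := (Bool.rec (motive := fun _ => ℕ) (Bool.rec (motive := fun _ => ℕ) (selTN281 j) (selTN292 j) (Nat.ble 469 j)) (Bool.rec (motive := fun _ => ℕ) (selTN303 j) (selTN314 j) (Nat.ble 507 j)) (Nat.ble 488 j))

/-- a part of the choice of the part of the table -/
noncomputable def selTN316 (j : ℕ) : ℕ := (Bool.rec (motive := fun _ => ℕ) rl525 rl526 (Nat.ble 526 j))

/-- a part of the choice of the part of the table -/
noncomputable def selTN317 (j : ℕ) : ℕ := (Bool.rec (motive := fun _ => ℕ) rl527 rl528 (Nat.ble 528 j))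

/-- a part of the choice of the part of the table -/
noncomputable def selTN318 (j : ℕ) : ℕ := (Bool.rec (motive := fun _ => ℕ) (selTN316 j) (Bool.rec (motive := fun _ => ℕ) (selTN317 j) rl529 (Nat.ble 529 j)) (Nat.ble 527 j))

/-- a part of the choice of the part of the table -/
noncomputable def selTN319 (j : ℕ) : ℕ := (Bool.rec (motive := fun _ => ℕ) rl530 rl531 (Nat.ble 531 j))

/-- a part of the choice of the part of the table -/
noncomputable def selTN320 (j : ℕ) : ℕ := (Bool.rec (motive := fun _ => ℕ) rl532 rl533 (Nat.ble 533 j))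

/-- a part of the choice of the part of the table -/
noncomputable def selTN321 (j : ℕ) : ℕ := (Bool.rec (motive := fun _ => ℕ) (selTN319 j) (Bool.rec (motive := fun _ => ℕ) (selTN320 j) rl534 (Nat.ble 534 j)) (Nat.ble 532 j))

/-- a part of the choice of the part of the table -/
noncomputable def selTN322 (j : ℕ) : ℕ := (Bool.rec (motive := fun _ => ℕ) rl535 rl536 (Nat.ble 536 j))

/-- a part of the choice of the part of the table -/
noncomputable def selTN323 (j : ℕ) : ℕ := (Bool.rec (motive := fun _ => ℕ) rl537 rl538 (Nat.ble 538 j))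

/-- a part of the choice of the part of the table -/
noncomputable def selTN324 (j : ℕ) : ℕ := (Bool.rec (motive := fun _ => ℕ) (selTN322 j) (Bool.rec (motive := fun _ => ℕ) (selTN323 j) rl539 (Nat.ble 539 j)) (Nat.ble 537 j))

/-- a part of the choice of the part of the table -/
noncomputable def selTN325 (j : ℕ) : ℕ := (Bool.rec (motive := fun _ => ℕ) (Bool.rec (motive := fun _ => ℕ) rl540 rl541 (Nat.ble 541 j)) (Bool.rec (motive := fun _ => ℕ) rl542 rl543 (Nat.ble 543 j)) (Nat.ble 542 j))

/-- a part of the choice of the part of the table -/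
noncomputable def selTN326 (j : ℕ) : ℕ := (Bool.rec (motive := fun _ => ℕ) (Bool.rec (motive := fun _ => ℕ) (selTN318 j) (selTN321 j) (Nat.ble 530 j)) (Bool.rec (motive := fun _ => ℕ) (selTN324 j) (selTN325 j) (Nat.ble 540 j)) (Nat.ble 535 j))

/-- a part of the choice of the part of the table -/
noncomputable def selTN327 (j : ℕ) : ℕ := (Bool.rec (motive := fun _ => ℕ) rl544 rl545 (Nat.ble 545 j))

/-- a part of the choice of the part of the table -/
noncomputable def selTN328 (j : ℕ) : ℕ := (Bool.rec (motive := fun _ => ℕ) rl546 rl547 (Nat.ble 547 j))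

/-- a part of the choice of the part of the table -/
noncomputable def selTN329 (j : ℕ) : ℕ := (Bool.rec (motive := fun _ => ℕ) (selTN327 j) (Bool.rec (motive := fun _ => ℕ) (selTN328 j) rl548 (Nat.ble 548 j)) (Nat.ble 546 j))

/-- a part of the choice of the part of the table -/
noncomputable def selTN330 (j : ℕ) : ℕ := (Bool.rec (motive := fun _ => ℕ) rl549 rl550 (Nat.ble 550 j))

/-- a part of the choice of the part of the table -/
noncomputable def selTN331 (j : ℕ) : ℕ := (Bool.rec (motive := fun _ => ℕ) rl551 rl552 (Nat.ble 552 j))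

/-- a part of the choice of the part of the table -/
noncomputable def selTN332 (j : ℕ) : ℕ := (Bool.rec (motive := fun _ => ℕ) (selTN330 j) (Bool.rec (motive := fun _ => ℕ) (selTN331 j) rl553 (Nat.ble 553 j)) (Nat.ble 551 j))

/-- a part of the choice of the part of the table -/
noncomputable def selTN333 (j : ℕ) : ℕ := (Bool.rec (motive := fun _ => ℕ) rl554 rl555 (Nat.ble 555 j))

/-- a part of the choice of the part of the table -/
noncomputable def selTN334 (j : ℕ) : ℕ := (Bool.rec (motive := fun _ => ℕ) rl556 rl557 (Nat.ble 557 j))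

/-- a part of the choice of the part of the table -/
noncomputable def selTN335 (j : ℕ) : ℕ := (Bool.rec (motive := fun _ => ℕ) (selTN333 j) (Bool.rec (motive := fun _ => ℕ) (selTN334 j) rl558 (Nat.ble 558 j)) (Nat.ble 556 j))

/-- a part of the choice of the part of the table -/
noncomputable def selTN336 (j : ℕ) : ℕ := (Bool.rec (motive := fun _ => ℕ) (Bool.rec (motive := fun _ => ℕ) rl559 rl560 (Nat.ble 560 j)) (Bool.rec (motive := fun _ => ℕ) rl561 rl562 (Nat.ble 562 j)) (Nat.ble 561 j))

/-- a part of the choice of the part of the table -/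
noncomputable def selTN337 (j : ℕ) : ℕ := (Bool.rec (motive := fun _ => ℕ) (Bool.rec (motive := fun _ => ℕ) (selTN329 j) (selTN332 j) (Nat.ble 549 j)) (Bool.rec (motive := fun _ => ℕ) (selTN335 j) (selTN336 j) (Nat.ble 559 j)) (Nat.ble 554 j))

/-- a part of the choice of the part of the table -/
noncomputable def selTN338 (j : ℕ) : ℕ := (Bool.rec (motive := fun _ => ℕ) rl563 rl564 (Nat.ble 564 j))

/-- a part of the choice of the part of the table -/
noncomputable def selTN339 (j : ℕ) : ℕ := (Bool.rec (motive := fun _ => ℕ) rl565 rl566 (Nat.ble 566 j))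

/-- a part of the choice of the part of the table -/
noncomputable def selTN340 (j : ℕ) : ℕ := (Bool.rec (motive := fun _ => ℕ) (selTN338 j) (Bool.rec (motive := fun _ => ℕ) (selTN339 j) rl567 (Nat.ble 567 j)) (Nat.ble 565 j))

/-- a part of the choice of the part of the table -/
noncomputable def selTN341 (j : ℕ) : ℕ := (Bool.rec (motive := fun _ => ℕ) rl568 rl569 (Nat.ble 569 j))

/-- a part of the choice of the part of the table -/
noncomputable def selTN342 (j : ℕ) : ℕ := (Bool.rec (motive := fun _ => ℕ) rl570 rl571 (Nat.ble 571 j))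

/-- a part of the choice of the part of the table -/
noncomputable def selTN343 (j : ℕ) : ℕ := (Bool.rec (motive := fun _ => ℕ) (selTN341 j) (Bool.rec (motive := fun _ => ℕ) (selTN342 j) rl572 (Nat.ble 572 j)) (Nat.ble 570 j))

/-- a part of the choice of the part of the table -/
noncomputable def selTN344 (j : ℕ) : ℕ := (Bool.rec (motive := fun _ => ℕ) rl573 rl574 (Nat.ble 574 j))

/-- a part of the choice of the part of the table -/
noncomputable def selTN345 (j : ℕ) : ℕ := (Bool.rec (motive := fun _ => ℕ) rl575 rl576 (Nat.ble 576 j))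

/-- a part of the choice of the part of the table -/
noncomputable def selTN346 (j : ℕ) : ℕ := (Bool.rec (motive := fun _ => ℕ) (selTN344 j) (Bool.rec (motive := fun _ => ℕ) (selTN345 j) rl577 (Nat.ble 577 j)) (Nat.ble 575 j))

/-- a part of the choice of the part of the table -/
noncomputable def selTN347 (j : ℕ) : ℕ := (Bool.rec (motive := fun _ => ℕ) (Bool.rec (motive := fun _ => ℕ) rl578 rl579 (Nat.ble 579 j)) (Bool.rec (motive := fun _ => ℕ) rl580 rl581 (Nat.ble 581 j)) (Nat.ble 580 j))

/-- a part of the choice of the part of the table -/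
noncomputable def selTN348 (j : ℕ) : ℕ := (Bool.rec (motive := fun _ => ℕ) (Bool.rec (motive := fun _ => ℕ) (selTN340 j) (selTN343 j) (Nat.ble 568 j)) (Bool.rec (motive := fun _ => ℕ) (selTN346 j) (selTN347 j) (Nat.ble 578 j)) (Nat.ble 573 j))

/-- a part of the choice of the part of the table -/
noncomputable def selTN349 (j : ℕ) : ℕ := (Bool.rec (motive := fun _ => ℕ) rl582 rl583 (Nat.ble 583 j))

/-- a part of the choice of the part of the table -/
noncomputable def selTN350 (j : ℕ) : ℕ := (Bool.rec (motive := fun _ => ℕ) rl584 rl585 (Nat.ble 585 j))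

/-- a part of the choice of the part of the table -/
noncomputable def selTN351 (j : ℕ) : ℕ := (Bool.rec (motive := fun _ => ℕ) (selTN349 j) (Bool.rec (motive := fun _ => ℕ) (selTN350 j) rl586 (Nat.ble 586 j)) (Nat.ble 584 j))

/-- a part of the choice of the part of the table -/
noncomputable def selTN352 (j : ℕ) : ℕ := (Bool.rec (motive := fun _ => ℕ) rl587 rl588 (Nat.ble 588 j))

/-- a part of the choice of the part of the table -/
noncomputable def selTN353 (j : ℕ) : ℕ := (Bool.rec (motive := fun _ => ℕ) rl589 rl590 (Nat.ble 590 j))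

/-- a part of the choice of the part of the table -/
noncomputable def selTN354 (j : ℕ) : ℕ := (Bool.rec (motive := fun _ => ℕ) (selTN352 j) (Bool.rec (motive := fun _ => ℕ) (selTN353 j) rl591 (Nat.ble 591 j)) (Nat.ble 589 j))

/-- a part of the choice of the part of the table -/
noncomputable def selTN355 (j : ℕ) : ℕ := (Bool.rec (motive := fun _ => ℕ) rl592 rl593 (Nat.ble 593 j))

/-- a part of the choice of the part of the table -/
noncomputable def selTN356 (j : ℕ) : ℕ := (Bool.rec (motive := fun _ => ℕ) rl594 rl595 (Nat.ble 595 j))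

/-- a part of the choice of the part of the table -/
noncomputable def selTN357 (j : ℕ) : ℕ := (Bool.rec (motive := fun _ => ℕ) (selTN355 j) (Bool.rec (motive := fun _ => ℕ) (selTN356 j) rl596 (Nat.ble 596 j)) (Nat.ble 594 j))

/-- a part of the choice of the part of the table -/
noncomputable def selTN358 (j : ℕ) : ℕ := (Bool.rec (motive := fun _ => ℕ) rl597 (Bool.rec (motive := fun _ => ℕ) rl598 rl599 (Nat.ble 599 j)) (Nat.ble 598 j))

/-- a part of the choice of the part of the table -/
noncomputable def selTN359 (j : ℕ) : ℕ := (Bool.rec (motive := fun _ => ℕ) (Bool.rec (motive := fun _ => ℕ) (selTN351 j) (selTN354 j) (Nat.ble 587 j)) (Bool.rec (motive := fun _ => ℕ) (selTN357 j) (selTN358 j) (Nat.ble 597 j)) (Nat.ble 592 j))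

/-- a part of the choice of the part of the table -/
noncomputable def selTN360 (j : ℕ) : ℕ := (Bool.rec (motive := fun _ => ℕ) (Bool.rec (motive := fun _ => ℕ) (selTN326 j) (selTN337 j) (Nat.ble 544 j)) (Bool.rec (motive := fun _ => ℕ) (selTN348 j) (selTN359 j) (Nat.ble 582 j)) (Nat.ble 563 j))

/-- a part of the choice of the part of the table -/
noncomputable def selTN361 (j : ℕ) : ℕ := (Bool.rec (motive := fun _ => ℕ) (Bool.rec (motive := fun _ => ℕ) (selTN225 j) (selTN270 j) (Nat.ble 375 j)) (Bool.rec (motive := fun _ => ℕ) (selTN315 j) (selTN360 j) (Nat.ble 525 j)) (Nat.ble 450 j))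

/-- a part of the choice of the part of the table -/
noncomputable def selTN362 (j : ℕ) : ℕ := (Bool.rec (motive := fun _ => ℕ) rl600 rl601 (Nat.ble 601 j))

/-- a part of the choice of the part of the table -/
noncomputable def selTN363 (j : ℕ) : ℕ := (Bool.rec (motive := fun _ => ℕ) rl602 rl603 (Nat.ble 603 j))

/-- a part of the choice of the part of the table -/
noncomputable def selTN364 (j : ℕ) : ℕ := (Bool.rec (motive := fun _ => ℕ) (selTN362 j) (Bool.rec (motive := fun _ => ℕ) (selTN363 j) rl604 (Nat.ble 604 j)) (Nat.ble 602 j))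

/-- a part of the choice of the part of the table -/
noncomputable def selTN365 (j : ℕ) : ℕ := (Bool.rec (motive := fun _ => ℕ) rl605 rl606 (Nat.ble 606 j))

/-- a part of the choice of the part of the table -/
noncomputable def selTN366 (j : ℕ) : ℕ := (Bool.rec (motive := fun _ => ℕ) rl607 rl608 (Nat.ble 608 j))

/-- a part of the choice of the part of the table -/
noncomputable def selTN367 (j : ℕ) : ℕ := (Bool.rec (motive := fun _ => ℕ) (selTN365 j) (Bool.rec (motive := fun _ => ℕ) (selTN366 j) rl609 (Nat.ble 609 j)) (Nat.ble 607 j))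

/-- a part of the choice of the part of the table -/
noncomputable def selTN368 (j : ℕ) : ℕ := (Bool.rec (motive := fun _ => ℕ) rl610 rl611 (Nat.ble 611 j))

/-- a part of the choice of the part of the table -/
noncomputable def selTN369 (j : ℕ) : ℕ := (Bool.rec (motive := fun _ => ℕ) rl612 rl613 (Nat.ble 613 j))

/-- a part of the choice of the part of the table -/
noncomputable def selTN370 (j : ℕ) : ℕ := (Bool.rec (motive := fun _ => ℕ) (selTN368 j) (Bool.rec (motive := fun _ => ℕ) (selTN369 j) rl614 (Nat.ble 614 j)) (Nat.ble 612 j))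

/-- a part of the choice of the part of the table -/
noncomputable def selTN371 (j : ℕ) : ℕ := (Bool.rec (motive := fun _ => ℕ) (Bool.rec (motive := fun _ => ℕ) rl615 rl616 (Nat.ble 616 j)) (Bool.rec (motive := fun _ => ℕ) rl617 rl618 (Nat.ble 618 j)) (Nat.ble 617 j))

/-- a part of the choice of the part of the table -/
noncomputable def selTN372 (j : ℕ) : ℕ := (Bool.rec (motive := fun _ => ℕ) (Bool.rec (motive := fun _ => ℕ) (selTN364 j) (selTN367 j) (Nat.ble 605 j)) (Bool.rec (motive := fun _ => ℕ) (selTN370 j) (selTN371 j) (Nat.ble 615 j)) (Nat.ble 610 j))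

/-- a part of the choice of the part of the table -/
noncomputable def selTN373 (j : ℕ) : ℕ := (Bool.rec (motive := fun _ => ℕ) rl619 rl620 (Nat.ble 620 j))

/-- a part of the choice of the part of the table -/
noncomputable def selTN374 (j : ℕ) : ℕ := (Bool.rec (motive := fun _ => ℕ) rl621 rl622 (Nat.ble 622 j))

/-- a part of the choice of the part of the table -/
noncomputable def selTN375 (j : ℕ) : ℕ := (Bool.rec (motive := fun _ => ℕ) (selTN373 j) (Bool.rec (motive := fun _ => ℕ) (selTN374 j) rl623 (Nat.ble 623 j)) (Nat.ble 621 j))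

/-- a part of the choice of the part of the table -/
noncomputable def selTN376 (j : ℕ) : ℕ := (Bool.rec (motive := fun _ => ℕ) rl624 rl625 (Nat.ble 625 j))

/-- a part of the choice of the part of the table -/
noncomputable def selTN377 (j : ℕ) : ℕ := (Bool.rec (motive := fun _ => ℕ) rl626 rl627 (Nat.ble 627 j))

/-- a part of the choice of the part of the table -/
noncomputable def selTN378 (j : ℕ) : ℕ := (Bool.rec (motive := fun _ => ℕ) (selTN376 j) (Bool.rec (motive := fun _ => ℕ) (selTN377 j) rl628 (Nat.ble 628 j)) (Nat.ble 626 j))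

/-- a part of the choice of the part of the table -/
noncomputable def selTN379 (j : ℕ) : ℕ := (Bool.rec (motive := fun _ => ℕ) rl629 rl630 (Nat.ble 630 j))

/-- a part of the choice of the part of the table -/
noncomputable def selTN380 (j : ℕ) : ℕ := (Bool.rec (motive := fun _ => ℕ) rl631 rl632 (Nat.ble 632 j))

/-- a part of the choice of the part of the table -/
noncomputable def selTN381 (j : ℕ) : ℕ := (Bool.rec (motive := fun _ => ℕ) (selTN379 j) (Bool.rec (motive := fun _ => ℕ) (selTN380 j) rl633 (Nat.ble 633 j)) (Nat.ble 631 j))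

/-- a part of the choice of the part of the table -/
noncomputable def selTN382 (j : ℕ) : ℕ := (Bool.rec (motive := fun _ => ℕ) (Bool.rec (motive := fun _ => ℕ) rl634 rl635 (Nat.ble 635 j)) (Bool.rec (motive := fun _ => ℕ) rl636 rl637 (Nat.ble 637 j)) (Nat.ble 636 j))

/-- a part of the choice of the part of the table -/
noncomputable def selTN383 (j : ℕ) : ℕ := (Bool.rec (motive := fun _ => ℕ) (Bool.rec (motive := fun _ => ℕ) (selTN375 j) (selTN378 j) (Nat.ble 624 j)) (Bool.rec (motive := fun _ => ℕ) (selTN381 j) (selTN382 j) (Nat.ble 634 j)) (Nat.ble 629 j))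

/-- a part of the choice of the part of the table -/
noncomputable def selTN384 (j : ℕ) : ℕ := (Bool.rec (motive := fun _ => ℕ) rl638 rl639 (Nat.ble 639 j))

/-- a part of the choice of the part of the table -/
noncomputable def selTN385 (j : ℕ) : ℕ := (Bool.rec (motive := fun _ => ℕ) rl640 rl641 (Nat.ble 641 j))

/-- a part of the choice of the part of the table -/
noncomputable def selTN386 (j : ℕ) : ℕ := (Bool.rec (motive := fun _ => ℕ) (selTN384 j) (Bool.rec (motive := fun _ => ℕ) (selTN385 j) rl642 (Nat.ble 642 j)) (Nat.ble 640 j))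

/-- a part of the choice of the part of the table -/
noncomputable def selTN387 (j : ℕ) : ℕ := (Bool.rec (motive := fun _ => ℕ) rl643 rl644 (Nat.ble 644 j))

/-- a part of the choice of the part of the table -/
noncomputable def selTN388 (j : ℕ) : ℕ := (Bool.rec (motive := fun _ => ℕ) rl645 rl646 (Nat.ble 646 j))

/-- a part of the choice of the part of the table -/
noncomputable def selTN389 (j : ℕ) : ℕ := (Bool.rec (motive := fun _ => ℕ) (selTN387 j) (Bool.rec (motive := fun _ => ℕ) (selTN388 j) rl647 (Nat.ble 647 j)) (Nat.ble 645 j))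

/-- a part of the choice of the part of the table -/
noncomputable def selTN390 (j : ℕ) : ℕ := (Bool.rec (motive := fun _ => ℕ) rl648 rl649 (Nat.ble 649 j))

/-- a part of the choice of the part of the table -/
noncomputable def selTN391 (j : ℕ) : ℕ := (Bool.rec (motive := fun _ => ℕ) rl650 rl651 (Nat.ble 651 j))

/-- a part of the choice of the part of the table -/
noncomputable def selTN392 (j : ℕ) : ℕ := (Bool.rec (motive := fun _ => ℕ) (selTN390 j) (Bool.rec (motive := fun _ => ℕ) (selTN391 j) rl652 (Nat.ble 652 j)) (Nat.ble 650 j))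

/-- a part of the choice of the part of the table -/
noncomputable def selTN393 (j : ℕ) : ℕ := (Bool.rec (motive := fun _ => ℕ) (Bool.rec (motive := fun _ => ℕ) rl653 rl654 (Nat.ble 654 j)) (Bool.rec (motive := fun _ => ℕ) rl655 rl656 (Nat.ble 656 j)) (Nat.ble 655 j))

/-- a part of the choice of the part of the table -/
noncomputable def selTN394 (j : ℕ) : ℕ := (Bool.rec (motive := fun _ => ℕ) (Bool.rec (motive := fun _ => ℕ) (selTN386 j) (selTN389 j) (Nat.ble 643 j)) (Bool.rec (motive := fun _ => ℕ) (selTN392 j) (selTN393 j) (Nat.ble 653 j)) (Nat.ble 648 j))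

/-- a part of the choice of the part of the table -/
noncomputable def selTN395 (j : ℕ) : ℕ := (Bool.rec (motive := fun _ => ℕ) rl657 rl658 (Nat.ble 658 j))

/-- a part of the choice of the part of the table -/
noncomputable def selTN396 (j : ℕ) : ℕ := (Bool.rec (motive := fun _ => ℕ) rl659 rl660 (Nat.ble 660 j))

/-- a part of the choice of the part of the table -/
noncomputable def selTN397 (j : ℕ) : ℕ := (Bool.rec (motive := fun _ => ℕ) (selTN395 j) (Bool.rec (motive := fun _ => ℕ) (selTN396 j) rl661 (Nat.ble 661 j)) (Nat.ble 659 j))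

/-- a part of the choice of the part of the table -/
noncomputable def selTN398 (j : ℕ) : ℕ := (Bool.rec (motive := fun _ => ℕ) rl662 rl663 (Nat.ble 663 j))

/-- a part of the choice of the part of the table -/
noncomputable def selTN399 (j : ℕ) : ℕ := (Bool.rec (motive := fun _ => ℕ) rl664 rl665 (Nat.ble 665 j))

/-- a part of the choice of the part of the table -/
noncomputable def selTN400 (j : ℕ) : ℕ := (Bool.rec (motive := fun _ => ℕ) (selTN398 j) (Bool.rec (motive := fun _ => ℕ) (selTN399 j) rl666 (Nat.ble 666 j)) (Nat.ble 664 j))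

/-- a part of the choice of the part of the table -/
noncomputable def selTN401 (j : ℕ) : ℕ := (Bool.rec (motive := fun _ => ℕ) rl667 rl668 (Nat.ble 668 j))

/-- a part of the choice of the part of the table -/
noncomputable def selTN402 (j : ℕ) : ℕ := (Bool.rec (motive := fun _ => ℕ) rl669 rl670 (Nat.ble 670 j))

/-- a part of the choice of the part of the table -/
noncomputable def selTN403 (j : ℕ) : ℕ := (Bool.rec (motive := fun _ => ℕ) (selTN401 j) (Bool.rec (motive := fun _ => ℕ) (selTN402 j) rl671 (Nat.ble 671 j)) (Nat.ble 669 j))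

/-- a part of the choice of the part of the table -/
noncomputable def selTN404 (j : ℕ) : ℕ := (Bool.rec (motive := fun _ => ℕ) rl672 (Bool.rec (motive := fun _ => ℕ) rl673 rl674 (Nat.ble 674 j)) (Nat.ble 673 j))

/-- a part of the choice of the part of the table -/
noncomputable def selTN405 (j : ℕ) : ℕ := (Bool.rec (motive := fun _ => ℕ) (Bool.rec (motive := fun _ => ℕ) (selTN397 j) (selTN400 j) (Nat.ble 662 j)) (Bool.rec (motive := fun _ => ℕ) (selTN403 j) (selTN404 j) (Nat.ble 672 j)) (Nat.ble 667 j))

/-- a part of the choice of the part of the table -/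
noncomputable def selTN406 (j : ℕ) : ℕ := (Bool.rec (motive := fun _ => ℕ) (Bool.rec (motive := fun _ => ℕ) (selTN372 j) (selTN383 j) (Nat.ble 619 j)) (Bool.rec (motive := fun _ => ℕ) (selTN394 j) (selTN405 j) (Nat.ble 657 j)) (Nat.ble 638 j))

/-- a part of the choice of the part of the table -/
noncomputable def selTN407 (j : ℕ) : ℕ := (Bool.rec (motive := fun _ => ℕ) rl675 rl676 (Nat.ble 676 j))

/-- a part of the choice of the part of the table -/
noncomputable def selTN408 (j : ℕ) : ℕ := (Bool.rec (motive := fun _ => ℕ) rl677 rl678 (Nat.ble 678 j))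

/-- a part of the choice of the part of the table -/
noncomputable def selTN409 (j : ℕ) : ℕ := (Bool.rec (motive := fun _ => ℕ) (selTN407 j) (Bool.rec (motive := fun _ => ℕ) (selTN408 j) rl679 (Nat.ble 679 j)) (Nat.ble 677 j))

/-- a part of the choice of the part of the table -/
noncomputable def selTN410 (j : ℕ) : ℕ := (Bool.rec (motive := fun _ => ℕ) rl680 rl681 (Nat.ble 681 j))

/-- a part of the choice of the part of the table -/
noncomputable def selTN411 (j : ℕ) : ℕ := (Bool.rec (motive := fun _ => ℕ) rl682 rl683 (Nat.ble 683 j))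

/-- a part of the choice of the part of the table -/
noncomputable def selTN412 (j : ℕ) : ℕ := (Bool.rec (motive := fun _ => ℕ) (selTN410 j) (Bool.rec (motive := fun _ => ℕ) (selTN411 j) rl684 (Nat.ble 684 j)) (Nat.ble 682 j))

/-- a part of the choice of the part of the table -/
noncomputable def selTN413 (j : ℕ) : ℕ := (Bool.rec (motive := fun _ => ℕ) rl685 rl686 (Nat.ble 686 j))

/-- a part of the choice of the part of the table -/
noncomputable def selTN414 (j : ℕ) : ℕ := (Bool.rec (motive := fun _ => ℕ) rl687 rl688 (Nat.ble 688 j))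

/-- a part of the choice of the part of the table -/
noncomputable def selTN415 (j : ℕ) : ℕ := (Bool.rec (motive := fun _ => ℕ) (selTN413 j) (Bool.rec (motive := fun _ => ℕ) (selTN414 j) rl689 (Nat.ble 689 j)) (Nat.ble 687 j))

/-- a part of the choice of the part of the table -/
noncomputable def selTN416 (j : ℕ) : ℕ := (Bool.rec (motive := fun _ => ℕ) (Bool.rec (motive := fun _ => ℕ) rl690 rl691 (Nat.ble 691 j)) (Bool.rec (motive := fun _ => ℕ) rl692 rl693 (Nat.ble 693 j)) (Nat.ble 692 j))

/-- a part of the choice of the part of the table -/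
noncomputable def selTN417 (j : ℕ) : ℕ := (Bool.rec (motive := fun _ => ℕ) (Bool.rec (motive := fun _ => ℕ) (selTN409 j) (selTN412 j) (Nat.ble 680 j)) (Bool.rec (motive := fun _ => ℕ) (selTN415 j) (selTN416 j) (Nat.ble 690 j)) (Nat.ble 685 j))

/-- a part of the choice of the part of the table -/
noncomputable def selTN418 (j : ℕ) : ℕ := (Bool.rec (motive := fun _ => ℕ) rl694 rl695 (Nat.ble 695 j))

/-- a part of the choice of the part of the table -/
noncomputable def selTN419 (j : ℕ) : ℕ := (Bool.rec (motive := fun _ => ℕ) rl696 rl697 (Nat.ble 697 j))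

/-- a part of the choice of the part of the table -/
noncomputable def selTN420 (j : ℕ) : ℕ := (Bool.rec (motive := fun _ => ℕ) (selTN418 j) (Bool.rec (motive := fun _ => ℕ) (selTN419 j) rl698 (Nat.ble 698 j)) (Nat.ble 696 j))

/-- a part of the choice of the part of the table -/
noncomputable def selTN421 (j : ℕ) : ℕ := (Bool.rec (motive := fun _ => ℕ) rl699 rl700 (Nat.ble 700 j))

/-- a part of the choice of the part of the table -/
noncomputable def selTN422 (j : ℕ) : ℕ := (Bool.rec (motive := fun _ => ℕ) rl701 rl702 (Nat.ble 702 j))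

/-- a part of the choice of the part of the table -/
noncomputable def selTN423 (j : ℕ) : ℕ := (Bool.rec (motive := fun _ => ℕ) (selTN421 j) (Bool.rec (motive := fun _ => ℕ) (selTN422 j) rl703 (Nat.ble 703 j)) (Nat.ble 701 j))

/-- a part of the choice of the part of the table -/
noncomputable def selTN424 (j : ℕ) : ℕ := (Bool.rec (motive := fun _ => ℕ) rl704 rl705 (Nat.ble 705 j))

/-- a part of the choice of the part of the table -/
noncomputable def selTN425 (j : ℕ) : ℕ := (Bool.rec (motive := fun _ => ℕ) rl706 rl707 (Nat.ble 707 j))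

/-- a part of the choice of the part of the table -/
noncomputable def selTN426 (j : ℕ) : ℕ := (Bool.rec (motive := fun _ => ℕ) (selTN424 j) (Bool.rec (motive := fun _ => ℕ) (selTN425 j) rl708 (Nat.ble 708 j)) (Nat.ble 706 j))

/-- a part of the choice of the part of the table -/
noncomputable def selTN427 (j : ℕ) : ℕ := (Bool.rec (motive := fun _ => ℕ) (Bool.rec (motive := fun _ => ℕ) rl709 rl710 (Nat.ble 710 j)) (Bool.rec (motive := fun _ => ℕ) rl711 rl712 (Nat.ble 712 j)) (Nat.ble 711 j))

/-- a part of the choice of the part of the table -/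
noncomputable def selTN428 (j : ℕ) : ℕ := (Bool.rec (motive := fun _ => ℕ) (Bool.rec (motive := fun _ => ℕ) (selTN420 j) (selTN423 j) (Nat.ble 699 j)) (Bool.rec (motive := fun _ => ℕ) (selTN426 j) (selTN427 j) (Nat.ble 709 j)) (Nat.ble 704 j))

/-- a part of the choice of the part of the table -/
noncomputable def selTN429 (j : ℕ) : ℕ := (Bool.rec (motive := fun _ => ℕ) rl713 rl714 (Nat.ble 714 j))

/-- a part of the choice of the part of the table -/
noncomputable def selTN430 (j : ℕ) : ℕ := (Bool.rec (motive := fun _ => ℕ) rl715 rl716 (Nat.ble 716 j))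

/-- a part of the choice of the part of the table -/
noncomputable def selTN431 (j : ℕ) : ℕ := (Bool.rec (motive := fun _ => ℕ) (selTN429 j) (Bool.rec (motive := fun _ => ℕ) (selTN430 j) rl717 (Nat.ble 717 j)) (Nat.ble 715 j))

/-- a part of the choice of the part of the table -/
noncomputable def selTN432 (j : ℕ) : ℕ := (Bool.rec (motive := fun _ => ℕ) rl718 rl719 (Nat.ble 719 j))

/-- a part of the choice of the part of the table -/
noncomputable def selTN433 (j : ℕ) : ℕ := (Bool.rec (motive := fun _ => ℕ) rl720 rl721 (Nat.ble 721 j))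

/-- a part of the choice of the part of the table -/
noncomputable def selTN434 (j : ℕ) : ℕ := (Bool.rec (motive := fun _ => ℕ) (selTN432 j) (Bool.rec (motive := fun _ => ℕ) (selTN433 j) rl722 (Nat.ble 722 j)) (Nat.ble 720 j))

/-- a part of the choice of the part of the table -/
noncomputable def selTN435 (j : ℕ) : ℕ := (Bool.rec (motive := fun _ => ℕ) rl723 rl724 (Nat.ble 724 j))

/-- a part of the choice of the part of the table -/
noncomputable def selTN436 (j : ℕ) : ℕ := (Bool.rec (motive := fun _ => ℕ) rl725 rl726 (Nat.ble 726 j))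

/-- a part of the choice of the part of the table -/
noncomputable def selTN437 (j : ℕ) : ℕ := (Bool.rec (motive := fun _ => ℕ) (selTN435 j) (Bool.rec (motive := fun _ => ℕ) (selTN436 j) rl727 (Nat.ble 727 j)) (Nat.ble 725 j))

/-- a part of the choice of the part of the table -/
noncomputable def selTN438 (j : ℕ) : ℕ := (Bool.rec (motive := fun _ => ℕ) (Bool.rec (motive := fun _ => ℕ) rl728 rl729 (Nat.ble 729 j)) (Bool.rec (motive := fun _ => ℕ) rl730 rl731 (Nat.ble 731 j)) (Nat.ble 730 j))

/-- a part of the choice of the part of the table -/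
noncomputable def selTN439 (j : ℕ) : ℕ := (Bool.rec (motive := fun _ => ℕ) (Bool.rec (motive := fun _ => ℕ) (selTN431 j) (selTN434 j) (Nat.ble 718 j)) (Bool.rec (motive := fun _ => ℕ) (selTN437 j) (selTN438 j) (Nat.ble 728 j)) (Nat.ble 723 j))

/-- a part of the choice of the part of the table -/
noncomputable def selTN440 (j : ℕ) : ℕ := (Bool.rec (motive := fun _ => ℕ) rl732 rl733 (Nat.ble 733 j))

/-- a part of the choice of the part of the table -/
noncomputable def selTN441 (j : ℕ) : ℕ := (Bool.rec (motive := fun _ => ℕ) rl734 rl735 (Nat.ble 735 j))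

/-- a part of the choice of the part of the table -/
noncomputable def selTN442 (j : ℕ) : ℕ := (Bool.rec (motive := fun _ => ℕ) (selTN440 j) (Bool.rec (motive := fun _ => ℕ) (selTN441 j) rl736 (Nat.ble 736 j)) (Nat.ble 734 j))

/-- a part of the choice of the part of the table -/
noncomputable def selTN443 (j : ℕ) : ℕ := (Bool.rec (motive := fun _ => ℕ) rl737 rl738 (Nat.ble 738 j))

/-- a part of the choice of the part of the table -/
noncomputable def selTN444 (j : ℕ) : ℕ := (Bool.rec (motive := fun _ => ℕ) rl739 rl740 (Nat.ble 740 j))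

/-- a part of the choice of the part of the table -/
noncomputable def selTN445 (j : ℕ) : ℕ := (Bool.rec (motive := fun _ => ℕ) (selTN443 j) (Bool.rec (motive := fun _ => ℕ) (selTN444 j) rl741 (Nat.ble 741 j)) (Nat.ble 739 j))

/-- a part of the choice of the part of the table -/
noncomputable def selTN446 (j : ℕ) : ℕ := (Bool.rec (motive := fun _ => ℕ) rl742 rl743 (Nat.ble 743 j))

/-- a part of the choice of the part of the table -/
noncomputable def selTN447 (j : ℕ) : ℕ := (Bool.rec (motive := fun _ => ℕ) rl744 rl745 (Nat.ble 745 j))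

/-- a part of the choice of the part of the table -/
noncomputable def selTN448 (j : ℕ) : ℕ := (Bool.rec (motive := fun _ => ℕ) (selTN446 j) (Bool.rec (motive := fun _ => ℕ) (selTN447 j) rl746 (Nat.ble 746 j)) (Nat.ble 744 j))

/-- a part of the choice of the part of the table -/
noncomputable def selTN449 (j : ℕ) : ℕ := (Bool.rec (motive := fun _ => ℕ) rl747 (Bool.rec (motive := fun _ => ℕ) rl748 rl749 (Nat.ble 749 j)) (Nat.ble 748 j))

/-- a part of the choice of the part of the table -/
noncomputable def selTN450 (j : ℕ) : ℕ := (Bool.rec (motive := fun _ => ℕ) (Bool.rec (motive := fun _ => ℕ) (selTN442 j) (selTN445 j) (Nat.ble 737 j)) (Bool.rec (motive := fun _ => ℕ) (selTN448 j) (selTN449 j) (Nat.ble 747 j)) (Nat.ble 742 j))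

/-- a part of the choice of the part of the table -/
noncomputable def selTN451 (j : ℕ) : ℕ := (Bool.rec (motive := fun _ => ℕ) (Bool.rec (motive := fun _ => ℕ) (selTN417 j) (selTN428 j) (Nat.ble 694 j)) (Bool.rec (motive := fun _ => ℕ) (selTN439 j) (selTN450 j) (Nat.ble 732 j)) (Nat.ble 713 j))

/-- a part of the choice of the part of the table -/
noncomputable def selTN452 (j : ℕ) : ℕ := (Bool.rec (motive := fun _ => ℕ) rl750 rl751 (Nat.ble 751 j))

/-- a part of the choice of the part of the table -/
noncomputable def selTN453 (j : ℕ) : ℕ := (Bool.rec (motive := fun _ => ℕ) rl752 rl753 (Nat.ble 753 j))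

/-- a part of the choice of the part of the table -/
noncomputable def selTN454 (j : ℕ) : ℕ := (Bool.rec (motive := fun _ => ℕ) (selTN452 j) (Bool.rec (motive := fun _ => ℕ) (selTN453 j) rl754 (Nat.ble 754 j)) (Nat.ble 752 j))

/-- a part of the choice of the part of the table -/
noncomputable def selTN455 (j : ℕ) : ℕ := (Bool.rec (motive := fun _ => ℕ) rl755 rl756 (Nat.ble 756 j))

/-- a part of the choice of the part of the table -/
noncomputable def selTN456 (j : ℕ) : ℕ := (Bool.rec (motive := fun _ => ℕ) rl757 rl758 (Nat.ble 758 j))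

/-- a part of the choice of the part of the table -/
noncomputable def selTN457 (j : ℕ) : ℕ := (Bool.rec (motive := fun _ => ℕ) (selTN455 j) (Bool.rec (motive := fun _ => ℕ) (selTN456 j) rl759 (Nat.ble 759 j)) (Nat.ble 757 j))

/-- a part of the choice of the part of the table -/
noncomputable def selTN458 (j : ℕ) : ℕ := (Bool.rec (motive := fun _ => ℕ) rl760 rl761 (Nat.ble 761 j))

/-- a part of the choice of the part of the table -/
noncomputable def selTN459 (j : ℕ) : ℕ := (Bool.rec (motive := fun _ => ℕ) rl762 rl763 (Nat.ble 763 j))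

/-- a part of the choice of the part of the table -/
noncomputable def selTN460 (j : ℕ) : ℕ := (Bool.rec (motive := fun _ => ℕ) (selTN458 j) (Bool.rec (motive := fun _ => ℕ) (selTN459 j) rl764 (Nat.ble 764 j)) (Nat.ble 762 j))

/-- a part of the choice of the part of the table -/
noncomputable def selTN461 (j : ℕ) : ℕ := (Bool.rec (motive := fun _ => ℕ) (Bool.rec (motive := fun _ => ℕ) rl765 rl766 (Nat.ble 766 j)) (Bool.rec (motive := fun _ => ℕ) rl767 rl768 (Nat.ble 768 j)) (Nat.ble 767 j))

/-- a part of the choice of the part of the table -/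
noncomputable def selTN462 (j : ℕ) : ℕ := (Bool.rec (motive := fun _ => ℕ) (Bool.rec (motive := fun _ => ℕ) (selTN454 j) (selTN457 j) (Nat.ble 755 j)) (Bool.rec (motive := fun _ => ℕ) (selTN460 j) (selTN461 j) (Nat.ble 765 j)) (Nat.ble 760 j))

/-- a part of the choice of the part of the table -/
noncomputable def selTN463 (j : ℕ) : ℕ := (Bool.rec (motive := fun _ => ℕ) rl769 rl770 (Nat.ble 770 j))

/-- a part of the choice of the part of the table -/
noncomputable def selTN464 (j : ℕ) : ℕ := (Bool.rec (motive := fun _ => ℕ) rl771 rl772 (Nat.ble 772 j))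

/-- a part of the choice of the part of the table -/
noncomputable def selTN465 (j : ℕ) : ℕ := (Bool.rec (motive := fun _ => ℕ) (selTN463 j) (Bool.rec (motive := fun _ => ℕ) (selTN464 j) rl773 (Nat.ble 773 j)) (Nat.ble 771 j))

/-- a part of the choice of the part of the table -/
noncomputable def selTN466 (j : ℕ) : ℕ := (Bool.rec (motive := fun _ => ℕ) rl774 rl775 (Nat.ble 775 j))

/-- a part of the choice of the part of the table -/
noncomputable def selTN467 (j : ℕ) : ℕ := (Bool.rec (motive := fun _ => ℕ) rl776 rl777 (Nat.ble 777 j))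

/-- a part of the choice of the part of the table -/
noncomputable def selTN468 (j : ℕ) : ℕ := (Bool.rec (motive := fun _ => ℕ) (selTN466 j) (Bool.rec (motive := fun _ => ℕ) (selTN467 j) rl778 (Nat.ble 778 j)) (Nat.ble 776 j))

/-- a part of the choice of the part of the table -/
noncomputable def selTN469 (j : ℕ) : ℕ := (Bool.rec (motive := fun _ => ℕ) rl779 rl780 (Nat.ble 780 j))

/-- a part of the choice of the part of the table -/
noncomputable def selTN470 (j : ℕ) : ℕ := (Bool.rec (motive := fun _ => ℕ) rl781 rl782 (Nat.ble 782 j))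

/-- a part of the choice of the part of the table -/
noncomputable def selTN471 (j : ℕ) : ℕ := (Bool.rec (motive := fun _ => ℕ) (selTN469 j) (Bool.rec (motive := fun _ => ℕ) (selTN470 j) rl783 (Nat.ble 783 j)) (Nat.ble 781 j))

/-- a part of the choice of the part of the table -/
noncomputable def selTN472 (j : ℕ) : ℕ := (Bool.rec (motive := fun _ => ℕ) (Bool.rec (motive := fun _ => ℕ) rl784 rl785 (Nat.ble 785 j)) (Bool.rec (motive := fun _ => ℕ) rl786 rl787 (Nat.ble 787 j)) (Nat.ble 786 j))

/-- a part of the choice of the part of the table -/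
noncomputable def selTN473 (j : ℕ) : ℕ := (Bool.rec (motive := fun _ => ℕ) (Bool.rec (motive := fun _ => ℕ) (selTN465 j) (selTN468 j) (Nat.ble 774 j)) (Bool.rec (motive := fun _ => ℕ) (selTN471 j) (selTN472 j) (Nat.ble 784 j)) (Nat.ble 779 j))

/-- a part of the choice of the part of the table -/
noncomputable def selTN474 (j : ℕ) : ℕ := (Bool.rec (motive := fun _ => ℕ) rl788 rl789 (Nat.ble 789 j))

/-- a part of the choice of the part of the table -/
noncomputable def selTN475 (j : ℕ) : ℕ := (Bool.rec (motive := fun _ => ℕ) rl790 rl791 (Nat.ble 791 j))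

/-- a part of the choice of the part of the table -/
noncomputable def selTN476 (j : ℕ) : ℕ := (Bool.rec (motive := fun _ => ℕ) (selTN474 j) (Bool.rec (motive := fun _ => ℕ) (selTN475 j) rl792 (Nat.ble 792 j)) (Nat.ble 790 j))

/-- a part of the choice of the part of the table -/
noncomputable def selTN477 (j : ℕ) : ℕ := (Bool.rec (motive := fun _ => ℕ) rl793 rl794 (Nat.ble 794 j))

/-- a part of the choice of the part of the table -/
noncomputable def selTN478 (j : ℕ) : ℕ := (Bool.rec (motive := fun _ => ℕ) rl795 rl796 (Nat.ble 796 j))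

/-- a part of the choice of the part of the table -/
noncomputable def selTN479 (j : ℕ) : ℕ := (Bool.rec (motive := fun _ => ℕ) (selTN477 j) (Bool.rec (motive := fun _ => ℕ) (selTN478 j) rl797 (Nat.ble 797 j)) (Nat.ble 795 j))

/-- a part of the choice of the part of the table -/
noncomputable def selTN480 (j : ℕ) : ℕ := (Bool.rec (motive := fun _ => ℕ) rl798 rl799 (Nat.ble 799 j))

/-- a part of the choice of the part of the table -/
noncomputable def selTN481 (j : ℕ) : ℕ := (Bool.rec (motive := fun _ => ℕ) rl800 rl801 (Nat.ble 801 j))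

/-- a part of the choice of the part of the table -/
noncomputable def selTN482 (j : ℕ) : ℕ := (Bool.rec (motive := fun _ => ℕ) (selTN480 j) (Bool.rec (motive := fun _ => ℕ) (selTN481 j) rl802 (Nat.ble 802 j)) (Nat.ble 800 j))

/-- a part of the choice of the part of the table -/
noncomputable def selTN483 (j : ℕ) : ℕ := (Bool.rec (motive := fun _ => ℕ) (Bool.rec (motive := fun _ => ℕ) rl803 rl804 (Nat.ble 804 j)) (Bool.rec (motive := fun _ => ℕ) rl805 rl806 (Nat.ble 806 j)) (Nat.ble 805 j))

/-- a part of the choice of the part of the table -/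
noncomputable def selTN484 (j : ℕ) : ℕ := (Bool.rec (motive := fun _ => ℕ) (Bool.rec (motive := fun _ => ℕ) (selTN476 j) (selTN479 j) (Nat.ble 793 j)) (Bool.rec (motive := fun _ => ℕ) (selTN482 j) (selTN483 j) (Nat.ble 803 j)) (Nat.ble 798 j))

/-- a part of the choice of the part of the table -/
noncomputable def selTN485 (j : ℕ) : ℕ := (Bool.rec (motive := fun _ => ℕ) rl807 rl808 (Nat.ble 808 j))

/-- a part of the choice of the part of the table -/
noncomputable def selTN486 (j : ℕ) : ℕ := (Bool.rec (motive := fun _ => ℕ) rl809 rl810 (Nat.ble 810 j))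

/-- a part of the choice of the part of the table -/
noncomputable def selTN487 (j : ℕ) : ℕ := (Bool.rec (motive := fun _ => ℕ) (selTN485 j) (Bool.rec (motive := fun _ => ℕ) (selTN486 j) rl811 (Nat.ble 811 j)) (Nat.ble 809 j))

/-- a part of the choice of the part of the table -/
noncomputable def selTN488 (j : ℕ) : ℕ := (Bool.rec (motive := fun _ => ℕ) rl812 rl813 (Nat.ble 813 j))

/-- a part of the choice of the part of the table -/
noncomputable def selTN489 (j : ℕ) : ℕ := (Bool.rec (motive := fun _ => ℕ) rl814 rl815 (Nat.ble 815 j))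

/-- a part of the choice of the part of the table -/
noncomputable def selTN490 (j : ℕ) : ℕ := (Bool.rec (motive := fun _ => ℕ) (selTN488 j) (Bool.rec (motive := fun _ => ℕ) (selTN489 j) rl816 (Nat.ble 816 j)) (Nat.ble 814 j))

/-- a part of the choice of the part of the table -/
noncomputable def selTN491 (j : ℕ) : ℕ := (Bool.rec (motive := fun _ => ℕ) rl817 rl818 (Nat.ble 818 j))

/-- a part of the choice of the part of the table -/
noncomputable def selTN492 (j : ℕ) : ℕ := (Bool.rec (motive := fun _ => ℕ) rl819 rl820 (Nat.ble 820 j))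

/-- a part of the choice of the part of the table -/
noncomputable def selTN493 (j : ℕ) : ℕ := (Bool.rec (motive := fun _ => ℕ) (selTN491 j) (Bool.rec (motive := fun _ => ℕ) (selTN492 j) rl821 (Nat.ble 821 j)) (Nat.ble 819 j))

/-- a part of the choice of the part of the table -/
noncomputable def selTN494 (j : ℕ) : ℕ := (Bool.rec (motive := fun _ => ℕ) rl822 (Bool.rec (motive := fun _ => ℕ) rl823 rl824 (Nat.ble 824 j)) (Nat.ble 823 j))

/-- a part of the choice of the part of the table -/
noncomputable def selTN495 (j : ℕ) : ℕ := (Bool.rec (motive := fun _ => ℕ) (Bool.rec (motive := fun _ => ℕ) (selTN487 j) (selTN490 j) (Nat.ble 812 j)) (Bool.rec (motive := fun _ => ℕ) (selTN493 j) (selTN494 j) (Nat.ble 822 j)) (Nat.ble 817 j))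

/-- a part of the choice of the part of the table -/
noncomputable def selTN496 (j : ℕ) : ℕ := (Bool.rec (motive := fun _ => ℕ) (Bool.rec (motive := fun _ => ℕ) (selTN462 j) (selTN473 j) (Nat.ble 769 j)) (Bool.rec (motive := fun _ => ℕ) (selTN484 j) (selTN495 j) (Nat.ble 807 j)) (Nat.ble 788 j))

/-- a part of the choice of the part of the table -/
noncomputable def selTN497 (j : ℕ) : ℕ := (Bool.rec (motive := fun _ => ℕ) rl825 rl826 (Nat.ble 826 j))

/-- a part of the choice of the part of the table -/
noncomputable def selTN498 (j : ℕ) : ℕ := (Bool.rec (motive := fun _ => ℕ) rl827 rl828 (Nat.ble 828 j))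

/-- a part of the choice of the part of the table -/
noncomputable def selTN499 (j : ℕ) : ℕ := (Bool.rec (motive := fun _ => ℕ) (selTN497 j) (Bool.rec (motive := fun _ => ℕ) (selTN498 j) rl829 (Nat.ble 829 j)) (Nat.ble 827 j))

/-- a part of the choice of the part of the table -/
noncomputable def selTN500 (j : ℕ) : ℕ := (Bool.rec (motive := fun _ => ℕ) rl830 rl831 (Nat.ble 831 j))

/-- a part of the choice of the part of the table -/
noncomputable def selTN501 (j : ℕ) : ℕ := (Bool.rec (motive := fun _ => ℕ) rl832 rl833 (Nat.ble 833 j))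

/-- a part of the choice of the part of the table -/
noncomputable def selTN502 (j : ℕ) : ℕ := (Bool.rec (motive := fun _ => ℕ) (selTN500 j) (Bool.rec (motive := fun _ => ℕ) (selTN501 j) rl834 (Nat.ble 834 j)) (Nat.ble 832 j))

/-- a part of the choice of the part of the table -/
noncomputable def selTN503 (j : ℕ) : ℕ := (Bool.rec (motive := fun _ => ℕ) rl835 rl836 (Nat.ble 836 j))

/-- a part of the choice of the part of the table -/
noncomputable def selTN504 (j : ℕ) : ℕ := (Bool.rec (motive := fun _ => ℕ) rl837 rl838 (Nat.ble 838 j))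

/-- a part of the choice of the part of the table -/
noncomputable def selTN505 (j : ℕ) : ℕ := (Bool.rec (motive := fun _ => ℕ) (selTN503 j) (Bool.rec (motive := fun _ => ℕ) (selTN504 j) rl839 (Nat.ble 839 j)) (Nat.ble 837 j))

/-- a part of the choice of the part of the table -/
noncomputable def selTN506 (j : ℕ) : ℕ := (Bool.rec (motive := fun _ => ℕ) (Bool.rec (motive := fun _ => ℕ) rl840 rl841 (Nat.ble 841 j)) (Bool.rec (motive := fun _ => ℕ) rl842 rl843 (Nat.ble 843 j)) (Nat.ble 842 j))

/-- a part of the choice of the part of the table -/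
noncomputable def selTN507 (j : ℕ) : ℕ := (Bool.rec (motive := fun _ => ℕ) (Bool.rec (motive := fun _ => ℕ) (selTN499 j) (selTN502 j) (Nat.ble 830 j)) (Bool.rec (motive := fun _ => ℕ) (selTN505 j) (selTN506 j) (Nat.ble 840 j)) (Nat.ble 835 j))

/-- a part of the choice of the part of the table -/
noncomputable def selTN508 (j : ℕ) : ℕ := (Bool.rec (motive := fun _ => ℕ) rl844 rl845 (Nat.ble 845 j))

/-- a part of the choice of the part of the table -/
noncomputable def selTN509 (j : ℕ) : ℕ := (Bool.rec (motive := fun _ => ℕ) rl846 rl847 (Nat.ble 847 j))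

/-- a part of the choice of the part of the table -/
noncomputable def selTN510 (j : ℕ) : ℕ := (Bool.rec (motive := fun _ => ℕ) (selTN508 j) (Bool.rec (motive := fun _ => ℕ) (selTN509 j) rl848 (Nat.ble 848 j)) (Nat.ble 846 j))

/-- a part of the choice of the part of the table -/
noncomputable def selTN511 (j : ℕ) : ℕ := (Bool.rec (motive := fun _ => ℕ) rl849 rl850 (Nat.ble 850 j))

/-- a part of the choice of the part of the table -/
noncomputable def selTN512 (j : ℕ) : ℕ := (Bool.rec (motive := fun _ => ℕ) rl851 rl852 (Nat.ble 852 j))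

/-- a part of the choice of the part of the table -/
noncomputable def selTN513 (j : ℕ) : ℕ := (Bool.rec (motive := fun _ => ℕ) (selTN511 j) (Bool.rec (motive := fun _ => ℕ) (selTN512 j) rl853 (Nat.ble 853 j)) (Nat.ble 851 j))

/-- a part of the choice of the part of the table -/
noncomputable def selTN514 (j : ℕ) : ℕ := (Bool.rec (motive := fun _ => ℕ) rl854 rl855 (Nat.ble 855 j))

/-- a part of the choice of the part of the table -/
noncomputable def selTN515 (j : ℕ) : ℕ := (Bool.rec (motive := fun _ => ℕ) rl856 rl857 (Nat.ble 857 j))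

/-- a part of the choice of the part of the table -/
noncomputable def selTN516 (j : ℕ) : ℕ := (Bool.rec (motive := fun _ => ℕ) (selTN514 j) (Bool.rec (motive := fun _ => ℕ) (selTN515 j) rl858 (Nat.ble 858 j)) (Nat.ble 856 j))

/-- a part of the choice of the part of the table -/
noncomputable def selTN517 (j : ℕ) : ℕ := (Bool.rec (motive := fun _ => ℕ) (Bool.rec (motive := fun _ => ℕ) rl859 rl860 (Nat.ble 860 j)) (Bool.rec (motive := fun _ => ℕ) rl861 rl862 (Nat.ble 862 j)) (Nat.ble 861 j))

/-- a part of the choice of the part of the table -/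
noncomputable def selTN518 (j : ℕ) : ℕ := (Bool.rec (motive := fun _ => ℕ) (Bool.rec (motive := fun _ => ℕ) (selTN510 j) (selTN513 j) (Nat.ble 849 j)) (Bool.rec (motive := fun _ => ℕ) (selTN516 j) (selTN517 j) (Nat.ble 859 j)) (Nat.ble 854 j))

/-- a part of the choice of the part of the table -/
noncomputable def selTN519 (j : ℕ) : ℕ := (Bool.rec (motive := fun _ => ℕ) rl863 rl864 (Nat.ble 864 j))

/-- a part of the choice of the part of the table -/
noncomputable def selTN520 (j : ℕ) : ℕ := (Bool.rec (motive := fun _ => ℕ) rl865 rl866 (Nat.ble 866 j))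

/-- a part of the choice of the part of the table -/
noncomputable def selTN521 (j : ℕ) : ℕ := (Bool.rec (motive := fun _ => ℕ) (selTN519 j) (Bool.rec (motive := fun _ => ℕ) (selTN520 j) rl867 (Nat.ble 867 j)) (Nat.ble 865 j))

/-- a part of the choice of the part of the table -/
noncomputable def selTN522 (j : ℕ) : ℕ := (Bool.rec (motive := fun _ => ℕ) rl868 rl869 (Nat.ble 869 j))

/-- a part of the choice of the part of the table -/
noncomputable def selTN523 (j : ℕ) : ℕ := (Bool.rec (motive := fun _ => ℕ) rl870 rl871 (Nat.ble 871 j))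

/-- a part of the choice of the part of the table -/
noncomputable def selTN524 (j : ℕ) : ℕ := (Bool.rec (motive := fun _ => ℕ) (selTN522 j) (Bool.rec (motive := fun _ => ℕ) (selTN523 j) rl872 (Nat.ble 872 j)) (Nat.ble 870 j))

/-- a part of the choice of the part of the table -/
noncomputable def selTN525 (j : ℕ) : ℕ := (Bool.rec (motive := fun _ => ℕ) rl873 rl874 (Nat.ble 874 j))

/-- a part of the choice of the part of the table -/
noncomputable def selTN526 (j : ℕ) : ℕ := (Bool.rec (motive := fun _ => ℕ) rl875 rl876 (Nat.ble 876 j))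

/-- a part of the choice of the part of the table -/
noncomputable def selTN527 (j : ℕ) : ℕ := (Bool.rec (motive := fun _ => ℕ) (selTN525 j) (Bool.rec (motive := fun _ => ℕ) (selTN526 j) rl877 (Nat.ble 877 j)) (Nat.ble 875 j))

/-- a part of the choice of the part of the table -/
noncomputable def selTN528 (j : ℕ) : ℕ := (Bool.rec (motive := fun _ => ℕ) (Bool.rec (motive := fun _ => ℕ) rl878 rl879 (Nat.ble 879 j)) (Bool.rec (motive := fun _ => ℕ) rl880 rl881 (Nat.ble 881 j)) (Nat.ble 880 j))

/-- a part of the choice of the part of the table -/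
noncomputable def selTN529 (j : ℕ) : ℕ := (Bool.rec (motive := fun _ => ℕ) (Bool.rec (motive := fun _ => ℕ) (selTN521 j) (selTN524 j) (Nat.ble 868 j)) (Bool.rec (motive := fun _ => ℕ) (selTN527 j) (selTN528 j) (Nat.ble 878 j)) (Nat.ble 873 j))

/-- a part of the choice of the part of the table -/
noncomputable def selTN530 (j : ℕ) : ℕ := (Bool.rec (motive := fun _ => ℕ) rl882 rl883 (Nat.ble 883 j))

/-- a part of the choice of the part of the table -/
noncomputable def selTN531 (j : ℕ) : ℕ := (Bool.rec (motive := fun _ => ℕ) rl884 rl885 (Nat.ble 885 j))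

/-- a part of the choice of the part of the table -/
noncomputable def selTN532 (j : ℕ) : ℕ := (Bool.rec (motive := fun _ => ℕ) (selTN530 j) (Bool.rec (motive := fun _ => ℕ) (selTN531 j) rl886 (Nat.ble 886 j)) (Nat.ble 884 j))

/-- a part of the choice of the part of the table -/
noncomputable def selTN533 (j : ℕ) : ℕ := (Bool.rec (motive := fun _ => ℕ) rl887 rl888 (Nat.ble 888 j))

/-- a part of the choice of the part of the table -/
noncomputable def selTN534 (j : ℕ) : ℕ := (Bool.rec (motive := fun _ => ℕ) rl889 rl890 (Nat.ble 890 j))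

/-- a part of the choice of the part of the table -/
noncomputable def selTN535 (j : ℕ) : ℕ := (Bool.rec (motive := fun _ => ℕ) (selTN533 j) (Bool.rec (motive := fun _ => ℕ) (selTN534 j) rl891 (Nat.ble 891 j)) (Nat.ble 889 j))

/-- a part of the choice of the part of the table -/
noncomputable def selTN536 (j : ℕ) : ℕ := (Bool.rec (motive := fun _ => ℕ) rl892 rl893 (Nat.ble 893 j))

/-- a part of the choice of the part of the table -/
noncomputable def selTN537 (j : ℕ) : ℕ := (Bool.rec (motive := fun _ => ℕ) rl894 rl895 (Nat.ble 895 j))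

/-- a part of the choice of the part of the table -/
noncomputable def selTN538 (j : ℕ) : ℕ := (Bool.rec (motive := fun _ => ℕ) (selTN536 j) (Bool.rec (motive := fun _ => ℕ) (selTN537 j) rl896 (Nat.ble 896 j)) (Nat.ble 894 j))

/-- a part of the choice of the part of the table -/
noncomputable def selTN539 (j : ℕ) : ℕ := (Bool.rec (motive := fun _ => ℕ) rl897 (Bool.rec (motive := fun _ => ℕ) rl898 rl899 (Nat.ble 899 j)) (Nat.ble 898 j))

/-- a part of the choice of the part of the table -/
noncomputable def selTN540 (j : ℕ) : ℕ := (Bool.rec (motive := fun _ => ℕ) (Bool.rec (motive := fun _ => ℕ) (selTN532 j) (selTN535 j) (Nat.ble 887 j)) (Bool.rec (motive := fun _ => ℕ) (selTN538 j) (selTN539 j) (Nat.ble 897 j)) (Nat.ble 892 j))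

/-- a part of the choice of the part of the table -/
noncomputable def selTN541 (j : ℕ) : ℕ := (Bool.rec (motive := fun _ => ℕ) (Bool.rec (motive := fun _ => ℕ) (selTN507 j) (selTN518 j) (Nat.ble 844 j)) (Bool.rec (motive := fun _ => ℕ) (selTN529 j) (selTN540 j) (Nat.ble 882 j)) (Nat.ble 863 j))

/-- a part of the choice of the part of the table -/
noncomputable def selTN542 (j : ℕ) : ℕ := (Bool.rec (motive := fun _ => ℕ) (Bool.rec (motive := fun _ => ℕ) (selTN406 j) (selTN451 j) (Nat.ble 675 j)) (Bool.rec (motive := fun _ => ℕ) (selTN496 j) (selTN541 j) (Nat.ble 825 j)) (Nat.ble 750 j))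

/-- a part of the choice of the part of the table -/
noncomputable def selTN543 (j : ℕ) : ℕ := (Bool.rec (motive := fun _ => ℕ) rl900 rl901 (Nat.ble 901 j))

/-- a part of the choice of the part of the table -/
noncomputable def selTN544 (j : ℕ) : ℕ := (Bool.rec (motive := fun _ => ℕ) rl902 rl903 (Nat.ble 903 j))

/-- a part of the choice of the part of the table -/
noncomputable def selTN545 (j : ℕ) : ℕ := (Bool.rec (motive := fun _ => ℕ) (selTN543 j) (Bool.rec (motive := fun _ => ℕ) (selTN544 j) rl904 (Nat.ble 904 j)) (Nat.ble 902 j))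

/-- a part of the choice of the part of the table -/
noncomputable def selTN546 (j : ℕ) : ℕ := (Bool.rec (motive := fun _ => ℕ) rl905 rl906 (Nat.ble 906 j))

/-- a part of the choice of the part of the table -/
noncomputable def selTN547 (j : ℕ) : ℕ := (Bool.rec (motive := fun _ => ℕ) rl907 rl908 (Nat.ble 908 j))

/-- a part of the choice of the part of the table -/
noncomputable def selTN548 (j : ℕ) : ℕ := (Bool.rec (motive := fun _ => ℕ) (selTN546 j) (Bool.rec (motive := fun _ => ℕ) (selTN547 j) rl909 (Nat.ble 909 j)) (Nat.ble 907 j))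

/-- a part of the choice of the part of the table -/
noncomputable def selTN549 (j : ℕ) : ℕ := (Bool.rec (motive := fun _ => ℕ) rl910 rl911 (Nat.ble 911 j))

/-- a part of the choice of the part of the table -/
noncomputable def selTN550 (j : ℕ) : ℕ := (Bool.rec (motive := fun _ => ℕ) rl912 rl913 (Nat.ble 913 j))

/-- a part of the choice of the part of the table -/
noncomputable def selTN551 (j : ℕ) : ℕ := (Bool.rec (motive := fun _ => ℕ) (selTN549 j) (Bool.rec (motive := fun _ => ℕ) (selTN550 j) rl914 (Nat.ble 914 j)) (Nat.ble 912 j))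

/-- a part of the choice of the part of the table -/
noncomputable def selTN552 (j : ℕ) : ℕ := (Bool.rec (motive := fun _ => ℕ) (Bool.rec (motive := fun _ => ℕ) rl915 rl916 (Nat.ble 916 j)) (Bool.rec (motive := fun _ => ℕ) rl917 rl918 (Nat.ble 918 j)) (Nat.ble 917 j))

/-- a part of the choice of the part of the table -/
noncomputable def selTN553 (j : ℕ) : ℕ := (Bool.rec (motive := fun _ => ℕ) (Bool.rec (motive := fun _ => ℕ) (selTN545 j) (selTN548 j) (Nat.ble 905 j)) (Bool.rec (motive := fun _ => ℕ) (selTN551 j) (selTN552 j) (Nat.ble 915 j)) (Nat.ble 910 j))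

/-- a part of the choice of the part of the table -/
noncomputable def selTN554 (j : ℕ) : ℕ := (Bool.rec (motive := fun _ => ℕ) rl919 rl920 (Nat.ble 920 j))

/-- a part of the choice of the part of the table -/
noncomputable def selTN555 (j : ℕ) : ℕ := (Bool.rec (motive := fun _ => ℕ) rl921 rl922 (Nat.ble 922 j))

/-- a part of the choice of the part of the table -/
noncomputable def selTN556 (j : ℕ) : ℕ := (Bool.rec (motive := fun _ => ℕ) (selTN554 j) (Bool.rec (motive := fun _ => ℕ) (selTN555 j) rl923 (Nat.ble 923 j)) (Nat.ble 921 j))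

/-- a part of the choice of the part of the table -/
noncomputable def selTN557 (j : ℕ) : ℕ := (Bool.rec (motive := fun _ => ℕ) rl924 rl925 (Nat.ble 925 j))

/-- a part of the choice of the part of the table -/
noncomputable def selTN558 (j : ℕ) : ℕ := (Bool.rec (motive := fun _ => ℕ) rl926 rl927 (Nat.ble 927 j))

/-- a part of the choice of the part of the table -/
noncomputable def selTN559 (j : ℕ) : ℕ := (Bool.rec (motive := fun _ => ℕ) (selTN557 j) (Bool.rec (motive := fun _ => ℕ) (selTN558 j) rl928 (Nat.ble 928 j)) (Nat.ble 926 j))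

/-- a part of the choice of the part of the table -/
noncomputable def selTN560 (j : ℕ) : ℕ := (Bool.rec (motive := fun _ => ℕ) rl929 rl930 (Nat.ble 930 j))

/-- a part of the choice of the part of the table -/
noncomputable def selTN561 (j : ℕ) : ℕ := (Bool.rec (motive := fun _ => ℕ) rl931 rl932 (Nat.ble 932 j))

/-- a part of the choice of the part of the table -/
noncomputable def selTN562 (j : ℕ) : ℕ := (Bool.rec (motive := fun _ => ℕ) (selTN560 j) (Bool.rec (motive := fun _ => ℕ) (selTN561 j) rl933 (Nat.ble 933 j)) (Nat.ble 931 j))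

/-- a part of the choice of the part of the table -/
noncomputable def selTN563 (j : ℕ) : ℕ := (Bool.rec (motive := fun _ => ℕ) (Bool.rec (motive := fun _ => ℕ) rl934 rl935 (Nat.ble 935 j)) (Bool.rec (motive := fun _ => ℕ) rl936 rl937 (Nat.ble 937 j)) (Nat.ble 936 j))

/-- a part of the choice of the part of the table -/
noncomputable def selTN564 (j : ℕ) : ℕ := (Bool.rec (motive := fun _ => ℕ) (Bool.rec (motive := fun _ => ℕ) (selTN556 j) (selTN559 j) (Nat.ble 924 j)) (Bool.rec (motive := fun _ => ℕ) (selTN562 j) (selTN563 j) (Nat.ble 934 j)) (Nat.ble 929 j))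

/-- a part of the choice of the part of the table -/
noncomputable def selTN565 (j : ℕ) : ℕ := (Bool.rec (motive := fun _ => ℕ) rl938 rl939 (Nat.ble 939 j))

/-- a part of the choice of the part of the table -/
noncomputable def selTN566 (j : ℕ) : ℕ := (Bool.rec (motive := fun _ => ℕ) rl940 rl941 (Nat.ble 941 j))

/-- a part of the choice of the part of the table -/
noncomputable def selTN567 (j : ℕ) : ℕ := (Bool.rec (motive := fun _ => ℕ) (selTN565 j) (Bool.rec (motive := fun _ => ℕ) (selTN566 j) rl942 (Nat.ble 942 j)) (Nat.ble 940 j))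

/-- a part of the choice of the part of the table -/
noncomputable def selTN568 (j : ℕ) : ℕ := (Bool.rec (motive := fun _ => ℕ) rl943 rl944 (Nat.ble 944 j))

/-- a part of the choice of the part of the table -/
noncomputable def selTN569 (j : ℕ) : ℕ := (Bool.rec (motive := fun _ => ℕ) rl945 rl946 (Nat.ble 946 j))

/-- a part of the choice of the part of the table -/
noncomputable def selTN570 (j : ℕ) : ℕ := (Bool.rec (motive := fun _ => ℕ) (selTN568 j) (Bool.rec (motive := fun _ => ℕ) (selTN569 j) rl947 (Nat.ble 947 j)) (Nat.ble 945 j))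

/-- a part of the choice of the part of the table -/
noncomputable def selTN571 (j : ℕ) : ℕ := (Bool.rec (motive := fun _ => ℕ) rl948 rl949 (Nat.ble 949 j))

/-- a part of the choice of the part of the table -/
noncomputable def selTN572 (j : ℕ) : ℕ := (Bool.rec (motive := fun _ => ℕ) rl950 rl951 (Nat.ble 951 j))

/-- a part of the choice of the part of the table -/
noncomputable def selTN573 (j : ℕ) : ℕ := (Bool.rec (motive := fun _ => ℕ) (selTN571 j) (Bool.rec (motive := fun _ => ℕ) (selTN572 j) rl952 (Nat.ble 952 j)) (Nat.ble 950 j))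

/-- a part of the choice of the part of the table -/
noncomputable def selTN574 (j : ℕ) : ℕ := (Bool.rec (motive := fun _ => ℕ) (Bool.rec (motive := fun _ => ℕ) rl953 rl954 (Nat.ble 954 j)) (Bool.rec (motive := fun _ => ℕ) rl955 rl956 (Nat.ble 956 j)) (Nat.ble 955 j))

/-- a part of the choice of the part of the table -/
noncomputable def selTN575 (j : ℕ) : ℕ := (Bool.rec (motive := fun _ => ℕ) (Bool.rec (motive := fun _ => ℕ) (selTN567 j) (selTN570 j) (Nat.ble 943 j)) (Bool.rec (motive := fun _ => ℕ) (selTN573 j) (selTN574 j) (Nat.ble 953 j)) (Nat.ble 948 j))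

/-- a part of the choice of the part of the table -/
noncomputable def selTN576 (j : ℕ) : ℕ := (Bool.rec (motive := fun _ => ℕ) rl957 rl958 (Nat.ble 958 j))

/-- a part of the choice of the part of the table -/
noncomputable def selTN577 (j : ℕ) : ℕ := (Bool.rec (motive := fun _ => ℕ) rl959 rl960 (Nat.ble 960 j))

/-- a part of the choice of the part of the table -/
noncomputable def selTN578 (j : ℕ) : ℕ := (Bool.rec (motive := fun _ => ℕ) (selTN576 j) (Bool.rec (motive := fun _ => ℕ) (selTN577 j) rl961 (Nat.ble 961 j)) (Nat.ble 959 j))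

/-- a part of the choice of the part of the table -/
noncomputable def selTN579 (j : ℕ) : ℕ := (Bool.rec (motive := fun _ => ℕ) rl962 rl963 (Nat.ble 963 j))

/-- a part of the choice of the part of the table -/
noncomputable def selTN580 (j : ℕ) : ℕ := (Bool.rec (motive := fun _ => ℕ) rl964 rl965 (Nat.ble 965 j))

/-- a part of the choice of the part of the table -/
noncomputable def selTN581 (j : ℕ) : ℕ := (Bool.rec (motive := fun _ => ℕ) (selTN579 j) (Bool.rec (motive := fun _ => ℕ) (selTN580 j) rl966 (Nat.ble 966 j)) (Nat.ble 964 j))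

/-- a part of the choice of the part of the table -/
noncomputable def selTN582 (j : ℕ) : ℕ := (Bool.rec (motive := fun _ => ℕ) rl967 rl968 (Nat.ble 968 j))

/-- a part of the choice of the part of the table -/
noncomputable def selTN583 (j : ℕ) : ℕ := (Bool.rec (motive := fun _ => ℕ) rl969 rl970 (Nat.ble 970 j))

/-- a part of the choice of the part of the table -/
noncomputable def selTN584 (j : ℕ) : ℕ := (Bool.rec (motive := fun _ => ℕ) (selTN582 j) (Bool.rec (motive := fun _ => ℕ) (selTN583 j) rl971 (Nat.ble 971 j)) (Nat.ble 969 j))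

/-- a part of the choice of the part of the table -/
noncomputable def selTN585 (j : ℕ) : ℕ := (Bool.rec (motive := fun _ => ℕ) rl972 (Bool.rec (motive := fun _ => ℕ) rl973 rl974 (Nat.ble 974 j)) (Nat.ble 973 j))

/-- a part of the choice of the part of the table -/
noncomputable def selTN586 (j : ℕ) : ℕ := (Bool.rec (motive := fun _ => ℕ) (Bool.rec (motive := fun _ => ℕ) (selTN578 j) (selTN581 j) (Nat.ble 962 j)) (Bool.rec (motive := fun _ => ℕ) (selTN584 j) (selTN585 j) (Nat.ble 972 j)) (Nat.ble 967 j))

/-- a part of the choice of the part of the table -/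
noncomputable def selTN587 (j : ℕ) : ℕ := (Bool.rec (motive := fun _ => ℕ) (Bool.rec (motive := fun _ => ℕ) (selTN553 j) (selTN564 j) (Nat.ble 919 j)) (Bool.rec (motive := fun _ => ℕ) (selTN575 j) (selTN586 j) (Nat.ble 957 j)) (Nat.ble 938 j))

/-- a part of the choice of the part of the table -/
noncomputable def selTN588 (j : ℕ) : ℕ := (Bool.rec (motive := fun _ => ℕ) rl975 rl976 (Nat.ble 976 j))

/-- a part of the choice of the part of the table -/
noncomputable def selTN589 (j : ℕ) : ℕ := (Bool.rec (motive := fun _ => ℕ) rl977 rl978 (Nat.ble 978 j))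

/-- a part of the choice of the part of the table -/
noncomputable def selTN590 (j : ℕ) : ℕ := (Bool.rec (motive := fun _ => ℕ) (selTN588 j) (Bool.rec (motive := fun _ => ℕ) (selTN589 j) rl979 (Nat.ble 979 j)) (Nat.ble 977 j))

/-- a part of the choice of the part of the table -/
noncomputable def selTN591 (j : ℕ) : ℕ := (Bool.rec (motive := fun _ => ℕ) rl980 rl981 (Nat.ble 981 j))

/-- a part of the choice of the part of the table -/
noncomputable def selTN592 (j : ℕ) : ℕ := (Bool.rec (motive := fun _ => ℕ) rl982 rl983 (Nat.ble 983 j))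

/-- a part of the choice of the part of the table -/
noncomputable def selTN593 (j : ℕ) : ℕ := (Bool.rec (motive := fun _ => ℕ) (selTN591 j) (Bool.rec (motive := fun _ => ℕ) (selTN592 j) rl984 (Nat.ble 984 j)) (Nat.ble 982 j))

/-- a part of the choice of the part of the table -/
noncomputable def selTN594 (j : ℕ) : ℕ := (Bool.rec (motive := fun _ => ℕ) rl985 rl986 (Nat.ble 986 j))

/-- a part of the choice of the part of the table -/
noncomputable def selTN595 (j : ℕ) : ℕ := (Bool.rec (motive := fun _ => ℕ) rl987 rl988 (Nat.ble 988 j))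

/-- a part of the choice of the part of the table -/
noncomputable def selTN596 (j : ℕ) : ℕ := (Bool.rec (motive := fun _ => ℕ) (selTN594 j) (Bool.rec (motive := fun _ => ℕ) (selTN595 j) rl989 (Nat.ble 989 j)) (Nat.ble 987 j))

/-- a part of the choice of the part of the table -/
noncomputable def selTN597 (j : ℕ) : ℕ := (Bool.rec (motive := fun _ => ℕ) (Bool.rec (motive := fun _ => ℕ) rl990 rl991 (Nat.ble 991 j)) (Bool.rec (motive := fun _ => ℕ) rl992 rl993 (Nat.ble 993 j)) (Nat.ble 992 j))

/-- a part of the choice of the part of the table -/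
noncomputable def selTN598 (j : ℕ) : ℕ := (Bool.rec (motive := fun _ => ℕ) (Bool.rec (motive := fun _ => ℕ) (selTN590 j) (selTN593 j) (Nat.ble 980 j)) (Bool.rec (motive := fun _ => ℕ) (selTN596 j) (selTN597 j) (Nat.ble 990 j)) (Nat.ble 985 j))

/-- a part of the choice of the part of the table -/
noncomputable def selTN599 (j : ℕ) : ℕ := (Bool.rec (motive := fun _ => ℕ) rl994 rl995 (Nat.ble 995 j))

/-- a part of the choice of the part of the table -/
noncomputable def selTN600 (j : ℕ) : ℕ := (Bool.rec (motive := fun _ => ℕ) rl996 rl997 (Nat.ble 997 j))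

/-- a part of the choice of the part of the table -/
noncomputable def selTN601 (j : ℕ) : ℕ := (Bool.rec (motive := fun _ => ℕ) (selTN599 j) (Bool.rec (motive := fun _ => ℕ) (selTN600 j) rl998 (Nat.ble 998 j)) (Nat.ble 996 j))

/-- a part of the choice of the part of the table -/
noncomputable def selTN602 (j : ℕ) : ℕ := (Bool.rec (motive := fun _ => ℕ) rl999 rl1000 (Nat.ble 1000 j))

/-- a part of the choice of the part of the table -/
noncomputable def selTN603 (j : ℕ) : ℕ := (Bool.rec (motive := fun _ => ℕ) rl1001 rl1002 (Nat.ble 1002 j))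

/-- a part of the choice of the part of the table -/
noncomputable def selTN604 (j : ℕ) : ℕ := (Bool.rec (motive := fun _ => ℕ) (selTN602 j) (Bool.rec (motive := fun _ => ℕ) (selTN603 j) rl1003 (Nat.ble 1003 j)) (Nat.ble 1001 j))

/-- a part of the choice of the part of the table -/
noncomputable def selTN605 (j : ℕ) : ℕ := (Bool.rec (motive := fun _ => ℕ) rl1004 rl1005 (Nat.ble 1005 j))

/-- a part of the choice of the part of the table -/
noncomputable def selTN606 (j : ℕ) : ℕ := (Bool.rec (motive := fun _ => ℕ) rl1006 rl1007 (Nat.ble 1007 j))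

/-- a part of the choice of the part of the table -/
noncomputable def selTN607 (j : ℕ) : ℕ := (Bool.rec (motive := fun _ => ℕ) (selTN605 j) (Bool.rec (motive := fun _ => ℕ) (selTN606 j) rl1008 (Nat.ble 1008 j)) (Nat.ble 1006 j))

/-- a part of the choice of the part of the table -/
noncomputable def selTN608 (j : ℕ) : ℕ := (Bool.rec (motive := fun _ => ℕ) (Bool.rec (motive := fun _ => ℕ) rl1009 rl1010 (Nat.ble 1010 j)) (Bool.rec (motive := fun _ => ℕ) rl1011 rl1012 (Nat.ble 1012 j)) (Nat.ble 1011 j))

/-- a part of the choice of the part of the table -/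
noncomputable def selTN609 (j : ℕ) : ℕ := (Bool.rec (motive := fun _ => ℕ) (Bool.rec (motive := fun _ => ℕ) (selTN601 j) (selTN604 j) (Nat.ble 999 j)) (Bool.rec (motive := fun _ => ℕ) (selTN607 j) (selTN608 j) (Nat.ble 1009 j)) (Nat.ble 1004 j))

/-- a part of the choice of the part of the table -/
noncomputable def selTN610 (j : ℕ) : ℕ := (Bool.rec (motive := fun _ => ℕ) rl1013 rl1014 (Nat.ble 1014 j))

/-- a part of the choice of the part of the table -/
noncomputable def selTN611 (j : ℕ) : ℕ := (Bool.rec (motive := fun _ => ℕ) rl1015 rl1016 (Nat.ble 1016 j))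

/-- a part of the choice of the part of the table -/
noncomputable def selTN612 (j : ℕ) : ℕ := (Bool.rec (motive := fun _ => ℕ) (selTN610 j) (Bool.rec (motive := fun _ => ℕ) (selTN611 j) rl1017 (Nat.ble 1017 j)) (Nat.ble 1015 j))

/-- a part of the choice of the part of the table -/
noncomputable def selTN613 (j : ℕ) : ℕ := (Bool.rec (motive := fun _ => ℕ) rl1018 rl1019 (Nat.ble 1019 j))

/-- a part of the choice of the part of the table -/
noncomputable def selTN614 (j : ℕ) : ℕ := (Bool.rec (motive := fun _ => ℕ) rl1020 rl1021 (Nat.ble 1021 j))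

/-- a part of the choice of the part of the table -/
noncomputable def selTN615 (j : ℕ) : ℕ := (Bool.rec (motive := fun _ => ℕ) (selTN613 j) (Bool.rec (motive := fun _ => ℕ) (selTN614 j) rl1022 (Nat.ble 1022 j)) (Nat.ble 1020 j))

/-- a part of the choice of the part of the table -/
noncomputable def selTN616 (j : ℕ) : ℕ := (Bool.rec (motive := fun _ => ℕ) rl1023 rl1024 (Nat.ble 1024 j))

/-- a part of the choice of the part of the table -/
noncomputable def selTN617 (j : ℕ) : ℕ := (Bool.rec (motive := fun _ => ℕ) rl1025 rl1026 (Nat.ble 1026 j))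

/-- a part of the choice of the part of the table -/
noncomputable def selTN618 (j : ℕ) : ℕ := (Bool.rec (motive := fun _ => ℕ) (selTN616 j) (Bool.rec (motive := fun _ => ℕ) (selTN617 j) rl1027 (Nat.ble 1027 j)) (Nat.ble 1025 j))

/-- a part of the choice of the part of the table -/
noncomputable def selTN619 (j : ℕ) : ℕ := (Bool.rec (motive := fun _ => ℕ) (Bool.rec (motive := fun _ => ℕ) rl1028 rl1029 (Nat.ble 1029 j)) (Bool.rec (motive := fun _ => ℕ) rl1030 rl1031 (Nat.ble 1031 j)) (Nat.ble 1030 j))

/-- a part of the choice of the part of the table -/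
noncomputable def selTN620 (j : ℕ) : ℕ := (Bool.rec (motive := fun _ => ℕ) (Bool.rec (motive := fun _ => ℕ) (selTN612 j) (selTN615 j) (Nat.ble 1018 j)) (Bool.rec (motive := fun _ => ℕ) (selTN618 j) (selTN619 j) (Nat.ble 1028 j)) (Nat.ble 1023 j))

/-- a part of the choice of the part of the table -/
noncomputable def selTN621 (j : ℕ) : ℕ := (Bool.rec (motive := fun _ => ℕ) rl1032 rl1033 (Nat.ble 1033 j))

/-- a part of the choice of the part of the table -/
noncomputable def selTN622 (j : ℕ) : ℕ := (Bool.rec (motive := fun _ => ℕ) rl1034 rl1035 (Nat.ble 1035 j))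

/-- a part of the choice of the part of the table -/
noncomputable def selTN623 (j : ℕ) : ℕ := (Bool.rec (motive := fun _ => ℕ) (selTN621 j) (Bool.rec (motive := fun _ => ℕ) (selTN622 j) rl1036 (Nat.ble 1036 j)) (Nat.ble 1034 j))

/-- a part of the choice of the part of the table -/
noncomputable def selTN624 (j : ℕ) : ℕ := (Bool.rec (motive := fun _ => ℕ) rl1037 rl1038 (Nat.ble 1038 j))

/-- a part of the choice of the part of the table -/
noncomputable def selTN625 (j : ℕ) : ℕ := (Bool.rec (motive := fun _ => ℕ) rl1039 rl1040 (Nat.ble 1040 j))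

/-- a part of the choice of the part of the table -/
noncomputable def selTN626 (j : ℕ) : ℕ := (Bool.rec (motive := fun _ => ℕ) (selTN624 j) (Bool.rec (motive := fun _ => ℕ) (selTN625 j) rl1041 (Nat.ble 1041 j)) (Nat.ble 1039 j))

/-- a part of the choice of the part of the table -/
noncomputable def selTN627 (j : ℕ) : ℕ := (Bool.rec (motive := fun _ => ℕ) rl1042 rl1043 (Nat.ble 1043 j))

/-- a part of the choice of the part of the table -/
noncomputable def selTN628 (j : ℕ) : ℕ := (Bool.rec (motive := fun _ => ℕ) rl1044 rl1045 (Nat.ble 1045 j))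

/-- a part of the choice of the part of the table -/
noncomputable def selTN629 (j : ℕ) : ℕ := (Bool.rec (motive := fun _ => ℕ) (selTN627 j) (Bool.rec (motive := fun _ => ℕ) (selTN628 j) rl1046 (Nat.ble 1046 j)) (Nat.ble 1044 j))

/-- a part of the choice of the part of the table -/
noncomputable def selTN630 (j : ℕ) : ℕ := (Bool.rec (motive := fun _ => ℕ) rl1047 (Bool.rec (motive := fun _ => ℕ) rl1048 rl1049 (Nat.ble 1049 j)) (Nat.ble 1048 j))

/-- a part of the choice of the part of the table -/
noncomputable def selTN631 (j : ℕ) : ℕ := (Bool.rec (motive := fun _ => ℕ) (Bool.rec (motive := fun _ => ℕ) (selTN623 j) (selTN626 j) (Nat.ble 1037 j)) (Bool.rec (motive := fun _ => ℕ) (selTN629 j) (selTN630 j) (Nat.ble 1047 j)) (Nat.ble 1042 j))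

/-- a part of the choice of the part of the table -/
noncomputable def selTN632 (j : ℕ) : ℕ := (Bool.rec (motive := fun _ => ℕ) (Bool.rec (motive := fun _ => ℕ) (selTN598 j) (selTN609 j) (Nat.ble 994 j)) (Bool.rec (motive := fun _ => ℕ) (selTN620 j) (selTN631 j) (Nat.ble 1032 j)) (Nat.ble 1013 j))

/-- a part of the choice of the part of the table -/
noncomputable def selTN633 (j : ℕ) : ℕ := (Bool.rec (motive := fun _ => ℕ) rl1050 rl1051 (Nat.ble 1051 j))

/-- a part of the choice of the part of the table -/
noncomputable def selTN634 (j : ℕ) : ℕ := (Bool.rec (motive := fun _ => ℕ) rl1052 rl1053 (Nat.ble 1053 j))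

/-- a part of the choice of the part of the table -/
noncomputable def selTN635 (j : ℕ) : ℕ := (Bool.rec (motive := fun _ => ℕ) (selTN633 j) (Bool.rec (motive := fun _ => ℕ) (selTN634 j) rl1054 (Nat.ble 1054 j)) (Nat.ble 1052 j))

/-- a part of the choice of the part of the table -/
noncomputable def selTN636 (j : ℕ) : ℕ := (Bool.rec (motive := fun _ => ℕ) rl1055 rl1056 (Nat.ble 1056 j))

/-- a part of the choice of the part of the table -/
noncomputable def selTN637 (j : ℕ) : ℕ := (Bool.rec (motive := fun _ => ℕ) rl1057 rl1058 (Nat.ble 1058 j))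

/-- a part of the choice of the part of the table -/
noncomputable def selTN638 (j : ℕ) : ℕ := (Bool.rec (motive := fun _ => ℕ) (selTN636 j) (Bool.rec (motive := fun _ => ℕ) (selTN637 j) rl1059 (Nat.ble 1059 j)) (Nat.ble 1057 j))

/-- a part of the choice of the part of the table -/
noncomputable def selTN639 (j : ℕ) : ℕ := (Bool.rec (motive := fun _ => ℕ) rl1060 rl1061 (Nat.ble 1061 j))

/-- a part of the choice of the part of the table -/
noncomputable def selTN640 (j : ℕ) : ℕ := (Bool.rec (motive := fun _ => ℕ) rl1062 rl1063 (Nat.ble 1063 j))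

/-- a part of the choice of the part of the table -/
noncomputable def selTN641 (j : ℕ) : ℕ := (Bool.rec (motive := fun _ => ℕ) (selTN639 j) (Bool.rec (motive := fun _ => ℕ) (selTN640 j) rl1064 (Nat.ble 1064 j)) (Nat.ble 1062 j))

/-- a part of the choice of the part of the table -/
noncomputable def selTN642 (j : ℕ) : ℕ := (Bool.rec (motive := fun _ => ℕ) (Bool.rec (motive := fun _ => ℕ) rl1065 rl1066 (Nat.ble 1066 j)) (Bool.rec (motive := fun _ => ℕ) rl1067 rl1068 (Nat.ble 1068 j)) (Nat.ble 1067 j))

/-- a part of the choice of the part of the table -/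
noncomputable def selTN643 (j : ℕ) : ℕ := (Bool.rec (motive := fun _ => ℕ) (Bool.rec (motive := fun _ => ℕ) (selTN635 j) (selTN638 j) (Nat.ble 1055 j)) (Bool.rec (motive := fun _ => ℕ) (selTN641 j) (selTN642 j) (Nat.ble 1065 j)) (Nat.ble 1060 j))

/-- a part of the choice of the part of the table -/
noncomputable def selTN644 (j : ℕ) : ℕ := (Bool.rec (motive := fun _ => ℕ) rl1069 rl1070 (Nat.ble 1070 j))

/-- a part of the choice of the part of the table -/
noncomputable def selTN645 (j : ℕ) : ℕ := (Bool.rec (motive := fun _ => ℕ) rl1071 rl1072 (Nat.ble 1072 j))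

/-- a part of the choice of the part of the table -/
noncomputable def selTN646 (j : ℕ) : ℕ := (Bool.rec (motive := fun _ => ℕ) (selTN644 j) (Bool.rec (motive := fun _ => ℕ) (selTN645 j) rl1073 (Nat.ble 1073 j)) (Nat.ble 1071 j))

/-- a part of the choice of the part of the table -/
noncomputable def selTN647 (j : ℕ) : ℕ := (Bool.rec (motive := fun _ => ℕ) rl1074 rl1075 (Nat.ble 1075 j))

/-- a part of the choice of the part of the table -/
noncomputable def selTN648 (j : ℕ) : ℕ := (Bool.rec (motive := fun _ => ℕ) rl1076 rl1077 (Nat.ble 1077 j))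

/-- a part of the choice of the part of the table -/
noncomputable def selTN649 (j : ℕ) : ℕ := (Bool.rec (motive := fun _ => ℕ) (selTN647 j) (Bool.rec (motive := fun _ => ℕ) (selTN648 j) rl1078 (Nat.ble 1078 j)) (Nat.ble 1076 j))

/-- a part of the choice of the part of the table -/
noncomputable def selTN650 (j : ℕ) : ℕ := (Bool.rec (motive := fun _ => ℕ) rl1079 rl1080 (Nat.ble 1080 j))

/-- a part of the choice of the part of the table -/
noncomputable def selTN651 (j : ℕ) : ℕ := (Bool.rec (motive := fun _ => ℕ) rl1081 rl1082 (Nat.ble 1082 j))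

/-- a part of the choice of the part of the table -/
noncomputable def selTN652 (j : ℕ) : ℕ := (Bool.rec (motive := fun _ => ℕ) (selTN650 j) (Bool.rec (motive := fun _ => ℕ) (selTN651 j) rl1083 (Nat.ble 1083 j)) (Nat.ble 1081 j))

/-- a part of the choice of the part of the table -/
noncomputable def selTN653 (j : ℕ) : ℕ := (Bool.rec (motive := fun _ => ℕ) (Bool.rec (motive := fun _ => ℕ) rl1084 rl1085 (Nat.ble 1085 j)) (Bool.rec (motive := fun _ => ℕ) rl1086 rl1087 (Nat.ble 1087 j)) (Nat.ble 1086 j))

/-- a part of the choice of the part of the table -/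
noncomputable def selTN654 (j : ℕ) : ℕ := (Bool.rec (motive := fun _ => ℕ) (Bool.rec (motive := fun _ => ℕ) (selTN646 j) (selTN649 j) (Nat.ble 1074 j)) (Bool.rec (motive := fun _ => ℕ) (selTN652 j) (selTN653 j) (Nat.ble 1084 j)) (Nat.ble 1079 j))

/-- a part of the choice of the part of the table -/
noncomputable def selTN655 (j : ℕ) : ℕ := (Bool.rec (motive := fun _ => ℕ) rl1088 rl1089 (Nat.ble 1089 j))

/-- a part of the choice of the part of the table -/
noncomputable def selTN656 (j : ℕ) : ℕ := (Bool.rec (motive := fun _ => ℕ) rl1090 rl1091 (Nat.ble 1091 j))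

/-- a part of the choice of the part of the table -/
noncomputable def selTN657 (j : ℕ) : ℕ := (Bool.rec (motive := fun _ => ℕ) (selTN655 j) (Bool.rec (motive := fun _ => ℕ) (selTN656 j) rl1092 (Nat.ble 1092 j)) (Nat.ble 1090 j))

/-- a part of the choice of the part of the table -/
noncomputable def selTN658 (j : ℕ) : ℕ := (Bool.rec (motive := fun _ => ℕ) rl1093 rl1094 (Nat.ble 1094 j))

/-- a part of the choice of the part of the table -/
noncomputable def selTN659 (j : ℕ) : ℕ := (Bool.rec (motive := fun _ => ℕ) rl1095 rl1096 (Nat.ble 1096 j))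

/-- a part of the choice of the part of the table -/
noncomputable def selTN660 (j : ℕ) : ℕ := (Bool.rec (motive := fun _ => ℕ) (selTN658 j) (Bool.rec (motive := fun _ => ℕ) (selTN659 j) rl1097 (Nat.ble 1097 j)) (Nat.ble 1095 j))

/-- a part of the choice of the part of the table -/
noncomputable def selTN661 (j : ℕ) : ℕ := (Bool.rec (motive := fun _ => ℕ) rl1098 rl1099 (Nat.ble 1099 j))

/-- a part of the choice of the part of the table -/
noncomputable def selTN662 (j : ℕ) : ℕ := (Bool.rec (motive := fun _ => ℕ) rl1100 rl1101 (Nat.ble 1101 j))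

/-- a part of the choice of the part of the table -/
noncomputable def selTN663 (j : ℕ) : ℕ := (Bool.rec (motive := fun _ => ℕ) (selTN661 j) (Bool.rec (motive := fun _ => ℕ) (selTN662 j) rl1102 (Nat.ble 1102 j)) (Nat.ble 1100 j))

/-- a part of the choice of the part of the table -/
noncomputable def selTN664 (j : ℕ) : ℕ := (Bool.rec (motive := fun _ => ℕ) (Bool.rec (motive := fun _ => ℕ) rl1103 rl1104 (Nat.ble 1104 j)) (Bool.rec (motive := fun _ => ℕ) rl1105 rl1106 (Nat.ble 1106 j)) (Nat.ble 1105 j))

/-- a part of the choice of the part of the table -/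
noncomputable def selTN665 (j : ℕ) : ℕ := (Bool.rec (motive := fun _ => ℕ) (Bool.rec (motive := fun _ => ℕ) (selTN657 j) (selTN660 j) (Nat.ble 1093 j)) (Bool.rec (motive := fun _ => ℕ) (selTN663 j) (selTN664 j) (Nat.ble 1103 j)) (Nat.ble 1098 j))

/-- a part of the choice of the part of the table -/
noncomputable def selTN666 (j : ℕ) : ℕ := (Bool.rec (motive := fun _ => ℕ) rl1107 rl1108 (Nat.ble 1108 j))

/-- a part of the choice of the part of the table -/
noncomputable def selTN667 (j : ℕ) : ℕ := (Bool.rec (motive := fun _ => ℕ) rl1109 rl1110 (Nat.ble 1110 j))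

/-- a part of the choice of the part of the table -/
noncomputable def selTN668 (j : ℕ) : ℕ := (Bool.rec (motive := fun _ => ℕ) (selTN666 j) (Bool.rec (motive := fun _ => ℕ) (selTN667 j) rl1111 (Nat.ble 1111 j)) (Nat.ble 1109 j))

/-- a part of the choice of the part of the table -/
noncomputable def selTN669 (j : ℕ) : ℕ := (Bool.rec (motive := fun _ => ℕ) rl1112 rl1113 (Nat.ble 1113 j))

/-- a part of the choice of the part of the table -/
noncomputable def selTN670 (j : ℕ) : ℕ := (Bool.rec (motive := fun _ => ℕ) rl1114 rl1115 (Nat.ble 1115 j))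

/-- a part of the choice of the part of the table -/
noncomputable def selTN671 (j : ℕ) : ℕ := (Bool.rec (motive := fun _ => ℕ) (selTN669 j) (Bool.rec (motive := fun _ => ℕ) (selTN670 j) rl1116 (Nat.ble 1116 j)) (Nat.ble 1114 j))

/-- a part of the choice of the part of the table -/
noncomputable def selTN672 (j : ℕ) : ℕ := (Bool.rec (motive := fun _ => ℕ) rl1117 rl1118 (Nat.ble 1118 j))

/-- a part of the choice of the part of the table -/
noncomputable def selTN673 (j : ℕ) : ℕ := (Bool.rec (motive := fun _ => ℕ) rl1119 rl1120 (Nat.ble 1120 j))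

/-- a part of the choice of the part of the table -/
noncomputable def selTN674 (j : ℕ) : ℕ := (Bool.rec (motive := fun _ => ℕ) (selTN672 j) (Bool.rec (motive := fun _ => ℕ) (selTN673 j) rl1121 (Nat.ble 1121 j)) (Nat.ble 1119 j))

/-- a part of the choice of the part of the table -/
noncomputable def selTN675 (j : ℕ) : ℕ := (Bool.rec (motive := fun _ => ℕ) rl1122 (Bool.rec (motive := fun _ => ℕ) rl1123 rl1124 (Nat.ble 1124 j)) (Nat.ble 1123 j))

/-- a part of the choice of the part of the table -/
noncomputable def selTN676 (j : ℕ) : ℕ := (Bool.rec (motive := fun _ => ℕ) (Bool.rec (motive := fun _ => ℕ) (selTN668 j) (selTN671 j) (Nat.ble 1112 j)) (Bool.rec (motive := fun _ => ℕ) (selTN674 j) (selTN675 j) (Nat.ble 1122 j)) (Nat.ble 1117 j))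

/-- a part of the choice of the part of the table -/
noncomputable def selTN677 (j : ℕ) : ℕ := (Bool.rec (motive := fun _ => ℕ) (Bool.rec (motive := fun _ => ℕ) (selTN643 j) (selTN654 j) (Nat.ble 1069 j)) (Bool.rec (motive := fun _ => ℕ) (selTN665 j) (selTN676 j) (Nat.ble 1107 j)) (Nat.ble 1088 j))

/-- a part of the choice of the part of the table -/
noncomputable def selTN678 (j : ℕ) : ℕ := (Bool.rec (motive := fun _ => ℕ) rl1125 rl1126 (Nat.ble 1126 j))

/-- a part of the choice of the part of the table -/
noncomputable def selTN679 (j : ℕ) : ℕ := (Bool.rec (motive := fun _ => ℕ) rl1127 rl1128 (Nat.ble 1128 j))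

/-- a part of the choice of the part of the table -/
noncomputable def selTN680 (j : ℕ) : ℕ := (Bool.rec (motive := fun _ => ℕ) (selTN678 j) (Bool.rec (motive := fun _ => ℕ) (selTN679 j) rl1129 (Nat.ble 1129 j)) (Nat.ble 1127 j))

/-- a part of the choice of the part of the table -/
noncomputable def selTN681 (j : ℕ) : ℕ := (Bool.rec (motive := fun _ => ℕ) rl1130 rl1131 (Nat.ble 1131 j))

/-- a part of the choice of the part of the table -/
noncomputable def selTN682 (j : ℕ) : ℕ := (Bool.rec (motive := fun _ => ℕ) rl1132 rl1133 (Nat.ble 1133 j))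

/-- a part of the choice of the part of the table -/
noncomputable def selTN683 (j : ℕ) : ℕ := (Bool.rec (motive := fun _ => ℕ) (selTN681 j) (Bool.rec (motive := fun _ => ℕ) (selTN682 j) rl1134 (Nat.ble 1134 j)) (Nat.ble 1132 j))

/-- a part of the choice of the part of the table -/
noncomputable def selTN684 (j : ℕ) : ℕ := (Bool.rec (motive := fun _ => ℕ) rl1135 rl1136 (Nat.ble 1136 j))

/-- a part of the choice of the part of the table -/
noncomputable def selTN685 (j : ℕ) : ℕ := (Bool.rec (motive := fun _ => ℕ) rl1137 rl1138 (Nat.ble 1138 j))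

/-- a part of the choice of the part of the table -/
noncomputable def selTN686 (j : ℕ) : ℕ := (Bool.rec (motive := fun _ => ℕ) (selTN684 j) (Bool.rec (motive := fun _ => ℕ) (selTN685 j) rl1139 (Nat.ble 1139 j)) (Nat.ble 1137 j))

/-- a part of the choice of the part of the table -/
noncomputable def selTN687 (j : ℕ) : ℕ := (Bool.rec (motive := fun _ => ℕ) (Bool.rec (motive := fun _ => ℕ) rl1140 rl1141 (Nat.ble 1141 j)) (Bool.rec (motive := fun _ => ℕ) rl1142 rl1143 (Nat.ble 1143 j)) (Nat.ble 1142 j))

/-- a part of the choice of the part of the table -/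
noncomputable def selTN688 (j : ℕ) : ℕ := (Bool.rec (motive := fun _ => ℕ) (Bool.rec (motive := fun _ => ℕ) (selTN680 j) (selTN683 j) (Nat.ble 1130 j)) (Bool.rec (motive := fun _ => ℕ) (selTN686 j) (selTN687 j) (Nat.ble 1140 j)) (Nat.ble 1135 j))

/-- a part of the choice of the part of the table -/
noncomputable def selTN689 (j : ℕ) : ℕ := (Bool.rec (motive := fun _ => ℕ) rl1144 rl1145 (Nat.ble 1145 j))

/-- a part of the choice of the part of the table -/
noncomputable def selTN690 (j : ℕ) : ℕ := (Bool.rec (motive := fun _ => ℕ) rl1146 rl1147 (Nat.ble 1147 j))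

/-- a part of the choice of the part of the table -/
noncomputable def selTN691 (j : ℕ) : ℕ := (Bool.rec (motive := fun _ => ℕ) (selTN689 j) (Bool.rec (motive := fun _ => ℕ) (selTN690 j) rl1148 (Nat.ble 1148 j)) (Nat.ble 1146 j))

/-- a part of the choice of the part of the table -/
noncomputable def selTN692 (j : ℕ) : ℕ := (Bool.rec (motive := fun _ => ℕ) rl1149 rl1150 (Nat.ble 1150 j))

/-- a part of the choice of the part of the table -/
noncomputable def selTN693 (j : ℕ) : ℕ := (Bool.rec (motive := fun _ => ℕ) rl1151 rl1152 (Nat.ble 1152 j))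

/-- a part of the choice of the part of the table -/
noncomputable def selTN694 (j : ℕ) : ℕ := (Bool.rec (motive := fun _ => ℕ) (selTN692 j) (Bool.rec (motive := fun _ => ℕ) (selTN693 j) rl1153 (Nat.ble 1153 j)) (Nat.ble 1151 j))

/-- a part of the choice of the part of the table -/
noncomputable def selTN695 (j : ℕ) : ℕ := (Bool.rec (motive := fun _ => ℕ) rl1154 rl1155 (Nat.ble 1155 j))

/-- a part of the choice of the part of the table -/
noncomputable def selTN696 (j : ℕ) : ℕ := (Bool.rec (motive := fun _ => ℕ) rl1156 rl1157 (Nat.ble 1157 j))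

/-- a part of the choice of the part of the table -/
noncomputable def selTN697 (j : ℕ) : ℕ := (Bool.rec (motive := fun _ => ℕ) (selTN695 j) (Bool.rec (motive := fun _ => ℕ) (selTN696 j) rl1158 (Nat.ble 1158 j)) (Nat.ble 1156 j))

/-- a part of the choice of the part of the table -/
noncomputable def selTN698 (j : ℕ) : ℕ := (Bool.rec (motive := fun _ => ℕ) (Bool.rec (motive := fun _ => ℕ) rl1159 rl1160 (Nat.ble 1160 j)) (Bool.rec (motive := fun _ => ℕ) rl1161 rl1162 (Nat.ble 1162 j)) (Nat.ble 1161 j))

/-- a part of the choice of the part of the table -/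
noncomputable def selTN699 (j : ℕ) : ℕ := (Bool.rec (motive := fun _ => ℕ) (Bool.rec (motive := fun _ => ℕ) (selTN691 j) (selTN694 j) (Nat.ble 1149 j)) (Bool.rec (motive := fun _ => ℕ) (selTN697 j) (selTN698 j) (Nat.ble 1159 j)) (Nat.ble 1154 j))

/-- a part of the choice of the part of the table -/
noncomputable def selTN700 (j : ℕ) : ℕ := (Bool.rec (motive := fun _ => ℕ) rl1163 rl1164 (Nat.ble 1164 j))

/-- a part of the choice of the part of the table -/
noncomputable def selTN701 (j : ℕ) : ℕ := (Bool.rec (motive := fun _ => ℕ) rl1165 rl1166 (Nat.ble 1166 j))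

/-- a part of the choice of the part of the table -/
noncomputable def selTN702 (j : ℕ) : ℕ := (Bool.rec (motive := fun _ => ℕ) (selTN700 j) (Bool.rec (motive := fun _ => ℕ) (selTN701 j) rl1167 (Nat.ble 1167 j)) (Nat.ble 1165 j))

/-- a part of the choice of the part of the table -/
noncomputable def selTN703 (j : ℕ) : ℕ := (Bool.rec (motive := fun _ => ℕ) rl1168 rl1169 (Nat.ble 1169 j))

/-- a part of the choice of the part of the table -/
noncomputable def selTN704 (j : ℕ) : ℕ := (Bool.rec (motive := fun _ => ℕ) rl1170 rl1171 (Nat.ble 1171 j))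

/-- a part of the choice of the part of the table -/
noncomputable def selTN705 (j : ℕ) : ℕ := (Bool.rec (motive := fun _ => ℕ) (selTN703 j) (Bool.rec (motive := fun _ => ℕ) (selTN704 j) rl1172 (Nat.ble 1172 j)) (Nat.ble 1170 j))

/-- a part of the choice of the part of the table -/
noncomputable def selTN706 (j : ℕ) : ℕ := (Bool.rec (motive := fun _ => ℕ) rl1173 rl1174 (Nat.ble 1174 j))

/-- a part of the choice of the part of the table -/
noncomputable def selTN707 (j : ℕ) : ℕ := (Bool.rec (motive := fun _ => ℕ) rl1175 rl1176 (Nat.ble 1176 j))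

/-- a part of the choice of the part of the table -/
noncomputable def selTN708 (j : ℕ) : ℕ := (Bool.rec (motive := fun _ => ℕ) (selTN706 j) (Bool.rec (motive := fun _ => ℕ) (selTN707 j) rl1177 (Nat.ble 1177 j)) (Nat.ble 1175 j))

/-- a part of the choice of the part of the table -/
noncomputable def selTN709 (j : ℕ) : ℕ := (Bool.rec (motive := fun _ => ℕ) (Bool.rec (motive := fun _ => ℕ) rl1178 rl1179 (Nat.ble 1179 j)) (Bool.rec (motive := fun _ => ℕ) rl1180 rl1181 (Nat.ble 1181 j)) (Nat.ble 1180 j))

/-- a part of the choice of the part of the table -/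
noncomputable def selTN710 (j : ℕ) : ℕ := (Bool.rec (motive := fun _ => ℕ) (Bool.rec (motive := fun _ => ℕ) (selTN702 j) (selTN705 j) (Nat.ble 1168 j)) (Bool.rec (motive := fun _ => ℕ) (selTN708 j) (selTN709 j) (Nat.ble 1178 j)) (Nat.ble 1173 j))

/-- a part of the choice of the part of the table -/
noncomputable def selTN711 (j : ℕ) : ℕ := (Bool.rec (motive := fun _ => ℕ) rl1182 rl1183 (Nat.ble 1183 j))

/-- a part of the choice of the part of the table -/
noncomputable def selTN712 (j : ℕ) : ℕ := (Bool.rec (motive := fun _ => ℕ) rl1184 rl1185 (Nat.ble 1185 j))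

/-- a part of the choice of the part of the table -/
noncomputable def selTN713 (j : ℕ) : ℕ := (Bool.rec (motive := fun _ => ℕ) (selTN711 j) (Bool.rec (motive := fun _ => ℕ) (selTN712 j) rl1186 (Nat.ble 1186 j)) (Nat.ble 1184 j))

/-- a part of the choice of the part of the table -/
noncomputable def selTN714 (j : ℕ) : ℕ := (Bool.rec (motive := fun _ => ℕ) rl1187 rl1188 (Nat.ble 1188 j))

/-- a part of the choice of the part of the table -/
noncomputable def selTN715 (j : ℕ) : ℕ := (Bool.rec (motive := fun _ => ℕ) rl1189 rl1190 (Nat.ble 1190 j))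

/-- a part of the choice of the part of the table -/
noncomputable def selTN716 (j : ℕ) : ℕ := (Bool.rec (motive := fun _ => ℕ) (selTN714 j) (Bool.rec (motive := fun _ => ℕ) (selTN715 j) rl1191 (Nat.ble 1191 j)) (Nat.ble 1189 j))

/-- a part of the choice of the part of the table -/
noncomputable def selTN717 (j : ℕ) : ℕ := (Bool.rec (motive := fun _ => ℕ) rl1192 rl1193 (Nat.ble 1193 j))

/-- a part of the choice of the part of the table -/
noncomputable def selTN718 (j : ℕ) : ℕ := (Bool.rec (motive := fun _ => ℕ) rl1194 rl1195 (Nat.ble 1195 j))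

/-- a part of the choice of the part of the table -/
noncomputable def selTN719 (j : ℕ) : ℕ := (Bool.rec (motive := fun _ => ℕ) (selTN717 j) (Bool.rec (motive := fun _ => ℕ) (selTN718 j) rl1196 (Nat.ble 1196 j)) (Nat.ble 1194 j))

/-- a part of the choice of the part of the table -/
noncomputable def selTN720 (j : ℕ) : ℕ := (Bool.rec (motive := fun _ => ℕ) rl1197 rl1198 (Nat.ble 1198 j))

/-- a part of the choice of the part of the table -/
noncomputable def selTN721 (j : ℕ) : ℕ := (Bool.rec (motive := fun _ => ℕ) (Bool.rec (motive := fun _ => ℕ) (selTN713 j) (selTN716 j) (Nat.ble 1187 j)) (Bool.rec (motive := fun _ => ℕ) (selTN719 j) (selTN720 j) (Nat.ble 1197 j)) (Nat.ble 1192 j))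

/-- a part of the choice of the part of the table -/
noncomputable def selTN722 (j : ℕ) : ℕ := (Bool.rec (motive := fun _ => ℕ) (Bool.rec (motive := fun _ => ℕ) (selTN688 j) (selTN699 j) (Nat.ble 1144 j)) (Bool.rec (motive := fun _ => ℕ) (selTN710 j) (selTN721 j) (Nat.ble 1182 j)) (Nat.ble 1163 j))

/-- a part of the choice of the part of the table -/
noncomputable def selTN723 (j : ℕ) : ℕ := (Bool.rec (motive := fun _ => ℕ) (Bool.rec (motive := fun _ => ℕ) (selTN587 j) (selTN632 j) (Nat.ble 975 j)) (Bool.rec (motive := fun _ => ℕ) (selTN677 j) (selTN722 j) (Nat.ble 1125 j)) (Nat.ble 1050 j))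

/-- a part of the choice of the part of the table -/
noncomputable def selTN724 (j : ℕ) : ℕ := (Bool.rec (motive := fun _ => ℕ) (Bool.rec (motive := fun _ => ℕ) (selTN180 j) (selTN361 j) (Nat.ble 300 j)) (Bool.rec (motive := fun _ => ℕ) (selTN542 j) (selTN723 j) (Nat.ble 900 j)) (Nat.ble 600 j))

/-- a part of the choice of the part of the table -/
noncomputable def selTN725 (j : ℕ) : ℕ := (Bool.rec (motive := fun _ => ℕ) rl1199 rl1200 (Nat.ble 1200 j))

/-- a part of the choice of the part of the table -/
noncomputable def selTN726 (j : ℕ) : ℕ := (Bool.rec (motive := fun _ => ℕ) rl1201 rl1202 (Nat.ble 1202 j))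

/-- a part of the choice of the part of the table -/
noncomputable def selTN727 (j : ℕ) : ℕ := (Bool.rec (motive := fun _ => ℕ) (selTN725 j) (Bool.rec (motive := fun _ => ℕ) (selTN726 j) rl1203 (Nat.ble 1203 j)) (Nat.ble 1201 j))

/-- a part of the choice of the part of the table -/
noncomputable def selTN728 (j : ℕ) : ℕ := (Bool.rec (motive := fun _ => ℕ) rl1204 rl1205 (Nat.ble 1205 j))

/-- a part of the choice of the part of the table -/
noncomputable def selTN729 (j : ℕ) : ℕ := (Bool.rec (motive := fun _ => ℕ) rl1206 rl1207 (Nat.ble 1207 j))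

/-- a part of the choice of the part of the table -/
noncomputable def selTN730 (j : ℕ) : ℕ := (Bool.rec (motive := fun _ => ℕ) (selTN728 j) (Bool.rec (motive := fun _ => ℕ) (selTN729 j) rl1208 (Nat.ble 1208 j)) (Nat.ble 1206 j))

/-- a part of the choice of the part of the table -/
noncomputable def selTN731 (j : ℕ) : ℕ := (Bool.rec (motive := fun _ => ℕ) rl1209 rl1210 (Nat.ble 1210 j))

/-- a part of the choice of the part of the table -/
noncomputable def selTN732 (j : ℕ) : ℕ := (Bool.rec (motive := fun _ => ℕ) rl1211 rl1212 (Nat.ble 1212 j))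

/-- a part of the choice of the part of the table -/
noncomputable def selTN733 (j : ℕ) : ℕ := (Bool.rec (motive := fun _ => ℕ) (selTN731 j) (Bool.rec (motive := fun _ => ℕ) (selTN732 j) rl1213 (Nat.ble 1213 j)) (Nat.ble 1211 j))

/-- a part of the choice of the part of the table -/
noncomputable def selTN734 (j : ℕ) : ℕ := (Bool.rec (motive := fun _ => ℕ) (Bool.rec (motive := fun _ => ℕ) rl1214 rl1215 (Nat.ble 1215 j)) (Bool.rec (motive := fun _ => ℕ) rl1216 rl1217 (Nat.ble 1217 j)) (Nat.ble 1216 j))

/-- a part of the choice of the part of the table -/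
noncomputable def selTN735 (j : ℕ) : ℕ := (Bool.rec (motive := fun _ => ℕ) (Bool.rec (motive := fun _ => ℕ) (selTN727 j) (selTN730 j) (Nat.ble 1204 j)) (Bool.rec (motive := fun _ => ℕ) (selTN733 j) (selTN734 j) (Nat.ble 1214 j)) (Nat.ble 1209 j))

/-- a part of the choice of the part of the table -/
noncomputable def selTN736 (j : ℕ) : ℕ := (Bool.rec (motive := fun _ => ℕ) rl1218 rl1219 (Nat.ble 1219 j))

/-- a part of the choice of the part of the table -/
noncomputable def selTN737 (j : ℕ) : ℕ := (Bool.rec (motive := fun _ => ℕ) rl1220 rl1221 (Nat.ble 1221 j))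

/-- a part of the choice of the part of the table -/
noncomputable def selTN738 (j : ℕ) : ℕ := (Bool.rec (motive := fun _ => ℕ) (selTN736 j) (Bool.rec (motive := fun _ => ℕ) (selTN737 j) rl1222 (Nat.ble 1222 j)) (Nat.ble 1220 j))

/-- a part of the choice of the part of the table -/
noncomputable def selTN739 (j : ℕ) : ℕ := (Bool.rec (motive := fun _ => ℕ) rl1223 rl1224 (Nat.ble 1224 j))

/-- a part of the choice of the part of the table -/
noncomputable def selTN740 (j : ℕ) : ℕ := (Bool.rec (motive := fun _ => ℕ) rl1225 rl1226 (Nat.ble 1226 j))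

/-- a part of the choice of the part of the table -/
noncomputable def selTN741 (j : ℕ) : ℕ := (Bool.rec (motive := fun _ => ℕ) (selTN739 j) (Bool.rec (motive := fun _ => ℕ) (selTN740 j) rl1227 (Nat.ble 1227 j)) (Nat.ble 1225 j))

/-- a part of the choice of the part of the table -/
noncomputable def selTN742 (j : ℕ) : ℕ := (Bool.rec (motive := fun _ => ℕ) rl1228 rl1229 (Nat.ble 1229 j))

/-- a part of the choice of the part of the table -/
noncomputable def selTN743 (j : ℕ) : ℕ := (Bool.rec (motive := fun _ => ℕ) rl1230 rl1231 (Nat.ble 1231 j))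

/-- a part of the choice of the part of the table -/
noncomputable def selTN744 (j : ℕ) : ℕ := (Bool.rec (motive := fun _ => ℕ) (selTN742 j) (Bool.rec (motive := fun _ => ℕ) (selTN743 j) rl1232 (Nat.ble 1232 j)) (Nat.ble 1230 j))

/-- a part of the choice of the part of the table -/
noncomputable def selTN745 (j : ℕ) : ℕ := (Bool.rec (motive := fun _ => ℕ) (Bool.rec (motive := fun _ => ℕ) rl1233 rl1234 (Nat.ble 1234 j)) (Bool.rec (motive := fun _ => ℕ) rl1235 rl1236 (Nat.ble 1236 j)) (Nat.ble 1235 j))

/-- a part of the choice of the part of the table -/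
noncomputable def selTN746 (j : ℕ) : ℕ := (Bool.rec (motive := fun _ => ℕ) (Bool.rec (motive := fun _ => ℕ) (selTN738 j) (selTN741 j) (Nat.ble 1223 j)) (Bool.rec (motive := fun _ => ℕ) (selTN744 j) (selTN745 j) (Nat.ble 1233 j)) (Nat.ble 1228 j))

/-- a part of the choice of the part of the table -/
noncomputable def selTN747 (j : ℕ) : ℕ := (Bool.rec (motive := fun _ => ℕ) rl1237 rl1238 (Nat.ble 1238 j))

/-- a part of the choice of the part of the table -/
noncomputable def selTN748 (j : ℕ) : ℕ := (Bool.rec (motive := fun _ => ℕ) rl1239 rl1240 (Nat.ble 1240 j))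

/-- a part of the choice of the part of the table -/
noncomputable def selTN749 (j : ℕ) : ℕ := (Bool.rec (motive := fun _ => ℕ) (selTN747 j) (Bool.rec (motive := fun _ => ℕ) (selTN748 j) rl1241 (Nat.ble 1241 j)) (Nat.ble 1239 j))

/-- a part of the choice of the part of the table -/
noncomputable def selTN750 (j : ℕ) : ℕ := (Bool.rec (motive := fun _ => ℕ) rl1242 rl1243 (Nat.ble 1243 j))

/-- a part of the choice of the part of the table -/
noncomputable def selTN751 (j : ℕ) : ℕ := (Bool.rec (motive := fun _ => ℕ) rl1244 rl1245 (Nat.ble 1245 j))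

/-- a part of the choice of the part of the table -/
noncomputable def selTN752 (j : ℕ) : ℕ := (Bool.rec (motive := fun _ => ℕ) (selTN750 j) (Bool.rec (motive := fun _ => ℕ) (selTN751 j) rl1246 (Nat.ble 1246 j)) (Nat.ble 1244 j))

/-- a part of the choice of the part of the table -/
noncomputable def selTN753 (j : ℕ) : ℕ := (Bool.rec (motive := fun _ => ℕ) rl1247 rl1248 (Nat.ble 1248 j))

/-- a part of the choice of the part of the table -/
noncomputable def selTN754 (j : ℕ) : ℕ := (Bool.rec (motive := fun _ => ℕ) rl1249 rl1250 (Nat.ble 1250 j))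

/-- a part of the choice of the part of the table -/
noncomputable def selTN755 (j : ℕ) : ℕ := (Bool.rec (motive := fun _ => ℕ) (selTN753 j) (Bool.rec (motive := fun _ => ℕ) (selTN754 j) rl1251 (Nat.ble 1251 j)) (Nat.ble 1249 j))

/-- a part of the choice of the part of the table -/
noncomputable def selTN756 (j : ℕ) : ℕ := (Bool.rec (motive := fun _ => ℕ) (Bool.rec (motive := fun _ => ℕ) rl1252 rl1253 (Nat.ble 1253 j)) (Bool.rec (motive := fun _ => ℕ) rl1254 rl1255 (Nat.ble 1255 j)) (Nat.ble 1254 j))

/-- a part of the choice of the part of the table -/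
noncomputable def selTN757 (j : ℕ) : ℕ := (Bool.rec (motive := fun _ => ℕ) (Bool.rec (motive := fun _ => ℕ) (selTN749 j) (selTN752 j) (Nat.ble 1242 j)) (Bool.rec (motive := fun _ => ℕ) (selTN755 j) (selTN756 j) (Nat.ble 1252 j)) (Nat.ble 1247 j))

/-- a part of the choice of the part of the table -/
noncomputable def selTN758 (j : ℕ) : ℕ := (Bool.rec (motive := fun _ => ℕ) rl1256 rl1257 (Nat.ble 1257 j))

/-- a part of the choice of the part of the table -/
noncomputable def selTN759 (j : ℕ) : ℕ := (Bool.rec (motive := fun _ => ℕ) rl1258 rl1259 (Nat.ble 1259 j))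

/-- a part of the choice of the part of the table -/
noncomputable def selTN760 (j : ℕ) : ℕ := (Bool.rec (motive := fun _ => ℕ) (selTN758 j) (Bool.rec (motive := fun _ => ℕ) (selTN759 j) rl1260 (Nat.ble 1260 j)) (Nat.ble 1258 j))

/-- a part of the choice of the part of the table -/
noncomputable def selTN761 (j : ℕ) : ℕ := (Bool.rec (motive := fun _ => ℕ) rl1261 rl1262 (Nat.ble 1262 j))

/-- a part of the choice of the part of the table -/
noncomputable def selTN762 (j : ℕ) : ℕ := (Bool.rec (motive := fun _ => ℕ) rl1263 rl1264 (Nat.ble 1264 j))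

/-- a part of the choice of the part of the table -/
noncomputable def selTN763 (j : ℕ) : ℕ := (Bool.rec (motive := fun _ => ℕ) (selTN761 j) (Bool.rec (motive := fun _ => ℕ) (selTN762 j) rl1265 (Nat.ble 1265 j)) (Nat.ble 1263 j))

/-- a part of the choice of the part of the table -/
noncomputable def selTN764 (j : ℕ) : ℕ := (Bool.rec (motive := fun _ => ℕ) rl1266 rl1267 (Nat.ble 1267 j))

/-- a part of the choice of the part of the table -/
noncomputable def selTN765 (j : ℕ) : ℕ := (Bool.rec (motive := fun _ => ℕ) rl1268 rl1269 (Nat.ble 1269 j))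

/-- a part of the choice of the part of the table -/
noncomputable def selTN766 (j : ℕ) : ℕ := (Bool.rec (motive := fun _ => ℕ) (selTN764 j) (Bool.rec (motive := fun _ => ℕ) (selTN765 j) rl1270 (Nat.ble 1270 j)) (Nat.ble 1268 j))

/-- a part of the choice of the part of the table -/
noncomputable def selTN767 (j : ℕ) : ℕ := (Bool.rec (motive := fun _ => ℕ) rl1271 (Bool.rec (motive := fun _ => ℕ) rl1272 rl1273 (Nat.ble 1273 j)) (Nat.ble 1272 j))

/-- a part of the choice of the part of the table -/
noncomputable def selTN768 (j : ℕ) : ℕ := (Bool.rec (motive := fun _ => ℕ) (Bool.rec (motive := fun _ => ℕ) (selTN760 j) (selTN763 j) (Nat.ble 1261 j)) (Bool.rec (motive := fun _ => ℕ) (selTN766 j) (selTN767 j) (Nat.ble 1271 j)) (Nat.ble 1266 j))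

/-- a part of the choice of the part of the table -/
noncomputable def selTN769 (j : ℕ) : ℕ := (Bool.rec (motive := fun _ => ℕ) (Bool.rec (motive := fun _ => ℕ) (selTN735 j) (selTN746 j) (Nat.ble 1218 j)) (Bool.rec (motive := fun _ => ℕ) (selTN757 j) (selTN768 j) (Nat.ble 1256 j)) (Nat.ble 1237 j))

/-- a part of the choice of the part of the table -/
noncomputable def selTN770 (j : ℕ) : ℕ := (Bool.rec (motive := fun _ => ℕ) rl1274 rl1275 (Nat.ble 1275 j))

/-- a part of the choice of the part of the table -/
noncomputable def selTN771 (j : ℕ) : ℕ := (Bool.rec (motive := fun _ => ℕ) rl1276 rl1277 (Nat.ble 1277 j))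

/-- a part of the choice of the part of the table -/
noncomputable def selTN772 (j : ℕ) : ℕ := (Bool.rec (motive := fun _ => ℕ) (selTN770 j) (Bool.rec (motive := fun _ => ℕ) (selTN771 j) rl1278 (Nat.ble 1278 j)) (Nat.ble 1276 j))

/-- a part of the choice of the part of the table -/
noncomputable def selTN773 (j : ℕ) : ℕ := (Bool.rec (motive := fun _ => ℕ) rl1279 rl1280 (Nat.ble 1280 j))

/-- a part of the choice of the part of the table -/
noncomputable def selTN774 (j : ℕ) : ℕ := (Bool.rec (motive := fun _ => ℕ) rl1281 rl1282 (Nat.ble 1282 j))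

/-- a part of the choice of the part of the table -/
noncomputable def selTN775 (j : ℕ) : ℕ := (Bool.rec (motive := fun _ => ℕ) (selTN773 j) (Bool.rec (motive := fun _ => ℕ) (selTN774 j) rl1283 (Nat.ble 1283 j)) (Nat.ble 1281 j))

/-- a part of the choice of the part of the table -/
noncomputable def selTN776 (j : ℕ) : ℕ := (Bool.rec (motive := fun _ => ℕ) rl1284 rl1285 (Nat.ble 1285 j))

/-- a part of the choice of the part of the table -/
noncomputable def selTN777 (j : ℕ) : ℕ := (Bool.rec (motive := fun _ => ℕ) rl1286 rl1287 (Nat.ble 1287 j))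

/-- a part of the choice of the part of the table -/
noncomputable def selTN778 (j : ℕ) : ℕ := (Bool.rec (motive := fun _ => ℕ) (selTN776 j) (Bool.rec (motive := fun _ => ℕ) (selTN777 j) rl1288 (Nat.ble 1288 j)) (Nat.ble 1286 j))

/-- a part of the choice of the part of the table -/
noncomputable def selTN779 (j : ℕ) : ℕ := (Bool.rec (motive := fun _ => ℕ) (Bool.rec (motive := fun _ => ℕ) rl1289 rl1290 (Nat.ble 1290 j)) (Bool.rec (motive := fun _ => ℕ) rl1291 rl1292 (Nat.ble 1292 j)) (Nat.ble 1291 j))

/-- a part of the choice of the part of the table -/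
noncomputable def selTN780 (j : ℕ) : ℕ := (Bool.rec (motive := fun _ => ℕ) (Bool.rec (motive := fun _ => ℕ) (selTN772 j) (selTN775 j) (Nat.ble 1279 j)) (Bool.rec (motive := fun _ => ℕ) (selTN778 j) (selTN779 j) (Nat.ble 1289 j)) (Nat.ble 1284 j))

/-- a part of the choice of the part of the table -/
noncomputable def selTN781 (j : ℕ) : ℕ := (Bool.rec (motive := fun _ => ℕ) rl1293 rl1294 (Nat.ble 1294 j))

/-- a part of the choice of the part of the table -/
noncomputable def selTN782 (j : ℕ) : ℕ := (Bool.rec (motive := fun _ => ℕ) rl1295 rl1296 (Nat.ble 1296 j))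

/-- a part of the choice of the part of the table -/
noncomputable def selTN783 (j : ℕ) : ℕ := (Bool.rec (motive := fun _ => ℕ) (selTN781 j) (Bool.rec (motive := fun _ => ℕ) (selTN782 j) rl1297 (Nat.ble 1297 j)) (Nat.ble 1295 j))

/-- a part of the choice of the part of the table -/
noncomputable def selTN784 (j : ℕ) : ℕ := (Bool.rec (motive := fun _ => ℕ) rl1298 rl1299 (Nat.ble 1299 j))

/-- a part of the choice of the part of the table -/
noncomputable def selTN785 (j : ℕ) : ℕ := (Bool.rec (motive := fun _ => ℕ) rl1300 rl1301 (Nat.ble 1301 j))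

/-- a part of the choice of the part of the table -/
noncomputable def selTN786 (j : ℕ) : ℕ := (Bool.rec (motive := fun _ => ℕ) (selTN784 j) (Bool.rec (motive := fun _ => ℕ) (selTN785 j) rl1302 (Nat.ble 1302 j)) (Nat.ble 1300 j))

/-- a part of the choice of the part of the table -/
noncomputable def selTN787 (j : ℕ) : ℕ := (Bool.rec (motive := fun _ => ℕ) rl1303 rl1304 (Nat.ble 1304 j))

/-- a part of the choice of the part of the table -/
noncomputable def selTN788 (j : ℕ) : ℕ := (Bool.rec (motive := fun _ => ℕ) rl1305 rl1306 (Nat.ble 1306 j))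

/-- a part of the choice of the part of the table -/
noncomputable def selTN789 (j : ℕ) : ℕ := (Bool.rec (motive := fun _ => ℕ) (selTN787 j) (Bool.rec (motive := fun _ => ℕ) (selTN788 j) rl1307 (Nat.ble 1307 j)) (Nat.ble 1305 j))

/-- a part of the choice of the part of the table -/
noncomputable def selTN790 (j : ℕ) : ℕ := (Bool.rec (motive := fun _ => ℕ) (Bool.rec (motive := fun _ => ℕ) rl1308 rl1309 (Nat.ble 1309 j)) (Bool.rec (motive := fun _ => ℕ) rl1310 rl1311 (Nat.ble 1311 j)) (Nat.ble 1310 j))

/-- a part of the choice of the part of the table -/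
noncomputable def selTN791 (j : ℕ) : ℕ := (Bool.rec (motive := fun _ => ℕ) (Bool.rec (motive := fun _ => ℕ) (selTN783 j) (selTN786 j) (Nat.ble 1298 j)) (Bool.rec (motive := fun _ => ℕ) (selTN789 j) (selTN790 j) (Nat.ble 1308 j)) (Nat.ble 1303 j))

/-- a part of the choice of the part of the table -/
noncomputable def selTN792 (j : ℕ) : ℕ := (Bool.rec (motive := fun _ => ℕ) rl1312 rl1313 (Nat.ble 1313 j))

/-- a part of the choice of the part of the table -/
noncomputable def selTN793 (j : ℕ) : ℕ := (Bool.rec (motive := fun _ => ℕ) rl1314 rl1315 (Nat.ble 1315 j))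

/-- a part of the choice of the part of the table -/
noncomputable def selTN794 (j : ℕ) : ℕ := (Bool.rec (motive := fun _ => ℕ) (selTN792 j) (Bool.rec (motive := fun _ => ℕ) (selTN793 j) rl1316 (Nat.ble 1316 j)) (Nat.ble 1314 j))

/-- a part of the choice of the part of the table -/
noncomputable def selTN795 (j : ℕ) : ℕ := (Bool.rec (motive := fun _ => ℕ) rl1317 rl1318 (Nat.ble 1318 j))

/-- a part of the choice of the part of the table -/
noncomputable def selTN796 (j : ℕ) : ℕ := (Bool.rec (motive := fun _ => ℕ) rl1319 rl1320 (Nat.ble 1320 j))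

/-- a part of the choice of the part of the table -/
noncomputable def selTN797 (j : ℕ) : ℕ := (Bool.rec (motive := fun _ => ℕ) (selTN795 j) (Bool.rec (motive := fun _ => ℕ) (selTN796 j) rl1321 (Nat.ble 1321 j)) (Nat.ble 1319 j))

/-- a part of the choice of the part of the table -/
noncomputable def selTN798 (j : ℕ) : ℕ := (Bool.rec (motive := fun _ => ℕ) rl1322 rl1323 (Nat.ble 1323 j))

/-- a part of the choice of the part of the table -/
noncomputable def selTN799 (j : ℕ) : ℕ := (Bool.rec (motive := fun _ => ℕ) rl1324 rl1325 (Nat.ble 1325 j))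

/-- a part of the choice of the part of the table -/
noncomputable def selTN800 (j : ℕ) : ℕ := (Bool.rec (motive := fun _ => ℕ) (selTN798 j) (Bool.rec (motive := fun _ => ℕ) (selTN799 j) rl1326 (Nat.ble 1326 j)) (Nat.ble 1324 j))

/-- a part of the choice of the part of the table -/
noncomputable def selTN801 (j : ℕ) : ℕ := (Bool.rec (motive := fun _ => ℕ) (Bool.rec (motive := fun _ => ℕ) rl1327 rl1328 (Nat.ble 1328 j)) (Bool.rec (motive := fun _ => ℕ) rl1329 rl1330 (Nat.ble 1330 j)) (Nat.ble 1329 j))

/-- a part of the choice of the part of the table -/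
noncomputable def selTN802 (j : ℕ) : ℕ := (Bool.rec (motive := fun _ => ℕ) (Bool.rec (motive := fun _ => ℕ) (selTN794 j) (selTN797 j) (Nat.ble 1317 j)) (Bool.rec (motive := fun _ => ℕ) (selTN800 j) (selTN801 j) (Nat.ble 1327 j)) (Nat.ble 1322 j))

/-- a part of the choice of the part of the table -/
noncomputable def selTN803 (j : ℕ) : ℕ := (Bool.rec (motive := fun _ => ℕ) rl1331 rl1332 (Nat.ble 1332 j))

/-- a part of the choice of the part of the table -/
noncomputable def selTN804 (j : ℕ) : ℕ := (Bool.rec (motive := fun _ => ℕ) rl1333 rl1334 (Nat.ble 1334 j))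

/-- a part of the choice of the part of the table -/
noncomputable def selTN805 (j : ℕ) : ℕ := (Bool.rec (motive := fun _ => ℕ) (selTN803 j) (Bool.rec (motive := fun _ => ℕ) (selTN804 j) rl1335 (Nat.ble 1335 j)) (Nat.ble 1333 j))

/-- a part of the choice of the part of the table -/
noncomputable def selTN806 (j : ℕ) : ℕ := (Bool.rec (motive := fun _ => ℕ) rl1336 rl1337 (Nat.ble 1337 j))

/-- a part of the choice of the part of the table -/
noncomputable def selTN807 (j : ℕ) : ℕ := (Bool.rec (motive := fun _ => ℕ) rl1338 rl1339 (Nat.ble 1339 j))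

/-- a part of the choice of the part of the table -/
noncomputable def selTN808 (j : ℕ) : ℕ := (Bool.rec (motive := fun _ => ℕ) (selTN806 j) (Bool.rec (motive := fun _ => ℕ) (selTN807 j) rl1340 (Nat.ble 1340 j)) (Nat.ble 1338 j))

/-- a part of the choice of the part of the table -/
noncomputable def selTN809 (j : ℕ) : ℕ := (Bool.rec (motive := fun _ => ℕ) rl1341 rl1342 (Nat.ble 1342 j))

/-- a part of the choice of the part of the table -/
noncomputable def selTN810 (j : ℕ) : ℕ := (Bool.rec (motive := fun _ => ℕ) rl1343 rl1344 (Nat.ble 1344 j))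

/-- a part of the choice of the part of the table -/
noncomputable def selTN811 (j : ℕ) : ℕ := (Bool.rec (motive := fun _ => ℕ) (selTN809 j) (Bool.rec (motive := fun _ => ℕ) (selTN810 j) rl1345 (Nat.ble 1345 j)) (Nat.ble 1343 j))

/-- a part of the choice of the part of the table -/
noncomputable def selTN812 (j : ℕ) : ℕ := (Bool.rec (motive := fun _ => ℕ) rl1346 (Bool.rec (motive := fun _ => ℕ) rl1347 rl1348 (Nat.ble 1348 j)) (Nat.ble 1347 j))

/-- a part of the choice of the part of the table -/
noncomputable def selTN813 (j : ℕ) : ℕ := (Bool.rec (motive := fun _ => ℕ) (Bool.rec (motive := fun _ => ℕ) (selTN805 j) (selTN808 j) (Nat.ble 1336 j)) (Bool.rec (motive := fun _ => ℕ) (selTN811 j) (selTN812 j) (Nat.ble 1346 j)) (Nat.ble 1341 j))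

/-- a part of the choice of the part of the table -/
noncomputable def selTN814 (j : ℕ) : ℕ := (Bool.rec (motive := fun _ => ℕ) (Bool.rec (motive := fun _ => ℕ) (selTN780 j) (selTN791 j) (Nat.ble 1293 j)) (Bool.rec (motive := fun _ => ℕ) (selTN802 j) (selTN813 j) (Nat.ble 1331 j)) (Nat.ble 1312 j))

/-- a part of the choice of the part of the table -/
noncomputable def selTN815 (j : ℕ) : ℕ := (Bool.rec (motive := fun _ => ℕ) rl1349 rl1350 (Nat.ble 1350 j))

/-- a part of the choice of the part of the table -/
noncomputable def selTN816 (j : ℕ) : ℕ := (Bool.rec (motive := fun _ => ℕ) rl1351 rl1352 (Nat.ble 1352 j))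

/-- a part of the choice of the part of the table -/
noncomputable def selTN817 (j : ℕ) : ℕ := (Bool.rec (motive := fun _ => ℕ) (selTN815 j) (Bool.rec (motive := fun _ => ℕ) (selTN816 j) rl1353 (Nat.ble 1353 j)) (Nat.ble 1351 j))

/-- a part of the choice of the part of the table -/
noncomputable def selTN818 (j : ℕ) : ℕ := (Bool.rec (motive := fun _ => ℕ) rl1354 rl1355 (Nat.ble 1355 j))

/-- a part of the choice of the part of the table -/
noncomputable def selTN819 (j : ℕ) : ℕ := (Bool.rec (motive := fun _ => ℕ) rl1356 rl1357 (Nat.ble 1357 j))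

/-- a part of the choice of the part of the table -/
noncomputable def selTN820 (j : ℕ) : ℕ := (Bool.rec (motive := fun _ => ℕ) (selTN818 j) (Bool.rec (motive := fun _ => ℕ) (selTN819 j) rl1358 (Nat.ble 1358 j)) (Nat.ble 1356 j))

/-- a part of the choice of the part of the table -/
noncomputable def selTN821 (j : ℕ) : ℕ := (Bool.rec (motive := fun _ => ℕ) rl1359 rl1360 (Nat.ble 1360 j))

/-- a part of the choice of the part of the table -/
noncomputable def selTN822 (j : ℕ) : ℕ := (Bool.rec (motive := fun _ => ℕ) rl1361 rl1362 (Nat.ble 1362 j))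

/-- a part of the choice of the part of the table -/
noncomputable def selTN823 (j : ℕ) : ℕ := (Bool.rec (motive := fun _ => ℕ) (selTN821 j) (Bool.rec (motive := fun _ => ℕ) (selTN822 j) rl1363 (Nat.ble 1363 j)) (Nat.ble 1361 j))

/-- a part of the choice of the part of the table -/
noncomputable def selTN824 (j : ℕ) : ℕ := (Bool.rec (motive := fun _ => ℕ) (Bool.rec (motive := fun _ => ℕ) rl1364 rl1365 (Nat.ble 1365 j)) (Bool.rec (motive := fun _ => ℕ) rl1366 rl1367 (Nat.ble 1367 j)) (Nat.ble 1366 j))

/-- a part of the choice of the part of the table -/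
noncomputable def selTN825 (j : ℕ) : ℕ := (Bool.rec (motive := fun _ => ℕ) (Bool.rec (motive := fun _ => ℕ) (selTN817 j) (selTN820 j) (Nat.ble 1354 j)) (Bool.rec (motive := fun _ => ℕ) (selTN823 j) (selTN824 j) (Nat.ble 1364 j)) (Nat.ble 1359 j))

/-- a part of the choice of the part of the table -/
noncomputable def selTN826 (j : ℕ) : ℕ := (Bool.rec (motive := fun _ => ℕ) rl1368 rl1369 (Nat.ble 1369 j))

/-- a part of the choice of the part of the table -/
noncomputable def selTN827 (j : ℕ) : ℕ := (Bool.rec (motive := fun _ => ℕ) rl1370 rl1371 (Nat.ble 1371 j))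

/-- a part of the choice of the part of the table -/
noncomputable def selTN828 (j : ℕ) : ℕ := (Bool.rec (motive := fun _ => ℕ) (selTN826 j) (Bool.rec (motive := fun _ => ℕ) (selTN827 j) rl1372 (Nat.ble 1372 j)) (Nat.ble 1370 j))

/-- a part of the choice of the part of the table -/
noncomputable def selTN829 (j : ℕ) : ℕ := (Bool.rec (motive := fun _ => ℕ) rl1373 rl1374 (Nat.ble 1374 j))

/-- a part of the choice of the part of the table -/
noncomputable def selTN830 (j : ℕ) : ℕ := (Bool.rec (motive := fun _ => ℕ) rl1375 rl1376 (Nat.ble 1376 j))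

/-- a part of the choice of the part of the table -/
noncomputable def selTN831 (j : ℕ) : ℕ := (Bool.rec (motive := fun _ => ℕ) (selTN829 j) (Bool.rec (motive := fun _ => ℕ) (selTN830 j) rl1377 (Nat.ble 1377 j)) (Nat.ble 1375 j))

/-- a part of the choice of the part of the table -/
noncomputable def selTN832 (j : ℕ) : ℕ := (Bool.rec (motive := fun _ => ℕ) rl1378 rl1379 (Nat.ble 1379 j))

/-- a part of the choice of the part of the table -/
noncomputable def selTN833 (j : ℕ) : ℕ := (Bool.rec (motive := fun _ => ℕ) rl1380 rl1381 (Nat.ble 1381 j))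

/-- a part of the choice of the part of the table -/
noncomputable def selTN834 (j : ℕ) : ℕ := (Bool.rec (motive := fun _ => ℕ) (selTN832 j) (Bool.rec (motive := fun _ => ℕ) (selTN833 j) rl1382 (Nat.ble 1382 j)) (Nat.ble 1380 j))

/-- a part of the choice of the part of the table -/
noncomputable def selTN835 (j : ℕ) : ℕ := (Bool.rec (motive := fun _ => ℕ) (Bool.rec (motive := fun _ => ℕ) rl1383 rl1384 (Nat.ble 1384 j)) (Bool.rec (motive := fun _ => ℕ) rl1385 rl1386 (Nat.ble 1386 j)) (Nat.ble 1385 j))

/-- a part of the choice of the part of the table -/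
noncomputable def selTN836 (j : ℕ) : ℕ := (Bool.rec (motive := fun _ => ℕ) (Bool.rec (motive := fun _ => ℕ) (selTN828 j) (selTN831 j) (Nat.ble 1373 j)) (Bool.rec (motive := fun _ => ℕ) (selTN834 j) (selTN835 j) (Nat.ble 1383 j)) (Nat.ble 1378 j))

/-- a part of the choice of the part of the table -/
noncomputable def selTN837 (j : ℕ) : ℕ := (Bool.rec (motive := fun _ => ℕ) rl1387 rl1388 (Nat.ble 1388 j))

/-- a part of the choice of the part of the table -/
noncomputable def selTN838 (j : ℕ) : ℕ := (Bool.rec (motive := fun _ => ℕ) rl1389 rl1390 (Nat.ble 1390 j))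

/-- a part of the choice of the part of the table -/
noncomputable def selTN839 (j : ℕ) : ℕ := (Bool.rec (motive := fun _ => ℕ) (selTN837 j) (Bool.rec (motive := fun _ => ℕ) (selTN838 j) rl1391 (Nat.ble 1391 j)) (Nat.ble 1389 j))

/-- a part of the choice of the part of the table -/
noncomputable def selTN840 (j : ℕ) : ℕ := (Bool.rec (motive := fun _ => ℕ) rl1392 rl1393 (Nat.ble 1393 j))

/-- a part of the choice of the part of the table -/
noncomputable def selTN841 (j : ℕ) : ℕ := (Bool.rec (motive := fun _ => ℕ) rl1394 rl1395 (Nat.ble 1395 j))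

/-- a part of the choice of the part of the table -/
noncomputable def selTN842 (j : ℕ) : ℕ := (Bool.rec (motive := fun _ => ℕ) (selTN840 j) (Bool.rec (motive := fun _ => ℕ) (selTN841 j) rl1396 (Nat.ble 1396 j)) (Nat.ble 1394 j))

/-- a part of the choice of the part of the table -/
noncomputable def selTN843 (j : ℕ) : ℕ := (Bool.rec (motive := fun _ => ℕ) rl1397 rl1398 (Nat.ble 1398 j))

/-- a part of the choice of the part of the table -/
noncomputable def selTN844 (j : ℕ) : ℕ := (Bool.rec (motive := fun _ => ℕ) rl1399 rl1400 (Nat.ble 1400 j))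

/-- a part of the choice of the part of the table -/
noncomputable def selTN845 (j : ℕ) : ℕ := (Bool.rec (motive := fun _ => ℕ) (selTN843 j) (Bool.rec (motive := fun _ => ℕ) (selTN844 j) rl1401 (Nat.ble 1401 j)) (Nat.ble 1399 j))

/-- a part of the choice of the part of the table -/
noncomputable def selTN846 (j : ℕ) : ℕ := (Bool.rec (motive := fun _ => ℕ) (Bool.rec (motive := fun _ => ℕ) rl1402 rl1403 (Nat.ble 1403 j)) (Bool.rec (motive := fun _ => ℕ) rl1404 rl1405 (Nat.ble 1405 j)) (Nat.ble 1404 j))

/-- a part of the choice of the part of the table -/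
noncomputable def selTN847 (j : ℕ) : ℕ := (Bool.rec (motive := fun _ => ℕ) (Bool.rec (motive := fun _ => ℕ) (selTN839 j) (selTN842 j) (Nat.ble 1392 j)) (Bool.rec (motive := fun _ => ℕ) (selTN845 j) (selTN846 j) (Nat.ble 1402 j)) (Nat.ble 1397 j))

/-- a part of the choice of the part of the table -/
noncomputable def selTN848 (j : ℕ) : ℕ := (Bool.rec (motive := fun _ => ℕ) rl1406 rl1407 (Nat.ble 1407 j))

/-- a part of the choice of the part of the table -/
noncomputable def selTN849 (j : ℕ) : ℕ := (Bool.rec (motive := fun _ => ℕ) rl1408 rl1409 (Nat.ble 1409 j))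

/-- a part of the choice of the part of the table -/
noncomputable def selTN850 (j : ℕ) : ℕ := (Bool.rec (motive := fun _ => ℕ) (selTN848 j) (Bool.rec (motive := fun _ => ℕ) (selTN849 j) rl1410 (Nat.ble 1410 j)) (Nat.ble 1408 j))

/-- a part of the choice of the part of the table -/
noncomputable def selTN851 (j : ℕ) : ℕ := (Bool.rec (motive := fun _ => ℕ) rl1411 rl1412 (Nat.ble 1412 j))

/-- a part of the choice of the part of the table -/
noncomputable def selTN852 (j : ℕ) : ℕ := (Bool.rec (motive := fun _ => ℕ) rl1413 rl1414 (Nat.ble 1414 j))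

/-- a part of the choice of the part of the table -/
noncomputable def selTN853 (j : ℕ) : ℕ := (Bool.rec (motive := fun _ => ℕ) (selTN851 j) (Bool.rec (motive := fun _ => ℕ) (selTN852 j) rl1415 (Nat.ble 1415 j)) (Nat.ble 1413 j))

/-- a part of the choice of the part of the table -/
noncomputable def selTN854 (j : ℕ) : ℕ := (Bool.rec (motive := fun _ => ℕ) rl1416 rl1417 (Nat.ble 1417 j))

/-- a part of the choice of the part of the table -/
noncomputable def selTN855 (j : ℕ) : ℕ := (Bool.rec (motive := fun _ => ℕ) rl1418 rl1419 (Nat.ble 1419 j))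

/-- a part of the choice of the part of the table -/
noncomputable def selTN856 (j : ℕ) : ℕ := (Bool.rec (motive := fun _ => ℕ) (selTN854 j) (Bool.rec (motive := fun _ => ℕ) (selTN855 j) rl1420 (Nat.ble 1420 j)) (Nat.ble 1418 j))

/-- a part of the choice of the part of the table -/
noncomputable def selTN857 (j : ℕ) : ℕ := (Bool.rec (motive := fun _ => ℕ) rl1421 (Bool.rec (motive := fun _ => ℕ) rl1422 rl1423 (Nat.ble 1423 j)) (Nat.ble 1422 j))

/-- a part of the choice of the part of the table -/
noncomputable def selTN858 (j : ℕ) : ℕ := (Bool.rec (motive := fun _ => ℕ) (Bool.rec (motive := fun _ => ℕ) (selTN850 j) (selTN853 j) (Nat.ble 1411 j)) (Bool.rec (motive := fun _ => ℕ) (selTN856 j) (selTN857 j) (Nat.ble 1421 j)) (Nat.ble 1416 j))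

/-- a part of the choice of the part of the table -/
noncomputable def selTN859 (j : ℕ) : ℕ := (Bool.rec (motive := fun _ => ℕ) (Bool.rec (motive := fun _ => ℕ) (selTN825 j) (selTN836 j) (Nat.ble 1368 j)) (Bool.rec (motive := fun _ => ℕ) (selTN847 j) (selTN858 j) (Nat.ble 1406 j)) (Nat.ble 1387 j))

/-- a part of the choice of the part of the table -/
noncomputable def selTN860 (j : ℕ) : ℕ := (Bool.rec (motive := fun _ => ℕ) rl1424 rl1425 (Nat.ble 1425 j))

/-- a part of the choice of the part of the table -/
noncomputable def selTN861 (j : ℕ) : ℕ := (Bool.rec (motive := fun _ => ℕ) rl1426 rl1427 (Nat.ble 1427 j))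

/-- a part of the choice of the part of the table -/
noncomputable def selTN862 (j : ℕ) : ℕ := (Bool.rec (motive := fun _ => ℕ) (selTN860 j) (Bool.rec (motive := fun _ => ℕ) (selTN861 j) rl1428 (Nat.ble 1428 j)) (Nat.ble 1426 j))

/-- a part of the choice of the part of the table -/
noncomputable def selTN863 (j : ℕ) : ℕ := (Bool.rec (motive := fun _ => ℕ) rl1429 rl1430 (Nat.ble 1430 j))

/-- a part of the choice of the part of the table -/
noncomputable def selTN864 (j : ℕ) : ℕ := (Bool.rec (motive := fun _ => ℕ) rl1431 rl1432 (Nat.ble 1432 j))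

/-- a part of the choice of the part of the table -/
noncomputable def selTN865 (j : ℕ) : ℕ := (Bool.rec (motive := fun _ => ℕ) (selTN863 j) (Bool.rec (motive := fun _ => ℕ) (selTN864 j) rl1433 (Nat.ble 1433 j)) (Nat.ble 1431 j))

/-- a part of the choice of the part of the table -/
noncomputable def selTN866 (j : ℕ) : ℕ := (Bool.rec (motive := fun _ => ℕ) rl1434 rl1435 (Nat.ble 1435 j))

/-- a part of the choice of the part of the table -/
noncomputable def selTN867 (j : ℕ) : ℕ := (Bool.rec (motive := fun _ => ℕ) rl1436 rl1437 (Nat.ble 1437 j))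

/-- a part of the choice of the part of the table -/
noncomputable def selTN868 (j : ℕ) : ℕ := (Bool.rec (motive := fun _ => ℕ) (selTN866 j) (Bool.rec (motive := fun _ => ℕ) (selTN867 j) rl1438 (Nat.ble 1438 j)) (Nat.ble 1436 j))

/-- a part of the choice of the part of the table -/
noncomputable def selTN869 (j : ℕ) : ℕ := (Bool.rec (motive := fun _ => ℕ) (Bool.rec (motive := fun _ => ℕ) rl1439 rl1440 (Nat.ble 1440 j)) (Bool.rec (motive := fun _ => ℕ) rl1441 rl1442 (Nat.ble 1442 j)) (Nat.ble 1441 j))

/-- a part of the choice of the part of the table -/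
noncomputable def selTN870 (j : ℕ) : ℕ := (Bool.rec (motive := fun _ => ℕ) (Bool.rec (motive := fun _ => ℕ) (selTN862 j) (selTN865 j) (Nat.ble 1429 j)) (Bool.rec (motive := fun _ => ℕ) (selTN868 j) (selTN869 j) (Nat.ble 1439 j)) (Nat.ble 1434 j))

/-- a part of the choice of the part of the table -/
noncomputable def selTN871 (j : ℕ) : ℕ := (Bool.rec (motive := fun _ => ℕ) rl1443 rl1444 (Nat.ble 1444 j))

/-- a part of the choice of the part of the table -/
noncomputable def selTN872 (j : ℕ) : ℕ := (Bool.rec (motive := fun _ => ℕ) rl1445 rl1446 (Nat.ble 1446 j))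

/-- a part of the choice of the part of the table -/
noncomputable def selTN873 (j : ℕ) : ℕ := (Bool.rec (motive := fun _ => ℕ) (selTN871 j) (Bool.rec (motive := fun _ => ℕ) (selTN872 j) rl1447 (Nat.ble 1447 j)) (Nat.ble 1445 j))

/-- a part of the choice of the part of the table -/
noncomputable def selTN874 (j : ℕ) : ℕ := (Bool.rec (motive := fun _ => ℕ) rl1448 rl1449 (Nat.ble 1449 j))

/-- a part of the choice of the part of the table -/
noncomputable def selTN875 (j : ℕ) : ℕ := (Bool.rec (motive := fun _ => ℕ) rl1450 rl1451 (Nat.ble 1451 j))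

/-- a part of the choice of the part of the table -/
noncomputable def selTN876 (j : ℕ) : ℕ := (Bool.rec (motive := fun _ => ℕ) (selTN874 j) (Bool.rec (motive := fun _ => ℕ) (selTN875 j) rl1452 (Nat.ble 1452 j)) (Nat.ble 1450 j))

/-- a part of the choice of the part of the table -/
noncomputable def selTN877 (j : ℕ) : ℕ := (Bool.rec (motive := fun _ => ℕ) rl1453 rl1454 (Nat.ble 1454 j))

/-- a part of the choice of the part of the table -/
noncomputable def selTN878 (j : ℕ) : ℕ := (Bool.rec (motive := fun _ => ℕ) rl1455 rl1456 (Nat.ble 1456 j))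

/-- a part of the choice of the part of the table -/
noncomputable def selTN879 (j : ℕ) : ℕ := (Bool.rec (motive := fun _ => ℕ) (selTN877 j) (Bool.rec (motive := fun _ => ℕ) (selTN878 j) rl1457 (Nat.ble 1457 j)) (Nat.ble 1455 j))

/-- a part of the choice of the part of the table -/
noncomputable def selTN880 (j : ℕ) : ℕ := (Bool.rec (motive := fun _ => ℕ) (Bool.rec (motive := fun _ => ℕ) rl1458 rl1459 (Nat.ble 1459 j)) (Bool.rec (motive := fun _ => ℕ) rl1460 rl1461 (Nat.ble 1461 j)) (Nat.ble 1460 j))

/-- a part of the choice of the part of the table -/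
noncomputable def selTN881 (j : ℕ) : ℕ := (Bool.rec (motive := fun _ => ℕ) (Bool.rec (motive := fun _ => ℕ) (selTN873 j) (selTN876 j) (Nat.ble 1448 j)) (Bool.rec (motive := fun _ => ℕ) (selTN879 j) (selTN880 j) (Nat.ble 1458 j)) (Nat.ble 1453 j))

/-- a part of the choice of the part of the table -/
noncomputable def selTN882 (j : ℕ) : ℕ := (Bool.rec (motive := fun _ => ℕ) rl1462 rl1463 (Nat.ble 1463 j))

/-- a part of the choice of the part of the table -/
noncomputable def selTN883 (j : ℕ) : ℕ := (Bool.rec (motive := fun _ => ℕ) rl1464 rl1465 (Nat.ble 1465 j))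

/-- a part of the choice of the part of the table -/
noncomputable def selTN884 (j : ℕ) : ℕ := (Bool.rec (motive := fun _ => ℕ) (selTN882 j) (Bool.rec (motive := fun _ => ℕ) (selTN883 j) rl1466 (Nat.ble 1466 j)) (Nat.ble 1464 j))

/-- a part of the choice of the part of the table -/
noncomputable def selTN885 (j : ℕ) : ℕ := (Bool.rec (motive := fun _ => ℕ) rl1467 rl1468 (Nat.ble 1468 j))

/-- a part of the choice of the part of the table -/
noncomputable def selTN886 (j : ℕ) : ℕ := (Bool.rec (motive := fun _ => ℕ) rl1469 rl1470 (Nat.ble 1470 j))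

/-- a part of the choice of the part of the table -/
noncomputable def selTN887 (j : ℕ) : ℕ := (Bool.rec (motive := fun _ => ℕ) (selTN885 j) (Bool.rec (motive := fun _ => ℕ) (selTN886 j) rl1471 (Nat.ble 1471 j)) (Nat.ble 1469 j))

/-- a part of the choice of the part of the table -/
noncomputable def selTN888 (j : ℕ) : ℕ := (Bool.rec (motive := fun _ => ℕ) rl1472 rl1473 (Nat.ble 1473 j))

/-- a part of the choice of the part of the table -/
noncomputable def selTN889 (j : ℕ) : ℕ := (Bool.rec (motive := fun _ => ℕ) rl1474 rl1475 (Nat.ble 1475 j))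

/-- a part of the choice of the part of the table -/
noncomputable def selTN890 (j : ℕ) : ℕ := (Bool.rec (motive := fun _ => ℕ) (selTN888 j) (Bool.rec (motive := fun _ => ℕ) (selTN889 j) rl1476 (Nat.ble 1476 j)) (Nat.ble 1474 j))

/-- a part of the choice of the part of the table -/
noncomputable def selTN891 (j : ℕ) : ℕ := (Bool.rec (motive := fun _ => ℕ) (Bool.rec (motive := fun _ => ℕ) rl1477 rl1478 (Nat.ble 1478 j)) (Bool.rec (motive := fun _ => ℕ) rl1479 rl1480 (Nat.ble 1480 j)) (Nat.ble 1479 j))

/-- a part of the choice of the part of the table -/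
noncomputable def selTN892 (j : ℕ) : ℕ := (Bool.rec (motive := fun _ => ℕ) (Bool.rec (motive := fun _ => ℕ) (selTN884 j) (selTN887 j) (Nat.ble 1467 j)) (Bool.rec (motive := fun _ => ℕ) (selTN890 j) (selTN891 j) (Nat.ble 1477 j)) (Nat.ble 1472 j))

/-- a part of the choice of the part of the table -/
noncomputable def selTN893 (j : ℕ) : ℕ := (Bool.rec (motive := fun _ => ℕ) rl1481 rl1482 (Nat.ble 1482 j))

/-- a part of the choice of the part of the table -/
noncomputable def selTN894 (j : ℕ) : ℕ := (Bool.rec (motive := fun _ => ℕ) rl1483 rl1484 (Nat.ble 1484 j))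

/-- a part of the choice of the part of the table -/
noncomputable def selTN895 (j : ℕ) : ℕ := (Bool.rec (motive := fun _ => ℕ) (selTN893 j) (Bool.rec (motive := fun _ => ℕ) (selTN894 j) rl1485 (Nat.ble 1485 j)) (Nat.ble 1483 j))

/-- a part of the choice of the part of the table -/
noncomputable def selTN896 (j : ℕ) : ℕ := (Bool.rec (motive := fun _ => ℕ) rl1486 rl1487 (Nat.ble 1487 j))

/-- a part of the choice of the part of the table -/
noncomputable def selTN897 (j : ℕ) : ℕ := (Bool.rec (motive := fun _ => ℕ) rl1488 rl1489 (Nat.ble 1489 j))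

/-- a part of the choice of the part of the table -/
noncomputable def selTN898 (j : ℕ) : ℕ := (Bool.rec (motive := fun _ => ℕ) (selTN896 j) (Bool.rec (motive := fun _ => ℕ) (selTN897 j) rl1490 (Nat.ble 1490 j)) (Nat.ble 1488 j))

/-- a part of the choice of the part of the table -/
noncomputable def selTN899 (j : ℕ) : ℕ := (Bool.rec (motive := fun _ => ℕ) rl1491 rl1492 (Nat.ble 1492 j))

/-- a part of the choice of the part of the table -/
noncomputable def selTN900 (j : ℕ) : ℕ := (Bool.rec (motive := fun _ => ℕ) rl1493 rl1494 (Nat.ble 1494 j))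

/-- a part of the choice of the part of the table -/
noncomputable def selTN901 (j : ℕ) : ℕ := (Bool.rec (motive := fun _ => ℕ) (selTN899 j) (Bool.rec (motive := fun _ => ℕ) (selTN900 j) rl1495 (Nat.ble 1495 j)) (Nat.ble 1493 j))

/-- a part of the choice of the part of the table -/
noncomputable def selTN902 (j : ℕ) : ℕ := (Bool.rec (motive := fun _ => ℕ) rl1496 (Bool.rec (motive := fun _ => ℕ) rl1497 rl1498 (Nat.ble 1498 j)) (Nat.ble 1497 j))

/-- a part of the choice of the part of the table -/
noncomputable def selTN903 (j : ℕ) : ℕ := (Bool.rec (motive := fun _ => ℕ) (Bool.rec (motive := fun _ => ℕ) (selTN895 j) (selTN898 j) (Nat.ble 1486 j)) (Bool.rec (motive := fun _ => ℕ) (selTN901 j) (selTN902 j) (Nat.ble 1496 j)) (Nat.ble 1491 j))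

/-- a part of the choice of the part of the table -/
noncomputable def selTN904 (j : ℕ) : ℕ := (Bool.rec (motive := fun _ => ℕ) (Bool.rec (motive := fun _ => ℕ) (selTN870 j) (selTN881 j) (Nat.ble 1443 j)) (Bool.rec (motive := fun _ => ℕ) (selTN892 j) (selTN903 j) (Nat.ble 1481 j)) (Nat.ble 1462 j))

/-- a part of the choice of the part of the table -/
noncomputable def selTN905 (j : ℕ) : ℕ := (Bool.rec (motive := fun _ => ℕ) (Bool.rec (motive := fun _ => ℕ) (selTN769 j) (selTN814 j) (Nat.ble 1274 j)) (Bool.rec (motive := fun _ => ℕ) (selTN859 j) (selTN904 j) (Nat.ble 1424 j)) (Nat.ble 1349 j))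

/-- a part of the choice of the part of the table -/
noncomputable def selTN906 (j : ℕ) : ℕ := (Bool.rec (motive := fun _ => ℕ) rl1499 rl1500 (Nat.ble 1500 j))

/-- a part of the choice of the part of the table -/
noncomputable def selTN907 (j : ℕ) : ℕ := (Bool.rec (motive := fun _ => ℕ) rl1501 rl1502 (Nat.ble 1502 j))

/-- a part of the choice of the part of the table -/
noncomputable def selTN908 (j : ℕ) : ℕ := (Bool.rec (motive := fun _ => ℕ) (selTN906 j) (Bool.rec (motive := fun _ => ℕ) (selTN907 j) rl1503 (Nat.ble 1503 j)) (Nat.ble 1501 j))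

/-- a part of the choice of the part of the table -/
noncomputable def selTN909 (j : ℕ) : ℕ := (Bool.rec (motive := fun _ => ℕ) rl1504 rl1505 (Nat.ble 1505 j))

/-- a part of the choice of the part of the table -/
noncomputable def selTN910 (j : ℕ) : ℕ := (Bool.rec (motive := fun _ => ℕ) rl1506 rl1507 (Nat.ble 1507 j))

/-- a part of the choice of the part of the table -/
noncomputable def selTN911 (j : ℕ) : ℕ := (Bool.rec (motive := fun _ => ℕ) (selTN909 j) (Bool.rec (motive := fun _ => ℕ) (selTN910 j) rl1508 (Nat.ble 1508 j)) (Nat.ble 1506 j))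

/-- a part of the choice of the part of the table -/
noncomputable def selTN912 (j : ℕ) : ℕ := (Bool.rec (motive := fun _ => ℕ) rl1509 rl1510 (Nat.ble 1510 j))

/-- a part of the choice of the part of the table -/
noncomputable def selTN913 (j : ℕ) : ℕ := (Bool.rec (motive := fun _ => ℕ) rl1511 rl1512 (Nat.ble 1512 j))

/-- a part of the choice of the part of the table -/
noncomputable def selTN914 (j : ℕ) : ℕ := (Bool.rec (motive := fun _ => ℕ) (selTN912 j) (Bool.rec (motive := fun _ => ℕ) (selTN913 j) rl1513 (Nat.ble 1513 j)) (Nat.ble 1511 j))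

/-- a part of the choice of the part of the table -/
noncomputable def selTN915 (j : ℕ) : ℕ := (Bool.rec (motive := fun _ => ℕ) (Bool.rec (motive := fun _ => ℕ) rl1514 rl1515 (Nat.ble 1515 j)) (Bool.rec (motive := fun _ => ℕ) rl1516 rl1517 (Nat.ble 1517 j)) (Nat.ble 1516 j))

/-- a part of the choice of the part of the table -/
noncomputable def selTN916 (j : ℕ) : ℕ := (Bool.rec (motive := fun _ => ℕ) (Bool.rec (motive := fun _ => ℕ) (selTN908 j) (selTN911 j) (Nat.ble 1504 j)) (Bool.rec (motive := fun _ => ℕ) (selTN914 j) (selTN915 j) (Nat.ble 1514 j)) (Nat.ble 1509 j))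

/-- a part of the choice of the part of the table -/
noncomputable def selTN917 (j : ℕ) : ℕ := (Bool.rec (motive := fun _ => ℕ) rl1518 rl1519 (Nat.ble 1519 j))

/-- a part of the choice of the part of the table -/
noncomputable def selTN918 (j : ℕ) : ℕ := (Bool.rec (motive := fun _ => ℕ) rl1520 rl1521 (Nat.ble 1521 j))

/-- a part of the choice of the part of the table -/
noncomputable def selTN919 (j : ℕ) : ℕ := (Bool.rec (motive := fun _ => ℕ) (selTN917 j) (Bool.rec (motive := fun _ => ℕ) (selTN918 j) rl1522 (Nat.ble 1522 j)) (Nat.ble 1520 j))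

/-- a part of the choice of the part of the table -/
noncomputable def selTN920 (j : ℕ) : ℕ := (Bool.rec (motive := fun _ => ℕ) rl1523 rl1524 (Nat.ble 1524 j))

/-- a part of the choice of the part of the table -/
noncomputable def selTN921 (j : ℕ) : ℕ := (Bool.rec (motive := fun _ => ℕ) rl1525 rl1526 (Nat.ble 1526 j))

/-- a part of the choice of the part of the table -/
noncomputable def selTN922 (j : ℕ) : ℕ := (Bool.rec (motive := fun _ => ℕ) (selTN920 j) (Bool.rec (motive := fun _ => ℕ) (selTN921 j) rl1527 (Nat.ble 1527 j)) (Nat.ble 1525 j))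

/-- a part of the choice of the part of the table -/
noncomputable def selTN923 (j : ℕ) : ℕ := (Bool.rec (motive := fun _ => ℕ) rl1528 rl1529 (Nat.ble 1529 j))

/-- a part of the choice of the part of the table -/
noncomputable def selTN924 (j : ℕ) : ℕ := (Bool.rec (motive := fun _ => ℕ) rl1530 rl1531 (Nat.ble 1531 j))

/-- a part of the choice of the part of the table -/
noncomputable def selTN925 (j : ℕ) : ℕ := (Bool.rec (motive := fun _ => ℕ) (selTN923 j) (Bool.rec (motive := fun _ => ℕ) (selTN924 j) rl1532 (Nat.ble 1532 j)) (Nat.ble 1530 j))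

/-- a part of the choice of the part of the table -/
noncomputable def selTN926 (j : ℕ) : ℕ := (Bool.rec (motive := fun _ => ℕ) (Bool.rec (motive := fun _ => ℕ) rl1533 rl1534 (Nat.ble 1534 j)) (Bool.rec (motive := fun _ => ℕ) rl1535 rl1536 (Nat.ble 1536 j)) (Nat.ble 1535 j))

/-- a part of the choice of the part of the table -/
noncomputable def selTN927 (j : ℕ) : ℕ := (Bool.rec (motive := fun _ => ℕ) (Bool.rec (motive := fun _ => ℕ) (selTN919 j) (selTN922 j) (Nat.ble 1523 j)) (Bool.rec (motive := fun _ => ℕ) (selTN925 j) (selTN926 j) (Nat.ble 1533 j)) (Nat.ble 1528 j))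

/-- a part of the choice of the part of the table -/
noncomputable def selTN928 (j : ℕ) : ℕ := (Bool.rec (motive := fun _ => ℕ) rl1537 rl1538 (Nat.ble 1538 j))

/-- a part of the choice of the part of the table -/
noncomputable def selTN929 (j : ℕ) : ℕ := (Bool.rec (motive := fun _ => ℕ) rl1539 rl1540 (Nat.ble 1540 j))

/-- a part of the choice of the part of the table -/
noncomputable def selTN930 (j : ℕ) : ℕ := (Bool.rec (motive := fun _ => ℕ) (selTN928 j) (Bool.rec (motive := fun _ => ℕ) (selTN929 j) rl1541 (Nat.ble 1541 j)) (Nat.ble 1539 j))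

/-- a part of the choice of the part of the table -/
noncomputable def selTN931 (j : ℕ) : ℕ := (Bool.rec (motive := fun _ => ℕ) rl1542 rl1543 (Nat.ble 1543 j))

/-- a part of the choice of the part of the table -/
noncomputable def selTN932 (j : ℕ) : ℕ := (Bool.rec (motive := fun _ => ℕ) rl1544 rl1545 (Nat.ble 1545 j))

/-- a part of the choice of the part of the table -/
noncomputable def selTN933 (j : ℕ) : ℕ := (Bool.rec (motive := fun _ => ℕ) (selTN931 j) (Bool.rec (motive := fun _ => ℕ) (selTN932 j) rl1546 (Nat.ble 1546 j)) (Nat.ble 1544 j))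

/-- a part of the choice of the part of the table -/
noncomputable def selTN934 (j : ℕ) : ℕ := (Bool.rec (motive := fun _ => ℕ) rl1547 rl1548 (Nat.ble 1548 j))

/-- a part of the choice of the part of the table -/
noncomputable def selTN935 (j : ℕ) : ℕ := (Bool.rec (motive := fun _ => ℕ) rl1549 rl1550 (Nat.ble 1550 j))

/-- a part of the choice of the part of the table -/
noncomputable def selTN936 (j : ℕ) : ℕ := (Bool.rec (motive := fun _ => ℕ) (selTN934 j) (Bool.rec (motive := fun _ => ℕ) (selTN935 j) rl1551 (Nat.ble 1551 j)) (Nat.ble 1549 j))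

/-- a part of the choice of the part of the table -/
noncomputable def selTN937 (j : ℕ) : ℕ := (Bool.rec (motive := fun _ => ℕ) (Bool.rec (motive := fun _ => ℕ) rl1552 rl1553 (Nat.ble 1553 j)) (Bool.rec (motive := fun _ => ℕ) rl1554 rl1555 (Nat.ble 1555 j)) (Nat.ble 1554 j))

/-- a part of the choice of the part of the table -/
noncomputable def selTN938 (j : ℕ) : ℕ := (Bool.rec (motive := fun _ => ℕ) (Bool.rec (motive := fun _ => ℕ) (selTN930 j) (selTN933 j) (Nat.ble 1542 j)) (Bool.rec (motive := fun _ => ℕ) (selTN936 j) (selTN937 j) (Nat.ble 1552 j)) (Nat.ble 1547 j))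

/-- a part of the choice of the part of the table -/
noncomputable def selTN939 (j : ℕ) : ℕ := (Bool.rec (motive := fun _ => ℕ) rl1556 rl1557 (Nat.ble 1557 j))

/-- a part of the choice of the part of the table -/
noncomputable def selTN940 (j : ℕ) : ℕ := (Bool.rec (motive := fun _ => ℕ) rl1558 rl1559 (Nat.ble 1559 j))

/-- a part of the choice of the part of the table -/
noncomputable def selTN941 (j : ℕ) : ℕ := (Bool.rec (motive := fun _ => ℕ) (selTN939 j) (Bool.rec (motive := fun _ => ℕ) (selTN940 j) rl1560 (Nat.ble 1560 j)) (Nat.ble 1558 j))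

/-- a part of the choice of the part of the table -/
noncomputable def selTN942 (j : ℕ) : ℕ := (Bool.rec (motive := fun _ => ℕ) rl1561 rl1562 (Nat.ble 1562 j))

/-- a part of the choice of the part of the table -/
noncomputable def selTN943 (j : ℕ) : ℕ := (Bool.rec (motive := fun _ => ℕ) rl1563 rl1564 (Nat.ble 1564 j))

/-- a part of the choice of the part of the table -/
noncomputable def selTN944 (j : ℕ) : ℕ := (Bool.rec (motive := fun _ => ℕ) (selTN942 j) (Bool.rec (motive := fun _ => ℕ) (selTN943 j) rl1565 (Nat.ble 1565 j)) (Nat.ble 1563 j))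

/-- a part of the choice of the part of the table -/
noncomputable def selTN945 (j : ℕ) : ℕ := (Bool.rec (motive := fun _ => ℕ) rl1566 rl1567 (Nat.ble 1567 j))

/-- a part of the choice of the part of the table -/
noncomputable def selTN946 (j : ℕ) : ℕ := (Bool.rec (motive := fun _ => ℕ) rl1568 rl1569 (Nat.ble 1569 j))

/-- a part of the choice of the part of the table -/
noncomputable def selTN947 (j : ℕ) : ℕ := (Bool.rec (motive := fun _ => ℕ) (selTN945 j) (Bool.rec (motive := fun _ => ℕ) (selTN946 j) rl1570 (Nat.ble 1570 j)) (Nat.ble 1568 j))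

/-- a part of the choice of the part of the table -/
noncomputable def selTN948 (j : ℕ) : ℕ := (Bool.rec (motive := fun _ => ℕ) rl1571 (Bool.rec (motive := fun _ => ℕ) rl1572 rl1573 (Nat.ble 1573 j)) (Nat.ble 1572 j))

/-- a part of the choice of the part of the table -/
noncomputable def selTN949 (j : ℕ) : ℕ := (Bool.rec (motive := fun _ => ℕ) (Bool.rec (motive := fun _ => ℕ) (selTN941 j) (selTN944 j) (Nat.ble 1561 j)) (Bool.rec (motive := fun _ => ℕ) (selTN947 j) (selTN948 j) (Nat.ble 1571 j)) (Nat.ble 1566 j))

/-- a part of the choice of the part of the table -/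
noncomputable def selTN950 (j : ℕ) : ℕ := (Bool.rec (motive := fun _ => ℕ) (Bool.rec (motive := fun _ => ℕ) (selTN916 j) (selTN927 j) (Nat.ble 1518 j)) (Bool.rec (motive := fun _ => ℕ) (selTN938 j) (selTN949 j) (Nat.ble 1556 j)) (Nat.ble 1537 j))

/-- a part of the choice of the part of the table -/
noncomputable def selTN951 (j : ℕ) : ℕ := (Bool.rec (motive := fun _ => ℕ) rl1574 rl1575 (Nat.ble 1575 j))

/-- a part of the choice of the part of the table -/
noncomputable def selTN952 (j : ℕ) : ℕ := (Bool.rec (motive := fun _ => ℕ) rl1576 rl1577 (Nat.ble 1577 j))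

/-- a part of the choice of the part of the table -/
noncomputable def selTN953 (j : ℕ) : ℕ := (Bool.rec (motive := fun _ => ℕ) (selTN951 j) (Bool.rec (motive := fun _ => ℕ) (selTN952 j) rl1578 (Nat.ble 1578 j)) (Nat.ble 1576 j))

/-- a part of the choice of the part of the table -/
noncomputable def selTN954 (j : ℕ) : ℕ := (Bool.rec (motive := fun _ => ℕ) rl1579 rl1580 (Nat.ble 1580 j))

/-- a part of the choice of the part of the table -/
noncomputable def selTN955 (j : ℕ) : ℕ := (Bool.rec (motive := fun _ => ℕ) rl1581 rl1582 (Nat.ble 1582 j))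

/-- a part of the choice of the part of the table -/
noncomputable def selTN956 (j : ℕ) : ℕ := (Bool.rec (motive := fun _ => ℕ) (selTN954 j) (Bool.rec (motive := fun _ => ℕ) (selTN955 j) rl1583 (Nat.ble 1583 j)) (Nat.ble 1581 j))

/-- a part of the choice of the part of the table -/
noncomputable def selTN957 (j : ℕ) : ℕ := (Bool.rec (motive := fun _ => ℕ) rl1584 rl1585 (Nat.ble 1585 j))

/-- a part of the choice of the part of the table -/
noncomputable def selTN958 (j : ℕ) : ℕ := (Bool.rec (motive := fun _ => ℕ) rl1586 rl1587 (Nat.ble 1587 j))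

/-- a part of the choice of the part of the table -/
noncomputable def selTN959 (j : ℕ) : ℕ := (Bool.rec (motive := fun _ => ℕ) (selTN957 j) (Bool.rec (motive := fun _ => ℕ) (selTN958 j) rl1588 (Nat.ble 1588 j)) (Nat.ble 1586 j))

/-- a part of the choice of the part of the table -/
noncomputable def selTN960 (j : ℕ) : ℕ := (Bool.rec (motive := fun _ => ℕ) (Bool.rec (motive := fun _ => ℕ) rl1589 rl1590 (Nat.ble 1590 j)) (Bool.rec (motive := fun _ => ℕ) rl1591 rl1592 (Nat.ble 1592 j)) (Nat.ble 1591 j))

/-- a part of the choice of the part of the table -/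
noncomputable def selTN961 (j : ℕ) : ℕ := (Bool.rec (motive := fun _ => ℕ) (Bool.rec (motive := fun _ => ℕ) (selTN953 j) (selTN956 j) (Nat.ble 1579 j)) (Bool.rec (motive := fun _ => ℕ) (selTN959 j) (selTN960 j) (Nat.ble 1589 j)) (Nat.ble 1584 j))

/-- a part of the choice of the part of the table -/
noncomputable def selTN962 (j : ℕ) : ℕ := (Bool.rec (motive := fun _ => ℕ) rl1593 rl1594 (Nat.ble 1594 j))

/-- a part of the choice of the part of the table -/
noncomputable def selTN963 (j : ℕ) : ℕ := (Bool.rec (motive := fun _ => ℕ) rl1595 rl1596 (Nat.ble 1596 j))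

/-- a part of the choice of the part of the table -/
noncomputable def selTN964 (j : ℕ) : ℕ := (Bool.rec (motive := fun _ => ℕ) (selTN962 j) (Bool.rec (motive := fun _ => ℕ) (selTN963 j) rl1597 (Nat.ble 1597 j)) (Nat.ble 1595 j))

/-- a part of the choice of the part of the table -/
noncomputable def selTN965 (j : ℕ) : ℕ := (Bool.rec (motive := fun _ => ℕ) rl1598 rl1599 (Nat.ble 1599 j))

/-- a part of the choice of the part of the table -/
noncomputable def selTN966 (j : ℕ) : ℕ := (Bool.rec (motive := fun _ => ℕ) rl1600 rl1601 (Nat.ble 1601 j))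

/-- a part of the choice of the part of the table -/
noncomputable def selTN967 (j : ℕ) : ℕ := (Bool.rec (motive := fun _ => ℕ) (selTN965 j) (Bool.rec (motive := fun _ => ℕ) (selTN966 j) rl1602 (Nat.ble 1602 j)) (Nat.ble 1600 j))

/-- a part of the choice of the part of the table -/
noncomputable def selTN968 (j : ℕ) : ℕ := (Bool.rec (motive := fun _ => ℕ) rl1603 rl1604 (Nat.ble 1604 j))

/-- a part of the choice of the part of the table -/
noncomputable def selTN969 (j : ℕ) : ℕ := (Bool.rec (motive := fun _ => ℕ) rl1605 rl1606 (Nat.ble 1606 j))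

/-- a part of the choice of the part of the table -/
noncomputable def selTN970 (j : ℕ) : ℕ := (Bool.rec (motive := fun _ => ℕ) (selTN968 j) (Bool.rec (motive := fun _ => ℕ) (selTN969 j) rl1607 (Nat.ble 1607 j)) (Nat.ble 1605 j))

/-- a part of the choice of the part of the table -/
noncomputable def selTN971 (j : ℕ) : ℕ := (Bool.rec (motive := fun _ => ℕ) (Bool.rec (motive := fun _ => ℕ) rl1608 rl1609 (Nat.ble 1609 j)) (Bool.rec (motive := fun _ => ℕ) rl1610 rl1611 (Nat.ble 1611 j)) (Nat.ble 1610 j))

/-- a part of the choice of the part of the table -/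
noncomputable def selTN972 (j : ℕ) : ℕ := (Bool.rec (motive := fun _ => ℕ) (Bool.rec (motive := fun _ => ℕ) (selTN964 j) (selTN967 j) (Nat.ble 1598 j)) (Bool.rec (motive := fun _ => ℕ) (selTN970 j) (selTN971 j) (Nat.ble 1608 j)) (Nat.ble 1603 j))

/-- a part of the choice of the part of the table -/
noncomputable def selTN973 (j : ℕ) : ℕ := (Bool.rec (motive := fun _ => ℕ) rl1612 rl1613 (Nat.ble 1613 j))

/-- a part of the choice of the part of the table -/
noncomputable def selTN974 (j : ℕ) : ℕ := (Bool.rec (motive := fun _ => ℕ) rl1614 rl1615 (Nat.ble 1615 j))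

/-- a part of the choice of the part of the table -/
noncomputable def selTN975 (j : ℕ) : ℕ := (Bool.rec (motive := fun _ => ℕ) (selTN973 j) (Bool.rec (motive := fun _ => ℕ) (selTN974 j) rl1616 (Nat.ble 1616 j)) (Nat.ble 1614 j))

/-- a part of the choice of the part of the table -/
noncomputable def selTN976 (j : ℕ) : ℕ := (Bool.rec (motive := fun _ => ℕ) rl1617 rl1618 (Nat.ble 1618 j))

/-- a part of the choice of the part of the table -/
noncomputable def selTN977 (j : ℕ) : ℕ := (Bool.rec (motive := fun _ => ℕ) rl1619 rl1620 (Nat.ble 1620 j))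

/-- a part of the choice of the part of the table -/
noncomputable def selTN978 (j : ℕ) : ℕ := (Bool.rec (motive := fun _ => ℕ) (selTN976 j) (Bool.rec (motive := fun _ => ℕ) (selTN977 j) rl1621 (Nat.ble 1621 j)) (Nat.ble 1619 j))

/-- a part of the choice of the part of the table -/
noncomputable def selTN979 (j : ℕ) : ℕ := (Bool.rec (motive := fun _ => ℕ) rl1622 rl1623 (Nat.ble 1623 j))

/-- a part of the choice of the part of the table -/
noncomputable def selTN980 (j : ℕ) : ℕ := (Bool.rec (motive := fun _ => ℕ) rl1624 rl1625 (Nat.ble 1625 j))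

/-- a part of the choice of the part of the table -/
noncomputable def selTN981 (j : ℕ) : ℕ := (Bool.rec (motive := fun _ => ℕ) (selTN979 j) (Bool.rec (motive := fun _ => ℕ) (selTN980 j) rl1626 (Nat.ble 1626 j)) (Nat.ble 1624 j))

/-- a part of the choice of the part of the table -/
noncomputable def selTN982 (j : ℕ) : ℕ := (Bool.rec (motive := fun _ => ℕ) (Bool.rec (motive := fun _ => ℕ) rl1627 rl1628 (Nat.ble 1628 j)) (Bool.rec (motive := fun _ => ℕ) rl1629 rl1630 (Nat.ble 1630 j)) (Nat.ble 1629 j))

/-- a part of the choice of the part of the table -/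
noncomputable def selTN983 (j : ℕ) : ℕ := (Bool.rec (motive := fun _ => ℕ) (Bool.rec (motive := fun _ => ℕ) (selTN975 j) (selTN978 j) (Nat.ble 1617 j)) (Bool.rec (motive := fun _ => ℕ) (selTN981 j) (selTN982 j) (Nat.ble 1627 j)) (Nat.ble 1622 j))

/-- a part of the choice of the part of the table -/
noncomputable def selTN984 (j : ℕ) : ℕ := (Bool.rec (motive := fun _ => ℕ) rl1631 rl1632 (Nat.ble 1632 j))

/-- a part of the choice of the part of the table -/
noncomputable def selTN985 (j : ℕ) : ℕ := (Bool.rec (motive := fun _ => ℕ) rl1633 rl1634 (Nat.ble 1634 j))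

/-- a part of the choice of the part of the table -/
noncomputable def selTN986 (j : ℕ) : ℕ := (Bool.rec (motive := fun _ => ℕ) (selTN984 j) (Bool.rec (motive := fun _ => ℕ) (selTN985 j) rl1635 (Nat.ble 1635 j)) (Nat.ble 1633 j))

/-- a part of the choice of the part of the table -/
noncomputable def selTN987 (j : ℕ) : ℕ := (Bool.rec (motive := fun _ => ℕ) rl1636 rl1637 (Nat.ble 1637 j))

/-- a part of the choice of the part of the table -/
noncomputable def selTN988 (j : ℕ) : ℕ := (Bool.rec (motive := fun _ => ℕ) rl1638 rl1639 (Nat.ble 1639 j))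

/-- a part of the choice of the part of the table -/
noncomputable def selTN989 (j : ℕ) : ℕ := (Bool.rec (motive := fun _ => ℕ) (selTN987 j) (Bool.rec (motive := fun _ => ℕ) (selTN988 j) rl1640 (Nat.ble 1640 j)) (Nat.ble 1638 j))

/-- a part of the choice of the part of the table -/
noncomputable def selTN990 (j : ℕ) : ℕ := (Bool.rec (motive := fun _ => ℕ) rl1641 rl1642 (Nat.ble 1642 j))

/-- a part of the choice of the part of the table -/
noncomputable def selTN991 (j : ℕ) : ℕ := (Bool.rec (motive := fun _ => ℕ) rl1643 rl1644 (Nat.ble 1644 j))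

/-- a part of the choice of the part of the table -/
noncomputable def selTN992 (j : ℕ) : ℕ := (Bool.rec (motive := fun _ => ℕ) (selTN990 j) (Bool.rec (motive := fun _ => ℕ) (selTN991 j) rl1645 (Nat.ble 1645 j)) (Nat.ble 1643 j))

/-- a part of the choice of the part of the table -/
noncomputable def selTN993 (j : ℕ) : ℕ := (Bool.rec (motive := fun _ => ℕ) rl1646 (Bool.rec (motive := fun _ => ℕ) rl1647 rl1648 (Nat.ble 1648 j)) (Nat.ble 1647 j))

/-- a part of the choice of the part of the table -/
noncomputable def selTN994 (j : ℕ) : ℕ := (Bool.rec (motive := fun _ => ℕ) (Bool.rec (motive := fun _ => ℕ) (selTN986 j) (selTN989 j) (Nat.ble 1636 j)) (Bool.rec (motive := fun _ => ℕ) (selTN992 j) (selTN993 j) (Nat.ble 1646 j)) (Nat.ble 1641 j))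

/-- a part of the choice of the part of the table -/
noncomputable def selTN995 (j : ℕ) : ℕ := (Bool.rec (motive := fun _ => ℕ) (Bool.rec (motive := fun _ => ℕ) (selTN961 j) (selTN972 j) (Nat.ble 1593 j)) (Bool.rec (motive := fun _ => ℕ) (selTN983 j) (selTN994 j) (Nat.ble 1631 j)) (Nat.ble 1612 j))

/-- a part of the choice of the part of the table -/
noncomputable def selTN996 (j : ℕ) : ℕ := (Bool.rec (motive := fun _ => ℕ) rl1649 rl1650 (Nat.ble 1650 j))

/-- a part of the choice of the part of the table -/
noncomputable def selTN997 (j : ℕ) : ℕ := (Bool.rec (motive := fun _ => ℕ) rl1651 rl1652 (Nat.ble 1652 j))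

/-- a part of the choice of the part of the table -/
noncomputable def selTN998 (j : ℕ) : ℕ := (Bool.rec (motive := fun _ => ℕ) (selTN996 j) (Bool.rec (motive := fun _ => ℕ) (selTN997 j) rl1653 (Nat.ble 1653 j)) (Nat.ble 1651 j))

/-- a part of the choice of the part of the table -/
noncomputable def selTN999 (j : ℕ) : ℕ := (Bool.rec (motive := fun _ => ℕ) rl1654 rl1655 (Nat.ble 1655 j))

/-- a part of the choice of the part of the table -/
noncomputable def selTN1000 (j : ℕ) : ℕ := (Bool.rec (motive := fun _ => ℕ) rl1656 rl1657 (Nat.ble 1657 j))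

/-- a part of the choice of the part of the table -/
noncomputable def selTN1001 (j : ℕ) : ℕ := (Bool.rec (motive := fun _ => ℕ) (selTN999 j) (Bool.rec (motive := fun _ => ℕ) (selTN1000 j) rl1658 (Nat.ble 1658 j)) (Nat.ble 1656 j))

/-- a part of the choice of the part of the table -/
noncomputable def selTN1002 (j : ℕ) : ℕ := (Bool.rec (motive := fun _ => ℕ) rl1659 rl1660 (Nat.ble 1660 j))

/-- a part of the choice of the part of the table -/
noncomputable def selTN1003 (j : ℕ) : ℕ := (Bool.rec (motive := fun _ => ℕ) rl1661 rl1662 (Nat.ble 1662 j))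

/-- a part of the choice of the part of the table -/
noncomputable def selTN1004 (j : ℕ) : ℕ := (Bool.rec (motive := fun _ => ℕ) (selTN1002 j) (Bool.rec (motive := fun _ => ℕ) (selTN1003 j) rl1663 (Nat.ble 1663 j)) (Nat.ble 1661 j))

/-- a part of the choice of the part of the table -/
noncomputable def selTN1005 (j : ℕ) : ℕ := (Bool.rec (motive := fun _ => ℕ) (Bool.rec (motive := fun _ => ℕ) rl1664 rl1665 (Nat.ble 1665 j)) (Bool.rec (motive := fun _ => ℕ) rl1666 rl1667 (Nat.ble 1667 j)) (Nat.ble 1666 j))

/-- a part of the choice of the part of the table -/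
noncomputable def selTN1006 (j : ℕ) : ℕ := (Bool.rec (motive := fun _ => ℕ) (Bool.rec (motive := fun _ => ℕ) (selTN998 j) (selTN1001 j) (Nat.ble 1654 j)) (Bool.rec (motive := fun _ => ℕ) (selTN1004 j) (selTN1005 j) (Nat.ble 1664 j)) (Nat.ble 1659 j))

/-- a part of the choice of the part of the table -/
noncomputable def selTN1007 (j : ℕ) : ℕ := (Bool.rec (motive := fun _ => ℕ) rl1668 rl1669 (Nat.ble 1669 j))

/-- a part of the choice of the part of the table -/
noncomputable def selTN1008 (j : ℕ) : ℕ := (Bool.rec (motive := fun _ => ℕ) rl1670 rl1671 (Nat.ble 1671 j))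

/-- a part of the choice of the part of the table -/
noncomputable def selTN1009 (j : ℕ) : ℕ := (Bool.rec (motive := fun _ => ℕ) (selTN1007 j) (Bool.rec (motive := fun _ => ℕ) (selTN1008 j) rl1672 (Nat.ble 1672 j)) (Nat.ble 1670 j))

/-- a part of the choice of the part of the table -/
noncomputable def selTN1010 (j : ℕ) : ℕ := (Bool.rec (motive := fun _ => ℕ) rl1673 rl1674 (Nat.ble 1674 j))

/-- a part of the choice of the part of the table -/
noncomputable def selTN1011 (j : ℕ) : ℕ := (Bool.rec (motive := fun _ => ℕ) rl1675 rl1676 (Nat.ble 1676 j))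

/-- a part of the choice of the part of the table -/
noncomputable def selTN1012 (j : ℕ) : ℕ := (Bool.rec (motive := fun _ => ℕ) (selTN1010 j) (Bool.rec (motive := fun _ => ℕ) (selTN1011 j) rl1677 (Nat.ble 1677 j)) (Nat.ble 1675 j))

/-- a part of the choice of the part of the table -/
noncomputable def selTN1013 (j : ℕ) : ℕ := (Bool.rec (motive := fun _ => ℕ) rl1678 rl1679 (Nat.ble 1679 j))

/-- a part of the choice of the part of the table -/
noncomputable def selTN1014 (j : ℕ) : ℕ := (Bool.rec (motive := fun _ => ℕ) rl1680 rl1681 (Nat.ble 1681 j))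

/-- a part of the choice of the part of the table -/
noncomputable def selTN1015 (j : ℕ) : ℕ := (Bool.rec (motive := fun _ => ℕ) (selTN1013 j) (Bool.rec (motive := fun _ => ℕ) (selTN1014 j) rl1682 (Nat.ble 1682 j)) (Nat.ble 1680 j))

/-- a part of the choice of the part of the table -/
noncomputable def selTN1016 (j : ℕ) : ℕ := (Bool.rec (motive := fun _ => ℕ) (Bool.rec (motive := fun _ => ℕ) rl1683 rl1684 (Nat.ble 1684 j)) (Bool.rec (motive := fun _ => ℕ) rl1685 rl1686 (Nat.ble 1686 j)) (Nat.ble 1685 j))

/-- a part of the choice of the part of the table -/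
noncomputable def selTN1017 (j : ℕ) : ℕ := (Bool.rec (motive := fun _ => ℕ) (Bool.rec (motive := fun _ => ℕ) (selTN1009 j) (selTN1012 j) (Nat.ble 1673 j)) (Bool.rec (motive := fun _ => ℕ) (selTN1015 j) (selTN1016 j) (Nat.ble 1683 j)) (Nat.ble 1678 j))

/-- a part of the choice of the part of the table -/
noncomputable def selTN1018 (j : ℕ) : ℕ := (Bool.rec (motive := fun _ => ℕ) rl1687 rl1688 (Nat.ble 1688 j))

/-- a part of the choice of the part of the table -/
noncomputable def selTN1019 (j : ℕ) : ℕ := (Bool.rec (motive := fun _ => ℕ) rl1689 rl1690 (Nat.ble 1690 j))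

/-- a part of the choice of the part of the table -/
noncomputable def selTN1020 (j : ℕ) : ℕ := (Bool.rec (motive := fun _ => ℕ) (selTN1018 j) (Bool.rec (motive := fun _ => ℕ) (selTN1019 j) rl1691 (Nat.ble 1691 j)) (Nat.ble 1689 j))

/-- a part of the choice of the part of the table -/
noncomputable def selTN1021 (j : ℕ) : ℕ := (Bool.rec (motive := fun _ => ℕ) rl1692 rl1693 (Nat.ble 1693 j))

/-- a part of the choice of the part of the table -/
noncomputable def selTN1022 (j : ℕ) : ℕ := (Bool.rec (motive := fun _ => ℕ) rl1694 rl1695 (Nat.ble 1695 j))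

/-- a part of the choice of the part of the table -/
noncomputable def selTN1023 (j : ℕ) : ℕ := (Bool.rec (motive := fun _ => ℕ) (selTN1021 j) (Bool.rec (motive := fun _ => ℕ) (selTN1022 j) rl1696 (Nat.ble 1696 j)) (Nat.ble 1694 j))

/-- a part of the choice of the part of the table -/
noncomputable def selTN1024 (j : ℕ) : ℕ := (Bool.rec (motive := fun _ => ℕ) rl1697 rl1698 (Nat.ble 1698 j))

/-- a part of the choice of the part of the table -/
noncomputable def selTN1025 (j : ℕ) : ℕ := (Bool.rec (motive := fun _ => ℕ) rl1699 rl1700 (Nat.ble 1700 j))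

/-- a part of the choice of the part of the table -/
noncomputable def selTN1026 (j : ℕ) : ℕ := (Bool.rec (motive := fun _ => ℕ) (selTN1024 j) (Bool.rec (motive := fun _ => ℕ) (selTN1025 j) rl1701 (Nat.ble 1701 j)) (Nat.ble 1699 j))

/-- a part of the choice of the part of the table -/
noncomputable def selTN1027 (j : ℕ) : ℕ := (Bool.rec (motive := fun _ => ℕ) (Bool.rec (motive := fun _ => ℕ) rl1702 rl1703 (Nat.ble 1703 j)) (Bool.rec (motive := fun _ => ℕ) rl1704 rl1705 (Nat.ble 1705 j)) (Nat.ble 1704 j))

/-- a part of the choice of the part of the table -/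
noncomputable def selTN1028 (j : ℕ) : ℕ := (Bool.rec (motive := fun _ => ℕ) (Bool.rec (motive := fun _ => ℕ) (selTN1020 j) (selTN1023 j) (Nat.ble 1692 j)) (Bool.rec (motive := fun _ => ℕ) (selTN1026 j) (selTN1027 j) (Nat.ble 1702 j)) (Nat.ble 1697 j))

/-- a part of the choice of the part of the table -/
noncomputable def selTN1029 (j : ℕ) : ℕ := (Bool.rec (motive := fun _ => ℕ) rl1706 rl1707 (Nat.ble 1707 j))

/-- a part of the choice of the part of the table -/
noncomputable def selTN1030 (j : ℕ) : ℕ := (Bool.rec (motive := fun _ => ℕ) rl1708 rl1709 (Nat.ble 1709 j))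

/-- a part of the choice of the part of the table -/
noncomputable def selTN1031 (j : ℕ) : ℕ := (Bool.rec (motive := fun _ => ℕ) (selTN1029 j) (Bool.rec (motive := fun _ => ℕ) (selTN1030 j) rl1710 (Nat.ble 1710 j)) (Nat.ble 1708 j))

/-- a part of the choice of the part of the table -/
noncomputable def selTN1032 (j : ℕ) : ℕ := (Bool.rec (motive := fun _ => ℕ) rl1711 rl1712 (Nat.ble 1712 j))

/-- a part of the choice of the part of the table -/
noncomputable def selTN1033 (j : ℕ) : ℕ := (Bool.rec (motive := fun _ => ℕ) rl1713 rl1714 (Nat.ble 1714 j))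

/-- a part of the choice of the part of the table -/
noncomputable def selTN1034 (j : ℕ) : ℕ := (Bool.rec (motive := fun _ => ℕ) (selTN1032 j) (Bool.rec (motive := fun _ => ℕ) (selTN1033 j) rl1715 (Nat.ble 1715 j)) (Nat.ble 1713 j))

/-- a part of the choice of the part of the table -/
noncomputable def selTN1035 (j : ℕ) : ℕ := (Bool.rec (motive := fun _ => ℕ) rl1716 rl1717 (Nat.ble 1717 j))

/-- a part of the choice of the part of the table -/
noncomputable def selTN1036 (j : ℕ) : ℕ := (Bool.rec (motive := fun _ => ℕ) rl1718 rl1719 (Nat.ble 1719 j))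

/-- a part of the choice of the part of the table -/
noncomputable def selTN1037 (j : ℕ) : ℕ := (Bool.rec (motive := fun _ => ℕ) (selTN1035 j) (Bool.rec (motive := fun _ => ℕ) (selTN1036 j) rl1720 (Nat.ble 1720 j)) (Nat.ble 1718 j))

/-- a part of the choice of the part of the table -/
noncomputable def selTN1038 (j : ℕ) : ℕ := (Bool.rec (motive := fun _ => ℕ) rl1721 (Bool.rec (motive := fun _ => ℕ) rl1722 rl1723 (Nat.ble 1723 j)) (Nat.ble 1722 j))

/-- a part of the choice of the part of the table -/
noncomputable def selTN1039 (j : ℕ) : ℕ := (Bool.rec (motive := fun _ => ℕ) (Bool.rec (motive := fun _ => ℕ) (selTN1031 j) (selTN1034 j) (Nat.ble 1711 j)) (Bool.rec (motive := fun _ => ℕ) (selTN1037 j) (selTN1038 j) (Nat.ble 1721 j)) (Nat.ble 1716 j))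

/-- a part of the choice of the part of the table -/
noncomputable def selTN1040 (j : ℕ) : ℕ := (Bool.rec (motive := fun _ => ℕ) (Bool.rec (motive := fun _ => ℕ) (selTN1006 j) (selTN1017 j) (Nat.ble 1668 j)) (Bool.rec (motive := fun _ => ℕ) (selTN1028 j) (selTN1039 j) (Nat.ble 1706 j)) (Nat.ble 1687 j))

/-- a part of the choice of the part of the table -/
noncomputable def selTN1041 (j : ℕ) : ℕ := (Bool.rec (motive := fun _ => ℕ) rl1724 rl1725 (Nat.ble 1725 j))

/-- a part of the choice of the part of the table -/
noncomputable def selTN1042 (j : ℕ) : ℕ := (Bool.rec (motive := fun _ => ℕ) rl1726 rl1727 (Nat.ble 1727 j))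

/-- a part of the choice of the part of the table -/
noncomputable def selTN1043 (j : ℕ) : ℕ := (Bool.rec (motive := fun _ => ℕ) (selTN1041 j) (Bool.rec (motive := fun _ => ℕ) (selTN1042 j) rl1728 (Nat.ble 1728 j)) (Nat.ble 1726 j))

/-- a part of the choice of the part of the table -/
noncomputable def selTN1044 (j : ℕ) : ℕ := (Bool.rec (motive := fun _ => ℕ) rl1729 rl1730 (Nat.ble 1730 j))

/-- a part of the choice of the part of the table -/
noncomputable def selTN1045 (j : ℕ) : ℕ := (Bool.rec (motive := fun _ => ℕ) rl1731 rl1732 (Nat.ble 1732 j))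

/-- a part of the choice of the part of the table -/
noncomputable def selTN1046 (j : ℕ) : ℕ := (Bool.rec (motive := fun _ => ℕ) (selTN1044 j) (Bool.rec (motive := fun _ => ℕ) (selTN1045 j) rl1733 (Nat.ble 1733 j)) (Nat.ble 1731 j))

/-- a part of the choice of the part of the table -/
noncomputable def selTN1047 (j : ℕ) : ℕ := (Bool.rec (motive := fun _ => ℕ) rl1734 rl1735 (Nat.ble 1735 j))

/-- a part of the choice of the part of the table -/
noncomputable def selTN1048 (j : ℕ) : ℕ := (Bool.rec (motive := fun _ => ℕ) rl1736 rl1737 (Nat.ble 1737 j))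

/-- a part of the choice of the part of the table -/
noncomputable def selTN1049 (j : ℕ) : ℕ := (Bool.rec (motive := fun _ => ℕ) (selTN1047 j) (Bool.rec (motive := fun _ => ℕ) (selTN1048 j) rl1738 (Nat.ble 1738 j)) (Nat.ble 1736 j))

/-- a part of the choice of the part of the table -/
noncomputable def selTN1050 (j : ℕ) : ℕ := (Bool.rec (motive := fun _ => ℕ) (Bool.rec (motive := fun _ => ℕ) rl1739 rl1740 (Nat.ble 1740 j)) (Bool.rec (motive := fun _ => ℕ) rl1741 rl1742 (Nat.ble 1742 j)) (Nat.ble 1741 j))

/-- a part of the choice of the part of the table -/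
noncomputable def selTN1051 (j : ℕ) : ℕ := (Bool.rec (motive := fun _ => ℕ) (Bool.rec (motive := fun _ => ℕ) (selTN1043 j) (selTN1046 j) (Nat.ble 1729 j)) (Bool.rec (motive := fun _ => ℕ) (selTN1049 j) (selTN1050 j) (Nat.ble 1739 j)) (Nat.ble 1734 j))

/-- a part of the choice of the part of the table -/
noncomputable def selTN1052 (j : ℕ) : ℕ := (Bool.rec (motive := fun _ => ℕ) rl1743 rl1744 (Nat.ble 1744 j))

/-- a part of the choice of the part of the table -/
noncomputable def selTN1053 (j : ℕ) : ℕ := (Bool.rec (motive := fun _ => ℕ) rl1745 rl1746 (Nat.ble 1746 j))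

/-- a part of the choice of the part of the table -/
noncomputable def selTN1054 (j : ℕ) : ℕ := (Bool.rec (motive := fun _ => ℕ) (selTN1052 j) (Bool.rec (motive := fun _ => ℕ) (selTN1053 j) rl1747 (Nat.ble 1747 j)) (Nat.ble 1745 j))

/-- a part of the choice of the part of the table -/
noncomputable def selTN1055 (j : ℕ) : ℕ := (Bool.rec (motive := fun _ => ℕ) rl1748 rl1749 (Nat.ble 1749 j))

/-- a part of the choice of the part of the table -/
noncomputable def selTN1056 (j : ℕ) : ℕ := (Bool.rec (motive := fun _ => ℕ) rl1750 rl1751 (Nat.ble 1751 j))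

/-- a part of the choice of the part of the table -/
noncomputable def selTN1057 (j : ℕ) : ℕ := (Bool.rec (motive := fun _ => ℕ) (selTN1055 j) (Bool.rec (motive := fun _ => ℕ) (selTN1056 j) rl1752 (Nat.ble 1752 j)) (Nat.ble 1750 j))

/-- a part of the choice of the part of the table -/
noncomputable def selTN1058 (j : ℕ) : ℕ := (Bool.rec (motive := fun _ => ℕ) rl1753 rl1754 (Nat.ble 1754 j))

/-- a part of the choice of the part of the table -/
noncomputable def selTN1059 (j : ℕ) : ℕ := (Bool.rec (motive := fun _ => ℕ) rl1755 rl1756 (Nat.ble 1756 j))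

/-- a part of the choice of the part of the table -/
noncomputable def selTN1060 (j : ℕ) : ℕ := (Bool.rec (motive := fun _ => ℕ) (selTN1058 j) (Bool.rec (motive := fun _ => ℕ) (selTN1059 j) rl1757 (Nat.ble 1757 j)) (Nat.ble 1755 j))

/-- a part of the choice of the part of the table -/
noncomputable def selTN1061 (j : ℕ) : ℕ := (Bool.rec (motive := fun _ => ℕ) (Bool.rec (motive := fun _ => ℕ) rl1758 rl1759 (Nat.ble 1759 j)) (Bool.rec (motive := fun _ => ℕ) rl1760 rl1761 (Nat.ble 1761 j)) (Nat.ble 1760 j))

/-- a part of the choice of the part of the table -/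
noncomputable def selTN1062 (j : ℕ) : ℕ := (Bool.rec (motive := fun _ => ℕ) (Bool.rec (motive := fun _ => ℕ) (selTN1054 j) (selTN1057 j) (Nat.ble 1748 j)) (Bool.rec (motive := fun _ => ℕ) (selTN1060 j) (selTN1061 j) (Nat.ble 1758 j)) (Nat.ble 1753 j))

/-- a part of the choice of the part of the table -/
noncomputable def selTN1063 (j : ℕ) : ℕ := (Bool.rec (motive := fun _ => ℕ) rl1762 rl1763 (Nat.ble 1763 j))

/-- a part of the choice of the part of the table -/
noncomputable def selTN1064 (j : ℕ) : ℕ := (Bool.rec (motive := fun _ => ℕ) rl1764 rl1765 (Nat.ble 1765 j))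

/-- a part of the choice of the part of the table -/
noncomputable def selTN1065 (j : ℕ) : ℕ := (Bool.rec (motive := fun _ => ℕ) (selTN1063 j) (Bool.rec (motive := fun _ => ℕ) (selTN1064 j) rl1766 (Nat.ble 1766 j)) (Nat.ble 1764 j))

/-- a part of the choice of the part of the table -/
noncomputable def selTN1066 (j : ℕ) : ℕ := (Bool.rec (motive := fun _ => ℕ) rl1767 rl1768 (Nat.ble 1768 j))

/-- a part of the choice of the part of the table -/
noncomputable def selTN1067 (j : ℕ) : ℕ := (Bool.rec (motive := fun _ => ℕ) rl1769 rl1770 (Nat.ble 1770 j))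

/-- a part of the choice of the part of the table -/
noncomputable def selTN1068 (j : ℕ) : ℕ := (Bool.rec (motive := fun _ => ℕ) (selTN1066 j) (Bool.rec (motive := fun _ => ℕ) (selTN1067 j) rl1771 (Nat.ble 1771 j)) (Nat.ble 1769 j))

/-- a part of the choice of the part of the table -/
noncomputable def selTN1069 (j : ℕ) : ℕ := (Bool.rec (motive := fun _ => ℕ) rl1772 rl1773 (Nat.ble 1773 j))

/-- a part of the choice of the part of the table -/
noncomputable def selTN1070 (j : ℕ) : ℕ := (Bool.rec (motive := fun _ => ℕ) rl1774 rl1775 (Nat.ble 1775 j))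

/-- a part of the choice of the part of the table -/
noncomputable def selTN1071 (j : ℕ) : ℕ := (Bool.rec (motive := fun _ => ℕ) (selTN1069 j) (Bool.rec (motive := fun _ => ℕ) (selTN1070 j) rl1776 (Nat.ble 1776 j)) (Nat.ble 1774 j))

/-- a part of the choice of the part of the table -/
noncomputable def selTN1072 (j : ℕ) : ℕ := (Bool.rec (motive := fun _ => ℕ) (Bool.rec (motive := fun _ => ℕ) rl1777 rl1778 (Nat.ble 1778 j)) (Bool.rec (motive := fun _ => ℕ) rl1779 rl1780 (Nat.ble 1780 j)) (Nat.ble 1779 j))

/-- a part of the choice of the part of the table -/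
noncomputable def selTN1073 (j : ℕ) : ℕ := (Bool.rec (motive := fun _ => ℕ) (Bool.rec (motive := fun _ => ℕ) (selTN1065 j) (selTN1068 j) (Nat.ble 1767 j)) (Bool.rec (motive := fun _ => ℕ) (selTN1071 j) (selTN1072 j) (Nat.ble 1777 j)) (Nat.ble 1772 j))

/-- a part of the choice of the part of the table -/
noncomputable def selTN1074 (j : ℕ) : ℕ := (Bool.rec (motive := fun _ => ℕ) rl1781 rl1782 (Nat.ble 1782 j))

/-- a part of the choice of the part of the table -/
noncomputable def selTN1075 (j : ℕ) : ℕ := (Bool.rec (motive := fun _ => ℕ) rl1783 rl1784 (Nat.ble 1784 j))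

/-- a part of the choice of the part of the table -/
noncomputable def selTN1076 (j : ℕ) : ℕ := (Bool.rec (motive := fun _ => ℕ) (selTN1074 j) (Bool.rec (motive := fun _ => ℕ) (selTN1075 j) rl1785 (Nat.ble 1785 j)) (Nat.ble 1783 j))

/-- a part of the choice of the part of the table -/
noncomputable def selTN1077 (j : ℕ) : ℕ := (Bool.rec (motive := fun _ => ℕ) rl1786 rl1787 (Nat.ble 1787 j))

/-- a part of the choice of the part of the table -/
noncomputable def selTN1078 (j : ℕ) : ℕ := (Bool.rec (motive := fun _ => ℕ) rl1788 rl1789 (Nat.ble 1789 j))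

/-- a part of the choice of the part of the table -/
noncomputable def selTN1079 (j : ℕ) : ℕ := (Bool.rec (motive := fun _ => ℕ) (selTN1077 j) (Bool.rec (motive := fun _ => ℕ) (selTN1078 j) rl1790 (Nat.ble 1790 j)) (Nat.ble 1788 j))

/-- a part of the choice of the part of the table -/
noncomputable def selTN1080 (j : ℕ) : ℕ := (Bool.rec (motive := fun _ => ℕ) rl1791 rl1792 (Nat.ble 1792 j))

/-- a part of the choice of the part of the table -/
noncomputable def selTN1081 (j : ℕ) : ℕ := (Bool.rec (motive := fun _ => ℕ) rl1793 rl1794 (Nat.ble 1794 j))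

/-- a part of the choice of the part of the table -/
noncomputable def selTN1082 (j : ℕ) : ℕ := (Bool.rec (motive := fun _ => ℕ) (selTN1080 j) (Bool.rec (motive := fun _ => ℕ) (selTN1081 j) rl1795 (Nat.ble 1795 j)) (Nat.ble 1793 j))

/-- a part of the choice of the part of the table -/
noncomputable def selTN1083 (j : ℕ) : ℕ := (Bool.rec (motive := fun _ => ℕ) rl1796 (Bool.rec (motive := fun _ => ℕ) rl1797 rl1798 (Nat.ble 1798 j)) (Nat.ble 1797 j))

/-- a part of the choice of the part of the table -/
noncomputable def selTN1084 (j : ℕ) : ℕ := (Bool.rec (motive := fun _ => ℕ) (Bool.rec (motive := fun _ => ℕ) (selTN1076 j) (selTN1079 j) (Nat.ble 1786 j)) (Bool.rec (motive := fun _ => ℕ) (selTN1082 j) (selTN1083 j) (Nat.ble 1796 j)) (Nat.ble 1791 j))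

/-- a part of the choice of the part of the table -/
noncomputable def selTN1085 (j : ℕ) : ℕ := (Bool.rec (motive := fun _ => ℕ) (Bool.rec (motive := fun _ => ℕ) (selTN1051 j) (selTN1062 j) (Nat.ble 1743 j)) (Bool.rec (motive := fun _ => ℕ) (selTN1073 j) (selTN1084 j) (Nat.ble 1781 j)) (Nat.ble 1762 j))

/-- a part of the choice of the part of the table -/
noncomputable def selTN1086 (j : ℕ) : ℕ := (Bool.rec (motive := fun _ => ℕ) (Bool.rec (motive := fun _ => ℕ) (selTN950 j) (selTN995 j) (Nat.ble 1574 j)) (Bool.rec (motive := fun _ => ℕ) (selTN1040 j) (selTN1085 j) (Nat.ble 1724 j)) (Nat.ble 1649 j))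

/-- a part of the choice of the part of the table -/
noncomputable def selTN1087 (j : ℕ) : ℕ := (Bool.rec (motive := fun _ => ℕ) rl1799 rl1800 (Nat.ble 1800 j))

/-- a part of the choice of the part of the table -/
noncomputable def selTN1088 (j : ℕ) : ℕ := (Bool.rec (motive := fun _ => ℕ) rl1801 rl1802 (Nat.ble 1802 j))

/-- a part of the choice of the part of the table -/
noncomputable def selTN1089 (j : ℕ) : ℕ := (Bool.rec (motive := fun _ => ℕ) (selTN1087 j) (Bool.rec (motive := fun _ => ℕ) (selTN1088 j) rl1803 (Nat.ble 1803 j)) (Nat.ble 1801 j))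

/-- a part of the choice of the part of the table -/
noncomputable def selTN1090 (j : ℕ) : ℕ := (Bool.rec (motive := fun _ => ℕ) rl1804 rl1805 (Nat.ble 1805 j))

/-- a part of the choice of the part of the table -/
noncomputable def selTN1091 (j : ℕ) : ℕ := (Bool.rec (motive := fun _ => ℕ) rl1806 rl1807 (Nat.ble 1807 j))

/-- a part of the choice of the part of the table -/
noncomputable def selTN1092 (j : ℕ) : ℕ := (Bool.rec (motive := fun _ => ℕ) (selTN1090 j) (Bool.rec (motive := fun _ => ℕ) (selTN1091 j) rl1808 (Nat.ble 1808 j)) (Nat.ble 1806 j))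

/-- a part of the choice of the part of the table -/
noncomputable def selTN1093 (j : ℕ) : ℕ := (Bool.rec (motive := fun _ => ℕ) rl1809 rl1810 (Nat.ble 1810 j))

/-- a part of the choice of the part of the table -/
noncomputable def selTN1094 (j : ℕ) : ℕ := (Bool.rec (motive := fun _ => ℕ) rl1811 rl1812 (Nat.ble 1812 j))

/-- a part of the choice of the part of the table -/
noncomputable def selTN1095 (j : ℕ) : ℕ := (Bool.rec (motive := fun _ => ℕ) (selTN1093 j) (Bool.rec (motive := fun _ => ℕ) (selTN1094 j) rl1813 (Nat.ble 1813 j)) (Nat.ble 1811 j))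

/-- a part of the choice of the part of the table -/
noncomputable def selTN1096 (j : ℕ) : ℕ := (Bool.rec (motive := fun _ => ℕ) (Bool.rec (motive := fun _ => ℕ) rl1814 rl1815 (Nat.ble 1815 j)) (Bool.rec (motive := fun _ => ℕ) rl1816 rl1817 (Nat.ble 1817 j)) (Nat.ble 1816 j))

/-- a part of the choice of the part of the table -/
noncomputable def selTN1097 (j : ℕ) : ℕ := (Bool.rec (motive := fun _ => ℕ) (Bool.rec (motive := fun _ => ℕ) (selTN1089 j) (selTN1092 j) (Nat.ble 1804 j)) (Bool.rec (motive := fun _ => ℕ) (selTN1095 j) (selTN1096 j) (Nat.ble 1814 j)) (Nat.ble 1809 j))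

/-- a part of the choice of the part of the table -/
noncomputable def selTN1098 (j : ℕ) : ℕ := (Bool.rec (motive := fun _ => ℕ) rl1818 rl1819 (Nat.ble 1819 j))

/-- a part of the choice of the part of the table -/
noncomputable def selTN1099 (j : ℕ) : ℕ := (Bool.rec (motive := fun _ => ℕ) rl1820 rl1821 (Nat.ble 1821 j))

/-- a part of the choice of the part of the table -/
noncomputable def selTN1100 (j : ℕ) : ℕ := (Bool.rec (motive := fun _ => ℕ) (selTN1098 j) (Bool.rec (motive := fun _ => ℕ) (selTN1099 j) rl1822 (Nat.ble 1822 j)) (Nat.ble 1820 j))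

/-- a part of the choice of the part of the table -/
noncomputable def selTN1101 (j : ℕ) : ℕ := (Bool.rec (motive := fun _ => ℕ) rl1823 rl1824 (Nat.ble 1824 j))

/-- a part of the choice of the part of the table -/
noncomputable def selTN1102 (j : ℕ) : ℕ := (Bool.rec (motive := fun _ => ℕ) rl1825 rl1826 (Nat.ble 1826 j))

/-- a part of the choice of the part of the table -/
noncomputable def selTN1103 (j : ℕ) : ℕ := (Bool.rec (motive := fun _ => ℕ) (selTN1101 j) (Bool.rec (motive := fun _ => ℕ) (selTN1102 j) rl1827 (Nat.ble 1827 j)) (Nat.ble 1825 j))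

/-- a part of the choice of the part of the table -/
noncomputable def selTN1104 (j : ℕ) : ℕ := (Bool.rec (motive := fun _ => ℕ) rl1828 rl1829 (Nat.ble 1829 j))

/-- a part of the choice of the part of the table -/
noncomputable def selTN1105 (j : ℕ) : ℕ := (Bool.rec (motive := fun _ => ℕ) rl1830 rl1831 (Nat.ble 1831 j))

/-- a part of the choice of the part of the table -/
noncomputable def selTN1106 (j : ℕ) : ℕ := (Bool.rec (motive := fun _ => ℕ) (selTN1104 j) (Bool.rec (motive := fun _ => ℕ) (selTN1105 j) rl1832 (Nat.ble 1832 j)) (Nat.ble 1830 j))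

/-- a part of the choice of the part of the table -/
noncomputable def selTN1107 (j : ℕ) : ℕ := (Bool.rec (motive := fun _ => ℕ) (Bool.rec (motive := fun _ => ℕ) rl1833 rl1834 (Nat.ble 1834 j)) (Bool.rec (motive := fun _ => ℕ) rl1835 rl1836 (Nat.ble 1836 j)) (Nat.ble 1835 j))

/-- a part of the choice of the part of the table -/
noncomputable def selTN1108 (j : ℕ) : ℕ := (Bool.rec (motive := fun _ => ℕ) (Bool.rec (motive := fun _ => ℕ) (selTN1100 j) (selTN1103 j) (Nat.ble 1823 j)) (Bool.rec (motive := fun _ => ℕ) (selTN1106 j) (selTN1107 j) (Nat.ble 1833 j)) (Nat.ble 1828 j))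

/-- a part of the choice of the part of the table -/
noncomputable def selTN1109 (j : ℕ) : ℕ := (Bool.rec (motive := fun _ => ℕ) rl1837 rl1838 (Nat.ble 1838 j))

/-- a part of the choice of the part of the table -/
noncomputable def selTN1110 (j : ℕ) : ℕ := (Bool.rec (motive := fun _ => ℕ) rl1839 rl1840 (Nat.ble 1840 j))

/-- a part of the choice of the part of the table -/
noncomputable def selTN1111 (j : ℕ) : ℕ := (Bool.rec (motive := fun _ => ℕ) (selTN1109 j) (Bool.rec (motive := fun _ => ℕ) (selTN1110 j) rl1841 (Nat.ble 1841 j)) (Nat.ble 1839 j))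

/-- a part of the choice of the part of the table -/
noncomputable def selTN1112 (j : ℕ) : ℕ := (Bool.rec (motive := fun _ => ℕ) rl1842 rl1843 (Nat.ble 1843 j))

/-- a part of the choice of the part of the table -/
noncomputable def selTN1113 (j : ℕ) : ℕ := (Bool.rec (motive := fun _ => ℕ) rl1844 rl1845 (Nat.ble 1845 j))

/-- a part of the choice of the part of the table -/
noncomputable def selTN1114 (j : ℕ) : ℕ := (Bool.rec (motive := fun _ => ℕ) (selTN1112 j) (Bool.rec (motive := fun _ => ℕ) (selTN1113 j) rl1846 (Nat.ble 1846 j)) (Nat.ble 1844 j))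

/-- a part of the choice of the part of the table -/
noncomputable def selTN1115 (j : ℕ) : ℕ := (Bool.rec (motive := fun _ => ℕ) rl1847 rl1848 (Nat.ble 1848 j))

/-- a part of the choice of the part of the table -/
noncomputable def selTN1116 (j : ℕ) : ℕ := (Bool.rec (motive := fun _ => ℕ) rl1849 rl1850 (Nat.ble 1850 j))

/-- a part of the choice of the part of the table -/
noncomputable def selTN1117 (j : ℕ) : ℕ := (Bool.rec (motive := fun _ => ℕ) (selTN1115 j) (Bool.rec (motive := fun _ => ℕ) (selTN1116 j) rl1851 (Nat.ble 1851 j)) (Nat.ble 1849 j))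

/-- a part of the choice of the part of the table -/
noncomputable def selTN1118 (j : ℕ) : ℕ := (Bool.rec (motive := fun _ => ℕ) (Bool.rec (motive := fun _ => ℕ) rl1852 rl1853 (Nat.ble 1853 j)) (Bool.rec (motive := fun _ => ℕ) rl1854 rl1855 (Nat.ble 1855 j)) (Nat.ble 1854 j))

/-- a part of the choice of the part of the table -/
noncomputable def selTN1119 (j : ℕ) : ℕ := (Bool.rec (motive := fun _ => ℕ) (Bool.rec (motive := fun _ => ℕ) (selTN1111 j) (selTN1114 j) (Nat.ble 1842 j)) (Bool.rec (motive := fun _ => ℕ) (selTN1117 j) (selTN1118 j) (Nat.ble 1852 j)) (Nat.ble 1847 j))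

/-- a part of the choice of the part of the table -/
noncomputable def selTN1120 (j : ℕ) : ℕ := (Bool.rec (motive := fun _ => ℕ) rl1856 rl1857 (Nat.ble 1857 j))

/-- a part of the choice of the part of the table -/
noncomputable def selTN1121 (j : ℕ) : ℕ := (Bool.rec (motive := fun _ => ℕ) rl1858 rl1859 (Nat.ble 1859 j))

/-- a part of the choice of the part of the table -/
noncomputable def selTN1122 (j : ℕ) : ℕ := (Bool.rec (motive := fun _ => ℕ) (selTN1120 j) (Bool.rec (motive := fun _ => ℕ) (selTN1121 j) rl1860 (Nat.ble 1860 j)) (Nat.ble 1858 j))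

/-- a part of the choice of the part of the table -/
noncomputable def selTN1123 (j : ℕ) : ℕ := (Bool.rec (motive := fun _ => ℕ) rl1861 rl1862 (Nat.ble 1862 j))

/-- a part of the choice of the part of the table -/
noncomputable def selTN1124 (j : ℕ) : ℕ := (Bool.rec (motive := fun _ => ℕ) rl1863 rl1864 (Nat.ble 1864 j))

/-- a part of the choice of the part of the table -/
noncomputable def selTN1125 (j : ℕ) : ℕ := (Bool.rec (motive := fun _ => ℕ) (selTN1123 j) (Bool.rec (motive := fun _ => ℕ) (selTN1124 j) rl1865 (Nat.ble 1865 j)) (Nat.ble 1863 j))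

/-- a part of the choice of the part of the table -/
noncomputable def selTN1126 (j : ℕ) : ℕ := (Bool.rec (motive := fun _ => ℕ) rl1866 rl1867 (Nat.ble 1867 j))

/-- a part of the choice of the part of the table -/
noncomputable def selTN1127 (j : ℕ) : ℕ := (Bool.rec (motive := fun _ => ℕ) rl1868 rl1869 (Nat.ble 1869 j))

/-- a part of the choice of the part of the table -/
noncomputable def selTN1128 (j : ℕ) : ℕ := (Bool.rec (motive := fun _ => ℕ) (selTN1126 j) (Bool.rec (motive := fun _ => ℕ) (selTN1127 j) rl1870 (Nat.ble 1870 j)) (Nat.ble 1868 j))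

/-- a part of the choice of the part of the table -/
noncomputable def selTN1129 (j : ℕ) : ℕ := (Bool.rec (motive := fun _ => ℕ) rl1871 (Bool.rec (motive := fun _ => ℕ) rl1872 rl1873 (Nat.ble 1873 j)) (Nat.ble 1872 j))

/-- a part of the choice of the part of the table -/
noncomputable def selTN1130 (j : ℕ) : ℕ := (Bool.rec (motive := fun _ => ℕ) (Bool.rec (motive := fun _ => ℕ) (selTN1122 j) (selTN1125 j) (Nat.ble 1861 j)) (Bool.rec (motive := fun _ => ℕ) (selTN1128 j) (selTN1129 j) (Nat.ble 1871 j)) (Nat.ble 1866 j))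

/-- a part of the choice of the part of the table -/
noncomputable def selTN1131 (j : ℕ) : ℕ := (Bool.rec (motive := fun _ => ℕ) (Bool.rec (motive := fun _ => ℕ) (selTN1097 j) (selTN1108 j) (Nat.ble 1818 j)) (Bool.rec (motive := fun _ => ℕ) (selTN1119 j) (selTN1130 j) (Nat.ble 1856 j)) (Nat.ble 1837 j))

/-- a part of the choice of the part of the table -/
noncomputable def selTN1132 (j : ℕ) : ℕ := (Bool.rec (motive := fun _ => ℕ) rl1874 rl1875 (Nat.ble 1875 j))

/-- a part of the choice of the part of the table -/
noncomputable def selTN1133 (j : ℕ) : ℕ := (Bool.rec (motive := fun _ => ℕ) rl1876 rl1877 (Nat.ble 1877 j))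

/-- a part of the choice of the part of the table -/
noncomputable def selTN1134 (j : ℕ) : ℕ := (Bool.rec (motive := fun _ => ℕ) (selTN1132 j) (Bool.rec (motive := fun _ => ℕ) (selTN1133 j) rl1878 (Nat.ble 1878 j)) (Nat.ble 1876 j))

/-- a part of the choice of the part of the table -/
noncomputable def selTN1135 (j : ℕ) : ℕ := (Bool.rec (motive := fun _ => ℕ) rl1879 rl1880 (Nat.ble 1880 j))

/-- a part of the choice of the part of the table -/
noncomputable def selTN1136 (j : ℕ) : ℕ := (Bool.rec (motive := fun _ => ℕ) rl1881 rl1882 (Nat.ble 1882 j))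

/-- a part of the choice of the part of the table -/
noncomputable def selTN1137 (j : ℕ) : ℕ := (Bool.rec (motive := fun _ => ℕ) (selTN1135 j) (Bool.rec (motive := fun _ => ℕ) (selTN1136 j) rl1883 (Nat.ble 1883 j)) (Nat.ble 1881 j))

/-- a part of the choice of the part of the table -/
noncomputable def selTN1138 (j : ℕ) : ℕ := (Bool.rec (motive := fun _ => ℕ) rl1884 rl1885 (Nat.ble 1885 j))

/-- a part of the choice of the part of the table -/
noncomputable def selTN1139 (j : ℕ) : ℕ := (Bool.rec (motive := fun _ => ℕ) rl1886 rl1887 (Nat.ble 1887 j))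

/-- a part of the choice of the part of the table -/
noncomputable def selTN1140 (j : ℕ) : ℕ := (Bool.rec (motive := fun _ => ℕ) (selTN1138 j) (Bool.rec (motive := fun _ => ℕ) (selTN1139 j) rl1888 (Nat.ble 1888 j)) (Nat.ble 1886 j))

/-- a part of the choice of the part of the table -/
noncomputable def selTN1141 (j : ℕ) : ℕ := (Bool.rec (motive := fun _ => ℕ) (Bool.rec (motive := fun _ => ℕ) rl1889 rl1890 (Nat.ble 1890 j)) (Bool.rec (motive := fun _ => ℕ) rl1891 rl1892 (Nat.ble 1892 j)) (Nat.ble 1891 j))

/-- a part of the choice of the part of the table -/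
noncomputable def selTN1142 (j : ℕ) : ℕ := (Bool.rec (motive := fun _ => ℕ) (Bool.rec (motive := fun _ => ℕ) (selTN1134 j) (selTN1137 j) (Nat.ble 1879 j)) (Bool.rec (motive := fun _ => ℕ) (selTN1140 j) (selTN1141 j) (Nat.ble 1889 j)) (Nat.ble 1884 j))

/-- a part of the choice of the part of the table -/
noncomputable def selTN1143 (j : ℕ) : ℕ := (Bool.rec (motive := fun _ => ℕ) rl1893 rl1894 (Nat.ble 1894 j))

/-- a part of the choice of the part of the table -/
noncomputable def selTN1144 (j : ℕ) : ℕ := (Bool.rec (motive := fun _ => ℕ) rl1895 rl1896 (Nat.ble 1896 j))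

/-- a part of the choice of the part of the table -/
noncomputable def selTN1145 (j : ℕ) : ℕ := (Bool.rec (motive := fun _ => ℕ) (selTN1143 j) (Bool.rec (motive := fun _ => ℕ) (selTN1144 j) rl1897 (Nat.ble 1897 j)) (Nat.ble 1895 j))

/-- a part of the choice of the part of the table -/
noncomputable def selTN1146 (j : ℕ) : ℕ := (Bool.rec (motive := fun _ => ℕ) rl1898 rl1899 (Nat.ble 1899 j))

/-- a part of the choice of the part of the table -/
noncomputable def selTN1147 (j : ℕ) : ℕ := (Bool.rec (motive := fun _ => ℕ) rl1900 rl1901 (Nat.ble 1901 j))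

/-- a part of the choice of the part of the table -/
noncomputable def selTN1148 (j : ℕ) : ℕ := (Bool.rec (motive := fun _ => ℕ) (selTN1146 j) (Bool.rec (motive := fun _ => ℕ) (selTN1147 j) rl1902 (Nat.ble 1902 j)) (Nat.ble 1900 j))

/-- a part of the choice of the part of the table -/
noncomputable def selTN1149 (j : ℕ) : ℕ := (Bool.rec (motive := fun _ => ℕ) rl1903 rl1904 (Nat.ble 1904 j))

/-- a part of the choice of the part of the table -/
noncomputable def selTN1150 (j : ℕ) : ℕ := (Bool.rec (motive := fun _ => ℕ) rl1905 rl1906 (Nat.ble 1906 j))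

/-- a part of the choice of the part of the table -/
noncomputable def selTN1151 (j : ℕ) : ℕ := (Bool.rec (motive := fun _ => ℕ) (selTN1149 j) (Bool.rec (motive := fun _ => ℕ) (selTN1150 j) rl1907 (Nat.ble 1907 j)) (Nat.ble 1905 j))

/-- a part of the choice of the part of the table -/
noncomputable def selTN1152 (j : ℕ) : ℕ := (Bool.rec (motive := fun _ => ℕ) (Bool.rec (motive := fun _ => ℕ) rl1908 rl1909 (Nat.ble 1909 j)) (Bool.rec (motive := fun _ => ℕ) rl1910 rl1911 (Nat.ble 1911 j)) (Nat.ble 1910 j))

/-- a part of the choice of the part of the table -/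
noncomputable def selTN1153 (j : ℕ) : ℕ := (Bool.rec (motive := fun _ => ℕ) (Bool.rec (motive := fun _ => ℕ) (selTN1145 j) (selTN1148 j) (Nat.ble 1898 j)) (Bool.rec (motive := fun _ => ℕ) (selTN1151 j) (selTN1152 j) (Nat.ble 1908 j)) (Nat.ble 1903 j))

/-- a part of the choice of the part of the table -/
noncomputable def selTN1154 (j : ℕ) : ℕ := (Bool.rec (motive := fun _ => ℕ) rl1912 rl1913 (Nat.ble 1913 j))

/-- a part of the choice of the part of the table -/
noncomputable def selTN1155 (j : ℕ) : ℕ := (Bool.rec (motive := fun _ => ℕ) rl1914 rl1915 (Nat.ble 1915 j))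

/-- a part of the choice of the part of the table -/
noncomputable def selTN1156 (j : ℕ) : ℕ := (Bool.rec (motive := fun _ => ℕ) (selTN1154 j) (Bool.rec (motive := fun _ => ℕ) (selTN1155 j) rl1916 (Nat.ble 1916 j)) (Nat.ble 1914 j))

/-- a part of the choice of the part of the table -/
noncomputable def selTN1157 (j : ℕ) : ℕ := (Bool.rec (motive := fun _ => ℕ) rl1917 rl1918 (Nat.ble 1918 j))

/-- a part of the choice of the part of the table -/
noncomputable def selTN1158 (j : ℕ) : ℕ := (Bool.rec (motive := fun _ => ℕ) rl1919 rl1920 (Nat.ble 1920 j))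

/-- a part of the choice of the part of the table -/
noncomputable def selTN1159 (j : ℕ) : ℕ := (Bool.rec (motive := fun _ => ℕ) (selTN1157 j) (Bool.rec (motive := fun _ => ℕ) (selTN1158 j) rl1921 (Nat.ble 1921 j)) (Nat.ble 1919 j))

/-- a part of the choice of the part of the table -/
noncomputable def selTN1160 (j : ℕ) : ℕ := (Bool.rec (motive := fun _ => ℕ) rl1922 rl1923 (Nat.ble 1923 j))

/-- a part of the choice of the part of the table -/
noncomputable def selTN1161 (j : ℕ) : ℕ := (Bool.rec (motive := fun _ => ℕ) rl1924 rl1925 (Nat.ble 1925 j))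

/-- a part of the choice of the part of the table -/
noncomputable def selTN1162 (j : ℕ) : ℕ := (Bool.rec (motive := fun _ => ℕ) (selTN1160 j) (Bool.rec (motive := fun _ => ℕ) (selTN1161 j) rl1926 (Nat.ble 1926 j)) (Nat.ble 1924 j))

/-- a part of the choice of the part of the table -/
noncomputable def selTN1163 (j : ℕ) : ℕ := (Bool.rec (motive := fun _ => ℕ) (Bool.rec (motive := fun _ => ℕ) rl1927 rl1928 (Nat.ble 1928 j)) (Bool.rec (motive := fun _ => ℕ) rl1929 rl1930 (Nat.ble 1930 j)) (Nat.ble 1929 j))

/-- a part of the choice of the part of the table -/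
noncomputable def selTN1164 (j : ℕ) : ℕ := (Bool.rec (motive := fun _ => ℕ) (Bool.rec (motive := fun _ => ℕ) (selTN1156 j) (selTN1159 j) (Nat.ble 1917 j)) (Bool.rec (motive := fun _ => ℕ) (selTN1162 j) (selTN1163 j) (Nat.ble 1927 j)) (Nat.ble 1922 j))

/-- a part of the choice of the part of the table -/
noncomputable def selTN1165 (j : ℕ) : ℕ := (Bool.rec (motive := fun _ => ℕ) rl1931 rl1932 (Nat.ble 1932 j))

/-- a part of the choice of the part of the table -/
noncomputable def selTN1166 (j : ℕ) : ℕ := (Bool.rec (motive := fun _ => ℕ) rl1933 rl1934 (Nat.ble 1934 j))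

/-- a part of the choice of the part of the table -/
noncomputable def selTN1167 (j : ℕ) : ℕ := (Bool.rec (motive := fun _ => ℕ) (selTN1165 j) (Bool.rec (motive := fun _ => ℕ) (selTN1166 j) rl1935 (Nat.ble 1935 j)) (Nat.ble 1933 j))

/-- a part of the choice of the part of the table -/
noncomputable def selTN1168 (j : ℕ) : ℕ := (Bool.rec (motive := fun _ => ℕ) rl1936 rl1937 (Nat.ble 1937 j))

/-- a part of the choice of the part of the table -/
noncomputable def selTN1169 (j : ℕ) : ℕ := (Bool.rec (motive := fun _ => ℕ) rl1938 rl1939 (Nat.ble 1939 j))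

/-- a part of the choice of the part of the table -/
noncomputable def selTN1170 (j : ℕ) : ℕ := (Bool.rec (motive := fun _ => ℕ) (selTN1168 j) (Bool.rec (motive := fun _ => ℕ) (selTN1169 j) rl1940 (Nat.ble 1940 j)) (Nat.ble 1938 j))

/-- a part of the choice of the part of the table -/
noncomputable def selTN1171 (j : ℕ) : ℕ := (Bool.rec (motive := fun _ => ℕ) rl1941 rl1942 (Nat.ble 1942 j))

/-- a part of the choice of the part of the table -/
noncomputable def selTN1172 (j : ℕ) : ℕ := (Bool.rec (motive := fun _ => ℕ) rl1943 rl1944 (Nat.ble 1944 j))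

/-- a part of the choice of the part of the table -/
noncomputable def selTN1173 (j : ℕ) : ℕ := (Bool.rec (motive := fun _ => ℕ) (selTN1171 j) (Bool.rec (motive := fun _ => ℕ) (selTN1172 j) rl1945 (Nat.ble 1945 j)) (Nat.ble 1943 j))

/-- a part of the choice of the part of the table -/
noncomputable def selTN1174 (j : ℕ) : ℕ := (Bool.rec (motive := fun _ => ℕ) rl1946 (Bool.rec (motive := fun _ => ℕ) rl1947 rl1948 (Nat.ble 1948 j)) (Nat.ble 1947 j))

/-- a part of the choice of the part of the table -/
noncomputable def selTN1175 (j : ℕ) : ℕ := (Bool.rec (motive := fun _ => ℕ) (Bool.rec (motive := fun _ => ℕ) (selTN1167 j) (selTN1170 j) (Nat.ble 1936 j)) (Bool.rec (motive := fun _ => ℕ) (selTN1173 j) (selTN1174 j) (Nat.ble 1946 j)) (Nat.ble 1941 j))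

/-- a part of the choice of the part of the table -/
noncomputable def selTN1176 (j : ℕ) : ℕ := (Bool.rec (motive := fun _ => ℕ) (Bool.rec (motive := fun _ => ℕ) (selTN1142 j) (selTN1153 j) (Nat.ble 1893 j)) (Bool.rec (motive := fun _ => ℕ) (selTN1164 j) (selTN1175 j) (Nat.ble 1931 j)) (Nat.ble 1912 j))

/-- a part of the choice of the part of the table -/
noncomputable def selTN1177 (j : ℕ) : ℕ := (Bool.rec (motive := fun _ => ℕ) rl1949 rl1950 (Nat.ble 1950 j))

/-- a part of the choice of the part of the table -/
noncomputable def selTN1178 (j : ℕ) : ℕ := (Bool.rec (motive := fun _ => ℕ) rl1951 rl1952 (Nat.ble 1952 j))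

/-- a part of the choice of the part of the table -/
noncomputable def selTN1179 (j : ℕ) : ℕ := (Bool.rec (motive := fun _ => ℕ) (selTN1177 j) (Bool.rec (motive := fun _ => ℕ) (selTN1178 j) rl1953 (Nat.ble 1953 j)) (Nat.ble 1951 j))

/-- a part of the choice of the part of the table -/
noncomputable def selTN1180 (j : ℕ) : ℕ := (Bool.rec (motive := fun _ => ℕ) rl1954 rl1955 (Nat.ble 1955 j))

/-- a part of the choice of the part of the table -/
noncomputable def selTN1181 (j : ℕ) : ℕ := (Bool.rec (motive := fun _ => ℕ) rl1956 rl1957 (Nat.ble 1957 j))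

/-- a part of the choice of the part of the table -/
noncomputable def selTN1182 (j : ℕ) : ℕ := (Bool.rec (motive := fun _ => ℕ) (selTN1180 j) (Bool.rec (motive := fun _ => ℕ) (selTN1181 j) rl1958 (Nat.ble 1958 j)) (Nat.ble 1956 j))

/-- a part of the choice of the part of the table -/
noncomputable def selTN1183 (j : ℕ) : ℕ := (Bool.rec (motive := fun _ => ℕ) rl1959 rl1960 (Nat.ble 1960 j))

/-- a part of the choice of the part of the table -/
noncomputable def selTN1184 (j : ℕ) : ℕ := (Bool.rec (motive := fun _ => ℕ) rl1961 rl1962 (Nat.ble 1962 j))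

/-- a part of the choice of the part of the table -/
noncomputable def selTN1185 (j : ℕ) : ℕ := (Bool.rec (motive := fun _ => ℕ) (selTN1183 j) (Bool.rec (motive := fun _ => ℕ) (selTN1184 j) rl1963 (Nat.ble 1963 j)) (Nat.ble 1961 j))

/-- a part of the choice of the part of the table -/
noncomputable def selTN1186 (j : ℕ) : ℕ := (Bool.rec (motive := fun _ => ℕ) (Bool.rec (motive := fun _ => ℕ) rl1964 rl1965 (Nat.ble 1965 j)) (Bool.rec (motive := fun _ => ℕ) rl1966 rl1967 (Nat.ble 1967 j)) (Nat.ble 1966 j))

/-- a part of the choice of the part of the table -/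
noncomputable def selTN1187 (j : ℕ) : ℕ := (Bool.rec (motive := fun _ => ℕ) (Bool.rec (motive := fun _ => ℕ) (selTN1179 j) (selTN1182 j) (Nat.ble 1954 j)) (Bool.rec (motive := fun _ => ℕ) (selTN1185 j) (selTN1186 j) (Nat.ble 1964 j)) (Nat.ble 1959 j))

/-- a part of the choice of the part of the table -/
noncomputable def selTN1188 (j : ℕ) : ℕ := (Bool.rec (motive := fun _ => ℕ) rl1968 rl1969 (Nat.ble 1969 j))

/-- a part of the choice of the part of the table -/
noncomputable def selTN1189 (j : ℕ) : ℕ := (Bool.rec (motive := fun _ => ℕ) rl1970 rl1971 (Nat.ble 1971 j))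

/-- a part of the choice of the part of the table -/
noncomputable def selTN1190 (j : ℕ) : ℕ := (Bool.rec (motive := fun _ => ℕ) (selTN1188 j) (Bool.rec (motive := fun _ => ℕ) (selTN1189 j) rl1972 (Nat.ble 1972 j)) (Nat.ble 1970 j))

/-- a part of the choice of the part of the table -/
noncomputable def selTN1191 (j : ℕ) : ℕ := (Bool.rec (motive := fun _ => ℕ) rl1973 rl1974 (Nat.ble 1974 j))

/-- a part of the choice of the part of the table -/
noncomputable def selTN1192 (j : ℕ) : ℕ := (Bool.rec (motive := fun _ => ℕ) rl1975 rl1976 (Nat.ble 1976 j))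

/-- a part of the choice of the part of the table -/
noncomputable def selTN1193 (j : ℕ) : ℕ := (Bool.rec (motive := fun _ => ℕ) (selTN1191 j) (Bool.rec (motive := fun _ => ℕ) (selTN1192 j) rl1977 (Nat.ble 1977 j)) (Nat.ble 1975 j))

/-- a part of the choice of the part of the table -/
noncomputable def selTN1194 (j : ℕ) : ℕ := (Bool.rec (motive := fun _ => ℕ) rl1978 rl1979 (Nat.ble 1979 j))

/-- a part of the choice of the part of the table -/
noncomputable def selTN1195 (j : ℕ) : ℕ := (Bool.rec (motive := fun _ => ℕ) rl1980 rl1981 (Nat.ble 1981 j))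

/-- a part of the choice of the part of the table -/
noncomputable def selTN1196 (j : ℕ) : ℕ := (Bool.rec (motive := fun _ => ℕ) (selTN1194 j) (Bool.rec (motive := fun _ => ℕ) (selTN1195 j) rl1982 (Nat.ble 1982 j)) (Nat.ble 1980 j))

/-- a part of the choice of the part of the table -/
noncomputable def selTN1197 (j : ℕ) : ℕ := (Bool.rec (motive := fun _ => ℕ) (Bool.rec (motive := fun _ => ℕ) rl1983 rl1984 (Nat.ble 1984 j)) (Bool.rec (motive := fun _ => ℕ) rl1985 rl1986 (Nat.ble 1986 j)) (Nat.ble 1985 j))

/-- a part of the choice of the part of the table -/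
noncomputable def selTN1198 (j : ℕ) : ℕ := (Bool.rec (motive := fun _ => ℕ) (Bool.rec (motive := fun _ => ℕ) (selTN1190 j) (selTN1193 j) (Nat.ble 1973 j)) (Bool.rec (motive := fun _ => ℕ) (selTN1196 j) (selTN1197 j) (Nat.ble 1983 j)) (Nat.ble 1978 j))

/-- a part of the choice of the part of the table -/
noncomputable def selTN1199 (j : ℕ) : ℕ := (Bool.rec (motive := fun _ => ℕ) rl1987 rl1988 (Nat.ble 1988 j))

/-- a part of the choice of the part of the table -/
noncomputable def selTN1200 (j : ℕ) : ℕ := (Bool.rec (motive := fun _ => ℕ) rl1989 rl1990 (Nat.ble 1990 j))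

/-- a part of the choice of the part of the table -/
noncomputable def selTN1201 (j : ℕ) : ℕ := (Bool.rec (motive := fun _ => ℕ) (selTN1199 j) (Bool.rec (motive := fun _ => ℕ) (selTN1200 j) rl1991 (Nat.ble 1991 j)) (Nat.ble 1989 j))

/-- a part of the choice of the part of the table -/
noncomputable def selTN1202 (j : ℕ) : ℕ := (Bool.rec (motive := fun _ => ℕ) rl1992 rl1993 (Nat.ble 1993 j))

/-- a part of the choice of the part of the table -/
noncomputable def selTN1203 (j : ℕ) : ℕ := (Bool.rec (motive := fun _ => ℕ) rl1994 rl1995 (Nat.ble 1995 j))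

/-- a part of the choice of the part of the table -/
noncomputable def selTN1204 (j : ℕ) : ℕ := (Bool.rec (motive := fun _ => ℕ) (selTN1202 j) (Bool.rec (motive := fun _ => ℕ) (selTN1203 j) rl1996 (Nat.ble 1996 j)) (Nat.ble 1994 j))

/-- a part of the choice of the part of the table -/
noncomputable def selTN1205 (j : ℕ) : ℕ := (Bool.rec (motive := fun _ => ℕ) rl1997 rl1998 (Nat.ble 1998 j))

/-- a part of the choice of the part of the table -/
noncomputable def selTN1206 (j : ℕ) : ℕ := (Bool.rec (motive := fun _ => ℕ) rl1999 rl2000 (Nat.ble 2000 j))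

/-- a part of the choice of the part of the table -/
noncomputable def selTN1207 (j : ℕ) : ℕ := (Bool.rec (motive := fun _ => ℕ) (selTN1205 j) (Bool.rec (motive := fun _ => ℕ) (selTN1206 j) rl2001 (Nat.ble 2001 j)) (Nat.ble 1999 j))

/-- a part of the choice of the part of the table -/
noncomputable def selTN1208 (j : ℕ) : ℕ := (Bool.rec (motive := fun _ => ℕ) (Bool.rec (motive := fun _ => ℕ) rl2002 rl2003 (Nat.ble 2003 j)) (Bool.rec (motive := fun _ => ℕ) rl2004 rl2005 (Nat.ble 2005 j)) (Nat.ble 2004 j))

/-- a part of the choice of the part of the table -/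
noncomputable def selTN1209 (j : ℕ) : ℕ := (Bool.rec (motive := fun _ => ℕ) (Bool.rec (motive := fun _ => ℕ) (selTN1201 j) (selTN1204 j) (Nat.ble 1992 j)) (Bool.rec (motive := fun _ => ℕ) (selTN1207 j) (selTN1208 j) (Nat.ble 2002 j)) (Nat.ble 1997 j))

/-- a part of the choice of the part of the table -/
noncomputable def selTN1210 (j : ℕ) : ℕ := (Bool.rec (motive := fun _ => ℕ) rl2006 rl2007 (Nat.ble 2007 j))

/-- a part of the choice of the part of the table -/
noncomputable def selTN1211 (j : ℕ) : ℕ := (Bool.rec (motive := fun _ => ℕ) rl2008 rl2009 (Nat.ble 2009 j))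

/-- a part of the choice of the part of the table -/
noncomputable def selTN1212 (j : ℕ) : ℕ := (Bool.rec (motive := fun _ => ℕ) (selTN1210 j) (Bool.rec (motive := fun _ => ℕ) (selTN1211 j) rl2010 (Nat.ble 2010 j)) (Nat.ble 2008 j))

/-- a part of the choice of the part of the table -/
noncomputable def selTN1213 (j : ℕ) : ℕ := (Bool.rec (motive := fun _ => ℕ) rl2011 rl2012 (Nat.ble 2012 j))

/-- a part of the choice of the part of the table -/
noncomputable def selTN1214 (j : ℕ) : ℕ := (Bool.rec (motive := fun _ => ℕ) rl2013 rl2014 (Nat.ble 2014 j))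

/-- a part of the choice of the part of the table -/
noncomputable def selTN1215 (j : ℕ) : ℕ := (Bool.rec (motive := fun _ => ℕ) (selTN1213 j) (Bool.rec (motive := fun _ => ℕ) (selTN1214 j) rl2015 (Nat.ble 2015 j)) (Nat.ble 2013 j))

/-- a part of the choice of the part of the table -/
noncomputable def selTN1216 (j : ℕ) : ℕ := (Bool.rec (motive := fun _ => ℕ) rl2016 rl2017 (Nat.ble 2017 j))

/-- a part of the choice of the part of the table -/
noncomputable def selTN1217 (j : ℕ) : ℕ := (Bool.rec (motive := fun _ => ℕ) rl2018 rl2019 (Nat.ble 2019 j))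

/-- a part of the choice of the part of the table -/
noncomputable def selTN1218 (j : ℕ) : ℕ := (Bool.rec (motive := fun _ => ℕ) (selTN1216 j) (Bool.rec (motive := fun _ => ℕ) (selTN1217 j) rl2020 (Nat.ble 2020 j)) (Nat.ble 2018 j))

/-- a part of the choice of the part of the table -/
noncomputable def selTN1219 (j : ℕ) : ℕ := (Bool.rec (motive := fun _ => ℕ) rl2021 (Bool.rec (motive := fun _ => ℕ) rl2022 rl2023 (Nat.ble 2023 j)) (Nat.ble 2022 j))

/-- a part of the choice of the part of the table -/
noncomputable def selTN1220 (j : ℕ) : ℕ := (Bool.rec (motive := fun _ => ℕ) (Bool.rec (motive := fun _ => ℕ) (selTN1212 j) (selTN1215 j) (Nat.ble 2011 j)) (Bool.rec (motive := fun _ => ℕ) (selTN1218 j) (selTN1219 j) (Nat.ble 2021 j)) (Nat.ble 2016 j))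

/-- a part of the choice of the part of the table -/
noncomputable def selTN1221 (j : ℕ) : ℕ := (Bool.rec (motive := fun _ => ℕ) (Bool.rec (motive := fun _ => ℕ) (selTN1187 j) (selTN1198 j) (Nat.ble 1968 j)) (Bool.rec (motive := fun _ => ℕ) (selTN1209 j) (selTN1220 j) (Nat.ble 2006 j)) (Nat.ble 1987 j))

/-- a part of the choice of the part of the table -/
noncomputable def selTN1222 (j : ℕ) : ℕ := (Bool.rec (motive := fun _ => ℕ) rl2024 rl2025 (Nat.ble 2025 j))

/-- a part of the choice of the part of the table -/
noncomputable def selTN1223 (j : ℕ) : ℕ := (Bool.rec (motive := fun _ => ℕ) rl2026 rl2027 (Nat.ble 2027 j))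

/-- a part of the choice of the part of the table -/
noncomputable def selTN1224 (j : ℕ) : ℕ := (Bool.rec (motive := fun _ => ℕ) (selTN1222 j) (Bool.rec (motive := fun _ => ℕ) (selTN1223 j) rl2028 (Nat.ble 2028 j)) (Nat.ble 2026 j))

/-- a part of the choice of the part of the table -/
noncomputable def selTN1225 (j : ℕ) : ℕ := (Bool.rec (motive := fun _ => ℕ) rl2029 rl2030 (Nat.ble 2030 j))

/-- a part of the choice of the part of the table -/
noncomputable def selTN1226 (j : ℕ) : ℕ := (Bool.rec (motive := fun _ => ℕ) rl2031 rl2032 (Nat.ble 2032 j))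

/-- a part of the choice of the part of the table -/
noncomputable def selTN1227 (j : ℕ) : ℕ := (Bool.rec (motive := fun _ => ℕ) (selTN1225 j) (Bool.rec (motive := fun _ => ℕ) (selTN1226 j) rl2033 (Nat.ble 2033 j)) (Nat.ble 2031 j))

/-- a part of the choice of the part of the table -/
noncomputable def selTN1228 (j : ℕ) : ℕ := (Bool.rec (motive := fun _ => ℕ) rl2034 rl2035 (Nat.ble 2035 j))

/-- a part of the choice of the part of the table -/
noncomputable def selTN1229 (j : ℕ) : ℕ := (Bool.rec (motive := fun _ => ℕ) rl2036 rl2037 (Nat.ble 2037 j))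

/-- a part of the choice of the part of the table -/
noncomputable def selTN1230 (j : ℕ) : ℕ := (Bool.rec (motive := fun _ => ℕ) (selTN1228 j) (Bool.rec (motive := fun _ => ℕ) (selTN1229 j) rl2038 (Nat.ble 2038 j)) (Nat.ble 2036 j))

/-- a part of the choice of the part of the table -/
noncomputable def selTN1231 (j : ℕ) : ℕ := (Bool.rec (motive := fun _ => ℕ) (Bool.rec (motive := fun _ => ℕ) rl2039 rl2040 (Nat.ble 2040 j)) (Bool.rec (motive := fun _ => ℕ) rl2041 rl2042 (Nat.ble 2042 j)) (Nat.ble 2041 j))

/-- a part of the choice of the part of the table -/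
noncomputable def selTN1232 (j : ℕ) : ℕ := (Bool.rec (motive := fun _ => ℕ) (Bool.rec (motive := fun _ => ℕ) (selTN1224 j) (selTN1227 j) (Nat.ble 2029 j)) (Bool.rec (motive := fun _ => ℕ) (selTN1230 j) (selTN1231 j) (Nat.ble 2039 j)) (Nat.ble 2034 j))

/-- a part of the choice of the part of the table -/
noncomputable def selTN1233 (j : ℕ) : ℕ := (Bool.rec (motive := fun _ => ℕ) rl2043 rl2044 (Nat.ble 2044 j))

/-- a part of the choice of the part of the table -/
noncomputable def selTN1234 (j : ℕ) : ℕ := (Bool.rec (motive := fun _ => ℕ) rl2045 rl2046 (Nat.ble 2046 j))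

/-- a part of the choice of the part of the table -/
noncomputable def selTN1235 (j : ℕ) : ℕ := (Bool.rec (motive := fun _ => ℕ) (selTN1233 j) (Bool.rec (motive := fun _ => ℕ) (selTN1234 j) rl2047 (Nat.ble 2047 j)) (Nat.ble 2045 j))

/-- a part of the choice of the part of the table -/
noncomputable def selTN1236 (j : ℕ) : ℕ := (Bool.rec (motive := fun _ => ℕ) rl2048 rl2049 (Nat.ble 2049 j))

/-- a part of the choice of the part of the table -/
noncomputable def selTN1237 (j : ℕ) : ℕ := (Bool.rec (motive := fun _ => ℕ) rl2050 rl2051 (Nat.ble 2051 j))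

/-- a part of the choice of the part of the table -/
noncomputable def selTN1238 (j : ℕ) : ℕ := (Bool.rec (motive := fun _ => ℕ) (selTN1236 j) (Bool.rec (motive := fun _ => ℕ) (selTN1237 j) rl2052 (Nat.ble 2052 j)) (Nat.ble 2050 j))

/-- a part of the choice of the part of the table -/
noncomputable def selTN1239 (j : ℕ) : ℕ := (Bool.rec (motive := fun _ => ℕ) rl2053 rl2054 (Nat.ble 2054 j))

/-- a part of the choice of the part of the table -/
noncomputable def selTN1240 (j : ℕ) : ℕ := (Bool.rec (motive := fun _ => ℕ) rl2055 rl2056 (Nat.ble 2056 j))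

/-- a part of the choice of the part of the table -/
noncomputable def selTN1241 (j : ℕ) : ℕ := (Bool.rec (motive := fun _ => ℕ) (selTN1239 j) (Bool.rec (motive := fun _ => ℕ) (selTN1240 j) rl2057 (Nat.ble 2057 j)) (Nat.ble 2055 j))

/-- a part of the choice of the part of the table -/
noncomputable def selTN1242 (j : ℕ) : ℕ := (Bool.rec (motive := fun _ => ℕ) (Bool.rec (motive := fun _ => ℕ) rl2058 rl2059 (Nat.ble 2059 j)) (Bool.rec (motive := fun _ => ℕ) rl2060 rl2061 (Nat.ble 2061 j)) (Nat.ble 2060 j))

/-- a part of the choice of the part of the table -/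
noncomputable def selTN1243 (j : ℕ) : ℕ := (Bool.rec (motive := fun _ => ℕ) (Bool.rec (motive := fun _ => ℕ) (selTN1235 j) (selTN1238 j) (Nat.ble 2048 j)) (Bool.rec (motive := fun _ => ℕ) (selTN1241 j) (selTN1242 j) (Nat.ble 2058 j)) (Nat.ble 2053 j))

/-- a part of the choice of the part of the table -/
noncomputable def selTN1244 (j : ℕ) : ℕ := (Bool.rec (motive := fun _ => ℕ) rl2062 rl2063 (Nat.ble 2063 j))

/-- a part of the choice of the part of the table -/
noncomputable def selTN1245 (j : ℕ) : ℕ := (Bool.rec (motive := fun _ => ℕ) rl2064 rl2065 (Nat.ble 2065 j))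

/-- a part of the choice of the part of the table -/
noncomputable def selTN1246 (j : ℕ) : ℕ := (Bool.rec (motive := fun _ => ℕ) (selTN1244 j) (Bool.rec (motive := fun _ => ℕ) (selTN1245 j) rl2066 (Nat.ble 2066 j)) (Nat.ble 2064 j))

/-- a part of the choice of the part of the table -/
noncomputable def selTN1247 (j : ℕ) : ℕ := (Bool.rec (motive := fun _ => ℕ) rl2067 rl2068 (Nat.ble 2068 j))

/-- a part of the choice of the part of the table -/
noncomputable def selTN1248 (j : ℕ) : ℕ := (Bool.rec (motive := fun _ => ℕ) rl2069 rl2070 (Nat.ble 2070 j))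

/-- a part of the choice of the part of the table -/
noncomputable def selTN1249 (j : ℕ) : ℕ := (Bool.rec (motive := fun _ => ℕ) (selTN1247 j) (Bool.rec (motive := fun _ => ℕ) (selTN1248 j) rl2071 (Nat.ble 2071 j)) (Nat.ble 2069 j))

/-- a part of the choice of the part of the table -/
noncomputable def selTN1250 (j : ℕ) : ℕ := (Bool.rec (motive := fun _ => ℕ) rl2072 rl2073 (Nat.ble 2073 j))

/-- a part of the choice of the part of the table -/
noncomputable def selTN1251 (j : ℕ) : ℕ := (Bool.rec (motive := fun _ => ℕ) rl2074 rl2075 (Nat.ble 2075 j))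

/-- a part of the choice of the part of the table -/
noncomputable def selTN1252 (j : ℕ) : ℕ := (Bool.rec (motive := fun _ => ℕ) (selTN1250 j) (Bool.rec (motive := fun _ => ℕ) (selTN1251 j) rl2076 (Nat.ble 2076 j)) (Nat.ble 2074 j))

/-- a part of the choice of the part of the table -/
noncomputable def selTN1253 (j : ℕ) : ℕ := (Bool.rec (motive := fun _ => ℕ) (Bool.rec (motive := fun _ => ℕ) rl2077 rl2078 (Nat.ble 2078 j)) (Bool.rec (motive := fun _ => ℕ) rl2079 rl2080 (Nat.ble 2080 j)) (Nat.ble 2079 j))

/-- a part of the choice of the part of the table -/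
noncomputable def selTN1254 (j : ℕ) : ℕ := (Bool.rec (motive := fun _ => ℕ) (Bool.rec (motive := fun _ => ℕ) (selTN1246 j) (selTN1249 j) (Nat.ble 2067 j)) (Bool.rec (motive := fun _ => ℕ) (selTN1252 j) (selTN1253 j) (Nat.ble 2077 j)) (Nat.ble 2072 j))

/-- a part of the choice of the part of the table -/
noncomputable def selTN1255 (j : ℕ) : ℕ := (Bool.rec (motive := fun _ => ℕ) rl2081 rl2082 (Nat.ble 2082 j))

/-- a part of the choice of the part of the table -/
noncomputable def selTN1256 (j : ℕ) : ℕ := (Bool.rec (motive := fun _ => ℕ) rl2083 rl2084 (Nat.ble 2084 j))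

/-- a part of the choice of the part of the table -/
noncomputable def selTN1257 (j : ℕ) : ℕ := (Bool.rec (motive := fun _ => ℕ) (selTN1255 j) (Bool.rec (motive := fun _ => ℕ) (selTN1256 j) rl2085 (Nat.ble 2085 j)) (Nat.ble 2083 j))

/-- a part of the choice of the part of the table -/
noncomputable def selTN1258 (j : ℕ) : ℕ := (Bool.rec (motive := fun _ => ℕ) rl2086 rl2087 (Nat.ble 2087 j))

/-- a part of the choice of the part of the table -/
noncomputable def selTN1259 (j : ℕ) : ℕ := (Bool.rec (motive := fun _ => ℕ) rl2088 rl2089 (Nat.ble 2089 j))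

/-- a part of the choice of the part of the table -/
noncomputable def selTN1260 (j : ℕ) : ℕ := (Bool.rec (motive := fun _ => ℕ) (selTN1258 j) (Bool.rec (motive := fun _ => ℕ) (selTN1259 j) rl2090 (Nat.ble 2090 j)) (Nat.ble 2088 j))

/-- a part of the choice of the part of the table -/
noncomputable def selTN1261 (j : ℕ) : ℕ := (Bool.rec (motive := fun _ => ℕ) rl2091 rl2092 (Nat.ble 2092 j))

/-- a part of the choice of the part of the table -/
noncomputable def selTN1262 (j : ℕ) : ℕ := (Bool.rec (motive := fun _ => ℕ) rl2093 rl2094 (Nat.ble 2094 j))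

/-- a part of the choice of the part of the table -/
noncomputable def selTN1263 (j : ℕ) : ℕ := (Bool.rec (motive := fun _ => ℕ) (selTN1261 j) (Bool.rec (motive := fun _ => ℕ) (selTN1262 j) rl2095 (Nat.ble 2095 j)) (Nat.ble 2093 j))

/-- a part of the choice of the part of the table -/
noncomputable def selTN1264 (j : ℕ) : ℕ := (Bool.rec (motive := fun _ => ℕ) rl2096 (Bool.rec (motive := fun _ => ℕ) rl2097 rl2098 (Nat.ble 2098 j)) (Nat.ble 2097 j))

/-- a part of the choice of the part of the table -/
noncomputable def selTN1265 (j : ℕ) : ℕ := (Bool.rec (motive := fun _ => ℕ) (Bool.rec (motive := fun _ => ℕ) (selTN1257 j) (selTN1260 j) (Nat.ble 2086 j)) (Bool.rec (motive := fun _ => ℕ) (selTN1263 j) (selTN1264 j) (Nat.ble 2096 j)) (Nat.ble 2091 j))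

/-- a part of the choice of the part of the table -/
noncomputable def selTN1266 (j : ℕ) : ℕ := (Bool.rec (motive := fun _ => ℕ) (Bool.rec (motive := fun _ => ℕ) (selTN1232 j) (selTN1243 j) (Nat.ble 2043 j)) (Bool.rec (motive := fun _ => ℕ) (selTN1254 j) (selTN1265 j) (Nat.ble 2081 j)) (Nat.ble 2062 j))

/-- a part of the choice of the part of the table -/
noncomputable def selTN1267 (j : ℕ) : ℕ := (Bool.rec (motive := fun _ => ℕ) (Bool.rec (motive := fun _ => ℕ) (selTN1131 j) (selTN1176 j) (Nat.ble 1874 j)) (Bool.rec (motive := fun _ => ℕ) (selTN1221 j) (selTN1266 j) (Nat.ble 2024 j)) (Nat.ble 1949 j))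

/-- a part of the choice of the part of the table -/
noncomputable def selTN1268 (j : ℕ) : ℕ := (Bool.rec (motive := fun _ => ℕ) rl2099 rl2100 (Nat.ble 2100 j))

/-- a part of the choice of the part of the table -/
noncomputable def selTN1269 (j : ℕ) : ℕ := (Bool.rec (motive := fun _ => ℕ) rl2101 rl2102 (Nat.ble 2102 j))

/-- a part of the choice of the part of the table -/
noncomputable def selTN1270 (j : ℕ) : ℕ := (Bool.rec (motive := fun _ => ℕ) (selTN1268 j) (Bool.rec (motive := fun _ => ℕ) (selTN1269 j) rl2103 (Nat.ble 2103 j)) (Nat.ble 2101 j))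

/-- a part of the choice of the part of the table -/
noncomputable def selTN1271 (j : ℕ) : ℕ := (Bool.rec (motive := fun _ => ℕ) rl2104 rl2105 (Nat.ble 2105 j))

/-- a part of the choice of the part of the table -/
noncomputable def selTN1272 (j : ℕ) : ℕ := (Bool.rec (motive := fun _ => ℕ) rl2106 rl2107 (Nat.ble 2107 j))

/-- a part of the choice of the part of the table -/
noncomputable def selTN1273 (j : ℕ) : ℕ := (Bool.rec (motive := fun _ => ℕ) (selTN1271 j) (Bool.rec (motive := fun _ => ℕ) (selTN1272 j) rl2108 (Nat.ble 2108 j)) (Nat.ble 2106 j))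

/-- a part of the choice of the part of the table -/
noncomputable def selTN1274 (j : ℕ) : ℕ := (Bool.rec (motive := fun _ => ℕ) rl2109 rl2110 (Nat.ble 2110 j))

/-- a part of the choice of the part of the table -/
noncomputable def selTN1275 (j : ℕ) : ℕ := (Bool.rec (motive := fun _ => ℕ) rl2111 rl2112 (Nat.ble 2112 j))

/-- a part of the choice of the part of the table -/
noncomputable def selTN1276 (j : ℕ) : ℕ := (Bool.rec (motive := fun _ => ℕ) (selTN1274 j) (Bool.rec (motive := fun _ => ℕ) (selTN1275 j) rl2113 (Nat.ble 2113 j)) (Nat.ble 2111 j))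

/-- a part of the choice of the part of the table -/
noncomputable def selTN1277 (j : ℕ) : ℕ := (Bool.rec (motive := fun _ => ℕ) (Bool.rec (motive := fun _ => ℕ) rl2114 rl2115 (Nat.ble 2115 j)) (Bool.rec (motive := fun _ => ℕ) rl2116 rl2117 (Nat.ble 2117 j)) (Nat.ble 2116 j))

/-- a part of the choice of the part of the table -/
noncomputable def selTN1278 (j : ℕ) : ℕ := (Bool.rec (motive := fun _ => ℕ) (Bool.rec (motive := fun _ => ℕ) (selTN1270 j) (selTN1273 j) (Nat.ble 2104 j)) (Bool.rec (motive := fun _ => ℕ) (selTN1276 j) (selTN1277 j) (Nat.ble 2114 j)) (Nat.ble 2109 j))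

/-- a part of the choice of the part of the table -/
noncomputable def selTN1279 (j : ℕ) : ℕ := (Bool.rec (motive := fun _ => ℕ) rl2118 rl2119 (Nat.ble 2119 j))

/-- a part of the choice of the part of the table -/
noncomputable def selTN1280 (j : ℕ) : ℕ := (Bool.rec (motive := fun _ => ℕ) rl2120 rl2121 (Nat.ble 2121 j))

/-- a part of the choice of the part of the table -/
noncomputable def selTN1281 (j : ℕ) : ℕ := (Bool.rec (motive := fun _ => ℕ) (selTN1279 j) (Bool.rec (motive := fun _ => ℕ) (selTN1280 j) rl2122 (Nat.ble 2122 j)) (Nat.ble 2120 j))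

/-- a part of the choice of the part of the table -/
noncomputable def selTN1282 (j : ℕ) : ℕ := (Bool.rec (motive := fun _ => ℕ) rl2123 rl2124 (Nat.ble 2124 j))

/-- a part of the choice of the part of the table -/
noncomputable def selTN1283 (j : ℕ) : ℕ := (Bool.rec (motive := fun _ => ℕ) rl2125 rl2126 (Nat.ble 2126 j))

/-- a part of the choice of the part of the table -/
noncomputable def selTN1284 (j : ℕ) : ℕ := (Bool.rec (motive := fun _ => ℕ) (selTN1282 j) (Bool.rec (motive := fun _ => ℕ) (selTN1283 j) rl2127 (Nat.ble 2127 j)) (Nat.ble 2125 j))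

/-- a part of the choice of the part of the table -/
noncomputable def selTN1285 (j : ℕ) : ℕ := (Bool.rec (motive := fun _ => ℕ) rl2128 rl2129 (Nat.ble 2129 j))

/-- a part of the choice of the part of the table -/
noncomputable def selTN1286 (j : ℕ) : ℕ := (Bool.rec (motive := fun _ => ℕ) rl2130 rl2131 (Nat.ble 2131 j))

/-- a part of the choice of the part of the table -/
noncomputable def selTN1287 (j : ℕ) : ℕ := (Bool.rec (motive := fun _ => ℕ) (selTN1285 j) (Bool.rec (motive := fun _ => ℕ) (selTN1286 j) rl2132 (Nat.ble 2132 j)) (Nat.ble 2130 j))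

/-- a part of the choice of the part of the table -/
noncomputable def selTN1288 (j : ℕ) : ℕ := (Bool.rec (motive := fun _ => ℕ) (Bool.rec (motive := fun _ => ℕ) rl2133 rl2134 (Nat.ble 2134 j)) (Bool.rec (motive := fun _ => ℕ) rl2135 rl2136 (Nat.ble 2136 j)) (Nat.ble 2135 j))

/-- a part of the choice of the part of the table -/
noncomputable def selTN1289 (j : ℕ) : ℕ := (Bool.rec (motive := fun _ => ℕ) (Bool.rec (motive := fun _ => ℕ) (selTN1281 j) (selTN1284 j) (Nat.ble 2123 j)) (Bool.rec (motive := fun _ => ℕ) (selTN1287 j) (selTN1288 j) (Nat.ble 2133 j)) (Nat.ble 2128 j))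

/-- a part of the choice of the part of the table -/
noncomputable def selTN1290 (j : ℕ) : ℕ := (Bool.rec (motive := fun _ => ℕ) rl2137 rl2138 (Nat.ble 2138 j))

/-- a part of the choice of the part of the table -/
noncomputable def selTN1291 (j : ℕ) : ℕ := (Bool.rec (motive := fun _ => ℕ) rl2139 rl2140 (Nat.ble 2140 j))

/-- a part of the choice of the part of the table -/
noncomputable def selTN1292 (j : ℕ) : ℕ := (Bool.rec (motive := fun _ => ℕ) (selTN1290 j) (Bool.rec (motive := fun _ => ℕ) (selTN1291 j) rl2141 (Nat.ble 2141 j)) (Nat.ble 2139 j))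

/-- a part of the choice of the part of the table -/
noncomputable def selTN1293 (j : ℕ) : ℕ := (Bool.rec (motive := fun _ => ℕ) rl2142 rl2143 (Nat.ble 2143 j))

/-- a part of the choice of the part of the table -/
noncomputable def selTN1294 (j : ℕ) : ℕ := (Bool.rec (motive := fun _ => ℕ) rl2144 rl2145 (Nat.ble 2145 j))

/-- a part of the choice of the part of the table -/
noncomputable def selTN1295 (j : ℕ) : ℕ := (Bool.rec (motive := fun _ => ℕ) (selTN1293 j) (Bool.rec (motive := fun _ => ℕ) (selTN1294 j) rl2146 (Nat.ble 2146 j)) (Nat.ble 2144 j))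

/-- a part of the choice of the part of the table -/
noncomputable def selTN1296 (j : ℕ) : ℕ := (Bool.rec (motive := fun _ => ℕ) rl2147 rl2148 (Nat.ble 2148 j))

/-- a part of the choice of the part of the table -/
noncomputable def selTN1297 (j : ℕ) : ℕ := (Bool.rec (motive := fun _ => ℕ) rl2149 rl2150 (Nat.ble 2150 j))

/-- a part of the choice of the part of the table -/
noncomputable def selTN1298 (j : ℕ) : ℕ := (Bool.rec (motive := fun _ => ℕ) (selTN1296 j) (Bool.rec (motive := fun _ => ℕ) (selTN1297 j) rl2151 (Nat.ble 2151 j)) (Nat.ble 2149 j))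

/-- a part of the choice of the part of the table -/
noncomputable def selTN1299 (j : ℕ) : ℕ := (Bool.rec (motive := fun _ => ℕ) (Bool.rec (motive := fun _ => ℕ) rl2152 rl2153 (Nat.ble 2153 j)) (Bool.rec (motive := fun _ => ℕ) rl2154 rl2155 (Nat.ble 2155 j)) (Nat.ble 2154 j))

/-- a part of the choice of the part of the table -/
noncomputable def selTN1300 (j : ℕ) : ℕ := (Bool.rec (motive := fun _ => ℕ) (Bool.rec (motive := fun _ => ℕ) (selTN1292 j) (selTN1295 j) (Nat.ble 2142 j)) (Bool.rec (motive := fun _ => ℕ) (selTN1298 j) (selTN1299 j) (Nat.ble 2152 j)) (Nat.ble 2147 j))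

/-- a part of the choice of the part of the table -/
noncomputable def selTN1301 (j : ℕ) : ℕ := (Bool.rec (motive := fun _ => ℕ) rl2156 rl2157 (Nat.ble 2157 j))

/-- a part of the choice of the part of the table -/
noncomputable def selTN1302 (j : ℕ) : ℕ := (Bool.rec (motive := fun _ => ℕ) rl2158 rl2159 (Nat.ble 2159 j))

/-- a part of the choice of the part of the table -/
noncomputable def selTN1303 (j : ℕ) : ℕ := (Bool.rec (motive := fun _ => ℕ) (selTN1301 j) (Bool.rec (motive := fun _ => ℕ) (selTN1302 j) rl2160 (Nat.ble 2160 j)) (Nat.ble 2158 j))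

/-- a part of the choice of the part of the table -/
noncomputable def selTN1304 (j : ℕ) : ℕ := (Bool.rec (motive := fun _ => ℕ) rl2161 rl2162 (Nat.ble 2162 j))

/-- a part of the choice of the part of the table -/
noncomputable def selTN1305 (j : ℕ) : ℕ := (Bool.rec (motive := fun _ => ℕ) rl2163 rl2164 (Nat.ble 2164 j))

/-- a part of the choice of the part of the table -/
noncomputable def selTN1306 (j : ℕ) : ℕ := (Bool.rec (motive := fun _ => ℕ) (selTN1304 j) (Bool.rec (motive := fun _ => ℕ) (selTN1305 j) rl2165 (Nat.ble 2165 j)) (Nat.ble 2163 j))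

/-- a part of the choice of the part of the table -/
noncomputable def selTN1307 (j : ℕ) : ℕ := (Bool.rec (motive := fun _ => ℕ) rl2166 rl2167 (Nat.ble 2167 j))

/-- a part of the choice of the part of the table -/
noncomputable def selTN1308 (j : ℕ) : ℕ := (Bool.rec (motive := fun _ => ℕ) rl2168 rl2169 (Nat.ble 2169 j))

/-- a part of the choice of the part of the table -/
noncomputable def selTN1309 (j : ℕ) : ℕ := (Bool.rec (motive := fun _ => ℕ) (selTN1307 j) (Bool.rec (motive := fun _ => ℕ) (selTN1308 j) rl2170 (Nat.ble 2170 j)) (Nat.ble 2168 j))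

/-- a part of the choice of the part of the table -/
noncomputable def selTN1310 (j : ℕ) : ℕ := (Bool.rec (motive := fun _ => ℕ) rl2171 (Bool.rec (motive := fun _ => ℕ) rl2172 rl2173 (Nat.ble 2173 j)) (Nat.ble 2172 j))

/-- a part of the choice of the part of the table -/
noncomputable def selTN1311 (j : ℕ) : ℕ := (Bool.rec (motive := fun _ => ℕ) (Bool.rec (motive := fun _ => ℕ) (selTN1303 j) (selTN1306 j) (Nat.ble 2161 j)) (Bool.rec (motive := fun _ => ℕ) (selTN1309 j) (selTN1310 j) (Nat.ble 2171 j)) (Nat.ble 2166 j))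

/-- a part of the choice of the part of the table -/
noncomputable def selTN1312 (j : ℕ) : ℕ := (Bool.rec (motive := fun _ => ℕ) (Bool.rec (motive := fun _ => ℕ) (selTN1278 j) (selTN1289 j) (Nat.ble 2118 j)) (Bool.rec (motive := fun _ => ℕ) (selTN1300 j) (selTN1311 j) (Nat.ble 2156 j)) (Nat.ble 2137 j))

/-- a part of the choice of the part of the table -/
noncomputable def selTN1313 (j : ℕ) : ℕ := (Bool.rec (motive := fun _ => ℕ) rl2174 rl2175 (Nat.ble 2175 j))

/-- a part of the choice of the part of the table -/
noncomputable def selTN1314 (j : ℕ) : ℕ := (Bool.rec (motive := fun _ => ℕ) rl2176 rl2177 (Nat.ble 2177 j))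

/-- a part of the choice of the part of the table -/
noncomputable def selTN1315 (j : ℕ) : ℕ := (Bool.rec (motive := fun _ => ℕ) (selTN1313 j) (Bool.rec (motive := fun _ => ℕ) (selTN1314 j) rl2178 (Nat.ble 2178 j)) (Nat.ble 2176 j))

/-- a part of the choice of the part of the table -/
noncomputable def selTN1316 (j : ℕ) : ℕ := (Bool.rec (motive := fun _ => ℕ) rl2179 rl2180 (Nat.ble 2180 j))

/-- a part of the choice of the part of the table -/
noncomputable def selTN1317 (j : ℕ) : ℕ := (Bool.rec (motive := fun _ => ℕ) rl2181 rl2182 (Nat.ble 2182 j))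

/-- a part of the choice of the part of the table -/
noncomputable def selTN1318 (j : ℕ) : ℕ := (Bool.rec (motive := fun _ => ℕ) (selTN1316 j) (Bool.rec (motive := fun _ => ℕ) (selTN1317 j) rl2183 (Nat.ble 2183 j)) (Nat.ble 2181 j))

/-- a part of the choice of the part of the table -/
noncomputable def selTN1319 (j : ℕ) : ℕ := (Bool.rec (motive := fun _ => ℕ) rl2184 rl2185 (Nat.ble 2185 j))

/-- a part of the choice of the part of the table -/
noncomputable def selTN1320 (j : ℕ) : ℕ := (Bool.rec (motive := fun _ => ℕ) rl2186 rl2187 (Nat.ble 2187 j))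

/-- a part of the choice of the part of the table -/
noncomputable def selTN1321 (j : ℕ) : ℕ := (Bool.rec (motive := fun _ => ℕ) (selTN1319 j) (Bool.rec (motive := fun _ => ℕ) (selTN1320 j) rl2188 (Nat.ble 2188 j)) (Nat.ble 2186 j))

/-- a part of the choice of the part of the table -/
noncomputable def selTN1322 (j : ℕ) : ℕ := (Bool.rec (motive := fun _ => ℕ) (Bool.rec (motive := fun _ => ℕ) rl2189 rl2190 (Nat.ble 2190 j)) (Bool.rec (motive := fun _ => ℕ) rl2191 rl2192 (Nat.ble 2192 j)) (Nat.ble 2191 j))

/-- a part of the choice of the part of the table -/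
noncomputable def selTN1323 (j : ℕ) : ℕ := (Bool.rec (motive := fun _ => ℕ) (Bool.rec (motive := fun _ => ℕ) (selTN1315 j) (selTN1318 j) (Nat.ble 2179 j)) (Bool.rec (motive := fun _ => ℕ) (selTN1321 j) (selTN1322 j) (Nat.ble 2189 j)) (Nat.ble 2184 j))

/-- a part of the choice of the part of the table -/
noncomputable def selTN1324 (j : ℕ) : ℕ := (Bool.rec (motive := fun _ => ℕ) rl2193 rl2194 (Nat.ble 2194 j))

/-- a part of the choice of the part of the table -/
noncomputable def selTN1325 (j : ℕ) : ℕ := (Bool.rec (motive := fun _ => ℕ) rl2195 rl2196 (Nat.ble 2196 j))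

/-- a part of the choice of the part of the table -/
noncomputable def selTN1326 (j : ℕ) : ℕ := (Bool.rec (motive := fun _ => ℕ) (selTN1324 j) (Bool.rec (motive := fun _ => ℕ) (selTN1325 j) rl2197 (Nat.ble 2197 j)) (Nat.ble 2195 j))

/-- a part of the choice of the part of the table -/
noncomputable def selTN1327 (j : ℕ) : ℕ := (Bool.rec (motive := fun _ => ℕ) rl2198 rl2199 (Nat.ble 2199 j))

/-- a part of the choice of the part of the table -/
noncomputable def selTN1328 (j : ℕ) : ℕ := (Bool.rec (motive := fun _ => ℕ) rl2200 rl2201 (Nat.ble 2201 j))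

/-- a part of the choice of the part of the table -/
noncomputable def selTN1329 (j : ℕ) : ℕ := (Bool.rec (motive := fun _ => ℕ) (selTN1327 j) (Bool.rec (motive := fun _ => ℕ) (selTN1328 j) rl2202 (Nat.ble 2202 j)) (Nat.ble 2200 j))

/-- a part of the choice of the part of the table -/
noncomputable def selTN1330 (j : ℕ) : ℕ := (Bool.rec (motive := fun _ => ℕ) rl2203 rl2204 (Nat.ble 2204 j))

/-- a part of the choice of the part of the table -/
noncomputable def selTN1331 (j : ℕ) : ℕ := (Bool.rec (motive := fun _ => ℕ) rl2205 rl2206 (Nat.ble 2206 j))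

/-- a part of the choice of the part of the table -/
noncomputable def selTN1332 (j : ℕ) : ℕ := (Bool.rec (motive := fun _ => ℕ) (selTN1330 j) (Bool.rec (motive := fun _ => ℕ) (selTN1331 j) rl2207 (Nat.ble 2207 j)) (Nat.ble 2205 j))

/-- a part of the choice of the part of the table -/
noncomputable def selTN1333 (j : ℕ) : ℕ := (Bool.rec (motive := fun _ => ℕ) (Bool.rec (motive := fun _ => ℕ) rl2208 rl2209 (Nat.ble 2209 j)) (Bool.rec (motive := fun _ => ℕ) rl2210 rl2211 (Nat.ble 2211 j)) (Nat.ble 2210 j))

/-- a part of the choice of the part of the table -/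
noncomputable def selTN1334 (j : ℕ) : ℕ := (Bool.rec (motive := fun _ => ℕ) (Bool.rec (motive := fun _ => ℕ) (selTN1326 j) (selTN1329 j) (Nat.ble 2198 j)) (Bool.rec (motive := fun _ => ℕ) (selTN1332 j) (selTN1333 j) (Nat.ble 2208 j)) (Nat.ble 2203 j))

/-- a part of the choice of the part of the table -/
noncomputable def selTN1335 (j : ℕ) : ℕ := (Bool.rec (motive := fun _ => ℕ) rl2212 rl2213 (Nat.ble 2213 j))

/-- a part of the choice of the part of the table -/
noncomputable def selTN1336 (j : ℕ) : ℕ := (Bool.rec (motive := fun _ => ℕ) rl2214 rl2215 (Nat.ble 2215 j))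

/-- a part of the choice of the part of the table -/
noncomputable def selTN1337 (j : ℕ) : ℕ := (Bool.rec (motive := fun _ => ℕ) (selTN1335 j) (Bool.rec (motive := fun _ => ℕ) (selTN1336 j) rl2216 (Nat.ble 2216 j)) (Nat.ble 2214 j))

/-- a part of the choice of the part of the table -/
noncomputable def selTN1338 (j : ℕ) : ℕ := (Bool.rec (motive := fun _ => ℕ) rl2217 rl2218 (Nat.ble 2218 j))

/-- a part of the choice of the part of the table -/
noncomputable def selTN1339 (j : ℕ) : ℕ := (Bool.rec (motive := fun _ => ℕ) rl2219 rl2220 (Nat.ble 2220 j))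

/-- a part of the choice of the part of the table -/
noncomputable def selTN1340 (j : ℕ) : ℕ := (Bool.rec (motive := fun _ => ℕ) (selTN1338 j) (Bool.rec (motive := fun _ => ℕ) (selTN1339 j) rl2221 (Nat.ble 2221 j)) (Nat.ble 2219 j))

/-- a part of the choice of the part of the table -/
noncomputable def selTN1341 (j : ℕ) : ℕ := (Bool.rec (motive := fun _ => ℕ) rl2222 rl2223 (Nat.ble 2223 j))

/-- a part of the choice of the part of the table -/
noncomputable def selTN1342 (j : ℕ) : ℕ := (Bool.rec (motive := fun _ => ℕ) rl2224 rl2225 (Nat.ble 2225 j))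

/-- a part of the choice of the part of the table -/
noncomputable def selTN1343 (j : ℕ) : ℕ := (Bool.rec (motive := fun _ => ℕ) (selTN1341 j) (Bool.rec (motive := fun _ => ℕ) (selTN1342 j) rl2226 (Nat.ble 2226 j)) (Nat.ble 2224 j))

/-- a part of the choice of the part of the table -/
noncomputable def selTN1344 (j : ℕ) : ℕ := (Bool.rec (motive := fun _ => ℕ) (Bool.rec (motive := fun _ => ℕ) rl2227 rl2228 (Nat.ble 2228 j)) (Bool.rec (motive := fun _ => ℕ) rl2229 rl2230 (Nat.ble 2230 j)) (Nat.ble 2229 j))

/-- a part of the choice of the part of the table -/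
noncomputable def selTN1345 (j : ℕ) : ℕ := (Bool.rec (motive := fun _ => ℕ) (Bool.rec (motive := fun _ => ℕ) (selTN1337 j) (selTN1340 j) (Nat.ble 2217 j)) (Bool.rec (motive := fun _ => ℕ) (selTN1343 j) (selTN1344 j) (Nat.ble 2227 j)) (Nat.ble 2222 j))

/-- a part of the choice of the part of the table -/
noncomputable def selTN1346 (j : ℕ) : ℕ := (Bool.rec (motive := fun _ => ℕ) rl2231 rl2232 (Nat.ble 2232 j))

/-- a part of the choice of the part of the table -/
noncomputable def selTN1347 (j : ℕ) : ℕ := (Bool.rec (motive := fun _ => ℕ) rl2233 rl2234 (Nat.ble 2234 j))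

/-- a part of the choice of the part of the table -/
noncomputable def selTN1348 (j : ℕ) : ℕ := (Bool.rec (motive := fun _ => ℕ) (selTN1346 j) (Bool.rec (motive := fun _ => ℕ) (selTN1347 j) rl2235 (Nat.ble 2235 j)) (Nat.ble 2233 j))

/-- a part of the choice of the part of the table -/
noncomputable def selTN1349 (j : ℕ) : ℕ := (Bool.rec (motive := fun _ => ℕ) rl2236 rl2237 (Nat.ble 2237 j))

/-- a part of the choice of the part of the table -/
noncomputable def selTN1350 (j : ℕ) : ℕ := (Bool.rec (motive := fun _ => ℕ) rl2238 rl2239 (Nat.ble 2239 j))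

/-- a part of the choice of the part of the table -/
noncomputable def selTN1351 (j : ℕ) : ℕ := (Bool.rec (motive := fun _ => ℕ) (selTN1349 j) (Bool.rec (motive := fun _ => ℕ) (selTN1350 j) rl2240 (Nat.ble 2240 j)) (Nat.ble 2238 j))

/-- a part of the choice of the part of the table -/
noncomputable def selTN1352 (j : ℕ) : ℕ := (Bool.rec (motive := fun _ => ℕ) rl2241 rl2242 (Nat.ble 2242 j))

/-- a part of the choice of the part of the table -/
noncomputable def selTN1353 (j : ℕ) : ℕ := (Bool.rec (motive := fun _ => ℕ) rl2243 rl2244 (Nat.ble 2244 j))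

/-- a part of the choice of the part of the table -/
noncomputable def selTN1354 (j : ℕ) : ℕ := (Bool.rec (motive := fun _ => ℕ) (selTN1352 j) (Bool.rec (motive := fun _ => ℕ) (selTN1353 j) rl2245 (Nat.ble 2245 j)) (Nat.ble 2243 j))

/-- a part of the choice of the part of the table -/
noncomputable def selTN1355 (j : ℕ) : ℕ := (Bool.rec (motive := fun _ => ℕ) rl2246 (Bool.rec (motive := fun _ => ℕ) rl2247 rl2248 (Nat.ble 2248 j)) (Nat.ble 2247 j))

/-- a part of the choice of the part of the table -/
noncomputable def selTN1356 (j : ℕ) : ℕ := (Bool.rec (motive := fun _ => ℕ) (Bool.rec (motive := fun _ => ℕ) (selTN1348 j) (selTN1351 j) (Nat.ble 2236 j)) (Bool.rec (motive := fun _ => ℕ) (selTN1354 j) (selTN1355 j) (Nat.ble 2246 j)) (Nat.ble 2241 j))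

/-- a part of the choice of the part of the table -/
noncomputable def selTN1357 (j : ℕ) : ℕ := (Bool.rec (motive := fun _ => ℕ) (Bool.rec (motive := fun _ => ℕ) (selTN1323 j) (selTN1334 j) (Nat.ble 2193 j)) (Bool.rec (motive := fun _ => ℕ) (selTN1345 j) (selTN1356 j) (Nat.ble 2231 j)) (Nat.ble 2212 j))

/-- a part of the choice of the part of the table -/
noncomputable def selTN1358 (j : ℕ) : ℕ := (Bool.rec (motive := fun _ => ℕ) rl2249 rl2250 (Nat.ble 2250 j))

/-- a part of the choice of the part of the table -/
noncomputable def selTN1359 (j : ℕ) : ℕ := (Bool.rec (motive := fun _ => ℕ) rl2251 rl2252 (Nat.ble 2252 j))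

/-- a part of the choice of the part of the table -/
noncomputable def selTN1360 (j : ℕ) : ℕ := (Bool.rec (motive := fun _ => ℕ) (selTN1358 j) (Bool.rec (motive := fun _ => ℕ) (selTN1359 j) rl2253 (Nat.ble 2253 j)) (Nat.ble 2251 j))

/-- a part of the choice of the part of the table -/
noncomputable def selTN1361 (j : ℕ) : ℕ := (Bool.rec (motive := fun _ => ℕ) rl2254 rl2255 (Nat.ble 2255 j))

/-- a part of the choice of the part of the table -/
noncomputable def selTN1362 (j : ℕ) : ℕ := (Bool.rec (motive := fun _ => ℕ) rl2256 rl2257 (Nat.ble 2257 j))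

/-- a part of the choice of the part of the table -/
noncomputable def selTN1363 (j : ℕ) : ℕ := (Bool.rec (motive := fun _ => ℕ) (selTN1361 j) (Bool.rec (motive := fun _ => ℕ) (selTN1362 j) rl2258 (Nat.ble 2258 j)) (Nat.ble 2256 j))

/-- a part of the choice of the part of the table -/
noncomputable def selTN1364 (j : ℕ) : ℕ := (Bool.rec (motive := fun _ => ℕ) rl2259 rl2260 (Nat.ble 2260 j))

/-- a part of the choice of the part of the table -/
noncomputable def selTN1365 (j : ℕ) : ℕ := (Bool.rec (motive := fun _ => ℕ) rl2261 rl2262 (Nat.ble 2262 j))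

/-- a part of the choice of the part of the table -/
noncomputable def selTN1366 (j : ℕ) : ℕ := (Bool.rec (motive := fun _ => ℕ) (selTN1364 j) (Bool.rec (motive := fun _ => ℕ) (selTN1365 j) rl2263 (Nat.ble 2263 j)) (Nat.ble 2261 j))

/-- a part of the choice of the part of the table -/
noncomputable def selTN1367 (j : ℕ) : ℕ := (Bool.rec (motive := fun _ => ℕ) (Bool.rec (motive := fun _ => ℕ) rl2264 rl2265 (Nat.ble 2265 j)) (Bool.rec (motive := fun _ => ℕ) rl2266 rl2267 (Nat.ble 2267 j)) (Nat.ble 2266 j))

/-- a part of the choice of the part of the table -/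
noncomputable def selTN1368 (j : ℕ) : ℕ := (Bool.rec (motive := fun _ => ℕ) (Bool.rec (motive := fun _ => ℕ) (selTN1360 j) (selTN1363 j) (Nat.ble 2254 j)) (Bool.rec (motive := fun _ => ℕ) (selTN1366 j) (selTN1367 j) (Nat.ble 2264 j)) (Nat.ble 2259 j))

/-- a part of the choice of the part of the table -/
noncomputable def selTN1369 (j : ℕ) : ℕ := (Bool.rec (motive := fun _ => ℕ) rl2268 rl2269 (Nat.ble 2269 j))

/-- a part of the choice of the part of the table -/
noncomputable def selTN1370 (j : ℕ) : ℕ := (Bool.rec (motive := fun _ => ℕ) rl2270 rl2271 (Nat.ble 2271 j))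

/-- a part of the choice of the part of the table -/
noncomputable def selTN1371 (j : ℕ) : ℕ := (Bool.rec (motive := fun _ => ℕ) (selTN1369 j) (Bool.rec (motive := fun _ => ℕ) (selTN1370 j) rl2272 (Nat.ble 2272 j)) (Nat.ble 2270 j))

/-- a part of the choice of the part of the table -/
noncomputable def selTN1372 (j : ℕ) : ℕ := (Bool.rec (motive := fun _ => ℕ) rl2273 rl2274 (Nat.ble 2274 j))

/-- a part of the choice of the part of the table -/
noncomputable def selTN1373 (j : ℕ) : ℕ := (Bool.rec (motive := fun _ => ℕ) rl2275 rl2276 (Nat.ble 2276 j))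

/-- a part of the choice of the part of the table -/
noncomputable def selTN1374 (j : ℕ) : ℕ := (Bool.rec (motive := fun _ => ℕ) (selTN1372 j) (Bool.rec (motive := fun _ => ℕ) (selTN1373 j) rl2277 (Nat.ble 2277 j)) (Nat.ble 2275 j))

/-- a part of the choice of the part of the table -/
noncomputable def selTN1375 (j : ℕ) : ℕ := (Bool.rec (motive := fun _ => ℕ) rl2278 rl2279 (Nat.ble 2279 j))

/-- a part of the choice of the part of the table -/
noncomputable def selTN1376 (j : ℕ) : ℕ := (Bool.rec (motive := fun _ => ℕ) rl2280 rl2281 (Nat.ble 2281 j))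

/-- a part of the choice of the part of the table -/
noncomputable def selTN1377 (j : ℕ) : ℕ := (Bool.rec (motive := fun _ => ℕ) (selTN1375 j) (Bool.rec (motive := fun _ => ℕ) (selTN1376 j) rl2282 (Nat.ble 2282 j)) (Nat.ble 2280 j))

/-- a part of the choice of the part of the table -/
noncomputable def selTN1378 (j : ℕ) : ℕ := (Bool.rec (motive := fun _ => ℕ) (Bool.rec (motive := fun _ => ℕ) rl2283 rl2284 (Nat.ble 2284 j)) (Bool.rec (motive := fun _ => ℕ) rl2285 rl2286 (Nat.ble 2286 j)) (Nat.ble 2285 j))

/-- a part of the choice of the part of the table -/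
noncomputable def selTN1379 (j : ℕ) : ℕ := (Bool.rec (motive := fun _ => ℕ) (Bool.rec (motive := fun _ => ℕ) (selTN1371 j) (selTN1374 j) (Nat.ble 2273 j)) (Bool.rec (motive := fun _ => ℕ) (selTN1377 j) (selTN1378 j) (Nat.ble 2283 j)) (Nat.ble 2278 j))

/-- a part of the choice of the part of the table -/
noncomputable def selTN1380 (j : ℕ) : ℕ := (Bool.rec (motive := fun _ => ℕ) rl2287 rl2288 (Nat.ble 2288 j))

/-- a part of the choice of the part of the table -/
noncomputable def selTN1381 (j : ℕ) : ℕ := (Bool.rec (motive := fun _ => ℕ) rl2289 rl2290 (Nat.ble 2290 j))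

/-- a part of the choice of the part of the table -/
noncomputable def selTN1382 (j : ℕ) : ℕ := (Bool.rec (motive := fun _ => ℕ) (selTN1380 j) (Bool.rec (motive := fun _ => ℕ) (selTN1381 j) rl2291 (Nat.ble 2291 j)) (Nat.ble 2289 j))

/-- a part of the choice of the part of the table -/
noncomputable def selTN1383 (j : ℕ) : ℕ := (Bool.rec (motive := fun _ => ℕ) rl2292 rl2293 (Nat.ble 2293 j))

/-- a part of the choice of the part of the table -/
noncomputable def selTN1384 (j : ℕ) : ℕ := (Bool.rec (motive := fun _ => ℕ) rl2294 rl2295 (Nat.ble 2295 j))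

/-- a part of the choice of the part of the table -/
noncomputable def selTN1385 (j : ℕ) : ℕ := (Bool.rec (motive := fun _ => ℕ) (selTN1383 j) (Bool.rec (motive := fun _ => ℕ) (selTN1384 j) rl2296 (Nat.ble 2296 j)) (Nat.ble 2294 j))

/-- a part of the choice of the part of the table -/
noncomputable def selTN1386 (j : ℕ) : ℕ := (Bool.rec (motive := fun _ => ℕ) rl2297 rl2298 (Nat.ble 2298 j))

/-- a part of the choice of the part of the table -/
noncomputable def selTN1387 (j : ℕ) : ℕ := (Bool.rec (motive := fun _ => ℕ) rl2299 rl2300 (Nat.ble 2300 j))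

/-- a part of the choice of the part of the table -/
noncomputable def selTN1388 (j : ℕ) : ℕ := (Bool.rec (motive := fun _ => ℕ) (selTN1386 j) (Bool.rec (motive := fun _ => ℕ) (selTN1387 j) rl2301 (Nat.ble 2301 j)) (Nat.ble 2299 j))

/-- a part of the choice of the part of the table -/
noncomputable def selTN1389 (j : ℕ) : ℕ := (Bool.rec (motive := fun _ => ℕ) (Bool.rec (motive := fun _ => ℕ) rl2302 rl2303 (Nat.ble 2303 j)) (Bool.rec (motive := fun _ => ℕ) rl2304 rl2305 (Nat.ble 2305 j)) (Nat.ble 2304 j))

/-- a part of the choice of the part of the table -/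
noncomputable def selTN1390 (j : ℕ) : ℕ := (Bool.rec (motive := fun _ => ℕ) (Bool.rec (motive := fun _ => ℕ) (selTN1382 j) (selTN1385 j) (Nat.ble 2292 j)) (Bool.rec (motive := fun _ => ℕ) (selTN1388 j) (selTN1389 j) (Nat.ble 2302 j)) (Nat.ble 2297 j))

/-- a part of the choice of the part of the table -/
noncomputable def selTN1391 (j : ℕ) : ℕ := (Bool.rec (motive := fun _ => ℕ) rl2306 rl2307 (Nat.ble 2307 j))

/-- a part of the choice of the part of the table -/
noncomputable def selTN1392 (j : ℕ) : ℕ := (Bool.rec (motive := fun _ => ℕ) rl2308 rl2309 (Nat.ble 2309 j))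

/-- a part of the choice of the part of the table -/
noncomputable def selTN1393 (j : ℕ) : ℕ := (Bool.rec (motive := fun _ => ℕ) (selTN1391 j) (Bool.rec (motive := fun _ => ℕ) (selTN1392 j) rl2310 (Nat.ble 2310 j)) (Nat.ble 2308 j))

/-- a part of the choice of the part of the table -/
noncomputable def selTN1394 (j : ℕ) : ℕ := (Bool.rec (motive := fun _ => ℕ) rl2311 rl2312 (Nat.ble 2312 j))

/-- a part of the choice of the part of the table -/
noncomputable def selTN1395 (j : ℕ) : ℕ := (Bool.rec (motive := fun _ => ℕ) rl2313 rl2314 (Nat.ble 2314 j))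

/-- a part of the choice of the part of the table -/
noncomputable def selTN1396 (j : ℕ) : ℕ := (Bool.rec (motive := fun _ => ℕ) (selTN1394 j) (Bool.rec (motive := fun _ => ℕ) (selTN1395 j) rl2315 (Nat.ble 2315 j)) (Nat.ble 2313 j))

/-- a part of the choice of the part of the table -/
noncomputable def selTN1397 (j : ℕ) : ℕ := (Bool.rec (motive := fun _ => ℕ) rl2316 rl2317 (Nat.ble 2317 j))

/-- a part of the choice of the part of the table -/
noncomputable def selTN1398 (j : ℕ) : ℕ := (Bool.rec (motive := fun _ => ℕ) rl2318 rl2319 (Nat.ble 2319 j))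

/-- a part of the choice of the part of the table -/
noncomputable def selTN1399 (j : ℕ) : ℕ := (Bool.rec (motive := fun _ => ℕ) (selTN1397 j) (Bool.rec (motive := fun _ => ℕ) (selTN1398 j) rl2320 (Nat.ble 2320 j)) (Nat.ble 2318 j))

/-- a part of the choice of the part of the table -/
noncomputable def selTN1400 (j : ℕ) : ℕ := (Bool.rec (motive := fun _ => ℕ) rl2321 (Bool.rec (motive := fun _ => ℕ) rl2322 rl2323 (Nat.ble 2323 j)) (Nat.ble 2322 j))

/-- a part of the choice of the part of the table -/
noncomputable def selTN1401 (j : ℕ) : ℕ := (Bool.rec (motive := fun _ => ℕ) (Bool.rec (motive := fun _ => ℕ) (selTN1393 j) (selTN1396 j) (Nat.ble 2311 j)) (Bool.rec (motive := fun _ => ℕ) (selTN1399 j) (selTN1400 j) (Nat.ble 2321 j)) (Nat.ble 2316 j))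

/-- a part of the choice of the part of the table -/
noncomputable def selTN1402 (j : ℕ) : ℕ := (Bool.rec (motive := fun _ => ℕ) (Bool.rec (motive := fun _ => ℕ) (selTN1368 j) (selTN1379 j) (Nat.ble 2268 j)) (Bool.rec (motive := fun _ => ℕ) (selTN1390 j) (selTN1401 j) (Nat.ble 2306 j)) (Nat.ble 2287 j))

/-- a part of the choice of the part of the table -/
noncomputable def selTN1403 (j : ℕ) : ℕ := (Bool.rec (motive := fun _ => ℕ) rl2324 rl2325 (Nat.ble 2325 j))

/-- a part of the choice of the part of the table -/
noncomputable def selTN1404 (j : ℕ) : ℕ := (Bool.rec (motive := fun _ => ℕ) rl2326 rl2327 (Nat.ble 2327 j))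

/-- a part of the choice of the part of the table -/
noncomputable def selTN1405 (j : ℕ) : ℕ := (Bool.rec (motive := fun _ => ℕ) (selTN1403 j) (Bool.rec (motive := fun _ => ℕ) (selTN1404 j) rl2328 (Nat.ble 2328 j)) (Nat.ble 2326 j))

/-- a part of the choice of the part of the table -/
noncomputable def selTN1406 (j : ℕ) : ℕ := (Bool.rec (motive := fun _ => ℕ) rl2329 rl2330 (Nat.ble 2330 j))

/-- a part of the choice of the part of the table -/
noncomputable def selTN1407 (j : ℕ) : ℕ := (Bool.rec (motive := fun _ => ℕ) rl2331 rl2332 (Nat.ble 2332 j))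

/-- a part of the choice of the part of the table -/
noncomputable def selTN1408 (j : ℕ) : ℕ := (Bool.rec (motive := fun _ => ℕ) (selTN1406 j) (Bool.rec (motive := fun _ => ℕ) (selTN1407 j) rl2333 (Nat.ble 2333 j)) (Nat.ble 2331 j))

/-- a part of the choice of the part of the table -/
noncomputable def selTN1409 (j : ℕ) : ℕ := (Bool.rec (motive := fun _ => ℕ) rl2334 rl2335 (Nat.ble 2335 j))

/-- a part of the choice of the part of the table -/
noncomputable def selTN1410 (j : ℕ) : ℕ := (Bool.rec (motive := fun _ => ℕ) rl2336 rl2337 (Nat.ble 2337 j))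

/-- a part of the choice of the part of the table -/
noncomputable def selTN1411 (j : ℕ) : ℕ := (Bool.rec (motive := fun _ => ℕ) (selTN1409 j) (Bool.rec (motive := fun _ => ℕ) (selTN1410 j) rl2338 (Nat.ble 2338 j)) (Nat.ble 2336 j))

/-- a part of the choice of the part of the table -/
noncomputable def selTN1412 (j : ℕ) : ℕ := (Bool.rec (motive := fun _ => ℕ) (Bool.rec (motive := fun _ => ℕ) rl2339 rl2340 (Nat.ble 2340 j)) (Bool.rec (motive := fun _ => ℕ) rl2341 rl2342 (Nat.ble 2342 j)) (Nat.ble 2341 j))

/-- a part of the choice of the part of the table -/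
noncomputable def selTN1413 (j : ℕ) : ℕ := (Bool.rec (motive := fun _ => ℕ) (Bool.rec (motive := fun _ => ℕ) (selTN1405 j) (selTN1408 j) (Nat.ble 2329 j)) (Bool.rec (motive := fun _ => ℕ) (selTN1411 j) (selTN1412 j) (Nat.ble 2339 j)) (Nat.ble 2334 j))

/-- a part of the choice of the part of the table -/
noncomputable def selTN1414 (j : ℕ) : ℕ := (Bool.rec (motive := fun _ => ℕ) rl2343 rl2344 (Nat.ble 2344 j))

/-- a part of the choice of the part of the table -/
noncomputable def selTN1415 (j : ℕ) : ℕ := (Bool.rec (motive := fun _ => ℕ) rl2345 rl2346 (Nat.ble 2346 j))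

/-- a part of the choice of the part of the table -/
noncomputable def selTN1416 (j : ℕ) : ℕ := (Bool.rec (motive := fun _ => ℕ) (selTN1414 j) (Bool.rec (motive := fun _ => ℕ) (selTN1415 j) rl2347 (Nat.ble 2347 j)) (Nat.ble 2345 j))

/-- a part of the choice of the part of the table -/
noncomputable def selTN1417 (j : ℕ) : ℕ := (Bool.rec (motive := fun _ => ℕ) rl2348 rl2349 (Nat.ble 2349 j))

/-- a part of the choice of the part of the table -/
noncomputable def selTN1418 (j : ℕ) : ℕ := (Bool.rec (motive := fun _ => ℕ) rl2350 rl2351 (Nat.ble 2351 j))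

/-- a part of the choice of the part of the table -/
noncomputable def selTN1419 (j : ℕ) : ℕ := (Bool.rec (motive := fun _ => ℕ) (selTN1417 j) (Bool.rec (motive := fun _ => ℕ) (selTN1418 j) rl2352 (Nat.ble 2352 j)) (Nat.ble 2350 j))

/-- a part of the choice of the part of the table -/
noncomputable def selTN1420 (j : ℕ) : ℕ := (Bool.rec (motive := fun _ => ℕ) rl2353 rl2354 (Nat.ble 2354 j))

/-- a part of the choice of the part of the table -/
noncomputable def selTN1421 (j : ℕ) : ℕ := (Bool.rec (motive := fun _ => ℕ) rl2355 rl2356 (Nat.ble 2356 j))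

/-- a part of the choice of the part of the table -/
noncomputable def selTN1422 (j : ℕ) : ℕ := (Bool.rec (motive := fun _ => ℕ) (selTN1420 j) (Bool.rec (motive := fun _ => ℕ) (selTN1421 j) rl2357 (Nat.ble 2357 j)) (Nat.ble 2355 j))

/-- a part of the choice of the part of the table -/
noncomputable def selTN1423 (j : ℕ) : ℕ := (Bool.rec (motive := fun _ => ℕ) (Bool.rec (motive := fun _ => ℕ) rl2358 rl2359 (Nat.ble 2359 j)) (Bool.rec (motive := fun _ => ℕ) rl2360 rl2361 (Nat.ble 2361 j)) (Nat.ble 2360 j))

/-- a part of the choice of the part of the table -/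
noncomputable def selTN1424 (j : ℕ) : ℕ := (Bool.rec (motive := fun _ => ℕ) (Bool.rec (motive := fun _ => ℕ) (selTN1416 j) (selTN1419 j) (Nat.ble 2348 j)) (Bool.rec (motive := fun _ => ℕ) (selTN1422 j) (selTN1423 j) (Nat.ble 2358 j)) (Nat.ble 2353 j))

/-- a part of the choice of the part of the table -/
noncomputable def selTN1425 (j : ℕ) : ℕ := (Bool.rec (motive := fun _ => ℕ) rl2362 rl2363 (Nat.ble 2363 j))

/-- a part of the choice of the part of the table -/
noncomputable def selTN1426 (j : ℕ) : ℕ := (Bool.rec (motive := fun _ => ℕ) rl2364 rl2365 (Nat.ble 2365 j))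

/-- a part of the choice of the part of the table -/
noncomputable def selTN1427 (j : ℕ) : ℕ := (Bool.rec (motive := fun _ => ℕ) (selTN1425 j) (Bool.rec (motive := fun _ => ℕ) (selTN1426 j) rl2366 (Nat.ble 2366 j)) (Nat.ble 2364 j))

/-- a part of the choice of the part of the table -/
noncomputable def selTN1428 (j : ℕ) : ℕ := (Bool.rec (motive := fun _ => ℕ) rl2367 rl2368 (Nat.ble 2368 j))

/-- a part of the choice of the part of the table -/
noncomputable def selTN1429 (j : ℕ) : ℕ := (Bool.rec (motive := fun _ => ℕ) rl2369 rl2370 (Nat.ble 2370 j))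

/-- a part of the choice of the part of the table -/
noncomputable def selTN1430 (j : ℕ) : ℕ := (Bool.rec (motive := fun _ => ℕ) (selTN1428 j) (Bool.rec (motive := fun _ => ℕ) (selTN1429 j) rl2371 (Nat.ble 2371 j)) (Nat.ble 2369 j))

/-- a part of the choice of the part of the table -/
noncomputable def selTN1431 (j : ℕ) : ℕ := (Bool.rec (motive := fun _ => ℕ) rl2372 rl2373 (Nat.ble 2373 j))

/-- a part of the choice of the part of the table -/
noncomputable def selTN1432 (j : ℕ) : ℕ := (Bool.rec (motive := fun _ => ℕ) rl2374 rl2375 (Nat.ble 2375 j))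

/-- a part of the choice of the part of the table -/
noncomputable def selTN1433 (j : ℕ) : ℕ := (Bool.rec (motive := fun _ => ℕ) (selTN1431 j) (Bool.rec (motive := fun _ => ℕ) (selTN1432 j) rl2376 (Nat.ble 2376 j)) (Nat.ble 2374 j))

/-- a part of the choice of the part of the table -/
noncomputable def selTN1434 (j : ℕ) : ℕ := (Bool.rec (motive := fun _ => ℕ) (Bool.rec (motive := fun _ => ℕ) rl2377 rl2378 (Nat.ble 2378 j)) (Bool.rec (motive := fun _ => ℕ) rl2379 rl2380 (Nat.ble 2380 j)) (Nat.ble 2379 j))

/-- a part of the choice of the part of the table -/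
noncomputable def selTN1435 (j : ℕ) : ℕ := (Bool.rec (motive := fun _ => ℕ) (Bool.rec (motive := fun _ => ℕ) (selTN1427 j) (selTN1430 j) (Nat.ble 2367 j)) (Bool.rec (motive := fun _ => ℕ) (selTN1433 j) (selTN1434 j) (Nat.ble 2377 j)) (Nat.ble 2372 j))

/-- a part of the choice of the part of the table -/
noncomputable def selTN1436 (j : ℕ) : ℕ := (Bool.rec (motive := fun _ => ℕ) rl2381 rl2382 (Nat.ble 2382 j))

/-- a part of the choice of the part of the table -/
noncomputable def selTN1437 (j : ℕ) : ℕ := (Bool.rec (motive := fun _ => ℕ) rl2383 rl2384 (Nat.ble 2384 j))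

/-- a part of the choice of the part of the table -/
noncomputable def selTN1438 (j : ℕ) : ℕ := (Bool.rec (motive := fun _ => ℕ) (selTN1436 j) (Bool.rec (motive := fun _ => ℕ) (selTN1437 j) rl2385 (Nat.ble 2385 j)) (Nat.ble 2383 j))

/-- a part of the choice of the part of the table -/
noncomputable def selTN1439 (j : ℕ) : ℕ := (Bool.rec (motive := fun _ => ℕ) rl2386 rl2387 (Nat.ble 2387 j))

/-- a part of the choice of the part of the table -/
noncomputable def selTN1440 (j : ℕ) : ℕ := (Bool.rec (motive := fun _ => ℕ) rl2388 rl2389 (Nat.ble 2389 j))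

/-- a part of the choice of the part of the table -/
noncomputable def selTN1441 (j : ℕ) : ℕ := (Bool.rec (motive := fun _ => ℕ) (selTN1439 j) (Bool.rec (motive := fun _ => ℕ) (selTN1440 j) rl2390 (Nat.ble 2390 j)) (Nat.ble 2388 j))

/-- a part of the choice of the part of the table -/
noncomputable def selTN1442 (j : ℕ) : ℕ := (Bool.rec (motive := fun _ => ℕ) rl2391 rl2392 (Nat.ble 2392 j))

/-- a part of the choice of the part of the table -/
noncomputable def selTN1443 (j : ℕ) : ℕ := (Bool.rec (motive := fun _ => ℕ) rl2393 rl2394 (Nat.ble 2394 j))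

/-- a part of the choice of the part of the table -/
noncomputable def selTN1444 (j : ℕ) : ℕ := (Bool.rec (motive := fun _ => ℕ) (selTN1442 j) (Bool.rec (motive := fun _ => ℕ) (selTN1443 j) rl2395 (Nat.ble 2395 j)) (Nat.ble 2393 j))

/-- a part of the choice of the part of the table -/
noncomputable def selTN1445 (j : ℕ) : ℕ := (Bool.rec (motive := fun _ => ℕ) rl2396 rl2397 (Nat.ble 2397 j))

/-- a part of the choice of the part of the table -/
noncomputable def selTN1446 (j : ℕ) : ℕ := (Bool.rec (motive := fun _ => ℕ) (Bool.rec (motive := fun _ => ℕ) (selTN1438 j) (selTN1441 j) (Nat.ble 2386 j)) (Bool.rec (motive := fun _ => ℕ) (selTN1444 j) (selTN1445 j) (Nat.ble 2396 j)) (Nat.ble 2391 j))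

/-- a part of the choice of the part of the table -/
noncomputable def selTN1447 (j : ℕ) : ℕ := (Bool.rec (motive := fun _ => ℕ) (Bool.rec (motive := fun _ => ℕ) (selTN1413 j) (selTN1424 j) (Nat.ble 2343 j)) (Bool.rec (motive := fun _ => ℕ) (selTN1435 j) (selTN1446 j) (Nat.ble 2381 j)) (Nat.ble 2362 j))

/-- a part of the choice of the part of the table -/
noncomputable def selTN1448 (j : ℕ) : ℕ := (Bool.rec (motive := fun _ => ℕ) (Bool.rec (motive := fun _ => ℕ) (selTN1312 j) (selTN1357 j) (Nat.ble 2174 j)) (Bool.rec (motive := fun _ => ℕ) (selTN1402 j) (selTN1447 j) (Nat.ble 2324 j)) (Nat.ble 2249 j))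

/-- a part of the choice of the part of the table -/
noncomputable def selTN1449 (j : ℕ) : ℕ := (Bool.rec (motive := fun _ => ℕ) (Bool.rec (motive := fun _ => ℕ) (selTN905 j) (selTN1086 j) (Nat.ble 1499 j)) (Bool.rec (motive := fun _ => ℕ) (selTN1267 j) (selTN1448 j) (Nat.ble 2099 j)) (Nat.ble 1799 j))

/-- a part of the choice of the part of the table -/
noncomputable def selTN1450 (j : ℕ) : ℕ := (Bool.rec (motive := fun _ => ℕ) rl2398 rl2399 (Nat.ble 2399 j))

/-- a part of the choice of the part of the table -/
noncomputable def selTN1451 (j : ℕ) : ℕ := (Bool.rec (motive := fun _ => ℕ) rl2400 rl2401 (Nat.ble 2401 j))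

/-- a part of the choice of the part of the table -/
noncomputable def selTN1452 (j : ℕ) : ℕ := (Bool.rec (motive := fun _ => ℕ) (selTN1450 j) (Bool.rec (motive := fun _ => ℕ) (selTN1451 j) rl2402 (Nat.ble 2402 j)) (Nat.ble 2400 j))

/-- a part of the choice of the part of the table -/
noncomputable def selTN1453 (j : ℕ) : ℕ := (Bool.rec (motive := fun _ => ℕ) rl2403 rl2404 (Nat.ble 2404 j))

/-- a part of the choice of the part of the table -/
noncomputable def selTN1454 (j : ℕ) : ℕ := (Bool.rec (motive := fun _ => ℕ) rl2405 rl2406 (Nat.ble 2406 j))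

/-- a part of the choice of the part of the table -/
noncomputable def selTN1455 (j : ℕ) : ℕ := (Bool.rec (motive := fun _ => ℕ) (selTN1453 j) (Bool.rec (motive := fun _ => ℕ) (selTN1454 j) rl2407 (Nat.ble 2407 j)) (Nat.ble 2405 j))

/-- a part of the choice of the part of the table -/
noncomputable def selTN1456 (j : ℕ) : ℕ := (Bool.rec (motive := fun _ => ℕ) rl2408 rl2409 (Nat.ble 2409 j))

/-- a part of the choice of the part of the table -/
noncomputable def selTN1457 (j : ℕ) : ℕ := (Bool.rec (motive := fun _ => ℕ) rl2410 rl2411 (Nat.ble 2411 j))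

/-- a part of the choice of the part of the table -/
noncomputable def selTN1458 (j : ℕ) : ℕ := (Bool.rec (motive := fun _ => ℕ) (selTN1456 j) (Bool.rec (motive := fun _ => ℕ) (selTN1457 j) rl2412 (Nat.ble 2412 j)) (Nat.ble 2410 j))

/-- a part of the choice of the part of the table -/
noncomputable def selTN1459 (j : ℕ) : ℕ := (Bool.rec (motive := fun _ => ℕ) (Bool.rec (motive := fun _ => ℕ) rl2413 rl2414 (Nat.ble 2414 j)) (Bool.rec (motive := fun _ => ℕ) rl2415 rl2416 (Nat.ble 2416 j)) (Nat.ble 2415 j))

/-- a part of the choice of the part of the table -/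
noncomputable def selTN1460 (j : ℕ) : ℕ := (Bool.rec (motive := fun _ => ℕ) (Bool.rec (motive := fun _ => ℕ) (selTN1452 j) (selTN1455 j) (Nat.ble 2403 j)) (Bool.rec (motive := fun _ => ℕ) (selTN1458 j) (selTN1459 j) (Nat.ble 2413 j)) (Nat.ble 2408 j))

/-- a part of the choice of the part of the table -/
noncomputable def selTN1461 (j : ℕ) : ℕ := (Bool.rec (motive := fun _ => ℕ) rl2417 rl2418 (Nat.ble 2418 j))

/-- a part of the choice of the part of the table -/
noncomputable def selTN1462 (j : ℕ) : ℕ := (Bool.rec (motive := fun _ => ℕ) rl2419 rl2420 (Nat.ble 2420 j))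

/-- a part of the choice of the part of the table -/
noncomputable def selTN1463 (j : ℕ) : ℕ := (Bool.rec (motive := fun _ => ℕ) (selTN1461 j) (Bool.rec (motive := fun _ => ℕ) (selTN1462 j) rl2421 (Nat.ble 2421 j)) (Nat.ble 2419 j))

/-- a part of the choice of the part of the table -/
noncomputable def selTN1464 (j : ℕ) : ℕ := (Bool.rec (motive := fun _ => ℕ) rl2422 rl2423 (Nat.ble 2423 j))

/-- a part of the choice of the part of the table -/
noncomputable def selTN1465 (j : ℕ) : ℕ := (Bool.rec (motive := fun _ => ℕ) rl2424 rl2425 (Nat.ble 2425 j))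

/-- a part of the choice of the part of the table -/
noncomputable def selTN1466 (j : ℕ) : ℕ := (Bool.rec (motive := fun _ => ℕ) (selTN1464 j) (Bool.rec (motive := fun _ => ℕ) (selTN1465 j) rl2426 (Nat.ble 2426 j)) (Nat.ble 2424 j))

/-- a part of the choice of the part of the table -/
noncomputable def selTN1467 (j : ℕ) : ℕ := (Bool.rec (motive := fun _ => ℕ) rl2427 rl2428 (Nat.ble 2428 j))

/-- a part of the choice of the part of the table -/
noncomputable def selTN1468 (j : ℕ) : ℕ := (Bool.rec (motive := fun _ => ℕ) rl2429 rl2430 (Nat.ble 2430 j))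

/-- a part of the choice of the part of the table -/
noncomputable def selTN1469 (j : ℕ) : ℕ := (Bool.rec (motive := fun _ => ℕ) (selTN1467 j) (Bool.rec (motive := fun _ => ℕ) (selTN1468 j) rl2431 (Nat.ble 2431 j)) (Nat.ble 2429 j))

/-- a part of the choice of the part of the table -/
noncomputable def selTN1470 (j : ℕ) : ℕ := (Bool.rec (motive := fun _ => ℕ) (Bool.rec (motive := fun _ => ℕ) rl2432 rl2433 (Nat.ble 2433 j)) (Bool.rec (motive := fun _ => ℕ) rl2434 rl2435 (Nat.ble 2435 j)) (Nat.ble 2434 j))

/-- a part of the choice of the part of the table -/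
noncomputable def selTN1471 (j : ℕ) : ℕ := (Bool.rec (motive := fun _ => ℕ) (Bool.rec (motive := fun _ => ℕ) (selTN1463 j) (selTN1466 j) (Nat.ble 2422 j)) (Bool.rec (motive := fun _ => ℕ) (selTN1469 j) (selTN1470 j) (Nat.ble 2432 j)) (Nat.ble 2427 j))

/-- a part of the choice of the part of the table -/
noncomputable def selTN1472 (j : ℕ) : ℕ := (Bool.rec (motive := fun _ => ℕ) rl2436 rl2437 (Nat.ble 2437 j))

/-- a part of the choice of the part of the table -/
noncomputable def selTN1473 (j : ℕ) : ℕ := (Bool.rec (motive := fun _ => ℕ) rl2438 rl2439 (Nat.ble 2439 j))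

/-- a part of the choice of the part of the table -/
noncomputable def selTN1474 (j : ℕ) : ℕ := (Bool.rec (motive := fun _ => ℕ) (selTN1472 j) (Bool.rec (motive := fun _ => ℕ) (selTN1473 j) rl2440 (Nat.ble 2440 j)) (Nat.ble 2438 j))

/-- a part of the choice of the part of the table -/
noncomputable def selTN1475 (j : ℕ) : ℕ := (Bool.rec (motive := fun _ => ℕ) rl2441 rl2442 (Nat.ble 2442 j))

/-- a part of the choice of the part of the table -/
noncomputable def selTN1476 (j : ℕ) : ℕ := (Bool.rec (motive := fun _ => ℕ) rl2443 rl2444 (Nat.ble 2444 j))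

/-- a part of the choice of the part of the table -/
noncomputable def selTN1477 (j : ℕ) : ℕ := (Bool.rec (motive := fun _ => ℕ) (selTN1475 j) (Bool.rec (motive := fun _ => ℕ) (selTN1476 j) rl2445 (Nat.ble 2445 j)) (Nat.ble 2443 j))

/-- a part of the choice of the part of the table -/
noncomputable def selTN1478 (j : ℕ) : ℕ := (Bool.rec (motive := fun _ => ℕ) rl2446 rl2447 (Nat.ble 2447 j))

/-- a part of the choice of the part of the table -/
noncomputable def selTN1479 (j : ℕ) : ℕ := (Bool.rec (motive := fun _ => ℕ) rl2448 rl2449 (Nat.ble 2449 j))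

/-- a part of the choice of the part of the table -/
noncomputable def selTN1480 (j : ℕ) : ℕ := (Bool.rec (motive := fun _ => ℕ) (selTN1478 j) (Bool.rec (motive := fun _ => ℕ) (selTN1479 j) rl2450 (Nat.ble 2450 j)) (Nat.ble 2448 j))

/-- a part of the choice of the part of the table -/
noncomputable def selTN1481 (j : ℕ) : ℕ := (Bool.rec (motive := fun _ => ℕ) (Bool.rec (motive := fun _ => ℕ) rl2451 rl2452 (Nat.ble 2452 j)) (Bool.rec (motive := fun _ => ℕ) rl2453 rl2454 (Nat.ble 2454 j)) (Nat.ble 2453 j))

/-- a part of the choice of the part of the table -/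
noncomputable def selTN1482 (j : ℕ) : ℕ := (Bool.rec (motive := fun _ => ℕ) (Bool.rec (motive := fun _ => ℕ) (selTN1474 j) (selTN1477 j) (Nat.ble 2441 j)) (Bool.rec (motive := fun _ => ℕ) (selTN1480 j) (selTN1481 j) (Nat.ble 2451 j)) (Nat.ble 2446 j))

/-- a part of the choice of the part of the table -/
noncomputable def selTN1483 (j : ℕ) : ℕ := (Bool.rec (motive := fun _ => ℕ) rl2455 rl2456 (Nat.ble 2456 j))

/-- a part of the choice of the part of the table -/
noncomputable def selTN1484 (j : ℕ) : ℕ := (Bool.rec (motive := fun _ => ℕ) rl2457 rl2458 (Nat.ble 2458 j))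

/-- a part of the choice of the part of the table -/
noncomputable def selTN1485 (j : ℕ) : ℕ := (Bool.rec (motive := fun _ => ℕ) (selTN1483 j) (Bool.rec (motive := fun _ => ℕ) (selTN1484 j) rl2459 (Nat.ble 2459 j)) (Nat.ble 2457 j))

/-- a part of the choice of the part of the table -/
noncomputable def selTN1486 (j : ℕ) : ℕ := (Bool.rec (motive := fun _ => ℕ) rl2460 rl2461 (Nat.ble 2461 j))

/-- a part of the choice of the part of the table -/
noncomputable def selTN1487 (j : ℕ) : ℕ := (Bool.rec (motive := fun _ => ℕ) rl2462 rl2463 (Nat.ble 2463 j))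

/-- a part of the choice of the part of the table -/
noncomputable def selTN1488 (j : ℕ) : ℕ := (Bool.rec (motive := fun _ => ℕ) (selTN1486 j) (Bool.rec (motive := fun _ => ℕ) (selTN1487 j) rl2464 (Nat.ble 2464 j)) (Nat.ble 2462 j))

/-- a part of the choice of the part of the table -/
noncomputable def selTN1489 (j : ℕ) : ℕ := (Bool.rec (motive := fun _ => ℕ) rl2465 rl2466 (Nat.ble 2466 j))

/-- a part of the choice of the part of the table -/
noncomputable def selTN1490 (j : ℕ) : ℕ := (Bool.rec (motive := fun _ => ℕ) rl2467 rl2468 (Nat.ble 2468 j))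

/-- a part of the choice of the part of the table -/
noncomputable def selTN1491 (j : ℕ) : ℕ := (Bool.rec (motive := fun _ => ℕ) (selTN1489 j) (Bool.rec (motive := fun _ => ℕ) (selTN1490 j) rl2469 (Nat.ble 2469 j)) (Nat.ble 2467 j))

/-- a part of the choice of the part of the table -/
noncomputable def selTN1492 (j : ℕ) : ℕ := (Bool.rec (motive := fun _ => ℕ) rl2470 (Bool.rec (motive := fun _ => ℕ) rl2471 rl2472 (Nat.ble 2472 j)) (Nat.ble 2471 j))

/-- a part of the choice of the part of the table -/
noncomputable def selTN1493 (j : ℕ) : ℕ := (Bool.rec (motive := fun _ => ℕ) (Bool.rec (motive := fun _ => ℕ) (selTN1485 j) (selTN1488 j) (Nat.ble 2460 j)) (Bool.rec (motive := fun _ => ℕ) (selTN1491 j) (selTN1492 j) (Nat.ble 2470 j)) (Nat.ble 2465 j))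

/-- a part of the choice of the part of the table -/
noncomputable def selTN1494 (j : ℕ) : ℕ := (Bool.rec (motive := fun _ => ℕ) (Bool.rec (motive := fun _ => ℕ) (selTN1460 j) (selTN1471 j) (Nat.ble 2417 j)) (Bool.rec (motive := fun _ => ℕ) (selTN1482 j) (selTN1493 j) (Nat.ble 2455 j)) (Nat.ble 2436 j))

/-- a part of the choice of the part of the table -/
noncomputable def selTN1495 (j : ℕ) : ℕ := (Bool.rec (motive := fun _ => ℕ) rl2473 rl2474 (Nat.ble 2474 j))

/-- a part of the choice of the part of the table -/
noncomputable def selTN1496 (j : ℕ) : ℕ := (Bool.rec (motive := fun _ => ℕ) rl2475 rl2476 (Nat.ble 2476 j))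

/-- a part of the choice of the part of the table -/
noncomputable def selTN1497 (j : ℕ) : ℕ := (Bool.rec (motive := fun _ => ℕ) (selTN1495 j) (Bool.rec (motive := fun _ => ℕ) (selTN1496 j) rl2477 (Nat.ble 2477 j)) (Nat.ble 2475 j))

/-- a part of the choice of the part of the table -/
noncomputable def selTN1498 (j : ℕ) : ℕ := (Bool.rec (motive := fun _ => ℕ) rl2478 rl2479 (Nat.ble 2479 j))

/-- a part of the choice of the part of the table -/
noncomputable def selTN1499 (j : ℕ) : ℕ := (Bool.rec (motive := fun _ => ℕ) rl2480 rl2481 (Nat.ble 2481 j))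

/-- a part of the choice of the part of the table -/
noncomputable def selTN1500 (j : ℕ) : ℕ := (Bool.rec (motive := fun _ => ℕ) (selTN1498 j) (Bool.rec (motive := fun _ => ℕ) (selTN1499 j) rl2482 (Nat.ble 2482 j)) (Nat.ble 2480 j))

/-- a part of the choice of the part of the table -/
noncomputable def selTN1501 (j : ℕ) : ℕ := (Bool.rec (motive := fun _ => ℕ) rl2483 rl2484 (Nat.ble 2484 j))

/-- a part of the choice of the part of the table -/
noncomputable def selTN1502 (j : ℕ) : ℕ := (Bool.rec (motive := fun _ => ℕ) rl2485 rl2486 (Nat.ble 2486 j))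

/-- a part of the choice of the part of the table -/
noncomputable def selTN1503 (j : ℕ) : ℕ := (Bool.rec (motive := fun _ => ℕ) (selTN1501 j) (Bool.rec (motive := fun _ => ℕ) (selTN1502 j) rl2487 (Nat.ble 2487 j)) (Nat.ble 2485 j))

/-- a part of the choice of the part of the table -/
noncomputable def selTN1504 (j : ℕ) : ℕ := (Bool.rec (motive := fun _ => ℕ) (Bool.rec (motive := fun _ => ℕ) rl2488 rl2489 (Nat.ble 2489 j)) (Bool.rec (motive := fun _ => ℕ) rl2490 rl2491 (Nat.ble 2491 j)) (Nat.ble 2490 j))

/-- a part of the choice of the part of the table -/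
noncomputable def selTN1505 (j : ℕ) : ℕ := (Bool.rec (motive := fun _ => ℕ) (Bool.rec (motive := fun _ => ℕ) (selTN1497 j) (selTN1500 j) (Nat.ble 2478 j)) (Bool.rec (motive := fun _ => ℕ) (selTN1503 j) (selTN1504 j) (Nat.ble 2488 j)) (Nat.ble 2483 j))

/-- a part of the choice of the part of the table -/
noncomputable def selTN1506 (j : ℕ) : ℕ := (Bool.rec (motive := fun _ => ℕ) rl2492 rl2493 (Nat.ble 2493 j))

/-- a part of the choice of the part of the table -/
noncomputable def selTN1507 (j : ℕ) : ℕ := (Bool.rec (motive := fun _ => ℕ) rl2494 rl2495 (Nat.ble 2495 j))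

/-- a part of the choice of the part of the table -/
noncomputable def selTN1508 (j : ℕ) : ℕ := (Bool.rec (motive := fun _ => ℕ) (selTN1506 j) (Bool.rec (motive := fun _ => ℕ) (selTN1507 j) rl2496 (Nat.ble 2496 j)) (Nat.ble 2494 j))

/-- a part of the choice of the part of the table -/
noncomputable def selTN1509 (j : ℕ) : ℕ := (Bool.rec (motive := fun _ => ℕ) rl2497 rl2498 (Nat.ble 2498 j))

/-- a part of the choice of the part of the table -/
noncomputable def selTN1510 (j : ℕ) : ℕ := (Bool.rec (motive := fun _ => ℕ) rl2499 rl2500 (Nat.ble 2500 j))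

/-- a part of the choice of the part of the table -/
noncomputable def selTN1511 (j : ℕ) : ℕ := (Bool.rec (motive := fun _ => ℕ) (selTN1509 j) (Bool.rec (motive := fun _ => ℕ) (selTN1510 j) rl2501 (Nat.ble 2501 j)) (Nat.ble 2499 j))

/-- a part of the choice of the part of the table -/
noncomputable def selTN1512 (j : ℕ) : ℕ := (Bool.rec (motive := fun _ => ℕ) rl2502 rl2503 (Nat.ble 2503 j))

/-- a part of the choice of the part of the table -/
noncomputable def selTN1513 (j : ℕ) : ℕ := (Bool.rec (motive := fun _ => ℕ) rl2504 rl2505 (Nat.ble 2505 j))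

/-- a part of the choice of the part of the table -/
noncomputable def selTN1514 (j : ℕ) : ℕ := (Bool.rec (motive := fun _ => ℕ) (selTN1512 j) (Bool.rec (motive := fun _ => ℕ) (selTN1513 j) rl2506 (Nat.ble 2506 j)) (Nat.ble 2504 j))

/-- a part of the choice of the part of the table -/
noncomputable def selTN1515 (j : ℕ) : ℕ := (Bool.rec (motive := fun _ => ℕ) (Bool.rec (motive := fun _ => ℕ) rl2507 rl2508 (Nat.ble 2508 j)) (Bool.rec (motive := fun _ => ℕ) rl2509 rl2510 (Nat.ble 2510 j)) (Nat.ble 2509 j))

/-- a part of the choice of the part of the table -/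
noncomputable def selTN1516 (j : ℕ) : ℕ := (Bool.rec (motive := fun _ => ℕ) (Bool.rec (motive := fun _ => ℕ) (selTN1508 j) (selTN1511 j) (Nat.ble 2497 j)) (Bool.rec (motive := fun _ => ℕ) (selTN1514 j) (selTN1515 j) (Nat.ble 2507 j)) (Nat.ble 2502 j))

/-- a part of the choice of the part of the table -/
noncomputable def selTN1517 (j : ℕ) : ℕ := (Bool.rec (motive := fun _ => ℕ) rl2511 rl2512 (Nat.ble 2512 j))

/-- a part of the choice of the part of the table -/
noncomputable def selTN1518 (j : ℕ) : ℕ := (Bool.rec (motive := fun _ => ℕ) rl2513 rl2514 (Nat.ble 2514 j))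

/-- a part of the choice of the part of the table -/
noncomputable def selTN1519 (j : ℕ) : ℕ := (Bool.rec (motive := fun _ => ℕ) (selTN1517 j) (Bool.rec (motive := fun _ => ℕ) (selTN1518 j) rl2515 (Nat.ble 2515 j)) (Nat.ble 2513 j))

/-- a part of the choice of the part of the table -/
noncomputable def selTN1520 (j : ℕ) : ℕ := (Bool.rec (motive := fun _ => ℕ) rl2516 rl2517 (Nat.ble 2517 j))

/-- a part of the choice of the part of the table -/
noncomputable def selTN1521 (j : ℕ) : ℕ := (Bool.rec (motive := fun _ => ℕ) rl2518 rl2519 (Nat.ble 2519 j))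

/-- a part of the choice of the part of the table -/
noncomputable def selTN1522 (j : ℕ) : ℕ := (Bool.rec (motive := fun _ => ℕ) (selTN1520 j) (Bool.rec (motive := fun _ => ℕ) (selTN1521 j) rl2520 (Nat.ble 2520 j)) (Nat.ble 2518 j))

/-- a part of the choice of the part of the table -/
noncomputable def selTN1523 (j : ℕ) : ℕ := (Bool.rec (motive := fun _ => ℕ) rl2521 rl2522 (Nat.ble 2522 j))

/-- a part of the choice of the part of the table -/
noncomputable def selTN1524 (j : ℕ) : ℕ := (Bool.rec (motive := fun _ => ℕ) rl2523 rl2524 (Nat.ble 2524 j))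

/-- a part of the choice of the part of the table -/
noncomputable def selTN1525 (j : ℕ) : ℕ := (Bool.rec (motive := fun _ => ℕ) (selTN1523 j) (Bool.rec (motive := fun _ => ℕ) (selTN1524 j) rl2525 (Nat.ble 2525 j)) (Nat.ble 2523 j))

/-- a part of the choice of the part of the table -/
noncomputable def selTN1526 (j : ℕ) : ℕ := (Bool.rec (motive := fun _ => ℕ) (Bool.rec (motive := fun _ => ℕ) rl2526 rl2527 (Nat.ble 2527 j)) (Bool.rec (motive := fun _ => ℕ) rl2528 rl2529 (Nat.ble 2529 j)) (Nat.ble 2528 j))

/-- a part of the choice of the part of the table -/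
noncomputable def selTN1527 (j : ℕ) : ℕ := (Bool.rec (motive := fun _ => ℕ) (Bool.rec (motive := fun _ => ℕ) (selTN1519 j) (selTN1522 j) (Nat.ble 2516 j)) (Bool.rec (motive := fun _ => ℕ) (selTN1525 j) (selTN1526 j) (Nat.ble 2526 j)) (Nat.ble 2521 j))

/-- a part of the choice of the part of the table -/
noncomputable def selTN1528 (j : ℕ) : ℕ := (Bool.rec (motive := fun _ => ℕ) rl2530 rl2531 (Nat.ble 2531 j))

/-- a part of the choice of the part of the table -/
noncomputable def selTN1529 (j : ℕ) : ℕ := (Bool.rec (motive := fun _ => ℕ) rl2532 rl2533 (Nat.ble 2533 j))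

/-- a part of the choice of the part of the table -/
noncomputable def selTN1530 (j : ℕ) : ℕ := (Bool.rec (motive := fun _ => ℕ) (selTN1528 j) (Bool.rec (motive := fun _ => ℕ) (selTN1529 j) rl2534 (Nat.ble 2534 j)) (Nat.ble 2532 j))

/-- a part of the choice of the part of the table -/
noncomputable def selTN1531 (j : ℕ) : ℕ := (Bool.rec (motive := fun _ => ℕ) rl2535 rl2536 (Nat.ble 2536 j))

/-- a part of the choice of the part of the table -/
noncomputable def selTN1532 (j : ℕ) : ℕ := (Bool.rec (motive := fun _ => ℕ) rl2537 rl2538 (Nat.ble 2538 j))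

/-- a part of the choice of the part of the table -/
noncomputable def selTN1533 (j : ℕ) : ℕ := (Bool.rec (motive := fun _ => ℕ) (selTN1531 j) (Bool.rec (motive := fun _ => ℕ) (selTN1532 j) rl2539 (Nat.ble 2539 j)) (Nat.ble 2537 j))

/-- a part of the choice of the part of the table -/
noncomputable def selTN1534 (j : ℕ) : ℕ := (Bool.rec (motive := fun _ => ℕ) rl2540 rl2541 (Nat.ble 2541 j))

/-- a part of the choice of the part of the table -/
noncomputable def selTN1535 (j : ℕ) : ℕ := (Bool.rec (motive := fun _ => ℕ) rl2542 rl2543 (Nat.ble 2543 j))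

/-- a part of the choice of the part of the table -/
noncomputable def selTN1536 (j : ℕ) : ℕ := (Bool.rec (motive := fun _ => ℕ) (selTN1534 j) (Bool.rec (motive := fun _ => ℕ) (selTN1535 j) rl2544 (Nat.ble 2544 j)) (Nat.ble 2542 j))

/-- a part of the choice of the part of the table -/
noncomputable def selTN1537 (j : ℕ) : ℕ := (Bool.rec (motive := fun _ => ℕ) rl2545 (Bool.rec (motive := fun _ => ℕ) rl2546 rl2547 (Nat.ble 2547 j)) (Nat.ble 2546 j))

/-- a part of the choice of the part of the table -/
noncomputable def selTN1538 (j : ℕ) : ℕ := (Bool.rec (motive := fun _ => ℕ) (Bool.rec (motive := fun _ => ℕ) (selTN1530 j) (selTN1533 j) (Nat.ble 2535 j)) (Bool.rec (motive := fun _ => ℕ) (selTN1536 j) (selTN1537 j) (Nat.ble 2545 j)) (Nat.ble 2540 j))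

/-- a part of the choice of the part of the table -/
noncomputable def selTN1539 (j : ℕ) : ℕ := (Bool.rec (motive := fun _ => ℕ) (Bool.rec (motive := fun _ => ℕ) (selTN1505 j) (selTN1516 j) (Nat.ble 2492 j)) (Bool.rec (motive := fun _ => ℕ) (selTN1527 j) (selTN1538 j) (Nat.ble 2530 j)) (Nat.ble 2511 j))

/-- a part of the choice of the part of the table -/
noncomputable def selTN1540 (j : ℕ) : ℕ := (Bool.rec (motive := fun _ => ℕ) rl2548 rl2549 (Nat.ble 2549 j))

/-- a part of the choice of the part of the table -/
noncomputable def selTN1541 (j : ℕ) : ℕ := (Bool.rec (motive := fun _ => ℕ) rl2550 rl2551 (Nat.ble 2551 j))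

/-- a part of the choice of the part of the table -/
noncomputable def selTN1542 (j : ℕ) : ℕ := (Bool.rec (motive := fun _ => ℕ) (selTN1540 j) (Bool.rec (motive := fun _ => ℕ) (selTN1541 j) rl2552 (Nat.ble 2552 j)) (Nat.ble 2550 j))

/-- a part of the choice of the part of the table -/
noncomputable def selTN1543 (j : ℕ) : ℕ := (Bool.rec (motive := fun _ => ℕ) rl2553 rl2554 (Nat.ble 2554 j))

/-- a part of the choice of the part of the table -/
noncomputable def selTN1544 (j : ℕ) : ℕ := (Bool.rec (motive := fun _ => ℕ) rl2555 rl2556 (Nat.ble 2556 j))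

/-- a part of the choice of the part of the table -/
noncomputable def selTN1545 (j : ℕ) : ℕ := (Bool.rec (motive := fun _ => ℕ) (selTN1543 j) (Bool.rec (motive := fun _ => ℕ) (selTN1544 j) rl2557 (Nat.ble 2557 j)) (Nat.ble 2555 j))

/-- a part of the choice of the part of the table -/
noncomputable def selTN1546 (j : ℕ) : ℕ := (Bool.rec (motive := fun _ => ℕ) rl2558 rl2559 (Nat.ble 2559 j))

/-- a part of the choice of the part of the table -/
noncomputable def selTN1547 (j : ℕ) : ℕ := (Bool.rec (motive := fun _ => ℕ) rl2560 rl2561 (Nat.ble 2561 j))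

/-- a part of the choice of the part of the table -/
noncomputable def selTN1548 (j : ℕ) : ℕ := (Bool.rec (motive := fun _ => ℕ) (selTN1546 j) (Bool.rec (motive := fun _ => ℕ) (selTN1547 j) rl2562 (Nat.ble 2562 j)) (Nat.ble 2560 j))

/-- a part of the choice of the part of the table -/
noncomputable def selTN1549 (j : ℕ) : ℕ := (Bool.rec (motive := fun _ => ℕ) (Bool.rec (motive := fun _ => ℕ) rl2563 rl2564 (Nat.ble 2564 j)) (Bool.rec (motive := fun _ => ℕ) rl2565 rl2566 (Nat.ble 2566 j)) (Nat.ble 2565 j))

/-- a part of the choice of the part of the table -/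
noncomputable def selTN1550 (j : ℕ) : ℕ := (Bool.rec (motive := fun _ => ℕ) (Bool.rec (motive := fun _ => ℕ) (selTN1542 j) (selTN1545 j) (Nat.ble 2553 j)) (Bool.rec (motive := fun _ => ℕ) (selTN1548 j) (selTN1549 j) (Nat.ble 2563 j)) (Nat.ble 2558 j))

/-- a part of the choice of the part of the table -/
noncomputable def selTN1551 (j : ℕ) : ℕ := (Bool.rec (motive := fun _ => ℕ) rl2567 rl2568 (Nat.ble 2568 j))

/-- a part of the choice of the part of the table -/
noncomputable def selTN1552 (j : ℕ) : ℕ := (Bool.rec (motive := fun _ => ℕ) rl2569 rl2570 (Nat.ble 2570 j))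

/-- a part of the choice of the part of the table -/
noncomputable def selTN1553 (j : ℕ) : ℕ := (Bool.rec (motive := fun _ => ℕ) (selTN1551 j) (Bool.rec (motive := fun _ => ℕ) (selTN1552 j) rl2571 (Nat.ble 2571 j)) (Nat.ble 2569 j))

/-- a part of the choice of the part of the table -/
noncomputable def selTN1554 (j : ℕ) : ℕ := (Bool.rec (motive := fun _ => ℕ) rl2572 rl2573 (Nat.ble 2573 j))

/-- a part of the choice of the part of the table -/
noncomputable def selTN1555 (j : ℕ) : ℕ := (Bool.rec (motive := fun _ => ℕ) rl2574 rl2575 (Nat.ble 2575 j))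

/-- a part of the choice of the part of the table -/
noncomputable def selTN1556 (j : ℕ) : ℕ := (Bool.rec (motive := fun _ => ℕ) (selTN1554 j) (Bool.rec (motive := fun _ => ℕ) (selTN1555 j) rl2576 (Nat.ble 2576 j)) (Nat.ble 2574 j))

/-- a part of the choice of the part of the table -/
noncomputable def selTN1557 (j : ℕ) : ℕ := (Bool.rec (motive := fun _ => ℕ) rl2577 rl2578 (Nat.ble 2578 j))

/-- a part of the choice of the part of the table -/
noncomputable def selTN1558 (j : ℕ) : ℕ := (Bool.rec (motive := fun _ => ℕ) rl2579 rl2580 (Nat.ble 2580 j))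

/-- a part of the choice of the part of the table -/
noncomputable def selTN1559 (j : ℕ) : ℕ := (Bool.rec (motive := fun _ => ℕ) (selTN1557 j) (Bool.rec (motive := fun _ => ℕ) (selTN1558 j) rl2581 (Nat.ble 2581 j)) (Nat.ble 2579 j))

/-- a part of the choice of the part of the table -/
noncomputable def selTN1560 (j : ℕ) : ℕ := (Bool.rec (motive := fun _ => ℕ) (Bool.rec (motive := fun _ => ℕ) rl2582 rl2583 (Nat.ble 2583 j)) (Bool.rec (motive := fun _ => ℕ) rl2584 rl2585 (Nat.ble 2585 j)) (Nat.ble 2584 j))

/-- a part of the choice of the part of the table -/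
noncomputable def selTN1561 (j : ℕ) : ℕ := (Bool.rec (motive := fun _ => ℕ) (Bool.rec (motive := fun _ => ℕ) (selTN1553 j) (selTN1556 j) (Nat.ble 2572 j)) (Bool.rec (motive := fun _ => ℕ) (selTN1559 j) (selTN1560 j) (Nat.ble 2582 j)) (Nat.ble 2577 j))

/-- a part of the choice of the part of the table -/
noncomputable def selTN1562 (j : ℕ) : ℕ := (Bool.rec (motive := fun _ => ℕ) rl2586 rl2587 (Nat.ble 2587 j))

/-- a part of the choice of the part of the table -/
noncomputable def selTN1563 (j : ℕ) : ℕ := (Bool.rec (motive := fun _ => ℕ) rl2588 rl2589 (Nat.ble 2589 j))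

/-- a part of the choice of the part of the table -/
noncomputable def selTN1564 (j : ℕ) : ℕ := (Bool.rec (motive := fun _ => ℕ) (selTN1562 j) (Bool.rec (motive := fun _ => ℕ) (selTN1563 j) rl2590 (Nat.ble 2590 j)) (Nat.ble 2588 j))

/-- a part of the choice of the part of the table -/
noncomputable def selTN1565 (j : ℕ) : ℕ := (Bool.rec (motive := fun _ => ℕ) rl2591 rl2592 (Nat.ble 2592 j))

/-- a part of the choice of the part of the table -/
noncomputable def selTN1566 (j : ℕ) : ℕ := (Bool.rec (motive := fun _ => ℕ) rl2593 rl2594 (Nat.ble 2594 j))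

/-- a part of the choice of the part of the table -/
noncomputable def selTN1567 (j : ℕ) : ℕ := (Bool.rec (motive := fun _ => ℕ) (selTN1565 j) (Bool.rec (motive := fun _ => ℕ) (selTN1566 j) rl2595 (Nat.ble 2595 j)) (Nat.ble 2593 j))

/-- a part of the choice of the part of the table -/
noncomputable def selTN1568 (j : ℕ) : ℕ := (Bool.rec (motive := fun _ => ℕ) rl2596 rl2597 (Nat.ble 2597 j))

/-- a part of the choice of the part of the table -/
noncomputable def selTN1569 (j : ℕ) : ℕ := (Bool.rec (motive := fun _ => ℕ) rl2598 rl2599 (Nat.ble 2599 j))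

/-- a part of the choice of the part of the table -/
noncomputable def selTN1570 (j : ℕ) : ℕ := (Bool.rec (motive := fun _ => ℕ) (selTN1568 j) (Bool.rec (motive := fun _ => ℕ) (selTN1569 j) rl2600 (Nat.ble 2600 j)) (Nat.ble 2598 j))

/-- a part of the choice of the part of the table -/
noncomputable def selTN1571 (j : ℕ) : ℕ := (Bool.rec (motive := fun _ => ℕ) (Bool.rec (motive := fun _ => ℕ) rl2601 rl2602 (Nat.ble 2602 j)) (Bool.rec (motive := fun _ => ℕ) rl2603 rl2604 (Nat.ble 2604 j)) (Nat.ble 2603 j))

/-- a part of the choice of the part of the table -/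
noncomputable def selTN1572 (j : ℕ) : ℕ := (Bool.rec (motive := fun _ => ℕ) (Bool.rec (motive := fun _ => ℕ) (selTN1564 j) (selTN1567 j) (Nat.ble 2591 j)) (Bool.rec (motive := fun _ => ℕ) (selTN1570 j) (selTN1571 j) (Nat.ble 2601 j)) (Nat.ble 2596 j))

/-- a part of the choice of the part of the table -/
noncomputable def selTN1573 (j : ℕ) : ℕ := (Bool.rec (motive := fun _ => ℕ) rl2605 rl2606 (Nat.ble 2606 j))

/-- a part of the choice of the part of the table -/
noncomputable def selTN1574 (j : ℕ) : ℕ := (Bool.rec (motive := fun _ => ℕ) rl2607 rl2608 (Nat.ble 2608 j))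

/-- a part of the choice of the part of the table -/
noncomputable def selTN1575 (j : ℕ) : ℕ := (Bool.rec (motive := fun _ => ℕ) (selTN1573 j) (Bool.rec (motive := fun _ => ℕ) (selTN1574 j) rl2609 (Nat.ble 2609 j)) (Nat.ble 2607 j))

/-- a part of the choice of the part of the table -/
noncomputable def selTN1576 (j : ℕ) : ℕ := (Bool.rec (motive := fun _ => ℕ) rl2610 rl2611 (Nat.ble 2611 j))

/-- a part of the choice of the part of the table -/
noncomputable def selTN1577 (j : ℕ) : ℕ := (Bool.rec (motive := fun _ => ℕ) rl2612 rl2613 (Nat.ble 2613 j))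

/-- a part of the choice of the part of the table -/
noncomputable def selTN1578 (j : ℕ) : ℕ := (Bool.rec (motive := fun _ => ℕ) (selTN1576 j) (Bool.rec (motive := fun _ => ℕ) (selTN1577 j) rl2614 (Nat.ble 2614 j)) (Nat.ble 2612 j))

/-- a part of the choice of the part of the table -/
noncomputable def selTN1579 (j : ℕ) : ℕ := (Bool.rec (motive := fun _ => ℕ) rl2615 rl2616 (Nat.ble 2616 j))

/-- a part of the choice of the part of the table -/
noncomputable def selTN1580 (j : ℕ) : ℕ := (Bool.rec (motive := fun _ => ℕ) rl2617 rl2618 (Nat.ble 2618 j))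

/-- a part of the choice of the part of the table -/
noncomputable def selTN1581 (j : ℕ) : ℕ := (Bool.rec (motive := fun _ => ℕ) (selTN1579 j) (Bool.rec (motive := fun _ => ℕ) (selTN1580 j) rl2619 (Nat.ble 2619 j)) (Nat.ble 2617 j))

/-- a part of the choice of the part of the table -/
noncomputable def selTN1582 (j : ℕ) : ℕ := (Bool.rec (motive := fun _ => ℕ) rl2620 (Bool.rec (motive := fun _ => ℕ) rl2621 rl2622 (Nat.ble 2622 j)) (Nat.ble 2621 j))

/-- a part of the choice of the part of the table -/
noncomputable def selTN1583 (j : ℕ) : ℕ := (Bool.rec (motive := fun _ => ℕ) (Bool.rec (motive := fun _ => ℕ) (selTN1575 j) (selTN1578 j) (Nat.ble 2610 j)) (Bool.rec (motive := fun _ => ℕ) (selTN1581 j) (selTN1582 j) (Nat.ble 2620 j)) (Nat.ble 2615 j))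

/-- a part of the choice of the part of the table -/
noncomputable def selTN1584 (j : ℕ) : ℕ := (Bool.rec (motive := fun _ => ℕ) (Bool.rec (motive := fun _ => ℕ) (selTN1550 j) (selTN1561 j) (Nat.ble 2567 j)) (Bool.rec (motive := fun _ => ℕ) (selTN1572 j) (selTN1583 j) (Nat.ble 2605 j)) (Nat.ble 2586 j))

/-- a part of the choice of the part of the table -/
noncomputable def selTN1585 (j : ℕ) : ℕ := (Bool.rec (motive := fun _ => ℕ) rl2623 rl2624 (Nat.ble 2624 j))

/-- a part of the choice of the part of the table -/
noncomputable def selTN1586 (j : ℕ) : ℕ := (Bool.rec (motive := fun _ => ℕ) rl2625 rl2626 (Nat.ble 2626 j))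

/-- a part of the choice of the part of the table -/
noncomputable def selTN1587 (j : ℕ) : ℕ := (Bool.rec (motive := fun _ => ℕ) (selTN1585 j) (Bool.rec (motive := fun _ => ℕ) (selTN1586 j) rl2627 (Nat.ble 2627 j)) (Nat.ble 2625 j))

/-- a part of the choice of the part of the table -/
noncomputable def selTN1588 (j : ℕ) : ℕ := (Bool.rec (motive := fun _ => ℕ) rl2628 rl2629 (Nat.ble 2629 j))

/-- a part of the choice of the part of the table -/
noncomputable def selTN1589 (j : ℕ) : ℕ := (Bool.rec (motive := fun _ => ℕ) rl2630 rl2631 (Nat.ble 2631 j))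

/-- a part of the choice of the part of the table -/
noncomputable def selTN1590 (j : ℕ) : ℕ := (Bool.rec (motive := fun _ => ℕ) (selTN1588 j) (Bool.rec (motive := fun _ => ℕ) (selTN1589 j) rl2632 (Nat.ble 2632 j)) (Nat.ble 2630 j))

/-- a part of the choice of the part of the table -/
noncomputable def selTN1591 (j : ℕ) : ℕ := (Bool.rec (motive := fun _ => ℕ) rl2633 rl2634 (Nat.ble 2634 j))

/-- a part of the choice of the part of the table -/
noncomputable def selTN1592 (j : ℕ) : ℕ := (Bool.rec (motive := fun _ => ℕ) rl2635 rl2636 (Nat.ble 2636 j))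

/-- a part of the choice of the part of the table -/
noncomputable def selTN1593 (j : ℕ) : ℕ := (Bool.rec (motive := fun _ => ℕ) (selTN1591 j) (Bool.rec (motive := fun _ => ℕ) (selTN1592 j) rl2637 (Nat.ble 2637 j)) (Nat.ble 2635 j))

/-- a part of the choice of the part of the table -/
noncomputable def selTN1594 (j : ℕ) : ℕ := (Bool.rec (motive := fun _ => ℕ) (Bool.rec (motive := fun _ => ℕ) rl2638 rl2639 (Nat.ble 2639 j)) (Bool.rec (motive := fun _ => ℕ) rl2640 rl2641 (Nat.ble 2641 j)) (Nat.ble 2640 j))

/-- a part of the choice of the part of the table -/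
noncomputable def selTN1595 (j : ℕ) : ℕ := (Bool.rec (motive := fun _ => ℕ) (Bool.rec (motive := fun _ => ℕ) (selTN1587 j) (selTN1590 j) (Nat.ble 2628 j)) (Bool.rec (motive := fun _ => ℕ) (selTN1593 j) (selTN1594 j) (Nat.ble 2638 j)) (Nat.ble 2633 j))

/-- a part of the choice of the part of the table -/
noncomputable def selTN1596 (j : ℕ) : ℕ := (Bool.rec (motive := fun _ => ℕ) rl2642 rl2643 (Nat.ble 2643 j))

/-- a part of the choice of the part of the table -/
noncomputable def selTN1597 (j : ℕ) : ℕ := (Bool.rec (motive := fun _ => ℕ) rl2644 rl2645 (Nat.ble 2645 j))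

/-- a part of the choice of the part of the table -/
noncomputable def selTN1598 (j : ℕ) : ℕ := (Bool.rec (motive := fun _ => ℕ) (selTN1596 j) (Bool.rec (motive := fun _ => ℕ) (selTN1597 j) rl2646 (Nat.ble 2646 j)) (Nat.ble 2644 j))

/-- a part of the choice of the part of the table -/
noncomputable def selTN1599 (j : ℕ) : ℕ := (Bool.rec (motive := fun _ => ℕ) rl2647 rl2648 (Nat.ble 2648 j))

/-- a part of the choice of the part of the table -/
noncomputable def selTN1600 (j : ℕ) : ℕ := (Bool.rec (motive := fun _ => ℕ) rl2649 rl2650 (Nat.ble 2650 j))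

/-- a part of the choice of the part of the table -/
noncomputable def selTN1601 (j : ℕ) : ℕ := (Bool.rec (motive := fun _ => ℕ) (selTN1599 j) (Bool.rec (motive := fun _ => ℕ) (selTN1600 j) rl2651 (Nat.ble 2651 j)) (Nat.ble 2649 j))

/-- a part of the choice of the part of the table -/
noncomputable def selTN1602 (j : ℕ) : ℕ := (Bool.rec (motive := fun _ => ℕ) rl2652 rl2653 (Nat.ble 2653 j))

/-- a part of the choice of the part of the table -/
noncomputable def selTN1603 (j : ℕ) : ℕ := (Bool.rec (motive := fun _ => ℕ) rl2654 rl2655 (Nat.ble 2655 j))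

/-- a part of the choice of the part of the table -/
noncomputable def selTN1604 (j : ℕ) : ℕ := (Bool.rec (motive := fun _ => ℕ) (selTN1602 j) (Bool.rec (motive := fun _ => ℕ) (selTN1603 j) rl2656 (Nat.ble 2656 j)) (Nat.ble 2654 j))

/-- a part of the choice of the part of the table -/
noncomputable def selTN1605 (j : ℕ) : ℕ := (Bool.rec (motive := fun _ => ℕ) (Bool.rec (motive := fun _ => ℕ) rl2657 rl2658 (Nat.ble 2658 j)) (Bool.rec (motive := fun _ => ℕ) rl2659 rl2660 (Nat.ble 2660 j)) (Nat.ble 2659 j))

/-- a part of the choice of the part of the table -/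
noncomputable def selTN1606 (j : ℕ) : ℕ := (Bool.rec (motive := fun _ => ℕ) (Bool.rec (motive := fun _ => ℕ) (selTN1598 j) (selTN1601 j) (Nat.ble 2647 j)) (Bool.rec (motive := fun _ => ℕ) (selTN1604 j) (selTN1605 j) (Nat.ble 2657 j)) (Nat.ble 2652 j))

/-- a part of the choice of the part of the table -/
noncomputable def selTN1607 (j : ℕ) : ℕ := (Bool.rec (motive := fun _ => ℕ) rl2661 rl2662 (Nat.ble 2662 j))

/-- a part of the choice of the part of the table -/
noncomputable def selTN1608 (j : ℕ) : ℕ := (Bool.rec (motive := fun _ => ℕ) rl2663 rl2664 (Nat.ble 2664 j))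

/-- a part of the choice of the part of the table -/
noncomputable def selTN1609 (j : ℕ) : ℕ := (Bool.rec (motive := fun _ => ℕ) (selTN1607 j) (Bool.rec (motive := fun _ => ℕ) (selTN1608 j) rl2665 (Nat.ble 2665 j)) (Nat.ble 2663 j))

/-- a part of the choice of the part of the table -/
noncomputable def selTN1610 (j : ℕ) : ℕ := (Bool.rec (motive := fun _ => ℕ) rl2666 rl2667 (Nat.ble 2667 j))

/-- a part of the choice of the part of the table -/
noncomputable def selTN1611 (j : ℕ) : ℕ := (Bool.rec (motive := fun _ => ℕ) rl2668 rl2669 (Nat.ble 2669 j))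

/-- a part of the choice of the part of the table -/
noncomputable def selTN1612 (j : ℕ) : ℕ := (Bool.rec (motive := fun _ => ℕ) (selTN1610 j) (Bool.rec (motive := fun _ => ℕ) (selTN1611 j) rl2670 (Nat.ble 2670 j)) (Nat.ble 2668 j))

/-- a part of the choice of the part of the table -/
noncomputable def selTN1613 (j : ℕ) : ℕ := (Bool.rec (motive := fun _ => ℕ) rl2671 rl2672 (Nat.ble 2672 j))

/-- a part of the choice of the part of the table -/
noncomputable def selTN1614 (j : ℕ) : ℕ := (Bool.rec (motive := fun _ => ℕ) rl2673 rl2674 (Nat.ble 2674 j))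

/-- a part of the choice of the part of the table -/
noncomputable def selTN1615 (j : ℕ) : ℕ := (Bool.rec (motive := fun _ => ℕ) (selTN1613 j) (Bool.rec (motive := fun _ => ℕ) (selTN1614 j) rl2675 (Nat.ble 2675 j)) (Nat.ble 2673 j))

/-- a part of the choice of the part of the table -/
noncomputable def selTN1616 (j : ℕ) : ℕ := (Bool.rec (motive := fun _ => ℕ) (Bool.rec (motive := fun _ => ℕ) rl2676 rl2677 (Nat.ble 2677 j)) (Bool.rec (motive := fun _ => ℕ) rl2678 rl2679 (Nat.ble 2679 j)) (Nat.ble 2678 j))

/-- a part of the choice of the part of the table -/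
noncomputable def selTN1617 (j : ℕ) : ℕ := (Bool.rec (motive := fun _ => ℕ) (Bool.rec (motive := fun _ => ℕ) (selTN1609 j) (selTN1612 j) (Nat.ble 2666 j)) (Bool.rec (motive := fun _ => ℕ) (selTN1615 j) (selTN1616 j) (Nat.ble 2676 j)) (Nat.ble 2671 j))

/-- a part of the choice of the part of the table -/
noncomputable def selTN1618 (j : ℕ) : ℕ := (Bool.rec (motive := fun _ => ℕ) rl2680 rl2681 (Nat.ble 2681 j))

/-- a part of the choice of the part of the table -/
noncomputable def selTN1619 (j : ℕ) : ℕ := (Bool.rec (motive := fun _ => ℕ) rl2682 rl2683 (Nat.ble 2683 j))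

/-- a part of the choice of the part of the table -/
noncomputable def selTN1620 (j : ℕ) : ℕ := (Bool.rec (motive := fun _ => ℕ) (selTN1618 j) (Bool.rec (motive := fun _ => ℕ) (selTN1619 j) rl2684 (Nat.ble 2684 j)) (Nat.ble 2682 j))

/-- a part of the choice of the part of the table -/
noncomputable def selTN1621 (j : ℕ) : ℕ := (Bool.rec (motive := fun _ => ℕ) rl2685 rl2686 (Nat.ble 2686 j))

/-- a part of the choice of the part of the table -/
noncomputable def selTN1622 (j : ℕ) : ℕ := (Bool.rec (motive := fun _ => ℕ) rl2687 rl2688 (Nat.ble 2688 j))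

/-- a part of the choice of the part of the table -/
noncomputable def selTN1623 (j : ℕ) : ℕ := (Bool.rec (motive := fun _ => ℕ) (selTN1621 j) (Bool.rec (motive := fun _ => ℕ) (selTN1622 j) rl2689 (Nat.ble 2689 j)) (Nat.ble 2687 j))

/-- a part of the choice of the part of the table -/
noncomputable def selTN1624 (j : ℕ) : ℕ := (Bool.rec (motive := fun _ => ℕ) rl2690 rl2691 (Nat.ble 2691 j))

/-- a part of the choice of the part of the table -/
noncomputable def selTN1625 (j : ℕ) : ℕ := (Bool.rec (motive := fun _ => ℕ) rl2692 rl2693 (Nat.ble 2693 j))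

/-- a part of the choice of the part of the table -/
noncomputable def selTN1626 (j : ℕ) : ℕ := (Bool.rec (motive := fun _ => ℕ) (selTN1624 j) (Bool.rec (motive := fun _ => ℕ) (selTN1625 j) rl2694 (Nat.ble 2694 j)) (Nat.ble 2692 j))

/-- a part of the choice of the part of the table -/
noncomputable def selTN1627 (j : ℕ) : ℕ := (Bool.rec (motive := fun _ => ℕ) rl2695 (Bool.rec (motive := fun _ => ℕ) rl2696 rl2697 (Nat.ble 2697 j)) (Nat.ble 2696 j))

/-- a part of the choice of the part of the table -/
noncomputable def selTN1628 (j : ℕ) : ℕ := (Bool.rec (motive := fun _ => ℕ) (Bool.rec (motive := fun _ => ℕ) (selTN1620 j) (selTN1623 j) (Nat.ble 2685 j)) (Bool.rec (motive := fun _ => ℕ) (selTN1626 j) (selTN1627 j) (Nat.ble 2695 j)) (Nat.ble 2690 j))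

/-- a part of the choice of the part of the table -/
noncomputable def selTN1629 (j : ℕ) : ℕ := (Bool.rec (motive := fun _ => ℕ) (Bool.rec (motive := fun _ => ℕ) (selTN1595 j) (selTN1606 j) (Nat.ble 2642 j)) (Bool.rec (motive := fun _ => ℕ) (selTN1617 j) (selTN1628 j) (Nat.ble 2680 j)) (Nat.ble 2661 j))

/-- a part of the choice of the part of the table -/
noncomputable def selTN1630 (j : ℕ) : ℕ := (Bool.rec (motive := fun _ => ℕ) (Bool.rec (motive := fun _ => ℕ) (selTN1494 j) (selTN1539 j) (Nat.ble 2473 j)) (Bool.rec (motive := fun _ => ℕ) (selTN1584 j) (selTN1629 j) (Nat.ble 2623 j)) (Nat.ble 2548 j))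

/-- a part of the choice of the part of the table -/
noncomputable def selTN1631 (j : ℕ) : ℕ := (Bool.rec (motive := fun _ => ℕ) rl2698 rl2699 (Nat.ble 2699 j))

/-- a part of the choice of the part of the table -/
noncomputable def selTN1632 (j : ℕ) : ℕ := (Bool.rec (motive := fun _ => ℕ) rl2700 rl2701 (Nat.ble 2701 j))

/-- a part of the choice of the part of the table -/
noncomputable def selTN1633 (j : ℕ) : ℕ := (Bool.rec (motive := fun _ => ℕ) (selTN1631 j) (Bool.rec (motive := fun _ => ℕ) (selTN1632 j) rl2702 (Nat.ble 2702 j)) (Nat.ble 2700 j))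

/-- a part of the choice of the part of the table -/
noncomputable def selTN1634 (j : ℕ) : ℕ := (Bool.rec (motive := fun _ => ℕ) rl2703 rl2704 (Nat.ble 2704 j))

/-- a part of the choice of the part of the table -/
noncomputable def selTN1635 (j : ℕ) : ℕ := (Bool.rec (motive := fun _ => ℕ) rl2705 rl2706 (Nat.ble 2706 j))

/-- a part of the choice of the part of the table -/
noncomputable def selTN1636 (j : ℕ) : ℕ := (Bool.rec (motive := fun _ => ℕ) (selTN1634 j) (Bool.rec (motive := fun _ => ℕ) (selTN1635 j) rl2707 (Nat.ble 2707 j)) (Nat.ble 2705 j))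

/-- a part of the choice of the part of the table -/
noncomputable def selTN1637 (j : ℕ) : ℕ := (Bool.rec (motive := fun _ => ℕ) rl2708 rl2709 (Nat.ble 2709 j))

/-- a part of the choice of the part of the table -/
noncomputable def selTN1638 (j : ℕ) : ℕ := (Bool.rec (motive := fun _ => ℕ) rl2710 rl2711 (Nat.ble 2711 j))

/-- a part of the choice of the part of the table -/
noncomputable def selTN1639 (j : ℕ) : ℕ := (Bool.rec (motive := fun _ => ℕ) (selTN1637 j) (Bool.rec (motive := fun _ => ℕ) (selTN1638 j) rl2712 (Nat.ble 2712 j)) (Nat.ble 2710 j))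

/-- a part of the choice of the part of the table -/
noncomputable def selTN1640 (j : ℕ) : ℕ := (Bool.rec (motive := fun _ => ℕ) (Bool.rec (motive := fun _ => ℕ) rl2713 rl2714 (Nat.ble 2714 j)) (Bool.rec (motive := fun _ => ℕ) rl2715 rl2716 (Nat.ble 2716 j)) (Nat.ble 2715 j))

/-- a part of the choice of the part of the table -/
noncomputable def selTN1641 (j : ℕ) : ℕ := (Bool.rec (motive := fun _ => ℕ) (Bool.rec (motive := fun _ => ℕ) (selTN1633 j) (selTN1636 j) (Nat.ble 2703 j)) (Bool.rec (motive := fun _ => ℕ) (selTN1639 j) (selTN1640 j) (Nat.ble 2713 j)) (Nat.ble 2708 j))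

/-- a part of the choice of the part of the table -/
noncomputable def selTN1642 (j : ℕ) : ℕ := (Bool.rec (motive := fun _ => ℕ) rl2717 rl2718 (Nat.ble 2718 j))

/-- a part of the choice of the part of the table -/
noncomputable def selTN1643 (j : ℕ) : ℕ := (Bool.rec (motive := fun _ => ℕ) rl2719 rl2720 (Nat.ble 2720 j))

/-- a part of the choice of the part of the table -/
noncomputable def selTN1644 (j : ℕ) : ℕ := (Bool.rec (motive := fun _ => ℕ) (selTN1642 j) (Bool.rec (motive := fun _ => ℕ) (selTN1643 j) rl2721 (Nat.ble 2721 j)) (Nat.ble 2719 j))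

/-- a part of the choice of the part of the table -/
noncomputable def selTN1645 (j : ℕ) : ℕ := (Bool.rec (motive := fun _ => ℕ) rl2722 rl2723 (Nat.ble 2723 j))

/-- a part of the choice of the part of the table -/
noncomputable def selTN1646 (j : ℕ) : ℕ := (Bool.rec (motive := fun _ => ℕ) rl2724 rl2725 (Nat.ble 2725 j))

/-- a part of the choice of the part of the table -/
noncomputable def selTN1647 (j : ℕ) : ℕ := (Bool.rec (motive := fun _ => ℕ) (selTN1645 j) (Bool.rec (motive := fun _ => ℕ) (selTN1646 j) rl2726 (Nat.ble 2726 j)) (Nat.ble 2724 j))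

/-- a part of the choice of the part of the table -/
noncomputable def selTN1648 (j : ℕ) : ℕ := (Bool.rec (motive := fun _ => ℕ) rl2727 rl2728 (Nat.ble 2728 j))

/-- a part of the choice of the part of the table -/
noncomputable def selTN1649 (j : ℕ) : ℕ := (Bool.rec (motive := fun _ => ℕ) rl2729 rl2730 (Nat.ble 2730 j))

/-- a part of the choice of the part of the table -/
noncomputable def selTN1650 (j : ℕ) : ℕ := (Bool.rec (motive := fun _ => ℕ) (selTN1648 j) (Bool.rec (motive := fun _ => ℕ) (selTN1649 j) rl2731 (Nat.ble 2731 j)) (Nat.ble 2729 j))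

/-- a part of the choice of the part of the table -/
noncomputable def selTN1651 (j : ℕ) : ℕ := (Bool.rec (motive := fun _ => ℕ) (Bool.rec (motive := fun _ => ℕ) rl2732 rl2733 (Nat.ble 2733 j)) (Bool.rec (motive := fun _ => ℕ) rl2734 rl2735 (Nat.ble 2735 j)) (Nat.ble 2734 j))

/-- a part of the choice of the part of the table -/
noncomputable def selTN1652 (j : ℕ) : ℕ := (Bool.rec (motive := fun _ => ℕ) (Bool.rec (motive := fun _ => ℕ) (selTN1644 j) (selTN1647 j) (Nat.ble 2722 j)) (Bool.rec (motive := fun _ => ℕ) (selTN1650 j) (selTN1651 j) (Nat.ble 2732 j)) (Nat.ble 2727 j))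

/-- a part of the choice of the part of the table -/
noncomputable def selTN1653 (j : ℕ) : ℕ := (Bool.rec (motive := fun _ => ℕ) rl2736 rl2737 (Nat.ble 2737 j))

/-- a part of the choice of the part of the table -/
noncomputable def selTN1654 (j : ℕ) : ℕ := (Bool.rec (motive := fun _ => ℕ) rl2738 rl2739 (Nat.ble 2739 j))

/-- a part of the choice of the part of the table -/
noncomputable def selTN1655 (j : ℕ) : ℕ := (Bool.rec (motive := fun _ => ℕ) (selTN1653 j) (Bool.rec (motive := fun _ => ℕ) (selTN1654 j) rl2740 (Nat.ble 2740 j)) (Nat.ble 2738 j))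

/-- a part of the choice of the part of the table -/
noncomputable def selTN1656 (j : ℕ) : ℕ := (Bool.rec (motive := fun _ => ℕ) rl2741 rl2742 (Nat.ble 2742 j))

/-- a part of the choice of the part of the table -/
noncomputable def selTN1657 (j : ℕ) : ℕ := (Bool.rec (motive := fun _ => ℕ) rl2743 rl2744 (Nat.ble 2744 j))

/-- a part of the choice of the part of the table -/
noncomputable def selTN1658 (j : ℕ) : ℕ := (Bool.rec (motive := fun _ => ℕ) (selTN1656 j) (Bool.rec (motive := fun _ => ℕ) (selTN1657 j) rl2745 (Nat.ble 2745 j)) (Nat.ble 2743 j))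

/-- a part of the choice of the part of the table -/
noncomputable def selTN1659 (j : ℕ) : ℕ := (Bool.rec (motive := fun _ => ℕ) rl2746 rl2747 (Nat.ble 2747 j))

/-- a part of the choice of the part of the table -/
noncomputable def selTN1660 (j : ℕ) : ℕ := (Bool.rec (motive := fun _ => ℕ) rl2748 rl2749 (Nat.ble 2749 j))

/-- a part of the choice of the part of the table -/
noncomputable def selTN1661 (j : ℕ) : ℕ := (Bool.rec (motive := fun _ => ℕ) (selTN1659 j) (Bool.rec (motive := fun _ => ℕ) (selTN1660 j) rl2750 (Nat.ble 2750 j)) (Nat.ble 2748 j))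

/-- a part of the choice of the part of the table -/
noncomputable def selTN1662 (j : ℕ) : ℕ := (Bool.rec (motive := fun _ => ℕ) (Bool.rec (motive := fun _ => ℕ) rl2751 rl2752 (Nat.ble 2752 j)) (Bool.rec (motive := fun _ => ℕ) rl2753 rl2754 (Nat.ble 2754 j)) (Nat.ble 2753 j))

/-- a part of the choice of the part of the table -/
noncomputable def selTN1663 (j : ℕ) : ℕ := (Bool.rec (motive := fun _ => ℕ) (Bool.rec (motive := fun _ => ℕ) (selTN1655 j) (selTN1658 j) (Nat.ble 2741 j)) (Bool.rec (motive := fun _ => ℕ) (selTN1661 j) (selTN1662 j) (Nat.ble 2751 j)) (Nat.ble 2746 j))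

/-- a part of the choice of the part of the table -/
noncomputable def selTN1664 (j : ℕ) : ℕ := (Bool.rec (motive := fun _ => ℕ) rl2755 rl2756 (Nat.ble 2756 j))

/-- a part of the choice of the part of the table -/
noncomputable def selTN1665 (j : ℕ) : ℕ := (Bool.rec (motive := fun _ => ℕ) rl2757 rl2758 (Nat.ble 2758 j))

/-- a part of the choice of the part of the table -/
noncomputable def selTN1666 (j : ℕ) : ℕ := (Bool.rec (motive := fun _ => ℕ) (selTN1664 j) (Bool.rec (motive := fun _ => ℕ) (selTN1665 j) rl2759 (Nat.ble 2759 j)) (Nat.ble 2757 j))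

/-- a part of the choice of the part of the table -/
noncomputable def selTN1667 (j : ℕ) : ℕ := (Bool.rec (motive := fun _ => ℕ) rl2760 rl2761 (Nat.ble 2761 j))

/-- a part of the choice of the part of the table -/
noncomputable def selTN1668 (j : ℕ) : ℕ := (Bool.rec (motive := fun _ => ℕ) rl2762 rl2763 (Nat.ble 2763 j))

/-- a part of the choice of the part of the table -/
noncomputable def selTN1669 (j : ℕ) : ℕ := (Bool.rec (motive := fun _ => ℕ) (selTN1667 j) (Bool.rec (motive := fun _ => ℕ) (selTN1668 j) rl2764 (Nat.ble 2764 j)) (Nat.ble 2762 j))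

/-- a part of the choice of the part of the table -/
noncomputable def selTN1670 (j : ℕ) : ℕ := (Bool.rec (motive := fun _ => ℕ) rl2765 rl2766 (Nat.ble 2766 j))

/-- a part of the choice of the part of the table -/
noncomputable def selTN1671 (j : ℕ) : ℕ := (Bool.rec (motive := fun _ => ℕ) rl2767 rl2768 (Nat.ble 2768 j))

/-- a part of the choice of the part of the table -/
noncomputable def selTN1672 (j : ℕ) : ℕ := (Bool.rec (motive := fun _ => ℕ) (selTN1670 j) (Bool.rec (motive := fun _ => ℕ) (selTN1671 j) rl2769 (Nat.ble 2769 j)) (Nat.ble 2767 j))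

/-- a part of the choice of the part of the table -/
noncomputable def selTN1673 (j : ℕ) : ℕ := (Bool.rec (motive := fun _ => ℕ) rl2770 (Bool.rec (motive := fun _ => ℕ) rl2771 rl2772 (Nat.ble 2772 j)) (Nat.ble 2771 j))

/-- a part of the choice of the part of the table -/
noncomputable def selTN1674 (j : ℕ) : ℕ := (Bool.rec (motive := fun _ => ℕ) (Bool.rec (motive := fun _ => ℕ) (selTN1666 j) (selTN1669 j) (Nat.ble 2760 j)) (Bool.rec (motive := fun _ => ℕ) (selTN1672 j) (selTN1673 j) (Nat.ble 2770 j)) (Nat.ble 2765 j))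

/-- a part of the choice of the part of the table -/
noncomputable def selTN1675 (j : ℕ) : ℕ := (Bool.rec (motive := fun _ => ℕ) (Bool.rec (motive := fun _ => ℕ) (selTN1641 j) (selTN1652 j) (Nat.ble 2717 j)) (Bool.rec (motive := fun _ => ℕ) (selTN1663 j) (selTN1674 j) (Nat.ble 2755 j)) (Nat.ble 2736 j))

/-- a part of the choice of the part of the table -/
noncomputable def selTN1676 (j : ℕ) : ℕ := (Bool.rec (motive := fun _ => ℕ) rl2773 rl2774 (Nat.ble 2774 j))

/-- a part of the choice of the part of the table -/
noncomputable def selTN1677 (j : ℕ) : ℕ := (Bool.rec (motive := fun _ => ℕ) rl2775 rl2776 (Nat.ble 2776 j))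

/-- a part of the choice of the part of the table -/
noncomputable def selTN1678 (j : ℕ) : ℕ := (Bool.rec (motive := fun _ => ℕ) (selTN1676 j) (Bool.rec (motive := fun _ => ℕ) (selTN1677 j) rl2777 (Nat.ble 2777 j)) (Nat.ble 2775 j))

/-- a part of the choice of the part of the table -/
noncomputable def selTN1679 (j : ℕ) : ℕ := (Bool.rec (motive := fun _ => ℕ) rl2778 rl2779 (Nat.ble 2779 j))

/-- a part of the choice of the part of the table -/
noncomputable def selTN1680 (j : ℕ) : ℕ := (Bool.rec (motive := fun _ => ℕ) rl2780 rl2781 (Nat.ble 2781 j))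

/-- a part of the choice of the part of the table -/
noncomputable def selTN1681 (j : ℕ) : ℕ := (Bool.rec (motive := fun _ => ℕ) (selTN1679 j) (Bool.rec (motive := fun _ => ℕ) (selTN1680 j) rl2782 (Nat.ble 2782 j)) (Nat.ble 2780 j))

/-- a part of the choice of the part of the table -/
noncomputable def selTN1682 (j : ℕ) : ℕ := (Bool.rec (motive := fun _ => ℕ) rl2783 rl2784 (Nat.ble 2784 j))

/-- a part of the choice of the part of the table -/
noncomputable def selTN1683 (j : ℕ) : ℕ := (Bool.rec (motive := fun _ => ℕ) rl2785 rl2786 (Nat.ble 2786 j))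

/-- a part of the choice of the part of the table -/
noncomputable def selTN1684 (j : ℕ) : ℕ := (Bool.rec (motive := fun _ => ℕ) (selTN1682 j) (Bool.rec (motive := fun _ => ℕ) (selTN1683 j) rl2787 (Nat.ble 2787 j)) (Nat.ble 2785 j))

/-- a part of the choice of the part of the table -/
noncomputable def selTN1685 (j : ℕ) : ℕ := (Bool.rec (motive := fun _ => ℕ) (Bool.rec (motive := fun _ => ℕ) rl2788 rl2789 (Nat.ble 2789 j)) (Bool.rec (motive := fun _ => ℕ) rl2790 rl2791 (Nat.ble 2791 j)) (Nat.ble 2790 j))

/-- a part of the choice of the part of the table -/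
noncomputable def selTN1686 (j : ℕ) : ℕ := (Bool.rec (motive := fun _ => ℕ) (Bool.rec (motive := fun _ => ℕ) (selTN1678 j) (selTN1681 j) (Nat.ble 2778 j)) (Bool.rec (motive := fun _ => ℕ) (selTN1684 j) (selTN1685 j) (Nat.ble 2788 j)) (Nat.ble 2783 j))

/-- a part of the choice of the part of the table -/
noncomputable def selTN1687 (j : ℕ) : ℕ := (Bool.rec (motive := fun _ => ℕ) rl2792 rl2793 (Nat.ble 2793 j))

/-- a part of the choice of the part of the table -/
noncomputable def selTN1688 (j : ℕ) : ℕ := (Bool.rec (motive := fun _ => ℕ) rl2794 rl2795 (Nat.ble 2795 j))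

/-- a part of the choice of the part of the table -/
noncomputable def selTN1689 (j : ℕ) : ℕ := (Bool.rec (motive := fun _ => ℕ) (selTN1687 j) (Bool.rec (motive := fun _ => ℕ) (selTN1688 j) rl2796 (Nat.ble 2796 j)) (Nat.ble 2794 j))

/-- a part of the choice of the part of the table -/
noncomputable def selTN1690 (j : ℕ) : ℕ := (Bool.rec (motive := fun _ => ℕ) rl2797 rl2798 (Nat.ble 2798 j))

/-- a part of the choice of the part of the table -/
noncomputable def selTN1691 (j : ℕ) : ℕ := (Bool.rec (motive := fun _ => ℕ) rl2799 rl2800 (Nat.ble 2800 j))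

/-- a part of the choice of the part of the table -/
noncomputable def selTN1692 (j : ℕ) : ℕ := (Bool.rec (motive := fun _ => ℕ) (selTN1690 j) (Bool.rec (motive := fun _ => ℕ) (selTN1691 j) rl2801 (Nat.ble 2801 j)) (Nat.ble 2799 j))

/-- a part of the choice of the part of the table -/
noncomputable def selTN1693 (j : ℕ) : ℕ := (Bool.rec (motive := fun _ => ℕ) rl2802 rl2803 (Nat.ble 2803 j))

/-- a part of the choice of the part of the table -/
noncomputable def selTN1694 (j : ℕ) : ℕ := (Bool.rec (motive := fun _ => ℕ) rl2804 rl2805 (Nat.ble 2805 j))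

/-- a part of the choice of the part of the table -/
noncomputable def selTN1695 (j : ℕ) : ℕ := (Bool.rec (motive := fun _ => ℕ) (selTN1693 j) (Bool.rec (motive := fun _ => ℕ) (selTN1694 j) rl2806 (Nat.ble 2806 j)) (Nat.ble 2804 j))

/-- a part of the choice of the part of the table -/
noncomputable def selTN1696 (j : ℕ) : ℕ := (Bool.rec (motive := fun _ => ℕ) (Bool.rec (motive := fun _ => ℕ) rl2807 rl2808 (Nat.ble 2808 j)) (Bool.rec (motive := fun _ => ℕ) rl2809 rl2810 (Nat.ble 2810 j)) (Nat.ble 2809 j))

/-- a part of the choice of the part of the table -/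
noncomputable def selTN1697 (j : ℕ) : ℕ := (Bool.rec (motive := fun _ => ℕ) (Bool.rec (motive := fun _ => ℕ) (selTN1689 j) (selTN1692 j) (Nat.ble 2797 j)) (Bool.rec (motive := fun _ => ℕ) (selTN1695 j) (selTN1696 j) (Nat.ble 2807 j)) (Nat.ble 2802 j))

/-- a part of the choice of the part of the table -/
noncomputable def selTN1698 (j : ℕ) : ℕ := (Bool.rec (motive := fun _ => ℕ) rl2811 rl2812 (Nat.ble 2812 j))

/-- a part of the choice of the part of the table -/
noncomputable def selTN1699 (j : ℕ) : ℕ := (Bool.rec (motive := fun _ => ℕ) rl2813 rl2814 (Nat.ble 2814 j))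

/-- a part of the choice of the part of the table -/
noncomputable def selTN1700 (j : ℕ) : ℕ := (Bool.rec (motive := fun _ => ℕ) (selTN1698 j) (Bool.rec (motive := fun _ => ℕ) (selTN1699 j) rl2815 (Nat.ble 2815 j)) (Nat.ble 2813 j))

/-- a part of the choice of the part of the table -/
noncomputable def selTN1701 (j : ℕ) : ℕ := (Bool.rec (motive := fun _ => ℕ) rl2816 rl2817 (Nat.ble 2817 j))

/-- a part of the choice of the part of the table -/
noncomputable def selTN1702 (j : ℕ) : ℕ := (Bool.rec (motive := fun _ => ℕ) rl2818 rl2819 (Nat.ble 2819 j))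

/-- a part of the choice of the part of the table -/
noncomputable def selTN1703 (j : ℕ) : ℕ := (Bool.rec (motive := fun _ => ℕ) (selTN1701 j) (Bool.rec (motive := fun _ => ℕ) (selTN1702 j) rl2820 (Nat.ble 2820 j)) (Nat.ble 2818 j))

/-- a part of the choice of the part of the table -/
noncomputable def selTN1704 (j : ℕ) : ℕ := (Bool.rec (motive := fun _ => ℕ) rl2821 rl2822 (Nat.ble 2822 j))

/-- a part of the choice of the part of the table -/
noncomputable def selTN1705 (j : ℕ) : ℕ := (Bool.rec (motive := fun _ => ℕ) rl2823 rl2824 (Nat.ble 2824 j))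

/-- a part of the choice of the part of the table -/
noncomputable def selTN1706 (j : ℕ) : ℕ := (Bool.rec (motive := fun _ => ℕ) (selTN1704 j) (Bool.rec (motive := fun _ => ℕ) (selTN1705 j) rl2825 (Nat.ble 2825 j)) (Nat.ble 2823 j))

/-- a part of the choice of the part of the table -/
noncomputable def selTN1707 (j : ℕ) : ℕ := (Bool.rec (motive := fun _ => ℕ) (Bool.rec (motive := fun _ => ℕ) rl2826 rl2827 (Nat.ble 2827 j)) (Bool.rec (motive := fun _ => ℕ) rl2828 rl2829 (Nat.ble 2829 j)) (Nat.ble 2828 j))

/-- a part of the choice of the part of the table -/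
noncomputable def selTN1708 (j : ℕ) : ℕ := (Bool.rec (motive := fun _ => ℕ) (Bool.rec (motive := fun _ => ℕ) (selTN1700 j) (selTN1703 j) (Nat.ble 2816 j)) (Bool.rec (motive := fun _ => ℕ) (selTN1706 j) (selTN1707 j) (Nat.ble 2826 j)) (Nat.ble 2821 j))

/-- a part of the choice of the part of the table -/
noncomputable def selTN1709 (j : ℕ) : ℕ := (Bool.rec (motive := fun _ => ℕ) rl2830 rl2831 (Nat.ble 2831 j))

/-- a part of the choice of the part of the table -/
noncomputable def selTN1710 (j : ℕ) : ℕ := (Bool.rec (motive := fun _ => ℕ) rl2832 rl2833 (Nat.ble 2833 j))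

/-- a part of the choice of the part of the table -/
noncomputable def selTN1711 (j : ℕ) : ℕ := (Bool.rec (motive := fun _ => ℕ) (selTN1709 j) (Bool.rec (motive := fun _ => ℕ) (selTN1710 j) rl2834 (Nat.ble 2834 j)) (Nat.ble 2832 j))

/-- a part of the choice of the part of the table -/
noncomputable def selTN1712 (j : ℕ) : ℕ := (Bool.rec (motive := fun _ => ℕ) rl2835 rl2836 (Nat.ble 2836 j))

/-- a part of the choice of the part of the table -/
noncomputable def selTN1713 (j : ℕ) : ℕ := (Bool.rec (motive := fun _ => ℕ) rl2837 rl2838 (Nat.ble 2838 j))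

/-- a part of the choice of the part of the table -/
noncomputable def selTN1714 (j : ℕ) : ℕ := (Bool.rec (motive := fun _ => ℕ) (selTN1712 j) (Bool.rec (motive := fun _ => ℕ) (selTN1713 j) rl2839 (Nat.ble 2839 j)) (Nat.ble 2837 j))

/-- a part of the choice of the part of the table -/
noncomputable def selTN1715 (j : ℕ) : ℕ := (Bool.rec (motive := fun _ => ℕ) rl2840 rl2841 (Nat.ble 2841 j))

/-- a part of the choice of the part of the table -/
noncomputable def selTN1716 (j : ℕ) : ℕ := (Bool.rec (motive := fun _ => ℕ) rl2842 rl2843 (Nat.ble 2843 j))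

/-- a part of the choice of the part of the table -/
noncomputable def selTN1717 (j : ℕ) : ℕ := (Bool.rec (motive := fun _ => ℕ) (selTN1715 j) (Bool.rec (motive := fun _ => ℕ) (selTN1716 j) rl2844 (Nat.ble 2844 j)) (Nat.ble 2842 j))

/-- a part of the choice of the part of the table -/
noncomputable def selTN1718 (j : ℕ) : ℕ := (Bool.rec (motive := fun _ => ℕ) rl2845 (Bool.rec (motive := fun _ => ℕ) rl2846 rl2847 (Nat.ble 2847 j)) (Nat.ble 2846 j))

/-- a part of the choice of the part of the table -/
noncomputable def selTN1719 (j : ℕ) : ℕ := (Bool.rec (motive := fun _ => ℕ) (Bool.rec (motive := fun _ => ℕ) (selTN1711 j) (selTN1714 j) (Nat.ble 2835 j)) (Bool.rec (motive := fun _ => ℕ) (selTN1717 j) (selTN1718 j) (Nat.ble 2845 j)) (Nat.ble 2840 j))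

/-- a part of the choice of the part of the table -/
noncomputable def selTN1720 (j : ℕ) : ℕ := (Bool.rec (motive := fun _ => ℕ) (Bool.rec (motive := fun _ => ℕ) (selTN1686 j) (selTN1697 j) (Nat.ble 2792 j)) (Bool.rec (motive := fun _ => ℕ) (selTN1708 j) (selTN1719 j) (Nat.ble 2830 j)) (Nat.ble 2811 j))

/-- a part of the choice of the part of the table -/
noncomputable def selTN1721 (j : ℕ) : ℕ := (Bool.rec (motive := fun _ => ℕ) rl2848 rl2849 (Nat.ble 2849 j))

/-- a part of the choice of the part of the table -/
noncomputable def selTN1722 (j : ℕ) : ℕ := (Bool.rec (motive := fun _ => ℕ) rl2850 rl2851 (Nat.ble 2851 j))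

/-- a part of the choice of the part of the table -/
noncomputable def selTN1723 (j : ℕ) : ℕ := (Bool.rec (motive := fun _ => ℕ) (selTN1721 j) (Bool.rec (motive := fun _ => ℕ) (selTN1722 j) rl2852 (Nat.ble 2852 j)) (Nat.ble 2850 j))

/-- a part of the choice of the part of the table -/
noncomputable def selTN1724 (j : ℕ) : ℕ := (Bool.rec (motive := fun _ => ℕ) rl2853 rl2854 (Nat.ble 2854 j))

/-- a part of the choice of the part of the table -/
noncomputable def selTN1725 (j : ℕ) : ℕ := (Bool.rec (motive := fun _ => ℕ) rl2855 rl2856 (Nat.ble 2856 j))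

/-- a part of the choice of the part of the table -/
noncomputable def selTN1726 (j : ℕ) : ℕ := (Bool.rec (motive := fun _ => ℕ) (selTN1724 j) (Bool.rec (motive := fun _ => ℕ) (selTN1725 j) rl2857 (Nat.ble 2857 j)) (Nat.ble 2855 j))

/-- a part of the choice of the part of the table -/
noncomputable def selTN1727 (j : ℕ) : ℕ := (Bool.rec (motive := fun _ => ℕ) rl2858 rl2859 (Nat.ble 2859 j))

/-- a part of the choice of the part of the table -/
noncomputable def selTN1728 (j : ℕ) : ℕ := (Bool.rec (motive := fun _ => ℕ) rl2860 rl2861 (Nat.ble 2861 j))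

/-- a part of the choice of the part of the table -/
noncomputable def selTN1729 (j : ℕ) : ℕ := (Bool.rec (motive := fun _ => ℕ) (selTN1727 j) (Bool.rec (motive := fun _ => ℕ) (selTN1728 j) rl2862 (Nat.ble 2862 j)) (Nat.ble 2860 j))

/-- a part of the choice of the part of the table -/
noncomputable def selTN1730 (j : ℕ) : ℕ := (Bool.rec (motive := fun _ => ℕ) (Bool.rec (motive := fun _ => ℕ) rl2863 rl2864 (Nat.ble 2864 j)) (Bool.rec (motive := fun _ => ℕ) rl2865 rl2866 (Nat.ble 2866 j)) (Nat.ble 2865 j))

/-- a part of the choice of the part of the table -/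
noncomputable def selTN1731 (j : ℕ) : ℕ := (Bool.rec (motive := fun _ => ℕ) (Bool.rec (motive := fun _ => ℕ) (selTN1723 j) (selTN1726 j) (Nat.ble 2853 j)) (Bool.rec (motive := fun _ => ℕ) (selTN1729 j) (selTN1730 j) (Nat.ble 2863 j)) (Nat.ble 2858 j))

/-- a part of the choice of the part of the table -/
noncomputable def selTN1732 (j : ℕ) : ℕ := (Bool.rec (motive := fun _ => ℕ) rl2867 rl2868 (Nat.ble 2868 j))

/-- a part of the choice of the part of the table -/
noncomputable def selTN1733 (j : ℕ) : ℕ := (Bool.rec (motive := fun _ => ℕ) rl2869 rl2870 (Nat.ble 2870 j))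

/-- a part of the choice of the part of the table -/
noncomputable def selTN1734 (j : ℕ) : ℕ := (Bool.rec (motive := fun _ => ℕ) (selTN1732 j) (Bool.rec (motive := fun _ => ℕ) (selTN1733 j) rl2871 (Nat.ble 2871 j)) (Nat.ble 2869 j))

/-- a part of the choice of the part of the table -/
noncomputable def selTN1735 (j : ℕ) : ℕ := (Bool.rec (motive := fun _ => ℕ) rl2872 rl2873 (Nat.ble 2873 j))

/-- a part of the choice of the part of the table -/
noncomputable def selTN1736 (j : ℕ) : ℕ := (Bool.rec (motive := fun _ => ℕ) rl2874 rl2875 (Nat.ble 2875 j))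

/-- a part of the choice of the part of the table -/
noncomputable def selTN1737 (j : ℕ) : ℕ := (Bool.rec (motive := fun _ => ℕ) (selTN1735 j) (Bool.rec (motive := fun _ => ℕ) (selTN1736 j) rl2876 (Nat.ble 2876 j)) (Nat.ble 2874 j))

/-- a part of the choice of the part of the table -/
noncomputable def selTN1738 (j : ℕ) : ℕ := (Bool.rec (motive := fun _ => ℕ) rl2877 rl2878 (Nat.ble 2878 j))

/-- a part of the choice of the part of the table -/
noncomputable def selTN1739 (j : ℕ) : ℕ := (Bool.rec (motive := fun _ => ℕ) rl2879 rl2880 (Nat.ble 2880 j))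

/-- a part of the choice of the part of the table -/
noncomputable def selTN1740 (j : ℕ) : ℕ := (Bool.rec (motive := fun _ => ℕ) (selTN1738 j) (Bool.rec (motive := fun _ => ℕ) (selTN1739 j) rl2881 (Nat.ble 2881 j)) (Nat.ble 2879 j))

/-- a part of the choice of the part of the table -/
noncomputable def selTN1741 (j : ℕ) : ℕ := (Bool.rec (motive := fun _ => ℕ) (Bool.rec (motive := fun _ => ℕ) rl2882 rl2883 (Nat.ble 2883 j)) (Bool.rec (motive := fun _ => ℕ) rl2884 rl2885 (Nat.ble 2885 j)) (Nat.ble 2884 j))

/-- a part of the choice of the part of the table -/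
noncomputable def selTN1742 (j : ℕ) : ℕ := (Bool.rec (motive := fun _ => ℕ) (Bool.rec (motive := fun _ => ℕ) (selTN1734 j) (selTN1737 j) (Nat.ble 2872 j)) (Bool.rec (motive := fun _ => ℕ) (selTN1740 j) (selTN1741 j) (Nat.ble 2882 j)) (Nat.ble 2877 j))

/-- a part of the choice of the part of the table -/
noncomputable def selTN1743 (j : ℕ) : ℕ := (Bool.rec (motive := fun _ => ℕ) rl2886 rl2887 (Nat.ble 2887 j))

/-- a part of the choice of the part of the table -/
noncomputable def selTN1744 (j : ℕ) : ℕ := (Bool.rec (motive := fun _ => ℕ) rl2888 rl2889 (Nat.ble 2889 j))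

/-- a part of the choice of the part of the table -/
noncomputable def selTN1745 (j : ℕ) : ℕ := (Bool.rec (motive := fun _ => ℕ) (selTN1743 j) (Bool.rec (motive := fun _ => ℕ) (selTN1744 j) rl2890 (Nat.ble 2890 j)) (Nat.ble 2888 j))

/-- a part of the choice of the part of the table -/
noncomputable def selTN1746 (j : ℕ) : ℕ := (Bool.rec (motive := fun _ => ℕ) rl2891 rl2892 (Nat.ble 2892 j))

/-- a part of the choice of the part of the table -/
noncomputable def selTN1747 (j : ℕ) : ℕ := (Bool.rec (motive := fun _ => ℕ) rl2893 rl2894 (Nat.ble 2894 j))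

/-- a part of the choice of the part of the table -/
noncomputable def selTN1748 (j : ℕ) : ℕ := (Bool.rec (motive := fun _ => ℕ) (selTN1746 j) (Bool.rec (motive := fun _ => ℕ) (selTN1747 j) rl2895 (Nat.ble 2895 j)) (Nat.ble 2893 j))

/-- a part of the choice of the part of the table -/
noncomputable def selTN1749 (j : ℕ) : ℕ := (Bool.rec (motive := fun _ => ℕ) rl2896 rl2897 (Nat.ble 2897 j))

/-- a part of the choice of the part of the table -/
noncomputable def selTN1750 (j : ℕ) : ℕ := (Bool.rec (motive := fun _ => ℕ) rl2898 rl2899 (Nat.ble 2899 j))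

/-- a part of the choice of the part of the table -/
noncomputable def selTN1751 (j : ℕ) : ℕ := (Bool.rec (motive := fun _ => ℕ) (selTN1749 j) (Bool.rec (motive := fun _ => ℕ) (selTN1750 j) rl2900 (Nat.ble 2900 j)) (Nat.ble 2898 j))

/-- a part of the choice of the part of the table -/
noncomputable def selTN1752 (j : ℕ) : ℕ := (Bool.rec (motive := fun _ => ℕ) (Bool.rec (motive := fun _ => ℕ) rl2901 rl2902 (Nat.ble 2902 j)) (Bool.rec (motive := fun _ => ℕ) rl2903 rl2904 (Nat.ble 2904 j)) (Nat.ble 2903 j))

/-- a part of the choice of the part of the table -/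
noncomputable def selTN1753 (j : ℕ) : ℕ := (Bool.rec (motive := fun _ => ℕ) (Bool.rec (motive := fun _ => ℕ) (selTN1745 j) (selTN1748 j) (Nat.ble 2891 j)) (Bool.rec (motive := fun _ => ℕ) (selTN1751 j) (selTN1752 j) (Nat.ble 2901 j)) (Nat.ble 2896 j))

/-- a part of the choice of the part of the table -/
noncomputable def selTN1754 (j : ℕ) : ℕ := (Bool.rec (motive := fun _ => ℕ) rl2905 rl2906 (Nat.ble 2906 j))

/-- a part of the choice of the part of the table -/
noncomputable def selTN1755 (j : ℕ) : ℕ := (Bool.rec (motive := fun _ => ℕ) rl2907 rl2908 (Nat.ble 2908 j))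

/-- a part of the choice of the part of the table -/
noncomputable def selTN1756 (j : ℕ) : ℕ := (Bool.rec (motive := fun _ => ℕ) (selTN1754 j) (Bool.rec (motive := fun _ => ℕ) (selTN1755 j) rl2909 (Nat.ble 2909 j)) (Nat.ble 2907 j))

/-- a part of the choice of the part of the table -/
noncomputable def selTN1757 (j : ℕ) : ℕ := (Bool.rec (motive := fun _ => ℕ) rl2910 rl2911 (Nat.ble 2911 j))

/-- a part of the choice of the part of the table -/
noncomputable def selTN1758 (j : ℕ) : ℕ := (Bool.rec (motive := fun _ => ℕ) rl2912 rl2913 (Nat.ble 2913 j))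

/-- a part of the choice of the part of the table -/
noncomputable def selTN1759 (j : ℕ) : ℕ := (Bool.rec (motive := fun _ => ℕ) (selTN1757 j) (Bool.rec (motive := fun _ => ℕ) (selTN1758 j) rl2914 (Nat.ble 2914 j)) (Nat.ble 2912 j))

/-- a part of the choice of the part of the table -/
noncomputable def selTN1760 (j : ℕ) : ℕ := (Bool.rec (motive := fun _ => ℕ) rl2915 rl2916 (Nat.ble 2916 j))

/-- a part of the choice of the part of the table -/
noncomputable def selTN1761 (j : ℕ) : ℕ := (Bool.rec (motive := fun _ => ℕ) rl2917 rl2918 (Nat.ble 2918 j))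

/-- a part of the choice of the part of the table -/
noncomputable def selTN1762 (j : ℕ) : ℕ := (Bool.rec (motive := fun _ => ℕ) (selTN1760 j) (Bool.rec (motive := fun _ => ℕ) (selTN1761 j) rl2919 (Nat.ble 2919 j)) (Nat.ble 2917 j))

/-- a part of the choice of the part of the table -/
noncomputable def selTN1763 (j : ℕ) : ℕ := (Bool.rec (motive := fun _ => ℕ) rl2920 (Bool.rec (motive := fun _ => ℕ) rl2921 rl2922 (Nat.ble 2922 j)) (Nat.ble 2921 j))

/-- a part of the choice of the part of the table -/
noncomputable def selTN1764 (j : ℕ) : ℕ := (Bool.rec (motive := fun _ => ℕ) (Bool.rec (motive := fun _ => ℕ) (selTN1756 j) (selTN1759 j) (Nat.ble 2910 j)) (Bool.rec (motive := fun _ => ℕ) (selTN1762 j) (selTN1763 j) (Nat.ble 2920 j)) (Nat.ble 2915 j))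

/-- a part of the choice of the part of the table -/
noncomputable def selTN1765 (j : ℕ) : ℕ := (Bool.rec (motive := fun _ => ℕ) (Bool.rec (motive := fun _ => ℕ) (selTN1731 j) (selTN1742 j) (Nat.ble 2867 j)) (Bool.rec (motive := fun _ => ℕ) (selTN1753 j) (selTN1764 j) (Nat.ble 2905 j)) (Nat.ble 2886 j))

/-- a part of the choice of the part of the table -/
noncomputable def selTN1766 (j : ℕ) : ℕ := (Bool.rec (motive := fun _ => ℕ) rl2923 rl2924 (Nat.ble 2924 j))

/-- a part of the choice of the part of the table -/
noncomputable def selTN1767 (j : ℕ) : ℕ := (Bool.rec (motive := fun _ => ℕ) rl2925 rl2926 (Nat.ble 2926 j))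

/-- a part of the choice of the part of the table -/
noncomputable def selTN1768 (j : ℕ) : ℕ := (Bool.rec (motive := fun _ => ℕ) (selTN1766 j) (Bool.rec (motive := fun _ => ℕ) (selTN1767 j) rl2927 (Nat.ble 2927 j)) (Nat.ble 2925 j))

/-- a part of the choice of the part of the table -/
noncomputable def selTN1769 (j : ℕ) : ℕ := (Bool.rec (motive := fun _ => ℕ) rl2928 rl2929 (Nat.ble 2929 j))

/-- a part of the choice of the part of the table -/
noncomputable def selTN1770 (j : ℕ) : ℕ := (Bool.rec (motive := fun _ => ℕ) rl2930 rl2931 (Nat.ble 2931 j))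

/-- a part of the choice of the part of the table -/
noncomputable def selTN1771 (j : ℕ) : ℕ := (Bool.rec (motive := fun _ => ℕ) (selTN1769 j) (Bool.rec (motive := fun _ => ℕ) (selTN1770 j) rl2932 (Nat.ble 2932 j)) (Nat.ble 2930 j))

/-- a part of the choice of the part of the table -/
noncomputable def selTN1772 (j : ℕ) : ℕ := (Bool.rec (motive := fun _ => ℕ) rl2933 rl2934 (Nat.ble 2934 j))

/-- a part of the choice of the part of the table -/
noncomputable def selTN1773 (j : ℕ) : ℕ := (Bool.rec (motive := fun _ => ℕ) rl2935 rl2936 (Nat.ble 2936 j))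

/-- a part of the choice of the part of the table -/
noncomputable def selTN1774 (j : ℕ) : ℕ := (Bool.rec (motive := fun _ => ℕ) (selTN1772 j) (Bool.rec (motive := fun _ => ℕ) (selTN1773 j) rl2937 (Nat.ble 2937 j)) (Nat.ble 2935 j))

/-- a part of the choice of the part of the table -/
noncomputable def selTN1775 (j : ℕ) : ℕ := (Bool.rec (motive := fun _ => ℕ) (Bool.rec (motive := fun _ => ℕ) rl2938 rl2939 (Nat.ble 2939 j)) (Bool.rec (motive := fun _ => ℕ) rl2940 rl2941 (Nat.ble 2941 j)) (Nat.ble 2940 j))

/-- a part of the choice of the part of the table -/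
noncomputable def selTN1776 (j : ℕ) : ℕ := (Bool.rec (motive := fun _ => ℕ) (Bool.rec (motive := fun _ => ℕ) (selTN1768 j) (selTN1771 j) (Nat.ble 2928 j)) (Bool.rec (motive := fun _ => ℕ) (selTN1774 j) (selTN1775 j) (Nat.ble 2938 j)) (Nat.ble 2933 j))

/-- a part of the choice of the part of the table -/
noncomputable def selTN1777 (j : ℕ) : ℕ := (Bool.rec (motive := fun _ => ℕ) rl2942 rl2943 (Nat.ble 2943 j))

/-- a part of the choice of the part of the table -/
noncomputable def selTN1778 (j : ℕ) : ℕ := (Bool.rec (motive := fun _ => ℕ) rl2944 rl2945 (Nat.ble 2945 j))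

/-- a part of the choice of the part of the table -/
noncomputable def selTN1779 (j : ℕ) : ℕ := (Bool.rec (motive := fun _ => ℕ) (selTN1777 j) (Bool.rec (motive := fun _ => ℕ) (selTN1778 j) rl2946 (Nat.ble 2946 j)) (Nat.ble 2944 j))

/-- a part of the choice of the part of the table -/
noncomputable def selTN1780 (j : ℕ) : ℕ := (Bool.rec (motive := fun _ => ℕ) rl2947 rl2948 (Nat.ble 2948 j))

/-- a part of the choice of the part of the table -/
noncomputable def selTN1781 (j : ℕ) : ℕ := (Bool.rec (motive := fun _ => ℕ) rl2949 rl2950 (Nat.ble 2950 j))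

/-- a part of the choice of the part of the table -/
noncomputable def selTN1782 (j : ℕ) : ℕ := (Bool.rec (motive := fun _ => ℕ) (selTN1780 j) (Bool.rec (motive := fun _ => ℕ) (selTN1781 j) rl2951 (Nat.ble 2951 j)) (Nat.ble 2949 j))

/-- a part of the choice of the part of the table -/
noncomputable def selTN1783 (j : ℕ) : ℕ := (Bool.rec (motive := fun _ => ℕ) rl2952 rl2953 (Nat.ble 2953 j))

/-- a part of the choice of the part of the table -/
noncomputable def selTN1784 (j : ℕ) : ℕ := (Bool.rec (motive := fun _ => ℕ) rl2954 rl2955 (Nat.ble 2955 j))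

/-- a part of the choice of the part of the table -/
noncomputable def selTN1785 (j : ℕ) : ℕ := (Bool.rec (motive := fun _ => ℕ) (selTN1783 j) (Bool.rec (motive := fun _ => ℕ) (selTN1784 j) rl2956 (Nat.ble 2956 j)) (Nat.ble 2954 j))

/-- a part of the choice of the part of the table -/
noncomputable def selTN1786 (j : ℕ) : ℕ := (Bool.rec (motive := fun _ => ℕ) (Bool.rec (motive := fun _ => ℕ) rl2957 rl2958 (Nat.ble 2958 j)) (Bool.rec (motive := fun _ => ℕ) rl2959 rl2960 (Nat.ble 2960 j)) (Nat.ble 2959 j))

/-- a part of the choice of the part of the table -/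
noncomputable def selTN1787 (j : ℕ) : ℕ := (Bool.rec (motive := fun _ => ℕ) (Bool.rec (motive := fun _ => ℕ) (selTN1779 j) (selTN1782 j) (Nat.ble 2947 j)) (Bool.rec (motive := fun _ => ℕ) (selTN1785 j) (selTN1786 j) (Nat.ble 2957 j)) (Nat.ble 2952 j))

/-- a part of the choice of the part of the table -/
noncomputable def selTN1788 (j : ℕ) : ℕ := (Bool.rec (motive := fun _ => ℕ) rl2961 rl2962 (Nat.ble 2962 j))

/-- a part of the choice of the part of the table -/
noncomputable def selTN1789 (j : ℕ) : ℕ := (Bool.rec (motive := fun _ => ℕ) rl2963 rl2964 (Nat.ble 2964 j))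

/-- a part of the choice of the part of the table -/
noncomputable def selTN1790 (j : ℕ) : ℕ := (Bool.rec (motive := fun _ => ℕ) (selTN1788 j) (Bool.rec (motive := fun _ => ℕ) (selTN1789 j) rl2965 (Nat.ble 2965 j)) (Nat.ble 2963 j))

/-- a part of the choice of the part of the table -/
noncomputable def selTN1791 (j : ℕ) : ℕ := (Bool.rec (motive := fun _ => ℕ) rl2966 rl2967 (Nat.ble 2967 j))

/-- a part of the choice of the part of the table -/
noncomputable def selTN1792 (j : ℕ) : ℕ := (Bool.rec (motive := fun _ => ℕ) rl2968 rl2969 (Nat.ble 2969 j))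

/-- a part of the choice of the part of the table -/
noncomputable def selTN1793 (j : ℕ) : ℕ := (Bool.rec (motive := fun _ => ℕ) (selTN1791 j) (Bool.rec (motive := fun _ => ℕ) (selTN1792 j) rl2970 (Nat.ble 2970 j)) (Nat.ble 2968 j))

/-- a part of the choice of the part of the table -/
noncomputable def selTN1794 (j : ℕ) : ℕ := (Bool.rec (motive := fun _ => ℕ) rl2971 rl2972 (Nat.ble 2972 j))

/-- a part of the choice of the part of the table -/
noncomputable def selTN1795 (j : ℕ) : ℕ := (Bool.rec (motive := fun _ => ℕ) rl2973 rl2974 (Nat.ble 2974 j))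

/-- a part of the choice of the part of the table -/
noncomputable def selTN1796 (j : ℕ) : ℕ := (Bool.rec (motive := fun _ => ℕ) (selTN1794 j) (Bool.rec (motive := fun _ => ℕ) (selTN1795 j) rl2975 (Nat.ble 2975 j)) (Nat.ble 2973 j))

/-- a part of the choice of the part of the table -/
noncomputable def selTN1797 (j : ℕ) : ℕ := (Bool.rec (motive := fun _ => ℕ) (Bool.rec (motive := fun _ => ℕ) rl2976 rl2977 (Nat.ble 2977 j)) (Bool.rec (motive := fun _ => ℕ) rl2978 rl2979 (Nat.ble 2979 j)) (Nat.ble 2978 j))

/-- a part of the choice of the part of the table -/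
noncomputable def selTN1798 (j : ℕ) : ℕ := (Bool.rec (motive := fun _ => ℕ) (Bool.rec (motive := fun _ => ℕ) (selTN1790 j) (selTN1793 j) (Nat.ble 2966 j)) (Bool.rec (motive := fun _ => ℕ) (selTN1796 j) (selTN1797 j) (Nat.ble 2976 j)) (Nat.ble 2971 j))

/-- a part of the choice of the part of the table -/
noncomputable def selTN1799 (j : ℕ) : ℕ := (Bool.rec (motive := fun _ => ℕ) rl2980 rl2981 (Nat.ble 2981 j))

/-- a part of the choice of the part of the table -/
noncomputable def selTN1800 (j : ℕ) : ℕ := (Bool.rec (motive := fun _ => ℕ) rl2982 rl2983 (Nat.ble 2983 j))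

/-- a part of the choice of the part of the table -/
noncomputable def selTN1801 (j : ℕ) : ℕ := (Bool.rec (motive := fun _ => ℕ) (selTN1799 j) (Bool.rec (motive := fun _ => ℕ) (selTN1800 j) rl2984 (Nat.ble 2984 j)) (Nat.ble 2982 j))

/-- a part of the choice of the part of the table -/
noncomputable def selTN1802 (j : ℕ) : ℕ := (Bool.rec (motive := fun _ => ℕ) rl2985 rl2986 (Nat.ble 2986 j))

/-- a part of the choice of the part of the table -/
noncomputable def selTN1803 (j : ℕ) : ℕ := (Bool.rec (motive := fun _ => ℕ) rl2987 rl2988 (Nat.ble 2988 j))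

/-- a part of the choice of the part of the table -/
noncomputable def selTN1804 (j : ℕ) : ℕ := (Bool.rec (motive := fun _ => ℕ) (selTN1802 j) (Bool.rec (motive := fun _ => ℕ) (selTN1803 j) rl2989 (Nat.ble 2989 j)) (Nat.ble 2987 j))

/-- a part of the choice of the part of the table -/
noncomputable def selTN1805 (j : ℕ) : ℕ := (Bool.rec (motive := fun _ => ℕ) rl2990 rl2991 (Nat.ble 2991 j))

/-- a part of the choice of the part of the table -/
noncomputable def selTN1806 (j : ℕ) : ℕ := (Bool.rec (motive := fun _ => ℕ) rl2992 rl2993 (Nat.ble 2993 j))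

/-- a part of the choice of the part of the table -/
noncomputable def selTN1807 (j : ℕ) : ℕ := (Bool.rec (motive := fun _ => ℕ) (selTN1805 j) (Bool.rec (motive := fun _ => ℕ) (selTN1806 j) rl2994 (Nat.ble 2994 j)) (Nat.ble 2992 j))

/-- a part of the choice of the part of the table -/
noncomputable def selTN1808 (j : ℕ) : ℕ := (Bool.rec (motive := fun _ => ℕ) rl2995 (Bool.rec (motive := fun _ => ℕ) rl2996 rl2997 (Nat.ble 2997 j)) (Nat.ble 2996 j))

/-- a part of the choice of the part of the table -/
noncomputable def selTN1809 (j : ℕ) : ℕ := (Bool.rec (motive := fun _ => ℕ) (Bool.rec (motive := fun _ => ℕ) (selTN1801 j) (selTN1804 j) (Nat.ble 2985 j)) (Bool.rec (motive := fun _ => ℕ) (selTN1807 j) (selTN1808 j) (Nat.ble 2995 j)) (Nat.ble 2990 j))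

/-- a part of the choice of the part of the table -/
noncomputable def selTN1810 (j : ℕ) : ℕ := (Bool.rec (motive := fun _ => ℕ) (Bool.rec (motive := fun _ => ℕ) (selTN1776 j) (selTN1787 j) (Nat.ble 2942 j)) (Bool.rec (motive := fun _ => ℕ) (selTN1798 j) (selTN1809 j) (Nat.ble 2980 j)) (Nat.ble 2961 j))

/-- a part of the choice of the part of the table -/
noncomputable def selTN1811 (j : ℕ) : ℕ := (Bool.rec (motive := fun _ => ℕ) (Bool.rec (motive := fun _ => ℕ) (selTN1675 j) (selTN1720 j) (Nat.ble 2773 j)) (Bool.rec (motive := fun _ => ℕ) (selTN1765 j) (selTN1810 j) (Nat.ble 2923 j)) (Nat.ble 2848 j))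

/-- a part of the choice of the part of the table -/
noncomputable def selTN1812 (j : ℕ) : ℕ := (Bool.rec (motive := fun _ => ℕ) rl2998 rl2999 (Nat.ble 2999 j))

/-- a part of the choice of the part of the table -/
noncomputable def selTN1813 (j : ℕ) : ℕ := (Bool.rec (motive := fun _ => ℕ) rl3000 rl3001 (Nat.ble 3001 j))

/-- a part of the choice of the part of the table -/
noncomputable def selTN1814 (j : ℕ) : ℕ := (Bool.rec (motive := fun _ => ℕ) (selTN1812 j) (Bool.rec (motive := fun _ => ℕ) (selTN1813 j) rl3002 (Nat.ble 3002 j)) (Nat.ble 3000 j))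

/-- a part of the choice of the part of the table -/
noncomputable def selTN1815 (j : ℕ) : ℕ := (Bool.rec (motive := fun _ => ℕ) rl3003 rl3004 (Nat.ble 3004 j))

/-- a part of the choice of the part of the table -/
noncomputable def selTN1816 (j : ℕ) : ℕ := (Bool.rec (motive := fun _ => ℕ) rl3005 rl3006 (Nat.ble 3006 j))

/-- a part of the choice of the part of the table -/
noncomputable def selTN1817 (j : ℕ) : ℕ := (Bool.rec (motive := fun _ => ℕ) (selTN1815 j) (Bool.rec (motive := fun _ => ℕ) (selTN1816 j) rl3007 (Nat.ble 3007 j)) (Nat.ble 3005 j))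

/-- a part of the choice of the part of the table -/
noncomputable def selTN1818 (j : ℕ) : ℕ := (Bool.rec (motive := fun _ => ℕ) rl3008 rl3009 (Nat.ble 3009 j))

/-- a part of the choice of the part of the table -/
noncomputable def selTN1819 (j : ℕ) : ℕ := (Bool.rec (motive := fun _ => ℕ) rl3010 rl3011 (Nat.ble 3011 j))

/-- a part of the choice of the part of the table -/
noncomputable def selTN1820 (j : ℕ) : ℕ := (Bool.rec (motive := fun _ => ℕ) (selTN1818 j) (Bool.rec (motive := fun _ => ℕ) (selTN1819 j) rl3012 (Nat.ble 3012 j)) (Nat.ble 3010 j))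

/-- a part of the choice of the part of the table -/
noncomputable def selTN1821 (j : ℕ) : ℕ := (Bool.rec (motive := fun _ => ℕ) (Bool.rec (motive := fun _ => ℕ) rl3013 rl3014 (Nat.ble 3014 j)) (Bool.rec (motive := fun _ => ℕ) rl3015 rl3016 (Nat.ble 3016 j)) (Nat.ble 3015 j))

/-- a part of the choice of the part of the table -/
noncomputable def selTN1822 (j : ℕ) : ℕ := (Bool.rec (motive := fun _ => ℕ) (Bool.rec (motive := fun _ => ℕ) (selTN1814 j) (selTN1817 j) (Nat.ble 3003 j)) (Bool.rec (motive := fun _ => ℕ) (selTN1820 j) (selTN1821 j) (Nat.ble 3013 j)) (Nat.ble 3008 j))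

/-- a part of the choice of the part of the table -/
noncomputable def selTN1823 (j : ℕ) : ℕ := (Bool.rec (motive := fun _ => ℕ) rl3017 rl3018 (Nat.ble 3018 j))

/-- a part of the choice of the part of the table -/
noncomputable def selTN1824 (j : ℕ) : ℕ := (Bool.rec (motive := fun _ => ℕ) rl3019 rl3020 (Nat.ble 3020 j))

/-- a part of the choice of the part of the table -/
noncomputable def selTN1825 (j : ℕ) : ℕ := (Bool.rec (motive := fun _ => ℕ) (selTN1823 j) (Bool.rec (motive := fun _ => ℕ) (selTN1824 j) rl3021 (Nat.ble 3021 j)) (Nat.ble 3019 j))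

/-- a part of the choice of the part of the table -/
noncomputable def selTN1826 (j : ℕ) : ℕ := (Bool.rec (motive := fun _ => ℕ) rl3022 rl3023 (Nat.ble 3023 j))

/-- a part of the choice of the part of the table -/
noncomputable def selTN1827 (j : ℕ) : ℕ := (Bool.rec (motive := fun _ => ℕ) rl3024 rl3025 (Nat.ble 3025 j))

/-- a part of the choice of the part of the table -/
noncomputable def selTN1828 (j : ℕ) : ℕ := (Bool.rec (motive := fun _ => ℕ) (selTN1826 j) (Bool.rec (motive := fun _ => ℕ) (selTN1827 j) rl3026 (Nat.ble 3026 j)) (Nat.ble 3024 j))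

/-- a part of the choice of the part of the table -/
noncomputable def selTN1829 (j : ℕ) : ℕ := (Bool.rec (motive := fun _ => ℕ) rl3027 rl3028 (Nat.ble 3028 j))

/-- a part of the choice of the part of the table -/
noncomputable def selTN1830 (j : ℕ) : ℕ := (Bool.rec (motive := fun _ => ℕ) rl3029 rl3030 (Nat.ble 3030 j))

/-- a part of the choice of the part of the table -/
noncomputable def selTN1831 (j : ℕ) : ℕ := (Bool.rec (motive := fun _ => ℕ) (selTN1829 j) (Bool.rec (motive := fun _ => ℕ) (selTN1830 j) rl3031 (Nat.ble 3031 j)) (Nat.ble 3029 j))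

/-- a part of the choice of the part of the table -/
noncomputable def selTN1832 (j : ℕ) : ℕ := (Bool.rec (motive := fun _ => ℕ) (Bool.rec (motive := fun _ => ℕ) rl3032 rl3033 (Nat.ble 3033 j)) (Bool.rec (motive := fun _ => ℕ) rl3034 rl3035 (Nat.ble 3035 j)) (Nat.ble 3034 j))

/-- a part of the choice of the part of the table -/
noncomputable def selTN1833 (j : ℕ) : ℕ := (Bool.rec (motive := fun _ => ℕ) (Bool.rec (motive := fun _ => ℕ) (selTN1825 j) (selTN1828 j) (Nat.ble 3022 j)) (Bool.rec (motive := fun _ => ℕ) (selTN1831 j) (selTN1832 j) (Nat.ble 3032 j)) (Nat.ble 3027 j))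

/-- a part of the choice of the part of the table -/
noncomputable def selTN1834 (j : ℕ) : ℕ := (Bool.rec (motive := fun _ => ℕ) rl3036 rl3037 (Nat.ble 3037 j))

/-- a part of the choice of the part of the table -/
noncomputable def selTN1835 (j : ℕ) : ℕ := (Bool.rec (motive := fun _ => ℕ) rl3038 rl3039 (Nat.ble 3039 j))

/-- a part of the choice of the part of the table -/
noncomputable def selTN1836 (j : ℕ) : ℕ := (Bool.rec (motive := fun _ => ℕ) (selTN1834 j) (Bool.rec (motive := fun _ => ℕ) (selTN1835 j) rl3040 (Nat.ble 3040 j)) (Nat.ble 3038 j))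

/-- a part of the choice of the part of the table -/
noncomputable def selTN1837 (j : ℕ) : ℕ := (Bool.rec (motive := fun _ => ℕ) rl3041 rl3042 (Nat.ble 3042 j))

/-- a part of the choice of the part of the table -/
noncomputable def selTN1838 (j : ℕ) : ℕ := (Bool.rec (motive := fun _ => ℕ) rl3043 rl3044 (Nat.ble 3044 j))

/-- a part of the choice of the part of the table -/
noncomputable def selTN1839 (j : ℕ) : ℕ := (Bool.rec (motive := fun _ => ℕ) (selTN1837 j) (Bool.rec (motive := fun _ => ℕ) (selTN1838 j) rl3045 (Nat.ble 3045 j)) (Nat.ble 3043 j))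

/-- a part of the choice of the part of the table -/
noncomputable def selTN1840 (j : ℕ) : ℕ := (Bool.rec (motive := fun _ => ℕ) rl3046 rl3047 (Nat.ble 3047 j))

/-- a part of the choice of the part of the table -/
noncomputable def selTN1841 (j : ℕ) : ℕ := (Bool.rec (motive := fun _ => ℕ) rl3048 rl3049 (Nat.ble 3049 j))

/-- a part of the choice of the part of the table -/
noncomputable def selTN1842 (j : ℕ) : ℕ := (Bool.rec (motive := fun _ => ℕ) (selTN1840 j) (Bool.rec (motive := fun _ => ℕ) (selTN1841 j) rl3050 (Nat.ble 3050 j)) (Nat.ble 3048 j))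

/-- a part of the choice of the part of the table -/
noncomputable def selTN1843 (j : ℕ) : ℕ := (Bool.rec (motive := fun _ => ℕ) (Bool.rec (motive := fun _ => ℕ) rl3051 rl3052 (Nat.ble 3052 j)) (Bool.rec (motive := fun _ => ℕ) rl3053 rl3054 (Nat.ble 3054 j)) (Nat.ble 3053 j))

/-- a part of the choice of the part of the table -/
noncomputable def selTN1844 (j : ℕ) : ℕ := (Bool.rec (motive := fun _ => ℕ) (Bool.rec (motive := fun _ => ℕ) (selTN1836 j) (selTN1839 j) (Nat.ble 3041 j)) (Bool.rec (motive := fun _ => ℕ) (selTN1842 j) (selTN1843 j) (Nat.ble 3051 j)) (Nat.ble 3046 j))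

/-- a part of the choice of the part of the table -/
noncomputable def selTN1845 (j : ℕ) : ℕ := (Bool.rec (motive := fun _ => ℕ) rl3055 rl3056 (Nat.ble 3056 j))

/-- a part of the choice of the part of the table -/
noncomputable def selTN1846 (j : ℕ) : ℕ := (Bool.rec (motive := fun _ => ℕ) rl3057 rl3058 (Nat.ble 3058 j))

/-- a part of the choice of the part of the table -/
noncomputable def selTN1847 (j : ℕ) : ℕ := (Bool.rec (motive := fun _ => ℕ) (selTN1845 j) (Bool.rec (motive := fun _ => ℕ) (selTN1846 j) rl3059 (Nat.ble 3059 j)) (Nat.ble 3057 j))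

/-- a part of the choice of the part of the table -/
noncomputable def selTN1848 (j : ℕ) : ℕ := (Bool.rec (motive := fun _ => ℕ) rl3060 rl3061 (Nat.ble 3061 j))

/-- a part of the choice of the part of the table -/
noncomputable def selTN1849 (j : ℕ) : ℕ := (Bool.rec (motive := fun _ => ℕ) rl3062 rl3063 (Nat.ble 3063 j))

/-- a part of the choice of the part of the table -/
noncomputable def selTN1850 (j : ℕ) : ℕ := (Bool.rec (motive := fun _ => ℕ) (selTN1848 j) (Bool.rec (motive := fun _ => ℕ) (selTN1849 j) rl3064 (Nat.ble 3064 j)) (Nat.ble 3062 j))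

/-- a part of the choice of the part of the table -/
noncomputable def selTN1851 (j : ℕ) : ℕ := (Bool.rec (motive := fun _ => ℕ) rl3065 rl3066 (Nat.ble 3066 j))

/-- a part of the choice of the part of the table -/
noncomputable def selTN1852 (j : ℕ) : ℕ := (Bool.rec (motive := fun _ => ℕ) rl3067 rl3068 (Nat.ble 3068 j))

/-- a part of the choice of the part of the table -/
noncomputable def selTN1853 (j : ℕ) : ℕ := (Bool.rec (motive := fun _ => ℕ) (selTN1851 j) (Bool.rec (motive := fun _ => ℕ) (selTN1852 j) rl3069 (Nat.ble 3069 j)) (Nat.ble 3067 j))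

/-- a part of the choice of the part of the table -/
noncomputable def selTN1854 (j : ℕ) : ℕ := (Bool.rec (motive := fun _ => ℕ) rl3070 (Bool.rec (motive := fun _ => ℕ) rl3071 rl3072 (Nat.ble 3072 j)) (Nat.ble 3071 j))

/-- a part of the choice of the part of the table -/
noncomputable def selTN1855 (j : ℕ) : ℕ := (Bool.rec (motive := fun _ => ℕ) (Bool.rec (motive := fun _ => ℕ) (selTN1847 j) (selTN1850 j) (Nat.ble 3060 j)) (Bool.rec (motive := fun _ => ℕ) (selTN1853 j) (selTN1854 j) (Nat.ble 3070 j)) (Nat.ble 3065 j))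

/-- a part of the choice of the part of the table -/
noncomputable def selTN1856 (j : ℕ) : ℕ := (Bool.rec (motive := fun _ => ℕ) (Bool.rec (motive := fun _ => ℕ) (selTN1822 j) (selTN1833 j) (Nat.ble 3017 j)) (Bool.rec (motive := fun _ => ℕ) (selTN1844 j) (selTN1855 j) (Nat.ble 3055 j)) (Nat.ble 3036 j))

/-- a part of the choice of the part of the table -/
noncomputable def selTN1857 (j : ℕ) : ℕ := (Bool.rec (motive := fun _ => ℕ) rl3073 rl3074 (Nat.ble 3074 j))

/-- a part of the choice of the part of the table -/
noncomputable def selTN1858 (j : ℕ) : ℕ := (Bool.rec (motive := fun _ => ℕ) rl3075 rl3076 (Nat.ble 3076 j))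

/-- a part of the choice of the part of the table -/
noncomputable def selTN1859 (j : ℕ) : ℕ := (Bool.rec (motive := fun _ => ℕ) (selTN1857 j) (Bool.rec (motive := fun _ => ℕ) (selTN1858 j) rl3077 (Nat.ble 3077 j)) (Nat.ble 3075 j))

/-- a part of the choice of the part of the table -/
noncomputable def selTN1860 (j : ℕ) : ℕ := (Bool.rec (motive := fun _ => ℕ) rl3078 rl3079 (Nat.ble 3079 j))

/-- a part of the choice of the part of the table -/
noncomputable def selTN1861 (j : ℕ) : ℕ := (Bool.rec (motive := fun _ => ℕ) rl3080 rl3081 (Nat.ble 3081 j))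

/-- a part of the choice of the part of the table -/
noncomputable def selTN1862 (j : ℕ) : ℕ := (Bool.rec (motive := fun _ => ℕ) (selTN1860 j) (Bool.rec (motive := fun _ => ℕ) (selTN1861 j) rl3082 (Nat.ble 3082 j)) (Nat.ble 3080 j))

/-- a part of the choice of the part of the table -/
noncomputable def selTN1863 (j : ℕ) : ℕ := (Bool.rec (motive := fun _ => ℕ) rl3083 rl3084 (Nat.ble 3084 j))

/-- a part of the choice of the part of the table -/
noncomputable def selTN1864 (j : ℕ) : ℕ := (Bool.rec (motive := fun _ => ℕ) rl3085 rl3086 (Nat.ble 3086 j))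

/-- a part of the choice of the part of the table -/
noncomputable def selTN1865 (j : ℕ) : ℕ := (Bool.rec (motive := fun _ => ℕ) (selTN1863 j) (Bool.rec (motive := fun _ => ℕ) (selTN1864 j) rl3087 (Nat.ble 3087 j)) (Nat.ble 3085 j))

/-- a part of the choice of the part of the table -/
noncomputable def selTN1866 (j : ℕ) : ℕ := (Bool.rec (motive := fun _ => ℕ) (Bool.rec (motive := fun _ => ℕ) rl3088 rl3089 (Nat.ble 3089 j)) (Bool.rec (motive := fun _ => ℕ) rl3090 rl3091 (Nat.ble 3091 j)) (Nat.ble 3090 j))

/-- a part of the choice of the part of the table -/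
noncomputable def selTN1867 (j : ℕ) : ℕ := (Bool.rec (motive := fun _ => ℕ) (Bool.rec (motive := fun _ => ℕ) (selTN1859 j) (selTN1862 j) (Nat.ble 3078 j)) (Bool.rec (motive := fun _ => ℕ) (selTN1865 j) (selTN1866 j) (Nat.ble 3088 j)) (Nat.ble 3083 j))

/-- a part of the choice of the part of the table -/
noncomputable def selTN1868 (j : ℕ) : ℕ := (Bool.rec (motive := fun _ => ℕ) rl3092 rl3093 (Nat.ble 3093 j))

/-- a part of the choice of the part of the table -/
noncomputable def selTN1869 (j : ℕ) : ℕ := (Bool.rec (motive := fun _ => ℕ) rl3094 rl3095 (Nat.ble 3095 j))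

/-- a part of the choice of the part of the table -/
noncomputable def selTN1870 (j : ℕ) : ℕ := (Bool.rec (motive := fun _ => ℕ) (selTN1868 j) (Bool.rec (motive := fun _ => ℕ) (selTN1869 j) rl3096 (Nat.ble 3096 j)) (Nat.ble 3094 j))

/-- a part of the choice of the part of the table -/
noncomputable def selTN1871 (j : ℕ) : ℕ := (Bool.rec (motive := fun _ => ℕ) rl3097 rl3098 (Nat.ble 3098 j))

/-- a part of the choice of the part of the table -/
noncomputable def selTN1872 (j : ℕ) : ℕ := (Bool.rec (motive := fun _ => ℕ) rl3099 rl3100 (Nat.ble 3100 j))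

/-- a part of the choice of the part of the table -/
noncomputable def selTN1873 (j : ℕ) : ℕ := (Bool.rec (motive := fun _ => ℕ) (selTN1871 j) (Bool.rec (motive := fun _ => ℕ) (selTN1872 j) rl3101 (Nat.ble 3101 j)) (Nat.ble 3099 j))

/-- a part of the choice of the part of the table -/
noncomputable def selTN1874 (j : ℕ) : ℕ := (Bool.rec (motive := fun _ => ℕ) rl3102 rl3103 (Nat.ble 3103 j))

/-- a part of the choice of the part of the table -/
noncomputable def selTN1875 (j : ℕ) : ℕ := (Bool.rec (motive := fun _ => ℕ) rl3104 rl3105 (Nat.ble 3105 j))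

/-- a part of the choice of the part of the table -/
noncomputable def selTN1876 (j : ℕ) : ℕ := (Bool.rec (motive := fun _ => ℕ) (selTN1874 j) (Bool.rec (motive := fun _ => ℕ) (selTN1875 j) rl3106 (Nat.ble 3106 j)) (Nat.ble 3104 j))

/-- a part of the choice of the part of the table -/
noncomputable def selTN1877 (j : ℕ) : ℕ := (Bool.rec (motive := fun _ => ℕ) (Bool.rec (motive := fun _ => ℕ) rl3107 rl3108 (Nat.ble 3108 j)) (Bool.rec (motive := fun _ => ℕ) rl3109 rl3110 (Nat.ble 3110 j)) (Nat.ble 3109 j))

/-- a part of the choice of the part of the table -/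
noncomputable def selTN1878 (j : ℕ) : ℕ := (Bool.rec (motive := fun _ => ℕ) (Bool.rec (motive := fun _ => ℕ) (selTN1870 j) (selTN1873 j) (Nat.ble 3097 j)) (Bool.rec (motive := fun _ => ℕ) (selTN1876 j) (selTN1877 j) (Nat.ble 3107 j)) (Nat.ble 3102 j))

/-- a part of the choice of the part of the table -/
noncomputable def selTN1879 (j : ℕ) : ℕ := (Bool.rec (motive := fun _ => ℕ) rl3111 rl3112 (Nat.ble 3112 j))

/-- a part of the choice of the part of the table -/
noncomputable def selTN1880 (j : ℕ) : ℕ := (Bool.rec (motive := fun _ => ℕ) rl3113 rl3114 (Nat.ble 3114 j))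

/-- a part of the choice of the part of the table -/
noncomputable def selTN1881 (j : ℕ) : ℕ := (Bool.rec (motive := fun _ => ℕ) (selTN1879 j) (Bool.rec (motive := fun _ => ℕ) (selTN1880 j) rl3115 (Nat.ble 3115 j)) (Nat.ble 3113 j))

/-- a part of the choice of the part of the table -/
noncomputable def selTN1882 (j : ℕ) : ℕ := (Bool.rec (motive := fun _ => ℕ) rl3116 rl3117 (Nat.ble 3117 j))

/-- a part of the choice of the part of the table -/
noncomputable def selTN1883 (j : ℕ) : ℕ := (Bool.rec (motive := fun _ => ℕ) rl3118 rl3119 (Nat.ble 3119 j))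

/-- a part of the choice of the part of the table -/
noncomputable def selTN1884 (j : ℕ) : ℕ := (Bool.rec (motive := fun _ => ℕ) (selTN1882 j) (Bool.rec (motive := fun _ => ℕ) (selTN1883 j) rl3120 (Nat.ble 3120 j)) (Nat.ble 3118 j))

/-- a part of the choice of the part of the table -/
noncomputable def selTN1885 (j : ℕ) : ℕ := (Bool.rec (motive := fun _ => ℕ) rl3121 rl3122 (Nat.ble 3122 j))

/-- a part of the choice of the part of the table -/
noncomputable def selTN1886 (j : ℕ) : ℕ := (Bool.rec (motive := fun _ => ℕ) rl3123 rl3124 (Nat.ble 3124 j))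

/-- a part of the choice of the part of the table -/
noncomputable def selTN1887 (j : ℕ) : ℕ := (Bool.rec (motive := fun _ => ℕ) (selTN1885 j) (Bool.rec (motive := fun _ => ℕ) (selTN1886 j) rl3125 (Nat.ble 3125 j)) (Nat.ble 3123 j))

/-- a part of the choice of the part of the table -/
noncomputable def selTN1888 (j : ℕ) : ℕ := (Bool.rec (motive := fun _ => ℕ) (Bool.rec (motive := fun _ => ℕ) rl3126 rl3127 (Nat.ble 3127 j)) (Bool.rec (motive := fun _ => ℕ) rl3128 rl3129 (Nat.ble 3129 j)) (Nat.ble 3128 j))

/-- a part of the choice of the part of the table -/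
noncomputable def selTN1889 (j : ℕ) : ℕ := (Bool.rec (motive := fun _ => ℕ) (Bool.rec (motive := fun _ => ℕ) (selTN1881 j) (selTN1884 j) (Nat.ble 3116 j)) (Bool.rec (motive := fun _ => ℕ) (selTN1887 j) (selTN1888 j) (Nat.ble 3126 j)) (Nat.ble 3121 j))

/-- a part of the choice of the part of the table -/
noncomputable def selTN1890 (j : ℕ) : ℕ := (Bool.rec (motive := fun _ => ℕ) rl3130 rl3131 (Nat.ble 3131 j))

/-- a part of the choice of the part of the table -/
noncomputable def selTN1891 (j : ℕ) : ℕ := (Bool.rec (motive := fun _ => ℕ) rl3132 rl3133 (Nat.ble 3133 j))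

/-- a part of the choice of the part of the table -/
noncomputable def selTN1892 (j : ℕ) : ℕ := (Bool.rec (motive := fun _ => ℕ) (selTN1890 j) (Bool.rec (motive := fun _ => ℕ) (selTN1891 j) rl3134 (Nat.ble 3134 j)) (Nat.ble 3132 j))

/-- a part of the choice of the part of the table -/
noncomputable def selTN1893 (j : ℕ) : ℕ := (Bool.rec (motive := fun _ => ℕ) rl3135 rl3136 (Nat.ble 3136 j))

/-- a part of the choice of the part of the table -/
noncomputable def selTN1894 (j : ℕ) : ℕ := (Bool.rec (motive := fun _ => ℕ) rl3137 rl3138 (Nat.ble 3138 j))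

/-- a part of the choice of the part of the table -/
noncomputable def selTN1895 (j : ℕ) : ℕ := (Bool.rec (motive := fun _ => ℕ) (selTN1893 j) (Bool.rec (motive := fun _ => ℕ) (selTN1894 j) rl3139 (Nat.ble 3139 j)) (Nat.ble 3137 j))

/-- a part of the choice of the part of the table -/
noncomputable def selTN1896 (j : ℕ) : ℕ := (Bool.rec (motive := fun _ => ℕ) rl3140 rl3141 (Nat.ble 3141 j))

/-- a part of the choice of the part of the table -/
noncomputable def selTN1897 (j : ℕ) : ℕ := (Bool.rec (motive := fun _ => ℕ) rl3142 rl3143 (Nat.ble 3143 j))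

/-- a part of the choice of the part of the table -/
noncomputable def selTN1898 (j : ℕ) : ℕ := (Bool.rec (motive := fun _ => ℕ) (selTN1896 j) (Bool.rec (motive := fun _ => ℕ) (selTN1897 j) rl3144 (Nat.ble 3144 j)) (Nat.ble 3142 j))

/-- a part of the choice of the part of the table -/
noncomputable def selTN1899 (j : ℕ) : ℕ := (Bool.rec (motive := fun _ => ℕ) rl3145 (Bool.rec (motive := fun _ => ℕ) rl3146 rl3147 (Nat.ble 3147 j)) (Nat.ble 3146 j))

/-- a part of the choice of the part of the table -/
noncomputable def selTN1900 (j : ℕ) : ℕ := (Bool.rec (motive := fun _ => ℕ) (Bool.rec (motive := fun _ => ℕ) (selTN1892 j) (selTN1895 j) (Nat.ble 3135 j)) (Bool.rec (motive := fun _ => ℕ) (selTN1898 j) (selTN1899 j) (Nat.ble 3145 j)) (Nat.ble 3140 j))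

/-- a part of the choice of the part of the table -/
noncomputable def selTN1901 (j : ℕ) : ℕ := (Bool.rec (motive := fun _ => ℕ) (Bool.rec (motive := fun _ => ℕ) (selTN1867 j) (selTN1878 j) (Nat.ble 3092 j)) (Bool.rec (motive := fun _ => ℕ) (selTN1889 j) (selTN1900 j) (Nat.ble 3130 j)) (Nat.ble 3111 j))

/-- a part of the choice of the part of the table -/
noncomputable def selTN1902 (j : ℕ) : ℕ := (Bool.rec (motive := fun _ => ℕ) rl3148 rl3149 (Nat.ble 3149 j))

/-- a part of the choice of the part of the table -/
noncomputable def selTN1903 (j : ℕ) : ℕ := (Bool.rec (motive := fun _ => ℕ) rl3150 rl3151 (Nat.ble 3151 j))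

/-- a part of the choice of the part of the table -/
noncomputable def selTN1904 (j : ℕ) : ℕ := (Bool.rec (motive := fun _ => ℕ) (selTN1902 j) (Bool.rec (motive := fun _ => ℕ) (selTN1903 j) rl3152 (Nat.ble 3152 j)) (Nat.ble 3150 j))

/-- a part of the choice of the part of the table -/
noncomputable def selTN1905 (j : ℕ) : ℕ := (Bool.rec (motive := fun _ => ℕ) rl3153 rl3154 (Nat.ble 3154 j))

/-- a part of the choice of the part of the table -/
noncomputable def selTN1906 (j : ℕ) : ℕ := (Bool.rec (motive := fun _ => ℕ) rl3155 rl3156 (Nat.ble 3156 j))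

/-- a part of the choice of the part of the table -/
noncomputable def selTN1907 (j : ℕ) : ℕ := (Bool.rec (motive := fun _ => ℕ) (selTN1905 j) (Bool.rec (motive := fun _ => ℕ) (selTN1906 j) rl3157 (Nat.ble 3157 j)) (Nat.ble 3155 j))

/-- a part of the choice of the part of the table -/
noncomputable def selTN1908 (j : ℕ) : ℕ := (Bool.rec (motive := fun _ => ℕ) rl3158 rl3159 (Nat.ble 3159 j))

/-- a part of the choice of the part of the table -/
noncomputable def selTN1909 (j : ℕ) : ℕ := (Bool.rec (motive := fun _ => ℕ) rl3160 rl3161 (Nat.ble 3161 j))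

/-- a part of the choice of the part of the table -/
noncomputable def selTN1910 (j : ℕ) : ℕ := (Bool.rec (motive := fun _ => ℕ) (selTN1908 j) (Bool.rec (motive := fun _ => ℕ) (selTN1909 j) rl3162 (Nat.ble 3162 j)) (Nat.ble 3160 j))

/-- a part of the choice of the part of the table -/
noncomputable def selTN1911 (j : ℕ) : ℕ := (Bool.rec (motive := fun _ => ℕ) (Bool.rec (motive := fun _ => ℕ) rl3163 rl3164 (Nat.ble 3164 j)) (Bool.rec (motive := fun _ => ℕ) rl3165 rl3166 (Nat.ble 3166 j)) (Nat.ble 3165 j))

/-- a part of the choice of the part of the table -/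
noncomputable def selTN1912 (j : ℕ) : ℕ := (Bool.rec (motive := fun _ => ℕ) (Bool.rec (motive := fun _ => ℕ) (selTN1904 j) (selTN1907 j) (Nat.ble 3153 j)) (Bool.rec (motive := fun _ => ℕ) (selTN1910 j) (selTN1911 j) (Nat.ble 3163 j)) (Nat.ble 3158 j))

/-- a part of the choice of the part of the table -/
noncomputable def selTN1913 (j : ℕ) : ℕ := (Bool.rec (motive := fun _ => ℕ) rl3167 rl3168 (Nat.ble 3168 j))

/-- a part of the choice of the part of the table -/
noncomputable def selTN1914 (j : ℕ) : ℕ := (Bool.rec (motive := fun _ => ℕ) rl3169 rl3170 (Nat.ble 3170 j))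

/-- a part of the choice of the part of the table -/
noncomputable def selTN1915 (j : ℕ) : ℕ := (Bool.rec (motive := fun _ => ℕ) (selTN1913 j) (Bool.rec (motive := fun _ => ℕ) (selTN1914 j) rl3171 (Nat.ble 3171 j)) (Nat.ble 3169 j))

/-- a part of the choice of the part of the table -/
noncomputable def selTN1916 (j : ℕ) : ℕ := (Bool.rec (motive := fun _ => ℕ) rl3172 rl3173 (Nat.ble 3173 j))

/-- a part of the choice of the part of the table -/
noncomputable def selTN1917 (j : ℕ) : ℕ := (Bool.rec (motive := fun _ => ℕ) rl3174 rl3175 (Nat.ble 3175 j))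

/-- a part of the choice of the part of the table -/
noncomputable def selTN1918 (j : ℕ) : ℕ := (Bool.rec (motive := fun _ => ℕ) (selTN1916 j) (Bool.rec (motive := fun _ => ℕ) (selTN1917 j) rl3176 (Nat.ble 3176 j)) (Nat.ble 3174 j))

/-- a part of the choice of the part of the table -/
noncomputable def selTN1919 (j : ℕ) : ℕ := (Bool.rec (motive := fun _ => ℕ) rl3177 rl3178 (Nat.ble 3178 j))

/-- a part of the choice of the part of the table -/
noncomputable def selTN1920 (j : ℕ) : ℕ := (Bool.rec (motive := fun _ => ℕ) rl3179 rl3180 (Nat.ble 3180 j))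

/-- a part of the choice of the part of the table -/
noncomputable def selTN1921 (j : ℕ) : ℕ := (Bool.rec (motive := fun _ => ℕ) (selTN1919 j) (Bool.rec (motive := fun _ => ℕ) (selTN1920 j) rl3181 (Nat.ble 3181 j)) (Nat.ble 3179 j))

/-- a part of the choice of the part of the table -/
noncomputable def selTN1922 (j : ℕ) : ℕ := (Bool.rec (motive := fun _ => ℕ) (Bool.rec (motive := fun _ => ℕ) rl3182 rl3183 (Nat.ble 3183 j)) (Bool.rec (motive := fun _ => ℕ) rl3184 rl3185 (Nat.ble 3185 j)) (Nat.ble 3184 j))

/-- a part of the choice of the part of the table -/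
noncomputable def selTN1923 (j : ℕ) : ℕ := (Bool.rec (motive := fun _ => ℕ) (Bool.rec (motive := fun _ => ℕ) (selTN1915 j) (selTN1918 j) (Nat.ble 3172 j)) (Bool.rec (motive := fun _ => ℕ) (selTN1921 j) (selTN1922 j) (Nat.ble 3182 j)) (Nat.ble 3177 j))

/-- a part of the choice of the part of the table -/
noncomputable def selTN1924 (j : ℕ) : ℕ := (Bool.rec (motive := fun _ => ℕ) rl3186 rl3187 (Nat.ble 3187 j))

/-- a part of the choice of the part of the table -/
noncomputable def selTN1925 (j : ℕ) : ℕ := (Bool.rec (motive := fun _ => ℕ) rl3188 rl3189 (Nat.ble 3189 j))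

/-- a part of the choice of the part of the table -/
noncomputable def selTN1926 (j : ℕ) : ℕ := (Bool.rec (motive := fun _ => ℕ) (selTN1924 j) (Bool.rec (motive := fun _ => ℕ) (selTN1925 j) rl3190 (Nat.ble 3190 j)) (Nat.ble 3188 j))

/-- a part of the choice of the part of the table -/
noncomputable def selTN1927 (j : ℕ) : ℕ := (Bool.rec (motive := fun _ => ℕ) rl3191 rl3192 (Nat.ble 3192 j))

/-- a part of the choice of the part of the table -/
noncomputable def selTN1928 (j : ℕ) : ℕ := (Bool.rec (motive := fun _ => ℕ) rl3193 rl3194 (Nat.ble 3194 j))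

/-- a part of the choice of the part of the table -/
noncomputable def selTN1929 (j : ℕ) : ℕ := (Bool.rec (motive := fun _ => ℕ) (selTN1927 j) (Bool.rec (motive := fun _ => ℕ) (selTN1928 j) rl3195 (Nat.ble 3195 j)) (Nat.ble 3193 j))

/-- a part of the choice of the part of the table -/
noncomputable def selTN1930 (j : ℕ) : ℕ := (Bool.rec (motive := fun _ => ℕ) rl3196 rl3197 (Nat.ble 3197 j))

/-- a part of the choice of the part of the table -/
noncomputable def selTN1931 (j : ℕ) : ℕ := (Bool.rec (motive := fun _ => ℕ) rl3198 rl3199 (Nat.ble 3199 j))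

/-- a part of the choice of the part of the table -/
noncomputable def selTN1932 (j : ℕ) : ℕ := (Bool.rec (motive := fun _ => ℕ) (selTN1930 j) (Bool.rec (motive := fun _ => ℕ) (selTN1931 j) rl3200 (Nat.ble 3200 j)) (Nat.ble 3198 j))

/-- a part of the choice of the part of the table -/
noncomputable def selTN1933 (j : ℕ) : ℕ := (Bool.rec (motive := fun _ => ℕ) (Bool.rec (motive := fun _ => ℕ) rl3201 rl3202 (Nat.ble 3202 j)) (Bool.rec (motive := fun _ => ℕ) rl3203 rl3204 (Nat.ble 3204 j)) (Nat.ble 3203 j))

/-- a part of the choice of the part of the table -/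
noncomputable def selTN1934 (j : ℕ) : ℕ := (Bool.rec (motive := fun _ => ℕ) (Bool.rec (motive := fun _ => ℕ) (selTN1926 j) (selTN1929 j) (Nat.ble 3191 j)) (Bool.rec (motive := fun _ => ℕ) (selTN1932 j) (selTN1933 j) (Nat.ble 3201 j)) (Nat.ble 3196 j))

/-- a part of the choice of the part of the table -/
noncomputable def selTN1935 (j : ℕ) : ℕ := (Bool.rec (motive := fun _ => ℕ) rl3205 rl3206 (Nat.ble 3206 j))

/-- a part of the choice of the part of the table -/
noncomputable def selTN1936 (j : ℕ) : ℕ := (Bool.rec (motive := fun _ => ℕ) rl3207 rl3208 (Nat.ble 3208 j))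

/-- a part of the choice of the part of the table -/
noncomputable def selTN1937 (j : ℕ) : ℕ := (Bool.rec (motive := fun _ => ℕ) (selTN1935 j) (Bool.rec (motive := fun _ => ℕ) (selTN1936 j) rl3209 (Nat.ble 3209 j)) (Nat.ble 3207 j))

/-- a part of the choice of the part of the table -/
noncomputable def selTN1938 (j : ℕ) : ℕ := (Bool.rec (motive := fun _ => ℕ) rl3210 rl3211 (Nat.ble 3211 j))

/-- a part of the choice of the part of the table -/
noncomputable def selTN1939 (j : ℕ) : ℕ := (Bool.rec (motive := fun _ => ℕ) rl3212 rl3213 (Nat.ble 3213 j))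

/-- a part of the choice of the part of the table -/
noncomputable def selTN1940 (j : ℕ) : ℕ := (Bool.rec (motive := fun _ => ℕ) (selTN1938 j) (Bool.rec (motive := fun _ => ℕ) (selTN1939 j) rl3214 (Nat.ble 3214 j)) (Nat.ble 3212 j))

/-- a part of the choice of the part of the table -/
noncomputable def selTN1941 (j : ℕ) : ℕ := (Bool.rec (motive := fun _ => ℕ) rl3215 rl3216 (Nat.ble 3216 j))

/-- a part of the choice of the part of the table -/
noncomputable def selTN1942 (j : ℕ) : ℕ := (Bool.rec (motive := fun _ => ℕ) rl3217 rl3218 (Nat.ble 3218 j))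

/-- a part of the choice of the part of the table -/
noncomputable def selTN1943 (j : ℕ) : ℕ := (Bool.rec (motive := fun _ => ℕ) (selTN1941 j) (Bool.rec (motive := fun _ => ℕ) (selTN1942 j) rl3219 (Nat.ble 3219 j)) (Nat.ble 3217 j))

/-- a part of the choice of the part of the table -/
noncomputable def selTN1944 (j : ℕ) : ℕ := (Bool.rec (motive := fun _ => ℕ) rl3220 (Bool.rec (motive := fun _ => ℕ) rl3221 rl3222 (Nat.ble 3222 j)) (Nat.ble 3221 j))

/-- a part of the choice of the part of the table -/
noncomputable def selTN1945 (j : ℕ) : ℕ := (Bool.rec (motive := fun _ => ℕ) (Bool.rec (motive := fun _ => ℕ) (selTN1937 j) (selTN1940 j) (Nat.ble 3210 j)) (Bool.rec (motive := fun _ => ℕ) (selTN1943 j) (selTN1944 j) (Nat.ble 3220 j)) (Nat.ble 3215 j))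

/-- a part of the choice of the part of the table -/
noncomputable def selTN1946 (j : ℕ) : ℕ := (Bool.rec (motive := fun _ => ℕ) (Bool.rec (motive := fun _ => ℕ) (selTN1912 j) (selTN1923 j) (Nat.ble 3167 j)) (Bool.rec (motive := fun _ => ℕ) (selTN1934 j) (selTN1945 j) (Nat.ble 3205 j)) (Nat.ble 3186 j))

/-- a part of the choice of the part of the table -/
noncomputable def selTN1947 (j : ℕ) : ℕ := (Bool.rec (motive := fun _ => ℕ) rl3223 rl3224 (Nat.ble 3224 j))

/-- a part of the choice of the part of the table -/
noncomputable def selTN1948 (j : ℕ) : ℕ := (Bool.rec (motive := fun _ => ℕ) rl3225 rl3226 (Nat.ble 3226 j))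

/-- a part of the choice of the part of the table -/
noncomputable def selTN1949 (j : ℕ) : ℕ := (Bool.rec (motive := fun _ => ℕ) (selTN1947 j) (Bool.rec (motive := fun _ => ℕ) (selTN1948 j) rl3227 (Nat.ble 3227 j)) (Nat.ble 3225 j))

/-- a part of the choice of the part of the table -/
noncomputable def selTN1950 (j : ℕ) : ℕ := (Bool.rec (motive := fun _ => ℕ) rl3228 rl3229 (Nat.ble 3229 j))

/-- a part of the choice of the part of the table -/
noncomputable def selTN1951 (j : ℕ) : ℕ := (Bool.rec (motive := fun _ => ℕ) rl3230 rl3231 (Nat.ble 3231 j))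

/-- a part of the choice of the part of the table -/
noncomputable def selTN1952 (j : ℕ) : ℕ := (Bool.rec (motive := fun _ => ℕ) (selTN1950 j) (Bool.rec (motive := fun _ => ℕ) (selTN1951 j) rl3232 (Nat.ble 3232 j)) (Nat.ble 3230 j))

/-- a part of the choice of the part of the table -/
noncomputable def selTN1953 (j : ℕ) : ℕ := (Bool.rec (motive := fun _ => ℕ) rl3233 rl3234 (Nat.ble 3234 j))

/-- a part of the choice of the part of the table -/
noncomputable def selTN1954 (j : ℕ) : ℕ := (Bool.rec (motive := fun _ => ℕ) rl3235 rl3236 (Nat.ble 3236 j))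

/-- a part of the choice of the part of the table -/
noncomputable def selTN1955 (j : ℕ) : ℕ := (Bool.rec (motive := fun _ => ℕ) (selTN1953 j) (Bool.rec (motive := fun _ => ℕ) (selTN1954 j) rl3237 (Nat.ble 3237 j)) (Nat.ble 3235 j))

/-- a part of the choice of the part of the table -/
noncomputable def selTN1956 (j : ℕ) : ℕ := (Bool.rec (motive := fun _ => ℕ) (Bool.rec (motive := fun _ => ℕ) rl3238 rl3239 (Nat.ble 3239 j)) (Bool.rec (motive := fun _ => ℕ) rl3240 rl3241 (Nat.ble 3241 j)) (Nat.ble 3240 j))

/-- a part of the choice of the part of the table -/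
noncomputable def selTN1957 (j : ℕ) : ℕ := (Bool.rec (motive := fun _ => ℕ) (Bool.rec (motive := fun _ => ℕ) (selTN1949 j) (selTN1952 j) (Nat.ble 3228 j)) (Bool.rec (motive := fun _ => ℕ) (selTN1955 j) (selTN1956 j) (Nat.ble 3238 j)) (Nat.ble 3233 j))

/-- a part of the choice of the part of the table -/
noncomputable def selTN1958 (j : ℕ) : ℕ := (Bool.rec (motive := fun _ => ℕ) rl3242 rl3243 (Nat.ble 3243 j))

/-- a part of the choice of the part of the table -/
noncomputable def selTN1959 (j : ℕ) : ℕ := (Bool.rec (motive := fun _ => ℕ) rl3244 rl3245 (Nat.ble 3245 j))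

/-- a part of the choice of the part of the table -/
noncomputable def selTN1960 (j : ℕ) : ℕ := (Bool.rec (motive := fun _ => ℕ) (selTN1958 j) (Bool.rec (motive := fun _ => ℕ) (selTN1959 j) rl3246 (Nat.ble 3246 j)) (Nat.ble 3244 j))

/-- a part of the choice of the part of the table -/
noncomputable def selTN1961 (j : ℕ) : ℕ := (Bool.rec (motive := fun _ => ℕ) rl3247 rl3248 (Nat.ble 3248 j))

/-- a part of the choice of the part of the table -/
noncomputable def selTN1962 (j : ℕ) : ℕ := (Bool.rec (motive := fun _ => ℕ) rl3249 rl3250 (Nat.ble 3250 j))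

/-- a part of the choice of the part of the table -/
noncomputable def selTN1963 (j : ℕ) : ℕ := (Bool.rec (motive := fun _ => ℕ) (selTN1961 j) (Bool.rec (motive := fun _ => ℕ) (selTN1962 j) rl3251 (Nat.ble 3251 j)) (Nat.ble 3249 j))

/-- a part of the choice of the part of the table -/
noncomputable def selTN1964 (j : ℕ) : ℕ := (Bool.rec (motive := fun _ => ℕ) rl3252 rl3253 (Nat.ble 3253 j))

/-- a part of the choice of the part of the table -/
noncomputable def selTN1965 (j : ℕ) : ℕ := (Bool.rec (motive := fun _ => ℕ) rl3254 rl3255 (Nat.ble 3255 j))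

/-- a part of the choice of the part of the table -/
noncomputable def selTN1966 (j : ℕ) : ℕ := (Bool.rec (motive := fun _ => ℕ) (selTN1964 j) (Bool.rec (motive := fun _ => ℕ) (selTN1965 j) rl3256 (Nat.ble 3256 j)) (Nat.ble 3254 j))

/-- a part of the choice of the part of the table -/
noncomputable def selTN1967 (j : ℕ) : ℕ := (Bool.rec (motive := fun _ => ℕ) (Bool.rec (motive := fun _ => ℕ) rl3257 rl3258 (Nat.ble 3258 j)) (Bool.rec (motive := fun _ => ℕ) rl3259 rl3260 (Nat.ble 3260 j)) (Nat.ble 3259 j))

/-- a part of the choice of the part of the table -/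
noncomputable def selTN1968 (j : ℕ) : ℕ := (Bool.rec (motive := fun _ => ℕ) (Bool.rec (motive := fun _ => ℕ) (selTN1960 j) (selTN1963 j) (Nat.ble 3247 j)) (Bool.rec (motive := fun _ => ℕ) (selTN1966 j) (selTN1967 j) (Nat.ble 3257 j)) (Nat.ble 3252 j))

/-- a part of the choice of the part of the table -/
noncomputable def selTN1969 (j : ℕ) : ℕ := (Bool.rec (motive := fun _ => ℕ) rl3261 rl3262 (Nat.ble 3262 j))

/-- a part of the choice of the part of the table -/
noncomputable def selTN1970 (j : ℕ) : ℕ := (Bool.rec (motive := fun _ => ℕ) rl3263 rl3264 (Nat.ble 3264 j))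

/-- a part of the choice of the part of the table -/
noncomputable def selTN1971 (j : ℕ) : ℕ := (Bool.rec (motive := fun _ => ℕ) (selTN1969 j) (Bool.rec (motive := fun _ => ℕ) (selTN1970 j) rl3265 (Nat.ble 3265 j)) (Nat.ble 3263 j))

/-- a part of the choice of the part of the table -/
noncomputable def selTN1972 (j : ℕ) : ℕ := (Bool.rec (motive := fun _ => ℕ) rl3266 rl3267 (Nat.ble 3267 j))

/-- a part of the choice of the part of the table -/
noncomputable def selTN1973 (j : ℕ) : ℕ := (Bool.rec (motive := fun _ => ℕ) rl3268 rl3269 (Nat.ble 3269 j))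

/-- a part of the choice of the part of the table -/
noncomputable def selTN1974 (j : ℕ) : ℕ := (Bool.rec (motive := fun _ => ℕ) (selTN1972 j) (Bool.rec (motive := fun _ => ℕ) (selTN1973 j) rl3270 (Nat.ble 3270 j)) (Nat.ble 3268 j))

/-- a part of the choice of the part of the table -/
noncomputable def selTN1975 (j : ℕ) : ℕ := (Bool.rec (motive := fun _ => ℕ) rl3271 rl3272 (Nat.ble 3272 j))

/-- a part of the choice of the part of the table -/
noncomputable def selTN1976 (j : ℕ) : ℕ := (Bool.rec (motive := fun _ => ℕ) rl3273 rl3274 (Nat.ble 3274 j))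

/-- a part of the choice of the part of the table -/
noncomputable def selTN1977 (j : ℕ) : ℕ := (Bool.rec (motive := fun _ => ℕ) (selTN1975 j) (Bool.rec (motive := fun _ => ℕ) (selTN1976 j) rl3275 (Nat.ble 3275 j)) (Nat.ble 3273 j))

/-- a part of the choice of the part of the table -/
noncomputable def selTN1978 (j : ℕ) : ℕ := (Bool.rec (motive := fun _ => ℕ) (Bool.rec (motive := fun _ => ℕ) rl3276 rl3277 (Nat.ble 3277 j)) (Bool.rec (motive := fun _ => ℕ) rl3278 rl3279 (Nat.ble 3279 j)) (Nat.ble 3278 j))

/-- a part of the choice of the part of the table -/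
noncomputable def selTN1979 (j : ℕ) : ℕ := (Bool.rec (motive := fun _ => ℕ) (Bool.rec (motive := fun _ => ℕ) (selTN1971 j) (selTN1974 j) (Nat.ble 3266 j)) (Bool.rec (motive := fun _ => ℕ) (selTN1977 j) (selTN1978 j) (Nat.ble 3276 j)) (Nat.ble 3271 j))

/-- a part of the choice of the part of the table -/
noncomputable def selTN1980 (j : ℕ) : ℕ := (Bool.rec (motive := fun _ => ℕ) rl3280 rl3281 (Nat.ble 3281 j))

/-- a part of the choice of the part of the table -/
noncomputable def selTN1981 (j : ℕ) : ℕ := (Bool.rec (motive := fun _ => ℕ) rl3282 rl3283 (Nat.ble 3283 j))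

/-- a part of the choice of the part of the table -/
noncomputable def selTN1982 (j : ℕ) : ℕ := (Bool.rec (motive := fun _ => ℕ) (selTN1980 j) (Bool.rec (motive := fun _ => ℕ) (selTN1981 j) rl3284 (Nat.ble 3284 j)) (Nat.ble 3282 j))

/-- a part of the choice of the part of the table -/
noncomputable def selTN1983 (j : ℕ) : ℕ := (Bool.rec (motive := fun _ => ℕ) rl3285 rl3286 (Nat.ble 3286 j))

/-- a part of the choice of the part of the table -/
noncomputable def selTN1984 (j : ℕ) : ℕ := (Bool.rec (motive := fun _ => ℕ) rl3287 rl3288 (Nat.ble 3288 j))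

/-- a part of the choice of the part of the table -/
noncomputable def selTN1985 (j : ℕ) : ℕ := (Bool.rec (motive := fun _ => ℕ) (selTN1983 j) (Bool.rec (motive := fun _ => ℕ) (selTN1984 j) rl3289 (Nat.ble 3289 j)) (Nat.ble 3287 j))

/-- a part of the choice of the part of the table -/
noncomputable def selTN1986 (j : ℕ) : ℕ := (Bool.rec (motive := fun _ => ℕ) rl3290 rl3291 (Nat.ble 3291 j))

/-- a part of the choice of the part of the table -/
noncomputable def selTN1987 (j : ℕ) : ℕ := (Bool.rec (motive := fun _ => ℕ) rl3292 rl3293 (Nat.ble 3293 j))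

/-- a part of the choice of the part of the table -/
noncomputable def selTN1988 (j : ℕ) : ℕ := (Bool.rec (motive := fun _ => ℕ) (selTN1986 j) (Bool.rec (motive := fun _ => ℕ) (selTN1987 j) rl3294 (Nat.ble 3294 j)) (Nat.ble 3292 j))

/-- a part of the choice of the part of the table -/
noncomputable def selTN1989 (j : ℕ) : ℕ := (Bool.rec (motive := fun _ => ℕ) rl3295 (Bool.rec (motive := fun _ => ℕ) rl3296 rl3297 (Nat.ble 3297 j)) (Nat.ble 3296 j))

/-- a part of the choice of the part of the table -/
noncomputable def selTN1990 (j : ℕ) : ℕ := (Bool.rec (motive := fun _ => ℕ) (Bool.rec (motive := fun _ => ℕ) (selTN1982 j) (selTN1985 j) (Nat.ble 3285 j)) (Bool.rec (motive := fun _ => ℕ) (selTN1988 j) (selTN1989 j) (Nat.ble 3295 j)) (Nat.ble 3290 j))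

/-- a part of the choice of the part of the table -/
noncomputable def selTN1991 (j : ℕ) : ℕ := (Bool.rec (motive := fun _ => ℕ) (Bool.rec (motive := fun _ => ℕ) (selTN1957 j) (selTN1968 j) (Nat.ble 3242 j)) (Bool.rec (motive := fun _ => ℕ) (selTN1979 j) (selTN1990 j) (Nat.ble 3280 j)) (Nat.ble 3261 j))

/-- a part of the choice of the part of the table -/
noncomputable def selTN1992 (j : ℕ) : ℕ := (Bool.rec (motive := fun _ => ℕ) (Bool.rec (motive := fun _ => ℕ) (selTN1856 j) (selTN1901 j) (Nat.ble 3073 j)) (Bool.rec (motive := fun _ => ℕ) (selTN1946 j) (selTN1991 j) (Nat.ble 3223 j)) (Nat.ble 3148 j))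

/-- a part of the choice of the part of the table -/
noncomputable def selTN1993 (j : ℕ) : ℕ := (Bool.rec (motive := fun _ => ℕ) rl3298 rl3299 (Nat.ble 3299 j))

/-- a part of the choice of the part of the table -/
noncomputable def selTN1994 (j : ℕ) : ℕ := (Bool.rec (motive := fun _ => ℕ) rl3300 rl3301 (Nat.ble 3301 j))

/-- a part of the choice of the part of the table -/
noncomputable def selTN1995 (j : ℕ) : ℕ := (Bool.rec (motive := fun _ => ℕ) (selTN1993 j) (Bool.rec (motive := fun _ => ℕ) (selTN1994 j) rl3302 (Nat.ble 3302 j)) (Nat.ble 3300 j))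

/-- a part of the choice of the part of the table -/
noncomputable def selTN1996 (j : ℕ) : ℕ := (Bool.rec (motive := fun _ => ℕ) rl3303 rl3304 (Nat.ble 3304 j))

/-- a part of the choice of the part of the table -/
noncomputable def selTN1997 (j : ℕ) : ℕ := (Bool.rec (motive := fun _ => ℕ) rl3305 rl3306 (Nat.ble 3306 j))

/-- a part of the choice of the part of the table -/
noncomputable def selTN1998 (j : ℕ) : ℕ := (Bool.rec (motive := fun _ => ℕ) (selTN1996 j) (Bool.rec (motive := fun _ => ℕ) (selTN1997 j) rl3307 (Nat.ble 3307 j)) (Nat.ble 3305 j))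

/-- a part of the choice of the part of the table -/
noncomputable def selTN1999 (j : ℕ) : ℕ := (Bool.rec (motive := fun _ => ℕ) rl3308 rl3309 (Nat.ble 3309 j))

/-- a part of the choice of the part of the table -/
noncomputable def selTN2000 (j : ℕ) : ℕ := (Bool.rec (motive := fun _ => ℕ) rl3310 rl3311 (Nat.ble 3311 j))

/-- a part of the choice of the part of the table -/
noncomputable def selTN2001 (j : ℕ) : ℕ := (Bool.rec (motive := fun _ => ℕ) (selTN1999 j) (Bool.rec (motive := fun _ => ℕ) (selTN2000 j) rl3312 (Nat.ble 3312 j)) (Nat.ble 3310 j))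

/-- a part of the choice of the part of the table -/
noncomputable def selTN2002 (j : ℕ) : ℕ := (Bool.rec (motive := fun _ => ℕ) (Bool.rec (motive := fun _ => ℕ) rl3313 rl3314 (Nat.ble 3314 j)) (Bool.rec (motive := fun _ => ℕ) rl3315 rl3316 (Nat.ble 3316 j)) (Nat.ble 3315 j))

/-- a part of the choice of the part of the table -/
noncomputable def selTN2003 (j : ℕ) : ℕ := (Bool.rec (motive := fun _ => ℕ) (Bool.rec (motive := fun _ => ℕ) (selTN1995 j) (selTN1998 j) (Nat.ble 3303 j)) (Bool.rec (motive := fun _ => ℕ) (selTN2001 j) (selTN2002 j) (Nat.ble 3313 j)) (Nat.ble 3308 j))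

/-- a part of the choice of the part of the table -/
noncomputable def selTN2004 (j : ℕ) : ℕ := (Bool.rec (motive := fun _ => ℕ) rl3317 rl3318 (Nat.ble 3318 j))

/-- a part of the choice of the part of the table -/
noncomputable def selTN2005 (j : ℕ) : ℕ := (Bool.rec (motive := fun _ => ℕ) rl3319 rl3320 (Nat.ble 3320 j))

/-- a part of the choice of the part of the table -/
noncomputable def selTN2006 (j : ℕ) : ℕ := (Bool.rec (motive := fun _ => ℕ) (selTN2004 j) (Bool.rec (motive := fun _ => ℕ) (selTN2005 j) rl3321 (Nat.ble 3321 j)) (Nat.ble 3319 j))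

/-- a part of the choice of the part of the table -/
noncomputable def selTN2007 (j : ℕ) : ℕ := (Bool.rec (motive := fun _ => ℕ) rl3322 rl3323 (Nat.ble 3323 j))

/-- a part of the choice of the part of the table -/
noncomputable def selTN2008 (j : ℕ) : ℕ := (Bool.rec (motive := fun _ => ℕ) rl3324 rl3325 (Nat.ble 3325 j))

/-- a part of the choice of the part of the table -/
noncomputable def selTN2009 (j : ℕ) : ℕ := (Bool.rec (motive := fun _ => ℕ) (selTN2007 j) (Bool.rec (motive := fun _ => ℕ) (selTN2008 j) rl3326 (Nat.ble 3326 j)) (Nat.ble 3324 j))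

/-- a part of the choice of the part of the table -/
noncomputable def selTN2010 (j : ℕ) : ℕ := (Bool.rec (motive := fun _ => ℕ) rl3327 rl3328 (Nat.ble 3328 j))

/-- a part of the choice of the part of the table -/
noncomputable def selTN2011 (j : ℕ) : ℕ := (Bool.rec (motive := fun _ => ℕ) rl3329 rl3330 (Nat.ble 3330 j))

/-- a part of the choice of the part of the table -/
noncomputable def selTN2012 (j : ℕ) : ℕ := (Bool.rec (motive := fun _ => ℕ) (selTN2010 j) (Bool.rec (motive := fun _ => ℕ) (selTN2011 j) rl3331 (Nat.ble 3331 j)) (Nat.ble 3329 j))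

/-- a part of the choice of the part of the table -/
noncomputable def selTN2013 (j : ℕ) : ℕ := (Bool.rec (motive := fun _ => ℕ) (Bool.rec (motive := fun _ => ℕ) rl3332 rl3333 (Nat.ble 3333 j)) (Bool.rec (motive := fun _ => ℕ) rl3334 rl3335 (Nat.ble 3335 j)) (Nat.ble 3334 j))

/-- a part of the choice of the part of the table -/
noncomputable def selTN2014 (j : ℕ) : ℕ := (Bool.rec (motive := fun _ => ℕ) (Bool.rec (motive := fun _ => ℕ) (selTN2006 j) (selTN2009 j) (Nat.ble 3322 j)) (Bool.rec (motive := fun _ => ℕ) (selTN2012 j) (selTN2013 j) (Nat.ble 3332 j)) (Nat.ble 3327 j))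

/-- a part of the choice of the part of the table -/
noncomputable def selTN2015 (j : ℕ) : ℕ := (Bool.rec (motive := fun _ => ℕ) rl3336 rl3337 (Nat.ble 3337 j))

/-- a part of the choice of the part of the table -/
noncomputable def selTN2016 (j : ℕ) : ℕ := (Bool.rec (motive := fun _ => ℕ) rl3338 rl3339 (Nat.ble 3339 j))

/-- a part of the choice of the part of the table -/
noncomputable def selTN2017 (j : ℕ) : ℕ := (Bool.rec (motive := fun _ => ℕ) (selTN2015 j) (Bool.rec (motive := fun _ => ℕ) (selTN2016 j) rl3340 (Nat.ble 3340 j)) (Nat.ble 3338 j))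

/-- a part of the choice of the part of the table -/
noncomputable def selTN2018 (j : ℕ) : ℕ := (Bool.rec (motive := fun _ => ℕ) rl3341 rl3342 (Nat.ble 3342 j))

/-- a part of the choice of the part of the table -/
noncomputable def selTN2019 (j : ℕ) : ℕ := (Bool.rec (motive := fun _ => ℕ) rl3343 rl3344 (Nat.ble 3344 j))

/-- a part of the choice of the part of the table -/
noncomputable def selTN2020 (j : ℕ) : ℕ := (Bool.rec (motive := fun _ => ℕ) (selTN2018 j) (Bool.rec (motive := fun _ => ℕ) (selTN2019 j) rl3345 (Nat.ble 3345 j)) (Nat.ble 3343 j))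

/-- a part of the choice of the part of the table -/
noncomputable def selTN2021 (j : ℕ) : ℕ := (Bool.rec (motive := fun _ => ℕ) rl3346 rl3347 (Nat.ble 3347 j))

/-- a part of the choice of the part of the table -/
noncomputable def selTN2022 (j : ℕ) : ℕ := (Bool.rec (motive := fun _ => ℕ) rl3348 rl3349 (Nat.ble 3349 j))

/-- a part of the choice of the part of the table -/
noncomputable def selTN2023 (j : ℕ) : ℕ := (Bool.rec (motive := fun _ => ℕ) (selTN2021 j) (Bool.rec (motive := fun _ => ℕ) (selTN2022 j) rl3350 (Nat.ble 3350 j)) (Nat.ble 3348 j))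

/-- a part of the choice of the part of the table -/
noncomputable def selTN2024 (j : ℕ) : ℕ := (Bool.rec (motive := fun _ => ℕ) (Bool.rec (motive := fun _ => ℕ) rl3351 rl3352 (Nat.ble 3352 j)) (Bool.rec (motive := fun _ => ℕ) rl3353 rl3354 (Nat.ble 3354 j)) (Nat.ble 3353 j))

/-- a part of the choice of the part of the table -/
noncomputable def selTN2025 (j : ℕ) : ℕ := (Bool.rec (motive := fun _ => ℕ) (Bool.rec (motive := fun _ => ℕ) (selTN2017 j) (selTN2020 j) (Nat.ble 3341 j)) (Bool.rec (motive := fun _ => ℕ) (selTN2023 j) (selTN2024 j) (Nat.ble 3351 j)) (Nat.ble 3346 j))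

/-- a part of the choice of the part of the table -/
noncomputable def selTN2026 (j : ℕ) : ℕ := (Bool.rec (motive := fun _ => ℕ) rl3355 rl3356 (Nat.ble 3356 j))

/-- a part of the choice of the part of the table -/
noncomputable def selTN2027 (j : ℕ) : ℕ := (Bool.rec (motive := fun _ => ℕ) rl3357 rl3358 (Nat.ble 3358 j))

/-- a part of the choice of the part of the table -/
noncomputable def selTN2028 (j : ℕ) : ℕ := (Bool.rec (motive := fun _ => ℕ) (selTN2026 j) (Bool.rec (motive := fun _ => ℕ) (selTN2027 j) rl3359 (Nat.ble 3359 j)) (Nat.ble 3357 j))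

/-- a part of the choice of the part of the table -/
noncomputable def selTN2029 (j : ℕ) : ℕ := (Bool.rec (motive := fun _ => ℕ) rl3360 rl3361 (Nat.ble 3361 j))

/-- a part of the choice of the part of the table -/
noncomputable def selTN2030 (j : ℕ) : ℕ := (Bool.rec (motive := fun _ => ℕ) rl3362 rl3363 (Nat.ble 3363 j))

/-- a part of the choice of the part of the table -/
noncomputable def selTN2031 (j : ℕ) : ℕ := (Bool.rec (motive := fun _ => ℕ) (selTN2029 j) (Bool.rec (motive := fun _ => ℕ) (selTN2030 j) rl3364 (Nat.ble 3364 j)) (Nat.ble 3362 j))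

/-- a part of the choice of the part of the table -/
noncomputable def selTN2032 (j : ℕ) : ℕ := (Bool.rec (motive := fun _ => ℕ) rl3365 rl3366 (Nat.ble 3366 j))

/-- a part of the choice of the part of the table -/
noncomputable def selTN2033 (j : ℕ) : ℕ := (Bool.rec (motive := fun _ => ℕ) rl3367 rl3368 (Nat.ble 3368 j))

/-- a part of the choice of the part of the table -/
noncomputable def selTN2034 (j : ℕ) : ℕ := (Bool.rec (motive := fun _ => ℕ) (selTN2032 j) (Bool.rec (motive := fun _ => ℕ) (selTN2033 j) rl3369 (Nat.ble 3369 j)) (Nat.ble 3367 j))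

/-- a part of the choice of the part of the table -/
noncomputable def selTN2035 (j : ℕ) : ℕ := (Bool.rec (motive := fun _ => ℕ) rl3370 (Bool.rec (motive := fun _ => ℕ) rl3371 rl3372 (Nat.ble 3372 j)) (Nat.ble 3371 j))

/-- a part of the choice of the part of the table -/
noncomputable def selTN2036 (j : ℕ) : ℕ := (Bool.rec (motive := fun _ => ℕ) (Bool.rec (motive := fun _ => ℕ) (selTN2028 j) (selTN2031 j) (Nat.ble 3360 j)) (Bool.rec (motive := fun _ => ℕ) (selTN2034 j) (selTN2035 j) (Nat.ble 3370 j)) (Nat.ble 3365 j))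

/-- a part of the choice of the part of the table -/
noncomputable def selTN2037 (j : ℕ) : ℕ := (Bool.rec (motive := fun _ => ℕ) (Bool.rec (motive := fun _ => ℕ) (selTN2003 j) (selTN2014 j) (Nat.ble 3317 j)) (Bool.rec (motive := fun _ => ℕ) (selTN2025 j) (selTN2036 j) (Nat.ble 3355 j)) (Nat.ble 3336 j))

/-- a part of the choice of the part of the table -/
noncomputable def selTN2038 (j : ℕ) : ℕ := (Bool.rec (motive := fun _ => ℕ) rl3373 rl3374 (Nat.ble 3374 j))

/-- a part of the choice of the part of the table -/
noncomputable def selTN2039 (j : ℕ) : ℕ := (Bool.rec (motive := fun _ => ℕ) rl3375 rl3376 (Nat.ble 3376 j))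

/-- a part of the choice of the part of the table -/
noncomputable def selTN2040 (j : ℕ) : ℕ := (Bool.rec (motive := fun _ => ℕ) (selTN2038 j) (Bool.rec (motive := fun _ => ℕ) (selTN2039 j) rl3377 (Nat.ble 3377 j)) (Nat.ble 3375 j))

/-- a part of the choice of the part of the table -/
noncomputable def selTN2041 (j : ℕ) : ℕ := (Bool.rec (motive := fun _ => ℕ) rl3378 rl3379 (Nat.ble 3379 j))

/-- a part of the choice of the part of the table -/
noncomputable def selTN2042 (j : ℕ) : ℕ := (Bool.rec (motive := fun _ => ℕ) rl3380 rl3381 (Nat.ble 3381 j))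

/-- a part of the choice of the part of the table -/
noncomputable def selTN2043 (j : ℕ) : ℕ := (Bool.rec (motive := fun _ => ℕ) (selTN2041 j) (Bool.rec (motive := fun _ => ℕ) (selTN2042 j) rl3382 (Nat.ble 3382 j)) (Nat.ble 3380 j))

/-- a part of the choice of the part of the table -/
noncomputable def selTN2044 (j : ℕ) : ℕ := (Bool.rec (motive := fun _ => ℕ) rl3383 rl3384 (Nat.ble 3384 j))

/-- a part of the choice of the part of the table -/
noncomputable def selTN2045 (j : ℕ) : ℕ := (Bool.rec (motive := fun _ => ℕ) rl3385 rl3386 (Nat.ble 3386 j))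

/-- a part of the choice of the part of the table -/
noncomputable def selTN2046 (j : ℕ) : ℕ := (Bool.rec (motive := fun _ => ℕ) (selTN2044 j) (Bool.rec (motive := fun _ => ℕ) (selTN2045 j) rl3387 (Nat.ble 3387 j)) (Nat.ble 3385 j))

/-- a part of the choice of the part of the table -/
noncomputable def selTN2047 (j : ℕ) : ℕ := (Bool.rec (motive := fun _ => ℕ) (Bool.rec (motive := fun _ => ℕ) rl3388 rl3389 (Nat.ble 3389 j)) (Bool.rec (motive := fun _ => ℕ) rl3390 rl3391 (Nat.ble 3391 j)) (Nat.ble 3390 j))

/-- a part of the choice of the part of the table -/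
noncomputable def selTN2048 (j : ℕ) : ℕ := (Bool.rec (motive := fun _ => ℕ) (Bool.rec (motive := fun _ => ℕ) (selTN2040 j) (selTN2043 j) (Nat.ble 3378 j)) (Bool.rec (motive := fun _ => ℕ) (selTN2046 j) (selTN2047 j) (Nat.ble 3388 j)) (Nat.ble 3383 j))

/-- a part of the choice of the part of the table -/
noncomputable def selTN2049 (j : ℕ) : ℕ := (Bool.rec (motive := fun _ => ℕ) rl3392 rl3393 (Nat.ble 3393 j))

/-- a part of the choice of the part of the table -/
noncomputable def selTN2050 (j : ℕ) : ℕ := (Bool.rec (motive := fun _ => ℕ) rl3394 rl3395 (Nat.ble 3395 j))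

/-- a part of the choice of the part of the table -/
noncomputable def selTN2051 (j : ℕ) : ℕ := (Bool.rec (motive := fun _ => ℕ) (selTN2049 j) (Bool.rec (motive := fun _ => ℕ) (selTN2050 j) rl3396 (Nat.ble 3396 j)) (Nat.ble 3394 j))

/-- a part of the choice of the part of the table -/
noncomputable def selTN2052 (j : ℕ) : ℕ := (Bool.rec (motive := fun _ => ℕ) rl3397 rl3398 (Nat.ble 3398 j))

/-- a part of the choice of the part of the table -/
noncomputable def selTN2053 (j : ℕ) : ℕ := (Bool.rec (motive := fun _ => ℕ) rl3399 rl3400 (Nat.ble 3400 j))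

/-- a part of the choice of the part of the table -/
noncomputable def selTN2054 (j : ℕ) : ℕ := (Bool.rec (motive := fun _ => ℕ) (selTN2052 j) (Bool.rec (motive := fun _ => ℕ) (selTN2053 j) rl3401 (Nat.ble 3401 j)) (Nat.ble 3399 j))

/-- a part of the choice of the part of the table -/
noncomputable def selTN2055 (j : ℕ) : ℕ := (Bool.rec (motive := fun _ => ℕ) rl3402 rl3403 (Nat.ble 3403 j))

/-- a part of the choice of the part of the table -/
noncomputable def selTN2056 (j : ℕ) : ℕ := (Bool.rec (motive := fun _ => ℕ) rl3404 rl3405 (Nat.ble 3405 j))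

/-- a part of the choice of the part of the table -/
noncomputable def selTN2057 (j : ℕ) : ℕ := (Bool.rec (motive := fun _ => ℕ) (selTN2055 j) (Bool.rec (motive := fun _ => ℕ) (selTN2056 j) rl3406 (Nat.ble 3406 j)) (Nat.ble 3404 j))

/-- a part of the choice of the part of the table -/
noncomputable def selTN2058 (j : ℕ) : ℕ := (Bool.rec (motive := fun _ => ℕ) (Bool.rec (motive := fun _ => ℕ) rl3407 rl3408 (Nat.ble 3408 j)) (Bool.rec (motive := fun _ => ℕ) rl3409 rl3410 (Nat.ble 3410 j)) (Nat.ble 3409 j))

/-- a part of the choice of the part of the table -/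
noncomputable def selTN2059 (j : ℕ) : ℕ := (Bool.rec (motive := fun _ => ℕ) (Bool.rec (motive := fun _ => ℕ) (selTN2051 j) (selTN2054 j) (Nat.ble 3397 j)) (Bool.rec (motive := fun _ => ℕ) (selTN2057 j) (selTN2058 j) (Nat.ble 3407 j)) (Nat.ble 3402 j))

/-- a part of the choice of the part of the table -/
noncomputable def selTN2060 (j : ℕ) : ℕ := (Bool.rec (motive := fun _ => ℕ) rl3411 rl3412 (Nat.ble 3412 j))

/-- a part of the choice of the part of the table -/
noncomputable def selTN2061 (j : ℕ) : ℕ := (Bool.rec (motive := fun _ => ℕ) rl3413 rl3414 (Nat.ble 3414 j))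

/-- a part of the choice of the part of the table -/
noncomputable def selTN2062 (j : ℕ) : ℕ := (Bool.rec (motive := fun _ => ℕ) (selTN2060 j) (Bool.rec (motive := fun _ => ℕ) (selTN2061 j) rl3415 (Nat.ble 3415 j)) (Nat.ble 3413 j))

/-- a part of the choice of the part of the table -/
noncomputable def selTN2063 (j : ℕ) : ℕ := (Bool.rec (motive := fun _ => ℕ) rl3416 rl3417 (Nat.ble 3417 j))

/-- a part of the choice of the part of the table -/
noncomputable def selTN2064 (j : ℕ) : ℕ := (Bool.rec (motive := fun _ => ℕ) rl3418 rl3419 (Nat.ble 3419 j))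

/-- a part of the choice of the part of the table -/
noncomputable def selTN2065 (j : ℕ) : ℕ := (Bool.rec (motive := fun _ => ℕ) (selTN2063 j) (Bool.rec (motive := fun _ => ℕ) (selTN2064 j) rl3420 (Nat.ble 3420 j)) (Nat.ble 3418 j))

/-- a part of the choice of the part of the table -/
noncomputable def selTN2066 (j : ℕ) : ℕ := (Bool.rec (motive := fun _ => ℕ) rl3421 rl3422 (Nat.ble 3422 j))

/-- a part of the choice of the part of the table -/
noncomputable def selTN2067 (j : ℕ) : ℕ := (Bool.rec (motive := fun _ => ℕ) rl3423 rl3424 (Nat.ble 3424 j))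

/-- a part of the choice of the part of the table -/
noncomputable def selTN2068 (j : ℕ) : ℕ := (Bool.rec (motive := fun _ => ℕ) (selTN2066 j) (Bool.rec (motive := fun _ => ℕ) (selTN2067 j) rl3425 (Nat.ble 3425 j)) (Nat.ble 3423 j))

/-- a part of the choice of the part of the table -/
noncomputable def selTN2069 (j : ℕ) : ℕ := (Bool.rec (motive := fun _ => ℕ) (Bool.rec (motive := fun _ => ℕ) rl3426 rl3427 (Nat.ble 3427 j)) (Bool.rec (motive := fun _ => ℕ) rl3428 rl3429 (Nat.ble 3429 j)) (Nat.ble 3428 j))

/-- a part of the choice of the part of the table -/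
noncomputable def selTN2070 (j : ℕ) : ℕ := (Bool.rec (motive := fun _ => ℕ) (Bool.rec (motive := fun _ => ℕ) (selTN2062 j) (selTN2065 j) (Nat.ble 3416 j)) (Bool.rec (motive := fun _ => ℕ) (selTN2068 j) (selTN2069 j) (Nat.ble 3426 j)) (Nat.ble 3421 j))

/-- a part of the choice of the part of the table -/
noncomputable def selTN2071 (j : ℕ) : ℕ := (Bool.rec (motive := fun _ => ℕ) rl3430 rl3431 (Nat.ble 3431 j))

/-- a part of the choice of the part of the table -/
noncomputable def selTN2072 (j : ℕ) : ℕ := (Bool.rec (motive := fun _ => ℕ) rl3432 rl3433 (Nat.ble 3433 j))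

/-- a part of the choice of the part of the table -/
noncomputable def selTN2073 (j : ℕ) : ℕ := (Bool.rec (motive := fun _ => ℕ) (selTN2071 j) (Bool.rec (motive := fun _ => ℕ) (selTN2072 j) rl3434 (Nat.ble 3434 j)) (Nat.ble 3432 j))

/-- a part of the choice of the part of the table -/
noncomputable def selTN2074 (j : ℕ) : ℕ := (Bool.rec (motive := fun _ => ℕ) rl3435 rl3436 (Nat.ble 3436 j))

/-- a part of the choice of the part of the table -/
noncomputable def selTN2075 (j : ℕ) : ℕ := (Bool.rec (motive := fun _ => ℕ) rl3437 rl3438 (Nat.ble 3438 j))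

/-- a part of the choice of the part of the table -/
noncomputable def selTN2076 (j : ℕ) : ℕ := (Bool.rec (motive := fun _ => ℕ) (selTN2074 j) (Bool.rec (motive := fun _ => ℕ) (selTN2075 j) rl3439 (Nat.ble 3439 j)) (Nat.ble 3437 j))

/-- a part of the choice of the part of the table -/
noncomputable def selTN2077 (j : ℕ) : ℕ := (Bool.rec (motive := fun _ => ℕ) rl3440 rl3441 (Nat.ble 3441 j))

/-- a part of the choice of the part of the table -/
noncomputable def selTN2078 (j : ℕ) : ℕ := (Bool.rec (motive := fun _ => ℕ) rl3442 rl3443 (Nat.ble 3443 j))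

/-- a part of the choice of the part of the table -/
noncomputable def selTN2079 (j : ℕ) : ℕ := (Bool.rec (motive := fun _ => ℕ) (selTN2077 j) (Bool.rec (motive := fun _ => ℕ) (selTN2078 j) rl3444 (Nat.ble 3444 j)) (Nat.ble 3442 j))

/-- a part of the choice of the part of the table -/
noncomputable def selTN2080 (j : ℕ) : ℕ := (Bool.rec (motive := fun _ => ℕ) rl3445 (Bool.rec (motive := fun _ => ℕ) rl3446 rl3447 (Nat.ble 3447 j)) (Nat.ble 3446 j))

/-- a part of the choice of the part of the table -/
noncomputable def selTN2081 (j : ℕ) : ℕ := (Bool.rec (motive := fun _ => ℕ) (Bool.rec (motive := fun _ => ℕ) (selTN2073 j) (selTN2076 j) (Nat.ble 3435 j)) (Bool.rec (motive := fun _ => ℕ) (selTN2079 j) (selTN2080 j) (Nat.ble 3445 j)) (Nat.ble 3440 j))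

/-- a part of the choice of the part of the table -/
noncomputable def selTN2082 (j : ℕ) : ℕ := (Bool.rec (motive := fun _ => ℕ) (Bool.rec (motive := fun _ => ℕ) (selTN2048 j) (selTN2059 j) (Nat.ble 3392 j)) (Bool.rec (motive := fun _ => ℕ) (selTN2070 j) (selTN2081 j) (Nat.ble 3430 j)) (Nat.ble 3411 j))

/-- a part of the choice of the part of the table -/
noncomputable def selTN2083 (j : ℕ) : ℕ := (Bool.rec (motive := fun _ => ℕ) rl3448 rl3449 (Nat.ble 3449 j))

/-- a part of the choice of the part of the table -/
noncomputable def selTN2084 (j : ℕ) : ℕ := (Bool.rec (motive := fun _ => ℕ) rl3450 rl3451 (Nat.ble 3451 j))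

/-- a part of the choice of the part of the table -/
noncomputable def selTN2085 (j : ℕ) : ℕ := (Bool.rec (motive := fun _ => ℕ) (selTN2083 j) (Bool.rec (motive := fun _ => ℕ) (selTN2084 j) rl3452 (Nat.ble 3452 j)) (Nat.ble 3450 j))

/-- a part of the choice of the part of the table -/
noncomputable def selTN2086 (j : ℕ) : ℕ := (Bool.rec (motive := fun _ => ℕ) rl3453 rl3454 (Nat.ble 3454 j))

/-- a part of the choice of the part of the table -/
noncomputable def selTN2087 (j : ℕ) : ℕ := (Bool.rec (motive := fun _ => ℕ) rl3455 rl3456 (Nat.ble 3456 j))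

/-- a part of the choice of the part of the table -/
noncomputable def selTN2088 (j : ℕ) : ℕ := (Bool.rec (motive := fun _ => ℕ) (selTN2086 j) (Bool.rec (motive := fun _ => ℕ) (selTN2087 j) rl3457 (Nat.ble 3457 j)) (Nat.ble 3455 j))

/-- a part of the choice of the part of the table -/
noncomputable def selTN2089 (j : ℕ) : ℕ := (Bool.rec (motive := fun _ => ℕ) rl3458 rl3459 (Nat.ble 3459 j))

/-- a part of the choice of the part of the table -/
noncomputable def selTN2090 (j : ℕ) : ℕ := (Bool.rec (motive := fun _ => ℕ) rl3460 rl3461 (Nat.ble 3461 j))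

/-- a part of the choice of the part of the table -/
noncomputable def selTN2091 (j : ℕ) : ℕ := (Bool.rec (motive := fun _ => ℕ) (selTN2089 j) (Bool.rec (motive := fun _ => ℕ) (selTN2090 j) rl3462 (Nat.ble 3462 j)) (Nat.ble 3460 j))

/-- a part of the choice of the part of the table -/
noncomputable def selTN2092 (j : ℕ) : ℕ := (Bool.rec (motive := fun _ => ℕ) (Bool.rec (motive := fun _ => ℕ) rl3463 rl3464 (Nat.ble 3464 j)) (Bool.rec (motive := fun _ => ℕ) rl3465 rl3466 (Nat.ble 3466 j)) (Nat.ble 3465 j))

/-- a part of the choice of the part of the table -/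
noncomputable def selTN2093 (j : ℕ) : ℕ := (Bool.rec (motive := fun _ => ℕ) (Bool.rec (motive := fun _ => ℕ) (selTN2085 j) (selTN2088 j) (Nat.ble 3453 j)) (Bool.rec (motive := fun _ => ℕ) (selTN2091 j) (selTN2092 j) (Nat.ble 3463 j)) (Nat.ble 3458 j))

/-- a part of the choice of the part of the table -/
noncomputable def selTN2094 (j : ℕ) : ℕ := (Bool.rec (motive := fun _ => ℕ) rl3467 rl3468 (Nat.ble 3468 j))

/-- a part of the choice of the part of the table -/
noncomputable def selTN2095 (j : ℕ) : ℕ := (Bool.rec (motive := fun _ => ℕ) rl3469 rl3470 (Nat.ble 3470 j))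

/-- a part of the choice of the part of the table -/
noncomputable def selTN2096 (j : ℕ) : ℕ := (Bool.rec (motive := fun _ => ℕ) (selTN2094 j) (Bool.rec (motive := fun _ => ℕ) (selTN2095 j) rl3471 (Nat.ble 3471 j)) (Nat.ble 3469 j))

/-- a part of the choice of the part of the table -/
noncomputable def selTN2097 (j : ℕ) : ℕ := (Bool.rec (motive := fun _ => ℕ) rl3472 rl3473 (Nat.ble 3473 j))

/-- a part of the choice of the part of the table -/
noncomputable def selTN2098 (j : ℕ) : ℕ := (Bool.rec (motive := fun _ => ℕ) rl3474 rl3475 (Nat.ble 3475 j))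

/-- a part of the choice of the part of the table -/
noncomputable def selTN2099 (j : ℕ) : ℕ := (Bool.rec (motive := fun _ => ℕ) (selTN2097 j) (Bool.rec (motive := fun _ => ℕ) (selTN2098 j) rl3476 (Nat.ble 3476 j)) (Nat.ble 3474 j))

/-- a part of the choice of the part of the table -/
noncomputable def selTN2100 (j : ℕ) : ℕ := (Bool.rec (motive := fun _ => ℕ) rl3477 rl3478 (Nat.ble 3478 j))

/-- a part of the choice of the part of the table -/
noncomputable def selTN2101 (j : ℕ) : ℕ := (Bool.rec (motive := fun _ => ℕ) rl3479 rl3480 (Nat.ble 3480 j))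

/-- a part of the choice of the part of the table -/
noncomputable def selTN2102 (j : ℕ) : ℕ := (Bool.rec (motive := fun _ => ℕ) (selTN2100 j) (Bool.rec (motive := fun _ => ℕ) (selTN2101 j) rl3481 (Nat.ble 3481 j)) (Nat.ble 3479 j))

/-- a part of the choice of the part of the table -/
noncomputable def selTN2103 (j : ℕ) : ℕ := (Bool.rec (motive := fun _ => ℕ) (Bool.rec (motive := fun _ => ℕ) rl3482 rl3483 (Nat.ble 3483 j)) (Bool.rec (motive := fun _ => ℕ) rl3484 rl3485 (Nat.ble 3485 j)) (Nat.ble 3484 j))

/-- a part of the choice of the part of the table -/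
noncomputable def selTN2104 (j : ℕ) : ℕ := (Bool.rec (motive := fun _ => ℕ) (Bool.rec (motive := fun _ => ℕ) (selTN2096 j) (selTN2099 j) (Nat.ble 3472 j)) (Bool.rec (motive := fun _ => ℕ) (selTN2102 j) (selTN2103 j) (Nat.ble 3482 j)) (Nat.ble 3477 j))

/-- a part of the choice of the part of the table -/
noncomputable def selTN2105 (j : ℕ) : ℕ := (Bool.rec (motive := fun _ => ℕ) rl3486 rl3487 (Nat.ble 3487 j))

/-- a part of the choice of the part of the table -/
noncomputable def selTN2106 (j : ℕ) : ℕ := (Bool.rec (motive := fun _ => ℕ) rl3488 rl3489 (Nat.ble 3489 j))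

/-- a part of the choice of the part of the table -/
noncomputable def selTN2107 (j : ℕ) : ℕ := (Bool.rec (motive := fun _ => ℕ) (selTN2105 j) (Bool.rec (motive := fun _ => ℕ) (selTN2106 j) rl3490 (Nat.ble 3490 j)) (Nat.ble 3488 j))

/-- a part of the choice of the part of the table -/
noncomputable def selTN2108 (j : ℕ) : ℕ := (Bool.rec (motive := fun _ => ℕ) rl3491 rl3492 (Nat.ble 3492 j))

/-- a part of the choice of the part of the table -/
noncomputable def selTN2109 (j : ℕ) : ℕ := (Bool.rec (motive := fun _ => ℕ) rl3493 rl3494 (Nat.ble 3494 j))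

/-- a part of the choice of the part of the table -/
noncomputable def selTN2110 (j : ℕ) : ℕ := (Bool.rec (motive := fun _ => ℕ) (selTN2108 j) (Bool.rec (motive := fun _ => ℕ) (selTN2109 j) rl3495 (Nat.ble 3495 j)) (Nat.ble 3493 j))

/-- a part of the choice of the part of the table -/
noncomputable def selTN2111 (j : ℕ) : ℕ := (Bool.rec (motive := fun _ => ℕ) rl3496 rl3497 (Nat.ble 3497 j))

/-- a part of the choice of the part of the table -/
noncomputable def selTN2112 (j : ℕ) : ℕ := (Bool.rec (motive := fun _ => ℕ) rl3498 rl3499 (Nat.ble 3499 j))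

/-- a part of the choice of the part of the table -/
noncomputable def selTN2113 (j : ℕ) : ℕ := (Bool.rec (motive := fun _ => ℕ) (selTN2111 j) (Bool.rec (motive := fun _ => ℕ) (selTN2112 j) rl3500 (Nat.ble 3500 j)) (Nat.ble 3498 j))

/-- a part of the choice of the part of the table -/
noncomputable def selTN2114 (j : ℕ) : ℕ := (Bool.rec (motive := fun _ => ℕ) (Bool.rec (motive := fun _ => ℕ) rl3501 rl3502 (Nat.ble 3502 j)) (Bool.rec (motive := fun _ => ℕ) rl3503 rl3504 (Nat.ble 3504 j)) (Nat.ble 3503 j))

/-- a part of the choice of the part of the table -/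
noncomputable def selTN2115 (j : ℕ) : ℕ := (Bool.rec (motive := fun _ => ℕ) (Bool.rec (motive := fun _ => ℕ) (selTN2107 j) (selTN2110 j) (Nat.ble 3491 j)) (Bool.rec (motive := fun _ => ℕ) (selTN2113 j) (selTN2114 j) (Nat.ble 3501 j)) (Nat.ble 3496 j))

/-- a part of the choice of the part of the table -/
noncomputable def selTN2116 (j : ℕ) : ℕ := (Bool.rec (motive := fun _ => ℕ) rl3505 rl3506 (Nat.ble 3506 j))

/-- a part of the choice of the part of the table -/
noncomputable def selTN2117 (j : ℕ) : ℕ := (Bool.rec (motive := fun _ => ℕ) rl3507 rl3508 (Nat.ble 3508 j))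

/-- a part of the choice of the part of the table -/
noncomputable def selTN2118 (j : ℕ) : ℕ := (Bool.rec (motive := fun _ => ℕ) (selTN2116 j) (Bool.rec (motive := fun _ => ℕ) (selTN2117 j) rl3509 (Nat.ble 3509 j)) (Nat.ble 3507 j))

/-- a part of the choice of the part of the table -/
noncomputable def selTN2119 (j : ℕ) : ℕ := (Bool.rec (motive := fun _ => ℕ) rl3510 rl3511 (Nat.ble 3511 j))

/-- a part of the choice of the part of the table -/
noncomputable def selTN2120 (j : ℕ) : ℕ := (Bool.rec (motive := fun _ => ℕ) rl3512 rl3513 (Nat.ble 3513 j))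

/-- a part of the choice of the part of the table -/
noncomputable def selTN2121 (j : ℕ) : ℕ := (Bool.rec (motive := fun _ => ℕ) (selTN2119 j) (Bool.rec (motive := fun _ => ℕ) (selTN2120 j) rl3514 (Nat.ble 3514 j)) (Nat.ble 3512 j))

/-- a part of the choice of the part of the table -/
noncomputable def selTN2122 (j : ℕ) : ℕ := (Bool.rec (motive := fun _ => ℕ) rl3515 rl3516 (Nat.ble 3516 j))

/-- a part of the choice of the part of the table -/
noncomputable def selTN2123 (j : ℕ) : ℕ := (Bool.rec (motive := fun _ => ℕ) rl3517 rl3518 (Nat.ble 3518 j))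

/-- a part of the choice of the part of the table -/
noncomputable def selTN2124 (j : ℕ) : ℕ := (Bool.rec (motive := fun _ => ℕ) (selTN2122 j) (Bool.rec (motive := fun _ => ℕ) (selTN2123 j) rl3519 (Nat.ble 3519 j)) (Nat.ble 3517 j))

/-- a part of the choice of the part of the table -/
noncomputable def selTN2125 (j : ℕ) : ℕ := (Bool.rec (motive := fun _ => ℕ) rl3520 (Bool.rec (motive := fun _ => ℕ) rl3521 rl3522 (Nat.ble 3522 j)) (Nat.ble 3521 j))

/-- a part of the choice of the part of the table -/
noncomputable def selTN2126 (j : ℕ) : ℕ := (Bool.rec (motive := fun _ => ℕ) (Bool.rec (motive := fun _ => ℕ) (selTN2118 j) (selTN2121 j) (Nat.ble 3510 j)) (Bool.rec (motive := fun _ => ℕ) (selTN2124 j) (selTN2125 j) (Nat.ble 3520 j)) (Nat.ble 3515 j))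

/-- a part of the choice of the part of the table -/
noncomputable def selTN2127 (j : ℕ) : ℕ := (Bool.rec (motive := fun _ => ℕ) (Bool.rec (motive := fun _ => ℕ) (selTN2093 j) (selTN2104 j) (Nat.ble 3467 j)) (Bool.rec (motive := fun _ => ℕ) (selTN2115 j) (selTN2126 j) (Nat.ble 3505 j)) (Nat.ble 3486 j))

/-- a part of the choice of the part of the table -/
noncomputable def selTN2128 (j : ℕ) : ℕ := (Bool.rec (motive := fun _ => ℕ) rl3523 rl3524 (Nat.ble 3524 j))

/-- a part of the choice of the part of the table -/
noncomputable def selTN2129 (j : ℕ) : ℕ := (Bool.rec (motive := fun _ => ℕ) rl3525 rl3526 (Nat.ble 3526 j))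

/-- a part of the choice of the part of the table -/
noncomputable def selTN2130 (j : ℕ) : ℕ := (Bool.rec (motive := fun _ => ℕ) (selTN2128 j) (Bool.rec (motive := fun _ => ℕ) (selTN2129 j) rl3527 (Nat.ble 3527 j)) (Nat.ble 3525 j))

/-- a part of the choice of the part of the table -/
noncomputable def selTN2131 (j : ℕ) : ℕ := (Bool.rec (motive := fun _ => ℕ) rl3528 rl3529 (Nat.ble 3529 j))

/-- a part of the choice of the part of the table -/
noncomputable def selTN2132 (j : ℕ) : ℕ := (Bool.rec (motive := fun _ => ℕ) rl3530 rl3531 (Nat.ble 3531 j))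

/-- a part of the choice of the part of the table -/
noncomputable def selTN2133 (j : ℕ) : ℕ := (Bool.rec (motive := fun _ => ℕ) (selTN2131 j) (Bool.rec (motive := fun _ => ℕ) (selTN2132 j) rl3532 (Nat.ble 3532 j)) (Nat.ble 3530 j))

/-- a part of the choice of the part of the table -/
noncomputable def selTN2134 (j : ℕ) : ℕ := (Bool.rec (motive := fun _ => ℕ) rl3533 rl3534 (Nat.ble 3534 j))

/-- a part of the choice of the part of the table -/
noncomputable def selTN2135 (j : ℕ) : ℕ := (Bool.rec (motive := fun _ => ℕ) rl3535 rl3536 (Nat.ble 3536 j))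

/-- a part of the choice of the part of the table -/
noncomputable def selTN2136 (j : ℕ) : ℕ := (Bool.rec (motive := fun _ => ℕ) (selTN2134 j) (Bool.rec (motive := fun _ => ℕ) (selTN2135 j) rl3537 (Nat.ble 3537 j)) (Nat.ble 3535 j))

/-- a part of the choice of the part of the table -/
noncomputable def selTN2137 (j : ℕ) : ℕ := (Bool.rec (motive := fun _ => ℕ) (Bool.rec (motive := fun _ => ℕ) rl3538 rl3539 (Nat.ble 3539 j)) (Bool.rec (motive := fun _ => ℕ) rl3540 rl3541 (Nat.ble 3541 j)) (Nat.ble 3540 j))

/-- a part of the choice of the part of the table -/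
noncomputable def selTN2138 (j : ℕ) : ℕ := (Bool.rec (motive := fun _ => ℕ) (Bool.rec (motive := fun _ => ℕ) (selTN2130 j) (selTN2133 j) (Nat.ble 3528 j)) (Bool.rec (motive := fun _ => ℕ) (selTN2136 j) (selTN2137 j) (Nat.ble 3538 j)) (Nat.ble 3533 j))

/-- a part of the choice of the part of the table -/
noncomputable def selTN2139 (j : ℕ) : ℕ := (Bool.rec (motive := fun _ => ℕ) rl3542 rl3543 (Nat.ble 3543 j))

/-- a part of the choice of the part of the table -/
noncomputable def selTN2140 (j : ℕ) : ℕ := (Bool.rec (motive := fun _ => ℕ) rl3544 rl3545 (Nat.ble 3545 j))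

/-- a part of the choice of the part of the table -/
noncomputable def selTN2141 (j : ℕ) : ℕ := (Bool.rec (motive := fun _ => ℕ) (selTN2139 j) (Bool.rec (motive := fun _ => ℕ) (selTN2140 j) rl3546 (Nat.ble 3546 j)) (Nat.ble 3544 j))

/-- a part of the choice of the part of the table -/
noncomputable def selTN2142 (j : ℕ) : ℕ := (Bool.rec (motive := fun _ => ℕ) rl3547 rl3548 (Nat.ble 3548 j))

/-- a part of the choice of the part of the table -/
noncomputable def selTN2143 (j : ℕ) : ℕ := (Bool.rec (motive := fun _ => ℕ) rl3549 rl3550 (Nat.ble 3550 j))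

/-- a part of the choice of the part of the table -/
noncomputable def selTN2144 (j : ℕ) : ℕ := (Bool.rec (motive := fun _ => ℕ) (selTN2142 j) (Bool.rec (motive := fun _ => ℕ) (selTN2143 j) rl3551 (Nat.ble 3551 j)) (Nat.ble 3549 j))

/-- a part of the choice of the part of the table -/
noncomputable def selTN2145 (j : ℕ) : ℕ := (Bool.rec (motive := fun _ => ℕ) rl3552 rl3553 (Nat.ble 3553 j))

/-- a part of the choice of the part of the table -/
noncomputable def selTN2146 (j : ℕ) : ℕ := (Bool.rec (motive := fun _ => ℕ) rl3554 rl3555 (Nat.ble 3555 j))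

/-- a part of the choice of the part of the table -/
noncomputable def selTN2147 (j : ℕ) : ℕ := (Bool.rec (motive := fun _ => ℕ) (selTN2145 j) (Bool.rec (motive := fun _ => ℕ) (selTN2146 j) rl3556 (Nat.ble 3556 j)) (Nat.ble 3554 j))

/-- a part of the choice of the part of the table -/
noncomputable def selTN2148 (j : ℕ) : ℕ := (Bool.rec (motive := fun _ => ℕ) (Bool.rec (motive := fun _ => ℕ) rl3557 rl3558 (Nat.ble 3558 j)) (Bool.rec (motive := fun _ => ℕ) rl3559 rl3560 (Nat.ble 3560 j)) (Nat.ble 3559 j))

/-- a part of the choice of the part of the table -/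
noncomputable def selTN2149 (j : ℕ) : ℕ := (Bool.rec (motive := fun _ => ℕ) (Bool.rec (motive := fun _ => ℕ) (selTN2141 j) (selTN2144 j) (Nat.ble 3547 j)) (Bool.rec (motive := fun _ => ℕ) (selTN2147 j) (selTN2148 j) (Nat.ble 3557 j)) (Nat.ble 3552 j))

/-- a part of the choice of the part of the table -/
noncomputable def selTN2150 (j : ℕ) : ℕ := (Bool.rec (motive := fun _ => ℕ) rl3561 rl3562 (Nat.ble 3562 j))

/-- a part of the choice of the part of the table -/
noncomputable def selTN2151 (j : ℕ) : ℕ := (Bool.rec (motive := fun _ => ℕ) rl3563 rl3564 (Nat.ble 3564 j))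

/-- a part of the choice of the part of the table -/
noncomputable def selTN2152 (j : ℕ) : ℕ := (Bool.rec (motive := fun _ => ℕ) (selTN2150 j) (Bool.rec (motive := fun _ => ℕ) (selTN2151 j) rl3565 (Nat.ble 3565 j)) (Nat.ble 3563 j))

/-- a part of the choice of the part of the table -/
noncomputable def selTN2153 (j : ℕ) : ℕ := (Bool.rec (motive := fun _ => ℕ) rl3566 rl3567 (Nat.ble 3567 j))

/-- a part of the choice of the part of the table -/
noncomputable def selTN2154 (j : ℕ) : ℕ := (Bool.rec (motive := fun _ => ℕ) rl3568 rl3569 (Nat.ble 3569 j))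

/-- a part of the choice of the part of the table -/
noncomputable def selTN2155 (j : ℕ) : ℕ := (Bool.rec (motive := fun _ => ℕ) (selTN2153 j) (Bool.rec (motive := fun _ => ℕ) (selTN2154 j) rl3570 (Nat.ble 3570 j)) (Nat.ble 3568 j))

/-- a part of the choice of the part of the table -/
noncomputable def selTN2156 (j : ℕ) : ℕ := (Bool.rec (motive := fun _ => ℕ) rl3571 rl3572 (Nat.ble 3572 j))

/-- a part of the choice of the part of the table -/
noncomputable def selTN2157 (j : ℕ) : ℕ := (Bool.rec (motive := fun _ => ℕ) rl3573 rl3574 (Nat.ble 3574 j))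

/-- a part of the choice of the part of the table -/
noncomputable def selTN2158 (j : ℕ) : ℕ := (Bool.rec (motive := fun _ => ℕ) (selTN2156 j) (Bool.rec (motive := fun _ => ℕ) (selTN2157 j) rl3575 (Nat.ble 3575 j)) (Nat.ble 3573 j))

/-- a part of the choice of the part of the table -/
noncomputable def selTN2159 (j : ℕ) : ℕ := (Bool.rec (motive := fun _ => ℕ) (Bool.rec (motive := fun _ => ℕ) rl3576 rl3577 (Nat.ble 3577 j)) (Bool.rec (motive := fun _ => ℕ) rl3578 rl3579 (Nat.ble 3579 j)) (Nat.ble 3578 j))

/-- a part of the choice of the part of the table -/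
noncomputable def selTN2160 (j : ℕ) : ℕ := (Bool.rec (motive := fun _ => ℕ) (Bool.rec (motive := fun _ => ℕ) (selTN2152 j) (selTN2155 j) (Nat.ble 3566 j)) (Bool.rec (motive := fun _ => ℕ) (selTN2158 j) (selTN2159 j) (Nat.ble 3576 j)) (Nat.ble 3571 j))

/-- a part of the choice of the part of the table -/
noncomputable def selTN2161 (j : ℕ) : ℕ := (Bool.rec (motive := fun _ => ℕ) rl3580 rl3581 (Nat.ble 3581 j))

/-- a part of the choice of the part of the table -/
noncomputable def selTN2162 (j : ℕ) : ℕ := (Bool.rec (motive := fun _ => ℕ) rl3582 rl3583 (Nat.ble 3583 j))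

/-- a part of the choice of the part of the table -/
noncomputable def selTN2163 (j : ℕ) : ℕ := (Bool.rec (motive := fun _ => ℕ) (selTN2161 j) (Bool.rec (motive := fun _ => ℕ) (selTN2162 j) rl3584 (Nat.ble 3584 j)) (Nat.ble 3582 j))

/-- a part of the choice of the part of the table -/
noncomputable def selTN2164 (j : ℕ) : ℕ := (Bool.rec (motive := fun _ => ℕ) rl3585 rl3586 (Nat.ble 3586 j))

/-- a part of the choice of the part of the table -/
noncomputable def selTN2165 (j : ℕ) : ℕ := (Bool.rec (motive := fun _ => ℕ) rl3587 rl3588 (Nat.ble 3588 j))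

/-- a part of the choice of the part of the table -/
noncomputable def selTN2166 (j : ℕ) : ℕ := (Bool.rec (motive := fun _ => ℕ) (selTN2164 j) (Bool.rec (motive := fun _ => ℕ) (selTN2165 j) rl3589 (Nat.ble 3589 j)) (Nat.ble 3587 j))

/-- a part of the choice of the part of the table -/
noncomputable def selTN2167 (j : ℕ) : ℕ := (Bool.rec (motive := fun _ => ℕ) rl3590 rl3591 (Nat.ble 3591 j))

/-- a part of the choice of the part of the table -/
noncomputable def selTN2168 (j : ℕ) : ℕ := (Bool.rec (motive := fun _ => ℕ) rl3592 rl3593 (Nat.ble 3593 j))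

/-- a part of the choice of the part of the table -/
noncomputable def selTN2169 (j : ℕ) : ℕ := (Bool.rec (motive := fun _ => ℕ) (selTN2167 j) (Bool.rec (motive := fun _ => ℕ) (selTN2168 j) rl3594 (Nat.ble 3594 j)) (Nat.ble 3592 j))

/-- a part of the choice of the part of the table -/
noncomputable def selTN2170 (j : ℕ) : ℕ := (Bool.rec (motive := fun _ => ℕ) rl3595 rl3596 (Nat.ble 3596 j))

/-- a part of the choice of the part of the table -/
noncomputable def selTN2171 (j : ℕ) : ℕ := (Bool.rec (motive := fun _ => ℕ) (Bool.rec (motive := fun _ => ℕ) (selTN2163 j) (selTN2166 j) (Nat.ble 3585 j)) (Bool.rec (motive := fun _ => ℕ) (selTN2169 j) (selTN2170 j) (Nat.ble 3595 j)) (Nat.ble 3590 j))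

/-- a part of the choice of the part of the table -/
noncomputable def selTN2172 (j : ℕ) : ℕ := (Bool.rec (motive := fun _ => ℕ) (Bool.rec (motive := fun _ => ℕ) (selTN2138 j) (selTN2149 j) (Nat.ble 3542 j)) (Bool.rec (motive := fun _ => ℕ) (selTN2160 j) (selTN2171 j) (Nat.ble 3580 j)) (Nat.ble 3561 j))

/-- a part of the choice of the part of the table -/
noncomputable def selTN2173 (j : ℕ) : ℕ := (Bool.rec (motive := fun _ => ℕ) (Bool.rec (motive := fun _ => ℕ) (selTN2037 j) (selTN2082 j) (Nat.ble 3373 j)) (Bool.rec (motive := fun _ => ℕ) (selTN2127 j) (selTN2172 j) (Nat.ble 3523 j)) (Nat.ble 3448 j))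

/-- a part of the choice of the part of the table -/
noncomputable def selTN2174 (j : ℕ) : ℕ := (Bool.rec (motive := fun _ => ℕ) (Bool.rec (motive := fun _ => ℕ) (selTN1630 j) (selTN1811 j) (Nat.ble 2698 j)) (Bool.rec (motive := fun _ => ℕ) (selTN1992 j) (selTN2173 j) (Nat.ble 3298 j)) (Nat.ble 2998 j))

/-- a part of the choice of the part of the table -/
noncomputable def selTN2175 (j : ℕ) : ℕ := (Bool.rec (motive := fun _ => ℕ) rl3597 rl3598 (Nat.ble 3598 j))

/-- a part of the choice of the part of the table -/
noncomputable def selTN2176 (j : ℕ) : ℕ := (Bool.rec (motive := fun _ => ℕ) rl3599 rl3600 (Nat.ble 3600 j))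

/-- a part of the choice of the part of the table -/
noncomputable def selTN2177 (j : ℕ) : ℕ := (Bool.rec (motive := fun _ => ℕ) (selTN2175 j) (Bool.rec (motive := fun _ => ℕ) (selTN2176 j) rl3601 (Nat.ble 3601 j)) (Nat.ble 3599 j))

/-- a part of the choice of the part of the table -/
noncomputable def selTN2178 (j : ℕ) : ℕ := (Bool.rec (motive := fun _ => ℕ) rl3602 rl3603 (Nat.ble 3603 j))

/-- a part of the choice of the part of the table -/
noncomputable def selTN2179 (j : ℕ) : ℕ := (Bool.rec (motive := fun _ => ℕ) rl3604 rl3605 (Nat.ble 3605 j))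

/-- a part of the choice of the part of the table -/
noncomputable def selTN2180 (j : ℕ) : ℕ := (Bool.rec (motive := fun _ => ℕ) (selTN2178 j) (Bool.rec (motive := fun _ => ℕ) (selTN2179 j) rl3606 (Nat.ble 3606 j)) (Nat.ble 3604 j))

/-- a part of the choice of the part of the table -/
noncomputable def selTN2181 (j : ℕ) : ℕ := (Bool.rec (motive := fun _ => ℕ) rl3607 rl3608 (Nat.ble 3608 j))

/-- a part of the choice of the part of the table -/
noncomputable def selTN2182 (j : ℕ) : ℕ := (Bool.rec (motive := fun _ => ℕ) rl3609 rl3610 (Nat.ble 3610 j))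

/-- a part of the choice of the part of the table -/
noncomputable def selTN2183 (j : ℕ) : ℕ := (Bool.rec (motive := fun _ => ℕ) (selTN2181 j) (Bool.rec (motive := fun _ => ℕ) (selTN2182 j) rl3611 (Nat.ble 3611 j)) (Nat.ble 3609 j))

/-- a part of the choice of the part of the table -/
noncomputable def selTN2184 (j : ℕ) : ℕ := (Bool.rec (motive := fun _ => ℕ) (Bool.rec (motive := fun _ => ℕ) rl3612 rl3613 (Nat.ble 3613 j)) (Bool.rec (motive := fun _ => ℕ) rl3614 rl3615 (Nat.ble 3615 j)) (Nat.ble 3614 j))

/-- a part of the choice of the part of the table -/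
noncomputable def selTN2185 (j : ℕ) : ℕ := (Bool.rec (motive := fun _ => ℕ) (Bool.rec (motive := fun _ => ℕ) (selTN2177 j) (selTN2180 j) (Nat.ble 3602 j)) (Bool.rec (motive := fun _ => ℕ) (selTN2183 j) (selTN2184 j) (Nat.ble 3612 j)) (Nat.ble 3607 j))

/-- a part of the choice of the part of the table -/
noncomputable def selTN2186 (j : ℕ) : ℕ := (Bool.rec (motive := fun _ => ℕ) rl3616 rl3617 (Nat.ble 3617 j))

/-- a part of the choice of the part of the table -/
noncomputable def selTN2187 (j : ℕ) : ℕ := (Bool.rec (motive := fun _ => ℕ) rl3618 rl3619 (Nat.ble 3619 j))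

/-- a part of the choice of the part of the table -/
noncomputable def selTN2188 (j : ℕ) : ℕ := (Bool.rec (motive := fun _ => ℕ) (selTN2186 j) (Bool.rec (motive := fun _ => ℕ) (selTN2187 j) rl3620 (Nat.ble 3620 j)) (Nat.ble 3618 j))

/-- a part of the choice of the part of the table -/
noncomputable def selTN2189 (j : ℕ) : ℕ := (Bool.rec (motive := fun _ => ℕ) rl3621 rl3622 (Nat.ble 3622 j))

/-- a part of the choice of the part of the table -/
noncomputable def selTN2190 (j : ℕ) : ℕ := (Bool.rec (motive := fun _ => ℕ) rl3623 rl3624 (Nat.ble 3624 j))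

/-- a part of the choice of the part of the table -/
noncomputable def selTN2191 (j : ℕ) : ℕ := (Bool.rec (motive := fun _ => ℕ) (selTN2189 j) (Bool.rec (motive := fun _ => ℕ) (selTN2190 j) rl3625 (Nat.ble 3625 j)) (Nat.ble 3623 j))

/-- a part of the choice of the part of the table -/
noncomputable def selTN2192 (j : ℕ) : ℕ := (Bool.rec (motive := fun _ => ℕ) rl3626 rl3627 (Nat.ble 3627 j))

/-- a part of the choice of the part of the table -/
noncomputable def selTN2193 (j : ℕ) : ℕ := (Bool.rec (motive := fun _ => ℕ) rl3628 rl3629 (Nat.ble 3629 j))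

/-- a part of the choice of the part of the table -/
noncomputable def selTN2194 (j : ℕ) : ℕ := (Bool.rec (motive := fun _ => ℕ) (selTN2192 j) (Bool.rec (motive := fun _ => ℕ) (selTN2193 j) rl3630 (Nat.ble 3630 j)) (Nat.ble 3628 j))

/-- a part of the choice of the part of the table -/
noncomputable def selTN2195 (j : ℕ) : ℕ := (Bool.rec (motive := fun _ => ℕ) (Bool.rec (motive := fun _ => ℕ) rl3631 rl3632 (Nat.ble 3632 j)) (Bool.rec (motive := fun _ => ℕ) rl3633 rl3634 (Nat.ble 3634 j)) (Nat.ble 3633 j))

/-- a part of the choice of the part of the table -/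
noncomputable def selTN2196 (j : ℕ) : ℕ := (Bool.rec (motive := fun _ => ℕ) (Bool.rec (motive := fun _ => ℕ) (selTN2188 j) (selTN2191 j) (Nat.ble 3621 j)) (Bool.rec (motive := fun _ => ℕ) (selTN2194 j) (selTN2195 j) (Nat.ble 3631 j)) (Nat.ble 3626 j))

/-- a part of the choice of the part of the table -/
noncomputable def selTN2197 (j : ℕ) : ℕ := (Bool.rec (motive := fun _ => ℕ) rl3635 rl3636 (Nat.ble 3636 j))

/-- a part of the choice of the part of the table -/
noncomputable def selTN2198 (j : ℕ) : ℕ := (Bool.rec (motive := fun _ => ℕ) rl3637 rl3638 (Nat.ble 3638 j))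

/-- a part of the choice of the part of the table -/
noncomputable def selTN2199 (j : ℕ) : ℕ := (Bool.rec (motive := fun _ => ℕ) (selTN2197 j) (Bool.rec (motive := fun _ => ℕ) (selTN2198 j) rl3639 (Nat.ble 3639 j)) (Nat.ble 3637 j))

/-- a part of the choice of the part of the table -/
noncomputable def selTN2200 (j : ℕ) : ℕ := (Bool.rec (motive := fun _ => ℕ) rl3640 rl3641 (Nat.ble 3641 j))

/-- a part of the choice of the part of the table -/
noncomputable def selTN2201 (j : ℕ) : ℕ := (Bool.rec (motive := fun _ => ℕ) rl3642 rl3643 (Nat.ble 3643 j))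

/-- a part of the choice of the part of the table -/
noncomputable def selTN2202 (j : ℕ) : ℕ := (Bool.rec (motive := fun _ => ℕ) (selTN2200 j) (Bool.rec (motive := fun _ => ℕ) (selTN2201 j) rl3644 (Nat.ble 3644 j)) (Nat.ble 3642 j))

/-- a part of the choice of the part of the table -/
noncomputable def selTN2203 (j : ℕ) : ℕ := (Bool.rec (motive := fun _ => ℕ) rl3645 rl3646 (Nat.ble 3646 j))

/-- a part of the choice of the part of the table -/
noncomputable def selTN2204 (j : ℕ) : ℕ := (Bool.rec (motive := fun _ => ℕ) rl3647 rl3648 (Nat.ble 3648 j))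

/-- a part of the choice of the part of the table -/
noncomputable def selTN2205 (j : ℕ) : ℕ := (Bool.rec (motive := fun _ => ℕ) (selTN2203 j) (Bool.rec (motive := fun _ => ℕ) (selTN2204 j) rl3649 (Nat.ble 3649 j)) (Nat.ble 3647 j))

/-- a part of the choice of the part of the table -/
noncomputable def selTN2206 (j : ℕ) : ℕ := (Bool.rec (motive := fun _ => ℕ) (Bool.rec (motive := fun _ => ℕ) rl3650 rl3651 (Nat.ble 3651 j)) (Bool.rec (motive := fun _ => ℕ) rl3652 rl3653 (Nat.ble 3653 j)) (Nat.ble 3652 j))

/-- a part of the choice of the part of the table -/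
noncomputable def selTN2207 (j : ℕ) : ℕ := (Bool.rec (motive := fun _ => ℕ) (Bool.rec (motive := fun _ => ℕ) (selTN2199 j) (selTN2202 j) (Nat.ble 3640 j)) (Bool.rec (motive := fun _ => ℕ) (selTN2205 j) (selTN2206 j) (Nat.ble 3650 j)) (Nat.ble 3645 j))

/-- a part of the choice of the part of the table -/
noncomputable def selTN2208 (j : ℕ) : ℕ := (Bool.rec (motive := fun _ => ℕ) rl3654 rl3655 (Nat.ble 3655 j))

/-- a part of the choice of the part of the table -/
noncomputable def selTN2209 (j : ℕ) : ℕ := (Bool.rec (motive := fun _ => ℕ) rl3656 rl3657 (Nat.ble 3657 j))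

/-- a part of the choice of the part of the table -/
noncomputable def selTN2210 (j : ℕ) : ℕ := (Bool.rec (motive := fun _ => ℕ) (selTN2208 j) (Bool.rec (motive := fun _ => ℕ) (selTN2209 j) rl3658 (Nat.ble 3658 j)) (Nat.ble 3656 j))

/-- a part of the choice of the part of the table -/
noncomputable def selTN2211 (j : ℕ) : ℕ := (Bool.rec (motive := fun _ => ℕ) rl3659 rl3660 (Nat.ble 3660 j))

/-- a part of the choice of the part of the table -/
noncomputable def selTN2212 (j : ℕ) : ℕ := (Bool.rec (motive := fun _ => ℕ) rl3661 rl3662 (Nat.ble 3662 j))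

/-- a part of the choice of the part of the table -/
noncomputable def selTN2213 (j : ℕ) : ℕ := (Bool.rec (motive := fun _ => ℕ) (selTN2211 j) (Bool.rec (motive := fun _ => ℕ) (selTN2212 j) rl3663 (Nat.ble 3663 j)) (Nat.ble 3661 j))

/-- a part of the choice of the part of the table -/
noncomputable def selTN2214 (j : ℕ) : ℕ := (Bool.rec (motive := fun _ => ℕ) rl3664 rl3665 (Nat.ble 3665 j))

/-- a part of the choice of the part of the table -/
noncomputable def selTN2215 (j : ℕ) : ℕ := (Bool.rec (motive := fun _ => ℕ) rl3666 rl3667 (Nat.ble 3667 j))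

/-- a part of the choice of the part of the table -/
noncomputable def selTN2216 (j : ℕ) : ℕ := (Bool.rec (motive := fun _ => ℕ) (selTN2214 j) (Bool.rec (motive := fun _ => ℕ) (selTN2215 j) rl3668 (Nat.ble 3668 j)) (Nat.ble 3666 j))

/-- a part of the choice of the part of the table -/
noncomputable def selTN2217 (j : ℕ) : ℕ := (Bool.rec (motive := fun _ => ℕ) rl3669 (Bool.rec (motive := fun _ => ℕ) rl3670 rl3671 (Nat.ble 3671 j)) (Nat.ble 3670 j))

/-- a part of the choice of the part of the table -/
noncomputable def selTN2218 (j : ℕ) : ℕ := (Bool.rec (motive := fun _ => ℕ) (Bool.rec (motive := fun _ => ℕ) (selTN2210 j) (selTN2213 j) (Nat.ble 3659 j)) (Bool.rec (motive := fun _ => ℕ) (selTN2216 j) (selTN2217 j) (Nat.ble 3669 j)) (Nat.ble 3664 j))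

/-- a part of the choice of the part of the table -/
noncomputable def selTN2219 (j : ℕ) : ℕ := (Bool.rec (motive := fun _ => ℕ) (Bool.rec (motive := fun _ => ℕ) (selTN2185 j) (selTN2196 j) (Nat.ble 3616 j)) (Bool.rec (motive := fun _ => ℕ) (selTN2207 j) (selTN2218 j) (Nat.ble 3654 j)) (Nat.ble 3635 j))

/-- a part of the choice of the part of the table -/
noncomputable def selTN2220 (j : ℕ) : ℕ := (Bool.rec (motive := fun _ => ℕ) rl3672 rl3673 (Nat.ble 3673 j))

/-- a part of the choice of the part of the table -/
noncomputable def selTN2221 (j : ℕ) : ℕ := (Bool.rec (motive := fun _ => ℕ) rl3674 rl3675 (Nat.ble 3675 j))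

/-- a part of the choice of the part of the table -/
noncomputable def selTN2222 (j : ℕ) : ℕ := (Bool.rec (motive := fun _ => ℕ) (selTN2220 j) (Bool.rec (motive := fun _ => ℕ) (selTN2221 j) rl3676 (Nat.ble 3676 j)) (Nat.ble 3674 j))

/-- a part of the choice of the part of the table -/
noncomputable def selTN2223 (j : ℕ) : ℕ := (Bool.rec (motive := fun _ => ℕ) rl3677 rl3678 (Nat.ble 3678 j))

/-- a part of the choice of the part of the table -/
noncomputable def selTN2224 (j : ℕ) : ℕ := (Bool.rec (motive := fun _ => ℕ) rl3679 rl3680 (Nat.ble 3680 j))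

/-- a part of the choice of the part of the table -/
noncomputable def selTN2225 (j : ℕ) : ℕ := (Bool.rec (motive := fun _ => ℕ) (selTN2223 j) (Bool.rec (motive := fun _ => ℕ) (selTN2224 j) rl3681 (Nat.ble 3681 j)) (Nat.ble 3679 j))

/-- a part of the choice of the part of the table -/
noncomputable def selTN2226 (j : ℕ) : ℕ := (Bool.rec (motive := fun _ => ℕ) rl3682 rl3683 (Nat.ble 3683 j))

/-- a part of the choice of the part of the table -/
noncomputable def selTN2227 (j : ℕ) : ℕ := (Bool.rec (motive := fun _ => ℕ) rl3684 rl3685 (Nat.ble 3685 j))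

/-- a part of the choice of the part of the table -/
noncomputable def selTN2228 (j : ℕ) : ℕ := (Bool.rec (motive := fun _ => ℕ) (selTN2226 j) (Bool.rec (motive := fun _ => ℕ) (selTN2227 j) rl3686 (Nat.ble 3686 j)) (Nat.ble 3684 j))

/-- a part of the choice of the part of the table -/
noncomputable def selTN2229 (j : ℕ) : ℕ := (Bool.rec (motive := fun _ => ℕ) (Bool.rec (motive := fun _ => ℕ) rl3687 rl3688 (Nat.ble 3688 j)) (Bool.rec (motive := fun _ => ℕ) rl3689 rl3690 (Nat.ble 3690 j)) (Nat.ble 3689 j))

/-- a part of the choice of the part of the table -/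
noncomputable def selTN2230 (j : ℕ) : ℕ := (Bool.rec (motive := fun _ => ℕ) (Bool.rec (motive := fun _ => ℕ) (selTN2222 j) (selTN2225 j) (Nat.ble 3677 j)) (Bool.rec (motive := fun _ => ℕ) (selTN2228 j) (selTN2229 j) (Nat.ble 3687 j)) (Nat.ble 3682 j))

/-- a part of the choice of the part of the table -/
noncomputable def selTN2231 (j : ℕ) : ℕ := (Bool.rec (motive := fun _ => ℕ) rl3691 rl3692 (Nat.ble 3692 j))

/-- a part of the choice of the part of the table -/
noncomputable def selTN2232 (j : ℕ) : ℕ := (Bool.rec (motive := fun _ => ℕ) rl3693 rl3694 (Nat.ble 3694 j))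

/-- a part of the choice of the part of the table -/
noncomputable def selTN2233 (j : ℕ) : ℕ := (Bool.rec (motive := fun _ => ℕ) (selTN2231 j) (Bool.rec (motive := fun _ => ℕ) (selTN2232 j) rl3695 (Nat.ble 3695 j)) (Nat.ble 3693 j))

/-- a part of the choice of the part of the table -/
noncomputable def selTN2234 (j : ℕ) : ℕ := (Bool.rec (motive := fun _ => ℕ) rl3696 rl3697 (Nat.ble 3697 j))

/-- a part of the choice of the part of the table -/
noncomputable def selTN2235 (j : ℕ) : ℕ := (Bool.rec (motive := fun _ => ℕ) rl3698 rl3699 (Nat.ble 3699 j))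

/-- a part of the choice of the part of the table -/
noncomputable def selTN2236 (j : ℕ) : ℕ := (Bool.rec (motive := fun _ => ℕ) (selTN2234 j) (Bool.rec (motive := fun _ => ℕ) (selTN2235 j) rl3700 (Nat.ble 3700 j)) (Nat.ble 3698 j))

/-- a part of the choice of the part of the table -/
noncomputable def selTN2237 (j : ℕ) : ℕ := (Bool.rec (motive := fun _ => ℕ) rl3701 rl3702 (Nat.ble 3702 j))

/-- a part of the choice of the part of the table -/
noncomputable def selTN2238 (j : ℕ) : ℕ := (Bool.rec (motive := fun _ => ℕ) rl3703 rl3704 (Nat.ble 3704 j))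

/-- a part of the choice of the part of the table -/
noncomputable def selTN2239 (j : ℕ) : ℕ := (Bool.rec (motive := fun _ => ℕ) (selTN2237 j) (Bool.rec (motive := fun _ => ℕ) (selTN2238 j) rl3705 (Nat.ble 3705 j)) (Nat.ble 3703 j))

/-- a part of the choice of the part of the table -/
noncomputable def selTN2240 (j : ℕ) : ℕ := (Bool.rec (motive := fun _ => ℕ) (Bool.rec (motive := fun _ => ℕ) rl3706 rl3707 (Nat.ble 3707 j)) (Bool.rec (motive := fun _ => ℕ) rl3708 rl3709 (Nat.ble 3709 j)) (Nat.ble 3708 j))

/-- a part of the choice of the part of the table -/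
noncomputable def selTN2241 (j : ℕ) : ℕ := (Bool.rec (motive := fun _ => ℕ) (Bool.rec (motive := fun _ => ℕ) (selTN2233 j) (selTN2236 j) (Nat.ble 3696 j)) (Bool.rec (motive := fun _ => ℕ) (selTN2239 j) (selTN2240 j) (Nat.ble 3706 j)) (Nat.ble 3701 j))

/-- a part of the choice of the part of the table -/
noncomputable def selTN2242 (j : ℕ) : ℕ := (Bool.rec (motive := fun _ => ℕ) rl3710 rl3711 (Nat.ble 3711 j))

/-- a part of the choice of the part of the table -/
noncomputable def selTN2243 (j : ℕ) : ℕ := (Bool.rec (motive := fun _ => ℕ) rl3712 rl3713 (Nat.ble 3713 j))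

/-- a part of the choice of the part of the table -/
noncomputable def selTN2244 (j : ℕ) : ℕ := (Bool.rec (motive := fun _ => ℕ) (selTN2242 j) (Bool.rec (motive := fun _ => ℕ) (selTN2243 j) rl3714 (Nat.ble 3714 j)) (Nat.ble 3712 j))

/-- a part of the choice of the part of the table -/
noncomputable def selTN2245 (j : ℕ) : ℕ := (Bool.rec (motive := fun _ => ℕ) rl3715 rl3716 (Nat.ble 3716 j))

/-- a part of the choice of the part of the table -/
noncomputable def selTN2246 (j : ℕ) : ℕ := (Bool.rec (motive := fun _ => ℕ) rl3717 rl3718 (Nat.ble 3718 j))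

/-- a part of the choice of the part of the table -/
noncomputable def selTN2247 (j : ℕ) : ℕ := (Bool.rec (motive := fun _ => ℕ) (selTN2245 j) (Bool.rec (motive := fun _ => ℕ) (selTN2246 j) rl3719 (Nat.ble 3719 j)) (Nat.ble 3717 j))

/-- a part of the choice of the part of the table -/
noncomputable def selTN2248 (j : ℕ) : ℕ := (Bool.rec (motive := fun _ => ℕ) rl3720 rl3721 (Nat.ble 3721 j))

/-- a part of the choice of the part of the table -/
noncomputable def selTN2249 (j : ℕ) : ℕ := (Bool.rec (motive := fun _ => ℕ) rl3722 rl3723 (Nat.ble 3723 j))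

/-- a part of the choice of the part of the table -/
noncomputable def selTN2250 (j : ℕ) : ℕ := (Bool.rec (motive := fun _ => ℕ) (selTN2248 j) (Bool.rec (motive := fun _ => ℕ) (selTN2249 j) rl3724 (Nat.ble 3724 j)) (Nat.ble 3722 j))

/-- a part of the choice of the part of the table -/
noncomputable def selTN2251 (j : ℕ) : ℕ := (Bool.rec (motive := fun _ => ℕ) (Bool.rec (motive := fun _ => ℕ) rl3725 rl3726 (Nat.ble 3726 j)) (Bool.rec (motive := fun _ => ℕ) rl3727 rl3728 (Nat.ble 3728 j)) (Nat.ble 3727 j))

/-- a part of the choice of the part of the table -/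
noncomputable def selTN2252 (j : ℕ) : ℕ := (Bool.rec (motive := fun _ => ℕ) (Bool.rec (motive := fun _ => ℕ) (selTN2244 j) (selTN2247 j) (Nat.ble 3715 j)) (Bool.rec (motive := fun _ => ℕ) (selTN2250 j) (selTN2251 j) (Nat.ble 3725 j)) (Nat.ble 3720 j))

/-- a part of the choice of the part of the table -/
noncomputable def selTN2253 (j : ℕ) : ℕ := (Bool.rec (motive := fun _ => ℕ) rl3729 rl3730 (Nat.ble 3730 j))

/-- a part of the choice of the part of the table -/
noncomputable def selTN2254 (j : ℕ) : ℕ := (Bool.rec (motive := fun _ => ℕ) rl3731 rl3732 (Nat.ble 3732 j))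

/-- a part of the choice of the part of the table -/
noncomputable def selTN2255 (j : ℕ) : ℕ := (Bool.rec (motive := fun _ => ℕ) (selTN2253 j) (Bool.rec (motive := fun _ => ℕ) (selTN2254 j) rl3733 (Nat.ble 3733 j)) (Nat.ble 3731 j))

/-- a part of the choice of the part of the table -/
noncomputable def selTN2256 (j : ℕ) : ℕ := (Bool.rec (motive := fun _ => ℕ) rl3734 rl3735 (Nat.ble 3735 j))

/-- a part of the choice of the part of the table -/
noncomputable def selTN2257 (j : ℕ) : ℕ := (Bool.rec (motive := fun _ => ℕ) rl3736 rl3737 (Nat.ble 3737 j))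

/-- a part of the choice of the part of the table -/
noncomputable def selTN2258 (j : ℕ) : ℕ := (Bool.rec (motive := fun _ => ℕ) (selTN2256 j) (Bool.rec (motive := fun _ => ℕ) (selTN2257 j) rl3738 (Nat.ble 3738 j)) (Nat.ble 3736 j))

/-- a part of the choice of the part of the table -/
noncomputable def selTN2259 (j : ℕ) : ℕ := (Bool.rec (motive := fun _ => ℕ) rl3739 rl3740 (Nat.ble 3740 j))

/-- a part of the choice of the part of the table -/
noncomputable def selTN2260 (j : ℕ) : ℕ := (Bool.rec (motive := fun _ => ℕ) rl3741 rl3742 (Nat.ble 3742 j))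

/-- a part of the choice of the part of the table -/
noncomputable def selTN2261 (j : ℕ) : ℕ := (Bool.rec (motive := fun _ => ℕ) (selTN2259 j) (Bool.rec (motive := fun _ => ℕ) (selTN2260 j) rl3743 (Nat.ble 3743 j)) (Nat.ble 3741 j))

/-- a part of the choice of the part of the table -/
noncomputable def selTN2262 (j : ℕ) : ℕ := (Bool.rec (motive := fun _ => ℕ) rl3744 (Bool.rec (motive := fun _ => ℕ) rl3745 rl3746 (Nat.ble 3746 j)) (Nat.ble 3745 j))

/-- a part of the choice of the part of the table -/
noncomputable def selTN2263 (j : ℕ) : ℕ := (Bool.rec (motive := fun _ => ℕ) (Bool.rec (motive := fun _ => ℕ) (selTN2255 j) (selTN2258 j) (Nat.ble 3734 j)) (Bool.rec (motive := fun _ => ℕ) (selTN2261 j) (selTN2262 j) (Nat.ble 3744 j)) (Nat.ble 3739 j))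

/-- a part of the choice of the part of the table -/
noncomputable def selTN2264 (j : ℕ) : ℕ := (Bool.rec (motive := fun _ => ℕ) (Bool.rec (motive := fun _ => ℕ) (selTN2230 j) (selTN2241 j) (Nat.ble 3691 j)) (Bool.rec (motive := fun _ => ℕ) (selTN2252 j) (selTN2263 j) (Nat.ble 3729 j)) (Nat.ble 3710 j))

/-- a part of the choice of the part of the table -/
noncomputable def selTN2265 (j : ℕ) : ℕ := (Bool.rec (motive := fun _ => ℕ) rl3747 rl3748 (Nat.ble 3748 j))

/-- a part of the choice of the part of the table -/
noncomputable def selTN2266 (j : ℕ) : ℕ := (Bool.rec (motive := fun _ => ℕ) rl3749 rl3750 (Nat.ble 3750 j))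

/-- a part of the choice of the part of the table -/
noncomputable def selTN2267 (j : ℕ) : ℕ := (Bool.rec (motive := fun _ => ℕ) (selTN2265 j) (Bool.rec (motive := fun _ => ℕ) (selTN2266 j) rl3751 (Nat.ble 3751 j)) (Nat.ble 3749 j))

/-- a part of the choice of the part of the table -/
noncomputable def selTN2268 (j : ℕ) : ℕ := (Bool.rec (motive := fun _ => ℕ) rl3752 rl3753 (Nat.ble 3753 j))

/-- a part of the choice of the part of the table -/
noncomputable def selTN2269 (j : ℕ) : ℕ := (Bool.rec (motive := fun _ => ℕ) rl3754 rl3755 (Nat.ble 3755 j))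

/-- a part of the choice of the part of the table -/
noncomputable def selTN2270 (j : ℕ) : ℕ := (Bool.rec (motive := fun _ => ℕ) (selTN2268 j) (Bool.rec (motive := fun _ => ℕ) (selTN2269 j) rl3756 (Nat.ble 3756 j)) (Nat.ble 3754 j))

/-- a part of the choice of the part of the table -/
noncomputable def selTN2271 (j : ℕ) : ℕ := (Bool.rec (motive := fun _ => ℕ) rl3757 rl3758 (Nat.ble 3758 j))

/-- a part of the choice of the part of the table -/
noncomputable def selTN2272 (j : ℕ) : ℕ := (Bool.rec (motive := fun _ => ℕ) rl3759 rl3760 (Nat.ble 3760 j))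

/-- a part of the choice of the part of the table -/
noncomputable def selTN2273 (j : ℕ) : ℕ := (Bool.rec (motive := fun _ => ℕ) (selTN2271 j) (Bool.rec (motive := fun _ => ℕ) (selTN2272 j) rl3761 (Nat.ble 3761 j)) (Nat.ble 3759 j))

/-- a part of the choice of the part of the table -/
noncomputable def selTN2274 (j : ℕ) : ℕ := (Bool.rec (motive := fun _ => ℕ) (Bool.rec (motive := fun _ => ℕ) rl3762 rl3763 (Nat.ble 3763 j)) (Bool.rec (motive := fun _ => ℕ) rl3764 rl3765 (Nat.ble 3765 j)) (Nat.ble 3764 j))

/-- a part of the choice of the part of the table -/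
noncomputable def selTN2275 (j : ℕ) : ℕ := (Bool.rec (motive := fun _ => ℕ) (Bool.rec (motive := fun _ => ℕ) (selTN2267 j) (selTN2270 j) (Nat.ble 3752 j)) (Bool.rec (motive := fun _ => ℕ) (selTN2273 j) (selTN2274 j) (Nat.ble 3762 j)) (Nat.ble 3757 j))

/-- a part of the choice of the part of the table -/
noncomputable def selTN2276 (j : ℕ) : ℕ := (Bool.rec (motive := fun _ => ℕ) rl3766 rl3767 (Nat.ble 3767 j))

/-- a part of the choice of the part of the table -/
noncomputable def selTN2277 (j : ℕ) : ℕ := (Bool.rec (motive := fun _ => ℕ) rl3768 rl3769 (Nat.ble 3769 j))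

/-- a part of the choice of the part of the table -/
noncomputable def selTN2278 (j : ℕ) : ℕ := (Bool.rec (motive := fun _ => ℕ) (selTN2276 j) (Bool.rec (motive := fun _ => ℕ) (selTN2277 j) rl3770 (Nat.ble 3770 j)) (Nat.ble 3768 j))

/-- a part of the choice of the part of the table -/
noncomputable def selTN2279 (j : ℕ) : ℕ := (Bool.rec (motive := fun _ => ℕ) rl3771 rl3772 (Nat.ble 3772 j))

/-- a part of the choice of the part of the table -/
noncomputable def selTN2280 (j : ℕ) : ℕ := (Bool.rec (motive := fun _ => ℕ) rl3773 rl3774 (Nat.ble 3774 j))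

/-- a part of the choice of the part of the table -/
noncomputable def selTN2281 (j : ℕ) : ℕ := (Bool.rec (motive := fun _ => ℕ) (selTN2279 j) (Bool.rec (motive := fun _ => ℕ) (selTN2280 j) rl3775 (Nat.ble 3775 j)) (Nat.ble 3773 j))

/-- a part of the choice of the part of the table -/
noncomputable def selTN2282 (j : ℕ) : ℕ := (Bool.rec (motive := fun _ => ℕ) rl3776 rl3777 (Nat.ble 3777 j))

/-- a part of the choice of the part of the table -/
noncomputable def selTN2283 (j : ℕ) : ℕ := (Bool.rec (motive := fun _ => ℕ) rl3778 rl3779 (Nat.ble 3779 j))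

/-- a part of the choice of the part of the table -/
noncomputable def selTN2284 (j : ℕ) : ℕ := (Bool.rec (motive := fun _ => ℕ) (selTN2282 j) (Bool.rec (motive := fun _ => ℕ) (selTN2283 j) rl3780 (Nat.ble 3780 j)) (Nat.ble 3778 j))

/-- a part of the choice of the part of the table -/
noncomputable def selTN2285 (j : ℕ) : ℕ := (Bool.rec (motive := fun _ => ℕ) (Bool.rec (motive := fun _ => ℕ) rl3781 rl3782 (Nat.ble 3782 j)) (Bool.rec (motive := fun _ => ℕ) rl3783 rl3784 (Nat.ble 3784 j)) (Nat.ble 3783 j))

/-- a part of the choice of the part of the table -/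
noncomputable def selTN2286 (j : ℕ) : ℕ := (Bool.rec (motive := fun _ => ℕ) (Bool.rec (motive := fun _ => ℕ) (selTN2278 j) (selTN2281 j) (Nat.ble 3771 j)) (Bool.rec (motive := fun _ => ℕ) (selTN2284 j) (selTN2285 j) (Nat.ble 3781 j)) (Nat.ble 3776 j))

/-- a part of the choice of the part of the table -/
noncomputable def selTN2287 (j : ℕ) : ℕ := (Bool.rec (motive := fun _ => ℕ) rl3785 rl3786 (Nat.ble 3786 j))

/-- a part of the choice of the part of the table -/
noncomputable def selTN2288 (j : ℕ) : ℕ := (Bool.rec (motive := fun _ => ℕ) rl3787 rl3788 (Nat.ble 3788 j))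

/-- a part of the choice of the part of the table -/
noncomputable def selTN2289 (j : ℕ) : ℕ := (Bool.rec (motive := fun _ => ℕ) (selTN2287 j) (Bool.rec (motive := fun _ => ℕ) (selTN2288 j) rl3789 (Nat.ble 3789 j)) (Nat.ble 3787 j))

/-- a part of the choice of the part of the table -/
noncomputable def selTN2290 (j : ℕ) : ℕ := (Bool.rec (motive := fun _ => ℕ) rl3790 rl3791 (Nat.ble 3791 j))

/-- a part of the choice of the part of the table -/
noncomputable def selTN2291 (j : ℕ) : ℕ := (Bool.rec (motive := fun _ => ℕ) rl3792 rl3793 (Nat.ble 3793 j))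

/-- a part of the choice of the part of the table -/
noncomputable def selTN2292 (j : ℕ) : ℕ := (Bool.rec (motive := fun _ => ℕ) (selTN2290 j) (Bool.rec (motive := fun _ => ℕ) (selTN2291 j) rl3794 (Nat.ble 3794 j)) (Nat.ble 3792 j))

/-- a part of the choice of the part of the table -/
noncomputable def selTN2293 (j : ℕ) : ℕ := (Bool.rec (motive := fun _ => ℕ) rl3795 rl3796 (Nat.ble 3796 j))

/-- a part of the choice of the part of the table -/
noncomputable def selTN2294 (j : ℕ) : ℕ := (Bool.rec (motive := fun _ => ℕ) rl3797 rl3798 (Nat.ble 3798 j))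

/-- a part of the choice of the part of the table -/
noncomputable def selTN2295 (j : ℕ) : ℕ := (Bool.rec (motive := fun _ => ℕ) (selTN2293 j) (Bool.rec (motive := fun _ => ℕ) (selTN2294 j) rl3799 (Nat.ble 3799 j)) (Nat.ble 3797 j))

/-- a part of the choice of the part of the table -/
noncomputable def selTN2296 (j : ℕ) : ℕ := (Bool.rec (motive := fun _ => ℕ) (Bool.rec (motive := fun _ => ℕ) rl3800 rl3801 (Nat.ble 3801 j)) (Bool.rec (motive := fun _ => ℕ) rl3802 rl3803 (Nat.ble 3803 j)) (Nat.ble 3802 j))

/-- a part of the choice of the part of the table -/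
noncomputable def selTN2297 (j : ℕ) : ℕ := (Bool.rec (motive := fun _ => ℕ) (Bool.rec (motive := fun _ => ℕ) (selTN2289 j) (selTN2292 j) (Nat.ble 3790 j)) (Bool.rec (motive := fun _ => ℕ) (selTN2295 j) (selTN2296 j) (Nat.ble 3800 j)) (Nat.ble 3795 j))

/-- a part of the choice of the part of the table -/
noncomputable def selTN2298 (j : ℕ) : ℕ := (Bool.rec (motive := fun _ => ℕ) rl3804 rl3805 (Nat.ble 3805 j))

/-- a part of the choice of the part of the table -/
noncomputable def selTN2299 (j : ℕ) : ℕ := (Bool.rec (motive := fun _ => ℕ) rl3806 rl3807 (Nat.ble 3807 j))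

/-- a part of the choice of the part of the table -/
noncomputable def selTN2300 (j : ℕ) : ℕ := (Bool.rec (motive := fun _ => ℕ) (selTN2298 j) (Bool.rec (motive := fun _ => ℕ) (selTN2299 j) rl3808 (Nat.ble 3808 j)) (Nat.ble 3806 j))

/-- a part of the choice of the part of the table -/
noncomputable def selTN2301 (j : ℕ) : ℕ := (Bool.rec (motive := fun _ => ℕ) rl3809 rl3810 (Nat.ble 3810 j))

/-- a part of the choice of the part of the table -/
noncomputable def selTN2302 (j : ℕ) : ℕ := (Bool.rec (motive := fun _ => ℕ) rl3811 rl3812 (Nat.ble 3812 j))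

/-- a part of the choice of the part of the table -/
noncomputable def selTN2303 (j : ℕ) : ℕ := (Bool.rec (motive := fun _ => ℕ) (selTN2301 j) (Bool.rec (motive := fun _ => ℕ) (selTN2302 j) rl3813 (Nat.ble 3813 j)) (Nat.ble 3811 j))

/-- a part of the choice of the part of the table -/
noncomputable def selTN2304 (j : ℕ) : ℕ := (Bool.rec (motive := fun _ => ℕ) rl3814 rl3815 (Nat.ble 3815 j))

/-- a part of the choice of the part of the table -/
noncomputable def selTN2305 (j : ℕ) : ℕ := (Bool.rec (motive := fun _ => ℕ) rl3816 rl3817 (Nat.ble 3817 j))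

/-- a part of the choice of the part of the table -/
noncomputable def selTN2306 (j : ℕ) : ℕ := (Bool.rec (motive := fun _ => ℕ) (selTN2304 j) (Bool.rec (motive := fun _ => ℕ) (selTN2305 j) rl3818 (Nat.ble 3818 j)) (Nat.ble 3816 j))

/-- a part of the choice of the part of the table -/
noncomputable def selTN2307 (j : ℕ) : ℕ := (Bool.rec (motive := fun _ => ℕ) rl3819 (Bool.rec (motive := fun _ => ℕ) rl3820 rl3821 (Nat.ble 3821 j)) (Nat.ble 3820 j))

/-- a part of the choice of the part of the table -/
noncomputable def selTN2308 (j : ℕ) : ℕ := (Bool.rec (motive := fun _ => ℕ) (Bool.rec (motive := fun _ => ℕ) (selTN2300 j) (selTN2303 j) (Nat.ble 3809 j)) (Bool.rec (motive := fun _ => ℕ) (selTN2306 j) (selTN2307 j) (Nat.ble 3819 j)) (Nat.ble 3814 j))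

/-- a part of the choice of the part of the table -/
noncomputable def selTN2309 (j : ℕ) : ℕ := (Bool.rec (motive := fun _ => ℕ) (Bool.rec (motive := fun _ => ℕ) (selTN2275 j) (selTN2286 j) (Nat.ble 3766 j)) (Bool.rec (motive := fun _ => ℕ) (selTN2297 j) (selTN2308 j) (Nat.ble 3804 j)) (Nat.ble 3785 j))

/-- a part of the choice of the part of the table -/
noncomputable def selTN2310 (j : ℕ) : ℕ := (Bool.rec (motive := fun _ => ℕ) rl3822 rl3823 (Nat.ble 3823 j))

/-- a part of the choice of the part of the table -/
noncomputable def selTN2311 (j : ℕ) : ℕ := (Bool.rec (motive := fun _ => ℕ) rl3824 rl3825 (Nat.ble 3825 j))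

/-- a part of the choice of the part of the table -/
noncomputable def selTN2312 (j : ℕ) : ℕ := (Bool.rec (motive := fun _ => ℕ) (selTN2310 j) (Bool.rec (motive := fun _ => ℕ) (selTN2311 j) rl3826 (Nat.ble 3826 j)) (Nat.ble 3824 j))

/-- a part of the choice of the part of the table -/
noncomputable def selTN2313 (j : ℕ) : ℕ := (Bool.rec (motive := fun _ => ℕ) rl3827 rl3828 (Nat.ble 3828 j))

/-- a part of the choice of the part of the table -/
noncomputable def selTN2314 (j : ℕ) : ℕ := (Bool.rec (motive := fun _ => ℕ) rl3829 rl3830 (Nat.ble 3830 j))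

/-- a part of the choice of the part of the table -/
noncomputable def selTN2315 (j : ℕ) : ℕ := (Bool.rec (motive := fun _ => ℕ) (selTN2313 j) (Bool.rec (motive := fun _ => ℕ) (selTN2314 j) rl3831 (Nat.ble 3831 j)) (Nat.ble 3829 j))

/-- a part of the choice of the part of the table -/
noncomputable def selTN2316 (j : ℕ) : ℕ := (Bool.rec (motive := fun _ => ℕ) rl3832 rl3833 (Nat.ble 3833 j))

/-- a part of the choice of the part of the table -/
noncomputable def selTN2317 (j : ℕ) : ℕ := (Bool.rec (motive := fun _ => ℕ) rl3834 rl3835 (Nat.ble 3835 j))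

/-- a part of the choice of the part of the table -/
noncomputable def selTN2318 (j : ℕ) : ℕ := (Bool.rec (motive := fun _ => ℕ) (selTN2316 j) (Bool.rec (motive := fun _ => ℕ) (selTN2317 j) rl3836 (Nat.ble 3836 j)) (Nat.ble 3834 j))

/-- a part of the choice of the part of the table -/
noncomputable def selTN2319 (j : ℕ) : ℕ := (Bool.rec (motive := fun _ => ℕ) (Bool.rec (motive := fun _ => ℕ) rl3837 rl3838 (Nat.ble 3838 j)) (Bool.rec (motive := fun _ => ℕ) rl3839 rl3840 (Nat.ble 3840 j)) (Nat.ble 3839 j))

/-- a part of the choice of the part of the table -/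
noncomputable def selTN2320 (j : ℕ) : ℕ := (Bool.rec (motive := fun _ => ℕ) (Bool.rec (motive := fun _ => ℕ) (selTN2312 j) (selTN2315 j) (Nat.ble 3827 j)) (Bool.rec (motive := fun _ => ℕ) (selTN2318 j) (selTN2319 j) (Nat.ble 3837 j)) (Nat.ble 3832 j))

/-- a part of the choice of the part of the table -/
noncomputable def selTN2321 (j : ℕ) : ℕ := (Bool.rec (motive := fun _ => ℕ) rl3841 rl3842 (Nat.ble 3842 j))

/-- a part of the choice of the part of the table -/
noncomputable def selTN2322 (j : ℕ) : ℕ := (Bool.rec (motive := fun _ => ℕ) rl3843 rl3844 (Nat.ble 3844 j))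

/-- a part of the choice of the part of the table -/
noncomputable def selTN2323 (j : ℕ) : ℕ := (Bool.rec (motive := fun _ => ℕ) (selTN2321 j) (Bool.rec (motive := fun _ => ℕ) (selTN2322 j) rl3845 (Nat.ble 3845 j)) (Nat.ble 3843 j))

/-- a part of the choice of the part of the table -/
noncomputable def selTN2324 (j : ℕ) : ℕ := (Bool.rec (motive := fun _ => ℕ) rl3846 rl3847 (Nat.ble 3847 j))

/-- a part of the choice of the part of the table -/
noncomputable def selTN2325 (j : ℕ) : ℕ := (Bool.rec (motive := fun _ => ℕ) rl3848 rl3849 (Nat.ble 3849 j))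

/-- a part of the choice of the part of the table -/
noncomputable def selTN2326 (j : ℕ) : ℕ := (Bool.rec (motive := fun _ => ℕ) (selTN2324 j) (Bool.rec (motive := fun _ => ℕ) (selTN2325 j) rl3850 (Nat.ble 3850 j)) (Nat.ble 3848 j))

/-- a part of the choice of the part of the table -/
noncomputable def selTN2327 (j : ℕ) : ℕ := (Bool.rec (motive := fun _ => ℕ) rl3851 rl3852 (Nat.ble 3852 j))

/-- a part of the choice of the part of the table -/
noncomputable def selTN2328 (j : ℕ) : ℕ := (Bool.rec (motive := fun _ => ℕ) rl3853 rl3854 (Nat.ble 3854 j))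

/-- a part of the choice of the part of the table -/
noncomputable def selTN2329 (j : ℕ) : ℕ := (Bool.rec (motive := fun _ => ℕ) (selTN2327 j) (Bool.rec (motive := fun _ => ℕ) (selTN2328 j) rl3855 (Nat.ble 3855 j)) (Nat.ble 3853 j))

/-- a part of the choice of the part of the table -/
noncomputable def selTN2330 (j : ℕ) : ℕ := (Bool.rec (motive := fun _ => ℕ) (Bool.rec (motive := fun _ => ℕ) rl3856 rl3857 (Nat.ble 3857 j)) (Bool.rec (motive := fun _ => ℕ) rl3858 rl3859 (Nat.ble 3859 j)) (Nat.ble 3858 j))

/-- a part of the choice of the part of the table -/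
noncomputable def selTN2331 (j : ℕ) : ℕ := (Bool.rec (motive := fun _ => ℕ) (Bool.rec (motive := fun _ => ℕ) (selTN2323 j) (selTN2326 j) (Nat.ble 3846 j)) (Bool.rec (motive := fun _ => ℕ) (selTN2329 j) (selTN2330 j) (Nat.ble 3856 j)) (Nat.ble 3851 j))

/-- a part of the choice of the part of the table -/
noncomputable def selTN2332 (j : ℕ) : ℕ := (Bool.rec (motive := fun _ => ℕ) rl3860 rl3861 (Nat.ble 3861 j))

/-- a part of the choice of the part of the table -/
noncomputable def selTN2333 (j : ℕ) : ℕ := (Bool.rec (motive := fun _ => ℕ) rl3862 rl3863 (Nat.ble 3863 j))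

/-- a part of the choice of the part of the table -/
noncomputable def selTN2334 (j : ℕ) : ℕ := (Bool.rec (motive := fun _ => ℕ) (selTN2332 j) (Bool.rec (motive := fun _ => ℕ) (selTN2333 j) rl3864 (Nat.ble 3864 j)) (Nat.ble 3862 j))

/-- a part of the choice of the part of the table -/
noncomputable def selTN2335 (j : ℕ) : ℕ := (Bool.rec (motive := fun _ => ℕ) rl3865 rl3866 (Nat.ble 3866 j))

/-- a part of the choice of the part of the table -/
noncomputable def selTN2336 (j : ℕ) : ℕ := (Bool.rec (motive := fun _ => ℕ) rl3867 rl3868 (Nat.ble 3868 j))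

/-- a part of the choice of the part of the table -/
noncomputable def selTN2337 (j : ℕ) : ℕ := (Bool.rec (motive := fun _ => ℕ) (selTN2335 j) (Bool.rec (motive := fun _ => ℕ) (selTN2336 j) rl3869 (Nat.ble 3869 j)) (Nat.ble 3867 j))

/-- a part of the choice of the part of the table -/
noncomputable def selTN2338 (j : ℕ) : ℕ := (Bool.rec (motive := fun _ => ℕ) rl3870 rl3871 (Nat.ble 3871 j))

/-- a part of the choice of the part of the table -/
noncomputable def selTN2339 (j : ℕ) : ℕ := (Bool.rec (motive := fun _ => ℕ) rl3872 rl3873 (Nat.ble 3873 j))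

/-- a part of the choice of the part of the table -/
noncomputable def selTN2340 (j : ℕ) : ℕ := (Bool.rec (motive := fun _ => ℕ) (selTN2338 j) (Bool.rec (motive := fun _ => ℕ) (selTN2339 j) rl3874 (Nat.ble 3874 j)) (Nat.ble 3872 j))

/-- a part of the choice of the part of the table -/
noncomputable def selTN2341 (j : ℕ) : ℕ := (Bool.rec (motive := fun _ => ℕ) (Bool.rec (motive := fun _ => ℕ) rl3875 rl3876 (Nat.ble 3876 j)) (Bool.rec (motive := fun _ => ℕ) rl3877 rl3878 (Nat.ble 3878 j)) (Nat.ble 3877 j))

/-- a part of the choice of the part of the table -/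
noncomputable def selTN2342 (j : ℕ) : ℕ := (Bool.rec (motive := fun _ => ℕ) (Bool.rec (motive := fun _ => ℕ) (selTN2334 j) (selTN2337 j) (Nat.ble 3865 j)) (Bool.rec (motive := fun _ => ℕ) (selTN2340 j) (selTN2341 j) (Nat.ble 3875 j)) (Nat.ble 3870 j))

/-- a part of the choice of the part of the table -/
noncomputable def selTN2343 (j : ℕ) : ℕ := (Bool.rec (motive := fun _ => ℕ) rl3879 rl3880 (Nat.ble 3880 j))

/-- a part of the choice of the part of the table -/
noncomputable def selTN2344 (j : ℕ) : ℕ := (Bool.rec (motive := fun _ => ℕ) rl3881 rl3882 (Nat.ble 3882 j))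

/-- a part of the choice of the part of the table -/
noncomputable def selTN2345 (j : ℕ) : ℕ := (Bool.rec (motive := fun _ => ℕ) (selTN2343 j) (Bool.rec (motive := fun _ => ℕ) (selTN2344 j) rl3883 (Nat.ble 3883 j)) (Nat.ble 3881 j))

/-- a part of the choice of the part of the table -/
noncomputable def selTN2346 (j : ℕ) : ℕ := (Bool.rec (motive := fun _ => ℕ) rl3884 rl3885 (Nat.ble 3885 j))

/-- a part of the choice of the part of the table -/
noncomputable def selTN2347 (j : ℕ) : ℕ := (Bool.rec (motive := fun _ => ℕ) rl3886 rl3887 (Nat.ble 3887 j))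

/-- a part of the choice of the part of the table -/
noncomputable def selTN2348 (j : ℕ) : ℕ := (Bool.rec (motive := fun _ => ℕ) (selTN2346 j) (Bool.rec (motive := fun _ => ℕ) (selTN2347 j) rl3888 (Nat.ble 3888 j)) (Nat.ble 3886 j))

/-- a part of the choice of the part of the table -/
noncomputable def selTN2349 (j : ℕ) : ℕ := (Bool.rec (motive := fun _ => ℕ) rl3889 rl3890 (Nat.ble 3890 j))

/-- a part of the choice of the part of the table -/
noncomputable def selTN2350 (j : ℕ) : ℕ := (Bool.rec (motive := fun _ => ℕ) rl3891 rl3892 (Nat.ble 3892 j))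

/-- a part of the choice of the part of the table -/
noncomputable def selTN2351 (j : ℕ) : ℕ := (Bool.rec (motive := fun _ => ℕ) (selTN2349 j) (Bool.rec (motive := fun _ => ℕ) (selTN2350 j) rl3893 (Nat.ble 3893 j)) (Nat.ble 3891 j))

/-- a part of the choice of the part of the table -/
noncomputable def selTN2352 (j : ℕ) : ℕ := (Bool.rec (motive := fun _ => ℕ) rl3894 (Bool.rec (motive := fun _ => ℕ) rl3895 rl3896 (Nat.ble 3896 j)) (Nat.ble 3895 j))

/-- a part of the choice of the part of the table -/
noncomputable def selTN2353 (j : ℕ) : ℕ := (Bool.rec (motive := fun _ => ℕ) (Bool.rec (motive := fun _ => ℕ) (selTN2345 j) (selTN2348 j) (Nat.ble 3884 j)) (Bool.rec (motive := fun _ => ℕ) (selTN2351 j) (selTN2352 j) (Nat.ble 3894 j)) (Nat.ble 3889 j))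

/-- a part of the choice of the part of the table -/
noncomputable def selTN2354 (j : ℕ) : ℕ := (Bool.rec (motive := fun _ => ℕ) (Bool.rec (motive := fun _ => ℕ) (selTN2320 j) (selTN2331 j) (Nat.ble 3841 j)) (Bool.rec (motive := fun _ => ℕ) (selTN2342 j) (selTN2353 j) (Nat.ble 3879 j)) (Nat.ble 3860 j))

/-- a part of the choice of the part of the table -/
noncomputable def selTN2355 (j : ℕ) : ℕ := (Bool.rec (motive := fun _ => ℕ) (Bool.rec (motive := fun _ => ℕ) (selTN2219 j) (selTN2264 j) (Nat.ble 3672 j)) (Bool.rec (motive := fun _ => ℕ) (selTN2309 j) (selTN2354 j) (Nat.ble 3822 j)) (Nat.ble 3747 j))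

/-- a part of the choice of the part of the table -/
noncomputable def selTN2356 (j : ℕ) : ℕ := (Bool.rec (motive := fun _ => ℕ) rl3897 rl3898 (Nat.ble 3898 j))

/-- a part of the choice of the part of the table -/
noncomputable def selTN2357 (j : ℕ) : ℕ := (Bool.rec (motive := fun _ => ℕ) rl3899 rl3900 (Nat.ble 3900 j))

/-- a part of the choice of the part of the table -/
noncomputable def selTN2358 (j : ℕ) : ℕ := (Bool.rec (motive := fun _ => ℕ) (selTN2356 j) (Bool.rec (motive := fun _ => ℕ) (selTN2357 j) rl3901 (Nat.ble 3901 j)) (Nat.ble 3899 j))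

/-- a part of the choice of the part of the table -/
noncomputable def selTN2359 (j : ℕ) : ℕ := (Bool.rec (motive := fun _ => ℕ) rl3902 rl3903 (Nat.ble 3903 j))

/-- a part of the choice of the part of the table -/
noncomputable def selTN2360 (j : ℕ) : ℕ := (Bool.rec (motive := fun _ => ℕ) rl3904 rl3905 (Nat.ble 3905 j))

/-- a part of the choice of the part of the table -/
noncomputable def selTN2361 (j : ℕ) : ℕ := (Bool.rec (motive := fun _ => ℕ) (selTN2359 j) (Bool.rec (motive := fun _ => ℕ) (selTN2360 j) rl3906 (Nat.ble 3906 j)) (Nat.ble 3904 j))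

/-- a part of the choice of the part of the table -/
noncomputable def selTN2362 (j : ℕ) : ℕ := (Bool.rec (motive := fun _ => ℕ) rl3907 rl3908 (Nat.ble 3908 j))

/-- a part of the choice of the part of the table -/
noncomputable def selTN2363 (j : ℕ) : ℕ := (Bool.rec (motive := fun _ => ℕ) rl3909 rl3910 (Nat.ble 3910 j))

/-- a part of the choice of the part of the table -/
noncomputable def selTN2364 (j : ℕ) : ℕ := (Bool.rec (motive := fun _ => ℕ) (selTN2362 j) (Bool.rec (motive := fun _ => ℕ) (selTN2363 j) rl3911 (Nat.ble 3911 j)) (Nat.ble 3909 j))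

/-- a part of the choice of the part of the table -/
noncomputable def selTN2365 (j : ℕ) : ℕ := (Bool.rec (motive := fun _ => ℕ) (Bool.rec (motive := fun _ => ℕ) rl3912 rl3913 (Nat.ble 3913 j)) (Bool.rec (motive := fun _ => ℕ) rl3914 rl3915 (Nat.ble 3915 j)) (Nat.ble 3914 j))

/-- a part of the choice of the part of the table -/
noncomputable def selTN2366 (j : ℕ) : ℕ := (Bool.rec (motive := fun _ => ℕ) (Bool.rec (motive := fun _ => ℕ) (selTN2358 j) (selTN2361 j) (Nat.ble 3902 j)) (Bool.rec (motive := fun _ => ℕ) (selTN2364 j) (selTN2365 j) (Nat.ble 3912 j)) (Nat.ble 3907 j))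

/-- a part of the choice of the part of the table -/
noncomputable def selTN2367 (j : ℕ) : ℕ := (Bool.rec (motive := fun _ => ℕ) rl3916 rl3917 (Nat.ble 3917 j))

/-- a part of the choice of the part of the table -/
noncomputable def selTN2368 (j : ℕ) : ℕ := (Bool.rec (motive := fun _ => ℕ) rl3918 rl3919 (Nat.ble 3919 j))

/-- a part of the choice of the part of the table -/
noncomputable def selTN2369 (j : ℕ) : ℕ := (Bool.rec (motive := fun _ => ℕ) (selTN2367 j) (Bool.rec (motive := fun _ => ℕ) (selTN2368 j) rl3920 (Nat.ble 3920 j)) (Nat.ble 3918 j))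

/-- a part of the choice of the part of the table -/
noncomputable def selTN2370 (j : ℕ) : ℕ := (Bool.rec (motive := fun _ => ℕ) rl3921 rl3922 (Nat.ble 3922 j))

/-- a part of the choice of the part of the table -/
noncomputable def selTN2371 (j : ℕ) : ℕ := (Bool.rec (motive := fun _ => ℕ) rl3923 rl3924 (Nat.ble 3924 j))

/-- a part of the choice of the part of the table -/
noncomputable def selTN2372 (j : ℕ) : ℕ := (Bool.rec (motive := fun _ => ℕ) (selTN2370 j) (Bool.rec (motive := fun _ => ℕ) (selTN2371 j) rl3925 (Nat.ble 3925 j)) (Nat.ble 3923 j))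

/-- a part of the choice of the part of the table -/
noncomputable def selTN2373 (j : ℕ) : ℕ := (Bool.rec (motive := fun _ => ℕ) rl3926 rl3927 (Nat.ble 3927 j))

/-- a part of the choice of the part of the table -/
noncomputable def selTN2374 (j : ℕ) : ℕ := (Bool.rec (motive := fun _ => ℕ) rl3928 rl3929 (Nat.ble 3929 j))

/-- a part of the choice of the part of the table -/
noncomputable def selTN2375 (j : ℕ) : ℕ := (Bool.rec (motive := fun _ => ℕ) (selTN2373 j) (Bool.rec (motive := fun _ => ℕ) (selTN2374 j) rl3930 (Nat.ble 3930 j)) (Nat.ble 3928 j))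

/-- a part of the choice of the part of the table -/
noncomputable def selTN2376 (j : ℕ) : ℕ := (Bool.rec (motive := fun _ => ℕ) (Bool.rec (motive := fun _ => ℕ) rl3931 rl3932 (Nat.ble 3932 j)) (Bool.rec (motive := fun _ => ℕ) rl3933 rl3934 (Nat.ble 3934 j)) (Nat.ble 3933 j))

/-- a part of the choice of the part of the table -/
noncomputable def selTN2377 (j : ℕ) : ℕ := (Bool.rec (motive := fun _ => ℕ) (Bool.rec (motive := fun _ => ℕ) (selTN2369 j) (selTN2372 j) (Nat.ble 3921 j)) (Bool.rec (motive := fun _ => ℕ) (selTN2375 j) (selTN2376 j) (Nat.ble 3931 j)) (Nat.ble 3926 j))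

/-- a part of the choice of the part of the table -/
noncomputable def selTN2378 (j : ℕ) : ℕ := (Bool.rec (motive := fun _ => ℕ) rl3935 rl3936 (Nat.ble 3936 j))

/-- a part of the choice of the part of the table -/
noncomputable def selTN2379 (j : ℕ) : ℕ := (Bool.rec (motive := fun _ => ℕ) rl3937 rl3938 (Nat.ble 3938 j))

/-- a part of the choice of the part of the table -/
noncomputable def selTN2380 (j : ℕ) : ℕ := (Bool.rec (motive := fun _ => ℕ) (selTN2378 j) (Bool.rec (motive := fun _ => ℕ) (selTN2379 j) rl3939 (Nat.ble 3939 j)) (Nat.ble 3937 j))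

/-- a part of the choice of the part of the table -/
noncomputable def selTN2381 (j : ℕ) : ℕ := (Bool.rec (motive := fun _ => ℕ) rl3940 rl3941 (Nat.ble 3941 j))

/-- a part of the choice of the part of the table -/
noncomputable def selTN2382 (j : ℕ) : ℕ := (Bool.rec (motive := fun _ => ℕ) rl3942 rl3943 (Nat.ble 3943 j))

/-- a part of the choice of the part of the table -/
noncomputable def selTN2383 (j : ℕ) : ℕ := (Bool.rec (motive := fun _ => ℕ) (selTN2381 j) (Bool.rec (motive := fun _ => ℕ) (selTN2382 j) rl3944 (Nat.ble 3944 j)) (Nat.ble 3942 j))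

/-- a part of the choice of the part of the table -/
noncomputable def selTN2384 (j : ℕ) : ℕ := (Bool.rec (motive := fun _ => ℕ) rl3945 rl3946 (Nat.ble 3946 j))

/-- a part of the choice of the part of the table -/
noncomputable def selTN2385 (j : ℕ) : ℕ := (Bool.rec (motive := fun _ => ℕ) rl3947 rl3948 (Nat.ble 3948 j))

/-- a part of the choice of the part of the table -/
noncomputable def selTN2386 (j : ℕ) : ℕ := (Bool.rec (motive := fun _ => ℕ) (selTN2384 j) (Bool.rec (motive := fun _ => ℕ) (selTN2385 j) rl3949 (Nat.ble 3949 j)) (Nat.ble 3947 j))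

/-- a part of the choice of the part of the table -/
noncomputable def selTN2387 (j : ℕ) : ℕ := (Bool.rec (motive := fun _ => ℕ) (Bool.rec (motive := fun _ => ℕ) rl3950 rl3951 (Nat.ble 3951 j)) (Bool.rec (motive := fun _ => ℕ) rl3952 rl3953 (Nat.ble 3953 j)) (Nat.ble 3952 j))

/-- a part of the choice of the part of the table -/
noncomputable def selTN2388 (j : ℕ) : ℕ := (Bool.rec (motive := fun _ => ℕ) (Bool.rec (motive := fun _ => ℕ) (selTN2380 j) (selTN2383 j) (Nat.ble 3940 j)) (Bool.rec (motive := fun _ => ℕ) (selTN2386 j) (selTN2387 j) (Nat.ble 3950 j)) (Nat.ble 3945 j))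

/-- a part of the choice of the part of the table -/
noncomputable def selTN2389 (j : ℕ) : ℕ := (Bool.rec (motive := fun _ => ℕ) rl3954 rl3955 (Nat.ble 3955 j))

/-- a part of the choice of the part of the table -/
noncomputable def selTN2390 (j : ℕ) : ℕ := (Bool.rec (motive := fun _ => ℕ) rl3956 rl3957 (Nat.ble 3957 j))

/-- a part of the choice of the part of the table -/
noncomputable def selTN2391 (j : ℕ) : ℕ := (Bool.rec (motive := fun _ => ℕ) (selTN2389 j) (Bool.rec (motive := fun _ => ℕ) (selTN2390 j) rl3958 (Nat.ble 3958 j)) (Nat.ble 3956 j))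

/-- a part of the choice of the part of the table -/
noncomputable def selTN2392 (j : ℕ) : ℕ := (Bool.rec (motive := fun _ => ℕ) rl3959 rl3960 (Nat.ble 3960 j))

/-- a part of the choice of the part of the table -/
noncomputable def selTN2393 (j : ℕ) : ℕ := (Bool.rec (motive := fun _ => ℕ) rl3961 rl3962 (Nat.ble 3962 j))

/-- a part of the choice of the part of the table -/
noncomputable def selTN2394 (j : ℕ) : ℕ := (Bool.rec (motive := fun _ => ℕ) (selTN2392 j) (Bool.rec (motive := fun _ => ℕ) (selTN2393 j) rl3963 (Nat.ble 3963 j)) (Nat.ble 3961 j))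

/-- a part of the choice of the part of the table -/
noncomputable def selTN2395 (j : ℕ) : ℕ := (Bool.rec (motive := fun _ => ℕ) rl3964 rl3965 (Nat.ble 3965 j))

/-- a part of the choice of the part of the table -/
noncomputable def selTN2396 (j : ℕ) : ℕ := (Bool.rec (motive := fun _ => ℕ) rl3966 rl3967 (Nat.ble 3967 j))

/-- a part of the choice of the part of the table -/
noncomputable def selTN2397 (j : ℕ) : ℕ := (Bool.rec (motive := fun _ => ℕ) (selTN2395 j) (Bool.rec (motive := fun _ => ℕ) (selTN2396 j) rl3968 (Nat.ble 3968 j)) (Nat.ble 3966 j))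

/-- a part of the choice of the part of the table -/
noncomputable def selTN2398 (j : ℕ) : ℕ := (Bool.rec (motive := fun _ => ℕ) rl3969 (Bool.rec (motive := fun _ => ℕ) rl3970 rl3971 (Nat.ble 3971 j)) (Nat.ble 3970 j))

/-- a part of the choice of the part of the table -/
noncomputable def selTN2399 (j : ℕ) : ℕ := (Bool.rec (motive := fun _ => ℕ) (Bool.rec (motive := fun _ => ℕ) (selTN2391 j) (selTN2394 j) (Nat.ble 3959 j)) (Bool.rec (motive := fun _ => ℕ) (selTN2397 j) (selTN2398 j) (Nat.ble 3969 j)) (Nat.ble 3964 j))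

/-- a part of the choice of the part of the table -/
noncomputable def selTN2400 (j : ℕ) : ℕ := (Bool.rec (motive := fun _ => ℕ) (Bool.rec (motive := fun _ => ℕ) (selTN2366 j) (selTN2377 j) (Nat.ble 3916 j)) (Bool.rec (motive := fun _ => ℕ) (selTN2388 j) (selTN2399 j) (Nat.ble 3954 j)) (Nat.ble 3935 j))

/-- a part of the choice of the part of the table -/
noncomputable def selTN2401 (j : ℕ) : ℕ := (Bool.rec (motive := fun _ => ℕ) rl3972 rl3973 (Nat.ble 3973 j))

/-- a part of the choice of the part of the table -/
noncomputable def selTN2402 (j : ℕ) : ℕ := (Bool.rec (motive := fun _ => ℕ) rl3974 rl3975 (Nat.ble 3975 j))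

/-- a part of the choice of the part of the table -/
noncomputable def selTN2403 (j : ℕ) : ℕ := (Bool.rec (motive := fun _ => ℕ) (selTN2401 j) (Bool.rec (motive := fun _ => ℕ) (selTN2402 j) rl3976 (Nat.ble 3976 j)) (Nat.ble 3974 j))

/-- a part of the choice of the part of the table -/
noncomputable def selTN2404 (j : ℕ) : ℕ := (Bool.rec (motive := fun _ => ℕ) rl3977 rl3978 (Nat.ble 3978 j))

/-- a part of the choice of the part of the table -/
noncomputable def selTN2405 (j : ℕ) : ℕ := (Bool.rec (motive := fun _ => ℕ) rl3979 rl3980 (Nat.ble 3980 j))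

/-- a part of the choice of the part of the table -/
noncomputable def selTN2406 (j : ℕ) : ℕ := (Bool.rec (motive := fun _ => ℕ) (selTN2404 j) (Bool.rec (motive := fun _ => ℕ) (selTN2405 j) rl3981 (Nat.ble 3981 j)) (Nat.ble 3979 j))

/-- a part of the choice of the part of the table -/
noncomputable def selTN2407 (j : ℕ) : ℕ := (Bool.rec (motive := fun _ => ℕ) rl3982 rl3983 (Nat.ble 3983 j))

/-- a part of the choice of the part of the table -/
noncomputable def selTN2408 (j : ℕ) : ℕ := (Bool.rec (motive := fun _ => ℕ) rl3984 rl3985 (Nat.ble 3985 j))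

/-- a part of the choice of the part of the table -/
noncomputable def selTN2409 (j : ℕ) : ℕ := (Bool.rec (motive := fun _ => ℕ) (selTN2407 j) (Bool.rec (motive := fun _ => ℕ) (selTN2408 j) rl3986 (Nat.ble 3986 j)) (Nat.ble 3984 j))

/-- a part of the choice of the part of the table -/
noncomputable def selTN2410 (j : ℕ) : ℕ := (Bool.rec (motive := fun _ => ℕ) (Bool.rec (motive := fun _ => ℕ) rl3987 rl3988 (Nat.ble 3988 j)) (Bool.rec (motive := fun _ => ℕ) rl3989 rl3990 (Nat.ble 3990 j)) (Nat.ble 3989 j))

/-- a part of the choice of the part of the table -/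
noncomputable def selTN2411 (j : ℕ) : ℕ := (Bool.rec (motive := fun _ => ℕ) (Bool.rec (motive := fun _ => ℕ) (selTN2403 j) (selTN2406 j) (Nat.ble 3977 j)) (Bool.rec (motive := fun _ => ℕ) (selTN2409 j) (selTN2410 j) (Nat.ble 3987 j)) (Nat.ble 3982 j))

/-- a part of the choice of the part of the table -/
noncomputable def selTN2412 (j : ℕ) : ℕ := (Bool.rec (motive := fun _ => ℕ) rl3991 rl3992 (Nat.ble 3992 j))

/-- a part of the choice of the part of the table -/
noncomputable def selTN2413 (j : ℕ) : ℕ := (Bool.rec (motive := fun _ => ℕ) rl3993 rl3994 (Nat.ble 3994 j))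

/-- a part of the choice of the part of the table -/
noncomputable def selTN2414 (j : ℕ) : ℕ := (Bool.rec (motive := fun _ => ℕ) (selTN2412 j) (Bool.rec (motive := fun _ => ℕ) (selTN2413 j) rl3995 (Nat.ble 3995 j)) (Nat.ble 3993 j))

/-- a part of the choice of the part of the table -/
noncomputable def selTN2415 (j : ℕ) : ℕ := (Bool.rec (motive := fun _ => ℕ) rl3996 rl3997 (Nat.ble 3997 j))

/-- a part of the choice of the part of the table -/
noncomputable def selTN2416 (j : ℕ) : ℕ := (Bool.rec (motive := fun _ => ℕ) rl3998 rl3999 (Nat.ble 3999 j))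

/-- a part of the choice of the part of the table -/
noncomputable def selTN2417 (j : ℕ) : ℕ := (Bool.rec (motive := fun _ => ℕ) (selTN2415 j) (Bool.rec (motive := fun _ => ℕ) (selTN2416 j) rl4000 (Nat.ble 4000 j)) (Nat.ble 3998 j))

/-- a part of the choice of the part of the table -/
noncomputable def selTN2418 (j : ℕ) : ℕ := (Bool.rec (motive := fun _ => ℕ) rl4001 rl4002 (Nat.ble 4002 j))

/-- a part of the choice of the part of the table -/
noncomputable def selTN2419 (j : ℕ) : ℕ := (Bool.rec (motive := fun _ => ℕ) rl4003 rl4004 (Nat.ble 4004 j))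

/-- a part of the choice of the part of the table -/
noncomputable def selTN2420 (j : ℕ) : ℕ := (Bool.rec (motive := fun _ => ℕ) (selTN2418 j) (Bool.rec (motive := fun _ => ℕ) (selTN2419 j) rl4005 (Nat.ble 4005 j)) (Nat.ble 4003 j))

/-- a part of the choice of the part of the table -/
noncomputable def selTN2421 (j : ℕ) : ℕ := (Bool.rec (motive := fun _ => ℕ) (Bool.rec (motive := fun _ => ℕ) rl4006 rl4007 (Nat.ble 4007 j)) (Bool.rec (motive := fun _ => ℕ) rl4008 rl4009 (Nat.ble 4009 j)) (Nat.ble 4008 j))

/-- a part of the choice of the part of the table -/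
noncomputable def selTN2422 (j : ℕ) : ℕ := (Bool.rec (motive := fun _ => ℕ) (Bool.rec (motive := fun _ => ℕ) (selTN2414 j) (selTN2417 j) (Nat.ble 3996 j)) (Bool.rec (motive := fun _ => ℕ) (selTN2420 j) (selTN2421 j) (Nat.ble 4006 j)) (Nat.ble 4001 j))

/-- a part of the choice of the part of the table -/
noncomputable def selTN2423 (j : ℕ) : ℕ := (Bool.rec (motive := fun _ => ℕ) rl4010 rl4011 (Nat.ble 4011 j))

/-- a part of the choice of the part of the table -/
noncomputable def selTN2424 (j : ℕ) : ℕ := (Bool.rec (motive := fun _ => ℕ) rl4012 rl4013 (Nat.ble 4013 j))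

/-- a part of the choice of the part of the table -/
noncomputable def selTN2425 (j : ℕ) : ℕ := (Bool.rec (motive := fun _ => ℕ) (selTN2423 j) (Bool.rec (motive := fun _ => ℕ) (selTN2424 j) rl4014 (Nat.ble 4014 j)) (Nat.ble 4012 j))

/-- a part of the choice of the part of the table -/
noncomputable def selTN2426 (j : ℕ) : ℕ := (Bool.rec (motive := fun _ => ℕ) rl4015 rl4016 (Nat.ble 4016 j))

/-- a part of the choice of the part of the table -/
noncomputable def selTN2427 (j : ℕ) : ℕ := (Bool.rec (motive := fun _ => ℕ) rl4017 rl4018 (Nat.ble 4018 j))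

/-- a part of the choice of the part of the table -/
noncomputable def selTN2428 (j : ℕ) : ℕ := (Bool.rec (motive := fun _ => ℕ) (selTN2426 j) (Bool.rec (motive := fun _ => ℕ) (selTN2427 j) rl4019 (Nat.ble 4019 j)) (Nat.ble 4017 j))

/-- a part of the choice of the part of the table -/
noncomputable def selTN2429 (j : ℕ) : ℕ := (Bool.rec (motive := fun _ => ℕ) rl4020 rl4021 (Nat.ble 4021 j))

/-- a part of the choice of the part of the table -/
noncomputable def selTN2430 (j : ℕ) : ℕ := (Bool.rec (motive := fun _ => ℕ) rl4022 rl4023 (Nat.ble 4023 j))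

/-- a part of the choice of the part of the table -/
noncomputable def selTN2431 (j : ℕ) : ℕ := (Bool.rec (motive := fun _ => ℕ) (selTN2429 j) (Bool.rec (motive := fun _ => ℕ) (selTN2430 j) rl4024 (Nat.ble 4024 j)) (Nat.ble 4022 j))

/-- a part of the choice of the part of the table -/
noncomputable def selTN2432 (j : ℕ) : ℕ := (Bool.rec (motive := fun _ => ℕ) (Bool.rec (motive := fun _ => ℕ) rl4025 rl4026 (Nat.ble 4026 j)) (Bool.rec (motive := fun _ => ℕ) rl4027 rl4028 (Nat.ble 4028 j)) (Nat.ble 4027 j))

/-- a part of the choice of the part of the table -/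
noncomputable def selTN2433 (j : ℕ) : ℕ := (Bool.rec (motive := fun _ => ℕ) (Bool.rec (motive := fun _ => ℕ) (selTN2425 j) (selTN2428 j) (Nat.ble 4015 j)) (Bool.rec (motive := fun _ => ℕ) (selTN2431 j) (selTN2432 j) (Nat.ble 4025 j)) (Nat.ble 4020 j))

/-- a part of the choice of the part of the table -/
noncomputable def selTN2434 (j : ℕ) : ℕ := (Bool.rec (motive := fun _ => ℕ) rl4029 rl4030 (Nat.ble 4030 j))

/-- a part of the choice of the part of the table -/
noncomputable def selTN2435 (j : ℕ) : ℕ := (Bool.rec (motive := fun _ => ℕ) rl4031 rl4032 (Nat.ble 4032 j))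

/-- a part of the choice of the part of the table -/
noncomputable def selTN2436 (j : ℕ) : ℕ := (Bool.rec (motive := fun _ => ℕ) (selTN2434 j) (Bool.rec (motive := fun _ => ℕ) (selTN2435 j) rl4033 (Nat.ble 4033 j)) (Nat.ble 4031 j))

/-- a part of the choice of the part of the table -/
noncomputable def selTN2437 (j : ℕ) : ℕ := (Bool.rec (motive := fun _ => ℕ) rl4034 rl4035 (Nat.ble 4035 j))

/-- a part of the choice of the part of the table -/
noncomputable def selTN2438 (j : ℕ) : ℕ := (Bool.rec (motive := fun _ => ℕ) rl4036 rl4037 (Nat.ble 4037 j))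

/-- a part of the choice of the part of the table -/
noncomputable def selTN2439 (j : ℕ) : ℕ := (Bool.rec (motive := fun _ => ℕ) (selTN2437 j) (Bool.rec (motive := fun _ => ℕ) (selTN2438 j) rl4038 (Nat.ble 4038 j)) (Nat.ble 4036 j))

/-- a part of the choice of the part of the table -/
noncomputable def selTN2440 (j : ℕ) : ℕ := (Bool.rec (motive := fun _ => ℕ) rl4039 rl4040 (Nat.ble 4040 j))

/-- a part of the choice of the part of the table -/
noncomputable def selTN2441 (j : ℕ) : ℕ := (Bool.rec (motive := fun _ => ℕ) rl4041 rl4042 (Nat.ble 4042 j))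

/-- a part of the choice of the part of the table -/
noncomputable def selTN2442 (j : ℕ) : ℕ := (Bool.rec (motive := fun _ => ℕ) (selTN2440 j) (Bool.rec (motive := fun _ => ℕ) (selTN2441 j) rl4043 (Nat.ble 4043 j)) (Nat.ble 4041 j))

/-- a part of the choice of the part of the table -/
noncomputable def selTN2443 (j : ℕ) : ℕ := (Bool.rec (motive := fun _ => ℕ) rl4044 (Bool.rec (motive := fun _ => ℕ) rl4045 rl4046 (Nat.ble 4046 j)) (Nat.ble 4045 j))

/-- a part of the choice of the part of the table -/
noncomputable def selTN2444 (j : ℕ) : ℕ := (Bool.rec (motive := fun _ => ℕ) (Bool.rec (motive := fun _ => ℕ) (selTN2436 j) (selTN2439 j) (Nat.ble 4034 j)) (Bool.rec (motive := fun _ => ℕ) (selTN2442 j) (selTN2443 j) (Nat.ble 4044 j)) (Nat.ble 4039 j))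

/-- a part of the choice of the part of the table -/
noncomputable def selTN2445 (j : ℕ) : ℕ := (Bool.rec (motive := fun _ => ℕ) (Bool.rec (motive := fun _ => ℕ) (selTN2411 j) (selTN2422 j) (Nat.ble 3991 j)) (Bool.rec (motive := fun _ => ℕ) (selTN2433 j) (selTN2444 j) (Nat.ble 4029 j)) (Nat.ble 4010 j))

/-- a part of the choice of the part of the table -/
noncomputable def selTN2446 (j : ℕ) : ℕ := (Bool.rec (motive := fun _ => ℕ) rl4047 rl4048 (Nat.ble 4048 j))

/-- a part of the choice of the part of the table -/
noncomputable def selTN2447 (j : ℕ) : ℕ := (Bool.rec (motive := fun _ => ℕ) rl4049 rl4050 (Nat.ble 4050 j))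

/-- a part of the choice of the part of the table -/
noncomputable def selTN2448 (j : ℕ) : ℕ := (Bool.rec (motive := fun _ => ℕ) (selTN2446 j) (Bool.rec (motive := fun _ => ℕ) (selTN2447 j) rl4051 (Nat.ble 4051 j)) (Nat.ble 4049 j))

/-- a part of the choice of the part of the table -/
noncomputable def selTN2449 (j : ℕ) : ℕ := (Bool.rec (motive := fun _ => ℕ) rl4052 rl4053 (Nat.ble 4053 j))

/-- a part of the choice of the part of the table -/
noncomputable def selTN2450 (j : ℕ) : ℕ := (Bool.rec (motive := fun _ => ℕ) rl4054 rl4055 (Nat.ble 4055 j))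

/-- a part of the choice of the part of the table -/
noncomputable def selTN2451 (j : ℕ) : ℕ := (Bool.rec (motive := fun _ => ℕ) (selTN2449 j) (Bool.rec (motive := fun _ => ℕ) (selTN2450 j) rl4056 (Nat.ble 4056 j)) (Nat.ble 4054 j))

/-- a part of the choice of the part of the table -/
noncomputable def selTN2452 (j : ℕ) : ℕ := (Bool.rec (motive := fun _ => ℕ) rl4057 rl4058 (Nat.ble 4058 j))

/-- a part of the choice of the part of the table -/
noncomputable def selTN2453 (j : ℕ) : ℕ := (Bool.rec (motive := fun _ => ℕ) rl4059 rl4060 (Nat.ble 4060 j))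

/-- a part of the choice of the part of the table -/
noncomputable def selTN2454 (j : ℕ) : ℕ := (Bool.rec (motive := fun _ => ℕ) (selTN2452 j) (Bool.rec (motive := fun _ => ℕ) (selTN2453 j) rl4061 (Nat.ble 4061 j)) (Nat.ble 4059 j))

/-- a part of the choice of the part of the table -/
noncomputable def selTN2455 (j : ℕ) : ℕ := (Bool.rec (motive := fun _ => ℕ) (Bool.rec (motive := fun _ => ℕ) rl4062 rl4063 (Nat.ble 4063 j)) (Bool.rec (motive := fun _ => ℕ) rl4064 rl4065 (Nat.ble 4065 j)) (Nat.ble 4064 j))

/-- a part of the choice of the part of the table -/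
noncomputable def selTN2456 (j : ℕ) : ℕ := (Bool.rec (motive := fun _ => ℕ) (Bool.rec (motive := fun _ => ℕ) (selTN2448 j) (selTN2451 j) (Nat.ble 4052 j)) (Bool.rec (motive := fun _ => ℕ) (selTN2454 j) (selTN2455 j) (Nat.ble 4062 j)) (Nat.ble 4057 j))

/-- a part of the choice of the part of the table -/
noncomputable def selTN2457 (j : ℕ) : ℕ := (Bool.rec (motive := fun _ => ℕ) rl4066 rl4067 (Nat.ble 4067 j))

/-- a part of the choice of the part of the table -/
noncomputable def selTN2458 (j : ℕ) : ℕ := (Bool.rec (motive := fun _ => ℕ) rl4068 rl4069 (Nat.ble 4069 j))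

/-- a part of the choice of the part of the table -/
noncomputable def selTN2459 (j : ℕ) : ℕ := (Bool.rec (motive := fun _ => ℕ) (selTN2457 j) (Bool.rec (motive := fun _ => ℕ) (selTN2458 j) rl4070 (Nat.ble 4070 j)) (Nat.ble 4068 j))

/-- a part of the choice of the part of the table -/
noncomputable def selTN2460 (j : ℕ) : ℕ := (Bool.rec (motive := fun _ => ℕ) rl4071 rl4072 (Nat.ble 4072 j))

/-- a part of the choice of the part of the table -/
noncomputable def selTN2461 (j : ℕ) : ℕ := (Bool.rec (motive := fun _ => ℕ) rl4073 rl4074 (Nat.ble 4074 j))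

/-- a part of the choice of the part of the table -/
noncomputable def selTN2462 (j : ℕ) : ℕ := (Bool.rec (motive := fun _ => ℕ) (selTN2460 j) (Bool.rec (motive := fun _ => ℕ) (selTN2461 j) rl4075 (Nat.ble 4075 j)) (Nat.ble 4073 j))

/-- a part of the choice of the part of the table -/
noncomputable def selTN2463 (j : ℕ) : ℕ := (Bool.rec (motive := fun _ => ℕ) rl4076 rl4077 (Nat.ble 4077 j))

/-- a part of the choice of the part of the table -/
noncomputable def selTN2464 (j : ℕ) : ℕ := (Bool.rec (motive := fun _ => ℕ) rl4078 rl4079 (Nat.ble 4079 j))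

/-- a part of the choice of the part of the table -/
noncomputable def selTN2465 (j : ℕ) : ℕ := (Bool.rec (motive := fun _ => ℕ) (selTN2463 j) (Bool.rec (motive := fun _ => ℕ) (selTN2464 j) rl4080 (Nat.ble 4080 j)) (Nat.ble 4078 j))

/-- a part of the choice of the part of the table -/
noncomputable def selTN2466 (j : ℕ) : ℕ := (Bool.rec (motive := fun _ => ℕ) (Bool.rec (motive := fun _ => ℕ) rl4081 rl4082 (Nat.ble 4082 j)) (Bool.rec (motive := fun _ => ℕ) rl4083 rl4084 (Nat.ble 4084 j)) (Nat.ble 4083 j))

/-- a part of the choice of the part of the table -/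
noncomputable def selTN2467 (j : ℕ) : ℕ := (Bool.rec (motive := fun _ => ℕ) (Bool.rec (motive := fun _ => ℕ) (selTN2459 j) (selTN2462 j) (Nat.ble 4071 j)) (Bool.rec (motive := fun _ => ℕ) (selTN2465 j) (selTN2466 j) (Nat.ble 4081 j)) (Nat.ble 4076 j))

/-- a part of the choice of the part of the table -/
noncomputable def selTN2468 (j : ℕ) : ℕ := (Bool.rec (motive := fun _ => ℕ) rl4085 rl4086 (Nat.ble 4086 j))

/-- a part of the choice of the part of the table -/
noncomputable def selTN2469 (j : ℕ) : ℕ := (Bool.rec (motive := fun _ => ℕ) rl4087 rl4088 (Nat.ble 4088 j))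

/-- a part of the choice of the part of the table -/
noncomputable def selTN2470 (j : ℕ) : ℕ := (Bool.rec (motive := fun _ => ℕ) (selTN2468 j) (Bool.rec (motive := fun _ => ℕ) (selTN2469 j) rl4089 (Nat.ble 4089 j)) (Nat.ble 4087 j))

/-- a part of the choice of the part of the table -/
noncomputable def selTN2471 (j : ℕ) : ℕ := (Bool.rec (motive := fun _ => ℕ) rl4090 rl4091 (Nat.ble 4091 j))

/-- a part of the choice of the part of the table -/
noncomputable def selTN2472 (j : ℕ) : ℕ := (Bool.rec (motive := fun _ => ℕ) rl4092 rl4093 (Nat.ble 4093 j))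

/-- a part of the choice of the part of the table -/
noncomputable def selTN2473 (j : ℕ) : ℕ := (Bool.rec (motive := fun _ => ℕ) (selTN2471 j) (Bool.rec (motive := fun _ => ℕ) (selTN2472 j) rl4094 (Nat.ble 4094 j)) (Nat.ble 4092 j))

/-- a part of the choice of the part of the table -/
noncomputable def selTN2474 (j : ℕ) : ℕ := (Bool.rec (motive := fun _ => ℕ) rl4095 rl4096 (Nat.ble 4096 j))

/-- a part of the choice of the part of the table -/
noncomputable def selTN2475 (j : ℕ) : ℕ := (Bool.rec (motive := fun _ => ℕ) rl4097 rl4098 (Nat.ble 4098 j))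

/-- a part of the choice of the part of the table -/
noncomputable def selTN2476 (j : ℕ) : ℕ := (Bool.rec (motive := fun _ => ℕ) (selTN2474 j) (Bool.rec (motive := fun _ => ℕ) (selTN2475 j) rl4099 (Nat.ble 4099 j)) (Nat.ble 4097 j))

/-- a part of the choice of the part of the table -/
noncomputable def selTN2477 (j : ℕ) : ℕ := (Bool.rec (motive := fun _ => ℕ) (Bool.rec (motive := fun _ => ℕ) rl4100 rl4101 (Nat.ble 4101 j)) (Bool.rec (motive := fun _ => ℕ) rl4102 rl4103 (Nat.ble 4103 j)) (Nat.ble 4102 j))

/-- a part of the choice of the part of the table -/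
noncomputable def selTN2478 (j : ℕ) : ℕ := (Bool.rec (motive := fun _ => ℕ) (Bool.rec (motive := fun _ => ℕ) (selTN2470 j) (selTN2473 j) (Nat.ble 4090 j)) (Bool.rec (motive := fun _ => ℕ) (selTN2476 j) (selTN2477 j) (Nat.ble 4100 j)) (Nat.ble 4095 j))

/-- a part of the choice of the part of the table -/
noncomputable def selTN2479 (j : ℕ) : ℕ := (Bool.rec (motive := fun _ => ℕ) rl4104 rl4105 (Nat.ble 4105 j))

/-- a part of the choice of the part of the table -/
noncomputable def selTN2480 (j : ℕ) : ℕ := (Bool.rec (motive := fun _ => ℕ) rl4106 rl4107 (Nat.ble 4107 j))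

/-- a part of the choice of the part of the table -/
noncomputable def selTN2481 (j : ℕ) : ℕ := (Bool.rec (motive := fun _ => ℕ) (selTN2479 j) (Bool.rec (motive := fun _ => ℕ) (selTN2480 j) rl4108 (Nat.ble 4108 j)) (Nat.ble 4106 j))

/-- a part of the choice of the part of the table -/
noncomputable def selTN2482 (j : ℕ) : ℕ := (Bool.rec (motive := fun _ => ℕ) rl4109 rl4110 (Nat.ble 4110 j))

/-- a part of the choice of the part of the table -/
noncomputable def selTN2483 (j : ℕ) : ℕ := (Bool.rec (motive := fun _ => ℕ) rl4111 rl4112 (Nat.ble 4112 j))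

/-- a part of the choice of the part of the table -/
noncomputable def selTN2484 (j : ℕ) : ℕ := (Bool.rec (motive := fun _ => ℕ) (selTN2482 j) (Bool.rec (motive := fun _ => ℕ) (selTN2483 j) rl4113 (Nat.ble 4113 j)) (Nat.ble 4111 j))

/-- a part of the choice of the part of the table -/
noncomputable def selTN2485 (j : ℕ) : ℕ := (Bool.rec (motive := fun _ => ℕ) rl4114 rl4115 (Nat.ble 4115 j))

/-- a part of the choice of the part of the table -/
noncomputable def selTN2486 (j : ℕ) : ℕ := (Bool.rec (motive := fun _ => ℕ) rl4116 rl4117 (Nat.ble 4117 j))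

/-- a part of the choice of the part of the table -/
noncomputable def selTN2487 (j : ℕ) : ℕ := (Bool.rec (motive := fun _ => ℕ) (selTN2485 j) (Bool.rec (motive := fun _ => ℕ) (selTN2486 j) rl4118 (Nat.ble 4118 j)) (Nat.ble 4116 j))

/-- a part of the choice of the part of the table -/
noncomputable def selTN2488 (j : ℕ) : ℕ := (Bool.rec (motive := fun _ => ℕ) rl4119 (Bool.rec (motive := fun _ => ℕ) rl4120 rl4121 (Nat.ble 4121 j)) (Nat.ble 4120 j))

/-- a part of the choice of the part of the table -/
noncomputable def selTN2489 (j : ℕ) : ℕ := (Bool.rec (motive := fun _ => ℕ) (Bool.rec (motive := fun _ => ℕ) (selTN2481 j) (selTN2484 j) (Nat.ble 4109 j)) (Bool.rec (motive := fun _ => ℕ) (selTN2487 j) (selTN2488 j) (Nat.ble 4119 j)) (Nat.ble 4114 j))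

/-- a part of the choice of the part of the table -/
noncomputable def selTN2490 (j : ℕ) : ℕ := (Bool.rec (motive := fun _ => ℕ) (Bool.rec (motive := fun _ => ℕ) (selTN2456 j) (selTN2467 j) (Nat.ble 4066 j)) (Bool.rec (motive := fun _ => ℕ) (selTN2478 j) (selTN2489 j) (Nat.ble 4104 j)) (Nat.ble 4085 j))

/-- a part of the choice of the part of the table -/
noncomputable def selTN2491 (j : ℕ) : ℕ := (Bool.rec (motive := fun _ => ℕ) rl4122 rl4123 (Nat.ble 4123 j))

/-- a part of the choice of the part of the table -/
noncomputable def selTN2492 (j : ℕ) : ℕ := (Bool.rec (motive := fun _ => ℕ) rl4124 rl4125 (Nat.ble 4125 j))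

/-- a part of the choice of the part of the table -/
noncomputable def selTN2493 (j : ℕ) : ℕ := (Bool.rec (motive := fun _ => ℕ) (selTN2491 j) (Bool.rec (motive := fun _ => ℕ) (selTN2492 j) rl4126 (Nat.ble 4126 j)) (Nat.ble 4124 j))

/-- a part of the choice of the part of the table -/
noncomputable def selTN2494 (j : ℕ) : ℕ := (Bool.rec (motive := fun _ => ℕ) rl4127 rl4128 (Nat.ble 4128 j))

/-- a part of the choice of the part of the table -/
noncomputable def selTN2495 (j : ℕ) : ℕ := (Bool.rec (motive := fun _ => ℕ) rl4129 rl4130 (Nat.ble 4130 j))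

/-- a part of the choice of the part of the table -/
noncomputable def selTN2496 (j : ℕ) : ℕ := (Bool.rec (motive := fun _ => ℕ) (selTN2494 j) (Bool.rec (motive := fun _ => ℕ) (selTN2495 j) rl4131 (Nat.ble 4131 j)) (Nat.ble 4129 j))

/-- a part of the choice of the part of the table -/
noncomputable def selTN2497 (j : ℕ) : ℕ := (Bool.rec (motive := fun _ => ℕ) rl4132 rl4133 (Nat.ble 4133 j))

/-- a part of the choice of the part of the table -/
noncomputable def selTN2498 (j : ℕ) : ℕ := (Bool.rec (motive := fun _ => ℕ) rl4134 rl4135 (Nat.ble 4135 j))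

/-- a part of the choice of the part of the table -/
noncomputable def selTN2499 (j : ℕ) : ℕ := (Bool.rec (motive := fun _ => ℕ) (selTN2497 j) (Bool.rec (motive := fun _ => ℕ) (selTN2498 j) rl4136 (Nat.ble 4136 j)) (Nat.ble 4134 j))

/-- a part of the choice of the part of the table -/
noncomputable def selTN2500 (j : ℕ) : ℕ := (Bool.rec (motive := fun _ => ℕ) (Bool.rec (motive := fun _ => ℕ) rl4137 rl4138 (Nat.ble 4138 j)) (Bool.rec (motive := fun _ => ℕ) rl4139 rl4140 (Nat.ble 4140 j)) (Nat.ble 4139 j))

/-- a part of the choice of the part of the table -/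
noncomputable def selTN2501 (j : ℕ) : ℕ := (Bool.rec (motive := fun _ => ℕ) (Bool.rec (motive := fun _ => ℕ) (selTN2493 j) (selTN2496 j) (Nat.ble 4127 j)) (Bool.rec (motive := fun _ => ℕ) (selTN2499 j) (selTN2500 j) (Nat.ble 4137 j)) (Nat.ble 4132 j))

/-- a part of the choice of the part of the table -/
noncomputable def selTN2502 (j : ℕ) : ℕ := (Bool.rec (motive := fun _ => ℕ) rl4141 rl4142 (Nat.ble 4142 j))

/-- a part of the choice of the part of the table -/
noncomputable def selTN2503 (j : ℕ) : ℕ := (Bool.rec (motive := fun _ => ℕ) rl4143 rl4144 (Nat.ble 4144 j))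

/-- a part of the choice of the part of the table -/
noncomputable def selTN2504 (j : ℕ) : ℕ := (Bool.rec (motive := fun _ => ℕ) (selTN2502 j) (Bool.rec (motive := fun _ => ℕ) (selTN2503 j) rl4145 (Nat.ble 4145 j)) (Nat.ble 4143 j))

/-- a part of the choice of the part of the table -/
noncomputable def selTN2505 (j : ℕ) : ℕ := (Bool.rec (motive := fun _ => ℕ) rl4146 rl4147 (Nat.ble 4147 j))

/-- a part of the choice of the part of the table -/
noncomputable def selTN2506 (j : ℕ) : ℕ := (Bool.rec (motive := fun _ => ℕ) rl4148 rl4149 (Nat.ble 4149 j))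

/-- a part of the choice of the part of the table -/
noncomputable def selTN2507 (j : ℕ) : ℕ := (Bool.rec (motive := fun _ => ℕ) (selTN2505 j) (Bool.rec (motive := fun _ => ℕ) (selTN2506 j) rl4150 (Nat.ble 4150 j)) (Nat.ble 4148 j))

/-- a part of the choice of the part of the table -/
noncomputable def selTN2508 (j : ℕ) : ℕ := (Bool.rec (motive := fun _ => ℕ) rl4151 rl4152 (Nat.ble 4152 j))

/-- a part of the choice of the part of the table -/
noncomputable def selTN2509 (j : ℕ) : ℕ := (Bool.rec (motive := fun _ => ℕ) rl4153 rl4154 (Nat.ble 4154 j))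

/-- a part of the choice of the part of the table -/
noncomputable def selTN2510 (j : ℕ) : ℕ := (Bool.rec (motive := fun _ => ℕ) (selTN2508 j) (Bool.rec (motive := fun _ => ℕ) (selTN2509 j) rl4155 (Nat.ble 4155 j)) (Nat.ble 4153 j))

/-- a part of the choice of the part of the table -/
noncomputable def selTN2511 (j : ℕ) : ℕ := (Bool.rec (motive := fun _ => ℕ) (Bool.rec (motive := fun _ => ℕ) rl4156 rl4157 (Nat.ble 4157 j)) (Bool.rec (motive := fun _ => ℕ) rl4158 rl4159 (Nat.ble 4159 j)) (Nat.ble 4158 j))

/-- a part of the choice of the part of the table -/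
noncomputable def selTN2512 (j : ℕ) : ℕ := (Bool.rec (motive := fun _ => ℕ) (Bool.rec (motive := fun _ => ℕ) (selTN2504 j) (selTN2507 j) (Nat.ble 4146 j)) (Bool.rec (motive := fun _ => ℕ) (selTN2510 j) (selTN2511 j) (Nat.ble 4156 j)) (Nat.ble 4151 j))

/-- a part of the choice of the part of the table -/
noncomputable def selTN2513 (j : ℕ) : ℕ := (Bool.rec (motive := fun _ => ℕ) rl4160 rl4161 (Nat.ble 4161 j))

/-- a part of the choice of the part of the table -/
noncomputable def selTN2514 (j : ℕ) : ℕ := (Bool.rec (motive := fun _ => ℕ) rl4162 rl4163 (Nat.ble 4163 j))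

/-- a part of the choice of the part of the table -/
noncomputable def selTN2515 (j : ℕ) : ℕ := (Bool.rec (motive := fun _ => ℕ) (selTN2513 j) (Bool.rec (motive := fun _ => ℕ) (selTN2514 j) rl4164 (Nat.ble 4164 j)) (Nat.ble 4162 j))

/-- a part of the choice of the part of the table -/
noncomputable def selTN2516 (j : ℕ) : ℕ := (Bool.rec (motive := fun _ => ℕ) rl4165 rl4166 (Nat.ble 4166 j))

/-- a part of the choice of the part of the table -/
noncomputable def selTN2517 (j : ℕ) : ℕ := (Bool.rec (motive := fun _ => ℕ) rl4167 rl4168 (Nat.ble 4168 j))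

/-- a part of the choice of the part of the table -/
noncomputable def selTN2518 (j : ℕ) : ℕ := (Bool.rec (motive := fun _ => ℕ) (selTN2516 j) (Bool.rec (motive := fun _ => ℕ) (selTN2517 j) rl4169 (Nat.ble 4169 j)) (Nat.ble 4167 j))

/-- a part of the choice of the part of the table -/
noncomputable def selTN2519 (j : ℕ) : ℕ := (Bool.rec (motive := fun _ => ℕ) rl4170 rl4171 (Nat.ble 4171 j))

/-- a part of the choice of the part of the table -/
noncomputable def selTN2520 (j : ℕ) : ℕ := (Bool.rec (motive := fun _ => ℕ) rl4172 rl4173 (Nat.ble 4173 j))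

/-- a part of the choice of the part of the table -/
noncomputable def selTN2521 (j : ℕ) : ℕ := (Bool.rec (motive := fun _ => ℕ) (selTN2519 j) (Bool.rec (motive := fun _ => ℕ) (selTN2520 j) rl4174 (Nat.ble 4174 j)) (Nat.ble 4172 j))

/-- a part of the choice of the part of the table -/
noncomputable def selTN2522 (j : ℕ) : ℕ := (Bool.rec (motive := fun _ => ℕ) (Bool.rec (motive := fun _ => ℕ) rl4175 rl4176 (Nat.ble 4176 j)) (Bool.rec (motive := fun _ => ℕ) rl4177 rl4178 (Nat.ble 4178 j)) (Nat.ble 4177 j))

/-- a part of the choice of the part of the table -/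
noncomputable def selTN2523 (j : ℕ) : ℕ := (Bool.rec (motive := fun _ => ℕ) (Bool.rec (motive := fun _ => ℕ) (selTN2515 j) (selTN2518 j) (Nat.ble 4165 j)) (Bool.rec (motive := fun _ => ℕ) (selTN2521 j) (selTN2522 j) (Nat.ble 4175 j)) (Nat.ble 4170 j))

/-- a part of the choice of the part of the table -/
noncomputable def selTN2524 (j : ℕ) : ℕ := (Bool.rec (motive := fun _ => ℕ) rl4179 rl4180 (Nat.ble 4180 j))

/-- a part of the choice of the part of the table -/
noncomputable def selTN2525 (j : ℕ) : ℕ := (Bool.rec (motive := fun _ => ℕ) rl4181 rl4182 (Nat.ble 4182 j))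

/-- a part of the choice of the part of the table -/
noncomputable def selTN2526 (j : ℕ) : ℕ := (Bool.rec (motive := fun _ => ℕ) (selTN2524 j) (Bool.rec (motive := fun _ => ℕ) (selTN2525 j) rl4183 (Nat.ble 4183 j)) (Nat.ble 4181 j))

/-- a part of the choice of the part of the table -/
noncomputable def selTN2527 (j : ℕ) : ℕ := (Bool.rec (motive := fun _ => ℕ) rl4184 rl4185 (Nat.ble 4185 j))

/-- a part of the choice of the part of the table -/
noncomputable def selTN2528 (j : ℕ) : ℕ := (Bool.rec (motive := fun _ => ℕ) rl4186 rl4187 (Nat.ble 4187 j))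

/-- a part of the choice of the part of the table -/
noncomputable def selTN2529 (j : ℕ) : ℕ := (Bool.rec (motive := fun _ => ℕ) (selTN2527 j) (Bool.rec (motive := fun _ => ℕ) (selTN2528 j) rl4188 (Nat.ble 4188 j)) (Nat.ble 4186 j))

/-- a part of the choice of the part of the table -/
noncomputable def selTN2530 (j : ℕ) : ℕ := (Bool.rec (motive := fun _ => ℕ) rl4189 rl4190 (Nat.ble 4190 j))

/-- a part of the choice of the part of the table -/
noncomputable def selTN2531 (j : ℕ) : ℕ := (Bool.rec (motive := fun _ => ℕ) rl4191 rl4192 (Nat.ble 4192 j))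

/-- a part of the choice of the part of the table -/
noncomputable def selTN2532 (j : ℕ) : ℕ := (Bool.rec (motive := fun _ => ℕ) (selTN2530 j) (Bool.rec (motive := fun _ => ℕ) (selTN2531 j) rl4193 (Nat.ble 4193 j)) (Nat.ble 4191 j))

/-- a part of the choice of the part of the table -/
noncomputable def selTN2533 (j : ℕ) : ℕ := (Bool.rec (motive := fun _ => ℕ) rl4194 (Bool.rec (motive := fun _ => ℕ) rl4195 rl4196 (Nat.ble 4196 j)) (Nat.ble 4195 j))

/-- a part of the choice of the part of the table -/
noncomputable def selTN2534 (j : ℕ) : ℕ := (Bool.rec (motive := fun _ => ℕ) (Bool.rec (motive := fun _ => ℕ) (selTN2526 j) (selTN2529 j) (Nat.ble 4184 j)) (Bool.rec (motive := fun _ => ℕ) (selTN2532 j) (selTN2533 j) (Nat.ble 4194 j)) (Nat.ble 4189 j))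

/-- a part of the choice of the part of the table -/
noncomputable def selTN2535 (j : ℕ) : ℕ := (Bool.rec (motive := fun _ => ℕ) (Bool.rec (motive := fun _ => ℕ) (selTN2501 j) (selTN2512 j) (Nat.ble 4141 j)) (Bool.rec (motive := fun _ => ℕ) (selTN2523 j) (selTN2534 j) (Nat.ble 4179 j)) (Nat.ble 4160 j))

/-- a part of the choice of the part of the table -/
noncomputable def selTN2536 (j : ℕ) : ℕ := (Bool.rec (motive := fun _ => ℕ) (Bool.rec (motive := fun _ => ℕ) (selTN2400 j) (selTN2445 j) (Nat.ble 3972 j)) (Bool.rec (motive := fun _ => ℕ) (selTN2490 j) (selTN2535 j) (Nat.ble 4122 j)) (Nat.ble 4047 j))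

/-- a part of the choice of the part of the table -/
noncomputable def selTN2537 (j : ℕ) : ℕ := (Bool.rec (motive := fun _ => ℕ) rl4197 rl4198 (Nat.ble 4198 j))

/-- a part of the choice of the part of the table -/
noncomputable def selTN2538 (j : ℕ) : ℕ := (Bool.rec (motive := fun _ => ℕ) rl4199 rl4200 (Nat.ble 4200 j))

/-- a part of the choice of the part of the table -/
noncomputable def selTN2539 (j : ℕ) : ℕ := (Bool.rec (motive := fun _ => ℕ) (selTN2537 j) (Bool.rec (motive := fun _ => ℕ) (selTN2538 j) rl4201 (Nat.ble 4201 j)) (Nat.ble 4199 j))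

/-- a part of the choice of the part of the table -/
noncomputable def selTN2540 (j : ℕ) : ℕ := (Bool.rec (motive := fun _ => ℕ) rl4202 rl4203 (Nat.ble 4203 j))

/-- a part of the choice of the part of the table -/
noncomputable def selTN2541 (j : ℕ) : ℕ := (Bool.rec (motive := fun _ => ℕ) rl4204 rl4205 (Nat.ble 4205 j))

/-- a part of the choice of the part of the table -/
noncomputable def selTN2542 (j : ℕ) : ℕ := (Bool.rec (motive := fun _ => ℕ) (selTN2540 j) (Bool.rec (motive := fun _ => ℕ) (selTN2541 j) rl4206 (Nat.ble 4206 j)) (Nat.ble 4204 j))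

/-- a part of the choice of the part of the table -/
noncomputable def selTN2543 (j : ℕ) : ℕ := (Bool.rec (motive := fun _ => ℕ) rl4207 rl4208 (Nat.ble 4208 j))

/-- a part of the choice of the part of the table -/
noncomputable def selTN2544 (j : ℕ) : ℕ := (Bool.rec (motive := fun _ => ℕ) rl4209 rl4210 (Nat.ble 4210 j))

/-- a part of the choice of the part of the table -/
noncomputable def selTN2545 (j : ℕ) : ℕ := (Bool.rec (motive := fun _ => ℕ) (selTN2543 j) (Bool.rec (motive := fun _ => ℕ) (selTN2544 j) rl4211 (Nat.ble 4211 j)) (Nat.ble 4209 j))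

/-- a part of the choice of the part of the table -/
noncomputable def selTN2546 (j : ℕ) : ℕ := (Bool.rec (motive := fun _ => ℕ) (Bool.rec (motive := fun _ => ℕ) rl4212 rl4213 (Nat.ble 4213 j)) (Bool.rec (motive := fun _ => ℕ) rl4214 rl4215 (Nat.ble 4215 j)) (Nat.ble 4214 j))

/-- a part of the choice of the part of the table -/
noncomputable def selTN2547 (j : ℕ) : ℕ := (Bool.rec (motive := fun _ => ℕ) (Bool.rec (motive := fun _ => ℕ) (selTN2539 j) (selTN2542 j) (Nat.ble 4202 j)) (Bool.rec (motive := fun _ => ℕ) (selTN2545 j) (selTN2546 j) (Nat.ble 4212 j)) (Nat.ble 4207 j))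

/-- a part of the choice of the part of the table -/
noncomputable def selTN2548 (j : ℕ) : ℕ := (Bool.rec (motive := fun _ => ℕ) rl4216 rl4217 (Nat.ble 4217 j))

/-- a part of the choice of the part of the table -/
noncomputable def selTN2549 (j : ℕ) : ℕ := (Bool.rec (motive := fun _ => ℕ) rl4218 rl4219 (Nat.ble 4219 j))

/-- a part of the choice of the part of the table -/
noncomputable def selTN2550 (j : ℕ) : ℕ := (Bool.rec (motive := fun _ => ℕ) (selTN2548 j) (Bool.rec (motive := fun _ => ℕ) (selTN2549 j) rl4220 (Nat.ble 4220 j)) (Nat.ble 4218 j))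

/-- a part of the choice of the part of the table -/
noncomputable def selTN2551 (j : ℕ) : ℕ := (Bool.rec (motive := fun _ => ℕ) rl4221 rl4222 (Nat.ble 4222 j))

/-- a part of the choice of the part of the table -/
noncomputable def selTN2552 (j : ℕ) : ℕ := (Bool.rec (motive := fun _ => ℕ) rl4223 rl4224 (Nat.ble 4224 j))

/-- a part of the choice of the part of the table -/
noncomputable def selTN2553 (j : ℕ) : ℕ := (Bool.rec (motive := fun _ => ℕ) (selTN2551 j) (Bool.rec (motive := fun _ => ℕ) (selTN2552 j) rl4225 (Nat.ble 4225 j)) (Nat.ble 4223 j))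

/-- a part of the choice of the part of the table -/
noncomputable def selTN2554 (j : ℕ) : ℕ := (Bool.rec (motive := fun _ => ℕ) rl4226 rl4227 (Nat.ble 4227 j))

/-- a part of the choice of the part of the table -/
noncomputable def selTN2555 (j : ℕ) : ℕ := (Bool.rec (motive := fun _ => ℕ) rl4228 rl4229 (Nat.ble 4229 j))

/-- a part of the choice of the part of the table -/
noncomputable def selTN2556 (j : ℕ) : ℕ := (Bool.rec (motive := fun _ => ℕ) (selTN2554 j) (Bool.rec (motive := fun _ => ℕ) (selTN2555 j) rl4230 (Nat.ble 4230 j)) (Nat.ble 4228 j))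

/-- a part of the choice of the part of the table -/
noncomputable def selTN2557 (j : ℕ) : ℕ := (Bool.rec (motive := fun _ => ℕ) (Bool.rec (motive := fun _ => ℕ) rl4231 rl4232 (Nat.ble 4232 j)) (Bool.rec (motive := fun _ => ℕ) rl4233 rl4234 (Nat.ble 4234 j)) (Nat.ble 4233 j))

/-- a part of the choice of the part of the table -/
noncomputable def selTN2558 (j : ℕ) : ℕ := (Bool.rec (motive := fun _ => ℕ) (Bool.rec (motive := fun _ => ℕ) (selTN2550 j) (selTN2553 j) (Nat.ble 4221 j)) (Bool.rec (motive := fun _ => ℕ) (selTN2556 j) (selTN2557 j) (Nat.ble 4231 j)) (Nat.ble 4226 j))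

/-- a part of the choice of the part of the table -/
noncomputable def selTN2559 (j : ℕ) : ℕ := (Bool.rec (motive := fun _ => ℕ) rl4235 rl4236 (Nat.ble 4236 j))

/-- a part of the choice of the part of the table -/
noncomputable def selTN2560 (j : ℕ) : ℕ := (Bool.rec (motive := fun _ => ℕ) rl4237 rl4238 (Nat.ble 4238 j))

/-- a part of the choice of the part of the table -/
noncomputable def selTN2561 (j : ℕ) : ℕ := (Bool.rec (motive := fun _ => ℕ) (selTN2559 j) (Bool.rec (motive := fun _ => ℕ) (selTN2560 j) rl4239 (Nat.ble 4239 j)) (Nat.ble 4237 j))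

/-- a part of the choice of the part of the table -/
noncomputable def selTN2562 (j : ℕ) : ℕ := (Bool.rec (motive := fun _ => ℕ) rl4240 rl4241 (Nat.ble 4241 j))

/-- a part of the choice of the part of the table -/
noncomputable def selTN2563 (j : ℕ) : ℕ := (Bool.rec (motive := fun _ => ℕ) rl4242 rl4243 (Nat.ble 4243 j))

/-- a part of the choice of the part of the table -/
noncomputable def selTN2564 (j : ℕ) : ℕ := (Bool.rec (motive := fun _ => ℕ) (selTN2562 j) (Bool.rec (motive := fun _ => ℕ) (selTN2563 j) rl4244 (Nat.ble 4244 j)) (Nat.ble 4242 j))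

/-- a part of the choice of the part of the table -/
noncomputable def selTN2565 (j : ℕ) : ℕ := (Bool.rec (motive := fun _ => ℕ) rl4245 rl4246 (Nat.ble 4246 j))

/-- a part of the choice of the part of the table -/
noncomputable def selTN2566 (j : ℕ) : ℕ := (Bool.rec (motive := fun _ => ℕ) rl4247 rl4248 (Nat.ble 4248 j))

/-- a part of the choice of the part of the table -/
noncomputable def selTN2567 (j : ℕ) : ℕ := (Bool.rec (motive := fun _ => ℕ) (selTN2565 j) (Bool.rec (motive := fun _ => ℕ) (selTN2566 j) rl4249 (Nat.ble 4249 j)) (Nat.ble 4247 j))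

/-- a part of the choice of the part of the table -/
noncomputable def selTN2568 (j : ℕ) : ℕ := (Bool.rec (motive := fun _ => ℕ) (Bool.rec (motive := fun _ => ℕ) rl4250 rl4251 (Nat.ble 4251 j)) (Bool.rec (motive := fun _ => ℕ) rl4252 rl4253 (Nat.ble 4253 j)) (Nat.ble 4252 j))

/-- a part of the choice of the part of the table -/
noncomputable def selTN2569 (j : ℕ) : ℕ := (Bool.rec (motive := fun _ => ℕ) (Bool.rec (motive := fun _ => ℕ) (selTN2561 j) (selTN2564 j) (Nat.ble 4240 j)) (Bool.rec (motive := fun _ => ℕ) (selTN2567 j) (selTN2568 j) (Nat.ble 4250 j)) (Nat.ble 4245 j))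

/-- a part of the choice of the part of the table -/
noncomputable def selTN2570 (j : ℕ) : ℕ := (Bool.rec (motive := fun _ => ℕ) rl4254 rl4255 (Nat.ble 4255 j))

/-- a part of the choice of the part of the table -/
noncomputable def selTN2571 (j : ℕ) : ℕ := (Bool.rec (motive := fun _ => ℕ) rl4256 rl4257 (Nat.ble 4257 j))

/-- a part of the choice of the part of the table -/
noncomputable def selTN2572 (j : ℕ) : ℕ := (Bool.rec (motive := fun _ => ℕ) (selTN2570 j) (Bool.rec (motive := fun _ => ℕ) (selTN2571 j) rl4258 (Nat.ble 4258 j)) (Nat.ble 4256 j))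

/-- a part of the choice of the part of the table -/
noncomputable def selTN2573 (j : ℕ) : ℕ := (Bool.rec (motive := fun _ => ℕ) rl4259 rl4260 (Nat.ble 4260 j))

/-- a part of the choice of the part of the table -/
noncomputable def selTN2574 (j : ℕ) : ℕ := (Bool.rec (motive := fun _ => ℕ) rl4261 rl4262 (Nat.ble 4262 j))

/-- a part of the choice of the part of the table -/
noncomputable def selTN2575 (j : ℕ) : ℕ := (Bool.rec (motive := fun _ => ℕ) (selTN2573 j) (Bool.rec (motive := fun _ => ℕ) (selTN2574 j) rl4263 (Nat.ble 4263 j)) (Nat.ble 4261 j))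

/-- a part of the choice of the part of the table -/
noncomputable def selTN2576 (j : ℕ) : ℕ := (Bool.rec (motive := fun _ => ℕ) rl4264 rl4265 (Nat.ble 4265 j))

/-- a part of the choice of the part of the table -/
noncomputable def selTN2577 (j : ℕ) : ℕ := (Bool.rec (motive := fun _ => ℕ) rl4266 rl4267 (Nat.ble 4267 j))

/-- a part of the choice of the part of the table -/
noncomputable def selTN2578 (j : ℕ) : ℕ := (Bool.rec (motive := fun _ => ℕ) (selTN2576 j) (Bool.rec (motive := fun _ => ℕ) (selTN2577 j) rl4268 (Nat.ble 4268 j)) (Nat.ble 4266 j))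

/-- a part of the choice of the part of the table -/
noncomputable def selTN2579 (j : ℕ) : ℕ := (Bool.rec (motive := fun _ => ℕ) rl4269 (Bool.rec (motive := fun _ => ℕ) rl4270 rl4271 (Nat.ble 4271 j)) (Nat.ble 4270 j))

/-- a part of the choice of the part of the table -/
noncomputable def selTN2580 (j : ℕ) : ℕ := (Bool.rec (motive := fun _ => ℕ) (Bool.rec (motive := fun _ => ℕ) (selTN2572 j) (selTN2575 j) (Nat.ble 4259 j)) (Bool.rec (motive := fun _ => ℕ) (selTN2578 j) (selTN2579 j) (Nat.ble 4269 j)) (Nat.ble 4264 j))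

/-- a part of the choice of the part of the table -/
noncomputable def selTN2581 (j : ℕ) : ℕ := (Bool.rec (motive := fun _ => ℕ) (Bool.rec (motive := fun _ => ℕ) (selTN2547 j) (selTN2558 j) (Nat.ble 4216 j)) (Bool.rec (motive := fun _ => ℕ) (selTN2569 j) (selTN2580 j) (Nat.ble 4254 j)) (Nat.ble 4235 j))

/-- a part of the choice of the part of the table -/
noncomputable def selTN2582 (j : ℕ) : ℕ := (Bool.rec (motive := fun _ => ℕ) rl4272 rl4273 (Nat.ble 4273 j))

/-- a part of the choice of the part of the table -/
noncomputable def selTN2583 (j : ℕ) : ℕ := (Bool.rec (motive := fun _ => ℕ) rl4274 rl4275 (Nat.ble 4275 j))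

/-- a part of the choice of the part of the table -/
noncomputable def selTN2584 (j : ℕ) : ℕ := (Bool.rec (motive := fun _ => ℕ) (selTN2582 j) (Bool.rec (motive := fun _ => ℕ) (selTN2583 j) rl4276 (Nat.ble 4276 j)) (Nat.ble 4274 j))

/-- a part of the choice of the part of the table -/
noncomputable def selTN2585 (j : ℕ) : ℕ := (Bool.rec (motive := fun _ => ℕ) rl4277 rl4278 (Nat.ble 4278 j))

/-- a part of the choice of the part of the table -/
noncomputable def selTN2586 (j : ℕ) : ℕ := (Bool.rec (motive := fun _ => ℕ) rl4279 rl4280 (Nat.ble 4280 j))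

/-- a part of the choice of the part of the table -/
noncomputable def selTN2587 (j : ℕ) : ℕ := (Bool.rec (motive := fun _ => ℕ) (selTN2585 j) (Bool.rec (motive := fun _ => ℕ) (selTN2586 j) rl4281 (Nat.ble 4281 j)) (Nat.ble 4279 j))

/-- a part of the choice of the part of the table -/
noncomputable def selTN2588 (j : ℕ) : ℕ := (Bool.rec (motive := fun _ => ℕ) rl4282 rl4283 (Nat.ble 4283 j))

/-- a part of the choice of the part of the table -/
noncomputable def selTN2589 (j : ℕ) : ℕ := (Bool.rec (motive := fun _ => ℕ) rl4284 rl4285 (Nat.ble 4285 j))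

/-- a part of the choice of the part of the table -/
noncomputable def selTN2590 (j : ℕ) : ℕ := (Bool.rec (motive := fun _ => ℕ) (selTN2588 j) (Bool.rec (motive := fun _ => ℕ) (selTN2589 j) rl4286 (Nat.ble 4286 j)) (Nat.ble 4284 j))

/-- a part of the choice of the part of the table -/
noncomputable def selTN2591 (j : ℕ) : ℕ := (Bool.rec (motive := fun _ => ℕ) (Bool.rec (motive := fun _ => ℕ) rl4287 rl4288 (Nat.ble 4288 j)) (Bool.rec (motive := fun _ => ℕ) rl4289 rl4290 (Nat.ble 4290 j)) (Nat.ble 4289 j))

/-- a part of the choice of the part of the table -/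
noncomputable def selTN2592 (j : ℕ) : ℕ := (Bool.rec (motive := fun _ => ℕ) (Bool.rec (motive := fun _ => ℕ) (selTN2584 j) (selTN2587 j) (Nat.ble 4277 j)) (Bool.rec (motive := fun _ => ℕ) (selTN2590 j) (selTN2591 j) (Nat.ble 4287 j)) (Nat.ble 4282 j))

/-- a part of the choice of the part of the table -/
noncomputable def selTN2593 (j : ℕ) : ℕ := (Bool.rec (motive := fun _ => ℕ) rl4291 rl4292 (Nat.ble 4292 j))

/-- a part of the choice of the part of the table -/
noncomputable def selTN2594 (j : ℕ) : ℕ := (Bool.rec (motive := fun _ => ℕ) rl4293 rl4294 (Nat.ble 4294 j))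

/-- a part of the choice of the part of the table -/
noncomputable def selTN2595 (j : ℕ) : ℕ := (Bool.rec (motive := fun _ => ℕ) (selTN2593 j) (Bool.rec (motive := fun _ => ℕ) (selTN2594 j) rl4295 (Nat.ble 4295 j)) (Nat.ble 4293 j))

/-- a part of the choice of the part of the table -/
noncomputable def selTN2596 (j : ℕ) : ℕ := (Bool.rec (motive := fun _ => ℕ) rl4296 rl4297 (Nat.ble 4297 j))

/-- a part of the choice of the part of the table -/
noncomputable def selTN2597 (j : ℕ) : ℕ := (Bool.rec (motive := fun _ => ℕ) rl4298 rl4299 (Nat.ble 4299 j))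

/-- a part of the choice of the part of the table -/
noncomputable def selTN2598 (j : ℕ) : ℕ := (Bool.rec (motive := fun _ => ℕ) (selTN2596 j) (Bool.rec (motive := fun _ => ℕ) (selTN2597 j) rl4300 (Nat.ble 4300 j)) (Nat.ble 4298 j))

/-- a part of the choice of the part of the table -/
noncomputable def selTN2599 (j : ℕ) : ℕ := (Bool.rec (motive := fun _ => ℕ) rl4301 rl4302 (Nat.ble 4302 j))

/-- a part of the choice of the part of the table -/
noncomputable def selTN2600 (j : ℕ) : ℕ := (Bool.rec (motive := fun _ => ℕ) rl4303 rl4304 (Nat.ble 4304 j))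

/-- a part of the choice of the part of the table -/
noncomputable def selTN2601 (j : ℕ) : ℕ := (Bool.rec (motive := fun _ => ℕ) (selTN2599 j) (Bool.rec (motive := fun _ => ℕ) (selTN2600 j) rl4305 (Nat.ble 4305 j)) (Nat.ble 4303 j))

/-- a part of the choice of the part of the table -/
noncomputable def selTN2602 (j : ℕ) : ℕ := (Bool.rec (motive := fun _ => ℕ) (Bool.rec (motive := fun _ => ℕ) rl4306 rl4307 (Nat.ble 4307 j)) (Bool.rec (motive := fun _ => ℕ) rl4308 rl4309 (Nat.ble 4309 j)) (Nat.ble 4308 j))

/-- a part of the choice of the part of the table -/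
noncomputable def selTN2603 (j : ℕ) : ℕ := (Bool.rec (motive := fun _ => ℕ) (Bool.rec (motive := fun _ => ℕ) (selTN2595 j) (selTN2598 j) (Nat.ble 4296 j)) (Bool.rec (motive := fun _ => ℕ) (selTN2601 j) (selTN2602 j) (Nat.ble 4306 j)) (Nat.ble 4301 j))

/-- a part of the choice of the part of the table -/
noncomputable def selTN2604 (j : ℕ) : ℕ := (Bool.rec (motive := fun _ => ℕ) rl4310 rl4311 (Nat.ble 4311 j))

/-- a part of the choice of the part of the table -/
noncomputable def selTN2605 (j : ℕ) : ℕ := (Bool.rec (motive := fun _ => ℕ) rl4312 rl4313 (Nat.ble 4313 j))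

/-- a part of the choice of the part of the table -/
noncomputable def selTN2606 (j : ℕ) : ℕ := (Bool.rec (motive := fun _ => ℕ) (selTN2604 j) (Bool.rec (motive := fun _ => ℕ) (selTN2605 j) rl4314 (Nat.ble 4314 j)) (Nat.ble 4312 j))

/-- a part of the choice of the part of the table -/
noncomputable def selTN2607 (j : ℕ) : ℕ := (Bool.rec (motive := fun _ => ℕ) rl4315 rl4316 (Nat.ble 4316 j))

/-- a part of the choice of the part of the table -/
noncomputable def selTN2608 (j : ℕ) : ℕ := (Bool.rec (motive := fun _ => ℕ) rl4317 rl4318 (Nat.ble 4318 j))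

/-- a part of the choice of the part of the table -/
noncomputable def selTN2609 (j : ℕ) : ℕ := (Bool.rec (motive := fun _ => ℕ) (selTN2607 j) (Bool.rec (motive := fun _ => ℕ) (selTN2608 j) rl4319 (Nat.ble 4319 j)) (Nat.ble 4317 j))

/-- a part of the choice of the part of the table -/
noncomputable def selTN2610 (j : ℕ) : ℕ := (Bool.rec (motive := fun _ => ℕ) rl4320 rl4321 (Nat.ble 4321 j))

/-- a part of the choice of the part of the table -/
noncomputable def selTN2611 (j : ℕ) : ℕ := (Bool.rec (motive := fun _ => ℕ) rl4322 rl4323 (Nat.ble 4323 j))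

/-- a part of the choice of the part of the table -/
noncomputable def selTN2612 (j : ℕ) : ℕ := (Bool.rec (motive := fun _ => ℕ) (selTN2610 j) (Bool.rec (motive := fun _ => ℕ) (selTN2611 j) rl4324 (Nat.ble 4324 j)) (Nat.ble 4322 j))

/-- a part of the choice of the part of the table -/
noncomputable def selTN2613 (j : ℕ) : ℕ := (Bool.rec (motive := fun _ => ℕ) (Bool.rec (motive := fun _ => ℕ) rl4325 rl4326 (Nat.ble 4326 j)) (Bool.rec (motive := fun _ => ℕ) rl4327 rl4328 (Nat.ble 4328 j)) (Nat.ble 4327 j))

/-- a part of the choice of the part of the table -/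
noncomputable def selTN2614 (j : ℕ) : ℕ := (Bool.rec (motive := fun _ => ℕ) (Bool.rec (motive := fun _ => ℕ) (selTN2606 j) (selTN2609 j) (Nat.ble 4315 j)) (Bool.rec (motive := fun _ => ℕ) (selTN2612 j) (selTN2613 j) (Nat.ble 4325 j)) (Nat.ble 4320 j))

/-- a part of the choice of the part of the table -/
noncomputable def selTN2615 (j : ℕ) : ℕ := (Bool.rec (motive := fun _ => ℕ) rl4329 rl4330 (Nat.ble 4330 j))

/-- a part of the choice of the part of the table -/
noncomputable def selTN2616 (j : ℕ) : ℕ := (Bool.rec (motive := fun _ => ℕ) rl4331 rl4332 (Nat.ble 4332 j))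

/-- a part of the choice of the part of the table -/
noncomputable def selTN2617 (j : ℕ) : ℕ := (Bool.rec (motive := fun _ => ℕ) (selTN2615 j) (Bool.rec (motive := fun _ => ℕ) (selTN2616 j) rl4333 (Nat.ble 4333 j)) (Nat.ble 4331 j))

/-- a part of the choice of the part of the table -/
noncomputable def selTN2618 (j : ℕ) : ℕ := (Bool.rec (motive := fun _ => ℕ) rl4334 rl4335 (Nat.ble 4335 j))

/-- a part of the choice of the part of the table -/
noncomputable def selTN2619 (j : ℕ) : ℕ := (Bool.rec (motive := fun _ => ℕ) rl4336 rl4337 (Nat.ble 4337 j))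

/-- a part of the choice of the part of the table -/
noncomputable def selTN2620 (j : ℕ) : ℕ := (Bool.rec (motive := fun _ => ℕ) (selTN2618 j) (Bool.rec (motive := fun _ => ℕ) (selTN2619 j) rl4338 (Nat.ble 4338 j)) (Nat.ble 4336 j))

/-- a part of the choice of the part of the table -/
noncomputable def selTN2621 (j : ℕ) : ℕ := (Bool.rec (motive := fun _ => ℕ) rl4339 rl4340 (Nat.ble 4340 j))

/-- a part of the choice of the part of the table -/
noncomputable def selTN2622 (j : ℕ) : ℕ := (Bool.rec (motive := fun _ => ℕ) rl4341 rl4342 (Nat.ble 4342 j))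

/-- a part of the choice of the part of the table -/
noncomputable def selTN2623 (j : ℕ) : ℕ := (Bool.rec (motive := fun _ => ℕ) (selTN2621 j) (Bool.rec (motive := fun _ => ℕ) (selTN2622 j) rl4343 (Nat.ble 4343 j)) (Nat.ble 4341 j))

/-- a part of the choice of the part of the table -/
noncomputable def selTN2624 (j : ℕ) : ℕ := (Bool.rec (motive := fun _ => ℕ) rl4344 (Bool.rec (motive := fun _ => ℕ) rl4345 rl4346 (Nat.ble 4346 j)) (Nat.ble 4345 j))

/-- a part of the choice of the part of the table -/
noncomputable def selTN2625 (j : ℕ) : ℕ := (Bool.rec (motive := fun _ => ℕ) (Bool.rec (motive := fun _ => ℕ) (selTN2617 j) (selTN2620 j) (Nat.ble 4334 j)) (Bool.rec (motive := fun _ => ℕ) (selTN2623 j) (selTN2624 j) (Nat.ble 4344 j)) (Nat.ble 4339 j))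

/-- a part of the choice of the part of the table -/
noncomputable def selTN2626 (j : ℕ) : ℕ := (Bool.rec (motive := fun _ => ℕ) (Bool.rec (motive := fun _ => ℕ) (selTN2592 j) (selTN2603 j) (Nat.ble 4291 j)) (Bool.rec (motive := fun _ => ℕ) (selTN2614 j) (selTN2625 j) (Nat.ble 4329 j)) (Nat.ble 4310 j))

/-- a part of the choice of the part of the table -/
noncomputable def selTN2627 (j : ℕ) : ℕ := (Bool.rec (motive := fun _ => ℕ) rl4347 rl4348 (Nat.ble 4348 j))

/-- a part of the choice of the part of the table -/
noncomputable def selTN2628 (j : ℕ) : ℕ := (Bool.rec (motive := fun _ => ℕ) rl4349 rl4350 (Nat.ble 4350 j))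

/-- a part of the choice of the part of the table -/
noncomputable def selTN2629 (j : ℕ) : ℕ := (Bool.rec (motive := fun _ => ℕ) (selTN2627 j) (Bool.rec (motive := fun _ => ℕ) (selTN2628 j) rl4351 (Nat.ble 4351 j)) (Nat.ble 4349 j))

/-- a part of the choice of the part of the table -/
noncomputable def selTN2630 (j : ℕ) : ℕ := (Bool.rec (motive := fun _ => ℕ) rl4352 rl4353 (Nat.ble 4353 j))

/-- a part of the choice of the part of the table -/
noncomputable def selTN2631 (j : ℕ) : ℕ := (Bool.rec (motive := fun _ => ℕ) rl4354 rl4355 (Nat.ble 4355 j))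

/-- a part of the choice of the part of the table -/
noncomputable def selTN2632 (j : ℕ) : ℕ := (Bool.rec (motive := fun _ => ℕ) (selTN2630 j) (Bool.rec (motive := fun _ => ℕ) (selTN2631 j) rl4356 (Nat.ble 4356 j)) (Nat.ble 4354 j))

/-- a part of the choice of the part of the table -/
noncomputable def selTN2633 (j : ℕ) : ℕ := (Bool.rec (motive := fun _ => ℕ) rl4357 rl4358 (Nat.ble 4358 j))

/-- a part of the choice of the part of the table -/
noncomputable def selTN2634 (j : ℕ) : ℕ := (Bool.rec (motive := fun _ => ℕ) rl4359 rl4360 (Nat.ble 4360 j))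

/-- a part of the choice of the part of the table -/
noncomputable def selTN2635 (j : ℕ) : ℕ := (Bool.rec (motive := fun _ => ℕ) (selTN2633 j) (Bool.rec (motive := fun _ => ℕ) (selTN2634 j) rl4361 (Nat.ble 4361 j)) (Nat.ble 4359 j))

/-- a part of the choice of the part of the table -/
noncomputable def selTN2636 (j : ℕ) : ℕ := (Bool.rec (motive := fun _ => ℕ) (Bool.rec (motive := fun _ => ℕ) rl4362 rl4363 (Nat.ble 4363 j)) (Bool.rec (motive := fun _ => ℕ) rl4364 rl4365 (Nat.ble 4365 j)) (Nat.ble 4364 j))

/-- a part of the choice of the part of the table -/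
noncomputable def selTN2637 (j : ℕ) : ℕ := (Bool.rec (motive := fun _ => ℕ) (Bool.rec (motive := fun _ => ℕ) (selTN2629 j) (selTN2632 j) (Nat.ble 4352 j)) (Bool.rec (motive := fun _ => ℕ) (selTN2635 j) (selTN2636 j) (Nat.ble 4362 j)) (Nat.ble 4357 j))

/-- a part of the choice of the part of the table -/
noncomputable def selTN2638 (j : ℕ) : ℕ := (Bool.rec (motive := fun _ => ℕ) rl4366 rl4367 (Nat.ble 4367 j))

/-- a part of the choice of the part of the table -/
noncomputable def selTN2639 (j : ℕ) : ℕ := (Bool.rec (motive := fun _ => ℕ) rl4368 rl4369 (Nat.ble 4369 j))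

/-- a part of the choice of the part of the table -/
noncomputable def selTN2640 (j : ℕ) : ℕ := (Bool.rec (motive := fun _ => ℕ) (selTN2638 j) (Bool.rec (motive := fun _ => ℕ) (selTN2639 j) rl4370 (Nat.ble 4370 j)) (Nat.ble 4368 j))

/-- a part of the choice of the part of the table -/
noncomputable def selTN2641 (j : ℕ) : ℕ := (Bool.rec (motive := fun _ => ℕ) rl4371 rl4372 (Nat.ble 4372 j))

/-- a part of the choice of the part of the table -/
noncomputable def selTN2642 (j : ℕ) : ℕ := (Bool.rec (motive := fun _ => ℕ) rl4373 rl4374 (Nat.ble 4374 j))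

/-- a part of the choice of the part of the table -/
noncomputable def selTN2643 (j : ℕ) : ℕ := (Bool.rec (motive := fun _ => ℕ) (selTN2641 j) (Bool.rec (motive := fun _ => ℕ) (selTN2642 j) rl4375 (Nat.ble 4375 j)) (Nat.ble 4373 j))

/-- a part of the choice of the part of the table -/
noncomputable def selTN2644 (j : ℕ) : ℕ := (Bool.rec (motive := fun _ => ℕ) rl4376 rl4377 (Nat.ble 4377 j))

/-- a part of the choice of the part of the table -/
noncomputable def selTN2645 (j : ℕ) : ℕ := (Bool.rec (motive := fun _ => ℕ) rl4378 rl4379 (Nat.ble 4379 j))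

/-- a part of the choice of the part of the table -/
noncomputable def selTN2646 (j : ℕ) : ℕ := (Bool.rec (motive := fun _ => ℕ) (selTN2644 j) (Bool.rec (motive := fun _ => ℕ) (selTN2645 j) rl4380 (Nat.ble 4380 j)) (Nat.ble 4378 j))

/-- a part of the choice of the part of the table -/
noncomputable def selTN2647 (j : ℕ) : ℕ := (Bool.rec (motive := fun _ => ℕ) (Bool.rec (motive := fun _ => ℕ) rl4381 rl4382 (Nat.ble 4382 j)) (Bool.rec (motive := fun _ => ℕ) rl4383 rl4384 (Nat.ble 4384 j)) (Nat.ble 4383 j))

/-- a part of the choice of the part of the table -/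
noncomputable def selTN2648 (j : ℕ) : ℕ := (Bool.rec (motive := fun _ => ℕ) (Bool.rec (motive := fun _ => ℕ) (selTN2640 j) (selTN2643 j) (Nat.ble 4371 j)) (Bool.rec (motive := fun _ => ℕ) (selTN2646 j) (selTN2647 j) (Nat.ble 4381 j)) (Nat.ble 4376 j))

/-- a part of the choice of the part of the table -/
noncomputable def selTN2649 (j : ℕ) : ℕ := (Bool.rec (motive := fun _ => ℕ) rl4385 rl4386 (Nat.ble 4386 j))

/-- a part of the choice of the part of the table -/
noncomputable def selTN2650 (j : ℕ) : ℕ := (Bool.rec (motive := fun _ => ℕ) rl4387 rl4388 (Nat.ble 4388 j))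

/-- a part of the choice of the part of the table -/
noncomputable def selTN2651 (j : ℕ) : ℕ := (Bool.rec (motive := fun _ => ℕ) (selTN2649 j) (Bool.rec (motive := fun _ => ℕ) (selTN2650 j) rl4389 (Nat.ble 4389 j)) (Nat.ble 4387 j))

/-- a part of the choice of the part of the table -/
noncomputable def selTN2652 (j : ℕ) : ℕ := (Bool.rec (motive := fun _ => ℕ) rl4390 rl4391 (Nat.ble 4391 j))

/-- a part of the choice of the part of the table -/
noncomputable def selTN2653 (j : ℕ) : ℕ := (Bool.rec (motive := fun _ => ℕ) rl4392 rl4393 (Nat.ble 4393 j))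

/-- a part of the choice of the part of the table -/
noncomputable def selTN2654 (j : ℕ) : ℕ := (Bool.rec (motive := fun _ => ℕ) (selTN2652 j) (Bool.rec (motive := fun _ => ℕ) (selTN2653 j) rl4394 (Nat.ble 4394 j)) (Nat.ble 4392 j))

/-- a part of the choice of the part of the table -/
noncomputable def selTN2655 (j : ℕ) : ℕ := (Bool.rec (motive := fun _ => ℕ) rl4395 rl4396 (Nat.ble 4396 j))

/-- a part of the choice of the part of the table -/
noncomputable def selTN2656 (j : ℕ) : ℕ := (Bool.rec (motive := fun _ => ℕ) rl4397 rl4398 (Nat.ble 4398 j))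

/-- a part of the choice of the part of the table -/
noncomputable def selTN2657 (j : ℕ) : ℕ := (Bool.rec (motive := fun _ => ℕ) (selTN2655 j) (Bool.rec (motive := fun _ => ℕ) (selTN2656 j) rl4399 (Nat.ble 4399 j)) (Nat.ble 4397 j))

/-- a part of the choice of the part of the table -/
noncomputable def selTN2658 (j : ℕ) : ℕ := (Bool.rec (motive := fun _ => ℕ) (Bool.rec (motive := fun _ => ℕ) rl4400 rl4401 (Nat.ble 4401 j)) (Bool.rec (motive := fun _ => ℕ) rl4402 rl4403 (Nat.ble 4403 j)) (Nat.ble 4402 j))

/-- a part of the choice of the part of the table -/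
noncomputable def selTN2659 (j : ℕ) : ℕ := (Bool.rec (motive := fun _ => ℕ) (Bool.rec (motive := fun _ => ℕ) (selTN2651 j) (selTN2654 j) (Nat.ble 4390 j)) (Bool.rec (motive := fun _ => ℕ) (selTN2657 j) (selTN2658 j) (Nat.ble 4400 j)) (Nat.ble 4395 j))

/-- a part of the choice of the part of the table -/
noncomputable def selTN2660 (j : ℕ) : ℕ := (Bool.rec (motive := fun _ => ℕ) rl4404 rl4405 (Nat.ble 4405 j))

/-- a part of the choice of the part of the table -/
noncomputable def selTN2661 (j : ℕ) : ℕ := (Bool.rec (motive := fun _ => ℕ) rl4406 rl4407 (Nat.ble 4407 j))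

/-- a part of the choice of the part of the table -/
noncomputable def selTN2662 (j : ℕ) : ℕ := (Bool.rec (motive := fun _ => ℕ) (selTN2660 j) (Bool.rec (motive := fun _ => ℕ) (selTN2661 j) rl4408 (Nat.ble 4408 j)) (Nat.ble 4406 j))

/-- a part of the choice of the part of the table -/
noncomputable def selTN2663 (j : ℕ) : ℕ := (Bool.rec (motive := fun _ => ℕ) rl4409 rl4410 (Nat.ble 4410 j))

/-- a part of the choice of the part of the table -/
noncomputable def selTN2664 (j : ℕ) : ℕ := (Bool.rec (motive := fun _ => ℕ) rl4411 rl4412 (Nat.ble 4412 j))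

/-- a part of the choice of the part of the table -/
noncomputable def selTN2665 (j : ℕ) : ℕ := (Bool.rec (motive := fun _ => ℕ) (selTN2663 j) (Bool.rec (motive := fun _ => ℕ) (selTN2664 j) rl4413 (Nat.ble 4413 j)) (Nat.ble 4411 j))

/-- a part of the choice of the part of the table -/
noncomputable def selTN2666 (j : ℕ) : ℕ := (Bool.rec (motive := fun _ => ℕ) rl4414 rl4415 (Nat.ble 4415 j))

/-- a part of the choice of the part of the table -/
noncomputable def selTN2667 (j : ℕ) : ℕ := (Bool.rec (motive := fun _ => ℕ) rl4416 rl4417 (Nat.ble 4417 j))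

/-- a part of the choice of the part of the table -/
noncomputable def selTN2668 (j : ℕ) : ℕ := (Bool.rec (motive := fun _ => ℕ) (selTN2666 j) (Bool.rec (motive := fun _ => ℕ) (selTN2667 j) rl4418 (Nat.ble 4418 j)) (Nat.ble 4416 j))

/-- a part of the choice of the part of the table -/
noncomputable def selTN2669 (j : ℕ) : ℕ := (Bool.rec (motive := fun _ => ℕ) rl4419 (Bool.rec (motive := fun _ => ℕ) rl4420 rl4421 (Nat.ble 4421 j)) (Nat.ble 4420 j))

/-- a part of the choice of the part of the table -/
noncomputable def selTN2670 (j : ℕ) : ℕ := (Bool.rec (motive := fun _ => ℕ) (Bool.rec (motive := fun _ => ℕ) (selTN2662 j) (selTN2665 j) (Nat.ble 4409 j)) (Bool.rec (motive := fun _ => ℕ) (selTN2668 j) (selTN2669 j) (Nat.ble 4419 j)) (Nat.ble 4414 j))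

/-- a part of the choice of the part of the table -/
noncomputable def selTN2671 (j : ℕ) : ℕ := (Bool.rec (motive := fun _ => ℕ) (Bool.rec (motive := fun _ => ℕ) (selTN2637 j) (selTN2648 j) (Nat.ble 4366 j)) (Bool.rec (motive := fun _ => ℕ) (selTN2659 j) (selTN2670 j) (Nat.ble 4404 j)) (Nat.ble 4385 j))

/-- a part of the choice of the part of the table -/
noncomputable def selTN2672 (j : ℕ) : ℕ := (Bool.rec (motive := fun _ => ℕ) rl4422 rl4423 (Nat.ble 4423 j))

/-- a part of the choice of the part of the table -/
noncomputable def selTN2673 (j : ℕ) : ℕ := (Bool.rec (motive := fun _ => ℕ) rl4424 rl4425 (Nat.ble 4425 j))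

/-- a part of the choice of the part of the table -/
noncomputable def selTN2674 (j : ℕ) : ℕ := (Bool.rec (motive := fun _ => ℕ) (selTN2672 j) (Bool.rec (motive := fun _ => ℕ) (selTN2673 j) rl4426 (Nat.ble 4426 j)) (Nat.ble 4424 j))

/-- a part of the choice of the part of the table -/
noncomputable def selTN2675 (j : ℕ) : ℕ := (Bool.rec (motive := fun _ => ℕ) rl4427 rl4428 (Nat.ble 4428 j))

/-- a part of the choice of the part of the table -/
noncomputable def selTN2676 (j : ℕ) : ℕ := (Bool.rec (motive := fun _ => ℕ) rl4429 rl4430 (Nat.ble 4430 j))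

/-- a part of the choice of the part of the table -/
noncomputable def selTN2677 (j : ℕ) : ℕ := (Bool.rec (motive := fun _ => ℕ) (selTN2675 j) (Bool.rec (motive := fun _ => ℕ) (selTN2676 j) rl4431 (Nat.ble 4431 j)) (Nat.ble 4429 j))

/-- a part of the choice of the part of the table -/
noncomputable def selTN2678 (j : ℕ) : ℕ := (Bool.rec (motive := fun _ => ℕ) rl4432 rl4433 (Nat.ble 4433 j))

/-- a part of the choice of the part of the table -/
noncomputable def selTN2679 (j : ℕ) : ℕ := (Bool.rec (motive := fun _ => ℕ) rl4434 rl4435 (Nat.ble 4435 j))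

/-- a part of the choice of the part of the table -/
noncomputable def selTN2680 (j : ℕ) : ℕ := (Bool.rec (motive := fun _ => ℕ) (selTN2678 j) (Bool.rec (motive := fun _ => ℕ) (selTN2679 j) rl4436 (Nat.ble 4436 j)) (Nat.ble 4434 j))

/-- a part of the choice of the part of the table -/
noncomputable def selTN2681 (j : ℕ) : ℕ := (Bool.rec (motive := fun _ => ℕ) (Bool.rec (motive := fun _ => ℕ) rl4437 rl4438 (Nat.ble 4438 j)) (Bool.rec (motive := fun _ => ℕ) rl4439 rl4440 (Nat.ble 4440 j)) (Nat.ble 4439 j))

/-- a part of the choice of the part of the table -/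
noncomputable def selTN2682 (j : ℕ) : ℕ := (Bool.rec (motive := fun _ => ℕ) (Bool.rec (motive := fun _ => ℕ) (selTN2674 j) (selTN2677 j) (Nat.ble 4427 j)) (Bool.rec (motive := fun _ => ℕ) (selTN2680 j) (selTN2681 j) (Nat.ble 4437 j)) (Nat.ble 4432 j))

/-- a part of the choice of the part of the table -/
noncomputable def selTN2683 (j : ℕ) : ℕ := (Bool.rec (motive := fun _ => ℕ) rl4441 rl4442 (Nat.ble 4442 j))

/-- a part of the choice of the part of the table -/
noncomputable def selTN2684 (j : ℕ) : ℕ := (Bool.rec (motive := fun _ => ℕ) rl4443 rl4444 (Nat.ble 4444 j))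

/-- a part of the choice of the part of the table -/
noncomputable def selTN2685 (j : ℕ) : ℕ := (Bool.rec (motive := fun _ => ℕ) (selTN2683 j) (Bool.rec (motive := fun _ => ℕ) (selTN2684 j) rl4445 (Nat.ble 4445 j)) (Nat.ble 4443 j))

/-- a part of the choice of the part of the table -/
noncomputable def selTN2686 (j : ℕ) : ℕ := (Bool.rec (motive := fun _ => ℕ) rl4446 rl4447 (Nat.ble 4447 j))

/-- a part of the choice of the part of the table -/
noncomputable def selTN2687 (j : ℕ) : ℕ := (Bool.rec (motive := fun _ => ℕ) rl4448 rl4449 (Nat.ble 4449 j))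

/-- a part of the choice of the part of the table -/
noncomputable def selTN2688 (j : ℕ) : ℕ := (Bool.rec (motive := fun _ => ℕ) (selTN2686 j) (Bool.rec (motive := fun _ => ℕ) (selTN2687 j) rl4450 (Nat.ble 4450 j)) (Nat.ble 4448 j))

/-- a part of the choice of the part of the table -/
noncomputable def selTN2689 (j : ℕ) : ℕ := (Bool.rec (motive := fun _ => ℕ) rl4451 rl4452 (Nat.ble 4452 j))

/-- a part of the choice of the part of the table -/
noncomputable def selTN2690 (j : ℕ) : ℕ := (Bool.rec (motive := fun _ => ℕ) rl4453 rl4454 (Nat.ble 4454 j))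

/-- a part of the choice of the part of the table -/
noncomputable def selTN2691 (j : ℕ) : ℕ := (Bool.rec (motive := fun _ => ℕ) (selTN2689 j) (Bool.rec (motive := fun _ => ℕ) (selTN2690 j) rl4455 (Nat.ble 4455 j)) (Nat.ble 4453 j))

/-- a part of the choice of the part of the table -/
noncomputable def selTN2692 (j : ℕ) : ℕ := (Bool.rec (motive := fun _ => ℕ) (Bool.rec (motive := fun _ => ℕ) rl4456 rl4457 (Nat.ble 4457 j)) (Bool.rec (motive := fun _ => ℕ) rl4458 rl4459 (Nat.ble 4459 j)) (Nat.ble 4458 j))

/-- a part of the choice of the part of the table -/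
noncomputable def selTN2693 (j : ℕ) : ℕ := (Bool.rec (motive := fun _ => ℕ) (Bool.rec (motive := fun _ => ℕ) (selTN2685 j) (selTN2688 j) (Nat.ble 4446 j)) (Bool.rec (motive := fun _ => ℕ) (selTN2691 j) (selTN2692 j) (Nat.ble 4456 j)) (Nat.ble 4451 j))

/-- a part of the choice of the part of the table -/
noncomputable def selTN2694 (j : ℕ) : ℕ := (Bool.rec (motive := fun _ => ℕ) rl4460 rl4461 (Nat.ble 4461 j))

/-- a part of the choice of the part of the table -/
noncomputable def selTN2695 (j : ℕ) : ℕ := (Bool.rec (motive := fun _ => ℕ) rl4462 rl4463 (Nat.ble 4463 j))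

/-- a part of the choice of the part of the table -/
noncomputable def selTN2696 (j : ℕ) : ℕ := (Bool.rec (motive := fun _ => ℕ) (selTN2694 j) (Bool.rec (motive := fun _ => ℕ) (selTN2695 j) rl4464 (Nat.ble 4464 j)) (Nat.ble 4462 j))

/-- a part of the choice of the part of the table -/
noncomputable def selTN2697 (j : ℕ) : ℕ := (Bool.rec (motive := fun _ => ℕ) rl4465 rl4466 (Nat.ble 4466 j))

/-- a part of the choice of the part of the table -/
noncomputable def selTN2698 (j : ℕ) : ℕ := (Bool.rec (motive := fun _ => ℕ) rl4467 rl4468 (Nat.ble 4468 j))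

/-- a part of the choice of the part of the table -/
noncomputable def selTN2699 (j : ℕ) : ℕ := (Bool.rec (motive := fun _ => ℕ) (selTN2697 j) (Bool.rec (motive := fun _ => ℕ) (selTN2698 j) rl4469 (Nat.ble 4469 j)) (Nat.ble 4467 j))

/-- a part of the choice of the part of the table -/
noncomputable def selTN2700 (j : ℕ) : ℕ := (Bool.rec (motive := fun _ => ℕ) rl4470 rl4471 (Nat.ble 4471 j))

/-- a part of the choice of the part of the table -/
noncomputable def selTN2701 (j : ℕ) : ℕ := (Bool.rec (motive := fun _ => ℕ) rl4472 rl4473 (Nat.ble 4473 j))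

/-- a part of the choice of the part of the table -/
noncomputable def selTN2702 (j : ℕ) : ℕ := (Bool.rec (motive := fun _ => ℕ) (selTN2700 j) (Bool.rec (motive := fun _ => ℕ) (selTN2701 j) rl4474 (Nat.ble 4474 j)) (Nat.ble 4472 j))

/-- a part of the choice of the part of the table -/
noncomputable def selTN2703 (j : ℕ) : ℕ := (Bool.rec (motive := fun _ => ℕ) (Bool.rec (motive := fun _ => ℕ) rl4475 rl4476 (Nat.ble 4476 j)) (Bool.rec (motive := fun _ => ℕ) rl4477 rl4478 (Nat.ble 4478 j)) (Nat.ble 4477 j))

/-- a part of the choice of the part of the table -/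
noncomputable def selTN2704 (j : ℕ) : ℕ := (Bool.rec (motive := fun _ => ℕ) (Bool.rec (motive := fun _ => ℕ) (selTN2696 j) (selTN2699 j) (Nat.ble 4465 j)) (Bool.rec (motive := fun _ => ℕ) (selTN2702 j) (selTN2703 j) (Nat.ble 4475 j)) (Nat.ble 4470 j))

/-- a part of the choice of the part of the table -/
noncomputable def selTN2705 (j : ℕ) : ℕ := (Bool.rec (motive := fun _ => ℕ) rl4479 rl4480 (Nat.ble 4480 j))

/-- a part of the choice of the part of the table -/
noncomputable def selTN2706 (j : ℕ) : ℕ := (Bool.rec (motive := fun _ => ℕ) rl4481 rl4482 (Nat.ble 4482 j))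

/-- a part of the choice of the part of the table -/
noncomputable def selTN2707 (j : ℕ) : ℕ := (Bool.rec (motive := fun _ => ℕ) (selTN2705 j) (Bool.rec (motive := fun _ => ℕ) (selTN2706 j) rl4483 (Nat.ble 4483 j)) (Nat.ble 4481 j))

/-- a part of the choice of the part of the table -/
noncomputable def selTN2708 (j : ℕ) : ℕ := (Bool.rec (motive := fun _ => ℕ) rl4484 rl4485 (Nat.ble 4485 j))

/-- a part of the choice of the part of the table -/
noncomputable def selTN2709 (j : ℕ) : ℕ := (Bool.rec (motive := fun _ => ℕ) rl4486 rl4487 (Nat.ble 4487 j))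

/-- a part of the choice of the part of the table -/
noncomputable def selTN2710 (j : ℕ) : ℕ := (Bool.rec (motive := fun _ => ℕ) (selTN2708 j) (Bool.rec (motive := fun _ => ℕ) (selTN2709 j) rl4488 (Nat.ble 4488 j)) (Nat.ble 4486 j))

/-- a part of the choice of the part of the table -/
noncomputable def selTN2711 (j : ℕ) : ℕ := (Bool.rec (motive := fun _ => ℕ) rl4489 rl4490 (Nat.ble 4490 j))

/-- a part of the choice of the part of the table -/
noncomputable def selTN2712 (j : ℕ) : ℕ := (Bool.rec (motive := fun _ => ℕ) rl4491 rl4492 (Nat.ble 4492 j))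

/-- a part of the choice of the part of the table -/
noncomputable def selTN2713 (j : ℕ) : ℕ := (Bool.rec (motive := fun _ => ℕ) (selTN2711 j) (Bool.rec (motive := fun _ => ℕ) (selTN2712 j) rl4493 (Nat.ble 4493 j)) (Nat.ble 4491 j))

/-- a part of the choice of the part of the table -/
noncomputable def selTN2714 (j : ℕ) : ℕ := (Bool.rec (motive := fun _ => ℕ) rl4494 (Bool.rec (motive := fun _ => ℕ) rl4495 rl4496 (Nat.ble 4496 j)) (Nat.ble 4495 j))

/-- a part of the choice of the part of the table -/
noncomputable def selTN2715 (j : ℕ) : ℕ := (Bool.rec (motive := fun _ => ℕ) (Bool.rec (motive := fun _ => ℕ) (selTN2707 j) (selTN2710 j) (Nat.ble 4484 j)) (Bool.rec (motive := fun _ => ℕ) (selTN2713 j) (selTN2714 j) (Nat.ble 4494 j)) (Nat.ble 4489 j))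

/-- a part of the choice of the part of the table -/
noncomputable def selTN2716 (j : ℕ) : ℕ := (Bool.rec (motive := fun _ => ℕ) (Bool.rec (motive := fun _ => ℕ) (selTN2682 j) (selTN2693 j) (Nat.ble 4441 j)) (Bool.rec (motive := fun _ => ℕ) (selTN2704 j) (selTN2715 j) (Nat.ble 4479 j)) (Nat.ble 4460 j))

/-- a part of the choice of the part of the table -/
noncomputable def selTN2717 (j : ℕ) : ℕ := (Bool.rec (motive := fun _ => ℕ) (Bool.rec (motive := fun _ => ℕ) (selTN2581 j) (selTN2626 j) (Nat.ble 4272 j)) (Bool.rec (motive := fun _ => ℕ) (selTN2671 j) (selTN2716 j) (Nat.ble 4422 j)) (Nat.ble 4347 j))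

/-- a part of the choice of the part of the table -/
noncomputable def selTN2718 (j : ℕ) : ℕ := (Bool.rec (motive := fun _ => ℕ) rl4497 rl4498 (Nat.ble 4498 j))

/-- a part of the choice of the part of the table -/
noncomputable def selTN2719 (j : ℕ) : ℕ := (Bool.rec (motive := fun _ => ℕ) rl4499 rl4500 (Nat.ble 4500 j))

/-- a part of the choice of the part of the table -/
noncomputable def selTN2720 (j : ℕ) : ℕ := (Bool.rec (motive := fun _ => ℕ) (selTN2718 j) (Bool.rec (motive := fun _ => ℕ) (selTN2719 j) rl4501 (Nat.ble 4501 j)) (Nat.ble 4499 j))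

/-- a part of the choice of the part of the table -/
noncomputable def selTN2721 (j : ℕ) : ℕ := (Bool.rec (motive := fun _ => ℕ) rl4502 rl4503 (Nat.ble 4503 j))

/-- a part of the choice of the part of the table -/
noncomputable def selTN2722 (j : ℕ) : ℕ := (Bool.rec (motive := fun _ => ℕ) rl4504 rl4505 (Nat.ble 4505 j))

/-- a part of the choice of the part of the table -/
noncomputable def selTN2723 (j : ℕ) : ℕ := (Bool.rec (motive := fun _ => ℕ) (selTN2721 j) (Bool.rec (motive := fun _ => ℕ) (selTN2722 j) rl4506 (Nat.ble 4506 j)) (Nat.ble 4504 j))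

/-- a part of the choice of the part of the table -/
noncomputable def selTN2724 (j : ℕ) : ℕ := (Bool.rec (motive := fun _ => ℕ) rl4507 rl4508 (Nat.ble 4508 j))

/-- a part of the choice of the part of the table -/
noncomputable def selTN2725 (j : ℕ) : ℕ := (Bool.rec (motive := fun _ => ℕ) rl4509 rl4510 (Nat.ble 4510 j))

/-- a part of the choice of the part of the table -/
noncomputable def selTN2726 (j : ℕ) : ℕ := (Bool.rec (motive := fun _ => ℕ) (selTN2724 j) (Bool.rec (motive := fun _ => ℕ) (selTN2725 j) rl4511 (Nat.ble 4511 j)) (Nat.ble 4509 j))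

/-- a part of the choice of the part of the table -/
noncomputable def selTN2727 (j : ℕ) : ℕ := (Bool.rec (motive := fun _ => ℕ) (Bool.rec (motive := fun _ => ℕ) rl4512 rl4513 (Nat.ble 4513 j)) (Bool.rec (motive := fun _ => ℕ) rl4514 rl4515 (Nat.ble 4515 j)) (Nat.ble 4514 j))

/-- a part of the choice of the part of the table -/
noncomputable def selTN2728 (j : ℕ) : ℕ := (Bool.rec (motive := fun _ => ℕ) (Bool.rec (motive := fun _ => ℕ) (selTN2720 j) (selTN2723 j) (Nat.ble 4502 j)) (Bool.rec (motive := fun _ => ℕ) (selTN2726 j) (selTN2727 j) (Nat.ble 4512 j)) (Nat.ble 4507 j))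

/-- a part of the choice of the part of the table -/
noncomputable def selTN2729 (j : ℕ) : ℕ := (Bool.rec (motive := fun _ => ℕ) rl4516 rl4517 (Nat.ble 4517 j))

/-- a part of the choice of the part of the table -/
noncomputable def selTN2730 (j : ℕ) : ℕ := (Bool.rec (motive := fun _ => ℕ) rl4518 rl4519 (Nat.ble 4519 j))

/-- a part of the choice of the part of the table -/
noncomputable def selTN2731 (j : ℕ) : ℕ := (Bool.rec (motive := fun _ => ℕ) (selTN2729 j) (Bool.rec (motive := fun _ => ℕ) (selTN2730 j) rl4520 (Nat.ble 4520 j)) (Nat.ble 4518 j))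

/-- a part of the choice of the part of the table -/
noncomputable def selTN2732 (j : ℕ) : ℕ := (Bool.rec (motive := fun _ => ℕ) rl4521 rl4522 (Nat.ble 4522 j))

/-- a part of the choice of the part of the table -/
noncomputable def selTN2733 (j : ℕ) : ℕ := (Bool.rec (motive := fun _ => ℕ) rl4523 rl4524 (Nat.ble 4524 j))

/-- a part of the choice of the part of the table -/
noncomputable def selTN2734 (j : ℕ) : ℕ := (Bool.rec (motive := fun _ => ℕ) (selTN2732 j) (Bool.rec (motive := fun _ => ℕ) (selTN2733 j) rl4525 (Nat.ble 4525 j)) (Nat.ble 4523 j))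

/-- a part of the choice of the part of the table -/
noncomputable def selTN2735 (j : ℕ) : ℕ := (Bool.rec (motive := fun _ => ℕ) rl4526 rl4527 (Nat.ble 4527 j))

/-- a part of the choice of the part of the table -/
noncomputable def selTN2736 (j : ℕ) : ℕ := (Bool.rec (motive := fun _ => ℕ) rl4528 rl4529 (Nat.ble 4529 j))

/-- a part of the choice of the part of the table -/
noncomputable def selTN2737 (j : ℕ) : ℕ := (Bool.rec (motive := fun _ => ℕ) (selTN2735 j) (Bool.rec (motive := fun _ => ℕ) (selTN2736 j) rl4530 (Nat.ble 4530 j)) (Nat.ble 4528 j))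

/-- a part of the choice of the part of the table -/
noncomputable def selTN2738 (j : ℕ) : ℕ := (Bool.rec (motive := fun _ => ℕ) (Bool.rec (motive := fun _ => ℕ) rl4531 rl4532 (Nat.ble 4532 j)) (Bool.rec (motive := fun _ => ℕ) rl4533 rl4534 (Nat.ble 4534 j)) (Nat.ble 4533 j))

/-- a part of the choice of the part of the table -/
noncomputable def selTN2739 (j : ℕ) : ℕ := (Bool.rec (motive := fun _ => ℕ) (Bool.rec (motive := fun _ => ℕ) (selTN2731 j) (selTN2734 j) (Nat.ble 4521 j)) (Bool.rec (motive := fun _ => ℕ) (selTN2737 j) (selTN2738 j) (Nat.ble 4531 j)) (Nat.ble 4526 j))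

/-- a part of the choice of the part of the table -/
noncomputable def selTN2740 (j : ℕ) : ℕ := (Bool.rec (motive := fun _ => ℕ) rl4535 rl4536 (Nat.ble 4536 j))

/-- a part of the choice of the part of the table -/
noncomputable def selTN2741 (j : ℕ) : ℕ := (Bool.rec (motive := fun _ => ℕ) rl4537 rl4538 (Nat.ble 4538 j))

/-- a part of the choice of the part of the table -/
noncomputable def selTN2742 (j : ℕ) : ℕ := (Bool.rec (motive := fun _ => ℕ) (selTN2740 j) (Bool.rec (motive := fun _ => ℕ) (selTN2741 j) rl4539 (Nat.ble 4539 j)) (Nat.ble 4537 j))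

/-- a part of the choice of the part of the table -/
noncomputable def selTN2743 (j : ℕ) : ℕ := (Bool.rec (motive := fun _ => ℕ) rl4540 rl4541 (Nat.ble 4541 j))

/-- a part of the choice of the part of the table -/
noncomputable def selTN2744 (j : ℕ) : ℕ := (Bool.rec (motive := fun _ => ℕ) rl4542 rl4543 (Nat.ble 4543 j))

/-- a part of the choice of the part of the table -/
noncomputable def selTN2745 (j : ℕ) : ℕ := (Bool.rec (motive := fun _ => ℕ) (selTN2743 j) (Bool.rec (motive := fun _ => ℕ) (selTN2744 j) rl4544 (Nat.ble 4544 j)) (Nat.ble 4542 j))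

/-- a part of the choice of the part of the table -/
noncomputable def selTN2746 (j : ℕ) : ℕ := (Bool.rec (motive := fun _ => ℕ) rl4545 rl4546 (Nat.ble 4546 j))

/-- a part of the choice of the part of the table -/
noncomputable def selTN2747 (j : ℕ) : ℕ := (Bool.rec (motive := fun _ => ℕ) rl4547 rl4548 (Nat.ble 4548 j))

/-- a part of the choice of the part of the table -/
noncomputable def selTN2748 (j : ℕ) : ℕ := (Bool.rec (motive := fun _ => ℕ) (selTN2746 j) (Bool.rec (motive := fun _ => ℕ) (selTN2747 j) rl4549 (Nat.ble 4549 j)) (Nat.ble 4547 j))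

/-- a part of the choice of the part of the table -/
noncomputable def selTN2749 (j : ℕ) : ℕ := (Bool.rec (motive := fun _ => ℕ) (Bool.rec (motive := fun _ => ℕ) rl4550 rl4551 (Nat.ble 4551 j)) (Bool.rec (motive := fun _ => ℕ) rl4552 rl4553 (Nat.ble 4553 j)) (Nat.ble 4552 j))

/-- a part of the choice of the part of the table -/
noncomputable def selTN2750 (j : ℕ) : ℕ := (Bool.rec (motive := fun _ => ℕ) (Bool.rec (motive := fun _ => ℕ) (selTN2742 j) (selTN2745 j) (Nat.ble 4540 j)) (Bool.rec (motive := fun _ => ℕ) (selTN2748 j) (selTN2749 j) (Nat.ble 4550 j)) (Nat.ble 4545 j))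

/-- a part of the choice of the part of the table -/
noncomputable def selTN2751 (j : ℕ) : ℕ := (Bool.rec (motive := fun _ => ℕ) rl4554 rl4555 (Nat.ble 4555 j))

/-- a part of the choice of the part of the table -/
noncomputable def selTN2752 (j : ℕ) : ℕ := (Bool.rec (motive := fun _ => ℕ) rl4556 rl4557 (Nat.ble 4557 j))

/-- a part of the choice of the part of the table -/
noncomputable def selTN2753 (j : ℕ) : ℕ := (Bool.rec (motive := fun _ => ℕ) (selTN2751 j) (Bool.rec (motive := fun _ => ℕ) (selTN2752 j) rl4558 (Nat.ble 4558 j)) (Nat.ble 4556 j))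

/-- a part of the choice of the part of the table -/
noncomputable def selTN2754 (j : ℕ) : ℕ := (Bool.rec (motive := fun _ => ℕ) rl4559 rl4560 (Nat.ble 4560 j))

/-- a part of the choice of the part of the table -/
noncomputable def selTN2755 (j : ℕ) : ℕ := (Bool.rec (motive := fun _ => ℕ) rl4561 rl4562 (Nat.ble 4562 j))

/-- a part of the choice of the part of the table -/
noncomputable def selTN2756 (j : ℕ) : ℕ := (Bool.rec (motive := fun _ => ℕ) (selTN2754 j) (Bool.rec (motive := fun _ => ℕ) (selTN2755 j) rl4563 (Nat.ble 4563 j)) (Nat.ble 4561 j))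

/-- a part of the choice of the part of the table -/
noncomputable def selTN2757 (j : ℕ) : ℕ := (Bool.rec (motive := fun _ => ℕ) rl4564 rl4565 (Nat.ble 4565 j))

/-- a part of the choice of the part of the table -/
noncomputable def selTN2758 (j : ℕ) : ℕ := (Bool.rec (motive := fun _ => ℕ) rl4566 rl4567 (Nat.ble 4567 j))

/-- a part of the choice of the part of the table -/
noncomputable def selTN2759 (j : ℕ) : ℕ := (Bool.rec (motive := fun _ => ℕ) (selTN2757 j) (Bool.rec (motive := fun _ => ℕ) (selTN2758 j) rl4568 (Nat.ble 4568 j)) (Nat.ble 4566 j))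

/-- a part of the choice of the part of the table -/
noncomputable def selTN2760 (j : ℕ) : ℕ := (Bool.rec (motive := fun _ => ℕ) rl4569 (Bool.rec (motive := fun _ => ℕ) rl4570 rl4571 (Nat.ble 4571 j)) (Nat.ble 4570 j))

/-- a part of the choice of the part of the table -/
noncomputable def selTN2761 (j : ℕ) : ℕ := (Bool.rec (motive := fun _ => ℕ) (Bool.rec (motive := fun _ => ℕ) (selTN2753 j) (selTN2756 j) (Nat.ble 4559 j)) (Bool.rec (motive := fun _ => ℕ) (selTN2759 j) (selTN2760 j) (Nat.ble 4569 j)) (Nat.ble 4564 j))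

/-- a part of the choice of the part of the table -/
noncomputable def selTN2762 (j : ℕ) : ℕ := (Bool.rec (motive := fun _ => ℕ) (Bool.rec (motive := fun _ => ℕ) (selTN2728 j) (selTN2739 j) (Nat.ble 4516 j)) (Bool.rec (motive := fun _ => ℕ) (selTN2750 j) (selTN2761 j) (Nat.ble 4554 j)) (Nat.ble 4535 j))

/-- a part of the choice of the part of the table -/
noncomputable def selTN2763 (j : ℕ) : ℕ := (Bool.rec (motive := fun _ => ℕ) rl4572 rl4573 (Nat.ble 4573 j))

/-- a part of the choice of the part of the table -/
noncomputable def selTN2764 (j : ℕ) : ℕ := (Bool.rec (motive := fun _ => ℕ) rl4574 rl4575 (Nat.ble 4575 j))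

/-- a part of the choice of the part of the table -/
noncomputable def selTN2765 (j : ℕ) : ℕ := (Bool.rec (motive := fun _ => ℕ) (selTN2763 j) (Bool.rec (motive := fun _ => ℕ) (selTN2764 j) rl4576 (Nat.ble 4576 j)) (Nat.ble 4574 j))

/-- a part of the choice of the part of the table -/
noncomputable def selTN2766 (j : ℕ) : ℕ := (Bool.rec (motive := fun _ => ℕ) rl4577 rl4578 (Nat.ble 4578 j))

/-- a part of the choice of the part of the table -/
noncomputable def selTN2767 (j : ℕ) : ℕ := (Bool.rec (motive := fun _ => ℕ) rl4579 rl4580 (Nat.ble 4580 j))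

/-- a part of the choice of the part of the table -/
noncomputable def selTN2768 (j : ℕ) : ℕ := (Bool.rec (motive := fun _ => ℕ) (selTN2766 j) (Bool.rec (motive := fun _ => ℕ) (selTN2767 j) rl4581 (Nat.ble 4581 j)) (Nat.ble 4579 j))

/-- a part of the choice of the part of the table -/
noncomputable def selTN2769 (j : ℕ) : ℕ := (Bool.rec (motive := fun _ => ℕ) rl4582 rl4583 (Nat.ble 4583 j))

/-- a part of the choice of the part of the table -/
noncomputable def selTN2770 (j : ℕ) : ℕ := (Bool.rec (motive := fun _ => ℕ) rl4584 rl4585 (Nat.ble 4585 j))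

/-- a part of the choice of the part of the table -/
noncomputable def selTN2771 (j : ℕ) : ℕ := (Bool.rec (motive := fun _ => ℕ) (selTN2769 j) (Bool.rec (motive := fun _ => ℕ) (selTN2770 j) rl4586 (Nat.ble 4586 j)) (Nat.ble 4584 j))

/-- a part of the choice of the part of the table -/
noncomputable def selTN2772 (j : ℕ) : ℕ := (Bool.rec (motive := fun _ => ℕ) (Bool.rec (motive := fun _ => ℕ) rl4587 rl4588 (Nat.ble 4588 j)) (Bool.rec (motive := fun _ => ℕ) rl4589 rl4590 (Nat.ble 4590 j)) (Nat.ble 4589 j))

/-- a part of the choice of the part of the table -/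
noncomputable def selTN2773 (j : ℕ) : ℕ := (Bool.rec (motive := fun _ => ℕ) (Bool.rec (motive := fun _ => ℕ) (selTN2765 j) (selTN2768 j) (Nat.ble 4577 j)) (Bool.rec (motive := fun _ => ℕ) (selTN2771 j) (selTN2772 j) (Nat.ble 4587 j)) (Nat.ble 4582 j))

/-- a part of the choice of the part of the table -/
noncomputable def selTN2774 (j : ℕ) : ℕ := (Bool.rec (motive := fun _ => ℕ) rl4591 rl4592 (Nat.ble 4592 j))

/-- a part of the choice of the part of the table -/
noncomputable def selTN2775 (j : ℕ) : ℕ := (Bool.rec (motive := fun _ => ℕ) rl4593 rl4594 (Nat.ble 4594 j))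

/-- a part of the choice of the part of the table -/
noncomputable def selTN2776 (j : ℕ) : ℕ := (Bool.rec (motive := fun _ => ℕ) (selTN2774 j) (Bool.rec (motive := fun _ => ℕ) (selTN2775 j) rl4595 (Nat.ble 4595 j)) (Nat.ble 4593 j))

/-- a part of the choice of the part of the table -/
noncomputable def selTN2777 (j : ℕ) : ℕ := (Bool.rec (motive := fun _ => ℕ) rl4596 rl4597 (Nat.ble 4597 j))

/-- a part of the choice of the part of the table -/
noncomputable def selTN2778 (j : ℕ) : ℕ := (Bool.rec (motive := fun _ => ℕ) rl4598 rl4599 (Nat.ble 4599 j))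

/-- a part of the choice of the part of the table -/
noncomputable def selTN2779 (j : ℕ) : ℕ := (Bool.rec (motive := fun _ => ℕ) (selTN2777 j) (Bool.rec (motive := fun _ => ℕ) (selTN2778 j) rl4600 (Nat.ble 4600 j)) (Nat.ble 4598 j))

/-- a part of the choice of the part of the table -/
noncomputable def selTN2780 (j : ℕ) : ℕ := (Bool.rec (motive := fun _ => ℕ) rl4601 rl4602 (Nat.ble 4602 j))

/-- a part of the choice of the part of the table -/
noncomputable def selTN2781 (j : ℕ) : ℕ := (Bool.rec (motive := fun _ => ℕ) rl4603 rl4604 (Nat.ble 4604 j))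

/-- a part of the choice of the part of the table -/
noncomputable def selTN2782 (j : ℕ) : ℕ := (Bool.rec (motive := fun _ => ℕ) (selTN2780 j) (Bool.rec (motive := fun _ => ℕ) (selTN2781 j) rl4605 (Nat.ble 4605 j)) (Nat.ble 4603 j))

/-- a part of the choice of the part of the table -/
noncomputable def selTN2783 (j : ℕ) : ℕ := (Bool.rec (motive := fun _ => ℕ) (Bool.rec (motive := fun _ => ℕ) rl4606 rl4607 (Nat.ble 4607 j)) (Bool.rec (motive := fun _ => ℕ) rl4608 rl4609 (Nat.ble 4609 j)) (Nat.ble 4608 j))

/-- a part of the choice of the part of the table -/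
noncomputable def selTN2784 (j : ℕ) : ℕ := (Bool.rec (motive := fun _ => ℕ) (Bool.rec (motive := fun _ => ℕ) (selTN2776 j) (selTN2779 j) (Nat.ble 4596 j)) (Bool.rec (motive := fun _ => ℕ) (selTN2782 j) (selTN2783 j) (Nat.ble 4606 j)) (Nat.ble 4601 j))

/-- a part of the choice of the part of the table -/
noncomputable def selTN2785 (j : ℕ) : ℕ := (Bool.rec (motive := fun _ => ℕ) rl4610 rl4611 (Nat.ble 4611 j))

/-- a part of the choice of the part of the table -/
noncomputable def selTN2786 (j : ℕ) : ℕ := (Bool.rec (motive := fun _ => ℕ) rl4612 rl4613 (Nat.ble 4613 j))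

/-- a part of the choice of the part of the table -/
noncomputable def selTN2787 (j : ℕ) : ℕ := (Bool.rec (motive := fun _ => ℕ) (selTN2785 j) (Bool.rec (motive := fun _ => ℕ) (selTN2786 j) rl4614 (Nat.ble 4614 j)) (Nat.ble 4612 j))

/-- a part of the choice of the part of the table -/
noncomputable def selTN2788 (j : ℕ) : ℕ := (Bool.rec (motive := fun _ => ℕ) rl4615 rl4616 (Nat.ble 4616 j))

/-- a part of the choice of the part of the table -/
noncomputable def selTN2789 (j : ℕ) : ℕ := (Bool.rec (motive := fun _ => ℕ) rl4617 rl4618 (Nat.ble 4618 j))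

/-- a part of the choice of the part of the table -/
noncomputable def selTN2790 (j : ℕ) : ℕ := (Bool.rec (motive := fun _ => ℕ) (selTN2788 j) (Bool.rec (motive := fun _ => ℕ) (selTN2789 j) rl4619 (Nat.ble 4619 j)) (Nat.ble 4617 j))

/-- a part of the choice of the part of the table -/
noncomputable def selTN2791 (j : ℕ) : ℕ := (Bool.rec (motive := fun _ => ℕ) rl4620 rl4621 (Nat.ble 4621 j))

/-- a part of the choice of the part of the table -/
noncomputable def selTN2792 (j : ℕ) : ℕ := (Bool.rec (motive := fun _ => ℕ) rl4622 rl4623 (Nat.ble 4623 j))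

/-- a part of the choice of the part of the table -/
noncomputable def selTN2793 (j : ℕ) : ℕ := (Bool.rec (motive := fun _ => ℕ) (selTN2791 j) (Bool.rec (motive := fun _ => ℕ) (selTN2792 j) rl4624 (Nat.ble 4624 j)) (Nat.ble 4622 j))

/-- a part of the choice of the part of the table -/
noncomputable def selTN2794 (j : ℕ) : ℕ := (Bool.rec (motive := fun _ => ℕ) (Bool.rec (motive := fun _ => ℕ) rl4625 rl4626 (Nat.ble 4626 j)) (Bool.rec (motive := fun _ => ℕ) rl4627 rl4628 (Nat.ble 4628 j)) (Nat.ble 4627 j))

/-- a part of the choice of the part of the table -/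
noncomputable def selTN2795 (j : ℕ) : ℕ := (Bool.rec (motive := fun _ => ℕ) (Bool.rec (motive := fun _ => ℕ) (selTN2787 j) (selTN2790 j) (Nat.ble 4615 j)) (Bool.rec (motive := fun _ => ℕ) (selTN2793 j) (selTN2794 j) (Nat.ble 4625 j)) (Nat.ble 4620 j))

/-- a part of the choice of the part of the table -/
noncomputable def selTN2796 (j : ℕ) : ℕ := (Bool.rec (motive := fun _ => ℕ) rl4629 rl4630 (Nat.ble 4630 j))

/-- a part of the choice of the part of the table -/
noncomputable def selTN2797 (j : ℕ) : ℕ := (Bool.rec (motive := fun _ => ℕ) rl4631 rl4632 (Nat.ble 4632 j))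

/-- a part of the choice of the part of the table -/
noncomputable def selTN2798 (j : ℕ) : ℕ := (Bool.rec (motive := fun _ => ℕ) (selTN2796 j) (Bool.rec (motive := fun _ => ℕ) (selTN2797 j) rl4633 (Nat.ble 4633 j)) (Nat.ble 4631 j))

/-- a part of the choice of the part of the table -/
noncomputable def selTN2799 (j : ℕ) : ℕ := (Bool.rec (motive := fun _ => ℕ) rl4634 rl4635 (Nat.ble 4635 j))

/-- a part of the choice of the part of the table -/
noncomputable def selTN2800 (j : ℕ) : ℕ := (Bool.rec (motive := fun _ => ℕ) rl4636 rl4637 (Nat.ble 4637 j))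

/-- a part of the choice of the part of the table -/
noncomputable def selTN2801 (j : ℕ) : ℕ := (Bool.rec (motive := fun _ => ℕ) (selTN2799 j) (Bool.rec (motive := fun _ => ℕ) (selTN2800 j) rl4638 (Nat.ble 4638 j)) (Nat.ble 4636 j))

/-- a part of the choice of the part of the table -/
noncomputable def selTN2802 (j : ℕ) : ℕ := (Bool.rec (motive := fun _ => ℕ) rl4639 rl4640 (Nat.ble 4640 j))

/-- a part of the choice of the part of the table -/
noncomputable def selTN2803 (j : ℕ) : ℕ := (Bool.rec (motive := fun _ => ℕ) rl4641 rl4642 (Nat.ble 4642 j))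

/-- a part of the choice of the part of the table -/
noncomputable def selTN2804 (j : ℕ) : ℕ := (Bool.rec (motive := fun _ => ℕ) (selTN2802 j) (Bool.rec (motive := fun _ => ℕ) (selTN2803 j) rl4643 (Nat.ble 4643 j)) (Nat.ble 4641 j))

/-- a part of the choice of the part of the table -/
noncomputable def selTN2805 (j : ℕ) : ℕ := (Bool.rec (motive := fun _ => ℕ) rl4644 (Bool.rec (motive := fun _ => ℕ) rl4645 rl4646 (Nat.ble 4646 j)) (Nat.ble 4645 j))

/-- a part of the choice of the part of the table -/
noncomputable def selTN2806 (j : ℕ) : ℕ := (Bool.rec (motive := fun _ => ℕ) (Bool.rec (motive := fun _ => ℕ) (selTN2798 j) (selTN2801 j) (Nat.ble 4634 j)) (Bool.rec (motive := fun _ => ℕ) (selTN2804 j) (selTN2805 j) (Nat.ble 4644 j)) (Nat.ble 4639 j))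

/-- a part of the choice of the part of the table -/
noncomputable def selTN2807 (j : ℕ) : ℕ := (Bool.rec (motive := fun _ => ℕ) (Bool.rec (motive := fun _ => ℕ) (selTN2773 j) (selTN2784 j) (Nat.ble 4591 j)) (Bool.rec (motive := fun _ => ℕ) (selTN2795 j) (selTN2806 j) (Nat.ble 4629 j)) (Nat.ble 4610 j))

/-- a part of the choice of the part of the table -/
noncomputable def selTN2808 (j : ℕ) : ℕ := (Bool.rec (motive := fun _ => ℕ) rl4647 rl4648 (Nat.ble 4648 j))

/-- a part of the choice of the part of the table -/
noncomputable def selTN2809 (j : ℕ) : ℕ := (Bool.rec (motive := fun _ => ℕ) rl4649 rl4650 (Nat.ble 4650 j))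

/-- a part of the choice of the part of the table -/
noncomputable def selTN2810 (j : ℕ) : ℕ := (Bool.rec (motive := fun _ => ℕ) (selTN2808 j) (Bool.rec (motive := fun _ => ℕ) (selTN2809 j) rl4651 (Nat.ble 4651 j)) (Nat.ble 4649 j))

/-- a part of the choice of the part of the table -/
noncomputable def selTN2811 (j : ℕ) : ℕ := (Bool.rec (motive := fun _ => ℕ) rl4652 rl4653 (Nat.ble 4653 j))

/-- a part of the choice of the part of the table -/
noncomputable def selTN2812 (j : ℕ) : ℕ := (Bool.rec (motive := fun _ => ℕ) rl4654 rl4655 (Nat.ble 4655 j))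

/-- a part of the choice of the part of the table -/
noncomputable def selTN2813 (j : ℕ) : ℕ := (Bool.rec (motive := fun _ => ℕ) (selTN2811 j) (Bool.rec (motive := fun _ => ℕ) (selTN2812 j) rl4656 (Nat.ble 4656 j)) (Nat.ble 4654 j))

/-- a part of the choice of the part of the table -/
noncomputable def selTN2814 (j : ℕ) : ℕ := (Bool.rec (motive := fun _ => ℕ) rl4657 rl4658 (Nat.ble 4658 j))

/-- a part of the choice of the part of the table -/
noncomputable def selTN2815 (j : ℕ) : ℕ := (Bool.rec (motive := fun _ => ℕ) rl4659 rl4660 (Nat.ble 4660 j))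

/-- a part of the choice of the part of the table -/
noncomputable def selTN2816 (j : ℕ) : ℕ := (Bool.rec (motive := fun _ => ℕ) (selTN2814 j) (Bool.rec (motive := fun _ => ℕ) (selTN2815 j) rl4661 (Nat.ble 4661 j)) (Nat.ble 4659 j))

/-- a part of the choice of the part of the table -/
noncomputable def selTN2817 (j : ℕ) : ℕ := (Bool.rec (motive := fun _ => ℕ) (Bool.rec (motive := fun _ => ℕ) rl4662 rl4663 (Nat.ble 4663 j)) (Bool.rec (motive := fun _ => ℕ) rl4664 rl4665 (Nat.ble 4665 j)) (Nat.ble 4664 j))

/-- a part of the choice of the part of the table -/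
noncomputable def selTN2818 (j : ℕ) : ℕ := (Bool.rec (motive := fun _ => ℕ) (Bool.rec (motive := fun _ => ℕ) (selTN2810 j) (selTN2813 j) (Nat.ble 4652 j)) (Bool.rec (motive := fun _ => ℕ) (selTN2816 j) (selTN2817 j) (Nat.ble 4662 j)) (Nat.ble 4657 j))

/-- a part of the choice of the part of the table -/
noncomputable def selTN2819 (j : ℕ) : ℕ := (Bool.rec (motive := fun _ => ℕ) rl4666 rl4667 (Nat.ble 4667 j))

/-- a part of the choice of the part of the table -/
noncomputable def selTN2820 (j : ℕ) : ℕ := (Bool.rec (motive := fun _ => ℕ) rl4668 rl4669 (Nat.ble 4669 j))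

/-- a part of the choice of the part of the table -/
noncomputable def selTN2821 (j : ℕ) : ℕ := (Bool.rec (motive := fun _ => ℕ) (selTN2819 j) (Bool.rec (motive := fun _ => ℕ) (selTN2820 j) rl4670 (Nat.ble 4670 j)) (Nat.ble 4668 j))

/-- a part of the choice of the part of the table -/
noncomputable def selTN2822 (j : ℕ) : ℕ := (Bool.rec (motive := fun _ => ℕ) rl4671 rl4672 (Nat.ble 4672 j))

/-- a part of the choice of the part of the table -/
noncomputable def selTN2823 (j : ℕ) : ℕ := (Bool.rec (motive := fun _ => ℕ) rl4673 rl4674 (Nat.ble 4674 j))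

/-- a part of the choice of the part of the table -/
noncomputable def selTN2824 (j : ℕ) : ℕ := (Bool.rec (motive := fun _ => ℕ) (selTN2822 j) (Bool.rec (motive := fun _ => ℕ) (selTN2823 j) rl4675 (Nat.ble 4675 j)) (Nat.ble 4673 j))

/-- a part of the choice of the part of the table -/
noncomputable def selTN2825 (j : ℕ) : ℕ := (Bool.rec (motive := fun _ => ℕ) rl4676 rl4677 (Nat.ble 4677 j))

/-- a part of the choice of the part of the table -/
noncomputable def selTN2826 (j : ℕ) : ℕ := (Bool.rec (motive := fun _ => ℕ) rl4678 rl4679 (Nat.ble 4679 j))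

/-- a part of the choice of the part of the table -/
noncomputable def selTN2827 (j : ℕ) : ℕ := (Bool.rec (motive := fun _ => ℕ) (selTN2825 j) (Bool.rec (motive := fun _ => ℕ) (selTN2826 j) rl4680 (Nat.ble 4680 j)) (Nat.ble 4678 j))

/-- a part of the choice of the part of the table -/
noncomputable def selTN2828 (j : ℕ) : ℕ := (Bool.rec (motive := fun _ => ℕ) (Bool.rec (motive := fun _ => ℕ) rl4681 rl4682 (Nat.ble 4682 j)) (Bool.rec (motive := fun _ => ℕ) rl4683 rl4684 (Nat.ble 4684 j)) (Nat.ble 4683 j))

/-- a part of the choice of the part of the table -/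
noncomputable def selTN2829 (j : ℕ) : ℕ := (Bool.rec (motive := fun _ => ℕ) (Bool.rec (motive := fun _ => ℕ) (selTN2821 j) (selTN2824 j) (Nat.ble 4671 j)) (Bool.rec (motive := fun _ => ℕ) (selTN2827 j) (selTN2828 j) (Nat.ble 4681 j)) (Nat.ble 4676 j))

/-- a part of the choice of the part of the table -/
noncomputable def selTN2830 (j : ℕ) : ℕ := (Bool.rec (motive := fun _ => ℕ) rl4685 rl4686 (Nat.ble 4686 j))

/-- a part of the choice of the part of the table -/
noncomputable def selTN2831 (j : ℕ) : ℕ := (Bool.rec (motive := fun _ => ℕ) rl4687 rl4688 (Nat.ble 4688 j))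

/-- a part of the choice of the part of the table -/
noncomputable def selTN2832 (j : ℕ) : ℕ := (Bool.rec (motive := fun _ => ℕ) (selTN2830 j) (Bool.rec (motive := fun _ => ℕ) (selTN2831 j) rl4689 (Nat.ble 4689 j)) (Nat.ble 4687 j))

/-- a part of the choice of the part of the table -/
noncomputable def selTN2833 (j : ℕ) : ℕ := (Bool.rec (motive := fun _ => ℕ) rl4690 rl4691 (Nat.ble 4691 j))

/-- a part of the choice of the part of the table -/
noncomputable def selTN2834 (j : ℕ) : ℕ := (Bool.rec (motive := fun _ => ℕ) rl4692 rl4693 (Nat.ble 4693 j))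

/-- a part of the choice of the part of the table -/
noncomputable def selTN2835 (j : ℕ) : ℕ := (Bool.rec (motive := fun _ => ℕ) (selTN2833 j) (Bool.rec (motive := fun _ => ℕ) (selTN2834 j) rl4694 (Nat.ble 4694 j)) (Nat.ble 4692 j))

/-- a part of the choice of the part of the table -/
noncomputable def selTN2836 (j : ℕ) : ℕ := (Bool.rec (motive := fun _ => ℕ) rl4695 rl4696 (Nat.ble 4696 j))

/-- a part of the choice of the part of the table -/
noncomputable def selTN2837 (j : ℕ) : ℕ := (Bool.rec (motive := fun _ => ℕ) rl4697 rl4698 (Nat.ble 4698 j))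

/-- a part of the choice of the part of the table -/
noncomputable def selTN2838 (j : ℕ) : ℕ := (Bool.rec (motive := fun _ => ℕ) (selTN2836 j) (Bool.rec (motive := fun _ => ℕ) (selTN2837 j) rl4699 (Nat.ble 4699 j)) (Nat.ble 4697 j))

/-- a part of the choice of the part of the table -/
noncomputable def selTN2839 (j : ℕ) : ℕ := (Bool.rec (motive := fun _ => ℕ) (Bool.rec (motive := fun _ => ℕ) rl4700 rl4701 (Nat.ble 4701 j)) (Bool.rec (motive := fun _ => ℕ) rl4702 rl4703 (Nat.ble 4703 j)) (Nat.ble 4702 j))

/-- a part of the choice of the part of the table -/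
noncomputable def selTN2840 (j : ℕ) : ℕ := (Bool.rec (motive := fun _ => ℕ) (Bool.rec (motive := fun _ => ℕ) (selTN2832 j) (selTN2835 j) (Nat.ble 4690 j)) (Bool.rec (motive := fun _ => ℕ) (selTN2838 j) (selTN2839 j) (Nat.ble 4700 j)) (Nat.ble 4695 j))

/-- a part of the choice of the part of the table -/
noncomputable def selTN2841 (j : ℕ) : ℕ := (Bool.rec (motive := fun _ => ℕ) rl4704 rl4705 (Nat.ble 4705 j))

/-- a part of the choice of the part of the table -/
noncomputable def selTN2842 (j : ℕ) : ℕ := (Bool.rec (motive := fun _ => ℕ) rl4706 rl4707 (Nat.ble 4707 j))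

/-- a part of the choice of the part of the table -/
noncomputable def selTN2843 (j : ℕ) : ℕ := (Bool.rec (motive := fun _ => ℕ) (selTN2841 j) (Bool.rec (motive := fun _ => ℕ) (selTN2842 j) rl4708 (Nat.ble 4708 j)) (Nat.ble 4706 j))

/-- a part of the choice of the part of the table -/
noncomputable def selTN2844 (j : ℕ) : ℕ := (Bool.rec (motive := fun _ => ℕ) rl4709 rl4710 (Nat.ble 4710 j))

/-- a part of the choice of the part of the table -/
noncomputable def selTN2845 (j : ℕ) : ℕ := (Bool.rec (motive := fun _ => ℕ) rl4711 rl4712 (Nat.ble 4712 j))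

/-- a part of the choice of the part of the table -/
noncomputable def selTN2846 (j : ℕ) : ℕ := (Bool.rec (motive := fun _ => ℕ) (selTN2844 j) (Bool.rec (motive := fun _ => ℕ) (selTN2845 j) rl4713 (Nat.ble 4713 j)) (Nat.ble 4711 j))

/-- a part of the choice of the part of the table -/
noncomputable def selTN2847 (j : ℕ) : ℕ := (Bool.rec (motive := fun _ => ℕ) rl4714 rl4715 (Nat.ble 4715 j))

/-- a part of the choice of the part of the table -/
noncomputable def selTN2848 (j : ℕ) : ℕ := (Bool.rec (motive := fun _ => ℕ) rl4716 rl4717 (Nat.ble 4717 j))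

/-- a part of the choice of the part of the table -/
noncomputable def selTN2849 (j : ℕ) : ℕ := (Bool.rec (motive := fun _ => ℕ) (selTN2847 j) (Bool.rec (motive := fun _ => ℕ) (selTN2848 j) rl4718 (Nat.ble 4718 j)) (Nat.ble 4716 j))

/-- a part of the choice of the part of the table -/
noncomputable def selTN2850 (j : ℕ) : ℕ := (Bool.rec (motive := fun _ => ℕ) rl4719 (Bool.rec (motive := fun _ => ℕ) rl4720 rl4721 (Nat.ble 4721 j)) (Nat.ble 4720 j))

/-- a part of the choice of the part of the table -/
noncomputable def selTN2851 (j : ℕ) : ℕ := (Bool.rec (motive := fun _ => ℕ) (Bool.rec (motive := fun _ => ℕ) (selTN2843 j) (selTN2846 j) (Nat.ble 4709 j)) (Bool.rec (motive := fun _ => ℕ) (selTN2849 j) (selTN2850 j) (Nat.ble 4719 j)) (Nat.ble 4714 j))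

/-- a part of the choice of the part of the table -/
noncomputable def selTN2852 (j : ℕ) : ℕ := (Bool.rec (motive := fun _ => ℕ) (Bool.rec (motive := fun _ => ℕ) (selTN2818 j) (selTN2829 j) (Nat.ble 4666 j)) (Bool.rec (motive := fun _ => ℕ) (selTN2840 j) (selTN2851 j) (Nat.ble 4704 j)) (Nat.ble 4685 j))

/-- a part of the choice of the part of the table -/
noncomputable def selTN2853 (j : ℕ) : ℕ := (Bool.rec (motive := fun _ => ℕ) rl4722 rl4723 (Nat.ble 4723 j))

/-- a part of the choice of the part of the table -/
noncomputable def selTN2854 (j : ℕ) : ℕ := (Bool.rec (motive := fun _ => ℕ) rl4724 rl4725 (Nat.ble 4725 j))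

/-- a part of the choice of the part of the table -/
noncomputable def selTN2855 (j : ℕ) : ℕ := (Bool.rec (motive := fun _ => ℕ) (selTN2853 j) (Bool.rec (motive := fun _ => ℕ) (selTN2854 j) rl4726 (Nat.ble 4726 j)) (Nat.ble 4724 j))

/-- a part of the choice of the part of the table -/
noncomputable def selTN2856 (j : ℕ) : ℕ := (Bool.rec (motive := fun _ => ℕ) rl4727 rl4728 (Nat.ble 4728 j))

/-- a part of the choice of the part of the table -/
noncomputable def selTN2857 (j : ℕ) : ℕ := (Bool.rec (motive := fun _ => ℕ) rl4729 rl4730 (Nat.ble 4730 j))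

/-- a part of the choice of the part of the table -/
noncomputable def selTN2858 (j : ℕ) : ℕ := (Bool.rec (motive := fun _ => ℕ) (selTN2856 j) (Bool.rec (motive := fun _ => ℕ) (selTN2857 j) rl4731 (Nat.ble 4731 j)) (Nat.ble 4729 j))

/-- a part of the choice of the part of the table -/
noncomputable def selTN2859 (j : ℕ) : ℕ := (Bool.rec (motive := fun _ => ℕ) rl4732 rl4733 (Nat.ble 4733 j))

/-- a part of the choice of the part of the table -/
noncomputable def selTN2860 (j : ℕ) : ℕ := (Bool.rec (motive := fun _ => ℕ) rl4734 rl4735 (Nat.ble 4735 j))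

/-- a part of the choice of the part of the table -/
noncomputable def selTN2861 (j : ℕ) : ℕ := (Bool.rec (motive := fun _ => ℕ) (selTN2859 j) (Bool.rec (motive := fun _ => ℕ) (selTN2860 j) rl4736 (Nat.ble 4736 j)) (Nat.ble 4734 j))

/-- a part of the choice of the part of the table -/
noncomputable def selTN2862 (j : ℕ) : ℕ := (Bool.rec (motive := fun _ => ℕ) (Bool.rec (motive := fun _ => ℕ) rl4737 rl4738 (Nat.ble 4738 j)) (Bool.rec (motive := fun _ => ℕ) rl4739 rl4740 (Nat.ble 4740 j)) (Nat.ble 4739 j))

/-- a part of the choice of the part of the table -/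
noncomputable def selTN2863 (j : ℕ) : ℕ := (Bool.rec (motive := fun _ => ℕ) (Bool.rec (motive := fun _ => ℕ) (selTN2855 j) (selTN2858 j) (Nat.ble 4727 j)) (Bool.rec (motive := fun _ => ℕ) (selTN2861 j) (selTN2862 j) (Nat.ble 4737 j)) (Nat.ble 4732 j))

/-- a part of the choice of the part of the table -/
noncomputable def selTN2864 (j : ℕ) : ℕ := (Bool.rec (motive := fun _ => ℕ) rl4741 rl4742 (Nat.ble 4742 j))

/-- a part of the choice of the part of the table -/
noncomputable def selTN2865 (j : ℕ) : ℕ := (Bool.rec (motive := fun _ => ℕ) rl4743 rl4744 (Nat.ble 4744 j))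

/-- a part of the choice of the part of the table -/
noncomputable def selTN2866 (j : ℕ) : ℕ := (Bool.rec (motive := fun _ => ℕ) (selTN2864 j) (Bool.rec (motive := fun _ => ℕ) (selTN2865 j) rl4745 (Nat.ble 4745 j)) (Nat.ble 4743 j))

/-- a part of the choice of the part of the table -/
noncomputable def selTN2867 (j : ℕ) : ℕ := (Bool.rec (motive := fun _ => ℕ) rl4746 rl4747 (Nat.ble 4747 j))

/-- a part of the choice of the part of the table -/
noncomputable def selTN2868 (j : ℕ) : ℕ := (Bool.rec (motive := fun _ => ℕ) rl4748 rl4749 (Nat.ble 4749 j))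

/-- a part of the choice of the part of the table -/
noncomputable def selTN2869 (j : ℕ) : ℕ := (Bool.rec (motive := fun _ => ℕ) (selTN2867 j) (Bool.rec (motive := fun _ => ℕ) (selTN2868 j) rl4750 (Nat.ble 4750 j)) (Nat.ble 4748 j))

/-- a part of the choice of the part of the table -/
noncomputable def selTN2870 (j : ℕ) : ℕ := (Bool.rec (motive := fun _ => ℕ) rl4751 rl4752 (Nat.ble 4752 j))

/-- a part of the choice of the part of the table -/
noncomputable def selTN2871 (j : ℕ) : ℕ := (Bool.rec (motive := fun _ => ℕ) rl4753 rl4754 (Nat.ble 4754 j))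

/-- a part of the choice of the part of the table -/
noncomputable def selTN2872 (j : ℕ) : ℕ := (Bool.rec (motive := fun _ => ℕ) (selTN2870 j) (Bool.rec (motive := fun _ => ℕ) (selTN2871 j) rl4755 (Nat.ble 4755 j)) (Nat.ble 4753 j))

/-- a part of the choice of the part of the table -/
noncomputable def selTN2873 (j : ℕ) : ℕ := (Bool.rec (motive := fun _ => ℕ) (Bool.rec (motive := fun _ => ℕ) rl4756 rl4757 (Nat.ble 4757 j)) (Bool.rec (motive := fun _ => ℕ) rl4758 rl4759 (Nat.ble 4759 j)) (Nat.ble 4758 j))

/-- a part of the choice of the part of the table -/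
noncomputable def selTN2874 (j : ℕ) : ℕ := (Bool.rec (motive := fun _ => ℕ) (Bool.rec (motive := fun _ => ℕ) (selTN2866 j) (selTN2869 j) (Nat.ble 4746 j)) (Bool.rec (motive := fun _ => ℕ) (selTN2872 j) (selTN2873 j) (Nat.ble 4756 j)) (Nat.ble 4751 j))

/-- a part of the choice of the part of the table -/
noncomputable def selTN2875 (j : ℕ) : ℕ := (Bool.rec (motive := fun _ => ℕ) rl4760 rl4761 (Nat.ble 4761 j))

/-- a part of the choice of the part of the table -/
noncomputable def selTN2876 (j : ℕ) : ℕ := (Bool.rec (motive := fun _ => ℕ) rl4762 rl4763 (Nat.ble 4763 j))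

/-- a part of the choice of the part of the table -/
noncomputable def selTN2877 (j : ℕ) : ℕ := (Bool.rec (motive := fun _ => ℕ) (selTN2875 j) (Bool.rec (motive := fun _ => ℕ) (selTN2876 j) rl4764 (Nat.ble 4764 j)) (Nat.ble 4762 j))

/-- a part of the choice of the part of the table -/
noncomputable def selTN2878 (j : ℕ) : ℕ := (Bool.rec (motive := fun _ => ℕ) rl4765 rl4766 (Nat.ble 4766 j))

/-- a part of the choice of the part of the table -/
noncomputable def selTN2879 (j : ℕ) : ℕ := (Bool.rec (motive := fun _ => ℕ) rl4767 rl4768 (Nat.ble 4768 j))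

/-- a part of the choice of the part of the table -/
noncomputable def selTN2880 (j : ℕ) : ℕ := (Bool.rec (motive := fun _ => ℕ) (selTN2878 j) (Bool.rec (motive := fun _ => ℕ) (selTN2879 j) rl4769 (Nat.ble 4769 j)) (Nat.ble 4767 j))

/-- a part of the choice of the part of the table -/
noncomputable def selTN2881 (j : ℕ) : ℕ := (Bool.rec (motive := fun _ => ℕ) rl4770 rl4771 (Nat.ble 4771 j))

/-- a part of the choice of the part of the table -/
noncomputable def selTN2882 (j : ℕ) : ℕ := (Bool.rec (motive := fun _ => ℕ) rl4772 rl4773 (Nat.ble 4773 j))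

/-- a part of the choice of the part of the table -/
noncomputable def selTN2883 (j : ℕ) : ℕ := (Bool.rec (motive := fun _ => ℕ) (selTN2881 j) (Bool.rec (motive := fun _ => ℕ) (selTN2882 j) rl4774 (Nat.ble 4774 j)) (Nat.ble 4772 j))

/-- a part of the choice of the part of the table -/
noncomputable def selTN2884 (j : ℕ) : ℕ := (Bool.rec (motive := fun _ => ℕ) (Bool.rec (motive := fun _ => ℕ) rl4775 rl4776 (Nat.ble 4776 j)) (Bool.rec (motive := fun _ => ℕ) rl4777 rl4778 (Nat.ble 4778 j)) (Nat.ble 4777 j))

/-- a part of the choice of the part of the table -/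
noncomputable def selTN2885 (j : ℕ) : ℕ := (Bool.rec (motive := fun _ => ℕ) (Bool.rec (motive := fun _ => ℕ) (selTN2877 j) (selTN2880 j) (Nat.ble 4765 j)) (Bool.rec (motive := fun _ => ℕ) (selTN2883 j) (selTN2884 j) (Nat.ble 4775 j)) (Nat.ble 4770 j))

/-- a part of the choice of the part of the table -/
noncomputable def selTN2886 (j : ℕ) : ℕ := (Bool.rec (motive := fun _ => ℕ) rl4779 rl4780 (Nat.ble 4780 j))

/-- a part of the choice of the part of the table -/
noncomputable def selTN2887 (j : ℕ) : ℕ := (Bool.rec (motive := fun _ => ℕ) rl4781 rl4782 (Nat.ble 4782 j))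

/-- a part of the choice of the part of the table -/
noncomputable def selTN2888 (j : ℕ) : ℕ := (Bool.rec (motive := fun _ => ℕ) (selTN2886 j) (Bool.rec (motive := fun _ => ℕ) (selTN2887 j) rl4783 (Nat.ble 4783 j)) (Nat.ble 4781 j))

/-- a part of the choice of the part of the table -/
noncomputable def selTN2889 (j : ℕ) : ℕ := (Bool.rec (motive := fun _ => ℕ) rl4784 rl4785 (Nat.ble 4785 j))

/-- a part of the choice of the part of the table -/
noncomputable def selTN2890 (j : ℕ) : ℕ := (Bool.rec (motive := fun _ => ℕ) rl4786 rl4787 (Nat.ble 4787 j))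

/-- a part of the choice of the part of the table -/
noncomputable def selTN2891 (j : ℕ) : ℕ := (Bool.rec (motive := fun _ => ℕ) (selTN2889 j) (Bool.rec (motive := fun _ => ℕ) (selTN2890 j) rl4788 (Nat.ble 4788 j)) (Nat.ble 4786 j))

/-- a part of the choice of the part of the table -/
noncomputable def selTN2892 (j : ℕ) : ℕ := (Bool.rec (motive := fun _ => ℕ) rl4789 rl4790 (Nat.ble 4790 j))

/-- a part of the choice of the part of the table -/
noncomputable def selTN2893 (j : ℕ) : ℕ := (Bool.rec (motive := fun _ => ℕ) rl4791 rl4792 (Nat.ble 4792 j))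

/-- a part of the choice of the part of the table -/
noncomputable def selTN2894 (j : ℕ) : ℕ := (Bool.rec (motive := fun _ => ℕ) (selTN2892 j) (Bool.rec (motive := fun _ => ℕ) (selTN2893 j) rl4793 (Nat.ble 4793 j)) (Nat.ble 4791 j))

/-- a part of the choice of the part of the table -/
noncomputable def selTN2895 (j : ℕ) : ℕ := (Bool.rec (motive := fun _ => ℕ) rl4794 rl4795 (Nat.ble 4795 j))

/-- a part of the choice of the part of the table -/
noncomputable def selTN2896 (j : ℕ) : ℕ := (Bool.rec (motive := fun _ => ℕ) (Bool.rec (motive := fun _ => ℕ) (selTN2888 j) (selTN2891 j) (Nat.ble 4784 j)) (Bool.rec (motive := fun _ => ℕ) (selTN2894 j) (selTN2895 j) (Nat.ble 4794 j)) (Nat.ble 4789 j))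

/-- a part of the choice of the part of the table -/
noncomputable def selTN2897 (j : ℕ) : ℕ := (Bool.rec (motive := fun _ => ℕ) (Bool.rec (motive := fun _ => ℕ) (selTN2863 j) (selTN2874 j) (Nat.ble 4741 j)) (Bool.rec (motive := fun _ => ℕ) (selTN2885 j) (selTN2896 j) (Nat.ble 4779 j)) (Nat.ble 4760 j))

/-- a part of the choice of the part of the table -/
noncomputable def selTN2898 (j : ℕ) : ℕ := (Bool.rec (motive := fun _ => ℕ) (Bool.rec (motive := fun _ => ℕ) (selTN2762 j) (selTN2807 j) (Nat.ble 4572 j)) (Bool.rec (motive := fun _ => ℕ) (selTN2852 j) (selTN2897 j) (Nat.ble 4722 j)) (Nat.ble 4647 j))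

/-- a part of the choice of the part of the table -/
noncomputable def selTN2899 (j : ℕ) : ℕ := (Bool.rec (motive := fun _ => ℕ) (Bool.rec (motive := fun _ => ℕ) (selTN2355 j) (selTN2536 j) (Nat.ble 3897 j)) (Bool.rec (motive := fun _ => ℕ) (selTN2717 j) (selTN2898 j) (Nat.ble 4497 j)) (Nat.ble 4197 j))

/-- the choice of the part of the table -/
noncomputable def selT (j : ℕ) : ℕ := (Bool.rec (motive := fun _ => ℕ) (Bool.rec (motive := fun _ => ℕ) (selTN724 j) (selTN1449 j) (Nat.ble 1199 j)) (Bool.rec (motive := fun _ => ℕ) (selTN2174 j) (selTN2899 j) (Nat.ble 3597 j)) (Nat.ble 2398 j))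

/-- application that first evaluates the argument -/
def sN (x : ℕ) (f : ℕ → ℕ) : ℕ := Nat.rec (motive := fun _ => ℕ) (f Nat.zero) (fun n _ => f (Nat.succ n)) x

/-- application that first evaluates the argument -/
def sB (x : ℕ) (f : ℕ → Bool) : Bool := Nat.rec (motive := fun _ => Bool) (f Nat.zero) (fun n _ => f (Nat.succ n)) x

/-- the entry of the row `a` and the generator `s`: twenty binary digits for the row, two for the displacement -/
noncomputable def ent (a s : ℕ) : ℕ :=
  sN (Nat.shiftRight a 6) fun c => Nat.land (Nat.shiftRight (selT c)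
    (Nat.add (Nat.mul 264 (Nat.land a 63)) (Nat.mul 22 s))) 4194303

/-- a generator acts on a packed point: the row in the first twenty binary digits, then the place in the fibre -/
noncomputable def stepN (s v : ℕ) : ℕ :=
  sN (ent (Nat.land v 1048575) s) fun e =>
    Nat.add (Nat.land e 1048575)
      (Nat.mul 1048576 (Nat.mod (Nat.sub (Nat.add (Nat.shiftRight e 20) 3) (Nat.shiftRight v 20)) 3))

/-- the letters of a packed word, four binary digits for each, the last letter in the lowest digits -/
def wordOf (W : ℕ) : ℕ → List ℕ :=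
  Nat.rec (motive := fun _ => List ℕ) [] (fun j ih => Nat.land (Nat.shiftRight W (Nat.mul 4 j)) 15 :: ih)

/-- a packed word acts on a packed point, the last letter first -/
noncomputable def runN (W L v : ℕ) : ℕ :=
  Nat.rec (motive := fun _ => ℕ) v
    (fun j ih => sN ih fun u => stepN (Nat.land (Nat.shiftRight W (Nat.mul 4 j)) 15) u) L

/-- the packed words of the relators, with their lengths and the displacements by which they act -/
def chkL : List (ℕ × ℕ × ℕ) :=
  [(0, 2, 0),
  (65793, 6, 0),
  (514, 4, 0),
  (771, 4, 0),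
  (1028, 4, 0),
  (1285, 4, 0),
  (1542, 4, 0),
  (1799, 4, 0),
  (2056, 4, 0),
  (2313, 4, 0),
  (2570, 4, 0),
  (2827, 4, 0),
  (17, 2, 0),
  (1184274, 6, 0),
  (4883, 4, 0),
  (5140, 4, 0),
  (5397, 4, 0),
  (5654, 4, 0),
  (5911, 4, 0),
  (6168, 4, 0),
  (6425, 4, 0),
  (6682, 4, 0),
  (6939, 4, 0),
  (34, 2, 0),
  (2302755, 6, 0),
  (9252, 4, 0),
  (9509, 4, 0),
  (9766, 4, 0),
  (10023, 4, 0),
  (10280, 4, 0),
  (10537, 4, 0),
  (10794, 4, 0),
  (11051, 4, 0),
  (51, 2, 0),
  (3421236, 6, 0),
  (13621, 4, 0),
  (13878, 4, 0),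
  (14135, 4, 0),
  (14392, 4, 0),
  (14649, 4, 0),
  (14906, 4, 0),
  (15163, 4, 0),
  (68, 2, 0),
  (4539717, 6, 0),
  (17990, 4, 0),
  (18247, 4, 0),
  (18504, 4, 0),
  (18761, 4, 0),
  (19018, 4, 0),
  (19275, 4, 0),
  (85, 2, 0),
  (5658198, 6, 0),
  (22359, 4, 0),
  (22616, 4, 0),
  (22873, 4, 0),
  (5921370, 6, 0),
  (23387, 4, 0),
  (102, 2, 0),
  (6776679, 6, 0),
  (26728, 4, 0),
  (26985, 4, 0),
  (27242, 4, 0),
  (27499, 4, 0),
  (119, 2, 0),
  (7895160, 6, 0),
  (31097, 4, 0),
  (31354, 4, 0),
  (31611, 4, 0),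
  (136, 2, 0),
  (9013641, 6, 0),
  (35466, 4, 0),
  (35723, 4, 0),
  (153, 2, 0),
  (39578, 4, 0),
  (39835, 4, 0),
  (170, 2, 0),
  (11250603, 6, 0),
  (187, 2, 0),
  (4732197551795786629624269964152679661769256173273216179149201306317932090418, 64, 0),
  (12520022400750531188569246576947926819301419665738418253437657918054754852382369228092726213770782808175867865035533916156000102382642421099030958950528843310272031008295807724347356309268415149211032023933105101043023350015879810521617050389248727094498580995950582769907541794723763627, 238, 2)]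

/-- the check that every packed word of a list moves the point `(a, 0)` to `(a, e)` -/
noncomputable def wordsAt (a : ℕ) : List (ℕ × ℕ × ℕ) → Bool :=
  List.rec (motive := fun _ => Bool) true (fun p _ ih =>
    Bool.rec false ih (Nat.beq (runN p.1 p.2.1 a) (Nat.add a (Nat.mul 1048576 p.2.2))))

/-- the check of the relators at the rows from `lo` to `lo + k` -/
noncomputable def rowsOK (lo k : ℕ) : Bool :=
  Nat.rec (motive := fun _ => Bool) true (fun r ih => Bool.rec false ih (sB (Nat.add lo r) fun a => wordsAt a chkL)) k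

/-- the check that the twelve entries of a row are rows and places in the fibre -/
noncomputable def bdAt (a : ℕ) : ℕ → Bool :=
  Nat.rec (motive := fun _ => Bool) true (fun s ih => Bool.rec false ih
    (sB (ent a s) fun e => Bool.rec false (Nat.blt (Nat.shiftRight e 20) 3) (Nat.blt (Nat.land e 1048575) 306936)))

/-- the check that the entries of the rows from `lo` to `lo + k` are rows and places in the fibre -/
noncomputable def rowsBd (lo k : ℕ) : Bool :=
  Nat.rec (motive := fun _ => Bool) true (fun r ih => Bool.rec false ih (sB (Nat.add lo r) fun a => bdAt a 12)) k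

end Cfsg.Agent.Lib.Helper7.Fi24L
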