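import Cfsg.Agent.Lib.Helper7.Fi24LC
import Mathlib.Tactic

/-!
# The multiplier of the Fischer group Fi₂₄′, a threefold cover of a permutation representation of the presented group Fi₂₄: the meaning of the checks

The checks of `Fi24LC` are written with recursors; here they are unfolded, and checks of adjacent ranges of rows are
joined.
-/

set_option autoImplicit false
set_option maxRecDepth 100000

namespace Cfsg.Agent.Lib.Helper7.Fi24L

theorem sN_eq (x : ℕ) (f : ℕ → ℕ) : sN x f = f x := by cases x <;> rfl

theorem sB_eq (x : ℕ) (f : ℕ → Bool) : sB x f = f x := by cases x <;> rfl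

/-- a test on the numbers below a bound, written with the recursors -/
theorem recAll_iff (g : ℕ → Bool) : ∀ k : ℕ,
    (Nat.rec (motive := fun _ => Bool) true (fun r ih => Bool.rec false ih (g r)) k = true) ↔ ∀ r, r < k → g r = true
  | 0 => ⟨fun _ r hr => absurd hr (Nat.not_lt_zero r), fun _ => rfl⟩
  | k + 1 => by
    have ih := recAll_iff g k
    show (Bool.rec false (Nat.rec (motive := fun _ => Bool) true (fun r ih => Bool.rec false ih (g r)) k) (g k) = true) ↔ _
    constructor
    · intro h r hr
      cases hk : g k with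
      | false => rw [hk] at h; exact absurd h (by simp)
      | true =>
        rw [hk] at h
        rcases Nat.lt_succ_iff_lt_or_eq.1 hr with h1 | h1
        · exact ih.1 h r h1
        · rw [h1]; exact hk
    · intro h
      rw [h k (Nat.lt_succ_self k)]
      exact ih.2 fun r hr => h r (Nat.lt_succ_of_lt hr)

theorem wordsAt_iff (a : ℕ) : ∀ L : List (ℕ × ℕ × ℕ),
    wordsAt a L = true ↔ ∀ p ∈ L, runN p.1 p.2.1 a = a + 1048576 * p.2.2
  | [] => ⟨fun _ p hp => absurd hp (by simp), fun _ => rfl⟩
  | q :: L => by
    have ih := wordsAt_iff a L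
    show (Bool.rec false (wordsAt a L) (Nat.beq (runN q.1 q.2.1 a) (Nat.add a (Nat.mul 1048576 q.2.2))) = true) ↔ _
    constructor
    · intro h p hp
      cases hk : Nat.beq (runN q.1 q.2.1 a) (Nat.add a (Nat.mul 1048576 q.2.2)) with
      | false => rw [hk] at h; exact absurd h (by simp)
      | true =>
        rw [hk] at h
        rcases List.mem_cons.1 hp with rfl | h1
        · exact Nat.eq_of_beq_eq_true hk
        · exact ih.1 h p h1
    · intro h
      have h1 := h q List.mem_cons_self
      have h2 : Nat.beq (runN q.1 q.2.1 a) (Nat.add a (Nat.mul 1048576 q.2.2)) = true := by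
        rw [h1]
        exact Nat.beq_refl _
      rw [h2]
      exact ih.2 fun p hp => h p (List.mem_cons_of_mem _ hp)

theorem rowsOK_iff (lo k : ℕ) : rowsOK lo k = true ↔
    ∀ r, r < k → ∀ p ∈ chkL, runN p.1 p.2.1 (lo + r) = lo + r + 1048576 * p.2.2 := by
  unfold rowsOK
  rw [recAll_iff]
  constructor
  · intro h r hr
    have := h r hr
    rw [sB_eq, wordsAt_iff] at this
    exact this
  · intro h r hr
    rw [sB_eq, wordsAt_iff]
    exact h r hr

theorem bdAt_iff (a : ℕ) (k : ℕ) : bdAt a k = true ↔
    ∀ s, s < k → Nat.land (ent a s) 1048575 < 306936 ∧ Nat.shiftRight (ent a s) 20 < 3 := by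
  unfold bdAt
  rw [recAll_iff]
  constructor
  · intro h s hs
    have h1 := h s hs
    rw [sB_eq] at h1
    cases h2 : Nat.blt (Nat.land (ent a s) 1048575) 306936 with
    | false => rw [h2] at h1; exact absurd h1 (by simp)
    | true =>
      rw [h2] at h1
      exact ⟨by simpa [Nat.blt] using h2, by simpa [Nat.blt] using h1⟩
  · intro h s hs
    obtain ⟨h1, h2⟩ := h s hs
    rw [sB_eq]
    have e1 : Nat.blt (Nat.land (ent a s) 1048575) 306936 = true := by simpa [Nat.blt] using h1
    have e2 : Nat.blt (Nat.shiftRight (ent a s) 20) 3 = true := by simpa [Nat.blt] using h2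
    rw [e1]
    exact e2

theorem rowsBd_iff (lo k : ℕ) : rowsBd lo k = true ↔
    ∀ r, r < k → ∀ s, s < 12 → Nat.land (ent (lo + r) s) 1048575 < 306936 ∧ Nat.shiftRight (ent (lo + r) s) 20 < 3 := by
  unfold rowsBd
  rw [recAll_iff]
  constructor
  · intro h r hr
    have := h r hr
    rw [sB_eq, bdAt_iff] at this
    exact this
  · intro h r hr
    rw [sB_eq, bdAt_iff]
    exact h r hr

/-- the checks of two adjacent ranges of rows give the check of their union -/
theorem rowsOK_join (lo k k' m : ℕ) (hm : lo + k = m) (h1 : rowsOK lo k = true) (h2 : rowsOK m k' = true) :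
    rowsOK lo (k + k') = true := by
  subst hm
  rw [rowsOK_iff] at h1 h2 ⊢
  intro r hr p hp
  rcases Nat.lt_or_ge r k with h | h
  · exact h1 r h p hp
  · have := h2 (r - k) (by omega) p hp
    have e : lo + k + (r - k) = lo + r := by omega
    rw [e] at this
    exact this

/-- the checks of two adjacent ranges of rows give the check of their union -/
theorem rowsBd_join (lo k k' m : ℕ) (hm : lo + k = m) (h1 : rowsBd lo k = true) (h2 : rowsBd m k' = true) :
    rowsBd lo (k + k') = true := by
  subst hm
  rw [rowsBd_iff] at h1 h2 ⊢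
  intro r hr s hs
  rcases Nat.lt_or_ge r k with h | h
  · exact h1 r h s hs
  · have := h2 (r - k) (by omega) s hs
    have e : lo + k + (r - k) = lo + r := by omega
    rw [e] at this
    exact this

end Cfsg.Agent.Lib.Helper7.Fi24L
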