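import Cfsg.Agent.Lib.Helper7.Fi24LK16
import Cfsg.Agent.Lib.Helper7.Fi24LK17
import Cfsg.Agent.Lib.Helper7.Fi24LK18
import Cfsg.Agent.Lib.Helper7.Fi24LK19
import Cfsg.Agent.Lib.Helper7.Fi24LK20
import Cfsg.Agent.Lib.Helper7.Fi24LK21
import Cfsg.Agent.Lib.Helper7.Fi24LK22
import Cfsg.Agent.Lib.Helper7.Fi24LK23
import Cfsg.Agent.Lib.Helper7.Fi24LK24
import Cfsg.Agent.Lib.Helper7.Fi24LK25
import Cfsg.Agent.Lib.Helper7.Fi24LK26
import Cfsg.Agent.Lib.Helper7.Fi24LK27
import Cfsg.Agent.Lib.Helper7.Fi24LK28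
import Cfsg.Agent.Lib.Helper7.Fi24LK29
import Cfsg.Agent.Lib.Helper7.Fi24LK30
import Cfsg.Agent.Lib.Helper7.Fi24LK31
import Cfsg.Agent.Lib.Helper7.Fi24LE

/-! # The multiplier of the Fischer group Fi₂₄′, a threefold cover of a permutation representation of the presented group Fi₂₄: the checks of a part of the rows are joined (generated) -/

set_option autoImplicit false
set_option maxRecDepth 100000

namespace Cfsg.Agent.Lib.Helper7.Fi24L

theorem grp1_1 : rowsOK 16000 250 = true :=
  rowsOK_join 16000 125 125 16125 rfl rows_ok_128 rows_ok_129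

theorem grp1_2 : rowsOK 16000 375 = true :=
  rowsOK_join 16000 250 125 16250 rfl grp1_1 rows_ok_130

theorem grp1_3 : rowsOK 16000 500 = true :=
  rowsOK_join 16000 375 125 16375 rfl grp1_2 rows_ok_131

theorem grp1_4 : rowsOK 16000 625 = true :=
  rowsOK_join 16000 500 125 16500 rfl grp1_3 rows_ok_132

theorem grp1_5 : rowsOK 16000 750 = true :=
  rowsOK_join 16000 625 125 16625 rfl grp1_4 rows_ok_133

theorem grp1_6 : rowsOK 16000 875 = true :=
  rowsOK_join 16000 750 125 16750 rfl grp1_5 rows_ok_134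

theorem grp1_7 : rowsOK 16000 1000 = true :=
  rowsOK_join 16000 875 125 16875 rfl grp1_6 rows_ok_135

theorem grp1_8 : rowsOK 16000 1125 = true :=
  rowsOK_join 16000 1000 125 17000 rfl grp1_7 rows_ok_136

theorem grp1_9 : rowsOK 16000 1250 = true :=
  rowsOK_join 16000 1125 125 17125 rfl grp1_8 rows_ok_137

theorem grp1_10 : rowsOK 16000 1375 = true :=
  rowsOK_join 16000 1250 125 17250 rfl grp1_9 rows_ok_138

theorem grp1_11 : rowsOK 16000 1500 = true :=
  rowsOK_join 16000 1375 125 17375 rfl grp1_10 rows_ok_139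

theorem grp1_12 : rowsOK 16000 1625 = true :=
  rowsOK_join 16000 1500 125 17500 rfl grp1_11 rows_ok_140

theorem grp1_13 : rowsOK 16000 1750 = true :=
  rowsOK_join 16000 1625 125 17625 rfl grp1_12 rows_ok_141

theorem grp1_14 : rowsOK 16000 1875 = true :=
  rowsOK_join 16000 1750 125 17750 rfl grp1_13 rows_ok_142

theorem grp1_15 : rowsOK 16000 2000 = true :=
  rowsOK_join 16000 1875 125 17875 rfl grp1_14 rows_ok_143

theorem grp1_16 : rowsOK 16000 2125 = true :=
  rowsOK_join 16000 2000 125 18000 rfl grp1_15 rows_ok_144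

theorem grp1_17 : rowsOK 16000 2250 = true :=
  rowsOK_join 16000 2125 125 18125 rfl grp1_16 rows_ok_145

theorem grp1_18 : rowsOK 16000 2375 = true :=
  rowsOK_join 16000 2250 125 18250 rfl grp1_17 rows_ok_146

theorem grp1_19 : rowsOK 16000 2500 = true :=
  rowsOK_join 16000 2375 125 18375 rfl grp1_18 rows_ok_147

theorem grp1_20 : rowsOK 16000 2625 = true :=
  rowsOK_join 16000 2500 125 18500 rfl grp1_19 rows_ok_148

theorem grp1_21 : rowsOK 16000 2750 = true :=
  rowsOK_join 16000 2625 125 18625 rfl grp1_20 rows_ok_149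

theorem grp1_22 : rowsOK 16000 2875 = true :=
  rowsOK_join 16000 2750 125 18750 rfl grp1_21 rows_ok_150

theorem grp1_23 : rowsOK 16000 3000 = true :=
  rowsOK_join 16000 2875 125 18875 rfl grp1_22 rows_ok_151

theorem grp1_24 : rowsOK 16000 3125 = true :=
  rowsOK_join 16000 3000 125 19000 rfl grp1_23 rows_ok_152

theorem grp1_25 : rowsOK 16000 3250 = true :=
  rowsOK_join 16000 3125 125 19125 rfl grp1_24 rows_ok_153

theorem grp1_26 : rowsOK 16000 3375 = true :=
  rowsOK_join 16000 3250 125 19250 rfl grp1_25 rows_ok_154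

theorem grp1_27 : rowsOK 16000 3500 = true :=
  rowsOK_join 16000 3375 125 19375 rfl grp1_26 rows_ok_155

theorem grp1_28 : rowsOK 16000 3625 = true :=
  rowsOK_join 16000 3500 125 19500 rfl grp1_27 rows_ok_156

theorem grp1_29 : rowsOK 16000 3750 = true :=
  rowsOK_join 16000 3625 125 19625 rfl grp1_28 rows_ok_157

theorem grp1_30 : rowsOK 16000 3875 = true :=
  rowsOK_join 16000 3750 125 19750 rfl grp1_29 rows_ok_158

theorem grp1_31 : rowsOK 16000 4000 = true :=
  rowsOK_join 16000 3875 125 19875 rfl grp1_30 rows_ok_159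

theorem grp1_32 : rowsOK 16000 4125 = true :=
  rowsOK_join 16000 4000 125 20000 rfl grp1_31 rows_ok_160

theorem grp1_33 : rowsOK 16000 4250 = true :=
  rowsOK_join 16000 4125 125 20125 rfl grp1_32 rows_ok_161

theorem grp1_34 : rowsOK 16000 4375 = true :=
  rowsOK_join 16000 4250 125 20250 rfl grp1_33 rows_ok_162

theorem grp1_35 : rowsOK 16000 4500 = true :=
  rowsOK_join 16000 4375 125 20375 rfl grp1_34 rows_ok_163

theorem grp1_36 : rowsOK 16000 4625 = true :=
  rowsOK_join 16000 4500 125 20500 rfl grp1_35 rows_ok_164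

theorem grp1_37 : rowsOK 16000 4750 = true :=
  rowsOK_join 16000 4625 125 20625 rfl grp1_36 rows_ok_165

theorem grp1_38 : rowsOK 16000 4875 = true :=
  rowsOK_join 16000 4750 125 20750 rfl grp1_37 rows_ok_166

theorem grp1_39 : rowsOK 16000 5000 = true :=
  rowsOK_join 16000 4875 125 20875 rfl grp1_38 rows_ok_167

theorem grp1_40 : rowsOK 16000 5125 = true :=
  rowsOK_join 16000 5000 125 21000 rfl grp1_39 rows_ok_168

theorem grp1_41 : rowsOK 16000 5250 = true :=
  rowsOK_join 16000 5125 125 21125 rfl grp1_40 rows_ok_169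

theorem grp1_42 : rowsOK 16000 5375 = true :=
  rowsOK_join 16000 5250 125 21250 rfl grp1_41 rows_ok_170

theorem grp1_43 : rowsOK 16000 5500 = true :=
  rowsOK_join 16000 5375 125 21375 rfl grp1_42 rows_ok_171

theorem grp1_44 : rowsOK 16000 5625 = true :=
  rowsOK_join 16000 5500 125 21500 rfl grp1_43 rows_ok_172

theorem grp1_45 : rowsOK 16000 5750 = true :=
  rowsOK_join 16000 5625 125 21625 rfl grp1_44 rows_ok_173

theorem grp1_46 : rowsOK 16000 5875 = true :=
  rowsOK_join 16000 5750 125 21750 rfl grp1_45 rows_ok_174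

theorem grp1_47 : rowsOK 16000 6000 = true :=
  rowsOK_join 16000 5875 125 21875 rfl grp1_46 rows_ok_175

theorem grp1_48 : rowsOK 16000 6125 = true :=
  rowsOK_join 16000 6000 125 22000 rfl grp1_47 rows_ok_176

theorem grp1_49 : rowsOK 16000 6250 = true :=
  rowsOK_join 16000 6125 125 22125 rfl grp1_48 rows_ok_177

theorem grp1_50 : rowsOK 16000 6375 = true :=
  rowsOK_join 16000 6250 125 22250 rfl grp1_49 rows_ok_178

theorem grp1_51 : rowsOK 16000 6500 = true :=
  rowsOK_join 16000 6375 125 22375 rfl grp1_50 rows_ok_179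

theorem grp1_52 : rowsOK 16000 6625 = true :=
  rowsOK_join 16000 6500 125 22500 rfl grp1_51 rows_ok_180

theorem grp1_53 : rowsOK 16000 6750 = true :=
  rowsOK_join 16000 6625 125 22625 rfl grp1_52 rows_ok_181

theorem grp1_54 : rowsOK 16000 6875 = true :=
  rowsOK_join 16000 6750 125 22750 rfl grp1_53 rows_ok_182

theorem grp1_55 : rowsOK 16000 7000 = true :=
  rowsOK_join 16000 6875 125 22875 rfl grp1_54 rows_ok_183

theorem grp1_56 : rowsOK 16000 7125 = true :=
  rowsOK_join 16000 7000 125 23000 rfl grp1_55 rows_ok_184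

theorem grp1_57 : rowsOK 16000 7250 = true :=
  rowsOK_join 16000 7125 125 23125 rfl grp1_56 rows_ok_185

theorem grp1_58 : rowsOK 16000 7375 = true :=
  rowsOK_join 16000 7250 125 23250 rfl grp1_57 rows_ok_186

theorem grp1_59 : rowsOK 16000 7500 = true :=
  rowsOK_join 16000 7375 125 23375 rfl grp1_58 rows_ok_187

theorem grp1_60 : rowsOK 16000 7625 = true :=
  rowsOK_join 16000 7500 125 23500 rfl grp1_59 rows_ok_188

theorem grp1_61 : rowsOK 16000 7750 = true :=
  rowsOK_join 16000 7625 125 23625 rfl grp1_60 rows_ok_189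

theorem grp1_62 : rowsOK 16000 7875 = true :=
  rowsOK_join 16000 7750 125 23750 rfl grp1_61 rows_ok_190

theorem grp1_63 : rowsOK 16000 8000 = true :=
  rowsOK_join 16000 7875 125 23875 rfl grp1_62 rows_ok_191

theorem grp1_64 : rowsOK 16000 8125 = true :=
  rowsOK_join 16000 8000 125 24000 rfl grp1_63 rows_ok_192

theorem grp1_65 : rowsOK 16000 8250 = true :=
  rowsOK_join 16000 8125 125 24125 rfl grp1_64 rows_ok_193

theorem grp1_66 : rowsOK 16000 8375 = true :=
  rowsOK_join 16000 8250 125 24250 rfl grp1_65 rows_ok_194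

theorem grp1_67 : rowsOK 16000 8500 = true :=
  rowsOK_join 16000 8375 125 24375 rfl grp1_66 rows_ok_195

theorem grp1_68 : rowsOK 16000 8625 = true :=
  rowsOK_join 16000 8500 125 24500 rfl grp1_67 rows_ok_196

theorem grp1_69 : rowsOK 16000 8750 = true :=
  rowsOK_join 16000 8625 125 24625 rfl grp1_68 rows_ok_197

theorem grp1_70 : rowsOK 16000 8875 = true :=
  rowsOK_join 16000 8750 125 24750 rfl grp1_69 rows_ok_198

theorem grp1_71 : rowsOK 16000 9000 = true :=
  rowsOK_join 16000 8875 125 24875 rfl grp1_70 rows_ok_199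

theorem grp1_72 : rowsOK 16000 9125 = true :=
  rowsOK_join 16000 9000 125 25000 rfl grp1_71 rows_ok_200

theorem grp1_73 : rowsOK 16000 9250 = true :=
  rowsOK_join 16000 9125 125 25125 rfl grp1_72 rows_ok_201

theorem grp1_74 : rowsOK 16000 9375 = true :=
  rowsOK_join 16000 9250 125 25250 rfl grp1_73 rows_ok_202

theorem grp1_75 : rowsOK 16000 9500 = true :=
  rowsOK_join 16000 9375 125 25375 rfl grp1_74 rows_ok_203

theorem grp1_76 : rowsOK 16000 9625 = true :=
  rowsOK_join 16000 9500 125 25500 rfl grp1_75 rows_ok_204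

theorem grp1_77 : rowsOK 16000 9750 = true :=
  rowsOK_join 16000 9625 125 25625 rfl grp1_76 rows_ok_205

theorem grp1_78 : rowsOK 16000 9875 = true :=
  rowsOK_join 16000 9750 125 25750 rfl grp1_77 rows_ok_206

theorem grp1_79 : rowsOK 16000 10000 = true :=
  rowsOK_join 16000 9875 125 25875 rfl grp1_78 rows_ok_207

theorem grp1_80 : rowsOK 16000 10125 = true :=
  rowsOK_join 16000 10000 125 26000 rfl grp1_79 rows_ok_208

theorem grp1_81 : rowsOK 16000 10250 = true :=
  rowsOK_join 16000 10125 125 26125 rfl grp1_80 rows_ok_209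

theorem grp1_82 : rowsOK 16000 10375 = true :=
  rowsOK_join 16000 10250 125 26250 rfl grp1_81 rows_ok_210

theorem grp1_83 : rowsOK 16000 10500 = true :=
  rowsOK_join 16000 10375 125 26375 rfl grp1_82 rows_ok_211

theorem grp1_84 : rowsOK 16000 10625 = true :=
  rowsOK_join 16000 10500 125 26500 rfl grp1_83 rows_ok_212

theorem grp1_85 : rowsOK 16000 10750 = true :=
  rowsOK_join 16000 10625 125 26625 rfl grp1_84 rows_ok_213

theorem grp1_86 : rowsOK 16000 10875 = true :=
  rowsOK_join 16000 10750 125 26750 rfl grp1_85 rows_ok_214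

theorem grp1_87 : rowsOK 16000 11000 = true :=
  rowsOK_join 16000 10875 125 26875 rfl grp1_86 rows_ok_215

theorem grp1_88 : rowsOK 16000 11125 = true :=
  rowsOK_join 16000 11000 125 27000 rfl grp1_87 rows_ok_216

theorem grp1_89 : rowsOK 16000 11250 = true :=
  rowsOK_join 16000 11125 125 27125 rfl grp1_88 rows_ok_217

theorem grp1_90 : rowsOK 16000 11375 = true :=
  rowsOK_join 16000 11250 125 27250 rfl grp1_89 rows_ok_218

theorem grp1_91 : rowsOK 16000 11500 = true :=
  rowsOK_join 16000 11375 125 27375 rfl grp1_90 rows_ok_219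

theorem grp1_92 : rowsOK 16000 11625 = true :=
  rowsOK_join 16000 11500 125 27500 rfl grp1_91 rows_ok_220

theorem grp1_93 : rowsOK 16000 11750 = true :=
  rowsOK_join 16000 11625 125 27625 rfl grp1_92 rows_ok_221

theorem grp1_94 : rowsOK 16000 11875 = true :=
  rowsOK_join 16000 11750 125 27750 rfl grp1_93 rows_ok_222

theorem grp1_95 : rowsOK 16000 12000 = true :=
  rowsOK_join 16000 11875 125 27875 rfl grp1_94 rows_ok_223

theorem grp1_96 : rowsOK 16000 12125 = true :=
  rowsOK_join 16000 12000 125 28000 rfl grp1_95 rows_ok_224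

theorem grp1_97 : rowsOK 16000 12250 = true :=
  rowsOK_join 16000 12125 125 28125 rfl grp1_96 rows_ok_225

theorem grp1_98 : rowsOK 16000 12375 = true :=
  rowsOK_join 16000 12250 125 28250 rfl grp1_97 rows_ok_226

theorem grp1_99 : rowsOK 16000 12500 = true :=
  rowsOK_join 16000 12375 125 28375 rfl grp1_98 rows_ok_227

theorem grp1_100 : rowsOK 16000 12625 = true :=
  rowsOK_join 16000 12500 125 28500 rfl grp1_99 rows_ok_228

theorem grp1_101 : rowsOK 16000 12750 = true :=
  rowsOK_join 16000 12625 125 28625 rfl grp1_100 rows_ok_229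

theorem grp1_102 : rowsOK 16000 12875 = true :=
  rowsOK_join 16000 12750 125 28750 rfl grp1_101 rows_ok_230

theorem grp1_103 : rowsOK 16000 13000 = true :=
  rowsOK_join 16000 12875 125 28875 rfl grp1_102 rows_ok_231

theorem grp1_104 : rowsOK 16000 13125 = true :=
  rowsOK_join 16000 13000 125 29000 rfl grp1_103 rows_ok_232

theorem grp1_105 : rowsOK 16000 13250 = true :=
  rowsOK_join 16000 13125 125 29125 rfl grp1_104 rows_ok_233

theorem grp1_106 : rowsOK 16000 13375 = true :=
  rowsOK_join 16000 13250 125 29250 rfl grp1_105 rows_ok_234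

theorem grp1_107 : rowsOK 16000 13500 = true :=
  rowsOK_join 16000 13375 125 29375 rfl grp1_106 rows_ok_235

theorem grp1_108 : rowsOK 16000 13625 = true :=
  rowsOK_join 16000 13500 125 29500 rfl grp1_107 rows_ok_236

theorem grp1_109 : rowsOK 16000 13750 = true :=
  rowsOK_join 16000 13625 125 29625 rfl grp1_108 rows_ok_237

theorem grp1_110 : rowsOK 16000 13875 = true :=
  rowsOK_join 16000 13750 125 29750 rfl grp1_109 rows_ok_238

theorem grp1_111 : rowsOK 16000 14000 = true :=
  rowsOK_join 16000 13875 125 29875 rfl grp1_110 rows_ok_239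

theorem grp1_112 : rowsOK 16000 14125 = true :=
  rowsOK_join 16000 14000 125 30000 rfl grp1_111 rows_ok_240

theorem grp1_113 : rowsOK 16000 14250 = true :=
  rowsOK_join 16000 14125 125 30125 rfl grp1_112 rows_ok_241

theorem grp1_114 : rowsOK 16000 14375 = true :=
  rowsOK_join 16000 14250 125 30250 rfl grp1_113 rows_ok_242

theorem grp1_115 : rowsOK 16000 14500 = true :=
  rowsOK_join 16000 14375 125 30375 rfl grp1_114 rows_ok_243

theorem grp1_116 : rowsOK 16000 14625 = true :=
  rowsOK_join 16000 14500 125 30500 rfl grp1_115 rows_ok_244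

theorem grp1_117 : rowsOK 16000 14750 = true :=
  rowsOK_join 16000 14625 125 30625 rfl grp1_116 rows_ok_245

theorem grp1_118 : rowsOK 16000 14875 = true :=
  rowsOK_join 16000 14750 125 30750 rfl grp1_117 rows_ok_246

theorem grp1_119 : rowsOK 16000 15000 = true :=
  rowsOK_join 16000 14875 125 30875 rfl grp1_118 rows_ok_247

theorem grp1_120 : rowsOK 16000 15125 = true :=
  rowsOK_join 16000 15000 125 31000 rfl grp1_119 rows_ok_248

theorem grp1_121 : rowsOK 16000 15250 = true :=
  rowsOK_join 16000 15125 125 31125 rfl grp1_120 rows_ok_249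

theorem grp1_122 : rowsOK 16000 15375 = true :=
  rowsOK_join 16000 15250 125 31250 rfl grp1_121 rows_ok_250

theorem grp1_123 : rowsOK 16000 15500 = true :=
  rowsOK_join 16000 15375 125 31375 rfl grp1_122 rows_ok_251

theorem grp1_124 : rowsOK 16000 15625 = true :=
  rowsOK_join 16000 15500 125 31500 rfl grp1_123 rows_ok_252

theorem grp1_125 : rowsOK 16000 15750 = true :=
  rowsOK_join 16000 15625 125 31625 rfl grp1_124 rows_ok_253

theorem grp1_126 : rowsOK 16000 15875 = true :=
  rowsOK_join 16000 15750 125 31750 rfl grp1_125 rows_ok_254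

theorem rows_ok_grp_1 : rowsOK 16000 16000 = true :=
  rowsOK_join 16000 15875 125 31875 rfl grp1_126 rows_ok_255

end Cfsg.Agent.Lib.Helper7.Fi24L
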