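import Cfsg.Agent.Lib.Helper7.Fi24LK160
import Cfsg.Agent.Lib.Helper7.Fi24LK161
import Cfsg.Agent.Lib.Helper7.Fi24LK162
import Cfsg.Agent.Lib.Helper7.Fi24LK163
import Cfsg.Agent.Lib.Helper7.Fi24LK164
import Cfsg.Agent.Lib.Helper7.Fi24LK165
import Cfsg.Agent.Lib.Helper7.Fi24LK166
import Cfsg.Agent.Lib.Helper7.Fi24LK167
import Cfsg.Agent.Lib.Helper7.Fi24LK168
import Cfsg.Agent.Lib.Helper7.Fi24LK169
import Cfsg.Agent.Lib.Helper7.Fi24LK170
import Cfsg.Agent.Lib.Helper7.Fi24LK171
import Cfsg.Agent.Lib.Helper7.Fi24LK172
import Cfsg.Agent.Lib.Helper7.Fi24LK173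
import Cfsg.Agent.Lib.Helper7.Fi24LK174
import Cfsg.Agent.Lib.Helper7.Fi24LK175
import Cfsg.Agent.Lib.Helper7.Fi24LE

/-! # The multiplier of the Fischer group Fi₂₄′, a threefold cover of a permutation representation of the presented group Fi₂₄: the checks of a part of the rows are joined (generated) -/

set_option autoImplicit false
set_option maxRecDepth 100000

namespace Cfsg.Agent.Lib.Helper7.Fi24L

theorem grp10_1 : rowsOK 160000 250 = true :=
  rowsOK_join 160000 125 125 160125 rfl rows_ok_1280 rows_ok_1281

theorem grp10_2 : rowsOK 160000 375 = true :=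
  rowsOK_join 160000 250 125 160250 rfl grp10_1 rows_ok_1282

theorem grp10_3 : rowsOK 160000 500 = true :=
  rowsOK_join 160000 375 125 160375 rfl grp10_2 rows_ok_1283

theorem grp10_4 : rowsOK 160000 625 = true :=
  rowsOK_join 160000 500 125 160500 rfl grp10_3 rows_ok_1284

theorem grp10_5 : rowsOK 160000 750 = true :=
  rowsOK_join 160000 625 125 160625 rfl grp10_4 rows_ok_1285

theorem grp10_6 : rowsOK 160000 875 = true :=
  rowsOK_join 160000 750 125 160750 rfl grp10_5 rows_ok_1286

theorem grp10_7 : rowsOK 160000 1000 = true :=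
  rowsOK_join 160000 875 125 160875 rfl grp10_6 rows_ok_1287

theorem grp10_8 : rowsOK 160000 1125 = true :=
  rowsOK_join 160000 1000 125 161000 rfl grp10_7 rows_ok_1288

theorem grp10_9 : rowsOK 160000 1250 = true :=
  rowsOK_join 160000 1125 125 161125 rfl grp10_8 rows_ok_1289

theorem grp10_10 : rowsOK 160000 1375 = true :=
  rowsOK_join 160000 1250 125 161250 rfl grp10_9 rows_ok_1290

theorem grp10_11 : rowsOK 160000 1500 = true :=
  rowsOK_join 160000 1375 125 161375 rfl grp10_10 rows_ok_1291

theorem grp10_12 : rowsOK 160000 1625 = true :=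
  rowsOK_join 160000 1500 125 161500 rfl grp10_11 rows_ok_1292

theorem grp10_13 : rowsOK 160000 1750 = true :=
  rowsOK_join 160000 1625 125 161625 rfl grp10_12 rows_ok_1293

theorem grp10_14 : rowsOK 160000 1875 = true :=
  rowsOK_join 160000 1750 125 161750 rfl grp10_13 rows_ok_1294

theorem grp10_15 : rowsOK 160000 2000 = true :=
  rowsOK_join 160000 1875 125 161875 rfl grp10_14 rows_ok_1295

theorem grp10_16 : rowsOK 160000 2125 = true :=
  rowsOK_join 160000 2000 125 162000 rfl grp10_15 rows_ok_1296

theorem grp10_17 : rowsOK 160000 2250 = true :=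
  rowsOK_join 160000 2125 125 162125 rfl grp10_16 rows_ok_1297

theorem grp10_18 : rowsOK 160000 2375 = true :=
  rowsOK_join 160000 2250 125 162250 rfl grp10_17 rows_ok_1298

theorem grp10_19 : rowsOK 160000 2500 = true :=
  rowsOK_join 160000 2375 125 162375 rfl grp10_18 rows_ok_1299

theorem grp10_20 : rowsOK 160000 2625 = true :=
  rowsOK_join 160000 2500 125 162500 rfl grp10_19 rows_ok_1300

theorem grp10_21 : rowsOK 160000 2750 = true :=
  rowsOK_join 160000 2625 125 162625 rfl grp10_20 rows_ok_1301

theorem grp10_22 : rowsOK 160000 2875 = true :=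
  rowsOK_join 160000 2750 125 162750 rfl grp10_21 rows_ok_1302

theorem grp10_23 : rowsOK 160000 3000 = true :=
  rowsOK_join 160000 2875 125 162875 rfl grp10_22 rows_ok_1303

theorem grp10_24 : rowsOK 160000 3125 = true :=
  rowsOK_join 160000 3000 125 163000 rfl grp10_23 rows_ok_1304

theorem grp10_25 : rowsOK 160000 3250 = true :=
  rowsOK_join 160000 3125 125 163125 rfl grp10_24 rows_ok_1305

theorem grp10_26 : rowsOK 160000 3375 = true :=
  rowsOK_join 160000 3250 125 163250 rfl grp10_25 rows_ok_1306

theorem grp10_27 : rowsOK 160000 3500 = true :=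
  rowsOK_join 160000 3375 125 163375 rfl grp10_26 rows_ok_1307

theorem grp10_28 : rowsOK 160000 3625 = true :=
  rowsOK_join 160000 3500 125 163500 rfl grp10_27 rows_ok_1308

theorem grp10_29 : rowsOK 160000 3750 = true :=
  rowsOK_join 160000 3625 125 163625 rfl grp10_28 rows_ok_1309

theorem grp10_30 : rowsOK 160000 3875 = true :=
  rowsOK_join 160000 3750 125 163750 rfl grp10_29 rows_ok_1310

theorem grp10_31 : rowsOK 160000 4000 = true :=
  rowsOK_join 160000 3875 125 163875 rfl grp10_30 rows_ok_1311

theorem grp10_32 : rowsOK 160000 4125 = true :=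
  rowsOK_join 160000 4000 125 164000 rfl grp10_31 rows_ok_1312

theorem grp10_33 : rowsOK 160000 4250 = true :=
  rowsOK_join 160000 4125 125 164125 rfl grp10_32 rows_ok_1313

theorem grp10_34 : rowsOK 160000 4375 = true :=
  rowsOK_join 160000 4250 125 164250 rfl grp10_33 rows_ok_1314

theorem grp10_35 : rowsOK 160000 4500 = true :=
  rowsOK_join 160000 4375 125 164375 rfl grp10_34 rows_ok_1315

theorem grp10_36 : rowsOK 160000 4625 = true :=
  rowsOK_join 160000 4500 125 164500 rfl grp10_35 rows_ok_1316

theorem grp10_37 : rowsOK 160000 4750 = true :=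
  rowsOK_join 160000 4625 125 164625 rfl grp10_36 rows_ok_1317

theorem grp10_38 : rowsOK 160000 4875 = true :=
  rowsOK_join 160000 4750 125 164750 rfl grp10_37 rows_ok_1318

theorem grp10_39 : rowsOK 160000 5000 = true :=
  rowsOK_join 160000 4875 125 164875 rfl grp10_38 rows_ok_1319

theorem grp10_40 : rowsOK 160000 5125 = true :=
  rowsOK_join 160000 5000 125 165000 rfl grp10_39 rows_ok_1320

theorem grp10_41 : rowsOK 160000 5250 = true :=
  rowsOK_join 160000 5125 125 165125 rfl grp10_40 rows_ok_1321

theorem grp10_42 : rowsOK 160000 5375 = true :=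
  rowsOK_join 160000 5250 125 165250 rfl grp10_41 rows_ok_1322

theorem grp10_43 : rowsOK 160000 5500 = true :=
  rowsOK_join 160000 5375 125 165375 rfl grp10_42 rows_ok_1323

theorem grp10_44 : rowsOK 160000 5625 = true :=
  rowsOK_join 160000 5500 125 165500 rfl grp10_43 rows_ok_1324

theorem grp10_45 : rowsOK 160000 5750 = true :=
  rowsOK_join 160000 5625 125 165625 rfl grp10_44 rows_ok_1325

theorem grp10_46 : rowsOK 160000 5875 = true :=
  rowsOK_join 160000 5750 125 165750 rfl grp10_45 rows_ok_1326

theorem grp10_47 : rowsOK 160000 6000 = true :=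
  rowsOK_join 160000 5875 125 165875 rfl grp10_46 rows_ok_1327

theorem grp10_48 : rowsOK 160000 6125 = true :=
  rowsOK_join 160000 6000 125 166000 rfl grp10_47 rows_ok_1328

theorem grp10_49 : rowsOK 160000 6250 = true :=
  rowsOK_join 160000 6125 125 166125 rfl grp10_48 rows_ok_1329

theorem grp10_50 : rowsOK 160000 6375 = true :=
  rowsOK_join 160000 6250 125 166250 rfl grp10_49 rows_ok_1330

theorem grp10_51 : rowsOK 160000 6500 = true :=
  rowsOK_join 160000 6375 125 166375 rfl grp10_50 rows_ok_1331

theorem grp10_52 : rowsOK 160000 6625 = true :=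
  rowsOK_join 160000 6500 125 166500 rfl grp10_51 rows_ok_1332

theorem grp10_53 : rowsOK 160000 6750 = true :=
  rowsOK_join 160000 6625 125 166625 rfl grp10_52 rows_ok_1333

theorem grp10_54 : rowsOK 160000 6875 = true :=
  rowsOK_join 160000 6750 125 166750 rfl grp10_53 rows_ok_1334

theorem grp10_55 : rowsOK 160000 7000 = true :=
  rowsOK_join 160000 6875 125 166875 rfl grp10_54 rows_ok_1335

theorem grp10_56 : rowsOK 160000 7125 = true :=
  rowsOK_join 160000 7000 125 167000 rfl grp10_55 rows_ok_1336

theorem grp10_57 : rowsOK 160000 7250 = true :=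
  rowsOK_join 160000 7125 125 167125 rfl grp10_56 rows_ok_1337

theorem grp10_58 : rowsOK 160000 7375 = true :=
  rowsOK_join 160000 7250 125 167250 rfl grp10_57 rows_ok_1338

theorem grp10_59 : rowsOK 160000 7500 = true :=
  rowsOK_join 160000 7375 125 167375 rfl grp10_58 rows_ok_1339

theorem grp10_60 : rowsOK 160000 7625 = true :=
  rowsOK_join 160000 7500 125 167500 rfl grp10_59 rows_ok_1340

theorem grp10_61 : rowsOK 160000 7750 = true :=
  rowsOK_join 160000 7625 125 167625 rfl grp10_60 rows_ok_1341

theorem grp10_62 : rowsOK 160000 7875 = true :=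
  rowsOK_join 160000 7750 125 167750 rfl grp10_61 rows_ok_1342

theorem grp10_63 : rowsOK 160000 8000 = true :=
  rowsOK_join 160000 7875 125 167875 rfl grp10_62 rows_ok_1343

theorem grp10_64 : rowsOK 160000 8125 = true :=
  rowsOK_join 160000 8000 125 168000 rfl grp10_63 rows_ok_1344

theorem grp10_65 : rowsOK 160000 8250 = true :=
  rowsOK_join 160000 8125 125 168125 rfl grp10_64 rows_ok_1345

theorem grp10_66 : rowsOK 160000 8375 = true :=
  rowsOK_join 160000 8250 125 168250 rfl grp10_65 rows_ok_1346

theorem grp10_67 : rowsOK 160000 8500 = true :=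
  rowsOK_join 160000 8375 125 168375 rfl grp10_66 rows_ok_1347

theorem grp10_68 : rowsOK 160000 8625 = true :=
  rowsOK_join 160000 8500 125 168500 rfl grp10_67 rows_ok_1348

theorem grp10_69 : rowsOK 160000 8750 = true :=
  rowsOK_join 160000 8625 125 168625 rfl grp10_68 rows_ok_1349

theorem grp10_70 : rowsOK 160000 8875 = true :=
  rowsOK_join 160000 8750 125 168750 rfl grp10_69 rows_ok_1350

theorem grp10_71 : rowsOK 160000 9000 = true :=
  rowsOK_join 160000 8875 125 168875 rfl grp10_70 rows_ok_1351

theorem grp10_72 : rowsOK 160000 9125 = true :=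
  rowsOK_join 160000 9000 125 169000 rfl grp10_71 rows_ok_1352

theorem grp10_73 : rowsOK 160000 9250 = true :=
  rowsOK_join 160000 9125 125 169125 rfl grp10_72 rows_ok_1353

theorem grp10_74 : rowsOK 160000 9375 = true :=
  rowsOK_join 160000 9250 125 169250 rfl grp10_73 rows_ok_1354

theorem grp10_75 : rowsOK 160000 9500 = true :=
  rowsOK_join 160000 9375 125 169375 rfl grp10_74 rows_ok_1355

theorem grp10_76 : rowsOK 160000 9625 = true :=
  rowsOK_join 160000 9500 125 169500 rfl grp10_75 rows_ok_1356

theorem grp10_77 : rowsOK 160000 9750 = true :=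
  rowsOK_join 160000 9625 125 169625 rfl grp10_76 rows_ok_1357

theorem grp10_78 : rowsOK 160000 9875 = true :=
  rowsOK_join 160000 9750 125 169750 rfl grp10_77 rows_ok_1358

theorem grp10_79 : rowsOK 160000 10000 = true :=
  rowsOK_join 160000 9875 125 169875 rfl grp10_78 rows_ok_1359

theorem grp10_80 : rowsOK 160000 10125 = true :=
  rowsOK_join 160000 10000 125 170000 rfl grp10_79 rows_ok_1360

theorem grp10_81 : rowsOK 160000 10250 = true :=
  rowsOK_join 160000 10125 125 170125 rfl grp10_80 rows_ok_1361

theorem grp10_82 : rowsOK 160000 10375 = true :=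
  rowsOK_join 160000 10250 125 170250 rfl grp10_81 rows_ok_1362

theorem grp10_83 : rowsOK 160000 10500 = true :=
  rowsOK_join 160000 10375 125 170375 rfl grp10_82 rows_ok_1363

theorem grp10_84 : rowsOK 160000 10625 = true :=
  rowsOK_join 160000 10500 125 170500 rfl grp10_83 rows_ok_1364

theorem grp10_85 : rowsOK 160000 10750 = true :=
  rowsOK_join 160000 10625 125 170625 rfl grp10_84 rows_ok_1365

theorem grp10_86 : rowsOK 160000 10875 = true :=
  rowsOK_join 160000 10750 125 170750 rfl grp10_85 rows_ok_1366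

theorem grp10_87 : rowsOK 160000 11000 = true :=
  rowsOK_join 160000 10875 125 170875 rfl grp10_86 rows_ok_1367

theorem grp10_88 : rowsOK 160000 11125 = true :=
  rowsOK_join 160000 11000 125 171000 rfl grp10_87 rows_ok_1368

theorem grp10_89 : rowsOK 160000 11250 = true :=
  rowsOK_join 160000 11125 125 171125 rfl grp10_88 rows_ok_1369

theorem grp10_90 : rowsOK 160000 11375 = true :=
  rowsOK_join 160000 11250 125 171250 rfl grp10_89 rows_ok_1370

theorem grp10_91 : rowsOK 160000 11500 = true :=
  rowsOK_join 160000 11375 125 171375 rfl grp10_90 rows_ok_1371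

theorem grp10_92 : rowsOK 160000 11625 = true :=
  rowsOK_join 160000 11500 125 171500 rfl grp10_91 rows_ok_1372

theorem grp10_93 : rowsOK 160000 11750 = true :=
  rowsOK_join 160000 11625 125 171625 rfl grp10_92 rows_ok_1373

theorem grp10_94 : rowsOK 160000 11875 = true :=
  rowsOK_join 160000 11750 125 171750 rfl grp10_93 rows_ok_1374

theorem grp10_95 : rowsOK 160000 12000 = true :=
  rowsOK_join 160000 11875 125 171875 rfl grp10_94 rows_ok_1375

theorem grp10_96 : rowsOK 160000 12125 = true :=
  rowsOK_join 160000 12000 125 172000 rfl grp10_95 rows_ok_1376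

theorem grp10_97 : rowsOK 160000 12250 = true :=
  rowsOK_join 160000 12125 125 172125 rfl grp10_96 rows_ok_1377

theorem grp10_98 : rowsOK 160000 12375 = true :=
  rowsOK_join 160000 12250 125 172250 rfl grp10_97 rows_ok_1378

theorem grp10_99 : rowsOK 160000 12500 = true :=
  rowsOK_join 160000 12375 125 172375 rfl grp10_98 rows_ok_1379

theorem grp10_100 : rowsOK 160000 12625 = true :=
  rowsOK_join 160000 12500 125 172500 rfl grp10_99 rows_ok_1380

theorem grp10_101 : rowsOK 160000 12750 = true :=
  rowsOK_join 160000 12625 125 172625 rfl grp10_100 rows_ok_1381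

theorem grp10_102 : rowsOK 160000 12875 = true :=
  rowsOK_join 160000 12750 125 172750 rfl grp10_101 rows_ok_1382

theorem grp10_103 : rowsOK 160000 13000 = true :=
  rowsOK_join 160000 12875 125 172875 rfl grp10_102 rows_ok_1383

theorem grp10_104 : rowsOK 160000 13125 = true :=
  rowsOK_join 160000 13000 125 173000 rfl grp10_103 rows_ok_1384

theorem grp10_105 : rowsOK 160000 13250 = true :=
  rowsOK_join 160000 13125 125 173125 rfl grp10_104 rows_ok_1385

theorem grp10_106 : rowsOK 160000 13375 = true :=
  rowsOK_join 160000 13250 125 173250 rfl grp10_105 rows_ok_1386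

theorem grp10_107 : rowsOK 160000 13500 = true :=
  rowsOK_join 160000 13375 125 173375 rfl grp10_106 rows_ok_1387

theorem grp10_108 : rowsOK 160000 13625 = true :=
  rowsOK_join 160000 13500 125 173500 rfl grp10_107 rows_ok_1388

theorem grp10_109 : rowsOK 160000 13750 = true :=
  rowsOK_join 160000 13625 125 173625 rfl grp10_108 rows_ok_1389

theorem grp10_110 : rowsOK 160000 13875 = true :=
  rowsOK_join 160000 13750 125 173750 rfl grp10_109 rows_ok_1390

theorem grp10_111 : rowsOK 160000 14000 = true :=
  rowsOK_join 160000 13875 125 173875 rfl grp10_110 rows_ok_1391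

theorem grp10_112 : rowsOK 160000 14125 = true :=
  rowsOK_join 160000 14000 125 174000 rfl grp10_111 rows_ok_1392

theorem grp10_113 : rowsOK 160000 14250 = true :=
  rowsOK_join 160000 14125 125 174125 rfl grp10_112 rows_ok_1393

theorem grp10_114 : rowsOK 160000 14375 = true :=
  rowsOK_join 160000 14250 125 174250 rfl grp10_113 rows_ok_1394

theorem grp10_115 : rowsOK 160000 14500 = true :=
  rowsOK_join 160000 14375 125 174375 rfl grp10_114 rows_ok_1395

theorem grp10_116 : rowsOK 160000 14625 = true :=
  rowsOK_join 160000 14500 125 174500 rfl grp10_115 rows_ok_1396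

theorem grp10_117 : rowsOK 160000 14750 = true :=
  rowsOK_join 160000 14625 125 174625 rfl grp10_116 rows_ok_1397

theorem grp10_118 : rowsOK 160000 14875 = true :=
  rowsOK_join 160000 14750 125 174750 rfl grp10_117 rows_ok_1398

theorem grp10_119 : rowsOK 160000 15000 = true :=
  rowsOK_join 160000 14875 125 174875 rfl grp10_118 rows_ok_1399

theorem grp10_120 : rowsOK 160000 15125 = true :=
  rowsOK_join 160000 15000 125 175000 rfl grp10_119 rows_ok_1400

theorem grp10_121 : rowsOK 160000 15250 = true :=
  rowsOK_join 160000 15125 125 175125 rfl grp10_120 rows_ok_1401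

theorem grp10_122 : rowsOK 160000 15375 = true :=
  rowsOK_join 160000 15250 125 175250 rfl grp10_121 rows_ok_1402

theorem grp10_123 : rowsOK 160000 15500 = true :=
  rowsOK_join 160000 15375 125 175375 rfl grp10_122 rows_ok_1403

theorem grp10_124 : rowsOK 160000 15625 = true :=
  rowsOK_join 160000 15500 125 175500 rfl grp10_123 rows_ok_1404

theorem grp10_125 : rowsOK 160000 15750 = true :=
  rowsOK_join 160000 15625 125 175625 rfl grp10_124 rows_ok_1405

theorem grp10_126 : rowsOK 160000 15875 = true :=
  rowsOK_join 160000 15750 125 175750 rfl grp10_125 rows_ok_1406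

theorem rows_ok_grp_10 : rowsOK 160000 16000 = true :=
  rowsOK_join 160000 15875 125 175875 rfl grp10_126 rows_ok_1407

end Cfsg.Agent.Lib.Helper7.Fi24L
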