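import Cfsg.Agent.Lib.Helper7.Fi24LK176
import Cfsg.Agent.Lib.Helper7.Fi24LK177
import Cfsg.Agent.Lib.Helper7.Fi24LK178
import Cfsg.Agent.Lib.Helper7.Fi24LK179
import Cfsg.Agent.Lib.Helper7.Fi24LK180
import Cfsg.Agent.Lib.Helper7.Fi24LK181
import Cfsg.Agent.Lib.Helper7.Fi24LK182
import Cfsg.Agent.Lib.Helper7.Fi24LK183
import Cfsg.Agent.Lib.Helper7.Fi24LK184
import Cfsg.Agent.Lib.Helper7.Fi24LK185
import Cfsg.Agent.Lib.Helper7.Fi24LK186
import Cfsg.Agent.Lib.Helper7.Fi24LK187
import Cfsg.Agent.Lib.Helper7.Fi24LK188
import Cfsg.Agent.Lib.Helper7.Fi24LK189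
import Cfsg.Agent.Lib.Helper7.Fi24LK190
import Cfsg.Agent.Lib.Helper7.Fi24LK191
import Cfsg.Agent.Lib.Helper7.Fi24LE

/-! # The multiplier of the Fischer group Fi₂₄′, a threefold cover of a permutation representation of the presented group Fi₂₄: the checks of a part of the rows are joined (generated) -/

set_option autoImplicit false
set_option maxRecDepth 100000

namespace Cfsg.Agent.Lib.Helper7.Fi24L

theorem grp11_1 : rowsOK 176000 250 = true :=
  rowsOK_join 176000 125 125 176125 rfl rows_ok_1408 rows_ok_1409

theorem grp11_2 : rowsOK 176000 375 = true :=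
  rowsOK_join 176000 250 125 176250 rfl grp11_1 rows_ok_1410

theorem grp11_3 : rowsOK 176000 500 = true :=
  rowsOK_join 176000 375 125 176375 rfl grp11_2 rows_ok_1411

theorem grp11_4 : rowsOK 176000 625 = true :=
  rowsOK_join 176000 500 125 176500 rfl grp11_3 rows_ok_1412

theorem grp11_5 : rowsOK 176000 750 = true :=
  rowsOK_join 176000 625 125 176625 rfl grp11_4 rows_ok_1413

theorem grp11_6 : rowsOK 176000 875 = true :=
  rowsOK_join 176000 750 125 176750 rfl grp11_5 rows_ok_1414

theorem grp11_7 : rowsOK 176000 1000 = true :=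
  rowsOK_join 176000 875 125 176875 rfl grp11_6 rows_ok_1415

theorem grp11_8 : rowsOK 176000 1125 = true :=
  rowsOK_join 176000 1000 125 177000 rfl grp11_7 rows_ok_1416

theorem grp11_9 : rowsOK 176000 1250 = true :=
  rowsOK_join 176000 1125 125 177125 rfl grp11_8 rows_ok_1417

theorem grp11_10 : rowsOK 176000 1375 = true :=
  rowsOK_join 176000 1250 125 177250 rfl grp11_9 rows_ok_1418

theorem grp11_11 : rowsOK 176000 1500 = true :=
  rowsOK_join 176000 1375 125 177375 rfl grp11_10 rows_ok_1419

theorem grp11_12 : rowsOK 176000 1625 = true :=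
  rowsOK_join 176000 1500 125 177500 rfl grp11_11 rows_ok_1420

theorem grp11_13 : rowsOK 176000 1750 = true :=
  rowsOK_join 176000 1625 125 177625 rfl grp11_12 rows_ok_1421

theorem grp11_14 : rowsOK 176000 1875 = true :=
  rowsOK_join 176000 1750 125 177750 rfl grp11_13 rows_ok_1422

theorem grp11_15 : rowsOK 176000 2000 = true :=
  rowsOK_join 176000 1875 125 177875 rfl grp11_14 rows_ok_1423

theorem grp11_16 : rowsOK 176000 2125 = true :=
  rowsOK_join 176000 2000 125 178000 rfl grp11_15 rows_ok_1424

theorem grp11_17 : rowsOK 176000 2250 = true :=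
  rowsOK_join 176000 2125 125 178125 rfl grp11_16 rows_ok_1425

theorem grp11_18 : rowsOK 176000 2375 = true :=
  rowsOK_join 176000 2250 125 178250 rfl grp11_17 rows_ok_1426

theorem grp11_19 : rowsOK 176000 2500 = true :=
  rowsOK_join 176000 2375 125 178375 rfl grp11_18 rows_ok_1427

theorem grp11_20 : rowsOK 176000 2625 = true :=
  rowsOK_join 176000 2500 125 178500 rfl grp11_19 rows_ok_1428

theorem grp11_21 : rowsOK 176000 2750 = true :=
  rowsOK_join 176000 2625 125 178625 rfl grp11_20 rows_ok_1429

theorem grp11_22 : rowsOK 176000 2875 = true :=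
  rowsOK_join 176000 2750 125 178750 rfl grp11_21 rows_ok_1430

theorem grp11_23 : rowsOK 176000 3000 = true :=
  rowsOK_join 176000 2875 125 178875 rfl grp11_22 rows_ok_1431

theorem grp11_24 : rowsOK 176000 3125 = true :=
  rowsOK_join 176000 3000 125 179000 rfl grp11_23 rows_ok_1432

theorem grp11_25 : rowsOK 176000 3250 = true :=
  rowsOK_join 176000 3125 125 179125 rfl grp11_24 rows_ok_1433

theorem grp11_26 : rowsOK 176000 3375 = true :=
  rowsOK_join 176000 3250 125 179250 rfl grp11_25 rows_ok_1434

theorem grp11_27 : rowsOK 176000 3500 = true :=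
  rowsOK_join 176000 3375 125 179375 rfl grp11_26 rows_ok_1435

theorem grp11_28 : rowsOK 176000 3625 = true :=
  rowsOK_join 176000 3500 125 179500 rfl grp11_27 rows_ok_1436

theorem grp11_29 : rowsOK 176000 3750 = true :=
  rowsOK_join 176000 3625 125 179625 rfl grp11_28 rows_ok_1437

theorem grp11_30 : rowsOK 176000 3875 = true :=
  rowsOK_join 176000 3750 125 179750 rfl grp11_29 rows_ok_1438

theorem grp11_31 : rowsOK 176000 4000 = true :=
  rowsOK_join 176000 3875 125 179875 rfl grp11_30 rows_ok_1439

theorem grp11_32 : rowsOK 176000 4125 = true :=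
  rowsOK_join 176000 4000 125 180000 rfl grp11_31 rows_ok_1440

theorem grp11_33 : rowsOK 176000 4250 = true :=
  rowsOK_join 176000 4125 125 180125 rfl grp11_32 rows_ok_1441

theorem grp11_34 : rowsOK 176000 4375 = true :=
  rowsOK_join 176000 4250 125 180250 rfl grp11_33 rows_ok_1442

theorem grp11_35 : rowsOK 176000 4500 = true :=
  rowsOK_join 176000 4375 125 180375 rfl grp11_34 rows_ok_1443

theorem grp11_36 : rowsOK 176000 4625 = true :=
  rowsOK_join 176000 4500 125 180500 rfl grp11_35 rows_ok_1444

theorem grp11_37 : rowsOK 176000 4750 = true :=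
  rowsOK_join 176000 4625 125 180625 rfl grp11_36 rows_ok_1445

theorem grp11_38 : rowsOK 176000 4875 = true :=
  rowsOK_join 176000 4750 125 180750 rfl grp11_37 rows_ok_1446

theorem grp11_39 : rowsOK 176000 5000 = true :=
  rowsOK_join 176000 4875 125 180875 rfl grp11_38 rows_ok_1447

theorem grp11_40 : rowsOK 176000 5125 = true :=
  rowsOK_join 176000 5000 125 181000 rfl grp11_39 rows_ok_1448

theorem grp11_41 : rowsOK 176000 5250 = true :=
  rowsOK_join 176000 5125 125 181125 rfl grp11_40 rows_ok_1449

theorem grp11_42 : rowsOK 176000 5375 = true :=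
  rowsOK_join 176000 5250 125 181250 rfl grp11_41 rows_ok_1450

theorem grp11_43 : rowsOK 176000 5500 = true :=
  rowsOK_join 176000 5375 125 181375 rfl grp11_42 rows_ok_1451

theorem grp11_44 : rowsOK 176000 5625 = true :=
  rowsOK_join 176000 5500 125 181500 rfl grp11_43 rows_ok_1452

theorem grp11_45 : rowsOK 176000 5750 = true :=
  rowsOK_join 176000 5625 125 181625 rfl grp11_44 rows_ok_1453

theorem grp11_46 : rowsOK 176000 5875 = true :=
  rowsOK_join 176000 5750 125 181750 rfl grp11_45 rows_ok_1454

theorem grp11_47 : rowsOK 176000 6000 = true :=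
  rowsOK_join 176000 5875 125 181875 rfl grp11_46 rows_ok_1455

theorem grp11_48 : rowsOK 176000 6125 = true :=
  rowsOK_join 176000 6000 125 182000 rfl grp11_47 rows_ok_1456

theorem grp11_49 : rowsOK 176000 6250 = true :=
  rowsOK_join 176000 6125 125 182125 rfl grp11_48 rows_ok_1457

theorem grp11_50 : rowsOK 176000 6375 = true :=
  rowsOK_join 176000 6250 125 182250 rfl grp11_49 rows_ok_1458

theorem grp11_51 : rowsOK 176000 6500 = true :=
  rowsOK_join 176000 6375 125 182375 rfl grp11_50 rows_ok_1459

theorem grp11_52 : rowsOK 176000 6625 = true :=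
  rowsOK_join 176000 6500 125 182500 rfl grp11_51 rows_ok_1460

theorem grp11_53 : rowsOK 176000 6750 = true :=
  rowsOK_join 176000 6625 125 182625 rfl grp11_52 rows_ok_1461

theorem grp11_54 : rowsOK 176000 6875 = true :=
  rowsOK_join 176000 6750 125 182750 rfl grp11_53 rows_ok_1462

theorem grp11_55 : rowsOK 176000 7000 = true :=
  rowsOK_join 176000 6875 125 182875 rfl grp11_54 rows_ok_1463

theorem grp11_56 : rowsOK 176000 7125 = true :=
  rowsOK_join 176000 7000 125 183000 rfl grp11_55 rows_ok_1464

theorem grp11_57 : rowsOK 176000 7250 = true :=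
  rowsOK_join 176000 7125 125 183125 rfl grp11_56 rows_ok_1465

theorem grp11_58 : rowsOK 176000 7375 = true :=
  rowsOK_join 176000 7250 125 183250 rfl grp11_57 rows_ok_1466

theorem grp11_59 : rowsOK 176000 7500 = true :=
  rowsOK_join 176000 7375 125 183375 rfl grp11_58 rows_ok_1467

theorem grp11_60 : rowsOK 176000 7625 = true :=
  rowsOK_join 176000 7500 125 183500 rfl grp11_59 rows_ok_1468

theorem grp11_61 : rowsOK 176000 7750 = true :=
  rowsOK_join 176000 7625 125 183625 rfl grp11_60 rows_ok_1469

theorem grp11_62 : rowsOK 176000 7875 = true :=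
  rowsOK_join 176000 7750 125 183750 rfl grp11_61 rows_ok_1470

theorem grp11_63 : rowsOK 176000 8000 = true :=
  rowsOK_join 176000 7875 125 183875 rfl grp11_62 rows_ok_1471

theorem grp11_64 : rowsOK 176000 8125 = true :=
  rowsOK_join 176000 8000 125 184000 rfl grp11_63 rows_ok_1472

theorem grp11_65 : rowsOK 176000 8250 = true :=
  rowsOK_join 176000 8125 125 184125 rfl grp11_64 rows_ok_1473

theorem grp11_66 : rowsOK 176000 8375 = true :=
  rowsOK_join 176000 8250 125 184250 rfl grp11_65 rows_ok_1474

theorem grp11_67 : rowsOK 176000 8500 = true :=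
  rowsOK_join 176000 8375 125 184375 rfl grp11_66 rows_ok_1475

theorem grp11_68 : rowsOK 176000 8625 = true :=
  rowsOK_join 176000 8500 125 184500 rfl grp11_67 rows_ok_1476

theorem grp11_69 : rowsOK 176000 8750 = true :=
  rowsOK_join 176000 8625 125 184625 rfl grp11_68 rows_ok_1477

theorem grp11_70 : rowsOK 176000 8875 = true :=
  rowsOK_join 176000 8750 125 184750 rfl grp11_69 rows_ok_1478

theorem grp11_71 : rowsOK 176000 9000 = true :=
  rowsOK_join 176000 8875 125 184875 rfl grp11_70 rows_ok_1479

theorem grp11_72 : rowsOK 176000 9125 = true :=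
  rowsOK_join 176000 9000 125 185000 rfl grp11_71 rows_ok_1480

theorem grp11_73 : rowsOK 176000 9250 = true :=
  rowsOK_join 176000 9125 125 185125 rfl grp11_72 rows_ok_1481

theorem grp11_74 : rowsOK 176000 9375 = true :=
  rowsOK_join 176000 9250 125 185250 rfl grp11_73 rows_ok_1482

theorem grp11_75 : rowsOK 176000 9500 = true :=
  rowsOK_join 176000 9375 125 185375 rfl grp11_74 rows_ok_1483

theorem grp11_76 : rowsOK 176000 9625 = true :=
  rowsOK_join 176000 9500 125 185500 rfl grp11_75 rows_ok_1484

theorem grp11_77 : rowsOK 176000 9750 = true :=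
  rowsOK_join 176000 9625 125 185625 rfl grp11_76 rows_ok_1485

theorem grp11_78 : rowsOK 176000 9875 = true :=
  rowsOK_join 176000 9750 125 185750 rfl grp11_77 rows_ok_1486

theorem grp11_79 : rowsOK 176000 10000 = true :=
  rowsOK_join 176000 9875 125 185875 rfl grp11_78 rows_ok_1487

theorem grp11_80 : rowsOK 176000 10125 = true :=
  rowsOK_join 176000 10000 125 186000 rfl grp11_79 rows_ok_1488

theorem grp11_81 : rowsOK 176000 10250 = true :=
  rowsOK_join 176000 10125 125 186125 rfl grp11_80 rows_ok_1489

theorem grp11_82 : rowsOK 176000 10375 = true :=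
  rowsOK_join 176000 10250 125 186250 rfl grp11_81 rows_ok_1490

theorem grp11_83 : rowsOK 176000 10500 = true :=
  rowsOK_join 176000 10375 125 186375 rfl grp11_82 rows_ok_1491

theorem grp11_84 : rowsOK 176000 10625 = true :=
  rowsOK_join 176000 10500 125 186500 rfl grp11_83 rows_ok_1492

theorem grp11_85 : rowsOK 176000 10750 = true :=
  rowsOK_join 176000 10625 125 186625 rfl grp11_84 rows_ok_1493

theorem grp11_86 : rowsOK 176000 10875 = true :=
  rowsOK_join 176000 10750 125 186750 rfl grp11_85 rows_ok_1494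

theorem grp11_87 : rowsOK 176000 11000 = true :=
  rowsOK_join 176000 10875 125 186875 rfl grp11_86 rows_ok_1495

theorem grp11_88 : rowsOK 176000 11125 = true :=
  rowsOK_join 176000 11000 125 187000 rfl grp11_87 rows_ok_1496

theorem grp11_89 : rowsOK 176000 11250 = true :=
  rowsOK_join 176000 11125 125 187125 rfl grp11_88 rows_ok_1497

theorem grp11_90 : rowsOK 176000 11375 = true :=
  rowsOK_join 176000 11250 125 187250 rfl grp11_89 rows_ok_1498

theorem grp11_91 : rowsOK 176000 11500 = true :=
  rowsOK_join 176000 11375 125 187375 rfl grp11_90 rows_ok_1499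

theorem grp11_92 : rowsOK 176000 11625 = true :=
  rowsOK_join 176000 11500 125 187500 rfl grp11_91 rows_ok_1500

theorem grp11_93 : rowsOK 176000 11750 = true :=
  rowsOK_join 176000 11625 125 187625 rfl grp11_92 rows_ok_1501

theorem grp11_94 : rowsOK 176000 11875 = true :=
  rowsOK_join 176000 11750 125 187750 rfl grp11_93 rows_ok_1502

theorem grp11_95 : rowsOK 176000 12000 = true :=
  rowsOK_join 176000 11875 125 187875 rfl grp11_94 rows_ok_1503

theorem grp11_96 : rowsOK 176000 12125 = true :=
  rowsOK_join 176000 12000 125 188000 rfl grp11_95 rows_ok_1504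

theorem grp11_97 : rowsOK 176000 12250 = true :=
  rowsOK_join 176000 12125 125 188125 rfl grp11_96 rows_ok_1505

theorem grp11_98 : rowsOK 176000 12375 = true :=
  rowsOK_join 176000 12250 125 188250 rfl grp11_97 rows_ok_1506

theorem grp11_99 : rowsOK 176000 12500 = true :=
  rowsOK_join 176000 12375 125 188375 rfl grp11_98 rows_ok_1507

theorem grp11_100 : rowsOK 176000 12625 = true :=
  rowsOK_join 176000 12500 125 188500 rfl grp11_99 rows_ok_1508

theorem grp11_101 : rowsOK 176000 12750 = true :=
  rowsOK_join 176000 12625 125 188625 rfl grp11_100 rows_ok_1509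

theorem grp11_102 : rowsOK 176000 12875 = true :=
  rowsOK_join 176000 12750 125 188750 rfl grp11_101 rows_ok_1510

theorem grp11_103 : rowsOK 176000 13000 = true :=
  rowsOK_join 176000 12875 125 188875 rfl grp11_102 rows_ok_1511

theorem grp11_104 : rowsOK 176000 13125 = true :=
  rowsOK_join 176000 13000 125 189000 rfl grp11_103 rows_ok_1512

theorem grp11_105 : rowsOK 176000 13250 = true :=
  rowsOK_join 176000 13125 125 189125 rfl grp11_104 rows_ok_1513

theorem grp11_106 : rowsOK 176000 13375 = true :=
  rowsOK_join 176000 13250 125 189250 rfl grp11_105 rows_ok_1514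

theorem grp11_107 : rowsOK 176000 13500 = true :=
  rowsOK_join 176000 13375 125 189375 rfl grp11_106 rows_ok_1515

theorem grp11_108 : rowsOK 176000 13625 = true :=
  rowsOK_join 176000 13500 125 189500 rfl grp11_107 rows_ok_1516

theorem grp11_109 : rowsOK 176000 13750 = true :=
  rowsOK_join 176000 13625 125 189625 rfl grp11_108 rows_ok_1517

theorem grp11_110 : rowsOK 176000 13875 = true :=
  rowsOK_join 176000 13750 125 189750 rfl grp11_109 rows_ok_1518

theorem grp11_111 : rowsOK 176000 14000 = true :=
  rowsOK_join 176000 13875 125 189875 rfl grp11_110 rows_ok_1519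

theorem grp11_112 : rowsOK 176000 14125 = true :=
  rowsOK_join 176000 14000 125 190000 rfl grp11_111 rows_ok_1520

theorem grp11_113 : rowsOK 176000 14250 = true :=
  rowsOK_join 176000 14125 125 190125 rfl grp11_112 rows_ok_1521

theorem grp11_114 : rowsOK 176000 14375 = true :=
  rowsOK_join 176000 14250 125 190250 rfl grp11_113 rows_ok_1522

theorem grp11_115 : rowsOK 176000 14500 = true :=
  rowsOK_join 176000 14375 125 190375 rfl grp11_114 rows_ok_1523

theorem grp11_116 : rowsOK 176000 14625 = true :=
  rowsOK_join 176000 14500 125 190500 rfl grp11_115 rows_ok_1524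

theorem grp11_117 : rowsOK 176000 14750 = true :=
  rowsOK_join 176000 14625 125 190625 rfl grp11_116 rows_ok_1525

theorem grp11_118 : rowsOK 176000 14875 = true :=
  rowsOK_join 176000 14750 125 190750 rfl grp11_117 rows_ok_1526

theorem grp11_119 : rowsOK 176000 15000 = true :=
  rowsOK_join 176000 14875 125 190875 rfl grp11_118 rows_ok_1527

theorem grp11_120 : rowsOK 176000 15125 = true :=
  rowsOK_join 176000 15000 125 191000 rfl grp11_119 rows_ok_1528

theorem grp11_121 : rowsOK 176000 15250 = true :=
  rowsOK_join 176000 15125 125 191125 rfl grp11_120 rows_ok_1529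

theorem grp11_122 : rowsOK 176000 15375 = true :=
  rowsOK_join 176000 15250 125 191250 rfl grp11_121 rows_ok_1530

theorem grp11_123 : rowsOK 176000 15500 = true :=
  rowsOK_join 176000 15375 125 191375 rfl grp11_122 rows_ok_1531

theorem grp11_124 : rowsOK 176000 15625 = true :=
  rowsOK_join 176000 15500 125 191500 rfl grp11_123 rows_ok_1532

theorem grp11_125 : rowsOK 176000 15750 = true :=
  rowsOK_join 176000 15625 125 191625 rfl grp11_124 rows_ok_1533

theorem grp11_126 : rowsOK 176000 15875 = true :=
  rowsOK_join 176000 15750 125 191750 rfl grp11_125 rows_ok_1534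

theorem rows_ok_grp_11 : rowsOK 176000 16000 = true :=
  rowsOK_join 176000 15875 125 191875 rfl grp11_126 rows_ok_1535

end Cfsg.Agent.Lib.Helper7.Fi24L
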