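import Cfsg.Agent.Lib.Helper7.Fi24LK208
import Cfsg.Agent.Lib.Helper7.Fi24LK209
import Cfsg.Agent.Lib.Helper7.Fi24LK210
import Cfsg.Agent.Lib.Helper7.Fi24LK211
import Cfsg.Agent.Lib.Helper7.Fi24LK212
import Cfsg.Agent.Lib.Helper7.Fi24LK213
import Cfsg.Agent.Lib.Helper7.Fi24LK214
import Cfsg.Agent.Lib.Helper7.Fi24LK215
import Cfsg.Agent.Lib.Helper7.Fi24LK216
import Cfsg.Agent.Lib.Helper7.Fi24LK217
import Cfsg.Agent.Lib.Helper7.Fi24LK218
import Cfsg.Agent.Lib.Helper7.Fi24LK219
import Cfsg.Agent.Lib.Helper7.Fi24LK220
import Cfsg.Agent.Lib.Helper7.Fi24LK221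
import Cfsg.Agent.Lib.Helper7.Fi24LK222
import Cfsg.Agent.Lib.Helper7.Fi24LK223
import Cfsg.Agent.Lib.Helper7.Fi24LE

/-! # The multiplier of the Fischer group Fi₂₄′, a threefold cover of a permutation representation of the presented group Fi₂₄: the checks of a part of the rows are joined (generated) -/

set_option autoImplicit false
set_option maxRecDepth 100000

namespace Cfsg.Agent.Lib.Helper7.Fi24L

theorem grp13_1 : rowsOK 208000 250 = true :=
  rowsOK_join 208000 125 125 208125 rfl rows_ok_1664 rows_ok_1665

theorem grp13_2 : rowsOK 208000 375 = true :=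
  rowsOK_join 208000 250 125 208250 rfl grp13_1 rows_ok_1666

theorem grp13_3 : rowsOK 208000 500 = true :=
  rowsOK_join 208000 375 125 208375 rfl grp13_2 rows_ok_1667

theorem grp13_4 : rowsOK 208000 625 = true :=
  rowsOK_join 208000 500 125 208500 rfl grp13_3 rows_ok_1668

theorem grp13_5 : rowsOK 208000 750 = true :=
  rowsOK_join 208000 625 125 208625 rfl grp13_4 rows_ok_1669

theorem grp13_6 : rowsOK 208000 875 = true :=
  rowsOK_join 208000 750 125 208750 rfl grp13_5 rows_ok_1670

theorem grp13_7 : rowsOK 208000 1000 = true :=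
  rowsOK_join 208000 875 125 208875 rfl grp13_6 rows_ok_1671

theorem grp13_8 : rowsOK 208000 1125 = true :=
  rowsOK_join 208000 1000 125 209000 rfl grp13_7 rows_ok_1672

theorem grp13_9 : rowsOK 208000 1250 = true :=
  rowsOK_join 208000 1125 125 209125 rfl grp13_8 rows_ok_1673

theorem grp13_10 : rowsOK 208000 1375 = true :=
  rowsOK_join 208000 1250 125 209250 rfl grp13_9 rows_ok_1674

theorem grp13_11 : rowsOK 208000 1500 = true :=
  rowsOK_join 208000 1375 125 209375 rfl grp13_10 rows_ok_1675

theorem grp13_12 : rowsOK 208000 1625 = true :=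
  rowsOK_join 208000 1500 125 209500 rfl grp13_11 rows_ok_1676

theorem grp13_13 : rowsOK 208000 1750 = true :=
  rowsOK_join 208000 1625 125 209625 rfl grp13_12 rows_ok_1677

theorem grp13_14 : rowsOK 208000 1875 = true :=
  rowsOK_join 208000 1750 125 209750 rfl grp13_13 rows_ok_1678

theorem grp13_15 : rowsOK 208000 2000 = true :=
  rowsOK_join 208000 1875 125 209875 rfl grp13_14 rows_ok_1679

theorem grp13_16 : rowsOK 208000 2125 = true :=
  rowsOK_join 208000 2000 125 210000 rfl grp13_15 rows_ok_1680

theorem grp13_17 : rowsOK 208000 2250 = true :=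
  rowsOK_join 208000 2125 125 210125 rfl grp13_16 rows_ok_1681

theorem grp13_18 : rowsOK 208000 2375 = true :=
  rowsOK_join 208000 2250 125 210250 rfl grp13_17 rows_ok_1682

theorem grp13_19 : rowsOK 208000 2500 = true :=
  rowsOK_join 208000 2375 125 210375 rfl grp13_18 rows_ok_1683

theorem grp13_20 : rowsOK 208000 2625 = true :=
  rowsOK_join 208000 2500 125 210500 rfl grp13_19 rows_ok_1684

theorem grp13_21 : rowsOK 208000 2750 = true :=
  rowsOK_join 208000 2625 125 210625 rfl grp13_20 rows_ok_1685

theorem grp13_22 : rowsOK 208000 2875 = true :=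
  rowsOK_join 208000 2750 125 210750 rfl grp13_21 rows_ok_1686

theorem grp13_23 : rowsOK 208000 3000 = true :=
  rowsOK_join 208000 2875 125 210875 rfl grp13_22 rows_ok_1687

theorem grp13_24 : rowsOK 208000 3125 = true :=
  rowsOK_join 208000 3000 125 211000 rfl grp13_23 rows_ok_1688

theorem grp13_25 : rowsOK 208000 3250 = true :=
  rowsOK_join 208000 3125 125 211125 rfl grp13_24 rows_ok_1689

theorem grp13_26 : rowsOK 208000 3375 = true :=
  rowsOK_join 208000 3250 125 211250 rfl grp13_25 rows_ok_1690

theorem grp13_27 : rowsOK 208000 3500 = true :=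
  rowsOK_join 208000 3375 125 211375 rfl grp13_26 rows_ok_1691

theorem grp13_28 : rowsOK 208000 3625 = true :=
  rowsOK_join 208000 3500 125 211500 rfl grp13_27 rows_ok_1692

theorem grp13_29 : rowsOK 208000 3750 = true :=
  rowsOK_join 208000 3625 125 211625 rfl grp13_28 rows_ok_1693

theorem grp13_30 : rowsOK 208000 3875 = true :=
  rowsOK_join 208000 3750 125 211750 rfl grp13_29 rows_ok_1694

theorem grp13_31 : rowsOK 208000 4000 = true :=
  rowsOK_join 208000 3875 125 211875 rfl grp13_30 rows_ok_1695

theorem grp13_32 : rowsOK 208000 4125 = true :=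
  rowsOK_join 208000 4000 125 212000 rfl grp13_31 rows_ok_1696

theorem grp13_33 : rowsOK 208000 4250 = true :=
  rowsOK_join 208000 4125 125 212125 rfl grp13_32 rows_ok_1697

theorem grp13_34 : rowsOK 208000 4375 = true :=
  rowsOK_join 208000 4250 125 212250 rfl grp13_33 rows_ok_1698

theorem grp13_35 : rowsOK 208000 4500 = true :=
  rowsOK_join 208000 4375 125 212375 rfl grp13_34 rows_ok_1699

theorem grp13_36 : rowsOK 208000 4625 = true :=
  rowsOK_join 208000 4500 125 212500 rfl grp13_35 rows_ok_1700

theorem grp13_37 : rowsOK 208000 4750 = true :=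
  rowsOK_join 208000 4625 125 212625 rfl grp13_36 rows_ok_1701

theorem grp13_38 : rowsOK 208000 4875 = true :=
  rowsOK_join 208000 4750 125 212750 rfl grp13_37 rows_ok_1702

theorem grp13_39 : rowsOK 208000 5000 = true :=
  rowsOK_join 208000 4875 125 212875 rfl grp13_38 rows_ok_1703

theorem grp13_40 : rowsOK 208000 5125 = true :=
  rowsOK_join 208000 5000 125 213000 rfl grp13_39 rows_ok_1704

theorem grp13_41 : rowsOK 208000 5250 = true :=
  rowsOK_join 208000 5125 125 213125 rfl grp13_40 rows_ok_1705

theorem grp13_42 : rowsOK 208000 5375 = true :=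
  rowsOK_join 208000 5250 125 213250 rfl grp13_41 rows_ok_1706

theorem grp13_43 : rowsOK 208000 5500 = true :=
  rowsOK_join 208000 5375 125 213375 rfl grp13_42 rows_ok_1707

theorem grp13_44 : rowsOK 208000 5625 = true :=
  rowsOK_join 208000 5500 125 213500 rfl grp13_43 rows_ok_1708

theorem grp13_45 : rowsOK 208000 5750 = true :=
  rowsOK_join 208000 5625 125 213625 rfl grp13_44 rows_ok_1709

theorem grp13_46 : rowsOK 208000 5875 = true :=
  rowsOK_join 208000 5750 125 213750 rfl grp13_45 rows_ok_1710

theorem grp13_47 : rowsOK 208000 6000 = true :=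
  rowsOK_join 208000 5875 125 213875 rfl grp13_46 rows_ok_1711

theorem grp13_48 : rowsOK 208000 6125 = true :=
  rowsOK_join 208000 6000 125 214000 rfl grp13_47 rows_ok_1712

theorem grp13_49 : rowsOK 208000 6250 = true :=
  rowsOK_join 208000 6125 125 214125 rfl grp13_48 rows_ok_1713

theorem grp13_50 : rowsOK 208000 6375 = true :=
  rowsOK_join 208000 6250 125 214250 rfl grp13_49 rows_ok_1714

theorem grp13_51 : rowsOK 208000 6500 = true :=
  rowsOK_join 208000 6375 125 214375 rfl grp13_50 rows_ok_1715

theorem grp13_52 : rowsOK 208000 6625 = true :=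
  rowsOK_join 208000 6500 125 214500 rfl grp13_51 rows_ok_1716

theorem grp13_53 : rowsOK 208000 6750 = true :=
  rowsOK_join 208000 6625 125 214625 rfl grp13_52 rows_ok_1717

theorem grp13_54 : rowsOK 208000 6875 = true :=
  rowsOK_join 208000 6750 125 214750 rfl grp13_53 rows_ok_1718

theorem grp13_55 : rowsOK 208000 7000 = true :=
  rowsOK_join 208000 6875 125 214875 rfl grp13_54 rows_ok_1719

theorem grp13_56 : rowsOK 208000 7125 = true :=
  rowsOK_join 208000 7000 125 215000 rfl grp13_55 rows_ok_1720

theorem grp13_57 : rowsOK 208000 7250 = true :=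
  rowsOK_join 208000 7125 125 215125 rfl grp13_56 rows_ok_1721

theorem grp13_58 : rowsOK 208000 7375 = true :=
  rowsOK_join 208000 7250 125 215250 rfl grp13_57 rows_ok_1722

theorem grp13_59 : rowsOK 208000 7500 = true :=
  rowsOK_join 208000 7375 125 215375 rfl grp13_58 rows_ok_1723

theorem grp13_60 : rowsOK 208000 7625 = true :=
  rowsOK_join 208000 7500 125 215500 rfl grp13_59 rows_ok_1724

theorem grp13_61 : rowsOK 208000 7750 = true :=
  rowsOK_join 208000 7625 125 215625 rfl grp13_60 rows_ok_1725

theorem grp13_62 : rowsOK 208000 7875 = true :=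
  rowsOK_join 208000 7750 125 215750 rfl grp13_61 rows_ok_1726

theorem grp13_63 : rowsOK 208000 8000 = true :=
  rowsOK_join 208000 7875 125 215875 rfl grp13_62 rows_ok_1727

theorem grp13_64 : rowsOK 208000 8125 = true :=
  rowsOK_join 208000 8000 125 216000 rfl grp13_63 rows_ok_1728

theorem grp13_65 : rowsOK 208000 8250 = true :=
  rowsOK_join 208000 8125 125 216125 rfl grp13_64 rows_ok_1729

theorem grp13_66 : rowsOK 208000 8375 = true :=
  rowsOK_join 208000 8250 125 216250 rfl grp13_65 rows_ok_1730

theorem grp13_67 : rowsOK 208000 8500 = true :=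
  rowsOK_join 208000 8375 125 216375 rfl grp13_66 rows_ok_1731

theorem grp13_68 : rowsOK 208000 8625 = true :=
  rowsOK_join 208000 8500 125 216500 rfl grp13_67 rows_ok_1732

theorem grp13_69 : rowsOK 208000 8750 = true :=
  rowsOK_join 208000 8625 125 216625 rfl grp13_68 rows_ok_1733

theorem grp13_70 : rowsOK 208000 8875 = true :=
  rowsOK_join 208000 8750 125 216750 rfl grp13_69 rows_ok_1734

theorem grp13_71 : rowsOK 208000 9000 = true :=
  rowsOK_join 208000 8875 125 216875 rfl grp13_70 rows_ok_1735

theorem grp13_72 : rowsOK 208000 9125 = true :=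
  rowsOK_join 208000 9000 125 217000 rfl grp13_71 rows_ok_1736

theorem grp13_73 : rowsOK 208000 9250 = true :=
  rowsOK_join 208000 9125 125 217125 rfl grp13_72 rows_ok_1737

theorem grp13_74 : rowsOK 208000 9375 = true :=
  rowsOK_join 208000 9250 125 217250 rfl grp13_73 rows_ok_1738

theorem grp13_75 : rowsOK 208000 9500 = true :=
  rowsOK_join 208000 9375 125 217375 rfl grp13_74 rows_ok_1739

theorem grp13_76 : rowsOK 208000 9625 = true :=
  rowsOK_join 208000 9500 125 217500 rfl grp13_75 rows_ok_1740

theorem grp13_77 : rowsOK 208000 9750 = true :=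
  rowsOK_join 208000 9625 125 217625 rfl grp13_76 rows_ok_1741

theorem grp13_78 : rowsOK 208000 9875 = true :=
  rowsOK_join 208000 9750 125 217750 rfl grp13_77 rows_ok_1742

theorem grp13_79 : rowsOK 208000 10000 = true :=
  rowsOK_join 208000 9875 125 217875 rfl grp13_78 rows_ok_1743

theorem grp13_80 : rowsOK 208000 10125 = true :=
  rowsOK_join 208000 10000 125 218000 rfl grp13_79 rows_ok_1744

theorem grp13_81 : rowsOK 208000 10250 = true :=
  rowsOK_join 208000 10125 125 218125 rfl grp13_80 rows_ok_1745

theorem grp13_82 : rowsOK 208000 10375 = true :=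
  rowsOK_join 208000 10250 125 218250 rfl grp13_81 rows_ok_1746

theorem grp13_83 : rowsOK 208000 10500 = true :=
  rowsOK_join 208000 10375 125 218375 rfl grp13_82 rows_ok_1747

theorem grp13_84 : rowsOK 208000 10625 = true :=
  rowsOK_join 208000 10500 125 218500 rfl grp13_83 rows_ok_1748

theorem grp13_85 : rowsOK 208000 10750 = true :=
  rowsOK_join 208000 10625 125 218625 rfl grp13_84 rows_ok_1749

theorem grp13_86 : rowsOK 208000 10875 = true :=
  rowsOK_join 208000 10750 125 218750 rfl grp13_85 rows_ok_1750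

theorem grp13_87 : rowsOK 208000 11000 = true :=
  rowsOK_join 208000 10875 125 218875 rfl grp13_86 rows_ok_1751

theorem grp13_88 : rowsOK 208000 11125 = true :=
  rowsOK_join 208000 11000 125 219000 rfl grp13_87 rows_ok_1752

theorem grp13_89 : rowsOK 208000 11250 = true :=
  rowsOK_join 208000 11125 125 219125 rfl grp13_88 rows_ok_1753

theorem grp13_90 : rowsOK 208000 11375 = true :=
  rowsOK_join 208000 11250 125 219250 rfl grp13_89 rows_ok_1754

theorem grp13_91 : rowsOK 208000 11500 = true :=
  rowsOK_join 208000 11375 125 219375 rfl grp13_90 rows_ok_1755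

theorem grp13_92 : rowsOK 208000 11625 = true :=
  rowsOK_join 208000 11500 125 219500 rfl grp13_91 rows_ok_1756

theorem grp13_93 : rowsOK 208000 11750 = true :=
  rowsOK_join 208000 11625 125 219625 rfl grp13_92 rows_ok_1757

theorem grp13_94 : rowsOK 208000 11875 = true :=
  rowsOK_join 208000 11750 125 219750 rfl grp13_93 rows_ok_1758

theorem grp13_95 : rowsOK 208000 12000 = true :=
  rowsOK_join 208000 11875 125 219875 rfl grp13_94 rows_ok_1759

theorem grp13_96 : rowsOK 208000 12125 = true :=
  rowsOK_join 208000 12000 125 220000 rfl grp13_95 rows_ok_1760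

theorem grp13_97 : rowsOK 208000 12250 = true :=
  rowsOK_join 208000 12125 125 220125 rfl grp13_96 rows_ok_1761

theorem grp13_98 : rowsOK 208000 12375 = true :=
  rowsOK_join 208000 12250 125 220250 rfl grp13_97 rows_ok_1762

theorem grp13_99 : rowsOK 208000 12500 = true :=
  rowsOK_join 208000 12375 125 220375 rfl grp13_98 rows_ok_1763

theorem grp13_100 : rowsOK 208000 12625 = true :=
  rowsOK_join 208000 12500 125 220500 rfl grp13_99 rows_ok_1764

theorem grp13_101 : rowsOK 208000 12750 = true :=
  rowsOK_join 208000 12625 125 220625 rfl grp13_100 rows_ok_1765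

theorem grp13_102 : rowsOK 208000 12875 = true :=
  rowsOK_join 208000 12750 125 220750 rfl grp13_101 rows_ok_1766

theorem grp13_103 : rowsOK 208000 13000 = true :=
  rowsOK_join 208000 12875 125 220875 rfl grp13_102 rows_ok_1767

theorem grp13_104 : rowsOK 208000 13125 = true :=
  rowsOK_join 208000 13000 125 221000 rfl grp13_103 rows_ok_1768

theorem grp13_105 : rowsOK 208000 13250 = true :=
  rowsOK_join 208000 13125 125 221125 rfl grp13_104 rows_ok_1769

theorem grp13_106 : rowsOK 208000 13375 = true :=
  rowsOK_join 208000 13250 125 221250 rfl grp13_105 rows_ok_1770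

theorem grp13_107 : rowsOK 208000 13500 = true :=
  rowsOK_join 208000 13375 125 221375 rfl grp13_106 rows_ok_1771

theorem grp13_108 : rowsOK 208000 13625 = true :=
  rowsOK_join 208000 13500 125 221500 rfl grp13_107 rows_ok_1772

theorem grp13_109 : rowsOK 208000 13750 = true :=
  rowsOK_join 208000 13625 125 221625 rfl grp13_108 rows_ok_1773

theorem grp13_110 : rowsOK 208000 13875 = true :=
  rowsOK_join 208000 13750 125 221750 rfl grp13_109 rows_ok_1774

theorem grp13_111 : rowsOK 208000 14000 = true :=
  rowsOK_join 208000 13875 125 221875 rfl grp13_110 rows_ok_1775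

theorem grp13_112 : rowsOK 208000 14125 = true :=
  rowsOK_join 208000 14000 125 222000 rfl grp13_111 rows_ok_1776

theorem grp13_113 : rowsOK 208000 14250 = true :=
  rowsOK_join 208000 14125 125 222125 rfl grp13_112 rows_ok_1777

theorem grp13_114 : rowsOK 208000 14375 = true :=
  rowsOK_join 208000 14250 125 222250 rfl grp13_113 rows_ok_1778

theorem grp13_115 : rowsOK 208000 14500 = true :=
  rowsOK_join 208000 14375 125 222375 rfl grp13_114 rows_ok_1779

theorem grp13_116 : rowsOK 208000 14625 = true :=
  rowsOK_join 208000 14500 125 222500 rfl grp13_115 rows_ok_1780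

theorem grp13_117 : rowsOK 208000 14750 = true :=
  rowsOK_join 208000 14625 125 222625 rfl grp13_116 rows_ok_1781

theorem grp13_118 : rowsOK 208000 14875 = true :=
  rowsOK_join 208000 14750 125 222750 rfl grp13_117 rows_ok_1782

theorem grp13_119 : rowsOK 208000 15000 = true :=
  rowsOK_join 208000 14875 125 222875 rfl grp13_118 rows_ok_1783

theorem grp13_120 : rowsOK 208000 15125 = true :=
  rowsOK_join 208000 15000 125 223000 rfl grp13_119 rows_ok_1784

theorem grp13_121 : rowsOK 208000 15250 = true :=
  rowsOK_join 208000 15125 125 223125 rfl grp13_120 rows_ok_1785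

theorem grp13_122 : rowsOK 208000 15375 = true :=
  rowsOK_join 208000 15250 125 223250 rfl grp13_121 rows_ok_1786

theorem grp13_123 : rowsOK 208000 15500 = true :=
  rowsOK_join 208000 15375 125 223375 rfl grp13_122 rows_ok_1787

theorem grp13_124 : rowsOK 208000 15625 = true :=
  rowsOK_join 208000 15500 125 223500 rfl grp13_123 rows_ok_1788

theorem grp13_125 : rowsOK 208000 15750 = true :=
  rowsOK_join 208000 15625 125 223625 rfl grp13_124 rows_ok_1789

theorem grp13_126 : rowsOK 208000 15875 = true :=
  rowsOK_join 208000 15750 125 223750 rfl grp13_125 rows_ok_1790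

theorem rows_ok_grp_13 : rowsOK 208000 16000 = true :=
  rowsOK_join 208000 15875 125 223875 rfl grp13_126 rows_ok_1791

end Cfsg.Agent.Lib.Helper7.Fi24L
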