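import Cfsg.Agent.Lib.Helper7.Fi24LC

/-! # The multiplier of the Fischer group Fi₂₄′, a threefold cover of a permutation representation of the presented group Fi₂₄: the check of the relators at a part of the rows (generated) -/

set_option autoImplicit false
set_option maxRecDepth 100000
set_option maxHeartbeats 0

namespace Cfsg.Agent.Lib.Helper7.Fi24L

theorem rows_ok_1904 : rowsOK 238000 125 = true := by decide +kernel

theorem rows_ok_1905 : rowsOK 238125 125 = true := by decide +kernel

theorem rows_ok_1906 : rowsOK 238250 125 = true := by decide +kernel

theorem rows_ok_1907 : rowsOK 238375 125 = true := by decide +kernel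

theorem rows_ok_1908 : rowsOK 238500 125 = true := by decide +kernel

theorem rows_ok_1909 : rowsOK 238625 125 = true := by decide +kernel

theorem rows_ok_1910 : rowsOK 238750 125 = true := by decide +kernel

theorem rows_ok_1911 : rowsOK 238875 125 = true := by decide +kernel

end Cfsg.Agent.Lib.Helper7.Fi24L
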