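import Cfsg.Agent.Lib.Helper7.Fi24LK224
import Cfsg.Agent.Lib.Helper7.Fi24LK225
import Cfsg.Agent.Lib.Helper7.Fi24LK226
import Cfsg.Agent.Lib.Helper7.Fi24LK227
import Cfsg.Agent.Lib.Helper7.Fi24LK228
import Cfsg.Agent.Lib.Helper7.Fi24LK229
import Cfsg.Agent.Lib.Helper7.Fi24LK230
import Cfsg.Agent.Lib.Helper7.Fi24LK231
import Cfsg.Agent.Lib.Helper7.Fi24LK232
import Cfsg.Agent.Lib.Helper7.Fi24LK233
import Cfsg.Agent.Lib.Helper7.Fi24LK234
import Cfsg.Agent.Lib.Helper7.Fi24LK235
import Cfsg.Agent.Lib.Helper7.Fi24LK236
import Cfsg.Agent.Lib.Helper7.Fi24LK237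
import Cfsg.Agent.Lib.Helper7.Fi24LK238
import Cfsg.Agent.Lib.Helper7.Fi24LK239
import Cfsg.Agent.Lib.Helper7.Fi24LE

/-! # The multiplier of the Fischer group Fi₂₄′, a threefold cover of a permutation representation of the presented group Fi₂₄: the checks of a part of the rows are joined (generated) -/

set_option autoImplicit false
set_option maxRecDepth 100000

namespace Cfsg.Agent.Lib.Helper7.Fi24L

theorem grp14_1 : rowsOK 224000 250 = true :=
  rowsOK_join 224000 125 125 224125 rfl rows_ok_1792 rows_ok_1793

theorem grp14_2 : rowsOK 224000 375 = true :=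
  rowsOK_join 224000 250 125 224250 rfl grp14_1 rows_ok_1794

theorem grp14_3 : rowsOK 224000 500 = true :=
  rowsOK_join 224000 375 125 224375 rfl grp14_2 rows_ok_1795

theorem grp14_4 : rowsOK 224000 625 = true :=
  rowsOK_join 224000 500 125 224500 rfl grp14_3 rows_ok_1796

theorem grp14_5 : rowsOK 224000 750 = true :=
  rowsOK_join 224000 625 125 224625 rfl grp14_4 rows_ok_1797

theorem grp14_6 : rowsOK 224000 875 = true :=
  rowsOK_join 224000 750 125 224750 rfl grp14_5 rows_ok_1798

theorem grp14_7 : rowsOK 224000 1000 = true :=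
  rowsOK_join 224000 875 125 224875 rfl grp14_6 rows_ok_1799

theorem grp14_8 : rowsOK 224000 1125 = true :=
  rowsOK_join 224000 1000 125 225000 rfl grp14_7 rows_ok_1800

theorem grp14_9 : rowsOK 224000 1250 = true :=
  rowsOK_join 224000 1125 125 225125 rfl grp14_8 rows_ok_1801

theorem grp14_10 : rowsOK 224000 1375 = true :=
  rowsOK_join 224000 1250 125 225250 rfl grp14_9 rows_ok_1802

theorem grp14_11 : rowsOK 224000 1500 = true :=
  rowsOK_join 224000 1375 125 225375 rfl grp14_10 rows_ok_1803

theorem grp14_12 : rowsOK 224000 1625 = true :=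
  rowsOK_join 224000 1500 125 225500 rfl grp14_11 rows_ok_1804

theorem grp14_13 : rowsOK 224000 1750 = true :=
  rowsOK_join 224000 1625 125 225625 rfl grp14_12 rows_ok_1805

theorem grp14_14 : rowsOK 224000 1875 = true :=
  rowsOK_join 224000 1750 125 225750 rfl grp14_13 rows_ok_1806

theorem grp14_15 : rowsOK 224000 2000 = true :=
  rowsOK_join 224000 1875 125 225875 rfl grp14_14 rows_ok_1807

theorem grp14_16 : rowsOK 224000 2125 = true :=
  rowsOK_join 224000 2000 125 226000 rfl grp14_15 rows_ok_1808

theorem grp14_17 : rowsOK 224000 2250 = true :=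
  rowsOK_join 224000 2125 125 226125 rfl grp14_16 rows_ok_1809

theorem grp14_18 : rowsOK 224000 2375 = true :=
  rowsOK_join 224000 2250 125 226250 rfl grp14_17 rows_ok_1810

theorem grp14_19 : rowsOK 224000 2500 = true :=
  rowsOK_join 224000 2375 125 226375 rfl grp14_18 rows_ok_1811

theorem grp14_20 : rowsOK 224000 2625 = true :=
  rowsOK_join 224000 2500 125 226500 rfl grp14_19 rows_ok_1812

theorem grp14_21 : rowsOK 224000 2750 = true :=
  rowsOK_join 224000 2625 125 226625 rfl grp14_20 rows_ok_1813

theorem grp14_22 : rowsOK 224000 2875 = true :=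
  rowsOK_join 224000 2750 125 226750 rfl grp14_21 rows_ok_1814

theorem grp14_23 : rowsOK 224000 3000 = true :=
  rowsOK_join 224000 2875 125 226875 rfl grp14_22 rows_ok_1815

theorem grp14_24 : rowsOK 224000 3125 = true :=
  rowsOK_join 224000 3000 125 227000 rfl grp14_23 rows_ok_1816

theorem grp14_25 : rowsOK 224000 3250 = true :=
  rowsOK_join 224000 3125 125 227125 rfl grp14_24 rows_ok_1817

theorem grp14_26 : rowsOK 224000 3375 = true :=
  rowsOK_join 224000 3250 125 227250 rfl grp14_25 rows_ok_1818

theorem grp14_27 : rowsOK 224000 3500 = true :=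
  rowsOK_join 224000 3375 125 227375 rfl grp14_26 rows_ok_1819

theorem grp14_28 : rowsOK 224000 3625 = true :=
  rowsOK_join 224000 3500 125 227500 rfl grp14_27 rows_ok_1820

theorem grp14_29 : rowsOK 224000 3750 = true :=
  rowsOK_join 224000 3625 125 227625 rfl grp14_28 rows_ok_1821

theorem grp14_30 : rowsOK 224000 3875 = true :=
  rowsOK_join 224000 3750 125 227750 rfl grp14_29 rows_ok_1822

theorem grp14_31 : rowsOK 224000 4000 = true :=
  rowsOK_join 224000 3875 125 227875 rfl grp14_30 rows_ok_1823

theorem grp14_32 : rowsOK 224000 4125 = true :=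
  rowsOK_join 224000 4000 125 228000 rfl grp14_31 rows_ok_1824

theorem grp14_33 : rowsOK 224000 4250 = true :=
  rowsOK_join 224000 4125 125 228125 rfl grp14_32 rows_ok_1825

theorem grp14_34 : rowsOK 224000 4375 = true :=
  rowsOK_join 224000 4250 125 228250 rfl grp14_33 rows_ok_1826

theorem grp14_35 : rowsOK 224000 4500 = true :=
  rowsOK_join 224000 4375 125 228375 rfl grp14_34 rows_ok_1827

theorem grp14_36 : rowsOK 224000 4625 = true :=
  rowsOK_join 224000 4500 125 228500 rfl grp14_35 rows_ok_1828

theorem grp14_37 : rowsOK 224000 4750 = true :=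
  rowsOK_join 224000 4625 125 228625 rfl grp14_36 rows_ok_1829

theorem grp14_38 : rowsOK 224000 4875 = true :=
  rowsOK_join 224000 4750 125 228750 rfl grp14_37 rows_ok_1830

theorem grp14_39 : rowsOK 224000 5000 = true :=
  rowsOK_join 224000 4875 125 228875 rfl grp14_38 rows_ok_1831

theorem grp14_40 : rowsOK 224000 5125 = true :=
  rowsOK_join 224000 5000 125 229000 rfl grp14_39 rows_ok_1832

theorem grp14_41 : rowsOK 224000 5250 = true :=
  rowsOK_join 224000 5125 125 229125 rfl grp14_40 rows_ok_1833

theorem grp14_42 : rowsOK 224000 5375 = true :=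
  rowsOK_join 224000 5250 125 229250 rfl grp14_41 rows_ok_1834

theorem grp14_43 : rowsOK 224000 5500 = true :=
  rowsOK_join 224000 5375 125 229375 rfl grp14_42 rows_ok_1835

theorem grp14_44 : rowsOK 224000 5625 = true :=
  rowsOK_join 224000 5500 125 229500 rfl grp14_43 rows_ok_1836

theorem grp14_45 : rowsOK 224000 5750 = true :=
  rowsOK_join 224000 5625 125 229625 rfl grp14_44 rows_ok_1837

theorem grp14_46 : rowsOK 224000 5875 = true :=
  rowsOK_join 224000 5750 125 229750 rfl grp14_45 rows_ok_1838

theorem grp14_47 : rowsOK 224000 6000 = true :=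
  rowsOK_join 224000 5875 125 229875 rfl grp14_46 rows_ok_1839

theorem grp14_48 : rowsOK 224000 6125 = true :=
  rowsOK_join 224000 6000 125 230000 rfl grp14_47 rows_ok_1840

theorem grp14_49 : rowsOK 224000 6250 = true :=
  rowsOK_join 224000 6125 125 230125 rfl grp14_48 rows_ok_1841

theorem grp14_50 : rowsOK 224000 6375 = true :=
  rowsOK_join 224000 6250 125 230250 rfl grp14_49 rows_ok_1842

theorem grp14_51 : rowsOK 224000 6500 = true :=
  rowsOK_join 224000 6375 125 230375 rfl grp14_50 rows_ok_1843

theorem grp14_52 : rowsOK 224000 6625 = true :=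
  rowsOK_join 224000 6500 125 230500 rfl grp14_51 rows_ok_1844

theorem grp14_53 : rowsOK 224000 6750 = true :=
  rowsOK_join 224000 6625 125 230625 rfl grp14_52 rows_ok_1845

theorem grp14_54 : rowsOK 224000 6875 = true :=
  rowsOK_join 224000 6750 125 230750 rfl grp14_53 rows_ok_1846

theorem grp14_55 : rowsOK 224000 7000 = true :=
  rowsOK_join 224000 6875 125 230875 rfl grp14_54 rows_ok_1847

theorem grp14_56 : rowsOK 224000 7125 = true :=
  rowsOK_join 224000 7000 125 231000 rfl grp14_55 rows_ok_1848

theorem grp14_57 : rowsOK 224000 7250 = true :=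
  rowsOK_join 224000 7125 125 231125 rfl grp14_56 rows_ok_1849

theorem grp14_58 : rowsOK 224000 7375 = true :=
  rowsOK_join 224000 7250 125 231250 rfl grp14_57 rows_ok_1850

theorem grp14_59 : rowsOK 224000 7500 = true :=
  rowsOK_join 224000 7375 125 231375 rfl grp14_58 rows_ok_1851

theorem grp14_60 : rowsOK 224000 7625 = true :=
  rowsOK_join 224000 7500 125 231500 rfl grp14_59 rows_ok_1852

theorem grp14_61 : rowsOK 224000 7750 = true :=
  rowsOK_join 224000 7625 125 231625 rfl grp14_60 rows_ok_1853

theorem grp14_62 : rowsOK 224000 7875 = true :=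
  rowsOK_join 224000 7750 125 231750 rfl grp14_61 rows_ok_1854

theorem grp14_63 : rowsOK 224000 8000 = true :=
  rowsOK_join 224000 7875 125 231875 rfl grp14_62 rows_ok_1855

theorem grp14_64 : rowsOK 224000 8125 = true :=
  rowsOK_join 224000 8000 125 232000 rfl grp14_63 rows_ok_1856

theorem grp14_65 : rowsOK 224000 8250 = true :=
  rowsOK_join 224000 8125 125 232125 rfl grp14_64 rows_ok_1857

theorem grp14_66 : rowsOK 224000 8375 = true :=
  rowsOK_join 224000 8250 125 232250 rfl grp14_65 rows_ok_1858

theorem grp14_67 : rowsOK 224000 8500 = true :=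
  rowsOK_join 224000 8375 125 232375 rfl grp14_66 rows_ok_1859

theorem grp14_68 : rowsOK 224000 8625 = true :=
  rowsOK_join 224000 8500 125 232500 rfl grp14_67 rows_ok_1860

theorem grp14_69 : rowsOK 224000 8750 = true :=
  rowsOK_join 224000 8625 125 232625 rfl grp14_68 rows_ok_1861

theorem grp14_70 : rowsOK 224000 8875 = true :=
  rowsOK_join 224000 8750 125 232750 rfl grp14_69 rows_ok_1862

theorem grp14_71 : rowsOK 224000 9000 = true :=
  rowsOK_join 224000 8875 125 232875 rfl grp14_70 rows_ok_1863

theorem grp14_72 : rowsOK 224000 9125 = true :=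
  rowsOK_join 224000 9000 125 233000 rfl grp14_71 rows_ok_1864

theorem grp14_73 : rowsOK 224000 9250 = true :=
  rowsOK_join 224000 9125 125 233125 rfl grp14_72 rows_ok_1865

theorem grp14_74 : rowsOK 224000 9375 = true :=
  rowsOK_join 224000 9250 125 233250 rfl grp14_73 rows_ok_1866

theorem grp14_75 : rowsOK 224000 9500 = true :=
  rowsOK_join 224000 9375 125 233375 rfl grp14_74 rows_ok_1867

theorem grp14_76 : rowsOK 224000 9625 = true :=
  rowsOK_join 224000 9500 125 233500 rfl grp14_75 rows_ok_1868

theorem grp14_77 : rowsOK 224000 9750 = true :=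
  rowsOK_join 224000 9625 125 233625 rfl grp14_76 rows_ok_1869

theorem grp14_78 : rowsOK 224000 9875 = true :=
  rowsOK_join 224000 9750 125 233750 rfl grp14_77 rows_ok_1870

theorem grp14_79 : rowsOK 224000 10000 = true :=
  rowsOK_join 224000 9875 125 233875 rfl grp14_78 rows_ok_1871

theorem grp14_80 : rowsOK 224000 10125 = true :=
  rowsOK_join 224000 10000 125 234000 rfl grp14_79 rows_ok_1872

theorem grp14_81 : rowsOK 224000 10250 = true :=
  rowsOK_join 224000 10125 125 234125 rfl grp14_80 rows_ok_1873

theorem grp14_82 : rowsOK 224000 10375 = true :=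
  rowsOK_join 224000 10250 125 234250 rfl grp14_81 rows_ok_1874

theorem grp14_83 : rowsOK 224000 10500 = true :=
  rowsOK_join 224000 10375 125 234375 rfl grp14_82 rows_ok_1875

theorem grp14_84 : rowsOK 224000 10625 = true :=
  rowsOK_join 224000 10500 125 234500 rfl grp14_83 rows_ok_1876

theorem grp14_85 : rowsOK 224000 10750 = true :=
  rowsOK_join 224000 10625 125 234625 rfl grp14_84 rows_ok_1877

theorem grp14_86 : rowsOK 224000 10875 = true :=
  rowsOK_join 224000 10750 125 234750 rfl grp14_85 rows_ok_1878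

theorem grp14_87 : rowsOK 224000 11000 = true :=
  rowsOK_join 224000 10875 125 234875 rfl grp14_86 rows_ok_1879

theorem grp14_88 : rowsOK 224000 11125 = true :=
  rowsOK_join 224000 11000 125 235000 rfl grp14_87 rows_ok_1880

theorem grp14_89 : rowsOK 224000 11250 = true :=
  rowsOK_join 224000 11125 125 235125 rfl grp14_88 rows_ok_1881

theorem grp14_90 : rowsOK 224000 11375 = true :=
  rowsOK_join 224000 11250 125 235250 rfl grp14_89 rows_ok_1882

theorem grp14_91 : rowsOK 224000 11500 = true :=
  rowsOK_join 224000 11375 125 235375 rfl grp14_90 rows_ok_1883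

theorem grp14_92 : rowsOK 224000 11625 = true :=
  rowsOK_join 224000 11500 125 235500 rfl grp14_91 rows_ok_1884

theorem grp14_93 : rowsOK 224000 11750 = true :=
  rowsOK_join 224000 11625 125 235625 rfl grp14_92 rows_ok_1885

theorem grp14_94 : rowsOK 224000 11875 = true :=
  rowsOK_join 224000 11750 125 235750 rfl grp14_93 rows_ok_1886

theorem grp14_95 : rowsOK 224000 12000 = true :=
  rowsOK_join 224000 11875 125 235875 rfl grp14_94 rows_ok_1887

theorem grp14_96 : rowsOK 224000 12125 = true :=
  rowsOK_join 224000 12000 125 236000 rfl grp14_95 rows_ok_1888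

theorem grp14_97 : rowsOK 224000 12250 = true :=
  rowsOK_join 224000 12125 125 236125 rfl grp14_96 rows_ok_1889

theorem grp14_98 : rowsOK 224000 12375 = true :=
  rowsOK_join 224000 12250 125 236250 rfl grp14_97 rows_ok_1890

theorem grp14_99 : rowsOK 224000 12500 = true :=
  rowsOK_join 224000 12375 125 236375 rfl grp14_98 rows_ok_1891

theorem grp14_100 : rowsOK 224000 12625 = true :=
  rowsOK_join 224000 12500 125 236500 rfl grp14_99 rows_ok_1892

theorem grp14_101 : rowsOK 224000 12750 = true :=
  rowsOK_join 224000 12625 125 236625 rfl grp14_100 rows_ok_1893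

theorem grp14_102 : rowsOK 224000 12875 = true :=
  rowsOK_join 224000 12750 125 236750 rfl grp14_101 rows_ok_1894

theorem grp14_103 : rowsOK 224000 13000 = true :=
  rowsOK_join 224000 12875 125 236875 rfl grp14_102 rows_ok_1895

theorem grp14_104 : rowsOK 224000 13125 = true :=
  rowsOK_join 224000 13000 125 237000 rfl grp14_103 rows_ok_1896

theorem grp14_105 : rowsOK 224000 13250 = true :=
  rowsOK_join 224000 13125 125 237125 rfl grp14_104 rows_ok_1897

theorem grp14_106 : rowsOK 224000 13375 = true :=
  rowsOK_join 224000 13250 125 237250 rfl grp14_105 rows_ok_1898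

theorem grp14_107 : rowsOK 224000 13500 = true :=
  rowsOK_join 224000 13375 125 237375 rfl grp14_106 rows_ok_1899

theorem grp14_108 : rowsOK 224000 13625 = true :=
  rowsOK_join 224000 13500 125 237500 rfl grp14_107 rows_ok_1900

theorem grp14_109 : rowsOK 224000 13750 = true :=
  rowsOK_join 224000 13625 125 237625 rfl grp14_108 rows_ok_1901

theorem grp14_110 : rowsOK 224000 13875 = true :=
  rowsOK_join 224000 13750 125 237750 rfl grp14_109 rows_ok_1902

theorem grp14_111 : rowsOK 224000 14000 = true :=
  rowsOK_join 224000 13875 125 237875 rfl grp14_110 rows_ok_1903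

theorem grp14_112 : rowsOK 224000 14125 = true :=
  rowsOK_join 224000 14000 125 238000 rfl grp14_111 rows_ok_1904

theorem grp14_113 : rowsOK 224000 14250 = true :=
  rowsOK_join 224000 14125 125 238125 rfl grp14_112 rows_ok_1905

theorem grp14_114 : rowsOK 224000 14375 = true :=
  rowsOK_join 224000 14250 125 238250 rfl grp14_113 rows_ok_1906

theorem grp14_115 : rowsOK 224000 14500 = true :=
  rowsOK_join 224000 14375 125 238375 rfl grp14_114 rows_ok_1907

theorem grp14_116 : rowsOK 224000 14625 = true :=
  rowsOK_join 224000 14500 125 238500 rfl grp14_115 rows_ok_1908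

theorem grp14_117 : rowsOK 224000 14750 = true :=
  rowsOK_join 224000 14625 125 238625 rfl grp14_116 rows_ok_1909

theorem grp14_118 : rowsOK 224000 14875 = true :=
  rowsOK_join 224000 14750 125 238750 rfl grp14_117 rows_ok_1910

theorem grp14_119 : rowsOK 224000 15000 = true :=
  rowsOK_join 224000 14875 125 238875 rfl grp14_118 rows_ok_1911

theorem grp14_120 : rowsOK 224000 15125 = true :=
  rowsOK_join 224000 15000 125 239000 rfl grp14_119 rows_ok_1912

theorem grp14_121 : rowsOK 224000 15250 = true :=
  rowsOK_join 224000 15125 125 239125 rfl grp14_120 rows_ok_1913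

theorem grp14_122 : rowsOK 224000 15375 = true :=
  rowsOK_join 224000 15250 125 239250 rfl grp14_121 rows_ok_1914

theorem grp14_123 : rowsOK 224000 15500 = true :=
  rowsOK_join 224000 15375 125 239375 rfl grp14_122 rows_ok_1915

theorem grp14_124 : rowsOK 224000 15625 = true :=
  rowsOK_join 224000 15500 125 239500 rfl grp14_123 rows_ok_1916

theorem grp14_125 : rowsOK 224000 15750 = true :=
  rowsOK_join 224000 15625 125 239625 rfl grp14_124 rows_ok_1917

theorem grp14_126 : rowsOK 224000 15875 = true :=
  rowsOK_join 224000 15750 125 239750 rfl grp14_125 rows_ok_1918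

theorem rows_ok_grp_14 : rowsOK 224000 16000 = true :=
  rowsOK_join 224000 15875 125 239875 rfl grp14_126 rows_ok_1919

end Cfsg.Agent.Lib.Helper7.Fi24L
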