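import Cfsg.Agent.Lib.Helper7.Fi24LK240
import Cfsg.Agent.Lib.Helper7.Fi24LK241
import Cfsg.Agent.Lib.Helper7.Fi24LK242
import Cfsg.Agent.Lib.Helper7.Fi24LK243
import Cfsg.Agent.Lib.Helper7.Fi24LK244
import Cfsg.Agent.Lib.Helper7.Fi24LK245
import Cfsg.Agent.Lib.Helper7.Fi24LK246
import Cfsg.Agent.Lib.Helper7.Fi24LK247
import Cfsg.Agent.Lib.Helper7.Fi24LK248
import Cfsg.Agent.Lib.Helper7.Fi24LK249
import Cfsg.Agent.Lib.Helper7.Fi24LK250
import Cfsg.Agent.Lib.Helper7.Fi24LK251
import Cfsg.Agent.Lib.Helper7.Fi24LK252
import Cfsg.Agent.Lib.Helper7.Fi24LK253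
import Cfsg.Agent.Lib.Helper7.Fi24LK254
import Cfsg.Agent.Lib.Helper7.Fi24LK255
import Cfsg.Agent.Lib.Helper7.Fi24LE

/-! # The multiplier of the Fischer group Fi₂₄′, a threefold cover of a permutation representation of the presented group Fi₂₄: the checks of a part of the rows are joined (generated) -/

set_option autoImplicit false
set_option maxRecDepth 100000

namespace Cfsg.Agent.Lib.Helper7.Fi24L

theorem grp15_1 : rowsOK 240000 250 = true :=
  rowsOK_join 240000 125 125 240125 rfl rows_ok_1920 rows_ok_1921

theorem grp15_2 : rowsOK 240000 375 = true :=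
  rowsOK_join 240000 250 125 240250 rfl grp15_1 rows_ok_1922

theorem grp15_3 : rowsOK 240000 500 = true :=
  rowsOK_join 240000 375 125 240375 rfl grp15_2 rows_ok_1923

theorem grp15_4 : rowsOK 240000 625 = true :=
  rowsOK_join 240000 500 125 240500 rfl grp15_3 rows_ok_1924

theorem grp15_5 : rowsOK 240000 750 = true :=
  rowsOK_join 240000 625 125 240625 rfl grp15_4 rows_ok_1925

theorem grp15_6 : rowsOK 240000 875 = true :=
  rowsOK_join 240000 750 125 240750 rfl grp15_5 rows_ok_1926

theorem grp15_7 : rowsOK 240000 1000 = true :=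
  rowsOK_join 240000 875 125 240875 rfl grp15_6 rows_ok_1927

theorem grp15_8 : rowsOK 240000 1125 = true :=
  rowsOK_join 240000 1000 125 241000 rfl grp15_7 rows_ok_1928

theorem grp15_9 : rowsOK 240000 1250 = true :=
  rowsOK_join 240000 1125 125 241125 rfl grp15_8 rows_ok_1929

theorem grp15_10 : rowsOK 240000 1375 = true :=
  rowsOK_join 240000 1250 125 241250 rfl grp15_9 rows_ok_1930

theorem grp15_11 : rowsOK 240000 1500 = true :=
  rowsOK_join 240000 1375 125 241375 rfl grp15_10 rows_ok_1931

theorem grp15_12 : rowsOK 240000 1625 = true :=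
  rowsOK_join 240000 1500 125 241500 rfl grp15_11 rows_ok_1932

theorem grp15_13 : rowsOK 240000 1750 = true :=
  rowsOK_join 240000 1625 125 241625 rfl grp15_12 rows_ok_1933

theorem grp15_14 : rowsOK 240000 1875 = true :=
  rowsOK_join 240000 1750 125 241750 rfl grp15_13 rows_ok_1934

theorem grp15_15 : rowsOK 240000 2000 = true :=
  rowsOK_join 240000 1875 125 241875 rfl grp15_14 rows_ok_1935

theorem grp15_16 : rowsOK 240000 2125 = true :=
  rowsOK_join 240000 2000 125 242000 rfl grp15_15 rows_ok_1936

theorem grp15_17 : rowsOK 240000 2250 = true :=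
  rowsOK_join 240000 2125 125 242125 rfl grp15_16 rows_ok_1937

theorem grp15_18 : rowsOK 240000 2375 = true :=
  rowsOK_join 240000 2250 125 242250 rfl grp15_17 rows_ok_1938

theorem grp15_19 : rowsOK 240000 2500 = true :=
  rowsOK_join 240000 2375 125 242375 rfl grp15_18 rows_ok_1939

theorem grp15_20 : rowsOK 240000 2625 = true :=
  rowsOK_join 240000 2500 125 242500 rfl grp15_19 rows_ok_1940

theorem grp15_21 : rowsOK 240000 2750 = true :=
  rowsOK_join 240000 2625 125 242625 rfl grp15_20 rows_ok_1941

theorem grp15_22 : rowsOK 240000 2875 = true :=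
  rowsOK_join 240000 2750 125 242750 rfl grp15_21 rows_ok_1942

theorem grp15_23 : rowsOK 240000 3000 = true :=
  rowsOK_join 240000 2875 125 242875 rfl grp15_22 rows_ok_1943

theorem grp15_24 : rowsOK 240000 3125 = true :=
  rowsOK_join 240000 3000 125 243000 rfl grp15_23 rows_ok_1944

theorem grp15_25 : rowsOK 240000 3250 = true :=
  rowsOK_join 240000 3125 125 243125 rfl grp15_24 rows_ok_1945

theorem grp15_26 : rowsOK 240000 3375 = true :=
  rowsOK_join 240000 3250 125 243250 rfl grp15_25 rows_ok_1946

theorem grp15_27 : rowsOK 240000 3500 = true :=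
  rowsOK_join 240000 3375 125 243375 rfl grp15_26 rows_ok_1947

theorem grp15_28 : rowsOK 240000 3625 = true :=
  rowsOK_join 240000 3500 125 243500 rfl grp15_27 rows_ok_1948

theorem grp15_29 : rowsOK 240000 3750 = true :=
  rowsOK_join 240000 3625 125 243625 rfl grp15_28 rows_ok_1949

theorem grp15_30 : rowsOK 240000 3875 = true :=
  rowsOK_join 240000 3750 125 243750 rfl grp15_29 rows_ok_1950

theorem grp15_31 : rowsOK 240000 4000 = true :=
  rowsOK_join 240000 3875 125 243875 rfl grp15_30 rows_ok_1951

theorem grp15_32 : rowsOK 240000 4125 = true :=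
  rowsOK_join 240000 4000 125 244000 rfl grp15_31 rows_ok_1952

theorem grp15_33 : rowsOK 240000 4250 = true :=
  rowsOK_join 240000 4125 125 244125 rfl grp15_32 rows_ok_1953

theorem grp15_34 : rowsOK 240000 4375 = true :=
  rowsOK_join 240000 4250 125 244250 rfl grp15_33 rows_ok_1954

theorem grp15_35 : rowsOK 240000 4500 = true :=
  rowsOK_join 240000 4375 125 244375 rfl grp15_34 rows_ok_1955

theorem grp15_36 : rowsOK 240000 4625 = true :=
  rowsOK_join 240000 4500 125 244500 rfl grp15_35 rows_ok_1956

theorem grp15_37 : rowsOK 240000 4750 = true :=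
  rowsOK_join 240000 4625 125 244625 rfl grp15_36 rows_ok_1957

theorem grp15_38 : rowsOK 240000 4875 = true :=
  rowsOK_join 240000 4750 125 244750 rfl grp15_37 rows_ok_1958

theorem grp15_39 : rowsOK 240000 5000 = true :=
  rowsOK_join 240000 4875 125 244875 rfl grp15_38 rows_ok_1959

theorem grp15_40 : rowsOK 240000 5125 = true :=
  rowsOK_join 240000 5000 125 245000 rfl grp15_39 rows_ok_1960

theorem grp15_41 : rowsOK 240000 5250 = true :=
  rowsOK_join 240000 5125 125 245125 rfl grp15_40 rows_ok_1961

theorem grp15_42 : rowsOK 240000 5375 = true :=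
  rowsOK_join 240000 5250 125 245250 rfl grp15_41 rows_ok_1962

theorem grp15_43 : rowsOK 240000 5500 = true :=
  rowsOK_join 240000 5375 125 245375 rfl grp15_42 rows_ok_1963

theorem grp15_44 : rowsOK 240000 5625 = true :=
  rowsOK_join 240000 5500 125 245500 rfl grp15_43 rows_ok_1964

theorem grp15_45 : rowsOK 240000 5750 = true :=
  rowsOK_join 240000 5625 125 245625 rfl grp15_44 rows_ok_1965

theorem grp15_46 : rowsOK 240000 5875 = true :=
  rowsOK_join 240000 5750 125 245750 rfl grp15_45 rows_ok_1966

theorem grp15_47 : rowsOK 240000 6000 = true :=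
  rowsOK_join 240000 5875 125 245875 rfl grp15_46 rows_ok_1967

theorem grp15_48 : rowsOK 240000 6125 = true :=
  rowsOK_join 240000 6000 125 246000 rfl grp15_47 rows_ok_1968

theorem grp15_49 : rowsOK 240000 6250 = true :=
  rowsOK_join 240000 6125 125 246125 rfl grp15_48 rows_ok_1969

theorem grp15_50 : rowsOK 240000 6375 = true :=
  rowsOK_join 240000 6250 125 246250 rfl grp15_49 rows_ok_1970

theorem grp15_51 : rowsOK 240000 6500 = true :=
  rowsOK_join 240000 6375 125 246375 rfl grp15_50 rows_ok_1971

theorem grp15_52 : rowsOK 240000 6625 = true :=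
  rowsOK_join 240000 6500 125 246500 rfl grp15_51 rows_ok_1972

theorem grp15_53 : rowsOK 240000 6750 = true :=
  rowsOK_join 240000 6625 125 246625 rfl grp15_52 rows_ok_1973

theorem grp15_54 : rowsOK 240000 6875 = true :=
  rowsOK_join 240000 6750 125 246750 rfl grp15_53 rows_ok_1974

theorem grp15_55 : rowsOK 240000 7000 = true :=
  rowsOK_join 240000 6875 125 246875 rfl grp15_54 rows_ok_1975

theorem grp15_56 : rowsOK 240000 7125 = true :=
  rowsOK_join 240000 7000 125 247000 rfl grp15_55 rows_ok_1976

theorem grp15_57 : rowsOK 240000 7250 = true :=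
  rowsOK_join 240000 7125 125 247125 rfl grp15_56 rows_ok_1977

theorem grp15_58 : rowsOK 240000 7375 = true :=
  rowsOK_join 240000 7250 125 247250 rfl grp15_57 rows_ok_1978

theorem grp15_59 : rowsOK 240000 7500 = true :=
  rowsOK_join 240000 7375 125 247375 rfl grp15_58 rows_ok_1979

theorem grp15_60 : rowsOK 240000 7625 = true :=
  rowsOK_join 240000 7500 125 247500 rfl grp15_59 rows_ok_1980

theorem grp15_61 : rowsOK 240000 7750 = true :=
  rowsOK_join 240000 7625 125 247625 rfl grp15_60 rows_ok_1981

theorem grp15_62 : rowsOK 240000 7875 = true :=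
  rowsOK_join 240000 7750 125 247750 rfl grp15_61 rows_ok_1982

theorem grp15_63 : rowsOK 240000 8000 = true :=
  rowsOK_join 240000 7875 125 247875 rfl grp15_62 rows_ok_1983

theorem grp15_64 : rowsOK 240000 8125 = true :=
  rowsOK_join 240000 8000 125 248000 rfl grp15_63 rows_ok_1984

theorem grp15_65 : rowsOK 240000 8250 = true :=
  rowsOK_join 240000 8125 125 248125 rfl grp15_64 rows_ok_1985

theorem grp15_66 : rowsOK 240000 8375 = true :=
  rowsOK_join 240000 8250 125 248250 rfl grp15_65 rows_ok_1986

theorem grp15_67 : rowsOK 240000 8500 = true :=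
  rowsOK_join 240000 8375 125 248375 rfl grp15_66 rows_ok_1987

theorem grp15_68 : rowsOK 240000 8625 = true :=
  rowsOK_join 240000 8500 125 248500 rfl grp15_67 rows_ok_1988

theorem grp15_69 : rowsOK 240000 8750 = true :=
  rowsOK_join 240000 8625 125 248625 rfl grp15_68 rows_ok_1989

theorem grp15_70 : rowsOK 240000 8875 = true :=
  rowsOK_join 240000 8750 125 248750 rfl grp15_69 rows_ok_1990

theorem grp15_71 : rowsOK 240000 9000 = true :=
  rowsOK_join 240000 8875 125 248875 rfl grp15_70 rows_ok_1991

theorem grp15_72 : rowsOK 240000 9125 = true :=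
  rowsOK_join 240000 9000 125 249000 rfl grp15_71 rows_ok_1992

theorem grp15_73 : rowsOK 240000 9250 = true :=
  rowsOK_join 240000 9125 125 249125 rfl grp15_72 rows_ok_1993

theorem grp15_74 : rowsOK 240000 9375 = true :=
  rowsOK_join 240000 9250 125 249250 rfl grp15_73 rows_ok_1994

theorem grp15_75 : rowsOK 240000 9500 = true :=
  rowsOK_join 240000 9375 125 249375 rfl grp15_74 rows_ok_1995

theorem grp15_76 : rowsOK 240000 9625 = true :=
  rowsOK_join 240000 9500 125 249500 rfl grp15_75 rows_ok_1996

theorem grp15_77 : rowsOK 240000 9750 = true :=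
  rowsOK_join 240000 9625 125 249625 rfl grp15_76 rows_ok_1997

theorem grp15_78 : rowsOK 240000 9875 = true :=
  rowsOK_join 240000 9750 125 249750 rfl grp15_77 rows_ok_1998

theorem grp15_79 : rowsOK 240000 10000 = true :=
  rowsOK_join 240000 9875 125 249875 rfl grp15_78 rows_ok_1999

theorem grp15_80 : rowsOK 240000 10125 = true :=
  rowsOK_join 240000 10000 125 250000 rfl grp15_79 rows_ok_2000

theorem grp15_81 : rowsOK 240000 10250 = true :=
  rowsOK_join 240000 10125 125 250125 rfl grp15_80 rows_ok_2001

theorem grp15_82 : rowsOK 240000 10375 = true :=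
  rowsOK_join 240000 10250 125 250250 rfl grp15_81 rows_ok_2002

theorem grp15_83 : rowsOK 240000 10500 = true :=
  rowsOK_join 240000 10375 125 250375 rfl grp15_82 rows_ok_2003

theorem grp15_84 : rowsOK 240000 10625 = true :=
  rowsOK_join 240000 10500 125 250500 rfl grp15_83 rows_ok_2004

theorem grp15_85 : rowsOK 240000 10750 = true :=
  rowsOK_join 240000 10625 125 250625 rfl grp15_84 rows_ok_2005

theorem grp15_86 : rowsOK 240000 10875 = true :=
  rowsOK_join 240000 10750 125 250750 rfl grp15_85 rows_ok_2006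

theorem grp15_87 : rowsOK 240000 11000 = true :=
  rowsOK_join 240000 10875 125 250875 rfl grp15_86 rows_ok_2007

theorem grp15_88 : rowsOK 240000 11125 = true :=
  rowsOK_join 240000 11000 125 251000 rfl grp15_87 rows_ok_2008

theorem grp15_89 : rowsOK 240000 11250 = true :=
  rowsOK_join 240000 11125 125 251125 rfl grp15_88 rows_ok_2009

theorem grp15_90 : rowsOK 240000 11375 = true :=
  rowsOK_join 240000 11250 125 251250 rfl grp15_89 rows_ok_2010

theorem grp15_91 : rowsOK 240000 11500 = true :=
  rowsOK_join 240000 11375 125 251375 rfl grp15_90 rows_ok_2011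

theorem grp15_92 : rowsOK 240000 11625 = true :=
  rowsOK_join 240000 11500 125 251500 rfl grp15_91 rows_ok_2012

theorem grp15_93 : rowsOK 240000 11750 = true :=
  rowsOK_join 240000 11625 125 251625 rfl grp15_92 rows_ok_2013

theorem grp15_94 : rowsOK 240000 11875 = true :=
  rowsOK_join 240000 11750 125 251750 rfl grp15_93 rows_ok_2014

theorem grp15_95 : rowsOK 240000 12000 = true :=
  rowsOK_join 240000 11875 125 251875 rfl grp15_94 rows_ok_2015

theorem grp15_96 : rowsOK 240000 12125 = true :=
  rowsOK_join 240000 12000 125 252000 rfl grp15_95 rows_ok_2016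

theorem grp15_97 : rowsOK 240000 12250 = true :=
  rowsOK_join 240000 12125 125 252125 rfl grp15_96 rows_ok_2017

theorem grp15_98 : rowsOK 240000 12375 = true :=
  rowsOK_join 240000 12250 125 252250 rfl grp15_97 rows_ok_2018

theorem grp15_99 : rowsOK 240000 12500 = true :=
  rowsOK_join 240000 12375 125 252375 rfl grp15_98 rows_ok_2019

theorem grp15_100 : rowsOK 240000 12625 = true :=
  rowsOK_join 240000 12500 125 252500 rfl grp15_99 rows_ok_2020

theorem grp15_101 : rowsOK 240000 12750 = true :=
  rowsOK_join 240000 12625 125 252625 rfl grp15_100 rows_ok_2021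

theorem grp15_102 : rowsOK 240000 12875 = true :=
  rowsOK_join 240000 12750 125 252750 rfl grp15_101 rows_ok_2022

theorem grp15_103 : rowsOK 240000 13000 = true :=
  rowsOK_join 240000 12875 125 252875 rfl grp15_102 rows_ok_2023

theorem grp15_104 : rowsOK 240000 13125 = true :=
  rowsOK_join 240000 13000 125 253000 rfl grp15_103 rows_ok_2024

theorem grp15_105 : rowsOK 240000 13250 = true :=
  rowsOK_join 240000 13125 125 253125 rfl grp15_104 rows_ok_2025

theorem grp15_106 : rowsOK 240000 13375 = true :=
  rowsOK_join 240000 13250 125 253250 rfl grp15_105 rows_ok_2026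

theorem grp15_107 : rowsOK 240000 13500 = true :=
  rowsOK_join 240000 13375 125 253375 rfl grp15_106 rows_ok_2027

theorem grp15_108 : rowsOK 240000 13625 = true :=
  rowsOK_join 240000 13500 125 253500 rfl grp15_107 rows_ok_2028

theorem grp15_109 : rowsOK 240000 13750 = true :=
  rowsOK_join 240000 13625 125 253625 rfl grp15_108 rows_ok_2029

theorem grp15_110 : rowsOK 240000 13875 = true :=
  rowsOK_join 240000 13750 125 253750 rfl grp15_109 rows_ok_2030

theorem grp15_111 : rowsOK 240000 14000 = true :=
  rowsOK_join 240000 13875 125 253875 rfl grp15_110 rows_ok_2031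

theorem grp15_112 : rowsOK 240000 14125 = true :=
  rowsOK_join 240000 14000 125 254000 rfl grp15_111 rows_ok_2032

theorem grp15_113 : rowsOK 240000 14250 = true :=
  rowsOK_join 240000 14125 125 254125 rfl grp15_112 rows_ok_2033

theorem grp15_114 : rowsOK 240000 14375 = true :=
  rowsOK_join 240000 14250 125 254250 rfl grp15_113 rows_ok_2034

theorem grp15_115 : rowsOK 240000 14500 = true :=
  rowsOK_join 240000 14375 125 254375 rfl grp15_114 rows_ok_2035

theorem grp15_116 : rowsOK 240000 14625 = true :=
  rowsOK_join 240000 14500 125 254500 rfl grp15_115 rows_ok_2036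

theorem grp15_117 : rowsOK 240000 14750 = true :=
  rowsOK_join 240000 14625 125 254625 rfl grp15_116 rows_ok_2037

theorem grp15_118 : rowsOK 240000 14875 = true :=
  rowsOK_join 240000 14750 125 254750 rfl grp15_117 rows_ok_2038

theorem grp15_119 : rowsOK 240000 15000 = true :=
  rowsOK_join 240000 14875 125 254875 rfl grp15_118 rows_ok_2039

theorem grp15_120 : rowsOK 240000 15125 = true :=
  rowsOK_join 240000 15000 125 255000 rfl grp15_119 rows_ok_2040

theorem grp15_121 : rowsOK 240000 15250 = true :=
  rowsOK_join 240000 15125 125 255125 rfl grp15_120 rows_ok_2041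

theorem grp15_122 : rowsOK 240000 15375 = true :=
  rowsOK_join 240000 15250 125 255250 rfl grp15_121 rows_ok_2042

theorem grp15_123 : rowsOK 240000 15500 = true :=
  rowsOK_join 240000 15375 125 255375 rfl grp15_122 rows_ok_2043

theorem grp15_124 : rowsOK 240000 15625 = true :=
  rowsOK_join 240000 15500 125 255500 rfl grp15_123 rows_ok_2044

theorem grp15_125 : rowsOK 240000 15750 = true :=
  rowsOK_join 240000 15625 125 255625 rfl grp15_124 rows_ok_2045

theorem grp15_126 : rowsOK 240000 15875 = true :=
  rowsOK_join 240000 15750 125 255750 rfl grp15_125 rows_ok_2046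

theorem rows_ok_grp_15 : rowsOK 240000 16000 = true :=
  rowsOK_join 240000 15875 125 255875 rfl grp15_126 rows_ok_2047

end Cfsg.Agent.Lib.Helper7.Fi24L
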