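import Cfsg.Agent.Lib.Helper7.Fi24LC

/-! # The multiplier of the Fischer group Fi₂₄′, a threefold cover of a permutation representation of the presented group Fi₂₄: the check of the relators at a part of the rows (generated) -/

set_option autoImplicit false
set_option maxRecDepth 100000
set_option maxHeartbeats 0

namespace Cfsg.Agent.Lib.Helper7.Fi24L

theorem rows_ok_2168 : rowsOK 271000 125 = true := by decide +kernel

theorem rows_ok_2169 : rowsOK 271125 125 = true := by decide +kernel

theorem rows_ok_2170 : rowsOK 271250 125 = true := by decide +kernel

theorem rows_ok_2171 : rowsOK 271375 125 = true := by decide +kernel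

theorem rows_ok_2172 : rowsOK 271500 125 = true := by decide +kernel

theorem rows_ok_2173 : rowsOK 271625 125 = true := by decide +kernel

theorem rows_ok_2174 : rowsOK 271750 125 = true := by decide +kernel

theorem rows_ok_2175 : rowsOK 271875 125 = true := by decide +kernel

end Cfsg.Agent.Lib.Helper7.Fi24L
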