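import Cfsg.Agent.Lib.Helper7.Fi24LK256
import Cfsg.Agent.Lib.Helper7.Fi24LK257
import Cfsg.Agent.Lib.Helper7.Fi24LK258
import Cfsg.Agent.Lib.Helper7.Fi24LK259
import Cfsg.Agent.Lib.Helper7.Fi24LK260
import Cfsg.Agent.Lib.Helper7.Fi24LK261
import Cfsg.Agent.Lib.Helper7.Fi24LK262
import Cfsg.Agent.Lib.Helper7.Fi24LK263
import Cfsg.Agent.Lib.Helper7.Fi24LK264
import Cfsg.Agent.Lib.Helper7.Fi24LK265
import Cfsg.Agent.Lib.Helper7.Fi24LK266
import Cfsg.Agent.Lib.Helper7.Fi24LK267
import Cfsg.Agent.Lib.Helper7.Fi24LK268
import Cfsg.Agent.Lib.Helper7.Fi24LK269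
import Cfsg.Agent.Lib.Helper7.Fi24LK270
import Cfsg.Agent.Lib.Helper7.Fi24LK271
import Cfsg.Agent.Lib.Helper7.Fi24LE

/-! # The multiplier of the Fischer group Fi₂₄′, a threefold cover of a permutation representation of the presented group Fi₂₄: the checks of a part of the rows are joined (generated) -/

set_option autoImplicit false
set_option maxRecDepth 100000

namespace Cfsg.Agent.Lib.Helper7.Fi24L

theorem grp16_1 : rowsOK 256000 250 = true :=
  rowsOK_join 256000 125 125 256125 rfl rows_ok_2048 rows_ok_2049

theorem grp16_2 : rowsOK 256000 375 = true :=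
  rowsOK_join 256000 250 125 256250 rfl grp16_1 rows_ok_2050

theorem grp16_3 : rowsOK 256000 500 = true :=
  rowsOK_join 256000 375 125 256375 rfl grp16_2 rows_ok_2051

theorem grp16_4 : rowsOK 256000 625 = true :=
  rowsOK_join 256000 500 125 256500 rfl grp16_3 rows_ok_2052

theorem grp16_5 : rowsOK 256000 750 = true :=
  rowsOK_join 256000 625 125 256625 rfl grp16_4 rows_ok_2053

theorem grp16_6 : rowsOK 256000 875 = true :=
  rowsOK_join 256000 750 125 256750 rfl grp16_5 rows_ok_2054

theorem grp16_7 : rowsOK 256000 1000 = true :=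
  rowsOK_join 256000 875 125 256875 rfl grp16_6 rows_ok_2055

theorem grp16_8 : rowsOK 256000 1125 = true :=
  rowsOK_join 256000 1000 125 257000 rfl grp16_7 rows_ok_2056

theorem grp16_9 : rowsOK 256000 1250 = true :=
  rowsOK_join 256000 1125 125 257125 rfl grp16_8 rows_ok_2057

theorem grp16_10 : rowsOK 256000 1375 = true :=
  rowsOK_join 256000 1250 125 257250 rfl grp16_9 rows_ok_2058

theorem grp16_11 : rowsOK 256000 1500 = true :=
  rowsOK_join 256000 1375 125 257375 rfl grp16_10 rows_ok_2059

theorem grp16_12 : rowsOK 256000 1625 = true :=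
  rowsOK_join 256000 1500 125 257500 rfl grp16_11 rows_ok_2060

theorem grp16_13 : rowsOK 256000 1750 = true :=
  rowsOK_join 256000 1625 125 257625 rfl grp16_12 rows_ok_2061

theorem grp16_14 : rowsOK 256000 1875 = true :=
  rowsOK_join 256000 1750 125 257750 rfl grp16_13 rows_ok_2062

theorem grp16_15 : rowsOK 256000 2000 = true :=
  rowsOK_join 256000 1875 125 257875 rfl grp16_14 rows_ok_2063

theorem grp16_16 : rowsOK 256000 2125 = true :=
  rowsOK_join 256000 2000 125 258000 rfl grp16_15 rows_ok_2064

theorem grp16_17 : rowsOK 256000 2250 = true :=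
  rowsOK_join 256000 2125 125 258125 rfl grp16_16 rows_ok_2065

theorem grp16_18 : rowsOK 256000 2375 = true :=
  rowsOK_join 256000 2250 125 258250 rfl grp16_17 rows_ok_2066

theorem grp16_19 : rowsOK 256000 2500 = true :=
  rowsOK_join 256000 2375 125 258375 rfl grp16_18 rows_ok_2067

theorem grp16_20 : rowsOK 256000 2625 = true :=
  rowsOK_join 256000 2500 125 258500 rfl grp16_19 rows_ok_2068

theorem grp16_21 : rowsOK 256000 2750 = true :=
  rowsOK_join 256000 2625 125 258625 rfl grp16_20 rows_ok_2069

theorem grp16_22 : rowsOK 256000 2875 = true :=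
  rowsOK_join 256000 2750 125 258750 rfl grp16_21 rows_ok_2070

theorem grp16_23 : rowsOK 256000 3000 = true :=
  rowsOK_join 256000 2875 125 258875 rfl grp16_22 rows_ok_2071

theorem grp16_24 : rowsOK 256000 3125 = true :=
  rowsOK_join 256000 3000 125 259000 rfl grp16_23 rows_ok_2072

theorem grp16_25 : rowsOK 256000 3250 = true :=
  rowsOK_join 256000 3125 125 259125 rfl grp16_24 rows_ok_2073

theorem grp16_26 : rowsOK 256000 3375 = true :=
  rowsOK_join 256000 3250 125 259250 rfl grp16_25 rows_ok_2074

theorem grp16_27 : rowsOK 256000 3500 = true :=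
  rowsOK_join 256000 3375 125 259375 rfl grp16_26 rows_ok_2075

theorem grp16_28 : rowsOK 256000 3625 = true :=
  rowsOK_join 256000 3500 125 259500 rfl grp16_27 rows_ok_2076

theorem grp16_29 : rowsOK 256000 3750 = true :=
  rowsOK_join 256000 3625 125 259625 rfl grp16_28 rows_ok_2077

theorem grp16_30 : rowsOK 256000 3875 = true :=
  rowsOK_join 256000 3750 125 259750 rfl grp16_29 rows_ok_2078

theorem grp16_31 : rowsOK 256000 4000 = true :=
  rowsOK_join 256000 3875 125 259875 rfl grp16_30 rows_ok_2079

theorem grp16_32 : rowsOK 256000 4125 = true :=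
  rowsOK_join 256000 4000 125 260000 rfl grp16_31 rows_ok_2080

theorem grp16_33 : rowsOK 256000 4250 = true :=
  rowsOK_join 256000 4125 125 260125 rfl grp16_32 rows_ok_2081

theorem grp16_34 : rowsOK 256000 4375 = true :=
  rowsOK_join 256000 4250 125 260250 rfl grp16_33 rows_ok_2082

theorem grp16_35 : rowsOK 256000 4500 = true :=
  rowsOK_join 256000 4375 125 260375 rfl grp16_34 rows_ok_2083

theorem grp16_36 : rowsOK 256000 4625 = true :=
  rowsOK_join 256000 4500 125 260500 rfl grp16_35 rows_ok_2084

theorem grp16_37 : rowsOK 256000 4750 = true :=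
  rowsOK_join 256000 4625 125 260625 rfl grp16_36 rows_ok_2085

theorem grp16_38 : rowsOK 256000 4875 = true :=
  rowsOK_join 256000 4750 125 260750 rfl grp16_37 rows_ok_2086

theorem grp16_39 : rowsOK 256000 5000 = true :=
  rowsOK_join 256000 4875 125 260875 rfl grp16_38 rows_ok_2087

theorem grp16_40 : rowsOK 256000 5125 = true :=
  rowsOK_join 256000 5000 125 261000 rfl grp16_39 rows_ok_2088

theorem grp16_41 : rowsOK 256000 5250 = true :=
  rowsOK_join 256000 5125 125 261125 rfl grp16_40 rows_ok_2089

theorem grp16_42 : rowsOK 256000 5375 = true :=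
  rowsOK_join 256000 5250 125 261250 rfl grp16_41 rows_ok_2090

theorem grp16_43 : rowsOK 256000 5500 = true :=
  rowsOK_join 256000 5375 125 261375 rfl grp16_42 rows_ok_2091

theorem grp16_44 : rowsOK 256000 5625 = true :=
  rowsOK_join 256000 5500 125 261500 rfl grp16_43 rows_ok_2092

theorem grp16_45 : rowsOK 256000 5750 = true :=
  rowsOK_join 256000 5625 125 261625 rfl grp16_44 rows_ok_2093

theorem grp16_46 : rowsOK 256000 5875 = true :=
  rowsOK_join 256000 5750 125 261750 rfl grp16_45 rows_ok_2094

theorem grp16_47 : rowsOK 256000 6000 = true :=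
  rowsOK_join 256000 5875 125 261875 rfl grp16_46 rows_ok_2095

theorem grp16_48 : rowsOK 256000 6125 = true :=
  rowsOK_join 256000 6000 125 262000 rfl grp16_47 rows_ok_2096

theorem grp16_49 : rowsOK 256000 6250 = true :=
  rowsOK_join 256000 6125 125 262125 rfl grp16_48 rows_ok_2097

theorem grp16_50 : rowsOK 256000 6375 = true :=
  rowsOK_join 256000 6250 125 262250 rfl grp16_49 rows_ok_2098

theorem grp16_51 : rowsOK 256000 6500 = true :=
  rowsOK_join 256000 6375 125 262375 rfl grp16_50 rows_ok_2099

theorem grp16_52 : rowsOK 256000 6625 = true :=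
  rowsOK_join 256000 6500 125 262500 rfl grp16_51 rows_ok_2100

theorem grp16_53 : rowsOK 256000 6750 = true :=
  rowsOK_join 256000 6625 125 262625 rfl grp16_52 rows_ok_2101

theorem grp16_54 : rowsOK 256000 6875 = true :=
  rowsOK_join 256000 6750 125 262750 rfl grp16_53 rows_ok_2102

theorem grp16_55 : rowsOK 256000 7000 = true :=
  rowsOK_join 256000 6875 125 262875 rfl grp16_54 rows_ok_2103

theorem grp16_56 : rowsOK 256000 7125 = true :=
  rowsOK_join 256000 7000 125 263000 rfl grp16_55 rows_ok_2104

theorem grp16_57 : rowsOK 256000 7250 = true :=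
  rowsOK_join 256000 7125 125 263125 rfl grp16_56 rows_ok_2105

theorem grp16_58 : rowsOK 256000 7375 = true :=
  rowsOK_join 256000 7250 125 263250 rfl grp16_57 rows_ok_2106

theorem grp16_59 : rowsOK 256000 7500 = true :=
  rowsOK_join 256000 7375 125 263375 rfl grp16_58 rows_ok_2107

theorem grp16_60 : rowsOK 256000 7625 = true :=
  rowsOK_join 256000 7500 125 263500 rfl grp16_59 rows_ok_2108

theorem grp16_61 : rowsOK 256000 7750 = true :=
  rowsOK_join 256000 7625 125 263625 rfl grp16_60 rows_ok_2109

theorem grp16_62 : rowsOK 256000 7875 = true :=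
  rowsOK_join 256000 7750 125 263750 rfl grp16_61 rows_ok_2110

theorem grp16_63 : rowsOK 256000 8000 = true :=
  rowsOK_join 256000 7875 125 263875 rfl grp16_62 rows_ok_2111

theorem grp16_64 : rowsOK 256000 8125 = true :=
  rowsOK_join 256000 8000 125 264000 rfl grp16_63 rows_ok_2112

theorem grp16_65 : rowsOK 256000 8250 = true :=
  rowsOK_join 256000 8125 125 264125 rfl grp16_64 rows_ok_2113

theorem grp16_66 : rowsOK 256000 8375 = true :=
  rowsOK_join 256000 8250 125 264250 rfl grp16_65 rows_ok_2114

theorem grp16_67 : rowsOK 256000 8500 = true :=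
  rowsOK_join 256000 8375 125 264375 rfl grp16_66 rows_ok_2115

theorem grp16_68 : rowsOK 256000 8625 = true :=
  rowsOK_join 256000 8500 125 264500 rfl grp16_67 rows_ok_2116

theorem grp16_69 : rowsOK 256000 8750 = true :=
  rowsOK_join 256000 8625 125 264625 rfl grp16_68 rows_ok_2117

theorem grp16_70 : rowsOK 256000 8875 = true :=
  rowsOK_join 256000 8750 125 264750 rfl grp16_69 rows_ok_2118

theorem grp16_71 : rowsOK 256000 9000 = true :=
  rowsOK_join 256000 8875 125 264875 rfl grp16_70 rows_ok_2119

theorem grp16_72 : rowsOK 256000 9125 = true :=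
  rowsOK_join 256000 9000 125 265000 rfl grp16_71 rows_ok_2120

theorem grp16_73 : rowsOK 256000 9250 = true :=
  rowsOK_join 256000 9125 125 265125 rfl grp16_72 rows_ok_2121

theorem grp16_74 : rowsOK 256000 9375 = true :=
  rowsOK_join 256000 9250 125 265250 rfl grp16_73 rows_ok_2122

theorem grp16_75 : rowsOK 256000 9500 = true :=
  rowsOK_join 256000 9375 125 265375 rfl grp16_74 rows_ok_2123

theorem grp16_76 : rowsOK 256000 9625 = true :=
  rowsOK_join 256000 9500 125 265500 rfl grp16_75 rows_ok_2124

theorem grp16_77 : rowsOK 256000 9750 = true :=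
  rowsOK_join 256000 9625 125 265625 rfl grp16_76 rows_ok_2125

theorem grp16_78 : rowsOK 256000 9875 = true :=
  rowsOK_join 256000 9750 125 265750 rfl grp16_77 rows_ok_2126

theorem grp16_79 : rowsOK 256000 10000 = true :=
  rowsOK_join 256000 9875 125 265875 rfl grp16_78 rows_ok_2127

theorem grp16_80 : rowsOK 256000 10125 = true :=
  rowsOK_join 256000 10000 125 266000 rfl grp16_79 rows_ok_2128

theorem grp16_81 : rowsOK 256000 10250 = true :=
  rowsOK_join 256000 10125 125 266125 rfl grp16_80 rows_ok_2129

theorem grp16_82 : rowsOK 256000 10375 = true :=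
  rowsOK_join 256000 10250 125 266250 rfl grp16_81 rows_ok_2130

theorem grp16_83 : rowsOK 256000 10500 = true :=
  rowsOK_join 256000 10375 125 266375 rfl grp16_82 rows_ok_2131

theorem grp16_84 : rowsOK 256000 10625 = true :=
  rowsOK_join 256000 10500 125 266500 rfl grp16_83 rows_ok_2132

theorem grp16_85 : rowsOK 256000 10750 = true :=
  rowsOK_join 256000 10625 125 266625 rfl grp16_84 rows_ok_2133

theorem grp16_86 : rowsOK 256000 10875 = true :=
  rowsOK_join 256000 10750 125 266750 rfl grp16_85 rows_ok_2134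

theorem grp16_87 : rowsOK 256000 11000 = true :=
  rowsOK_join 256000 10875 125 266875 rfl grp16_86 rows_ok_2135

theorem grp16_88 : rowsOK 256000 11125 = true :=
  rowsOK_join 256000 11000 125 267000 rfl grp16_87 rows_ok_2136

theorem grp16_89 : rowsOK 256000 11250 = true :=
  rowsOK_join 256000 11125 125 267125 rfl grp16_88 rows_ok_2137

theorem grp16_90 : rowsOK 256000 11375 = true :=
  rowsOK_join 256000 11250 125 267250 rfl grp16_89 rows_ok_2138

theorem grp16_91 : rowsOK 256000 11500 = true :=
  rowsOK_join 256000 11375 125 267375 rfl grp16_90 rows_ok_2139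

theorem grp16_92 : rowsOK 256000 11625 = true :=
  rowsOK_join 256000 11500 125 267500 rfl grp16_91 rows_ok_2140

theorem grp16_93 : rowsOK 256000 11750 = true :=
  rowsOK_join 256000 11625 125 267625 rfl grp16_92 rows_ok_2141

theorem grp16_94 : rowsOK 256000 11875 = true :=
  rowsOK_join 256000 11750 125 267750 rfl grp16_93 rows_ok_2142

theorem grp16_95 : rowsOK 256000 12000 = true :=
  rowsOK_join 256000 11875 125 267875 rfl grp16_94 rows_ok_2143

theorem grp16_96 : rowsOK 256000 12125 = true :=
  rowsOK_join 256000 12000 125 268000 rfl grp16_95 rows_ok_2144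

theorem grp16_97 : rowsOK 256000 12250 = true :=
  rowsOK_join 256000 12125 125 268125 rfl grp16_96 rows_ok_2145

theorem grp16_98 : rowsOK 256000 12375 = true :=
  rowsOK_join 256000 12250 125 268250 rfl grp16_97 rows_ok_2146

theorem grp16_99 : rowsOK 256000 12500 = true :=
  rowsOK_join 256000 12375 125 268375 rfl grp16_98 rows_ok_2147

theorem grp16_100 : rowsOK 256000 12625 = true :=
  rowsOK_join 256000 12500 125 268500 rfl grp16_99 rows_ok_2148

theorem grp16_101 : rowsOK 256000 12750 = true :=
  rowsOK_join 256000 12625 125 268625 rfl grp16_100 rows_ok_2149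

theorem grp16_102 : rowsOK 256000 12875 = true :=
  rowsOK_join 256000 12750 125 268750 rfl grp16_101 rows_ok_2150

theorem grp16_103 : rowsOK 256000 13000 = true :=
  rowsOK_join 256000 12875 125 268875 rfl grp16_102 rows_ok_2151

theorem grp16_104 : rowsOK 256000 13125 = true :=
  rowsOK_join 256000 13000 125 269000 rfl grp16_103 rows_ok_2152

theorem grp16_105 : rowsOK 256000 13250 = true :=
  rowsOK_join 256000 13125 125 269125 rfl grp16_104 rows_ok_2153

theorem grp16_106 : rowsOK 256000 13375 = true :=
  rowsOK_join 256000 13250 125 269250 rfl grp16_105 rows_ok_2154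

theorem grp16_107 : rowsOK 256000 13500 = true :=
  rowsOK_join 256000 13375 125 269375 rfl grp16_106 rows_ok_2155

theorem grp16_108 : rowsOK 256000 13625 = true :=
  rowsOK_join 256000 13500 125 269500 rfl grp16_107 rows_ok_2156

theorem grp16_109 : rowsOK 256000 13750 = true :=
  rowsOK_join 256000 13625 125 269625 rfl grp16_108 rows_ok_2157

theorem grp16_110 : rowsOK 256000 13875 = true :=
  rowsOK_join 256000 13750 125 269750 rfl grp16_109 rows_ok_2158

theorem grp16_111 : rowsOK 256000 14000 = true :=
  rowsOK_join 256000 13875 125 269875 rfl grp16_110 rows_ok_2159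

theorem grp16_112 : rowsOK 256000 14125 = true :=
  rowsOK_join 256000 14000 125 270000 rfl grp16_111 rows_ok_2160

theorem grp16_113 : rowsOK 256000 14250 = true :=
  rowsOK_join 256000 14125 125 270125 rfl grp16_112 rows_ok_2161

theorem grp16_114 : rowsOK 256000 14375 = true :=
  rowsOK_join 256000 14250 125 270250 rfl grp16_113 rows_ok_2162

theorem grp16_115 : rowsOK 256000 14500 = true :=
  rowsOK_join 256000 14375 125 270375 rfl grp16_114 rows_ok_2163

theorem grp16_116 : rowsOK 256000 14625 = true :=
  rowsOK_join 256000 14500 125 270500 rfl grp16_115 rows_ok_2164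

theorem grp16_117 : rowsOK 256000 14750 = true :=
  rowsOK_join 256000 14625 125 270625 rfl grp16_116 rows_ok_2165

theorem grp16_118 : rowsOK 256000 14875 = true :=
  rowsOK_join 256000 14750 125 270750 rfl grp16_117 rows_ok_2166

theorem grp16_119 : rowsOK 256000 15000 = true :=
  rowsOK_join 256000 14875 125 270875 rfl grp16_118 rows_ok_2167

theorem grp16_120 : rowsOK 256000 15125 = true :=
  rowsOK_join 256000 15000 125 271000 rfl grp16_119 rows_ok_2168

theorem grp16_121 : rowsOK 256000 15250 = true :=
  rowsOK_join 256000 15125 125 271125 rfl grp16_120 rows_ok_2169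

theorem grp16_122 : rowsOK 256000 15375 = true :=
  rowsOK_join 256000 15250 125 271250 rfl grp16_121 rows_ok_2170

theorem grp16_123 : rowsOK 256000 15500 = true :=
  rowsOK_join 256000 15375 125 271375 rfl grp16_122 rows_ok_2171

theorem grp16_124 : rowsOK 256000 15625 = true :=
  rowsOK_join 256000 15500 125 271500 rfl grp16_123 rows_ok_2172

theorem grp16_125 : rowsOK 256000 15750 = true :=
  rowsOK_join 256000 15625 125 271625 rfl grp16_124 rows_ok_2173

theorem grp16_126 : rowsOK 256000 15875 = true :=
  rowsOK_join 256000 15750 125 271750 rfl grp16_125 rows_ok_2174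

theorem rows_ok_grp_16 : rowsOK 256000 16000 = true :=
  rowsOK_join 256000 15875 125 271875 rfl grp16_126 rows_ok_2175

end Cfsg.Agent.Lib.Helper7.Fi24L
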