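import Cfsg.Agent.Lib.Helper7.Fi24LC

/-! # The multiplier of the Fischer group Fi₂₄′, a threefold cover of a permutation representation of the presented group Fi₂₄: the check of the relators at a part of the rows (generated) -/

set_option autoImplicit false
set_option maxRecDepth 100000
set_option maxHeartbeats 0

namespace Cfsg.Agent.Lib.Helper7.Fi24L

theorem rows_ok_2200 : rowsOK 275000 125 = true := by decide +kernel

theorem rows_ok_2201 : rowsOK 275125 125 = true := by decide +kernel

theorem rows_ok_2202 : rowsOK 275250 125 = true := by decide +kernel

theorem rows_ok_2203 : rowsOK 275375 125 = true := by decide +kernel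

theorem rows_ok_2204 : rowsOK 275500 125 = true := by decide +kernel

theorem rows_ok_2205 : rowsOK 275625 125 = true := by decide +kernel

theorem rows_ok_2206 : rowsOK 275750 125 = true := by decide +kernel

theorem rows_ok_2207 : rowsOK 275875 125 = true := by decide +kernel

end Cfsg.Agent.Lib.Helper7.Fi24L
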