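import Cfsg.Agent.Lib.Helper7.Fi24LK272
import Cfsg.Agent.Lib.Helper7.Fi24LK273
import Cfsg.Agent.Lib.Helper7.Fi24LK274
import Cfsg.Agent.Lib.Helper7.Fi24LK275
import Cfsg.Agent.Lib.Helper7.Fi24LK276
import Cfsg.Agent.Lib.Helper7.Fi24LK277
import Cfsg.Agent.Lib.Helper7.Fi24LK278
import Cfsg.Agent.Lib.Helper7.Fi24LK279
import Cfsg.Agent.Lib.Helper7.Fi24LK280
import Cfsg.Agent.Lib.Helper7.Fi24LK281
import Cfsg.Agent.Lib.Helper7.Fi24LK282
import Cfsg.Agent.Lib.Helper7.Fi24LK283
import Cfsg.Agent.Lib.Helper7.Fi24LK284
import Cfsg.Agent.Lib.Helper7.Fi24LK285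
import Cfsg.Agent.Lib.Helper7.Fi24LK286
import Cfsg.Agent.Lib.Helper7.Fi24LK287
import Cfsg.Agent.Lib.Helper7.Fi24LE

/-! # The multiplier of the Fischer group Fi₂₄′, a threefold cover of a permutation representation of the presented group Fi₂₄: the checks of a part of the rows are joined (generated) -/

set_option autoImplicit false
set_option maxRecDepth 100000

namespace Cfsg.Agent.Lib.Helper7.Fi24L

theorem grp17_1 : rowsOK 272000 250 = true :=
  rowsOK_join 272000 125 125 272125 rfl rows_ok_2176 rows_ok_2177

theorem grp17_2 : rowsOK 272000 375 = true :=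
  rowsOK_join 272000 250 125 272250 rfl grp17_1 rows_ok_2178

theorem grp17_3 : rowsOK 272000 500 = true :=
  rowsOK_join 272000 375 125 272375 rfl grp17_2 rows_ok_2179

theorem grp17_4 : rowsOK 272000 625 = true :=
  rowsOK_join 272000 500 125 272500 rfl grp17_3 rows_ok_2180

theorem grp17_5 : rowsOK 272000 750 = true :=
  rowsOK_join 272000 625 125 272625 rfl grp17_4 rows_ok_2181

theorem grp17_6 : rowsOK 272000 875 = true :=
  rowsOK_join 272000 750 125 272750 rfl grp17_5 rows_ok_2182

theorem grp17_7 : rowsOK 272000 1000 = true :=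
  rowsOK_join 272000 875 125 272875 rfl grp17_6 rows_ok_2183

theorem grp17_8 : rowsOK 272000 1125 = true :=
  rowsOK_join 272000 1000 125 273000 rfl grp17_7 rows_ok_2184

theorem grp17_9 : rowsOK 272000 1250 = true :=
  rowsOK_join 272000 1125 125 273125 rfl grp17_8 rows_ok_2185

theorem grp17_10 : rowsOK 272000 1375 = true :=
  rowsOK_join 272000 1250 125 273250 rfl grp17_9 rows_ok_2186

theorem grp17_11 : rowsOK 272000 1500 = true :=
  rowsOK_join 272000 1375 125 273375 rfl grp17_10 rows_ok_2187

theorem grp17_12 : rowsOK 272000 1625 = true :=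
  rowsOK_join 272000 1500 125 273500 rfl grp17_11 rows_ok_2188

theorem grp17_13 : rowsOK 272000 1750 = true :=
  rowsOK_join 272000 1625 125 273625 rfl grp17_12 rows_ok_2189

theorem grp17_14 : rowsOK 272000 1875 = true :=
  rowsOK_join 272000 1750 125 273750 rfl grp17_13 rows_ok_2190

theorem grp17_15 : rowsOK 272000 2000 = true :=
  rowsOK_join 272000 1875 125 273875 rfl grp17_14 rows_ok_2191

theorem grp17_16 : rowsOK 272000 2125 = true :=
  rowsOK_join 272000 2000 125 274000 rfl grp17_15 rows_ok_2192

theorem grp17_17 : rowsOK 272000 2250 = true :=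
  rowsOK_join 272000 2125 125 274125 rfl grp17_16 rows_ok_2193

theorem grp17_18 : rowsOK 272000 2375 = true :=
  rowsOK_join 272000 2250 125 274250 rfl grp17_17 rows_ok_2194

theorem grp17_19 : rowsOK 272000 2500 = true :=
  rowsOK_join 272000 2375 125 274375 rfl grp17_18 rows_ok_2195

theorem grp17_20 : rowsOK 272000 2625 = true :=
  rowsOK_join 272000 2500 125 274500 rfl grp17_19 rows_ok_2196

theorem grp17_21 : rowsOK 272000 2750 = true :=
  rowsOK_join 272000 2625 125 274625 rfl grp17_20 rows_ok_2197

theorem grp17_22 : rowsOK 272000 2875 = true :=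
  rowsOK_join 272000 2750 125 274750 rfl grp17_21 rows_ok_2198

theorem grp17_23 : rowsOK 272000 3000 = true :=
  rowsOK_join 272000 2875 125 274875 rfl grp17_22 rows_ok_2199

theorem grp17_24 : rowsOK 272000 3125 = true :=
  rowsOK_join 272000 3000 125 275000 rfl grp17_23 rows_ok_2200

theorem grp17_25 : rowsOK 272000 3250 = true :=
  rowsOK_join 272000 3125 125 275125 rfl grp17_24 rows_ok_2201

theorem grp17_26 : rowsOK 272000 3375 = true :=
  rowsOK_join 272000 3250 125 275250 rfl grp17_25 rows_ok_2202

theorem grp17_27 : rowsOK 272000 3500 = true :=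
  rowsOK_join 272000 3375 125 275375 rfl grp17_26 rows_ok_2203

theorem grp17_28 : rowsOK 272000 3625 = true :=
  rowsOK_join 272000 3500 125 275500 rfl grp17_27 rows_ok_2204

theorem grp17_29 : rowsOK 272000 3750 = true :=
  rowsOK_join 272000 3625 125 275625 rfl grp17_28 rows_ok_2205

theorem grp17_30 : rowsOK 272000 3875 = true :=
  rowsOK_join 272000 3750 125 275750 rfl grp17_29 rows_ok_2206

theorem grp17_31 : rowsOK 272000 4000 = true :=
  rowsOK_join 272000 3875 125 275875 rfl grp17_30 rows_ok_2207

theorem grp17_32 : rowsOK 272000 4125 = true :=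
  rowsOK_join 272000 4000 125 276000 rfl grp17_31 rows_ok_2208

theorem grp17_33 : rowsOK 272000 4250 = true :=
  rowsOK_join 272000 4125 125 276125 rfl grp17_32 rows_ok_2209

theorem grp17_34 : rowsOK 272000 4375 = true :=
  rowsOK_join 272000 4250 125 276250 rfl grp17_33 rows_ok_2210

theorem grp17_35 : rowsOK 272000 4500 = true :=
  rowsOK_join 272000 4375 125 276375 rfl grp17_34 rows_ok_2211

theorem grp17_36 : rowsOK 272000 4625 = true :=
  rowsOK_join 272000 4500 125 276500 rfl grp17_35 rows_ok_2212

theorem grp17_37 : rowsOK 272000 4750 = true :=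
  rowsOK_join 272000 4625 125 276625 rfl grp17_36 rows_ok_2213

theorem grp17_38 : rowsOK 272000 4875 = true :=
  rowsOK_join 272000 4750 125 276750 rfl grp17_37 rows_ok_2214

theorem grp17_39 : rowsOK 272000 5000 = true :=
  rowsOK_join 272000 4875 125 276875 rfl grp17_38 rows_ok_2215

theorem grp17_40 : rowsOK 272000 5125 = true :=
  rowsOK_join 272000 5000 125 277000 rfl grp17_39 rows_ok_2216

theorem grp17_41 : rowsOK 272000 5250 = true :=
  rowsOK_join 272000 5125 125 277125 rfl grp17_40 rows_ok_2217

theorem grp17_42 : rowsOK 272000 5375 = true :=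
  rowsOK_join 272000 5250 125 277250 rfl grp17_41 rows_ok_2218

theorem grp17_43 : rowsOK 272000 5500 = true :=
  rowsOK_join 272000 5375 125 277375 rfl grp17_42 rows_ok_2219

theorem grp17_44 : rowsOK 272000 5625 = true :=
  rowsOK_join 272000 5500 125 277500 rfl grp17_43 rows_ok_2220

theorem grp17_45 : rowsOK 272000 5750 = true :=
  rowsOK_join 272000 5625 125 277625 rfl grp17_44 rows_ok_2221

theorem grp17_46 : rowsOK 272000 5875 = true :=
  rowsOK_join 272000 5750 125 277750 rfl grp17_45 rows_ok_2222

theorem grp17_47 : rowsOK 272000 6000 = true :=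
  rowsOK_join 272000 5875 125 277875 rfl grp17_46 rows_ok_2223

theorem grp17_48 : rowsOK 272000 6125 = true :=
  rowsOK_join 272000 6000 125 278000 rfl grp17_47 rows_ok_2224

theorem grp17_49 : rowsOK 272000 6250 = true :=
  rowsOK_join 272000 6125 125 278125 rfl grp17_48 rows_ok_2225

theorem grp17_50 : rowsOK 272000 6375 = true :=
  rowsOK_join 272000 6250 125 278250 rfl grp17_49 rows_ok_2226

theorem grp17_51 : rowsOK 272000 6500 = true :=
  rowsOK_join 272000 6375 125 278375 rfl grp17_50 rows_ok_2227

theorem grp17_52 : rowsOK 272000 6625 = true :=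
  rowsOK_join 272000 6500 125 278500 rfl grp17_51 rows_ok_2228

theorem grp17_53 : rowsOK 272000 6750 = true :=
  rowsOK_join 272000 6625 125 278625 rfl grp17_52 rows_ok_2229

theorem grp17_54 : rowsOK 272000 6875 = true :=
  rowsOK_join 272000 6750 125 278750 rfl grp17_53 rows_ok_2230

theorem grp17_55 : rowsOK 272000 7000 = true :=
  rowsOK_join 272000 6875 125 278875 rfl grp17_54 rows_ok_2231

theorem grp17_56 : rowsOK 272000 7125 = true :=
  rowsOK_join 272000 7000 125 279000 rfl grp17_55 rows_ok_2232

theorem grp17_57 : rowsOK 272000 7250 = true :=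
  rowsOK_join 272000 7125 125 279125 rfl grp17_56 rows_ok_2233

theorem grp17_58 : rowsOK 272000 7375 = true :=
  rowsOK_join 272000 7250 125 279250 rfl grp17_57 rows_ok_2234

theorem grp17_59 : rowsOK 272000 7500 = true :=
  rowsOK_join 272000 7375 125 279375 rfl grp17_58 rows_ok_2235

theorem grp17_60 : rowsOK 272000 7625 = true :=
  rowsOK_join 272000 7500 125 279500 rfl grp17_59 rows_ok_2236

theorem grp17_61 : rowsOK 272000 7750 = true :=
  rowsOK_join 272000 7625 125 279625 rfl grp17_60 rows_ok_2237

theorem grp17_62 : rowsOK 272000 7875 = true :=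
  rowsOK_join 272000 7750 125 279750 rfl grp17_61 rows_ok_2238

theorem grp17_63 : rowsOK 272000 8000 = true :=
  rowsOK_join 272000 7875 125 279875 rfl grp17_62 rows_ok_2239

theorem grp17_64 : rowsOK 272000 8125 = true :=
  rowsOK_join 272000 8000 125 280000 rfl grp17_63 rows_ok_2240

theorem grp17_65 : rowsOK 272000 8250 = true :=
  rowsOK_join 272000 8125 125 280125 rfl grp17_64 rows_ok_2241

theorem grp17_66 : rowsOK 272000 8375 = true :=
  rowsOK_join 272000 8250 125 280250 rfl grp17_65 rows_ok_2242

theorem grp17_67 : rowsOK 272000 8500 = true :=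
  rowsOK_join 272000 8375 125 280375 rfl grp17_66 rows_ok_2243

theorem grp17_68 : rowsOK 272000 8625 = true :=
  rowsOK_join 272000 8500 125 280500 rfl grp17_67 rows_ok_2244

theorem grp17_69 : rowsOK 272000 8750 = true :=
  rowsOK_join 272000 8625 125 280625 rfl grp17_68 rows_ok_2245

theorem grp17_70 : rowsOK 272000 8875 = true :=
  rowsOK_join 272000 8750 125 280750 rfl grp17_69 rows_ok_2246

theorem grp17_71 : rowsOK 272000 9000 = true :=
  rowsOK_join 272000 8875 125 280875 rfl grp17_70 rows_ok_2247

theorem grp17_72 : rowsOK 272000 9125 = true :=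
  rowsOK_join 272000 9000 125 281000 rfl grp17_71 rows_ok_2248

theorem grp17_73 : rowsOK 272000 9250 = true :=
  rowsOK_join 272000 9125 125 281125 rfl grp17_72 rows_ok_2249

theorem grp17_74 : rowsOK 272000 9375 = true :=
  rowsOK_join 272000 9250 125 281250 rfl grp17_73 rows_ok_2250

theorem grp17_75 : rowsOK 272000 9500 = true :=
  rowsOK_join 272000 9375 125 281375 rfl grp17_74 rows_ok_2251

theorem grp17_76 : rowsOK 272000 9625 = true :=
  rowsOK_join 272000 9500 125 281500 rfl grp17_75 rows_ok_2252

theorem grp17_77 : rowsOK 272000 9750 = true :=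
  rowsOK_join 272000 9625 125 281625 rfl grp17_76 rows_ok_2253

theorem grp17_78 : rowsOK 272000 9875 = true :=
  rowsOK_join 272000 9750 125 281750 rfl grp17_77 rows_ok_2254

theorem grp17_79 : rowsOK 272000 10000 = true :=
  rowsOK_join 272000 9875 125 281875 rfl grp17_78 rows_ok_2255

theorem grp17_80 : rowsOK 272000 10125 = true :=
  rowsOK_join 272000 10000 125 282000 rfl grp17_79 rows_ok_2256

theorem grp17_81 : rowsOK 272000 10250 = true :=
  rowsOK_join 272000 10125 125 282125 rfl grp17_80 rows_ok_2257

theorem grp17_82 : rowsOK 272000 10375 = true :=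
  rowsOK_join 272000 10250 125 282250 rfl grp17_81 rows_ok_2258

theorem grp17_83 : rowsOK 272000 10500 = true :=
  rowsOK_join 272000 10375 125 282375 rfl grp17_82 rows_ok_2259

theorem grp17_84 : rowsOK 272000 10625 = true :=
  rowsOK_join 272000 10500 125 282500 rfl grp17_83 rows_ok_2260

theorem grp17_85 : rowsOK 272000 10750 = true :=
  rowsOK_join 272000 10625 125 282625 rfl grp17_84 rows_ok_2261

theorem grp17_86 : rowsOK 272000 10875 = true :=
  rowsOK_join 272000 10750 125 282750 rfl grp17_85 rows_ok_2262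

theorem grp17_87 : rowsOK 272000 11000 = true :=
  rowsOK_join 272000 10875 125 282875 rfl grp17_86 rows_ok_2263

theorem grp17_88 : rowsOK 272000 11125 = true :=
  rowsOK_join 272000 11000 125 283000 rfl grp17_87 rows_ok_2264

theorem grp17_89 : rowsOK 272000 11250 = true :=
  rowsOK_join 272000 11125 125 283125 rfl grp17_88 rows_ok_2265

theorem grp17_90 : rowsOK 272000 11375 = true :=
  rowsOK_join 272000 11250 125 283250 rfl grp17_89 rows_ok_2266

theorem grp17_91 : rowsOK 272000 11500 = true :=
  rowsOK_join 272000 11375 125 283375 rfl grp17_90 rows_ok_2267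

theorem grp17_92 : rowsOK 272000 11625 = true :=
  rowsOK_join 272000 11500 125 283500 rfl grp17_91 rows_ok_2268

theorem grp17_93 : rowsOK 272000 11750 = true :=
  rowsOK_join 272000 11625 125 283625 rfl grp17_92 rows_ok_2269

theorem grp17_94 : rowsOK 272000 11875 = true :=
  rowsOK_join 272000 11750 125 283750 rfl grp17_93 rows_ok_2270

theorem grp17_95 : rowsOK 272000 12000 = true :=
  rowsOK_join 272000 11875 125 283875 rfl grp17_94 rows_ok_2271

theorem grp17_96 : rowsOK 272000 12125 = true :=
  rowsOK_join 272000 12000 125 284000 rfl grp17_95 rows_ok_2272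

theorem grp17_97 : rowsOK 272000 12250 = true :=
  rowsOK_join 272000 12125 125 284125 rfl grp17_96 rows_ok_2273

theorem grp17_98 : rowsOK 272000 12375 = true :=
  rowsOK_join 272000 12250 125 284250 rfl grp17_97 rows_ok_2274

theorem grp17_99 : rowsOK 272000 12500 = true :=
  rowsOK_join 272000 12375 125 284375 rfl grp17_98 rows_ok_2275

theorem grp17_100 : rowsOK 272000 12625 = true :=
  rowsOK_join 272000 12500 125 284500 rfl grp17_99 rows_ok_2276

theorem grp17_101 : rowsOK 272000 12750 = true :=
  rowsOK_join 272000 12625 125 284625 rfl grp17_100 rows_ok_2277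

theorem grp17_102 : rowsOK 272000 12875 = true :=
  rowsOK_join 272000 12750 125 284750 rfl grp17_101 rows_ok_2278

theorem grp17_103 : rowsOK 272000 13000 = true :=
  rowsOK_join 272000 12875 125 284875 rfl grp17_102 rows_ok_2279

theorem grp17_104 : rowsOK 272000 13125 = true :=
  rowsOK_join 272000 13000 125 285000 rfl grp17_103 rows_ok_2280

theorem grp17_105 : rowsOK 272000 13250 = true :=
  rowsOK_join 272000 13125 125 285125 rfl grp17_104 rows_ok_2281

theorem grp17_106 : rowsOK 272000 13375 = true :=
  rowsOK_join 272000 13250 125 285250 rfl grp17_105 rows_ok_2282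

theorem grp17_107 : rowsOK 272000 13500 = true :=
  rowsOK_join 272000 13375 125 285375 rfl grp17_106 rows_ok_2283

theorem grp17_108 : rowsOK 272000 13625 = true :=
  rowsOK_join 272000 13500 125 285500 rfl grp17_107 rows_ok_2284

theorem grp17_109 : rowsOK 272000 13750 = true :=
  rowsOK_join 272000 13625 125 285625 rfl grp17_108 rows_ok_2285

theorem grp17_110 : rowsOK 272000 13875 = true :=
  rowsOK_join 272000 13750 125 285750 rfl grp17_109 rows_ok_2286

theorem grp17_111 : rowsOK 272000 14000 = true :=
  rowsOK_join 272000 13875 125 285875 rfl grp17_110 rows_ok_2287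

theorem grp17_112 : rowsOK 272000 14125 = true :=
  rowsOK_join 272000 14000 125 286000 rfl grp17_111 rows_ok_2288

theorem grp17_113 : rowsOK 272000 14250 = true :=
  rowsOK_join 272000 14125 125 286125 rfl grp17_112 rows_ok_2289

theorem grp17_114 : rowsOK 272000 14375 = true :=
  rowsOK_join 272000 14250 125 286250 rfl grp17_113 rows_ok_2290

theorem grp17_115 : rowsOK 272000 14500 = true :=
  rowsOK_join 272000 14375 125 286375 rfl grp17_114 rows_ok_2291

theorem grp17_116 : rowsOK 272000 14625 = true :=
  rowsOK_join 272000 14500 125 286500 rfl grp17_115 rows_ok_2292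

theorem grp17_117 : rowsOK 272000 14750 = true :=
  rowsOK_join 272000 14625 125 286625 rfl grp17_116 rows_ok_2293

theorem grp17_118 : rowsOK 272000 14875 = true :=
  rowsOK_join 272000 14750 125 286750 rfl grp17_117 rows_ok_2294

theorem grp17_119 : rowsOK 272000 15000 = true :=
  rowsOK_join 272000 14875 125 286875 rfl grp17_118 rows_ok_2295

theorem grp17_120 : rowsOK 272000 15125 = true :=
  rowsOK_join 272000 15000 125 287000 rfl grp17_119 rows_ok_2296

theorem grp17_121 : rowsOK 272000 15250 = true :=
  rowsOK_join 272000 15125 125 287125 rfl grp17_120 rows_ok_2297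

theorem grp17_122 : rowsOK 272000 15375 = true :=
  rowsOK_join 272000 15250 125 287250 rfl grp17_121 rows_ok_2298

theorem grp17_123 : rowsOK 272000 15500 = true :=
  rowsOK_join 272000 15375 125 287375 rfl grp17_122 rows_ok_2299

theorem grp17_124 : rowsOK 272000 15625 = true :=
  rowsOK_join 272000 15500 125 287500 rfl grp17_123 rows_ok_2300

theorem grp17_125 : rowsOK 272000 15750 = true :=
  rowsOK_join 272000 15625 125 287625 rfl grp17_124 rows_ok_2301

theorem grp17_126 : rowsOK 272000 15875 = true :=
  rowsOK_join 272000 15750 125 287750 rfl grp17_125 rows_ok_2302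

theorem rows_ok_grp_17 : rowsOK 272000 16000 = true :=
  rowsOK_join 272000 15875 125 287875 rfl grp17_126 rows_ok_2303

end Cfsg.Agent.Lib.Helper7.Fi24L
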