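import Cfsg.Agent.Lib.Helper7.Fi24LK288
import Cfsg.Agent.Lib.Helper7.Fi24LK289
import Cfsg.Agent.Lib.Helper7.Fi24LK290
import Cfsg.Agent.Lib.Helper7.Fi24LK291
import Cfsg.Agent.Lib.Helper7.Fi24LK292
import Cfsg.Agent.Lib.Helper7.Fi24LK293
import Cfsg.Agent.Lib.Helper7.Fi24LK294
import Cfsg.Agent.Lib.Helper7.Fi24LK295
import Cfsg.Agent.Lib.Helper7.Fi24LK296
import Cfsg.Agent.Lib.Helper7.Fi24LK297
import Cfsg.Agent.Lib.Helper7.Fi24LK298
import Cfsg.Agent.Lib.Helper7.Fi24LK299
import Cfsg.Agent.Lib.Helper7.Fi24LK300
import Cfsg.Agent.Lib.Helper7.Fi24LK301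
import Cfsg.Agent.Lib.Helper7.Fi24LK302
import Cfsg.Agent.Lib.Helper7.Fi24LK303
import Cfsg.Agent.Lib.Helper7.Fi24LE

/-! # The multiplier of the Fischer group Fi₂₄′, a threefold cover of a permutation representation of the presented group Fi₂₄: the checks of a part of the rows are joined (generated) -/

set_option autoImplicit false
set_option maxRecDepth 100000

namespace Cfsg.Agent.Lib.Helper7.Fi24L

theorem grp18_1 : rowsOK 288000 250 = true :=
  rowsOK_join 288000 125 125 288125 rfl rows_ok_2304 rows_ok_2305

theorem grp18_2 : rowsOK 288000 375 = true :=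
  rowsOK_join 288000 250 125 288250 rfl grp18_1 rows_ok_2306

theorem grp18_3 : rowsOK 288000 500 = true :=
  rowsOK_join 288000 375 125 288375 rfl grp18_2 rows_ok_2307

theorem grp18_4 : rowsOK 288000 625 = true :=
  rowsOK_join 288000 500 125 288500 rfl grp18_3 rows_ok_2308

theorem grp18_5 : rowsOK 288000 750 = true :=
  rowsOK_join 288000 625 125 288625 rfl grp18_4 rows_ok_2309

theorem grp18_6 : rowsOK 288000 875 = true :=
  rowsOK_join 288000 750 125 288750 rfl grp18_5 rows_ok_2310

theorem grp18_7 : rowsOK 288000 1000 = true :=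
  rowsOK_join 288000 875 125 288875 rfl grp18_6 rows_ok_2311

theorem grp18_8 : rowsOK 288000 1125 = true :=
  rowsOK_join 288000 1000 125 289000 rfl grp18_7 rows_ok_2312

theorem grp18_9 : rowsOK 288000 1250 = true :=
  rowsOK_join 288000 1125 125 289125 rfl grp18_8 rows_ok_2313

theorem grp18_10 : rowsOK 288000 1375 = true :=
  rowsOK_join 288000 1250 125 289250 rfl grp18_9 rows_ok_2314

theorem grp18_11 : rowsOK 288000 1500 = true :=
  rowsOK_join 288000 1375 125 289375 rfl grp18_10 rows_ok_2315

theorem grp18_12 : rowsOK 288000 1625 = true :=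
  rowsOK_join 288000 1500 125 289500 rfl grp18_11 rows_ok_2316

theorem grp18_13 : rowsOK 288000 1750 = true :=
  rowsOK_join 288000 1625 125 289625 rfl grp18_12 rows_ok_2317

theorem grp18_14 : rowsOK 288000 1875 = true :=
  rowsOK_join 288000 1750 125 289750 rfl grp18_13 rows_ok_2318

theorem grp18_15 : rowsOK 288000 2000 = true :=
  rowsOK_join 288000 1875 125 289875 rfl grp18_14 rows_ok_2319

theorem grp18_16 : rowsOK 288000 2125 = true :=
  rowsOK_join 288000 2000 125 290000 rfl grp18_15 rows_ok_2320

theorem grp18_17 : rowsOK 288000 2250 = true :=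
  rowsOK_join 288000 2125 125 290125 rfl grp18_16 rows_ok_2321

theorem grp18_18 : rowsOK 288000 2375 = true :=
  rowsOK_join 288000 2250 125 290250 rfl grp18_17 rows_ok_2322

theorem grp18_19 : rowsOK 288000 2500 = true :=
  rowsOK_join 288000 2375 125 290375 rfl grp18_18 rows_ok_2323

theorem grp18_20 : rowsOK 288000 2625 = true :=
  rowsOK_join 288000 2500 125 290500 rfl grp18_19 rows_ok_2324

theorem grp18_21 : rowsOK 288000 2750 = true :=
  rowsOK_join 288000 2625 125 290625 rfl grp18_20 rows_ok_2325

theorem grp18_22 : rowsOK 288000 2875 = true :=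
  rowsOK_join 288000 2750 125 290750 rfl grp18_21 rows_ok_2326

theorem grp18_23 : rowsOK 288000 3000 = true :=
  rowsOK_join 288000 2875 125 290875 rfl grp18_22 rows_ok_2327

theorem grp18_24 : rowsOK 288000 3125 = true :=
  rowsOK_join 288000 3000 125 291000 rfl grp18_23 rows_ok_2328

theorem grp18_25 : rowsOK 288000 3250 = true :=
  rowsOK_join 288000 3125 125 291125 rfl grp18_24 rows_ok_2329

theorem grp18_26 : rowsOK 288000 3375 = true :=
  rowsOK_join 288000 3250 125 291250 rfl grp18_25 rows_ok_2330

theorem grp18_27 : rowsOK 288000 3500 = true :=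
  rowsOK_join 288000 3375 125 291375 rfl grp18_26 rows_ok_2331

theorem grp18_28 : rowsOK 288000 3625 = true :=
  rowsOK_join 288000 3500 125 291500 rfl grp18_27 rows_ok_2332

theorem grp18_29 : rowsOK 288000 3750 = true :=
  rowsOK_join 288000 3625 125 291625 rfl grp18_28 rows_ok_2333

theorem grp18_30 : rowsOK 288000 3875 = true :=
  rowsOK_join 288000 3750 125 291750 rfl grp18_29 rows_ok_2334

theorem grp18_31 : rowsOK 288000 4000 = true :=
  rowsOK_join 288000 3875 125 291875 rfl grp18_30 rows_ok_2335

theorem grp18_32 : rowsOK 288000 4125 = true :=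
  rowsOK_join 288000 4000 125 292000 rfl grp18_31 rows_ok_2336

theorem grp18_33 : rowsOK 288000 4250 = true :=
  rowsOK_join 288000 4125 125 292125 rfl grp18_32 rows_ok_2337

theorem grp18_34 : rowsOK 288000 4375 = true :=
  rowsOK_join 288000 4250 125 292250 rfl grp18_33 rows_ok_2338

theorem grp18_35 : rowsOK 288000 4500 = true :=
  rowsOK_join 288000 4375 125 292375 rfl grp18_34 rows_ok_2339

theorem grp18_36 : rowsOK 288000 4625 = true :=
  rowsOK_join 288000 4500 125 292500 rfl grp18_35 rows_ok_2340

theorem grp18_37 : rowsOK 288000 4750 = true :=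
  rowsOK_join 288000 4625 125 292625 rfl grp18_36 rows_ok_2341

theorem grp18_38 : rowsOK 288000 4875 = true :=
  rowsOK_join 288000 4750 125 292750 rfl grp18_37 rows_ok_2342

theorem grp18_39 : rowsOK 288000 5000 = true :=
  rowsOK_join 288000 4875 125 292875 rfl grp18_38 rows_ok_2343

theorem grp18_40 : rowsOK 288000 5125 = true :=
  rowsOK_join 288000 5000 125 293000 rfl grp18_39 rows_ok_2344

theorem grp18_41 : rowsOK 288000 5250 = true :=
  rowsOK_join 288000 5125 125 293125 rfl grp18_40 rows_ok_2345

theorem grp18_42 : rowsOK 288000 5375 = true :=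
  rowsOK_join 288000 5250 125 293250 rfl grp18_41 rows_ok_2346

theorem grp18_43 : rowsOK 288000 5500 = true :=
  rowsOK_join 288000 5375 125 293375 rfl grp18_42 rows_ok_2347

theorem grp18_44 : rowsOK 288000 5625 = true :=
  rowsOK_join 288000 5500 125 293500 rfl grp18_43 rows_ok_2348

theorem grp18_45 : rowsOK 288000 5750 = true :=
  rowsOK_join 288000 5625 125 293625 rfl grp18_44 rows_ok_2349

theorem grp18_46 : rowsOK 288000 5875 = true :=
  rowsOK_join 288000 5750 125 293750 rfl grp18_45 rows_ok_2350

theorem grp18_47 : rowsOK 288000 6000 = true :=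
  rowsOK_join 288000 5875 125 293875 rfl grp18_46 rows_ok_2351

theorem grp18_48 : rowsOK 288000 6125 = true :=
  rowsOK_join 288000 6000 125 294000 rfl grp18_47 rows_ok_2352

theorem grp18_49 : rowsOK 288000 6250 = true :=
  rowsOK_join 288000 6125 125 294125 rfl grp18_48 rows_ok_2353

theorem grp18_50 : rowsOK 288000 6375 = true :=
  rowsOK_join 288000 6250 125 294250 rfl grp18_49 rows_ok_2354

theorem grp18_51 : rowsOK 288000 6500 = true :=
  rowsOK_join 288000 6375 125 294375 rfl grp18_50 rows_ok_2355

theorem grp18_52 : rowsOK 288000 6625 = true :=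
  rowsOK_join 288000 6500 125 294500 rfl grp18_51 rows_ok_2356

theorem grp18_53 : rowsOK 288000 6750 = true :=
  rowsOK_join 288000 6625 125 294625 rfl grp18_52 rows_ok_2357

theorem grp18_54 : rowsOK 288000 6875 = true :=
  rowsOK_join 288000 6750 125 294750 rfl grp18_53 rows_ok_2358

theorem grp18_55 : rowsOK 288000 7000 = true :=
  rowsOK_join 288000 6875 125 294875 rfl grp18_54 rows_ok_2359

theorem grp18_56 : rowsOK 288000 7125 = true :=
  rowsOK_join 288000 7000 125 295000 rfl grp18_55 rows_ok_2360

theorem grp18_57 : rowsOK 288000 7250 = true :=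
  rowsOK_join 288000 7125 125 295125 rfl grp18_56 rows_ok_2361

theorem grp18_58 : rowsOK 288000 7375 = true :=
  rowsOK_join 288000 7250 125 295250 rfl grp18_57 rows_ok_2362

theorem grp18_59 : rowsOK 288000 7500 = true :=
  rowsOK_join 288000 7375 125 295375 rfl grp18_58 rows_ok_2363

theorem grp18_60 : rowsOK 288000 7625 = true :=
  rowsOK_join 288000 7500 125 295500 rfl grp18_59 rows_ok_2364

theorem grp18_61 : rowsOK 288000 7750 = true :=
  rowsOK_join 288000 7625 125 295625 rfl grp18_60 rows_ok_2365

theorem grp18_62 : rowsOK 288000 7875 = true :=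
  rowsOK_join 288000 7750 125 295750 rfl grp18_61 rows_ok_2366

theorem grp18_63 : rowsOK 288000 8000 = true :=
  rowsOK_join 288000 7875 125 295875 rfl grp18_62 rows_ok_2367

theorem grp18_64 : rowsOK 288000 8125 = true :=
  rowsOK_join 288000 8000 125 296000 rfl grp18_63 rows_ok_2368

theorem grp18_65 : rowsOK 288000 8250 = true :=
  rowsOK_join 288000 8125 125 296125 rfl grp18_64 rows_ok_2369

theorem grp18_66 : rowsOK 288000 8375 = true :=
  rowsOK_join 288000 8250 125 296250 rfl grp18_65 rows_ok_2370

theorem grp18_67 : rowsOK 288000 8500 = true :=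
  rowsOK_join 288000 8375 125 296375 rfl grp18_66 rows_ok_2371

theorem grp18_68 : rowsOK 288000 8625 = true :=
  rowsOK_join 288000 8500 125 296500 rfl grp18_67 rows_ok_2372

theorem grp18_69 : rowsOK 288000 8750 = true :=
  rowsOK_join 288000 8625 125 296625 rfl grp18_68 rows_ok_2373

theorem grp18_70 : rowsOK 288000 8875 = true :=
  rowsOK_join 288000 8750 125 296750 rfl grp18_69 rows_ok_2374

theorem grp18_71 : rowsOK 288000 9000 = true :=
  rowsOK_join 288000 8875 125 296875 rfl grp18_70 rows_ok_2375

theorem grp18_72 : rowsOK 288000 9125 = true :=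
  rowsOK_join 288000 9000 125 297000 rfl grp18_71 rows_ok_2376

theorem grp18_73 : rowsOK 288000 9250 = true :=
  rowsOK_join 288000 9125 125 297125 rfl grp18_72 rows_ok_2377

theorem grp18_74 : rowsOK 288000 9375 = true :=
  rowsOK_join 288000 9250 125 297250 rfl grp18_73 rows_ok_2378

theorem grp18_75 : rowsOK 288000 9500 = true :=
  rowsOK_join 288000 9375 125 297375 rfl grp18_74 rows_ok_2379

theorem grp18_76 : rowsOK 288000 9625 = true :=
  rowsOK_join 288000 9500 125 297500 rfl grp18_75 rows_ok_2380

theorem grp18_77 : rowsOK 288000 9750 = true :=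
  rowsOK_join 288000 9625 125 297625 rfl grp18_76 rows_ok_2381

theorem grp18_78 : rowsOK 288000 9875 = true :=
  rowsOK_join 288000 9750 125 297750 rfl grp18_77 rows_ok_2382

theorem grp18_79 : rowsOK 288000 10000 = true :=
  rowsOK_join 288000 9875 125 297875 rfl grp18_78 rows_ok_2383

theorem grp18_80 : rowsOK 288000 10125 = true :=
  rowsOK_join 288000 10000 125 298000 rfl grp18_79 rows_ok_2384

theorem grp18_81 : rowsOK 288000 10250 = true :=
  rowsOK_join 288000 10125 125 298125 rfl grp18_80 rows_ok_2385

theorem grp18_82 : rowsOK 288000 10375 = true :=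
  rowsOK_join 288000 10250 125 298250 rfl grp18_81 rows_ok_2386

theorem grp18_83 : rowsOK 288000 10500 = true :=
  rowsOK_join 288000 10375 125 298375 rfl grp18_82 rows_ok_2387

theorem grp18_84 : rowsOK 288000 10625 = true :=
  rowsOK_join 288000 10500 125 298500 rfl grp18_83 rows_ok_2388

theorem grp18_85 : rowsOK 288000 10750 = true :=
  rowsOK_join 288000 10625 125 298625 rfl grp18_84 rows_ok_2389

theorem grp18_86 : rowsOK 288000 10875 = true :=
  rowsOK_join 288000 10750 125 298750 rfl grp18_85 rows_ok_2390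

theorem grp18_87 : rowsOK 288000 11000 = true :=
  rowsOK_join 288000 10875 125 298875 rfl grp18_86 rows_ok_2391

theorem grp18_88 : rowsOK 288000 11125 = true :=
  rowsOK_join 288000 11000 125 299000 rfl grp18_87 rows_ok_2392

theorem grp18_89 : rowsOK 288000 11250 = true :=
  rowsOK_join 288000 11125 125 299125 rfl grp18_88 rows_ok_2393

theorem grp18_90 : rowsOK 288000 11375 = true :=
  rowsOK_join 288000 11250 125 299250 rfl grp18_89 rows_ok_2394

theorem grp18_91 : rowsOK 288000 11500 = true :=
  rowsOK_join 288000 11375 125 299375 rfl grp18_90 rows_ok_2395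

theorem grp18_92 : rowsOK 288000 11625 = true :=
  rowsOK_join 288000 11500 125 299500 rfl grp18_91 rows_ok_2396

theorem grp18_93 : rowsOK 288000 11750 = true :=
  rowsOK_join 288000 11625 125 299625 rfl grp18_92 rows_ok_2397

theorem grp18_94 : rowsOK 288000 11875 = true :=
  rowsOK_join 288000 11750 125 299750 rfl grp18_93 rows_ok_2398

theorem grp18_95 : rowsOK 288000 12000 = true :=
  rowsOK_join 288000 11875 125 299875 rfl grp18_94 rows_ok_2399

theorem grp18_96 : rowsOK 288000 12125 = true :=
  rowsOK_join 288000 12000 125 300000 rfl grp18_95 rows_ok_2400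

theorem grp18_97 : rowsOK 288000 12250 = true :=
  rowsOK_join 288000 12125 125 300125 rfl grp18_96 rows_ok_2401

theorem grp18_98 : rowsOK 288000 12375 = true :=
  rowsOK_join 288000 12250 125 300250 rfl grp18_97 rows_ok_2402

theorem grp18_99 : rowsOK 288000 12500 = true :=
  rowsOK_join 288000 12375 125 300375 rfl grp18_98 rows_ok_2403

theorem grp18_100 : rowsOK 288000 12625 = true :=
  rowsOK_join 288000 12500 125 300500 rfl grp18_99 rows_ok_2404

theorem grp18_101 : rowsOK 288000 12750 = true :=
  rowsOK_join 288000 12625 125 300625 rfl grp18_100 rows_ok_2405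

theorem grp18_102 : rowsOK 288000 12875 = true :=
  rowsOK_join 288000 12750 125 300750 rfl grp18_101 rows_ok_2406

theorem grp18_103 : rowsOK 288000 13000 = true :=
  rowsOK_join 288000 12875 125 300875 rfl grp18_102 rows_ok_2407

theorem grp18_104 : rowsOK 288000 13125 = true :=
  rowsOK_join 288000 13000 125 301000 rfl grp18_103 rows_ok_2408

theorem grp18_105 : rowsOK 288000 13250 = true :=
  rowsOK_join 288000 13125 125 301125 rfl grp18_104 rows_ok_2409

theorem grp18_106 : rowsOK 288000 13375 = true :=
  rowsOK_join 288000 13250 125 301250 rfl grp18_105 rows_ok_2410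

theorem grp18_107 : rowsOK 288000 13500 = true :=
  rowsOK_join 288000 13375 125 301375 rfl grp18_106 rows_ok_2411

theorem grp18_108 : rowsOK 288000 13625 = true :=
  rowsOK_join 288000 13500 125 301500 rfl grp18_107 rows_ok_2412

theorem grp18_109 : rowsOK 288000 13750 = true :=
  rowsOK_join 288000 13625 125 301625 rfl grp18_108 rows_ok_2413

theorem grp18_110 : rowsOK 288000 13875 = true :=
  rowsOK_join 288000 13750 125 301750 rfl grp18_109 rows_ok_2414

theorem grp18_111 : rowsOK 288000 14000 = true :=
  rowsOK_join 288000 13875 125 301875 rfl grp18_110 rows_ok_2415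

theorem grp18_112 : rowsOK 288000 14125 = true :=
  rowsOK_join 288000 14000 125 302000 rfl grp18_111 rows_ok_2416

theorem grp18_113 : rowsOK 288000 14250 = true :=
  rowsOK_join 288000 14125 125 302125 rfl grp18_112 rows_ok_2417

theorem grp18_114 : rowsOK 288000 14375 = true :=
  rowsOK_join 288000 14250 125 302250 rfl grp18_113 rows_ok_2418

theorem grp18_115 : rowsOK 288000 14500 = true :=
  rowsOK_join 288000 14375 125 302375 rfl grp18_114 rows_ok_2419

theorem grp18_116 : rowsOK 288000 14625 = true :=
  rowsOK_join 288000 14500 125 302500 rfl grp18_115 rows_ok_2420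

theorem grp18_117 : rowsOK 288000 14750 = true :=
  rowsOK_join 288000 14625 125 302625 rfl grp18_116 rows_ok_2421

theorem grp18_118 : rowsOK 288000 14875 = true :=
  rowsOK_join 288000 14750 125 302750 rfl grp18_117 rows_ok_2422

theorem grp18_119 : rowsOK 288000 15000 = true :=
  rowsOK_join 288000 14875 125 302875 rfl grp18_118 rows_ok_2423

theorem grp18_120 : rowsOK 288000 15125 = true :=
  rowsOK_join 288000 15000 125 303000 rfl grp18_119 rows_ok_2424

theorem grp18_121 : rowsOK 288000 15250 = true :=
  rowsOK_join 288000 15125 125 303125 rfl grp18_120 rows_ok_2425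

theorem grp18_122 : rowsOK 288000 15375 = true :=
  rowsOK_join 288000 15250 125 303250 rfl grp18_121 rows_ok_2426

theorem grp18_123 : rowsOK 288000 15500 = true :=
  rowsOK_join 288000 15375 125 303375 rfl grp18_122 rows_ok_2427

theorem grp18_124 : rowsOK 288000 15625 = true :=
  rowsOK_join 288000 15500 125 303500 rfl grp18_123 rows_ok_2428

theorem grp18_125 : rowsOK 288000 15750 = true :=
  rowsOK_join 288000 15625 125 303625 rfl grp18_124 rows_ok_2429

theorem grp18_126 : rowsOK 288000 15875 = true :=
  rowsOK_join 288000 15750 125 303750 rfl grp18_125 rows_ok_2430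

theorem rows_ok_grp_18 : rowsOK 288000 16000 = true :=
  rowsOK_join 288000 15875 125 303875 rfl grp18_126 rows_ok_2431

end Cfsg.Agent.Lib.Helper7.Fi24L
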