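import Cfsg.Agent.Lib.Helper7.Fi24LK304
import Cfsg.Agent.Lib.Helper7.Fi24LK305
import Cfsg.Agent.Lib.Helper7.Fi24LK306
import Cfsg.Agent.Lib.Helper7.Fi24LE

/-! # The multiplier of the Fischer group Fi₂₄′, a threefold cover of a permutation representation of the presented group Fi₂₄: the checks of a part of the rows are joined (generated) -/

set_option autoImplicit false
set_option maxRecDepth 100000

namespace Cfsg.Agent.Lib.Helper7.Fi24L

theorem grp19_1 : rowsOK 304000 250 = true :=
  rowsOK_join 304000 125 125 304125 rfl rows_ok_2432 rows_ok_2433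

theorem grp19_2 : rowsOK 304000 375 = true :=
  rowsOK_join 304000 250 125 304250 rfl grp19_1 rows_ok_2434

theorem grp19_3 : rowsOK 304000 500 = true :=
  rowsOK_join 304000 375 125 304375 rfl grp19_2 rows_ok_2435

theorem grp19_4 : rowsOK 304000 625 = true :=
  rowsOK_join 304000 500 125 304500 rfl grp19_3 rows_ok_2436

theorem grp19_5 : rowsOK 304000 750 = true :=
  rowsOK_join 304000 625 125 304625 rfl grp19_4 rows_ok_2437

theorem grp19_6 : rowsOK 304000 875 = true :=
  rowsOK_join 304000 750 125 304750 rfl grp19_5 rows_ok_2438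

theorem grp19_7 : rowsOK 304000 1000 = true :=
  rowsOK_join 304000 875 125 304875 rfl grp19_6 rows_ok_2439

theorem grp19_8 : rowsOK 304000 1125 = true :=
  rowsOK_join 304000 1000 125 305000 rfl grp19_7 rows_ok_2440

theorem grp19_9 : rowsOK 304000 1250 = true :=
  rowsOK_join 304000 1125 125 305125 rfl grp19_8 rows_ok_2441

theorem grp19_10 : rowsOK 304000 1375 = true :=
  rowsOK_join 304000 1250 125 305250 rfl grp19_9 rows_ok_2442

theorem grp19_11 : rowsOK 304000 1500 = true :=
  rowsOK_join 304000 1375 125 305375 rfl grp19_10 rows_ok_2443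

theorem grp19_12 : rowsOK 304000 1625 = true :=
  rowsOK_join 304000 1500 125 305500 rfl grp19_11 rows_ok_2444

theorem grp19_13 : rowsOK 304000 1750 = true :=
  rowsOK_join 304000 1625 125 305625 rfl grp19_12 rows_ok_2445

theorem grp19_14 : rowsOK 304000 1875 = true :=
  rowsOK_join 304000 1750 125 305750 rfl grp19_13 rows_ok_2446

theorem grp19_15 : rowsOK 304000 2000 = true :=
  rowsOK_join 304000 1875 125 305875 rfl grp19_14 rows_ok_2447

theorem grp19_16 : rowsOK 304000 2125 = true :=
  rowsOK_join 304000 2000 125 306000 rfl grp19_15 rows_ok_2448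

theorem grp19_17 : rowsOK 304000 2250 = true :=
  rowsOK_join 304000 2125 125 306125 rfl grp19_16 rows_ok_2449

theorem grp19_18 : rowsOK 304000 2375 = true :=
  rowsOK_join 304000 2250 125 306250 rfl grp19_17 rows_ok_2450

theorem grp19_19 : rowsOK 304000 2500 = true :=
  rowsOK_join 304000 2375 125 306375 rfl grp19_18 rows_ok_2451

theorem grp19_20 : rowsOK 304000 2625 = true :=
  rowsOK_join 304000 2500 125 306500 rfl grp19_19 rows_ok_2452

theorem grp19_21 : rowsOK 304000 2750 = true :=
  rowsOK_join 304000 2625 125 306625 rfl grp19_20 rows_ok_2453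

theorem grp19_22 : rowsOK 304000 2875 = true :=
  rowsOK_join 304000 2750 125 306750 rfl grp19_21 rows_ok_2454

theorem rows_ok_grp_19 : rowsOK 304000 2936 = true :=
  rowsOK_join 304000 2875 61 306875 rfl grp19_22 rows_ok_2455

end Cfsg.Agent.Lib.Helper7.Fi24L
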