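import Cfsg.Agent.Lib.Helper7.Fi24LK32
import Cfsg.Agent.Lib.Helper7.Fi24LK33
import Cfsg.Agent.Lib.Helper7.Fi24LK34
import Cfsg.Agent.Lib.Helper7.Fi24LK35
import Cfsg.Agent.Lib.Helper7.Fi24LK36
import Cfsg.Agent.Lib.Helper7.Fi24LK37
import Cfsg.Agent.Lib.Helper7.Fi24LK38
import Cfsg.Agent.Lib.Helper7.Fi24LK39
import Cfsg.Agent.Lib.Helper7.Fi24LK40
import Cfsg.Agent.Lib.Helper7.Fi24LK41
import Cfsg.Agent.Lib.Helper7.Fi24LK42
import Cfsg.Agent.Lib.Helper7.Fi24LK43
import Cfsg.Agent.Lib.Helper7.Fi24LK44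
import Cfsg.Agent.Lib.Helper7.Fi24LK45
import Cfsg.Agent.Lib.Helper7.Fi24LK46
import Cfsg.Agent.Lib.Helper7.Fi24LK47
import Cfsg.Agent.Lib.Helper7.Fi24LE

/-! # The multiplier of the Fischer group Fi₂₄′, a threefold cover of a permutation representation of the presented group Fi₂₄: the checks of a part of the rows are joined (generated) -/

set_option autoImplicit false
set_option maxRecDepth 100000

namespace Cfsg.Agent.Lib.Helper7.Fi24L

theorem grp2_1 : rowsOK 32000 250 = true :=
  rowsOK_join 32000 125 125 32125 rfl rows_ok_256 rows_ok_257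

theorem grp2_2 : rowsOK 32000 375 = true :=
  rowsOK_join 32000 250 125 32250 rfl grp2_1 rows_ok_258

theorem grp2_3 : rowsOK 32000 500 = true :=
  rowsOK_join 32000 375 125 32375 rfl grp2_2 rows_ok_259

theorem grp2_4 : rowsOK 32000 625 = true :=
  rowsOK_join 32000 500 125 32500 rfl grp2_3 rows_ok_260

theorem grp2_5 : rowsOK 32000 750 = true :=
  rowsOK_join 32000 625 125 32625 rfl grp2_4 rows_ok_261

theorem grp2_6 : rowsOK 32000 875 = true :=
  rowsOK_join 32000 750 125 32750 rfl grp2_5 rows_ok_262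

theorem grp2_7 : rowsOK 32000 1000 = true :=
  rowsOK_join 32000 875 125 32875 rfl grp2_6 rows_ok_263

theorem grp2_8 : rowsOK 32000 1125 = true :=
  rowsOK_join 32000 1000 125 33000 rfl grp2_7 rows_ok_264

theorem grp2_9 : rowsOK 32000 1250 = true :=
  rowsOK_join 32000 1125 125 33125 rfl grp2_8 rows_ok_265

theorem grp2_10 : rowsOK 32000 1375 = true :=
  rowsOK_join 32000 1250 125 33250 rfl grp2_9 rows_ok_266

theorem grp2_11 : rowsOK 32000 1500 = true :=
  rowsOK_join 32000 1375 125 33375 rfl grp2_10 rows_ok_267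

theorem grp2_12 : rowsOK 32000 1625 = true :=
  rowsOK_join 32000 1500 125 33500 rfl grp2_11 rows_ok_268

theorem grp2_13 : rowsOK 32000 1750 = true :=
  rowsOK_join 32000 1625 125 33625 rfl grp2_12 rows_ok_269

theorem grp2_14 : rowsOK 32000 1875 = true :=
  rowsOK_join 32000 1750 125 33750 rfl grp2_13 rows_ok_270

theorem grp2_15 : rowsOK 32000 2000 = true :=
  rowsOK_join 32000 1875 125 33875 rfl grp2_14 rows_ok_271

theorem grp2_16 : rowsOK 32000 2125 = true :=
  rowsOK_join 32000 2000 125 34000 rfl grp2_15 rows_ok_272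

theorem grp2_17 : rowsOK 32000 2250 = true :=
  rowsOK_join 32000 2125 125 34125 rfl grp2_16 rows_ok_273

theorem grp2_18 : rowsOK 32000 2375 = true :=
  rowsOK_join 32000 2250 125 34250 rfl grp2_17 rows_ok_274

theorem grp2_19 : rowsOK 32000 2500 = true :=
  rowsOK_join 32000 2375 125 34375 rfl grp2_18 rows_ok_275

theorem grp2_20 : rowsOK 32000 2625 = true :=
  rowsOK_join 32000 2500 125 34500 rfl grp2_19 rows_ok_276

theorem grp2_21 : rowsOK 32000 2750 = true :=
  rowsOK_join 32000 2625 125 34625 rfl grp2_20 rows_ok_277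

theorem grp2_22 : rowsOK 32000 2875 = true :=
  rowsOK_join 32000 2750 125 34750 rfl grp2_21 rows_ok_278

theorem grp2_23 : rowsOK 32000 3000 = true :=
  rowsOK_join 32000 2875 125 34875 rfl grp2_22 rows_ok_279

theorem grp2_24 : rowsOK 32000 3125 = true :=
  rowsOK_join 32000 3000 125 35000 rfl grp2_23 rows_ok_280

theorem grp2_25 : rowsOK 32000 3250 = true :=
  rowsOK_join 32000 3125 125 35125 rfl grp2_24 rows_ok_281

theorem grp2_26 : rowsOK 32000 3375 = true :=
  rowsOK_join 32000 3250 125 35250 rfl grp2_25 rows_ok_282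

theorem grp2_27 : rowsOK 32000 3500 = true :=
  rowsOK_join 32000 3375 125 35375 rfl grp2_26 rows_ok_283

theorem grp2_28 : rowsOK 32000 3625 = true :=
  rowsOK_join 32000 3500 125 35500 rfl grp2_27 rows_ok_284

theorem grp2_29 : rowsOK 32000 3750 = true :=
  rowsOK_join 32000 3625 125 35625 rfl grp2_28 rows_ok_285

theorem grp2_30 : rowsOK 32000 3875 = true :=
  rowsOK_join 32000 3750 125 35750 rfl grp2_29 rows_ok_286

theorem grp2_31 : rowsOK 32000 4000 = true :=
  rowsOK_join 32000 3875 125 35875 rfl grp2_30 rows_ok_287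

theorem grp2_32 : rowsOK 32000 4125 = true :=
  rowsOK_join 32000 4000 125 36000 rfl grp2_31 rows_ok_288

theorem grp2_33 : rowsOK 32000 4250 = true :=
  rowsOK_join 32000 4125 125 36125 rfl grp2_32 rows_ok_289

theorem grp2_34 : rowsOK 32000 4375 = true :=
  rowsOK_join 32000 4250 125 36250 rfl grp2_33 rows_ok_290

theorem grp2_35 : rowsOK 32000 4500 = true :=
  rowsOK_join 32000 4375 125 36375 rfl grp2_34 rows_ok_291

theorem grp2_36 : rowsOK 32000 4625 = true :=
  rowsOK_join 32000 4500 125 36500 rfl grp2_35 rows_ok_292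

theorem grp2_37 : rowsOK 32000 4750 = true :=
  rowsOK_join 32000 4625 125 36625 rfl grp2_36 rows_ok_293

theorem grp2_38 : rowsOK 32000 4875 = true :=
  rowsOK_join 32000 4750 125 36750 rfl grp2_37 rows_ok_294

theorem grp2_39 : rowsOK 32000 5000 = true :=
  rowsOK_join 32000 4875 125 36875 rfl grp2_38 rows_ok_295

theorem grp2_40 : rowsOK 32000 5125 = true :=
  rowsOK_join 32000 5000 125 37000 rfl grp2_39 rows_ok_296

theorem grp2_41 : rowsOK 32000 5250 = true :=
  rowsOK_join 32000 5125 125 37125 rfl grp2_40 rows_ok_297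

theorem grp2_42 : rowsOK 32000 5375 = true :=
  rowsOK_join 32000 5250 125 37250 rfl grp2_41 rows_ok_298

theorem grp2_43 : rowsOK 32000 5500 = true :=
  rowsOK_join 32000 5375 125 37375 rfl grp2_42 rows_ok_299

theorem grp2_44 : rowsOK 32000 5625 = true :=
  rowsOK_join 32000 5500 125 37500 rfl grp2_43 rows_ok_300

theorem grp2_45 : rowsOK 32000 5750 = true :=
  rowsOK_join 32000 5625 125 37625 rfl grp2_44 rows_ok_301

theorem grp2_46 : rowsOK 32000 5875 = true :=
  rowsOK_join 32000 5750 125 37750 rfl grp2_45 rows_ok_302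

theorem grp2_47 : rowsOK 32000 6000 = true :=
  rowsOK_join 32000 5875 125 37875 rfl grp2_46 rows_ok_303

theorem grp2_48 : rowsOK 32000 6125 = true :=
  rowsOK_join 32000 6000 125 38000 rfl grp2_47 rows_ok_304

theorem grp2_49 : rowsOK 32000 6250 = true :=
  rowsOK_join 32000 6125 125 38125 rfl grp2_48 rows_ok_305

theorem grp2_50 : rowsOK 32000 6375 = true :=
  rowsOK_join 32000 6250 125 38250 rfl grp2_49 rows_ok_306

theorem grp2_51 : rowsOK 32000 6500 = true :=
  rowsOK_join 32000 6375 125 38375 rfl grp2_50 rows_ok_307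

theorem grp2_52 : rowsOK 32000 6625 = true :=
  rowsOK_join 32000 6500 125 38500 rfl grp2_51 rows_ok_308

theorem grp2_53 : rowsOK 32000 6750 = true :=
  rowsOK_join 32000 6625 125 38625 rfl grp2_52 rows_ok_309

theorem grp2_54 : rowsOK 32000 6875 = true :=
  rowsOK_join 32000 6750 125 38750 rfl grp2_53 rows_ok_310

theorem grp2_55 : rowsOK 32000 7000 = true :=
  rowsOK_join 32000 6875 125 38875 rfl grp2_54 rows_ok_311

theorem grp2_56 : rowsOK 32000 7125 = true :=
  rowsOK_join 32000 7000 125 39000 rfl grp2_55 rows_ok_312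

theorem grp2_57 : rowsOK 32000 7250 = true :=
  rowsOK_join 32000 7125 125 39125 rfl grp2_56 rows_ok_313

theorem grp2_58 : rowsOK 32000 7375 = true :=
  rowsOK_join 32000 7250 125 39250 rfl grp2_57 rows_ok_314

theorem grp2_59 : rowsOK 32000 7500 = true :=
  rowsOK_join 32000 7375 125 39375 rfl grp2_58 rows_ok_315

theorem grp2_60 : rowsOK 32000 7625 = true :=
  rowsOK_join 32000 7500 125 39500 rfl grp2_59 rows_ok_316

theorem grp2_61 : rowsOK 32000 7750 = true :=
  rowsOK_join 32000 7625 125 39625 rfl grp2_60 rows_ok_317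

theorem grp2_62 : rowsOK 32000 7875 = true :=
  rowsOK_join 32000 7750 125 39750 rfl grp2_61 rows_ok_318

theorem grp2_63 : rowsOK 32000 8000 = true :=
  rowsOK_join 32000 7875 125 39875 rfl grp2_62 rows_ok_319

theorem grp2_64 : rowsOK 32000 8125 = true :=
  rowsOK_join 32000 8000 125 40000 rfl grp2_63 rows_ok_320

theorem grp2_65 : rowsOK 32000 8250 = true :=
  rowsOK_join 32000 8125 125 40125 rfl grp2_64 rows_ok_321

theorem grp2_66 : rowsOK 32000 8375 = true :=
  rowsOK_join 32000 8250 125 40250 rfl grp2_65 rows_ok_322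

theorem grp2_67 : rowsOK 32000 8500 = true :=
  rowsOK_join 32000 8375 125 40375 rfl grp2_66 rows_ok_323

theorem grp2_68 : rowsOK 32000 8625 = true :=
  rowsOK_join 32000 8500 125 40500 rfl grp2_67 rows_ok_324

theorem grp2_69 : rowsOK 32000 8750 = true :=
  rowsOK_join 32000 8625 125 40625 rfl grp2_68 rows_ok_325

theorem grp2_70 : rowsOK 32000 8875 = true :=
  rowsOK_join 32000 8750 125 40750 rfl grp2_69 rows_ok_326

theorem grp2_71 : rowsOK 32000 9000 = true :=
  rowsOK_join 32000 8875 125 40875 rfl grp2_70 rows_ok_327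

theorem grp2_72 : rowsOK 32000 9125 = true :=
  rowsOK_join 32000 9000 125 41000 rfl grp2_71 rows_ok_328

theorem grp2_73 : rowsOK 32000 9250 = true :=
  rowsOK_join 32000 9125 125 41125 rfl grp2_72 rows_ok_329

theorem grp2_74 : rowsOK 32000 9375 = true :=
  rowsOK_join 32000 9250 125 41250 rfl grp2_73 rows_ok_330

theorem grp2_75 : rowsOK 32000 9500 = true :=
  rowsOK_join 32000 9375 125 41375 rfl grp2_74 rows_ok_331

theorem grp2_76 : rowsOK 32000 9625 = true :=
  rowsOK_join 32000 9500 125 41500 rfl grp2_75 rows_ok_332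

theorem grp2_77 : rowsOK 32000 9750 = true :=
  rowsOK_join 32000 9625 125 41625 rfl grp2_76 rows_ok_333

theorem grp2_78 : rowsOK 32000 9875 = true :=
  rowsOK_join 32000 9750 125 41750 rfl grp2_77 rows_ok_334

theorem grp2_79 : rowsOK 32000 10000 = true :=
  rowsOK_join 32000 9875 125 41875 rfl grp2_78 rows_ok_335

theorem grp2_80 : rowsOK 32000 10125 = true :=
  rowsOK_join 32000 10000 125 42000 rfl grp2_79 rows_ok_336

theorem grp2_81 : rowsOK 32000 10250 = true :=
  rowsOK_join 32000 10125 125 42125 rfl grp2_80 rows_ok_337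

theorem grp2_82 : rowsOK 32000 10375 = true :=
  rowsOK_join 32000 10250 125 42250 rfl grp2_81 rows_ok_338

theorem grp2_83 : rowsOK 32000 10500 = true :=
  rowsOK_join 32000 10375 125 42375 rfl grp2_82 rows_ok_339

theorem grp2_84 : rowsOK 32000 10625 = true :=
  rowsOK_join 32000 10500 125 42500 rfl grp2_83 rows_ok_340

theorem grp2_85 : rowsOK 32000 10750 = true :=
  rowsOK_join 32000 10625 125 42625 rfl grp2_84 rows_ok_341

theorem grp2_86 : rowsOK 32000 10875 = true :=
  rowsOK_join 32000 10750 125 42750 rfl grp2_85 rows_ok_342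

theorem grp2_87 : rowsOK 32000 11000 = true :=
  rowsOK_join 32000 10875 125 42875 rfl grp2_86 rows_ok_343

theorem grp2_88 : rowsOK 32000 11125 = true :=
  rowsOK_join 32000 11000 125 43000 rfl grp2_87 rows_ok_344

theorem grp2_89 : rowsOK 32000 11250 = true :=
  rowsOK_join 32000 11125 125 43125 rfl grp2_88 rows_ok_345

theorem grp2_90 : rowsOK 32000 11375 = true :=
  rowsOK_join 32000 11250 125 43250 rfl grp2_89 rows_ok_346

theorem grp2_91 : rowsOK 32000 11500 = true :=
  rowsOK_join 32000 11375 125 43375 rfl grp2_90 rows_ok_347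

theorem grp2_92 : rowsOK 32000 11625 = true :=
  rowsOK_join 32000 11500 125 43500 rfl grp2_91 rows_ok_348

theorem grp2_93 : rowsOK 32000 11750 = true :=
  rowsOK_join 32000 11625 125 43625 rfl grp2_92 rows_ok_349

theorem grp2_94 : rowsOK 32000 11875 = true :=
  rowsOK_join 32000 11750 125 43750 rfl grp2_93 rows_ok_350

theorem grp2_95 : rowsOK 32000 12000 = true :=
  rowsOK_join 32000 11875 125 43875 rfl grp2_94 rows_ok_351

theorem grp2_96 : rowsOK 32000 12125 = true :=
  rowsOK_join 32000 12000 125 44000 rfl grp2_95 rows_ok_352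

theorem grp2_97 : rowsOK 32000 12250 = true :=
  rowsOK_join 32000 12125 125 44125 rfl grp2_96 rows_ok_353

theorem grp2_98 : rowsOK 32000 12375 = true :=
  rowsOK_join 32000 12250 125 44250 rfl grp2_97 rows_ok_354

theorem grp2_99 : rowsOK 32000 12500 = true :=
  rowsOK_join 32000 12375 125 44375 rfl grp2_98 rows_ok_355

theorem grp2_100 : rowsOK 32000 12625 = true :=
  rowsOK_join 32000 12500 125 44500 rfl grp2_99 rows_ok_356

theorem grp2_101 : rowsOK 32000 12750 = true :=
  rowsOK_join 32000 12625 125 44625 rfl grp2_100 rows_ok_357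

theorem grp2_102 : rowsOK 32000 12875 = true :=
  rowsOK_join 32000 12750 125 44750 rfl grp2_101 rows_ok_358

theorem grp2_103 : rowsOK 32000 13000 = true :=
  rowsOK_join 32000 12875 125 44875 rfl grp2_102 rows_ok_359

theorem grp2_104 : rowsOK 32000 13125 = true :=
  rowsOK_join 32000 13000 125 45000 rfl grp2_103 rows_ok_360

theorem grp2_105 : rowsOK 32000 13250 = true :=
  rowsOK_join 32000 13125 125 45125 rfl grp2_104 rows_ok_361

theorem grp2_106 : rowsOK 32000 13375 = true :=
  rowsOK_join 32000 13250 125 45250 rfl grp2_105 rows_ok_362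

theorem grp2_107 : rowsOK 32000 13500 = true :=
  rowsOK_join 32000 13375 125 45375 rfl grp2_106 rows_ok_363

theorem grp2_108 : rowsOK 32000 13625 = true :=
  rowsOK_join 32000 13500 125 45500 rfl grp2_107 rows_ok_364

theorem grp2_109 : rowsOK 32000 13750 = true :=
  rowsOK_join 32000 13625 125 45625 rfl grp2_108 rows_ok_365

theorem grp2_110 : rowsOK 32000 13875 = true :=
  rowsOK_join 32000 13750 125 45750 rfl grp2_109 rows_ok_366

theorem grp2_111 : rowsOK 32000 14000 = true :=
  rowsOK_join 32000 13875 125 45875 rfl grp2_110 rows_ok_367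

theorem grp2_112 : rowsOK 32000 14125 = true :=
  rowsOK_join 32000 14000 125 46000 rfl grp2_111 rows_ok_368

theorem grp2_113 : rowsOK 32000 14250 = true :=
  rowsOK_join 32000 14125 125 46125 rfl grp2_112 rows_ok_369

theorem grp2_114 : rowsOK 32000 14375 = true :=
  rowsOK_join 32000 14250 125 46250 rfl grp2_113 rows_ok_370

theorem grp2_115 : rowsOK 32000 14500 = true :=
  rowsOK_join 32000 14375 125 46375 rfl grp2_114 rows_ok_371

theorem grp2_116 : rowsOK 32000 14625 = true :=
  rowsOK_join 32000 14500 125 46500 rfl grp2_115 rows_ok_372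

theorem grp2_117 : rowsOK 32000 14750 = true :=
  rowsOK_join 32000 14625 125 46625 rfl grp2_116 rows_ok_373

theorem grp2_118 : rowsOK 32000 14875 = true :=
  rowsOK_join 32000 14750 125 46750 rfl grp2_117 rows_ok_374

theorem grp2_119 : rowsOK 32000 15000 = true :=
  rowsOK_join 32000 14875 125 46875 rfl grp2_118 rows_ok_375

theorem grp2_120 : rowsOK 32000 15125 = true :=
  rowsOK_join 32000 15000 125 47000 rfl grp2_119 rows_ok_376

theorem grp2_121 : rowsOK 32000 15250 = true :=
  rowsOK_join 32000 15125 125 47125 rfl grp2_120 rows_ok_377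

theorem grp2_122 : rowsOK 32000 15375 = true :=
  rowsOK_join 32000 15250 125 47250 rfl grp2_121 rows_ok_378

theorem grp2_123 : rowsOK 32000 15500 = true :=
  rowsOK_join 32000 15375 125 47375 rfl grp2_122 rows_ok_379

theorem grp2_124 : rowsOK 32000 15625 = true :=
  rowsOK_join 32000 15500 125 47500 rfl grp2_123 rows_ok_380

theorem grp2_125 : rowsOK 32000 15750 = true :=
  rowsOK_join 32000 15625 125 47625 rfl grp2_124 rows_ok_381

theorem grp2_126 : rowsOK 32000 15875 = true :=
  rowsOK_join 32000 15750 125 47750 rfl grp2_125 rows_ok_382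

theorem rows_ok_grp_2 : rowsOK 32000 16000 = true :=
  rowsOK_join 32000 15875 125 47875 rfl grp2_126 rows_ok_383

end Cfsg.Agent.Lib.Helper7.Fi24L
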