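import Cfsg.Agent.Lib.Helper7.Fi24LK48
import Cfsg.Agent.Lib.Helper7.Fi24LK49
import Cfsg.Agent.Lib.Helper7.Fi24LK50
import Cfsg.Agent.Lib.Helper7.Fi24LK51
import Cfsg.Agent.Lib.Helper7.Fi24LK52
import Cfsg.Agent.Lib.Helper7.Fi24LK53
import Cfsg.Agent.Lib.Helper7.Fi24LK54
import Cfsg.Agent.Lib.Helper7.Fi24LK55
import Cfsg.Agent.Lib.Helper7.Fi24LK56
import Cfsg.Agent.Lib.Helper7.Fi24LK57
import Cfsg.Agent.Lib.Helper7.Fi24LK58
import Cfsg.Agent.Lib.Helper7.Fi24LK59
import Cfsg.Agent.Lib.Helper7.Fi24LK60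
import Cfsg.Agent.Lib.Helper7.Fi24LK61
import Cfsg.Agent.Lib.Helper7.Fi24LK62
import Cfsg.Agent.Lib.Helper7.Fi24LK63
import Cfsg.Agent.Lib.Helper7.Fi24LE

/-! # The multiplier of the Fischer group Fi₂₄′, a threefold cover of a permutation representation of the presented group Fi₂₄: the checks of a part of the rows are joined (generated) -/

set_option autoImplicit false
set_option maxRecDepth 100000

namespace Cfsg.Agent.Lib.Helper7.Fi24L

theorem grp3_1 : rowsOK 48000 250 = true :=
  rowsOK_join 48000 125 125 48125 rfl rows_ok_384 rows_ok_385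

theorem grp3_2 : rowsOK 48000 375 = true :=
  rowsOK_join 48000 250 125 48250 rfl grp3_1 rows_ok_386

theorem grp3_3 : rowsOK 48000 500 = true :=
  rowsOK_join 48000 375 125 48375 rfl grp3_2 rows_ok_387

theorem grp3_4 : rowsOK 48000 625 = true :=
  rowsOK_join 48000 500 125 48500 rfl grp3_3 rows_ok_388

theorem grp3_5 : rowsOK 48000 750 = true :=
  rowsOK_join 48000 625 125 48625 rfl grp3_4 rows_ok_389

theorem grp3_6 : rowsOK 48000 875 = true :=
  rowsOK_join 48000 750 125 48750 rfl grp3_5 rows_ok_390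

theorem grp3_7 : rowsOK 48000 1000 = true :=
  rowsOK_join 48000 875 125 48875 rfl grp3_6 rows_ok_391

theorem grp3_8 : rowsOK 48000 1125 = true :=
  rowsOK_join 48000 1000 125 49000 rfl grp3_7 rows_ok_392

theorem grp3_9 : rowsOK 48000 1250 = true :=
  rowsOK_join 48000 1125 125 49125 rfl grp3_8 rows_ok_393

theorem grp3_10 : rowsOK 48000 1375 = true :=
  rowsOK_join 48000 1250 125 49250 rfl grp3_9 rows_ok_394

theorem grp3_11 : rowsOK 48000 1500 = true :=
  rowsOK_join 48000 1375 125 49375 rfl grp3_10 rows_ok_395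

theorem grp3_12 : rowsOK 48000 1625 = true :=
  rowsOK_join 48000 1500 125 49500 rfl grp3_11 rows_ok_396

theorem grp3_13 : rowsOK 48000 1750 = true :=
  rowsOK_join 48000 1625 125 49625 rfl grp3_12 rows_ok_397

theorem grp3_14 : rowsOK 48000 1875 = true :=
  rowsOK_join 48000 1750 125 49750 rfl grp3_13 rows_ok_398

theorem grp3_15 : rowsOK 48000 2000 = true :=
  rowsOK_join 48000 1875 125 49875 rfl grp3_14 rows_ok_399

theorem grp3_16 : rowsOK 48000 2125 = true :=
  rowsOK_join 48000 2000 125 50000 rfl grp3_15 rows_ok_400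

theorem grp3_17 : rowsOK 48000 2250 = true :=
  rowsOK_join 48000 2125 125 50125 rfl grp3_16 rows_ok_401

theorem grp3_18 : rowsOK 48000 2375 = true :=
  rowsOK_join 48000 2250 125 50250 rfl grp3_17 rows_ok_402

theorem grp3_19 : rowsOK 48000 2500 = true :=
  rowsOK_join 48000 2375 125 50375 rfl grp3_18 rows_ok_403

theorem grp3_20 : rowsOK 48000 2625 = true :=
  rowsOK_join 48000 2500 125 50500 rfl grp3_19 rows_ok_404

theorem grp3_21 : rowsOK 48000 2750 = true :=
  rowsOK_join 48000 2625 125 50625 rfl grp3_20 rows_ok_405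

theorem grp3_22 : rowsOK 48000 2875 = true :=
  rowsOK_join 48000 2750 125 50750 rfl grp3_21 rows_ok_406

theorem grp3_23 : rowsOK 48000 3000 = true :=
  rowsOK_join 48000 2875 125 50875 rfl grp3_22 rows_ok_407

theorem grp3_24 : rowsOK 48000 3125 = true :=
  rowsOK_join 48000 3000 125 51000 rfl grp3_23 rows_ok_408

theorem grp3_25 : rowsOK 48000 3250 = true :=
  rowsOK_join 48000 3125 125 51125 rfl grp3_24 rows_ok_409

theorem grp3_26 : rowsOK 48000 3375 = true :=
  rowsOK_join 48000 3250 125 51250 rfl grp3_25 rows_ok_410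

theorem grp3_27 : rowsOK 48000 3500 = true :=
  rowsOK_join 48000 3375 125 51375 rfl grp3_26 rows_ok_411

theorem grp3_28 : rowsOK 48000 3625 = true :=
  rowsOK_join 48000 3500 125 51500 rfl grp3_27 rows_ok_412

theorem grp3_29 : rowsOK 48000 3750 = true :=
  rowsOK_join 48000 3625 125 51625 rfl grp3_28 rows_ok_413

theorem grp3_30 : rowsOK 48000 3875 = true :=
  rowsOK_join 48000 3750 125 51750 rfl grp3_29 rows_ok_414

theorem grp3_31 : rowsOK 48000 4000 = true :=
  rowsOK_join 48000 3875 125 51875 rfl grp3_30 rows_ok_415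

theorem grp3_32 : rowsOK 48000 4125 = true :=
  rowsOK_join 48000 4000 125 52000 rfl grp3_31 rows_ok_416

theorem grp3_33 : rowsOK 48000 4250 = true :=
  rowsOK_join 48000 4125 125 52125 rfl grp3_32 rows_ok_417

theorem grp3_34 : rowsOK 48000 4375 = true :=
  rowsOK_join 48000 4250 125 52250 rfl grp3_33 rows_ok_418

theorem grp3_35 : rowsOK 48000 4500 = true :=
  rowsOK_join 48000 4375 125 52375 rfl grp3_34 rows_ok_419

theorem grp3_36 : rowsOK 48000 4625 = true :=
  rowsOK_join 48000 4500 125 52500 rfl grp3_35 rows_ok_420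

theorem grp3_37 : rowsOK 48000 4750 = true :=
  rowsOK_join 48000 4625 125 52625 rfl grp3_36 rows_ok_421

theorem grp3_38 : rowsOK 48000 4875 = true :=
  rowsOK_join 48000 4750 125 52750 rfl grp3_37 rows_ok_422

theorem grp3_39 : rowsOK 48000 5000 = true :=
  rowsOK_join 48000 4875 125 52875 rfl grp3_38 rows_ok_423

theorem grp3_40 : rowsOK 48000 5125 = true :=
  rowsOK_join 48000 5000 125 53000 rfl grp3_39 rows_ok_424

theorem grp3_41 : rowsOK 48000 5250 = true :=
  rowsOK_join 48000 5125 125 53125 rfl grp3_40 rows_ok_425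

theorem grp3_42 : rowsOK 48000 5375 = true :=
  rowsOK_join 48000 5250 125 53250 rfl grp3_41 rows_ok_426

theorem grp3_43 : rowsOK 48000 5500 = true :=
  rowsOK_join 48000 5375 125 53375 rfl grp3_42 rows_ok_427

theorem grp3_44 : rowsOK 48000 5625 = true :=
  rowsOK_join 48000 5500 125 53500 rfl grp3_43 rows_ok_428

theorem grp3_45 : rowsOK 48000 5750 = true :=
  rowsOK_join 48000 5625 125 53625 rfl grp3_44 rows_ok_429

theorem grp3_46 : rowsOK 48000 5875 = true :=
  rowsOK_join 48000 5750 125 53750 rfl grp3_45 rows_ok_430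

theorem grp3_47 : rowsOK 48000 6000 = true :=
  rowsOK_join 48000 5875 125 53875 rfl grp3_46 rows_ok_431

theorem grp3_48 : rowsOK 48000 6125 = true :=
  rowsOK_join 48000 6000 125 54000 rfl grp3_47 rows_ok_432

theorem grp3_49 : rowsOK 48000 6250 = true :=
  rowsOK_join 48000 6125 125 54125 rfl grp3_48 rows_ok_433

theorem grp3_50 : rowsOK 48000 6375 = true :=
  rowsOK_join 48000 6250 125 54250 rfl grp3_49 rows_ok_434

theorem grp3_51 : rowsOK 48000 6500 = true :=
  rowsOK_join 48000 6375 125 54375 rfl grp3_50 rows_ok_435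

theorem grp3_52 : rowsOK 48000 6625 = true :=
  rowsOK_join 48000 6500 125 54500 rfl grp3_51 rows_ok_436

theorem grp3_53 : rowsOK 48000 6750 = true :=
  rowsOK_join 48000 6625 125 54625 rfl grp3_52 rows_ok_437

theorem grp3_54 : rowsOK 48000 6875 = true :=
  rowsOK_join 48000 6750 125 54750 rfl grp3_53 rows_ok_438

theorem grp3_55 : rowsOK 48000 7000 = true :=
  rowsOK_join 48000 6875 125 54875 rfl grp3_54 rows_ok_439

theorem grp3_56 : rowsOK 48000 7125 = true :=
  rowsOK_join 48000 7000 125 55000 rfl grp3_55 rows_ok_440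

theorem grp3_57 : rowsOK 48000 7250 = true :=
  rowsOK_join 48000 7125 125 55125 rfl grp3_56 rows_ok_441

theorem grp3_58 : rowsOK 48000 7375 = true :=
  rowsOK_join 48000 7250 125 55250 rfl grp3_57 rows_ok_442

theorem grp3_59 : rowsOK 48000 7500 = true :=
  rowsOK_join 48000 7375 125 55375 rfl grp3_58 rows_ok_443

theorem grp3_60 : rowsOK 48000 7625 = true :=
  rowsOK_join 48000 7500 125 55500 rfl grp3_59 rows_ok_444

theorem grp3_61 : rowsOK 48000 7750 = true :=
  rowsOK_join 48000 7625 125 55625 rfl grp3_60 rows_ok_445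

theorem grp3_62 : rowsOK 48000 7875 = true :=
  rowsOK_join 48000 7750 125 55750 rfl grp3_61 rows_ok_446

theorem grp3_63 : rowsOK 48000 8000 = true :=
  rowsOK_join 48000 7875 125 55875 rfl grp3_62 rows_ok_447

theorem grp3_64 : rowsOK 48000 8125 = true :=
  rowsOK_join 48000 8000 125 56000 rfl grp3_63 rows_ok_448

theorem grp3_65 : rowsOK 48000 8250 = true :=
  rowsOK_join 48000 8125 125 56125 rfl grp3_64 rows_ok_449

theorem grp3_66 : rowsOK 48000 8375 = true :=
  rowsOK_join 48000 8250 125 56250 rfl grp3_65 rows_ok_450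

theorem grp3_67 : rowsOK 48000 8500 = true :=
  rowsOK_join 48000 8375 125 56375 rfl grp3_66 rows_ok_451

theorem grp3_68 : rowsOK 48000 8625 = true :=
  rowsOK_join 48000 8500 125 56500 rfl grp3_67 rows_ok_452

theorem grp3_69 : rowsOK 48000 8750 = true :=
  rowsOK_join 48000 8625 125 56625 rfl grp3_68 rows_ok_453

theorem grp3_70 : rowsOK 48000 8875 = true :=
  rowsOK_join 48000 8750 125 56750 rfl grp3_69 rows_ok_454

theorem grp3_71 : rowsOK 48000 9000 = true :=
  rowsOK_join 48000 8875 125 56875 rfl grp3_70 rows_ok_455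

theorem grp3_72 : rowsOK 48000 9125 = true :=
  rowsOK_join 48000 9000 125 57000 rfl grp3_71 rows_ok_456

theorem grp3_73 : rowsOK 48000 9250 = true :=
  rowsOK_join 48000 9125 125 57125 rfl grp3_72 rows_ok_457

theorem grp3_74 : rowsOK 48000 9375 = true :=
  rowsOK_join 48000 9250 125 57250 rfl grp3_73 rows_ok_458

theorem grp3_75 : rowsOK 48000 9500 = true :=
  rowsOK_join 48000 9375 125 57375 rfl grp3_74 rows_ok_459

theorem grp3_76 : rowsOK 48000 9625 = true :=
  rowsOK_join 48000 9500 125 57500 rfl grp3_75 rows_ok_460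

theorem grp3_77 : rowsOK 48000 9750 = true :=
  rowsOK_join 48000 9625 125 57625 rfl grp3_76 rows_ok_461

theorem grp3_78 : rowsOK 48000 9875 = true :=
  rowsOK_join 48000 9750 125 57750 rfl grp3_77 rows_ok_462

theorem grp3_79 : rowsOK 48000 10000 = true :=
  rowsOK_join 48000 9875 125 57875 rfl grp3_78 rows_ok_463

theorem grp3_80 : rowsOK 48000 10125 = true :=
  rowsOK_join 48000 10000 125 58000 rfl grp3_79 rows_ok_464

theorem grp3_81 : rowsOK 48000 10250 = true :=
  rowsOK_join 48000 10125 125 58125 rfl grp3_80 rows_ok_465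

theorem grp3_82 : rowsOK 48000 10375 = true :=
  rowsOK_join 48000 10250 125 58250 rfl grp3_81 rows_ok_466

theorem grp3_83 : rowsOK 48000 10500 = true :=
  rowsOK_join 48000 10375 125 58375 rfl grp3_82 rows_ok_467

theorem grp3_84 : rowsOK 48000 10625 = true :=
  rowsOK_join 48000 10500 125 58500 rfl grp3_83 rows_ok_468

theorem grp3_85 : rowsOK 48000 10750 = true :=
  rowsOK_join 48000 10625 125 58625 rfl grp3_84 rows_ok_469

theorem grp3_86 : rowsOK 48000 10875 = true :=
  rowsOK_join 48000 10750 125 58750 rfl grp3_85 rows_ok_470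

theorem grp3_87 : rowsOK 48000 11000 = true :=
  rowsOK_join 48000 10875 125 58875 rfl grp3_86 rows_ok_471

theorem grp3_88 : rowsOK 48000 11125 = true :=
  rowsOK_join 48000 11000 125 59000 rfl grp3_87 rows_ok_472

theorem grp3_89 : rowsOK 48000 11250 = true :=
  rowsOK_join 48000 11125 125 59125 rfl grp3_88 rows_ok_473

theorem grp3_90 : rowsOK 48000 11375 = true :=
  rowsOK_join 48000 11250 125 59250 rfl grp3_89 rows_ok_474

theorem grp3_91 : rowsOK 48000 11500 = true :=
  rowsOK_join 48000 11375 125 59375 rfl grp3_90 rows_ok_475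

theorem grp3_92 : rowsOK 48000 11625 = true :=
  rowsOK_join 48000 11500 125 59500 rfl grp3_91 rows_ok_476

theorem grp3_93 : rowsOK 48000 11750 = true :=
  rowsOK_join 48000 11625 125 59625 rfl grp3_92 rows_ok_477

theorem grp3_94 : rowsOK 48000 11875 = true :=
  rowsOK_join 48000 11750 125 59750 rfl grp3_93 rows_ok_478

theorem grp3_95 : rowsOK 48000 12000 = true :=
  rowsOK_join 48000 11875 125 59875 rfl grp3_94 rows_ok_479

theorem grp3_96 : rowsOK 48000 12125 = true :=
  rowsOK_join 48000 12000 125 60000 rfl grp3_95 rows_ok_480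

theorem grp3_97 : rowsOK 48000 12250 = true :=
  rowsOK_join 48000 12125 125 60125 rfl grp3_96 rows_ok_481

theorem grp3_98 : rowsOK 48000 12375 = true :=
  rowsOK_join 48000 12250 125 60250 rfl grp3_97 rows_ok_482

theorem grp3_99 : rowsOK 48000 12500 = true :=
  rowsOK_join 48000 12375 125 60375 rfl grp3_98 rows_ok_483

theorem grp3_100 : rowsOK 48000 12625 = true :=
  rowsOK_join 48000 12500 125 60500 rfl grp3_99 rows_ok_484

theorem grp3_101 : rowsOK 48000 12750 = true :=
  rowsOK_join 48000 12625 125 60625 rfl grp3_100 rows_ok_485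

theorem grp3_102 : rowsOK 48000 12875 = true :=
  rowsOK_join 48000 12750 125 60750 rfl grp3_101 rows_ok_486

theorem grp3_103 : rowsOK 48000 13000 = true :=
  rowsOK_join 48000 12875 125 60875 rfl grp3_102 rows_ok_487

theorem grp3_104 : rowsOK 48000 13125 = true :=
  rowsOK_join 48000 13000 125 61000 rfl grp3_103 rows_ok_488

theorem grp3_105 : rowsOK 48000 13250 = true :=
  rowsOK_join 48000 13125 125 61125 rfl grp3_104 rows_ok_489

theorem grp3_106 : rowsOK 48000 13375 = true :=
  rowsOK_join 48000 13250 125 61250 rfl grp3_105 rows_ok_490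

theorem grp3_107 : rowsOK 48000 13500 = true :=
  rowsOK_join 48000 13375 125 61375 rfl grp3_106 rows_ok_491

theorem grp3_108 : rowsOK 48000 13625 = true :=
  rowsOK_join 48000 13500 125 61500 rfl grp3_107 rows_ok_492

theorem grp3_109 : rowsOK 48000 13750 = true :=
  rowsOK_join 48000 13625 125 61625 rfl grp3_108 rows_ok_493

theorem grp3_110 : rowsOK 48000 13875 = true :=
  rowsOK_join 48000 13750 125 61750 rfl grp3_109 rows_ok_494

theorem grp3_111 : rowsOK 48000 14000 = true :=
  rowsOK_join 48000 13875 125 61875 rfl grp3_110 rows_ok_495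

theorem grp3_112 : rowsOK 48000 14125 = true :=
  rowsOK_join 48000 14000 125 62000 rfl grp3_111 rows_ok_496

theorem grp3_113 : rowsOK 48000 14250 = true :=
  rowsOK_join 48000 14125 125 62125 rfl grp3_112 rows_ok_497

theorem grp3_114 : rowsOK 48000 14375 = true :=
  rowsOK_join 48000 14250 125 62250 rfl grp3_113 rows_ok_498

theorem grp3_115 : rowsOK 48000 14500 = true :=
  rowsOK_join 48000 14375 125 62375 rfl grp3_114 rows_ok_499

theorem grp3_116 : rowsOK 48000 14625 = true :=
  rowsOK_join 48000 14500 125 62500 rfl grp3_115 rows_ok_500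

theorem grp3_117 : rowsOK 48000 14750 = true :=
  rowsOK_join 48000 14625 125 62625 rfl grp3_116 rows_ok_501

theorem grp3_118 : rowsOK 48000 14875 = true :=
  rowsOK_join 48000 14750 125 62750 rfl grp3_117 rows_ok_502

theorem grp3_119 : rowsOK 48000 15000 = true :=
  rowsOK_join 48000 14875 125 62875 rfl grp3_118 rows_ok_503

theorem grp3_120 : rowsOK 48000 15125 = true :=
  rowsOK_join 48000 15000 125 63000 rfl grp3_119 rows_ok_504

theorem grp3_121 : rowsOK 48000 15250 = true :=
  rowsOK_join 48000 15125 125 63125 rfl grp3_120 rows_ok_505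

theorem grp3_122 : rowsOK 48000 15375 = true :=
  rowsOK_join 48000 15250 125 63250 rfl grp3_121 rows_ok_506

theorem grp3_123 : rowsOK 48000 15500 = true :=
  rowsOK_join 48000 15375 125 63375 rfl grp3_122 rows_ok_507

theorem grp3_124 : rowsOK 48000 15625 = true :=
  rowsOK_join 48000 15500 125 63500 rfl grp3_123 rows_ok_508

theorem grp3_125 : rowsOK 48000 15750 = true :=
  rowsOK_join 48000 15625 125 63625 rfl grp3_124 rows_ok_509

theorem grp3_126 : rowsOK 48000 15875 = true :=
  rowsOK_join 48000 15750 125 63750 rfl grp3_125 rows_ok_510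

theorem rows_ok_grp_3 : rowsOK 48000 16000 = true :=
  rowsOK_join 48000 15875 125 63875 rfl grp3_126 rows_ok_511

end Cfsg.Agent.Lib.Helper7.Fi24L
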