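import Cfsg.Agent.Lib.Helper7.Fi24LK64
import Cfsg.Agent.Lib.Helper7.Fi24LK65
import Cfsg.Agent.Lib.Helper7.Fi24LK66
import Cfsg.Agent.Lib.Helper7.Fi24LK67
import Cfsg.Agent.Lib.Helper7.Fi24LK68
import Cfsg.Agent.Lib.Helper7.Fi24LK69
import Cfsg.Agent.Lib.Helper7.Fi24LK70
import Cfsg.Agent.Lib.Helper7.Fi24LK71
import Cfsg.Agent.Lib.Helper7.Fi24LK72
import Cfsg.Agent.Lib.Helper7.Fi24LK73
import Cfsg.Agent.Lib.Helper7.Fi24LK74
import Cfsg.Agent.Lib.Helper7.Fi24LK75
import Cfsg.Agent.Lib.Helper7.Fi24LK76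
import Cfsg.Agent.Lib.Helper7.Fi24LK77
import Cfsg.Agent.Lib.Helper7.Fi24LK78
import Cfsg.Agent.Lib.Helper7.Fi24LK79
import Cfsg.Agent.Lib.Helper7.Fi24LE

/-! # The multiplier of the Fischer group Fi₂₄′, a threefold cover of a permutation representation of the presented group Fi₂₄: the checks of a part of the rows are joined (generated) -/

set_option autoImplicit false
set_option maxRecDepth 100000

namespace Cfsg.Agent.Lib.Helper7.Fi24L

theorem grp4_1 : rowsOK 64000 250 = true :=
  rowsOK_join 64000 125 125 64125 rfl rows_ok_512 rows_ok_513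

theorem grp4_2 : rowsOK 64000 375 = true :=
  rowsOK_join 64000 250 125 64250 rfl grp4_1 rows_ok_514

theorem grp4_3 : rowsOK 64000 500 = true :=
  rowsOK_join 64000 375 125 64375 rfl grp4_2 rows_ok_515

theorem grp4_4 : rowsOK 64000 625 = true :=
  rowsOK_join 64000 500 125 64500 rfl grp4_3 rows_ok_516

theorem grp4_5 : rowsOK 64000 750 = true :=
  rowsOK_join 64000 625 125 64625 rfl grp4_4 rows_ok_517

theorem grp4_6 : rowsOK 64000 875 = true :=
  rowsOK_join 64000 750 125 64750 rfl grp4_5 rows_ok_518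

theorem grp4_7 : rowsOK 64000 1000 = true :=
  rowsOK_join 64000 875 125 64875 rfl grp4_6 rows_ok_519

theorem grp4_8 : rowsOK 64000 1125 = true :=
  rowsOK_join 64000 1000 125 65000 rfl grp4_7 rows_ok_520

theorem grp4_9 : rowsOK 64000 1250 = true :=
  rowsOK_join 64000 1125 125 65125 rfl grp4_8 rows_ok_521

theorem grp4_10 : rowsOK 64000 1375 = true :=
  rowsOK_join 64000 1250 125 65250 rfl grp4_9 rows_ok_522

theorem grp4_11 : rowsOK 64000 1500 = true :=
  rowsOK_join 64000 1375 125 65375 rfl grp4_10 rows_ok_523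

theorem grp4_12 : rowsOK 64000 1625 = true :=
  rowsOK_join 64000 1500 125 65500 rfl grp4_11 rows_ok_524

theorem grp4_13 : rowsOK 64000 1750 = true :=
  rowsOK_join 64000 1625 125 65625 rfl grp4_12 rows_ok_525

theorem grp4_14 : rowsOK 64000 1875 = true :=
  rowsOK_join 64000 1750 125 65750 rfl grp4_13 rows_ok_526

theorem grp4_15 : rowsOK 64000 2000 = true :=
  rowsOK_join 64000 1875 125 65875 rfl grp4_14 rows_ok_527

theorem grp4_16 : rowsOK 64000 2125 = true :=
  rowsOK_join 64000 2000 125 66000 rfl grp4_15 rows_ok_528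

theorem grp4_17 : rowsOK 64000 2250 = true :=
  rowsOK_join 64000 2125 125 66125 rfl grp4_16 rows_ok_529

theorem grp4_18 : rowsOK 64000 2375 = true :=
  rowsOK_join 64000 2250 125 66250 rfl grp4_17 rows_ok_530

theorem grp4_19 : rowsOK 64000 2500 = true :=
  rowsOK_join 64000 2375 125 66375 rfl grp4_18 rows_ok_531

theorem grp4_20 : rowsOK 64000 2625 = true :=
  rowsOK_join 64000 2500 125 66500 rfl grp4_19 rows_ok_532

theorem grp4_21 : rowsOK 64000 2750 = true :=
  rowsOK_join 64000 2625 125 66625 rfl grp4_20 rows_ok_533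

theorem grp4_22 : rowsOK 64000 2875 = true :=
  rowsOK_join 64000 2750 125 66750 rfl grp4_21 rows_ok_534

theorem grp4_23 : rowsOK 64000 3000 = true :=
  rowsOK_join 64000 2875 125 66875 rfl grp4_22 rows_ok_535

theorem grp4_24 : rowsOK 64000 3125 = true :=
  rowsOK_join 64000 3000 125 67000 rfl grp4_23 rows_ok_536

theorem grp4_25 : rowsOK 64000 3250 = true :=
  rowsOK_join 64000 3125 125 67125 rfl grp4_24 rows_ok_537

theorem grp4_26 : rowsOK 64000 3375 = true :=
  rowsOK_join 64000 3250 125 67250 rfl grp4_25 rows_ok_538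

theorem grp4_27 : rowsOK 64000 3500 = true :=
  rowsOK_join 64000 3375 125 67375 rfl grp4_26 rows_ok_539

theorem grp4_28 : rowsOK 64000 3625 = true :=
  rowsOK_join 64000 3500 125 67500 rfl grp4_27 rows_ok_540

theorem grp4_29 : rowsOK 64000 3750 = true :=
  rowsOK_join 64000 3625 125 67625 rfl grp4_28 rows_ok_541

theorem grp4_30 : rowsOK 64000 3875 = true :=
  rowsOK_join 64000 3750 125 67750 rfl grp4_29 rows_ok_542

theorem grp4_31 : rowsOK 64000 4000 = true :=
  rowsOK_join 64000 3875 125 67875 rfl grp4_30 rows_ok_543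

theorem grp4_32 : rowsOK 64000 4125 = true :=
  rowsOK_join 64000 4000 125 68000 rfl grp4_31 rows_ok_544

theorem grp4_33 : rowsOK 64000 4250 = true :=
  rowsOK_join 64000 4125 125 68125 rfl grp4_32 rows_ok_545

theorem grp4_34 : rowsOK 64000 4375 = true :=
  rowsOK_join 64000 4250 125 68250 rfl grp4_33 rows_ok_546

theorem grp4_35 : rowsOK 64000 4500 = true :=
  rowsOK_join 64000 4375 125 68375 rfl grp4_34 rows_ok_547

theorem grp4_36 : rowsOK 64000 4625 = true :=
  rowsOK_join 64000 4500 125 68500 rfl grp4_35 rows_ok_548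

theorem grp4_37 : rowsOK 64000 4750 = true :=
  rowsOK_join 64000 4625 125 68625 rfl grp4_36 rows_ok_549

theorem grp4_38 : rowsOK 64000 4875 = true :=
  rowsOK_join 64000 4750 125 68750 rfl grp4_37 rows_ok_550

theorem grp4_39 : rowsOK 64000 5000 = true :=
  rowsOK_join 64000 4875 125 68875 rfl grp4_38 rows_ok_551

theorem grp4_40 : rowsOK 64000 5125 = true :=
  rowsOK_join 64000 5000 125 69000 rfl grp4_39 rows_ok_552

theorem grp4_41 : rowsOK 64000 5250 = true :=
  rowsOK_join 64000 5125 125 69125 rfl grp4_40 rows_ok_553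

theorem grp4_42 : rowsOK 64000 5375 = true :=
  rowsOK_join 64000 5250 125 69250 rfl grp4_41 rows_ok_554

theorem grp4_43 : rowsOK 64000 5500 = true :=
  rowsOK_join 64000 5375 125 69375 rfl grp4_42 rows_ok_555

theorem grp4_44 : rowsOK 64000 5625 = true :=
  rowsOK_join 64000 5500 125 69500 rfl grp4_43 rows_ok_556

theorem grp4_45 : rowsOK 64000 5750 = true :=
  rowsOK_join 64000 5625 125 69625 rfl grp4_44 rows_ok_557

theorem grp4_46 : rowsOK 64000 5875 = true :=
  rowsOK_join 64000 5750 125 69750 rfl grp4_45 rows_ok_558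

theorem grp4_47 : rowsOK 64000 6000 = true :=
  rowsOK_join 64000 5875 125 69875 rfl grp4_46 rows_ok_559

theorem grp4_48 : rowsOK 64000 6125 = true :=
  rowsOK_join 64000 6000 125 70000 rfl grp4_47 rows_ok_560

theorem grp4_49 : rowsOK 64000 6250 = true :=
  rowsOK_join 64000 6125 125 70125 rfl grp4_48 rows_ok_561

theorem grp4_50 : rowsOK 64000 6375 = true :=
  rowsOK_join 64000 6250 125 70250 rfl grp4_49 rows_ok_562

theorem grp4_51 : rowsOK 64000 6500 = true :=
  rowsOK_join 64000 6375 125 70375 rfl grp4_50 rows_ok_563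

theorem grp4_52 : rowsOK 64000 6625 = true :=
  rowsOK_join 64000 6500 125 70500 rfl grp4_51 rows_ok_564

theorem grp4_53 : rowsOK 64000 6750 = true :=
  rowsOK_join 64000 6625 125 70625 rfl grp4_52 rows_ok_565

theorem grp4_54 : rowsOK 64000 6875 = true :=
  rowsOK_join 64000 6750 125 70750 rfl grp4_53 rows_ok_566

theorem grp4_55 : rowsOK 64000 7000 = true :=
  rowsOK_join 64000 6875 125 70875 rfl grp4_54 rows_ok_567

theorem grp4_56 : rowsOK 64000 7125 = true :=
  rowsOK_join 64000 7000 125 71000 rfl grp4_55 rows_ok_568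

theorem grp4_57 : rowsOK 64000 7250 = true :=
  rowsOK_join 64000 7125 125 71125 rfl grp4_56 rows_ok_569

theorem grp4_58 : rowsOK 64000 7375 = true :=
  rowsOK_join 64000 7250 125 71250 rfl grp4_57 rows_ok_570

theorem grp4_59 : rowsOK 64000 7500 = true :=
  rowsOK_join 64000 7375 125 71375 rfl grp4_58 rows_ok_571

theorem grp4_60 : rowsOK 64000 7625 = true :=
  rowsOK_join 64000 7500 125 71500 rfl grp4_59 rows_ok_572

theorem grp4_61 : rowsOK 64000 7750 = true :=
  rowsOK_join 64000 7625 125 71625 rfl grp4_60 rows_ok_573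

theorem grp4_62 : rowsOK 64000 7875 = true :=
  rowsOK_join 64000 7750 125 71750 rfl grp4_61 rows_ok_574

theorem grp4_63 : rowsOK 64000 8000 = true :=
  rowsOK_join 64000 7875 125 71875 rfl grp4_62 rows_ok_575

theorem grp4_64 : rowsOK 64000 8125 = true :=
  rowsOK_join 64000 8000 125 72000 rfl grp4_63 rows_ok_576

theorem grp4_65 : rowsOK 64000 8250 = true :=
  rowsOK_join 64000 8125 125 72125 rfl grp4_64 rows_ok_577

theorem grp4_66 : rowsOK 64000 8375 = true :=
  rowsOK_join 64000 8250 125 72250 rfl grp4_65 rows_ok_578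

theorem grp4_67 : rowsOK 64000 8500 = true :=
  rowsOK_join 64000 8375 125 72375 rfl grp4_66 rows_ok_579

theorem grp4_68 : rowsOK 64000 8625 = true :=
  rowsOK_join 64000 8500 125 72500 rfl grp4_67 rows_ok_580

theorem grp4_69 : rowsOK 64000 8750 = true :=
  rowsOK_join 64000 8625 125 72625 rfl grp4_68 rows_ok_581

theorem grp4_70 : rowsOK 64000 8875 = true :=
  rowsOK_join 64000 8750 125 72750 rfl grp4_69 rows_ok_582

theorem grp4_71 : rowsOK 64000 9000 = true :=
  rowsOK_join 64000 8875 125 72875 rfl grp4_70 rows_ok_583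

theorem grp4_72 : rowsOK 64000 9125 = true :=
  rowsOK_join 64000 9000 125 73000 rfl grp4_71 rows_ok_584

theorem grp4_73 : rowsOK 64000 9250 = true :=
  rowsOK_join 64000 9125 125 73125 rfl grp4_72 rows_ok_585

theorem grp4_74 : rowsOK 64000 9375 = true :=
  rowsOK_join 64000 9250 125 73250 rfl grp4_73 rows_ok_586

theorem grp4_75 : rowsOK 64000 9500 = true :=
  rowsOK_join 64000 9375 125 73375 rfl grp4_74 rows_ok_587

theorem grp4_76 : rowsOK 64000 9625 = true :=
  rowsOK_join 64000 9500 125 73500 rfl grp4_75 rows_ok_588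

theorem grp4_77 : rowsOK 64000 9750 = true :=
  rowsOK_join 64000 9625 125 73625 rfl grp4_76 rows_ok_589

theorem grp4_78 : rowsOK 64000 9875 = true :=
  rowsOK_join 64000 9750 125 73750 rfl grp4_77 rows_ok_590

theorem grp4_79 : rowsOK 64000 10000 = true :=
  rowsOK_join 64000 9875 125 73875 rfl grp4_78 rows_ok_591

theorem grp4_80 : rowsOK 64000 10125 = true :=
  rowsOK_join 64000 10000 125 74000 rfl grp4_79 rows_ok_592

theorem grp4_81 : rowsOK 64000 10250 = true :=
  rowsOK_join 64000 10125 125 74125 rfl grp4_80 rows_ok_593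

theorem grp4_82 : rowsOK 64000 10375 = true :=
  rowsOK_join 64000 10250 125 74250 rfl grp4_81 rows_ok_594

theorem grp4_83 : rowsOK 64000 10500 = true :=
  rowsOK_join 64000 10375 125 74375 rfl grp4_82 rows_ok_595

theorem grp4_84 : rowsOK 64000 10625 = true :=
  rowsOK_join 64000 10500 125 74500 rfl grp4_83 rows_ok_596

theorem grp4_85 : rowsOK 64000 10750 = true :=
  rowsOK_join 64000 10625 125 74625 rfl grp4_84 rows_ok_597

theorem grp4_86 : rowsOK 64000 10875 = true :=
  rowsOK_join 64000 10750 125 74750 rfl grp4_85 rows_ok_598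

theorem grp4_87 : rowsOK 64000 11000 = true :=
  rowsOK_join 64000 10875 125 74875 rfl grp4_86 rows_ok_599

theorem grp4_88 : rowsOK 64000 11125 = true :=
  rowsOK_join 64000 11000 125 75000 rfl grp4_87 rows_ok_600

theorem grp4_89 : rowsOK 64000 11250 = true :=
  rowsOK_join 64000 11125 125 75125 rfl grp4_88 rows_ok_601

theorem grp4_90 : rowsOK 64000 11375 = true :=
  rowsOK_join 64000 11250 125 75250 rfl grp4_89 rows_ok_602

theorem grp4_91 : rowsOK 64000 11500 = true :=
  rowsOK_join 64000 11375 125 75375 rfl grp4_90 rows_ok_603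

theorem grp4_92 : rowsOK 64000 11625 = true :=
  rowsOK_join 64000 11500 125 75500 rfl grp4_91 rows_ok_604

theorem grp4_93 : rowsOK 64000 11750 = true :=
  rowsOK_join 64000 11625 125 75625 rfl grp4_92 rows_ok_605

theorem grp4_94 : rowsOK 64000 11875 = true :=
  rowsOK_join 64000 11750 125 75750 rfl grp4_93 rows_ok_606

theorem grp4_95 : rowsOK 64000 12000 = true :=
  rowsOK_join 64000 11875 125 75875 rfl grp4_94 rows_ok_607

theorem grp4_96 : rowsOK 64000 12125 = true :=
  rowsOK_join 64000 12000 125 76000 rfl grp4_95 rows_ok_608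

theorem grp4_97 : rowsOK 64000 12250 = true :=
  rowsOK_join 64000 12125 125 76125 rfl grp4_96 rows_ok_609

theorem grp4_98 : rowsOK 64000 12375 = true :=
  rowsOK_join 64000 12250 125 76250 rfl grp4_97 rows_ok_610

theorem grp4_99 : rowsOK 64000 12500 = true :=
  rowsOK_join 64000 12375 125 76375 rfl grp4_98 rows_ok_611

theorem grp4_100 : rowsOK 64000 12625 = true :=
  rowsOK_join 64000 12500 125 76500 rfl grp4_99 rows_ok_612

theorem grp4_101 : rowsOK 64000 12750 = true :=
  rowsOK_join 64000 12625 125 76625 rfl grp4_100 rows_ok_613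

theorem grp4_102 : rowsOK 64000 12875 = true :=
  rowsOK_join 64000 12750 125 76750 rfl grp4_101 rows_ok_614

theorem grp4_103 : rowsOK 64000 13000 = true :=
  rowsOK_join 64000 12875 125 76875 rfl grp4_102 rows_ok_615

theorem grp4_104 : rowsOK 64000 13125 = true :=
  rowsOK_join 64000 13000 125 77000 rfl grp4_103 rows_ok_616

theorem grp4_105 : rowsOK 64000 13250 = true :=
  rowsOK_join 64000 13125 125 77125 rfl grp4_104 rows_ok_617

theorem grp4_106 : rowsOK 64000 13375 = true :=
  rowsOK_join 64000 13250 125 77250 rfl grp4_105 rows_ok_618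

theorem grp4_107 : rowsOK 64000 13500 = true :=
  rowsOK_join 64000 13375 125 77375 rfl grp4_106 rows_ok_619

theorem grp4_108 : rowsOK 64000 13625 = true :=
  rowsOK_join 64000 13500 125 77500 rfl grp4_107 rows_ok_620

theorem grp4_109 : rowsOK 64000 13750 = true :=
  rowsOK_join 64000 13625 125 77625 rfl grp4_108 rows_ok_621

theorem grp4_110 : rowsOK 64000 13875 = true :=
  rowsOK_join 64000 13750 125 77750 rfl grp4_109 rows_ok_622

theorem grp4_111 : rowsOK 64000 14000 = true :=
  rowsOK_join 64000 13875 125 77875 rfl grp4_110 rows_ok_623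

theorem grp4_112 : rowsOK 64000 14125 = true :=
  rowsOK_join 64000 14000 125 78000 rfl grp4_111 rows_ok_624

theorem grp4_113 : rowsOK 64000 14250 = true :=
  rowsOK_join 64000 14125 125 78125 rfl grp4_112 rows_ok_625

theorem grp4_114 : rowsOK 64000 14375 = true :=
  rowsOK_join 64000 14250 125 78250 rfl grp4_113 rows_ok_626

theorem grp4_115 : rowsOK 64000 14500 = true :=
  rowsOK_join 64000 14375 125 78375 rfl grp4_114 rows_ok_627

theorem grp4_116 : rowsOK 64000 14625 = true :=
  rowsOK_join 64000 14500 125 78500 rfl grp4_115 rows_ok_628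

theorem grp4_117 : rowsOK 64000 14750 = true :=
  rowsOK_join 64000 14625 125 78625 rfl grp4_116 rows_ok_629

theorem grp4_118 : rowsOK 64000 14875 = true :=
  rowsOK_join 64000 14750 125 78750 rfl grp4_117 rows_ok_630

theorem grp4_119 : rowsOK 64000 15000 = true :=
  rowsOK_join 64000 14875 125 78875 rfl grp4_118 rows_ok_631

theorem grp4_120 : rowsOK 64000 15125 = true :=
  rowsOK_join 64000 15000 125 79000 rfl grp4_119 rows_ok_632

theorem grp4_121 : rowsOK 64000 15250 = true :=
  rowsOK_join 64000 15125 125 79125 rfl grp4_120 rows_ok_633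

theorem grp4_122 : rowsOK 64000 15375 = true :=
  rowsOK_join 64000 15250 125 79250 rfl grp4_121 rows_ok_634

theorem grp4_123 : rowsOK 64000 15500 = true :=
  rowsOK_join 64000 15375 125 79375 rfl grp4_122 rows_ok_635

theorem grp4_124 : rowsOK 64000 15625 = true :=
  rowsOK_join 64000 15500 125 79500 rfl grp4_123 rows_ok_636

theorem grp4_125 : rowsOK 64000 15750 = true :=
  rowsOK_join 64000 15625 125 79625 rfl grp4_124 rows_ok_637

theorem grp4_126 : rowsOK 64000 15875 = true :=
  rowsOK_join 64000 15750 125 79750 rfl grp4_125 rows_ok_638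

theorem rows_ok_grp_4 : rowsOK 64000 16000 = true :=
  rowsOK_join 64000 15875 125 79875 rfl grp4_126 rows_ok_639

end Cfsg.Agent.Lib.Helper7.Fi24L
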