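import Cfsg.Agent.Lib.Helper7.Fi24LC

/-! # The multiplier of the Fischer group Fi₂₄′, a threefold cover of a permutation representation of the presented group Fi₂₄: the check of the relators at a part of the rows (generated) -/

set_option autoImplicit false
set_option maxRecDepth 100000
set_option maxHeartbeats 0

namespace Cfsg.Agent.Lib.Helper7.Fi24L

theorem rows_ok_720 : rowsOK 90000 125 = true := by decide +kernel

theorem rows_ok_721 : rowsOK 90125 125 = true := by decide +kernel

theorem rows_ok_722 : rowsOK 90250 125 = true := by decide +kernel

theorem rows_ok_723 : rowsOK 90375 125 = true := by decide +kernel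

theorem rows_ok_724 : rowsOK 90500 125 = true := by decide +kernel

theorem rows_ok_725 : rowsOK 90625 125 = true := by decide +kernel

theorem rows_ok_726 : rowsOK 90750 125 = true := by decide +kernel

theorem rows_ok_727 : rowsOK 90875 125 = true := by decide +kernel

end Cfsg.Agent.Lib.Helper7.Fi24L
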