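import Cfsg.Agent.Lib.Helper7.Fi24LK80
import Cfsg.Agent.Lib.Helper7.Fi24LK81
import Cfsg.Agent.Lib.Helper7.Fi24LK82
import Cfsg.Agent.Lib.Helper7.Fi24LK83
import Cfsg.Agent.Lib.Helper7.Fi24LK84
import Cfsg.Agent.Lib.Helper7.Fi24LK85
import Cfsg.Agent.Lib.Helper7.Fi24LK86
import Cfsg.Agent.Lib.Helper7.Fi24LK87
import Cfsg.Agent.Lib.Helper7.Fi24LK88
import Cfsg.Agent.Lib.Helper7.Fi24LK89
import Cfsg.Agent.Lib.Helper7.Fi24LK90
import Cfsg.Agent.Lib.Helper7.Fi24LK91
import Cfsg.Agent.Lib.Helper7.Fi24LK92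
import Cfsg.Agent.Lib.Helper7.Fi24LK93
import Cfsg.Agent.Lib.Helper7.Fi24LK94
import Cfsg.Agent.Lib.Helper7.Fi24LK95
import Cfsg.Agent.Lib.Helper7.Fi24LE

/-! # The multiplier of the Fischer group Fi₂₄′, a threefold cover of a permutation representation of the presented group Fi₂₄: the checks of a part of the rows are joined (generated) -/

set_option autoImplicit false
set_option maxRecDepth 100000

namespace Cfsg.Agent.Lib.Helper7.Fi24L

theorem grp5_1 : rowsOK 80000 250 = true :=
  rowsOK_join 80000 125 125 80125 rfl rows_ok_640 rows_ok_641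

theorem grp5_2 : rowsOK 80000 375 = true :=
  rowsOK_join 80000 250 125 80250 rfl grp5_1 rows_ok_642

theorem grp5_3 : rowsOK 80000 500 = true :=
  rowsOK_join 80000 375 125 80375 rfl grp5_2 rows_ok_643

theorem grp5_4 : rowsOK 80000 625 = true :=
  rowsOK_join 80000 500 125 80500 rfl grp5_3 rows_ok_644

theorem grp5_5 : rowsOK 80000 750 = true :=
  rowsOK_join 80000 625 125 80625 rfl grp5_4 rows_ok_645

theorem grp5_6 : rowsOK 80000 875 = true :=
  rowsOK_join 80000 750 125 80750 rfl grp5_5 rows_ok_646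

theorem grp5_7 : rowsOK 80000 1000 = true :=
  rowsOK_join 80000 875 125 80875 rfl grp5_6 rows_ok_647

theorem grp5_8 : rowsOK 80000 1125 = true :=
  rowsOK_join 80000 1000 125 81000 rfl grp5_7 rows_ok_648

theorem grp5_9 : rowsOK 80000 1250 = true :=
  rowsOK_join 80000 1125 125 81125 rfl grp5_8 rows_ok_649

theorem grp5_10 : rowsOK 80000 1375 = true :=
  rowsOK_join 80000 1250 125 81250 rfl grp5_9 rows_ok_650

theorem grp5_11 : rowsOK 80000 1500 = true :=
  rowsOK_join 80000 1375 125 81375 rfl grp5_10 rows_ok_651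

theorem grp5_12 : rowsOK 80000 1625 = true :=
  rowsOK_join 80000 1500 125 81500 rfl grp5_11 rows_ok_652

theorem grp5_13 : rowsOK 80000 1750 = true :=
  rowsOK_join 80000 1625 125 81625 rfl grp5_12 rows_ok_653

theorem grp5_14 : rowsOK 80000 1875 = true :=
  rowsOK_join 80000 1750 125 81750 rfl grp5_13 rows_ok_654

theorem grp5_15 : rowsOK 80000 2000 = true :=
  rowsOK_join 80000 1875 125 81875 rfl grp5_14 rows_ok_655

theorem grp5_16 : rowsOK 80000 2125 = true :=
  rowsOK_join 80000 2000 125 82000 rfl grp5_15 rows_ok_656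

theorem grp5_17 : rowsOK 80000 2250 = true :=
  rowsOK_join 80000 2125 125 82125 rfl grp5_16 rows_ok_657

theorem grp5_18 : rowsOK 80000 2375 = true :=
  rowsOK_join 80000 2250 125 82250 rfl grp5_17 rows_ok_658

theorem grp5_19 : rowsOK 80000 2500 = true :=
  rowsOK_join 80000 2375 125 82375 rfl grp5_18 rows_ok_659

theorem grp5_20 : rowsOK 80000 2625 = true :=
  rowsOK_join 80000 2500 125 82500 rfl grp5_19 rows_ok_660

theorem grp5_21 : rowsOK 80000 2750 = true :=
  rowsOK_join 80000 2625 125 82625 rfl grp5_20 rows_ok_661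

theorem grp5_22 : rowsOK 80000 2875 = true :=
  rowsOK_join 80000 2750 125 82750 rfl grp5_21 rows_ok_662

theorem grp5_23 : rowsOK 80000 3000 = true :=
  rowsOK_join 80000 2875 125 82875 rfl grp5_22 rows_ok_663

theorem grp5_24 : rowsOK 80000 3125 = true :=
  rowsOK_join 80000 3000 125 83000 rfl grp5_23 rows_ok_664

theorem grp5_25 : rowsOK 80000 3250 = true :=
  rowsOK_join 80000 3125 125 83125 rfl grp5_24 rows_ok_665

theorem grp5_26 : rowsOK 80000 3375 = true :=
  rowsOK_join 80000 3250 125 83250 rfl grp5_25 rows_ok_666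

theorem grp5_27 : rowsOK 80000 3500 = true :=
  rowsOK_join 80000 3375 125 83375 rfl grp5_26 rows_ok_667

theorem grp5_28 : rowsOK 80000 3625 = true :=
  rowsOK_join 80000 3500 125 83500 rfl grp5_27 rows_ok_668

theorem grp5_29 : rowsOK 80000 3750 = true :=
  rowsOK_join 80000 3625 125 83625 rfl grp5_28 rows_ok_669

theorem grp5_30 : rowsOK 80000 3875 = true :=
  rowsOK_join 80000 3750 125 83750 rfl grp5_29 rows_ok_670

theorem grp5_31 : rowsOK 80000 4000 = true :=
  rowsOK_join 80000 3875 125 83875 rfl grp5_30 rows_ok_671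

theorem grp5_32 : rowsOK 80000 4125 = true :=
  rowsOK_join 80000 4000 125 84000 rfl grp5_31 rows_ok_672

theorem grp5_33 : rowsOK 80000 4250 = true :=
  rowsOK_join 80000 4125 125 84125 rfl grp5_32 rows_ok_673

theorem grp5_34 : rowsOK 80000 4375 = true :=
  rowsOK_join 80000 4250 125 84250 rfl grp5_33 rows_ok_674

theorem grp5_35 : rowsOK 80000 4500 = true :=
  rowsOK_join 80000 4375 125 84375 rfl grp5_34 rows_ok_675

theorem grp5_36 : rowsOK 80000 4625 = true :=
  rowsOK_join 80000 4500 125 84500 rfl grp5_35 rows_ok_676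

theorem grp5_37 : rowsOK 80000 4750 = true :=
  rowsOK_join 80000 4625 125 84625 rfl grp5_36 rows_ok_677

theorem grp5_38 : rowsOK 80000 4875 = true :=
  rowsOK_join 80000 4750 125 84750 rfl grp5_37 rows_ok_678

theorem grp5_39 : rowsOK 80000 5000 = true :=
  rowsOK_join 80000 4875 125 84875 rfl grp5_38 rows_ok_679

theorem grp5_40 : rowsOK 80000 5125 = true :=
  rowsOK_join 80000 5000 125 85000 rfl grp5_39 rows_ok_680

theorem grp5_41 : rowsOK 80000 5250 = true :=
  rowsOK_join 80000 5125 125 85125 rfl grp5_40 rows_ok_681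

theorem grp5_42 : rowsOK 80000 5375 = true :=
  rowsOK_join 80000 5250 125 85250 rfl grp5_41 rows_ok_682

theorem grp5_43 : rowsOK 80000 5500 = true :=
  rowsOK_join 80000 5375 125 85375 rfl grp5_42 rows_ok_683

theorem grp5_44 : rowsOK 80000 5625 = true :=
  rowsOK_join 80000 5500 125 85500 rfl grp5_43 rows_ok_684

theorem grp5_45 : rowsOK 80000 5750 = true :=
  rowsOK_join 80000 5625 125 85625 rfl grp5_44 rows_ok_685

theorem grp5_46 : rowsOK 80000 5875 = true :=
  rowsOK_join 80000 5750 125 85750 rfl grp5_45 rows_ok_686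

theorem grp5_47 : rowsOK 80000 6000 = true :=
  rowsOK_join 80000 5875 125 85875 rfl grp5_46 rows_ok_687

theorem grp5_48 : rowsOK 80000 6125 = true :=
  rowsOK_join 80000 6000 125 86000 rfl grp5_47 rows_ok_688

theorem grp5_49 : rowsOK 80000 6250 = true :=
  rowsOK_join 80000 6125 125 86125 rfl grp5_48 rows_ok_689

theorem grp5_50 : rowsOK 80000 6375 = true :=
  rowsOK_join 80000 6250 125 86250 rfl grp5_49 rows_ok_690

theorem grp5_51 : rowsOK 80000 6500 = true :=
  rowsOK_join 80000 6375 125 86375 rfl grp5_50 rows_ok_691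

theorem grp5_52 : rowsOK 80000 6625 = true :=
  rowsOK_join 80000 6500 125 86500 rfl grp5_51 rows_ok_692

theorem grp5_53 : rowsOK 80000 6750 = true :=
  rowsOK_join 80000 6625 125 86625 rfl grp5_52 rows_ok_693

theorem grp5_54 : rowsOK 80000 6875 = true :=
  rowsOK_join 80000 6750 125 86750 rfl grp5_53 rows_ok_694

theorem grp5_55 : rowsOK 80000 7000 = true :=
  rowsOK_join 80000 6875 125 86875 rfl grp5_54 rows_ok_695

theorem grp5_56 : rowsOK 80000 7125 = true :=
  rowsOK_join 80000 7000 125 87000 rfl grp5_55 rows_ok_696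

theorem grp5_57 : rowsOK 80000 7250 = true :=
  rowsOK_join 80000 7125 125 87125 rfl grp5_56 rows_ok_697

theorem grp5_58 : rowsOK 80000 7375 = true :=
  rowsOK_join 80000 7250 125 87250 rfl grp5_57 rows_ok_698

theorem grp5_59 : rowsOK 80000 7500 = true :=
  rowsOK_join 80000 7375 125 87375 rfl grp5_58 rows_ok_699

theorem grp5_60 : rowsOK 80000 7625 = true :=
  rowsOK_join 80000 7500 125 87500 rfl grp5_59 rows_ok_700

theorem grp5_61 : rowsOK 80000 7750 = true :=
  rowsOK_join 80000 7625 125 87625 rfl grp5_60 rows_ok_701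

theorem grp5_62 : rowsOK 80000 7875 = true :=
  rowsOK_join 80000 7750 125 87750 rfl grp5_61 rows_ok_702

theorem grp5_63 : rowsOK 80000 8000 = true :=
  rowsOK_join 80000 7875 125 87875 rfl grp5_62 rows_ok_703

theorem grp5_64 : rowsOK 80000 8125 = true :=
  rowsOK_join 80000 8000 125 88000 rfl grp5_63 rows_ok_704

theorem grp5_65 : rowsOK 80000 8250 = true :=
  rowsOK_join 80000 8125 125 88125 rfl grp5_64 rows_ok_705

theorem grp5_66 : rowsOK 80000 8375 = true :=
  rowsOK_join 80000 8250 125 88250 rfl grp5_65 rows_ok_706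

theorem grp5_67 : rowsOK 80000 8500 = true :=
  rowsOK_join 80000 8375 125 88375 rfl grp5_66 rows_ok_707

theorem grp5_68 : rowsOK 80000 8625 = true :=
  rowsOK_join 80000 8500 125 88500 rfl grp5_67 rows_ok_708

theorem grp5_69 : rowsOK 80000 8750 = true :=
  rowsOK_join 80000 8625 125 88625 rfl grp5_68 rows_ok_709

theorem grp5_70 : rowsOK 80000 8875 = true :=
  rowsOK_join 80000 8750 125 88750 rfl grp5_69 rows_ok_710

theorem grp5_71 : rowsOK 80000 9000 = true :=
  rowsOK_join 80000 8875 125 88875 rfl grp5_70 rows_ok_711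

theorem grp5_72 : rowsOK 80000 9125 = true :=
  rowsOK_join 80000 9000 125 89000 rfl grp5_71 rows_ok_712

theorem grp5_73 : rowsOK 80000 9250 = true :=
  rowsOK_join 80000 9125 125 89125 rfl grp5_72 rows_ok_713

theorem grp5_74 : rowsOK 80000 9375 = true :=
  rowsOK_join 80000 9250 125 89250 rfl grp5_73 rows_ok_714

theorem grp5_75 : rowsOK 80000 9500 = true :=
  rowsOK_join 80000 9375 125 89375 rfl grp5_74 rows_ok_715

theorem grp5_76 : rowsOK 80000 9625 = true :=
  rowsOK_join 80000 9500 125 89500 rfl grp5_75 rows_ok_716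

theorem grp5_77 : rowsOK 80000 9750 = true :=
  rowsOK_join 80000 9625 125 89625 rfl grp5_76 rows_ok_717

theorem grp5_78 : rowsOK 80000 9875 = true :=
  rowsOK_join 80000 9750 125 89750 rfl grp5_77 rows_ok_718

theorem grp5_79 : rowsOK 80000 10000 = true :=
  rowsOK_join 80000 9875 125 89875 rfl grp5_78 rows_ok_719

theorem grp5_80 : rowsOK 80000 10125 = true :=
  rowsOK_join 80000 10000 125 90000 rfl grp5_79 rows_ok_720

theorem grp5_81 : rowsOK 80000 10250 = true :=
  rowsOK_join 80000 10125 125 90125 rfl grp5_80 rows_ok_721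

theorem grp5_82 : rowsOK 80000 10375 = true :=
  rowsOK_join 80000 10250 125 90250 rfl grp5_81 rows_ok_722

theorem grp5_83 : rowsOK 80000 10500 = true :=
  rowsOK_join 80000 10375 125 90375 rfl grp5_82 rows_ok_723

theorem grp5_84 : rowsOK 80000 10625 = true :=
  rowsOK_join 80000 10500 125 90500 rfl grp5_83 rows_ok_724

theorem grp5_85 : rowsOK 80000 10750 = true :=
  rowsOK_join 80000 10625 125 90625 rfl grp5_84 rows_ok_725

theorem grp5_86 : rowsOK 80000 10875 = true :=
  rowsOK_join 80000 10750 125 90750 rfl grp5_85 rows_ok_726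

theorem grp5_87 : rowsOK 80000 11000 = true :=
  rowsOK_join 80000 10875 125 90875 rfl grp5_86 rows_ok_727

theorem grp5_88 : rowsOK 80000 11125 = true :=
  rowsOK_join 80000 11000 125 91000 rfl grp5_87 rows_ok_728

theorem grp5_89 : rowsOK 80000 11250 = true :=
  rowsOK_join 80000 11125 125 91125 rfl grp5_88 rows_ok_729

theorem grp5_90 : rowsOK 80000 11375 = true :=
  rowsOK_join 80000 11250 125 91250 rfl grp5_89 rows_ok_730

theorem grp5_91 : rowsOK 80000 11500 = true :=
  rowsOK_join 80000 11375 125 91375 rfl grp5_90 rows_ok_731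

theorem grp5_92 : rowsOK 80000 11625 = true :=
  rowsOK_join 80000 11500 125 91500 rfl grp5_91 rows_ok_732

theorem grp5_93 : rowsOK 80000 11750 = true :=
  rowsOK_join 80000 11625 125 91625 rfl grp5_92 rows_ok_733

theorem grp5_94 : rowsOK 80000 11875 = true :=
  rowsOK_join 80000 11750 125 91750 rfl grp5_93 rows_ok_734

theorem grp5_95 : rowsOK 80000 12000 = true :=
  rowsOK_join 80000 11875 125 91875 rfl grp5_94 rows_ok_735

theorem grp5_96 : rowsOK 80000 12125 = true :=
  rowsOK_join 80000 12000 125 92000 rfl grp5_95 rows_ok_736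

theorem grp5_97 : rowsOK 80000 12250 = true :=
  rowsOK_join 80000 12125 125 92125 rfl grp5_96 rows_ok_737

theorem grp5_98 : rowsOK 80000 12375 = true :=
  rowsOK_join 80000 12250 125 92250 rfl grp5_97 rows_ok_738

theorem grp5_99 : rowsOK 80000 12500 = true :=
  rowsOK_join 80000 12375 125 92375 rfl grp5_98 rows_ok_739

theorem grp5_100 : rowsOK 80000 12625 = true :=
  rowsOK_join 80000 12500 125 92500 rfl grp5_99 rows_ok_740

theorem grp5_101 : rowsOK 80000 12750 = true :=
  rowsOK_join 80000 12625 125 92625 rfl grp5_100 rows_ok_741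

theorem grp5_102 : rowsOK 80000 12875 = true :=
  rowsOK_join 80000 12750 125 92750 rfl grp5_101 rows_ok_742

theorem grp5_103 : rowsOK 80000 13000 = true :=
  rowsOK_join 80000 12875 125 92875 rfl grp5_102 rows_ok_743

theorem grp5_104 : rowsOK 80000 13125 = true :=
  rowsOK_join 80000 13000 125 93000 rfl grp5_103 rows_ok_744

theorem grp5_105 : rowsOK 80000 13250 = true :=
  rowsOK_join 80000 13125 125 93125 rfl grp5_104 rows_ok_745

theorem grp5_106 : rowsOK 80000 13375 = true :=
  rowsOK_join 80000 13250 125 93250 rfl grp5_105 rows_ok_746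

theorem grp5_107 : rowsOK 80000 13500 = true :=
  rowsOK_join 80000 13375 125 93375 rfl grp5_106 rows_ok_747

theorem grp5_108 : rowsOK 80000 13625 = true :=
  rowsOK_join 80000 13500 125 93500 rfl grp5_107 rows_ok_748

theorem grp5_109 : rowsOK 80000 13750 = true :=
  rowsOK_join 80000 13625 125 93625 rfl grp5_108 rows_ok_749

theorem grp5_110 : rowsOK 80000 13875 = true :=
  rowsOK_join 80000 13750 125 93750 rfl grp5_109 rows_ok_750

theorem grp5_111 : rowsOK 80000 14000 = true :=
  rowsOK_join 80000 13875 125 93875 rfl grp5_110 rows_ok_751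

theorem grp5_112 : rowsOK 80000 14125 = true :=
  rowsOK_join 80000 14000 125 94000 rfl grp5_111 rows_ok_752

theorem grp5_113 : rowsOK 80000 14250 = true :=
  rowsOK_join 80000 14125 125 94125 rfl grp5_112 rows_ok_753

theorem grp5_114 : rowsOK 80000 14375 = true :=
  rowsOK_join 80000 14250 125 94250 rfl grp5_113 rows_ok_754

theorem grp5_115 : rowsOK 80000 14500 = true :=
  rowsOK_join 80000 14375 125 94375 rfl grp5_114 rows_ok_755

theorem grp5_116 : rowsOK 80000 14625 = true :=
  rowsOK_join 80000 14500 125 94500 rfl grp5_115 rows_ok_756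

theorem grp5_117 : rowsOK 80000 14750 = true :=
  rowsOK_join 80000 14625 125 94625 rfl grp5_116 rows_ok_757

theorem grp5_118 : rowsOK 80000 14875 = true :=
  rowsOK_join 80000 14750 125 94750 rfl grp5_117 rows_ok_758

theorem grp5_119 : rowsOK 80000 15000 = true :=
  rowsOK_join 80000 14875 125 94875 rfl grp5_118 rows_ok_759

theorem grp5_120 : rowsOK 80000 15125 = true :=
  rowsOK_join 80000 15000 125 95000 rfl grp5_119 rows_ok_760

theorem grp5_121 : rowsOK 80000 15250 = true :=
  rowsOK_join 80000 15125 125 95125 rfl grp5_120 rows_ok_761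

theorem grp5_122 : rowsOK 80000 15375 = true :=
  rowsOK_join 80000 15250 125 95250 rfl grp5_121 rows_ok_762

theorem grp5_123 : rowsOK 80000 15500 = true :=
  rowsOK_join 80000 15375 125 95375 rfl grp5_122 rows_ok_763

theorem grp5_124 : rowsOK 80000 15625 = true :=
  rowsOK_join 80000 15500 125 95500 rfl grp5_123 rows_ok_764

theorem grp5_125 : rowsOK 80000 15750 = true :=
  rowsOK_join 80000 15625 125 95625 rfl grp5_124 rows_ok_765

theorem grp5_126 : rowsOK 80000 15875 = true :=
  rowsOK_join 80000 15750 125 95750 rfl grp5_125 rows_ok_766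

theorem rows_ok_grp_5 : rowsOK 80000 16000 = true :=
  rowsOK_join 80000 15875 125 95875 rfl grp5_126 rows_ok_767

end Cfsg.Agent.Lib.Helper7.Fi24L
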