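import Cfsg.Agent.Lib.Helper7.Fi24LK96
import Cfsg.Agent.Lib.Helper7.Fi24LK97
import Cfsg.Agent.Lib.Helper7.Fi24LK98
import Cfsg.Agent.Lib.Helper7.Fi24LK99
import Cfsg.Agent.Lib.Helper7.Fi24LK100
import Cfsg.Agent.Lib.Helper7.Fi24LK101
import Cfsg.Agent.Lib.Helper7.Fi24LK102
import Cfsg.Agent.Lib.Helper7.Fi24LK103
import Cfsg.Agent.Lib.Helper7.Fi24LK104
import Cfsg.Agent.Lib.Helper7.Fi24LK105
import Cfsg.Agent.Lib.Helper7.Fi24LK106
import Cfsg.Agent.Lib.Helper7.Fi24LK107
import Cfsg.Agent.Lib.Helper7.Fi24LK108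
import Cfsg.Agent.Lib.Helper7.Fi24LK109
import Cfsg.Agent.Lib.Helper7.Fi24LK110
import Cfsg.Agent.Lib.Helper7.Fi24LK111
import Cfsg.Agent.Lib.Helper7.Fi24LE

/-! # The multiplier of the Fischer group Fi₂₄′, a threefold cover of a permutation representation of the presented group Fi₂₄: the checks of a part of the rows are joined (generated) -/

set_option autoImplicit false
set_option maxRecDepth 100000

namespace Cfsg.Agent.Lib.Helper7.Fi24L

theorem grp6_1 : rowsOK 96000 250 = true :=
  rowsOK_join 96000 125 125 96125 rfl rows_ok_768 rows_ok_769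

theorem grp6_2 : rowsOK 96000 375 = true :=
  rowsOK_join 96000 250 125 96250 rfl grp6_1 rows_ok_770

theorem grp6_3 : rowsOK 96000 500 = true :=
  rowsOK_join 96000 375 125 96375 rfl grp6_2 rows_ok_771

theorem grp6_4 : rowsOK 96000 625 = true :=
  rowsOK_join 96000 500 125 96500 rfl grp6_3 rows_ok_772

theorem grp6_5 : rowsOK 96000 750 = true :=
  rowsOK_join 96000 625 125 96625 rfl grp6_4 rows_ok_773

theorem grp6_6 : rowsOK 96000 875 = true :=
  rowsOK_join 96000 750 125 96750 rfl grp6_5 rows_ok_774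

theorem grp6_7 : rowsOK 96000 1000 = true :=
  rowsOK_join 96000 875 125 96875 rfl grp6_6 rows_ok_775

theorem grp6_8 : rowsOK 96000 1125 = true :=
  rowsOK_join 96000 1000 125 97000 rfl grp6_7 rows_ok_776

theorem grp6_9 : rowsOK 96000 1250 = true :=
  rowsOK_join 96000 1125 125 97125 rfl grp6_8 rows_ok_777

theorem grp6_10 : rowsOK 96000 1375 = true :=
  rowsOK_join 96000 1250 125 97250 rfl grp6_9 rows_ok_778

theorem grp6_11 : rowsOK 96000 1500 = true :=
  rowsOK_join 96000 1375 125 97375 rfl grp6_10 rows_ok_779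

theorem grp6_12 : rowsOK 96000 1625 = true :=
  rowsOK_join 96000 1500 125 97500 rfl grp6_11 rows_ok_780

theorem grp6_13 : rowsOK 96000 1750 = true :=
  rowsOK_join 96000 1625 125 97625 rfl grp6_12 rows_ok_781

theorem grp6_14 : rowsOK 96000 1875 = true :=
  rowsOK_join 96000 1750 125 97750 rfl grp6_13 rows_ok_782

theorem grp6_15 : rowsOK 96000 2000 = true :=
  rowsOK_join 96000 1875 125 97875 rfl grp6_14 rows_ok_783

theorem grp6_16 : rowsOK 96000 2125 = true :=
  rowsOK_join 96000 2000 125 98000 rfl grp6_15 rows_ok_784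

theorem grp6_17 : rowsOK 96000 2250 = true :=
  rowsOK_join 96000 2125 125 98125 rfl grp6_16 rows_ok_785

theorem grp6_18 : rowsOK 96000 2375 = true :=
  rowsOK_join 96000 2250 125 98250 rfl grp6_17 rows_ok_786

theorem grp6_19 : rowsOK 96000 2500 = true :=
  rowsOK_join 96000 2375 125 98375 rfl grp6_18 rows_ok_787

theorem grp6_20 : rowsOK 96000 2625 = true :=
  rowsOK_join 96000 2500 125 98500 rfl grp6_19 rows_ok_788

theorem grp6_21 : rowsOK 96000 2750 = true :=
  rowsOK_join 96000 2625 125 98625 rfl grp6_20 rows_ok_789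

theorem grp6_22 : rowsOK 96000 2875 = true :=
  rowsOK_join 96000 2750 125 98750 rfl grp6_21 rows_ok_790

theorem grp6_23 : rowsOK 96000 3000 = true :=
  rowsOK_join 96000 2875 125 98875 rfl grp6_22 rows_ok_791

theorem grp6_24 : rowsOK 96000 3125 = true :=
  rowsOK_join 96000 3000 125 99000 rfl grp6_23 rows_ok_792

theorem grp6_25 : rowsOK 96000 3250 = true :=
  rowsOK_join 96000 3125 125 99125 rfl grp6_24 rows_ok_793

theorem grp6_26 : rowsOK 96000 3375 = true :=
  rowsOK_join 96000 3250 125 99250 rfl grp6_25 rows_ok_794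

theorem grp6_27 : rowsOK 96000 3500 = true :=
  rowsOK_join 96000 3375 125 99375 rfl grp6_26 rows_ok_795

theorem grp6_28 : rowsOK 96000 3625 = true :=
  rowsOK_join 96000 3500 125 99500 rfl grp6_27 rows_ok_796

theorem grp6_29 : rowsOK 96000 3750 = true :=
  rowsOK_join 96000 3625 125 99625 rfl grp6_28 rows_ok_797

theorem grp6_30 : rowsOK 96000 3875 = true :=
  rowsOK_join 96000 3750 125 99750 rfl grp6_29 rows_ok_798

theorem grp6_31 : rowsOK 96000 4000 = true :=
  rowsOK_join 96000 3875 125 99875 rfl grp6_30 rows_ok_799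

theorem grp6_32 : rowsOK 96000 4125 = true :=
  rowsOK_join 96000 4000 125 100000 rfl grp6_31 rows_ok_800

theorem grp6_33 : rowsOK 96000 4250 = true :=
  rowsOK_join 96000 4125 125 100125 rfl grp6_32 rows_ok_801

theorem grp6_34 : rowsOK 96000 4375 = true :=
  rowsOK_join 96000 4250 125 100250 rfl grp6_33 rows_ok_802

theorem grp6_35 : rowsOK 96000 4500 = true :=
  rowsOK_join 96000 4375 125 100375 rfl grp6_34 rows_ok_803

theorem grp6_36 : rowsOK 96000 4625 = true :=
  rowsOK_join 96000 4500 125 100500 rfl grp6_35 rows_ok_804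

theorem grp6_37 : rowsOK 96000 4750 = true :=
  rowsOK_join 96000 4625 125 100625 rfl grp6_36 rows_ok_805

theorem grp6_38 : rowsOK 96000 4875 = true :=
  rowsOK_join 96000 4750 125 100750 rfl grp6_37 rows_ok_806

theorem grp6_39 : rowsOK 96000 5000 = true :=
  rowsOK_join 96000 4875 125 100875 rfl grp6_38 rows_ok_807

theorem grp6_40 : rowsOK 96000 5125 = true :=
  rowsOK_join 96000 5000 125 101000 rfl grp6_39 rows_ok_808

theorem grp6_41 : rowsOK 96000 5250 = true :=
  rowsOK_join 96000 5125 125 101125 rfl grp6_40 rows_ok_809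

theorem grp6_42 : rowsOK 96000 5375 = true :=
  rowsOK_join 96000 5250 125 101250 rfl grp6_41 rows_ok_810

theorem grp6_43 : rowsOK 96000 5500 = true :=
  rowsOK_join 96000 5375 125 101375 rfl grp6_42 rows_ok_811

theorem grp6_44 : rowsOK 96000 5625 = true :=
  rowsOK_join 96000 5500 125 101500 rfl grp6_43 rows_ok_812

theorem grp6_45 : rowsOK 96000 5750 = true :=
  rowsOK_join 96000 5625 125 101625 rfl grp6_44 rows_ok_813

theorem grp6_46 : rowsOK 96000 5875 = true :=
  rowsOK_join 96000 5750 125 101750 rfl grp6_45 rows_ok_814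

theorem grp6_47 : rowsOK 96000 6000 = true :=
  rowsOK_join 96000 5875 125 101875 rfl grp6_46 rows_ok_815

theorem grp6_48 : rowsOK 96000 6125 = true :=
  rowsOK_join 96000 6000 125 102000 rfl grp6_47 rows_ok_816

theorem grp6_49 : rowsOK 96000 6250 = true :=
  rowsOK_join 96000 6125 125 102125 rfl grp6_48 rows_ok_817

theorem grp6_50 : rowsOK 96000 6375 = true :=
  rowsOK_join 96000 6250 125 102250 rfl grp6_49 rows_ok_818

theorem grp6_51 : rowsOK 96000 6500 = true :=
  rowsOK_join 96000 6375 125 102375 rfl grp6_50 rows_ok_819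

theorem grp6_52 : rowsOK 96000 6625 = true :=
  rowsOK_join 96000 6500 125 102500 rfl grp6_51 rows_ok_820

theorem grp6_53 : rowsOK 96000 6750 = true :=
  rowsOK_join 96000 6625 125 102625 rfl grp6_52 rows_ok_821

theorem grp6_54 : rowsOK 96000 6875 = true :=
  rowsOK_join 96000 6750 125 102750 rfl grp6_53 rows_ok_822

theorem grp6_55 : rowsOK 96000 7000 = true :=
  rowsOK_join 96000 6875 125 102875 rfl grp6_54 rows_ok_823

theorem grp6_56 : rowsOK 96000 7125 = true :=
  rowsOK_join 96000 7000 125 103000 rfl grp6_55 rows_ok_824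

theorem grp6_57 : rowsOK 96000 7250 = true :=
  rowsOK_join 96000 7125 125 103125 rfl grp6_56 rows_ok_825

theorem grp6_58 : rowsOK 96000 7375 = true :=
  rowsOK_join 96000 7250 125 103250 rfl grp6_57 rows_ok_826

theorem grp6_59 : rowsOK 96000 7500 = true :=
  rowsOK_join 96000 7375 125 103375 rfl grp6_58 rows_ok_827

theorem grp6_60 : rowsOK 96000 7625 = true :=
  rowsOK_join 96000 7500 125 103500 rfl grp6_59 rows_ok_828

theorem grp6_61 : rowsOK 96000 7750 = true :=
  rowsOK_join 96000 7625 125 103625 rfl grp6_60 rows_ok_829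

theorem grp6_62 : rowsOK 96000 7875 = true :=
  rowsOK_join 96000 7750 125 103750 rfl grp6_61 rows_ok_830

theorem grp6_63 : rowsOK 96000 8000 = true :=
  rowsOK_join 96000 7875 125 103875 rfl grp6_62 rows_ok_831

theorem grp6_64 : rowsOK 96000 8125 = true :=
  rowsOK_join 96000 8000 125 104000 rfl grp6_63 rows_ok_832

theorem grp6_65 : rowsOK 96000 8250 = true :=
  rowsOK_join 96000 8125 125 104125 rfl grp6_64 rows_ok_833

theorem grp6_66 : rowsOK 96000 8375 = true :=
  rowsOK_join 96000 8250 125 104250 rfl grp6_65 rows_ok_834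

theorem grp6_67 : rowsOK 96000 8500 = true :=
  rowsOK_join 96000 8375 125 104375 rfl grp6_66 rows_ok_835

theorem grp6_68 : rowsOK 96000 8625 = true :=
  rowsOK_join 96000 8500 125 104500 rfl grp6_67 rows_ok_836

theorem grp6_69 : rowsOK 96000 8750 = true :=
  rowsOK_join 96000 8625 125 104625 rfl grp6_68 rows_ok_837

theorem grp6_70 : rowsOK 96000 8875 = true :=
  rowsOK_join 96000 8750 125 104750 rfl grp6_69 rows_ok_838

theorem grp6_71 : rowsOK 96000 9000 = true :=
  rowsOK_join 96000 8875 125 104875 rfl grp6_70 rows_ok_839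

theorem grp6_72 : rowsOK 96000 9125 = true :=
  rowsOK_join 96000 9000 125 105000 rfl grp6_71 rows_ok_840

theorem grp6_73 : rowsOK 96000 9250 = true :=
  rowsOK_join 96000 9125 125 105125 rfl grp6_72 rows_ok_841

theorem grp6_74 : rowsOK 96000 9375 = true :=
  rowsOK_join 96000 9250 125 105250 rfl grp6_73 rows_ok_842

theorem grp6_75 : rowsOK 96000 9500 = true :=
  rowsOK_join 96000 9375 125 105375 rfl grp6_74 rows_ok_843

theorem grp6_76 : rowsOK 96000 9625 = true :=
  rowsOK_join 96000 9500 125 105500 rfl grp6_75 rows_ok_844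

theorem grp6_77 : rowsOK 96000 9750 = true :=
  rowsOK_join 96000 9625 125 105625 rfl grp6_76 rows_ok_845

theorem grp6_78 : rowsOK 96000 9875 = true :=
  rowsOK_join 96000 9750 125 105750 rfl grp6_77 rows_ok_846

theorem grp6_79 : rowsOK 96000 10000 = true :=
  rowsOK_join 96000 9875 125 105875 rfl grp6_78 rows_ok_847

theorem grp6_80 : rowsOK 96000 10125 = true :=
  rowsOK_join 96000 10000 125 106000 rfl grp6_79 rows_ok_848

theorem grp6_81 : rowsOK 96000 10250 = true :=
  rowsOK_join 96000 10125 125 106125 rfl grp6_80 rows_ok_849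

theorem grp6_82 : rowsOK 96000 10375 = true :=
  rowsOK_join 96000 10250 125 106250 rfl grp6_81 rows_ok_850

theorem grp6_83 : rowsOK 96000 10500 = true :=
  rowsOK_join 96000 10375 125 106375 rfl grp6_82 rows_ok_851

theorem grp6_84 : rowsOK 96000 10625 = true :=
  rowsOK_join 96000 10500 125 106500 rfl grp6_83 rows_ok_852

theorem grp6_85 : rowsOK 96000 10750 = true :=
  rowsOK_join 96000 10625 125 106625 rfl grp6_84 rows_ok_853

theorem grp6_86 : rowsOK 96000 10875 = true :=
  rowsOK_join 96000 10750 125 106750 rfl grp6_85 rows_ok_854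

theorem grp6_87 : rowsOK 96000 11000 = true :=
  rowsOK_join 96000 10875 125 106875 rfl grp6_86 rows_ok_855

theorem grp6_88 : rowsOK 96000 11125 = true :=
  rowsOK_join 96000 11000 125 107000 rfl grp6_87 rows_ok_856

theorem grp6_89 : rowsOK 96000 11250 = true :=
  rowsOK_join 96000 11125 125 107125 rfl grp6_88 rows_ok_857

theorem grp6_90 : rowsOK 96000 11375 = true :=
  rowsOK_join 96000 11250 125 107250 rfl grp6_89 rows_ok_858

theorem grp6_91 : rowsOK 96000 11500 = true :=
  rowsOK_join 96000 11375 125 107375 rfl grp6_90 rows_ok_859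

theorem grp6_92 : rowsOK 96000 11625 = true :=
  rowsOK_join 96000 11500 125 107500 rfl grp6_91 rows_ok_860

theorem grp6_93 : rowsOK 96000 11750 = true :=
  rowsOK_join 96000 11625 125 107625 rfl grp6_92 rows_ok_861

theorem grp6_94 : rowsOK 96000 11875 = true :=
  rowsOK_join 96000 11750 125 107750 rfl grp6_93 rows_ok_862

theorem grp6_95 : rowsOK 96000 12000 = true :=
  rowsOK_join 96000 11875 125 107875 rfl grp6_94 rows_ok_863

theorem grp6_96 : rowsOK 96000 12125 = true :=
  rowsOK_join 96000 12000 125 108000 rfl grp6_95 rows_ok_864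

theorem grp6_97 : rowsOK 96000 12250 = true :=
  rowsOK_join 96000 12125 125 108125 rfl grp6_96 rows_ok_865

theorem grp6_98 : rowsOK 96000 12375 = true :=
  rowsOK_join 96000 12250 125 108250 rfl grp6_97 rows_ok_866

theorem grp6_99 : rowsOK 96000 12500 = true :=
  rowsOK_join 96000 12375 125 108375 rfl grp6_98 rows_ok_867

theorem grp6_100 : rowsOK 96000 12625 = true :=
  rowsOK_join 96000 12500 125 108500 rfl grp6_99 rows_ok_868

theorem grp6_101 : rowsOK 96000 12750 = true :=
  rowsOK_join 96000 12625 125 108625 rfl grp6_100 rows_ok_869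

theorem grp6_102 : rowsOK 96000 12875 = true :=
  rowsOK_join 96000 12750 125 108750 rfl grp6_101 rows_ok_870

theorem grp6_103 : rowsOK 96000 13000 = true :=
  rowsOK_join 96000 12875 125 108875 rfl grp6_102 rows_ok_871

theorem grp6_104 : rowsOK 96000 13125 = true :=
  rowsOK_join 96000 13000 125 109000 rfl grp6_103 rows_ok_872

theorem grp6_105 : rowsOK 96000 13250 = true :=
  rowsOK_join 96000 13125 125 109125 rfl grp6_104 rows_ok_873

theorem grp6_106 : rowsOK 96000 13375 = true :=
  rowsOK_join 96000 13250 125 109250 rfl grp6_105 rows_ok_874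

theorem grp6_107 : rowsOK 96000 13500 = true :=
  rowsOK_join 96000 13375 125 109375 rfl grp6_106 rows_ok_875

theorem grp6_108 : rowsOK 96000 13625 = true :=
  rowsOK_join 96000 13500 125 109500 rfl grp6_107 rows_ok_876

theorem grp6_109 : rowsOK 96000 13750 = true :=
  rowsOK_join 96000 13625 125 109625 rfl grp6_108 rows_ok_877

theorem grp6_110 : rowsOK 96000 13875 = true :=
  rowsOK_join 96000 13750 125 109750 rfl grp6_109 rows_ok_878

theorem grp6_111 : rowsOK 96000 14000 = true :=
  rowsOK_join 96000 13875 125 109875 rfl grp6_110 rows_ok_879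

theorem grp6_112 : rowsOK 96000 14125 = true :=
  rowsOK_join 96000 14000 125 110000 rfl grp6_111 rows_ok_880

theorem grp6_113 : rowsOK 96000 14250 = true :=
  rowsOK_join 96000 14125 125 110125 rfl grp6_112 rows_ok_881

theorem grp6_114 : rowsOK 96000 14375 = true :=
  rowsOK_join 96000 14250 125 110250 rfl grp6_113 rows_ok_882

theorem grp6_115 : rowsOK 96000 14500 = true :=
  rowsOK_join 96000 14375 125 110375 rfl grp6_114 rows_ok_883

theorem grp6_116 : rowsOK 96000 14625 = true :=
  rowsOK_join 96000 14500 125 110500 rfl grp6_115 rows_ok_884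

theorem grp6_117 : rowsOK 96000 14750 = true :=
  rowsOK_join 96000 14625 125 110625 rfl grp6_116 rows_ok_885

theorem grp6_118 : rowsOK 96000 14875 = true :=
  rowsOK_join 96000 14750 125 110750 rfl grp6_117 rows_ok_886

theorem grp6_119 : rowsOK 96000 15000 = true :=
  rowsOK_join 96000 14875 125 110875 rfl grp6_118 rows_ok_887

theorem grp6_120 : rowsOK 96000 15125 = true :=
  rowsOK_join 96000 15000 125 111000 rfl grp6_119 rows_ok_888

theorem grp6_121 : rowsOK 96000 15250 = true :=
  rowsOK_join 96000 15125 125 111125 rfl grp6_120 rows_ok_889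

theorem grp6_122 : rowsOK 96000 15375 = true :=
  rowsOK_join 96000 15250 125 111250 rfl grp6_121 rows_ok_890

theorem grp6_123 : rowsOK 96000 15500 = true :=
  rowsOK_join 96000 15375 125 111375 rfl grp6_122 rows_ok_891

theorem grp6_124 : rowsOK 96000 15625 = true :=
  rowsOK_join 96000 15500 125 111500 rfl grp6_123 rows_ok_892

theorem grp6_125 : rowsOK 96000 15750 = true :=
  rowsOK_join 96000 15625 125 111625 rfl grp6_124 rows_ok_893

theorem grp6_126 : rowsOK 96000 15875 = true :=
  rowsOK_join 96000 15750 125 111750 rfl grp6_125 rows_ok_894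

theorem rows_ok_grp_6 : rowsOK 96000 16000 = true :=
  rowsOK_join 96000 15875 125 111875 rfl grp6_126 rows_ok_895

end Cfsg.Agent.Lib.Helper7.Fi24L
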