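import Cfsg.Agent.Lib.Helper7.Fi24LK112
import Cfsg.Agent.Lib.Helper7.Fi24LK113
import Cfsg.Agent.Lib.Helper7.Fi24LK114
import Cfsg.Agent.Lib.Helper7.Fi24LK115
import Cfsg.Agent.Lib.Helper7.Fi24LK116
import Cfsg.Agent.Lib.Helper7.Fi24LK117
import Cfsg.Agent.Lib.Helper7.Fi24LK118
import Cfsg.Agent.Lib.Helper7.Fi24LK119
import Cfsg.Agent.Lib.Helper7.Fi24LK120
import Cfsg.Agent.Lib.Helper7.Fi24LK121
import Cfsg.Agent.Lib.Helper7.Fi24LK122
import Cfsg.Agent.Lib.Helper7.Fi24LK123
import Cfsg.Agent.Lib.Helper7.Fi24LK124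
import Cfsg.Agent.Lib.Helper7.Fi24LK125
import Cfsg.Agent.Lib.Helper7.Fi24LK126
import Cfsg.Agent.Lib.Helper7.Fi24LK127
import Cfsg.Agent.Lib.Helper7.Fi24LE

/-! # The multiplier of the Fischer group Fi₂₄′, a threefold cover of a permutation representation of the presented group Fi₂₄: the checks of a part of the rows are joined (generated) -/

set_option autoImplicit false
set_option maxRecDepth 100000

namespace Cfsg.Agent.Lib.Helper7.Fi24L

theorem grp7_1 : rowsOK 112000 250 = true :=
  rowsOK_join 112000 125 125 112125 rfl rows_ok_896 rows_ok_897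

theorem grp7_2 : rowsOK 112000 375 = true :=
  rowsOK_join 112000 250 125 112250 rfl grp7_1 rows_ok_898

theorem grp7_3 : rowsOK 112000 500 = true :=
  rowsOK_join 112000 375 125 112375 rfl grp7_2 rows_ok_899

theorem grp7_4 : rowsOK 112000 625 = true :=
  rowsOK_join 112000 500 125 112500 rfl grp7_3 rows_ok_900

theorem grp7_5 : rowsOK 112000 750 = true :=
  rowsOK_join 112000 625 125 112625 rfl grp7_4 rows_ok_901

theorem grp7_6 : rowsOK 112000 875 = true :=
  rowsOK_join 112000 750 125 112750 rfl grp7_5 rows_ok_902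

theorem grp7_7 : rowsOK 112000 1000 = true :=
  rowsOK_join 112000 875 125 112875 rfl grp7_6 rows_ok_903

theorem grp7_8 : rowsOK 112000 1125 = true :=
  rowsOK_join 112000 1000 125 113000 rfl grp7_7 rows_ok_904

theorem grp7_9 : rowsOK 112000 1250 = true :=
  rowsOK_join 112000 1125 125 113125 rfl grp7_8 rows_ok_905

theorem grp7_10 : rowsOK 112000 1375 = true :=
  rowsOK_join 112000 1250 125 113250 rfl grp7_9 rows_ok_906

theorem grp7_11 : rowsOK 112000 1500 = true :=
  rowsOK_join 112000 1375 125 113375 rfl grp7_10 rows_ok_907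

theorem grp7_12 : rowsOK 112000 1625 = true :=
  rowsOK_join 112000 1500 125 113500 rfl grp7_11 rows_ok_908

theorem grp7_13 : rowsOK 112000 1750 = true :=
  rowsOK_join 112000 1625 125 113625 rfl grp7_12 rows_ok_909

theorem grp7_14 : rowsOK 112000 1875 = true :=
  rowsOK_join 112000 1750 125 113750 rfl grp7_13 rows_ok_910

theorem grp7_15 : rowsOK 112000 2000 = true :=
  rowsOK_join 112000 1875 125 113875 rfl grp7_14 rows_ok_911

theorem grp7_16 : rowsOK 112000 2125 = true :=
  rowsOK_join 112000 2000 125 114000 rfl grp7_15 rows_ok_912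

theorem grp7_17 : rowsOK 112000 2250 = true :=
  rowsOK_join 112000 2125 125 114125 rfl grp7_16 rows_ok_913

theorem grp7_18 : rowsOK 112000 2375 = true :=
  rowsOK_join 112000 2250 125 114250 rfl grp7_17 rows_ok_914

theorem grp7_19 : rowsOK 112000 2500 = true :=
  rowsOK_join 112000 2375 125 114375 rfl grp7_18 rows_ok_915

theorem grp7_20 : rowsOK 112000 2625 = true :=
  rowsOK_join 112000 2500 125 114500 rfl grp7_19 rows_ok_916

theorem grp7_21 : rowsOK 112000 2750 = true :=
  rowsOK_join 112000 2625 125 114625 rfl grp7_20 rows_ok_917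

theorem grp7_22 : rowsOK 112000 2875 = true :=
  rowsOK_join 112000 2750 125 114750 rfl grp7_21 rows_ok_918

theorem grp7_23 : rowsOK 112000 3000 = true :=
  rowsOK_join 112000 2875 125 114875 rfl grp7_22 rows_ok_919

theorem grp7_24 : rowsOK 112000 3125 = true :=
  rowsOK_join 112000 3000 125 115000 rfl grp7_23 rows_ok_920

theorem grp7_25 : rowsOK 112000 3250 = true :=
  rowsOK_join 112000 3125 125 115125 rfl grp7_24 rows_ok_921

theorem grp7_26 : rowsOK 112000 3375 = true :=
  rowsOK_join 112000 3250 125 115250 rfl grp7_25 rows_ok_922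

theorem grp7_27 : rowsOK 112000 3500 = true :=
  rowsOK_join 112000 3375 125 115375 rfl grp7_26 rows_ok_923

theorem grp7_28 : rowsOK 112000 3625 = true :=
  rowsOK_join 112000 3500 125 115500 rfl grp7_27 rows_ok_924

theorem grp7_29 : rowsOK 112000 3750 = true :=
  rowsOK_join 112000 3625 125 115625 rfl grp7_28 rows_ok_925

theorem grp7_30 : rowsOK 112000 3875 = true :=
  rowsOK_join 112000 3750 125 115750 rfl grp7_29 rows_ok_926

theorem grp7_31 : rowsOK 112000 4000 = true :=
  rowsOK_join 112000 3875 125 115875 rfl grp7_30 rows_ok_927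

theorem grp7_32 : rowsOK 112000 4125 = true :=
  rowsOK_join 112000 4000 125 116000 rfl grp7_31 rows_ok_928

theorem grp7_33 : rowsOK 112000 4250 = true :=
  rowsOK_join 112000 4125 125 116125 rfl grp7_32 rows_ok_929

theorem grp7_34 : rowsOK 112000 4375 = true :=
  rowsOK_join 112000 4250 125 116250 rfl grp7_33 rows_ok_930

theorem grp7_35 : rowsOK 112000 4500 = true :=
  rowsOK_join 112000 4375 125 116375 rfl grp7_34 rows_ok_931

theorem grp7_36 : rowsOK 112000 4625 = true :=
  rowsOK_join 112000 4500 125 116500 rfl grp7_35 rows_ok_932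

theorem grp7_37 : rowsOK 112000 4750 = true :=
  rowsOK_join 112000 4625 125 116625 rfl grp7_36 rows_ok_933

theorem grp7_38 : rowsOK 112000 4875 = true :=
  rowsOK_join 112000 4750 125 116750 rfl grp7_37 rows_ok_934

theorem grp7_39 : rowsOK 112000 5000 = true :=
  rowsOK_join 112000 4875 125 116875 rfl grp7_38 rows_ok_935

theorem grp7_40 : rowsOK 112000 5125 = true :=
  rowsOK_join 112000 5000 125 117000 rfl grp7_39 rows_ok_936

theorem grp7_41 : rowsOK 112000 5250 = true :=
  rowsOK_join 112000 5125 125 117125 rfl grp7_40 rows_ok_937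

theorem grp7_42 : rowsOK 112000 5375 = true :=
  rowsOK_join 112000 5250 125 117250 rfl grp7_41 rows_ok_938

theorem grp7_43 : rowsOK 112000 5500 = true :=
  rowsOK_join 112000 5375 125 117375 rfl grp7_42 rows_ok_939

theorem grp7_44 : rowsOK 112000 5625 = true :=
  rowsOK_join 112000 5500 125 117500 rfl grp7_43 rows_ok_940

theorem grp7_45 : rowsOK 112000 5750 = true :=
  rowsOK_join 112000 5625 125 117625 rfl grp7_44 rows_ok_941

theorem grp7_46 : rowsOK 112000 5875 = true :=
  rowsOK_join 112000 5750 125 117750 rfl grp7_45 rows_ok_942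

theorem grp7_47 : rowsOK 112000 6000 = true :=
  rowsOK_join 112000 5875 125 117875 rfl grp7_46 rows_ok_943

theorem grp7_48 : rowsOK 112000 6125 = true :=
  rowsOK_join 112000 6000 125 118000 rfl grp7_47 rows_ok_944

theorem grp7_49 : rowsOK 112000 6250 = true :=
  rowsOK_join 112000 6125 125 118125 rfl grp7_48 rows_ok_945

theorem grp7_50 : rowsOK 112000 6375 = true :=
  rowsOK_join 112000 6250 125 118250 rfl grp7_49 rows_ok_946

theorem grp7_51 : rowsOK 112000 6500 = true :=
  rowsOK_join 112000 6375 125 118375 rfl grp7_50 rows_ok_947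

theorem grp7_52 : rowsOK 112000 6625 = true :=
  rowsOK_join 112000 6500 125 118500 rfl grp7_51 rows_ok_948

theorem grp7_53 : rowsOK 112000 6750 = true :=
  rowsOK_join 112000 6625 125 118625 rfl grp7_52 rows_ok_949

theorem grp7_54 : rowsOK 112000 6875 = true :=
  rowsOK_join 112000 6750 125 118750 rfl grp7_53 rows_ok_950

theorem grp7_55 : rowsOK 112000 7000 = true :=
  rowsOK_join 112000 6875 125 118875 rfl grp7_54 rows_ok_951

theorem grp7_56 : rowsOK 112000 7125 = true :=
  rowsOK_join 112000 7000 125 119000 rfl grp7_55 rows_ok_952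

theorem grp7_57 : rowsOK 112000 7250 = true :=
  rowsOK_join 112000 7125 125 119125 rfl grp7_56 rows_ok_953

theorem grp7_58 : rowsOK 112000 7375 = true :=
  rowsOK_join 112000 7250 125 119250 rfl grp7_57 rows_ok_954

theorem grp7_59 : rowsOK 112000 7500 = true :=
  rowsOK_join 112000 7375 125 119375 rfl grp7_58 rows_ok_955

theorem grp7_60 : rowsOK 112000 7625 = true :=
  rowsOK_join 112000 7500 125 119500 rfl grp7_59 rows_ok_956

theorem grp7_61 : rowsOK 112000 7750 = true :=
  rowsOK_join 112000 7625 125 119625 rfl grp7_60 rows_ok_957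

theorem grp7_62 : rowsOK 112000 7875 = true :=
  rowsOK_join 112000 7750 125 119750 rfl grp7_61 rows_ok_958

theorem grp7_63 : rowsOK 112000 8000 = true :=
  rowsOK_join 112000 7875 125 119875 rfl grp7_62 rows_ok_959

theorem grp7_64 : rowsOK 112000 8125 = true :=
  rowsOK_join 112000 8000 125 120000 rfl grp7_63 rows_ok_960

theorem grp7_65 : rowsOK 112000 8250 = true :=
  rowsOK_join 112000 8125 125 120125 rfl grp7_64 rows_ok_961

theorem grp7_66 : rowsOK 112000 8375 = true :=
  rowsOK_join 112000 8250 125 120250 rfl grp7_65 rows_ok_962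

theorem grp7_67 : rowsOK 112000 8500 = true :=
  rowsOK_join 112000 8375 125 120375 rfl grp7_66 rows_ok_963

theorem grp7_68 : rowsOK 112000 8625 = true :=
  rowsOK_join 112000 8500 125 120500 rfl grp7_67 rows_ok_964

theorem grp7_69 : rowsOK 112000 8750 = true :=
  rowsOK_join 112000 8625 125 120625 rfl grp7_68 rows_ok_965

theorem grp7_70 : rowsOK 112000 8875 = true :=
  rowsOK_join 112000 8750 125 120750 rfl grp7_69 rows_ok_966

theorem grp7_71 : rowsOK 112000 9000 = true :=
  rowsOK_join 112000 8875 125 120875 rfl grp7_70 rows_ok_967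

theorem grp7_72 : rowsOK 112000 9125 = true :=
  rowsOK_join 112000 9000 125 121000 rfl grp7_71 rows_ok_968

theorem grp7_73 : rowsOK 112000 9250 = true :=
  rowsOK_join 112000 9125 125 121125 rfl grp7_72 rows_ok_969

theorem grp7_74 : rowsOK 112000 9375 = true :=
  rowsOK_join 112000 9250 125 121250 rfl grp7_73 rows_ok_970

theorem grp7_75 : rowsOK 112000 9500 = true :=
  rowsOK_join 112000 9375 125 121375 rfl grp7_74 rows_ok_971

theorem grp7_76 : rowsOK 112000 9625 = true :=
  rowsOK_join 112000 9500 125 121500 rfl grp7_75 rows_ok_972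

theorem grp7_77 : rowsOK 112000 9750 = true :=
  rowsOK_join 112000 9625 125 121625 rfl grp7_76 rows_ok_973

theorem grp7_78 : rowsOK 112000 9875 = true :=
  rowsOK_join 112000 9750 125 121750 rfl grp7_77 rows_ok_974

theorem grp7_79 : rowsOK 112000 10000 = true :=
  rowsOK_join 112000 9875 125 121875 rfl grp7_78 rows_ok_975

theorem grp7_80 : rowsOK 112000 10125 = true :=
  rowsOK_join 112000 10000 125 122000 rfl grp7_79 rows_ok_976

theorem grp7_81 : rowsOK 112000 10250 = true :=
  rowsOK_join 112000 10125 125 122125 rfl grp7_80 rows_ok_977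

theorem grp7_82 : rowsOK 112000 10375 = true :=
  rowsOK_join 112000 10250 125 122250 rfl grp7_81 rows_ok_978

theorem grp7_83 : rowsOK 112000 10500 = true :=
  rowsOK_join 112000 10375 125 122375 rfl grp7_82 rows_ok_979

theorem grp7_84 : rowsOK 112000 10625 = true :=
  rowsOK_join 112000 10500 125 122500 rfl grp7_83 rows_ok_980

theorem grp7_85 : rowsOK 112000 10750 = true :=
  rowsOK_join 112000 10625 125 122625 rfl grp7_84 rows_ok_981

theorem grp7_86 : rowsOK 112000 10875 = true :=
  rowsOK_join 112000 10750 125 122750 rfl grp7_85 rows_ok_982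

theorem grp7_87 : rowsOK 112000 11000 = true :=
  rowsOK_join 112000 10875 125 122875 rfl grp7_86 rows_ok_983

theorem grp7_88 : rowsOK 112000 11125 = true :=
  rowsOK_join 112000 11000 125 123000 rfl grp7_87 rows_ok_984

theorem grp7_89 : rowsOK 112000 11250 = true :=
  rowsOK_join 112000 11125 125 123125 rfl grp7_88 rows_ok_985

theorem grp7_90 : rowsOK 112000 11375 = true :=
  rowsOK_join 112000 11250 125 123250 rfl grp7_89 rows_ok_986

theorem grp7_91 : rowsOK 112000 11500 = true :=
  rowsOK_join 112000 11375 125 123375 rfl grp7_90 rows_ok_987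

theorem grp7_92 : rowsOK 112000 11625 = true :=
  rowsOK_join 112000 11500 125 123500 rfl grp7_91 rows_ok_988

theorem grp7_93 : rowsOK 112000 11750 = true :=
  rowsOK_join 112000 11625 125 123625 rfl grp7_92 rows_ok_989

theorem grp7_94 : rowsOK 112000 11875 = true :=
  rowsOK_join 112000 11750 125 123750 rfl grp7_93 rows_ok_990

theorem grp7_95 : rowsOK 112000 12000 = true :=
  rowsOK_join 112000 11875 125 123875 rfl grp7_94 rows_ok_991

theorem grp7_96 : rowsOK 112000 12125 = true :=
  rowsOK_join 112000 12000 125 124000 rfl grp7_95 rows_ok_992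

theorem grp7_97 : rowsOK 112000 12250 = true :=
  rowsOK_join 112000 12125 125 124125 rfl grp7_96 rows_ok_993

theorem grp7_98 : rowsOK 112000 12375 = true :=
  rowsOK_join 112000 12250 125 124250 rfl grp7_97 rows_ok_994

theorem grp7_99 : rowsOK 112000 12500 = true :=
  rowsOK_join 112000 12375 125 124375 rfl grp7_98 rows_ok_995

theorem grp7_100 : rowsOK 112000 12625 = true :=
  rowsOK_join 112000 12500 125 124500 rfl grp7_99 rows_ok_996

theorem grp7_101 : rowsOK 112000 12750 = true :=
  rowsOK_join 112000 12625 125 124625 rfl grp7_100 rows_ok_997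

theorem grp7_102 : rowsOK 112000 12875 = true :=
  rowsOK_join 112000 12750 125 124750 rfl grp7_101 rows_ok_998

theorem grp7_103 : rowsOK 112000 13000 = true :=
  rowsOK_join 112000 12875 125 124875 rfl grp7_102 rows_ok_999

theorem grp7_104 : rowsOK 112000 13125 = true :=
  rowsOK_join 112000 13000 125 125000 rfl grp7_103 rows_ok_1000

theorem grp7_105 : rowsOK 112000 13250 = true :=
  rowsOK_join 112000 13125 125 125125 rfl grp7_104 rows_ok_1001

theorem grp7_106 : rowsOK 112000 13375 = true :=
  rowsOK_join 112000 13250 125 125250 rfl grp7_105 rows_ok_1002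

theorem grp7_107 : rowsOK 112000 13500 = true :=
  rowsOK_join 112000 13375 125 125375 rfl grp7_106 rows_ok_1003

theorem grp7_108 : rowsOK 112000 13625 = true :=
  rowsOK_join 112000 13500 125 125500 rfl grp7_107 rows_ok_1004

theorem grp7_109 : rowsOK 112000 13750 = true :=
  rowsOK_join 112000 13625 125 125625 rfl grp7_108 rows_ok_1005

theorem grp7_110 : rowsOK 112000 13875 = true :=
  rowsOK_join 112000 13750 125 125750 rfl grp7_109 rows_ok_1006

theorem grp7_111 : rowsOK 112000 14000 = true :=
  rowsOK_join 112000 13875 125 125875 rfl grp7_110 rows_ok_1007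

theorem grp7_112 : rowsOK 112000 14125 = true :=
  rowsOK_join 112000 14000 125 126000 rfl grp7_111 rows_ok_1008

theorem grp7_113 : rowsOK 112000 14250 = true :=
  rowsOK_join 112000 14125 125 126125 rfl grp7_112 rows_ok_1009

theorem grp7_114 : rowsOK 112000 14375 = true :=
  rowsOK_join 112000 14250 125 126250 rfl grp7_113 rows_ok_1010

theorem grp7_115 : rowsOK 112000 14500 = true :=
  rowsOK_join 112000 14375 125 126375 rfl grp7_114 rows_ok_1011

theorem grp7_116 : rowsOK 112000 14625 = true :=
  rowsOK_join 112000 14500 125 126500 rfl grp7_115 rows_ok_1012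

theorem grp7_117 : rowsOK 112000 14750 = true :=
  rowsOK_join 112000 14625 125 126625 rfl grp7_116 rows_ok_1013

theorem grp7_118 : rowsOK 112000 14875 = true :=
  rowsOK_join 112000 14750 125 126750 rfl grp7_117 rows_ok_1014

theorem grp7_119 : rowsOK 112000 15000 = true :=
  rowsOK_join 112000 14875 125 126875 rfl grp7_118 rows_ok_1015

theorem grp7_120 : rowsOK 112000 15125 = true :=
  rowsOK_join 112000 15000 125 127000 rfl grp7_119 rows_ok_1016

theorem grp7_121 : rowsOK 112000 15250 = true :=
  rowsOK_join 112000 15125 125 127125 rfl grp7_120 rows_ok_1017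

theorem grp7_122 : rowsOK 112000 15375 = true :=
  rowsOK_join 112000 15250 125 127250 rfl grp7_121 rows_ok_1018

theorem grp7_123 : rowsOK 112000 15500 = true :=
  rowsOK_join 112000 15375 125 127375 rfl grp7_122 rows_ok_1019

theorem grp7_124 : rowsOK 112000 15625 = true :=
  rowsOK_join 112000 15500 125 127500 rfl grp7_123 rows_ok_1020

theorem grp7_125 : rowsOK 112000 15750 = true :=
  rowsOK_join 112000 15625 125 127625 rfl grp7_124 rows_ok_1021

theorem grp7_126 : rowsOK 112000 15875 = true :=
  rowsOK_join 112000 15750 125 127750 rfl grp7_125 rows_ok_1022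

theorem rows_ok_grp_7 : rowsOK 112000 16000 = true :=
  rowsOK_join 112000 15875 125 127875 rfl grp7_126 rows_ok_1023

end Cfsg.Agent.Lib.Helper7.Fi24L
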