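import Cfsg.Agent.Lib.Helper7.Fi24LK128
import Cfsg.Agent.Lib.Helper7.Fi24LK129
import Cfsg.Agent.Lib.Helper7.Fi24LK130
import Cfsg.Agent.Lib.Helper7.Fi24LK131
import Cfsg.Agent.Lib.Helper7.Fi24LK132
import Cfsg.Agent.Lib.Helper7.Fi24LK133
import Cfsg.Agent.Lib.Helper7.Fi24LK134
import Cfsg.Agent.Lib.Helper7.Fi24LK135
import Cfsg.Agent.Lib.Helper7.Fi24LK136
import Cfsg.Agent.Lib.Helper7.Fi24LK137
import Cfsg.Agent.Lib.Helper7.Fi24LK138
import Cfsg.Agent.Lib.Helper7.Fi24LK139
import Cfsg.Agent.Lib.Helper7.Fi24LK140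
import Cfsg.Agent.Lib.Helper7.Fi24LK141
import Cfsg.Agent.Lib.Helper7.Fi24LK142
import Cfsg.Agent.Lib.Helper7.Fi24LK143
import Cfsg.Agent.Lib.Helper7.Fi24LE

/-! # The multiplier of the Fischer group Fi₂₄′, a threefold cover of a permutation representation of the presented group Fi₂₄: the checks of a part of the rows are joined (generated) -/

set_option autoImplicit false
set_option maxRecDepth 100000

namespace Cfsg.Agent.Lib.Helper7.Fi24L

theorem grp8_1 : rowsOK 128000 250 = true :=
  rowsOK_join 128000 125 125 128125 rfl rows_ok_1024 rows_ok_1025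

theorem grp8_2 : rowsOK 128000 375 = true :=
  rowsOK_join 128000 250 125 128250 rfl grp8_1 rows_ok_1026

theorem grp8_3 : rowsOK 128000 500 = true :=
  rowsOK_join 128000 375 125 128375 rfl grp8_2 rows_ok_1027

theorem grp8_4 : rowsOK 128000 625 = true :=
  rowsOK_join 128000 500 125 128500 rfl grp8_3 rows_ok_1028

theorem grp8_5 : rowsOK 128000 750 = true :=
  rowsOK_join 128000 625 125 128625 rfl grp8_4 rows_ok_1029

theorem grp8_6 : rowsOK 128000 875 = true :=
  rowsOK_join 128000 750 125 128750 rfl grp8_5 rows_ok_1030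

theorem grp8_7 : rowsOK 128000 1000 = true :=
  rowsOK_join 128000 875 125 128875 rfl grp8_6 rows_ok_1031

theorem grp8_8 : rowsOK 128000 1125 = true :=
  rowsOK_join 128000 1000 125 129000 rfl grp8_7 rows_ok_1032

theorem grp8_9 : rowsOK 128000 1250 = true :=
  rowsOK_join 128000 1125 125 129125 rfl grp8_8 rows_ok_1033

theorem grp8_10 : rowsOK 128000 1375 = true :=
  rowsOK_join 128000 1250 125 129250 rfl grp8_9 rows_ok_1034

theorem grp8_11 : rowsOK 128000 1500 = true :=
  rowsOK_join 128000 1375 125 129375 rfl grp8_10 rows_ok_1035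

theorem grp8_12 : rowsOK 128000 1625 = true :=
  rowsOK_join 128000 1500 125 129500 rfl grp8_11 rows_ok_1036

theorem grp8_13 : rowsOK 128000 1750 = true :=
  rowsOK_join 128000 1625 125 129625 rfl grp8_12 rows_ok_1037

theorem grp8_14 : rowsOK 128000 1875 = true :=
  rowsOK_join 128000 1750 125 129750 rfl grp8_13 rows_ok_1038

theorem grp8_15 : rowsOK 128000 2000 = true :=
  rowsOK_join 128000 1875 125 129875 rfl grp8_14 rows_ok_1039

theorem grp8_16 : rowsOK 128000 2125 = true :=
  rowsOK_join 128000 2000 125 130000 rfl grp8_15 rows_ok_1040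

theorem grp8_17 : rowsOK 128000 2250 = true :=
  rowsOK_join 128000 2125 125 130125 rfl grp8_16 rows_ok_1041

theorem grp8_18 : rowsOK 128000 2375 = true :=
  rowsOK_join 128000 2250 125 130250 rfl grp8_17 rows_ok_1042

theorem grp8_19 : rowsOK 128000 2500 = true :=
  rowsOK_join 128000 2375 125 130375 rfl grp8_18 rows_ok_1043

theorem grp8_20 : rowsOK 128000 2625 = true :=
  rowsOK_join 128000 2500 125 130500 rfl grp8_19 rows_ok_1044

theorem grp8_21 : rowsOK 128000 2750 = true :=
  rowsOK_join 128000 2625 125 130625 rfl grp8_20 rows_ok_1045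

theorem grp8_22 : rowsOK 128000 2875 = true :=
  rowsOK_join 128000 2750 125 130750 rfl grp8_21 rows_ok_1046

theorem grp8_23 : rowsOK 128000 3000 = true :=
  rowsOK_join 128000 2875 125 130875 rfl grp8_22 rows_ok_1047

theorem grp8_24 : rowsOK 128000 3125 = true :=
  rowsOK_join 128000 3000 125 131000 rfl grp8_23 rows_ok_1048

theorem grp8_25 : rowsOK 128000 3250 = true :=
  rowsOK_join 128000 3125 125 131125 rfl grp8_24 rows_ok_1049

theorem grp8_26 : rowsOK 128000 3375 = true :=
  rowsOK_join 128000 3250 125 131250 rfl grp8_25 rows_ok_1050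

theorem grp8_27 : rowsOK 128000 3500 = true :=
  rowsOK_join 128000 3375 125 131375 rfl grp8_26 rows_ok_1051

theorem grp8_28 : rowsOK 128000 3625 = true :=
  rowsOK_join 128000 3500 125 131500 rfl grp8_27 rows_ok_1052

theorem grp8_29 : rowsOK 128000 3750 = true :=
  rowsOK_join 128000 3625 125 131625 rfl grp8_28 rows_ok_1053

theorem grp8_30 : rowsOK 128000 3875 = true :=
  rowsOK_join 128000 3750 125 131750 rfl grp8_29 rows_ok_1054

theorem grp8_31 : rowsOK 128000 4000 = true :=
  rowsOK_join 128000 3875 125 131875 rfl grp8_30 rows_ok_1055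

theorem grp8_32 : rowsOK 128000 4125 = true :=
  rowsOK_join 128000 4000 125 132000 rfl grp8_31 rows_ok_1056

theorem grp8_33 : rowsOK 128000 4250 = true :=
  rowsOK_join 128000 4125 125 132125 rfl grp8_32 rows_ok_1057

theorem grp8_34 : rowsOK 128000 4375 = true :=
  rowsOK_join 128000 4250 125 132250 rfl grp8_33 rows_ok_1058

theorem grp8_35 : rowsOK 128000 4500 = true :=
  rowsOK_join 128000 4375 125 132375 rfl grp8_34 rows_ok_1059

theorem grp8_36 : rowsOK 128000 4625 = true :=
  rowsOK_join 128000 4500 125 132500 rfl grp8_35 rows_ok_1060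

theorem grp8_37 : rowsOK 128000 4750 = true :=
  rowsOK_join 128000 4625 125 132625 rfl grp8_36 rows_ok_1061

theorem grp8_38 : rowsOK 128000 4875 = true :=
  rowsOK_join 128000 4750 125 132750 rfl grp8_37 rows_ok_1062

theorem grp8_39 : rowsOK 128000 5000 = true :=
  rowsOK_join 128000 4875 125 132875 rfl grp8_38 rows_ok_1063

theorem grp8_40 : rowsOK 128000 5125 = true :=
  rowsOK_join 128000 5000 125 133000 rfl grp8_39 rows_ok_1064

theorem grp8_41 : rowsOK 128000 5250 = true :=
  rowsOK_join 128000 5125 125 133125 rfl grp8_40 rows_ok_1065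

theorem grp8_42 : rowsOK 128000 5375 = true :=
  rowsOK_join 128000 5250 125 133250 rfl grp8_41 rows_ok_1066

theorem grp8_43 : rowsOK 128000 5500 = true :=
  rowsOK_join 128000 5375 125 133375 rfl grp8_42 rows_ok_1067

theorem grp8_44 : rowsOK 128000 5625 = true :=
  rowsOK_join 128000 5500 125 133500 rfl grp8_43 rows_ok_1068

theorem grp8_45 : rowsOK 128000 5750 = true :=
  rowsOK_join 128000 5625 125 133625 rfl grp8_44 rows_ok_1069

theorem grp8_46 : rowsOK 128000 5875 = true :=
  rowsOK_join 128000 5750 125 133750 rfl grp8_45 rows_ok_1070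

theorem grp8_47 : rowsOK 128000 6000 = true :=
  rowsOK_join 128000 5875 125 133875 rfl grp8_46 rows_ok_1071

theorem grp8_48 : rowsOK 128000 6125 = true :=
  rowsOK_join 128000 6000 125 134000 rfl grp8_47 rows_ok_1072

theorem grp8_49 : rowsOK 128000 6250 = true :=
  rowsOK_join 128000 6125 125 134125 rfl grp8_48 rows_ok_1073

theorem grp8_50 : rowsOK 128000 6375 = true :=
  rowsOK_join 128000 6250 125 134250 rfl grp8_49 rows_ok_1074

theorem grp8_51 : rowsOK 128000 6500 = true :=
  rowsOK_join 128000 6375 125 134375 rfl grp8_50 rows_ok_1075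

theorem grp8_52 : rowsOK 128000 6625 = true :=
  rowsOK_join 128000 6500 125 134500 rfl grp8_51 rows_ok_1076

theorem grp8_53 : rowsOK 128000 6750 = true :=
  rowsOK_join 128000 6625 125 134625 rfl grp8_52 rows_ok_1077

theorem grp8_54 : rowsOK 128000 6875 = true :=
  rowsOK_join 128000 6750 125 134750 rfl grp8_53 rows_ok_1078

theorem grp8_55 : rowsOK 128000 7000 = true :=
  rowsOK_join 128000 6875 125 134875 rfl grp8_54 rows_ok_1079

theorem grp8_56 : rowsOK 128000 7125 = true :=
  rowsOK_join 128000 7000 125 135000 rfl grp8_55 rows_ok_1080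

theorem grp8_57 : rowsOK 128000 7250 = true :=
  rowsOK_join 128000 7125 125 135125 rfl grp8_56 rows_ok_1081

theorem grp8_58 : rowsOK 128000 7375 = true :=
  rowsOK_join 128000 7250 125 135250 rfl grp8_57 rows_ok_1082

theorem grp8_59 : rowsOK 128000 7500 = true :=
  rowsOK_join 128000 7375 125 135375 rfl grp8_58 rows_ok_1083

theorem grp8_60 : rowsOK 128000 7625 = true :=
  rowsOK_join 128000 7500 125 135500 rfl grp8_59 rows_ok_1084

theorem grp8_61 : rowsOK 128000 7750 = true :=
  rowsOK_join 128000 7625 125 135625 rfl grp8_60 rows_ok_1085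

theorem grp8_62 : rowsOK 128000 7875 = true :=
  rowsOK_join 128000 7750 125 135750 rfl grp8_61 rows_ok_1086

theorem grp8_63 : rowsOK 128000 8000 = true :=
  rowsOK_join 128000 7875 125 135875 rfl grp8_62 rows_ok_1087

theorem grp8_64 : rowsOK 128000 8125 = true :=
  rowsOK_join 128000 8000 125 136000 rfl grp8_63 rows_ok_1088

theorem grp8_65 : rowsOK 128000 8250 = true :=
  rowsOK_join 128000 8125 125 136125 rfl grp8_64 rows_ok_1089

theorem grp8_66 : rowsOK 128000 8375 = true :=
  rowsOK_join 128000 8250 125 136250 rfl grp8_65 rows_ok_1090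

theorem grp8_67 : rowsOK 128000 8500 = true :=
  rowsOK_join 128000 8375 125 136375 rfl grp8_66 rows_ok_1091

theorem grp8_68 : rowsOK 128000 8625 = true :=
  rowsOK_join 128000 8500 125 136500 rfl grp8_67 rows_ok_1092

theorem grp8_69 : rowsOK 128000 8750 = true :=
  rowsOK_join 128000 8625 125 136625 rfl grp8_68 rows_ok_1093

theorem grp8_70 : rowsOK 128000 8875 = true :=
  rowsOK_join 128000 8750 125 136750 rfl grp8_69 rows_ok_1094

theorem grp8_71 : rowsOK 128000 9000 = true :=
  rowsOK_join 128000 8875 125 136875 rfl grp8_70 rows_ok_1095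

theorem grp8_72 : rowsOK 128000 9125 = true :=
  rowsOK_join 128000 9000 125 137000 rfl grp8_71 rows_ok_1096

theorem grp8_73 : rowsOK 128000 9250 = true :=
  rowsOK_join 128000 9125 125 137125 rfl grp8_72 rows_ok_1097

theorem grp8_74 : rowsOK 128000 9375 = true :=
  rowsOK_join 128000 9250 125 137250 rfl grp8_73 rows_ok_1098

theorem grp8_75 : rowsOK 128000 9500 = true :=
  rowsOK_join 128000 9375 125 137375 rfl grp8_74 rows_ok_1099

theorem grp8_76 : rowsOK 128000 9625 = true :=
  rowsOK_join 128000 9500 125 137500 rfl grp8_75 rows_ok_1100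

theorem grp8_77 : rowsOK 128000 9750 = true :=
  rowsOK_join 128000 9625 125 137625 rfl grp8_76 rows_ok_1101

theorem grp8_78 : rowsOK 128000 9875 = true :=
  rowsOK_join 128000 9750 125 137750 rfl grp8_77 rows_ok_1102

theorem grp8_79 : rowsOK 128000 10000 = true :=
  rowsOK_join 128000 9875 125 137875 rfl grp8_78 rows_ok_1103

theorem grp8_80 : rowsOK 128000 10125 = true :=
  rowsOK_join 128000 10000 125 138000 rfl grp8_79 rows_ok_1104

theorem grp8_81 : rowsOK 128000 10250 = true :=
  rowsOK_join 128000 10125 125 138125 rfl grp8_80 rows_ok_1105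

theorem grp8_82 : rowsOK 128000 10375 = true :=
  rowsOK_join 128000 10250 125 138250 rfl grp8_81 rows_ok_1106

theorem grp8_83 : rowsOK 128000 10500 = true :=
  rowsOK_join 128000 10375 125 138375 rfl grp8_82 rows_ok_1107

theorem grp8_84 : rowsOK 128000 10625 = true :=
  rowsOK_join 128000 10500 125 138500 rfl grp8_83 rows_ok_1108

theorem grp8_85 : rowsOK 128000 10750 = true :=
  rowsOK_join 128000 10625 125 138625 rfl grp8_84 rows_ok_1109

theorem grp8_86 : rowsOK 128000 10875 = true :=
  rowsOK_join 128000 10750 125 138750 rfl grp8_85 rows_ok_1110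

theorem grp8_87 : rowsOK 128000 11000 = true :=
  rowsOK_join 128000 10875 125 138875 rfl grp8_86 rows_ok_1111

theorem grp8_88 : rowsOK 128000 11125 = true :=
  rowsOK_join 128000 11000 125 139000 rfl grp8_87 rows_ok_1112

theorem grp8_89 : rowsOK 128000 11250 = true :=
  rowsOK_join 128000 11125 125 139125 rfl grp8_88 rows_ok_1113

theorem grp8_90 : rowsOK 128000 11375 = true :=
  rowsOK_join 128000 11250 125 139250 rfl grp8_89 rows_ok_1114

theorem grp8_91 : rowsOK 128000 11500 = true :=
  rowsOK_join 128000 11375 125 139375 rfl grp8_90 rows_ok_1115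

theorem grp8_92 : rowsOK 128000 11625 = true :=
  rowsOK_join 128000 11500 125 139500 rfl grp8_91 rows_ok_1116

theorem grp8_93 : rowsOK 128000 11750 = true :=
  rowsOK_join 128000 11625 125 139625 rfl grp8_92 rows_ok_1117

theorem grp8_94 : rowsOK 128000 11875 = true :=
  rowsOK_join 128000 11750 125 139750 rfl grp8_93 rows_ok_1118

theorem grp8_95 : rowsOK 128000 12000 = true :=
  rowsOK_join 128000 11875 125 139875 rfl grp8_94 rows_ok_1119

theorem grp8_96 : rowsOK 128000 12125 = true :=
  rowsOK_join 128000 12000 125 140000 rfl grp8_95 rows_ok_1120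

theorem grp8_97 : rowsOK 128000 12250 = true :=
  rowsOK_join 128000 12125 125 140125 rfl grp8_96 rows_ok_1121

theorem grp8_98 : rowsOK 128000 12375 = true :=
  rowsOK_join 128000 12250 125 140250 rfl grp8_97 rows_ok_1122

theorem grp8_99 : rowsOK 128000 12500 = true :=
  rowsOK_join 128000 12375 125 140375 rfl grp8_98 rows_ok_1123

theorem grp8_100 : rowsOK 128000 12625 = true :=
  rowsOK_join 128000 12500 125 140500 rfl grp8_99 rows_ok_1124

theorem grp8_101 : rowsOK 128000 12750 = true :=
  rowsOK_join 128000 12625 125 140625 rfl grp8_100 rows_ok_1125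

theorem grp8_102 : rowsOK 128000 12875 = true :=
  rowsOK_join 128000 12750 125 140750 rfl grp8_101 rows_ok_1126

theorem grp8_103 : rowsOK 128000 13000 = true :=
  rowsOK_join 128000 12875 125 140875 rfl grp8_102 rows_ok_1127

theorem grp8_104 : rowsOK 128000 13125 = true :=
  rowsOK_join 128000 13000 125 141000 rfl grp8_103 rows_ok_1128

theorem grp8_105 : rowsOK 128000 13250 = true :=
  rowsOK_join 128000 13125 125 141125 rfl grp8_104 rows_ok_1129

theorem grp8_106 : rowsOK 128000 13375 = true :=
  rowsOK_join 128000 13250 125 141250 rfl grp8_105 rows_ok_1130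

theorem grp8_107 : rowsOK 128000 13500 = true :=
  rowsOK_join 128000 13375 125 141375 rfl grp8_106 rows_ok_1131

theorem grp8_108 : rowsOK 128000 13625 = true :=
  rowsOK_join 128000 13500 125 141500 rfl grp8_107 rows_ok_1132

theorem grp8_109 : rowsOK 128000 13750 = true :=
  rowsOK_join 128000 13625 125 141625 rfl grp8_108 rows_ok_1133

theorem grp8_110 : rowsOK 128000 13875 = true :=
  rowsOK_join 128000 13750 125 141750 rfl grp8_109 rows_ok_1134

theorem grp8_111 : rowsOK 128000 14000 = true :=
  rowsOK_join 128000 13875 125 141875 rfl grp8_110 rows_ok_1135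

theorem grp8_112 : rowsOK 128000 14125 = true :=
  rowsOK_join 128000 14000 125 142000 rfl grp8_111 rows_ok_1136

theorem grp8_113 : rowsOK 128000 14250 = true :=
  rowsOK_join 128000 14125 125 142125 rfl grp8_112 rows_ok_1137

theorem grp8_114 : rowsOK 128000 14375 = true :=
  rowsOK_join 128000 14250 125 142250 rfl grp8_113 rows_ok_1138

theorem grp8_115 : rowsOK 128000 14500 = true :=
  rowsOK_join 128000 14375 125 142375 rfl grp8_114 rows_ok_1139

theorem grp8_116 : rowsOK 128000 14625 = true :=
  rowsOK_join 128000 14500 125 142500 rfl grp8_115 rows_ok_1140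

theorem grp8_117 : rowsOK 128000 14750 = true :=
  rowsOK_join 128000 14625 125 142625 rfl grp8_116 rows_ok_1141

theorem grp8_118 : rowsOK 128000 14875 = true :=
  rowsOK_join 128000 14750 125 142750 rfl grp8_117 rows_ok_1142

theorem grp8_119 : rowsOK 128000 15000 = true :=
  rowsOK_join 128000 14875 125 142875 rfl grp8_118 rows_ok_1143

theorem grp8_120 : rowsOK 128000 15125 = true :=
  rowsOK_join 128000 15000 125 143000 rfl grp8_119 rows_ok_1144

theorem grp8_121 : rowsOK 128000 15250 = true :=
  rowsOK_join 128000 15125 125 143125 rfl grp8_120 rows_ok_1145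

theorem grp8_122 : rowsOK 128000 15375 = true :=
  rowsOK_join 128000 15250 125 143250 rfl grp8_121 rows_ok_1146

theorem grp8_123 : rowsOK 128000 15500 = true :=
  rowsOK_join 128000 15375 125 143375 rfl grp8_122 rows_ok_1147

theorem grp8_124 : rowsOK 128000 15625 = true :=
  rowsOK_join 128000 15500 125 143500 rfl grp8_123 rows_ok_1148

theorem grp8_125 : rowsOK 128000 15750 = true :=
  rowsOK_join 128000 15625 125 143625 rfl grp8_124 rows_ok_1149

theorem grp8_126 : rowsOK 128000 15875 = true :=
  rowsOK_join 128000 15750 125 143750 rfl grp8_125 rows_ok_1150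

theorem rows_ok_grp_8 : rowsOK 128000 16000 = true :=
  rowsOK_join 128000 15875 125 143875 rfl grp8_126 rows_ok_1151

end Cfsg.Agent.Lib.Helper7.Fi24L
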