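import Cfsg.Agent.Lib.Helper7.Fi24LK144
import Cfsg.Agent.Lib.Helper7.Fi24LK145
import Cfsg.Agent.Lib.Helper7.Fi24LK146
import Cfsg.Agent.Lib.Helper7.Fi24LK147
import Cfsg.Agent.Lib.Helper7.Fi24LK148
import Cfsg.Agent.Lib.Helper7.Fi24LK149
import Cfsg.Agent.Lib.Helper7.Fi24LK150
import Cfsg.Agent.Lib.Helper7.Fi24LK151
import Cfsg.Agent.Lib.Helper7.Fi24LK152
import Cfsg.Agent.Lib.Helper7.Fi24LK153
import Cfsg.Agent.Lib.Helper7.Fi24LK154
import Cfsg.Agent.Lib.Helper7.Fi24LK155
import Cfsg.Agent.Lib.Helper7.Fi24LK156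
import Cfsg.Agent.Lib.Helper7.Fi24LK157
import Cfsg.Agent.Lib.Helper7.Fi24LK158
import Cfsg.Agent.Lib.Helper7.Fi24LK159
import Cfsg.Agent.Lib.Helper7.Fi24LE

/-! # The multiplier of the Fischer group Fi₂₄′, a threefold cover of a permutation representation of the presented group Fi₂₄: the checks of a part of the rows are joined (generated) -/

set_option autoImplicit false
set_option maxRecDepth 100000

namespace Cfsg.Agent.Lib.Helper7.Fi24L

theorem grp9_1 : rowsOK 144000 250 = true :=
  rowsOK_join 144000 125 125 144125 rfl rows_ok_1152 rows_ok_1153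

theorem grp9_2 : rowsOK 144000 375 = true :=
  rowsOK_join 144000 250 125 144250 rfl grp9_1 rows_ok_1154

theorem grp9_3 : rowsOK 144000 500 = true :=
  rowsOK_join 144000 375 125 144375 rfl grp9_2 rows_ok_1155

theorem grp9_4 : rowsOK 144000 625 = true :=
  rowsOK_join 144000 500 125 144500 rfl grp9_3 rows_ok_1156

theorem grp9_5 : rowsOK 144000 750 = true :=
  rowsOK_join 144000 625 125 144625 rfl grp9_4 rows_ok_1157

theorem grp9_6 : rowsOK 144000 875 = true :=
  rowsOK_join 144000 750 125 144750 rfl grp9_5 rows_ok_1158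

theorem grp9_7 : rowsOK 144000 1000 = true :=
  rowsOK_join 144000 875 125 144875 rfl grp9_6 rows_ok_1159

theorem grp9_8 : rowsOK 144000 1125 = true :=
  rowsOK_join 144000 1000 125 145000 rfl grp9_7 rows_ok_1160

theorem grp9_9 : rowsOK 144000 1250 = true :=
  rowsOK_join 144000 1125 125 145125 rfl grp9_8 rows_ok_1161

theorem grp9_10 : rowsOK 144000 1375 = true :=
  rowsOK_join 144000 1250 125 145250 rfl grp9_9 rows_ok_1162

theorem grp9_11 : rowsOK 144000 1500 = true :=
  rowsOK_join 144000 1375 125 145375 rfl grp9_10 rows_ok_1163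

theorem grp9_12 : rowsOK 144000 1625 = true :=
  rowsOK_join 144000 1500 125 145500 rfl grp9_11 rows_ok_1164

theorem grp9_13 : rowsOK 144000 1750 = true :=
  rowsOK_join 144000 1625 125 145625 rfl grp9_12 rows_ok_1165

theorem grp9_14 : rowsOK 144000 1875 = true :=
  rowsOK_join 144000 1750 125 145750 rfl grp9_13 rows_ok_1166

theorem grp9_15 : rowsOK 144000 2000 = true :=
  rowsOK_join 144000 1875 125 145875 rfl grp9_14 rows_ok_1167

theorem grp9_16 : rowsOK 144000 2125 = true :=
  rowsOK_join 144000 2000 125 146000 rfl grp9_15 rows_ok_1168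

theorem grp9_17 : rowsOK 144000 2250 = true :=
  rowsOK_join 144000 2125 125 146125 rfl grp9_16 rows_ok_1169

theorem grp9_18 : rowsOK 144000 2375 = true :=
  rowsOK_join 144000 2250 125 146250 rfl grp9_17 rows_ok_1170

theorem grp9_19 : rowsOK 144000 2500 = true :=
  rowsOK_join 144000 2375 125 146375 rfl grp9_18 rows_ok_1171

theorem grp9_20 : rowsOK 144000 2625 = true :=
  rowsOK_join 144000 2500 125 146500 rfl grp9_19 rows_ok_1172

theorem grp9_21 : rowsOK 144000 2750 = true :=
  rowsOK_join 144000 2625 125 146625 rfl grp9_20 rows_ok_1173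

theorem grp9_22 : rowsOK 144000 2875 = true :=
  rowsOK_join 144000 2750 125 146750 rfl grp9_21 rows_ok_1174

theorem grp9_23 : rowsOK 144000 3000 = true :=
  rowsOK_join 144000 2875 125 146875 rfl grp9_22 rows_ok_1175

theorem grp9_24 : rowsOK 144000 3125 = true :=
  rowsOK_join 144000 3000 125 147000 rfl grp9_23 rows_ok_1176

theorem grp9_25 : rowsOK 144000 3250 = true :=
  rowsOK_join 144000 3125 125 147125 rfl grp9_24 rows_ok_1177

theorem grp9_26 : rowsOK 144000 3375 = true :=
  rowsOK_join 144000 3250 125 147250 rfl grp9_25 rows_ok_1178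

theorem grp9_27 : rowsOK 144000 3500 = true :=
  rowsOK_join 144000 3375 125 147375 rfl grp9_26 rows_ok_1179

theorem grp9_28 : rowsOK 144000 3625 = true :=
  rowsOK_join 144000 3500 125 147500 rfl grp9_27 rows_ok_1180

theorem grp9_29 : rowsOK 144000 3750 = true :=
  rowsOK_join 144000 3625 125 147625 rfl grp9_28 rows_ok_1181

theorem grp9_30 : rowsOK 144000 3875 = true :=
  rowsOK_join 144000 3750 125 147750 rfl grp9_29 rows_ok_1182

theorem grp9_31 : rowsOK 144000 4000 = true :=
  rowsOK_join 144000 3875 125 147875 rfl grp9_30 rows_ok_1183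

theorem grp9_32 : rowsOK 144000 4125 = true :=
  rowsOK_join 144000 4000 125 148000 rfl grp9_31 rows_ok_1184

theorem grp9_33 : rowsOK 144000 4250 = true :=
  rowsOK_join 144000 4125 125 148125 rfl grp9_32 rows_ok_1185

theorem grp9_34 : rowsOK 144000 4375 = true :=
  rowsOK_join 144000 4250 125 148250 rfl grp9_33 rows_ok_1186

theorem grp9_35 : rowsOK 144000 4500 = true :=
  rowsOK_join 144000 4375 125 148375 rfl grp9_34 rows_ok_1187

theorem grp9_36 : rowsOK 144000 4625 = true :=
  rowsOK_join 144000 4500 125 148500 rfl grp9_35 rows_ok_1188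

theorem grp9_37 : rowsOK 144000 4750 = true :=
  rowsOK_join 144000 4625 125 148625 rfl grp9_36 rows_ok_1189

theorem grp9_38 : rowsOK 144000 4875 = true :=
  rowsOK_join 144000 4750 125 148750 rfl grp9_37 rows_ok_1190

theorem grp9_39 : rowsOK 144000 5000 = true :=
  rowsOK_join 144000 4875 125 148875 rfl grp9_38 rows_ok_1191

theorem grp9_40 : rowsOK 144000 5125 = true :=
  rowsOK_join 144000 5000 125 149000 rfl grp9_39 rows_ok_1192

theorem grp9_41 : rowsOK 144000 5250 = true :=
  rowsOK_join 144000 5125 125 149125 rfl grp9_40 rows_ok_1193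

theorem grp9_42 : rowsOK 144000 5375 = true :=
  rowsOK_join 144000 5250 125 149250 rfl grp9_41 rows_ok_1194

theorem grp9_43 : rowsOK 144000 5500 = true :=
  rowsOK_join 144000 5375 125 149375 rfl grp9_42 rows_ok_1195

theorem grp9_44 : rowsOK 144000 5625 = true :=
  rowsOK_join 144000 5500 125 149500 rfl grp9_43 rows_ok_1196

theorem grp9_45 : rowsOK 144000 5750 = true :=
  rowsOK_join 144000 5625 125 149625 rfl grp9_44 rows_ok_1197

theorem grp9_46 : rowsOK 144000 5875 = true :=
  rowsOK_join 144000 5750 125 149750 rfl grp9_45 rows_ok_1198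

theorem grp9_47 : rowsOK 144000 6000 = true :=
  rowsOK_join 144000 5875 125 149875 rfl grp9_46 rows_ok_1199

theorem grp9_48 : rowsOK 144000 6125 = true :=
  rowsOK_join 144000 6000 125 150000 rfl grp9_47 rows_ok_1200

theorem grp9_49 : rowsOK 144000 6250 = true :=
  rowsOK_join 144000 6125 125 150125 rfl grp9_48 rows_ok_1201

theorem grp9_50 : rowsOK 144000 6375 = true :=
  rowsOK_join 144000 6250 125 150250 rfl grp9_49 rows_ok_1202

theorem grp9_51 : rowsOK 144000 6500 = true :=
  rowsOK_join 144000 6375 125 150375 rfl grp9_50 rows_ok_1203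

theorem grp9_52 : rowsOK 144000 6625 = true :=
  rowsOK_join 144000 6500 125 150500 rfl grp9_51 rows_ok_1204

theorem grp9_53 : rowsOK 144000 6750 = true :=
  rowsOK_join 144000 6625 125 150625 rfl grp9_52 rows_ok_1205

theorem grp9_54 : rowsOK 144000 6875 = true :=
  rowsOK_join 144000 6750 125 150750 rfl grp9_53 rows_ok_1206

theorem grp9_55 : rowsOK 144000 7000 = true :=
  rowsOK_join 144000 6875 125 150875 rfl grp9_54 rows_ok_1207

theorem grp9_56 : rowsOK 144000 7125 = true :=
  rowsOK_join 144000 7000 125 151000 rfl grp9_55 rows_ok_1208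

theorem grp9_57 : rowsOK 144000 7250 = true :=
  rowsOK_join 144000 7125 125 151125 rfl grp9_56 rows_ok_1209

theorem grp9_58 : rowsOK 144000 7375 = true :=
  rowsOK_join 144000 7250 125 151250 rfl grp9_57 rows_ok_1210

theorem grp9_59 : rowsOK 144000 7500 = true :=
  rowsOK_join 144000 7375 125 151375 rfl grp9_58 rows_ok_1211

theorem grp9_60 : rowsOK 144000 7625 = true :=
  rowsOK_join 144000 7500 125 151500 rfl grp9_59 rows_ok_1212

theorem grp9_61 : rowsOK 144000 7750 = true :=
  rowsOK_join 144000 7625 125 151625 rfl grp9_60 rows_ok_1213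

theorem grp9_62 : rowsOK 144000 7875 = true :=
  rowsOK_join 144000 7750 125 151750 rfl grp9_61 rows_ok_1214

theorem grp9_63 : rowsOK 144000 8000 = true :=
  rowsOK_join 144000 7875 125 151875 rfl grp9_62 rows_ok_1215

theorem grp9_64 : rowsOK 144000 8125 = true :=
  rowsOK_join 144000 8000 125 152000 rfl grp9_63 rows_ok_1216

theorem grp9_65 : rowsOK 144000 8250 = true :=
  rowsOK_join 144000 8125 125 152125 rfl grp9_64 rows_ok_1217

theorem grp9_66 : rowsOK 144000 8375 = true :=
  rowsOK_join 144000 8250 125 152250 rfl grp9_65 rows_ok_1218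

theorem grp9_67 : rowsOK 144000 8500 = true :=
  rowsOK_join 144000 8375 125 152375 rfl grp9_66 rows_ok_1219

theorem grp9_68 : rowsOK 144000 8625 = true :=
  rowsOK_join 144000 8500 125 152500 rfl grp9_67 rows_ok_1220

theorem grp9_69 : rowsOK 144000 8750 = true :=
  rowsOK_join 144000 8625 125 152625 rfl grp9_68 rows_ok_1221

theorem grp9_70 : rowsOK 144000 8875 = true :=
  rowsOK_join 144000 8750 125 152750 rfl grp9_69 rows_ok_1222

theorem grp9_71 : rowsOK 144000 9000 = true :=
  rowsOK_join 144000 8875 125 152875 rfl grp9_70 rows_ok_1223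

theorem grp9_72 : rowsOK 144000 9125 = true :=
  rowsOK_join 144000 9000 125 153000 rfl grp9_71 rows_ok_1224

theorem grp9_73 : rowsOK 144000 9250 = true :=
  rowsOK_join 144000 9125 125 153125 rfl grp9_72 rows_ok_1225

theorem grp9_74 : rowsOK 144000 9375 = true :=
  rowsOK_join 144000 9250 125 153250 rfl grp9_73 rows_ok_1226

theorem grp9_75 : rowsOK 144000 9500 = true :=
  rowsOK_join 144000 9375 125 153375 rfl grp9_74 rows_ok_1227

theorem grp9_76 : rowsOK 144000 9625 = true :=
  rowsOK_join 144000 9500 125 153500 rfl grp9_75 rows_ok_1228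

theorem grp9_77 : rowsOK 144000 9750 = true :=
  rowsOK_join 144000 9625 125 153625 rfl grp9_76 rows_ok_1229

theorem grp9_78 : rowsOK 144000 9875 = true :=
  rowsOK_join 144000 9750 125 153750 rfl grp9_77 rows_ok_1230

theorem grp9_79 : rowsOK 144000 10000 = true :=
  rowsOK_join 144000 9875 125 153875 rfl grp9_78 rows_ok_1231

theorem grp9_80 : rowsOK 144000 10125 = true :=
  rowsOK_join 144000 10000 125 154000 rfl grp9_79 rows_ok_1232

theorem grp9_81 : rowsOK 144000 10250 = true :=
  rowsOK_join 144000 10125 125 154125 rfl grp9_80 rows_ok_1233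

theorem grp9_82 : rowsOK 144000 10375 = true :=
  rowsOK_join 144000 10250 125 154250 rfl grp9_81 rows_ok_1234

theorem grp9_83 : rowsOK 144000 10500 = true :=
  rowsOK_join 144000 10375 125 154375 rfl grp9_82 rows_ok_1235

theorem grp9_84 : rowsOK 144000 10625 = true :=
  rowsOK_join 144000 10500 125 154500 rfl grp9_83 rows_ok_1236

theorem grp9_85 : rowsOK 144000 10750 = true :=
  rowsOK_join 144000 10625 125 154625 rfl grp9_84 rows_ok_1237

theorem grp9_86 : rowsOK 144000 10875 = true :=
  rowsOK_join 144000 10750 125 154750 rfl grp9_85 rows_ok_1238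

theorem grp9_87 : rowsOK 144000 11000 = true :=
  rowsOK_join 144000 10875 125 154875 rfl grp9_86 rows_ok_1239

theorem grp9_88 : rowsOK 144000 11125 = true :=
  rowsOK_join 144000 11000 125 155000 rfl grp9_87 rows_ok_1240

theorem grp9_89 : rowsOK 144000 11250 = true :=
  rowsOK_join 144000 11125 125 155125 rfl grp9_88 rows_ok_1241

theorem grp9_90 : rowsOK 144000 11375 = true :=
  rowsOK_join 144000 11250 125 155250 rfl grp9_89 rows_ok_1242

theorem grp9_91 : rowsOK 144000 11500 = true :=
  rowsOK_join 144000 11375 125 155375 rfl grp9_90 rows_ok_1243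

theorem grp9_92 : rowsOK 144000 11625 = true :=
  rowsOK_join 144000 11500 125 155500 rfl grp9_91 rows_ok_1244

theorem grp9_93 : rowsOK 144000 11750 = true :=
  rowsOK_join 144000 11625 125 155625 rfl grp9_92 rows_ok_1245

theorem grp9_94 : rowsOK 144000 11875 = true :=
  rowsOK_join 144000 11750 125 155750 rfl grp9_93 rows_ok_1246

theorem grp9_95 : rowsOK 144000 12000 = true :=
  rowsOK_join 144000 11875 125 155875 rfl grp9_94 rows_ok_1247

theorem grp9_96 : rowsOK 144000 12125 = true :=
  rowsOK_join 144000 12000 125 156000 rfl grp9_95 rows_ok_1248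

theorem grp9_97 : rowsOK 144000 12250 = true :=
  rowsOK_join 144000 12125 125 156125 rfl grp9_96 rows_ok_1249

theorem grp9_98 : rowsOK 144000 12375 = true :=
  rowsOK_join 144000 12250 125 156250 rfl grp9_97 rows_ok_1250

theorem grp9_99 : rowsOK 144000 12500 = true :=
  rowsOK_join 144000 12375 125 156375 rfl grp9_98 rows_ok_1251

theorem grp9_100 : rowsOK 144000 12625 = true :=
  rowsOK_join 144000 12500 125 156500 rfl grp9_99 rows_ok_1252

theorem grp9_101 : rowsOK 144000 12750 = true :=
  rowsOK_join 144000 12625 125 156625 rfl grp9_100 rows_ok_1253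

theorem grp9_102 : rowsOK 144000 12875 = true :=
  rowsOK_join 144000 12750 125 156750 rfl grp9_101 rows_ok_1254

theorem grp9_103 : rowsOK 144000 13000 = true :=
  rowsOK_join 144000 12875 125 156875 rfl grp9_102 rows_ok_1255

theorem grp9_104 : rowsOK 144000 13125 = true :=
  rowsOK_join 144000 13000 125 157000 rfl grp9_103 rows_ok_1256

theorem grp9_105 : rowsOK 144000 13250 = true :=
  rowsOK_join 144000 13125 125 157125 rfl grp9_104 rows_ok_1257

theorem grp9_106 : rowsOK 144000 13375 = true :=
  rowsOK_join 144000 13250 125 157250 rfl grp9_105 rows_ok_1258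

theorem grp9_107 : rowsOK 144000 13500 = true :=
  rowsOK_join 144000 13375 125 157375 rfl grp9_106 rows_ok_1259

theorem grp9_108 : rowsOK 144000 13625 = true :=
  rowsOK_join 144000 13500 125 157500 rfl grp9_107 rows_ok_1260

theorem grp9_109 : rowsOK 144000 13750 = true :=
  rowsOK_join 144000 13625 125 157625 rfl grp9_108 rows_ok_1261

theorem grp9_110 : rowsOK 144000 13875 = true :=
  rowsOK_join 144000 13750 125 157750 rfl grp9_109 rows_ok_1262

theorem grp9_111 : rowsOK 144000 14000 = true :=
  rowsOK_join 144000 13875 125 157875 rfl grp9_110 rows_ok_1263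

theorem grp9_112 : rowsOK 144000 14125 = true :=
  rowsOK_join 144000 14000 125 158000 rfl grp9_111 rows_ok_1264

theorem grp9_113 : rowsOK 144000 14250 = true :=
  rowsOK_join 144000 14125 125 158125 rfl grp9_112 rows_ok_1265

theorem grp9_114 : rowsOK 144000 14375 = true :=
  rowsOK_join 144000 14250 125 158250 rfl grp9_113 rows_ok_1266

theorem grp9_115 : rowsOK 144000 14500 = true :=
  rowsOK_join 144000 14375 125 158375 rfl grp9_114 rows_ok_1267

theorem grp9_116 : rowsOK 144000 14625 = true :=
  rowsOK_join 144000 14500 125 158500 rfl grp9_115 rows_ok_1268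

theorem grp9_117 : rowsOK 144000 14750 = true :=
  rowsOK_join 144000 14625 125 158625 rfl grp9_116 rows_ok_1269

theorem grp9_118 : rowsOK 144000 14875 = true :=
  rowsOK_join 144000 14750 125 158750 rfl grp9_117 rows_ok_1270

theorem grp9_119 : rowsOK 144000 15000 = true :=
  rowsOK_join 144000 14875 125 158875 rfl grp9_118 rows_ok_1271

theorem grp9_120 : rowsOK 144000 15125 = true :=
  rowsOK_join 144000 15000 125 159000 rfl grp9_119 rows_ok_1272

theorem grp9_121 : rowsOK 144000 15250 = true :=
  rowsOK_join 144000 15125 125 159125 rfl grp9_120 rows_ok_1273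

theorem grp9_122 : rowsOK 144000 15375 = true :=
  rowsOK_join 144000 15250 125 159250 rfl grp9_121 rows_ok_1274

theorem grp9_123 : rowsOK 144000 15500 = true :=
  rowsOK_join 144000 15375 125 159375 rfl grp9_122 rows_ok_1275

theorem grp9_124 : rowsOK 144000 15625 = true :=
  rowsOK_join 144000 15500 125 159500 rfl grp9_123 rows_ok_1276

theorem grp9_125 : rowsOK 144000 15750 = true :=
  rowsOK_join 144000 15625 125 159625 rfl grp9_124 rows_ok_1277

theorem grp9_126 : rowsOK 144000 15875 = true :=
  rowsOK_join 144000 15750 125 159750 rfl grp9_125 rows_ok_1278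

theorem rows_ok_grp_9 : rowsOK 144000 16000 = true :=
  rowsOK_join 144000 15875 125 159875 rfl grp9_126 rows_ok_1279

end Cfsg.Agent.Lib.Helper7.Fi24L
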