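import Cfsg.Agent.Lib.Helper7.Fi24LC

/-! # The multiplier of the Fischer group Fi₂₄′, a threefold cover of a permutation representation of the presented group Fi₂₄: the check that the entries of the table are rows and places in the fibre (generated) -/

set_option autoImplicit false
set_option maxRecDepth 100000
set_option maxHeartbeats 0

namespace Cfsg.Agent.Lib.Helper7.Fi24L

theorem rows_bd_0 : rowsBd 0 20000 = true := by decide +kernel

theorem rows_bd_1 : rowsBd 20000 20000 = true := by decide +kernel

theorem rows_bd_2 : rowsBd 40000 20000 = true := by decide +kernel

theorem rows_bd_3 : rowsBd 60000 20000 = true := by decide +kernel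

theorem rows_bd_4 : rowsBd 80000 20000 = true := by decide +kernel

theorem rows_bd_5 : rowsBd 100000 20000 = true := by decide +kernel

theorem rows_bd_6 : rowsBd 120000 20000 = true := by decide +kernel

theorem rows_bd_7 : rowsBd 140000 20000 = true := by decide +kernel

theorem rows_bd_8 : rowsBd 160000 20000 = true := by decide +kernel

theorem rows_bd_9 : rowsBd 180000 20000 = true := by decide +kernel

theorem rows_bd_10 : rowsBd 200000 20000 = true := by decide +kernel

theorem rows_bd_11 : rowsBd 220000 20000 = true := by decide +kernel

theorem rows_bd_12 : rowsBd 240000 20000 = true := by decide +kernel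

theorem rows_bd_13 : rowsBd 260000 20000 = true := by decide +kernel

theorem rows_bd_14 : rowsBd 280000 20000 = true := by decide +kernel

theorem rows_bd_15 : rowsBd 300000 6936 = true := by decide +kernel

end Cfsg.Agent.Lib.Helper7.Fi24L
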