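import Cfsg.Agent.Lib.Helper7.Fi24LG0
import Cfsg.Agent.Lib.Helper7.Fi24LG1
import Cfsg.Agent.Lib.Helper7.Fi24LG2
import Cfsg.Agent.Lib.Helper7.Fi24LG3
import Cfsg.Agent.Lib.Helper7.Fi24LG4
import Cfsg.Agent.Lib.Helper7.Fi24LG5
import Cfsg.Agent.Lib.Helper7.Fi24LG6
import Cfsg.Agent.Lib.Helper7.Fi24LG7
import Cfsg.Agent.Lib.Helper7.Fi24LG8
import Cfsg.Agent.Lib.Helper7.Fi24LG9
import Cfsg.Agent.Lib.Helper7.Fi24LG10
import Cfsg.Agent.Lib.Helper7.Fi24LG11
import Cfsg.Agent.Lib.Helper7.Fi24LG12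
import Cfsg.Agent.Lib.Helper7.Fi24LG13
import Cfsg.Agent.Lib.Helper7.Fi24LG14
import Cfsg.Agent.Lib.Helper7.Fi24LG15
import Cfsg.Agent.Lib.Helper7.Fi24LG16
import Cfsg.Agent.Lib.Helper7.Fi24LG17
import Cfsg.Agent.Lib.Helper7.Fi24LG18
import Cfsg.Agent.Lib.Helper7.Fi24LG19
import Cfsg.Agent.Lib.Helper7.Fi24LKB

/-!
# The multiplier of the Fischer group Fi₂₄′, a threefold cover of a permutation representation of the presented group Fi₂₄: all the rows are checked (generated)

Every relator word of the list `chkL` moves the point `(a, 0)` to `(a, e)`, for every row `a`, and the entries of the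
table are rows and places in the fibre.
-/

set_option autoImplicit false
set_option maxRecDepth 100000

namespace Cfsg.Agent.Lib.Helper7.Fi24L

theorem acc_1 : rowsOK 0 32000 = true :=
  rowsOK_join 0 16000 16000 16000 rfl rows_ok_grp_0 rows_ok_grp_1

theorem acc_2 : rowsOK 0 48000 = true :=
  rowsOK_join 0 32000 16000 32000 rfl acc_1 rows_ok_grp_2

theorem acc_3 : rowsOK 0 64000 = true :=
  rowsOK_join 0 48000 16000 48000 rfl acc_2 rows_ok_grp_3

theorem acc_4 : rowsOK 0 80000 = true :=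
  rowsOK_join 0 64000 16000 64000 rfl acc_3 rows_ok_grp_4

theorem acc_5 : rowsOK 0 96000 = true :=
  rowsOK_join 0 80000 16000 80000 rfl acc_4 rows_ok_grp_5

theorem acc_6 : rowsOK 0 112000 = true :=
  rowsOK_join 0 96000 16000 96000 rfl acc_5 rows_ok_grp_6

theorem acc_7 : rowsOK 0 128000 = true :=
  rowsOK_join 0 112000 16000 112000 rfl acc_6 rows_ok_grp_7

theorem acc_8 : rowsOK 0 144000 = true :=
  rowsOK_join 0 128000 16000 128000 rfl acc_7 rows_ok_grp_8

theorem acc_9 : rowsOK 0 160000 = true :=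
  rowsOK_join 0 144000 16000 144000 rfl acc_8 rows_ok_grp_9

theorem acc_10 : rowsOK 0 176000 = true :=
  rowsOK_join 0 160000 16000 160000 rfl acc_9 rows_ok_grp_10

theorem acc_11 : rowsOK 0 192000 = true :=
  rowsOK_join 0 176000 16000 176000 rfl acc_10 rows_ok_grp_11

theorem acc_12 : rowsOK 0 208000 = true :=
  rowsOK_join 0 192000 16000 192000 rfl acc_11 rows_ok_grp_12

theorem acc_13 : rowsOK 0 224000 = true :=
  rowsOK_join 0 208000 16000 208000 rfl acc_12 rows_ok_grp_13

theorem acc_14 : rowsOK 0 240000 = true :=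
  rowsOK_join 0 224000 16000 224000 rfl acc_13 rows_ok_grp_14

theorem acc_15 : rowsOK 0 256000 = true :=
  rowsOK_join 0 240000 16000 240000 rfl acc_14 rows_ok_grp_15

theorem acc_16 : rowsOK 0 272000 = true :=
  rowsOK_join 0 256000 16000 256000 rfl acc_15 rows_ok_grp_16

theorem acc_17 : rowsOK 0 288000 = true :=
  rowsOK_join 0 272000 16000 272000 rfl acc_16 rows_ok_grp_17

theorem acc_18 : rowsOK 0 304000 = true :=
  rowsOK_join 0 288000 16000 288000 rfl acc_17 rows_ok_grp_18

theorem rows_ok_all : rowsOK 0 306936 = true :=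
  rowsOK_join 0 304000 2936 304000 rfl acc_18 rows_ok_grp_19

theorem bacc_1 : rowsBd 0 40000 = true :=
  rowsBd_join 0 20000 20000 20000 rfl rows_bd_0 rows_bd_1

theorem bacc_2 : rowsBd 0 60000 = true :=
  rowsBd_join 0 40000 20000 40000 rfl bacc_1 rows_bd_2

theorem bacc_3 : rowsBd 0 80000 = true :=
  rowsBd_join 0 60000 20000 60000 rfl bacc_2 rows_bd_3

theorem bacc_4 : rowsBd 0 100000 = true :=
  rowsBd_join 0 80000 20000 80000 rfl bacc_3 rows_bd_4

theorem bacc_5 : rowsBd 0 120000 = true :=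
  rowsBd_join 0 100000 20000 100000 rfl bacc_4 rows_bd_5

theorem bacc_6 : rowsBd 0 140000 = true :=
  rowsBd_join 0 120000 20000 120000 rfl bacc_5 rows_bd_6

theorem bacc_7 : rowsBd 0 160000 = true :=
  rowsBd_join 0 140000 20000 140000 rfl bacc_6 rows_bd_7

theorem bacc_8 : rowsBd 0 180000 = true :=
  rowsBd_join 0 160000 20000 160000 rfl bacc_7 rows_bd_8

theorem bacc_9 : rowsBd 0 200000 = true :=
  rowsBd_join 0 180000 20000 180000 rfl bacc_8 rows_bd_9

theorem bacc_10 : rowsBd 0 220000 = true :=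
  rowsBd_join 0 200000 20000 200000 rfl bacc_9 rows_bd_10

theorem bacc_11 : rowsBd 0 240000 = true :=
  rowsBd_join 0 220000 20000 220000 rfl bacc_10 rows_bd_11

theorem bacc_12 : rowsBd 0 260000 = true :=
  rowsBd_join 0 240000 20000 240000 rfl bacc_11 rows_bd_12

theorem bacc_13 : rowsBd 0 280000 = true :=
  rowsBd_join 0 260000 20000 260000 rfl bacc_12 rows_bd_13

theorem bacc_14 : rowsBd 0 300000 = true :=
  rowsBd_join 0 280000 20000 280000 rfl bacc_13 rows_bd_14

theorem rows_bd_all : rowsBd 0 306936 = true :=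
  rowsBd_join 0 300000 6936 300000 rfl bacc_14 rows_bd_15

/-- **every relator word of the list moves the point `(a, 0)` to `(a, e)`** -/
theorem chk_all : ∀ a, a < 306936 → ∀ p ∈ chkL, runN p.1 p.2.1 a = a + 1048576 * p.2.2 := by
  intro a ha p hp
  have h1 := (rowsOK_iff _ _).1 rows_ok_all a ha p hp
  rw [Nat.zero_add] at h1
  exact h1

/-- **the entries of the table are rows and places in the fibre** -/
theorem bd_all : ∀ a, a < 306936 → ∀ s, s < 12 →
    Nat.land (ent a s) 1048575 < 306936 ∧ Nat.shiftRight (ent a s) 20 < 3 := by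
  intro a ha s hs
  have h1 := (rowsBd_iff _ _).1 rows_bd_all a ha s hs
  rw [Nat.zero_add] at h1
  exact h1

end Cfsg.Agent.Lib.Helper7.Fi24L
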