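import Cfsg.Agent.Lib.Helper7.Fi24LC

/-! # The multiplier of the Fischer group Fi₂₄′, a threefold cover of a permutation representation of the presented group Fi₂₄: the check of the relators at a part of the rows (generated) -/

set_option autoImplicit false
set_option maxRecDepth 100000
set_option maxHeartbeats 0

namespace Cfsg.Agent.Lib.Helper7.Fi24L

theorem rows_ok_8 : rowsOK 1000 125 = true := by decide +kernel

theorem rows_ok_9 : rowsOK 1125 125 = true := by decide +kernel

theorem rows_ok_10 : rowsOK 1250 125 = true := by decide +kernel

theorem rows_ok_11 : rowsOK 1375 125 = true := by decide +kernel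

theorem rows_ok_12 : rowsOK 1500 125 = true := by decide +kernel

theorem rows_ok_13 : rowsOK 1625 125 = true := by decide +kernel

theorem rows_ok_14 : rowsOK 1750 125 = true := by decide +kernel

theorem rows_ok_15 : rowsOK 1875 125 = true := by decide +kernel

end Cfsg.Agent.Lib.Helper7.Fi24L
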