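import Cfsg.Agent.Lib.Helper7.Fi24LK0
import Cfsg.Agent.Lib.Helper7.Fi24LK1
import Cfsg.Agent.Lib.Helper7.Fi24LK2
import Cfsg.Agent.Lib.Helper7.Fi24LK3
import Cfsg.Agent.Lib.Helper7.Fi24LK4
import Cfsg.Agent.Lib.Helper7.Fi24LK5
import Cfsg.Agent.Lib.Helper7.Fi24LK6
import Cfsg.Agent.Lib.Helper7.Fi24LK7
import Cfsg.Agent.Lib.Helper7.Fi24LK8
import Cfsg.Agent.Lib.Helper7.Fi24LK9
import Cfsg.Agent.Lib.Helper7.Fi24LK10
import Cfsg.Agent.Lib.Helper7.Fi24LK11
import Cfsg.Agent.Lib.Helper7.Fi24LK12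
import Cfsg.Agent.Lib.Helper7.Fi24LK13
import Cfsg.Agent.Lib.Helper7.Fi24LK14
import Cfsg.Agent.Lib.Helper7.Fi24LK15
import Cfsg.Agent.Lib.Helper7.Fi24LE

/-! # The multiplier of the Fischer group Fi₂₄′, a threefold cover of a permutation representation of the presented group Fi₂₄: the checks of a part of the rows are joined (generated) -/

set_option autoImplicit false
set_option maxRecDepth 100000

namespace Cfsg.Agent.Lib.Helper7.Fi24L

theorem grp0_1 : rowsOK 0 250 = true :=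
  rowsOK_join 0 125 125 125 rfl rows_ok_0 rows_ok_1

theorem grp0_2 : rowsOK 0 375 = true :=
  rowsOK_join 0 250 125 250 rfl grp0_1 rows_ok_2

theorem grp0_3 : rowsOK 0 500 = true :=
  rowsOK_join 0 375 125 375 rfl grp0_2 rows_ok_3

theorem grp0_4 : rowsOK 0 625 = true :=
  rowsOK_join 0 500 125 500 rfl grp0_3 rows_ok_4

theorem grp0_5 : rowsOK 0 750 = true :=
  rowsOK_join 0 625 125 625 rfl grp0_4 rows_ok_5

theorem grp0_6 : rowsOK 0 875 = true :=
  rowsOK_join 0 750 125 750 rfl grp0_5 rows_ok_6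

theorem grp0_7 : rowsOK 0 1000 = true :=
  rowsOK_join 0 875 125 875 rfl grp0_6 rows_ok_7

theorem grp0_8 : rowsOK 0 1125 = true :=
  rowsOK_join 0 1000 125 1000 rfl grp0_7 rows_ok_8

theorem grp0_9 : rowsOK 0 1250 = true :=
  rowsOK_join 0 1125 125 1125 rfl grp0_8 rows_ok_9

theorem grp0_10 : rowsOK 0 1375 = true :=
  rowsOK_join 0 1250 125 1250 rfl grp0_9 rows_ok_10

theorem grp0_11 : rowsOK 0 1500 = true :=
  rowsOK_join 0 1375 125 1375 rfl grp0_10 rows_ok_11

theorem grp0_12 : rowsOK 0 1625 = true :=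
  rowsOK_join 0 1500 125 1500 rfl grp0_11 rows_ok_12

theorem grp0_13 : rowsOK 0 1750 = true :=
  rowsOK_join 0 1625 125 1625 rfl grp0_12 rows_ok_13

theorem grp0_14 : rowsOK 0 1875 = true :=
  rowsOK_join 0 1750 125 1750 rfl grp0_13 rows_ok_14

theorem grp0_15 : rowsOK 0 2000 = true :=
  rowsOK_join 0 1875 125 1875 rfl grp0_14 rows_ok_15

theorem grp0_16 : rowsOK 0 2125 = true :=
  rowsOK_join 0 2000 125 2000 rfl grp0_15 rows_ok_16

theorem grp0_17 : rowsOK 0 2250 = true :=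
  rowsOK_join 0 2125 125 2125 rfl grp0_16 rows_ok_17

theorem grp0_18 : rowsOK 0 2375 = true :=
  rowsOK_join 0 2250 125 2250 rfl grp0_17 rows_ok_18

theorem grp0_19 : rowsOK 0 2500 = true :=
  rowsOK_join 0 2375 125 2375 rfl grp0_18 rows_ok_19

theorem grp0_20 : rowsOK 0 2625 = true :=
  rowsOK_join 0 2500 125 2500 rfl grp0_19 rows_ok_20

theorem grp0_21 : rowsOK 0 2750 = true :=
  rowsOK_join 0 2625 125 2625 rfl grp0_20 rows_ok_21

theorem grp0_22 : rowsOK 0 2875 = true :=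
  rowsOK_join 0 2750 125 2750 rfl grp0_21 rows_ok_22

theorem grp0_23 : rowsOK 0 3000 = true :=
  rowsOK_join 0 2875 125 2875 rfl grp0_22 rows_ok_23

theorem grp0_24 : rowsOK 0 3125 = true :=
  rowsOK_join 0 3000 125 3000 rfl grp0_23 rows_ok_24

theorem grp0_25 : rowsOK 0 3250 = true :=
  rowsOK_join 0 3125 125 3125 rfl grp0_24 rows_ok_25

theorem grp0_26 : rowsOK 0 3375 = true :=
  rowsOK_join 0 3250 125 3250 rfl grp0_25 rows_ok_26

theorem grp0_27 : rowsOK 0 3500 = true :=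
  rowsOK_join 0 3375 125 3375 rfl grp0_26 rows_ok_27

theorem grp0_28 : rowsOK 0 3625 = true :=
  rowsOK_join 0 3500 125 3500 rfl grp0_27 rows_ok_28

theorem grp0_29 : rowsOK 0 3750 = true :=
  rowsOK_join 0 3625 125 3625 rfl grp0_28 rows_ok_29

theorem grp0_30 : rowsOK 0 3875 = true :=
  rowsOK_join 0 3750 125 3750 rfl grp0_29 rows_ok_30

theorem grp0_31 : rowsOK 0 4000 = true :=
  rowsOK_join 0 3875 125 3875 rfl grp0_30 rows_ok_31

theorem grp0_32 : rowsOK 0 4125 = true :=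
  rowsOK_join 0 4000 125 4000 rfl grp0_31 rows_ok_32

theorem grp0_33 : rowsOK 0 4250 = true :=
  rowsOK_join 0 4125 125 4125 rfl grp0_32 rows_ok_33

theorem grp0_34 : rowsOK 0 4375 = true :=
  rowsOK_join 0 4250 125 4250 rfl grp0_33 rows_ok_34

theorem grp0_35 : rowsOK 0 4500 = true :=
  rowsOK_join 0 4375 125 4375 rfl grp0_34 rows_ok_35

theorem grp0_36 : rowsOK 0 4625 = true :=
  rowsOK_join 0 4500 125 4500 rfl grp0_35 rows_ok_36

theorem grp0_37 : rowsOK 0 4750 = true :=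
  rowsOK_join 0 4625 125 4625 rfl grp0_36 rows_ok_37

theorem grp0_38 : rowsOK 0 4875 = true :=
  rowsOK_join 0 4750 125 4750 rfl grp0_37 rows_ok_38

theorem grp0_39 : rowsOK 0 5000 = true :=
  rowsOK_join 0 4875 125 4875 rfl grp0_38 rows_ok_39

theorem grp0_40 : rowsOK 0 5125 = true :=
  rowsOK_join 0 5000 125 5000 rfl grp0_39 rows_ok_40

theorem grp0_41 : rowsOK 0 5250 = true :=
  rowsOK_join 0 5125 125 5125 rfl grp0_40 rows_ok_41

theorem grp0_42 : rowsOK 0 5375 = true :=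
  rowsOK_join 0 5250 125 5250 rfl grp0_41 rows_ok_42

theorem grp0_43 : rowsOK 0 5500 = true :=
  rowsOK_join 0 5375 125 5375 rfl grp0_42 rows_ok_43

theorem grp0_44 : rowsOK 0 5625 = true :=
  rowsOK_join 0 5500 125 5500 rfl grp0_43 rows_ok_44

theorem grp0_45 : rowsOK 0 5750 = true :=
  rowsOK_join 0 5625 125 5625 rfl grp0_44 rows_ok_45

theorem grp0_46 : rowsOK 0 5875 = true :=
  rowsOK_join 0 5750 125 5750 rfl grp0_45 rows_ok_46

theorem grp0_47 : rowsOK 0 6000 = true :=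
  rowsOK_join 0 5875 125 5875 rfl grp0_46 rows_ok_47

theorem grp0_48 : rowsOK 0 6125 = true :=
  rowsOK_join 0 6000 125 6000 rfl grp0_47 rows_ok_48

theorem grp0_49 : rowsOK 0 6250 = true :=
  rowsOK_join 0 6125 125 6125 rfl grp0_48 rows_ok_49

theorem grp0_50 : rowsOK 0 6375 = true :=
  rowsOK_join 0 6250 125 6250 rfl grp0_49 rows_ok_50

theorem grp0_51 : rowsOK 0 6500 = true :=
  rowsOK_join 0 6375 125 6375 rfl grp0_50 rows_ok_51

theorem grp0_52 : rowsOK 0 6625 = true :=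
  rowsOK_join 0 6500 125 6500 rfl grp0_51 rows_ok_52

theorem grp0_53 : rowsOK 0 6750 = true :=
  rowsOK_join 0 6625 125 6625 rfl grp0_52 rows_ok_53

theorem grp0_54 : rowsOK 0 6875 = true :=
  rowsOK_join 0 6750 125 6750 rfl grp0_53 rows_ok_54

theorem grp0_55 : rowsOK 0 7000 = true :=
  rowsOK_join 0 6875 125 6875 rfl grp0_54 rows_ok_55

theorem grp0_56 : rowsOK 0 7125 = true :=
  rowsOK_join 0 7000 125 7000 rfl grp0_55 rows_ok_56

theorem grp0_57 : rowsOK 0 7250 = true :=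
  rowsOK_join 0 7125 125 7125 rfl grp0_56 rows_ok_57

theorem grp0_58 : rowsOK 0 7375 = true :=
  rowsOK_join 0 7250 125 7250 rfl grp0_57 rows_ok_58

theorem grp0_59 : rowsOK 0 7500 = true :=
  rowsOK_join 0 7375 125 7375 rfl grp0_58 rows_ok_59

theorem grp0_60 : rowsOK 0 7625 = true :=
  rowsOK_join 0 7500 125 7500 rfl grp0_59 rows_ok_60

theorem grp0_61 : rowsOK 0 7750 = true :=
  rowsOK_join 0 7625 125 7625 rfl grp0_60 rows_ok_61

theorem grp0_62 : rowsOK 0 7875 = true :=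
  rowsOK_join 0 7750 125 7750 rfl grp0_61 rows_ok_62

theorem grp0_63 : rowsOK 0 8000 = true :=
  rowsOK_join 0 7875 125 7875 rfl grp0_62 rows_ok_63

theorem grp0_64 : rowsOK 0 8125 = true :=
  rowsOK_join 0 8000 125 8000 rfl grp0_63 rows_ok_64

theorem grp0_65 : rowsOK 0 8250 = true :=
  rowsOK_join 0 8125 125 8125 rfl grp0_64 rows_ok_65

theorem grp0_66 : rowsOK 0 8375 = true :=
  rowsOK_join 0 8250 125 8250 rfl grp0_65 rows_ok_66

theorem grp0_67 : rowsOK 0 8500 = true :=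
  rowsOK_join 0 8375 125 8375 rfl grp0_66 rows_ok_67

theorem grp0_68 : rowsOK 0 8625 = true :=
  rowsOK_join 0 8500 125 8500 rfl grp0_67 rows_ok_68

theorem grp0_69 : rowsOK 0 8750 = true :=
  rowsOK_join 0 8625 125 8625 rfl grp0_68 rows_ok_69

theorem grp0_70 : rowsOK 0 8875 = true :=
  rowsOK_join 0 8750 125 8750 rfl grp0_69 rows_ok_70

theorem grp0_71 : rowsOK 0 9000 = true :=
  rowsOK_join 0 8875 125 8875 rfl grp0_70 rows_ok_71

theorem grp0_72 : rowsOK 0 9125 = true :=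
  rowsOK_join 0 9000 125 9000 rfl grp0_71 rows_ok_72

theorem grp0_73 : rowsOK 0 9250 = true :=
  rowsOK_join 0 9125 125 9125 rfl grp0_72 rows_ok_73

theorem grp0_74 : rowsOK 0 9375 = true :=
  rowsOK_join 0 9250 125 9250 rfl grp0_73 rows_ok_74

theorem grp0_75 : rowsOK 0 9500 = true :=
  rowsOK_join 0 9375 125 9375 rfl grp0_74 rows_ok_75

theorem grp0_76 : rowsOK 0 9625 = true :=
  rowsOK_join 0 9500 125 9500 rfl grp0_75 rows_ok_76

theorem grp0_77 : rowsOK 0 9750 = true :=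
  rowsOK_join 0 9625 125 9625 rfl grp0_76 rows_ok_77

theorem grp0_78 : rowsOK 0 9875 = true :=
  rowsOK_join 0 9750 125 9750 rfl grp0_77 rows_ok_78

theorem grp0_79 : rowsOK 0 10000 = true :=
  rowsOK_join 0 9875 125 9875 rfl grp0_78 rows_ok_79

theorem grp0_80 : rowsOK 0 10125 = true :=
  rowsOK_join 0 10000 125 10000 rfl grp0_79 rows_ok_80

theorem grp0_81 : rowsOK 0 10250 = true :=
  rowsOK_join 0 10125 125 10125 rfl grp0_80 rows_ok_81

theorem grp0_82 : rowsOK 0 10375 = true :=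
  rowsOK_join 0 10250 125 10250 rfl grp0_81 rows_ok_82

theorem grp0_83 : rowsOK 0 10500 = true :=
  rowsOK_join 0 10375 125 10375 rfl grp0_82 rows_ok_83

theorem grp0_84 : rowsOK 0 10625 = true :=
  rowsOK_join 0 10500 125 10500 rfl grp0_83 rows_ok_84

theorem grp0_85 : rowsOK 0 10750 = true :=
  rowsOK_join 0 10625 125 10625 rfl grp0_84 rows_ok_85

theorem grp0_86 : rowsOK 0 10875 = true :=
  rowsOK_join 0 10750 125 10750 rfl grp0_85 rows_ok_86

theorem grp0_87 : rowsOK 0 11000 = true :=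
  rowsOK_join 0 10875 125 10875 rfl grp0_86 rows_ok_87

theorem grp0_88 : rowsOK 0 11125 = true :=
  rowsOK_join 0 11000 125 11000 rfl grp0_87 rows_ok_88

theorem grp0_89 : rowsOK 0 11250 = true :=
  rowsOK_join 0 11125 125 11125 rfl grp0_88 rows_ok_89

theorem grp0_90 : rowsOK 0 11375 = true :=
  rowsOK_join 0 11250 125 11250 rfl grp0_89 rows_ok_90

theorem grp0_91 : rowsOK 0 11500 = true :=
  rowsOK_join 0 11375 125 11375 rfl grp0_90 rows_ok_91

theorem grp0_92 : rowsOK 0 11625 = true :=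
  rowsOK_join 0 11500 125 11500 rfl grp0_91 rows_ok_92

theorem grp0_93 : rowsOK 0 11750 = true :=
  rowsOK_join 0 11625 125 11625 rfl grp0_92 rows_ok_93

theorem grp0_94 : rowsOK 0 11875 = true :=
  rowsOK_join 0 11750 125 11750 rfl grp0_93 rows_ok_94

theorem grp0_95 : rowsOK 0 12000 = true :=
  rowsOK_join 0 11875 125 11875 rfl grp0_94 rows_ok_95

theorem grp0_96 : rowsOK 0 12125 = true :=
  rowsOK_join 0 12000 125 12000 rfl grp0_95 rows_ok_96

theorem grp0_97 : rowsOK 0 12250 = true :=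
  rowsOK_join 0 12125 125 12125 rfl grp0_96 rows_ok_97

theorem grp0_98 : rowsOK 0 12375 = true :=
  rowsOK_join 0 12250 125 12250 rfl grp0_97 rows_ok_98

theorem grp0_99 : rowsOK 0 12500 = true :=
  rowsOK_join 0 12375 125 12375 rfl grp0_98 rows_ok_99

theorem grp0_100 : rowsOK 0 12625 = true :=
  rowsOK_join 0 12500 125 12500 rfl grp0_99 rows_ok_100

theorem grp0_101 : rowsOK 0 12750 = true :=
  rowsOK_join 0 12625 125 12625 rfl grp0_100 rows_ok_101

theorem grp0_102 : rowsOK 0 12875 = true :=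
  rowsOK_join 0 12750 125 12750 rfl grp0_101 rows_ok_102

theorem grp0_103 : rowsOK 0 13000 = true :=
  rowsOK_join 0 12875 125 12875 rfl grp0_102 rows_ok_103

theorem grp0_104 : rowsOK 0 13125 = true :=
  rowsOK_join 0 13000 125 13000 rfl grp0_103 rows_ok_104

theorem grp0_105 : rowsOK 0 13250 = true :=
  rowsOK_join 0 13125 125 13125 rfl grp0_104 rows_ok_105

theorem grp0_106 : rowsOK 0 13375 = true :=
  rowsOK_join 0 13250 125 13250 rfl grp0_105 rows_ok_106

theorem grp0_107 : rowsOK 0 13500 = true :=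
  rowsOK_join 0 13375 125 13375 rfl grp0_106 rows_ok_107

theorem grp0_108 : rowsOK 0 13625 = true :=
  rowsOK_join 0 13500 125 13500 rfl grp0_107 rows_ok_108

theorem grp0_109 : rowsOK 0 13750 = true :=
  rowsOK_join 0 13625 125 13625 rfl grp0_108 rows_ok_109

theorem grp0_110 : rowsOK 0 13875 = true :=
  rowsOK_join 0 13750 125 13750 rfl grp0_109 rows_ok_110

theorem grp0_111 : rowsOK 0 14000 = true :=
  rowsOK_join 0 13875 125 13875 rfl grp0_110 rows_ok_111

theorem grp0_112 : rowsOK 0 14125 = true :=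
  rowsOK_join 0 14000 125 14000 rfl grp0_111 rows_ok_112

theorem grp0_113 : rowsOK 0 14250 = true :=
  rowsOK_join 0 14125 125 14125 rfl grp0_112 rows_ok_113

theorem grp0_114 : rowsOK 0 14375 = true :=
  rowsOK_join 0 14250 125 14250 rfl grp0_113 rows_ok_114

theorem grp0_115 : rowsOK 0 14500 = true :=
  rowsOK_join 0 14375 125 14375 rfl grp0_114 rows_ok_115

theorem grp0_116 : rowsOK 0 14625 = true :=
  rowsOK_join 0 14500 125 14500 rfl grp0_115 rows_ok_116

theorem grp0_117 : rowsOK 0 14750 = true :=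
  rowsOK_join 0 14625 125 14625 rfl grp0_116 rows_ok_117

theorem grp0_118 : rowsOK 0 14875 = true :=
  rowsOK_join 0 14750 125 14750 rfl grp0_117 rows_ok_118

theorem grp0_119 : rowsOK 0 15000 = true :=
  rowsOK_join 0 14875 125 14875 rfl grp0_118 rows_ok_119

theorem grp0_120 : rowsOK 0 15125 = true :=
  rowsOK_join 0 15000 125 15000 rfl grp0_119 rows_ok_120

theorem grp0_121 : rowsOK 0 15250 = true :=
  rowsOK_join 0 15125 125 15125 rfl grp0_120 rows_ok_121

theorem grp0_122 : rowsOK 0 15375 = true :=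
  rowsOK_join 0 15250 125 15250 rfl grp0_121 rows_ok_122

theorem grp0_123 : rowsOK 0 15500 = true :=
  rowsOK_join 0 15375 125 15375 rfl grp0_122 rows_ok_123

theorem grp0_124 : rowsOK 0 15625 = true :=
  rowsOK_join 0 15500 125 15500 rfl grp0_123 rows_ok_124

theorem grp0_125 : rowsOK 0 15750 = true :=
  rowsOK_join 0 15625 125 15625 rfl grp0_124 rows_ok_125

theorem grp0_126 : rowsOK 0 15875 = true :=
  rowsOK_join 0 15750 125 15750 rfl grp0_125 rows_ok_126

theorem rows_ok_grp_0 : rowsOK 0 16000 = true :=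
  rowsOK_join 0 15875 125 15875 rfl grp0_126 rows_ok_127

end Cfsg.Agent.Lib.Helper7.Fi24L
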