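import Cfsg.Agent.Lib.Helper7.Fi24LK192
import Cfsg.Agent.Lib.Helper7.Fi24LK193
import Cfsg.Agent.Lib.Helper7.Fi24LK194
import Cfsg.Agent.Lib.Helper7.Fi24LK195
import Cfsg.Agent.Lib.Helper7.Fi24LK196
import Cfsg.Agent.Lib.Helper7.Fi24LK197
import Cfsg.Agent.Lib.Helper7.Fi24LK198
import Cfsg.Agent.Lib.Helper7.Fi24LK199
import Cfsg.Agent.Lib.Helper7.Fi24LK200
import Cfsg.Agent.Lib.Helper7.Fi24LK201
import Cfsg.Agent.Lib.Helper7.Fi24LK202
import Cfsg.Agent.Lib.Helper7.Fi24LK203
import Cfsg.Agent.Lib.Helper7.Fi24LK204
import Cfsg.Agent.Lib.Helper7.Fi24LK205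
import Cfsg.Agent.Lib.Helper7.Fi24LK206
import Cfsg.Agent.Lib.Helper7.Fi24LK207
import Cfsg.Agent.Lib.Helper7.Fi24LE

/-! # The multiplier of the Fischer group Fi₂₄′, a threefold cover of a permutation representation of the presented group Fi₂₄: the checks of a part of the rows are joined (generated) -/

set_option autoImplicit false
set_option maxRecDepth 100000

namespace Cfsg.Agent.Lib.Helper7.Fi24L

theorem grp12_1 : rowsOK 192000 250 = true :=
  rowsOK_join 192000 125 125 192125 rfl rows_ok_1536 rows_ok_1537

theorem grp12_2 : rowsOK 192000 375 = true :=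
  rowsOK_join 192000 250 125 192250 rfl grp12_1 rows_ok_1538

theorem grp12_3 : rowsOK 192000 500 = true :=
  rowsOK_join 192000 375 125 192375 rfl grp12_2 rows_ok_1539

theorem grp12_4 : rowsOK 192000 625 = true :=
  rowsOK_join 192000 500 125 192500 rfl grp12_3 rows_ok_1540

theorem grp12_5 : rowsOK 192000 750 = true :=
  rowsOK_join 192000 625 125 192625 rfl grp12_4 rows_ok_1541

theorem grp12_6 : rowsOK 192000 875 = true :=
  rowsOK_join 192000 750 125 192750 rfl grp12_5 rows_ok_1542

theorem grp12_7 : rowsOK 192000 1000 = true :=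
  rowsOK_join 192000 875 125 192875 rfl grp12_6 rows_ok_1543

theorem grp12_8 : rowsOK 192000 1125 = true :=
  rowsOK_join 192000 1000 125 193000 rfl grp12_7 rows_ok_1544

theorem grp12_9 : rowsOK 192000 1250 = true :=
  rowsOK_join 192000 1125 125 193125 rfl grp12_8 rows_ok_1545

theorem grp12_10 : rowsOK 192000 1375 = true :=
  rowsOK_join 192000 1250 125 193250 rfl grp12_9 rows_ok_1546

theorem grp12_11 : rowsOK 192000 1500 = true :=
  rowsOK_join 192000 1375 125 193375 rfl grp12_10 rows_ok_1547

theorem grp12_12 : rowsOK 192000 1625 = true :=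
  rowsOK_join 192000 1500 125 193500 rfl grp12_11 rows_ok_1548

theorem grp12_13 : rowsOK 192000 1750 = true :=
  rowsOK_join 192000 1625 125 193625 rfl grp12_12 rows_ok_1549

theorem grp12_14 : rowsOK 192000 1875 = true :=
  rowsOK_join 192000 1750 125 193750 rfl grp12_13 rows_ok_1550

theorem grp12_15 : rowsOK 192000 2000 = true :=
  rowsOK_join 192000 1875 125 193875 rfl grp12_14 rows_ok_1551

theorem grp12_16 : rowsOK 192000 2125 = true :=
  rowsOK_join 192000 2000 125 194000 rfl grp12_15 rows_ok_1552

theorem grp12_17 : rowsOK 192000 2250 = true :=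
  rowsOK_join 192000 2125 125 194125 rfl grp12_16 rows_ok_1553

theorem grp12_18 : rowsOK 192000 2375 = true :=
  rowsOK_join 192000 2250 125 194250 rfl grp12_17 rows_ok_1554

theorem grp12_19 : rowsOK 192000 2500 = true :=
  rowsOK_join 192000 2375 125 194375 rfl grp12_18 rows_ok_1555

theorem grp12_20 : rowsOK 192000 2625 = true :=
  rowsOK_join 192000 2500 125 194500 rfl grp12_19 rows_ok_1556

theorem grp12_21 : rowsOK 192000 2750 = true :=
  rowsOK_join 192000 2625 125 194625 rfl grp12_20 rows_ok_1557

theorem grp12_22 : rowsOK 192000 2875 = true :=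
  rowsOK_join 192000 2750 125 194750 rfl grp12_21 rows_ok_1558

theorem grp12_23 : rowsOK 192000 3000 = true :=
  rowsOK_join 192000 2875 125 194875 rfl grp12_22 rows_ok_1559

theorem grp12_24 : rowsOK 192000 3125 = true :=
  rowsOK_join 192000 3000 125 195000 rfl grp12_23 rows_ok_1560

theorem grp12_25 : rowsOK 192000 3250 = true :=
  rowsOK_join 192000 3125 125 195125 rfl grp12_24 rows_ok_1561

theorem grp12_26 : rowsOK 192000 3375 = true :=
  rowsOK_join 192000 3250 125 195250 rfl grp12_25 rows_ok_1562

theorem grp12_27 : rowsOK 192000 3500 = true :=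
  rowsOK_join 192000 3375 125 195375 rfl grp12_26 rows_ok_1563

theorem grp12_28 : rowsOK 192000 3625 = true :=
  rowsOK_join 192000 3500 125 195500 rfl grp12_27 rows_ok_1564

theorem grp12_29 : rowsOK 192000 3750 = true :=
  rowsOK_join 192000 3625 125 195625 rfl grp12_28 rows_ok_1565

theorem grp12_30 : rowsOK 192000 3875 = true :=
  rowsOK_join 192000 3750 125 195750 rfl grp12_29 rows_ok_1566

theorem grp12_31 : rowsOK 192000 4000 = true :=
  rowsOK_join 192000 3875 125 195875 rfl grp12_30 rows_ok_1567

theorem grp12_32 : rowsOK 192000 4125 = true :=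
  rowsOK_join 192000 4000 125 196000 rfl grp12_31 rows_ok_1568

theorem grp12_33 : rowsOK 192000 4250 = true :=
  rowsOK_join 192000 4125 125 196125 rfl grp12_32 rows_ok_1569

theorem grp12_34 : rowsOK 192000 4375 = true :=
  rowsOK_join 192000 4250 125 196250 rfl grp12_33 rows_ok_1570

theorem grp12_35 : rowsOK 192000 4500 = true :=
  rowsOK_join 192000 4375 125 196375 rfl grp12_34 rows_ok_1571

theorem grp12_36 : rowsOK 192000 4625 = true :=
  rowsOK_join 192000 4500 125 196500 rfl grp12_35 rows_ok_1572

theorem grp12_37 : rowsOK 192000 4750 = true :=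
  rowsOK_join 192000 4625 125 196625 rfl grp12_36 rows_ok_1573

theorem grp12_38 : rowsOK 192000 4875 = true :=
  rowsOK_join 192000 4750 125 196750 rfl grp12_37 rows_ok_1574

theorem grp12_39 : rowsOK 192000 5000 = true :=
  rowsOK_join 192000 4875 125 196875 rfl grp12_38 rows_ok_1575

theorem grp12_40 : rowsOK 192000 5125 = true :=
  rowsOK_join 192000 5000 125 197000 rfl grp12_39 rows_ok_1576

theorem grp12_41 : rowsOK 192000 5250 = true :=
  rowsOK_join 192000 5125 125 197125 rfl grp12_40 rows_ok_1577

theorem grp12_42 : rowsOK 192000 5375 = true :=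
  rowsOK_join 192000 5250 125 197250 rfl grp12_41 rows_ok_1578

theorem grp12_43 : rowsOK 192000 5500 = true :=
  rowsOK_join 192000 5375 125 197375 rfl grp12_42 rows_ok_1579

theorem grp12_44 : rowsOK 192000 5625 = true :=
  rowsOK_join 192000 5500 125 197500 rfl grp12_43 rows_ok_1580

theorem grp12_45 : rowsOK 192000 5750 = true :=
  rowsOK_join 192000 5625 125 197625 rfl grp12_44 rows_ok_1581

theorem grp12_46 : rowsOK 192000 5875 = true :=
  rowsOK_join 192000 5750 125 197750 rfl grp12_45 rows_ok_1582

theorem grp12_47 : rowsOK 192000 6000 = true :=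
  rowsOK_join 192000 5875 125 197875 rfl grp12_46 rows_ok_1583

theorem grp12_48 : rowsOK 192000 6125 = true :=
  rowsOK_join 192000 6000 125 198000 rfl grp12_47 rows_ok_1584

theorem grp12_49 : rowsOK 192000 6250 = true :=
  rowsOK_join 192000 6125 125 198125 rfl grp12_48 rows_ok_1585

theorem grp12_50 : rowsOK 192000 6375 = true :=
  rowsOK_join 192000 6250 125 198250 rfl grp12_49 rows_ok_1586

theorem grp12_51 : rowsOK 192000 6500 = true :=
  rowsOK_join 192000 6375 125 198375 rfl grp12_50 rows_ok_1587

theorem grp12_52 : rowsOK 192000 6625 = true :=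
  rowsOK_join 192000 6500 125 198500 rfl grp12_51 rows_ok_1588

theorem grp12_53 : rowsOK 192000 6750 = true :=
  rowsOK_join 192000 6625 125 198625 rfl grp12_52 rows_ok_1589

theorem grp12_54 : rowsOK 192000 6875 = true :=
  rowsOK_join 192000 6750 125 198750 rfl grp12_53 rows_ok_1590

theorem grp12_55 : rowsOK 192000 7000 = true :=
  rowsOK_join 192000 6875 125 198875 rfl grp12_54 rows_ok_1591

theorem grp12_56 : rowsOK 192000 7125 = true :=
  rowsOK_join 192000 7000 125 199000 rfl grp12_55 rows_ok_1592

theorem grp12_57 : rowsOK 192000 7250 = true :=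
  rowsOK_join 192000 7125 125 199125 rfl grp12_56 rows_ok_1593

theorem grp12_58 : rowsOK 192000 7375 = true :=
  rowsOK_join 192000 7250 125 199250 rfl grp12_57 rows_ok_1594

theorem grp12_59 : rowsOK 192000 7500 = true :=
  rowsOK_join 192000 7375 125 199375 rfl grp12_58 rows_ok_1595

theorem grp12_60 : rowsOK 192000 7625 = true :=
  rowsOK_join 192000 7500 125 199500 rfl grp12_59 rows_ok_1596

theorem grp12_61 : rowsOK 192000 7750 = true :=
  rowsOK_join 192000 7625 125 199625 rfl grp12_60 rows_ok_1597

theorem grp12_62 : rowsOK 192000 7875 = true :=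
  rowsOK_join 192000 7750 125 199750 rfl grp12_61 rows_ok_1598

theorem grp12_63 : rowsOK 192000 8000 = true :=
  rowsOK_join 192000 7875 125 199875 rfl grp12_62 rows_ok_1599

theorem grp12_64 : rowsOK 192000 8125 = true :=
  rowsOK_join 192000 8000 125 200000 rfl grp12_63 rows_ok_1600

theorem grp12_65 : rowsOK 192000 8250 = true :=
  rowsOK_join 192000 8125 125 200125 rfl grp12_64 rows_ok_1601

theorem grp12_66 : rowsOK 192000 8375 = true :=
  rowsOK_join 192000 8250 125 200250 rfl grp12_65 rows_ok_1602

theorem grp12_67 : rowsOK 192000 8500 = true :=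
  rowsOK_join 192000 8375 125 200375 rfl grp12_66 rows_ok_1603

theorem grp12_68 : rowsOK 192000 8625 = true :=
  rowsOK_join 192000 8500 125 200500 rfl grp12_67 rows_ok_1604

theorem grp12_69 : rowsOK 192000 8750 = true :=
  rowsOK_join 192000 8625 125 200625 rfl grp12_68 rows_ok_1605

theorem grp12_70 : rowsOK 192000 8875 = true :=
  rowsOK_join 192000 8750 125 200750 rfl grp12_69 rows_ok_1606

theorem grp12_71 : rowsOK 192000 9000 = true :=
  rowsOK_join 192000 8875 125 200875 rfl grp12_70 rows_ok_1607

theorem grp12_72 : rowsOK 192000 9125 = true :=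
  rowsOK_join 192000 9000 125 201000 rfl grp12_71 rows_ok_1608

theorem grp12_73 : rowsOK 192000 9250 = true :=
  rowsOK_join 192000 9125 125 201125 rfl grp12_72 rows_ok_1609

theorem grp12_74 : rowsOK 192000 9375 = true :=
  rowsOK_join 192000 9250 125 201250 rfl grp12_73 rows_ok_1610

theorem grp12_75 : rowsOK 192000 9500 = true :=
  rowsOK_join 192000 9375 125 201375 rfl grp12_74 rows_ok_1611

theorem grp12_76 : rowsOK 192000 9625 = true :=
  rowsOK_join 192000 9500 125 201500 rfl grp12_75 rows_ok_1612

theorem grp12_77 : rowsOK 192000 9750 = true :=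
  rowsOK_join 192000 9625 125 201625 rfl grp12_76 rows_ok_1613

theorem grp12_78 : rowsOK 192000 9875 = true :=
  rowsOK_join 192000 9750 125 201750 rfl grp12_77 rows_ok_1614

theorem grp12_79 : rowsOK 192000 10000 = true :=
  rowsOK_join 192000 9875 125 201875 rfl grp12_78 rows_ok_1615

theorem grp12_80 : rowsOK 192000 10125 = true :=
  rowsOK_join 192000 10000 125 202000 rfl grp12_79 rows_ok_1616

theorem grp12_81 : rowsOK 192000 10250 = true :=
  rowsOK_join 192000 10125 125 202125 rfl grp12_80 rows_ok_1617

theorem grp12_82 : rowsOK 192000 10375 = true :=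
  rowsOK_join 192000 10250 125 202250 rfl grp12_81 rows_ok_1618

theorem grp12_83 : rowsOK 192000 10500 = true :=
  rowsOK_join 192000 10375 125 202375 rfl grp12_82 rows_ok_1619

theorem grp12_84 : rowsOK 192000 10625 = true :=
  rowsOK_join 192000 10500 125 202500 rfl grp12_83 rows_ok_1620

theorem grp12_85 : rowsOK 192000 10750 = true :=
  rowsOK_join 192000 10625 125 202625 rfl grp12_84 rows_ok_1621

theorem grp12_86 : rowsOK 192000 10875 = true :=
  rowsOK_join 192000 10750 125 202750 rfl grp12_85 rows_ok_1622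

theorem grp12_87 : rowsOK 192000 11000 = true :=
  rowsOK_join 192000 10875 125 202875 rfl grp12_86 rows_ok_1623

theorem grp12_88 : rowsOK 192000 11125 = true :=
  rowsOK_join 192000 11000 125 203000 rfl grp12_87 rows_ok_1624

theorem grp12_89 : rowsOK 192000 11250 = true :=
  rowsOK_join 192000 11125 125 203125 rfl grp12_88 rows_ok_1625

theorem grp12_90 : rowsOK 192000 11375 = true :=
  rowsOK_join 192000 11250 125 203250 rfl grp12_89 rows_ok_1626

theorem grp12_91 : rowsOK 192000 11500 = true :=
  rowsOK_join 192000 11375 125 203375 rfl grp12_90 rows_ok_1627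

theorem grp12_92 : rowsOK 192000 11625 = true :=
  rowsOK_join 192000 11500 125 203500 rfl grp12_91 rows_ok_1628

theorem grp12_93 : rowsOK 192000 11750 = true :=
  rowsOK_join 192000 11625 125 203625 rfl grp12_92 rows_ok_1629

theorem grp12_94 : rowsOK 192000 11875 = true :=
  rowsOK_join 192000 11750 125 203750 rfl grp12_93 rows_ok_1630

theorem grp12_95 : rowsOK 192000 12000 = true :=
  rowsOK_join 192000 11875 125 203875 rfl grp12_94 rows_ok_1631

theorem grp12_96 : rowsOK 192000 12125 = true :=
  rowsOK_join 192000 12000 125 204000 rfl grp12_95 rows_ok_1632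

theorem grp12_97 : rowsOK 192000 12250 = true :=
  rowsOK_join 192000 12125 125 204125 rfl grp12_96 rows_ok_1633

theorem grp12_98 : rowsOK 192000 12375 = true :=
  rowsOK_join 192000 12250 125 204250 rfl grp12_97 rows_ok_1634

theorem grp12_99 : rowsOK 192000 12500 = true :=
  rowsOK_join 192000 12375 125 204375 rfl grp12_98 rows_ok_1635

theorem grp12_100 : rowsOK 192000 12625 = true :=
  rowsOK_join 192000 12500 125 204500 rfl grp12_99 rows_ok_1636

theorem grp12_101 : rowsOK 192000 12750 = true :=
  rowsOK_join 192000 12625 125 204625 rfl grp12_100 rows_ok_1637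

theorem grp12_102 : rowsOK 192000 12875 = true :=
  rowsOK_join 192000 12750 125 204750 rfl grp12_101 rows_ok_1638

theorem grp12_103 : rowsOK 192000 13000 = true :=
  rowsOK_join 192000 12875 125 204875 rfl grp12_102 rows_ok_1639

theorem grp12_104 : rowsOK 192000 13125 = true :=
  rowsOK_join 192000 13000 125 205000 rfl grp12_103 rows_ok_1640

theorem grp12_105 : rowsOK 192000 13250 = true :=
  rowsOK_join 192000 13125 125 205125 rfl grp12_104 rows_ok_1641

theorem grp12_106 : rowsOK 192000 13375 = true :=
  rowsOK_join 192000 13250 125 205250 rfl grp12_105 rows_ok_1642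

theorem grp12_107 : rowsOK 192000 13500 = true :=
  rowsOK_join 192000 13375 125 205375 rfl grp12_106 rows_ok_1643

theorem grp12_108 : rowsOK 192000 13625 = true :=
  rowsOK_join 192000 13500 125 205500 rfl grp12_107 rows_ok_1644

theorem grp12_109 : rowsOK 192000 13750 = true :=
  rowsOK_join 192000 13625 125 205625 rfl grp12_108 rows_ok_1645

theorem grp12_110 : rowsOK 192000 13875 = true :=
  rowsOK_join 192000 13750 125 205750 rfl grp12_109 rows_ok_1646

theorem grp12_111 : rowsOK 192000 14000 = true :=
  rowsOK_join 192000 13875 125 205875 rfl grp12_110 rows_ok_1647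

theorem grp12_112 : rowsOK 192000 14125 = true :=
  rowsOK_join 192000 14000 125 206000 rfl grp12_111 rows_ok_1648

theorem grp12_113 : rowsOK 192000 14250 = true :=
  rowsOK_join 192000 14125 125 206125 rfl grp12_112 rows_ok_1649

theorem grp12_114 : rowsOK 192000 14375 = true :=
  rowsOK_join 192000 14250 125 206250 rfl grp12_113 rows_ok_1650

theorem grp12_115 : rowsOK 192000 14500 = true :=
  rowsOK_join 192000 14375 125 206375 rfl grp12_114 rows_ok_1651

theorem grp12_116 : rowsOK 192000 14625 = true :=
  rowsOK_join 192000 14500 125 206500 rfl grp12_115 rows_ok_1652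

theorem grp12_117 : rowsOK 192000 14750 = true :=
  rowsOK_join 192000 14625 125 206625 rfl grp12_116 rows_ok_1653

theorem grp12_118 : rowsOK 192000 14875 = true :=
  rowsOK_join 192000 14750 125 206750 rfl grp12_117 rows_ok_1654

theorem grp12_119 : rowsOK 192000 15000 = true :=
  rowsOK_join 192000 14875 125 206875 rfl grp12_118 rows_ok_1655

theorem grp12_120 : rowsOK 192000 15125 = true :=
  rowsOK_join 192000 15000 125 207000 rfl grp12_119 rows_ok_1656

theorem grp12_121 : rowsOK 192000 15250 = true :=
  rowsOK_join 192000 15125 125 207125 rfl grp12_120 rows_ok_1657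

theorem grp12_122 : rowsOK 192000 15375 = true :=
  rowsOK_join 192000 15250 125 207250 rfl grp12_121 rows_ok_1658

theorem grp12_123 : rowsOK 192000 15500 = true :=
  rowsOK_join 192000 15375 125 207375 rfl grp12_122 rows_ok_1659

theorem grp12_124 : rowsOK 192000 15625 = true :=
  rowsOK_join 192000 15500 125 207500 rfl grp12_123 rows_ok_1660

theorem grp12_125 : rowsOK 192000 15750 = true :=
  rowsOK_join 192000 15625 125 207625 rfl grp12_124 rows_ok_1661

theorem grp12_126 : rowsOK 192000 15875 = true :=
  rowsOK_join 192000 15750 125 207750 rfl grp12_125 rows_ok_1662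

theorem rows_ok_grp_12 : rowsOK 192000 16000 = true :=
  rowsOK_join 192000 15875 125 207875 rfl grp12_126 rows_ok_1663

end Cfsg.Agent.Lib.Helper7.Fi24L
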