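import Cfsg.Agent.Lib.Helper6.Fi24Simple
import Cfsg.Agent.Lib.Helper6.Fi23TC
import Cfsg.Agent.Lib.Helper6.CoxLift

/-!
# The multiplier of the Fischer group Fi₂₄′: the group Fi₂₃ in the commutator subgroup of the presented group Fi₂₄

The products `s * l` of the generators `s = a, …, j` of the presented group Fi₂₄ with its generator `l` lie in the
commutator subgroup and satisfy the relators of the presented group Fi₂₃, which is thus embedded in the commutator
subgroup.  Together with `k * l` they generate the commutator subgroup.  A word of even length in the generators of Fi₂₄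
is rewritten as a word in these elements.
-/

set_option autoImplicit false

noncomputable section

namespace Cfsg.Agent.Lib.Helper7.Fi24M

open Cfsg.Spor Cfsg.Agent.Lib.Helper6 Cfsg.Agent.Lib.Helper6.Fi24H Cfsg.Agent.Lib.Helper6.Fi24Simple

/-! ### the sign and the commutator subgroup -/

theorem sgn_of (x : Fi24.Gen) : sgn (PresentedGroup.of x) = -1 := PresentedGroup.toGroup.of _

theorem sgn_eq_one_of_mem {g : Fi24} (h : g ∈ commutator Fi24) : sgn g = 1 :=
  MonoidHom.mem_ker.1 (Abelianization.commutator_subset_ker sgn h)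

/-- the commutator subgroup is the kernel of the sign -/
theorem mem_commutator_iff (g : Fi24) : g ∈ commutator Fi24 ↔ sgn g = 1 := by
  refine ⟨sgn_eq_one_of_mem, fun h => ?_⟩
  by_contra hg
  have h1 : g * lG ∈ commutator Fi24 := by
    rw [Subgroup.mul_mem_iff_of_index_two index_commutator]
    exact ⟨fun h' => absurd h' hg, fun h' => absurd h' lG_not_mem⟩
  have h2 := sgn_eq_one_of_mem h1
  rw [map_mul, h, sgn_lG, one_mul] at h2
  revert h2
  decide

theorem lG_inv : lG⁻¹ = lG := inv_eq_of_mul_eq_one_left lG_mul_self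

theorem gx_inv (x : Fi23.Gen) : (gx x)⁻¹ = gx x := inv_eq_of_mul_eq_one_left (gx_mul_self x)

theorem lG_mul_cancel_left (x : Fi24) : lG * (lG * x) = x := by
  rw [← mul_assoc, lG_mul_self, one_mul]

theorem lG_pow_even (m : ℕ) : lG ^ (2 * m) = 1 := by
  rw [pow_mul, pow_two, lG_mul_self, one_pow]

theorem lG_pow_odd (m : ℕ) : lG ^ (2 * m + 1) = lG := by
  rw [pow_succ, lG_pow_even, one_mul]

/-! ### the homomorphism from the presented group Fi₂₃ -/

/-- the images of the generators of Fi₂₃ -/
def gq (x : Fi23.Gen) : Fi24 := gx x * lG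

theorem gq_mul_self (x : Fi23.Gen) : gq x * gq x = 1 := by
  unfold gq
  rw [mul_assoc, ← mul_assoc lG, lG_comm, mul_assoc, lG_mul_self, mul_one, gx_mul_self]

/-- the homomorphism of the free group -/
def θF : FreeGroup Fi23.Gen →* Fi24 := FreeGroup.lift gq

/-- the parity of a word, as a power of `l` -/
def εF : FreeGroup Fi23.Gen →* Fi24 := FreeGroup.lift fun _ => lG

theorem εF_comm (w : FreeGroup Fi23.Gen) : ∀ h ∈ H0, εF w * h = h * εF w := by
  induction w using FreeGroup.induction_on with
  | C1 => intro h _; simp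
  | of x => intro h hh; rw [εF, FreeGroup.lift_apply_of]; exact lG_central h hh
  | inv_of x _ =>
    intro h hh
    rw [map_inv, εF, FreeGroup.lift_apply_of, lG_inv]
    exact lG_central h hh
  | mul x y hx hy =>
    intro h hh
    rw [map_mul, mul_assoc, hy h hh, ← mul_assoc, hx h hh, mul_assoc]

theorem θF_eq (w : FreeGroup Fi23.Gen) : θF w = φ w * εF w := by
  induction w using FreeGroup.induction_on with
  | C1 => simp
  | of x => rw [θF, εF, FreeGroup.lift_apply_of, FreeGroup.lift_apply_of, φ_of]; rfl
  | inv_of x _ =>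
    rw [map_inv, map_inv, map_inv, θF, εF, FreeGroup.lift_apply_of, FreeGroup.lift_apply_of, φ_of, gq,
      mul_inv_rev, lG_inv, gx_inv, lG_comm]
  | mul x y hx hy =>
    rw [map_mul, map_mul, map_mul, hx, hy, mul_assoc, ← mul_assoc (εF x), εF_comm x _ ⟨y, rfl⟩]
    simp only [mul_assoc]

theorem εF_of (x : Fi23.Gen) : εF (FreeGroup.of x) = lG := FreeGroup.lift_apply_of

/-- the relators of the presented group Fi₂₃ are trivial -/
theorem θF_rel (r : FreeGroup Fi23.Gen) (hr : r ∈ coxRelators Fi23.edges ∪ {r | r ∈ Fi23.extra}) :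
    θF r = 1 := by
  rw [θF_eq]
  rcases hr with hr | hr
  · rw [φ_cox r hr, one_mul]
    obtain ⟨x, _, y, _, rfl⟩ := hr
    rw [map_pow, map_mul, εF_of, εF_of, lG_mul_self, one_pow]
  · have hr' : r ∈ Fi23.extra := hr
    simp only [Fi23.extra, List.mem_cons, List.not_mem_nil, or_false] at hr'
    rcases hr' with rfl | rfl
    · rw [φ_spider, one_mul, map_pow]
      simp only [map_mul, εF_of]
      have e : lG * lG * lG * lG * lG * lG * lG * lG * lG = lG := by
        simp only [lG_mul_self, one_mul]
      rw [e]
      exact lG_pow_even 5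
    · rw [φ_e7, map_pow]
      simp only [map_mul, εF_of]
      have e : lG * lG * lG * lG * lG * lG * lG = lG := by
        simp only [lG_mul_self, one_mul]
      rw [e, lG_pow_odd 4, lG_mul_self]

/-- **the homomorphism** from the presented group Fi₂₃ to the presented group Fi₂₄ -/
def θ : Fi23 →* Fi24 := PresentedGroup.toGroup (f := gq) θF_rel

theorem θ_of (x : Fi23.Gen) : θ (PresentedGroup.of x) = gq x := PresentedGroup.toGroup.of _

theorem sgn_gq (x : Fi23.Gen) : sgn (gq x) = 1 := by
  rw [gq, map_mul, sgn_lG, gx, sgn_of]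
  decide

theorem sgn_θ (q : Fi23) : sgn (θ q) = 1 := by
  have h : sgn.comp θ = 1 := by
    apply PresentedGroup.ext
    intro x
    rw [MonoidHom.comp_apply, θ_of, sgn_gq, MonoidHom.one_apply]
  have := DFunLike.congr_fun h q
  rwa [MonoidHom.comp_apply, MonoidHom.one_apply] at this

/-- **the homomorphism** from the presented group Fi₂₃ to the commutator subgroup of the presented group Fi₂₄ -/
def θ' : Fi23 →* Fi24' := θ.codRestrict (commutator Fi24) fun q => (mem_commutator_iff _).2 (sgn_θ q)

theorem θ'_coe (q : Fi23) : ((θ' q : Fi24') : Fi24) = θ q := rfl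

theorem θ'_injective : Function.Injective θ' := by
  rw [← MonoidHom.ker_eq_bot_iff]
  have hs : IsSimpleGroup Fi23 := Fi23Simple.main.1
  rcases hs.eq_bot_or_eq_top_of_normal θ'.ker inferInstance with h | h
  · exact h
  · exfalso
    have h1 : (PresentedGroup.of Fi23.Gen.a : Fi23) ∈ θ'.ker := by rw [h]; exact Subgroup.mem_top _
    have h2 : θ (PresentedGroup.of Fi23.Gen.a) = 1 := by
      have := congrArg Subtype.val (MonoidHom.mem_ker.1 h1)
      exact this
    rw [θ_of, gq] at h2
    have h3 : gx Fi23.Gen.a = lG := by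
      have := eq_inv_of_mul_eq_one_left h2
      rwa [lG_inv] at this
    exact ρ_gxa_ne_lG (by rw [h3])

/-! ### the generators of the commutator subgroup -/

/-- the product `k * l` -/
def xk : Fi24 := PresentedGroup.of Fi24.Gen.k * lG

theorem sgn_xk : sgn xk = 1 := by
  rw [xk, map_mul, sgn_lG, sgn_of]
  decide

theorem of_k_mul_self : (PresentedGroup.of Fi24.Gen.k : Fi24) * PresentedGroup.of Fi24.Gen.k = 1 :=
  of_mul_self24 _

theorem of_k_inv : (PresentedGroup.of Fi24.Gen.k : Fi24)⁻¹ = PresentedGroup.of Fi24.Gen.k :=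
  inv_eq_of_mul_eq_one_left of_k_mul_self

theorem xk_inv : xk⁻¹ = lG * PresentedGroup.of Fi24.Gen.k := by
  rw [xk, mul_inv_rev, lG_inv, of_k_inv]

/-- the subgroup generated by the products `s * l` -/
def T : Subgroup Fi24 := Subgroup.closure (Set.range gq ∪ {xk})

theorem gq_mem_T (x : Fi23.Gen) : gq x ∈ T := Subgroup.subset_closure (Or.inl ⟨x, rfl⟩)

theorem xk_mem_T : xk ∈ T := Subgroup.subset_closure (Or.inr rfl)

theorem T_le : T ≤ commutator Fi24 := by
  rw [T, Subgroup.closure_le]
  rintro g (⟨x, rfl⟩ | rfl)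
  · exact (mem_commutator_iff _).2 (sgn_gq x)
  · exact (mem_commutator_iff _).2 sgn_xk

theorem lG_conj_T : ∀ t ∈ T, lG * t * lG ∈ T := by
  intro t ht
  induction ht using Subgroup.closure_induction with
  | mem g hg =>
    rcases hg with ⟨x, rfl⟩ | rfl
    · have : lG * gq x * lG = gq x := by
        rw [gq, ← mul_assoc, lG_comm, mul_assoc, mul_assoc, lG_mul_self, mul_one]
      rw [this]
      exact gq_mem_T x
    · have : lG * xk * lG = xk⁻¹ := by
        rw [xk_inv, xk, mul_assoc, mul_assoc, lG_mul_self, mul_one]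
      rw [this]
      exact T.inv_mem xk_mem_T
  | one => rw [mul_one, lG_mul_self]; exact T.one_mem
  | mul a b _ _ ha hb =>
    have : lG * (a * b) * lG = (lG * a * lG) * (lG * b * lG) := by
      simp only [mul_assoc]
      rw [← mul_assoc lG lG, lG_mul_self, one_mul]
    rw [this]
    exact T.mul_mem ha hb
  | inv a _ ha =>
    have : lG * a⁻¹ * lG = (lG * a * lG)⁻¹ := by
      rw [mul_inv_rev, mul_inv_rev, lG_inv, mul_assoc]
    rw [this]
    exact T.inv_mem ha

theorem of_mul_lG_mem_T (s : Fi24.Gen) : (PresentedGroup.of s : Fi24) * lG ∈ T := by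
  cases s with
  | l => show lG * lG ∈ T; rw [lG_mul_self]; exact T.one_mem
  | k => exact xk_mem_T
  | a => exact gq_mem_T .a
  | b => exact gq_mem_T .b
  | c => exact gq_mem_T .c
  | d => exact gq_mem_T .d
  | e => exact gq_mem_T .e
  | f => exact gq_mem_T .f
  | g => exact gq_mem_T .g
  | j => exact gq_mem_T .j
  | h => exact gq_mem_T .h
  | i => exact gq_mem_T .i

theorem mem_T_or (g : Fi24) : g ∈ T ∨ g * lG ∈ T := by
  have hg : g ∈ Subgroup.closure (Set.range (PresentedGroup.of : Fi24.Gen → Fi24)) := by
    rw [PresentedGroup.closure_range_of]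
    exact Subgroup.mem_top _
  induction hg using Subgroup.closure_induction with
  | mem g hg =>
    obtain ⟨s, rfl⟩ := hg
    exact Or.inr (of_mul_lG_mem_T s)
  | one => exact Or.inl T.one_mem
  | mul a b _ _ ha hb =>
    rcases ha with ha | ha <;> rcases hb with hb | hb
    · exact Or.inl (T.mul_mem ha hb)
    · right
      rw [mul_assoc]
      exact T.mul_mem ha hb
    · right
      have : a * b * lG = (a * lG) * (lG * b * lG) := by
        simp only [mul_assoc]
        rw [← mul_assoc lG lG, lG_mul_self, one_mul]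
      rw [this]
      exact T.mul_mem ha (lG_conj_T b hb)
    · left
      have : a * b = (a * lG) * (lG * (b * lG) * lG) := by
        simp only [mul_assoc]
        rw [lG_mul_self, mul_one, ← mul_assoc lG lG, lG_mul_self, one_mul]
      rw [this]
      exact T.mul_mem ha (lG_conj_T _ hb)
  | inv a _ ha =>
    rcases ha with ha | ha
    · exact Or.inl (T.inv_mem ha)
    · right
      have : a⁻¹ * lG = lG * (a * lG)⁻¹ * lG := by
        rw [mul_inv_rev, lG_inv]
        simp only [mul_assoc]
        rw [← mul_assoc lG lG, lG_mul_self, one_mul]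
      rw [this]
      exact lG_conj_T _ (T.inv_mem ha)

/-- **the products `s * l` generate the commutator subgroup** -/
theorem T_eq : T = commutator Fi24 := by
  apply le_antisymm T_le
  intro g hg
  rcases mem_T_or g with h | h
  · exact h
  · exfalso
    have h1 : g * lG ∈ commutator Fi24 := T_le h
    have h2 : lG ∈ commutator Fi24 := by
      have := (commutator Fi24).mul_mem ((commutator Fi24).inv_mem hg) h1
      rwa [inv_mul_cancel_left] at this
    exact lG_not_mem h2

end Cfsg.Agent.Lib.Helper7.Fi24M

end
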