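import Cfsg.Agent.Lib.Helper7.MG3C

/-!
# A checked part of a table with formal central displacements

The certificate of `MG3A`, of which only a part of the entries is given: an entry whose time is `65535` is absent, is
never used and is not checked.  All the entries that are given are true, the words that are traced have their classes
as values, and a word traced without gap gives a relation between the central elements.  The index is not bounded.
-/

set_option autoImplicit false

namespace Cfsg.Agent.Lib.Helper7.MG4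

open Cfsg.Agent.Lib.Helper8.CosetCert (R)
open Cfsg.Agent.Lib.Helper7.HSMult (strictN strictN_eq strictL strictL_eq)
open Cfsg.Agent.Lib.Helper7.MG3
open Cfsg.Agent.Lib.Helper7.MG3.VCert
open scoped IsMulCommutative

/-- the check of an entry that may be absent -/
def slotOKP (C : VCert) (a x : ℕ) : Bool := Nat.beq (ft (C.sl a x)) 65535 || C.slotOKR a x

theorem slotOK_of_P (C : VCert) {a x : ℕ} (h : slotOKP C a x = true) (h2 : ft (C.sl a x) < 65535) :
    C.slotOK a x = true := by
  rw [slotOKP, Bool.or_eq_true] at h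
  rcases h with h | h
  · have := Nat.eq_of_beq_eq_true h
    omega
  · rw [← C.slotOKR_eq]
    exact h

variable (C : VCert) {Γ : Type*} [Group Γ] {γ : ℕ → Γ} {H : Subgroup Γ} {z : ℕ → Subgroup.center Γ}

section main

variable (Kc : Subgroup Γ) (hKc : ∀ u, u ∈ Kc → ∀ g : Γ, g * u * g⁻¹ ∈ Kc) (hz : ∀ j, j < C.k → (z j : Γ) ∈ Kc)
  (hHK : ∀ u, u ∈ H → u ∈ Kc → u = 1)
  (hn : C.n ≤ 16777216) (hB : C.B < 4096) (hinv : ∀ x, x < C.g → γ (C.iv x) = (γ x)⁻¹)
  (hsub : ∀ x, C.sub x = true → γ x ∈ H)
  (hWK : ∀ i, i < C.nW → wd γ (C.W i) ∈ Kc)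
  (hW0 : ∀ i, i < C.nW → C.wT i = 0 → wd γ (C.W i) = (C.ek z i : Γ))
  (hall : ∀ a, a < C.n → ∀ x, x < C.g → slotOKP C a x = true)
  (hwall : ∀ i, i < C.nW → C.wordOK i = true)

include hn hB hinv hsub hall in
theorem good_succ {t : ℕ} (ht65 : t < 65535) (hG : C.Good γ H z t) (hWG : C.WGood γ z t) :
    C.Good γ H z (t + 1) := by
  intro a x ha hx ht
  rcases Nat.lt_or_ge (ft (C.sl a x)) t with h | h
  · exact hG a x ha hx h
  have ht' : ft (C.sl a x) = t := by omega
  have hs := slotOK_of_P C (hall a ha x hx) (by omega)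
  rw [slotOK, strictN_eq, Bool.and_eq_true, Bool.and_eq_true] at hs
  obtain ⟨⟨hb, hf⟩, hs⟩ := hs
  have hb' : fb (C.sl a x) < C.n := by simpa [Nat.blt] using hb
  have hbd := Bdd_of_fldOK _ _ hf
  refine ⟨hbd, ?_⟩
  set s := C.sl a x with hsdef
  split at hs
  · -- the definition of a row
    simp only [Bool.and_eq_true] at hs
    obtain ⟨⟨h1, h2⟩, h3⟩ := hs
    have h1' : C.pr (fb s) = a + 16777216 * x := Nat.eq_of_beq_eq_true h1
    have h2' : a < fb s := by simpa [Nat.blt] using h2
    have h3' : fd s = Bv C.k C.B := Nat.eq_of_beq_eq_true h3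
    rw [C.τ_def γ h2' (lt_of_lt_of_le ha hn) h1', dk, h3', C.kap_Bv hB, Subgroup.coe_one, mul_one]
    exact R.refl _
  · -- the entry in the other direction
    rw [strictN_eq] at hs
    simp only [Bool.and_eq_true] at hs
    obtain ⟨⟨⟨h1, h2⟩, h3⟩, h4⟩ := hs
    have h1' : fb (C.sl (fb s) (C.iv x)) = a := Nat.eq_of_beq_eq_true h1
    have h2' : ft (C.sl (fb s) (C.iv x)) < ft s := by simpa [Nat.blt] using h2
    have h3' : C.iv x < C.g := by simpa [Nat.blt] using h3
    have h4' : fd s + fd (C.sl (fb s) (C.iv x)) = 2 * Bv C.k C.B := Nat.eq_of_beq_eq_true h4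
    obtain ⟨hbd', h7⟩ := hG (fb s) (C.iv x) hb' h3' (by rw [ht'] at h2'; exact h2')
    rw [h1', hinv x hx] at h7
    have h8 := (h7.mul_right (γ x)).symm
    rw [inv_mul_cancel_right, mul_assoc, ← Subgroup.mem_center_iff.1 (C.dk z _).2, ← mul_assoc] at h8
    have h9 := h8.mul_right (C.dk z s : Γ)
    obtain ⟨_, hf2⟩ := hbd.add hbd' (by norm_num : 1 + 1 ≤ 255)
    have e1 : C.dk z (C.sl (fb s) (C.iv x)) * C.dk z s = 1 := by
      rw [mul_comm, dk, dk, ← C.kap_add z 1 1 hf2, h4', two_mul]
      have hBB : ∀ j, j < C.k → fld (Bv C.k C.B + Bv C.k C.B) j = fld (Bv C.k C.B) j + fld (Bv C.k C.B) j := by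
        intro j hj
        apply fld_add
        intro i hi
        rw [fld_Bv (by norm_num [SW]; omega) C.k i (by omega)]
        norm_num [SW]; omega
      rw [C.kap_add z 1 1 hBB, C.kap_Bv hB, mul_one]
    rw [mul_assoc (C.τ γ a * γ x), ← Subgroup.coe_mul, e1, Subgroup.coe_one, mul_one] at h9
    exact h9
  · -- a letter of the subgroup
    simp only [Bool.and_eq_true] at hs
    obtain ⟨⟨⟨h1, h2⟩, h3⟩, h4⟩ := hs
    have h1' : a = 0 := Nat.eq_of_beq_eq_true h1
    have h2' : fb s = 0 := Nat.eq_of_beq_eq_true h2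
    have h4' : fd s = Bv C.k C.B := Nat.eq_of_beq_eq_true h4
    rw [h2', h1', dk, h4', C.kap_Bv hB, Subgroup.coe_one, mul_one, τ_zero, one_mul]
    show γ x * 1⁻¹ ∈ H
    rw [inv_one, mul_one]
    exact hsub x h3
  · -- a word with a gap
    rw [strictL_eq] at hs
    simp only [Bool.and_eq_true] at hs
    obtain ⟨⟨⟨⟨hs1, hs2⟩, hs3⟩, hs0⟩, hs⟩ := hs
    have hi : fr s < C.nW := by simpa [Nat.blt] using hs1
    have hT : C.wT (fr s) ≤ ft s := by simpa [Nat.ble] using hs2
    set w := C.W (fr s) with hw
    set p := fp s with hp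
    have hlen : w.length ≤ 255 := by simpa [Nat.ble] using hs3
    have hx' : w[p]? = some x := by
      cases hq : w[p]? with
      | none => rw [hq] at hs0; exact absurd hs0 (by simp)
      | some y =>
        rw [hq] at hs0
        rw [Nat.eq_of_beq_eq_true hs0]
    cases hq1 : C.scan (ft s) (w.drop (p + 1)) (fb s) 0 with
    | none => rw [hq1] at hs; exact absurd hs (by simp)
    | some r1 =>
      obtain ⟨m, u⟩ := r1
      rw [hq1] at hs
      dsimp only at hs
      cases hq2 : C.scan (ft s) (w.take p) m u with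
      | none => rw [hq2] at hs; exact absurd hs (by simp)
      | some r2 =>
        obtain ⟨a', v⟩ := r2
        rw [hq2] at hs
        dsimp only at hs
        simp only [Bool.and_eq_true] at hs
        obtain ⟨h1, h2⟩ := hs
        have h1' : a' = a := Nat.eq_of_beq_eq_true h1
        subst h1'
        have h2' : v + fd s = C.rhs (fr s) := Nat.eq_of_beq_eq_true h2
        rw [ht'] at hq1 hq2 hT
        have hpl : p < w.length := by
          by_contra hcon
          rw [List.getElem?_eq_none (by omega)] at hx'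
          exact absurd hx' (by simp)
        have hsplit : w = w.take p ++ x :: w.drop (p + 1) := by
          have hx'' : w[p] = x := by
            rw [List.getElem?_eq_getElem hpl] at hx'
            exact Option.some.inj hx'
          rw [← hx'', ← List.drop_eq_getElem_cons hpl, List.take_append_drop]
        have hl1 : (w.take p).length = p := by rw [List.length_take]; omega
        have hl2 : (w.drop (p + 1)).length = w.length - (p + 1) := List.length_drop
        obtain ⟨hbF, hF⟩ := C.scan_spec hG _ _ 0 0 _ _ (Bdd_zero _) (by rw [hl2]; omega) hq1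
        rw [kap_zero, inv_one, mul_one, Nat.zero_add] at hF
        rw [Nat.zero_add] at hbF
        obtain ⟨hbB, hB'⟩ := C.scan_spec hG _ _ _ _ _ _ hbF (by rw [hl1, hl2]; omega) hq2
        have hcnt : (w.drop (p + 1)).length + (w.take p).length = w.length - 1 := by
          rw [hl1, hl2]; omega
        rw [hcnt] at hbB hB'
        set P := wd γ (w.take p) with hPdef
        set S := wd γ (w.drop (p + 1)) with hSdef
        have hprod : P * γ x * S = (C.ek z (fr s) : Γ) := by
          have h5 := hWG (fr s) hi hT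
          rw [← hw, hsplit, wd_append, wd_cons, ← mul_assoc] at h5
          exact h5
        -- the value of the class
        obtain ⟨_, hf3⟩ := hbB.add hbd (by omega : w.length - 1 + 1 ≤ 255)
        have hek : C.ek z (fr s) = C.kap z v (w.length - 1) * C.dk z s := by
          rw [ek, ← hw, ← h2', dk, ← C.kap_add z _ 1 hf3]
          congr 1
          omega
        -- the chain
        set X1 := C.kap z u (w.drop (p + 1)).length with hX1
        have e0 : C.τ γ m * (X1 : Γ) * P = C.τ γ m * P * (X1 : Γ) := by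
          rw [mul_assoc, ← Subgroup.mem_center_iff.1 X1.2 P, ← mul_assoc]
        have hA := (hF.mul_right P).trans (by
          rw [e0]
          exact hB'.mul_right (X1 : Γ))
        rw [mul_assoc (C.τ γ a'), ← Subgroup.coe_mul, inv_mul_cancel_right] at hA
        -- now `τ (fb s) * S * P ~ τ a' * kap v (|w| - 1)`
        have hE := (hA.mul_right ((S * P)⁻¹ * (C.dk z s : Γ))).symm
        have e3 : C.τ γ (fb s) * S * P * ((S * P)⁻¹ * (C.dk z s : Γ)) = C.τ γ (fb s) * (C.dk z s : Γ) := by
          rw [mul_assoc (C.τ γ (fb s)), mul_assoc, mul_inv_cancel_left]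
        have e4 : C.τ γ a' * (C.kap z v (w.length - 1) : Γ) * ((S * P)⁻¹ * (C.dk z s : Γ)) = C.τ γ a' * γ x := by
          have hc := Subgroup.mem_center_iff.1 (C.kap z v (w.length - 1)).2
          have hc2 := Subgroup.mem_center_iff.1 (C.dk z s).2
          have e5 : (C.kap z v (w.length - 1) : Γ) * (C.dk z s : Γ) = P * γ x * S := by
            rw [hprod, hek, Subgroup.coe_mul]
          have hc3 : ∀ y : Γ, y * (P * γ x * S) = (P * γ x * S) * y := by
            intro y
            rw [hprod]
            exact Subgroup.mem_center_iff.1 (C.ek z (fr s)).2 y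
          have s1 : (C.kap z v (w.length - 1) : Γ) * ((S * P)⁻¹ * (C.dk z s : Γ)) =
              (C.kap z v (w.length - 1) : Γ) * (C.dk z s : Γ) * (S * P)⁻¹ := by
            rw [hc2 ((S * P)⁻¹), mul_assoc]
          calc C.τ γ a' * (C.kap z v (w.length - 1) : Γ) * ((S * P)⁻¹ * (C.dk z s : Γ))
              = C.τ γ a' * ((C.kap z v (w.length - 1) : Γ) * (C.dk z s : Γ)) * (S * P)⁻¹ := by
                rw [mul_assoc (C.τ γ a'), s1, mul_assoc (C.τ γ a')]
            _ = C.τ γ a' * (P * γ x * S) * (S * P)⁻¹ := by rw [e5]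
            _ = C.τ γ a' * (P⁻¹ * (P * γ x * S) * P) * (S * P)⁻¹ := by
                congr 2
                rw [mul_assoc P⁻¹, ← hc3 P, ← mul_assoc, inv_mul_cancel, one_mul]
            _ = C.τ γ a' * γ x := by group
        rw [e3, e4] at hE
        exact hE

include Kc hKc hz hHK hn hB hinv hsub hWK hW0 hall hwall in
/-- **all entries of a checked part of a table are true, and all its words have their classes as values** -/
theorem good_all : ∀ t, t ≤ 65535 → C.Good γ H z t ∧ C.WGood γ z t
  | 0, _ => ⟨fun _ _ _ _ h0 => absurd h0 (Nat.not_lt_zero _), fun i hi h0 => hW0 i hi (Nat.le_zero.1 h0)⟩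
  | t + 1, ht => by
    obtain ⟨hG, hWG⟩ := good_all t (by omega)
    have hG1 := good_succ C hn hB hinv hsub hall (by omega) hG hWG
    refine ⟨hG1, ?_⟩
    intro i hi hT
    rcases Nat.lt_or_ge (C.wT i) (t + 1) with h | h
    · exact hWG i hi (by omega)
    have hT' : C.wT i = t + 1 := by omega
    have hs := hwall i hi
    rw [wordOK, Bool.or_eq_true] at hs
    rcases hs with hs | hs
    · have : C.wT i = 0 := Nat.eq_of_beq_eq_true hs
      omega
    rw [strictL_eq] at hs
    simp only [Bool.and_eq_true] at hs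
    obtain ⟨⟨hs1, hs2⟩, hs⟩ := hs
    have hlen : (C.W i).length ≤ 255 := by simpa [Nat.ble] using hs1
    cases hq : C.scan (C.wT i) (C.W i) (C.wA i) 0 with
    | none => rw [hq] at hs; exact absurd hs (by simp)
    | some r =>
      obtain ⟨a', v⟩ := r
      rw [hq] at hs
      dsimp only at hs
      rw [Bool.and_eq_true] at hs
      have h1 : a' = C.wA i := Nat.eq_of_beq_eq_true hs.1
      have h2 : v = C.rhs i := Nat.eq_of_beq_eq_true hs.2
      subst h1
      rw [hT'] at hq
      have := C.word_of_scan Kc hKc hz hHK hG1 (hWK i hi) hlen hq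
      rw [this, h2, ek]

include Kc hKc hz hHK hn hB hinv hsub hWK hW0 hall hwall in
/-- **a word of the kernel traced without gap has the value that the trace gives** -/
theorem value_of_scan {w : List ℕ} {a T v : ℕ} (hT : T ≤ 65535) (hw : wd γ w ∈ Kc) (hl : w.length ≤ 255)
    (h : C.scan T w a 0 = some (a, v)) : wd γ w = (C.kap z v w.length : Γ) :=
  C.word_of_scan Kc hKc hz hHK (good_all C Kc hKc hz hHK hn hB hinv hsub hWK hW0 hall hwall T hT).1 hw hl h

include Kc hKc hz hHK hn hB hinv hsub hWK hW0 hall hwall in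
/-- **a word traced without gap gives a relation between the central elements** -/
theorem close_spec {i a T v : ℕ} (hT : T ≤ 65535) (hi : i < C.nW) (hl : (C.W i).length ≤ 255)
    (hwT : C.wT i ≤ 65535)
    (h : C.scan T (C.W i) a 0 = some (a, v)) : C.ek z i = C.kap z v (C.W i).length := by
  have h1 := value_of_scan C Kc hKc hz hHK hn hB hinv hsub hWK hW0 hall hwall hT (hWK i hi) hl h
  have h2 := (good_all C Kc hKc hz hHK hn hB hinv hsub hWK hW0 hall hwall (C.wT i) hwT).2 i hi le_rfl
  rw [h2] at h1
  exact Subtype.ext h1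

end main

end Cfsg.Agent.Lib.Helper7.MG4
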