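import Cfsg.Agent.Lib.Helper7.Fi24MA
import Cfsg.Agent.Lib.Helper7.MG4A

/-!
# The multiplier of the Fischer group Fi₂₄′: the letters in the commutator subgroup of the presented group Fi₂₄ and the
rewritten relators

The twelve letters are the products `s * l` for `s = a, …, j`, the product `k * l` and its inverse.  A word in the
generators of Fi₂₄ is rewritten from the left as a word in the letters, a generator at an even place `s` as `s * l`, at
an odd place as `l * s`.  The rewritten relators, from either parity, are trivial in the commutator subgroup.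
-/

set_option autoImplicit false
set_option linter.constructorNameAsVariable false

noncomputable section

namespace Cfsg.Agent.Lib.Helper7.Fi24M

open Cfsg.Spor Cfsg.Agent.Lib.Helper6 Cfsg.Agent.Lib.Helper6.Fi24H Cfsg.Agent.Lib.Helper6.Fi24Simple
open Cfsg.Agent.Lib.Helper6.TC
open Cfsg.Agent.Lib.Helper7.MG3 (VCert.wd VCert.wd_nil VCert.wd_cons VCert.wd_append)

/-! ### the relators of a group presented on involutions, as words -/

section words

variable {α : Type} [DecidableEq α] {edges : List (α × ℕ × α)} {extra : List (FreeGroup α)}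

/-- the words of the relators are trivial in the presented group -/
theorem prod_words_eq_one (gen : ℕ → α) (g : ℕ) (extraWords : List (List ℕ))
    (hnode : ∀ a : α, a ∈ coxNodes edges)
    (hextra : (∀ r ∈ extra, FreeGroup.lift (fun a => (PresentedGroup.of a : CoxPresented α edges extra)) r = 1) ↔
      ∀ w ∈ extraWords, (w.map fun x => (PresentedGroup.of (gen x) : CoxPresented α edges extra)).prod = 1)
    {w : List ℕ} (hw : w ∈ coxWordsL edges gen g ++ extraWords) :
    (w.map fun x => (PresentedGroup.of (gen x) : CoxPresented α edges extra)).prod = 1 := by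
  rcases List.mem_append.1 hw with h | h
  · unfold coxWordsL at h
    rw [List.mem_flatMap] at h
    obtain ⟨i, _, h⟩ := h
    rw [List.mem_map] at h
    obtain ⟨j, _, rfl⟩ := h
    rw [prod_rep2 (fun x => (PresentedGroup.of (gen x) : CoxPresented α edges extra))]
    have hm : (FreeGroup.of (gen i) * FreeGroup.of (gen j)) ^ coxLabel edges (gen i) (gen j) ∈
        coxRelators edges ∪ {r | r ∈ extra} :=
      Or.inl ⟨gen i, hnode _, gen j, hnode _, rfl⟩
    have h1 := PresentedGroup.one_of_mem hm
    rw [map_pow, map_mul] at h1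
    exact h1
  · refine hextra.1 ?_ w h
    intro r hr
    rw [lift_of_eq_mk]
    exact PresentedGroup.one_of_mem (Or.inr hr)

theorem length_rep2 (i j m : ℕ) : (rep2 i j m).length = 2 * m := by
  induction m with
  | zero => rfl
  | succ m ih =>
    unfold rep2 at ih ⊢
    rw [List.replicate_succ, List.flatten_cons, List.length_append, ih]
    simp
    omega

theorem mem_rep2 {i j m x : ℕ} (h : x ∈ rep2 i j m) : x = i ∨ x = j := by
  unfold rep2 at h
  rw [List.mem_flatten] at h
  obtain ⟨l, hl, hx⟩ := h
  rw [List.eq_of_mem_replicate hl] at hx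
  simpa using hx

end words

/-! ### the letters -/

/-- the letters, as elements of the presented group Fi₂₄ -/
def γ24 (y : ℕ) : Fi24 :=
  if y < 10 then gq (Fi23TC.gen y) else if y = 10 then xk else if y = 11 then xk⁻¹ else 1

/-- `l` or `1` -/
def pre (b : Bool) : Fi24 := cond b lG 1

theorem pre_mul_self (b : Bool) : pre b * pre b = 1 := by
  cases b
  · exact one_mul 1
  · exact lG_mul_self

/-- the letters that replace a generator -/
def rwLet (par : Bool) (s : ℕ) : List ℕ :=
  if s = 0 then [] else if s = 1 then [cond par 11 10] else [s - 2]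

/-- a word in the generators, rewritten from the left -/
def rwL : Bool → List ℕ → List ℕ
  | _, [] => []
  | par, s :: w => rwLet par s ++ rwL (!par) w

/-- the parity after a word -/
def endPar : Bool → List ℕ → Bool
  | par, [] => par
  | par, _ :: w => endPar (!par) w

theorem endPar_append (par : Bool) (u w : List ℕ) : endPar par (u ++ w) = endPar (endPar par u) w := by
  induction u generalizing par with
  | nil => rfl
  | cons s u ih => exact ih _

theorem endPar_rep2 (par : Bool) (i j m : ℕ) : endPar par (rep2 i j m) = par := by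
  induction m with
  | zero => rfl
  | succ m ih =>
    have e : rep2 i j (m + 1) = [i, j] ++ rep2 i j m := by
      unfold rep2
      rw [List.replicate_succ, List.flatten_cons]
    rw [e, endPar_append]
    show endPar (!(!par)) (rep2 i j m) = par
    rw [Bool.not_not, ih]

theorem gen24_eq {s : ℕ} (h2 : 2 ≤ s) (h12 : s < 12) : Fi24TC.gen s = Fi24H.j (Fi23TC.gen (s - 2)) := by
  interval_cases s <;> rfl

theorem letter_val (par : Bool) {s : ℕ} (hs : s < 12) :
    pre par * PresentedGroup.of (Fi24TC.gen s) * pre (!par) = VCert.wd γ24 (rwLet par s) := by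
  unfold rwLet
  by_cases h0 : s = 0
  · subst h0
    rw [if_pos rfl, VCert.wd_nil]
    show pre par * lG * pre (!par) = 1
    cases par
    · show 1 * lG * lG = 1
      rw [one_mul, lG_mul_self]
    · show lG * lG * 1 = 1
      rw [mul_one, lG_mul_self]
  · rw [if_neg h0]
    by_cases h1 : s = 1
    · subst h1
      rw [if_pos rfl, VCert.wd_cons, VCert.wd_nil, mul_one]
      cases par
      · show 1 * PresentedGroup.of Fi24.Gen.k * lG = γ24 10
        rw [one_mul]
        rfl
      · show lG * PresentedGroup.of Fi24.Gen.k * 1 = γ24 11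
        rw [mul_one, ← xk_inv]
        rfl
    · rw [if_neg h1, VCert.wd_cons, VCert.wd_nil, mul_one]
      have h2 : 2 ≤ s := by omega
      have e : γ24 (s - 2) = gq (Fi23TC.gen (s - 2)) := by
        unfold γ24
        rw [if_pos (by omega)]
      rw [e, gen24_eq h2 hs]
      cases par
      · show 1 * gx (Fi23TC.gen (s - 2)) * lG = _
        rw [one_mul]
        rfl
      · show lG * gx (Fi23TC.gen (s - 2)) * 1 = _
        rw [mul_one, lG_comm]
        rfl

/-- **a word in the generators and the rewritten word** -/
theorem rw_spec : ∀ (w : List ℕ) (par : Bool), (∀ s ∈ w, s < 12) →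
    pre par * (w.map fun s => (PresentedGroup.of (Fi24TC.gen s) : Fi24)).prod =
      VCert.wd γ24 (rwL par w) * pre (endPar par w)
  | [], par, _ => by
    show pre par * 1 = 1 * pre par
    rw [mul_one, one_mul]
  | s :: w, par, h => by
    have ih := rw_spec w (!par) fun t ht => h t (List.mem_cons_of_mem _ ht)
    have hl := letter_val par (h s List.mem_cons_self)
    rw [List.map_cons, List.prod_cons]
    show _ = VCert.wd γ24 (rwLet par s ++ rwL (!par) w) * pre (endPar (!par) w)
    rw [VCert.wd_append, ← hl, mul_assoc _ (VCert.wd γ24 _), ← ih]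
    have : pre par * (PresentedGroup.of (Fi24TC.gen s) *
        (w.map fun s => (PresentedGroup.of (Fi24TC.gen s) : Fi24)).prod) =
        pre par * PresentedGroup.of (Fi24TC.gen s) * (pre (!par) * pre (!par)) *
          (w.map fun s => (PresentedGroup.of (Fi24TC.gen s) : Fi24)).prod := by
      rw [pre_mul_self, mul_one, mul_assoc]
    rw [this]
    simp only [mul_assoc]

theorem hnode24 : ∀ a : Fi24.Gen, a ∈ coxNodes Fi24.edges := by
  intro a
  cases a <;> decide

theorem hnode23 : ∀ a : Fi23.Gen, a ∈ coxNodes Fi23.edges := by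
  intro a
  cases a <;> decide

theorem of_mul_self23 (x : Fi23.Gen) : (PresentedGroup.of x : Fi23) * PresentedGroup.of x = 1 := by
  have hm : (FreeGroup.of x * FreeGroup.of x) ^ coxLabel Fi23.edges x x ∈
      coxRelators Fi23.edges ∪ {r | r ∈ Fi23.extra} :=
    Or.inl ⟨x, hnode23 _, x, hnode23 _, rfl⟩
  have h1 := PresentedGroup.one_of_mem hm
  have e : coxLabel Fi23.edges x x = 1 := by
    unfold coxLabel
    rw [if_pos rfl]
  rw [e, pow_one, map_mul] at h1
  exact h1

/-- the words of the relators of Fi₂₄ -/
def words24 : List (List ℕ) := coxWordsL Fi24.edges Fi24TC.gen 12 ++ Fi24TC.extraWords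

/-- the words of the relators of Fi₂₃ -/
def words23 : List (List ℕ) := coxWordsL Fi23.edges Fi23TC.gen 10 ++ Fi23TC.extraWords

theorem prod_words24 {w : List ℕ} (hw : w ∈ words24) :
    (w.map fun s => (PresentedGroup.of (Fi24TC.gen s) : Fi24)).prod = 1 :=
  prod_words_eq_one Fi24TC.gen 12 Fi24TC.extraWords hnode24
    (Fi24TC.extra_iff (fun a => (PresentedGroup.of a : Fi24)) of_mul_self24) hw

theorem prod_words23 {w : List ℕ} (hw : w ∈ words23) :
    (w.map fun s => (PresentedGroup.of (Fi23TC.gen s) : Fi23)).prod = 1 :=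
  prod_words_eq_one Fi23TC.gen 10 Fi23TC.extraWords hnode23
    (Fi23TC.extra_iff (fun a => (PresentedGroup.of a : Fi23)) of_mul_self23) hw

set_option maxRecDepth 100000 in
theorem chk_extra24 : Fi24TC.extraWords.all (fun w => w.all (fun s => Nat.blt s 12) &&
    (endPar false w == false) && (endPar true w == true)) = true := by decide

set_option maxRecDepth 100000 in
theorem chk_extra23 : Fi23TC.extraWords.all (fun w => w.all (fun s => Nat.blt s 10)) = true := by decide

theorem words24_spec {w : List ℕ} (hw : w ∈ words24) : (∀ s ∈ w, s < 12) ∧ ∀ par, endPar par w = par := by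
  rcases List.mem_append.1 hw with h | h
  · unfold coxWordsL at h
    rw [List.mem_flatMap] at h
    obtain ⟨i, hi, h⟩ := h
    rw [List.mem_map] at h
    obtain ⟨j, hj, rfl⟩ := h
    refine ⟨fun s hs => ?_, fun par => endPar_rep2 par _ _ _⟩
    rcases mem_rep2 hs with rfl | rfl
    · exact List.mem_range.1 hi
    · exact List.mem_range.1 hj
  · have h1 := List.all_eq_true.1 chk_extra24 w h
    simp only [Bool.and_eq_true, beq_iff_eq] at h1
    obtain ⟨⟨h2, h3⟩, h4⟩ := h1
    refine ⟨fun s hs => ?_, fun par => ?_⟩
    · have := List.all_eq_true.1 h2 s hs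
      simpa [Nat.blt] using this
    · cases par
      · exact h3
      · exact h4

theorem words23_lt {w : List ℕ} (hw : w ∈ words23) : ∀ s ∈ w, s < 10 := by
  rcases List.mem_append.1 hw with h | h
  · unfold coxWordsL at h
    rw [List.mem_flatMap] at h
    obtain ⟨i, hi, h⟩ := h
    rw [List.mem_map] at h
    obtain ⟨j, hj, rfl⟩ := h
    intro s hs
    rcases mem_rep2 hs with rfl | rfl
    · exact List.mem_range.1 hi
    · exact List.mem_range.1 hj
  · have h1 := List.all_eq_true.1 chk_extra23 w h
    intro s hs
    have := List.all_eq_true.1 h1 s hs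
    simpa [Nat.blt] using this

/-- **the rewritten relators are trivial** -/
theorem wd24_rw {w : List ℕ} (hw : w ∈ words24) (par : Bool) : VCert.wd γ24 (rwL par w) = 1 := by
  obtain ⟨hlt, hpar⟩ := words24_spec hw
  have h := rw_spec w par hlt
  rw [prod_words24 hw, mul_one, hpar par] at h
  have h2 := congrArg (· * pre par) h
  simp only [mul_assoc, pre_mul_self, mul_one] at h2
  exact h2.symm

/-- the letters of a word of the relators of Fi₂₃, in Fi₂₄ -/
theorem wd24_eq_θ : ∀ (w : List ℕ), (∀ s ∈ w, s < 10) →
    VCert.wd γ24 w = θ ((w.map fun s => (PresentedGroup.of (Fi23TC.gen s) : Fi23)).prod)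
  | [], _ => by rw [VCert.wd_nil, List.map_nil, List.prod_nil, map_one]
  | s :: w, h => by
    rw [VCert.wd_cons, List.map_cons, List.prod_cons, map_mul, θ_of,
      wd24_eq_θ w fun t ht => h t (List.mem_cons_of_mem _ ht)]
    congr 1
    unfold γ24
    rw [if_pos (h s List.mem_cons_self)]

/-- **the relators of Fi₂₃ are trivial** -/
theorem wd24_pure {w : List ℕ} (hw : w ∈ words23) : VCert.wd γ24 w = 1 := by
  rw [wd24_eq_θ w (words23_lt hw), prod_words23 hw, map_one]

/-! ### the letters in the commutator subgroup -/

/-- the product `k * l` in the commutator subgroup -/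
def xG : Fi24' := ⟨xk, (mem_commutator_iff _).2 sgn_xk⟩

/-- the letters in the commutator subgroup -/
def γG (y : ℕ) : Fi24' :=
  if y < 10 then θ' (PresentedGroup.of (Fi23TC.gen y)) else if y = 10 then xG else if y = 11 then xG⁻¹ else 1

theorem γG_coe (y : ℕ) : ((γG y : Fi24') : Fi24) = γ24 y := by
  unfold γG γ24
  split_ifs
  · rw [θ'_coe, θ_of]
  · rfl
  · rfl
  · rfl

theorem wdG_coe : ∀ w : List ℕ, ((VCert.wd γG w : Fi24') : Fi24) = VCert.wd γ24 w
  | [] => rfl
  | s :: w => by
    rw [VCert.wd_cons, VCert.wd_cons, Subgroup.coe_mul, γG_coe, wdG_coe w]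

theorem wdG_rw {w : List ℕ} (hw : w ∈ words24) (par : Bool) : VCert.wd γG (rwL par w) = 1 :=
  Subtype.ext (by rw [wdG_coe, wd24_rw hw par]; rfl)

theorem wdG_pure {w : List ℕ} (hw : w ∈ words23) : VCert.wd γG w = 1 :=
  Subtype.ext (by rw [wdG_coe, wd24_pure hw]; rfl)

/-- the subgroup of the commutator subgroup that is the image of Fi₂₃ -/
def Q : Subgroup Fi24' := θ'.range

theorem γG_mem_Q {y : ℕ} (hy : y < 10) : γG y ∈ Q := by
  unfold γG
  rw [if_pos hy]
  exact ⟨_, rfl⟩

/-- **the letters generate the commutator subgroup** -/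
theorem closure_γG : Subgroup.closure (γG '' Set.Iio 12) = ⊤ := by
  apply Subgroup.map_injective (commutator Fi24).subtype_injective
  rw [MonoidHom.map_closure, ← MonoidHom.range_eq_map, Subgroup.range_subtype]
  refine Eq.trans ?_ T_eq
  unfold T
  apply le_antisymm
  · rw [Subgroup.closure_le]
    rintro _ ⟨_, ⟨y, hy, rfl⟩, rfl⟩
    have hy' : y < 12 := hy
    show ((γG y : Fi24') : Fi24) ∈ _
    rw [γG_coe]
    unfold γ24
    split_ifs with h1 h2 h3
    · exact Subgroup.subset_closure (Or.inl ⟨_, rfl⟩)
    · exact Subgroup.subset_closure (Or.inr rfl)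
    · exact Subgroup.inv_mem _ (Subgroup.subset_closure (Or.inr rfl))
    · exact Subgroup.one_mem _
  · rw [Subgroup.closure_le]
    rintro g (⟨x, rfl⟩ | rfl)
    · apply Subgroup.subset_closure
      refine ⟨γG (Fi23TC.code x), ⟨Fi23TC.code x, ?_, rfl⟩, ?_⟩
      · show Fi23TC.code x < 12
        cases x <;> decide
      · show ((γG (Fi23TC.code x) : Fi24') : Fi24) = gq x
        rw [γG_coe]
        unfold γ24
        have h1 : Fi23TC.code x < 10 := by cases x <;> decide
        have h2 : Fi23TC.gen (Fi23TC.code x) = x := by cases x <;> rfl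
        rw [if_pos h1, h2]
    · apply Subgroup.subset_closure
      refine ⟨γG 10, ⟨10, by show (10 : ℕ) < 12; norm_num, rfl⟩, ?_⟩
      show ((γG 10 : Fi24') : Fi24) = xk
      rw [γG_coe]
      rfl

end Cfsg.Agent.Lib.Helper7.Fi24M

end
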