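import Cfsg.Agent.Lib.Helper7.MGenA
import Cfsg.Agent.Lib.Helper7.M12MultA

/-!
# The kernel of a central extension is generated by the classes of the words of a checked table

Let `σ : Γ → G` be a surjective homomorphism of finite groups with central kernel, with lifts `γ x` of letters that
generate `Γ`, one of which, of order `h` like its image, generates the subgroup of the table.  If `G` has `h * n`
elements and the table has `n` rows, then the kernel is generated by the central elements of the table.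
-/

set_option autoImplicit false

namespace Cfsg.Agent.Lib.Helper7.MG

open Cfsg.Agent.Lib.Helper8.CosetCert (R index_le_of_closed)
open scoped Pointwise

/-- every element of a finite group generated by letters that come with their inverses is a word in the letters -/
theorem exists_word_of_closure {Γ : Type*} [Group Γ] (γ : ℕ → Γ) (g : ℕ) (iv : ℕ → ℕ)
    (hiv : ∀ x, x < g → iv x < g ∧ γ (iv x) = (γ x)⁻¹)
    (hgen : Subgroup.closure (γ '' Set.Iio g) = ⊤) (y : Γ) :
    ∃ u : List ℕ, (∀ x ∈ u, x < g) ∧ y = (u.map γ).prod := by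
  have hy : y ∈ Subgroup.closure (γ '' Set.Iio g) := by rw [hgen]; exact Subgroup.mem_top y
  induction hy using Subgroup.closure_induction with
  | mem y hy =>
    obtain ⟨x, hx, rfl⟩ := hy
    exact ⟨[x], by simpa using hx, by simp⟩
  | one => exact ⟨[], by simp, by simp⟩
  | mul a b _ _ iha ihb =>
    obtain ⟨u, hu, rfl⟩ := iha
    obtain ⟨v, hv, rfl⟩ := ihb
    refine ⟨u ++ v, ?_, by rw [List.map_append, List.prod_append]⟩
    intro x hx
    rcases List.mem_append.1 hx with h | h
    · exact hu x h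
    · exact hv x h
  | inv a _ iha =>
    obtain ⟨u, hu, rfl⟩ := iha
    refine ⟨(u.map iv).reverse, ?_, ?_⟩
    · intro x hx
      rw [List.mem_reverse, List.mem_map] at hx
      obtain ⟨x', hx', rfl⟩ := hx
      exact (hiv x' (hu x' hx')).1
    · have key : ∀ u : List ℕ, (∀ x ∈ u, x < g) → ((u.map γ).prod)⁻¹ = (((u.map iv).reverse).map γ).prod := by
        intro u
        induction u with
        | nil => intro _; simp
        | cons x u ih =>
          intro hu
          rw [List.map_cons, List.prod_cons, mul_inv_rev, ih fun x' hx' => hu x' (List.mem_cons_of_mem _ hx'),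
            List.map_cons, List.reverse_cons, List.map_append, List.prod_append, List.map_cons, List.map_nil,
            List.prod_cons, List.prod_nil, mul_one, (hiv x (hu x List.mem_cons_self)).2]
      exact key u hu

section stem

variable {G : Type*} [Group G] [Finite G] {Γ : Type*} [Group Γ] [Finite Γ] (σ : Γ →* G)

/-- the subgroup generated by the central elements of the table -/
def Zc (z : ℕ → Subgroup.center Γ) (k : ℕ) : Subgroup Γ :=
  Subgroup.closure ((fun j => (z j : Γ)) '' Set.Iio k)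

omit [Finite Γ] in
theorem Zc_le_center (z : ℕ → Subgroup.center Γ) (k : ℕ) : Zc z k ≤ Subgroup.center Γ := by
  rw [Zc, Subgroup.closure_le]
  rintro _ ⟨j, _, rfl⟩
  exact (z j).2

variable (C : VCert) (γ : ℕ → Γ) (z : ℕ → Subgroup.center Γ) (x0 h : ℕ)
  (hsurj : Function.Surjective σ)
  (hcard : Nat.card G = h * C.n) (hn0 : 0 < C.n) (hh : 0 < h)
  (hx0 : ∀ i : ℕ, σ (γ x0) ^ i = 1 → h ∣ i) (hx0' : γ x0 ^ h = 1)
  (hsubx : ∀ x, C.sub x = true → γ x ∈ Subgroup.zpowers (γ x0))
  (hzK : ∀ j, j < C.k → (z j : Γ) ∈ σ.ker)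
  (hgen : ∀ y : Γ, ∃ u : List ℕ, (∀ x ∈ u, x < C.g) ∧ y = (u.map γ).prod)
  (hn : C.n ≤ 1048576) (hB : C.B < 4096) (hinv : ∀ x, x < C.g → γ (C.iv x) = (γ x)⁻¹)
  (hWK : ∀ i, i < C.nW → VCert.wd γ (C.W i) ∈ σ.ker)
  (hW0 : ∀ i, i < C.nW → C.wT i = 0 → VCert.wd γ (C.W i) = (C.ek z i : Γ))
  (hall : ∀ a, a < C.n → ∀ x, x < C.g → C.slotOK a x = true)
  (hwall : ∀ i, i < C.nW → C.wordOK i = true)

include hx0 hx0' in
omit [Finite G] [Finite Γ] in
theorem zpowers_inf_ker (u : Γ) (hu : u ∈ Subgroup.zpowers (γ x0)) (huK : u ∈ σ.ker) : u = 1 := by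
  obtain ⟨i, rfl⟩ := Subgroup.mem_zpowers_iff.1 hu
  rw [MonoidHom.mem_ker, map_zpow] at huK
  -- reduce to a natural exponent
  have h1 : σ (γ x0) ^ (i.natAbs) = 1 := by
    rcases Int.natAbs_eq i with e | e
    · rw [← zpow_natCast, ← e]; exact huK
    · have : σ (γ x0) ^ (-(i.natAbs : ℤ)) = 1 := by rw [← e]; exact huK
      rw [zpow_neg, inv_eq_one, zpow_natCast] at this
      exact this
  obtain ⟨q, hq⟩ := hx0 _ h1
  have h2 : γ x0 ^ (i.natAbs) = 1 := by rw [hq, pow_mul, hx0', one_pow]
  rcases Int.natAbs_eq i with e | e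
  · rw [e, zpow_natCast]; exact h2
  · rw [e, zpow_neg, zpow_natCast, h2, inv_one]

include hh hx0' in
omit [Finite Γ] in
theorem card_zpowers_le : Nat.card (Subgroup.zpowers (γ x0)) ≤ h := by
  rw [Nat.card_zpowers]
  exact Nat.le_of_dvd hh (orderOf_dvd_of_pow_eq_one hx0')

include hx0 hx0' hh hsubx hzK hgen hn hB hinv hWK hW0 hall hwall hn0 in
omit [Finite G] in
/-- **the order of the group is at most the number of rows times the order of the subgroup of the table times the
order of the subgroup generated by the central elements** -/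
theorem card_le_Zc : Nat.card Γ ≤ C.n * (h * Nat.card ↥(Zc z C.k)) := by
  set H := Subgroup.zpowers (γ x0) with hH
  have hHK : ∀ u, u ∈ H → u ∈ σ.ker → u = 1 := zpowers_inf_ker σ γ x0 h hx0 hx0'
  have hnorm : (Zc z C.k).Normal := by
    constructor
    intro n hn' g
    have := Subgroup.mem_center_iff.1 (Zc_le_center z C.k hn') g
    rw [this, mul_inv_cancel_right]
    exact hn'
  have hKn : ∀ u, u ∈ σ.ker → ∀ g : Γ, g * u * g⁻¹ ∈ σ.ker := fun u hu g =>
    (inferInstance : σ.ker.Normal).conj_mem u hu g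
  have hidx := C.index_le (γ := γ) (H := H) (z := z) σ.ker hKn hzK hHK hn hB hinv hsubx hWK hW0 hall hwall
    (H ⊔ Zc z C.k) le_sup_left (fun j hj => (le_sup_right : Zc z C.k ≤ H ⊔ Zc z C.k)
      (Subgroup.subset_closure ⟨j, hj, rfl⟩)) hgen hn0
  have hc1 : Nat.card ↥(H ⊔ Zc z C.k) ≤ h * Nat.card ↥(Zc z C.k) := by
    have e : ((H ⊔ Zc z C.k : Subgroup Γ) : Set Γ) = (H : Set Γ) * (Zc z C.k : Set Γ) := Subgroup.mul_normal H _
    have h1 : Nat.card ↥(H ⊔ Zc z C.k) = Nat.card ((H : Set Γ) * (Zc z C.k : Set Γ) : Set Γ) := by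
      rw [← e]; rfl
    rw [h1]
    refine le_trans Set.natCard_mul_le ?_
    exact Nat.mul_le_mul_right _ (card_zpowers_le γ x0 h hh hx0')
  exact Cfsg.Agent.Lib.Helper7.M12Mult.card_le_of_index_le _ hidx.1 hc1

include hsurj hcard hn0 hh hx0 hx0' hsubx hzK hgen hn hB hinv hWK hW0 hall hwall in
omit [Finite G] in
/-- **the kernel is generated by the central elements of the table** -/
theorem ker_eq_Zc : σ.ker = Zc z C.k := by
  have hZK : Zc z C.k ≤ σ.ker := by
    rw [Zc, Subgroup.closure_le]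
    rintro _ ⟨j, hj, rfl⟩
    exact hzK j hj
  have hc2 : Nat.card Γ ≤ C.n * (h * Nat.card ↥(Zc z C.k)) :=
    card_le_Zc σ C γ z x0 h hn0 hh hx0 hx0' hsubx hzK hgen hn hB hinv hWK hW0 hall hwall
  have hc3 : Nat.card Γ = Nat.card σ.ker * (h * C.n) := by
    rw [← hcard, ← Subgroup.card_mul_index σ.ker, Subgroup.index_ker, MonoidHom.range_eq_top.2 hsurj,
      Subgroup.card_top]
  have hc4 : Nat.card σ.ker ≤ Nat.card ↥(Zc z C.k) := by
    have : Nat.card σ.ker * (h * C.n) ≤ Nat.card ↥(Zc z C.k) * (h * C.n) := by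
      rw [← hc3]
      calc Nat.card Γ ≤ C.n * (h * Nat.card ↥(Zc z C.k)) := hc2
        _ = Nat.card ↥(Zc z C.k) * (h * C.n) := by ring
    exact Nat.le_of_mul_le_mul_right this (Nat.mul_pos hh hn0)
  symm
  apply Subgroup.eq_of_le_of_card_ge hZK
  exact hc4

end stem

end Cfsg.Agent.Lib.Helper7.MG
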