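import Cfsg.Agent.Lib.Helper7.Fi24MB
import Cfsg.Agent.Lib.Helper7.M12MultA
import Cfsg.Agent.Lib.Helper7.MGenB
import Cfsg.Agent.S2054

/-!
# The multiplier of the Fischer group Fi₂₄′: the letters in a finite stem extension

The image `Q` of Fi₂₃ in the commutator subgroup of the presented group Fi₂₄ is perfect and has no proper finite stem
extension.  In a finite stem extension the derived subgroup of the preimage of `Q` is a copy of `Q`; the first ten
letters are lifted into this copy, so that every word in these letters that is trivial in the group is trivial in the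
extension.  The lift of the letter `k * l` is chosen so that the cube of its product with the first letter and the
square of its product with the second letter have the same value.
-/

set_option autoImplicit false
set_option linter.constructorNameAsVariable false

noncomputable section

namespace Cfsg.Agent.Lib.Helper7.Fi24M

open Cfsg Cfsg.Spor Cfsg.Agent.Lib.Helper6 Cfsg.Agent.Lib.Helper6.Fi24H Cfsg.Agent.Lib.Helper6.Fi24Simple
open Cfsg.Agent.Lib.Helper6.TC
open Cfsg.Agent.Lib.Helper7.MG3 (VCert.wd VCert.wd_nil VCert.wd_cons VCert.wd_append)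
open Cfsg.Agent.Lib.Helper7.M12Mult
open Cfsg.Agent.Lib.Helper7.MG (expsumL)

/-! ### the subgroup `Q` -/

/-- a finite simple group whose order is not a prime is perfect -/
theorem perfect_of_simple_of_card {S : Type*} [Group S] [Finite S] [IsSimpleGroup S]
    (hnp : ¬ (Nat.card S).Prime) : commutator S = ⊤ := by
  have hn : (commutator S).Normal := by
    rw [commutator_def]
    infer_instance
  rcases hn.eq_bot_or_eq_top with h | h
  · exfalso
    apply hnp
    have hc : Subgroup.center S = ⊤ := (commutator_eq_bot_iff_center_eq_top S).mp h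
    let _ : CommGroup S := Group.commGroupOfCenterEqTop hc
    exact IsSimpleGroup.prime_card
  · exact h

theorem perfect_Fi23 : commutator Fi23 = ⊤ := by
  have := Fi23Simple.main.1
  apply perfect_of_simple_of_card
  rw [Fi23Simple.main.2]
  norm_num

/-- the presented group Fi₂₃ has no proper finite stem extension -/
theorem MF_Fi23 : MF.{0} Fi23 := by
  intro Γ' _ _ τ hs hc hd
  obtain ⟨π, hπ⟩ := Cfsg.Agent.S2054.result.2 Γ' τ ⟨hs, hc, hd⟩
  have : Subsingleton ↥τ.ker := hπ.subsingleton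
  exact Subgroup.eq_bot_of_subsingleton _

/-- the presented group Fi₂₃ and its image -/
def eQ : Fi23 ≃* ↥Q := MonoidHom.ofInjective θ'_injective

theorem perfect_Q : commutator ↥Q = ⊤ := by
  have h := Subgroup.map_commutator (⊤ : Subgroup Fi23) ⊤ eQ.toMonoidHom
  have ht : (⊤ : Subgroup Fi23).map eQ.toMonoidHom = ⊤ := by
    rw [← MonoidHom.range_eq_map]
    exact MonoidHom.range_eq_top.2 eQ.surjective
  rw [ht] at h
  have h2 : (commutator Fi23).map eQ.toMonoidHom = commutator ↥Q := h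
  rw [← h2, perfect_Fi23, ht]

theorem MF_Q : MF.{0} ↥Q := MF.of_equiv eQ MF_Fi23

theorem card_Q : Nat.card ↥Q = 4089470473293004800 := by
  rw [← Nat.card_congr eQ.toEquiv, Fi23Simple.main.2]

/-! ### the letters -/

theorem γG_lt {x : ℕ} (hx : x < 10) : γG x = θ' (PresentedGroup.of (Fi23TC.gen x)) := by
  unfold γG
  rw [if_pos hx]

theorem γG_ten : γG 10 = xG := rfl

theorem γG_eleven : γG 11 = xG⁻¹ := rfl

theorem γG_ge {x : ℕ} (hx : 12 ≤ x) : γG x = 1 := by
  unfold γG
  rw [if_neg (by omega), if_neg (by omega), if_neg (by omega)]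

theorem γG_mul_self {x : ℕ} (hx : x < 10) : γG x * γG x = 1 := by
  rw [γG_lt hx, ← map_mul, of_mul_self23, map_one]

/-- the inverse of a letter -/
def ivF (x : ℕ) : ℕ := cond (Nat.blt x 10) x (Nat.sub 21 x)

theorem ivF_lt {x : ℕ} (hx : x < 10) : ivF x = x := by
  interval_cases x <;> rfl

theorem ivF_ten : ivF 10 = 11 := rfl

theorem ivF_eleven : ivF 11 = 10 := rfl

theorem ivF_lt_twelve {x : ℕ} (hx : x < 12) : ivF x < 12 := by
  interval_cases x <;> decide

section upper

variable {Γ : Type} [Group Γ] (σ : Γ →* Fi24')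

/-- the letters in the extension -/
def gU (f : ℕ → Γ) (t : Γ) (x : ℕ) : Γ :=
  if x < 10 then f x else if x = 10 then t else if x = 11 then t⁻¹ else 1

theorem gU_lt (f : ℕ → Γ) (t : Γ) {x : ℕ} (hx : x < 10) : gU f t x = f x := by
  rw [gU, if_pos hx]

theorem gU_ten (f : ℕ → Γ) (t : Γ) : gU f t 10 = t := rfl

theorem gU_eleven (f : ℕ → Γ) (t : Γ) : gU f t 11 = t⁻¹ := rfl

theorem gU_ge (f : ℕ → Γ) (t : Γ) {x : ℕ} (hx : 12 ≤ x) : gU f t x = 1 := by
  rw [gU, if_neg (by omega), if_neg (by omega), if_neg (by omega)]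

variable (f : ℕ → Γ) (t : Γ) (hfM : ∀ x, x < 10 → f x ∈ Mt σ Q) (hf : ∀ x, x < 10 → σ (f x) = γG x)
  (ht : σ t = xG)

include hf ht in
theorem map_gU (x : ℕ) : σ (gU f t x) = γG x := by
  rcases Nat.lt_or_ge x 10 with h | h
  · rw [gU_lt f t h, hf x h]
  · rcases Nat.lt_or_ge x 12 with h' | h'
    · have : x = 10 ∨ x = 11 := by omega
      rcases this with rfl | rfl
      · exact ht
      · rw [gU_eleven, map_inv, ht]
        rfl
    · rw [gU_ge f t h', map_one, γG_ge h']

include hf ht in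
theorem map_wd_gU : ∀ w : List ℕ, σ (VCert.wd (gU f t) w) = VCert.wd γG w
  | [] => map_one σ
  | x :: w => by
    rw [VCert.wd_cons, VCert.wd_cons, map_mul, map_gU σ f t hf ht x, map_wd_gU w]

include hf ht in
theorem wd_gU_mem_ker {w : List ℕ} (h1 : VCert.wd γG w = 1) : VCert.wd (gU f t) w ∈ σ.ker := by
  rw [MonoidHom.mem_ker, map_wd_gU σ f t hf ht, h1]

variable [Finite Γ] (hsurj : Function.Surjective σ) (hcen : σ.ker ≤ Subgroup.center Γ)
  (hder : σ.ker ≤ commutator Γ)

include hfM hf ht hsurj hcen in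
/-- **a word in the letters of the subgroup that is trivial in the group is trivial in the extension** -/
theorem wd_gU_pure (w : List ℕ) (hw : ∀ x ∈ w, x < 10) (h1 : VCert.wd γG w = 1) : VCert.wd (gU f t) w = 1 := by
  have hl : ∀ x ∈ w.map (gU f t), x ∈ Mt σ Q := by
    intro x hx
    obtain ⟨y, hy', rfl⟩ := List.mem_map.1 hx
    rw [gU_lt f t (hw y hy')]
    exact hfM y (hw y hy')
  have h2 : ((w.map (gU f t)).map σ).prod = 1 := by
    rw [← map_list_prod]
    have := map_wd_gU σ f t hf ht w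
    rw [VCert.wd] at this
    rw [this]
    exact h1
  exact prod_eq_one_of_Mt hsurj hcen Q perfect_Q MF_Q _ hl h2

include hfM hf hsurj hcen in
theorem f_mul_self {x : ℕ} (hx : x < 10) : f x * f x = 1 :=
  eq_one_of_mem_Mt hsurj hcen Q perfect_Q MF_Q (Subgroup.mul_mem _ (hfM x hx) (hfM x hx))
    (by rw [map_mul, hf x hx, γG_mul_self hx])

include hfM hf hsurj hcen in
theorem gU_iv : ∀ x, x < 12 → gU f t (ivF x) = (gU f t x)⁻¹ := by
  intro x hx
  rcases Nat.lt_or_ge x 10 with h | h
  · rw [ivF_lt h, gU_lt f t h]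
    exact eq_inv_of_mul_eq_one_left (f_mul_self σ f hfM hf hsurj hcen h)
  · have : x = 10 ∨ x = 11 := by omega
    rcases this with rfl | rfl
    · rfl
    · exact (inv_inv t).symm

include hsurj hcen in
omit [Finite Γ] in
/-- **lifts of the letters: the first ten in the copy of `Q`, the eleventh such that two given words have the same
value** -/
theorem exists_lifts : ∃ (f : ℕ → Γ) (t : Γ), (∀ x, x < 10 → f x ∈ Mt σ Q) ∧ (∀ x, x < 10 → σ (f x) = γG x) ∧
    σ t = xG ∧ VCert.wd (gU f t) [10, 0, 10, 0, 10, 0] = VCert.wd (gU f t) [10, 1, 10, 1] := by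
  have hex : ∀ x : ℕ, ∃ a : Γ, x < 10 → (a ∈ Mt σ Q ∧ σ a = γG x) := by
    intro x
    by_cases hx : x < 10
    · obtain ⟨a, haM, ha⟩ := exists_mem_Mt (σ := σ) hsurj Q perfect_Q (γG x) (γG_mem_Q hx)
      exact ⟨a, fun _ => ⟨haM, ha⟩⟩
    · exact ⟨1, fun h => absurd h hx⟩
  choose f hf using hex
  obtain ⟨t0, ht0⟩ := hsurj xG
  have hf1 : ∀ x, x < 10 → σ (f x) = γG x := fun x hx => (hf x hx).2
  have e1 : VCert.wd γG [10, 0, 10, 0, 10, 0] = 1 := by
    have h := wdG_rw (w := rep2 0 1 3) (List.mem_append_left _ (by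
      have := mem_coxWordsL Fi24.edges Fi24TC.gen (g := 12) (i := 0) (j := 1) (by norm_num) (by norm_num)
      exact this)) false
    have h2 := wdG_rw (w := rep2 1 2 3) (List.mem_append_left _ (by
      have := mem_coxWordsL Fi24.edges Fi24TC.gen (g := 12) (i := 1) (j := 2) (by norm_num) (by norm_num)
      exact this)) false
    exact h2
  have e2 : VCert.wd γG [10, 1, 10, 1] = 1 := by
    have h2 := wdG_rw (w := rep2 1 3 2) (List.mem_append_left _ (by
      have := mem_coxWordsL Fi24.edges Fi24TC.gen (g := 12) (i := 1) (j := 3) (by norm_num) (by norm_num)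
      exact this)) false
    exact h2
  set A := VCert.wd (gU f t0) [10, 0, 10, 0, 10, 0] with hA
  set B := VCert.wd (gU f t0) [10, 1, 10, 1] with hB
  have hAk : A ∈ σ.ker := wd_gU_mem_ker σ f t0 hf1 ht0 e1
  have hBk : B ∈ σ.ker := wd_gU_mem_ker σ f t0 hf1 ht0 e2
  have hAc := hcen hAk
  have hBc := hcen hBk
  set c := B * A⁻¹ with hc
  have hck : c ∈ σ.ker := Subgroup.mul_mem _ hBk (Subgroup.inv_mem _ hAk)
  have hcc := hcen hck
  have hwc : ∀ x : Γ, c⁻¹ * x = x * c⁻¹ := fun x =>
    (Subgroup.mem_center_iff.1 (Subgroup.inv_mem _ hcc) x).symm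
  refine ⟨f, t0 * c, fun x hx => (hf x hx).1, hf1, ?_, ?_⟩
  · rw [map_mul, MonoidHom.mem_ker.1 hck, mul_one, ht0]
  · have key := Cfsg.Agent.Lib.Helper7.MG3.wd_central_mul_at 10 11 (by norm_num) (gU f t0) (gU f (t0 * c)) c hcc rfl
      (by
        show (t0 * c)⁻¹ = t0⁻¹ * c⁻¹
        rw [mul_inv_rev, hwc]) (by
        intro x h0 h1
        rcases Nat.lt_or_ge x 10 with h | h
        · rw [gU_lt _ _ h, gU_lt _ _ h]
        · rw [gU_ge _ _ (by omega), gU_ge _ _ (by omega)])
    rw [key, key, ← hA, ← hB]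
    have x1 : expsumL 10 11 [10, 0, 10, 0, 10, 0] = 3 := by decide
    have x2 : expsumL 10 11 [10, 1, 10, 1] = 2 := by decide
    rw [x1, x2]
    have hcA : c * A = B := by rw [hc, inv_mul_cancel_right]
    have hAc' : A * c = c * A := (Subgroup.mem_center_iff.1 hcc A)
    have h3 : c ^ (3 : ℤ) = c * c ^ (2 : ℤ) := by
      rw [show (3 : ℤ) = 1 + 2 by norm_num, zpow_add, zpow_one]
    rw [h3, ← mul_assoc, hAc', hcA]

include hfM hf ht hsurj hcen hder in
/-- **the lifts of the letters generate the extension** -/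
theorem hgen_U : ∀ y : Γ, ∃ u : List ℕ, (∀ x ∈ u, x < 12) ∧ y = (u.map (gU f t)).prod := by
  apply MG.exists_word_of_closure (gU f t) 12 ivF
  · intro x hx
    exact ⟨ivF_lt_twelve hx, gU_iv σ f t hfM hf hsurj hcen x hx⟩
  · apply closure_eq_top_of_stem (σ := σ) hcen hder
    intro g
    have hg : g ∈ Subgroup.closure (γG '' Set.Iio 12) := by rw [closure_γG]; exact Subgroup.mem_top g
    induction hg using Subgroup.closure_induction with
    | mem y hy =>
      obtain ⟨x, hx, rfl⟩ := hy
      exact ⟨gU f t x, Subgroup.subset_closure ⟨x, hx, rfl⟩, map_gU σ f t hf ht x⟩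
    | one => exact ⟨1, one_mem _, map_one σ⟩
    | mul p q _ _ ihp ihq =>
      obtain ⟨p', hp', rfl⟩ := ihp
      obtain ⟨q', hq', rfl⟩ := ihq
      exact ⟨p' * q', mul_mem hp' hq', map_mul σ p' q'⟩
    | inv p _ ihp =>
      obtain ⟨p', hp', rfl⟩ := ihp
      exact ⟨p'⁻¹, inv_mem hp', map_inv σ p'⟩

include hsurj hcen in
theorem hHK_U : ∀ u, u ∈ Mt σ Q → u ∈ σ.ker → u = 1 := fun _ hu hk =>
  eq_one_of_mem_Mt hsurj hcen Q perfect_Q MF_Q hu (MonoidHom.mem_ker.1 hk)

include hfM in
omit [Finite Γ] in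
theorem hsub_U : ∀ x, Nat.blt x 10 = true → gU f t x ∈ Mt σ Q := by
  intro x hx
  have hx' : x < 10 := by simpa [Nat.blt] using hx
  rw [gU_lt f t hx']
  exact hfM x hx'

omit [Finite Γ] in
theorem hKn_U : ∀ u, u ∈ σ.ker → ∀ g : Γ, g * u * g⁻¹ ∈ σ.ker := fun u hu g =>
  (inferInstance : σ.ker.Normal).conj_mem u hu g

end upper

end Cfsg.Agent.Lib.Helper7.Fi24M

end
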