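import Cfsg.Agent.Lib.Helper7.Fi24MB

/-!
# The multiplier of the Fischer group Fi₂₄′: a bound for the order of a group in which the rewritten relators hold

Let twelve letters generate a group, and let the rewritten relators of the presented group Fi₂₄, from either parity, lie
in a central subgroup `Z`.  Then Fi₂₄ acts transitively on two copies of the quotient by `Z`: a generator moves an
element of one copy to the other copy and multiplies it by its letter.  Hence twice the order of the quotient is at
most the order of Fi₂₄.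
-/

set_option autoImplicit false
set_option linter.constructorNameAsVariable false

noncomputable section

namespace Cfsg.Agent.Lib.Helper7.Fi24M

open Cfsg.Spor Cfsg.Agent.Lib.Helper6 Cfsg.Agent.Lib.Helper6.Fi24H Cfsg.Agent.Lib.Helper6.TC
open Cfsg.Agent.Lib.Helper7.MG3 (VCert.wd VCert.wd_nil VCert.wd_cons VCert.wd_append)

section count

variable {Δ : Type} [Group Δ] (v : ℕ → Δ)
  (hrel : ∀ w ∈ words24, ∀ par, VCert.wd v (rwL par w) = 1)

/-- a side of the two copies -/
def side (b : Bool) (d : Δ) : Δ ⊕ Δ := cond b (Sum.inr d) (Sum.inl d)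

/-- the action of a generator -/
def gAct (s : ℕ) : Δ ⊕ Δ → Δ ⊕ Δ
  | Sum.inl d => Sum.inr (VCert.wd v (rwLet true s) * d)
  | Sum.inr d => Sum.inl (VCert.wd v (rwLet false s) * d)

theorem gAct_side (s : ℕ) (par : Bool) (d : Δ) :
    gAct v s (side (!par) d) = side par (VCert.wd v (rwLet par s) * d) := by
  cases par <;> rfl

theorem mem_words24_sq {s : ℕ} (hs : s < 12) : [s, s] ∈ words24 := by
  have h := mem_coxWordsL Fi24.edges Fi24TC.gen (g := 12) hs hs
  have e : coxLabel Fi24.edges (Fi24TC.gen s) (Fi24TC.gen s) = 1 := by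
    unfold coxLabel
    rw [if_pos rfl]
  rw [e] at h
  exact List.mem_append_left _ h

include hrel in
theorem gAct_invol {s : ℕ} (hs : s < 12) : Function.Involutive (gAct v s) := by
  have h0 := hrel _ (mem_words24_sq hs) false
  have h1 := hrel _ (mem_words24_sq hs) true
  have e0 : rwL false [s, s] = rwLet false s ++ (rwLet true s ++ []) := rfl
  have e1 : rwL true [s, s] = rwLet true s ++ (rwLet false s ++ []) := rfl
  rw [e0, VCert.wd_append, VCert.wd_append, VCert.wd_nil, mul_one] at h0
  rw [e1, VCert.wd_append, VCert.wd_append, VCert.wd_nil, mul_one] at h1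
  intro p
  cases p with
  | inl d =>
    show Sum.inl (VCert.wd v (rwLet false s) * (VCert.wd v (rwLet true s) * d)) = Sum.inl d
    rw [← mul_assoc, h0, one_mul]
  | inr d =>
    show Sum.inr (VCert.wd v (rwLet true s) * (VCert.wd v (rwLet false s) * d)) = Sum.inr d
    rw [← mul_assoc, h1, one_mul]

open Classical in
/-- the permutation of a generator -/
def gPerm (s : ℕ) : Equiv.Perm (Δ ⊕ Δ) :=
  if h : s < 12 ∧ ∀ w ∈ words24, ∀ par, VCert.wd v (rwL par w) = 1 then
    (gAct_invol v h.2 h.1).toPerm
  else 1

include hrel in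
theorem gPerm_apply {s : ℕ} (hs : s < 12) (p : Δ ⊕ Δ) : gPerm v s p = gAct v s p := by
  unfold gPerm
  rw [dif_pos ⟨hs, hrel⟩]
  rfl

include hrel in
/-- the action of a word -/
theorem word_act : ∀ (w : List ℕ) (par : Bool) (d : Δ), (∀ s ∈ w, s < 12) →
    (w.map (gPerm v)).prod (side (endPar par w) d) = side par (VCert.wd v (rwL par w) * d)
  | [], par, d, _ => by
    show side par d = side par (1 * d)
    rw [one_mul]
  | s :: w, par, d, h => by
    have ih := word_act w (!par) d fun t ht => h t (List.mem_cons_of_mem _ ht)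
    rw [List.map_cons, List.prod_cons, Equiv.Perm.mul_apply]
    show gPerm v s ((w.map (gPerm v)).prod (side (endPar (!par) w) d)) = _
    rw [ih, gPerm_apply v hrel (h s List.mem_cons_self), gAct_side]
    show _ = side par (VCert.wd v (rwLet par s ++ rwL (!par) w) * d)
    rw [VCert.wd_append, mul_assoc]

include hrel in
theorem word_perm_one {w : List ℕ} (hw : w ∈ words24) : (w.map (gPerm v)).prod = 1 := by
  obtain ⟨hlt, hpar⟩ := words24_spec hw
  ext p
  rw [Equiv.Perm.one_apply]
  cases p with
  | inl d =>
    have := word_act v hrel w false d hlt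
    rw [hpar, hrel w hw, one_mul] at this
    exact this
  | inr d =>
    have := word_act v hrel w true d hlt
    rw [hpar, hrel w hw, one_mul] at this
    exact this

/-- the images of the generators -/
def fPerm (a : Fi24.Gen) : Equiv.Perm (Δ ⊕ Δ) := gPerm v (Fi24TC.code a)

theorem code_lt (a : Fi24.Gen) : Fi24TC.code a < 12 := by cases a <;> decide

theorem gen_code (a : Fi24.Gen) : Fi24TC.gen (Fi24TC.code a) = a := by cases a <;> rfl

theorem code_gen {s : ℕ} (hs : s < 12) : Fi24TC.code (Fi24TC.gen s) = s := by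
  interval_cases s <;> rfl

include hrel in
theorem fPerm_mul_self (a : Fi24.Gen) : fPerm v a * fPerm v a = 1 := by
  ext p
  rw [Equiv.Perm.mul_apply, Equiv.Perm.one_apply, fPerm, gPerm_apply v hrel (code_lt a),
    gPerm_apply v hrel (code_lt a)]
  exact gAct_invol v hrel (code_lt a) p

include hrel in
theorem fPerm_rel : ∀ r ∈ coxRelators Fi24.edges ∪ {r | r ∈ Fi24.extra}, FreeGroup.lift (fPerm v) r = 1 := by
  apply CoxLift.lift_eq_one_of_words Fi24TC.gen Fi24TC.code 12 Fi24TC.extraWords
    (fun a => ⟨code_lt a, gen_code a⟩) (fPerm v) (Fi24TC.extra_iff (fPerm v) (fPerm_mul_self v hrel))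
  intro w hw
  have hw' : w ∈ words24 := hw
  have e : (w.map fun x => fPerm v (Fi24TC.gen x)) = w.map (gPerm v) := by
    apply List.map_congr_left
    intro x hx
    show gPerm v (Fi24TC.code (Fi24TC.gen x)) = gPerm v x
    rw [code_gen ((words24_spec hw').1 x hx)]
  rw [e]
  exact word_perm_one v hrel hw'

/-- **the action** of the presented group Fi₂₄ on the two copies -/
def Φ (hrel : ∀ w ∈ words24, ∀ par, VCert.wd v (rwL par w) = 1) : Fi24 →* Equiv.Perm (Δ ⊕ Δ) :=
  PresentedGroup.toGroup (f := fPerm v) (fPerm_rel v hrel)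

theorem Φ_of (a : Fi24.Gen) : Φ v hrel (PresentedGroup.of a) = fPerm v a := PresentedGroup.toGroup.of _

variable (hinv : ∀ y, y < 12 → ∃ y', y' < 12 ∧ v y' = (v y)⁻¹)
  (hgen : Subgroup.closure (v '' Set.Iio 12) = ⊤)

include hrel in
/-- a letter moves a point of the orbit to a point of the orbit -/
theorem orbit_step {y : ℕ} (hy : y < 12) (d : Δ) (b : Bool)
    (h : ∃ g : Fi24, Φ v hrel g (Sum.inl 1) = side b d) :
    ∃ g : Fi24, Φ v hrel g (Sum.inl 1) = side b (v y * d) := by
  obtain ⟨g, hg⟩ := h
  -- the generator `l` changes the side, a second generator changes the side back and multiplies by the letter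
  have hl : ∀ (b' : Bool) (d' : Δ), gAct v 0 (side b' d') = side (!b') d' := by
    intro b' d'
    cases b'
    · show Sum.inr (1 * d') = Sum.inr d'
      rw [one_mul]
    · show Sum.inl (1 * d') = Sum.inl d'
      rw [one_mul]
  -- the generator and the parity that give the letter `y`
  obtain ⟨s, hs, par, hsy⟩ : ∃ s, s < 12 ∧ ∃ par : Bool, rwLet par s = [y] := by
    rcases Nat.lt_or_ge y 10 with h10 | h10
    · exact ⟨y + 2, by omega, false, by unfold rwLet; rw [if_neg (by omega), if_neg (by omega)]; rfl⟩
    · have : y = 10 ∨ y = 11 := by omega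
      rcases this with rfl | rfl
      · exact ⟨1, by norm_num, false, rfl⟩
      · exact ⟨1, by norm_num, true, rfl⟩
  have hval : VCert.wd v (rwLet par s) = v y := by
    rw [hsy, VCert.wd_cons, VCert.wd_nil, mul_one]
  by_cases hb : b = par
  · -- first `l`, then the generator
    refine ⟨PresentedGroup.of (Fi24TC.gen s) * (PresentedGroup.of (Fi24TC.gen 0) * g), ?_⟩
    rw [map_mul, map_mul, Equiv.Perm.mul_apply, Equiv.Perm.mul_apply, hg, Φ_of, Φ_of, fPerm, fPerm,
      code_gen hs, code_gen (by norm_num : 0 < 12), gPerm_apply v hrel (by norm_num : 0 < 12),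
      gPerm_apply v hrel hs, hl, hb, gAct_side, hval]
  · -- first the generator, then `l`
    have hb' : b = !par := by
      cases b <;> cases par <;> simp_all
    refine ⟨PresentedGroup.of (Fi24TC.gen 0) * (PresentedGroup.of (Fi24TC.gen s) * g), ?_⟩
    rw [map_mul, map_mul, Equiv.Perm.mul_apply, Equiv.Perm.mul_apply, hg, Φ_of, Φ_of, fPerm, fPerm,
      code_gen hs, code_gen (by norm_num : 0 < 12), gPerm_apply v hrel (by norm_num : 0 < 12),
      gPerm_apply v hrel hs, hb', gAct_side, hval, hl]

include hrel hinv hgen in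
/-- **the action is transitive** -/
theorem orbit_all (b : Bool) (d : Δ) : ∃ g : Fi24, Φ v hrel g (Sum.inl 1) = side b d := by
  have hd : d ∈ Subgroup.closure (v '' Set.Iio 12) := by rw [hgen]; exact Subgroup.mem_top d
  induction hd using Subgroup.closure_induction_left generalizing b with
  | one =>
    cases b
    · exact ⟨1, by rw [map_one]; rfl⟩
    · refine ⟨PresentedGroup.of (Fi24TC.gen 0), ?_⟩
      rw [Φ_of, fPerm, code_gen (by norm_num : 0 < 12), gPerm_apply v hrel (by norm_num : 0 < 12)]
      show Sum.inr (1 * 1) = Sum.inr 1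
      rw [one_mul]
  | mul_left x hx y _ ih =>
    obtain ⟨k, hk, rfl⟩ := hx
    exact orbit_step v hrel hk y b (ih b)
  | inv_mul_cancel x hx y _ ih =>
    obtain ⟨k, hk, rfl⟩ := hx
    obtain ⟨k', hk', e⟩ := hinv k hk
    rw [← e]
    exact orbit_step v hrel hk' y b (ih b)

include hrel hinv hgen in
/-- **twice the order of the group is at most the order of Fi₂₄** -/
theorem two_mul_card_le [Finite Δ] : 2 * Nat.card Δ ≤ Nat.card Fi24 := by
  have hs : Function.Surjective fun g : Fi24 => Φ v hrel g (Sum.inl 1) := by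
    intro p
    cases p with
    | inl d => exact orbit_all v hrel hinv hgen false d
    | inr d => exact orbit_all v hrel hinv hgen true d
  have h := Nat.card_le_card_of_surjective _ hs
  rw [Nat.card_sum] at h
  omega

end count

end Cfsg.Agent.Lib.Helper7.Fi24M

end
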