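import Cfsg.Agent.Lib.Helper7.Fi24MC

/-!
# The multiplier of the Fischer group Fi₂₄′: the list of the rewritten relators

A rewritten relator is a word in the first ten letters, or one of forty-four short words, or one of the two long words
that come from the last relator of the presented group Fi₂₄.
-/

set_option autoImplicit false
set_option maxRecDepth 100000

noncomputable section

namespace Cfsg.Agent.Lib.Helper7.Fi24M

open Cfsg Cfsg.Spor Cfsg.Agent.Lib.Helper6 Cfsg.Agent.Lib.Helper6.Fi24H Cfsg.Agent.Lib.Helper6.Fi24Simple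
open Cfsg.Agent.Lib.Helper6.TC
open Cfsg.Agent.Lib.Helper7.MG3 (VCert.wd VCert.wd_nil VCert.wd_cons VCert.wd_append)

/-- all the rewritten relators -/
def allrw : List (List ℕ) := words24.flatMap fun w => [rwL false w, rwL true w]

theorem mem_allrw {w : List ℕ} (hw : w ∈ words24) (par : Bool) : rwL par w ∈ allrw := by
  unfold allrw
  rw [List.mem_flatMap]
  refine ⟨w, hw, ?_⟩
  cases par <;> simp

theorem wdG_allrw {u : List ℕ} (hu : u ∈ allrw) : VCert.wd γG u = 1 := by
  unfold allrw at hu
  rw [List.mem_flatMap] at hu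
  obtain ⟨w, hw, hu⟩ := hu
  simp only [List.mem_cons, List.not_mem_nil, or_false] at hu
  rcases hu with rfl | rfl
  · exact wdG_rw hw false
  · exact wdG_rw hw true

/-- the short rewritten relators in which the eleventh letter or its inverse occurs -/
def Lx : List (List ℕ) :=
  [[11, 11, 11],
  [10, 10, 10],
  [10, 11],
  [11, 10],
  [10, 0, 10, 0, 10, 0],
  [11, 0, 11, 0, 11, 0],
  [10, 1, 10, 1],
  [11, 1, 11, 1],
  [10, 2, 10, 2],
  [11, 2, 11, 2],
  [10, 3, 10, 3],
  [11, 3, 11, 3],
  [10, 4, 10, 4],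
  [11, 4, 11, 4],
  [10, 5, 10, 5],
  [11, 5, 11, 5],
  [10, 6, 10, 6],
  [11, 6, 11, 6],
  [10, 7, 10, 7],
  [11, 7, 11, 7],
  [10, 8, 10, 8],
  [11, 8, 11, 8],
  [10, 9, 10, 9],
  [11, 9, 11, 9],
  [0, 11, 0, 11, 0, 11],
  [0, 10, 0, 10, 0, 10],
  [1, 11, 1, 11],
  [1, 10, 1, 10],
  [2, 11, 2, 11],
  [2, 10, 2, 10],
  [3, 11, 3, 11],
  [3, 10, 3, 10],
  [4, 11, 4, 11],
  [4, 10, 4, 10],
  [5, 11, 5, 11],
  [5, 10, 5, 10],
  [6, 11, 6, 11],
  [6, 10, 6, 10],
  [7, 11, 7, 11],
  [7, 10, 7, 10],
  [8, 11, 8, 11],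
  [8, 10, 8, 10],
  [9, 11, 9, 11],
  [9, 10, 9, 10]]

/-- the last relator of the presented group Fi₂₄, rewritten from the even parity -/
def zw0 : List ℕ := rwL false (Fi24TC.extraWords.getD 1 [])

/-- the last relator of the presented group Fi₂₄, rewritten from the odd parity -/
def zw1 : List ℕ := rwL true (Fi24TC.extraWords.getD 1 [])

theorem chk_allrw : allrw.all (fun u => u.all (fun x => Nat.blt x 10) || Lx.contains u || (u == zw0) || (u == zw1)) =
    true := by decide +kernel

theorem chk_Lx_mem : Lx.all (fun u => allrw.contains u) = true := by decide +kernel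

theorem chk_zw_mem : (allrw.contains zw0 && allrw.contains zw1) = true := by decide +kernel

/-- **a rewritten relator is a word in the first ten letters, or a short word, or one of the two long words** -/
theorem allrw_cases {u : List ℕ} (hu : u ∈ allrw) : (∀ x ∈ u, x < 10) ∨ u ∈ Lx ∨ u = zw0 ∨ u = zw1 := by
  have h := List.all_eq_true.1 chk_allrw u hu
  simp only [Bool.or_eq_true, beq_iff_eq, List.contains_iff_mem] at h
  rcases h with ((h | h) | h) | h
  · left
    intro x hx
    have := List.all_eq_true.1 h x hx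
    simpa [Nat.blt] using this
  · exact Or.inr (Or.inl h)
  · exact Or.inr (Or.inr (Or.inl h))
  · exact Or.inr (Or.inr (Or.inr h))

theorem Lx_sub {u : List ℕ} (hu : u ∈ Lx) : u ∈ allrw := by
  have h := List.all_eq_true.1 chk_Lx_mem u hu
  simpa using h

theorem zw0_mem : zw0 ∈ allrw := by
  have h := chk_zw_mem
  rw [Bool.and_eq_true] at h
  simpa using h.1

theorem zw1_mem : zw1 ∈ allrw := by
  have h := chk_zw_mem
  rw [Bool.and_eq_true] at h
  simpa using h.2

end Cfsg.Agent.Lib.Helper7.Fi24M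

end
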