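import Cfsg.Agent.Lib.Helper7.Fi24MRU
import Cfsg.Agent.Lib.Helper7.Fi24MD

/-!
# The multiplier of the Fischer group Fi₂₄′: the kernel of every finite stem extension is an image of the cyclic group of order three

In a finite stem extension of the commutator subgroup of the presented group Fi₂₄ the letters are lifted so that every
rewritten relator has its value in the subgroup `Z` generated by the value of the first long rewritten relator, which
lies in the kernel and of which the cube is trivial.  The presented group Fi₂₄ acts transitively on two copies of the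
quotient of the extension by `Z`, so that the order of this quotient is at most the order of the commutator subgroup.
Hence the kernel is `Z`.
-/

set_option autoImplicit false
set_option linter.constructorNameAsVariable false

noncomputable section

namespace Cfsg.Agent.Lib.Helper7.Fi24M

open Cfsg Cfsg.Spor Cfsg.Agent.Lib.Helper6 Cfsg.Agent.Lib.Helper6.Fi24H Cfsg.Agent.Lib.Helper6.Fi24Simple
open Cfsg.Agent.Lib.Helper6.TC
open Cfsg.Agent.Lib.Helper7.MG3 (VCert.wd VCert.wd_nil VCert.wd_cons VCert.wd_append)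
open Cfsg.Agent.Lib.Helper7.M12Mult
open Cfsg.Agent.Lib.Helper7.MG (exists_surj_zmod)

theorem card_Fi24' : Nat.card Fi24' = 1255205709190661721292800 := card_commutator

theorem wd_map {A B : Type*} [Group A] [Group B] (φ : A →* B) (γ : ℕ → A) :
    ∀ u : List ℕ, VCert.wd (fun y => φ (γ y)) u = φ (VCert.wd γ u)
  | [] => (map_one φ).symm
  | y :: u => by rw [VCert.wd_cons, VCert.wd_cons, map_mul, wd_map φ γ u]

section upper

variable {Γ : Type} [Group Γ] [Finite Γ] (σ : Γ →* Fi24') (hsurj : Function.Surjective σ)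
  (hcen : σ.ker ≤ Subgroup.center Γ) (hder : σ.ker ≤ commutator Γ)

include hsurj hcen hder in
/-- **the kernel of a finite stem extension of the commutator subgroup of the presented group Fi₂₄ is an image of the
cyclic group of order three** -/
theorem exists_surj_of_stem : ∃ π : Multiplicative (ZMod 3) →* ↥σ.ker, Function.Surjective π := by
  obtain ⟨f, t, hfM, hf, ht, hnorm⟩ := exists_lifts σ hsurj hcen
  obtain ⟨hz1, hz3⟩ := Cfsg.Agent.Lib.Helper7.Fi24MR.zw_spec σ hsurj hcen f t hfM hf ht hnorm
  set z0 := VCert.wd (gU f t) zw0 with hz0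
  have hz0k : z0 ∈ σ.ker := wd_gU_mem_ker σ f t hf ht (wdG_allrw zw0_mem)
  set Z : Subgroup Γ := Subgroup.zpowers z0 with hZ
  have hZk : Z ≤ σ.ker := (Subgroup.zpowers_le).2 hz0k
  have hZn : Z.Normal := by
    constructor
    intro n hn g
    have hc := hcen (hZk hn)
    rw [Subgroup.mem_center_iff] at hc
    rw [hc g, mul_inv_cancel_right]
    exact hn
  -- every rewritten relator has its value in `Z`
  have hall : ∀ u ∈ allrw, VCert.wd (gU f t) u ∈ Z := by
    intro u hu
    rcases allrw_cases hu with h | h | h | h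
    · rw [wd_gU_pure σ f t hfM hf ht hsurj hcen u h (wdG_allrw hu)]
      exact Subgroup.one_mem _
    · rw [Cfsg.Agent.Lib.Helper7.Fi24MP.wd_gU_Lx σ hsurj hcen f t hfM hf ht hnorm h]
      exact Subgroup.one_mem _
    · rw [h]
      exact Subgroup.mem_zpowers _
    · rw [h, hz1]
      exact Subgroup.inv_mem _ (Subgroup.mem_zpowers _)
  -- the quotient
  let v : ℕ → Γ ⧸ Z := fun y => QuotientGroup.mk' Z (gU f t y)
  have hv : ∀ u, VCert.wd v u = QuotientGroup.mk' Z (VCert.wd (gU f t) u) := wd_map (QuotientGroup.mk' Z) (gU f t)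
  have hrel : ∀ w ∈ words24, ∀ par, VCert.wd v (rwL par w) = 1 := by
    intro w hw par
    rw [hv]
    exact (QuotientGroup.eq_one_iff _).2 (hall _ (mem_allrw hw par))
  have hinv : ∀ y, y < 12 → ∃ y', y' < 12 ∧ v y' = (v y)⁻¹ := by
    intro y hy
    refine ⟨ivF y, ivF_lt_twelve hy, ?_⟩
    show QuotientGroup.mk' Z (gU f t (ivF y)) = (QuotientGroup.mk' Z (gU f t y))⁻¹
    rw [gU_iv σ f t hfM hf hsurj hcen y hy, map_inv]
  have hgen : Subgroup.closure (v '' Set.Iio 12) = ⊤ := by
    rw [eq_top_iff]
    intro d _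
    obtain ⟨g, rfl⟩ := QuotientGroup.mk'_surjective Z d
    obtain ⟨u, hu, rfl⟩ := hgen_U σ f t hfM hf ht hsurj hcen hder g
    rw [map_list_prod, List.map_map]
    apply Subgroup.list_prod_mem
    intro x hx
    obtain ⟨y, hy, rfl⟩ := List.mem_map.1 hx
    exact Subgroup.subset_closure ⟨y, hu y hy, rfl⟩
  have hcard := two_mul_card_le v hrel hinv hgen
  rw [card_Fi24] at hcard
  have hq : Nat.card (Γ ⧸ Z) ≤ 1255205709190661721292800 := by omega
  -- the orders
  have h1 : Nat.card Γ = Nat.card (Γ ⧸ Z) * Nat.card ↥Z := Subgroup.card_eq_card_quotient_mul_card_subgroup Z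
  have h2 : Nat.card Γ = Nat.card (Γ ⧸ σ.ker) * Nat.card ↥σ.ker :=
    Subgroup.card_eq_card_quotient_mul_card_subgroup σ.ker
  have h3 : Nat.card (Γ ⧸ σ.ker) = 1255205709190661721292800 := by
    rw [Nat.card_congr (QuotientGroup.quotientKerEquivOfSurjective σ hsurj).toEquiv, card_Fi24']
  have hle : Nat.card ↥σ.ker ≤ Nat.card ↥Z := by
    have hpos : 0 < Nat.card ↥Z := Nat.card_pos
    rw [h3] at h2
    have h4 : 1255205709190661721292800 * Nat.card ↥σ.ker ≤ 1255205709190661721292800 * Nat.card ↥Z := by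
      rw [← h2, h1]
      exact Nat.mul_le_mul_right _ hq
    exact Nat.le_of_mul_le_mul_left h4 (by norm_num)
  have hZe : Z = σ.ker := Subgroup.eq_of_le_of_card_ge hZk hle
  -- the generator
  set g' : ↥σ.ker := ⟨z0, hz0k⟩ with hg'
  have h6 : g' ^ 3 = 1 := by
    apply Subtype.ext
    rw [Subgroup.coe_pow, Subgroup.coe_one]
    exact hz3
  apply exists_surj_zmod g' 3 h6
  intro y
  have hy : (y : Γ) ∈ Z := by rw [hZe]; exact y.2
  obtain ⟨i, hi⟩ := Subgroup.mem_zpowers_iff.1 hy
  refine Subgroup.mem_zpowers_iff.2 ⟨i, ?_⟩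
  apply Subtype.ext
  rw [Subgroup.coe_zpow]
  exact hi

end upper

/-- **the upper bound for the multiplier of Fi₂₄′** -/
theorem fi24_upper (Γ : Type) [Group Γ] [Finite Γ] (σ : Γ →* Fi24') (hσ : IsStemExtension σ) :
    ∃ π : Multiplicative (ZMod 3) →* ↥σ.ker, Function.Surjective π :=
  exists_surj_of_stem σ hσ.1 hσ.2.1 hσ.2.2

end Cfsg.Agent.Lib.Helper7.Fi24M

end
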