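import Cfsg.Agent.Lib.Helper7.HSMultA

/-!
# Bounded universal tests written with the recursor of the natural numbers
-/

set_option autoImplicit false

namespace Cfsg.Agent.Lib.Helper7.HSMult

/-- a test on the numbers below a bound, written with the recursor -/
def allN (k : ℕ) (f : ℕ → Bool) : Bool := Nat.rec true (fun i ih => cond (f i) ih false) k

theorem allN_succ (k : ℕ) (f : ℕ → Bool) : allN (k + 1) f = cond (f k) (allN k f) false := rfl

theorem allN_iff {k : ℕ} {f : ℕ → Bool} : allN k f = true ↔ ∀ i < k, f i = true := by
  induction k with
  | zero => exact ⟨fun _ i hi => absurd hi (Nat.not_lt_zero i), fun _ => rfl⟩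
  | succ k ih =>
    rw [allN_succ]
    constructor
    · intro h i hi
      cases hk : f k with
      | false => rw [hk] at h; exact absurd h (by simp)
      | true =>
        rw [hk] at h
        rcases Nat.lt_succ_iff_lt_or_eq.1 hi with h1 | h1
        · exact ih.1 h i h1
        · rw [h1]; exact hk
    · intro h
      rw [h k (Nat.lt_succ_self k)]
      exact ih.2 fun i hi => h i (Nat.lt_succ_of_lt hi)

/-- the list of `k` packed letters of four binary digits -/
def unp (k : ℕ) : ℕ → List ℕ :=
  Nat.rec (fun _ => []) (fun _ ih v =>
    strictN (Nat.land v 15) fun y => strictN (Nat.shiftRight v 4) fun v' => y :: ih v') k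

end Cfsg.Agent.Lib.Helper7.HSMult
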