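import Cfsg.Agent.Lib.Helper7.Fi24MPK0
import Cfsg.Agent.Lib.Helper7.Fi24MPKC

/-! # The multiplier of the Fischer group Fi₂₄′, the first part of a table of the group: all the rows of the certificate are checked (generated) -/

set_option autoImplicit false
set_option maxRecDepth 100000
set_option maxHeartbeats 0

namespace Cfsg.Agent.Lib.Helper7.Fi24MP

open Cfsg.Agent.Lib.Helper7.MG3 Cfsg.Agent.Lib.Helper7.MG4 Cfsg.Agent.Lib.Helper7.HSMult

theorem rows_ok_all : ∀ k, k < 4 → rowsOK (47 * k) 47 = true
  | 0, _ => rows_ok_0
  | 1, _ => rows_ok_1
  | 2, _ => rows_ok_2
  | 3, _ => rows_ok_3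
  | k + 4, h => absurd h (by omega)

/-- **every entry of the table that is given is justified** -/
theorem cert_all : ∀ a, a < cert.n → ∀ x, x < cert.g → slotOKP cert a x = true := by
  intro a ha x hx
  have ha' : a < 188 := ha
  have hx' : x < 12 := hx
  have h1 := rows_ok_all (a / 47) (by omega)
  rw [rowsOK, allN_iff] at h1
  have h2 := h1 (a % 47) (Nat.mod_lt _ (by norm_num))
  rw [allN_iff] at h2
  have h3 := h2 x hx'
  have e : Nat.add (47 * (a / 47)) (a % 47) = a := Nat.div_add_mod a 47
  rw [e] at h3
  exact h3

/-- every word of the certificate is given at the start -/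
theorem cert_wall : ∀ i, i < cert.nW → cert.wordOK i = true := fun _ _ => rfl

theorem close_0 : cert.scan 65535 (cert.W 23) 2 0 = some (2, 19746073519177637615148432479156070245193073380671797636607520768) := by
  rw [← VCert.scanR_eq]
  exact closeR_0

theorem close_1 : cert.scan 65535 (cert.W 24) 2 0 = some (2, 13164049012785091743432288319437380163464466769781251340207398912) := by
  rw [← VCert.scanR_eq]
  exact closeR_1

theorem close_2 : cert.scan 65535 (cert.W 25) 2 0 = some (2, 13164049012785091743432288319437382698763249374600825075264397312) := by
  rw [← VCert.scanR_eq]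
  exact closeR_2

theorem close_3 : cert.scan 65535 (cert.W 26) 2 0 = some (2, 13164049012785091743432288322095836155031880663949636202418675712) := by
  rw [← VCert.scanR_eq]
  exact closeR_3

theorem close_4 : cert.scan 65535 (cert.W 27) 2 0 = some (2, 13164049012785091743435075912587196491354740882926103127046234112) := by
  rw [← VCert.scanR_eq]
  exact closeR_4

theorem close_5 : cert.scan 65535 (cert.W 28) 2 0 = some (2, 13164049012785094666435562981243216570831714350708061393723072512) := by
  rw [← VCert.scanR_eq]
  exact closeR_5

theorem close_6 : cert.scan 65535 (cert.W 29) 2 0 = some (2, 13164049015850082825164066036154074217762667285379500326225190912) := by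
  rw [← VCert.scanR_eq]
  exact closeR_6

theorem close_7 : cert.scan 65535 (cert.W 30) 2 0 = some (2, 13167262888873609723983372243622062488667093324129587667528589312) := by
  rw [← VCert.scanR_eq]
  exact closeR_7

theorem close_8 : cert.scan 65535 (cert.W 2) 1 0 = some (1, 13164049012785091743432288319437380163462048918142022081857986558) := by
  rw [← VCert.scanR_eq]
  exact closeR_8

theorem close_9 : cert.scan 65535 (cert.W 3) 3 0 = some (3, 13164049012785091743432288319437380163462048915836181271669645312) := by
  rw [← VCert.scanR_eq]
  exact closeR_9

theorem close_10 : cert.scan 65535 (cert.W 4) 1 0 = some (1, 13164049012785091743432288319437380163459631066502795022531829758) := by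
  rw [← VCert.scanR_eq]
  exact closeR_10

theorem close_11 : cert.scan 65535 (cert.W 45) 2 0 = some (2, 19746073519177637615148432479156074048141247284442397023907360768) := by
  rw [← VCert.scanR_eq]
  exact closeR_11

theorem close_12 : cert.scan 65535 (cert.W 49) 2 0 = some (2, 19746073523775124237746099054231111326640374150610409900348551168) := by
  rw [← VCert.scanR_eq]
  exact closeR_12

theorem close_13 : cert.scan 65535 (cert.W 6) 1 0 = some (1, 13164049012785091743432288316778924171892217172334410160320552958) := by
  rw [← VCert.scanR_eq]
  exact closeR_13

theorem close_14 : cert.scan 65535 (cert.W 67) 2 0 = some (2, 19746073519177637615152613864893110749677363705677736808263200768) := by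
  rw [← VCert.scanR_eq]
  exact closeR_14

theorem close_15 : cert.scan 65535 (cert.W 8) 1 0 = some (1, 13164049012785088820429013657631543756092383485575984969016156158) := by
  rw [← VCert.scanR_eq]
  exact closeR_15

theorem close_16 : cert.scan 65535 (cert.W 10) 1 0 = some (1, 13160835136696573762881204395252697838257004512154458695210639358) := by
  rw [← VCert.scanR_eq]
  exact closeR_16

theorem close_17 : cert.scan 65535 (cert.W 35) 2 0 = some (2, 13164049012785091743432288319437382698763249372294984265073958912) := by
  rw [← VCert.scanR_eq]
  exact closeR_17

theorem close_18 : cert.scan 65535 (cert.W 112) 166 0 = some (166, 207333771963625159285992620876892373159391001736366500400455612419) := by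
  rw [← VCert.scanR_eq]
  exact closeR_18

theorem trace_0 : cert.scan 65535 [11, 11, 11] 0 0 = some (0, 9873036759588818807574216239578035122596536688606518210660931585) := by
  rw [← VCert.scanR_eq]
  exact traceR_0

theorem trace_1 : cert.scan 65535 [10, 10, 10] 0 0 = some (0, 9873036759588818807574216239578035122596536688606518210660931583) := by
  rw [← VCert.scanR_eq]
  exact traceR_1

theorem trace_2 : cert.scan 65535 [10, 11] 0 0 = some (0, 6582024506392545871716144159718690081731024459071012140440621056) := by
  rw [← VCert.scanR_eq]
  exact traceR_2

theorem trace_3 : cert.scan 65535 [11, 10] 0 0 = some (0, 6582024506392545871716144159718690081731024459071012140440621056) := by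
  rw [← VCert.scanR_eq]
  exact traceR_3

theorem trace_4 : cert.scan 65535 [10, 0, 10, 0, 10, 0] 0 0 = some (0, 19746073519177637615148432479156070245193073377213036421322911744) := by
  rw [← VCert.scanR_eq]
  exact traceR_4

theorem trace_5 : cert.scan 65535 [11, 0, 11, 0, 11, 0] 0 0 = some (0, 19746073519177637615148432479156070245193073377213036421320814592) := by
  rw [← VCert.scanR_eq]
  exact traceR_5

theorem trace_6 : cert.scan 65535 [10, 1, 10, 1] 0 0 = some (0, 13164049012785091743432288319437380163462048918142025380392869888) := by
  rw [← VCert.scanR_eq]
  exact traceR_6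

theorem trace_7 : cert.scan 65535 [11, 1, 11, 1] 0 0 = some (0, 13164049012785091743432288319437380163462048918142023181369614336) := by
  rw [← VCert.scanR_eq]
  exact traceR_7

theorem trace_8 : cert.scan 65535 [10, 2, 10, 2] 0 0 = some (0, 13164049012785091743432288319437380163462048919294945785488089088) := by
  rw [← VCert.scanR_eq]
  exact traceR_8

theorem trace_9 : cert.scan 65535 [11, 2, 11, 2] 0 0 = some (0, 13164049012785091743432288319437380163462048916989102776274395136) := by
  rw [← VCert.scanR_eq]
  exact traceR_9

theorem trace_10 : cert.scan 65535 [10, 3, 10, 3] 0 0 = some (0, 13164049012785091743432288319437380163463257843961638910055948288) := by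
  rw [← VCert.scanR_eq]
  exact traceR_10

theorem trace_11 : cert.scan 65535 [11, 3, 11, 3] 0 0 = some (0, 13164049012785091743432288319437380163460839992322409651706535936) := by
  rw [← VCert.scanR_eq]
  exact traceR_11

theorem trace_12 : cert.scan 65535 [10, 4, 10, 4] 0 0 = some (0, 13164049012785091743432288319437381431112649146371425777584447488) := by
  rw [← VCert.scanR_eq]
  exact traceR_12

theorem trace_13 : cert.scan 65535 [11, 4, 11, 4] 0 0 = some (0, 13164049012785091743432288319437378895811448689912622784178036736) := by
  rw [← VCert.scanR_eq]
  exact traceR_13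

theorem trace_14 : cert.scan 65535 [10, 5, 10, 5] 0 0 = some (0, 13164049012785091743432288320766608159246964791045831341161586688) := by
  rw [← VCert.scanR_eq]
  exact traceR_14

theorem trace_15 : cert.scan 65535 [11, 5, 11, 5] 0 0 = some (0, 13164049012785091743432288318108152167677133045238217220600897536) := by
  rw [← VCert.scanR_eq]
  exact traceR_15

theorem trace_16 : cert.scan 65535 [10, 6, 10, 6] 0 0 = some (0, 13164049012785091743433682116012288327408394900534064803475365888) := by
  rw [← VCert.scanR_eq]
  exact traceR_16

theorem trace_17 : cert.scan 65535 [11, 6, 11, 6] 0 0 = some (0, 13164049012785091743430894522862471999515702935749983758287118336) := by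
  rw [← VCert.scanR_eq]
  exact traceR_17

theorem trace_18 : cert.scan 65535 [10, 7, 10, 7] 0 0 = some (0, 13164049012785093204933925650340298367146881634425043936813785088) := by
  rw [← VCert.scanR_eq]
  exact traceR_18

theorem trace_19 : cert.scan 65535 [11, 7, 11, 7] 0 0 = some (0, 13164049012785090281930650988534461959777216201859004624948699136) := by
  rw [← VCert.scanR_eq]
  exact traceR_19

theorem trace_20 : cert.scan 65535 [10, 8, 10, 8] 0 0 = some (0, 13164049014317587284298177177795727190612358101760763403064844288) := by
  rw [← VCert.scanR_eq]
  exact traceR_20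

theorem trace_21 : cert.scan 65535 [11, 8, 11, 8] 0 0 = some (0, 13164049011252596202566399461079033136311739734523285158697639936) := by
  rw [← VCert.scanR_eq]
  exact traceR_21

theorem trace_22 : cert.scan 65535 [10, 9, 10, 9] 0 0 = some (0, 13165655950829350733707830281529721326064571121135807073716543488) := by
  rw [← VCert.scanR_eq]
  exact traceR_22

theorem trace_23 : cert.scan 65535 [11, 9, 11, 9] 0 0 = some (0, 13162442074740832753156746357345039000859526715148241488045940736) := by
  rw [← VCert.scanR_eq]
  exact traceR_23

theorem trace_24 : cert.scan 65535 [0, 11, 0, 11, 0, 11] 0 0 = some (0, 19746073519177637615148432479156070245193073377213036421320814592) := by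
  rw [← VCert.scanR_eq]
  exact traceR_24

theorem trace_25 : cert.scan 65535 [0, 10, 0, 10, 0, 10] 0 0 = some (0, 19746073519177637615148432479156070245193073377213036421322911744) := by
  rw [← VCert.scanR_eq]
  exact traceR_25

theorem trace_26 : cert.scan 65535 [1, 11, 1, 11] 0 0 = some (0, 13164049012785091743432288319437380163462048918142023181369614336) := by
  rw [← VCert.scanR_eq]
  exact traceR_26

theorem trace_27 : cert.scan 65535 [1, 10, 1, 10] 0 0 = some (0, 13164049012785091743432288319437380163462048918142025380392869888) := by
  rw [← VCert.scanR_eq]
  exact traceR_27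

theorem trace_28 : cert.scan 65535 [2, 11, 2, 11] 0 0 = some (0, 13164049012785091743432288319437380163462048916989102776274395136) := by
  rw [← VCert.scanR_eq]
  exact traceR_28

theorem trace_29 : cert.scan 65535 [2, 10, 2, 10] 0 0 = some (0, 13164049012785091743432288319437380163462048919294945785488089088) := by
  rw [← VCert.scanR_eq]
  exact traceR_29

theorem trace_30 : cert.scan 65535 [3, 11, 3, 11] 0 0 = some (0, 13164049012785091743432288319437380163460839992322409651706535936) := by
  rw [← VCert.scanR_eq]
  exact traceR_30

theorem trace_31 : cert.scan 65535 [3, 10, 3, 10] 0 0 = some (0, 13164049012785091743432288319437380163463257843961638910055948288) := by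
  rw [← VCert.scanR_eq]
  exact traceR_31

theorem trace_32 : cert.scan 65535 [4, 11, 4, 11] 0 0 = some (0, 13164049012785091743432288319437378895811448689912622784178036736) := by
  rw [← VCert.scanR_eq]
  exact traceR_32

theorem trace_33 : cert.scan 65535 [4, 10, 4, 10] 0 0 = some (0, 13164049012785091743432288319437381431112649146371425777584447488) := by
  rw [← VCert.scanR_eq]
  exact traceR_33

theorem trace_34 : cert.scan 65535 [5, 11, 5, 11] 0 0 = some (0, 13164049012785091743432288318108152167677133045238217220600897536) := by
  rw [← VCert.scanR_eq]
  exact traceR_34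

theorem trace_35 : cert.scan 65535 [5, 10, 5, 10] 0 0 = some (0, 13164049012785091743432288320766608159246964791045831341161586688) := by
  rw [← VCert.scanR_eq]
  exact traceR_35

theorem trace_36 : cert.scan 65535 [6, 11, 6, 11] 0 0 = some (0, 13164049012785091743430894522862471999515702935749983758287118336) := by
  rw [← VCert.scanR_eq]
  exact traceR_36

theorem trace_37 : cert.scan 65535 [6, 10, 6, 10] 0 0 = some (0, 13164049012785091743433682116012288327408394900534064803475365888) := by
  rw [← VCert.scanR_eq]
  exact traceR_37

theorem trace_38 : cert.scan 65535 [7, 11, 7, 11] 0 0 = some (0, 13164049012785090281930650988534461959777216201859004624948699136) := by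
  rw [← VCert.scanR_eq]
  exact traceR_38

theorem trace_39 : cert.scan 65535 [7, 10, 7, 10] 0 0 = some (0, 13164049012785093204933925650340298367146881634425043936813785088) := by
  rw [← VCert.scanR_eq]
  exact traceR_39

theorem trace_40 : cert.scan 65535 [8, 11, 8, 11] 0 0 = some (0, 13164049011252596202566399461079033136311739734523285158697639936) := by
  rw [← VCert.scanR_eq]
  exact traceR_40

theorem trace_41 : cert.scan 65535 [8, 10, 8, 10] 0 0 = some (0, 13164049014317587284298177177795727190612358101760763403064844288) := by
  rw [← VCert.scanR_eq]
  exact traceR_41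

theorem trace_42 : cert.scan 65535 [9, 11, 9, 11] 0 0 = some (0, 13162442074740832753156746357345039000859526715148241488045940736) := by
  rw [← VCert.scanR_eq]
  exact traceR_42

theorem trace_43 : cert.scan 65535 [9, 10, 9, 10] 0 0 = some (0, 13165655950829350733707830281529721326064571121135807073716543488) := by
  rw [← VCert.scanR_eq]
  exact traceR_43

end Cfsg.Agent.Lib.Helper7.Fi24MP
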