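import Cfsg.Agent.Lib.Helper7.Fi24MPD
import Cfsg.Agent.Lib.Helper7.Fi24ME

/-!
# The multiplier of the Fischer group Fi₂₄′: the short rewritten relators are trivial in a finite stem extension

The letters are lifted as in `Fi24MC`.  The first part of the table, with eleven classes, the values of the eleven short
rewritten relators in which the eleventh letter occurs, gives 19 relations between these classes; together with the
relation that comes from the choice of the lift of the eleventh letter they make all the classes trivial.  Hence every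
short rewritten relator, traced through the table from the first row, is trivial in the extension.
-/

set_option autoImplicit false
set_option maxRecDepth 100000

namespace Cfsg.Agent.Lib.Helper7.Fi24MP

open Cfsg Cfsg.Spor Cfsg.Agent.Lib.Helper7.MG3 Cfsg.Agent.Lib.Helper7.MG4 Cfsg.Agent.Lib.Helper7.HSMult
open Cfsg.Agent.Lib.Helper7.MG (zprod zprod_congr zprod_zero dotL cyclic_of_relations)
open Cfsg.Agent.Lib.Helper7.M12Mult
open Cfsg.Agent.Lib.Helper7.Fi24M
open scoped IsMulCommutative

/-! ### the words of the certificate -/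

theorem chk_W_rw : (List.range 11).all (fun i => allrw.contains (cert.W i)) = true := by decide +kernel

theorem chk_W_pure : (List.range 102).all (fun i => words23.contains (cert.W (11 + i))) = true := by decide +kernel

theorem chk_rhs : (List.range 113).all (fun i => (List.range 11).all (fun l =>
    Nat.beq (fld (cert.rhs i) l) ((cert.W i).length * 2048 + (if l = i then 1 else 0)))) = true := by
  decide +kernel

theorem chk_len : (List.range 113).all (fun i => Nat.ble (cert.W i).length 255) = true := by decide +kernel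

theorem chk_W1 : cert.W 1 = [10, 0, 10, 0, 10, 0] := by decide +kernel

theorem chk_W2 : cert.W 2 = [10, 1, 10, 1] := by decide +kernel

theorem chk_Lx : Lx.all (fun u => match cert.scanR 65535 u 0 with
    | some (a, _) => Nat.beq a 0
    | none => false) = true := by decide +kernel

theorem len_le {i : ℕ} (hi : i < 113) : (cert.W i).length ≤ 255 := by
  have h := List.all_eq_true.1 chk_len i (List.mem_range.2 hi)
  simpa [Nat.ble] using h

theorem rhs_fld {i l : ℕ} (hi : i < 113) (hl : l < 11) :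
    fld (cert.rhs i) l = (cert.W i).length * 2048 + (if l = i then 1 else 0) := by
  have h := List.all_eq_true.1 (List.all_eq_true.1 chk_rhs i (List.mem_range.2 hi)) l (List.mem_range.2 hl)
  exact Nat.eq_of_beq_eq_true h

theorem W_mem_allrw {i : ℕ} (hi : i < 11) : cert.W i ∈ allrw := by
  have h := List.all_eq_true.1 chk_W_rw i (List.mem_range.2 hi)
  simpa using h

theorem W_mem_words23 {i : ℕ} (h11 : 11 ≤ i) (hi : i < 113) : cert.W i ∈ words23 := by
  have h := List.all_eq_true.1 chk_W_pure (i - 11) (List.mem_range.2 (by omega))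
  have e : 11 + (i - 11) = i := by omega
  rw [e] at h
  simpa using h

theorem wdG_W {i : ℕ} (hi : i < 113) : VCert.wd γG (cert.W i) = 1 := by
  rcases Nat.lt_or_ge i 11 with h | h
  · exact wdG_allrw (W_mem_allrw h)
  · exact wdG_pure (W_mem_words23 h hi)

/-- the relations between the classes -/
def relL : List (List ℤ) :=
  [[0, 0, 3, (-3), 0, 0, 0, 0, 0, 0, 0],
    [0, 0, 2, 0, (-2), 0, 0, 0, 0, 0, 0],
    [0, 0, 2, 0, 0, (-2), 0, 0, 0, 0, 0],
    [0, 0, 2, 0, 0, 0, (-2), 0, 0, 0, 0],
    [0, 0, 2, 0, 0, 0, 0, (-2), 0, 0, 0],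
    [0, 0, 2, 0, 0, 0, 0, 0, (-2), 0, 0],
    [0, 0, 2, 0, 0, 0, 0, 0, 0, (-2), 0],
    [0, 0, 2, 0, 0, 0, 0, 0, 0, 0, (-2)],
    [2, 0, 3, 0, 0, 0, 0, 0, 0, 0, 0],
    [0, (-2), 0, 3, 0, 0, 0, 0, 0, 0, 0],
    [2, 0, 0, 0, 3, 0, 0, 0, 0, 0, 0],
    [0, 0, 0, 0, 3, (-3), 0, 0, 0, 0, 0],
    [0, 0, 0, 0, 3, 0, 0, 0, 0, (-3), 0],
    [2, 0, 0, 0, 0, 0, 3, 0, 0, 0, 0],
    [0, 0, 0, 0, 0, 0, 3, (-3), 0, 0, 0],
    [2, 0, 0, 0, 0, 0, 0, 0, 3, 0, 0],
    [2, 0, 0, 0, 0, 0, 0, 0, 0, 0, 3],
    [0, 0, 0, 2, 0, (-2), 0, 0, 0, 0, 0],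
    [(-3), (-5), 17, (-16), 14, (-2), 3, (-5), 0, (-8), 0],
    [0, 1, (-1), 0, 0, 0, 0, 0, 0, 0, 0]]

/-- the combinations of the relations that give the unit vectors -/
def lamL : List (List ℤ) :=
  [[16, (-185), 78, 6, 5, 0, 8, 0, 36, (-4), (-42), (-78), (-8), 8, (-5), 0, 0, 38, 1, (-3)],
    [(-1), 12, (-6), 0, 0, 0, 0, 0, (-2), 1, 2, 6, 0, 0, 0, 0, 0, (-3), 0, 3],
    [(-1), 12, (-6), 0, 0, 0, 0, 0, (-2), 1, 2, 6, 0, 0, 0, 0, 0, (-3), 0, 2],
    [0, 3, (-2), 0, 0, 0, 0, 0, 0, 1, 0, 2, 0, 0, 0, 0, 0, (-1), 0, 2],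
    [1, (-2), 0, 0, 0, 0, 0, 0, 1, 1, (-1), 0, 0, 0, 0, 0, 0, 0, 0, 2],
    [1, (-3), 1, 0, 0, 0, 0, 0, 1, 1, (-1), (-1), 0, 0, 0, 0, 0, 0, 0, 2],
    [1, 0, 0, (-2), 0, 0, 0, 0, 1, 1, 0, 0, 0, (-1), 0, 0, 0, 0, 0, 2],
    [1, (-3), 0, 0, 1, 0, 0, 0, 1, 1, (-2), 0, 0, 1, (-1), 0, 0, 0, 0, 2],
    [1, 0, 0, 0, 0, (-2), 0, 0, 1, 1, 0, 0, 0, 0, 0, (-1), 0, 0, 0, 2],
    [1, (-3), 0, 0, 0, 0, 1, 0, 1, 1, (-1), 0, (-1), 0, 0, 0, 0, 0, 0, 2],
    [1, 0, 0, 0, 0, 0, 0, (-2), 1, 1, 0, 0, 0, 0, 0, 0, (-1), 0, 0, 2]]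

theorem chk_lam : ∀ j, j < 11 → ∀ l, l < 11 →
    (if l = j then (1 : ℤ) else 0) - ([] : List ℤ).getD j 0 * ([] : List ℤ).getD l 0 =
      dotL (lamL.getD j []) relL l := by
  decide +kernel

theorem chk_rel_0 : ∀ l, l < 11 → ((fld (cert.rhs 23) l : ℤ) - (fld 19746073519177637615148432479156070245193073380671797636607520768 l : ℤ)) = (relL.getD 0 []).getD l 0 := by
  decide +kernel

theorem chk_rel_1 : ∀ l, l < 11 → ((fld (cert.rhs 24) l : ℤ) - (fld 13164049012785091743432288319437380163464466769781251340207398912 l : ℤ)) = (relL.getD 1 []).getD l 0 := by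
  decide +kernel

theorem chk_rel_2 : ∀ l, l < 11 → ((fld (cert.rhs 25) l : ℤ) - (fld 13164049012785091743432288319437382698763249374600825075264397312 l : ℤ)) = (relL.getD 2 []).getD l 0 := by
  decide +kernel

theorem chk_rel_3 : ∀ l, l < 11 → ((fld (cert.rhs 26) l : ℤ) - (fld 13164049012785091743432288322095836155031880663949636202418675712 l : ℤ)) = (relL.getD 3 []).getD l 0 := by
  decide +kernel

theorem chk_rel_4 : ∀ l, l < 11 → ((fld (cert.rhs 27) l : ℤ) - (fld 13164049012785091743435075912587196491354740882926103127046234112 l : ℤ)) = (relL.getD 4 []).getD l 0 := by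
  decide +kernel

theorem chk_rel_5 : ∀ l, l < 11 → ((fld (cert.rhs 28) l : ℤ) - (fld 13164049012785094666435562981243216570831714350708061393723072512 l : ℤ)) = (relL.getD 5 []).getD l 0 := by
  decide +kernel

theorem chk_rel_6 : ∀ l, l < 11 → ((fld (cert.rhs 29) l : ℤ) - (fld 13164049015850082825164066036154074217762667285379500326225190912 l : ℤ)) = (relL.getD 6 []).getD l 0 := by
  decide +kernel

theorem chk_rel_7 : ∀ l, l < 11 → ((fld (cert.rhs 30) l : ℤ) - (fld 13167262888873609723983372243622062488667093324129587667528589312 l : ℤ)) = (relL.getD 7 []).getD l 0 := by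
  decide +kernel

theorem chk_rel_8 : ∀ l, l < 11 → ((fld (cert.rhs 2) l : ℤ) - (fld 13164049012785091743432288319437380163462048918142022081857986558 l : ℤ)) = (relL.getD 8 []).getD l 0 := by
  decide +kernel

theorem chk_rel_9 : ∀ l, l < 11 → ((fld (cert.rhs 3) l : ℤ) - (fld 13164049012785091743432288319437380163462048915836181271669645312 l : ℤ)) = (relL.getD 9 []).getD l 0 := by
  decide +kernel

theorem chk_rel_10 : ∀ l, l < 11 → ((fld (cert.rhs 4) l : ℤ) - (fld 13164049012785091743432288319437380163459631066502795022531829758 l : ℤ)) = (relL.getD 10 []).getD l 0 := by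
  decide +kernel

theorem chk_rel_11 : ∀ l, l < 11 → ((fld (cert.rhs 45) l : ℤ) - (fld 19746073519177637615148432479156074048141247284442397023907360768 l : ℤ)) = (relL.getD 11 []).getD l 0 := by
  decide +kernel

theorem chk_rel_12 : ∀ l, l < 11 → ((fld (cert.rhs 49) l : ℤ) - (fld 19746073523775124237746099054231111326640374150610409900348551168 l : ℤ)) = (relL.getD 12 []).getD l 0 := by
  decide +kernel

theorem chk_rel_13 : ∀ l, l < 11 → ((fld (cert.rhs 6) l : ℤ) - (fld 13164049012785091743432288316778924171892217172334410160320552958 l : ℤ)) = (relL.getD 13 []).getD l 0 := by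
  decide +kernel

theorem chk_rel_14 : ∀ l, l < 11 → ((fld (cert.rhs 67) l : ℤ) - (fld 19746073519177637615152613864893110749677363705677736808263200768 l : ℤ)) = (relL.getD 14 []).getD l 0 := by
  decide +kernel

theorem chk_rel_15 : ∀ l, l < 11 → ((fld (cert.rhs 8) l : ℤ) - (fld 13164049012785088820429013657631543756092383485575984969016156158 l : ℤ)) = (relL.getD 15 []).getD l 0 := by
  decide +kernel

theorem chk_rel_16 : ∀ l, l < 11 → ((fld (cert.rhs 10) l : ℤ) - (fld 13160835136696573762881204395252697838257004512154458695210639358 l : ℤ)) = (relL.getD 16 []).getD l 0 := by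
  decide +kernel

theorem chk_rel_17 : ∀ l, l < 11 → ((fld (cert.rhs 35) l : ℤ) - (fld 13164049012785091743432288319437382698763249372294984265073958912 l : ℤ)) = (relL.getD 17 []).getD l 0 := by
  decide +kernel

theorem chk_rel_18 : ∀ l, l < 11 → ((fld (cert.rhs 112) l : ℤ) - (fld 207333771963625159285992620876892373159391001736366500400455612419 l : ℤ)) = (relL.getD 18 []).getD l 0 := by
  decide +kernel

/-! ### the extension -/

section upper

variable {Γ : Type} [Group Γ] [Finite Γ] (σ : Γ →* Fi24') (hsurj : Function.Surjective σ)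
  (hcen : σ.ker ≤ Subgroup.center Γ) (hder : σ.ker ≤ commutator Γ)
  (f : ℕ → Γ) (t : Γ) (hfM : ∀ x, x < 10 → f x ∈ Mt σ Q) (hf : ∀ x, x < 10 → σ (f x) = γG x)
  (ht : σ t = xG)
  (hnorm : VCert.wd (gU f t) [10, 0, 10, 0, 10, 0] = VCert.wd (gU f t) [10, 1, 10, 1])

include hf ht in
omit [Finite Γ] in
theorem W_mem_ker {i : ℕ} (hi : i < 113) : VCert.wd (gU f t) (cert.W i) ∈ σ.ker :=
  wd_gU_mem_ker σ f t hf ht (wdG_W hi)

/-- the classes: the values of the words of the certificate -/
noncomputable def zU (j : ℕ) : Subgroup.center Γ :=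
  if h : j < 113 then ⟨VCert.wd (gU f t) (cert.W j), hcen (W_mem_ker σ f t hf ht h)⟩ else 1

omit [Finite Γ] in
theorem zU_val {j : ℕ} (hj : j < 113) : (zU σ hcen f t hf ht j : Γ) = VCert.wd (gU f t) (cert.W j) := by
  rw [zU, dif_pos hj]

omit [Finite Γ] in
theorem zU_mem_ker (j : ℕ) : (zU σ hcen f t hf ht j : Γ) ∈ σ.ker := by
  by_cases hj : j < 113
  · rw [zU_val σ hcen f t hf ht hj]
    exact W_mem_ker σ f t hf ht hj
  · rw [zU, dif_neg hj]
    exact Subgroup.one_mem _

include hfM hsurj in
theorem hW0_U : ∀ i, i < cert.nW → cert.wT i = 0 →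
    VCert.wd (gU f t) (cert.W i) = (cert.ek (zU σ hcen f t hf ht) i : Γ) := by
  intro i hi _
  have hi' : i < 113 := hi
  rcases Nat.lt_or_ge i 11 with h11 | h11
  · rw [VCert.ek, cert.kap_unit _ (j := i) h11 (by
      intro l hl
      have hl' : l < 11 := hl
      rw [rhs_fld hi' hl']
      show (((cert.W i).length * 2048 + (if l = i then 1 else 0) : ℕ) : ℤ) - ((cert.W i).length : ℤ) * ((2048 : ℕ) : ℤ) = _
      push_cast
      split_ifs <;> ring), zU_val σ hcen f t hf ht hi']
  · rw [VCert.ek, cert.kap_one _ (by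
      intro l hl
      have hl' : l < 11 := hl
      rw [rhs_fld hi' hl', if_neg (by omega)]
      show (((cert.W i).length * 2048 + 0 : ℕ) : ℤ) - ((cert.W i).length : ℤ) * ((2048 : ℕ) : ℤ) = 0
      push_cast
      ring)]
    exact wd_gU_pure σ f t hfM hf ht hsurj hcen _ (words23_lt (W_mem_words23 h11 hi'))
      (wdG_pure (W_mem_words23 h11 hi'))

include hfM hsurj hnorm in
/-- the relations between the classes -/
theorem rel_U : ∀ r ∈ relL, zprod (zU σ hcen f t hf ht) 11 (fun l => r.getD l 0) = 1 := by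
  have key : ∀ {i v row : ℕ}, i < 113 → (cert.W i).length ≤ 255 →
      cert.scan 65535 (cert.W i) row 0 = some (row, v) →
      cert.ek (zU σ hcen f t hf ht) i = cert.kap (zU σ hcen f t hf ht) v (cert.W i).length := by
    intro i v row hi hl h
    exact close_spec cert (γ := gU f t) (H := Mt σ Q) σ.ker (hKn_U σ)
      (fun j _ => zU_mem_ker σ hcen f t hf ht j) (hHK_U σ hsurj hcen)
      (by decide) (by decide)
      (gU_iv σ f t hfM hf hsurj hcen) (hsub_U σ f t hfM)
      (fun i hi => W_mem_ker σ f t hf ht hi)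
      (hW0_U σ hsurj hcen f t hfM hf ht)
      cert_all cert_wall (le_refl _) hi hl (Nat.zero_le _) h
  have h12 : zU σ hcen f t hf ht 1 = zU σ hcen f t hf ht 2 := by
    apply Subtype.ext
    rw [zU_val σ hcen f t hf ht (by norm_num : 1 < 113), zU_val σ hcen f t hf ht (by norm_num : 2 < 113),
      chk_W1, chk_W2]
    exact hnorm
  intro r hr
  simp only [relL, List.mem_cons, List.not_mem_nil, or_false] at hr
  rcases hr with rfl | rfl | rfl | rfl | rfl | rfl | rfl | rfl | rfl | rfl | rfl | rfl | rfl | rfl | rfl | rfl | rfl | rfl | rfl | rfl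
  · exact cert.rel_of_close _ (key (i := 23) (by norm_num) (len_le (by norm_num)) close_0) _ chk_rel_0
  · exact cert.rel_of_close _ (key (i := 24) (by norm_num) (len_le (by norm_num)) close_1) _ chk_rel_1
  · exact cert.rel_of_close _ (key (i := 25) (by norm_num) (len_le (by norm_num)) close_2) _ chk_rel_2
  · exact cert.rel_of_close _ (key (i := 26) (by norm_num) (len_le (by norm_num)) close_3) _ chk_rel_3
  · exact cert.rel_of_close _ (key (i := 27) (by norm_num) (len_le (by norm_num)) close_4) _ chk_rel_4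
  · exact cert.rel_of_close _ (key (i := 28) (by norm_num) (len_le (by norm_num)) close_5) _ chk_rel_5
  · exact cert.rel_of_close _ (key (i := 29) (by norm_num) (len_le (by norm_num)) close_6) _ chk_rel_6
  · exact cert.rel_of_close _ (key (i := 30) (by norm_num) (len_le (by norm_num)) close_7) _ chk_rel_7
  · exact cert.rel_of_close _ (key (i := 2) (by norm_num) (len_le (by norm_num)) close_8) _ chk_rel_8
  · exact cert.rel_of_close _ (key (i := 3) (by norm_num) (len_le (by norm_num)) close_9) _ chk_rel_9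
  · exact cert.rel_of_close _ (key (i := 4) (by norm_num) (len_le (by norm_num)) close_10) _ chk_rel_10
  · exact cert.rel_of_close _ (key (i := 45) (by norm_num) (len_le (by norm_num)) close_11) _ chk_rel_11
  · exact cert.rel_of_close _ (key (i := 49) (by norm_num) (len_le (by norm_num)) close_12) _ chk_rel_12
  · exact cert.rel_of_close _ (key (i := 6) (by norm_num) (len_le (by norm_num)) close_13) _ chk_rel_13
  · exact cert.rel_of_close _ (key (i := 67) (by norm_num) (len_le (by norm_num)) close_14) _ chk_rel_14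
  · exact cert.rel_of_close _ (key (i := 8) (by norm_num) (len_le (by norm_num)) close_15) _ chk_rel_15
  · exact cert.rel_of_close _ (key (i := 10) (by norm_num) (len_le (by norm_num)) close_16) _ chk_rel_16
  · exact cert.rel_of_close _ (key (i := 35) (by norm_num) (len_le (by norm_num)) close_17) _ chk_rel_17
  · exact cert.rel_of_close _ (key (i := 112) (by norm_num) (len_le (by norm_num)) close_18) _ chk_rel_18
  · -- the choice of the lift of the eleventh letter
    unfold zprod
    simp only [Finset.prod_range_succ, Finset.range_zero, Finset.prod_empty]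
    simp [h12]

include hfM hsurj hnorm in
/-- **all the classes are trivial** -/
theorem zU_eq_one : ∀ j, j < 11 → zU σ hcen f t hf ht j = 1 := by
  intro j hj
  have h := (cyclic_of_relations (zU σ hcen f t hf ht) 11 relL
    (rel_U σ hsurj hcen f t hfM hf ht hnorm) [] [] 0 lamL [] chk_lam (by
      intro l _
      rw [zero_mul]
      cases relL <;> rfl)).1 j hj
  rw [h]
  simp

include hfM hf ht hsurj hcen hnorm in
/-- **the short rewritten relators are trivial in the extension** -/
theorem wd_gU_Lx {u : List ℕ} (hu : u ∈ Lx) : VCert.wd (gU f t) u = 1 := by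
  have h := List.all_eq_true.1 chk_Lx u hu
  rw [VCert.scanR_eq] at h
  cases hq : cert.scan 65535 u 0 0 with
  | none => rw [hq] at h; exact absurd h (by simp)
  | some r =>
    obtain ⟨a, v⟩ := r
    rw [hq] at h
    have ha : a = 0 := Nat.eq_of_beq_eq_true h
    subst ha
    have hlen : u.length ≤ 255 := by
      have h6 : Lx.all (fun u => Nat.ble u.length 255) = true := by decide
      have := List.all_eq_true.1 h6 u hu
      simpa [Nat.ble] using this
    have h1 := value_of_scan cert (γ := gU f t) (H := Mt σ Q) (z := zU σ hcen f t hf ht) σ.ker (hKn_U σ)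
      (fun j _ => zU_mem_ker σ hcen f t hf ht j) (hHK_U σ hsurj hcen)
      (by decide) (by decide)
      (gU_iv σ f t hfM hf hsurj hcen) (hsub_U σ f t hfM)
      (fun i hi => W_mem_ker σ f t hf ht hi)
      (hW0_U σ hsurj hcen f t hfM hf ht)
      cert_all cert_wall (le_refl _) (wd_gU_mem_ker σ f t hf ht (wdG_allrw (Lx_sub hu))) hlen hq
    rw [h1, cert.kap_triv _ (fun j hj => zU_eq_one σ hsurj hcen f t hfM hf ht hnorm j hj)]
    rfl

end upper

end Cfsg.Agent.Lib.Helper7.Fi24MP
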