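import Cfsg.Agent.Lib.Helper7.Fi24MRT0
import Cfsg.Agent.Lib.Helper7.Fi24MRT1
import Cfsg.Agent.Lib.Helper7.Fi24MRT2
import Cfsg.Agent.Lib.Helper7.Fi24MRT3
import Cfsg.Agent.Lib.Helper7.Fi24MRT4
import Cfsg.Agent.Lib.Helper7.MG4A
import Cfsg.Agent.Lib.Helper7.HSMultB

/-! # The multiplier of the Fischer group Fi₂₄′, the second part of a table of the group: the certificate (generated) -/

set_option autoImplicit false

namespace Cfsg.Agent.Lib.Helper7.Fi24MR

open Cfsg.Agent.Lib.Helper7.MG3 Cfsg.Agent.Lib.Helper7.MG4 Cfsg.Agent.Lib.Helper7.HSMult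

/-- a part of the choice of the part of the table -/
noncomputable def selT0 (j : ℕ) : ℕ := (Bool.rec (motive := fun _ => ℕ) (Bool.rec (motive := fun _ => ℕ) (Bool.rec (motive := fun _ => ℕ) rl0 rl1 (Nat.ble 1 j)) (Bool.rec (motive := fun _ => ℕ) rl2 rl3 (Nat.ble 3 j)) (Nat.ble 2 j)) (Bool.rec (motive := fun _ => ℕ) (Bool.rec (motive := fun _ => ℕ) rl4 rl5 (Nat.ble 5 j)) (Bool.rec (motive := fun _ => ℕ) rl6 rl7 (Nat.ble 7 j)) (Nat.ble 6 j)) (Nat.ble 4 j))

/-- a part of the choice of the part of the table -/
noncomputable def selT1 (j : ℕ) : ℕ := (Bool.rec (motive := fun _ => ℕ) (Bool.rec (motive := fun _ => ℕ) (Bool.rec (motive := fun _ => ℕ) rl8 rl9 (Nat.ble 9 j)) (Bool.rec (motive := fun _ => ℕ) rl10 rl11 (Nat.ble 11 j)) (Nat.ble 10 j)) (Bool.rec (motive := fun _ => ℕ) (Bool.rec (motive := fun _ => ℕ) rl12 rl13 (Nat.ble 13 j)) (Bool.rec (motive := fun _ => ℕ) rl14 rl15 (Nat.ble 15 j)) (Nat.ble 14 j)) (Nat.ble 12 j))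

/-- a part of the choice of the part of the table -/
noncomputable def selT2 (j : ℕ) : ℕ := (Bool.rec (motive := fun _ => ℕ) (Bool.rec (motive := fun _ => ℕ) (Bool.rec (motive := fun _ => ℕ) rl16 rl17 (Nat.ble 17 j)) (Bool.rec (motive := fun _ => ℕ) rl18 rl19 (Nat.ble 19 j)) (Nat.ble 18 j)) (Bool.rec (motive := fun _ => ℕ) (Bool.rec (motive := fun _ => ℕ) rl20 rl21 (Nat.ble 21 j)) (Bool.rec (motive := fun _ => ℕ) rl22 rl23 (Nat.ble 23 j)) (Nat.ble 22 j)) (Nat.ble 20 j))

/-- a part of the choice of the part of the table -/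
noncomputable def selT3 (j : ℕ) : ℕ := (Bool.rec (motive := fun _ => ℕ) (Bool.rec (motive := fun _ => ℕ) (Bool.rec (motive := fun _ => ℕ) rl24 rl25 (Nat.ble 25 j)) (Bool.rec (motive := fun _ => ℕ) rl26 rl27 (Nat.ble 27 j)) (Nat.ble 26 j)) (Bool.rec (motive := fun _ => ℕ) (Bool.rec (motive := fun _ => ℕ) rl28 rl29 (Nat.ble 29 j)) (Bool.rec (motive := fun _ => ℕ) rl30 rl31 (Nat.ble 31 j)) (Nat.ble 30 j)) (Nat.ble 28 j))

/-- a part of the choice of the part of the table -/
noncomputable def selT4 (j : ℕ) : ℕ := (Bool.rec (motive := fun _ => ℕ) (Bool.rec (motive := fun _ => ℕ) (Bool.rec (motive := fun _ => ℕ) rl32 rl33 (Nat.ble 33 j)) (Bool.rec (motive := fun _ => ℕ) rl34 rl35 (Nat.ble 35 j)) (Nat.ble 34 j)) (Bool.rec (motive := fun _ => ℕ) (Bool.rec (motive := fun _ => ℕ) rl36 rl37 (Nat.ble 37 j)) (Bool.rec (motive := fun _ => ℕ) rl38 rl39 (Nat.ble 39 j)) (Nat.ble 38 j)) (Nat.ble 36 j))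

/-- a part of the choice of the part of the table -/
noncomputable def selT5 (j : ℕ) : ℕ := (Bool.rec (motive := fun _ => ℕ) (Bool.rec (motive := fun _ => ℕ) (Bool.rec (motive := fun _ => ℕ) rl40 rl41 (Nat.ble 41 j)) (Bool.rec (motive := fun _ => ℕ) rl42 rl43 (Nat.ble 43 j)) (Nat.ble 42 j)) (Bool.rec (motive := fun _ => ℕ) (Bool.rec (motive := fun _ => ℕ) rl44 rl45 (Nat.ble 45 j)) (Bool.rec (motive := fun _ => ℕ) rl46 rl47 (Nat.ble 47 j)) (Nat.ble 46 j)) (Nat.ble 44 j))

/-- a part of the choice of the part of the table -/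
noncomputable def selT6 (j : ℕ) : ℕ := (Bool.rec (motive := fun _ => ℕ) (Bool.rec (motive := fun _ => ℕ) (Bool.rec (motive := fun _ => ℕ) rl48 rl49 (Nat.ble 49 j)) (Bool.rec (motive := fun _ => ℕ) rl50 rl51 (Nat.ble 51 j)) (Nat.ble 50 j)) (Bool.rec (motive := fun _ => ℕ) (Bool.rec (motive := fun _ => ℕ) rl52 rl53 (Nat.ble 53 j)) (Bool.rec (motive := fun _ => ℕ) rl54 rl55 (Nat.ble 55 j)) (Nat.ble 54 j)) (Nat.ble 52 j))

/-- a part of the choice of the part of the table -/
noncomputable def selT7 (j : ℕ) : ℕ := (Bool.rec (motive := fun _ => ℕ) (Bool.rec (motive := fun _ => ℕ) (Bool.rec (motive := fun _ => ℕ) rl56 rl57 (Nat.ble 57 j)) (Bool.rec (motive := fun _ => ℕ) rl58 rl59 (Nat.ble 59 j)) (Nat.ble 58 j)) (Bool.rec (motive := fun _ => ℕ) (Bool.rec (motive := fun _ => ℕ) rl60 rl61 (Nat.ble 61 j)) (Bool.rec (motive := fun _ => ℕ) rl62 rl63 (Nat.ble 63 j)) (Nat.ble 62 j)) (Nat.ble 60 j))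

/-- a part of the choice of the part of the table -/
noncomputable def selT8 (j : ℕ) : ℕ := (Bool.rec (motive := fun _ => ℕ) (Bool.rec (motive := fun _ => ℕ) rl64 rl65 (Nat.ble 65 j)) (Bool.rec (motive := fun _ => ℕ) rl66 (Bool.rec (motive := fun _ => ℕ) rl67 rl68 (Nat.ble 68 j)) (Nat.ble 67 j)) (Nat.ble 66 j))

/-- the choice of the part of the table -/
noncomputable def selT (j : ℕ) : ℕ := (Bool.rec (motive := fun _ => ℕ) (Bool.rec (motive := fun _ => ℕ) (Bool.rec (motive := fun _ => ℕ) (selT0 j) (selT1 j) (Nat.ble 8 j)) (Bool.rec (motive := fun _ => ℕ) (selT2 j) (selT3 j) (Nat.ble 24 j)) (Nat.ble 16 j)) (Bool.rec (motive := fun _ => ℕ) (Bool.rec (motive := fun _ => ℕ) (selT4 j) (selT5 j) (Nat.ble 40 j)) (Bool.rec (motive := fun _ => ℕ) (selT6 j) (Bool.rec (motive := fun _ => ℕ) (selT7 j) (selT8 j) (Nat.ble 64 j)) (Nat.ble 56 j)) (Nat.ble 48 j)) (Nat.ble 32 j))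

/-- the record of the word 0 -/
noncomputable def wr0 : Nat := 0xbbb018000180003

/-- the record of the word 1 -/
noncomputable def wr1 : Nat := 0xa0a0a030000300006

/-- the record of the word 2 -/
noncomputable def wr2 : Nat := 0x1a1a020000200004

/-- the record of the word 3 -/
noncomputable def wr3 : Nat := 0x2a2a020000200004

/-- the record of the word 4 -/
noncomputable def wr4 : Nat := 0x3a3a020000200004

/-- the record of the word 5 -/
noncomputable def wr5 : Nat := 0x4a4a020000200004

/-- the record of the word 6 -/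
noncomputable def wr6 : Nat := 0x5a5a020000200004

/-- the record of the word 7 -/
noncomputable def wr7 : Nat := 0x6a6a020000200004

/-- the record of the word 8 -/
noncomputable def wr8 : Nat := 0x7a7a020000200004

/-- the record of the word 9 -/
noncomputable def wr9 : Nat := 0x8a8a020000200004

/-- the record of the word 10 -/
noncomputable def wr10 : Nat := 0x9a9a020000200004

/-- the record of the word 11 -/
noncomputable def wr11 : Nat := 0x98376543a012398376543a012398376543a012398376543a012398376543a012398376543a012398376543a012398376543a012398376543a012398376543a012398376543a012398376543a012398376543a012398376543a012398376543a012398376543a012398376543a01236e8006e801dd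

/-- the record of the word 12 -/
noncomputable def wr12 : Nat := 0x98376543b012398376543b012398376543b012398376543b012398376543b012398376543b012398376543b012398376543b012398376543b012398376543b012398376543b012398376543b012398376543b012398376543b012398376543b012398376543b012398376543b01236e8016e800dd

/-- the record of the word 13 -/
noncomputable def wr13 : Nat := 0x10000100002

/-- the record of the word 14 -/
noncomputable def wr14 : Nat := 0x101010030000300006

/-- the record of the word 15 -/
noncomputable def wr15 : Nat := 0x2020020000200004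

/-- the record of the word 16 -/
noncomputable def wr16 : Nat := 0x3030020000200004

/-- the record of the word 17 -/
noncomputable def wr17 : Nat := 0x4040020000200004

/-- the record of the word 18 -/
noncomputable def wr18 : Nat := 0x5050020000200004

/-- the record of the word 19 -/
noncomputable def wr19 : Nat := 0x6060020000200004

/-- the record of the word 20 -/
noncomputable def wr20 : Nat := 0x7070020000200004

/-- the record of the word 21 -/
noncomputable def wr21 : Nat := 0x8080020000200004

/-- the record of the word 22 -/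
noncomputable def wr22 : Nat := 0x9090020000200004

/-- the record of the word 23 -/
noncomputable def wr23 : Nat := 0x10101030000300006

/-- the record of the word 24 -/
noncomputable def wr24 : Nat := 0x11010000100002

/-- the record of the word 25 -/
noncomputable def wr25 : Nat := 0x212121030000300006

/-- the record of the word 26 -/
noncomputable def wr26 : Nat := 0x3131020000200004

/-- the record of the word 27 -/
noncomputable def wr27 : Nat := 0x4141020000200004

/-- the record of the word 28 -/
noncomputable def wr28 : Nat := 0x5151020000200004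

/-- the record of the word 29 -/
noncomputable def wr29 : Nat := 0x6161020000200004

/-- the record of the word 30 -/
noncomputable def wr30 : Nat := 0x7171020000200004

/-- the record of the word 31 -/
noncomputable def wr31 : Nat := 0x8181020000200004

/-- the record of the word 32 -/
noncomputable def wr32 : Nat := 0x9191020000200004

/-- the record of the word 33 -/
noncomputable def wr33 : Nat := 0x202020000200004

/-- the record of the word 34 -/
noncomputable def wr34 : Nat := 0x121212030000300006

/-- the record of the word 35 -/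
noncomputable def wr35 : Nat := 0x22010000100002

/-- the record of the word 36 -/
noncomputable def wr36 : Nat := 0x323232030000300006

/-- the record of the word 37 -/
noncomputable def wr37 : Nat := 0x4242020000200004

/-- the record of the word 38 -/
noncomputable def wr38 : Nat := 0x5252020000200004

/-- the record of the word 39 -/
noncomputable def wr39 : Nat := 0x6262020000200004

/-- the record of the word 40 -/
noncomputable def wr40 : Nat := 0x7272020000200004

/-- the record of the word 41 -/
noncomputable def wr41 : Nat := 0x8282020000200004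

/-- the record of the word 42 -/
noncomputable def wr42 : Nat := 0x9292020000200004

/-- the record of the word 43 -/
noncomputable def wr43 : Nat := 0x303020000200004

/-- the record of the word 44 -/
noncomputable def wr44 : Nat := 0x1313020000200004

/-- the record of the word 45 -/
noncomputable def wr45 : Nat := 0x232323030000300006

/-- the record of the word 46 -/
noncomputable def wr46 : Nat := 0x33010000100002

/-- the record of the word 47 -/
noncomputable def wr47 : Nat := 0x434343030000300006

/-- the record of the word 48 -/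
noncomputable def wr48 : Nat := 0x5353020000200004

/-- the record of the word 49 -/
noncomputable def wr49 : Nat := 0x6363020000200004

/-- the record of the word 50 -/
noncomputable def wr50 : Nat := 0x7373020000200004

/-- the record of the word 51 -/
noncomputable def wr51 : Nat := 0x838383030000300006

/-- the record of the word 52 -/
noncomputable def wr52 : Nat := 0x9393020000200004

/-- the record of the word 53 -/
noncomputable def wr53 : Nat := 0x404020000200004

/-- the record of the word 54 -/
noncomputable def wr54 : Nat := 0x1414020000200004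

/-- the record of the word 55 -/
noncomputable def wr55 : Nat := 0x2424020000200004

/-- the record of the word 56 -/
noncomputable def wr56 : Nat := 0x343434030000300006

/-- the record of the word 57 -/
noncomputable def wr57 : Nat := 0x44010000100002

/-- the record of the word 58 -/
noncomputable def wr58 : Nat := 0x545454030000300006

/-- the record of the word 59 -/
noncomputable def wr59 : Nat := 0x6464020000200004

/-- the record of the word 60 -/
noncomputable def wr60 : Nat := 0x7474020000200004

/-- the record of the word 61 -/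
noncomputable def wr61 : Nat := 0x8484020000200004

/-- the record of the word 62 -/
noncomputable def wr62 : Nat := 0x9494020000200004

/-- the record of the word 63 -/
noncomputable def wr63 : Nat := 0x505020000200004

/-- the record of the word 64 -/
noncomputable def wr64 : Nat := 0x1515020000200004

/-- the record of the word 65 -/
noncomputable def wr65 : Nat := 0x2525020000200004

/-- the record of the word 66 -/
noncomputable def wr66 : Nat := 0x3535020000200004

/-- the record of the word 67 -/
noncomputable def wr67 : Nat := 0x454545030000300006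

/-- the record of the word 68 -/
noncomputable def wr68 : Nat := 0x55010000100002

/-- the record of the word 69 -/
noncomputable def wr69 : Nat := 0x656565030000300006

/-- the record of the word 70 -/
noncomputable def wr70 : Nat := 0x7575020000200004

/-- the record of the word 71 -/
noncomputable def wr71 : Nat := 0x8585020000200004

/-- the record of the word 72 -/
noncomputable def wr72 : Nat := 0x9595020000200004

/-- the record of the word 73 -/
noncomputable def wr73 : Nat := 0x606020000200004

/-- the record of the word 74 -/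
noncomputable def wr74 : Nat := 0x1616020000200004

/-- the record of the word 75 -/
noncomputable def wr75 : Nat := 0x2626020000200004

/-- the record of the word 76 -/
noncomputable def wr76 : Nat := 0x3636020000200004

/-- the record of the word 77 -/
noncomputable def wr77 : Nat := 0x4646020000200004

/-- the record of the word 78 -/
noncomputable def wr78 : Nat := 0x565656030000300006

/-- the record of the word 79 -/
noncomputable def wr79 : Nat := 0x66010000100002

/-- the record of the word 80 -/
noncomputable def wr80 : Nat := 0x767676030000300006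

/-- the record of the word 81 -/
noncomputable def wr81 : Nat := 0x8686020000200004

/-- the record of the word 82 -/
noncomputable def wr82 : Nat := 0x9696020000200004

/-- the record of the word 83 -/
noncomputable def wr83 : Nat := 0x707020000200004

/-- the record of the word 84 -/
noncomputable def wr84 : Nat := 0x1717020000200004

/-- the record of the word 85 -/
noncomputable def wr85 : Nat := 0x2727020000200004

/-- the record of the word 86 -/
noncomputable def wr86 : Nat := 0x3737020000200004

/-- the record of the word 87 -/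
noncomputable def wr87 : Nat := 0x4747020000200004

/-- the record of the word 88 -/
noncomputable def wr88 : Nat := 0x5757020000200004

/-- the record of the word 89 -/
noncomputable def wr89 : Nat := 0x676767030000300006

/-- the record of the word 90 -/
noncomputable def wr90 : Nat := 0x77010000100002

/-- the record of the word 91 -/
noncomputable def wr91 : Nat := 0x8787020000200004

/-- the record of the word 92 -/
noncomputable def wr92 : Nat := 0x9797020000200004

/-- the record of the word 93 -/
noncomputable def wr93 : Nat := 0x808020000200004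

/-- the record of the word 94 -/
noncomputable def wr94 : Nat := 0x1818020000200004

/-- the record of the word 95 -/
noncomputable def wr95 : Nat := 0x2828020000200004

/-- the record of the word 96 -/
noncomputable def wr96 : Nat := 0x383838030000300006

/-- the record of the word 97 -/
noncomputable def wr97 : Nat := 0x4848020000200004

/-- the record of the word 98 -/
noncomputable def wr98 : Nat := 0x5858020000200004

/-- the record of the word 99 -/
noncomputable def wr99 : Nat := 0x6868020000200004

/-- the record of the word 100 -/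
noncomputable def wr100 : Nat := 0x7878020000200004

/-- the record of the word 101 -/
noncomputable def wr101 : Nat := 0x88010000100002

/-- the record of the word 102 -/
noncomputable def wr102 : Nat := 0x989898030000300006

/-- the record of the word 103 -/
noncomputable def wr103 : Nat := 0x909020000200004

/-- the record of the word 104 -/
noncomputable def wr104 : Nat := 0x1919020000200004

/-- the record of the word 105 -/
noncomputable def wr105 : Nat := 0x2929020000200004

/-- the record of the word 106 -/
noncomputable def wr106 : Nat := 0x3939020000200004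

/-- the record of the word 107 -/
noncomputable def wr107 : Nat := 0x4949020000200004

/-- the record of the word 108 -/
noncomputable def wr108 : Nat := 0x5959020000200004

/-- the record of the word 109 -/
noncomputable def wr109 : Nat := 0x6969020000200004

/-- the record of the word 110 -/
noncomputable def wr110 : Nat := 0x7979020000200004

/-- the record of the word 111 -/
noncomputable def wr111 : Nat := 0x898989030000300006

/-- the record of the word 112 -/
noncomputable def wr112 : Nat := 0x99010000100002

/-- the record of the word 113 -/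
noncomputable def wr113 : Nat := 0x9835431239835431239835431239835431239835431239835431239835431239835431239835431239835431232d0002d0005a

/-- the record of the word 114 -/
noncomputable def wr114 : Nat := 0x8543210854321085432108543210854321085432108543210854321085432101f8001f8003f

/-- a part of the choice of the record of a word -/
noncomputable def selW0 (j : ℕ) : ℕ := (Bool.rec (motive := fun _ => ℕ) (Bool.rec (motive := fun _ => ℕ) (Bool.rec (motive := fun _ => ℕ) wr0 wr1 (Nat.ble 1 j)) (Bool.rec (motive := fun _ => ℕ) wr2 wr3 (Nat.ble 3 j)) (Nat.ble 2 j)) (Bool.rec (motive := fun _ => ℕ) (Bool.rec (motive := fun _ => ℕ) wr4 wr5 (Nat.ble 5 j)) (Bool.rec (motive := fun _ => ℕ) wr6 wr7 (Nat.ble 7 j)) (Nat.ble 6 j)) (Nat.ble 4 j))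

/-- a part of the choice of the record of a word -/
noncomputable def selW1 (j : ℕ) : ℕ := (Bool.rec (motive := fun _ => ℕ) (Bool.rec (motive := fun _ => ℕ) (Bool.rec (motive := fun _ => ℕ) wr8 wr9 (Nat.ble 9 j)) (Bool.rec (motive := fun _ => ℕ) wr10 wr11 (Nat.ble 11 j)) (Nat.ble 10 j)) (Bool.rec (motive := fun _ => ℕ) (Bool.rec (motive := fun _ => ℕ) wr12 wr13 (Nat.ble 13 j)) (Bool.rec (motive := fun _ => ℕ) wr14 wr15 (Nat.ble 15 j)) (Nat.ble 14 j)) (Nat.ble 12 j))

/-- a part of the choice of the record of a word -/
noncomputable def selW2 (j : ℕ) : ℕ := (Bool.rec (motive := fun _ => ℕ) (Bool.rec (motive := fun _ => ℕ) (Bool.rec (motive := fun _ => ℕ) wr16 wr17 (Nat.ble 17 j)) (Bool.rec (motive := fun _ => ℕ) wr18 wr19 (Nat.ble 19 j)) (Nat.ble 18 j)) (Bool.rec (motive := fun _ => ℕ) (Bool.rec (motive := fun _ => ℕ) wr20 wr21 (Nat.ble 21 j)) (Bool.rec (motive := fun _ => ℕ) wr22 wr23 (Nat.ble 23 j)) (Nat.ble 22 j)) (Nat.ble 20 j))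

/-- a part of the choice of the record of a word -/
noncomputable def selW3 (j : ℕ) : ℕ := (Bool.rec (motive := fun _ => ℕ) (Bool.rec (motive := fun _ => ℕ) (Bool.rec (motive := fun _ => ℕ) wr24 wr25 (Nat.ble 25 j)) (Bool.rec (motive := fun _ => ℕ) wr26 wr27 (Nat.ble 27 j)) (Nat.ble 26 j)) (Bool.rec (motive := fun _ => ℕ) (Bool.rec (motive := fun _ => ℕ) wr28 wr29 (Nat.ble 29 j)) (Bool.rec (motive := fun _ => ℕ) wr30 wr31 (Nat.ble 31 j)) (Nat.ble 30 j)) (Nat.ble 28 j))

/-- a part of the choice of the record of a word -/
noncomputable def selW4 (j : ℕ) : ℕ := (Bool.rec (motive := fun _ => ℕ) (Bool.rec (motive := fun _ => ℕ) (Bool.rec (motive := fun _ => ℕ) wr32 wr33 (Nat.ble 33 j)) (Bool.rec (motive := fun _ => ℕ) wr34 wr35 (Nat.ble 35 j)) (Nat.ble 34 j)) (Bool.rec (motive := fun _ => ℕ) (Bool.rec (motive := fun _ => ℕ) wr36 wr37 (Nat.ble 37 j)) (Bool.rec (motive := fun _ => ℕ) wr38 wr39 (Nat.ble 39 j)) (Nat.ble 38 j)) (Nat.ble 36 j))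

/-- a part of the choice of the record of a word -/
noncomputable def selW5 (j : ℕ) : ℕ := (Bool.rec (motive := fun _ => ℕ) (Bool.rec (motive := fun _ => ℕ) (Bool.rec (motive := fun _ => ℕ) wr40 wr41 (Nat.ble 41 j)) (Bool.rec (motive := fun _ => ℕ) wr42 wr43 (Nat.ble 43 j)) (Nat.ble 42 j)) (Bool.rec (motive := fun _ => ℕ) (Bool.rec (motive := fun _ => ℕ) wr44 wr45 (Nat.ble 45 j)) (Bool.rec (motive := fun _ => ℕ) wr46 wr47 (Nat.ble 47 j)) (Nat.ble 46 j)) (Nat.ble 44 j))

/-- a part of the choice of the record of a word -/
noncomputable def selW6 (j : ℕ) : ℕ := (Bool.rec (motive := fun _ => ℕ) (Bool.rec (motive := fun _ => ℕ) (Bool.rec (motive := fun _ => ℕ) wr48 wr49 (Nat.ble 49 j)) (Bool.rec (motive := fun _ => ℕ) wr50 wr51 (Nat.ble 51 j)) (Nat.ble 50 j)) (Bool.rec (motive := fun _ => ℕ) (Bool.rec (motive := fun _ => ℕ) wr52 wr53 (Nat.ble 53 j)) (Bool.rec (motive := fun _ => ℕ) wr54 wr55 (Nat.ble 55 j)) (Nat.ble 54 j)) (Nat.ble 52 j))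

/-- a part of the choice of the record of a word -/
noncomputable def selW7 (j : ℕ) : ℕ := (Bool.rec (motive := fun _ => ℕ) (Bool.rec (motive := fun _ => ℕ) (Bool.rec (motive := fun _ => ℕ) wr56 wr57 (Nat.ble 57 j)) (Bool.rec (motive := fun _ => ℕ) wr58 wr59 (Nat.ble 59 j)) (Nat.ble 58 j)) (Bool.rec (motive := fun _ => ℕ) (Bool.rec (motive := fun _ => ℕ) wr60 wr61 (Nat.ble 61 j)) (Bool.rec (motive := fun _ => ℕ) wr62 wr63 (Nat.ble 63 j)) (Nat.ble 62 j)) (Nat.ble 60 j))

/-- a part of the choice of the record of a word -/
noncomputable def selW8 (j : ℕ) : ℕ := (Bool.rec (motive := fun _ => ℕ) (Bool.rec (motive := fun _ => ℕ) (Bool.rec (motive := fun _ => ℕ) wr64 wr65 (Nat.ble 65 j)) (Bool.rec (motive := fun _ => ℕ) wr66 wr67 (Nat.ble 67 j)) (Nat.ble 66 j)) (Bool.rec (motive := fun _ => ℕ) (Bool.rec (motive := fun _ => ℕ) wr68 wr69 (Nat.ble 69 j)) (Bool.rec (motive := fun _ => ℕ) wr70 wr71 (Nat.ble 71 j)) (Nat.ble 70 j)) (Nat.ble 68 j))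

/-- a part of the choice of the record of a word -/
noncomputable def selW9 (j : ℕ) : ℕ := (Bool.rec (motive := fun _ => ℕ) (Bool.rec (motive := fun _ => ℕ) (Bool.rec (motive := fun _ => ℕ) wr72 wr73 (Nat.ble 73 j)) (Bool.rec (motive := fun _ => ℕ) wr74 wr75 (Nat.ble 75 j)) (Nat.ble 74 j)) (Bool.rec (motive := fun _ => ℕ) (Bool.rec (motive := fun _ => ℕ) wr76 wr77 (Nat.ble 77 j)) (Bool.rec (motive := fun _ => ℕ) wr78 wr79 (Nat.ble 79 j)) (Nat.ble 78 j)) (Nat.ble 76 j))

/-- a part of the choice of the record of a word -/
noncomputable def selW10 (j : ℕ) : ℕ := (Bool.rec (motive := fun _ => ℕ) (Bool.rec (motive := fun _ => ℕ) (Bool.rec (motive := fun _ => ℕ) wr80 wr81 (Nat.ble 81 j)) (Bool.rec (motive := fun _ => ℕ) wr82 wr83 (Nat.ble 83 j)) (Nat.ble 82 j)) (Bool.rec (motive := fun _ => ℕ) (Bool.rec (motive := fun _ => ℕ) wr84 wr85 (Nat.ble 85 j)) (Bool.rec (motive := fun _ => ℕ) wr86 wr87 (Nat.ble 87 j)) (Nat.ble 86 j)) (Nat.ble 84 j))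

/-- a part of the choice of the record of a word -/
noncomputable def selW11 (j : ℕ) : ℕ := (Bool.rec (motive := fun _ => ℕ) (Bool.rec (motive := fun _ => ℕ) (Bool.rec (motive := fun _ => ℕ) wr88 wr89 (Nat.ble 89 j)) (Bool.rec (motive := fun _ => ℕ) wr90 wr91 (Nat.ble 91 j)) (Nat.ble 90 j)) (Bool.rec (motive := fun _ => ℕ) (Bool.rec (motive := fun _ => ℕ) wr92 wr93 (Nat.ble 93 j)) (Bool.rec (motive := fun _ => ℕ) wr94 wr95 (Nat.ble 95 j)) (Nat.ble 94 j)) (Nat.ble 92 j))

/-- a part of the choice of the record of a word -/
noncomputable def selW12 (j : ℕ) : ℕ := (Bool.rec (motive := fun _ => ℕ) (Bool.rec (motive := fun _ => ℕ) (Bool.rec (motive := fun _ => ℕ) wr96 wr97 (Nat.ble 97 j)) (Bool.rec (motive := fun _ => ℕ) wr98 wr99 (Nat.ble 99 j)) (Nat.ble 98 j)) (Bool.rec (motive := fun _ => ℕ) (Bool.rec (motive := fun _ => ℕ) wr100 wr101 (Nat.ble 101 j)) (Bool.rec (motive := fun _ => ℕ) wr102 wr103 (Nat.ble 103 j)) (Nat.ble 102 j)) (Nat.ble 100 j))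

/-- a part of the choice of the record of a word -/
noncomputable def selW13 (j : ℕ) : ℕ := (Bool.rec (motive := fun _ => ℕ) (Bool.rec (motive := fun _ => ℕ) (Bool.rec (motive := fun _ => ℕ) wr104 wr105 (Nat.ble 105 j)) (Bool.rec (motive := fun _ => ℕ) wr106 wr107 (Nat.ble 107 j)) (Nat.ble 106 j)) (Bool.rec (motive := fun _ => ℕ) (Bool.rec (motive := fun _ => ℕ) wr108 wr109 (Nat.ble 109 j)) (Bool.rec (motive := fun _ => ℕ) wr110 wr111 (Nat.ble 111 j)) (Nat.ble 110 j)) (Nat.ble 108 j))

/-- a part of the choice of the record of a word -/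
noncomputable def selW14 (j : ℕ) : ℕ := (Bool.rec (motive := fun _ => ℕ) wr112 (Bool.rec (motive := fun _ => ℕ) wr113 wr114 (Nat.ble 114 j)) (Nat.ble 113 j))

/-- the choice of the record of a word -/
noncomputable def selW (j : ℕ) : ℕ := (Bool.rec (motive := fun _ => ℕ) (Bool.rec (motive := fun _ => ℕ) (Bool.rec (motive := fun _ => ℕ) (selW0 j) (Bool.rec (motive := fun _ => ℕ) (selW1 j) (selW2 j) (Nat.ble 16 j)) (Nat.ble 8 j)) (Bool.rec (motive := fun _ => ℕ) (Bool.rec (motive := fun _ => ℕ) (selW3 j) (selW4 j) (Nat.ble 32 j)) (Bool.rec (motive := fun _ => ℕ) (selW5 j) (selW6 j) (Nat.ble 48 j)) (Nat.ble 40 j)) (Nat.ble 24 j)) (Bool.rec (motive := fun _ => ℕ) (Bool.rec (motive := fun _ => ℕ) (Bool.rec (motive := fun _ => ℕ) (selW7 j) (selW8 j) (Nat.ble 64 j)) (Bool.rec (motive := fun _ => ℕ) (selW9 j) (selW10 j) (Nat.ble 80 j)) (Nat.ble 72 j)) (Bool.rec (motive := fun _ => ℕ) (Bool.rec (motive := fun _ => ℕ) (selW11 j) (selW12 j) (Nat.ble 96 j)) (Bool.rec (motive := fun _ => ℕ) (selW13 j) (selW14 j) (Nat.ble 112 j)) (Nat.ble 104 j)) (Nat.ble 88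 j)) (Nat.ble 56 j))

/-- a row of the table, shifted by `k` binary digits -/
noncomputable def rowSh (a k : ℕ) : ℕ :=
  strictN a fun a' => Nat.shiftRight (selT (Nat.shiftRight a' 8)) (Nat.add (Nat.mul 1396 (Nat.land a' 255)) k)

/-- the letters of a packed word, four binary digits for each -/
def unpL (k : ℕ) : ℕ → List ℕ :=
  Nat.rec (motive := fun _ => ℕ → List ℕ) (fun _ => []) (fun _ ih v => strictN (Nat.shiftRight v 4) fun v' => Nat.land v 15 :: ih v') k

/-- a word -/
noncomputable def wordOf (i : ℕ) : List ℕ :=
  strictN (selW i) fun v => unpL (Nat.land v 255) (Nat.shiftRight v 48)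

/-- the certificate -/
noncomputable def cert : VCert where
  n := 17600
  g := 12
  k := 2
  nW := 115
  B := 2048
  iv := fun x => cond (Nat.blt x 10) x (Nat.sub 21 x)
  sub := fun x => Nat.blt x 10
  sl := fun a x => Nat.land (rowSh a (Nat.mul 114 x)) 20769187434139310514121985316880383
  pr := fun a => Nat.land (rowSh a 1368) 268435455
  W := wordOf
  rhs := fun i => Nat.land (Nat.shiftRight (selW i) 8) 1099511627775
  wT := fun _ => 0
  wA := fun _ => 0

/-- the check of the rows from `lo` to `lo + k` -/
noncomputable def rowsOK (lo k : ℕ) : Bool := allN k fun i => allN 12 fun x => slotOKP cert (Nat.add lo i) x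

end Cfsg.Agent.Lib.Helper7.Fi24MR
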