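import Cfsg.Agent.Lib.Helper7.Fi24MRC

/-! # The multiplier of the Fischer group Fi₂₄′, the second part of a table of the group: the words that give the relations between the classes are traced (generated) -/

set_option autoImplicit false
set_option maxRecDepth 100000
set_option maxHeartbeats 0

namespace Cfsg.Agent.Lib.Helper7.Fi24MR

open Cfsg.Agent.Lib.Helper7.MG3

theorem closeR_0 : cert.scanR 65535 (cert.W 101) 17314 = some (17314, 4296019969) := by decide +kernel

theorem closeR_1 : cert.scanR 65535 (cert.W 51) 17422 = some (17422, 12888059904) := by decide +kernel



end Cfsg.Agent.Lib.Helper7.Fi24MR
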