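import Cfsg.Agent.Lib.Helper7.Fi24MRK0
import Cfsg.Agent.Lib.Helper7.Fi24MRK1
import Cfsg.Agent.Lib.Helper7.Fi24MRK2
import Cfsg.Agent.Lib.Helper7.Fi24MRK3
import Cfsg.Agent.Lib.Helper7.Fi24MRK4
import Cfsg.Agent.Lib.Helper7.Fi24MRK5
import Cfsg.Agent.Lib.Helper7.Fi24MRK6
import Cfsg.Agent.Lib.Helper7.Fi24MRK7
import Cfsg.Agent.Lib.Helper7.Fi24MRK8
import Cfsg.Agent.Lib.Helper7.Fi24MRK9
import Cfsg.Agent.Lib.Helper7.Fi24MRK10
import Cfsg.Agent.Lib.Helper7.Fi24MRKC

/-! # The multiplier of the Fischer group Fi₂₄′, the second part of a table of the group: all the rows of the certificate are checked (generated) -/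

set_option autoImplicit false
set_option maxRecDepth 100000
set_option maxHeartbeats 0

namespace Cfsg.Agent.Lib.Helper7.Fi24MR

open Cfsg.Agent.Lib.Helper7.MG3 Cfsg.Agent.Lib.Helper7.MG4 Cfsg.Agent.Lib.Helper7.HSMult

theorem rows_ok_all : ∀ k, k < 44 → rowsOK (400 * k) 400 = true
  | 0, _ => rows_ok_0
  | 1, _ => rows_ok_1
  | 2, _ => rows_ok_2
  | 3, _ => rows_ok_3
  | 4, _ => rows_ok_4
  | 5, _ => rows_ok_5
  | 6, _ => rows_ok_6
  | 7, _ => rows_ok_7
  | 8, _ => rows_ok_8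
  | 9, _ => rows_ok_9
  | 10, _ => rows_ok_10
  | 11, _ => rows_ok_11
  | 12, _ => rows_ok_12
  | 13, _ => rows_ok_13
  | 14, _ => rows_ok_14
  | 15, _ => rows_ok_15
  | 16, _ => rows_ok_16
  | 17, _ => rows_ok_17
  | 18, _ => rows_ok_18
  | 19, _ => rows_ok_19
  | 20, _ => rows_ok_20
  | 21, _ => rows_ok_21
  | 22, _ => rows_ok_22
  | 23, _ => rows_ok_23
  | 24, _ => rows_ok_24
  | 25, _ => rows_ok_25
  | 26, _ => rows_ok_26
  | 27, _ => rows_ok_27
  | 28, _ => rows_ok_28
  | 29, _ => rows_ok_29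
  | 30, _ => rows_ok_30
  | 31, _ => rows_ok_31
  | 32, _ => rows_ok_32
  | 33, _ => rows_ok_33
  | 34, _ => rows_ok_34
  | 35, _ => rows_ok_35
  | 36, _ => rows_ok_36
  | 37, _ => rows_ok_37
  | 38, _ => rows_ok_38
  | 39, _ => rows_ok_39
  | 40, _ => rows_ok_40
  | 41, _ => rows_ok_41
  | 42, _ => rows_ok_42
  | 43, _ => rows_ok_43
  | k + 44, h => absurd h (by omega)

/-- **every entry of the table that is given is justified** -/
theorem cert_all : ∀ a, a < cert.n → ∀ x, x < cert.g → slotOKP cert a x = true := by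
  intro a ha x hx
  have ha' : a < 17600 := ha
  have hx' : x < 12 := hx
  have h1 := rows_ok_all (a / 400) (by omega)
  rw [rowsOK, allN_iff] at h1
  have h2 := h1 (a % 400) (Nat.mod_lt _ (by norm_num))
  rw [allN_iff] at h2
  have h3 := h2 x hx'
  have e : Nat.add (400 * (a / 400)) (a % 400) = a := Nat.div_add_mod a 400
  rw [e] at h3
  exact h3

/-- every word of the certificate is given at the start -/
theorem cert_wall : ∀ i, i < cert.nW → cert.wordOK i = true := fun _ _ => rfl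

theorem close_0 : cert.scan 65535 (cert.W 101) 17314 0 = some (17314, 4296019969) := by
  rw [← VCert.scanR_eq]
  exact closeR_0

theorem close_1 : cert.scan 65535 (cert.W 51) 17422 0 = some (17422, 12888059904) := by
  rw [← VCert.scanR_eq]
  exact closeR_1



end Cfsg.Agent.Lib.Helper7.Fi24MR
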