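import Cfsg.Agent.Lib.Helper7.Fi24MRC

/-! # The multiplier of the Fischer group Fi₂₄′, the second part of a table of the group: the check of a part of the rows of the certificate (generated) -/

set_option autoImplicit false
set_option maxRecDepth 100000
set_option maxHeartbeats 0

namespace Cfsg.Agent.Lib.Helper7.Fi24MR

theorem rows_ok_0 : rowsOK 0 400 = true := by decide +kernel

theorem rows_ok_1 : rowsOK 400 400 = true := by decide +kernel

theorem rows_ok_2 : rowsOK 800 400 = true := by decide +kernel

theorem rows_ok_3 : rowsOK 1200 400 = true := by decide +kernel

end Cfsg.Agent.Lib.Helper7.Fi24MR
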