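import Cfsg.Agent.Lib.Helper7.Fi24MRD
import Cfsg.Agent.Lib.Helper7.Fi24MPU

/-!
# The multiplier of the Fischer group Fi₂₄′: the values of the two long rewritten relators in a finite stem extension

The letters are lifted as in `Fi24MC`, so that the short rewritten relators are trivial in the extension.  The second
part of the table, with two classes, the values of the two long rewritten relators, gives two relations between these
classes: the second class is the inverse of the first, and the cube of the first is trivial.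
-/

set_option autoImplicit false
set_option maxRecDepth 100000

namespace Cfsg.Agent.Lib.Helper7.Fi24MR

open Cfsg Cfsg.Spor Cfsg.Agent.Lib.Helper7.MG3 Cfsg.Agent.Lib.Helper7.MG4 Cfsg.Agent.Lib.Helper7.HSMult
open Cfsg.Agent.Lib.Helper7.MG (zprod zprod_congr zprod_zero zprod_single dotL cyclic_of_relations)
open Cfsg.Agent.Lib.Helper7.M12Mult
open Cfsg.Agent.Lib.Helper7.Fi24M
open scoped IsMulCommutative

/-! ### the words of the certificate -/

theorem chk_W_x : (List.range 11).all (fun i => Lx.contains (cert.W i)) = true := by decide +kernel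

theorem chk_W_pure : (List.range 102).all (fun i => words23.contains (cert.W (13 + i))) = true := by decide +kernel

theorem chk_rhs : (List.range 115).all (fun i => (List.range 2).all (fun l =>
    Nat.beq (fld (cert.rhs i) l) ((cert.W i).length * 2048 + (if l + 11 = i then 1 else 0)))) = true := by
  decide +kernel

theorem chk_len : (List.range 115).all (fun i => Nat.ble (cert.W i).length 255) = true := by decide +kernel

theorem chk_W11 : cert.W 11 = zw0 := by decide +kernel

theorem chk_W12 : cert.W 12 = zw1 := by decide +kernel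

theorem len_le {i : ℕ} (hi : i < 115) : (cert.W i).length ≤ 255 := by
  have h := List.all_eq_true.1 chk_len i (List.mem_range.2 hi)
  simpa [Nat.ble] using h

theorem rhs_fld {i l : ℕ} (hi : i < 115) (hl : l < 2) :
    fld (cert.rhs i) l = (cert.W i).length * 2048 + (if l + 11 = i then 1 else 0) := by
  have h := List.all_eq_true.1 (List.all_eq_true.1 chk_rhs i (List.mem_range.2 hi)) l (List.mem_range.2 hl)
  exact Nat.eq_of_beq_eq_true h

theorem W_mem_Lx {i : ℕ} (hi : i < 11) : cert.W i ∈ Lx := by
  have h := List.all_eq_true.1 chk_W_x i (List.mem_range.2 hi)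
  simpa using h

theorem W_mem_words23 {i : ℕ} (h13 : 13 ≤ i) (hi : i < 115) : cert.W i ∈ words23 := by
  have h := List.all_eq_true.1 chk_W_pure (i - 13) (List.mem_range.2 (by omega))
  have e : 13 + (i - 13) = i := by omega
  rw [e] at h
  simpa using h

theorem wdG_W {i : ℕ} (hi : i < 115) : VCert.wd γG (cert.W i) = 1 := by
  rcases Nat.lt_or_ge i 11 with h | h
  · exact wdG_allrw (Lx_sub (W_mem_Lx h))
  · rcases Nat.lt_or_ge i 13 with h' | h'
    · have : i = 11 ∨ i = 12 := by omega
      rcases this with rfl | rfl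
      · rw [chk_W11]
        exact wdG_allrw zw0_mem
      · rw [chk_W12]
        exact wdG_allrw zw1_mem
    · exact wdG_pure (W_mem_words23 h' hi)

/-- the relations between the classes -/
def relL : List (List ℤ) :=
  [[(-1), (-1)],
    [0, (-3)]]

theorem chk_lam : ∀ j, j < 2 → ∀ l, l < 2 →
    (if l = j then (1 : ℤ) else 0) - ([1, (-1)] : List ℤ).getD j 0 * ([1, 0] : List ℤ).getD l 0 =
      dotL (([[0, 0],
    [(-1), 0]] : List (List ℤ)).getD j []) relL l := by
  decide +kernel

theorem chk_mu : ∀ l, l < 2 → (3 : ℤ) * ([1, 0] : List ℤ).getD l 0 = dotL [(-3), 1] relL l := by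
  decide +kernel

theorem chk_rel_0 : ∀ l, l < 2 → ((fld (cert.rhs 101) l : ℤ) - (fld 4296019969 l : ℤ)) = (relL.getD 0 []).getD l 0 := by
  decide +kernel

theorem chk_rel_1 : ∀ l, l < 2 → ((fld (cert.rhs 51) l : ℤ) - (fld 12888059904 l : ℤ)) = (relL.getD 1 []).getD l 0 := by
  decide +kernel

/-! ### the extension -/

section upper

variable {Γ : Type} [Group Γ] [Finite Γ] (σ : Γ →* Fi24') (hsurj : Function.Surjective σ)
  (hcen : σ.ker ≤ Subgroup.center Γ) (hder : σ.ker ≤ commutator Γ)
  (f : ℕ → Γ) (t : Γ) (hfM : ∀ x, x < 10 → f x ∈ Mt σ Q) (hf : ∀ x, x < 10 → σ (f x) = γG x)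
  (ht : σ t = xG)
  (hnorm : VCert.wd (gU f t) [10, 0, 10, 0, 10, 0] = VCert.wd (gU f t) [10, 1, 10, 1])

include hf ht in
omit [Finite Γ] in
theorem W_mem_ker {i : ℕ} (hi : i < 115) : VCert.wd (gU f t) (cert.W i) ∈ σ.ker :=
  wd_gU_mem_ker σ f t hf ht (wdG_W hi)

/-- the classes: the values of the two long words -/
noncomputable def zU (j : ℕ) : Subgroup.center Γ :=
  if h : j < 2 then ⟨VCert.wd (gU f t) (cert.W (11 + j)), hcen (W_mem_ker σ f t hf ht (by omega))⟩ else 1

omit [Finite Γ] in
theorem zU_val {j : ℕ} (hj : j < 2) : (zU σ hcen f t hf ht j : Γ) = VCert.wd (gU f t) (cert.W (11 + j)) := by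
  rw [zU, dif_pos hj]

omit [Finite Γ] in
theorem zU_mem_ker (j : ℕ) : (zU σ hcen f t hf ht j : Γ) ∈ σ.ker := by
  by_cases hj : j < 2
  · rw [zU_val σ hcen f t hf ht hj]
    exact W_mem_ker σ f t hf ht (by omega)
  · rw [zU, dif_neg hj]
    exact Subgroup.one_mem _

include hfM hsurj hnorm in
theorem hW0_U : ∀ i, i < cert.nW → cert.wT i = 0 →
    VCert.wd (gU f t) (cert.W i) = (cert.ek (zU σ hcen f t hf ht) i : Γ) := by
  intro i hi _
  have hi' : i < 115 := hi
  have hone : ∀ {i : ℕ}, i < 115 → (i < 11 ∨ 13 ≤ i) →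
      cert.ek (zU σ hcen f t hf ht) i = 1 := by
    intro i hi' hor
    rw [VCert.ek, cert.kap_one _ (by
      intro l hl
      have hl' : l < 2 := hl
      rw [rhs_fld hi' hl', if_neg (by omega)]
      show (((cert.W i).length * 2048 + 0 : ℕ) : ℤ) - ((cert.W i).length : ℤ) * ((2048 : ℕ) : ℤ) = 0
      push_cast
      ring)]
  rcases Nat.lt_or_ge i 11 with h11 | h11
  · rw [hone hi' (Or.inl h11)]
    exact Cfsg.Agent.Lib.Helper7.Fi24MP.wd_gU_Lx σ hsurj hcen f t hfM hf ht hnorm (W_mem_Lx h11)
  · rcases Nat.lt_or_ge i 13 with h13 | h13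
    · have hj : i - 11 < 2 := by omega
      rw [VCert.ek, cert.kap_unit _ (j := i - 11) hj (by
        intro l hl
        have hl' : l < 2 := hl
        rw [rhs_fld hi' hl']
        show (((cert.W i).length * 2048 + (if l + 11 = i then 1 else 0) : ℕ) : ℤ) -
          ((cert.W i).length : ℤ) * ((2048 : ℕ) : ℤ) = _
        push_cast
        have : (l + 11 = i) ↔ (l = i - 11) := by omega
        simp only [this]
        split_ifs <;> ring), zU_val σ hcen f t hf ht hj]
      have e : 11 + (i - 11) = i := by omega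
      rw [e]
    · rw [hone hi' (Or.inr h13)]
      exact wd_gU_pure σ f t hfM hf ht hsurj hcen _ (words23_lt (W_mem_words23 h13 hi'))
        (wdG_pure (W_mem_words23 h13 hi'))

include hfM hsurj hnorm in
/-- the relations between the classes -/
theorem rel_U : ∀ r ∈ relL, zprod (zU σ hcen f t hf ht) 2 (fun l => r.getD l 0) = 1 := by
  have key : ∀ {i v row : ℕ}, i < 115 → (cert.W i).length ≤ 255 →
      cert.scan 65535 (cert.W i) row 0 = some (row, v) →
      cert.ek (zU σ hcen f t hf ht) i = cert.kap (zU σ hcen f t hf ht) v (cert.W i).length := by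
    intro i v row hi hl h
    exact close_spec cert (γ := gU f t) (H := Mt σ Q) σ.ker (hKn_U σ)
      (fun j _ => zU_mem_ker σ hcen f t hf ht j) (hHK_U σ hsurj hcen)
      (by decide) (by decide)
      (gU_iv σ f t hfM hf hsurj hcen) (hsub_U σ f t hfM)
      (fun i hi => W_mem_ker σ f t hf ht hi)
      (hW0_U σ hsurj hcen f t hfM hf ht hnorm)
      cert_all cert_wall (le_refl _) hi hl (Nat.zero_le _) h
  intro r hr
  simp only [relL, List.mem_cons, List.not_mem_nil, or_false] at hr
  rcases hr with rfl | rfl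
  · exact cert.rel_of_close _ (key (i := 101) (by norm_num) (len_le (by norm_num)) close_0) _ chk_rel_0
  · exact cert.rel_of_close _ (key (i := 51) (by norm_num) (len_le (by norm_num)) close_1) _ chk_rel_1

include hfM hf ht hsurj hcen hnorm in
/-- **the value of the second long word is the inverse of the value of the first, of which the cube is trivial** -/
theorem zw_spec : VCert.wd (gU f t) zw1 = (VCert.wd (gU f t) zw0)⁻¹ ∧ VCert.wd (gU f t) zw0 ^ 3 = 1 := by
  obtain ⟨h1, h2⟩ := cyclic_of_relations (zU σ hcen f t hf ht) 2 relL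
    (rel_U σ hsurj hcen f t hfM hf ht hnorm) [1, 0] [1, (-1)] 3 [[0, 0],
    [(-1), 0]] [(-3), 1] chk_lam chk_mu
  have e0 : zprod (zU σ hcen f t hf ht) 2 (fun l => ([1, 0] : List ℤ).getD l 0) = zU σ hcen f t hf ht 0 := by
    rw [← zprod_single (zU σ hcen f t hf ht) 2 (by norm_num : 0 < 2)]
    apply zprod_congr
    intro l hl
    interval_cases l <;> rfl
  rw [e0] at h1 h2
  have h11 := h1 1 (by norm_num)
  have v0 : (zU σ hcen f t hf ht 0 : Γ) = VCert.wd (gU f t) zw0 := by
    rw [zU_val σ hcen f t hf ht (by norm_num : 0 < 2)]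
    show VCert.wd (gU f t) (cert.W 11) = _
    rw [chk_W11]
  have v1 : (zU σ hcen f t hf ht 1 : Γ) = VCert.wd (gU f t) zw1 := by
    rw [zU_val σ hcen f t hf ht (by norm_num : 1 < 2)]
    show VCert.wd (gU f t) (cert.W 12) = _
    rw [chk_W12]
  constructor
  · rw [← v0, ← v1, h11]
    show ((zU σ hcen f t hf ht 0 ^ (-1 : ℤ) : Subgroup.center Γ) : Γ) = _
    rw [zpow_neg, zpow_one]
    rfl
  · rw [← v0]
    have := congrArg (fun u : Subgroup.center Γ => (u : Γ)) h2
    simpa using this

end upper

end Cfsg.Agent.Lib.Helper7.Fi24MR
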