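import Mathlib
import Cfsg.Agent.Lib.Helper7.FocWa
import Cfsg.Agent.Lib.Helper7.FusionCentric

/-!
# Control of transfer by a positive characteristic functor, part B: transport of normalizer systems
-/

set_option autoImplicit false

namespace Cfsg.Agent.Lib.Helper7.FocW

open Cfsg Cfsg.FusionSystem Cfsg.Agent.Lib.Helper7 Cfsg.Agent.Lib.Helper7.GTF
  Cfsg.Agent.Lib.Helper7.BGH

variable {Ω : Type*} [Group Ω] {S : Subgroup Ω}

/-- transport along a good map `χ` of `N_S(V)` carrying `V` to `V'` -/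
theorem focN_le_of_transport [Finite S] (F : FusionSystem S) {V V' : Subgroup Ω} (hVS : V ≤ S)
    (χ : ↥(normalizerIn S V) →* Ω) (hχ : χ ∈ F.Hom (normalizerIn S V))
    (hχN : ∀ x, χ x ∈ normalizerIn S V')
    (hχV : (V.subgroupOf (normalizerIn S V)).map χ = V')
    (Φ : Subgroup Ω) (hgood : ∀ x : ↥(normalizerIn S V), (x : Ω)⁻¹ * χ x ∈ Φ)
    (hV' : focN F V' ≤ Φ) : focN F V ≤ Φ := by
  have hfinV : Finite ↥V := finite_of_le hVS
  have hVN : V ≤ normalizerIn S V := le_inf hVS Subgroup.le_normalizer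
  unfold focN
  rw [Subgroup.closure_le]
  rintro y ⟨P, φ, x, hφ, rfl⟩
  obtain ⟨hφF, hPN, hφN, ψ, hψ, hext, hmapV⟩ := hφ
  have hXN : P ⊔ V ≤ normalizerIn S V := sup_le hPN hVN
  -- `ψ` takes values in `N_S(V)`
  have hψN : ∀ u : ↥(P ⊔ V), ψ u ∈ normalizerIn S V := by
    intro u
    refine ⟨(F.le_of_mem hψ).2 u, ?_⟩
    apply mem_normalizer_of_conj_mem_finite
    intro v hv
    have hv' : v ∈ (V.subgroupOf (P ⊔ V)).map ψ := hmapV.ge hv
    obtain ⟨v₀, hv₀, rfl⟩ := hv'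
    have hv₀V : (v₀ : Ω) ∈ V := Subgroup.mem_subgroupOf.mp hv₀
    have hconj : (u : Ω) * (v₀ : Ω) * (u : Ω)⁻¹ ∈ V :=
      (Subgroup.mem_normalizer_iff.mp (hXN u.2).2 _).mp hv₀V
    have e : ψ u * ψ v₀ * (ψ u)⁻¹ = ψ (u * v₀ * u⁻¹) := by
      rw [map_mul, map_mul, map_inv]
    rw [e]
    exact hmapV.le ⟨u * v₀ * u⁻¹, Subgroup.mem_subgroupOf.mpr hconj, rfl⟩
  -- the two maps on `X = P ⊔ V`
  have hχX : χ.comp (Subgroup.inclusion hXN) ∈ F.Hom (P ⊔ V) := fs_restrict_mem F hXN hχ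
  have hlam : χ.comp (ψ.codRestrict (normalizerIn S V) hψN) ∈ F.Hom (P ⊔ V) :=
    F.comp_mem hψ hχ hψN
  obtain ⟨θ, hθ, hθe⟩ := exists_transport F hχX hlam
  -- `V' ≤ X'`
  have hV'X' : V' ≤ (χ.comp (Subgroup.inclusion hXN)).range := by
    intro y hy
    have hy' : y ∈ (V.subgroupOf (normalizerIn S V)).map χ := hχV.ge hy
    obtain ⟨v, hv, rfl⟩ := hy'
    have hvV : (v : Ω) ∈ V := Subgroup.mem_subgroupOf.mp hv
    exact ⟨⟨v, Subgroup.mem_sup_right hvV⟩, rfl⟩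
  have hX'N : (χ.comp (Subgroup.inclusion hXN)).range ≤ normalizerIn S V' := by
    rintro _ ⟨u, rfl⟩
    exact hχN _
  -- `θ` is a map of `N_F(V')`
  have hθN : θ ∈ F.normalizerHom V' (χ.comp (Subgroup.inclusion hXN)).range := by
    refine ⟨hθ, hX'N, ?_, ?_⟩
    · rintro ⟨_, u, rfl⟩
      rw [hθe u]
      exact hχN _
    · have hsup : (χ.comp (Subgroup.inclusion hXN)).range ⊔ V' =
          (χ.comp (Subgroup.inclusion hXN)).range := sup_eq_left.mpr hV'X'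
      refine ⟨_, fs_mem_of_eq F hsup hθ, fun x => rfl, ?_⟩
      ext y
      constructor
      · rintro ⟨s, hs, rfl⟩
        have hsV' : (s : Ω) ∈ V' := Subgroup.mem_subgroupOf.mp hs
        have hs' : (s : Ω) ∈ (V.subgroupOf (normalizerIn S V)).map χ := hχV.ge hsV'
        obtain ⟨v, hv, hvs⟩ := hs'
        have hvV : (v : Ω) ∈ V := Subgroup.mem_subgroupOf.mp hv
        have e1 : Subgroup.inclusion (le_of_eq hsup) s =
            ⟨(χ.comp (Subgroup.inclusion hXN)) ⟨v, Subgroup.mem_sup_right hvV⟩, ⟨_, rfl⟩⟩ := by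
          apply Subtype.ext
          show (s : Ω) = χ _
          rw [← hvs]
          rfl
        show θ (Subgroup.inclusion (le_of_eq hsup) s) ∈ V'
        rw [e1, hθe]
        have h2 : ψ ⟨v, Subgroup.mem_sup_right hvV⟩ ∈ V :=
          hmapV.le ⟨_, Subgroup.mem_subgroupOf.mpr hvV, rfl⟩
        exact hχV.le ⟨_, Subgroup.mem_subgroupOf.mpr h2, rfl⟩
      · intro hy
        have hy' : y ∈ (V.subgroupOf (normalizerIn S V)).map χ := hχV.ge hy
        obtain ⟨w, hw, rfl⟩ := hy'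
        have hwV : (w : Ω) ∈ V := Subgroup.mem_subgroupOf.mp hw
        have hw' : (w : Ω) ∈ (V.subgroupOf (P ⊔ V)).map ψ := hmapV.ge hwV
        obtain ⟨v₀, hv₀, hv₀w⟩ := hw'
        have hv₀V : (v₀ : Ω) ∈ V := Subgroup.mem_subgroupOf.mp hv₀
        have hmem : (χ.comp (Subgroup.inclusion hXN)) v₀ ∈ V' :=
          hχV.le ⟨Subgroup.inclusion hXN v₀, Subgroup.mem_subgroupOf.mpr hv₀V, rfl⟩
        refine ⟨⟨(χ.comp (Subgroup.inclusion hXN)) v₀, Subgroup.mem_sup_left ⟨v₀, rfl⟩⟩,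
          Subgroup.mem_subgroupOf.mpr hmem, ?_⟩
        have e1 : Subgroup.inclusion (le_of_eq hsup)
            (⟨(χ.comp (Subgroup.inclusion hXN)) v₀, Subgroup.mem_sup_left ⟨v₀, rfl⟩⟩ :
              ↥((χ.comp (Subgroup.inclusion hXN)).range ⊔ V')) =
            ⟨(χ.comp (Subgroup.inclusion hXN)) v₀, ⟨v₀, rfl⟩⟩ := Subtype.ext rfl
        show θ (Subgroup.inclusion (le_of_eq hsup) _) = χ w
        rw [e1, hθe]
        show χ ⟨ψ v₀, _⟩ = χ w
        congr 1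
        exact Subtype.ext hv₀w
  -- the generator
  set u : ↥(P ⊔ V) := ⟨x, Subgroup.mem_sup_left x.2⟩ with hu
  have hψu : ψ u = φ x := hext x
  have h1 := hV' (mem_focN F hθN ⟨(χ.comp (Subgroup.inclusion hXN)) u, ⟨u, rfl⟩⟩)
  rw [hθe u] at h1
  have h2 := hgood (Subgroup.inclusion hXN u)
  have h3 := Φ.inv_mem (hgood ⟨ψ u, hψN u⟩)
  have key : ∀ (a c d : Ω), d = φ x →
      (x : Ω)⁻¹ * φ x = ((x : Ω)⁻¹ * a) * (a⁻¹ * c) * (d⁻¹ * c)⁻¹ := by
    intro a c d hd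
    rw [hd]
    group
  have h4 : (x : Ω)⁻¹ * φ x =
      (((Subgroup.inclusion hXN u : ↥(normalizerIn S V)) : Ω)⁻¹ * χ (Subgroup.inclusion hXN u)) *
      ((χ (Subgroup.inclusion hXN u))⁻¹ * χ ⟨ψ u, hψN u⟩) *
      (((⟨ψ u, hψN u⟩ : ↥(normalizerIn S V)) : Ω)⁻¹ * χ ⟨ψ u, hψN u⟩)⁻¹ :=
    key _ _ _ hψu
  rw [SetLike.mem_coe, h4]
  exact Φ.mul_mem (Φ.mul_mem h2 h1) h3

end Cfsg.Agent.Lib.Helper7.FocW
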