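import Mathlib
import Cfsg.Prelude.Def_FusionSystem
import Cfsg.Prelude.Def_FusionComponents
import Cfsg.Agent.Lib.Helper7.FactorMorphism
import Cfsg.Agent.Lib.Helper7.FactorHyperfocal
import Cfsg.Agent.Lib.Helper7.QdFa

set_option autoImplicit false

/-!
# Factor systems and normalizer systems

`F` a fusion system over `S`, `S₀` strongly closed, `E` the factor system `F/S₀` through `θ`. Subgroups of `S'`
correspond to subgroups of `S` containing `S₀`; conjugacy, centricity, full normalization and the maps of the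
normalizer systems correspond.
-/

namespace Cfsg.Agent.Lib.Helper7.QdQ

open Cfsg Cfsg.FusionSystem Cfsg.Agent.Lib.Helper7

variable {Ω : Type*} [Group Ω] {S : Subgroup Ω} {Ω' : Type*} [Group Ω'] {S' : Subgroup Ω'}

theorem ker_le_preimage (θ : S →* Ω') (S₀ : Subgroup Ω) (h0 : S₀ ≤ S)
    (hker : ∀ s : S, θ s = 1 ↔ (s : Ω) ∈ S₀) (P' : Subgroup Ω') : S₀ ≤ preimageAlong θ P' := by
  intro x hx
  refine (mem_preimageAlong θ P' x).mpr ⟨h0 hx, ?_⟩
  rw [(hker ⟨x, h0 hx⟩).mpr hx]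
  exact P'.one_mem

/-- conjugate subgroups of the factor system have conjugate preimages -/
theorem isConj_preimage [Finite S] (F : FusionSystem S) (S₀ : Subgroup Ω) (hS₀ : F.StronglyClosed S₀)
    (θ : S →* Ω') (E : FusionSystem S') (hE : F.IsFactorSystem S₀ θ E) {R' R'' : Subgroup Ω'}
    (h : E.IsConj R' R'') : F.IsConj (preimageAlong θ R') (preimageAlong θ R'') := by
  obtain ⟨-, hker, hrange, hHom⟩ := hE
  obtain ⟨φ', hφ', hr⟩ := h
  obtain ⟨hR'S', φ, hφ, hP, hφS, hPP', hind⟩ := (hHom R' φ').mp hφ'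
  refine ⟨φ, hφ, ?_⟩
  have h0 : S₀ ≤ preimageAlong θ R' := ker_le_preimage θ S₀ hS₀.1 hker R'
  have h0r : S₀ ≤ φ.range := stronglyClosed_le_range F S₀ hS₀ hφ h0
  apply le_antisymm
  · rintro _ ⟨x, rfl⟩
    refine (mem_preimageAlong θ R'' _).mpr ⟨hφS x, ?_⟩
    rw [← hind x, ← hr]
    exact ⟨_, rfl⟩
  · intro y hy
    obtain ⟨hyS, hy'⟩ := (mem_preimageAlong θ R'' y).mp hy
    rw [← hr] at hy'
    obtain ⟨x', hx'⟩ := hy'
    obtain ⟨x, hx, hxx'⟩ := exists_preimage_of_mem θ S' hrange hR'S' x' x'.2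
    have h1 : θ ⟨φ ⟨x, hx⟩, hφS ⟨x, hx⟩⟩ = θ ⟨y, hyS⟩ := by
      rw [← hind ⟨x, hx⟩, ← hx']
      congr 1
      exact Subtype.ext hxx'
    have h2 : (φ ⟨x, hx⟩)⁻¹ * y ∈ S₀ := by
      have : θ ((⟨φ ⟨x, hx⟩, hφS ⟨x, hx⟩⟩ : S)⁻¹ * ⟨y, hyS⟩) = 1 := by
        rw [map_mul, map_inv, h1, inv_mul_cancel]
      exact (hker _).mp this
    obtain ⟨z, hz⟩ := h0r h2
    refine ⟨⟨x, hx⟩ * z, ?_⟩
    rw [map_mul, hz]; group

/-- conjugate subgroups have conjugate images in the factor system -/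
theorem isConj_image [Finite S] (p : ℕ) [Fact p.Prime] (hS : IsPGroup p S)
    (F : FusionSystem S) (hF : F.IsSaturated p) (S₀ : Subgroup Ω) (hS₀ : F.StronglyClosed S₀)
    (θ : S →* Ω') (E : FusionSystem S') (hE : F.IsFactorSystem S₀ θ E) {R R₁ : Subgroup Ω}
    (h : F.IsConj R R₁) : E.IsConj (imageAlong θ R) (imageAlong θ R₁) := by
  have hθ : ∀ s : S, θ s ∈ S' := fun s => hE.2.2.1 ▸ ⟨s, rfl⟩
  obtain ⟨φ, hφ, hr⟩ := h
  obtain ⟨-, φ', hφ', hP₁, hφS, hPP', hi⟩ := le_morSystem p hS F hF S₀ hS₀ θ E hE hθ R hφ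
  refine ⟨φ', hφ', ?_⟩
  apply le_antisymm
  · rintro _ ⟨y, rfl⟩
    obtain ⟨s, hs, hsy⟩ := (mem_imageAlong θ R y).mp y.2
    have hy : y = ⟨θ ⟨((⟨s, hs⟩ : R) : Ω), hP₁ hs⟩, hPP' ⟨s, hs⟩⟩ := Subtype.ext hsy.symm
    rw [hy, hi ⟨s, hs⟩]
    refine (mem_imageAlong θ R₁ _).mpr ⟨⟨φ ⟨s, hs⟩, hφS _⟩, ?_, rfl⟩
    rw [← hr]; exact ⟨_, rfl⟩
  · intro y hy
    obtain ⟨s, hs, hsy⟩ := (mem_imageAlong θ R₁ y).mp hy
    rw [← hr] at hs
    obtain ⟨x, hx⟩ := hs
    refine ⟨⟨θ ⟨x, hP₁ x.2⟩, hPP' x⟩, ?_⟩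
    rw [hi x, ← hsy]
    congr 1
    exact Subtype.ext hx

theorem finite_target [Finite S] (θ : S →* Ω') (hrange : θ.range = S') : Finite S' := by
  rw [← hrange]
  exact Finite.of_surjective θ.rangeRestrict θ.rangeRestrict_surjective

theorem normalizerIn_preimage [Finite S] (θ : S →* Ω') (hrange : θ.range = S') {R' : Subgroup Ω'}
    (hR' : R' ≤ S') : normalizerIn S (preimageAlong θ R') = preimageAlong θ (normalizerIn S' R') := by
  have hθ : ∀ s : S, θ s ∈ S' := fun s => hrange ▸ ⟨s, rfl⟩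
  have : Finite (preimageAlong θ R') := finite_of_le (preimageAlong_le θ R')
  have : Finite S' := finite_target θ hrange
  have : Finite R' := finite_of_le hR'
  ext x
  constructor
  · rintro ⟨hxS, hxN⟩
    refine (mem_preimageAlong θ _ x).mpr ⟨hxS, hθ _, ?_⟩
    apply mem_normalizer_of_conj_mem_finite
    intro r hr
    obtain ⟨y, hy, hyr⟩ := exists_preimage_of_mem θ S' hrange hR' r hr
    have h1 : x * y * x⁻¹ ∈ preimageAlong θ R' := (Subgroup.mem_normalizer_iff.mp hxN y).mp hy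
    obtain ⟨h2, h3⟩ := (mem_preimageAlong θ R' _).mp h1
    have e : θ ⟨x * y * x⁻¹, h2⟩ = θ ⟨x, hxS⟩ * r * (θ ⟨x, hxS⟩)⁻¹ := by
      rw [← hyr, ← map_inv, ← map_mul, ← map_mul]; rfl
    rw [← e]; exact h3
  · intro hx
    obtain ⟨hxS, hxS', hxN⟩ := (mem_preimageAlong θ _ x).mp hx
    refine ⟨hxS, ?_⟩
    apply mem_normalizer_of_conj_mem_finite
    intro y hy
    obtain ⟨hyS, hy'⟩ := (mem_preimageAlong θ R' y).mp hy
    have hS3 : x * y * x⁻¹ ∈ S := S.mul_mem (S.mul_mem hxS hyS) (S.inv_mem hxS)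
    refine (mem_preimageAlong θ R' _).mpr ⟨hS3, ?_⟩
    have e : θ ⟨x * y * x⁻¹, hS3⟩ = θ ⟨x, hxS⟩ * θ ⟨y, hyS⟩ * (θ ⟨x, hxS⟩)⁻¹ := by
      rw [← map_inv, ← map_mul, ← map_mul]; rfl
    rw [e]; exact (Subgroup.mem_normalizer_iff.mp hxN _).mp hy'

theorem card_preimageAlong [Finite S] (θ : S →* Ω') (S₀ : Subgroup Ω) (h0 : S₀ ≤ S)
    (hker : ∀ s : S, θ s = 1 ↔ (s : Ω) ∈ S₀) (hrange : θ.range = S') {P' : Subgroup Ω'} (hP' : P' ≤ S') :
    Nat.card (preimageAlong θ P') = Nat.card S₀ * Nat.card P' := by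
  obtain ⟨P, hPdef⟩ : ∃ P, P = preimageAlong θ P' := ⟨_, rfl⟩
  rw [← hPdef]
  have hP : P ≤ S := hPdef ▸ preimageAlong_le θ P'
  have hmem : ∀ x : P, θ ⟨x, hP x.2⟩ ∈ P' := fun x =>
    ((mem_preimageAlong θ P' _).mp (hPdef ▸ x.2)).2
  let f : P →* P' := (θ.comp (Subgroup.inclusion hP)).codRestrict P' hmem
  have hf : Function.Surjective f := by
    intro y
    obtain ⟨x, hx, hxy⟩ := exists_preimage_of_mem θ S' hrange hP' y y.2
    exact ⟨⟨x, hPdef ▸ hx⟩, Subtype.ext hxy⟩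
  have h0P : S₀ ≤ P := hPdef ▸ ker_le_preimage θ S₀ h0 hker P'
  have hk : f.ker = S₀.subgroupOf P := by
    ext x
    rw [MonoidHom.mem_ker, Subgroup.mem_subgroupOf, ← hker ⟨x, hP x.2⟩]
    constructor
    · intro h; exact congrArg Subtype.val h
    · intro h; exact Subtype.ext h
  have h1 := Subgroup.card_eq_card_quotient_mul_card_subgroup f.ker
  have h2 : Nat.card (P ⧸ f.ker) = Nat.card P' :=
    Nat.card_congr (QuotientGroup.quotientKerEquivOfSurjective f hf).toEquiv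
  have h3 : Nat.card f.ker = Nat.card S₀ := by
    rw [hk]
    exact Nat.card_congr (Subgroup.subgroupOfEquivOfLe h0P).toEquiv
  rw [h1, h2, h3, mul_comm]

/-- the preimage of a centric subgroup of the factor system is centric -/
theorem isCentric_preimage [Finite S] (p : ℕ) [Fact p.Prime] (hS : IsPGroup p S)
    (F : FusionSystem S) (hF : F.IsSaturated p) (S₀ : Subgroup Ω) (hS₀ : F.StronglyClosed S₀)
    (θ : S →* Ω') (E : FusionSystem S') (hE : F.IsFactorSystem S₀ θ E) {R' : Subgroup Ω'}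
    (hR' : E.IsCentric R') : F.IsCentric (preimageAlong θ R') := by
  have hker := hE.2.1
  have hrange := hE.2.2.1
  have hθ : ∀ s : S, θ s ∈ S' := fun s => hrange ▸ ⟨s, rfl⟩
  refine ⟨preimageAlong_le θ R', fun R₁ hconj => ?_⟩
  have h1 := isConj_image p hS F hF S₀ hS₀ θ E hE hconj
  rw [image_preimage_eq θ (hrange ▸ hR'.1)] at h1
  have h2 := hR'.2 _ h1
  obtain ⟨φ, hφ, hr⟩ := hconj
  have h0 : S₀ ≤ R₁ := hr ▸ stronglyClosed_le_range F S₀ hS₀ hφ (ker_le_preimage θ S₀ hS₀.1 hker R')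
  have hR₁S : R₁ ≤ S := by
    rw [← hr]
    rintro _ ⟨x, rfl⟩
    exact (F.le_of_mem hφ).2 x
  intro x hx
  obtain ⟨hxS, hxC⟩ := hx
  have h3 : θ ⟨x, hxS⟩ ∈ centralizerIn S' (imageAlong θ R₁) := by
    refine ⟨hθ _, ?_⟩
    show θ ⟨x, hxS⟩ ∈ Subgroup.centralizer ((imageAlong θ R₁ : Subgroup Ω') : Set Ω')
    rw [Subgroup.mem_centralizer_iff]
    intro y hy
    obtain ⟨s, hs, rfl⟩ := (mem_imageAlong θ R₁ y).mp hy
    rw [← map_mul, ← map_mul]
    congr 1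
    apply Subtype.ext
    exact Subgroup.mem_centralizer_iff.mp hxC s hs
  have h4 := h2 h3
  rw [← preimage_image_eq θ S₀ hker hR₁S h0]
  exact (mem_preimageAlong θ _ x).mpr ⟨hxS, h4⟩

/-- the preimage of a fully normalized subgroup of the factor system is fully normalized -/
theorem isFullyNormalized_preimage [Finite S] (p : ℕ) [Fact p.Prime] (hS : IsPGroup p S)
    (F : FusionSystem S) (hF : F.IsSaturated p) (S₀ : Subgroup Ω) (hS₀ : F.StronglyClosed S₀)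
    (θ : S →* Ω') (E : FusionSystem S') (hE : F.IsFactorSystem S₀ θ E) {R' : Subgroup Ω'}
    (hR' : E.IsFullyNormalized R') : F.IsFullyNormalized (preimageAlong θ R') := by
  have hker := hE.2.1
  have hrange := hE.2.2.1
  have hθ : ∀ s : S, θ s ∈ S' := fun s => hrange ▸ ⟨s, rfl⟩
  refine ⟨preimageAlong_le θ R', fun R₁ hconj => ?_⟩
  have h1 := isConj_image p hS F hF S₀ hS₀ θ E hE hconj
  rw [image_preimage_eq θ (hrange ▸ hR'.1)] at h1
  have h2 := hR'.2 _ h1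
  obtain ⟨φ, hφ, hr⟩ := hconj
  have h0 : S₀ ≤ R₁ := hr ▸ stronglyClosed_le_range F S₀ hS₀ hφ (ker_le_preimage θ S₀ hS₀.1 hker R')
  have hR₁S : R₁ ≤ S := by
    rw [← hr]
    rintro _ ⟨x, rfl⟩
    exact (F.le_of_mem hφ).2 x
  have e1 : R₁ = preimageAlong θ (imageAlong θ R₁) := (preimage_image_eq θ S₀ hker hR₁S h0).symm
  have hnle : ∀ X : Subgroup Ω', normalizerIn S' X ≤ S' := fun X => inf_le_left
  rw [e1, normalizerIn_preimage θ hrange (imageAlong_le θ hθ R₁), normalizerIn_preimage θ hrange hR'.1,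
    card_preimageAlong θ S₀ hS₀.1 hker hrange (hnle (imageAlong θ R₁)),
    card_preimageAlong θ S₀ hS₀.1 hker hrange (hnle R')]
  exact Nat.mul_le_mul_left _ h2

theorem imageAlong_sup (θ : S →* Ω') {A B : Subgroup Ω} (hA : A ≤ S) (hB : B ≤ S) :
    imageAlong θ (A ⊔ B) = imageAlong θ A ⊔ imageAlong θ B := by
  unfold imageAlong
  rw [Subgroup.subgroupOf_sup hA hB, Subgroup.map_sup]

theorem self_le_normalizerIn {X T : Subgroup Ω'} (h : X ≤ T) : X ≤ normalizerIn T X :=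
  le_inf h Subgroup.le_normalizer

/-- maps of the normalizer system of `R'` in the factor system lift to maps of the normalizer system of the preimage
of `R'` -/
theorem exists_lift_of_normalizerHom [Finite S] (F : FusionSystem S) (S₀ : Subgroup Ω)
    (θ : S →* Ω') (E : FusionSystem S') (hE : F.IsFactorSystem S₀ θ E) {R' : Subgroup Ω'} (hR' : R' ≤ S')
    {P' : Subgroup Ω'} {φ' : P' →* Ω'} (h : φ' ∈ E.normalizerHom R' P') :
    ∃ (P₁ : Subgroup Ω) (ψ : P₁ →* Ω), ψ ∈ F.normalizerHom (preimageAlong θ R') P₁ ∧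
      ∀ x' : P', ∃ (x : P₁) (hx : (x : Ω) ∈ S) (hψ : ψ x ∈ S),
        θ ⟨x, hx⟩ = x' ∧ θ ⟨ψ x, hψ⟩ = φ' x' := by
  obtain ⟨-, hker, hrange, hHom⟩ := hE
  have : Finite S' := finite_target θ hrange
  have hfinR' : Finite R' := finite_of_le hR'
  obtain ⟨hφ', hP'N, hφ'N, ψ', hψ', hext, hmap⟩ := h
  obtain ⟨hle, ψ, hψ, hP, hψS, hPP', hind⟩ := (hHom (P' ⊔ R') ψ').mp hψ'
  have hsupN : P' ⊔ R' ≤ normalizerIn S' R' := sup_le hP'N (self_le_normalizerIn hR')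
  -- values of `ψ'` normalize `R'`
  have hψ'N : ∀ y : (P' ⊔ R' : Subgroup Ω'), ψ' y ∈ normalizerIn S' R' := by
    intro y
    refine ⟨(E.le_of_mem hψ').2 y, ?_⟩
    apply mem_normalizer_of_conj_mem_finite
    intro r' hr'
    obtain ⟨r'', hr'', rfl⟩ := hmap.ge hr'
    rw [← map_inv, ← map_mul, ← map_mul]
    refine hmap.le ⟨y * r'' * y⁻¹, ?_, rfl⟩
    have hr2 : (r'' : Ω') ∈ R' := Subgroup.mem_subgroupOf.mp hr''
    exact Subgroup.mem_subgroupOf.mpr ((Subgroup.mem_normalizer_iff.mp (hsupN y.2).2 _).mp hr2)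
  have hRP₁ : preimageAlong θ R' ≤ preimageAlong θ (P' ⊔ R') := preimageAlong_mono θ le_sup_right
  have hP₁N : preimageAlong θ (P' ⊔ R') ≤ normalizerIn S (preimageAlong θ R') := by
    rw [normalizerIn_preimage θ hrange hR']
    exact preimageAlong_mono θ hsupN
  refine ⟨preimageAlong θ (P' ⊔ R'), ψ,
    Cfsg.Agent.Lib.Helper7.QdF.mem_normalizerHom_of_le F hRP₁ hP₁N hψ ?_ ?_, ?_⟩
  · intro x
    rw [normalizerIn_preimage θ hrange hR']
    refine (mem_preimageAlong θ _ _).mpr ⟨hψS x, ?_⟩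
    rw [← hind x]
    exact hψ'N _
  · intro x hx
    refine (mem_preimageAlong θ _ _).mpr ⟨hψS x, ?_⟩
    rw [← hind x]
    refine hmap.le ⟨_, ?_, rfl⟩
    exact Subgroup.mem_subgroupOf.mpr ((mem_preimageAlong θ R' _).mp hx).2
  · intro x'
    obtain ⟨x, hx, hxx'⟩ := exists_preimage_of_mem θ S' hrange hle (x' : Ω')
      ((le_sup_left : P' ≤ P' ⊔ R') x'.2)
    refine ⟨⟨x, hx⟩, hP hx, hψS _, hxx', ?_⟩
    rw [← hind ⟨x, hx⟩, ← hext x']
    congr 1
    exact Subtype.ext hxx'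

/-- maps of the normalizer system of the preimage of `R'` induce maps of the normalizer system of `R'` in the factor
system -/
theorem normalizerHom_of_induced [Finite S] (p : ℕ) [Fact p.Prime] (hS : IsPGroup p S)
    (F : FusionSystem S) (hF : F.IsSaturated p) (S₀ : Subgroup Ω) (hS₀ : F.StronglyClosed S₀)
    (θ : S →* Ω') (E : FusionSystem S') (hE : F.IsFactorSystem S₀ θ E) {R' : Subgroup Ω'} (hR' : R' ≤ S')
    {P' : Subgroup Ω'} (hP' : P' ≤ S') {φ : preimageAlong θ P' →* Ω}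
    (hφN : φ ∈ F.normalizerHom (preimageAlong θ R') (preimageAlong θ P')) {φ' : P' →* Ω'}
    (hind : InducedAlong θ φ φ') : φ' ∈ E.normalizerHom R' P' := by
  have hθ : ∀ s : S, θ s ∈ S' := fun s => hE.2.2.1 ▸ ⟨s, rfl⟩
  have hker := hE.2.1
  have hrange := hE.2.2.1
  have hHom := hE.2.2.2
  obtain ⟨hφ, hPN, hφN', ψ, hψ, hext, hmap⟩ := hφN
  obtain ⟨hP, hφS, hPP', hi⟩ := hind
  rw [normalizerIn_preimage θ hrange hR'] at hPN hφN'
  have hPS := preimageAlong_le θ P'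
  have hRS := preimageAlong_le θ R'
  have key : ∀ (x' : P'), ∃ x : preimageAlong θ P', θ ⟨x, hP x.2⟩ = x' ∧ θ ⟨φ x, hφS x⟩ = φ' x' := by
    intro x'
    obtain ⟨x, hx, hxx'⟩ := exists_preimage_of_mem θ S' hrange hP' (x' : Ω') x'.2
    refine ⟨⟨x, hx⟩, hxx', ?_⟩
    rw [← hi ⟨x, hx⟩]
    congr 1
    exact Subtype.ext hxx'
  refine ⟨(hHom P' φ').mpr ⟨hP', φ, hφ, hP, hφS, hPP', hi⟩, ?_, ?_, ?_⟩
  · intro x' hx'
    obtain ⟨x, hx1, -⟩ := key ⟨x', hx'⟩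
    have := ((mem_preimageAlong θ _ _).mp (hPN x.2)).2
    have hx1' : θ ⟨x, hP x.2⟩ = x' := hx1
    rw [← hx1']
    exact this
  · intro x'
    obtain ⟨x, -, hx2⟩ := key x'
    rw [← hx2]
    exact ((mem_preimageAlong θ _ _).mp (hφN' x)).2
  · obtain ⟨-, ψ₀, hψ₀, hP₁, hψS, hPP₁, hi₁⟩ := le_morSystem p hS F hF S₀ hS₀ θ E hE hθ _ hψ
    have hsup : P' ⊔ R' = imageAlong θ (preimageAlong θ P' ⊔ preimageAlong θ R') := by
      rw [imageAlong_sup θ hPS hRS, image_preimage_eq θ (hrange ▸ hP'), image_preimage_eq θ (hrange ▸ hR')]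
    refine ⟨ψ₀.comp (Subgroup.inclusion (le_of_eq hsup)), fs_mem_of_eq E hsup hψ₀, ?_, ?_⟩
    · intro x'
      obtain ⟨x, hx1, hx2⟩ := key x'
      rw [← hx2]
      have e := hi₁ (Subgroup.inclusion le_sup_left x)
      have e2 : (⟨ψ (Subgroup.inclusion le_sup_left x), hψS _⟩ : S) = ⟨φ x, hφS x⟩ :=
        Subtype.ext (hext x)
      rw [← e2, ← e]
      show ψ₀ _ = ψ₀ _
      congr 1
      exact Subtype.ext hx1.symm
    · apply le_antisymm
      · rintro _ ⟨z, hz0, rfl⟩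
        have hz : (z : Ω') ∈ R' := Subgroup.mem_subgroupOf.mp hz0
        obtain ⟨r, hr, hrz⟩ := exists_preimage_of_mem θ S' hrange hR' (z : Ω') hz
        have hr' : r ∈ preimageAlong θ P' ⊔ preimageAlong θ R' :=
          (le_sup_right : preimageAlong θ R' ≤ preimageAlong θ P' ⊔ preimageAlong θ R') hr
        have e : (ψ₀.comp (Subgroup.inclusion (le_of_eq hsup))) z = θ ⟨ψ ⟨r, hr'⟩, hψS _⟩ := by
          rw [← hi₁ ⟨r, hr'⟩]
          show ψ₀ _ = ψ₀ _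
          congr 1
          exact Subtype.ext hrz.symm
        rw [e]
        have h1 : ψ ⟨r, hr'⟩ ∈ preimageAlong θ R' :=
          hmap.le ⟨⟨r, hr'⟩, Subgroup.mem_subgroupOf.mpr hr, rfl⟩
        exact ((mem_preimageAlong θ R' _).mp h1).2
      · intro r' hr'
        obtain ⟨r, hr, hrr'⟩ := exists_preimage_of_mem θ S' hrange hR' r' hr'
        obtain ⟨r₁, hr₁0, hr₁r⟩ := hmap.ge hr
        have hr₁ : (r₁ : Ω) ∈ preimageAlong θ R' := Subgroup.mem_subgroupOf.mp hr₁0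
        have hθr₁ : θ ⟨r₁, hP₁ r₁.2⟩ ∈ R' := ((mem_preimageAlong θ R' _).mp hr₁).2
        refine ⟨⟨θ ⟨r₁, hP₁ r₁.2⟩, (le_sup_right : R' ≤ P' ⊔ R') hθr₁⟩, Subgroup.mem_subgroupOf.mpr hθr₁, ?_⟩
        rw [← hrr']
        have e2 : (ψ₀.comp (Subgroup.inclusion (le_of_eq hsup)))
            ⟨θ ⟨r₁, hP₁ r₁.2⟩, (le_sup_right : R' ≤ P' ⊔ R') hθr₁⟩ = θ ⟨ψ r₁, hψS r₁⟩ := by
          rw [← hi₁ r₁]
          rfl
        rw [e2]
        congr 1
        exact Subtype.ext hr₁r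

end Cfsg.Agent.Lib.Helper7.QdQ
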