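import Mathlib
import Cfsg.Prelude.Def_FusionSystem
import Cfsg.Prelude.Def_FusionComponents
import Cfsg.Agent.Lib.Helper7.FocWd
import Cfsg.Agent.Lib.Helper7.QdQa
import Cfsg.Agent.Lib.Helper7.GTFc
import Cfsg.Agent.Lib.Helper7.GTFd
import Cfsg.Agent.Lib.Helper7.FactorSystem
import Cfsg.Agent.Lib.Helper7.FactorMorphism
import Cfsg.Agent.Lib.Helper7.FactorSaturated
import Cfsg.Agent.Lib.Helper7.KNormalizerSat2

/-!
# Control of transfer by a positive characteristic functor, part E: induction steps (normalizers, quotients)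
-/

set_option autoImplicit false

namespace Cfsg.Agent.Lib.Helper7.FocW

open Cfsg Cfsg.FusionSystem Cfsg.Agent.Lib.Helper7 Cfsg.Agent.Lib.Helper7.ModelUq
  Cfsg.Agent.Lib.Helper7.WCtl Cfsg.Agent.Lib.Helper7.GTF Cfsg.Agent.Lib.Helper7.ZJK
  Cfsg.Agent.Lib.Helper7.QdQ
open scoped commutatorElement

universe u

/-- the statement of the theorem for the system `F` -/
def Thm (p : ℕ) (W : ∀ (Q : Type u) [Group Q], Subgroup Q) {Ω : Type u} [Group Ω] {S : Subgroup Ω}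
    (F : FusionSystem S) : Prop :=
  F.IsSaturated p → F.focalSubgroup ≤ focN F (WT W S)

variable {p : ℕ} [Fact p.Prime] (W : ∀ (Q : Type u) [Group Q], Subgroup Q)
  (hW1 : ∀ (Q : Type u) [Group Q] [Finite Q], IsPGroup p Q → Nontrivial Q → W Q ≠ ⊥)
  (hW2 : ∀ (Q R : Type u) [Group Q] [Group R] [Finite Q], IsPGroup p Q → ∀ φ : Q ≃* R,
    (W Q).map φ.toMonoidHom = W R)

variable {Ω : Type u} [Group Ω] {S : Subgroup Ω}

/-- the normalizer system of a subgroup that is not normal in `F` is controlled, by induction -/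
theorem focN_le_of_ih [Finite S] (hS : IsPGroup p S)
    (F : FusionSystem S) (hF : F.IsSaturated p)
    (ih1 : ∀ (Ω' : Type u) [Group Ω'] (S' : Subgroup Ω') [Finite S'] (F' : FusionSystem S'),
      Nat.card S' < Nat.card S → IsPGroup p S' → Thm p W F')
    (ih2 : ∀ (T : Subgroup Ω) [Finite T] (N : FusionSystem T),
      Nat.card T = Nat.card S → mu N < mu F → IsPGroup p T → Thm p W N)
    {Q : Subgroup Ω} (hQfn : F.IsFullyNormalized Q) (hQn : ¬ F.IsNormal Q) :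
    focN F Q ≤ focN F (WT W (normalizerIn S Q)) := by
  have hQS : Q ≤ S := hQfn.1
  have hTS : normalizerIn S Q ≤ S := inf_le_left
  haveI : Finite ↥(normalizerIn S Q) := finite_of_le hTS
  have hTp : IsPGroup p ↥(normalizerIn S Q) := hS.to_le hTS
  obtain ⟨N, hN⟩ := exists_normalizerSystem F Q hQS
  have hNsat := normalizerSystem_isSaturated p hS F hF Q hQfn N hN
  have hNF : ∀ (P : Subgroup Ω) (φ : P →* Ω), φ ∈ N.Hom P → φ ∈ F.Hom P := by
    intro P φ h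
    rw [hN P] at h
    exact h.1
  have hThm : Thm p W N := by
    by_cases hlt : Nat.card ↥(normalizerIn S Q) < Nat.card S
    · exact ih1 Ω _ N hlt hTp
    · have hcard : Nat.card ↥(normalizerIn S Q) = Nat.card S :=
        le_antisymm (Subgroup.card_le_of_le hTS) (not_lt.mp hlt)
      have hex : ∃ (P : Subgroup Ω) (φ : P →* Ω), φ ∈ F.Hom P ∧ φ ∉ F.normalizerHom Q P := by
        by_contra hcon
        apply hQn
        apply isNormal_of_forall_mem F hQS
        intro P φ hφ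
        by_contra h1
        exact hcon ⟨P, φ, hφ, h1⟩
      obtain ⟨P, φ, hφ, hφn⟩ := hex
      have hmu : mu N < mu F := mu_lt F N hNF hφ (by rw [hN P]; exact hφn)
      exact ih2 _ N hcard hmu hTp
  have h1 := hThm hNsat
  rw [focalSubgroup_normalizerSystem F N hN] at h1
  exact h1.trans (focN_mono F N hTS hNF _)

include hW1 hW2 in
/-- modulo a nontrivial normal subgroup `Q` containing every normal subgroup, the focal subgroup of `F` is
that of `N_F(W(S))` -/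
theorem focal_mod_normal_of_ih [Finite S] (hS : IsPGroup p S)
    (F : FusionSystem S) (hF : F.IsSaturated p)
    (ih1 : ∀ (Ω' : Type u) [Group Ω'] (S' : Subgroup Ω') [Finite S'] (F' : FusionSystem S'),
      Nat.card S' < Nat.card S → IsPGroup p S' → Thm p W F')
    (ih2 : ∀ (T : Subgroup Ω) [Finite T] (N : FusionSystem T),
      Nat.card T = Nat.card S → mu N < mu F → IsPGroup p T → Thm p W N)
    {Q : Subgroup Ω} (hQ : F.IsNormal Q) (hQne : Q ≠ ⊥)
    (hmax : ∀ R : Subgroup Ω, F.IsNormal R → R ≤ Q) :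
    ∀ y ∈ F.focalSubgroup, ∃ f ∈ focN F (WT W S), f⁻¹ * y ∈ Q := by
  have hQS : Q ≤ S := hQ.1
  have hSQ : S ≤ Subgroup.normalizer (Q : Set Ω) := le_normalizer_of_isNormal F hQ
  have hQsc := stronglyClosed_of_isNormal F hQ
  have hfocS : F.focalSubgroup ≤ S := by
    unfold focalSubgroup
    rw [Subgroup.closure_le]
    rintro y ⟨P, φ, x, hφ, rfl⟩
    exact S.mul_mem (S.inv_mem ((F.le_of_mem hφ).1 x.2)) ((F.le_of_mem hφ).2 x)
  by_cases hSleQ : S ≤ Q
  · intro y hy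
    exact ⟨1, Subgroup.one_mem _, by simpa using hSleQ (hfocS hy)⟩
  haveI hQ₀n : (Q.subgroupOf S).Normal :=
    (Subgroup.normal_subgroupOf_iff_le_normalizer hQS).mpr hSQ
  obtain ⟨E', hE'⟩ := exists_factorSystem_quotient F Q hQsc
  have hE'sat := isSaturated_of_isFactorSystem p hS F hF Q hQsc _ E' hE'
  have hS'p : IsPGroup p ↥(⊤ : Subgroup (↥S ⧸ Q.subgroupOf S)) :=
    (hS.to_quotient (Q.subgroupOf S)).to_subgroup ⊤
  have hQcard : 1 < Nat.card ↥(Q.subgroupOf S) := by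
    rw [Nat.card_congr (Subgroup.subgroupOfEquivOfLe hQS).toEquiv]
    haveI : Finite ↥Q := finite_of_le hQS
    exact (Subgroup.one_lt_card_iff_ne_bot (H := Q)).mpr hQne
  have hlt : Nat.card ↥(⊤ : Subgroup (↥S ⧸ Q.subgroupOf S)) < Nat.card S := by
    rw [Subgroup.card_top, Subgroup.card_eq_card_quotient_mul_card_subgroup (Q.subgroupOf S)]
    have hpos : 0 < Nat.card (↥S ⧸ Q.subgroupOf S) := Nat.card_pos
    nlinarith
  have hThm := ih1 (↥S ⧸ Q.subgroupOf S) ⊤ E' hlt hS'p hE'sat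
  obtain ⟨θ, hθdef⟩ : ∃ θ : ↥S →* (↥S ⧸ Q.subgroupOf S), θ = QuotientGroup.mk' (Q.subgroupOf S) :=
    ⟨_, rfl⟩
  rw [← hθdef] at hE'
  have hker := hE'.2.1
  have hθ : ∀ s : S, θ s ∈ (⊤ : Subgroup (↥S ⧸ Q.subgroupOf S)) := fun s => Subgroup.mem_top _
  -- the preimage of `W(S/Q)`
  obtain ⟨U, hUdef⟩ : ∃ U : Subgroup Ω,
      U = preimageAlong θ (WT W (⊤ : Subgroup (↥S ⧸ Q.subgroupOf S))) := ⟨_, rfl⟩
  have hUS : U ≤ S := hUdef ▸ preimageAlong_le θ _
  have hne : (⊤ : Subgroup (↥S ⧸ Q.subgroupOf S)) ≠ ⊥ := by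
    intro h
    apply hSleQ
    intro s hs
    have h1 : θ ⟨s, hs⟩ ∈ (⊤ : Subgroup (↥S ⧸ Q.subgroupOf S)) := Subgroup.mem_top _
    rw [h, Subgroup.mem_bot] at h1
    exact (hker _).mp h1
  have hWne := WT_ne_bot W hW1 hS'p hne
  have hSU : S ≤ Subgroup.normalizer (U : Set Ω) := by
    intro y hy
    rw [hUdef]
    apply mem_normalizer_preimage θ hy
    exact le_normalizer_WT' W hW2 hS'p (Subgroup.mem_top _)
  have hUn : ¬ F.IsNormal U := by
    intro h
    apply hWne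
    rw [eq_bot_iff]
    intro u' hu'
    obtain ⟨s, rfl⟩ := QuotientGroup.mk'_surjective (Q.subgroupOf S) u'
    rw [← hθdef] at hu' ⊢
    have hs : (s : Ω) ∈ U := by
      rw [hUdef]
      exact (mem_preimageAlong _ _ _).mpr ⟨s.2, hu'⟩
    rw [Subgroup.mem_bot]
    exact (hker s).mpr (hmax U h hs)
  have hUfn : F.IsFullyNormalized U := MaxClass.isFullyNormalized_of_normalizer F hUS hSU
  have hTU : normalizerIn S U = S := inf_eq_left.mpr hSU
  have hK1 := focN_le_of_ih W hS F hF ih1 ih2 hUfn hUn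
  rw [WT_congr W hTU] at hK1
  -- the focal subgroup of the factor system
  have h1 : focN E' (WT W (⊤ : Subgroup (↥S ⧸ Q.subgroupOf S))) ≤ imageAlong θ (focN F U) := by
    unfold focN
    rw [Subgroup.closure_le]
    rintro y' ⟨P', φ', x', hφ', rfl⟩
    obtain ⟨P₁, ψ, hψ, hlift⟩ := exists_lift_of_normalizerHom F Q θ E' hE' (WT_le W _) hφ'
    obtain ⟨x, hx, hψx, h2, h3⟩ := hlift x'
    rw [SetLike.mem_coe, mem_imageAlong]
    refine ⟨⟨(x : Ω)⁻¹ * ψ x, S.mul_mem (S.inv_mem hx) hψx⟩, ?_, ?_⟩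
    · rw [← hUdef] at hψ
      exact mem_focN F hψ x
    · have e : (⟨(x : Ω)⁻¹ * ψ x, S.mul_mem (S.inv_mem hx) hψx⟩ : ↥S) =
          (⟨x, hx⟩ : ↥S)⁻¹ * ⟨ψ x, hψx⟩ := rfl
      rw [e, map_mul, map_inv, h2, h3]
  have h2 : ∀ y ∈ F.focalSubgroup, ∃ hy : y ∈ S, θ ⟨y, hy⟩ ∈ E'.focalSubgroup := by
    intro y hy
    refine ⟨hfocS hy, ?_⟩
    have hle : F.focalSubgroup ≤ preimageAlong θ E'.focalSubgroup := by
      unfold focalSubgroup
      rw [Subgroup.closure_le]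
      rintro y ⟨P, φ, x, hφ, rfl⟩
      obtain ⟨-, φ', hφ', hP, hφS, hPP', hind⟩ := le_morSystem p hS F hF Q hQsc θ E' hE' hθ P hφ
      rw [SetLike.mem_coe, mem_preimageAlong]
      refine ⟨S.mul_mem (S.inv_mem (hP x.2)) (hφS x), ?_⟩
      have e : (⟨(x : Ω)⁻¹ * φ x, S.mul_mem (S.inv_mem (hP x.2)) (hφS x)⟩ : ↥S) =
          (⟨x, hP x.2⟩ : ↥S)⁻¹ * ⟨φ x, hφS x⟩ := rfl
      rw [e, map_mul, map_inv, ← hind x]
      exact Subgroup.subset_closure ⟨_, φ', ⟨θ ⟨x, hP x.2⟩, hPP' x⟩, hφ', rfl⟩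
    obtain ⟨hy', h⟩ := (mem_preimageAlong _ _ _).mp (hle hy)
    exact h
  intro y hy
  obtain ⟨hyS, hy'⟩ := h2 y hy
  have h3 := h1 (hThm hy')
  obtain ⟨f, hf, hfy⟩ := (mem_imageAlong θ _ _).mp h3
  refine ⟨f, hK1 hf, ?_⟩
  have h4 : θ (f⁻¹ * ⟨y, hyS⟩) = 1 := by
    rw [map_mul, map_inv, hfy, inv_mul_cancel]
  exact (hker _).mp h4

end Cfsg.Agent.Lib.Helper7.FocW
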