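import Mathlib
import Cfsg.Prelude.Def_FusionSystem
import Cfsg.Prelude.Def_FusionComponents
import Cfsg.Agent.Lib.Helper7.FocWe
import Cfsg.Agent.Lib.Helper7.FocWb
import Cfsg.Agent.Lib.Helper7.FusionSat4
import Cfsg.Agent.Lib.Helper7.GTFb
import Cfsg.Agent.Lib.Helper7.GTFc
import Cfsg.Agent.Lib.Helper7.FusionCore
import Cfsg.Agent.Lib.Helper7.Alperin3

/-!
# Control of transfer by a positive characteristic functor, part F: the theorem

For a positive characteristic `p`-functor `W` satisfying the local transfer condition, and a saturated fusion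
system `F` over `S`, the focal subgroup of `N_F(W(S))` is the focal subgroup of `F`.
-/

set_option autoImplicit false
set_option linter.unusedSectionVars false

namespace Cfsg.Agent.Lib.Helper7.FocW

open Cfsg Cfsg.FusionSystem Cfsg.Agent.Lib.Helper7 Cfsg.Agent.Lib.Helper7.ModelUq
  Cfsg.Agent.Lib.Helper7.WCtl Cfsg.Agent.Lib.Helper7.GTF Cfsg.Agent.Lib.Helper7.ZJK
  Cfsg.Agent.Lib.Helper7.QdQ
open scoped commutatorElement

universe u

variable {p : ℕ} [Fact p.Prime] (W : ∀ (Q : Type u) [Group Q], Subgroup Q)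
  (hW1 : ∀ (Q : Type u) [Group Q] [Finite Q], IsPGroup p Q → Nontrivial Q → W Q ≠ ⊥)
  (hW2 : ∀ (Q R : Type u) [Group Q] [Group R] [Finite Q], IsPGroup p Q → ∀ φ : Q ≃* R,
    (W Q).map φ.toMonoidHom = W R)
  (hT : ∀ (G : Type u) [Group G] [Finite G] (P : Sylow p G),
    Subgroup.centralizer ((Cfsg.pCore p G : Subgroup G) : Set G) ≤ Cfsg.pCore p G →
    Cfsg.pCore p G ⊓ commutator G = Cfsg.pCore p G ⊓
      (commutator ↥(Subgroup.normalizer
        (((W ↥(P : Subgroup G)).map (P : Subgroup G).subtype : Subgroup G) : Set G))).map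
        (Subgroup.normalizer
          (((W ↥(P : Subgroup G)).map (P : Subgroup G).subtype : Subgroup G) : Set G)).subtype)

section climbing

variable {Ω : Type u} [Group Ω] {S : Subgroup Ω}

include hW1 hW2 hT in
/-- the climbing induction, when `F` has no nontrivial normal subgroup -/
theorem climb [Finite S] (hS : IsPGroup p S) (F : FusionSystem S) (hF : F.IsSaturated p)
    (ih1 : ∀ (Ω' : Type u) [Group Ω'] (S' : Subgroup Ω') [Finite S'] (F' : FusionSystem S'),
      Nat.card S' < Nat.card S → IsPGroup p S' → Thm p W F')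
    (ih2 : ∀ (T : Subgroup Ω) [Finite T] (N : FusionSystem T),
      Nat.card T = Nat.card S → mu N < mu F → IsPGroup p T → Thm p W N)
    (hcore : F.core = ⊥) (hΦ : ⁅S, S⁆ ≤ focN F (WT W S)) :
    ∀ m n : ℕ, Nat.card S ≤ n + m →
      F ≤ goodSys F (focN F (WT W S)) hΦ n ∧
      ∀ T : Subgroup Ω, T ≤ S → T ≠ ⊥ → n < Nat.card T →
        focN F (WT W T) ≤ focN F (WT W S) := by
  intro m
  induction m with
  | zero =>
    intro n hn
    constructor
    · intro P φ hφ
      refine ⟨hφ, fun hlt => ?_⟩
      have := Subgroup.card_le_of_le (F.le_of_mem hφ).1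
      omega
    · intro T hTS _ hlt
      have := Subgroup.card_le_of_le hTS
      omega
  | succ m ih =>
    intro n hn
    obtain ⟨hP1, hQ1⟩ := ih (n + 1) (by omega)
    -- Q(n)
    have hQ : ∀ T : Subgroup Ω, T ≤ S → T ≠ ⊥ → n < Nat.card T →
        focN F (WT W T) ≤ focN F (WT W S) := by
      intro T hTS hTbot hlt
      by_cases hlt' : n + 1 < Nat.card T
      · exact hQ1 T hTS hTbot hlt'
      have hcard : Nat.card T = n + 1 := by omega
      by_cases hTne : T = S
      · rw [hTne]
      have hfinT : Finite ↥T := finite_of_le hTS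
      have hTp : IsPGroup p ↥T := hS.to_le hTS
      have hVS : WT W T ≤ S := (WT_le W T).trans hTS
      have hVne : WT W T ≠ ⊥ := WT_ne_bot W hW1 hTp hTbot
      have h1 : Nat.card T < Nat.card (normalizerIn S T) := card_lt_card_normalizerIn hS hTS hTne
      have h2 : normalizerIn S T ≤ normalizerIn S (WT W T) :=
        inf_le_inf_left S (normalizer_le_normalizer_WT W hW2 T hTp)
      have hfin2 : Finite ↥(normalizerIn S (WT W T)) := finite_of_le inf_le_left
      have h3 : n + 1 < Nat.card (normalizerIn S (WT W T)) := by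
        have := Subgroup.card_le_of_le h2
        omega
      obtain ⟨V₁, hc, hFN⟩ := exists_isFullyNormalized_conj F hVS
      obtain ⟨R, hcR, hFAR, hRecR⟩ := hF V₁ hFN.1
      obtain ⟨hFA, hRec⟩ :=
        isFullyAutomized_isReceptive_of_isFullyNormalized p hS F hFN hFAR hRecR hcR
      obtain ⟨χ, hχ, hχN, hχV⟩ :=
        hom_normalizer_of_fullyAutomized_receptive p hS F V₁ (WT W T) hFA hRec hc
      have hV₁ne : V₁ ≠ ⊥ := by
        intro hb
        apply hVne
        obtain ⟨ψ, hψ, hr⟩ := hc
        rw [eq_bot_iff]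
        intro v hv
        have h1 : ψ ⟨v, hv⟩ ∈ ψ.range := ⟨_, rfl⟩
        rw [hr, hb, Subgroup.mem_bot] at h1
        have h2 : ψ ⟨v, hv⟩ = ψ 1 := by rw [h1, map_one]
        have h3 := congrArg Subtype.val (F.injective_of_mem hψ h2)
        exact h3
      have hV₁n : ¬ F.IsNormal V₁ := by
        intro h
        apply hV₁ne
        rw [eq_bot_iff, ← hcore]
        exact le_sSup h
      have h4 := focN_le_of_ih W hS F hF ih1 ih2 hFN hV₁n
      have hfin3 : Finite ↥(normalizerIn S V₁) := finite_of_le inf_le_left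
      have h5 : Nat.card (normalizerIn S (WT W T)) ≤ Nat.card (normalizerIn S V₁) :=
        hFN.2 (WT W T) (isConj_symm F hc)
      have h6 : n + 1 < Nat.card (normalizerIn S V₁) := by omega
      have hNne : normalizerIn S V₁ ≠ ⊥ := by
        intro hb
        rw [hb, Subgroup.card_bot] at h6
        omega
      have h7 := hQ1 (normalizerIn S V₁) inf_le_left hNne h6
      have hgood : ∀ x : ↥(normalizerIn S (WT W T)), (x : Ω)⁻¹ * χ x ∈ focN F (WT W S) :=
        (hP1 _ hχ).2 h3
      exact focN_le_of_transport F hVS χ hχ hχN hχV _ hgood (h4.trans h7)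
    refine ⟨?_, hQ⟩
    apply le_goodSys_of_aut p hS F hF
    intro P hP hlt α hα x
    rcases hP with rfl | hess
    · -- `P = S`
      have hinj : Function.Injective (P.subtype.comp α.toMonoidHom) := fun a b hab =>
        α.injective (Subtype.ext hab)
      have h1 := WT_map_eq W hW2 (le_refl P) hS (P.subtype.comp α.toMonoidHom) hinj
      have h2 : (P.subgroupOf P).map (P.subtype.comp α.toMonoidHom) = P := by
        ext y
        constructor
        · rintro ⟨s, -, rfl⟩
          exact (α s).2
        · intro hy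
          exact ⟨α⁻¹ ⟨y, hy⟩, Subgroup.mem_subgroupOf.mpr (α⁻¹ ⟨y, hy⟩ : P).2, by simp⟩
      rw [h2] at h1
      have hSN : P ≤ normalizerIn P (WT W P) := le_inf le_rfl (le_normalizer_WT' W hW2 hS)
      have hmap : ∀ x : P, (x : Ω) ∈ WT W P → ((α x : P) : Ω) ∈ WT W P := by
        intro x hx
        exact h1.le ⟨x, Subgroup.mem_subgroupOf.mpr hx, rfl⟩
      have h3 := aut_mem_normalizerHom F (WT_le W P) hSN α hα hmap
      exact mem_focN F h3 x
    · -- `P` essential
      obtain ⟨hc, hn', -⟩ := hess
      have h5 := local_step W hW2 hT hS F hF hn' hc α hα x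
      have hfin : Finite ↥(normalizerIn S P) := finite_of_le inf_le_left
      have h6 : Nat.card P ≤ Nat.card (normalizerIn S P) :=
        Subgroup.card_le_of_le (le_inf hn'.1 Subgroup.le_normalizer)
      by_cases hb : normalizerIn S P = ⊥
      · have hx1 : (x : Ω) = 1 := by
          have : (x : Ω) ∈ normalizerIn S P := le_inf hn'.1 Subgroup.le_normalizer x.2
          rw [hb, Subgroup.mem_bot] at this
          exact this
        have hx2 : x = 1 := Subtype.ext hx1
        rw [hx2, map_one]
        simp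
      · exact hQ (normalizerIn S P) inf_le_left hb (by omega) h5

end climbing

include hW1 hW2 hT in
/-- the theorem, by induction on `|S|` and the number of maps -/
theorem main_aux : ∀ n m : ℕ, ∀ (Ω : Type u) [Group Ω] (S : Subgroup Ω) [Finite S]
    (F : FusionSystem S), Nat.card S = n → mu F = m → IsPGroup p S → Thm p W F := by
  intro n
  induction n using Nat.strong_induction_on with
  | _ n ihn =>
  intro m
  induction m using Nat.strong_induction_on with
  | _ m ihm =>
  intro Ω _ S _ F hn hm hS hF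
  have ih1 : ∀ (Ω' : Type u) [Group Ω'] (S' : Subgroup Ω') [Finite S'] (F' : FusionSystem S'),
      Nat.card S' < Nat.card S → IsPGroup p S' → Thm p W F' :=
    fun Ω' _ S' _ F' hlt hS' => ihn (Nat.card S') (hn ▸ hlt) (mu F') Ω' S' F' rfl rfl hS'
  have ih2 : ∀ (T : Subgroup Ω) [Finite T] (N : FusionSystem T),
      Nat.card T = Nat.card S → mu N < mu F → IsPGroup p T → Thm p W N :=
    fun T _ N hc hmu hT => ihm (mu N) (hm ▸ hmu) Ω T N (hc.trans hn) rfl hT
  have hVS : WT W S ≤ S := WT_le W S
  have hSV : S ≤ Subgroup.normalizer ((WT W S : Subgroup Ω) : Set Ω) := le_normalizer_WT' W hW2 hS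
  have hΦ : ⁅S, S⁆ ≤ focN F (WT W S) := commutator_le_focN F hVS hSV
  by_cases hcore : F.core = ⊥
  · obtain ⟨h1, -⟩ := climb W hW1 hW2 hT hS F hF ih1 ih2 hcore hΦ (Nat.card S) 0 (by omega)
    exact focalSubgroup_le_of_le_goodSys F _ hΦ h1
  · have hQ : F.IsNormal F.core := isNormal_core F
    have hmod := focal_mod_normal_of_ih W hW1 hW2 hS F hF ih1 ih2 hQ hcore
      (fun R hR => le_sSup hR)
    have hinf := focal_inf_normal_le W hW2 hT hS F hF hQ
    intro y hy
    obtain ⟨f, hf, hfy⟩ := hmod y hy
    have h1 : f⁻¹ * y ∈ F.focalSubgroup ⊓ F.core :=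
      ⟨F.focalSubgroup.mul_mem (F.focalSubgroup.inv_mem (focN_le_focalSubgroup F _ hf)) hy, hfy⟩
    have h2 := hinf h1
    have e : y = f * (f⁻¹ * y) := by group
    rw [e]
    exact Subgroup.mul_mem _ hf h2

include hW1 hW2 hT in
/-- **Control of transfer**: for a positive characteristic `p`-functor `W` satisfying the local condition, the
focal subgroup of `N_F(W(S))` is the focal subgroup of `F` -/
theorem main {Ω : Type u} [Group Ω] {S : Subgroup Ω} [Finite S] (hS : IsPGroup p S)
    (F : FusionSystem S) (hF : F.IsSaturated p)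
    (N : FusionSystem (normalizerIn S (WT W S))) (hN : F.IsNormalizerSystem (WT W S) N) :
    N.focalSubgroup = F.focalSubgroup := by
  rw [focalSubgroup_normalizerSystem F N hN]
  apply le_antisymm (focN_le_focalSubgroup F _)
  exact main_aux W hW1 hW2 hT (Nat.card S) (mu F) Ω S F rfl rfl hS hF

end Cfsg.Agent.Lib.Helper7.FocW
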