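import Mathlib
import Cfsg.Prelude.Def_FusionSystem
import Cfsg.Prelude.Def_FusionComponents
import Cfsg.Prelude.Def_ConjugacyFunctors
import Cfsg.Agent.Lib.Helper7.FocProperA
import Cfsg.Agent.Lib.Helper7.FocWf
import Cfsg.Agent.Lib.Helper7.TNPe
import Cfsg.Agent.Lib.Helper7.OmitSystem
import Cfsg.Agent.Lib.Helper7.FusionTopNormal

/-!
# The focal subgroup is proper when `Aut_F(S)` is a `p`-group and a functor controls transfer
-/

set_option autoImplicit false
set_option linter.unusedSectionVars false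

namespace Cfsg.Agent.Lib.Helper7.FocProper

open Cfsg Cfsg.FusionSystem Cfsg.Agent.Lib.Helper7 Cfsg.Agent.Lib.Helper7.ModelUq
  Cfsg.Agent.Lib.Helper7.WCtl Cfsg.Agent.Lib.Helper7.GTF Cfsg.Agent.Lib.Helper7.ZJK
  Cfsg.Agent.Lib.Helper7.QdQ Cfsg.Agent.Lib.Helper7.FocW Cfsg.Agent.Lib.Helper7.TNP
open scoped commutatorElement

universe u

section general

variable {Ω : Type*} [Group Ω] {S : Subgroup Ω}

/-- the automizer of the top group in a subsystem over the same group -/
theorem isPGroup_autGroup_of_eq (p : ℕ) (F : FusionSystem S) {T : Subgroup Ω} (h : T = S)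
    (N : FusionSystem T) (hNF : ∀ φ : T →* Ω, φ ∈ N.Hom T → φ ∈ F.Hom T)
    (haut : IsPGroup p ↥(F.autGroup S)) : IsPGroup p ↥(N.autGroup T) := by
  subst h
  intro α
  have h1 : (α : MulAut T) ∈ F.autGroup T := by
    rw [mem_autGroup_iff F le_rfl]
    exact hNF _ ((mem_autGroup_iff N le_rfl _).mp α.2)
  obtain ⟨k, hk⟩ := haut ⟨α, h1⟩
  refine ⟨k, ?_⟩
  apply Subtype.ext
  have := congrArg Subtype.val hk
  simpa using this

theorem focal_inner_le (S : Subgroup Ω) : (innerFusionSystem S).focalSubgroup ≤ ⁅S, S⁆ := by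
  unfold focalSubgroup
  rw [Subgroup.closure_le]
  rintro y ⟨P, φ, x, ⟨hP, g, hg, hφ⟩, rfl⟩
  rw [hφ x]
  have e : (x : Ω)⁻¹ * (g * (x : Ω) * g⁻¹) = ⁅(x : Ω)⁻¹, g⁆ := by
    rw [commutatorElement_def]
    group
  rw [SetLike.mem_coe, e]
  exact Subgroup.commutator_mem_commutator (S.inv_mem (hP x.2)) hg

theorem commutator_lt_of_isPGroup [Finite S] {p : ℕ} [Fact p.Prime] (hS : IsPGroup p S) (hS1 : S ≠ ⊥) :
    ⁅S, S⁆ < S := by
  have hle : ⁅S, S⁆ ≤ S := Subgroup.commutator_le_self S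
  refine lt_of_le_of_ne hle (fun h => ?_)
  have hnt : Nontrivial ↥S := (Subgroup.nontrivial_iff_ne_bot S).mpr hS1
  have hnil : Group.IsNilpotent ↥S := hS.isNilpotent
  have hsol : Group.IsSolvable ↥S := inferInstance
  have h1 : commutator ↥S < ⊤ := Group.IsSolvable.commutator_lt_top_of_nontrivial ↥S
  have h2 : (commutator ↥S).map S.subtype = S := (map_subtype_commutator S).trans h
  have h3 : commutator ↥S = ⊤ := by
    rw [eq_top_iff]
    intro s _
    have hs : (s : Ω) ∈ (commutator ↥S).map S.subtype := by rw [h2]; exact s.2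
    obtain ⟨t, ht, hts⟩ := hs
    have : t = s := Subtype.ext hts
    rw [← this]
    exact ht
  exact (ne_of_lt h1) h3

/-- the automizer of the top group of a factor system is a `p`-group if that of `F` is -/
theorem isPGroup_autGroup_of_isFactorSystem [Finite S] (p : ℕ) (F : FusionSystem S)
    {Ω' : Type*} [Group Ω'] {S' : Subgroup Ω'} (S₀ : Subgroup Ω) (θ : S →* Ω') (E : FusionSystem S')
    (hE : F.IsFactorSystem S₀ θ E) (haut : IsPGroup p ↥(F.autGroup S)) :
    IsPGroup p ↥(E.autGroup S') := by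
  have hrange := hE.2.2.1
  have hθ : ∀ s : S, θ s ∈ S' := by
    intro s
    rw [← hrange]
    exact ⟨s, rfl⟩
  intro α'
  obtain ⟨β', hβ'⟩ : ∃ β' : MulAut ↥S', β' = α'.1 := ⟨_, rfl⟩
  have hβ'mem : β' ∈ E.autGroup S' := hβ' ▸ α'.2
  have h1 := (mem_autGroup_iff E le_rfl β').mp hβ'mem
  obtain ⟨-, φ, hφ, hP, hφS, hP', hind⟩ := (hE.2.2.2 _ _).mp h1
  have hSle : S ≤ preimageAlong θ S' := by
    intro s hs
    exact (mem_preimageAlong _ _ _).mpr ⟨hs, hθ ⟨s, hs⟩⟩
  have hφ₀ : φ.comp (Subgroup.inclusion hSle) ∈ F.Hom S := fs_restrict_mem F hSle hφ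
  obtain ⟨α, hα, hαφ⟩ := MaxClass.exists_mulAut_of_hom F hφ₀ (fun x => hφS _)
  have hrel : ∀ s : S, θ (α s) = ((β' ⟨θ s, hθ s⟩ : ↥S') : Ω') := by
    intro s
    have h2 := hind (Subgroup.inclusion hSle s)
    have h3 : (α s : ↥S) = ⟨φ (Subgroup.inclusion hSle s), hφS _⟩ := Subtype.ext (hαφ s)
    rw [h3]
    exact h2.symm
  have hpow : ∀ (k : ℕ) (s : S), θ ((α ^ k) s) = (((β' ^ k) ⟨θ s, hθ s⟩ : ↥S') : Ω') := by
    intro k
    induction k with
    | zero => intro s; simp
    | succ k ih =>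
      intro s
      have e1 : (α ^ (k + 1)) s = (α ^ k) (α s) := by rw [pow_succ]; rfl
      have e2 : (β' ^ (k + 1)) ⟨θ s, hθ s⟩ = (β' ^ k) (β' ⟨θ s, hθ s⟩) := by
        rw [pow_succ]; rfl
      rw [e1, e2, ih (α s)]
      congr 2
      exact Subtype.ext (hrel s)
  obtain ⟨k, hk⟩ := haut ⟨α, hα⟩
  have hk' : α ^ p ^ k = 1 := by
    have := congrArg Subtype.val hk
    simpa using this
  refine ⟨k, ?_⟩
  apply Subtype.ext
  show (α'.1) ^ p ^ k = 1
  rw [← hβ']
  ext ⟨y, hy⟩
  have hy' : y ∈ θ.range := by rw [hrange]; exact hy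
  obtain ⟨s, rfl⟩ := hy'
  have h4 := hpow (p ^ k) s
  rw [hk'] at h4
  exact h4.symm

end general

variable {p : ℕ} [Fact p.Prime] (W : ∀ (Q : Type u) [Group Q], Subgroup Q)
  (hW1 : ∀ (Q : Type u) [Group Q] [Finite Q], IsPGroup p Q → Nontrivial Q → W Q ≠ ⊥)
  (hW2 : ∀ (Q R : Type u) [Group Q] [Group R] [Finite Q], IsPGroup p Q → ∀ φ : Q ≃* R,
    (W Q).map φ.toMonoidHom = W R)
  (hT : ∀ (G : Type u) [Group G] [Finite G] (P : Sylow p G),
    Subgroup.centralizer ((Cfsg.pCore p G : Subgroup G) : Set G) ≤ Cfsg.pCore p G →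
    Cfsg.pCore p G ⊓ commutator G = Cfsg.pCore p G ⊓
      (commutator ↥(Subgroup.normalizer
        (((W ↥(P : Subgroup G)).map (P : Subgroup G).subtype : Subgroup G) : Set G))).map
        (Subgroup.normalizer
          (((W ↥(P : Subgroup G)).map (P : Subgroup G).subtype : Subgroup G) : Set G)).subtype)

/-- the statement for the system `F` -/
def Stmt (p : ℕ) {Ω : Type u} [Group Ω] {S : Subgroup Ω} (F : FusionSystem S) : Prop :=
  F.IsSaturated p → S ≠ ⊥ → IsPGroup p ↥(F.autGroup S) → F.focalSubgroup < S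

include hW1 hW2 hT in
theorem focal_lt_aux : ∀ n m : ℕ, ∀ (Ω : Type u) [Group Ω] (S : Subgroup Ω) [Finite S]
    (F : FusionSystem S), Nat.card S = n → mu F = m → IsPGroup p S → Stmt p F := by
  intro n
  induction n using Nat.strong_induction_on with
  | _ n ihn =>
  intro m
  induction m using Nat.strong_induction_on with
  | _ m ihm =>
  intro Ω _ S _ F hn hm hS hF hS1 haut
  have ih1 : ∀ (Ω' : Type u) [Group Ω'] (S' : Subgroup Ω') [Finite S'] (F' : FusionSystem S'),
      Nat.card S' < Nat.card S → IsPGroup p S' → Stmt p F' :=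
    fun Ω' _ S' _ F' hlt hS' => ihn (Nat.card S') (hn ▸ hlt) (mu F') Ω' S' F' rfl rfl hS'
  have ih2 : ∀ (T : Subgroup Ω) [Finite T] (N : FusionSystem T),
      Nat.card T = Nat.card S → mu N < mu F → IsPGroup p T → Stmt p N :=
    fun T _ N hc hmu hT => ihm (mu N) (hm ▸ hmu) Ω T N (hc.trans hn) rfl hT
  have hVS : WT W S ≤ S := WT_le W S
  have hSV : S ≤ Subgroup.normalizer ((WT W S : Subgroup Ω) : Set Ω) := le_normalizer_WT' W hW2 hS
  have hVne : WT W S ≠ ⊥ := WT_ne_bot W hW1 hS hS1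
  have hfocS : F.focalSubgroup ≤ S := by
    unfold focalSubgroup
    rw [Subgroup.closure_le]
    rintro y ⟨P, φ, x, hφ, rfl⟩
    exact S.mul_mem (S.inv_mem ((F.le_of_mem hφ).1 x.2)) ((F.le_of_mem hφ).2 x)
  by_cases hVn : F.IsNormal (WT W S)
  · by_cases hVtop : WT W S = S
    · -- `S` is normal in `F`
      rw [hVtop] at hVn
      have hinner : F = innerFusionSystem S := by
        apply eq_inner_of_essential p hS F hF
        rintro P (rfl | hess)
        · exact haut
        · exfalso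
          have h1 := (essential_invariant_of_isNormal p hS F hVn P (Or.inr hess)).1
          have h2 : P = S := le_antisymm hess.1.1 h1
          rw [h2] at hess
          exact not_isEssential_top p hS F hF hess
      rw [hinner]
      exact lt_of_le_of_lt (focal_inner_le S) (commutator_lt_of_isPGroup hS hS1)
    · -- the quotient by `W(S)`
      obtain ⟨V, hVdef⟩ : ∃ V : Subgroup Ω, V = WT W S := ⟨_, rfl⟩
      rw [← hVdef] at hVn hVtop hVS hSV hVne
      have hVsc := stronglyClosed_of_isNormal F hVn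
      have hV₀n : (V.subgroupOf S).Normal :=
        (Subgroup.normal_subgroupOf_iff_le_normalizer hVS).mpr hSV
      obtain ⟨E', hE'⟩ := exists_factorSystem_quotient F V hVsc
      have hE'sat := isSaturated_of_isFactorSystem p hS F hF V hVsc _ E' hE'
      have hS'p : IsPGroup p ↥(⊤ : Subgroup (↥S ⧸ V.subgroupOf S)) :=
        (hS.to_quotient (V.subgroupOf S)).to_subgroup ⊤
      have hVcard : 1 < Nat.card ↥(V.subgroupOf S) := by
        rw [Nat.card_congr (Subgroup.subgroupOfEquivOfLe hVS).toEquiv]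
        have : Finite ↥V := finite_of_le hVS
        exact (Subgroup.one_lt_card_iff_ne_bot (H := V)).mpr hVne
      have hlt : Nat.card ↥(⊤ : Subgroup (↥S ⧸ V.subgroupOf S)) < Nat.card S := by
        rw [Subgroup.card_top, Subgroup.card_eq_card_quotient_mul_card_subgroup (V.subgroupOf S)]
        have hpos : 0 < Nat.card (↥S ⧸ V.subgroupOf S) := Nat.card_pos
        nlinarith
      obtain ⟨θ, hθdef⟩ : ∃ θ : ↥S →* (↥S ⧸ V.subgroupOf S), θ = QuotientGroup.mk' (V.subgroupOf S) :=
        ⟨_, rfl⟩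
      rw [← hθdef] at hE'
      have hker := hE'.2.1
      have hθ : ∀ s : S, θ s ∈ (⊤ : Subgroup (↥S ⧸ V.subgroupOf S)) := fun s => Subgroup.mem_top _
      have hθsurj : Function.Surjective θ := hθdef ▸ QuotientGroup.mk'_surjective _
      have hne : (⊤ : Subgroup (↥S ⧸ V.subgroupOf S)) ≠ ⊥ := by
        intro h
        apply hVtop
        apply le_antisymm hVS
        intro s hs
        have h1 : θ ⟨s, hs⟩ ∈ (⊤ : Subgroup (↥S ⧸ V.subgroupOf S)) := Subgroup.mem_top _
        rw [h, Subgroup.mem_bot] at h1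
        exact (hker _).mp h1
      -- the automizer of the top group of the quotient is a `p`-group
      have haut' : IsPGroup p ↥(E'.autGroup (⊤ : Subgroup (↥S ⧸ V.subgroupOf S))) :=
        isPGroup_autGroup_of_isFactorSystem p F V θ E' hE' haut
      have hThm := ih1 (↥S ⧸ V.subgroupOf S) ⊤ E' hlt hS'p hE'sat hne haut'
      -- the image of the focal subgroup
      have hle : F.focalSubgroup ≤ preimageAlong θ E'.focalSubgroup := by
        unfold focalSubgroup
        rw [Subgroup.closure_le]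
        rintro y ⟨P, φ, x, hφ, rfl⟩
        obtain ⟨-, φ', hφ', hP, hφS, hPP', hind⟩ := le_morSystem p hS F hF V hVsc θ E' hE' hθ P hφ
        rw [SetLike.mem_coe, mem_preimageAlong]
        refine ⟨S.mul_mem (S.inv_mem (hP x.2)) (hφS x), ?_⟩
        have e : (⟨(x : Ω)⁻¹ * φ x, S.mul_mem (S.inv_mem (hP x.2)) (hφS x)⟩ : ↥S) =
            (⟨x, hP x.2⟩ : ↥S)⁻¹ * ⟨φ x, hφS x⟩ := rfl
        rw [e, map_mul, map_inv, ← hind x]
        exact Subgroup.subset_closure ⟨_, φ', ⟨θ ⟨x, hP x.2⟩, hPP' x⟩, hφ', rfl⟩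
      refine lt_of_le_of_ne hfocS (fun heq => ?_)
      apply ne_of_lt hThm
      rw [eq_top_iff]
      intro y _
      obtain ⟨s, rfl⟩ := hθsurj y
      have hs : (s : Ω) ∈ F.focalSubgroup := by rw [heq]; exact s.2
      obtain ⟨hs', h5⟩ := (mem_preimageAlong _ _ _).mp (hle hs)
      exact h5
  · -- `W(S)` is not normal in `F`: pass to the normalizer system
    obtain ⟨N, hN⟩ := exists_normalizerSystem F (WT W S) hVS
    have hVfn : F.IsFullyNormalized (WT W S) := MaxClass.isFullyNormalized_of_normalizer F hVS hSV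
    have hNsat := normalizerSystem_isSaturated p hS F hF (WT W S) hVfn N hN
    have hTS : normalizerIn S (WT W S) ≤ S := inf_le_left
    have hTeq : normalizerIn S (WT W S) = S := inf_eq_left.mpr hSV
    have hfinT : Finite ↥(normalizerIn S (WT W S)) := finite_of_le hTS
    have hTp : IsPGroup p ↥(normalizerIn S (WT W S)) := hS.to_le hTS
    have hNF : ∀ (P : Subgroup Ω) (φ : P →* Ω), φ ∈ N.Hom P → φ ∈ F.Hom P := by
      intro P φ h
      rw [hN P] at h
      exact h.1
    have hex : ∃ (P : Subgroup Ω) (φ : P →* Ω), φ ∈ F.Hom P ∧ φ ∉ F.normalizerHom (WT W S) P := by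
      by_contra hcon
      apply hVn
      apply isNormal_of_forall_mem F hVS
      intro P φ hφ
      by_contra h1
      exact hcon ⟨P, φ, hφ, h1⟩
    obtain ⟨P, φ, hφ, hφn⟩ := hex
    have hmu : mu N < mu F := mu_lt F N hNF hφ (by rw [hN P]; exact hφn)
    have hcard : Nat.card ↥(normalizerIn S (WT W S)) = Nat.card S := by rw [hTeq]
    have hT1 : normalizerIn S (WT W S) ≠ ⊥ := by rw [hTeq]; exact hS1
    have hautN : IsPGroup p ↥(N.autGroup (normalizerIn S (WT W S))) :=
      isPGroup_autGroup_of_eq p F hTeq N (fun φ h => hNF _ φ h) haut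
    have h1 := ih2 _ N hcard hmu hTp hNsat hT1 hautN
    rw [FocW.main W hW1 hW2 hT hS F hF N hN, hTeq] at h1
    exact h1

include hW1 hW2 hT in
/-- if a positive characteristic functor satisfies the local focal condition, a saturated fusion system over
`S ≠ 1` with `Aut_F(S)` a `p`-group has a proper focal subgroup -/
theorem focal_lt {Ω : Type u} [Group Ω] {S : Subgroup Ω} [Finite S] (hS : IsPGroup p S)
    (F : FusionSystem S) (hF : F.IsSaturated p) (hS1 : S ≠ ⊥) (haut : IsPGroup p ↥(F.autGroup S)) :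
    F.focalSubgroup < S :=
  focal_lt_aux W hW1 hW2 hT (Nat.card S) (mu F) Ω S F rfl rfl hS hF hS1 haut

end Cfsg.Agent.Lib.Helper7.FocProper
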