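import Mathlib
import Cfsg.Prelude.Def_LocalStructure
import Cfsg.Agent.Lib.Helper7.AsymH3
import Cfsg.Agent.Lib.Helper7.AsymY
import Cfsg.Agent.Lib.Helper7.WeaklyClosed3
import Cfsg.Agent.Lib.Lead.KInf4

set_option autoImplicit false

namespace Cfsg.Agent.Lib.Helper7.WCFact

open Cfsg Cfsg.Agent.Lib.Helper7 Cfsg.Agent.Lib.Lead.Conj Cfsg.Agent.Lib.Helper7.LargeComm
  Cfsg.Agent.Lib.Helper7.AsymH
open scoped Pointwise commutatorElement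

variable {G : Type*} [Group G] {p : ℕ}

theorem iSup_cj_eq_nc (L Q : Subgroup G) :
    (⨆ k : ↥L, Q.map (MulAut.conj (k : G)).toMonoidHom) = nc L Q := by
  apply le_antisymm
  · apply iSup_le
    rintro ⟨k, hk⟩ _ ⟨q, hq, rfl⟩
    exact Subgroup.subset_closure ⟨k, hk, q, hq, rfl⟩
  · unfold nc
    rw [Subgroup.closure_le]
    rintro _ ⟨l, hl, q, hq, rfl⟩
    exact Subgroup.mem_iSup_of_mem ⟨l, hl⟩ ⟨q, hq, rfl⟩

theorem cj_le_nc {L Q : Subgroup G} {l : G} (hl : l ∈ L) : cj l Q ≤ nc L Q := by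
  rintro _ ⟨q, hq, rfl⟩
  exact Subgroup.subset_closure ⟨l, hl, q, hq, rfl⟩

theorem nc_mono_left {L L' Q : Subgroup G} (h : L ≤ L') : nc L Q ≤ nc L' Q := by
  unfold nc
  apply Subgroup.closure_mono
  rintro _ ⟨l, hl, q, hq, rfl⟩
  exact ⟨l, h hl, q, hq, rfl⟩

/-- `nc L Q ≤ B` as soon as all `L`-conjugates of `Q` lie in `B`. -/
theorem nc_le_of_cj_le {L Q B : Subgroup G} (h : ∀ l ∈ L, cj l Q ≤ B) : nc L Q ≤ B := by
  unfold nc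
  rw [Subgroup.closure_le]
  rintro _ ⟨l, hl, q, hq, rfl⟩
  exact h l hl ⟨q, hq, rfl⟩

/-- `A ≤ N(C ⊔ Q)` when `A ≤ N(C)` and `[A, Q] ≤ C`. -/
theorem le_normalizer_sup_of_commutator_le {A C Q : Subgroup G}
    (hAC : A ≤ Subgroup.normalizer (C : Set G)) (h : ⁅A, Q⁆ ≤ C) :
    A ≤ Subgroup.normalizer ((C ⊔ Q : Subgroup G) : Set G) := by
  apply le_normalizer_of_conj
  intro a ha x hx
  have : C ⊔ Q ≤ (C ⊔ Q).comap (MulAut.conj a).toMonoidHom := by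
    apply sup_le
    · intro c hc
      show a * c * a⁻¹ ∈ C ⊔ Q
      exact (le_sup_left : C ≤ C ⊔ Q) (conj_mem_of_le_normalizer hAC ha hc)
    · intro q hq
      show a * q * a⁻¹ ∈ C ⊔ Q
      have h1 : ⁅a, q⁆ ∈ C := h (Subgroup.commutator_mem_commutator ha hq)
      have h2 : a * q * a⁻¹ = ⁅a, q⁆ * q := by simp only [commutatorElement_def]; group
      rw [h2]
      exact (C ⊔ Q).mul_mem ((le_sup_left : C ≤ C ⊔ Q) h1) ((le_sup_right : Q ≤ C ⊔ Q) hq)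
  exact this hx

theorem exists_mul_of_mem_sup_normalizer {C R : Subgroup G}
    (h : R ≤ Subgroup.normalizer (C : Set G)) {y : G}
    (hy : y ∈ C ⊔ R) : ∃ c ∈ C, ∃ r ∈ R, y = c * r := by
  rw [Subgroup.sup_eq_closure_mul] at hy
  induction hy using Subgroup.closure_induction with
  | mem y hy =>
    obtain ⟨c, hc, r, hr, rfl⟩ := hy
    exact ⟨c, hc, r, hr, rfl⟩
  | one => exact ⟨1, C.one_mem, 1, R.one_mem, (mul_one 1).symm⟩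
  | mul a b _ _ iha ihb =>
    obtain ⟨c₁, hc₁, r₁, hr₁, rfl⟩ := iha
    obtain ⟨c₂, hc₂, r₂, hr₂, rfl⟩ := ihb
    refine ⟨c₁ * (r₁ * c₂ * r₁⁻¹), C.mul_mem hc₁ ((Subgroup.mem_normalizer_iff.mp (h hr₁) c₂).mp hc₂),
      r₁ * r₂, R.mul_mem hr₁ hr₂, by group⟩
  | inv a _ iha =>
    obtain ⟨c, hc, r, hr, rfl⟩ := iha
    refine ⟨r⁻¹ * c⁻¹ * r, ?_, r⁻¹, R.inv_mem hr, by group⟩
    have := (Subgroup.mem_normalizer_iff.mp ((Subgroup.normalizer (C : Set G)).inv_mem (h hr)) c⁻¹).mp (C.inv_mem hc)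
    simpa using this

theorem mem_normalizer_inf_of_mem {A B : Subgroup G} {k : G}
    (h1 : k ∈ Subgroup.normalizer (A : Set G))
    (h2 : k ∈ Subgroup.normalizer (B : Set G)) :
    k ∈ Subgroup.normalizer ((A ⊓ B : Subgroup G) : Set G) := by
  rw [Subgroup.mem_normalizer_iff] at h1 h2 ⊢
  intro x
  rw [Subgroup.mem_inf, Subgroup.mem_inf, ← h1 x, ← h2 x]

/-- `O^p(O^p(W)) = O^p(W)`. -/
theorem pRes_pRes (W : Subgroup G) :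
    (pResidual p ↥((pResidual p ↥W).map W.subtype)).map ((pResidual p ↥W).map W.subtype).subtype =
      (pResidual p ↥W).map W.subtype := by
  apply le_antisymm (AsymH.pRes_le _)
  conv_lhs => rw [pRes_eq_closure]
  rw [Subgroup.closure_le]
  rintro x ⟨hx, hc⟩
  exact mem_pRes_of_coprime (mem_pRes_of_coprime hx hc) hc

section wc

variable [Finite G] [Fact p.Prime] {Q : Subgroup G}

theorem exists_nc_conj (hQp : IsPGroup p ↥Q) (hwc : IsWeaklyClosedSubgroup p Q) {L : Subgroup G}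
    {l : G} (hl : l ∈ L) : ∃ w ∈ nc L Q, cj l Q = cj w Q :=
  IsWeaklyClosedSubgroup.exists_conj_of_le hQp hwc (le_nc L Q) l (cj_le_nc hl)

theorem nc_nc (hQp : IsPGroup p ↥Q) (hwc : IsWeaklyClosedSubgroup p Q) {L : Subgroup G}
    (hQL : Q ≤ L) : nc (nc L Q) Q = nc L Q := by
  apply le_antisymm (nc_mono_left (nc_le hQL))
  apply nc_le_of_cj_le
  intro l hl
  obtain ⟨w, hw, he⟩ := exists_nc_conj hQp hwc hl
  rw [he]
  exact cj_le_nc hw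

theorem weakClosure_eq_nc (hQp : IsPGroup p ↥Q) (hwc : IsWeaklyClosedSubgroup p Q) {L : Subgroup G}
    (hQL : Q ≤ L) : weakClosure Q L = nc L Q := by
  rw [(weakClosure_in_overgroup Q hQp hwc L hQL _ rfl).1, iSup_cj_eq_nc]

/-- A Sylow subgroup of `W ≥ Q` containing `Q` normalizes `Q`. -/
theorem sylow_le_normalizer (hwc : IsWeaklyClosedSubgroup p Q) {T : Subgroup G}
    (hTp : IsPGroup p ↥T) (hQT : Q ≤ T) : T ≤ Subgroup.normalizer (Q : Set G) :=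
  Subgroup.le_normalizer.trans (IsWeaklyClosedSubgroup.normalizer_le hwc hTp hQT)

/-- `L° = O^p(L°) Q`. -/
theorem nc_eq_pRes_sup (hQp : IsPGroup p ↥Q) (hwc : IsWeaklyClosedSubgroup p Q) {L : Subgroup G}
    (hQL : Q ≤ L) :
    nc L Q = (pResidual p ↥(nc L Q)).map (nc L Q).subtype ⊔ Q := by
  obtain ⟨W, hWdef⟩ : ∃ W, W = nc L Q := ⟨_, rfl⟩
  rw [← hWdef]
  have hQW : Q ≤ W := hWdef ▸ le_nc L Q
  have hWW : nc W Q = W := by rw [hWdef]; exact nc_nc hQp hwc hQL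
  obtain ⟨A, hAdef⟩ : ∃ A, A = (pResidual p ↥W).map W.subtype := ⟨_, rfl⟩
  rw [← hAdef]
  have hAW : A ≤ W := hAdef ▸ AsymH.pRes_le W
  have hWA : W ≤ Subgroup.normalizer (A : Set G) := hAdef ▸ le_normalizer_pRes W
  apply le_antisymm _ (sup_le hAW hQW)
  obtain ⟨T, hT, hQT⟩ := exists_isSylowIn_ge hQp hQW
  have hTQ : T ≤ Subgroup.normalizer (Q : Set G) := sylow_le_normalizer hwc hT.isPGroup hQT
  have hWAT : W ≤ A ⊔ T := by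
    apply AsymY.le_sup_sylow hAW hWA hT
    intro x hx
    rw [hAdef]
    exact exists_pow_mem_pRes hx
  have hn : W ≤ Subgroup.normalizer ((A ⊔ Q : Subgroup G) : Set G) := by
    apply hWAT.trans
    apply sup_le
    · exact (le_sup_left (b := Q)).trans Subgroup.le_normalizer
    · exact le_normalizer_sup' ((hT.1).trans hWA) hTQ
  rw [← hWW]
  exact nc_le_of_le le_sup_right hn

/-- `L_∘ = [L_∘, Q]`. -/
theorem pRes_nc_commutator (hQp : IsPGroup p ↥Q) (hwc : IsWeaklyClosedSubgroup p Q) {L : Subgroup G}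
    (hQL : Q ≤ L) :
    ⁅(pResidual p ↥(nc L Q)).map (nc L Q).subtype, Q⁆ =
      (pResidual p ↥(nc L Q)).map (nc L Q).subtype := by
  have hsup := nc_eq_pRes_sup hQp hwc hQL
  obtain ⟨W, hWdef⟩ : ∃ W, W = nc L Q := ⟨_, rfl⟩
  rw [← hWdef] at hsup ⊢
  have hQW : Q ≤ W := hWdef ▸ le_nc L Q
  have hWW : nc W Q = W := by rw [hWdef]; exact nc_nc hQp hwc hQL
  obtain ⟨A, hAdef⟩ : ∃ A, A = (pResidual p ↥W).map W.subtype := ⟨_, rfl⟩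
  rw [← hAdef] at hsup ⊢
  have hAW : A ≤ W := hAdef ▸ AsymH.pRes_le W
  have hWA : W ≤ Subgroup.normalizer (A : Set G) := hAdef ▸ le_normalizer_pRes W
  have hCA : ⁅A, Q⁆ ≤ A := by
    rw [Subgroup.commutator_le]
    intro a ha q hq
    have h1 : q * a⁻¹ * q⁻¹ ∈ A := conj_mem_of_le_normalizer hWA (hQW hq) (A.inv_mem ha)
    have h2 : ⁅a, q⁆ = a * (q * a⁻¹ * q⁻¹) := by simp only [commutatorElement_def]; group
    rw [h2]
    exact A.mul_mem ha h1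
  apply le_antisymm hCA
  have hAC : A ≤ Subgroup.normalizer ((⁅A, Q⁆ : Subgroup G) : Set G) := le_normalizer_commutator_self A Q
  have hQC : Q ≤ Subgroup.normalizer ((⁅A, Q⁆ : Subgroup G) : Set G) := by
    rw [Subgroup.commutator_comm]
    exact le_normalizer_commutator_self Q A
  have hWn : W ≤ Subgroup.normalizer ((⁅A, Q⁆ ⊔ Q : Subgroup G) : Set G) := by
    rw [hsup]
    apply sup_le
    · exact le_normalizer_sup_of_commutator_le hAC le_rfl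
    · exact le_normalizer_sup' hQC Subgroup.le_normalizer
  have h1 : W ≤ ⁅A, Q⁆ ⊔ Q := by
    rw [← hWW]
    exact nc_le_of_le le_sup_right hWn
  have h2 : (pResidual p ↥W).map W.subtype ≤ ⁅A, Q⁆ :=
    pRes_le_of_sup_eq hQC hQp (by rw [sup_comm]; exact h1)
  exact hAdef.le.trans h2

end wc

section main

variable [Finite G] [Fact p.Prime]

/-- Hypotheses of the weakly closed factorization lemma. -/
structure Hyp (p : ℕ) (Q Hc H₁ H₂ : Subgroup G) : Prop where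
  hQp : IsPGroup p ↥Q
  hwc : IsWeaklyClosedSubgroup p Q
  hHc : Hc = nc ⊤ Q
  h1le : H₁ ≤ Hc
  h1n : Hc ≤ Subgroup.normalizer (H₁ : Set G)
  h2le : H₂ ≤ Hc
  h2n : Hc ≤ Subgroup.normalizer (H₂ : Set G)
  hprod : H₁ ⊔ H₂ = Hc
  hcomm : ⁅H₁, H₂⁆ ≤ Subgroup.normalizer (Q : Set G)

variable {Q Hc H₁ H₂ : Subgroup G}

omit [Finite G] [Fact p.Prime] in
theorem Hyp.symm (h : Hyp p Q Hc H₁ H₂) : Hyp p Q Hc H₂ H₁ :=
  ⟨h.hQp, h.hwc, h.hHc, h.h2le, h.h2n, h.h1le, h.h1n, by rw [sup_comm]; exact h.hprod,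
    by rw [Subgroup.commutator_comm]; exact h.hcomm⟩

omit [Finite G] [Fact p.Prime] in
theorem Hyp.hQHc (h : Hyp p Q Hc H₁ H₂) : Q ≤ Hc := h.hHc ▸ le_nc ⊤ Q

theorem Hyp.nc_Hc (h : Hyp p Q Hc H₁ H₂) : nc Hc Q = Hc := by
  rw [h.hHc]; exact nc_nc h.hQp h.hwc le_top

omit [Finite G] [Fact p.Prime] in
theorem Hyp.D_le_left (h : Hyp p Q Hc H₁ H₂) : ⁅H₁, H₂⁆ ≤ H₁ := by
  rw [Subgroup.commutator_le]
  intro a ha b hb
  have h1 : b * a⁻¹ * b⁻¹ ∈ H₁ := conj_mem_of_le_normalizer h.h1n (h.h2le hb) (H₁.inv_mem ha)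
  have h2 : ⁅a, b⁆ = a * (b * a⁻¹ * b⁻¹) := by simp only [commutatorElement_def]; group
  rw [h2]
  exact H₁.mul_mem ha h1

omit [Finite G] [Fact p.Prime] in
theorem Hyp.D_le_right (h : Hyp p Q Hc H₁ H₂) : ⁅H₁, H₂⁆ ≤ H₂ := by
  rw [Subgroup.commutator_comm]; exact h.symm.D_le_left

omit [Finite G] [Fact p.Prime] in
theorem Hyp.le_normalizer_D (h : Hyp p Q Hc H₁ H₂) :
    Hc ≤ Subgroup.normalizer ((⁅H₁, H₂⁆ : Subgroup G) : Set G) :=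
  AsymH.le_normalizer_commutator h.h1n h.h2n

omit [Finite G] [Fact p.Prime] in
theorem Hyp.le_normalizer_N (h : Hyp p Q Hc H₁ H₂) :
    Hc ≤ Subgroup.normalizer ((pCoreOf p ⁅H₁, H₂⁆ : Subgroup G) : Set G) :=
  le_normalizer_pCoreOf_of_le_normalizer h.le_normalizer_D

omit [Finite G] [Fact p.Prime] in
/-- `[d, q] ∈ O_p(D)` for `d ∈ D = [H₁, H₂]`, `q ∈ Q`. -/
theorem Hyp.comm_D_Q_mem (h : Hyp p Q Hc H₁ H₂) {d q : G} (hd : d ∈ ⁅H₁, H₂⁆) (hq : q ∈ Q) :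
    ⁅d, q⁆ ∈ pCoreOf p ⁅H₁, H₂⁆ := by
  have h1 : ⁅d, q⁆ ∈ ⁅H₁, H₂⁆ ⊓ Q := by
    refine ⟨?_, ?_⟩
    · have h1 : q * d⁻¹ * q⁻¹ ∈ ⁅H₁, H₂⁆ :=
        conj_mem_of_le_normalizer h.le_normalizer_D (h.hQHc hq) (Subgroup.inv_mem _ hd)
      have h2 : ⁅d, q⁆ = d * (q * d⁻¹ * q⁻¹) := by simp only [commutatorElement_def]; group
      rw [h2]
      exact Subgroup.mul_mem _ hd h1
    · have h1 : d * q * d⁻¹ ∈ Q := conj_mem_of_le_normalizer h.hcomm hd hq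
      have h2 : ⁅d, q⁆ = d * q * d⁻¹ * q⁻¹ := by simp only [commutatorElement_def]
      rw [h2]
      exact Q.mul_mem h1 (Q.inv_mem hq)
  refine le_pCoreOf inf_le_left ?_ (h.hQp.to_le inf_le_right) h1
  intro d' hd'
  exact mem_normalizer_inf_of_mem (Subgroup.le_normalizer hd') (h.hcomm hd')

/-- `[D, H°] ≤ O_p(D)`. -/
theorem Hyp.comm_D_Hc_le (h : Hyp p Q Hc H₁ H₂) :
    ⁅⁅H₁, H₂⁆, Hc⁆ ≤ pCoreOf p ⁅H₁, H₂⁆ := by
  rw [Subgroup.commutator_le]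
  intro d hd x hx
  rw [← h.nc_Hc] at hx
  exact comm_mem_nc h.le_normalizer_D h.le_normalizer_N h.hQHc
    (fun n hn y hy => h.comm_D_Q_mem hn hy) x hx d hd

/-- `[H₁', H₂] ≤ O_p(D)`. -/
theorem Hyp.comm_derived_le (h : Hyp p Q Hc H₁ H₂) :
    ⁅⁅H₁, H₁⁆, H₂⁆ ≤ pCoreOf p ⁅H₁, H₂⁆ := by
  apply Cfsg.Agent.Lib.Lead.KInf.rotate_le_of_le_normalizer (h.h1le.trans h.le_normalizer_N)
    (h.h1le.trans h.le_normalizer_N) (h.h2le.trans h.le_normalizer_N)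
  · exact (Subgroup.commutator_mono le_rfl h.h1le).trans h.comm_D_Hc_le
  · rw [Subgroup.commutator_comm H₂ H₁]
    exact (Subgroup.commutator_mono le_rfl h.h1le).trans h.comm_D_Hc_le

/-- `Kᵢ = O^p` of the weak closure of `Q` in `Hᵢ Q`. -/
def Kof (p : ℕ) (H₁ Q : Subgroup G) : Subgroup G :=
  (pResidual p ↥(nc (H₁ ⊔ Q) Q)).map (nc (H₁ ⊔ Q) Q).subtype

omit [Finite G] [Fact p.Prime] in
theorem Hyp.L_le (h : Hyp p Q Hc H₁ H₂) : H₁ ⊔ Q ≤ Hc := sup_le h.h1le h.hQHc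

omit [Finite G] [Fact p.Prime] in
theorem Hyp.K_le (h : Hyp p Q Hc H₁ H₂) : Kof p H₁ Q ≤ H₁ := by
  unfold Kof
  apply pRes_le_of_sup_eq (h.hQHc.trans h.h1n) h.hQp
  exact (nc_le le_sup_right).trans (sup_comm _ _).le

omit [Finite G] [Fact p.Prime] in
theorem Hyp.L_le_normalizer_K (_h : Hyp p Q Hc H₁ H₂) :
    H₁ ⊔ Q ≤ Subgroup.normalizer ((Kof p H₁ Q : Subgroup G) : Set G) :=
  le_normalizer_pRes_of_le_normalizer (le_normalizer_nc _ _)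

theorem Hyp.K_comm_Q (h : Hyp p Q Hc H₁ H₂) : ⁅Kof p H₁ Q, Q⁆ = Kof p H₁ Q :=
  pRes_nc_commutator h.hQp h.hwc le_sup_right

theorem Hyp.nc_eq (h : Hyp p Q Hc H₁ H₂) : nc (H₁ ⊔ Q) Q = Kof p H₁ Q ⊔ Q :=
  nc_eq_pRes_sup h.hQp h.hwc le_sup_right

omit [Finite G] [Fact p.Prime] in
theorem Hyp.pRes_K (_h : Hyp p Q Hc H₁ H₂) :
    (pResidual p ↥(Kof p H₁ Q)).map (Kof p H₁ Q).subtype = Kof p H₁ Q := pRes_pRes _

omit [Finite G] [Fact p.Prime] in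
theorem Hyp.comm_K_H_le (h : Hyp p Q Hc H₁ H₂) : ⁅Kof p H₁ Q, H₁⁆ ≤ Kof p H₁ Q := by
  rw [Subgroup.commutator_le]
  intro k hk x hx
  have h1 : x * k⁻¹ * x⁻¹ ∈ Kof p H₁ Q :=
    conj_mem_of_le_normalizer h.L_le_normalizer_K ((le_sup_left : H₁ ≤ H₁ ⊔ Q) hx)
      (Subgroup.inv_mem _ hk)
  have h2 : ⁅k, x⁆ = k * (x * k⁻¹ * x⁻¹) := by simp only [commutatorElement_def]; group
  rw [h2]
  exact Subgroup.mul_mem _ hk h1

omit [Finite G] [Fact p.Prime] in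
theorem Hyp.L_le_normalizer_comm (h : Hyp p Q Hc H₁ H₂) :
    H₁ ⊔ Q ≤ Subgroup.normalizer ((⁅Kof p H₁ Q, H₁⁆ : Subgroup G) : Set G) :=
  AsymH.le_normalizer_commutator h.L_le_normalizer_K (h.L_le.trans h.h1n)

/-- Step A: `K₁ ≤ [K₁, H₁] (D ∩ K₁)`. -/
theorem Hyp.stepA (h : Hyp p Q Hc H₁ H₂) :
    Kof p H₁ Q ≤ ⁅Kof p H₁ Q, H₁⁆ ⊔ (⁅H₁, H₂⁆ ⊓ Kof p H₁ Q) := by
  conv_lhs => rw [← h.K_comm_Q]
  rw [Subgroup.commutator_le]
  intro k hk q hq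
  have hqHc : q ∈ H₁ ⊔ H₂ := by rw [h.hprod]; exact h.hQHc hq
  obtain ⟨h₁, hh₁, h₂, hh₂, rfl⟩ := exists_mul_of_mem_sup_normalizer (h.h2le.trans h.h1n) hqHc
  have hh₂L : h₂ ∈ H₁ ⊔ Q := by
    have e : h₂ = h₁⁻¹ * (h₁ * h₂) := by group
    rw [e]
    exact Subgroup.mul_mem _ ((le_sup_left : H₁ ≤ H₁ ⊔ Q) (H₁.inv_mem hh₁))
      ((le_sup_right : Q ≤ H₁ ⊔ Q) hq)
  rw [comm_mul_right]
  apply Subgroup.mul_mem
  · exact (le_sup_left : ⁅Kof p H₁ Q, H₁⁆ ≤ _) (Subgroup.commutator_mem_commutator hk hh₁)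
  · apply (le_sup_right : ⁅H₁, H₂⁆ ⊓ Kof p H₁ Q ≤ _)
    have h1 : ⁅k, h₂⁆ ∈ ⁅H₁, H₂⁆ := Subgroup.commutator_mem_commutator (h.K_le hk) hh₂
    have h2 : ⁅k, h₂⁆ ∈ Kof p H₁ Q := by
      have h3 : h₂ * k⁻¹ * h₂⁻¹ ∈ Kof p H₁ Q :=
        conj_mem_of_le_normalizer h.L_le_normalizer_K hh₂L (Subgroup.inv_mem _ hk)
      have h4 : ⁅k, h₂⁆ = k * (h₂ * k⁻¹ * h₂⁻¹) := by simp only [commutatorElement_def]; group
      rw [h4]
      exact Subgroup.mul_mem _ hk h3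
    exact ⟨conj_mem_of_le_normalizer h.le_normalizer_D (h.h1le hh₁) h1,
      conj_mem_of_le_normalizer h.L_le_normalizer_K ((le_sup_left : H₁ ≤ H₁ ⊔ Q) hh₁) h2⟩

/-- Step B: `K₁ ≤ [K₁, H₁] (O_p(D) ∩ K₁)`. -/
theorem Hyp.stepB (h : Hyp p Q Hc H₁ H₂) :
    Kof p H₁ Q ≤ ⁅Kof p H₁ Q, H₁⁆ ⊔ (pCoreOf p ⁅H₁, H₂⁆ ⊓ Kof p H₁ Q) := by
  conv_lhs => rw [← h.K_comm_Q]
  rw [Subgroup.commutator_le]
  intro k hk q hq
  have hKL : Kof p H₁ Q ≤ H₁ ⊔ Q := h.K_le.trans le_sup_left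
  have hn : ⁅H₁, H₂⁆ ⊓ Kof p H₁ Q ≤
      Subgroup.normalizer ((⁅Kof p H₁ Q, H₁⁆ : Subgroup G) : Set G) :=
    (inf_le_right.trans hKL).trans h.L_le_normalizer_comm
  obtain ⟨n, hn', d, hd, rfl⟩ := exists_mul_of_mem_sup_normalizer hn (h.stepA hk)
  rw [comm_mul_left]
  have hqL : q ∈ H₁ ⊔ Q := (le_sup_right : Q ≤ H₁ ⊔ Q) hq
  have hnK : n ∈ Kof p H₁ Q := h.comm_K_H_le hn'
  apply Subgroup.mul_mem
  · apply (le_sup_right : pCoreOf p ⁅H₁, H₂⁆ ⊓ Kof p H₁ Q ≤ _)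
    have h1 : ⁅d, q⁆ ∈ pCoreOf p ⁅H₁, H₂⁆ := h.comm_D_Q_mem hd.1 hq
    have h2 : ⁅d, q⁆ ∈ Kof p H₁ Q := by
      have h3 : q * d⁻¹ * q⁻¹ ∈ Kof p H₁ Q :=
        conj_mem_of_le_normalizer h.L_le_normalizer_K hqL (Subgroup.inv_mem _ hd.2)
      have h4 : ⁅d, q⁆ = d * (q * d⁻¹ * q⁻¹) := by simp only [commutatorElement_def]; group
      rw [h4]
      exact Subgroup.mul_mem _ hd.2 h3
    exact ⟨conj_mem_of_le_normalizer h.le_normalizer_N (h.L_le (hKL hnK)) h1,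
      conj_mem_of_le_normalizer h.L_le_normalizer_K (hKL hnK) h2⟩
  · apply (le_sup_left : ⁅Kof p H₁ Q, H₁⁆ ≤ _)
    have h3 : q * n⁻¹ * q⁻¹ ∈ ⁅Kof p H₁ Q, H₁⁆ :=
      conj_mem_of_le_normalizer h.L_le_normalizer_comm hqL (Subgroup.inv_mem _ hn')
    have h4 : ⁅n, q⁆ = n * (q * n⁻¹ * q⁻¹) := by simp only [commutatorElement_def]; group
    rw [h4]
    exact Subgroup.mul_mem _ hn' h3

/-- `K₁ = [K₁, H₁]`. -/
theorem Hyp.comm_K_H (h : Hyp p Q Hc H₁ H₂) : ⁅Kof p H₁ Q, H₁⁆ = Kof p H₁ Q := by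
  apply le_antisymm h.comm_K_H_le
  have hKL : Kof p H₁ Q ≤ H₁ ⊔ Q := h.K_le.trans le_sup_left
  have hn : pCoreOf p ⁅H₁, H₂⁆ ⊓ Kof p H₁ Q ≤
      Subgroup.normalizer ((⁅Kof p H₁ Q, H₁⁆ : Subgroup G) : Set G) :=
    (inf_le_right.trans hKL).trans h.L_le_normalizer_comm
  have h1 := pRes_le_of_sup_eq (H := Kof p H₁ Q) hn ((pCoreOf_isPGroup _).to_le inf_le_left)
    (by rw [sup_comm]; exact h.stepB)
  rwa [h.pRes_K] at h1

theorem Hyp.K_le_derived (h : Hyp p Q Hc H₁ H₂) : Kof p H₁ Q ≤ ⁅H₁, H₁⁆ := by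
  conv_lhs => rw [← h.comm_K_H]
  exact Subgroup.commutator_mono h.K_le le_rfl

/-- `[K₁, H₂] ≤ O_p(D)`. -/
theorem Hyp.comm_K_H₂_le (h : Hyp p Q Hc H₁ H₂) :
    ⁅Kof p H₁ Q, H₂⁆ ≤ pCoreOf p ⁅H₁, H₂⁆ :=
  (Subgroup.commutator_mono h.K_le_derived le_rfl).trans h.comm_derived_le

/-- `K₁ ⊴ H°`. -/
theorem Hyp.le_normalizer_K (h : Hyp p Q Hc H₁ H₂) :
    Hc ≤ Subgroup.normalizer ((Kof p H₁ Q : Subgroup G) : Set G) := by
  rw [← h.hprod]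
  apply sup_le (le_sup_left.trans h.L_le_normalizer_K)
  obtain ⟨N, hNdef⟩ : ∃ N, N = pCoreOf p ⁅H₁, H₂⁆ := ⟨_, rfl⟩
  have hNp : IsPGroup p ↥N := hNdef ▸ pCoreOf_isPGroup _
  have hNK : N ≤ Subgroup.normalizer ((Kof p H₁ Q : Subgroup G) : Set G) := by
    rw [hNdef]
    exact (((pCoreOf_le _).trans h.D_le_left).trans le_sup_left).trans h.L_le_normalizer_K
  have h1 : H₂ ≤ Subgroup.normalizer ((N ⊔ Kof p H₁ Q : Subgroup G) : Set G) := by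
    apply le_normalizer_sup_of_commutator_le
    · rw [hNdef]; exact h.h2le.trans h.le_normalizer_N
    · rw [Subgroup.commutator_comm, hNdef]; exact h.comm_K_H₂_le
  have h2 : (pResidual p ↥(N ⊔ Kof p H₁ Q)).map (N ⊔ Kof p H₁ Q).subtype = Kof p H₁ Q := by
    apply le_antisymm
    · exact pRes_le_of_sup_eq hNK hNp le_rfl
    · conv_lhs => rw [← h.pRes_K]
      exact AsymH.pRes_mono le_sup_right
  rw [← h2]
  exact le_normalizer_pRes_of_le_normalizer h1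

/-- `[K₁, K₂] ≤ O_p(H°)`. -/
theorem Hyp.comm_K_K_le (h : Hyp p Q Hc H₁ H₂) :
    ⁅Kof p H₁ Q, Kof p H₂ Q⁆ ≤ pCoreOf p Hc :=
  ((Subgroup.commutator_mono le_rfl h.symm.K_le).trans h.comm_K_H₂_le).trans
    (pCoreOf_le_pCoreOf_of_normal (h.D_le_left.trans h.h1le) h.le_normalizer_D)

/-- `H_∘ = K₁ K₂`. -/
theorem Hyp.K_sup_K (h : Hyp p Q Hc H₁ H₂) :
    Kof p H₁ Q ⊔ Kof p H₂ Q = (pResidual p ↥Hc).map Hc.subtype := by
  apply le_antisymm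
  · apply sup_le
    · exact AsymH.pRes_mono ((nc_le le_sup_right).trans h.L_le)
    · exact AsymH.pRes_mono ((nc_le le_sup_right).trans h.symm.L_le)
  · have hQn : Q ≤ Subgroup.normalizer ((Kof p H₁ Q ⊔ Kof p H₂ Q : Subgroup G) : Set G) :=
      le_normalizer_sup' (h.hQHc.trans h.le_normalizer_K) (h.hQHc.trans h.symm.le_normalizer_K)
    apply pRes_le_of_sup_eq hQn h.hQp
    -- `H° ≤ Q K₁ K₂` since the latter is normal in `H°` and contains `Q`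
    have key : ∀ {A B : Subgroup G}, Hyp p Q Hc A B →
        A ≤ Subgroup.normalizer ((Q ⊔ (Kof p A Q ⊔ Kof p B Q) : Subgroup G) : Set G) := by
      intro A B hAB
      have e : Q ⊔ (Kof p A Q ⊔ Kof p B Q) = nc (A ⊔ Q) Q ⊔ Kof p B Q := by
        rw [hAB.nc_eq, sup_comm (Kof p A Q) Q, sup_assoc]
      rw [e]
      exact le_normalizer_sup' (le_sup_left.trans (le_normalizer_nc _ _))
        (hAB.h1le.trans hAB.symm.le_normalizer_K)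
    have hn : Hc ≤ Subgroup.normalizer ((Q ⊔ (Kof p H₁ Q ⊔ Kof p H₂ Q) : Subgroup G) : Set G) := by
      rw [← h.hprod]
      apply sup_le (key h)
      have := key h.symm
      rwa [sup_comm (Kof p H₂ Q)] at this
    rw [← h.nc_Hc]
    exact nc_le_of_le le_sup_left hn

theorem main (Q : Subgroup G) (hQp : IsPGroup p ↥Q)
    (hwc : Cfsg.IsWeaklyClosedSubgroup p Q) (Hc : Subgroup G) (hHc : Hc = Cfsg.weakClosure Q ⊤)
    (H₁ H₂ : Subgroup G)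
    (hn₁ : H₁ ≤ Hc ∧ Hc ≤ Subgroup.normalizer ((H₁ : Subgroup G) : Set G))
    (hn₂ : H₂ ≤ Hc ∧ Hc ≤ Subgroup.normalizer ((H₂ : Subgroup G) : Set G))
    (hprod : H₁ ⊔ H₂ = Hc) (hcomm : ⁅H₁, H₂⁆ ≤ Subgroup.normalizer ((Q : Subgroup G) : Set G))
    (K₁ K₂ : Subgroup G)
    (hK₁ : K₁ = ((Cfsg.pResidual p ↥(Cfsg.weakClosure Q (H₁ ⊔ Q))).map
      ((Cfsg.weakClosure Q (H₁ ⊔ Q))).subtype))
    (hK₂ : K₂ = ((Cfsg.pResidual p ↥(Cfsg.weakClosure Q (H₂ ⊔ Q))).map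
      ((Cfsg.weakClosure Q (H₂ ⊔ Q))).subtype)) :
    (⁅K₁, Q⁆ = K₁ ∧ ⁅K₁, H₁⁆ = K₁ ∧ K₁ ≤ ⁅H₁, H₁⁆ ∧
      Hc ≤ Subgroup.normalizer ((K₁ : Subgroup G) : Set G)) ∧
    (⁅K₂, Q⁆ = K₂ ∧ ⁅K₂, H₂⁆ = K₂ ∧ K₂ ≤ ⁅H₂, H₂⁆ ∧
      Hc ≤ Subgroup.normalizer ((K₂ : Subgroup G) : Set G)) ∧
    K₁ ⊔ K₂ = ((Cfsg.pResidual p ↥Hc).map (Hc).subtype) ∧
    ⁅K₁, K₂⁆ ≤ (Cfsg.pCoreOf p Hc) := by
  have e1 : K₁ = Kof p H₁ Q := by
    rw [hK₁]; unfold Kof; rw [weakClosure_eq_nc hQp hwc le_sup_right]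
  have e2 : K₂ = Kof p H₂ Q := by
    rw [hK₂]; unfold Kof; rw [weakClosure_eq_nc hQp hwc le_sup_right]
  have h : Hyp p Q Hc H₁ H₂ :=
    ⟨hQp, hwc, by rw [hHc, weakClosure_eq_nc hQp hwc le_top], hn₁.1, hn₁.2, hn₂.1, hn₂.2, hprod,
      hcomm⟩
  rw [e1, e2]
  exact ⟨⟨h.K_comm_Q, h.comm_K_H, h.K_le_derived, h.le_normalizer_K⟩,
    ⟨h.symm.K_comm_Q, h.symm.comm_K_H, h.symm.K_le_derived, h.symm.le_normalizer_K⟩,
    h.K_sup_K, h.comm_K_K_le⟩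

end main

end Cfsg.Agent.Lib.Helper7.WCFact
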