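import Mathlib
import Cfsg.Prelude.Def_LocalStructure
import Cfsg.Agent.Lib.Helper7.AsymH3
import Cfsg.Agent.Lib.Helper7.AsymY
import Cfsg.Agent.Lib.Helper7.PReduced8
import Cfsg.Agent.Lib.Helper7.WCFact

set_option autoImplicit false

namespace Cfsg.Agent.Lib.Helper7.FrakMExist

open Cfsg Cfsg.Agent.Lib.Helper7 Cfsg.Agent.Lib.Lead.Conj Cfsg.Agent.Lib.Helper7.LargeComm
  Cfsg.Agent.Lib.Helper7.AsymH
open scoped Pointwise commutatorElement

variable {H : Type*} [Group H] {p : ℕ}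

section basic

variable [Finite H] [Fact p.Prime]

theorem pCoreOf_le_sylow (T : Sylow p H) {M : Subgroup H} (hTM : (T : Subgroup H) ≤ M) :
    pCoreOf p M ≤ T :=
  (IsSylowIn.of_sylow_le T hTM).normal_le (pCoreOf_le M) (le_normalizer_pCoreOf M)
    (pCoreOf_isPGroup M)

omit [Finite H] [Fact p.Prime] in
theorem pCoreOf_ne_bot {M : Subgroup H} (h : pCore p ↥M ≠ ⊥) : pCoreOf p M ≠ ⊥ := by
  intro hb
  apply h
  unfold pCoreOf at hb
  rwa [Subgroup.map_eq_bot_iff_of_injective _ M.subtype_injective] at hb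

omit [Finite H] [Fact p.Prime] in
theorem pCore_ne_bot_of_pCoreOf {M : Subgroup H} (h : pCoreOf p M ≠ ⊥) : pCore p ↥M ≠ ⊥ := by
  intro hb
  apply h
  unfold pCoreOf
  rw [hb, Subgroup.map_bot]

omit [Finite H] [Fact p.Prime] in
theorem mem_charPSubgroups_iff {M : Subgroup H} :
    M ∈ charPSubgroups p H ↔ pCoreOf p M ≠ ⊥ ∧
      Subgroup.centralizer ((pCoreOf p M : Subgroup H) : Set H) ≤ pCoreOf p M := by
  constructor
  · rintro ⟨h1, h2⟩
    exact ⟨pCoreOf_ne_bot h1, h2⟩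
  · rintro ⟨h1, h2⟩
    exact ⟨pCore_ne_bot_of_pCoreOf h1, h2⟩

/-- In a group of parabolic characteristic `p`, every parabolic subgroup with `O_p ≠ 1` lies in `𝓛_H`. -/
theorem mem_charPSubgroups_of_parabolic (hH : IsOfParabolicCharacteristic p H) (T : Sylow p H)
    (X : Subgroup H) (hTX : (T : Subgroup H) ≤ X) (hO : pCoreOf p X ≠ ⊥) :
    X ∈ charPSubgroups p H := by
  rw [mem_charPSubgroups_iff]
  refine ⟨hO, ?_⟩
  obtain ⟨R, hRdef⟩ : ∃ R, R = pCoreOf p X := ⟨_, rfl⟩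
  have hRp : IsPGroup p ↥R := hRdef ▸ pCoreOf_isPGroup X
  have hR1 : R ≠ ⊥ := hRdef ▸ hO
  have hXN : X ≤ Subgroup.normalizer (R : Set H) := hRdef ▸ le_normalizer_pCoreOf X
  have hpar : IsParabolic p (Subgroup.normalizer (R : Set H)) := ⟨T, hTX.trans hXN⟩
  have hint := hH R hRp hR1 hpar
  obtain ⟨N, hNdef⟩ : ∃ N, N = Subgroup.normalizer (R : Set H) := ⟨_, rfl⟩
  rw [← hNdef] at hint hXN hpar
  have hRN : R ≤ pCoreOf p N := by
    apply le_pCoreOf _ _ hRp
    · rw [hNdef]; exact Subgroup.le_normalizer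
    · rw [hNdef]
  -- ambient form of the characteristic `p` property of `N`
  have hamb : Subgroup.centralizer ((pCoreOf p N : Subgroup H) : Set H) ≤ pCoreOf p N := by
    intro z hz
    have hzN : z ∈ N := by
      rw [hNdef]
      exact Subgroup.centralizer_le_normalizer _ (Subgroup.centralizer_le hRN hz)
    have hz' : (⟨z, hzN⟩ : ↥N) ∈ Subgroup.centralizer (pCore p ↥N : Set ↥N) := by
      rw [Subgroup.mem_centralizer_iff]
      intro y hy
      apply Subtype.ext
      exact Subgroup.mem_centralizer_iff.mp hz (y : H) ⟨y, hy, rfl⟩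
    exact ⟨⟨z, hzN⟩, hint hz', rfl⟩
  have hNX : pCoreOf p N ≤ pCoreOf p X := by
    apply le_pCoreOf ((pCoreOf_le_sylow T (hTX.trans hXN)).trans hTX)
      (hXN.trans (le_normalizer_pCoreOf N)) (pCoreOf_isPGroup N)
  rw [← hRdef]
  exact (Subgroup.centralizer_le (hRdef ▸ hNX)).trans (hamb.trans (hRdef ▸ hNX))

omit [Finite H] [Fact p.Prime] in
/-- `O_p(X)` centralizes every relatively `p`-reduced `V`. -/
theorem pRedN_pCoreOf_le_centralizer {X V : Subgroup H} (hV : PRedN p X V) :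
    pCoreOf p X ≤ Subgroup.centralizer (V : Set H) := by
  apply hV.2.2.2.2 _ (pCoreOf_le X) (le_normalizer_pCoreOf X)
  intro x hx
  obtain ⟨k, hk⟩ := (pCoreOf_isPGroup (p := p) X) ⟨x, hx⟩
  refine ⟨k, ?_⟩
  have : x ^ p ^ k = 1 := by
    have := congrArg Subtype.val hk
    simpa using this
  rw [this]
  exact Subgroup.one_mem _

/-- The normal closure in a parabolic overgroup of characteristic `p` of a relatively `p`-reduced
subgroup is relatively `p`-reduced. -/
theorem pRedN_nc (T : Sylow p H) {X X' V : Subgroup H} (hTX : (T : Subgroup H) ≤ X) (hXX' : X ≤ X')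
    (hX' : Subgroup.centralizer ((pCoreOf p X' : Subgroup H) : Set H) ≤ pCoreOf p X')
    (hV : PRedN p X V) : PRedN p X' (nc X' V) := by
  have hTX' := hTX.trans hXX'
  have hVX' : V ≤ X' := hV.1.trans hXX'
  have hOO : pCoreOf p X' ≤ pCoreOf p X :=
    le_pCoreOf ((pCoreOf_le_sylow T hTX').trans hTX) (hXX'.trans (le_normalizer_pCoreOf X'))
      (pCoreOf_isPGroup X')
  have hVC : V ≤ Subgroup.centralizer ((pCoreOf p X' : Subgroup H) : Set H) := by
    rw [Subgroup.le_centralizer_iff]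
    exact hOO.trans (pRedN_pCoreOf_le_centralizer hV)
  obtain ⟨Z, hZdef⟩ : ∃ Z, Z = pCoreOf p X' ⊓
      Subgroup.centralizer ((pCoreOf p X' : Subgroup H) : Set H) := ⟨_, rfl⟩
  have hVZ : V ≤ Z := by rw [hZdef]; exact le_inf (hVC.trans hX') hVC
  have hX'Z : X' ≤ Subgroup.normalizer (Z : Set H) := by
    intro x hx
    rw [hZdef]
    exact WCFact.mem_normalizer_inf_of_mem (le_normalizer_pCoreOf X' hx)
      (normalizer_le_normalizer_centralizer'' _ (le_normalizer_pCoreOf X' hx))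
  have hWZ : nc X' V ≤ Z := nc_le_of_le hVZ hX'Z
  have hZc : ∀ a ∈ Z, ∀ b ∈ Z, a * b = b * a := by
    intro a ha b hb
    rw [hZdef] at ha hb
    exact (Subgroup.mem_centralizer_iff.mp ha.2 b hb.1).symm
  have hgen : ∀ g ∈ conjSet X' V, g ∈ Z ∧ g ^ p = 1 := by
    rintro _ ⟨l, hl, v, hv, rfl⟩
    refine ⟨conj_mem_of_le_normalizer hX'Z hl (hVZ hv), ?_⟩
    rw [conj_pow, hV.2.2.2.1 v hv, mul_one, mul_inv_cancel]
  have hel := isElementaryAbelian_closure (p := p) (X := conjSet X' V)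
    (fun a ha b hb => hZc a (hgen a ha).1 b (hgen b hb).1) (fun a ha => (hgen a ha).2)
  refine ⟨nc_le hVX', le_normalizer_nc X' V, ?_, hel.2, ?_⟩
  · intro a ha b hb
    exact hZc a (hWZ ha) b (hWZ hb)
  · intro D hDX' hX'D hpow
    have hCW : Subgroup.centralizer ((nc X' V : Subgroup H) : Set H) ≤
        Subgroup.centralizer (V : Set H) := Subgroup.centralizer_le (le_nc X' V)
    -- `D ∩ X ≤ C(V)`
    have h1 : D ⊓ X ≤ Subgroup.centralizer (V : Set H) := by
      apply hV.2.2.2.2 _ inf_le_right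
      · intro x hx
        exact WCFact.mem_normalizer_inf_of_mem (hX'D (hXX' hx)) (Subgroup.le_normalizer hx)
      · intro x hx
        obtain ⟨k, hk⟩ := hpow x hx.1
        exact ⟨k, hCW hk⟩
    have hP : IsSylowIn p ((T : Subgroup H) ⊓ D) D :=
      (IsSylowIn.of_sylow_le T hTX').inf_normal D hDX' hX'D
    have hX'C : X' ≤ Subgroup.normalizer
        ((Subgroup.centralizer ((nc X' V : Subgroup H) : Set H) : Subgroup H) : Set H) :=
      (le_normalizer_nc X' V).trans (normalizer_le_normalizer_centralizer'' _)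
    have h2 : D ≤ (D ⊓ Subgroup.centralizer ((nc X' V : Subgroup H) : Set H)) ⊔
        ((T : Subgroup H) ⊓ D) := by
      apply AsymY.le_sup_sylow inf_le_left _ hP
      · intro x hx
        obtain ⟨k, hk⟩ := hpow x hx
        exact ⟨k, D.pow_mem hx _, hk⟩
      · intro x hx
        exact WCFact.mem_normalizer_inf_of_mem (Subgroup.le_normalizer hx) (hX'C (hDX' hx))
    have h3 : D ≤ Subgroup.centralizer (V : Set H) := by
      apply h2.trans
      apply sup_le (inf_le_right.trans hCW)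
      exact (le_inf inf_le_right (inf_le_left.trans hTX)).trans h1
    rw [Subgroup.le_centralizer_iff]
    unfold LargeComm.nc
    rw [Subgroup.closure_le]
    rintro _ ⟨l, hl, v, hv, rfl⟩
    show l * v * l⁻¹ ∈ Subgroup.centralizer (D : Set H)
    rw [Subgroup.mem_centralizer_iff]
    intro d hd
    have hd' : l⁻¹ * d * l ∈ D := conj_mem_of_le_normalizer' hX'D hl hd
    have h4 := Subgroup.mem_centralizer_iff.mp (h3 hd') v hv
    calc d * (l * v * l⁻¹) = l * ((l⁻¹ * d * l) * v) * l⁻¹ := by group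
      _ = l * (v * (l⁻¹ * d * l)) * l⁻¹ := by rw [h4]
      _ = l * v * l⁻¹ * d := by group

/-- Monotonicity of `Y` on parabolic subgroups. -/
theorem largestPReducedOf_mono (T : Sylow p H) {X X' : Subgroup H} (hTX : (T : Subgroup H) ≤ X)
    (hXX' : X ≤ X')
    (hX' : Subgroup.centralizer ((pCoreOf p X' : Subgroup H) : Set H) ≤ pCoreOf p X') :
    largestPReducedOf p X ≤ largestPReducedOf p X' :=
  (le_nc X' _).trans
    (PRedN.le_largestPReducedOf (pRedN_nc T hTX hXX' hX' (pRedN_largestPReducedOf X)))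

omit [Finite H] in
theorem omegaOne_ne_bot {A : Subgroup H} (hA : IsPGroup p ↥A) (hA1 : A ≠ ⊥) : omegaOne p A ≠ ⊥ := by
  have hp : p.Prime := Fact.out
  obtain ⟨x, hx, hx1⟩ := (Subgroup.ne_bot_iff_exists_ne_one (H := A)).mp hA1 |>.imp
    (fun x h => h) |> fun ⟨x, h⟩ => (⟨(x : H), x.2, fun e => h (Subtype.ext e)⟩ :
      ∃ x : H, x ∈ A ∧ x ≠ 1)
  obtain ⟨k, hk⟩ := hA ⟨x, hx⟩
  have hk' : x ^ p ^ k = 1 := by
    have := congrArg Subtype.val hk
    simpa using this
  -- minimal such exponent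
  have hex : ∃ k : ℕ, x ^ p ^ k = 1 := ⟨k, hk'⟩
  obtain ⟨m, hm, hmin⟩ : ∃ m : ℕ, x ^ p ^ m = 1 ∧ ∀ j < m, x ^ p ^ j ≠ 1 := by
    classical
    exact ⟨Nat.find hex, Nat.find_spec hex, fun j hj => Nat.find_min hex hj⟩
  have hm0 : m ≠ 0 := by
    intro h0
    rw [h0, pow_zero, pow_one] at hm
    exact hx1 hm
  obtain ⟨j, rfl⟩ := Nat.exists_eq_succ_of_ne_zero hm0
  have hy1 : x ^ p ^ j ≠ 1 := hmin j (Nat.lt_succ_self j)
  have hyp : (x ^ p ^ j) ^ p = 1 := by rw [← pow_mul, ← pow_succ]; exact hm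
  intro hb
  apply hy1
  have hmem : x ^ p ^ j ∈ omegaOne p A := Subgroup.subset_closure ⟨A.pow_mem hx _, hyp⟩
  rw [hb, Subgroup.mem_bot] at hmem
  exact hmem

theorem largestPReducedOf_ne_bot (T : Sylow p H) {X : Subgroup H} (hTX : (T : Subgroup H) ≤ X)
    (hX : X ∈ charPSubgroups p H) : largestPReducedOf p X ≠ ⊥ := by
  have hchar := charP_internal_of_mem_charPSubgroups hX
  obtain ⟨-, -, -, h4, h5, -⟩ := largest_pReduced_sylow_props T X hTX hchar _ rfl
  have hT1 : (T : Subgroup H) ≠ ⊥ := by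
    intro hb
    have h1 := pCoreOf_le_sylow T hTX
    rw [hb, le_bot_iff] at h1
    exact pCoreOf_ne_bot hX.1 h1
  have hZ1 := inf_centralizer_ne_bot T.isPGroup' hT1
  have hZp : IsPGroup p ↥((T : Subgroup H) ⊓ Subgroup.centralizer ((T : Subgroup H) : Set H)) :=
    T.isPGroup'.to_le inf_le_left
  have h6 := omegaOne_ne_bot hZp hZ1
  intro hb
  apply h6
  rw [eq_bot_iff, ← hb]
  exact h4.trans h5

end basic

end Cfsg.Agent.Lib.Helper7.FrakMExist
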