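import Mathlib
import Cfsg.Prelude.Def_LocalStructure
import Cfsg.Agent.Lib.Helper7.FrakMExistA
import Cfsg.Agent.Lib.Helper7.AmalgamCritical2
import Cfsg.Agent.Lib.Lead.ProdCard

set_option autoImplicit false

namespace Cfsg.Agent.Lib.Helper7.FrakMExist

open Cfsg Cfsg.Agent.Lib.Helper7 Cfsg.Agent.Lib.Lead.Conj Cfsg.Agent.Lib.Helper7.LargeComm
  Cfsg.Agent.Lib.Helper7.AsymH
open scoped Pointwise commutatorElement

section counting

variable {p : ℕ} [Fact p.Prime]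

theorem factorization_eq_of_sup_eq_top {G : Type*} [Group G] [Finite G] (U A P₀ : Subgroup G)
    [A.Normal] (hsup : U ⊔ A = ⊤) (hP₀ : P₀ ≤ U ⊓ A)
    (hcard : Nat.card ↥P₀ = p ^ (Nat.card ↥A).factorization p) :
    (Nat.card ↥U).factorization p = (Nat.card G).factorization p := by
  have hp : p.Prime := Fact.out
  have h1 := Cfsg.Agent.Lib.Lead.ProdCard.card_mul_card_eq U A
  have h2 : ((U : Set G) * (A : Set G)).ncard = Nat.card G := by
    rw [← Subgroup.mul_normal, hsup, Subgroup.coe_top, Set.ncard_univ]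
  rw [h2] at h1
  have hU0 : Nat.card ↥U ≠ 0 := Nat.card_pos.ne'
  have hA0 : Nat.card ↥A ≠ 0 := Nat.card_pos.ne'
  have hG0 : Nat.card G ≠ 0 := Nat.card_pos.ne'
  have hI0 : Nat.card ↥(U ⊓ A) ≠ 0 := Nat.card_pos.ne'
  have h3 := congrArg (fun n => n.factorization p) h1
  simp only [Nat.factorization_mul hU0 hA0, Nat.factorization_mul hG0 hI0,
    Finsupp.coe_add, Pi.add_apply] at h3
  have h4 : (Nat.card ↥(U ⊓ A)).factorization p ≤ (Nat.card ↥A).factorization p :=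
    (Nat.factorization_le_iff_dvd hI0 hA0).mpr (Subgroup.card_dvd_of_le inf_le_right) p
  have h5 : (Nat.card ↥A).factorization p ≤ (Nat.card ↥(U ⊓ A)).factorization p := by
    have hd : p ^ (Nat.card ↥A).factorization p ∣ Nat.card ↥(U ⊓ A) := by
      rw [← hcard]; exact Subgroup.card_dvd_of_le hP₀
    exact (hp.pow_dvd_iff_le_factorization hI0).mp hd
  omega

variable {H : Type*} [Group H] [Finite H]

theorem exists_conj_le_of_sup (T : Sylow p H) {M U A T₀ : Subgroup H}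
    (hTM : (T : Subgroup H) ≤ M) (hUM : U ≤ M) (hAM : A ≤ M)
    (hMA : M ≤ Subgroup.normalizer (A : Set H)) (hsup : M ≤ U ⊔ A) (hT₀ : IsSylowIn p T₀ A)
    (hT₀U : T₀ ≤ U) : ∃ m ∈ M, (T : Subgroup H) ≤ cj m U := by
  have hAn : (A.subgroupOf M).Normal := (Subgroup.normal_subgroupOf_iff_le_normalizer hAM).mpr hMA
  have hsup' : U.subgroupOf M ⊔ A.subgroupOf M = ⊤ := by
    rw [← Subgroup.subgroupOf_sup hUM hAM, Subgroup.subgroupOf_eq_top]
    exact hsup
  have hT₀M : T₀ ≤ M := hT₀.1.trans hAM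
  have hP₀ : T₀.subgroupOf M ≤ U.subgroupOf M ⊓ A.subgroupOf M :=
    le_inf (Subgroup.subgroupOf_mono _ hT₀U) (Subgroup.subgroupOf_mono _ hT₀.1)
  have hcard : Nat.card ↥(T₀.subgroupOf M) = p ^ (Nat.card ↥(A.subgroupOf M)).factorization p := by
    rw [card_subgroupOf_of_le hT₀M, card_subgroupOf_of_le hAM]
    exact hT₀.2
  have hf := factorization_eq_of_sup_eq_top (p := p) _ _ _ hsup' hP₀ hcard
  rw [card_subgroupOf_of_le hUM] at hf
  obtain ⟨P₁, hP₁, -⟩ := exists_isSylowIn_ge (p := p) (Q := ⊥) (H := U) IsPGroup.of_bot bot_le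
  have hP₁M : IsSylowIn p P₁ M := hP₁.of_le_of_factorization hUM hf
  obtain ⟨m, hm, he⟩ := hP₁M.conj (IsSylowIn.of_sylow_le T hTM)
  refine ⟨m, hm, ?_⟩
  rw [he]
  exact cj_mono m hP₁.1

end counting

section minimal

variable {p : ℕ} [Fact p.Prime] {H : Type*} [Group H] [Finite H]

/-- `M` is of minimal order among the subgroups `T ≤ M ≤ M̃` with `M C̃ = M̃`. -/
structure MinCtx (p : ℕ) (T : Sylow p H) (Mt Ct M : Subgroup H) : Prop where
  hCM : Ct ≤ Mt
  hMC : Mt ≤ Subgroup.normalizer (Ct : Set H)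
  hTM : (T : Subgroup H) ≤ M
  hMMt : M ≤ Mt
  hsup : M ⊔ Ct = Mt
  hmin : ∀ M' : Subgroup H, (T : Subgroup H) ≤ M' → M' ≤ Mt → M' ⊔ Ct = Mt →
    Nat.card ↥M ≤ Nat.card ↥M'

variable {T : Sylow p H} {Mt Ct M : Subgroup H}

omit [Fact p.Prime] [Finite H] in
theorem MinCtx.le_normalizer_inf (h : MinCtx p T Mt Ct M) :
    M ≤ Subgroup.normalizer ((M ⊓ Ct : Subgroup H) : Set H) := by
  intro x hx
  exact WCFact.mem_normalizer_inf_of_mem (Subgroup.le_normalizer hx) (h.hMC (h.hMMt hx))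

omit [Fact p.Prime] in
theorem MinCtx.eq_of_le (h : MinCtx p T Mt Ct M) {M' : Subgroup H} (hTM' : (T : Subgroup H) ≤ M')
    (hM'M : M' ≤ M) (hsup : M ≤ M' ⊔ (M ⊓ Ct)) : M' = M := by
  apply Subgroup.eq_of_le_of_card_ge hM'M
  apply h.hmin M' hTM' (hM'M.trans h.hMMt)
  apply le_antisymm (sup_le (hM'M.trans h.hMMt) h.hCM)
  rw [← h.hsup]
  apply sup_le _ le_sup_right
  exact hsup.trans (sup_le le_sup_left (inf_le_right.trans le_sup_right))

theorem MinCtx.le_normalizer_sylow (h : MinCtx p T Mt Ct M) :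
    M ≤ Subgroup.normalizer (((T : Subgroup H) ⊓ (M ⊓ Ct) : Subgroup H) : Set H) := by
  have hT₀ : IsSylowIn p ((T : Subgroup H) ⊓ (M ⊓ Ct)) (M ⊓ Ct) :=
    (IsSylowIn.of_sylow_le T h.hTM).inf_normal _ inf_le_left h.le_normalizer_inf
  have hfr := hT₀.frattini inf_le_left h.le_normalizer_inf
  have hTN : (T : Subgroup H) ≤ M ⊓ Subgroup.normalizer
      (((T : Subgroup H) ⊓ (M ⊓ Ct) : Subgroup H) : Set H) := by
    apply le_inf h.hTM
    intro x hx
    exact WCFact.mem_normalizer_inf_of_mem (Subgroup.le_normalizer hx)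
      (h.le_normalizer_inf (h.hTM hx))
  have := h.eq_of_le hTN inf_le_left hfr
  exact (le_of_eq this.symm).trans inf_le_right

theorem MinCtx.isPClosed (h : MinCtx p T Mt Ct M) : IsPClosed p ↥(M ⊓ Ct) := by
  have hT₀ : IsSylowIn p ((T : Subgroup H) ⊓ (M ⊓ Ct)) (M ⊓ Ct) :=
    (IsSylowIn.of_sylow_le T h.hTM).inf_normal _ inf_le_left h.le_normalizer_inf
  obtain ⟨R, hR⟩ := hT₀.exists_sylow
  rw [isPClosed_iff_normal R, hR, Subgroup.normal_subgroupOf_iff_le_normalizer hT₀.1]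
  exact inf_le_left.trans h.le_normalizer_sylow

theorem MinCtx.map_le_frattini (h : MinCtx p T Mt Ct M) :
    ((M ⊓ Ct).subgroupOf M).map (QuotientGroup.mk' (pCore p ↥M)) ≤
      _root_.frattini (↥M ⧸ pCore p ↥M) := by
  unfold _root_.frattini Order.radical
  apply le_iInf₂
  intro K hK
  have hK' : IsCoatom K := hK
  by_contra hnot
  have hsurj : Function.Surjective (QuotientGroup.mk' (pCore p ↥M)) := QuotientGroup.mk'_surjective _
  obtain ⟨A', hA'def⟩ : ∃ A', A' = (M ⊓ Ct).subgroupOf M := ⟨_, rfl⟩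
  rw [← hA'def] at hnot
  obtain ⟨U', hU'def⟩ : ∃ U', U' = K.comap (QuotientGroup.mk' (pCore p ↥M)) := ⟨_, rfl⟩
  have hsupK : K ⊔ A'.map (QuotientGroup.mk' (pCore p ↥M)) = ⊤ := by
    apply hK'.2
    apply lt_of_le_of_ne le_sup_left
    intro e
    apply hnot
    rw [e]
    exact le_sup_right
  have hOU' : pCore p ↥M ≤ U' := by
    rw [hU'def]
    have := MonoidHom.ker_le_comap (QuotientGroup.mk' (pCore p ↥M)) K
    rwa [QuotientGroup.ker_mk'] at this
  have hU'A' : U' ⊔ A' = ⊤ := by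
    have h1 := congrArg (Subgroup.comap (QuotientGroup.mk' (pCore p ↥M))) hsupK
    rw [← Subgroup.comap_sup_eq _ _ _ hsurj, Subgroup.comap_map_eq, QuotientGroup.ker_mk',
      Subgroup.comap_top, ← hU'def] at h1
    rw [eq_top_iff, ← h1]
    exact sup_le le_sup_left (sup_le le_sup_right (hOU'.trans le_sup_left))
  have hU'top : U' ≠ ⊤ := by
    intro e
    apply hK'.1
    rw [← Subgroup.map_comap_eq_self_of_surjective hsurj K, ← hU'def, e, ← MonoidHom.range_eq_map,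
      MonoidHom.range_eq_top]
    exact hsurj
  -- ambient versions
  obtain ⟨U, hUdef⟩ : ∃ U, U = U'.map M.subtype := ⟨_, rfl⟩
  have hUM : U ≤ M := hUdef ▸ Subgroup.map_subtype_le _
  have hAmap : A'.map M.subtype = M ⊓ Ct := by
    rw [hA'def]; exact Subgroup.map_subgroupOf_eq_of_le inf_le_left
  have hsup : M ≤ U ⊔ (M ⊓ Ct) := by
    intro x hx
    have h1 : (⟨x, hx⟩ : ↥M) ∈ U' ⊔ A' := by rw [hU'A']; trivial
    have h2 : x ∈ (U' ⊔ A').map M.subtype := ⟨⟨x, hx⟩, h1, rfl⟩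
    rwa [Subgroup.map_sup, ← hUdef, hAmap] at h2
  have hT₀ : IsSylowIn p ((T : Subgroup H) ⊓ (M ⊓ Ct)) (M ⊓ Ct) :=
    (IsSylowIn.of_sylow_le T h.hTM).inf_normal _ inf_le_left h.le_normalizer_inf
  have hT₀U : (T : Subgroup H) ⊓ (M ⊓ Ct) ≤ U := by
    have h1 : (T : Subgroup H) ⊓ (M ⊓ Ct) ≤ pCoreOf p M :=
      le_pCoreOf (inf_le_right.trans inf_le_left) h.le_normalizer_sylow hT₀.isPGroup
    apply h1.trans
    rw [hUdef]
    exact Subgroup.map_mono hOU'
  obtain ⟨m, hm, hTm⟩ := exists_conj_le_of_sup T h.hTM hUM inf_le_left h.le_normalizer_inf hsup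
    hT₀ hT₀U
  have hU₂M : cj m U ≤ M := by
    rintro _ ⟨u, hu, rfl⟩
    exact M.mul_mem (M.mul_mem hm (hUM hu)) (M.inv_mem hm)
  have hsup₂ : M ≤ cj m U ⊔ (M ⊓ Ct) := by
    have h1 : cj m M = M := cj_eq_of_mem_normalizer (Subgroup.le_normalizer hm)
    have h2 : cj m (M ⊓ Ct) = M ⊓ Ct := cj_eq_of_mem_normalizer (h.le_normalizer_inf hm)
    have h3 := cj_mono m hsup
    rw [h1] at h3
    apply h3.trans
    unfold cj
    rw [Subgroup.map_sup]
    apply sup_le le_sup_left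
    have : (M ⊓ Ct).map (MulAut.conj m).toMonoidHom = M ⊓ Ct := h2
    rw [this]
    exact le_sup_right
  have he := h.eq_of_le hTm hU₂M hsup₂
  have hcard : Nat.card ↥M ≤ Nat.card ↥U := by
    rw [← card_cj m U, he]
  have hUeq : U = M := Subgroup.eq_of_le_of_card_ge hUM hcard
  apply hU'top
  rw [eq_top_iff]
  intro x _
  have hx : (x : H) ∈ U := by rw [hUeq]; exact x.2
  rw [hUdef] at hx
  obtain ⟨y, hy, hyx⟩ := hx
  have : y = x := Subtype.ext hyx
  rwa [this] at hy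

end minimal

end Cfsg.Agent.Lib.Helper7.FrakMExist
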