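import Mathlib
import Cfsg.Prelude.Def_LocalStructure
import Cfsg.Agent.Lib.Helper7.FrakMExistB

set_option autoImplicit false

namespace Cfsg.Agent.Lib.Helper7.FrakMExist

open Cfsg Cfsg.Agent.Lib.Helper7 Cfsg.Agent.Lib.Lead.Conj Cfsg.Agent.Lib.Helper7.LargeComm
  Cfsg.Agent.Lib.Helper7.AsymH
open scoped Pointwise commutatorElement

variable {p : ℕ} [Fact p.Prime] {H : Type*} [Group H] [Finite H]

/-- the parabolic characteristic `p` hypothesis, in the form used here -/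
def PC (p : ℕ) (T : Sylow p H) : Prop :=
  ∀ X : Subgroup H, (T : Subgroup H) ≤ X → pCoreOf p X ≠ ⊥ → X ∈ charPSubgroups p H

variable {T : Sylow p H}

omit [Fact p.Prime] in
theorem le_normalizer_Y {X : Subgroup H} (hX : X ∈ charPSubgroups p H) :
    X ≤ Subgroup.normalizer ((largestPReducedOf p X : Subgroup H) : Set H) :=
  le_normalizer_largestPReducedOf X (charP_internal_of_mem_charPSubgroups hX)

theorem Y_le_sylow {X : Subgroup H} (hTX : (T : Subgroup H) ≤ X) (hX : X ∈ charPSubgroups p H) :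
    largestPReducedOf p X ≤ T :=
  largestPReducedOf_le_sylow T X hTX (charP_internal_of_mem_charPSubgroups hX)

theorem normalizer_Y_mem (hPC : PC p T) {X : Subgroup H} (hTX : (T : Subgroup H) ≤ X)
    (hX : X ∈ charPSubgroups p H) :
    Subgroup.normalizer ((largestPReducedOf p X : Subgroup H) : Set H) ∈ charPSubgroups p H := by
  apply hPC _ (hTX.trans (le_normalizer_Y hX))
  intro hb
  apply largestPReducedOf_ne_bot T hTX hX
  have h1 : largestPReducedOf p X ≤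
      pCoreOf p (Subgroup.normalizer ((largestPReducedOf p X : Subgroup H) : Set H)) :=
    le_pCoreOf Subgroup.le_normalizer le_rfl (T.isPGroup'.to_le (Y_le_sylow hTX hX))
  rw [hb, le_bot_iff] at h1
  exact h1

/-- subgroups `M` of a parabolic `X ∈ 𝓛_H` containing `T` are in `𝓛_H` -/
theorem mem_charP_of_le (hPC : PC p T) {M X : Subgroup H} (hTM : (T : Subgroup H) ≤ M)
    (hMX : M ≤ X) (hX : X ∈ charPSubgroups p H) : M ∈ charPSubgroups p H := by
  apply hPC M hTM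
  intro hb
  have h1 : pCoreOf p X ≤ pCoreOf p M :=
    le_pCoreOf ((pCoreOf_le_sylow T (hTM.trans hMX)).trans hTM)
      (hMX.trans (le_normalizer_pCoreOf X)) (pCoreOf_isPGroup X)
  rw [hb, le_bot_iff] at h1
  exact pCoreOf_ne_bot hX.1 h1

/-- Existence of `M ∈ 𝔐_H(T)` and `L*`. -/
theorem exists_frakM (hPC : PC p T) (L : Subgroup H) (hTL : (T : Subgroup H) ≤ L)
    (hL : L ∈ charPSubgroups p H) :
    ∃ M Ls : Subgroup H, (T : Subgroup H) ≤ M ∧ IsInFrakM p M ∧ (T : Subgroup H) ≤ Ls ∧ Ls ≤ M ∧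
      Ls ∈ charPSubgroups p H ∧ largestPReducedOf p L = largestPReducedOf p Ls ∧
      largestPReducedOf p L ≤ largestPReducedOf p M ∧
      L ⊔ Subgroup.centralizer ((largestPReducedOf p L : Subgroup H) : Set H) =
        Ls ⊔ Subgroup.centralizer ((largestPReducedOf p L : Subgroup H) : Set H) := by
  classical
  obtain ⟨YL, hYLdef⟩ : ∃ YL, YL = largestPReducedOf p L := ⟨_, rfl⟩
  obtain ⟨CL, hCLdef⟩ : ∃ CL, CL = Subgroup.centralizer ((YL : Subgroup H) : Set H) := ⟨_, rfl⟩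
  rw [← hYLdef, ← hCLdef]
  obtain ⟨𝒮, h𝒮def⟩ : ∃ 𝒮 : Set (Subgroup H), 𝒮 = {X | (T : Subgroup H) ≤ X ∧
      X ∈ charPSubgroups p H ∧ YL ≤ largestPReducedOf p X ∧
      ∀ l ∈ L, ∃ x ∈ X, ∃ c ∈ CL, l = x * c} := ⟨_, rfl⟩
  have hL𝒮 : L ∈ 𝒮 := by
    rw [h𝒮def]
    exact ⟨hTL, hL, hYLdef.le, fun l hl => ⟨l, hl, 1, Subgroup.one_mem _, (mul_one l).symm⟩⟩
  -- upward closure of `𝒮`
  have hup : ∀ X ∈ 𝒮, ∀ X' : Subgroup H, X ≤ X' → X' ∈ charPSubgroups p H → X' ∈ 𝒮 := by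
    intro X hX X' hXX' hX'
    rw [h𝒮def] at hX ⊢
    obtain ⟨h1, h2, h3, h4⟩ := hX
    refine ⟨h1.trans hXX', hX', h3.trans (largestPReducedOf_mono T h1 hXX' hX'.2), ?_⟩
    intro l hl
    obtain ⟨x, hx, c, hc, e⟩ := h4 l hl
    exact ⟨x, hXX' hx, c, hc, e⟩
  obtain ⟨X₀, hX₀, hmax⟩ := Set.exists_max_image 𝒮 (fun X => Nat.card ↥(largestPReducedOf p X))
    (Set.toFinite _) ⟨L, hL𝒮⟩
  have hmax' : ∀ X' ∈ 𝒮, largestPReducedOf p X₀ ≤ largestPReducedOf p X' →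
      largestPReducedOf p X' = largestPReducedOf p X₀ := by
    intro X' hX' hle
    exact (Subgroup.eq_of_le_of_card_ge hle (hmax X' hX')).symm
  have hX₀' : (T : Subgroup H) ≤ X₀ ∧ X₀ ∈ charPSubgroups p H ∧ YL ≤ largestPReducedOf p X₀ ∧
      ∀ l ∈ L, ∃ x ∈ X₀, ∃ c ∈ CL, l = x * c := by
    rw [h𝒮def] at hX₀; exact hX₀
  obtain ⟨hTX₀, hX₀c, hYLX₀, hLX₀⟩ := hX₀'
  -- `M̃`
  obtain ⟨Mt, hMtdef⟩ : ∃ Mt, Mt = Subgroup.normalizer ((largestPReducedOf p X₀ : Subgroup H) : Set H) :=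
    ⟨_, rfl⟩
  have hX₀Mt : X₀ ≤ Mt := hMtdef ▸ le_normalizer_Y hX₀c
  have hMtc : Mt ∈ charPSubgroups p H := hMtdef ▸ normalizer_Y_mem hPC hTX₀ hX₀c
  have hTMt : (T : Subgroup H) ≤ Mt := hTX₀.trans hX₀Mt
  have hMt𝒮 : Mt ∈ 𝒮 := hup X₀ hX₀ Mt hX₀Mt hMtc
  have hYMt : largestPReducedOf p Mt = largestPReducedOf p X₀ :=
    hmax' Mt hMt𝒮 (largestPReducedOf_mono T hTX₀ hX₀Mt hMtc.2)
  have hNYMt : Subgroup.normalizer ((largestPReducedOf p Mt : Subgroup H) : Set H) = Mt := by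
    rw [hYMt, hMtdef]
  have hMtmax : ∀ X' ∈ charPSubgroups p H, Mt ≤ X' → X' = Mt := by
    intro X' hX'c hMtX'
    have hX'𝒮 : X' ∈ 𝒮 := hup Mt hMt𝒮 X' hMtX' hX'c
    have h1 : largestPReducedOf p X' = largestPReducedOf p X₀ := by
      apply hmax' X' hX'𝒮
      rw [← hYMt]
      exact largestPReducedOf_mono T hTMt hMtX' hX'c.2
    apply le_antisymm _ hMtX'
    have h2 := le_normalizer_Y hX'c
    rwa [h1, ← hMtdef] at h2
  obtain ⟨Ct, hCtdef⟩ : ∃ Ct, Ct = Subgroup.centralizer ((largestPReducedOf p Mt : Subgroup H) : Set H) :=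
    ⟨_, rfl⟩
  have hCtMt : Ct ≤ Mt := by
    rw [hCtdef]
    exact (Subgroup.centralizer_le_normalizer _).trans hNYMt.le
  have hMtCt : Mt ≤ Subgroup.normalizer (Ct : Set H) := by
    rw [hCtdef]
    exact hNYMt.ge.trans (normalizer_le_normalizer_centralizer'' _)
  have hCtCL : Ct ≤ CL := by
    rw [hCtdef, hCLdef, hYMt]
    exact Subgroup.centralizer_le hYLX₀
  -- minimal `M`
  obtain ⟨M, hM𝒯, hMmin⟩ := Set.exists_min_image
    {M : Subgroup H | (T : Subgroup H) ≤ M ∧ M ≤ Mt ∧ M ⊔ Ct = Mt} (fun M => Nat.card ↥M)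
    (Set.toFinite _) ⟨Mt, hTMt, le_rfl, sup_eq_left.mpr hCtMt⟩
  obtain ⟨hTM, hMMt, hMsup⟩ := hM𝒯
  have hctx : MinCtx p T Mt Ct M :=
    ⟨hCtMt, hMtCt, hTM, hMMt, hMsup, fun M' h1 h2 h3 => hMmin M' ⟨h1, h2, h3⟩⟩
  have hMc : M ∈ charPSubgroups p H := mem_charP_of_le hPC hTM hMMt hMtc
  have hYM : largestPReducedOf p M = largestPReducedOf p Mt := by
    apply le_antisymm (largestPReducedOf_mono T hTM hMMt hMtc.2)
    apply largestPReducedOf_le_of_sup_eq T M Mt hTM hTMt (charP_internal_of_mem_charPSubgroups hMtc)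
    rw [← hCtdef, hMsup, sup_eq_left.mpr hCtMt]
  have hMd : M ⊔ Subgroup.centralizer ((largestPReducedOf p M : Subgroup H) : Set H) = Mt := by
    rw [hYM, ← hCtdef, hMsup]
  -- `L ⊆ M C_H(Y_L)`
  have hLM : ∀ l ∈ L, ∃ m ∈ M, ∃ c ∈ CL, l = m * c := by
    intro l hl
    obtain ⟨x, hx, c, hc, e⟩ := hLX₀ l hl
    have hx' : x ∈ M ⊔ Ct := by rw [hMsup]; exact hX₀Mt hx
    obtain ⟨c', hc', m, hm, e'⟩ := WCFact.exists_mul_of_mem_sup_normalizer
      ((hctx.hMMt.trans hMtCt)) (by rw [sup_comm]; exact hx')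
    refine ⟨m, hm, (m⁻¹ * c' * m) * c, ?_, ?_⟩
    · exact CL.mul_mem (hCtCL (conj_mem_of_le_normalizer' (hMMt.trans hMtCt) hm hc')) hc
    · rw [e, e']; group
  -- `M ∈ 𝔐_H`
  have hfrak : IsInFrakM p M := by
    refine ⟨hMc, ?_, ?_, ?_, ?_, ?_⟩
    · rw [hMd]; exact ⟨hMtc, hMtmax⟩
    · intro X' hX' hMX'
      rw [hMd]
      have hX'𝒮 : X' ∈ 𝒮 := by
        rw [h𝒮def]
        refine ⟨hTM.trans hMX', hX'.1, ?_, ?_⟩
        · apply hYLX₀.trans
          rw [← hYMt, ← hYM]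
          exact largestPReducedOf_mono T hTM hMX' hX'.1.2
        · intro l hl
          obtain ⟨m, hm, c, hc, e⟩ := hLM l hl
          exact ⟨m, hMX' hm, c, hc, e⟩
      have h1 : largestPReducedOf p X' = largestPReducedOf p X₀ := by
        apply hmax' X' hX'𝒮
        rw [← hYMt, ← hYM]
        exact largestPReducedOf_mono T hTM hMX' hX'.1.2
      have h2 := le_normalizer_Y hX'.1
      rw [h1, ← hMtdef] at h2
      exact (hX'.2 Mt hMtc h2).symm
    · rw [hMd]; exact hYM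
    · have e : M ⊓ Subgroup.centralizer ((largestPReducedOf p M : Subgroup H) : Set H) = M ⊓ Ct := by
        rw [hYM, ← hCtdef]
      exact (isPClosed_congr e).mpr hctx.isPClosed
    · have e : M ⊓ Subgroup.centralizer ((largestPReducedOf p M : Subgroup H) : Set H) = M ⊓ Ct := by
        rw [hYM, ← hCtdef]
      rw [e]
      exact hctx.map_le_frattini
  -- `L*`
  have hLc := charP_internal_of_mem_charPSubgroups hL
  have hLNY : L ≤ Subgroup.normalizer (YL : Set H) := hYLdef ▸ le_normalizer_Y hL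
  obtain ⟨M', hM'def⟩ : ∃ M', M' = (L ⊔ CL) ⊓ M := ⟨_, rfl⟩
  have hTM' : (T : Subgroup H) ≤ M' := hM'def ▸ le_inf (hTL.trans le_sup_left) hTM
  have hM'M : M' ≤ M := hM'def ▸ inf_le_right
  have hM'c : M' ∈ charPSubgroups p H := mem_charP_of_le hPC hTM' hM'M hMc
  have hfac : M' ⊔ CL = L ⊔ CL := by
    apply le_antisymm (sup_le (hM'def ▸ inf_le_left) le_sup_right)
    apply sup_le _ le_sup_right
    intro l hl
    obtain ⟨m, hm, c, hc, e⟩ := hLM l hl
    have hmA : m ∈ L ⊔ CL := by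
      have e2 : m = l * c⁻¹ := by rw [e]; group
      rw [e2]
      exact Subgroup.mul_mem _ ((le_sup_left : L ≤ L ⊔ CL) hl)
        ((le_sup_right : CL ≤ L ⊔ CL) (CL.inv_mem hc))
    rw [e]
    exact Subgroup.mul_mem _ ((le_sup_left : M' ≤ M' ⊔ CL) (hM'def ▸ ⟨hmA, hm⟩))
      ((le_sup_right : CL ≤ M' ⊔ CL) hc)
  subst hCLdef
  subst hYLdef
  obtain ⟨h1, h2⟩ := largest_pReduced_transfer T L M' hTL hTM' hLc
    (charP_internal_of_mem_charPSubgroups hM'c) _ rfl hfac _ rfl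
  have hTLs : (T : Subgroup H) ≤ M' ⊓ Subgroup.normalizer
      ((((T : Subgroup H) ⊓ Subgroup.centralizer
        ((largestPReducedOf p L : Subgroup H) : Set H) : Subgroup H)) : Set H) := by
    apply le_inf hTM'
    intro x hx
    exact WCFact.mem_normalizer_inf_of_mem (Subgroup.le_normalizer hx)
      (normalizer_le_normalizer_centralizer'' _ (hLNY (hTL hx)))
  refine ⟨M, _, hTM, hfrak, hTLs, inf_le_left.trans hM'M,
    mem_charP_of_le hPC hTLs (inf_le_left.trans hM'M) hMc, h1.symm, ?_, h2⟩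
  rw [hYM, hYMt]
  exact hYLX₀

theorem main_parabolic (hH : Cfsg.IsOfParabolicCharacteristic p H) (T : Sylow p H)
    (L : Subgroup H) (hTL : (T : Subgroup H) ≤ L) (hL : L ∈ Cfsg.charPSubgroups p H) :
    ∃ M Ls : Subgroup H, (T : Subgroup H) ≤ M ∧ Cfsg.IsInFrakM p M ∧ (T : Subgroup H) ≤ Ls ∧
      Ls ≤ M ∧ Ls ∈ Cfsg.charPSubgroups p H ∧
      (Cfsg.largestPReducedOf p L) = (Cfsg.largestPReducedOf p Ls) ∧
      (Cfsg.largestPReducedOf p L) ≤ (Cfsg.largestPReducedOf p M) ∧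
      L ⊔ Subgroup.centralizer (((Cfsg.largestPReducedOf p L) : Subgroup H) : Set H) =
        Ls ⊔ Subgroup.centralizer (((Cfsg.largestPReducedOf p L) : Subgroup H) : Set H) :=
  exists_frakM (fun X hTX hO => mem_charPSubgroups_of_parabolic hH T X hTX hO) L hTL hL

omit [Fact p.Prime] [Finite H] in
theorem weakClosure_mono (Q : Subgroup H) {L M : Subgroup H} (hLM : L ≤ M) :
    weakClosure Q L ≤ weakClosure Q M := by
  unfold weakClosure
  apply iSup_le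
  rintro ⟨g, hg⟩
  exact le_iSup (fun g : {g : H // Q.map (MulAut.conj g).toMonoidHom ≤ M} =>
    Q.map (MulAut.conj (g : H)).toMonoidHom) ⟨g, hg.trans hLM⟩

theorem main_large (Q : Subgroup H) (hQp : IsPGroup p ↥Q) (hQ1 : Q ≠ ⊥) (hLg : Cfsg.IsLarge Q)
    (S : Sylow p H) (hQS : Q ≤ (S : Subgroup H)) (L : Subgroup H) (hSL : (S : Subgroup H) ≤ L)
    (hL : L ∈ Cfsg.charPSubgroups p H) :
    ∃ M Ls : Subgroup H, (S : Subgroup H) ≤ M ∧ Cfsg.IsInFrakM p M ∧ (S : Subgroup H) ≤ Ls ∧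
      Ls ≤ M ∧ Ls ∈ Cfsg.charPSubgroups p H ∧
      L ⊔ Subgroup.centralizer (((Cfsg.largestPReducedOf p L) : Subgroup H) : Set H) =
        Ls ⊔ Subgroup.centralizer (((Cfsg.largestPReducedOf p L) : Subgroup H) : Set H) ∧
      Cfsg.weakClosure Q L = Cfsg.weakClosure Q Ls ∧
      Cfsg.weakClosure Q Ls ≤ Cfsg.weakClosure Q M ∧
      (Cfsg.largestPReducedOf p L) = (Cfsg.largestPReducedOf p Ls) ∧
      (Cfsg.largestPReducedOf p Ls) ≤ (Cfsg.largestPReducedOf p M) ∧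
      (¬ L ≤ Subgroup.normalizer ((Q : Subgroup H) : Set H) →
        ¬ Ls ≤ Subgroup.normalizer ((Q : Subgroup H) : Set H) ∧
        ¬ M ≤ Subgroup.normalizer ((Q : Subgroup H) : Set H)) := by
  have hH := (large_parabolic_characteristic Q hQp hQ1 hLg).2.2
  obtain ⟨M, Ls, hSM, hM, hSLs, hLsM, hLsc, hY, hYM, hfac⟩ := main_parabolic hH S L hSL hL
  have hwc := isLarge_isWeaklyClosedSubgroup hQp hQ1 hLg
  have hYp : IsPGroup p ↥(largestPReducedOf p L) := S.isPGroup'.to_le (Y_le_sylow hSL hL)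
  have hY1 : largestPReducedOf p L ≠ ⊥ := largestPReducedOf_ne_bot S hSL hL
  have hLsN : Ls ≤ Subgroup.normalizer ((largestPReducedOf p L : Subgroup H) : Set H) := by
    rw [hY]; exact le_normalizer_Y hLsc
  have e1 := (large_weakClosure_centralizer Q hQp hQ1 hLg L (hQS.trans hSL) _ hYp hY1
    (le_normalizer_Y hL)).1
  have e2 := (large_weakClosure_centralizer Q hQp hQ1 hLg Ls (hQS.trans hSLs) _ hYp hY1 hLsN).1
  have hwceq : weakClosure Q L = weakClosure Q Ls := by rw [e1, e2, hfac]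
  refine ⟨M, Ls, hSM, hM, hSLs, hLsM, hLsc, hfac, hwceq, weakClosure_mono Q hLsM, hY, hY ▸ hYM, ?_⟩
  intro hLQ
  have h1 : ¬ Ls ≤ Subgroup.normalizer ((Q : Subgroup H) : Set H) := by
    intro hLsQ
    apply hLQ
    have h2 : weakClosure Q Ls = Q := by
      rw [WCFact.weakClosure_eq_nc hQp hwc (hQS.trans hSLs)]
      exact le_antisymm (nc_le_of_le le_rfl hLsQ) (le_nc Ls Q)
    rw [← hwceq, WCFact.weakClosure_eq_nc hQp hwc (hQS.trans hSL)] at h2
    intro l hl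
    apply mem_normalizer_of_cj_le
    exact (WCFact.cj_le_nc hl).trans h2.le
  exact ⟨h1, fun hMQ => h1 (hLsM.trans hMQ)⟩

end Cfsg.Agent.Lib.Helper7.FrakMExist
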