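import Mathlib
import Cfsg.Prelude.Def_FusionSystem
import Cfsg.Agent.Lib.Helper7.FusionExtend
import Cfsg.Agent.Lib.Helper7.FusionCore2
import Cfsg.Agent.Lib.Helper7.FusionCentral
import Cfsg.Agent.Lib.Helper7.FusionInner
import Cfsg.Agent.Lib.Lead.Avg

set_option autoImplicit false

namespace Cfsg.Agent.Lib.Helper7

open Cfsg Cfsg.FusionSystem

variable {Ω : Type*} [Group Ω] {S : Subgroup Ω}

theorem center_focal_abelian [Finite S] (p : ℕ) [Fact p.Prime] (hS : IsPGroup p S)
    (F : FusionSystem S) (hF : F.IsSaturated p) (hab : ∀ x ∈ S, ∀ y ∈ S, x * y = y * x) :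
    F.center ⊓ F.focalSubgroup = ⊥ ∧ F.center ⊔ F.focalSubgroup = S := by
  have hp := (Fact.out : p.Prime)
  haveI : Finite (MulAut ↥S) := inferInstance
  have hScl : F.StronglyClosed S := ⟨le_rfl, fun R _ φ hφ x => (F.le_of_mem hφ).2 x⟩
  have habS : IsMulCommutative S := ⟨⟨fun a b => Subtype.ext (hab a a.2 b b.2)⟩⟩
  have hSn : F.IsNormal S := isNormal_of_abelian_stronglyClosed p hS F hF habS hScl
  have hext := (isNormal_iff_extend p hS F hF S le_rfl).mp hSn
  -- K is a p'-group
  have hK : ¬ p ∣ Nat.card (F.autGroup S) := by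
    obtain ⟨-, R, hR⟩ := isFullyAutomized_top_of_isSaturated p hS F hF
    have hbot : autInducedBy S S = ⊥ := by
      rw [eq_bot_iff]
      intro α hα
      obtain ⟨g, hg, hgα⟩ := (mem_autInducedBy_iff S S α).mp hα
      rw [Subgroup.mem_bot]
      ext x
      rw [hgα, hab g hg x x.2]
      simp
    rw [hbot, Subgroup.bot_subgroupOf] at hR
    have := R.not_dvd_index
    rwa [hR, Subgroup.index_bot] at this
  letI : CommGroup ↥S := { (inferInstance : Group ↥S) with mul_comm := fun a b => Subtype.ext (hab a a.2 b b.2) }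
  letI : Fintype ↥(F.autGroup S) := Fintype.ofFinite _
  set n := Fintype.card ↥(F.autGroup S) with hn
  have hncop : Nat.Coprime n p := by
    rw [Nat.coprime_comm, Nat.Prime.coprime_iff_not_dvd hp, hn, ← Nat.card_eq_fintype_card]
    exact hK
  -- the fixed point subgroup
  let Cs : Subgroup ↥S :=
    { carrier := {w | ∀ α ∈ F.autGroup S, α w = w}
      one_mem' := fun α _ => map_one α
      mul_mem' := fun {a b} ha hb α hα => by rw [map_mul, ha α hα, hb α hα]
      inv_mem' := fun {a} ha α hα => by rw [map_inv, ha α hα] }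
  have hCcentral : F.IsCentral (Cs.map S.subtype) := by
    rw [isCentral_iff_conj_singletons p hS F hF]
    refine ⟨Subgroup.map_subtype_le Cs, ?_⟩
    rintro _ ⟨w, hw, rfl⟩ y ⟨φ, hφ, hφy⟩
    have hle : Subgroup.zpowers ((S.subtype w : Ω)) ≤ S := Subgroup.zpowers_le.mpr w.2
    obtain ⟨α, hα, hαφ⟩ := hext _ hle φ hφ
    rw [← hφy, ← hαφ]
    have : Subgroup.inclusion hle ⟨(S.subtype w : Ω), Subgroup.mem_zpowers _⟩ = w := Subtype.ext rfl
    rw [this, hw α hα]
    rfl
  have hcenter : F.center = Cs.map S.subtype := by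
    apply le_antisymm
    · apply sSup_le
      intro Q hQ
      have hQ' := (isCentral_iff_conj_singletons p hS F hF Q).mp hQ
      intro x hx
      refine ⟨⟨x, hQ'.1 hx⟩, fun α hα => ?_, rfl⟩
      apply Subtype.ext
      apply hQ'.2 x hx
      have hle : Subgroup.zpowers x ≤ S := Subgroup.zpowers_le.mpr (hQ'.1 hx)
      exact ⟨_, fs_restrict_mem F hle ((mem_autGroup_iff F le_rfl α).mp hα), rfl⟩
    · exact le_sSup hCcentral
  have hfocS : F.focalSubgroup ≤ S := by
    unfold focalSubgroup
    rw [Subgroup.closure_le]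
    rintro _ ⟨P, φ, x, hφ, rfl⟩
    exact S.mul_mem (S.inv_mem ((F.le_of_mem hφ).1 x.2)) ((F.le_of_mem hφ).2 x)
  have hfocker : F.focalSubgroup ≤
      (Cfsg.Agent.Lib.Lead.Avg.avg (F.autGroup S).subtype).ker.map S.subtype := by
    unfold focalSubgroup
    rw [Subgroup.closure_le]
    rintro _ ⟨P, φ, x, hφ, rfl⟩
    have hPS := (F.le_of_mem hφ).1
    obtain ⟨α, hα, hαφ⟩ := hext P hPS φ hφ
    refine ⟨(Subgroup.inclusion hPS x)⁻¹ * α (Subgroup.inclusion hPS x), ?_, ?_⟩
    · rw [SetLike.mem_coe, MonoidHom.mem_ker, map_mul, map_inv]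
      have := Cfsg.Agent.Lib.Lead.Avg.avg_map (F.autGroup S).subtype ⟨α, hα⟩ (Subgroup.inclusion hPS x)
      have e : ((F.autGroup S).subtype ⟨α, hα⟩) (Subgroup.inclusion hPS x) = α (Subgroup.inclusion hPS x) := rfl
      rw [e] at this
      rw [this, inv_mul_cancel]
    · show ((Subgroup.inclusion hPS x : S) : Ω)⁻¹ * ((α (Subgroup.inclusion hPS x) : S) : Ω) = _
      rw [hαφ]
      rfl
  constructor
  · rw [eq_bot_iff]
    rintro x ⟨hxc, hxf⟩
    rw [SetLike.mem_coe, hcenter] at hxc
    obtain ⟨w, hw, rfl⟩ := hxc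
    obtain ⟨w', hw', hww'⟩ := hfocker hxf
    have hww : w' = w := Subtype.ext hww'
    rw [hww, SetLike.mem_coe, MonoidHom.mem_ker] at hw'
    have hfix := Cfsg.Agent.Lib.Lead.Avg.avg_fixed (F.autGroup S).subtype (w := w)
      (fun a => hw a.1 a.2)
    rw [hw'] at hfix
    have h1 : orderOf w ∣ n := orderOf_dvd_of_pow_eq_one hfix.symm
    obtain ⟨k, hk⟩ := (IsPGroup.iff_orderOf.mp hS) w
    have h2 : orderOf w = 1 := by
      have : Nat.Coprime (orderOf w) (p ^ k) := (Nat.Coprime.coprime_dvd_left h1 hncop).pow_right k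
      rw [hk] at this
      exact (Nat.coprime_self _).mp this ▸ hk
    rw [orderOf_eq_one_iff] at h2
    rw [h2]
    exact Subgroup.one_mem _
  · apply le_antisymm
    · exact sup_le (hcenter ▸ Subgroup.map_subtype_le Cs) hfocS
    · intro x hx
      let w : S := ⟨x, hx⟩
      have hpow := Cfsg.Agent.Lib.Lead.Avg.pow_card_eq_avg_mul (F.autGroup S).subtype w
      have h1 : (Cfsg.Agent.Lib.Lead.Avg.avg (F.autGroup S).subtype w) ∈
          (F.center ⊔ F.focalSubgroup).comap S.subtype := by
        rw [Subgroup.mem_comap]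
        apply Subgroup.mem_sup_left
        rw [hcenter]
        refine ⟨_, fun α hα => ?_, rfl⟩
        exact Cfsg.Agent.Lib.Lead.Avg.map_avg (F.autGroup S).subtype ⟨α, hα⟩ w
      have h2 : (∏ a : ↥(F.autGroup S), (w * ((F.autGroup S).subtype a w)⁻¹)) ∈
          (F.center ⊔ F.focalSubgroup).comap S.subtype := by
        apply Subgroup.prod_mem
        intro a _
        rw [Subgroup.mem_comap]
        apply Subgroup.mem_sup_right
        have : S.subtype (w * ((F.autGroup S).subtype a w)⁻¹) =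
            ((w : Ω)⁻¹ * ((a.1 w : S) : Ω))⁻¹ := by
          show (w : Ω) * (((a.1 w : S) : Ω))⁻¹ = _
          rw [mul_inv_rev, inv_inv]
          exact hab _ w.2 _ (S.inv_mem (a.1 w).2)
        rw [this]
        apply Subgroup.inv_mem
        apply Subgroup.subset_closure
        exact ⟨S, S.subtype.comp a.1.toMonoidHom, w, (mem_autGroup_iff F le_rfl a.1).mp a.2, rfl⟩
      have h3 : w ^ n ∈ (F.center ⊔ F.focalSubgroup).comap S.subtype := by
        rw [hn, hpow]
        exact Subgroup.mul_mem _ h1 h2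
      obtain ⟨k, hk⟩ := (IsPGroup.iff_orderOf.mp hS) w
      have hcop : Nat.Coprime n (orderOf w) := by rw [hk]; exact hncop.pow_right k
      have h4 : w ∈ (F.center ⊔ F.focalSubgroup).comap S.subtype := by
        by_cases h1' : orderOf w = 1
        · rw [orderOf_eq_one_iff] at h1'
          rw [h1']; exact Subgroup.one_mem _
        · have hgt : 1 < orderOf w := by
            have := orderOf_pos w
            omega
          obtain ⟨m, -, hm⟩ := Nat.exists_mul_mod_eq_one_of_coprime hcop hgt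
          have : w = (w ^ n) ^ m := by
            rw [← pow_mul, ← pow_mod_orderOf, hm, pow_one]
          rw [this]
          exact Subgroup.pow_mem _ h3 m
      exact h4

end Cfsg.Agent.Lib.Helper7
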