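import Mathlib
import Cfsg.Prelude.Def_FusionSystem
import Cfsg.Prelude.Def_TwoFusion
import Cfsg.Agent.Lib.Helper7.FusionSeries
import Cfsg.Agent.Lib.Helper7.GroupFusion3

set_option autoImplicit false

namespace Cfsg.Agent.Lib.Helper7

open Cfsg Cfsg.FusionSystem

theorem classTwo_center_stronglyClosed_normalizer_controls {G : Type*} [Group G] [Finite G] (p : ℕ)
    [Fact p.Prime] (S : Sylow p G)
    (hcl : ⁅(S : Subgroup G), (S : Subgroup G)⁆ ≤
      (S : Subgroup G) ⊓ Subgroup.centralizer ((S : Subgroup G) : Set G))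
    (hZ : Cfsg.IsStronglyClosed ((S : Subgroup G) ⊓ Subgroup.centralizer ((S : Subgroup G) : Set G))
      (S : Subgroup G)) :
    (∀ (P : Subgroup G) (φ : P →* G), φ ∈ (groupFusionSystem (S : Subgroup G)).Hom P →
      ∃ g ∈ Subgroup.normalizer ((S : Subgroup G) : Set G), ∀ x : P, φ x = g * (x : G) * g⁻¹) ∧
      (groupFusionSystem (S : Subgroup G)).core = S := by
  have hsat := gfs_isSaturated p S
  have hSp : IsPGroup p (S : Subgroup G) := S.isPGroup'
  set F := groupFusionSystem (S : Subgroup G) with hF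
  set Z := (S : Subgroup G) ⊓ Subgroup.centralizer ((S : Subgroup G) : Set G) with hZdef
  have hZsc : F.StronglyClosed Z := by
    refine ⟨inf_le_left, fun R hR φ hφ x => ?_⟩
    obtain ⟨-, hφS, g, hg⟩ := hφ
    have := hZ.2 x (hR x.2) g
    rw [← hg] at this
    exact this (hφS x)
  have hSsc : F.StronglyClosed (S : Subgroup G) :=
    ⟨le_rfl, fun R _ φ hφ x => (F.le_of_mem hφ).2 x⟩
  have hnorm : F.IsNormal (S : Subgroup G) := by
    apply isNormal_of_series p hSp F hsat (S : Subgroup G) 2 ![⊥, Z, (S : Subgroup G)] rfl rfl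
    intro i
    fin_cases i
    · refine ⟨hZsc, ?_⟩
      show ⁅(S : Subgroup G), Z⁆ ≤ ⊥
      rw [Subgroup.commutator_comm, le_bot_iff, Subgroup.commutator_eq_bot_iff_le_centralizer]
      exact inf_le_right
    · exact ⟨hSsc, hcl⟩
  constructor
  · intro P φ hφ
    obtain ⟨ψ, hψ, hext, -⟩ := hnorm.2 P φ hφ
    obtain ⟨hle, hψS, g, hg⟩ := hψ
    refine ⟨g, ?_, fun x => ?_⟩
    · apply Cfsg.Agent.Lib.Lead.Conj.mem_normalizer_of_conj_mem
      intro s hs
      have := hψS ⟨s, Subgroup.mem_sup_right hs⟩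
      rwa [hg] at this
    · rw [← hext, hg]
      rfl
  · apply le_antisymm
    · apply sSup_le
      intro Q hQ
      exact hQ.1
    · exact le_sSup hnorm

end Cfsg.Agent.Lib.Helper7
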