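import Mathlib
import Cfsg.Prelude.Def_FusionSystem
import Cfsg.Agent.Lib.Helper7.FusionProdClosed

set_option autoImplicit false

namespace Cfsg.Agent.Lib.Helper7

open Cfsg Cfsg.FusionSystem

variable {Ω : Type*} [Group Ω] {S : Subgroup Ω}

/-- General criterion: `H ≥ T` (`T` strongly closed), `H` normalized by `S`, and automorphisms of subgroups
containing `T` preserve `H`; then `H` is strongly closed. -/
theorem stronglyClosed_of_over [Finite S] (p : ℕ) [Fact p.Prime] (hS : IsPGroup p S)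
    (F : FusionSystem S) (hF : F.IsSaturated p) (T₁ H : Subgroup Ω) (h₁ : F.StronglyClosed T₁)
    (hTH : T₁ ≤ H) (hHS : H ≤ S) (hnorm : ∀ s ∈ S, ∀ y ∈ H, s * y * s⁻¹ ∈ H)
    (hcase : ∀ R : Subgroup Ω, R ≤ S → T₁ ≤ R → ∀ α ∈ F.autGroup R, ∀ y : R, (y : Ω) ∈ H →
      ((α y : R) : Ω) ∈ H) : F.StronglyClosed H := by
  have hN₁ := le_normalizer_of_stronglyClosed F h₁
  have hle : F ≤ closedSystem F H hnorm := by
    apply alperin_goldschmidt_strong p hS F hF
    intro R hR ih
    have hFN : F.IsFullyNormalized R := by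
      rcases hR with rfl | hess
      · exact isFullyNormalized_top F
      · exact hess.2.1
    obtain ⟨R', hcR, hFAR, hRecR⟩ := hF R hFN.1
    obtain ⟨hFA, hRec⟩ := isFullyAutomized_isReceptive_of_isFullyNormalized p hS F hFN hFAR hRecR hcR
    have hRS := hFN.1
    haveI := finite_of_le hRS
    haveI : Finite (MulAut ↥R) := inferInstance
    have hTle := autInducedBy_le_autGroup F hRS
    have hsyl : IsSylowIn p (autInducedBy S R) (F.autGroup R) :=
      (isSylowIn_iff_exists_sylow hTle).mpr hFA.2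
    have key : ∀ α ∈ F.autGroup R, ∀ y : R, (y : Ω) ∈ H → ((α y : R) : Ω) ∈ H := by
      by_cases hex : ∃ g ∈ T₁, g ∈ Subgroup.normalizer (R : Set Ω) ∧ g ∉ R
      · obtain ⟨g, hgT, hgN, hgR⟩ := hex
        have hgS : g ∈ S := h₁.1 hgT
        have hA : ∀ i, ∀ α ∈ F.autGroup R, ∀ x ∈ (fun i : ℕ => if i = 0 then T₁.subgroupOf R else ⊤) i,
            α x ∈ (fun i : ℕ => if i = 0 then T₁.subgroupOf R else ⊤) i := by
          intro i α hα x hx
          by_cases h0 : i = 0
          · simp only [h0, if_true] at hx ⊢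
            exact Subgroup.mem_subgroupOf.mpr
              (autGroup_apply_mem_of_stronglyClosed F h₁ hRS α hα x (Subgroup.mem_subgroupOf.mp hx))
          · simp only [h0, if_false]; exact Subgroup.mem_top _
        set K := stabChain (F.autGroup R) (fun i : ℕ => if i = 0 then T₁.subgroupOf R else ⊤) 1 hA
          with hKdef
        have hKle : K ≤ F.autGroup R := stabChain_le _ _ _ _
        have hKmem : ∀ β ∈ K, ∀ x : R, (x : Ω)⁻¹ * ((β x : R) : Ω) ∈ T₁ := by
          intro β hβ x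
          have := hβ.2 0 (by omega) x (by simp)
          simpa using Subgroup.mem_subgroupOf.mp this
        have hAK : F.autGroup R ≤ Subgroup.normalizer (K : Set (MulAut R)) := by
          intro a ha
          apply Cfsg.Agent.Lib.Lead.Conj.mem_normalizer_of_conj_mem
          intro k hk
          exact stabChain_conj_mem _ _ _ hA ha hk
        have hTK : IsSylowIn p (autInducedBy S R ⊓ K) K := hsyl.inf_normal K hKle hAK
        have hcg : R.normalizerMonoidHom ⟨g, hgN⟩ ∈ autInducedBy S R ⊓ K := by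
          refine ⟨(mem_autInducedBy_iff S R _).mpr ⟨g, hgS, fun x => rfl⟩, ?_, ?_⟩
          · exact hTle ((mem_autInducedBy_iff S R _).mpr ⟨g, hgS, fun x => rfl⟩)
          · intro i hi x _
            have hi0 : i = 0 := by omega
            subst hi0
            simp only [if_true]
            apply Subgroup.mem_subgroupOf.mpr
            show (x : Ω)⁻¹ * (g * x * g⁻¹) ∈ T₁
            have h1 : (x : Ω)⁻¹ * g * (x : Ω)⁻¹⁻¹ ∈ T₁ :=
              (Subgroup.mem_normalizer_iff.mp (hN₁ (S.inv_mem (hRS x.2))) g).mp hgT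
            have := T₁.mul_mem h1 (T₁.inv_mem hgT)
            convert this using 1
            group
        intro α hα y hy
        have hTK' : IsSylowIn p ((autInducedBy S R ⊓ K).map (MulAut.conj α).toMonoidHom) K := by
          refine ⟨?_, ?_⟩
          · rintro _ ⟨x, hx, rfl⟩
            exact (Subgroup.mem_normalizer_iff.mp (hAK hα) x).mp hx.2
          · rw [Cfsg.Agent.Lib.Lead.Conj.card_map_conj]; exact hTK.2
        obtain ⟨n, hnK, e⟩ := hTK.conj hTK'
        have hnA : n ∈ F.autGroup R := hKle hnK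
        have hνA : n⁻¹ * α ∈ F.autGroup R := Subgroup.mul_mem _ (Subgroup.inv_mem _ hnA) hα
        have hνconj : (n⁻¹ * α) * R.normalizerMonoidHom ⟨g, hgN⟩ * (n⁻¹ * α)⁻¹ ∈ autInducedBy S R := by
          have h1 : α * R.normalizerMonoidHom ⟨g, hgN⟩ * α⁻¹ ∈
              (autInducedBy S R ⊓ K).map (MulAut.conj α).toMonoidHom :=
            Cfsg.Agent.Lib.Lead.Conj.conj_mem_map_conj _ α hcg
          rw [e, Cfsg.Agent.Lib.Lead.Conj.mem_map_conj] at h1
          have e3 : (n⁻¹ * α) * R.normalizerMonoidHom ⟨g, hgN⟩ * (n⁻¹ * α)⁻¹ =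
              n⁻¹ * (α * R.normalizerMonoidHom ⟨g, hgN⟩ * α⁻¹) * n := by group
          rw [e3]
          exact h1.1
        have hgext := mem_extender_of_conj (n⁻¹ * α) hgS hgN hνconj
        obtain ⟨Q, hRQ, φ, hφ, hφν⟩ := mem_extGen_of_mem_extender F hRec (n⁻¹ * α) hνA g hgext hgR
        have hQS : Q ≤ S := (F.le_of_mem hφ).1
        haveI := finite_of_le hQS
        have hcard : Nat.card R < Nat.card Q := by
          by_contra hge
          push Not at hge
          exact hRQ.ne (Subgroup.eq_of_le_of_card_ge hRQ.le hge)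
        have hφE := ih Q φ hφ hcard
        have hνy : (((n⁻¹ * α) y : R) : Ω) ∈ H := by
          rw [← hφν]
          exact (hφE.2 _).mp hy
        have hα' : α = n * (n⁻¹ * α) := by group
        rw [hα', MulAut.mul_apply]
        have h3 := hKmem n hnK ((n⁻¹ * α) y)
        have h4 := Subgroup.mul_mem _ hνy (hTH h3)
        simpa using h4
      · push Not at hex
        have hT₁R : T₁ ≤ R := le_of_normalizer_inter_le hS hRS h₁.1 hN₁ hex
        exact hcase R hRS hT₁R
    intro α hα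
    apply (mem_autGroup_iff _ hRS α).mpr
    refine ⟨(mem_autGroup_iff F hRS α).mp hα, fun y => ⟨key α hα y, fun h => ?_⟩⟩
    have := key α⁻¹ (Subgroup.inv_mem _ hα) (α y) h
    rwa [MulAut.inv_apply_self] at this
  refine ⟨hHS, fun R hR φ hφ x => ?_⟩
  exact ((hle R hφ).2 x).mp (hR x.2)

theorem stronglyClosed_sup_centralizerIn [Finite S] (p : ℕ) [Fact p.Prime] (hS : IsPGroup p S)
    (F : FusionSystem S) (hF : F.IsSaturated p) (T : Subgroup Ω) (hT : F.StronglyClosed T) :
    F.StronglyClosed (T ⊔ centralizerIn S T) := by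
  have hN := le_normalizer_of_stronglyClosed F hT
  have hTS := hT.1
  have hCN : S ≤ Subgroup.normalizer (centralizerIn S T : Set Ω) := by
    intro s hs
    rw [Subgroup.mem_normalizer_iff]
    intro c
    have key : ∀ (s : Ω), s ∈ S → ∀ c, c ∈ centralizerIn S T → s * c * s⁻¹ ∈ centralizerIn S T := by
      intro s hs c hc
      refine ⟨S.mul_mem (S.mul_mem hs hc.1) (S.inv_mem hs), ?_⟩
      show s * c * s⁻¹ ∈ Subgroup.centralizer (T : Set Ω)
      rw [Subgroup.mem_centralizer_iff]
      intro t ht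
      have ht' : s⁻¹ * t * s⁻¹⁻¹ ∈ T := (Subgroup.mem_normalizer_iff.mp (hN (S.inv_mem hs)) t).mp ht
      have hc' := (Subgroup.mem_centralizer_iff.mp hc.2) _ ht'
      have e1 : t * (s * c * s⁻¹) = s * ((s⁻¹ * t * s⁻¹⁻¹) * c) * s⁻¹ := by group
      rw [e1, hc']
      group
    constructor
    · exact key s hs c
    · intro h
      have := key s⁻¹ (S.inv_mem hs) _ h
      convert this using 1
      group
  apply stronglyClosed_of_over p hS F hF T _ hT le_sup_left (sup_le hTS inf_le_left)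
    (sup_conj_mem hTS hN hCN)
  intro R hRS hTR α hα y hy
  have hy' : (y : Ω) ∈ ((T ⊔ centralizerIn S T : Subgroup Ω) : Set Ω) := hy
  rw [Subgroup.coe_mul_of_left_le_normalizer_right T _ (hTS.trans hCN)] at hy'
  obtain ⟨a, ha, b, hb, hab⟩ := hy'
  have haR : a ∈ R := hTR ha
  have hbR : b ∈ R := by
    have : b = a⁻¹ * (y : Ω) := by rw [← hab]; group
    rw [this]; exact R.mul_mem (R.inv_mem haR) y.2
  have hy2 : y = (⟨a, haR⟩ : R) * ⟨b, hbR⟩ := Subtype.ext hab.symm
  rw [hy2, map_mul]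
  apply Subgroup.mul_mem_sup
    (autGroup_apply_mem_of_stronglyClosed F hT hRS α hα ⟨a, haR⟩ ha)
  refine ⟨hRS (α ⟨b, hbR⟩).2, ?_⟩
  show ((α ⟨b, hbR⟩ : R) : Ω) ∈ Subgroup.centralizer (T : Set Ω)
  rw [Subgroup.mem_centralizer_iff]
  intro t ht
  -- t = α (α⁻¹ t)
  have htR : t ∈ R := hTR ht
  have hpre : ((α⁻¹ ⟨t, htR⟩ : R) : Ω) ∈ T :=
    autGroup_apply_mem_of_stronglyClosed F hT hRS α⁻¹ (Subgroup.inv_mem _ hα) ⟨t, htR⟩ ht
  have hcomm : ((α⁻¹ ⟨t, htR⟩ : R) : Ω) * b = b * ((α⁻¹ ⟨t, htR⟩ : R) : Ω) :=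
    (Subgroup.mem_centralizer_iff.mp hb.2) _ hpre
  have hcomm' : (α⁻¹ ⟨t, htR⟩ : R) * ⟨b, hbR⟩ = ⟨b, hbR⟩ * (α⁻¹ ⟨t, htR⟩ : R) := Subtype.ext hcomm
  have := congrArg (fun z => ((α z : R) : Ω)) hcomm'
  simp only [map_mul, MulAut.apply_inv_self] at this
  exact this

end Cfsg.Agent.Lib.Helper7
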