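import Mathlib
import Cfsg.Prelude.Def_FusionSystem
import Cfsg.Agent.Lib.Helper7.FusionInner
import Cfsg.Agent.Lib.Helper7.Stability

set_option autoImplicit false

namespace Cfsg.Agent.Lib.Helper7

open Cfsg Cfsg.FusionSystem

variable {Ω : Type*} [Group Ω] {S : Subgroup Ω}

theorem inner_of_focal_chain [Finite S] (p : ℕ) [Fact p.Prime] (hS : IsPGroup p S)
    (F : FusionSystem S) (hF : F.IsSaturated p) (n : ℕ) (Q : Fin (n + 1) → Subgroup Ω)
    (hQ0 : Q 0 = S) (hQn : Q (Fin.last n) = ⊥)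
    (hstep : ∀ i : Fin n, Subgroup.closure {y : Ω | ∃ x ∈ Q i.castSucc,
      ∃ φ ∈ F.Hom (Subgroup.zpowers x), y = x⁻¹ * φ ⟨x, Subgroup.mem_zpowers x⟩} ≤ Q i.succ) :
    ∀ P : Subgroup Ω, F.Hom P = (innerFusionSystem S).Hom P := by
  -- the decreasing chain
  let W : ℕ → Subgroup Ω := fun k => ⨅ (j : Fin (n + 1)) (_ : j.val ≤ k), Q j
  have hWle : ∀ k (j : Fin (n + 1)), j.val ≤ k → W k ≤ Q j := fun k j hj => iInf₂_le j hj
  have hWanti : ∀ k, W (k + 1) ≤ W k := by
    intro k
    apply le_iInf₂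
    intro j hj
    exact hWle (k + 1) j (by omega)
  have hWbot : ∀ k, n ≤ k → W k = ⊥ := by
    intro k hk
    rw [eq_bot_iff, ← hQn]
    exact hWle k (Fin.last n) (by simpa using hk)
  have hWS : ∀ k, W k ≤ S := fun k => hQ0 ▸ hWle k 0 (by simp)
  have hW0 : W 0 = S := by
    apply le_antisymm (hWS 0)
    apply le_iInf₂
    intro j hj
    have : j = 0 := Fin.ext (by simpa using hj)
    rw [this, hQ0]
  have hWstep : ∀ k, k < n → ∀ x ∈ W k, ∀ φ ∈ F.Hom (Subgroup.zpowers x),
      x⁻¹ * φ ⟨x, Subgroup.mem_zpowers x⟩ ∈ W (k + 1) := by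
    intro k hk x hx φ hφ
    simp only [W, Subgroup.mem_iInf]
    intro j hj
    by_cases hj0 : j.val = 0
    · have : j = 0 := Fin.ext hj0
      rw [this, hQ0]
      exact S.mul_mem (S.inv_mem (hWS k hx)) ((F.le_of_mem hφ).2 _)
    · have hj1 : j.val - 1 < n := by omega
      have hjs : j = (⟨j.val - 1, hj1⟩ : Fin n).succ := Fin.ext (by simp; omega)
      rw [hjs]
      apply hstep ⟨j.val - 1, hj1⟩
      apply Subgroup.subset_closure
      refine ⟨x, hWle k _ ?_ hx, φ, hφ, rfl⟩
      simp; omega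
  have hall : ∀ P : Subgroup Ω, P ≤ S → IsPGroup p (F.autGroup P) := by
    intro P hPS
    haveI := finite_of_le hPS
    have hPp : IsPGroup p P := hS.to_le hPS
    have hmove : ∀ α ∈ F.autGroup P, ∀ k, k < n → ∀ x : P, (x : Ω) ∈ W k →
        ((x⁻¹ * α x : P) : Ω) ∈ W (k + 1) := by
      intro α hα k hk x hx
      have hα' := (mem_autGroup_iff F hPS α).mp hα
      have hle : Subgroup.zpowers (x : Ω) ≤ P := Subgroup.zpowers_le.mpr x.2
      have := hWstep k hk x hx _ (fs_restrict_mem F hle hα')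
      exact this
    have hinv : ∀ i, ∀ α ∈ F.autGroup P, ∀ x ∈ (fun i => (W (n - i)).subgroupOf P) i,
        α x ∈ (fun i => (W (n - i)).subgroupOf P) i := by
      intro i α hα x hx
      show ((α x : P) : Ω) ∈ W (n - i)
      have hx' : (x : Ω) ∈ W (n - i) := hx
      by_cases hk : n - i < n
      · have h1 := hWanti _ (hmove α hα _ hk x hx')
        have h2 := (W (n - i)).mul_mem hx' h1
        have e : (x : Ω) * ((x⁻¹ * α x : P) : Ω) = ((α x : P) : Ω) := by
          simp
        rwa [e] at h2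
      · rw [hWbot _ (by omega), Subgroup.mem_bot] at hx' ⊢
        have : x = 1 := Subtype.ext hx'
        rw [this, map_one]; rfl
    have hle : F.autGroup P ≤ stabChain (F.autGroup P) (fun i => (W (n - i)).subgroupOf P) n hinv := by
      intro α hα
      refine ⟨hα, fun i hi x hx => ?_⟩
      show ((x⁻¹ * α x : P) : Ω) ∈ W (n - i)
      have hx' : (x : Ω) ∈ W (n - (i + 1)) := hx
      have := hmove α hα (n - (i + 1)) (by omega) x hx'
      have e : n - (i + 1) + 1 = n - i := by omega
      rwa [e] at this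
    have hpg := isPGroup_stabChain hPp (F.autGroup P) (fun i => (W (n - i)).subgroupOf P) n hinv
      (by
        show (W (n - 0)).subgroupOf P = ⊥
        rw [hWbot _ (by omega)]
        exact Subgroup.bot_subgroupOf P)
      (by
        show (W (n - n)).subgroupOf P = ⊤
        rw [Nat.sub_self, hW0]
        exact Subgroup.subgroupOf_eq_top.mpr hPS)
    exact hpg.to_le hle
  have := eq_innerFusionSystem_of_isPGroup p hS F hF hall
  intro P
  rw [this]

end Cfsg.Agent.Lib.Helper7
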