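import Mathlib
import Cfsg.Prelude.Def_FusionSystem
import Cfsg.Agent.Lib.Helper7.FusionSat4

set_option autoImplicit false

namespace Cfsg.Agent.Lib.Helper7

open Cfsg Cfsg.FusionSystem

variable {Ω : Type*} [Group Ω] {S : Subgroup Ω}

/-- The maps of `F` that are maps of `E` except on the subgroups satisfying the (conjugation invariant)
predicate `C`, where every map of `F` is allowed. -/
def mixSystem (F E : FusionSystem S) (C : Subgroup Ω → Prop)
    (hC : ∀ {P : Subgroup Ω} {φ : P →* Ω}, φ ∈ F.Hom P → C P → C φ.range)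
    (hQ : ∀ {P Q : Subgroup Ω} {φ : P →* Ω} {ψ : Q →* Ω}, φ ∈ F.Hom P → (∀ x, φ x ∈ Q) →
      ψ ∈ F.Hom Q → ¬ C P → C Q → ψ ∈ E.Hom Q) : FusionSystem S where
  Hom P := {φ | φ ∈ F.Hom P ∧ (C P ∨ φ ∈ E.Hom P)}
  le_of_mem h := F.le_of_mem h.1
  injective_of_mem h := F.injective_of_mem h.1
  conj_mem hP hg := ⟨F.conj_mem hP hg, Or.inr (E.conj_mem hP hg)⟩
  comp_mem := by
    rintro P Q φ ψ ⟨hφ, hφ'⟩ ⟨hψ, hψ'⟩ h
    refine ⟨F.comp_mem hφ hψ h, ?_⟩
    by_cases hCP : C P
    · exact Or.inl hCP
    · right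
      have hφE := hφ'.resolve_left hCP
      have hψE : ψ ∈ E.Hom Q := by
        rcases hψ' with hCQ | hψE
        · exact hQ hφ h hψ hCP hCQ
        · exact hψE
      exact E.comp_mem hφE hψE h
  inv_mem := by
    rintro P φ ⟨hφ, hφ'⟩
    obtain ⟨ι, hι, hιe⟩ := F.inv_mem hφ
    by_cases hCP : C P
    · exact ⟨ι, ⟨hι, Or.inl (hC hφ hCP)⟩, hιe⟩
    · have hφE := hφ'.resolve_left hCP
      obtain ⟨ι', hι', hιe'⟩ := E.inv_mem hφE
      have : ι = ι' := by
        ext ⟨_, x, rfl⟩
        rw [hιe, hιe']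
      exact ⟨ι, ⟨hι, Or.inr (this ▸ hι')⟩, hιe⟩

theorem autGroup_le_of_hom_subset (F E : FusionSystem S) (R : Subgroup Ω)
    (h : ∀ α : MulAut R, R.subtype.comp α.toMonoidHom ∈ F.Hom R → R.subtype.comp α.toMonoidHom ∈ E.Hom R) :
    F.autGroup R ≤ E.autGroup R :=
  Subgroup.closure_mono (fun α hα => h α hα)

theorem card_le_of_hom (F : FusionSystem S) [Finite S] {P Q : Subgroup Ω} {φ : P →* Ω} (hφ : φ ∈ F.Hom P)
    (hφQ : ∀ x, φ x ∈ Q) (hQS : Q ≤ S) : Nat.card P ≤ Nat.card Q := by
  haveI := finite_of_le hQS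
  apply Nat.card_le_card_of_injective (fun x => (⟨φ x, hφQ x⟩ : Q))
  intro a b hab
  exact F.injective_of_mem hφ (congrArg Subtype.val hab)

theorem range_eq_of_card_eq (F : FusionSystem S) [Finite S] {P Q : Subgroup Ω} {φ : P →* Ω} (hφ : φ ∈ F.Hom P)
    (hφQ : ∀ x, φ x ∈ Q) (hQS : Q ≤ S) (hcard : Nat.card P = Nat.card Q) : φ.range = Q := by
  haveI := finite_of_le hQS
  apply Subgroup.eq_of_le_of_card_ge
  · rintro _ ⟨x, rfl⟩; exact hφQ x
  · rw [← hcard]
    exact (card_eq_of_isConj F ⟨φ, hφ, rfl⟩).le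

theorem generating_inter [Finite S] (F : FusionSystem S)
    (𝒬₁ 𝒬₂ : Set (Subgroup Ω))
    (h₂ : ∀ R ∈ 𝒬₂, ∀ R' : Subgroup Ω, F.IsConj R R' → R' ∈ 𝒬₂)
    (hg₁ : ∀ E : FusionSystem S, (∀ R ∈ 𝒬₁, F.autGroup R ≤ E.autGroup R) → F ≤ E)
    (hg₂ : ∀ E : FusionSystem S, (∀ R ∈ 𝒬₂, F.autGroup R ≤ E.autGroup R) → F ≤ E)
    (E : FusionSystem S) (hE : ∀ R ∈ 𝒬₁ ∩ 𝒬₂, F.autGroup R ≤ E.autGroup R) : F ≤ E := by
  have key : ∀ (n : ℕ) (P : Subgroup Ω) (φ : P →* Ω), φ ∈ F.Hom P →
      Nat.card S - Nat.card P = n → φ ∈ E.Hom P := by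
    intro n
    induction n using Nat.strong_induction_on with
    | _ n ih =>
      intro P φ hφ hn
      have hPS : P ≤ S := (F.le_of_mem hφ).1
      have hcardP : Nat.card P ≤ Nat.card S := Subgroup.card_le_of_le hPS
      -- all maps on larger subgroups are in E
      have ih' : ∀ (Q : Subgroup Ω) (ψ : Q →* Ω), ψ ∈ F.Hom Q → Nat.card P < Nat.card Q → ψ ∈ E.Hom Q := by
        intro Q ψ hψ hlt
        have hQS : Q ≤ S := (F.le_of_mem hψ).1
        have hcardQ : Nat.card Q ≤ Nat.card S := Subgroup.card_le_of_le hQS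
        exact ih (Nat.card S - Nat.card Q) (by omega) Q ψ hψ rfl
      -- Step A
      have stepA : ∀ (R : Subgroup Ω) (ψ : R →* Ω), ψ ∈ F.Hom R → Nat.card R = Nat.card P → R ∉ 𝒬₂ →
          ψ ∈ E.Hom R := by
        intro R ψ hψ hRcard hR2
        have hle := hg₂ (mixSystem F E
          (fun Q => Nat.card Q < Nat.card P ∨ (Nat.card Q = Nat.card P ∧ Q ∈ 𝒬₂))
          (by
            intro P' φ' hφ' hC
            have hc : F.IsConj P' φ'.range := ⟨φ', hφ', rfl⟩
            rw [← card_eq_of_isConj F hc]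
            rcases hC with h | ⟨h, h'⟩
            · exact Or.inl h
            · exact Or.inr ⟨h, h₂ _ h' _ hc⟩)
          (by
            intro P' Q φ' ψ' hφ' hφQ hψ' hnC hCQ
            exfalso
            have hQS : Q ≤ S := (F.le_of_mem hψ').1
            have hle := card_le_of_hom F hφ' hφQ hQS
            apply hnC
            rcases hCQ with h | ⟨h, h'⟩
            · exact Or.inl (by omega)
            · by_cases hlt : Nat.card P' < Nat.card P
              · exact Or.inl hlt
              · right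
                have heq : Nat.card P' = Nat.card Q := by omega
                have hr := range_eq_of_card_eq F hφ' hφQ hQS heq
                have hc : F.IsConj Q P' := isConj_symm F ⟨φ', hφ', hr⟩
                exact ⟨by omega, h₂ _ h' _ hc⟩)) ?_
        · have := hle R hψ
          rcases this.2 with h | h
          · exfalso
            rcases h with h | ⟨-, h⟩
            · omega
            · exact hR2 h
          · exact h
        · intro R' hR'
          apply autGroup_le_of_hom_subset
          intro α hα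
          refine ⟨hα, ?_⟩
          by_cases h1 : Nat.card R' < Nat.card P
          · exact Or.inl (Or.inl h1)
          by_cases h2 : Nat.card R' = Nat.card P
          · exact Or.inl (Or.inr ⟨h2, hR'⟩)
          · exact Or.inr (ih' _ _ hα (by omega))
      -- Step C
      have hle := hg₁ (mixSystem F E (fun Q => Nat.card Q < Nat.card P)
        (by
          intro P' φ' hφ' hC
          have hc : F.IsConj P' φ'.range := ⟨φ', hφ', rfl⟩
          rw [← card_eq_of_isConj F hc]
          exact hC)
        (by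
          intro P' Q φ' ψ' hφ' hφQ hψ' hnC hCQ
          exfalso
          have hQS : Q ≤ S := (F.le_of_mem hψ').1
          have hle := card_le_of_hom F hφ' hφQ hQS
          apply hnC
          show Nat.card P' < Nat.card P
          have : Nat.card Q < Nat.card P := hCQ
          omega)) ?_
      · have := hle P hφ
        rcases this.2 with h | h
        · exfalso
          have : Nat.card P < Nat.card P := h
          omega
        · exact h
      · intro R' hR'
        apply autGroup_le_of_hom_subset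
        intro α hα
        refine ⟨hα, ?_⟩
        have hR'S : R' ≤ S := (F.le_of_mem hα).1
        by_cases h1 : Nat.card R' < Nat.card P
        · exact Or.inl h1
        right
        by_cases h2 : Nat.card R' = Nat.card P
        · by_cases h3 : R' ∈ 𝒬₂
          · have hαF : α ∈ F.autGroup R' := (mem_autGroup_iff F hR'S α).mpr hα
            exact (mem_autGroup_iff E hR'S α).mp (hE R' ⟨hR', h3⟩ hαF)
          · exact stepA R' _ hα h2 h3
        · exact ih' _ _ hα (by omega)
  intro P φ hφ
  exact key _ P φ hφ rfl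

end Cfsg.Agent.Lib.Helper7
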