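import Mathlib
import Cfsg.Prelude.Def_FusionSystem
import Cfsg.Prelude.Def_FusionComponents
import Cfsg.Agent.Lib.Helper7.FusionCore

set_option autoImplicit false

namespace Cfsg.Agent.Lib.Helper7

open Cfsg Cfsg.FusionSystem

variable {Ω : Type*} [Group Ω] {S : Subgroup Ω}

theorem stronglyClosed_ker_of_isMorphism (F : FusionSystem S) {Ω' : Type*} [Group Ω'] {S' : Subgroup Ω'}
    (F' : FusionSystem S') (α : S →* Ω') (hα : F.IsMorphism F' α) :
    F.StronglyClosed ((α.ker).map S.subtype) := by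
  refine ⟨Subgroup.map_subtype_le _, ?_⟩
  intro R hR φ hφ x
  obtain ⟨φ', -, hPS, hφS, hP', hind⟩ := hα.2 R φ hφ
  have hx : α ⟨x, hPS x.2⟩ = 1 := by
    obtain ⟨s, hs, hsx⟩ := hR x.2
    have : s = ⟨x, hPS x.2⟩ := Subtype.ext hsx
    rw [← this]
    exact hs
  have h1 := hind x
  have h2 : (⟨α ⟨x, hPS x.2⟩, hP' x⟩ : imageAlong α R) = 1 := Subtype.ext hx
  rw [h2, map_one] at h1
  exact ⟨⟨φ x, hφS x⟩, h1.symm, rfl⟩

end Cfsg.Agent.Lib.Helper7
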