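import Mathlib
import Cfsg.Prelude.Def_FusionSystem
import Cfsg.Agent.Lib.Helper7.SolvableExtension
import Cfsg.Agent.Lib.Helper7.FusionSeries

set_option autoImplicit false

namespace Cfsg.Agent.Lib.Helper7

open Cfsg Cfsg.FusionSystem
open scoped commutatorElement

variable {Ω : Type*} [Group Ω] {S : Subgroup Ω}

theorem isNormal_iSup [Finite S] (F : FusionSystem S) {ι : Sort*} (f : ι → Subgroup Ω)
    (h : ∀ i, F.IsNormal (f i)) : F.IsNormal (⨆ i, f i) := by
  have key := sSup_mem_of_sup_closed {Q : Subgroup Ω | F.IsNormal Q ∧ Q ≤ ⨆ i, f i}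
    (fun _ hQ => hQ.1.1) ⟨isNormal_bot F, bot_le⟩
    (fun _ h₁ _ h₂ => ⟨isNormal_sup F h₁.1 h₂.1, sup_le h₁.2 h₂.2⟩)
  have heq : sSup {Q : Subgroup Ω | F.IsNormal Q ∧ Q ≤ ⨆ i, f i} = ⨆ i, f i := by
    apply le_antisymm
    · exact sSup_le fun Q hQ => hQ.2
    · exact iSup_le fun i => le_sSup ⟨h i, le_iSup f i⟩
  rw [heq] at key
  exact key.1

theorem autImage_bot {T : Subgroup Ω} (α : MulAut T) : autImage α ⊥ = ⊥ := by
  rw [eq_bot_iff]
  intro y hy
  obtain ⟨x, hx, rfl⟩ := (mem_autImage α ⊥ y).mp hy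
  have : x = 1 := Subtype.ext (Subgroup.mem_bot.mp hx)
  rw [this, map_one]; exact Subgroup.one_mem _

theorem autImage_mono {T : Subgroup Ω} (α : MulAut T) {U V : Subgroup Ω} (h : U ≤ V) :
    autImage α U ≤ autImage α V := by
  intro y hy
  obtain ⟨x, hx, rfl⟩ := (mem_autImage α U y).mp hy
  exact (mem_autImage α V _).mpr ⟨x, h hx, rfl⟩

theorem commutator_autImage_le {T : Subgroup Ω} (α : MulAut T) {A B C : Subgroup Ω}
    (h : ⁅A, B⁆ ≤ C) : ⁅autImage α A, autImage α B⁆ ≤ autImage α C := by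
  rw [Subgroup.commutator_le]
  intro a ha b hb
  obtain ⟨a₀, ha₀, rfl⟩ := (mem_autImage _ _ _).mp ha
  obtain ⟨b₀, hb₀, rfl⟩ := (mem_autImage _ _ _).mp hb
  refine (mem_autImage _ _ _).mpr ⟨⁅a₀, b₀⁆, h (Subgroup.commutator_mem_commutator ha₀ hb₀), ?_⟩
  rw [map_commutatorElement]; rfl

/-- the image under `α ∈ Aut_F(T)` of a subgroup normal in an invariant saturated subsystem is normal in it -/
theorem isNormal_autImage {F : FusionSystem S} {T : Subgroup Ω} [Finite T] (p : ℕ) [Fact p.Prime]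
    (hT : IsPGroup p T) (E : FusionSystem T) (hEsat : E.IsSaturated p) (hE : E.IsInvariantIn F)
    {R : Subgroup Ω} (hR : E.IsNormal R) (α : MulAut T) (hα : α ∈ F.autGroup T) :
    E.IsNormal (autImage α R) := by
  obtain ⟨n, Qs, h0, hlast, hmono, hstep⟩ := exists_series_of_isNormal p hT E R hR
  apply isNormal_of_series p hT E hEsat (autImage α R) n (fun i => autImage α (Qs i))
  · show autImage α (Qs 0) = ⊥
    rw [h0, autImage_bot]
  · show autImage α (Qs (Fin.last n)) = autImage α R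
    rw [hlast]
  · intro i
    exact ⟨stronglyClosed_autImage E hE (hstep i).1 α hα, commutator_autImage_le α (hstep i).2⟩

/-- the intersection of the `Aut_F(T)`-images of a subgroup strongly closed in an invariant subsystem is
strongly closed in `F` -/
theorem stronglyClosed_iInf_autImage {F : FusionSystem S} {T : Subgroup Ω} (E : FusionSystem T)
    (hE : E.IsInvariantIn F) {U : Subgroup Ω} (hU : E.StronglyClosed U) :
    F.StronglyClosed (⨅ α : F.autGroup T, autImage (α : MulAut T) U) := by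
  have hTS := hE.2.1.1
  obtain ⟨hEF, hT, hinv, hfrat⟩ := id hE
  set g := ⨅ α : F.autGroup T, autImage (α : MulAut T) U with hg
  have hgmem : ∀ y, y ∈ g ↔ ∀ α : F.autGroup T, y ∈ autImage (α : MulAut T) U := fun y =>
    Subgroup.mem_iInf
  have hgT : g ≤ T := (iInf_le _ (1 : F.autGroup T)).trans (autImage_le _ _)
  have hgE : E.StronglyClosed g := by
    refine ⟨hgT, fun P hP φ hφ x => ?_⟩
    rw [hgmem]
    intro α
    exact (stronglyClosed_autImage E hE hU α α.2).2 P (hP.trans (iInf_le _ α)) φ hφ x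
  have hginv : ∀ β ∈ F.autGroup T, ∀ y : T, (y : Ω) ∈ g → ((β y : T) : Ω) ∈ g := by
    intro β hβ y hy
    rw [hgmem] at hy ⊢
    intro α
    have := hy (⟨β, hβ⟩⁻¹ * α)
    obtain ⟨x, hx, hxy⟩ := (mem_autImage _ _ _).mp this
    refine (mem_autImage _ _ _).mpr ⟨x, hx, ?_⟩
    have e : y = ((⟨β, hβ⟩⁻¹ * α : F.autGroup T) : MulAut T) x := Subtype.ext hxy.symm
    rw [e]
    show _ = (((β * (β⁻¹ * (α : MulAut T))) x : T) : Ω)
    rw [mul_inv_cancel_left]
  refine ⟨hgT.trans hTS, fun P hP φ hφ x => ?_⟩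
  obtain ⟨α, hα, φ₀, hφ₀, hφφ₀⟩ := hfrat P (hP.trans hgT) φ hφ
  have h1 := hgE.2 P hP φ₀ hφ₀ x
  have h2 := (E.le_of_mem hφ₀).2 x
  rw [hφφ₀ x h2]
  exact hginv α hα ⟨φ₀ x, h2⟩ h1

theorem normal_closure_isNormal [Finite S] (p : ℕ) [Fact p.Prime] (hS : IsPGroup p S)
    (F : FusionSystem S) (hF : F.IsSaturated p) {T : Subgroup Ω} (E : FusionSystem T)
    (hE : E.IsWeaklyNormalIn F p) (R : Subgroup Ω) (hR : E.IsNormal R) :
    F.IsNormal (Subgroup.closure {x : Ω | ∃ φ ∈ F.Hom R, ∃ r : R, x = φ r}) := by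
  obtain ⟨hEsat, -, hEinv⟩ := hE
  obtain ⟨hEF, hT, hinv, hfrat⟩ := id hEinv
  have hTS := hT.1
  haveI : Finite T := finite_of_le hTS
  have hTp : IsPGroup p T := hS.to_le hTS
  have hRT := hR.1
  set Rs := ⨆ α : F.autGroup T, autImage (α : MulAut T) R with hRs
  have hRsT : Rs ≤ T := iSup_le fun α => autImage_le _ _
  -- the closure is `Rs`
  have hcl : Subgroup.closure {x : Ω | ∃ φ ∈ F.Hom R, ∃ r : R, x = φ r} = Rs := by
    apply le_antisymm
    · rw [Subgroup.closure_le]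
      rintro _ ⟨φ, hφ, r, rfl⟩
      obtain ⟨α, hα, φ₀, hφ₀, hφφ₀⟩ := hfrat R hRT φ hφ
      have h1 := (stronglyClosed_of_isNormal E hR).2 R le_rfl φ₀ hφ₀ r
      have h2 := (E.le_of_mem hφ₀).2 r
      rw [hφφ₀ r h2]
      exact le_iSup (fun α : F.autGroup T => autImage (α : MulAut T) R) ⟨α, hα⟩
        ((mem_autImage _ _ _).mpr ⟨⟨φ₀ r, h2⟩, h1, rfl⟩)
    · apply iSup_le
      intro α y hy
      obtain ⟨x, hx, rfl⟩ := (mem_autImage _ _ _).mp hy
      apply Subgroup.subset_closure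
      refine ⟨_, fs_restrict_mem F hRT ((mem_autGroup_iff F hTS (α : MulAut T)).mp α.2), ⟨x, hx⟩, rfl⟩
  rw [hcl]
  -- `Rs` is normal in `E`
  have hRsE : E.IsNormal Rs :=
    isNormal_iSup E _ (fun α => isNormal_autImage p hTp E hEsat hEinv hR (α : MulAut T) α.2)
  -- `Rs` is invariant under `Aut_F(T)`
  have hRsinv : ∀ β ∈ F.autGroup T, ∀ y (hy : y ∈ T), y ∈ Rs → ((β ⟨y, hy⟩ : T) : Ω) ∈ Rs := by
    intro β hβ y hy hyRs
    have key : ∃ hy : y ∈ T, ((β ⟨y, hy⟩ : T) : Ω) ∈ Rs := by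
      refine Subgroup.iSup_induction (fun α : F.autGroup T => autImage (α : MulAut T) R)
        (C := fun y => ∃ hy : y ∈ T, ((β ⟨y, hy⟩ : T) : Ω) ∈ Rs) hyRs ?_ ?_ ?_
      · intro α z hz
        obtain ⟨x, hx, rfl⟩ := (mem_autImage _ _ _).mp hz
        refine ⟨((α : MulAut T) x).2, ?_⟩
        apply le_iSup (fun α : F.autGroup T => autImage (α : MulAut T) R) (⟨β, hβ⟩ * α)
        exact (mem_autImage _ _ _).mpr ⟨x, hx, rfl⟩
      · refine ⟨T.one_mem, ?_⟩
        have : (⟨1, T.one_mem⟩ : T) = 1 := rfl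
        rw [this, map_one]; exact Subgroup.one_mem _
      · rintro a b ⟨ha, ha'⟩ ⟨hb, hb'⟩
        refine ⟨T.mul_mem ha hb, ?_⟩
        have : (⟨a * b, T.mul_mem ha hb⟩ : T) = ⟨a, ha⟩ * ⟨b, hb⟩ := rfl
        rw [this, map_mul]
        exact Rs.mul_mem ha' hb'
    exact key.2
  have hRsimg : ∀ β : F.autGroup T, autImage (β : MulAut T) Rs = Rs := by
    intro β
    apply le_antisymm
    · intro y hy
      obtain ⟨x, hx, rfl⟩ := (mem_autImage _ _ _).mp hy
      exact hRsinv _ β.2 x x.2 hx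
    · intro y hy
      have h1 := hRsinv _ (β⁻¹).2 y (hRsT hy) hy
      refine (mem_autImage _ _ _).mpr ⟨((β⁻¹ : F.autGroup T) : MulAut T) ⟨y, hRsT hy⟩, h1, ?_⟩
      show (((β : MulAut T) ((β : MulAut T)⁻¹ ⟨y, hRsT hy⟩) : T) : Ω) = y
      rw [MulAut.apply_inv_self]
  -- the series
  obtain ⟨n, Qs, h0, hlast, hmono, hstep⟩ := exists_series_of_isNormal p hTp E Rs hRsE
  apply isNormal_of_series p hS F hF Rs n (fun i => ⨅ β : F.autGroup T, autImage (β : MulAut T) (Qs i))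
  · show ⨅ β : F.autGroup T, autImage (β : MulAut T) (Qs 0) = ⊥
    rw [h0, eq_bot_iff]
    exact (iInf_le _ (1 : F.autGroup T)).trans (le_of_eq (autImage_bot _))
  · show ⨅ β : F.autGroup T, autImage (β : MulAut T) (Qs (Fin.last n)) = Rs
    rw [hlast]
    apply le_antisymm
    · exact (iInf_le _ (1 : F.autGroup T)).trans (le_of_eq (hRsimg 1))
    · exact le_iInf fun β => (hRsimg β).ge
  · intro i
    refine ⟨stronglyClosed_iInf_autImage E hEinv (hstep i).1, ?_⟩
    apply le_iInf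
    intro β
    have h1 : ⁅autImage (β : MulAut T) Rs, autImage (β : MulAut T) (Qs i.succ)⁆ ≤
        autImage (β : MulAut T) (Qs (Fin.castSucc i)) := commutator_autImage_le _ (hstep i).2
    rw [hRsimg β] at h1
    exact (Subgroup.commutator_mono le_rfl (iInf_le _ β)).trans h1

end Cfsg.Agent.Lib.Helper7
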