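import Mathlib
import Cfsg.Prelude.Def_FusionSystem
import Cfsg.Prelude.Def_PLocal
import Cfsg.Agent.Lib.Helper7.SmallFix
import Cfsg.Agent.Lib.Helper7.FusionChain
import Cfsg.Agent.Lib.Helper7.FusionCore2
import Cfsg.Agent.Lib.Helper7.FusionProdClosed

set_option autoImplicit false

namespace Cfsg.Agent.Lib.Helper7

open Cfsg Cfsg.FusionSystem
open scoped commutatorElement

variable {Ω : Type*} [Group Ω] {S : Subgroup Ω}

/-- If a normal `p`-subgroup `K` of `Aut_F(R)` (`R` centric radical) contains the automorphisms induced by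
`N_Q(R)` (`Q ⊴ S`), then `Q ≤ R`. -/
theorem le_of_normal_pSubgroup_centric_radical [Finite S] (p : ℕ) [Fact p.Prime] (hS : IsPGroup p S)
    (F : FusionSystem S) {P Q : Subgroup Ω} (hcen : F.IsCentric P) (hrad : F.IsRadical p P)
    (hQS : Q ≤ S) (hN : S ≤ Subgroup.normalizer (Q : Set Ω)) (K : Subgroup (MulAut P))
    (hKA : K ≤ F.autGroup P) (hKn : ∀ α ∈ F.autGroup P, ∀ β ∈ K, α * β * α⁻¹ ∈ K)
    (hKp : IsPGroup p K)
    (hQK : ∀ g ∈ Q, ∀ hg : g ∈ Subgroup.normalizer (P : Set Ω), P.normalizerMonoidHom ⟨g, hg⟩ ∈ K) :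
    Q ≤ P := by
  have hPS := hcen.1
  have hcenP : centralizerIn S P ≤ P := hcen.2 P (isConj_refl F hPS)
  have hcore : K.subgroupOf (F.autGroup P) ≤ pCore p (F.autGroup P) := by
    apply le_pCore
    · refine ⟨fun n hn a => ?_⟩
      exact Subgroup.mem_subgroupOf.mpr (hKn a a.2 n (Subgroup.mem_subgroupOf.mp hn))
    · exact hKp.comap_subtype
  apply le_of_normalizer_inter_le hS hPS hQS hN
  intro g hgQ hgN
  apply mem_of_normalizerMonoidHom_mem_inn hcenP hPS (hQS hgQ) hgN
  rw [← hrad.2]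
  have hβK := hQK g hgQ hgN
  exact ⟨⟨_, hKA hβK⟩, hcore (Subgroup.mem_subgroupOf.mpr hβK), rfl⟩

theorem isNormal_of_omega_series [Finite S] (p : ℕ) [Fact p.Prime] (hS : IsPGroup p S)
    (F : FusionSystem S) (hF : F.IsSaturated p) (hp2 : p ≠ 2) (P : Subgroup Ω)
    (hP : F.StronglyClosed P) (n : ℕ) (Q : Fin (n + 1) → Subgroup Ω) (hQ0 : Q 0 = ⊥)
    (hQn : Q (Fin.last n) = omegaOne p P) (hsc : ∀ i, F.StronglyClosed (Q i))
    (hcomm : ∀ i : Fin n, ⁅Q i.succ, P⁆ ≤ Q i.castSucc) : F.IsNormal P := by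
  have hN := le_normalizer_of_stronglyClosed F hP
  rw [isNormal_iff_stronglyClosed_le_centric_radical p hS F hF]
  refine ⟨hP, fun R hcen hrad => ?_⟩
  have hRS := hcen.1
  haveI := finite_of_le hRS
  haveI : Finite (MulAut ↥R) := inferInstance
  have hRp : IsPGroup p R := hS.to_le hRS
  let Q' : ℕ → Subgroup Ω := fun i => if h : i < n + 1 then Q ⟨i, h⟩ else ⊤
  have hQ'sc : ∀ i, i < n + 1 → F.StronglyClosed (Q' i) := by
    intro i hi
    simp only [Q', hi, dif_pos]
    exact hsc _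
  have hA : ∀ i, ∀ α ∈ F.autGroup R, ∀ x ∈ (fun i => (Q' i).subgroupOf R) i,
      α x ∈ (fun i => (Q' i).subgroupOf R) i := by
    intro i α hα x hx
    by_cases hi : i < n + 1
    · exact Subgroup.mem_subgroupOf.mpr
        (autGroup_apply_mem_of_stronglyClosed F (hQ'sc i hi) hRS α hα x (Subgroup.mem_subgroupOf.mp hx))
    · show ((α x : R) : Ω) ∈ Q' i
      simp only [Q', hi, dif_neg, not_false_eq_true]
      exact Subgroup.mem_top _
  have hA' : ∀ i, ∀ α ∈ F.autGroup R, ∀ x ∈ (fun i : ℕ => if i = 0 then P.subgroupOf R else ⊤) i,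
      α x ∈ (fun i : ℕ => if i = 0 then P.subgroupOf R else ⊤) i := by
    intro i α hα x hx
    by_cases h0 : i = 0
    · simp only [h0, if_true] at hx ⊢
      exact Subgroup.mem_subgroupOf.mpr
        (autGroup_apply_mem_of_stronglyClosed F hP hRS α hα x (Subgroup.mem_subgroupOf.mp hx))
    · simp only [h0, if_false]; exact Subgroup.mem_top _
  have hQ'0 : Q' 0 = ⊥ := by
    simp only [Q', Nat.zero_lt_succ, dif_pos]
    exact hQ0
  have hQ'n : Q' n = omegaOne p P := by
    simp only [Q', Nat.lt_succ_self, dif_pos]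
    exact hQn
  have hQ'comm : ∀ i, i < n → ⁅Q' (i + 1), P⁆ ≤ Q' i := by
    intro i hi
    have h1 : i + 1 < n + 1 := by omega
    have h2 : i < n + 1 := by omega
    simp only [Q', h1, h2, dif_pos]
    exact hcomm ⟨i, hi⟩
  apply le_of_normal_pSubgroup_centric_radical p hS F hcen hrad hP.1 hN
    (stabChain (F.autGroup R) (fun i => (Q' i).subgroupOf R) n hA ⊓
      stabChain (F.autGroup R) (fun i : ℕ => if i = 0 then P.subgroupOf R else ⊤) 1 hA')
  · exact inf_le_left.trans (stabChain_le _ _ _ _)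
  · intro α hα β hβ
    exact ⟨stabChain_conj_mem _ _ _ hA hα hβ.1, stabChain_conj_mem _ _ _ hA' hα hβ.2⟩
  · apply isPGroup_of_coprime_trivial
    intro β hβ hcop
    have hmodP : ∀ γ ∈ stabChain (F.autGroup R) (fun i : ℕ => if i = 0 then P.subgroupOf R else ⊤) 1 hA',
        ∀ x : R, x⁻¹ * γ x ∈ P.subgroupOf R := by
      intro γ hγ x
      have := hγ.2 0 (by omega) x (by simp)
      simpa using this
    -- β fixes each term of the chain
    have hfix : ∀ i, i ≤ n → ∀ x : R, (x : Ω) ∈ Q' i → β x = x := by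
      intro i
      induction i with
      | zero =>
        intro _ x hx
        rw [hQ'0, Subgroup.mem_bot] at hx
        have : x = 1 := Subtype.ext hx
        rw [this, map_one]
      | succ i ih =>
        intro hi x hx
        have hd := hβ.1.2 i (by omega) x (Subgroup.mem_subgroupOf.mpr hx)
        have hdfix := ih (by omega) _ (Subgroup.mem_subgroupOf.mp hd)
        obtain ⟨j, hj⟩ := hRp (x⁻¹ * β x)
        have hx' : β x = x * (x⁻¹ * β x) := by group
        have := Cfsg.Agent.Lib.Lead.OmegaFaithful.eq_one_of_step β hcop hx' hdfix hj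
        rw [this, mul_one] at hx'
        exact hx'
    have hβinv : β⁻¹ ∈ stabChain (F.autGroup R)
        (fun i : ℕ => if i = 0 then P.subgroupOf R else ⊤) 1 hA' := Subgroup.inv_mem _ hβ.2
    apply eq_one_of_fixes_small_mod hRp β hcop (P.subgroupOf R) (hmodP β hβ.2) (hmodP _ hβinv)
    intro x hx hs
    apply hfix n le_rfl
    rw [hQ'n]
    apply Subgroup.subset_closure
    refine ⟨Subgroup.mem_subgroupOf.mp hx, ?_⟩
    rcases hs with h | ⟨h2, -⟩
    · have := congrArg Subtype.val h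
      simpa using this
    · exact absurd h2 hp2
  · intro g hgP hgN
    have hgS : g ∈ S := hP.1 hgP
    have hcgA : R.normalizerMonoidHom ⟨g, hgN⟩ ∈ F.autGroup R :=
      autInducedBy_le_autGroup F hRS ((mem_autInducedBy_iff S R _).mpr ⟨g, hgS, fun x => rfl⟩)
    refine ⟨⟨hcgA, fun i hi x hx => ?_⟩, ⟨hcgA, fun i hi x _ => ?_⟩⟩
    · apply Subgroup.mem_subgroupOf.mpr
      show (x : Ω)⁻¹ * (g * x * g⁻¹) ∈ Q' i
      apply hQ'comm i hi
      have hx' : (x : Ω) ∈ Q' (i + 1) := Subgroup.mem_subgroupOf.mp hx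
      have := Subgroup.commutator_mem_commutator (Subgroup.inv_mem _ hx') hgP
      convert this using 1
      rw [commutatorElement_def]
      group
    · have hi0 : i = 0 := by omega
      subst hi0
      simp only [if_true]
      apply Subgroup.mem_subgroupOf.mpr
      show (x : Ω)⁻¹ * (g * x * g⁻¹) ∈ P
      have h1 : (x : Ω)⁻¹ * g * (x : Ω)⁻¹⁻¹ ∈ P :=
        (Subgroup.mem_normalizer_iff.mp (hN (S.inv_mem (hRS x.2))) g).mp hgP
      have := P.mul_mem h1 (P.inv_mem hgP)
      convert this using 1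
      group

theorem exists_omega_series_of_isNormal [Finite S] (p : ℕ) [Fact p.Prime] (hS : IsPGroup p S)
    (F : FusionSystem S) (P : Subgroup Ω) (hP : F.IsNormal P) :
    ∃ (n : ℕ) (Q : Fin (n + 1) → Subgroup Ω), Q 0 = ⊥ ∧ Q (Fin.last n) = omegaOne p P ∧ Monotone Q ∧
      (∀ i : Fin (n + 1), F.StronglyClosed (Q i)) ∧ ∀ i : Fin n, ⁅Q i.succ, P⁆ ≤ Q i.castSucc := by
  have hPS := hP.1
  haveI := finite_of_le hPS
  have hnil : Group.IsNilpotent ↥P := (hS.to_le hPS).isNilpotent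
  obtain ⟨n, hn⟩ := hnil.nilpotent'
  have hWP : omegaOne p P ≤ P := by
    unfold omegaOne
    rw [Subgroup.closure_le]
    rintro x ⟨hx, -⟩
    exact hx
  have hWeq : omegaOne p P = (Subgroup.closure {x : P | x ^ p = 1}).map P.subtype := by
    unfold omegaOne
    rw [MonoidHom.map_closure]
    congr 1
    ext x
    constructor
    · rintro ⟨hx, hxp⟩
      exact ⟨⟨x, hx⟩, Subtype.ext (by simpa using hxp), rfl⟩
    · rintro ⟨y, hy, rfl⟩
      refine ⟨y.2, ?_⟩
      have := congrArg Subtype.val (show y ^ p = 1 from hy)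
      simpa using this
  haveI hWchar : (Subgroup.closure {x : P | x ^ p = 1}).Characteristic := by
    rw [Subgroup.characteristic_iff_map_le]
    intro φ
    rw [MonoidHom.map_closure]
    apply Subgroup.closure_mono
    rintro _ ⟨x, hx, rfl⟩
    show (φ x) ^ p = 1
    rw [← map_pow, show x ^ p = 1 from hx, map_one]
  have hmemW : ∀ a : P, (a : Ω) ∈ omegaOne p P → a ∈ Subgroup.closure {x : P | x ^ p = 1} := by
    intro a ha
    rw [hWeq] at ha
    obtain ⟨y, hy, hya⟩ := ha
    have : y = a := Subtype.ext hya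
    exact this ▸ hy
  refine ⟨n, fun i => omegaOne p P ⊓ (Subgroup.upperCentralSeries ↥P i.val).map P.subtype,
    ?_, ?_, ?_, ?_, ?_⟩
  · show omegaOne p P ⊓ (Subgroup.upperCentralSeries ↥P 0).map P.subtype = ⊥
    rw [Subgroup.upperCentralSeries_zero, Subgroup.map_bot, inf_bot_eq]
  · show omegaOne p P ⊓ (Subgroup.upperCentralSeries ↥P n).map P.subtype = omegaOne p P
    rw [hn, ← MonoidHom.range_eq_map, Subgroup.range_subtype]
    exact inf_eq_left.mpr hWP
  · intro i j hij
    exact inf_le_inf_left _ (Subgroup.map_mono (Subgroup.upperCentralSeries_mono _ hij))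
  · intro i
    apply stronglyClosed_of_isNormal F
    apply isNormal_of_characteristic F P _ hP (inf_le_left.trans hWP)
    have e : (omegaOne p P ⊓ (Subgroup.upperCentralSeries ↥P i.val).map P.subtype).subgroupOf P =
        Subgroup.closure {x : P | x ^ p = 1} ⊓ Subgroup.upperCentralSeries ↥P i.val := by
      ext x
      simp only [Subgroup.mem_subgroupOf, Subgroup.mem_inf]
      constructor
      · rintro ⟨h1, ⟨z, hz, hzx⟩⟩
        have hz' : z = x := Subtype.ext hzx
        exact ⟨hmemW x h1, hz' ▸ hz⟩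
      · rintro ⟨h1, h2⟩
        rw [hWeq]
        exact ⟨⟨x, h1, rfl⟩, ⟨x, h2, rfl⟩⟩
    rw [e]
    infer_instance
  · intro i
    rw [Subgroup.commutator_le]
    intro a ha b hb
    obtain ⟨haW, a', ha', rfl⟩ := ha
    have ha'' : a' ∈ Subgroup.upperCentralSeries ↥P (i.val + 1) := by
      simpa using ha'
    have hcomm : (⁅(a' : Ω), b⁆ : Ω) = ((⁅a', (⟨b, hb⟩ : P)⁆ : P) : Ω) := by
      simp [commutatorElement_def]
    show ⁅(a' : Ω), b⁆ ∈ omegaOne p P ⊓
      (Subgroup.upperCentralSeries ↥P i.val).map P.subtype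
    rw [hcomm]
    refine ⟨?_, ?_⟩
    · rw [hWeq]
      refine ⟨⁅a', (⟨b, hb⟩ : P)⁆, ?_, rfl⟩
      have h1 := hmemW a' haW
      have hnorm : (Subgroup.closure {x : P | x ^ p = 1}).Normal := inferInstance
      have h2 := hnorm.conj_mem _ (Subgroup.inv_mem _ h1) (⟨b, hb⟩ : P)
      have := Subgroup.mul_mem _ h1 h2
      have e : ⁅a', (⟨b, hb⟩ : P)⁆ = a' * ((⟨b, hb⟩ : P) * a'⁻¹ * (⟨b, hb⟩ : P)⁻¹) := by
        rw [commutatorElement_def]
        group
      rw [e]
      exact this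
    · refine ⟨⁅a', (⟨b, hb⟩ : P)⁆, ?_, rfl⟩
      have := (Subgroup.mem_upperCentralSeries_succ_iff.mp ha'') (⟨b, hb⟩ : P)
      simpa using this

theorem isNormal_iff_omega_series [Finite S] (p : ℕ) [Fact p.Prime] (hS : IsPGroup p S)
    (F : FusionSystem S) (hF : F.IsSaturated p) (hp : p ≠ 2) (P : Subgroup Ω)
    (hP : F.StronglyClosed P) :
    F.IsNormal P ↔ ∃ (n : ℕ) (Q : Fin (n + 1) → Subgroup Ω), Q 0 = ⊥ ∧
      Q (Fin.last n) = omegaOne p P ∧ Monotone Q ∧ (∀ i : Fin (n + 1), F.StronglyClosed (Q i)) ∧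
      ∀ i : Fin n, ⁅Q i.succ, P⁆ ≤ Q i.castSucc := by
  constructor
  · exact exists_omega_series_of_isNormal p hS F P
  · rintro ⟨n, Q, hQ0, hQn, -, hsc, hcomm⟩
    exact isNormal_of_omega_series p hS F hF hp P hP n Q hQ0 hQn hsc hcomm

end Cfsg.Agent.Lib.Helper7
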