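import Mathlib
import Cfsg.Prelude.Def_FusionSystem
import Cfsg.Agent.Lib.Helper7.FusionCore

set_option autoImplicit false

namespace Cfsg.Agent.Lib.Helper7

open Cfsg Cfsg.FusionSystem

variable {Ω : Type*} [Group Ω] {S : Subgroup Ω}

theorem isSimple_of_inner_top_of_no_stronglyClosed (p : ℕ) (F : FusionSystem S)
    (hF : F.IsSaturated p) (hS1 : S ≠ ⊥) (htop : F.autGroup S = Inn ↥S)
    (hsc : ∀ T : Subgroup Ω, F.StronglyClosed T → T = ⊥ ∨ T = S) : F.IsSimple p := by
  refine ⟨hF, hS1, ?_⟩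
  intro T E hE
  obtain ⟨⟨-, -, hsub, hTsc, -, hfrat⟩, -⟩ := hE
  rcases hsc T hTsc with hT | hT
  · exact Or.inl hT
  · right
    subst hT
    refine ⟨rfl, fun P => ?_⟩
    ext φ
    constructor
    · exact fun h => hsub P h
    · intro hφ
      have hPT : P ≤ T := (F.le_of_mem hφ).1
      obtain ⟨α, hα, φ₀, hφ₀, hcomp⟩ := hfrat P hPT φ hφ
      rw [htop] at hα
      obtain ⟨s, rfl⟩ := hα
      have hval : ∀ x : P, φ₀ x ∈ T := (E.le_of_mem hφ₀).2
      have h1 := E.comp_mem hφ₀ (E.conj_mem (le_refl T) s.2) hval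
      have e : (conjHom T (s : Ω)).comp (φ₀.codRestrict T hval) = φ := by
        ext x
        rw [hcomp x (hval x)]
        rfl
      rwa [e] at h1

theorem isSimple_of_transitive_on_order_p [Finite S] (p : ℕ) [Fact p.Prime] (hS : IsPGroup p S)
    (F : FusionSystem S) (hF : F.IsSaturated p) (hS1 : S ≠ ⊥)
    (hgen : Subgroup.closure {x : Ω | x ∈ S ∧ orderOf x = p} = S)
    (htr : ∀ A B : Subgroup Ω, A ≤ S → B ≤ S → Nat.card A = p → Nat.card B = p → F.IsConj A B)
    (htop : F.autGroup S = Inn ↥S) : F.IsSimple p := by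
  apply isSimple_of_inner_top_of_no_stronglyClosed p F hF hS1 htop
  intro T hT
  by_cases hT1 : T = ⊥
  · exact Or.inl hT1
  right
  apply le_antisymm hT.1
  have hfinT : Finite ↥T := Finite.of_injective (Subgroup.inclusion hT.1) (Subgroup.inclusion_injective _)
  have hTp : IsPGroup p ↥T := hS.to_le hT.1
  -- an element of order p in T
  have hnt : Nontrivial ↥T := (Subgroup.nontrivial_iff_ne_bot T).mpr hT1
  obtain ⟨n, hn⟩ := IsPGroup.iff_card.mp hTp
  have hdvd : p ∣ Nat.card ↥T := by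
    rw [hn]
    apply dvd_pow_self
    rintro rfl
    rw [pow_zero] at hn
    have := Finite.one_lt_card_iff_nontrivial.mpr hnt
    omega
  obtain ⟨t, ht⟩ := exists_prime_orderOf_dvd_card' p hdvd
  have hto : orderOf (t : Ω) = p := by rw [← ht]; exact Subgroup.orderOf_coe t
  set A : Subgroup Ω := Subgroup.zpowers (t : Ω) with hA
  have hAT : A ≤ T := Subgroup.zpowers_le.mpr t.2
  have hAcard : Nat.card ↥A = p := by rw [hA, Nat.card_zpowers, hto]
  conv_lhs => rw [← hgen]
  rw [Subgroup.closure_le]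
  rintro x ⟨hxS, hxo⟩
  set B : Subgroup Ω := Subgroup.zpowers x with hB
  have hBS : B ≤ S := Subgroup.zpowers_le.mpr hxS
  have hBcard : Nat.card ↥B = p := by rw [hB, Nat.card_zpowers, hxo]
  obtain ⟨φ, hφ, hrange⟩ := htr A B (hAT.trans hT.1) hBS hAcard hBcard
  have hxB : x ∈ φ.range := by rw [hrange]; exact Subgroup.mem_zpowers x
  obtain ⟨a, rfl⟩ := hxB
  exact hT.2 A hAT φ hφ a

end Cfsg.Agent.Lib.Helper7
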