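import Mathlib
import Cfsg.Prelude.Def_FusionSystem
import Cfsg.Agent.Lib.Helper7.SmallFix
import Cfsg.Agent.Lib.Helper7.FusionTopNormal
import Cfsg.Agent.Lib.Helper7.FusionSat4

set_option autoImplicit false

namespace Cfsg.Agent.Lib.Helper7

open Cfsg Cfsg.FusionSystem

variable {Ω : Type*} [Group Ω] {S : Subgroup Ω}

theorem isNormal_top_of_small_normal [Finite S] (p : ℕ) [Fact p.Prime] (hS : IsPGroup p S)
    (F : FusionSystem S) (hF : F.IsSaturated p)
    (hnorm : ∀ x ∈ F.focalSubgroup, (x ^ p = 1 ∨ (p = 2 ∧ x ^ 4 = 1)) →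
      ∀ s ∈ S, s * x * s⁻¹ ∈ Subgroup.zpowers x) : F.IsNormal S := by
  apply isNormal_top_of_normal_sylow p hS F hF
  intro P hFN hcen hrad
  have hPS := hFN.1
  haveI := finite_of_le hPS
  haveI : Finite (MulAut ↥P) := inferInstance
  have hPp : IsPGroup p P := hS.to_le hPS
  obtain ⟨R', hcR, hFAR, hRecR⟩ := hF P hPS
  obtain ⟨hFA, -⟩ := isFullyAutomized_isReceptive_of_isFullyNormalized p hS F hFN hFAR hRecR hcR
  obtain ⟨-, R, hR⟩ := hFA
  refine ⟨R, ?_⟩
  have hmod : ∀ β ∈ F.autGroup P, ∀ x : P, x⁻¹ * β x ∈ (F.focalSubgroup).subgroupOf P := by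
    intro β hβ x
    rw [Subgroup.mem_subgroupOf]
    apply Subgroup.subset_closure
    exact ⟨P, P.subtype.comp β.toMonoidHom, x, (mem_autGroup_iff F hPS β).mp hβ, rfl⟩
  have hinv : ∀ β ∈ F.autGroup P, ∀ x ∈ (F.focalSubgroup).subgroupOf P,
      β x ∈ (F.focalSubgroup).subgroupOf P := by
    intro β hβ x hx
    have := Subgroup.mul_mem _ hx (hmod β hβ x)
    simpa using this
  have hsmallΩ : ∀ x : P, (x ^ p = 1 ∨ (p = 2 ∧ x ^ 4 = 1)) →
      ((x : Ω) ^ p = 1 ∨ (p = 2 ∧ (x : Ω) ^ 4 = 1)) := by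
    intro x hx
    rcases hx with h | ⟨h2, h⟩
    · left
      have := congrArg Subtype.val h
      simpa using this
    · right
      refine ⟨h2, ?_⟩
      have := congrArg Subtype.val h
      simpa using this
  have hpowaux : ∀ β ∈ autInducedBy S P, ∀ x ∈ (F.focalSubgroup).subgroupOf P,
      (x ^ p = 1 ∨ (p = 2 ∧ x ^ 4 = 1)) → β x ∈ Subgroup.zpowers x := by
    intro β hβ x hx hs
    obtain ⟨s, hsS, hsβ⟩ := (mem_autInducedBy_iff S P β).mp hβ
    have h1 := hnorm (x : Ω) (Subgroup.mem_subgroupOf.mp hx) (hsmallΩ x hs) s hsS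
    obtain ⟨k, hk⟩ := Subgroup.mem_zpowers_iff.mp h1
    rw [Subgroup.mem_zpowers_iff]
    refine ⟨k, Subtype.ext ?_⟩
    rw [hsβ, ← hk]
    simp
  apply sylow_normal_of_powSmall (F.autGroup P) _ hinv R
  · intro r hr
    have hr' : (r : MulAut P) ∈ autInducedBy S P := by
      have : r ∈ (R : Subgroup (F.autGroup P)) := hr
      rw [hR] at this
      exact Subgroup.mem_subgroupOf.mp this
    refine ⟨r.2, fun x hx hs => ⟨hpowaux _ hr' x hx hs, hpowaux _ (Subgroup.inv_mem _ hr') x hx hs⟩⟩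
  · intro β hβ
    have hnormal : ((fixSmall p (F.autGroup P) ((F.focalSubgroup).subgroupOf P)).subgroupOf
        (F.autGroup P)).Normal := by
      refine ⟨fun n hn g => ?_⟩
      exact Subgroup.mem_subgroupOf.mpr
        (fixSmall_conj_mem hinv g.2 (Subgroup.mem_subgroupOf.mp hn))
    have hpg : IsPGroup p ((fixSmall p (F.autGroup P) ((F.focalSubgroup).subgroupOf P)).subgroupOf
        (F.autGroup P)) :=
      (isPGroup_fixSmall hPp (F.autGroup P) _ hmod).comap_subtype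
    have hcore := le_pCore hnormal hpg
    have hβcore : (⟨β, hβ.1⟩ : F.autGroup P) ∈ pCore p (F.autGroup P) :=
      hcore (Subgroup.mem_subgroupOf.mpr hβ)
    have hβinn : β ∈ Inn P := by
      rw [← hrad.2]
      exact ⟨⟨β, hβ.1⟩, hβcore, rfl⟩
    obtain ⟨g, rfl⟩ := hβinn
    show (⟨MulAut.conj g, _⟩ : F.autGroup P) ∈ (R : Subgroup (F.autGroup P))
    rw [hR, Subgroup.mem_subgroupOf, mem_autInducedBy_iff]
    exact ⟨g, hPS g.2, fun x => rfl⟩

end Cfsg.Agent.Lib.Helper7
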