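import Mathlib
import Cfsg.Prelude.Def_FusionSystem
import Cfsg.Agent.Lib.Helper7.FusionChain2
import Cfsg.Agent.Lib.Helper7.FusionCore

set_option autoImplicit false

namespace Cfsg.Agent.Lib.Helper7

open Cfsg Cfsg.FusionSystem
open scoped commutatorElement

variable {Ω : Type*} [Group Ω] {S : Subgroup Ω}

theorem weaklyClosed_of_stronglyClosed [Finite S] (F : FusionSystem S) {W : Subgroup Ω}
    (hW : F.StronglyClosed W) : F.WeaklyClosed W := by
  refine ⟨hW.1, fun φ hφ => ?_⟩
  haveI := finite_of_le hW.1
  apply Subgroup.eq_of_le_of_card_ge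
  · rintro _ ⟨x, rfl⟩
    exact hW.2 W le_rfl φ hφ x
  · exact (Nat.card_congr (Equiv.ofInjective φ (F.injective_of_mem hφ))).le

theorem weaklyClosed_bot (F : FusionSystem S) : F.WeaklyClosed (⊥ : Subgroup Ω) := by
  refine ⟨bot_le, fun φ _ => ?_⟩
  rw [eq_bot_iff]
  rintro _ ⟨x, rfl⟩
  have : x = 1 := Subsingleton.elim _ _
  rw [this, map_one]; exact Subgroup.one_mem _

theorem le_normalizer_of_weaklyClosed [Finite S] (F : FusionSystem S) {W : Subgroup Ω}
    (hW : F.WeaklyClosed W) : S ≤ Subgroup.normalizer (W : Set Ω) := by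
  haveI := finite_of_le hW.1
  intro g hg
  apply mem_normalizer_of_conj_mem_finite
  intro x hx
  have := hW.2 _ (F.conj_mem hW.1 hg)
  rw [← this]
  exact ⟨⟨x, hx⟩, rfl⟩

theorem map_eq_of_weaklyClosed [Finite S] (F : FusionSystem S) {W P : Subgroup Ω}
    (hW : F.WeaklyClosed W) (hPS : P ≤ S) (hWP : W ≤ P) (α : MulAut P) (hα : α ∈ F.autGroup P) :
    (W.subgroupOf P).map α.toMonoidHom = W.subgroupOf P := by
  haveI := finite_of_le hPS
  have hle : (W.subgroupOf P).map α.toMonoidHom ≤ W.subgroupOf P := by
    rintro _ ⟨x, hx, rfl⟩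
    have hxW : (x : Ω) ∈ W := Subgroup.mem_subgroupOf.mp hx
    have hφ := fs_restrict_mem F hWP ((mem_autGroup_iff F hPS α).mp hα)
    have h1 := hW.2 _ hφ
    apply Subgroup.mem_subgroupOf.mpr
    rw [← h1]
    exact ⟨⟨x, hxW⟩, rfl⟩
  apply Subgroup.eq_of_le_of_card_ge hle
  rw [Subgroup.card_map_of_injective α.injective]

/-- Induction step for S5226. -/
theorem isNormal_of_weak_series_step [Finite S] (p : ℕ) [Fact p.Prime] (hS : IsPGroup p S)
    (F : FusionSystem S) (hF : F.IsSaturated p) {Q : Subgroup Ω} (hQ : F.StronglyClosed Q)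
    (C : ℕ → Subgroup Ω) (k : ℕ) (h0 : C 0 = ⊥) (hnorm : ∀ j ≤ k, F.IsNormal (C j))
    (hcomm : ∀ j ≤ k, ⁅C (j + 1), Q⁆ ≤ C j) (hle : C (k + 1) ≤ Q)
    (hW : F.WeaklyClosed (C (k + 1))) : F.IsNormal (C (k + 1)) := by
  have hNQ := le_normalizer_of_stronglyClosed F hQ
  have hNW := le_normalizer_of_weaklyClosed F hW
  apply isNormal_of_essential_invariant p hS F hF
  intro P hP
  have hPS : P ≤ S := by
    rcases hP with rfl | hess
    · exact le_rfl
    · exact hess.1.1
  have hWP : C (k + 1) ≤ P := by
    rcases hP with rfl | hess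
    · exact hW.1
    · have hcen := hess.1
      have hrad := isRadical_of_isEssential p hS F P hess
      apply le_of_chain_centric_radical p hS F hcen hrad hW.1 hNW
        (fun j => if j ≤ k then C j else if j = k + 1 then Q else ⊤) (k + 2)
      · simp only [Nat.zero_le, if_true]; exact h0
      · simp
      · intro j α hα x hx
        by_cases hj : j ≤ k
        · simp only [hj, if_true] at hx ⊢
          exact autGroup_apply_mem_of_stronglyClosed F (stronglyClosed_of_isNormal F (hnorm j hj))
            hPS α hα x hx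
        · by_cases hj1 : j = k + 1
          · simp only [hj1, if_true] at hx ⊢
            simp only [show ¬ (k + 1 ≤ k) by omega, if_false] at hx ⊢
            exact autGroup_apply_mem_of_stronglyClosed F hQ hPS α hα x hx
          · simp only [hj, hj1, if_false]
            exact Subgroup.mem_top _
      · intro g hgW hgN j hj x hxP hx
        have hgQ : g ∈ Q := hle hgW
        have e : x⁻¹ * (g * x * g⁻¹) = ⁅x⁻¹, g⁆ := by
          rw [commutatorElement_def]; group
        by_cases hj1 : j + 1 ≤ k
        · have hjk : j ≤ k := by omega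
          simp only [hj1, hjk, if_true] at hx ⊢
          rw [e]
          exact hcomm j hjk (Subgroup.commutator_mem_commutator (Subgroup.inv_mem _ hx) hgQ)
        · by_cases hj2 : j = k
          · subst hj2
            simp only [show ¬ (j + 1 ≤ j) by omega, if_false, if_true, le_refl] at hx ⊢
            rw [e]
            have h2 : ⁅x⁻¹, g⁆ ∈ ⁅Q, C (j + 1)⁆ :=
              Subgroup.commutator_mem_commutator (Subgroup.inv_mem _ hx) hgW
            rw [Subgroup.commutator_comm] at h2
            exact hcomm j le_rfl h2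
          · have hj3 : j = k + 1 := by omega
            subst hj3
            simp only [show ¬ (k + 1 ≤ k) by omega, if_false, if_true]
            have h1 : x⁻¹ * g * x⁻¹⁻¹ ∈ Q :=
              (Subgroup.mem_normalizer_iff.mp (hNQ (S.inv_mem (hPS hxP))) g).mp hgQ
            have := Q.mul_mem h1 (Q.inv_mem hgQ)
            convert this using 1
            group
  exact ⟨hWP, fun α hα => map_eq_of_weaklyClosed F hW hPS hWP α hα⟩

theorem isNormal_iff_weak_series [Finite S] (p : ℕ) [Fact p.Prime] (hS : IsPGroup p S)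
    (F : FusionSystem S) (hF : F.IsSaturated p) (Q : Subgroup Ω) :
    F.IsNormal Q ↔ F.StronglyClosed Q ∧ ∃ (n : ℕ) (C : Fin (n + 1) → Subgroup Ω), C 0 = ⊥ ∧
      C (Fin.last n) = Q ∧ Monotone C ∧ (∀ i : Fin n, ⁅C i.succ, Q⁆ ≤ C i.castSucc) ∧
      ∀ i : Fin n, F.WeaklyClosed (C i.castSucc) := by
  constructor
  · intro hQ
    refine ⟨stronglyClosed_of_isNormal F hQ, ?_⟩
    obtain ⟨n, Qs, h0, hl, hmono, hstep⟩ := exists_series_of_isNormal p hS F Q hQ
    refine ⟨n, Qs, h0, hl, hmono, fun i => ?_, fun i => ?_⟩
    · rw [Subgroup.commutator_comm]; exact (hstep i).2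
    · have hsc : ∀ j : Fin (n + 1), F.StronglyClosed (Qs j) := by
        intro j
        refine Fin.cases ?_ (fun j => (hstep j).1) j
        rw [h0]; exact stronglyClosed_bot F
      exact weaklyClosed_of_stronglyClosed F (hsc _)
  · rintro ⟨hQ, n, C, h0, hl, hmono, hcomm, hwc⟩
    -- ℕ-indexed version of the chain
    set C' : ℕ → Subgroup Ω := fun j => if h : j < n + 1 then C ⟨j, h⟩ else Q with hC'
    have hC'0 : C' 0 = ⊥ := by
      simp only [hC', Nat.zero_lt_succ, dite_true]; exact h0
    have hC'n : C' n = Q := by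
      simp only [hC', Nat.lt_succ_self, dite_true]; exact hl
    have hC'le : ∀ j, C' j ≤ Q := by
      intro j
      simp only [hC']
      split_ifs with h
      · rw [← hl]; exact hmono (Fin.le_last _)
      · exact le_rfl
    have hC'comm : ∀ j < n, ⁅C' (j + 1), Q⁆ ≤ C' j := by
      intro j hj
      have h1 : j + 1 < n + 1 := by omega
      have h2 : j < n + 1 := by omega
      simp only [hC', h1, h2, dite_true]
      exact hcomm ⟨j, hj⟩
    have hC'wc : ∀ j ≤ n, F.WeaklyClosed (C' j) := by
      intro j hj
      rcases Nat.lt_or_ge j n with hlt | hge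
      · have h2 : j < n + 1 := by omega
        simp only [hC', h2, dite_true]
        exact hwc ⟨j, hlt⟩
      · have : j = n := by omega
        rw [this, hC'n]
        exact weaklyClosed_of_stronglyClosed F hQ
    have key : ∀ k ≤ n, ∀ j ≤ k, F.IsNormal (C' j) := by
      intro k
      induction k with
      | zero =>
        intro _ j hj
        have : j = 0 := by omega
        rw [this, hC'0]; exact isNormal_bot F
      | succ k ih =>
        intro hk j hj
        rcases Nat.lt_or_ge j (k + 1) with hlt | hge
        · exact ih (by omega) j (by omega)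
        · have : j = k + 1 := by omega
          rw [this]
          exact isNormal_of_weak_series_step p hS F hF hQ C' k hC'0 (ih (by omega))
            (fun j hj => hC'comm j (by omega)) (hC'le _) (hC'wc _ hk)
    rw [← hC'n]
    exact key n le_rfl n le_rfl

end Cfsg.Agent.Lib.Helper7
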