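import Cfsg.Agent.Lib.Helper7.G23BaseD
import Cfsg.Agent.Lib.Helper7.MGenG
import Cfsg.Agent.Lib.Helper7.MGenE
import Cfsg.Prelude.Def_ChevG2
import Cfsg.Prelude.Def_ChevWords
import Cfsg.Agent.S1055
import Cfsg.Agent.S1059

/-!
# The Chevalley group of type G2 over the field of three elements, and six letters in it

The group is generated by the root elements, matrices with fourteen rows over the field of three elements.  The six
letters are `u`, `v`, `t` and their inverses, given as words in the root elements; a word in the letters is trivial as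
soon as the product of the matrices of its letters is the unit matrix.  The root elements are words in the letters, so
the letters generate the group; `u` and `v` generate a subgroup `L`.
-/

set_option autoImplicit false
set_option maxRecDepth 100000

namespace Cfsg.Agent.Lib.Helper7.G23B

open Cfsg Cfsg.Lie Cfsg.Agent.Lib.Helper7.MG Cfsg.Agent.Lib.Helper7.HSMult
open Cfsg.Agent.Lib.Helper6.ChevMatL F3c

/-- the set of indices -/
abbrev I : Type := chevG2.Idx

/-- the matrices -/
abbrev M : Type := Matrix I I F3c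

/-- the matrix with the given columns -/
def mt (Y : List (List F3c)) : M := toMt chevG2.rank chevG2.nroots Y

/-- the matrix with the given rows -/
def mr (X : List (List F3c)) : M := toM chevG2.rank chevG2.nroots X

theorem mt_apply (Y : List (List F3c)) (i j : I) :
    mt Y i j = entry Y (code chevG2.rank chevG2.nroots j) (code chevG2.rank chevG2.nroots i) := rfl

theorem mr_transp3 (Y : List (List F3c)) : mr (transp3 14 Y) = mt Y := by
  ext i j
  rw [transp3_eq]
  exact entry_transp Y (code_lt chevG2.rank chevG2.nroots i) _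

theorem mr_idL3 : mr (idL3 14) = 1 := by
  rw [idL3_eq]
  exact (toM_one chevG2.rank chevG2.nroots).symm

theorem mt_prod (Ms : List (List (List F3c))) (h : ∀ Y ∈ Ms, colsOK 14 Y) :
    (Ms.map mt).prod = mr (prodT3 14 Ms) := by
  rw [prodT3_eq]
  exact (toM_prodT chevG2.rank chevG2.nroots Ms h).symm

/-! ### the root elements -/

/-- an entry of a root element -/
def xE (r : ℕ) (t : F3c) (i j : I) : F3c := chevG2.x F3c r t i j

theorem chk_x0 : ∀ t : F3c, ∀ i j : I, xE 0 t i j =
    entry (xLt 0 t) (code chevG2.rank chevG2.nroots j) (code chevG2.rank chevG2.nroots i) := by decide +kernel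

theorem chk_x1 : ∀ t : F3c, ∀ i j : I, xE 1 t i j =
    entry (xLt 1 t) (code chevG2.rank chevG2.nroots j) (code chevG2.rank chevG2.nroots i) := by decide +kernel

theorem chk_x2 : ∀ t : F3c, ∀ i j : I, xE 2 t i j =
    entry (xLt 2 t) (code chevG2.rank chevG2.nroots j) (code chevG2.rank chevG2.nroots i) := by decide +kernel

theorem chk_x3 : ∀ t : F3c, ∀ i j : I, xE 3 t i j =
    entry (xLt 3 t) (code chevG2.rank chevG2.nroots j) (code chevG2.rank chevG2.nroots i) := by decide +kernel

theorem chk_x4 : ∀ t : F3c, ∀ i j : I, xE 4 t i j =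
    entry (xLt 4 t) (code chevG2.rank chevG2.nroots j) (code chevG2.rank chevG2.nroots i) := by decide +kernel

theorem chk_x5 : ∀ t : F3c, ∀ i j : I, xE 5 t i j =
    entry (xLt 5 t) (code chevG2.rank chevG2.nroots j) (code chevG2.rank chevG2.nroots i) := by decide +kernel

theorem chk_x6 : ∀ t : F3c, ∀ i j : I, xE 6 t i j =
    entry (xLt 6 t) (code chevG2.rank chevG2.nroots j) (code chevG2.rank chevG2.nroots i) := by decide +kernel

theorem chk_x7 : ∀ t : F3c, ∀ i j : I, xE 7 t i j =
    entry (xLt 7 t) (code chevG2.rank chevG2.nroots j) (code chevG2.rank chevG2.nroots i) := by decide +kernel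

theorem chk_x8 : ∀ t : F3c, ∀ i j : I, xE 8 t i j =
    entry (xLt 8 t) (code chevG2.rank chevG2.nroots j) (code chevG2.rank chevG2.nroots i) := by decide +kernel

theorem chk_x9 : ∀ t : F3c, ∀ i j : I, xE 9 t i j =
    entry (xLt 9 t) (code chevG2.rank chevG2.nroots j) (code chevG2.rank chevG2.nroots i) := by decide +kernel

theorem chk_x10 : ∀ t : F3c, ∀ i j : I, xE 10 t i j =
    entry (xLt 10 t) (code chevG2.rank chevG2.nroots j) (code chevG2.rank chevG2.nroots i) := by decide +kernel

theorem chk_x11 : ∀ t : F3c, ∀ i j : I, xE 11 t i j =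
    entry (xLt 11 t) (code chevG2.rank chevG2.nroots j) (code chevG2.rank chevG2.nroots i) := by decide +kernel

theorem chk_x : ∀ r, r < 12 → ∀ t : F3c, ∀ i j : I, xE r t i j =
    entry (xLt r t) (code chevG2.rank chevG2.nroots j) (code chevG2.rank chevG2.nroots i)
  | 0, _ => chk_x0
  | 1, _ => chk_x1
  | 2, _ => chk_x2
  | 3, _ => chk_x3
  | 4, _ => chk_x4
  | 5, _ => chk_x5
  | 6, _ => chk_x6
  | 7, _ => chk_x7
  | 8, _ => chk_x8
  | 9, _ => chk_x9
  | 10, _ => chk_x10
  | 11, _ => chk_x11
  | r + 12, h => absurd h (by omega)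

theorem chk_xcols : ∀ r, r < 13 → ∀ t : F3c, colsOK 14 (xLt r t) := by decide +kernel

theorem xLt_ge {r : ℕ} (hr : 12 ≤ r) (t : F3c) : xLt r t = idL3 14 := by
  unfold xLt
  rw [List.getD_eq_default _ _ (by simpa [xTbl] using hr)]

theorem xcols (r : ℕ) (t : F3c) : colsOK 14 (xLt r t) := by
  rcases Nat.lt_or_ge r 12 with h | h
  · exact chk_xcols r (by omega) t
  · rw [xLt_ge h]
    exact chk_xcols 12 (by norm_num) t

theorem chk_xinv : ∀ r, r < 13 → ∀ t : F3c, prodT3 14 [xLt r t, xLt r (-t)] = idL3 14 := by decide +kernel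

theorem xinv (r : ℕ) (t : F3c) : prodT3 14 [xLt r t, xLt r (-t)] = idL3 14 := by
  rcases Nat.lt_or_ge r 12 with h | h
  · exact chk_xinv r (by omega) t
  · rw [xLt_ge h, xLt_ge h]
    have := chk_xinv 12 (by norm_num) t
    rw [xLt_ge (le_refl 12), xLt_ge (le_refl 12)] at this
    exact this

/-- the matrix of a root element -/
def xMt (r : ℕ) (t : F3c) : M := mt (xLt r t)

theorem xMt_mul_neg (r : ℕ) (t : F3c) : xMt r t * xMt r (-t) = 1 := by
  have h1 := mt_prod [xLt r t, xLt r (-t)] (by
    intro Z hZ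
    simp only [List.mem_cons, List.not_mem_nil, or_false] at hZ
    rcases hZ with rfl | rfl
    · exact xcols r t
    · exact xcols r (-t))
  rw [xinv r t, mr_idL3] at h1
  rw [← h1]
  simp [xMt]

theorem xMt_neg_mul (r : ℕ) (t : F3c) : xMt r (-t) * xMt r t = 1 := by
  have h := xMt_mul_neg r (-t)
  rwa [neg_neg] at h

/-- the matrix of a root element, as a unit -/
def xU (r : ℕ) (t : F3c) : GL I F3c := ⟨xMt r t, xMt r (-t), xMt_mul_neg r t, xMt_neg_mul r t⟩

theorem xMt_eq {r : ℕ} (hr : r < 12) (t : F3c) : xMt r t = chevG2.x F3c r t := by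
  ext i j
  exact (chk_x r hr t i j).symm

theorem x_eq (r : Fin chevG2.nroots) (t : F3c) : chevG2.x F3c r.val t = chevG2.xMat F3c r t := by
  unfold ChevalleyDatum.x
  rw [dif_pos r.isLt]

theorem xU_mem {r : ℕ} (hr : r < 12) (t : F3c) : xU r t ∈ chevG2.group F3c := by
  refine Subgroup.subset_closure ⟨⟨r, hr⟩, t, ?_⟩
  show xMt r t = _
  rw [xMt_eq hr]
  exact x_eq ⟨r, hr⟩ t

theorem coe_prod_xU (l : List (ℕ × F3c)) :
    ((l.map fun p => xU p.1 p.2).prod : GL I F3c).val = (l.map fun p => xMt p.1 p.2).prod := by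
  induction l with
  | nil => rfl
  | cons x w ih =>
    rw [List.map_cons, List.prod_cons, Units.val_mul, ih, List.map_cons, List.prod_cons]
    rfl

theorem prod_xMt (l : List (ℕ × F3c)) :
    (l.map fun p => xMt p.1 p.2).prod = mr (prodT3 14 (l.map fun p => xLt p.1 p.2)) := by
  have h := mt_prod (l.map fun p => xLt p.1 p.2) (by
    intro Y hY
    obtain ⟨p, _, rfl⟩ := List.mem_map.1 hY
    exact xcols p.1 p.2)
  rw [List.map_map] at h
  exact h

/-! ### the six letters -/

/-- the group -/
abbrev G : Type := ↥(chevG2.group F3c)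

theorem chk_rootW_lt : ∀ x, x < 6 → ∀ p ∈ rootW x, p.1 < 12 := by decide

theorem rootW_ge {x : ℕ} (hx : 6 ≤ x) : rootW x = [] := by
  obtain ⟨y, rfl⟩ : ∃ y, x = y + 6 := ⟨x - 6, by omega⟩
  rfl

/-- the letters as matrices -/
def lG (x : ℕ) : GL I F3c := ((rootW x).map fun p => xU p.1 p.2).prod

theorem lG_mem (x : ℕ) : lG x ∈ chevG2.group F3c := by
  apply Subgroup.list_prod_mem
  intro g hg
  obtain ⟨p, hp, rfl⟩ := List.mem_map.1 hg
  rcases Nat.lt_or_ge x 6 with hx | hx
  · exact xU_mem (chk_rootW_lt x hx p hp) p.2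
  · rw [rootW_ge hx] at hp
    exact absurd hp List.not_mem_nil

/-- the six letters in the group -/
def lK (x : ℕ) : G := ⟨lG x, lG_mem x⟩

theorem lK_of_ge {x : ℕ} (hx : 6 ≤ x) : lK x = 1 := by
  apply Subtype.ext
  show lG x = 1
  rw [lG, rootW_ge hx]
  rfl

theorem chk_let : ∀ x, x < 7 → prodT3 14 ((rootW x).map fun p => xLt p.1 p.2) = transp3 14 (letT x) := by
  decide +kernel

theorem chk_letcols : ∀ x, x < 7 → colsOK 14 (letT x) := by decide +kernel

theorem letT_ge {x : ℕ} (hx : 6 ≤ x) : letT x = idL3 14 := by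
  unfold letT
  rw [List.getD_eq_default _ _ (by simpa [letTbl] using hx)]

theorem letcols (x : ℕ) : colsOK 14 (letT x) := by
  rcases Nat.lt_or_ge x 6 with h | h
  · exact chk_letcols x (by omega)
  · rw [letT_ge h]
    have := chk_letcols 6 (by norm_num)
    rwa [letT_ge (le_refl 6)] at this

theorem lG_val (x : ℕ) : (lG x : GL I F3c).val = mt (letT x) := by
  rw [lG, coe_prod_xU, prod_xMt]
  rcases Nat.lt_or_ge x 6 with h | h
  · rw [chk_let x (by omega), mr_transp3]
  · rw [rootW_ge h, letT_ge h]
    have := chk_let 6 (by norm_num)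
    rw [letT_ge (le_refl 6)] at this
    rw [← mr_transp3, ← this]
    rfl

theorem wd_lK_val : ∀ w : List ℕ, ((VCert.wd lK w : G) : GL I F3c).val = (w.map fun x => mt (letT x)).prod
  | [] => rfl
  | x :: w => by
    rw [VCert.wd_cons, Subgroup.coe_mul, Units.val_mul, wd_lK_val w, List.map_cons, List.prod_cons]
    congr 1
    exact lG_val x

theorem wd_lK_mat (w : List ℕ) : ((VCert.wd lK w : G) : GL I F3c).val = mr (prodT3 14 (w.map letT)) := by
  rw [wd_lK_val]
  have h := mt_prod (w.map letT) (by
    intro Y hY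
    obtain ⟨x, _, rfl⟩ := List.mem_map.1 hY
    exact letcols x)
  rw [List.map_map] at h
  exact h

/-- the check that the product of the matrices of the letters of a word is the unit matrix -/
def matOK (w : List ℕ) : Bool := decide (prodT3 14 (w.map letT) = idL3 14)

/-- **a word in the six letters is trivial as soon as the product of the matrices is the unit matrix** -/
theorem wd_lK_eq_one {w : List ℕ} (h : matOK w = true) : VCert.wd lK w = 1 := by
  apply Subtype.ext
  apply Units.ext
  rw [wd_lK_mat, of_decide_eq_true h, mr_idL3]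
  rfl

/-- two words in the six letters are equal as soon as the products of the matrices agree -/
theorem wd_lK_eq {w w' : List ℕ} (h : prodT3 14 (w.map letT) = prodT3 14 (w'.map letT)) :
    VCert.wd lK w = VCert.wd lK w' := by
  apply Subtype.ext
  apply Units.ext
  rw [wd_lK_mat, wd_lK_mat, h]

theorem chk_iv6 : ∀ x, x < 6 → matOK [x, Nat.xor x 1] = true := by decide +kernel

theorem lK_iv {x : ℕ} (hx : x < 6) : lK (Nat.xor x 1) = (lK x)⁻¹ := by
  have h := wd_lK_eq_one (chk_iv6 x hx)
  rw [VCert.wd_cons, VCert.wd_cons, VCert.wd_nil, mul_one] at h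
  exact (eq_inv_of_mul_eq_one_right h)

/-! ### the order of the group, simplicity -/

theorem card_G : Nat.card G = 4245696 := by
  have h := Cfsg.Agent.S1059.result (F := F3c) (q := 3) F3c.card
  rw [h]
  norm_num

instance instSimpleG : IsSimpleGroup G :=
  (Cfsg.Agent.S1055.result (F := F3c) ⟨m, by decide, by decide⟩).1

instance instFiniteG : Finite G := Nat.finite_of_card_ne_zero (by rw [card_G]; norm_num)

/-! ### the six letters generate the group -/

theorem chk_rootAs : ∀ r, r < 12 → prodT3 14 ((rootAsW r).map letT) = transp3 14 (xLt r e) := by decide +kernel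

theorem wd_lK_rootAs {r : ℕ} (hr : r < 12) : ((VCert.wd lK (rootAsW r) : G) : GL I F3c) = xU r e := by
  apply Units.ext
  rw [wd_lK_mat, chk_rootAs r hr, mr_transp3]
  rfl

theorem xU_m (r : ℕ) : xU r m = (xU r e)⁻¹ := by
  apply eq_inv_of_mul_eq_one_left
  apply Units.ext
  exact xMt_neg_mul r e

theorem xU_o (r : ℕ) : xU r o = 1 := by
  apply Units.ext
  show xMt r o = 1
  have h := xMt_mul_neg r o
  have e0 : (-o : F3c) = o := rfl
  rw [e0] at h
  -- the matrix is its own inverse and a root element with parameter zero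
  rcases Nat.lt_or_ge r 12 with hr | hr
  · rw [xMt_eq hr]
    have : chevG2.x F3c r o = 1 := by
      ext i j
      have h1 := chk_x r hr o i j
      have h2 : xLt r o = idL3 14 := by
        unfold xLt
        have : r = 0 ∨ r = 1 ∨ r = 2 ∨ r = 3 ∨ r = 4 ∨ r = 5 ∨ r = 6 ∨ r = 7 ∨ r = 8 ∨ r = 9 ∨ r = 10 ∨ r = 11 := by
          omega
        rcases this with rfl | rfl | rfl | rfl | rfl | rfl | rfl | rfl | rfl | rfl | rfl | rfl <;> rfl
      rw [h2] at h1
      show xE r o i j = _
      rw [h1, ← mt_apply, ← mr_transp3]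
      have : transp3 14 (idL3 14) = idL3 14 := by decide
      rw [this, mr_idL3]
    exact this
  · show mt (xLt r o) = 1
    rw [xLt_ge hr, ← mr_transp3]
    have : transp3 14 (idL3 14) = idL3 14 := by decide
    rw [this, mr_idL3]

theorem closure_lK : Subgroup.closure (lK '' Set.Iio 6) = ⊤ := by
  set C := Subgroup.closure (lK '' Set.Iio 6) with hC
  have hm : ∀ x, x < 6 → lK x ∈ C := fun x hx => Subgroup.subset_closure ⟨x, hx, rfl⟩
  have hw : ∀ w : List ℕ, VCert.wd lK w ∈ C := by
    intro w
    induction w with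
    | nil => exact C.one_mem
    | cons x w ih =>
      rw [VCert.wd_cons]
      refine C.mul_mem ?_ ih
      rcases Nat.lt_or_ge x 6 with h | h
      · exact hm x h
      · rw [lK_of_ge h]; exact C.one_mem
  -- the root elements lie in the image of the closure
  have hx : ∀ r, r < 12 → ∀ t : F3c, xU r t ∈ C.map (chevG2.group F3c).subtype := by
    intro r hr t
    have h1 : xU r e ∈ C.map (chevG2.group F3c).subtype :=
      ⟨VCert.wd lK (rootAsW r), hw _, wd_lK_rootAs hr⟩
    cases t with
    | o => rw [xU_o]; exact Subgroup.one_mem _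
    | e => exact h1
    | m => rw [xU_m]; exact Subgroup.inv_mem _ h1
  have hle : chevG2.group F3c ≤ C.map (chevG2.group F3c).subtype := by
    unfold ChevalleyDatum.group
    rw [Subgroup.closure_le]
    rintro g ⟨r, t, hg⟩
    have : g = xU r.val t := by
      apply Units.ext
      rw [hg]
      show _ = xMt r.val t
      rw [xMt_eq r.isLt, x_eq]
    rw [this]
    exact hx r.val r.isLt t
  rw [eq_top_iff]
  intro g _
  obtain ⟨c, hc, hcg⟩ := hle g.2
  have : c = g := Subtype.ext hcg
  rw [← this]
  exact hc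

/-! ### the subgroup generated by the first two letters and their inverses -/

/-- the subgroup `L` generated by `u` and `v` -/
noncomputable def L : Subgroup G := Subgroup.closure (lK '' Set.Iio 4)

theorem lK_mem_L {x : ℕ} (hx : x < 4) : lK x ∈ L := Subgroup.subset_closure ⟨x, hx, rfl⟩

/-- the first four letters in `L` -/
noncomputable def lK1 (x : ℕ) : ↥L := if h : x < 4 then ⟨lK x, lK_mem_L h⟩ else 1

theorem lK1_val {x : ℕ} (hx : x < 4) : (lK1 x : G) = lK x := by
  rw [lK1, dif_pos hx]

theorem lK1_of_ge {x : ℕ} (hx : 4 ≤ x) : lK1 x = 1 := by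
  rw [lK1, dif_neg (by omega)]

theorem wd_lK1_val : ∀ w : List ℕ, (∀ x ∈ w, x < 4) → ((VCert.wd lK1 w : ↥L) : G) = VCert.wd lK w
  | [], _ => rfl
  | x :: w, h => by
    rw [VCert.wd_cons, VCert.wd_cons, Subgroup.coe_mul, lK1_val (h x List.mem_cons_self),
      wd_lK1_val w fun y hy => h y (List.mem_cons_of_mem _ hy)]

theorem lK1_iv {x : ℕ} (hx : x < 4) : lK1 (Nat.xor x 1) = (lK1 x)⁻¹ := by
  have hx' : Nat.xor x 1 < 4 := by
    have : x = 0 ∨ x = 1 ∨ x = 2 ∨ x = 3 := by omega
    rcases this with rfl | rfl | rfl | rfl <;> decide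
  apply Subtype.ext
  rw [Subgroup.coe_inv, lK1_val hx', lK1_val hx, lK_iv (by omega)]

theorem closure_lK1 : Subgroup.closure (lK1 '' Set.Iio 4) = ⊤ := by
  have h := Subgroup.closure_closure_coe_preimage (k := lK '' Set.Iio 4)
  have e : ((↑) ⁻¹' (lK '' Set.Iio 4) : Set ↥(Subgroup.closure (lK '' Set.Iio 4))) = lK1 '' Set.Iio 4 := by
    ext z
    constructor
    · rintro ⟨x, hx, hz⟩
      exact ⟨x, hx, Subtype.ext (by rw [lK1_val hx]; exact hz)⟩
    · rintro ⟨x, hx, rfl⟩
      exact ⟨x, hx, (lK1_val hx).symm⟩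
  rw [e] at h
  exact h

/-- the check that a word in the first four letters is trivial -/
def matOK4 (w : List ℕ) : Bool := (w.all fun x => Nat.blt x 4) && matOK w

theorem wd_lK1_eq_one {w : List ℕ} (h : matOK4 w = true) : VCert.wd lK1 w = 1 := by
  rw [matOK4, Bool.and_eq_true] at h
  apply Subtype.ext
  rw [wd_lK1_val w fun x hx => by simpa [Nat.blt] using List.all_eq_true.1 h.1 x hx, wd_lK_eq_one h.2]
  rfl

end Cfsg.Agent.Lib.Helper7.G23B
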