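import Cfsg.Agent.Lib.Helper7.G23F3

/-! # The Chevalley group of type G2 over the field of three elements: the root elements as lists of columns, six
letters as words in the root elements and as matrices (generated) -/

set_option autoImplicit false

namespace Cfsg.Agent.Lib.Helper7.G23B

open Cfsg.Agent.Lib.Helper6.ChevMatL F3c

/-- the columns of the root element of root 0 with parameter 1 -/
def x0_1 : List (List F3c) :=
  [[e, o, o, o, o, o, o, o, o, o, o, o, o, o],
    [o, e, e, o, o, o, o, o, o, o, o, o, o, o],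
    [o, o, e, o, o, o, o, o, o, o, o, o, o, o],
    [o, o, o, e, o, o, o, o, o, o, o, o, o, o],
    [o, o, o, o, e, o, o, o, o, o, o, o, o, o],
    [o, o, o, o, o, e, o, o, o, o, o, o, o, o],
    [o, o, o, o, o, o, e, o, o, o, o, o, o, o],
    [o, o, o, o, o, o, o, e, o, o, o, o, o, o],
    [o, o, o, e, o, o, o, o, e, o, o, o, o, o],
    [o, o, o, o, o, o, o, o, o, e, o, o, o, o],
    [o, o, o, o, e, o, o, o, o, o, e, o, o, o],
    [o, o, o, o, o, m, o, o, o, o, o, e, o, o],
    [o, o, o, o, o, o, o, m, o, o, o, o, e, o],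
    [m, e, m, o, o, o, o, o, o, o, o, o, o, e]]

/-- the columns of the root element of root 0 with parameter 2 -/
def x0_2 : List (List F3c) :=
  [[e, o, o, o, o, o, o, o, o, o, o, o, o, o],
    [o, e, m, o, o, o, o, o, o, o, o, o, o, o],
    [o, o, e, o, o, o, o, o, o, o, o, o, o, o],
    [o, o, o, e, o, o, o, o, o, o, o, o, o, o],
    [o, o, o, o, e, o, o, o, o, o, o, o, o, o],
    [o, o, o, o, o, e, o, o, o, o, o, o, o, o],
    [o, o, o, o, o, o, e, o, o, o, o, o, o, o],
    [o, o, o, o, o, o, o, e, o, o, o, o, o, o],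
    [o, o, o, m, o, o, o, o, e, o, o, o, o, o],
    [o, o, o, o, o, o, o, o, o, e, o, o, o, o],
    [o, o, o, o, m, o, o, o, o, o, e, o, o, o],
    [o, o, o, o, o, e, o, o, o, o, o, e, o, o],
    [o, o, o, o, o, o, o, e, o, o, o, o, e, o],
    [e, m, m, o, o, o, o, o, o, o, o, o, o, e]]

/-- the root elements of root 0 -/
def xF0 : F3c → List (List F3c)
  | o => idL3 14
  | e => x0_1
  | m => x0_2

/-- the columns of the root element of root 1 with parameter 1 -/
def x1_1 : List (List F3c) :=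
  [[e, o, o, o, o, o, o, o, o, o, o, o, o, o],
    [o, e, o, m, o, o, o, o, o, o, o, o, o, o],
    [o, o, e, o, o, o, o, o, o, o, o, o, o, o],
    [o, o, o, e, o, o, o, o, o, o, o, o, o, o],
    [o, o, o, o, e, o, o, o, o, o, o, o, o, o],
    [o, o, o, o, o, e, o, o, o, o, o, o, o, o],
    [o, o, o, o, o, o, e, o, o, o, o, o, o, o],
    [o, o, e, o, o, o, o, e, o, o, o, o, o, o],
    [o, o, o, o, o, o, o, o, e, o, o, o, o, o],
    [o, o, o, o, e, o, o, o, o, e, o, o, o, o],
    [o, o, o, o, o, o, o, o, o, o, e, o, o, o],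
    [o, o, o, o, o, o, m, o, o, o, o, e, o, o],
    [m, m, o, m, o, o, o, o, o, o, o, o, e, o],
    [o, o, o, o, o, o, o, o, m, o, o, o, o, e]]

/-- the columns of the root element of root 1 with parameter 2 -/
def x1_2 : List (List F3c) :=
  [[e, o, o, o, o, o, o, o, o, o, o, o, o, o],
    [o, e, o, e, o, o, o, o, o, o, o, o, o, o],
    [o, o, e, o, o, o, o, o, o, o, o, o, o, o],
    [o, o, o, e, o, o, o, o, o, o, o, o, o, o],
    [o, o, o, o, e, o, o, o, o, o, o, o, o, o],
    [o, o, o, o, o, e, o, o, o, o, o, o, o, o],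
    [o, o, o, o, o, o, e, o, o, o, o, o, o, o],
    [o, o, m, o, o, o, o, e, o, o, o, o, o, o],
    [o, o, o, o, o, o, o, o, e, o, o, o, o, o],
    [o, o, o, o, m, o, o, o, o, e, o, o, o, o],
    [o, o, o, o, o, o, o, o, o, o, e, o, o, o],
    [o, o, o, o, o, o, e, o, o, o, o, e, o, o],
    [e, e, o, m, o, o, o, o, o, o, o, o, e, o],
    [o, o, o, o, o, o, o, o, e, o, o, o, o, e]]

/-- the root elements of root 1 -/
def xF1 : F3c → List (List F3c)
  | o => idL3 14
  | e => x1_1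
  | m => x1_2

/-- the columns of the root element of root 2 with parameter 1 -/
def x2_1 : List (List F3c) :=
  [[e, o, o, o, e, o, o, o, o, o, o, o, o, o],
    [o, e, o, o, o, o, o, o, o, o, o, o, o, o],
    [o, o, e, o, o, o, o, o, o, o, o, o, o, o],
    [o, o, o, e, o, o, o, o, o, o, o, o, o, o],
    [o, o, o, o, e, o, o, o, o, o, o, o, o, o],
    [o, o, o, o, o, e, o, o, o, o, o, o, o, o],
    [o, o, o, o, o, o, e, o, o, o, o, o, o, o],
    [o, o, o, o, o, o, o, e, o, o, o, o, o, o],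
    [o, o, o, o, o, o, o, o, e, o, o, o, o, o],
    [o, o, o, o, o, e, o, o, o, e, o, o, o, o],
    [o, o, o, o, o, o, m, o, o, o, e, o, o, o],
    [e, o, o, o, m, o, o, o, o, o, o, e, o, o],
    [o, o, e, o, o, e, o, o, o, m, o, o, e, o],
    [o, o, o, m, o, o, m, o, o, o, m, o, o, e]]

/-- the columns of the root element of root 2 with parameter 2 -/
def x2_2 : List (List F3c) :=
  [[e, o, o, o, m, o, o, o, o, o, o, o, o, o],
    [o, e, o, o, o, o, o, o, o, o, o, o, o, o],
    [o, o, e, o, o, o, o, o, o, o, o, o, o, o],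
    [o, o, o, e, o, o, o, o, o, o, o, o, o, o],
    [o, o, o, o, e, o, o, o, o, o, o, o, o, o],
    [o, o, o, o, o, e, o, o, o, o, o, o, o, o],
    [o, o, o, o, o, o, e, o, o, o, o, o, o, o],
    [o, o, o, o, o, o, o, e, o, o, o, o, o, o],
    [o, o, o, o, o, o, o, o, e, o, o, o, o, o],
    [o, o, o, o, o, m, o, o, o, e, o, o, o, o],
    [o, o, o, o, o, o, e, o, o, o, e, o, o, o],
    [m, o, o, o, m, o, o, o, o, o, o, e, o, o],
    [o, o, m, o, o, e, o, o, o, e, o, o, e, o],
    [o, o, o, e, o, o, m, o, o, o, e, o, o, e]]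

/-- the root elements of root 2 -/
def xF2 : F3c → List (List F3c)
  | o => idL3 14
  | e => x2_1
  | m => x2_2

/-- the columns of the root element of root 3 with parameter 1 -/
def x3_1 : List (List F3c) :=
  [[e, o, o, o, o, m, o, o, o, o, o, o, o, o],
    [o, e, o, o, o, e, o, o, o, o, o, o, o, o],
    [o, o, e, o, o, o, o, o, o, o, o, o, o, o],
    [o, o, o, e, o, o, o, o, o, o, o, o, o, o],
    [o, o, o, o, e, o, o, o, o, o, o, o, o, o],
    [o, o, o, o, o, e, o, o, o, o, o, o, o, o],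
    [o, o, o, o, e, o, e, o, o, o, o, o, o, o],
    [o, o, o, o, o, o, o, e, o, o, o, o, o, o],
    [o, o, e, o, m, o, e, o, e, o, o, o, o, o],
    [o, o, o, o, o, o, o, o, o, e, o, o, o, o],
    [m, o, o, o, o, m, o, o, o, o, e, o, o, o],
    [o, o, o, o, o, o, o, o, o, m, o, e, o, o],
    [o, o, o, o, o, o, o, o, o, o, o, o, e, o],
    [o, o, o, o, o, o, o, m, o, e, o, e, o, e]]

/-- the columns of the root element of root 3 with parameter 2 -/
def x3_2 : List (List F3c) :=
  [[e, o, o, o, o, e, o, o, o, o, o, o, o, o],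
    [o, e, o, o, o, m, o, o, o, o, o, o, o, o],
    [o, o, e, o, o, o, o, o, o, o, o, o, o, o],
    [o, o, o, e, o, o, o, o, o, o, o, o, o, o],
    [o, o, o, o, e, o, o, o, o, o, o, o, o, o],
    [o, o, o, o, o, e, o, o, o, o, o, o, o, o],
    [o, o, o, o, m, o, e, o, o, o, o, o, o, o],
    [o, o, o, o, o, o, o, e, o, o, o, o, o, o],
    [o, o, m, o, m, o, m, o, e, o, o, o, o, o],
    [o, o, o, o, o, o, o, o, o, e, o, o, o, o],
    [e, o, o, o, o, m, o, o, o, o, e, o, o, o],
    [o, o, o, o, o, o, o, o, o, e, o, e, o, o],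
    [o, o, o, o, o, o, o, o, o, o, o, o, e, o],
    [o, o, o, o, o, o, o, e, o, e, o, m, o, e]]

/-- the root elements of root 3 -/
def xF3 : F3c → List (List F3c)
  | o => idL3 14
  | e => x3_1
  | m => x3_2

/-- the columns of the root element of root 4 with parameter 1 -/
def x4_1 : List (List F3c) :=
  [[e, o, o, o, o, o, m, o, o, o, o, o, o, o],
    [o, e, o, o, o, o, m, o, o, o, o, o, o, o],
    [o, o, e, o, o, o, o, o, o, o, o, o, o, o],
    [o, o, o, e, o, o, o, o, o, o, o, o, o, o],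
    [o, o, o, o, e, o, o, o, o, o, o, o, o, o],
    [o, o, o, o, m, e, o, o, o, o, o, o, o, o],
    [o, o, o, o, o, o, e, o, o, o, o, o, o, o],
    [o, o, o, m, e, e, o, e, o, o, o, o, o, o],
    [o, o, o, o, o, o, o, o, e, o, o, o, o, o],
    [m, o, o, o, o, o, m, o, o, e, o, o, o, o],
    [o, o, o, o, o, o, o, o, o, o, e, o, o, o],
    [o, o, o, o, o, o, o, o, o, o, e, e, o, o],
    [o, o, o, o, o, o, o, o, e, o, m, e, e, o],
    [o, o, o, o, o, o, o, o, o, o, o, o, o, e]]

/-- the columns of the root element of root 4 with parameter 2 -/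
def x4_2 : List (List F3c) :=
  [[e, o, o, o, o, o, e, o, o, o, o, o, o, o],
    [o, e, o, o, o, o, e, o, o, o, o, o, o, o],
    [o, o, e, o, o, o, o, o, o, o, o, o, o, o],
    [o, o, o, e, o, o, o, o, o, o, o, o, o, o],
    [o, o, o, o, e, o, o, o, o, o, o, o, o, o],
    [o, o, o, o, e, e, o, o, o, o, o, o, o, o],
    [o, o, o, o, o, o, e, o, o, o, o, o, o, o],
    [o, o, o, e, e, m, o, e, o, o, o, o, o, o],
    [o, o, o, o, o, o, o, o, e, o, o, o, o, o],
    [e, o, o, o, o, o, m, o, o, e, o, o, o, o],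
    [o, o, o, o, o, o, o, o, o, o, e, o, o, o],
    [o, o, o, o, o, o, o, o, o, o, m, e, o, o],
    [o, o, o, o, o, o, o, o, m, o, m, m, e, o],
    [o, o, o, o, o, o, o, o, o, o, o, o, o, e]]

/-- the root elements of root 4 -/
def xF4 : F3c → List (List F3c)
  | o => idL3 14
  | e => x4_1
  | m => x4_2

/-- the columns of the root element of root 5 with parameter 1 -/
def x5_1 : List (List F3c) :=
  [[e, o, o, o, o, o, o, o, o, o, o, o, o, o],
    [o, e, o, o, o, o, o, m, o, o, o, o, o, o],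
    [o, o, e, o, o, o, o, o, o, o, o, o, o, o],
    [o, o, m, e, o, o, o, o, o, o, o, o, o, o],
    [o, o, o, o, e, o, o, o, o, o, o, o, o, o],
    [o, o, o, o, o, e, o, o, o, o, o, o, o, o],
    [o, o, o, o, o, m, e, o, o, o, o, o, o, o],
    [o, o, o, o, o, o, o, e, o, o, o, o, o, o],
    [o, m, o, o, o, o, o, m, e, o, o, o, o, o],
    [o, o, o, o, o, o, o, o, o, e, o, o, o, o],
    [o, o, o, o, o, o, o, o, o, e, e, o, o, o],
    [o, o, o, o, o, o, o, o, o, o, o, e, o, o],
    [o, o, o, o, o, o, o, o, o, o, o, o, e, o],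
    [o, o, o, o, o, o, o, o, o, o, o, o, e, e]]

/-- the columns of the root element of root 5 with parameter 2 -/
def x5_2 : List (List F3c) :=
  [[e, o, o, o, o, o, o, o, o, o, o, o, o, o],
    [o, e, o, o, o, o, o, e, o, o, o, o, o, o],
    [o, o, e, o, o, o, o, o, o, o, o, o, o, o],
    [o, o, e, e, o, o, o, o, o, o, o, o, o, o],
    [o, o, o, o, e, o, o, o, o, o, o, o, o, o],
    [o, o, o, o, o, e, o, o, o, o, o, o, o, o],
    [o, o, o, o, o, e, e, o, o, o, o, o, o, o],
    [o, o, o, o, o, o, o, e, o, o, o, o, o, o],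
    [o, e, o, o, o, o, o, m, e, o, o, o, o, o],
    [o, o, o, o, o, o, o, o, o, e, o, o, o, o],
    [o, o, o, o, o, o, o, o, o, m, e, o, o, o],
    [o, o, o, o, o, o, o, o, o, o, o, e, o, o],
    [o, o, o, o, o, o, o, o, o, o, o, o, e, o],
    [o, o, o, o, o, o, o, o, o, o, o, o, m, e]]

/-- the root elements of root 5 -/
def xF5 : F3c → List (List F3c)
  | o => idL3 14
  | e => x5_1
  | m => x5_2

/-- the columns of the root element of root 6 with parameter 1 -/
def x6_1 : List (List F3c) :=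
  [[e, o, o, o, o, o, o, o, o, o, o, o, o, o],
    [o, e, o, o, o, o, o, o, e, o, o, o, o, o],
    [o, o, e, m, o, o, o, o, o, o, o, o, o, o],
    [o, o, o, e, o, o, o, o, o, o, o, o, o, o],
    [o, o, o, o, e, o, o, o, o, o, o, o, o, o],
    [o, o, o, o, o, e, m, o, o, o, o, o, o, o],
    [o, o, o, o, o, o, e, o, o, o, o, o, o, o],
    [o, e, o, o, o, o, o, e, m, o, o, o, o, o],
    [o, o, o, o, o, o, o, o, e, o, o, o, o, o],
    [o, o, o, o, o, o, o, o, o, e, e, o, o, o],
    [o, o, o, o, o, o, o, o, o, o, e, o, o, o],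
    [o, o, o, o, o, o, o, o, o, o, o, e, o, o],
    [o, o, o, o, o, o, o, o, o, o, o, o, e, e],
    [o, o, o, o, o, o, o, o, o, o, o, o, o, e]]

/-- the columns of the root element of root 6 with parameter 2 -/
def x6_2 : List (List F3c) :=
  [[e, o, o, o, o, o, o, o, o, o, o, o, o, o],
    [o, e, o, o, o, o, o, o, m, o, o, o, o, o],
    [o, o, e, e, o, o, o, o, o, o, o, o, o, o],
    [o, o, o, e, o, o, o, o, o, o, o, o, o, o],
    [o, o, o, o, e, o, o, o, o, o, o, o, o, o],
    [o, o, o, o, o, e, e, o, o, o, o, o, o, o],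
    [o, o, o, o, o, o, e, o, o, o, o, o, o, o],
    [o, m, o, o, o, o, o, e, m, o, o, o, o, o],
    [o, o, o, o, o, o, o, o, e, o, o, o, o, o],
    [o, o, o, o, o, o, o, o, o, e, m, o, o, o],
    [o, o, o, o, o, o, o, o, o, o, e, o, o, o],
    [o, o, o, o, o, o, o, o, o, o, o, e, o, o],
    [o, o, o, o, o, o, o, o, o, o, o, o, e, m],
    [o, o, o, o, o, o, o, o, o, o, o, o, o, e]]

/-- the root elements of root 6 -/
def xF6 : F3c → List (List F3c)
  | o => idL3 14
  | e => x6_1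
  | m => x6_2

/-- the columns of the root element of root 7 with parameter 1 -/
def x7_1 : List (List F3c) :=
  [[e, o, o, o, o, o, o, o, o, e, o, o, o, o],
    [o, e, o, o, o, o, o, o, o, e, o, o, o, o],
    [o, o, e, o, o, o, o, o, o, o, o, o, o, o],
    [o, o, o, e, m, m, o, m, o, o, o, o, o, o],
    [o, o, o, o, e, m, o, o, o, o, o, o, o, o],
    [o, o, o, o, o, e, o, o, o, o, o, o, o, o],
    [e, o, o, o, o, o, e, o, o, m, o, o, o, o],
    [o, o, o, o, o, o, o, e, o, o, o, o, o, o],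
    [o, o, o, o, o, o, o, o, e, o, m, e, e, o],
    [o, o, o, o, o, o, o, o, o, e, o, o, o, o],
    [o, o, o, o, o, o, o, o, o, o, e, e, o, o],
    [o, o, o, o, o, o, o, o, o, o, o, e, o, o],
    [o, o, o, o, o, o, o, o, o, o, o, o, e, o],
    [o, o, o, o, o, o, o, o, o, o, o, o, o, e]]

/-- the columns of the root element of root 7 with parameter 2 -/
def x7_2 : List (List F3c) :=
  [[e, o, o, o, o, o, o, o, o, m, o, o, o, o],
    [o, e, o, o, o, o, o, o, o, m, o, o, o, o],
    [o, o, e, o, o, o, o, o, o, o, o, o, o, o],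
    [o, o, o, e, e, m, o, e, o, o, o, o, o, o],
    [o, o, o, o, e, e, o, o, o, o, o, o, o, o],
    [o, o, o, o, o, e, o, o, o, o, o, o, o, o],
    [m, o, o, o, o, o, e, o, o, m, o, o, o, o],
    [o, o, o, o, o, o, o, e, o, o, o, o, o, o],
    [o, o, o, o, o, o, o, o, e, o, e, e, m, o],
    [o, o, o, o, o, o, o, o, o, e, o, o, o, o],
    [o, o, o, o, o, o, o, o, o, o, e, m, o, o],
    [o, o, o, o, o, o, o, o, o, o, o, e, o, o],
    [o, o, o, o, o, o, o, o, o, o, o, o, e, o],
    [o, o, o, o, o, o, o, o, o, o, o, o, o, e]]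

/-- the root elements of root 7 -/
def xF7 : F3c → List (List F3c)
  | o => idL3 14
  | e => x7_1
  | m => x7_2

/-- the columns of the root element of root 8 with parameter 1 -/
def x8_1 : List (List F3c) :=
  [[e, o, o, o, o, o, o, o, o, o, e, o, o, o],
    [o, e, o, o, o, o, o, o, o, o, m, o, o, o],
    [o, o, e, o, m, o, e, o, e, o, o, o, o, o],
    [o, o, o, e, o, o, o, o, o, o, o, o, o, o],
    [o, o, o, o, e, o, e, o, o, o, o, o, o, o],
    [e, o, o, o, o, e, o, o, o, o, m, o, o, o],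
    [o, o, o, o, o, o, e, o, o, o, o, o, o, o],
    [o, o, o, o, o, o, o, e, o, m, o, m, o, m],
    [o, o, o, o, o, o, o, o, e, o, o, o, o, o],
    [o, o, o, o, o, o, o, o, o, e, o, m, o, o],
    [o, o, o, o, o, o, o, o, o, o, e, o, o, o],
    [o, o, o, o, o, o, o, o, o, o, o, e, o, o],
    [o, o, o, o, o, o, o, o, o, o, o, o, e, o],
    [o, o, o, o, o, o, o, o, o, o, o, o, o, e]]

/-- the columns of the root element of root 8 with parameter 2 -/
def x8_2 : List (List F3c) :=
  [[e, o, o, o, o, o, o, o, o, o, m, o, o, o],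
    [o, e, o, o, o, o, o, o, o, o, e, o, o, o],
    [o, o, e, o, e, o, e, o, m, o, o, o, o, o],
    [o, o, o, e, o, o, o, o, o, o, o, o, o, o],
    [o, o, o, o, e, o, m, o, o, o, o, o, o, o],
    [m, o, o, o, o, e, o, o, o, o, m, o, o, o],
    [o, o, o, o, o, o, e, o, o, o, o, o, o, o],
    [o, o, o, o, o, o, o, e, o, e, o, m, o, e],
    [o, o, o, o, o, o, o, o, e, o, o, o, o, o],
    [o, o, o, o, o, o, o, o, o, e, o, e, o, o],
    [o, o, o, o, o, o, o, o, o, o, e, o, o, o],
    [o, o, o, o, o, o, o, o, o, o, o, e, o, o],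
    [o, o, o, o, o, o, o, o, o, o, o, o, e, o],
    [o, o, o, o, o, o, o, o, o, o, o, o, o, e]]

/-- the root elements of root 8 -/
def xF8 : F3c → List (List F3c)
  | o => idL3 14
  | e => x8_1
  | m => x8_2

/-- the columns of the root element of root 9 with parameter 1 -/
def x9_1 : List (List F3c) :=
  [[e, o, o, o, o, o, o, o, o, o, o, m, o, o],
    [o, e, o, o, o, o, o, o, o, o, o, o, o, o],
    [o, o, e, o, o, e, o, o, o, m, o, o, e, o],
    [o, o, o, e, o, o, e, o, o, o, e, o, o, m],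
    [m, o, o, o, e, o, o, o, o, o, o, m, o, o],
    [o, o, o, o, o, e, o, o, o, e, o, o, o, o],
    [o, o, o, o, o, o, e, o, o, o, m, o, o, o],
    [o, o, o, o, o, o, o, e, o, o, o, o, o, o],
    [o, o, o, o, o, o, o, o, e, o, o, o, o, o],
    [o, o, o, o, o, o, o, o, o, e, o, o, o, o],
    [o, o, o, o, o, o, o, o, o, o, e, o, o, o],
    [o, o, o, o, o, o, o, o, o, o, o, e, o, o],
    [o, o, o, o, o, o, o, o, o, o, o, o, e, o],
    [o, o, o, o, o, o, o, o, o, o, o, o, o, e]]

/-- the columns of the root element of root 9 with parameter 2 -/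
def x9_2 : List (List F3c) :=
  [[e, o, o, o, o, o, o, o, o, o, o, e, o, o],
    [o, e, o, o, o, o, o, o, o, o, o, o, o, o],
    [o, o, e, o, o, m, o, o, o, m, o, o, m, o],
    [o, o, o, e, o, o, m, o, o, o, e, o, o, e],
    [e, o, o, o, e, o, o, o, o, o, o, m, o, o],
    [o, o, o, o, o, e, o, o, o, m, o, o, o, o],
    [o, o, o, o, o, o, e, o, o, o, e, o, o, o],
    [o, o, o, o, o, o, o, e, o, o, o, o, o, o],
    [o, o, o, o, o, o, o, o, e, o, o, o, o, o],
    [o, o, o, o, o, o, o, o, o, e, o, o, o, o],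
    [o, o, o, o, o, o, o, o, o, o, e, o, o, o],
    [o, o, o, o, o, o, o, o, o, o, o, e, o, o],
    [o, o, o, o, o, o, o, o, o, o, o, o, e, o],
    [o, o, o, o, o, o, o, o, o, o, o, o, o, e]]

/-- the root elements of root 9 -/
def xF9 : F3c → List (List F3c)
  | o => idL3 14
  | e => x9_1
  | m => x9_2

/-- the columns of the root element of root 10 with parameter 1 -/
def x10_1 : List (List F3c) :=
  [[e, o, o, o, o, o, o, o, o, o, o, o, o, o],
    [o, e, o, o, o, o, o, o, o, o, o, o, e, o],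
    [o, o, e, o, o, o, o, e, o, o, o, o, o, o],
    [e, e, o, e, o, o, o, o, o, o, o, o, m, o],
    [o, o, o, o, e, o, o, o, o, e, o, o, o, o],
    [o, o, o, o, o, e, o, o, o, o, o, o, o, o],
    [o, o, o, o, o, o, e, o, o, o, o, m, o, o],
    [o, o, o, o, o, o, o, e, o, o, o, o, o, o],
    [o, o, o, o, o, o, o, o, e, o, o, o, o, m],
    [o, o, o, o, o, o, o, o, o, e, o, o, o, o],
    [o, o, o, o, o, o, o, o, o, o, e, o, o, o],
    [o, o, o, o, o, o, o, o, o, o, o, e, o, o],
    [o, o, o, o, o, o, o, o, o, o, o, o, e, o],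
    [o, o, o, o, o, o, o, o, o, o, o, o, o, e]]

/-- the columns of the root element of root 10 with parameter 2 -/
def x10_2 : List (List F3c) :=
  [[e, o, o, o, o, o, o, o, o, o, o, o, o, o],
    [o, e, o, o, o, o, o, o, o, o, o, o, m, o],
    [o, o, e, o, o, o, o, m, o, o, o, o, o, o],
    [m, m, o, e, o, o, o, o, o, o, o, o, m, o],
    [o, o, o, o, e, o, o, o, o, m, o, o, o, o],
    [o, o, o, o, o, e, o, o, o, o, o, o, o, o],
    [o, o, o, o, o, o, e, o, o, o, o, e, o, o],
    [o, o, o, o, o, o, o, e, o, o, o, o, o, o],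
    [o, o, o, o, o, o, o, o, e, o, o, o, o, e],
    [o, o, o, o, o, o, o, o, o, e, o, o, o, o],
    [o, o, o, o, o, o, o, o, o, o, e, o, o, o],
    [o, o, o, o, o, o, o, o, o, o, o, e, o, o],
    [o, o, o, o, o, o, o, o, o, o, o, o, e, o],
    [o, o, o, o, o, o, o, o, o, o, o, o, o, e]]

/-- the root elements of root 10 -/
def xF10 : F3c → List (List F3c)
  | o => idL3 14
  | e => x10_1
  | m => x10_2

/-- the columns of the root element of root 11 with parameter 1 -/
def x11_1 : List (List F3c) :=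
  [[e, o, o, o, o, o, o, o, o, o, o, o, o, o],
    [o, e, o, o, o, o, o, o, o, o, o, o, o, m],
    [e, m, e, o, o, o, o, o, o, o, o, o, o, m],
    [o, o, o, e, o, o, o, o, e, o, o, o, o, o],
    [o, o, o, o, e, o, o, o, o, o, e, o, o, o],
    [o, o, o, o, o, e, o, o, o, o, o, m, o, o],
    [o, o, o, o, o, o, e, o, o, o, o, o, o, o],
    [o, o, o, o, o, o, o, e, o, o, o, o, m, o],
    [o, o, o, o, o, o, o, o, e, o, o, o, o, o],
    [o, o, o, o, o, o, o, o, o, e, o, o, o, o],
    [o, o, o, o, o, o, o, o, o, o, e, o, o, o],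
    [o, o, o, o, o, o, o, o, o, o, o, e, o, o],
    [o, o, o, o, o, o, o, o, o, o, o, o, e, o],
    [o, o, o, o, o, o, o, o, o, o, o, o, o, e]]

/-- the columns of the root element of root 11 with parameter 2 -/
def x11_2 : List (List F3c) :=
  [[e, o, o, o, o, o, o, o, o, o, o, o, o, o],
    [o, e, o, o, o, o, o, o, o, o, o, o, o, e],
    [m, e, e, o, o, o, o, o, o, o, o, o, o, m],
    [o, o, o, e, o, o, o, o, m, o, o, o, o, o],
    [o, o, o, o, e, o, o, o, o, o, m, o, o, o],
    [o, o, o, o, o, e, o, o, o, o, o, e, o, o],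
    [o, o, o, o, o, o, e, o, o, o, o, o, o, o],
    [o, o, o, o, o, o, o, e, o, o, o, o, e, o],
    [o, o, o, o, o, o, o, o, e, o, o, o, o, o],
    [o, o, o, o, o, o, o, o, o, e, o, o, o, o],
    [o, o, o, o, o, o, o, o, o, o, e, o, o, o],
    [o, o, o, o, o, o, o, o, o, o, o, e, o, o],
    [o, o, o, o, o, o, o, o, o, o, o, o, e, o],
    [o, o, o, o, o, o, o, o, o, o, o, o, o, e]]

/-- the root elements of root 11 -/
def xF11 : F3c → List (List F3c)
  | o => idL3 14
  | e => x11_1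
  | m => x11_2

/-- the columns of the matrix of the letter 0 (u) -/
def let0 : List (List F3c) :=
  [[o, o, o, o, o, o, m, o, o, m, o, o, o, o],
    [o, o, m, o, o, o, m, o, o, m, o, o, o, m],
    [m, e, e, o, o, o, o, o, o, o, o, o, o, m],
    [o, o, o, e, m, m, o, m, m, o, e, m, m, o],
    [o, o, o, o, e, m, o, o, o, o, m, m, o, o],
    [o, o, o, o, m, m, o, o, o, o, e, m, o, o],
    [e, o, o, o, o, o, e, o, o, m, o, o, o, o],
    [o, o, o, m, m, e, o, m, e, o, e, e, m, o],
    [o, o, o, m, e, e, o, e, m, o, e, m, m, o],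
    [e, o, o, o, o, o, m, o, o, e, o, o, o, o],
    [o, o, o, o, m, e, o, o, o, o, m, m, o, o],
    [o, o, o, o, m, m, o, o, o, o, m, e, o, o],
    [o, o, o, m, m, e, o, m, m, o, m, m, e, o],
    [m, e, m, o, o, o, o, o, o, o, o, o, o, e]]

/-- the columns of the matrix of the letter 1 (the inverse of u) -/
def let1 : List (List F3c) :=
  [[o, o, o, o, o, o, m, o, o, m, o, o, o, o],
    [o, o, m, o, o, o, m, o, o, m, o, o, o, m],
    [m, e, e, o, o, o, o, o, o, o, o, o, o, m],
    [o, o, o, e, m, m, o, m, m, o, e, m, m, o],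
    [o, o, o, o, e, m, o, o, o, o, m, m, o, o],
    [o, o, o, o, m, m, o, o, o, o, e, m, o, o],
    [e, o, o, o, o, o, e, o, o, m, o, o, o, o],
    [o, o, o, m, m, e, o, m, e, o, e, e, m, o],
    [o, o, o, m, e, e, o, e, m, o, e, m, m, o],
    [e, o, o, o, o, o, m, o, o, e, o, o, o, o],
    [o, o, o, o, m, e, o, o, o, o, m, m, o, o],
    [o, o, o, o, m, m, o, o, o, o, m, e, o, o],
    [o, o, o, m, m, e, o, m, m, o, m, m, e, o],
    [m, e, m, o, o, o, o, o, o, o, o, o, o, e]]

/-- the columns of the matrix of the letter 2 (v) -/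
def let2 : List (List F3c) :=
  [[o, o, o, o, o, o, e, o, o, e, o, e, o, o],
    [o, e, o, e, o, m, o, o, o, o, o, o, o, o],
    [e, e, e, m, e, e, o, o, o, m, o, o, e, o],
    [e, o, e, e, o, m, m, m, m, m, e, e, o, m],
    [m, o, o, o, m, m, m, o, o, m, o, m, o, o],
    [o, o, o, o, m, e, o, o, o, e, o, o, o, o],
    [m, o, o, o, m, e, e, o, o, o, m, o, o, o],
    [o, o, m, o, o, o, o, e, o, o, o, o, o, o],
    [o, o, m, o, m, o, m, o, e, o, o, o, o, o],
    [o, o, o, o, e, e, o, o, o, m, o, o, o, o],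
    [m, o, o, o, e, e, m, o, o, o, m, o, o, o],
    [m, o, o, o, e, m, e, o, o, e, o, e, o, o],
    [m, m, e, e, e, m, o, o, o, m, o, o, m, o],
    [m, o, e, m, o, e, m, m, m, m, m, e, o, m]]

/-- the columns of the matrix of the letter 3 (the inverse of v) -/
def let3 : List (List F3c) :=
  [[o, o, o, o, e, e, o, o, o, e, o, e, o, o],
    [o, e, o, e, o, m, e, o, o, m, e, o, o, m],
    [o, o, m, o, o, m, o, o, o, e, o, o, m, o],
    [o, o, o, m, o, o, m, o, o, o, m, o, o, e],
    [m, o, o, o, e, o, o, o, o, o, o, m, o, o],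
    [o, o, o, o, o, m, o, o, o, m, o, o, o, o],
    [m, o, o, o, e, o, m, o, o, o, e, m, o, o],
    [o, o, m, o, o, m, o, e, o, e, o, o, m, o],
    [e, o, m, o, m, m, m, o, e, e, e, e, m, o],
    [m, o, o, o, e, m, o, o, o, e, o, m, o, o],
    [o, o, o, o, m, e, e, o, o, e, e, m, o, o],
    [o, o, o, o, e, e, e, o, o, m, m, m, o, o],
    [o, m, m, e, m, e, e, o, o, e, e, m, e, m],
    [e, o, e, e, o, o, o, m, m, o, o, o, e, e]]

/-- the columns of the matrix of the letter 4 (t) -/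
def let4 : List (List F3c) :=
  [[o, o, o, o, o, o, e, o, o, e, o, o, o, o],
    [o, o, m, o, o, o, e, o, o, e, o, o, o, m],
    [m, e, e, o, o, o, o, o, o, o, o, o, o, m],
    [o, o, o, e, e, m, o, e, m, o, m, m, e, o],
    [o, o, o, o, e, e, o, o, o, o, m, e, o, o],
    [o, o, o, o, e, m, o, o, o, o, m, m, o, o],
    [m, o, o, o, o, o, e, o, o, m, o, o, o, o],
    [o, o, o, e, m, m, o, m, m, o, e, m, m, o],
    [o, o, o, m, m, e, o, m, m, o, m, m, e, o],
    [m, o, o, o, o, o, m, o, o, e, o, o, o, o],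
    [o, o, o, o, m, m, o, o, o, o, m, e, o, o],
    [o, o, o, o, e, m, o, o, o, o, e, e, o, o],
    [o, o, o, e, m, m, o, m, e, o, m, e, e, o],
    [m, e, m, o, o, o, o, o, o, o, o, o, o, e]]

/-- the columns of the matrix of the letter 5 (the inverse of t) -/
def let5 : List (List F3c) :=
  [[o, o, o, o, o, o, e, o, o, e, o, o, o, o],
    [o, o, m, o, o, o, e, o, o, e, o, o, o, m],
    [m, e, e, o, o, o, o, o, o, o, o, o, o, m],
    [o, o, o, e, e, m, o, e, m, o, m, m, e, o],
    [o, o, o, o, e, e, o, o, o, o, m, e, o, o],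
    [o, o, o, o, e, m, o, o, o, o, m, m, o, o],
    [m, o, o, o, o, o, e, o, o, m, o, o, o, o],
    [o, o, o, e, m, m, o, m, m, o, e, m, m, o],
    [o, o, o, m, m, e, o, m, m, o, m, m, e, o],
    [m, o, o, o, o, o, m, o, o, e, o, o, o, o],
    [o, o, o, o, m, m, o, o, o, o, m, e, o, o],
    [o, o, o, o, e, m, o, o, o, o, e, e, o, o],
    [o, o, o, e, m, m, o, m, e, o, m, e, e, o],
    [m, e, m, o, o, o, o, o, o, o, o, o, o, e]]

/-- the table of the root elements -/
def xTbl : List (F3c → List (List F3c)) := [xF0, xF1, xF2, xF3, xF4, xF5, xF6, xF7, xF8, xF9, xF10, xF11]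

/-- the columns of a root element -/
def xLt (r : ℕ) (t : F3c) : List (List F3c) := xTbl.getD r (fun _ => idL3 14) t

/-- the table of the letters -/
def letTbl : List (List (List F3c)) := [let0, let1, let2, let3, let4, let5]

/-- the columns of the matrix of a letter -/
def letT (x : ℕ) : List (List F3c) := letTbl.getD x (idL3 14)

/-- the letters as words in the root elements -/
def rootW : ℕ → List (ℕ × F3c)
  | 0 => [(0, e), (4, m), (11, e), (7, m)]
  | 1 => [(7, e), (11, m), (4, e), (0, m)]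
  | 2 => [(3, m), (1, m), (9, e), (2, e)]
  | 3 => [(2, m), (9, m), (1, e), (3, e)]
  | 4 => [(7, m), (11, m), (4, m), (0, m)]
  | 5 => [(0, e), (4, e), (11, e), (7, e)]
  | _ => []

/-- the root elements with parameter one as words in the letters -/
def rootAsW : ℕ → List ℕ
  | 0 => [0, 3, 0, 3, 3, 3, 0, 2, 0, 3, 4, 0, 3, 0, 4, 3, 0]
  | 1 => [3, 0, 3, 0, 3, 4, 2, 4]
  | 2 => [3, 3, 3, 0, 3, 3, 0, 2]
  | 3 => [2, 0, 3, 3, 3, 0, 3, 3, 0, 2, 4, 0, 2, 0, 4, 0]
  | 4 => [2, 0, 3, 0, 3, 0, 2, 2, 0, 2, 0, 3, 4, 0, 3, 0, 4, 3, 0]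
  | 5 => [0, 3, 4, 2, 0, 2, 0, 2, 4, 0]
  | 6 => [2, 0, 2, 0, 3, 0, 3, 0, 3, 3, 4, 0, 2, 0, 2, 0, 3]
  | 7 => [3, 0, 2, 2, 2, 0, 3, 3, 0, 2, 2, 2, 0, 4, 2, 2, 0, 3, 3, 4, 3]
  | 8 => [0, 3, 3, 3, 0, 2, 2, 2, 0, 3, 3, 3, 4, 2, 0, 2, 0, 2, 2, 4]
  | 9 => [2, 0, 2, 0, 2, 2, 0, 2, 0, 3]
  | 10 => [3, 3, 0, 3, 0, 2, 2, 0, 2, 0, 3, 3, 3, 0, 4, 0, 2, 2, 0, 2, 4]
  | 11 => [0, 2, 0, 3, 3, 0, 3, 0, 2, 2, 2, 0, 4, 2, 2, 0, 3, 3, 4, 3]
  | _ => []

end Cfsg.Agent.Lib.Helper7.G23B
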