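import Cfsg.Agent.Lib.Helper6.ChevMatL

/-!
# A computable model of the field with three elements, and list matrices over it

The field with the elements `0`, `1`, `-1`, with the operations given by cases, and the operations on matrices
given by lists named directly, for the evaluation by the kernel.
-/

set_option autoImplicit false

namespace Cfsg.Agent.Lib.Helper7.G23B

open Cfsg.Agent.Lib.Helper6.ChevMatL

/-- the field with three elements: `0, 1, -1` -/
inductive F3c : Type
  | o | e | m
  deriving DecidableEq

namespace F3c

instance : Fintype F3c where
  elems := {o, e, m}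
  complete := by intro x; cases x <;> decide

/-- the sum -/
def add : F3c → F3c → F3c
  | o, x => x
  | x, o => x
  | e, e => m
  | e, m => o
  | m, e => o
  | m, m => e

/-- the product -/
def mul : F3c → F3c → F3c
  | o, _ => o
  | _, o => o
  | e, x => x
  | x, e => x
  | m, m => e

/-- the negative -/
def neg : F3c → F3c
  | o => o
  | e => m
  | m => e

instance : Add F3c := ⟨add⟩
instance : Mul F3c := ⟨mul⟩
instance : Zero F3c := ⟨o⟩
instance : One F3c := ⟨e⟩
instance : Neg F3c := ⟨neg⟩
instance : Inv F3c := ⟨id⟩

instance : Field F3c where
  add_assoc := by decide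
  zero_add := by decide
  add_zero := by decide
  nsmul := nsmulRec
  zsmul := zsmulRec
  neg_add_cancel := by decide
  add_comm := by decide
  left_distrib := by decide
  right_distrib := by decide
  zero_mul := by decide
  mul_zero := by decide
  mul_assoc := by decide
  one_mul := by decide
  mul_one := by decide
  mul_comm := by decide
  exists_pair_ne := ⟨o, e, by decide⟩
  mul_inv_cancel := by decide
  inv_zero := rfl
  nnqsmul := _
  qsmul := _

theorem card : Fintype.card F3c = 3 := rfl

end F3c

open F3c

/-- the product of a row and a column -/
def dot3 (r : List F3c) : List F3c → F3c :=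
  List.rec (motive := fun _ => List F3c → F3c) (fun _ => o)
    (fun a _ ih c => List.rec (motive := fun _ => F3c) o (fun b bs _ => F3c.add (F3c.mul a b) (ih bs)) c) r

theorem dot3_nil (c : List F3c) : dot3 [] c = o := rfl

theorem dot3_cons_nil (a : F3c) (as : List F3c) : dot3 (a :: as) [] = o := rfl

theorem dot3_cons_cons (a : F3c) (as : List F3c) (b : F3c) (bs : List F3c) :
    dot3 (a :: as) (b :: bs) = F3c.add (F3c.mul a b) (dot3 as bs) := rfl

theorem dot3_eq : ∀ r c : List F3c, dot3 r c = dot r c
  | [], c => by
    rw [dot3_nil]
    simp [dot]
    rfl
  | a :: as, [] => by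
    rw [dot3_cons_nil]
    simp [dot]
    rfl
  | a :: as, b :: bs => by
    rw [dot3_cons_cons, dot, dot3_eq as bs]
    rfl

/-- the product of a matrix given by its rows and a matrix given by its columns, by its rows -/
def mulT3 (X Yt : List (List F3c)) : List (List F3c) :=
  X.map fun row => Yt.map fun col => dot3 row col

theorem mulT3_eq (X Yt : List (List F3c)) : mulT3 X Yt = mulT X Yt := by
  unfold mulT3 mulT
  simp only [dot3_eq]

/-- the transposed matrix, of size `n` -/
def transp3 (n : ℕ) (Y : List (List F3c)) : List (List F3c) :=
  (List.range n).map fun j => Y.map fun row => row.getD j o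

theorem transp3_eq (n : ℕ) (Y : List (List F3c)) : transp3 n Y = transp n Y := rfl

/-- the identity matrix of size `n` -/
def idL3 (n : ℕ) : List (List F3c) :=
  (List.range n).map fun i => (List.range n).map fun j => if i = j then e else o

theorem idL3_eq (n : ℕ) : idL3 n = idL n := rfl

/-- the product of a list of matrices of size `n` given by their columns, by its rows -/
def prodT3 (n : ℕ) (Ms : List (List (List F3c))) : List (List F3c) := Ms.foldl mulT3 (idL3 n)

theorem prodT3_eq (n : ℕ) (Ms : List (List (List F3c))) : prodT3 n Ms = prodT n Ms := by
  unfold prodT3 prodT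
  have : mulT3 = mulT := by
    funext X Yt
    exact mulT3_eq X Yt
  rw [this, idL3_eq]

end Cfsg.Agent.Lib.Helper7.G23B
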