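import Cfsg.Agent.Lib.Helper7.G23MTK0

/-! # The multiplier of the Chevalley group of type G2 over the field of three elements, the table over L: all the rows and words of the certificate are checked, and the words that give the relations
between the classes are traced (generated) -/

set_option autoImplicit false
set_option maxRecDepth 100000

namespace Cfsg.Agent.Lib.Helper7.G23MT

open Cfsg.Agent.Lib.Helper7.MG Cfsg.Agent.Lib.Helper7.HSMult

theorem rows_ok_all : ∀ k, k < 6 → rowsOK (117 * k) 117 = true
  | 0, _ => rows_ok_0
  | 1, _ => rows_ok_1
  | 2, _ => rows_ok_2
  | 3, _ => rows_ok_3
  | 4, _ => rows_ok_4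
  | 5, _ => rows_ok_5
  | k + 6, h => absurd h (by omega)

/-- **every entry of the table is justified** -/
theorem cert_all : ∀ a, a < cert.n → ∀ x, x < cert.g → cert.slotOK a x = true := by
  intro a ha x hx
  have ha' : a < 702 := ha
  have hx' : x < 6 := hx
  have h1 := rows_ok_all (a / 117) (by omega)
  rw [rowsOK, allN_iff] at h1
  have h2 := h1 (a % 117) (Nat.mod_lt _ (by norm_num))
  rw [allN_iff] at h2
  have h3 := h2 x hx'
  have e : Nat.add (117 * (a / 117)) (a % 117) = a := Nat.div_add_mod a 117
  rw [e] at h3
  exact h3

theorem words_ok : wordsOK = true := by decide +kernel

/-- **every word of the certificate is justified** -/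
theorem cert_wall : ∀ i, i < cert.nW → cert.wordOK i = true := by
  intro i hi
  have h := words_ok
  rw [wordsOK, allN_iff] at h
  exact h i hi

theorem close_0 : cert.scan 4095 (cert.W 17) 582 0 = some (582, 48534830619202733202600368388580124329902114790) := by decide +kernel

theorem close_1 : cert.scan 4095 (cert.W 8) 261 0 = some (261, 42827228211064551362960137240603300496278583250) := by decide +kernel

theorem close_2 : cert.scan 4095 (cert.W 15) 507 0 = some (507, 48515317456520158179324474563681872408210343842) := by decide +kernel

theorem close_3 : cert.scan 4095 (cert.W 50) 483 0 = some (483, 79882739303754447838835274144899610356121395201) := by decide +kernel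

theorem close_4 : cert.scan 4095 (cert.W 26) 96 0 = some (96, 51373996952589132576522273947028977161161707609) := by decide +kernel

theorem close_5 : cert.scan 4095 (cert.W 53) 29 0 = some (29, 79924553212964792890102165721880546087615389717) := by decide +kernel

theorem close_6 : cert.scan 4095 (cert.W 45) 443 0 = some (443, 79925947014856635854824025985058325326423187448) := by decide +kernel

theorem close_7 : cert.scan 4095 (cert.W 69) 456 0 = some (456, 45671969722775220488475707692434514594496544771) := by decide +kernel

theorem close_8 : cert.scan 4095 (cert.W 34) 234 0 = some (234, 51367027961739209837951042568684965400974233705) := by decide +kernel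

theorem close_9 : cert.scan 4095 (cert.W 56) 227 0 = some (227, 171269886460407076831745218229048684700055494697) := by decide +kernel

end Cfsg.Agent.Lib.Helper7.G23MT
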