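import Cfsg.Agent.Lib.Helper7.G23Grp1
import Cfsg.Agent.Lib.Helper7.G23Grp2

/-!
# The Chevalley group of type G2 over the field of three elements and its subgroup `L`: the words of the two
certificates, the order of `L`

All the words of the two certificates are trivial in the group.  The table of the cosets of `L` shows that `L` has
index at most 702, the table of the cosets in `L` of the subgroup generated by `v` shows that `L` has at most 6048
elements; so `L` has 6048 elements.  The group `L` is perfect.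
-/

set_option autoImplicit false
set_option maxRecDepth 100000

namespace Cfsg.Agent.Lib.Helper7.G23B

open Cfsg Cfsg.Lie Cfsg.Agent.Lib.Helper7.MG Cfsg.Agent.Lib.Helper7.HSMult
open scoped IsMulCommutative commutatorElement

/-! ### the words of the certificates -/

theorem wd_lK1_W {i : ℕ} (hi : i < 65) : VCert.wd lK1 (G23ML.cert.W i) = 1 :=
  wd_lK1_eq_one (chk_triv1 hi)

theorem wd_lK_W {i : ℕ} (hi : i < 70) : VCert.wd lK (G23MT.cert.W i) = 1 :=
  wd_lK_eq_one (chk_triv2 hi)

/-! ### the order of `v` -/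

theorem chk_v7 : matOK4 (wpow 7 [2]) = true := by decide +kernel

theorem lK1_two_pow : lK1 2 ^ 7 = 1 := by
  have h := wd_lK1_eq_one chk_v7
  rw [wd_wpow, VCert.wd_cons, VCert.wd_nil, mul_one] at h
  exact h

theorem chk_v_move : ∃ a b : Fin 12, a ≠ b ∧ mt (letT 2) (Sum.inr a) (Sum.inr b) ≠ 0 := by decide +kernel

theorem lK_two_ne : lK 2 ≠ 1 := by
  intro h
  have h1 : (lG 2 : GL I F3c).val = 1 := by
    have := congrArg (fun g : G => ((g : GL I F3c)).val) h
    exact this
  rw [lG_val] at h1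
  obtain ⟨a, b, hab, hne⟩ := chk_v_move
  apply hne
  rw [h1]
  exact Matrix.one_apply_ne (fun h => hab (Sum.inr_injective h))

theorem lK1_two_ne : lK1 2 ≠ 1 := by
  intro h
  have h1 : lK 2 = 1 := by
    have := congrArg Subtype.val h
    rw [lK1_val (by norm_num)] at this
    exact this
  exact lK_two_ne h1

theorem dvd_of_lK1_two_pow {i : ℕ} (h : lK1 2 ^ i = 1) : 7 ∣ i := by
  have h1 : orderOf (lK1 2) ∣ 7 := orderOf_dvd_of_pow_eq_one lK1_two_pow
  have h2 : orderOf (lK1 2) = 1 ∨ orderOf (lK1 2) = 7 := (Nat.dvd_prime (by norm_num)).1 h1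
  rcases h2 with h2 | h2
  · exact absurd (orderOf_eq_one_iff.1 h2) lK1_two_ne
  · rw [← h2]
    exact orderOf_dvd_of_pow_eq_one h

/-! ### the order of `L` -/

/-- the letters of the subgroup of the second table -/
theorem lt_four_of_sub {x : ℕ} (hx : (Nat.beq x 0 || Nat.beq x 1 || Nat.beq x 2 || Nat.beq x 3) = true) : x < 4 := by
  rw [Bool.or_eq_true, Bool.or_eq_true, Bool.or_eq_true] at hx
  rcases hx with ((h | h) | h) | h
  · rw [Nat.eq_of_beq_eq_true h]; norm_num
  · rw [Nat.eq_of_beq_eq_true h]; norm_num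
  · rw [Nat.eq_of_beq_eq_true h]; norm_num
  · rw [Nat.eq_of_beq_eq_true h]; norm_num

instance instFiniteL : Finite ↥L := inferInstance

theorem hgen_L : ∀ y : ↥L, ∃ u : List ℕ, (∀ x ∈ u, x < G23ML.cert.g) ∧ y = (u.map lK1).prod := by
  apply MG.exists_word_of_closure lK1 4 (fun x => Nat.xor x 1) _ closure_lK1
  intro x hx
  refine ⟨?_, lK1_iv hx⟩
  have : x = 0 ∨ x = 1 ∨ x = 2 ∨ x = 3 := by omega
  rcases this with rfl | rfl | rfl | rfl <;> decide

theorem hgen_G : ∀ y : G, ∃ u : List ℕ, (∀ x ∈ u, x < G23MT.cert.g) ∧ y = (u.map lK).prod := by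
  apply MG.exists_word_of_closure lK 6 (fun x => Nat.xor x 1) _ closure_lK
  intro x hx
  refine ⟨?_, lK_iv hx⟩
  have : x = 0 ∨ x = 1 ∨ x = 2 ∨ x = 3 ∨ x = 4 ∨ x = 5 := by omega
  rcases this with rfl | rfl | rfl | rfl | rfl | rfl <;> decide

theorem card_L_le : Nat.card ↥L ≤ 6048 := by
  have h := card_le_Zc (MonoidHom.id ↥L) G23ML.cert lK1 (fun _ => 1) 2 7 (by decide) (by norm_num)
    (fun i hi => dvd_of_lK1_two_pow hi) lK1_two_pow
    (by
      intro x hx
      rcases eq_two_or_three hx with rfl | rfl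
      · exact Subgroup.mem_zpowers _
      · have : lK1 3 = (lK1 2)⁻¹ := lK1_iv (x := 2) (by norm_num)
        rw [this]
        exact Subgroup.inv_mem _ (Subgroup.mem_zpowers _))
    (fun j _ => Subgroup.one_mem _) hgen_L (by decide) (by decide)
    (fun x hx => lK1_iv hx)
    (fun i hi => by rw [MonoidHom.mem_ker]; exact wd_lK1_W hi)
    (fun i hi _ => by rw [wd_lK1_W hi, VCert.ek, G23ML.cert.kap_triv _ (fun _ _ => rfl)]; rfl)
    G23ML.cert_all G23ML.cert_wall
  rw [Zc_eq_bot_of_triv _ _ (fun _ _ => rfl), Subgroup.card_bot] at h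
  exact h

theorem index_L_le : L.index ≤ 702 ∧ L.index ≠ 0 := by
  refine G23MT.cert.index_le (γ := lK) (H := L) (z := fun _ => 1) ⊥ ?_ ?_ ?_ (by decide) (by decide)
    (fun x hx => lK_iv hx) ?_ ?_ ?_ G23MT.cert_all G23MT.cert_wall L le_rfl ?_ hgen_G (by decide)
  · intro u hu g
    rw [Subgroup.mem_bot] at hu
    rw [hu, mul_one, mul_inv_cancel]
    exact Subgroup.one_mem _
  · intro j _
    exact Subgroup.one_mem _
  · intro u _ hu
    exact Subgroup.mem_bot.1 hu
  · intro x hx
    exact lK_mem_L (lt_four_of_sub hx)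
  · intro i hi
    rw [Subgroup.mem_bot]
    exact wd_lK_W hi
  · intro i hi _
    rw [wd_lK_W hi, VCert.ek, G23MT.cert.kap_triv _ (fun _ _ => rfl)]
    rfl
  · intro j _
    exact Subgroup.one_mem _

theorem card_L : Nat.card ↥L = 6048 := by
  apply le_antisymm card_L_le
  have h1 := Subgroup.card_mul_index L
  rw [card_G] at h1
  obtain ⟨h2, _⟩ := index_L_le
  by_contra hlt
  have h3 : Nat.card ↥L ≤ 6047 := by omega
  have : Nat.card ↥L * L.index ≤ 6047 * 702 := Nat.mul_le_mul h3 h2
  omega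

/-! ### `L` is perfect -/

theorem chk_u2 : matOK4 (wpow 2 [0]) = true := by decide +kernel

theorem chk_uv7 : matOK4 (wpow 7 [0, 2]) = true := by decide +kernel

theorem chk_uvv6 : matOK4 (wpow 6 [0, 2, 2]) = true := by decide +kernel

theorem closure_pair_L : Subgroup.closure {lK1 0, lK1 2} = (⊤ : Subgroup ↥L) := by
  rw [eq_top_iff, ← closure_lK1, Subgroup.closure_le]
  rintro _ ⟨x, hx, rfl⟩
  have hx' : x < 4 := hx
  have : x = 0 ∨ x = 1 ∨ x = 2 ∨ x = 3 := by omega
  rcases this with rfl | rfl | rfl | rfl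
  · exact Subgroup.subset_closure (by simp)
  · have : lK1 1 = (lK1 0)⁻¹ := lK1_iv (x := 0) (by norm_num)
    rw [SetLike.mem_coe, this]
    exact inv_mem (Subgroup.subset_closure (by simp))
  · exact Subgroup.subset_closure (by simp)
  · have : lK1 3 = (lK1 2)⁻¹ := lK1_iv (x := 2) (by norm_num)
    rw [SetLike.mem_coe, this]
    exact inv_mem (Subgroup.subset_closure (by simp))

/-- **a group generated by two elements `x`, `y` with `x ^ a = y ^ b = (x y) ^ c = (x y y) ^ d = 1`, where `a` is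
prime to `c b` and `2 d` is prime to `b`, is perfect** -/
theorem perfect_of_two_words {G : Type*} [Group G] {x y : G} (hgen : Subgroup.closure {x, y} = (⊤ : Subgroup G))
    {a b c d : ℕ} (hx : x ^ a = 1) (hy : y ^ b = 1) (hxy : (x * y) ^ c = 1) (hxyy : (x * y * y) ^ d = 1)
    (h1 : Nat.Coprime a (c * b)) (h2 : Nat.Coprime (2 * d) b) : commutator G = ⊤ := by
  set π := (Abelianization.of : G →* Abelianization G) with hπ
  set X := π x with hX
  set Y := π y with hY
  have e1 : X ^ a = 1 := by rw [hX, ← map_pow, hx, map_one]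
  have e2 : Y ^ b = 1 := by rw [hY, ← map_pow, hy, map_one]
  have e3 : X ^ c * Y ^ c = 1 := by rw [← mul_pow, hX, hY, ← map_mul, ← map_pow, hxy, map_one]
  have e4 : X ^ (c * b) = 1 := by
    have : (X ^ c * Y ^ c) ^ b = 1 := by rw [e3, one_pow]
    rw [mul_pow, ← pow_mul, ← pow_mul, mul_comm c b, pow_mul Y, e2, one_pow, mul_one, mul_comm b c] at this
    exact this
  have x1 : X = 1 := by
    have d1 := orderOf_dvd_of_pow_eq_one e1
    have d2 := orderOf_dvd_of_pow_eq_one e4
    have d3 : orderOf X ∣ Nat.gcd a (c * b) := Nat.dvd_gcd d1 d2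
    rw [h1] at d3
    have : X ^ 1 = 1 := orderOf_dvd_iff_pow_eq_one.1 d3
    rwa [pow_one] at this
  have e5 : Y ^ (2 * d) = 1 := by
    have : (X * Y * Y) ^ d = 1 := by rw [hX, hY, ← map_mul, ← map_mul, ← map_pow, hxyy, map_one]
    rw [x1, one_mul, ← pow_two, ← pow_mul] at this
    exact this
  have y1 : Y = 1 := by
    have d1 := orderOf_dvd_of_pow_eq_one e5
    have d2 := orderOf_dvd_of_pow_eq_one e2
    have d3 : orderOf Y ∣ Nat.gcd (2 * d) b := Nat.dvd_gcd d1 d2
    rw [h2] at d3
    have : Y ^ 1 = 1 := orderOf_dvd_iff_pow_eq_one.1 d3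
    rwa [pow_one] at this
  have hk : (⊤ : Subgroup G) ≤ π.ker := by
    rw [← hgen, Subgroup.closure_le]
    intro g hg
    rcases hg with rfl | rfl
    · exact x1
    · exact y1
  rw [← Abelianization.ker_of G]
  exact top_le_iff.1 hk

theorem L_perfect : commutator ↥L = ⊤ := by
  have h2 : lK1 0 ^ 2 = 1 := by
    have h := wd_lK1_eq_one chk_u2
    rw [wd_wpow, VCert.wd_cons, VCert.wd_nil, mul_one] at h
    exact h
  have h3 : (lK1 0 * lK1 2) ^ 7 = 1 := by
    have h := wd_lK1_eq_one chk_uv7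
    rw [wd_wpow, VCert.wd_cons, VCert.wd_cons, VCert.wd_nil, mul_one] at h
    exact h
  have h4 : (lK1 0 * lK1 2 * lK1 2) ^ 6 = 1 := by
    have h := wd_lK1_eq_one chk_uvv6
    rw [wd_wpow, VCert.wd_cons, VCert.wd_cons, VCert.wd_cons, VCert.wd_nil, mul_one, ← mul_assoc] at h
    exact h
  exact perfect_of_two_words closure_pair_L h2 lK1_two_pow h3 h4 (by norm_num) (by norm_num)

theorem G_perfect : commutator G = ⊤ := by
  rcases (inferInstance : (commutator G).Normal).eq_bot_or_eq_top with h | h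
  · exfalso
    apply (Cfsg.Agent.S1055.result (F := F3c) ⟨F3c.m, by decide, by decide⟩).2
    refine ⟨⟨fun x y => ?_⟩⟩
    have : ⁅x, y⁆ ∈ commutator G :=
      Subgroup.commutator_mem_commutator (Subgroup.mem_top x) (Subgroup.mem_top y)
    rw [h, Subgroup.mem_bot, commutatorElement_eq_one_iff_mul_comm] at this
    exact this
  · exact h

end Cfsg.Agent.Lib.Helper7.G23B
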