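import Cfsg.Agent.Lib.Helper7.G23Base
import Cfsg.Agent.Lib.Helper7.G23MLD

/-!
# The Chevalley group of type G2 over the field of three elements: the words of the certificate of the subgroup `L`

The words of the certificate are checked to be trivial in the group, by the products of the matrices of their letters
(generated).
-/

set_option autoImplicit false
set_option maxRecDepth 100000

namespace Cfsg.Agent.Lib.Helper7.G23B

open Cfsg Cfsg.Agent.Lib.Helper7.MG Cfsg.Agent.Lib.Helper7.HSMult

theorem chk_triv1_0 : (allN 8 fun i => strictL (G23ML.cert.W (Nat.add 0 i)) fun w => matOK4 w) = true := by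
  decide +kernel

theorem chk_triv1_1 : (allN 8 fun i => strictL (G23ML.cert.W (Nat.add 8 i)) fun w => matOK4 w) = true := by
  decide +kernel

theorem chk_triv1_2 : (allN 8 fun i => strictL (G23ML.cert.W (Nat.add 16 i)) fun w => matOK4 w) = true := by
  decide +kernel

theorem chk_triv1_3 : (allN 8 fun i => strictL (G23ML.cert.W (Nat.add 24 i)) fun w => matOK4 w) = true := by
  decide +kernel

theorem chk_triv1_4 : (allN 8 fun i => strictL (G23ML.cert.W (Nat.add 32 i)) fun w => matOK4 w) = true := by
  decide +kernel

theorem chk_triv1_5 : (allN 8 fun i => strictL (G23ML.cert.W (Nat.add 40 i)) fun w => matOK4 w) = true := by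
  decide +kernel

theorem chk_triv1_6 : (allN 8 fun i => strictL (G23ML.cert.W (Nat.add 48 i)) fun w => matOK4 w) = true := by
  decide +kernel

theorem chk_triv1_7 : (allN 8 fun i => strictL (G23ML.cert.W (Nat.add 56 i)) fun w => matOK4 w) = true := by
  decide +kernel

theorem chk_triv1_8 : (allN 8 fun i => strictL (G23ML.cert.W (Nat.add 64 i)) fun w => matOK4 w) = true := by
  decide +kernel

theorem chk_triv1_all : ∀ k, k < 9 →
    (allN 8 fun i => strictL (G23ML.cert.W (Nat.add (8 * k) i)) fun w => matOK4 w) = true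
  | 0, _ => chk_triv1_0
  | 1, _ => chk_triv1_1
  | 2, _ => chk_triv1_2
  | 3, _ => chk_triv1_3
  | 4, _ => chk_triv1_4
  | 5, _ => chk_triv1_5
  | 6, _ => chk_triv1_6
  | 7, _ => chk_triv1_7
  | 8, _ => chk_triv1_8
  | k + 9, h => absurd h (by omega)

theorem chk_triv1 {i : ℕ} (hi : i < 65) : matOK4 (G23ML.cert.W i) = true := by
  have h := chk_triv1_all (i / 8) (by omega)
  rw [allN_iff] at h
  have h1 := h (i % 8) (Nat.mod_lt _ (by norm_num))
  rw [strictL_eq] at h1
  have e : Nat.add (8 * (i / 8)) (i % 8) = i := Nat.div_add_mod i 8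
  rw [e] at h1
  exact h1

end Cfsg.Agent.Lib.Helper7.G23B
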