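import Cfsg.Agent.Lib.Helper7.G23MEB

/-!
# The multiplier of the Chevalley group of type G2 over the field of three elements: the group generated by the pairs

The checks of the words on the 2106 points are put together: the given words of the table over `L` act as shifts,
which commute with the letters, so their values are central in the group generated by the pairs; the words that are
trivial in the table of `L` are trivial.  So the subgroup generated by the first four pairs maps isomorphically onto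
`L`.
-/

set_option autoImplicit false
set_option maxRecDepth 100000

namespace Cfsg.Agent.Lib.Helper7.G23MM

open Cfsg Cfsg.Agent.Lib.Helper7.MG Cfsg.Agent.Lib.Helper7.HSMult Cfsg.Agent.Lib.Helper7.G23B
open scoped IsMulCommutative

/-! ### the words on the 2106 points -/

theorem ev5_lt : ∀ (w : List ℕ) (p : ℕ), p < 2106 → ev5 w p < 2106
  | [], _, hp => hp
  | x :: w, p, hp => by
    rw [ev5_cons]
    exact (hh5 x (ev5 w p) (ev5_lt w p hp)).1

theorem chk_ax2W : ∀ j, j < 8 → G23MT.cert.W (G23MT.axI j) = ax2W j := by decide +kernel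

theorem chk_ax1W : ∀ j, j < 5 → G23ML.cert.W (G23ML.axI j) = ax1W j := by decide +kernel

theorem chk_ex2W : cw_ex2 = wpow 7 G23MT.yW := by decide

theorem chk_l1aW : cw_l1a = wpow 7 [2] := by decide

theorem chk_l1bW : cw_l1b = wpow 7 G23ML.yW := by decide

theorem ev5_ex2 {p : ℕ} (hp : p < 2106) : ev5 (wpow 7 G23MT.yW) p = p := by
  rw [← chk_ex2W]
  exact fxOK_spec fxk_ex2_0 fxk_ex2_1 hp

theorem ev5_l1a {p : ℕ} (hp : p < 2106) : ev5 (wpow 7 [2]) p = p := by
  rw [← chk_l1aW]
  exact fxOK_spec fxk_l1a_0 fxk_l1a_1 hp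

theorem ev5_l1b {p : ℕ} (hp : p < 2106) : ev5 (wpow 7 G23ML.yW) p = p := by
  rw [← chk_l1bW]
  exact fxOK_spec fxk_l1b_0 fxk_l1b_1 hp

/-! ### the central elements -/

theorem ax2W_ge {j : ℕ} (hj : 8 ≤ j) : ax2W j = [] := by
  obtain ⟨y, rfl⟩ : ∃ y, j = y + 8 := ⟨j - 8, by omega⟩
  rfl

theorem wd_lK_ax2 (j : ℕ) : VCert.wd lK (ax2W j) = 1 := by
  rcases Nat.lt_or_ge j 8 with hj | hj
  · rw [← chk_ax2W j hj]
    exact wd_lK_W (G23MT.axI_lt j)
  · rw [ax2W_ge hj]
    rfl

theorem ax2_comm {j x : ℕ} (hj : j < 8) (hx : x < 6) :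
    gE x * VCert.wd gE (ax2W j) = VCert.wd gE (ax2W j) * gE x := by
  have h := wd_gE_eq (w := x :: ax2W j) (w' := ax2W j ++ [x]) (fun p hp => by
      rw [ev5_cons, ev5_append, ev5_ax2 j hj p hp, ev5_cons, ev5_nil, ev5_ax2 j hj _ (hh5 x p hp).1]
      exact lk5_sh j hj x hx p hp) (by
      rw [VCert.wd_cons, VCert.wd_append, wd_lK_ax2 j, mul_one, one_mul, VCert.wd_cons, VCert.wd_nil, mul_one])
  rw [VCert.wd_cons, VCert.wd_append, VCert.wd_cons, VCert.wd_nil, mul_one] at h
  exact h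

theorem ax2_center (j : ℕ) : VCert.wd gE (ax2W j) ∈ Subgroup.center ↥GE := by
  rcases Nat.lt_or_ge j 8 with hj | hj
  · apply central_of_comm_gens (gE '' Set.Iio 6) closure_gE
    rintro _ ⟨x, hx, rfl⟩
    exact ax2_comm hj hx
  · rw [ax2W_ge hj]
    exact Subgroup.one_mem _

/-- the central elements of the table over `L`: the values of the given words -/
noncomputable def zE (j : ℕ) : Subgroup.center ↥GE := ⟨VCert.wd gE (ax2W j), ax2_center j⟩

theorem zE_val (j : ℕ) : ((zE j : Subgroup.center ↥GE) : ↥GE) = VCert.wd gE (ax2W j) := rfl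

theorem wd_gE_ax2 : ∀ j, j < 8 →
    VCert.wd gE (G23MT.cert.W (G23MT.axI j)) = ((zE j : Subgroup.center ↥GE) : ↥GE) := by
  intro j hj
  rw [chk_ax2W j hj]
  rfl

theorem zE_mem_ker (j : ℕ) : ((zE j : Subgroup.center ↥GE) : ↥GE) ∈ sigE.ker := by
  rw [zE_val, MonoidHom.mem_ker, sigE_wd, wd_lK_ax2]

theorem wd_gE_ex2 : VCert.wd gE (wpow 7 G23MT.yW) = 1 := by
  refine wd_gE_eq (w' := []) (fun p hp => by rw [ev5_ex2 hp, ev5_nil]) ?_
  rw [← G23MT.chk_W3]
  exact wd_lK_W (by norm_num)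

/-! ### the subgroup generated by the first four pairs -/

/-- the subgroup generated by the first four pairs -/
noncomputable def HE : Subgroup ↥GE := Subgroup.closure (gE '' Set.Iio 4)

theorem gE_mem_HE {x : ℕ} (hx : x < 4) : gE x ∈ HE := Subgroup.subset_closure ⟨x, hx, rfl⟩

theorem sigE_mem_L (h : ↥GE) (hh : h ∈ HE) : sigE h ∈ L := by
  induction hh using Subgroup.closure_induction with
  | mem y hy =>
    obtain ⟨x, hx, rfl⟩ := hy
    rw [sigE_gE]
    exact lK_mem_L hx
  | one => rw [map_one]; exact Subgroup.one_mem _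
  | mul a b _ _ iha ihb => rw [map_mul]; exact Subgroup.mul_mem _ iha ihb
  | inv a _ iha => rw [map_inv]; exact Subgroup.inv_mem _ iha

/-- the projection of the subgroup onto `L` -/
noncomputable def sigH : ↥HE →* ↥L :=
  (sigE.comp HE.subtype).codRestrict L fun h => sigE_mem_L h.1 h.2

theorem sigH_val (h : ↥HE) : ((sigH h : ↥L) : G) = sigE h.1 := rfl

/-- the first four letters in the subgroup -/
noncomputable def gH (x : ℕ) : ↥HE := if h : x < 4 then ⟨gE x, gE_mem_HE h⟩ else 1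

theorem gH_val {x : ℕ} (hx : x < 4) : (gH x : ↥GE) = gE x := by
  rw [gH, dif_pos hx]

theorem gH_of_ge {x : ℕ} (hx : 4 ≤ x) : gH x = 1 := by
  rw [gH, dif_neg (by omega)]

theorem sigH_gH (x : ℕ) : sigH (gH x) = lK1 x := by
  rcases Nat.lt_or_ge x 4 with hx | hx
  · apply Subtype.ext
    rw [sigH_val, gH_val hx, sigE_gE, lK1_val hx]
  · rw [gH_of_ge hx, lK1_of_ge hx, map_one]

theorem sigH_wd : ∀ w : List ℕ, sigH (VCert.wd gH w) = VCert.wd lK1 w
  | [] => map_one sigH
  | x :: w => by rw [VCert.wd_cons, VCert.wd_cons, map_mul, sigH_gH, sigH_wd w]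

theorem wd_gH_val : ∀ w : List ℕ, (∀ x ∈ w, x < 4) → ((VCert.wd gH w : ↥HE) : ↥GE) = VCert.wd gE w
  | [], _ => rfl
  | x :: w, h => by
    rw [VCert.wd_cons, VCert.wd_cons, Subgroup.coe_mul, gH_val (h x List.mem_cons_self),
      wd_gH_val w fun y hy => h y (List.mem_cons_of_mem _ hy)]

theorem gH_iv {x : ℕ} (hx : x < 4) : gH (Nat.xor x 1) = (gH x)⁻¹ := by
  have hx' : Nat.xor x 1 < 4 := by
    have : x = 0 ∨ x = 1 ∨ x = 2 ∨ x = 3 := by omega
    rcases this with rfl | rfl | rfl | rfl <;> decide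
  apply Subtype.ext
  rw [Subgroup.coe_inv, gH_val hx', gH_val hx, gE_iv x (by omega)]

theorem closure_gH : Subgroup.closure (gH '' Set.Iio 4) = ⊤ := by
  have h := Subgroup.closure_closure_coe_preimage (k := gE '' Set.Iio 4)
  have e : ((↑) ⁻¹' (gE '' Set.Iio 4) : Set ↥(Subgroup.closure (gE '' Set.Iio 4))) = gH '' Set.Iio 4 := by
    ext z
    constructor
    · rintro ⟨x, hx, hz⟩
      exact ⟨x, hx, Subtype.ext (by rw [gH_val hx]; exact hz)⟩
    · rintro ⟨x, hx, rfl⟩
      exact ⟨x, hx, (gH_val hx).symm⟩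
  rw [e] at h
  exact h

theorem sigH_surj : Function.Surjective sigH := by
  rw [← MonoidHom.range_eq_top, eq_top_iff, ← closure_lK1, Subgroup.closure_le]
  rintro _ ⟨x, _, rfl⟩
  exact ⟨gH x, sigH_gH x⟩

theorem hgen_H : ∀ y : ↥HE, ∃ u : List ℕ, (∀ x ∈ u, x < G23ML.cert.g) ∧ y = (u.map gH).prod := by
  apply MG.exists_word_of_closure gH 4 (fun x => Nat.xor x 1) _ closure_gH
  intro x hx
  refine ⟨?_, gH_iv hx⟩
  have : x = 0 ∨ x = 1 ∨ x = 2 ∨ x = 3 := by omega
  rcases this with rfl | rfl | rfl | rfl <;> decide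

/-- a word in the first four letters that is trivial in the group and on the 2106 points is trivial -/
theorem wd_gH_eq_one {w : List ℕ} (hw : ∀ x ∈ w, x < 4) (h5 : ∀ p, p < 2106 → ev5 w p = p)
    (hK : VCert.wd lK1 w = 1) : VCert.wd gH w = 1 := by
  apply Subtype.ext
  rw [wd_gH_val w hw]
  refine wd_gE_eq (w' := []) (fun p hp => by rw [h5 p hp, ev5_nil]) ?_
  have := congrArg Subtype.val hK
  rw [wd_lK1_val w hw] at this
  rw [this]
  rfl

theorem chk_lt1 : ∀ i, i < 65 → ∀ x ∈ G23ML.cert.W i, x < 4 := by decide +kernel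

theorem gH_two_pow : gH 2 ^ 7 = 1 := by
  have h := wd_gH_eq_one (w := wpow 7 [2]) (by decide) (fun p hp => ev5_l1a hp) (by
      rw [← G23ML.chk_W2]; exact wd_lK1_W (by norm_num))
  rw [wd_wpow, VCert.wd_cons, VCert.wd_nil, mul_one] at h
  exact h

theorem hW0_H : ∀ i, i < G23ML.cert.nW → G23ML.cert.wT i = 0 →
    VCert.wd gH (G23ML.cert.W i) = (G23ML.cert.ek (fun _ => (1 : Subgroup.center ↥HE)) i : ↥HE) := by
  intro i hi hT
  rw [VCert.ek, G23ML.cert.kap_triv _ (fun _ _ => rfl)]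
  show _ = (1 : ↥HE)
  rcases G23ML.chk_wT i hi hT with rfl | rfl | ⟨j, hj, rfl⟩
  · rw [G23ML.chk_W2]
    exact wd_gH_eq_one (by decide) (fun p hp => ev5_l1a hp) (by
      rw [← G23ML.chk_W2]; exact wd_lK1_W (by norm_num))
  · rw [G23ML.chk_W3]
    exact wd_gH_eq_one (by decide) (fun p hp => ev5_l1b hp) (by
      rw [← G23ML.chk_W3]; exact wd_lK1_W (by norm_num))
  · refine wd_gH_eq_one (chk_lt1 _ (G23ML.axI_lt j)) (fun p hp => ?_) (wd_lK1_W (G23ML.axI_lt j))
    rw [chk_ax1W j hj]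
    exact ev5_ax1 j hj p hp

instance instFiniteGE : Finite ↥GE := inferInstance

instance instFiniteHE : Finite ↥HE := inferInstance

/-- **the subgroup generated by the first four pairs maps injectively to `L`** -/
theorem sigH_ker : sigH.ker = ⊥ := by
  have h := ker_eq_Zc sigH G23ML.cert gH (fun _ => 1) 2 7 sigH_surj (by rw [card_L]; rfl) (by decide) (by norm_num)
    (fun i hi => by rw [sigH_gH] at hi; exact dvd_of_lK1_two_pow hi) gH_two_pow
    (by
      intro x hx
      rcases eq_two_or_three hx with rfl | rfl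
      · exact Subgroup.mem_zpowers _
      · have : gH 3 = (gH 2)⁻¹ := gH_iv (x := 2) (by norm_num)
        rw [this]
        exact Subgroup.inv_mem _ (Subgroup.mem_zpowers _))
    (fun j _ => Subgroup.one_mem _) hgen_H (by decide) (by decide)
    (fun x hx => gH_iv hx)
    (fun i hi => by rw [MonoidHom.mem_ker, sigH_wd]; exact wd_lK1_W hi)
    hW0_H G23ML.cert_all G23ML.cert_wall
  rw [h]
  exact Zc_eq_bot_of_triv _ _ (fun _ _ => rfl)

theorem sigH_injective : Function.Injective sigH := (MonoidHom.ker_eq_bot_iff sigH).1 sigH_ker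

/-- an element of the subgroup that lies in the kernel of the projection is trivial -/
theorem hHK_E : ∀ u, u ∈ HE → u ∈ sigE.ker → u = 1 := by
  intro u hu hk
  have h1 : sigH ⟨u, hu⟩ = 1 := by
    apply Subtype.ext
    rw [sigH_val]
    exact MonoidHom.mem_ker.1 hk
  have h2 : (⟨u, hu⟩ : ↥HE) = 1 := sigH_injective (by rw [h1, map_one])
  exact congrArg Subtype.val h2

theorem card_HE_le : Nat.card ↥HE ≤ 6048 := by
  rw [← card_L]
  exact Nat.card_le_card_of_injective sigH sigH_injective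

end Cfsg.Agent.Lib.Helper7.G23MM
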