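import Cfsg.Agent.Lib.Helper7.G23ME
import Cfsg.Agent.Lib.Helper7.G23MEW

/-! # The multiplier of the Chevalley group of type G2 over the field of three elements: checks of words on the 2106
points, file 1 (generated) -/

set_option autoImplicit false
set_option maxRecDepth 100000

namespace Cfsg.Agent.Lib.Helper7.G23MM

theorem shk_ax2_0_0 : shOK cw_ax2_0 2 0 1053 = true := by decide +kernel

theorem shk_ax2_0_1 : shOK cw_ax2_0 2 1053 1053 = true := by decide +kernel

theorem shk_ax2_1_0 : shOK cw_ax2_1 1 0 1053 = true := by decide +kernel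

theorem shk_ax2_1_1 : shOK cw_ax2_1 1 1053 1053 = true := by decide +kernel

theorem shk_ax2_2_0 : shOK cw_ax2_2 0 0 1053 = true := by decide +kernel

theorem shk_ax2_2_1 : shOK cw_ax2_2 0 1053 1053 = true := by decide +kernel

theorem shk_ax2_3_0 : shOK cw_ax2_3 0 0 1053 = true := by decide +kernel

theorem shk_ax2_3_1 : shOK cw_ax2_3 0 1053 1053 = true := by decide +kernel

theorem shk_ax2_4_0 : shOK cw_ax2_4 2 0 1053 = true := by decide +kernel

theorem shk_ax2_4_1 : shOK cw_ax2_4 2 1053 1053 = true := by decide +kernel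

theorem shk_ax2_5_0 : shOK cw_ax2_5 1 0 1053 = true := by decide +kernel

theorem shk_ax2_5_1 : shOK cw_ax2_5 1 1053 1053 = true := by decide +kernel

theorem shk_ax2_6_0 : shOK cw_ax2_6 1 0 1053 = true := by decide +kernel

theorem shk_ax2_6_1 : shOK cw_ax2_6 1 1053 1053 = true := by decide +kernel

theorem shk_ax2_7_0 : shOK cw_ax2_7 2 0 1053 = true := by decide +kernel

theorem shk_ax2_7_1 : shOK cw_ax2_7 2 1053 1053 = true := by decide +kernel

end Cfsg.Agent.Lib.Helper7.G23MM
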