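import Cfsg.Agent.Lib.Helper7.G23ME
import Cfsg.Agent.Lib.Helper7.G23MEW

/-! # The multiplier of the Chevalley group of type G2 over the field of three elements: checks of words on the 2106
points, file 2 (generated) -/

set_option autoImplicit false
set_option maxRecDepth 100000

namespace Cfsg.Agent.Lib.Helper7.G23MM

theorem fxk_ex2_0 : fxOK cw_ex2 0 1053 = true := by decide +kernel

theorem fxk_ex2_1 : fxOK cw_ex2 1053 1053 = true := by decide +kernel

theorem fxk_l1a_0 : fxOK cw_l1a 0 1053 = true := by decide +kernel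

theorem fxk_l1a_1 : fxOK cw_l1a 1053 1053 = true := by decide +kernel

theorem fxk_l1b_0 : fxOK cw_l1b 0 1053 = true := by decide +kernel

theorem fxk_l1b_1 : fxOK cw_l1b 1053 1053 = true := by decide +kernel

theorem fxk_ax1_0_0 : fxOK cw_ax1_0 0 1053 = true := by decide +kernel

theorem fxk_ax1_0_1 : fxOK cw_ax1_0 1053 1053 = true := by decide +kernel

theorem fxk_ax1_1_0 : fxOK cw_ax1_1 0 1053 = true := by decide +kernel

theorem fxk_ax1_1_1 : fxOK cw_ax1_1 1053 1053 = true := by decide +kernel

theorem fxk_ax1_2_0 : fxOK cw_ax1_2 0 1053 = true := by decide +kernel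

theorem fxk_ax1_2_1 : fxOK cw_ax1_2 1053 1053 = true := by decide +kernel

theorem fxk_ax1_3_0 : fxOK cw_ax1_3 0 1053 = true := by decide +kernel

theorem fxk_ax1_3_1 : fxOK cw_ax1_3 1053 1053 = true := by decide +kernel

theorem fxk_ax1_4_0 : fxOK cw_ax1_4 0 1053 = true := by decide +kernel

theorem fxk_ax1_4_1 : fxOK cw_ax1_4 1053 1053 = true := by decide +kernel

end Cfsg.Agent.Lib.Helper7.G23MM
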