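import Cfsg.Agent.Lib.Helper7.G23MEK0
import Cfsg.Agent.Lib.Helper7.G23MEK1
import Cfsg.Agent.Lib.Helper7.G23MEK2

/-! # The multiplier of the Chevalley group of type G2 over the field of three elements: the checks of the words on
the 2106 points put together (generated) -/

set_option autoImplicit false
set_option maxRecDepth 100000

namespace Cfsg.Agent.Lib.Helper7.G23MM

open Cfsg.Agent.Lib.Helper7.MG Cfsg.Agent.Lib.Helper7.HSMult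

/-- the given words of the table over `L` -/
def ax2W : ℕ → List ℕ
  | 0 => cw_ax2_0
  | 1 => cw_ax2_1
  | 2 => cw_ax2_2
  | 3 => cw_ax2_3
  | 4 => cw_ax2_4
  | 5 => cw_ax2_5
  | 6 => cw_ax2_6
  | 7 => cw_ax2_7
  | _ => []

/-- the given words of the table of `L` -/
def ax1W : ℕ → List ℕ
  | 0 => cw_ax1_0
  | 1 => cw_ax1_1
  | 2 => cw_ax1_2
  | 3 => cw_ax1_3
  | 4 => cw_ax1_4
  | _ => []

theorem ev5_ax2 : ∀ j, j < 8 → ∀ p, p < 2106 → ev5 (ax2W j) p = sh (chiL.getD j 0) p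
  | 0, _, _, hp => shOK_spec shk_ax2_0_0 shk_ax2_0_1 hp
  | 1, _, _, hp => shOK_spec shk_ax2_1_0 shk_ax2_1_1 hp
  | 2, _, _, hp => shOK_spec shk_ax2_2_0 shk_ax2_2_1 hp
  | 3, _, _, hp => shOK_spec shk_ax2_3_0 shk_ax2_3_1 hp
  | 4, _, _, hp => shOK_spec shk_ax2_4_0 shk_ax2_4_1 hp
  | 5, _, _, hp => shOK_spec shk_ax2_5_0 shk_ax2_5_1 hp
  | 6, _, _, hp => shOK_spec shk_ax2_6_0 shk_ax2_6_1 hp
  | 7, _, _, hp => shOK_spec shk_ax2_7_0 shk_ax2_7_1 hp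
  | j + 8, h, _, _ => absurd h (by omega)

theorem ev5_ax1 : ∀ j, j < 5 → ∀ p, p < 2106 → ev5 (ax1W j) p = p
  | 0, _, _, hp => fxOK_spec fxk_ax1_0_0 fxk_ax1_0_1 hp
  | 1, _, _, hp => fxOK_spec fxk_ax1_1_0 fxk_ax1_1_1 hp
  | 2, _, _, hp => fxOK_spec fxk_ax1_2_0 fxk_ax1_2_1 hp
  | 3, _, _, hp => fxOK_spec fxk_ax1_3_0 fxk_ax1_3_1 hp
  | 4, _, _, hp => fxOK_spec fxk_ax1_4_0 fxk_ax1_4_1 hp
  | j + 5, h, _, _ => absurd h (by omega)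

theorem lk5_sh : ∀ j, j < 8 → ∀ x, x < 6 → ∀ p, p < 2106 →
    lk5 x (sh (chiL.getD j 0) p) = sh (chiL.getD j 0) (lk5 x p)
  | 0, _, 0, _, _, hp => cenOK_spec cnk_0_2_0 hp
  | 0, _, 1, _, _, hp => cenOK_spec cnk_1_2_0 hp
  | 0, _, 2, _, _, hp => cenOK_spec cnk_2_2_0 hp
  | 0, _, 3, _, _, hp => cenOK_spec cnk_3_2_0 hp
  | 0, _, 4, _, _, hp => cenOK_spec cnk_4_2_0 hp
  | 0, _, 5, _, _, hp => cenOK_spec cnk_5_2_0 hp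
  | 1, _, 0, _, _, hp => cenOK_spec cnk_0_1_0 hp
  | 1, _, 1, _, _, hp => cenOK_spec cnk_1_1_0 hp
  | 1, _, 2, _, _, hp => cenOK_spec cnk_2_1_0 hp
  | 1, _, 3, _, _, hp => cenOK_spec cnk_3_1_0 hp
  | 1, _, 4, _, _, hp => cenOK_spec cnk_4_1_0 hp
  | 1, _, 5, _, _, hp => cenOK_spec cnk_5_1_0 hp
  | 2, _, 0, _, _, hp => cenOK_spec cnk_0_0_0 hp
  | 2, _, 1, _, _, hp => cenOK_spec cnk_1_0_0 hp
  | 2, _, 2, _, _, hp => cenOK_spec cnk_2_0_0 hp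
  | 2, _, 3, _, _, hp => cenOK_spec cnk_3_0_0 hp
  | 2, _, 4, _, _, hp => cenOK_spec cnk_4_0_0 hp
  | 2, _, 5, _, _, hp => cenOK_spec cnk_5_0_0 hp
  | 3, _, 0, _, _, hp => cenOK_spec cnk_0_0_0 hp
  | 3, _, 1, _, _, hp => cenOK_spec cnk_1_0_0 hp
  | 3, _, 2, _, _, hp => cenOK_spec cnk_2_0_0 hp
  | 3, _, 3, _, _, hp => cenOK_spec cnk_3_0_0 hp
  | 3, _, 4, _, _, hp => cenOK_spec cnk_4_0_0 hp
  | 3, _, 5, _, _, hp => cenOK_spec cnk_5_0_0 hp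
  | 4, _, 0, _, _, hp => cenOK_spec cnk_0_2_0 hp
  | 4, _, 1, _, _, hp => cenOK_spec cnk_1_2_0 hp
  | 4, _, 2, _, _, hp => cenOK_spec cnk_2_2_0 hp
  | 4, _, 3, _, _, hp => cenOK_spec cnk_3_2_0 hp
  | 4, _, 4, _, _, hp => cenOK_spec cnk_4_2_0 hp
  | 4, _, 5, _, _, hp => cenOK_spec cnk_5_2_0 hp
  | 5, _, 0, _, _, hp => cenOK_spec cnk_0_1_0 hp
  | 5, _, 1, _, _, hp => cenOK_spec cnk_1_1_0 hp
  | 5, _, 2, _, _, hp => cenOK_spec cnk_2_1_0 hp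
  | 5, _, 3, _, _, hp => cenOK_spec cnk_3_1_0 hp
  | 5, _, 4, _, _, hp => cenOK_spec cnk_4_1_0 hp
  | 5, _, 5, _, _, hp => cenOK_spec cnk_5_1_0 hp
  | 6, _, 0, _, _, hp => cenOK_spec cnk_0_1_0 hp
  | 6, _, 1, _, _, hp => cenOK_spec cnk_1_1_0 hp
  | 6, _, 2, _, _, hp => cenOK_spec cnk_2_1_0 hp
  | 6, _, 3, _, _, hp => cenOK_spec cnk_3_1_0 hp
  | 6, _, 4, _, _, hp => cenOK_spec cnk_4_1_0 hp
  | 6, _, 5, _, _, hp => cenOK_spec cnk_5_1_0 hp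
  | 7, _, 0, _, _, hp => cenOK_spec cnk_0_2_0 hp
  | 7, _, 1, _, _, hp => cenOK_spec cnk_1_2_0 hp
  | 7, _, 2, _, _, hp => cenOK_spec cnk_2_2_0 hp
  | 7, _, 3, _, _, hp => cenOK_spec cnk_3_2_0 hp
  | 7, _, 4, _, _, hp => cenOK_spec cnk_4_2_0 hp
  | 7, _, 5, _, _, hp => cenOK_spec cnk_5_2_0 hp
  | _, _, x + 6, h, _, _ => absurd h (by omega)
  | j + 8, h, _, _, _, _ => absurd h (by omega)

end Cfsg.Agent.Lib.Helper7.G23MM
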