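import Cfsg.Agent.Lib.Helper7.G23ME
import Cfsg.Agent.Lib.Helper7.G23MEW

/-! # The multiplier of the Chevalley group of type G2 over the field of three elements: checks of words on the 2106
points, file 0 (generated) -/

set_option autoImplicit false
set_option maxRecDepth 100000

namespace Cfsg.Agent.Lib.Helper7.G23MM

theorem cnk_0_0_0 : cenOK 0 0 0 2106 = true := by decide +kernel

theorem cnk_1_0_0 : cenOK 1 0 0 2106 = true := by decide +kernel

theorem cnk_2_0_0 : cenOK 2 0 0 2106 = true := by decide +kernel

theorem cnk_3_0_0 : cenOK 3 0 0 2106 = true := by decide +kernel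

theorem cnk_4_0_0 : cenOK 4 0 0 2106 = true := by decide +kernel

theorem cnk_5_0_0 : cenOK 5 0 0 2106 = true := by decide +kernel

theorem cnk_0_1_0 : cenOK 0 1 0 2106 = true := by decide +kernel

theorem cnk_1_1_0 : cenOK 1 1 0 2106 = true := by decide +kernel

theorem cnk_2_1_0 : cenOK 2 1 0 2106 = true := by decide +kernel

theorem cnk_3_1_0 : cenOK 3 1 0 2106 = true := by decide +kernel

theorem cnk_4_1_0 : cenOK 4 1 0 2106 = true := by decide +kernel

theorem cnk_5_1_0 : cenOK 5 1 0 2106 = true := by decide +kernel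

theorem cnk_0_2_0 : cenOK 0 2 0 2106 = true := by decide +kernel

theorem cnk_1_2_0 : cenOK 1 2 0 2106 = true := by decide +kernel

theorem cnk_2_2_0 : cenOK 2 2 0 2106 = true := by decide +kernel

theorem cnk_3_2_0 : cenOK 3 2 0 2106 = true := by decide +kernel

theorem cnk_4_2_0 : cenOK 4 2 0 2106 = true := by decide +kernel

theorem cnk_5_2_0 : cenOK 5 2 0 2106 = true := by decide +kernel

end Cfsg.Agent.Lib.Helper7.G23MM
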