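import Cfsg.Agent.Lib.Helper7.G23MEA
import Cfsg.Agent.Lib.Helper6.ChevRing
import Cfsg.Prelude.Def_KGroupFacts

/-!
# The multiplier of the Chevalley group of type G2 over the field of three elements is cyclic of order three

The group generated by the pairs is a stem extension of the group whose kernel has at least three elements; together
with the bound for the kernels of all stem extensions, applied also to this one, this gives the multiplier.  The
statement is carried over to the Chevalley group of type G2 over any field of three elements.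
-/

set_option autoImplicit false
set_option maxRecDepth 100000

namespace Cfsg.Agent.Lib.Helper7.G23MM

open Cfsg Cfsg.Agent.Lib.Helper7.MG Cfsg.Agent.Lib.Helper7.HSMult Cfsg.Agent.Lib.Helper7.G23B
open scoped IsMulCommutative commutatorElement

/-! ### the kernel of the projection -/

theorem wd_gE_mem_ker {i : ℕ} (hi : i < 70) : VCert.wd gE (G23MT.cert.W i) ∈ sigE.ker := by
  rw [MonoidHom.mem_ker, sigE_wd, wd_lK_W hi]

theorem wd_gE_mem_HE : ∀ w : List ℕ, (∀ x ∈ w, x < 4) → VCert.wd gE w ∈ HE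
  | [], _ => Subgroup.one_mem _
  | x :: w, h => by
    rw [VCert.wd_cons]
    exact Subgroup.mul_mem _ (gE_mem_HE (h x List.mem_cons_self))
      (wd_gE_mem_HE w fun y hy => h y (List.mem_cons_of_mem _ hy))

theorem hW0_E : ∀ i, i < G23MT.cert.nW → G23MT.cert.wT i = 0 →
    VCert.wd gE (G23MT.cert.W i) = ((G23MT.cert.ek zE i : Subgroup.center ↥GE) : ↥GE) := by
  intro i hi hT
  rcases G23MT.chk_wT i hi hT with ⟨h4, h0⟩ | rfl | ⟨j, hj, rfl⟩
  · rw [VCert.ek, G23MT.cert.kap_one _ h0]
    apply hHK_E _ (wd_gE_mem_HE _ fun x hx => by simpa [Nat.blt] using List.all_eq_true.1 h4 x hx)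
    exact wd_gE_mem_ker hi
  · rw [VCert.ek, G23MT.cert.kap_one _ G23MT.chk_ex, G23MT.chk_W3]
    exact wd_gE_ex2
  · rw [VCert.ek, G23MT.cert.kap_unit _ hj (G23MT.chk_ax j hj)]
    exact wd_gE_ax2 j hj

theorem hgen_E : ∀ y : ↥GE, ∃ u : List ℕ, (∀ x ∈ u, x < G23MT.cert.g) ∧ y = (u.map gE).prod := by
  apply MG.exists_word_of_closure gE 6 (fun x => Nat.xor x 1) _ closure_gE
  intro x hx
  refine ⟨?_, gE_iv x hx⟩
  have : x = 0 ∨ x = 1 ∨ x = 2 ∨ x = 3 ∨ x = 4 ∨ x = 5 := by omega
  rcases this with rfl | rfl | rfl | rfl | rfl | rfl <;> decide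

/-- **the kernel of the projection is generated by the central elements of the table** -/
theorem ker_sigE : sigE.ker = Zc zE 8 := by
  refine ker_eq_Zc_of_sub sigE G23MT.cert gE zE HE 6048 sigE_surj (by rw [card_G]; rfl) (by decide) (by norm_num)
    hHK_E card_HE_le ?_ (fun j _ => zE_mem_ker j) hgen_E (by decide) (by decide) (fun x hx => gE_iv x hx)
    (fun i hi => wd_gE_mem_ker hi) hW0_E G23MT.cert_all G23MT.cert_wall
  intro x hx
  exact gE_mem_HE (lt_four_of_sub hx)

/-! ### the extension is perfect -/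

theorem gH_wd_eq_one {w : List ℕ} (h : matOK4 w = true) : VCert.wd gH w = 1 := by
  have h1 : sigH (VCert.wd gH w) = 1 := by
    rw [sigH_wd]
    exact wd_lK1_eq_one h
  exact sigH_injective (by rw [h1, map_one])

theorem HE_perfect : commutator ↥HE = ⊤ := by
  have h2 : gH 0 ^ 2 = 1 := by
    have h := gH_wd_eq_one chk_u2
    rw [wd_wpow, VCert.wd_cons, VCert.wd_nil, mul_one] at h
    exact h
  have h7 : (gH 0 * gH 2) ^ 7 = 1 := by
    have h := gH_wd_eq_one chk_uv7
    rw [wd_wpow, VCert.wd_cons, VCert.wd_cons, VCert.wd_nil, mul_one] at h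
    exact h
  have h6 : (gH 0 * gH 2 * gH 2) ^ 6 = 1 := by
    have h := gH_wd_eq_one chk_uvv6
    rw [wd_wpow, VCert.wd_cons, VCert.wd_cons, VCert.wd_cons, VCert.wd_nil, mul_one, ← mul_assoc] at h
    exact h
  have hcl : Subgroup.closure {gH 0, gH 2} = (⊤ : Subgroup ↥HE) := by
    rw [eq_top_iff, ← closure_gH, Subgroup.closure_le]
    rintro _ ⟨x, hx, rfl⟩
    have hx' : x < 4 := hx
    have : x = 0 ∨ x = 1 ∨ x = 2 ∨ x = 3 := by omega
    rcases this with rfl | rfl | rfl | rfl
    · exact Subgroup.subset_closure (by simp)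
    · have : gH 1 = (gH 0)⁻¹ := gH_iv (x := 0) (by norm_num)
      rw [SetLike.mem_coe, this]
      exact inv_mem (Subgroup.subset_closure (by simp))
    · exact Subgroup.subset_closure (by simp)
    · have : gH 3 = (gH 2)⁻¹ := gH_iv (x := 2) (by norm_num)
      rw [SetLike.mem_coe, this]
      exact inv_mem (Subgroup.subset_closure (by simp))
  exact perfect_of_two_words hcl h2 gH_two_pow h7 h6 (by norm_num) (by norm_num)

theorem HE_le_commutator : HE ≤ commutator ↥GE := by
  have h1 : (commutator ↥HE).map HE.subtype ≤ commutator ↥GE := by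
    rw [commutator_def, Subgroup.map_commutator, commutator_def]
    exact Subgroup.commutator_mono le_top le_top
  rw [HE_perfect, ← MonoidHom.range_eq_map, Subgroup.range_subtype] at h1
  exact h1

theorem fxk_t6_0 : fxOK (wpow 6 [4]) 0 1053 = true := by decide +kernel

theorem fxk_t6_1 : fxOK (wpow 6 [4]) 1053 1053 = true := by decide +kernel

theorem lK_four_sq : lK 4 ^ 2 = 1 := by
  have h := wd_lK_ax2 0
  have e : ax2W 0 = [4, 4] := rfl
  rw [e, VCert.wd_cons, VCert.wd_cons, VCert.wd_nil, mul_one] at h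
  rw [pow_two, h]

theorem gE_four_pow : gE 4 ^ 6 = 1 := by
  have h := wd_gE_eq (w := wpow 6 [4]) (w' := []) (fun p hp => by
      rw [fxOK_spec fxk_t6_0 fxk_t6_1 hp, ev5_nil]) (by
      rw [wd_wpow, VCert.wd_cons, VCert.wd_nil, mul_one, show 6 = 2 * 3 from rfl, pow_mul, lK_four_sq, one_pow])
  rw [wd_wpow, VCert.wd_cons, VCert.wd_nil, mul_one] at h
  exact h

theorem commutator_GE : commutator ↥GE = ⊤ := by
  set K := commutator ↥GE with hK
  have hv : gE 2 ∈ K := HE_le_commutator (gE_mem_HE (by norm_num))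
  -- the image of `t` in the quotient by the derived subgroup
  set π := QuotientGroup.mk' K with hπ
  have h7 : (gE 4 * gE 2) ^ 7 = 1 := by
    have h := wd_gE_ex2
    rw [wd_wpow, G23MT.yW, VCert.wd_cons, VCert.wd_cons, VCert.wd_nil, mul_one] at h
    exact h
  have e2 : π (gE 2) = 1 := (QuotientGroup.eq_one_iff _).2 hv
  have e7 : π (gE 4) ^ 7 = 1 := by
    have := congrArg π h7
    rw [map_pow, map_mul, e2, mul_one, map_one] at this
    exact this
  have e6 : π (gE 4) ^ 6 = 1 := by rw [← map_pow, gE_four_pow, map_one]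
  have et : π (gE 4) = 1 := by
    have : π (gE 4) = π (gE 4) ^ 7 * (π (gE 4) ^ 6)⁻¹ := by group
    rw [this, e7, e6, inv_one, mul_one]
  have ht : gE 4 ∈ K := (QuotientGroup.eq_one_iff _).1 et
  rw [eq_top_iff, ← closure_gE, Subgroup.closure_le]
  rintro _ ⟨x, hx, rfl⟩
  have hx' : x < 6 := hx
  have : x = 0 ∨ x = 1 ∨ x = 2 ∨ x = 3 ∨ x = 4 ∨ x = 5 := by omega
  rcases this with rfl | rfl | rfl | rfl | rfl | rfl
  · exact HE_le_commutator (gE_mem_HE (by norm_num))
  · exact HE_le_commutator (gE_mem_HE (by norm_num))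
  · exact hv
  · exact HE_le_commutator (gE_mem_HE (by norm_num))
  · exact ht
  · have : gE 5 = (gE 4)⁻¹ := gE_iv 4 (by norm_num)
    rw [SetLike.mem_coe, this]
    exact inv_mem ht

/-- **the group generated by the pairs is a stem extension of the group** -/
theorem stem_GE : IsStemExtension sigE := by
  refine ⟨sigE_surj, ?_, ?_⟩
  · rw [ker_sigE]
    exact Zc_le_center zE 8
  · rw [commutator_GE]
    exact le_top

/-! ### the order of the kernel -/

/-- the words of the kernel -/
def kw (i : ℕ) : List ℕ := wpow i (ax2W 0)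

theorem wd_gE_kw_mem (i : ℕ) : VCert.wd gE (kw i) ∈ sigE.ker := by
  rw [MonoidHom.mem_ker, sigE_wd, kw, wd_wpow, wd_lK_ax2, one_pow]

theorem chk_sig : ∀ i, i < 3 → ev5 (kw i) 0 = sigL.getD i 0 := by
  decide +kernel

theorem chk_nodup : ∀ i, i < 3 → ∀ j, j < 3 → sigL.getD i 0 = sigL.getD j 0 → i = j := by decide +kernel

theorem card_ker_ge : 3 ≤ Nat.card ↥sigE.ker := by
  have hinj : Function.Injective (fun i : Fin 3 => (⟨VCert.wd gE (kw i.val), wd_gE_kw_mem i.val⟩ : ↥sigE.ker)) := by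
    intro i j h
    have h1 : VCert.wd gE (kw i.val) = VCert.wd gE (kw j.val) := congrArg Subtype.val h
    have e : sigL.getD i.val 0 = sigL.getD j.val 0 := by
      rw [← chk_sig i.val i.2, ← chk_sig j.val j.2, ev5_of_wd_gE_eq h1 (p := 0) (by norm_num)]
    exact Fin.ext (chk_nodup i.val i.2 j.val j.2 e)
  have := Nat.card_le_card_of_injective _ hinj
  rwa [Nat.card_fin] at this

theorem card_zmod3 : Nat.card (Multiplicative (ZMod 3)) = 3 := by
  show Nat.card (ZMod 3) = 3
  rw [Nat.card_eq_fintype_card, ZMod.card]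

/-- **the kernel of the stem extension is cyclic of order three** -/
theorem ker_GE : Nonempty (↥sigE.ker ≃* Multiplicative (ZMod 3)) := by
  obtain ⟨hs, hc, hd⟩ := stem_GE
  obtain ⟨π, hπ⟩ := G23MT.exists_surj_of_stem sigE hs hc hd
  exact nonempty_equiv_of_surj_of_card_le π hπ (by rw [card_zmod3]; exact card_ker_ge)

/-! ### the Chevalley group over any field of three elements -/

/-- **the Schur multiplier of the Chevalley group of type G2 over a field of three elements is cyclic of order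
three** -/
theorem multiplier_g23 {F : Type*} [Field F] [Fintype F] (hF : Fintype.card F = 3) :
    Cfsg.HasCyclicSchurMultiplier ↥(Cfsg.Lie.chevG2.group F) 3 := by
  obtain ⟨e0⟩ : Nonempty (F ≃+* F3c) := ⟨FiniteField.ringEquivOfCardEq (by rw [hF, F3c.card])⟩
  obtain ⟨e⟩ : Nonempty (↥(Cfsg.Lie.chevG2.group F) ≃* G) :=
    ⟨Cfsg.Agent.Lib.Helper6.ChevRing.groupEquiv Cfsg.Lie.chevG2 e0⟩
  constructor
  · obtain ⟨iso⟩ := ker_GE
    obtain ⟨h1, ⟨iso'⟩⟩ := stem_comp_equiv (MulEquiv.ulift (α := ↥GE)) e.symm sigE stem_GE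
    exact ⟨ULift ↥GE, inferInstance, inferInstance, _, h1, ⟨iso'.trans iso⟩⟩
  · intro Γ _ _ σ hσ
    have hk : ∀ x, x ∈ (e.toMonoidHom.comp σ).ker ↔ x ∈ σ.ker := by
      intro x
      rw [MonoidHom.mem_ker, MonoidHom.mem_ker]
      show e (σ x) = 1 ↔ σ x = 1
      exact MulEquiv.map_eq_one_iff e
    obtain ⟨π, hπ⟩ := G23MT.exists_surj_of_stem (e.toMonoidHom.comp σ) (e.surjective.comp hσ.1)
      (fun x hx => hσ.2.1 ((hk x).1 hx)) (fun x hx => hσ.2.2 ((hk x).1 hx))
    have hle : (e.toMonoidHom.comp σ).ker ≤ σ.ker := fun x hx => (hk x).1 hx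
    refine ⟨(Subgroup.inclusion hle).comp π, ?_⟩
    intro y
    obtain ⟨a, ha⟩ := hπ ⟨y.1, (hk y.1).2 y.2⟩
    refine ⟨a, ?_⟩
    apply Subtype.ext
    show ((π a : ↥(e.toMonoidHom.comp σ).ker) : Γ) = y.1
    rw [ha]

end Cfsg.Agent.Lib.Helper7.G23MM
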