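import Cfsg.Agent.Lib.Helper7.G23MTT0
import Cfsg.Agent.Lib.Helper7.G23MTR
import Cfsg.Agent.Lib.Helper7.MGenC

/-! # The multiplier of the Chevalley group of type G2 over the field of three elements, the table over L: the certificate of the enumeration of the cosets (generated) -/

set_option autoImplicit false

namespace Cfsg.Agent.Lib.Helper7.G23MT

open Cfsg.Agent.Lib.Helper7.MG Cfsg.Agent.Lib.Helper7.HSMult

/-- the part of the table that contains a row -/
noncomputable def rowSel (a : ℕ) : ℕ := (cond (Nat.beq (Nat.land a 1) 0) (cond (Nat.beq (Nat.land a 2) 0) rl0 rl2) (cond (Nat.beq (Nat.land a 2) 0) rl1 rl3))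

/-- a row of the table -/
noncomputable def rowOf (a : ℕ) : ℕ :=
  strictN a fun a' => Nat.shiftRight (rowSel a') (Nat.mul 1308 (Nat.shiftRight a' 2))

/-- a word -/
noncomputable def wordOf (i : ℕ) : List ℕ :=
  strictN (Nat.land (Nat.shiftRight relP (Nat.mul 296 i)) 127314748520905380391777855525586135065716774604121015664758778084648831235208544136462335) fun v =>
    unp (Nat.land v 255) (Nat.shiftRight v 8)

/-- the certificate -/
noncomputable def cert : VCert where
  n := 702
  g := 6
  k := 8
  nW := 70
  B := 2048
  iv := fun x => Nat.xor x 1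
  sub := fun x => Nat.beq x 0 || Nat.beq x 1 || Nat.beq x 2 || Nat.beq x 3
  sl := fun a x => Nat.land (Nat.shiftRight (rowOf a) (Nat.mul 214 x)) 26328072917139296674479506920917608079723773850137277813577744383
  pr := fun a => Nat.land (Nat.shiftRight (rowOf a) 1284) 16777215
  W := wordOf
  rhs := fun i => Nat.land (Nat.shiftRight rhsP (Nat.mul 160 i)) 1461501637330902918203684832716283019655932542975
  wT := fun i => Nat.land (Nat.shiftRight wtaP (Nat.mul 32 i)) 4095
  wA := fun i => Nat.land (Nat.shiftRight wtaP (Nat.add (Nat.mul 32 i) 12)) 1048575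

/-- the check of the rows from `lo` to `lo + k` -/
noncomputable def rowsOK (lo k : ℕ) : Bool := allN k fun i => allN 6 fun x => cert.slotOK (Nat.add lo i) x

/-- the check of the words -/
noncomputable def wordsOK : Bool := allN 70 fun i => cert.wordOK i

end Cfsg.Agent.Lib.Helper7.G23MT
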