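import Cfsg.Agent.Lib.Helper7.G24BaseD
import Cfsg.Agent.Lib.Helper7.MGenG
import Cfsg.Agent.Lib.Helper7.MGenE
import Cfsg.Agent.Lib.Helper6.SuzE6Simple
import Cfsg.Agent.Lib.Helper6.CoxLift

/-!
# The presented group of type G2 over the field of four elements as a group of permutations of 416 points, and six
letters in it

The six involutions of the presentation act on 416 points; the presented group is simple, so this action is
faithful, and a word in the generators is trivial as soon as it fixes all the points.  The six letters are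
`u = adcdf`, `v = abcbdef`, `t = b` and their inverses; `u` and `v` generate a subgroup `L`, and the six letters
generate the group.
-/

set_option autoImplicit false
set_option maxRecDepth 100000

namespace Cfsg.Agent.Lib.Helper7.G24B

open Cfsg Cfsg.Spor Cfsg.Agent.Lib.Helper7.MG Cfsg.Agent.Lib.Helper7.HSMult
open Cfsg.Agent.Lib.Helper6.TC Cfsg.Agent.Lib.Helper6.SuzESub Cfsg.Agent.Lib.Helper6

/-! ### the six involutions on the 416 points -/

/-- the image of one of the 416 points under one of the six involutions -/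
def lkB : ℕ → ℕ → ℕ
  | 0, p => Nat.land (Nat.shiftRight tbA (Nat.mul 16 p)) 65535
  | 1, p => Nat.land (Nat.shiftRight tbB (Nat.mul 16 p)) 65535
  | 2, p => Nat.land (Nat.shiftRight tbC (Nat.mul 16 p)) 65535
  | 3, p => Nat.land (Nat.shiftRight tbD (Nat.mul 16 p)) 65535
  | 4, p => Nat.land (Nat.shiftRight tbE (Nat.mul 16 p)) 65535
  | 5, p => Nat.land (Nat.shiftRight tbF (Nat.mul 16 p)) 65535
  | _, p => p

theorem lkB_ge {x : ℕ} (hx : 6 ≤ x) (p : ℕ) : lkB x p = p := by
  obtain ⟨y, rfl⟩ : ∃ y, x = y + 6 := ⟨x - 6, by omega⟩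
  rfl

theorem chk_invB : allN 6 (fun x => allN 416 fun p =>
    Nat.blt (lkB x p) 416 && Nat.beq (lkB x (lkB x p)) p) = true := by decide +kernel

theorem hhB (x p : ℕ) (hp : p < 416) : lkB x p < 416 ∧ lkB x (lkB x p) = p := by
  rcases Nat.lt_or_ge x 6 with hx | hx
  · have h := chk_invB
    rw [allN_iff] at h
    have h1 := h x hx
    rw [allN_iff] at h1
    have h2 := h1 p hp
    rw [Bool.and_eq_true] at h2
    exact ⟨by simpa [Nat.blt] using h2.1, Nat.eq_of_beq_eq_true h2.2⟩
  · rw [lkB_ge hx, lkB_ge hx]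
    exact ⟨hp, rfl⟩

/-- the involutions as permutations of the 416 points -/
def pmB (x : ℕ) : Equiv.Perm (Fin 416) := permOf 416 (lkB x) (lkB x) (hhB x) (hhB x)

theorem pmB_val (x : ℕ) (p : Fin 416) : (pmB x p).val = lkB x p.val := rfl

theorem pmB_mul_self (x : ℕ) : pmB x * pmB x = 1 := by
  apply Equiv.ext
  intro p
  apply Fin.ext
  rw [Equiv.Perm.mul_apply, pmB_val, pmB_val]
  exact (hhB x p.val p.2).2

/-- the image of one of the 416 points under a word in the six involutions -/
def evB : List ℕ → ℕ → ℕ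
  | [], p => p
  | x :: w, p => lkB x (evB w p)

theorem wd_pmB_val : ∀ (w : List ℕ) (p : Fin 416), ((VCert.wd pmB w) p).val = evB w p.val
  | [], _ => rfl
  | x :: w, p => by
    rw [VCert.wd_cons, Equiv.Perm.mul_apply, pmB_val, wd_pmB_val w p]
    rfl

theorem wd_pmB_eq {w w' : List ℕ} (h : ∀ p, p < 416 → evB w p = evB w' p) : VCert.wd pmB w = VCert.wd pmB w' := by
  apply Equiv.ext
  intro p
  apply Fin.ext
  rw [wd_pmB_val, wd_pmB_val]
  exact h p.val p.2

theorem evB_append : ∀ (w w' : List ℕ) (p : ℕ), evB (w ++ w') p = evB w (evB w' p)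
  | [], _, _ => rfl
  | x :: w, w', p => by
    show lkB x (evB (w ++ w') p) = lkB x (evB w (evB w' p))
    rw [evB_append w w' p]

/-! ### the homomorphism from the presented group -/

/-- the images of the generators -/
def fgenB (a : E6.Gen) : Equiv.Perm (Fin 416) := pmB (SuzE6TC.code a)

theorem code_lt6 (a : E6.Gen) : SuzE6TC.code a < 6 := by
  cases a <;> decide

theorem fgenB_gen {x : ℕ} (hx : x < 6) : fgenB (SuzE6TC.gen x) = pmB x := by
  interval_cases x <;> rfl

theorem chk_relsB : (coxWordsL E6.edges SuzE6TC.gen 6 ++ SuzE6TC.extraWords).all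
    (fun w => (w.all fun x => decide (x < 6)) && allN 416 fun p => Nat.beq (evB w p) p) = true := by
  decide +kernel

theorem word_eq_oneB {w : List ℕ}
    (hw : w ∈ coxWordsL E6.edges SuzE6TC.gen 6 ++ SuzE6TC.extraWords) :
    (w.map fun x => fgenB (SuzE6TC.gen x)).prod = 1 := by
  have h0 := List.all_eq_true.1 chk_relsB w hw
  rw [Bool.and_eq_true] at h0
  obtain ⟨h2, h1⟩ := h0
  have h3 : w.map (fun x => fgenB (SuzE6TC.gen x)) = w.map pmB :=
    List.map_congr_left fun x hx => fgenB_gen (of_decide_eq_true (List.all_eq_true.1 h2 x hx))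
  rw [h3]
  rw [allN_iff] at h1
  have h4 := wd_pmB_eq (w := w) (w' := []) fun p hp => Nat.eq_of_beq_eq_true (h1 p hp)
  exact h4

theorem lift_relB : ∀ r ∈ coxRelators E6.edges ∪ {r | r ∈ E6.extra}, FreeGroup.lift fgenB r = 1 :=
  CoxLift.lift_eq_one_of_words SuzE6TC.gen SuzE6TC.code 6 SuzE6TC.extraWords
    (by intro a; cases a <;> exact ⟨by decide, rfl⟩) fgenB
    (SuzE6TC.extra_iff fgenB fun a => pmB_mul_self _) fun _ hw => word_eq_oneB hw

/-- the homomorphism from the presented group to the group of permutations -/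
noncomputable def φB : E6 →* Equiv.Perm (Fin 416) := PresentedGroup.toGroup lift_relB

theorem φB_of (a : E6.Gen) : φB (PresentedGroup.of a) = fgenB a := PresentedGroup.toGroup.of _

/-- the generators of the presented group, numbered -/
noncomputable def pgen (x : ℕ) : E6 := PresentedGroup.of (SuzE6TC.gen x)

theorem φB_pgen {x : ℕ} (hx : x < 6) : φB (pgen x) = pmB x := by
  rw [pgen, φB_of, fgenB_gen hx]

theorem chk_moveB : lkB 0 2 ≠ 2 := by decide +kernel

instance instSimpleE6 : IsSimpleGroup E6 := SuzE6Simple.main.1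

theorem card_E6 : Nat.card E6 = 251596800 := SuzE6Simple.main.2

instance instFiniteE6 : Finite E6 := Nat.finite_of_card_ne_zero (by rw [card_E6]; norm_num)

theorem φB_injective : Function.Injective φB := by
  rw [← MonoidHom.ker_eq_bot_iff]
  rcases (φB.normal_ker).eq_bot_or_eq_top with h | h
  · exact h
  · exfalso
    have h1 : pgen 0 ∈ φB.ker := by rw [h]; exact Subgroup.mem_top _
    rw [MonoidHom.mem_ker, φB_pgen (by norm_num)] at h1
    have h2 : ((pmB 0) ⟨2, by norm_num⟩).val = ((1 : Equiv.Perm (Fin 416)) ⟨2, by norm_num⟩).val := by rw [h1]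
    rw [pmB_val] at h2
    exact chk_moveB h2

/-- words in the six involutions, all of whose letters are among the six -/
theorem φB_wd_pgen : ∀ w : List ℕ, (∀ x ∈ w, x < 6) → φB (VCert.wd pgen w) = VCert.wd pmB w
  | [], _ => map_one φB
  | x :: w, h => by
    rw [VCert.wd_cons, VCert.wd_cons, map_mul, φB_pgen (h x List.mem_cons_self),
      φB_wd_pgen w fun y hy => h y (List.mem_cons_of_mem _ hy)]

/-- **two words in the six involutions with the same images of all the points have the same value** -/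
theorem wd_pgen_eq {w w' : List ℕ} (hw : ∀ x ∈ w, x < 6) (hw' : ∀ x ∈ w', x < 6)
    (h : ∀ p, p < 416 → evB w p = evB w' p) : VCert.wd pgen w = VCert.wd pgen w' := by
  apply φB_injective
  rw [φB_wd_pgen w hw, φB_wd_pgen w' hw']
  exact wd_pmB_eq h

/-! ### the six letters -/

/-- the six letters as words in the six involutions -/
def lKw : ℕ → List ℕ
  | 0 => [0, 3, 2, 3, 5]
  | 1 => [5, 3, 2, 3, 0]
  | 2 => [0, 1, 2, 1, 3, 4, 5]
  | 3 => [5, 4, 3, 1, 2, 1, 0]
  | 4 => [1]
  | 5 => [1]
  | _ => []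

theorem lKw_lt : ∀ x, ∀ y ∈ lKw x, y < 6
  | 0, y, h => by simp only [lKw, List.mem_cons, List.not_mem_nil, or_false] at h; omega
  | 1, y, h => by simp only [lKw, List.mem_cons, List.not_mem_nil, or_false] at h; omega
  | 2, y, h => by simp only [lKw, List.mem_cons, List.not_mem_nil, or_false] at h; omega
  | 3, y, h => by simp only [lKw, List.mem_cons, List.not_mem_nil, or_false] at h; omega
  | 4, y, h => by simp only [lKw, List.mem_cons, List.not_mem_nil, or_false] at h; omega
  | 5, y, h => by simp only [lKw, List.mem_cons, List.not_mem_nil, or_false] at h; omega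
  | _ + 6, y, h => by simp [lKw] at h

/-- the six letters in the presented group -/
noncomputable def lK (x : ℕ) : E6 := VCert.wd pgen (lKw x)

theorem lK_of_ge {x : ℕ} (hx : 6 ≤ x) : lK x = 1 := by
  obtain ⟨y, rfl⟩ : ∃ y, x = y + 6 := ⟨x - 6, by omega⟩
  rfl

/-- a word in the six letters as a word in the six involutions -/
def expW : List ℕ → List ℕ
  | [] => []
  | x :: w => lKw x ++ expW w

theorem expW_lt : ∀ w : List ℕ, ∀ y ∈ expW w, y < 6
  | [], y, h => by simp [expW] at h
  | x :: w, y, h => by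
    rw [expW, List.mem_append] at h
    rcases h with h | h
    · exact lKw_lt x y h
    · exact expW_lt w y h

theorem wd_lK_expW : ∀ w : List ℕ, VCert.wd lK w = VCert.wd pgen (expW w)
  | [] => rfl
  | x :: w => by
    rw [VCert.wd_cons, expW, VCert.wd_append, wd_lK_expW w]
    rfl

/-- the image of one of the 416 points under a word in the six letters -/
def ev6 (w : List ℕ) (p : ℕ) : ℕ := evB (expW w) p

/-- **two words in the six letters with the same images of all the points have the same value** -/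
theorem wd_lK_eq {w w' : List ℕ} (h : ∀ p, p < 416 → ev6 w p = ev6 w' p) : VCert.wd lK w = VCert.wd lK w' := by
  rw [wd_lK_expW, wd_lK_expW]
  exact wd_pgen_eq (expW_lt w) (expW_lt w') h

/-- the check that a word in the six letters fixes all the points -/
def triv6 (w : List ℕ) : Bool := allN 416 fun p => Nat.beq (ev6 w p) p

theorem wd_lK_eq_one {w : List ℕ} (h : triv6 w = true) : VCert.wd lK w = 1 := by
  rw [triv6, allN_iff] at h
  exact wd_lK_eq (w := w) (w' := []) fun p hp => Nat.eq_of_beq_eq_true (h p hp)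

theorem chk_iv6 : ∀ x, x < 6 → triv6 [x, Nat.xor x 1] = true := by decide +kernel

theorem lK_iv {x : ℕ} (hx : x < 6) : lK (Nat.xor x 1) = (lK x)⁻¹ := by
  have h := wd_lK_eq_one (chk_iv6 x hx)
  rw [VCert.wd_cons, VCert.wd_cons, VCert.wd_nil, mul_one] at h
  exact (eq_inv_of_mul_eq_one_right h)

/-! ### the six letters generate the group -/

/-- the words for the six involutions in the six letters -/
def wG : ℕ → List ℕ
  | 0 => wG0
  | 1 => wG1
  | 2 => wG2
  | 3 => wG3
  | 4 => wG4
  | 5 => wG5
  | _ => []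

theorem chk_wG : (allN 6 fun g => allN 416 fun p => Nat.beq (ev6 (wG g) p) (evB [g] p)) = true := by
  decide +kernel

theorem pgen_eq {g : ℕ} (hg : g < 6) : pgen g = VCert.wd lK (wG g) := by
  have h := chk_wG
  rw [allN_iff] at h
  have h0 := h g hg
  rw [allN_iff] at h0
  have h1 : VCert.wd pgen (expW (wG g)) = VCert.wd pgen [g] :=
    wd_pgen_eq (expW_lt (wG g)) (by intro x hx; simp only [List.mem_cons, List.not_mem_nil, or_false] at hx; omega)
      fun p hp => Nat.eq_of_beq_eq_true (h0 p hp)
  rw [wd_lK_expW, h1, VCert.wd_cons, VCert.wd_nil, mul_one]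

theorem pgen_mul_self {x : ℕ} (hx : x < 6) : pgen x * pgen x = 1 := by
  apply φB_injective
  rw [map_mul, φB_pgen hx, pmB_mul_self, map_one]

theorem wd_lK_mem (S : Subgroup E6) (hS : ∀ x, x < 6 → lK x ∈ S) : ∀ w : List ℕ, VCert.wd lK w ∈ S
  | [] => S.one_mem
  | x :: w => by
    rw [VCert.wd_cons]
    refine S.mul_mem ?_ (wd_lK_mem S hS w)
    rcases Nat.lt_or_ge x 6 with h | h
    · exact hS x h
    · rw [lK_of_ge h]; exact S.one_mem

theorem closure_lK : Subgroup.closure (lK '' Set.Iio 6) = ⊤ := by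
  set S := Subgroup.closure (lK '' Set.Iio 6) with hS
  have hm : ∀ x, x < 6 → lK x ∈ S := fun x hx => Subgroup.subset_closure ⟨x, hx, rfl⟩
  have hg : ∀ g, g < 6 → pgen g ∈ S := fun g hg => by
    rw [pgen_eq hg]; exact wd_lK_mem S hm (wG g)
  rw [eq_top_iff, ← PresentedGroup.closure_range_of, Subgroup.closure_le]
  rintro _ ⟨a, rfl⟩
  cases a
  · exact hg 0 (by norm_num)
  · exact hg 1 (by norm_num)
  · exact hg 2 (by norm_num)
  · exact hg 3 (by norm_num)
  · exact hg 4 (by norm_num)
  · exact hg 5 (by norm_num)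

/-! ### the subgroup generated by the first two letters and their inverses -/

/-- the subgroup `L` generated by `u` and `v` -/
noncomputable def L : Subgroup E6 := Subgroup.closure (lK '' Set.Iio 4)

theorem lK_mem_L {x : ℕ} (hx : x < 4) : lK x ∈ L := Subgroup.subset_closure ⟨x, hx, rfl⟩

/-- the first four letters in `L` -/
noncomputable def lK1 (x : ℕ) : ↥L := if h : x < 4 then ⟨lK x, lK_mem_L h⟩ else 1

theorem lK1_val {x : ℕ} (hx : x < 4) : (lK1 x : E6) = lK x := by
  rw [lK1, dif_pos hx]

theorem lK1_of_ge {x : ℕ} (hx : 4 ≤ x) : lK1 x = 1 := by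
  rw [lK1, dif_neg (by omega)]

theorem wd_lK1_val : ∀ w : List ℕ, (∀ x ∈ w, x < 4) → ((VCert.wd lK1 w : ↥L) : E6) = VCert.wd lK w
  | [], _ => rfl
  | x :: w, h => by
    rw [VCert.wd_cons, VCert.wd_cons, Subgroup.coe_mul, lK1_val (h x List.mem_cons_self),
      wd_lK1_val w fun y hy => h y (List.mem_cons_of_mem _ hy)]

theorem lK1_iv {x : ℕ} (hx : x < 4) : lK1 (Nat.xor x 1) = (lK1 x)⁻¹ := by
  have hx' : Nat.xor x 1 < 4 := by
    have : x = 0 ∨ x = 1 ∨ x = 2 ∨ x = 3 := by omega
    rcases this with rfl | rfl | rfl | rfl <;> decide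
  apply Subtype.ext
  rw [Subgroup.coe_inv, lK1_val hx', lK1_val hx, lK_iv (by omega)]

theorem closure_lK1 : Subgroup.closure (lK1 '' Set.Iio 4) = ⊤ := by
  have h := Subgroup.closure_closure_coe_preimage (k := lK '' Set.Iio 4)
  have e : ((↑) ⁻¹' (lK '' Set.Iio 4) : Set ↥(Subgroup.closure (lK '' Set.Iio 4))) = lK1 '' Set.Iio 4 := by
    ext z
    constructor
    · rintro ⟨x, hx, hz⟩
      exact ⟨x, hx, Subtype.ext (by rw [lK1_val hx]; exact hz)⟩
    · rintro ⟨x, hx, rfl⟩
      exact ⟨x, hx, (lK1_val hx).symm⟩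
  rw [e] at h
  exact h

end Cfsg.Agent.Lib.Helper7.G24B
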