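/-! # The group of type G2 over the field of four elements on 416 points: a base of four points with words that move
them through the orbits of the successive stabilisers (generated).  Every entry is the image of the base point
followed by a word. -/

set_option autoImplicit false

namespace Cfsg.Agent.Lib.Helper7.G24B

/-- the orbit of the first base point under the stabiliser of the earlier ones -/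
def lvl1 : List (List Nat) := [[0],
  [1, 5],
  [2, 1, 5],
  [3, 0, 1, 5],
  [4, 2, 1, 5],
  [5, 1, 0, 1, 5],
  [6, 2, 0, 1, 5],
  [7, 3, 2, 1, 5],
  [8, 0, 1, 0, 1, 5],
  [9, 2, 1, 0, 1, 5],
  [10, 1, 2, 0, 1, 5],
  [11, 3, 2, 0, 1, 5],
  [12, 2, 3, 2, 1, 5],
  [13, 4, 3, 2, 1, 5],
  [14, 2, 0, 1, 0, 1, 5],
  [15, 1, 2, 1, 0, 1, 5],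
  [16, 3, 2, 1, 0, 1, 5],
  [17, 0, 1, 2, 0, 1, 5],
  [18, 3, 1, 2, 0, 1, 5],
  [19, 5, 1, 2, 0, 1, 5],
  [20, 2, 3, 2, 0, 1, 5],
  [21, 4, 3, 2, 0, 1, 5],
  [22, 1, 2, 3, 2, 1, 5],
  [23, 4, 2, 3, 2, 1, 5],
  [24, 1, 2, 0, 1, 0, 1, 5],
  [25, 3, 2, 0, 1, 0, 1, 5],
  [26, 3, 1, 2, 1, 0, 1, 5],
  [27, 2, 3, 2, 1, 0, 1, 5],
  [28, 4, 3, 2, 1, 0, 1, 5],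
  [29, 1, 0, 1, 2, 0, 1, 5],
  [30, 3, 0, 1, 2, 0, 1, 5],
  [31, 2, 3, 1, 2, 0, 1, 5],
  [32, 4, 3, 1, 2, 0, 1, 5],
  [33, 5, 3, 1, 2, 0, 1, 5],
  [34, 1, 2, 3, 2, 0, 1, 5],
  [35, 4, 2, 3, 2, 0, 1, 5],
  [36, 0, 1, 2, 3, 2, 1, 5],
  [37, 4, 1, 2, 3, 2, 1, 5],
  [38, 5, 1, 2, 3, 2, 1, 5],
  [39, 3, 4, 2, 3, 2, 1, 5],
  [40, 3, 1, 2, 0, 1, 0, 1, 5],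
  [41, 2, 3, 2, 0, 1, 0, 1, 5],
  [42, 4, 3, 2, 0, 1, 0, 1, 5],
  [43, 2, 3, 1, 2, 1, 0, 1, 5],
  [44, 4, 3, 1, 2, 1, 0, 1, 5],
  [45, 1, 2, 3, 2, 1, 0, 1, 5],
  [46, 4, 2, 3, 2, 1, 0, 1, 5],
  [47, 3, 1, 0, 1, 2, 0, 1, 5],
  [48, 2, 3, 0, 1, 2, 0, 1, 5],
  [49, 4, 3, 0, 1, 2, 0, 1, 5],
  [50, 1, 2, 3, 1, 2, 0, 1, 5],
  [51, 3, 2, 3, 1, 2, 0, 1, 5],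
  [52, 4, 2, 3, 1, 2, 0, 1, 5],
  [53, 5, 2, 3, 1, 2, 0, 1, 5],
  [54, 5, 4, 3, 1, 2, 0, 1, 5],
  [55, 0, 1, 2, 3, 2, 0, 1, 5],
  [56, 4, 1, 2, 3, 2, 0, 1, 5],
  [57, 5, 1, 2, 3, 2, 0, 1, 5],
  [58, 3, 4, 2, 3, 2, 0, 1, 5],
  [59, 4, 0, 1, 2, 3, 2, 1, 5],
  [60, 5, 0, 1, 2, 3, 2, 1, 5],
  [61, 3, 4, 1, 2, 3, 2, 1, 5],
  [62, 5, 4, 1, 2, 3, 2, 1, 5],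
  [63, 2, 3, 4, 2, 3, 2, 1, 5],
  [64, 4, 3, 1, 2, 0, 1, 0, 1, 5],
  [65, 4, 2, 3, 2, 0, 1, 0, 1, 5],
  [66, 1, 2, 3, 1, 2, 1, 0, 1, 5],
  [67, 4, 2, 3, 1, 2, 1, 0, 1, 5],
  [68, 4, 1, 2, 3, 2, 1, 0, 1, 5],
  [69, 3, 4, 2, 3, 2, 1, 0, 1, 5],
  [70, 4, 3, 1, 0, 1, 2, 0, 1, 5],
  [71, 4, 2, 3, 0, 1, 2, 0, 1, 5],
  [72, 0, 1, 2, 3, 1, 2, 0, 1, 5],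
  [73, 3, 1, 2, 3, 1, 2, 0, 1, 5],
  [74, 4, 1, 2, 3, 1, 2, 0, 1, 5],
  [75, 5, 1, 2, 3, 1, 2, 0, 1, 5],
  [76, 2, 3, 2, 3, 1, 2, 0, 1, 5],
  [77, 4, 3, 2, 3, 1, 2, 0, 1, 5],
  [78, 3, 4, 2, 3, 1, 2, 0, 1, 5],
  [79, 5, 4, 2, 3, 1, 2, 0, 1, 5],
  [80, 4, 0, 1, 2, 3, 2, 0, 1, 5],
  [81, 5, 0, 1, 2, 3, 2, 0, 1, 5],
  [82, 3, 4, 1, 2, 3, 2, 0, 1, 5],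
  [83, 5, 4, 1, 2, 3, 2, 0, 1, 5],
  [84, 2, 3, 4, 2, 3, 2, 0, 1, 5],
  [85, 3, 4, 0, 1, 2, 3, 2, 1, 5],
  [86, 5, 4, 0, 1, 2, 3, 2, 1, 5],
  [87, 2, 3, 4, 1, 2, 3, 2, 1, 5],
  [88, 5, 3, 4, 1, 2, 3, 2, 1, 5],
  [89, 1, 2, 3, 4, 2, 3, 2, 1, 5],
  [90, 3, 4, 2, 3, 2, 0, 1, 0, 1, 5],
  [91, 4, 1, 2, 3, 1, 2, 1, 0, 1, 5],
  [92, 3, 4, 2, 3, 1, 2, 1, 0, 1, 5],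
  [93, 3, 4, 1, 2, 3, 2, 1, 0, 1, 5],
  [94, 2, 3, 4, 2, 3, 2, 1, 0, 1, 5],
  [95, 3, 4, 2, 3, 0, 1, 2, 0, 1, 5],
  [96, 1, 0, 1, 2, 3, 1, 2, 0, 1, 5],
  [97, 4, 0, 1, 2, 3, 1, 2, 0, 1, 5],
  [98, 5, 0, 1, 2, 3, 1, 2, 0, 1, 5],
  [99, 4, 3, 1, 2, 3, 1, 2, 0, 1, 5],
  [100, 5, 3, 1, 2, 3, 1, 2, 0, 1, 5],
  [101, 3, 4, 1, 2, 3, 1, 2, 0, 1, 5],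
  [102, 5, 4, 1, 2, 3, 1, 2, 0, 1, 5],
  [103, 4, 2, 3, 2, 3, 1, 2, 0, 1, 5],
  [104, 3, 4, 3, 2, 3, 1, 2, 0, 1, 5],
  [105, 2, 3, 4, 2, 3, 1, 2, 0, 1, 5],
  [106, 5, 3, 4, 2, 3, 1, 2, 0, 1, 5],
  [107, 3, 4, 0, 1, 2, 3, 2, 0, 1, 5],
  [108, 5, 4, 0, 1, 2, 3, 2, 0, 1, 5],
  [109, 2, 3, 4, 1, 2, 3, 2, 0, 1, 5],
  [110, 5, 3, 4, 1, 2, 3, 2, 0, 1, 5],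
  [111, 1, 2, 3, 4, 2, 3, 2, 0, 1, 5],
  [112, 2, 3, 4, 0, 1, 2, 3, 2, 1, 5],
  [113, 5, 3, 4, 0, 1, 2, 3, 2, 1, 5],
  [114, 1, 2, 3, 4, 1, 2, 3, 2, 1, 5],
  [115, 3, 2, 3, 4, 1, 2, 3, 2, 1, 5],
  [116, 5, 2, 3, 4, 1, 2, 3, 2, 1, 5],
  [117, 0, 1, 2, 3, 4, 2, 3, 2, 1, 5],
  [118, 5, 1, 2, 3, 4, 2, 3, 2, 1, 5],
  [119, 2, 3, 4, 2, 3, 2, 0, 1, 0, 1, 5],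
  [120, 3, 4, 1, 2, 3, 1, 2, 1, 0, 1, 5],
  [121, 2, 3, 4, 2, 3, 1, 2, 1, 0, 1, 5],
  [122, 2, 3, 4, 1, 2, 3, 2, 1, 0, 1, 5],
  [123, 1, 2, 3, 4, 2, 3, 2, 1, 0, 1, 5],
  [124, 2, 3, 4, 2, 3, 0, 1, 2, 0, 1, 5],
  [125, 4, 1, 0, 1, 2, 3, 1, 2, 0, 1, 5],
  [126, 5, 1, 0, 1, 2, 3, 1, 2, 0, 1, 5],
  [127, 3, 4, 0, 1, 2, 3, 1, 2, 0, 1, 5],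
  [128, 5, 4, 0, 1, 2, 3, 1, 2, 0, 1, 5],
  [129, 1, 5, 0, 1, 2, 3, 1, 2, 0, 1, 5],
  [130, 3, 4, 3, 1, 2, 3, 1, 2, 0, 1, 5],
  [131, 5, 4, 3, 1, 2, 3, 1, 2, 0, 1, 5],
  [132, 2, 3, 4, 1, 2, 3, 1, 2, 0, 1, 5],
  [133, 5, 3, 4, 1, 2, 3, 1, 2, 0, 1, 5],
  [134, 3, 4, 2, 3, 2, 3, 1, 2, 0, 1, 5],
  [135, 2, 3, 4, 3, 2, 3, 1, 2, 0, 1, 5],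
  [136, 1, 2, 3, 4, 2, 3, 1, 2, 0, 1, 5],
  [137, 5, 2, 3, 4, 2, 3, 1, 2, 0, 1, 5],
  [138, 2, 3, 4, 0, 1, 2, 3, 2, 0, 1, 5],
  [139, 5, 3, 4, 0, 1, 2, 3, 2, 0, 1, 5],
  [140, 1, 2, 3, 4, 1, 2, 3, 2, 0, 1, 5],
  [141, 3, 2, 3, 4, 1, 2, 3, 2, 0, 1, 5],
  [142, 5, 2, 3, 4, 1, 2, 3, 2, 0, 1, 5],
  [143, 0, 1, 2, 3, 4, 2, 3, 2, 0, 1, 5],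
  [144, 5, 1, 2, 3, 4, 2, 3, 2, 0, 1, 5],
  [145, 1, 2, 3, 4, 0, 1, 2, 3, 2, 1, 5],
  [146, 3, 2, 3, 4, 0, 1, 2, 3, 2, 1, 5],
  [147, 5, 2, 3, 4, 0, 1, 2, 3, 2, 1, 5],
  [148, 0, 1, 2, 3, 4, 1, 2, 3, 2, 1, 5],
  [149, 3, 1, 2, 3, 4, 1, 2, 3, 2, 1, 5],
  [150, 5, 1, 2, 3, 4, 1, 2, 3, 2, 1, 5],
  [151, 4, 3, 2, 3, 4, 1, 2, 3, 2, 1, 5],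
  [152, 5, 3, 2, 3, 4, 1, 2, 3, 2, 1, 5],
  [153, 1, 5, 2, 3, 4, 1, 2, 3, 2, 1, 5],
  [154, 1, 0, 1, 2, 3, 4, 2, 3, 2, 1, 5],
  [155, 5, 0, 1, 2, 3, 4, 2, 3, 2, 1, 5],
  [156, 1, 2, 3, 4, 2, 3, 2, 0, 1, 0, 1, 5],
  [157, 2, 3, 4, 1, 2, 3, 1, 2, 1, 0, 1, 5],
  [158, 1, 2, 3, 4, 2, 3, 1, 2, 1, 0, 1, 5],
  [159, 1, 2, 3, 4, 1, 2, 3, 2, 1, 0, 1, 5],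
  [160, 3, 2, 3, 4, 1, 2, 3, 2, 1, 0, 1, 5],
  [161, 0, 1, 2, 3, 4, 2, 3, 2, 1, 0, 1, 5],
  [162, 5, 1, 2, 3, 4, 2, 3, 2, 1, 0, 1, 5],
  [163, 1, 2, 3, 4, 2, 3, 0, 1, 2, 0, 1, 5],
  [164, 3, 4, 1, 0, 1, 2, 3, 1, 2, 0, 1, 5],
  [165, 5, 4, 1, 0, 1, 2, 3, 1, 2, 0, 1, 5],
  [166, 1, 5, 1, 0, 1, 2, 3, 1, 2, 0, 1, 5],
  [167, 2, 3, 4, 0, 1, 2, 3, 1, 2, 0, 1, 5],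
  [168, 5, 3, 4, 0, 1, 2, 3, 1, 2, 0, 1, 5],
  [169, 1, 5, 4, 0, 1, 2, 3, 1, 2, 0, 1, 5],
  [170, 2, 3, 4, 3, 1, 2, 3, 1, 2, 0, 1, 5],
  [171, 5, 3, 4, 3, 1, 2, 3, 1, 2, 0, 1, 5],
  [172, 1, 2, 3, 4, 1, 2, 3, 1, 2, 0, 1, 5],
  [173, 3, 2, 3, 4, 1, 2, 3, 1, 2, 0, 1, 5],
  [174, 5, 2, 3, 4, 1, 2, 3, 1, 2, 0, 1, 5],
  [175, 2, 3, 4, 2, 3, 2, 3, 1, 2, 0, 1, 5],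
  [176, 1, 2, 3, 4, 3, 2, 3, 1, 2, 0, 1, 5],
  [177, 3, 2, 3, 4, 3, 2, 3, 1, 2, 0, 1, 5],
  [178, 0, 1, 2, 3, 4, 2, 3, 1, 2, 0, 1, 5],
  [179, 5, 1, 2, 3, 4, 2, 3, 1, 2, 0, 1, 5],
  [180, 1, 5, 2, 3, 4, 2, 3, 1, 2, 0, 1, 5],
  [181, 1, 2, 3, 4, 0, 1, 2, 3, 2, 0, 1, 5],
  [182, 3, 2, 3, 4, 0, 1, 2, 3, 2, 0, 1, 5],
  [183, 5, 2, 3, 4, 0, 1, 2, 3, 2, 0, 1, 5],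
  [184, 0, 1, 2, 3, 4, 1, 2, 3, 2, 0, 1, 5],
  [185, 3, 1, 2, 3, 4, 1, 2, 3, 2, 0, 1, 5],
  [186, 5, 1, 2, 3, 4, 1, 2, 3, 2, 0, 1, 5],
  [187, 2, 3, 2, 3, 4, 1, 2, 3, 2, 0, 1, 5],
  [188, 4, 3, 2, 3, 4, 1, 2, 3, 2, 0, 1, 5],
  [189, 5, 3, 2, 3, 4, 1, 2, 3, 2, 0, 1, 5],
  [190, 1, 5, 2, 3, 4, 1, 2, 3, 2, 0, 1, 5],
  [191, 1, 0, 1, 2, 3, 4, 2, 3, 2, 0, 1, 5],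
  [192, 5, 0, 1, 2, 3, 4, 2, 3, 2, 0, 1, 5],
  [193, 0, 1, 2, 3, 4, 0, 1, 2, 3, 2, 1, 5],
  [194, 3, 1, 2, 3, 4, 0, 1, 2, 3, 2, 1, 5],
  [195, 5, 1, 2, 3, 4, 0, 1, 2, 3, 2, 1, 5],
  [196, 4, 3, 2, 3, 4, 0, 1, 2, 3, 2, 1, 5],
  [197, 5, 3, 2, 3, 4, 0, 1, 2, 3, 2, 1, 5],
  [198, 1, 5, 2, 3, 4, 0, 1, 2, 3, 2, 1, 5],
  [199, 1, 0, 1, 2, 3, 4, 1, 2, 3, 2, 1, 5],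
  [200, 3, 0, 1, 2, 3, 4, 1, 2, 3, 2, 1, 5],
  [201, 5, 0, 1, 2, 3, 4, 1, 2, 3, 2, 1, 5],
  [202, 2, 3, 1, 2, 3, 4, 1, 2, 3, 2, 1, 5],
  [203, 4, 3, 1, 2, 3, 4, 1, 2, 3, 2, 1, 5],
  [204, 5, 3, 1, 2, 3, 4, 1, 2, 3, 2, 1, 5],
  [205, 1, 5, 1, 2, 3, 4, 1, 2, 3, 2, 1, 5],
  [206, 5, 4, 3, 2, 3, 4, 1, 2, 3, 2, 1, 5],
  [207, 1, 5, 3, 2, 3, 4, 1, 2, 3, 2, 1, 5],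
  [208, 0, 1, 0, 1, 2, 3, 4, 2, 3, 2, 1, 5],
  [209, 2, 1, 0, 1, 2, 3, 4, 2, 3, 2, 1, 5],
  [210, 5, 1, 0, 1, 2, 3, 4, 2, 3, 2, 1, 5],
  [211, 1, 5, 0, 1, 2, 3, 4, 2, 3, 2, 1, 5],
  [212, 1, 2, 3, 4, 1, 2, 3, 1, 2, 1, 0, 1, 5],
  [213, 3, 2, 3, 4, 1, 2, 3, 1, 2, 1, 0, 1, 5],
  [214, 0, 1, 2, 3, 4, 2, 3, 1, 2, 1, 0, 1, 5],
  [215, 5, 1, 2, 3, 4, 2, 3, 1, 2, 1, 0, 1, 5],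
  [216, 0, 1, 2, 3, 4, 1, 2, 3, 2, 1, 0, 1, 5],
  [217, 3, 1, 2, 3, 4, 1, 2, 3, 2, 1, 0, 1, 5],
  [218, 5, 1, 2, 3, 4, 1, 2, 3, 2, 1, 0, 1, 5],
  [219, 2, 3, 2, 3, 4, 1, 2, 3, 2, 1, 0, 1, 5],
  [220, 1, 0, 1, 2, 3, 4, 2, 3, 2, 1, 0, 1, 5],
  [221, 0, 1, 2, 3, 4, 2, 3, 0, 1, 2, 0, 1, 5],
  [222, 5, 1, 2, 3, 4, 2, 3, 0, 1, 2, 0, 1, 5],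
  [223, 2, 3, 4, 1, 0, 1, 2, 3, 1, 2, 0, 1, 5],
  [224, 5, 3, 4, 1, 0, 1, 2, 3, 1, 2, 0, 1, 5],
  [225, 1, 5, 4, 1, 0, 1, 2, 3, 1, 2, 0, 1, 5],
  [226, 1, 2, 3, 4, 0, 1, 2, 3, 1, 2, 0, 1, 5],
  [227, 5, 2, 3, 4, 0, 1, 2, 3, 1, 2, 0, 1, 5],
  [228, 1, 5, 3, 4, 0, 1, 2, 3, 1, 2, 0, 1, 5],
  [229, 1, 2, 3, 4, 3, 1, 2, 3, 1, 2, 0, 1, 5],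
  [230, 3, 2, 3, 4, 3, 1, 2, 3, 1, 2, 0, 1, 5],
  [231, 5, 2, 3, 4, 3, 1, 2, 3, 1, 2, 0, 1, 5],
  [232, 0, 1, 2, 3, 4, 1, 2, 3, 1, 2, 0, 1, 5],
  [233, 3, 1, 2, 3, 4, 1, 2, 3, 1, 2, 0, 1, 5],
  [234, 5, 1, 2, 3, 4, 1, 2, 3, 1, 2, 0, 1, 5],
  [235, 4, 3, 2, 3, 4, 1, 2, 3, 1, 2, 0, 1, 5],
  [236, 5, 3, 2, 3, 4, 1, 2, 3, 1, 2, 0, 1, 5],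
  [237, 1, 5, 2, 3, 4, 1, 2, 3, 1, 2, 0, 1, 5],
  [238, 1, 2, 3, 4, 2, 3, 2, 3, 1, 2, 0, 1, 5],
  [239, 0, 1, 2, 3, 4, 3, 2, 3, 1, 2, 0, 1, 5],
  [240, 3, 1, 2, 3, 4, 3, 2, 3, 1, 2, 0, 1, 5],
  [241, 5, 1, 2, 3, 4, 3, 2, 3, 1, 2, 0, 1, 5],
  [242, 1, 0, 1, 2, 3, 4, 2, 3, 1, 2, 0, 1, 5],
  [243, 5, 0, 1, 2, 3, 4, 2, 3, 1, 2, 0, 1, 5],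
  [244, 1, 5, 1, 2, 3, 4, 2, 3, 1, 2, 0, 1, 5],
  [245, 0, 1, 5, 2, 3, 4, 2, 3, 1, 2, 0, 1, 5],
  [246, 0, 1, 2, 3, 4, 0, 1, 2, 3, 2, 0, 1, 5],
  [247, 3, 1, 2, 3, 4, 0, 1, 2, 3, 2, 0, 1, 5],
  [248, 5, 1, 2, 3, 4, 0, 1, 2, 3, 2, 0, 1, 5],
  [249, 4, 3, 2, 3, 4, 0, 1, 2, 3, 2, 0, 1, 5],
  [250, 5, 3, 2, 3, 4, 0, 1, 2, 3, 2, 0, 1, 5],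
  [251, 1, 5, 2, 3, 4, 0, 1, 2, 3, 2, 0, 1, 5],
  [252, 1, 0, 1, 2, 3, 4, 1, 2, 3, 2, 0, 1, 5],
  [253, 3, 0, 1, 2, 3, 4, 1, 2, 3, 2, 0, 1, 5],
  [254, 5, 0, 1, 2, 3, 4, 1, 2, 3, 2, 0, 1, 5],
  [255, 2, 3, 1, 2, 3, 4, 1, 2, 3, 2, 0, 1, 5],
  [256, 4, 3, 1, 2, 3, 4, 1, 2, 3, 2, 0, 1, 5],
  [257, 5, 3, 1, 2, 3, 4, 1, 2, 3, 2, 0, 1, 5],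
  [258, 1, 5, 1, 2, 3, 4, 1, 2, 3, 2, 0, 1, 5],
  [259, 1, 2, 3, 2, 3, 4, 1, 2, 3, 2, 0, 1, 5],
  [260, 4, 2, 3, 2, 3, 4, 1, 2, 3, 2, 0, 1, 5],
  [261, 5, 2, 3, 2, 3, 4, 1, 2, 3, 2, 0, 1, 5],
  [262, 5, 4, 3, 2, 3, 4, 1, 2, 3, 2, 0, 1, 5],
  [263, 1, 5, 3, 2, 3, 4, 1, 2, 3, 2, 0, 1, 5],
  [264, 2, 1, 0, 1, 2, 3, 4, 2, 3, 2, 0, 1, 5],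
  [265, 1, 5, 0, 1, 2, 3, 4, 2, 3, 2, 0, 1, 5],
  [266, 1, 0, 1, 2, 3, 4, 0, 1, 2, 3, 2, 1, 5],
  [267, 3, 0, 1, 2, 3, 4, 0, 1, 2, 3, 2, 1, 5],
  [268, 5, 0, 1, 2, 3, 4, 0, 1, 2, 3, 2, 1, 5],
  [269, 2, 3, 1, 2, 3, 4, 0, 1, 2, 3, 2, 1, 5],
  [270, 4, 3, 1, 2, 3, 4, 0, 1, 2, 3, 2, 1, 5],
  [271, 1, 5, 1, 2, 3, 4, 0, 1, 2, 3, 2, 1, 5],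
  [272, 5, 4, 3, 2, 3, 4, 0, 1, 2, 3, 2, 1, 5],
  [273, 1, 5, 3, 2, 3, 4, 0, 1, 2, 3, 2, 1, 5],
  [274, 0, 1, 5, 2, 3, 4, 0, 1, 2, 3, 2, 1, 5],
  [275, 0, 1, 0, 1, 2, 3, 4, 1, 2, 3, 2, 1, 5],
  [276, 2, 1, 0, 1, 2, 3, 4, 1, 2, 3, 2, 1, 5],
  [277, 3, 1, 0, 1, 2, 3, 4, 1, 2, 3, 2, 1, 5],
  [278, 5, 1, 0, 1, 2, 3, 4, 1, 2, 3, 2, 1, 5],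
  [279, 2, 3, 0, 1, 2, 3, 4, 1, 2, 3, 2, 1, 5],
  [280, 4, 3, 0, 1, 2, 3, 4, 1, 2, 3, 2, 1, 5],
  [281, 5, 3, 0, 1, 2, 3, 4, 1, 2, 3, 2, 1, 5],
  [282, 1, 5, 0, 1, 2, 3, 4, 1, 2, 3, 2, 1, 5],
  [283, 4, 2, 3, 1, 2, 3, 4, 1, 2, 3, 2, 1, 5],
  [284, 5, 4, 3, 1, 2, 3, 4, 1, 2, 3, 2, 1, 5],
  [285, 1, 5, 3, 1, 2, 3, 4, 1, 2, 3, 2, 1, 5],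
  [286, 1, 5, 4, 3, 2, 3, 4, 1, 2, 3, 2, 1, 5],
  [287, 1, 5, 1, 0, 1, 2, 3, 4, 2, 3, 2, 1, 5],
  [288, 0, 1, 5, 0, 1, 2, 3, 4, 2, 3, 2, 1, 5],
  [289, 2, 1, 5, 0, 1, 2, 3, 4, 2, 3, 2, 1, 5],
  [290, 3, 1, 2, 3, 4, 1, 2, 3, 1, 2, 1, 0, 1, 5],
  [291, 1, 0, 1, 2, 3, 4, 1, 2, 3, 2, 1, 0, 1, 5],
  [292, 3, 0, 1, 2, 3, 4, 1, 2, 3, 2, 1, 0, 1, 5],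
  [293, 2, 3, 1, 2, 3, 4, 1, 2, 3, 2, 1, 0, 1, 5],
  [294, 5, 3, 1, 2, 3, 4, 1, 2, 3, 2, 1, 0, 1, 5],
  [295, 1, 2, 3, 2, 3, 4, 1, 2, 3, 2, 1, 0, 1, 5],
  [296, 0, 1, 0, 1, 2, 3, 4, 2, 3, 2, 1, 0, 1, 5],
  [297, 2, 1, 0, 1, 2, 3, 4, 2, 3, 2, 1, 0, 1, 5],
  [298, 1, 0, 1, 2, 3, 4, 2, 3, 0, 1, 2, 0, 1, 5],
  [299, 1, 2, 3, 4, 1, 0, 1, 2, 3, 1, 2, 0, 1, 5],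
  [300, 3, 2, 3, 4, 1, 0, 1, 2, 3, 1, 2, 0, 1, 5],
  [301, 5, 2, 3, 4, 1, 0, 1, 2, 3, 1, 2, 0, 1, 5],
  [302, 1, 5, 3, 4, 1, 0, 1, 2, 3, 1, 2, 0, 1, 5],
  [303, 0, 1, 2, 3, 4, 0, 1, 2, 3, 1, 2, 0, 1, 5],
  [304, 0, 1, 2, 3, 4, 3, 1, 2, 3, 1, 2, 0, 1, 5],
  [305, 3, 1, 2, 3, 4, 3, 1, 2, 3, 1, 2, 0, 1, 5],
  [306, 5, 1, 2, 3, 4, 3, 1, 2, 3, 1, 2, 0, 1, 5],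
  [307, 4, 3, 2, 3, 4, 3, 1, 2, 3, 1, 2, 0, 1, 5],
  [308, 5, 3, 2, 3, 4, 3, 1, 2, 3, 1, 2, 0, 1, 5],
  [309, 1, 5, 2, 3, 4, 3, 1, 2, 3, 1, 2, 0, 1, 5],
  [310, 1, 0, 1, 2, 3, 4, 1, 2, 3, 1, 2, 0, 1, 5],
  [311, 5, 0, 1, 2, 3, 4, 1, 2, 3, 1, 2, 0, 1, 5],
  [312, 0, 1, 2, 3, 4, 2, 3, 2, 3, 1, 2, 0, 1, 5],
  [313, 5, 1, 2, 3, 4, 2, 3, 2, 3, 1, 2, 0, 1, 5],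
  [314, 1, 0, 1, 2, 3, 4, 3, 2, 3, 1, 2, 0, 1, 5],
  [315, 3, 0, 1, 2, 3, 4, 3, 2, 3, 1, 2, 0, 1, 5],
  [316, 5, 0, 1, 2, 3, 4, 3, 2, 3, 1, 2, 0, 1, 5],
  [317, 2, 3, 1, 2, 3, 4, 3, 2, 3, 1, 2, 0, 1, 5],
  [318, 5, 3, 1, 2, 3, 4, 3, 2, 3, 1, 2, 0, 1, 5],
  [319, 0, 1, 0, 1, 2, 3, 4, 2, 3, 1, 2, 0, 1, 5],
  [320, 2, 1, 0, 1, 2, 3, 4, 2, 3, 1, 2, 0, 1, 5],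
  [321, 1, 0, 1, 2, 3, 4, 0, 1, 2, 3, 2, 0, 1, 5],
  [322, 3, 0, 1, 2, 3, 4, 0, 1, 2, 3, 2, 0, 1, 5],
  [323, 5, 0, 1, 2, 3, 4, 0, 1, 2, 3, 2, 0, 1, 5],
  [324, 2, 3, 1, 2, 3, 4, 0, 1, 2, 3, 2, 0, 1, 5],
  [325, 4, 3, 1, 2, 3, 4, 0, 1, 2, 3, 2, 0, 1, 5],
  [326, 5, 3, 1, 2, 3, 4, 0, 1, 2, 3, 2, 0, 1, 5],
  [327, 1, 5, 1, 2, 3, 4, 0, 1, 2, 3, 2, 0, 1, 5],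
  [328, 5, 4, 3, 2, 3, 4, 0, 1, 2, 3, 2, 0, 1, 5],
  [329, 1, 5, 3, 2, 3, 4, 0, 1, 2, 3, 2, 0, 1, 5],
  [330, 0, 1, 5, 2, 3, 4, 0, 1, 2, 3, 2, 0, 1, 5],
  [331, 0, 1, 0, 1, 2, 3, 4, 1, 2, 3, 2, 0, 1, 5],
  [332, 2, 1, 0, 1, 2, 3, 4, 1, 2, 3, 2, 0, 1, 5],
  [333, 4, 3, 0, 1, 2, 3, 4, 1, 2, 3, 2, 0, 1, 5],
  [334, 1, 2, 3, 1, 2, 3, 4, 1, 2, 3, 2, 0, 1, 5],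
  [335, 4, 2, 3, 1, 2, 3, 4, 1, 2, 3, 2, 0, 1, 5],
  [336, 5, 4, 3, 1, 2, 3, 4, 1, 2, 3, 2, 0, 1, 5],
  [337, 1, 5, 3, 1, 2, 3, 4, 1, 2, 3, 2, 0, 1, 5],
  [338, 0, 1, 2, 3, 2, 3, 4, 1, 2, 3, 2, 0, 1, 5],
  [339, 4, 1, 2, 3, 2, 3, 4, 1, 2, 3, 2, 0, 1, 5],
  [340, 3, 4, 2, 3, 2, 3, 4, 1, 2, 3, 2, 0, 1, 5],
  [341, 5, 4, 2, 3, 2, 3, 4, 1, 2, 3, 2, 0, 1, 5],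
  [342, 1, 5, 4, 3, 2, 3, 4, 1, 2, 3, 2, 0, 1, 5],
  [343, 0, 1, 5, 0, 1, 2, 3, 4, 2, 3, 2, 0, 1, 5],
  [344, 0, 1, 0, 1, 2, 3, 4, 0, 1, 2, 3, 2, 1, 5],
  [345, 2, 1, 0, 1, 2, 3, 4, 0, 1, 2, 3, 2, 1, 5],
  [346, 3, 1, 0, 1, 2, 3, 4, 0, 1, 2, 3, 2, 1, 5],
  [347, 2, 3, 0, 1, 2, 3, 4, 0, 1, 2, 3, 2, 1, 5],
  [348, 4, 3, 0, 1, 2, 3, 4, 0, 1, 2, 3, 2, 1, 5],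
  [349, 4, 2, 3, 1, 2, 3, 4, 0, 1, 2, 3, 2, 1, 5],
  [350, 1, 5, 4, 3, 2, 3, 4, 0, 1, 2, 3, 2, 1, 5],
  [351, 0, 1, 5, 3, 2, 3, 4, 0, 1, 2, 3, 2, 1, 5],
  [352, 3, 0, 1, 0, 1, 2, 3, 4, 1, 2, 3, 2, 1, 5],
  [353, 2, 3, 1, 0, 1, 2, 3, 4, 1, 2, 3, 2, 1, 5],
  [354, 4, 3, 1, 0, 1, 2, 3, 4, 1, 2, 3, 2, 1, 5],
  [355, 5, 3, 1, 0, 1, 2, 3, 4, 1, 2, 3, 2, 1, 5],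
  [356, 1, 2, 3, 0, 1, 2, 3, 4, 1, 2, 3, 2, 1, 5],
  [357, 4, 2, 3, 0, 1, 2, 3, 4, 1, 2, 3, 2, 1, 5],
  [358, 5, 4, 3, 0, 1, 2, 3, 4, 1, 2, 3, 2, 1, 5],
  [359, 1, 5, 3, 0, 1, 2, 3, 4, 1, 2, 3, 2, 1, 5],
  [360, 3, 4, 2, 3, 1, 2, 3, 4, 1, 2, 3, 2, 1, 5],
  [361, 1, 5, 4, 3, 1, 2, 3, 4, 1, 2, 3, 2, 1, 5],
  [362, 0, 1, 5, 1, 0, 1, 2, 3, 4, 2, 3, 2, 1, 5],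
  [363, 1, 0, 1, 5, 0, 1, 2, 3, 4, 2, 3, 2, 1, 5],
  [364, 2, 0, 1, 5, 0, 1, 2, 3, 4, 2, 3, 2, 1, 5],
  [365, 0, 1, 0, 1, 2, 3, 4, 1, 2, 3, 2, 1, 0, 1, 5],
  [366, 2, 0, 1, 0, 1, 2, 3, 4, 2, 3, 2, 1, 0, 1, 5],
  [367, 0, 1, 0, 1, 2, 3, 4, 2, 3, 0, 1, 2, 0, 1, 5],
  [368, 2, 1, 0, 1, 2, 3, 4, 2, 3, 0, 1, 2, 0, 1, 5],
  [369, 5, 1, 0, 1, 2, 3, 4, 2, 3, 0, 1, 2, 0, 1, 5],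
  [370, 0, 1, 2, 3, 4, 1, 0, 1, 2, 3, 1, 2, 0, 1, 5],
  [371, 3, 1, 2, 3, 4, 1, 0, 1, 2, 3, 1, 2, 0, 1, 5],
  [372, 5, 3, 2, 3, 4, 1, 0, 1, 2, 3, 1, 2, 0, 1, 5],
  [373, 1, 0, 1, 2, 3, 4, 3, 1, 2, 3, 1, 2, 0, 1, 5],
  [374, 3, 0, 1, 2, 3, 4, 3, 1, 2, 3, 1, 2, 0, 1, 5],
  [375, 5, 0, 1, 2, 3, 4, 3, 1, 2, 3, 1, 2, 0, 1, 5],
  [376, 2, 3, 1, 2, 3, 4, 3, 1, 2, 3, 1, 2, 0, 1, 5],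
  [377, 1, 5, 0, 1, 2, 3, 4, 1, 2, 3, 1, 2, 0, 1, 5],
  [378, 3, 2, 3, 1, 2, 3, 4, 3, 2, 3, 1, 2, 0, 1, 5],
  [379, 3, 2, 1, 0, 1, 2, 3, 4, 2, 3, 1, 2, 0, 1, 5],
  [380, 3, 1, 0, 1, 2, 3, 4, 0, 1, 2, 3, 2, 0, 1, 5],
  [381, 2, 3, 0, 1, 2, 3, 4, 0, 1, 2, 3, 2, 0, 1, 5],
  [382, 4, 3, 0, 1, 2, 3, 4, 0, 1, 2, 3, 2, 0, 1, 5],
  [383, 0, 1, 5, 3, 2, 3, 4, 0, 1, 2, 3, 2, 0, 1, 5],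
  [384, 1, 5, 4, 3, 1, 2, 3, 4, 1, 2, 3, 2, 0, 1, 5],
  [385, 3, 4, 1, 2, 3, 2, 3, 4, 1, 2, 3, 2, 0, 1, 5],
  [386, 5, 3, 4, 2, 3, 2, 3, 4, 1, 2, 3, 2, 0, 1, 5],
  [387, 1, 0, 1, 5, 0, 1, 2, 3, 4, 2, 3, 2, 0, 1, 5],
  [388, 3, 0, 1, 0, 1, 2, 3, 4, 0, 1, 2, 3, 2, 1, 5],
  [389, 2, 3, 1, 0, 1, 2, 3, 4, 0, 1, 2, 3, 2, 1, 5],
  [390, 4, 3, 1, 0, 1, 2, 3, 4, 0, 1, 2, 3, 2, 1, 5],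
  [391, 4, 2, 3, 0, 1, 2, 3, 4, 0, 1, 2, 3, 2, 1, 5],
  [392, 0, 1, 5, 4, 3, 2, 3, 4, 0, 1, 2, 3, 2, 1, 5],
  [393, 2, 3, 0, 1, 0, 1, 2, 3, 4, 1, 2, 3, 2, 1, 5],
  [394, 4, 3, 0, 1, 0, 1, 2, 3, 4, 1, 2, 3, 2, 1, 5],
  [395, 1, 2, 3, 1, 0, 1, 2, 3, 4, 1, 2, 3, 2, 1, 5],
  [396, 3, 2, 3, 1, 0, 1, 2, 3, 4, 1, 2, 3, 2, 1, 5],
  [397, 5, 2, 3, 1, 0, 1, 2, 3, 4, 1, 2, 3, 2, 1, 5],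
  [398, 4, 1, 2, 3, 0, 1, 2, 3, 4, 1, 2, 3, 2, 1, 5],
  [399, 3, 4, 2, 3, 0, 1, 2, 3, 4, 1, 2, 3, 2, 1, 5],
  [400, 2, 3, 1, 2, 3, 4, 1, 0, 1, 2, 3, 1, 2, 0, 1, 5],
  [401, 2, 3, 0, 1, 2, 3, 4, 3, 1, 2, 3, 1, 2, 0, 1, 5],
  [402, 1, 5, 0, 1, 2, 3, 4, 3, 1, 2, 3, 1, 2, 0, 1, 5],
  [403, 2, 3, 2, 3, 1, 2, 3, 4, 3, 2, 3, 1, 2, 0, 1, 5],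
  [404, 2, 3, 1, 0, 1, 2, 3, 4, 0, 1, 2, 3, 2, 0, 1, 5],
  [405, 2, 3, 4, 1, 2, 3, 2, 3, 4, 1, 2, 3, 2, 0, 1, 5],
  [406, 2, 3, 0, 1, 0, 1, 2, 3, 4, 0, 1, 2, 3, 2, 1, 5],
  [407, 4, 3, 0, 1, 0, 1, 2, 3, 4, 0, 1, 2, 3, 2, 1, 5],
  [408, 3, 2, 3, 1, 0, 1, 2, 3, 4, 0, 1, 2, 3, 2, 1, 5],
  [409, 1, 2, 3, 0, 1, 0, 1, 2, 3, 4, 1, 2, 3, 2, 1, 5],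
  [410, 3, 2, 3, 0, 1, 0, 1, 2, 3, 4, 1, 2, 3, 2, 1, 5],
  [411, 3, 1, 2, 3, 1, 0, 1, 2, 3, 4, 1, 2, 3, 2, 1, 5],
  [412, 1, 2, 3, 0, 1, 0, 1, 2, 3, 4, 0, 1, 2, 3, 2, 1, 5],
  [413, 3, 2, 3, 0, 1, 0, 1, 2, 3, 4, 0, 1, 2, 3, 2, 1, 5],
  [414, 3, 1, 2, 3, 0, 1, 0, 1, 2, 3, 4, 1, 2, 3, 2, 1, 5],
  [415, 3, 1, 2, 3, 0, 1, 0, 1, 2, 3, 4, 0, 1, 2, 3, 2, 1, 5]]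

/-- the orbit of the second base point under the stabiliser of the earlier ones -/
def lvl2 : List (List Nat) := [[1],
  [2, 1],
  [3, 0, 1],
  [4, 2, 1],
  [5, 1, 0, 1],
  [6, 2, 0, 1],
  [7, 3, 2, 1],
  [8, 0, 1, 0, 1],
  [9, 2, 1, 0, 1],
  [10, 1, 2, 0, 1],
  [11, 3, 2, 0, 1],
  [12, 2, 3, 2, 1],
  [13, 4, 3, 2, 1],
  [14, 2, 0, 1, 0, 1],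
  [15, 1, 2, 1, 0, 1],
  [16, 3, 2, 1, 0, 1],
  [17, 0, 1, 2, 0, 1],
  [18, 3, 1, 2, 0, 1],
  [19, 0, 1, 2, 1, 0, 1],
  [20, 2, 3, 2, 0, 1],
  [21, 4, 3, 2, 0, 1],
  [22, 1, 2, 3, 2, 1],
  [23, 4, 2, 3, 2, 1],
  [24, 1, 2, 0, 1, 0, 1],
  [25, 3, 2, 0, 1, 0, 1],
  [26, 3, 1, 2, 1, 0, 1],
  [27, 2, 3, 2, 1, 0, 1],
  [28, 4, 3, 2, 1, 0, 1],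
  [29, 1, 0, 1, 2, 0, 1],
  [30, 3, 0, 1, 2, 0, 1],
  [31, 2, 3, 1, 2, 0, 1],
  [32, 4, 3, 1, 2, 0, 1],
  [33, 3, 0, 1, 2, 1, 0, 1],
  [34, 1, 2, 3, 2, 0, 1],
  [35, 4, 2, 3, 2, 0, 1],
  [36, 0, 1, 2, 3, 2, 1],
  [37, 4, 1, 2, 3, 2, 1],
  [39, 3, 4, 2, 3, 2, 1],
  [40, 3, 1, 2, 0, 1, 0, 1],
  [41, 2, 3, 2, 0, 1, 0, 1],
  [42, 4, 3, 2, 0, 1, 0, 1],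
  [43, 2, 3, 1, 2, 1, 0, 1],
  [44, 4, 3, 1, 2, 1, 0, 1],
  [45, 1, 2, 3, 2, 1, 0, 1],
  [46, 4, 2, 3, 2, 1, 0, 1],
  [47, 3, 1, 0, 1, 2, 0, 1],
  [48, 2, 3, 0, 1, 2, 0, 1],
  [49, 4, 3, 0, 1, 2, 0, 1],
  [50, 1, 2, 3, 1, 2, 0, 1],
  [51, 3, 2, 3, 1, 2, 0, 1],
  [52, 4, 2, 3, 1, 2, 0, 1],
  [53, 1, 0, 1, 2, 3, 2, 1],
  [54, 4, 3, 0, 1, 2, 1, 0, 1],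
  [55, 0, 1, 2, 3, 2, 0, 1],
  [56, 4, 1, 2, 3, 2, 0, 1],
  [58, 3, 4, 2, 3, 2, 0, 1],
  [59, 4, 0, 1, 2, 3, 2, 1],
  [61, 3, 4, 1, 2, 3, 2, 1],
  [63, 2, 3, 4, 2, 3, 2, 1],
  [64, 4, 3, 1, 2, 0, 1, 0, 1],
  [65, 4, 2, 3, 2, 0, 1, 0, 1],
  [66, 1, 2, 3, 1, 2, 1, 0, 1],
  [67, 4, 2, 3, 1, 2, 1, 0, 1],
  [68, 4, 1, 2, 3, 2, 1, 0, 1],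
  [69, 3, 4, 2, 3, 2, 1, 0, 1],
  [70, 4, 3, 1, 0, 1, 2, 0, 1],
  [71, 4, 2, 3, 0, 1, 2, 0, 1],
  [72, 0, 1, 2, 3, 1, 2, 0, 1],
  [73, 3, 1, 2, 3, 1, 2, 0, 1],
  [74, 4, 1, 2, 3, 1, 2, 0, 1],
  [76, 2, 3, 2, 3, 1, 2, 0, 1],
  [77, 4, 3, 2, 3, 1, 2, 0, 1],
  [78, 3, 4, 2, 3, 1, 2, 0, 1],
  [79, 4, 1, 0, 1, 2, 3, 2, 1],
  [80, 4, 0, 1, 2, 3, 2, 0, 1],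
  [82, 3, 4, 1, 2, 3, 2, 0, 1],
  [84, 2, 3, 4, 2, 3, 2, 0, 1],
  [85, 3, 4, 0, 1, 2, 3, 2, 1],
  [87, 2, 3, 4, 1, 2, 3, 2, 1],
  [89, 1, 2, 3, 4, 2, 3, 2, 1],
  [90, 3, 4, 2, 3, 2, 0, 1, 0, 1],
  [91, 4, 1, 2, 3, 1, 2, 1, 0, 1],
  [92, 3, 4, 2, 3, 1, 2, 1, 0, 1],
  [93, 3, 4, 1, 2, 3, 2, 1, 0, 1],
  [94, 2, 3, 4, 2, 3, 2, 1, 0, 1],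
  [95, 3, 4, 2, 3, 0, 1, 2, 0, 1],
  [96, 1, 0, 1, 2, 3, 1, 2, 0, 1],
  [97, 4, 0, 1, 2, 3, 1, 2, 0, 1],
  [99, 4, 3, 1, 2, 3, 1, 2, 0, 1],
  [101, 3, 4, 1, 2, 3, 1, 2, 0, 1],
  [103, 4, 2, 3, 2, 3, 1, 2, 0, 1],
  [104, 3, 4, 3, 2, 3, 1, 2, 0, 1],
  [105, 2, 3, 4, 2, 3, 1, 2, 0, 1],
  [106, 3, 4, 1, 0, 1, 2, 3, 2, 1],
  [107, 3, 4, 0, 1, 2, 3, 2, 0, 1],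
  [109, 2, 3, 4, 1, 2, 3, 2, 0, 1],
  [111, 1, 2, 3, 4, 2, 3, 2, 0, 1],
  [112, 2, 3, 4, 0, 1, 2, 3, 2, 1],
  [114, 1, 2, 3, 4, 1, 2, 3, 2, 1],
  [115, 3, 2, 3, 4, 1, 2, 3, 2, 1],
  [117, 0, 1, 2, 3, 4, 2, 3, 2, 1],
  [119, 2, 3, 4, 2, 3, 2, 0, 1, 0, 1],
  [120, 3, 4, 1, 2, 3, 1, 2, 1, 0, 1],
  [121, 2, 3, 4, 2, 3, 1, 2, 1, 0, 1],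
  [122, 2, 3, 4, 1, 2, 3, 2, 1, 0, 1],
  [123, 1, 2, 3, 4, 2, 3, 2, 1, 0, 1],
  [124, 2, 3, 4, 2, 3, 0, 1, 2, 0, 1],
  [125, 4, 1, 0, 1, 2, 3, 1, 2, 0, 1],
  [127, 3, 4, 0, 1, 2, 3, 1, 2, 0, 1],
  [130, 3, 4, 3, 1, 2, 3, 1, 2, 0, 1],
  [132, 2, 3, 4, 1, 2, 3, 1, 2, 0, 1],
  [134, 3, 4, 2, 3, 2, 3, 1, 2, 0, 1],
  [135, 2, 3, 4, 3, 2, 3, 1, 2, 0, 1],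
  [136, 1, 2, 3, 4, 2, 3, 1, 2, 0, 1],
  [137, 2, 3, 4, 1, 0, 1, 2, 3, 2, 1],
  [138, 2, 3, 4, 0, 1, 2, 3, 2, 0, 1],
  [140, 1, 2, 3, 4, 1, 2, 3, 2, 0, 1],
  [141, 3, 2, 3, 4, 1, 2, 3, 2, 0, 1],
  [143, 0, 1, 2, 3, 4, 2, 3, 2, 0, 1],
  [145, 1, 2, 3, 4, 0, 1, 2, 3, 2, 1],
  [146, 3, 2, 3, 4, 0, 1, 2, 3, 2, 1],
  [148, 0, 1, 2, 3, 4, 1, 2, 3, 2, 1],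
  [149, 3, 1, 2, 3, 4, 1, 2, 3, 2, 1],
  [151, 4, 3, 2, 3, 4, 1, 2, 3, 2, 1],
  [154, 1, 0, 1, 2, 3, 4, 2, 3, 2, 1],
  [156, 1, 2, 3, 4, 2, 3, 2, 0, 1, 0, 1],
  [157, 2, 3, 4, 1, 2, 3, 1, 2, 1, 0, 1],
  [158, 1, 2, 3, 4, 2, 3, 1, 2, 1, 0, 1],
  [159, 1, 2, 3, 4, 1, 2, 3, 2, 1, 0, 1],
  [160, 3, 2, 3, 4, 1, 2, 3, 2, 1, 0, 1],
  [161, 0, 1, 2, 3, 4, 2, 3, 2, 1, 0, 1],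
  [162, 0, 1, 0, 1, 2, 3, 4, 2, 3, 2, 0, 1],
  [163, 1, 2, 3, 4, 2, 3, 0, 1, 2, 0, 1],
  [164, 3, 4, 1, 0, 1, 2, 3, 1, 2, 0, 1],
  [167, 2, 3, 4, 0, 1, 2, 3, 1, 2, 0, 1],
  [170, 2, 3, 4, 3, 1, 2, 3, 1, 2, 0, 1],
  [172, 1, 2, 3, 4, 1, 2, 3, 1, 2, 0, 1],
  [173, 3, 2, 3, 4, 1, 2, 3, 1, 2, 0, 1],
  [175, 2, 3, 4, 2, 3, 2, 3, 1, 2, 0, 1],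
  [176, 1, 2, 3, 4, 3, 2, 3, 1, 2, 0, 1],
  [177, 3, 2, 3, 4, 3, 2, 3, 1, 2, 0, 1],
  [178, 0, 1, 2, 3, 4, 2, 3, 1, 2, 0, 1],
  [179, 3, 2, 0, 1, 0, 1, 2, 3, 4, 2, 3, 2, 1],
  [180, 1, 2, 3, 4, 1, 0, 1, 2, 3, 2, 1],
  [181, 1, 2, 3, 4, 0, 1, 2, 3, 2, 0, 1],
  [182, 3, 2, 3, 4, 0, 1, 2, 3, 2, 0, 1],
  [184, 0, 1, 2, 3, 4, 1, 2, 3, 2, 0, 1],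
  [185, 3, 1, 2, 3, 4, 1, 2, 3, 2, 0, 1],
  [187, 2, 3, 2, 3, 4, 1, 2, 3, 2, 0, 1],
  [188, 4, 3, 2, 3, 4, 1, 2, 3, 2, 0, 1],
  [191, 1, 0, 1, 2, 3, 4, 2, 3, 2, 0, 1],
  [193, 0, 1, 2, 3, 4, 0, 1, 2, 3, 2, 1],
  [194, 3, 1, 2, 3, 4, 0, 1, 2, 3, 2, 1],
  [195, 3, 2, 3, 1, 2, 3, 4, 0, 1, 2, 3, 2, 1],
  [196, 4, 3, 2, 3, 4, 0, 1, 2, 3, 2, 1],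
  [199, 1, 0, 1, 2, 3, 4, 1, 2, 3, 2, 1],
  [200, 3, 0, 1, 2, 3, 4, 1, 2, 3, 2, 1],
  [202, 2, 3, 1, 2, 3, 4, 1, 2, 3, 2, 1],
  [203, 4, 3, 1, 2, 3, 4, 1, 2, 3, 2, 1],
  [208, 0, 1, 0, 1, 2, 3, 4, 2, 3, 2, 1],
  [209, 2, 1, 0, 1, 2, 3, 4, 2, 3, 2, 1],
  [210, 0, 1, 2, 3, 4, 2, 3, 2, 0, 1, 0, 1],
  [212, 1, 2, 3, 4, 1, 2, 3, 1, 2, 1, 0, 1],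
  [213, 3, 2, 3, 4, 1, 2, 3, 1, 2, 1, 0, 1],
  [214, 0, 1, 2, 3, 4, 2, 3, 1, 2, 1, 0, 1],
  [215, 0, 1, 2, 3, 4, 1, 2, 3, 1, 2, 1, 0, 1],
  [216, 0, 1, 2, 3, 4, 1, 2, 3, 2, 1, 0, 1],
  [217, 3, 1, 2, 3, 4, 1, 2, 3, 2, 1, 0, 1],
  [218, 1, 0, 1, 2, 3, 4, 2, 3, 1, 2, 1, 0, 1],
  [219, 2, 3, 2, 3, 4, 1, 2, 3, 2, 1, 0, 1],
  [220, 1, 0, 1, 2, 3, 4, 2, 3, 2, 1, 0, 1],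
  [221, 0, 1, 2, 3, 4, 2, 3, 0, 1, 2, 0, 1],
  [222, 2, 0, 1, 0, 1, 2, 3, 4, 2, 3, 2, 1],
  [223, 2, 3, 4, 1, 0, 1, 2, 3, 1, 2, 0, 1],
  [226, 1, 2, 3, 4, 0, 1, 2, 3, 1, 2, 0, 1],
  [229, 1, 2, 3, 4, 3, 1, 2, 3, 1, 2, 0, 1],
  [230, 3, 2, 3, 4, 3, 1, 2, 3, 1, 2, 0, 1],
  [232, 0, 1, 2, 3, 4, 1, 2, 3, 1, 2, 0, 1],
  [233, 3, 1, 2, 3, 4, 1, 2, 3, 1, 2, 0, 1],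
  [234, 3, 1, 0, 1, 2, 3, 4, 1, 2, 3, 2, 0, 1],
  [235, 4, 3, 2, 3, 4, 1, 2, 3, 1, 2, 0, 1],
  [238, 1, 2, 3, 4, 2, 3, 2, 3, 1, 2, 0, 1],
  [239, 0, 1, 2, 3, 4, 3, 2, 3, 1, 2, 0, 1],
  [240, 3, 1, 2, 3, 4, 3, 2, 3, 1, 2, 0, 1],
  [241, 3, 2, 0, 1, 0, 1, 2, 3, 4, 1, 2, 3, 2, 1],
  [242, 1, 0, 1, 2, 3, 4, 2, 3, 1, 2, 0, 1],
  [243, 3, 2, 1, 0, 1, 2, 3, 4, 2, 3, 2, 1],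
  [244, 3, 0, 1, 2, 3, 4, 1, 2, 3, 1, 2, 1, 0, 1],
  [245, 0, 1, 2, 3, 4, 1, 0, 1, 2, 3, 2, 1],
  [246, 0, 1, 2, 3, 4, 0, 1, 2, 3, 2, 0, 1],
  [247, 3, 1, 2, 3, 4, 0, 1, 2, 3, 2, 0, 1],
  [248, 4, 3, 2, 3, 1, 2, 3, 4, 0, 1, 2, 3, 2, 1],
  [249, 4, 3, 2, 3, 4, 0, 1, 2, 3, 2, 0, 1],
  [252, 1, 0, 1, 2, 3, 4, 1, 2, 3, 2, 0, 1],
  [253, 3, 0, 1, 2, 3, 4, 1, 2, 3, 2, 0, 1],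
  [255, 2, 3, 1, 2, 3, 4, 1, 2, 3, 2, 0, 1],
  [256, 4, 3, 1, 2, 3, 4, 1, 2, 3, 2, 0, 1],
  [259, 1, 2, 3, 2, 3, 4, 1, 2, 3, 2, 0, 1],
  [260, 4, 2, 3, 2, 3, 4, 1, 2, 3, 2, 0, 1],
  [264, 2, 1, 0, 1, 2, 3, 4, 2, 3, 2, 0, 1],
  [266, 1, 0, 1, 2, 3, 4, 0, 1, 2, 3, 2, 1],
  [267, 3, 0, 1, 2, 3, 4, 0, 1, 2, 3, 2, 1],
  [268, 2, 3, 1, 2, 3, 4, 1, 2, 3, 1, 2, 1, 0, 1],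
  [269, 2, 3, 1, 2, 3, 4, 0, 1, 2, 3, 2, 1],
  [270, 4, 3, 1, 2, 3, 4, 0, 1, 2, 3, 2, 1],
  [271, 3, 2, 3, 1, 2, 3, 4, 1, 2, 3, 2, 1],
  [275, 0, 1, 0, 1, 2, 3, 4, 1, 2, 3, 2, 1],
  [276, 2, 1, 0, 1, 2, 3, 4, 1, 2, 3, 2, 1],
  [277, 3, 1, 0, 1, 2, 3, 4, 1, 2, 3, 2, 1],
  [278, 4, 3, 1, 2, 3, 4, 1, 2, 3, 1, 2, 0, 1],
  [279, 2, 3, 0, 1, 2, 3, 4, 1, 2, 3, 2, 1],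
  [280, 4, 3, 0, 1, 2, 3, 4, 1, 2, 3, 2, 1],
  [283, 4, 2, 3, 1, 2, 3, 4, 1, 2, 3, 2, 1],
  [287, 1, 0, 1, 2, 3, 4, 2, 3, 2, 0, 1, 0, 1],
  [290, 3, 1, 2, 3, 4, 1, 2, 3, 1, 2, 1, 0, 1],
  [291, 1, 0, 1, 2, 3, 4, 1, 2, 3, 2, 1, 0, 1],
  [292, 3, 0, 1, 2, 3, 4, 1, 2, 3, 2, 1, 0, 1],
  [293, 2, 3, 1, 2, 3, 4, 1, 2, 3, 2, 1, 0, 1],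
  [294, 1, 0, 1, 2, 3, 4, 1, 0, 1, 2, 3, 2, 1],
  [295, 1, 2, 3, 2, 3, 4, 1, 2, 3, 2, 1, 0, 1],
  [296, 0, 1, 0, 1, 2, 3, 4, 2, 3, 2, 1, 0, 1],
  [297, 2, 1, 0, 1, 2, 3, 4, 2, 3, 2, 1, 0, 1],
  [298, 1, 0, 1, 2, 3, 4, 2, 3, 0, 1, 2, 0, 1],
  [299, 1, 2, 3, 4, 1, 0, 1, 2, 3, 1, 2, 0, 1],
  [300, 3, 2, 3, 4, 1, 0, 1, 2, 3, 1, 2, 0, 1],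
  [303, 0, 1, 2, 3, 4, 0, 1, 2, 3, 1, 2, 0, 1],
  [304, 0, 1, 2, 3, 4, 3, 1, 2, 3, 1, 2, 0, 1],
  [305, 3, 1, 2, 3, 4, 3, 1, 2, 3, 1, 2, 0, 1],
  [306, 4, 3, 1, 0, 1, 2, 3, 4, 1, 2, 3, 2, 0, 1],
  [307, 4, 3, 2, 3, 4, 3, 1, 2, 3, 1, 2, 0, 1],
  [310, 1, 0, 1, 2, 3, 4, 1, 2, 3, 1, 2, 0, 1],
  [311, 2, 3, 2, 1, 0, 1, 2, 3, 4, 2, 3, 2, 1],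
  [312, 0, 1, 2, 3, 4, 2, 3, 2, 3, 1, 2, 0, 1],
  [313, 0, 1, 2, 3, 2, 3, 4, 1, 2, 3, 2, 1, 0, 1],
  [314, 1, 0, 1, 2, 3, 4, 3, 2, 3, 1, 2, 0, 1],
  [315, 3, 0, 1, 2, 3, 4, 3, 2, 3, 1, 2, 0, 1],
  [316, 3, 2, 1, 0, 1, 2, 3, 4, 1, 2, 3, 2, 1],
  [317, 2, 3, 1, 2, 3, 4, 3, 2, 3, 1, 2, 0, 1],
  [318, 2, 0, 1, 0, 1, 2, 3, 4, 1, 2, 3, 2, 1],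
  [319, 0, 1, 0, 1, 2, 3, 4, 2, 3, 1, 2, 0, 1],
  [320, 2, 1, 0, 1, 2, 3, 4, 2, 3, 1, 2, 0, 1],
  [321, 1, 0, 1, 2, 3, 4, 0, 1, 2, 3, 2, 0, 1],
  [322, 3, 0, 1, 2, 3, 4, 0, 1, 2, 3, 2, 0, 1],
  [323, 1, 2, 3, 1, 2, 3, 4, 1, 2, 3, 2, 1, 0, 1],
  [324, 2, 3, 1, 2, 3, 4, 0, 1, 2, 3, 2, 0, 1],
  [325, 4, 3, 1, 2, 3, 4, 0, 1, 2, 3, 2, 0, 1],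
  [326, 2, 1, 0, 1, 2, 3, 4, 1, 2, 3, 2, 1, 0, 1],
  [327, 4, 3, 2, 3, 1, 2, 3, 4, 1, 2, 3, 2, 1],
  [331, 0, 1, 0, 1, 2, 3, 4, 1, 2, 3, 2, 0, 1],
  [332, 2, 1, 0, 1, 2, 3, 4, 1, 2, 3, 2, 0, 1],
  [333, 4, 3, 0, 1, 2, 3, 4, 1, 2, 3, 2, 0, 1],
  [334, 1, 2, 3, 1, 2, 3, 4, 1, 2, 3, 2, 0, 1],
  [335, 4, 2, 3, 1, 2, 3, 4, 1, 2, 3, 2, 0, 1],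
  [338, 0, 1, 2, 3, 2, 3, 4, 1, 2, 3, 2, 0, 1],
  [339, 4, 1, 2, 3, 2, 3, 4, 1, 2, 3, 2, 0, 1],
  [340, 3, 4, 2, 3, 2, 3, 4, 1, 2, 3, 2, 0, 1],
  [344, 0, 1, 0, 1, 2, 3, 4, 0, 1, 2, 3, 2, 1],
  [345, 2, 1, 0, 1, 2, 3, 4, 0, 1, 2, 3, 2, 1],
  [346, 3, 1, 0, 1, 2, 3, 4, 0, 1, 2, 3, 2, 1],
  [347, 2, 3, 0, 1, 2, 3, 4, 0, 1, 2, 3, 2, 1],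
  [348, 4, 3, 0, 1, 2, 3, 4, 0, 1, 2, 3, 2, 1],
  [349, 4, 2, 3, 1, 2, 3, 4, 0, 1, 2, 3, 2, 1],
  [352, 3, 0, 1, 0, 1, 2, 3, 4, 1, 2, 3, 2, 1],
  [353, 2, 3, 1, 0, 1, 2, 3, 4, 1, 2, 3, 2, 1],
  [354, 4, 3, 1, 0, 1, 2, 3, 4, 1, 2, 3, 2, 1],
  [355, 4, 3, 1, 2, 3, 4, 3, 1, 2, 3, 1, 2, 0, 1],
  [356, 1, 2, 3, 0, 1, 2, 3, 4, 1, 2, 3, 2, 1],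
  [357, 4, 2, 3, 0, 1, 2, 3, 4, 1, 2, 3, 2, 1],
  [360, 3, 4, 2, 3, 1, 2, 3, 4, 1, 2, 3, 2, 1],
  [362, 0, 1, 0, 1, 2, 3, 4, 2, 3, 2, 0, 1, 0, 1],
  [365, 0, 1, 0, 1, 2, 3, 4, 1, 2, 3, 2, 1, 0, 1],
  [366, 2, 0, 1, 0, 1, 2, 3, 4, 2, 3, 2, 1, 0, 1],
  [367, 0, 1, 0, 1, 2, 3, 4, 2, 3, 0, 1, 2, 0, 1],
  [368, 2, 1, 0, 1, 2, 3, 4, 2, 3, 0, 1, 2, 0, 1],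
  [369, 3, 1, 0, 1, 2, 3, 4, 3, 2, 3, 1, 2, 0, 1],
  [370, 0, 1, 2, 3, 4, 1, 0, 1, 2, 3, 1, 2, 0, 1],
  [371, 3, 1, 2, 3, 4, 1, 0, 1, 2, 3, 1, 2, 0, 1],
  [373, 1, 0, 1, 2, 3, 4, 3, 1, 2, 3, 1, 2, 0, 1],
  [374, 3, 0, 1, 2, 3, 4, 3, 1, 2, 3, 1, 2, 0, 1],
  [375, 2, 3, 2, 1, 0, 1, 2, 3, 4, 1, 2, 3, 2, 1],
  [376, 2, 3, 1, 2, 3, 4, 3, 1, 2, 3, 1, 2, 0, 1],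
  [377, 3, 2, 1, 0, 1, 2, 3, 4, 0, 1, 2, 3, 2, 1],
  [378, 3, 2, 3, 1, 2, 3, 4, 3, 2, 3, 1, 2, 0, 1],
  [379, 3, 2, 1, 0, 1, 2, 3, 4, 2, 3, 1, 2, 0, 1],
  [380, 3, 1, 0, 1, 2, 3, 4, 0, 1, 2, 3, 2, 0, 1],
  [381, 2, 3, 0, 1, 2, 3, 4, 0, 1, 2, 3, 2, 0, 1],
  [382, 4, 3, 0, 1, 2, 3, 4, 0, 1, 2, 3, 2, 0, 1],
  [385, 3, 4, 1, 2, 3, 2, 3, 4, 1, 2, 3, 2, 0, 1],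
  [388, 3, 0, 1, 0, 1, 2, 3, 4, 0, 1, 2, 3, 2, 1],
  [389, 2, 3, 1, 0, 1, 2, 3, 4, 0, 1, 2, 3, 2, 1],
  [390, 4, 3, 1, 0, 1, 2, 3, 4, 0, 1, 2, 3, 2, 1],
  [391, 4, 2, 3, 0, 1, 2, 3, 4, 0, 1, 2, 3, 2, 1],
  [393, 2, 3, 0, 1, 0, 1, 2, 3, 4, 1, 2, 3, 2, 1],
  [394, 4, 3, 0, 1, 0, 1, 2, 3, 4, 1, 2, 3, 2, 1],
  [395, 1, 2, 3, 1, 0, 1, 2, 3, 4, 1, 2, 3, 2, 1],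
  [396, 3, 2, 3, 1, 0, 1, 2, 3, 4, 1, 2, 3, 2, 1],
  [397, 3, 2, 3, 1, 2, 3, 4, 3, 1, 2, 3, 1, 2, 0, 1],
  [398, 4, 1, 2, 3, 0, 1, 2, 3, 4, 1, 2, 3, 2, 1],
  [399, 3, 4, 2, 3, 0, 1, 2, 3, 4, 1, 2, 3, 2, 1],
  [400, 2, 3, 1, 2, 3, 4, 1, 0, 1, 2, 3, 1, 2, 0, 1],
  [401, 2, 3, 0, 1, 2, 3, 4, 3, 1, 2, 3, 1, 2, 0, 1],
  [402, 2, 3, 2, 1, 0, 1, 2, 3, 4, 0, 1, 2, 3, 2, 1],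
  [403, 2, 3, 2, 3, 1, 2, 3, 4, 3, 2, 3, 1, 2, 0, 1],
  [404, 2, 3, 1, 0, 1, 2, 3, 4, 0, 1, 2, 3, 2, 0, 1],
  [405, 2, 3, 4, 1, 2, 3, 2, 3, 4, 1, 2, 3, 2, 0, 1],
  [406, 2, 3, 0, 1, 0, 1, 2, 3, 4, 0, 1, 2, 3, 2, 1],
  [407, 4, 3, 0, 1, 0, 1, 2, 3, 4, 0, 1, 2, 3, 2, 1],
  [408, 3, 2, 3, 1, 0, 1, 2, 3, 4, 0, 1, 2, 3, 2, 1],
  [409, 1, 2, 3, 0, 1, 0, 1, 2, 3, 4, 1, 2, 3, 2, 1],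
  [410, 3, 2, 3, 0, 1, 0, 1, 2, 3, 4, 1, 2, 3, 2, 1],
  [411, 3, 1, 2, 3, 1, 0, 1, 2, 3, 4, 1, 2, 3, 2, 1],
  [412, 1, 2, 3, 0, 1, 0, 1, 2, 3, 4, 0, 1, 2, 3, 2, 1],
  [413, 3, 2, 3, 0, 1, 0, 1, 2, 3, 4, 0, 1, 2, 3, 2, 1],
  [414, 3, 1, 2, 3, 0, 1, 0, 1, 2, 3, 4, 1, 2, 3, 2, 1],
  [415, 3, 1, 2, 3, 0, 1, 0, 1, 2, 3, 4, 0, 1, 2, 3, 2, 1]]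

/-- the orbit of the third base point under the stabiliser of the earlier ones -/
def lvl3 : List (List Nat) := [[2],
  [3, 0],
  [4, 2],
  [6, 2, 0],
  [7, 3, 2],
  [11, 2, 1, 0, 2, 1, 0, 1, 3, 2, 3, 1, 2, 0, 1, 0, 1],
  [12, 1, 0, 2, 1, 0, 1, 3, 2, 3, 1, 2, 0, 1, 0, 1, 0],
  [13, 4, 3, 2],
  [20, 1, 0, 2, 1, 0, 1, 3, 2, 3, 1, 2, 0, 1, 0, 1],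
  [21, 4, 2, 1, 0, 2, 1, 0, 1, 3, 2, 3, 1, 2, 0, 1, 0, 1],
  [23, 4, 1, 0, 2, 1, 0, 1, 3, 2, 3, 1, 2, 0, 1, 0, 1, 0],
  [35, 4, 1, 0, 2, 1, 0, 1, 3, 2, 3, 1, 2, 0, 1, 0, 1],
  [39, 3, 4, 1, 0, 2, 1, 0, 1, 3, 2, 3, 1, 2, 0, 1, 0, 1, 0],
  [58, 3, 4, 1, 0, 2, 1, 0, 1, 3, 2, 3, 1, 2, 0, 1, 0, 1],
  [63, 2, 3, 4, 1, 0, 2, 1, 0, 1, 3, 2, 3, 1, 2, 0, 1, 0, 1, 0],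
  [84, 2, 3, 4, 1, 0, 2, 1, 0, 1, 3, 2, 3, 1, 2, 0, 1, 0, 1],
  [226, 1, 0, 2, 1, 0, 1, 3, 2, 3, 1, 2, 0, 1, 0, 1, 4, 2, 1, 0, 2, 1, 0, 1, 3, 2, 3, 1, 2, 0, 1, 0, 1],
  [259, 3, 1, 0, 2, 1, 0, 1, 3, 2, 3, 1, 2, 0, 1, 0, 1, 4, 2, 1, 0, 2, 1, 0, 1, 3, 2, 3, 1, 2, 0, 1, 0, 1],
  [299, 1, 0, 2, 1, 0, 1, 3, 2, 3, 1, 2, 0, 1, 0, 1, 4, 1, 0, 2, 1, 0, 1, 3, 2, 3, 1, 2, 0, 1, 0, 1, 0],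
  [303, 1, 0, 2, 1, 0, 1, 3, 2, 3, 1, 2, 0, 1, 0, 1, 4, 3, 2],
  [334, 3, 1, 0, 2, 1, 0, 1, 3, 2, 3, 1, 2, 0, 1, 0, 1, 3, 4, 1, 0, 2, 1, 0, 1, 3, 2, 3, 1, 2, 0, 1, 0, 1, 0],
  [338, 3, 1, 0, 2, 1, 0, 1, 3, 2, 3, 1, 2, 0, 1, 0, 1, 4, 3, 2],
  [339, 3, 1, 0, 2, 1, 0, 1, 3, 2, 3, 1, 2, 0, 1, 0, 1, 3, 4, 1, 0, 2, 1, 0, 1, 3, 2, 3, 1, 2, 0, 1, 0, 1],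
  [356, 1, 0, 2, 1, 0, 1, 3, 2, 3, 1, 2, 0, 1, 0, 1, 3, 4, 1, 0, 2, 1, 0, 1, 3, 2, 3, 1, 2, 0, 1, 0, 1, 0],
  [370, 1, 0, 2, 1, 0, 1, 3, 2, 3, 1, 2, 0, 1, 0, 1, 4, 1, 0, 2, 1, 0, 1, 3, 2, 3, 1, 2, 0, 1, 0, 1],
  [371, 1, 0, 2, 1, 0, 1, 3, 2, 3, 1, 2, 0, 1, 2, 1, 0, 1, 3, 2, 3, 1, 2, 0, 1, 0, 1, 4, 1, 0, 2, 1, 0, 1, 3, 2, 3, 1, 2, 0, 1, 0, 1],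
  [385, 1, 0, 2, 1, 0, 1, 3, 2, 3, 1, 2, 0, 1, 0, 1, 3, 4, 1, 0, 2, 1, 0, 1, 3, 2, 3, 1, 2, 0, 1, 0, 1],
  [395, 1, 0, 2, 1, 0, 1, 3, 2, 3, 1, 2, 0, 1, 0, 1, 2, 3, 4, 1, 0, 2, 1, 0, 1, 3, 2, 3, 1, 2, 0, 1, 0, 1],
  [398, 3, 1, 0, 2, 1, 0, 1, 3, 2, 3, 1, 2, 0, 1, 0, 1, 4, 1, 0, 2, 1, 0, 1, 3, 2, 3, 1, 2, 0, 1, 0, 1],
  [400, 1, 0, 2, 1, 0, 1, 3, 2, 3, 1, 2, 0, 1, 2, 1, 0, 1, 3, 2, 3, 1, 2, 0, 1, 0, 1, 4, 2, 1, 0, 2, 1, 0, 1, 3, 2, 3, 1, 2, 0, 1, 0, 1],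
  [405, 2, 1, 0, 2, 1, 0, 1, 3, 2, 3, 1, 2, 0, 1, 0, 1, 3, 4, 1, 0, 2, 1, 0, 1, 3, 2, 3, 1, 2, 0, 1, 0, 1],
  [411, 1, 0, 2, 1, 0, 1, 3, 2, 3, 1, 2, 0, 1, 2, 1, 0, 1, 3, 2, 3, 1, 2, 0, 1, 0, 1, 4, 3, 2]]

/-- the orbit of the fourth base point under the stabiliser of the earlier ones -/
def lvl4 : List (List Nat) := [[105],
  [121, 4, 2, 3, 1, 0, 2, 1, 0, 1, 3, 2, 3, 1, 2, 0, 1, 0, 1, 2, 4, 2, 3, 1, 0, 2, 1, 0, 1, 3, 2, 3, 1, 2, 0, 1, 0, 1, 2, 4, 3],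
  [122, 4, 3],
  [124, 3],
  [135, 4],
  [136, 2, 3, 1, 0, 2, 1, 0, 1, 3, 2, 3, 1, 2, 0, 1, 0, 1, 2, 4, 2, 3, 1, 0, 2, 1, 0, 1, 3, 2, 3, 1, 2, 0, 1, 0, 1, 2, 3, 4, 3],
  [137, 4, 2, 3, 1, 0, 2, 1, 0, 1, 3, 2, 3, 1, 2, 0, 1, 0, 1, 2, 4, 2, 3, 1, 0, 2, 1, 0, 1, 3, 2, 3, 1, 2, 0, 1, 0, 1, 2, 4],
  [157, 2, 3, 1, 0, 2, 1, 0, 1, 3, 2, 3, 1, 2, 0, 1, 0, 1, 2, 4, 2, 3, 1, 0, 2, 1, 0, 1, 3, 2, 3, 1, 2, 0, 1, 0, 1, 2, 4, 3],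
  [158, 3, 2, 3, 1, 0, 2, 1, 0, 1, 3, 2, 3, 1, 2, 0, 1, 0, 1, 2, 3, 4],
  [159, 3, 2, 3, 1, 0, 2, 1, 0, 1, 3, 2, 3, 1, 2, 0, 1, 0, 1, 2, 4, 2, 3, 1, 0, 2, 1, 0, 1, 3, 2, 3, 1, 2, 0, 1, 0, 1, 2],
  [160, 3, 4, 3],
  [163, 4, 3, 2, 3, 1, 0, 2, 1, 0, 1, 3, 2, 3, 1, 2, 0, 1, 0, 1, 2, 4, 2, 3, 1, 0, 2, 1, 0, 1, 3, 2, 3, 1, 2, 0, 1, 0, 1, 2],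
  [175, 2, 3, 1, 0, 2, 1, 0, 1, 3, 2, 3, 1, 2, 0, 1, 0, 1, 2, 4, 2, 3, 1, 0, 2, 1, 0, 1, 3, 2, 3, 1, 2, 0, 1, 0, 1, 2, 4],
  [176, 3, 4, 2, 3, 1, 0, 2, 1, 0, 1, 3, 2, 3, 1, 2, 0, 1, 0, 1, 2, 4, 2, 3, 1, 0, 2, 1, 0, 1, 3, 2, 3, 1, 2, 0, 1, 0, 1, 2],
  [177, 3, 4],
  [178, 2, 3, 1, 0, 2, 1, 0, 1, 3, 2, 3, 1, 2, 0, 1, 0, 1, 2, 4, 2, 3, 1, 0, 2, 1, 0, 1, 3, 2, 3, 1, 2, 0, 1, 0, 1, 2, 3, 4],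
  [179, 4, 3, 2, 3, 1, 0, 2, 1, 0, 1, 3, 2, 3, 1, 2, 0, 1, 0, 1, 2],
  [180, 2, 3, 1, 0, 2, 1, 0, 1, 3, 2, 3, 1, 2, 0, 1, 0, 1, 2, 3, 4],
  [209, 3, 4, 3, 2, 3, 1, 0, 2, 1, 0, 1, 3, 2, 3, 1, 2, 0, 1, 0, 1, 2, 3],
  [212, 4, 3, 2, 3, 1, 0, 2, 1, 0, 1, 3, 2, 3, 1, 2, 0, 1, 0, 1, 2, 3, 4],
  [213, 3, 2, 3, 1, 0, 2, 1, 0, 1, 3, 2, 3, 1, 2, 0, 1, 0, 1, 2, 4, 2, 3, 1, 0, 2, 1, 0, 1, 3, 2, 3, 1, 2, 0, 1, 0, 1, 2, 4, 3],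
  [214, 3, 2, 3, 1, 0, 2, 1, 0, 1, 3, 2, 3, 1, 2, 0, 1, 0, 1, 2, 3, 4, 3],
  [215, 2, 3, 1, 0, 2, 1, 0, 1, 3, 2, 3, 1, 2, 0, 1, 0, 1, 2, 3, 4, 2, 3, 1, 0, 2, 1, 0, 1, 3, 2, 3, 1, 2, 0, 1, 0, 1, 2, 4],
  [216, 3, 2, 3, 1, 0, 2, 1, 0, 1, 3, 2, 3, 1, 2, 0, 1, 0, 1, 2, 4, 2, 3, 1, 0, 2, 1, 0, 1, 3, 2, 3, 1, 2, 0, 1, 0, 1, 2, 3],
  [217, 2, 3, 1, 0, 2, 1, 0, 1, 3, 2, 3, 1, 2, 0, 1, 0, 1, 2, 4, 2, 3, 1, 0, 2, 1, 0, 1, 3, 2, 3, 1, 2, 0, 1, 0, 1, 2],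
  [218, 3, 4, 2, 3, 1, 0, 2, 1, 0, 1, 3, 2, 3, 1, 2, 0, 1, 0, 1, 2],
  [219, 3, 2, 3, 1, 0, 2, 1, 0, 1, 3, 2, 3, 1, 2, 0, 1, 0, 1, 2, 4, 2, 3, 1, 0, 2, 1, 0, 1, 3, 2, 3, 1, 2, 0, 1, 0, 1, 2, 4],
  [221, 2, 3, 1, 0, 2, 1, 0, 1, 3, 2, 3, 1, 2, 0, 1, 0, 1, 2, 3, 4, 3, 2, 3, 1, 0, 2, 1, 0, 1, 3, 2, 3, 1, 2, 0, 1, 0, 1, 2],
  [222, 3, 4, 3, 2, 3, 1, 0, 2, 1, 0, 1, 3, 2, 3, 1, 2, 0, 1, 0, 1, 2],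
  [238, 4, 2, 3, 1, 0, 2, 1, 0, 1, 3, 2, 3, 1, 2, 0, 1, 0, 1, 2, 3, 4],
  [239, 3, 4, 2, 3, 1, 0, 2, 1, 0, 1, 3, 2, 3, 1, 2, 0, 1, 0, 1, 2, 4, 2, 3, 1, 0, 2, 1, 0, 1, 3, 2, 3, 1, 2, 0, 1, 0, 1, 2, 3],
  [240, 4, 2, 3, 1, 0, 2, 1, 0, 1, 3, 2, 3, 1, 2, 0, 1, 0, 1, 2, 4, 2, 3, 1, 0, 2, 1, 0, 1, 3, 2, 3, 1, 2, 0, 1, 0, 1, 2],
  [241, 3, 2, 3, 1, 0, 2, 1, 0, 1, 3, 2, 3, 1, 2, 0, 1, 0, 1, 2],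
  [242, 4, 2, 3, 1, 0, 2, 1, 0, 1, 3, 2, 3, 1, 2, 0, 1, 0, 1, 2, 4],
  [243, 4, 3, 2, 3, 1, 0, 2, 1, 0, 1, 3, 2, 3, 1, 2, 0, 1, 0, 1, 2, 3],
  [244, 4, 2, 3, 1, 0, 2, 1, 0, 1, 3, 2, 3, 1, 2, 0, 1, 0, 1, 2, 4, 3, 2, 3, 1, 0, 2, 1, 0, 1, 3, 2, 3, 1, 2, 0, 1, 0, 1, 2, 3],
  [245, 2, 3, 1, 0, 2, 1, 0, 1, 3, 2, 3, 1, 2, 0, 1, 0, 1, 2, 3, 4, 3],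
  [264, 3, 4, 2, 3, 1, 0, 2, 1, 0, 1, 3, 2, 3, 1, 2, 0, 1, 0, 1, 2, 3],
  [276, 2, 3, 1, 0, 2, 1, 0, 1, 3, 2, 3, 1, 2, 0, 1, 0, 1, 2, 3],
  [290, 4, 2, 3, 1, 0, 2, 1, 0, 1, 3, 2, 3, 1, 2, 0, 1, 0, 1, 2, 4, 3, 2, 3, 1, 0, 2, 1, 0, 1, 3, 2, 3, 1, 2, 0, 1, 0, 1, 2],
  [291, 3, 4, 3, 2, 3, 1, 0, 2, 1, 0, 1, 3, 2, 3, 1, 2, 0, 1, 0, 1, 2, 4],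
  [292, 2, 3, 1, 0, 2, 1, 0, 1, 3, 2, 3, 1, 2, 0, 1, 0, 1, 2, 4, 2, 3, 1, 0, 2, 1, 0, 1, 3, 2, 3, 1, 2, 0, 1, 0, 1, 2, 3],
  [294, 4, 2, 3, 1, 0, 2, 1, 0, 1, 3, 2, 3, 1, 2, 0, 1, 0, 1, 2],
  [295, 2, 3, 1, 0, 2, 1, 0, 1, 3, 2, 3, 1, 2, 0, 1, 0, 1, 2, 4, 3, 2, 3, 1, 0, 2, 1, 0, 1, 3, 2, 3, 1, 2, 0, 1, 0, 1, 2],
  [298, 3, 4, 2, 3, 1, 0, 2, 1, 0, 1, 3, 2, 3, 1, 2, 0, 1, 0, 1, 2, 4],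
  [312, 4, 2, 3, 1, 0, 2, 1, 0, 1, 3, 2, 3, 1, 2, 0, 1, 0, 1, 2, 3, 4, 3],
  [313, 2, 3, 1, 0, 2, 1, 0, 1, 3, 2, 3, 1, 2, 0, 1, 0, 1, 2, 4, 3, 2, 3, 1, 0, 2, 1, 0, 1, 3, 2, 3, 1, 2, 0, 1, 0, 1, 2, 3],
  [314, 2, 3, 1, 0, 2, 1, 0, 1, 3, 2, 3, 1, 2, 0, 1, 0, 1, 2, 4],
  [315, 4, 2, 3, 1, 0, 2, 1, 0, 1, 3, 2, 3, 1, 2, 0, 1, 0, 1, 2, 4, 2, 3, 1, 0, 2, 1, 0, 1, 3, 2, 3, 1, 2, 0, 1, 0, 1, 2, 3],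
  [316, 3, 2, 3, 1, 0, 2, 1, 0, 1, 3, 2, 3, 1, 2, 0, 1, 0, 1, 2, 3],
  [318, 2, 3, 1, 0, 2, 1, 0, 1, 3, 2, 3, 1, 2, 0, 1, 0, 1, 2],
  [319, 4, 2, 3, 1, 0, 2, 1, 0, 1, 3, 2, 3, 1, 2, 0, 1, 0, 1, 2, 4, 3],
  [320, 2, 3, 1, 0, 2, 1, 0, 1, 3, 2, 3, 1, 2, 0, 1, 0, 1, 2, 4, 3],
  [324, 4, 3, 2, 3, 1, 0, 2, 1, 0, 1, 3, 2, 3, 1, 2, 0, 1, 0, 1, 2, 4],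
  [332, 4, 2, 3, 1, 0, 2, 1, 0, 1, 3, 2, 3, 1, 2, 0, 1, 0, 1, 2, 3],
  [365, 3, 2, 3, 1, 0, 2, 1, 0, 1, 3, 2, 3, 1, 2, 0, 1, 0, 1, 2, 3, 4, 2, 3, 1, 0, 2, 1, 0, 1, 3, 2, 3, 1, 2, 0, 1, 0, 1, 2],
  [367, 3, 4, 2, 3, 1, 0, 2, 1, 0, 1, 3, 2, 3, 1, 2, 0, 1, 0, 1, 2, 4, 3],
  [369, 3, 2, 3, 1, 0, 2, 1, 0, 1, 3, 2, 3, 1, 2, 0, 1, 0, 1, 2, 4],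
  [379, 3, 2, 3, 1, 0, 2, 1, 0, 1, 3, 2, 3, 1, 2, 0, 1, 0, 1, 2, 4, 3],
  [381, 2, 3, 1, 0, 2, 1, 0, 1, 3, 2, 3, 1, 2, 0, 1, 0, 1, 2, 3, 4, 2, 3, 1, 0, 2, 1, 0, 1, 3, 2, 3, 1, 2, 0, 1, 0, 1, 2]]

end Cfsg.Agent.Lib.Helper7.G24B
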