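import Cfsg.Agent.Lib.Helper7.G24Base
import Cfsg.Agent.Lib.Helper7.G24Base2D
import Cfsg.Agent.Lib.Helper7.PermBase4

/-!
# The presented group of type G2 over the field of four elements on 416 points: a word that fixes four points is
trivial

The points `0`, `1`, `2`, `105` form a base: their orbits under the successive stabilisers have 416, 315, 32 and 60
elements, and the group has `416 * 315 * 32 * 60` elements.  So a word in the six letters is trivial as soon as it
fixes these four points.
-/

set_option autoImplicit false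
set_option maxRecDepth 100000

namespace Cfsg.Agent.Lib.Helper7.G24B

open Cfsg Cfsg.Spor Cfsg.Agent.Lib.Helper7.MG Cfsg.Agent.Lib.Helper7.HSMult Cfsg.Agent.Lib.Helper7.PB
open Cfsg.Agent.Lib.Helper6.SuzESub Cfsg.Agent.Lib.Helper6

/-- the check of an entry: its word fixes the earlier base points and moves the base point to the head -/
def entOK (fix : List ℕ) (b : ℕ) (e : List ℕ) : Bool :=
  match e with
  | [] => false
  | q :: w => (w.all fun x => Nat.blt x 6) && (fix.all fun c => Nat.beq (evB w c) c) && Nat.beq (evB w b) q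

/-- the check of a level -/
def lvlOK (fix : List ℕ) (b : ℕ) (l : List (List ℕ)) : Bool := (l.all fun e => entOK fix b e) && incH l

theorem chk_lvl1 : lvlOK [] 0 lvl1 = true := by decide +kernel

theorem chk_lvl2 : lvlOK [0] 1 lvl2 = true := by decide +kernel

theorem chk_lvl3 : lvlOK [0, 1] 2 lvl3 = true := by decide +kernel

theorem chk_lvl4 : lvlOK [0, 1, 2] 105 lvl4 = true := by decide +kernel

theorem chk_len : lvl1.length * lvl2.length * lvl3.length * lvl4.length = 251596800 := by decide +kernel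

theorem φB_apply_val {w : List ℕ} (hw : ∀ x ∈ w, x < 6) (p : Fin 416) :
    (φB (VCert.wd pgen w) p).val = evB w p.val := by
  rw [φB_wd_pgen w hw, wd_pmB_val]

/-- the elements of a level -/
noncomputable def uL (l : List (List ℕ)) (i : Fin l.length) : E6 := VCert.wd pgen (l.get i).tail

theorem ent_spec {fix : List ℕ} {b : ℕ} {l : List (List ℕ)} (h : lvlOK fix b l = true) (i : Fin l.length) :
    (∀ x ∈ (l.get i).tail, x < 6) ∧ (∀ c ∈ fix, evB (l.get i).tail c = c) ∧
      evB (l.get i).tail b = (l.get i).headI := by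
  rw [lvlOK, Bool.and_eq_true] at h
  have h1 := List.all_eq_true.1 h.1 (l.get i) (List.get_mem l i)
  generalize l.get i = e at h1
  cases e with
  | nil => exact absurd h1 (by simp [entOK])
  | cons q w =>
    rw [entOK, Bool.and_eq_true, Bool.and_eq_true] at h1
    obtain ⟨⟨h2, h3⟩, h4⟩ := h1
    refine ⟨?_, ?_, ?_⟩
    · intro x hx
      simpa [Nat.blt] using List.all_eq_true.1 h2 x hx
    · intro c hc
      exact Nat.eq_of_beq_eq_true (List.all_eq_true.1 h3 c hc)
    · exact Nat.eq_of_beq_eq_true h4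

theorem uL_fix {fix : List ℕ} {b : ℕ} {l : List (List ℕ)} (h : lvlOK fix b l = true) (i : Fin l.length)
    (c : Fin 416) (hc : c.val ∈ fix) : φB (uL l i) c = c := by
  obtain ⟨h1, h2, _⟩ := ent_spec h i
  apply Fin.ext
  rw [uL, φB_apply_val h1, h2 c.val hc]

theorem uL_inj {fix : List ℕ} {b : ℕ} {l : List (List ℕ)} (h : lvlOK fix b l = true) (p : Fin 416)
    (hp : p.val = b) : Function.Injective fun i => φB (uL l i) p := by
  intro i j hij
  have h1 := congrArg Fin.val hij
  simp only at h1
  obtain ⟨hi1, _, hi3⟩ := ent_spec h i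
  obtain ⟨hj1, _, hj3⟩ := ent_spec h j
  rw [uL, uL, φB_apply_val hi1, φB_apply_val hj1, hp, hi3, hj3] at h1
  rw [lvlOK, Bool.and_eq_true] at h
  exact head_injective h.2 h1

/-- **a word in the six involutions that fixes the four base points is trivial** -/
theorem wd_pgen_eq_one_of_base {w : List ℕ} (hw : ∀ x ∈ w, x < 6) (h0 : evB w 0 = 0) (h1 : evB w 1 = 1)
    (h2 : evB w 2 = 2) (h3 : evB w 105 = 105) : VCert.wd pgen w = 1 := by
  refine eq_one_of_fix4 φB (⟨0, by norm_num⟩ : Fin 416) ⟨1, by norm_num⟩ ⟨2, by norm_num⟩ ⟨105, by norm_num⟩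
    lvl1.length lvl2.length lvl3.length lvl4.length (by rw [card_E6, chk_len])
    (uL lvl1) (uL_inj chk_lvl1 _ rfl)
    (uL lvl2) (fun j => uL_fix chk_lvl2 j _ (by simp)) (uL_inj chk_lvl2 _ rfl)
    (uL lvl3) (fun k => ⟨uL_fix chk_lvl3 k _ (by simp), uL_fix chk_lvl3 k _ (by simp)⟩) (uL_inj chk_lvl3 _ rfl)
    (uL lvl4) (fun k => ⟨uL_fix chk_lvl4 k _ (by simp), uL_fix chk_lvl4 k _ (by simp),
      uL_fix chk_lvl4 k _ (by simp)⟩) (uL_inj chk_lvl4 _ rfl)
    (VCert.wd pgen w) ?_ ?_ ?_ ?_
  · apply Fin.ext; rw [φB_apply_val hw]; exact h0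
  · apply Fin.ext; rw [φB_apply_val hw]; exact h1
  · apply Fin.ext; rw [φB_apply_val hw]; exact h2
  · apply Fin.ext; rw [φB_apply_val hw]; exact h3

/-- the check that a word in the six letters fixes the four base points -/
def base6 (w : List ℕ) : Bool :=
  strictL (expW w) fun w' => Nat.beq (evB w' 0) 0 && Nat.beq (evB w' 1) 1 && Nat.beq (evB w' 2) 2 &&
    Nat.beq (evB w' 105) 105

/-- **a word in the six letters that fixes the four base points is trivial** -/
theorem wd_lK_eq_one_of_base {w : List ℕ} (h : base6 w = true) : VCert.wd lK w = 1 := by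
  rw [base6, strictL_eq, Bool.and_eq_true, Bool.and_eq_true, Bool.and_eq_true] at h
  rw [wd_lK_expW]
  exact wd_pgen_eq_one_of_base (expW_lt w) (Nat.eq_of_beq_eq_true h.1.1.1) (Nat.eq_of_beq_eq_true h.1.1.2)
    (Nat.eq_of_beq_eq_true h.1.2) (Nat.eq_of_beq_eq_true h.2)

/-- the check that a word in the first four letters fixes the four base points -/
def base4 (w : List ℕ) : Bool := (w.all fun x => Nat.blt x 4) && base6 w

theorem wd_lK1_eq_one_of_base {w : List ℕ} (h : base4 w = true) : VCert.wd lK1 w = 1 := by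
  rw [base4, Bool.and_eq_true] at h
  apply Subtype.ext
  rw [wd_lK1_val w fun x hx => by simpa [Nat.blt] using List.all_eq_true.1 h.1 x hx, wd_lK_eq_one_of_base h.2]
  rfl

end Cfsg.Agent.Lib.Helper7.G24B
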