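import Cfsg.Agent.Lib.Helper7.G24LU
import Cfsg.Agent.Lib.Helper7.MGenH

/-!
# The multiplier of the group of type G2 over the field of four elements, the table over L: the kernel of every
finite stem extension of the presented group has at most two elements

In a finite stem extension the derived subgroup of the preimage of `L` is a copy of `L`, since `L` is perfect and has
no proper stem extensions; the first four letters are lifted into this copy, so that all the words in these letters
that are trivial in the group are trivial in the extension.  The lift of the fifth letter is chosen so that one more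
given word is trivial; this is possible since the kernel has order prime to seven, the Sylow subgroups for this
prime being cyclic.  The checked table over the copy of `L` shows that the kernel is generated by the values of the
other given words; the traced words give relations between them, which make them, up to seventh powers, powers of
one of them whose square is trivial.
-/

set_option autoImplicit false
set_option maxRecDepth 100000

namespace Cfsg.Agent.Lib.Helper7.G24T

open Cfsg Cfsg.Spor Cfsg.Agent.Lib.Helper7.MG Cfsg.Agent.Lib.Helper7.HSMult Cfsg.Agent.Lib.Helper7.G24B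
open Cfsg.Agent.Lib.Helper7.M12Mult Cfsg.Agent.Lib.Helper6.SuzESub
open scoped IsMulCommutative

/-! ### the data of the certificate -/

/-- the words that define the central elements -/
def axI : ℕ → ℕ
  | 0 => 3
  | 1 => 5
  | 2 => 23
  | 3 => 8
  | 4 => 9
  | 5 => 124
  | 6 => 25
  | 7 => 208
  | 8 => 6
  | _ => 0

theorem axI_lt : ∀ j, axI j < 215
  | 0 => by decide
  | 1 => by decide
  | 2 => by decide
  | 3 => by decide
  | 4 => by decide
  | 5 => by decide
  | 6 => by decide
  | 7 => by decide
  | 8 => by decide
  | _ + 9 => by
    show (0 : ℕ) < 215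
    decide

/-- the word of which a power is the trivial word that is not a word in the first four letters -/
def yW : List ℕ := [4, 2]

theorem chk_wT : ∀ i, i < 215 → cert.wT i = 0 →
    (((cert.W i).all fun x => Nat.blt x 4) = true ∧
      ∀ l, l < 9 → ((fld (cert.rhs i) l : ℤ) - ((cert.W i).length : ℤ) * (cert.B : ℤ)) = 0) ∨
    i = 2 ∨ ∃ j, j < 9 ∧ i = axI j := by decide +kernel

theorem chk_W3 : cert.W 2 = wpow 7 yW := by decide +kernel

theorem chk_yW : expsumL 4 5 (wpow 7 yW) = 7 := by decide

theorem chk_len : ∀ i, i < 215 → (cert.W i).length ≤ 255 := by decide +kernel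

theorem chk_ax : ∀ j, j < 9 → ∀ l, l < 9 →
    ((fld (cert.rhs (axI j)) l : ℤ) - ((cert.W (axI j)).length : ℤ) * (cert.B : ℤ)) = if l = j then 1 else 0 := by
  decide +kernel

theorem chk_ex : ∀ l, l < 9 →
    ((fld (cert.rhs 2) l : ℤ) - ((cert.W 2).length : ℤ) * (cert.B : ℤ)) = 0 := by
  decide +kernel

/-- the relations between the central elements that the traced words give -/
def relL : List (List ℤ) := [[(-25), (-31), (-25), (-30), 35, 9, 28, (-27), 41],
    [274, (-57), (-43), (-209), 108, 101, 12, 62, (-79)],
    [(-19), 37, (-25), 3, (-42), 14, 8, 40, (-13)],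
    [85, (-49), 5, (-113), 96, 3, (-20), 18, 23],
    [(-21), (-31), 11, 69, 59, (-92), 48, (-37), 33],
    [151, (-39), 45, 59, 39, (-168), 25, (-124), 21],
    [45, 14, (-36), (-128), (-71), 112, (-30), 114, 10],
    [82, 25, (-47), (-134), 96, (-90), (-73), 118, 121],
    [(-115), 50, (-33), 1, (-29), 139, (-18), 26, (-28)],
    [12, 50, 5, (-11), 71, (-128), 104, 0, (-72)]]

/-- the generator of the kernel as a product of powers of the central elements -/
def cL : List ℤ := [0, 1, 0, 0, 0, 0, 0, 0, 0]

/-- the central elements as powers of the generator -/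
def mL : List ℤ := [0, 1, 0, 0, 0, 0, 0, 0, 1]

/-- the combinations of the relations that express the central elements by the generator -/
def lamL : List (List ℤ) := [[(-827934308218711955602322568134905555207089807714639596175962317607511), (-1340124701695245451904451513815523140959656529084555531895340275822538), 10518730021634732366281185105069354581531339641832673261017086998092024, 7276163522325792293149555425737317660763181617458080162125376499603034, 769778596210275310676539263517630695693575426649788915222365135451115, 1647379807055736932602327869267983891747007691293474443510625533893863, (-854490718309806718123864828225319355243076347089178894056620860031113), (-1599483675386326330903868249744664978694785339797047289999453541430117), 1073895408982403013052751349146665226727040129924838289336739605995767, (-966958586167255197882892369483373758726580792896294870884564654386567)],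
    [0, 0, 0, 0, 0, 0, 0, 0, 0, 0],
    [676714725150681442354442144115210523543804468915037070034782748, 1095355163052102574530649210117679301902731537239752302777810226, (-8597517248487291294072222941689773317204358755374582424953079737), (-5947195265715924408223756240947779929089952150457312190708097879), (-629180970024139219300911061286175394935131167297410885012545574), (-1346491095107526263833710954300457809507044513106160107904135379), 698420690922831352009742977330027515175678219180601779049356812, 1307343040416834672340711894294369769844389027179711604051598719, (-877751808707667033124705910566864951293528489765628987142632583), 790346658393829183413620617022679378836213125567670710269621510],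
    [21913634922631405055452769983625515253049212373935367163396, 35470209619568230208286635891356676450366774180720930514922, (-278408090177771795107417900445406094898110541840468634061772), (-192584350573251900024535405306747853341706850822090183800364), (-20374378693039433501003520530504198877453337401891310280108), (-43602589374999030954052750325208315862468887106217609092617), 22616525803967131272945840344204069888082368819408739739373, 42334882102585232825121745152017328258248382712939544317097, (-28423694614324063384540628826935196120841575664326872122712), 25593307623840477228043624406956347306345241300560502880902],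
    [11618680489434227823724716266821266749388527840295481, 18806420473739112148441203204272048256910578427534274, (-147612874672308950365213098159074892901453580555044072), (-102108848873124950207891172243968280571395198379204820), (-10802561831523649040970325878440279948017722373969883), (-23118234662973018228394276228526087714956906304369723), 11991355520208901890418959309433318242133467818939512, 22446092145115492526513112965404681513600025942135743, (-15070335305806380464820124374574767549655358457751951), 13569654920284506215153761359273601884227901575595465],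
    [25092933233094789976819074151902273040483113805, 40616337950784119124790333065115415667098682761, (-318800401806884170851203436027634804801234226437), (-220525087131151285968468571288535856848911831652), (-23330356922311817651197420825323563895780730051), (-49928588654497700786227511776280019241960379251), 25897801709629151984221829309801783806867873697, 48476958468173125560109380370276179358491876233, (-32547492632475783375500976132401675091124817969), 29306464294330216251544462109415660308414488221],
    [16343412824194147085168794230922103600, 26454044745201710500038015979276237343, (-207639598242627482203745106760991706861), (-143631376355887296797758216586679757447), (-15195419801071658939963204423380934366), (-32519256658030482819848812721481074485), 16867636025164221051652216382877335671, 31573787621677478749419073939565681994, (-21198681857703399690501619658686175348), 19087750321195580410886518824180578540],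
    [(-3068186535892774571243187092), (-4966278755865360861770234114), 38980660067713080958062577158, 26964249132500905985974025985, 2852671161305341395111109111, 6104914959237117351719783298, (-3166600164938353057095682987), (-5927419879191934791334383058), 3979677375474178886726236037, (-3583387335678033095062539169)],
    [2075074211652536321625667918688117045483533253135932883401108930935, 3358790886283388728381552888160776417860532930780257163523115198691, (-26363378338784304320541187795600680930097223302105618846816614017273), (-18236445977736444453556432604484674969907475379712437711923076230253), (-1929316973365558896262802874704434333576637499677737037475732733561), (-4128872690121034201146421167786347053300897416467564869603766353113), 2141633262518130677988780266631598873623121874103828227758939561964, 4008829316294745845805704908468945664865630904139357737467481488757, (-2691533189373241334222077204674867539073129323884310338556705115889), 2423514530046043931383279401032887135957042041894402547609287774746]]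

/-- the combination of the relations that gives the square of the generator -/
def muL : List ℤ := [(-4150148423305072643251335837376234090967066506271863241240094962389), (-6717581772566777456763105776321552835721065861560510239079162278989), 52726756677568608641082375591201361860194446604211205606901394440126, 36472891955472888907112865208969349939814950759424853228361789038673, 3858633946731117792525605749408868667153274999355471726789725690741, 8257745380242068402292842335572694106601794832935124713977872057417, (-4283266525036261355977560533263197747246243748207653848947078627121), (-8017658632589491691611409816937891329731261808278710595809473610027), 5383066378746482668444154409349735078146258647768617401262244313991, (-4847029060092087862766558802065774271914084083788802145571537862861)]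

theorem chk_rel_0 : ∀ l, l < 9 → ((fld (cert.rhs 34) l : ℤ) - (fld 59803242625537840283127325934490234323719893659197465 l : ℤ)) = (relL.getD 0 []).getD l 0 := by
  decide +kernel

theorem chk_rel_1 : ∀ l, l < 9 → ((fld (cert.rhs 197) l : ℤ) - (fld 143727130961827409187759997310147948165948581638930090 l : ℤ)) = (relL.getD 1 []).getD l 0 := by
  decide +kernel

theorem chk_rel_2 : ∀ l, l < 9 → ((fld (cert.rhs 185) l : ℤ) - (fld 71859180943944352114658064262099982812115134674157539 l : ℤ)) = (relL.getD 2 []).getD l 0 := by
  decide +kernel

theorem chk_rel_3 : ∀ l, l < 9 → ((fld (cert.rhs 65) l : ℤ) - (fld 62831476809864790089031814879985518867791076835502012 l : ℤ)) = (relL.getD 3 []).getD l 0 := by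
  decide +kernel

theorem chk_rel_4 : ∀ l, l < 9 → ((fld (cert.rhs 126) l : ℤ) - (fld 65801251068078020370988833642959244382707780328402966 l : ℤ)) = (relL.getD 4 []).getD l 0 := by
  decide +kernel

theorem chk_rel_5 : ∀ l, l < 9 → ((fld (cert.rhs 115) l : ℤ) - (fld 65826096732504744621575691831212886091060168895803238 l : ℤ)) = (relL.getD 5 []).getD l 0 := by
  decide +kernel

theorem chk_rel_6 : ∀ l, l < 9 → ((fld (cert.rhs 166) l : ℤ) - (fld 65834865392485858856682237609519374847166153611063247 l : ℤ)) = (relL.getD 6 []).getD l 0 := by
  decide +kernel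

theorem chk_rel_7 : ∀ l, l < 9 → ((fld (cert.rhs 187) l : ℤ) - (fld 89606212355476534275044915299973424514091871519174534 l : ℤ)) = (relL.getD 7 []).getD l 0 := by
  decide +kernel

theorem chk_rel_8 : ∀ l, l < 9 → ((fld (cert.rhs 24) l : ℤ) - (fld 53923615755688245170466451439172300045573000081215614 l : ℤ)) = (relL.getD 8 []).getD l 0 := by
  decide +kernel

theorem chk_rel_9 : ∀ l, l < 9 → ((fld (cert.rhs 7) l : ℤ) - (fld 47995759441916436369480195937019436684350701751533556 l : ℤ)) = (relL.getD 9 []).getD l 0 := by
  decide +kernel

theorem chk_lam : ∀ j, j < 9 → ∀ l, l < 9 →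
    ((7 : ℕ) : ℤ) * ((if l = j then 1 else 0) - mL.getD j 0 * cL.getD l 0) = dotL (lamL.getD j []) relL l := by
  decide +kernel

theorem chk_mu : ∀ l, l < 9 → ((7 : ℕ) : ℤ) * ((2 : ℤ) * cL.getD l 0) = dotL muL relL l := by decide +kernel

section upper

universe u

variable {Γ : Type u} [Group Γ] [Finite Γ] (σ : Γ →* E6) (hsurj : Function.Surjective σ)
  (hcen : σ.ker ≤ Subgroup.center Γ) (hder : σ.ker ≤ commutator Γ)

include hsurj hcen hder in
theorem not_dvd_card_ker : ¬ 7 ∣ Nat.card σ.ker := by
  have hperf := perfect_of_stem σ hsurj hcen hder E6_perfect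
  have : Fact (Nat.Prime 7) := ⟨by norm_num⟩
  exact Cfsg.Agent.S0102.result E6_perfect
    (fun P => isCyclic_sylow_of_card_eq 7 35942400 (by rw [card_E6]) (by norm_num) P) σ hsurj hcen hperf

/-! ### the letters in the extension -/

/-- the letters in the extension -/
def gU (a c t : Γ) : ℕ → Γ
  | 0 => a
  | 1 => a⁻¹
  | 2 => c
  | 3 => c⁻¹
  | 4 => t
  | 5 => t⁻¹
  | _ => 1

omit [Finite Γ] in
theorem map_gU (a c t : Γ) (ha : σ a = lK 0) (hc : σ c = lK 2) (ht : σ t = lK 4) : ∀ x, σ (gU a c t x) = lK x
  | 0 => ha
  | 1 => by
    show σ a⁻¹ = lK 1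
    rw [map_inv, ha]
    exact (lK_iv (x := 0) (by norm_num)).symm
  | 2 => hc
  | 3 => by
    show σ c⁻¹ = lK 3
    rw [map_inv, hc]
    exact (lK_iv (x := 2) (by norm_num)).symm
  | 4 => ht
  | 5 => by
    show σ t⁻¹ = lK 5
    rw [map_inv, ht]
    exact (lK_iv (x := 4) (by norm_num)).symm
  | x + 6 => by
    show σ 1 = lK (x + 6)
    rw [map_one, lK_of_ge (by omega)]

omit [Finite Γ] in
theorem map_wd_gU (a c t : Γ) (ha : σ a = lK 0) (hc : σ c = lK 2) (ht : σ t = lK 4) :
    ∀ w : List ℕ, σ (VCert.wd (gU a c t) w) = VCert.wd lK w
  | [] => map_one σ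
  | x :: w => by
    rw [VCert.wd_cons, VCert.wd_cons, map_mul, map_gU σ a c t ha hc ht x, map_wd_gU a c t ha hc ht w]

include hsurj hcen hder in
/-- **lifts of the generators: the first two in the copy of `L`, the third such that the given word is trivial** -/
theorem exists_lifts : ∃ a c t : Γ, a ∈ Mt σ L ∧ c ∈ Mt σ L ∧ σ a = lK 0 ∧ σ c = lK 2 ∧ σ t = lK 4 ∧
    VCert.wd (gU a c t) (wpow 7 yW) = 1 := by
  have hnd := not_dvd_card_ker σ hsurj hcen hder
  have cop : (Nat.card ↥σ.ker).Coprime 7 :=
    ((Nat.Prime.coprime_iff_not_dvd (by norm_num)).2 hnd).symm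
  obtain ⟨a, haM, ha⟩ := exists_mem_Mt (σ := σ) hsurj L L_perfect (lK 0) (lK_mem_L (by norm_num))
  obtain ⟨c, hcM, hc⟩ := exists_mem_Mt (σ := σ) hsurj L L_perfect (lK 2) (lK_mem_L (by norm_num))
  obtain ⟨t0, ht0⟩ := hsurj (lK 4)
  have hk2 : VCert.wd (gU a c t0) (wpow 7 yW) ∈ σ.ker := by
    rw [MonoidHom.mem_ker, map_wd_gU σ a c t0 ha hc ht0, ← chk_W3]
    exact wd_lK_W (by norm_num)
  obtain ⟨w, hw, hwr⟩ := exists_root σ.ker 7 cop _ (Subgroup.inv_mem _ hk2)
  have hwc : ∀ x : Γ, w⁻¹ * x = x * w⁻¹ := fun x =>
    (Subgroup.mem_center_iff.1 (Subgroup.inv_mem _ (hcen hw)) x).symm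
  refine ⟨a, c, t0 * w, haM, hcM, ha, hc, ?_, ?_⟩
  · rw [map_mul, MonoidHom.mem_ker.1 hw, mul_one, ht0]
  · rw [wd_central_mul_at 4 5 (by norm_num) (gU a c t0) (gU a c (t0 * w)) w (hcen hw) rfl (by
        show (t0 * w)⁻¹ = t0⁻¹ * w⁻¹
        rw [mul_inv_rev, hwc]) (by
        intro x h0 h1
        match x, h0, h1 with
        | 0, _, _ => rfl
        | 1, _, _ => rfl
        | 2, _, _ => rfl
        | 3, _, _ => rfl
        | 4, h0, _ => exact absurd rfl h0
        | 5, _, h1 => exact absurd rfl h1
        | _ + 6, _, _ => rfl), chk_yW]
    show _ * w ^ ((7 : ℕ) : ℤ) = 1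
    rw [zpow_natCast, hwr, mul_inv_cancel]

variable (a c t : Γ) (haM : a ∈ Mt σ L) (hcM : c ∈ Mt σ L) (ha : σ a = lK 0) (hc : σ c = lK 2) (ht : σ t = lK 4)
  (hy : VCert.wd (gU a c t) (wpow 7 yW) = 1)

include ha hc ht in
omit [Finite Γ] in
theorem wd_gU_mem_ker {i : ℕ} (hi : i < 215) : VCert.wd (gU a c t) (cert.W i) ∈ σ.ker := by
  rw [MonoidHom.mem_ker, map_wd_gU σ a c t ha hc ht, wd_lK_W hi]

omit [Finite Γ] in
theorem gU_iv : ∀ x, x < 6 → gU a c t (Nat.xor x 1) = (gU a c t x)⁻¹
  | 0, _ => rfl
  | 1, _ => (inv_inv a).symm
  | 2, _ => rfl
  | 3, _ => (inv_inv c).symm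
  | 4, _ => rfl
  | 5, _ => (inv_inv t).symm
  | x + 6, h => absurd h (by omega)

include haM hcM in
omit [Finite Γ] in
theorem gU_mem_Mt : ∀ x, x < 4 → gU a c t x ∈ Mt σ L
  | 0, _ => haM
  | 1, _ => Subgroup.inv_mem _ haM
  | 2, _ => hcM
  | 3, _ => Subgroup.inv_mem _ hcM
  | x + 4, h => absurd h (by omega)

/-- the central elements: the values of the given words -/
noncomputable def zU (j : ℕ) : Subgroup.center Γ :=
  ⟨VCert.wd (gU a c t) (cert.W (axI j)), hcen (wd_gU_mem_ker σ a c t ha hc ht (axI_lt j))⟩

include hsurj haM hcM hy in
theorem hW0_U : ∀ i, i < cert.nW → cert.wT i = 0 →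
    VCert.wd (gU a c t) (cert.W i) = (cert.ek (zU σ hcen a c t ha hc ht) i : Γ) := by
  intro i hi hT
  rcases chk_wT i hi hT with ⟨h4, h0⟩ | rfl | ⟨j, hj, rfl⟩
  · rw [VCert.ek, cert.kap_one _ h0]
    have hl : ∀ x ∈ (cert.W i).map (gU a c t), x ∈ Mt σ L := by
      intro x hx
      obtain ⟨y, hy', rfl⟩ := List.mem_map.1 hx
      exact gU_mem_Mt σ a c t haM hcM y (by simpa [Nat.blt] using List.all_eq_true.1 h4 y hy')
    have h1 : (((cert.W i).map (gU a c t)).map σ).prod = 1 := by
      rw [← map_list_prod]
      have := map_wd_gU σ a c t ha hc ht (cert.W i)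
      rw [VCert.wd] at this
      rw [this]
      exact wd_lK_W hi
    exact prod_eq_one_of_Mt hsurj hcen L L_perfect G24L.MF_L _ hl h1
  · rw [VCert.ek, cert.kap_one _ chk_ex, chk_W3]
    exact hy
  · rw [VCert.ek, cert.kap_unit _ hj (chk_ax j hj)]
    rfl

include hcen hder ha hc ht in
omit [Finite Γ] in
theorem hgen_U : ∀ y : Γ, ∃ u : List ℕ, (∀ x ∈ u, x < cert.g) ∧ y = (u.map (gU a c t)).prod := by
  apply MG.exists_word_of_closure (gU a c t) 6 (fun x => Nat.xor x 1)
  · intro x hx
    refine ⟨?_, gU_iv a c t x hx⟩
    have : x = 0 ∨ x = 1 ∨ x = 2 ∨ x = 3 ∨ x = 4 ∨ x = 5 := by omega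
    rcases this with rfl | rfl | rfl | rfl | rfl | rfl <;> decide
  · apply Cfsg.Agent.Lib.Helper7.M12Mult.closure_eq_top_of_stem (σ := σ) hcen hder
    intro g
    have hg : g ∈ Subgroup.closure (lK '' Set.Iio 6) := by rw [closure_lK]; exact Subgroup.mem_top g
    induction hg using Subgroup.closure_induction with
    | mem y hy =>
      obtain ⟨x, hx, rfl⟩ := hy
      exact ⟨gU a c t x, Subgroup.subset_closure ⟨x, hx, rfl⟩, map_gU σ a c t ha hc ht x⟩
    | one => exact ⟨1, one_mem _, map_one σ⟩
    | mul p q _ _ ihp ihq =>
      obtain ⟨p', hp', rfl⟩ := ihp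
      obtain ⟨q', hq', rfl⟩ := ihq
      exact ⟨p' * q', mul_mem hp' hq', map_mul σ p' q'⟩
    | inv p _ ihp =>
      obtain ⟨p', hp', rfl⟩ := ihp
      exact ⟨p'⁻¹, inv_mem hp', map_inv σ p'⟩

include hsurj hcen in
theorem hHK_U : ∀ u, u ∈ Mt σ L → u ∈ σ.ker → u = 1 := fun _ hu hk =>
  eq_one_of_mem_Mt hsurj hcen L L_perfect G24L.MF_L hu (MonoidHom.mem_ker.1 hk)

include haM hcM in
omit [Finite Γ] in
theorem hsub_U : ∀ x, cert.sub x = true → gU a c t x ∈ Mt σ L := fun x hx =>
  gU_mem_Mt σ a c t haM hcM x (lt_four_of_sub hx)

include hsurj hder haM hcM hy in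
/-- **the kernel is generated by the central elements** -/
theorem ker_eq_Zc_U : σ.ker = Zc (zU σ hcen a c t ha hc ht) 9 := by
  refine ker_eq_Zc_of_sub σ cert (gU a c t) (zU σ hcen a c t ha hc ht) (Mt σ L) 62400 hsurj
    (by rw [card_E6]; rfl) (by decide) (by norm_num) (hHK_U σ hsurj hcen) ?_
    (hsub_U σ a c t haM hcM) ?_ (hgen_U σ hcen hder a c t ha hc ht) (by decide) (by decide) (gU_iv a c t) ?_
    (hW0_U σ hsurj hcen a c t haM hcM ha hc ht hy) cert_all cert_wall
  · rw [← card_L]
    exact card_Mt_le hsurj hcen L L_perfect G24L.MF_L
  · intro j _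
    exact wd_gU_mem_ker σ a c t ha hc ht (axI_lt j)
  · intro i hi
    exact wd_gU_mem_ker σ a c t ha hc ht hi

include hsurj haM hcM hy in
/-- the relations between the central elements -/
theorem rel_U : ∀ r ∈ relL, zprod (zU σ hcen a c t ha hc ht) 9 (fun l => r.getD l 0) = 1 := by
  have hKn : ∀ u, u ∈ σ.ker → ∀ g : Γ, g * u * g⁻¹ ∈ σ.ker := fun u hu g =>
    (inferInstance : σ.ker.Normal).conj_mem u hu g
  have key : ∀ {i v row : ℕ}, i < 215 → cert.scan 4095 (cert.W i) row 0 = some (row, v) →
      cert.ek (zU σ hcen a c t ha hc ht) i = cert.kap (zU σ hcen a c t ha hc ht) v (cert.W i).length := by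
    intro i v row hi h
    exact cert.close_spec (γ := gU a c t) (H := Mt σ L) σ.ker hKn
      (fun j _ => wd_gU_mem_ker σ a c t ha hc ht (axI_lt j)) (hHK_U σ hsurj hcen) (by decide) (by decide)
      (gU_iv a c t) (hsub_U σ a c t haM hcM)
      (fun i hi => wd_gU_mem_ker σ a c t ha hc ht hi) (hW0_U σ hsurj hcen a c t haM hcM ha hc ht hy)
      cert_all cert_wall hi (chk_len i hi) h
  intro r hr
  simp only [relL, List.mem_cons, List.not_mem_nil, or_false] at hr
  rcases hr with rfl | rfl | rfl | rfl | rfl | rfl | rfl | rfl | rfl | rfl
  · exact cert.rel_of_close _ (key (by norm_num) close_0) _ chk_rel_0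
  · exact cert.rel_of_close _ (key (by norm_num) close_1) _ chk_rel_1
  · exact cert.rel_of_close _ (key (by norm_num) close_2) _ chk_rel_2
  · exact cert.rel_of_close _ (key (by norm_num) close_3) _ chk_rel_3
  · exact cert.rel_of_close _ (key (by norm_num) close_4) _ chk_rel_4
  · exact cert.rel_of_close _ (key (by norm_num) close_5) _ chk_rel_5
  · exact cert.rel_of_close _ (key (by norm_num) close_6) _ chk_rel_6
  · exact cert.rel_of_close _ (key (by norm_num) close_7) _ chk_rel_7
  · exact cert.rel_of_close _ (key (by norm_num) close_8) _ chk_rel_8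
  · exact cert.rel_of_close _ (key (by norm_num) close_9) _ chk_rel_9

include hsurj hcen hder haM hcM ha hc ht hy in
/-- **the kernel is an image of the cyclic group of order two** -/
theorem exists_surj_U : ∃ π : Multiplicative (ZMod 2) →* ↥σ.ker, Function.Surjective π := by
  have hnd := not_dvd_card_ker σ hsurj hcen hder
  have copq : (Nat.card ↥σ.ker).Coprime 7 :=
    ((Nat.Prime.coprime_iff_not_dvd (by norm_num)).2 hnd).symm
  have hK := ker_eq_Zc_U σ hsurj hcen hder a c t haM hcM ha hc ht hy
  set S : Subgroup (Subgroup.center Γ) := σ.ker.comap (Subgroup.center Γ).subtype with hS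
  have hzS : ∀ j, j < 9 → zU σ hcen a c t ha hc ht j ∈ S :=
    fun j _ => wd_gU_mem_ker σ a c t ha hc ht (axI_lt j)
  have hq : ∀ u, u ∈ S → u ^ 7 = 1 → u = 1 := by
    intro u hu huq
    have h1 : (⟨(u : Γ), hu⟩ : ↥σ.ker) ^ 7 = 1 := by
      apply Subtype.ext
      rw [Subgroup.coe_pow, Subgroup.coe_one]
      show (u : Γ) ^ 7 = 1
      rw [← Subgroup.coe_pow, huq, Subgroup.coe_one]
    have h2 := eq_one_of_pow_of_coprime 7 copq _ h1
    apply Subtype.ext
    have h3 : ((⟨(u : Γ), hu⟩ : ↥σ.ker) : Γ) = ((1 : ↥σ.ker) : Γ) := congrArg Subtype.val h2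
    exact h3
  obtain ⟨hz, hN⟩ := cyclic_of_relations_q (zU σ hcen a c t ha hc ht) 9 relL
    (rel_U σ hsurj hcen a c t haM hcM ha hc ht hy) S hzS 7 hq cL mL 2 lamL muL chk_lam chk_mu
  set g := zprod (zU σ hcen a c t ha hc ht) 9 (fun l => cL.getD l 0) with hg
  have hle : σ.ker ≤ Subgroup.zpowers (g : Γ) := by
    rw [hK]
    exact Zc_le_zpowers _ 9 g (fun j => mL.getD j 0) hz
  have hgK : (g : Γ) ∈ σ.ker := by
    have : g ∈ S := zprod_mem _ 9 S hzS _
    exact this
  set g' : ↥σ.ker := ⟨(g : Γ), hgK⟩ with hg'
  have h6 : g' ^ 2 = 1 := by
    apply Subtype.ext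
    rw [Subgroup.coe_pow, Subgroup.coe_one]
    have := congrArg (fun t : Subgroup.center Γ => (t : Γ)) hN
    simpa using this
  apply exists_surj_zmod g' 2 h6
  intro y
  obtain ⟨i, hi⟩ := Subgroup.mem_zpowers_iff.1 (hle y.2)
  refine Subgroup.mem_zpowers_iff.2 ⟨i, ?_⟩
  apply Subtype.ext
  rw [Subgroup.coe_zpow]
  exact hi

end upper

/-- **the kernel of every finite stem extension of the presented group is an image of the cyclic group of order
two** -/
theorem exists_surj_of_stem {Γ : Type*} [Group Γ] [Finite Γ] (σ : Γ →* E6) (hsurj : Function.Surjective σ)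
    (hcen : σ.ker ≤ Subgroup.center Γ) (hder : σ.ker ≤ commutator Γ) :
    ∃ π : Multiplicative (ZMod 2) →* ↥σ.ker, Function.Surjective π := by
  obtain ⟨a, c, t, haM, hcM, ha, hc, ht, hy⟩ := exists_lifts σ hsurj hcen hder
  exact exists_surj_U σ hsurj hcen hder a c t haM hcM ha hc ht hy

end Cfsg.Agent.Lib.Helper7.G24T
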