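import Cfsg.Agent.Lib.Helper7.G24E
import Cfsg.Agent.Lib.Helper7.G24EW

/-! # The multiplier of the group of type G2 over the field of four elements: checks of words on the 8064 points,
file 2 (generated) -/

set_option autoImplicit false
set_option maxRecDepth 100000

namespace Cfsg.Agent.Lib.Helper7.G24M

theorem shk_ax2_5_0 : shOK cw_ax2_5 0 0 2016 = true := by decide +kernel

theorem shk_ax2_5_1 : shOK cw_ax2_5 0 2016 2016 = true := by decide +kernel

theorem shk_ax2_5_2 : shOK cw_ax2_5 0 4032 2016 = true := by decide +kernel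

theorem shk_ax2_5_3 : shOK cw_ax2_5 0 6048 2016 = true := by decide +kernel

theorem shk_ax2_6_0 : shOK cw_ax2_6 0 0 2016 = true := by decide +kernel

theorem shk_ax2_6_1 : shOK cw_ax2_6 0 2016 2016 = true := by decide +kernel

theorem shk_ax2_6_2 : shOK cw_ax2_6 0 4032 2016 = true := by decide +kernel

theorem shk_ax2_6_3 : shOK cw_ax2_6 0 6048 2016 = true := by decide +kernel

theorem shk_ax2_7_0 : shOK cw_ax2_7 0 0 2016 = true := by decide +kernel

theorem shk_ax2_7_1 : shOK cw_ax2_7 0 2016 2016 = true := by decide +kernel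

theorem shk_ax2_7_2 : shOK cw_ax2_7 0 4032 2016 = true := by decide +kernel

theorem shk_ax2_7_3 : shOK cw_ax2_7 0 6048 2016 = true := by decide +kernel

theorem shk_ax2_8_0 : shOK cw_ax2_8 1 0 2016 = true := by decide +kernel

theorem shk_ax2_8_1 : shOK cw_ax2_8 1 2016 2016 = true := by decide +kernel

theorem shk_ax2_8_2 : shOK cw_ax2_8 1 4032 2016 = true := by decide +kernel

theorem shk_ax2_8_3 : shOK cw_ax2_8 1 6048 2016 = true := by decide +kernel

end Cfsg.Agent.Lib.Helper7.G24M
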