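import Cfsg.Agent.Lib.Helper7.G24E
import Cfsg.Agent.Lib.Helper7.G24EW

/-! # The multiplier of the group of type G2 over the field of four elements: checks of words on the 8064 points,
file 3 (generated) -/

set_option autoImplicit false
set_option maxRecDepth 100000

namespace Cfsg.Agent.Lib.Helper7.G24M

theorem shk_ex2_0 : shOK cw_ex2 0 0 2016 = true := by decide +kernel

theorem shk_ex2_1 : shOK cw_ex2 0 2016 2016 = true := by decide +kernel

theorem shk_ex2_2 : shOK cw_ex2 0 4032 2016 = true := by decide +kernel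

theorem shk_ex2_3 : shOK cw_ex2 0 6048 2016 = true := by decide +kernel

theorem shk_l1a_0 : shOK cw_l1a 0 0 2016 = true := by decide +kernel

theorem shk_l1a_1 : shOK cw_l1a 0 2016 2016 = true := by decide +kernel

theorem shk_l1a_2 : shOK cw_l1a 0 4032 2016 = true := by decide +kernel

theorem shk_l1a_3 : shOK cw_l1a 0 6048 2016 = true := by decide +kernel

theorem shk_ax1_0_0 : shOK cw_ax1_0 0 0 2016 = true := by decide +kernel

theorem shk_ax1_0_1 : shOK cw_ax1_0 0 2016 2016 = true := by decide +kernel

theorem shk_ax1_0_2 : shOK cw_ax1_0 0 4032 2016 = true := by decide +kernel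

theorem shk_ax1_0_3 : shOK cw_ax1_0 0 6048 2016 = true := by decide +kernel

theorem shk_ax1_1_0 : shOK cw_ax1_1 0 0 2016 = true := by decide +kernel

theorem shk_ax1_1_1 : shOK cw_ax1_1 0 2016 2016 = true := by decide +kernel

theorem shk_ax1_1_2 : shOK cw_ax1_1 0 4032 2016 = true := by decide +kernel

theorem shk_ax1_1_3 : shOK cw_ax1_1 0 6048 2016 = true := by decide +kernel

theorem shk_ax1_2_0 : shOK cw_ax1_2 0 0 2016 = true := by decide +kernel

theorem shk_ax1_2_1 : shOK cw_ax1_2 0 2016 2016 = true := by decide +kernel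

theorem shk_ax1_2_2 : shOK cw_ax1_2 0 4032 2016 = true := by decide +kernel

theorem shk_ax1_2_3 : shOK cw_ax1_2 0 6048 2016 = true := by decide +kernel

theorem shk_ax1_3_0 : shOK cw_ax1_3 0 0 2016 = true := by decide +kernel

theorem shk_ax1_3_1 : shOK cw_ax1_3 0 2016 2016 = true := by decide +kernel

theorem shk_ax1_3_2 : shOK cw_ax1_3 0 4032 2016 = true := by decide +kernel

theorem shk_ax1_3_3 : shOK cw_ax1_3 0 6048 2016 = true := by decide +kernel

theorem shk_ax1_4_0 : shOK cw_ax1_4 0 0 2016 = true := by decide +kernel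

theorem shk_ax1_4_1 : shOK cw_ax1_4 0 2016 2016 = true := by decide +kernel

theorem shk_ax1_4_2 : shOK cw_ax1_4 0 4032 2016 = true := by decide +kernel

theorem shk_ax1_4_3 : shOK cw_ax1_4 0 6048 2016 = true := by decide +kernel

end Cfsg.Agent.Lib.Helper7.G24M
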