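import Cfsg.Agent.Lib.Helper7.G24E
import Cfsg.Agent.Lib.Helper7.G24EW

/-! # The multiplier of the group of type G2 over the field of four elements: checks of words on the 8064 points,
file 0 (generated) -/

set_option autoImplicit false
set_option maxRecDepth 100000

namespace Cfsg.Agent.Lib.Helper7.G24M

theorem shk_zW_0 : shOK cw_zW 1 0 2016 = true := by decide +kernel

theorem shk_zW_1 : shOK cw_zW 1 2016 2016 = true := by decide +kernel

theorem shk_zW_2 : shOK cw_zW 1 4032 2016 = true := by decide +kernel

theorem shk_zW_3 : shOK cw_zW 1 6048 2016 = true := by decide +kernel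

theorem cnk_0_0 : cenOK 0 0 4032 = true := by decide +kernel

theorem cnk_0_1 : cenOK 0 4032 4032 = true := by decide +kernel

theorem cnk_1_0 : cenOK 1 0 4032 = true := by decide +kernel

theorem cnk_1_1 : cenOK 1 4032 4032 = true := by decide +kernel

theorem cnk_2_0 : cenOK 2 0 4032 = true := by decide +kernel

theorem cnk_2_1 : cenOK 2 4032 4032 = true := by decide +kernel

theorem cnk_3_0 : cenOK 3 0 4032 = true := by decide +kernel

theorem cnk_3_1 : cenOK 3 4032 4032 = true := by decide +kernel

theorem cnk_4_0 : cenOK 4 0 4032 = true := by decide +kernel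

theorem cnk_4_1 : cenOK 4 4032 4032 = true := by decide +kernel

theorem cnk_5_0 : cenOK 5 0 4032 = true := by decide +kernel

theorem cnk_5_1 : cenOK 5 4032 4032 = true := by decide +kernel

end Cfsg.Agent.Lib.Helper7.G24M
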