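import Cfsg.Agent.Lib.Helper7.G24EA
import Cfsg.Agent.Lib.Helper6.G24Iso
import Cfsg.Agent.Lib.Helper6.ChevRing
import Cfsg.Prelude.Def_KGroupFacts

/-!
# The multiplier of the Chevalley group of type G2 over the field of four elements is cyclic of order two

The group generated by the pairs is a stem extension of the presented group whose kernel has at least two elements;
together with the bound for the kernels of all stem extensions this gives the multiplier.  The statement is carried
over to the Chevalley group over any field of four elements.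
-/

set_option autoImplicit false
set_option maxRecDepth 100000

namespace Cfsg.Agent.Lib.Helper7.G24M

open Cfsg Cfsg.Spor Cfsg.Agent.Lib.Helper7.MG Cfsg.Agent.Lib.Helper7.HSMult Cfsg.Agent.Lib.Helper7.G24B
open Cfsg.Agent.Lib.Helper6.SuzESub Cfsg.Agent.Lib.Helper6.M21
open scoped IsMulCommutative commutatorElement

/-! ### the kernel of the projection -/

theorem wd_gE_mem_ker {i : ℕ} (hi : i < 215) : VCert.wd gE (G24T.cert.W i) ∈ sigE.ker := by
  rw [MonoidHom.mem_ker, sigE_wd, wd_lK_W hi]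

theorem wd_gE_mem_HE : ∀ w : List ℕ, (∀ x ∈ w, x < 4) → VCert.wd gE w ∈ HE
  | [], _ => Subgroup.one_mem _
  | x :: w, h => by
    rw [VCert.wd_cons]
    exact Subgroup.mul_mem _ (gE_mem_HE (h x List.mem_cons_self))
      (wd_gE_mem_HE w fun y hy => h y (List.mem_cons_of_mem _ hy))

theorem hW0_E : ∀ i, i < G24T.cert.nW → G24T.cert.wT i = 0 →
    VCert.wd gE (G24T.cert.W i) = ((G24T.cert.ek zE i : Subgroup.center ↥GE) : ↥GE) := by
  intro i hi hT
  rcases G24T.chk_wT i hi hT with ⟨h4, h0⟩ | rfl | ⟨j, hj, rfl⟩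
  · rw [VCert.ek, G24T.cert.kap_one _ h0]
    apply hHK_E _ (wd_gE_mem_HE _ fun x hx => by simpa [Nat.blt] using List.all_eq_true.1 h4 x hx)
    exact wd_gE_mem_ker hi
  · rw [VCert.ek, G24T.cert.kap_one _ G24T.chk_ex, G24T.chk_W3]
    exact wd_gE_ex2
  · rw [VCert.ek, G24T.cert.kap_unit _ hj (G24T.chk_ax j hj)]
    exact wd_gE_ax2 j hj

theorem hgen_E : ∀ y : ↥GE, ∃ u : List ℕ, (∀ x ∈ u, x < G24T.cert.g) ∧ y = (u.map gE).prod := by
  apply MG.exists_word_of_closure gE 6 (fun x => Nat.xor x 1) _ closure_gE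
  intro x hx
  refine ⟨?_, gE_iv x hx⟩
  have : x = 0 ∨ x = 1 ∨ x = 2 ∨ x = 3 ∨ x = 4 ∨ x = 5 := by omega
  rcases this with rfl | rfl | rfl | rfl | rfl | rfl <;> decide

/-- **the kernel of the projection is generated by the central elements of the table** -/
theorem ker_sigE : sigE.ker = Zc zE 9 := by
  refine ker_eq_Zc_of_sub sigE G24T.cert gE zE HE 62400 sigE_surj (by rw [card_E6]; rfl) (by decide) (by norm_num)
    hHK_E card_HE_le ?_ (fun j _ => zE_mem_ker j) hgen_E (by decide) (by decide) (fun x hx => gE_iv x hx)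
    (fun i hi => wd_gE_mem_ker hi) hW0_E G24T.cert_all G24T.cert_wall
  intro x hx
  exact gE_mem_HE (lt_four_of_sub hx)

/-! ### the extension is perfect -/

theorem HE_perfect : commutator ↥HE = ⊤ := by
  have h2 : gH 0 ^ 2 = 1 := by
    have h : sigH (gH 0 ^ 2) = 1 := by
      rw [map_pow, sigH_gH]
      have h' := wd_lK1_eq_one_of_base chk_u2
      rw [wd_wpow, VCert.wd_cons, VCert.wd_nil, mul_one] at h'
      exact h'
    exact sigH_injective (by rw [h, map_one])
  have h5 : (gH 0 * gH 2) ^ 5 = 1 := by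
    have h : sigH ((gH 0 * gH 2) ^ 5) = 1 := by
      rw [map_pow, map_mul, sigH_gH, sigH_gH]
      have h' := wd_lK1_eq_one_of_base chk_uv3
      rw [wd_wpow, VCert.wd_cons, VCert.wd_cons, VCert.wd_nil, mul_one] at h'
      exact h'
    exact sigH_injective (by rw [h, map_one])
  have hcl : Subgroup.closure {gH 0, gH 2} = (⊤ : Subgroup ↥HE) := by
    rw [eq_top_iff, ← closure_gH, Subgroup.closure_le]
    rintro _ ⟨x, hx, rfl⟩
    have hx' : x < 4 := hx
    have : x = 0 ∨ x = 1 ∨ x = 2 ∨ x = 3 := by omega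
    rcases this with rfl | rfl | rfl | rfl
    · exact Subgroup.subset_closure (by simp)
    · have : gH 1 = (gH 0)⁻¹ := gH_iv (x := 0) (by norm_num)
      rw [SetLike.mem_coe, this]
      exact inv_mem (Subgroup.subset_closure (by simp))
    · exact Subgroup.subset_closure (by simp)
    · have : gH 3 = (gH 2)⁻¹ := gH_iv (x := 2) (by norm_num)
      rw [SetLike.mem_coe, this]
      exact inv_mem (Subgroup.subset_closure (by simp))
  exact Cfsg.Agent.Lib.Helper7.Sp6.perfect_of_triangle hcl h2 gH_two_pow h5 (by norm_num) (by norm_num)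

theorem HE_le_commutator : HE ≤ commutator ↥GE := by
  have h1 : (commutator ↥HE).map HE.subtype ≤ commutator ↥GE := by
    rw [commutator_def, Subgroup.map_commutator, commutator_def]
    exact Subgroup.commutator_mono le_top le_top
  rw [HE_perfect, ← MonoidHom.range_eq_map, Subgroup.range_subtype] at h1
  exact h1

theorem gE_four_sq : gE 4 ^ 2 = 1 := by
  have h := wd_gE_ax2 0 (by norm_num)
  have e : G24T.cert.W (G24T.axI 0) = [4, 4] := by rw [chk_ax2W 0 (by norm_num)]; rfl
  rw [e, VCert.wd_cons, VCert.wd_cons, VCert.wd_nil, mul_one] at h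
  rw [pow_two, h, zE, if_neg (by decide)]
  rfl

theorem commutator_GE : commutator ↥GE = ⊤ := by
  set K := commutator ↥GE with hK
  have hv : gE 2 ∈ K := HE_le_commutator (gE_mem_HE (by norm_num))
  -- the image of `t` in the quotient by the derived subgroup
  set π := QuotientGroup.mk' K with hπ
  have hcomm : ∀ a b : ↥GE ⧸ K, a * b = b * a := by
    intro a b
    obtain ⟨a, rfl⟩ := QuotientGroup.mk'_surjective K a
    obtain ⟨b, rfl⟩ := QuotientGroup.mk'_surjective K b
    rw [← map_mul, ← map_mul]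
    apply (QuotientGroup.eq).2
    have : (a * b)⁻¹ * (b * a) = ⁅b⁻¹, a⁻¹⁆ := by
      rw [commutatorElement_def]; group
    rw [this]
    exact Subgroup.commutator_mem_commutator (Subgroup.mem_top _) (Subgroup.mem_top _)
  have h7 : (gE 4 * gE 2) ^ 7 = 1 := by
    have h := wd_gE_ex2
    rw [wd_wpow, G24T.yW, VCert.wd_cons, VCert.wd_cons, VCert.wd_nil, mul_one] at h
    exact h
  have e2 : π (gE 2) = 1 := (QuotientGroup.eq_one_iff _).2 hv
  have e7 : π (gE 4) ^ 7 = 1 := by
    have := congrArg π h7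
    rw [map_pow, map_mul, e2, mul_one, map_one] at this
    exact this
  have e4 : π (gE 4) ^ 2 = 1 := by rw [← map_pow, gE_four_sq, map_one]
  have et : π (gE 4) = 1 := by
    have : π (gE 4) = π (gE 4) ^ 7 * ((π (gE 4) ^ 2) ^ 3)⁻¹ := by
      rw [← pow_mul]; group
    rw [this, e7, e4, one_pow, inv_one, mul_one]
  have ht : gE 4 ∈ K := (QuotientGroup.eq_one_iff _).1 et
  rw [eq_top_iff, ← closure_gE, Subgroup.closure_le]
  rintro _ ⟨x, hx, rfl⟩
  have hx' : x < 6 := hx
  have : x = 0 ∨ x = 1 ∨ x = 2 ∨ x = 3 ∨ x = 4 ∨ x = 5 := by omega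
  rcases this with rfl | rfl | rfl | rfl | rfl | rfl
  · exact HE_le_commutator (gE_mem_HE (by norm_num))
  · exact HE_le_commutator (gE_mem_HE (by norm_num))
  · exact hv
  · exact HE_le_commutator (gE_mem_HE (by norm_num))
  · exact ht
  · have : gE 5 = (gE 4)⁻¹ := gE_iv 4 (by norm_num)
    rw [SetLike.mem_coe, this]
    exact inv_mem ht

/-- **the group generated by the pairs is a stem extension of the presented group** -/
theorem stem_GE : IsStemExtension sigE := by
  refine ⟨sigE_surj, ?_, ?_⟩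
  · rw [ker_sigE]
    exact Zc_le_center zE 9
  · rw [commutator_GE]
    exact le_top

/-! ### the order of the kernel -/

theorem card_ker_ge : 2 ≤ Nat.card ↥sigE.ker := by
  have h1 : zE0 ∈ sigE.ker := MonoidHom.mem_ker.2 sigE_zE0
  have hinj : Function.Injective (fun i : Fin 2 => (if i = 0 then (1 : ↥sigE.ker) else ⟨zE0, h1⟩)) := by
    intro i j h
    fin_cases i <;> fin_cases j
    · rfl
    · exfalso
      simp only [Fin.zero_eta, Fin.mk_one, if_true] at h
      have := congrArg Subtype.val h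
      exact zE0_ne this.symm
    · exfalso
      simp only [Fin.zero_eta, Fin.mk_one, if_true] at h
      have := congrArg Subtype.val h
      exact zE0_ne this
    · rfl
  have := Nat.card_le_card_of_injective _ hinj
  rwa [Nat.card_fin] at this

theorem card_zmod2 : Nat.card (Multiplicative (ZMod 2)) = 2 := by
  show Nat.card (ZMod 2) = 2
  rw [Nat.card_eq_fintype_card, ZMod.card]

/-- **the kernel of the stem extension is cyclic of order two** -/
theorem ker_GE : Nonempty (↥sigE.ker ≃* Multiplicative (ZMod 2)) := by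
  obtain ⟨hs, hc, hd⟩ := stem_GE
  obtain ⟨π, hπ⟩ := G24T.exists_surj_of_stem sigE hs hc hd
  exact nonempty_equiv_of_surj_of_card_le π hπ (by rw [card_zmod2]; exact card_ker_ge)

/-! ### the Chevalley group over any field of four elements -/

/-- **the Schur multiplier of the Chevalley group of type G2 over a field of four elements is cyclic of order two** -/
theorem multiplier_g24 {F : Type*} [Field F] [Fintype F] (hF : Fintype.card F = 4) :
    Cfsg.HasCyclicSchurMultiplier ↥(Cfsg.Lie.chevG2.group F) 2 := by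
  obtain ⟨e0⟩ : Nonempty (F ≃+* F4c) := ⟨FiniteField.ringEquivOfCardEq (by rw [hF, F4c.card])⟩
  obtain ⟨e⟩ : Nonempty (↥(Cfsg.Lie.chevG2.group F) ≃* E6) :=
    ⟨(Cfsg.Agent.Lib.Helper6.ChevRing.groupEquiv Cfsg.Lie.chevG2 e0).trans
      Cfsg.Agent.Lib.Helper6.G24Iso.isoE6.symm⟩
  constructor
  · obtain ⟨iso⟩ := ker_GE
    obtain ⟨h1, ⟨iso'⟩⟩ := stem_comp_equiv (MulEquiv.ulift (α := ↥GE)) e.symm sigE stem_GE
    exact ⟨ULift ↥GE, inferInstance, inferInstance, _, h1, ⟨iso'.trans iso⟩⟩
  · intro Γ _ _ σ hσ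
    have hk : ∀ x, x ∈ (e.toMonoidHom.comp σ).ker ↔ x ∈ σ.ker := by
      intro x
      rw [MonoidHom.mem_ker, MonoidHom.mem_ker]
      show e (σ x) = 1 ↔ σ x = 1
      exact MulEquiv.map_eq_one_iff e
    obtain ⟨π, hπ⟩ := G24T.exists_surj_of_stem (e.toMonoidHom.comp σ) (e.surjective.comp hσ.1)
      (fun x hx => hσ.2.1 ((hk x).1 hx)) (fun x hx => hσ.2.2 ((hk x).1 hx))
    have hle : (e.toMonoidHom.comp σ).ker ≤ σ.ker := fun x hx => (hk x).1 hx
    refine ⟨(Subgroup.inclusion hle).comp π, ?_⟩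
    intro y
    obtain ⟨a, ha⟩ := hπ ⟨y.1, (hk y.1).2 y.2⟩
    refine ⟨a, ?_⟩
    apply Subtype.ext
    show ((π a : ↥(e.toMonoidHom.comp σ).ker) : Γ) = y.1
    rw [ha]

end Cfsg.Agent.Lib.Helper7.G24M
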