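import Cfsg.Agent.Lib.Helper7.G24LC

/-! # The multiplier of the group of type G2 over the field of four elements, the subgroup L: the check of the rows 800 to 1599 of the certificate (generated) -/

set_option autoImplicit false
set_option maxRecDepth 100000

namespace Cfsg.Agent.Lib.Helper7.G24L

theorem rows_ok_8 : rowsOK 800 100 = true := by decide +kernel

theorem rows_ok_9 : rowsOK 900 100 = true := by decide +kernel

theorem rows_ok_10 : rowsOK 1000 100 = true := by decide +kernel

theorem rows_ok_11 : rowsOK 1100 100 = true := by decide +kernel

theorem rows_ok_12 : rowsOK 1200 100 = true := by decide +kernel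

theorem rows_ok_13 : rowsOK 1300 100 = true := by decide +kernel

theorem rows_ok_14 : rowsOK 1400 100 = true := by decide +kernel

theorem rows_ok_15 : rowsOK 1500 100 = true := by decide +kernel

end Cfsg.Agent.Lib.Helper7.G24L
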