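import Cfsg.Agent.Lib.Helper7.G24LC

/-! # The multiplier of the group of type G2 over the field of four elements, the subgroup L: the check of the rows 2400 to 3199 of the certificate (generated) -/

set_option autoImplicit false
set_option maxRecDepth 100000

namespace Cfsg.Agent.Lib.Helper7.G24L

theorem rows_ok_24 : rowsOK 2400 100 = true := by decide +kernel

theorem rows_ok_25 : rowsOK 2500 100 = true := by decide +kernel

theorem rows_ok_26 : rowsOK 2600 100 = true := by decide +kernel

theorem rows_ok_27 : rowsOK 2700 100 = true := by decide +kernel

theorem rows_ok_28 : rowsOK 2800 100 = true := by decide +kernel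

theorem rows_ok_29 : rowsOK 2900 100 = true := by decide +kernel

theorem rows_ok_30 : rowsOK 3000 100 = true := by decide +kernel

theorem rows_ok_31 : rowsOK 3100 100 = true := by decide +kernel

end Cfsg.Agent.Lib.Helper7.G24L
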