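import Cfsg.Agent.Lib.Helper7.G24LC

/-! # The multiplier of the group of type G2 over the field of four elements, the subgroup L: the check of the rows 4000 to 4799 of the certificate (generated) -/

set_option autoImplicit false
set_option maxRecDepth 100000

namespace Cfsg.Agent.Lib.Helper7.G24L

theorem rows_ok_40 : rowsOK 4000 100 = true := by decide +kernel

theorem rows_ok_41 : rowsOK 4100 100 = true := by decide +kernel

theorem rows_ok_42 : rowsOK 4200 100 = true := by decide +kernel

theorem rows_ok_43 : rowsOK 4300 100 = true := by decide +kernel

theorem rows_ok_44 : rowsOK 4400 100 = true := by decide +kernel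

theorem rows_ok_45 : rowsOK 4500 100 = true := by decide +kernel

theorem rows_ok_46 : rowsOK 4600 100 = true := by decide +kernel

theorem rows_ok_47 : rowsOK 4700 100 = true := by decide +kernel

end Cfsg.Agent.Lib.Helper7.G24L
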