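import Cfsg.Agent.Lib.Helper7.G24LK0
import Cfsg.Agent.Lib.Helper7.G24LK1
import Cfsg.Agent.Lib.Helper7.G24LK2
import Cfsg.Agent.Lib.Helper7.G24LK3
import Cfsg.Agent.Lib.Helper7.G24LK4
import Cfsg.Agent.Lib.Helper7.G24LK5

/-! # The multiplier of the group of type G2 over the field of four elements, the subgroup L: all the rows and words of the certificate are checked, and the words that give the relations
between the classes are traced (generated) -/

set_option autoImplicit false
set_option maxRecDepth 100000

namespace Cfsg.Agent.Lib.Helper7.G24L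

open Cfsg.Agent.Lib.Helper7.MG Cfsg.Agent.Lib.Helper7.HSMult

theorem rows_ok_all : ∀ k, k < 48 → rowsOK (100 * k) 100 = true
  | 0, _ => rows_ok_0
  | 1, _ => rows_ok_1
  | 2, _ => rows_ok_2
  | 3, _ => rows_ok_3
  | 4, _ => rows_ok_4
  | 5, _ => rows_ok_5
  | 6, _ => rows_ok_6
  | 7, _ => rows_ok_7
  | 8, _ => rows_ok_8
  | 9, _ => rows_ok_9
  | 10, _ => rows_ok_10
  | 11, _ => rows_ok_11
  | 12, _ => rows_ok_12
  | 13, _ => rows_ok_13
  | 14, _ => rows_ok_14
  | 15, _ => rows_ok_15
  | 16, _ => rows_ok_16
  | 17, _ => rows_ok_17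
  | 18, _ => rows_ok_18
  | 19, _ => rows_ok_19
  | 20, _ => rows_ok_20
  | 21, _ => rows_ok_21
  | 22, _ => rows_ok_22
  | 23, _ => rows_ok_23
  | 24, _ => rows_ok_24
  | 25, _ => rows_ok_25
  | 26, _ => rows_ok_26
  | 27, _ => rows_ok_27
  | 28, _ => rows_ok_28
  | 29, _ => rows_ok_29
  | 30, _ => rows_ok_30
  | 31, _ => rows_ok_31
  | 32, _ => rows_ok_32
  | 33, _ => rows_ok_33
  | 34, _ => rows_ok_34
  | 35, _ => rows_ok_35
  | 36, _ => rows_ok_36
  | 37, _ => rows_ok_37
  | 38, _ => rows_ok_38
  | 39, _ => rows_ok_39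
  | 40, _ => rows_ok_40
  | 41, _ => rows_ok_41
  | 42, _ => rows_ok_42
  | 43, _ => rows_ok_43
  | 44, _ => rows_ok_44
  | 45, _ => rows_ok_45
  | 46, _ => rows_ok_46
  | 47, _ => rows_ok_47
  | k + 48, h => absurd h (by omega)

/-- **every entry of the table is justified** -/
theorem cert_all : ∀ a, a < cert.n → ∀ x, x < cert.g → cert.slotOK a x = true := by
  intro a ha x hx
  have ha' : a < 4800 := ha
  have hx' : x < 4 := hx
  have h1 := rows_ok_all (a / 100) (by omega)
  rw [rowsOK, allN_iff] at h1
  have h2 := h1 (a % 100) (Nat.mod_lt _ (by norm_num))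
  rw [allN_iff] at h2
  have h3 := h2 x hx'
  have e : Nat.add (100 * (a / 100)) (a % 100) = a := Nat.div_add_mod a 100
  rw [e] at h3
  exact h3

theorem words_ok : wordsOK = true := by decide +kernel

/-- **every word of the certificate is justified** -/
theorem cert_wall : ∀ i, i < cert.nW → cert.wordOK i = true := by
  intro i hi
  have h := words_ok
  rw [wordsOK, allN_iff] at h
  exact h i hi

theorem close_0 : cert.scan 4095 (cert.W 68) 4662 0 = some (4662, 64368107684267355616490606542) := by decide +kernel

theorem close_1 : cert.scan 4095 (cert.W 32) 2089 0 = some (2089, 59429641023358214520006819759) := by decide +kernel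

theorem close_2 : cert.scan 4095 (cert.W 60) 4058 0 = some (4058, 64366898793035353140146261974) := by decide +kernel

theorem close_3 : cert.scan 4095 (cert.W 230) 3868 0 = some (3868, 71789710424013581667009620035) := by decide +kernel

theorem close_4 : cert.scan 4095 (cert.W 194) 1719 0 = some (1719, 71799381835182186917841135658) := by decide +kernel

theorem close_5 : cert.scan 4095 (cert.W 176) 1891 0 = some (1891, 71790919383267874849766303872) := by decide +kernel

end Cfsg.Agent.Lib.Helper7.G24L
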