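import Cfsg.Agent.Lib.Helper7.G24TC

/-! # The multiplier of the group of type G2 over the field of four elements, the table over L: the check of the rows 672 to 1343 of the certificate (generated) -/

set_option autoImplicit false
set_option maxRecDepth 100000

namespace Cfsg.Agent.Lib.Helper7.G24T

theorem rows_ok_8 : rowsOK 672 84 = true := by decide +kernel

theorem rows_ok_9 : rowsOK 756 84 = true := by decide +kernel

theorem rows_ok_10 : rowsOK 840 84 = true := by decide +kernel

theorem rows_ok_11 : rowsOK 924 84 = true := by decide +kernel

theorem rows_ok_12 : rowsOK 1008 84 = true := by decide +kernel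

theorem rows_ok_13 : rowsOK 1092 84 = true := by decide +kernel

theorem rows_ok_14 : rowsOK 1176 84 = true := by decide +kernel

theorem rows_ok_15 : rowsOK 1260 84 = true := by decide +kernel

end Cfsg.Agent.Lib.Helper7.G24T
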