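import Cfsg.Agent.Lib.Helper7.G24TC

/-! # The multiplier of the group of type G2 over the field of four elements, the table over L: the check of the rows 1344 to 2015 of the certificate (generated) -/

set_option autoImplicit false
set_option maxRecDepth 100000

namespace Cfsg.Agent.Lib.Helper7.G24T

theorem rows_ok_16 : rowsOK 1344 84 = true := by decide +kernel

theorem rows_ok_17 : rowsOK 1428 84 = true := by decide +kernel

theorem rows_ok_18 : rowsOK 1512 84 = true := by decide +kernel

theorem rows_ok_19 : rowsOK 1596 84 = true := by decide +kernel

theorem rows_ok_20 : rowsOK 1680 84 = true := by decide +kernel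

theorem rows_ok_21 : rowsOK 1764 84 = true := by decide +kernel

theorem rows_ok_22 : rowsOK 1848 84 = true := by decide +kernel

theorem rows_ok_23 : rowsOK 1932 84 = true := by decide +kernel

end Cfsg.Agent.Lib.Helper7.G24T
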