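import Cfsg.Agent.Lib.Helper7.G24TC

/-! # The multiplier of the group of type G2 over the field of four elements, the table over L: the check of the rows 2016 to 2687 of the certificate (generated) -/

set_option autoImplicit false
set_option maxRecDepth 100000

namespace Cfsg.Agent.Lib.Helper7.G24T

theorem rows_ok_24 : rowsOK 2016 84 = true := by decide +kernel

theorem rows_ok_25 : rowsOK 2100 84 = true := by decide +kernel

theorem rows_ok_26 : rowsOK 2184 84 = true := by decide +kernel

theorem rows_ok_27 : rowsOK 2268 84 = true := by decide +kernel

theorem rows_ok_28 : rowsOK 2352 84 = true := by decide +kernel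

theorem rows_ok_29 : rowsOK 2436 84 = true := by decide +kernel

theorem rows_ok_30 : rowsOK 2520 84 = true := by decide +kernel

theorem rows_ok_31 : rowsOK 2604 84 = true := by decide +kernel

end Cfsg.Agent.Lib.Helper7.G24T
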