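import Cfsg.Agent.Lib.Helper7.G24TC

/-! # The multiplier of the group of type G2 over the field of four elements, the table over L: the check of the rows 2688 to 3359 of the certificate (generated) -/

set_option autoImplicit false
set_option maxRecDepth 100000

namespace Cfsg.Agent.Lib.Helper7.G24T

theorem rows_ok_32 : rowsOK 2688 84 = true := by decide +kernel

theorem rows_ok_33 : rowsOK 2772 84 = true := by decide +kernel

theorem rows_ok_34 : rowsOK 2856 84 = true := by decide +kernel

theorem rows_ok_35 : rowsOK 2940 84 = true := by decide +kernel

theorem rows_ok_36 : rowsOK 3024 84 = true := by decide +kernel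

theorem rows_ok_37 : rowsOK 3108 84 = true := by decide +kernel

theorem rows_ok_38 : rowsOK 3192 84 = true := by decide +kernel

theorem rows_ok_39 : rowsOK 3276 84 = true := by decide +kernel

end Cfsg.Agent.Lib.Helper7.G24T
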