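import Cfsg.Agent.Lib.Helper7.G24TK0
import Cfsg.Agent.Lib.Helper7.G24TK1
import Cfsg.Agent.Lib.Helper7.G24TK2
import Cfsg.Agent.Lib.Helper7.G24TK3
import Cfsg.Agent.Lib.Helper7.G24TK4
import Cfsg.Agent.Lib.Helper7.G24TK5

/-! # The multiplier of the group of type G2 over the field of four elements, the table over L: all the rows and words of the certificate are checked, and the words that give the relations
between the classes are traced (generated) -/

set_option autoImplicit false
set_option maxRecDepth 100000

namespace Cfsg.Agent.Lib.Helper7.G24T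

open Cfsg.Agent.Lib.Helper7.MG Cfsg.Agent.Lib.Helper7.HSMult

theorem rows_ok_all : ∀ k, k < 48 → rowsOK (84 * k) 84 = true
  | 0, _ => rows_ok_0
  | 1, _ => rows_ok_1
  | 2, _ => rows_ok_2
  | 3, _ => rows_ok_3
  | 4, _ => rows_ok_4
  | 5, _ => rows_ok_5
  | 6, _ => rows_ok_6
  | 7, _ => rows_ok_7
  | 8, _ => rows_ok_8
  | 9, _ => rows_ok_9
  | 10, _ => rows_ok_10
  | 11, _ => rows_ok_11
  | 12, _ => rows_ok_12
  | 13, _ => rows_ok_13
  | 14, _ => rows_ok_14
  | 15, _ => rows_ok_15
  | 16, _ => rows_ok_16
  | 17, _ => rows_ok_17
  | 18, _ => rows_ok_18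
  | 19, _ => rows_ok_19
  | 20, _ => rows_ok_20
  | 21, _ => rows_ok_21
  | 22, _ => rows_ok_22
  | 23, _ => rows_ok_23
  | 24, _ => rows_ok_24
  | 25, _ => rows_ok_25
  | 26, _ => rows_ok_26
  | 27, _ => rows_ok_27
  | 28, _ => rows_ok_28
  | 29, _ => rows_ok_29
  | 30, _ => rows_ok_30
  | 31, _ => rows_ok_31
  | 32, _ => rows_ok_32
  | 33, _ => rows_ok_33
  | 34, _ => rows_ok_34
  | 35, _ => rows_ok_35
  | 36, _ => rows_ok_36
  | 37, _ => rows_ok_37
  | 38, _ => rows_ok_38
  | 39, _ => rows_ok_39
  | 40, _ => rows_ok_40
  | 41, _ => rows_ok_41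
  | 42, _ => rows_ok_42
  | 43, _ => rows_ok_43
  | 44, _ => rows_ok_44
  | 45, _ => rows_ok_45
  | 46, _ => rows_ok_46
  | 47, _ => rows_ok_47
  | k + 48, h => absurd h (by omega)

/-- **every entry of the table is justified** -/
theorem cert_all : ∀ a, a < cert.n → ∀ x, x < cert.g → cert.slotOK a x = true := by
  intro a ha x hx
  have ha' : a < 4032 := ha
  have hx' : x < 6 := hx
  have h1 := rows_ok_all (a / 84) (by omega)
  rw [rowsOK, allN_iff] at h1
  have h2 := h1 (a % 84) (Nat.mod_lt _ (by norm_num))
  rw [allN_iff] at h2
  have h3 := h2 x hx'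
  have e : Nat.add (84 * (a / 84)) (a % 84) = a := Nat.div_add_mod a 84
  rw [e] at h3
  exact h3

theorem words_ok : wordsOK = true := by decide +kernel

/-- **every word of the certificate is justified** -/
theorem cert_wall : ∀ i, i < cert.nW → cert.wordOK i = true := by
  intro i hi
  have h := words_ok
  rw [wordsOK, allN_iff] at h
  exact h i hi

theorem close_0 : cert.scan 4095 (cert.W 34) 2331 0 = some (2331, 59803242625537840283127325934490234323719893659197465) := by decide +kernel

theorem close_1 : cert.scan 4095 (cert.W 197) 3286 0 = some (3286, 143727130961827409187759997310147948165948581638930090) := by decide +kernel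

theorem close_2 : cert.scan 4095 (cert.W 185) 258 0 = some (258, 71859180943944352114658064262099982812115134674157539) := by decide +kernel

theorem close_3 : cert.scan 4095 (cert.W 65) 482 0 = some (482, 62831476809864790089031814879985518867791076835502012) := by decide +kernel

theorem close_4 : cert.scan 4095 (cert.W 126) 3116 0 = some (3116, 65801251068078020370988833642959244382707780328402966) := by decide +kernel

theorem close_5 : cert.scan 4095 (cert.W 115) 1934 0 = some (1934, 65826096732504744621575691831212886091060168895803238) := by decide +kernel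

theorem close_6 : cert.scan 4095 (cert.W 166) 1554 0 = some (1554, 65834865392485858856682237609519374847166153611063247) := by decide +kernel

theorem close_7 : cert.scan 4095 (cert.W 187) 859 0 = some (859, 89606212355476534275044915299973424514091871519174534) := by decide +kernel

theorem close_8 : cert.scan 4095 (cert.W 24) 1998 0 = some (1998, 53923615755688245170466451439172300045573000081215614) := by decide +kernel

theorem close_9 : cert.scan 4095 (cert.W 7) 3659 0 = some (3659, 47995759441916436369480195937019436684350701751533556) := by decide +kernel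

end Cfsg.Agent.Lib.Helper7.G24T
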