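import Mathlib
import Cfsg.Prelude.Def_ClassicalGeometry

/-!
# The symplectic group of degree six over the field of two elements: vectors and matrices as numbers

The sixty-four vectors are numbered by their coordinates; a matrix is given by the numbers of its rows.  A matrix is
determined by the images of the six vectors of the standard basis, and every vector has a number.  A criterion for a
group generated by two elements to be perfect.
-/

set_option autoImplicit false
set_option maxRecDepth 100000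

namespace Cfsg.Agent.Lib.Helper7.Sp6

open Matrix

/-- the place of a coordinate -/
def cd : Fin 3 ⊕ Fin 3 → ℕ := Sum.elim (fun i => i.val) (fun i => 3 + i.val)

/-- the matrix with given rows -/
def mk6 (rows : List ℕ) : Matrix (Fin 3 ⊕ Fin 3) (Fin 3 ⊕ Fin 3) (ZMod 2) :=
  Matrix.of fun i j => if Nat.testBit (rows.getD (cd i) 0) (cd j) then 1 else 0

/-- the vector with a given number -/
def dec (n : ℕ) : Fin 3 ⊕ Fin 3 → ZMod 2 := fun i => if Nat.testBit n (cd i) then 1 else 0

/-- the parity of the number of digits of a number below sixty-four -/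
def par (m : ℕ) : ℕ := cond (Nat.testBit 0x6996966996696996 m) 1 0

/-- the number of the image of a vector under the matrix with given rows -/
def mvN (rows : List ℕ) (v : ℕ) : ℕ :=
  Nat.add (par (Nat.land (rows.getD 0 0) v)) (Nat.add (Nat.mul 2 (par (Nat.land (rows.getD 1 0) v)))
    (Nat.add (Nat.mul 4 (par (Nat.land (rows.getD 2 0) v))) (Nat.add (Nat.mul 8 (par (Nat.land (rows.getD 3 0) v)))
      (Nat.add (Nat.mul 16 (par (Nat.land (rows.getD 4 0) v))) (Nat.mul 32 (par (Nat.land (rows.getD 5 0) v)))))))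

theorem dec_pow : ∀ j : Fin 3 ⊕ Fin 3, dec (2 ^ cd j) = Pi.single j 1 := by decide

theorem cd_lt : ∀ j : Fin 3 ⊕ Fin 3, cd j < 6 := by decide

/-- a matrix is determined by the images of the vectors of the standard basis -/
theorem mat_eq_of_basis {A B : Matrix (Fin 3 ⊕ Fin 3) (Fin 3 ⊕ Fin 3) (ZMod 2)}
    (h : ∀ k, k < 6 → A *ᵥ dec (2 ^ k) = B *ᵥ dec (2 ^ k)) : A = B := by
  ext i j
  have h1 := h (cd j) (cd_lt j)
  rw [dec_pow, Matrix.mulVec_single_one, Matrix.mulVec_single_one] at h1
  exact congrFun h1 i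

/-- the number of a vector -/
def enc (v : Fin 3 ⊕ Fin 3 → ZMod 2) : ℕ :=
  (v (Sum.inl 0)).val + 2 * (v (Sum.inl 1)).val + 4 * (v (Sum.inl 2)).val + 8 * (v (Sum.inr 0)).val +
    16 * (v (Sum.inr 1)).val + 32 * (v (Sum.inr 2)).val

/-- the vector with given coordinates -/
def vecOf (a b c d e f : ZMod 2) : Fin 3 ⊕ Fin 3 → ZMod 2 := Sum.elim ![a, b, c] ![d, e, f]

theorem dec_enc_aux : ∀ a b c d e f : ZMod 2,
    dec (enc (vecOf a b c d e f)) = vecOf a b c d e f ∧ enc (vecOf a b c d e f) < 64 := by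
  decide

theorem vecOf_eta (v : Fin 3 ⊕ Fin 3 → ZMod 2) :
    v = vecOf (v (Sum.inl 0)) (v (Sum.inl 1)) (v (Sum.inl 2)) (v (Sum.inr 0)) (v (Sum.inr 1)) (v (Sum.inr 2)) := by
  funext i
  rcases i with i | i <;> fin_cases i <;> rfl

/-- every vector has a number -/
theorem exists_code (v : Fin 3 ⊕ Fin 3 → ZMod 2) : ∃ n, n < 64 ∧ v = dec n := by
  have h := dec_enc_aux (v (Sum.inl 0)) (v (Sum.inl 1)) (v (Sum.inl 2)) (v (Sum.inr 0)) (v (Sum.inr 1))
    (v (Sum.inr 2))
  rw [← vecOf_eta v] at h
  exact ⟨enc v, h.2, h.1.symm⟩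

/-- the number of the image of a vector under a transvection -/
def tvN (n p : ℕ) : ℕ :=
  cond (Nat.testBit 0x6996966996696996
    (Nat.land (Nat.lor (Nat.shiftRight n 3) (Nat.land (Nat.shiftLeft n 3) 63)) p)) (Nat.xor p n) p

theorem tv_tab : ∀ n, n < 64 → ∀ k, k < 6 →
    Cfsg.sympTransvection 3 (dec n) 1 *ᵥ dec (2 ^ k) = dec (tvN n (2 ^ k)) := by
  decide +kernel

theorem sympTransvection_zero6 (w : Fin 3 ⊕ Fin 3 → ZMod 2) : Cfsg.sympTransvection 3 w 0 = 1 := by
  rw [Cfsg.sympTransvection, zero_smul, add_zero]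

/-- the checked action of the matrix with given rows on the numbered vectors -/
def actOK (rows : List ℕ) : Prop := ∀ p, p < 64 → mk6 rows *ᵥ dec p = dec (mvN rows p) ∧ mvN rows p < 64

instance (rows : List ℕ) : Decidable (actOK rows) := by
  unfold actOK
  infer_instance

/-- **a group generated by two elements `x`, `y` with `x ^ a = y ^ b = (x y) ^ c = 1`, where `a` is prime to `b c` and
`b` is prime to `c`, is perfect** -/
theorem perfect_of_triangle {G : Type*} [Group G] {x y : G} (hgen : Subgroup.closure {x, y} = (⊤ : Subgroup G))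
    {a b c : ℕ} (hx : x ^ a = 1) (hy : y ^ b = 1) (hxy : (x * y) ^ c = 1) (h1 : Nat.Coprime a (c * b))
    (h2 : Nat.Coprime c b) : commutator G = ⊤ := by
  set π := (Abelianization.of : G →* Abelianization G) with hπ
  set X := π x with hX
  set Y := π y with hY
  have e1 : X ^ a = 1 := by rw [hX, ← map_pow, hx, map_one]
  have e2 : Y ^ b = 1 := by rw [hY, ← map_pow, hy, map_one]
  have e3 : X ^ c * Y ^ c = 1 := by rw [← mul_pow, hX, hY, ← map_mul, ← map_pow, hxy, map_one]
  have e4 : X ^ (c * b) = 1 := by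
    have : (X ^ c * Y ^ c) ^ b = 1 := by rw [e3, one_pow]
    rw [mul_pow, ← pow_mul, ← pow_mul, mul_comm c b, pow_mul Y, e2, one_pow, mul_one, mul_comm b c] at this
    exact this
  have x1 : X = 1 := by
    have d1 := orderOf_dvd_of_pow_eq_one e1
    have d2 := orderOf_dvd_of_pow_eq_one e4
    have d3 : orderOf X ∣ Nat.gcd a (c * b) := Nat.dvd_gcd d1 d2
    rw [h1] at d3
    have : X ^ 1 = 1 := orderOf_dvd_iff_pow_eq_one.1 d3
    rwa [pow_one] at this
  have y1 : Y = 1 := by
    rw [x1, one_pow, one_mul] at e3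
    have d1 := orderOf_dvd_of_pow_eq_one e3
    have d2 := orderOf_dvd_of_pow_eq_one e2
    have d3 : orderOf Y ∣ Nat.gcd c b := Nat.dvd_gcd d1 d2
    rw [h2] at d3
    have : Y ^ 1 = 1 := orderOf_dvd_iff_pow_eq_one.1 d3
    rwa [pow_one] at this
  have hk : (⊤ : Subgroup G) ≤ π.ker := by
    rw [← hgen, Subgroup.closure_le]
    intro g hg
    rcases hg with rfl | rfl
    · exact x1
    · exact y1
  rw [← Abelianization.ker_of G]
  exact top_le_iff.1 hk

/-- **a group generated by two elements `x`, `y` with `x ^ a = y ^ b = 1` and `(x y) ^ c = x ^ d`, where `a` is prime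
to `(c - d) b` and `b` is prime to `c`, is perfect** -/
theorem perfect_of_relation {G : Type*} [Group G] {x y : G} (hgen : Subgroup.closure {x, y} = (⊤ : Subgroup G))
    {a b c d : ℕ} (hx : x ^ a = 1) (hy : y ^ b = 1) (hxy : (x * y) ^ c = x ^ d) (hdc : d ≤ c)
    (h1 : Nat.Coprime a ((c - d) * b)) (h2 : Nat.Coprime c b) : commutator G = ⊤ := by
  set π := (Abelianization.of : G →* Abelianization G) with hπ
  set X := π x with hX
  set Y := π y with hY
  have e1 : X ^ a = 1 := by rw [hX, ← map_pow, hx, map_one]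
  have e2 : Y ^ b = 1 := by rw [hY, ← map_pow, hy, map_one]
  have e3 : X ^ c * Y ^ c = X ^ d := by rw [← mul_pow, hX, hY, ← map_mul, ← map_pow, hxy, map_pow]
  have e4 : X ^ ((c - d) * b) = 1 := by
    have h : (X ^ c * Y ^ c) ^ b = (X ^ d) ^ b := by rw [e3]
    rw [mul_pow, ← pow_mul, ← pow_mul, ← pow_mul, mul_comm c b, pow_mul Y, e2, one_pow, mul_one] at h
    have hs : b * c = d * b + (c - d) * b := by
      rw [← Nat.add_mul, Nat.add_sub_cancel' hdc, mul_comm]
    rw [hs, pow_add] at h
    exact mul_left_cancel (a := X ^ (d * b)) (by rw [h, mul_one])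
  have x1 : X = 1 := by
    have d1 := orderOf_dvd_of_pow_eq_one e1
    have d2 := orderOf_dvd_of_pow_eq_one e4
    have d3 : orderOf X ∣ Nat.gcd a ((c - d) * b) := Nat.dvd_gcd d1 d2
    rw [h1] at d3
    have : X ^ 1 = 1 := orderOf_dvd_iff_pow_eq_one.1 d3
    rwa [pow_one] at this
  have y1 : Y = 1 := by
    rw [x1, one_pow, one_mul, one_pow] at e3
    have d1 := orderOf_dvd_of_pow_eq_one e3
    have d2 := orderOf_dvd_of_pow_eq_one e2
    have d3 : orderOf Y ∣ Nat.gcd c b := Nat.dvd_gcd d1 d2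
    rw [h2] at d3
    have : Y ^ 1 = 1 := orderOf_dvd_iff_pow_eq_one.1 d3
    rwa [pow_one] at this
  have hk : (⊤ : Subgroup G) ≤ π.ker := by
    rw [← hgen, Subgroup.closure_le]
    intro g hg
    rcases hg with rfl | rfl
    · exact x1
    · exact y1
  rw [← Abelianization.ker_of G]
  exact top_le_iff.1 hk

end Cfsg.Agent.Lib.Helper7.Sp6
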