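import Cfsg.Agent.Lib.Helper7.G24Base2
import Cfsg.Agent.Lib.Helper7.G24LD
import Cfsg.Agent.Lib.Helper7.G24TD
import Cfsg.Agent.Lib.Helper7.Sp6Base

/-!
# The presented group of type G2 over the field of four elements and its subgroup `L`: the words of the two
certificates, the order of `L`

All the words of the two certificates are trivial in the group.  The table of the cosets of `L` shows that `L` has
index at most 4032, the table of the cosets in `L` of the subgroup generated by `v` shows that `L` has at most 62400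
elements; so `L` has 62400 elements.  The group `L` is perfect.
-/

set_option autoImplicit false
set_option maxRecDepth 100000

namespace Cfsg.Agent.Lib.Helper7.G24B

open Cfsg Cfsg.Spor Cfsg.Agent.Lib.Helper7.MG Cfsg.Agent.Lib.Helper7.HSMult
open Cfsg.Agent.Lib.Helper6.SuzESub Cfsg.Agent.Lib.Helper6
open scoped IsMulCommutative commutatorElement

/-! ### the words of the certificates -/

theorem chk_triv1 : (allN 316 fun i => strictL (G24L.cert.W i) fun w => base4 w) = true := by decide +kernel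

theorem wd_lK1_W {i : ℕ} (hi : i < 316) : VCert.wd lK1 (G24L.cert.W i) = 1 := by
  have h := chk_triv1
  rw [allN_iff] at h
  have h1 := h i hi
  rw [strictL_eq] at h1
  exact wd_lK1_eq_one_of_base h1

theorem chk_triv2 : (allN 215 fun i => strictL (G24T.cert.W i) fun w => base6 w) = true := by decide +kernel

theorem wd_lK_W {i : ℕ} (hi : i < 215) : VCert.wd lK (G24T.cert.W i) = 1 := by
  have h := chk_triv2
  rw [allN_iff] at h
  have h1 := h i hi
  rw [strictL_eq] at h1
  exact wd_lK_eq_one_of_base h1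

/-! ### the order of `v` -/

theorem chk_v13 : base4 (wpow 13 [2]) = true := by decide +kernel

theorem lK1_two_pow : lK1 2 ^ 13 = 1 := by
  have h := wd_lK1_eq_one_of_base chk_v13
  rw [wd_wpow, VCert.wd_cons, VCert.wd_nil, mul_one] at h
  exact h

theorem chk_v_move : ev6 [2] 1 ≠ 1 := by decide +kernel

theorem lK1_two_ne : lK1 2 ≠ 1 := by
  intro h
  have h1 : lK 2 = 1 := by
    have := congrArg Subtype.val h
    rw [lK1_val (by norm_num)] at this
    exact this
  have h2 : φB (lK 2) = 1 := by rw [h1, map_one]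
  have e : lK 2 = VCert.wd pgen [0, 1, 2, 1, 3, 4, 5] := rfl
  rw [e, φB_wd_pgen _ (by intro x hx; simp only [List.mem_cons, List.not_mem_nil, or_false] at hx; omega)] at h2
  have h3 := wd_pmB_val [0, 1, 2, 1, 3, 4, 5] ⟨1, by norm_num⟩
  rw [h2] at h3
  exact chk_v_move h3.symm

theorem dvd_of_lK1_two_pow {i : ℕ} (h : lK1 2 ^ i = 1) : 13 ∣ i := by
  have h1 : orderOf (lK1 2) ∣ 13 := orderOf_dvd_of_pow_eq_one lK1_two_pow
  have h2 : orderOf (lK1 2) = 1 ∨ orderOf (lK1 2) = 13 := (Nat.dvd_prime (by norm_num)).1 h1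
  rcases h2 with h2 | h2
  · exact absurd (orderOf_eq_one_iff.1 h2) lK1_two_ne
  · rw [← h2]
    exact orderOf_dvd_of_pow_eq_one h

/-! ### the order of `L` -/

/-- the letters of the subgroup of the second table -/
theorem lt_four_of_sub {x : ℕ} (hx : (Nat.beq x 0 || Nat.beq x 1 || Nat.beq x 2 || Nat.beq x 3) = true) : x < 4 := by
  rw [Bool.or_eq_true, Bool.or_eq_true, Bool.or_eq_true] at hx
  rcases hx with ((h | h) | h) | h
  · rw [Nat.eq_of_beq_eq_true h]; norm_num
  · rw [Nat.eq_of_beq_eq_true h]; norm_num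
  · rw [Nat.eq_of_beq_eq_true h]; norm_num
  · rw [Nat.eq_of_beq_eq_true h]; norm_num

instance instFiniteL : Finite ↥L := inferInstance

theorem hgen_L : ∀ y : ↥L, ∃ u : List ℕ, (∀ x ∈ u, x < G24L.cert.g) ∧ y = (u.map lK1).prod := by
  apply exists_word_of_closure lK1 4 (fun x => Nat.xor x 1) _ closure_lK1
  intro x hx
  refine ⟨?_, lK1_iv hx⟩
  have : x = 0 ∨ x = 1 ∨ x = 2 ∨ x = 3 := by omega
  rcases this with rfl | rfl | rfl | rfl <;> decide

theorem hgen_E6 : ∀ y : E6, ∃ u : List ℕ, (∀ x ∈ u, x < G24T.cert.g) ∧ y = (u.map lK).prod := by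
  apply exists_word_of_closure lK 6 (fun x => Nat.xor x 1) _ closure_lK
  intro x hx
  refine ⟨?_, lK_iv hx⟩
  have : x = 0 ∨ x = 1 ∨ x = 2 ∨ x = 3 ∨ x = 4 ∨ x = 5 := by omega
  rcases this with rfl | rfl | rfl | rfl | rfl | rfl <;> decide

theorem card_L_le : Nat.card ↥L ≤ 62400 := by
  have h := card_le_Zc (MonoidHom.id ↥L) G24L.cert lK1 (fun _ => 1) 2 13 (by decide) (by norm_num)
    (fun i hi => dvd_of_lK1_two_pow hi) lK1_two_pow
    (by
      intro x hx
      rcases eq_two_or_three hx with rfl | rfl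
      · exact Subgroup.mem_zpowers _
      · have : lK1 3 = (lK1 2)⁻¹ := lK1_iv (x := 2) (by norm_num)
        rw [this]
        exact Subgroup.inv_mem _ (Subgroup.mem_zpowers _))
    (fun j _ => Subgroup.one_mem _) hgen_L (by decide) (by decide)
    (fun x hx => lK1_iv hx)
    (fun i hi => by rw [MonoidHom.mem_ker]; exact wd_lK1_W hi)
    (fun i hi _ => by rw [wd_lK1_W hi, VCert.ek, G24L.cert.kap_triv _ (fun _ _ => rfl)]; rfl)
    G24L.cert_all G24L.cert_wall
  rw [Zc_eq_bot_of_triv _ _ (fun _ _ => rfl), Subgroup.card_bot] at h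
  exact h

theorem index_L_le : L.index ≤ 4032 ∧ L.index ≠ 0 := by
  refine G24T.cert.index_le (γ := lK) (H := L) (z := fun _ => 1) ⊥ ?_ ?_ ?_ (by decide) (by decide)
    (fun x hx => lK_iv hx) ?_ ?_ ?_ G24T.cert_all G24T.cert_wall L le_rfl ?_ hgen_E6 (by decide)
  · intro u hu g
    rw [Subgroup.mem_bot] at hu
    rw [hu, mul_one, mul_inv_cancel]
    exact Subgroup.one_mem _
  · intro j _
    exact Subgroup.one_mem _
  · intro u _ hu
    exact Subgroup.mem_bot.1 hu
  · intro x hx
    exact lK_mem_L (lt_four_of_sub hx)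
  · intro i hi
    rw [Subgroup.mem_bot]
    exact wd_lK_W hi
  · intro i hi _
    rw [wd_lK_W hi, VCert.ek, G24T.cert.kap_triv _ (fun _ _ => rfl)]
    rfl
  · intro j _
    exact Subgroup.one_mem _

theorem card_L : Nat.card ↥L = 62400 := by
  apply le_antisymm card_L_le
  have h1 := Subgroup.card_mul_index L
  rw [card_E6] at h1
  obtain ⟨h2, _⟩ := index_L_le
  by_contra hlt
  have h3 : Nat.card ↥L ≤ 62399 := by omega
  have : Nat.card ↥L * L.index ≤ 62399 * 4032 := Nat.mul_le_mul h3 h2
  omega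

/-! ### `L` is perfect -/

theorem chk_u2 : base4 (wpow 2 [0]) = true := by decide +kernel

theorem chk_uv3 : base4 (wpow 5 [0, 2]) = true := by decide +kernel

theorem closure_pair_L : Subgroup.closure {lK1 0, lK1 2} = (⊤ : Subgroup ↥L) := by
  rw [eq_top_iff, ← closure_lK1, Subgroup.closure_le]
  rintro _ ⟨x, hx, rfl⟩
  have hx' : x < 4 := hx
  have : x = 0 ∨ x = 1 ∨ x = 2 ∨ x = 3 := by omega
  rcases this with rfl | rfl | rfl | rfl
  · exact Subgroup.subset_closure (by simp)
  · have : lK1 1 = (lK1 0)⁻¹ := lK1_iv (x := 0) (by norm_num)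
    rw [SetLike.mem_coe, this]
    exact inv_mem (Subgroup.subset_closure (by simp))
  · exact Subgroup.subset_closure (by simp)
  · have : lK1 3 = (lK1 2)⁻¹ := lK1_iv (x := 2) (by norm_num)
    rw [SetLike.mem_coe, this]
    exact inv_mem (Subgroup.subset_closure (by simp))

theorem L_perfect : commutator ↥L = ⊤ := by
  have h2 : lK1 0 ^ 2 = 1 := by
    have h := wd_lK1_eq_one_of_base chk_u2
    rw [wd_wpow, VCert.wd_cons, VCert.wd_nil, mul_one] at h
    exact h
  have h3 : (lK1 0 * lK1 2) ^ 5 = 1 := by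
    have h := wd_lK1_eq_one_of_base chk_uv3
    rw [wd_wpow, VCert.wd_cons, VCert.wd_cons, VCert.wd_nil, mul_one] at h
    exact h
  exact Cfsg.Agent.Lib.Helper7.Sp6.perfect_of_triangle closure_pair_L h2 lK1_two_pow h3 (by norm_num) (by norm_num)

theorem chk_nc : ev6 [0, 2] 1 ≠ ev6 [2, 0] 1 := by decide +kernel

theorem E6_perfect : commutator E6 = ⊤ := by
  rcases (inferInstance : (commutator E6).Normal).eq_bot_or_eq_top with h | h
  · exfalso
    have hc : ∀ x y : E6, x * y = y * x := by
      intro x y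
      have : ⁅x, y⁆ ∈ commutator E6 :=
        Subgroup.commutator_mem_commutator (Subgroup.mem_top x) (Subgroup.mem_top y)
      rw [h, Subgroup.mem_bot, commutatorElement_eq_one_iff_mul_comm] at this
      exact this
    have h1 : VCert.wd lK [0, 2] = VCert.wd lK [2, 0] := by
      rw [VCert.wd_cons, VCert.wd_cons, VCert.wd_nil, VCert.wd_cons, VCert.wd_cons, VCert.wd_nil, mul_one, mul_one]
      exact hc _ _
    rw [wd_lK_expW, wd_lK_expW] at h1
    have h2 := congrArg φB h1
    rw [φB_wd_pgen _ (expW_lt _), φB_wd_pgen _ (expW_lt _)] at h2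
    have h3 := wd_pmB_val (expW [0, 2]) ⟨1, by norm_num⟩
    rw [h2, wd_pmB_val] at h3
    exact chk_nc h3.symm
  · exact h

end Cfsg.Agent.Lib.Helper7.G24B
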