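import Cfsg.Agent.Lib.Helper7.G24Grp
import Cfsg.Agent.Lib.Helper7.MGenF
import Cfsg.Agent.Lib.Helper7.M12MultA
import Cfsg.Agent.S0102

/-!
# The multiplier of the group of type G2 over the field of four elements, the subgroup L: every finite stem extension of `L` is an isomorphism

Lifts of the two generators are chosen so that two of the given words are trivial; this is possible since the kernel
has order prime to thirteen, the Sylow subgroups for this prime being cyclic.  The checked table shows that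
the kernel is generated by the values of the other given words; the traced words give relations between them, which
make their thirteenth powers trivial, so that they are trivial.
-/

set_option autoImplicit false
set_option maxRecDepth 100000

namespace Cfsg.Agent.Lib.Helper7.G24L

open Cfsg Cfsg.Agent.Lib.Helper7.MG Cfsg.Agent.Lib.Helper7.HSMult Cfsg.Agent.Lib.Helper7.G24B
open scoped IsMulCommutative

/-! ### the data of the certificate -/

/-- the words that define the central elements -/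
def axI : ℕ → ℕ
  | 0 => 2
  | 1 => 3
  | 2 => 4
  | 3 => 315
  | 4 => 10
  | _ => 0

theorem axI_lt : ∀ j, axI j < 316
  | 0 => by decide
  | 1 => by decide
  | 2 => by decide
  | 3 => by decide
  | 4 => by decide
  | _ + 5 => by
    show (0 : ℕ) < 316
    decide

/-- the word of which a power is the second trivial word -/
def yW : List ℕ := [0, 2, 2, 2, 2]

theorem chk_wT : ∀ i, i < 316 → cert.wT i = 0 →
    i = 0 ∨ i = 1 ∨ ∃ j, j < 5 ∧ i = axI j := by decide +kernel

theorem chk_W2 : cert.W 0 = wpow 13 [2] := by decide +kernel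

theorem chk_W3 : cert.W 1 = wpow 13 yW := by decide +kernel

theorem chk_yW : expsum (wpow 13 yW) = 13 := by decide

theorem chk_len : ∀ i, i < 316 → (cert.W i).length ≤ 255 := by decide +kernel

theorem chk_ax : ∀ j, j < 5 → ∀ l, l < 5 →
    ((fld (cert.rhs (axI j)) l : ℤ) - ((cert.W (axI j)).length : ℤ) * (cert.B : ℤ)) = if l = j then 1 else 0 := by
  decide +kernel

theorem chk_ex : ∀ l, l < 5 →
    (((fld (cert.rhs 0) l : ℤ) - ((cert.W 0).length : ℤ) * (cert.B : ℤ)) = 0 ∧
     ((fld (cert.rhs 1) l : ℤ) - ((cert.W 1).length : ℤ) * (cert.B : ℤ)) = 0) := by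
  decide +kernel

/-- the relations between the central elements that the traced words give -/
def relL : List (List ℤ) := [[57, (-26), (-69), 39, 4],
    [101, 0, (-37), 12, (-10)],
    [36, 0, (-37), 10, 5],
    [(-71), 0, 17, (-5), 9],
    [(-12), 26, (-1), (-9), (-1)],
    [(-97), 39, 42, (-32), 8]]

/-- the combinations of the relations that give the thirteenth powers of the central elements -/
def lamL : List (List ℤ) := [[52954606549519, (-393042783473099), 66994944128931, (-491585152780469), 52954606549516, 2],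
    [(-309665641981), 2298418472011, (-391770116621), 2874670247679, (-309665641988), 5],
    [12424486877, (-92217754452), 15718704339, (-115338280767), 12424486868, 6],
    [(-2782330), 20651224, (-3520049), 25828820, (-2782345), 10],
    [255, (-1850), 312, (-2323), 240, 10]]

theorem chk_rel_0 : ∀ l, l < 5 → ((fld (cert.rhs 68) l : ℤ) - (fld 64368107684267355616490606542 l : ℤ)) = (relL.getD 0 []).getD l 0 := by
  decide +kernel

theorem chk_rel_1 : ∀ l, l < 5 → ((fld (cert.rhs 32) l : ℤ) - (fld 59429641023358214520006819759 l : ℤ)) = (relL.getD 1 []).getD l 0 := by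
  decide +kernel

theorem chk_rel_2 : ∀ l, l < 5 → ((fld (cert.rhs 60) l : ℤ) - (fld 64366898793035353140146261974 l : ℤ)) = (relL.getD 2 []).getD l 0 := by
  decide +kernel

theorem chk_rel_3 : ∀ l, l < 5 → ((fld (cert.rhs 230) l : ℤ) - (fld 71789710424013581667009620035 l : ℤ)) = (relL.getD 3 []).getD l 0 := by
  decide +kernel

theorem chk_rel_4 : ∀ l, l < 5 → ((fld (cert.rhs 194) l : ℤ) - (fld 71799381835182186917841135658 l : ℤ)) = (relL.getD 4 []).getD l 0 := by
  decide +kernel

theorem chk_rel_5 : ∀ l, l < 5 → ((fld (cert.rhs 176) l : ℤ) - (fld 71790919383267874849766303872 l : ℤ)) = (relL.getD 5 []).getD l 0 := by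
  decide +kernel

theorem chk_lam : ∀ j, j < 5 → ∀ l, l < 5 →
    ((13 : ℕ) : ℤ) * ((if l = j then 1 else 0) - dotL (([] : List (List ℤ)).getD j []) [] l) =
      dotL (lamL.getD j []) relL l := by
  decide +kernel

theorem chk_mu : ∀ t, t < ([] : List (List ℤ)).length → ∀ l, l < 5 →
    ((13 : ℕ) : ℤ) * (([] : List ℤ).getD t 0 * (([] : List (List ℤ)).getD t []).getD l 0) =
      dotL (([] : List (List ℤ)).getD t []) relL l := by
  intro t ht
  exact absurd ht (Nat.not_lt_zero t)

section upper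

variable {Γ : Type*} [Group Γ] [Finite Γ] (σ : Γ →* ↥L) (hsurj : Function.Surjective σ)
  (hcen : σ.ker ≤ Subgroup.center Γ) (hder : σ.ker ≤ commutator Γ)

include hsurj hcen hder in
theorem not_dvd_card_ker : ¬ 13 ∣ Nat.card σ.ker := by
  have hperf := perfect_of_stem σ hsurj hcen hder L_perfect
  have : Fact (Nat.Prime 13) := ⟨by norm_num⟩
  exact Cfsg.Agent.S0102.result L_perfect
    (fun P => isCyclic_sylow_of_card_eq 13 4800 (by rw [card_L]) (by norm_num) P) σ hsurj hcen hperf

/-! ### the letters in the extension -/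

/-- the letters in the extension -/
def gU (a c : Γ) : ℕ → Γ
  | 0 => a
  | 1 => a⁻¹
  | 2 => c
  | 3 => c⁻¹
  | _ => 1

omit [Finite Γ] in
theorem map_gU (a c : Γ) (ha : σ a = lK1 0) (hc : σ c = lK1 2) : ∀ x, σ (gU a c x) = lK1 x
  | 0 => ha
  | 1 => by
    show σ a⁻¹ = lK1 1
    rw [map_inv, ha]
    exact (lK1_iv (x := 0) (by norm_num)).symm
  | 2 => hc
  | 3 => by
    show σ c⁻¹ = lK1 3
    rw [map_inv, hc]
    exact (lK1_iv (x := 2) (by norm_num)).symm
  | x + 4 => by
    show σ 1 = lK1 (x + 4)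
    rw [map_one, lK1_of_ge (by omega)]

omit [Finite Γ] in
theorem map_wd_gU (a c : Γ) (ha : σ a = lK1 0) (hc : σ c = lK1 2) :
    ∀ w : List ℕ, σ (VCert.wd (gU a c) w) = VCert.wd lK1 w
  | [] => map_one σ
  | x :: w => by
    rw [VCert.wd_cons, VCert.wd_cons, map_mul, map_gU σ a c ha hc x, map_wd_gU a c ha hc w]

include hsurj hcen hder in
/-- **lifts of the generators for which the two words are trivial** -/
theorem exists_lifts : ∃ a c : Γ, σ a = lK1 0 ∧ σ c = lK1 2 ∧ c ^ 13 = 1 ∧
    VCert.wd (gU a c) (wpow 13 yW) = 1 := by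
  have hnd := not_dvd_card_ker σ hsurj hcen hder
  have cop : (Nat.card ↥σ.ker).Coprime 13 :=
    ((Nat.Prime.coprime_iff_not_dvd (by norm_num)).2 hnd).symm
  obtain ⟨a0, ha0⟩ := hsurj (lK1 0)
  obtain ⟨c0, hc0⟩ := hsurj (lK1 2)
  -- the order of `c`
  have hk1 : c0 ^ 13 ∈ σ.ker := by
    rw [MonoidHom.mem_ker, map_pow, hc0, lK1_two_pow]
  obtain ⟨v, hv, hvh⟩ := exists_root σ.ker 13 cop _ hk1
  set c := c0 * v⁻¹ with hc
  have hcc : Commute c0 v⁻¹ := by
    have := Subgroup.mem_center_iff.1 (Subgroup.inv_mem _ (hcen hv)) c0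
    exact this
  have hch : c ^ 13 = 1 := by
    rw [hc, hcc.mul_pow, inv_pow, hvh, mul_inv_cancel]
  have hσc : σ c = lK1 2 := by
    rw [hc, map_mul, map_inv, MonoidHom.mem_ker.1 hv, inv_one, mul_one, hc0]
  -- the second word
  have hk2 : VCert.wd (gU a0 c) (wpow 13 yW) ∈ σ.ker := by
    rw [MonoidHom.mem_ker, map_wd_gU σ a0 c ha0 hσc, ← chk_W3]
    exact wd_lK1_W (by norm_num)
  obtain ⟨w, hw, hwr⟩ := exists_root σ.ker 13 cop _ (Subgroup.inv_mem _ hk2)
  have hwc : ∀ x : Γ, w⁻¹ * x = x * w⁻¹ := fun x =>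
    (Subgroup.mem_center_iff.1 (Subgroup.inv_mem _ (hcen hw)) x).symm
  refine ⟨a0 * w, c, ?_, hσc, hch, ?_⟩
  · rw [map_mul, MonoidHom.mem_ker.1 hw, mul_one, ha0]
  · rw [wd_central_mul (gU a0 c) (gU (a0 * w) c) w (hcen hw) rfl (by
        show (a0 * w)⁻¹ = a0⁻¹ * w⁻¹
        rw [mul_inv_rev, hwc]) (by
        intro x h0 h1
        match x, h0, h1 with
        | 0, h0, _ => exact absurd rfl h0
        | 1, _, h1 => exact absurd rfl h1
        | 2, _, _ => rfl
        | 3, _, _ => rfl
        | _ + 4, _, _ => rfl), chk_yW]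
    show _ * w ^ ((13 : ℕ) : ℤ) = 1
    rw [zpow_natCast, hwr, mul_inv_cancel]

variable (a c : Γ) (ha : σ a = lK1 0) (hc : σ c = lK1 2) (hch : c ^ 13 = 1)
  (hy : VCert.wd (gU a c) (wpow 13 yW) = 1)

include ha hc in
omit [Finite Γ] in
theorem wd_gU_mem_ker {i : ℕ} (hi : i < 316) : VCert.wd (gU a c) (cert.W i) ∈ σ.ker := by
  rw [MonoidHom.mem_ker, map_wd_gU σ a c ha hc, wd_lK1_W hi]

omit [Finite Γ] in
theorem gU_iv : ∀ x, x < 4 → gU a c (Nat.xor x 1) = (gU a c x)⁻¹
  | 0, _ => rfl
  | 1, _ => (inv_inv a).symm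
  | 2, _ => rfl
  | 3, _ => (inv_inv c).symm
  | x + 4, h => absurd h (by omega)

/-- the central elements: the values of the given words -/
noncomputable def zU (j : ℕ) : Subgroup.center Γ :=
  ⟨VCert.wd (gU a c) (cert.W (axI j)), hcen (wd_gU_mem_ker σ a c ha hc (axI_lt j))⟩

include hch hy in
omit [Finite Γ] in
theorem hW0_U : ∀ i, i < cert.nW → cert.wT i = 0 →
    VCert.wd (gU a c) (cert.W i) = (cert.ek (zU σ hcen a c ha hc) i : Γ) := by
  intro i hi hT
  rcases chk_wT i hi hT with rfl | rfl | ⟨j, hj, rfl⟩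
  · rw [VCert.ek, cert.kap_one _ fun l hl => (chk_ex l hl).1, chk_W2, wd_wpow, VCert.wd_cons, VCert.wd_nil, mul_one]
    exact hch
  · rw [VCert.ek, cert.kap_one _ fun l hl => (chk_ex l hl).2, chk_W3]
    exact hy
  · rw [VCert.ek, cert.kap_unit _ hj (chk_ax j hj)]
    rfl

include hcen hder ha hc in
omit [Finite Γ] in
theorem hgen_U : ∀ y : Γ, ∃ u : List ℕ, (∀ x ∈ u, x < cert.g) ∧ y = (u.map (gU a c)).prod := by
  apply exists_word_of_closure (gU a c) 4 (fun x => Nat.xor x 1)
  · intro x hx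
    refine ⟨?_, gU_iv a c x hx⟩
    have : x = 0 ∨ x = 1 ∨ x = 2 ∨ x = 3 := by omega
    rcases this with rfl | rfl | rfl | rfl <;> decide
  · apply Cfsg.Agent.Lib.Helper7.M12Mult.closure_eq_top_of_stem (σ := σ) hcen hder
    intro g
    have hg : g ∈ Subgroup.closure (lK1 '' Set.Iio 4) := by rw [closure_lK1]; exact Subgroup.mem_top g
    induction hg using Subgroup.closure_induction with
    | mem y hy =>
      obtain ⟨x, hx, rfl⟩ := hy
      exact ⟨gU a c x, Subgroup.subset_closure ⟨x, hx, rfl⟩, map_gU σ a c ha hc x⟩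
    | one => exact ⟨1, one_mem _, map_one σ⟩
    | mul p q _ _ ihp ihq =>
      obtain ⟨p', hp', rfl⟩ := ihp
      obtain ⟨q', hq', rfl⟩ := ihq
      exact ⟨p' * q', mul_mem hp' hq', map_mul σ p' q'⟩
    | inv p _ ihp =>
      obtain ⟨p', hp', rfl⟩ := ihp
      exact ⟨p'⁻¹, inv_mem hp', map_inv σ p'⟩

include hsurj hder hch hy in
/-- **the kernel is generated by the central elements** -/
theorem ker_eq_Zc_U : σ.ker = Zc (zU σ hcen a c ha hc) 5 := by
  refine ker_eq_Zc σ cert (gU a c) (zU σ hcen a c ha hc) 2 13 hsurj (by rw [card_L]; rfl) (by decide) (by norm_num)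
    ?_ hch ?_ ?_ (hgen_U σ hcen hder a c ha hc) (by decide) (by decide) (gU_iv a c) ?_
    (hW0_U σ hcen a c ha hc hch hy) cert_all cert_wall
  · intro i hi
    have : σ (gU a c 2) = lK1 2 := hc
    rw [this] at hi
    exact dvd_of_lK1_two_pow hi
  · intro x hx
    rcases eq_two_or_three hx with rfl | rfl
    · exact Subgroup.mem_zpowers _
    · exact Subgroup.inv_mem _ (Subgroup.mem_zpowers _)
  · intro j _
    exact wd_gU_mem_ker σ a c ha hc (axI_lt j)
  · intro i hi
    exact wd_gU_mem_ker σ a c ha hc hi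

include hch hy in
omit [Finite Γ] in
/-- the relations between the central elements -/
theorem rel_U : ∀ r ∈ relL, zprod (zU σ hcen a c ha hc) 5 (fun l => r.getD l 0) = 1 := by
  have hKn : ∀ u, u ∈ σ.ker → ∀ g : Γ, g * u * g⁻¹ ∈ σ.ker := fun u hu g =>
    (inferInstance : σ.ker.Normal).conj_mem u hu g
  have hHK : ∀ u, u ∈ Subgroup.zpowers (gU a c 2) → u ∈ σ.ker → u = 1 := by
    apply zpowers_inf_ker σ (gU a c) 2 13 _ hch
    intro i hi
    have : σ (gU a c 2) = lK1 2 := hc
    rw [this] at hi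
    exact dvd_of_lK1_two_pow hi
  have hsub : ∀ x, cert.sub x = true → gU a c x ∈ Subgroup.zpowers (gU a c 2) := by
    intro x hx
    rcases eq_two_or_three hx with rfl | rfl
    · exact Subgroup.mem_zpowers _
    · exact Subgroup.inv_mem _ (Subgroup.mem_zpowers _)
  have key : ∀ {i v row : ℕ}, i < 316 → cert.scan 4095 (cert.W i) row 0 = some (row, v) →
      cert.ek (zU σ hcen a c ha hc) i = cert.kap (zU σ hcen a c ha hc) v (cert.W i).length := by
    intro i v row hi h
    exact cert.close_spec (γ := gU a c) (H := Subgroup.zpowers (gU a c 2)) σ.ker hKn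
      (fun j _ => wd_gU_mem_ker σ a c ha hc (axI_lt j)) hHK (by decide) (by decide) (gU_iv a c) hsub
      (fun i hi => wd_gU_mem_ker σ a c ha hc hi) (hW0_U σ hcen a c ha hc hch hy) cert_all cert_wall hi
      (chk_len i hi) h
  intro r hr
  simp only [relL, List.mem_cons, List.not_mem_nil, or_false] at hr
  rcases hr with rfl | rfl | rfl | rfl | rfl | rfl
  · exact cert.rel_of_close _ (key (by norm_num) close_0) _ chk_rel_0
  · exact cert.rel_of_close _ (key (by norm_num) close_1) _ chk_rel_1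
  · exact cert.rel_of_close _ (key (by norm_num) close_2) _ chk_rel_2
  · exact cert.rel_of_close _ (key (by norm_num) close_3) _ chk_rel_3
  · exact cert.rel_of_close _ (key (by norm_num) close_4) _ chk_rel_4
  · exact cert.rel_of_close _ (key (by norm_num) close_5) _ chk_rel_5

include hsurj hcen hder ha hc hch hy in
/-- **the kernel is trivial** -/
theorem ker_eq_bot_U : σ.ker = ⊥ := by
  have hnd := not_dvd_card_ker σ hsurj hcen hder
  have copq : (Nat.card ↥σ.ker).Coprime 13 :=
    ((Nat.Prime.coprime_iff_not_dvd (by norm_num)).2 hnd).symm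
  have hK := ker_eq_Zc_U σ hsurj hcen hder a c ha hc hch hy
  set S : Subgroup (Subgroup.center Γ) := σ.ker.comap (Subgroup.center Γ).subtype with hS
  have hzS : ∀ j, j < 5 → zU σ hcen a c ha hc j ∈ S := fun j _ => wd_gU_mem_ker σ a c ha hc (axI_lt j)
  have hq : ∀ u, u ∈ S → u ^ 13 = 1 → u = 1 := by
    intro u hu huq
    have h1 : (⟨(u : Γ), hu⟩ : ↥σ.ker) ^ 13 = 1 := by
      apply Subtype.ext
      rw [Subgroup.coe_pow, Subgroup.coe_one]
      show (u : Γ) ^ 13 = 1
      rw [← Subgroup.coe_pow, huq, Subgroup.coe_one]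
    have h2 := eq_one_of_pow_of_coprime 13 copq _ h1
    apply Subtype.ext
    have h3 : ((⟨(u : Γ), hu⟩ : ↥σ.ker) : Γ) = ((1 : ↥σ.ker) : Γ) := congrArg Subtype.val h2
    exact h3
  obtain ⟨hz, _⟩ := abelian_of_relations_q (zU σ hcen a c ha hc) 5 relL
    (rel_U σ hcen a c ha hc hch hy) S hzS 13 hq [] [] [] lamL [] chk_lam chk_mu
  rw [hK]
  apply Zc_eq_bot_of_triv
  intro j hj
  rw [hz j hj]
  rfl

end upper

/-- **every finite stem extension of `L` is an isomorphism** -/
theorem ker_eq_bot_of_stem {Γ : Type*} [Group Γ] [Finite Γ] (σ : Γ →* ↥L) (hsurj : Function.Surjective σ)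
    (hcen : σ.ker ≤ Subgroup.center Γ) (hder : σ.ker ≤ commutator Γ) : σ.ker = ⊥ := by
  obtain ⟨a, c, ha, hc, hch, hy⟩ := exists_lifts σ hsurj hcen hder
  exact ker_eq_bot_U σ hsurj hcen hder a c ha hc hch hy

universe u in
theorem MF_L : Cfsg.Agent.Lib.Helper7.M12Mult.MF.{u} ↥L := fun _ _ _ τ hs hc hd =>
  ker_eq_bot_of_stem τ hs hc hd

end Cfsg.Agent.Lib.Helper7.G24L
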