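import Mathlib

set_option autoImplicit false

namespace Cfsg.Agent.Lib.Helper7.GL42

open Matrix

section
variable {V : Type*} [CommGroup V]

/-- the `ZMod 2`-module structure on an elementary abelian 2-group written additively -/
@[reducible] def zmod2Module (h2 : ∀ v : V, v ^ 2 = 1) : Module (ZMod 2) (Additive V) :=
  AddCommGroup.zmodModule (n := 2) (fun x => by
    induction x using Additive.rec with | ofMul v => 
    rw [← ofMul_pow, h2]; rfl)

/-- an automorphism as a linear equivalence -/
def autLin (h2 : ∀ v : V, v ^ 2 = 1) (σ : MulAut V) :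
    letI := zmod2Module h2
    Additive V ≃ₗ[ZMod 2] Additive V :=
  letI := zmod2Module h2
  { MulEquiv.toAdditive σ with
    map_smul' := fun c x => (AddMonoidHom.toZModLinearMap 2 ((MulEquiv.toAdditive σ : Additive V ≃+ Additive V) : Additive V →+ Additive V)).map_smul c x }

theorem autLin_apply (h2 : ∀ v : V, v ^ 2 = 1) (σ : MulAut V) (x : Additive V) :
    autLin h2 σ x = Additive.ofMul (σ x.toMul) := rfl

theorem exists_injective_mulAut_GL [Finite V] (h2 : ∀ v : V, v ^ 2 = 1) (hcard : Nat.card V ≤ 2 ^ 4) :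
    ∃ f : MulAut V →* GL (Fin 4) (ZMod 2), Function.Injective f := by
  letI := zmod2Module h2
  haveI : Finite (Additive V) := ‹Finite V›
  haveI : Module.Finite (ZMod 2) (Additive V) := Module.Finite.of_finite
  set r := Module.finrank (ZMod 2) (Additive V) with hr
  have hcardV : Nat.card (Additive V) = 2 ^ r := by
    have := Module.natCard_eq_pow_finrank (K := ZMod 2) (V := Additive V)
    rw [this, hr]; simp
  have hr4 : r ≤ 4 := by
    have h1 : 2 ^ r ≤ 2 ^ 4 := by
      rw [← hcardV]; exact hcard
    exact (Nat.pow_le_pow_iff_right (by norm_num)).mp h1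
  have hfin : Module.finrank (ZMod 2) (Additive V × (Fin (4 - r) → ZMod 2)) =
      Module.finrank (ZMod 2) (Fin 4 → ZMod 2) := by
    rw [Module.finrank_prod, Module.finrank_fin_fun, Module.finrank_fin_fun]
    omega
  let e : (Additive V × (Fin (4 - r) → ZMod 2)) ≃ₗ[ZMod 2] (Fin 4 → ZMod 2) :=
    LinearEquiv.ofFinrankEq _ _ hfin
  let F : MulAut V →* ((Fin 4 → ZMod 2) ≃ₗ[ZMod 2] (Fin 4 → ZMod 2)) :=
    { toFun := fun σ => (e.symm.trans ((autLin h2 σ).prodCongr (LinearEquiv.refl _ _))).trans e
      map_one' := by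
        ext x
        simp [autLin_apply]
      map_mul' := by
        intro σ τ
        ext x
        simp [autLin_apply] }
  have hF : Function.Injective F := by
    intro σ τ h
    ext v
    have h1 := congrArg (fun g => e.symm (g (e (Additive.ofMul v, 0)))) h
    simp [F, autLin_apply] at h1
    exact h1
  let ι : ((Fin 4 → ZMod 2) ≃ₗ[ZMod 2] (Fin 4 → ZMod 2)) ≃* GL (Fin 4) (ZMod 2) :=
    ((LinearMap.GeneralLinearGroup.generalLinearEquiv (ZMod 2) (Fin 4 → ZMod 2)).symm).trans
      (Matrix.GeneralLinearGroup.toLin (n := Fin 4) (R := ZMod 2)).symm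
  exact ⟨ι.toMonoidHom.comp F, fun a b h => hF (ι.injective h)⟩

end

end Cfsg.Agent.Lib.Helper7.GL42
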