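import Mathlib
import Cfsg.Prelude.Def_Local
import Cfsg.Prelude.Def_CaseTheorems
import Cfsg.Agent.Lib.Helper7.GL42A
import Cfsg.Agent.Lib.Helper7.GL42B
import Cfsg.Agent.H1.PStableQuot
import Cfsg.Agent.H1.Frattini
import Cfsg.Agent.H2.AutFrattini
import Cfsg.Agent.Lib.Lead.QuotAut

set_option autoImplicit false
set_option linter.style.haveILetI false

namespace Cfsg.Agent.Lib.Helper7.GL42

open Cfsg Cfsg.Agent.H1 Cfsg.Agent.Lib.Lead.QuotAut
open scoped commutatorElement

variable {X : Type*} [Group X] [Finite X]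

/-- `C_X(O_2(X)) ≤ O_2(X)` for a 2-constrained group with trivial odd core -/
theorem centralizer_pCore_le (hc : Cfsg.IsPConstrained 2 X) (hO : Cfsg.pPrimeCore 2 X = ⊥) :
    Subgroup.centralizer (Cfsg.pCore 2 X : Set X) ≤ Cfsg.pCore 2 X := by
  have heq := pPrimePCore_eq_pCore_of_pPrimeCore_eq_bot hO
  have hp : IsPGroup 2 ↥(pPrimePCore 2 X) := by rw [heq]; exact Cfsg.Agent.H1.pCore_isPGroup 2
  haveI : Fact (Nat.Prime 2) := ⟨Nat.prime_two⟩
  obtain ⟨P⟩ : Nonempty (Sylow 2 ↥(pPrimePCore 2 X)) := inferInstance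
  have hP : (P : Subgroup ↥(pPrimePCore 2 X)) = ⊤ := by
    have h1 : IsPGroup 2 ↥(⊤ : Subgroup ↥(pPrimePCore 2 X)) := fun g => by
      obtain ⟨k, hk⟩ := hp g.1
      exact ⟨k, Subtype.ext hk⟩
    exact (P.is_maximal' h1 le_top).symm
  have h2 := hc P
  rw [hP, ← MonoidHom.range_eq_map, Subgroup.range_subtype, heq] at h2
  exact h2

end Cfsg.Agent.Lib.Helper7.GL42

namespace Cfsg.Agent.Lib.Helper7.GL42

open Cfsg Cfsg.Agent.H1 Cfsg.Agent.Lib.Lead.QuotAut
open scoped commutatorElement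

variable {X : Type*} [Group X] [Finite X]

theorem main_aux (Q : Subgroup X) [hQn : Q.Normal] (hQp : IsPGroup 2 ↥Q)
    (hcent : Subgroup.centralizer (Q : Set X) ≤ Q)
    (hmax : ∀ N : Subgroup X, N.Normal → IsPGroup 2 ↥N → N ≤ Q)
    (h4 : Cfsg.SectionalPRankLE 2 4 ↥Q) :
    ∃ f : X ⧸ Q →* ↥(alternatingGroup (Fin 8)), Function.Injective f := by
  haveI : Fact (Nat.Prime 2) := ⟨Nat.prime_two⟩
  obtain ⟨K, hK⟩ : ∃ K : Subgroup X, K = (frattini ↥Q).map Q.subtype := ⟨_, rfl⟩
  haveI hKn : K.Normal := by rw [hK]; exact ConjAct.normal_of_characteristic_of_normal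
  have hKQ : K.subgroupOf Q = frattini ↥Q := by
    rw [hK]; exact Subgroup.comap_map_eq_self_of_injective (Subgroup.subtype_injective Q) _
  have hmemK : ∀ x : ↥Q, x ∈ K.subgroupOf Q ↔ x ∈ frattini ↥Q := fun x => by rw [hKQ]
  -- V is elementary abelian of order ≤ 16
  have hV2 : ∀ v : ↥Q ⧸ K.subgroupOf Q, v ^ 2 = 1 := by
    intro v
    induction v using QuotientGroup.induction_on with
    | H x =>
      rw [← QuotientGroup.mk_pow, QuotientGroup.eq_one_iff, hmemK]
      exact pow_p_mem_frattini hQp x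
  have hVc : ∀ a b : ↥Q ⧸ K.subgroupOf Q, a * b = b * a := by
    intro a b
    induction a using QuotientGroup.induction_on with
    | H a =>
      induction b using QuotientGroup.induction_on with
      | H b =>
        rw [← QuotientGroup.mk_mul, ← QuotientGroup.mk_mul, QuotientGroup.eq, hmemK]
        have e : (a * b)⁻¹ * (b * a) = ⁅b⁻¹, a⁻¹⁆ := by rw [commutatorElement_def]; group
        rw [e]
        exact commutator_le_frattini hQp
          (Subgroup.commutator_mem_commutator (Subgroup.mem_top _) (Subgroup.mem_top _))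
  have hidx : (frattini ↥Q).index ≤ 2 ^ 4 := by
    have h5 := h4 (⊤ : Subgroup ↥Q) ((frattini ↥Q).subgroupOf ⊤)
    have hmemN : ∀ x : ↥(⊤ : Subgroup ↥Q), x ∈ (frattini ↥Q).subgroupOf ⊤ ↔ (x : ↥Q) ∈ frattini ↥Q :=
      fun x => Subgroup.mem_subgroupOf
    have h6 := h5 ⊤ ⟨⟨fun a b => by
      obtain ⟨a, -⟩ := a
      obtain ⟨b, -⟩ := b
      apply Subtype.ext
      show a * b = b * a
      induction a using QuotientGroup.induction_on with
      | H a =>
        induction b using QuotientGroup.induction_on with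
        | H b =>
          rw [← QuotientGroup.mk_mul, ← QuotientGroup.mk_mul, QuotientGroup.eq, hmemN]
          have e : (((a * b)⁻¹ * (b * a) : ↥(⊤ : Subgroup ↥Q)) : ↥Q) = ⁅(b : ↥Q)⁻¹, (a : ↥Q)⁻¹⁆ := by
            rw [commutatorElement_def]; push_cast; group
          rw [e]
          exact commutator_le_frattini hQp
            (Subgroup.commutator_mem_commutator (Subgroup.mem_top _) (Subgroup.mem_top _))⟩⟩
      (by
        intro v _
        induction v using QuotientGroup.induction_on with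
        | H x =>
          rw [← QuotientGroup.mk_pow, QuotientGroup.eq_one_iff, hmemN]
          push_cast
          exact pow_p_mem_frattini hQp (x : ↥Q))
    rw [Subgroup.card_top, ← Subgroup.index_eq_card] at h6
    have h7 : ((frattini ↥Q).subgroupOf ⊤).index = (frattini ↥Q).index :=
      Subgroup.relIndex_top_right (frattini ↥Q)
    rw [h7] at h6
    exact h6
  have hVcard : Nat.card (↥Q ⧸ K.subgroupOf Q) ≤ 2 ^ 4 := by
    rw [← Subgroup.index_eq_card, hKQ]; exact hidx
  -- the action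
  obtain ⟨φ, hφ⟩ : ∃ φ : X →* MulAut (↥Q ⧸ K.subgroupOf Q), φ = quotAut Q K := ⟨_, rfl⟩
  have hφmk : ∀ (g : X) (x : ↥Q), φ g (x : ↥Q ⧸ K.subgroupOf Q) =
      (((MulAut.conjNormal g : MulAut ↥Q) x : ↥Q) : ↥Q ⧸ K.subgroupOf Q) := by
    intro g x; rw [hφ]; exact quotAut_mk Q K g x
  have hQker : Q ≤ φ.ker := by
    intro g hg
    rw [MonoidHom.mem_ker]
    ext v
    induction v using QuotientGroup.induction_on with
    | H x =>
      rw [hφmk, MulAut.one_apply]
      symm
      rw [QuotientGroup.eq, hmemK]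
      have e : x⁻¹ * (MulAut.conjNormal g : MulAut ↥Q) x = ⁅x⁻¹, (⟨g, hg⟩ : ↥Q)⁆ := by
        apply Subtype.ext
        rw [commutatorElement_def]
        push_cast
        rw [MulAut.conjNormal_apply]
        group
      rw [e]
      exact commutator_le_frattini hQp
        (Subgroup.commutator_mem_commutator (Subgroup.mem_top _) (Subgroup.mem_top _))
  have hkerQ : φ.ker ≤ Q := by
    apply hmax _ (MonoidHom.normal_ker φ)
    -- automorphisms induced by the kernel are trivial on the Frattini quotient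
    have hA : ∀ α ∈ (φ.ker).map (MulAut.conjNormal (H := Q)), ∀ x : ↥Q, α x * x⁻¹ ∈ frattini ↥Q := by
      rintro _ ⟨c, hc, rfl⟩ x
      have h1 : φ c (x : ↥Q ⧸ K.subgroupOf Q) = (x : ↥Q ⧸ K.subgroupOf Q) := by
        rw [MonoidHom.mem_ker.mp hc, MulAut.one_apply]
      rw [hφmk, QuotientGroup.eq, hmemK] at h1
      have h2 := (frattini ↥Q).inv_mem h1
      have h3 : x * (((MulAut.conjNormal c : MulAut ↥Q) x)⁻¹ * x)⁻¹ * x⁻¹ ∈ frattini ↥Q :=
        (inferInstance : (frattini ↥Q).Normal).conj_mem _ h2 x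
      have e : x * (((MulAut.conjNormal c : MulAut ↥Q) x)⁻¹ * x)⁻¹ * x⁻¹ =
          (MulAut.conjNormal c : MulAut ↥Q) x * x⁻¹ := by group
      rw [e] at h3
      exact h3
    obtain ⟨n, hn⟩ := IsPGroup.iff_card.mp hQp
    obtain ⟨r, -, hr⟩ := (Nat.dvd_prime_pow Nat.prime_two).mp
      (hn ▸ Subgroup.index_dvd_card (frattini ↥Q))
    have hdvd := Cfsg.Agent.H2.AutFrat.card_dvd_of_trivial_on_frattini_quotient hn hr _ hA
    obtain ⟨a, -, ha⟩ := (Nat.dvd_prime_pow Nat.prime_two).mp hdvd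
    intro c
    -- c ^ 2^a centralizes Q
    have h1 : (MulAut.conjNormal (H := Q) ((c : X) ^ 2 ^ a)) = 1 := by
      rw [map_pow]
      have hmem : MulAut.conjNormal (H := Q) (c : X) ∈ (φ.ker).map (MulAut.conjNormal (H := Q)) :=
        ⟨c, c.2, rfl⟩
      have := pow_card_eq_one' (G := ↥((φ.ker).map (MulAut.conjNormal (H := Q)))) (x := ⟨_, hmem⟩)
      rw [ha] at this
      exact congrArg Subtype.val this
    have h2 : (c : X) ^ 2 ^ a ∈ Subgroup.centralizer (Q : Set X) := by
      rw [Subgroup.mem_centralizer_iff]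
      intro x hx
      have h3 := congrArg (fun α : MulAut ↥Q => ((α ⟨x, hx⟩ : ↥Q) : X)) h1
      simp only [MulAut.conjNormal_apply, MulAut.one_apply] at h3
      have := congrArg (fun t => t * (c : X) ^ 2 ^ a) h3
      simpa using this.symm
    obtain ⟨b, hb⟩ := hQp ⟨_, hcent h2⟩
    refine ⟨a + b, ?_⟩
    apply Subtype.ext
    have hb' := congrArg Subtype.val hb
    push_cast at hb' ⊢
    rw [pow_add, pow_mul]
    exact hb'
  letI : CommGroup (↥Q ⧸ K.subgroupOf Q) :=
    { (inferInstance : Group (↥Q ⧸ K.subgroupOf Q)) with mul_comm := hVc }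
  obtain ⟨f1, hf1⟩ := exists_injective_mulAut_GL (V := ↥Q ⧸ K.subgroupOf Q) hV2 hVcard
  obtain ⟨f2, hf2⟩ := exists_injective_GL_A8
  refine ⟨(f2.comp f1).comp (QuotientGroup.lift Q φ hQker), ?_⟩
  intro a b hab
  induction a using QuotientGroup.induction_on with
  | H a =>
    induction b using QuotientGroup.induction_on with
    | H b =>
      have h1 : φ a = φ b := hf1 (hf2 hab)
      rw [QuotientGroup.eq]
      apply hkerQ
      rw [MonoidHom.mem_ker, map_mul, map_inv, h1, inv_mul_cancel]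

theorem main (hc : Cfsg.IsPConstrained 2 X) (hO : Cfsg.pPrimeCore 2 X = ⊥)
    (h4 : Cfsg.SectionalPRankLE 2 4 ↥(Cfsg.pCore 2 X)) :
    ∃ f : X ⧸ Cfsg.pCore 2 X →* ↥(alternatingGroup (Fin 8)), Function.Injective f :=
  main_aux (Cfsg.pCore 2 X) (Cfsg.Agent.H1.pCore_isPGroup 2) (centralizer_pCore_le hc hO)
    (fun _ hN hNp => le_pCore hN hNp) h4

end Cfsg.Agent.Lib.Helper7.GL42
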