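import Mathlib

/-! Quadratic pairs over `𝔽_p` (helper7): two elements `x, y` generating `K`, acting on a finite
`𝔽_p`-module with `(x-1)² = (y-1)² = 0`.  On an irreducible module `τ = uv + vu`
(`u = x-1`, `v = y-1`) commutes with `K`, generates a finite field `F`, the module is
two-dimensional over `F`, and `K` maps to `SL₂(F)` with the kernel of the action as kernel. -/

set_option autoImplicit false
set_option linter.style.haveILetI false
set_option linter.unusedSectionVars false

namespace Cfsg.Agent.Lib.Helper7.QuadLin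

universe u v

section general

variable {k : Type*} [CommRing k] {K : Type u} [Group K] {W : Type v} [AddCommGroup W] [Module k W]

/-- elements whose action commutes with a given endomorphism -/
def commSub (ρ : Representation k K W) (τ : Module.End k W) : Subgroup K where
  carrier := {g | Commute τ (ρ g)}
  one_mem' := by
    show Commute τ (ρ 1)
    rw [map_one]; exact Commute.one_right τ
  mul_mem' := by
    intro a b ha hb
    show Commute τ (ρ (a * b))
    rw [map_mul]; exact Commute.mul_right ha hb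
  inv_mem' := by
    intro g hg
    show Commute τ (ρ g⁻¹)
    have h1 : ρ g⁻¹ * ρ g = 1 := by rw [← map_mul, inv_mul_cancel, map_one]
    have h2 : ρ g * ρ g⁻¹ = 1 := by rw [← map_mul, mul_inv_cancel, map_one]
    have hg' : τ * ρ g = ρ g * τ := hg
    show τ * ρ g⁻¹ = ρ g⁻¹ * τ
    calc τ * ρ g⁻¹ = (ρ g⁻¹ * ρ g) * τ * ρ g⁻¹ := by rw [h1, one_mul]
      _ = ρ g⁻¹ * (ρ g * τ) * ρ g⁻¹ := by rw [mul_assoc (ρ g⁻¹)]
      _ = ρ g⁻¹ * (τ * ρ g) * ρ g⁻¹ := by rw [hg']
      _ = ρ g⁻¹ * τ * (ρ g * ρ g⁻¹) := by simp only [mul_assoc]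
      _ = ρ g⁻¹ * τ := by rw [h2, mul_one]

theorem commute_of_closure (ρ : Representation k K W) (τ : Module.End k W) (x y : K)
    (hgen : Subgroup.closure {x, y} = ⊤) (hx : Commute τ (ρ x)) (hy : Commute τ (ρ y)) (g : K) :
    Commute τ (ρ g) := by
  have h : Subgroup.closure {x, y} ≤ commSub ρ τ := by
    rw [Subgroup.closure_le]
    intro z hz
    rcases hz with rfl | hz
    · exact hx
    · rw [Set.mem_singleton_iff] at hz; subst hz; exact hy
  rw [hgen] at h
  exact h (Subgroup.mem_top g)

/-- elements stabilizing an additive subgroup -/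
def stabSub (ρ : Representation k K W) (N : AddSubgroup W) : Subgroup K where
  carrier := {g | (∀ w ∈ N, ρ g w ∈ N) ∧ ∀ w ∈ N, ρ g⁻¹ w ∈ N}
  one_mem' := by
    constructor
    · intro w hw; rw [map_one]; exact hw
    · intro w hw; rw [inv_one, map_one]; exact hw
  mul_mem' := by
    rintro a b ⟨ha, ha'⟩ ⟨hb, hb'⟩
    constructor
    · intro w hw; rw [map_mul]; exact ha _ (hb _ hw)
    · intro w hw; rw [mul_inv_rev, map_mul]; exact hb' _ (ha' _ hw)
  inv_mem' := by
    rintro a ⟨ha, ha'⟩
    exact ⟨ha', by rw [inv_inv]; exact ha⟩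

theorem stab_of_closure (ρ : Representation k K W) (N : AddSubgroup W) (x y : K)
    (hgen : Subgroup.closure {x, y} = ⊤) (hx : ∀ w ∈ N, ρ x w ∈ N) (hx' : ∀ w ∈ N, ρ x⁻¹ w ∈ N)
    (hy : ∀ w ∈ N, ρ y w ∈ N) (hy' : ∀ w ∈ N, ρ y⁻¹ w ∈ N) (g : K) : ∀ w ∈ N, ρ g w ∈ N := by
  have h : Subgroup.closure {x, y} ≤ stabSub ρ N := by
    rw [Subgroup.closure_le]
    intro z hz
    rcases hz with rfl | hz
    · exact ⟨hx, hx'⟩
    · rw [Set.mem_singleton_iff] at hz; subst hz; exact ⟨hy, hy'⟩
  rw [hgen] at h
  exact (h (Subgroup.mem_top g)).1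

/-- if `u * u = 0` and `ρ x = 1 + u` then `ρ x⁻¹ = 1 - u` -/
theorem rho_inv_of_sq_zero (ρ : Representation k K W) (x : K)
    (hx : (ρ x - 1) * (ρ x - 1) = 0) : ρ x⁻¹ = 1 - (ρ x - 1) := by
  have h1 : ρ x⁻¹ * ρ x = 1 := by rw [← map_mul, inv_mul_cancel, map_one]
  have h2 : ρ x * (1 - (ρ x - 1)) = 1 := by
    have : ρ x * (1 - (ρ x - 1)) = 1 - (ρ x - 1) * (ρ x - 1) := by noncomm_ring
    rw [this, hx, sub_zero]
  calc ρ x⁻¹ = ρ x⁻¹ * (ρ x * (1 - (ρ x - 1))) := by rw [h2, mul_one]
    _ = (ρ x⁻¹ * ρ x) * (1 - (ρ x - 1)) := by rw [mul_assoc]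
    _ = 1 - (ρ x - 1) := by rw [h1, one_mul]

theorem one_add_pow_of_sq_zero {R : Type*} [Ring R] (a : R) (ha : a * a = 0) (n : ℕ) :
    (1 + a) ^ n = 1 + n • a := by
  induction n with
  | zero => simp
  | succ n ih =>
    rw [pow_succ, ih, succ_nsmul]
    have : (1 + n • a) * (1 + a) = 1 + (n • a + a) + n • (a * a) := by
      rw [mul_add, mul_one, add_mul, one_mul, smul_mul_assoc]; abel
    rw [this, ha, smul_zero, add_zero]

end general

end Cfsg.Agent.Lib.Helper7.QuadLin


namespace Cfsg.Agent.Lib.Helper7.QuadLin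
universe u v

section fieldcase
variable {p : ℕ} {F : Type*} [Field F] [CharP F p]
variable {K : Type u} [Group K] {W : Type v} [AddCommGroup W] [Module F W]

theorem eq_one_of_pow_char_eq_one [Fact p.Prime] (c : F) (hc : c ^ p = 1) : c = 1 := by
  have h : (c - 1) ^ p = 0 := by
    rw [sub_pow_char, hc, one_pow, sub_self]
  have := pow_eq_zero_iff (Nat.Prime.ne_zero (Fact.out : p.Prime)) |>.mp h
  exact sub_eq_zero.mp this

theorem rho_pow_char (ρ : Representation F K W) (x : K)
    (hx : (ρ x - 1) * (ρ x - 1) = 0) : ρ x ^ p = 1 := by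
  have h1 : ρ x = 1 + (ρ x - 1) := by abel
  rw [h1, one_add_pow_of_sq_zero _ hx]
  have : p • (ρ x - 1) = 0 := by
    rw [← Nat.cast_smul_eq_nsmul F, CharP.cast_eq_zero, zero_smul]
  rw [this, add_zero]

theorem exists_sl2_hom [Fact p.Prime] (ρ : Representation F K W) (x y : K)
    (hgen : Subgroup.closure {x, y} = ⊤)
    (hx : (ρ x - 1) * (ρ x - 1) = 0) (hy : (ρ y - 1) * (ρ y - 1) = 0) (t : F)
    (ht : (ρ x - 1) * (ρ y - 1) + (ρ y - 1) * (ρ x - 1) = t • 1)
    (hirr : ∀ N : AddSubgroup W, (∀ g w, w ∈ N → ρ g w ∈ N) → N = ⊥ ∨ N = ⊤)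
    (w : W) (hw : (ρ x - 1) w = 0) (hvw : (ρ y - 1) w ≠ 0) :
    ∃ φ : K →* Matrix.SpecialLinearGroup (Fin 2) F, ∀ g, φ g = 1 ↔ ρ g = 1 := by
  classical
  obtain ⟨u, hu⟩ : ∃ u, u = ρ x - 1 := ⟨_, rfl⟩
  obtain ⟨v, hv⟩ : ∃ v, v = ρ y - 1 := ⟨_, rfl⟩
  rw [← hu] at hx hw ht
  rw [← hv] at hy hvw ht
  have hw0 : w ≠ 0 := by
    rintro rfl
    exact hvw (map_zero _)
  obtain ⟨w', hw'⟩ : ∃ w', w' = v w := ⟨_, rfl⟩
  have huw' : u w' = t • w := by
    have h1 : (u * v + v * u) w = (t • (1 : Module.End F W)) w := by rw [ht]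
    rw [LinearMap.add_apply, Module.End.mul_apply, Module.End.mul_apply, hw, map_zero, add_zero,
      LinearMap.smul_apply, Module.End.one_apply] at h1
    rw [hw']; exact h1
  have hvw' : v w' = 0 := by
    rw [hw', ← Module.End.mul_apply, hy, LinearMap.zero_apply]
  -- the span
  obtain ⟨N, hN⟩ : ∃ N : Submodule F W, N = Submodule.span F {w, w'} := ⟨_, rfl⟩
  have hwN : w ∈ N := by rw [hN]; exact Submodule.subset_span (Set.mem_insert _ _)
  have hw'N : w' ∈ N := by rw [hN]; exact Submodule.subset_span (Set.mem_insert_of_mem _ rfl)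
  have huN : ∀ n ∈ N, u n ∈ N := by
    intro n hn
    have : Submodule.map u N ≤ N := by
      rw [hN]
      rw [Submodule.map_span_le]
      intro m hm
      rcases hm with rfl | hm
      · rw [hw]; exact Submodule.zero_mem _
      · rw [Set.mem_singleton_iff] at hm; subst hm
        rw [huw', ← hN]; exact Submodule.smul_mem _ _ hwN
    exact this ⟨n, hn, rfl⟩
  have hvN : ∀ n ∈ N, v n ∈ N := by
    intro n hn
    have : Submodule.map v N ≤ N := by
      rw [hN]
      rw [Submodule.map_span_le]
      intro m hm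
      rcases hm with rfl | hm
      · rw [← hw', ← hN]; exact hw'N
      · rw [Set.mem_singleton_iff] at hm; subst hm
        rw [hvw']; exact Submodule.zero_mem _
    exact this ⟨n, hn, rfl⟩
  have hρx : ∀ n, ρ x n = n + u n := by
    intro n; rw [hu, LinearMap.sub_apply, Module.End.one_apply]; abel
  have hρy : ∀ n, ρ y n = n + v n := by
    intro n; rw [hv, LinearMap.sub_apply, Module.End.one_apply]; abel
  have hρx' : ∀ n, ρ x⁻¹ n = n - u n := by
    intro n
    rw [rho_inv_of_sq_zero ρ x (by rw [← hu]; exact hx), ← hu, LinearMap.sub_apply,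
      Module.End.one_apply]
  have hρy' : ∀ n, ρ y⁻¹ n = n - v n := by
    intro n
    rw [rho_inv_of_sq_zero ρ y (by rw [← hv]; exact hy), ← hv, LinearMap.sub_apply,
      Module.End.one_apply]
  have hNtop : N = ⊤ := by
    have hst := stab_of_closure ρ N.toAddSubgroup x y hgen
      (fun n hn => by rw [hρx]; exact N.add_mem hn (huN n hn))
      (fun n hn => by rw [hρx']; exact N.sub_mem hn (huN n hn))
      (fun n hn => by rw [hρy]; exact N.add_mem hn (hvN n hn))
      (fun n hn => by rw [hρy']; exact N.sub_mem hn (hvN n hn))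
    rcases hirr N.toAddSubgroup (fun g n hn => hst g n hn) with h | h
    · exfalso
      have : w ∈ N.toAddSubgroup := hwN
      rw [h, AddSubgroup.mem_bot] at this
      exact hw0 this
    · rw [eq_top_iff]
      intro n _
      have : n ∈ N.toAddSubgroup := by rw [h]; exact AddSubgroup.mem_top n
      exact this
  have hli : LinearIndependent F ![w, w'] := by
    rw [LinearIndependent.pair_iff]
    intro a b hab
    have h1 : v (a • w + b • w') = 0 := by rw [hab, map_zero]
    rw [map_add, map_smul, map_smul, hvw', smul_zero, add_zero, ← hw'] at h1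
    have ha : a = 0 := by
      rcases smul_eq_zero.mp h1 with h | h
      · exact h
      · exfalso; apply hvw; rw [← hw']; exact h
    rw [ha, zero_smul, zero_add] at hab
    have hb : b = 0 := by
      rcases smul_eq_zero.mp hab with h | h
      · exact h
      · exfalso; apply hvw; rw [← hw']; exact h
    exact ⟨ha, hb⟩
  have hsp : ⊤ ≤ Submodule.span F (Set.range ![w, w']) := by
    rw [Matrix.range_cons_cons_empty, ← hN, hNtop]
  obtain ⟨b, hb⟩ : ∃ b : Module.Basis (Fin 2) F W, b = Module.Basis.mk hli hsp := ⟨_, rfl⟩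
  -- the matrix hom
  let M : K →* Matrix (Fin 2) (Fin 2) F :=
    { toFun := fun g => LinearMap.toMatrix b b (ρ g)
      map_one' := by rw [map_one, LinearMap.toMatrix_one]
      map_mul' := fun g h => by rw [map_mul, LinearMap.toMatrix_mul] }
  have hMdef : ∀ g, M g = LinearMap.toMatrix b b (ρ g) := fun g => rfl
  let d : K →* F := (Matrix.detMonoidHom).comp M
  have hdx : ∀ z : K, (ρ z - 1) * (ρ z - 1) = 0 → d z = 1 := by
    intro z hz
    apply eq_one_of_pow_char_eq_one (p := p)
    have h1 : M z ^ p = 1 := by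
      rw [hMdef, LinearMap.toMatrix_pow, rho_pow_char (p := p) ρ z hz, LinearMap.toMatrix_one]
    show (Matrix.detMonoidHom (M z)) ^ p = 1
    rw [← map_pow, h1, map_one]
  have hd : ∀ g, d g = 1 := by
    intro g
    have h1 : Set.EqOn d (1 : K →* F) (Subgroup.closure {x, y}) := by
      apply MonoidHom.eqOn_closure
      intro z hz
      rcases hz with rfl | hz
      · rw [MonoidHom.one_apply]; exact hdx _ (by rw [← hu]; exact hx)
      · rw [Set.mem_singleton_iff] at hz; subst hz
        rw [MonoidHom.one_apply]; exact hdx _ (by rw [← hv]; exact hy)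
    rw [hgen] at h1
    exact h1 (Set.mem_univ g)
  let φ : K →* Matrix.SpecialLinearGroup (Fin 2) F :=
    { toFun := fun g => ⟨M g, hd g⟩
      map_one' := by apply Subtype.ext; show M 1 = 1; rw [map_one]
      map_mul' := fun g h => by
        apply Subtype.ext
        show M (g * h) = M g * M h
        rw [map_mul] }
  refine ⟨φ, ?_⟩
  intro g
  constructor
  · intro hg
    have h1 : M g = 1 := congrArg Subtype.val hg
    rw [hMdef, ← LinearMap.toMatrix_one b] at h1
    exact (LinearMap.toMatrix b b).injective h1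
  · intro hg
    apply Subtype.ext
    show M g = 1
    rw [hMdef, hg, LinearMap.toMatrix_one]

end fieldcase
end Cfsg.Agent.Lib.Helper7.QuadLin


namespace Cfsg.Agent.Lib.Helper7.QuadLin
universe u v

section fieldstr
variable {p : ℕ} [Fact p.Prime]
variable {K : Type u} [Group K] {W : Type v} [AddCommGroup W] [Module (ZMod p) W] [Finite W]
  [Nontrivial W]

theorem exists_field_structure (ρ : Representation (ZMod p) K W)
    (hirr : ∀ N : AddSubgroup W, (∀ g w, w ∈ N → ρ g w ∈ N) → N = ⊥ ∨ N = ⊤)
    (τ : Module.End (ZMod p) W) (hτ : ∀ g, Commute τ (ρ g)) :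
    ∃ (F : Type v) (_ : Field F) (_ : Fintype F) (_ : CharP F p) (_ : Module F W)
      (ρ' : Representation F K W) (t : F),
      (∀ g w, ρ' g w = ρ g w) ∧ (∀ w, τ w = t • w) := by
  classical
  obtain ⟨S, hS⟩ : ∃ S : Subalgebra (ZMod p) (Module.End (ZMod p) W),
    S = Algebra.adjoin (ZMod p) {τ} := ⟨_, rfl⟩
  have hτS : τ ∈ S := by rw [hS]; exact Algebra.subset_adjoin rfl
  -- elements of S commute with the action
  have hScomm : ∀ a ∈ S, ∀ g, Commute a (ρ g) := by
    intro a ha g
    have hle : S ≤ Subalgebra.centralizer (ZMod p) (Set.range ρ) := by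
      rw [hS]
      apply Algebra.adjoin_le
      intro z hz
      rw [Set.mem_singleton_iff] at hz; subst hz
      rw [SetLike.mem_coe, Subalgebra.mem_centralizer_iff]
      rintro _ ⟨g, rfl⟩
      exact (hτ g).symm.eq
    have := hle ha
    rw [Subalgebra.mem_centralizer_iff] at this
    exact (this (ρ g) ⟨g, rfl⟩).symm
  -- S is commutative
  have hSc : ∀ a ∈ S, ∀ b ∈ S, a * b = b * a := by
    intro a ha b hb
    rw [hS] at ha hb
    have h1 : Commute τ b := (Algebra.commute_of_mem_adjoin_self (R := ZMod p) hb)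
    exact (Algebra.commute_of_mem_adjoin_singleton_of_commute (R := ZMod p) ha h1.symm).symm.eq
  letI cr : CommRing S :=
    { (inferInstance : Ring S) with
      mul_comm := fun a b => Subtype.ext (hSc a.1 a.2 b.1 b.2) }
  haveI : Nontrivial S := by
    refine ⟨⟨0, 1, ?_⟩⟩
    intro h
    have h1 : ((0 : S) : Module.End (ZMod p) W) = ((1 : S) : Module.End (ZMod p) W) := by rw [h]
    obtain ⟨w, hw⟩ := exists_ne (0 : W)
    apply hw
    have h2 : ((0 : S) : Module.End (ZMod p) W) w = ((1 : S) : Module.End (ZMod p) W) w := by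
      rw [h1]
    simpa using h2.symm
  have hinj : ∀ a : S, a ≠ 0 → Function.Injective (a : Module.End (ZMod p) W) := by
    intro a ha
    have hker : ∀ g w, w ∈ (LinearMap.ker (a : Module.End (ZMod p) W)).toAddSubgroup →
        ρ g w ∈ (LinearMap.ker (a : Module.End (ZMod p) W)).toAddSubgroup := by
      intro g w hw
      have hw' : (a : Module.End (ZMod p) W) w = 0 := hw
      show (a : Module.End (ZMod p) W) (ρ g w) = 0
      have hc : (a : Module.End (ZMod p) W) * ρ g = ρ g * (a : Module.End (ZMod p) W) :=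
        (hScomm a.1 a.2 g).eq
      have : ((a : Module.End (ZMod p) W) * ρ g) w = (ρ g * (a : Module.End (ZMod p) W)) w := by
        rw [hc]
      rw [Module.End.mul_apply, Module.End.mul_apply, hw', map_zero] at this
      exact this
    rcases hirr _ hker with h | h
    · rw [← LinearMap.ker_eq_bot]
      exact Submodule.toAddSubgroup_injective (by rw [h]; rfl)
    · exfalso
      apply ha
      apply Subtype.ext
      apply LinearMap.ext
      intro w
      have : w ∈ (LinearMap.ker (a : Module.End (ZMod p) W)).toAddSubgroup := by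
        rw [h]; exact AddSubgroup.mem_top w
      exact this
  haveI : NoZeroDivisors S := by
    refine ⟨?_⟩
    intro a b hab
    by_cases ha : a = 0
    · exact Or.inl ha
    · right
      apply Subtype.ext
      apply LinearMap.ext
      intro w
      apply hinj a ha
      have h1 : ((a * b : S) : Module.End (ZMod p) W) w = 0 := by rw [hab]; rfl
      have h2 : ((0 : S) : Module.End (ZMod p) W) w = 0 := rfl
      rw [h2, map_zero]
      exact h1
  haveI : IsDomain S := NoZeroDivisors.to_isDomain S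
  haveI : Finite (Module.End (ZMod p) W) := DFunLike.finite _
  haveI : Finite S := inferInstance
  letI ft : Fintype S := Fintype.ofFinite S
  letI fld : Field S := Fintype.fieldOfDomain S
  haveI cp : CharP S p := by
    have hinj : Function.Injective (algebraMap (ZMod p) S) := (algebraMap (ZMod p) S).injective
    exact charP_of_injective_algebraMap hinj p
  letI mod : Module S W :=
    { smul := fun a w => (a : Module.End (ZMod p) W) w
      one_smul := fun w => rfl
      mul_smul := fun a b w => rfl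
      smul_zero := fun a => map_zero _
      smul_add := fun a w w' => map_add _ _ _
      add_smul := fun a b w => rfl
      zero_smul := fun w => rfl }
  have hsmul : ∀ (a : S) (w : W), a • w = (a : Module.End (ZMod p) W) w := fun a w => rfl
  let ρ' : Representation S K W :=
    { toFun := fun g =>
        { toFun := fun w => ρ g w
          map_add' := fun w w' => map_add _ _ _
          map_smul' := fun a w => by
            rw [RingHom.id_apply, hsmul, hsmul]
            have hc : (a : Module.End (ZMod p) W) * ρ g = ρ g * (a : Module.End (ZMod p) W) :=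
              (hScomm a.1 a.2 g).eq
            have : (ρ g * (a : Module.End (ZMod p) W)) w = ((a : Module.End (ZMod p) W) * ρ g) w := by
              rw [hc]
            exact this }
      map_one' := by
        apply LinearMap.ext; intro w
        show ρ 1 w = w
        rw [map_one]; rfl
      map_mul' := fun g h => by
        apply LinearMap.ext; intro w
        show ρ (g * h) w = ρ g (ρ h w)
        rw [map_mul]; rfl }
  exact ⟨S, fld, ft, cp, mod, ρ', ⟨τ, hτS⟩, fun g w => rfl, fun w => rfl⟩

end fieldstr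
end Cfsg.Agent.Lib.Helper7.QuadLin


namespace Cfsg.Agent.Lib.Helper7.QuadLin
universe u v

section irr
variable {p : ℕ} [Fact p.Prime]
variable {K : Type u} [Group K] {W : Type v} [AddCommGroup W] [Module (ZMod p) W] [Finite W]

theorem quad_tau_commute {R : Type*} [Ring R] (u v : R) (hu : u * u = 0) :
    Commute (u * v + v * u) (1 + u) := by
  have h1 : (u * v + v * u) * u = u * (u * v + v * u) := by
    calc (u * v + v * u) * u = u * v * u + v * (u * u) := by noncomm_ring
      _ = u * v * u := by rw [hu, mul_zero, add_zero]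
      _ = (u * u) * v + u * v * u := by rw [hu, zero_mul, zero_add]
      _ = u * (u * v + v * u) := by noncomm_ring
  show (u * v + v * u) * (1 + u) = (1 + u) * (u * v + v * u)
  calc (u * v + v * u) * (1 + u) = (u * v + v * u) + (u * v + v * u) * u := by noncomm_ring
    _ = (u * v + v * u) + u * (u * v + v * u) := by rw [h1]
    _ = (1 + u) * (u * v + v * u) := by noncomm_ring

theorem exists_sl2_hom_of_irreducible (ρ : Representation (ZMod p) K W) (x y : K)
    (hgen : Subgroup.closure {x, y} = ⊤)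
    (hx : (ρ x - 1) * (ρ x - 1) = 0) (hy : (ρ y - 1) * (ρ y - 1) = 0)
    (hirr : ∀ N : AddSubgroup W, (∀ g w, w ∈ N → ρ g w ∈ N) → N = ⊥ ∨ N = ⊤)
    (hnt : ∃ g, ρ g ≠ 1) :
    ∃ (F : Type v) (_ : Field F) (_ : Fintype F) (_ : CharP F p)
      (φ : K →* Matrix.SpecialLinearGroup (Fin 2) F), ∀ g, φ g = 1 ↔ ρ g = 1 := by
  classical
  haveI : Nontrivial W := by
    by_contra hW
    rw [not_nontrivial_iff_subsingleton] at hW
    obtain ⟨g, hg⟩ := hnt
    apply hg
    apply LinearMap.ext
    intro w
    exact Subsingleton.elim _ _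
  obtain ⟨u, hu⟩ : ∃ u, u = ρ x - 1 := ⟨_, rfl⟩
  obtain ⟨v, hv⟩ : ∃ v, v = ρ y - 1 := ⟨_, rfl⟩
  have hρx : ρ x = 1 + u := by rw [hu]; abel
  have hρy : ρ y = 1 + v := by rw [hv]; abel
  rw [← hu] at hx
  rw [← hv] at hy
  obtain ⟨τ, hτdef⟩ : ∃ τ, τ = u * v + v * u := ⟨_, rfl⟩
  have hτ : ∀ g, Commute τ (ρ g) := by
    apply commute_of_closure ρ τ x y hgen
    · rw [hτdef, hρx]; exact quad_tau_commute u v hx
    · rw [hτdef, hρy, add_comm (u * v)]; exact quad_tau_commute v u hy
  obtain ⟨F, iF, iFt, iC, iM, ρ', t, h1, h2⟩ := exists_field_structure ρ hirr τ hτ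
  have hsub : ∀ g w, (ρ' g - 1) w = (ρ g - 1) w := by
    intro g w
    rw [LinearMap.sub_apply, LinearMap.sub_apply, Module.End.one_apply, Module.End.one_apply, h1]
  -- a vector killed by u but not by v
  have hex : ∃ w, u w = 0 ∧ v w ≠ 0 := by
    by_contra hcon
    push Not at hcon
    obtain ⟨E, hE⟩ : ∃ E : Submodule (ZMod p) W, E = LinearMap.ker u ⊓ LinearMap.ker v := ⟨_, rfl⟩
    have hEmem : ∀ w, w ∈ E ↔ u w = 0 ∧ v w = 0 := by
      intro w; rw [hE, Submodule.mem_inf, LinearMap.mem_ker, LinearMap.mem_ker]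
    have hfix : ∀ z : K, (∀ w ∈ E, (ρ z - 1) w = 0) → (ρ z - 1) * (ρ z - 1) = 0 →
        (∀ w ∈ E.toAddSubgroup, ρ z w ∈ E.toAddSubgroup) ∧
        (∀ w ∈ E.toAddSubgroup, ρ z⁻¹ w ∈ E.toAddSubgroup) := by
      intro z hz hzq
      constructor
      · intro w hw
        have : ρ z w = w := by
          have := hz w hw
          rw [LinearMap.sub_apply, Module.End.one_apply, sub_eq_zero] at this
          exact this
        rw [this]; exact hw
      · intro w hw
        have : ρ z⁻¹ w = w := by
          rw [rho_inv_of_sq_zero ρ z hzq, LinearMap.sub_apply, Module.End.one_apply, hz w hw,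
            sub_zero]
        rw [this]; exact hw
    have hxE := hfix x (fun w hw => by rw [← hu]; exact ((hEmem w).mp hw).1) (by rw [← hu]; exact hx)
    have hyE := hfix y (fun w hw => by rw [← hv]; exact ((hEmem w).mp hw).2) (by rw [← hv]; exact hy)
    have hst := stab_of_closure ρ E.toAddSubgroup x y hgen hxE.1 hxE.2 hyE.1 hyE.2
    have hEtop : E.toAddSubgroup = ⊤ := by
      rcases hirr _ (fun g w hw => hst g w hw) with h | h
      · exfalso
        obtain ⟨w₁, hw₁⟩ := exists_ne (0 : W)
        by_cases huw : u w₁ = 0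
        · have : w₁ ∈ E.toAddSubgroup := (hEmem w₁).mpr ⟨huw, hcon w₁ huw⟩
          rw [h, AddSubgroup.mem_bot] at this
          exact hw₁ this
        · have huu : u (u w₁) = 0 := by
            rw [← Module.End.mul_apply, hx, LinearMap.zero_apply]
          have : u w₁ ∈ E.toAddSubgroup := (hEmem _).mpr ⟨huu, hcon _ huu⟩
          rw [h, AddSubgroup.mem_bot] at this
          exact huw this
      · exact h
    have hu0 : u = 0 := by
      apply LinearMap.ext; intro w
      have : w ∈ E.toAddSubgroup := by rw [hEtop]; exact AddSubgroup.mem_top w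
      exact ((hEmem w).mp this).1
    have hv0 : v = 0 := by
      apply LinearMap.ext; intro w
      have : w ∈ E.toAddSubgroup := by rw [hEtop]; exact AddSubgroup.mem_top w
      exact ((hEmem w).mp this).2
    obtain ⟨g, hg⟩ := hnt
    apply hg
    have h3 : Set.EqOn ρ (1 : K →* Module.End (ZMod p) W) (Subgroup.closure {x, y}) := by
      apply MonoidHom.eqOn_closure
      intro z hz
      rcases hz with rfl | hz
      · rw [MonoidHom.one_apply, hρx, hu0, add_zero]
      · rw [Set.mem_singleton_iff] at hz; subst hz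
        rw [MonoidHom.one_apply, hρy, hv0, add_zero]
    rw [hgen] at h3
    exact h3 (Set.mem_univ g)
  obtain ⟨w, hw, hvw⟩ := hex
  have hx' : (ρ' x - 1) * (ρ' x - 1) = 0 := by
    apply LinearMap.ext; intro w
    rw [Module.End.mul_apply, hsub, hsub, ← hu, ← Module.End.mul_apply, hx]
    rfl
  have hy' : (ρ' y - 1) * (ρ' y - 1) = 0 := by
    apply LinearMap.ext; intro w
    rw [Module.End.mul_apply, hsub, hsub, ← hv, ← Module.End.mul_apply, hy]
    rfl
  have ht : (ρ' x - 1) * (ρ' y - 1) + (ρ' y - 1) * (ρ' x - 1) = t • 1 := by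
    apply LinearMap.ext; intro w
    rw [LinearMap.add_apply, Module.End.mul_apply, Module.End.mul_apply, hsub, hsub, hsub, hsub,
      ← hu, ← hv, LinearMap.smul_apply, Module.End.one_apply, ← h2, hτdef, LinearMap.add_apply,
      Module.End.mul_apply, Module.End.mul_apply]
  have hirr' : ∀ N : AddSubgroup W, (∀ g w, w ∈ N → ρ' g w ∈ N) → N = ⊥ ∨ N = ⊤ := by
    intro N hN
    apply hirr N
    intro g w hw
    rw [← h1]; exact hN g w hw
  obtain ⟨φ, hφ⟩ := exists_sl2_hom (p := p) ρ' x y hgen hx' hy' t ht hirr' w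
    (by rw [hsub, ← hu]; exact hw) (by rw [hsub, ← hv]; exact hvw)
  refine ⟨F, iF, iFt, iC, φ, ?_⟩
  intro g
  rw [hφ]
  constructor
  · intro h; apply LinearMap.ext; intro w
    rw [← h1, h]; rfl
  · intro h; apply LinearMap.ext; intro w
    rw [h1, h]; rfl

end irr
end Cfsg.Agent.Lib.Helper7.QuadLin


namespace Cfsg.Agent.Lib.Helper7.QuadLin
universe u v

section red
variable {p : ℕ} [Fact p.Prime]
variable {K : Type u} [Group K]

/-- the abstract conclusion: a section of `K` isomorphic to `SL₂(p)` -/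
def HasSL2Section (p : ℕ) (K : Type u) [Group K] : Prop :=
  ∃ (K₁ : Subgroup K) (f : K₁ →* Matrix.SpecialLinearGroup (Fin 2) (ZMod p)), Function.Surjective f

theorem pAct_of_sub_quot {W : Type v} [AddCommGroup W] [Module (ZMod p) W]
    (ρ : Representation (ZMod p) K W) (N : Submodule (ZMod p) W) (hN : ∀ g, N ≤ N.comap (ρ g))
    (h1 : ∀ g : K, ∃ n : ℕ, (ρ.subrepresentation N hN) g ^ p ^ n = 1)
    (h2 : ∀ g : K, ∃ n : ℕ, (ρ.quotient N hN) g ^ p ^ n = 1) :
    ∀ g : K, ∃ n : ℕ, ρ g ^ p ^ n = 1 := by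
  intro g
  obtain ⟨n₁, hn₁⟩ := h1 g
  obtain ⟨n₂, hn₂⟩ := h2 g
  obtain ⟨h, hh⟩ : ∃ h : K, h = g ^ p ^ (n₁ + n₂) := ⟨_, rfl⟩
  have e1 : (ρ.subrepresentation N hN) h = 1 := by
    rw [hh, map_pow, pow_add, pow_mul, hn₁, one_pow]
  have e2 : (ρ.quotient N hN) h = 1 := by
    rw [hh, map_pow, pow_add, mul_comm, pow_mul, hn₂, one_pow]
  have hq : (ρ h - 1) * (ρ h - 1) = 0 := by
    apply LinearMap.ext; intro w
    rw [Module.End.mul_apply, LinearMap.zero_apply]
    have hmem : (ρ h - 1) w ∈ N := by
      have : (ρ.quotient N hN) h (Submodule.Quotient.mk w) = Submodule.Quotient.mk w := by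
        rw [e2]; rfl
      rw [Representation.quotient_apply, Submodule.mapQ_apply] at this
      rw [LinearMap.sub_apply, Module.End.one_apply, ← Submodule.Quotient.eq]
      exact this
    have hN0 : ∀ n ∈ N, (ρ h - 1) n = 0 := by
      intro n hn
      have : (ρ.subrepresentation N hN) h ⟨n, hn⟩ = ⟨n, hn⟩ := by rw [e1]; rfl
      have := congrArg Subtype.val this
      rw [Representation.subrepresentation_apply, LinearMap.coe_restrict_apply] at this
      rw [LinearMap.sub_apply, Module.End.one_apply, sub_eq_zero]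
      exact this
    exact hN0 _ hmem
  refine ⟨n₁ + n₂ + 1, ?_⟩
  have := rho_pow_char (p := p) ρ h hq
  rw [hh, map_pow, ← pow_mul, ← pow_succ] at this
  exact this

theorem quad_sub {W : Type v} [AddCommGroup W] [Module (ZMod p) W]
    (ρ : Representation (ZMod p) K W) (N : Submodule (ZMod p) W) (hN : ∀ g, N ≤ N.comap (ρ g))
    (x : K) (hx : (ρ x - 1) * (ρ x - 1) = 0) :
    ((ρ.subrepresentation N hN) x - 1) * ((ρ.subrepresentation N hN) x - 1) = 0 := by
  have h1 : ∀ n : N, (((ρ.subrepresentation N hN) x - 1) n : W) = (ρ x - 1) (n : W) := by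
    intro n
    rw [LinearMap.sub_apply, LinearMap.sub_apply, Module.End.one_apply, Module.End.one_apply,
      Submodule.coe_sub, Representation.subrepresentation_apply, LinearMap.coe_restrict_apply]
  apply LinearMap.ext; intro n
  apply Subtype.ext
  rw [Module.End.mul_apply, h1, h1, ← Module.End.mul_apply, hx]
  rfl

theorem quad_quot {W : Type v} [AddCommGroup W] [Module (ZMod p) W]
    (ρ : Representation (ZMod p) K W) (N : Submodule (ZMod p) W) (hN : ∀ g, N ≤ N.comap (ρ g))
    (x : K) (hx : (ρ x - 1) * (ρ x - 1) = 0) :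
    ((ρ.quotient N hN) x - 1) * ((ρ.quotient N hN) x - 1) = 0 := by
  have h1 : ∀ w : W, ((ρ.quotient N hN) x - 1) (Submodule.Quotient.mk w) =
      Submodule.Quotient.mk ((ρ x - 1) w) := by
    intro w
    rw [LinearMap.sub_apply, LinearMap.sub_apply, Module.End.one_apply, Module.End.one_apply,
      Representation.quotient_apply, Submodule.mapQ_apply, Submodule.Quotient.mk_sub]
  apply LinearMap.ext; intro q
  obtain ⟨w, rfl⟩ := Submodule.Quotient.mk_surjective N q
  rw [Module.End.mul_apply, h1, h1, ← Module.End.mul_apply, hx]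
  rfl

end red
end Cfsg.Agent.Lib.Helper7.QuadLin

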