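import Mathlib
import Cfsg.Prelude.Def_Transfer
import Cfsg.Prelude.Def_PLocal
import Cfsg.Agent.S0274
import Cfsg.Agent.H1.BaerSuzuki
import Cfsg.Agent.Lib.Helper7.QuadLin1

/-! Quadratic action of a `p`-element on an elementary abelian `p`-group forces a section
`SL₂(p)` (helper7).  Uses helper9's Dickson theorem `S0274`, helper1's Baer–Suzuki theorem, and the
bridge to linear representations adapted from helper1's `H1/QuadSL2`. -/

set_option autoImplicit false
set_option linter.style.haveILetI false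
set_option linter.unusedSectionVars false

open scoped commutatorElement Pointwise

namespace Cfsg.Agent.Lib.Helper7.QuadLin
universe u v

section main
variable {p : ℕ} [Fact p.Prime]
variable {K : Type u} [Group K]

theorem hasSL2Section_of_irreducible (hp : p ≠ 2) {W : Type v} [AddCommGroup W]
    [Module (ZMod p) W] [Finite W]
    (ρ : Representation (ZMod p) K W) (x y : K)
    (hgen : Subgroup.closure {x, y} = ⊤)
    (hx : (ρ x - 1) * (ρ x - 1) = 0) (hy : (ρ y - 1) * (ρ y - 1) = 0)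
    (hirr : ∀ N : AddSubgroup W, (∀ g w, w ∈ N → ρ g w ∈ N) → N = ⊥ ∨ N = ⊤)
    (hnp : ¬ ∀ g : K, ∃ n : ℕ, ρ g ^ p ^ n = 1) : HasSL2Section p K := by
  classical
  have hnt : ∃ g, ρ g ≠ 1 := by
    by_contra h
    push Not at h
    apply hnp
    intro g
    exact ⟨0, by rw [pow_zero, pow_one]; exact h g⟩
  obtain ⟨F, iF, iFt, iC, φ, hφ⟩ := exists_sl2_hom_of_irreducible ρ x y hgen hx hy hirr hnt
  have hSyl : 1 < Nat.card (Sylow p φ.range) := by
    by_contra hle
    push Not at hle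
    haveI : Subsingleton (Sylow p φ.range) := (Finite.card_le_one_iff_subsingleton).mp hle
    obtain ⟨P⟩ : Nonempty (Sylow p φ.range) := inferInstance
    have hmem : ∀ z : K, (ρ z - 1) * (ρ z - 1) = 0 → φ.rangeRestrict z ∈ (P : Subgroup φ.range) := by
      intro z hz
      have hzp : (φ.rangeRestrict z) ^ p = 1 := by
        rw [← map_pow]
        apply Subtype.ext
        show φ (z ^ p) = 1
        rw [hφ, map_pow]
        exact rho_pow_char (p := p) ρ z hz
      have hpg : IsPGroup p (Subgroup.zpowers (φ.rangeRestrict z)) := by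
        rintro ⟨w, hw⟩
        refine ⟨1, ?_⟩
        obtain ⟨k, rfl⟩ := Subgroup.mem_zpowers_iff.mp hw
        apply Subtype.ext
        show ((φ.rangeRestrict z) ^ k) ^ p ^ 1 = 1
        rw [pow_one, ← zpow_natCast, ← zpow_mul, mul_comm, zpow_mul, zpow_natCast, hzp, one_zpow]
      obtain ⟨Q, hQ⟩ := hpg.exists_le_sylow
      rw [Subsingleton.elim P Q]
      exact hQ (Subgroup.mem_zpowers _)
    have htop : (P : Subgroup φ.range) = ⊤ := by
      rw [eq_top_iff]
      have h1 : (Subgroup.closure {x, y}).map φ.rangeRestrict = ⊤ := by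
        rw [hgen, ← MonoidHom.range_eq_map, MonoidHom.range_eq_top]
        exact φ.rangeRestrict_surjective
      rw [← h1, MonoidHom.map_closure, Subgroup.closure_le]
      rintro _ ⟨z, hz, rfl⟩
      rcases hz with rfl | hz
      · exact hmem _ hx
      · rw [Set.mem_singleton_iff] at hz; subst hz; exact hmem _ hy
    apply hnp
    intro g
    have hg : φ.rangeRestrict g ∈ (P : Subgroup φ.range) := by rw [htop]; exact Subgroup.mem_top _
    obtain ⟨n, hn⟩ := P.isPGroup' ⟨_, hg⟩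
    refine ⟨n, ?_⟩
    have h2 : (φ.rangeRestrict g) ^ p ^ n = 1 := by
      have := congrArg Subtype.val hn
      exact this
    have h3 : φ (g ^ p ^ n) = 1 := by
      have := congrArg Subtype.val h2
      rw [map_pow]
      exact this
    rw [hφ, map_pow] at h3
    exact h3
  obtain ⟨Kb, hKb, ⟨e⟩⟩ := Cfsg.Agent.S0274.result p hp φ.range hSyl
  refine ⟨Kb.comap φ, e.toMonoidHom.comp (φ.subgroupComap Kb), ?_⟩
  intro s
  obtain ⟨k, hk⟩ := e.surjective s
  obtain ⟨g, hg⟩ := hKb k.2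
  refine ⟨⟨g, ?_⟩, ?_⟩
  · rw [Subgroup.mem_comap, hg]; exact k.2
  · rw [MonoidHom.comp_apply, ← hk]
    show e _ = e k
    congr 1
    apply Subtype.ext
    exact hg

theorem hasSL2Section_aux (hp : p ≠ 2) (x y : K) (hgen : Subgroup.closure {x, y} = ⊤) :
    ∀ (n : ℕ) (W : Type v) [AddCommGroup W] [Module (ZMod p) W] [Finite W]
      (ρ : Representation (ZMod p) K W), Nat.card W = n →
      (ρ x - 1) * (ρ x - 1) = 0 → (ρ y - 1) * (ρ y - 1) = 0 →
      (¬ ∀ g : K, ∃ n : ℕ, ρ g ^ p ^ n = 1) → HasSL2Section p K := by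
  intro n
  induction n using Nat.strong_induction_on with
  | _ n ih =>
    intro W _ _ _ ρ hn hx hy hnp
    by_cases hirr : ∀ N : AddSubgroup W, (∀ g w, w ∈ N → ρ g w ∈ N) → N = ⊥ ∨ N = ⊤
    · exact hasSL2Section_of_irreducible hp ρ x y hgen hx hy hirr hnp
    · push Not at hirr
      obtain ⟨N₀, hN₀, hbot, htop⟩ := hirr
      obtain ⟨N, hNdef⟩ : ∃ N : Submodule (ZMod p) W, N = AddSubgroup.toZModSubmodule p N₀ :=
        ⟨_, rfl⟩
      have hmemN : ∀ w, w ∈ N ↔ w ∈ N₀ := by intro w; rw [hNdef]; rfl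
      have hN : ∀ g, N ≤ N.comap (ρ g) := by
        intro g w hw
        rw [Submodule.mem_comap, hmemN]
        exact hN₀ g w ((hmemN w).mp hw)
      have hc1 : Nat.card N < n := by
        rw [← hn]
        have hex : ∃ w : W, w ∉ N := by
          by_contra h
          push Not at h
          apply htop
          rw [eq_top_iff]
          intro w _
          exact (hmemN w).mp (h w)
        obtain ⟨w, hw⟩ := hex
        exact Finite.card_subtype_lt (p := fun w => w ∈ N) hw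
      haveI : Finite (W ⧸ N) := Finite.of_surjective _ (Submodule.Quotient.mk_surjective N)
      have hc2 : Nat.card (W ⧸ N) < n := by
        rw [← hn, Submodule.card_eq_card_quotient_mul_card N]
        have h1 : 1 < Nat.card N := by
          rw [Finite.one_lt_card_iff_nontrivial]
          have hex : ∃ w : W, w ∈ N₀ ∧ w ≠ 0 := by
            by_contra h
            push Not at h
            apply hbot
            rw [eq_bot_iff]
            intro w hw
            rw [AddSubgroup.mem_bot]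
            exact h w hw
          obtain ⟨w, hw, hw0⟩ := hex
          refine ⟨⟨⟨w, (hmemN w).mpr hw⟩, 0, ?_⟩⟩
          intro h
          exact hw0 (congrArg Subtype.val h)
        have h2 : 0 < Nat.card (W ⧸ N) := Nat.card_pos
        nlinarith
      by_cases h1 : ∀ g : K, ∃ n : ℕ, (ρ.subrepresentation N hN) g ^ p ^ n = 1
      · by_cases h2 : ∀ g : K, ∃ n : ℕ, (ρ.quotient N hN) g ^ p ^ n = 1
        · exact absurd (pAct_of_sub_quot ρ N hN h1 h2) hnp
        · exact ih _ hc2 (W ⧸ N) (ρ.quotient N hN) rfl (quad_quot ρ N hN x hx)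
            (quad_quot ρ N hN y hy) h2
      · exact ih _ hc1 N (ρ.subrepresentation N hN) rfl (quad_sub ρ N hN x hx)
          (quad_sub ρ N hN y hy) h1

/-- **Main linear lemma**: two quadratic elements generating a group acting on a finite
`𝔽_p`-module, not as a `p`-group, give a section `SL₂(p)` -/
theorem hasSL2Section (hp : p ≠ 2) (x y : K) (hgen : Subgroup.closure {x, y} = ⊤)
    {W : Type v} [AddCommGroup W] [Module (ZMod p) W] [Finite W]
    (ρ : Representation (ZMod p) K W)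
    (hx : (ρ x - 1) * (ρ x - 1) = 0) (hy : (ρ y - 1) * (ρ y - 1) = 0)
    (hnp : ¬ ∀ g : K, ∃ n : ℕ, ρ g ^ p ^ n = 1) : HasSL2Section p K :=
  hasSL2Section_aux hp x y hgen _ W ρ rfl hx hy hnp

end main
end Cfsg.Agent.Lib.Helper7.QuadLin


namespace Cfsg.Agent.Lib.Helper7.QuadLin
universe u

section bridge
variable {G : Type u} [Group G] {p : ℕ} [Fact p.Prime]

theorem quad_comm_aux {V : Subgroup G} {a : G}
    (hq : ⁅⁅V, Subgroup.zpowers a⁆, Subgroup.zpowers a⁆ = ⊥) {v : G} (hv : v ∈ V) :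
    a * (a * v * a⁻¹ * v⁻¹) = (a * v * a⁻¹ * v⁻¹) * a := by
  have h1 : ⁅v, a⁆ ∈ ⁅V, Subgroup.zpowers a⁆ :=
    Subgroup.commutator_mem_commutator hv (Subgroup.mem_zpowers a)
  have h2 : ⁅⁅v, a⁆, a⁆ ∈ ⁅⁅V, Subgroup.zpowers a⁆, Subgroup.zpowers a⁆ :=
    Subgroup.commutator_mem_commutator h1 (Subgroup.mem_zpowers a)
  rw [hq, Subgroup.mem_bot] at h2
  have h3 : Commute ⁅v, a⁆ a := commutatorElement_eq_one_iff_commute.mp h2
  have h4 : a * v * a⁻¹ * v⁻¹ = ⁅v, a⁆⁻¹ := by rw [commutatorElement_def]; group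
  rw [h4]
  exact (h3.inv_left.symm).eq

/-- the conjugation action on an elementary abelian `p`-subgroup as a representation over `𝔽_p` -/
theorem exists_rep [Finite G] (V H : Subgroup G) (hV : Cfsg.IsElementaryAbelian p V)
    (hHV : H ≤ Subgroup.normalizer (V : Set G)) :
    ∃ (W : Type u) (_ : AddCommGroup W) (_ : Module (ZMod p) W) (_ : Finite W)
      (ρ : Representation (ZMod p) ↥H W),
      (∀ h : ↥H, ρ h = 1 → (h : G) ∈ Subgroup.centralizer (V : Set G)) ∧
      (∀ a : ↥H, ⁅⁅V, Subgroup.zpowers (a : G)⁆, Subgroup.zpowers (a : G)⁆ = ⊥ →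
        (ρ a - 1) * (ρ a - 1) = 0) := by
  classical
  letI : CommGroup ↥V := { (inferInstance : Group ↥V) with mul_comm := hV.1.is_comm.comm }
  have hpA : ∀ x : Additive ↥V, p • x = 0 := by
    intro x
    have h1 : (Additive.toMul x : ↥V) ^ p = 1 := by
      apply Subtype.ext
      rw [Subgroup.coe_pow, Subgroup.coe_one]
      exact hV.2 _ (Additive.toMul x).2
    exact congrArg Additive.ofMul h1
  letI : Module (ZMod p) (Additive ↥V) := by exact AddCommGroup.zmodModule hpA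
  haveI : Finite (Additive ↥V) := inferInstanceAs (Finite ↥V)
  let c : ↥H →* MulAut ↥V := (V.normalizerMonoidHom).comp (Subgroup.inclusion hHV)
  let lin : MulAut ↥V →* Module.End (ZMod p) (Additive ↥V) :=
    { toFun := fun σ => (MonoidHom.toAdditive σ.toMonoidHom).toZModLinearMap p
      map_one' := by
        apply LinearMap.ext; intro v
        rfl
      map_mul' := by
        intro σ τ; apply LinearMap.ext; intro v
        rfl }
  let ρ₀ : ↥H →* Module.End (ZMod p) (Additive ↥V) := lin.comp c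
  have hρ₀ : ∀ (h : ↥H) (v : Additive ↥V),
      ((Additive.toMul (ρ₀ h v) : ↥V) : G) = (h : G) * (Additive.toMul v : ↥V) * (h : G)⁻¹ :=
    fun h v => rfl
  refine ⟨Additive ↥V, inferInstance, inferInstance, inferInstance, ρ₀, ?_, ?_⟩
  · intro h h2
    rw [Subgroup.mem_centralizer_iff]
    intro v hv
    have h4 := hρ₀ h (Additive.ofMul ⟨v, hv⟩)
    rw [h2] at h4
    have h5 : (h : G) * v * (h : G)⁻¹ = v := h4.symm
    calc v * (h : G) = ((h : G) * v * (h : G)⁻¹) * (h : G) := by rw [h5]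
      _ = (h : G) * v := by group
  · intro a hq
    apply LinearMap.ext
    intro v
    have hd : ∀ u : Additive ↥V, ((Additive.toMul ((ρ₀ a - 1) u) : ↥V) : G) =
        (a : G) * (Additive.toMul u : ↥V) * (a : G)⁻¹ * ((Additive.toMul u : ↥V) : G)⁻¹ := by
      intro u
      rw [LinearMap.sub_apply, Module.End.one_apply, toMul_sub, Subgroup.coe_div, hρ₀, div_eq_mul_inv]
    rw [Module.End.mul_apply, LinearMap.zero_apply]
    apply Additive.toMul.injective
    apply Subtype.ext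
    rw [hd, hd]
    have h1 := quad_comm_aux hq (Additive.toMul v : ↥V).2
    show (a : G) * ((a : G) * (Additive.toMul v : ↥V) * (a : G)⁻¹ * ((Additive.toMul v : ↥V) : G)⁻¹) *
      (a : G)⁻¹ * ((a : G) * (Additive.toMul v : ↥V) * (a : G)⁻¹ * ((Additive.toMul v : ↥V) : G)⁻¹)⁻¹ = 1
    rw [h1]
    group

end bridge
end Cfsg.Agent.Lib.Helper7.QuadLin


namespace Cfsg.Agent.Lib.Helper7.QuadLin
universe u

section final
variable {G : Type u} [Group G] {p : ℕ} [Fact p.Prime]

theorem closure_pair_top (H : Subgroup G) (a b : G)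
    (hab : H = Subgroup.closure {a, b}) (haH : a ∈ H) (hbH : b ∈ H) :
    Subgroup.closure ({⟨a, haH⟩, ⟨b, hbH⟩} : Set ↥H) = ⊤ := by
  rw [eq_top_iff]
  have h1 : H ≤ (Subgroup.closure ({⟨a, haH⟩, ⟨b, hbH⟩} : Set ↥H)).map H.subtype := by
    conv_lhs => rw [hab]
    rw [Subgroup.closure_le]
    intro g hg
    rcases hg with rfl | hg
    · exact ⟨⟨g, haH⟩, Subgroup.subset_closure (Set.mem_insert _ _), rfl⟩
    · rw [Set.mem_singleton_iff] at hg
      subst hg
      exact ⟨⟨g, hbH⟩, Subgroup.subset_closure (Set.mem_insert_of_mem _ rfl), rfl⟩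
  intro g _
  obtain ⟨g', hg', hgg'⟩ := h1 g.2
  have : g' = g := Subtype.ext hgg'
  rw [← this]
  exact hg'

/-- a section of a subgroup gives a section of the ambient group -/
theorem section_of_hasSL2Section (H : Subgroup G) (K₀ : Subgroup ↥H)
    (h : HasSL2Section p ↥K₀) :
    ∃ (K L : Subgroup G) (_ : (L.subgroupOf K).Normal), K ≤ H ∧
      Nonempty ((K ⧸ L.subgroupOf K) ≃* Matrix.SpecialLinearGroup (Fin 2) (ZMod p)) := by
  obtain ⟨K₁, f, hf⟩ := h
  obtain ⟨ι, hι⟩ : ∃ ι : ↥K₀ →* G, ι = H.subtype.comp K₀.subtype := ⟨_, rfl⟩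
  have hinj : Function.Injective ι := by
    rw [hι]
    exact H.subtype_injective.comp K₀.subtype_injective
  obtain ⟨K, hK⟩ : ∃ K : Subgroup G, K = K₁.map ι := ⟨_, rfl⟩
  have hKH : K ≤ H := by
    rw [hK]
    rintro _ ⟨k, _, rfl⟩
    rw [hι]
    exact (k : ↥H).2
  subst hK
  obtain ⟨φ, hφ⟩ : ∃ φ : ↥(K₁.map ι) →* Matrix.SpecialLinearGroup (Fin 2) (ZMod p),
    φ = f.comp (K₁.equivMapOfInjective ι hinj).symm.toMonoidHom := ⟨_, rfl⟩
  have hφs : Function.Surjective φ := by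
    rw [hφ]
    exact hf.comp (K₁.equivMapOfInjective ι hinj).symm.surjective
  have hker : (φ.ker.map (K₁.map ι).subtype).subgroupOf (K₁.map ι) = φ.ker :=
    Subgroup.comap_map_eq_self_of_injective (K₁.map ι).subtype_injective _
  have hn : ((φ.ker.map (K₁.map ι).subtype).subgroupOf (K₁.map ι)).Normal := by
    rw [hker]; infer_instance
  refine ⟨K₁.map ι, φ.ker.map (K₁.map ι).subtype, hn, hKH, ⟨?_⟩⟩
  exact (QuotientGroup.quotientMulEquivOfEq hker).trans
    (QuotientGroup.quotientKerEquivOfSurjective φ hφs)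

theorem conj_quad {K : Type*} [Group K] {W : Type*} [AddCommGroup W] [Module (ZMod p) W]
    (ρ : Representation (ZMod p) K W) (g x : K) (hx : (ρ x - 1) * (ρ x - 1) = 0) :
    (ρ (g * x * g⁻¹) - 1) * (ρ (g * x * g⁻¹) - 1) = 0 := by
  have h1 : ρ g⁻¹ * ρ g = 1 := by rw [← map_mul, inv_mul_cancel, map_one]
  have h2 : ρ g * ρ g⁻¹ = 1 := by rw [← map_mul, mul_inv_cancel, map_one]
  have h3 : ρ (g * x * g⁻¹) - 1 = ρ g * (ρ x - 1) * ρ g⁻¹ := by
    rw [map_mul, map_mul, mul_sub, sub_mul, mul_one, h2]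
  rw [h3]
  calc ρ g * (ρ x - 1) * ρ g⁻¹ * (ρ g * (ρ x - 1) * ρ g⁻¹)
      = ρ g * (ρ x - 1) * (ρ g⁻¹ * ρ g) * (ρ x - 1) * ρ g⁻¹ := by simp only [mul_assoc]
    _ = ρ g * ((ρ x - 1) * (ρ x - 1)) * ρ g⁻¹ := by rw [h1, mul_one]; simp only [mul_assoc]
    _ = 0 := by rw [hx, mul_zero, zero_mul]

/-- the group form of the theorem (statement S0656) -/
theorem section_of_quadratic [Finite G] (hp : p ≠ 2) (V H : Subgroup G)
    (hV : Cfsg.IsElementaryAbelian p V) (hHV : H ≤ Subgroup.normalizer (V : Set G))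
    (hf : H ⊓ Subgroup.centralizer (V : Set G) = ⊥) (hO : Cfsg.pCore p ↥H = ⊥)
    (x : G) (hxH : x ∈ H) (hx1 : x ≠ 1) (hxp : ∃ k : ℕ, orderOf x = p ^ k)
    (hq : ⁅⁅V, Subgroup.zpowers x⁆, Subgroup.zpowers x⁆ = ⊥) :
    ∃ (K L : Subgroup G) (_ : (L.subgroupOf K).Normal), K ≤ H ∧
      Nonempty ((K ⧸ L.subgroupOf K) ≃* Matrix.SpecialLinearGroup (Fin 2) (ZMod p)) := by
  classical
  obtain ⟨x', hx'⟩ : ∃ x' : ↥H, x' = ⟨x, hxH⟩ := ⟨_, rfl⟩
  have hx'1 : x' ≠ 1 := by
    intro h; apply hx1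
    have := congrArg Subtype.val h
    rw [hx'] at this
    exact this
  have hX : IsPGroup p (Subgroup.zpowers x') := by
    obtain ⟨k, hk⟩ := hxp
    have hxk : x' ^ p ^ k = 1 := by
      apply Subtype.ext
      rw [Subgroup.coe_pow, Subgroup.coe_one, hx', ← hk]
      exact pow_orderOf_eq_one x
    rintro ⟨w, hw⟩
    refine ⟨k, ?_⟩
    obtain ⟨m, rfl⟩ := Subgroup.mem_zpowers_iff.mp hw
    apply Subtype.ext
    show (x' ^ m) ^ p ^ k = 1
    rw [← zpow_natCast, ← zpow_mul, mul_comm, zpow_mul, zpow_natCast, hxk, one_zpow]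
  -- Baer–Suzuki
  have hBS : ∃ g : ↥H, ¬ IsPGroup p ↥(Subgroup.zpowers x' ⊔ MulAut.conj g • Subgroup.zpowers x') := by
    by_contra h
    push Not at h
    obtain ⟨N, hNn, hNp, hxN⟩ := Cfsg.Agent.H1.baer_suzuki (Subgroup.zpowers x') hX h
    have hle : N ≤ Cfsg.pCore p ↥H := le_sSup ⟨hNn, hNp⟩
    rw [hO] at hle
    have := hle (hxN (Subgroup.mem_zpowers x'))
    rw [Subgroup.mem_bot] at this
    exact hx'1 this
  obtain ⟨g, hg⟩ := hBS
  obtain ⟨y', hy'⟩ : ∃ y' : ↥H, y' = g * x' * g⁻¹ := ⟨_, rfl⟩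
  obtain ⟨K₀, hK₀⟩ : ∃ K₀ : Subgroup ↥H, K₀ = Subgroup.closure {x', y'} := ⟨_, rfl⟩
  have hxK0 : x' ∈ K₀ := by rw [hK₀]; exact Subgroup.subset_closure (Set.mem_insert _ _)
  have hyK0 : y' ∈ K₀ := by
    rw [hK₀]; exact Subgroup.subset_closure (Set.mem_insert_of_mem _ rfl)
  have hK₀le : Subgroup.zpowers x' ⊔ MulAut.conj g • Subgroup.zpowers x' ≤ K₀ := by
    apply sup_le
    · exact Subgroup.zpowers_le.mpr hxK0
    · intro z hz
      obtain ⟨s, hs, rfl⟩ := (Subgroup.mem_smul_pointwise_iff_exists _ _ _).mp hz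
      obtain ⟨m, rfl⟩ := Subgroup.mem_zpowers_iff.mp hs
      have : MulAut.conj g • (x' ^ m) = y' ^ m := by
        rw [hy', MulAut.smul_def, MulAut.conj_apply, conj_zpow]
      rw [this]
      exact Subgroup.zpow_mem _ hyK0 m
  have hg' : ¬ IsPGroup p ↥K₀ := fun h => hg (h.to_le hK₀le)
  have hgen := closure_pair_top K₀ x' y' hK₀ hxK0 hyK0
  obtain ⟨W, iA, iM, iF, ρ₀, hker, hquad⟩ := exists_rep (p := p) V H hV hHV
  obtain ⟨ρ, hρ⟩ : ∃ ρ : Representation (ZMod p) ↥K₀ W, ρ = ρ₀.comp K₀.subtype := ⟨_, rfl⟩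
  have hqx : (ρ₀ x' - 1) * (ρ₀ x' - 1) = 0 := by
    apply hquad
    rw [hx']
    exact hq
  have hqy : (ρ₀ y' - 1) * (ρ₀ y' - 1) = 0 := by
    rw [hy']; exact conj_quad ρ₀ g x' hqx
  have hnp : ¬ ∀ k : ↥K₀, ∃ n : ℕ, ρ k ^ p ^ n = 1 := by
    intro h
    apply hg'
    intro k
    obtain ⟨n, hn⟩ := h k
    refine ⟨n, ?_⟩
    rw [hρ, MonoidHom.comp_apply, ← map_pow] at hn
    have h1 := hker _ hn
    have h2 : ((K₀.subtype k ^ p ^ n : ↥H) : G) ∈ H ⊓ Subgroup.centralizer (V : Set G) :=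
      Subgroup.mem_inf.mpr ⟨(K₀.subtype k ^ p ^ n : ↥H).2, h1⟩
    rw [hf, Subgroup.mem_bot] at h2
    apply Subtype.ext
    apply Subtype.ext
    rw [Subgroup.coe_pow, Subgroup.coe_one, Subgroup.coe_one]
    exact h2
  have hsec : HasSL2Section p ↥K₀ := by
    apply hasSL2Section hp _ _ hgen ρ
    · rw [hρ]; exact hqx
    · rw [hρ]; exact hqy
    · exact hnp
  exact section_of_hasSL2Section H K₀ hsec

end final
end Cfsg.Agent.Lib.Helper7.QuadLin

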