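import Mathlib
import Cfsg.Prelude.Def_Transfer
import Cfsg.Prelude.Def_PLocal
import Cfsg.Prelude.Def_LocalEven
import Cfsg.Agent.H1.QuadBS
import Cfsg.Agent.Lib.Helper7.QuadLin2
import Cfsg.Agent.Lib.Helper7.InvolvesLib
import Cfsg.Agent.Lib.Helper7.Core

/-! `SL₂(p)`-free finite groups act `p`-stably on every normal `p`-subgroup (`p` odd) (helper7).
`involves_of_quad_pair` (group form of the quadratic pair lemma), `isPStableOn_of_free_elem`
(elementary abelian case, following helper1's `H1/QuadStable`), `isPStableOn_of_sub_quot`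
(stability passes from `Z` and `P/Z` to `P`), `isPStableOn_of_free`. -/

set_option autoImplicit false
set_option linter.style.haveILetI false
set_option linter.unusedSectionVars false

open scoped commutatorElement Pointwise

namespace Cfsg.Agent.Lib.Helper7.QuadLin
universe u

section pair
variable {G : Type u} [Group G] {p : ℕ} [Fact p.Prime]

local notation "SL2p" => Matrix.SpecialLinearGroup (Fin 2) (ZMod p)

theorem hasSL2Section_iff_involves {K : Type u} [Group K] :
    HasSL2Section p K ↔ Cfsg.Involves (Matrix.SpecialLinearGroup (Fin 2) (ZMod p)) K :=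
  (Cfsg.Agent.Lib.Helper7.involves_iff_exists_surjective).symm

/-- a quotient involving `H` lifts -/
theorem involves_of_surjective {H : Type*} [Group H] {A B : Type*} [Group A] [Group B]
    (f : A →* B) (hf : Function.Surjective f) (h : Cfsg.Involves H B) : Cfsg.Involves H A := by
  rw [Cfsg.Agent.Lib.Helper7.involves_iff_exists_surjective] at h ⊢
  obtain ⟨K, φ, hφ⟩ := h
  refine ⟨K.comap f, φ.comp (f.subgroupComap K), ?_⟩
  exact hφ.comp (f.subgroupComap_surjective_of_surjective K hf)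

/-- group form of the pair lemma -/
theorem involves_of_quad_pair [Finite G] (hp : p ≠ 2) (V H : Subgroup G)
    (hV : Cfsg.IsElementaryAbelian p V) (hHV : H ≤ Subgroup.normalizer (V : Set G)) (a b : G)
    (hab : H = Subgroup.closure {a, b})
    (ha : ⁅⁅V, Subgroup.zpowers a⁆, Subgroup.zpowers a⁆ = ⊥)
    (hb : ⁅⁅V, Subgroup.zpowers b⁆, Subgroup.zpowers b⁆ = ⊥)
    (hnp : ¬ ∀ h ∈ H, ∃ k : ℕ, h ^ p ^ k ∈ Subgroup.centralizer (V : Set G)) :
    Cfsg.Involves (Matrix.SpecialLinearGroup (Fin 2) (ZMod p)) G := by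
  have haH : a ∈ H := by rw [hab]; exact Subgroup.subset_closure (Set.mem_insert _ _)
  have hbH : b ∈ H := by rw [hab]; exact Subgroup.subset_closure (Set.mem_insert_of_mem _ rfl)
  obtain ⟨W, iA, iM, iF, ρ₀, hker, hquad⟩ := exists_rep (p := p) V H hV hHV
  have hgen := closure_pair_top H a b hab haH hbH
  have hqa := hquad ⟨a, haH⟩ ha
  have hqb := hquad ⟨b, hbH⟩ hb
  have hnp' : ¬ ∀ g : ↥H, ∃ n : ℕ, ρ₀ g ^ p ^ n = 1 := by
    intro hall
    apply hnp
    intro h hh
    obtain ⟨n, hn⟩ := hall ⟨h, hh⟩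
    refine ⟨n, ?_⟩
    rw [← map_pow] at hn
    exact hker _ hn
  have hsec : HasSL2Section p ↥H := hasSL2Section hp _ _ hgen ρ₀ hqa hqb hnp'
  rw [hasSL2Section_iff_involves] at hsec
  exact Cfsg.Agent.Lib.Helper7.involves_of_injective H.subtype H.subtype_injective hsec

/-- `SL₂(p)`-free groups act `p`-stably on normal elementary abelian `p`-subgroups -/
theorem isPStableOn_of_free_elem [Finite G] (hp : p ≠ 2)
    (hfree : ¬ Cfsg.Involves (Matrix.SpecialLinearGroup (Fin 2) (ZMod p)) G)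
    (V : Subgroup G) [V.Normal] (hV : Cfsg.IsElementaryAbelian p V) : Cfsg.IsPStableOn p V := by
  classical
  intro a hq
  by_contra hna
  obtain ⟨ā, hā⟩ : ∃ ā : G ⧸ Subgroup.centralizer (V : Set G), ā = QuotientGroup.mk a := ⟨_, rfl⟩
  rw [← hā] at hna
  have hex : ∃ gq : G ⧸ Subgroup.centralizer (V : Set G),
      ¬ IsPGroup p ↥(Subgroup.zpowers ā ⊔ MulAut.conj gq • Subgroup.zpowers ā) := by
    by_contra hcon
    push Not at hcon
    have hXp : IsPGroup p ↥(Subgroup.zpowers ā) := IsPGroup.to_le (hcon 1) le_sup_left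
    obtain ⟨N, hNn, hNp, hXN⟩ := Cfsg.Agent.H1.baer_suzuki (Subgroup.zpowers ā) hXp hcon
    apply hna
    have h1 : N ≤ Cfsg.pCore p (G ⧸ Subgroup.centralizer (V : Set G)) := le_sSup ⟨hNn, hNp⟩
    exact h1 (hXN (Subgroup.mem_zpowers _))
  obtain ⟨gq, hgq⟩ := hex
  obtain ⟨g, rfl⟩ := QuotientGroup.mk_surjective gq
  obtain ⟨H, hH⟩ : ∃ H : Subgroup G, H = Subgroup.closure {a, g * a * g⁻¹} := ⟨_, rfl⟩
  have hmap : H.map (QuotientGroup.mk' (Subgroup.centralizer (V : Set G))) =
      Subgroup.zpowers ā ⊔ MulAut.conj (QuotientGroup.mk g : G ⧸ Subgroup.centralizer (V : Set G)) • Subgroup.zpowers ā := by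
    rw [Cfsg.Agent.H1.zpowers_sup_conj_eq_closure, hH, MonoidHom.map_closure, Set.image_pair, hā]
    rfl
  have hnorm : H ≤ Subgroup.normalizer (V : Set G) := by
    rw [Subgroup.normalizer_eq_top]
    exact le_top
  have hnp : ¬ ∀ h ∈ H, ∃ k : ℕ, h ^ p ^ k ∈ Subgroup.centralizer (V : Set G) := by
    intro hall
    apply hgq
    rw [← hmap]
    rintro ⟨x, hx⟩
    obtain ⟨h, hh, rfl⟩ := hx
    obtain ⟨k, hk⟩ := hall h hh
    refine ⟨k, ?_⟩
    apply Subtype.ext
    rw [Subgroup.coe_pow, Subgroup.coe_one, ← map_pow]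
    exact (QuotientGroup.eq_one_iff _).mpr hk
  apply hfree
  exact involves_of_quad_pair hp V H hV hnorm a (g * a * g⁻¹) hH hq
    (Cfsg.Agent.H1.quadratic_conj V a g (by rw [Subgroup.normalizer_eq_top]; exact Subgroup.mem_top g) hq)
    hnp

end pair
end Cfsg.Agent.Lib.Helper7.QuadLin


namespace Cfsg.Agent.Lib.Helper7.QuadLin
universe u

section chain
variable {G : Type u} [Group G] {p : ℕ} [Fact p.Prime]

/-- an element centralizing `Z` and `P/Z` has its `|Z|`-th power centralizing `P` -/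
theorem pow_card_mem_centralizer [Finite G] (Z P : Subgroup G) [Z.Normal] (c : G)
    (hcZ : c ∈ Subgroup.centralizer (Z : Set G))
    (hcP : (QuotientGroup.mk' Z c) ∈ Subgroup.centralizer ((P.map (QuotientGroup.mk' Z) : Subgroup (G ⧸ Z)) : Set (G ⧸ Z))) :
    c ^ Nat.card Z ∈ Subgroup.centralizer (P : Set G) := by
  rw [Subgroup.mem_centralizer_iff]
  intro x hx
  obtain ⟨z, hz⟩ : ∃ z, z = c * x * c⁻¹ * x⁻¹ := ⟨_, rfl⟩
  have hzZ : z ∈ Z := by
    rw [Subgroup.mem_centralizer_iff] at hcP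
    have h1 := hcP (QuotientGroup.mk' Z x) ⟨x, hx, rfl⟩
    rw [← (QuotientGroup.eq_one_iff (N := Z) z), hz]
    have h2 : ((c * x * c⁻¹ * x⁻¹ : G) : G ⧸ Z) =
        (QuotientGroup.mk' Z c) * (QuotientGroup.mk' Z x) * (QuotientGroup.mk' Z c)⁻¹ *
          (QuotientGroup.mk' Z x)⁻¹ := by
      simp
    rw [h2, ← h1]
    group
  have hcz : z * c = c * z := by
    rw [Subgroup.mem_centralizer_iff] at hcZ
    exact hcZ z hzZ
  have hconj : c * x * c⁻¹ = z * x := by rw [hz]; group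
  have key : ∀ k : ℕ, c ^ k * x * (c ^ k)⁻¹ = z ^ k * x := by
    intro k
    induction k with
    | zero => simp
    | succ k ih =>
      have hczk : c * z ^ k = z ^ k * c := by
        have : Commute c z := hcz.symm
        exact (this.pow_right k).eq
      calc c ^ (k + 1) * x * (c ^ (k + 1))⁻¹ = c * (c ^ k * x * (c ^ k)⁻¹) * c⁻¹ := by
            rw [pow_succ']; group
        _ = c * (z ^ k * x) * c⁻¹ := by rw [ih]
        _ = (c * z ^ k) * (x * c⁻¹) := by group
        _ = (z ^ k * c) * (x * c⁻¹) := by rw [hczk]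
        _ = z ^ k * (c * x * c⁻¹) := by group
        _ = z ^ k * (z * x) := by rw [hconj]
        _ = z ^ (k + 1) * x := by rw [pow_succ]; group
  have hz1 : z ^ Nat.card Z = 1 := by
    have : (⟨z, hzZ⟩ : Z) ^ Nat.card Z = 1 := pow_card_eq_one'
    have := congrArg Subtype.val this
    rw [Subgroup.coe_pow, Subgroup.coe_one] at this
    exact this
  have h3 := key (Nat.card Z)
  rw [hz1, one_mul] at h3
  calc x * c ^ Nat.card Z = (c ^ Nat.card Z * x * (c ^ Nat.card Z)⁻¹) * c ^ Nat.card Z := by rw [h3]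
    _ = c ^ Nat.card Z * x := by group

end chain
end Cfsg.Agent.Lib.Helper7.QuadLin


namespace Cfsg.Agent.Lib.Helper7.QuadLin
universe u

section chain2
variable {G : Type u} [Group G] {p : ℕ} [Fact p.Prime]

theorem isPStableOn_of_sub_quot [Finite G] (Z P : Subgroup G) [Z.Normal] [P.Normal] (hZP : Z ≤ P)
    (hZp : IsPGroup p Z) [hPbar : (P.map (QuotientGroup.mk' Z)).Normal]
    (h1 : Cfsg.IsPStableOn p Z) (h2 : Cfsg.IsPStableOn p (P.map (QuotientGroup.mk' Z))) :
    Cfsg.IsPStableOn p P := by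
  classical
  intro a hq
  have hqZ : ⁅⁅Z, Subgroup.zpowers a⁆, Subgroup.zpowers a⁆ = ⊥ := by
    rw [eq_bot_iff, ← hq]
    exact Subgroup.commutator_mono (Subgroup.commutator_mono hZP le_rfl) le_rfl
  have hqP : ⁅⁅P.map (QuotientGroup.mk' Z), Subgroup.zpowers (QuotientGroup.mk a : G ⧸ Z)⁆,
      Subgroup.zpowers (QuotientGroup.mk a : G ⧸ Z)⁆ = ⊥ := by
    rw [eq_bot_iff]
    have h1 : (Subgroup.zpowers a).map (QuotientGroup.mk' Z) =
        Subgroup.zpowers (QuotientGroup.mk a : G ⧸ Z) := by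
      rw [MonoidHom.map_zpowers]
      rfl
    have h2 := Subgroup.map_mono (f := QuotientGroup.mk' Z) hq.le
    rw [Subgroup.map_commutator, Subgroup.map_commutator, h1, Subgroup.map_bot] at h2
    exact h2
  have m1 := h1 a hqZ
  have m2 := h2 (QuotientGroup.mk a) hqP
  obtain ⟨f1, hf1⟩ : ∃ f1 : G →* G ⧸ Subgroup.centralizer (Z : Set G),
    f1 = QuotientGroup.mk' _ := ⟨_, rfl⟩
  obtain ⟨f2, hf2⟩ : ∃ f2 : G →* (G ⧸ Z) ⧸ Subgroup.centralizer
      ((P.map (QuotientGroup.mk' Z) : Subgroup (G ⧸ Z)) : Set (G ⧸ Z)),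
    f2 = (QuotientGroup.mk' _).comp (QuotientGroup.mk' Z) := ⟨_, rfl⟩
  obtain ⟨D, hD⟩ : ∃ D : Subgroup G, D = (Cfsg.pCore p _).comap f1 ⊓ (Cfsg.pCore p _).comap f2 :=
    ⟨_, rfl⟩
  haveI hDn : D.Normal := by
    rw [hD]
    haveI : ((Cfsg.pCore p (G ⧸ Subgroup.centralizer (Z : Set G))).comap f1).Normal :=
      Subgroup.Normal.comap (Cfsg.Agent.Lib.Helper7.pCore_normal p _) f1
    haveI : ((Cfsg.pCore p ((G ⧸ Z) ⧸ Subgroup.centralizer
      ((P.map (QuotientGroup.mk' Z) : Subgroup (G ⧸ Z)) : Set (G ⧸ Z)))).comap f2).Normal :=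
      Subgroup.Normal.comap (Cfsg.Agent.Lib.Helper7.pCore_normal p _) f2
    infer_instance
  have haD : a ∈ D := by
    rw [hD, Subgroup.mem_inf, Subgroup.mem_comap, Subgroup.mem_comap, hf1, hf2]
    exact ⟨m1, m2⟩
  obtain ⟨m, hm⟩ := IsPGroup.iff_card.mp hZp
  have hpow : ∀ d ∈ D, ∃ k : ℕ, d ^ p ^ k ∈ Subgroup.centralizer (P : Set G) := by
    intro d hd
    rw [hD, Subgroup.mem_inf, Subgroup.mem_comap, Subgroup.mem_comap] at hd
    obtain ⟨k₁, hk₁⟩ := (Cfsg.Agent.Lib.Helper7.pCore_isPGroup p _) ⟨f1 d, hd.1⟩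
    obtain ⟨k₂, hk₂⟩ := (Cfsg.Agent.Lib.Helper7.pCore_isPGroup p _) ⟨f2 d, hd.2⟩
    have e1 : d ^ p ^ k₁ ∈ Subgroup.centralizer (Z : Set G) := by
      have := congrArg Subtype.val hk₁
      rw [Subgroup.coe_pow, Subgroup.coe_one, ← map_pow, hf1] at this
      exact (QuotientGroup.eq_one_iff _).mp this
    have e2 : QuotientGroup.mk' Z (d ^ p ^ k₂) ∈ Subgroup.centralizer
        ((P.map (QuotientGroup.mk' Z) : Subgroup (G ⧸ Z)) : Set (G ⧸ Z)) := by
      have := congrArg Subtype.val hk₂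
      rw [Subgroup.coe_pow, Subgroup.coe_one, ← map_pow, hf2, MonoidHom.comp_apply] at this
      exact (QuotientGroup.eq_one_iff _).mp this
    obtain ⟨c, hc⟩ : ∃ c, c = d ^ p ^ (k₁ + k₂) := ⟨_, rfl⟩
    have c1 : c ∈ Subgroup.centralizer (Z : Set G) := by
      rw [hc, pow_add, pow_mul]
      exact Subgroup.pow_mem _ e1 _
    have c2 : QuotientGroup.mk' Z c ∈ Subgroup.centralizer
        ((P.map (QuotientGroup.mk' Z) : Subgroup (G ⧸ Z)) : Set (G ⧸ Z)) := by
      rw [hc, pow_add, mul_comm, pow_mul, map_pow]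
      exact Subgroup.pow_mem _ e2 _
    have := pow_card_mem_centralizer Z P c c1 c2
    refine ⟨k₁ + k₂ + m, ?_⟩
    rw [hm, hc, ← pow_mul, ← pow_add] at this
    exact this
  obtain ⟨M, hM⟩ : ∃ M : Subgroup (G ⧸ Subgroup.centralizer (P : Set G)),
    M = D.map (QuotientGroup.mk' _) := ⟨_, rfl⟩
  have hMn : M.Normal := by
    rw [hM]
    exact Subgroup.Normal.map hDn _ (QuotientGroup.mk'_surjective _)
  have hMp : IsPGroup p M := by
    rintro ⟨y, hy⟩
    rw [hM] at hy
    obtain ⟨d, hd, rfl⟩ := hy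
    obtain ⟨k, hk⟩ := hpow d hd
    refine ⟨k, ?_⟩
    apply Subtype.ext
    rw [Subgroup.coe_pow, Subgroup.coe_one, ← map_pow]
    exact (QuotientGroup.eq_one_iff _).mpr hk
  have hle := Cfsg.Agent.Lib.Helper7.le_pCore hMn hMp
  apply hle
  rw [hM]
  exact ⟨a, haD, rfl⟩

end chain2
end Cfsg.Agent.Lib.Helper7.QuadLin


namespace Cfsg.Agent.Lib.Helper7.QuadLin
universe u

section minimal
variable {G : Type u} [Group G] {p : ℕ} [Fact p.Prime]

theorem commutator_lt_self [Finite G] (B : Subgroup G)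
    (hB : IsPGroup p B) (hne : B ≠ ⊥) : ⁅B, B⁆ < B := by
  haveI : Group.IsNilpotent B := hB.isNilpotent
  haveI : Nontrivial B := (Subgroup.nontrivial_iff_ne_bot B).mpr hne
  have h1 := Group.IsSolvable.commutator_lt_top_of_nontrivial ↥B
  rw [← B.range_subtype, MonoidHom.range_eq_map, ← Subgroup.map_commutator,
    Subgroup.map_subtype_lt_map_subtype]
  exact h1

/-- a minimal normal `p`-subgroup is elementary abelian -/
theorem isElementaryAbelian_of_minimal [Finite G] (P : Subgroup G) [hPn : P.Normal]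
    (hP : IsPGroup p P) (hne : P ≠ ⊥)
    (hmin : ∀ Z : Subgroup G, Z.Normal → Z ≤ P → Z = ⊥ ∨ Z = P) :
    Cfsg.IsElementaryAbelian p P := by
  classical
  have hpp : p.Prime := Fact.out
  have hlt := commutator_lt_self P hP hne
  have hcomm0 : ⁅P, P⁆ = ⊥ := by
    rcases hmin ⁅P, P⁆ inferInstance hlt.le with h | h
    · exact h
    · exact absurd h hlt.ne
  have hcomm : ∀ x ∈ P, ∀ y ∈ P, x * y = y * x := by
    intro x hx y hy
    have h1 : ⁅x, y⁆ ∈ ⁅P, P⁆ := Subgroup.commutator_mem_commutator hx hy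
    rw [hcomm0, Subgroup.mem_bot] at h1
    exact (commutatorElement_eq_one_iff_mul_comm.mp h1)
  obtain ⟨Z, hZ⟩ : ∃ Z : Subgroup G, ∀ x, x ∈ Z ↔ x ∈ P ∧ x ^ p = 1 := by
    refine ⟨{ carrier := {x | x ∈ P ∧ x ^ p = 1}
              one_mem' := ⟨P.one_mem, one_pow _⟩
              mul_mem' := ?_
              inv_mem' := ?_ }, fun x => Iff.rfl⟩
    · rintro x y ⟨hx, hx1⟩ ⟨hy, hy1⟩
      refine ⟨P.mul_mem hx hy, ?_⟩
      have hc : Commute x y := hcomm x hx y hy
      rw [hc.mul_pow, hx1, hy1, one_mul]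
    · rintro x ⟨hx, hx1⟩
      exact ⟨P.inv_mem hx, by rw [inv_pow, hx1, inv_one]⟩
  have hZn : Z.Normal := by
    refine ⟨fun x hx g => ?_⟩
    rw [hZ] at hx ⊢
    refine ⟨hPn.conj_mem x hx.1 g, ?_⟩
    rw [conj_pow, hx.2, mul_one, mul_inv_cancel]
  have hZP : Z ≤ P := fun x hx => ((hZ x).mp hx).1
  have hZne : Z ≠ ⊥ := by
    haveI : Nontrivial P := (Subgroup.nontrivial_iff_ne_bot P).mpr hne
    have hdvd : p ∣ Nat.card P := by
      obtain ⟨n, hn⟩ := IsPGroup.iff_card.mp hP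
      have hn0 : n ≠ 0 := by
        rintro rfl
        rw [pow_zero] at hn
        have := Finite.one_lt_card (α := P)
        omega
      rw [hn]
      exact dvd_pow_self p hn0
    obtain ⟨x, hx⟩ := exists_prime_orderOf_dvd_card' p hdvd
    intro h
    have hxZ : (x : G) ∈ Z := by
      rw [hZ]
      refine ⟨x.2, ?_⟩
      have := pow_orderOf_eq_one x
      rw [hx] at this
      have := congrArg Subtype.val this
      rw [Subgroup.coe_pow, Subgroup.coe_one] at this
      exact this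
    rw [h, Subgroup.mem_bot] at hxZ
    have hx1 : x = 1 := Subtype.ext hxZ
    rw [hx1, orderOf_one] at hx
    exact hpp.one_lt.ne hx
  have hZeq : Z = P := by
    rcases hmin Z hZn hZP with h | h
    · exact absurd h hZne
    · exact h
  refine ⟨⟨⟨fun x y => Subtype.ext (hcomm x.1 x.2 y.1 y.2)⟩⟩, ?_⟩
  intro a ha
  rw [← hZeq, hZ] at ha
  exact ha.2

end minimal
end Cfsg.Agent.Lib.Helper7.QuadLin


namespace Cfsg.Agent.Lib.Helper7.QuadLin
universe u

section ind
variable {p : ℕ} [Fact p.Prime]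

theorem card_map_mk_lt {G : Type u} [Group G] [Finite G] (Z P : Subgroup G) [Z.Normal]
    (hZP : Z ≤ P) (hZ : Z ≠ ⊥) : Nat.card (P.map (QuotientGroup.mk' Z)) < Nat.card P := by
  have h1 : (QuotientGroup.mk' Z).ker.relIndex P = Nat.card (P.map (QuotientGroup.mk' Z)) :=
    Subgroup.relIndex_ker P _
  rw [QuotientGroup.ker_mk'] at h1
  have h2 := Subgroup.relIndex_mul_relIndex ⊥ Z P bot_le hZP
  rw [Subgroup.relIndex_bot_left, Subgroup.relIndex_bot_left, h1] at h2
  haveI : Nontrivial Z := (Subgroup.nontrivial_iff_ne_bot Z).mpr hZ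
  have h3 : 1 < Nat.card Z := Finite.one_lt_card
  have h4 : 0 < Nat.card (P.map (QuotientGroup.mk' Z)) := Nat.card_pos
  nlinarith

theorem isPStableOn_of_free_aux (hp : p ≠ 2) :
    ∀ (n : ℕ) (G : Type u) [Group G] [Finite G] (P : Subgroup G) [P.Normal],
      IsPGroup p P → Nat.card P = n →
      ¬ Cfsg.Involves (Matrix.SpecialLinearGroup (Fin 2) (ZMod p)) G → Cfsg.IsPStableOn p P := by
  intro n
  induction n using Nat.strong_induction_on with
  | _ n ih =>
    intro G _ _ P _ hP hn hfree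
    by_cases hmin : ∀ Z : Subgroup G, Z.Normal → Z ≤ P → Z = ⊥ ∨ Z = P
    · by_cases hne : P = ⊥
      · intro a _
        have ha : a ∈ Subgroup.centralizer (P : Set G) := by
          rw [Subgroup.mem_centralizer_iff]
          intro x hx
          rw [hne] at hx
          have : x = 1 := hx
          rw [this, one_mul, mul_one]
        rw [(QuotientGroup.eq_one_iff a).mpr ha]
        exact one_mem _
      · exact isPStableOn_of_free_elem hp hfree P (isElementaryAbelian_of_minimal P hP hne hmin)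
    · push Not at hmin
      obtain ⟨Z, hZn, hZP, hZbot, hZne⟩ := hmin
      haveI := hZn
      have hZp : IsPGroup p Z := hP.to_le hZP
      have hc1 : Nat.card Z < n := by
        rw [← hn]
        exact Set.Finite.card_lt_card (Set.toFinite _)
          (LE.le.ssubset_of_ne (show (Z : Set G) ≤ (P : Set G) from hZP) (fun h => hZne (SetLike.coe_injective h)))
      haveI hPbn : (P.map (QuotientGroup.mk' Z)).Normal :=
        Subgroup.Normal.map inferInstance _ (QuotientGroup.mk'_surjective Z)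
      have hc2 : Nat.card (P.map (QuotientGroup.mk' Z)) < n := by
        rw [← hn]; exact card_map_mk_lt Z P hZP hZbot
      have hfree' : ¬ Cfsg.Involves (Matrix.SpecialLinearGroup (Fin 2) (ZMod p)) (G ⧸ Z) :=
        fun h => hfree (involves_of_surjective (QuotientGroup.mk' Z) (QuotientGroup.mk'_surjective Z) h)
      exact isPStableOn_of_sub_quot Z P hZP hZp (ih _ hc1 G Z hZp rfl hfree)
        (ih _ hc2 (G ⧸ Z) (P.map (QuotientGroup.mk' Z)) (hP.map _) rfl hfree')

/-- **`SL₂(p)`-free groups act `p`-stably on every normal `p`-subgroup** (`p` odd) -/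
theorem isPStableOn_of_free {G : Type u} [Group G] [Finite G] (hp : p ≠ 2)
    (hfree : ¬ Cfsg.Involves (Matrix.SpecialLinearGroup (Fin 2) (ZMod p)) G)
    (P : Subgroup G) [P.Normal] (hP : IsPGroup p P) : Cfsg.IsPStableOn p P :=
  isPStableOn_of_free_aux hp _ G P hP rfl hfree

end ind
end Cfsg.Agent.Lib.Helper7.QuadLin

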