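import Mathlib
import Cfsg.Agent.Lib.Helper7.QuadLin1
import Cfsg.Agent.H9.SL2Pair

set_option autoImplicit false
set_option linter.style.haveILetI false
set_option linter.unusedSectionVars false
set_option linter.unusedVariables false

open scoped commutatorElement Pointwise

namespace Cfsg.Agent.Lib.Helper7.QuadLin
universe u v

section fieldcase2
variable {p : ℕ} {F : Type*} [Field F] [CharP F p]
variable {K : Type u} [Group K] {W : Type v} [AddCommGroup W] [Module F W]

theorem exists_sl2_hom_basis [Fact p.Prime] (ρ : Representation F K W) (x y : K)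
    (hgen : Subgroup.closure {x, y} = ⊤)
    (hx : (ρ x - 1) * (ρ x - 1) = 0) (hy : (ρ y - 1) * (ρ y - 1) = 0) (t : F)
    (ht : (ρ x - 1) * (ρ y - 1) + (ρ y - 1) * (ρ x - 1) = t • 1)
    (hirr : ∀ N : AddSubgroup W, (∀ g w, w ∈ N → ρ g w ∈ N) → N = ⊥ ∨ N = ⊤)
    (w : W) (hw : (ρ x - 1) w = 0) (hvw : (ρ y - 1) w ≠ 0) :
    ∃ (b : Module.Basis (Fin 2) F W) (φ : K →* Matrix.SpecialLinearGroup (Fin 2) F),
      ∀ g, (φ g).1 = LinearMap.toMatrix b b (ρ g) := by
  classical
  obtain ⟨u, hu⟩ : ∃ u, u = ρ x - 1 := ⟨_, rfl⟩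
  obtain ⟨v, hv⟩ : ∃ v, v = ρ y - 1 := ⟨_, rfl⟩
  rw [← hu] at hx hw ht
  rw [← hv] at hy hvw ht
  have hw0 : w ≠ 0 := by
    rintro rfl
    exact hvw (map_zero _)
  obtain ⟨w', hw'⟩ : ∃ w', w' = v w := ⟨_, rfl⟩
  have huw' : u w' = t • w := by
    have h1 : (u * v + v * u) w = (t • (1 : Module.End F W)) w := by rw [ht]
    rw [LinearMap.add_apply, Module.End.mul_apply, Module.End.mul_apply, hw, map_zero, add_zero,
      LinearMap.smul_apply, Module.End.one_apply] at h1
    rw [hw']; exact h1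
  have hvw' : v w' = 0 := by
    rw [hw', ← Module.End.mul_apply, hy, LinearMap.zero_apply]
  -- the span
  obtain ⟨N, hN⟩ : ∃ N : Submodule F W, N = Submodule.span F {w, w'} := ⟨_, rfl⟩
  have hwN : w ∈ N := by rw [hN]; exact Submodule.subset_span (Set.mem_insert _ _)
  have hw'N : w' ∈ N := by rw [hN]; exact Submodule.subset_span (Set.mem_insert_of_mem _ rfl)
  have huN : ∀ n ∈ N, u n ∈ N := by
    intro n hn
    have : Submodule.map u N ≤ N := by
      rw [hN]
      rw [Submodule.map_span_le]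
      intro m hm
      rcases hm with rfl | hm
      · rw [hw]; exact Submodule.zero_mem _
      · rw [Set.mem_singleton_iff] at hm; subst hm
        rw [huw', ← hN]; exact Submodule.smul_mem _ _ hwN
    exact this ⟨n, hn, rfl⟩
  have hvN : ∀ n ∈ N, v n ∈ N := by
    intro n hn
    have : Submodule.map v N ≤ N := by
      rw [hN]
      rw [Submodule.map_span_le]
      intro m hm
      rcases hm with rfl | hm
      · rw [← hw', ← hN]; exact hw'N
      · rw [Set.mem_singleton_iff] at hm; subst hm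
        rw [hvw']; exact Submodule.zero_mem _
    exact this ⟨n, hn, rfl⟩
  have hρx : ∀ n, ρ x n = n + u n := by
    intro n; rw [hu, LinearMap.sub_apply, Module.End.one_apply]; abel
  have hρy : ∀ n, ρ y n = n + v n := by
    intro n; rw [hv, LinearMap.sub_apply, Module.End.one_apply]; abel
  have hρx' : ∀ n, ρ x⁻¹ n = n - u n := by
    intro n
    rw [rho_inv_of_sq_zero ρ x (by rw [← hu]; exact hx), ← hu, LinearMap.sub_apply,
      Module.End.one_apply]
  have hρy' : ∀ n, ρ y⁻¹ n = n - v n := by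
    intro n
    rw [rho_inv_of_sq_zero ρ y (by rw [← hv]; exact hy), ← hv, LinearMap.sub_apply,
      Module.End.one_apply]
  have hNtop : N = ⊤ := by
    have hst := stab_of_closure ρ N.toAddSubgroup x y hgen
      (fun n hn => by rw [hρx]; exact N.add_mem hn (huN n hn))
      (fun n hn => by rw [hρx']; exact N.sub_mem hn (huN n hn))
      (fun n hn => by rw [hρy]; exact N.add_mem hn (hvN n hn))
      (fun n hn => by rw [hρy']; exact N.sub_mem hn (hvN n hn))
    rcases hirr N.toAddSubgroup (fun g n hn => hst g n hn) with h | h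
    · exfalso
      have : w ∈ N.toAddSubgroup := hwN
      rw [h, AddSubgroup.mem_bot] at this
      exact hw0 this
    · rw [eq_top_iff]
      intro n _
      have : n ∈ N.toAddSubgroup := by rw [h]; exact AddSubgroup.mem_top n
      exact this
  have hli : LinearIndependent F ![w, w'] := by
    rw [LinearIndependent.pair_iff]
    intro a b hab
    have h1 : v (a • w + b • w') = 0 := by rw [hab, map_zero]
    rw [map_add, map_smul, map_smul, hvw', smul_zero, add_zero, ← hw'] at h1
    have ha : a = 0 := by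
      rcases smul_eq_zero.mp h1 with h | h
      · exact h
      · exfalso; apply hvw; rw [← hw']; exact h
    rw [ha, zero_smul, zero_add] at hab
    have hb : b = 0 := by
      rcases smul_eq_zero.mp hab with h | h
      · exact h
      · exfalso; apply hvw; rw [← hw']; exact h
    exact ⟨ha, hb⟩
  have hsp : ⊤ ≤ Submodule.span F (Set.range ![w, w']) := by
    rw [Matrix.range_cons_cons_empty, ← hN, hNtop]
  obtain ⟨b, hb⟩ : ∃ b : Module.Basis (Fin 2) F W, b = Module.Basis.mk hli hsp := ⟨_, rfl⟩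
  -- the matrix hom
  let M : K →* Matrix (Fin 2) (Fin 2) F :=
    { toFun := fun g => LinearMap.toMatrix b b (ρ g)
      map_one' := by rw [map_one, LinearMap.toMatrix_one]
      map_mul' := fun g h => by rw [map_mul, LinearMap.toMatrix_mul] }
  have hMdef : ∀ g, M g = LinearMap.toMatrix b b (ρ g) := fun g => rfl
  let d : K →* F := (Matrix.detMonoidHom).comp M
  have hdx : ∀ z : K, (ρ z - 1) * (ρ z - 1) = 0 → d z = 1 := by
    intro z hz
    apply eq_one_of_pow_char_eq_one (p := p)
    have h1 : M z ^ p = 1 := by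
      rw [hMdef, LinearMap.toMatrix_pow, rho_pow_char (p := p) ρ z hz, LinearMap.toMatrix_one]
    show (Matrix.detMonoidHom (M z)) ^ p = 1
    rw [← map_pow, h1, map_one]
  have hd : ∀ g, d g = 1 := by
    intro g
    have h1 : Set.EqOn d (1 : K →* F) (Subgroup.closure {x, y}) := by
      apply MonoidHom.eqOn_closure
      intro z hz
      rcases hz with rfl | hz
      · rw [MonoidHom.one_apply]; exact hdx _ (by rw [← hu]; exact hx)
      · rw [Set.mem_singleton_iff] at hz; subst hz
        rw [MonoidHom.one_apply]; exact hdx _ (by rw [← hv]; exact hy)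
    rw [hgen] at h1
    exact h1 (Set.mem_univ g)
  let φ : K →* Matrix.SpecialLinearGroup (Fin 2) F :=
    { toFun := fun g => ⟨M g, hd g⟩
      map_one' := by apply Subtype.ext; show M 1 = 1; rw [map_one]
      map_mul' := fun g h => by
        apply Subtype.ext
        show M (g * h) = M g * M h
        rw [map_mul] }
  exact ⟨b, φ, fun g => rfl⟩

end fieldcase2

section irr2
variable {p : ℕ} [Fact p.Prime]
variable {K : Type u} [Group K] {W : Type v} [AddCommGroup W] [Module (ZMod p) W] [Finite W]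

theorem exists_sl2_hom_of_irreducible_basis (ρ : Representation (ZMod p) K W) (x y : K)
    (hgen : Subgroup.closure {x, y} = ⊤)
    (hx : (ρ x - 1) * (ρ x - 1) = 0) (hy : (ρ y - 1) * (ρ y - 1) = 0)
    (hirr : ∀ N : AddSubgroup W, (∀ g w, w ∈ N → ρ g w ∈ N) → N = ⊥ ∨ N = ⊤)
    (hnt : ∃ g, ρ g ≠ 1) :
    ∃ (F : Type v) (_ : Field F) (_ : Fintype F) (_ : CharP F p) (_ : Module F W)
      (ρ' : Representation F K W) (b : Module.Basis (Fin 2) F W)
      (φ : K →* Matrix.SpecialLinearGroup (Fin 2) F),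
      (∀ g w, ρ' g w = ρ g w) ∧ ∀ g, (φ g).1 = LinearMap.toMatrix b b (ρ' g) := by
  classical
  haveI : Nontrivial W := by
    by_contra hW
    rw [not_nontrivial_iff_subsingleton] at hW
    obtain ⟨g, hg⟩ := hnt
    apply hg
    apply LinearMap.ext
    intro w
    exact Subsingleton.elim _ _
  obtain ⟨u, hu⟩ : ∃ u, u = ρ x - 1 := ⟨_, rfl⟩
  obtain ⟨v, hv⟩ : ∃ v, v = ρ y - 1 := ⟨_, rfl⟩
  have hρx : ρ x = 1 + u := by rw [hu]; abel
  have hρy : ρ y = 1 + v := by rw [hv]; abel
  rw [← hu] at hx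
  rw [← hv] at hy
  obtain ⟨τ, hτdef⟩ : ∃ τ, τ = u * v + v * u := ⟨_, rfl⟩
  have hτ : ∀ g, Commute τ (ρ g) := by
    apply commute_of_closure ρ τ x y hgen
    · rw [hτdef, hρx]; exact quad_tau_commute u v hx
    · rw [hτdef, hρy, add_comm (u * v)]; exact quad_tau_commute v u hy
  obtain ⟨F, iF, iFt, iC, iM, ρ', t, h1, h2⟩ := exists_field_structure ρ hirr τ hτ
  have hsub : ∀ g w, (ρ' g - 1) w = (ρ g - 1) w := by
    intro g w
    rw [LinearMap.sub_apply, LinearMap.sub_apply, Module.End.one_apply, Module.End.one_apply, h1]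
  -- a vector killed by u but not by v
  have hex : ∃ w, u w = 0 ∧ v w ≠ 0 := by
    by_contra hcon
    push Not at hcon
    obtain ⟨E, hE⟩ : ∃ E : Submodule (ZMod p) W, E = LinearMap.ker u ⊓ LinearMap.ker v := ⟨_, rfl⟩
    have hEmem : ∀ w, w ∈ E ↔ u w = 0 ∧ v w = 0 := by
      intro w; rw [hE, Submodule.mem_inf, LinearMap.mem_ker, LinearMap.mem_ker]
    have hfix : ∀ z : K, (∀ w ∈ E, (ρ z - 1) w = 0) → (ρ z - 1) * (ρ z - 1) = 0 →
        (∀ w ∈ E.toAddSubgroup, ρ z w ∈ E.toAddSubgroup) ∧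
        (∀ w ∈ E.toAddSubgroup, ρ z⁻¹ w ∈ E.toAddSubgroup) := by
      intro z hz hzq
      constructor
      · intro w hw
        have : ρ z w = w := by
          have := hz w hw
          rw [LinearMap.sub_apply, Module.End.one_apply, sub_eq_zero] at this
          exact this
        rw [this]; exact hw
      · intro w hw
        have : ρ z⁻¹ w = w := by
          rw [rho_inv_of_sq_zero ρ z hzq, LinearMap.sub_apply, Module.End.one_apply, hz w hw,
            sub_zero]
        rw [this]; exact hw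
    have hxE := hfix x (fun w hw => by rw [← hu]; exact ((hEmem w).mp hw).1) (by rw [← hu]; exact hx)
    have hyE := hfix y (fun w hw => by rw [← hv]; exact ((hEmem w).mp hw).2) (by rw [← hv]; exact hy)
    have hst := stab_of_closure ρ E.toAddSubgroup x y hgen hxE.1 hxE.2 hyE.1 hyE.2
    have hEtop : E.toAddSubgroup = ⊤ := by
      rcases hirr _ (fun g w hw => hst g w hw) with h | h
      · exfalso
        obtain ⟨w₁, hw₁⟩ := exists_ne (0 : W)
        by_cases huw : u w₁ = 0
        · have : w₁ ∈ E.toAddSubgroup := (hEmem w₁).mpr ⟨huw, hcon w₁ huw⟩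
          rw [h, AddSubgroup.mem_bot] at this
          exact hw₁ this
        · have huu : u (u w₁) = 0 := by
            rw [← Module.End.mul_apply, hx, LinearMap.zero_apply]
          have : u w₁ ∈ E.toAddSubgroup := (hEmem _).mpr ⟨huu, hcon _ huu⟩
          rw [h, AddSubgroup.mem_bot] at this
          exact huw this
      · exact h
    have hu0 : u = 0 := by
      apply LinearMap.ext; intro w
      have : w ∈ E.toAddSubgroup := by rw [hEtop]; exact AddSubgroup.mem_top w
      exact ((hEmem w).mp this).1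
    have hv0 : v = 0 := by
      apply LinearMap.ext; intro w
      have : w ∈ E.toAddSubgroup := by rw [hEtop]; exact AddSubgroup.mem_top w
      exact ((hEmem w).mp this).2
    obtain ⟨g, hg⟩ := hnt
    apply hg
    have h3 : Set.EqOn ρ (1 : K →* Module.End (ZMod p) W) (Subgroup.closure {x, y}) := by
      apply MonoidHom.eqOn_closure
      intro z hz
      rcases hz with rfl | hz
      · rw [MonoidHom.one_apply, hρx, hu0, add_zero]
      · rw [Set.mem_singleton_iff] at hz; subst hz
        rw [MonoidHom.one_apply, hρy, hv0, add_zero]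
    rw [hgen] at h3
    exact h3 (Set.mem_univ g)
  obtain ⟨w, hw, hvw⟩ := hex
  have hx' : (ρ' x - 1) * (ρ' x - 1) = 0 := by
    apply LinearMap.ext; intro w
    rw [Module.End.mul_apply, hsub, hsub, ← hu, ← Module.End.mul_apply, hx]
    rfl
  have hy' : (ρ' y - 1) * (ρ' y - 1) = 0 := by
    apply LinearMap.ext; intro w
    rw [Module.End.mul_apply, hsub, hsub, ← hv, ← Module.End.mul_apply, hy]
    rfl
  have ht : (ρ' x - 1) * (ρ' y - 1) + (ρ' y - 1) * (ρ' x - 1) = t • 1 := by
    apply LinearMap.ext; intro w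
    rw [LinearMap.add_apply, Module.End.mul_apply, Module.End.mul_apply, hsub, hsub, hsub, hsub,
      ← hu, ← hv, LinearMap.smul_apply, Module.End.one_apply, ← h2, hτdef, LinearMap.add_apply,
      Module.End.mul_apply, Module.End.mul_apply]
  have hirr' : ∀ N : AddSubgroup W, (∀ g w, w ∈ N → ρ' g w ∈ N) → N = ⊥ ∨ N = ⊤ := by
    intro N hN
    apply hirr N
    intro g w hw
    rw [← h1]; exact hN g w hw
  obtain ⟨b, φ, hφ⟩ := exists_sl2_hom_basis (p := p) ρ' x y hgen hx' hy' t ht hirr' w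
    (by rw [hsub, ← hu]; exact hw) (by rw [hsub, ← hv]; exact hvw)
  exact ⟨F, iF, iFt, iC, iM, ρ', b, φ, h1, hφ⟩

end irr2
end Cfsg.Agent.Lib.Helper7.QuadLin


namespace Cfsg.Agent.Lib.Helper7.QuadLin
universe u v

section mat
variable {F : Type*} [Field F]

theorem mat_sq_zero_of_trace_two (X : Matrix (Fin 2) (Fin 2) F) (hd : X.det = 1)
    (ht : X.trace = 2) : (X - 1) * (X - 1) = 0 := by
  rw [Matrix.det_fin_two] at hd
  rw [Matrix.trace_fin_two] at ht
  ext i j
  fin_cases i <;> fin_cases j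
  · simp [Matrix.mul_apply, Fin.sum_univ_two]
    linear_combination (X 0 0) * ht - hd
  · simp [Matrix.mul_apply, Fin.sum_univ_two]
    linear_combination (X 0 1) * ht
  · simp [Matrix.mul_apply, Fin.sum_univ_two]
    linear_combination (X 1 0) * ht
  · simp [Matrix.mul_apply, Fin.sum_univ_two]
    linear_combination (X 1 1) * ht - hd

theorem mat_anticomm_of_trace_two (X Y : Matrix (Fin 2) (Fin 2) F)
    (htX : X.trace = 2) (htY : Y.trace = 2) :
    (X - 1) * (Y - 1) + (Y - 1) * (X - 1) = ((X * Y).trace - 2) • (1 : Matrix (Fin 2) (Fin 2) F) := by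
  rw [Matrix.trace_fin_two] at htX htY
  rw [Matrix.trace_fin_two]
  ext i j
  fin_cases i <;> fin_cases j
  · simp [Matrix.mul_apply, Fin.sum_univ_two]
    linear_combination (-(Y 1 1)) * htX + (-(2 - X 0 0)) * htY
  · simp [Matrix.mul_apply, Fin.sum_univ_two]
    linear_combination (Y 0 1) * htX + (X 0 1) * htY
  · simp [Matrix.mul_apply, Fin.sum_univ_two]
    linear_combination (Y 1 0) * htX + (X 1 0) * htY
  · simp [Matrix.mul_apply, Fin.sum_univ_two]
    linear_combination (-(Y 0 0)) * htX + (-(2 - X 1 1)) * htY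

end mat
end Cfsg.Agent.Lib.Helper7.QuadLin

namespace Cfsg.Agent.Lib.Helper7.QuadLin
universe u v

section irr3
variable {p : ℕ} [Fact p.Prime]
variable {K : Type u} [Group K] {W : Type v} [AddCommGroup W] [Module (ZMod p) W] [Finite W]

/-- in the irreducible case there is a pair of quadratic elements with `uv + vu = -2` -/
theorem exists_pair_minus_two (hp : p ≠ 2) (ρ : Representation (ZMod p) K W) (x y : K)
    (hgen : Subgroup.closure {x, y} = ⊤)
    (hx : (ρ x - 1) * (ρ x - 1) = 0) (hy : (ρ y - 1) * (ρ y - 1) = 0)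
    (hirr : ∀ N : AddSubgroup W, (∀ g w, w ∈ N → ρ g w ∈ N) → N = ⊥ ∨ N = ⊤)
    (hnp : ¬ ∀ g : K, ∃ n : ℕ, ρ g ^ p ^ n = 1) :
    ∃ x' y' : K, (ρ x' - 1) * (ρ x' - 1) = 0 ∧ (ρ y' - 1) * (ρ y' - 1) = 0 ∧
      ∀ w, (ρ x' - 1) ((ρ y' - 1) w) + (ρ y' - 1) ((ρ x' - 1) w) = -(w + w) := by
  classical
  have hnt : ∃ g, ρ g ≠ 1 := by
    by_contra h
    push Not at h
    apply hnp
    intro g
    exact ⟨0, by rw [pow_zero, pow_one]; exact h g⟩
  obtain ⟨F, iF, iFt, iC, iM, ρ', b, φ, h1, hφ⟩ :=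
    exists_sl2_hom_of_irreducible_basis ρ x y hgen hx hy hirr hnt
  have hφ1 : ∀ g, φ g = 1 ↔ ρ g = 1 := by
    intro g
    constructor
    · intro hg
      have h2 : LinearMap.toMatrix b b (ρ' g) = 1 := by rw [← hφ, hg]; rfl
      rw [← LinearMap.toMatrix_one b] at h2
      have h3 := (LinearMap.toMatrix b b).injective h2
      apply LinearMap.ext; intro w
      rw [← h1, h3]; rfl
    · intro hg
      apply Subtype.ext
      rw [hφ]
      have : ρ' g = 1 := by
        apply LinearMap.ext; intro w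
        rw [h1, hg]; rfl
      rw [this, LinearMap.toMatrix_one]; rfl
  have hSyl : 1 < Nat.card (Sylow p φ.range) := by
    by_contra hle
    push Not at hle
    haveI : Subsingleton (Sylow p φ.range) := (Finite.card_le_one_iff_subsingleton).mp hle
    obtain ⟨P⟩ : Nonempty (Sylow p φ.range) := inferInstance
    have hmem : ∀ z : K, (ρ z - 1) * (ρ z - 1) = 0 → φ.rangeRestrict z ∈ (P : Subgroup φ.range) := by
      intro z hz
      have hzp : (φ.rangeRestrict z) ^ p = 1 := by
        rw [← map_pow]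
        apply Subtype.ext
        show φ (z ^ p) = 1
        rw [hφ1, map_pow]
        exact rho_pow_char (p := p) ρ z hz
      have hpg : IsPGroup p (Subgroup.zpowers (φ.rangeRestrict z)) := by
        rintro ⟨w, hw⟩
        refine ⟨1, ?_⟩
        obtain ⟨k, rfl⟩ := Subgroup.mem_zpowers_iff.mp hw
        apply Subtype.ext
        show ((φ.rangeRestrict z) ^ k) ^ p ^ 1 = 1
        rw [pow_one, ← zpow_natCast, ← zpow_mul, mul_comm, zpow_mul, zpow_natCast, hzp, one_zpow]
      obtain ⟨Q, hQ⟩ := hpg.exists_le_sylow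
      rw [Subsingleton.elim P Q]
      exact hQ (Subgroup.mem_zpowers _)
    have htop : (P : Subgroup φ.range) = ⊤ := by
      rw [eq_top_iff]
      have h1 : (Subgroup.closure {x, y}).map φ.rangeRestrict = ⊤ := by
        rw [hgen, ← MonoidHom.range_eq_map, MonoidHom.range_eq_top]
        exact φ.rangeRestrict_surjective
      rw [← h1, MonoidHom.map_closure, Subgroup.closure_le]
      rintro _ ⟨z, hz, rfl⟩
      rcases hz with rfl | hz
      · exact hmem _ hx
      · rw [Set.mem_singleton_iff] at hz; subst hz; exact hmem _ hy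
    apply hnp
    intro g
    have hg : φ.rangeRestrict g ∈ (P : Subgroup φ.range) := by rw [htop]; exact Subgroup.mem_top _
    obtain ⟨n, hn⟩ := P.isPGroup' ⟨_, hg⟩
    refine ⟨n, ?_⟩
    have h2 : (φ.rangeRestrict g) ^ p ^ n = 1 := by
      have := congrArg Subtype.val hn
      exact this
    have h3 : φ (g ^ p ^ n) = 1 := by
      have := congrArg Subtype.val h2
      rw [map_pow]
      exact this
    rw [hφ1, map_pow] at h3
    exact h3
  obtain ⟨X, Y, hXr, hYr, hXt, hYt, hXY⟩ := Cfsg.Agent.H9.SL2Pair.exists_pair p hp φ.range hSyl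
  obtain ⟨x', rfl⟩ := hXr
  obtain ⟨y', rfl⟩ := hYr
  have hsub : ∀ g w, (ρ' g - 1) w = (ρ g - 1) w := by
    intro g w
    rw [LinearMap.sub_apply, LinearMap.sub_apply, Module.End.one_apply, Module.End.one_apply, h1]
  have hmat : ∀ g, LinearMap.toMatrix b b (ρ' g - 1) = (φ g).1 - 1 := by
    intro g
    rw [map_sub, LinearMap.toMatrix_one, hφ]
  have hq' : ∀ g, (φ g).1.trace = 2 → (ρ' g - 1) * (ρ' g - 1) = 0 := by
    intro g hg
    apply (LinearMap.toMatrix b b).injective
    rw [LinearMap.toMatrix_mul, hmat, map_zero]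
    exact mat_sq_zero_of_trace_two _ (φ g).2 hg
  have hquad : ∀ g, (φ g).1.trace = 2 → (ρ g - 1) * (ρ g - 1) = 0 := by
    intro g hg
    apply LinearMap.ext; intro w
    have := congrArg (fun f => f w) (hq' g hg)
    simp only [Module.End.mul_apply, LinearMap.zero_apply] at this ⊢
    rw [hsub, hsub] at this
    exact this
  refine ⟨x', y', hquad x' hXt, hquad y' hYt, ?_⟩
  intro w
  have h5 : (ρ' x' - 1) * (ρ' y' - 1) + (ρ' y' - 1) * (ρ' x' - 1) = (-2 : F) • (1 : Module.End F W) := by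
    apply (LinearMap.toMatrix b b).injective
    rw [map_add, LinearMap.toMatrix_mul, LinearMap.toMatrix_mul, hmat, hmat, map_smul,
      LinearMap.toMatrix_one, mat_anticomm_of_trace_two _ _ hXt hYt]
    have h6 : ((φ x').1 * (φ y').1).trace = 0 := hXY
    rw [h6, zero_sub]
  have h7 := congrArg (fun f => f w) h5
  simp only [LinearMap.add_apply, Module.End.mul_apply, LinearMap.smul_apply,
    Module.End.one_apply] at h7
  rw [hsub, hsub, hsub, hsub] at h7
  rw [h7, neg_smul, two_smul]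

end irr3
end Cfsg.Agent.Lib.Helper7.QuadLin


namespace Cfsg.Agent.Lib.Helper7.QuadLin
universe u v

section plane
variable {p : ℕ} [Fact p.Prime] {W : Type v} [AddCommGroup W] [Module (ZMod p) W]

/-- the invariant plane of a pair with `uv + vu = -2` -/
theorem exists_plane (hp : p ≠ 2) [Nontrivial W] (u v : Module.End (ZMod p) W)
    (hu : u * u = 0) (hv : v * v = 0) (huv : ∀ w, u (v w) + v (u w) = -(w + w)) :
    ∃ (N : Submodule (ZMod p) W) (w : W), w ∈ N ∧ v w ∈ N ∧ u w = 0 ∧ v w ≠ 0 ∧ u (v w) ≠ 0 ∧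
      (∀ n ∈ N, u n ∈ N) ∧ (∀ n ∈ N, v n ∈ N) ∧ Nat.card N = p ^ 2 := by
  classical
  have hpp : p.Prime := Fact.out
  have h2 : (2 : ZMod p) ≠ 0 := by
    intro h
    have h' : ((2 : ℕ) : ZMod p) = 0 := by exact_mod_cast h
    rw [ZMod.natCast_eq_zero_iff] at h'
    exact hp ((Nat.prime_dvd_prime_iff_eq hpp Nat.prime_two).1 h')
  have hdbl : ∀ w : W, w + w = 0 → w = 0 := by
    intro w hw
    have : (2 : ZMod p) • w = 0 := by rw [two_smul]; exact hw
    rcases smul_eq_zero.mp this with h | h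
    · exact absurd h h2
    · exact h
  -- a nonzero vector killed by `u`
  obtain ⟨w₀, hw₀, huw₀⟩ : ∃ w₀ : W, w₀ ≠ 0 ∧ u w₀ = 0 := by
    obtain ⟨w₁, hw₁⟩ := exists_ne (0 : W)
    by_cases h : u w₁ = 0
    · exact ⟨w₁, hw₁, h⟩
    · refine ⟨u w₁, h, ?_⟩
      rw [← Module.End.mul_apply, hu, LinearMap.zero_apply]
  have hvw₀ : v w₀ ≠ 0 := by
    intro h
    have := huv w₀
    rw [h, huw₀, map_zero, map_zero, add_zero] at this
    have h3 : w₀ + w₀ = 0 := by
      have := congrArg Neg.neg this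
      rw [neg_zero, neg_neg] at this
      exact this.symm
    exact hw₀ (hdbl w₀ h3)
  have huvw₀ : u (v w₀) = -(w₀ + w₀) := by
    have := huv w₀
    rw [huw₀, map_zero, add_zero] at this
    exact this
  have huvw₀ne : u (v w₀) ≠ 0 := by
    rw [huvw₀]
    intro h
    have h3 : w₀ + w₀ = 0 := by
      have := congrArg Neg.neg h
      rw [neg_zero, neg_neg] at this
      exact this
    exact hw₀ (hdbl w₀ h3)
  have hvvw₀ : v (v w₀) = 0 := by
    rw [← Module.End.mul_apply, hv, LinearMap.zero_apply]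
  obtain ⟨N, hN⟩ : ∃ N : Submodule (ZMod p) W, N = Submodule.span (ZMod p) {w₀, v w₀} := ⟨_, rfl⟩
  have hwN : w₀ ∈ N := by rw [hN]; exact Submodule.subset_span (Set.mem_insert _ _)
  have hvwN : v w₀ ∈ N := by rw [hN]; exact Submodule.subset_span (Set.mem_insert_of_mem _ rfl)
  have huN : ∀ n ∈ N, u n ∈ N := by
    intro n hn
    have : Submodule.map u N ≤ N := by
      rw [hN, Submodule.map_span_le]
      intro m hm
      rcases hm with rfl | hm
      · rw [huw₀]; exact Submodule.zero_mem _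
      · rw [Set.mem_singleton_iff] at hm; subst hm
        rw [huvw₀, ← hN]
        exact N.neg_mem (N.add_mem hwN hwN)
    exact this ⟨n, hn, rfl⟩
  have hvN : ∀ n ∈ N, v n ∈ N := by
    intro n hn
    have : Submodule.map v N ≤ N := by
      rw [hN, Submodule.map_span_le]
      intro m hm
      rcases hm with rfl | hm
      · rw [← hN]; exact hvwN
      · rw [Set.mem_singleton_iff] at hm; subst hm
        rw [hvvw₀]; exact Submodule.zero_mem _
    exact this ⟨n, hn, rfl⟩
  have hli : LinearIndependent (ZMod p) ![w₀, v w₀] := by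
    rw [LinearIndependent.pair_iff]
    intro a b hab
    have h1 : v (a • w₀ + b • v w₀) = 0 := by rw [hab, map_zero]
    rw [map_add, map_smul, map_smul, hvvw₀, smul_zero, add_zero] at h1
    have ha : a = 0 := by
      rcases smul_eq_zero.mp h1 with h | h
      · exact h
      · exact absurd h hvw₀
    rw [ha, zero_smul, zero_add] at hab
    have hb : b = 0 := by
      rcases smul_eq_zero.mp hab with h | h
      · exact h
      · exact absurd h hvw₀
    exact ⟨ha, hb⟩
  have hcard : Nat.card N = p ^ 2 := by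
    have h1 : Module.finrank (ZMod p) N = 2 := by
      have := finrank_span_eq_card hli
      rw [Matrix.range_cons_cons_empty, ← hN] at this
      rw [this]; rfl
    have hfin : Module.Finite (ZMod p) N := by
      rw [hN]
      exact Module.Finite.span_of_finite (ZMod p) (Set.toFinite _)
    rw [Module.natCard_eq_pow_finrank (K := ZMod p), Nat.card_zmod, h1]
  exact ⟨N, w₀, hwN, hvwN, huw₀, hvw₀, huvw₀ne, huN, hvN, hcard⟩

end plane
end Cfsg.Agent.Lib.Helper7.QuadLin


namespace Cfsg.Agent.Lib.Helper7.QuadLin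
universe u v

section qdplane
variable {p : ℕ} [Fact p.Prime]
variable {K : Type u} [Group K]

/-- a "`Qd(p)`-plane" in a representation: a two-dimensional section `N/N'` of `W`, invariant under
two elements `x`, `y` of `K` which act quadratically and independently on it. -/
def QdPlane {W : Type v} [AddCommGroup W] [Module (ZMod p) W]
    (ρ : Representation (ZMod p) K W) : Prop :=
  ∃ (x y : K) (N' N : Submodule (ZMod p) W) (w : W), N' ≤ N ∧
    (∀ n ∈ N, ρ x n ∈ N) ∧ (∀ n ∈ N, ρ y n ∈ N) ∧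
    (∀ n ∈ N', ρ x n ∈ N') ∧ (∀ n ∈ N', ρ y n ∈ N') ∧
    Nat.card N = p ^ 2 * Nat.card N' ∧
    (∀ n ∈ N, (ρ x - 1) ((ρ x - 1) n) ∈ N') ∧ (∀ n ∈ N, (ρ y - 1) ((ρ y - 1) n) ∈ N') ∧
    w ∈ N ∧ (ρ x - 1) w ∈ N' ∧ (ρ y - 1) w ∉ N' ∧ (ρ x - 1) ((ρ y - 1) w) ∉ N'

theorem card_comap_mkQ {W : Type v} [AddCommGroup W] [Module (ZMod p) W] [Finite W]
    (N₀ : Submodule (ZMod p) W) (N : Submodule (ZMod p) (W ⧸ N₀)) :
    Nat.card (N.comap N₀.mkQ) = Nat.card N₀ * Nat.card N := by
  haveI : Finite (W ⧸ N₀) := Finite.of_surjective _ (Submodule.Quotient.mk_surjective N₀)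
  have hc : ∀ {M : Type v} [AddCommGroup M] [Module (ZMod p) M] (S : Submodule (ZMod p) M),
      Nat.card ↥S.toAddSubgroup = Nat.card ↥S := fun S => rfl
  have h1 : Nat.card (N.comap N₀.mkQ) * (N.comap N₀.mkQ).toAddSubgroup.index = Nat.card W := by
    rw [← hc]
    exact AddSubgroup.card_mul_index (N.comap N₀.mkQ).toAddSubgroup
  have h2 : Nat.card N * N.toAddSubgroup.index = Nat.card (W ⧸ N₀) := by
    rw [← hc]
    exact AddSubgroup.card_mul_index N.toAddSubgroup
  have h3 : (N.comap N₀.mkQ).toAddSubgroup.index = N.toAddSubgroup.index := by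
    have : (N.comap N₀.mkQ).toAddSubgroup =
        N.toAddSubgroup.comap (N₀.mkQ : W →ₗ[ZMod p] W ⧸ N₀).toAddMonoidHom := rfl
    rw [this]
    exact AddSubgroup.index_comap_of_surjective _ (Submodule.Quotient.mk_surjective N₀)
  have h4 := Submodule.card_eq_card_quotient_mul_card N₀
  have hpos : 0 < N.toAddSubgroup.index := by
    apply Nat.pos_of_ne_zero
    exact AddSubgroup.index_ne_zero_of_finite
  rw [h3, h4, ← h2] at h1
  have : Nat.card (N.comap N₀.mkQ) * N.toAddSubgroup.index =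
      (Nat.card N₀ * Nat.card N) * N.toAddSubgroup.index := by
    rw [h1]; ring
  exact Nat.eq_of_mul_eq_mul_right hpos this

theorem qdPlane_of_sub {W : Type v} [AddCommGroup W] [Module (ZMod p) W]
    (ρ : Representation (ZMod p) K W) (N₀ : Submodule (ZMod p) W)
    (hN₀ : ∀ g, N₀ ≤ N₀.comap (ρ g)) (h : QdPlane (ρ.subrepresentation N₀ hN₀)) : QdPlane ρ := by
  obtain ⟨x, y, N', N, w, hle, hxN, hyN, hxN', hyN', hcard, hxq, hyq, hw, h1, h2, h3⟩ := h
  have hσ : ∀ (g : K) (m : ↥N₀), (((ρ.subrepresentation N₀ hN₀) g) m : W) = ρ g (m : W) := by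
    intro g m
    rw [Representation.subrepresentation_apply, LinearMap.coe_restrict_apply]
  have hσ1 : ∀ (g : K) (m : ↥N₀),
      ((((ρ.subrepresentation N₀ hN₀) g) - 1) m : W) = (ρ g - 1) (m : W) := by
    intro g m
    rw [LinearMap.sub_apply, LinearMap.sub_apply, Module.End.one_apply, Module.End.one_apply,
      Submodule.coe_sub, hσ]
  have hmem : ∀ (S : Submodule (ZMod p) ↥N₀) (m : ↥N₀), (m : W) ∈ S.map N₀.subtype ↔ m ∈ S := by
    intro S m
    rw [Submodule.mem_map]
    constructor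
    · rintro ⟨m', hm', hmm⟩
      have : m' = m := Subtype.ext hmm
      rw [← this]; exact hm'
    · intro hm
      exact ⟨m, hm, rfl⟩
  have hcard' : ∀ S : Submodule (ZMod p) ↥N₀, Nat.card (S.map N₀.subtype) = Nat.card S := by
    intro S
    exact (Nat.card_congr
      (Submodule.equivMapOfInjective N₀.subtype N₀.injective_subtype S).toEquiv).symm
  refine ⟨x, y, N'.map N₀.subtype, N.map N₀.subtype, (w : W), Submodule.map_mono hle,
    ?_, ?_, ?_, ?_, ?_, ?_, ?_, ?_, ?_, ?_, ?_⟩
  · rintro n ⟨m, hm, rfl⟩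
    show ρ x (m : W) ∈ _
    rw [← hσ, hmem]; exact hxN m hm
  · rintro n ⟨m, hm, rfl⟩
    show ρ y (m : W) ∈ _
    rw [← hσ, hmem]; exact hyN m hm
  · rintro n ⟨m, hm, rfl⟩
    show ρ x (m : W) ∈ _
    rw [← hσ, hmem]; exact hxN' m hm
  · rintro n ⟨m, hm, rfl⟩
    show ρ y (m : W) ∈ _
    rw [← hσ, hmem]; exact hyN' m hm
  · rw [hcard', hcard', hcard]
  · rintro n ⟨m, hm, rfl⟩
    show (ρ x - 1) ((ρ x - 1) (m : W)) ∈ _
    rw [← hσ1, ← hσ1, hmem]; exact hxq m hm
  · rintro n ⟨m, hm, rfl⟩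
    show (ρ y - 1) ((ρ y - 1) (m : W)) ∈ _
    rw [← hσ1, ← hσ1, hmem]; exact hyq m hm
  · rw [hmem]; exact hw
  · rw [← hσ1, hmem]; exact h1
  · rw [← hσ1, hmem]; exact h2
  · rw [← hσ1, ← hσ1, hmem]; exact h3

theorem qdPlane_of_quot {W : Type v} [AddCommGroup W] [Module (ZMod p) W] [Finite W]
    (ρ : Representation (ZMod p) K W) (N₀ : Submodule (ZMod p) W)
    (hN₀ : ∀ g, N₀ ≤ N₀.comap (ρ g)) (h : QdPlane (ρ.quotient N₀ hN₀)) : QdPlane ρ := by
  obtain ⟨x, y, N', N, w, hle, hxN, hyN, hxN', hyN', hcard, hxq, hyq, hw, h1, h2, h3⟩ := h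
  have hσ : ∀ (g : K) (m : W), ((ρ.quotient N₀ hN₀) g) (Submodule.Quotient.mk m) =
      Submodule.Quotient.mk (ρ g m) := by
    intro g m
    rw [Representation.quotient_apply, Submodule.mapQ_apply]
  have hσ1 : ∀ (g : K) (m : W), (((ρ.quotient N₀ hN₀) g) - 1) (Submodule.Quotient.mk m) =
      Submodule.Quotient.mk ((ρ g - 1) m) := by
    intro g m
    rw [LinearMap.sub_apply, LinearMap.sub_apply, Module.End.one_apply, Module.End.one_apply,
      hσ, Submodule.Quotient.mk_sub]
  have hmem : ∀ (S : Submodule (ZMod p) (W ⧸ N₀)) (m : W),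
      m ∈ S.comap N₀.mkQ ↔ Submodule.Quotient.mk m ∈ S := by
    intro S m
    rw [Submodule.mem_comap, Submodule.mkQ_apply]
  obtain ⟨w₁, rfl⟩ := Submodule.Quotient.mk_surjective N₀ w
  refine ⟨x, y, N'.comap N₀.mkQ, N.comap N₀.mkQ, w₁, Submodule.comap_mono hle,
    ?_, ?_, ?_, ?_, ?_, ?_, ?_, ?_, ?_, ?_, ?_⟩
  · intro n hn
    rw [hmem] at hn ⊢
    rw [← hσ]; exact hxN _ hn
  · intro n hn
    rw [hmem] at hn ⊢
    rw [← hσ]; exact hyN _ hn
  · intro n hn
    rw [hmem] at hn ⊢
    rw [← hσ]; exact hxN' _ hn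
  · intro n hn
    rw [hmem] at hn ⊢
    rw [← hσ]; exact hyN' _ hn
  · rw [card_comap_mkQ, card_comap_mkQ, hcard]; ring
  · intro n hn
    rw [hmem] at hn ⊢
    rw [← hσ1, ← hσ1]; exact hxq _ hn
  · intro n hn
    rw [hmem] at hn ⊢
    rw [← hσ1, ← hσ1]; exact hyq _ hn
  · rw [hmem]; exact hw
  · rw [hmem, ← hσ1]; exact h1
  · rw [hmem, ← hσ1]; exact h2
  · rw [hmem, ← hσ1, ← hσ1]; exact h3

end qdplane
end Cfsg.Agent.Lib.Helper7.QuadLin


namespace Cfsg.Agent.Lib.Helper7.QuadLin
universe u v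

section qdplane2
variable {p : ℕ} [Fact p.Prime]
variable {K : Type u} [Group K]

theorem qdPlane_of_irreducible {W : Type v} [AddCommGroup W] [Module (ZMod p) W] [Finite W]
    (hp : p ≠ 2) (ρ : Representation (ZMod p) K W) (x y : K)
    (hgen : Subgroup.closure {x, y} = ⊤)
    (hx : (ρ x - 1) * (ρ x - 1) = 0) (hy : (ρ y - 1) * (ρ y - 1) = 0)
    (hirr : ∀ N : AddSubgroup W, (∀ g w, w ∈ N → ρ g w ∈ N) → N = ⊥ ∨ N = ⊤)
    (hnp : ¬ ∀ g : K, ∃ n : ℕ, ρ g ^ p ^ n = 1) : QdPlane ρ := by
  classical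
  haveI : Nontrivial W := by
    by_contra hnt
    rw [not_nontrivial_iff_subsingleton] at hnt
    apply hnp
    intro g
    refine ⟨0, ?_⟩
    apply LinearMap.ext; intro w
    exact Subsingleton.elim _ _
  obtain ⟨x', y', hx', hy', hxy⟩ := exists_pair_minus_two hp ρ x y hgen hx hy hirr hnp
  obtain ⟨N, w, hwN, hvwN, huw, hvw, huvw, huN, hvN, hcard⟩ :=
    exists_plane hp (ρ x' - 1) (ρ y' - 1) hx' hy' hxy
  have hρ : ∀ (g : K) (n : W), ρ g n = n + (ρ g - 1) n := by
    intro g n; rw [LinearMap.sub_apply, Module.End.one_apply]; abel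
  refine ⟨x', y', ⊥, N, w, bot_le, ?_, ?_, ?_, ?_, ?_, ?_, ?_, hwN, ?_, ?_, ?_⟩
  · intro n hn
    rw [hρ]; exact N.add_mem hn (huN n hn)
  · intro n hn
    rw [hρ]; exact N.add_mem hn (hvN n hn)
  · intro n hn
    rw [Submodule.mem_bot] at hn ⊢
    rw [hn, map_zero]
  · intro n hn
    rw [Submodule.mem_bot] at hn ⊢
    rw [hn, map_zero]
  · rw [hcard, Nat.card_unique, mul_one]
  · intro n _
    rw [← Module.End.mul_apply, hx', LinearMap.zero_apply]; exact Submodule.zero_mem _
  · intro n _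
    rw [← Module.End.mul_apply, hy', LinearMap.zero_apply]; exact Submodule.zero_mem _
  · rw [huw]; exact Submodule.zero_mem _
  · rw [Submodule.mem_bot]; exact hvw
  · rw [Submodule.mem_bot]; exact huvw

theorem qdPlane_aux (hp : p ≠ 2) (x y : K) (hgen : Subgroup.closure {x, y} = ⊤) :
    ∀ (n : ℕ) (W : Type v) [AddCommGroup W] [Module (ZMod p) W] [Finite W]
      (ρ : Representation (ZMod p) K W), Nat.card W = n →
      (ρ x - 1) * (ρ x - 1) = 0 → (ρ y - 1) * (ρ y - 1) = 0 →
      (¬ ∀ g : K, ∃ n : ℕ, ρ g ^ p ^ n = 1) → QdPlane ρ := by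
  intro n
  induction n using Nat.strong_induction_on with
  | _ n ih =>
    intro W _ _ _ ρ hn hx hy hnp
    by_cases hirr : ∀ N : AddSubgroup W, (∀ g w, w ∈ N → ρ g w ∈ N) → N = ⊥ ∨ N = ⊤
    · exact qdPlane_of_irreducible hp ρ x y hgen hx hy hirr hnp
    · push Not at hirr
      obtain ⟨N₀, hN₀, hbot, htop⟩ := hirr
      obtain ⟨N, hNdef⟩ : ∃ N : Submodule (ZMod p) W, N = AddSubgroup.toZModSubmodule p N₀ :=
        ⟨_, rfl⟩
      have hmemN : ∀ w, w ∈ N ↔ w ∈ N₀ := by intro w; rw [hNdef]; rfl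
      have hN : ∀ g, N ≤ N.comap (ρ g) := by
        intro g w hw
        rw [Submodule.mem_comap, hmemN]
        exact hN₀ g w ((hmemN w).mp hw)
      have hc1 : Nat.card N < n := by
        rw [← hn]
        have hex : ∃ w : W, w ∉ N := by
          by_contra h
          push Not at h
          apply htop
          rw [eq_top_iff]
          intro w _
          exact (hmemN w).mp (h w)
        obtain ⟨w, hw⟩ := hex
        exact Finite.card_subtype_lt (p := fun w => w ∈ N) hw
      haveI : Finite (W ⧸ N) := Finite.of_surjective _ (Submodule.Quotient.mk_surjective N)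
      have hc2 : Nat.card (W ⧸ N) < n := by
        rw [← hn, Submodule.card_eq_card_quotient_mul_card N]
        have h1 : 1 < Nat.card N := by
          rw [Finite.one_lt_card_iff_nontrivial]
          have hex : ∃ w : W, w ∈ N₀ ∧ w ≠ 0 := by
            by_contra h
            push Not at h
            apply hbot
            rw [eq_bot_iff]
            intro w hw
            rw [AddSubgroup.mem_bot]
            exact h w hw
          obtain ⟨w, hw, hw0⟩ := hex
          refine ⟨⟨⟨w, (hmemN w).mpr hw⟩, 0, ?_⟩⟩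
          intro h
          exact hw0 (congrArg Subtype.val h)
        have h2 : 0 < Nat.card (W ⧸ N) := Nat.card_pos
        nlinarith
      by_cases h1 : ∀ g : K, ∃ n : ℕ, (ρ.subrepresentation N hN) g ^ p ^ n = 1
      · by_cases h2 : ∀ g : K, ∃ n : ℕ, (ρ.quotient N hN) g ^ p ^ n = 1
        · exact absurd (pAct_of_sub_quot ρ N hN h1 h2) hnp
        · exact qdPlane_of_quot ρ N hN (ih _ hc2 (W ⧸ N) (ρ.quotient N hN) rfl
            (quad_quot ρ N hN x hx) (quad_quot ρ N hN y hy) h2)
      · exact qdPlane_of_sub ρ N hN (ih _ hc1 N (ρ.subrepresentation N hN) rfl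
          (quad_sub ρ N hN x hx) (quad_sub ρ N hN y hy) h1)

/-- **Main linear lemma, `Qd(p)` form** -/
theorem qdPlane (hp : p ≠ 2) (x y : K) (hgen : Subgroup.closure {x, y} = ⊤)
    {W : Type v} [AddCommGroup W] [Module (ZMod p) W] [Finite W]
    (ρ : Representation (ZMod p) K W)
    (hx : (ρ x - 1) * (ρ x - 1) = 0) (hy : (ρ y - 1) * (ρ y - 1) = 0)
    (hnp : ¬ ∀ g : K, ∃ n : ℕ, ρ g ^ p ^ n = 1) : QdPlane ρ :=
  qdPlane_aux hp x y hgen _ W ρ rfl hx hy hnp

end qdplane2
end Cfsg.Agent.Lib.Helper7.QuadLin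

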