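import Mathlib
import Cfsg.Prelude.Def_Transfer
import Cfsg.Prelude.Def_PLocal
import Cfsg.Prelude.Def_LocalEven
import Cfsg.Agent.Lib.Helper7.Qd6
import Cfsg.Agent.Lib.Helper7.InvolvesLib
import Cfsg.Agent.Lib.Helper7.GL2p
import Cfsg.Agent.Lib.Helper7.QuadLin1
import Cfsg.Agent.Lib.Helper7.QuadLin2

set_option autoImplicit false
set_option linter.style.haveILetI false
set_option linter.unusedSectionVars false
set_option linter.unusedVariables false

open scoped commutatorElement Pointwise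

namespace Cfsg.Agent.Lib.Helper7.QuadLin
universe u

section recog
variable {X : Type u} [Group X] [Finite X] {p : ℕ} [Fact p.Prime]

theorem qd_eq_qdOver (p : ℕ) [Fact p.Prime] : Cfsg.qd p = Cfsg.qdOver (ZMod p) := rfl

/-- **Recognition of `Qd(p)`**: a normal subgroup `U ≅ 𝔽_p²` of `X` on which `X` acts through a
surjection `ρ : X → SL₂(p)` in the natural way.  Then `Qd(p)` is involved in `X`. -/
theorem involves_qd_of_natural (hp : p ≠ 2) (U : Subgroup X) [hUn : U.Normal]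
    (ρ : X →* Matrix.SpecialLinearGroup (Fin 2) (ZMod p)) (hρ : Function.Surjective ρ)
    (c : ↥U →* Multiplicative (Fin 2 → ZMod p)) (hc : Function.Bijective c)
    (hcρ : ∀ (x : X) (u : ↥U), Multiplicative.toAdd (c (MulAut.conjNormal x u)) =
      (ρ x).1.mulVec (Multiplicative.toAdd (c u))) :
    Cfsg.Involves ↥(Cfsg.qd p) X := by
  classical
  have hpp : p.Prime := Fact.out
  haveI : Fact (Even (Fintype.card (Fin 2))) := ⟨by decide⟩
  have h2 : (2 : ZMod p) ≠ 0 := by
    intro h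
    have h' : ((2 : ℕ) : ZMod p) = 0 := by exact_mod_cast h
    rw [ZMod.natCast_eq_zero_iff] at h'
    exact hp ((Nat.prime_dvd_prime_iff_eq hpp Nat.prime_two).1 h')
  -- `U` is a `p`-group
  have hUp : ∀ u : ↥U, u ^ p = 1 := by
    intro u
    apply hc.1
    rw [map_pow, map_one]
    apply Multiplicative.toAdd.injective
    rw [toAdd_pow, toAdd_one]
    funext i
    simp
  -- a 2-element `t` acting as `-1`
  obtain ⟨s, hs⟩ := hρ (-1)
  obtain ⟨a, m, hm, hn⟩ := Nat.exists_eq_two_pow_mul_odd (orderOf_pos s).ne'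
  obtain ⟨t, ht⟩ : ∃ t, t = s ^ m := ⟨_, rfl⟩
  have hρt : ρ t = -1 := by rw [ht, map_pow, hs, hm.neg_one_pow]
  have ht2 : t ^ 2 ^ a = 1 := by
    rw [ht, ← pow_mul, mul_comm, ← hn]; exact pow_orderOf_eq_one s
  -- the preimage of `⟨-1⟩`
  have hzc : ∀ g : Matrix.SpecialLinearGroup (Fin 2) (ZMod p), g * -1 = -1 * g := by
    intro g; rw [mul_neg, neg_mul, mul_one, one_mul]
  haveI hZn : (Subgroup.zpowers (-1 : Matrix.SpecialLinearGroup (Fin 2) (ZMod p))).Normal := by
    refine ⟨fun n hn g => ?_⟩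
    obtain ⟨k, rfl⟩ := Subgroup.mem_zpowers_iff.mp hn
    have : g * (-1) ^ k * g⁻¹ = ((-1 : Matrix.SpecialLinearGroup (Fin 2) (ZMod p))) ^ k := by
      have hcomm : Commute g ((-1 : Matrix.SpecialLinearGroup (Fin 2) (ZMod p)) ^ k) :=
        Commute.zpow_right (hzc g) k
      rw [hcomm.eq, mul_assoc, mul_inv_cancel, mul_one]
    rw [this]
    exact Subgroup.zpow_mem _ (Subgroup.mem_zpowers _) k
  obtain ⟨N, hN⟩ : ∃ N : Subgroup X,
    N = (Subgroup.zpowers (-1 : Matrix.SpecialLinearGroup (Fin 2) (ZMod p))).comap ρ := ⟨_, rfl⟩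
  haveI hNn : N.Normal := by rw [hN]; exact Subgroup.Normal.comap hZn ρ
  have htN : t ∈ N := by
    rw [hN, Subgroup.mem_comap, hρt]; exact Subgroup.mem_zpowers _
  haveI : Fact (Nat.Prime 2) := ⟨Nat.prime_two⟩
  have htp : IsPGroup 2 (Subgroup.zpowers (⟨t, htN⟩ : ↥N)) := by
    rintro ⟨w, hw⟩
    refine ⟨a, ?_⟩
    obtain ⟨k, rfl⟩ := Subgroup.mem_zpowers_iff.mp hw
    apply Subtype.ext
    show ((⟨t, htN⟩ : ↥N) ^ k) ^ 2 ^ a = 1
    have h1 : (⟨t, htN⟩ : ↥N) ^ 2 ^ a = 1 := by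
      apply Subtype.ext
      rw [Subgroup.coe_pow, Subgroup.coe_one]
      exact ht2
    rw [← zpow_natCast, ← zpow_mul, mul_comm, zpow_mul, zpow_natCast, h1, one_zpow]
  obtain ⟨T₂, hT₂⟩ := htp.exists_le_sylow
  obtain ⟨L, hL⟩ : ∃ L : Subgroup X,
    L = Subgroup.normalizer (((T₂ : Subgroup ↥N).map N.subtype : Subgroup X) : Set X) := ⟨_, rfl⟩
  have hfrat : L ⊔ N = ⊤ := by rw [hL]; exact Sylow.normalizer_sup_eq_top T₂
  have htT : t ∈ (T₂ : Subgroup ↥N).map N.subtype :=
    ⟨⟨t, htN⟩, hT₂ (Subgroup.mem_zpowers _), rfl⟩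
  have htL : t ∈ L := by rw [hL]; exact Subgroup.le_normalizer htT
  -- `ρ` is onto from `L`
  have hρL : ∀ A : Matrix.SpecialLinearGroup (Fin 2) (ZMod p), ∃ l ∈ L, ρ l = A := by
    intro A
    obtain ⟨x, hx⟩ := hρ A
    have hxm : x ∈ L ⊔ N := by rw [hfrat]; exact Subgroup.mem_top x
    have hxm' : x ∈ ((L ⊔ N : Subgroup X) : Set X) := hxm
    rw [Subgroup.mul_normal] at hxm'
    obtain ⟨l, hl, n, hn, rfl⟩ := Set.mem_mul.mp hxm'
    have hl : l ∈ L := hl
    have hn : n ∈ N := hn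
    rw [hN, Subgroup.mem_comap] at hn
    obtain ⟨k, hk⟩ := Subgroup.mem_zpowers_iff.mp hn
    refine ⟨l * t ^ k, L.mul_mem hl (L.zpow_mem htL k), ?_⟩
    rw [map_mul, map_zpow, hρt, hk, ← map_mul, hx]
  -- `U ∩ L = 1`
  have hT2p : IsPGroup 2 ((T₂ : Subgroup ↥N).map N.subtype) := T₂.isPGroup'.map _
  have hUL : ∀ u : X, u ∈ U → u ∈ L → u = 1 := by
    intro u huU huL
    have h1 : u * t * u⁻¹ ∈ (T₂ : Subgroup ↥N).map N.subtype := by
      rw [hL] at huL
      exact (Subgroup.mem_normalizer_iff.mp huL t).mp htT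
    have h2' : u * t * u⁻¹ * t⁻¹ ∈ (T₂ : Subgroup ↥N).map N.subtype :=
      Subgroup.mul_mem _ h1 (Subgroup.inv_mem _ htT)
    have h3 : u * t * u⁻¹ * t⁻¹ ∈ U := by
      have : u * t * u⁻¹ * t⁻¹ = u * (t * u⁻¹ * t⁻¹) := by group
      rw [this]
      exact U.mul_mem huU (hUn.conj_mem _ (U.inv_mem huU) t)
    have h4 : u * t * u⁻¹ * t⁻¹ = 1 := by
      obtain ⟨k, hk⟩ := hT2p ⟨_, h2'⟩
      have hk' : (u * t * u⁻¹ * t⁻¹) ^ 2 ^ k = 1 := by
        have := congrArg Subtype.val hk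
        rw [Subgroup.coe_pow, Subgroup.coe_one] at this
        exact this
      have hp' : (u * t * u⁻¹ * t⁻¹) ^ p = 1 := by
        have := congrArg Subtype.val (hUp ⟨_, h3⟩)
        rw [Subgroup.coe_pow, Subgroup.coe_one] at this
        exact this
      have hcop : Nat.Coprime (2 ^ k) p := by
        apply Nat.Coprime.pow_left
        rw [Nat.coprime_primes Nat.prime_two hpp]
        exact fun h => hp h.symm
      have hd1 := orderOf_dvd_of_pow_eq_one hk'
      have hd2 := orderOf_dvd_of_pow_eq_one hp'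
      have := Nat.eq_one_of_dvd_coprimes hcop hd1 hd2
      exact orderOf_eq_one_iff.mp this
    have h5 : t * u * t⁻¹ = u := by
      have : t * u * t⁻¹ = (u * t * u⁻¹ * t⁻¹)⁻¹ * u := by group
      rw [this, h4, inv_one, one_mul]
    have h6 := hcρ t ⟨u, huU⟩
    have h7 : MulAut.conjNormal t (⟨u, huU⟩ : ↥U) = ⟨u, huU⟩ := by
      apply Subtype.ext
      rw [MulAut.conjNormal_apply]
      exact h5
    rw [h7, hρt] at h6
    have h8 : Multiplicative.toAdd (c ⟨u, huU⟩) = 0 := by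
      have h9 : Multiplicative.toAdd (c ⟨u, huU⟩) = -Multiplicative.toAdd (c ⟨u, huU⟩) := by
        conv_lhs => rw [h6]
        rw [Matrix.SpecialLinearGroup.coe_neg, Matrix.SpecialLinearGroup.coe_one, Matrix.neg_mulVec,
          Matrix.one_mulVec]
      funext i
      have := congrFun h9 i
      rw [Pi.neg_apply] at this
      have h10 : (2 : ZMod p) * Multiplicative.toAdd (c ⟨u, huU⟩) i = 0 := by
        rw [two_mul]
        nth_rewrite 1 [this]
        exact neg_add_cancel _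
      rcases mul_eq_zero.mp h10 with h | h
      · exact absurd h h2
      · exact h
    have h11 : c ⟨u, huU⟩ = 1 := by
      apply Multiplicative.toAdd.injective
      rw [h8]; rfl
    have h12 : (⟨u, huU⟩ : ↥U) = 1 := hc.1 (by rw [h11, map_one])
    exact congrArg Subtype.val h12
  -- the semidirect product
  have hLn : L ≤ Subgroup.normalizer (U : Set X) := by
    rw [Subgroup.normalizer_eq_top]; exact le_top
  obtain ⟨ι, hι⟩ : ∃ ι : ↥U ⋊[(U.normalizerMonoidHom).comp (Subgroup.inclusion hLn)] ↥L →* X,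
    ι = SemidirectProduct.monoidHomSubgroup hLn := ⟨_, rfl⟩
  have hιapp : ∀ y, ι y = (y.left : X) * (y.right : X) := by
    intro y; rw [hι]; rfl
  have hιinj : Function.Injective ι := by
    rw [injective_iff_map_eq_one]
    intro y hy
    rw [hιapp] at hy
    have h1 : (y.left : X) = ((y.right : X))⁻¹ := eq_inv_of_mul_eq_one_left hy
    have h2' : (y.left : X) ∈ L := by rw [h1]; exact L.inv_mem y.right.2
    have h3 := hUL _ y.left.2 h2'
    have h4 : (y.right : X) = 1 := by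
      rw [h3, one_mul] at hy; exact hy
    ext
    · rw [SemidirectProduct.one_left]; exact h3
    · rw [SemidirectProduct.one_right]; exact h4
  -- the map to `Qd(p)`
  have hcompat : ∀ g : ↥L,
      ((translHom (K := ZMod p)).comp c).comp
        (((U.normalizerMonoidHom).comp (Subgroup.inclusion hLn)) g).toMonoidHom =
      (MulAut.conj (((diagHom (K := ZMod p)).comp (ρ.comp L.subtype)) g)).toMonoidHom.comp
        ((translHom (K := ZMod p)).comp c) := by
    intro g
    apply MonoidHom.ext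
    intro u
    have h1 : (((U.normalizerMonoidHom).comp (Subgroup.inclusion hLn)) g) u =
        MulAut.conjNormal (g : X) u := by
      apply Subtype.ext
      rfl
    show translHom (c ((((U.normalizerMonoidHom).comp (Subgroup.inclusion hLn)) g) u)) =
      diagHom (ρ (g : X)) * translHom (c u) * (diagHom (ρ (g : X)))⁻¹
    rw [h1]
    show aff 1 (Multiplicative.toAdd (c (MulAut.conjNormal (g : X) u))) =
      diagHom (ρ (g : X)) * aff 1 (Multiplicative.toAdd (c u)) * (diagHom (ρ (g : X)))⁻¹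
    rw [diag_conj_transl, hcρ]
  obtain ⟨Θ, hΘ⟩ : ∃ Θ : ↥U ⋊[(U.normalizerMonoidHom).comp (Subgroup.inclusion hLn)] ↥L →*
      ↥(Cfsg.qdOver (ZMod p)),
    Θ = SemidirectProduct.lift ((translHom (K := ZMod p)).comp c)
      ((diagHom (K := ZMod p)).comp (ρ.comp L.subtype)) hcompat := ⟨_, rfl⟩
  have hΘs : Function.Surjective Θ := by
    intro q
    rw [eq_aff q]
    obtain ⟨l, hl, hlA⟩ := hρL (block q)
    obtain ⟨u, hu⟩ := hc.2 (Multiplicative.ofAdd (col q))
    refine ⟨SemidirectProduct.inl u * SemidirectProduct.inr ⟨l, hl⟩, ?_⟩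
    rw [hΘ, map_mul, SemidirectProduct.lift_inl, SemidirectProduct.lift_inr]
    show translHom (c u) * diagHom (ρ l) = _
    rw [hu, hlA]
    show aff 1 (col q) * aff (block q) 0 = _
    rw [aff_mul]
    congr 1
    · exact one_mul _
    · simp
  have hinv : Cfsg.Involves ↥(Cfsg.qd p)
      (↥U ⋊[(U.normalizerMonoidHom).comp (Subgroup.inclusion hLn)] ↥L) := by
    rw [Cfsg.Agent.Lib.Helper7.involves_iff_exists_surjective]
    refine ⟨⊤, Θ.comp (Subgroup.topEquiv).toMonoidHom, ?_⟩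
    exact hΘs.comp (Subgroup.topEquiv).surjective
  exact Cfsg.Agent.Lib.Helper7.involves_of_injective ι hιinj hinv

end recog
end Cfsg.Agent.Lib.Helper7.QuadLin


namespace Cfsg.Agent.Lib.Helper7.QuadLin
universe u v

section recog2
variable {X : Type u} [Group X] [Finite X] {p : ℕ} [Fact p.Prime]
variable {W : Type v} [AddCommGroup W] [Module (ZMod p) W]

/-- **Recognition of `Qd(p)`, representation form**: `U ⊴ X` is identified by `θ` with a
two-dimensional module `W` on which `X` acts by conjugation; two elements of order `p` on `W`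
generating different subgroups. -/
theorem involves_qd_of_rep (hp : p ≠ 2) (U : Subgroup X) [hUn : U.Normal]
    (hW : Nat.card W = p ^ 2) (ρ : Representation (ZMod p) X W) (θ : W → X)
    (hθi : Function.Injective θ) (hθr : Set.range θ = (U : Set X))
    (hθa : ∀ w w', θ (w + w') = θ w * θ w')
    (hθρ : ∀ (g : X) (w : W), θ (ρ g w) = g * θ w * g⁻¹)
    (x y : X) (hx : ρ x ^ p = 1) (hy : ρ y ^ p = 1) (w₀ : W) (hxw : ρ x w₀ = w₀)
    (hyw : ρ y w₀ ≠ w₀) (hx1 : ρ x ≠ 1) :
    Cfsg.Involves ↥(Cfsg.qd p) X := by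
  classical
  have hpp : p.Prime := Fact.out
  haveI : Finite W := Nat.finite_of_card_ne_zero (by rw [hW]; exact (pow_pos hpp.pos 2).ne')
  have hfr : Module.finrank (ZMod p) W = 2 := by
    have h1 := Module.natCard_eq_pow_finrank (K := ZMod p) (V := W)
    rw [hW, Nat.card_zmod] at h1
    exact (Nat.pow_right_injective hpp.two_le h1).symm
  obtain ⟨b⟩ : Nonempty (Module.Basis (Fin 2) (ZMod p) W) := ⟨Module.finBasisOfFinrankEq _ _ hfr⟩
  let M₀ : X →* Matrix (Fin 2) (Fin 2) (ZMod p) :=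
    { toFun := fun g => LinearMap.toMatrix b b (ρ g)
      map_one' := by rw [map_one, LinearMap.toMatrix_one]
      map_mul' := fun g h => by rw [map_mul, LinearMap.toMatrix_mul] }
  have hM₀ : ∀ g, M₀ g = LinearMap.toMatrix b b (ρ g) := fun g => rfl
  obtain ⟨M, hM⟩ : ∃ M : X →* GL (Fin 2) (ZMod p), M = M₀.toHomUnits := ⟨_, rfl⟩
  have hMv : ∀ g, ((M g : GL (Fin 2) (ZMod p)) : Matrix (Fin 2) (Fin 2) (ZMod p)) =
      LinearMap.toMatrix b b (ρ g) := by
    intro g; rw [hM]; rfl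
  have hM1 : ∀ g, M g = 1 ↔ ρ g = 1 := by
    intro g
    constructor
    · intro h
      have h1 : LinearMap.toMatrix b b (ρ g) = 1 := by rw [← hMv, h]; rfl
      rw [← LinearMap.toMatrix_one b] at h1
      exact (LinearMap.toMatrix b b).injective h1
    · intro h
      apply Units.ext
      rw [hMv, h, LinearMap.toMatrix_one]; rfl
  -- elements of `U` act trivially
  have hθsub : ∀ w w', θ (w - w') = θ w * (θ w')⁻¹ := by
    intro w w'
    rw [eq_mul_inv_iff_mul_eq, ← hθa, sub_add_cancel]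
  have hUtriv : ∀ u ∈ U, ρ u = 1 := by
    intro u hu
    have hu' : u ∈ Set.range θ := by rw [hθr]; exact hu
    obtain ⟨w', rfl⟩ := hu'
    apply LinearMap.ext; intro w
    apply hθi
    rw [hθρ, Module.End.one_apply, ← hθa, add_comm, hθa, mul_inv_cancel_right]
  -- the determinant one part
  obtain ⟨X₁, hX₁⟩ : ∃ X₁ : Subgroup X, X₁ =
      ((Matrix.SpecialLinearGroup.toGL :
        Matrix.SpecialLinearGroup (Fin 2) (ZMod p) →* GL (Fin 2) (ZMod p)).range).comap M :=
    ⟨_, rfl⟩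
  have hmemX₁ : ∀ g, g ∈ X₁ ↔ (LinearMap.toMatrix b b (ρ g)).det = 1 := by
    intro g
    rw [hX₁, Subgroup.mem_comap, Cfsg.Agent.Lib.Helper7.mem_range_toGL_iff, ← hMv]
    constructor
    · intro h
      have := congrArg Units.val h
      simpa using this
    · intro h
      apply Units.ext
      simpa using h
  have hUX₁ : U ≤ X₁ := by
    intro u hu
    rw [hmemX₁, hUtriv u hu, LinearMap.toMatrix_one, Matrix.det_one]
  let ρ₁ : ↥X₁ →* Matrix.SpecialLinearGroup (Fin 2) (ZMod p) :=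
    { toFun := fun g => ⟨LinearMap.toMatrix b b (ρ (g : X)), (hmemX₁ _).1 g.2⟩
      map_one' := by
        apply Subtype.ext
        show LinearMap.toMatrix b b (ρ ((1 : ↥X₁) : X)) = 1
        rw [Subgroup.coe_one, map_one, LinearMap.toMatrix_one]
      map_mul' := fun g h => by
        apply Subtype.ext
        show LinearMap.toMatrix b b (ρ ((g * h : ↥X₁) : X)) =
          LinearMap.toMatrix b b (ρ (g : X)) * LinearMap.toMatrix b b (ρ (h : X))
        rw [Subgroup.coe_mul, map_mul, LinearMap.toMatrix_mul] }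
  have hρ₁ : ∀ g : ↥X₁, (ρ₁ g).1 = LinearMap.toMatrix b b (ρ (g : X)) := fun g => rfl
  -- orders of the images of `x`, `y`
  have hMpow : ∀ g : X, ρ g ^ p = 1 → M g ^ p = 1 := by
    intro g hg
    rw [← map_pow, hM1, map_pow, hg]
  have hy1 : ρ y ≠ 1 := by
    intro h
    apply hyw
    rw [h, Module.End.one_apply]
  have hMx1 : M x ≠ 1 := fun h => hx1 ((hM1 x).1 h)
  have hMy1 : M y ≠ 1 := fun h => hy1 ((hM1 y).1 h)
  have hcx : Nat.card (Subgroup.zpowers (M x)) = p := by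
    rw [Nat.card_zpowers]; exact orderOf_eq_prime (hMpow x hx) hMx1
  have hcy : Nat.card (Subgroup.zpowers (M y)) = p := by
    rw [Nat.card_zpowers]; exact orderOf_eq_prime (hMpow y hy) hMy1
  let St : Subgroup X :=
    { carrier := {g | ρ g w₀ = w₀}
      one_mem' := by show ρ 1 w₀ = w₀; rw [map_one, Module.End.one_apply]
      mul_mem' := by
        intro g h hg hh
        show ρ (g * h) w₀ = w₀
        rw [map_mul, Module.End.mul_apply, hh, hg]
      inv_mem' := by
        intro g hg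
        show ρ g⁻¹ w₀ = w₀
        have h1 : ρ g⁻¹ (ρ g w₀) = w₀ := by
          rw [← Module.End.mul_apply, ← map_mul, inv_mul_cancel, map_one, Module.End.one_apply]
        rw [hg] at h1; exact h1 }
  have hxSt : x ∈ St := hxw
  have hne : Subgroup.zpowers (M x) ≠ Subgroup.zpowers (M y) := by
    intro h
    have h1 : M y ∈ Subgroup.zpowers (M x) := by rw [h]; exact Subgroup.mem_zpowers _
    obtain ⟨k, hk⟩ := Subgroup.mem_zpowers_iff.mp h1
    rw [← map_zpow] at hk
    have h2 : M (y * (x ^ k)⁻¹) = 1 := by rw [map_mul, map_inv, hk, mul_inv_cancel]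
    rw [hM1] at h2
    have h3 : ρ y = ρ (x ^ k) := by
      have : y = y * (x ^ k)⁻¹ * x ^ k := by group
      conv_lhs => rw [this, map_mul, h2, one_mul]
    have h4 : x ^ k ∈ St := St.zpow_mem hxSt k
    apply hyw
    rw [h3]; exact h4
  have hsup := Cfsg.Agent.Lib.Helper7.range_toGL_le_sup p _ _ hcx hcy hne
  have hxX₁ : x ∈ X₁ := by
    rw [hX₁, Subgroup.mem_comap, Cfsg.Agent.Lib.Helper7.mem_range_toGL_iff]
    exact Cfsg.Agent.Lib.Helper7.det_eq_one_of_pow_p p _ (hMpow x hx)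
  have hyX₁ : y ∈ X₁ := by
    rw [hX₁, Subgroup.mem_comap, Cfsg.Agent.Lib.Helper7.mem_range_toGL_iff]
    exact Cfsg.Agent.Lib.Helper7.det_eq_one_of_pow_p p _ (hMpow y hy)
  have hclX₁ : Subgroup.closure {x, y} ≤ X₁ := by
    rw [Subgroup.closure_le]
    intro z hz
    rcases hz with rfl | hz
    · exact hxX₁
    · rw [Set.mem_singleton_iff] at hz; subst hz; exact hyX₁
  have hρ₁s : Function.Surjective ρ₁ := by
    intro s
    have h1 : Matrix.SpecialLinearGroup.toGL s ∈
        Subgroup.zpowers (M x) ⊔ Subgroup.zpowers (M y) := hsup ⟨s, rfl⟩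
    have h2 : Subgroup.zpowers (M x) ⊔ Subgroup.zpowers (M y) ≤
        (Subgroup.closure {x, y}).map M := by
      apply sup_le
      · rw [Subgroup.zpowers_le]
        exact ⟨x, Subgroup.subset_closure (Set.mem_insert _ _), rfl⟩
      · rw [Subgroup.zpowers_le]
        exact ⟨y, Subgroup.subset_closure (Set.mem_insert_of_mem _ rfl), rfl⟩
    obtain ⟨g, hg, hgs⟩ := h2 h1
    refine ⟨⟨g, hclX₁ hg⟩, ?_⟩
    apply Subtype.ext
    rw [hρ₁, ← hMv, hgs]
    rfl
  -- the coordinate map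
  have hθU : ∀ w, θ w ∈ U := by
    intro w
    have : θ w ∈ Set.range θ := ⟨w, rfl⟩
    rw [hθr] at this; exact this
  have hθs : ∀ u ∈ U, ∃ w, θ w = u := by
    intro u hu
    have : u ∈ Set.range θ := by rw [hθr]; exact hu
    exact this
  choose! κ hκ using hθs
  have hκθ : ∀ w, κ (θ w) = w := fun w => hθi (hκ _ (hθU w))
  have hθ0 : θ 0 = 1 := by
    have := hθa 0 0
    rw [add_zero] at this
    exact (mul_eq_left.mp this.symm)
  obtain ⟨U', hU'⟩ : ∃ U' : Subgroup ↥X₁, U' = U.subgroupOf X₁ := ⟨_, rfl⟩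
  haveI hU'n : U'.Normal := by rw [hU']; infer_instance
  have hU'mem : ∀ u : ↥U', ((u : ↥X₁) : X) ∈ U := by
    rw [hU']
    intro u
    exact Subgroup.mem_subgroupOf.mp u.2
  let c : ↥U' →* Multiplicative (Fin 2 → ZMod p) :=
    { toFun := fun u => Multiplicative.ofAdd (b.equivFun (κ ((u : ↥X₁) : X)))
      map_one' := by
        show Multiplicative.ofAdd (b.equivFun (κ (((1 : ↥U') : ↥X₁) : X))) = 1
        rw [Subgroup.coe_one, Subgroup.coe_one, ← hθ0, hκθ, map_zero]; rfl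
      map_mul' := by
        intro u u'
        show Multiplicative.ofAdd (b.equivFun (κ (((u * u' : ↥U') : ↥X₁) : X))) =
          Multiplicative.ofAdd (b.equivFun (κ ((u : ↥X₁) : X))) *
            Multiplicative.ofAdd (b.equivFun (κ ((u' : ↥X₁) : X)))
        rw [← ofAdd_add, ← map_add]
        congr 2
        apply hθi
        rw [Subgroup.coe_mul, Subgroup.coe_mul, hθa, hκ _ (hU'mem u), hκ _ (hU'mem u'),
          hκ _ (U.mul_mem (hU'mem u) (hU'mem u'))] }
  have hcdef : ∀ u : ↥U', Multiplicative.toAdd (c u) = b.equivFun (κ ((u : ↥X₁) : X)) :=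
    fun u => rfl
  have hcb : Function.Bijective c := by
    constructor
    · intro u u' h
      have h1 : b.equivFun (κ ((u : ↥X₁) : X)) = b.equivFun (κ ((u' : ↥X₁) : X)) := by
        rw [← hcdef, ← hcdef, h]
      have h2 := b.equivFun.injective h1
      apply Subtype.ext
      apply Subtype.ext
      rw [← hκ _ (hU'mem u), ← hκ _ (hU'mem u'), h2]
    · intro f
      obtain ⟨w, hw⟩ : ∃ w, w = b.equivFun.symm (Multiplicative.toAdd f) := ⟨_, rfl⟩
      have hmem : (⟨θ w, hUX₁ (hθU w)⟩ : ↥X₁) ∈ U' := by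
        rw [hU', Subgroup.mem_subgroupOf]; exact hθU w
      refine ⟨⟨⟨θ w, hUX₁ (hθU w)⟩, hmem⟩, ?_⟩
      apply Multiplicative.toAdd.injective
      rw [hcdef]
      show b.equivFun (κ (θ w)) = _
      rw [hκθ, hw, LinearEquiv.apply_symm_apply]
  have hcρ : ∀ (g : ↥X₁) (u : ↥U'), Multiplicative.toAdd (c (MulAut.conjNormal g u)) =
      (ρ₁ g).1.mulVec (Multiplicative.toAdd (c u)) := by
    intro g u
    rw [hcdef, hcdef, hρ₁, MulAut.conjNormal_apply, Subgroup.coe_mul, Subgroup.coe_mul,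
      Subgroup.coe_inv]
    have h1 : κ ((g : X) * ((u : ↥X₁) : X) * (g : X)⁻¹) = ρ (g : X) (κ ((u : ↥X₁) : X)) := by
      apply hθi
      rw [hθρ, hκ _ (hU'mem u), hκ]
      exact hUn.conj_mem _ (hU'mem u) _
    rw [h1]
    have h2 := LinearMap.toMatrix_mulVec_repr b b (ρ (g : X)) (κ ((u : ↥X₁) : X))
    exact h2.symm
  have hinv := involves_qd_of_natural hp U' ρ₁ hρ₁s c hcb hcρ
  exact Cfsg.Agent.Lib.Helper7.involves_of_injective X₁.subtype X₁.subtype_injective hinv

end recog2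
end Cfsg.Agent.Lib.Helper7.QuadLin


namespace Cfsg.Agent.Lib.Helper7.QuadLin
universe u

section bridge2
variable {G : Type u} [Group G] {p : ℕ} [Fact p.Prime]

/-- the conjugation representation together with the dictionary `θ : W → G` onto `V` -/
theorem exists_rep_dict [Finite G] (V H : Subgroup G) (hV : Cfsg.IsElementaryAbelian p V)
    (hHV : H ≤ Subgroup.normalizer (V : Set G)) :
    ∃ (W : Type u) (_ : AddCommGroup W) (_ : Module (ZMod p) W) (_ : Finite W)
      (ρ : Representation (ZMod p) ↥H W) (θ : W → G),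
      Function.Injective θ ∧ Set.range θ = (V : Set G) ∧ (∀ w w', θ (w + w') = θ w * θ w') ∧
      (∀ (h : ↥H) (w : W), θ (ρ h w) = (h : G) * θ w * (h : G)⁻¹) ∧
      (∀ a : ↥H, ⁅⁅V, Subgroup.zpowers (a : G)⁆, Subgroup.zpowers (a : G)⁆ = ⊥ →
        (ρ a - 1) * (ρ a - 1) = 0) := by
  classical
  letI : CommGroup ↥V := { (inferInstance : Group ↥V) with mul_comm := hV.1.is_comm.comm }
  have hpA : ∀ x : Additive ↥V, p • x = 0 := by
    intro x
    have h1 : (Additive.toMul x : ↥V) ^ p = 1 := by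
      apply Subtype.ext
      rw [Subgroup.coe_pow, Subgroup.coe_one]
      exact hV.2 _ (Additive.toMul x).2
    exact congrArg Additive.ofMul h1
  letI : Module (ZMod p) (Additive ↥V) := by exact AddCommGroup.zmodModule hpA
  haveI : Finite (Additive ↥V) := inferInstanceAs (Finite ↥V)
  let c : ↥H →* MulAut ↥V := (V.normalizerMonoidHom).comp (Subgroup.inclusion hHV)
  let lin : MulAut ↥V →* Module.End (ZMod p) (Additive ↥V) :=
    { toFun := fun σ => (MonoidHom.toAdditive σ.toMonoidHom).toZModLinearMap p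
      map_one' := by
        apply LinearMap.ext; intro v
        rfl
      map_mul' := by
        intro σ τ; apply LinearMap.ext; intro v
        rfl }
  let ρ₀ : ↥H →* Module.End (ZMod p) (Additive ↥V) := lin.comp c
  have hρ₀ : ∀ (h : ↥H) (v : Additive ↥V),
      ((Additive.toMul (ρ₀ h v) : ↥V) : G) = (h : G) * (Additive.toMul v : ↥V) * (h : G)⁻¹ :=
    fun h v => rfl
  refine ⟨Additive ↥V, inferInstance, inferInstance, inferInstance, ρ₀,
    fun w => ((Additive.toMul w : ↥V) : G), ?_, ?_, ?_, ?_, ?_⟩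
  · intro w w' h
    exact Additive.toMul.injective (Subtype.ext h)
  · ext g
    constructor
    · rintro ⟨w, rfl⟩
      exact (Additive.toMul w : ↥V).2
    · intro hg
      exact ⟨Additive.ofMul ⟨g, hg⟩, rfl⟩
  · intro w w'
    rfl
  · intro h w
    exact hρ₀ h w
  · intro a hq
    apply LinearMap.ext
    intro v
    have hd : ∀ u : Additive ↥V, ((Additive.toMul ((ρ₀ a - 1) u) : ↥V) : G) =
        (a : G) * (Additive.toMul u : ↥V) * (a : G)⁻¹ * ((Additive.toMul u : ↥V) : G)⁻¹ := by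
      intro u
      rw [LinearMap.sub_apply, Module.End.one_apply, toMul_sub, Subgroup.coe_div, hρ₀, div_eq_mul_inv]
    rw [Module.End.mul_apply, LinearMap.zero_apply]
    apply Additive.toMul.injective
    apply Subtype.ext
    rw [hd, hd]
    have h1 := quad_comm_aux hq (Additive.toMul v : ↥V).2
    show (a : G) * ((a : G) * (Additive.toMul v : ↥V) * (a : G)⁻¹ * ((Additive.toMul v : ↥V) : G)⁻¹) *
      (a : G)⁻¹ * ((a : G) * (Additive.toMul v : ↥V) * (a : G)⁻¹ * ((Additive.toMul v : ↥V) : G)⁻¹)⁻¹ = 1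
    rw [h1]
    group

end bridge2
end Cfsg.Agent.Lib.Helper7.QuadLin


namespace Cfsg.Agent.Lib.Helper7.QuadLin
universe u

section plane
variable {G : Type u} [Group G] [Finite G] {p : ℕ} [Fact p.Prime]

/-- dictionary: `θ (ρ h w - w) = ⁅h, θ w⁆` -/
theorem dict_comm {H : Type*} [Group H] {W : Type*} [AddCommGroup W] [Module (ZMod p) W]
    (ρ : Representation (ZMod p) H W) (ι : H → G) (θ : W → G)
    (hθa : ∀ w w', θ (w + w') = θ w * θ w')
    (hθρ : ∀ (h : H) (w : W), θ (ρ h w) = ι h * θ w * (ι h)⁻¹) (h : H) (w : W) :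
    θ ((ρ h - 1) w) = ⁅ι h, θ w⁆ := by
  rw [LinearMap.sub_apply, Module.End.one_apply, commutatorElement_def, ← hθρ,
    eq_mul_inv_iff_mul_eq, ← hθa, sub_add_cancel]

/-- **Recognition of `Qd(p)`, group form**: an elementary abelian subgroup `U` of order `p²`
and two elements of its normalizer acting quadratically and "independently". -/
theorem involves_qd_of_plane (hp : p ≠ 2) (U : Subgroup G)
    (hU : Cfsg.IsElementaryAbelian p U) (hcard : Nat.card U = p ^ 2) (x y : G)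
    (hx : x ∈ Subgroup.normalizer (U : Set G)) (hy : y ∈ Subgroup.normalizer (U : Set G))
    (hxq : ∀ u ∈ U, ⁅x, ⁅x, u⁆⁆ = 1) (hyq : ∀ u ∈ U, ⁅y, ⁅y, u⁆⁆ = 1)
    (u₀ : G) (hu₀ : u₀ ∈ U) (h1 : ⁅x, u₀⁆ = 1) (h2 : ⁅y, u₀⁆ ≠ 1) (h3 : ∃ u ∈ U, ⁅x, u⁆ ≠ 1) :
    Cfsg.Involves ↥(Cfsg.qd p) G := by
  classical
  obtain ⟨Y, hY⟩ : ∃ Y : Subgroup G, Y = Subgroup.normalizer (U : Set G) := ⟨_, rfl⟩
  rw [← hY] at hx hy
  obtain ⟨W, iA, iM, iF, ρ, θ, hθi, hθr, hθa, hθρ, -⟩ :=
    exists_rep_dict (p := p) U Y hU hY.le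
  have hUY : U ≤ Y := by rw [hY]; exact Subgroup.le_normalizer
  have hθU : ∀ w, θ w ∈ U := by
    intro w
    have : θ w ∈ Set.range θ := ⟨w, rfl⟩
    rw [hθr] at this; exact this
  haveI hUXn : (U.subgroupOf Y).Normal := by
    rw [hY]; exact Subgroup.normal_in_normalizer
  obtain ⟨θ', hθ'⟩ : ∃ θ' : W → ↥Y, θ' = fun w => ⟨θ w, hUY (hθU w)⟩ := ⟨_, rfl⟩
  have hθ'v : ∀ w, ((θ' w : ↥Y) : G) = θ w := by intro w; rw [hθ']
  have hθ'i : Function.Injective θ' := by
    intro w w' h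
    apply hθi
    rw [← hθ'v, ← hθ'v, h]
  have hθ'r : Set.range θ' = ((U.subgroupOf Y : Subgroup ↥Y) : Set ↥Y) := by
    ext g
    constructor
    · rintro ⟨w, rfl⟩
      show θ' w ∈ U.subgroupOf Y
      rw [Subgroup.mem_subgroupOf, hθ'v]; exact hθU w
    · intro hg
      have hg' : (g : G) ∈ U := Subgroup.mem_subgroupOf.mp hg
      have : (g : G) ∈ Set.range θ := by rw [hθr]; exact hg'
      obtain ⟨w, hw⟩ := this
      exact ⟨w, Subtype.ext (by rw [hθ'v, hw])⟩
  have hθ'a : ∀ w w', θ' (w + w') = θ' w * θ' w' := by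
    intro w w'
    apply Subtype.ext
    rw [Subgroup.coe_mul, hθ'v, hθ'v, hθ'v, hθa]
  have hθ'ρ : ∀ (g : ↥Y) (w : W), θ' (ρ g w) = g * θ' w * g⁻¹ := by
    intro g w
    apply Subtype.ext
    rw [Subgroup.coe_mul, Subgroup.coe_mul, Subgroup.coe_inv, hθ'v, hθ'v, hθρ]
  have hW : Nat.card W = p ^ 2 := by
    rw [← hcard, ← Nat.card_range_of_injective hθi, hθr]; rfl
  have hdict : ∀ (h : ↥Y) (w : W), θ ((ρ h - 1) w) = ⁅(h : G), θ w⁆ :=
    fun h w => dict_comm ρ (fun h : ↥Y => (h : G)) θ hθa hθρ h w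
  have hθ0 : θ 0 = 1 := by
    have := hθa 0 0
    rw [add_zero] at this
    exact (mul_eq_left.mp this.symm)
  have hquad : ∀ z : ↥Y, (∀ u ∈ U, ⁅(z : G), ⁅(z : G), u⁆⁆ = 1) → (ρ z - 1) * (ρ z - 1) = 0 := by
    intro z hz
    apply LinearMap.ext; intro w
    apply hθi
    rw [Module.End.mul_apply, hdict, hdict, LinearMap.zero_apply, hθ0]
    exact hz _ (hθU w)
  have hxp : ρ ⟨x, hx⟩ ^ p = 1 := rho_pow_char (p := p) ρ _ (hquad ⟨x, hx⟩ hxq)
  have hyp : ρ ⟨y, hy⟩ ^ p = 1 := rho_pow_char (p := p) ρ _ (hquad ⟨y, hy⟩ hyq)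
  have hpre : ∀ u ∈ U, ∃ w, θ w = u := by
    intro u hu
    have : u ∈ Set.range θ := by rw [hθr]; exact hu
    exact this
  obtain ⟨w₀, hw₀⟩ := hpre u₀ hu₀
  have hfix : ∀ (z : ↥Y) (w : W), ρ z w = w ↔ ⁅(z : G), θ w⁆ = 1 := by
    intro z w
    rw [← hdict, ← hθ0, hθi.eq_iff, LinearMap.sub_apply, Module.End.one_apply, sub_eq_zero]
  have hxw : ρ ⟨x, hx⟩ w₀ = w₀ := by rw [hfix, hw₀]; exact h1
  have hyw : ρ ⟨y, hy⟩ w₀ ≠ w₀ := by rw [Ne, hfix, hw₀]; exact h2
  have hx1 : ρ ⟨x, hx⟩ ≠ 1 := by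
    intro h
    obtain ⟨u, hu, hne⟩ := h3
    obtain ⟨w, hw⟩ := hpre u hu
    apply hne
    have := (hfix ⟨x, hx⟩ w).1 (by rw [h, Module.End.one_apply])
    rw [hw] at this; exact this
  have hinv := involves_qd_of_rep hp (U.subgroupOf Y) hW ρ θ' hθ'i hθ'r hθ'a hθ'ρ
    ⟨x, hx⟩ ⟨y, hy⟩ hxp hyp w₀ hxw hyw hx1
  exact Cfsg.Agent.Lib.Helper7.involves_of_injective Y.subtype Y.subtype_injective hinv

end plane
end Cfsg.Agent.Lib.Helper7.QuadLin

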