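import Mathlib
import Cfsg.Prelude.Def_Transfer
import Cfsg.Prelude.Def_PLocal
import Cfsg.Prelude.Def_LocalEven
import Cfsg.Agent.Lib.Helper7.QuadLin3
import Cfsg.Agent.Lib.Helper7.QuadQdA
import Cfsg.Agent.Lib.Helper7.QuadQdB

set_option autoImplicit false
set_option linter.style.haveILetI false
set_option linter.unusedSectionVars false
set_option linter.unusedVariables false

open scoped commutatorElement Pointwise

namespace Cfsg.Agent.Lib.Helper7.QuadLin
universe u v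

section final
variable {G : Type u} [Group G] {p : ℕ} [Fact p.Prime]
variable {W : Type v} [AddCommGroup W] [Module (ZMod p) W]

/-- image of a submodule under an additive-to-multiplicative map -/
def imgSub (θ : W → G) (hθa : ∀ w w', θ (w + w') = θ w * θ w') (S : Submodule (ZMod p) W) :
    Subgroup G where
  carrier := θ '' (S : Set W)
  mul_mem' := by
    rintro _ _ ⟨a, ha, rfl⟩ ⟨b, hb, rfl⟩
    exact ⟨a + b, S.add_mem ha hb, hθa a b⟩
  one_mem' := by
    refine ⟨0, S.zero_mem, ?_⟩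
    have := hθa 0 0
    rw [add_zero] at this
    exact (mul_eq_left.mp this.symm)
  inv_mem' := by
    rintro _ ⟨a, ha, rfl⟩
    refine ⟨-a, S.neg_mem ha, ?_⟩
    have h0 : θ 0 = 1 := by
      have := hθa 0 0
      rw [add_zero] at this
      exact (mul_eq_left.mp this.symm)
    have := hθa (-a) a
    rw [neg_add_cancel, h0] at this
    exact eq_inv_of_mul_eq_one_left this.symm

theorem mem_imgSub (θ : W → G) (hθa : ∀ w w', θ (w + w') = θ w * θ w')
    (S : Submodule (ZMod p) W) (g : G) : g ∈ imgSub θ hθa S ↔ ∃ n ∈ S, θ n = g := Iff.rfl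

theorem apply_mem_imgSub (θ : W → G) (hθa : ∀ w w', θ (w + w') = θ w * θ w')
    (hθi : Function.Injective θ) (S : Submodule (ZMod p) W) (n : W) :
    θ n ∈ imgSub θ hθa S ↔ n ∈ S := by
  rw [mem_imgSub]
  constructor
  · rintro ⟨m, hm, hmn⟩
    rw [← hθi hmn]; exact hm
  · intro hn; exact ⟨n, hn, rfl⟩

theorem card_imgSub (θ : W → G) (hθa : ∀ w w', θ (w + w') = θ w * θ w')
    (hθi : Function.Injective θ) (S : Submodule (ZMod p) W) :
    Nat.card (imgSub θ hθa S) = Nat.card S :=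
  Nat.card_image_of_injective hθi (S : Set W)

/-- invariance under an element of a finite group gives invariance under its inverse -/
theorem inv_invariant {K : Type*} [Group K] [Finite K] (ρ : Representation (ZMod p) K W)
    (S : Submodule (ZMod p) W) (x : K) (hx : ∀ n ∈ S, ρ x n ∈ S) : ∀ n ∈ S, ρ x⁻¹ n ∈ S := by
  have hpow : ∀ k : ℕ, ∀ n ∈ S, ρ (x ^ k) n ∈ S := by
    intro k
    induction k with
    | zero => intro n hn; rw [pow_zero, map_one, Module.End.one_apply]; exact hn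
    | succ k ih =>
      intro n hn
      rw [pow_succ, map_mul, Module.End.mul_apply]
      exact ih _ (hx n hn)
  have hinv : x⁻¹ = x ^ (orderOf x - 1) := by
    apply inv_eq_of_mul_eq_one_right
    rw [← pow_succ', Nat.sub_add_cancel (orderOf_pos x), pow_orderOf_eq_one]
  rw [hinv]
  exact hpow _

theorem involves_qd_of_qdPlane [Finite G] (hp : p ≠ 2) (V H : Subgroup G)
    (hV : Cfsg.IsElementaryAbelian p V)
    (ρ : Representation (ZMod p) ↥H W) (θ : W → G) (hθi : Function.Injective θ)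
    (hθr : Set.range θ = (V : Set G)) (hθa : ∀ w w', θ (w + w') = θ w * θ w')
    (hθρ : ∀ (h : ↥H) (w : W), θ (ρ h w) = (h : G) * θ w * (h : G)⁻¹)
    (hpl : QdPlane ρ) : Cfsg.Involves ↥(Cfsg.qd p) G := by
  classical
  obtain ⟨x, y, N', N, w, hle, hxN, hyN, hxN', hyN', hcard, hxq, hyq, hw, h1, h2, h3⟩ := hpl
  have hθV : ∀ n, θ n ∈ V := by
    intro n
    have : θ n ∈ Set.range θ := ⟨n, rfl⟩
    rw [hθr] at this; exact this
  have hdict : ∀ (h : ↥H) (n : W), θ ((ρ h - 1) n) = ⁅(h : G), θ n⁆ :=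
    fun h n => dict_comm ρ (fun h : ↥H => (h : G)) θ hθa hθρ h n
  have hcomm : ∀ n m, θ n * θ m = θ m * θ n := by
    intro n m; rw [← hθa, ← hθa, add_comm]
  obtain ⟨U', hU'⟩ : ∃ U' : Subgroup G, U' = imgSub θ hθa N' := ⟨_, rfl⟩
  obtain ⟨U, hU⟩ : ∃ U : Subgroup G, U = imgSub θ hθa N := ⟨_, rfl⟩
  have hmemU : ∀ n, θ n ∈ U ↔ n ∈ N := by rw [hU]; exact apply_mem_imgSub θ hθa hθi N
  have hmemU' : ∀ n, θ n ∈ U' ↔ n ∈ N' := by rw [hU']; exact apply_mem_imgSub θ hθa hθi N'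
  have hexU : ∀ g ∈ U, ∃ n ∈ N, θ n = g := by rw [hU]; exact fun g hg => hg
  have hexU' : ∀ g ∈ U', ∃ n ∈ N', θ n = g := by rw [hU']; exact fun g hg => hg
  -- normalizers
  have hnorm : ∀ (S : Submodule (ZMod p) W) (z : ↥H), (∀ n ∈ S, ρ z n ∈ S) →
      (z : G) ∈ Subgroup.normalizer ((imgSub θ hθa S : Subgroup G) : Set G) := by
    intro S z hz
    have hz' := inv_invariant ρ S z hz
    rw [Subgroup.mem_normalizer_iff]
    intro g
    constructor
    · rintro ⟨n, hn, rfl⟩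
      rw [← hθρ]
      exact ⟨_, hz n hn, rfl⟩
    · rintro ⟨m, hm, hmg⟩
      refine ⟨ρ z⁻¹ m, hz' m hm, ?_⟩
      rw [hθρ, hmg, Subgroup.coe_inv]
      group
  obtain ⟨Y, hY⟩ : ∃ Y : Subgroup G, Y = Subgroup.normalizer (U' : Set G) := ⟨_, rfl⟩
  have hxY : (x : G) ∈ Y := by rw [hY, hU']; exact hnorm N' x hxN'
  have hyY : (y : G) ∈ Y := by rw [hY, hU']; exact hnorm N' y hyN'
  have hxU : (x : G) ∈ Subgroup.normalizer (U : Set G) := by rw [hU]; exact hnorm N x hxN
  have hyU : (y : G) ∈ Subgroup.normalizer (U : Set G) := by rw [hU]; exact hnorm N y hyN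
  have hθY : ∀ n, θ n ∈ Y := by
    intro n
    rw [hY, Subgroup.mem_normalizer_iff]
    intro g
    constructor
    · intro hg
      obtain ⟨m, hm, rfl⟩ := hexU' g hg
      rw [hcomm, mul_inv_cancel_right]; exact hg
    · intro hg
      obtain ⟨m, hm, hmg⟩ := hexU' _ hg
      have : g = θ m := by
        have h4 : g = (θ n)⁻¹ * (θ n * g * (θ n)⁻¹) * θ n := by group
        rw [h4, ← hmg, mul_assoc, hcomm m n, ← mul_assoc, inv_mul_cancel, one_mul]
      rw [this, hmemU']; exact hm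
  have hUY : U ≤ Y := by
    intro g hg
    obtain ⟨n, -, rfl⟩ := hexU g hg
    exact hθY n
  have hU'U : U' ≤ U := by
    intro g hg
    obtain ⟨n, hn, rfl⟩ := hexU' g hg
    exact (hmemU n).2 (hle hn)
  -- the quotient
  haveI hZn : (U'.subgroupOf Y).Normal := by
    rw [hY]; exact Subgroup.normal_in_normalizer
  obtain ⟨π, hπ⟩ : ∃ π : ↥Y →* ↥Y ⧸ U'.subgroupOf Y, π = QuotientGroup.mk' (U'.subgroupOf Y) :=
    ⟨_, rfl⟩
  have hπs : Function.Surjective π := by rw [hπ]; exact QuotientGroup.mk'_surjective _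
  have hπ1 : ∀ g : ↥Y, π g = 1 ↔ (g : G) ∈ U' := by
    intro g
    rw [hπ, QuotientGroup.mk'_apply, QuotientGroup.eq_one_iff, Subgroup.mem_subgroupOf]
  have hπc : ∀ a b : ↥Y, ⁅π a, π b⁆ = 1 ↔ ⁅(a : G), (b : G)⁆ ∈ U' := by
    intro a b
    rw [← map_commutatorElement, hπ1]
    rfl
  have hπcc : ∀ a b : ↥Y, ⁅π a, ⁅π a, π b⁆⁆ = 1 ↔ ⁅(a : G), ⁅(a : G), (b : G)⁆⁆ ∈ U' := by
    intro a b
    rw [← map_commutatorElement, ← map_commutatorElement, hπ1]
    rfl
  obtain ⟨Ub, hUb⟩ : ∃ Ub : Subgroup (↥Y ⧸ U'.subgroupOf Y), Ub = (U.subgroupOf Y).map π :=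
    ⟨_, rfl⟩
  have hUbmem : ∀ q ∈ Ub, ∃ n ∈ N, ∃ hn : θ n ∈ Y, π ⟨θ n, hn⟩ = q := by
    intro q hq
    rw [hUb] at hq
    obtain ⟨g, hg, rfl⟩ := hq
    have hg : (g : G) ∈ U := Subgroup.mem_subgroupOf.mp hg
    obtain ⟨n, hn, hng⟩ := hexU _ hg
    refine ⟨n, hn, hθY n, ?_⟩
    congr 1
    exact Subtype.ext hng
  have hmemUb : ∀ n ∈ N, π ⟨θ n, hθY n⟩ ∈ Ub := by
    intro n hn
    rw [hUb]
    refine ⟨⟨θ n, hθY n⟩, ?_, rfl⟩
    exact Subgroup.mem_subgroupOf.mpr ((hmemU n).2 hn)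
  have hUbE : Cfsg.IsElementaryAbelian p Ub := by
    constructor
    · refine ⟨⟨fun a b => ?_⟩⟩
      obtain ⟨n, -, hnY, hna⟩ := hUbmem a.1 a.2
      obtain ⟨m, -, hmY, hmb⟩ := hUbmem b.1 b.2
      apply Subtype.ext
      rw [Subgroup.coe_mul, Subgroup.coe_mul, ← hna, ← hmb, ← map_mul, ← map_mul]
      congr 1
      apply Subtype.ext
      exact hcomm n m
    · intro a ha
      obtain ⟨n, -, hnY, rfl⟩ := hUbmem a ha
      rw [← map_pow, hπ1, Subgroup.coe_pow]
      show θ n ^ p ∈ U'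
      rw [hV.2 _ (hθV n)]
      exact U'.one_mem
  have hcardUb : Nat.card Ub = p ^ 2 := by
    have e1 : π.ker.relIndex (U.subgroupOf Y) = Nat.card Ub := by
      rw [hUb]; exact Subgroup.relIndex_ker _ _
    have e2 : π.ker = U'.subgroupOf Y := by rw [hπ, QuotientGroup.ker_mk']
    rw [e2] at e1
    have hle' : U'.subgroupOf Y ≤ U.subgroupOf Y := by
      intro g hg
      rw [Subgroup.mem_subgroupOf] at hg ⊢
      exact hU'U hg
    have e3 := Subgroup.relIndex_mul_relIndex ⊥ (U'.subgroupOf Y) (U.subgroupOf Y) bot_le hle'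
    rw [Subgroup.relIndex_bot_left, Subgroup.relIndex_bot_left, e1] at e3
    have e4 : Nat.card (U.subgroupOf Y) = Nat.card U :=
      Nat.card_congr (Subgroup.subgroupOfEquivOfLe hUY).toEquiv
    have e5 : Nat.card (U'.subgroupOf Y) = Nat.card U' :=
      Nat.card_congr (Subgroup.subgroupOfEquivOfLe (hU'U.trans hUY)).toEquiv
    have e6 : Nat.card U = Nat.card N := by rw [hU]; exact card_imgSub θ hθa hθi N
    have e7 : Nat.card U' = Nat.card N' := by rw [hU']; exact card_imgSub θ hθa hθi N'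
    rw [e4, e5, e6, e7, hcard] at e3
    haveI : Finite W := Finite.of_injective θ hθi
    have hpos : 0 < Nat.card N' := Nat.card_pos
    have : Nat.card Ub * Nat.card N' = p ^ 2 * Nat.card N' := by rw [← e3]; ring
    exact Nat.eq_of_mul_eq_mul_right hpos this
  have hnormY : ∀ z : G, ∀ hz : z ∈ Y, z ∈ Subgroup.normalizer (U : Set G) →
      π ⟨z, hz⟩ ∈ Subgroup.normalizer (Ub : Set (↥Y ⧸ U'.subgroupOf Y)) := by
    intro z hz hzU
    rw [hUb]
    apply Subgroup.le_normalizer_map π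
    refine ⟨⟨z, hz⟩, ?_, rfl⟩
    show (⟨z, hz⟩ : ↥Y) ∈ Subgroup.normalizer ((U.subgroupOf Y : Subgroup ↥Y) : Set ↥Y)
    rw [Subgroup.mem_normalizer_iff]
    intro g
    have := Subgroup.mem_normalizer_iff.mp hzU (g : G)
    constructor
    · intro hg
      exact Subgroup.mem_subgroupOf.mpr (this.1 (Subgroup.mem_subgroupOf.mp hg))
    · intro hg
      exact Subgroup.mem_subgroupOf.mpr (this.2 (Subgroup.mem_subgroupOf.mp hg))
  have hρ1 : ∀ (z : ↥H) (n : W), (ρ z - 1) n = ρ z n - n := by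
    intro z n; rw [LinearMap.sub_apply, Module.End.one_apply]
  have hqY : ∀ (z : ↥H) (hz : (z : G) ∈ Y), (∀ n ∈ N, (ρ z - 1) ((ρ z - 1) n) ∈ N') →
      ∀ q ∈ Ub, ⁅π ⟨(z : G), hz⟩, ⁅π ⟨(z : G), hz⟩, q⁆⁆ = 1 := by
    intro z hz hzq q hq
    obtain ⟨n, hn, hnY, rfl⟩ := hUbmem q hq
    rw [hπcc]
    show ⁅(z : G), ⁅(z : G), θ n⁆⁆ ∈ U'
    rw [← hdict, ← hdict, hmemU']
    exact hzq n hn
  have hu0 : π ⟨θ w, hθY w⟩ ∈ Ub := hmemUb w hw
  have h1' : ⁅π ⟨(x : G), hxY⟩, π ⟨θ w, hθY w⟩⁆ = 1 := by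
    rw [hπc]
    show ⁅(x : G), θ w⁆ ∈ U'
    rw [← hdict, hmemU']; exact h1
  have h2' : ⁅π ⟨(y : G), hyY⟩, π ⟨θ w, hθY w⟩⁆ ≠ 1 := by
    rw [Ne, hπc]
    show ¬ ⁅(y : G), θ w⁆ ∈ U'
    rw [← hdict, hmemU']; exact h2
  have hyw : (ρ y - 1) w ∈ N := by
    rw [hρ1]; exact N.sub_mem (hyN w hw) hw
  have h3' : ∃ q ∈ Ub, ⁅π ⟨(x : G), hxY⟩, q⁆ ≠ 1 := by
    refine ⟨π ⟨θ ((ρ y - 1) w), hθY _⟩, hmemUb _ hyw, ?_⟩
    rw [Ne, hπc]
    show ¬ ⁅(x : G), θ ((ρ y - 1) w)⁆ ∈ U'
    rw [← hdict, hmemU']; exact h3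
  have hinv := involves_qd_of_plane hp Ub hUbE hcardUb (π ⟨(x : G), hxY⟩) (π ⟨(y : G), hyY⟩)
    (hnormY _ hxY hxU) (hnormY _ hyY hyU) (hqY x hxY hxq) (hqY y hyY hyq)
    (π ⟨θ w, hθY w⟩) hu0 h1' h2' h3'
  have hinvY := involves_of_surjective π hπs hinv
  exact Cfsg.Agent.Lib.Helper7.involves_of_injective Y.subtype Y.subtype_injective hinvY

end final
end Cfsg.Agent.Lib.Helper7.QuadLin


namespace Cfsg.Agent.Lib.Helper7.QuadLin
universe u

section qdfree
variable {G : Type u} [Group G] {p : ℕ} [Fact p.Prime]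

/-- group form of the pair lemma, `Qd(p)` version -/
theorem involves_qd_of_quad_pair [Finite G] (hp : p ≠ 2) (V H : Subgroup G)
    (hV : Cfsg.IsElementaryAbelian p V) (hHV : H ≤ Subgroup.normalizer (V : Set G)) (a b : G)
    (hab : H = Subgroup.closure {a, b})
    (ha : ⁅⁅V, Subgroup.zpowers a⁆, Subgroup.zpowers a⁆ = ⊥)
    (hb : ⁅⁅V, Subgroup.zpowers b⁆, Subgroup.zpowers b⁆ = ⊥)
    (hnp : ¬ ∀ h ∈ H, ∃ k : ℕ, h ^ p ^ k ∈ Subgroup.centralizer (V : Set G)) :
    Cfsg.Involves ↥(Cfsg.qd p) G := by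
  have haH : a ∈ H := by rw [hab]; exact Subgroup.subset_closure (Set.mem_insert _ _)
  have hbH : b ∈ H := by rw [hab]; exact Subgroup.subset_closure (Set.mem_insert_of_mem _ rfl)
  obtain ⟨W, iA, iM, iF, ρ₀, θ, hθi, hθr, hθa, hθρ, hquad⟩ :=
    exists_rep_dict (p := p) V H hV hHV
  have hgen := closure_pair_top H a b hab haH hbH
  have hqa := hquad ⟨a, haH⟩ ha
  have hqb := hquad ⟨b, hbH⟩ hb
  have hker : ∀ h : ↥H, ρ₀ h = 1 → (h : G) ∈ Subgroup.centralizer (V : Set G) := by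
    intro h hh
    rw [Subgroup.mem_centralizer_iff]
    intro v hv
    have hv' : v ∈ Set.range θ := by rw [hθr]; exact hv
    obtain ⟨w, rfl⟩ := hv'
    have := hθρ h w
    rw [hh, Module.End.one_apply] at this
    conv_lhs => rw [this]
    group
  have hnp' : ¬ ∀ g : ↥H, ∃ n : ℕ, ρ₀ g ^ p ^ n = 1 := by
    intro hall
    apply hnp
    intro h hh
    obtain ⟨n, hn⟩ := hall ⟨h, hh⟩
    refine ⟨n, ?_⟩
    rw [← map_pow] at hn
    exact hker _ hn
  have hpl := qdPlane hp _ _ hgen ρ₀ hqa hqb hnp'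
  exact involves_qd_of_qdPlane hp V H hV ρ₀ θ hθi hθr hθa hθρ hpl

/-- `SL₂(p)`-free groups act `p`-stably on normal elementary abelian `p`-subgroups -/
theorem isPStableOn_of_qd_free_elem [Finite G] (hp : p ≠ 2)
    (hfree : ¬ Cfsg.Involves ↥(Cfsg.qd p) G)
    (V : Subgroup G) [V.Normal] (hV : Cfsg.IsElementaryAbelian p V) : Cfsg.IsPStableOn p V := by
  classical
  intro a hq
  by_contra hna
  obtain ⟨ā, hā⟩ : ∃ ā : G ⧸ Subgroup.centralizer (V : Set G), ā = QuotientGroup.mk a := ⟨_, rfl⟩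
  rw [← hā] at hna
  have hex : ∃ gq : G ⧸ Subgroup.centralizer (V : Set G),
      ¬ IsPGroup p ↥(Subgroup.zpowers ā ⊔ MulAut.conj gq • Subgroup.zpowers ā) := by
    by_contra hcon
    push Not at hcon
    have hXp : IsPGroup p ↥(Subgroup.zpowers ā) := IsPGroup.to_le (hcon 1) le_sup_left
    obtain ⟨N, hNn, hNp, hXN⟩ := Cfsg.Agent.H1.baer_suzuki (Subgroup.zpowers ā) hXp hcon
    apply hna
    have h1 : N ≤ Cfsg.pCore p (G ⧸ Subgroup.centralizer (V : Set G)) := le_sSup ⟨hNn, hNp⟩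
    exact h1 (hXN (Subgroup.mem_zpowers _))
  obtain ⟨gq, hgq⟩ := hex
  obtain ⟨g, rfl⟩ := QuotientGroup.mk_surjective gq
  obtain ⟨H, hH⟩ : ∃ H : Subgroup G, H = Subgroup.closure {a, g * a * g⁻¹} := ⟨_, rfl⟩
  have hmap : H.map (QuotientGroup.mk' (Subgroup.centralizer (V : Set G))) =
      Subgroup.zpowers ā ⊔ MulAut.conj (QuotientGroup.mk g : G ⧸ Subgroup.centralizer (V : Set G)) • Subgroup.zpowers ā := by
    rw [Cfsg.Agent.H1.zpowers_sup_conj_eq_closure, hH, MonoidHom.map_closure, Set.image_pair, hā]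
    rfl
  have hnorm : H ≤ Subgroup.normalizer (V : Set G) := by
    rw [Subgroup.normalizer_eq_top]
    exact le_top
  have hnp : ¬ ∀ h ∈ H, ∃ k : ℕ, h ^ p ^ k ∈ Subgroup.centralizer (V : Set G) := by
    intro hall
    apply hgq
    rw [← hmap]
    rintro ⟨x, hx⟩
    obtain ⟨h, hh, rfl⟩ := hx
    obtain ⟨k, hk⟩ := hall h hh
    refine ⟨k, ?_⟩
    apply Subtype.ext
    rw [Subgroup.coe_pow, Subgroup.coe_one, ← map_pow]
    exact (QuotientGroup.eq_one_iff _).mpr hk
  apply hfree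
  exact involves_qd_of_quad_pair hp V H hV hnorm a (g * a * g⁻¹) hH hq
    (Cfsg.Agent.H1.quadratic_conj V a g (by rw [Subgroup.normalizer_eq_top]; exact Subgroup.mem_top g) hq)
    hnp

theorem isPStableOn_of_qd_free_aux (hp : p ≠ 2) :
    ∀ (n : ℕ) (G : Type u) [Group G] [Finite G] (P : Subgroup G) [P.Normal],
      IsPGroup p P → Nat.card P = n →
      ¬ Cfsg.Involves ↥(Cfsg.qd p) G → Cfsg.IsPStableOn p P := by
  intro n
  induction n using Nat.strong_induction_on with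
  | _ n ih =>
    intro G _ _ P _ hP hn hfree
    by_cases hmin : ∀ Z : Subgroup G, Z.Normal → Z ≤ P → Z = ⊥ ∨ Z = P
    · by_cases hne : P = ⊥
      · intro a _
        have ha : a ∈ Subgroup.centralizer (P : Set G) := by
          rw [Subgroup.mem_centralizer_iff]
          intro x hx
          rw [hne] at hx
          have : x = 1 := hx
          rw [this, one_mul, mul_one]
        rw [(QuotientGroup.eq_one_iff a).mpr ha]
        exact one_mem _
      · exact isPStableOn_of_qd_free_elem hp hfree P (isElementaryAbelian_of_minimal P hP hne hmin)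
    · push Not at hmin
      obtain ⟨Z, hZn, hZP, hZbot, hZne⟩ := hmin
      haveI := hZn
      have hZp : IsPGroup p Z := hP.to_le hZP
      have hc1 : Nat.card Z < n := by
        rw [← hn]
        exact Set.Finite.card_lt_card (Set.toFinite _)
          (LE.le.ssubset_of_ne (show (Z : Set G) ≤ (P : Set G) from hZP) (fun h => hZne (SetLike.coe_injective h)))
      haveI hPbn : (P.map (QuotientGroup.mk' Z)).Normal :=
        Subgroup.Normal.map inferInstance _ (QuotientGroup.mk'_surjective Z)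
      have hc2 : Nat.card (P.map (QuotientGroup.mk' Z)) < n := by
        rw [← hn]; exact card_map_mk_lt Z P hZP hZbot
      have hfree' : ¬ Cfsg.Involves ↥(Cfsg.qd p) (G ⧸ Z) :=
        fun h => hfree (involves_of_surjective (QuotientGroup.mk' Z) (QuotientGroup.mk'_surjective Z) h)
      exact isPStableOn_of_sub_quot Z P hZP hZp (ih _ hc1 G Z hZp rfl hfree)
        (ih _ hc2 (G ⧸ Z) (P.map (QuotientGroup.mk' Z)) (hP.map _) rfl hfree')

/-- **`SL₂(p)`-free groups act `p`-stably on every normal `p`-subgroup** (`p` odd) -/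
theorem isPStableOn_of_qd_free {G : Type u} [Group G] [Finite G] (hp : p ≠ 2)
    (hfree : ¬ Cfsg.Involves ↥(Cfsg.qd p) G)
    (P : Subgroup G) [P.Normal] (hP : IsPGroup p P) : Cfsg.IsPStableOn p P :=
  isPStableOn_of_qd_free_aux hp _ G P hP rfl hfree


end qdfree
end Cfsg.Agent.Lib.Helper7.QuadLin


namespace Cfsg.Agent.Lib.Helper7.QuadLin
universe u

section ns
variable {p : ℕ} [Fact p.Prime]

/-- stability on the normal subgroup `P ∩ N` of `N = N_X(P)` gives the normalizer form at `P` -/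
theorem normalizerForm_of_isPStableOn {X : Type u} [Group X] (P : Subgroup X)
    (hst : Cfsg.IsPStableOn p (P.subgroupOf (Subgroup.normalizer (P : Set X))))
    (g : X) (hg : g ∈ Subgroup.normalizer (P : Set X))
    (hq : ⁅⁅P, Subgroup.zpowers g⁆, Subgroup.zpowers g⁆ = ⊥) :
    (QuotientGroup.mk (s := (Subgroup.centralizer (P : Set X)).subgroupOf (Subgroup.normalizer (P : Set X)))
          (⟨g, hg⟩ : ↥(Subgroup.normalizer (P : Set X)))) ∈
        Cfsg.pCore p (↥(Subgroup.normalizer (P : Set X)) ⧸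
          (Subgroup.centralizer (P : Set X)).subgroupOf (Subgroup.normalizer (P : Set X))) := by
  obtain ⟨N, hN⟩ : ∃ N : Subgroup X, N = Subgroup.normalizer (P : Set X) := ⟨_, rfl⟩
  have hPN : P ≤ Subgroup.normalizer (P : Set X) := Subgroup.le_normalizer
  have hq' : ⁅⁅P.subgroupOf (Subgroup.normalizer (P : Set X)),
      Subgroup.zpowers (⟨g, hg⟩ : ↥(Subgroup.normalizer (P : Set X)))⁆,
      Subgroup.zpowers (⟨g, hg⟩ : ↥(Subgroup.normalizer (P : Set X)))⁆ = ⊥ := by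
    rw [← (Subgroup.map_eq_bot_iff_of_injective _ (Subgroup.subtype_injective _)),
      Subgroup.map_commutator, Subgroup.map_commutator, Subgroup.map_subgroupOf_eq_of_le hPN,
      MonoidHom.map_zpowers]
    exact hq
  have hm := hst ⟨g, hg⟩ hq'
  have hceq : Subgroup.centralizer ((P.subgroupOf (Subgroup.normalizer (P : Set X)) :
      Subgroup ↥(Subgroup.normalizer (P : Set X))) : Set ↥(Subgroup.normalizer (P : Set X))) =
      (Subgroup.centralizer (P : Set X)).subgroupOf (Subgroup.normalizer (P : Set X)) := by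
    ext ⟨n, hn⟩
    rw [Subgroup.mem_centralizer_iff, Subgroup.mem_subgroupOf, Subgroup.mem_centralizer_iff]
    constructor
    · intro h x hx
      have := h ⟨x, hPN hx⟩ (Subgroup.mem_subgroupOf.mpr hx)
      exact congrArg Subtype.val this
    · intro h x hx
      apply Subtype.ext
      exact h x.1 (Subgroup.mem_subgroupOf.mp hx)
  have hpc := Cfsg.Agent.Lib.Helper7.pCore_map_equiv (p := p)
    (QuotientGroup.quotientMulEquivOfEq hceq)
  rw [← hpc]
  exact ⟨_, hm, rfl⟩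

/-- `SL₂(p)`-free groups are `p`-stable in the normalizer form (`p` odd) -/
theorem isNormalizerPStable_of_free {X : Type u} [Group X] [Finite X] (hp : p ≠ 2)
    (hfree : ¬ Cfsg.Involves (Matrix.SpecialLinearGroup (Fin 2) (ZMod p)) X) :
    Cfsg.IsNormalizerPStable p X := by
  intro P hP g hg hq
  have hfree' : ¬ Cfsg.Involves (Matrix.SpecialLinearGroup (Fin 2) (ZMod p))
      ↥(Subgroup.normalizer (P : Set X)) :=
    fun h => hfree (Cfsg.Agent.Lib.Helper7.involves_of_injective _ (Subgroup.subtype_injective _) h)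
  have hst := isPStableOn_of_free hp hfree' (P.subgroupOf (Subgroup.normalizer (P : Set X)))
    (hP.comap_subtype)
  exact normalizerForm_of_isPStableOn P hst g hg hq

end ns
end Cfsg.Agent.Lib.Helper7.QuadLin

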