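import Mathlib
import Cfsg.Agent.Lib.Helper7.GlaubGlobal
import Cfsg.Agent.Lib.Helper4.GTFus6
import Cfsg.Agent.S1250
import Cfsg.Agent.Lib.Helper7.QuadQdC

set_option autoImplicit false
set_option linter.style.haveILetI false
set_option linter.unusedSectionVars false
set_option linter.unusedVariables false

open scoped commutatorElement Pointwise

namespace Cfsg.Agent.Lib.Helper7.GTD

open Cfsg Cfsg.Agent.Lib.Helper7 Cfsg.Agent.Lib.Lead.Conj Cfsg.Agent.Lib.Lead.ConjFamily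
  Cfsg.Agent.S1963 Cfsg.Agent.S1965 Cfsg.Agent.S1961 Cfsg.Agent.S1959 Cfsg.Agent.Lib.Helper4.GT
  Cfsg.Agent.Lib.Helper4.GTFus

universe u

/-- the constant family with value `U` -/
def kf {X : Type*} [Group X] (U : Subgroup X) : Set (Subgroup X → Subgroup X) := {fun _ => U}

theorem ch_kf_of_exists {X : Type*} [Group X] {U S : Subgroup X} {A : Set X} {g : X}
    (hA : A ⊆ (S : Set X)) (hgA : lc g A ⊆ (S : Set X))
    (h : ∃ x ∈ Subgroup.normalizer (U : Set X), ∀ a ∈ A, x * a * x⁻¹ = g * a * g⁻¹) :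
    Ch (kf U) S A g := by
  obtain ⟨x, hx, hxa⟩ := h
  have hxA : lc x A ⊆ (S : Set X) := by
    rw [lc_congr hxa]; exact hgA
  exact Ch.congr (Ch.single (fun _ => U) rfl hx hA hxA) (fun a ha => (hxa a ha).symm)

theorem exists_of_ch_kf {X : Type*} [Group X] {U S : Subgroup X} {A : Set X} {g : X}
    (h : Ch (kf U) S A g) :
    ∃ x ∈ Subgroup.normalizer (U : Set X), ∀ a ∈ A, x * a * x⁻¹ = g * a * g⁻¹ :=
  ch_single_functor (W₀ := fun _ => U) (fun W hW => hW) h

/-- the statement: `N_X(W(D))` controls strong fusion in `S` for every strongly closed `D` -/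
def CtlAll (p : ℕ) (W : ∀ (X : Type u) [Group X], Subgroup X → Subgroup X) (X : Type u) [Group X] :
    Prop :=
  ∀ (S : Sylow p X) (D : Subgroup X), Cfsg.IsStronglyClosed D (S : Subgroup X) →
    ∀ (A : Set X) (g : X), A ⊆ ((S : Subgroup X) : Set X) → lc g A ⊆ ((S : Subgroup X) : Set X) →
      ∃ x ∈ Subgroup.normalizer ((W X D : Subgroup X) : Set X), ∀ a ∈ A, x * a * x⁻¹ = g * a * g⁻¹

section basic

variable {p : ℕ} [Fact p.Prime] {W : ∀ (X : Type u) [Group X], Subgroup X → Subgroup X}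
variable {X : Type u} [Group X] [Finite X]

theorem normalizer_W_eq_top_of_le_normal (hW : PFunctor p W) {S : Sylow p X} {D : Subgroup X}
    (hD : Cfsg.IsStronglyClosed D (S : Subgroup X)) {P : Subgroup X} [hP : P.Normal]
    (hPS : P ≤ (S : Subgroup X)) (hDP : D ≤ P) :
    Subgroup.normalizer ((W X D : Subgroup X) : Set X) = ⊤ := by
  rw [eq_top_iff]
  intro x _
  apply normalizer_le_normalizer_W hW D
  apply mem_normalizer_of_conj_mem
  intro d hd
  exact hD.2 d hd x (hPS (hP.conj_mem d (hDP hd) x))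

/-- control in a subgroup `Y ≥ S` gives conjugations in `N_X(W(D))` -/
theorem exists_of_subgroup (hW : PFunctor p W) (S : Sylow p X) (D : Subgroup X)
    (hD : Cfsg.IsStronglyClosed D (S : Subgroup X)) (Y : Subgroup X) (hSY : (S : Subgroup X) ≤ Y)
    (hY : CtlAll p W ↥Y) (A : Set X) (y : X) (hy : y ∈ Y) (hA : A ⊆ ((S : Subgroup X) : Set X))
    (hyA : lc y A ⊆ ((S : Subgroup X) : Set X)) :
    ∃ x ∈ Subgroup.normalizer ((W X D : Subgroup X) : Set X), ∀ a ∈ A, x * a * x⁻¹ = y * a * y⁻¹ := by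
  have hS' : ((S.subtype hSY : Sylow p ↥Y) : Subgroup ↥Y) = (S : Subgroup X).subgroupOf Y :=
    Sylow.coe_subtype _ _
  have hDY : D ≤ Y := hD.1.trans hSY
  have hD' : Cfsg.IsStronglyClosed (D.subgroupOf Y) ((S.subtype hSY : Sylow p ↥Y) : Subgroup ↥Y) := by
    rw [hS']
    refine ⟨fun x hx => Subgroup.mem_subgroupOf.mpr (hD.1 (Subgroup.mem_subgroupOf.mp hx)), ?_⟩
    intro x hx g hg
    rw [Subgroup.mem_subgroupOf] at hx hg ⊢
    exact hD.2 _ hx _ hg
  have hA' : (Y.subtype ⁻¹' A) ⊆ (((S.subtype hSY : Sylow p ↥Y) : Subgroup ↥Y) : Set ↥Y) := by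
    intro a ha
    rw [hS', SetLike.mem_coe, Subgroup.mem_subgroupOf]
    exact hA ha
  have hyA' : lc (⟨y, hy⟩ : ↥Y) (Y.subtype ⁻¹' A) ⊆
      (((S.subtype hSY : Sylow p ↥Y) : Subgroup ↥Y) : Set ↥Y) := by
    rintro _ ⟨a, ha, rfl⟩
    rw [hS', SetLike.mem_coe, Subgroup.mem_subgroupOf]
    exact hyA ⟨(a : X), ha, rfl⟩
  obtain ⟨x, hxN, hxa⟩ := hY (S.subtype hSY) (D.subgroupOf Y) hD' _ ⟨y, hy⟩ hA' hyA'
  have hxG := coe_mem_normalizer_map_subtype Y _ hxN
  have hmap := hW.map ↥Y X Y.subtype (D.subgroupOf Y)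
    (fun z _ hz => Subtype.ext (by simpa using hz))
  rw [Subgroup.map_subgroupOf_eq_of_le hDY] at hmap
  rw [← hmap] at hxG
  refine ⟨(x : X), hxG, fun a ha => ?_⟩
  have haY : a ∈ Y := hSY (hA ha)
  have := hxa ⟨a, haY⟩ ha
  exact congrArg Subtype.val this

end basic

end Cfsg.Agent.Lib.Helper7.GTD


namespace Cfsg.Agent.Lib.Helper7.GTD

open Cfsg Cfsg.Agent.Lib.Helper7 Cfsg.Agent.Lib.Lead.Conj Cfsg.Agent.Lib.Lead.ConjFamily
  Cfsg.Agent.S1963 Cfsg.Agent.S1965 Cfsg.Agent.S1961 Cfsg.Agent.S1959 Cfsg.Agent.Lib.Helper4.GT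
  Cfsg.Agent.Lib.Helper4.GTFus

universe u

section quotp'

variable {p : ℕ} [Fact p.Prime] {W : ∀ (X : Type u) [Group X], Subgroup X → Subgroup X}
variable {X : Type u} [Group X] [Finite X]

/-- control lifts from the quotient by a normal `p'`-subgroup -/
theorem exists_of_quotient_p' (hW : PFunctor p W) (S : Sylow p X) (D : Subgroup X)
    (hD : Cfsg.IsStronglyClosed D (S : Subgroup X)) (M : Subgroup X) [hM : M.Normal]
    (hMc : (Nat.card ↥M).Coprime p) (hq : CtlAll p W (X ⧸ M)) (A : Set X) (g : X)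
    (hA : A ⊆ ((S : Subgroup X) : Set X)) (hgA : lc g A ⊆ ((S : Subgroup X) : Set X)) :
    ∃ x ∈ Subgroup.normalizer ((W X D : Subgroup X) : Set X), ∀ a ∈ A, x * a * x⁻¹ = g * a * g⁻¹ := by
  have hSM : (S : Subgroup X) ⊓ M = ⊥ :=
    (Cfsg.Agent.H1.inf_eq_bot_of_pgroup_coprime M (S : Subgroup X) S.isPGroup' hMc) ▸ inf_comm _ _
  set B : Subgroup X := Subgroup.closure A with hBdef
  have hB : B ≤ (S : Subgroup X) := (Subgroup.closure_le _).mpr hA
  have hgB : cj g B ≤ (S : Subgroup X) := cj_closure_le _ hgA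
  have hs := QuotientGroup.mk'_surjective M
  have hSb : ((S.mapSurjective hs : Sylow p (X ⧸ M)) : Subgroup (X ⧸ M)) =
      (S : Subgroup X).map (QuotientGroup.mk' M) := Sylow.coe_mapSurjective hs S
  have hDb : Cfsg.IsStronglyClosed (D.map (QuotientGroup.mk' M))
      ((S.mapSurjective hs : Sylow p (X ⧸ M)) : Subgroup (X ⧸ M)) := by
    rw [hSb]; exact Cfsg.Agent.S1250.result S D hD M
  have hAb : (QuotientGroup.mk' M) '' (B : Set X) ⊆
      (((S.mapSurjective hs : Sylow p (X ⧸ M)) : Subgroup (X ⧸ M)) : Set (X ⧸ M)) := by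
    rintro _ ⟨b, hb, rfl⟩
    rw [hSb]; exact ⟨b, hB hb, rfl⟩
  have hgAb : lc (QuotientGroup.mk' M g) ((QuotientGroup.mk' M) '' (B : Set X)) ⊆
      (((S.mapSurjective hs : Sylow p (X ⧸ M)) : Subgroup (X ⧸ M)) : Set (X ⧸ M)) := by
    rintro _ ⟨_, ⟨b, hb, rfl⟩, rfl⟩
    rw [hSb]
    refine ⟨g * b * g⁻¹, hgB (conj_mem_map_conj B g hb), ?_⟩
    rw [mk_conj]
  obtain ⟨xb, hxb, hxba⟩ := hq (S.mapSurjective hs) (D.map (QuotientGroup.mk' M)) hDb _ _ hAb hgAb
  set V : Subgroup X := W X D with hV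
  have hVS : V ≤ (S : Subgroup X) := (hW.le X D).trans hD.1
  have hSV : (S : Subgroup X) ≤ Subgroup.normalizer (V : Set X) :=
    (Cfsg.Agent.Lib.Helper4.ZJ2.sylow_le_normalizer_of_stronglyClosed _ D hD).trans
      (normalizer_le_normalizer_W hW D)
  have hmapV : W (X ⧸ M) (D.map (QuotientGroup.mk' M)) = V.map (QuotientGroup.mk' M) :=
    hW.map X (X ⧸ M) (QuotientGroup.mk' M) D (fun x hx hx1 => by
      have h1 : x ∈ M := (QuotientGroup.eq_one_iff x).mp hx1
      have h2 : x ∈ (S : Subgroup X) ⊓ M := ⟨hD.1 hx, h1⟩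
      rwa [hSM, Subgroup.mem_bot] at h2)
  obtain ⟨x, rfl⟩ := hs xb
  rw [hmapV] at hxb
  have hxV : cj x V ≤ V ⊔ M := by
    rintro _ ⟨v, hv, rfl⟩
    apply mem_sup_of_mk_mem_map
    have h1 : QuotientGroup.mk' M v ∈ V.map (QuotientGroup.mk' M) := ⟨v, hv, rfl⟩
    have h2 := (Subgroup.mem_normalizer_iff.mp hxb (QuotientGroup.mk' M v)).mp h1
    show QuotientGroup.mk' M (x * v * x⁻¹) ∈ _
    rw [mk_conj]; exact h2
  have hxB : cj x B ≤ (S : Subgroup X) ⊔ M := by
    rintro _ ⟨b, hb', rfl⟩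
    apply mem_sup_of_mk_mem_map
    show QuotientGroup.mk' M (x * b * x⁻¹) ∈ _
    rw [mk_conj, hxba _ ⟨b, hb', rfl⟩, ← mk_conj]
    exact ⟨g * b * g⁻¹, hgB (conj_mem_map_conj B g hb'), rfl⟩
  obtain ⟨m, hm, hy, hyB⟩ := lift_step S M hMc hVS hSV hB hxV hxB
  have hmk : QuotientGroup.mk' M (m * x) = QuotientGroup.mk' M x := by
    rw [map_mul, QuotientGroup.mk'_apply, QuotientGroup.mk'_apply, (QuotientGroup.eq_one_iff m).mpr hm,
      one_mul]
  refine ⟨m * x, hy, fun a ha => ?_⟩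
  have haB : a ∈ B := Subgroup.subset_closure ha
  have h1 : QuotientGroup.mk' M ((m * x) * a * (m * x)⁻¹) = QuotientGroup.mk' M (g * a * g⁻¹) := by
    rw [mk_conj, hmk, hxba _ ⟨a, haB, rfl⟩, ← mk_conj]
  have h2 : (g * a * g⁻¹)⁻¹ * ((m * x) * a * (m * x)⁻¹) ∈ M := by
    rw [← QuotientGroup.eq_one_iff, ← QuotientGroup.mk'_apply, map_mul, map_inv, h1, inv_mul_cancel]
  have h3 : (g * a * g⁻¹)⁻¹ * ((m * x) * a * (m * x)⁻¹) ∈ (S : Subgroup X) ⊓ M :=
    ⟨Subgroup.mul_mem _ (Subgroup.inv_mem _ (hgB (conj_mem_map_conj B g haB)))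
      (hyB (conj_mem_map_conj B (m * x) haB)), h2⟩
  rw [hSM, Subgroup.mem_bot] at h3
  exact (inv_mul_eq_one.mp h3).symm

end quotp'

end Cfsg.Agent.Lib.Helper7.GTD


namespace Cfsg.Agent.Lib.Helper7.GTD

open Cfsg Cfsg.Agent.Lib.Helper7 Cfsg.Agent.Lib.Lead.Conj Cfsg.Agent.Lib.Lead.ConjFamily
  Cfsg.Agent.S1963 Cfsg.Agent.S1965 Cfsg.Agent.S1961 Cfsg.Agent.S1959 Cfsg.Agent.Lib.Helper4.GT
  Cfsg.Agent.Lib.Helper4.GTFus

universe u

section quotp

variable {p : ℕ} [Fact p.Prime] {W : ∀ (X : Type u) [Group X], Subgroup X → Subgroup X}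
variable {X : Type u} [Group X] [Finite X]

/-- control lifts from the quotient by `P = O_p(X)` when all `p'`-elements centralize `P` -/
theorem ch_of_quotient_p_D (hW : PFunctor p W) (S : Sylow p X) (D : Subgroup X)
    (hD : Cfsg.IsStronglyClosed D (S : Subgroup X)) (P : Subgroup X)
    [hPn : P.Normal] (hPS : P ≤ (S : Subgroup X))
    (hPcore : ∀ Q : Subgroup X, Q.Normal → IsPGroup p ↥Q → Q ≤ P) (hDP : ¬ D ≤ P)
    (hp' : ∀ x : X, (orderOf x).Coprime p → x ∈ Subgroup.centralizer (P : Set X))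
    (hq : CtlAll p W (X ⧸ P))
    (hsub : ∀ Y : Subgroup X, Y ≠ ⊤ → (S : Subgroup X) ≤ Y → ∀ (A : Set X) (y : X), y ∈ Y →
      A ⊆ ((S : Subgroup X) : Set X) → lc y A ⊆ ((S : Subgroup X) : Set X) →
      Ch (kf (W X D)) (S : Subgroup X) A y)
    (A : Set X) (g : X) (hA : A ⊆ ((S : Subgroup X) : Set X)) (hgA : lc g A ⊆ ((S : Subgroup X) : Set X)) :
    Ch (kf (W X D)) (S : Subgroup X) A g := by
  have hPp : IsPGroup p ↥P := S.isPGroup'.to_le hPS
  have hSP : (S : Subgroup X) ⊔ P = (S : Subgroup X) := sup_eq_left.mpr hPS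
  have hne : P ≠ (S : Subgroup X) := by
    intro h
    apply hDP
    rw [h]; exact hD.1
  -- conjugation by elements of `S`
  have hStop : (S : Subgroup X) ≠ ⊤ := by
    intro h
    apply hne
    apply le_antisymm hPS
    rw [h]
    apply hPcore ⊤ inferInstance
    rw [← h]; exact S.isPGroup'
  have hS : ∀ (A : Set X) (s : X), s ∈ (S : Subgroup X) → A ⊆ ((S : Subgroup X) : Set X) →
      Ch (kf (W X D)) (S : Subgroup X) A s := by
    intro A s hs hA
    apply hsub (S : Subgroup X) hStop le_rfl A s hs hA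
    rintro _ ⟨a, ha, rfl⟩
    exact Subgroup.mul_mem _ (Subgroup.mul_mem _ hs (hA ha)) (Subgroup.inv_mem _ hs)
  have hs := QuotientGroup.mk'_surjective P
  have hSb : ((S.mapSurjective hs : Sylow p (X ⧸ P)) : Subgroup (X ⧸ P)) =
      (S : Subgroup X).map (QuotientGroup.mk' P) := Sylow.coe_mapSurjective hs S
  have hDb : Cfsg.IsStronglyClosed (D.map (QuotientGroup.mk' P))
      ((S.mapSurjective hs : Sylow p (X ⧸ P)) : Subgroup (X ⧸ P)) := by
    rw [hSb]; exact Cfsg.Agent.S1250.result S D hD P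
  have hDbp : IsPGroup p ↥(D.map (QuotientGroup.mk' P)) :=
    (S.mapSurjective hs).isPGroup'.to_le hDb.1
  -- the preimage of the normalizer in the quotient
  set Vb : Subgroup (X ⧸ P) := W (X ⧸ P) (D.map (QuotientGroup.mk' P)) with hVb
  set Y : Subgroup X := (Subgroup.normalizer (Vb : Set (X ⧸ P))).comap (QuotientGroup.mk' P) with hY
  have hSY : (S : Subgroup X) ≤ Y := by
    intro t ht
    rw [hY, Subgroup.mem_comap]
    have h1 : QuotientGroup.mk' P t ∈ ((S.mapSurjective hs : Sylow p (X ⧸ P)) : Subgroup (X ⧸ P)) := by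
      rw [hSb]; exact ⟨t, ht, rfl⟩
    exact normalizer_le_normalizer_W hW _
      (Cfsg.Agent.Lib.Helper4.ZJ2.sylow_le_normalizer_of_stronglyClosed _ _ hDb h1)
  have hYne : Y ≠ ⊤ := by
    intro hYtop
    have hVbn : Vb.Normal := by
      rw [← Subgroup.normalizer_eq_top_iff, eq_top_iff]
      intro y _
      obtain ⟨x, rfl⟩ := QuotientGroup.mk'_surjective P y
      have : x ∈ Y := by rw [hYtop]; exact Subgroup.mem_top x
      exact this
    have hVbS : Vb ≤ (S : Subgroup X).map (QuotientGroup.mk' P) := by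
      rw [← hSb]; exact (hW.le (X ⧸ P) _).trans hDb.1
    set Q : Subgroup X := Vb.comap (QuotientGroup.mk' P) with hQ
    have hQn : Q.Normal := hVbn.comap _
    have hQS : Q ≤ (S : Subgroup X) := by
      intro x hx
      have h1 : QuotientGroup.mk' P x ∈ (S : Subgroup X).map (QuotientGroup.mk' P) := hVbS hx
      have := mem_sup_of_mk_mem_map h1
      rwa [hSP] at this
    have hQP : Q ≤ P := hPcore Q hQn (S.isPGroup'.to_le hQS)
    have hVbot : Vb = ⊥ := by
      rw [eq_bot_iff]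
      intro y hy
      obtain ⟨x, rfl⟩ := QuotientGroup.mk'_surjective P y
      have hx : x ∈ Q := hy
      rw [Subgroup.mem_bot]
      exact (QuotientGroup.eq_one_iff x).mpr (hQP hx)
    have hDbne : D.map (QuotientGroup.mk' P) ≠ ⊥ := by
      intro h
      apply hDP
      intro d hd
      have h1 : QuotientGroup.mk' P d ∈ D.map (QuotientGroup.mk' P) := ⟨d, hd, rfl⟩
      rw [h, Subgroup.mem_bot] at h1
      exact (QuotientGroup.eq_one_iff d).mp h1
    exact hW.ne_bot (X ⧸ P) _ hDbp hDbne hVbot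
  -- the main induction
  have key : ∀ (n : ℕ) (B : Subgroup X), P ≤ B → B ≤ (S : Subgroup X) →
      Nat.card ↥(S : Subgroup X) - Nat.card ↥B = n → ∀ g : X, cj g B ≤ (S : Subgroup X) →
      Ch (kf (W X D)) (S : Subgroup X) (B : Set X) g := by
    intro n
    induction n using Nat.strong_induction_on with
    | _ n ih =>
    intro B hPB hBS hn g hgB
    have hcardle : ∀ T : Subgroup X, T ≤ (S : Subgroup X) → Nat.card ↥T ≤ Nat.card ↥(S : Subgroup X) :=
      fun T hT => Nat.le_of_dvd Nat.card_pos (Subgroup.card_dvd_of_le hT)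
    have hbig : ∀ B' : Subgroup X, P ≤ B' → B' ≤ (S : Subgroup X) → Nat.card ↥B < Nat.card ↥B' →
        ∀ g : X, cj g B' ≤ (S : Subgroup X) → Ch (kf (W X D)) (S : Subgroup X) (B' : Set X) g := by
      intro B' hPB' hB'S hlt g' hg'
      have h1 := hcardle B' hB'S
      exact ih (Nat.card ↥(S : Subgroup X) - Nat.card ↥B') (by omega) B' hPB' hB'S rfl g' hg'
    -- the conjugation in the quotient
    have hAb : (QuotientGroup.mk' P) '' (B : Set X) ⊆
        (((S.mapSurjective hs : Sylow p (X ⧸ P)) : Subgroup (X ⧸ P)) : Set (X ⧸ P)) := by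
      rintro _ ⟨b, hb, rfl⟩
      rw [hSb]; exact ⟨b, hBS hb, rfl⟩
    have hgAb : lc (QuotientGroup.mk' P g) ((QuotientGroup.mk' P) '' (B : Set X)) ⊆
        (((S.mapSurjective hs : Sylow p (X ⧸ P)) : Subgroup (X ⧸ P)) : Set (X ⧸ P)) := by
      rintro _ ⟨_, ⟨b, hb, rfl⟩, rfl⟩
      rw [hSb]
      refine ⟨g * b * g⁻¹, hgB (conj_mem_map_conj B g hb), ?_⟩
      rw [mk_conj]
    obtain ⟨xb, hxb, hxba⟩ := hq (S.mapSurjective hs) (D.map (QuotientGroup.mk' P)) hDb _ _ hAb hgAb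
    obtain ⟨c, rfl⟩ := hs xb
    have hcY : c ∈ Y := hxb
    have hcb : ∀ b ∈ B, QuotientGroup.mk' P (c * b * c⁻¹) =
        QuotientGroup.mk' P g * QuotientGroup.mk' P b * (QuotientGroup.mk' P g)⁻¹ := by
      intro b hb
      rw [mk_conj]
      exact hxba _ ⟨b, hb, rfl⟩
    have hcB' : lc c (B : Set X) ⊆ ((S : Subgroup X) : Set X) := by
      rintro _ ⟨b, hb, rfl⟩
      have h2 : QuotientGroup.mk' P (c * b * c⁻¹) ∈ (S : Subgroup X).map (QuotientGroup.mk' P) := by
        rw [hcb b hb, ← mk_conj]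
        exact ⟨g * b * g⁻¹, hgB (conj_mem_map_conj B g hb), rfl⟩
      have := mem_sup_of_mk_mem_map h2
      rw [hSP] at this
      exact this
    have hc : Ch (kf (W X D)) (S : Subgroup X) (B : Set X) c :=
      hsub Y hYne hSY (B : Set X) c hcY hBS hcB'
    have hcB : cj c B ≤ (S : Subgroup X) := by
      intro y hy
      have := hc.lc_sub
      rw [lc_coe] at this
      exact this hy
    have hPcB : P ≤ cj c B := by
      have h1 : cj c P ≤ cj c B := cj_mono c hPB
      rwa [cj_normal c P] at h1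
    -- the element `z`
    have hmod : ∀ b ∈ B, (g * b * g⁻¹) * (c * b * c⁻¹)⁻¹ ∈ P := by
      intro b hb
      have h1 := hcb b hb
      rw [← mk_conj] at h1
      rw [← QuotientGroup.eq_one_iff, ← QuotientGroup.mk'_apply, map_mul, map_inv, h1, mul_inv_cancel]
    have hzact : ∀ b' ∈ cj c B, (g * c⁻¹) * b' * (g * c⁻¹)⁻¹ * b'⁻¹ ∈ P := by
      intro b' hb'
      have hb : c⁻¹ * b' * c ∈ B := mem_cj.mp hb'
      have h1 := hmod _ hb
      convert h1 using 1
      group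
    have hz : g * c⁻¹ ∈ Subgroup.normalizer ((cj c B : Subgroup X) : Set X) := by
      apply mem_normalizer_of_cj_le
      rintro _ ⟨b', hb', rfl⟩
      have h1 := hzact b' hb'
      have e : (MulAut.conj (g * c⁻¹)).toMonoidHom b' =
          ((g * c⁻¹) * b' * (g * c⁻¹)⁻¹ * b'⁻¹) * b' := by
        show (g * c⁻¹) * b' * (g * c⁻¹)⁻¹ = _
        group
      rw [e]
      exact Subgroup.mul_mem _ (hPcB h1) hb'
    have hbig' : ∀ B' : Subgroup X, P ≤ B' → B' ≤ (S : Subgroup X) →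
        Nat.card ↥(cj c B) < Nat.card ↥B' →
        ∀ g : X, cj g B' ≤ (S : Subgroup X) → Ch (kf (W X D)) (S : Subgroup X) (B' : Set X) g := by
      intro B' h1 h2 h3
      rw [card_cj] at h3
      exact hbig B' h1 h2 h3
    have cz := zclaim S P hPp hp' hS hPcB hcB hbig' hz hzact
    have cz' : Ch (kf (W X D)) (S : Subgroup X) (lc c (B : Set X)) (g * c⁻¹) := by rw [lc_coe]; exact cz
    have := Ch.comp hc cz'
    have e : g * c⁻¹ * c = g := by group
    rwa [e] at this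
  -- conclusion
  set B : Subgroup X := Subgroup.closure A ⊔ P with hBdef
  have hB : B ≤ (S : Subgroup X) := sup_le ((Subgroup.closure_le _).mpr hA) hPS
  have hgB : cj g B ≤ (S : Subgroup X) := by
    unfold cj
    rw [hBdef, Subgroup.map_sup]
    refine sup_le (cj_closure_le _ hgA) ?_
    have : cj g P = P := cj_normal g P
    unfold cj at this
    rw [this]; exact hPS
  have := key _ B le_sup_right hB rfl g hgB
  exact Ch.mono (fun a ha => (le_sup_left : Subgroup.closure A ≤ B) (Subgroup.subset_closure ha)) this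

end quotp

end Cfsg.Agent.Lib.Helper7.GTD


namespace Cfsg.Agent.Lib.Helper7.GTD

open Cfsg Cfsg.Agent.Lib.Helper7 Cfsg.Agent.Lib.Lead.Conj Cfsg.Agent.Lib.Lead.ConjFamily
  Cfsg.Agent.S1963 Cfsg.Agent.S1965 Cfsg.Agent.S1961 Cfsg.Agent.S1959 Cfsg.Agent.Lib.Helper4.GT
  Cfsg.Agent.Lib.Helper4.GTFus

universe u

section locals

variable {p : ℕ} [Fact p.Prime] {W : ∀ (X : Type u) [Group X], Subgroup X → Subgroup X}
variable {G : Type u} [Group G] [Finite G]

/-- the local hypothesis of the Alperin–Gorenstein theorem, from control in `N_G(T)` -/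
theorem local_family_control_D (hW : PFunctor p W) (P : Sylow p G) (D : Subgroup G)
    (hD : Cfsg.IsStronglyClosed D (P : Subgroup G))
    (hZ : ∀ T : Subgroup G, T ≤ (P : Subgroup G) →
      D ⊓ ((P : Subgroup G) ⊓ Subgroup.normalizer (T : Set G)) ≠ ⊥)
    (T : Subgroup G) (hTP : T ≤ (P : Subgroup G)) (hTne : T ≠ ⊥)
    (hfn : ¬ p ∣ ((P : Subgroup G) ⊓ Subgroup.normalizer ((T : Subgroup G) : Set G)).relIndex
      (Subgroup.normalizer ((T : Subgroup G) : Set G)))
    (hloc : CtlAll p W ↥(Subgroup.normalizer ((T : Subgroup G) : Set G))) :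
    Cfsg.FamilyControlsStrongFusionIn p {fusedFunctor W D}
      (Subgroup.normalizer ((T : Subgroup G) : Set G)) := by
  obtain ⟨H, hH⟩ : ∃ H : Subgroup G, H = Subgroup.normalizer (T : Set G) := ⟨_, rfl⟩
  have hZT := hZ T hTP
  rw [← hH] at hfn hZT hloc ⊢
  obtain ⟨T', hT'⟩ : ∃ T' : Subgroup G, T' = (P : Subgroup G) ⊓ H := ⟨_, rfl⟩
  rw [← hT'] at hfn hZT
  have hT'P : T' ≤ (P : Subgroup G) := by rw [hT']; exact inf_le_left
  have hT'H : T' ≤ H := by rw [hT']; exact inf_le_right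
  have hT'p : IsPGroup p ↥T' := P.isPGroup'.to_le hT'P
  refine ⟨T', hT'H, hT'p, hfn, ?_⟩
  intro A h hh hA hhA
  -- pass to the group `↥H`
  have hT'p' : IsPGroup p ↥(T'.subgroupOf H) := hT'p.comap_subtype
  let R : Sylow p ↥H := hT'p'.toSylow hfn
  have hR : (R : Subgroup ↥H) = T'.subgroupOf H := IsPGroup.toSylow_coe _ _
  have hDN : Cfsg.IsStronglyClosed ((D ⊓ T').subgroupOf H) (R : Subgroup ↥H) := by
    rw [hR]
    refine ⟨fun x hx => ?_, ?_⟩
    · rw [Subgroup.mem_subgroupOf] at hx ⊢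
      exact hx.2
    · intro x hx g hg
      rw [Subgroup.mem_subgroupOf] at hx hg ⊢
      have hg' : (g : G) * (x : G) * (g : G)⁻¹ ∈ T' := hg
      exact ⟨hD.2 _ hx.1 (g : G) (hT'P hg'), hg'⟩
  have hAN : (H.subtype ⁻¹' A) ⊆ ((R : Subgroup ↥H) : Set ↥H) := by
    intro a ha
    rw [hR, SetLike.mem_coe, Subgroup.mem_subgroupOf]
    exact hA ha
  have hmN : lc (⟨h, hh⟩ : ↥H) (H.subtype ⁻¹' A) ⊆ ((R : Subgroup ↥H) : Set ↥H) := by
    rintro _ ⟨a, ha, rfl⟩
    rw [hR, SetLike.mem_coe, Subgroup.mem_subgroupOf]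
    exact hhA ⟨(a : G), ha, rfl⟩
  obtain ⟨x, hxN, hxa⟩ := hloc R _ hDN _ ⟨h, hh⟩ hAN hmN
  -- back to `G`
  have hxG := coe_mem_normalizer_map_subtype H _ hxN
  have hle : D ⊓ T' ≤ H := inf_le_right.trans hT'H
  have hmap := hW.map ↥H G H.subtype ((D ⊓ T').subgroupOf H)
    (fun y _ hy => Subtype.ext (by simpa using hy))
  rw [Subgroup.map_subgroupOf_eq_of_le hle] at hmap
  rw [← hmap] at hxG
  have hfp : fusedPart D T' = D ⊓ T' := fusedPart_eq_inf hD hT'P
  have hff : fusedFunctor W D T' = W G (D ⊓ T') := by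
    rw [fusedFunctor_of_ne_bot W (by rw [hfp]; exact hZT), hfp]
  have hact : ∀ a ∈ A, (x : G) * a * (x : G)⁻¹ = h * a * h⁻¹ := by
    intro a ha
    have haH : a ∈ H := hT'H (hA ha)
    have := hxa ⟨a, haH⟩ ha
    exact congrArg Subtype.val this
  refine ⟨1, ![1, (x : G)], rfl, ?_, ?_, ?_⟩
  · intro i
    refine ⟨fusedFunctor W D, rfl, ?_⟩
    have hi : i = 0 := Subsingleton.elim _ _
    subst hi
    have e : (![1, (x : G)] : Fin 2 → G) (Fin.succ 0) * ((![1, (x : G)] : Fin 2 → G) (Fin.castSucc 0))⁻¹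
        = (x : G) := by simp
    rw [e, hff]
    exact ⟨x.2, hxG⟩
  · intro i
    fin_cases i
    · rintro _ ⟨a, ha, rfl⟩
      simpa using hA ha
    · rintro _ ⟨a, ha, rfl⟩
      have := hact a ha
      simp only [Fin.mk_one, Matrix.cons_val_one, Matrix.cons_val_fin_one]
      rw [this]
      exact hhA ⟨a, ha, rfl⟩
  · intro a ha
    exact hact a ha

/-- control in all `N_G(T)`, `1 ≠ T ≤ P` with `N_P(T)` Sylow in `N_G(T)`, gives control in `G` -/
theorem exists_of_locals (hW : PFunctor p W) (P : Sylow p G) (D : Subgroup G)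
    (hD : Cfsg.IsStronglyClosed D (P : Subgroup G)) (hD0 : D ≠ ⊥)
    (hloc : ∀ T : Subgroup G, T ≤ (P : Subgroup G) → T ≠ ⊥ →
      ¬ p ∣ ((P : Subgroup G) ⊓ Subgroup.normalizer ((T : Subgroup G) : Set G)).relIndex
        (Subgroup.normalizer ((T : Subgroup G) : Set G)) →
      CtlAll p W ↥(Subgroup.normalizer ((T : Subgroup G) : Set G)))
    (A : Set G) (g : G) (hA : A ⊆ ((P : Subgroup G) : Set G))
    (hgA : lc g A ⊆ ((P : Subgroup G) : Set G)) :
    ∃ x ∈ Subgroup.normalizer ((W G D : Subgroup G) : Set G), ∀ a ∈ A, x * a * x⁻¹ = g * a * g⁻¹ := by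
  -- a central element of `P` in `D`
  have hPn : (P : Subgroup G) ≤ Subgroup.normalizer (D : Set G) :=
    Cfsg.Agent.Lib.Helper4.ZJ2.sylow_le_normalizer_of_stronglyClosed _ D hD
  haveI hDn : (D.subgroupOf (P : Subgroup G)).Normal :=
    (Subgroup.normal_subgroupOf_iff_le_normalizer hD.1).mpr hPn
  have hne' : D.subgroupOf (P : Subgroup G) ≠ ⊥ := by
    intro h0
    apply hD0
    rw [eq_bot_iff]
    intro x hx
    have : (⟨x, hD.1 hx⟩ : ↥(P : Subgroup G)) ∈ D.subgroupOf (P : Subgroup G) :=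
      Subgroup.mem_subgroupOf.mpr hx
    rw [h0, Subgroup.mem_bot] at this
    exact Subgroup.mem_bot.mpr (congrArg Subtype.val this)
  obtain ⟨z, hzD, hzZ, hz1⟩ := Cfsg.Agent.Lib.Lead.PGroup.exists_mem_center_of_normal
    (P.isPGroup' : IsPGroup p ↥(P : Subgroup G)) (D.subgroupOf (P : Subgroup G)) hne'
  have hZ : ∀ T : Subgroup G, T ≤ (P : Subgroup G) →
      D ⊓ ((P : Subgroup G) ⊓ Subgroup.normalizer (T : Set G)) ≠ ⊥ := by
    intro T hTP h0
    have hzT : (z : G) ∈ Subgroup.normalizer (T : Set G) := by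
      apply mem_normalizer_of_conj_mem
      intro t ht
      have h1 := Subgroup.mem_center_iff.mp hzZ ⟨t, hTP ht⟩
      have h2 : t * (z : G) = (z : G) * t := congrArg Subtype.val h1
      have e : (z : G) * t * (z : G)⁻¹ = t := by rw [← h2]; group
      rw [e]; exact ht
    have : (z : G) ∈ D ⊓ ((P : Subgroup G) ⊓ Subgroup.normalizer (T : Set G)) :=
      ⟨Subgroup.mem_subgroupOf.mp hzD, z.2, hzT⟩
    rw [h0, Subgroup.mem_bot] at this
    exact hz1 (Subtype.ext this)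
  have h𝓦 : ∀ W' ∈ ({fusedFunctor W D} : Set (Subgroup G → Subgroup G)),
      Cfsg.IsConjugacyFunctor p W' := by
    rintro _ rfl
    exact isConjugacyFunctor_fusedFunctor hW D
  have hfam := Cfsg.Agent.S1959.result P {fusedFunctor W D} h𝓦
    (fun T hTP hTne hfn => local_family_control_D hW P D hD hZ T hTP hTne hfn (hloc T hTP hTne hfn))
  have hN : IsSylowIn p (P : Subgroup G) ⊤ := IsSylowIn.of_sylow_le P le_top
  obtain ⟨n, c, hc0, hstep, -, hlast⟩ := Cfsg.Agent.S1959.family_control_any_sylow h𝓦 hfam hN A g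
    (Subgroup.mem_top g) hA hgA
  have hfp : fusedPart D (P : Subgroup G) = D := by
    rw [fusedPart_eq_inf hD le_rfl]; exact inf_eq_left.mpr hD.1
  have hff : fusedFunctor W D (P : Subgroup G) = W G D := by
    rw [fusedFunctor_of_ne_bot W (by rw [hfp]; exact hD0), hfp]
  have hall : ∀ i : Fin (n + 1), c i ∈ Subgroup.normalizer ((W G D : Subgroup G) : Set G) := by
    intro i
    induction i using Fin.induction with
    | zero => rw [hc0]; exact Subgroup.one_mem _
    | succ i ih =>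
      obtain ⟨W', hW', hi⟩ := hstep i
      have hW'' : W' = fusedFunctor W D := hW'
      rw [hW'', hff] at hi
      have e : c i.succ = c i.succ * (c i.castSucc)⁻¹ * c i.castSucc := by group
      rw [e]
      exact Subgroup.mul_mem _ hi.2 ih
  exact ⟨c (Fin.last n), hall _, fun a ha => hlast a ha⟩

end locals

end Cfsg.Agent.Lib.Helper7.GTD


namespace Cfsg.Agent.Lib.Helper7.GTD

open Cfsg Cfsg.Agent.Lib.Helper7 Cfsg.Agent.Lib.Lead.Conj Cfsg.Agent.Lib.Lead.ConjFamily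
  Cfsg.Agent.S1963 Cfsg.Agent.S1965 Cfsg.Agent.S1961 Cfsg.Agent.S1959 Cfsg.Agent.Lib.Helper4.GT
  Cfsg.Agent.Lib.Helper4.GTFus Cfsg.Agent.Lib.Helper4.PNil

universe u

section main

variable {p : ℕ} [Fact p.Prime] {W : ∀ (X : Type u) [Group X], Subgroup X → Subgroup X}

/-- **Glauberman.** For odd `p`, a functor `W` with the ZJ-property and a finite group `X` not involving `Qd(p)`:
`N_X(W(D))` controls strong fusion in a Sylow `p`-subgroup `S`, for every `D` strongly closed in `S`. -/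
theorem mainD (hp2 : p ≠ 2) (hW : PFunctor p W) :
    ∀ (n : ℕ) (X : Type u) [Group X] [Finite X], Nat.card X = n →
      ¬ Cfsg.Involves ↥(Cfsg.qd p) X → CtlAll p W X := by
  intro n
  induction n using Nat.strong_induction_on with
  | _ n ih =>
  intro X _ _ hn hfree S D hD A g hA hgA
  have hp : p.Prime := Fact.out
  haveI hPn : (Cfsg.pCore p X).Normal := Cfsg.Agent.H1.pCore_normal p
  set P := Cfsg.pCore p X with hP
  have hPp : IsPGroup p ↥P := Cfsg.Agent.H1.pCore_isPGroup p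
  have hPS : P ≤ (S : Subgroup X) := hPp.le_sylow_of_normal S
  have hPcore : ∀ Q : Subgroup X, Q.Normal → IsPGroup p ↥Q → Q ≤ P :=
    fun Q hQn hQp => Cfsg.Agent.H1.le_pCore hQn hQp
  -- step 0: `D ≤ O_p(X)`
  by_cases hDP : D ≤ P
  · refine ⟨g, ?_, fun a _ => rfl⟩
    rw [normalizer_W_eq_top_of_le_normal hW hD hPS hDP]; exact Subgroup.mem_top g
  have hD0 : D ≠ ⊥ := by
    rintro rfl; exact hDP bot_le
  -- the induction hypothesis
  have ih_sub : ∀ Y : Subgroup X, Y ≠ ⊤ → CtlAll p W ↥Y := by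
    intro Y hY
    have h1 : Nat.card ↥Y < n := by
      rw [← hn]
      refine lt_of_le_of_ne (Nat.le_of_dvd Nat.card_pos (Subgroup.card_subgroup_dvd_card Y)) ?_
      intro h
      exact hY ((Subgroup.card_eq_iff_eq_top Y).mp h)
    exact ih _ h1 ↥Y rfl (fun h => hfree
      (Cfsg.Agent.Lib.Helper7.involves_of_injective Y.subtype Y.subtype_injective h))
  have ih_quot : ∀ (M : Subgroup X) [M.Normal], M ≠ ⊥ → CtlAll p W (X ⧸ M) := by
    intro M _ hM
    have h1 : Nat.card (X ⧸ M) < n := by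
      rw [← hn, Subgroup.card_eq_card_quotient_mul_card_subgroup M]
      have h2 : 1 < Nat.card ↥M := (Subgroup.one_lt_card_iff_ne_bot M).mpr hM
      have h3 : 0 < Nat.card (X ⧸ M) := Nat.card_pos
      nlinarith
    exact ih _ h1 (X ⧸ M) rfl (fun h => hfree
      (Cfsg.Agent.Lib.Helper7.QuadLin.involves_of_surjective (QuotientGroup.mk' M)
        (QuotientGroup.mk'_surjective M) h))
  have hsub : ∀ Y : Subgroup X, Y ≠ ⊤ → (S : Subgroup X) ≤ Y → ∀ (A : Set X) (y : X), y ∈ Y →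
      A ⊆ ((S : Subgroup X) : Set X) → lc y A ⊆ ((S : Subgroup X) : Set X) →
      Ch (kf (W X D)) (S : Subgroup X) A y :=
    fun Y hY hSY A y hy hA hyA => ch_kf_of_exists hA hyA
      (exists_of_subgroup hW S D hD Y hSY (ih_sub Y hY) A y hy hA hyA)
  -- case 1: `O_{p'}(X) ≠ 1`
  by_cases hM : Cfsg.pPrimeCore p X = ⊥
  swap
  · haveI : (Cfsg.pPrimeCore p X).Normal := Cfsg.Agent.H1.pPrimeCore_normal p
    exact exists_of_quotient_p' hW S D hD (Cfsg.pPrimeCore p X)
      (Cfsg.Agent.H1.pPrimeCore_coprime p) (ih_quot _ hM) A g hA hgA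
  -- case 2a: `O_p(X) = 1`
  by_cases hPbot : P = ⊥
  · apply exists_of_locals hW S D hD hD0 _ A g hA hgA
    intro T hTS hTne hidx
    have hNT : Subgroup.normalizer (T : Set X) ≠ ⊤ := by
      intro h
      apply hTne
      rw [eq_bot_iff, ← hPbot]
      exact hPcore T (Subgroup.normalizer_eq_top_iff.mp h) (S.isPGroup'.to_le hTS)
    exact ih_sub _ hNT
  -- case 2b
  set C : Subgroup X := Subgroup.centralizer (P : Set X) with hC
  haveI hCn : C.Normal := Subgroup.normal_centralizer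
  by_cases hSC : (S : Subgroup X) ⊓ C ≤ P
  · have hc := centralizer_pCore_le S hM hSC
    have hnorm := hW.normal X S D hD hc
      (fun V _ hV => Cfsg.Agent.Lib.Helper7.QuadLin.isPStableOn_of_qd_free hp2 hfree V hV)
    refine ⟨g, ?_, fun a _ => rfl⟩
    rw [Subgroup.normalizer_eq_top_iff.mpr hnorm]; exact Subgroup.mem_top g
  -- case (b2)
  apply exists_of_ch_kf (S := (S : Subgroup X))
  set H : Subgroup X := P ⊔ C with hH
  haveI hHn : H.Normal := by rw [hH]; infer_instance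
  have hSD : (S : Subgroup X) ≤ Subgroup.normalizer (((S : Subgroup X) ⊓ H : Subgroup X) : Set X) := by
    intro s hs
    apply mem_normalizer_of_cj_le
    unfold cj
    rw [Subgroup.map_inf_eq _ _ _ (MulAut.conj s).injective]
    refine inf_le_inf (cj_le_of_mem le_rfl hs) (le_of_eq (cj_normal s H))
  have hND : Subgroup.normalizer (((S : Subgroup X) ⊓ H : Subgroup X) : Set X) ≠ ⊤ := by
    intro h
    apply hSC
    have h1 : (S : Subgroup X) ⊓ H ≤ P :=
      hPcore _ (Subgroup.normalizer_eq_top_iff.mp h) (S.isPGroup'.to_le inf_le_left)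
    exact (inf_le_inf_left _ (le_sup_right : C ≤ H)).trans h1
  by_cases hHS : H ⊔ (S : Subgroup X) = ⊤
  · -- all `p'`-elements centralize `P`
    have hCS : C ⊔ (S : Subgroup X) = ⊤ := by
      rw [eq_top_iff, ← hHS, hH]
      exact sup_le (sup_le (hPS.trans le_sup_right) le_sup_left) le_sup_right
    have hidx : ∃ k : ℕ, C.relIndex ⊤ = p ^ k := by
      rw [← hCS, Subgroup.relIndex_sup_left]
      have h1 : C.relIndex (S : Subgroup X) ∣ Nat.card ↥(S : Subgroup X) := Subgroup.relIndex_dvd_card _ _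
      obtain ⟨j, hj⟩ := IsPGroup.iff_card.mp S.isPGroup'
      rw [hj] at h1
      obtain ⟨i, -, hi⟩ := (Nat.dvd_prime_pow hp).mp h1
      exact ⟨i, hi⟩
    obtain ⟨k, hk⟩ := hidx
    have hp' : ∀ x : X, (orderOf x).Coprime p → x ∈ Subgroup.centralizer (P : Set X) := by
      intro x hx
      exact mem_of_coprime (le_top : C ≤ ⊤)
        (by rw [Subgroup.normalizer_eq_top_iff.mpr hCn]) hk (Subgroup.mem_top x) hx
    exact ch_of_quotient_p_D hW S D hD P hPS hPcore hDP hp' (ih_quot P hPbot) hsub A g hA hgA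
  · exact ch_of_generation S H (fun A y hy hA hyA => hsub _ hHS le_sup_right A y hy hA hyA)
      (fun A y hy hA hyA => hsub _ hND hSD A y hy hA hyA) A g hA hgA

end main

end Cfsg.Agent.Lib.Helper7.GTD

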