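import Mathlib
import Cfsg.Agent.H1.Class2
import Cfsg.Agent.H1.PGroup
import Cfsg.Agent.Lib.Helper7.Core
import Cfsg.Agent.Lib.Lead.PGroup

set_option autoImplicit false

namespace Cfsg.Agent.Lib.Helper7.GenEx

open scoped commutatorElement
open Cfsg.Agent.Lib.Helper7

variable {P : Type*} [Group P]

theorem commutator_le_center_of_card_prime [Finite P] {p : ℕ} [hp : Fact p.Prime]
    (hP : IsPGroup p P) (hc : Nat.card (commutator P) = p) :
    commutator P ≤ Subgroup.center P := by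
  have hne : commutator P ≠ ⊥ := by
    intro h
    rw [h, Subgroup.card_bot] at hc
    exact hp.out.one_lt.ne hc
  have h1 := Cfsg.Agent.Lib.Lead.PGroup.normal_inf_center_ne_bot hP (commutator P) hne
  have h2 : commutator P ⊓ Subgroup.center P = commutator P := by
    apply Subgroup.eq_of_le_of_card_ge inf_le_left
    have hdvd : Nat.card ↥(commutator P ⊓ Subgroup.center P) ∣ p :=
      hc ▸ Subgroup.card_dvd_of_le inf_le_left
    rcases (Nat.dvd_prime hp.out).mp hdvd with h | h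
    · exact absurd (Subgroup.card_eq_one.mp h) h1
    · rw [h, hc]
  exact h2 ▸ inf_le_right

/-- in a group of prime order every element is a power of a given nonidentity element -/
theorem exists_pow_eq_of_card_prime {Z : Type*} [Group Z] {p : ℕ} [hp : Fact p.Prime]
    (hZ : Nat.card Z = p) {u : Z} (hu : u ≠ 1) (w : Z) : ∃ k : ℕ, w = u ^ k := by
  have htop := zpowers_eq_top_of_prime_card hZ hu
  have hw : w ∈ Subgroup.zpowers u := htop ▸ Subgroup.mem_top w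
  haveI : Finite Z := Nat.finite_of_card_ne_zero (hZ ▸ hp.out.ne_zero)
  obtain ⟨k, hk⟩ := mem_powers_iff_mem_zpowers.mpr hw
  exact ⟨k, hk.symm⟩

/-- commutation with a fixed element, as a homomorphism, when commutators are central -/
def commHom (hcc : ∀ a b : P, ⁅a, b⁆ ∈ Subgroup.center P) (g : P) : P →* P where
  toFun x := ⁅x, g⁆
  map_one' := by simp
  map_mul' x y := by
    have h := Subgroup.mem_center_iff.mp (hcc y g)
    rw [commutatorElement_def, commutatorElement_def, commutatorElement_def] at *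
    have e1 : x * y * g * (x * y)⁻¹ * g⁻¹ = x * (y * g * y⁻¹ * g⁻¹) * (g * x⁻¹ * g⁻¹) := by group
    rw [e1, mul_assoc, ← h (g * x⁻¹ * g⁻¹)]
    group

theorem commHom_apply (hcc : ∀ a b : P, ⁅a, b⁆ ∈ Subgroup.center P) (g x : P) :
    commHom hcc g x = ⁅x, g⁆ := rfl

theorem commHom_eq_one_iff (hcc : ∀ a b : P, ⁅a, b⁆ ∈ Subgroup.center P) (g x : P) :
    commHom hcc g x = 1 ↔ x * g = g * x := by
  rw [commHom_apply, commutatorElement_eq_one_iff_mul_comm]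

theorem commHom_mem (hcc : ∀ a b : P, ⁅a, b⁆ ∈ Subgroup.center P) (g x : P) :
    commHom hcc g x ∈ commutator P :=
  Subgroup.commutator_mem_commutator (Subgroup.mem_top x) (Subgroup.mem_top g)


/-- a subgroup containing the commutator subgroup is normal -/
theorem normal_of_commutator_le (Y : Subgroup P) (h : commutator P ≤ Y) : Y.Normal := by
  refine ⟨fun y hy g => ?_⟩
  have h1 : ⁅g, y⁆ ∈ Y :=
    h (Subgroup.commutator_mem_commutator (Subgroup.mem_top g) (Subgroup.mem_top y))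
  have : g * y * g⁻¹ = ⁅g, y⁆ * y := by rw [commutatorElement_def]; group
  rw [this]
  exact Y.mul_mem h1 hy

theorem card_eq_card_ker_mul_card_range {G H : Type*} [Group G] [Group H] (φ : G →* H) :
    Nat.card G = Nat.card φ.ker * Nat.card φ.range := by
  rw [← Subgroup.index_ker, Subgroup.card_mul_index]

/-- a homomorphism with nontrivial values in a subgroup of prime order has range of that order -/
theorem card_range_eq_prime {G H : Type*} [Group G] [Group H] {p : ℕ} [hp : Fact p.Prime]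
    (Z : Subgroup H) (hZ : Nat.card Z = p) (φ : G →* H) (hle : ∀ x, φ x ∈ Z)
    (hne : ∃ x, φ x ≠ 1) : Nat.card φ.range = p := by
  have hle' : φ.range ≤ Z := by rintro _ ⟨x, rfl⟩; exact hle x
  have hdvd : Nat.card φ.range ∣ p := hZ ▸ Subgroup.card_dvd_of_le hle'
  rcases (Nat.dvd_prime hp.out).mp hdvd with h | h
  · exfalso
    obtain ⟨x, hx⟩ := hne
    have hb : φ.range = ⊥ := Subgroup.card_eq_one.mp h
    have : φ x ∈ φ.range := ⟨x, rfl⟩
    rw [hb, Subgroup.mem_bot] at this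
    exact hx this
  · exact h

/-- **Structure of a generalized extraspecial group with an elementary abelian centralizer.** -/
theorem exists_decomp [Finite P] {p : ℕ} [hp : Fact p.Prime] (hP : IsPGroup p P)
    (hΦ : frattini P = commutator P) (hc : Nat.card (commutator P) = p)
    (z₁ t : P) (hab : ∀ x y : P, x * z₁ = z₁ * x → y * z₁ = z₁ * y → x * y = y * x)
    (hexp : ∀ x : P, x * z₁ = z₁ * x → x ^ p = 1) (ht : t * z₁ ≠ z₁ * t) :
    ∃ E₀ A₀ : Subgroup P, Nat.card E₀ = p ^ 3 ∧ z₁ ∈ E₀ ∧ t ∈ E₀ ∧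
      (∀ a ∈ A₀, a ^ p = 1) ∧ (∀ a ∈ A₀, ∀ b ∈ A₀, a * b = b * a) ∧
      Nonempty (P ≃* ↥E₀ × ↥A₀) ∧ (p ≠ 2 → t ^ p = 1 → ∀ x ∈ E₀, x ^ p = 1) := by
  have hpp : p.Prime := hp.out
  have hcen : commutator P ≤ Subgroup.center P := commutator_le_center_of_card_prime hP hc
  have hcc : ∀ a b : P, ⁅a, b⁆ ∈ Subgroup.center P := fun a b =>
    hcen (Subgroup.commutator_mem_commutator (Subgroup.mem_top a) (Subgroup.mem_top b))
  have hZpow : ∀ w ∈ commutator P, w ^ p = 1 := by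
    intro w hw
    have := pow_card_eq_one' (G := ↥(commutator P)) (x := ⟨w, hw⟩)
    rw [hc] at this
    exact congrArg Subtype.val this
  have hpowZ : ∀ x : P, x ^ p ∈ commutator P := fun x =>
    hΦ ▸ Cfsg.Agent.H1.pow_p_mem_frattini hP x
  -- the generator
  obtain ⟨z, hzdef⟩ : ∃ z, z = ⁅t, z₁⁆ := ⟨_, rfl⟩
  have hz1 : z ≠ 1 := by
    rw [hzdef, Ne, commutatorElement_eq_one_iff_mul_comm]; exact ht
  have hzZ : z ∈ commutator P := hzdef ▸
    Subgroup.commutator_mem_commutator (Subgroup.mem_top t) (Subgroup.mem_top z₁)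
  have hzc : ∀ x : P, x * z = z * x := fun x => Subgroup.mem_center_iff.mp (hcen hzZ) x
  have hzp : z ^ p = 1 := hZpow z hzZ
  have hzord : orderOf z = p := orderOf_eq_prime hzp hz1
  -- every element of `Z₀` is a power of a given nonidentity element
  have hgen : ∀ u ∈ commutator P, u ≠ 1 → ∀ w ∈ commutator P, ∃ k : ℕ, w = u ^ k := by
    intro u hu hu1 w hw
    have hu1' : (⟨u, hu⟩ : ↥(commutator P)) ≠ 1 := fun h => hu1 (congrArg Subtype.val h)
    obtain ⟨k, hk⟩ := exists_pow_eq_of_card_prime hc hu1' ⟨w, hw⟩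
    exact ⟨k, congrArg Subtype.val hk⟩
  obtain ⟨ι, hι⟩ : ∃ ι, ι = commHom hcc z₁ := ⟨_, rfl⟩
  obtain ⟨κ, hκ⟩ : ∃ κ, κ = commHom hcc t := ⟨_, rfl⟩
  have hιt : ι t = z := by rw [hι, commHom_apply, hzdef]
  have hκz₁ : κ z₁ = z⁻¹ := by rw [hκ, commHom_apply, hzdef, commutatorElement_inv]
  have hι1 : ∀ x, ι x = 1 ↔ x * z₁ = z₁ * x := fun x => by rw [hι]; exact commHom_eq_one_iff hcc z₁ x
  have hκ1 : ∀ x, κ x = 1 ↔ x * t = t * x := fun x => by rw [hκ]; exact commHom_eq_one_iff hcc t x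
  have hιZ : ∀ x, ι x ∈ commutator P := fun x => by rw [hι]; exact commHom_mem hcc z₁ x
  have hκZ : ∀ x, κ x ∈ commutator P := fun x => by rw [hκ]; exact commHom_mem hcc t x
  have hz₁p : z₁ ^ p = 1 := hexp z₁ rfl
  -- decomposition of elements
  have hdec1 : ∀ x : P, ∃ i : ℕ, (t ^ i)⁻¹ * x * z₁ = z₁ * ((t ^ i)⁻¹ * x) := by
    intro x
    obtain ⟨i, hi⟩ := hgen z hzZ hz1 (ι x) (hιZ x)
    refine ⟨i, (hι1 _).mp ?_⟩
    rw [map_mul, map_inv, map_pow, hιt, hi, inv_mul_cancel]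
  have hzinv1 : z⁻¹ ≠ 1 := fun h => hz1 (inv_eq_one.mp h)
  have hdec2 : ∀ c : P, c * z₁ = z₁ * c → ∃ j : ℕ, (z₁ ^ j)⁻¹ * c * t = t * ((z₁ ^ j)⁻¹ * c) ∧
      (z₁ ^ j)⁻¹ * c * z₁ = z₁ * ((z₁ ^ j)⁻¹ * c) := by
    intro c hc'
    obtain ⟨j, hj⟩ := hgen z⁻¹ ((commutator P).inv_mem hzZ) hzinv1 (κ c) (hκZ c)
    refine ⟨j, (hκ1 _).mp ?_, ?_⟩
    · rw [map_mul, map_inv, map_pow, hκz₁, hj, inv_mul_cancel]
    · have h1 : Commute (z₁ ^ j)⁻¹ z₁ := ((Commute.refl z₁).pow_left j).inv_left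
      have h2 : Commute c z₁ := hc'
      exact (h1.mul_left h2).eq
  -- the central subgroup `D`
  obtain ⟨D, hD⟩ : ∃ D : Subgroup P, D = Subgroup.centralizer {z₁} ⊓ Subgroup.centralizer {t} :=
    ⟨_, rfl⟩
  have hmemD : ∀ d, d ∈ D ↔ d * z₁ = z₁ * d ∧ d * t = t * d := by
    intro d
    rw [hD, Subgroup.mem_inf, Subgroup.mem_centralizer_singleton_iff,
      Subgroup.mem_centralizer_singleton_iff]
  have hDcen : ∀ d ∈ D, ∀ x : P, d * x = x * d := by
    intro d hd x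
    obtain ⟨hd1, hd2⟩ := (hmemD d).mp hd
    obtain ⟨i, hi⟩ := hdec1 x
    have h1 : Commute d (t ^ i) := (show Commute d t from hd2).pow_right i
    have h2 : Commute d ((t ^ i)⁻¹ * x) := hab d _ hd1 hi
    have : x = t ^ i * ((t ^ i)⁻¹ * x) := by group
    rw [this]
    exact (h1.mul_right h2).eq
  have hzD : z ∈ D := (hmemD z).mpr ⟨(hzc z₁).symm, (hzc t).symm⟩
  letI instD : CommGroup ↥D :=
    { (inferInstance : Group ↥D) with
      mul_comm := fun a b => Subtype.ext (hDcen a a.2 b) }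
  have hDexp : ∀ d : ↥D, d ^ p = 1 := fun d =>
    Subtype.ext (hexp d ((hmemD d).mp d.2).1)
  have hzD1 : (⟨z, hzD⟩ : ↥D) ≠ 1 := fun h => hz1 (congrArg Subtype.val h)
  obtain ⟨f, hf⟩ := exists_hom_zmod_of_elemAb p hDexp ⟨z, hzD⟩ hzD1
  obtain ⟨A₀, hA₀⟩ : ∃ A₀ : Subgroup P, A₀ = f.ker.map D.subtype := ⟨_, rfl⟩
  have hmemA : ∀ a, a ∈ A₀ ↔ ∃ h : a ∈ D, f ⟨a, h⟩ = 1 := by
    intro a
    rw [hA₀]
    constructor
    · rintro ⟨d, hd, rfl⟩
      exact ⟨d.2, MonoidHom.mem_ker.mp hd⟩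
    · rintro ⟨h, h1⟩
      exact ⟨⟨a, h⟩, MonoidHom.mem_ker.mpr h1, rfl⟩
  have hA₀D : A₀ ≤ D := fun a ha => ((hmemA a).mp ha).1
  have hMcard : Nat.card (Multiplicative (ZMod p)) = p := by
    rw [Nat.card_eq_fintype_card]; simp
  have hdec3 : ∀ d ∈ D, ∃ k : ℕ, (z ^ k)⁻¹ * d ∈ A₀ := by
    intro d hd
    obtain ⟨k, hk⟩ := exists_pow_eq_of_card_prime hMcard hf (f ⟨d, hd⟩)
    refine ⟨k, (hmemA _).mpr ⟨D.mul_mem (D.inv_mem (D.pow_mem hzD k)) hd, ?_⟩⟩
    have : (⟨(z ^ k)⁻¹ * d, D.mul_mem (D.inv_mem (D.pow_mem hzD k)) hd⟩ : ↥D) =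
        (⟨z, hzD⟩ ^ k)⁻¹ * ⟨d, hd⟩ := rfl
    rw [this, map_mul, map_inv, map_pow, hk, inv_mul_cancel]
  -- the subgroup `E₀`
  haveI hYn : (Subgroup.zpowers z₁ ⊔ commutator P).Normal :=
    normal_of_commutator_le _ le_sup_right
  obtain ⟨E₀, hE₀⟩ : ∃ E₀ : Subgroup P,
      E₀ = Subgroup.zpowers t ⊔ (Subgroup.zpowers z₁ ⊔ commutator P) := ⟨_, rfl⟩
  have htE : t ∈ E₀ := hE₀ ▸ (le_sup_left : Subgroup.zpowers t ≤ _) (Subgroup.mem_zpowers t)
  have hz₁E : z₁ ∈ E₀ := hE₀ ▸ (le_sup_right : _ ≤ Subgroup.zpowers t ⊔ _)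
    ((le_sup_left : Subgroup.zpowers z₁ ≤ _) (Subgroup.mem_zpowers z₁))
  have hZE : commutator P ≤ E₀ := hE₀ ▸ le_trans le_sup_right le_sup_right
  have hEform : ∀ x ∈ E₀, ∃ i j : ℤ, ∃ w ∈ commutator P, x = t ^ i * (z₁ ^ j * w) := by
    intro x hx
    rw [hE₀] at hx
    obtain ⟨a, ha, y, hy, rfl⟩ := Subgroup.mem_sup_of_normal_right.mp hx
    obtain ⟨b, hb, w, hw, rfl⟩ := Subgroup.mem_sup_of_normal_right.mp hy
    obtain ⟨i, rfl⟩ := Subgroup.mem_zpowers_iff.mp ha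
    obtain ⟨j, rfl⟩ := Subgroup.mem_zpowers_iff.mp hb
    exact ⟨i, j, w, hw, rfl⟩
  -- `E₀ ∩ A₀ = 1`
  have hdisj : ∀ x ∈ E₀, x ∈ A₀ → x = 1 := by
    intro x hxE hxA
    obtain ⟨i, j, w, hw, rfl⟩ := hEform x hxE
    obtain ⟨hxD, hfx⟩ := (hmemA _).mp hxA
    obtain ⟨hx1, hx2⟩ := (hmemD _).mp hxD
    have hwc : ∀ y : P, y * w = w * y := fun y => Subgroup.mem_center_iff.mp (hcen hw) y
    -- `t ^ i` commutes with `z₁`
    have h1 : Commute (z₁ ^ j * w) z₁ :=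
      (((Commute.refl z₁).zpow_left j)).mul_left (hwc z₁).symm
    have h2 : Commute (t ^ i) z₁ := by
      have h3 : Commute (t ^ i * (z₁ ^ j * w)) z₁ := hx1
      have h4 := h3.mul_left h1.inv_left
      have e : t ^ i * (z₁ ^ j * w) * (z₁ ^ j * w)⁻¹ = t ^ i := by group
      have h5 : Commute ((t ^ i * (z₁ ^ j * w)) * (z₁ ^ j * w)⁻¹) z₁ := h3.mul_left h1.inv_left
      rwa [e] at h5
    have h3 : z ^ i = 1 := by
      have := (hι1 (t ^ i)).mpr h2.eq
      rwa [map_zpow, hιt] at this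
    have h4 : (p : ℤ) ∣ i := by
      rw [← hzord]; exact orderOf_dvd_iff_zpow_eq_one.mpr h3
    obtain ⟨m, rfl⟩ := h4
    have h5 : t ^ ((p : ℤ) * m) ∈ commutator P := by
      rw [zpow_mul, zpow_natCast]
      exact (commutator P).zpow_mem (hpowZ t) m
    have htic : ∀ y : P, y * t ^ ((p : ℤ) * m) = t ^ ((p : ℤ) * m) * y :=
      fun y => Subgroup.mem_center_iff.mp (hcen h5) y
    -- `z₁ ^ j` commutes with `t`
    have h6 : Commute (z₁ ^ j) t := by
      have h7 : Commute (t ^ ((p : ℤ) * m) * (z₁ ^ j * w)) t := hx2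
      have e : z₁ ^ j = (t ^ ((p : ℤ) * m))⁻¹ * (t ^ ((p : ℤ) * m) * (z₁ ^ j * w)) * w⁻¹ := by group
      rw [e]
      exact ((show Commute (t ^ ((p : ℤ) * m)) t from (htic t).symm).inv_left.mul_left h7).mul_left
        (show Commute w t from (hwc t).symm).inv_left
    have h8 : (z⁻¹) ^ j = 1 := by
      have := (hκ1 (z₁ ^ j)).mpr h6.eq
      rwa [map_zpow, hκz₁] at this
    have h9 : z ^ j = 1 := by
      rw [inv_zpow, inv_eq_one] at h8; exact h8
    have h10 : (p : ℤ) ∣ j := by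
      rw [← hzord]; exact orderOf_dvd_iff_zpow_eq_one.mpr h9
    obtain ⟨n, rfl⟩ := h10
    have h11 : z₁ ^ ((p : ℤ) * n) = 1 := by
      rw [zpow_mul, zpow_natCast, hz₁p, one_zpow]
    -- the element is in `Z₀ ∩ A₀`
    have hxZ : t ^ ((p : ℤ) * m) * (z₁ ^ ((p : ℤ) * n) * w) ∈ commutator P := by
      rw [h11, one_mul]; exact (commutator P).mul_mem h5 hw
    obtain ⟨k, hk⟩ := hgen z hzZ hz1 _ hxZ
    have h12 : f ⟨z, hzD⟩ ^ k = 1 := by
      have : (⟨t ^ ((p : ℤ) * m) * (z₁ ^ ((p : ℤ) * n) * w), hxD⟩ : ↥D) = ⟨z, hzD⟩ ^ k :=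
        Subtype.ext hk
      rw [this, map_pow] at hfx
      exact hfx
    have h13 : orderOf (f ⟨z, hzD⟩) = p := by
      apply orderOf_eq_prime _ hf
      have := pow_card_eq_one' (G := Multiplicative (ZMod p)) (x := f ⟨z, hzD⟩)
      rwa [hMcard] at this
    have h14 : p ∣ k := by
      rw [← h13]; exact orderOf_dvd_of_pow_eq_one h12
    obtain ⟨k', rfl⟩ := h14
    rw [hk, pow_mul, hzp, one_pow]
  -- `P = E₀ A₀`
  have hprod : ∀ x : P, ∃ e ∈ E₀, ∃ a ∈ A₀, x = e * a := by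
    intro x
    obtain ⟨i, hi⟩ := hdec1 x
    obtain ⟨j, hj1, hj2⟩ := hdec2 _ hi
    have hdD : (z₁ ^ j)⁻¹ * ((t ^ i)⁻¹ * x) ∈ D := (hmemD _).mpr ⟨hj2, hj1⟩
    obtain ⟨k, hk⟩ := hdec3 _ hdD
    refine ⟨t ^ i * z₁ ^ j * z ^ k, ?_, _, hk, by group⟩
    exact E₀.mul_mem (E₀.mul_mem (E₀.pow_mem htE i) (E₀.pow_mem hz₁E j)) (E₀.pow_mem (hZE hzZ) k)
  -- the isomorphism
  have hcomm : ∀ (e : ↥E₀) (a : ↥A₀), Commute (E₀.subtype e) (A₀.subtype a) :=
    fun e a => (hDcen a (hA₀D a.2) e).symm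
  let Ψ : ↥E₀ × ↥A₀ →* P := MonoidHom.noncommCoprod E₀.subtype A₀.subtype hcomm
  have hΨinj : Function.Injective Ψ := by
    rw [injective_iff_map_eq_one]
    rintro ⟨e, a⟩ h
    have h' : (e : P) * (a : P) = 1 := h
    have he : (e : P) = (a : P)⁻¹ := eq_inv_of_mul_eq_one_left h'
    have he1 : (e : P) = 1 := by
      apply hdisj _ e.2
      rw [he]; exact A₀.inv_mem a.2
    have ha1 : (a : P) = 1 := by rw [he1, one_mul] at h'; exact h'
    exact Prod.ext (Subtype.ext he1) (Subtype.ext ha1)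
  have hΨsurj : Function.Surjective Ψ := by
    intro x
    obtain ⟨e, he, a, ha, rfl⟩ := hprod x
    exact ⟨(⟨e, he⟩, ⟨a, ha⟩), rfl⟩
  let Ψe : ↥E₀ × ↥A₀ ≃* P := MulEquiv.ofBijective Ψ ⟨hΨinj, hΨsurj⟩
  refine ⟨E₀, A₀, ?_, hz₁E, htE, ?_, ?_, ⟨Ψe.symm⟩, ?_⟩
  · -- the order of `E₀`
    have h1 : Nat.card P = Nat.card ↥E₀ * Nat.card ↥A₀ := by
      rw [← Nat.card_prod]; exact (Nat.card_congr Ψe.toEquiv).symm
    have h2 : Nat.card P = Nat.card ι.ker * p := by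
      rw [card_eq_card_ker_mul_card_range ι,
        card_range_eq_prime (commutator P) hc ι hιZ ⟨t, hιt ▸ hz1⟩]
    obtain ⟨κ', hκ'⟩ : ∃ κ' : ↥ι.ker →* P, κ' = κ.comp ι.ker.subtype := ⟨_, rfl⟩
    have hz₁ker : z₁ ∈ ι.ker := MonoidHom.mem_ker.mpr ((hι1 z₁).mpr rfl)
    have h3 : Nat.card ι.ker = Nat.card κ'.ker * p := by
      rw [card_eq_card_ker_mul_card_range κ',
        card_range_eq_prime (commutator P) hc κ' (fun x => by rw [hκ']; exact hκZ _)
          ⟨⟨z₁, hz₁ker⟩, by rw [hκ']; show κ z₁ ≠ 1; rw [hκz₁]; exact hzinv1⟩]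
    have h4 : Nat.card κ'.ker = Nat.card ↥D := by
      have hDle : D ≤ ι.ker := fun d hd => MonoidHom.mem_ker.mpr ((hι1 d).mpr ((hmemD d).mp hd).1)
      have e : κ'.ker = D.subgroupOf ι.ker := by
        ext x
        rw [MonoidHom.mem_ker, Subgroup.mem_subgroupOf, hmemD, hκ']
        show κ (x : P) = 1 ↔ _
        rw [hκ1]
        constructor
        · intro h; exact ⟨(hι1 _).mp (MonoidHom.mem_ker.mp x.2), h⟩
        · intro h; exact h.2
      rw [e]
      exact Nat.card_congr (Subgroup.subgroupOfEquivOfLe hDle).toEquiv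
    have h5 : Nat.card ↥D = Nat.card f.ker * p := by
      rw [card_eq_card_ker_mul_card_range f]
      congr 1
      have : f.range = ⊤ := by
        rw [eq_top_iff]
        intro y _
        obtain ⟨k, hk⟩ := exists_pow_eq_of_card_prime hMcard hf y
        exact ⟨⟨z, hzD⟩ ^ k, by rw [map_pow, hk]⟩
      rw [this, Subgroup.card_top, hMcard]
    have h6 : Nat.card f.ker = Nat.card ↥A₀ := by
      rw [hA₀]
      exact (Subgroup.card_map_of_injective (Subgroup.subtype_injective D)).symm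
    have hApos : 0 < Nat.card ↥A₀ := Nat.card_pos
    have : Nat.card ↥E₀ * Nat.card ↥A₀ = p ^ 3 * Nat.card ↥A₀ := by
      rw [← h1, h2, h3, h4, h5, h6]; ring
    exact Nat.eq_of_mul_eq_mul_right hApos this
  · intro a ha
    exact hexp a ((hmemD a).mp (hA₀D ha)).1
  · intro a ha b _
    exact hDcen a (hA₀D ha) b
  · intro hp2 htp x hx
    obtain ⟨i, j, w, hw, rfl⟩ := hEform x hx
    have hcp : ∀ a b : P, ⁅a, b⁆ ^ p = 1 := fun a b => hZpow _
      (Subgroup.commutator_mem_commutator (Subgroup.mem_top a) (Subgroup.mem_top b))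
    rw [Cfsg.Agent.H1.class2_mul_pow_prime hcc hpp hp2 _ _ (hcp _ _),
      Cfsg.Agent.H1.class2_mul_pow_prime hcc hpp hp2 _ _ (hcp _ _), hZpow w hw,
      ← zpow_natCast, ← zpow_mul, mul_comm, zpow_mul, zpow_natCast, htp, one_zpow,
      ← zpow_natCast (z₁ ^ j), ← zpow_mul, mul_comm, zpow_mul, zpow_natCast, hz₁p, one_zpow]
    simp

end Cfsg.Agent.Lib.Helper7.GenEx
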