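import Mathlib
import Cfsg.Agent.Lib.Helper7.Stability

set_option autoImplicit false

namespace Cfsg.Agent.Lib.Helper7.GenEx

open Cfsg.Agent.Lib.Helper7

/-- powers of a nonidentity element of prime order: solving `(c ^ a) ^ i = c` -/
theorem exists_pow_pow_eq {W : Type*} [Group W] {p : ℕ} [hp : Fact p.Prime] {c : W} (hc : c ^ p = 1) {a : ℕ}
    (ha : c ^ a ≠ 1) : ∃ i : ℕ, (c ^ a) ^ i = c := by
  have hc1 : c ≠ 1 := fun h => ha (by rw [h, one_pow])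
  have hord : orderOf c = p := orderOf_eq_prime hc hc1
  have hcop : Nat.Coprime a p := by
    rw [Nat.coprime_comm, Nat.Prime.coprime_iff_not_dvd hp.out]
    rintro ⟨m, rfl⟩
    exact ha (by rw [pow_mul, hc, one_pow])
  obtain ⟨i, -, hi⟩ := Nat.exists_mul_mod_eq_one_of_coprime hcop hp.out.one_lt
  refine ⟨i, ?_⟩
  rw [← pow_mul, ← pow_mod_orderOf, hord, hi, pow_one]

variable {V : Type*} [CommGroup V]

theorem pow_apply_fixed {σ : MulAut V} {h : V} (hh : σ h = h) (n : ℕ) : (σ ^ n) h = h := by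
  have := pow_apply_of_fix (γ := σ) (x := h) (z := 1) (map_one σ) (by rw [hh, mul_one]) n
  rw [this, one_pow, mul_one]

/-- **The central involution of `SL₂(p)` as a word in two transvections.** -/
theorem exists_inverting {p : ℕ} [hp : Fact p.Prime] (z z₁ : V) (hz : z ^ p = 1) (hz₁ : z₁ ^ p = 1)
    (σ₁ σ₂ : MulAut V)
    (h1 : ∀ v, ∃ k : ℕ, σ₁ v = v * z ^ k) (h1z : σ₁ z = z)
    (a : ℕ) (h1a : σ₁ z₁ = z₁ * z ^ a) (ha : z ^ a ≠ 1)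
    (h2 : ∀ v, ∃ k : ℕ, σ₂ v = v * z₁ ^ k) (h2z : σ₂ z₁ = z₁)
    (b : ℕ) (h2b : σ₂ z = z * z₁ ^ b) (hb : z₁ ^ b ≠ 1) :
    ∃ δ ∈ Subgroup.closure {σ₁, σ₂}, δ z = z⁻¹ ∧ ∀ v, δ (σ₁ v) = σ₁ (δ v) := by
  obtain ⟨i, hi⟩ := exists_pow_pow_eq hz ha
  obtain ⟨j₀, hj₀⟩ := exists_pow_pow_eq hz₁ hb
  have hpp : p.Prime := hp.out
  -- `U = σ₁ ^ i`, `L = σ₂ ^ (j₀ (p-1))`
  obtain ⟨U, hU⟩ : ∃ U, U = σ₁ ^ i := ⟨_, rfl⟩
  obtain ⟨L, hL⟩ : ∃ L, L = σ₂ ^ (j₀ * (p - 1)) := ⟨_, rfl⟩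
  have hz₁inv : z₁ ^ (p - 1) = z₁⁻¹ := by
    apply eq_inv_of_mul_eq_one_left
    rw [← pow_succ, Nat.sub_add_cancel hpp.one_lt.le, hz₁]
  have hUz : U z = z := by rw [hU]; exact pow_apply_fixed h1z i
  have hUz₁ : U z₁ = z₁ * z := by
    rw [hU, pow_apply_of_fix (by rw [map_pow, h1z]) h1a i, hi]
  have hLz₁ : L z₁ = z₁ := by rw [hL]; exact pow_apply_fixed h2z _
  have hLz : L z = z * z₁⁻¹ := by
    rw [hL, pow_apply_of_fix (by rw [map_pow, h2z]) h2b _, pow_mul, hj₀, hz₁inv]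
  have hUfix : ∀ h, σ₁ h = h → U h = h := fun h hh => by rw [hU]; exact pow_apply_fixed hh i
  have hLfix : ∀ h, σ₂ h = h → L h = h := fun h hh => by rw [hL]; exact pow_apply_fixed hh _
  obtain ⟨w, hw⟩ : ∃ w, w = U * L * U := ⟨_, rfl⟩
  have hwz : w z = z₁⁻¹ := by
    rw [hw, MulAut.mul_apply, MulAut.mul_apply, hUz, hLz, map_mul, map_inv, hUz, hUz₁]
    rw [mul_inv, mul_comm z₁⁻¹, ← mul_assoc, mul_inv_cancel, one_mul]
  have hwz₁ : w z₁ = z := by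
    rw [hw, MulAut.mul_apply, MulAut.mul_apply, hUz₁, map_mul, hLz₁, hLz,
      mul_comm z z₁⁻¹, ← mul_assoc, mul_inv_cancel, one_mul, hUz]
  have hwfix : ∀ h, σ₁ h = h → σ₂ h = h → w h = h := by
    intro h hh1 hh2
    rw [hw, MulAut.mul_apply, MulAut.mul_apply, hUfix h hh1, hLfix h hh2, hUfix h hh1]
  refine ⟨w * w, ?_, ?_, ?_⟩
  · have hσ₁ : σ₁ ∈ Subgroup.closure ({σ₁, σ₂} : Set (MulAut V)) :=
      Subgroup.subset_closure (Set.mem_insert _ _)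
    have hσ₂ : σ₂ ∈ Subgroup.closure ({σ₁, σ₂} : Set (MulAut V)) :=
      Subgroup.subset_closure (Set.mem_insert_of_mem _ rfl)
    have hUm : U ∈ Subgroup.closure ({σ₁, σ₂} : Set (MulAut V)) := hU ▸ Subgroup.pow_mem _ hσ₁ _
    have hLm : L ∈ Subgroup.closure ({σ₁, σ₂} : Set (MulAut V)) := hL ▸ Subgroup.pow_mem _ hσ₂ _
    have hwm : w ∈ Subgroup.closure ({σ₁, σ₂} : Set (MulAut V)) :=
      hw ▸ Subgroup.mul_mem _ (Subgroup.mul_mem _ hUm hLm) hUm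
    exact Subgroup.mul_mem _ hwm hwm
  · rw [MulAut.mul_apply, hwz, map_inv, hwz₁]
  · -- commutation with `σ₁`
    have hδz : (w * w) z = z⁻¹ := by rw [MulAut.mul_apply, hwz, map_inv, hwz₁]
    have hδz₁ : (w * w) z₁ = z₁⁻¹ := by rw [MulAut.mul_apply, hwz₁, hwz]
    have hδfix : ∀ h, σ₁ h = h → σ₂ h = h → (w * w) h = h := by
      intro h hh1 hh2
      rw [MulAut.mul_apply, hwfix h hh1 hh2, hwfix h hh1 hh2]
    intro v
    -- decomposition of `v`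
    obtain ⟨k, hk⟩ := h1 v
    obtain ⟨m, hm⟩ : ∃ m : ℕ, m = k * i := ⟨_, rfl⟩
    have hσ₁pow : σ₁ (z₁ ^ m) = z₁ ^ m * z ^ k := by
      rw [map_pow, h1a, mul_pow, hm, ← pow_mul]
      congr 1
      have e : a * (k * i) = a * i * k := by ring
      rw [e, pow_mul, pow_mul, hi]
    obtain ⟨h₁, hh₁⟩ : ∃ h₁, h₁ = v * (z₁ ^ m)⁻¹ := ⟨_, rfl⟩
    have hσ₁h₁ : σ₁ h₁ = h₁ := by
      rw [hh₁, map_mul, map_inv, hσ₁pow, hk, mul_inv]
      rw [mul_assoc, mul_comm (z ^ k), mul_assoc, inv_mul_cancel, mul_one]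
    obtain ⟨k', hk'⟩ := h2 h₁
    obtain ⟨m', hm'⟩ : ∃ m' : ℕ, m' = k' * j₀ := ⟨_, rfl⟩
    have hσ₂pow : σ₂ (z ^ m') = z ^ m' * z₁ ^ k' := by
      rw [map_pow, h2b, mul_pow, hm', ← pow_mul]
      congr 1
      have e : b * (k' * j₀) = b * j₀ * k' := by ring
      rw [e, pow_mul, pow_mul, hj₀]
    obtain ⟨h, hh⟩ : ∃ h, h = h₁ * (z ^ m')⁻¹ := ⟨_, rfl⟩
    have hσ₂h : σ₂ h = h := by
      rw [hh, map_mul, map_inv, hσ₂pow, hk', mul_inv]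
      rw [mul_assoc, mul_comm (z₁ ^ k'), mul_assoc, inv_mul_cancel, mul_one]
    have hσ₁h : σ₁ h = h := by
      rw [hh, map_mul, map_inv, map_pow, h1z, hσ₁h₁]
    have hv : v = z₁ ^ m * z ^ m' * h := by
      rw [hh, hh₁]
      have e : ∀ x y : V, x * y * (v * x⁻¹ * y⁻¹) = v := by
        intro x y
        calc x * y * (v * x⁻¹ * y⁻¹) = v * (x * x⁻¹) * (y * y⁻¹) := by ac_rfl
          _ = v := by simp
      exact (e _ _).symm
    have hδh := hδfix h hσ₁h hσ₂h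
    rw [hv]
    simp only [map_mul, map_pow, map_inv, hδz, hδz₁, hδh, h1z, h1a, hσ₁h, mul_pow, inv_pow, mul_inv]

end Cfsg.Agent.Lib.Helper7.GenEx
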