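import Mathlib
import Cfsg.Prelude.Def_FusionSystem
import Cfsg.Agent.Lib.Helper7.Fusion
import Cfsg.Agent.Lib.Helper7.FusionSat3
import Cfsg.Agent.Lib.Helper7.FusionSat4
import Cfsg.Agent.Lib.Helper7.ThompsonFusC
import Cfsg.Agent.Lib.Helper7.GenExA
import Cfsg.Agent.Lib.Helper7.GenExB
import Cfsg.Agent.H1.PGroup

set_option autoImplicit false

namespace Cfsg.Agent.Lib.Helper7.GenEx

open Cfsg Cfsg.FusionSystem Cfsg.Agent.Lib.Helper7
open scoped commutatorElement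

variable {Ω : Type*} [Group Ω] {S : Subgroup Ω}

theorem centralizerIn_zpowers_of_central {z : Ω} (hzc : ∀ s ∈ S, s * z = z * s) :
    centralizerIn S (Subgroup.zpowers z) = S := by
  apply le_antisymm inf_le_left
  intro s hs
  refine ⟨hs, ?_⟩
  show s ∈ Subgroup.centralizer ((Subgroup.zpowers z : Subgroup Ω) : Set Ω)
  rw [Subgroup.mem_centralizer_iff]
  intro y hy
  obtain ⟨k, rfl⟩ := Subgroup.mem_zpowers_iff.mp hy
  have : Commute z s := (hzc s hs).symm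
  exact (this.zpow_left k).eq

theorem isReceptive_zpowers_of_central [Finite S] (p : ℕ) [Fact p.Prime] (hS : IsPGroup p S)
    (F : FusionSystem S) (hF : F.IsSaturated p) {z : Ω} (hzS : z ∈ S)
    (hzc : ∀ s ∈ S, s * z = z * s) : F.IsReceptive (Subgroup.zpowers z) := by
  have hle : Subgroup.zpowers z ≤ S := by rw [Subgroup.zpowers_le]; exact hzS
  apply ((isSaturated_iff_sylow_extension p hS F).mp hF).2
  refine ⟨hle, fun Q _ => ?_⟩
  rw [centralizerIn_zpowers_of_central hzc]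
  exact card_centralizerIn_le Q

/-- an element `F`-conjugate to a central element `z`: any subgroup `R ≤ S` containing `x` in its centre admits
a map of the system sending `x` to `z` -/
theorem exists_hom_to_central [Finite S] (p : ℕ) [Fact p.Prime] (hS : IsPGroup p S)
    (F : FusionSystem S) (hF : F.IsSaturated p) {x z : Ω} (hzS : z ∈ S)
    (hzc : ∀ s ∈ S, s * z = z * s) (hxz : F.IsConjElt x z)
    (R : Subgroup Ω) (hRS : R ≤ S) (hxR : x ∈ R) (hRx : ∀ r ∈ R, r * x = x * r) :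
    ∃ θ ∈ F.Hom R, θ ⟨x, hxR⟩ = z := by
  obtain ⟨φ, hφ, hφx⟩ := hxz
  have hr : φ.range = Subgroup.zpowers z := by
    rw [ThompsonFus.range_eq_zpowers, hφx]
  obtain ⟨ψ, hψ, hψe⟩ := (isReceptive_zpowers_of_central p hS F hF hzS hzc).2 _ φ hφ hr
  have hRle : R ≤ extender S (Subgroup.zpowers x) φ := by
    refine le_trans ?_ (centralizerIn_le_extender S (Subgroup.zpowers x) φ)
    intro r hr
    refine ⟨hRS hr, ?_⟩
    show r ∈ Subgroup.centralizer ((Subgroup.zpowers x : Subgroup Ω) : Set Ω)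
    rw [Subgroup.mem_centralizer_iff]
    intro y hy
    obtain ⟨k, rfl⟩ := Subgroup.mem_zpowers_iff.mp hy
    have : Commute x r := (hRx r hr).symm
    exact (this.zpow_left k).eq
  refine ⟨ψ.comp (Subgroup.inclusion hRle), fs_restrict_mem F hRle hψ, ?_⟩
  have := hψe x (Subgroup.mem_zpowers x) (hRle hxR)
  rw [← hφx, ← this]
  rfl

/-- the image in `Ω` of the commutator subgroup of `P` -/
def commSub (P : Subgroup Ω) : Subgroup Ω := (commutator ↥P).map P.subtype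

theorem commSub_le (P : Subgroup Ω) : commSub P ≤ P := by
  rintro _ ⟨x, -, rfl⟩
  exact x.2

theorem comm_mem_commSub {P : Subgroup Ω} {a b : Ω} (ha : a ∈ P) (hb : b ∈ P) :
    a * b * a⁻¹ * b⁻¹ ∈ commSub P := by
  refine ⟨⁅(⟨a, ha⟩ : ↥P), ⟨b, hb⟩⁆,
    Subgroup.commutator_mem_commutator (Subgroup.mem_top _) (Subgroup.mem_top _), ?_⟩
  rw [commutatorElement_def]
  rfl

theorem card_commSub (P : Subgroup Ω) : Nat.card (commSub P) = Nat.card (commutator ↥P) :=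
  Subgroup.card_map_of_injective (Subgroup.subtype_injective P)

theorem pow_mem_commSub {P : Subgroup Ω} [Finite ↥P] {p : ℕ} [Fact p.Prime] (hPp : IsPGroup p ↥P)
    (hΦ : frattini ↥P = commutator ↥P) {a : Ω} (ha : a ∈ P) : a ^ p ∈ commSub P := by
  refine ⟨(⟨a, ha⟩ : ↥P) ^ p, ?_, rfl⟩
  rw [← hΦ]
  exact Cfsg.Agent.H1.pow_p_mem_frattini hPp _

/-- **Centralizers of fused central elements.** If `z₁ ∈ P ∖ P'` is `F`-conjugate to a generator `z` of `P' = Φ(P)`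
(of order `p`, central in `S`) then `C_P(z₁)` is elementary abelian. -/
theorem elemAb_centralizer [Finite S] (p : ℕ) [hp : Fact p.Prime] (hS : IsPGroup p S)
    (F : FusionSystem S) (hF : F.IsSaturated p) (P : Subgroup Ω) (hP : F.StronglyClosed P)
    (hΦ : frattini ↥P = commutator ↥P) (hc : Nat.card (commutator ↥P) = p)
    {z z₁ : Ω} (hz : z ∈ commSub P) (hz1 : z ≠ 1) (hzc : ∀ s ∈ S, s * z = z * s)
    (hz₁P : z₁ ∈ P) (hz₁Z : z₁ ∉ commSub P) (hconj : F.IsConjElt z₁ z) :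
    ∀ x ∈ P, ∀ y ∈ P, x * z₁ = z₁ * x → y * z₁ = z₁ * y → (x * y = y * x ∧ x ^ p = 1) := by
  have hPS : P ≤ S := hP.1
  haveI : Finite ↥P := Finite.of_injective (Subgroup.inclusion hPS) (Subgroup.inclusion_injective hPS)
  have hPp : IsPGroup p ↥P := hS.to_le hPS
  have hzP : z ∈ P := commSub_le P hz
  have hzS : z ∈ S := hPS hzP
  have hcard : Nat.card (commSub P) = p := by rw [card_commSub, hc]
  -- every element of `P'` is a power of a given nonidentity element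
  have hgen : ∀ u ∈ commSub P, u ≠ 1 → ∀ w ∈ commSub P, ∃ k : ℕ, w = u ^ k := by
    intro u hu hu1 w hw
    have hu1' : (⟨u, hu⟩ : ↥(commSub P)) ≠ 1 := fun h => hu1 (congrArg Subtype.val h)
    obtain ⟨k, hk⟩ := exists_pow_eq_of_card_prime hcard hu1' ⟨w, hw⟩
    exact ⟨k, congrArg Subtype.val hk⟩
  have hzp : z ^ p = 1 := by
    have := pow_card_eq_one' (G := ↥(commSub P)) (x := ⟨z, hz⟩)
    rw [hcard] at this
    exact congrArg Subtype.val this
  obtain ⟨R, hRdef⟩ : ∃ R : Subgroup Ω, R = S ⊓ Subgroup.centralizer {z₁} := ⟨_, rfl⟩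
  have hmemR : ∀ r, r ∈ R ↔ r ∈ S ∧ r * z₁ = z₁ * r := by
    intro r
    rw [hRdef, Subgroup.mem_inf, Subgroup.mem_centralizer_singleton_iff]
  have hRS : R ≤ S := fun r hr => ((hmemR r).mp hr).1
  have hz₁R : z₁ ∈ R := (hmemR z₁).mpr ⟨hPS hz₁P, rfl⟩
  obtain ⟨θ, hθ, hθz₁⟩ := exists_hom_to_central p hS F hF hzS hzc hconj R hRS hz₁R
    (fun r hr => ((hmemR r).mp hr).2)
  have hθinj := F.injective_of_mem hθ
  have hθP : ∀ (x : ↥R), (x : Ω) ∈ P → θ x ∈ P := by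
    intro x hx
    have h1 := fs_restrict_mem F (inf_le_right : P ⊓ R ≤ R) hθ
    exact hP.2 (P ⊓ R) inf_le_left _ h1 ⟨x, ⟨hx, x.2⟩⟩
  have hzR : z ∈ R := (hmemR z).mpr ⟨hzS, (hzc z₁ (hPS hz₁P)).symm⟩
  have hz₁p : z₁ ^ p = 1 := by
    have h1 : θ (⟨z₁, hz₁R⟩ ^ p) = 1 := by rw [map_pow, hθz₁, hzp]
    have h2 : (⟨z₁, hz₁R⟩ : ↥R) ^ p = 1 := hθinj (by rw [h1, map_one])
    exact congrArg Subtype.val h2
  -- the key contradiction
  have key : ∀ c : ↥R, (c : Ω) ∈ commSub P → θ c ∈ commSub P → c = 1 := by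
    intro c hcZ hθc
    by_contra hc1
    have hc1' : (c : Ω) ≠ 1 := fun h => hc1 (Subtype.ext h)
    obtain ⟨k, hk⟩ := hgen _ hcZ hc1' z hz
    have hzc' : (⟨z, hzR⟩ : ↥R) = c ^ k := Subtype.ext hk
    have hθz : θ ⟨z, hzR⟩ ∈ commSub P := by
      rw [hzc', map_pow]; exact (commSub P).pow_mem hθc k
    obtain ⟨m, hm⟩ := hgen z hz hz1 _ hθz
    have h1 : θ ⟨z, hzR⟩ = θ (⟨z₁, hz₁R⟩ ^ m) := by rw [map_pow, hθz₁, hm]
    have h2 : (⟨z, hzR⟩ : ↥R) = ⟨z₁, hz₁R⟩ ^ m := hθinj h1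
    have h3 : z = z₁ ^ m := congrArg Subtype.val h2
    have h4 : z₁ ^ m ≠ 1 := h3 ▸ hz1
    obtain ⟨m', hm'⟩ := exists_pow_pow_eq hz₁p h4
    apply hz₁Z
    rw [← hm', ← h3]
    exact (commSub P).pow_mem hz m'
  intro x hx y hy hxz hyz
  have hxR : x ∈ R := (hmemR x).mpr ⟨hPS hx, hxz⟩
  have hyR : y ∈ R := (hmemR y).mpr ⟨hPS hy, hyz⟩
  constructor
  · have h1 := key (⟨x, hxR⟩ * ⟨y, hyR⟩ * ⟨x, hxR⟩⁻¹ * ⟨y, hyR⟩⁻¹) (comm_mem_commSub hx hy) (by
      rw [map_mul, map_mul, map_mul, map_inv, map_inv]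
      exact comm_mem_commSub (hθP ⟨x, hxR⟩ hx) (hθP ⟨y, hyR⟩ hy))
    have h2 : x * y * x⁻¹ * y⁻¹ = 1 := congrArg Subtype.val h1
    have : x * y = (x * y * x⁻¹ * y⁻¹) * (y * x) := by group
    rw [this, h2, one_mul]
  · have h1 := key (⟨x, hxR⟩ ^ p) (pow_mem_commSub hPp hΦ hx) (by
      rw [map_pow]
      exact pow_mem_commSub hPp hΦ (hθP ⟨x, hxR⟩ hx))
    exact congrArg Subtype.val h1

end Cfsg.Agent.Lib.Helper7.GenEx
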