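import Mathlib
import Cfsg.Agent.H2.AutFrattini
import Cfsg.Agent.H1.Frattini
import Cfsg.Agent.H1.PGroup
import Cfsg.Agent.Lib.Helper7.Core
import Cfsg.Agent.Lib.Helper7.Stability

set_option autoImplicit false

namespace Cfsg.Agent.Lib.Helper7.MetaSC

open Cfsg

variable {R : Type*} [Group R]

/-- restriction of a group of automorphisms to an invariant subgroup -/
def resHom (G : Subgroup (MulAut R)) (Q : Subgroup R) (hinv : ∀ α ∈ G, ∀ x ∈ Q, α x ∈ Q) :
    G →* MulAut Q where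
  toFun α :=
    { toFun := fun x => ⟨(α : MulAut R) x, hinv α α.2 x x.2⟩
      invFun := fun x => ⟨((α : MulAut R)⁻¹) x, hinv _ (G.inv_mem α.2) x x.2⟩
      left_inv := fun x => by
        apply Subtype.ext
        show ((α : MulAut R)⁻¹) ((α : MulAut R) x) = x
        rw [← MulAut.mul_apply, inv_mul_cancel, MulAut.one_apply]
      right_inv := fun x => by
        apply Subtype.ext
        show (α : MulAut R) (((α : MulAut R)⁻¹) x) = x
        rw [← MulAut.mul_apply, mul_inv_cancel, MulAut.one_apply]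
      map_mul' := fun x y => by
        apply Subtype.ext
        show (α : MulAut R) ((x : R) * y) = (α : MulAut R) x * (α : MulAut R) y
        exact map_mul _ _ _ }
  map_one' := by
    ext x
    rfl
  map_mul' := fun α β => by
    ext x
    rfl

@[simp] theorem resHom_apply (G : Subgroup (MulAut R)) (Q : Subgroup R)
    (hinv : ∀ α ∈ G, ∀ x ∈ Q, α x ∈ Q) (α : G) (x : Q) :
    ((resHom G Q hinv α x : Q) : R) = (α : MulAut R) x := rfl

/-- the automorphism induced on the Frattini quotient -/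
noncomputable def frattiniAut (Q : Type*) [Group Q] : MulAut Q →* MulAut (Q ⧸ frattini Q) where
  toFun α := QuotientGroup.congr (frattini Q) (frattini Q) α
    (Subgroup.characteristic_iff_map_eq.mp inferInstance α)
  map_one' := by
    ext x
    induction x using QuotientGroup.induction_on with | _ x => rfl
  map_mul' := fun α β => by
    ext x
    induction x using QuotientGroup.induction_on with | _ x => rfl

theorem frattiniAut_mk (Q : Type*) [Group Q] (α : MulAut Q) (x : Q) :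
    frattiniAut Q α (x : Q ⧸ frattini Q) = ((α x : Q) : Q ⧸ frattini Q) := rfl

/-- automorphisms in `G` acting trivially on `R / Q` -/
def kSub (G : Subgroup (MulAut R)) (Q : Subgroup R) : Subgroup (MulAut R) where
  carrier := {α | α ∈ G ∧ ∀ x : R, x⁻¹ * α x ∈ Q}
  one_mem' := ⟨G.one_mem, fun x => by simp⟩
  mul_mem' := by
    rintro α β ⟨hα, hα'⟩ ⟨hβ, hβ'⟩
    refine ⟨G.mul_mem hα hβ, fun x => ?_⟩
    have : x⁻¹ * (α * β) x = (x⁻¹ * β x) * ((β x)⁻¹ * α (β x)) := by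
      rw [MulAut.mul_apply]; group
    rw [this]
    exact Q.mul_mem (hβ' x) (hα' (β x))
  inv_mem' := by
    rintro α ⟨hα, hα'⟩
    refine ⟨G.inv_mem hα, fun x => ?_⟩
    have h := hα' (α⁻¹ x)
    rw [← MulAut.mul_apply, mul_inv_cancel, MulAut.one_apply] at h
    have : x⁻¹ * α⁻¹ x = ((α⁻¹ x)⁻¹ * x)⁻¹ := by group
    rw [this]
    exact Q.inv_mem h

theorem mem_kSub {G : Subgroup (MulAut R)} {Q : Subgroup R} {α : MulAut R} :
    α ∈ kSub G Q ↔ α ∈ G ∧ ∀ x : R, x⁻¹ * α x ∈ Q := Iff.rfl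

theorem kSub_le (G : Subgroup (MulAut R)) (Q : Subgroup R) : kSub G Q ≤ G := fun _ h => h.1

theorem kSub_conj_mem {G : Subgroup (MulAut R)} {Q : Subgroup R}
    (hinv : ∀ α ∈ G, ∀ x ∈ Q, α x ∈ Q) {g α : MulAut R} (hg : g ∈ G) (hα : α ∈ kSub G Q) :
    g * α * g⁻¹ ∈ kSub G Q := by
  refine ⟨G.mul_mem (G.mul_mem hg hα.1) (G.inv_mem hg), fun x => ?_⟩
  have h1 := hα.2 (g⁻¹ x)
  have h2 := hinv g hg _ h1
  have : x⁻¹ * (g * α * g⁻¹) x = g ((g⁻¹ x)⁻¹ * α (g⁻¹ x)) := by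
    rw [map_mul, map_inv]
    have e : g (g⁻¹ x) = x := by
      rw [← MulAut.mul_apply, mul_inv_cancel, MulAut.one_apply]
    rw [e]
    rfl
  rw [this]
  exact h2


section fin

variable {p : ℕ} [Fact p.Prime]

theorem isPGroup_ker_frattiniAut {Q : Type*} [Group Q] [Finite Q] (hQ : IsPGroup p Q) :
    IsPGroup p (frattiniAut Q).ker := by
  have hp : p.Prime := Fact.out
  obtain ⟨n, hn⟩ := hQ.exists_card_eq
  obtain ⟨r, -, hr⟩ := (Nat.dvd_prime_pow hp).mp (hn ▸ Subgroup.index_dvd_card (frattini Q))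
  have h := Cfsg.Agent.H2.AutFrat.card_dvd_of_trivial_on_frattini_quotient (p := p) hn hr
    (frattiniAut Q).ker (by
      intro α hα x
      have h1 : frattiniAut Q α (x : Q ⧸ frattini Q) = (x : Q ⧸ frattini Q) := by
        rw [MonoidHom.mem_ker.mp hα]; rfl
      rw [frattiniAut_mk] at h1
      have h2 : (α x)⁻¹ * x ∈ frattini Q := QuotientGroup.eq.mp h1
      have h3 : α x * ((α x)⁻¹ * x)⁻¹ * (α x)⁻¹ ∈ frattini Q :=
        (inferInstance : (frattini Q).Normal).conj_mem _ ((frattini Q).inv_mem h2) _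
      have : α x * ((α x)⁻¹ * x)⁻¹ * (α x)⁻¹ = α x * x⁻¹ := by group
      rw [this] at h3
      exact h3)
  obtain ⟨k, -, hk⟩ := (Nat.dvd_prime_pow hp).mp h
  exact IsPGroup.of_card hk

/-- the action of `G` on the Frattini quotient of the invariant subgroup `Q` -/
noncomputable def thetaHom (G : Subgroup (MulAut R)) (Q : Subgroup R)
    (hinv : ∀ α ∈ G, ∀ x ∈ Q, α x ∈ Q) : G →* MulAut (Q ⧸ frattini Q) :=
  (frattiniAut Q).comp (resHom G Q hinv)

/-- `K₁`: elements of `kSub G Q` acting trivially on `Q / Φ(Q)` -/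
noncomputable def k1Sub (G : Subgroup (MulAut R)) (Q : Subgroup R)
    (hinv : ∀ α ∈ G, ∀ x ∈ Q, α x ∈ Q) : Subgroup (MulAut R) :=
  kSub G Q ⊓ (thetaHom G Q hinv).ker.map G.subtype

theorem mem_k1Sub {G : Subgroup (MulAut R)} {Q : Subgroup R}
    {hinv : ∀ α ∈ G, ∀ x ∈ Q, α x ∈ Q} {α : MulAut R} :
    α ∈ k1Sub G Q hinv ↔ α ∈ kSub G Q ∧ ∃ h : α ∈ G, thetaHom G Q hinv ⟨α, h⟩ = 1 := by
  unfold k1Sub
  rw [Subgroup.mem_inf]
  constructor
  · rintro ⟨h1, a, ha, rfl⟩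
    exact ⟨h1, a.2, MonoidHom.mem_ker.mp ha⟩
  · rintro ⟨h1, h, h2⟩
    exact ⟨h1, ⟨α, h⟩, MonoidHom.mem_ker.mpr h2, rfl⟩

theorem k1Sub_conj_mem {G : Subgroup (MulAut R)} {Q : Subgroup R}
    (hinv : ∀ α ∈ G, ∀ x ∈ Q, α x ∈ Q) {g α : MulAut R} (hg : g ∈ G)
    (hα : α ∈ k1Sub G Q hinv) : g * α * g⁻¹ ∈ k1Sub G Q hinv := by
  rw [mem_k1Sub] at hα ⊢
  obtain ⟨h1, h, h2⟩ := hα
  refine ⟨kSub_conj_mem hinv hg h1, G.mul_mem (G.mul_mem hg h) (G.inv_mem hg), ?_⟩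
  have : (⟨g * α * g⁻¹, G.mul_mem (G.mul_mem hg h) (G.inv_mem hg)⟩ : G) =
      ⟨g, hg⟩ * ⟨α, h⟩ * ⟨g, hg⟩⁻¹ := rfl
  rw [this, map_mul, map_mul, h2, mul_one, map_inv, mul_inv_cancel]

theorem isPGroup_k1Sub [Finite R] (hR : IsPGroup p R) (G : Subgroup (MulAut R)) (Q : Subgroup R)
    (hinv : ∀ α ∈ G, ∀ x ∈ Q, α x ∈ Q) : IsPGroup p (k1Sub G Q hinv) := by
  have hQp : IsPGroup p Q := hR.to_subgroup Q
  rintro ⟨α, hα⟩
  obtain ⟨h1, h, h2⟩ := mem_k1Sub.mp hα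
  -- the restriction to `Q` has `p`-power order
  have hker : resHom G Q hinv ⟨α, h⟩ ∈ (frattiniAut Q).ker := MonoidHom.mem_ker.mpr h2
  obtain ⟨k, hk⟩ := (isPGroup_ker_frattiniAut hQp) ⟨_, hker⟩
  have hk' : resHom G Q hinv (⟨α, h⟩ ^ p ^ k) = 1 := by
    rw [map_pow]
    exact congrArg Subtype.val hk
  obtain ⟨j, hj⟩ := hQp.exists_card_eq
  -- `γ = α ^ p ^ k` fixes `Q` pointwise and acts trivially on `R / Q`
  have hγK : α ^ p ^ k ∈ kSub G Q := (kSub G Q).pow_mem h1 _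
  have hγfix : ∀ z ∈ Q, (α ^ p ^ k) z = z := by
    intro z hz
    have := congrArg (fun f : MulAut Q => ((f ⟨z, hz⟩ : Q) : R)) hk'
    simpa using this
  refine ⟨k + j, ?_⟩
  apply Subtype.ext
  show α ^ p ^ (k + j) = 1
  rw [pow_add, pow_mul]
  ext x
  have hz := hγK.2 x
  have hx : (α ^ p ^ k) x = x * (x⁻¹ * (α ^ p ^ k) x) := by group
  rw [pow_apply_of_fix (hγfix _ hz) hx, MulAut.one_apply]
  have : (x⁻¹ * (α ^ p ^ k) x) ^ p ^ j = 1 := by
    have := pow_card_eq_one' (G := Q) (x := ⟨_, hz⟩)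
    rw [hj] at this
    exact congrArg Subtype.val this
  rw [this, mul_one]

/-- `K₁` lies in `O_p(G)`. -/
theorem k1Sub_le_pCore [Finite R] (hR : IsPGroup p R) (G : Subgroup (MulAut R)) (Q : Subgroup R)
    (hinv : ∀ α ∈ G, ∀ x ∈ Q, α x ∈ Q) :
    k1Sub G Q hinv ≤ (pCore p G).map G.subtype := by
  have hle : k1Sub G Q hinv ≤ G := fun α hα => (mem_k1Sub.mp hα).1.1
  have hn : ((k1Sub G Q hinv).subgroupOf G).Normal := by
    refine ⟨fun n hn g => ?_⟩
    rw [Subgroup.mem_subgroupOf] at hn ⊢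
    exact k1Sub_conj_mem hinv g.2 hn
  have hp : IsPGroup p ((k1Sub G Q hinv).subgroupOf G) :=
    (isPGroup_k1Sub hR G Q hinv).comap_of_injective _ (Subgroup.subtype_injective _)
  intro α hα
  exact ⟨⟨α, hle hα⟩, le_pCore hn hp (Subgroup.mem_subgroupOf.mpr hα), rfl⟩

end fin

end Cfsg.Agent.Lib.Helper7.MetaSC
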