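import Mathlib
import Cfsg.Agent.Lib.Helper7.EssPSq

set_option autoImplicit false

namespace Cfsg.Agent.Lib.Helper7.MetaSC

open Cfsg Matrix

/-- Dichotomy for groups of automorphisms of an elementary abelian group of order `p²` containing a nontrivial
`p`-element `w`: either every automorphism normalizing `W` normalizes `⟨w⟩`, or `W` contains all
automorphisms of determinant one. -/
theorem gl_dichotomy {V : Type*} [Group V] [Finite V] (p : ℕ) [Fact p.Prime]
    (hcard : Nat.card V = p ^ 2) (hVp : ∀ x : V, x ^ p = 1) :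
    ∃ e : MulAut V ≃* GL (Fin 2) (ZMod p),
      (∀ σ : MulAut V, (∀ v, σ v = v⁻¹) → Matrix.GeneralLinearGroup.det (e σ) = 1) ∧
      ∀ (W : Subgroup (MulAut V)) (w : MulAut V), w ∈ W → w ≠ 1 → (∃ k : ℕ, w ^ p ^ k = 1) →
        (∀ x : MulAut V, (∀ y ∈ W, x * y * x⁻¹ ∈ W) → x * w * x⁻¹ ∈ Subgroup.zpowers w) ∨
        (∀ β : MulAut V, Matrix.GeneralLinearGroup.det (e β) = 1 → β ∈ W) := by
  have hp : p.Prime := Fact.out
  have hcommV : IsMulCommutative V := IsPGroup.isMulCommutative_of_card_eq_prime_sq hcard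
  letI : CommGroup V := { (inferInstance : Group V) with
    mul_comm := (isMulCommutative_iff.mp hcommV) }
  obtain ⟨e⟩ := mulAut_equiv_gl p 2 hVp hcard
  refine ⟨e, ?_, ?_⟩
  · intro σ hσ
    have hcen : σ ∈ Subgroup.center (MulAut V) := by
      rw [Subgroup.mem_center_iff]
      intro g
      ext v
      rw [MulAut.mul_apply, MulAut.mul_apply, hσ, hσ, map_inv]
    have hcen' : e σ ∈ Subgroup.center (GL (Fin 2) (ZMod p)) := by
      rw [Subgroup.mem_center_iff] at hcen ⊢
      intro g
      obtain ⟨g', rfl⟩ := e.surjective g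
      rw [← map_mul, ← map_mul, hcen g']
    obtain ⟨c, hc⟩ := Matrix.GeneralLinearGroup.mem_center_iff_val_mem_range_scalar.mp hcen'
    have hsq : σ * σ = 1 := by
      ext v
      rw [MulAut.mul_apply, hσ, hσ, inv_inv, MulAut.one_apply]
    have hsq' : (e σ) * (e σ) = 1 := by rw [← map_mul, hsq, map_one]
    have hval : ((e σ : GL (Fin 2) (ZMod p)) : Matrix (Fin 2) (Fin 2) (ZMod p)) *
        ((e σ : GL (Fin 2) (ZMod p)) : Matrix (Fin 2) (Fin 2) (ZMod p)) = 1 := by
      have := congrArg Units.val hsq'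
      simpa using this
    rw [← hc] at hval
    have hc2 : c * c = 1 := by
      have h00 := congrFun (congrFun hval 0) 0
      simpa [Matrix.mul_apply, Fin.sum_univ_two, Matrix.scalar_apply, Matrix.diagonal] using h00
    apply Units.ext
    rw [Matrix.GeneralLinearGroup.val_det_apply, ← hc]
    simp [Matrix.det_fin_two, Matrix.scalar_apply, Matrix.diagonal, hc2]
  · intro W w hwW hw1 ⟨k, hk⟩
    by_cases h : ∀ x : MulAut V, (∀ y ∈ W, x * y * x⁻¹ ∈ W) → x * w * x⁻¹ ∈ Subgroup.zpowers w
    · exact Or.inl h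
    · right
      push Not at h
      obtain ⟨x, hxW, hxw⟩ := h
      have hk' : (x * w * x⁻¹) ^ p ^ k = 1 := by
        rw [conj_pow, hk, mul_one, mul_inv_cancel]
      have hpg : ∀ u : MulAut V, u ^ p ^ k = 1 →
          IsPGroup p ((Subgroup.zpowers u).map e.toMonoidHom) := by
        intro u hu
        apply IsPGroup.map
        exact isPGroup_zpowers_of_pow_eq_one u k hu
      have hne : ∀ u : MulAut V, u ≠ 1 → (Subgroup.zpowers u).map e.toMonoidHom ≠ ⊥ := by
        intro u hu h
        rw [Subgroup.map_eq_bot_iff_of_injective _ e.injective, Subgroup.zpowers_eq_bot] at h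
        exact hu h
      have hxw1 : x * w * x⁻¹ ≠ 1 := by
        intro h
        apply hxw
        rw [h]
        exact Subgroup.one_mem _
      have hc1 := card_eq_p_of_isPGroup_gl p _ (hpg w hk) (hne w hw1)
      have hc2 := card_eq_p_of_isPGroup_gl p _ (hpg _ hk') (hne _ hxw1)
      have hne' : (Subgroup.zpowers w).map e.toMonoidHom ≠
          (Subgroup.zpowers (x * w * x⁻¹)).map e.toMonoidHom := by
        intro h
        have h2 := Subgroup.map_injective e.injective h
        apply hxw
        rw [h2]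
        exact Subgroup.mem_zpowers _
      have hle := range_toGL_le_sup p _ _ hc1 hc2 hne'
      intro β hβ
      have h1 : e β ∈ (Matrix.SpecialLinearGroup.toGL :
          Matrix.SpecialLinearGroup (Fin 2) (ZMod p) →* GL (Fin 2) (ZMod p)).range :=
        (mem_range_toGL_iff p _).mpr hβ
      have h2 := hle h1
      rw [← Subgroup.map_sup] at h2
      obtain ⟨b, hb, hbe⟩ := h2
      have hbβ : b = β := e.injective hbe
      rw [← hbβ]
      have hsup : Subgroup.zpowers w ⊔ Subgroup.zpowers (x * w * x⁻¹) ≤ W := by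
        apply sup_le
        · rw [Subgroup.zpowers_le]; exact hwW
        · rw [Subgroup.zpowers_le]; exact hxW w hwW
      exact hsup hb

end Cfsg.Agent.Lib.Helper7.MetaSC
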