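import Mathlib
import Cfsg.Prelude.Def_OddOrderLocal
import Cfsg.Agent.Lib.Helper7.MetaSCa
import Cfsg.Agent.Lib.Helper7.MetaSCb
import Cfsg.Agent.H2.MetacyclicOdd
import Cfsg.Agent.Lib.Helper7.PStableFusion

set_option autoImplicit false

namespace Cfsg.Agent.Lib.Helper7.MetaSC

open Cfsg Matrix

variable {p : ℕ} [Fact p.Prime]

/-- the Frattini quotient of a finite `p`-group has exponent `p` -/
theorem frattiniQuot_pow {Q : Type*} [Group Q] [Finite Q] (hQ : IsPGroup p Q)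
    (v : Q ⧸ frattini Q) : v ^ p = 1 := by
  induction v using QuotientGroup.induction_on with | _ x =>
  rw [← QuotientGroup.mk_pow, QuotientGroup.eq_one_iff]
  exact Cfsg.Agent.H1.pow_p_mem_frattini hQ x

/-- the Frattini quotient of a metacyclic `p`-group has order at most `p²` -/
theorem card_frattiniQuot_le {Q : Type*} [Group Q] [Finite Q] (hQ : IsPGroup p Q)
    (hm : IsMetacyclic Q) : Nat.card (Q ⧸ frattini Q) ≤ p ^ 2 := by
  have hp : p.Prime := Fact.out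
  obtain ⟨a, b, -, hgen⟩ := Cfsg.Agent.H2.MetaOdd.exists_gens hm
  let f : Fin p × Fin p → Q ⧸ frattini Q := fun ij =>
    (QuotientGroup.mk a : Q ⧸ frattini Q) ^ (ij.1 : ℕ) * (QuotientGroup.mk b) ^ (ij.2 : ℕ)
  have hf : Function.Surjective f := by
    intro v
    induction v using QuotientGroup.induction_on with | _ g =>
    obtain ⟨i, j, rfl⟩ := hgen g
    have hpz : (p : ℤ) ≠ 0 := by exact_mod_cast hp.ne_zero
    have hi0 : 0 ≤ i % (p : ℤ) := Int.emod_nonneg _ hpz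
    have hj0 : 0 ≤ j % (p : ℤ) := Int.emod_nonneg _ hpz
    have hi1 : i % (p : ℤ) < p := Int.emod_lt_of_pos _ (by exact_mod_cast hp.pos)
    have hj1 : j % (p : ℤ) < p := Int.emod_lt_of_pos _ (by exact_mod_cast hp.pos)
    refine ⟨(⟨(i % (p : ℤ)).toNat, by omega⟩, ⟨(j % (p : ℤ)).toNat, by omega⟩), ?_⟩
    show (QuotientGroup.mk a : Q ⧸ frattini Q) ^ ((i % (p : ℤ)).toNat) *
      (QuotientGroup.mk b) ^ ((j % (p : ℤ)).toNat) = _
    have ha : (QuotientGroup.mk a : Q ⧸ frattini Q) ^ (p : ℤ) = 1 := by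
      rw [zpow_natCast]; exact frattiniQuot_pow hQ _
    have hb : (QuotientGroup.mk b : Q ⧸ frattini Q) ^ (p : ℤ) = 1 := by
      rw [zpow_natCast]; exact frattiniQuot_pow hQ _
    rw [QuotientGroup.mk_mul, QuotientGroup.mk_zpow, QuotientGroup.mk_zpow,
      zpow_eq_zpow_emod i ha, zpow_eq_zpow_emod j hb, ← zpow_natCast, ← zpow_natCast,
      Int.toNat_of_nonneg hi0, Int.toNat_of_nonneg hj0]
  have := Nat.card_le_card_of_surjective f hf
  simpa [Nat.card_prod, sq] using this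


variable {R : Type*} [Group R] [Finite R]

/-- If the `p`-element `τ ∈ K` normalizes... : the core lemma. If conjugation by every normalizer of
`W = Θ(K)` preserves `⟨Θ τ⟩` then `τ ∈ O_p(G)`. -/
theorem mem_pCore_of_normalizes (hR : IsPGroup p R) (G : Subgroup (MulAut R)) (Q : Subgroup R)
    (hinv : ∀ α ∈ G, ∀ x ∈ Q, α x ∈ Q)
    (τ : MulAut R) (hτK : τ ∈ kSub G Q) (hτp : ∃ k : ℕ, τ ^ p ^ k = 1)
    (hnorm : ∀ x : MulAut (Q ⧸ frattini Q),
      (∀ y ∈ ((kSub G Q).subgroupOf G).map (thetaHom G Q hinv), x * y * x⁻¹ ∈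
        ((kSub G Q).subgroupOf G).map (thetaHom G Q hinv)) →
      x * thetaHom G Q hinv ⟨τ, hτK.1⟩ * x⁻¹ ∈
        Subgroup.zpowers (thetaHom G Q hinv ⟨τ, hτK.1⟩)) :
    τ ∈ (pCore p G).map G.subtype := by
  obtain ⟨Θ, hΘ⟩ : ∃ Θ, Θ = thetaHom G Q hinv := ⟨_, rfl⟩
  obtain ⟨w, hw⟩ : ∃ w, w = Θ ⟨τ, hτK.1⟩ := ⟨_, rfl⟩
  obtain ⟨W, hW⟩ : ∃ W, W = ((kSub G Q).subgroupOf G).map Θ := ⟨_, rfl⟩
  rw [← hΘ, ← hW, ← hw] at hnorm
  obtain ⟨k, hk⟩ := hτp
  have hwk : w ^ p ^ k = 1 := by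
    rw [hw, ← map_pow]
    have : (⟨τ, hτK.1⟩ : G) ^ p ^ k = 1 := Subtype.ext hk
    rw [this, map_one]
  -- the subgroup `Y`
  obtain ⟨Y, hY⟩ : ∃ Y : Subgroup (MulAut R),
      Y = kSub G Q ⊓ ((Subgroup.zpowers w).comap Θ).map G.subtype := ⟨_, rfl⟩
  have memY : ∀ α : MulAut R, α ∈ Y ↔ α ∈ kSub G Q ∧ ∃ h : α ∈ G, Θ ⟨α, h⟩ ∈ Subgroup.zpowers w := by
    intro α
    rw [hY, Subgroup.mem_inf]
    constructor
    · rintro ⟨h1, a, ha, rfl⟩
      exact ⟨h1, a.2, ha⟩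
    · rintro ⟨h1, h, h2⟩
      exact ⟨h1, ⟨α, h⟩, h2, rfl⟩
  have hYG : Y ≤ G := fun α hα => ((memY α).mp hα).1.1
  have hYn : (Y.subgroupOf G).Normal := by
    refine ⟨fun n hn g => ?_⟩
    rw [Subgroup.mem_subgroupOf] at hn ⊢
    obtain ⟨h1, h, h2⟩ := (memY _).mp hn
    rw [memY]
    refine ⟨kSub_conj_mem hinv g.2 h1, (g * n * g⁻¹).2, ?_⟩
    have e1 : (⟨((g * n * g⁻¹ : G) : MulAut R), (g * n * g⁻¹).2⟩ : G) = g * n * g⁻¹ := rfl
    have e2 : (⟨(n : MulAut R), h⟩ : G) = n := rfl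
    rw [e2] at h2
    rw [e1, map_mul, map_mul, map_inv]
    -- `Θ g` normalizes `W`
    have hgW : ∀ y ∈ W, Θ g * y * (Θ g)⁻¹ ∈ W := by
      rintro y hy
      rw [hW] at hy ⊢
      obtain ⟨κ, hκ, rfl⟩ := hy
      refine ⟨g * κ * g⁻¹, ?_, by rw [map_mul, map_mul, map_inv]⟩
      have hκ' : (κ : MulAut R) ∈ kSub G Q := Subgroup.mem_subgroupOf.mp hκ
      exact Subgroup.mem_subgroupOf.mpr (kSub_conj_mem hinv g.2 hκ')
    have h3 := hnorm (Θ g) hgW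
    obtain ⟨i, hi⟩ := Subgroup.mem_zpowers_iff.mp h2
    rw [← hi]
    have : Θ g * w ^ i * (Θ g)⁻¹ = (Θ g * w * (Θ g)⁻¹) ^ i := by
      rw [conj_zpow]
    rw [this]
    exact Subgroup.zpow_mem _ h3 i
  have hYp : IsPGroup p (Y.subgroupOf G) := by
    rintro ⟨a, ha⟩
    rw [Subgroup.mem_subgroupOf] at ha
    obtain ⟨h1, h, h2⟩ := (memY _).mp ha
    have e2 : (⟨(a : MulAut R), h⟩ : G) = a := rfl
    rw [e2] at h2
    obtain ⟨i, hi⟩ := Subgroup.mem_zpowers_iff.mp h2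
    have h3 : Θ (a ^ p ^ k) = 1 := by
      rw [map_pow, ← hi, ← zpow_natCast, ← _root_.zpow_mul, mul_comm, _root_.zpow_mul, zpow_natCast, hwk,
        _root_.one_zpow]
    have h4 : ((a ^ p ^ k : G) : MulAut R) ∈ k1Sub G Q hinv := by
      rw [mem_k1Sub]
      refine ⟨?_, (a ^ p ^ k).2, ?_⟩
      · rw [Subgroup.coe_pow]; exact (kSub G Q).pow_mem h1 _
      · rw [← hΘ]; exact h3
    obtain ⟨j, hj⟩ := (isPGroup_k1Sub hR G Q hinv) ⟨_, h4⟩
    refine ⟨k + j, ?_⟩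
    apply Subtype.ext
    apply Subtype.ext
    have := congrArg Subtype.val hj
    simp only [Subgroup.coe_pow, Subgroup.coe_one] at this ⊢
    rw [pow_add, pow_mul]
    exact this
  have hτY : τ ∈ Y := by
    rw [memY]
    exact ⟨hτK, hτK.1, by rw [← hw]; exact Subgroup.mem_zpowers w⟩
  exact ⟨⟨τ, hτK.1⟩, le_pCore hYn hYp (Subgroup.mem_subgroupOf.mpr hτY), rfl⟩


/-- **Main group-theoretic lemma.**  `Q ⊴`-invariant metacyclic, `τ ∈ K` a `p`-element outside `O_p(G)`: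
then `Q / Φ(Q)` has order `p²` and `Θ(K)` contains every automorphism of determinant one. -/
theorem main_det (hR : IsPGroup p R) (G : Subgroup (MulAut R)) (Q : Subgroup R)
    (hinv : ∀ α ∈ G, ∀ x ∈ Q, α x ∈ Q) (hQm : IsMetacyclic Q)
    (τ : MulAut R) (hτK : τ ∈ kSub G Q) (hτp : ∃ k : ℕ, τ ^ p ^ k = 1)
    (hτ : τ ∉ (pCore p G).map G.subtype) :
    Nat.card (Q ⧸ frattini Q) = p ^ 2 ∧
    ∃ e : MulAut (Q ⧸ frattini Q) ≃* GL (Fin 2) (ZMod p),
      (∀ σ : MulAut (Q ⧸ frattini Q), (∀ v, σ v = v⁻¹) →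
        Matrix.GeneralLinearGroup.det (e σ) = 1) ∧
      ∀ β : MulAut (Q ⧸ frattini Q), Matrix.GeneralLinearGroup.det (e β) = 1 →
        ∃ α ∈ kSub G Q, ∃ h : α ∈ G, thetaHom G Q hinv ⟨α, h⟩ = β := by
  have hp : p.Prime := Fact.out
  have hQp : IsPGroup p Q := hR.to_subgroup Q
  have hkey := mt (mem_pCore_of_normalizes hR G Q hinv τ hτK hτp) hτ
  -- the order of the Frattini quotient
  have hcard_le := card_frattiniQuot_le hQp hQm
  obtain ⟨n, hn⟩ := hQp.exists_card_eq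
  obtain ⟨r, -, hr⟩ := (Nat.dvd_prime_pow hp).mp (hn ▸ Subgroup.index_dvd_card (frattini (Q : Type _)))
  rw [Subgroup.index_eq_card] at hr
  have hr2 : r ≤ 2 := by
    rw [hr] at hcard_le
    exact (Nat.pow_le_pow_iff_right hp.one_lt).mp hcard_le
  have hVp : ∀ v : Q ⧸ frattini Q, v ^ p = 1 := frattiniQuot_pow hQp
  by_cases hr' : r = 2
  · rw [hr'] at hr
    refine ⟨hr, ?_⟩
    obtain ⟨e, he1, he2⟩ := gl_dichotomy p hr hVp
    refine ⟨e, he1, ?_⟩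
    have hw1 : thetaHom G Q hinv ⟨τ, hτK.1⟩ ≠ 1 := by
      intro h1
      apply hτ
      apply k1Sub_le_pCore hR G Q hinv
      rw [mem_k1Sub]
      exact ⟨hτK, hτK.1, h1⟩
    have hwp : ∃ k : ℕ, (thetaHom G Q hinv ⟨τ, hτK.1⟩) ^ p ^ k = 1 := by
      obtain ⟨k, hk⟩ := hτp
      refine ⟨k, ?_⟩
      rw [← map_pow]
      have : (⟨τ, hτK.1⟩ : G) ^ p ^ k = 1 := Subtype.ext hk
      rw [this, map_one]
    rcases he2 (((kSub G Q).subgroupOf G).map (thetaHom G Q hinv)) _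
      ⟨⟨τ, hτK.1⟩, Subgroup.mem_subgroupOf.mpr hτK, rfl⟩ hw1 hwp with h | h
    · exact absurd h hkey
    · intro β hβ
      obtain ⟨a, ha, rfl⟩ := h β hβ
      exact ⟨a, Subgroup.mem_subgroupOf.mp ha, a.2, rfl⟩
  · exfalso
    apply hkey
    have hcyc : IsCyclic (Q ⧸ frattini Q) := by
      have : r = 0 ∨ r = 1 := by omega
      rcases this with h | h
      · rw [h, pow_zero] at hr
        haveI : Subsingleton (Q ⧸ frattini Q) := (Nat.card_eq_one_iff_unique.mp hr).1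
        infer_instance
      · rw [h, pow_one] at hr
        exact isCyclic_of_prime_card hr
    intro x _
    have : x * thetaHom G Q hinv ⟨τ, hτK.1⟩ * x⁻¹ = thetaHom G Q hinv ⟨τ, hτK.1⟩ := by
      rw [mulAut_comm_of_isCyclic x, mul_inv_cancel_right]
    rw [this]
    exact Subgroup.mem_zpowers _

end Cfsg.Agent.Lib.Helper7.MetaSC
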