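import Mathlib
import Cfsg.Prelude.Def_OddOrderLocal
import Cfsg.Agent.Lib.Helper4.MetaAct
import Cfsg.Agent.Lib.Helper4.MetaActAmb

set_option autoImplicit false

namespace Cfsg.Agent.Lib.Helper7.MetaSC

open Cfsg

variable {p : ℕ} [Fact p.Prime]

theorem mem_zpowers_of_sq_eq_one {X : Type*} [Group X] {s u : X} (hs : s * s = 1)
    (hu : u ∈ Subgroup.zpowers s) : u = 1 ∨ u = s := by
  obtain ⟨k, rfl⟩ := Subgroup.mem_zpowers_iff.mp hu
  have h2 : s ^ (2 : ℤ) = 1 := by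
    rw [zpow_two]; exact hs
  rw [zpow_eq_zpow_emod k h2]
  rcases Int.emod_two_eq_zero_or_one k with h | h
  · left; rw [h, zpow_zero]
  · right; rw [h, zpow_one]

/-- An involutory automorphism of a metacyclic `p`-group (`p` odd) inverting the Frattini quotient inverts the
group. -/
theorem eq_inv_of_frattini_inv {Q : Type*} [Group Q] [Finite Q] (hp2 : p ≠ 2) (hQ : IsPGroup p Q)
    (hm : IsMetacyclic Q) (s : MulAut Q) (hs : s * s = 1)
    (hinv : ∀ x : Q, s x * x ∈ frattini Q) : ∀ x : Q, s x = x⁻¹ := by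
  have hp : p.Prime := Fact.out
  obtain ⟨φ, hφ⟩ : ∃ φ : ↥(Subgroup.zpowers s) →* MulAut Q, φ = (Subgroup.zpowers s).subtype :=
    ⟨_, rfl⟩
  have hsmem : s ∈ Subgroup.zpowers s := Subgroup.mem_zpowers s
  have hodd : Nat.Coprime 2 p := by
    rw [Nat.coprime_comm]
    exact (Nat.coprime_primes hp Nat.prime_two).mpr hp2
  have hcop : (Nat.card ↥(Subgroup.zpowers s)).Coprime p := by
    rw [Nat.card_zpowers]
    have hd : orderOf s ∣ 2 := orderOf_dvd_of_pow_eq_one (by rw [pow_two]; exact hs)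
    exact Nat.Coprime.coprime_dvd_left hd hodd
  obtain ⟨n, hn⟩ := hQ.exists_card_eq
  have htop : Cfsg.Agent.Lib.Helper4.MetaAct.acomm φ = ⊤ := by
    apply frattini_nongenerating
    rw [eq_top_iff]
    intro x _
    have h1 : s x * x⁻¹ ∈ Cfsg.Agent.Lib.Helper4.MetaAct.acomm φ := by
      have := Cfsg.Agent.Lib.Helper4.MetaAct.mem_acomm φ ⟨s, hsmem⟩ x
      rw [hφ] at this
      rw [hφ]
      exact this
    have h2 : x ^ 2 ∈ Cfsg.Agent.Lib.Helper4.MetaAct.acomm φ ⊔ frattini Q := by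
      have e : x ^ 2 = (s x * x⁻¹)⁻¹ * (s x * x) := by rw [pow_two]; group
      rw [e]
      exact Subgroup.mul_mem_sup (Subgroup.inv_mem _ h1) (hinv x)
    have h3 : x ^ p ^ n ∈ Cfsg.Agent.Lib.Helper4.MetaAct.acomm φ ⊔ frattini Q := by
      rw [← hn, pow_card_eq_one']
      exact Subgroup.one_mem _
    exact Cfsg.Agent.Lib.Helper4.MetaAct.mem_of_pow_mem_of_coprime h2 h3
      (Nat.Coprime.pow_right n hodd)
  have hcomm := Cfsg.Agent.Lib.Helper4.MetaAct.comm_of_acomm_top hp2 hQ hm φ hcop htop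
  -- the subgroup of inverted elements
  let I : Subgroup Q :=
    { carrier := {y | s y = y⁻¹}
      one_mem' := by simp
      mul_mem' := by
        intro a b ha hb
        simp only [Set.mem_setOf_eq] at ha hb ⊢
        rw [map_mul, ha, hb, mul_inv_rev, hcomm]
      inv_mem' := by
        intro a ha
        simp only [Set.mem_setOf_eq] at ha ⊢
        rw [map_inv, ha] }
  have hI : Cfsg.Agent.Lib.Helper4.MetaAct.acomm φ ≤ I := by
    unfold Cfsg.Agent.Lib.Helper4.MetaAct.acomm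
    rw [Subgroup.closure_le]
    rintro _ ⟨a, x, rfl⟩
    show s (φ a x * x⁻¹) = (φ a x * x⁻¹)⁻¹
    rcases mem_zpowers_of_sq_eq_one hs a.2 with h | h
    · have : φ a = 1 := by rw [hφ]; exact h
      rw [this]; simp
    · have : φ a = s := by rw [hφ]; exact h
      rw [this, map_mul, map_inv]
      have e : s (s x) = x := by
        rw [← MulAut.mul_apply, hs, MulAut.one_apply]
      rw [e]
      group
  intro x
  have : x ∈ I := hI (htop ▸ Subgroup.mem_top x)
  exact this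


/-- **Fixed-point argument.** `T` a metacyclic `p`-group (`p` odd), `Q ≤ T` noncyclic, `β` an automorphism of
`2`-power order acting trivially on `T / Q` and fixed-point-freely on `Q`. Then `T = Q`. -/
theorem odd_fix {N : Type*} [Group N] [Finite N] (hp2 : p ≠ 2) (T Q : Subgroup N) (hQT : Q ≤ T)
    (hT : IsPGroup p T) (hTm : IsMetacyclic T) (hQnc : ¬ IsCyclic Q)
    (β : MulAut N) (a : ℕ) (hβ : β ^ 2 ^ a = 1) (hβT : ∀ t ∈ T, t⁻¹ * β t ∈ Q)
    (hfix : ∀ q ∈ Q, β q = q → q = 1) : T ≤ Q := by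
  classical
  have hp : p.Prime := Fact.out
  haveI : Fintype N := Fintype.ofFinite N
  by_contra hnot
  obtain ⟨t, htT, htQ⟩ : ∃ t ∈ T, t ∉ Q := by
    by_contra hcon
    push Not at hcon
    exact hnot hcon
  have hβQ : ∀ q ∈ Q, β q ∈ Q := by
    intro q hq
    have := Q.mul_mem hq (hβT q (hQT hq))
    rwa [mul_inv_cancel_left] at this
  -- the coset `tQ`
  have hstab : ∀ x : N, t⁻¹ * x ∈ Q → t⁻¹ * β x ∈ Q := by
    intro x hx
    have e : t⁻¹ * β x = (t⁻¹ * β t) * β (t⁻¹ * x) := by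
      rw [map_mul, map_inv]; group
    rw [e]
    exact Q.mul_mem (hβT t htT) (hβQ _ hx)
  let σ : Equiv.Perm {x : N // t⁻¹ * x ∈ Q} :=
    Equiv.Perm.subtypePermOfFintype (β.toEquiv : Equiv.Perm N) hstab
  have hσpow : ∀ (k : ℕ) (x : {x : N // t⁻¹ * x ∈ Q}), ((σ ^ k) x : N) = (β ^ k) x := by
    intro k
    induction k with
    | zero => intro x; rfl
    | succ k ih =>
      intro x
      rw [pow_succ, pow_succ, Equiv.Perm.mul_apply, ih, MulAut.mul_apply]
      rfl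
  have hσ : σ ^ 2 ^ a = 1 := by
    ext x
    rw [hσpow, hβ]
    rfl
  -- the coset has odd cardinality
  obtain ⟨j, hj⟩ := (hT.to_le hQT).exists_card_eq
  have hcard : Fintype.card {x : N // t⁻¹ * x ∈ Q} = p ^ j := by
    rw [← Nat.card_eq_fintype_card, ← hj]
    apply Nat.card_congr
    exact
      { toFun := fun x => ⟨t⁻¹ * x.1, x.2⟩
        invFun := fun q => ⟨t * q.1, by rw [inv_mul_cancel_left]; exact q.2⟩
        left_inv := fun x => by apply Subtype.ext; simp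
        right_inv := fun q => by apply Subtype.ext; simp }
  have hodd : ¬ 2 ∣ Fintype.card {x : N // t⁻¹ * x ∈ Q} := by
    rw [hcard]
    intro h2
    have := (Nat.Prime.dvd_of_dvd_pow Nat.prime_two h2)
    exact hp2 ((Nat.prime_dvd_prime_iff_eq Nat.prime_two hp).mp this).symm
  obtain ⟨⟨t₀, ht₀⟩, hfixed⟩ := Equiv.Perm.exists_fixed_point_of_prime (p := 2) (n := a) hodd hσ
  have hβt₀ : β t₀ = t₀ := by
    have := congrArg Subtype.val hfixed
    exact this
  have ht₀T : t₀ ∈ T := by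
    have := T.mul_mem htT (hQT ht₀)
    rwa [mul_inv_cancel_left] at this
  have ht₀Q : t₀ ∉ Q := by
    intro h
    apply htQ
    have := Q.mul_mem h (Q.inv_mem ht₀)
    have e : t₀ * (t⁻¹ * t₀)⁻¹ = t := by group
    rwa [e] at this
  -- an element of order `p` in `⟨t₀⟩`
  have ht₀1 : t₀ ≠ 1 := fun h => ht₀Q (h ▸ Q.one_mem)
  obtain ⟨m, hm⟩ := (hT.to_le (show Subgroup.zpowers t₀ ≤ T by
    rw [Subgroup.zpowers_le]; exact ht₀T)).exists_card_eq
  rw [Nat.card_zpowers] at hm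
  have hm0 : m ≠ 0 := by
    rintro rfl
    rw [pow_zero, orderOf_eq_one_iff] at hm
    exact ht₀1 hm
  obtain ⟨m', rfl⟩ := Nat.exists_eq_succ_of_ne_zero hm0
  obtain ⟨t₁, ht₁⟩ : ∃ t₁, t₁ = t₀ ^ p ^ m' := ⟨_, rfl⟩
  have ht₁p : t₁ ^ p = 1 := by
    rw [ht₁, ← pow_mul, ← pow_succ, ← hm, pow_orderOf_eq_one]
  have ht₁1 : t₁ ≠ 1 := by
    intro h
    rw [ht₁] at h
    have := orderOf_dvd_of_pow_eq_one h
    rw [hm] at this
    have := (Nat.pow_dvd_pow_iff_le_right hp.one_lt).mp this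
    omega
  have ht₁T : t₁ ∈ T := by rw [ht₁]; exact T.pow_mem ht₀T _
  have hβt₁ : β t₁ = t₁ := by rw [ht₁, map_pow, hβt₀]
  have hom := Cfsg.Agent.Lib.Helper4.MetaActAmb.omSet_eq hp2 hQT hT hTm hQnc
  have h1 : t₁ ∈ Cfsg.Agent.Lib.Helper4.MetaActAmb.omSet p T := ⟨ht₁T, ht₁p⟩
  rw [← hom] at h1
  exact ht₁1 (hfix t₁ h1.1 hβt₁)

end Cfsg.Agent.Lib.Helper7.MetaSC
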