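import Mathlib
import Cfsg.Prelude.Def_FusionSystem
import Cfsg.Prelude.Def_OddOrderLocal
import Cfsg.Agent.Lib.Helper7.MetaSCc
import Cfsg.Agent.Lib.Helper7.MetaSCd
import Cfsg.Agent.Lib.Helper7.FusionSat4
import Cfsg.Agent.Lib.Helper7.FusionNormal
import Cfsg.Agent.Lib.Helper7.FusionCore2
import Cfsg.Agent.Lib.Helper7.FusionEssential

set_option autoImplicit false

namespace Cfsg.Agent.Lib.Helper7.MetaSC

open Cfsg Cfsg.FusionSystem Cfsg.Agent.Lib.Helper7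

variable {Ω : Type*} [Group Ω] {S : Subgroup Ω}

theorem isMetacyclic_subgroupOf {P K : Subgroup Ω} (hm : IsMetacyclic ↥P) :
    IsMetacyclic ↥(P.subgroupOf K) := by
  have h1 : IsMetacyclic ↥(P ⊓ K) :=
    Cfsg.Agent.Lib.Helper4.MetaActAmb.isMetacyclic_of_le hm inf_le_left
  rw [← Subgroup.inf_subgroupOf_right]
  exact Cfsg.Agent.Lib.Helper4.MetaAct.isMetacyclic_of_surjective
    (Subgroup.subgroupOfEquivOfLe (inf_le_right : P ⊓ K ≤ K)).symm.toMonoidHom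
    (Subgroup.subgroupOfEquivOfLe (inf_le_right : P ⊓ K ≤ K)).symm.surjective h1

theorem isCyclic_subgroupOf_iff {P K K' : Subgroup Ω} (h : P ≤ K) (h' : P ≤ K') :
    IsCyclic ↥(P.subgroupOf K) → IsCyclic ↥(P.subgroupOf K') := by
  intro hc
  have e1 := Subgroup.subgroupOfEquivOfLe h
  have e2 := Subgroup.subgroupOfEquivOfLe h'
  exact isCyclic_of_surjective (e1.trans e2.symm).toMonoidHom (e1.trans e2.symm).surjective

/-- if `P ⊴ S` is not contained in `R` then some element of `N_P(R)` lies outside `R` -/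
theorem exists_mem_normalizer_of_not_le [Finite S] {p : ℕ} [Fact p.Prime] (hS : IsPGroup p S)
    {R P : Subgroup Ω} (hRS : R ≤ S) (hPS : P ≤ S)
    (hN : S ≤ Subgroup.normalizer (P : Set Ω)) (hnot : ¬ P ≤ R) :
    ∃ t ∈ P, t ∈ Subgroup.normalizer (R : Set Ω) ∧ t ∉ R := by
  by_contra hcon
  push Not at hcon
  have hRPS : R ⊔ P ≤ S := sup_le hRS hPS
  haveI := finite_of_le hRPS
  have hne : R ≠ R ⊔ P := fun h => hnot (by rw [h]; exact le_sup_right)
  obtain ⟨g, hgN, hgR⟩ := lt_normalizerIn_of_ne (hS.to_le hRPS) le_sup_left hne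
  apply hgR
  have hg : g ∈ ((R ⊔ P : Subgroup Ω) : Set Ω) := hgN.1
  rw [Subgroup.coe_mul_of_left_le_normalizer_right R P (hRS.trans hN)] at hg
  obtain ⟨x, hx, q, hq, rfl⟩ := hg
  have hqN : q ∈ Subgroup.normalizer (R : Set Ω) := by
    have h1 : x⁻¹ ∈ Subgroup.normalizer (R : Set Ω) := Subgroup.le_normalizer (R.inv_mem hx)
    have := Subgroup.mul_mem _ h1 hgN.2
    simpa using this
  exact R.mul_mem hx (hcon q hq hqN)

theorem inn_le_autInducedBy {R : Subgroup Ω} (hRS : R ≤ S) : Inn R ≤ autInducedBy S R := by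
  rintro _ ⟨x, rfl⟩
  rw [mem_autInducedBy_iff]
  exact ⟨x, hRS x.2, fun y => rfl⟩


/-- **Key step for odd `p`.** A strongly closed metacyclic subgroup lies in every essential subgroup. -/
theorem le_essential_of_metacyclic_odd [Finite S] (p : ℕ) [Fact p.Prime] (hS : IsPGroup p S)
    (F : FusionSystem S) (hF : F.IsSaturated p) (P : Subgroup Ω) (hP : F.StronglyClosed P)
    (hp2 : p ≠ 2) (hm : IsMetacyclic ↥P) (R : Subgroup Ω) (hR : F.IsEssential p R) : P ≤ R := by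
  have hp : p.Prime := Fact.out
  have hcen : F.IsCentric R := hR.1
  have hfn : F.IsFullyNormalized R := hR.2.1
  have hrad : F.IsRadical p R := isRadical_of_isEssential p hS F R hR
  have hRS : R ≤ S := hcen.1
  have hPS : P ≤ S := hP.1
  have hcenR : centralizerIn S R ≤ R := hcen.2 R (isConj_refl F hRS)
  have hsat := (isSaturated_iff_sylow_extension p hS F).mp hF
  have hRec : F.IsReceptive R := hsat.2 R (hsat.1 R hfn).1
  have hN : S ≤ Subgroup.normalizer (P : Set Ω) := le_normalizer_of_stronglyClosed F hP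
  haveI : Finite ↥R := finite_of_le hRS
  have hRp : IsPGroup p ↥R := hS.to_le hRS
  by_contra hnot
  obtain ⟨t, htP, htN, htR⟩ := exists_mem_normalizer_of_not_le hS hRS hPS hN hnot
  have htS : t ∈ S := hPS htP
  -- the automorphism group and its invariant subgroup
  obtain ⟨G, hG⟩ : ∃ G, G = F.autGroup R := ⟨_, rfl⟩
  obtain ⟨Qr, hQr⟩ : ∃ Qr : Subgroup ↥R, Qr = P.subgroupOf R := ⟨_, rfl⟩
  have hinv : ∀ α ∈ G, ∀ x ∈ Qr, α x ∈ Qr := by
    intro α hα x hx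
    rw [hQr, Subgroup.mem_subgroupOf] at hx ⊢
    exact autGroup_apply_mem_of_stronglyClosed F hP hRS α (hG ▸ hα) x hx
  have hQm : IsMetacyclic ↥Qr := by rw [hQr]; exact isMetacyclic_subgroupOf hm
  have hUG : autInducedBy S R ≤ G := hG ▸ autInducedBy_le_autGroup F hRS
  have hradG : (pCore p G).map G.subtype = Inn ↥R := by rw [hG]; exact hrad.2
  -- conjugation by elements of `N_P(R)` lies in `K`
  have hcK : ∀ (u : Ω) (huP : u ∈ P) (huN : u ∈ Subgroup.normalizer (R : Set Ω)),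
      R.normalizerMonoidHom ⟨u, huN⟩ ∈ kSub G Qr := by
    intro u huP huN
    refine ⟨hUG ((mem_autInducedBy_iff S R _).mpr ⟨u, hPS huP, fun x => rfl⟩), fun x => ?_⟩
    rw [hQr, Subgroup.mem_subgroupOf]
    show (x : Ω)⁻¹ * (u * x * u⁻¹) ∈ P
    have h1 : (x : Ω)⁻¹ * u * (x : Ω)⁻¹⁻¹ ∈ P :=
      (Subgroup.mem_normalizer_iff.mp (hN (S.inv_mem (hRS x.2))) u).mp huP
    have := P.mul_mem h1 (P.inv_mem huP)
    convert this using 1
    group
  obtain ⟨τ, hτdef⟩ : ∃ τ, τ = R.normalizerMonoidHom ⟨t, htN⟩ := ⟨_, rfl⟩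
  have hτK : τ ∈ kSub G Qr := hτdef ▸ hcK t htP htN
  have hτU : τ ∈ autInducedBy S R :=
    hτdef ▸ (mem_autInducedBy_iff S R _).mpr ⟨t, htS, fun x => rfl⟩
  have hτp : ∃ k : ℕ, τ ^ p ^ k = 1 := by
    obtain ⟨k, hk⟩ := (isPGroup_autInducedBy S R hS) ⟨τ, hτU⟩
    exact ⟨k, congrArg Subtype.val hk⟩
  have hτ : τ ∉ (pCore p G).map G.subtype := by
    rw [hradG, hτdef]
    intro h
    exact htR (mem_of_normalizerMonoidHom_mem_inn hcenR hRS htS htN h)
  obtain ⟨hcardV, e, he1, he2⟩ := main_det hRp G Qr hinv hQm τ hτK hτp hτ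
  have hQrp : IsPGroup p ↥Qr := hRp.to_subgroup Qr
  have hcommV : IsMulCommutative (↥Qr ⧸ frattini ↥Qr) :=
    IsPGroup.isMulCommutative_of_card_eq_prime_sq hcardV
  -- the inversion automorphism of `V`
  obtain ⟨ι, hι⟩ : ∃ ι : MulAut (↥Qr ⧸ frattini ↥Qr), ∀ v, ι v = v⁻¹ := by
    refine ⟨{ toFun := fun v => v⁻¹, invFun := fun v => v⁻¹, left_inv := inv_inv,
              right_inv := inv_inv, map_mul' := fun a b => ?_ }, fun v => rfl⟩
    rw [mul_inv_rev]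
    exact (isMulCommutative_iff.mp hcommV) _ _
  have hιι : ι * ι = 1 := by
    ext v
    rw [MulAut.mul_apply, hι, hι, inv_inv, MulAut.one_apply]
  have hιcen : ∀ b : MulAut (↥Qr ⧸ frattini ↥Qr), ι * b = b * ι := by
    intro b
    ext v
    rw [MulAut.mul_apply, MulAut.mul_apply, hι, hι, map_inv]
  have hodd_pow : ∀ {X : Type _} [Group X] (x : X), x * x = 1 → ∀ n : ℕ, Odd n → x ^ n = x := by
    intro X _ x hx n hn
    obtain ⟨k, rfl⟩ := hn
    rw [pow_succ, pow_mul, pow_two, hx, one_pow, one_mul]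
  have hpodd : ∀ b : ℕ, Odd (p ^ b) := fun b => (hp.odd_of_ne_two hp2).pow
  obtain ⟨σ₀, hσ₀K, hσ₀G, hσ₀Θ⟩ := he2 ι (he1 ι hι)
  -- make `σ` an involution
  have hσ₀sq : σ₀ * σ₀ ∈ k1Sub G Qr hinv := by
    rw [mem_k1Sub]
    refine ⟨(kSub G Qr).mul_mem hσ₀K hσ₀K, G.mul_mem hσ₀G hσ₀G, ?_⟩
    have : (⟨σ₀ * σ₀, G.mul_mem hσ₀G hσ₀G⟩ : G) = ⟨σ₀, hσ₀G⟩ * ⟨σ₀, hσ₀G⟩ := rfl
    rw [this, map_mul, hσ₀Θ, hιι]
  obtain ⟨b, hb⟩ := (isPGroup_k1Sub hRp G Qr hinv) ⟨_, hσ₀sq⟩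
  have hb' : (σ₀ * σ₀) ^ p ^ b = 1 := congrArg Subtype.val hb
  obtain ⟨σ, hσdef⟩ : ∃ σ, σ = σ₀ ^ p ^ b := ⟨_, rfl⟩
  have hσσ : σ * σ = 1 := by
    rw [hσdef, ← pow_two, ← pow_mul, mul_comm, pow_mul, pow_two]
    exact hb'
  have hσK : σ ∈ kSub G Qr := hσdef ▸ (kSub G Qr).pow_mem hσ₀K _
  have hσG : σ ∈ G := hσK.1
  have hσΘ : thetaHom G Qr hinv ⟨σ, hσG⟩ = ι := by
    have : (⟨σ, hσG⟩ : G) = ⟨σ₀, hσ₀G⟩ ^ p ^ b := Subtype.ext hσdef
    rw [this, map_pow, hσ₀Θ]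
    exact hodd_pow ι hιι _ (hpodd b)
  -- commutators with `σ` are inner
  have hcomm_inn : ∀ β ∈ G, σ * β * σ⁻¹ * β⁻¹ ∈ Inn ↥R := by
    intro β hβ
    rw [← hradG]
    apply k1Sub_le_pCore hRp G Qr hinv
    rw [mem_k1Sub]
    have hmemG : σ * β * σ⁻¹ * β⁻¹ ∈ G :=
      G.mul_mem (G.mul_mem (G.mul_mem hσG hβ) (G.inv_mem hσG)) (G.inv_mem hβ)
    refine ⟨?_, hmemG, ?_⟩
    · have h1 := kSub_conj_mem hinv hβ ((kSub G Qr).inv_mem hσK)
      have := (kSub G Qr).mul_mem hσK h1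
      convert this using 1
      group
    · have : (⟨σ * β * σ⁻¹ * β⁻¹, hmemG⟩ : G) =
          ⟨σ, hσG⟩ * ⟨β, hβ⟩ * ⟨σ, hσG⟩⁻¹ * ⟨β, hβ⟩⁻¹ := rfl
      rw [this, map_mul, map_mul, map_mul, map_inv, map_inv, hσΘ, hιcen, mul_inv_cancel_right,
        mul_inv_cancel]
  have hnormU : ∀ β ∈ autInducedBy S R, σ * β * σ⁻¹ ∈ autInducedBy S R := by
    intro β hβ
    have h1 := inn_le_autInducedBy hRS (hcomm_inn β (hUG hβ))
    have := (autInducedBy S R).mul_mem h1 hβ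
    convert this using 1
    group
  -- extend `σ` to `N_S(R)`
  have hQN : R ≤ normalizerIn S R := le_inf hRS Subgroup.le_normalizer
  obtain ⟨β₁, hβ₁F, hβ₁ext⟩ := exists_extension_to_normalizer F hRec σ (hG ▸ hσG) hnormU
  haveI : Finite ↥(normalizerIn S R) := finite_of_le (normalizerIn_le S R)
  obtain ⟨a, m, hmodd, horder⟩ := Nat.exists_eq_two_pow_mul_odd (orderOf_pos β₁).ne'
  obtain ⟨β', hβ'def⟩ : ∃ β', β' = β₁ ^ m := ⟨_, rfl⟩
  have hβ'pow : β' ^ 2 ^ a = 1 := by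
    rw [hβ'def, ← pow_mul, mul_comm, ← horder, pow_orderOf_eq_one]
  have hβ'F : β' ∈ F.autGroup (normalizerIn S R) := hβ'def ▸ Subgroup.pow_mem _ hβ₁F m
  have hβ'ext : ∀ x : R, β' (Subgroup.inclusion hQN x) = Subgroup.inclusion hQN (σ x) := by
    intro x
    have := restrict_pow hQN σ β₁ hβ₁ext m x
    rw [hodd_pow σ hσσ m hmodd] at this
    rw [hβ'def]
    exact this
  -- the restriction of `σ` to `Q` inverts `Q`
  obtain ⟨s, hsdef⟩ : ∃ s, s = resHom G Qr hinv ⟨σ, hσG⟩ := ⟨_, rfl⟩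
  have hss : s * s = 1 := by
    rw [hsdef, ← map_mul]
    have : (⟨σ, hσG⟩ : G) * ⟨σ, hσG⟩ = 1 := Subtype.ext hσσ
    rw [this, map_one]
  have hsfr : ∀ x : Qr, s x * x ∈ frattini ↥Qr := by
    intro x
    have h1 : frattiniAut ↥Qr s (x : ↥Qr ⧸ frattini ↥Qr) = ι (x : ↥Qr ⧸ frattini ↥Qr) := by
      rw [← hσΘ, hsdef]; rfl
    rw [frattiniAut_mk, hι, ← QuotientGroup.mk_inv] at h1
    have h2 : (s x)⁻¹ * x⁻¹ ∈ frattini ↥Qr := QuotientGroup.eq.mp h1
    have h3 := (inferInstance : (frattini ↥Qr).Normal).conj_mem _ ((frattini ↥Qr).inv_mem h2) x⁻¹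
    convert h3 using 1
    group
  have hsinv := eq_inv_of_frattini_inv hp2 hQrp hQm s hss hsfr
  -- apply the fixed-point lemma inside `N_S(R)`
  have hfinal := odd_fix (N := ↥(normalizerIn S R)) hp2 (P.subgroupOf (normalizerIn S R))
    ((P ⊓ R).subgroupOf (normalizerIn S R))
    (by
      intro x hx
      rw [Subgroup.mem_subgroupOf] at hx ⊢
      exact hx.1)
    ((hS.to_le (normalizerIn_le S R)).to_subgroup _)
    (isMetacyclic_subgroupOf hm)
    (by
      intro hc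
      have h1 : IsCyclic ↥((P ⊓ R).subgroupOf R) :=
        isCyclic_subgroupOf_iff (inf_le_right.trans hQN) inf_le_right hc
      rw [Subgroup.inf_subgroupOf_right, ← hQr] at h1
      have h2 : IsCyclic (↥Qr ⧸ frattini ↥Qr) :=
        isCyclic_of_surjective (QuotientGroup.mk' (frattini ↥Qr)) (QuotientGroup.mk'_surjective _)
      obtain ⟨g, hg⟩ := h2.exists_generator
      have h3 : orderOf g = p ^ 2 := by
        rw [orderOf_eq_card_of_forall_mem_zpowers hg, hcardV]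
      have h4 : orderOf g ∣ p := orderOf_dvd_of_pow_eq_one (frattiniQuot_pow hQrp g)
      rw [h3] at h4
      have := Nat.le_of_dvd hp.pos h4
      have h5 : p < p ^ 2 := by
        rw [pow_two]
        nlinarith [hp.two_le]
      omega)
    β' a hβ'pow
    (by
      intro u hu
      rw [Subgroup.mem_subgroupOf] at hu
      have huN : (u : Ω) ∈ Subgroup.normalizer (R : Set Ω) := u.2.2
      have hu'P : ((β' u : ↥(normalizerIn S R)) : Ω) ∈ P :=
        autGroup_apply_mem_of_stronglyClosed F hP (normalizerIn_le S R) β' hβ'F u hu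
      have hcuK := hcK u hu huN
      obtain ⟨r, hr⟩ := hcomm_inn _ hcuK.1
      -- the key identity
      have key : ∀ y : R, ((β' u : ↥(normalizerIn S R)) : Ω) * y *
          ((β' u : ↥(normalizerIn S R)) : Ω)⁻¹ = (r : Ω) * ((u : Ω) * y * (u : Ω)⁻¹) * (r : Ω)⁻¹ := by
        intro y
        obtain ⟨z, hz⟩ : ∃ z : R, σ z = y := ⟨σ⁻¹ y, by simp⟩
        have e1 : Subgroup.inclusion hQN (R.normalizerMonoidHom ⟨u, huN⟩ z) =
            u * Subgroup.inclusion hQN z * u⁻¹ := by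
          apply Subtype.ext
          rfl
        have e2 := hβ'ext (R.normalizerMonoidHom ⟨u, huN⟩ z)
        rw [e1, map_mul, map_mul, map_inv, hβ'ext z, hz] at e2
        have e3 : σ (R.normalizerMonoidHom ⟨u, huN⟩ z) =
            (MulAut.conj r * R.normalizerMonoidHom ⟨u, huN⟩) y := by
          rw [hr, ← hz]
          simp only [MulAut.mul_apply, MulAut.inv_apply_self]
        rw [e3] at e2
        have e4 := congrArg (fun w : ↥(normalizerIn S R) => (w : Ω)) e2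
        simp only [Subgroup.coe_mul, Subgroup.coe_inv, Subgroup.coe_inclusion] at e4
        rw [e4]
        rfl
      -- hence `(r u)⁻¹ β'(u)` centralizes `R`
      have hw : ((r : Ω) * (u : Ω))⁻¹ * ((β' u : ↥(normalizerIn S R)) : Ω) ∈ centralizerIn S R := by
        refine ⟨S.mul_mem (S.inv_mem (S.mul_mem (hRS r.2) u.2.1)) (β' u).2.1, ?_⟩
        show _ ∈ Subgroup.centralizer (R : Set Ω)
        rw [Subgroup.mem_centralizer_iff]
        intro y hy
        have k1 := key ⟨y, hy⟩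
        have k2 : ((β' u : ↥(normalizerIn S R)) : Ω) * y =
            (r : Ω) * ((u : Ω) * y * (u : Ω)⁻¹) * (r : Ω)⁻¹ * ((β' u : ↥(normalizerIn S R)) : Ω) := by
          rw [← k1]; group
        calc y * (((r : Ω) * (u : Ω))⁻¹ * ((β' u : ↥(normalizerIn S R)) : Ω))
            = ((r : Ω) * (u : Ω))⁻¹ * ((r : Ω) * ((u : Ω) * y * (u : Ω)⁻¹) * (r : Ω)⁻¹ *
                ((β' u : ↥(normalizerIn S R)) : Ω)) := by group
          _ = ((r : Ω) * (u : Ω))⁻¹ * ((β' u : ↥(normalizerIn S R)) : Ω) * y := by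
              rw [← k2]; group
      have hwR := hcenR hw
      rw [Subgroup.mem_subgroupOf]
      refine ⟨P.mul_mem (P.inv_mem hu) hu'P, ?_⟩
      have h1 : (u : Ω)⁻¹ * (r : Ω) * (u : Ω)⁻¹⁻¹ ∈ R :=
        (Subgroup.mem_normalizer_iff.mp (Subgroup.inv_mem _ huN) _).mp r.2
      have := R.mul_mem h1 hwR
      have e5 : ((u⁻¹ * β' u : ↥(normalizerIn S R)) : Ω) =
          (u : Ω)⁻¹ * (r : Ω) * (u : Ω)⁻¹⁻¹ *
            (((r : Ω) * (u : Ω))⁻¹ * ((β' u : ↥(normalizerIn S R)) : Ω)) := by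
        rw [Subgroup.coe_mul, Subgroup.coe_inv]
        group
      show ((u⁻¹ * β' u : ↥(normalizerIn S R)) : Ω) ∈ R
      rw [e5]
      exact this)
    (by
      intro q hq hβq
      rw [Subgroup.mem_subgroupOf] at hq
      have e1 : Subgroup.inclusion hQN ⟨q, hq.2⟩ = q := Subtype.ext rfl
      have e2 := hβ'ext ⟨q, hq.2⟩
      rw [e1, hβq] at e2
      have hσx : σ ⟨q, hq.2⟩ = ⟨q, hq.2⟩ := by
        apply Subtype.ext
        have := congrArg (fun w : ↥(normalizerIn S R) => (w : Ω)) e2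
        exact this.symm
      have hxQ : (⟨q, hq.2⟩ : R) ∈ Qr := by
        rw [hQr, Subgroup.mem_subgroupOf]; exact hq.1
      have h1 : s ⟨⟨q, hq.2⟩, hxQ⟩ = ⟨⟨q, hq.2⟩, hxQ⟩ := by
        apply Subtype.ext
        rw [hsdef, resHom_apply]
        exact hσx
      rw [hsinv] at h1
      have h2 : (⟨⟨q, hq.2⟩, hxQ⟩ : Qr) ^ 2 = 1 := by
        rw [pow_two]
        nth_rewrite 1 [← h1]
        exact inv_mul_cancel _
      obtain ⟨k, hk⟩ := hQrp ⟨⟨q, hq.2⟩, hxQ⟩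
      have h3 : (⟨⟨q, hq.2⟩, hxQ⟩ : Qr) ^ Nat.gcd 2 (p ^ k) = 1 := pow_gcd_eq_one.mpr ⟨h2, hk⟩
      have h4 : Nat.gcd 2 (p ^ k) = 1 := by
        apply Nat.Coprime.pow_right
        rw [Nat.coprime_comm]
        exact (Nat.coprime_primes hp Nat.prime_two).mpr hp2
      rw [h4, pow_one] at h3
      apply Subtype.ext
      have := congrArg (fun w : Qr => ((w : R) : Ω)) h3
      exact this)
  have ht' : (⟨t, ⟨htS, htN⟩⟩ : ↥(normalizerIn S R)) ∈ P.subgroupOf (normalizerIn S R) :=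
    Subgroup.mem_subgroupOf.mpr htP
  have := hfinal ht'
  rw [Subgroup.mem_subgroupOf] at this
  exact htR this.2

end Cfsg.Agent.Lib.Helper7.MetaSC
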