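import Mathlib
import Cfsg.Prelude.Def_FusionSystem
import Cfsg.Agent.Lib.Helper7.GenExC
import Cfsg.Agent.Lib.Helper7.MetaSCe

set_option autoImplicit false

namespace Cfsg.Agent.Lib.Helper7.GenEx

open Cfsg Cfsg.FusionSystem Cfsg.Agent.Lib.Helper7 Cfsg.Agent.Lib.Helper7.MetaSC
open scoped commutatorElement

theorem le_center_of_normal_of_card_prime {G : Type*} [Group G] [Finite G] {p : ℕ}
    [hp : Fact p.Prime] (hG : IsPGroup p G) (N : Subgroup G) [N.Normal] (hN : Nat.card N = p) :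
    N ≤ Subgroup.center G := by
  have hne : N ≠ ⊥ := by
    intro h
    rw [h, Subgroup.card_bot] at hN
    exact hp.out.one_lt.ne hN
  have h1 := Cfsg.Agent.Lib.Lead.PGroup.normal_inf_center_ne_bot hG N hne
  have h2 : N ⊓ Subgroup.center G = N := by
    apply Subgroup.eq_of_le_of_card_ge inf_le_left
    have hdvd : Nat.card ↥(N ⊓ Subgroup.center G) ∣ p := hN ▸ Subgroup.card_dvd_of_le inf_le_left
    rcases (Nat.dvd_prime hp.out).mp hdvd with h | h
    · exact absurd (Subgroup.card_eq_one.mp h) h1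
    · rw [h, hN]
  exact h2 ▸ inf_le_right

variable {Ω : Type*} [Group Ω] {S : Subgroup Ω}

theorem commSub_eq_commutator (P : Subgroup Ω) : commSub P = ⁅P, P⁆ := by
  unfold commSub
  rw [commutator_def, Subgroup.map_commutator, ← MonoidHom.range_eq_map, Subgroup.range_subtype]

theorem commSub_conj_mem {P : Subgroup Ω} {g : Ω} (hg : g ∈ Subgroup.normalizer (P : Set Ω))
    {w : Ω} (hw : w ∈ commSub P) : g * w * g⁻¹ ∈ commSub P := by
  rw [commSub_eq_commutator] at hw ⊢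
  have hmap : P.map (MulAut.conj g).toMonoidHom = P := by
    ext y
    constructor
    · rintro ⟨x, hx, rfl⟩
      exact (Subgroup.mem_normalizer_iff.mp hg x).mp hx
    · intro hy
      refine ⟨g⁻¹ * y * g, ?_, by simp [MulAut.conj_apply, mul_assoc]⟩
      have := (Subgroup.mem_normalizer_iff.mp (Subgroup.inv_mem _ hg) y).mp hy
      simpa using this
  have h1 : (⁅P, P⁆).map (MulAut.conj g).toMonoidHom = ⁅P, P⁆ := by
    rw [Subgroup.map_commutator, hmap]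
  rw [← h1]
  exact ⟨w, hw, rfl⟩

/-- a subgroup of order `p` of the `p`-group `S`, normalized by `S`, is central in `S` -/
theorem central_of_card_prime [Finite S] {p : ℕ} [hp : Fact p.Prime] (hS : IsPGroup p S)
    (Z : Subgroup Ω) (hZS : Z ≤ S) (hZ : Nat.card Z = p)
    (hnorm : ∀ s ∈ S, ∀ w ∈ Z, s * w * s⁻¹ ∈ Z) : ∀ w ∈ Z, ∀ s ∈ S, s * w = w * s := by
  haveI : (Z.subgroupOf S).Normal := by
    refine ⟨fun n hn g => ?_⟩
    rw [Subgroup.mem_subgroupOf] at hn ⊢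
    exact hnorm g g.2 n hn
  have hcard : Nat.card (Z.subgroupOf S) = p := by
    rw [Nat.card_congr (Subgroup.subgroupOfEquivOfLe hZS).toEquiv, hZ]
  have h := le_center_of_normal_of_card_prime hS (Z.subgroupOf S) hcard
  intro w hw s hs
  have h1 : (⟨w, hZS hw⟩ : ↥S) ∈ Subgroup.center ↥S := h (Subgroup.mem_subgroupOf.mpr hw)
  have h2 := Subgroup.mem_center_iff.mp h1 ⟨s, hs⟩
  exact congrArg Subtype.val h2

/-- extension of an automorphism of a receptive subgroup to a subgroup containing a given element `t` -/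
theorem exists_extension_at (F : FusionSystem S) {R : Subgroup Ω} (hRec : F.IsReceptive R)
    (α : MulAut R) (hα : α ∈ F.autGroup R) {t h : Ω} (htS : t ∈ S)
    (htN : t ∈ Subgroup.normalizer (R : Set Ω)) (hhS : h ∈ S)
    (hth : ∀ (x : R) (hx : t * (x : Ω) * t⁻¹ ∈ R),
      ((α ⟨t * x * t⁻¹, hx⟩ : R) : Ω) = h * ((α x : R) : Ω) * h⁻¹) :
    ∃ (E : Subgroup Ω) (ψ : E →* Ω), ψ ∈ F.Hom E ∧ t ∈ E ∧ R ≤ E ∧
      ∀ (x : Ω) (hxR : x ∈ R) (hxE : x ∈ E), ψ ⟨x, hxE⟩ = ((α ⟨x, hxR⟩ : R) : Ω) := by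
  have hRS := hRec.1
  have hφ : R.subtype.comp α.toMonoidHom ∈ F.Hom R := (mem_autGroup_iff F hRS α).mp hα
  have hr : (R.subtype.comp α.toMonoidHom).range = R := by
    ext y
    constructor
    · rintro ⟨x, rfl⟩; exact (α x).2
    · intro hy
      exact ⟨α⁻¹ ⟨y, hy⟩, by simp⟩
  obtain ⟨ψ, hψ, hext⟩ := hRec.2 R _ hφ hr
  refine ⟨_, ψ, hψ, ?_, le_extender F hφ, fun x hxR hxE => hext x hxR hxE⟩
  exact mem_extender_of_mem htS htN ⟨h, hhS, fun x hx => hth x hx⟩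


/-- **Key step.** A strongly closed generalized extraspecial subgroup lies in every essential subgroup, unless it has
an elementary abelian centralizer `C_P(z₁)` of index `p`. -/
theorem le_essential_or_exc [Finite S] (p : ℕ) [hp : Fact p.Prime] (hS : IsPGroup p S)
    (F : FusionSystem S) (hF : F.IsSaturated p) (P : Subgroup Ω) (hP : F.StronglyClosed P)
    (hΦ : frattini ↥P = commutator ↥P) (hc : Nat.card (commutator ↥P) = p)
    (R : Subgroup Ω) (hR : F.IsEssential p R) :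
    P ≤ R ∨ ∃ z₁ t : ↥P,
      (∀ x y : ↥P, x * z₁ = z₁ * x → y * z₁ = z₁ * y → x * y = y * x) ∧
      (∀ x : ↥P, x * z₁ = z₁ * x → x ^ p = 1) ∧ t * z₁ ≠ z₁ * t ∧ (p ≠ 2 → t ^ p = 1) := by
  by_cases hnot : P ≤ R
  · exact Or.inl hnot
  right
  have hpp : p.Prime := hp.out
  have hcen : F.IsCentric R := hR.1
  have hfn : F.IsFullyNormalized R := hR.2.1
  have hrad : F.IsRadical p R := isRadical_of_isEssential p hS F R hR
  have hRS : R ≤ S := hcen.1
  have hPS : P ≤ S := hP.1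
  have hcenR : centralizerIn S R ≤ R := hcen.2 R (isConj_refl F hRS)
  have hsat := (isSaturated_iff_sylow_extension p hS F).mp hF
  have hRec : F.IsReceptive R := hsat.2 R (hsat.1 R hfn).1
  have hN : S ≤ Subgroup.normalizer (P : Set Ω) := le_normalizer_of_stronglyClosed F hP
  haveI : Finite ↥R := finite_of_le hRS
  haveI : Finite ↥P := finite_of_le hPS
  have hRp : IsPGroup p ↥R := hS.to_le hRS
  have hPp : IsPGroup p ↥P := hS.to_le hPS
  obtain ⟨t, htP, htN, htR⟩ := exists_mem_normalizer_of_not_le hS hRS hPS hN hnot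
  have htS : t ∈ S := hPS htP
  obtain ⟨G, hG⟩ : ∃ G, G = F.autGroup R := ⟨_, rfl⟩
  obtain ⟨Qr, hQr⟩ : ∃ Qr : Subgroup ↥R, Qr = P.subgroupOf R := ⟨_, rfl⟩
  have hmemQr : ∀ x : ↥R, x ∈ Qr ↔ (x : Ω) ∈ P := by
    intro x; rw [hQr, Subgroup.mem_subgroupOf]
  have hinv : ∀ α ∈ G, ∀ x ∈ Qr, α x ∈ Qr := by
    intro α hα x hx
    rw [hQr, Subgroup.mem_subgroupOf] at hx ⊢
    exact autGroup_apply_mem_of_stronglyClosed F hP hRS α (hG ▸ hα) x hx
  have hUG : autInducedBy S R ≤ G := hG ▸ autInducedBy_le_autGroup F hRS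
  have hradG : (pCore p G).map G.subtype = Inn ↥R := by rw [hG]; exact hrad.2
  have hcK : ∀ (u : Ω) (huP : u ∈ P) (huN : u ∈ Subgroup.normalizer (R : Set Ω)),
      R.normalizerMonoidHom ⟨u, huN⟩ ∈ kSub G Qr := by
    intro u huP huN
    refine ⟨hUG ((mem_autInducedBy_iff S R _).mpr ⟨u, hPS huP, fun x => rfl⟩), fun x => ?_⟩
    rw [hQr, Subgroup.mem_subgroupOf]
    show (x : Ω)⁻¹ * (u * x * u⁻¹) ∈ P
    have h1 : (x : Ω)⁻¹ * u * (x : Ω)⁻¹⁻¹ ∈ P :=
      (Subgroup.mem_normalizer_iff.mp (hN (S.inv_mem (hRS x.2))) u).mp huP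
    have := P.mul_mem h1 (P.inv_mem huP)
    convert this using 1
    group
  obtain ⟨τ, hτdef⟩ : ∃ τ, τ = R.normalizerMonoidHom ⟨t, htN⟩ := ⟨_, rfl⟩
  have hτK : τ ∈ kSub G Qr := hτdef ▸ hcK t htP htN
  have hτ : τ ∉ (pCore p G).map G.subtype := by
    rw [hradG, hτdef]
    intro h
    exact htR (mem_of_normalizerMonoidHom_mem_inn hcenR hRS htS htN h)
  have hτapp : ∀ x : ↥R, ((τ x : ↥R) : Ω) = t * x * t⁻¹ := by
    intro x; rw [hτdef]; rfl
  -- the subgroup `Z₀ = P'`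
  obtain ⟨Z₀, hZ₀⟩ : ∃ Z₀, Z₀ = commSub P := ⟨_, rfl⟩
  have hZ₀P : Z₀ ≤ P := hZ₀ ▸ commSub_le P
  have hZ₀card : Nat.card Z₀ = p := by rw [hZ₀, card_commSub, hc]
  have hZ₀cen : ∀ w ∈ Z₀, ∀ s ∈ S, s * w = w * s :=
    central_of_card_prime hS Z₀ (hZ₀P.trans hPS) hZ₀card (fun s hs w hw => by
      rw [hZ₀] at hw ⊢; exact commSub_conj_mem (hN hs) hw)
  have hZ₀R : Z₀ ≤ R := by
    intro w hw
    apply hcenR
    refine ⟨hPS (hZ₀P hw), ?_⟩
    show w ∈ Subgroup.centralizer (R : Set Ω)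
    rw [Subgroup.mem_centralizer_iff]
    intro y hy
    exact hZ₀cen w hw y (hRS hy)
  obtain ⟨Zr, hZr⟩ : ∃ Zr : Subgroup ↥R, Zr = Z₀.subgroupOf R := ⟨_, rfl⟩
  have hmemZr : ∀ x : ↥R, x ∈ Zr ↔ (x : Ω) ∈ Z₀ := by
    intro x; rw [hZr, Subgroup.mem_subgroupOf]
  have hZrQr : Zr ≤ Qr := fun x hx => (hmemQr x).mpr (hZ₀P ((hmemZr x).mp hx))
  -- the chain argument
  have hchain : ∀ (C : ℕ → Subgroup ↥R) (m : ℕ) (hA : ∀ i, ∀ α ∈ G, ∀ x ∈ C i, α x ∈ C i),
      C 0 = ⊥ → C m = ⊤ → ∀ β ∈ G, (∀ i < m, ∀ x ∈ C (i + 1), x⁻¹ * β x ∈ C i) →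
      β ∈ (pCore p G).map G.subtype := by
    intro C m hA h0 hm β hβG hβ
    have h1 : (⟨β, hβG⟩ : G) ∈ (stabChain G C m hA).subgroupOf G :=
      Subgroup.mem_subgroupOf.mpr ⟨hβG, hβ⟩
    exact ⟨⟨β, hβG⟩, stabChain_le_pCore hRp G C m hA h0 hm h1, rfl⟩
  -- some automorphism moves `Z₀`
  have hmove : ∃ α ∈ G, ∃ w ∈ Zr, α w ∉ Zr := by
    by_contra hcon
    push Not at hcon
    apply hτ
    refine hchain (fun i => match i with | 0 => ⊥ | 1 => Zr | 2 => Qr | _ => ⊤) 3 ?_ rfl rfl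
      τ hτK.1 ?_
    · intro i α hα x hx
      match i with
      | 0 =>
        have hx' : x ∈ (⊥ : Subgroup ↥R) := hx
        rw [Subgroup.mem_bot] at hx'
        show α x ∈ (⊥ : Subgroup ↥R)
        rw [hx', map_one]; exact Subgroup.one_mem _
      | 1 => exact hcon α hα x hx
      | 2 => exact hinv α hα x hx
      | (n + 3) => exact Subgroup.mem_top _
    · intro i hi x hx
      match i with
      | 0 =>
        have hx' : x ∈ Zr := hx
        show x⁻¹ * τ x ∈ (⊥ : Subgroup ↥R)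
        rw [Subgroup.mem_bot]
        apply Subtype.ext
        rw [Subgroup.coe_mul, hτapp, Subgroup.coe_inv, Subgroup.coe_one,
          hZ₀cen x ((hmemZr x).mp hx') t htS]
        group
      | 1 =>
        have hx' : x ∈ Qr := hx
        show x⁻¹ * τ x ∈ Zr
        rw [hmemZr, Subgroup.coe_mul, hτapp, Subgroup.coe_inv, hZ₀]
        have := comm_mem_commSub (P.inv_mem ((hmemQr x).mp hx')) htP
        convert this using 1
        group
      | 2 => exact hτK.2 x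
      | (n + 3) => omega
  obtain ⟨α, hαG, w, hwZ, hαw⟩ := hmove
  have hwZ₀ : (w : Ω) ∈ Z₀ := (hmemZr w).mp hwZ
  have hw1 : (w : Ω) ≠ 1 := by
    intro h
    apply hαw
    have : w = 1 := Subtype.ext h
    rw [this, map_one]; exact Zr.one_mem
  -- the general claim
  have hclaim : ∀ β ∈ G, β w ∉ Zr →
      (∀ x ∈ P, ∀ y ∈ P, x * ((β w : ↥R) : Ω) = ((β w : ↥R) : Ω) * x →
        y * ((β w : ↥R) : Ω) = ((β w : ↥R) : Ω) * y → (x * y = y * x ∧ x ^ p = 1)) ∧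
      (∀ y : ↥R, y * β w = β w * y) ∧
      t * ((β w : ↥R) : Ω) ≠ ((β w : ↥R) : Ω) * t := by
    intro β hβG hβw
    have hβwP : ((β w : ↥R) : Ω) ∈ P := (hmemQr _).mp (hinv β hβG w (hZrQr hwZ))
    have hβwZ : ((β w : ↥R) : Ω) ∉ commSub P := fun h => hβw ((hmemZr _).mpr (hZ₀ ▸ h))
    have hconj : F.IsConjElt ((β w : ↥R) : Ω) (w : Ω) := by
      have hβinv : β⁻¹ ∈ F.autGroup R := hG ▸ G.inv_mem hβG
      have h1 := (mem_autGroup_iff F hRS β⁻¹).mp hβinv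
      have hle : Subgroup.zpowers ((β w : ↥R) : Ω) ≤ R := by
        rw [Subgroup.zpowers_le]; exact (β w).2
      refine ⟨_, fs_restrict_mem F hle h1, ?_⟩
      show ((β⁻¹ (β w) : ↥R) : Ω) = w
      rw [MulAut.inv_apply_self]
    have hE := elemAb_centralizer p hS F hF P hP hΦ hc (z := (w : Ω))
      (z₁ := ((β w : ↥R) : Ω)) (hZ₀ ▸ hwZ₀) hw1 (fun s hs => hZ₀cen w hwZ₀ s hs) hβwP hβwZ hconj
    have hβwc : ∀ y : ↥R, y * β w = β w * y := by
      intro y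
      have h1 : β⁻¹ y * w = w * β⁻¹ y := Subtype.ext (hZ₀cen w hwZ₀ _ (hRS (β⁻¹ y).2))
      have := congrArg β h1
      rwa [map_mul, map_mul, MulAut.apply_inv_self] at this
    refine ⟨hE, hβwc, ?_⟩
    intro htc
    apply hτ
    have hfix : ∀ x ∈ Qr, τ x = x := by
      intro x hx
      have hxP := (hmemQr x).mp hx
      have hxc : (x : Ω) * ((β w : ↥R) : Ω) = ((β w : ↥R) : Ω) * x :=
        congrArg Subtype.val (hβwc x)
      have h2 := (hE x hxP t htP hxc htc).1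
      apply Subtype.ext
      rw [hτapp, ← h2]; group
    refine hchain (fun i => match i with | 0 => ⊥ | 1 => Qr | _ => ⊤) 2 ?_ rfl rfl τ hτK.1 ?_
    · intro i α' hα' x hx
      match i with
      | 0 =>
        have hx' : x ∈ (⊥ : Subgroup ↥R) := hx
        rw [Subgroup.mem_bot] at hx'
        show α' x ∈ (⊥ : Subgroup ↥R)
        rw [hx', map_one]; exact Subgroup.one_mem _
      | 1 => exact hinv α' hα' x hx
      | (n + 2) => exact Subgroup.mem_top _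
    · intro i hi x hx
      match i with
      | 0 =>
        have hx' : x ∈ Qr := hx
        show x⁻¹ * τ x ∈ (⊥ : Subgroup ↥R)
        rw [Subgroup.mem_bot, hfix x hx', inv_mul_cancel]
      | 1 => exact hτK.2 x
      | (n + 2) => omega
  obtain ⟨hE, hz₁c, htz₁⟩ := hclaim α hαG hαw
  have hz₁P : ((α w : ↥R) : Ω) ∈ P := (hmemQr _).mp (hinv α hαG w (hZrQr hwZ))
  refine ⟨⟨((α w : ↥R) : Ω), hz₁P⟩, ⟨t, htP⟩, ?_, ?_, ?_, ?_⟩
  · intro x y hx hy
    exact Subtype.ext (hE x x.2 y y.2 (congrArg Subtype.val hx) (congrArg Subtype.val hy)).1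
  · intro x hx
    exact Subtype.ext (hE x x.2 x x.2 (congrArg Subtype.val hx) (congrArg Subtype.val hx)).2
  · intro h; exact htz₁ (congrArg Subtype.val h)
  · intro hp2
    -- `Q = P ∩ R` is elementary abelian
    have hQcomm : ∀ x ∈ Qr, ∀ y ∈ Qr, x * y = y * x := by
      intro x hx y hy
      exact Subtype.ext (hE x ((hmemQr x).mp hx) y ((hmemQr y).mp hy)
        (congrArg Subtype.val (hz₁c x)) (congrArg Subtype.val (hz₁c y))).1
    have hQexp : ∀ x ∈ Qr, x ^ p = 1 := by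
      intro x hx
      exact Subtype.ext (hE x ((hmemQr x).mp hx) x ((hmemQr x).mp hx)
        (congrArg Subtype.val (hz₁c x)) (congrArg Subtype.val (hz₁c x))).2
    -- every element of `Z₀` is a power of `w`
    have hgenZ : ∀ u ∈ Z₀, ∃ k : ℕ, u = (w : Ω) ^ k := by
      intro u hu
      have hw1' : (⟨(w : Ω), hwZ₀⟩ : ↥Z₀) ≠ 1 := fun h => hw1 (congrArg Subtype.val h)
      obtain ⟨k, hk⟩ := exists_pow_eq_of_card_prime hZ₀card hw1' ⟨u, hu⟩
      exact ⟨k, congrArg Subtype.val hk⟩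
    have hτw : τ w = w := by
      apply Subtype.ext
      rw [hτapp, hZ₀cen w hwZ₀ t htS]; group
    have hτform : ∀ x ∈ Qr, ∃ k : ℕ, τ x = x * w ^ k := by
      intro x hx
      have h1 : (x : Ω)⁻¹ * (t * x * t⁻¹) ∈ Z₀ := by
        rw [hZ₀]
        have := comm_mem_commSub (P.inv_mem ((hmemQr x).mp hx)) htP
        convert this using 1
        group
      obtain ⟨k, hk⟩ := hgenZ _ h1
      refine ⟨k, Subtype.ext ?_⟩
      rw [hτapp, Subgroup.coe_mul, Subgroup.coe_pow, ← hk]; group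
    -- `α⁻¹` also moves `w` out of `Z₀`
    have hαinv : α⁻¹ w ∉ Zr := by
      intro h
      apply hαw
      have hne : ((α⁻¹ w : ↥R) : Ω) ≠ 1 := by
        intro h1
        have : α⁻¹ w = 1 := Subtype.ext h1
        have h2 := congrArg α this
        rw [MulAut.apply_inv_self, map_one] at h2
        exact hw1 (congrArg Subtype.val h2)
      have hw1'' : (⟨((α⁻¹ w : ↥R) : Ω), (hmemZr _).mp h⟩ : ↥Z₀) ≠ 1 :=
        fun h' => hne (congrArg Subtype.val h')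
      obtain ⟨k, hk⟩ := exists_pow_eq_of_card_prime hZ₀card hw1'' ⟨(w : Ω), hwZ₀⟩
      have hk0 : (w : Ω) = ((α⁻¹ w : ↥R) : Ω) ^ k := congrArg Subtype.val hk
      have hk' : w = (α⁻¹ w) ^ k := Subtype.ext (by rw [Subgroup.coe_pow]; exact hk0)
      have h3 := congrArg α hk'
      rw [map_pow, MulAut.apply_inv_self] at h3
      rw [h3]
      exact Zr.pow_mem hwZ k
    obtain ⟨-, -, htzm⟩ := hclaim α⁻¹ (G.inv_mem hαG) hαinv
    letI instQ : CommGroup ↥Qr :=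
      { (inferInstance : Group ↥Qr) with
        mul_comm := fun a b => Subtype.ext (hQcomm a a.2 b b.2) }
    obtain ⟨τ', hτ'def⟩ : ∃ τ', τ' = α * τ * α⁻¹ := ⟨_, rfl⟩
    have hτ'K : τ' ∈ kSub G Qr := hτ'def ▸ kSub_conj_mem hinv hαG hτK
    obtain ⟨σ₁, hσ₁⟩ : ∃ σ₁, σ₁ = MetaSC.resHom G Qr hinv ⟨τ, hτK.1⟩ := ⟨_, rfl⟩
    obtain ⟨σ₂, hσ₂⟩ : ∃ σ₂, σ₂ = MetaSC.resHom G Qr hinv ⟨τ', hτ'K.1⟩ := ⟨_, rfl⟩
    have hσ₁app : ∀ v : ↥Qr, ((σ₁ v : ↥Qr) : ↥R) = τ v := fun v => by rw [hσ₁]; rfl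
    have hσ₂app : ∀ v : ↥Qr, ((σ₂ v : ↥Qr) : ↥R) = α (τ (α⁻¹ (v : ↥R))) := fun v => by
      rw [hσ₂]
      show τ' (v : ↥R) = α (τ (α⁻¹ (v : ↥R)))
      rw [hτ'def]; rfl
    obtain ⟨zq, hzq⟩ : ∃ zq : ↥Qr, zq = ⟨w, hZrQr hwZ⟩ := ⟨_, rfl⟩
    obtain ⟨z₁q, hz₁q⟩ : ∃ z₁q : ↥Qr, z₁q = ⟨α w, hinv α hαG w (hZrQr hwZ)⟩ := ⟨_, rfl⟩
    have hzqc : ((zq : ↥Qr) : ↥R) = w := by rw [hzq]
    have hz₁qc : ((z₁q : ↥Qr) : ↥R) = α w := by rw [hz₁q]
    have h1 : ∀ v : ↥Qr, ∃ k : ℕ, σ₁ v = v * zq ^ k := by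
      intro v
      obtain ⟨k, hk⟩ := hτform v v.2
      refine ⟨k, Subtype.ext ?_⟩
      rw [hσ₁app, hk, Subgroup.coe_mul, Subgroup.coe_pow, hzqc]
    have h1z : σ₁ zq = zq := by
      apply Subtype.ext
      rw [hσ₁app, hzqc, hτw]
    have h2 : ∀ v : ↥Qr, ∃ k : ℕ, σ₂ v = v * z₁q ^ k := by
      intro v
      obtain ⟨k, hk⟩ := hτform (α⁻¹ (v : ↥R)) (hinv α⁻¹ (G.inv_mem hαG) v v.2)
      refine ⟨k, Subtype.ext ?_⟩
      rw [hσ₂app, hk, map_mul, map_pow, MulAut.apply_inv_self, Subgroup.coe_mul,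
        Subgroup.coe_pow, hz₁qc]
    have h2z : σ₂ z₁q = z₁q := by
      apply Subtype.ext
      rw [hσ₂app, hz₁qc, MulAut.inv_apply_self, hτw]
    obtain ⟨a, h1a⟩ := h1 z₁q
    have ha : zq ^ a ≠ 1 := by
      intro h
      rw [h, mul_one] at h1a
      apply htz₁
      have h3 := congrArg (fun v : ↥Qr => ((v : ↥R) : Ω)) h1a
      simp only [hσ₁app, hz₁qc, hτapp] at h3
      have : t * ((α w : ↥R) : Ω) = (t * ((α w : ↥R) : Ω) * t⁻¹) * t := by group
      rw [this, h3]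
    obtain ⟨b, h2b⟩ := h2 zq
    have hb : z₁q ^ b ≠ 1 := by
      intro h
      rw [h, mul_one] at h2b
      apply htzm
      have h3 := congrArg (fun v : ↥Qr => (v : ↥R)) h2b
      simp only [hσ₂app, hzqc] at h3
      have h4 := congrArg (fun x => α⁻¹ x) h3
      simp only [MulAut.inv_apply_self] at h4
      have h5 := congrArg Subtype.val h4
      rw [hτapp] at h5
      have : t * ((α⁻¹ w : ↥R) : Ω) = (t * ((α⁻¹ w : ↥R) : Ω) * t⁻¹) * t := by group
      rw [this, h5]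
    have hQexp' : ∀ v : ↥Qr, v ^ p = 1 := fun v =>
      Subtype.ext (by rw [Subgroup.coe_pow]; exact hQexp v v.2)
    obtain ⟨δb, hδbmem, hδbz, hδbc⟩ := exists_inverting (p := p) zq z₁q (hQexp' zq)
      (hQexp' z₁q) σ₁ σ₂ h1 h1z a h1a ha h2 h2z b h2b hb
    -- lift `δb` to `G`
    have hcl : Subgroup.closure ({σ₁, σ₂} : Set (MulAut ↥Qr)) =
        (Subgroup.closure ({⟨τ, hτK.1⟩, ⟨τ', hτ'K.1⟩} : Set ↥G)).map (MetaSC.resHom G Qr hinv) := by
      rw [MonoidHom.map_closure, Set.image_pair, hσ₁, hσ₂]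
    rw [hcl] at hδbmem
    obtain ⟨δG, hδGmem, hδGeq⟩ := hδbmem
    have hδGK : δG ∈ (kSub G Qr).subgroupOf G := by
      have hle : Subgroup.closure ({⟨τ, hτK.1⟩, ⟨τ', hτ'K.1⟩} : Set ↥G) ≤
          (kSub G Qr).subgroupOf G := by
        rw [Subgroup.closure_le]
        rintro x (rfl | rfl)
        · exact Subgroup.mem_subgroupOf.mpr hτK
        · exact Subgroup.mem_subgroupOf.mpr hτ'K
      exact hle hδGmem
    obtain ⟨δ, hδdef⟩ : ∃ δ : MulAut ↥R, δ = (δG : MulAut ↥R) := ⟨_, rfl⟩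
    have hδK : δ ∈ kSub G Qr := hδdef ▸ Subgroup.mem_subgroupOf.mp hδGK
    have hδG : δ ∈ G := hδK.1
    have hδapp : ∀ v : ↥Qr, ((δb v : ↥Qr) : ↥R) = δ v := fun v => by
      rw [← hδGeq, hδdef]; rfl
    have hδw : δ w = w⁻¹ := by
      have := congrArg (fun v : ↥Qr => (v : ↥R)) hδbz
      simp only [hδapp, hzqc, Subgroup.coe_inv] at this
      exact this
    have hδτ : ∀ x ∈ Qr, δ (τ x) = τ (δ x) := by
      intro x hx
      have := congrArg (fun v : ↥Qr => (v : ↥R)) (hδbc ⟨x, hx⟩)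
      simp only [hδapp, hσ₁app] at this
      exact this
    -- the commutator of `δ` and `τ` is inner
    obtain ⟨κ₀, hκ₀⟩ : ∃ κ₀, κ₀ = δ * τ * δ⁻¹ * τ⁻¹ := ⟨_, rfl⟩
    have hκ₀K : κ₀ ∈ kSub G Qr := hκ₀ ▸ (kSub G Qr).mul_mem
      ((kSub G Qr).mul_mem ((kSub G Qr).mul_mem hδK hτK) ((kSub G Qr).inv_mem hδK))
      ((kSub G Qr).inv_mem hτK)
    have hκ₀fix : ∀ x ∈ Qr, κ₀ x = x := by
      intro x hx
      have hy : δ⁻¹ (τ⁻¹ x) ∈ Qr :=
        hinv δ⁻¹ (G.inv_mem hδG) _ (hinv τ⁻¹ (G.inv_mem hτK.1) x hx)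
      rw [hκ₀]
      show δ (τ (δ⁻¹ (τ⁻¹ x))) = x
      rw [hδτ _ hy, MulAut.apply_inv_self, MulAut.apply_inv_self]
    have hκ₀inn : κ₀ ∈ Inn ↥R := by
      rw [← hradG]
      refine hchain (fun i => match i with | 0 => ⊥ | 1 => Qr | _ => ⊤) 2 ?_ rfl rfl κ₀ hκ₀K.1 ?_
      · intro i α' hα' x hx
        match i with
        | 0 =>
          have hx' : x ∈ (⊥ : Subgroup ↥R) := hx
          rw [Subgroup.mem_bot] at hx'
          show α' x ∈ (⊥ : Subgroup ↥R)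
          rw [hx', map_one]; exact Subgroup.one_mem _
        | 1 => exact hinv α' hα' x hx
        | (n + 2) => exact Subgroup.mem_top _
      · intro i hi x hx
        match i with
        | 0 =>
          have hx' : x ∈ Qr := hx
          show x⁻¹ * κ₀ x ∈ (⊥ : Subgroup ↥R)
          rw [Subgroup.mem_bot, hκ₀fix x hx', inv_mul_cancel]
        | 1 => exact hκ₀K.2 x
        | (n + 2) => omega
    obtain ⟨r, hr⟩ := hκ₀inn
    have hδτ' : ∀ x : ↥R, δ (τ x) = r * τ (δ x) * r⁻¹ := by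
      intro x
      have h3 : δ * τ = κ₀ * τ * δ := by rw [hκ₀]; group
      have h4 := congrArg (fun f : MulAut ↥R => f x) h3
      simp only [MulAut.mul_apply] at h4
      rw [h4, ← hr]
      rfl
    -- extend `δ` to a subgroup containing `t`
    obtain ⟨E, ψ, hψ, htE, hRE, hext⟩ := exists_extension_at F hRec δ (hG ▸ hδG) htS htN
      (S.mul_mem (hRS r.2) htS) (h := (r : Ω) * t) (by
        intro x hx
        have e : (⟨t * (x : Ω) * t⁻¹, hx⟩ : ↥R) = τ x := Subtype.ext (hτapp x).symm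
        rw [e, hδτ' x, Subgroup.coe_mul, Subgroup.coe_mul, Subgroup.coe_inv, hτapp]
        group)
    obtain ⟨s', hs'⟩ : ∃ s', s' = ψ ⟨t, htE⟩ := ⟨_, rfl⟩
    have hs'P : s' ∈ P := by
      have hle : Subgroup.zpowers t ≤ E := by rw [Subgroup.zpowers_le]; exact htE
      have := hP.2 (Subgroup.zpowers t) (by rw [Subgroup.zpowers_le]; exact htP) _
        (fs_restrict_mem F hle hψ) ⟨t, Subgroup.mem_zpowers t⟩
      rw [hs']; exact this
    have hs'S : s' ∈ S := hPS hs'P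
    -- `s'` induces the same automorphism as `r t`
    have hs'conj : ∀ x : ↥R, s' * ((δ x : ↥R) : Ω) * s'⁻¹ = ((δ (τ x) : ↥R) : Ω) := by
      intro x
      have hx1 : t * (x : Ω) * t⁻¹ ∈ R := by rw [← hτapp]; exact (τ x).2
      have e1 : (⟨t * (x : Ω) * t⁻¹, hRE hx1⟩ : ↥E) = ⟨t, htE⟩ * ⟨x, hRE x.2⟩ * ⟨t, htE⟩⁻¹ := rfl
      have h3 := hext _ hx1 (hRE hx1)
      rw [e1, map_mul, map_mul, map_inv, hext x x.2 (hRE x.2), ← hs'] at h3
      rw [h3]
      have e : (⟨t * (x : Ω) * t⁻¹, hx1⟩ : ↥R) = τ x := Subtype.ext (hτapp x).symm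
      rw [e]
    have hcR : ((r : Ω) * t)⁻¹ * s' ∈ R := by
      apply hcenR
      refine ⟨S.mul_mem (S.inv_mem (S.mul_mem (hRS r.2) htS)) hs'S, ?_⟩
      show _ ∈ Subgroup.centralizer (R : Set Ω)
      rw [Subgroup.mem_centralizer_iff]
      intro y hy
      have h3 := hs'conj (δ⁻¹ ⟨y, hy⟩)
      rw [MulAut.apply_inv_self, hδτ', MulAut.apply_inv_self, Subgroup.coe_mul,
        Subgroup.coe_mul, Subgroup.coe_inv, hτapp] at h3
      simp only at h3
      have h4 : s' * y = (r : Ω) * t * y * t⁻¹ * (r : Ω)⁻¹ * s' := by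
        have : s' * y = (s' * y * s'⁻¹) * s' := by group
        rw [this, h3]; group
      rw [mul_assoc, h4]; group
    obtain ⟨q, hq⟩ : ∃ q, q = t⁻¹ * s' := ⟨_, rfl⟩
    have hqR : q ∈ R := by
      have h3 : t⁻¹ * (r : Ω) * t ∈ R := by
        have := (Subgroup.mem_normalizer_iff.mp (Subgroup.inv_mem _ htN) (r : Ω)).mp r.2
        rwa [inv_inv] at this
      have := R.mul_mem h3 hcR
      rw [hq]
      convert this using 1
      group
    have hqP : q ∈ P := hq ▸ P.mul_mem (P.inv_mem htP) hs'P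
    have hqp : q ^ p = 1 := by
      have := hQexp ⟨q, hqR⟩ ((hmemQr _).mpr hqP)
      exact congrArg Subtype.val this
    have hs'tq : s' = t * q := by rw [hq]; group
    -- the `p`-th power of `s'`
    have hccP : ∀ x y : ↥P, ⁅x, y⁆ ∈ Subgroup.center ↥P := fun x y =>
      commutator_le_center_of_card_prime hPp hc
        (Subgroup.commutator_mem_commutator (Subgroup.mem_top x) (Subgroup.mem_top y))
    have hcpP : ∀ x y : ↥P, ⁅x, y⁆ ^ p = 1 := by
      intro x y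
      have := pow_card_eq_one' (G := ↥(commutator ↥P))
        (x := ⟨⁅x, y⁆, Subgroup.commutator_mem_commutator (Subgroup.mem_top x) (Subgroup.mem_top y)⟩)
      rw [hc] at this
      exact congrArg Subtype.val this
    have hpow1 : (t * q) ^ p = t ^ p := by
      have := Cfsg.Agent.H1.class2_mul_pow_prime hccP hpp hp2 (⟨t, htP⟩ : ↥P) ⟨q, hqP⟩
        (hcpP _ _)
      have h3 := congrArg Subtype.val this
      simp only [Subgroup.coe_pow, Subgroup.coe_mul] at h3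
      rw [h3, hqp, mul_one]
    have htpZ : t ^ p ∈ Z₀ := hZ₀ ▸ pow_mem_commSub hPp hΦ htP
    obtain ⟨k, hk⟩ := hgenZ _ htpZ
    have hpow2 : s' ^ p = (t ^ p)⁻¹ := by
      have htpR : t ^ p ∈ R := hZ₀R htpZ
      have e1 : (⟨t ^ p, hRE htpR⟩ : ↥E) = ⟨t, htE⟩ ^ p := rfl
      have h3 := hext _ htpR (hRE htpR)
      rw [e1, map_pow, ← hs'] at h3
      rw [h3]
      have e2 : (⟨t ^ p, htpR⟩ : ↥R) = w ^ k := Subtype.ext hk
      rw [e2, map_pow, hδw, Subgroup.coe_pow, Subgroup.coe_inv, hk, inv_pow]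
    have h5 : (t ^ p) ^ 2 = 1 := by
      rw [pow_two]
      nth_rewrite 1 [← hpow1, ← hs'tq, hpow2]
      rw [inv_mul_cancel]
    have h6 : (t ^ p) ^ p = 1 := by
      have := pow_card_eq_one' (G := ↥Z₀) (x := ⟨t ^ p, htpZ⟩)
      rw [hZ₀card] at this
      exact congrArg Subtype.val this
    have h7 : (t ^ p) ^ Nat.gcd 2 p = 1 := pow_gcd_eq_one.mpr ⟨h5, h6⟩
    have h8 : Nat.gcd 2 p = 1 := by
      rw [Nat.gcd_comm]
      exact (Nat.Prime.coprime_iff_not_dvd hpp).mpr (fun h => hp2 ((Nat.prime_dvd_prime_iff_eq hpp Nat.prime_two).mp h))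
    rw [h8, pow_one] at h7
    exact Subtype.ext h7

end Cfsg.Agent.Lib.Helper7.GenEx
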