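import Mathlib
import Cfsg.Prelude.Def_PLocal
import Cfsg.Agent.Lib.Helper7.CentrallyLarge2
import Cfsg.Agent.Lib.Helper7.ChermakDelgado

set_option autoImplicit false

namespace Cfsg.Agent.Lib.Helper7

open Cfsg
open scoped commutatorElement

section gillam_generic

variable {S : Type*} [Group S]

/-- `[A, S]` is a normal subgroup. -/
theorem commutator_top_normal_gillam (A : Subgroup S) : (⁅A, (⊤ : Subgroup S)⁆).Normal := by
  refine ⟨fun n hn g => ?_⟩
  have hle : ⁅A, (⊤ : Subgroup S)⁆ ≤ (⁅A, (⊤ : Subgroup S)⁆).comap (MulAut.conj g).toMonoidHom := by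
    rw [Subgroup.commutator_le]
    intro a ha h _
    rw [Subgroup.mem_comap]
    have e : (MulAut.conj g).toMonoidHom ⁅a, h⁆ = ⁅a, g⁆⁻¹ * ⁅a, g * h⁆ := by
      simp only [MulEquiv.toMonoidHom_eq_coe, MonoidHom.coe_coe, MulAut.conj_apply,
        commutatorElement_def]
      group
    rw [e]
    exact Subgroup.mul_mem _ (Subgroup.inv_mem _ (Subgroup.commutator_mem_commutator ha (Subgroup.mem_top g)))
      (Subgroup.commutator_mem_commutator ha (Subgroup.mem_top (g * h)))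
  have := hle hn
  rw [Subgroup.mem_comap] at this
  simpa using this

variable [Finite S]

theorem card_sup_mul_card_inf_of_normal_gillam (H K : Subgroup S) [K.Normal] :
    Nat.card ↥(H ⊔ K) * Nat.card ↥(H ⊓ K) = Nat.card ↥H * Nat.card ↥K := by
  have h1 : Nat.card ↥(H ⊓ K) * K.relIndex H = Nat.card ↥H := by
    rw [← Subgroup.inf_relIndex_left, ← Subgroup.relIndex_bot_left, ← Subgroup.relIndex_bot_left,
      Subgroup.relIndex_mul_relIndex _ _ _ bot_le inf_le_left]
  have h2 : Nat.card ↥K * K.relIndex (H ⊔ K) = Nat.card ↥(H ⊔ K) := by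
    rw [← Subgroup.relIndex_bot_left, ← Subgroup.relIndex_bot_left,
      Subgroup.relIndex_mul_relIndex _ _ _ bot_le le_sup_right]
  rw [Subgroup.relIndex_sup_right] at h2
  rw [← h2, ← h1]
  ring

end gillam_generic


section gillam_main

variable {S : Type*} [Group S]

/-- Gillam's subgroup `core(A) · [A, S]`. -/
def gillamSub (A : Subgroup S) : Subgroup S := A.normalCore ⊔ ⁅A, (⊤ : Subgroup S)⁆

theorem gillamSub_normal (A : Subgroup S) : (gillamSub A).Normal := by
  haveI := commutator_top_normal_gillam A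
  exact Subgroup.sup_normal _ _

theorem gillamSub_le_normalClosure (A : Subgroup S) :
    gillamSub A ≤ Subgroup.normalClosure (A : Set S) := by
  apply sup_le
  · exact (Subgroup.normalCore_le A).trans Subgroup.le_normalClosure
  · rw [Subgroup.commutator_le]
    intro a ha g _
    have e : ⁅a, g⁆ = a * (g * a⁻¹ * g⁻¹) := by rw [commutatorElement_def]; group
    rw [e]
    exact Subgroup.mul_mem _ (Subgroup.le_normalClosure ha)
      (Subgroup.normalClosure_normal.conj_mem _ (Subgroup.inv_mem _ (Subgroup.le_normalClosure ha)) g)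

theorem normalCore_le_centralizer_commutator_top {A : Subgroup S}
    (hAc : A ≤ Subgroup.centralizer (A : Set S)) :
    A.normalCore ≤ Subgroup.centralizer ((⁅A, (⊤ : Subgroup S)⁆ : Subgroup S) : Set S) := by
  rw [Subgroup.le_centralizer_iff, Subgroup.commutator_le]
  intro a ha g _
  rw [Subgroup.mem_centralizer_iff]
  intro d hd
  have hdA : d ∈ A := Subgroup.normalCore_le A hd
  have h1 : a * d = d * a := Subgroup.mem_centralizer_iff.mp (hAc hdA) a ha
  have hgd : g⁻¹ * d * g⁻¹⁻¹ ∈ A := hd g⁻¹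
  have h2 : a⁻¹ * (g⁻¹ * d * g⁻¹⁻¹) = (g⁻¹ * d * g⁻¹⁻¹) * a⁻¹ :=
    Subgroup.mem_centralizer_iff.mp (hAc hgd) a⁻¹ (Subgroup.inv_mem _ ha)
  have h3 : d * (g * a⁻¹ * g⁻¹) = (g * a⁻¹ * g⁻¹) * d := by
    calc d * (g * a⁻¹ * g⁻¹) = g * ((g⁻¹ * d * g⁻¹⁻¹) * a⁻¹) * g⁻¹ := by group
      _ = g * (a⁻¹ * (g⁻¹ * d * g⁻¹⁻¹)) * g⁻¹ := by rw [h2]
      _ = (g * a⁻¹ * g⁻¹) * d := by group
  have e : ⁅a, g⁆ = a * (g * a⁻¹ * g⁻¹) := by rw [commutatorElement_def]; group
  rw [e]
  calc d * (a * (g * a⁻¹ * g⁻¹)) = (d * a) * (g * a⁻¹ * g⁻¹) := by simp only [mul_assoc]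
    _ = (a * d) * (g * a⁻¹ * g⁻¹) := by rw [h1]
    _ = a * (d * (g * a⁻¹ * g⁻¹)) := by simp only [mul_assoc]
    _ = a * ((g * a⁻¹ * g⁻¹) * d) := by rw [h3]
    _ = a * (g * a⁻¹ * g⁻¹) * d := by simp only [mul_assoc]

variable [Finite S]

theorem mem_normalCore_of_centralizes_commutator_top {A : Subgroup S}
    (hA : A ∈ maxAbelianSubgroups S) {a : S} (ha : a ∈ A)
    (hc : a ∈ Subgroup.centralizer ((⁅A, (⊤ : Subgroup S)⁆ : Subgroup S) : Set S)) :
    a ∈ A.normalCore := by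
  have hAc : A ≤ Subgroup.centralizer (A : Set S) := (isMulCommutative_iff_le_centralizer A).mp hA.1
  intro b
  have hmem : b * a * b⁻¹ ∈ Subgroup.centralizer (A : Set S) := by
    rw [Subgroup.mem_centralizer_iff]
    intro x hx
    have h1 : x * a = a * x := Subgroup.mem_centralizer_iff.mp (hAc ha) x hx
    have h2 : ⁅x⁻¹, b⁻¹⁆ * a = a * ⁅x⁻¹, b⁻¹⁆ :=
      Subgroup.mem_centralizer_iff.mp hc _
        (Subgroup.commutator_mem_commutator (Subgroup.inv_mem _ hx) (Subgroup.mem_top _))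
    have e : b⁻¹ * x * b = x * ⁅x⁻¹, b⁻¹⁆ := by rw [commutatorElement_def]; group
    have h3 : (b⁻¹ * x * b) * a = a * (b⁻¹ * x * b) := by
      rw [e, mul_assoc, h2, ← mul_assoc, h1, mul_assoc]
    calc x * (b * a * b⁻¹) = b * ((b⁻¹ * x * b) * a) * b⁻¹ := by group
      _ = b * (a * (b⁻¹ * x * b)) * b⁻¹ := by rw [h3]
      _ = b * a * b⁻¹ * x := by group
  rwa [centralizer_eq_of_mem_maxAbelianSubgroups hA] at hmem

theorem commutator_top_le_centralizer_self (hmeta : IsMulCommutative ↥(commutator S))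
    (A : Subgroup S) :
    ⁅A, (⊤ : Subgroup S)⁆ ≤ Subgroup.centralizer ((⁅A, (⊤ : Subgroup S)⁆ : Subgroup S) : Set S) := by
  have hle : ⁅A, (⊤ : Subgroup S)⁆ ≤ commutator S := by
    rw [commutator_def]; exact Subgroup.commutator_mono le_top le_rfl
  have h1 := (isMulCommutative_iff_le_centralizer (commutator S)).mp hmeta
  exact hle.trans (h1.trans (Subgroup.centralizer_le hle))

theorem inf_commutator_top_le_normalCore (hmeta : IsMulCommutative ↥(commutator S))
    {A : Subgroup S} (hA : A ∈ maxAbelianSubgroups S) :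
    A ⊓ ⁅A, (⊤ : Subgroup S)⁆ ≤ A.normalCore := by
  intro x hx
  exact mem_normalCore_of_centralizes_commutator_top hA hx.1
    (commutator_top_le_centralizer_self hmeta A hx.2)

theorem inf_gillamSub_le_normalCore (hmeta : IsMulCommutative ↥(commutator S))
    {A : Subgroup S} (hA : A ∈ maxAbelianSubgroups S) :
    A ⊓ gillamSub A ≤ A.normalCore := by
  intro x hx
  have hx2 : x ∈ ((A.normalCore ⊔ ⁅A, (⊤ : Subgroup S)⁆ : Subgroup S) : Set S) := hx.2
  rw [Subgroup.normal_mul] at hx2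
  obtain ⟨d, hd, u, hu, hdu⟩ := Set.mem_mul.mp hx2
  have hdu' : d * u = x := hdu
  have huA : u ∈ A := by
    have : u = d⁻¹ * x := by rw [← hdu']; group
    rw [this]
    exact Subgroup.mul_mem _ (Subgroup.inv_mem _ (Subgroup.normalCore_le A hd)) hx.1
  have huD : u ∈ A.normalCore := inf_commutator_top_le_normalCore hmeta hA ⟨huA, hu⟩
  rw [← hdu']
  exact Subgroup.mul_mem _ hd huD

theorem gillamSub_le_centralizer_self (hmeta : IsMulCommutative ↥(commutator S))
    {A : Subgroup S} (hAc : A ≤ Subgroup.centralizer (A : Set S)) :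
    gillamSub A ≤ Subgroup.centralizer ((gillamSub A : Subgroup S) : Set S) := by
  unfold gillamSub
  rw [centralizer_sup_eq]
  have h1 := normalCore_le_centralizer_commutator_top hAc
  apply sup_le
  · apply le_inf _ h1
    exact (Subgroup.normalCore_le A).trans (hAc.trans (Subgroup.centralizer_le (Subgroup.normalCore_le A)))
  · exact le_inf (Subgroup.le_centralizer_iff.mp h1) (commutator_top_le_centralizer_self hmeta A)

end gillam_main


section gillam_count

variable {S : Type*} [Group S] [Finite S]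

/-- the Chermak–Delgado inequality in `ℕ`. -/
theorem cd_nat_ineq (V X Y : Subgroup S) :
    (Nat.card ↥X * Nat.card ↥(V ⊓ Subgroup.centralizer (X : Set S))) *
      (Nat.card ↥Y * Nat.card ↥(V ⊓ Subgroup.centralizer (Y : Set S))) ≤
    (Nat.card ↥(X ⊔ Y) * Nat.card ↥(V ⊓ Subgroup.centralizer ((X ⊔ Y : Subgroup S) : Set S))) *
      (Nat.card ↥(X ⊓ Y) * Nat.card ↥(V ⊓ Subgroup.centralizer ((X ⊓ Y : Subgroup S) : Set S))) := by
  have hc1 : V ⊓ Subgroup.centralizer ((X ⊔ Y : Subgroup S) : Set S) =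
      (V ⊓ Subgroup.centralizer (X : Set S)) ⊓ (V ⊓ Subgroup.centralizer (Y : Set S)) := by
    rw [centralizer_sup_eq]
    ext x
    simp only [Subgroup.mem_inf]
    tauto
  have hc2 : (V ⊓ Subgroup.centralizer (X : Set S)) ⊔ (V ⊓ Subgroup.centralizer (Y : Set S)) ≤
      V ⊓ Subgroup.centralizer ((X ⊓ Y : Subgroup S) : Set S) := by
    apply sup_le
    · exact inf_le_inf_left _ (Subgroup.centralizer_le
        (show ((X ⊓ Y : Subgroup S) : Set S) ⊆ (X : Set S) from (inf_le_left : X ⊓ Y ≤ X)))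
    · exact inf_le_inf_left _ (Subgroup.centralizer_le
        (show ((X ⊓ Y : Subgroup S) : Set S) ⊆ (Y : Set S) from (inf_le_right : X ⊓ Y ≤ Y)))
  have hn1 := card_mul_card_le_card_sup_mul_card_inf X Y
  have hn2 := card_mul_card_le_card_sup_mul_card_inf (V ⊓ Subgroup.centralizer (X : Set S))
    (V ⊓ Subgroup.centralizer (Y : Set S))
  have hn3 : Nat.card ↥((V ⊓ Subgroup.centralizer (X : Set S)) ⊔ (V ⊓ Subgroup.centralizer (Y : Set S))) ≤
      Nat.card ↥(V ⊓ Subgroup.centralizer ((X ⊓ Y : Subgroup S) : Set S)) :=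
    Subgroup.card_le_of_le hc2
  rw [← hc1] at hn2
  calc (Nat.card ↥X * Nat.card ↥(V ⊓ Subgroup.centralizer (X : Set S))) *
      (Nat.card ↥Y * Nat.card ↥(V ⊓ Subgroup.centralizer (Y : Set S)))
      = (Nat.card ↥X * Nat.card ↥Y) * (Nat.card ↥(V ⊓ Subgroup.centralizer (X : Set S)) *
          Nat.card ↥(V ⊓ Subgroup.centralizer (Y : Set S))) := by ring
    _ ≤ (Nat.card ↥(X ⊔ Y) * Nat.card ↥(X ⊓ Y)) *
        (Nat.card ↥((V ⊓ Subgroup.centralizer (X : Set S)) ⊔ (V ⊓ Subgroup.centralizer (Y : Set S))) *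
          Nat.card ↥(V ⊓ Subgroup.centralizer ((X ⊔ Y : Subgroup S) : Set S))) :=
        Nat.mul_le_mul hn1 hn2
    _ ≤ (Nat.card ↥(X ⊔ Y) * Nat.card ↥(X ⊓ Y)) *
        (Nat.card ↥(V ⊓ Subgroup.centralizer ((X ⊓ Y : Subgroup S) : Set S)) *
          Nat.card ↥(V ⊓ Subgroup.centralizer ((X ⊔ Y : Subgroup S) : Set S))) :=
        Nat.mul_le_mul_left _ (Nat.mul_le_mul_right _ hn3)
    _ = _ := by ring

variable (hmeta : IsMulCommutative ↥(commutator S)) {A : Subgroup S}
  (hA : A ∈ maxAbelianSubgroups S)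

include hmeta hA

/-- (M): the measure is bounded by `|A| |D|`. -/
theorem gillam_measure_le {Z : Subgroup S} (hZA : Z ≤ A) :
    Nat.card ↥Z * Nat.card ↥(gillamSub A ⊓ Subgroup.centralizer (Z : Set S)) ≤
      Nat.card ↥A * Nat.card ↥A.normalCore := by
  have hAc : A ≤ Subgroup.centralizer (A : Set S) := (isMulCommutative_iff_le_centralizer A).mp hA.1
  have hBc := gillamSub_le_centralizer_self hmeta hAc
  set C := gillamSub A ⊓ Subgroup.centralizer (Z : Set S) with hC
  have hT : IsMulCommutative ↥(Z ⊔ C) := by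
    rw [isMulCommutative_iff_le_centralizer, centralizer_sup_eq]
    apply sup_le
    · apply le_inf
      · exact hZA.trans (hAc.trans (Subgroup.centralizer_le hZA))
      · exact Subgroup.le_centralizer_iff.mp (inf_le_right : C ≤ Subgroup.centralizer (Z : Set S))
    · apply le_inf
      · exact inf_le_right
      · exact (inf_le_left : C ≤ gillamSub A).trans
          (hBc.trans (Subgroup.centralizer_le (inf_le_left : C ≤ gillamSub A)))
  have h1 : Nat.card ↥(Z ⊔ C) ≤ Nat.card ↥A := hA.2 _ hT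
  have h2 : Nat.card ↥(Z ⊓ C) ≤ Nat.card ↥A.normalCore :=
    Subgroup.card_le_of_le ((inf_le_inf hZA inf_le_left).trans (inf_gillamSub_le_normalCore hmeta hA))
  exact (card_mul_card_le_card_sup_mul_card_inf Z C).trans (Nat.mul_le_mul h1 h2)

/-- (L1): `A` is full. -/
theorem gillam_full_self :
    Nat.card ↥A * Nat.card ↥A.normalCore ≤
      Nat.card ↥A * Nat.card ↥(gillamSub A ⊓ Subgroup.centralizer (A : Set S)) := by
  have hAc : A ≤ Subgroup.centralizer (A : Set S) := (isMulCommutative_iff_le_centralizer A).mp hA.1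
  apply Nat.mul_le_mul_left
  apply Subgroup.card_le_of_le
  exact le_inf le_sup_left ((Subgroup.normalCore_le A).trans hAc)

/-- (L3): fullness is inherited by intersections. -/
theorem gillam_full_inf {X Y : Subgroup S} (hXA : X ≤ A) (hYA : Y ≤ A)
    (hX : Nat.card ↥A * Nat.card ↥A.normalCore ≤
      Nat.card ↥X * Nat.card ↥(gillamSub A ⊓ Subgroup.centralizer (X : Set S)))
    (hY : Nat.card ↥A * Nat.card ↥A.normalCore ≤
      Nat.card ↥Y * Nat.card ↥(gillamSub A ⊓ Subgroup.centralizer (Y : Set S))) :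
    Nat.card ↥A * Nat.card ↥A.normalCore ≤
      Nat.card ↥(X ⊓ Y) * Nat.card ↥(gillamSub A ⊓ Subgroup.centralizer ((X ⊓ Y : Subgroup S) : Set S)) := by
  have hcd := cd_nat_ineq (gillamSub A) X Y
  have hM := gillam_measure_le hmeta hA (sup_le hXA hYA)
  have hpos : 0 < Nat.card ↥A * Nat.card ↥A.normalCore := Nat.mul_pos Nat.card_pos Nat.card_pos
  set m := Nat.card ↥A * Nat.card ↥A.normalCore with hm
  have h1 : m * m ≤ m * (Nat.card ↥(X ⊓ Y) *
      Nat.card ↥(gillamSub A ⊓ Subgroup.centralizer ((X ⊓ Y : Subgroup S) : Set S))) :=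
    calc m * m ≤ _ := Nat.mul_le_mul hX hY
      _ ≤ _ := hcd
      _ ≤ _ := Nat.mul_le_mul_right _ hM
  exact Nat.le_of_mul_le_mul_left h1 hpos


/-- (L2): `A ⊓ A^g` is full. -/
theorem gillam_full_conj (g : S) :
    Nat.card ↥A * Nat.card ↥A.normalCore ≤
      Nat.card ↥(A ⊓ A.map (MulAut.conj g).toMonoidHom) *
        Nat.card ↥(gillamSub A ⊓ Subgroup.centralizer
          ((A ⊓ A.map (MulAut.conj g).toMonoidHom : Subgroup S) : Set S)) := by
  have hAc : A ≤ Subgroup.centralizer (A : Set S) := (isMulCommutative_iff_le_centralizer A).mp hA.1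
  set Ag := A.map (MulAut.conj g).toMonoidHom with hAg
  set U := ⁅A, (⊤ : Subgroup S)⁆ with hU
  haveI hUn : U.Normal := commutator_top_normal_gillam A
  set D := A.normalCore with hD
  set J := A ⊔ Ag with hJ
  have hcardAg : Nat.card ↥Ag = Nat.card ↥A :=
    Subgroup.card_map_of_injective (MulAut.conj g).injective
  have hAgc : Ag ≤ Subgroup.centralizer (Ag : Set S) := by
    rintro x ⟨a, ha, rfl⟩
    rw [Subgroup.mem_centralizer_iff]
    rintro y ⟨b, hb, rfl⟩
    have := Subgroup.mem_centralizer_iff.mp (hAc ha) b hb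
    rw [← map_mul, ← map_mul, this]
  have hAgU : Ag ≤ A ⊔ U := by
    rintro x ⟨a, ha, rfl⟩
    have e : (MulAut.conj g).toMonoidHom a = a * ⁅a⁻¹, g⁆ := by
      simp only [MulEquiv.toMonoidHom_eq_coe, MonoidHom.coe_coe, MulAut.conj_apply,
        commutatorElement_def]
      group
    rw [e]
    exact Subgroup.mul_mem _ (Subgroup.mem_sup_left ha)
      (Subgroup.mem_sup_right (Subgroup.commutator_mem_commutator (Subgroup.inv_mem _ ha)
        (Subgroup.mem_top g)))
  have hJU : J ≤ A ⊔ U := sup_le le_sup_left hAgU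
  have hJX : J ≤ Subgroup.centralizer ((A ⊓ Ag : Subgroup S) : Set S) :=
    sup_le (hAc.trans (Subgroup.centralizer_le (inf_le_left : A ⊓ Ag ≤ A)))
      (hAgc.trans (Subgroup.centralizer_le (inf_le_right : A ⊓ Ag ≤ Ag)))
  have hW : D ⊔ (J ⊓ U) ≤ gillamSub A ⊓ Subgroup.centralizer ((A ⊓ Ag : Subgroup S) : Set S) := by
    apply sup_le
    · exact le_inf le_sup_left ((Subgroup.normalCore_le A).trans
        (hAc.trans (Subgroup.centralizer_le (inf_le_left : A ⊓ Ag ≤ A))))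
    · exact le_inf (inf_le_right.trans le_sup_right) (inf_le_left.trans hJX)
  have n1 : Nat.card ↥A * Nat.card ↥A ≤ Nat.card ↥J * Nat.card ↥(A ⊓ Ag) := by
    have := card_mul_card_le_card_sup_mul_card_inf A Ag
    rwa [hcardAg] at this
  have e1 := card_sup_mul_card_inf_of_normal_gillam J U
  have e2 := card_sup_mul_card_inf_of_normal_gillam A U
  have e3 : Nat.card ↥(J ⊔ U) ≤ Nat.card ↥(A ⊔ U) :=
    Subgroup.card_le_of_le (sup_le hJU le_sup_right)
  have n2 : Nat.card ↥J * Nat.card ↥(A ⊓ U) ≤ Nat.card ↥A * Nat.card ↥(J ⊓ U) := by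
    have hUpos : 0 < Nat.card ↥U := Nat.card_pos
    apply Nat.le_of_mul_le_mul_left _ hUpos
    calc Nat.card ↥U * (Nat.card ↥J * Nat.card ↥(A ⊓ U))
        = (Nat.card ↥J * Nat.card ↥U) * Nat.card ↥(A ⊓ U) := by ring
      _ = (Nat.card ↥(J ⊔ U) * Nat.card ↥(J ⊓ U)) * Nat.card ↥(A ⊓ U) := by rw [e1]
      _ ≤ (Nat.card ↥(A ⊔ U) * Nat.card ↥(J ⊓ U)) * Nat.card ↥(A ⊓ U) :=
          Nat.mul_le_mul_right _ (Nat.mul_le_mul_right _ e3)
      _ = (Nat.card ↥(A ⊔ U) * Nat.card ↥(A ⊓ U)) * Nat.card ↥(J ⊓ U) := by ring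
      _ = (Nat.card ↥A * Nat.card ↥U) * Nat.card ↥(J ⊓ U) := by rw [e2]
      _ = Nat.card ↥U * (Nat.card ↥A * Nat.card ↥(J ⊓ U)) := by ring
  have n3 : Nat.card ↥D * Nat.card ↥(J ⊓ U) ≤
      Nat.card ↥(gillamSub A ⊓ Subgroup.centralizer ((A ⊓ Ag : Subgroup S) : Set S)) *
        Nat.card ↥(A ⊓ U) :=
    calc Nat.card ↥D * Nat.card ↥(J ⊓ U)
        ≤ Nat.card ↥(D ⊔ (J ⊓ U)) * Nat.card ↥(D ⊓ (J ⊓ U)) :=
          card_mul_card_le_card_sup_mul_card_inf D (J ⊓ U)
      _ ≤ _ := Nat.mul_le_mul (Subgroup.card_le_of_le hW)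
          (Subgroup.card_le_of_le (inf_le_inf (Subgroup.normalCore_le A) inf_le_right))
  have hpos : 0 < Nat.card ↥A * Nat.card ↥(A ⊓ U) := Nat.mul_pos Nat.card_pos Nat.card_pos
  generalize Nat.card ↥A = a at *
  generalize Nat.card ↥J = j at *
  generalize Nat.card ↥(A ⊓ Ag) = x at *
  generalize Nat.card ↥(A ⊓ U) = v at *
  generalize Nat.card ↥(J ⊓ U) = ju at *
  generalize Nat.card ↥D = d at *
  generalize Nat.card ↥(gillamSub A ⊓ Subgroup.centralizer ((A ⊓ Ag : Subgroup S) : Set S)) = c at *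
  apply Nat.le_of_mul_le_mul_left _ hpos
  calc (a * v) * (a * d) = (a * a) * (v * d) := by ring
    _ ≤ (j * x) * (v * d) := Nat.mul_le_mul_right _ n1
    _ = (j * v) * (x * d) := by ring
    _ ≤ (a * ju) * (x * d) := Nat.mul_le_mul_right _ n2
    _ = (d * ju) * (a * x) := by ring
    _ ≤ (c * v) * (a * x) := Nat.mul_le_mul_right _ n3
    _ = (a * v) * (x * c) := by ring

/-- `|A| ≤ |core(A) [A,S]|`. -/
theorem gillam_card_le : Nat.card ↥A ≤ Nat.card ↥(gillamSub A) := by
  let F : Set (Subgroup S) := {X | X ≤ A ∧ Nat.card ↥A * Nat.card ↥A.normalCore ≤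
    Nat.card ↥X * Nat.card ↥(gillamSub A ⊓ Subgroup.centralizer (X : Set S))}
  have hfin : F.Finite := Set.toFinite _
  have hne : F.Nonempty := ⟨A, le_rfl, gillam_full_self hmeta hA⟩
  obtain ⟨X₀, hX₀⟩ := hfin.exists_minimal hne
  have hX₀F : X₀ ∈ F := hX₀.prop
  have hconj : ∀ g : S, X₀ ≤ A.map (MulAut.conj g).toMonoidHom := by
    intro g
    have hmem : X₀ ⊓ (A ⊓ A.map (MulAut.conj g).toMonoidHom) ∈ F :=
      ⟨inf_le_left.trans hX₀F.1, gillam_full_inf hmeta hA hX₀F.1 inf_le_left hX₀F.2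
        (gillam_full_conj hmeta hA g)⟩
    have h := hX₀.le_of_le hmem inf_le_left
    exact h.trans (inf_le_right.trans inf_le_right)
  have hX₀D : X₀ ≤ A.normalCore := by
    intro x hx b
    obtain ⟨y, hy, hyx⟩ := hconj b⁻¹ hx
    have e : b * x * b⁻¹ = y := by
      rw [← hyx]
      simp only [MulEquiv.toMonoidHom_eq_coe, MonoidHom.coe_coe, MulAut.conj_apply]
      group
    rw [e]
    exact hy
  have h1 : Nat.card ↥X₀ ≤ Nat.card ↥A.normalCore := Subgroup.card_le_of_le hX₀D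
  have h2 : Nat.card ↥(gillamSub A ⊓ Subgroup.centralizer (X₀ : Set S)) ≤ Nat.card ↥(gillamSub A) :=
    Subgroup.card_le_of_le inf_le_left
  have h3 : Nat.card ↥A * Nat.card ↥A.normalCore ≤ Nat.card ↥A.normalCore * Nat.card ↥(gillamSub A) :=
    hX₀F.2.trans (Nat.mul_le_mul h1 h2)
  rw [mul_comm] at h3
  exact Nat.le_of_mul_le_mul_left h3 Nat.card_pos

theorem gillamSub_mem_maxAbelianSubgroups : gillamSub A ∈ maxAbelianSubgroups S := by
  have hAc : A ≤ Subgroup.centralizer (A : Set S) := (isMulCommutative_iff_le_centralizer A).mp hA.1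
  exact ⟨(isMulCommutative_iff_le_centralizer _).mpr (gillamSub_le_centralizer_self hmeta hAc),
    fun C hC => (hA.2 C hC).trans (gillam_card_le hmeta hA)⟩

end gillam_count

end Cfsg.Agent.Lib.Helper7
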