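import Mathlib
import Cfsg.Prelude.Def_FusionSystem
import Cfsg.Agent.Lib.Helper7.FusionCentricSub
import Cfsg.Agent.Lib.Helper7.GroupFusion3
import Cfsg.Agent.Lib.Helper7.KNormalizer

set_option autoImplicit false

namespace Cfsg.Agent.Lib.Helper7

open Cfsg Cfsg.FusionSystem

variable {G : Type*} [Group G]

/-- For a subsystem `E` over `S` of `F_S(G)` satisfying the Frattini condition, conjugation by a `p`-element
of `N_G(R)` on `R ≤ S` is a map of `E`. -/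
theorem gfs_pElt_conj_mem_of_frattini [Finite G] (p : ℕ) [Fact p.Prime] (S : Sylow p G)
    (E : FusionSystem (S : Subgroup G))
    (hfrat : ∀ (P : Subgroup G), P ≤ (S : Subgroup G) → ∀ (φ : P →* G),
      φ ∈ (groupFusionSystem (S : Subgroup G)).Hom P →
      ∃ α ∈ (groupFusionSystem (S : Subgroup G)).autGroup (S : Subgroup G), ∃ φ₀ ∈ E.Hom P,
        ∀ (x : P) (hx : φ₀ x ∈ (S : Subgroup G)), φ x = ((α ⟨φ₀ x, hx⟩ : (S : Subgroup G)) : G))
    (R : Subgroup G) (hRS : R ≤ S) (g : G) (hgR : g ∈ Subgroup.normalizer (R : Set G)) (k : ℕ)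
    (hg : orderOf g = p ^ k) : conjHom R g ∈ E.Hom R := by
  have hRp : IsPGroup p R := S.isPGroup'.to_le hRS
  have hzp : IsPGroup p (Subgroup.zpowers g) :=
    isPGroup_zpowers_of_pow_eq_one g k (by rw [← hg]; exact pow_orderOf_eq_one g)
  have hzle : Subgroup.zpowers g ≤ Subgroup.normalizer (R : Set G) := by
    rw [Subgroup.zpowers_le]; exact hgR
  have hQp : IsPGroup p ↥(Subgroup.zpowers g ⊔ R) := IsPGroup.to_sup_of_normal_right' hzp hRp hzle
  obtain ⟨a, -, ha⟩ := (IsSylowIn.of_sylow_top S).exists_conj_le hQp le_top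
  have hgRx : ∀ x : R, g * (x : G) * g⁻¹ ∈ R := fun x =>
    (Subgroup.mem_normalizer_iff.mp hgR x).mp x.2
  have hθ : conjHom R a ∈ (groupFusionSystem (S : Subgroup G)).Hom R :=
    ⟨hRS, fun x => ha _ (Subgroup.mem_sup_right x.2), a, fun x => rfl⟩
  obtain ⟨α, hα, γ₀, hγ₀, hcomp⟩ := hfrat R hRS _ hθ
  have hval : ∀ x : R, γ₀ x ∈ (S : Subgroup G) := (E.le_of_mem hγ₀).2
  have hsS : a * g * a⁻¹ ∈ (S : Subgroup G) :=
    ha g (Subgroup.mem_sup_left (Subgroup.mem_zpowers g))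
  set t : (S : Subgroup G) := α⁻¹ ⟨a * g * a⁻¹, hsS⟩ with ht
  apply fs_left_cancel E hγ₀ (conjHom R g) hgRx
  have h1 := E.comp_mem hγ₀ (E.conj_mem (le_refl _) t.2) hval
  convert h1 using 1
  ext x
  show γ₀ ⟨g * (x : G) * g⁻¹, hgRx x⟩ = (t : G) * γ₀ x * (t : G)⁻¹
  have e1 := hcomp ⟨g * (x : G) * g⁻¹, hgRx x⟩ (hval _)
  have e2 := hcomp x (hval _)
  have e3 : α ⟨γ₀ ⟨g * (x : G) * g⁻¹, hgRx x⟩, hval _⟩ =
      ⟨a * g * a⁻¹, hsS⟩ * α ⟨γ₀ x, hval x⟩ * ⟨a * g * a⁻¹, hsS⟩⁻¹ := by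
    apply Subtype.ext
    rw [← e1]
    show a * (g * (x : G) * g⁻¹) * a⁻¹ = a * g * a⁻¹ * ((α ⟨γ₀ x, hval x⟩ : (S : Subgroup G)) : G) * (a * g * a⁻¹)⁻¹
    rw [← e2]
    show _ = a * g * a⁻¹ * (a * (x : G) * a⁻¹) * (a * g * a⁻¹)⁻¹
    group
  have e4 : α⁻¹ (α ⟨γ₀ ⟨g * (x : G) * g⁻¹, hgRx x⟩, hval _⟩) =
      α⁻¹ (⟨a * g * a⁻¹, hsS⟩ * α ⟨γ₀ x, hval x⟩ * ⟨a * g * a⁻¹, hsS⟩⁻¹) := by rw [e3]
  rw [MulAut.inv_apply_self, map_mul, map_mul, map_inv, MulAut.inv_apply_self] at e4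
  exact congrArg Subtype.val e4

theorem gfs_isSimple_criterion [Finite G] (p : ℕ) [Fact p.Prime] (S : Sylow p G)
    (hS1 : (S : Subgroup G) ≠ ⊥)
    (ha : ∀ T : Subgroup G, (groupFusionSystem (S : Subgroup G)).StronglyClosed T →
      T = ⊥ ∨ T = (S : Subgroup G))
    (hb : autInducedBy ⊤ (S : Subgroup G) =
      ⨆ (R : Subgroup G) (_ : (groupFusionSystem (S : Subgroup G)).IsFullyNormalized R ∧
        (groupFusionSystem (S : Subgroup G)).IsRadical p R ∧
        (groupFusionSystem (S : Subgroup G)).IsCentric R),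
        autInducedBy (Subgroup.closure {g : G | g ∈ Subgroup.normalizer (R : Set G) ∧
          ∃ k : ℕ, orderOf g = p ^ k}) (S : Subgroup G)) :
    (groupFusionSystem (S : Subgroup G)).IsSimple p := by
  have hFsat : (groupFusionSystem (S : Subgroup G)).IsSaturated p := gfs_isSaturated p S
  refine ⟨hFsat, hS1, ?_⟩
  intro T E hE
  obtain ⟨⟨hEsat, -, hsub, hTsc, -, hfrat⟩, -⟩ := hE
  rcases ha T hTsc with hT | hT
  · exact Or.inl hT
  right
  subst hT
  refine ⟨rfl, fun P => ?_⟩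
  have hkey : (groupFusionSystem (S : Subgroup G)).autGroup (S : Subgroup G) ≤
      E.autGroup (S : Subgroup G) := by
    rw [gfs_autGroup_eq _ _ le_rfl, hb]
    apply iSup_le; intro R; apply iSup_le; rintro ⟨-, -, hCen⟩
    have hRS : R ≤ (S : Subgroup G) := hCen.1
    -- the subgroup of `N_G(R)` inducing `E`-automorphisms of `R`
    have hKX : Subgroup.closure {g : G | g ∈ Subgroup.normalizer (R : Set G) ∧
        ∃ k : ℕ, orderOf g = p ^ k} ≤
        ((E.autGroup R).comap R.normalizerMonoidHom).map (Subgroup.normalizer (R : Set G)).subtype := by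
      rw [Subgroup.closure_le]
      rintro g ⟨hgN, k, hk⟩
      refine ⟨⟨g, hgN⟩, ?_, rfl⟩
      show R.normalizerMonoidHom ⟨g, hgN⟩ ∈ E.autGroup R
      rw [mem_autGroup_iff E hRS]
      exact gfs_pElt_conj_mem_of_frattini p S E hfrat R hRS g hgN k hk
    unfold autInducedBy
    rw [Subgroup.closure_le]
    rintro α ⟨g, hgK, hg⟩
    rw [SetLike.mem_coe, mem_autGroup_iff E le_rfl]
    have hαF : (S : Subgroup G).subtype.comp α.toMonoidHom ∈
        (groupFusionSystem (S : Subgroup G)).Hom (S : Subgroup G) :=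
      ⟨le_rfl, fun x => (α x).2, g, hg⟩
    apply hom_mem_sub_of_centric p S.isPGroup' (groupFusionSystem (S : Subgroup G)) E hFsat hEsat hsub
      _ hαF _ R hRS hCen _ rfl
    obtain ⟨n, hn, rfl⟩ := hKX hgK
    have hn' : R.normalizerMonoidHom n ∈ E.autGroup R := hn
    rw [mem_autGroup_iff E hRS] at hn'
    convert hn' using 1
    ext x
    exact hg ⟨x, hRS x.2⟩
  ext φ
  constructor
  · exact fun h => hsub P h
  · intro hφ
    have hPT : P ≤ (S : Subgroup G) := ((groupFusionSystem (S : Subgroup G)).le_of_mem hφ).1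
    obtain ⟨α, hα, φ₀, hφ₀, hcomp⟩ := hfrat P hPT φ hφ
    have hαE := hkey hα
    rw [mem_autGroup_iff E le_rfl] at hαE
    have hval : ∀ x : P, φ₀ x ∈ (S : Subgroup G) := (E.le_of_mem hφ₀).2
    have h1 := E.comp_mem hφ₀ hαE hval
    convert h1 using 1
    ext x
    rw [hcomp x (hval x)]
    rfl

end Cfsg.Agent.Lib.Helper7
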