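import Mathlib
import Cfsg.Prelude.Def_FusionSystem
import Cfsg.Prelude.Def_FusionComponents
import Cfsg.Agent.Lib.Helper7.HyperfocalTheorem

set_option autoImplicit false

namespace Cfsg.Agent.Lib.Helper7

open Cfsg Cfsg.FusionSystem

variable {G : Type*} [Group G]

theorem fsos_pResidual_hasPPowerIndexIn [Finite G] (p : ℕ) [Fact p.Prime] (S : Sylow p G) :
    (fusionSystemOfSubgroup (pResidual p G) ((S : Subgroup G) ⊓ pResidual p G) inf_le_right).HasPPowerIndexIn
      (groupFusionSystem (S : Subgroup G)) p := by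
  set K := pResidual p G with hK
  set T := (S : Subgroup G) ⊓ K with hT
  have hTK : T ≤ K := inf_le_right
  have hTS : T ≤ (S : Subgroup G) := inf_le_left
  refine ⟨?_, ?_, ?_⟩
  · rintro P φ ⟨hP, hφ, g, -, hg⟩
    exact ⟨hP.trans hTS, fun x => hTS (hφ x), g, hg⟩
  · rw [hyperfocal_subgroup_theorem p S]
  · intro P hPT
    rintro _ ⟨α, hα, rfl⟩
    have hsub : (groupFusionSystem (S : Subgroup G)).IsSubsystemOf
        (fusionSystemOfSubgroup ⊤ (S : Subgroup G) le_top) := by
      rintro P φ ⟨hP, hφ, g, hg⟩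
      exact ⟨hP, hφ, g, trivial, hg⟩
    set f : (groupFusionSystem (S : Subgroup G)).autGroup P →*
        (fusionSystemOfSubgroup ⊤ (S : Subgroup G) le_top).autGroup P :=
      Subgroup.inclusion (autGroup_le_of_isSubsystemOf _ _ hsub P) with hf
    have h1 : f α ∈ pResidual p ((fusionSystemOfSubgroup ⊤ (S : Subgroup G) le_top).autGroup P) :=
      pResidual_map_le p f ⟨α, hα, rfl⟩
    obtain ⟨g, hgK, -, hg⟩ := fsos_pResidual_aut_conj p le_top (hPT.trans hTS) (f α) h1
    show (α : MulAut P) ∈ _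
    rw [mem_autGroup_iff _ hPT]
    exact ⟨hPT, fun x => hPT ((α : MulAut P) x).2, g, hgK, fun x => hg x⟩

theorem pResidual_subsystem_of_group [Finite G] (p : ℕ) [Fact p.Prime] (S : Sylow p G)
    (E : FusionSystem ((groupFusionSystem (S : Subgroup G)).hyperfocalSubgroup p))
    (hE : (groupFusionSystem (S : Subgroup G)).IsPResidual p E) :
    ∃ h : (S : Subgroup G) ⊓ pResidual p G ≤ pResidual p G, ∀ P : Subgroup G,
      E.Hom P = (fusionSystemOfSubgroup (pResidual p G) ((S : Subgroup G) ⊓ pResidual p G) h).Hom P := by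
  haveI : (pResidual p G).Normal := pResidual_normal p G
  refine ⟨inf_le_right, fun P => ?_⟩
  obtain ⟨hEsat, hEidx⟩ := hE
  have hhyp := hyperfocal_subgroup_theorem p S
  have hE'sat := fusionSystemOfSubgroup_isSaturated p (pResidual p G) ((S : Subgroup G) ⊓ pResidual p G)
    inf_le_right (isSylowIn_inf_normal p S (pResidual p G))
  have hE'idx := fsos_pResidual_hasPPowerIndexIn p S
  have h1 := isSubsystemOf_of_pPowerIndex p S.isPGroup' (groupFusionSystem (S : Subgroup G)) E hEsat
    hEidx.1 _ hhyp.le hE'idx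
  have h2 := isSubsystemOf_of_pPowerIndex p S.isPGroup' (groupFusionSystem (S : Subgroup G)) _ hE'sat
    hE'idx.1 E hhyp.ge hEidx
  exact Set.Subset.antisymm (h1 P) (h2 P)

end Cfsg.Agent.Lib.Helper7
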