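import Cfsg.Agent.Lib.Helper7.M12MultB

/-!
# A static certificate for an enumeration of cosets with formal central displacements

A group is generated by letters `γ x`; some words in the letters are trivial, and some are only known to be equal to
one of three central elements `z0, z1, z2`, of which no nontrivial product of powers lies in the subgroup `H`.
Every entry `(a, x) ↦ b` of the table carries a displacement `d`, and says that `τ a * γ x` and `τ b * z ^ d` lie in
the same right coset of `H`.  The entries are found one after the other, by words traced with one gap through entries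
found before.  A word traced without gap whose displacements do not add up to its class gives a relation between the
central elements.
-/

set_option autoImplicit false

namespace Cfsg.Agent.Lib.Helper7.HSMult

open Cfsg.Agent.Lib.Helper8.CosetCert (R index_le_of_closed)

/-- application that first evaluates the argument -/
def strictN {α : Type*} (x : ℕ) (f : ℕ → α) : α :=
  match x + 1 with
  | 0 => f x
  | n + 1 => f n

theorem strictN_eq {α : Type*} (x : ℕ) (f : ℕ → α) : strictN x f = f x := rfl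

/-- application that first evaluates the head of a list -/
def strictL {α : Type*} (l : List ℕ) (f : List ℕ → α) : α :=
  match l with
  | [] => f []
  | x :: xs => f (x :: xs)

theorem strictL_eq {α : Type*} (l : List ℕ) (f : List ℕ → α) : strictL l f = f l := by
  cases l <;> rfl

/-! ### the fields of a packed entry -/

/-- the row of the entry -/
def fb (s : ℕ) : ℕ := Nat.mod s 16384
/-- the time of the entry -/
def ft (s : ℕ) : ℕ := Nat.mod (Nat.div s 16384) 64
/-- the kind of the reason of the entry -/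
def fk (s : ℕ) : ℕ := Nat.mod (Nat.div s 1048576) 4
/-- the word of the reason of the entry -/
def fr (s : ℕ) : ℕ := Nat.mod (Nat.div s 4194304) 1024
/-- the place in the word of the reason of the entry -/
def fp (s : ℕ) : ℕ := Nat.mod (Nat.div s 4294967296) 16
/-- the first displacement of the entry -/
def f0 (s : ℕ) : ℕ := Nat.mod (Nat.div s 68719476736) 1024
/-- the second displacement of the entry -/
def f1 (s : ℕ) : ℕ := Nat.mod (Nat.div s 70368744177664) 1024
/-- the third displacement of the entry -/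
def f2 (s : ℕ) : ℕ := Nat.mod (Nat.div s 72057594037927936) 1024

/-- the data: the number of rows, of letters; the offset of the displacements; the inverses of the letters; the
letters in the subgroup; the packed entries; the packed definitions of the rows; the words and their classes -/
structure DCert where
  n : ℕ
  g : ℕ
  B : ℕ
  iv : ℕ → ℕ
  sub : ℕ → Bool
  sl : ℕ → ℕ → ℕ
  pr : ℕ → ℕ
  W : ℕ → List ℕ
  e0 : ℕ → ℕ
  e1 : ℕ → ℕ
  e2 : ℕ → ℕ

namespace DCert

variable (C : DCert)

/-- follow the letters of a word from a row, through entries found before the time `t`, adding the displacements -/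
def scan (t : ℕ) : List ℕ → ℕ → ℕ → ℕ → ℕ → Option (ℕ × ℕ × ℕ × ℕ)
  | [], cur, s0, s1, s2 => some (cur, s0, s1, s2)
  | y :: w, cur, s0, s1, s2 =>
    strictN (C.sl cur y) fun s =>
      cond (Nat.blt (ft s) t && Nat.blt cur C.n && Nat.blt y C.g)
        (scan t w (fb s) (Nat.add s0 (f0 s)) (Nat.add s1 (f1 s)) (Nat.add s2 (f2 s))) none

/-- the check of one entry -/
def slotOK (a x : ℕ) : Bool :=
  strictN (C.sl a x) fun s =>
    Nat.blt (fb s) C.n &&
    (match fk s with
    | 0 => Nat.beq (C.pr (fb s)) (Nat.add a (Nat.mul 16384 x)) && Nat.blt a (fb s) &&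
        Nat.beq (f0 s) C.B && Nat.beq (f1 s) C.B && Nat.beq (f2 s) C.B
    | 1 => strictN (C.sl (fb s) (C.iv x)) fun s' =>
        Nat.beq (fb s') a && Nat.blt (ft s') (ft s) && Nat.blt (C.iv x) C.g &&
        Nat.beq (Nat.add (f0 s) (f0 s')) (Nat.mul 2 C.B) && Nat.beq (Nat.add (f1 s) (f1 s')) (Nat.mul 2 C.B) &&
        Nat.beq (Nat.add (f2 s) (f2 s')) (Nat.mul 2 C.B)
    | 2 => Nat.beq a 0 && Nat.beq (fb s) 0 && C.sub x &&
        Nat.beq (f0 s) C.B && Nat.beq (f1 s) C.B && Nat.beq (f2 s) C.B
    | _ => strictL (C.W (fr s)) fun w =>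
      (match w[fp s]? with
       | some y => Nat.beq y x
       | none => false) &&
      (match C.scan (ft s) (w.drop (fp s + 1)) (fb s) 0 0 0 with
       | none => false
       | some (m, u0, u1, u2) =>
         match C.scan (ft s) (w.take (fp s)) m u0 u1 u2 with
         | none => false
         | some (a', v0, v1, v2) =>
           Nat.beq a' a &&
           Nat.beq (Nat.add (f0 s) v0) (Nat.add (C.e0 (fr s)) (Nat.mul (w.length - 1) C.B)) &&
           Nat.beq (Nat.add (f1 s) v1) (Nat.add (C.e1 (fr s)) (Nat.mul (w.length - 1) C.B)) &&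
           Nat.beq (Nat.add (f2 s) v2) (Nat.add (C.e2 (fr s)) (Nat.mul (w.length - 1) C.B))))

/-! ### soundness -/

section sound

variable {Γ : Type*} [Group Γ] (γ : ℕ → Γ) (H : Subgroup Γ) (z0 z1 z2 : Subgroup.center Γ)

/-- the product of powers of the central elements -/
def kap (a b c : ℤ) : Γ := ((z0 ^ a * z1 ^ b * z2 ^ c : Subgroup.center Γ) : Γ)

theorem kap_comm (a b c : ℤ) (x : Γ) : kap z0 z1 z2 a b c * x = x * kap z0 z1 z2 a b c :=
  ((Subgroup.mem_center_iff.1 (z0 ^ a * z1 ^ b * z2 ^ c).2) x).symm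

theorem kap_add (a b c a' b' c' : ℤ) :
    kap z0 z1 z2 a b c * kap z0 z1 z2 a' b' c' = kap z0 z1 z2 (a + a') (b + b') (c + c') := by
  unfold kap
  rw [← Subgroup.coe_mul, zpow_add, zpow_add, zpow_add]
  congr 1
  ac_rfl

theorem kap_zero : kap z0 z1 z2 0 0 0 = 1 := by
  unfold kap
  simp

theorem kap_inv (a b c : ℤ) : (kap z0 z1 z2 a b c)⁻¹ = kap z0 z1 z2 (-a) (-b) (-c) := by
  apply inv_eq_of_mul_eq_one_right
  rw [kap_add, add_neg_cancel, add_neg_cancel, add_neg_cancel, kap_zero]

/-- the element of the group that belongs to a row -/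
noncomputable def τ (r : ℕ) : Γ :=
  if _h : fb (C.pr r) < r then τ (fb (C.pr r)) * γ (Nat.div (C.pr r) 16384) else 1
termination_by r
decreasing_by assumption

theorem τ_zero : C.τ γ 0 = 1 := by
  rw [τ]
  simp

theorem τ_def {a x r : ℕ} (har : a < r) (ha : a < 16384) (hP : C.pr r = a + 16384 * x) :
    C.τ γ r = C.τ γ a * γ x := by
  have h1 : fb (C.pr r) = a := by
    rw [hP]
    show (a + 16384 * x) % 16384 = a
    rw [Nat.add_mul_mod_self_left, Nat.mod_eq_of_lt ha]
  have h2 : Nat.div (C.pr r) 16384 = x := by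
    rw [hP]
    show (a + 16384 * x) / 16384 = x
    rw [Nat.add_mul_div_left _ _ (by norm_num), Nat.div_eq_of_lt ha, zero_add]
  rw [τ, dif_pos (by rw [h1]; exact har), h1, h2]

/-- the displacement of an entry -/
def dk (s : ℕ) : Γ :=
  kap z0 z1 z2 ((f0 s : ℤ) - C.B) ((f1 s : ℤ) - C.B) ((f2 s : ℤ) - C.B)

/-- the class of a word -/
def ek (i : ℕ) : Γ :=
  kap z0 z1 z2 ((C.e0 i : ℤ) - C.B) ((C.e1 i : ℤ) - C.B) ((C.e2 i : ℤ) - C.B)

/-- all that the table says with entries found before the time `t` is true -/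
def Good (t : ℕ) : Prop :=
  ∀ a x, a < C.n → x < C.g → ft (C.sl a x) < t →
    R H (C.τ γ a * γ x) (C.τ γ (fb (C.sl a x)) * C.dk z0 z1 z2 (C.sl a x))

variable {γ H z0 z1 z2}

theorem scan_spec {t : ℕ} (hG : C.Good γ H z0 z1 z2 t) : ∀ (w : List ℕ) (cur s0 s1 s2 e u0 u1 u2 : ℕ),
    C.scan t w cur s0 s1 s2 = some (e, u0, u1, u2) →
    R H (C.τ γ cur * (w.map γ).prod)
      (C.τ γ e * kap z0 z1 z2 ((u0 : ℤ) - s0 - w.length * C.B) ((u1 : ℤ) - s1 - w.length * C.B)
        ((u2 : ℤ) - s2 - w.length * C.B))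
  | [], cur, s0, s1, s2, e, u0, u1, u2, h => by
    simp only [scan, Option.some.injEq, Prod.mk.injEq] at h
    obtain ⟨rfl, rfl, rfl, rfl⟩ := h
    simp only [List.map_nil, List.prod_nil, mul_one, List.length_nil, Nat.cast_zero, zero_mul,
      sub_self, kap_zero]
    exact R.refl _
  | y :: w, cur, s0, s1, s2, e, u0, u1, u2, h => by
    rw [scan, strictN_eq] at h
    cases hc : (Nat.blt (ft (C.sl cur y)) t && Nat.blt cur C.n && Nat.blt y C.g) with
    | false => rw [hc] at h; exact absurd h (by simp)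
    | true =>
      rw [hc, cond_true] at h
      rw [Bool.and_eq_true, Bool.and_eq_true] at hc
      obtain ⟨⟨h1, h2⟩, h3⟩ := hc
      have h1' : ft (C.sl cur y) < t := by simpa [Nat.blt] using h1
      have h2' : cur < C.n := by simpa [Nat.blt] using h2
      have h3' : y < C.g := by simpa [Nat.blt] using h3
      have ih := scan_spec hG w _ _ _ _ e u0 u1 u2 h
      have h4 := hG cur y h2' h3' h1'
      rw [dk] at h4
      rw [List.map_cons, List.prod_cons, ← mul_assoc]
      have h5 := h4.mul_right ((w.map γ).prod)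
      have h6 := ih.mul_right (C.dk z0 z1 z2 (C.sl cur y))
      rw [mul_assoc (C.τ γ (fb (C.sl cur y))), kap_comm, ← mul_assoc] at h5
      rw [dk, mul_assoc (C.τ γ e), kap_add] at h6
      have h7 := h5.trans h6
      convert h7 using 3
      · show (u0 : ℤ) - s0 - ((w.length + 1 : ℕ) : ℤ) * C.B = _
        show _ = (u0 : ℤ) - ((s0 + f0 (C.sl cur y) : ℕ) : ℤ) - _ + _
        push_cast
        ring
      · show (u1 : ℤ) - s1 - ((w.length + 1 : ℕ) : ℤ) * C.B = _
        show _ = (u1 : ℤ) - ((s1 + f1 (C.sl cur y) : ℕ) : ℤ) - _ + _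
        push_cast
        ring
      · show (u2 : ℤ) - s2 - ((w.length + 1 : ℕ) : ℤ) * C.B = _
        show _ = (u2 : ℤ) - ((s2 + f2 (C.sl cur y) : ℕ) : ℤ) - _ + _
        push_cast
        ring

theorem good_succ (hn : C.n ≤ 16384) (hinv : ∀ x, x < C.g → γ (C.iv x) = (γ x)⁻¹)
    (hsub : ∀ x, C.sub x = true → γ x ∈ H)
    (hW : ∀ i, ((C.W i).map γ).prod = C.ek z0 z1 z2 i)
    (hall : ∀ a, a < C.n → ∀ x, x < C.g → C.slotOK a x = true) {t : ℕ} (hG : C.Good γ H z0 z1 z2 t) :
    C.Good γ H z0 z1 z2 (t + 1) := by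
  intro a x ha hx ht
  rcases Nat.lt_or_ge (ft (C.sl a x)) t with h | h
  · exact hG a x ha hx h
  have ht' : ft (C.sl a x) = t := by omega
  have hs := hall a ha x hx
  rw [slotOK, strictN_eq, Bool.and_eq_true] at hs
  obtain ⟨hb, hs⟩ := hs
  have hb' : fb (C.sl a x) < C.n := by simpa [Nat.blt] using hb
  set s := C.sl a x with hsdef
  split at hs
  · -- the definition of a row
    simp only [Bool.and_eq_true] at hs
    obtain ⟨⟨⟨⟨h1, h2⟩, h3⟩, h4⟩, h5⟩ := hs
    have h1' : C.pr (fb s) = a + 16384 * x := Nat.eq_of_beq_eq_true h1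
    have h2' : a < fb s := by simpa [Nat.blt] using h2
    have h3' : f0 s = C.B := Nat.eq_of_beq_eq_true h3
    have h4' : f1 s = C.B := Nat.eq_of_beq_eq_true h4
    have h5' : f2 s = C.B := Nat.eq_of_beq_eq_true h5
    rw [C.τ_def γ h2' (lt_of_lt_of_le ha hn) h1', dk, h3', h4', h5', sub_self, kap_zero, mul_one]
    exact R.refl _
  · -- the entry in the other direction
    rw [strictN_eq] at hs
    simp only [Bool.and_eq_true] at hs
    obtain ⟨⟨⟨⟨⟨h1, h2⟩, h3⟩, h4⟩, h5⟩, h6⟩ := hs
    have h1' : fb (C.sl (fb s) (C.iv x)) = a := Nat.eq_of_beq_eq_true h1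
    have h2' : ft (C.sl (fb s) (C.iv x)) < ft s := by simpa [Nat.blt] using h2
    have h3' : C.iv x < C.g := by simpa [Nat.blt] using h3
    have h4' : f0 s + f0 (C.sl (fb s) (C.iv x)) = 2 * C.B := Nat.eq_of_beq_eq_true h4
    have h5' : f1 s + f1 (C.sl (fb s) (C.iv x)) = 2 * C.B := Nat.eq_of_beq_eq_true h5
    have h6' : f2 s + f2 (C.sl (fb s) (C.iv x)) = 2 * C.B := Nat.eq_of_beq_eq_true h6
    have h7 := hG (fb s) (C.iv x) hb' h3' (by rw [ht'] at h2'; exact h2')
    rw [h1', hinv x hx] at h7
    have h8 := (h7.mul_right (γ x)).symm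
    rw [inv_mul_cancel_right, dk, mul_assoc, kap_comm, ← mul_assoc] at h8
    have h9 := h8.mul_right (kap z0 z1 z2 ((f0 s : ℤ) - C.B) ((f1 s : ℤ) - C.B) ((f2 s : ℤ) - C.B))
    rw [mul_assoc (C.τ γ a * γ x), kap_add] at h9
    have e0 : ((f0 (C.sl (fb s) (C.iv x)) : ℤ) - C.B + ((f0 s : ℤ) - C.B)) = 0 := by
      have : ((f0 s + f0 (C.sl (fb s) (C.iv x)) : ℕ) : ℤ) = ((2 * C.B : ℕ) : ℤ) := by rw [h4']
      push_cast at this
      linarith
    have e1 : ((f1 (C.sl (fb s) (C.iv x)) : ℤ) - C.B + ((f1 s : ℤ) - C.B)) = 0 := by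
      have : ((f1 s + f1 (C.sl (fb s) (C.iv x)) : ℕ) : ℤ) = ((2 * C.B : ℕ) : ℤ) := by rw [h5']
      push_cast at this
      linarith
    have e2 : ((f2 (C.sl (fb s) (C.iv x)) : ℤ) - C.B + ((f2 s : ℤ) - C.B)) = 0 := by
      have : ((f2 s + f2 (C.sl (fb s) (C.iv x)) : ℕ) : ℤ) = ((2 * C.B : ℕ) : ℤ) := by rw [h6']
      push_cast at this
      linarith
    rw [e0, e1, e2, kap_zero, mul_one] at h9
    exact h9
  · -- a letter of the subgroup
    simp only [Bool.and_eq_true] at hs
    obtain ⟨⟨⟨⟨⟨h1, h2⟩, h3⟩, h4⟩, h5⟩, h6⟩ := hs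
    have h1' : a = 0 := Nat.eq_of_beq_eq_true h1
    have h2' : fb s = 0 := Nat.eq_of_beq_eq_true h2
    have h4' : f0 s = C.B := Nat.eq_of_beq_eq_true h4
    have h5' : f1 s = C.B := Nat.eq_of_beq_eq_true h5
    have h6' : f2 s = C.B := Nat.eq_of_beq_eq_true h6
    rw [h2', h1', dk, h4', h5', h6', sub_self, kap_zero, mul_one, τ_zero, one_mul]
    show γ x * 1⁻¹ ∈ H
    rw [inv_one, mul_one]
    exact hsub x h3
  · -- a word with a gap
    rw [strictL_eq, Bool.and_eq_true] at hs
    obtain ⟨hs0, hs⟩ := hs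
    set w := C.W (fr s) with hw
    set p := fp s with hp
    have hx' : w[p]? = some x := by
      cases hq : w[p]? with
      | none => rw [hq] at hs0; exact absurd hs0 (by simp)
      | some y =>
        rw [hq] at hs0
        rw [Nat.eq_of_beq_eq_true hs0]
    cases hq1 : C.scan (ft s) (w.drop (p + 1)) (fb s) 0 0 0 with
    | none => rw [hq1] at hs; exact absurd hs (by simp)
    | some r1 =>
      obtain ⟨m, u0, u1, u2⟩ := r1
      rw [hq1] at hs
      dsimp only at hs
      cases hq2 : C.scan (ft s) (w.take p) m u0 u1 u2 with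
      | none => rw [hq2] at hs; exact absurd hs (by simp)
      | some r2 =>
        obtain ⟨a', v0, v1, v2⟩ := r2
        rw [hq2] at hs
        dsimp only at hs
        simp only [Bool.and_eq_true] at hs
        obtain ⟨⟨⟨h1, h2⟩, h3⟩, h4⟩ := hs
        have h1' : a' = a := Nat.eq_of_beq_eq_true h1
        subst h1'
        have h2' : f0 s + v0 = C.e0 (fr s) + (w.length - 1) * C.B := Nat.eq_of_beq_eq_true h2
        have h3' : f1 s + v1 = C.e1 (fr s) + (w.length - 1) * C.B := Nat.eq_of_beq_eq_true h3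
        have h4' : f2 s + v2 = C.e2 (fr s) + (w.length - 1) * C.B := Nat.eq_of_beq_eq_true h4
        rw [ht'] at hq1 hq2
        have hF := C.scan_spec hG _ _ _ _ _ _ _ _ _ hq1
        have hB := C.scan_spec hG _ _ _ _ _ _ _ _ _ hq2
        have hpl : p < w.length := by
          by_contra hcon
          rw [List.getElem?_eq_none (by omega)] at hx'
          exact absurd hx' (by simp)
        have hsplit : w = w.take p ++ x :: w.drop (p + 1) := by
          have hx'' : w[p] = x := by
            rw [List.getElem?_eq_getElem hpl] at hx'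
            exact Option.some.inj hx'
          rw [← hx'', ← List.drop_eq_getElem_cons hpl, List.take_append_drop]
        have hl1 : (w.take p).length = p := by rw [List.length_take]; omega
        have hl2 : (w.drop (p + 1)).length = w.length - (p + 1) := List.length_drop
        set P := ((w.take p).map γ).prod with hPdef
        set S := ((w.drop (p + 1)).map γ).prod with hSdef
        have hprod : P * γ x * S = C.ek z0 z1 z2 (fr s) := by
          have h5 := hW (fr s)
          rw [← hw, hsplit, List.map_append, List.prod_append, List.map_cons, List.prod_cons, ← mul_assoc] at h5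
          exact h5
        rw [hl1] at hB
        rw [hl2] at hF
        simp only [Nat.cast_zero, sub_zero] at hF
        -- the first step
        have hA := hB.mul_right (γ x * S)
        have eA1 : C.τ γ m * P * (γ x * S) = C.τ γ m * C.ek z0 z1 z2 (fr s) := by
          rw [← hprod]; simp only [mul_assoc]
        rw [eA1, mul_assoc (C.τ γ a'), kap_comm, ← mul_assoc] at hA
        -- the second step
        have hC := hF.symm.mul_right
          (kap z0 z1 z2 (-((u0 : ℤ) - ((w.length - (p + 1) : ℕ) : ℤ) * C.B))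
            (-((u1 : ℤ) - ((w.length - (p + 1) : ℕ) : ℤ) * C.B))
            (-((u2 : ℤ) - ((w.length - (p + 1) : ℕ) : ℤ) * C.B)) * C.ek z0 z1 z2 (fr s))
        rw [← kap_inv, mul_assoc (C.τ γ m), mul_inv_cancel_left] at hC
        have hD := hA.symm.trans hC
        rw [kap_inv, ek, kap_add] at hD
        have hE := hD.mul_right (kap z0 z1 z2 (-((v0 : ℤ) - u0 - (p : ℤ) * C.B)) (-((v1 : ℤ) - u1 - (p : ℤ) * C.B))
          (-((v2 : ℤ) - u2 - (p : ℤ) * C.B)) * S⁻¹)
        rw [← kap_inv, mul_assoc (C.τ γ a' * (γ x * S)), mul_inv_cancel_left, mul_assoc (C.τ γ a'),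
          mul_assoc (γ x), mul_inv_cancel, mul_one, kap_inv, mul_assoc (C.τ γ (fb s) * S), ← mul_assoc (kap _ _ _ _ _ _),
          kap_add, kap_comm, mul_assoc (C.τ γ (fb s)), mul_inv_cancel_left] at hE
        rw [dk]
        convert hE using 3
        · have : ((f0 s + v0 : ℕ) : ℤ) = ((C.e0 (fr s) + (w.length - 1) * C.B : ℕ) : ℤ) := by rw [h2']
          have e3 : ((w.length - 1 : ℕ) : ℤ) = (w.length : ℤ) - 1 := by
            rw [Nat.cast_sub (by omega)]; simp
          have e4 : ((w.length - (p + 1) : ℕ) : ℤ) = (w.length : ℤ) - (p + 1) := by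
            rw [Nat.cast_sub (by omega)]; simp
          push_cast at this
          rw [e3] at this
          rw [e4]
          linarith
        · have : ((f1 s + v1 : ℕ) : ℤ) = ((C.e1 (fr s) + (w.length - 1) * C.B : ℕ) : ℤ) := by rw [h3']
          have e3 : ((w.length - 1 : ℕ) : ℤ) = (w.length : ℤ) - 1 := by
            rw [Nat.cast_sub (by omega)]; simp
          have e4 : ((w.length - (p + 1) : ℕ) : ℤ) = (w.length : ℤ) - (p + 1) := by
            rw [Nat.cast_sub (by omega)]; simp
          push_cast at this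
          rw [e3] at this
          rw [e4]
          linarith
        · have : ((f2 s + v2 : ℕ) : ℤ) = ((C.e2 (fr s) + (w.length - 1) * C.B : ℕ) : ℤ) := by rw [h4']
          have e3 : ((w.length - 1 : ℕ) : ℤ) = (w.length : ℤ) - 1 := by
            rw [Nat.cast_sub (by omega)]; simp
          have e4 : ((w.length - (p + 1) : ℕ) : ℤ) = (w.length : ℤ) - (p + 1) := by
            rw [Nat.cast_sub (by omega)]; simp
          push_cast at this
          rw [e3] at this
          rw [e4]
          linarith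

theorem good_all (hn : C.n ≤ 16384) (hinv : ∀ x, x < C.g → γ (C.iv x) = (γ x)⁻¹)
    (hsub : ∀ x, C.sub x = true → γ x ∈ H)
    (hW : ∀ i, ((C.W i).map γ).prod = C.ek z0 z1 z2 i)
    (hall : ∀ a, a < C.n → ∀ x, x < C.g → C.slotOK a x = true) : ∀ t, C.Good γ H z0 z1 z2 t
  | 0 => fun _ _ _ _ h0 => absurd h0 (Nat.not_lt_zero _)
  | t + 1 => C.good_succ hn hinv hsub hW hall (good_all hn hinv hsub hW hall t)

/-- **a word traced without gap gives a relation between the central elements** -/
theorem close_spec (hgood : ∀ t, C.Good γ H z0 z1 z2 t)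
    (hW : ∀ i, ((C.W i).map γ).prod = C.ek z0 z1 z2 i)
    (hH : ∀ a b c, kap z0 z1 z2 a b c ∈ H → kap z0 z1 z2 a b c = 1)
    {i a T u0 u1 u2 : ℕ} (h : C.scan T (C.W i) a 0 0 0 = some (a, u0, u1, u2)) :
    kap z0 z1 z2 ((C.e0 i : ℤ) - C.B - ((u0 : ℤ) - (C.W i).length * C.B))
      ((C.e1 i : ℤ) - C.B - ((u1 : ℤ) - (C.W i).length * C.B))
      ((C.e2 i : ℤ) - C.B - ((u2 : ℤ) - (C.W i).length * C.B)) = 1 := by
  have h1 := C.scan_spec (hgood T) _ _ _ _ _ _ _ _ _ h
  rw [hW i] at h1
  simp only [Nat.cast_zero, sub_zero] at h1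
  apply hH
  have h2 : R H (C.τ γ a * C.ek z0 z1 z2 i) (C.τ γ a *
      kap z0 z1 z2 ((u0 : ℤ) - (C.W i).length * C.B) ((u1 : ℤ) - (C.W i).length * C.B)
        ((u2 : ℤ) - (C.W i).length * C.B)) := h1
  have h3 : C.τ γ a * C.ek z0 z1 z2 i * (C.τ γ a *
      kap z0 z1 z2 ((u0 : ℤ) - (C.W i).length * C.B) ((u1 : ℤ) - (C.W i).length * C.B)
        ((u2 : ℤ) - (C.W i).length * C.B))⁻¹ ∈ H := h2
  rw [mul_inv_rev, kap_inv, ek, mul_assoc, ← mul_assoc (kap _ _ _ _ _ _), kap_add, kap_comm, ← mul_assoc,
    mul_inv_cancel, one_mul] at h3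
  convert h3 using 2 <;> ring

/-- **the checked table bounds the index**, once the central elements are known to be trivial -/
theorem index_le (hgood : ∀ t, C.Good γ H z0 z1 z2 t)
    (hz : ∀ a b c, kap z0 z1 z2 a b c = 1)
    (hall : ∀ a, a < C.n → ∀ x, x < C.g → C.slotOK a x = true)
    (hgen : ∀ z : Γ, ∃ u : List ℕ, (∀ x ∈ u, x < C.g) ∧ z = (u.map γ).prod)
    (hn0 : 0 < C.n) : H.index ≤ C.n ∧ H.index ≠ 0 := by
  refine index_le_of_closed (C.τ γ) (C.τ_zero γ) hn0 (fun a ha x hx => ?_) hgen
  have hs := hall a ha x hx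
  rw [slotOK, strictN_eq, Bool.and_eq_true] at hs
  have hb' : fb (C.sl a x) < C.n := by simpa [Nat.blt] using hs.1
  refine ⟨fb (C.sl a x), hb', ?_⟩
  have h1 := hgood (ft (C.sl a x) + 1) a x ha hx (Nat.lt_succ_self _)
  rw [dk, hz, mul_one] at h1
  exact h1

end sound

end DCert

end Cfsg.Agent.Lib.Helper7.HSMult
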