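import Cfsg.Agent.Lib.Helper7.HSMultB
import Cfsg.Agent.Lib.Helper7.HSMultT0
import Cfsg.Agent.Lib.Helper7.HSMultT1
import Cfsg.Agent.Lib.Helper7.HSMultT2
import Cfsg.Agent.Lib.Helper7.HSMultT3
import Cfsg.Agent.Lib.Helper7.HSMultR

/-!
# The multiplier of the Higman–Sims group: the certificate of the enumeration of the cosets
-/

set_option autoImplicit false

namespace Cfsg.Agent.Lib.Helper7.HSMult

/-- the part of the table that contains a row -/
noncomputable def rowSel (a : ℕ) : ℕ :=
  cond (Nat.beq (Nat.land a 1) 0)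
    (cond (Nat.beq (Nat.land a 2) 0)
      (cond (Nat.beq (Nat.land a 4) 0) (cond (Nat.beq (Nat.land a 8) 0) rl0 rl8) (cond (Nat.beq (Nat.land a 8) 0) rl4 rl12))
      (cond (Nat.beq (Nat.land a 4) 0) (cond (Nat.beq (Nat.land a 8) 0) rl2 rl10) (cond (Nat.beq (Nat.land a 8) 0) rl6 rl14)))
    (cond (Nat.beq (Nat.land a 2) 0)
      (cond (Nat.beq (Nat.land a 4) 0) (cond (Nat.beq (Nat.land a 8) 0) rl1 rl9) (cond (Nat.beq (Nat.land a 8) 0) rl5 rl13))
      (cond (Nat.beq (Nat.land a 4) 0) (cond (Nat.beq (Nat.land a 8) 0) rl3 rl11) (cond (Nat.beq (Nat.land a 8) 0) rl7 rl15)))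

/-- a row of the table -/
noncomputable def rowOf (a : ℕ) : ℕ :=
  strictN a fun a' => Nat.shiftRight (rowSel a') (Nat.mul 612 (Nat.shiftRight a' 4))

/-- the inverse of a letter -/
def ivL (x : ℕ) : ℕ := cond (Nat.beq x 0) 1 (cond (Nat.beq x 1) 0 x)

/-- the letters of the subgroup -/
def subL (x : ℕ) : Bool := Nat.blt x 5 || Nat.beq x 8

/-- a word -/
noncomputable def wordOf (i : ℕ) : List ℕ :=
  strictN (Nat.land (Nat.shiftRight relP (Nat.mul 64 i)) 18446744073709551615) fun v =>
    unp (Nat.land v 15) (Nat.shiftRight v 4)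

/-- the certificate -/
noncomputable def cert : DCert where
  n := 11200
  g := 9
  B := 512
  iv := ivL
  sub := subL
  sl := fun a x => Nat.land (Nat.shiftRight (rowOf a) (Nat.mul 66 x)) 73786976294838206463
  pr := fun a => Nat.land (Nat.shiftRight (rowOf a) 594) 262143
  W := wordOf
  e0 := fun i => cond (Nat.beq i ci0) 513 512
  e1 := fun i => cond (Nat.beq i ci1) 513 512
  e2 := fun i => cond (Nat.beq i ci2) 513 512

/-- the check of the rows from `lo` to `lo + k` -/
noncomputable def rowsOK (lo k : ℕ) : Bool := allN k fun i => allN 9 fun x => cert.slotOK (Nat.add lo i) x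

end Cfsg.Agent.Lib.Helper7.HSMult
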