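import Cfsg.Agent.Lib.Helper7.HSMultC

/-! # The multiplier of the Higman–Sims group: the check of the rows 4800 to 5599 of the certificate -/

set_option autoImplicit false
set_option maxRecDepth 100000

namespace Cfsg.Agent.Lib.Helper7.HSMult

theorem rows_ok_6 : rowsOK 4800 800 = true := by decide +kernel

end Cfsg.Agent.Lib.Helper7.HSMult
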