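import Cfsg.Agent.Lib.Helper7.HSMultS

/-!
# The multiplier of the Higman–Sims group: the kernel of a stem extension has at most two elements

The group `P` has letters that satisfy the hypotheses of the hexagon; every word of the certificate is trivial in `P`
and every letter is a commutator of two words in letters of an icosahedral subgroup that lies in three of the six
subgroups.  For a stem extension `σ : Γ → P`, the commutators of lifts lie in the derived subgroups of the preimages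
of the six subgroups, on which `σ` is injective.  They satisfy all the words of the certificate but three, which are
central; the table then shows that these three are trivial, and that the derived subgroup of the preimage of the first
subgroup has index at most `11200`.
-/

set_option autoImplicit false
set_option maxRecDepth 100000

namespace Cfsg.Agent.Lib.Helper7.HSMult

open Cfsg Cfsg.Agent.Lib.Helper7.M12Mult
open scoped commutatorElement

universe u

/-! ### the data of the commutators -/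

/-- an entry that is not used -/
def cDf : ℕ × List ℕ × List ℕ × List ℕ := (0, [], [], [])

/-- the entry of the list of commutators that defines the lift of a letter -/
def cIdx (x : ℕ) : ℕ := [0, 0, 3, 4, 5, 6, 7, 8, 9].getD x 0

theorem chk_commL : ∀ k < 10, ∀ v ∈ (commL.getD k cDf).2.2.2, v < 6 ∧
    ∀ y ∈ (commL.getD k cDf).2.1 ++ (commL.getD k cDf).2.2.1, y < 9 ∧ LQ v y = true := by decide

theorem chk_cIdx : (∀ x < 9, x ≠ 1 → cIdx x < 10 ∧ (commL.getD (cIdx x) cDf).1 = x) ∧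
    (∀ k < 10, 3 ≤ k → cIdx (commL.getD k cDf).1 = k) ∧
    (∀ k < 3, (commL.getD k cDf).1 = 0) := by decide

/-- the entry of the list of commutators for a letter and a subgroup -/
def kOf (v x : ℕ) : ℕ :=
  if x < 2 then (if v = 0 ∨ v = 5 then 0 else if v = 1 ∨ v = 2 then 1 else 2) else if x = 2 then 3 else x + 1

theorem chk_supp : ∀ v < 6, ∀ x < 9, LQ v x = true →
    kOf v x < 10 ∧ (commL.getD (kOf v x) cDf).1 = (if x = 1 then 0 else x) ∧
      v ∈ (commL.getD (kOf v x) cDf).2.2.2 := by decide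

/-- the hypotheses on the letters of the group itself -/
structure LetsP {P : Type} [Group P] (ℓ : ℕ → P) : Prop extends Lets ℓ where
  ne : ℓ 2 ≠ 1
  rel : ∀ i < 1024, pw ℓ (wordOf i) = 1
  comm : ∀ k < 10, ℓ (commL.getD k cDf).1 = ⁅pw ℓ (commL.getD k cDf).2.1, pw ℓ (commL.getD k cDf).2.2.1⁆

section stem

variable {P : Type} [Group P] {ℓ : ℕ → P} (hP : LetsP ℓ)

include hP in
theorem LetsP.nice {v : ℕ} (hv : v < 6) : commutator ↥(Qs ℓ v) = ⊤ ∧ MF.{u} ↥(Qs ℓ v) :=
  nice_closure_atlas (hP.toLets.atlas hv) hP.ne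

include hP in
theorem LetsP.card_Qs {v : ℕ} (hv : v < 6) : Nat.card ↥(Qs ℓ v) = 7920 :=
  card_closure_atlas (hP.toLets.atlas hv) hP.ne

variable {Γ : Type u} [Group Γ] (σ : Γ →* P) (hsurj : Function.Surjective σ)

/-- a lift of an element -/
noncomputable def lftH (g : P) : Γ := Classical.choose (hsurj g)

theorem map_lftH (g : P) : σ (lftH σ hsurj g) = g := Classical.choose_spec (hsurj g)

/-- the lift of a word, letter by letter -/
noncomputable def lwH (ℓ : ℕ → P) (w : List ℕ) : Γ := pw (fun y => lftH σ hsurj (ℓ y)) w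

theorem map_lwH (w : List ℕ) : σ (lwH σ hsurj ℓ w) = pw ℓ w := by
  rw [lwH, pw, map_list_prod, List.map_map]
  have : (σ ∘ fun y => lftH σ hsurj (ℓ y)) = ℓ := funext fun y => map_lftH σ hsurj (ℓ y)
  rw [this]
  rfl

/-- the commutators of the lifts -/
noncomputable def cmK (ℓ : ℕ → P) (k : ℕ) : Γ :=
  ⁅lwH σ hsurj ℓ (commL.getD k cDf).2.1, lwH σ hsurj ℓ (commL.getD k cDf).2.2.1⁆

include hP in
theorem map_cmK {k : ℕ} (hk : k < 10) : σ (cmK σ hsurj ℓ k) = ℓ (commL.getD k cDf).1 := by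
  rw [cmK, map_commutatorElement, map_lwH, map_lwH, hP.comm k hk]

include hP in
theorem cmK_mem {k v : ℕ} (hk : k < 10) (hv : v ∈ (commL.getD k cDf).2.2.2) :
    cmK σ hsurj ℓ k ∈ Mt σ (Qs ℓ v) := by
  have h := chk_commL k hk v hv
  apply commutator_mem_Mt σ
  · rw [map_lwH]
    exact hP.toLets.pw_mem_Qs h.1 fun y hy => h.2 y (List.mem_append_left _ hy)
  · rw [map_lwH]
    exact hP.toLets.pw_mem_Qs h.1 fun y hy => h.2 y (List.mem_append_right _ hy)

/-- the lifts of the letters -/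
noncomputable def gamH (ℓ : ℕ → P) (x : ℕ) : Γ :=
  if x = 1 then (cmK σ hsurj ℓ 0)⁻¹ else cmK σ hsurj ℓ (cIdx x)

include hP in
theorem map_gamH {x : ℕ} (hx : x < 9) : σ (gamH σ hsurj ℓ x) = ℓ x := by
  unfold gamH
  split_ifs with h1
  · rw [map_inv, map_cmK hP σ hsurj (by norm_num), chk_cIdx.2.2 0 (by norm_num), h1]
    exact (hP.iv 0 (by norm_num)).symm
  · have h := chk_cIdx.1 x hx h1
    rw [map_cmK hP σ hsurj h.1, h.2]

variable [Finite Γ] (hcen : σ.ker ≤ Subgroup.center Γ)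

include hP hsurj hcen in
theorem eq_of_mem_MtH {v : ℕ} (hv : v < 6) {x y : Γ} (hx : x ∈ Mt σ (Qs ℓ v)) (hy : y ∈ Mt σ (Qs ℓ v))
    (h : σ x = σ y) : x = y := by
  have hN := hP.nice.{u} hv
  have h1 : x * y⁻¹ = 1 := by
    apply eq_one_of_mem_Mt hsurj hcen _ hN.1 hN.2 (mul_mem hx (inv_mem hy))
    rw [map_mul, map_inv, h, mul_inv_cancel]
  exact mul_inv_eq_one.1 h1

include hP hcen in
/-- the three commutators for the first letter coincide -/
theorem cmK_glue : cmK σ hsurj ℓ 1 = cmK σ hsurj ℓ 0 ∧ cmK σ hsurj ℓ 2 = cmK σ hsurj ℓ 0 := by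
  have e1 : cmK σ hsurj ℓ 1 = cmK σ hsurj ℓ 0 := by
    apply eq_of_mem_MtH hP σ hsurj hcen (v := 1) (by norm_num)
      (cmK_mem hP σ hsurj (by norm_num) (by decide)) (cmK_mem hP σ hsurj (by norm_num) (by decide))
    rw [map_cmK hP σ hsurj (by norm_num), map_cmK hP σ hsurj (by norm_num)]
    rfl
  have e2 : cmK σ hsurj ℓ 2 = cmK σ hsurj ℓ 1 := by
    apply eq_of_mem_MtH hP σ hsurj hcen (v := 3) (by norm_num)
      (cmK_mem hP σ hsurj (by norm_num) (by decide)) (cmK_mem hP σ hsurj (by norm_num) (by decide))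
    rw [map_cmK hP σ hsurj (by norm_num), map_cmK hP σ hsurj (by norm_num)]
    rfl
  exact ⟨e1, e2.trans e1⟩

include hP hcen in
theorem cmK_eq {k : ℕ} (hk : k < 10) : cmK σ hsurj ℓ k = cmK σ hsurj ℓ (cIdx (commL.getD k cDf).1) := by
  rcases Nat.lt_or_ge k 3 with h | h
  · have h0 : cIdx (commL.getD k cDf).1 = 0 := by rw [chk_cIdx.2.2 k h]; rfl
    rw [h0]
    have hg := cmK_glue hP σ hsurj hcen
    have hk' : k = 0 ∨ k = 1 ∨ k = 2 := by omega
    rcases hk' with rfl | rfl | rfl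
    · rfl
    · exact hg.1
    · exact hg.2
  · rw [chk_cIdx.2.1 k hk h]

include hP hcen in
theorem gamH_mem {v x : ℕ} (hv : v < 6) (hx : x < 9) (hL : LQ v x = true) :
    gamH σ hsurj ℓ x ∈ Mt σ (Qs ℓ v) := by
  obtain ⟨hk, h1, h2⟩ := chk_supp v hv x hx hL
  have hm := cmK_mem hP σ hsurj hk h2
  rw [cmK_eq hP σ hsurj hcen hk, h1] at hm
  unfold gamH
  split_ifs with h
  · rw [if_pos h] at hm
    exact inv_mem hm
  · rw [if_neg h] at hm
    exact hm

include hP hcen in
theorem gamH_iv {x : ℕ} (hx : x < 9) : gamH σ hsurj ℓ (ivL x) = (gamH σ hsurj ℓ x)⁻¹ := by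
  obtain ⟨v, hv, hL⟩ := chk_LQ x hx
  have hi := chk_ivL x hx
  have hN := hP.nice.{u} hv
  have h1 := gamH_mem hP σ hsurj hcen hv hx hL
  have h2 := gamH_mem hP σ hsurj hcen hv hi.1 (hi.2.2 v hv hL)
  have h3 : gamH σ hsurj ℓ (ivL x) * gamH σ hsurj ℓ x = 1 := by
    apply eq_one_of_mem_Mt hsurj hcen _ hN.1 hN.2 (mul_mem h2 h1)
    rw [map_mul, map_gamH hP σ hsurj hi.1, map_gamH hP σ hsurj hx, hP.iv x hx, inv_mul_cancel]
  exact eq_inv_of_mul_eq_one_left h3

omit [Finite Γ] in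
include hP in
theorem map_pw_gamH {w : List ℕ} (hw : ∀ x ∈ w, x < 9) : σ (pw (gamH σ hsurj ℓ) w) = pw ℓ w := by
  induction w with
  | nil => exact map_one σ
  | cons x w ih =>
    rw [pw_cons, pw_cons, map_mul, map_gamH hP σ hsurj (hw x List.mem_cons_self),
      ih fun y hy => hw y (List.mem_cons_of_mem _ hy)]

include hP hcen in
/-- a word in the letters of one of the six subgroups, trivial in the group, is trivial -/
theorem pw_gamH_eq_one {v : ℕ} (hv : v < 6) {w : List ℕ} (hw : ∀ x ∈ w, x < 9 ∧ LQ v x = true)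
    (h1 : pw ℓ w = 1) : pw (gamH σ hsurj ℓ) w = 1 := by
  have hN := hP.nice.{u} hv
  apply eq_one_of_mem_Mt hsurj hcen _ hN.1 hN.2
  · refine Subgroup.list_prod_mem _ fun z hz => ?_
    obtain ⟨x, hx, rfl⟩ := List.mem_map.1 hz
    exact gamH_mem hP σ hsurj hcen hv (hw x hx).1 (hw x hx).2
  · rw [map_pw_gamH hP σ hsurj fun x hx => (hw x hx).1, h1]

omit [Finite Γ] in
include hP hcen in
theorem pw_gamH_mem_center {i : ℕ} (hi : i < 1024) : pw (gamH σ hsurj ℓ) (wordOf i) ∈ Subgroup.center Γ := by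
  apply hcen
  rw [MonoidHom.mem_ker, map_pw_gamH hP σ hsurj (chk_cls i hi), hP.rel i hi]

/-- the three central elements -/
noncomputable def zcH (i : ℕ) (hi : i < 1024) : Subgroup.center Γ :=
  ⟨pw (gamH σ hsurj ℓ) (wordOf i), pw_gamH_mem_center hP σ hsurj hcen hi⟩

omit [Finite Γ] in
include hP hcen in
theorem closure_gamH (hder : σ.ker ≤ commutator Γ) : Subgroup.closure (gamH σ hsurj ℓ '' Set.Iio 9) = ⊤ := by
  apply closure_eq_top_of_stem hcen hder
  have key : ∀ g ∈ Subgroup.closure (ℓ '' Set.Iio 9),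
      ∃ x ∈ Subgroup.closure (gamH σ hsurj ℓ '' Set.Iio 9), σ x = g := by
    intro g hg
    induction hg using Subgroup.closure_induction with
    | mem g hg =>
      obtain ⟨x, hx, rfl⟩ := hg
      exact ⟨gamH σ hsurj ℓ x, Subgroup.subset_closure ⟨x, hx, rfl⟩, map_gamH hP σ hsurj hx⟩
    | one => exact ⟨1, one_mem _, map_one σ⟩
    | mul a b _ _ ha hb =>
      obtain ⟨x, hx, rfl⟩ := ha
      obtain ⟨y, hy, rfl⟩ := hb
      exact ⟨x * y, mul_mem hx hy, map_mul σ x y⟩
    | inv a _ ha =>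
      obtain ⟨x, hx, rfl⟩ := ha
      exact ⟨x⁻¹, inv_mem hx, map_inv σ x⟩
  intro g
  exact key g (by rw [hP.gen]; exact Subgroup.mem_top _)

/-! ### the certificate -/

theorem chk_close : cert.scan 64 (cert.W 0) 1785 0 0 0 = some (1785, 1535, 1536, 1536) ∧
    cert.scan 64 (cert.W 0) 10573 0 0 0 = some (10573, 1536, 1536, 1535) ∧
    cert.scan 64 (cert.W 1) 395 0 0 0 = some (395, 2048, 2047, 2048) ∧
    (cert.W 0).length = 3 ∧ (cert.W 1).length = 4 := by decide +kernel

theorem cert_e (i : ℕ) : ((cert.e0 i : ℤ) - cert.B = if i = ci0 then 1 else 0) ∧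
    ((cert.e1 i : ℤ) - cert.B = if i = ci1 then 1 else 0) ∧
    ((cert.e2 i : ℤ) - cert.B = if i = ci2 then 1 else 0) := by
  refine ⟨?_, ?_, ?_⟩
  · show (((cond (Nat.beq i ci0) 513 512 : ℕ) : ℤ) - (512 : ℕ) = _)
    by_cases h : i = ci0
    · rw [if_pos h, h, Nat.beq_refl]; norm_num
    · have hb : Nat.beq i ci0 = false := by rw [← Bool.not_eq_true, Nat.beq_eq]; exact h
      rw [if_neg h, hb]; norm_num
  · show (((cond (Nat.beq i ci1) 513 512 : ℕ) : ℤ) - (512 : ℕ) = _)
    by_cases h : i = ci1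
    · rw [if_pos h, h, Nat.beq_refl]; norm_num
    · have hb : Nat.beq i ci1 = false := by rw [← Bool.not_eq_true, Nat.beq_eq]; exact h
      rw [if_neg h, hb]; norm_num
  · show (((cond (Nat.beq i ci2) 513 512 : ℕ) : ℤ) - (512 : ℕ) = _)
    by_cases h : i = ci2
    · rw [if_pos h, h, Nat.beq_refl]; norm_num
    · have hb : Nat.beq i ci2 = false := by rw [← Bool.not_eq_true, Nat.beq_eq]; exact h
      rw [if_neg h, hb]; norm_num

variable (hder : σ.ker ≤ commutator Γ)
  (hall : ∀ a, a < cert.n → ∀ x, x < cert.g → cert.slotOK a x = true)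

include hP hsurj hcen hder hall in
/-- **the order of a stem extension** -/
theorem card_le_H : Nat.card Γ ≤ 11200 * 7920 := by
  obtain ⟨γ, hγ⟩ : ∃ γ : ℕ → Γ, γ = gamH σ hsurj ℓ := ⟨_, rfl⟩
  obtain ⟨z0, hz0⟩ : ∃ z : Subgroup.center Γ, z = zcH hP σ hsurj hcen ci0 chk_ci.1 := ⟨_, rfl⟩
  obtain ⟨z1, hz1⟩ : ∃ z : Subgroup.center Γ, z = zcH hP σ hsurj hcen ci1 chk_ci.2.1 := ⟨_, rfl⟩
  obtain ⟨z2, hz2⟩ : ∃ z : Subgroup.center Γ, z = zcH hP σ hsurj hcen ci2 chk_ci.2.2.1 := ⟨_, rfl⟩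
  have hinv : ∀ x, x < cert.g → γ (cert.iv x) = (γ x)⁻¹ := fun x hx => by
    rw [hγ]; exact gamH_iv hP σ hsurj hcen hx
  have hsub : ∀ x, cert.sub x = true → γ x ∈ Mt σ (Qs ℓ 0) := by
    intro x hx
    have h1 : x < 9 ∧ LQ 0 x = true := by
      have : ∀ y, subL y = true → y < 9 ∧ LQ 0 y = true := by
        intro y hy
        unfold subL at hy
        rw [Bool.or_eq_true, Nat.beq_eq] at hy
        have hy' : y < 5 ∨ y = 8 := by
          rcases hy with h | h
          · left; simpa [Nat.blt] using h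
          · right; exact h
        have : ∀ y < 9, (y < 5 ∨ y = 8) → LQ 0 y = true := by decide
        exact ⟨by omega, this y (by omega) hy'⟩
      exact this x hx
    rw [hγ]
    exact gamH_mem hP σ hsurj hcen (by norm_num) h1.1 h1.2
  have hW : ∀ i, ((cert.W i).map γ).prod = cert.ek z0 z1 z2 i := by
    intro i
    have he := cert_e i
    rw [DCert.ek, he.1, he.2.1, he.2.2]
    show pw γ (wordOf i) = _
    rcases Nat.lt_or_ge i 1024 with hi | hi
    · cases hc : isCls i with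
      | true =>
        rcases isCls_iff.1 hc with rfl | rfl | rfl
        · rw [if_pos rfl, if_neg chk_ci.2.2.2.1, if_neg chk_ci.2.2.2.2.1]
          simp [DCert.kap, hz0, zcH, hγ]
        · rw [if_neg (Ne.symm chk_ci.2.2.2.1), if_pos rfl, if_neg chk_ci.2.2.2.2.2]
          simp [DCert.kap, hz1, zcH, hγ]
        · rw [if_neg (Ne.symm chk_ci.2.2.2.2.1), if_neg (Ne.symm chk_ci.2.2.2.2.2), if_pos rfl]
          simp [DCert.kap, hz2, zcH, hγ]
      | false =>
        have hn : ¬ (i = ci0 ∨ i = ci1 ∨ i = ci2) := by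
          rw [← isCls_iff, hc]; simp
        rw [not_or, not_or] at hn
        rw [if_neg hn.1, if_neg hn.2.1, if_neg hn.2.2, DCert.kap_zero]
        obtain ⟨v, hv, hw⟩ := word_cases hi hc
        rw [hγ]
        exact pw_gamH_eq_one hP σ hsurj hcen hv hw (hP.rel i hi)
    · have hn : ¬ (i = ci0 ∨ i = ci1 ∨ i = ci2) := by
        have := chk_ci
        omega
      rw [not_or, not_or] at hn
      rw [if_neg hn.1, if_neg hn.2.1, if_neg hn.2.2, DCert.kap_zero, wordOf_of_ge hi]
      rfl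
  have hgood := cert.good_all (γ := γ) (H := Mt σ (Qs ℓ 0)) (z0 := z0) (z1 := z1) (z2 := z2)
    (by decide) hinv hsub hW hall
  have hN := hP.nice.{u} (v := 0) (by norm_num)
  have hH : ∀ a b c, DCert.kap z0 z1 z2 a b c ∈ Mt σ (Qs ℓ 0) → DCert.kap z0 z1 z2 a b c = 1 := by
    intro a b c hm
    apply eq_one_of_mem_Mt hsurj hcen _ hN.1 hN.2 hm
    have hk : ∀ i (hi : i < 1024), σ (zcH hP σ hsurj hcen i hi : Γ) = 1 := by
      intro i hi
      show σ (pw (gamH σ hsurj ℓ) (wordOf i)) = 1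
      rw [map_pw_gamH hP σ hsurj (chk_cls i hi), hP.rel i hi]
    unfold DCert.kap
    rw [hz0, hz1, hz2, Subgroup.coe_mul, Subgroup.coe_mul, Subgroup.coe_zpow, Subgroup.coe_zpow, Subgroup.coe_zpow, map_mul, map_mul,
      map_zpow, map_zpow, map_zpow, hk, hk, hk, one_zpow, one_zpow, one_zpow, mul_one, mul_one]
  have hc := chk_close
  have c0 := cert.close_spec hgood hW hH hc.1
  have c2 := cert.close_spec hgood hW hH hc.2.1
  have c1 := cert.close_spec hgood hW hH hc.2.2.1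
  have he0 := cert_e 0
  have he1 := cert_e 1
  have hci : (0 : ℕ) ≠ ci0 ∧ (0 : ℕ) ≠ ci1 ∧ (0 : ℕ) ≠ ci2 ∧ (1 : ℕ) ≠ ci0 ∧ (1 : ℕ) ≠ ci1 ∧ (1 : ℕ) ≠ ci2 := by decide
  rw [he0.1, he0.2.1, he0.2.2, if_neg hci.1, if_neg hci.2.1, if_neg hci.2.2.1, hc.2.2.2.1] at c0 c2
  rw [he1.1, he1.2.1, he1.2.2, if_neg hci.2.2.2.1, if_neg hci.2.2.2.2.1, if_neg hci.2.2.2.2.2, hc.2.2.2.2] at c1
  have hB : cert.B = 512 := rfl
  rw [hB] at c0 c1 c2
  norm_num [DCert.kap] at c0 c1 c2
  have hz : ∀ a b c, DCert.kap z0 z1 z2 a b c = 1 := by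
    intro a b c
    unfold DCert.kap
    rw [c0, c1, c2]
    simp
  have hgen : ∀ z : Γ, ∃ w : List ℕ, (∀ x ∈ w, x < cert.g) ∧ z = (w.map γ).prod :=
    exists_word_of_closure γ 9 ivL
      (fun x hx => ⟨(chk_ivL x hx).1, hinv x hx⟩) (by rw [hγ]; exact closure_gamH hP σ hsurj hcen hder)
  have hidx := cert.index_le hgood hz hall hgen (by decide)
  have : Finite P := Finite.of_surjective σ hsurj
  have hcard := card_Mt_le hsurj hcen (Qs ℓ 0) hN.1 hN.2
  rw [hP.card_Qs (by norm_num)] at hcard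
  exact card_le_of_index_le _ hidx.1 hcard

include hP hsurj hcen hder hall in
theorem card_ker_le_H (hcard : Nat.card P = 44352000) : Nat.card σ.ker ≤ 2 := by
  have h1 := card_le_H hP σ hsurj hcen hder hall
  have h2 := Subgroup.card_mul_index σ.ker
  rw [Subgroup.index_ker, MonoidHom.range_eq_top.2 hsurj, Subgroup.card_top, hcard] at h2
  have : Nat.card σ.ker * 44352000 ≤ 2 * 44352000 := by
    rw [h2]
    exact h1
  exact Nat.le_of_mul_le_mul_right this (by norm_num)

end stem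

end Cfsg.Agent.Lib.Helper7.HSMult
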