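import Cfsg.Agent.Lib.Lead.HS.Iso
import Cfsg.Agent.Lib.Helper7.HSMultU

/-!
# The multiplier of the Higman–Sims group: the letters in the permutation group on a hundred points

The eight letters `t, s, c0, …, c5` are computed from the transversals of the chain; products of letters are computed
on the codes.
-/

set_option autoImplicit false
set_option maxRecDepth 100000

namespace Cfsg.Agent.Lib.Helper7.HSMult

open Cfsg Cfsg.Agent.PG Cfsg.Agent.HSP

/-! ### the letters -/

/-- the first registers -/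
noncomputable def bsP : List ↥P :=
  [⟨gB⁻¹, P.inv_mem gB_mem⟩, ⟨gB, gB_mem⟩, ⟨gA⁻¹, P.inv_mem gA_mem⟩, ⟨gA, gA_mem⟩]

theorem regs_bsP : RegsOK P bsP [cbi, cb, cai, ca] :=
  List.Forall₂.cons enc_gBi (List.Forall₂.cons enc_gB (List.Forall₂.cons enc_gAi
    (List.Forall₂.cons enc_gA List.Forall₂.nil)))

/-- the registers of the elements -/
noncomputable def regsP : List ↥P := runM (chainProg ++ extP) bsP

/-- the registers of the codes -/
def regsC : List ℕ := run 100 (chainProg ++ extP) [cbi, cb, cai, ca]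

theorem regs_ok : RegsOK P regsP regsC := regs_bsP.run n_le

/-- the code of a letter -/
def lcg (x : ℕ) : ℕ := lcL.getD x (pone 100)

/-- the register of a letter -/
def posOf (x : ℕ) : ℕ := [35, 35, 30, 25, 20, 15, 10, 5, 0].getD x 0

theorem chk_lets : runK 100 (chainProg ++ extP) [cbi, cb, cai, ca] (fun regs =>
    [0, 2, 3, 4, 5, 6, 7, 8].all fun x => Nat.beq (regs.getD (posOf x) (pone 100)) (lcg x)) = true := by
  decide +kernel

theorem chk_tinv : pinv 100 (lcg 0) = lcg 1 := by decide +kernel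

/-- the letters -/
noncomputable def letP (x : ℕ) : ↥P :=
  if x = 1 then (regsP.getD 35 1)⁻¹ else if x < 9 then regsP.getD (posOf x) 1 else 1

theorem letP_of_ge {x : ℕ} (h : 9 ≤ x) : letP x = 1 := by
  rw [letP, if_neg (by omega), if_neg (by omega)]

theorem enc_letP (x : ℕ) : enc 100 (letP x).1 = lcg x := by
  have hc := chk_lets
  rw [runK_eq, List.all_eq_true] at hc
  have key : ∀ y ∈ [0, 2, 3, 4, 5, 6, 7, 8], enc 100 (regsP.getD (posOf y) 1).1 = lcg y := by
    intro y hy
    rw [regs_ok.getD]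
    exact Nat.eq_of_beq_eq_true (hc y hy)
  rcases Nat.lt_or_ge x 9 with hx | hx
  · by_cases h1 : x = 1
    · subst h1
      rw [letP, if_pos rfl, Subgroup.coe_inv, ← pinv_enc n_le]
      have := key 0 (by simp)
      rw [show posOf 0 = 35 from rfl] at this
      rw [this]
      exact chk_tinv
    · rw [letP, if_neg h1, if_pos hx]
      apply key
      have : x = 0 ∨ x = 2 ∨ x = 3 ∨ x = 4 ∨ x = 5 ∨ x = 6 ∨ x = 7 ∨ x = 8 := by omega
      simp only [List.mem_cons, List.not_mem_nil, or_false]
      exact this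
  · rw [letP_of_ge hx, lcg, List.getD_eq_default _ _ (by simp [lcL]; omega)]
    exact pone_eq.symm

theorem letP_one : letP 1 = (letP 0)⁻¹ := by
  rw [letP, if_pos rfl, letP, if_neg (by norm_num), if_pos (by norm_num)]
  rfl

/-! ### products on the codes -/

/-- the code of a product of elements with given codes -/
def cwF (f : ℕ → ℕ) : List ℕ → ℕ
  | [] => pone 100
  | x :: w => strict (cwF f w) fun c => pmul 100 (f x) c

theorem cwF_cons (f : ℕ → ℕ) (x : ℕ) (w : List ℕ) : cwF f (x :: w) = pmul 100 (f x) (cwF f w) := by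
  rw [cwF, strict_eq]

theorem enc_prodF {g : ℕ → ↥P} {f : ℕ → ℕ} (h : ∀ x, enc 100 (g x).1 = f x) :
    ∀ w : List ℕ, enc 100 ((w.map g).prod : ↥P).1 = cwF f w
  | [] => pone_eq.symm
  | x :: w => by
    rw [List.map_cons, List.prod_cons, Subgroup.coe_mul, ← pmul_enc n_le, h, enc_prodF h w, cwF_cons]

theorem prod_eq_of_cwF {g : ℕ → ↥P} {f : ℕ → ℕ} (h : ∀ x, enc 100 (g x).1 = f x) {w w' : List ℕ}
    (hc : cwF f w = cwF f w') : (w.map g).prod = (w'.map g).prod := by
  apply Subtype.ext
  apply enc_injective n_le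
  rw [enc_prodF h, enc_prodF h, hc]

/-- the code of a product of letters -/
def cw (w : List ℕ) : ℕ := cwF lcg w

theorem prod_letP_eq {w w' : List ℕ} (hc : cw w = cw w') : (w.map letP).prod = (w'.map letP).prod :=
  prod_eq_of_cwF enc_letP hc

theorem prod_letP_eq_one {w : List ℕ} (hc : cw w = pone 100) : (w.map letP).prod = 1 :=
  prod_letP_eq (w' := []) hc

theorem chk_ivP : ∀ x < 9, ivL x < 9 ∧ cw [x, ivL x] = pone 100 := by decide +kernel

theorem letP_iv (x : ℕ) (hx : x < 9) : letP (ivL x) = (letP x)⁻¹ := by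
  have h := prod_letP_eq_one (chk_ivP x hx).2
  rw [List.map_cons, List.map_cons, List.map_nil, List.prod_cons, List.prod_cons, List.prod_nil, mul_one] at h
  exact eq_inv_of_mul_eq_one_right h

theorem prod_invW (w : List ℕ) (hw : ∀ x ∈ w, x < 9) : ((invW w).map letP).prod = ((w.map letP).prod)⁻¹ :=
  Cfsg.Agent.Lib.Helper7.M12Mult.prod_map_reverse_iv letP 9 ivL
    (fun x hx => ⟨(chk_ivP x hx).1, letP_iv x hx⟩) w hw

/-! ### the checks of the hypotheses on the letters -/

theorem chk_atlP : ∀ v < 6, ∀ w ∈ atlasW, cw (expand v w) = pone 100 := by decide +kernel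

theorem chk_memP : ∀ v < 6, ∀ p ∈ letW.getD v [], cw [p.1] = cw (expand v p.2) := by decide +kernel

theorem chk_relP : ∀ i < 1024, cw (wordOf i) = pone 100 := by decide +kernel

theorem chk_commP : ∀ k < 10, (∀ y ∈ (commL.getD k cDf).2.1, y < 9) ∧ (∀ y ∈ (commL.getD k cDf).2.2.1, y < 9) ∧
    cw [(commL.getD k cDf).1] = cw ((commL.getD k cDf).2.1 ++ (commL.getD k cDf).2.2.1 ++
      invW (commL.getD k cDf).2.1 ++ invW (commL.getD k cDf).2.2.1) := by decide +kernel

theorem chk_neP : lcg 2 ≠ pone 100 := by decide +kernel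

theorem chk_zP : cw zW = pone 100 := by decide +kernel

/-! ### the letters generate the group -/

theorem lcL_eq : lcL = [lcg 0, lcg 1, lcg 2, lcg 3, lcg 4, lcg 5, lcg 6, lcg 7, lcg 8] := by decide +kernel

/-- the nine letters -/
noncomputable def lsP : List ↥P := [letP 0, letP 1, letP 2, letP 3, letP 4, letP 5, letP 6, letP 7, letP 8]

theorem regs_lsP : RegsOK P lsP lcL := by
  rw [lcL_eq]
  exact List.Forall₂.cons (enc_letP 0) (List.Forall₂.cons (enc_letP 1) (List.Forall₂.cons (enc_letP 2)
    (List.Forall₂.cons (enc_letP 3) (List.Forall₂.cons (enc_letP 4) (List.Forall₂.cons (enc_letP 5)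
    (List.Forall₂.cons (enc_letP 6) (List.Forall₂.cons (enc_letP 7) (List.Forall₂.cons (enc_letP 8)
    List.Forall₂.nil))))))))

theorem chk_genP : runK 100 genP lcL (fun regs =>
    Nat.beq (regs.getD genA (pone 100)) ca && Nat.beq (regs.getD genB (pone 100)) cb) = true := by
  decide +kernel

theorem closure_letP : Subgroup.closure (letP '' Set.Iio 9) = ⊤ := by
  have hregs : RegsOK P (runM genP lsP) (run 100 genP lcL) := regs_lsP.run n_le
  have hc := chk_genP
  rw [runK_eq, Bool.and_eq_true, Nat.beq_eq, Nat.beq_eq] at hc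
  have hmem : ∀ g ∈ runM genP lsP, g ∈ (Subgroup.closure (letP '' Set.Iio 9)).toSubmonoid := by
    apply runM_mem
    intro g hg
    have : ∀ g ∈ lsP, ∃ x < 9, g = letP x := by
      intro g hg
      simp only [lsP, List.mem_cons, List.not_mem_nil, or_false] at hg
      rcases hg with rfl | rfl | rfl | rfl | rfl | rfl | rfl | rfl | rfl
      · exact ⟨0, by norm_num, rfl⟩
      · exact ⟨1, by norm_num, rfl⟩
      · exact ⟨2, by norm_num, rfl⟩
      · exact ⟨3, by norm_num, rfl⟩
      · exact ⟨4, by norm_num, rfl⟩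
      · exact ⟨5, by norm_num, rfl⟩
      · exact ⟨6, by norm_num, rfl⟩
      · exact ⟨7, by norm_num, rfl⟩
      · exact ⟨8, by norm_num, rfl⟩
    obtain ⟨x, hx, rfl⟩ := this g hg
    exact Subgroup.subset_closure ⟨x, hx, rfl⟩
  have hget : ∀ i, (runM genP lsP).getD i 1 ∈ Subgroup.closure (letP '' Set.Iio 9) := by
    intro i
    by_cases hi : i < (runM genP lsP).length
    · rw [List.getD_eq_getElem _ _ hi]; exact hmem _ (List.getElem_mem _)
    · rw [List.getD_eq_default _ _ (not_lt.1 hi)]; exact one_mem _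
  have hA : (⟨gA, gA_mem⟩ : ↥P) ∈ Subgroup.closure (letP '' Set.Iio 9) := by
    have e : (runM genP lsP).getD genA 1 = ⟨gA, gA_mem⟩ := by
      apply Subtype.ext
      apply enc_injective n_le
      rw [hregs.getD, hc.1]
      exact enc_gA.symm
    rw [← e]
    exact hget _
  have hB : (⟨gB, gB_mem⟩ : ↥P) ∈ Subgroup.closure (letP '' Set.Iio 9) := by
    have e : (runM genP lsP).getD genB 1 = ⟨gB, gB_mem⟩ := by
      apply Subtype.ext
      apply enc_injective n_le
      rw [hregs.getD, hc.2]
      exact enc_gB.symm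
    rw [← e]
    exact hget _
  have hK : Subgroup.closure ({⟨gA, gA_mem⟩, ⟨gB, gB_mem⟩} : Set ↥P) = ⊤ := by
    apply Subgroup.map_injective P.subtype_injective
    rw [MonoidHom.map_closure, ← MonoidHom.range_eq_map, Subgroup.range_subtype]
    have : (P.subtype '' ({⟨gA, gA_mem⟩, ⟨gB, gB_mem⟩} : Set ↥P)) = {gA, gB} := by
      rw [Set.image_insert_eq, Set.image_singleton]
      rfl
    rw [this]
    rfl
  rw [eq_top_iff, ← hK, Subgroup.closure_le]
  rintro g (rfl | rfl)
  · exact hA
  · exact hB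

/-! ### the hypotheses on the letters -/

theorem pw_letP_eq {w w' : List ℕ} (hc : cw w = cw w') : pw letP w = pw letP w' := prod_letP_eq hc

theorem pw_letP_eq_one {w : List ℕ} (hc : cw w = pone 100) : pw letP w = 1 := prod_letP_eq_one hc

theorem letP_ne : letP 2 ≠ 1 := by
  intro h
  apply chk_neP
  rw [← enc_letP 2, h]
  exact pone_eq.symm

theorem letsP : LetsP letP where
  iv := fun x hx => letP_iv x hx
  atl := fun v hv w hw => pw_letP_eq_one (chk_atlP v hv w hw)
  mem := fun v hv p hp => by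
    have h := pw_letP_eq (chk_memP v hv p hp)
    rw [pw_cons, pw_nil, mul_one] at h
    exact h
  cls := fun i hi => by
    have h1 := isCls_iff.1 hi
    have h2 := chk_ci
    exact pw_letP_eq_one (chk_relP i (by omega))
  gen := closure_letP
  ne := letP_ne
  rel := fun i hi => pw_letP_eq_one (chk_relP i hi)
  comm := fun k hk => by
    have h := chk_commP k hk
    have h1 := pw_letP_eq h.2.2
    rw [pw_cons, pw_nil, mul_one, pw_append, pw_append, pw_append] at h1
    have e1 : pw letP (invW (commL.getD k cDf).2.1) = (pw letP (commL.getD k cDf).2.1)⁻¹ := prod_invW _ h.1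
    have e2 : pw letP (invW (commL.getD k cDf).2.2.1) = (pw letP (commL.getD k cDf).2.2.1)⁻¹ := prod_invW _ h.2.1
    rw [e1, e2] at h1
    rw [h1, commutatorElement_def]

end Cfsg.Agent.Lib.Helper7.HSMult
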