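import Mathlib

/-!
# Permutations of `Fin n` packed in natural numbers, ten binary digits for each point

A permutation `g` of `Fin n` (with `n ≤ 1024`) is coded by the number `encT n g = ∑ i, g i * 1024 ^ i`.  Products,
inverses and conjugates are computed on the codes; all operations are written with recursors and the binary
operations of the natural numbers which the kernel evaluates fast.
-/

set_option autoImplicit false

namespace Cfsg.Agent.Lib.Helper7.HSMult

/-- lookup of the digit `i` (ten bits) -/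
def lkT (P i : ℕ) : ℕ := Nat.mod (Nat.shiftRight P (Nat.mul 10 i)) 1024

/-- pack the values `f 0, …, f (n - 1)` -/
def pkT (n : ℕ) (f : ℕ → ℕ) : ℕ :=
  Nat.rec 0 (fun i acc => Nat.add acc (Nat.shiftLeft (f i) (Nat.mul 10 i))) n

/-- bounded universal quantifier, written with the recursor for fast kernel evaluation -/
def allBT (k : ℕ) (f : ℕ → Bool) : Bool := Nat.rec true (fun i ih => cond (f i) ih false) k

theorem allB_succT (k : ℕ) (f : ℕ → Bool) : allBT (k + 1) f = cond (f k) (allBT k f) false := rfl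

theorem allB_iffT {k : ℕ} {f : ℕ → Bool} : allBT k f = true ↔ ∀ i < k, f i = true := by
  induction k with
  | zero => exact ⟨fun _ i hi => absurd hi (Nat.not_lt_zero i), fun _ => rfl⟩
  | succ k ih =>
    rw [allB_succT]
    constructor
    · intro h i hi
      cases hk : f k with
      | false => rw [hk] at h; exact absurd h (by simp)
      | true =>
        rw [hk] at h
        rcases Nat.lt_succ_iff_lt_or_eq.1 hi with h1 | h1
        · exact ih.1 h i h1
        · rw [h1]; exact hk
    · intro h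
      rw [h k (Nat.lt_succ_self k)]
      exact ih.2 fun i hi => h i (Nat.lt_succ_of_lt hi)

theorem lk_eqT (P i : ℕ) : lkT P i = P / 1024 ^ i % 1024 := by
  show (P >>> (10 * i)) % 1024 = _
  rw [Nat.shiftRight_eq_div_pow, pow_mul]
  norm_num

theorem pk_succT (n : ℕ) (f : ℕ → ℕ) : pkT (n + 1) f = pkT n f + f n * 1024 ^ n := by
  show Nat.add (pkT n f) (Nat.shiftLeft (f n) (Nat.mul 10 n)) = _
  show pkT n f + (f n) <<< (10 * n) = _
  rw [Nat.shiftLeft_eq, pow_mul]
  norm_num

theorem pk_zeroT (f : ℕ → ℕ) : pkT 0 f = 0 := rfl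

theorem pk_eq_sumT (n : ℕ) (f : ℕ → ℕ) : pkT n f = ∑ i ∈ Finset.range n, f i * 1024 ^ i := by
  induction n with
  | zero => rfl
  | succ n ih => rw [pk_succT, Finset.sum_range_succ, ih]

theorem pk_congrT {n : ℕ} {f f' : ℕ → ℕ} (h : ∀ i < n, f i = f' i) : pkT n f = pkT n f' := by
  rw [pk_eq_sumT, pk_eq_sumT]
  exact Finset.sum_congr rfl fun i hi => by rw [h i (Finset.mem_range.1 hi)]

theorem pk_ltT {n : ℕ} {f : ℕ → ℕ} (h : ∀ i < n, f i < 1024) : pkT n f < 1024 ^ n := by
  induction n with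
  | zero => rw [pk_zeroT]; norm_num
  | succ n ih =>
    rw [pk_succT, pow_succ]
    have h1 := ih fun i hi => h i (Nat.lt_succ_of_lt hi)
    have h2 := h n (Nat.lt_succ_self n)
    nlinarith [pow_pos (show (0:ℕ) < 1024 by norm_num) n]

theorem lk_pkT {n : ℕ} {f : ℕ → ℕ} (h : ∀ i < n, f i < 1024) {i : ℕ} (hi : i < n) :
    lkT (pkT n f) i = f i := by
  induction n with
  | zero => exact absurd hi (Nat.not_lt_zero i)
  | succ n ih =>
    have hlt := pk_ltT fun j hj => h j (Nat.lt_succ_of_lt hj)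
    rw [lk_eqT, pk_succT]
    rcases Nat.lt_succ_iff_lt_or_eq.1 hi with h1 | h1
    · have e : f n * 1024 ^ n = 1024 ^ i * (f n * 1024 ^ (n - i)) := by
        rw [mul_left_comm, ← pow_add]
        congr 2
        omega
      rw [e, Nat.add_mul_div_left _ _ (pow_pos (by norm_num) _)]
      have e2 : f n * 1024 ^ (n - i) = 1024 * (f n * 1024 ^ (n - i - 1)) := by
        rw [mul_left_comm, ← pow_succ']
        congr 2
        omega
      rw [e2, Nat.add_mul_mod_self_left, ← lk_eqT]
      exact ih (fun j hj => h j (Nat.lt_succ_of_lt hj)) h1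
    · rw [h1, Nat.add_mul_div_right _ _ (pow_pos (by norm_num) _), Nat.div_eq_of_lt hlt, zero_add]
      exact Nat.mod_eq_of_lt (h n (Nat.lt_succ_self n))

theorem lk_succT (P i : ℕ) : lkT P (i + 1) = lkT (P / 1024) i := by
  rw [lk_eqT, lk_eqT, pow_succ', Nat.div_div_eq_div_mul]

theorem eq_of_lkT {n : ℕ} : ∀ {A B : ℕ}, A < 1024 ^ n → B < 1024 ^ n → (∀ i < n, lkT A i = lkT B i) → A = B := by
  induction n with
  | zero =>
    intro A B hA hB _
    rw [pow_zero, Nat.lt_one_iff] at hA hB
    rw [hA, hB]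
  | succ n ih =>
    intro A B hA hB h
    have h0 := h 0 (Nat.succ_pos n)
    rw [lk_eqT, lk_eqT, pow_zero, Nat.div_one, Nat.div_one] at h0
    have h1 : A / 1024 = B / 1024 := by
      apply ih
      · rw [Nat.div_lt_iff_lt_mul (by norm_num), ← pow_succ]; exact hA
      · rw [Nat.div_lt_iff_lt_mul (by norm_num), ← pow_succ]; exact hB
      · intro i hi
        rw [← lk_succT, ← lk_succT]
        exact h (i + 1) (Nat.succ_lt_succ hi)
    rw [← Nat.div_add_mod A 1024, ← Nat.div_add_mod B 1024, h0, h1]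

/-! ### codes of permutations -/

/-- the values of a permutation, as a function on the natural numbers -/
def valT {n : ℕ} (g : Equiv.Perm (Fin n)) (i : ℕ) : ℕ := if h : i < n then (g ⟨i, h⟩ : ℕ) else 0

theorem val_ltT {n : ℕ} (g : Equiv.Perm (Fin n)) {i : ℕ} (h : i < n) : valT g i < n := by
  simp only [valT, dif_pos h]; exact (g ⟨i, h⟩).2

theorem val_finT {n : ℕ} (g : Equiv.Perm (Fin n)) (i : Fin n) : valT g i = (g i : ℕ) := by
  simp only [valT, dif_pos i.2]

theorem val_mulT {n : ℕ} (g h : Equiv.Perm (Fin n)) {i : ℕ} (hi : i < n) : valT (g * h) i = valT g (valT h i) := by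
  have h1 : valT h i = ((h ⟨i, hi⟩ : Fin n) : ℕ) := by simp only [valT, dif_pos hi]
  have h2 : valT (g * h) i = (((g * h) ⟨i, hi⟩ : Fin n) : ℕ) := by simp only [valT, dif_pos hi]
  rw [h2, h1, Equiv.Perm.mul_apply, ← val_finT]

/-- the code of a permutation -/
def encT (n : ℕ) (g : Equiv.Perm (Fin n)) : ℕ := pkT n (valT g)

variable {n : ℕ}

theorem enc_ltT (hn : n ≤ 1024) (g : Equiv.Perm (Fin n)) : encT n g < 1024 ^ n :=
  pk_ltT fun _ hi => lt_of_lt_of_le (val_ltT g hi) hn

theorem lk_encT (hn : n ≤ 1024) (g : Equiv.Perm (Fin n)) {i : ℕ} (hi : i < n) : lkT (encT n g) i = valT g i :=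
  lk_pkT (fun _ hj => lt_of_lt_of_le (val_ltT g hj) hn) hi

theorem lk_enc_finT (hn : n ≤ 1024) (g : Equiv.Perm (Fin n)) (i : Fin n) : lkT (encT n g) i = (g i : ℕ) := by
  rw [lk_encT hn g i.2, val_finT]

theorem enc_injectiveT (hn : n ≤ 1024) : Function.Injective (encT n) := by
  intro g h e
  refine Equiv.ext fun i => Fin.ext ?_
  rw [← lk_enc_finT hn, ← lk_enc_finT hn, e]

/-- product of codes -/
def pmulT (n A B : ℕ) : ℕ := pkT n fun i => lkT A (lkT B i)

/-- inverse of a code -/
def pinvT (n A : ℕ) : ℕ := Nat.rec 0 (fun i acc => Nat.add acc (Nat.shiftLeft i (Nat.mul 10 (lkT A i)))) n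

/-- the code of the identity -/
def poneT (n : ℕ) : ℕ := pkT n fun i => i

theorem pmul_encT (hn : n ≤ 1024) (g h : Equiv.Perm (Fin n)) : pmulT n (encT n g) (encT n h) = encT n (g * h) := by
  apply pk_congrT
  intro i hi
  rw [lk_encT hn h hi, lk_encT hn g (val_ltT h hi), val_mulT g h hi]

theorem pone_eqT : poneT n = encT n 1 := by
  apply pk_congrT
  intro i hi
  rw [valT, dif_pos hi]
  rfl

theorem pinv_eq_sumT (n A : ℕ) : pinvT n A = ∑ i ∈ Finset.range n, i * 1024 ^ lkT A i := by
  induction n with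
  | zero => rfl
  | succ n ih =>
    rw [Finset.sum_range_succ, ← ih]
    show pinvT n A + n <<< (10 * lkT A n) = _
    rw [Nat.shiftLeft_eq, pow_mul]
    norm_num

theorem pinv_encT (hn : n ≤ 1024) (g : Equiv.Perm (Fin n)) : pinvT n (encT n g) = encT n g⁻¹ := by
  have e : encT n g⁻¹ = ∑ i : Fin n, valT g⁻¹ i * 1024 ^ (i : ℕ) := by
    rw [encT, pk_eq_sumT, Finset.sum_range]
  rw [pinv_eq_sumT, e, Finset.sum_range]
  rw [← Equiv.sum_comp g⁻¹ (fun i : Fin n => (i : ℕ) * 1024 ^ lkT (encT n g) i)]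
  apply Finset.sum_congr rfl
  intro i _
  rw [lk_enc_finT hn, val_finT]
  simp

/-- conjugate of a code, given the code of the inverse -/
def pconjT (n G Gi T : ℕ) : ℕ := pmulT n (pmulT n G T) Gi

theorem pconj_encT (hn : n ≤ 1024) (g t : Equiv.Perm (Fin n)) :
    pconjT n (encT n g) (encT n g⁻¹) (encT n t) = encT n (g * t * g⁻¹) := by
  rw [pconjT, pmul_encT hn, pmul_encT hn]

/-! ### decoding -/

/-- the number is the code of a permutation -/
def IsCodeT (n c : ℕ) : Prop := ∃ g : Equiv.Perm (Fin n), encT n g = c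

/-- the permutation of a code -/
noncomputable def decT (n c : ℕ) : Equiv.Perm (Fin n) :=
  open Classical in if h : IsCodeT n c then h.choose else 1

theorem enc_decT {c : ℕ} (h : IsCodeT n c) : encT n (decT n c) = c := by
  rw [decT, dif_pos h]; exact h.choose_spec

theorem dec_encT (hn : n ≤ 1024) (g : Equiv.Perm (Fin n)) : decT n (encT n g) = g :=
  enc_injectiveT hn (enc_decT ⟨g, rfl⟩)

/-- the test that `c` is a code, with the code of the inverse -/
def codeOKT (n c c' : ℕ) : Bool :=
  Nat.blt c (Nat.pow 1024 n) &&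
    allBT n fun i => cond (Nat.blt (lkT c i) n) (Nat.beq (lkT c' (lkT c i)) i) false

theorem isCode_of_codeOKT (hn : n ≤ 1024) {c c' : ℕ} (h : codeOKT n c c' = true) : IsCodeT n c := by
  rw [codeOKT, Bool.and_eq_true, allB_iffT] at h
  obtain ⟨h0, h1⟩ := h
  have hlt : c < 1024 ^ n := by simpa [Nat.blt] using h0
  have h2 : ∀ i < n, lkT c i < n ∧ lkT c' (lkT c i) = i := by
    intro i hi
    have := h1 i hi
    cases hb : Nat.blt (lkT c i) n with
    | false => rw [hb] at this; exact absurd this (by simp)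
    | true =>
      rw [hb] at this
      exact ⟨by simpa [Nat.blt] using hb, Nat.eq_of_beq_eq_true this⟩
  let f : Fin n → Fin n := fun i => ⟨lkT c i, (h2 i i.2).1⟩
  have hf : Function.Injective f := by
    intro i j hij
    have e : lkT c i = lkT c j := congrArg Fin.val hij
    apply Fin.ext
    rw [← (h2 i i.2).2, ← (h2 j j.2).2, e]
  refine ⟨Equiv.ofBijective f (Finite.injective_iff_bijective.1 hf), ?_⟩
  apply eq_of_lkT (enc_ltT hn _) hlt
  intro i hi
  rw [lk_encT hn _ hi, valT, dif_pos hi]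
  rfl

theorem dec_applyT (hn : n ≤ 1024) {c : ℕ} (h : IsCodeT n c) (i : Fin n) : ((decT n c i : Fin n) : ℕ) = lkT c i := by
  rw [← lk_enc_finT hn, enc_decT h]

end Cfsg.Agent.Lib.Helper7.HSMult
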