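import Cfsg.Agent.Lib.Helper7.HSMultU

/-!
# The multiplier of the Higman–Sims group: a stem extension with kernel of order two, abstractly

A finite group `E` with letters that satisfy the hypotheses of the hexagon, mapped onto `P` letter by letter.  Each of
its six subgroups is an image of the presented group, which is simple, so the map is injective on them; therefore the
words of the certificate hold in `E`, and `E` has at most twice as many elements as `P`.  An element of the kernel that
is not trivial makes the kernel of order two; it is central, and it lies in the derived subgroup since `E` is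
generated by the six subgroups, which are perfect.
-/

set_option autoImplicit false
set_option maxRecDepth 100000

namespace Cfsg.Agent.Lib.Helper7.HSMult

open Cfsg Cfsg.Agent.Lib.Helper7.M12Mult Cfsg.Agent.Lib.Helper6.PGrp

section model

variable {P : Type} [Group P] {ℓ : ℕ → P} (hP : LetsP ℓ)
variable {E : Type} [Group E] {e : ℕ → E} (hE : Lets e) (σE : E →* P) (hσ : ∀ x < 9, σE (e x) = ℓ x)

include hσ in
theorem map_pw_E {w : List ℕ} (hw : ∀ x ∈ w, x < 9) : σE (pw e w) = pw ℓ w := by
  induction w with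
  | nil => exact map_one σE
  | cons x w ih =>
    rw [pw_cons, pw_cons, map_mul, hσ x (hw x List.mem_cons_self), ih fun y hy => hw y (List.mem_cons_of_mem _ hy)]

include hP hσ in
theorem surj_E : Function.Surjective σE := by
  rw [← MonoidHom.range_eq_top, eq_top_iff, ← hP.gen, Subgroup.closure_le]
  rintro _ ⟨x, hx, rfl⟩
  exact ⟨e x, hσ x hx⟩

include hP hE hσ in
/-- the map is injective on each of the six subgroups -/
theorem eq_one_of_mem_Qs {v : ℕ} (hv : v < 6) {g : E} (hg : g ∈ Qs e v) (h1 : σE g = 1) : g = 1 := by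
  have hA := hE.atlas hv
  have : IsSimpleGroup PM11 := Cfsg.Agent.Lib.Helper6.PM11Simple.main.1
  rw [Qs, ← atlasHom_range hA] at hg
  obtain ⟨m, rfl⟩ := hg
  have hk : (σE.comp (atlasHom hA)).ker = ⊥ := by
    rcases ((σE.comp (atlasHom hA)).normal_ker).eq_bot_or_eq_top with h | h
    · exact h
    · exfalso
      have h2 : PresentedGroup.of PM11.Gen.a ∈ (σE.comp (atlasHom hA)).ker := by rw [h]; exact Subgroup.mem_top _
      rw [MonoidHom.mem_ker, MonoidHom.comp_apply, atlasHom_a, hσ 2 (by norm_num)] at h2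
      exact hP.ne h2
  have hm : m ∈ (σE.comp (atlasHom hA)).ker := h1
  rw [hk, Subgroup.mem_bot] at hm
  rw [hm, map_one]

include hP hE hσ in
/-- the words of the certificate hold -/
theorem pw_E_eq_one (i : ℕ) : pw e (wordOf i) = 1 := by
  rcases Nat.lt_or_ge i 1024 with hi | hi
  · cases hc : isCls i with
    | true => exact hE.cls i hc
    | false =>
      obtain ⟨v, hv, hw⟩ := word_cases hi hc
      apply eq_one_of_mem_Qs hP hE σE hσ hv (hE.pw_mem_Qs hv hw)
      rw [map_pw_E σE hσ fun x hx => (hw x hx).1, hP.rel i hi]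
  · rw [wordOf_of_ge hi]
    rfl

variable (hall : ∀ a, a < cert.n → ∀ x, x < cert.g → cert.slotOK a x = true)

include hP hE hσ hall in
theorem card_E_le [Finite E] : Nat.card E ≤ 11200 * 7920 := by
  have hinv : ∀ x, x < cert.g → e (cert.iv x) = (e x)⁻¹ := fun x hx => hE.iv x hx
  have hsub : ∀ x, cert.sub x = true → e x ∈ Qs e 0 := by
    intro x hx
    have h1 : x < 9 ∧ LQ 0 x = true := by
      have hy : subL x = true := hx
      unfold subL at hy
      rw [Bool.or_eq_true, Nat.beq_eq] at hy
      have hy' : x < 5 ∨ x = 8 := by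
        rcases hy with h | h
        · left; simpa [Nat.blt] using h
        · right; exact h
      have : ∀ y < 9, (y < 5 ∨ y = 8) → LQ 0 y = true := by decide
      exact ⟨by omega, this x (by omega) hy'⟩
    exact hE.mem_Qs (by norm_num) h1.1 h1.2
  have hW : ∀ i, ((cert.W i).map e).prod = cert.ek (1 : Subgroup.center E) 1 1 i := by
    intro i
    have h1 : cert.ek (1 : Subgroup.center E) 1 1 i = 1 := by
      unfold DCert.ek DCert.kap
      simp
    rw [h1]
    exact pw_E_eq_one hP hE σE hσ i
  have hgood := cert.good_all (γ := e) (H := Qs e 0) (z0 := 1) (z1 := 1) (z2 := 1) (by decide) hinv hsub hW hall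
  have hz : ∀ a b c, DCert.kap (1 : Subgroup.center E) 1 1 a b c = 1 := by
    intro a b c
    unfold DCert.kap
    simp
  have hgen : ∀ z : E, ∃ w : List ℕ, (∀ x ∈ w, x < cert.g) ∧ z = (w.map e).prod := hE.exists_word
  have hidx := cert.index_le hgood hz hall hgen (by decide)
  exact card_le_of_index_le _ hidx.1 (hE.card_Qs_le (by norm_num))

variable [Finite E] (hcard : Nat.card P = 44352000) (hz1 : pw e zW ≠ 1) (hz2 : pw ℓ zW = 1)

include hP hE hσ hall hcard in
theorem card_ker_E_le : Nat.card σE.ker ≤ 2 := by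
  have h1 := card_E_le hP hE σE hσ hall
  have h2 := Subgroup.card_mul_index σE.ker
  rw [Subgroup.index_ker, MonoidHom.range_eq_top.2 (surj_E hP σE hσ), Subgroup.card_top, hcard] at h2
  have : Nat.card σE.ker * 44352000 ≤ 2 * 44352000 := by
    rw [h2]
    exact h1
  exact Nat.le_of_mul_le_mul_right this (by norm_num)

omit [Finite E] in
include hσ hz2 in
theorem zE_mem : pw e zW ∈ σE.ker := by
  rw [MonoidHom.mem_ker, map_pw_E σE hσ (by decide), hz2]

include hP hE hσ hall hcard hz1 hz2 in
theorem card_ker_E : Nat.card σE.ker = 2 := by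
  have h1 := card_ker_E_le hP hE σE hσ hall hcard
  have : Nontrivial ↥σE.ker :=
    ⟨⟨⟨pw e zW, zE_mem σE hσ hz2⟩, 1, fun h => hz1 (congrArg Subtype.val h)⟩⟩
  have h2 := Finite.one_lt_card_iff_nontrivial.2 this
  omega

include hP hE hσ hall hcard hz1 hz2 in
theorem ker_E_eq (k : E) (hk : k ∈ σE.ker) : k = 1 ∨ k = pw e zW := by
  by_contra hcon
  rw [not_or] at hcon
  obtain ⟨y, _, hy⟩ := (Nat.card_eq_two_iff' (1 : ↥σE.ker)).1 (card_ker_E hP hE σE hσ hall hcard hz1 hz2)
  have h1 := hy ⟨k, hk⟩ (fun h => hcon.1 (congrArg Subtype.val h))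
  have h2 := hy ⟨pw e zW, zE_mem σE hσ hz2⟩ (fun h => hz1 (congrArg Subtype.val h))
  exact hcon.2 (congrArg Subtype.val (h1.trans h2.symm))

include hP hE hσ hall hcard hz1 hz2 in
theorem ker_E_le_center : σE.ker ≤ Subgroup.center E := by
  intro k hk
  rw [Subgroup.mem_center_iff]
  intro g
  rcases ker_E_eq hP hE σE hσ hall hcard hz1 hz2 k hk with rfl | rfl
  · rw [mul_one, one_mul]
  · have hn : g * pw e zW * g⁻¹ ∈ σE.ker :=
      (inferInstance : σE.ker.Normal).conj_mem _ (zE_mem σE hσ hz2) g
    rcases ker_E_eq hP hE σE hσ hall hcard hz1 hz2 _ hn with h | h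
    · exfalso
      apply hz1
      have : pw e zW = g⁻¹ * (g * pw e zW * g⁻¹) * g := by group
      rw [this, h]; group
    · calc g * pw e zW = (g * pw e zW * g⁻¹) * g := by group
        _ = pw e zW * g := by rw [h]

include hE in
omit [Finite E] in
/-- the group is perfect -/
theorem commutator_E : commutator E = ⊤ := by
  rw [eq_top_iff, ← hE.gen, Subgroup.closure_le]
  rintro _ ⟨x, hx, rfl⟩
  obtain ⟨v, hv, hL⟩ := chk_LQ x hx
  have hA := hE.atlas hv
  have hm := hE.mem_Qs hv hx hL
  rw [Qs, ← atlasHom_range hA] at hm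
  obtain ⟨m, hm⟩ := hm
  rw [SetLike.mem_coe, ← hm]
  have h1 : m ∈ commutator PM11 := by rw [perfect_PM11]; exact Subgroup.mem_top _
  have h2 : (commutator PM11).map (atlasHom hA) ≤ commutator E := by
    rw [commutator_def, commutator_def, Subgroup.map_commutator]
    exact Subgroup.commutator_mono le_top le_top
  exact h2 (Subgroup.mem_map_of_mem _ h1)

include hP hE hσ hall hcard hz1 hz2 in
/-- **a stem extension with kernel of order two** -/
theorem stem_E : Function.Surjective σE ∧ σE.ker ≤ Subgroup.center E ∧ σE.ker ≤ commutator E ∧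
    Nonempty (σE.ker ≃* Multiplicative (ZMod 2)) := by
  refine ⟨surj_E hP σE hσ, ker_E_le_center hP hE σE hσ hall hcard hz1 hz2, ?_, ?_⟩
  · rw [commutator_E hE]
    exact le_top
  · have : Fact (Nat.Prime 2) := ⟨Nat.prime_two⟩
    refine ⟨mulEquivOfPrimeCardEq (p := 2) (card_ker_E hP hE σE hσ hall hcard hz1 hz2) ?_⟩
    rw [Nat.card_eq_fintype_card]; rfl

end model

end Cfsg.Agent.Lib.Helper7.HSMult
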