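import Cfsg.Agent.Lib.Helper7.HSMultD
import Cfsg.Agent.Lib.Helper7.HSMultK
import Cfsg.Agent.Lib.Helper7.HSMultV

/-!
# The multiplier of the Higman–Sims group: the double cover on 704 points

Nine permutations of 704 points, paired with the nine letters on the hundred points, generate a group that maps onto
the group on the hundred points; the pairs satisfy the hypotheses of the hexagon, and one word is trivial on the
hundred points and not on the 704 points.
-/

set_option autoImplicit false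
set_option maxRecDepth 100000

namespace Cfsg.Agent.Lib.Helper7.HSMult

open Cfsg Cfsg.Agent.PG Cfsg.Agent.HSP

/-! ### the permutations of the 704 points -/

theorem n7_le : (704 : ℕ) ≤ 1024 := by norm_num

/-- the code of a letter on the 704 points -/
def lc7g (x : ℕ) : ℕ := lc7.getD x (poneT 704)

/-- the code of the inverse of a letter on the 704 points -/
def lc7ig (x : ℕ) : ℕ := lc7i.getD x (poneT 704)

theorem chk_code7 : ∀ x < 9, codeOKT 704 (lc7g x) (lc7ig x) = true := by decide +kernel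

theorem isCode7 (x : ℕ) : IsCodeT 704 (lc7g x) := by
  rcases Nat.lt_or_ge x 9 with h | h
  · exact isCode_of_codeOKT n7_le (chk_code7 x h)
  · rw [lc7g, List.getD_eq_default _ _ (by simp [lc7]; omega)]
    exact ⟨1, pone_eqT.symm⟩

/-- the permutations of the 704 points -/
noncomputable def sg7 (x : ℕ) : Equiv.Perm (Fin 704) := decT 704 (lc7g x)

theorem enc_sg7 (x : ℕ) : encT 704 (sg7 x) = lc7g x := enc_decT (isCode7 x)

theorem sg7_of_ge {x : ℕ} (h : 9 ≤ x) : sg7 x = 1 := by
  apply enc_injectiveT n7_le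
  rw [enc_sg7, lc7g, List.getD_eq_default _ _ (by simp [lc7]; omega)]
  exact pone_eqT

/-- the code of a product of letters on the 704 points -/
def cw7 : List ℕ → ℕ
  | [] => poneT 704
  | x :: w => strictN (cw7 w) fun c => pmulT 704 (lc7g x) c

theorem cw7_cons (x : ℕ) (w : List ℕ) : cw7 (x :: w) = pmulT 704 (lc7g x) (cw7 w) := by
  rw [cw7, strictN_eq]

theorem enc_pw7 : ∀ w : List ℕ, encT 704 (pw sg7 w) = cw7 w
  | [] => pone_eqT.symm
  | x :: w => by
    rw [pw_cons, ← pmul_encT n7_le, enc_sg7, enc_pw7 w, cw7_cons]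

/-! ### the pairs -/

/-- the pairs -/
noncomputable def gX (x : ℕ) : Equiv.Perm (Fin 704) × ↥P := (sg7 x, letP x)

theorem gX_of_ge {x : ℕ} (h : 9 ≤ x) : gX x = 1 := by
  apply Prod.ext
  · exact sg7_of_ge h
  · exact letP_of_ge h

/-- the extension -/
noncomputable def GE : Subgroup (Equiv.Perm (Fin 704) × ↥P) := Subgroup.closure (gX '' Set.Iio 9)

theorem gX_mem (x : ℕ) : gX x ∈ GE := by
  rcases Nat.lt_or_ge x 9 with h | h
  · exact Subgroup.subset_closure ⟨x, h, rfl⟩
  · rw [gX_of_ge h]; exact one_mem _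

/-- the letters of the extension -/
noncomputable def gE (x : ℕ) : ↥GE := ⟨gX x, gX_mem x⟩

theorem pw_gE_val (w : List ℕ) : (pw gE w : ↥GE).1 = (pw sg7 w, pw letP w) := by
  induction w with
  | nil => rfl
  | cons x w ih =>
    rw [pw_cons, Subgroup.coe_mul, ih, pw_cons, pw_cons]
    rfl

/-- two words with the same codes give the same element -/
theorem pw_gE_eq {w w' : List ℕ} (h1 : cw7 w = cw7 w') (h2 : cw w = cw w') : pw gE w = pw gE w' := by
  apply Subtype.ext
  rw [pw_gE_val, pw_gE_val]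
  apply Prod.ext
  · apply enc_injectiveT n7_le
    rw [enc_pw7, enc_pw7, h1]
  · exact pw_letP_eq h2

theorem pw_gE_eq_one {w : List ℕ} (h1 : cw7 w = poneT 704) (h2 : cw w = pone 100) : pw gE w = 1 :=
  pw_gE_eq (w' := []) h1 h2

/-! ### the checks -/

theorem chk_iv7 : ∀ x < 9, cw7 [x, ivL x] = poneT 704 := by decide +kernel

theorem chk_atl7 : ∀ v < 6, ∀ w ∈ atlasW, cw7 (expand v w) = poneT 704 := by decide +kernel

theorem chk_mem7 : ∀ v < 6, ∀ p ∈ letW.getD v [], cw7 [p.1] = cw7 (expand v p.2) := by decide +kernel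

theorem chk_cls7 : cw7 (wordOf ci0) = poneT 704 ∧ cw7 (wordOf ci1) = poneT 704 ∧ cw7 (wordOf ci2) = poneT 704 := by
  decide +kernel

theorem chk_z7 : cw7 zW ≠ poneT 704 := by decide +kernel

/-! ### the hypotheses -/

theorem closure_gE : Subgroup.closure (gE '' Set.Iio 9) = ⊤ := by
  have h := Subgroup.closure_closure_coe_preimage (k := gX '' Set.Iio 9)
  have e : ((↑) ⁻¹' (gX '' Set.Iio 9) : Set ↥(Subgroup.closure (gX '' Set.Iio 9))) = gE '' Set.Iio 9 := by
    ext z
    constructor
    · rintro ⟨x, hx, hz⟩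
      exact ⟨x, hx, Subtype.ext hz⟩
    · rintro ⟨x, hx, rfl⟩
      exact ⟨x, hx, rfl⟩
  rw [e] at h
  exact h

theorem letsE : Lets gE where
  iv := fun x hx => by
    have h := pw_gE_eq_one (chk_iv7 x hx) (chk_ivP x hx).2
    rw [pw_cons, pw_cons, pw_nil, mul_one] at h
    exact eq_inv_of_mul_eq_one_right h
  atl := fun v hv w hw => pw_gE_eq_one (chk_atl7 v hv w hw) (chk_atlP v hv w hw)
  mem := fun v hv p hp => by
    have h := pw_gE_eq (chk_mem7 v hv p hp) (chk_memP v hv p hp)
    rw [pw_cons, pw_nil, mul_one] at h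
    exact h
  cls := fun i hi => by
    have h2 := chk_ci
    rcases isCls_iff.1 hi with rfl | rfl | rfl
    · exact pw_gE_eq_one chk_cls7.1 (chk_relP _ h2.1)
    · exact pw_gE_eq_one chk_cls7.2.1 (chk_relP _ h2.2.1)
    · exact pw_gE_eq_one chk_cls7.2.2 (chk_relP _ h2.2.2.1)
  gen := closure_gE

/-- the projection onto the group on the hundred points -/
noncomputable def sigE : ↥GE →* ↥P := (MonoidHom.snd _ _).comp GE.subtype

theorem sigE_gE (x : ℕ) : sigE (gE x) = letP x := rfl

theorem zE_ne : pw gE zW ≠ 1 := by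
  intro h
  have h0 : (pw gE zW : ↥GE).1 = 1 := congrArg Subtype.val h
  rw [pw_gE_val] at h0
  have h1 : pw sg7 zW = 1 := congrArg Prod.fst h0
  apply chk_z7
  rw [← enc_pw7, h1]
  exact pone_eqT.symm

end Cfsg.Agent.Lib.Helper7.HSMult
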