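import Cfsg.Agent.Lib.Helper7.M12MultE
import Cfsg.Prelude.Def_KGroupFacts

/-!
# The Schur multiplier of a group isomorphic to the stabilizer of the reference dodecad

The stem extension with kernel of order two and the bound for the kernels are carried along an isomorphism.
-/

set_option autoImplicit false

namespace Cfsg.Agent.Lib.Helper7.M12Mult

open Cfsg Cfsg.Agent.Lib.Helper6.Golay Cfsg.Agent.Lib.Helper6.Golay.M12Out

/-- a finite group of order at most `2` is an image of the cyclic group of order `2` -/
theorem exists_surj_of_card_le_two' {K : Type*} [Group K] [Finite K] (h : Nat.card K ≤ 2) :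
    ∃ π : Multiplicative (ZMod 2) →* K, Function.Surjective π := by
  have hpos : 0 < Nat.card K := Nat.card_pos
  have hc : Nat.card K = 1 ∨ Nat.card K = 2 := by omega
  rcases hc with h1 | h2
  · have hs : Subsingleton K := (Nat.card_eq_one_iff_unique.1 h1).1
    exact ⟨1, fun k => ⟨1, Subsingleton.elim _ _⟩⟩
  · have : Fact (Nat.Prime 2) := ⟨Nat.prime_two⟩
    have hz : Nat.card (Multiplicative (ZMod 2)) = 2 := by
      rw [Nat.card_eq_fintype_card]; rfl
    let e : Multiplicative (ZMod 2) ≃* K := mulEquivOfPrimeCardEq (p := 2) hz h2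
    exact ⟨e.toMonoidHom, e.surjective⟩

theorem ker_comp_equiv {Γ A B : Type*} [Group Γ] [Group A] [Group B] (e : A ≃* B) (σ : Γ →* A) :
    (e.toMonoidHom.comp σ).ker = σ.ker := by
  ext x
  simp only [MonoidHom.mem_ker, MonoidHom.coe_comp, Function.comp_apply, MulEquiv.coe_toMonoidHom]
  exact e.map_eq_one_iff

/-- **the Schur multiplier of a group isomorphic to the stabilizer of the reference dodecad** -/
theorem multiplier_of_equiv {M : Type} [Group M] (e : ↥G ≃* M) : Cfsg.HasCyclicSchurMultiplier M 2 := by
  constructor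
  · have h := stem_GE
    have hfin : Finite ↥GE := inferInstance
    refine ⟨↥GE, inferInstance, hfin, e.toMonoidHom.comp sigE, ⟨?_, ?_, ?_⟩, ?_⟩
    · exact e.surjective.comp h.1.1
    · rw [ker_comp_equiv]; exact h.1.2.1
    · rw [ker_comp_equiv]; exact h.1.2.2
    · rw [ker_comp_equiv]; exact h.2
  · intro Γ _ _ σ hσ
    have hk : (e.symm.toMonoidHom.comp σ).ker = σ.ker := ker_comp_equiv e.symm σ
    have h := card_ker_le (e.symm.toMonoidHom.comp σ) (e.symm.surjective.comp hσ.1)
      (by rw [hk]; exact hσ.2.1) (by rw [hk]; exact hσ.2.2)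
    rw [hk] at h
    exact exists_surj_of_card_le_two' h

end Cfsg.Agent.Lib.Helper7.M12Mult
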