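import Cfsg.Agent.Lib.Helper7.HSMultE
import Cfsg.Agent.Lib.Helper7.HSMultCA
import Cfsg.Agent.Lib.Helper7.M12MultF
import Cfsg.Prelude.Def_KGroupFacts

/-!
# The Schur multiplier of the Higman–Sims group is cyclic of order two

The stem extension with kernel of order two and the bound for the kernels, carried along an isomorphism.
-/

set_option autoImplicit false

namespace Cfsg.Agent.Lib.Helper7.HSMult

open Cfsg Cfsg.Agent.PG Cfsg.Agent.HSP Cfsg.Agent.Lib.Helper7.M12Mult

/-- **a stem extension of the group on the hundred points with kernel of order two** -/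
theorem stem_GE : Cfsg.IsStemExtension sigE ∧ Nonempty (sigE.ker ≃* Multiplicative (ZMod 2)) := by
  have h := stem_E letsP letsE sigE (fun x _ => sigE_gE x) cert_all card_P zE_ne (pw_letP_eq_one chk_zP)
  exact ⟨⟨h.1, h.2.1, h.2.2.1⟩, h.2.2.2⟩

/-- **the Schur multiplier of a group isomorphic to the group on the hundred points** -/
theorem multiplier_of_equivHS {M : Type} [Group M] (e : ↥P ≃* M) : Cfsg.HasCyclicSchurMultiplier M 2 := by
  constructor
  · have h := stem_GE
    have hfin : Finite ↥GE := inferInstance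
    refine ⟨↥GE, inferInstance, hfin, e.toMonoidHom.comp sigE, ⟨?_, ?_, ?_⟩, ?_⟩
    · exact e.surjective.comp h.1.1
    · rw [ker_comp_equiv]; exact h.1.2.1
    · rw [ker_comp_equiv]; exact h.1.2.2
    · rw [ker_comp_equiv]; exact h.2
  · intro Γ _ _ σ hσ
    have hk : (e.symm.toMonoidHom.comp σ).ker = σ.ker := ker_comp_equiv e.symm σ
    have h := card_ker_le_H letsP (e.symm.toMonoidHom.comp σ) (e.symm.surjective.comp hσ.1)
      (by rw [hk]; exact hσ.2.1) (by rw [hk]; exact hσ.2.2) cert_all card_P
    rw [hk] at h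
    exact exists_surj_of_card_le_two' h

end Cfsg.Agent.Lib.Helper7.HSMult
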