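import Cfsg.Agent.Lib.Helper7.M12MultE

/-!
# Pairs of elements that satisfy the standard presentation of the smallest group of Mathieu

Two elements `a ≠ 1`, `b` of a group that satisfy the five relations of the presentation generate a subgroup that is
isomorphic to the presented group: it has order `7920`, it is perfect and it has no proper stem extension.
-/

set_option autoImplicit false

namespace Cfsg.Agent.Lib.Helper7.HSMult

open Cfsg Cfsg.Agent.Lib.Helper6.PGrp Cfsg.Agent.Lib.Helper7.M12Mult Cfsg.Agent.Lib.Helper6.Golay Cfsg.Agent.Lib.Helper6.Golay.M12Out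

universe u

/-- the five relations of the presentation -/
def Atlas {X : Type*} [Group X] (a b : X) : Prop :=
  a ^ 2 = 1 ∧ b ^ 4 = 1 ∧ (a * b) ^ 11 = 1 ∧ (a * b * b) ^ 6 = 1 ∧
    a * b * a * b * a * b⁻¹ * a * b * a * b * b * a * b⁻¹ * a * b * a * b⁻¹ * a * b⁻¹ = 1

section

variable {X : Type*} [Group X] {a b : X}

/-- the images of the two generators -/
def atlasFun (a b : X) : PM11.Gen → X
  | PM11.Gen.a => a
  | PM11.Gen.b => b

set_option linter.unusedSimpArgs false in
theorem atlas_rels (h : Atlas a b) :
    ∀ r ∈ Cfsg.Spor.coxRelators PM11.edges ∪ {r | r ∈ PM11.extra}, FreeGroup.lift (atlasFun a b) r = 1 := by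
  intro r hr
  rcases hr with hr | hr
  · obtain ⟨x, hx, _⟩ := hr
    simp [Cfsg.Spor.coxNodes, PM11.edges] at hx
  · obtain ⟨h0, h1, h2, h3, h4⟩ := h
    simp only [PM11.extra, Set.mem_ofPred_eq, List.mem_cons, List.not_mem_nil, or_false] at hr
    rcases hr with rfl | rfl | rfl | rfl | rfl
    · simp only [PM11.a, PM11.b, map_pow, map_mul, map_inv, FreeGroup.lift_apply_of, atlasFun]
      exact h0
    · simp only [PM11.a, PM11.b, map_pow, map_mul, map_inv, FreeGroup.lift_apply_of, atlasFun]
      exact h1
    · simp only [PM11.a, PM11.b, map_pow, map_mul, map_inv, FreeGroup.lift_apply_of, atlasFun]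
      exact h2
    · simp only [PM11.a, PM11.b, map_pow, map_mul, map_inv, FreeGroup.lift_apply_of, atlasFun]
      exact h3
    · simp only [PM11.a, PM11.b, map_pow, map_mul, map_inv, FreeGroup.lift_apply_of, atlasFun]
      exact h4

/-- the homomorphism from the presented group -/
noncomputable def atlasHom (h : Atlas a b) : PM11 →* X := PresentedGroup.toGroup (atlas_rels h)

theorem atlasHom_a (h : Atlas a b) : atlasHom h (PresentedGroup.of PM11.Gen.a) = a := by
  show PresentedGroup.toGroup (atlas_rels h) (PresentedGroup.of PM11.Gen.a) = a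
  rw [PresentedGroup.toGroup.of]; rfl

theorem atlasHom_b (h : Atlas a b) : atlasHom h (PresentedGroup.of PM11.Gen.b) = b := by
  show PresentedGroup.toGroup (atlas_rels h) (PresentedGroup.of PM11.Gen.b) = b
  rw [PresentedGroup.toGroup.of]; rfl

theorem atlasHom_injective (h : Atlas a b) (ha : a ≠ 1) : Function.Injective (atlasHom h) := by
  have : IsSimpleGroup PM11 := Cfsg.Agent.Lib.Helper6.PM11Simple.main.1
  rw [← MonoidHom.ker_eq_bot_iff]
  rcases ((atlasHom h).normal_ker).eq_bot_or_eq_top with h1 | h1
  · exact h1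
  · exfalso
    have : PresentedGroup.of PM11.Gen.a ∈ (atlasHom h).ker := by rw [h1]; exact Subgroup.mem_top _
    rw [MonoidHom.mem_ker, atlasHom_a] at this
    exact ha this

theorem closure_gen_PM11 :
    Subgroup.closure ({PresentedGroup.of PM11.Gen.a, PresentedGroup.of PM11.Gen.b} : Set PM11) = ⊤ := by
  have h := PresentedGroup.closure_range_of
    (Cfsg.Spor.coxRelators PM11.edges ∪ {r | r ∈ PM11.extra})
  rw [eq_top_iff, ← h, Subgroup.closure_le]
  rintro _ ⟨x, rfl⟩
  cases x
  · exact Subgroup.subset_closure (Set.mem_insert _ _)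
  · exact Subgroup.subset_closure (Set.mem_insert_of_mem _ rfl)

theorem atlasHom_range (h : Atlas a b) : (atlasHom h).range = Subgroup.closure {a, b} := by
  rw [MonoidHom.range_eq_map, ← closure_gen_PM11, MonoidHom.map_closure, Set.image_insert_eq, Set.image_singleton,
    atlasHom_a, atlasHom_b]

/-- the presented group is isomorphic to the subgroup generated by the pair -/
noncomputable def atlasEquiv (h : Atlas a b) (ha : a ≠ 1) : PM11 ≃* ↥(Subgroup.closure ({a, b} : Set X)) :=
  (MonoidHom.ofInjective (atlasHom_injective h ha)).trans (MulEquiv.subgroupCongr (atlasHom_range h))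

theorem card_closure_atlas (h : Atlas a b) (ha : a ≠ 1) :
    Nat.card ↥(Subgroup.closure ({a, b} : Set X)) = 7920 := by
  rw [← Nat.card_congr (atlasEquiv h ha).toEquiv]
  exact Cfsg.Agent.Lib.Helper6.PM11Simple.main.2

theorem card_closure_atlas_le (h : Atlas a b) : Nat.card ↥(Subgroup.closure ({a, b} : Set X)) ≤ 7920 := by
  have : Finite PM11 := Cfsg.Agent.Lib.Helper6.PM11Simple.ub.1
  rw [← atlasHom_range h]
  have h1 := Nat.card_le_card_of_surjective (atlasHom h).rangeRestrict (atlasHom h).rangeRestrict_surjective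
  rw [Cfsg.Agent.Lib.Helper6.PM11Simple.main.2] at h1
  exact h1

end

/-! ### the presented group is perfect and has no proper stem extension -/

/-- the letters of the stabilizer of the first point lie in it -/
theorem letG_mem_St0 (x : ℕ) (hx : x ∈ setA) : letG x ∈ St 0 := by
  have h := chk_sets.1 x hx
  have hs : Function.Surjective (MonoidHom.id ↥Cfsg.Agent.Lib.Helper6.Golay.M12Out.G) := fun g => ⟨g, rfl⟩
  have h1 := gam_mem (MonoidHom.id _) hs x 0 h.1 h.2
  have h2 := Mt_le (MonoidHom.id _) (St 0) h1
  rw [Subgroup.mem_comap, map_gam] at h2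
  exact h2

theorem letG0_ne_one : letG 0 ≠ 1 := by
  intro h
  have h1 := evW_isL [0]
  rw [List.map_cons, List.map_nil, List.prod_cons, List.prod_nil, mul_one, h] at h1
  have h2 : evW [0] = idl :=
    Cfsg.Agent.Lib.Helper6.Golay.M11Out.lfun_injective' h1.1 IsL.one.1 (h1.2.symm.trans IsL.one.2)
  revert h2
  decide

/-- the homomorphism from the presented group to the stabilizer of the dodecad -/
noncomputable def psiM : PM11 →* ↥Cfsg.Agent.Lib.Helper6.Golay.M12Out.G := sigE.comp phiM

theorem psiM_a : psiM (PresentedGroup.of PM11.Gen.a) = letG 0 := by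
  show sigE (PresentedGroup.toGroup hrelsM (PresentedGroup.of PM11.Gen.a)) = letG 0
  rw [PresentedGroup.toGroup.of]; rfl

theorem psiM_b : psiM (PresentedGroup.of PM11.Gen.b) = letG 1 := by
  show sigE (PresentedGroup.toGroup hrelsM (PresentedGroup.of PM11.Gen.b)) = letG 1
  rw [PresentedGroup.toGroup.of]; rfl

theorem psiM_injective : Function.Injective psiM := by
  have : IsSimpleGroup PM11 := Cfsg.Agent.Lib.Helper6.PM11Simple.main.1
  rw [← MonoidHom.ker_eq_bot_iff]
  rcases (psiM.normal_ker).eq_bot_or_eq_top with h1 | h1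
  · exact h1
  · exfalso
    have : PresentedGroup.of PM11.Gen.a ∈ psiM.ker := by rw [h1]; exact Subgroup.mem_top _
    rw [MonoidHom.mem_ker, psiM_a] at this
    exact letG0_ne_one this

theorem psiM_range : psiM.range = St 0 := by
  have hfin : Finite ↥(St 0) := Nat.finite_of_card_ne_zero (by rw [card_St0]; norm_num)
  have hle : psiM.range ≤ St 0 := by
    rw [MonoidHom.range_eq_map, ← closure_gen_PM11, MonoidHom.map_closure, Subgroup.closure_le]
    rintro _ ⟨x, hx, rfl⟩
    rcases hx with rfl | rfl
    · rw [psiM_a]; exact letG_mem_St0 0 (by decide)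
    · rw [psiM_b]; exact letG_mem_St0 1 (by decide)
  apply Subgroup.eq_of_le_of_card_ge hle
  rw [card_St0, ← Cfsg.Agent.Lib.Helper6.PM11Simple.main.2]
  exact le_of_eq (Nat.card_congr (MonoidHom.ofInjective psiM_injective).toEquiv)

/-- the presented group is isomorphic to a point stabilizer -/
noncomputable def pm11Equiv : PM11 ≃* ↥(St 0) :=
  (MonoidHom.ofInjective psiM_injective).trans (MulEquiv.subgroupCongr psiM_range)

theorem MF_PM11 : MF.{u} PM11 := MF.of_equiv pm11Equiv.symm (nice_St0.{u}).2

theorem perfect_PM11 : commutator PM11 = ⊤ := perfect_of_equiv pm11Equiv.symm (nice_St0.{0}).1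

/-- the subgroup generated by a pair that satisfies the presentation is perfect and has no proper stem extension -/
theorem nice_closure_atlas {X : Type} [Group X] {a b : X} (h : Atlas a b) (ha : a ≠ 1) :
    commutator ↥(Subgroup.closure ({a, b} : Set X)) = ⊤ ∧ MF.{u} ↥(Subgroup.closure ({a, b} : Set X)) :=
  ⟨perfect_of_equiv (atlasEquiv h ha) perfect_PM11, MF.of_equiv (atlasEquiv h ha) MF_PM11⟩

end Cfsg.Agent.Lib.Helper7.HSMult
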