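import Cfsg.Agent.Lib.Helper7.HSMultC
import Cfsg.Agent.Lib.Helper7.HSMultDat
import Cfsg.Agent.Lib.Helper7.HSMultP

/-!
# The multiplier of the Higman–Sims group: the hexagon of six subgroups, abstractly

Nine letters `t, t⁻¹, s, c0, …, c5` of a group; for every `v` modulo six the letters `t, t⁻¹, s, c(v-1), c(v), c(v+1)`
lie in a subgroup generated by a pair that satisfies the standard presentation of the smallest group of Mathieu.
This file contains what can be said about such letters without knowing the group: the subgroups, the membership of the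
letters, the words of the certificate.
-/

set_option autoImplicit false
set_option maxRecDepth 100000

namespace Cfsg.Agent.Lib.Helper7.HSMult

open Cfsg Cfsg.Agent.Lib.Helper7.M12Mult

/-! ### the data -/

/-- the letters of the six subgroups -/
def LQ (v x : ℕ) : Bool :=
  Nat.blt x 3 || Nat.beq x (3 + (v + 5) % 6) || Nat.beq x (3 + v) || Nat.beq x (3 + (v + 1) % 6)

/-- the inverse of a word -/
def invW (w : List ℕ) : List ℕ := (w.reverse).map ivL

/-- the second generator of a subgroup as a word -/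
def bW (v : ℕ) : List ℕ := atlB.getD v []

/-- the word in the letters that belongs to a word in the two generators and the inverse of the second -/
def expand (v : ℕ) : List ℕ → List ℕ
  | [] => []
  | c :: w => (if c = 0 then [2] else if c = 1 then bW v else invW (bW v)) ++ expand v w

/-- the five words of the standard presentation, with `2` for the inverse of the second generator -/
def atlasW : List (List ℕ) := [[0, 0], [1, 1, 1, 1],
  [0, 1, 0, 1, 0, 1, 0, 1, 0, 1, 0, 1, 0, 1, 0, 1, 0, 1, 0, 1, 0, 1],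
  [0, 1, 1, 0, 1, 1, 0, 1, 1, 0, 1, 1, 0, 1, 1, 0, 1, 1],
  [0, 1, 0, 1, 0, 2, 0, 1, 0, 1, 1, 0, 2, 0, 1, 0, 2, 0, 2]]

/-- the index of a word that is only known to be central -/
def isCls (i : ℕ) : Bool := Nat.beq i ci0 || Nat.beq i ci1 || Nat.beq i ci2

/-- the letters of a word lie in one of the six subgroups -/
noncomputable def relV (i v : ℕ) : Bool := strictL (wordOf i) fun w => w.all fun x => LQ v x

/-- the subgroup of a word -/
noncomputable def relQ (i : ℕ) : ℕ :=
  cond (relV i 0) 0 (cond (relV i 1) 1 (cond (relV i 2) 2 (cond (relV i 3) 3 (cond (relV i 4) 4 5))))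

theorem chk_bW : ∀ v < 6, ∀ x ∈ bW v, x < 9 ∧ LQ v x = true := by decide

theorem chk_ivL : ∀ x < 9, ivL x < 9 ∧ ivL (ivL x) = x ∧ ∀ v < 6, LQ v x = true → LQ v (ivL x) = true := by decide

theorem chk_LQ : ∀ x < 9, ∃ v < 6, LQ v x = true := by decide

theorem chk_letW : ∀ v < 6, ∀ x < 9, LQ v x = true → ∃ p ∈ letW.getD v [], p.1 = x := by decide

theorem chk_relV : ∀ i < 1024, isCls i = true ∨ (relQ i < 6 ∧ relV i (relQ i) = true) := by decide +kernel

theorem chk_cls : ∀ i < 1024, ∀ x ∈ wordOf i, x < 9 := by decide +kernel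

theorem chk_ci : ci0 < 1024 ∧ ci1 < 1024 ∧ ci2 < 1024 ∧ ci0 ≠ ci1 ∧ ci0 ≠ ci2 ∧ ci1 ≠ ci2 := by decide

theorem relP_shift : relP >>> 65536 = 0 := by decide +kernel

theorem wordOf_of_ge {i : ℕ} (hi : 1024 ≤ i) : wordOf i = [] := by
  have h1 : Nat.shiftRight relP (Nat.mul 64 i) = 0 := by
    show relP >>> (64 * i) = 0
    have e : 64 * i = 65536 + (64 * i - 65536) := by omega
    rw [e, Nat.shiftRight_add, relP_shift, Nat.zero_shiftRight]
  rw [wordOf, strictN_eq, h1]
  rfl

theorem isCls_iff {i : ℕ} : isCls i = true ↔ i = ci0 ∨ i = ci1 ∨ i = ci2 := by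
  unfold isCls
  rw [Bool.or_eq_true, Bool.or_eq_true, Nat.beq_eq, Nat.beq_eq, Nat.beq_eq, or_assoc]

/-! ### the letters of a group -/

section letters

variable {X : Type*} [Group X] (ℓ : ℕ → X)

/-- the product of the letters of a word -/
def pw (w : List ℕ) : X := (w.map ℓ).prod

theorem pw_nil : pw ℓ [] = 1 := rfl

theorem pw_cons (x : ℕ) (w : List ℕ) : pw ℓ (x :: w) = ℓ x * pw ℓ w := by
  rw [pw, List.map_cons, List.prod_cons]; rfl

theorem pw_append (w w' : List ℕ) : pw ℓ (w ++ w') = pw ℓ w * pw ℓ w' := by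
  rw [pw, List.map_append, List.prod_append]; rfl

/-- the six subgroups -/
def Qs (v : ℕ) : Subgroup X := Subgroup.closure {ℓ 2, pw ℓ (bW v)}

/-- the value of a word in the two generators and the inverse of the second -/
def abw (a b : X) : List ℕ → X
  | [] => 1
  | c :: w => (if c = 0 then a else if c = 1 then b else b⁻¹) * abw a b w

theorem abw_mem (a b : X) : ∀ w : List ℕ, abw a b w ∈ Subgroup.closure ({a, b} : Set X)
  | [] => one_mem _
  | c :: w => by
    rw [abw]
    refine mul_mem ?_ (abw_mem a b w)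
    split_ifs
    · exact Subgroup.subset_closure (Set.mem_insert _ _)
    · exact Subgroup.subset_closure (Set.mem_insert_of_mem _ rfl)
    · exact inv_mem (Subgroup.subset_closure (Set.mem_insert_of_mem _ rfl))

/-- the hypotheses that the two sides have in common: the inverses, the presentations of the six subgroups, the
letters in the six subgroups, the three central words -/
structure Lets : Prop where
  iv : ∀ x < 9, ℓ (ivL x) = (ℓ x)⁻¹
  atl : ∀ v < 6, ∀ w ∈ atlasW, pw ℓ (expand v w) = 1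
  mem : ∀ v < 6, ∀ p ∈ letW.getD v [], ℓ p.1 = pw ℓ (expand v p.2)
  cls : ∀ i, isCls i = true → pw ℓ (wordOf i) = 1
  gen : Subgroup.closure (ℓ '' Set.Iio 9) = ⊤

variable {ℓ}

theorem Lets.pw_invW (h : Lets ℓ) (w : List ℕ) (hw : ∀ x ∈ w, x < 9) : pw ℓ (invW w) = (pw ℓ w)⁻¹ :=
  prod_map_reverse_iv ℓ 9 ivL (fun x hx => ⟨(chk_ivL x hx).1, h.iv x hx⟩) w hw

theorem Lets.pw_expand (h : Lets ℓ) {v : ℕ} (hv : v < 6) :
    ∀ w : List ℕ, pw ℓ (expand v w) = abw (ℓ 2) (pw ℓ (bW v)) w
  | [] => rfl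
  | c :: w => by
    rw [expand, pw_append, abw, h.pw_expand hv w]
    congr 1
    split_ifs
    · rw [pw_cons, pw_nil, mul_one]
    · rfl
    · exact h.pw_invW _ fun x hx => (chk_bW v hv x hx).1

theorem Lets.atlas (h : Lets ℓ) {v : ℕ} (hv : v < 6) : Atlas (ℓ 2) (pw ℓ (bW v)) := by
  have h0 := h.atl v hv [0, 0] (by simp [atlasW])
  have h1 := h.atl v hv [1, 1, 1, 1] (by simp [atlasW])
  have h2 := h.atl v hv [0, 1, 0, 1, 0, 1, 0, 1, 0, 1, 0, 1, 0, 1, 0, 1, 0, 1, 0, 1, 0, 1] (by simp [atlasW])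
  have h3 := h.atl v hv [0, 1, 1, 0, 1, 1, 0, 1, 1, 0, 1, 1, 0, 1, 1, 0, 1, 1] (by simp [atlasW])
  have h4 := h.atl v hv [0, 1, 0, 1, 0, 2, 0, 1, 0, 1, 1, 0, 2, 0, 1, 0, 2, 0, 2] (by simp [atlasW])
  rw [h.pw_expand hv] at h0 h1 h2 h3 h4
  simp only [abw, if_true, if_false, one_ne_zero, OfNat.ofNat_ne_zero, OfNat.ofNat_ne_one, mul_one] at h0 h1 h2 h3 h4
  refine ⟨?_, ?_, ?_, ?_, ?_⟩
  · rw [← h0]; simp only [pow_succ, pow_zero, one_mul]
  · rw [← h1]; simp only [pow_succ, pow_zero, one_mul, mul_assoc]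
  · rw [← h2]; simp only [pow_succ, pow_zero, one_mul, mul_assoc]
  · rw [← h3]; simp only [pow_succ, pow_zero, one_mul, mul_assoc]
  · rw [← h4]; simp only [mul_assoc]

/-- the letters of a subgroup lie in it -/
theorem Lets.mem_Qs (h : Lets ℓ) {v x : ℕ} (hv : v < 6) (hx : x < 9) (hL : LQ v x = true) : ℓ x ∈ Qs ℓ v := by
  obtain ⟨p, hp, rfl⟩ := chk_letW v hv x hx hL
  rw [h.mem v hv p hp, h.pw_expand hv]
  exact abw_mem _ _ _

theorem Lets.pw_mem_Qs (h : Lets ℓ) {v : ℕ} (hv : v < 6) {w : List ℕ} (hw : ∀ x ∈ w, x < 9 ∧ LQ v x = true) :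
    pw ℓ w ∈ Qs ℓ v :=
  Subgroup.list_prod_mem _ fun z hz => by
    obtain ⟨x, hx, rfl⟩ := List.mem_map.1 hz
    exact h.mem_Qs hv (hw x hx).1 (hw x hx).2

theorem Lets.card_Qs_le (h : Lets ℓ) {v : ℕ} (hv : v < 6) : Nat.card ↥(Qs ℓ v) ≤ 7920 :=
  card_closure_atlas_le (h.atlas hv)

theorem Lets.exists_word (h : Lets ℓ) (z : X) : ∃ u : List ℕ, (∀ x ∈ u, x < 9) ∧ z = (u.map ℓ).prod :=
  exists_word_of_closure ℓ 9 ivL (fun x hx => ⟨(chk_ivL x hx).1, h.iv x hx⟩) h.gen z

/-- the letters of a word that is not one of the three lie in one subgroup -/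
theorem word_cases {i : ℕ} (hi : i < 1024) (hc : isCls i = false) :
    ∃ v < 6, ∀ x ∈ wordOf i, x < 9 ∧ LQ v x = true := by
  rcases chk_relV i hi with h | h
  · rw [hc] at h; exact absurd h (by simp)
  · refine ⟨relQ i, h.1, fun x hx => ⟨chk_cls i hi x hx, ?_⟩⟩
    have h2 := h.2
    rw [relV, strictL_eq, List.all_eq_true] at h2
    exact h2 x hx

end letters

end Cfsg.Agent.Lib.Helper7.HSMult
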