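import Mathlib
import Cfsg.Prelude.Def_FusionSystem
import Cfsg.Prelude.Def_FusionComponents
import Cfsg.Agent.Lib.Helper7.FactorHyperfocal
import Cfsg.Agent.Lib.Helper7.CharP

set_option autoImplicit false

namespace Cfsg.Agent.Lib.Helper7

open Cfsg Cfsg.FusionSystem

variable {Ω : Type*} [Group Ω] {S : Subgroup Ω} {Ω' : Type*} [Group Ω'] {S' : Subgroup Ω'}

/-- Automorphisms of `P` stabilizing `T`. -/
def stabSub (P T : Subgroup Ω) : Subgroup (MulAut P) where
  carrier := {α | ∀ x : P, (x : Ω) ∈ T ↔ ((α x : P) : Ω) ∈ T}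
  one_mem' := fun x => Iff.rfl
  mul_mem' := by
    intro a b ha hb x
    exact (hb x).trans (ha (b x))
  inv_mem' := by
    intro a ha x
    have := ha (a⁻¹ x)
    rw [MulAut.apply_inv_self] at this
    exact this.symm

/-- Restriction to `T ≤ P` of the automorphisms of `P` stabilizing `T`. -/
def resSub {P T : Subgroup Ω} (hTP : T ≤ P) : ↥(stabSub P T) →* MulAut T where
  toFun α :=
    { toFun := fun x => ⟨((α : MulAut P) (Subgroup.inclusion hTP x) : Ω), (α.2 _).mp x.2⟩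
      invFun := fun x => ⟨((α : MulAut P)⁻¹ (Subgroup.inclusion hTP x) : Ω),
        (((stabSub P T).inv_mem α.2) _).mp x.2⟩
      left_inv := fun x => by
        apply Subtype.ext
        show (((α : MulAut P)⁻¹ ((α : MulAut P) (Subgroup.inclusion hTP x)) : P) : Ω) = x
        rw [MulAut.inv_apply_self]; rfl
      right_inv := fun x => by
        apply Subtype.ext
        show (((α : MulAut P) ((α : MulAut P)⁻¹ (Subgroup.inclusion hTP x)) : P) : Ω) = x
        rw [MulAut.apply_inv_self]; rfl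
      map_mul' := fun x y => by
        apply Subtype.ext
        show (((α : MulAut P) (Subgroup.inclusion hTP (x * y)) : P) : Ω) =
          ((α : MulAut P) (Subgroup.inclusion hTP x) : P) *
          ((α : MulAut P) (Subgroup.inclusion hTP y) : P)
        rw [map_mul, map_mul]; rfl }
  map_one' := by ext x; rfl
  map_mul' := fun α β => by
    ext x
    rfl

theorem resSub_apply {P T : Subgroup Ω} (hTP : T ≤ P) (α : ↥(stabSub P T)) (x : T) :
    ((resSub hTP α x : T) : Ω) = ((α : MulAut P) (Subgroup.inclusion hTP x) : P) := rfl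

/-- The part of the hyperfocal subgroup coming from subgroups containing `T`. -/
def hypAbove (F : FusionSystem S) (p : ℕ) (T : Subgroup Ω) : Subgroup Ω :=
  Subgroup.closure {y : Ω | ∃ (P : Subgroup Ω) (α : F.autGroup P) (x : P), P ≤ S ∧ T ≤ P ∧
    α ∈ pResidual p (F.autGroup P) ∧ y = (x : Ω)⁻¹ * ((α : MulAut P) x : P)}

theorem hypAbove_le (F : FusionSystem S) (p : ℕ) (T : Subgroup Ω) : hypAbove F p T ≤ S := by
  unfold hypAbove
  rw [Subgroup.closure_le]
  rintro _ ⟨P, α, x, hPS, -, -, rfl⟩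
  exact S.mul_mem (S.inv_mem (hPS x.2)) (hPS ((α : MulAut P) x).2)

theorem factor_hyperfocal_le_map_hypAbove [Finite S] (p : ℕ) [Fact p.Prime]
    (F : FusionSystem S) (T : Subgroup Ω) (hT : F.StronglyClosed T)
    (θ : S →* Ω') (E : FusionSystem S') (hE : F.IsFactorSystem T θ E) :
    E.hyperfocalSubgroup p ≤ ((hypAbove F p T).subgroupOf S).map θ := by
  have hker := hE.2.1
  have hrange := hE.2.2.1
  have hθ : ∀ s : S, θ s ∈ S' := fun s => hrange ▸ ⟨s, rfl⟩
  unfold FusionSystem.hyperfocalSubgroup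
  rw [Subgroup.closure_le]
  rintro _ ⟨P', α', x', hP'S', hα', rfl⟩
  have hP'r : P' ≤ θ.range := hrange ▸ hP'S'
  obtain ⟨P, hPS, h0, rfl⟩ : ∃ P, P ≤ S ∧ T ≤ P ∧ imageAlong θ P = P' := by
    refine ⟨preimageAlong θ P', preimageAlong_le θ P', ?_, image_preimage_eq θ hP'r⟩
    intro z hz
    refine (mem_preimageAlong θ P' z).mpr ⟨hT.1 hz, ?_⟩
    rw [(hker ⟨z, hT.1 hz⟩).mpr hz]
    exact P'.one_mem
  haveI := finite_of_le hPS
  haveI : Finite (MulAut P) := inferInstance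
  have hA := autGroup_preserves_ker F T hT θ hker hPS
  let Φ := indHom θ hPS (F.autGroup P) hA
  have hΦ : ∀ β : F.autGroup P, Φ β ∈ E.autGroup (imageAlong θ P) := fun β =>
    indAut_mem_autGroup F T θ E hE hPS h0 β.2 (indHom_spec θ hPS _ hA β)
  let f : F.autGroup P →* E.autGroup (imageAlong θ P) := Φ.codRestrict _ hΦ
  have hf : Function.Surjective f := by
    intro β'
    obtain ⟨β, hβ, hind⟩ := exists_aut_of_indAut F T θ E hE hPS h0 β'.2
    refine ⟨⟨β, hβ⟩, Subtype.ext ?_⟩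
    exact IndAut.unique (indHom_spec θ hPS _ hA ⟨β, hβ⟩) hind
  obtain ⟨γ, hγ, rfl⟩ := pResidual_le_map_of_surjective p f hf hα'
  obtain ⟨x, rfl⟩ := imageHom_surjective θ hPS x'
  have hspec := indHom_spec θ hPS _ hA γ x
  have hy : (x : Ω)⁻¹ * (((γ : MulAut P) x : P) : Ω) ∈ hypAbove F p T :=
    Subgroup.subset_closure ⟨P, γ, x, hPS, h0, hγ, rfl⟩
  have hyS : (x : Ω)⁻¹ * (((γ : MulAut P) x : P) : Ω) ∈ S :=
    S.mul_mem (S.inv_mem (hPS x.2)) (hPS ((γ : MulAut P) x).2)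
  refine ⟨⟨_, hyS⟩, Subgroup.mem_subgroupOf.mpr hy, ?_⟩
  have e1 : (⟨(x : Ω)⁻¹ * (((γ : MulAut P) x : P) : Ω), hyS⟩ : S) =
      ⟨x, hPS x.2⟩⁻¹ * ⟨((γ : MulAut P) x : P), hPS ((γ : MulAut P) x).2⟩ := rfl
  rw [e1, map_mul, map_inv]
  have h2 := congrArg Subtype.val hspec
  show _ = ((imageHom θ hPS x : imageAlong θ P) : Ω')⁻¹ * (((f γ : MulAut (imageAlong θ P)) (imageHom θ hPS x) : imageAlong θ P) : Ω')
  rw [imageHom_coe]
  congr 1
  exact h2.symm

theorem hyperfocal_le_hypAbove_sup [Finite S] (p : ℕ) [Fact p.Prime] (hS : IsPGroup p S)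
    (F : FusionSystem S) (hF : F.IsSaturated p) (T : Subgroup Ω) (hT : F.StronglyClosed T) :
    F.hyperfocalSubgroup p ≤ hypAbove F p T ⊔ T := by
  haveI : (T.subgroupOf S).Normal :=
    (Subgroup.normal_subgroupOf_iff_le_normalizer hT.1).mpr (le_normalizer_of_stronglyClosed F hT)
  obtain ⟨E, hE⟩ := exists_factorSystem_quotient F T hT
  have h1 := hyperfocal_factor p hS F hF T hT _ E hE
  have h2 := factor_hyperfocal_le_map_hypAbove p F T hT _ E hE
  have hker := hE.2.1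
  intro y hy
  have hyS : y ∈ S := hyperfocalSubgroup_le F p hy
  have h3 : QuotientGroup.mk' (T.subgroupOf S) ⟨y, hyS⟩ ∈ E.hyperfocalSubgroup p := by
    rw [h1]
    exact ⟨⟨y, hyS⟩, Subgroup.mem_subgroupOf.mpr hy, rfl⟩
  obtain ⟨z, hz, hzy⟩ := h2 h3
  have hz' : (z : Ω) ∈ hypAbove F p T := Subgroup.mem_subgroupOf.mp hz
  have h4 : QuotientGroup.mk' (T.subgroupOf S) (z⁻¹ * ⟨y, hyS⟩) = 1 := by
    rw [map_mul, map_inv, hzy]; group
  have h5 : ((z⁻¹ * ⟨y, hyS⟩ : S) : Ω) ∈ T := (hker _).mp h4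
  have h6 : y = (z : Ω) * ((z⁻¹ * ⟨y, hyS⟩ : S) : Ω) := by
    show y = (z : Ω) * ((z : Ω)⁻¹ * y)
    group
  rw [h6]
  exact Subgroup.mul_mem _ (Subgroup.mem_sup_left hz') (Subgroup.mem_sup_right h5)


theorem hyperfocal_acts_on_stronglyClosed [Finite S] (p : ℕ) [Fact p.Prime] (hS : IsPGroup p S)
    (F : FusionSystem S) (hF : F.IsSaturated p) (T : Subgroup Ω) (hT : F.StronglyClosed T) :
    ∀ x ∈ F.hyperfocalSubgroup p,
      ∃ α ∈ ((Cfsg.pResidual p ↥(F.autGroup T)).map (F.autGroup T).subtype ⊔ Cfsg.Inn ↥T :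
        Subgroup (MulAut ↥T)), ∀ t : ↥T, ((α t : ↥T) : Ω) = x * (t : Ω) * x⁻¹ := by
  have hTS : T ≤ S := hT.1
  have hSN : S ≤ Subgroup.normalizer (T : Set Ω) := le_normalizer_of_stronglyClosed F hT
  set B : Subgroup (MulAut ↥T) :=
    (Cfsg.pResidual p ↥(F.autGroup T)).map (F.autGroup T).subtype ⊔ Cfsg.Inn ↥T with hB
  let X : Subgroup Ω :=
    { carrier := {y | ∃ α ∈ B, ∀ t : ↥T, ((α t : ↥T) : Ω) = y * (t : Ω) * y⁻¹}
      one_mem' := ⟨1, B.one_mem, fun t => by simp⟩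
      mul_mem' := by
        rintro a b ⟨α, hα, hαe⟩ ⟨β, hβ, hβe⟩
        refine ⟨α * β, B.mul_mem hα hβ, fun t => ?_⟩
        rw [MulAut.mul_apply, hαe, hβe]; group
      inv_mem' := by
        rintro a ⟨α, hα, hαe⟩
        refine ⟨α⁻¹, B.inv_mem hα, fun t => ?_⟩
        have := hαe (α⁻¹ t)
        rw [MulAut.apply_inv_self] at this
        rw [this]; group }
  have hTX : T ≤ X := by
    intro y hy
    refine ⟨MulAut.conj ⟨y, hy⟩, Subgroup.mem_sup_right ⟨⟨y, hy⟩, rfl⟩, fun t => ?_⟩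
    simp [MulAut.conj_apply]
  have hHX : hypAbove F p T ≤ X := by
    unfold hypAbove
    rw [Subgroup.closure_le]
    rintro _ ⟨P, γ, x, hPS, hTP, hγ, rfl⟩
    have hstab : F.autGroup P ≤ stabSub P T := by
      intro β hβ z
      constructor
      · intro hz
        exact autGroup_apply_mem_of_stronglyClosed F hT hPS β hβ z hz
      · intro hz
        have := autGroup_apply_mem_of_stronglyClosed F hT hPS β⁻¹ (Subgroup.inv_mem _ hβ) (β z) hz
        rwa [MulAut.inv_apply_self] at this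
    have hρmem : ∀ β : F.autGroup P,
        ((resSub hTP).comp (Subgroup.inclusion hstab)) β ∈ F.autGroup T := by
      intro β
      rw [mem_autGroup_iff F hTS]
      exact fs_restrict_mem F hTP ((mem_autGroup_iff F hPS _).mp β.2)
    set ρ : F.autGroup P →* F.autGroup T :=
      ((resSub hTP).comp (Subgroup.inclusion hstab)).codRestrict (F.autGroup T) hρmem with hρ
    have hρe : ∀ (β : F.autGroup P) (t : T),
        (((ρ β : MulAut T) t : T) : Ω) = ((β : MulAut P) (Subgroup.inclusion hTP t) : P) :=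
      fun β t => rfl
    have hργ : ρ γ ∈ Cfsg.pResidual p (F.autGroup T) := pResidual_map_le p ρ ⟨γ, hγ, rfl⟩
    have hxS : (x : Ω) ∈ S := hPS x.2
    have hxN : (x : Ω) ∈ Subgroup.normalizer (T : Set Ω) := hSN hxS
    set cx : F.autGroup T := ⟨T.normalizerMonoidHom ⟨x, hxN⟩,
      autInducedBy_le_autGroup F hTS ((mem_autInducedBy_iff S T _).mpr ⟨x, hxS, fun t => rfl⟩)⟩
      with hcx
    have hcxe : ∀ t : T, (((cx : MulAut T) t : T) : Ω) = x * t * (x : Ω)⁻¹ := fun t => rfl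
    have hcxinv : ∀ t : T, ((((cx : MulAut T)⁻¹) t : T) : Ω) = (x : Ω)⁻¹ * t * x := by
      intro t
      have := hcxe ((cx : MulAut T)⁻¹ t)
      rw [MulAut.apply_inv_self] at this
      rw [this]; group
    have hn := pResidual_normal p (F.autGroup T)
    have hαmem : cx⁻¹ * ρ γ * cx * (ρ γ)⁻¹ ∈ Cfsg.pResidual p (F.autGroup T) := by
      have h1 := hn.conj_mem (ρ γ) hργ cx⁻¹
      rw [inv_inv] at h1
      exact Subgroup.mul_mem _ h1 (Subgroup.inv_mem _ hργ)
    refine ⟨((cx⁻¹ * ρ γ * cx * (ρ γ)⁻¹ : F.autGroup T) : MulAut T),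
      Subgroup.mem_sup_left ⟨_, hαmem, rfl⟩, fun t => ?_⟩
    set u : T := ((ρ γ : MulAut T)⁻¹ t) with hu
    have hut : (ρ γ : MulAut T) u = t := by rw [hu, MulAut.apply_inv_self]
    have hcoe : ((cx⁻¹ * ρ γ * cx * (ρ γ)⁻¹ : F.autGroup T) : MulAut T) t =
        (cx : MulAut T)⁻¹ ((ρ γ : MulAut T) ((cx : MulAut T) u)) := rfl
    rw [hcoe, hcxinv, hρe]
    have e1 : Subgroup.inclusion hTP ((cx : MulAut T) u) =
        x * Subgroup.inclusion hTP u * x⁻¹ := Subtype.ext (hcxe u)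
    rw [e1, map_mul, map_mul, map_inv]
    have e2 : (((γ : MulAut P) (Subgroup.inclusion hTP u) : P) : Ω) = t := by
      rw [← hρe, hut]
    show (x : Ω)⁻¹ * ((((γ : MulAut P) x : P) : Ω) *
      (((γ : MulAut P) (Subgroup.inclusion hTP u) : P) : Ω) * (((γ : MulAut P) x : P) : Ω)⁻¹) * x = _
    rw [e2]
    group
  intro x hx
  have := hyperfocal_le_hypAbove_sup p hS F hF T hT hx
  exact (sup_le hHX hTX) this

end Cfsg.Agent.Lib.Helper7
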