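import Mathlib
import Cfsg.Prelude.Def_ConjugacyFunctors
import Cfsg.Agent.Lib.Helper4.GTSec
import Cfsg.Agent.H1.PGroup

set_option autoImplicit false
set_option linter.style.haveILetI false
set_option linter.unusedVariables false
set_option linter.unusedSectionVars false

open scoped commutatorElement

namespace Cfsg.Agent.Lib.Helper7.IdxP

open Cfsg Cfsg.Agent.Lib.Helper4.GT Cfsg.Agent.Lib.Helper4.GT2 Cfsg.Agent.Lib.Helper4.GTSec

universe u

variable {p : ℕ}

/-- having a normal subgroup of index `p` -/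
def HasIdx (p : ℕ) (X : Type*) [Group X] : Prop := ∃ N : Subgroup X, N.Normal ∧ N.index = p

theorem hasIdx_of_surjective {X Q : Type*} [Group X] [Group Q] (f : X →* Q)
    (hf : Function.Surjective f) (h : HasIdx p Q) : HasIdx p X := by
  obtain ⟨N, hN, hi⟩ := h
  exact ⟨N.comap f, hN.comap f, by rw [Subgroup.index_comap_of_surjective N hf, hi]⟩

theorem hasIdx_of_pgroup [Fact p.Prime] {Q : Type*} [Group Q] [Finite Q] [Nontrivial Q]
    (hQ : IsPGroup p Q) : HasIdx p Q := by
  obtain ⟨M, hM, -⟩ := (eq_top_or_exists_le_coatom (⊥ : Subgroup Q)).resolve_left bot_ne_top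
  exact ⟨M, Cfsg.Agent.H1.coatom_normal_index_of_pgroup hQ M hM⟩

/-- a nontrivial normal Sylow `p`-subgroup centralized by all `p'`-elements gives a quotient of order `p` -/
theorem hasIdx_of_normal_sylow [Fact p.Prime] {X : Type*} [Group X] [Finite X] (P : Sylow p X)
    [hPn : (P : Subgroup X).Normal] (hP : (P : Subgroup X) ≠ ⊥)
    (hc : ∀ g : X, (orderOf g).Coprime p → g ∈ Subgroup.centralizer ((P : Subgroup X) : Set X)) :
    HasIdx p X := by
  obtain ⟨K, hK⟩ := Subgroup.exists_right_complement'_of_coprime (N := (P : Subgroup X))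
    P.card_coprime_index
  have hKc : K ≤ Subgroup.centralizer ((P : Subgroup X) : Set X) := by
    intro k hk
    apply hc
    have h1 : orderOf k ∣ Nat.card K := by
      have := orderOf_dvd_natCard (⟨k, hk⟩ : K)
      rwa [Subgroup.orderOf_mk] at this
    have h2 : Nat.card K = (P : Subgroup X).index := hK.symm.index_eq_card.symm
    rw [h2] at h1
    have h3 : ¬ p ∣ (P : Subgroup X).index := P.not_dvd_index
    exact Nat.Coprime.coprime_dvd_left h1 ((Nat.Prime.coprime_iff_not_dvd Fact.out).mpr h3).symm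
  have hKn : K.Normal := by
    rw [← Subgroup.normalizer_eq_top_iff, eq_top_iff, ← hK.sup_eq_top]
    refine sup_le ?_ Subgroup.le_normalizer
    intro x hx
    have h1 : x ∈ Subgroup.centralizer (K : Set X) := by
      rw [Subgroup.mem_centralizer_iff]
      intro k hk
      exact ((Subgroup.mem_centralizer_iff.mp (hKc hk)) x hx).symm
    exact Subgroup.centralizer_le_normalizer _ h1
  haveI := hKn
  obtain ⟨n, hn⟩ := P.isPGroup'.exists_card_eq
  have hcard : Nat.card (X ⧸ K) = p ^ n := by
    rw [← Subgroup.index_eq_card, hK.index_eq_card, hn]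
  have hQ : IsPGroup p (X ⧸ K) := IsPGroup.of_card hcard
  haveI : Nontrivial (X ⧸ K) := by
    rw [← Finite.one_lt_card_iff_nontrivial, hcard, ← hn]
    exact (Subgroup.one_lt_card_iff_ne_bot _).mpr hP
  exact hasIdx_of_surjective (QuotientGroup.mk' K) (QuotientGroup.mk'_surjective K) (hasIdx_of_pgroup hQ)

theorem hasIdx_of_not_le_commutator [Fact p.Prime] {X : Type*} [Group X] [Finite X] (T : Sylow p X)
    (h : ¬ (T : Subgroup X) ≤ commutator X) : HasIdx p X := by
  have hf : Function.Surjective (Abelianization.of : X →* Abelianization X) :=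
    QuotientGroup.mk_surjective
  refine hasIdx_of_surjective Abelianization.of hf ?_
  haveI : ((T.mapSurjective hf : Sylow p (Abelianization X)) : Subgroup (Abelianization X)).Normal :=
    Subgroup.normal_of_isMulCommutative _
  refine hasIdx_of_normal_sylow (T.mapSurjective hf) ?_ ?_
  · rw [Sylow.coe_mapSurjective]
    intro h0
    apply h
    rw [Subgroup.map_eq_bot_iff] at h0
    rwa [Abelianization.ker_of] at h0
  · intro g _
    rw [Subgroup.mem_centralizer_iff]
    intro y _
    exact mul_comm _ _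

theorem exists_lift_coprime [Fact p.Prime] {X Y : Type*} [Group X] [Group Y] [Finite X] (f : X →* Y)
    (hf : Function.Surjective f) (y : Y) (hy : (orderOf y).Coprime p) :
    ∃ x : X, f x = y ∧ (orderOf x).Coprime p := by
  obtain ⟨x₀, rfl⟩ := hf y
  have hpos : orderOf x₀ ≠ 0 := (orderOf_pos x₀).ne'
  obtain ⟨a, m, hm, hnm⟩ := Nat.exists_eq_pow_mul_and_not_dvd hpos p (Nat.Prime.ne_one Fact.out)
  have hmcop : Nat.Coprime m p := ((Nat.Prime.coprime_iff_not_dvd Fact.out).mpr hm).symm
  have hdvd : orderOf (f x₀) ∣ m := by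
    have h1 : orderOf (f x₀) ∣ p ^ a * m := hnm ▸ orderOf_map_dvd f x₀
    exact Nat.Coprime.dvd_of_dvd_mul_left (Nat.Coprime.pow_right a hy) h1
  by_cases hm1 : m = 1
  · refine ⟨1, ?_, by simp⟩
    rw [hm1, Nat.dvd_one, orderOf_eq_one_iff] at hdvd
    rw [map_one, hdvd]
  · have hmpos : 0 < m := Nat.pos_of_ne_zero (fun h => by rw [h, mul_zero] at hnm; exact hpos hnm)
    have hlt : 1 < m := by omega
    obtain ⟨u, -, hu⟩ := Nat.exists_mul_mod_eq_one_of_coprime
      (Nat.Coprime.pow_left a hmcop.symm) hlt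
    refine ⟨x₀ ^ (p ^ a * u), ?_, ?_⟩
    · rw [map_pow]
      have h1 : (f x₀) ^ (p ^ a * u) = (f x₀) ^ ((p ^ a * u) % m) := by
        conv_lhs => rw [← Nat.div_add_mod (p ^ a * u) m, pow_add, pow_mul]
        rw [orderOf_dvd_iff_pow_eq_one.mp hdvd, one_pow, one_mul]
      rw [h1, hu, pow_one]
    · have h2 : (x₀ ^ (p ^ a * u)) ^ m = 1 := by
        rw [← pow_mul, mul_right_comm, ← hnm, pow_mul, pow_orderOf_eq_one, one_pow]
      exact Nat.Coprime.coprime_dvd_left (orderOf_dvd_of_pow_eq_one h2) hmcop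

/-- the hypothesis "`p'`-elements of `N(T)` centralize `T`" does not depend on the Sylow subgroup `T` -/
theorem hN_of_sylow [Fact p.Prime] {X : Type*} [Group X] [Finite X] (T T' : Sylow p X)
    (hN : ∀ g ∈ Subgroup.normalizer ((T : Subgroup X) : Set X), (orderOf g).Coprime p →
      g ∈ Subgroup.centralizer ((T : Subgroup X) : Set X)) :
    ∀ g ∈ Subgroup.normalizer ((T' : Subgroup X) : Set X), (orderOf g).Coprime p →
      g ∈ Subgroup.centralizer ((T' : Subgroup X) : Set X) := by
  obtain ⟨c, hc⟩ := MulAction.exists_smul_eq X T T'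
  have hmem : ∀ x : X, x ∈ (T' : Subgroup X) ↔ c⁻¹ * x * c ∈ (T : Subgroup X) := by
    intro x
    rw [← hc, Sylow.coe_subgroup_smul, Subgroup.mem_pointwise_smul_iff_inv_smul_mem, MulAut.smul_def,
      ← map_inv, MulAut.conj_apply, inv_inv]
  intro g hg hgc
  have h1 : c⁻¹ * g * c ∈ Subgroup.normalizer ((T : Subgroup X) : Set X) := by
    rw [Subgroup.mem_normalizer_iff] at hg ⊢
    intro h
    have e1 : c⁻¹ * (c * h * c⁻¹) * c = h := by group
    have e2 : c⁻¹ * (g * (c * h * c⁻¹) * g⁻¹) * c = c⁻¹ * g * c * h * (c⁻¹ * g * c)⁻¹ := by group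
    have := hg (c * h * c⁻¹)
    rw [hmem, hmem, e1, e2] at this
    exact this
  have h2 : (orderOf (c⁻¹ * g * c)).Coprime p := by
    have : c⁻¹ * g * c = MulAut.conj c⁻¹ g := by rw [MulAut.conj_apply, inv_inv]
    rw [this, MulEquiv.orderOf_eq]
    exact hgc
  have h3 := hN _ h1 h2
  rw [Subgroup.mem_centralizer_iff] at h3 ⊢
  intro y hy
  have hy' := (hmem y).mp hy
  have h4 := h3 _ hy'
  have e3 : y * g = c * (c⁻¹ * y * c * (c⁻¹ * g * c)) * c⁻¹ := by group
  have e4 : g * y = c * (c⁻¹ * g * c * (c⁻¹ * y * c)) * c⁻¹ := by group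
  rw [e3, e4, h4]

/-- control of transfer is transported along an isomorphism -/
theorem controlsTransfer_of_equiv [Fact p.Prime] {W : ∀ (Q : Type u) [Group Q], Subgroup Q}
    (hW' : PFunctor2 p (WAmb W)) {X Y : Type u} [Group X] [Group Y] [Finite X] [Finite Y]
    (e : Y ≃* X) (h : ControlsTransferIn p (inducedFunctor (G := Y) W) ⊤) :
    ControlsTransferIn p (inducedFunctor (G := X) W) ⊤ := by
  obtain ⟨T, -, hTp, hTi, heq⟩ := h
  have hinj : Function.Injective e.toMonoidHom := e.injective
  have hsurj : Function.Surjective e.toMonoidHom := e.surjective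
  refine ⟨T.map e.toMonoidHom, le_top, hTp.map _, ?_, ?_⟩
  · rw [Subgroup.relIndex_top_right] at hTi ⊢
    rwa [Subgroup.index_map_of_bijective (f := e.toMonoidHom) e.bijective]
  · have hmap : inducedFunctor W (T.map e.toMonoidHom) = (inducedFunctor W T).map e.toMonoidHom :=
      hW'.map Y X e.toMonoidHom T hTp (fun x _ hx => by
        have h1 : e x = e 1 := by rw [map_one]; exact hx
        exact e.injective h1)
    simp only [top_inf_eq] at heq ⊢
    have h1 := congrArg (Subgroup.map e.toMonoidHom) heq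
    rw [Subgroup.map_inf _ _ _ hinj, Subgroup.map_inf _ _ _ hinj, Subgroup.map_commutator,
      Subgroup.map_commutator, Subgroup.map_top_of_surjective _ hsurj,
      Subgroup.map_equiv_normalizer_eq] at h1
    rw [hmap]
    exact h1

theorem main [Fact p.Prime] {G : Type u} [Group G] [Finite G] (W : ∀ (Q : Type u) [Group Q], Subgroup Q)
    (hW : Cfsg.IsCharPFunctor.{u} p W)
    (hctl : ∀ (K R : Subgroup G) [hR : (R.subgroupOf K).Normal],
      Cfsg.ControlsTransferIn p (Cfsg.inducedFunctor (G := (↥K ⧸ R.subgroupOf K)) W) ⊤) :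
    ∀ (n : ℕ) (X : Type u) [Group X] [Finite X], Nat.card X = n → IsSec G X →
      ∀ T : Sylow p X, (T : Subgroup X) ≠ ⊥ →
      (∀ g ∈ Subgroup.normalizer ((T : Subgroup X) : Set X), (orderOf g).Coprime p →
        g ∈ Subgroup.centralizer ((T : Subgroup X) : Set X)) → HasIdx p X := by
  intro n
  induction n using Nat.strong_induction_on with
  | _ n ih =>
  intro X _ _ hcard hsec T hT hN
  have hW' := pFunctor2_induced W hW
  obtain ⟨K, R, hR, ⟨e⟩⟩ := isSec_equiv G X hsec
  haveI := hR
  obtain ⟨T₀, -, hT₀p, hT₀i, heq⟩ := controlsTransfer_of_equiv hW' e.symm (hctl K R)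
  rw [Subgroup.relIndex_top_right] at hT₀i
  simp only [top_inf_eq] at heq
  obtain ⟨S₀, hS₀⟩ : ∃ S₀ : Sylow p X, (S₀ : Subgroup X) = T₀ :=
    ⟨hT₀p.toSylow hT₀i, IsPGroup.toSylow_coe _ _⟩
  subst hS₀
  have hN₀ := hN_of_sylow T S₀ hN
  have hS₀ne : (S₀ : Subgroup X) ≠ ⊥ := by
    rw [← Subgroup.one_lt_card_iff_ne_bot] at hT ⊢
    rwa [Sylow.card_eq_multiplicity] at hT ⊢
  set W₀ : Subgroup X := inducedFunctor W (S₀ : Subgroup X) with hW₀
  have hW₀le : W₀ ≤ S₀ := hW'.le X _ S₀.isPGroup'
  have hW₀ne : W₀ ≠ ⊥ := hW'.ne_bot X _ S₀.isPGroup' hS₀ne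
  have hS₀N : (S₀ : Subgroup X) ≤ Subgroup.normalizer (W₀ : Set X) :=
    Subgroup.le_normalizer.trans (normalizer_le_normalizer_W2 hW' _ S₀.isPGroup')
  by_cases htop : Subgroup.normalizer (W₀ : Set X) = ⊤
  · haveI hW₀n : W₀.Normal := Subgroup.normalizer_eq_top_iff.mp htop
    by_cases hq : (S₀ : Subgroup X) ≤ W₀
    · have hSW : (S₀ : Subgroup X) = W₀ := le_antisymm hq hW₀le
      haveI : (S₀ : Subgroup X).Normal := hSW ▸ hW₀n
      exact hasIdx_of_normal_sylow S₀ hS₀ne
        (fun g hg => hN₀ g (by rw [Subgroup.normalizer_eq_top]; trivial) hg)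
    · have hf : Function.Surjective (QuotientGroup.mk' W₀) := QuotientGroup.mk'_surjective W₀
      refine hasIdx_of_surjective (QuotientGroup.mk' W₀) hf ?_
      have hlt : Nat.card (X ⧸ W₀) < n := hcard ▸ card_quotient_lt W₀ hW₀ne
      refine ih _ hlt (X ⧸ W₀) rfl (isSec_quot G X W₀ hsec) (S₀.mapSurjective hf) ?_ ?_
      · rw [Sylow.coe_mapSurjective]
        intro h0
        apply hq
        rw [Subgroup.map_eq_bot_iff] at h0
        rwa [QuotientGroup.ker_mk'] at h0
      · intro y hy hyc
        obtain ⟨x, rfl, hxc⟩ := exists_lift_coprime (QuotientGroup.mk' W₀) hf y hyc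
        rw [Sylow.coe_mapSurjective] at hy ⊢
        have hx : x ∈ Subgroup.normalizer ((S₀ : Subgroup X) : Set X) := by
          have h1 : x ∈ (Subgroup.normalizer ((((S₀ : Subgroup X).map (QuotientGroup.mk' W₀) :
              Subgroup (X ⧸ W₀)) : Set (X ⧸ W₀)))).comap (QuotientGroup.mk' W₀) := hy
          rw [Subgroup.comap_normalizer_eq_of_surjective _ hf, Subgroup.comap_map_eq,
            QuotientGroup.ker_mk', sup_eq_left.mpr hW₀le] at h1
          exact h1
        have hxc' := hN₀ x hx hxc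
        rw [Subgroup.mem_centralizer_iff] at hxc' ⊢
        rintro _ ⟨t, ht, rfl⟩
        rw [← map_mul, ← map_mul, hxc' t ht]
  · set L : Subgroup X := Subgroup.normalizer (W₀ : Set X) with hL
    have hlt : Nat.card ↥L < n := hcard ▸ card_subgroup_lt L htop
    have hnot : ¬ (S₀ : Subgroup X) ≤ ⁅L, L⁆ := by
      intro hle
      have hp' : IsPGroup p ↥((S₀ : Subgroup X).subgroupOf L) :=
        S₀.isPGroup'.comap_of_injective L.subtype L.subtype_injective
      have hi' : ¬ p ∣ ((S₀ : Subgroup X).subgroupOf L).index := by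
        intro hdvd
        exact S₀.not_dvd_index (dvd_trans hdvd (Subgroup.relIndex_dvd_index_of_le hS₀N))
      obtain ⟨SL, hSL⟩ : ∃ SL : Sylow p ↥L, (SL : Subgroup ↥L) = (S₀ : Subgroup X).subgroupOf L :=
        ⟨hp'.toSylow hi', IsPGroup.toSylow_coe _ _⟩
      have hSLne : (SL : Subgroup ↥L) ≠ ⊥ := by
        rw [hSL]
        intro h0
        apply hS₀ne
        rw [Subgroup.subgroupOf_eq_bot] at h0
        exact (disjoint_of_le_iff_left_eq_bot hS₀N).mp h0
      have hNL : ∀ g ∈ Subgroup.normalizer ((SL : Subgroup ↥L) : Set ↥L), (orderOf g).Coprime p →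
          g ∈ Subgroup.centralizer ((SL : Subgroup ↥L) : Set ↥L) := by
        intro g hg hgc
        have h1 : (g : X) ∈ Subgroup.normalizer ((S₀ : Subgroup X) : Set X) := by
          rw [hSL] at hg
          rw [Subgroup.mem_normalizer_iff] at hg ⊢
          intro h
          constructor
          · intro hh
            have hhL : h ∈ L := hS₀N hh
            have := (hg ⟨h, hhL⟩).mp (Subgroup.mem_subgroupOf.mpr hh)
            exact Subgroup.mem_subgroupOf.mp this
          · intro hh
            have hhL : h ∈ L := by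
              have h2 : (g : X) * h * (g : X)⁻¹ ∈ L := hS₀N hh
              have h3 := L.mul_mem (L.mul_mem (L.inv_mem g.2) h2) g.2
              have e1 : (g : X)⁻¹ * ((g : X) * h * (g : X)⁻¹) * (g : X) = h := by group
              rwa [e1] at h3
            exact Subgroup.mem_subgroupOf.mp ((hg ⟨h, hhL⟩).mpr (Subgroup.mem_subgroupOf.mpr hh))
        have h2 := hN₀ (g : X) h1 (by rwa [Subgroup.orderOf_coe])
        rw [hSL, Subgroup.mem_centralizer_iff]
        intro y hy
        apply Subtype.ext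
        exact (Subgroup.mem_centralizer_iff.mp h2) y (Subgroup.mem_subgroupOf.mp hy)
      obtain ⟨M, hMn, hMi⟩ := ih _ hlt ↥L rfl (isSec_sub G X L hsec) SL hSLne hNL
      have hcM : commutator ↥L ≤ M := by
        haveI := hMn
        have hc1 : Nat.card (↥L ⧸ M) = p := by rw [← Subgroup.index_eq_card, hMi]
        haveI : IsCyclic (↥L ⧸ M) := isCyclic_of_prime_card hc1
        letI : CommGroup (↥L ⧸ M) := IsCyclic.commGroup
        have := Abelianization.commutator_subset_ker (QuotientGroup.mk' M)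
        rwa [QuotientGroup.ker_mk'] at this
      have hSLc : (SL : Subgroup ↥L) ≤ commutator ↥L := by
        rw [hSL]
        intro x hx
        have hx' : (x : X) ∈ ⁅L, L⁆ := hle (Subgroup.mem_subgroupOf.mp hx)
        have h3 : ⁅L, L⁆ = (commutator ↥L).map L.subtype := by
          rw [commutator_def, Subgroup.map_commutator, ← MonoidHom.range_eq_map, Subgroup.range_subtype]
        rw [h3] at hx'
        obtain ⟨y, hy, hyx⟩ := hx'
        have : y = x := Subtype.ext hyx
        rwa [← this]
      have : p ∣ (SL : Subgroup ↥L).index := by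
        have := Subgroup.index_dvd_of_le (hSLc.trans hcM)
        rwa [hMi] at this
      exact SL.not_dvd_index this
    have hnc : ¬ (S₀ : Subgroup X) ≤ commutator X := by
      intro hle
      apply hnot
      have h1 : (S₀ : Subgroup X) ⊓ ⁅(⊤ : Subgroup X), ⊤⁆ = S₀ :=
        inf_eq_left.mpr (by rwa [← commutator_def])
      rw [heq] at h1
      exact inf_eq_left.mp h1
    exact hasIdx_of_not_le_commutator S₀ hnc

end Cfsg.Agent.Lib.Helper7.IdxP
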