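import Mathlib

/-!
# The involution graph of `PSL(2, q)`, `q` even (for S3266)

For a finite field `F` of characteristic 2 with at least 4 elements: two distinct non-adjacent
involutions of a class have a common neighbour in the class, and a non-adjacent pair exists.
-/

set_option autoImplicit false

namespace Cfsg.Agent.Lib.Helper7.InvGraph2

open Matrix

section general

variable {G : Type*} [Group G]

/-- if `x`, `w` are involutions (or trivial) with `x w` of odd order then `w` is conjugate to `x` -/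
theorem isConj_of_odd {x w : G} (hx : x * x = 1) (hw : w * w = 1) (hodd : Odd (orderOf (x * w))) :
    IsConj x w := by
  obtain ⟨k, hk⟩ := hodd
  -- h := (x w)^(k+1), h² = x w
  have hxi : x⁻¹ = x := inv_eq_of_mul_eq_one_right hx
  have hwi : w⁻¹ = w := inv_eq_of_mul_eq_one_right hw
  have hg : (x * w) ^ (2 * k + 1) = 1 := by rw [← hk]; exact pow_orderOf_eq_one _
  have hinv : x * (x * w) * x⁻¹ = (x * w)⁻¹ := by
    rw [_root_.mul_inv_rev, hxi, hwi]
    calc x * (x * w) * x = (x * x) * w * x := by group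
      _ = w * x := by rw [hx, one_mul]
  have hinvpow : ∀ n : ℕ, x * (x * w) ^ n * x⁻¹ = ((x * w) ^ n)⁻¹ := by
    intro n
    rw [← conj_pow, hinv, inv_pow]
  rw [isConj_iff]
  refine ⟨((x * w) ^ (k + 1))⁻¹, ?_⟩
  rw [inv_inv]
  -- h⁻¹ x h = h⁻¹ (x h x⁻¹) x = h⁻¹ h⁻¹ x = g⁻¹ x = w
  have h1 : x * (x * w) ^ (k + 1) = ((x * w) ^ (k + 1))⁻¹ * x := by
    have := hinvpow (k + 1)
    calc x * (x * w) ^ (k + 1) = (x * (x * w) ^ (k + 1) * x⁻¹) * x := by group
      _ = ((x * w) ^ (k + 1))⁻¹ * x := by rw [this]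
  have h2 : ((x * w) ^ (k + 1))⁻¹ * ((x * w) ^ (k + 1))⁻¹ = (x * w)⁻¹ := by
    rw [← _root_.mul_inv_rev, ← pow_add]
    have : k + 1 + (k + 1) = (2 * k + 1) + 1 := by ring
    rw [this, pow_succ, hg, one_mul]
  calc ((x * w) ^ (k + 1))⁻¹ * x * (x * w) ^ (k + 1)
      = ((x * w) ^ (k + 1))⁻¹ * (x * (x * w) ^ (k + 1)) := by group
    _ = ((x * w) ^ (k + 1))⁻¹ * (((x * w) ^ (k + 1))⁻¹ * x) := by rw [h1]
    _ = (((x * w) ^ (k + 1))⁻¹ * ((x * w) ^ (k + 1))⁻¹) * x := by group
    _ = (x * w)⁻¹ * x := by rw [h2]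
    _ = w := by rw [_root_.mul_inv_rev, hxi, hwi, mul_assoc, hx, mul_one]

end general

section sl2

variable {F : Type*} [Field F]

local notation "SL2" => Matrix.SpecialLinearGroup (Fin 2) F

/-- the trace -/
def tr (A : SL2) : F := A 0 0 + A 1 1

theorem det_eq (A : SL2) : A 0 0 * A 1 1 - A 0 1 * A 1 0 = 1 := by
  have := A.det_coe
  rwa [Matrix.det_fin_two] at this

theorem ext_entries {A B : SL2} (h00 : A 0 0 = B 0 0) (h01 : A 0 1 = B 0 1) (h10 : A 1 0 = B 1 0)
    (h11 : A 1 1 = B 1 1) : A = B := by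
  apply Matrix.SpecialLinearGroup.ext
  intro i j
  fin_cases i <;> fin_cases j <;> assumption

theorem mul_00 (A B : SL2) : (A * B) 0 0 = A 0 0 * B 0 0 + A 0 1 * B 1 0 := by
  rw [Matrix.SpecialLinearGroup.coe_mul, Matrix.mul_apply, Fin.sum_univ_two]

theorem mul_01 (A B : SL2) : (A * B) 0 1 = A 0 0 * B 0 1 + A 0 1 * B 1 1 := by
  rw [Matrix.SpecialLinearGroup.coe_mul, Matrix.mul_apply, Fin.sum_univ_two]

theorem mul_10 (A B : SL2) : (A * B) 1 0 = A 1 0 * B 0 0 + A 1 1 * B 1 0 := by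
  rw [Matrix.SpecialLinearGroup.coe_mul, Matrix.mul_apply, Fin.sum_univ_two]

theorem mul_11 (A B : SL2) : (A * B) 1 1 = A 1 0 * B 0 1 + A 1 1 * B 1 1 := by
  rw [Matrix.SpecialLinearGroup.coe_mul, Matrix.mul_apply, Fin.sum_univ_two]

theorem one_00 : (1 : SL2) 0 0 = 1 := by simp
theorem one_01 : (1 : SL2) 0 1 = 0 := by simp
theorem one_10 : (1 : SL2) 1 0 = 0 := by simp
theorem one_11 : (1 : SL2) 1 1 = 1 := by simp

variable (h2 : (2 : F) = 0)
include h2

theorem eq_one_of_sq (a : F) (ha : a * a = 1) : a = 1 := by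
  have : (a - 1) * (a - 1) = 0 := by linear_combination ha + (1 - a) * h2
  have := mul_self_eq_zero.1 this
  linear_combination this

theorem sq_eq_one_of_tr (A : SL2) (htr : tr A = 0) : A * A = 1 := by
  unfold tr at htr
  have hd := det_eq A
  apply ext_entries
  · rw [mul_00, one_00]; linear_combination hd + A 0 0 * htr - A 0 0 * A 1 1 * h2 + A 0 1 * A 1 0 * h2
  · rw [mul_01, one_01]; linear_combination A 0 1 * htr
  · rw [mul_10, one_10]; linear_combination A 1 0 * htr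
  · rw [mul_11, one_11]; linear_combination hd + A 1 1 * htr - A 0 0 * A 1 1 * h2 + A 0 1 * A 1 0 * h2

theorem tr_of_sq_eq_one (A : SL2) (hsq : A * A = 1) (hne : A ≠ 1) : tr A = 0 := by
  by_contra htr
  unfold tr at htr
  have h01 : A 0 1 * (A 0 0 + A 1 1) = 0 := by
    have := congrArg (fun M : SL2 => M 0 1) hsq
    simp only [mul_01, one_01] at this
    linear_combination this
  have h10 : A 1 0 * (A 0 0 + A 1 1) = 0 := by
    have := congrArg (fun M : SL2 => M 1 0) hsq
    simp only [mul_10, one_10] at this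
    linear_combination this
  have hb : A 0 1 = 0 := (mul_eq_zero.1 h01).resolve_right htr
  have hc : A 1 0 = 0 := (mul_eq_zero.1 h10).resolve_right htr
  have h00 : A 0 0 * A 0 0 = 1 := by
    have := congrArg (fun M : SL2 => M 0 0) hsq
    simp only [mul_00, one_00] at this
    rw [hb, zero_mul, add_zero] at this
    exact this
  have h11 : A 1 1 * A 1 1 = 1 := by
    have := congrArg (fun M : SL2 => M 1 1) hsq
    simp only [mul_11, one_11] at this
    rw [hc, zero_mul, zero_add] at this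
    exact this
  apply hne
  apply ext_entries
  · rw [one_00]; exact eq_one_of_sq h2 _ h00
  · rw [one_01]; exact hb
  · rw [one_10]; exact hc
  · rw [one_11]; exact eq_one_of_sq h2 _ h11

/-- the trace form on trace-zero elements -/
theorem tr_mul (A B : SL2) (hA : tr A = 0) (hB : tr B = 0) :
    tr (A * B) = A 0 1 * B 1 0 + A 1 0 * B 0 1 := by
  unfold tr at *
  rw [mul_00, mul_11]
  linear_combination (B 0 0) * hA + (A 1 1) * hB - A 1 1 * B 0 0 * h2

theorem offdiag_ne (A : SL2) (hA : tr A = 0) (hne : A ≠ 1) : A 0 1 ≠ 0 ∨ A 1 0 ≠ 0 := by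
  by_contra hcon
  push_neg at hcon
  obtain ⟨hb, hc⟩ := hcon
  unfold tr at hA
  have hd := det_eq A
  rw [hb, zero_mul, sub_zero] at hd
  have h11 : A 1 1 = A 0 0 := by linear_combination hA - A 0 0 * h2
  rw [h11] at hd
  have h00 := eq_one_of_sq h2 _ hd
  apply hne
  apply ext_entries
  · rw [one_00]; exact h00
  · rw [one_01]; exact hb
  · rw [one_10]; exact hc
  · rw [one_11, h11]; exact h00

/-- powers of `M` are combinations of `M` and `1` -/
theorem pow_entries (M : SL2) (j : ℕ) : ∃ α β : F, (M ^ j) 0 0 = α * M 0 0 + β ∧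
    (M ^ j) 0 1 = α * M 0 1 ∧ (M ^ j) 1 0 = α * M 1 0 ∧ (M ^ j) 1 1 = α * M 1 1 + β := by
  induction j with
  | zero =>
    refine ⟨0, 1, ?_, ?_, ?_, ?_⟩ <;> simp
  | succ j ih =>
    obtain ⟨α, β, h00, h01, h10, h11⟩ := ih
    have hd := det_eq M
    refine ⟨α * (M 0 0 + M 1 1) + β, -α, ?_, ?_, ?_, ?_⟩
    · rw [pow_succ, mul_00, h00, h01]; linear_combination (-α) * hd
    · rw [pow_succ, mul_01, h00, h01]; ring
    · rw [pow_succ, mul_10, h10, h11]; ring
    · rw [pow_succ, mul_11, h10, h11]; linear_combination (-α) * hd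

/-- an element of non-zero trace has odd order -/
theorem odd_order [Finite F] (M : SL2) (hτ : tr M ≠ 0) : Odd (orderOf M) := by
  haveI : Fintype F := Fintype.ofFinite F
  by_contra hodd
  rw [Nat.not_odd_iff_even] at hodd
  obtain ⟨k, hk⟩ := hodd
  have hpos : 0 < orderOf M := orderOf_pos M
  have hk0 : k ≠ 0 := by omega
  have hklt : k < orderOf M := by omega
  have hz1 : M ^ k ≠ 1 := pow_ne_one_of_lt_orderOf hk0 hklt
  have hzz : M ^ k * M ^ k = 1 := by rw [← pow_add, ← hk, pow_orderOf_eq_one]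
  have htz := tr_of_sq_eq_one h2 _ hzz hz1
  obtain ⟨α, β, h00, h01, h10, h11⟩ := pow_entries h2 M k
  have hα : α = 0 := by
    unfold tr at htz hτ
    rw [h00, h11] at htz
    have : α * (M 0 0 + M 1 1) = 0 := by linear_combination htz - β * h2
    exact (mul_eq_zero.1 this).resolve_right hτ
  rcases offdiag_ne h2 _ htz hz1 with h | h
  · apply h; rw [h01, hα, zero_mul]
  · apply h; rw [h10, hα, zero_mul]

/-- the element `[[a, b], [c, d]]` -/
def mkSL (a b c d : F) (h : a * d - b * c = 1) : SL2 :=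
  ⟨!![a, b; c, d], by rw [Matrix.det_fin_two_of]; exact h⟩

omit h2 in
@[simp] theorem mkSL_00 (a b c d : F) (h : a * d - b * c = 1) : (mkSL a b c d h) 0 0 = a := rfl
omit h2 in
@[simp] theorem mkSL_01 (a b c d : F) (h : a * d - b * c = 1) : (mkSL a b c d h) 0 1 = b := rfl
omit h2 in
@[simp] theorem mkSL_10 (a b c d : F) (h : a * d - b * c = 1) : (mkSL a b c d h) 1 0 = c := rfl
omit h2 in
@[simp] theorem mkSL_11 (a b c d : F) (h : a * d - b * c = 1) : (mkSL a b c d h) 1 1 = d := rfl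

omit h2 in
theorem ne_one_of_offdiag {A : SL2} (h : A 0 1 ≠ 0 ∨ A 1 0 ≠ 0) : A ≠ 1 := by
  rintro rfl
  rcases h with h | h
  · exact h one_01
  · exact h one_10

/-- two trace-zero non-trivial elements with trace-zero product have a common neighbour -/
theorem common_neighbour (x y : SL2) (hx : tr x = 0) (hy : tr y = 0) (hx1 : x ≠ 1) (hy1 : y ≠ 1)
    (hxy : tr (x * y) = 0) :
    ∃ w : SL2, tr w = 0 ∧ w ≠ 1 ∧ tr (x * w) ≠ 0 ∧ tr (w * y) ≠ 0 := by
  rw [tr_mul h2 x y hx hy] at hxy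
  have hC1 : tr (mkSL (1 : F) 0 1 1 (by ring)) = 0 := by
    unfold tr; simp only [mkSL_00, mkSL_11]; linear_combination h2
  have hC2 : tr (mkSL (1 : F) 1 0 1 (by ring)) = 0 := by
    unfold tr; simp only [mkSL_00, mkSL_11]; linear_combination h2
  by_cases h1 : x 0 1 ≠ 0 ∧ y 0 1 ≠ 0
  · refine ⟨mkSL (1 : F) 0 1 1 (by ring), hC1, ne_one_of_offdiag (Or.inr (by simp)), ?_, ?_⟩
    · rw [tr_mul h2 _ _ hx hC1]; simp only [mkSL_01, mkSL_10]; simpa using h1.1
    · rw [tr_mul h2 _ _ hC1 hy]; simp only [mkSL_01, mkSL_10]; simpa using h1.2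
  by_cases h3 : x 1 0 ≠ 0 ∧ y 1 0 ≠ 0
  · refine ⟨mkSL (1 : F) 1 0 1 (by ring), hC2, ne_one_of_offdiag (Or.inl (by simp)), ?_, ?_⟩
    · rw [tr_mul h2 _ _ hx hC2]; simp only [mkSL_01, mkSL_10]; simpa using h3.1
    · rw [tr_mul h2 _ _ hC2 hy]; simp only [mkSL_01, mkSL_10]; simpa using h3.2
  exfalso
  have hxo := offdiag_ne h2 x hx hx1
  have hyo := offdiag_ne h2 y hy hy1
  rw [not_and_or, not_not, not_not] at h1 h3
  rcases h1 with h1 | h1
  · -- x01 = 0, so x10 ≠ 0, y10 = 0, y01 ≠ 0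
    have hx10 : x 1 0 ≠ 0 := hxo.resolve_left (not_not.2 h1)
    have hy10 : y 1 0 = 0 := h3.resolve_left hx10
    have hy01 : y 0 1 ≠ 0 := hyo.resolve_right (not_not.2 hy10)
    rw [h1, hy10, zero_mul, zero_add] at hxy
    exact (mul_ne_zero hx10 hy01) hxy
  · have hy10 : y 1 0 ≠ 0 := hyo.resolve_left (not_not.2 h1)
    have hx10 : x 1 0 = 0 := h3.resolve_right hy10
    have hx01 : x 0 1 ≠ 0 := hxo.resolve_right (not_not.2 hx10)
    rw [h1, hx10, zero_mul, add_zero] at hxy
    exact (mul_ne_zero hx01 hy10) hxy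

omit h2 in
theorem invol_of_conj {t x : SL2} (ht : t * t = 1) (ht1 : t ≠ 1) (hc : IsConj t x) :
    x * x = 1 ∧ x ≠ 1 := by
  obtain ⟨c, rfl⟩ := isConj_iff.1 hc
  constructor
  · calc c * t * c⁻¹ * (c * t * c⁻¹) = c * (t * t) * c⁻¹ := by group
      _ = 1 := by rw [ht]; group
  · intro h
    apply ht1
    calc t = c⁻¹ * (c * t * c⁻¹) * c := by group
      _ = 1 := by rw [h]; group

theorem tr_one : tr (1 : SL2) = 0 := by
  unfold tr; rw [one_00, one_11]; linear_combination h2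

theorem not_odd_of_tr [Finite F] {x y : SL2} (hx : x * x = 1) (hy : y * y = 1) (hne : x ≠ y)
    (hxy : tr (x * y) = 0) : ¬ Odd (orderOf (x * y)) := by
  have h1 : (x * y) ^ 2 = 1 := by rw [pow_two]; exact sq_eq_one_of_tr h2 _ hxy
  have h3 : x * y ≠ 1 := by
    intro h
    apply hne
    have hyi : y⁻¹ = y := inv_eq_of_mul_eq_one_right hy
    rw [← hyi]
    exact eq_inv_of_mul_eq_one_left h
  haveI : Fact (Nat.Prime 2) := ⟨Nat.prime_two⟩
  rw [orderOf_eq_prime h1 h3]
  decide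

/-- the theorem for `SL(2, F)` -/
theorem sl_main [Fintype F] (hF : 4 ≤ Fintype.card F) (t : SL2) (ht : orderOf t = 2) :
    (∀ x y, IsConj t x → IsConj t y → x ≠ y → ¬ Odd (orderOf (x * y)) →
        ∃ w, IsConj t w ∧ w ≠ x ∧ w ≠ y ∧ Odd (orderOf (x * w)) ∧ Odd (orderOf (w * y))) ∧
    (∃ x y, IsConj t x ∧ IsConj t y ∧ x ≠ y ∧ ¬ Odd (orderOf (x * y)) ∧ ¬ Odd (orderOf (y * x))) := by
  have htt : t * t = 1 := by
    have := pow_orderOf_eq_one t
    rwa [ht, pow_two] at this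
  have ht1 : t ≠ 1 := by
    rintro rfl
    rw [orderOf_one] at ht
    norm_num at ht
  have key : ∀ x y : SL2, x * x = 1 → x ≠ 1 → y * y = 1 → y ≠ 1 → x ≠ y → tr (x * y) = 0 →
      ∃ w, IsConj x w ∧ IsConj w y ∧ w ≠ x ∧ w ≠ y ∧ Odd (orderOf (x * w)) ∧ Odd (orderOf (w * y)) := by
    intro x y hx hx1 hy hy1 hne hxy
    have hxt := tr_of_sq_eq_one h2 x hx hx1
    have hyt := tr_of_sq_eq_one h2 y hy hy1
    obtain ⟨w, hwt, hw1, h1, h3⟩ := common_neighbour h2 x y hxt hyt hx1 hy1 hxy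
    have hw := sq_eq_one_of_tr h2 w hwt
    have ho1 := odd_order h2 _ h1
    have ho2 := odd_order h2 _ h3
    refine ⟨w, isConj_of_odd hx hw ho1, isConj_of_odd hw hy ho2, ?_, ?_, ho1, ho2⟩
    · rintro rfl
      apply h1
      rw [hx]; exact tr_one h2
    · rintro rfl
      apply h3
      rw [hw]; exact tr_one h2
  constructor
  · intro x y hcx hcy hne hodd
    obtain ⟨hx, hx1⟩ := invol_of_conj htt ht1 hcx
    obtain ⟨hy, hy1⟩ := invol_of_conj htt ht1 hcy
    have hxy : tr (x * y) = 0 := by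
      by_contra h
      exact hodd (odd_order h2 _ h)
    obtain ⟨w, hc1, -, hwx, hwy, ho1, ho2⟩ := key x y hx hx1 hy hy1 hne hxy
    exact ⟨w, hcx.trans hc1, hwx, hwy, ho1, ho2⟩
  · have htt0 := tr_of_sq_eq_one h2 t htt ht1
    have hto := offdiag_ne h2 t htt0 ht1
    -- a scalar `≠ 0, 1`
    obtain ⟨l, hl0, hl1⟩ : ∃ l : F, l ≠ 0 ∧ l ≠ 1 := by
      classical
      by_contra hcon
      push_neg at hcon
      have hsub : (Finset.univ : Finset F) ⊆ {0, 1} := by
        intro l _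
        by_cases h0 : l = 0
        · simp [h0]
        · simp [hcon l h0]
      have := Finset.card_le_card hsub
      have h2' : ({0, 1} : Finset F).card ≤ 2 := Finset.card_le_two
      rw [Finset.card_univ] at this
      omega
    haveI : CharP F 2 := CharTwo.of_one_ne_zero_of_two_eq_zero one_ne_zero h2
    obtain ⟨a', ha'⟩ := FiniteField.isSquare_of_char_two (ringChar.eq F 2)
      (1 + l * t 0 1 * (l * t 1 0))
    have hdet : a' * a' - l * t 0 1 * (l * t 1 0) = 1 := by linear_combination -ha'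
    have hyt : tr (mkSL a' (l * t 0 1) (l * t 1 0) a' hdet) = 0 := by
      unfold tr; simp only [mkSL_00, mkSL_11]; linear_combination a' * h2
    have hyo : (mkSL a' (l * t 0 1) (l * t 1 0) a' hdet) 0 1 ≠ 0 ∨
        (mkSL a' (l * t 0 1) (l * t 1 0) a' hdet) 1 0 ≠ 0 := by
      simp only [mkSL_01, mkSL_10]
      rcases hto with h | h
      · exact Or.inl (mul_ne_zero hl0 h)
      · exact Or.inr (mul_ne_zero hl0 h)
    have hy1 := ne_one_of_offdiag hyo
    have hy := sq_eq_one_of_tr h2 _ hyt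
    have hne : t ≠ mkSL a' (l * t 0 1) (l * t 1 0) a' hdet := by
      intro heq
      have e1 : t 0 1 = l * t 0 1 := by
        have := congrArg (fun M : SL2 => M 0 1) heq
        simpa using this
      have e2 : t 1 0 = l * t 1 0 := by
        have := congrArg (fun M : SL2 => M 1 0) heq
        simpa using this
      have hl : l - 1 ≠ 0 := sub_ne_zero.2 hl1
      rcases hto with h | h
      · apply h
        have : (l - 1) * t 0 1 = 0 := by linear_combination -e1
        exact (mul_eq_zero.1 this).resolve_left hl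
      · apply h
        have : (l - 1) * t 1 0 = 0 := by linear_combination -e2
        exact (mul_eq_zero.1 this).resolve_left hl
    have hxy : tr (t * mkSL a' (l * t 0 1) (l * t 1 0) a' hdet) = 0 := by
      rw [tr_mul h2 _ _ htt0 hyt]; simp only [mkSL_01, mkSL_10]
      linear_combination l * t 0 1 * t 1 0 * h2
    have hyx : tr (mkSL a' (l * t 0 1) (l * t 1 0) a' hdet * t) = 0 := by
      rw [tr_mul h2 _ _ hyt htt0]; simp only [mkSL_01, mkSL_10]
      linear_combination l * t 0 1 * t 1 0 * h2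
    obtain ⟨w, hc1, hc2, -, -, -, -⟩ := key t _ htt ht1 hy hy1 hne hxy
    exact ⟨t, _, IsConj.refl t, hc1.trans hc2, hne, not_odd_of_tr h2 htt hy hne hxy,
      not_odd_of_tr h2 hy htt hne.symm hyx⟩

theorem center_eq_bot : Subgroup.center SL2 = ⊥ := by
  rw [eq_bot_iff]
  intro A hA
  obtain ⟨r, hr, hA'⟩ := Matrix.SpecialLinearGroup.mem_center_iff.1 hA
  rw [Fintype.card_fin, pow_two] at hr
  have hr1 := eq_one_of_sq h2 r hr
  rw [Subgroup.mem_bot]
  apply Matrix.SpecialLinearGroup.ext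
  intro i j
  rw [← hA', hr1]
  simp

/-- `PSL(2, F) ≃* SL(2, F)` in characteristic two -/
noncomputable def pslEquiv : Matrix.ProjectiveSpecialLinearGroup (Fin 2) F ≃* SL2 :=
  (QuotientGroup.quotientMulEquivOfEq (center_eq_bot h2)).trans QuotientGroup.quotientBot

/-- **the involution graph in characteristic two**: common neighbours and a non-adjacent pair -/
theorem char_two [Fintype F] (hF : 4 ≤ Fintype.card F)
    (t : Matrix.ProjectiveSpecialLinearGroup (Fin 2) F) (ht : orderOf t = 2) :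
    (∀ x y, IsConj t x → IsConj t y → x ≠ y → ¬ Odd (orderOf (x * y)) →
        ∃ w, IsConj t w ∧ w ≠ x ∧ w ≠ y ∧ Odd (orderOf (x * w)) ∧ Odd (orderOf (w * y))) ∧
    (∃ x y, IsConj t x ∧ IsConj t y ∧ x ≠ y ∧ ¬ Odd (orderOf (x * y)) ∧ ¬ Odd (orderOf (y * x))) := by
  obtain ⟨e, he⟩ : ∃ e : Matrix.ProjectiveSpecialLinearGroup (Fin 2) F ≃* SL2, e = pslEquiv h2 :=
    ⟨_, rfl⟩
  have ht' : orderOf (e t) = 2 := by rw [MulEquiv.orderOf_eq]; exact ht
  obtain ⟨h1, x₀, y₀, hx₀, hy₀, hne₀, ho1, ho2⟩ := sl_main h2 hF (e t) ht'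
  have hconj : ∀ x : SL2, IsConj (e t) x → IsConj t (e.symm x) := by
    intro x hx
    have := e.symm.toMonoidHom.map_isConj hx
    simpa using this
  constructor
  · intro x y hx hy hne hodd
    obtain ⟨w, hw, hwx, hwy, ho1, ho2⟩ := h1 (e x) (e y) (e.toMonoidHom.map_isConj hx)
      (e.toMonoidHom.map_isConj hy) (fun h => hne (e.injective h))
      (by rw [← map_mul, MulEquiv.orderOf_eq]; exact hodd)
    refine ⟨e.symm w, hconj w hw, ?_, ?_, ?_, ?_⟩
    · intro h; apply hwx; rw [← h, e.apply_symm_apply]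
    · intro h; apply hwy; rw [← h, e.apply_symm_apply]
    · rw [← MulEquiv.orderOf_eq e, map_mul, e.apply_symm_apply]; exact ho1
    · rw [← MulEquiv.orderOf_eq e, map_mul, e.apply_symm_apply]; exact ho2
  · refine ⟨e.symm x₀, e.symm y₀, hconj _ hx₀, hconj _ hy₀, fun h => hne₀ (e.symm.injective h), ?_, ?_⟩
    · rw [← map_mul, MulEquiv.orderOf_eq]; exact ho1
    · rw [← map_mul, MulEquiv.orderOf_eq]; exact ho2

end sl2

end Cfsg.Agent.Lib.Helper7.InvGraph2
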