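import Mathlib

/-!
# S3266, odd `q ≡ 3 (mod 4)`: the existence lemma (helper7, for helper5)

`exists_split_pair`: for `τ` with `τ² − 4` a non-square (and `−1` a non-square) there are
`a b ≠ 0` such that `4 − (a+a⁻¹)² − (b+b⁻¹)² − τ² − (a+a⁻¹) τ (b+b⁻¹)` is a square.
Elementary proof by a `±1`-calculus with `quadraticChar F`.
-/

namespace Cfsg.Agent.Lib.Helper7.InvGraph3

variable {F : Type*} [Field F] [Fintype F]

/-- If `-1` is not a square, some `y² + 1` is not a square. -/
theorem exists_sq_add_one_not_sq (hneg : ¬ IsSquare (-1 : F)) :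
    ∃ y : F, ¬ IsSquare (y ^ 2 + 1) := by
  by_contra hcon
  push_neg at hcon
  have hn : ∀ n : ℕ, IsSquare ((n : F)) := by
    intro n
    induction n with
    | zero => exact ⟨0, by simp⟩
    | succ k ih =>
      obtain ⟨y, hy⟩ := ih
      have h1 := hcon y
      have h2 : ((k + 1 : ℕ) : F) = y ^ 2 + 1 := by
        rw [Nat.cast_succ, hy, pow_two]
      rw [h2]; exact h1
  apply hneg
  have h1 := hn (Fintype.card F - 1)
  have hc : ((Fintype.card F - 1 : ℕ) : F) = -1 := by
    rw [Nat.cast_sub Fintype.card_pos, FiniteField.cast_card_eq_zero]; simp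
  rwa [hc] at h1

/-- The basic identity. -/
theorem split_identity (τ a b : F) (ha : a ≠ 0) (hb : b ≠ 0) :
    4 - (a + a⁻¹) ^ 2 - (b + b⁻¹) ^ 2 - τ ^ 2 - (a + a⁻¹) * τ * (b + b⁻¹)
      = -((τ + a * b + (a * b)⁻¹) * (τ + a * b⁻¹ + (a * b⁻¹)⁻¹)) := by
  field_simp
  ring

/-- There is `c ≠ 0` with `c² ≠ 1` in a field with at least 4 elements. -/
theorem exists_ne_zero_sq_ne_one (hF : 4 ≤ Fintype.card F) : ∃ c : F, c ≠ 0 ∧ c ^ 2 ≠ 1 := by
  classical
  by_contra hcon
  push_neg at hcon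
  have hsub : (Finset.univ : Finset F) ⊆ {0, 1, -1} := by
    intro c _
    by_cases hc : c = 0
    · simp [hc]
    · have h1 := hcon c hc
      have h2 : (c - 1) * (c + 1) = 0 := by linear_combination h1
      rcases mul_eq_zero.mp h2 with h | h
      · have : c = 1 := by linear_combination h
        simp [this]
      · have : c = -1 := by linear_combination h
        simp [this]
  have hcard := Finset.card_le_card hsub
  have h3 : ({0, 1, -1} : Finset F).card ≤ 3 := Finset.card_le_three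
  rw [Finset.card_univ] at hcard
  omega

/-- Reduction: it suffices to find `u ≠ 0` with `χ (u² + τ u + 1) = - χ (τ + 2)`. -/
theorem split_of_char [DecidableEq F] (hneg : quadraticChar F (-1) = -1) (τ : F)
    (hτ : quadraticChar F (τ ^ 2 - 4) = -1) (u : F) (hu : u ≠ 0)
    (hgu : quadraticChar F (u ^ 2 + τ * u + 1) = - quadraticChar F (τ + 2)) :
    ∃ a b δ : F, a ≠ 0 ∧ b ≠ 0 ∧
      δ ^ 2 = 4 - (a + a⁻¹) ^ 2 - (b + b⁻¹) ^ 2 - τ ^ 2 - (a + a⁻¹) * τ * (b + b⁻¹) := by
  have hprod : quadraticChar F (τ + 2) * quadraticChar F (τ - 2) = -1 := by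
    rw [← map_mul, ← hτ]; congr 1; ring
  have hp2 : τ + 2 ≠ 0 := by
    intro h; rw [h, MulChar.map_zero] at hprod; simp at hprod
  have hm2 : τ - 2 ≠ 0 := by
    intro h; rw [h, MulChar.map_zero] at hprod; simp at hprod
  rcases quadraticChar_dichotomy hu with hsq | hns
  · -- `u = c²`
    obtain ⟨c, hc⟩ := (quadraticChar_one_iff_isSquare hu).mp hsq
    have hc0 : c ≠ 0 := by rintro rfl; apply hu; simpa using hc
    -- `-f(c²) f(1)` is a square
    have hval : quadraticChar F (-((τ + c * c + (c * c)⁻¹) * (τ + c * c⁻¹ + (c * c⁻¹)⁻¹))) = 1 := by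
      have e1 : -((τ + c * c + (c * c)⁻¹) * (τ + c * c⁻¹ + (c * c⁻¹)⁻¹))
          = (-1) * (u ^ 2 + τ * u + 1) * (τ + 2) * (c⁻¹ ^ 2) := by
        rw [hc]; field_simp; ring
      rw [e1, map_mul, map_mul, map_mul, hneg, hgu, quadraticChar_sq_one' (inv_ne_zero hc0)]
      rcases quadraticChar_dichotomy hp2 with h | h <;> rw [h] <;> norm_num
    have hne : -((τ + c * c + (c * c)⁻¹) * (τ + c * c⁻¹ + (c * c⁻¹)⁻¹)) ≠ 0 := by
      intro h; rw [h, MulChar.map_zero] at hval; simp at hval
    obtain ⟨δ, hδ⟩ := (quadraticChar_one_iff_isSquare hne).mp hval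
    refine ⟨c, c, δ, hc0, hc0, ?_⟩
    rw [split_identity τ c c hc0 hc0, hδ, pow_two]
  · -- `u = -c²`
    have hnu : quadraticChar F (-u) = 1 := by
      rw [neg_eq_neg_one_mul, map_mul, hneg, hns]; norm_num
    obtain ⟨c, hc⟩ := (quadraticChar_one_iff_isSquare (neg_ne_zero.mpr hu)).mp hnu
    have hc0 : c ≠ 0 := by rintro rfl; apply hu; simpa using hc
    have hu' : u = -(c * c) := by rw [← hc]; ring
    have hm : quadraticChar F (τ - 2) = - quadraticChar F (τ + 2) := by
      rcases quadraticChar_dichotomy hp2 with h | h <;> rw [h] at hprod ⊢ <;> linarith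
    have hval : quadraticChar F
        (-((τ + (-c) * c + ((-c) * c)⁻¹) * (τ + (-c) * c⁻¹ + ((-c) * c⁻¹)⁻¹))) = 1 := by
      have e1 : -((τ + (-c) * c + ((-c) * c)⁻¹) * (τ + (-c) * c⁻¹ + ((-c) * c⁻¹)⁻¹))
          = (u ^ 2 + τ * u + 1) * (τ - 2) * (c⁻¹ ^ 2) := by
        rw [hu']; field_simp; ring
      rw [e1, map_mul, map_mul, hgu, hm, quadraticChar_sq_one' (inv_ne_zero hc0)]
      rcases quadraticChar_dichotomy hp2 with h | h <;> rw [h] <;> norm_num
    have hne : -((τ + (-c) * c + ((-c) * c)⁻¹) * (τ + (-c) * c⁻¹ + ((-c) * c⁻¹)⁻¹)) ≠ 0 := by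
      intro h; rw [h, MulChar.map_zero] at hval; simp at hval
    obtain ⟨δ, hδ⟩ := (quadraticChar_one_iff_isSquare hne).mp hval
    refine ⟨-c, c, δ, neg_ne_zero.mpr hc0, hc0, ?_⟩
    rw [split_identity τ (-c) c (neg_ne_zero.mpr hc0) hc0, hδ, pow_two]

/-- **Existence lemma** (S3266, `q ≡ 3 (mod 4)`). -/
theorem exists_split_pair (h2 : (2 : F) ≠ 0) (hF : 4 ≤ Fintype.card F)
    (hneg : ¬ IsSquare (-1 : F)) (τ : F) (hτ : ¬ IsSquare (τ ^ 2 - 4)) :
    ∃ a b δ : F, a ≠ 0 ∧ b ≠ 0 ∧
      δ ^ 2 = 4 - (a + a⁻¹) ^ 2 - (b + b⁻¹) ^ 2 - τ ^ 2 - (a + a⁻¹) * τ * (b + b⁻¹) := by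
  classical
  have hneg' : quadraticChar F (-1) = -1 := quadraticChar_neg_one_iff_not_isSquare.mpr hneg
  have hτ' : quadraticChar F (τ ^ 2 - 4) = -1 := quadraticChar_neg_one_iff_not_isSquare.mpr hτ
  have h4 : (4 : F) ≠ 0 := by
    have : (4 : F) = 2 * 2 := by norm_num
    rw [this]; exact mul_ne_zero h2 h2
  have hprod : quadraticChar F (τ + 2) * quadraticChar F (τ - 2) = -1 := by
    rw [← map_mul, ← hτ']; congr 1; ring
  have hp2 : τ + 2 ≠ 0 := by
    intro h; rw [h, MulChar.map_zero] at hprod; simp at hprod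
  -- `4 - τ² = m²`, `m ≠ 0`
  have hne4 : 4 - τ ^ 2 ≠ 0 := by
    intro h
    have : τ ^ 2 - 4 = 0 := by linear_combination -h
    rw [this, MulChar.map_zero] at hτ'; simp at hτ'
  have h4τ : quadraticChar F (4 - τ ^ 2) = 1 := by
    have : 4 - τ ^ 2 = (-1) * (τ ^ 2 - 4) := by ring
    rw [this, map_mul, hneg', hτ']; norm_num
  obtain ⟨m, hm⟩ := (quadraticChar_one_iff_isSquare hne4).mp h4τ
  have hm0 : m ≠ 0 := by rintro rfl; apply hne4; simpa using hm
  have hχ4 : quadraticChar F 4 = 1 := by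
    have : (4 : F) = 2 ^ 2 := by norm_num
    rw [this]; exact quadraticChar_sq_one' h2
  -- `χ(g u) = χ(4 g u)`, and `4 g(u) = (2u+τ)² + m²`
  have hg4 : ∀ u : F, quadraticChar F (u ^ 2 + τ * u + 1)
      = quadraticChar F ((2 * u + τ) ^ 2 + m * m) := by
    intro u
    have : (2 * u + τ) ^ 2 + m * m = 4 * (u ^ 2 + τ * u + 1) := by
      rw [← hm]; ring
    rw [this, map_mul, hχ4, one_mul]
  rcases quadraticChar_dichotomy hp2 with hε | hε
  · -- `ε = 1`: need a non-square value
    obtain ⟨y, hy⟩ := exists_sq_add_one_not_sq hneg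
    have hy' : quadraticChar F (y ^ 2 + 1) = -1 := quadraticChar_neg_one_iff_not_isSquare.mpr hy
    have hgu : quadraticChar F (((m * y - τ) / 2) ^ 2 + τ * ((m * y - τ) / 2) + 1) = -1 := by
      rw [hg4]
      have : (2 * ((m * y - τ) / 2) + τ) ^ 2 + m * m = m ^ 2 * (y ^ 2 + 1) := by
        field_simp; ring
      rw [this, map_mul, quadraticChar_sq_one' hm0, hy']; norm_num
    have hu : (m * y - τ) / 2 ≠ 0 := by
      intro h
      rw [h] at hgu
      simp at hgu
    exact split_of_char hneg' τ hτ' _ hu (by rw [hgu, hε])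
  · -- `ε = -1`: need a non-zero square value
    by_cases hτ0 : τ = 0
    · obtain ⟨c, hc0, hc1⟩ := exists_ne_zero_sq_ne_one hF
      have hcm : c ^ 2 + 1 ≠ 0 := by
        intro h
        apply hneg
        exact ⟨c, by linear_combination -h⟩
      have hu : (c⁻¹ - c) / 2 ≠ 0 := by
        intro h
        apply hc1
        have h' : c⁻¹ - c = 0 := by
          rcases div_eq_zero_iff.mp h with h | h
          · exact h
          · exact absurd h h2
        have : c⁻¹ = c := by linear_combination h'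
        field_simp at this
        linear_combination -this
      have hval : quadraticChar F (((c⁻¹ - c) / 2) ^ 2 + τ * ((c⁻¹ - c) / 2) + 1) = 1 := by
        have e : ((c⁻¹ - c) / 2) ^ 2 + τ * ((c⁻¹ - c) / 2) + 1 = ((c⁻¹ + c) / 2) ^ 2 := by
          rw [hτ0]; field_simp; ring
        rw [e]
        apply quadraticChar_sq_one'
        intro h
        apply hcm
        have h' : c⁻¹ + c = 0 := by
          rcases div_eq_zero_iff.mp h with h | h
          · exact h
          · exact absurd h h2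
        field_simp at h'
        linear_combination h'
      exact split_of_char hneg' τ hτ' _ hu (by rw [hval, hε]; norm_num)
    · have hu : -τ / 2 ≠ 0 := by
        intro h
        rcases div_eq_zero_iff.mp h with h | h
        · exact hτ0 (by simpa using h)
        · exact absurd h h2
      have hval : quadraticChar F ((-τ / 2) ^ 2 + τ * (-τ / 2) + 1) = 1 := by
        rw [hg4]
        have : (2 * (-τ / 2) + τ) ^ 2 + m * m = m ^ 2 := by
          field_simp; ring
        rw [this]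
        exact quadraticChar_sq_one' hm0
      exact split_of_char hneg' τ hτ' _ hu (by rw [hval, hε]; norm_num)

end Cfsg.Agent.Lib.Helper7.InvGraph3
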