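import Mathlib
import Cfsg.Prelude.Def_Characters
import Cfsg.Agent.Lib.helper3.GalPow2
import Cfsg.Agent.Lib.helper3.CliffCorr
import Cfsg.Agent.Lib.helper3.NilpM2

set_option autoImplicit false
set_option linter.style.haveILetI false
set_option linter.unusedSectionVars false

/-! Irreducible products `χ · χ^σ` (helper7): general inner-product lemmas. -/

namespace Cfsg.Agent.Lib.Helper7.IrrProd

open Cfsg Cfsg.Agent.Lib.helper3.Irr Cfsg.Agent.Lib.helper3.IndFun Cfsg.Agent.Lib.helper3.GalPow
open scoped ComplexConjugate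

variable {G : Type*} [Group G] [Fintype G]

/-- `|χ|²` as a function. -/
def absSq (χ : G → ℂ) : G → ℂ := fun g => χ g * conj (χ g)

theorem isCharacter_absSq {χ : G → ℂ} (hχ : IsCharacter G χ) : IsCharacter G (absSq χ) :=
  isCharacter_mul hχ (isCharacter_conj hχ)

theorem classInner_absSq_absSq (χ χ' : G → ℂ) :
    classInner (absSq χ) (absSq χ') =
      classInner (fun g => χ g * χ' g) (fun g => χ g * χ' g) := by
  rw [classInner_apply, classInner_apply]
  congr 1
  apply Finset.sum_congr rfl
  intro g _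
  simp only [absSq, map_mul, Complex.conj_conj]
  ring

theorem classInner_absSq_one (χ : G → ℂ) :
    classInner (absSq χ) (fun _ => (1 : ℂ)) = classInner χ χ := by
  rw [classInner_apply, classInner_apply]
  congr 1
  apply Finset.sum_congr rfl
  intro g _
  simp [absSq]

/-- the trivial irreducible character -/
noncomputable def oneIrr : IrrCharacter G := ⟨fun _ => (1 : ℂ), isIrrCharacter_one⟩

/-- Two characters each containing the trivial character once and sharing a nontrivial
irreducible constituent have inner product different from `1`. -/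
theorem classInner_ne_one_of_common {Φ Φ' : G → ℂ} (hΦ : IsCharacter G Φ)
    (hΦ' : IsCharacter G Φ') (h1 : classInner Φ (fun _ => (1 : ℂ)) = 1)
    (h1' : classInner Φ' (fun _ => (1 : ℂ)) = 1) (ζ : IrrCharacter G)
    (hζ : (ζ : G → ℂ) ≠ fun _ => (1 : ℂ)) (h : classInner Φ (ζ : G → ℂ) ≠ 0)
    (h' : classInner Φ' (ζ : G → ℂ) ≠ 0) : classInner Φ Φ' ≠ 1 := by
  classical
  obtain ⟨a, ha⟩ := exists_decomposition_of_isCharacter hΦ
  obtain ⟨b, hb⟩ := exists_decomposition_of_isCharacter hΦ'
  have haζ : (a ζ : ℂ) ≠ 0 := by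
    rw [ha, classInner_decomposition_left] at h; exact h
  have hbζ : (b ζ : ℂ) ≠ 0 := by
    rw [hb, classInner_decomposition_left] at h'; exact h'
  have ha1 : (a oneIrr : ℂ) = 1 := by
    have := h1
    rw [ha] at this
    have e := classInner_decomposition_left (fun ψ => (a ψ : ℂ)) (oneIrr : IrrCharacter G)
    rw [← e]; exact this
  have hb1 : (b oneIrr : ℂ) = 1 := by
    have := h1'
    rw [hb] at this
    have e := classInner_decomposition_left (fun ψ => (b ψ : ℂ)) (oneIrr : IrrCharacter G)
    rw [← e]; exact this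
  have hne : (oneIrr : IrrCharacter G) ≠ ζ := by
    intro e
    apply hζ
    rw [← e]; rfl
  have hsum : classInner Φ Φ' = ((∑ ψ : IrrCharacter G, a ψ * b ψ : ℕ) : ℂ) := by
    rw [ha, hb, classInner_decomposition]
    push_cast
    apply Finset.sum_congr rfl
    intro ψ _
    simp
  rw [hsum]
  have ha1' : a oneIrr = 1 := by exact_mod_cast ha1
  have hb1' : b oneIrr = 1 := by exact_mod_cast hb1
  have haζ' : 1 ≤ a ζ := Nat.one_le_iff_ne_zero.mpr (by exact_mod_cast haζ)
  have hbζ' : 1 ≤ b ζ := Nat.one_le_iff_ne_zero.mpr (by exact_mod_cast hbζ)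
  have hge : 2 ≤ ∑ ψ : IrrCharacter G, a ψ * b ψ := by
    have hsub : ({oneIrr, ζ} : Finset (IrrCharacter G)) ⊆ Finset.univ := Finset.subset_univ _
    have := Finset.sum_le_sum_of_subset (f := fun ψ => a ψ * b ψ) hsub
    rw [Finset.sum_pair hne] at this
    have h2 : 1 * 1 + 1 * 1 ≤ a oneIrr * b oneIrr + a ζ * b ζ := by
      rw [ha1', hb1']
      have := Nat.mul_le_mul haζ' hbζ'
      omega
    omega
  intro hcon
  have : (∑ ψ : IrrCharacter G, a ψ * b ψ : ℕ) = 1 := by exact_mod_cast hcon
  omega

end Cfsg.Agent.Lib.Helper7.IrrProd
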