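import Mathlib
import Cfsg.Prelude.Def_Characters
import Cfsg.Agent.Lib.Helper7.IrrProdA

set_option autoImplicit false
set_option linter.style.haveILetI false
set_option linter.unusedSectionVars false

/-! Irreducible products `χ · χ^σ` (helper7): the induced case. -/

namespace Cfsg.Agent.Lib.Helper7.IrrProd

open Cfsg Cfsg.Agent.Lib.helper3.Irr Cfsg.Agent.Lib.helper3.IndFun Cfsg.Agent.Lib.helper3.GalPow
open scoped ComplexConjugate

variable {G : Type*} [Group G] [Fintype G]

/-- If `χ = η^G` is irreducible, every irreducible constituent of `(1_T)^G` is a constituent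
of `χ χ̄`. -/
theorem classInner_absSq_ne_zero_of_ind (T : Subgroup G) [Fintype T] (η : T → ℂ)
    (hη : IsIrrCharacter T η) (hχ : IsIrrCharacter G (indFun T η)) (ζ : IrrCharacter G)
    (hζ : classInner (indFun T (fun _ => (1 : ℂ))) (ζ : G → ℂ) ≠ 0) :
    classInner (absSq (indFun T η)) (ζ : G → ℂ) ≠ 0 := by
  set χ := indFun T η with hχdef
  have hχc : IsCharacter G χ := isCharacter_of_isIrrCharacter hχ
  have hζc : IsCharacter G (ζ : G → ℂ) := isCharacter_of_isIrrCharacter ζ.2
  -- step 1
  have h1 : classInner (absSq χ) (ζ : G → ℂ) =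
      classInner χ (fun g => (ζ : G → ℂ) g * χ g) := by
    rw [classInner_apply, classInner_apply]
    congr 1
    apply Finset.sum_congr rfl
    intro g _
    simp only [absSq, map_mul]
    ring
  have hcl : IsClassFunction G (fun g => (ζ : G → ℂ) g * χ g) :=
    isClassFunction_of_isCharacter (isCharacter_mul hζc hχc)
  -- step 2
  have h2 : classInner χ (fun g => (ζ : G → ℂ) g * χ g) =
      classInner η (fun t : T => (ζ : G → ℂ) t * χ t) :=
    frobenius_reciprocity T η _ hcl
  -- step 3
  have hχT : IsCharacter T (fun t : T => χ t) := isCharacter_restrict hχc T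
  have hζT : IsCharacter T (fun t : T => (ζ : G → ℂ) t) := isCharacter_restrict hζc T
  have h3 : classInner (fun t : T => χ t) η ≠ 0 := by
    have e : classInner η (fun t : T => χ t) = 1 := by
      rw [← frobenius_reciprocity T η χ (isClassFunction_of_isCharacter hχc)]
      exact irr_classInner_self hχ
    rw [← classInner_conj_symm, e]
    simp
  have hB : IsCharacter T ((fun t : T => χ t) - η) :=
    isCharacter_sub_of_classInner_ne_zero hχT ⟨η, hη⟩ h3
  have h4 : classInner (fun t : T => (ζ : G → ℂ) t) (fun _ : T => (1 : ℂ)) ≠ 0 := by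
    rw [← classInner_conj_symm,
      ← frobenius_reciprocity T _ (ζ : G → ℂ) (isClassFunction_of_isCharacter hζc)]
    intro h
    apply hζ
    have := congrArg conj h
    simpa using this
  have hA : IsCharacter T ((fun t : T => (ζ : G → ℂ) t) - fun _ : T => (1 : ℂ)) :=
    isCharacter_sub_of_classInner_ne_zero hζT ⟨fun _ => 1, isIrrCharacter_one⟩ h4
  -- step 4
  set A : T → ℂ := (fun t : T => (ζ : G → ℂ) t) - fun _ : T => (1 : ℂ) with hAdef
  set B : T → ℂ := (fun t : T => χ t) - η with hBdef
  have hR : IsCharacter T (A * η + (fun t : T => (ζ : G → ℂ) t) * B) :=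
    isCharacter_add (isCharacter_mul hA (isCharacter_of_isIrrCharacter hη))
      (isCharacter_mul hζT hB)
  have h5 : (fun t : T => (ζ : G → ℂ) t * χ t) =
      η + (A * η + (fun t : T => (ζ : G → ℂ) t) * B) := by
    funext t
    simp only [hAdef, hBdef, Pi.add_apply, Pi.mul_apply, Pi.sub_apply]
    ring
  obtain ⟨n, hn⟩ := exists_nat_classInner_of_isCharacter_of_isCharacter
    (isCharacter_of_isIrrCharacter hη) hR
  rw [h1, h2, h5, classInner_add_right, irr_classInner_self hη, hn]
  have : ((1 + n : ℕ) : ℂ) ≠ 0 := by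
    have h0 : 1 + n ≠ 0 := by omega
    exact_mod_cast h0
  push_cast at this
  exact this

/-- membership of a power with exponent prime to the group order -/
theorem pow_mem_iff (T : Subgroup G) (k : ℕ) (hk : k.Coprime (Nat.card G)) (y : G) :
    y ^ k ∈ T ↔ y ∈ T := by
  constructor
  · intro h
    have hc : Nat.Coprime k (orderOf y) :=
      Nat.Coprime.coprime_dvd_right (orderOf_dvd_natCard y) hk
    obtain ⟨m, hm⟩ := exists_pow_eq_self_of_coprime hc
    rw [← hm]
    exact T.pow_mem h m
  · intro h
    exact T.pow_mem h k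

/-- induction commutes with power maps of exponent prime to the group order -/
theorem indFun_pow (T : Subgroup G) (η : T → ℂ) (k : ℕ) (hk : k.Coprime (Nat.card G)) :
    indFun T (fun t : T => η (t ^ k)) = fun g => indFun T η (g ^ k) := by
  classical
  funext g
  rw [indFun_apply, indFun_apply]
  congr 1
  apply Finset.sum_congr rfl
  intro x _
  have hconj : x⁻¹ * g ^ k * x = (x⁻¹ * g * x) ^ k := by
    have := conj_pow (a := x⁻¹) (b := g) (i := k)
    simp only [inv_inv] at this
    exact this.symm
  rw [hconj]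
  set y := x⁻¹ * g * x with hy
  by_cases hyT : y ∈ T
  · have hykT : y ^ k ∈ T := T.pow_mem hyT k
    rw [extendByZero_mem T _ hyT, extendByZero_mem T _ hykT]
    rfl
  · have hykT : y ^ k ∉ T := fun h => hyT ((pow_mem_iff T k hk y).mp h)
    rw [extendByZero_not_mem T _ hyT, extendByZero_not_mem T _ hykT]

/-- the permutation character on the cosets of a proper subgroup has a nontrivial irreducible
constituent -/
theorem exists_nontrivial_constituent_perm (T : Subgroup G) [Fintype T] (hT : T ≠ ⊤) :
    ∃ ζ : IrrCharacter G, (ζ : G → ℂ) ≠ (fun _ => (1 : ℂ)) ∧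
      classInner (indFun T (fun _ => (1 : ℂ))) (ζ : G → ℂ) ≠ 0 := by
  set π := indFun T (fun _ : T => (1 : ℂ)) with hπ
  have hπc : IsCharacter G π := isCharacter_indFun T _ isCharacter_one
  have h1cl : IsClassFunction G (fun _ : G => (1 : ℂ)) :=
    isClassFunction_of_isCharacter isCharacter_one
  have h1 : classInner π (fun _ : G => (1 : ℂ)) = 1 := by
    rw [hπ, frobenius_reciprocity T _ _ h1cl]
    exact classInner_one_one
  have hsub : IsCharacter G (π - fun _ : G => (1 : ℂ)) :=
    isCharacter_sub_of_classInner_ne_zero hπc ⟨fun _ => 1, isIrrCharacter_one⟩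
      (by rw [h1]; exact one_ne_zero)
  have hne : (π - fun _ : G => (1 : ℂ)) ≠ 0 := by
    intro h0
    have h01 := congrFun h0 1
    simp only [Pi.sub_apply, Pi.zero_apply] at h01
    rw [hπ, indFun_apply_one] at h01
    have hidx : (T.index : ℂ) = 1 := by
      have : (T.index : ℂ) * 1 - 1 = 0 := h01
      linear_combination this
    have : T.index = 1 := by exact_mod_cast hidx
    exact hT (Subgroup.index_eq_one.mp this)
  obtain ⟨ζ, hζ⟩ := exists_constituent hsub hne
  have hζ1 : (ζ : G → ℂ) ≠ (fun _ => (1 : ℂ)) := by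
    intro e
    apply hζ
    rw [e, classInner_sub_left, h1, classInner_one_one]
    ring
  refine ⟨ζ, hζ1, ?_⟩
  have e : classInner π (ζ : G → ℂ) = classInner (π - fun _ : G => (1 : ℂ)) (ζ : G → ℂ) := by
    rw [classInner_sub_left, irr_classInner_eq_zero isIrrCharacter_one ζ.2 (Ne.symm hζ1)]
    ring
  rw [e]
  exact hζ

/-- **Induced case.** If `χ = η^G` is induced from a proper subgroup, then `χχ̄` and `χ'χ̄'`
(`χ' = χ ∘ (· ^ k)`) have a common nontrivial irreducible constituent. -/
theorem exists_common_of_induced (χ : G → ℂ) (hχ : IsIrrCharacter G χ) (k : ℕ)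
    (hk : k.Coprime (Nat.card G)) (T : Subgroup G) [Fintype T] (hT : T ≠ ⊤) (η : T → ℂ)
    (hη : IsIrrCharacter T η) (hind : indFun T η = χ) :
    ∃ ζ : IrrCharacter G, (ζ : G → ℂ) ≠ (fun _ => (1 : ℂ)) ∧
      classInner (absSq χ) (ζ : G → ℂ) ≠ 0 ∧
      classInner (absSq (fun g => χ (g ^ k))) (ζ : G → ℂ) ≠ 0 := by
  obtain ⟨ζ, hζ1, hζ⟩ := exists_nontrivial_constituent_perm T hT
  refine ⟨ζ, hζ1, ?_, ?_⟩
  · rw [← hind]
    exact classInner_absSq_ne_zero_of_ind T η hη (hind ▸ hχ) ζ hζ
  · have hkT : k.Coprime (Nat.card T) :=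
      Nat.Coprime.coprime_dvd_right (Subgroup.card_subgroup_dvd_card T) hk
    have hη' : IsIrrCharacter T (fun t : T => η (t ^ k)) := isIrrCharacter_pow hη k hkT
    have hχ' : IsIrrCharacter G (fun g => χ (g ^ k)) := isIrrCharacter_pow hχ k hk
    have e : (fun g => χ (g ^ k)) = indFun T (fun t : T => η (t ^ k)) := by
      rw [indFun_pow T η k hk, hind]
    rw [e]
    exact classInner_absSq_ne_zero_of_ind T _ hη' (e ▸ hχ') ζ hζ

end Cfsg.Agent.Lib.Helper7.IrrProd
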