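import Mathlib
import Cfsg.Prelude.Def_Characters
import Cfsg.Agent.Lib.Helper7.IrrProdB
import Cfsg.Agent.Lib.helper3.Ito

set_option autoImplicit false
set_option linter.style.haveILetI false
set_option linter.unusedSectionVars false

/-! Irreducible products `χ · χ^σ` (helper7): abelian normal subgroups are central. -/

namespace Cfsg.Agent.Lib.Helper7.IrrProd

open Cfsg Cfsg.Agent.Lib.helper3.Irr Cfsg.Agent.Lib.helper3.IndFun Cfsg.Agent.Lib.helper3.GalPow
open scoped ComplexConjugate

variable {G : Type*} [Group G] [Fintype G]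

/-- A faithful irreducible character is induced from a proper subgroup as soon as there is a
non-central abelian normal subgroup. -/
theorem exists_induced_of_abelian_normal (χ : G → ℂ) (hχ : IsIrrCharacter G χ)
    (hfaith : ∀ g, χ g = χ 1 → g = 1) (A : Subgroup G) [hA : A.Normal]
    (hAab : ∀ a ∈ A, ∀ b ∈ A, a * b = b * a) (hAZ : ¬ A ≤ Subgroup.center G) :
    ∃ T : Subgroup G, T ≠ ⊤ ∧ ∃ η : T → ℂ, IsIrrCharacter T η ∧ indFun T η = χ := by
  classical
  haveI : Fintype A := Fintype.ofFinite A
  have hχc : IsCharacter G χ := isCharacter_of_isIrrCharacter hχ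
  have hχA : IsCharacter A (fun a : A => χ a) := isCharacter_restrict hχc A
  have hne : (fun a : A => χ a) ≠ 0 := by
    intro h0
    have := congrFun h0 1
    simp only [Pi.zero_apply, Subgroup.coe_one] at this
    exact apply_one_ne_zero hχ this
  obtain ⟨lam, hlam⟩ := exists_constituent hχA hne
  have hcomm : ∀ a b : A, a * b = b * a := by
    intro a b
    apply Subtype.ext
    exact hAab a a.2 b b.2
  have hlam1 : (lam : A → ℂ) 1 = 1 := apply_one_eq_one_of_comm hcomm lam.2
  set T := inertia A (lam : A → ℂ) with hTdef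
  haveI : Fintype T := Fintype.ofFinite T
  have hT : ∀ g : G, g ∈ T ↔ ∀ h : A, (lam : A → ℂ) ⟨g * h * g⁻¹, hA.conj_mem h h.2 g⟩ =
      (lam : A → ℂ) h := fun g => mem_inertia_iff A _ g
  have hAT : A ≤ T := le_inertia A _ (isClassFunction_of_isCharacter
    (isCharacter_of_isIrrCharacter lam.2))
  have hTtop : T ≠ ⊤ := by
    intro htop
    apply hAZ
    apply le_center_of_faithful_of_invariant A χ hχ hfaith (lam : A → ℂ) lam.2 hlam1 hlam
    intro g a
    have hg : g ∈ T := by rw [htop]; exact Subgroup.mem_top g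
    exact (hT g).mp hg a
  obtain ⟨ψ, hψ, hind, -⟩ := clifford_corr_surjective A (lam : A → ℂ) lam.2 T hT hAT χ hχ hlam
  exact ⟨T, hTtop, ψ, hψ, hind⟩

/-- If `χ` is faithful irreducible and `χ · χ'` is irreducible (`χ' = χ ∘ (· ^ k)`), every abelian
normal subgroup is central. -/
theorem abelian_normal_le_center (χ : G → ℂ) (hχ : IsIrrCharacter G χ)
    (hfaith : ∀ g, χ g = χ 1 → g = 1) (k : ℕ) (hk : k.Coprime (Nat.card G))
    (hirr : IsIrrCharacter G (fun g => χ g * χ (g ^ k)))
    (A : Subgroup G) [hA : A.Normal] (hAab : ∀ a ∈ A, ∀ b ∈ A, a * b = b * a) :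
    A ≤ Subgroup.center G := by
  classical
  by_contra hAZ
  obtain ⟨T, hTtop, η, hη, hind⟩ := exists_induced_of_abelian_normal χ hχ hfaith A hAab hAZ
  haveI : Fintype T := Fintype.ofFinite T
  obtain ⟨ζ, hζ1, hζ, hζ'⟩ := exists_common_of_induced χ hχ k hk T hTtop η hη hind
  have hχ' : IsIrrCharacter G (fun g => χ (g ^ k)) := isIrrCharacter_pow hχ k hk
  have h := classInner_ne_one_of_common
    (isCharacter_absSq (isCharacter_of_isIrrCharacter hχ))
    (isCharacter_absSq (isCharacter_of_isIrrCharacter hχ'))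
    (by rw [classInner_absSq_one]; exact irr_classInner_self hχ)
    (by rw [classInner_absSq_one]; exact irr_classInner_self hχ') ζ hζ1 hζ hζ'
  apply h
  rw [classInner_absSq_absSq]
  exact irr_classInner_self hirr

end Cfsg.Agent.Lib.Helper7.IrrProd
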