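import Mathlib

set_option autoImplicit false
set_option linter.style.haveILetI false
set_option linter.unusedSectionVars false

/-! Irreducible products `χ · χ^σ` (helper7): group theory for the nilpotent case. -/

namespace Cfsg.Agent.Lib.Helper7.IrrProd

open scoped commutatorElement

variable {G : Type*} [Group G]

/-- central elements commute with everything -/
theorem center_comm {z : G} (hz : z ∈ Subgroup.center G) (g : G) : g * z = z * g :=
  Subgroup.mem_center_iff.mp hz g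

theorem center_conj {z : G} (hz : z ∈ Subgroup.center G) (g : G) : g * z * g⁻¹ = z := by
  rw [center_comm hz g, mul_assoc, mul_inv_cancel, mul_one]

/-- `⁅g * h, n⁆ = ⁅g, n⁆ * ⁅h, n⁆` when `⁅h, n⁆` is central -/
theorem comm_mul_left_of_central (g h n : G) (hz : ⁅h, n⁆ ∈ Subgroup.center G) :
    ⁅g * h, n⁆ = ⁅g, n⁆ * ⁅h, n⁆ := by
  have e : ⁅g * h, n⁆ = g * ⁅h, n⁆ * g⁻¹ * ⁅g, n⁆ := by
    simp only [commutatorElement_def]; group
  rw [e, center_conj hz g, center_comm hz]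

/-- `⁅g⁻¹, n⁆ = ⁅g, n⁆⁻¹` when `⁅g, n⁆` is central -/
theorem comm_inv_left_of_central (g n : G) (hz : ⁅g, n⁆ ∈ Subgroup.center G) :
    ⁅g⁻¹, n⁆ = ⁅g, n⁆⁻¹ := by
  have e : ⁅g⁻¹, n⁆ = g⁻¹ * ⁅g, n⁆⁻¹ * g⁻¹⁻¹ := by
    simp only [commutatorElement_def]; group
  rw [e, center_conj ((Subgroup.center G).inv_mem hz) g⁻¹]

/-- the elements commuting with `n` modulo the centre -/
def comCen (n : G) : Subgroup G where
  carrier := {g | ⁅g, n⁆ ∈ Subgroup.center G}
  one_mem' := by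
    show ⁅(1 : G), n⁆ ∈ Subgroup.center G
    rw [commutatorElement_one_left]; exact Subgroup.one_mem _
  mul_mem' := by
    intro a b ha hb
    show ⁅a * b, n⁆ ∈ Subgroup.center G
    rw [comm_mul_left_of_central a b n hb]
    exact Subgroup.mul_mem _ ha hb
  inv_mem' := by
    intro a ha
    show ⁅a⁻¹, n⁆ ∈ Subgroup.center G
    rw [comm_inv_left_of_central a n ha]
    exact Subgroup.inv_mem _ ha

theorem mem_comCen {n g : G} : g ∈ comCen n ↔ ⁅g, n⁆ ∈ Subgroup.center G := Iff.rfl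

/-- the elements of `M` all of whose commutators with `M` are central -/
def cenMod (M : Subgroup G) : Subgroup G where
  carrier := {m | m ∈ M ∧ ∀ x ∈ M, ⁅m, x⁆ ∈ Subgroup.center G}
  one_mem' := by
    refine ⟨M.one_mem, fun x _ => ?_⟩
    rw [commutatorElement_one_left]; exact Subgroup.one_mem _
  mul_mem' := by
    rintro a b ⟨haM, ha⟩ ⟨hbM, hb⟩
    refine ⟨M.mul_mem haM hbM, fun x hx => ?_⟩
    rw [comm_mul_left_of_central a b x (hb x hx)]
    exact Subgroup.mul_mem _ (ha x hx) (hb x hx)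
  inv_mem' := by
    rintro a ⟨haM, ha⟩
    refine ⟨M.inv_mem haM, fun x hx => ?_⟩
    rw [comm_inv_left_of_central a x (ha x hx)]
    exact Subgroup.inv_mem _ (ha x hx)

theorem mem_cenMod {M : Subgroup G} {m : G} :
    m ∈ cenMod M ↔ m ∈ M ∧ ∀ x ∈ M, ⁅m, x⁆ ∈ Subgroup.center G := Iff.rfl

theorem cenMod_le (M : Subgroup G) : cenMod M ≤ M := fun _ h => h.1

instance cenMod_normal (M : Subgroup G) [hM : M.Normal] : (cenMod M).Normal := by
  constructor
  intro m hm g
  obtain ⟨hmM, hm⟩ := hm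
  refine ⟨hM.conj_mem m hmM g, fun x hx => ?_⟩
  have e : ⁅g * m * g⁻¹, x⁆ = g * ⁅m, g⁻¹ * x * g⁻¹⁻¹⁆ * g⁻¹ := by
    simp only [commutatorElement_def]; group
  rw [e]
  have hx' : g⁻¹ * x * g⁻¹⁻¹ ∈ M := hM.conj_mem x hx g⁻¹
  rw [center_conj (hm _ hx') g]
  exact hm _ hx'

/-- commutators inside `cenMod M` are central -/
theorem comm_mem_center_of_mem_cenMod {M : Subgroup G} {a b : G} (ha : a ∈ cenMod M)
    (hb : b ∈ cenMod M) : ⁅a, b⁆ ∈ Subgroup.center G := ha.2 b hb.1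

theorem cenMod_le_comCen {M : Subgroup G} {n : G} (hn : n ∈ M) : cenMod M ≤ comCen n :=
  fun _ hm => hm.2 n hn

/-- the centre of `N`, as a subgroup of `G` -/
def cenIn (N : Subgroup G) : Subgroup G := N ⊓ Subgroup.centralizer (N : Set G)

theorem mem_cenIn {N : Subgroup G} {c : G} :
    c ∈ cenIn N ↔ c ∈ N ∧ ∀ m ∈ N, m * c = c * m := by
  unfold cenIn
  rw [Subgroup.mem_inf, Subgroup.mem_centralizer_iff]
  rfl

instance cenIn_normal (N : Subgroup G) [hN : N.Normal] : (cenIn N).Normal := by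
  constructor
  intro c hc g
  rw [mem_cenIn] at hc ⊢
  refine ⟨hN.conj_mem c hc.1 g, fun m hm => ?_⟩
  have h1 := hc.2 (g⁻¹ * m * g⁻¹⁻¹) (hN.conj_mem m hm g⁻¹)
  have e1 : m * (g * c * g⁻¹) = g * ((g⁻¹ * m * g⁻¹⁻¹) * c) * g⁻¹ := by group
  have e2 : g * c * g⁻¹ * m = g * (c * (g⁻¹ * m * g⁻¹⁻¹)) * g⁻¹ := by group
  rw [e1, e2, h1]

theorem cenIn_comm (N : Subgroup G) : ∀ a ∈ cenIn N, ∀ b ∈ cenIn N, a * b = b * a := by
  intro a ha b hb
  rw [mem_cenIn] at ha hb
  exact hb.2 a ha.1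

/-- a nilpotent normal non-central subgroup contains a non-central element whose commutators
with the subgroup are central -/
theorem exists_mem_cenMod_not_mem_center (M : Subgroup G) [hnil : Group.IsNilpotent M]
    (hM : ¬ M ≤ Subgroup.center G) : ∃ n ∈ cenMod M, n ∉ Subgroup.center G := by
  classical
  obtain ⟨c, hc⟩ := Group.IsNilpotent.nilpotent M
  let P : ℕ → Prop := fun i =>
    ¬ (Subgroup.upperCentralSeries M i).map M.subtype ≤ Subgroup.center G
  have hPc : P c := by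
    show ¬ (Subgroup.upperCentralSeries M c).map M.subtype ≤ Subgroup.center G
    rw [hc]
    intro h
    apply hM
    intro m hm
    exact h ⟨⟨m, hm⟩, Subgroup.mem_top _, rfl⟩
  have hex : ∃ i, P i := ⟨c, hPc⟩
  set i := Nat.find hex with hi
  have hPi : P i := Nat.find_spec hex
  have hi0 : i ≠ 0 := by
    intro h0
    apply hPi
    rw [h0, Subgroup.upperCentralSeries_zero, Subgroup.map_bot]
    exact bot_le
  obtain ⟨j, hj⟩ := Nat.exists_eq_succ_of_ne_zero hi0
  have hPj : ¬ P j := Nat.find_min hex (by omega)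
  have hPj' : (Subgroup.upperCentralSeries M j).map M.subtype ≤ Subgroup.center G := by
    by_contra h; exact hPj h
  have hPi' : ¬ (Subgroup.upperCentralSeries M (j + 1)).map M.subtype ≤ Subgroup.center G := by
    have := hPi
    rw [hj] at this
    exact this
  rw [SetLike.not_le_iff_exists] at hPi'
  obtain ⟨n, hn, hnZ⟩ := hPi'
  obtain ⟨u, hu, rfl⟩ := hn
  refine ⟨(u : G), ⟨u.2, fun x hx => ?_⟩, hnZ⟩
  have h1 := Subgroup.mem_upperCentralSeries_succ_iff.mp hu ⟨x, hx⟩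
  apply hPj'
  refine ⟨⁅u, ⟨x, hx⟩⁆, h1, ?_⟩
  simp [commutatorElement_def]

end Cfsg.Agent.Lib.Helper7.IrrProd
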