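import Mathlib
import Cfsg.Prelude.Def_Characters
import Cfsg.Agent.Lib.Helper7.IrrProdC
import Cfsg.Agent.Lib.Helper7.IrrProdD
import Cfsg.Agent.Lib.helper3.Pf4e
import Cfsg.Agent.Lib.helper3.DeficiencyClass

set_option autoImplicit false
set_option linter.style.haveILetI false
set_option linter.unusedSectionVars false

/-! Irreducible products `χ · χ^σ` (helper7): the central character and the linear character
`g ↦ ω(⁅g, n⁆)`. -/

namespace Cfsg.Agent.Lib.Helper7.IrrProd

open Cfsg Cfsg.Agent.Lib.helper3.Irr Cfsg.Agent.Lib.helper3.IndFun Cfsg.Agent.Lib.helper3.GalPow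
open Cfsg.Agent.Lib.helper3.CycTI Cfsg.Agent.Lib.helper3.Pf4
open scoped ComplexConjugate commutatorElement

variable {G : Type*} [Group G] [Fintype G]

/-- the central character of `χ`, as a function on `G` -/
noncomputable def cenChar (χ : G → ℂ) : G → ℂ := fun z => χ z / χ 1

theorem apply_center_mul {χ : G → ℂ} (hχ : IsIrrCharacter G χ) {z : G}
    (hz : z ∈ Subgroup.center G) (g : G) : χ (z * g) = cenChar χ z * χ g := by
  obtain ⟨c, -, hc⟩ := Cfsg.Agent.Lib.helper3.Block.exists_integral_apply_central_mul ⟨χ, hχ⟩ z hz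
  have h1 := hc 1
  simp only [mul_one] at h1
  have h0 : χ 1 ≠ 0 := apply_one_ne_zero hχ
  have hcz : c = cenChar χ z := by
    unfold cenChar
    rw [h1]
    field_simp
  rw [← hcz]
  exact hc g

theorem cenChar_one {χ : G → ℂ} (hχ : IsIrrCharacter G χ) : cenChar χ 1 = 1 := by
  unfold cenChar
  exact div_self (apply_one_ne_zero hχ)

theorem cenChar_mul {χ : G → ℂ} (hχ : IsIrrCharacter G χ) {z z' : G}
    (hz : z ∈ Subgroup.center G) : cenChar χ (z * z') = cenChar χ z * cenChar χ z' := by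
  unfold cenChar
  rw [apply_center_mul hχ hz z']
  unfold cenChar
  ring

theorem cenChar_ne_zero {χ : G → ℂ} (hχ : IsIrrCharacter G χ) {z : G}
    (hz : z ∈ Subgroup.center G) : cenChar χ z ≠ 0 := by
  intro h0
  have h := cenChar_mul hχ hz (z' := z⁻¹)
  rw [mul_inv_cancel, cenChar_one hχ, h0, zero_mul] at h
  exact one_ne_zero h

theorem eq_one_of_cenChar_eq_one {χ : G → ℂ} (hχ : IsIrrCharacter G χ)
    (hfaith : ∀ g, χ g = χ 1 → g = 1) {z : G} (h : cenChar χ z = 1) : z = 1 := by
  apply hfaith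
  unfold cenChar at h
  have h0 : χ 1 ≠ 0 := apply_one_ne_zero hχ
  field_simp at h
  exact h

theorem cenChar_inj {χ : G → ℂ} (hχ : IsIrrCharacter G χ)
    (hfaith : ∀ g, χ g = χ 1 → g = 1) {z z' : G} (hz : z ∈ Subgroup.center G)
    (hz' : z' ∈ Subgroup.center G) (h : cenChar χ z = cenChar χ z') : z = z' := by
  have h1 : cenChar χ (z * z'⁻¹) = 1 := by
    rw [cenChar_mul hχ hz, h, ← cenChar_mul hχ hz', mul_inv_cancel, cenChar_one hχ]
  have := eq_one_of_cenChar_eq_one hχ hfaith h1
  exact mul_inv_eq_one.mp this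

/-- the linear character `g ↦ ω(⁅g, n⁆)` of `comCen n` -/
noncomputable def lamHom {χ : G → ℂ} (hχ : IsIrrCharacter G χ) (n : G) : comCen n →* ℂˣ where
  toFun g := Units.mk0 (cenChar χ ⁅(g : G), n⁆) (cenChar_ne_zero hχ g.2)
  map_one' := by
    apply Units.ext
    simp [commutatorElement_one_left, cenChar_one hχ]
  map_mul' := by
    intro a b
    apply Units.ext
    simp only [Subgroup.coe_mul, Units.val_mk0, Units.val_mul]
    rw [comm_mul_left_of_central _ _ _ b.2, cenChar_mul hχ a.2]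

theorem lamHom_apply {χ : G → ℂ} (hχ : IsIrrCharacter G χ) (n : G) (g : comCen n) :
    ((lamHom hχ n g : ℂˣ) : ℂ) = cenChar χ ⁅(g : G), n⁆ := rfl

/-- **Key vanishing property.** -/
theorem comm_eq_one_of_apply_ne_zero {χ : G → ℂ} (hχ : IsIrrCharacter G χ)
    (hfaith : ∀ g, χ g = χ 1 → g = 1) {n g : G} (hg : g ∈ comCen n) (h : χ g ≠ 0) :
    ⁅g, n⁆ = 1 := by
  have hcl := isClassFunction_of_isCharacter (isCharacter_of_isIrrCharacter hχ) g n
  have e : n * g * n⁻¹ = ⁅g, n⁆⁻¹ * g := by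
    simp only [commutatorElement_def]; group
  have hz : ⁅g, n⁆⁻¹ ∈ Subgroup.center G := Subgroup.inv_mem _ hg
  rw [e, apply_center_mul hχ hz] at hcl
  have h1 : cenChar χ ⁅g, n⁆⁻¹ = 1 := by
    have : (cenChar χ ⁅g, n⁆⁻¹ - 1) * χ g = 0 := by linear_combination hcl
    rcases mul_eq_zero.mp this with h2 | h2
    · linear_combination h2
    · exact absurd h2 h
  have := eq_one_of_cenChar_eq_one hχ hfaith h1
  exact inv_eq_one.mp this

theorem lamHom_eq_one_of_apply_ne_zero {χ : G → ℂ} (hχ : IsIrrCharacter G χ)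
    (hfaith : ∀ g, χ g = χ 1 → g = 1) (n : G) (g : comCen n) (h : χ (g : G) ≠ 0) :
    lamHom hχ n g = 1 := by
  apply Units.ext
  rw [lamHom_apply, comm_eq_one_of_apply_ne_zero hχ hfaith g.2 h, cenChar_one hχ]
  rfl

theorem lamHom_eq_one_of_apply_pow_ne_zero {χ : G → ℂ} (hχ : IsIrrCharacter G χ)
    (hfaith : ∀ g, χ g = χ 1 → g = 1) (n : G) (k : ℕ) (hk : k.Coprime (Nat.card G))
    (g : comCen n) (h : χ ((g : G) ^ k) ≠ 0) : lamHom hχ n g = 1 := by
  have h1 : lamHom hχ n (g ^ k) = 1 :=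
    lamHom_eq_one_of_apply_ne_zero hχ hfaith n (g ^ k) (by simpa using h)
  rw [map_pow] at h1
  have hd1 : orderOf (lamHom hχ n g) ∣ k := orderOf_dvd_of_pow_eq_one h1
  have hd2 : orderOf (lamHom hχ n g) ∣ Nat.card G :=
    ((orderOf_map_dvd _ g).trans (orderOf_dvd_natCard g)).trans
      (Subgroup.card_subgroup_dvd_card (comCen n))
  have : orderOf (lamHom hχ n g) = 1 := Nat.eq_one_of_dvd_coprimes hk hd1 hd2
  exact orderOf_eq_one_iff.mp this

/-- a linear character equal to `1` wherever `F` does not vanish induces to a constituent of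
`|F|²` -/
theorem classInner_ind_absSq_ne_zero (H : Subgroup G) [Fintype H] (lam : H →* ℂˣ) (F : G → ℂ)
    (hF : IsClassFunction G (absSq F)) (hF1 : F 1 ≠ 0)
    (hkey : ∀ h : H, F (h : G) ≠ 0 → lam h = 1) :
    classInner (indFun H (linFun lam)) (absSq F) ≠ 0 := by
  rw [frobenius_reciprocity H _ _ hF, classInner_apply]
  have hterm : ∀ h : H, linFun lam h * conj (absSq F (h : G)) =
      ((Complex.normSq (F (h : G)) : ℝ) : ℂ) := by
    intro h
    by_cases h0 : F (h : G) = 0
    · simp [absSq, h0]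
    · rw [linFun, hkey h h0]
      simp only [absSq, Units.val_one, one_mul, map_mul, Complex.conj_conj]
      rw [mul_comm, Complex.mul_conj]
  rw [Finset.sum_congr rfl (fun h _ => hterm h), ← Complex.ofReal_sum]
  apply mul_ne_zero
  · exact inv_ne_zero (card_ne_zero_complex H)
  · have hpos : 0 < ∑ h : H, Complex.normSq (F (h : G)) := by
      apply Finset.sum_pos'
      · intro h _; exact Complex.normSq_nonneg _
      · exact ⟨1, Finset.mem_univ _, by
          simpa using Complex.normSq_pos.mpr hF1⟩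
    exact_mod_cast hpos.ne'

end Cfsg.Agent.Lib.Helper7.IrrProd
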