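import Mathlib
import Cfsg.Prelude.Def_Characters
import Cfsg.Prelude.Def_Solvable
import Cfsg.Agent.Lib.Helper7.IrrProdE

set_option autoImplicit false
set_option linter.style.haveILetI false
set_option linter.unusedSectionVars false

/-! Irreducible products `χ · χ^σ` (helper7): the nilpotent case and the main theorem. -/

namespace Cfsg.Agent.Lib.Helper7.IrrProd

open Cfsg Cfsg.Agent.Lib.helper3.Irr Cfsg.Agent.Lib.helper3.IndFun Cfsg.Agent.Lib.helper3.GalPow
open Cfsg.Agent.Lib.helper3.CycTI Cfsg.Agent.Lib.helper3.Pf4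
open scoped ComplexConjugate commutatorElement

variable {G : Type*} [Group G] [Fintype G]

/-- the inertia condition: conjugation by `g` fixes all the values `ω(⁅m, n⁆)`, `m ∈ N`, only
if `⁅g, n⁆` is central -/
theorem mem_comCen_of_invariant {χ : G → ℂ} (hχ : IsIrrCharacter G χ)
    (hfaith : ∀ g, χ g = χ 1 → g = 1) (M : Subgroup G) [hM : M.Normal]
    (hcen : cenIn (cenMod M) ≤ Subgroup.center G) {n : G} (hn : n ∈ cenMod M) (g : G)
    (h : ∀ m ∈ cenMod M, cenChar χ ⁅g * m * g⁻¹, n⁆ = cenChar χ ⁅m, n⁆) : g ∈ comCen n := by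
  have hNn : (cenMod M).Normal := cenMod_normal M
  set n' := g⁻¹ * n * g⁻¹⁻¹ with hn'
  have hn'N : n' ∈ cenMod M := hNn.conj_mem n hn g⁻¹
  -- commutators agree
  have h1 : ∀ m ∈ cenMod M, ⁅m, n'⁆ = ⁅m, n⁆ := by
    intro m hm
    have hz1 : ⁅m, n'⁆ ∈ Subgroup.center G := comm_mem_center_of_mem_cenMod hm hn'N
    have hz2 : ⁅m, n⁆ ∈ Subgroup.center G := comm_mem_center_of_mem_cenMod hm hn
    have e : ⁅g * m * g⁻¹, n⁆ = g * ⁅m, n'⁆ * g⁻¹ := by
      simp only [commutatorElement_def, hn']; group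
    have h2 := h m hm
    rw [e, center_conj hz1 g] at h2
    exact cenChar_inj hχ hfaith hz1 hz2 h2
  -- `c = n⁻¹ n'` centralizes `N`
  set c := n⁻¹ * n' with hc
  have hcN : c ∈ cenMod M := Subgroup.mul_mem _ (Subgroup.inv_mem _ hn) hn'N
  have hcc : ∀ m ∈ cenMod M, m * c = c * m := by
    intro m hm
    have h2 := h1 m⁻¹ (Subgroup.inv_mem _ hm)
    simp only [commutatorElement_def, inv_inv] at h2
    -- h2 : m⁻¹ * n' * m * n'⁻¹ = m⁻¹ * n * m * n⁻¹
    have h3 : n' * m * n'⁻¹ = n * m * n⁻¹ := by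
      have := congrArg (fun t => m * t) h2
      have e1 : m * (m⁻¹ * n' * m * n'⁻¹) = n' * m * n'⁻¹ := by group
      have e2 : m * (m⁻¹ * n * m * n⁻¹) = n * m * n⁻¹ := by group
      have this' : m * (m⁻¹ * n' * m * n'⁻¹) = m * (m⁻¹ * n * m * n⁻¹) := this
      rw [e1, e2] at this'
      exact this'
    have e3 : c * m = n⁻¹ * (n' * m * n'⁻¹) * n' := by rw [hc]; group
    have e4 : m * c = n⁻¹ * (n * m * n⁻¹) * n' := by rw [hc]; group
    rw [e3, e4, h3]
  have hcZ : c ∈ Subgroup.center G := hcen (mem_cenIn.mpr ⟨hcN, hcc⟩)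
  rw [mem_comCen]
  have e5 : ⁅g, n⁆ = (g * n) * c⁻¹ * (g * n)⁻¹ := by
    simp only [commutatorElement_def, hc, hn']; group
  rw [e5, center_conj (Subgroup.inv_mem _ hcZ)]
  exact Subgroup.inv_mem _ hcZ

/-- the induced character `λ^G` is irreducible -/
theorem isIrrCharacter_ind_lamHom {χ : G → ℂ} (hχ : IsIrrCharacter G χ)
    (hfaith : ∀ g, χ g = χ 1 → g = 1) (M : Subgroup G) [hM : M.Normal]
    (hcen : cenIn (cenMod M) ≤ Subgroup.center G) {n : G} (hn : n ∈ cenMod M) :
    IsIrrCharacter G (indFun (comCen n) (linFun (lamHom hχ n))) := by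
  classical
  haveI hNn : (cenMod M).Normal := cenMod_normal M
  haveI : Fintype (cenMod M) := Fintype.ofFinite _
  haveI : Fintype (comCen n) := Fintype.ofFinite _
  have hNT : cenMod M ≤ comCen n := cenMod_le_comCen hn.1
  set lam := lamHom hχ n with hlam
  set α : cenMod M → ℂ := linFun (lam.comp (Subgroup.inclusion hNT)) with hα
  have hαirr : IsIrrCharacter (cenMod M) α := isIrrCharacter_linFun _
  have hαapp : ∀ (m : G) (hm : m ∈ cenMod M), α ⟨m, hm⟩ = cenChar χ ⁅m, n⁆ := by
    intro m hm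
    rfl
  have hT : ∀ g : G, g ∈ comCen n ↔ ∀ h : cenMod M,
      α ⟨g * h * g⁻¹, hNn.conj_mem h h.2 g⟩ = α h := by
    intro g
    constructor
    · intro hg h
      have e : (⟨g * (h : G) * g⁻¹, hNT (hNn.conj_mem h h.2 g)⟩ : comCen n) =
          ⟨g, hg⟩ * ⟨(h : G), hNT h.2⟩ * ⟨g, hg⟩⁻¹ := rfl
      show ((lam ⟨g * (h : G) * g⁻¹, hNT (hNn.conj_mem h h.2 g)⟩ : ℂˣ) : ℂ) =
        ((lam ⟨(h : G), hNT h.2⟩ : ℂˣ) : ℂ)
      rw [e, map_mul, map_mul, map_inv, mul_comm (lam ⟨g, hg⟩), mul_inv_cancel_right]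
    · intro h
      apply mem_comCen_of_invariant hχ hfaith M hcen hn g
      intro m hm
      have := h ⟨m, hm⟩
      rw [hαapp, hαapp] at this
      exact this
  have hlamirr : IsIrrCharacter (comCen n) (linFun lam) := isIrrCharacter_linFun lam
  have hc : classInner (indFun ((cenMod M).subgroupOf (comCen n))
      (subFun (cenMod M) (comCen n) α)) (linFun lam) ≠ 0 := by
    haveI : Fintype ((cenMod M).subgroupOf (comCen n)) := Fintype.ofFinite _
    rw [frobenius_reciprocity _ _ _ (isClassFunction_of_isCharacter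
      (isCharacter_of_isIrrCharacter hlamirr))]
    have e : (fun x : (cenMod M).subgroupOf (comCen n) => linFun lam (x : comCen n)) =
        subFun (cenMod M) (comCen n) α := rfl
    rw [e, irr_classInner_self (isIrrCharacter_subFun hNT hαirr)]
    exact one_ne_zero
  exact (clifford_corr_injective (cenMod M) (comCen n) α hαirr hT hNT (linFun lam) (linFun lam)
    hlamirr hlamirr hc hc).1

/-- the linear character `λ` is nontrivial -/
theorem lamHom_ne_one {χ : G → ℂ} (hχ : IsIrrCharacter G χ)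
    (hfaith : ∀ g, χ g = χ 1 → g = 1) (M : Subgroup G)
    (hcen : cenIn (cenMod M) ≤ Subgroup.center G) {n : G} (hn : n ∈ cenMod M)
    (hnZ : n ∉ Subgroup.center G) : lamHom hχ n ≠ 1 := by
  intro h1
  apply hnZ
  apply hcen
  rw [mem_cenIn]
  refine ⟨hn, fun m hm => ?_⟩
  have hmT : m ∈ comCen n := cenMod_le_comCen hn.1 hm
  have h2 : ((lamHom hχ n ⟨m, hmT⟩ : ℂˣ) : ℂ) = 1 := by rw [h1]; rfl
  rw [lamHom_apply] at h2
  have h3 : ⁅m, n⁆ = 1 := eq_one_of_cenChar_eq_one hχ hfaith h2
  exact commutatorElement_eq_one_iff_mul_comm.mp h3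

/-- **Nilpotent case.** -/
theorem exists_common_of_nilpotent (χ : G → ℂ) (hχ : IsIrrCharacter G χ)
    (hfaith : ∀ g, χ g = χ 1 → g = 1) (k : ℕ) (hk : k.Coprime (Nat.card G))
    (habel : ∀ A : Subgroup G, A.Normal → (∀ a ∈ A, ∀ b ∈ A, a * b = b * a) →
      A ≤ Subgroup.center G)
    (M : Subgroup G) [hM : M.Normal] [hnil : Group.IsNilpotent M]
    (hMZ : ¬ M ≤ Subgroup.center G) :
    ∃ ζ : IrrCharacter G, (ζ : G → ℂ) ≠ (fun _ => (1 : ℂ)) ∧
      classInner (absSq χ) (ζ : G → ℂ) ≠ 0 ∧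
      classInner (absSq (fun g => χ (g ^ k))) (ζ : G → ℂ) ≠ 0 := by
  classical
  obtain ⟨n, hn, hnZ⟩ := exists_mem_cenMod_not_mem_center M hMZ
  haveI hNn : (cenMod M).Normal := cenMod_normal M
  have hcen : cenIn (cenMod M) ≤ Subgroup.center G :=
    habel _ (cenIn_normal _) (cenIn_comm _)
  haveI : Fintype (comCen n) := Fintype.ofFinite _
  have hirr := isIrrCharacter_ind_lamHom hχ hfaith M hcen hn
  have hχ' : IsIrrCharacter G (fun g => χ (g ^ k)) := isIrrCharacter_pow hχ k hk
  refine ⟨⟨_, hirr⟩, ?_, ?_, ?_⟩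
  · -- nontrivial
    intro h1
    have hne := lamHom_ne_one hχ hfaith M hcen hn hnZ
    have h2 : classInner (indFun (comCen n) (linFun (lamHom hχ n))) (fun _ : G => (1 : ℂ)) = 1 := by
      have : (indFun (comCen n) (linFun (lamHom hχ n))) = fun _ : G => (1 : ℂ) := h1
      rw [this]
      exact classInner_one_one
    rw [frobenius_reciprocity _ _ _ (isClassFunction_of_isCharacter isCharacter_one)] at h2
    have e : (fun _ : comCen n => (1 : ℂ)) = linFun (1 : comCen n →* ℂˣ) := by
      funext x; simp [linFun]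
    rw [e, classInner_linFun, if_neg hne] at h2
    exact zero_ne_one h2
  · rw [← classInner_conj_symm]
    intro h0
    have h1 := classInner_ind_absSq_ne_zero (comCen n) (lamHom hχ n) χ
      (isClassFunction_of_isCharacter (isCharacter_absSq (isCharacter_of_isIrrCharacter hχ)))
      (apply_one_ne_zero hχ) (fun h hh => lamHom_eq_one_of_apply_ne_zero hχ hfaith n h hh)
    apply h1
    have := congrArg conj h0
    simpa using this
  · rw [← classInner_conj_symm]
    intro h0
    have h1 := classInner_ind_absSq_ne_zero (comCen n) (lamHom hχ n) (fun g => χ (g ^ k))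
      (isClassFunction_of_isCharacter (isCharacter_absSq (isCharacter_of_isIrrCharacter hχ')))
      (by simpa using apply_one_ne_zero hχ)
      (fun h hh => lamHom_eq_one_of_apply_pow_ne_zero hχ hfaith n k hk h hh)
    apply h1
    have := congrArg conj h0
    simpa using this

/-- **Main theorem.** If `χ` is a faithful irreducible character and `χ · χ^σ` is irreducible for
the Galois conjugate `χ^σ = χ ∘ (· ^ k)`, then `F(G) = Z(G)`. -/
theorem fitting_eq_center (χ : G → ℂ) (hχ : IsIrrCharacter G χ)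
    (hfaith : ∀ g, χ g = χ 1 → g = 1) (k : ℕ) (hk : k.Coprime (Nat.card G))
    (hirr : IsIrrCharacter G (fun g => χ g * χ (g ^ k))) :
    Cfsg.fittingSubgroup G = Subgroup.center G := by
  classical
  apply le_antisymm
  · apply sSup_le
    rintro M ⟨hMn, hMnil⟩
    haveI := hMn
    haveI := hMnil
    by_contra hMZ
    have habel := fun (A : Subgroup G) (hA : A.Normal) hAab =>
      @abelian_normal_le_center G _ _ χ hχ hfaith k hk hirr A hA hAab
    obtain ⟨ζ, hζ1, hζ, hζ'⟩ := exists_common_of_nilpotent χ hχ hfaith k hk habel M hMZ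
    have hχ' : IsIrrCharacter G (fun g => χ (g ^ k)) := isIrrCharacter_pow hχ k hk
    have h := classInner_ne_one_of_common
      (isCharacter_absSq (isCharacter_of_isIrrCharacter hχ))
      (isCharacter_absSq (isCharacter_of_isIrrCharacter hχ'))
      (by rw [classInner_absSq_one]; exact irr_classInner_self hχ)
      (by rw [classInner_absSq_one]; exact irr_classInner_self hχ') ζ hζ1 hζ hζ'
    apply h
    rw [classInner_absSq_absSq]
    exact irr_classInner_self hirr
  · apply le_sSup
    refine ⟨inferInstance, ?_⟩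
    letI : CommGroup (Subgroup.center G) :=
      { (inferInstance : Group (Subgroup.center G)) with
        mul_comm := fun a b => by
          apply Subtype.ext
          exact (Subgroup.mem_center_iff.mp b.2 (a : G)) }
    exact CommGroup.isNilpotent

end Cfsg.Agent.Lib.Helper7.IrrProd
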