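import Mathlib
import Cfsg.Prelude.Def_FusionSystem
import Cfsg.Prelude.Def_FusionComponents
import Cfsg.Agent.Lib.Helper7.FactorHyperfocal
import Cfsg.Agent.Lib.Helper7.StrongInv

/-!
# Isomorphisms of fusion systems, part A: the relation `IsIso`, inverse, composition, images

`IsIso θ F E` : the injective homomorphism `θ : S →* Ω'` carries the fusion system `F` over `S`
isomorphically onto the fusion system `E` over `S' = θ(S)`.  It is equivalent to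
`F.IsFactorSystem ⊥ θ E`.
-/

set_option autoImplicit false
set_option linter.unusedSectionVars false
set_option linter.unusedVariables false
set_option linter.style.haveILetI false

namespace Cfsg.Agent.Lib.Helper7.Iso

open Cfsg Cfsg.FusionSystem Cfsg.Agent.Lib.Helper7

variable {Ω : Type*} [Group Ω] {S : Subgroup Ω} {Ω' : Type*} [Group Ω'] {S' : Subgroup Ω'}

/-- `φ'` (with source `P'`) corresponds to `φ` (with source `P`) under `θ`: it is induced along `θ`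
and `P'` is exactly the image of `P`. -/
def Corr (θ : S →* Ω') {P : Subgroup Ω} (φ : P →* Ω) {P' : Subgroup Ω'} (φ' : P' →* Ω') : Prop :=
  InducedAlong θ φ φ' ∧ ∀ y : P', ∃ (x : P) (h : (x : Ω) ∈ S), θ ⟨x, h⟩ = (y : Ω')

theorem Corr.le {θ : S →* Ω'} {P : Subgroup Ω} {φ : P →* Ω} {P' : Subgroup Ω'} {φ' : P' →* Ω'}
    (h : Corr θ φ φ') : P ≤ S := h.1.1

theorem Corr.map_mem {θ : S →* Ω'} {P : Subgroup Ω} {φ : P →* Ω} {P' : Subgroup Ω'} {φ' : P' →* Ω'}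
    (h : Corr θ φ φ') (x : P) : φ x ∈ S := h.1.2.1 x

theorem Corr.mem {θ : S →* Ω'} {P : Subgroup Ω} {φ : P →* Ω} {P' : Subgroup Ω'} {φ' : P' →* Ω'}
    (h : Corr θ φ φ') (x : P) : θ ⟨x, h.le x.2⟩ ∈ P' := h.1.2.2.1 x

theorem Corr.eq {θ : S →* Ω'} {P : Subgroup Ω} {φ : P →* Ω} {P' : Subgroup Ω'} {φ' : P' →* Ω'}
    (h : Corr θ φ φ') (x : P) (hx : θ ⟨x, h.le x.2⟩ ∈ P') :
    φ' ⟨θ ⟨x, h.le x.2⟩, hx⟩ = θ ⟨φ x, h.map_mem x⟩ := h.1.2.2.2 x

theorem Corr.surj {θ : S →* Ω'} {P : Subgroup Ω} {φ : P →* Ω} {P' : Subgroup Ω'} {φ' : P' →* Ω'}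
    (h : Corr θ φ φ') (y : P') : ∃ x : P, θ ⟨x, h.le x.2⟩ = (y : Ω') := by
  obtain ⟨x, hx, hxy⟩ := h.2 y
  exact ⟨x, hxy⟩

theorem Corr.mk' {θ : S →* Ω'} {P : Subgroup Ω} {φ : P →* Ω} {P' : Subgroup Ω'} {φ' : P' →* Ω'}
    (hP : P ≤ S) (hφ : ∀ x : P, φ x ∈ S) (hP' : ∀ x : P, θ ⟨x, hP x.2⟩ ∈ P')
    (hsurj : ∀ y : P', ∃ x : P, θ ⟨x, hP x.2⟩ = (y : Ω'))
    (heq : ∀ x : P, φ' ⟨θ ⟨x, hP x.2⟩, hP' x⟩ = θ ⟨φ x, hφ x⟩) : Corr θ φ φ' :=
  ⟨⟨hP, hφ, hP', heq⟩, fun y => by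
    obtain ⟨x, hx⟩ := hsurj y
    exact ⟨x, hP x.2, hx⟩⟩

/-- the isomorphism relation -/
structure IsIso (θ : S →* Ω') (F : FusionSystem S) (E : FusionSystem S') : Prop where
  inj : Function.Injective θ
  range : θ.range = S'
  push : ∀ {P : Subgroup Ω} {φ : P →* Ω}, φ ∈ F.Hom P → ∀ {P' : Subgroup Ω'} (φ' : P' →* Ω'),
    Corr θ φ φ' → φ' ∈ E.Hom P'
  pull : ∀ {P' : Subgroup Ω'} {φ' : P' →* Ω'}, φ' ∈ E.Hom P' →
    ∃ (P : Subgroup Ω) (φ : P →* Ω), φ ∈ F.Hom P ∧ Corr θ φ φ'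

theorem IsIso.map_mem {θ : S →* Ω'} {F : FusionSystem S} {E : FusionSystem S'} (h : IsIso θ F E)
    (s : S) : θ s ∈ S' := by
  rw [← h.range]; exact ⟨s, rfl⟩

theorem IsIso.exists_preimage {θ : S →* Ω'} {F : FusionSystem S} {E : FusionSystem S'}
    (h : IsIso θ F E) {y : Ω'} (hy : y ∈ S') : ∃ s : S, θ s = y := by
  rw [← h.range] at hy; exact hy

/-- the source of a corresponding map is determined -/
theorem Corr.mem_iff {θ : S →* Ω'} (hinj : Function.Injective θ) {P : Subgroup Ω} {φ : P →* Ω}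
    {P' : Subgroup Ω'} {φ' : P' →* Ω'} (h : Corr θ φ φ') (s : S) : (s : Ω) ∈ P ↔ θ s ∈ P' := by
  constructor
  · intro hs
    exact h.mem ⟨s, hs⟩
  · intro hs
    obtain ⟨x, hx⟩ := h.surj ⟨θ s, hs⟩
    have : (⟨x, h.le x.2⟩ : S) = s := hinj hx
    rw [← this]; exact x.2

theorem isIso_of_isFactorSystem {θ : S →* Ω'} {F : FusionSystem S} {E : FusionSystem S'}
    (h : F.IsFactorSystem ⊥ θ E) : IsIso θ F E := by
  obtain ⟨-, hker, hrange, hHom⟩ := h
  have hinj : Function.Injective θ := by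
    rw [injective_iff_map_eq_one]
    intro s hs
    have := (hker s).mp hs
    rw [Subgroup.mem_bot] at this
    exact Subtype.ext this
  refine ⟨hinj, hrange, ?_, ?_⟩
  · intro P φ hφ P' φ' hc
    rw [hHom]
    have hP'S' : P' ≤ S' := by
      intro y hy
      obtain ⟨x, hx⟩ := hc.surj ⟨y, hy⟩
      rw [← hrange]
      exact ⟨_, hx⟩
    refine ⟨hP'S', ?_⟩
    have hle : preimageAlong θ P' ≤ P := by
      intro z hz
      obtain ⟨hzS, hzP'⟩ := (mem_preimageAlong θ P' z).mp hz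
      exact (hc.mem_iff hinj ⟨z, hzS⟩).mpr hzP'
    refine ⟨φ.comp (Subgroup.inclusion hle), fs_restrict_mem F hle hφ, preimageAlong_le θ P',
      fun x => hc.map_mem _, fun x => ((mem_preimageAlong θ P' x).mp x.2).2, fun x => ?_⟩
    exact hc.eq (Subgroup.inclusion hle x) _
  · intro P' φ' hφ'
    obtain ⟨hP'S', φ, hφ, hind⟩ := (hHom P' φ').mp hφ'
    refine ⟨_, φ, hφ, hind, fun y => ?_⟩
    obtain ⟨s, hs, hsy⟩ := exists_preimage_of_mem θ S' hrange hP'S' y y.2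
    exact ⟨⟨s, hs⟩, preimageAlong_le θ P' hs, hsy⟩

theorem IsIso.isFactorSystem {θ : S →* Ω'} {F : FusionSystem S} {E : FusionSystem S'}
    (h : IsIso θ F E) : F.IsFactorSystem ⊥ θ E := by
  refine ⟨bot_le, fun s => ?_, h.range, fun P' φ' => ⟨fun hφ' => ?_, fun hφ' => ?_⟩⟩
  · rw [Subgroup.mem_bot]
    constructor
    · intro hs
      have : s = 1 := h.inj (by rw [hs, map_one])
      rw [this]; rfl
    · intro hs
      have : s = 1 := Subtype.ext hs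
      rw [this, map_one]
  · obtain ⟨P, φ, hφ, hc⟩ := h.pull hφ'
    have hP'S' : P' ≤ S' := by
      intro y hy
      obtain ⟨x, hx⟩ := hc.surj ⟨y, hy⟩
      rw [← h.range]
      exact ⟨_, hx⟩
    refine ⟨hP'S', ?_⟩
    have hle : preimageAlong θ P' ≤ P := by
      intro z hz
      obtain ⟨hzS, hzP'⟩ := (mem_preimageAlong θ P' z).mp hz
      exact (hc.mem_iff h.inj ⟨z, hzS⟩).mpr hzP'
    refine ⟨φ.comp (Subgroup.inclusion hle), fs_restrict_mem F hle hφ, preimageAlong_le θ P',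
      fun x => hc.map_mem _, fun x => ((mem_preimageAlong θ P' x).mp x.2).2, fun x => ?_⟩
    exact hc.eq (Subgroup.inclusion hle x) _
  · obtain ⟨hP'S', φ, hφ, hind⟩ := hφ'
    refine h.push hφ φ' ⟨hind, fun y => ?_⟩
    obtain ⟨s, hs, hsy⟩ := exists_preimage_of_mem θ S' h.range hP'S' y y.2
    exact ⟨⟨s, hs⟩, preimageAlong_le θ P' hs, hsy⟩

theorem isIso_iff {θ : S →* Ω'} {F : FusionSystem S} {E : FusionSystem S'} :
    IsIso θ F E ↔ F.IsFactorSystem ⊥ θ E :=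
  ⟨IsIso.isFactorSystem, isIso_of_isFactorSystem⟩

theorem IsIso.congr {θ θ₂ : S →* Ω'} {F : FusionSystem S} {E : FusionSystem S'}
    (h : IsIso θ F E) (he : ∀ x, θ x = θ₂ x) : IsIso θ₂ F E := by
  have : θ = θ₂ := MonoidHom.ext he
  subst this
  exact h

/-! ### the induced map on the image -/

/-- the isomorphism `P ≃ θ(P)` -/
noncomputable def imageEquiv (θ : S →* Ω') (hinj : Function.Injective θ) {P : Subgroup Ω}
    (hP : P ≤ S) : P ≃* imageAlong θ P :=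
  MulEquiv.ofBijective (imageHom θ hP) ⟨by
    intro a b hab
    have h1 : (imageHom θ hP a : Ω') = imageHom θ hP b := by rw [hab]
    rw [imageHom_coe, imageHom_coe] at h1
    have h2 := hinj h1
    exact Subtype.ext (by simpa using congrArg (fun s : S => (s : Ω)) h2), imageHom_surjective θ hP⟩

theorem imageEquiv_coe (θ : S →* Ω') (hinj : Function.Injective θ) {P : Subgroup Ω}
    (hP : P ≤ S) (x : P) : ((imageEquiv θ hinj hP x : imageAlong θ P) : Ω') = θ ⟨x, hP x.2⟩ := rfl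

/-- every map of `F` has a corresponding map on the image of its source -/
theorem exists_corr (θ : S →* Ω') (hinj : Function.Injective θ) {P : Subgroup Ω} (hP : P ≤ S)
    (φ : P →* Ω) (hφ : ∀ x : P, φ x ∈ S) :
    ∃ φ' : imageAlong θ P →* Ω', Corr θ φ φ' := by
  refine ⟨(θ.comp (φ.codRestrict S hφ)).comp (imageEquiv θ hinj hP).symm.toMonoidHom, ?_⟩
  refine Corr.mk' hP hφ (fun x => (imageEquiv θ hinj hP x).2) (fun y => ?_) (fun x => ?_)
  · obtain ⟨x, hx⟩ := (imageEquiv θ hinj hP).surjective y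
    refine ⟨x, ?_⟩
    rw [← hx]; rfl
  · show θ (φ.codRestrict S hφ ((imageEquiv θ hinj hP).symm ⟨θ ⟨x, hP x.2⟩, _⟩)) = θ ⟨φ x, hφ x⟩
    have : (⟨θ ⟨x, hP x.2⟩, (imageEquiv θ hinj hP x).2⟩ : imageAlong θ P) = imageEquiv θ hinj hP x :=
      rfl
    rw [this, MulEquiv.symm_apply_apply]
    rfl

theorem IsIso.exists_push {θ : S →* Ω'} {F : FusionSystem S} {E : FusionSystem S'}
    (h : IsIso θ F E) {P : Subgroup Ω} {φ : P →* Ω} (hφ : φ ∈ F.Hom P) :
    ∃ φ' ∈ E.Hom (imageAlong θ P), Corr θ φ φ' := by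
  obtain ⟨φ', hc⟩ := exists_corr θ h.inj (F.le_of_mem hφ).1 φ (F.le_of_mem hφ).2
  exact ⟨φ', h.push hφ φ' hc, hc⟩

/-- flexible push: a homomorphism on a subgroup of the image agreeing with the transported map -/
theorem IsIso.push_sub {θ : S →* Ω'} {F : FusionSystem S} {E : FusionSystem S'}
    (h : IsIso θ F E) {P : Subgroup Ω} {φ : P →* Ω} (hφ : φ ∈ F.Hom P)
    {P' : Subgroup Ω'} (φ' : P' →* Ω')
    (hsub : ∀ y : P', ∃ x : P, θ ⟨x, (F.le_of_mem hφ).1 x.2⟩ = (y : Ω'))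
    (heq : ∀ (x : P) (hx : θ ⟨x, (F.le_of_mem hφ).1 x.2⟩ ∈ P'),
      φ' ⟨θ ⟨x, (F.le_of_mem hφ).1 x.2⟩, hx⟩ = θ ⟨φ x, (F.le_of_mem hφ).2 x⟩) :
    φ' ∈ E.Hom P' := by
  obtain ⟨φ'', hφ'', hc⟩ := h.exists_push hφ
  have hle : P' ≤ imageAlong θ P := by
    intro y hy
    obtain ⟨x, hx⟩ := hsub ⟨y, hy⟩
    exact (mem_imageAlong θ P y).mpr ⟨_, x.2, hx⟩
  refine fs_mem_of_agree E hle hφ'' φ' (fun y => ?_)
  obtain ⟨x, hx⟩ := hsub y
  have e1 : y = ⟨θ ⟨x, (F.le_of_mem hφ).1 x.2⟩, by rw [hx]; exact y.2⟩ := Subtype.ext hx.symm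
  rw [e1, heq x]
  exact (hc.eq x _).symm

/-! ### the inverse isomorphism -/

/-- the inverse of `θ`, as a homomorphism `S' →* Ω` -/
noncomputable def invHom (θ : S →* Ω') (hinj : Function.Injective θ) (hr : θ.range = S') :
    S' →* Ω :=
  S.subtype.comp ((MonoidHom.ofInjective hinj).symm.toMonoidHom.comp
    (MulEquiv.subgroupCongr hr.symm).toMonoidHom)

theorem invHom_mem (θ : S →* Ω') (hinj : Function.Injective θ) (hr : θ.range = S') (y : S') :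
    invHom θ hinj hr y ∈ S := by
  unfold invHom
  exact Subtype.property _

theorem apply_invHom (θ : S →* Ω') (hinj : Function.Injective θ) (hr : θ.range = S') (y : S') :
    θ ⟨invHom θ hinj hr y, invHom_mem θ hinj hr y⟩ = (y : Ω') := by
  unfold invHom
  have h1 := MonoidHom.apply_ofInjective_symm hinj (MulEquiv.subgroupCongr hr.symm y)
  simp only [MonoidHom.comp_apply, Subgroup.coe_subtype, MulEquiv.coe_toMonoidHom, Subtype.coe_eta]
  rw [h1]
  rfl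

theorem invHom_apply (θ : S →* Ω') (hinj : Function.Injective θ) (hr : θ.range = S') (s : S)
    (hs : θ s ∈ S') : invHom θ hinj hr ⟨θ s, hs⟩ = (s : Ω) := by
  have h1 := apply_invHom θ hinj hr ⟨θ s, hs⟩
  have h2 := hinj h1
  exact congrArg (fun s : S => (s : Ω)) h2

theorem invHom_injective (θ : S →* Ω') (hinj : Function.Injective θ) (hr : θ.range = S') :
    Function.Injective (invHom θ hinj hr) := by
  intro a b hab
  apply Subtype.ext
  rw [← apply_invHom θ hinj hr a, ← apply_invHom θ hinj hr b]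
  congr 1
  exact Subtype.ext hab

theorem invHom_range (θ : S →* Ω') (hinj : Function.Injective θ) (hr : θ.range = S') :
    (invHom θ hinj hr).range = S := by
  apply le_antisymm
  · rintro _ ⟨y, rfl⟩
    exact invHom_mem θ hinj hr y
  · intro s hs
    have h1 : θ ⟨s, hs⟩ ∈ S' := by rw [← hr]; exact ⟨_, rfl⟩
    exact ⟨⟨θ ⟨s, hs⟩, h1⟩, invHom_apply θ hinj hr ⟨s, hs⟩ h1⟩

/-- correspondence is symmetric -/
theorem Corr.symm {θ : S →* Ω'} (hinj : Function.Injective θ) (hr : θ.range = S')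
    {P : Subgroup Ω} {φ : P →* Ω} {P' : Subgroup Ω'} {φ' : P' →* Ω'} (h : Corr θ φ φ') :
    Corr (invHom θ hinj hr) φ' φ := by
  have hP'S' : P' ≤ S' := by
    intro y hy
    obtain ⟨x, hx⟩ := h.surj ⟨y, hy⟩
    rw [← hr]
    exact ⟨_, hx⟩
  have hφ'S' : ∀ y : P', φ' y ∈ S' := by
    intro y
    obtain ⟨x, hx⟩ := h.surj y
    have e1 : y = ⟨θ ⟨x, h.le x.2⟩, by rw [hx]; exact y.2⟩ := Subtype.ext hx.symm
    rw [e1, h.eq x]
    rw [← hr]; exact ⟨_, rfl⟩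
  have key : ∀ (y : P') (x : P), θ ⟨x, h.le x.2⟩ = (y : Ω') →
      invHom θ hinj hr ⟨y, hP'S' y.2⟩ = (x : Ω) := by
    intro y x hx
    have : (⟨(y : Ω'), hP'S' y.2⟩ : S') = ⟨θ ⟨x, h.le x.2⟩, by rw [hx]; exact hP'S' y.2⟩ :=
      Subtype.ext hx.symm
    rw [this]
    exact invHom_apply θ hinj hr _ _
  refine Corr.mk' hP'S' hφ'S' (fun y => ?_) (fun x => ?_) (fun y => ?_)
  · obtain ⟨x, hx⟩ := h.surj y
    rw [key y x hx]; exact x.2
  · refine ⟨⟨θ ⟨x, h.le x.2⟩, h.mem x⟩, ?_⟩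
    exact invHom_apply θ hinj hr _ _
  · obtain ⟨x, hx⟩ := h.surj y
    have e0 : (⟨invHom θ hinj hr ⟨y, hP'S' y.2⟩, by rw [key y x hx]; exact x.2⟩ : P) = x :=
      Subtype.ext (key y x hx)
    rw [e0]
    have e1 : y = ⟨θ ⟨x, h.le x.2⟩, by rw [hx]; exact y.2⟩ := Subtype.ext hx.symm
    have e2 : (⟨φ' y, hφ'S' y⟩ : S') = ⟨θ ⟨φ x, h.map_mem x⟩, by
        rw [← hr]; exact ⟨_, rfl⟩⟩ := by
      apply Subtype.ext
      show φ' y = _
      rw [e1, h.eq x]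
    rw [e2]
    exact (invHom_apply θ hinj hr ⟨φ x, h.map_mem x⟩ _).symm

theorem IsIso.symm {θ : S →* Ω'} {F : FusionSystem S} {E : FusionSystem S'} (h : IsIso θ F E) :
    IsIso (invHom θ h.inj h.range) E F := by
  refine ⟨invHom_injective θ h.inj h.range, invHom_range θ h.inj h.range, ?_, ?_⟩
  · intro P' φ' hφ' P φ hc
    obtain ⟨P₂, φ₂, hφ₂, hc₂⟩ := h.pull hφ'
    have hc₃ := hc₂.symm h.inj h.range
    -- `P = P₂` and `φ = φ₂` pointwise
    have hle : P ≤ P₂ := by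
      intro x hx
      obtain ⟨y, hy⟩ := hc.surj ⟨x, hx⟩
      have := hc₃.mem y
      rw [hy] at this
      exact this
    refine fs_mem_of_agree F hle hφ₂ φ (fun x => ?_)
    obtain ⟨y, hy⟩ := hc.surj x
    have e1 : x = ⟨invHom θ h.inj h.range ⟨y, hc.le y.2⟩, by rw [hy]; exact x.2⟩ :=
      Subtype.ext hy.symm
    have e2 : (⟨(x : Ω), hle x.2⟩ : P₂) = ⟨invHom θ h.inj h.range ⟨y, hc₃.le y.2⟩, hc₃.mem y⟩ :=
      Subtype.ext hy.symm
    rw [e2, hc₃.eq y, e1, hc.eq y]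
  · intro P φ hφ
    obtain ⟨φ', hφ', hc⟩ := h.exists_push hφ
    exact ⟨_, φ', hφ', hc.symm h.inj h.range⟩

end Cfsg.Agent.Lib.Helper7.Iso
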