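import Mathlib
import Cfsg.Agent.Lib.Helper7.IsoA

/-!
# Isomorphisms of fusion systems, part B: composition, existence of images, restriction to
subsystems, transport of `IsSubsystemOf`, `StronglyClosed`, `StrongInv`
-/

set_option autoImplicit false
set_option linter.unusedSectionVars false
set_option linter.unusedVariables false
set_option linter.style.haveILetI false

namespace Cfsg.Agent.Lib.Helper7.Iso

open Cfsg Cfsg.FusionSystem Cfsg.Agent.Lib.Helper7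

variable {Ω : Type*} [Group Ω] {S : Subgroup Ω} {Ω' : Type*} [Group Ω'] {S' : Subgroup Ω'}
  {Ω'' : Type*} [Group Ω''] {S'' : Subgroup Ω''}

/-- composition of correspondences -/
theorem Corr.comp {θ₁ : S →* Ω'} {θ₂ : S' →* Ω''} {θ₃ : S →* Ω''}
    (hS' : ∀ s : S, θ₁ s ∈ S') (h₁₂ : ∀ s : S, θ₃ s = θ₂ ⟨θ₁ s, hS' s⟩)
    {P : Subgroup Ω} {φ : P →* Ω} {P' : Subgroup Ω'} {φ' : P' →* Ω'} {P'' : Subgroup Ω''}
    {φ'' : P'' →* Ω''} (h₁ : Corr θ₁ φ φ') (h₂ : Corr θ₂ φ' φ'') : Corr θ₃ φ φ'' := by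
  have hmem : ∀ x : P, θ₃ ⟨x, h₁.le x.2⟩ ∈ P'' := by
    intro x
    rw [h₁₂]
    exact h₂.mem ⟨θ₁ ⟨x, h₁.le x.2⟩, h₁.mem x⟩
  refine Corr.mk' h₁.le h₁.map_mem hmem (fun y => ?_) (fun x => ?_)
  · obtain ⟨y', hy'⟩ := h₂.surj y
    obtain ⟨x, hx⟩ := h₁.surj y'
    refine ⟨x, ?_⟩
    rw [h₁₂, ← hy']
    congr 1
    exact Subtype.ext hx
  · have e1 : (⟨θ₃ ⟨x, h₁.le x.2⟩, hmem x⟩ : P'') =
        ⟨θ₂ ⟨((⟨θ₁ ⟨x, h₁.le x.2⟩, h₁.mem x⟩ : P') : Ω'), h₂.le (h₁.mem x)⟩,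
          h₂.mem ⟨θ₁ ⟨x, h₁.le x.2⟩, h₁.mem x⟩⟩ := Subtype.ext (h₁₂ _)
    rw [e1, h₂.eq ⟨θ₁ ⟨x, h₁.le x.2⟩, h₁.mem x⟩, h₁₂]
    congr 1
    apply Subtype.ext
    exact h₁.eq x _

theorem IsIso.comp {θ₁ : S →* Ω'} {θ₂ : S' →* Ω''} {θ₃ : S →* Ω''}
    {F : FusionSystem S} {E : FusionSystem S'} {D : FusionSystem S''}
    (h₁ : IsIso θ₁ F E) (h₂ : IsIso θ₂ E D)
    (h₁₂ : ∀ s : S, θ₃ s = θ₂ ⟨θ₁ s, h₁.map_mem s⟩) : IsIso θ₃ F D := by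
  have hrel : ∀ y : S', θ₂ y = θ₃ ⟨invHom θ₁ h₁.inj h₁.range y, invHom_mem θ₁ h₁.inj h₁.range y⟩ := by
    intro y
    rw [h₁₂]
    congr 1
    exact Subtype.ext (apply_invHom θ₁ h₁.inj h₁.range y).symm
  refine ⟨?_, ?_, ?_, ?_⟩
  · intro s t hst
    rw [h₁₂, h₁₂] at hst
    have := h₂.inj hst
    exact h₁.inj (congrArg (fun y : S' => (y : Ω')) this)
  · apply le_antisymm
    · rintro _ ⟨s, rfl⟩
      rw [h₁₂]
      exact h₂.map_mem _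
    · intro z hz
      obtain ⟨y, hy⟩ := h₂.exists_preimage hz
      obtain ⟨s, hs⟩ := h₁.exists_preimage y.2
      refine ⟨s, ?_⟩
      rw [h₁₂, ← hy]
      congr 1
      exact Subtype.ext hs
  · intro P φ hφ P'' φ'' hc
    obtain ⟨φ', hφ', hc'⟩ := h₁.exists_push hφ
    have hc'' : Corr θ₂ φ' φ'' :=
      Corr.comp (θ₁ := invHom θ₁ h₁.inj h₁.range) (θ₂ := θ₃) (θ₃ := θ₂)
        (fun y => invHom_mem θ₁ h₁.inj h₁.range y) hrel (hc'.symm h₁.inj h₁.range) hc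
    exact h₂.push hφ' φ'' hc''
  · intro P'' φ'' hφ''
    obtain ⟨P', φ', hφ', hc'⟩ := h₂.pull hφ''
    obtain ⟨P, φ, hφ, hc⟩ := h₁.pull hφ'
    exact ⟨P, φ, hφ, Corr.comp h₁.map_mem h₁₂ hc hc'⟩

/-- existence of the transported map on a subgroup of the image -/
theorem IsIso.exists_push_sub {θ : S →* Ω'} {F : FusionSystem S} {E : FusionSystem S'}
    (h : IsIso θ F E) {P : Subgroup Ω} {φ : P →* Ω} (hφ : φ ∈ F.Hom P) (P' : Subgroup Ω')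
    (hsub : ∀ y : P', ∃ x : P, θ ⟨x, (F.le_of_mem hφ).1 x.2⟩ = (y : Ω')) :
    ∃ φ' ∈ E.Hom P', ∀ (x : P) (hx : θ ⟨x, (F.le_of_mem hφ).1 x.2⟩ ∈ P'),
      φ' ⟨θ ⟨x, (F.le_of_mem hφ).1 x.2⟩, hx⟩ = θ ⟨φ x, (F.le_of_mem hφ).2 x⟩ := by
  obtain ⟨φ'', hφ'', hc⟩ := h.exists_push hφ
  have hle : P' ≤ imageAlong θ P := by
    intro y hy
    obtain ⟨x, hx⟩ := hsub ⟨y, hy⟩
    exact (mem_imageAlong θ P y).mpr ⟨_, x.2, hx⟩
  refine ⟨φ''.comp (Subgroup.inclusion hle), fs_restrict_mem E hle hφ'', fun x hx => ?_⟩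
  exact hc.eq x _

/-- cancellation: if `θ₃ = θ₂ ∘ θ₁` and `θ₁`, `θ₃` are isomorphisms from `F`, then `θ₂` is one -/
theorem IsIso.cancel {θ₁ : S →* Ω'} {θ₂ : S' →* Ω''} {θ₃ : S →* Ω''}
    {F : FusionSystem S} {E : FusionSystem S'} {D : FusionSystem S''}
    (h₁ : IsIso θ₁ F E) (h₃ : IsIso θ₃ F D)
    (h₁₂ : ∀ s : S, θ₃ s = θ₂ ⟨θ₁ s, h₁.map_mem s⟩) : IsIso θ₂ E D := by
  refine IsIso.comp h₁.symm h₃ (fun y => ?_)
  rw [h₁₂]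
  congr 1
  exact Subtype.ext (apply_invHom θ₁ h₁.inj h₁.range y).symm

theorem stronglyClosed_bot (F : FusionSystem S) : F.StronglyClosed ⊥ := by
  refine ⟨bot_le, fun R hR φ hφ x => ?_⟩
  have : x = 1 := Subtype.ext (Subgroup.mem_bot.mp (hR x.2))
  rw [this, map_one]
  exact Subgroup.one_mem _

/-- the image of a fusion system under an injective homomorphism exists -/
theorem exists_image [Finite S] (F : FusionSystem S) (θ : S →* Ω') (hinj : Function.Injective θ)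
    {S' : Subgroup Ω'} (hr : θ.range = S') : ∃ E : FusionSystem S', IsIso θ F E := by
  have hker : ∀ s : S, θ s = 1 ↔ (s : Ω) ∈ (⊥ : Subgroup Ω) := by
    intro s
    rw [Subgroup.mem_bot]
    constructor
    · intro hs
      have : s = 1 := hinj (by rw [hs, map_one])
      rw [this]; rfl
    · intro hs
      have : s = 1 := Subtype.ext hs
      rw [this, map_one]
  exact ⟨factorSystem F ⊥ (stronglyClosed_bot F) θ hker S' hr,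
    isIso_of_isFactorSystem (factorSystem_isFactorSystem F ⊥ (stronglyClosed_bot F) θ hker S' hr)⟩

/-- two images of the same system coincide -/
theorem IsIso.hom_eq {θ : S →* Ω'} {F : FusionSystem S} {E₁ E₂ : FusionSystem S'}
    (h₁ : IsIso θ F E₁) (h₂ : IsIso θ F E₂) (P' : Subgroup Ω') : E₁.Hom P' = E₂.Hom P' := by
  ext φ'
  constructor
  · intro h
    obtain ⟨P, φ, hφ, hc⟩ := h₁.pull h
    exact h₂.push hφ φ' hc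
  · intro h
    obtain ⟨P, φ, hφ, hc⟩ := h₂.pull h
    exact h₁.push hφ φ' hc

/-! ### restriction to a subgroup -/

/-- the restriction of `θ` to `T ≤ S` -/
def resHom (θ : S →* Ω') {T : Subgroup Ω} (hTS : T ≤ S) : T →* Ω' := θ.comp (Subgroup.inclusion hTS)

theorem resHom_apply (θ : S →* Ω') {T : Subgroup Ω} (hTS : T ≤ S) (x : T) :
    resHom θ hTS x = θ ⟨x, hTS x.2⟩ := rfl

theorem resHom_injective (θ : S →* Ω') (hinj : Function.Injective θ) {T : Subgroup Ω} (hTS : T ≤ S) :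
    Function.Injective (resHom θ hTS) := by
  intro a b hab
  have := hinj hab
  exact Subtype.ext (congrArg (fun s : S => (s : Ω)) this)

theorem Corr.of_res {θ : S →* Ω'} {T : Subgroup Ω} {hTS : T ≤ S} {P : Subgroup Ω} {φ : P →* Ω}
    {P' : Subgroup Ω'} {φ' : P' →* Ω'} (h : Corr (resHom θ hTS) φ φ') : Corr θ φ φ' :=
  Corr.mk' (h.le.trans hTS) (fun x => hTS (h.map_mem x)) (fun x => h.mem x) (fun y => h.surj y)
    (fun x => h.eq x _)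

theorem Corr.to_res {θ : S →* Ω'} {T : Subgroup Ω} (hTS : T ≤ S) {P : Subgroup Ω} {φ : P →* Ω}
    {P' : Subgroup Ω'} {φ' : P' →* Ω'} (h : Corr θ φ φ') (hPT : P ≤ T) (hφT : ∀ x : P, φ x ∈ T) :
    Corr (resHom θ hTS) φ φ' :=
  Corr.mk' hPT hφT (fun x => h.mem x) (fun y => h.surj y) (fun x => h.eq x _)

section transport

variable {θ : S →* Ω'} {F : FusionSystem S} {F' : FusionSystem S'}
  {T : Subgroup Ω} {hTS : T ≤ S} {E : FusionSystem T} {T' : Subgroup Ω'} {E' : FusionSystem T'}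

/-- membership in the image base -/
theorem IsIso.mem_base_iff (hE : IsIso (resHom θ hTS) E E') (y : Ω') :
    y ∈ T' ↔ ∃ x : T, θ ⟨x, hTS x.2⟩ = y := by
  rw [← hE.range]
  rfl

theorem IsIso.base_le (h : IsIso θ F F') (hE : IsIso (resHom θ hTS) E E') : T' ≤ S' := by
  intro y hy
  obtain ⟨x, hx⟩ := (hE.mem_base_iff y).mp hy
  rw [← hx]
  exact h.map_mem _

theorem IsIso.mem_base_iff' (h : IsIso θ F F') (hE : IsIso (resHom θ hTS) E E') (s : S) :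
    θ s ∈ T' ↔ (s : Ω) ∈ T := by
  constructor
  · intro hs
    obtain ⟨x, hx⟩ := (hE.mem_base_iff _).mp hs
    have := h.inj hx
    rw [← this]
    exact x.2
  · intro hs
    exact (hE.mem_base_iff _).mpr ⟨⟨s, hs⟩, rfl⟩

theorem IsIso.subsystem (h : IsIso θ F F') (hE : IsIso (resHom θ hTS) E E')
    (hsub : E.IsSubsystemOf F) : E'.IsSubsystemOf F' := by
  intro P' φ' hφ'
  obtain ⟨P, φ, hφ, hc⟩ := hE.pull hφ'
  exact h.push (hsub P hφ) φ' hc.of_res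

theorem IsIso.stronglyClosed (h : IsIso θ F F') (hE : IsIso (resHom θ hTS) E E')
    (hT : F.StronglyClosed T) : F'.StronglyClosed T' := by
  refine ⟨h.base_le hE, fun R' hR' φ' hφ' y => ?_⟩
  obtain ⟨R, φ, hφ, hc⟩ := h.pull hφ'
  have hRT : R ≤ T := by
    intro x hx
    have h1 := hc.mem ⟨x, hx⟩
    exact (h.mem_base_iff' hE _).mp (hR' h1)
  obtain ⟨x, hx⟩ := hc.surj y
  have e1 : y = ⟨θ ⟨x, hc.le x.2⟩, by rw [hx]; exact y.2⟩ := Subtype.ext hx.symm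
  rw [e1, hc.eq x]
  exact (h.mem_base_iff' hE _).mpr (hT.2 R hRT φ hφ x)

theorem IsIso.strongInv (h : IsIso θ F F') (hE : IsIso (resHom θ hTS) E E')
    (hSI : StrongInv F E) : StrongInv F' E' := by
  intro P' Q' hPQ' hQT' φ' hφ' hφQ' ψ' hψ'
  obtain ⟨P, φ, hφ, hcφ⟩ := hE.pull hφ'
  obtain ⟨Q, ψ, hψ, hcψ⟩ := h.pull hψ'
  have hcφ' : Corr θ φ φ' := hcφ.of_res
  have hPQ : P ≤ Q := by
    intro x hx
    have h1 := hcφ'.mem ⟨x, hx⟩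
    exact (hcψ.mem_iff h.inj ⟨x, hcφ'.le hx⟩).mpr (hPQ' h1)
  have hQT : Q ≤ T := by
    intro x hx
    have h1 := hcψ.mem ⟨x, hx⟩
    exact (h.mem_base_iff' hE _).mp (hQT' h1)
  have hφQ : ∀ x : P, φ x ∈ Q := by
    intro x
    have h1 := hφQ' ⟨θ ⟨x, hcφ'.le x.2⟩, hcφ'.mem x⟩
    rw [hcφ'.eq x] at h1
    exact (hcψ.mem_iff h.inj ⟨φ x, hcφ'.map_mem x⟩).mpr h1
  obtain ⟨χ, hχ, hχe⟩ := hSI P Q hPQ hQT φ hφ hφQ ψ hψ
  -- the source of `χ`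
  have hsrcT : (P.subgroupOf Q).map ψ ≤ T := (E.le_of_mem hχ).1
  have hsub : ∀ y : ↥((P'.subgroupOf Q').map ψ'), ∃ a : ↥((P.subgroupOf Q).map ψ),
      resHom θ hTS ⟨a, (E.le_of_mem hχ).1 a.2⟩ = (y : Ω') := by
    rintro ⟨_, q', hq', rfl⟩
    have hq'P : (q' : Ω') ∈ P' := Subgroup.mem_subgroupOf.mp hq'
    obtain ⟨x, hx⟩ := hcφ'.surj ⟨q', hq'P⟩
    refine ⟨⟨ψ ⟨x, hPQ x.2⟩, ⟨⟨x, hPQ x.2⟩, Subgroup.mem_subgroupOf.mpr x.2, rfl⟩⟩, ?_⟩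
    show θ ⟨ψ ⟨x, hPQ x.2⟩, _⟩ = ψ' q'
    have e1 : q' = ⟨θ ⟨((⟨x, hPQ x.2⟩ : Q) : Ω), hcψ.le (hPQ x.2)⟩, hcψ.mem ⟨x, hPQ x.2⟩⟩ :=
      Subtype.ext hx.symm
    rw [e1, hcψ.eq ⟨x, hPQ x.2⟩]
  obtain ⟨χ', hχ', hχ'e⟩ := hE.exists_push_sub hχ ((P'.subgroupOf Q').map ψ') hsub
  refine ⟨χ', hχ', fun x' hx' => ?_⟩
  obtain ⟨x, hx⟩ := hcφ'.surj x'
  have e0 : x' = ⟨θ ⟨x, hcφ'.le x.2⟩, hcφ'.mem x⟩ := Subtype.ext hx.symm
  subst e0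
  have e1 : (Subgroup.inclusion hPQ' ⟨θ ⟨x, hcφ'.le x.2⟩, hcφ'.mem x⟩ : Q') =
      ⟨θ ⟨((⟨x, hPQ x.2⟩ : Q) : Ω), hcψ.le (hPQ x.2)⟩, hcψ.mem ⟨x, hPQ x.2⟩⟩ := rfl
  have e2 : ψ' (Subgroup.inclusion hPQ' ⟨θ ⟨x, hcφ'.le x.2⟩, hcφ'.mem x⟩) =
      θ ⟨ψ ⟨x, hPQ x.2⟩, hcψ.map_mem _⟩ := by
    rw [e1, hcψ.eq ⟨x, hPQ x.2⟩]
  have hmemA : ψ ⟨x, hPQ x.2⟩ ∈ (P.subgroupOf Q).map ψ :=
    ⟨⟨x, hPQ x.2⟩, Subgroup.mem_subgroupOf.mpr x.2, rfl⟩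
  have e3 : (⟨ψ' (Subgroup.inclusion hPQ' ⟨θ ⟨x, hcφ'.le x.2⟩, hcφ'.mem x⟩), hx'⟩ :
      ↥((P'.subgroupOf Q').map ψ')) =
      ⟨resHom θ hTS ⟨((⟨ψ ⟨x, hPQ x.2⟩, hmemA⟩ : ↥((P.subgroupOf Q).map ψ)) : Ω),
        (E.le_of_mem hχ).1 hmemA⟩, by rw [resHom_apply, ← e2]; exact hx'⟩ := Subtype.ext e2
  rw [e3, hχ'e ⟨ψ ⟨x, hPQ x.2⟩, hmemA⟩]
  have h4 := hχe x hmemA
  have e5 : (⟨φ' ⟨θ ⟨x, hcφ'.le x.2⟩, hcφ'.mem x⟩, hφQ' _⟩ : Q') =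
      ⟨θ ⟨((⟨φ x, hφQ x⟩ : Q) : Ω), hcψ.le (hφQ x)⟩, hcψ.mem ⟨φ x, hφQ x⟩⟩ :=
    Subtype.ext (hcφ'.eq x _)
  rw [e5, hcψ.eq ⟨φ x, hφQ x⟩, resHom_apply]
  congr 1
  exact Subtype.ext h4

end transport

end Cfsg.Agent.Lib.Helper7.Iso
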