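import Mathlib
import Cfsg.Agent.Lib.Helper7.IsoB

/-!
# Isomorphisms of fusion systems, part C: the extension condition, transport of normality and of
subnormality
-/

set_option autoImplicit false
set_option linter.unusedSectionVars false
set_option linter.unusedVariables false
set_option linter.style.haveILetI false

namespace Cfsg.Agent.Lib.Helper7.Iso

open Cfsg Cfsg.FusionSystem Cfsg.Agent.Lib.Helper7

variable {Ω : Type*} [Group Ω] {S : Subgroup Ω} {Ω' : Type*} [Group Ω'] {S' : Subgroup Ω'}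

/-- an injective homomorphism from a finite subgroup into itself is onto -/
theorem range_eq_of_forall_mem {P : Subgroup Ω} [Finite P] (b : P →* Ω) (hinj : Function.Injective b)
    (h : ∀ x, b x ∈ P) : b.range = P := by
  have hle : b.range ≤ P := by
    rintro _ ⟨x, rfl⟩
    exact h x
  refine Subgroup.eq_of_le_of_card_ge hle ?_
  have e : P ≃ b.range := Equiv.ofInjective b hinj
  rw [Nat.card_congr e]

/-- the extension condition of normality, in terms of homomorphisms -/
def ExtH (F : FusionSystem S) {T : Subgroup Ω} (E : FusionSystem T) : Prop :=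
  ∀ a ∈ E.Hom T, ∃ b ∈ F.Hom (T ⊔ centralizerIn S T),
    (∀ x : T, b (Subgroup.inclusion le_sup_left x) = a x) ∧
    ∀ c : ↥(T ⊔ centralizerIn S T), (c : Ω) ∈ centralizerIn S T →
      (c : Ω)⁻¹ * b c ∈ T ⊓ Subgroup.centralizer (T : Set Ω)

/-- the extension condition as in the definition of normality -/
def ExtA (F : FusionSystem S) {T : Subgroup Ω} (E : FusionSystem T) : Prop :=
  ∀ α ∈ E.autGroup T, ∃ β ∈ F.autGroup (T ⊔ centralizerIn S T),
    (∀ x : T, ((β (Subgroup.inclusion le_sup_left x) : ↥(T ⊔ centralizerIn S T)) : Ω) = ((α x : T) : Ω)) ∧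
    ∀ c : ↥(T ⊔ centralizerIn S T), (c : Ω) ∈ centralizerIn S T →
      (c : Ω)⁻¹ * ((β c : ↥(T ⊔ centralizerIn S T)) : Ω) ∈ T ⊓ Subgroup.centralizer (T : Set Ω)

theorem sup_centralizerIn_le {T : Subgroup Ω} (hTS : T ≤ S) : T ⊔ centralizerIn S T ≤ S :=
  sup_le hTS inf_le_left

theorem extH_of_extA [Finite S] (F : FusionSystem S) {T : Subgroup Ω} (hTS : T ≤ S)
    (E : FusionSystem T) (h : ExtA F E) : ExtH F E := by
  intro a ha
  haveI : Finite T := Finite.of_injective (Subgroup.inclusion hTS) (Subgroup.inclusion_injective hTS)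
  have hr : a.range = T := range_eq_of_forall_mem a (E.injective_of_mem ha) (E.le_of_mem ha).2
  have hα : isoOfRange a (E.injective_of_mem ha) hr ∈ E.autGroup T := by
    rw [mem_autGroup_iff E le_rfl]
    convert ha using 1
    ext x
    rfl
  obtain ⟨β, hβ, h1, h2⟩ := h _ hα
  rw [mem_autGroup_iff F (sup_centralizerIn_le hTS)] at hβ
  refine ⟨_, hβ, fun x => ?_, fun c hc => ?_⟩
  · exact h1 x
  · exact h2 c hc

theorem extA_of_extH [Finite S] (F : FusionSystem S) {T : Subgroup Ω} (hTS : T ≤ S)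
    (E : FusionSystem T) (h : ExtH F E) : ExtA F E := by
  intro α hα
  rw [mem_autGroup_iff E le_rfl] at hα
  obtain ⟨b, hb, h1, h2⟩ := h _ hα
  have hle := sup_centralizerIn_le hTS
  haveI : Finite ↥(T ⊔ centralizerIn S T) :=
    Finite.of_injective (Subgroup.inclusion hle) (Subgroup.inclusion_injective hle)
  have hmem : ∀ c : ↥(T ⊔ centralizerIn S T), b c ∈ T ⊔ centralizerIn S T := by
    have htop : (T ⊔ centralizerIn S T).comap b = ⊤ := by
      rw [eq_top_iff, ← Subgroup.subgroupOf_self (T ⊔ centralizerIn S T),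
        Subgroup.subgroupOf_sup le_sup_left le_sup_right]
      refine sup_le ?_ ?_
      · intro c hc
        rw [Subgroup.mem_subgroupOf] at hc
        rw [Subgroup.mem_comap]
        have e : c = Subgroup.inclusion le_sup_left (⟨(c : Ω), hc⟩ : T) := rfl
        rw [e, h1]
        exact Subgroup.mem_sup_left (Subtype.property _)
      · intro c hc
        rw [Subgroup.mem_subgroupOf] at hc
        rw [Subgroup.mem_comap]
        have h3 := h2 c hc
        have e : b c = (c : Ω) * ((c : Ω)⁻¹ * b c) := by group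
        rw [e]
        exact Subgroup.mul_mem _ (Subgroup.mem_sup_right hc) (Subgroup.mem_sup_left h3.1)
    intro c
    have : c ∈ (T ⊔ centralizerIn S T).comap b := by rw [htop]; exact Subgroup.mem_top _
    exact this
  have hr : b.range = T ⊔ centralizerIn S T :=
    range_eq_of_forall_mem b (F.injective_of_mem hb) hmem
  refine ⟨isoOfRange b (F.injective_of_mem hb) hr, ?_, fun x => ?_, fun c hc => ?_⟩
  · rw [mem_autGroup_iff F hle]
    convert hb using 1
    ext x
    rfl
  · exact h1 x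
  · exact h2 c hc

section transport

variable {θ : S →* Ω'} {F : FusionSystem S} {F' : FusionSystem S'}
  {T : Subgroup Ω} {hTS : T ≤ S} {E : FusionSystem T} {T' : Subgroup Ω'} {E' : FusionSystem T'}

theorem IsIso.mem_centralizerIn_iff (h : IsIso θ F F') (hE : IsIso (resHom θ hTS) E E') (s : S) :
    θ s ∈ centralizerIn S' T' ↔ (s : Ω) ∈ centralizerIn S T := by
  unfold centralizerIn
  rw [Subgroup.mem_inf, Subgroup.mem_inf]
  constructor
  · rintro ⟨-, h2⟩
    refine ⟨s.2, ?_⟩
    rw [Subgroup.mem_centralizer_iff] at h2 ⊢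
    intro t ht
    have h3 := h2 (θ ⟨t, hTS ht⟩) ((h.mem_base_iff' hE _).mpr ht)
    rw [← map_mul, ← map_mul] at h3
    have := h.inj h3
    exact congrArg (fun s : S => (s : Ω)) this
  · rintro ⟨-, h2⟩
    refine ⟨h.map_mem s, ?_⟩
    rw [Subgroup.mem_centralizer_iff] at h2 ⊢
    intro y hy
    obtain ⟨t, ht⟩ := (hE.mem_base_iff y).mp hy
    rw [← ht, ← map_mul, ← map_mul]
    congr 1
    apply Subtype.ext
    exact h2 t t.2

theorem IsIso.extH (h : IsIso θ F F') (hE : IsIso (resHom θ hTS) E E') (hext : ExtH F E) :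
    ExtH F' E' := by
  intro a' ha'
  obtain ⟨P, a, ha, hc⟩ := hE.pull ha'
  have hc' : Corr θ a a' := hc.of_res
  have hTP : T ≤ P := by
    intro x hx
    exact (hc'.mem_iff h.inj ⟨x, hTS hx⟩).mpr ((h.mem_base_iff' hE _).mpr hx)
  obtain ⟨b, hb, hb1, hb2⟩ := hext _ (fs_restrict_mem E hTP ha)
  have hsup : T' ⊔ centralizerIn S' T' ≤ imageAlong θ (T ⊔ centralizerIn S T) := by
    refine sup_le ?_ ?_
    · intro y hy
      obtain ⟨t, ht⟩ := (hE.mem_base_iff y).mp hy
      exact (mem_imageAlong θ _ y).mpr ⟨_, Subgroup.mem_sup_left t.2, ht⟩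
    · intro y hy
      obtain ⟨s, hs⟩ := h.exists_preimage hy.1
      rw [← hs] at hy
      exact (mem_imageAlong θ _ y).mpr ⟨s, Subgroup.mem_sup_right ((h.mem_centralizerIn_iff hE s).mp hy), hs⟩
  have hsub : ∀ y : ↥(T' ⊔ centralizerIn S' T'), ∃ x : ↥(T ⊔ centralizerIn S T),
      θ ⟨x, (F.le_of_mem hb).1 x.2⟩ = (y : Ω') := by
    intro y
    obtain ⟨s, hs, hsy⟩ := (mem_imageAlong θ _ _).mp (hsup y.2)
    exact ⟨⟨s, hs⟩, hsy⟩
  obtain ⟨b', hb', hb'e⟩ := h.exists_push_sub hb (T' ⊔ centralizerIn S' T') hsub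
  refine ⟨b', hb', fun x' => ?_, fun c' hc' => ?_⟩
  · obtain ⟨t, ht⟩ := (hE.mem_base_iff x').mp x'.2
    have e1 : (Subgroup.inclusion le_sup_left x' : ↥(T' ⊔ centralizerIn S' T')) =
        ⟨θ ⟨((Subgroup.inclusion le_sup_left t : ↥(T ⊔ centralizerIn S T)) : Ω),
          (F.le_of_mem hb).1 (Subgroup.inclusion le_sup_left t).2⟩,
          by rw [show θ ⟨((Subgroup.inclusion le_sup_left t : ↥(T ⊔ centralizerIn S T)) : Ω), _⟩ =
            θ ⟨t, hTS t.2⟩ from rfl, ht]; exact Subgroup.mem_sup_left x'.2⟩ := Subtype.ext ht.symm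
    rw [e1, hb'e]
    have e3 : (⟨b (Subgroup.inclusion le_sup_left t), (F.le_of_mem hb).2 _⟩ : S) =
        ⟨a (Subgroup.inclusion hTP t), hc'.map_mem _⟩ := Subtype.ext (hb1 t)
    rw [e3]
    have e2 : x' = ⟨θ ⟨((Subgroup.inclusion hTP t : P) : Ω), hc'.le (hTP t.2)⟩,
        hc'.mem (Subgroup.inclusion hTP t)⟩ := Subtype.ext ht.symm
    rw [e2, hc'.eq (Subgroup.inclusion hTP t)]
  · obtain ⟨c, hcc⟩ := hsub c'
    have hcC : (c : Ω) ∈ centralizerIn S T := by
      rw [← h.mem_centralizerIn_iff hE ⟨c, (F.le_of_mem hb).1 c.2⟩, hcc]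
      exact hc'
    have h3 := hb2 c hcC
    have e1 : c' = ⟨θ ⟨c, (F.le_of_mem hb).1 c.2⟩, by rw [hcc]; exact c'.2⟩ := Subtype.ext hcc.symm
    rw [e1, hb'e]
    show (θ ⟨c, _⟩)⁻¹ * θ ⟨b c, _⟩ ∈ _
    rw [← map_inv, ← map_mul]
    have hzS : (c : Ω)⁻¹ * b c ∈ S := hTS h3.1
    have e2 : (⟨(c : Ω), (F.le_of_mem hb).1 c.2⟩ : S)⁻¹ * ⟨b c, (F.le_of_mem hb).2 c⟩ =
        ⟨(c : Ω)⁻¹ * b c, hzS⟩ := rfl
    rw [e2, Subgroup.mem_inf]
    refine ⟨(h.mem_base_iff' hE _).mpr h3.1, ?_⟩
    rw [Subgroup.mem_centralizer_iff]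
    intro y hy
    obtain ⟨t, ht⟩ := (hE.mem_base_iff y).mp hy
    rw [← ht, ← map_mul, ← map_mul]
    congr 1
    apply Subtype.ext
    exact (Subgroup.mem_centralizer_iff.mp h3.2) t t.2

theorem IsIso.finite_base [Finite S] (h : IsIso θ F F') : Finite S' := by
  have hsurj : Function.Surjective θ.rangeRestrict := θ.rangeRestrict_surjective
  haveI : Finite θ.range := Finite.of_surjective _ hsurj
  rw [← h.range]
  infer_instance

theorem IsIso.isPGroup_base (h : IsIso θ F F') {p : ℕ} (hS : IsPGroup p S) : IsPGroup p S' := by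
  have := hS.of_surjective θ.rangeRestrict θ.rangeRestrict_surjective
  rw [← h.range]
  exact this

theorem IsIso.isSaturated [Finite S] (h : IsIso θ F F') (p : ℕ) [Fact p.Prime] (hS : IsPGroup p S)
    (hF : F.IsSaturated p) : F'.IsSaturated p :=
  isSaturated_of_isFactorSystem p hS F hF ⊥ (stronglyClosed_bot F) θ F' h.isFactorSystem

/-- transport of normality along an isomorphism -/
theorem IsIso.isNormalIn [Finite S] (h : IsIso θ F F') (hE : IsIso (resHom θ hTS) E E')
    (p : ℕ) [Fact p.Prime] (hS : IsPGroup p S) (hn : E.IsNormalIn F p) : E'.IsNormalIn F' p := by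
  obtain ⟨⟨hEsat, hFsat, hinv⟩, hext⟩ := hn
  haveI : Finite S' := h.finite_base
  haveI : Finite T := Finite.of_injective (Subgroup.inclusion hTS) (Subgroup.inclusion_injective hTS)
  have hS' := h.isPGroup_base hS
  have hT : IsPGroup p T := hS.to_le hTS
  have hF'sat := h.isSaturated p hS hFsat
  have hE'sat := hE.isSaturated p hT hEsat
  have hSI := (isInvariantIn_iff_strongInv p hS F hFsat E hinv.1 hinv.2.1).mp hinv
  have hSI' := h.strongInv hE hSI
  have hsub' := h.subsystem hE hinv.1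
  have hT' := h.stronglyClosed hE hinv.2.1
  have hinv' := (isInvariantIn_iff_strongInv p hS' F' hF'sat E' hsub' hT').mpr hSI'
  refine ⟨⟨hE'sat, hF'sat, hinv'⟩, ?_⟩
  have h1 : ExtH F E := extH_of_extA F hTS E hext
  have h2 : ExtH F' E' := h.extH hE h1
  exact extA_of_extH F' (h.base_le hE) E' h2

end transport

end Cfsg.Agent.Lib.Helper7.Iso
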