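import Mathlib
import Cfsg.Prelude.Def_FusionSystem
import Cfsg.Agent.Lib.Helper7.Fusion
import Cfsg.Agent.Lib.Helper7.FusionSat3
import Cfsg.Agent.Lib.Helper7.StrongInv
import Cfsg.Agent.Lib.Helper7.HyperfocalStrongClosed
import Cfsg.Agent.Lib.Helper7.PStableFusion
import Cfsg.Agent.H1.PResidual

/-!
# Subsystems of `p`-power index are normal, part A: generation of automizers

* `le_of_pElts_of_sylow` : a finite group is generated by its `p'`-elements and a Sylow `p`-subgroup;
* `autGroup_le_of_pElts` : `Aut_F(R)` for a fully automized `R` is generated by its `p'`-elements and `Aut_S(R)`;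
* `fullyAutomized_receptive_of_sat` : in a saturated system fully normalized subgroups are fully automized and
  receptive.
-/

set_option autoImplicit false
set_option linter.unusedSectionVars false
set_option linter.unusedVariables false
set_option linter.style.haveILetI false

namespace Cfsg.Agent.Lib.Helper7.PPowNormal

open Cfsg Cfsg.FusionSystem Cfsg.Agent.Lib.Helper7

/-- `O^p(H) P = H` for a Sylow `p`-subgroup `P` of the finite group `H`. -/
theorem pResidual_sup_sylow {H : Type*} [Group H] [Finite H] (p : ℕ) [Fact p.Prime] (P : Sylow p H) :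
    pResidual p H ⊔ (P : Subgroup H) = ⊤ := by
  haveI : (pResidual p H).Normal := pResidual_normal p H
  have hq : IsPGroup p (H ⧸ pResidual p H) := Cfsg.Agent.H1.isPGroup_quotient_pResidual p
  obtain ⟨k, hk⟩ := IsPGroup.iff_card.mp hq
  have h1 : (pResidual p H ⊔ (P : Subgroup H)).index ∣ p ^ k := by
    have := Subgroup.index_dvd_of_le (le_sup_left : pResidual p H ≤ pResidual p H ⊔ (P : Subgroup H))
    rwa [Subgroup.index_eq_card (pResidual p H), hk] at this
  have h2 : (pResidual p H ⊔ (P : Subgroup H)).index ∣ (P : Subgroup H).index :=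
    Subgroup.index_dvd_of_le le_sup_right
  have h3 : ¬ p ∣ (P : Subgroup H).index := P.not_dvd_index
  have h4 : (pResidual p H ⊔ (P : Subgroup H)).index = 1 := by
    obtain ⟨j, -, hj⟩ := (Nat.dvd_prime_pow (Fact.out : p.Prime)).mp h1
    rcases Nat.eq_zero_or_pos j with rfl | hjpos
    · simpa using hj
    · exfalso
      apply h3
      have : p ∣ (pResidual p H ⊔ (P : Subgroup H)).index := by
        rw [hj]; exact dvd_pow_self p hjpos.ne'
      exact this.trans h2
  exact Subgroup.index_eq_one.mp h4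

/-- A finite subgroup `H` is contained in any subgroup containing a Sylow `p`-subgroup of `H` and the `p'`-elements
of `H`. -/
theorem le_of_pElts_of_sylow {A : Type*} [Group A] (p : ℕ) [Fact p.Prime] (H K : Subgroup A) [Finite H]
    (P : Sylow p H) (hP : ∀ x : H, x ∈ (P : Subgroup H) → (x : A) ∈ K)
    (hK : ∀ h ∈ H, (orderOf h).Coprime p → h ∈ K) : H ≤ K := by
  have h1 : pResidual p H ≤ K.subgroupOf H := by
    unfold pResidual
    rw [Subgroup.closure_le]
    intro g hg
    rw [SetLike.mem_coe, Subgroup.mem_subgroupOf]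
    apply hK _ g.2
    rw [Subgroup.orderOf_coe]
    exact hg
  have h2 : (P : Subgroup H) ≤ K.subgroupOf H := fun x hx => Subgroup.mem_subgroupOf.mpr (hP x hx)
  have h3 : K.subgroupOf H = ⊤ := by
    rw [eq_top_iff, ← pResidual_sup_sylow p P]
    exact sup_le h1 h2
  intro h hh
  have : (⟨h, hh⟩ : H) ∈ K.subgroupOf H := by rw [h3]; exact Subgroup.mem_top _
  exact Subgroup.mem_subgroupOf.mp this

variable {Ω : Type*} [Group Ω] {S : Subgroup Ω}

/-- `Aut_F(R)` for a fully automized `R` is generated by its `p'`-elements and `Aut_S(R)`. -/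
theorem autGroup_le_of_pElts [Finite S] (p : ℕ) [Fact p.Prime] (F : FusionSystem S) {R : Subgroup Ω}
    (hFA : F.IsFullyAutomized p R) (K : Subgroup (MulAut R)) (hSK : autInducedBy S R ≤ K)
    (hK : ∀ δ ∈ F.autGroup R, (orderOf δ).Coprime p → δ ∈ K) : F.autGroup R ≤ K := by
  haveI : Finite R := finite_of_le hFA.1
  obtain ⟨P, hP⟩ := hFA.2
  refine le_of_pElts_of_sylow p (F.autGroup R) K P (fun x hx => ?_) hK
  have : x ∈ (autInducedBy S R).subgroupOf (F.autGroup R) := by rw [← hP]; exact hx
  exact hSK (Subgroup.mem_subgroupOf.mp this)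

theorem fullyAutomized_receptive_of_sat [Finite S] (p : ℕ) [Fact p.Prime] (hS : IsPGroup p S)
    (F : FusionSystem S) (hF : F.IsSaturated p) {P : Subgroup Ω} (hP : F.IsFullyNormalized P) :
    F.IsFullyAutomized p P ∧ F.IsReceptive P := by
  obtain ⟨R, hc, hFA, hRec⟩ := hF P hP.1
  exact isFullyAutomized_isReceptive_of_isFullyNormalized p hS F hP hFA hRec hc

/-- a `p'`-element of `Aut_F(R)` moves elements inside cosets of the hyperfocal subgroup -/
theorem inv_mul_apply_mem_hyperfocal (p : ℕ) (F : FusionSystem S) {R : Subgroup Ω} (hRS : R ≤ S)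
    {δ : MulAut R} (hδ : δ ∈ F.autGroup R) (hc : (orderOf δ).Coprime p) (x : R) :
    (x : Ω)⁻¹ * ((δ x : R) : Ω) ∈ F.hyperfocalSubgroup p := by
  apply Subgroup.subset_closure
  refine ⟨R, ⟨δ, hδ⟩, x, hRS, ?_, rfl⟩
  apply mem_pResidual_of_coprime
  rw [← Subgroup.orderOf_coe]
  exact hc

/-- a `p'`-element of `Aut_F(R)` stabilizes `R ∩ T` for every `T ≥ hyp(F)` -/
theorem mem_stabSub_of_coprime [Finite S] (p : ℕ) (F : FusionSystem S) {R T : Subgroup Ω} (hRS : R ≤ S)
    (hT : F.hyperfocalSubgroup p ≤ T)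
    {δ : MulAut R} (hδ : δ ∈ F.autGroup R) (hc : (orderOf δ).Coprime p) : δ ∈ stabSub R (R ⊓ T) := by
  have key : ∀ {ε : MulAut R}, ε ∈ F.autGroup R → (orderOf ε).Coprime p → ∀ x : R, (x : Ω) ∈ T →
      ((ε x : R) : Ω) ∈ T := by
    intro ε hε hcε x hx
    have h1 := hT (inv_mul_apply_mem_hyperfocal p F hRS hε hcε x)
    have : ((ε x : R) : Ω) = x * ((x : Ω)⁻¹ * ((ε x : R) : Ω)) := by group
    rw [this]
    exact T.mul_mem hx h1
  intro x
  constructor
  · intro hx
    exact ⟨(δ x).2, key hδ hc x hx.2⟩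
  · intro hx
    refine ⟨x.2, ?_⟩
    have h2 := key ((F.autGroup R).inv_mem hδ) (by rw [orderOf_inv]; exact hc) (δ x) hx.2
    rwa [MulAut.inv_apply_self] at h2

end Cfsg.Agent.Lib.Helper7.PPowNormal
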