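import Mathlib
import Cfsg.Prelude.Def_FusionSystem
import Cfsg.Agent.Lib.Helper7.PPowNormalA
import Cfsg.Agent.Lib.Helper7.Alperin3
import Cfsg.Agent.Lib.Helper7.PPowerIndexSub
import Cfsg.Agent.Lib.Helper7.FusionProdClosed

/-!
# Subsystems of `p`-power index are normal, part B: invariance under `Aut_F(T)`

* `predSys` : the subsystem of the maps satisfying a predicate closed under the operations of a fusion system;
* `autInv_of_pPowerIndex` : a saturated subsystem of `p`-power index is invariant under `Aut_F(T)`.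
-/

set_option autoImplicit false
set_option linter.unusedSectionVars false
set_option linter.unusedVariables false
set_option linter.style.haveILetI false

namespace Cfsg.Agent.Lib.Helper7.PPowNormal

open Cfsg Cfsg.FusionSystem Cfsg.Agent.Lib.Helper7

variable {Ω : Type*} [Group Ω] {S : Subgroup Ω}

/-- the subsystem of the maps of `F` satisfying a predicate closed under the operations -/
def predSys (F : FusionSystem S) (Pr : ∀ (P : Subgroup Ω), (P →* Ω) → Prop)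
    (hconj : ∀ {P : Subgroup Ω} {g : Ω}, P ≤ S → g ∈ S → Pr P (conjHom P g))
    (hcomp : ∀ {P Q : Subgroup Ω} {φ : P →* Ω} {ψ : Q →* Ω}, φ ∈ F.Hom P → ψ ∈ F.Hom Q → Pr P φ →
      Pr Q ψ → ∀ h : ∀ x : P, φ x ∈ Q, Pr P (ψ.comp (φ.codRestrict Q h)))
    (hinv : ∀ {P : Subgroup Ω} {φ : P →* Ω}, φ ∈ F.Hom P → Pr P φ → ∀ ψ ∈ F.Hom φ.range,
      (∀ x : P, ψ ⟨φ x, ⟨x, rfl⟩⟩ = (x : Ω)) → Pr φ.range ψ) : FusionSystem S where
  Hom P := {φ | φ ∈ F.Hom P ∧ Pr P φ}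
  le_of_mem h := F.le_of_mem h.1
  injective_of_mem h := F.injective_of_mem h.1
  conj_mem hP hg := ⟨F.conj_mem hP hg, hconj hP hg⟩
  comp_mem hφ hψ h := ⟨F.comp_mem hφ.1 hψ.1 h, hcomp hφ.1 hψ.1 hφ.2 hψ.2 h⟩
  inv_mem := by
    intro P φ hφ
    obtain ⟨ψ, hψ, hψe⟩ := F.inv_mem hφ.1
    exact ⟨ψ, ⟨hψ, hinv hφ.1 hφ.2 ψ hψ hψe⟩, hψe⟩

theorem mem_predSys_iff (F : FusionSystem S) (Pr : ∀ (P : Subgroup Ω), (P →* Ω) → Prop)
    (hconj) (hcomp) (hinv) {P : Subgroup Ω} (φ : P →* Ω) :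
    φ ∈ (predSys F Pr hconj hcomp hinv).Hom P ↔ φ ∈ F.Hom P ∧ Pr P φ := Iff.rfl

variable {T : Subgroup Ω}

/-- the image of `P ≤ T` under the automorphism `α` of `T` -/
def imgSub (α : MulAut T) (P : Subgroup Ω) : Subgroup Ω :=
  (P.subgroupOf T).map (T.subtype.comp α.toMonoidHom)

theorem imgSub_le (α : MulAut T) (P : Subgroup Ω) : imgSub α P ≤ T := by
  rintro _ ⟨y, -, rfl⟩
  exact (α y).2

theorem apply_mem_imgSub (α : MulAut T) {P : Subgroup Ω} (hPT : P ≤ T) (x : P) :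
    ((α ⟨x, hPT x.2⟩ : T) : Ω) ∈ imgSub α P :=
  ⟨⟨x, hPT x.2⟩, Subgroup.mem_subgroupOf.mpr x.2, rfl⟩

theorem exists_of_mem_imgSub (α : MulAut T) {P : Subgroup Ω} (hPT : P ≤ T) {y : Ω}
    (hy : y ∈ imgSub α P) : ∃ x : P, ((α ⟨x, hPT x.2⟩ : T) : Ω) = y := by
  obtain ⟨z, hz, rfl⟩ := hy
  exact ⟨⟨z, Subgroup.mem_subgroupOf.mp hz⟩, rfl⟩

/-- the `α`-conjugate of `φ` is a map of `E` -/
def ConjPred (E : FusionSystem T) (α : MulAut T) (P : Subgroup Ω) (φ : P →* Ω) : Prop :=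
  ∃ hPT : P ≤ T, ∃ χ ∈ E.Hom (imgSub α P),
    ∀ (x : P) (hφx : φ x ∈ T) (hαx : ((α ⟨x, hPT x.2⟩ : T) : Ω) ∈ imgSub α P),
      χ ⟨(α ⟨x, hPT x.2⟩ : T), hαx⟩ = ((α ⟨φ x, hφx⟩ : T) : Ω)

/-- the subsystem of `E` of the maps whose `α`-conjugate is a map of `E` -/
def conjSys (E : FusionSystem T) (α : MulAut T) : FusionSystem T :=
  predSys E (ConjPred E α)
    (by
      intro P g hP hg
      refine ⟨hP, conjHom (imgSub α P) (α ⟨g, hg⟩), E.conj_mem (imgSub_le α P) (α ⟨g, hg⟩).2, ?_⟩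
      intro x hφx hαx
      show ((α ⟨g, hg⟩ : T) : Ω) * ((α ⟨x, hP x.2⟩ : T) : Ω) * ((α ⟨g, hg⟩ : T) : Ω)⁻¹ = _
      have e : (⟨conjHom P g x, hφx⟩ : T) = ⟨g, hg⟩ * ⟨x, hP x.2⟩ * (⟨g, hg⟩ : T)⁻¹ :=
        Subtype.ext rfl
      rw [e, map_mul, map_mul, map_inv]
      rfl)
    (by
      intro P Q φ ψ hφ hψ hPφ hPψ h
      obtain ⟨hPT, χ, hχ, hχe⟩ := hPφ
      obtain ⟨hQT, χ', hχ', hχe'⟩ := hPψ
      have hφT : ∀ x : P, φ x ∈ T := fun x => hQT (h x)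
      have hval : ∀ y : ↥(imgSub α P), χ y ∈ imgSub α Q := by
        intro y
        obtain ⟨x, hx⟩ := exists_of_mem_imgSub α hPT y.2
        have e : y = ⟨(α ⟨x, hPT x.2⟩ : T), apply_mem_imgSub α hPT x⟩ := Subtype.ext hx.symm
        rw [e, hχe x (hφT x)]
        exact apply_mem_imgSub α hQT ⟨φ x, h x⟩
      refine ⟨hPT, χ'.comp (χ.codRestrict (imgSub α Q) hval), E.comp_mem hχ hχ' hval, ?_⟩
      intro x hφx hαx
      show χ' ⟨χ ⟨(α ⟨x, hPT x.2⟩ : T), hαx⟩, _⟩ = _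
      have h1 := hχe x (hφT x) hαx
      have h2 := hχe' ⟨φ x, h x⟩ hφx (apply_mem_imgSub α hQT ⟨φ x, h x⟩)
      have e : (⟨χ ⟨(α ⟨x, hPT x.2⟩ : T), hαx⟩, hval _⟩ : imgSub α Q) =
          ⟨(α ⟨φ x, hφT x⟩ : T), apply_mem_imgSub α hQT ⟨φ x, h x⟩⟩ := Subtype.ext h1
      rw [e]
      exact h2)
    (by
      intro P φ hφ hPφ ψ hψ hψe
      obtain ⟨hPT, χ, hχ, hχe⟩ := hPφ
      have hφT : ∀ x : P, φ x ∈ T := (E.le_of_mem hφ).2
      have hrT : φ.range ≤ T := by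
        rintro _ ⟨x, rfl⟩; exact hφT x
      obtain ⟨χi, hχi, hχie⟩ := E.inv_mem hχ
      -- `α(φ(P)) ≤ χ(α(P))`
      have hle : imgSub α φ.range ≤ χ.range := by
        intro y hy
        obtain ⟨z, hz⟩ := exists_of_mem_imgSub α hrT hy
        obtain ⟨x, hx⟩ := z.2
        refine ⟨⟨(α ⟨x, hPT x.2⟩ : T), apply_mem_imgSub α hPT x⟩, ?_⟩
        rw [hχe x (hφT x), ← hz]
        congr 2
        exact Subtype.ext hx
      refine ⟨hrT, χi.comp (Subgroup.inclusion hle), fs_restrict_mem E hle hχi, ?_⟩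
      intro z hψz hαz
      obtain ⟨x, hx⟩ := z.2
      have hz : z = ⟨φ x, ⟨x, rfl⟩⟩ := Subtype.ext hx.symm
      subst hz
      show χi ⟨((α ⟨φ x, _⟩ : T) : Ω), _⟩ = _
      have h1 := hχie ⟨(α ⟨x, hPT x.2⟩ : T), apply_mem_imgSub α hPT x⟩
      have h2 := hχe x (hφT x) (apply_mem_imgSub α hPT x)
      have e : (⟨((α ⟨φ x, hrT ⟨x, rfl⟩⟩ : T) : Ω), hle hαz⟩ : χ.range) =
          ⟨χ ⟨(α ⟨x, hPT x.2⟩ : T), apply_mem_imgSub α hPT x⟩, ⟨_, rfl⟩⟩ := Subtype.ext h2.symm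
      rw [e, h1]
      show ((α ⟨x, hPT x.2⟩ : T) : Ω) = ((α ⟨ψ ⟨φ x, ⟨x, rfl⟩⟩, hψz⟩ : T) : Ω)
      have e2 : (⟨(x : Ω), hPT x.2⟩ : T) = ⟨ψ ⟨φ x, ⟨x, rfl⟩⟩, hψz⟩ := Subtype.ext (hψe x).symm
      rw [e2])

theorem conjSys_le (E : FusionSystem T) (α : MulAut T) : conjSys E α ≤ E := fun P φ h => h.1

/-- the restriction of `α ∈ Aut_F(T)` to `R ≤ T` -/
theorem restrict_aut_mem (F : FusionSystem S) (hTS : T ≤ S) {α : MulAut T} (hα : α ∈ F.autGroup T)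
    {R : Subgroup Ω} (hRT : R ≤ T) :
    (T.subtype.comp α.toMonoidHom).comp (Subgroup.inclusion hRT) ∈ F.Hom R :=
  fs_restrict_mem F hRT ((mem_autGroup_iff F hTS α).mp hα)

theorem restrict_aut_range (α : MulAut T) {R : Subgroup Ω} (hRT : R ≤ T) :
    ((T.subtype.comp α.toMonoidHom).comp (Subgroup.inclusion hRT)).range = imgSub α R := by
  ext y
  constructor
  · rintro ⟨x, rfl⟩
    exact apply_mem_imgSub α hRT x
  · intro hy
    obtain ⟨x, hx⟩ := exists_of_mem_imgSub α hRT hy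
    exact ⟨x, hx⟩

/-- **Invariance of a saturated subsystem of `p`-power index under `Aut_F(T)`.** -/
theorem le_conjSys [Finite S] (p : ℕ) [Fact p.Prime] (F : FusionSystem S) (hTS : T ≤ S)
    (hT : IsPGroup p T) (E : FusionSystem T) (hEs : E.IsSaturated p) (hEF : E.IsSubsystemOf F)
    (hidx : ∀ P : Subgroup Ω, P ≤ T →
      (pResidual p (F.autGroup P)).map (F.autGroup P).subtype ≤ E.autGroup P)
    (α : MulAut T) (hα : α ∈ F.autGroup T) : E ≤ conjSys E α := by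
  haveI : Finite T := finite_of_le hTS
  apply alperin_goldschmidt p hT E hEs
  intro R hR
  have hFN : E.IsFullyNormalized R := by
    rcases hR with rfl | hR
    · exact isFullyNormalized_top E
    · exact hR.2.1
  have hRT : R ≤ T := hFN.1
  haveI : Finite R := finite_of_le hRT
  have hFA := (fullyAutomized_receptive_of_sat p hT E hEs hFN).1
  apply autGroup_le_of_pElts p E hFA _ (autInducedBy_le_autGroup (conjSys E α) hRT)
  intro δ hδ hc
  rw [mem_autGroup_iff _ hRT]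
  refine ⟨(mem_autGroup_iff E hRT δ).mp hδ, hRT, ?_⟩
  have hψ := restrict_aut_mem F hTS hα hRT
  have hr := restrict_aut_range α hRT
  set ψ := (T.subtype.comp α.toMonoidHom).comp (Subgroup.inclusion hRT) with hψdef
  have hδF : δ ∈ F.autGroup R := autGroup_le_of_isSubsystemOf E F hEF R hδ
  set e := isoOfRange ψ (F.injective_of_mem hψ) hr with he
  have hδ' : MulAut.congr e δ ∈ F.autGroup (imgSub α R) := autGroup_congr F hψ hr hδF
  have hord : orderOf (MulAut.congr e δ) = orderOf δ := MulEquiv.orderOf_eq (MulAut.congr e) δ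
  have hδE : MulAut.congr e δ ∈ E.autGroup (imgSub α R) := by
    apply hidx (imgSub α R) (imgSub_le α R)
    refine ⟨⟨MulAut.congr e δ, hδ'⟩, ?_, rfl⟩
    apply mem_pResidual_of_coprime
    rw [Subgroup.orderOf_mk, hord]
    exact hc
  refine ⟨(imgSub α R).subtype.comp (MulAut.congr e δ).toMonoidHom,
    (mem_autGroup_iff E (imgSub_le α R) _).mp hδE, ?_⟩
  intro x hφx hαx
  show ((e (δ (e.symm ⟨(α ⟨x, hRT x.2⟩ : T), hαx⟩)) : imgSub α R) : Ω) = _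
  have e1 : e.symm ⟨(α ⟨x, hRT x.2⟩ : T), hαx⟩ = x := by
    rw [MulEquiv.symm_apply_eq]
    exact Subtype.ext rfl
  rw [e1]
  rfl

end Cfsg.Agent.Lib.Helper7.PPowNormal
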