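import Mathlib
import Cfsg.Prelude.Def_FusionSystem
import Cfsg.Agent.Lib.Helper7.PPowNormalB

/-!
# Subsystems of `p`-power index are normal, part C: the Frattini condition

For `T` normal in `S`, `hyp(F) ≤ T` and `E` a saturated subsystem of `p`-power index over `T`: every map of `F`
restricts on `R ∩ T` to an `E`-map followed by conjugation by an element of `S`.
-/

set_option autoImplicit false
set_option linter.unusedSectionVars false
set_option linter.unusedVariables false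
set_option linter.style.haveILetI false

namespace Cfsg.Agent.Lib.Helper7.PPowNormal

open Cfsg Cfsg.FusionSystem Cfsg.Agent.Lib.Helper7

variable {Ω : Type*} [Group Ω] {S T : Subgroup Ω}

/-- conjugation by `s ∈ N(T)` as an automorphism of `T` -/
noncomputable def conjAut (T : Subgroup Ω) (s : Ω) (hs : s ∈ Subgroup.normalizer (T : Set Ω)) : MulAut T :=
  T.normalizerMonoidHom ⟨s, hs⟩

theorem conjAut_apply (s : Ω) (hs : s ∈ Subgroup.normalizer (T : Set Ω)) (x : T) :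
    ((conjAut T s hs x : T) : Ω) = s * x * s⁻¹ := rfl

theorem conjAut_mem_autGroup (F : FusionSystem S) (hTS : T ≤ S) {s : Ω} (hsS : s ∈ S)
    (hs : s ∈ Subgroup.normalizer (T : Set Ω)) : conjAut T s hs ∈ F.autGroup T := by
  apply autInducedBy_le_autGroup F hTS
  rw [mem_autInducedBy_iff]
  exact ⟨s, hsS, fun x => rfl⟩

/-- conjugation of an `E`-map by an element of `S`, in elementwise form -/
def ConjInv (E : FusionSystem T) (S : Subgroup Ω) : Prop :=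
  ∀ s ∈ S, ∀ (P : Subgroup Ω) (φ₀ : P →* Ω), φ₀ ∈ E.Hom P →
    ∃ (P' : Subgroup Ω) (χ : P' →* Ω), χ ∈ E.Hom P' ∧ (∀ x ∈ P, s * x * s⁻¹ ∈ P') ∧
      ∀ (x : P) (h : s * (x : Ω) * s⁻¹ ∈ P'), χ ⟨s * x * s⁻¹, h⟩ = s * φ₀ x * s⁻¹

theorem conjInv_of_pPowerIndex [Finite S] (p : ℕ) [Fact p.Prime] (F : FusionSystem S) (hTS : T ≤ S)
    (hN : S ≤ Subgroup.normalizer (T : Set Ω))
    (hT : IsPGroup p T) (E : FusionSystem T) (hEs : E.IsSaturated p) (hEF : E.IsSubsystemOf F)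
    (hidx : ∀ P : Subgroup Ω, P ≤ T →
      (pResidual p (F.autGroup P)).map (F.autGroup P).subtype ≤ E.autGroup P) : ConjInv E S := by
  intro s hs P φ₀ hφ₀
  have hα := conjAut_mem_autGroup F hTS hs (hN hs)
  obtain ⟨hPT, χ, hχ, hχe⟩ := (le_conjSys p F hTS hT E hEs hEF hidx _ hα P hφ₀).2
  refine ⟨imgSub (conjAut T s (hN hs)) P, χ, hχ, ?_, ?_⟩
  · intro x hx
    exact apply_mem_imgSub (conjAut T s (hN hs)) hPT ⟨x, hx⟩
  · intro x h
    exact hχe x ((E.le_of_mem hφ₀).2 x) h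

/-- the Frattini-type decomposition of a map of `F` -/
def FratPred (E : FusionSystem T) (S : Subgroup Ω) (R : Subgroup Ω) (φ : R →* Ω) : Prop :=
  (∀ x : R, φ x ∈ T ↔ (x : Ω) ∈ T) ∧ ∃ s ∈ S, ∃ φ₀ ∈ E.Hom (R ⊓ T),
    ∀ x : ↥(R ⊓ T), φ ⟨x, x.2.1⟩ = s * φ₀ x * s⁻¹

/-- the subsystem of `F` of the maps with a Frattini-type decomposition -/
def fratSys (F : FusionSystem S) (hTS : T ≤ S) (hN : S ≤ Subgroup.normalizer (T : Set Ω))
    (E : FusionSystem T) (hCI : ConjInv E S) : FusionSystem S :=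
  predSys F (FratPred E S)
    (by
      intro P g hP hg
      refine ⟨fun x => ?_, g, hg, (P ⊓ T).subtype, fs_subtype_mem E inf_le_right, fun x => rfl⟩
      have hgn := hN hg
      show g * (x : Ω) * g⁻¹ ∈ T ↔ (x : Ω) ∈ T
      exact ((Subgroup.mem_normalizer_iff.mp hgn) (x : Ω)).symm)
    (by
      intro P Q φ ψ hφ hψ hPφ hPψ h
      obtain ⟨hiff, s₁, hs₁, φ₀, hφ₀, hφe⟩ := hPφ
      obtain ⟨hiff', s₂, hs₂, ψ₀, hψ₀, hψe⟩ := hPψ
      refine ⟨fun x => ?_, s₂ * s₁, S.mul_mem hs₂ hs₁, ?_⟩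
      · exact (hiff' ⟨φ x, h x⟩).trans (hiff x)
      · obtain ⟨P', χ, hχ, hχfw, hχe⟩ := hCI s₁⁻¹ (S.inv_mem hs₁) (Q ⊓ T) ψ₀ hψ₀
        have hmemQ : ∀ x : ↥(P ⊓ T), φ ⟨x, x.2.1⟩ ∈ Q ⊓ T := fun x =>
          ⟨h _, (hiff ⟨x, x.2.1⟩).mpr x.2.2⟩
        have hφ₀eq : ∀ x : ↥(P ⊓ T), φ₀ x = s₁⁻¹ * φ ⟨x, x.2.1⟩ * s₁⁻¹⁻¹ := by
          intro x
          rw [hφe x]; group
        have hval : ∀ x : ↥(P ⊓ T), φ₀ x ∈ P' := by
          intro x
          rw [hφ₀eq x]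
          exact hχfw _ (hmemQ x)
        refine ⟨χ.comp (φ₀.codRestrict P' hval), E.comp_mem hφ₀ hχ hval, fun x => ?_⟩
        show ψ ⟨φ ⟨x, x.2.1⟩, h _⟩ = s₂ * s₁ * χ ⟨φ₀ x, hval x⟩ * (s₂ * s₁)⁻¹
        have h1 := hψe ⟨φ ⟨x, x.2.1⟩, hmemQ x⟩
        have h2 := hχe ⟨φ ⟨x, x.2.1⟩, hmemQ x⟩ (by rw [← hφ₀eq x]; exact hval x)
        have e : (⟨φ₀ x, hval x⟩ : P') =
            ⟨s₁⁻¹ * φ ⟨x, x.2.1⟩ * s₁⁻¹⁻¹, by rw [← hφ₀eq x]; exact hval x⟩ :=
          Subtype.ext (hφ₀eq x)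
        rw [e, h2]
        refine h1.trans ?_
        group)
    (by
      intro P φ hφ hPφ ψ hψ hψe
      obtain ⟨hiff, s, hs, φ₀, hφ₀, hφe⟩ := hPφ
      refine ⟨fun z => ?_, s⁻¹, S.inv_mem hs, ?_⟩
      · obtain ⟨x, hx⟩ := z.2
        have hz : z = ⟨φ x, ⟨x, rfl⟩⟩ := Subtype.ext hx.symm
        rw [hz, hψe x]
        exact (hiff x).symm
      · obtain ⟨φ₀i, hφ₀i, hφ₀ie⟩ := E.inv_mem hφ₀
        obtain ⟨P'', χ, hχ, hχfw, hχe⟩ := hCI s hs φ₀.range φ₀i hφ₀i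
        -- every element of `φ(P) ∩ T` is `s φ₀(x) s⁻¹`
        have hrep : ∀ z : ↥(φ.range ⊓ T), ∃ x : ↥(P ⊓ T), (z : Ω) = s * φ₀ x * s⁻¹ ∧
            ψ ⟨z, z.2.1⟩ = (x : Ω) := by
          intro z
          obtain ⟨x, hx⟩ := z.2.1
          have hxT : (x : Ω) ∈ T := (hiff x).mp (by rw [hx]; exact z.2.2)
          refine ⟨⟨x, x.2, hxT⟩, ?_, ?_⟩
          · rw [← hx]; exact hφe ⟨x, x.2, hxT⟩
          · have hz : (⟨(z : Ω), z.2.1⟩ : φ.range) = ⟨φ x, ⟨x, rfl⟩⟩ := Subtype.ext hx.symm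
            rw [hz, hψe x]
        have hle : φ.range ⊓ T ≤ P'' := by
          intro z hz
          obtain ⟨x, hx, -⟩ := hrep ⟨z, hz⟩
          rw [show z = s * φ₀ x * s⁻¹ from hx]
          exact hχfw _ ⟨x, rfl⟩
        refine ⟨χ.comp (Subgroup.inclusion hle), fs_restrict_mem E hle hχ, fun z => ?_⟩
        obtain ⟨x, hx, hψz⟩ := hrep z
        rw [hψz]
        show (x : Ω) = s⁻¹ * χ ⟨(z : Ω), hle z.2⟩ * s⁻¹⁻¹
        have h2 := hχe ⟨φ₀ x, ⟨x, rfl⟩⟩ (by rw [← hx]; exact hle z.2)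
        have e : (⟨(z : Ω), hle z.2⟩ : P'') =
            ⟨s * φ₀ x * s⁻¹, by rw [← hx]; exact hle z.2⟩ := Subtype.ext hx
        rw [e, h2, hφ₀ie x]
        group)

/-- **Every map of `F` has a Frattini-type decomposition.** -/
theorem le_fratSys [Finite S] (p : ℕ) [Fact p.Prime] (hS : IsPGroup p S) (F : FusionSystem S)
    (hF : F.IsSaturated p) (hTS : T ≤ S) (hN : S ≤ Subgroup.normalizer (T : Set Ω))
    (E : FusionSystem T) (hCI : ConjInv E S) (hhyp : F.hyperfocalSubgroup p ≤ T)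
    (hidx : ∀ P : Subgroup Ω, P ≤ T →
      (pResidual p (F.autGroup P)).map (F.autGroup P).subtype ≤ E.autGroup P) :
    F ≤ fratSys F hTS hN E hCI := by
  apply alperin_goldschmidt p hS F hF
  intro R hR
  have hFN : F.IsFullyNormalized R := by
    rcases hR with rfl | hR
    · exact isFullyNormalized_top F
    · exact hR.2.1
  have hRS : R ≤ S := hFN.1
  haveI : Finite R := finite_of_le hRS
  have hFA := (fullyAutomized_receptive_of_sat p hS F hF hFN).1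
  apply autGroup_le_of_pElts p F hFA _ (autInducedBy_le_autGroup (fratSys F hTS hN E hCI) hRS)
  intro δ hδ hc
  rw [mem_autGroup_iff _ hRS]
  have hδHom := (mem_autGroup_iff F hRS δ).mp hδ
  have hstab := mem_stabSub_of_coprime p F hRS hhyp hδ hc
  refine ⟨hδHom, fun x => ?_, 1, S.one_mem, ?_⟩
  · have := hstab x
    constructor
    · intro h
      exact (this.mpr ⟨(δ x).2, h⟩).2
    · intro h
      exact (this.mp ⟨x.2, h⟩).2
  · set δ₀ := resSub (inf_le_left : R ⊓ T ≤ R) ⟨δ, hstab⟩ with hδ₀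
    have hδ₀F : δ₀ ∈ F.autGroup (R ⊓ T) := by
      rw [mem_autGroup_iff F (inf_le_left.trans hRS)]
      exact fs_mem_of_agree F inf_le_left hδHom _ (fun x => rfl)
    have hord : (orderOf δ₀).Coprime p := by
      have h1 : orderOf δ₀ ∣ orderOf (⟨δ, hstab⟩ : stabSub R (R ⊓ T)) := orderOf_map_dvd _ _
      rw [Subgroup.orderOf_mk] at h1
      exact Nat.Coprime.coprime_dvd_left h1 hc
    have hδ₀E : δ₀ ∈ E.autGroup (R ⊓ T) := by
      apply hidx (R ⊓ T) inf_le_right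
      refine ⟨⟨δ₀, hδ₀F⟩, ?_, rfl⟩
      apply mem_pResidual_of_coprime
      rw [Subgroup.orderOf_mk]
      exact hord
    refine ⟨(R ⊓ T).subtype.comp δ₀.toMonoidHom,
      (mem_autGroup_iff E inf_le_right δ₀).mp hδ₀E, fun x => ?_⟩
    rw [one_mul, inv_one, mul_one]
    rfl

end Cfsg.Agent.Lib.Helper7.PPowNormal
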