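import Mathlib
import Cfsg.Prelude.Def_FusionSystem
import Cfsg.Agent.Lib.Helper7.PPowNormalC
import Cfsg.Agent.Lib.Helper7.DirProdD
import Cfsg.Agent.Lib.Helper7.Alperin1
import Cfsg.Agent.Lib.Helper7.FusionSat4
import Cfsg.Agent.Lib.Helper7.MaxClassC

/-!
# Subsystems of `p`-power index are normal, part D: the extension condition and the theorem
-/

set_option autoImplicit false
set_option linter.unusedSectionVars false
set_option linter.unusedVariables false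
set_option linter.style.haveILetI false

namespace Cfsg.Agent.Lib.Helper7.PPowNormal

open Cfsg Cfsg.FusionSystem Cfsg.Agent.Lib.Helper7 Cfsg.Agent.Lib.Helper7.DirProd

variable {Ω : Type*} [Group Ω] {S T : Subgroup Ω}

/-- a power of `β` of order prime to `p`, with exponent `≡ 1` modulo `d` (`d` prime to `p`) -/
theorem exists_pow_coprime {X : Type*} [Group X] [Finite X] (p : ℕ) [Fact p.Prime] (β : X) (d : ℕ)
    (hd : d.Coprime p) : ∃ k : ℕ, (orderOf (β ^ k)).Coprime p ∧ k ≡ 1 [MOD d] := by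
  have hp : p.Prime := Fact.out
  have hn : 0 < orderOf β := orderOf_pos β
  obtain ⟨a, m, hm, hnm⟩ := Nat.exists_eq_pow_mul_and_not_dvd hn.ne' p hp.ne_one
  have hcop : (p ^ a).Coprime d := (Nat.Coprime.pow_left a hd.symm)
  have key : ∀ j : ℕ, (orderOf (β ^ (p ^ a * j))).Coprime p := by
    intro j
    have h1 : (β ^ (p ^ a * j)) ^ m = 1 := by
      rw [← pow_mul, mul_assoc, mul_comm j m, ← mul_assoc, ← hnm, pow_mul, pow_orderOf_eq_one, one_pow]
    have h2 : orderOf (β ^ (p ^ a * j)) ∣ m := orderOf_dvd_of_pow_eq_one h1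
    have h3 : m.Coprime p := ((Nat.Prime.coprime_iff_not_dvd hp).mpr hm).symm
    exact Nat.Coprime.coprime_dvd_left h2 h3
  by_cases hd1 : d = 1
  · subst hd1
    exact ⟨p ^ a * 1, key 1, Nat.modEq_one⟩
  · have hd0 : d ≠ 0 := by
      rintro rfl
      rw [Nat.coprime_zero_left] at hd
      exact hp.ne_one hd
    have hdgt : 1 < d := by omega
    obtain ⟨j, -, hj⟩ := Nat.exists_mul_mod_eq_one_of_coprime hcop hdgt
    refine ⟨p ^ a * j, key j, ?_⟩
    show p ^ a * j % d = 1 % d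
    rw [hj, Nat.mod_eq_of_lt hdgt]

theorem hN_of_normal (hTS : T ≤ S) [Finite S] (hTn : (T.subgroupOf S).Normal) :
    S ≤ Subgroup.normalizer (T : Set Ω) := by
  haveI : Finite T := finite_of_le hTS
  intro s hs
  apply mem_normalizer_of_conj_mem_finite
  intro t ht
  have := hTn.conj_mem ⟨t, hTS ht⟩ (Subgroup.mem_subgroupOf.mpr ht) ⟨s, hs⟩
  exact Subgroup.mem_subgroupOf.mp this

/-- **A saturated subsystem of `p`-power index over a normal subgroup of `S` is invariant.** -/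
theorem isInvariantIn_of_pPowerIndex [Finite S] (p : ℕ) [Fact p.Prime] (hS : IsPGroup p S)
    (F : FusionSystem S) (hF : F.IsSaturated p) (hTS : T ≤ S)
    (hN : S ≤ Subgroup.normalizer (T : Set Ω)) (E : FusionSystem T) (hEs : E.IsSaturated p)
    (hEi : E.HasPPowerIndexIn F p) : E.IsInvariantIn F := by
  obtain ⟨hEF, hhyp, hidx⟩ := hEi
  have hT : IsPGroup p T := hS.to_le hTS
  have hCI := conjInv_of_pPowerIndex p F hTS hN hT E hEs hEF hidx
  have hle := le_fratSys p hS F hF hTS hN E hCI hhyp hidx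
  refine ⟨hEF, ⟨hTS, fun R hRT φ hφ x => ?_⟩, ?_, ?_⟩
  · exact ((hle R hφ).2.1 x).mpr (hRT x.2)
  · intro P hPT φ hφ α hα
    obtain ⟨_, χ, hχ, hχe⟩ := (le_conjSys p F hTS hT E hEs hEF hidx α hα P hφ).2
    exact ⟨χ, hχ, fun x hφx hαx => hχe x hφx hαx⟩
  · intro P hPT φ hφ
    obtain ⟨hiff, s, hs, φ₀, hφ₀, hφe⟩ := (hle P hφ).2
    have hle' : P ≤ P ⊓ T := le_inf le_rfl hPT
    refine ⟨conjAut T s (hN hs), conjAut_mem_autGroup F hTS hs (hN hs),
      φ₀.comp (Subgroup.inclusion hle'), fs_restrict_mem E hle' hφ₀, fun x hx => ?_⟩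
    exact hφe ⟨x, x.2, hPT x.2⟩

/-- an automorphism of `U ≥ T` preserving `T` maps elements centralizing `T` to such elements -/
theorem apply_mem_centralizer_of_restrict {U : Subgroup Ω} (hTU : T ≤ U) (β : MulAut U) (α : MulAut T)
    (h : ∀ x : T, β (Subgroup.inclusion hTU x) = Subgroup.inclusion hTU (α x)) (c : U)
    (hc : (c : Ω) ∈ Subgroup.centralizer (T : Set Ω)) :
    ((β c : U) : Ω) ∈ Subgroup.centralizer (T : Set Ω) := by
  rw [Subgroup.mem_centralizer_iff]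
  intro t ht
  have e1 : (Subgroup.inclusion hTU (α⁻¹ ⟨t, ht⟩)) * c = c * (Subgroup.inclusion hTU (α⁻¹ ⟨t, ht⟩)) := by
    apply Subtype.ext
    exact Subgroup.mem_centralizer_iff.mp hc _ (α⁻¹ ⟨t, ht⟩).2
  have e2 := congrArg (fun z : U => ((β z : U) : Ω)) e1
  simp only [map_mul, Subgroup.coe_mul, h, MulAut.apply_inv_self] at e2
  exact e2

/-- the automorphisms of `T` with a good extension to `T C_S(T)` -/
def goodExt (F : FusionSystem S) (T : Subgroup Ω) : Subgroup (MulAut T) where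
  carrier := {α | ∃ β ∈ F.autGroup (T ⊔ centralizerIn S T),
    (∀ x : T, β (Subgroup.inclusion le_sup_left x) = Subgroup.inclusion le_sup_left (α x)) ∧
    ∀ c : ↥(T ⊔ centralizerIn S T), (c : Ω) ∈ centralizerIn S T →
      (c : Ω)⁻¹ * ((β c : ↥(T ⊔ centralizerIn S T)) : Ω) ∈ T ⊓ Subgroup.centralizer (T : Set Ω)}
  one_mem' := ⟨1, Subgroup.one_mem _, fun x => rfl, fun c _ => by
    show (c : Ω)⁻¹ * (c : Ω) ∈ _
    rw [inv_mul_cancel]; exact Subgroup.one_mem _⟩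
  mul_mem' := by
    rintro α₁ α₂ ⟨β₁, hβ₁, h₁, hc₁⟩ ⟨β₂, hβ₂, h₂, hc₂⟩
    refine ⟨β₁ * β₂, Subgroup.mul_mem _ hβ₁ hβ₂, fun x => ?_, fun c hc => ?_⟩
    · rw [MulAut.mul_apply, h₂, h₁]; rfl
    · have hz₂ := hc₂ c hc
      have hz₁ := hc₁ c hc
      -- `β₂ c = c * z₂`
      set z₂ : Ω := (c : Ω)⁻¹ * ((β₂ c : ↥(T ⊔ centralizerIn S T)) : Ω) with hz₂def
      have e : β₂ c = c * Subgroup.inclusion le_sup_left (⟨z₂, hz₂.1⟩ : T) := by
        apply Subtype.ext
        show ((β₂ c : ↥(T ⊔ centralizerIn S T)) : Ω) = (c : Ω) * z₂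
        rw [hz₂def]; group
      have e3 : (c : Ω)⁻¹ * (((β₁ * β₂) c : ↥(T ⊔ centralizerIn S T)) : Ω) =
          ((c : Ω)⁻¹ * ((β₁ c : ↥(T ⊔ centralizerIn S T)) : Ω)) * ((α₁ ⟨z₂, hz₂.1⟩ : T) : Ω) := by
        rw [MulAut.mul_apply, e, map_mul, h₁]
        show (c : Ω)⁻¹ * (((β₁ c : ↥(T ⊔ centralizerIn S T)) : Ω) * ((α₁ ⟨z₂, hz₂.1⟩ : T) : Ω)) = _
        group
      rw [e3]
      exact Subgroup.mul_mem _ hz₁ ⟨(α₁ ⟨z₂, hz₂.1⟩).2, aut_mem_centralizer α₁ ⟨z₂, hz₂.1⟩ hz₂.2⟩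
  inv_mem' := by
    rintro α ⟨β, hβ, h, hc⟩
    have hinv : ∀ x : T, β⁻¹ (Subgroup.inclusion le_sup_left x) =
        Subgroup.inclusion le_sup_left (α⁻¹ x) := by
      intro x
      have h1 := h (α⁻¹ x)
      rw [MulAut.apply_inv_self] at h1
      rw [← h1, MulAut.inv_apply_self]
    refine ⟨β⁻¹, Subgroup.inv_mem _ hβ, hinv, fun c hcc => ?_⟩
    have hz := hc c hcc
    set z : Ω := (c : Ω)⁻¹ * ((β c : ↥(T ⊔ centralizerIn S T)) : Ω) with hzdef
    have e : β c = c * Subgroup.inclusion le_sup_left (⟨z, hz.1⟩ : T) := by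
      apply Subtype.ext
      show ((β c : ↥(T ⊔ centralizerIn S T)) : Ω) = (c : Ω) * z
      rw [hzdef]; group
    -- `c = β⁻¹ c * α⁻¹ z`
    have e2 : c = β⁻¹ c * Subgroup.inclusion le_sup_left (α⁻¹ ⟨z, hz.1⟩) := by
      have := congrArg (fun y => β⁻¹ y) e
      simp only [MulAut.inv_apply_self, map_mul, hinv] at this
      exact this
    have e3 : (c : Ω)⁻¹ * ((β⁻¹ c : ↥(T ⊔ centralizerIn S T)) : Ω) =
        (((α⁻¹ ⟨z, hz.1⟩ : T) : Ω))⁻¹ := by
      have := congrArg (fun y : ↥(T ⊔ centralizerIn S T) => (y : Ω)) e2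
      simp only [Subgroup.coe_mul, Subgroup.coe_inclusion] at this
      rw [this]
      group
    rw [e3]
    exact Subgroup.inv_mem _ ⟨(α⁻¹ ⟨z, hz.1⟩).2, aut_mem_centralizer α⁻¹ ⟨z, hz.1⟩ hz.2⟩

theorem sup_centralizerIn_le (hTS : T ≤ S) : T ⊔ centralizerIn S T ≤ S := sup_le hTS inf_le_left

theorem comm_centralizerIn : ∀ a ∈ T, ∀ b ∈ centralizerIn S T, a * b = b * a := by
  intro a ha b hb
  exact (Subgroup.mem_centralizer_iff.mp hb.2 a ha)

/-- inner automorphisms of `T` have good extensions -/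
theorem autInducedBy_le_goodExt [Finite S] (F : FusionSystem S) (hTS : T ≤ S) :
    autInducedBy T T ≤ goodExt F T := by
  intro α hα
  rw [mem_autInducedBy_iff] at hα
  obtain ⟨g, hg, hαe⟩ := hα
  have hgU : g ∈ T ⊔ centralizerIn S T := Subgroup.mem_sup_left hg
  have hgn : g ∈ Subgroup.normalizer ((T ⊔ centralizerIn S T : Subgroup Ω) : Set Ω) :=
    Subgroup.le_normalizer hgU
  refine ⟨conjAut _ g hgn, conjAut_mem_autGroup F (sup_centralizerIn_le hTS) (hTS hg) hgn,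
    fun x => ?_, fun c hc => ?_⟩
  · apply Subtype.ext
    show g * (x : Ω) * g⁻¹ = ((α x : T) : Ω)
    rw [hαe]
  · show (c : Ω)⁻¹ * (g * (c : Ω) * g⁻¹) ∈ _
    have : g * (c : Ω) = (c : Ω) * g := comm_centralizerIn g hg c hc
    rw [this]
    have e : (c : Ω)⁻¹ * ((c : Ω) * g * g⁻¹) = 1 := by group
    rw [e]
    exact Subgroup.one_mem _

/-- `p'`-elements of `Aut_F(T)` have good extensions (`T` normal in `S`, `hyp(F) ≤ T`) -/
theorem mem_goodExt_of_coprime [Finite S] (p : ℕ) [Fact p.Prime] (hS : IsPGroup p S)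
    (F : FusionSystem S) (hF : F.IsSaturated p) (hTS : T ≤ S)
    (hN : S ≤ Subgroup.normalizer (T : Set Ω)) (hhyp : F.hyperfocalSubgroup p ≤ T)
    {δ : MulAut T} (hδ : δ ∈ F.autGroup T) (hc : (orderOf δ).Coprime p) : δ ∈ goodExt F T := by
  haveI : Finite T := finite_of_le hTS
  have hUS := sup_centralizerIn_le (S := S) hTS
  haveI : Finite ↥(T ⊔ centralizerIn S T) := finite_of_le hUS
  have hFN : F.IsFullyNormalized T := MaxClass.isFullyNormalized_of_normalizer F hTS hN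
  have hRec := (fullyAutomized_receptive_of_sat p hS F hF hFN).2
  have hδHom := (mem_autGroup_iff F hTS δ).mp hδ
  obtain ⟨ψ, hψ, hψe⟩ := hRec.2 T _ hδHom (range_subtype_comp_mulAut δ)
  have hUV : T ⊔ centralizerIn S T ≤ extender S T (T.subtype.comp δ.toMonoidHom) :=
    sup_le (le_extender F hδHom) (centralizerIn_le_extender S T _)
  -- values of `ψ`
  have hψT : ∀ (t : T) (h : (t : Ω) ∈ extender S T (T.subtype.comp δ.toMonoidHom)),
      ψ ⟨t, h⟩ = ((δ t : T) : Ω) := fun t h => hψe t t.2 h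
  have hψC : ∀ (c : Ω) (hcc : c ∈ centralizerIn S T)
      (h : c ∈ extender S T (T.subtype.comp δ.toMonoidHom)), ψ ⟨c, h⟩ ∈ centralizerIn S T := by
    intro c hcc h
    refine ⟨(F.le_of_mem hψ).2 _, ?_⟩
    show ψ ⟨c, h⟩ ∈ Subgroup.centralizer (T : Set Ω)
    rw [Subgroup.mem_centralizer_iff]
    intro t ht
    have ht' : t = ((δ (δ⁻¹ ⟨t, ht⟩) : T) : Ω) := by rw [MulAut.apply_inv_self]
    have hmemT : ((δ⁻¹ ⟨t, ht⟩ : T) : Ω) ∈ extender S T (T.subtype.comp δ.toMonoidHom) :=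
      le_extender F hδHom (δ⁻¹ ⟨t, ht⟩).2
    rw [ht', ← hψT (δ⁻¹ ⟨t, ht⟩) hmemT, ← map_mul, ← map_mul]
    congr 1
    apply Subtype.ext
    exact comm_centralizerIn _ (δ⁻¹ ⟨t, ht⟩).2 c hcc
  have hmem : ∀ u : ↥(T ⊔ centralizerIn S T), ψ (Subgroup.inclusion hUV u) ∈
      T ⊔ centralizerIn S T := by
    intro u
    obtain ⟨a, ha, b, hb, hab⟩ := exists_mul_of_mem_sup (comm_centralizerIn (S := S) (T := T)) u.2
    have e : Subgroup.inclusion hUV u =
        (⟨a, le_extender F hδHom ha⟩ : extender S T (T.subtype.comp δ.toMonoidHom)) *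
          ⟨b, centralizerIn_le_extender S T _ hb⟩ := Subtype.ext hab
    rw [e, map_mul]
    refine Subgroup.mul_mem _ (Subgroup.mem_sup_left ?_) (Subgroup.mem_sup_right (hψC b hb _))
    rw [hψT ⟨a, ha⟩]
    exact (δ ⟨a, ha⟩).2
  obtain ⟨β₀, hβ₀, hβ₀e⟩ := exists_aut_of_hom F hUS hUV hψ hmem
  have hres₀ : ∀ x : T, β₀ (Subgroup.inclusion le_sup_left x) = Subgroup.inclusion le_sup_left (δ x) := by
    intro x
    apply Subtype.ext
    rw [hβ₀e]
    exact hψT x _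
  obtain ⟨k, hk, hk1⟩ := exists_pow_coprime p β₀ (orderOf δ) hc
  have hδk : δ ^ k = δ := by
    have : δ ^ k = δ ^ 1 := pow_eq_pow_iff_modEq.mpr hk1
    rwa [pow_one] at this
  have hres : ∀ x : T, (β₀ ^ k) (Subgroup.inclusion le_sup_left x) =
      Subgroup.inclusion le_sup_left (δ x) := by
    intro x
    rw [restrict_pow le_sup_left δ β₀ hres₀ k x, hδk]
  have hβ : β₀ ^ k ∈ F.autGroup (T ⊔ centralizerIn S T) := Subgroup.pow_mem _ hβ₀ k
  refine ⟨β₀ ^ k, hβ, hres, fun c hcc => ⟨?_, ?_⟩⟩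
  · exact hhyp (inv_mul_apply_mem_hyperfocal p F hUS hβ hk c)
  · exact Subgroup.mul_mem _ (Subgroup.inv_mem _ hcc.2)
      (apply_mem_centralizer_of_restrict le_sup_left (β₀ ^ k) δ hres c hcc.2)

/-- **The extension condition.** -/
theorem extension_of_pPowerIndex [Finite S] (p : ℕ) [Fact p.Prime] (hS : IsPGroup p S)
    (F : FusionSystem S) (hF : F.IsSaturated p) (hTS : T ≤ S)
    (hN : S ≤ Subgroup.normalizer (T : Set Ω)) (E : FusionSystem T) (hEs : E.IsSaturated p)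
    (hEi : E.HasPPowerIndexIn F p) : E.autGroup T ≤ goodExt F T := by
  obtain ⟨hEF, hhyp, hidx⟩ := hEi
  have hT : IsPGroup p T := hS.to_le hTS
  haveI : Finite T := finite_of_le hTS
  have hFA := (fullyAutomized_receptive_of_sat p hT E hEs (isFullyNormalized_top E)).1
  apply autGroup_le_of_pElts p E hFA _ (autInducedBy_le_goodExt F hTS)
  intro δ hδ hc
  exact mem_goodExt_of_coprime p hS F hF hTS hN hhyp (autGroup_le_of_isSubsystemOf E F hEF T hδ) hc

/-- **A saturated subsystem of `p`-power index over a normal subgroup `T ≥ hyp(F)` of `S` is normal in `F`.** -/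
theorem isNormalIn_of_pPowerIndex [Finite S] (p : ℕ) [Fact p.Prime] (hS : IsPGroup p S)
    (F : FusionSystem S) (hF : F.IsSaturated p) (hTS : T ≤ S) (hTn : (T.subgroupOf S).Normal)
    (E : FusionSystem T) (hEs : E.IsSaturated p) (hEi : E.HasPPowerIndexIn F p) :
    E.IsNormalIn F p := by
  have hN := hN_of_normal hTS hTn
  refine ⟨⟨hEs, hF, isInvariantIn_of_pPowerIndex p hS F hF hTS hN E hEs hEi⟩, fun α hα => ?_⟩
  obtain ⟨β, hβ, h1, h2⟩ := extension_of_pPowerIndex p hS F hF hTS hN E hEs hEi hα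
  refine ⟨β, hβ, fun x => ?_, h2⟩
  rw [h1]
  rfl

end Cfsg.Agent.Lib.Helper7.PPowNormal
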