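import Mathlib
import Cfsg.Prelude.Def_FusionSystem
import Cfsg.Prelude.Def_FusionComponents
import Cfsg.Prelude.Def_FusionReduction
import Cfsg.Agent.Lib.Helper7.PPowNormalD
import Cfsg.Agent.Lib.Helper7.HyperfocalTheorem
import Cfsg.Agent.H2.ExtAction

/-!
# Residual limits, part A: uniqueness of subsystems of `p`-power index; `hyp(E) = hyp(F)`

* `SameSys` : two fusion systems (over possibly syntactically different subgroups) with equal base and equal maps;
* `sameSys_of_pPowerIndex` : two saturated subsystems of `p`-power index over the same subgroup coincide;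
* `hyperfocal_eq_of_pPowerIndex` : a subsystem of `p`-power index has the same hyperfocal subgroup.
-/

set_option autoImplicit false
set_option linter.unusedSectionVars false
set_option linter.unusedVariables false
set_option linter.style.haveILetI false

namespace Cfsg.Agent.Lib.Helper7.PPowRes

open Cfsg Cfsg.FusionSystem Cfsg.Agent.Lib.Helper7 Cfsg.Agent.Lib.Helper7.PPowNormal

universe u

variable {Ω : Type u} [Group Ω]

theorem fs_ext {S : Subgroup Ω} (F F' : FusionSystem S) (h : ∀ P, F.Hom P = F'.Hom P) : F = F' := by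
  cases F; cases F'
  simp only [FusionSystem.mk.injEq]
  funext P
  exact h P

/-- equal base subgroups and equal maps -/
def SameSys {S S' : Subgroup Ω} (F : FusionSystem S) (F' : FusionSystem S') : Prop :=
  S = S' ∧ ∀ P : Subgroup Ω, F.Hom P = F'.Hom P

theorem SameSys.refl {S : Subgroup Ω} (F : FusionSystem S) : SameSys F F := ⟨rfl, fun _ => rfl⟩

theorem SameSys.symm {S S' : Subgroup Ω} {F : FusionSystem S} {F' : FusionSystem S'}
    (h : SameSys F F') : SameSys F' F := ⟨h.1.symm, fun P => (h.2 P).symm⟩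

theorem SameSys.trans {S S' S'' : Subgroup Ω} {F : FusionSystem S} {F' : FusionSystem S'}
    {F'' : FusionSystem S''} (h : SameSys F F') (h' : SameSys F' F'') : SameSys F F'' :=
  ⟨h.1.trans h'.1, fun P => (h.2 P).trans (h'.2 P)⟩

/-- the induction principle: to prove something about `SameSys` systems, assume they are equal -/
theorem SameSys.elim {S S' : Subgroup Ω} {F : FusionSystem S} {F' : FusionSystem S'}
    (h : SameSys F F')
    {motive : ∀ (S' : Subgroup Ω), FusionSystem S' → Prop} (h0 : motive S F) : motive S' F' := by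
  obtain ⟨rfl, h2⟩ := h
  have := fs_ext F F' h2
  subst this
  exact h0

/-- **Uniqueness**: two saturated subsystems of `p`-power index over the same subgroup coincide. -/
theorem sameSys_of_pPowerIndex {S : Subgroup Ω} [Finite S] (p : ℕ) [Fact p.Prime] (hS : IsPGroup p S)
    (F : FusionSystem S) {T₁ T₂ : Subgroup Ω} (hT : T₁ = T₂) (E₁ : FusionSystem T₁)
    (E₂ : FusionSystem T₂) (h₁s : E₁.IsSaturated p) (h₂s : E₂.IsSaturated p)
    (h₁ : E₁.HasPPowerIndexIn F p) (h₂ : E₂.HasPPowerIndexIn F p) : SameSys E₁ E₂ := by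
  subst hT
  refine ⟨rfl, ?_⟩
  have hTS : T₁ ≤ S := (F.le_of_mem (h₁.1 T₁ (fs_subtype_mem E₁ le_rfl))).1
  have hT : IsPGroup p T₁ := hS.to_le hTS
  haveI : Finite T₁ := finite_of_le hTS
  have key : ∀ (A B : FusionSystem T₁), A.IsSaturated p → A.HasPPowerIndexIn F p →
      B.HasPPowerIndexIn F p → A ≤ B := by
    intro A B hAs hA hB
    apply alperin_goldschmidt p hT A hAs
    intro R hR
    have hFN : A.IsFullyNormalized R := by
      rcases hR with rfl | hR
      · exact isFullyNormalized_top A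
      · exact hR.2.1
    have hRT : R ≤ T₁ := hFN.1
    haveI : Finite R := finite_of_le hRT
    have hFA := (fullyAutomized_receptive_of_sat p hT A hAs hFN).1
    apply autGroup_le_of_pElts p A hFA _ (autInducedBy_le_autGroup B hRT)
    intro δ hδ hc
    apply hB.2.2 R hRT
    have hδF : δ ∈ F.autGroup R := autGroup_le_of_isSubsystemOf A F hA.1 R hδ
    refine ⟨⟨δ, hδF⟩, ?_, rfl⟩
    apply mem_pResidual_of_coprime
    rw [Subgroup.orderOf_mk]
    exact hc
  intro P
  exact Set.Subset.antisymm (key E₁ E₂ h₁s h₁ h₂ P) (key E₂ E₁ h₂s h₂ h₁ P)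

/-- the restriction to `R ∩ T` of a `p'`-element of `Aut_F(R)` is a `p'`-element of `Aut_E(R ∩ T)` -/
theorem resSub_mem_of_coprime {S : Subgroup Ω} [Finite S] (p : ℕ) [Fact p.Prime] (F : FusionSystem S)
    {T : Subgroup Ω} (E : FusionSystem T) (hE : E.HasPPowerIndexIn F p) {R : Subgroup Ω} (hRS : R ≤ S)
    {δ : MulAut R} (hδ : δ ∈ F.autGroup R) (hc : (orderOf δ).Coprime p)
    (hstab : δ ∈ stabSub R (R ⊓ T)) :
    resSub (inf_le_left : R ⊓ T ≤ R) ⟨δ, hstab⟩ ∈ E.autGroup (R ⊓ T) ∧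
      (orderOf (resSub (inf_le_left : R ⊓ T ≤ R) ⟨δ, hstab⟩)).Coprime p := by
  obtain ⟨hEF, hhyp, hidx⟩ := hE
  have hδHom := (mem_autGroup_iff F hRS δ).mp hδ
  set δ₀ := resSub (inf_le_left : R ⊓ T ≤ R) ⟨δ, hstab⟩ with hδ₀
  have hδ₀F : δ₀ ∈ F.autGroup (R ⊓ T) := by
    rw [mem_autGroup_iff F (inf_le_left.trans hRS)]
    exact fs_mem_of_agree F inf_le_left hδHom _ (fun x => rfl)
  have hord : (orderOf δ₀).Coprime p := by
    have h1 : orderOf δ₀ ∣ orderOf (⟨δ, hstab⟩ : stabSub R (R ⊓ T)) := orderOf_map_dvd _ _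
    rw [Subgroup.orderOf_mk] at h1
    exact Nat.Coprime.coprime_dvd_left h1 hc
  refine ⟨?_, hord⟩
  apply hidx (R ⊓ T) inf_le_right
  refine ⟨⟨δ₀, hδ₀F⟩, ?_, rfl⟩
  apply mem_pResidual_of_coprime
  rw [Subgroup.orderOf_mk]
  exact hord

open Cfsg.Agent.H2.ExtAct in
/-- for a `p'`-element `δ` of `Aut_F(R)`, the commutators `x⁻¹ δ(x)` lie in `hyp(E)` -/
theorem inv_mul_apply_mem_hyperfocal_sub {S : Subgroup Ω} [Finite S] (p : ℕ) [Fact p.Prime]
    (hS : IsPGroup p S) (F : FusionSystem S)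
    {T : Subgroup Ω} (E : FusionSystem T) (hE : E.HasPPowerIndexIn F p) {R : Subgroup Ω} (hRS : R ≤ S)
    {δ : MulAut R} (hδ : δ ∈ F.autGroup R) (hc : (orderOf δ).Coprime p) (x : R) :
    (x : Ω)⁻¹ * ((δ x : R) : Ω) ∈ E.hyperfocalSubgroup p := by
  haveI : Finite R := finite_of_le hRS
  have hRp : IsPGroup p R := hS.to_le hRS
  set A : Subgroup (MulAut R) := Subgroup.zpowers δ with hA
  -- elements of `A` are `p'`-elements of `Aut_F(R)`
  have hAF : ∀ a : A, (a : MulAut R) ∈ F.autGroup R ∧ (orderOf (a : MulAut R)).Coprime p := by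
    rintro ⟨a, ha⟩
    obtain ⟨k, rfl⟩ := Subgroup.mem_zpowers_iff.mp ha
    refine ⟨Subgroup.zpow_mem _ hδ k, ?_⟩
    exact Nat.Coprime.coprime_dvd_left (orderOf_dvd_of_mem_zpowers ha) hc
  have hsmul : ∀ (a : A) (y : R), a • y = (a : MulAut R) y := fun a y => rfl
  have hcop : (Nat.card A).Coprime (Nat.card R) := by
    obtain ⟨k, hk⟩ := IsPGroup.iff_card.mp hRp
    rw [hk, Nat.card_zpowers]
    exact Nat.Coprime.pow_right k hc
  have hsolv : Group.IsSolvable A ∨ Group.IsSolvable R := Or.inl inferInstance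
  have hcc := comm_comm (A := A) (G := R) hcop hsolv ⊤ (fun _ _ _ => Subgroup.mem_top _)
  -- `[R, A] ≤ T`
  set K : Subgroup R := T.subgroupOf R with hK
  have h1 : comm A (⊤ : Subgroup R) ≤ K := by
    unfold Cfsg.Agent.H2.ExtAct.comm
    rw [Subgroup.closure_le]
    rintro _ ⟨a, h, -, rfl⟩
    rw [SetLike.mem_coe, hK, Subgroup.mem_subgroupOf]
    have := inv_mul_apply_mem_hyperfocal p F hRS (hAF a).1 (hAF a).2 h
    exact hE.2.1 this
  -- `[K, A] ≤ hyp(E)`
  set M : Subgroup R := (E.hyperfocalSubgroup p).subgroupOf R with hM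
  have h2 : comm A K ≤ M := by
    unfold Cfsg.Agent.H2.ExtAct.comm
    rw [Subgroup.closure_le]
    rintro _ ⟨a, h, hh, rfl⟩
    rw [SetLike.mem_coe, hM, Subgroup.mem_subgroupOf]
    have hstab := mem_stabSub_of_coprime p F hRS hE.2.1 (hAF a).1 (hAF a).2
    obtain ⟨hmem, hord⟩ := resSub_mem_of_coprime p F E hE hRS (hAF a).1 (hAF a).2 hstab
    have hhT : (h : Ω) ∈ R ⊓ T := ⟨h.2, Subgroup.mem_subgroupOf.mp hh⟩
    apply Subgroup.subset_closure
    refine ⟨R ⊓ T, ⟨_, hmem⟩, ⟨h, hhT⟩, inf_le_right, ?_, rfl⟩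
    apply mem_pResidual_of_coprime
    rw [Subgroup.orderOf_mk]
    exact hord
  have h3 : comm A (⊤ : Subgroup R) ≤ M := by
    rw [← hcc]
    refine le_trans ?_ h2
    unfold Cfsg.Agent.H2.ExtAct.comm
    apply Subgroup.closure_mono
    rintro _ ⟨a, h, hh, rfl⟩
    exact ⟨a, h, h1 hh, rfl⟩
  have h4 : x⁻¹ * δ x ∈ comm A (⊤ : Subgroup R) := by
    apply Subgroup.subset_closure
    exact ⟨⟨δ, Subgroup.mem_zpowers δ⟩, x, Subgroup.mem_top _, rfl⟩
  exact Subgroup.mem_subgroupOf.mp (h3 h4)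

/-- **A subsystem of `p`-power index has the same hyperfocal subgroup.** -/
theorem hyperfocal_eq_of_pPowerIndex {S : Subgroup Ω} [Finite S] (p : ℕ) [Fact p.Prime]
    (hS : IsPGroup p S) (F : FusionSystem S)
    {T : Subgroup Ω} (E : FusionSystem T) (hE : E.HasPPowerIndexIn F p) :
    E.hyperfocalSubgroup p = F.hyperfocalSubgroup p := by
  apply le_antisymm (hyperfocal_mono p E F hE.1)
  unfold FusionSystem.hyperfocalSubgroup
  rw [Subgroup.closure_le]
  rintro _ ⟨R, α, x, hRS, hα, rfl⟩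
  show (x : Ω)⁻¹ * (((α : MulAut R) x : R) : Ω) ∈ E.hyperfocalSubgroup p
  -- induction on `α ∈ O^p(Aut_F(R))`
  have key : ∀ β : F.autGroup R, β ∈ pResidual p (F.autGroup R) → ∀ y : R,
      (y : Ω)⁻¹ * (((β : MulAut R) y : R) : Ω) ∈ E.hyperfocalSubgroup p := by
    intro β hβ
    unfold pResidual at hβ
    induction hβ using Subgroup.closure_induction with
    | mem b hb =>
      intro y
      apply inv_mul_apply_mem_hyperfocal_sub p hS F E hE hRS b.2
      rw [Subgroup.orderOf_coe]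
      exact hb
    | one => intro y; simp
    | mul a b _ _ iha ihb =>
      intro y
      have e : (y : Ω)⁻¹ * ((((a * b : F.autGroup R) : MulAut R) y : R) : Ω) =
          ((y : Ω)⁻¹ * (((b : MulAut R) y : R) : Ω)) *
            ((((b : MulAut R) y : R) : Ω)⁻¹ * (((a : MulAut R) ((b : MulAut R) y) : R) : Ω)) := by
        rw [Subgroup.coe_mul, MulAut.mul_apply]; group
      rw [e]
      exact Subgroup.mul_mem _ (ihb y) (iha _)
    | inv a _ iha =>
      intro y
      have h := iha (((a : MulAut R)⁻¹ y))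
      rw [MulAut.apply_inv_self] at h
      have e : (y : Ω)⁻¹ * ((((a⁻¹ : F.autGroup R) : MulAut R) y : R) : Ω) =
          ((((a : MulAut R)⁻¹ y : R) : Ω)⁻¹ * (y : Ω))⁻¹ := by
        rw [Subgroup.coe_inv]; group
      rw [e]
      exact Subgroup.inv_mem _ h
  exact key α hα x

end Cfsg.Agent.Lib.Helper7.PPowRes
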