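import Mathlib
import Cfsg.Agent.Lib.Helper7.IsoC
import Cfsg.Agent.Lib.Helper7.FusionSubnormal
import Cfsg.Agent.Lib.Helper7.PPowResA

/-!
# Isomorphisms of fusion systems, part D: transport of subnormality
-/

set_option autoImplicit false
set_option linter.unusedSectionVars false
set_option linter.unusedVariables false
set_option linter.style.haveILetI false

namespace Cfsg.Agent.Lib.Helper7.Iso

open Cfsg Cfsg.FusionSystem Cfsg.Agent.Lib.Helper7

universe u v

variable {Ω : Type u} [Group Ω] {Ω' : Type v} [Group Ω']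

theorem le_of_isSubsystemOf {T S : Subgroup Ω} (E : FusionSystem T) (F : FusionSystem S)
    (h : E.IsSubsystemOf F) : T ≤ S :=
  (F.le_of_mem (h T (fs_subtype_mem E le_rfl))).1

/-- the isomorphic image of the whole system: base and maps coincide -/
theorem IsIso.eq_of_self {S : Subgroup Ω} {θ : S →* Ω'} {F : FusionSystem S} {S' : Subgroup Ω'}
    {F' : FusionSystem S'} (h : IsIso θ F F') {T' : Subgroup Ω'} {E' : FusionSystem T'}
    (hE : IsIso (resHom θ (le_refl S)) F E') : ∃ e : T' = S', e ▸ E' = F' := by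
  have hE2 : IsIso θ F E' := hE.congr (fun x => rfl)
  have e : T' = S' := by rw [← hE2.range, h.range]
  subst e
  exact ⟨rfl, PPowRes.fs_ext _ _ (fun P' => hE2.hom_eq h P')⟩

/-- transport of subnormality along an isomorphism -/
theorem IsIso.isSubnormalIn {p : ℕ} {T S : Subgroup Ω} {E : FusionSystem T} {F : FusionSystem S}
    (hsn : E.IsSubnormalIn F p) :
    ∀ (hp : p.Prime) (hfin : Finite S) (hS : IsPGroup p S) (hTS : T ≤ S) (θ : S →* Ω')
      {S' : Subgroup Ω'} (F' : FusionSystem S') (h : IsIso θ F F')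
      {T' : Subgroup Ω'} (E' : FusionSystem T') (hE : IsIso (resHom θ hTS) E E'),
      E'.IsSubnormalIn F' p := by
  induction hsn with
  | refl F p =>
    intro hp hfin hS hTS θ S' F' h T' E' hE
    obtain ⟨e, he⟩ := h.eq_of_self hE
    subst e
    subst he
    exact IsSubnormalIn.refl _ _
  | step hED hDF ih =>
    intro hp hfin hS hTS θ S' F' h T' E' hE
    rename_i U S₁ E₁ D F₁ p₁
    haveI : Fact p₁.Prime := ⟨hp⟩
    have hUS : U ≤ S₁ := le_of_isSubsystemOf D F₁ hDF.1.2.2.1
    have hTU : T ≤ U := le_of_isSubnormalIn E₁ D p₁ hED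
    haveI : Finite U := Finite.of_injective (Subgroup.inclusion hUS) (Subgroup.inclusion_injective hUS)
    obtain ⟨D', hD'⟩ := exists_image D (resHom θ hUS) (resHom_injective θ h.inj hUS) rfl
    have hE2 : IsIso (resHom (resHom θ hUS) hTU) E₁ E' := hE.congr (fun x => rfl)
    have h1 := ih hp inferInstance (hS.to_le hUS) hTU (resHom θ hUS) D' hD' E' hE2
    have h2 : D'.IsNormalIn F' p₁ := h.isNormalIn hD' p₁ hS hDF
    exact IsSubnormalIn.step h1 h2

end Cfsg.Agent.Lib.Helper7.Iso
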