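import Mathlib
import Cfsg.Agent.Lib.Helper7.IsoD

/-!
# Isomorphisms of fusion systems, part E: conjugation by maps of the system; a conjugate of a
subnormal subsystem is subnormal
-/

set_option autoImplicit false
set_option linter.unusedSectionVars false
set_option linter.unusedVariables false
set_option linter.style.haveILetI false

namespace Cfsg.Agent.Lib.Helper7.Iso

open Cfsg Cfsg.FusionSystem Cfsg.Agent.Lib.Helper7

universe u

variable {Ω : Type u} [Group Ω]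

/-- a fusion system is strongly invariant in itself -/
theorem strongInv_self {S : Subgroup Ω} (F : FusionSystem S) : StrongInv F F := by
  intro P Q hPQ hQS φ hφ hφQ ψ hψ
  have hψP := fs_restrict_mem F hPQ hψ
  obtain ⟨ι, hι, hιe⟩ := F.inv_mem hψP
  have hιP : ∀ y : (ψ.comp (Subgroup.inclusion hPQ)).range, ι y ∈ P := by
    rintro ⟨_, x, rfl⟩
    rw [hιe x]
    exact x.2
  have h1 := F.comp_mem hι hφ hιP
  have h1Q : ∀ y : (ψ.comp (Subgroup.inclusion hPQ)).range,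
      (φ.comp (ι.codRestrict P hιP)) y ∈ Q := fun y => hφQ _
  have h2 := F.comp_mem h1 hψ h1Q
  have hle : (P.subgroupOf Q).map ψ ≤ (ψ.comp (Subgroup.inclusion hPQ)).range := by
    rintro _ ⟨q, hq, rfl⟩
    exact ⟨⟨q, Subgroup.mem_subgroupOf.mp hq⟩, rfl⟩
  refine ⟨_, fs_restrict_mem F hle h2, fun x hx => ?_⟩
  show ψ ⟨φ ⟨ι ⟨ψ (Subgroup.inclusion hPQ x), _⟩, _⟩, _⟩ = ψ ⟨φ x, hφQ x⟩
  congr 2
  congr 1
  exact Subtype.ext (hιe x)

/-- an automorphism (as a map of `F`) of the base of a strongly invariant subsystem carries the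
subsystem onto itself -/
theorem isIso_aut {S : Subgroup Ω} (F : FusionSystem S) {U : Subgroup Ω} [Finite U] (D : FusionSystem U)
    (hSI : StrongInv F D) {a : U →* Ω} (ha : a ∈ F.Hom U) (haU : ∀ x, a x ∈ U) : IsIso a D D := by
  have hinj := F.injective_of_mem ha
  have hr : a.range = U := range_eq_of_forall_mem a hinj haU
  -- the inverse
  obtain ⟨ι₀, hι₀, hι₀e⟩ := F.inv_mem ha
  have hle : U ≤ a.range := le_of_eq hr.symm
  have hι := fs_restrict_mem F hle hι₀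
  have hιe : ∀ x : U, (ι₀.comp (Subgroup.inclusion hle)) ⟨a x, haU x⟩ = (x : Ω) := fun x => hι₀e x
  have hιU : ∀ y : U, (ι₀.comp (Subgroup.inclusion hle)) y ∈ U := by
    intro y
    obtain ⟨x, hx⟩ := hle y.2
    have : y = ⟨a x, haU x⟩ := Subtype.ext hx.symm
    rw [this, hιe]
    exact x.2
  have haι : ∀ y : U, a ⟨(ι₀.comp (Subgroup.inclusion hle)) y, hιU y⟩ = (y : Ω) := by
    intro y
    obtain ⟨x, hx⟩ := hle y.2
    have e : y = ⟨a x, haU x⟩ := Subtype.ext hx.symm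
    rw [e]
    congr 1
    apply Subtype.ext
    exact hιe x
  refine ⟨hinj, hr, ?_, ?_⟩
  · intro P φ hφ P' φ' hc
    have hPU : P ≤ U := (D.le_of_mem hφ).1
    obtain ⟨χ, hχ, hχe⟩ := hSI P U hPU le_rfl φ hφ (D.le_of_mem hφ).2 a ha
    have hle' : P' ≤ (P.subgroupOf U).map a := by
      intro y hy
      obtain ⟨x, hx⟩ := hc.surj ⟨y, hy⟩
      exact ⟨⟨x, hPU x.2⟩, Subgroup.mem_subgroupOf.mpr x.2, hx⟩
    refine fs_mem_of_agree D hle' hχ φ' (fun y => ?_)
    obtain ⟨x, hx⟩ := hc.surj y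
    have e1 : y = ⟨a ⟨x, hc.le x.2⟩, hc.mem x⟩ := Subtype.ext hx.symm
    rw [e1, hc.eq x]
    exact (hχe x _).symm
  · intro P' φ' hφ'
    have hP'U : P' ≤ U := (D.le_of_mem hφ').1
    obtain ⟨χ, hχ, hχe⟩ := hSI P' U hP'U le_rfl φ' hφ' (D.le_of_mem hφ').2 _ hι
    refine ⟨_, χ, hχ, ?_⟩
    have hsrc : (P'.subgroupOf U).map (ι₀.comp (Subgroup.inclusion hle)) ≤ U := (D.le_of_mem hχ).1
    -- elements of the source
    have hrep : ∀ x : ↥((P'.subgroupOf U).map (ι₀.comp (Subgroup.inclusion hle))),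
        ∃ y : P', (x : Ω) = (ι₀.comp (Subgroup.inclusion hle)) ⟨y, hP'U y.2⟩ := by
      rintro ⟨_, q, hq, rfl⟩
      exact ⟨⟨q, Subgroup.mem_subgroupOf.mp hq⟩, rfl⟩
    have hax : ∀ (x : ↥((P'.subgroupOf U).map (ι₀.comp (Subgroup.inclusion hle)))) (y : P'),
        (x : Ω) = (ι₀.comp (Subgroup.inclusion hle)) ⟨y, hP'U y.2⟩ → a ⟨x, hsrc x.2⟩ = (y : Ω) := by
      intro x y hxy
      rw [← haι ⟨y, hP'U y.2⟩]
      congr 1
      exact Subtype.ext hxy
    refine Corr.mk' hsrc (D.le_of_mem hχ).2 (fun x => ?_) (fun y => ?_) (fun x => ?_)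
    · obtain ⟨y, hy⟩ := hrep x
      rw [hax x y hy]
      exact y.2
    · refine ⟨⟨(ι₀.comp (Subgroup.inclusion hle)) ⟨y, hP'U y.2⟩,
        ⟨⟨y, hP'U y.2⟩, Subgroup.mem_subgroupOf.mpr y.2, rfl⟩⟩, ?_⟩
      exact haι ⟨y, hP'U y.2⟩
    · obtain ⟨y, hy⟩ := hrep x
      have e1 : (⟨a ⟨x, hsrc x.2⟩, by rw [hax x y hy]; exact y.2⟩ : P') = y :=
        Subtype.ext (hax x y hy)
      rw [e1]
      have e2 : x = ⟨(ι₀.comp (Subgroup.inclusion hle)) (Subgroup.inclusion hP'U y),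
          ⟨Subgroup.inclusion hP'U y, Subgroup.mem_subgroupOf.mpr y.2, rfl⟩⟩ := Subtype.ext hy
      have h3 := hχe y ⟨Subgroup.inclusion hP'U y, Subgroup.mem_subgroupOf.mpr y.2, rfl⟩
      have e3 : (⟨χ x, (D.le_of_mem hχ).2 x⟩ : U) =
          ⟨(ι₀.comp (Subgroup.inclusion hle)) ⟨φ' y, (D.le_of_mem hφ').2 y⟩, hιU _⟩ := by
        apply Subtype.ext
        exact (congrArg χ e2).trans h3
      rw [e3, haι]

/-- the image of a subnormal subsystem under a map of the system is subnormal -/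
theorem conj_isSubnormalIn {p : ℕ} {T S : Subgroup Ω} {C : FusionSystem T} {F : FusionSystem S}
    (hsn : C.IsSubnormalIn F p) :
    ∀ (hp : p.Prime) (hfin : Finite S) (hS : IsPGroup p S) (hF : F.IsSaturated p)
      (γ : T →* Ω) (hγ : γ ∈ F.Hom T) {U : Subgroup Ω} (E : FusionSystem U) (hE : IsIso γ C E),
      E.IsSubnormalIn F p := by
  induction hsn with
  | refl F p =>
    intro hp hfin hS hF γ hγ U E hE
    have h1 : IsIso γ F F := isIso_aut F F (strongInv_self F) hγ (F.le_of_mem hγ).2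
    have e : U = T := by rw [← hE.range, h1.range]
    subst e
    have : E = F := PPowRes.fs_ext _ _ (fun P' => hE.hom_eq h1 P')
    subst this
    exact IsSubnormalIn.refl _ _
  | step hCD hDF ih =>
    intro hp hfin hS hF γ hγ U E hE
    rename_i U₁ S₁ C₁ D F₁ p₁
    haveI : Fact p₁.Prime := ⟨hp⟩
    have hinv := hDF.1.2.2
    have hU₁S : U₁ ≤ S₁ := le_of_isSubsystemOf D F₁ hinv.1
    have hTU₁ : T ≤ U₁ := le_of_isSubnormalIn C₁ D p₁ hCD
    haveI : Finite U₁ :=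
      Finite.of_injective (Subgroup.inclusion hU₁S) (Subgroup.inclusion_injective hU₁S)
    haveI : Finite T :=
      Finite.of_injective (Subgroup.inclusion hTU₁) (Subgroup.inclusion_injective hTU₁)
    obtain ⟨α, hα, φ₀, hφ₀, hfr⟩ := hinv.2.2.2 T hTU₁ γ hγ
    have ha : U₁.subtype.comp α.toMonoidHom ∈ F₁.Hom U₁ := (mem_autGroup_iff F₁ hU₁S α).mp hα
    have haU : ∀ x, (U₁.subtype.comp α.toMonoidHom) x ∈ U₁ := fun x => (α x).2
    have hSI : StrongInv F₁ D := (isInvariantIn_iff_strongInv p₁ hS F₁ hF D hinv.1 hinv.2.1).mp hinv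
    have hDD : IsIso (U₁.subtype.comp α.toMonoidHom) D D := isIso_aut F₁ D hSI ha haU
    obtain ⟨E₀, hE₀⟩ := exists_image C₁ φ₀ (D.injective_of_mem hφ₀) rfl
    have h1 : E₀.IsSubnormalIn D p₁ := ih hp inferInstance (hS.to_le hU₁S) hDF.1.1 φ₀ hφ₀ E₀ hE₀
    have hT₀ : φ₀.range ≤ U₁ := by
      rintro _ ⟨x, rfl⟩
      exact (D.le_of_mem hφ₀).2 x
    have hE' : IsIso (resHom (U₁.subtype.comp α.toMonoidHom) hT₀) E₀ E := by
      refine IsIso.cancel hE₀ hE (fun s => ?_)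
      exact hfr s _
    have h2 : E.IsSubnormalIn D p₁ :=
      IsIso.isSubnormalIn h1 hp inferInstance (hS.to_le hU₁S) hT₀ _ D hDD E hE'
    exact IsSubnormalIn.step h2 hDF

end Cfsg.Agent.Lib.Helper7.Iso
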