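import Mathlib
import Cfsg.Prelude.Def_FusionSystem
import Cfsg.Agent.Lib.Helper7.ExtSystem2
import Cfsg.Agent.Lib.Helper7.FusionCentral
import Cfsg.Agent.Lib.Helper7.FusionCore

set_option autoImplicit false

namespace Cfsg.Agent.Lib.Helper7.WeaklyClosedElt

open Cfsg Cfsg.FusionSystem Cfsg.Agent.Lib.Helper7

variable {Ω : Type*} [Group Ω] {S : Subgroup Ω}

/-- an element with a singleton `F`-class generates a central subgroup -/
theorem isCentral_zpowers_of_singleton [Finite S] (p : ℕ) [Fact p.Prime] (hS : IsPGroup p S)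
    (F : FusionSystem S) (hF : F.IsSaturated p) (x : Ω) (hxS : x ∈ S)
    (hcl : ∀ y : Ω, F.IsConjElt x y → y = x) : F.IsCentral (Subgroup.zpowers x) := by
  have hQS : Subgroup.zpowers x ≤ S := Subgroup.zpowers_le.mpr hxS
  haveI := finite_of_le hQS
  have hZx : ∀ g ∈ S, g * x * g⁻¹ = x := by
    intro g hg
    apply hcl
    exact ⟨conjHom _ g, F.conj_mem hQS hg, rfl⟩
  have hZ : ∀ g ∈ S, ∀ x' ∈ Subgroup.zpowers x, g * x' * g⁻¹ = x' := by
    intro g hg x' hx'
    obtain ⟨n, rfl⟩ := Subgroup.mem_zpowers_iff.mp hx'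
    rw [← conj_zpow, hZx g hg]
  have hN : S ≤ Subgroup.normalizer ((Subgroup.zpowers x : Subgroup Ω) : Set Ω) := by
    intro g hg
    apply mem_normalizer_of_conj_mem_finite
    intro x' hx'
    rw [hZ g hg x' hx']; exact hx'
  have hK : autInducedBy S (Subgroup.zpowers x) ≤ ⊥ := by
    intro α hα
    obtain ⟨g, hg, hgα⟩ := (mem_autInducedBy_iff S (Subgroup.zpowers x) α).mp hα
    rw [Subgroup.mem_bot]
    ext x'
    rw [hgα, hZ g hg x' x'.2]
    rfl
  have hle := le_extSystem_of_essential p hS F hF (Subgroup.zpowers x) ⊥ hQS hN hK (by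
    intro P hP
    have hPS : P ≤ S := by
      rcases hP with rfl | hess
      · exact le_rfl
      · exact hess.1.1
    have hQP : Subgroup.zpowers x ≤ P := by
      rcases hP with rfl | hess
      · exact hQS
      · intro x' hx'
        apply hess.1.2 P (isConj_refl F hPS)
        refine ⟨hQS hx', ?_⟩
        show x' ∈ Subgroup.centralizer (P : Set Ω)
        rw [Subgroup.mem_centralizer_iff]
        intro y hy
        have := hZ y (hPS hy) x' hx'
        conv_rhs => rw [← this]
        group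
    refine ⟨hQP, fun α hα => ⟨1, Subgroup.mem_bot.mpr rfl, fun x' => ?_⟩⟩
    show _ = (x' : Ω)
    have hxP : x ∈ P := hQP (Subgroup.mem_zpowers x)
    have hαx : ((α ⟨x, hxP⟩ : P) : Ω) = x := by
      apply hcl
      have hle : Subgroup.zpowers (x : Ω) ≤ P := hQP
      exact ⟨_, fs_restrict_mem F hle ((mem_autGroup_iff F hPS α).mp hα), rfl⟩
    obtain ⟨n, hn⟩ := Subgroup.mem_zpowers_iff.mp x'.2
    have e : Subgroup.inclusion hQP x' = (⟨x, hxP⟩ : P) ^ n := by
      apply Subtype.ext
      show (x' : Ω) = ((⟨x, hxP⟩ : P) ^ n : P)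
      rw [Subgroup.coe_zpow]
      exact hn.symm
    rw [e, map_zpow, Subgroup.coe_zpow, hαx, hn])
  refine ⟨hQS, fun P φ hφ => ?_⟩
  obtain ⟨-, ψ, hψ, hext, k, hk, hkk⟩ := hle P hφ
  refine ⟨ψ, hψ, hext, fun x' => ?_⟩
  rw [hkk, Subgroup.mem_bot.mp hk]
  rfl

/-- membership in the centre of a saturated fusion system: singleton `F`-class -/
theorem mem_center_iff [Finite S] (p : ℕ) [Fact p.Prime] (hS : IsPGroup p S)
    (F : FusionSystem S) (hF : F.IsSaturated p) (x : Ω) :
    x ∈ F.center ↔ (x ∈ S ∧ ∀ y : Ω, F.IsConjElt x y → y = x) := by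
  constructor
  · intro hx
    have hc := (isCentral_iff_conj_singletons p hS F hF F.center).mp (isCentral_center F)
    exact ⟨hc.1 hx, hc.2 x hx⟩
  · rintro ⟨hxS, hcl⟩
    have hc := isCentral_zpowers_of_singleton p hS F hF x hxS hcl
    have hle : Subgroup.zpowers x ≤ F.center := le_sSup hc
    exact hle (Subgroup.mem_zpowers x)

end Cfsg.Agent.Lib.Helper7.WeaklyClosedElt
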