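import Mathlib
import Cfsg.Agent.Lib.Helper7.IsoE
import Cfsg.Agent.Lib.Helper7.WeaklyClosedElt

/-!
# Isomorphisms of fusion systems, part F: the centre; an isomorphism followed by a factor map;
two factor systems modulo the same subgroup are isomorphic
-/

set_option autoImplicit false
set_option linter.unusedSectionVars false
set_option linter.unusedVariables false
set_option linter.style.haveILetI false

namespace Cfsg.Agent.Lib.Helper7.Iso

open Cfsg Cfsg.FusionSystem Cfsg.Agent.Lib.Helper7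

variable {Ω : Type*} [Group Ω] {S : Subgroup Ω} {Ω' : Type*} [Group Ω'] {S' : Subgroup Ω'}
  {Ω'' : Type*} [Group Ω''] {S'' : Subgroup Ω''}

theorem IsIso.map_center [Finite S] {θ : S →* Ω'} {F : FusionSystem S} {F' : FusionSystem S'}
    (h : IsIso θ F F') (p : ℕ) [Fact p.Prime] (hS : IsPGroup p S) (hF : F.IsSaturated p)
    (s : S) (hs : (s : Ω) ∈ F.center) : θ s ∈ F'.center := by
  haveI : Finite S' := h.finite_base
  have hS' := h.isPGroup_base hS
  have hF' := h.isSaturated p hS hF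
  rw [WeaklyClosedElt.mem_center_iff p hS' F' hF']
  have hs' := (WeaklyClosedElt.mem_center_iff p hS F hF _).mp hs
  refine ⟨h.map_mem s, ?_⟩
  rintro y' ⟨φ', hφ', rfl⟩
  obtain ⟨P, φ, hφ, hc⟩ := h.pull hφ'
  have hsP : (s : Ω) ∈ P := (hc.mem_iff h.inj s).mpr (Subgroup.mem_zpowers _)
  have hle : Subgroup.zpowers (s : Ω) ≤ P := Subgroup.zpowers_le.mpr hsP
  have h1 : F.IsConjElt (s : Ω) (φ ⟨s, hsP⟩) :=
    ⟨φ.comp (Subgroup.inclusion hle), fs_restrict_mem F hle hφ, rfl⟩
  have h2 := hs'.2 _ h1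
  have h3 := hc.eq ⟨s, hsP⟩ (hc.mem _)
  have e1 : (⟨θ s, Subgroup.mem_zpowers _⟩ : Subgroup.zpowers (θ s)) =
      ⟨θ ⟨((⟨s, hsP⟩ : P) : Ω), hc.le hsP⟩, hc.mem _⟩ := rfl
  rw [e1, h3]
  congr 1
  exact Subtype.ext h2

theorem IsIso.mem_center_iff [Finite S] {θ : S →* Ω'} {F : FusionSystem S} {F' : FusionSystem S'}
    (h : IsIso θ F F') (p : ℕ) [Fact p.Prime] (hS : IsPGroup p S) (hF : F.IsSaturated p)
    (s : S) : θ s ∈ F'.center ↔ (s : Ω) ∈ F.center := by
  constructor
  · intro hs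
    haveI : Finite S' := h.finite_base
    have h1 := h.symm.map_center p (h.isPGroup_base hS) (h.isSaturated p hS hF) ⟨θ s, h.map_mem s⟩ hs
    rw [invHom_apply] at h1
    exact h1
  · exact h.map_center p hS hF s

end Cfsg.Agent.Lib.Helper7.Iso
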