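import Mathlib
import Cfsg.Agent.Lib.Helper7.IsoF

/-!
# Isomorphisms of fusion systems, part G: factor systems of isomorphic systems modulo
corresponding subgroups are isomorphic
-/

set_option autoImplicit false
set_option linter.unusedSectionVars false
set_option linter.unusedVariables false
set_option linter.style.haveILetI false

namespace Cfsg.Agent.Lib.Helper7.Iso

open Cfsg Cfsg.FusionSystem Cfsg.Agent.Lib.Helper7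

variable {Ω : Type*} [Group Ω] {T : Subgroup Ω} {Ω' : Type*} [Group Ω'] {U : Subgroup Ω'}
  {Ω₁ : Type*} [Group Ω₁] {S₁ : Subgroup Ω₁} {Ω₂ : Type*} [Group Ω₂] {S₂ : Subgroup Ω₂}

theorem exists_iso_of_factor [Finite T] {γ : T →* Ω'} {C : FusionSystem T} {E : FusionSystem U}
    (h : IsIso γ C E) (p : ℕ) [Fact p.Prime] (hT : IsPGroup p T) (hC : C.IsSaturated p)
    {Z₁ : Subgroup Ω} (hZ₁ : C.StronglyClosed Z₁) {Z₂ : Subgroup Ω'}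
    (hZ : ∀ s : T, γ s ∈ Z₂ ↔ (s : Ω) ∈ Z₁)
    {θ₁ : T →* Ω₁} {Cb : FusionSystem S₁} (h₁ : C.IsFactorSystem Z₁ θ₁ Cb)
    {θ₂ : U →* Ω₂} {Eb : FusionSystem S₂} (h₂ : E.IsFactorSystem Z₂ θ₂ Eb) :
    ∃ ι : S₁ →* Ω₂, IsIso ι Cb Eb := by
  obtain ⟨hZ₁T, hker₁, hrange₁, hHom₁⟩ := h₁
  obtain ⟨hZ₂U, hker₂, hrange₂, hHom₂⟩ := h₂
  have hmor := (factor_map_surjective_morphism p hT C hC Z₁ hZ₁ θ₁ Cb
    ⟨hZ₁T, hker₁, hrange₁, hHom₁⟩).1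
  have hθ₁S : ∀ s : T, θ₁ s ∈ S₁ := hmor.1
  have hθ₂S : ∀ u : U, θ₂ u ∈ S₂ := by
    intro u; rw [← hrange₂]; exact ⟨u, rfl⟩
  have hγU : ∀ s : T, γ s ∈ U := h.map_mem
  -- the isomorphism
  have hsurj : Function.Surjective (θ₁.codRestrict S₁ hθ₁S) := by
    intro y
    have : (y : Ω₁) ∈ θ₁.range := by rw [hrange₁]; exact y.2
    obtain ⟨s, hs⟩ := this
    exact ⟨s, Subtype.ext hs⟩
  have hkerle : (θ₁.codRestrict S₁ hθ₁S).ker ≤ (θ₂.comp (γ.codRestrict U hγU)).ker := by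
    intro s hs
    rw [MonoidHom.mem_ker] at hs ⊢
    have h1 : θ₁ s = 1 := congrArg (fun y : S₁ => (y : Ω₁)) hs
    have h2 := (hker₁ s).mp h1
    have h3 := (hZ s).mpr h2
    exact (hker₂ ⟨γ s, hγU s⟩).mpr h3
  obtain ⟨ι, hιdef⟩ : ∃ ι : S₁ →* Ω₂, ι = MonoidHom.liftOfRightInverse (θ₁.codRestrict S₁ hθ₁S)
      (Function.surjInv hsurj) (Function.rightInverse_surjInv hsurj)
      ⟨θ₂.comp (γ.codRestrict U hγU), hkerle⟩ := ⟨_, rfl⟩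
  have hι : ∀ s : T, ι ⟨θ₁ s, hθ₁S s⟩ = θ₂ ⟨γ s, hγU s⟩ := by
    intro s
    rw [hιdef]
    exact MonoidHom.liftOfRightInverse_comp_apply (θ₁.codRestrict S₁ hθ₁S) (Function.surjInv hsurj)
      (Function.rightInverse_surjInv hsurj) ⟨θ₂.comp (γ.codRestrict U hγU), hkerle⟩ s
  have hrep₁ : ∀ y : S₁, ∃ s : T, y = ⟨θ₁ s, hθ₁S s⟩ := by
    intro y
    obtain ⟨s, hs⟩ := hsurj y
    exact ⟨s, hs.symm⟩
  have hιinj : Function.Injective ι := by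
    rw [injective_iff_map_eq_one]
    intro y hy
    obtain ⟨s, rfl⟩ := hrep₁ y
    rw [hι] at hy
    have h1 := (hker₂ _).mp hy
    have h2 := (hZ s).mp h1
    have h3 := (hker₁ s).mpr h2
    exact Subtype.ext h3
  have hιrange : ι.range = S₂ := by
    apply le_antisymm
    · rintro _ ⟨y, rfl⟩
      obtain ⟨s, rfl⟩ := hrep₁ y
      rw [hι]
      exact hθ₂S _
    · intro z hz
      rw [← hrange₂] at hz
      obtain ⟨u, rfl⟩ := hz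
      obtain ⟨s, hs⟩ := h.exists_preimage u.2
      refine ⟨⟨θ₁ s, hθ₁S s⟩, ?_⟩
      rw [hι]
      congr 1
      exact Subtype.ext hs
  refine ⟨ι, hιinj, hιrange, ?_, ?_⟩
  · -- push
    intro Pb φb hφb Pb₂ φb₂ hcb
    obtain ⟨hPbS, φ, hφ, hP, hφT, hPP, hind⟩ := (hHom₁ Pb φb).mp hφb
    obtain ⟨φ', hφ', hc⟩ := h.exists_push hφ
    rw [hHom₂]
    have hPb₂S : Pb₂ ≤ S₂ := by
      intro z hz
      obtain ⟨y, hy⟩ := hcb.surj ⟨z, hz⟩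
      rw [← hιrange]
      exact ⟨_, hy⟩
    refine ⟨hPb₂S, ?_⟩
    -- every element of the preimage of `Pb₂` is `γ s` with `s` in the preimage of `Pb`
    have hrep : ∀ u : ↥(preimageAlong θ₂ Pb₂), ∃ s : ↥(preimageAlong θ₁ Pb),
        γ ⟨s, hP s.2⟩ = (u : Ω') := by
      intro u
      obtain ⟨huU, hu⟩ := (mem_preimageAlong θ₂ Pb₂ _).mp u.2
      obtain ⟨s, hs⟩ := h.exists_preimage huU
      have e : (⟨(u : Ω'), huU⟩ : U) = ⟨γ s, hγU s⟩ := Subtype.ext hs.symm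
      rw [e, ← hι s] at hu
      have h1 : θ₁ s ∈ Pb := by
        have := (hcb.mem_iff hιinj ⟨θ₁ s, hθ₁S s⟩).mpr hu
        exact this
      exact ⟨⟨s, (mem_preimageAlong θ₁ Pb _).mpr ⟨s.2, h1⟩⟩, hs⟩
    have hle : preimageAlong θ₂ Pb₂ ≤ imageAlong γ (preimageAlong θ₁ Pb) := by
      intro u hu
      obtain ⟨s, hs⟩ := hrep ⟨u, hu⟩
      exact (mem_imageAlong γ _ u).mpr ⟨⟨s, hP s.2⟩, s.2, hs⟩
    refine ⟨φ'.comp (Subgroup.inclusion hle), fs_restrict_mem E hle hφ', preimageAlong_le θ₂ Pb₂,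
      fun u => (E.le_of_mem hφ').2 _, fun u => ((mem_preimageAlong θ₂ Pb₂ _).mp u.2).2, fun u => ?_⟩
    obtain ⟨s, hs⟩ := hrep u
    -- compute both sides at `u = γ s`
    have e1 : (⟨θ₂ ⟨(u : Ω'), preimageAlong_le θ₂ Pb₂ u.2⟩, ((mem_preimageAlong θ₂ Pb₂ _).mp u.2).2⟩ : Pb₂) =
        ⟨ι ⟨((⟨θ₁ ⟨s, hP s.2⟩, hPP s⟩ : Pb) : Ω₁), hcb.le (hPP s)⟩, hcb.mem ⟨θ₁ ⟨s, hP s.2⟩, hPP s⟩⟩ := by
      apply Subtype.ext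
      show θ₂ ⟨(u : Ω'), _⟩ = ι ⟨θ₁ ⟨s, hP s.2⟩, _⟩
      rw [hι]
      congr 1
      exact Subtype.ext hs.symm
    rw [e1, hcb.eq ⟨θ₁ ⟨s, hP s.2⟩, hPP s⟩]
    have e2 : (⟨φb ⟨θ₁ ⟨s, hP s.2⟩, hPP s⟩, hcb.map_mem _⟩ : S₁) =
        ⟨θ₁ ⟨φ s, hφT s⟩, hθ₁S _⟩ := Subtype.ext (hind s)
    rw [e2, hι]
    congr 1
    apply Subtype.ext
    show γ ⟨φ s, hφT s⟩ = φ' ⟨(u : Ω'), hle u.2⟩
    have e3 : (⟨(u : Ω'), hle u.2⟩ : ↥(imageAlong γ (preimageAlong θ₁ Pb))) =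
        ⟨γ ⟨s, hc.le s.2⟩, hc.mem s⟩ := Subtype.ext hs.symm
    rw [e3, hc.eq s]
  · -- pull
    intro Pb₂ φb₂ hφb₂
    obtain ⟨hPb₂S, φ'', hφ'', hP₂, hφ''U, hPP₂, hind₂⟩ := (hHom₂ Pb₂ φb₂).mp hφb₂
    obtain ⟨P, φ, hφ, hc⟩ := h.pull hφ''
    obtain ⟨φb, hφb, hP, hφT, hPP, hind⟩ := hmor.2 P φ hφ
    refine ⟨_, φb, hφb, ?_⟩
    have hrepP : ∀ y : ↥(imageAlong θ₁ P), ∃ s : P, θ₁ ⟨s, hP s.2⟩ = (y : Ω₁) := by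
      intro y
      obtain ⟨s, hs, hsy⟩ := (mem_imageAlong θ₁ P _).mp y.2
      exact ⟨⟨s, hs⟩, hsy⟩
    have hιmem : ∀ s : P, ι ⟨θ₁ ⟨s, hP s.2⟩, hθ₁S _⟩ ∈ Pb₂ := by
      intro s
      rw [hι]
      exact hPP₂ ⟨γ ⟨s, hc.le s.2⟩, hc.mem s⟩
    refine Corr.mk' (imageAlong_le θ₁ hθ₁S P) (Cb.le_of_mem hφb).2 (fun y => ?_) (fun z => ?_)
      (fun y => ?_)
    · obtain ⟨s, hs⟩ := hrepP y
      have e : (⟨(y : Ω₁), imageAlong_le θ₁ hθ₁S P y.2⟩ : S₁) = ⟨θ₁ ⟨s, hP s.2⟩, hθ₁S _⟩ :=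
        Subtype.ext hs.symm
      rw [e]
      exact hιmem s
    · have hzS : (z : Ω₂) ∈ θ₂.range := by rw [hrange₂]; exact hPb₂S z.2
      obtain ⟨u, hu⟩ := hzS
      have huP : (u : Ω') ∈ preimageAlong θ₂ Pb₂ :=
        (mem_preimageAlong θ₂ Pb₂ _).mpr ⟨u.2, by rw [hu]; exact z.2⟩
      obtain ⟨s, hs⟩ := hc.surj ⟨u, huP⟩
      refine ⟨⟨θ₁ ⟨s, hP s.2⟩, hPP s⟩, ?_⟩
      show ι ⟨θ₁ ⟨s, hP s.2⟩, _⟩ = (z : Ω₂)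
      rw [hι, ← hu]
      congr 1
      exact Subtype.ext hs
    · obtain ⟨s, hs⟩ := hrepP y
      have e0 : y = ⟨θ₁ ⟨s, hP s.2⟩, hPP s⟩ := Subtype.ext hs.symm
      subst e0
      have e1 : (⟨ι ⟨((⟨θ₁ ⟨s, hP s.2⟩, hPP s⟩ : ↥(imageAlong θ₁ P)) : Ω₁), hθ₁S _⟩, hιmem s⟩ : Pb₂) =
          ⟨θ₂ ⟨((⟨γ ⟨s, hc.le s.2⟩, hc.mem s⟩ : ↥(preimageAlong θ₂ Pb₂)) : Ω'), hP₂ (hc.mem s)⟩,
            hPP₂ ⟨γ ⟨s, hc.le s.2⟩, hc.mem s⟩⟩ := Subtype.ext (hι _)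
      rw [e1, hind₂ ⟨γ ⟨s, hc.le s.2⟩, hc.mem s⟩]
      have e2 : (⟨φb ⟨θ₁ ⟨s, hP s.2⟩, hPP s⟩, (Cb.le_of_mem hφb).2 _⟩ : S₁) =
          ⟨θ₁ ⟨φ s, hφT s⟩, hθ₁S _⟩ := Subtype.ext (hind s)
      rw [e2, hι]
      congr 1
      apply Subtype.ext
      exact hc.eq s _

end Cfsg.Agent.Lib.Helper7.Iso
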