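import Mathlib
import Cfsg.Agent.Lib.Helper7.IsoG
import Cfsg.Agent.Lib.Helper7.FusionQuasisimple

/-!
# Isomorphisms of fusion systems, part H: transport of simplicity and of quasisimplicity
-/

set_option autoImplicit false
set_option linter.unusedSectionVars false
set_option linter.unusedVariables false
set_option linter.style.haveILetI false

namespace Cfsg.Agent.Lib.Helper7.Iso

open Cfsg Cfsg.FusionSystem Cfsg.Agent.Lib.Helper7

variable {Ω : Type*} [Group Ω] {S : Subgroup Ω} {Ω' : Type*} [Group Ω'] {S' : Subgroup Ω'}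

theorem IsIso.mem_of_corr {θ : S →* Ω'} {F : FusionSystem S} {E : FusionSystem S'} (h : IsIso θ F E)
    {P : Subgroup Ω} {φ : P →* Ω} {P' : Subgroup Ω'} {φ' : P' →* Ω'} (hφ' : φ' ∈ E.Hom P')
    (hc : Corr θ φ φ') : φ ∈ F.Hom P :=
  h.symm.push hφ' φ (hc.symm h.inj h.range)

/-- transport of simplicity along an isomorphism -/
theorem IsIso.isSimple [Finite S] {θ : S →* Ω'} {F : FusionSystem S} {F' : FusionSystem S'}
    (h : IsIso θ F F') (p : ℕ) [Fact p.Prime] (hS : IsPGroup p S) (hs : F.IsSimple p) :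
    F'.IsSimple p := by
  obtain ⟨hF, hne, hall⟩ := hs
  haveI : Finite S' := h.finite_base
  have hS' := h.isPGroup_base hS
  refine ⟨h.isSaturated p hS hF, ?_, ?_⟩
  · intro hbot
    apply hne
    rw [eq_bot_iff]
    intro s hs
    have h1 : θ ⟨s, hs⟩ ∈ S' := h.map_mem _
    rw [hbot, Subgroup.mem_bot] at h1
    have h2 : (⟨s, hs⟩ : S) = 1 := h.inj (by rw [h1, map_one])
    rw [Subgroup.mem_bot]
    exact congrArg (fun s : S => (s : Ω)) h2
  · intro T' E' hn
    have hT'S' : T' ≤ S' := le_of_isSubsystemOf E' F' hn.1.2.2.1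
    haveI : Finite T' :=
      Finite.of_injective (Subgroup.inclusion hT'S') (Subgroup.inclusion_injective hT'S')
    have hsym := h.symm
    have hρinj := resHom_injective (invHom θ h.inj h.range) hsym.inj hT'S'
    obtain ⟨E, hE⟩ := exists_image E' (resHom (invHom θ h.inj h.range) hT'S') hρinj rfl
    have hn' := hsym.isNormalIn hE p hS' hn
    rcases hall _ E hn' with hbot | ⟨htop, hHom⟩
    · left
      rw [eq_bot_iff]
      intro y hy
      have h1 : resHom (invHom θ h.inj h.range) hT'S' ⟨y, hy⟩ ∈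
          (resHom (invHom θ h.inj h.range) hT'S').range := ⟨_, rfl⟩
      rw [hbot, Subgroup.mem_bot] at h1
      have h2 : (⟨y, hy⟩ : T') = 1 := hρinj (by rw [h1, map_one])
      rw [Subgroup.mem_bot]
      exact congrArg (fun s : T' => (s : Ω')) h2
    · right
      have hTS : T' = S' := by
        apply le_antisymm hT'S'
        intro y hy
        have h1 : invHom θ h.inj h.range ⟨y, hy⟩ ∈
            (resHom (invHom θ h.inj h.range) hT'S').range := by
          rw [htop]; exact invHom_mem θ h.inj h.range _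
        obtain ⟨t, ht⟩ := h1
        have h2 : (⟨(t : Ω'), hT'S' t.2⟩ : S') = ⟨y, hy⟩ := hsym.inj ht
        have h3 : (t : Ω') = y := congrArg (fun s : S' => (s : Ω')) h2
        rw [← h3]
        exact t.2
      refine ⟨hTS, fun P' => ?_⟩
      apply Set.Subset.antisymm (hn.1.2.2.1 P')
      intro φ' hφ'
      obtain ⟨φ, hφ, hc⟩ := hsym.exists_push hφ'
      have hφE : φ ∈ E.Hom _ := by rw [hHom]; exact hφ
      have hP'T' : P' ≤ T' := by rw [hTS]; exact (F'.le_of_mem hφ').1
      have hφ'T' : ∀ x : P', φ' x ∈ T' := by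
        intro x; rw [hTS]; exact (F'.le_of_mem hφ').2 x
      exact hE.mem_of_corr hφE (hc.to_res hT'S' hP'T' hφ'T')

variable {T : Subgroup Ω} {U : Subgroup Ω'}

/-- transport of quasisimplicity along an isomorphism -/
theorem IsIso.quasisimple [Finite T] {γ : T →* Ω'} {C : FusionSystem T} {E : FusionSystem U}
    (h : IsIso γ C E) (p : ℕ) [Fact p.Prime] (hT : IsPGroup p T) (hq : C.Quasisimple p) :
    E.Quasisimple p := by
  obtain ⟨hC, hhyp, hsim⟩ := hq
  haveI : Finite U := h.finite_base
  have hU := h.isPGroup_base hT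
  refine ⟨h.isSaturated p hT hC, ?_, ?_⟩
  · rw [hyperfocal_factor p hT C hC ⊥ (stronglyClosed_bot C) γ E h.isFactorSystem, hhyp,
      Subgroup.subgroupOf_self, ← MonoidHom.range_eq_map, h.range]
  · intro Eb hEb
    have hZ₁ : C.StronglyClosed C.center := stronglyClosed_of_isCentral C (isCentral_center C)
    obtain ⟨Cb, hCb⟩ := exists_factorSystem_quotient C C.center hZ₁
    have hCbs := hsim Cb hCb
    obtain ⟨ι, hι⟩ := exists_iso_of_factor h p hT hC hZ₁ (h.mem_center_iff p hT hC) hCb hEb
    haveI : Finite ↥(⊤ : Subgroup (T ⧸ (C.center).subgroupOf T)) := inferInstance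
    have hpq : IsPGroup p (T ⧸ (C.center).subgroupOf T) := hT.to_quotient _
    have hptop : IsPGroup p ↥(⊤ : Subgroup (T ⧸ (C.center).subgroupOf T)) := hpq.to_subgroup _
    exact hι.isSimple p hptop hCbs

end Cfsg.Agent.Lib.Helper7.Iso
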