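import Mathlib
import Cfsg.Agent.Lib.Helper7.IsoH

/-!
# Isomorphisms of fusion systems, part I: automorphisms of a fusion system preserve the layer
-/

set_option autoImplicit false
set_option linter.unusedSectionVars false
set_option linter.unusedVariables false
set_option linter.style.haveILetI false

namespace Cfsg.Agent.Lib.Helper7.Iso

open Cfsg Cfsg.FusionSystem Cfsg.Agent.Lib.Helper7

universe u

variable {Ω : Type u} [Group Ω] {S : Subgroup Ω}

theorem Corr.congr {Ω' : Type*} [Group Ω'] {θ θ₂ : S →* Ω'} {P : Subgroup Ω} {φ : P →* Ω}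
    {P' : Subgroup Ω'} {φ' : P' →* Ω'} (h : Corr θ φ φ') (he : ∀ x, θ x = θ₂ x) : Corr θ₂ φ φ' := by
  have : θ = θ₂ := MonoidHom.ext he
  subst this
  exact h

/-- a pair of mutually inverse morphisms `F → F` gives an isomorphism `F ≅ F` -/
theorem isIso_of_isMorphism (F : FusionSystem S) (a b : S →* Ω)
    (ha : F.IsMorphism F a) (hb : F.IsMorphism F b)
    (hab : ∀ s : S, a ⟨b s, hb.1 s⟩ = (s : Ω)) (hba : ∀ s : S, b ⟨a s, ha.1 s⟩ = (s : Ω)) :
    IsIso a F F := by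
  have hinj : Function.Injective a := by
    intro s t hst
    apply Subtype.ext
    rw [← hba s, ← hba t]
    congr 1
    exact Subtype.ext hst
  have hrange : a.range = S := by
    apply le_antisymm
    · rintro _ ⟨s, rfl⟩
      exact ha.1 s
    · intro s hs
      exact ⟨⟨b ⟨s, hs⟩, hb.1 _⟩, hab ⟨s, hs⟩⟩
  refine ⟨hinj, hrange, ?_, ?_⟩
  · intro P φ hφ P' φ' hc
    obtain ⟨φ'', hφ'', hP, hφS, hPP, hind⟩ := ha.2 P φ hφ
    have hle : P' ≤ imageAlong a P := by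
      intro y hy
      obtain ⟨x, hx⟩ := hc.surj ⟨y, hy⟩
      exact (mem_imageAlong a P y).mpr ⟨_, x.2, hx⟩
    refine fs_mem_of_agree F hle hφ'' φ' (fun y => ?_)
    obtain ⟨x, hx⟩ := hc.surj y
    have e1 : y = ⟨a ⟨x, hc.le x.2⟩, hc.mem x⟩ := Subtype.ext hx.symm
    rw [e1, hc.eq x]
    exact (hind x).symm
  · intro P' φ' hφ'
    obtain ⟨φ, hφ, hP', hφ'S, hPP, hind⟩ := hb.2 P' φ' hφ'
    refine ⟨_, φ, hφ, ?_⟩
    have hsrc : imageAlong b P' ≤ S := (F.le_of_mem hφ).1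
    have hrep : ∀ x : ↥(imageAlong b P'), ∃ y : P', b ⟨y, hP' y.2⟩ = (x : Ω) := by
      intro x
      obtain ⟨s, hs, hsx⟩ := (mem_imageAlong b P' _).mp x.2
      exact ⟨⟨s, hs⟩, hsx⟩
    have hax : ∀ (x : ↥(imageAlong b P')) (y : P'), b ⟨y, hP' y.2⟩ = (x : Ω) →
        a ⟨x, hsrc x.2⟩ = (y : Ω) := by
      intro x y hxy
      rw [← hab ⟨y, hP' y.2⟩]
      congr 1
      exact Subtype.ext hxy.symm
    refine Corr.mk' hsrc (F.le_of_mem hφ).2 (fun x => ?_) (fun y => ?_) (fun x => ?_)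
    · obtain ⟨y, hy⟩ := hrep x
      rw [hax x y hy]
      exact y.2
    · exact ⟨⟨b ⟨y, hP' y.2⟩, hPP y⟩, hab ⟨y, hP' y.2⟩⟩
    · obtain ⟨y, hy⟩ := hrep x
      have e1 : (⟨a ⟨x, hsrc x.2⟩, by rw [hax x y hy]; exact y.2⟩ : P') = y :=
        Subtype.ext (hax x y hy)
      rw [e1]
      have e2 : x = ⟨b ⟨y, hP' y.2⟩, hPP y⟩ := Subtype.ext hy.symm
      have e3 : (⟨φ x, (F.le_of_mem hφ).2 x⟩ : S) = ⟨b ⟨φ' y, hφ'S y⟩, hb.1 _⟩ := by
        apply Subtype.ext
        show φ x = _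
        rw [e2, hind y]
      rw [e3, hab]

/-- the layer is contained in its image under an automorphism of `F` -/
theorem layer_le_image [Finite S] (p : ℕ) [Fact p.Prime] (hS : IsPGroup p S) (F : FusionSystem S)
    (a b : S →* Ω) (ha : IsIso a F F) (hb : IsIso b F F)
    (hab : ∀ s : S, a ⟨b s, hb.map_mem s⟩ = (s : Ω))
    {T : Subgroup Ω} (E : FusionSystem T) (hE : E.IsLayerOf F p) (hTS : T ≤ S)
    {T₁ : Subgroup Ω} (E₁ : FusionSystem T₁) (hE₁ : IsIso (resHom a hTS) E E₁) :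
    E.IsSubsystemOf E₁ := by
  refine hE.2.2 T₁ E₁ (ha.isNormalIn hE₁ p hS hE.1) (fun U C hC => ?_)
  have hUS : U ≤ S := le_of_isSubnormalIn C F p hC.1
  haveI : Finite U := Finite.of_injective (Subgroup.inclusion hUS) (Subgroup.inclusion_injective hUS)
  obtain ⟨Cb, hCb⟩ := exists_image C (resHom b hUS) (resHom_injective b hb.inj hUS) rfl
  have h1 : Cb.IsSubnormalIn F p :=
    IsIso.isSubnormalIn hC.1 Fact.out inferInstance hS hUS b F hb Cb hCb
  have h2 : Cb.Quasisimple p := hCb.quasisimple p (hS.to_le hUS) hC.2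
  have h3 : Cb.IsSubsystemOf E := hE.2.1 _ Cb ⟨h1, h2⟩
  intro P φ hφ
  obtain ⟨φb, hφb, hc⟩ := hCb.exists_push hφ
  have hφbE := h3 _ hφb
  refine hE₁.push hφbE φ ?_
  have hc' : Corr b φ φb := hc.of_res
  have hc'' : Corr (invHom b hb.inj hb.range) φb φ := hc'.symm hb.inj hb.range
  have hc3 : Corr a φb φ := by
    refine hc''.congr (fun y => ?_)
    have h5 := apply_invHom b hb.inj hb.range y
    have h6 := hab ⟨invHom b hb.inj hb.range y, invHom_mem b hb.inj hb.range y⟩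
    refine h6.symm.trans ?_
    congr 1
    exact Subtype.ext h5
  exact hc3.to_res hTS (E.le_of_mem hφbE).1 (E.le_of_mem hφbE).2

/-- the layer is invariant under every automorphism of the fusion system -/
theorem layer_characteristic [Finite S] (p : ℕ) [Fact p.Prime] (hS : IsPGroup p S)
    (F : FusionSystem S) (a b : S →* Ω) (ha : F.IsMorphism F a) (hb : F.IsMorphism F b)
    (hab : ∀ s : S, a ⟨b s, hb.1 s⟩ = (s : Ω)) (hba : ∀ s : S, b ⟨a s, ha.1 s⟩ = (s : Ω))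
    {T : Subgroup Ω} (E : FusionSystem T) (hE : E.IsLayerOf F p) :
    imageAlong a T = T ∧ ∀ (P : Subgroup Ω) (φ : P →* Ω), φ ∈ E.Hom P →
      ∀ φ' : ↥(imageAlong a P) →* Ω, InducedAlong a φ φ' → φ' ∈ E.Hom (imageAlong a P) := by
  have hA : IsIso a F F := isIso_of_isMorphism F a b ha hb hab hba
  have hB : IsIso b F F := isIso_of_isMorphism F b a hb ha hba hab
  have hTS : T ≤ S := le_of_isSubsystemOf E F hE.1.1.2.2.1
  haveI : Finite T := Finite.of_injective (Subgroup.inclusion hTS) (Subgroup.inclusion_injective hTS)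
  obtain ⟨E₁, hE₁⟩ := exists_image E (resHom a hTS) (resHom_injective a hA.inj hTS) rfl
  obtain ⟨E₂, hE₂⟩ := exists_image E (resHom b hTS) (resHom_injective b hB.inj hTS) rfl
  have h1 : E.IsSubsystemOf E₁ := layer_le_image p hS F a b hA hB hab E hE hTS E₁ hE₁
  have h2 : E.IsSubsystemOf E₂ := layer_le_image p hS F b a hB hA hba E hE hTS E₂ hE₂
  constructor
  · have e1 : imageAlong a T = (resHom a hTS).range := by
      ext y
      rw [mem_imageAlong]
      constructor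
      · rintro ⟨s, hs, rfl⟩
        exact ⟨⟨s, hs⟩, rfl⟩
      · rintro ⟨t, rfl⟩
        exact ⟨⟨t, hTS t.2⟩, t.2, rfl⟩
    rw [e1]
    have hle : T ≤ (resHom a hTS).range := le_of_isSubsystemOf E E₁ h1
    haveI : Finite ↥(resHom a hTS).range :=
      Finite.of_surjective _ (resHom a hTS).rangeRestrict_surjective
    refine (Subgroup.eq_of_le_of_card_ge hle ?_).symm
    have e : T ≃ (resHom a hTS).range :=
      Equiv.ofInjective (resHom a hTS) (resHom_injective a hA.inj hTS)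
    rw [Nat.card_congr e]
  · intro P φ hφ φ' hind
    obtain ⟨Q, ψ, hψ, hc⟩ := hE₂.pull (h2 P hφ)
    obtain ⟨hP, hφS, hPP, hindeq⟩ := hind
    have hrep : ∀ z : ↥(imageAlong a P), ∃ y : Q, (z : Ω) = (y : Ω) ∧
        ∃ hx : b ⟨y, hTS (hc.le y.2)⟩ ∈ P, a ⟨b ⟨y, hTS (hc.le y.2)⟩, hP hx⟩ = (z : Ω) := by
      intro z
      obtain ⟨s, hs, hsz⟩ := (mem_imageAlong a P _).mp z.2
      obtain ⟨y, hy⟩ := hc.surj ⟨s, hs⟩
      have hy' : b ⟨y, hTS (hc.le y.2)⟩ = (s : Ω) := hy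
      have e : (⟨b ⟨y, hTS (hc.le y.2)⟩, hB.map_mem _⟩ : S) = s := Subtype.ext hy'
      have h3 := hab ⟨y, hTS (hc.le y.2)⟩
      refine ⟨y, ?_, by rw [hy']; exact hs, ?_⟩
      · rw [← hsz, ← h3]
        congr 1
        exact e.symm
      · rw [← hsz]
        congr 1
    have hle : imageAlong a P ≤ Q := by
      intro z hz
      obtain ⟨y, hy, -⟩ := hrep ⟨z, hz⟩
      rw [show z = (y : Ω) from hy]
      exact y.2
    refine fs_mem_of_agree E hle hψ φ' (fun z => ?_)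
    obtain ⟨y, hy, hx, hz⟩ := hrep z
    have e1 : z = ⟨a ⟨((⟨b ⟨y, hTS (hc.le y.2)⟩, hx⟩ : P) : Ω), hP hx⟩, hPP _⟩ := Subtype.ext hz.symm
    have e2 : (⟨(z : Ω), hle z.2⟩ : Q) = y := Subtype.ext hy
    rw [e2, e1, hindeq]
    have h4 := hc.eq y (hc.mem y)
    have e3 : (⟨φ ⟨b ⟨y, hTS (hc.le y.2)⟩, hx⟩, hφS _⟩ : S) =
        ⟨b ⟨ψ y, hTS (hc.map_mem y)⟩, hB.map_mem _⟩ := Subtype.ext h4
    rw [e3]
    exact hab _

end Cfsg.Agent.Lib.Helper7.Iso
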