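import Mathlib
import Cfsg.Prelude.Def_IsolatedElements
import Cfsg.Prelude.Def_CaseTheorems
import Cfsg.Agent.Lib.Lead.StronglyEmbedded
import Cfsg.Agent.Lib.Lead.OmegaFaithful
import Cfsg.Agent.Lib.Lead.PiCore
import Cfsg.Agent.Lib.Helper7.SylowGraphPSolvable
import Cfsg.Agent.H2.UniqueOrderP
import Cfsg.Agent.Lib.Helper7.StrEmb6
import Cfsg.Agent.Lib.Helper7.SylowLib

set_option autoImplicit false

namespace Cfsg.Agent.Lib.Helper7

open Cfsg Cfsg.Agent.Lib.Lead.StronglyEmbedded

variable {G : Type*} [Group G] [Finite G] {p : ℕ} [Fact p.Prime]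

/-- `p`-rank at most one forces a unique subgroup of order `p` in each Sylow `p`-subgroup -/
theorem unique_order_p_of_pRankLE_one (hrk : Cfsg.PRankLE p 1 G) (P : Sylow p G)
    (H₁ H₂ : Subgroup ↥(P : Subgroup G)) (h1 : Nat.card H₁ = p) (h2 : Nat.card H₂ = p) : H₁ = H₂ := by
  have hp : p.Prime := Fact.out
  by_contra hne
  obtain ⟨a', b', hab', hao', hbo', habm'⟩ := exists_rank_two_of_two_subgroups P.isPGroup' H₁ H₂ h1 h2 hne
  set a : G := (a' : G) with ha
  set b : G := (b' : G) with hb
  have hab : a * b = b * a := congrArg Subtype.val hab'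
  have hao : orderOf a = p := (Subgroup.orderOf_coe a').trans hao'
  have hbo : orderOf b = p := (Subgroup.orderOf_coe b').trans hbo'
  have habm : ∀ m : ℕ, a * b ^ m ≠ 1 := fun m hm => habm' m (Subtype.ext hm)
  have hap : a ^ p = 1 := by rw [← hao]; exact pow_orderOf_eq_one a
  have hbp : b ^ p = 1 := by rw [← hbo]; exact pow_orderOf_eq_one b
  set A : Subgroup G := Subgroup.closure {a, b} with hA
  have haA : a ∈ A := Subgroup.subset_closure (by simp)
  have hbA : b ∈ A := Subgroup.subset_closure (by simp)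
  have hcomm : ∀ x ∈ A, ∀ y ∈ A, x * y = y * x := by
    have hA' : A ≤ Subgroup.centralizer (A : Set G) := by
      rw [hA, Subgroup.closure_le]
      have hc : ∀ x ∈ ({a, b} : Set G), ∀ y ∈ ({a, b} : Set G), x * y = y * x := by
        rintro x (rfl | rfl) y (rfl | rfl)
        · rfl
        · exact hab
        · exact hab.symm
        · rfl
      intro x hx
      show x ∈ Subgroup.centralizer ((Subgroup.closure {a, b} : Subgroup G) : Set G)
      rw [Subgroup.centralizer_closure]
      rw [Subgroup.mem_centralizer_iff]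
      intro y hy
      exact (hc x hx y hy).symm
    intro x hx y hy
    exact ((Subgroup.mem_centralizer_iff.mp (hA' hx)) y hy).symm
  have hAexp : ∀ x ∈ A, x ^ p = 1 := by
    intro x hx
    induction hx using Subgroup.closure_induction with
    | mem y hy =>
      rcases hy with rfl | rfl
      · exact hap
      · exact hbp
    | one => exact one_pow p
    | mul y z hy hz ihy ihz =>
      have : Commute y z := hcomm y hy z hz
      rw [this.mul_pow, ihy, ihz, one_mul]
    | inv y hy ihy => rw [inv_pow, ihy, inv_one]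
  have hAc : IsMulCommutative ↥A := ⟨⟨fun x y => Subtype.ext (hcomm x x.2 y y.2)⟩⟩
  have hle := hrk A hAc hAexp
  rw [pow_one] at hle
  -- but zpowers b is a proper subgroup of A of order p
  have hlt : Subgroup.zpowers b < A := by
    refine lt_of_le_of_ne (Subgroup.zpowers_le.mpr hbA) ?_
    intro heq
    have haz : a ∈ Subgroup.zpowers b := heq ▸ haA
    obtain ⟨k, hk⟩ := (mem_powers_iff_mem_zpowers.2 haz)
    have hk' : b ^ k = a := hk
    -- a * b^(p*k - k)... use a * b^((p-1)*k) = b^(p k) = 1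
    apply habm ((p - 1) * k)
    rw [← hk', ← pow_add]
    have : k + (p - 1) * k = p * k := by
      have hp1 : 1 ≤ p := hp.pos
      calc k + (p - 1) * k = (1 + (p - 1)) * k := by ring
        _ = p * k := by rw [Nat.add_sub_cancel' hp1]
    rw [this, pow_mul, hbp, one_pow]
  have hcard : Nat.card (Subgroup.zpowers b) < Nat.card A := by
    by_contra hge
    push Not at hge
    exact hlt.ne (Subgroup.eq_of_le_of_card_ge hlt.le hge)
  rw [Nat.card_zpowers, hbo] at hcard
  omega

omit [Finite G] [Fact p.Prime] in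
theorem mem_of_pow_mem_of_pow_mem {H : Subgroup G} {n : G} {a b : ℕ} (hab : Nat.Coprime a b)
    (ha : n ^ a ∈ H) (hb : n ^ b ∈ H) : n ∈ H := by
  have h1 : (Nat.gcd a b : ℤ) = a * Nat.gcdA a b + b * Nat.gcdB a b := Nat.gcd_eq_gcd_ab a b
  rw [hab.gcd_eq_one, Nat.cast_one] at h1
  have h2 : n = n ^ ((a : ℤ) * Nat.gcdA a b + (b : ℤ) * Nat.gcdB a b) := by
    rw [← h1, zpow_one]
  rw [h2, zpow_add, zpow_mul, zpow_mul, zpow_natCast, zpow_natCast]
  exact H.mul_mem (H.zpow_mem ha _) (H.zpow_mem hb _)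

theorem inZStar_of_isolated_of_pRankLE_one (hp2 : p ≠ 2) (hrk : Cfsg.PRankLE p 1 G) (x : G)
    (hx : orderOf x = p) (hiso : Cfsg.IsIsolated x) : Cfsg.InZStar p x := by
  have hp : p.Prime := Fact.out
  obtain ⟨P, hP⟩ := (isPGroup_zpowers hx).exists_le_sylow
  have hxP : x ∈ (P : Subgroup G) := hP (Subgroup.mem_zpowers x)
  have huniq := unique_order_p_of_pRankLE_one hrk P
  have hcyc : IsCyclic ↥(P : Subgroup G) :=
    (Cfsg.Agent.H2.UOP.main p P.isPGroup' huniq).resolve_right (fun h => hp2 h.1)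
  have hPcomm : ∀ a ∈ (P : Subgroup G), ∀ b ∈ (P : Subgroup G), a * b = b * a := by
    intro a ha b hb
    haveI := hcyc
    letI := IsCyclic.commGroup (α := ↥(P : Subgroup G))
    exact congrArg Subtype.val (mul_comm (⟨a, ha⟩ : ↥(P : Subgroup G)) ⟨b, hb⟩)
  -- small elements lie in ⟨x⟩
  have hsmall : ∀ y ∈ (P : Subgroup G), y ^ p = 1 → y ∈ Subgroup.zpowers x := by
    intro y hy hyp
    by_cases hy1 : y = 1
    · rw [hy1]; exact Subgroup.one_mem _
    have hyo : orderOf y = p := orderOf_eq_prime hyp hy1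
    haveI := hcyc
    have h1 := mem_zpowers_of_isCyclic hp (⟨x, hxP⟩ : ↥(P : Subgroup G)) ⟨y, hy⟩
      ((Subgroup.orderOf_mk x hxP).trans hx) ((Subgroup.orderOf_mk y hy).trans hyo)
    obtain ⟨k, hk⟩ := Subgroup.mem_zpowers_iff.mp h1
    refine Subgroup.mem_zpowers_iff.mpr ⟨k, ?_⟩
    have := congrArg Subtype.val hk
    simpa using this
  have hPs : IsSylowIn p (P : Subgroup G) ⊤ := IsSylowIn.of_sylow_le P le_top
  -- N(P) ≤ C(P)
  have hNC : Subgroup.normalizer ((P : Subgroup G) : Set G) ≤
      Subgroup.centralizer ((P : Subgroup G) : Set G) := by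
    intro n hn
    have hnx : n * x * n⁻¹ = x := by
      apply hiso n
      have h1 : n * x * n⁻¹ ∈ (P : Subgroup G) := (Subgroup.mem_normalizer_iff.mp hn x).mp hxP
      have h2 : (n * x * n⁻¹) ^ p = 1 := by
        rw [conj_pow, ← hx, pow_orderOf_eq_one]; group
      obtain ⟨k, hk⟩ := Subgroup.mem_zpowers_iff.mp (hsmall _ h1 h2)
      rw [← hk]
      exact (Commute.refl x).zpow_right k
    -- every power of n centralizes the small elements
    have hpow_small : ∀ (j : ℕ) (y : G), y ∈ (P : Subgroup G) → y ^ p = 1 → n ^ j * y * (n ^ j)⁻¹ = y := by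
      intro j y hy hyp
      obtain ⟨k, hk⟩ := Subgroup.mem_zpowers_iff.mp (hsmall y hy hyp)
      have hc : Commute n x := by
        have : n * x = x * n := by
          calc n * x = (n * x * n⁻¹) * n := by group
            _ = x * n := by rw [hnx]
        exact this
      have hc2 : Commute (n ^ j) y := by
        rw [← hk]
        exact (hc.pow_left j).zpow_right k
      rw [hc2.eq, mul_inv_cancel_right]
    have ho0 : orderOf n ≠ 0 := (orderOf_pos n).ne'
    obtain ⟨e, m, hm, hom⟩ := Nat.exists_eq_pow_mul_and_not_dvd ho0 p hp.ne_one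
    have hcop : Nat.Coprime (p ^ e) m :=
      Nat.Coprime.pow_left e ((Nat.Prime.coprime_iff_not_dvd hp).mpr hm)
    apply mem_of_pow_mem_of_pow_mem hcop
    · -- n^(p^e) is a p'-element
      have hpe0 : p ^ e ≠ 0 := pow_ne_zero e hp.ne_zero
      have hord : orderOf (n ^ p ^ e) = m := by
        rw [orderOf_pow_of_dvd hpe0 (Dvd.intro m hom.symm), hom, Nat.mul_div_cancel_left m (pow_pos hp.pos e)]
      apply Cfsg.Agent.Lib.Lead.OmegaFaithful.centralizes_of_fixes_small (P : Subgroup G) P.isPGroup'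
        (n ^ p ^ e) (Subgroup.pow_mem _ hn _)
      · rw [hord]; exact ((Nat.Prime.coprime_iff_not_dvd hp).mpr hm).symm
      · intro y hy hys
        rcases hys with hys | ⟨h2, -⟩
        · exact hpow_small _ y hy hys
        · exact absurd h2 hp2
    · -- n^m is a p-element normalizing P, so lies in P
      have hpg : IsPGroup p ↥(Subgroup.zpowers (n ^ m)) := by
        rw [IsPGroup.iff_card, Nat.card_zpowers]
        have hd : orderOf (n ^ m) ∣ p ^ e := by
          apply orderOf_dvd_of_pow_eq_one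
          rw [← pow_mul, mul_comm, ← hom, pow_orderOf_eq_one]
        obtain ⟨j, -, hj⟩ := (Nat.dvd_prime_pow hp).mp hd
        exact ⟨j, hj⟩
      have hmem : n ^ m ∈ (P : Subgroup G) :=
        hPs.mem_of_normalizes (Subgroup.mem_top _) hpg (Subgroup.pow_mem _ hn _)
      rw [Subgroup.mem_centralizer_iff]
      intro y hy
      exact hPcomm y hy _ hmem
  -- Burnside's transfer theorem
  set f := MonoidHom.transferSylow P hNC with hf
  have hker : ¬ p ∣ Nat.card f.ker := MonoidHom.not_dvd_card_ker_transferSylow P hNC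
  have hkle : f.ker ≤ Cfsg.pPrimeCore p G :=
    Cfsg.Agent.Lib.Lead.PiCore.le_pPrimeCore (MonoidHom.normal_ker f)
      ((Nat.Prime.coprime_iff_not_dvd hp).mpr hker).symm
  intro g
  apply hkle
  show f (g * x * g⁻¹ * x⁻¹) = 1
  rw [map_mul, map_mul, map_mul, map_inv, map_inv]
  have hc : ∀ u v : ↥(P : Subgroup G), u * v = v * u :=
    fun u v => Subtype.ext (hPcomm u u.2 v v.2)
  rw [hc (f g) (f x), mul_inv_cancel_right, mul_inv_cancel]

end Cfsg.Agent.Lib.Helper7
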