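import Cfsg.Agent.Lib.Helper7.J2InvolChk
import Cfsg.Agent.Lib.Lead.J2.Bridge

/-!
# Involutions of `PJ2` with centraliser of order 1920 are reflections

`Syl` is an explicit Sylow 2-subgroup of `PJ2` (order 128, regular on the orbit of the point 4) whose
centre is `{1, toPerm 315 g24}`.  An involution `x` of `PJ2` whose centraliser has order `1920 = 2^7 · 15`
lies in the centre of a Sylow 2-subgroup, hence is conjugate to `toPerm 315 g24 = phi (lineReflG 24)`,
hence is one of the `phi (lineReflG k)`.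
-/

set_option autoImplicit false

namespace Cfsg.Agent.Lib.Helper7.J2Invol

open Cfsg.Agent.Lib.Helper7.J2Perm Cfsg.Agent.Lib.Helper6.SS Cfsg.Agent.J2 Cfsg.Spor

theorem U0_mem (j : ℕ) (hj : j < 315) : Good (U0 j) ∧ toP (U0 j) ∈ PJ2 := by
  have := pre0.2.1 j hj
  rwa [gen_S0] at this

theorem U1_mem (j : ℕ) (hj : j < 160) : Good (U1 j) ∧ toP (U1 j) ∈ PJ2 :=
  ⟨(pre1.2.1 j hj).1, H1_le (pre1.2.1 j hj).2⟩

theorem U2_mem (j : ℕ) (hj : j < 12) : Good (U2 j) ∧ toP (U2 j) ∈ PJ2 :=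
  ⟨(pre2.2.1 j hj).1, H1_le (H2_le (pre2.2.1 j hj).2)⟩

/-- a packed permutation with sifting indices lies in `PJ2` -/
theorem mem_of_memD {S : ℕ → ℕ} {mem nS : ℕ} (h : memD S mem nS = 0) :
    ∀ a < nS, Good (S a) ∧ toP (S a) ∈ PJ2 := by
  intro a ha
  have h1 := memD_sound h a ha
  obtain ⟨g0, m0⟩ := U0_mem _ (Nat.mod_lt (lk mem (36 * a)) (by norm_num))
  obtain ⟨g1, m1⟩ := U1_mem _ (Nat.mod_lt (lk mem (36 * a + 12)) (by norm_num))
  obtain ⟨g2, m2⟩ := U2_mem _ (Nat.mod_lt (lk mem (36 * a + 24)) (by norm_num))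
  have hr := rep_of_ev (S a) [U0 (lk mem (36 * a) % 315), U1 (lk mem (36 * a + 12) % 160),
      U2 (lk mem (36 * a + 24) % 12)]
    (by
      intro p hp
      simp only [List.mem_cons, List.not_mem_nil, or_false] at hp
      rcases hp with rfl | rfl | rfl
      · exact g0
      · exact g1
      · exact g2) h1
  refine ⟨hr.good, ?_⟩
  rw [hr.toP_eq]
  simp only [List.map_cons, List.map_nil, List.prod_cons, List.prod_nil, mul_one]
  exact PJ2.mul_mem m0 (PJ2.mul_mem m1 m2)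

theorem good_Sg : ∀ a < 4, Good (Sg a) ∧ toP (Sg a) ∈ PJ2 := mem_of_memD chk_mem

/-- an explicit Sylow 2-subgroup of `PJ2` -/
noncomputable def Syl : Subgroup (Equiv.Perm (Fin 315)) := gen Sg 4

theorem preg : toP (Ug 0) = 1 ∧ (∀ j < 128, Good (Ug j) ∧ toP (Ug j) ∈ gen Sg 4) ∧
    (∀ a' < 0, Good (S3 a')) ∧ gen S3 0 ≤ gen Sg 4 ∧ (∀ κ ∈ gen S3 0, κ (4 : Fin 315) = 4) :=
  level_pre Sg Ug S3 4 128 127 0 trg 0 48 ⟨4, by norm_num⟩ rfl rfl (by norm_num)
    (fun a ha => (good_Sg a ha).1) chk_treeg chk_gensg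

theorem cardg : (∀ g ∈ gen Sg 4, ∃ j < 128, ∃ κ ∈ gen S3 0, g = toP (Ug j) * κ) ∧
    Nat.card (gen Sg 4) = 128 * Nat.card (gen S3 0) ∧
    (∀ g ∈ gen Sg 4, g (4 : Fin 315) = 4 → g ∈ gen S3 0) :=
  level_card Sg Ug S3 Tid Tid 4 128 0 1 1 posg 0 0 48 ⟨4, by norm_num⟩ rfl (by norm_num)
    (by norm_num) (by norm_num) (fun a ha => (good_Sg a ha).1) preg.1 preg.2.1 preg.2.2.2.1
    preg.2.2.2.2 (good_Tid _) (good_Tid _) chk_posg chk_closg

theorem card_Syl : Nat.card Syl = 128 := by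
  have := cardg.2.1
  rw [gen_zero, Subgroup.card_bot] at this
  exact this

theorem Syl_le : Syl ≤ PJ2 := by
  rw [Syl, gen, Subgroup.closure_le]
  rintro σ ⟨a, ha, rfl⟩
  exact (good_Sg a ha).2

theorem g24_mem_Syl : toPerm 315 g24 ∈ Syl := by
  have : toP (Sg 0) ∈ Syl := mem_gen (by norm_num)
  rwa [chk_sg0, rep_S0_0.toP_eq] at this

/-- the centre of `Syl` is `{1, g24}` -/
theorem Syl_center {y : Equiv.Perm (Fin 315)} (hy : y ∈ Syl) (hc : ∀ z ∈ Syl, y * z = z * y) :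
    y = 1 ∨ y = toPerm 315 g24 := by
  obtain ⟨j, hj, κ, hκ, rfl⟩ := cardg.1 y hy
  rw [gen_zero, Subgroup.mem_bot] at hκ
  subst hκ
  rw [mul_one] at hc ⊢
  rcases Nat.lt_or_ge j 2 with h | h
  · interval_cases j
    · left; exact preg.1
    · right
      rw [chk_ug1, chk_sg0]
      exact rep_S0_0.toP_eq
  · exfalso
    obtain ⟨a, ha, i, hne⟩ := cenD_sound chk_cen (j - 2) (by omega)
    have hj2 : j - 2 + 2 = j := by omega
    rw [hj2] at hne
    apply hne
    have gU := (preg.2.1 j hj).1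
    have gS := (good_Sg a ha).1
    rw [ev_rep [Ug j, Sg a] (by
        intro p hp
        simp only [List.mem_cons, List.not_mem_nil, or_false] at hp
        rcases hp with rfl | rfl
        · exact gU
        · exact gS) i,
      ev_rep [Sg a, Ug j] (by
        intro p hp
        simp only [List.mem_cons, List.not_mem_nil, or_false] at hp
        rcases hp with rfl | rfl
        · exact gS
        · exact gU) i]
    simp only [List.map_cons, List.map_nil, List.prod_cons, List.prod_nil, mul_one]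
    rw [hc (toP (Sg a)) (mem_gen ha)]

theorem factorization_two (m : ℕ) (hm : ¬ 2 ∣ m) (hm0 : m ≠ 0) :
    (2 ^ 7 * m).factorization 2 = 7 := by
  rw [Nat.factorization_mul (by norm_num) hm0, Nat.Prime.factorization_pow Nat.prime_two]
  simp [Nat.factorization_eq_zero_of_not_dvd hm]

/-- **Claim A**: an involution of `PJ2` whose centraliser has order 1920 is a reflection -/
theorem invol_mem_refl (x : ↥PJ2) (h2 : orderOf x = 2)
    (hc : Nat.card (Subgroup.centralizer ({x} : Set ↥PJ2)) = 1920) :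
    ∃ k : Fin 315, (x : Equiv.Perm (Fin 315)) = phi (lineReflG k) := by
  classical
  haveI : Fact (Nat.Prime 2) := ⟨Nat.prime_two⟩
  have hP : Nat.card ↥PJ2 = 604800 := card_PJ2
  have f1 : (1920 : ℕ).factorization 2 = 7 := factorization_two 15 (by norm_num) (by norm_num)
  have f2 : (604800 : ℕ).factorization 2 = 7 := factorization_two 4725 (by norm_num) (by norm_num)
  -- the centraliser and a Sylow 2-subgroup of it through `x`
  have hxC : x ∈ Subgroup.centralizer ({x} : Set ↥PJ2) := by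
    rw [Subgroup.mem_centralizer_iff]
    intro h hh
    rw [Set.mem_singleton_iff] at hh
    rw [hh]
  have hord : orderOf (⟨x, hxC⟩ : Subgroup.centralizer ({x} : Set ↥PJ2)) = 2 := by
    rw [← h2]
    exact (Subgroup.orderOf_mk x hxC)
  have hp : IsPGroup 2 (Subgroup.zpowers (⟨x, hxC⟩ : Subgroup.centralizer ({x} : Set ↥PJ2))) :=
    IsPGroup.of_card (n := 1) (by rw [Nat.card_zpowers, hord, pow_one])
  obtain ⟨S', hS'⟩ := hp.exists_le_sylow
  have hS'card : Nat.card S' = 128 := by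
    rw [Sylow.card_eq_multiplicity, hc, f1]
    norm_num
  have hxS' : (⟨x, hxC⟩ : Subgroup.centralizer ({x} : Set ↥PJ2)) ∈ S' :=
    hS' (Subgroup.mem_zpowers _)
  -- its image in `PJ2`
  have hS''card : Nat.card ((S' : Subgroup (Subgroup.centralizer ({x} : Set ↥PJ2))).map
      (Subgroup.centralizer ({x} : Set ↥PJ2)).subtype) = 128 := by
    rw [Subgroup.card_map_of_injective (Subgroup.subtype_injective _)]
    exact hS'card
  let Q1 : Sylow 2 ↥PJ2 := Sylow.ofCard _ (by rw [hS''card, hP, f2]; norm_num)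
  have hQ1x : x ∈ (Q1 : Subgroup ↥PJ2) := by
    rw [Sylow.coe_ofCard]
    exact ⟨⟨x, hxC⟩, hxS', rfl⟩
  have hQ1c : ∀ z ∈ (Q1 : Subgroup ↥PJ2), z * x = x * z := by
    intro z hz
    rw [Sylow.coe_ofCard] at hz
    obtain ⟨⟨w, hw⟩, -, rfl⟩ := hz
    have := Subgroup.mem_centralizer_iff.1 hw x (Set.mem_singleton x)
    exact this.symm
  -- the explicit Sylow subgroup
  have hS0card : Nat.card (Syl.subgroupOf PJ2) = 128 := by
    rw [← card_Syl]
    exact Nat.card_congr (Subgroup.subgroupOfEquivOfLe Syl_le).toEquiv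
  let Q0 : Sylow 2 ↥PJ2 := Sylow.ofCard _ (by rw [hS0card, hP, f2]; norm_num)
  obtain ⟨g, hg⟩ := MulAction.exists_smul_eq ↥PJ2 Q1 Q0
  -- `y = g x g⁻¹` is central in `Syl`
  have hmem : ∀ z : ↥PJ2, z ∈ (Q1 : Subgroup ↥PJ2) → g * z * g⁻¹ ∈ (Q0 : Subgroup ↥PJ2) := by
    intro z hz
    have : g * z * g⁻¹ ∈ ((g • Q1 : Sylow 2 ↥PJ2) : Subgroup ↥PJ2) := by
      rw [Sylow.coe_subgroup_smul]
      exact Subgroup.smul_mem_pointwise_smul z (MulAut.conj g) _ hz
    rwa [hg] at this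
  have hmem' : ∀ w : ↥PJ2, w ∈ (Q0 : Subgroup ↥PJ2) → g⁻¹ * w * g ∈ (Q1 : Subgroup ↥PJ2) := by
    intro w hw
    rw [← hg, Sylow.coe_subgroup_smul, Subgroup.mem_pointwise_smul_iff_inv_smul_mem] at hw
    simpa [MulAut.smul_def, MulAut.conj_inv_apply] using hw
  have hyS : ((g * x * g⁻¹ : ↥PJ2) : Equiv.Perm (Fin 315)) ∈ Syl := by
    have := hmem x hQ1x
    rw [Sylow.coe_ofCard, Subgroup.mem_subgroupOf] at this
    exact this
  have hyc : ∀ z ∈ Syl, ((g * x * g⁻¹ : ↥PJ2) : Equiv.Perm (Fin 315)) * z =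
      z * ((g * x * g⁻¹ : ↥PJ2) : Equiv.Perm (Fin 315)) := by
    intro z hz
    have hzP : z ∈ PJ2 := Syl_le hz
    have hz0 : (⟨z, hzP⟩ : ↥PJ2) ∈ (Q0 : Subgroup ↥PJ2) := by
      rw [Sylow.coe_ofCard, Subgroup.mem_subgroupOf]
      exact hz
    have h1 := hQ1c _ (hmem' _ hz0)
    -- g⁻¹ z g x = x g⁻¹ z g
    have h3 : (g * x * g⁻¹) * (⟨z, hzP⟩ : ↥PJ2) = (⟨z, hzP⟩ : ↥PJ2) * (g * x * g⁻¹) := by
      have : g * (x * (g⁻¹ * ⟨z, hzP⟩ * g)) * g⁻¹ = g * ((g⁻¹ * ⟨z, hzP⟩ * g) * x) * g⁻¹ := by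
        rw [h1]
      simpa [mul_assoc] using this
    exact congrArg Subtype.val h3
  have hy1 : ((g * x * g⁻¹ : ↥PJ2) : Equiv.Perm (Fin 315)) ≠ 1 := by
    intro h
    have h' : g * x * g⁻¹ = 1 := Subtype.ext h
    have hx1 : x = 1 := by
      have : x = g⁻¹ * (g * x * g⁻¹) * g := by group
      rw [this, h']; group
    rw [hx1, orderOf_one] at h2
    omega
  rcases Syl_center hyS hyc with h | h
  · exact absurd h hy1
  · -- `x = g⁻¹ g24 g`
    obtain ⟨γ, hγ⟩ : ∃ γ : twoJ2, phi γ = ((g⁻¹ : ↥PJ2) : Equiv.Perm (Fin 315)) := by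
      have : ((g⁻¹ : ↥PJ2) : Equiv.Perm (Fin 315)) ∈ phi.range := by
        rw [phi_range]; exact (g⁻¹).2
      exact this
    refine ⟨phi γ 24, ?_⟩
    rw [← conj_lineReflG, map_mul, map_mul, map_inv, hγ]
    have h24 : phi (lineReflG 24) = toPerm 315 g24 := phi24
    rw [h24, ← h]
    have : x = g⁻¹ * (g * x * g⁻¹) * g := by group
    conv_lhs => rw [this]
    simp
end Cfsg.Agent.Lib.Helper7.J2Invol
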