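import Cfsg.Agent.Lib.Helper7.J2InvolData

/-!
# The kernel checks for the Sylow 2-subgroup of `PJ2`
-/

set_option autoImplicit false

namespace Cfsg.Agent.Lib.Helper7.J2Invol

open Cfsg.Agent.Lib.Helper7.J2Perm

/-- `a = b * c * d` -/
noncomputable def d13 (a b c d : ℕ) : ℕ :=
  ssum (fun k => Nat.xor (lk a (Nat.mul (nat_lit 12) k))
    (lk b (lk c (lk d (Nat.mul (nat_lit 12) k))))) (nat_lit 315)

theorem d13_sound {a b c d : ℕ} (h : d13 a b c d = 0) :
    ∀ k < 315, lk a (12 * k) = ev [b, c, d] (12 * k) := by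
  intro k hk
  have := ssum_eq_zero h k hk
  exact xor_eq_zero_iff.1 this

/-- the membership check: `S a = U0 j0 * U1 j1 * U2 j2`, the indices being packed in `mem` -/
noncomputable def memD (S : ℕ → ℕ) (mem nS : ℕ) : ℕ :=
  ssum (fun a => d13 (S a)
    (U0 (Nat.mod (lk mem (Nat.mul (nat_lit 36) a)) (nat_lit 315)))
    (U1 (Nat.mod (lk mem (Nat.add (Nat.mul (nat_lit 36) a) (nat_lit 12))) (nat_lit 160)))
    (U2 (Nat.mod (lk mem (Nat.add (Nat.mul (nat_lit 36) a) (nat_lit 24))) (nat_lit 12)))) nS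

theorem memD_sound {S : ℕ → ℕ} {mem nS : ℕ} (h : memD S mem nS = 0) :
    ∀ a < nS, ∀ k < 315, lk (S a) (12 * k) =
      ev [U0 (lk mem (36 * a) % 315), U1 (lk mem (36 * a + 12) % 160),
        U2 (lk mem (36 * a + 24) % 12)] (12 * k) := by
  intro a ha
  exact d13_sound (ssum_eq_zero h a ha)

/-- the witnesses of non-commutation: the element `U (j + 2)` and the generator `S a` differ at the
point `k`, the pairs `(a, k)` being packed in `w` -/
noncomputable def cenD (S U : ℕ → ℕ) (w n : ℕ) : ℕ :=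
  ssum (fun j => Nat.sub (nat_lit 1) (Nat.xor
    (lk (U (Nat.add j (nat_lit 2))) (lk (S (Nat.mod (lk w (Nat.mul (nat_lit 24) j)) (nat_lit 4)))
      (Nat.mul (nat_lit 12) (Nat.mod (lk w (Nat.add (Nat.mul (nat_lit 24) j) (nat_lit 12)))
        (nat_lit 315)))))
    (lk (S (Nat.mod (lk w (Nat.mul (nat_lit 24) j)) (nat_lit 4))) (lk (U (Nat.add j (nat_lit 2)))
      (Nat.mul (nat_lit 12) (Nat.mod (lk w (Nat.add (Nat.mul (nat_lit 24) j) (nat_lit 12)))
        (nat_lit 315))))))) n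

theorem cenD_sound {S U : ℕ → ℕ} {w n : ℕ} (h : cenD S U w n = 0) :
    ∀ j < n, ∃ a < 4, ∃ i : Fin 315,
      ev [U (j + 2), S a] (12 * (i : ℕ)) ≠ ev [S a, U (j + 2)] (12 * (i : ℕ)) := by
  intro j hj
  have h1 : 1 - (lk (U (j + 2)) (lk (S (lk w (24 * j) % 4)) (12 * (lk w (24 * j + 12) % 315))) ^^^
      lk (S (lk w (24 * j) % 4)) (lk (U (j + 2)) (12 * (lk w (24 * j + 12) % 315)))) = 0 :=
    ssum_eq_zero h j hj
  refine ⟨lk w (24 * j) % 4, Nat.mod_lt _ (by norm_num),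
    ⟨lk w (24 * j + 12) % 315, Nat.mod_lt _ (by norm_num)⟩, ?_⟩
  intro e
  have e' : lk (U (j + 2)) (lk (S (lk w (24 * j) % 4)) (12 * (lk w (24 * j + 12) % 315))) =
      lk (S (lk w (24 * j) % 4)) (lk (U (j + 2)) (12 * (lk w (24 * j + 12) % 315))) := e
  rw [e', Nat.xor_self] at h1
  omega

set_option maxRecDepth 100000 in
theorem chk_mem : memD Sg memg 4 = 0 := Nat.eq_of_beq_eq_true (by decide +kernel)

set_option maxRecDepth 100000 in
theorem chk_treeg : treeD Sg Ug 4 trg 127 = 0 := Nat.eq_of_beq_eq_true (by decide +kernel)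

theorem chk_gensg : gensD Sg Ug S3 0 48 4 128 0 = 0 := rfl

set_option maxRecDepth 100000 in
theorem chk_posg : posD Ug posg 48 128 = 0 := Nat.eq_of_beq_eq_true (by decide +kernel)

set_option maxRecDepth 100000 in
theorem chk_closg : closD Sg Ug Tid Tid posg 0 0 48 4 128 1 1 = 0 :=
  Nat.eq_of_beq_eq_true (by decide +kernel)

set_option maxRecDepth 100000 in
theorem chk_sg0 : Sg 0 = S0 0 := Nat.eq_of_beq_eq_true (by decide +kernel)

set_option maxRecDepth 100000 in
theorem chk_ug1 : Ug 1 = Sg 0 := Nat.eq_of_beq_eq_true (by decide +kernel)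

set_option maxRecDepth 100000 in
theorem chk_cen : cenD Sg Ug cenw 126 = 0 := Nat.eq_of_beq_eq_true (by decide +kernel)

end Cfsg.Agent.Lib.Helper7.J2Invol
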