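import Mathlib

/-!
# Packed permutations of `Fin 315` and a fast Schreier–Sims verification

A permutation `σ` of `Fin 315` is packed in one natural number `p`: the 12-bit field at bit `12 * i`
holds `12 * σ i` ("scaled points"), so that a lookup is one shift and one mask and lookups compose
without any multiplication.  All the checks are strict sums of differences, which the kernel
evaluates with GMP arithmetic.  This file has no data: it contains the abstract counting step of the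
Schreier–Sims method and the soundness of the checks.
-/

set_option autoImplicit false

namespace Cfsg.Agent.Lib.Helper7.J2Perm

/-! ### The abstract counting step -/

theorem smul_closed_inv {α : Type*} [Finite α] (T : Set (Equiv.Perm α)) (x : Equiv.Perm α)
    (hx : ∀ t ∈ T, x * t ∈ T) : ∀ t ∈ T, x⁻¹ * t ∈ T := by
  have hpow : ∀ n : ℕ, ∀ t ∈ T, x ^ n * t ∈ T := by
    intro n
    induction n with
    | zero => intro t ht; simpa using ht
    | succ n ih => intro t ht; rw [pow_succ', mul_assoc]; exact hx _ (ih t ht)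
  have hpos : 0 < orderOf x := orderOf_pos x
  have hinv : x⁻¹ = x ^ (orderOf x - 1) := by
    apply inv_eq_of_mul_eq_one_right
    rw [← pow_succ', Nat.sub_add_cancel hpos, pow_orderOf_eq_one]
  rw [hinv]
  exact hpow _

/-- **one step of a stabiliser chain**, abstractly -/
theorem card_step {α : Type*} [Finite α] (G K : Subgroup (Equiv.Perm α))
    (S : Set (Equiv.Perm α)) (hG : G = Subgroup.closure S) (b : α) (m : ℕ)
    (u : ℕ → Equiv.Perm α) (hu : ∀ j < m, u j ∈ G)
    (hinj : ∀ j < m, ∀ j' < m, u j b = u j' b → j = j')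
    (h0 : 0 < m) (hu0 : u 0 = 1) (hKG : K ≤ G) (hKb : ∀ κ ∈ K, κ b = b)
    (hcl : ∀ s ∈ S, ∀ j < m, ∃ j' < m, ∃ κ ∈ K, s * u j = u j' * κ) :
    (∀ g ∈ G, ∃ j < m, ∃ κ ∈ K, g = u j * κ) ∧ Nat.card G = m * Nat.card K ∧
      (∀ g ∈ G, g b = b → g ∈ K) := by
  classical
  let T : Set (Equiv.Perm α) := {g | ∃ j < m, ∃ κ ∈ K, g = u j * κ}
  have hT1 : (1 : Equiv.Perm α) ∈ T := ⟨0, h0, 1, K.one_mem, by rw [hu0, mul_one]⟩
  have hST : ∀ s ∈ S, ∀ g ∈ T, s * g ∈ T := by
    rintro s hs g ⟨j, hj, κ, hκ, rfl⟩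
    obtain ⟨j', hj', κ', hκ', e⟩ := hcl s hs j hj
    exact ⟨j', hj', κ' * κ, K.mul_mem hκ' hκ, by rw [← mul_assoc, e, mul_assoc]⟩
  have hGT : ∀ g ∈ G, ∀ t ∈ T, g * t ∈ T := by
    intro g hg
    rw [hG] at hg
    induction hg using Subgroup.closure_induction with
    | mem s hs => exact hST s hs
    | one => intro t ht; simpa using ht
    | mul x y _ _ ihx ihy => intro t ht; rw [mul_assoc]; exact ihx _ (ihy t ht)
    | inv x _ ihx => exact smul_closed_inv T x ihx
  have hsurj : ∀ g ∈ G, ∃ j < m, ∃ κ ∈ K, g = u j * κ := by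
    intro g hg
    have := hGT g hg 1 hT1
    rwa [mul_one] at this
  have hfix : ∀ g ∈ G, g b = b → g ∈ K := by
    intro g hg hgb
    obtain ⟨j, hj, κ, hκ, rfl⟩ := hsurj g hg
    rw [Equiv.Perm.mul_apply, hKb κ hκ] at hgb
    have h1 : u j b = u 0 b := by rw [hgb, hu0]; rfl
    have hj0 : j = 0 := hinj j hj 0 h0 h1
    rw [hj0, hu0, one_mul]
    exact hκ
  refine ⟨hsurj, ?_, hfix⟩
  let φ : Fin m × K → G := fun p =>
    ⟨u p.1 * p.2.1, G.mul_mem (hu _ p.1.2) (hKG p.2.2)⟩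
  have hφ : Function.Bijective φ := by
    constructor
    · rintro ⟨j, κ⟩ ⟨j', κ'⟩ h
      have h' : u j * κ.1 = u j' * κ'.1 := congrArg Subtype.val h
      have h2 := congrArg (fun σ : Equiv.Perm α => σ b) h'
      simp only [Equiv.Perm.mul_apply, hKb κ.1 κ.2, hKb κ'.1 κ'.2] at h2
      have hjj : (j : ℕ) = j' := hinj j j.2 j' j'.2 h2
      have hjj' : j = j' := Fin.ext hjj
      subst hjj'
      have : κ.1 = κ'.1 := mul_left_cancel h'
      rw [Prod.mk.injEq]
      exact ⟨rfl, Subtype.ext this⟩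
    · rintro ⟨g, hg⟩
      obtain ⟨j, hj, κ, hκ, rfl⟩ := hsurj g hg
      exact ⟨(⟨j, hj⟩, ⟨κ, hκ⟩), rfl⟩
  rw [← Nat.card_congr (Equiv.ofBijective φ hφ), Nat.card_prod, Nat.card_fin]

/-! ### Packed permutations -/

/-- lookup in a packed permutation at a scaled point -/
def lk (p s : ℕ) : ℕ := Nat.land (Nat.shiftRight p s) (nat_lit 4095)

/-- `p` is the packed form of `σ` -/
def Rep (p : ℕ) (σ : Equiv.Perm (Fin 315)) : Prop :=
  ∀ i : Fin 315, lk p (12 * (i : ℕ)) = 12 * ((σ i : Fin 315) : ℕ)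

theorem Rep.unique {p : ℕ} {σ τ : Equiv.Perm (Fin 315)} (h1 : Rep p σ) (h2 : Rep p τ) : σ = τ := by
  refine Equiv.ext fun i => Fin.ext ?_
  have := (h1 i).symm.trans (h2 i)
  omega

/-- `p` is the packed form of a permutation -/
def Good (p : ℕ) : Prop := ∃ σ, Rep p σ

open Classical in
/-- the permutation of a packed form (`1` for junk) -/
noncomputable def toP (p : ℕ) : Equiv.Perm (Fin 315) := if h : Good p then h.choose else 1

theorem Rep.toP_eq {p : ℕ} {σ : Equiv.Perm (Fin 315)} (h : Rep p σ) : toP p = σ := by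
  have hg : Good p := ⟨σ, h⟩
  rw [toP, dif_pos hg]
  exact hg.choose_spec.unique h

theorem Rep.good {p : ℕ} {σ : Equiv.Perm (Fin 315)} (h : Rep p σ) : Good p := ⟨σ, h⟩

theorem Good.rep {p : ℕ} (h : Good p) : Rep p (toP p) := by
  obtain ⟨σ, hσ⟩ := h
  rw [hσ.toP_eq]; exact hσ

/-- evaluation of a product of packed permutations at a scaled point -/
def ev : List ℕ → ℕ → ℕ
  | [], s => s
  | p :: ps, s => lk p (ev ps s)

theorem ev_rep : ∀ (ps : List ℕ), (∀ p ∈ ps, Good p) → ∀ i : Fin 315,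
    ev ps (12 * (i : ℕ)) = 12 * ((((ps.map toP).prod) i : Fin 315) : ℕ)
  | [], _, i => by simp [ev]
  | p :: ps, h, i => by
    rw [ev, ev_rep ps (fun q hq => h q (List.mem_cons_of_mem _ hq)) i, List.map_cons,
      List.prod_cons, Equiv.Perm.mul_apply]
    exact (h p List.mem_cons_self).rep _

theorem prod_eq_of_ev (ps qs : List ℕ) (hp : ∀ p ∈ ps, Good p) (hq : ∀ q ∈ qs, Good q)
    (h : ∀ k < 315, ev ps (12 * k) = ev qs (12 * k)) :
    (ps.map toP).prod = (qs.map toP).prod := by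
  refine Equiv.ext fun i => Fin.ext ?_
  have := h i i.2
  rw [ev_rep ps hp i, ev_rep qs hq i] at this
  omega

theorem rep_of_ev (c : ℕ) (qs : List ℕ) (hq : ∀ q ∈ qs, Good q)
    (h : ∀ k < 315, lk c (12 * k) = ev qs (12 * k)) : Rep c ((qs.map toP).prod) :=
  fun i => (h i i.2).trans (ev_rep qs hq i)

theorem rep_of_rel (u c : ℕ) (qs : List ℕ) (hu : Good u) (hq : ∀ q ∈ qs, Good q)
    (hrange : ∀ k < 315, lk c (12 * k) % 12 = 0 ∧ lk c (12 * k) < 3780)
    (h : ∀ k < 315, lk u (lk c (12 * k)) = ev qs (12 * k)) :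
    Rep c ((toP u)⁻¹ * (qs.map toP).prod) := by
  intro i
  obtain ⟨h1, h2⟩ := hrange i i.2
  have hf : lk c (12 * (i : ℕ)) / 12 < 315 := by omega
  have hx : lk c (12 * (i : ℕ)) = 12 * (((⟨lk c (12 * (i : ℕ)) / 12, hf⟩ : Fin 315) : Fin 315) : ℕ) := by
    show lk c (12 * (i : ℕ)) = 12 * (lk c (12 * (i : ℕ)) / 12)
    omega
  have h3 := h i i.2
  rw [ev_rep qs hq i, hx, hu.rep ⟨_, hf⟩] at h3
  have h4 : toP u ⟨lk c (12 * (i : ℕ)) / 12, hf⟩ = (qs.map toP).prod i := Fin.ext (by omega)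
  have h5 : (⟨lk c (12 * (i : ℕ)) / 12, hf⟩ : Fin 315) = (toP u)⁻¹ ((qs.map toP).prod i) := by
    rw [← h4]; simp
  rw [Equiv.Perm.mul_apply, ← h5]
  exact hx

/-! ### Strict sums -/

/-- the sum of `f k` over `k < n`, in a form the kernel evaluates strictly -/
noncomputable def ssum (f : ℕ → ℕ) (n : ℕ) : ℕ :=
  Nat.rec (nat_lit 0) (fun k ih => Nat.add (f k) ih) n

theorem ssum_zero (f : ℕ → ℕ) : ssum f 0 = 0 := rfl

theorem ssum_succ (f : ℕ → ℕ) (n : ℕ) : ssum f (n + 1) = f n + ssum f n := rfl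

theorem ssum_eq_zero {f : ℕ → ℕ} {n : ℕ} (h : ssum f n = 0) : ∀ k < n, f k = 0 := by
  induction n with
  | zero => intro k hk; omega
  | succ n ih =>
    rw [ssum_succ] at h
    intro k hk
    rcases Nat.lt_succ_iff_lt_or_eq.1 hk with hk | rfl
    · exact ih (by omega) k hk
    · omega

end Cfsg.Agent.Lib.Helper7.J2Perm
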