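import Cfsg.Agent.Lib.Helper7.J2PermA

/-!
# The checks of a level of the stabiliser chain and their soundness
-/

set_option autoImplicit false

namespace Cfsg.Agent.Lib.Helper7.J2Perm

/-! ### pointwise differences -/

/-- `a = 1` -/
noncomputable def d10 (a : ℕ) : ℕ :=
  ssum (fun k => Nat.xor (lk a (Nat.mul (nat_lit 12) k)) (Nat.mul (nat_lit 12) k)) (nat_lit 315)

/-- `a = b * c` -/
noncomputable def d12 (a b c : ℕ) : ℕ :=
  ssum (fun k => Nat.xor (lk a (Nat.mul (nat_lit 12) k)) (lk b (lk c (Nat.mul (nat_lit 12) k))))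
    (nat_lit 315)

/-- `a * b = c * d` -/
noncomputable def d22 (a b c d : ℕ) : ℕ :=
  ssum (fun k => Nat.xor (lk a (lk b (Nat.mul (nat_lit 12) k)))
    (lk c (lk d (Nat.mul (nat_lit 12) k)))) (nat_lit 315)

/-- `a * b = c * d * e` -/
noncomputable def d23 (a b c d e : ℕ) : ℕ :=
  ssum (fun k => Nat.xor (lk a (lk b (Nat.mul (nat_lit 12) k)))
    (lk c (lk d (lk e (Nat.mul (nat_lit 12) k))))) (nat_lit 315)

/-- the values of `a` are scaled points -/
noncomputable def drange (a : ℕ) : ℕ :=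
  ssum (fun k => Nat.add (Nat.mod (lk a (Nat.mul (nat_lit 12) k)) (nat_lit 12))
    (Nat.sub (Nat.succ (lk a (Nat.mul (nat_lit 12) k))) (nat_lit 3780))) (nat_lit 315)

theorem d10_sound {a : ℕ} (h : d10 a = 0) : ∀ k < 315, lk a (12 * k) = ev [] (12 * k) := by
  intro k hk
  have := ssum_eq_zero h k hk
  exact xor_eq_zero_iff.1 this

theorem d12_sound {a b c : ℕ} (h : d12 a b c = 0) :
    ∀ k < 315, lk a (12 * k) = ev [b, c] (12 * k) := by
  intro k hk
  have := ssum_eq_zero h k hk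
  exact xor_eq_zero_iff.1 this

theorem d22_sound {a b c d : ℕ} (h : d22 a b c d = 0) :
    ∀ k < 315, lk a (lk b (12 * k)) = ev [c, d] (12 * k) := by
  intro k hk
  have := ssum_eq_zero h k hk
  exact xor_eq_zero_iff.1 this

theorem d23_sound {a b c d e : ℕ} (h : d23 a b c d e = 0) :
    ∀ k < 315, ev [a, b] (12 * k) = ev [c, d, e] (12 * k) := by
  intro k hk
  have := ssum_eq_zero h k hk
  exact xor_eq_zero_iff.1 this

theorem drange_sound {a : ℕ} (h : drange a = 0) :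
    ∀ k < 315, lk a (12 * k) % 12 = 0 ∧ lk a (12 * k) < 3780 := by
  intro k hk
  have := ssum_eq_zero h k hk
  have h2 : lk a (12 * k) % 12 + (lk a (12 * k) + 1 - 3780) = 0 := this
  omega

theorem rep_one_of_d10 {a : ℕ} (h : d10 a = 0) : Rep a 1 := by
  have := rep_of_ev a [] (by simp) (d10_sound h)
  simpa using this

theorem rep_mul_of_d12 {a b c : ℕ} (hb : Good b) (hc : Good c) (h : d12 a b c = 0) :
    Rep a (toP b * toP c) := by
  have := rep_of_ev a [b, c] (by simp [hb, hc]) (d12_sound h)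
  simpa using this

/-! ### the tree check -/

/-- `U 0 = 1` and `U (k+1) = S gen * U par` with `par ≤ k`, the pairs `(par, gen)` being packed in
`tr` in 24 bits -/
noncomputable def treeD (S U : ℕ → ℕ) (nS tr m' : ℕ) : ℕ :=
  Nat.add (d10 (U (nat_lit 0)))
    (ssum (fun k => Nat.add (Nat.sub (lk tr (Nat.mul (nat_lit 24) k)) k)
      (d12 (U (Nat.succ k))
        (S (Nat.mod (lk tr (Nat.add (Nat.mul (nat_lit 24) k) (nat_lit 12))) nS))
        (U (lk tr (Nat.mul (nat_lit 24) k))))) m')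

theorem treeD_sound (G : Subgroup (Equiv.Perm (Fin 315))) (S U : ℕ → ℕ) (nS tr m' : ℕ)
    (hnS : 0 < nS) (hS : ∀ a < nS, Good (S a) ∧ toP (S a) ∈ G) (h : treeD S U nS tr m' = 0) :
    toP (U 0) = 1 ∧ ∀ j ≤ m', Good (U j) ∧ toP (U j) ∈ G := by
  have h' : d10 (U 0) + ssum (fun k => (lk tr (24 * k) - k) +
      (d12 (U (k + 1)) (S (lk tr (24 * k + 12) % nS)) (U (lk tr (24 * k))))) m' = 0 := h
  have h0 : d10 (U 0) = 0 := by omega
  have h1 := ssum_eq_zero (by omega : ssum (fun k => (lk tr (24 * k) - k) +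
      (d12 (U (k + 1)) (S (lk tr (24 * k + 12) % nS)) (U (lk tr (24 * k))))) m' = 0)
  have hU0 : Rep (U 0) 1 := rep_one_of_d10 h0
  refine ⟨hU0.toP_eq, ?_⟩
  intro j
  induction j using Nat.strong_induction_on with
  | _ j ih =>
    intro hj
    cases j with
    | zero => exact ⟨hU0.good, by rw [hU0.toP_eq]; exact G.one_mem⟩
    | succ k =>
      have hk := h1 k (by omega)
      have hk1 : lk tr (24 * k) - k = 0 := by omega
      have hk2 : d12 (U (k + 1)) (S (lk tr (24 * k + 12) % nS)) (U (lk tr (24 * k))) = 0 := by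
        omega
      obtain ⟨g1, g2⟩ := ih (lk tr (24 * k)) (by omega) (by omega)
      obtain ⟨s1, s2⟩ := hS (lk tr (24 * k + 12) % nS) (Nat.mod_lt _ hnS)
      have hr := rep_mul_of_d12 s1 g1 hk2
      exact ⟨hr.good, by rw [hr.toP_eq]; exact G.mul_mem s2 g2⟩

/-! ### the position check -/

/-- `pos` inverts `j ↦ U j b` -/
noncomputable def posD (U : ℕ → ℕ) (pos b12 m : ℕ) : ℕ :=
  ssum (fun j => Nat.xor (lk pos (lk (U j) b12)) j) m

theorem posD_sound {U : ℕ → ℕ} {pos b12 m : ℕ} (h : posD U pos b12 m = 0) :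
    ∀ j < m, ∀ j' < m, lk (U j) b12 = lk (U j') b12 → j = j' := by
  intro j hj j' hj' e
  have h1 : lk pos (lk (U j) b12) = j := xor_eq_zero_iff.1 (ssum_eq_zero h j hj)
  have h2 : lk pos (lk (U j') b12) = j' := xor_eq_zero_iff.1 (ssum_eq_zero h j' hj')
  rw [← h1, ← h2, e]

/-! ### the closure check -/

/-- `S a * U j = U j' * T1 i1 * T2 i2`, with `j'` read off `pos` and `i1`, `i2` from the packed
certificates `c1`, `c2` -/
noncomputable def closD (S U T1 T2 : ℕ → ℕ) (pos c1 c2 b12 nS m n1 n2 : ℕ) : ℕ :=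
  ssum (fun a => ssum (fun j => d23 (S a) (U j)
      (U (Nat.mod (lk pos (lk (S a) (lk (U j) b12))) m))
      (T1 (Nat.mod (lk c1 (Nat.mul (nat_lit 12) (Nat.add (Nat.mul a m) j))) n1))
      (T2 (Nat.mod (lk c2 (Nat.mul (nat_lit 12) (Nat.add (Nat.mul a m) j))) n2))) m) nS

theorem closD_sound (K : Subgroup (Equiv.Perm (Fin 315))) (S U T1 T2 : ℕ → ℕ)
    (pos c1 c2 b12 nS m n1 n2 : ℕ) (hm : 0 < m) (hn1 : 0 < n1) (hn2 : 0 < n2)
    (hS : ∀ a < nS, Good (S a)) (hU : ∀ j < m, Good (U j))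
    (hT1 : ∀ i < n1, Good (T1 i) ∧ toP (T1 i) ∈ K) (hT2 : ∀ i < n2, Good (T2 i) ∧ toP (T2 i) ∈ K)
    (h : closD S U T1 T2 pos c1 c2 b12 nS m n1 n2 = 0) :
    ∀ a < nS, ∀ j < m, ∃ j' < m, ∃ κ ∈ K, toP (S a) * toP (U j) = toP (U j') * κ := by
  intro a ha j hj
  have h1 := ssum_eq_zero (ssum_eq_zero h a ha) j hj
  have h2 : d23 (S a) (U j) (U (lk pos (lk (S a) (lk (U j) b12)) % m))
      (T1 (lk c1 (12 * (a * m + j)) % n1)) (T2 (lk c2 (12 * (a * m + j)) % n2)) = 0 := h1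
  have hj' : lk pos (lk (S a) (lk (U j) b12)) % m < m := Nat.mod_lt _ hm
  obtain ⟨t1, t1'⟩ := hT1 _ (Nat.mod_lt (lk c1 (12 * (a * m + j))) hn1)
  obtain ⟨t2, t2'⟩ := hT2 _ (Nat.mod_lt (lk c2 (12 * (a * m + j))) hn2)
  refine ⟨_, hj', _, K.mul_mem t1' t2', ?_⟩
  have := prod_eq_of_ev [S a, U j] [U (lk pos (lk (S a) (lk (U j) b12)) % m),
      T1 (lk c1 (12 * (a * m + j)) % n1), T2 (lk c2 (12 * (a * m + j)) % n2)]
    (by
      intro p hp
      simp only [List.mem_cons, List.not_mem_nil, or_false] at hp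
      rcases hp with rfl | rfl
      · exact hS a ha
      · exact hU j hj)
    (by
      intro p hp
      simp only [List.mem_cons, List.not_mem_nil, or_false] at hp
      rcases hp with rfl | rfl | rfl
      · exact hU _ hj'
      · exact t1
      · exact t2)
    (d23_sound h2)
  simpa [mul_assoc] using this

/-! ### the generators of the next level -/

/-- each `S' a'` has scaled values, fixes the base point and satisfies
`U j1 * S' a' = S a * U j2`, the triples `(j1, a, j2)` being packed in `cert` in 36 bits -/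
noncomputable def gensD (S U S' : ℕ → ℕ) (cert b12 nS m nS' : ℕ) : ℕ :=
  ssum (fun a' => Nat.add (Nat.add (drange (S' a')) (Nat.xor (lk (S' a') b12) b12))
    (d22 (U (Nat.mod (lk cert (Nat.mul (nat_lit 36) a')) m)) (S' a')
      (S (Nat.mod (lk cert (Nat.add (Nat.mul (nat_lit 36) a') (nat_lit 12))) nS))
      (U (Nat.mod (lk cert (Nat.add (Nat.mul (nat_lit 36) a') (nat_lit 24))) m)))) nS'

theorem gensD_sound (G : Subgroup (Equiv.Perm (Fin 315))) (S U S' : ℕ → ℕ)
    (cert b12 nS m nS' : ℕ) (hnS : 0 < nS) (hm : 0 < m)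
    (hS : ∀ a < nS, Good (S a) ∧ toP (S a) ∈ G) (hU : ∀ j < m, Good (U j) ∧ toP (U j) ∈ G)
    (h : gensD S U S' cert b12 nS m nS' = 0) :
    ∀ a' < nS', Good (S' a') ∧ toP (S' a') ∈ G ∧ lk (S' a') b12 = b12 := by
  intro a' ha'
  have h1 : (drange (S' a') + (lk (S' a') b12 ^^^ b12)) +
      d22 (U (lk cert (36 * a') % m)) (S' a') (S (lk cert (36 * a' + 12) % nS))
        (U (lk cert (36 * a' + 24) % m)) = 0 := ssum_eq_zero h a' ha'
  have e1 : drange (S' a') = 0 := by omega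
  have e2 : lk (S' a') b12 ^^^ b12 = 0 := by omega
  have e3 : d22 (U (lk cert (36 * a') % m)) (S' a') (S (lk cert (36 * a' + 12) % nS))
        (U (lk cert (36 * a' + 24) % m)) = 0 := by omega
  obtain ⟨u1, u1'⟩ := hU _ (Nat.mod_lt (lk cert (36 * a')) hm)
  obtain ⟨u2, u2'⟩ := hU _ (Nat.mod_lt (lk cert (36 * a' + 24)) hm)
  obtain ⟨s1, s1'⟩ := hS _ (Nat.mod_lt (lk cert (36 * a' + 12)) hnS)
  have hr := rep_of_rel (U (lk cert (36 * a') % m)) (S' a')
    [S (lk cert (36 * a' + 12) % nS), U (lk cert (36 * a' + 24) % m)] u1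
    (by
      intro p hp
      simp only [List.mem_cons, List.not_mem_nil, or_false] at hp
      rcases hp with rfl | rfl
      · exact s1
      · exact u2)
    (drange_sound e1) (d22_sound e3)
  refine ⟨hr.good, ?_, xor_eq_zero_iff.1 e2⟩
  rw [hr.toP_eq]
  refine G.mul_mem (G.inv_mem u1') ?_
  simp only [List.map_cons, List.map_nil, List.prod_cons, List.prod_nil, mul_one]
  exact G.mul_mem s1' u2'

end Cfsg.Agent.Lib.Helper7.J2Perm
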