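import Cfsg.Agent.Lib.Helper7.J2PermB

/-!
# One level of the stabiliser chain, from the checks
-/

set_option autoImplicit false

namespace Cfsg.Agent.Lib.Helper7.J2Perm

/-- the subgroup generated by the permutations of the first `n` values of `S` -/
noncomputable def gen (S : ℕ → ℕ) (n : ℕ) : Subgroup (Equiv.Perm (Fin 315)) :=
  Subgroup.closure {σ | ∃ a < n, σ = toP (S a)}

theorem mem_gen {S : ℕ → ℕ} {n a : ℕ} (ha : a < n) : toP (S a) ∈ gen S n :=
  Subgroup.subset_closure ⟨a, ha, rfl⟩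

theorem gen_zero (S : ℕ → ℕ) : gen S 0 = ⊥ := by
  rw [gen, Subgroup.closure_eq_bot_iff]
  rintro σ ⟨a, ha, -⟩
  omega

/-- the first half of a level: the transversal and the next generators lie in the group -/
theorem level_pre (S U S' : ℕ → ℕ) (nS m m' nS' tr cert b12 : ℕ) (b : Fin 315)
    (hb : b12 = 12 * (b : ℕ)) (hm' : m = m' + 1)
    (hnS : 0 < nS) (hS : ∀ a < nS, Good (S a))
    (htree : treeD S U nS tr m' = 0)
    (hgens : gensD S U S' cert b12 nS m nS' = 0) :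
    toP (U 0) = 1 ∧ (∀ j < m, Good (U j) ∧ toP (U j) ∈ gen S nS) ∧
      (∀ a' < nS', Good (S' a')) ∧ gen S' nS' ≤ gen S nS ∧ (∀ κ ∈ gen S' nS', κ b = b) := by
  subst hb
  have hm : 0 < m := by omega
  have hS' : ∀ a < nS, Good (S a) ∧ toP (S a) ∈ gen S nS := fun a ha => ⟨hS a ha, mem_gen ha⟩
  obtain ⟨t0, t1⟩ := treeD_sound (gen S nS) S U nS tr m' hnS hS' htree
  have hU : ∀ j < m, Good (U j) ∧ toP (U j) ∈ gen S nS := fun j hj => t1 j (by omega)
  have hg := gensD_sound (gen S nS) S U S' cert (12 * (b : ℕ)) nS m nS' hnS hm hS' hU hgens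
  refine ⟨t0, hU, fun a' ha' => (hg a' ha').1, ?_, ?_⟩
  · rw [gen, Subgroup.closure_le]
    rintro σ ⟨a', ha', rfl⟩
    exact (hg a' ha').2.1
  · intro κ hκ
    have : gen S' nS' ≤ MulAction.stabilizer (Equiv.Perm (Fin 315)) b := by
      rw [gen, Subgroup.closure_le]
      rintro σ ⟨a', ha', rfl⟩
      rw [SetLike.mem_coe, MulAction.mem_stabilizer_iff, Equiv.Perm.smul_def]
      obtain ⟨g1, -, g3⟩ := hg a' ha'
      have := g1.rep b
      rw [g3] at this
      exact Fin.ext (by omega)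
    exact MulAction.mem_stabilizer_iff.1 (this hκ)

/-- the second half of a level: the count -/
theorem level_card (S U S' T1 T2 : ℕ → ℕ) (nS m nS' n1 n2 pos c1 c2 b12 : ℕ) (b : Fin 315)
    (hb : b12 = 12 * (b : ℕ)) (hm : 0 < m) (hn1 : 0 < n1) (hn2 : 0 < n2) (hS : ∀ a < nS, Good (S a))
    (hU0 : toP (U 0) = 1) (hU : ∀ j < m, Good (U j) ∧ toP (U j) ∈ gen S nS)
    (hKG : gen S' nS' ≤ gen S nS) (hKb : ∀ κ ∈ gen S' nS', κ b = b)
    (hT1 : ∀ i < n1, Good (T1 i) ∧ toP (T1 i) ∈ gen S' nS')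
    (hT2 : ∀ i < n2, Good (T2 i) ∧ toP (T2 i) ∈ gen S' nS')
    (hpos : posD U pos b12 m = 0)
    (hclos : closD S U T1 T2 pos c1 c2 b12 nS m n1 n2 = 0) :
    (∀ g ∈ gen S nS, ∃ j < m, ∃ κ ∈ gen S' nS', g = toP (U j) * κ) ∧
      Nat.card (gen S nS) = m * Nat.card (gen S' nS') ∧
      (∀ g ∈ gen S nS, g b = b → g ∈ gen S' nS') := by
  subst hb
  have hcl := closD_sound (gen S' nS') S U T1 T2 pos c1 c2 (12 * (b : ℕ)) nS m n1 n2 hm hn1 hn2
    hS (fun j hj => (hU j hj).1) hT1 hT2 hclos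
  have hinj := posD_sound hpos
  refine card_step (gen S nS) (gen S' nS') {σ | ∃ a < nS, σ = toP (S a)} rfl b m
    (fun j => toP (U j)) (fun j hj => (hU j hj).2) ?_ hm hU0 hKG hKb ?_
  · intro j hj j' hj' e
    apply hinj j hj j' hj'
    rw [(hU j hj).1.rep b, (hU j' hj').1.rep b, e]
  · rintro s ⟨a, ha, rfl⟩ j hj
    exact hcl a ha j hj

end Cfsg.Agent.Lib.Helper7.J2Perm
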