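import Cfsg.Agent.Lib.Helper7.J2PermData

/-!
# The kernel checks of the stabiliser chain of `PJ2`
-/

set_option autoImplicit false

namespace Cfsg.Agent.Lib.Helper7.J2Perm

set_option maxRecDepth 100000 in
theorem chk_id : d10 idP = 0 := Nat.eq_of_beq_eq_true (by decide +kernel)

/-! level 0: base point 0 -/

set_option maxRecDepth 100000 in
theorem chk_tree0 : treeD S0 U0 4 tr0 314 = 0 := Nat.eq_of_beq_eq_true (by decide +kernel)

set_option maxRecDepth 100000 in
theorem chk_gens0 : gensD S0 U0 S1 cert0 0 4 315 2 = 0 :=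
  Nat.eq_of_beq_eq_true (by decide +kernel)

set_option maxRecDepth 100000 in
theorem chk_pos0 : posD U0 pos0 0 315 = 0 := Nat.eq_of_beq_eq_true (by decide +kernel)

/-! level 1: base point 74 -/

set_option maxRecDepth 100000 in
theorem chk_tree1 : treeD S1 U1 2 tr1 159 = 0 := Nat.eq_of_beq_eq_true (by decide +kernel)

set_option maxRecDepth 100000 in
theorem chk_gens1 : gensD S1 U1 S2 cert1 888 2 160 2 = 0 :=
  Nat.eq_of_beq_eq_true (by decide +kernel)

set_option maxRecDepth 100000 in
theorem chk_pos1 : posD U1 pos1 888 160 = 0 := Nat.eq_of_beq_eq_true (by decide +kernel)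

set_option maxRecDepth 100000 in
theorem chk_clos1 : closD S1 U1 U2 Tid pos1 c1a c1b 888 2 160 12 1 = 0 :=
  Nat.eq_of_beq_eq_true (by decide +kernel)

/-! level 2: base point 1 -/

set_option maxRecDepth 100000 in
theorem chk_tree2 : treeD S2 U2 2 tr2 11 = 0 := Nat.eq_of_beq_eq_true (by decide +kernel)

theorem chk_gens2 : gensD S2 U2 S3 0 12 2 12 0 = 0 := rfl

set_option maxRecDepth 100000 in
theorem chk_pos2 : posD U2 pos2 12 12 = 0 := Nat.eq_of_beq_eq_true (by decide +kernel)

set_option maxRecDepth 100000 in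
theorem chk_clos2 : closD S2 U2 Tid Tid pos2 c2a c2b 12 2 12 1 1 = 0 :=
  Nat.eq_of_beq_eq_true (by decide +kernel)

end Cfsg.Agent.Lib.Helper7.J2Perm
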