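import Mathlib

import Cfsg.Agent.Lib.Helper7.Thompson

set_option autoImplicit false
open Cfsg Cfsg.Agent.Lib.Helper7
open scoped commutatorElement

namespace Cfsg.Agent.Lib.Helper7.JComp

variable {G : Type*} [Group G]

/-- `⁅K, J⁆` is normalized by `J`. -/
theorem le_normalizer_commutator_right (K J : Subgroup G) :
    J ≤ Subgroup.normalizer ((⁅K, J⁆ : Subgroup G) : Set G) := by
  have key : ∀ j ∈ J, ∀ x ∈ ⁅K, J⁆, j * x * j⁻¹ ∈ ⁅K, J⁆ := by
    intro j hj x hx
    rw [Subgroup.commutator_def] at hx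
    induction hx using Subgroup.closure_induction with
    | one => simp
    | mem x hx =>
      obtain ⟨k, hk, j', hj', rfl⟩ := hx
      have e : j * ⁅k, j'⁆ * j⁻¹ = ⁅k, j⁆⁻¹ * ⁅k, j * j'⁆ := by
        simp only [commutatorElement_def]; group
      rw [e]
      exact Subgroup.mul_mem _ (Subgroup.inv_mem _ (Subgroup.commutator_mem_commutator hk hj))
        (Subgroup.commutator_mem_commutator hk (J.mul_mem hj hj'))
    | mul a b _ _ ha hb =>
      have e : j * (a * b) * j⁻¹ = (j * a * j⁻¹) * (j * b * j⁻¹) := by group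
      rw [e]; exact Subgroup.mul_mem _ ha hb
    | inv a _ ha =>
      have e : j * a⁻¹ * j⁻¹ = (j * a * j⁻¹)⁻¹ := by group
      rw [e]; exact Subgroup.inv_mem _ ha
  intro j hj
  rw [Subgroup.mem_normalizer_iff]
  intro x
  refine ⟨fun hx => key j hj x hx, fun hx => ?_⟩
  have := key j⁻¹ (J.inv_mem hj) _ hx
  simpa [mul_assoc] using this

/-- an odd-order element of `K ⊔ J` (`J` a 2-group normalizing `K`) lies in `K`. -/
theorem mem_of_odd_order [Finite G] (K J : Subgroup G) (hJ : IsPGroup 2 ↥J)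
    (hJK : J ≤ Subgroup.normalizer (K : Set G)) {y : G} (hy : y ∈ K ⊔ J) (hodd : Odd (orderOf y)) :
    y ∈ K := by
  have hset : y ∈ ((K ⊔ J : Subgroup G) : Set G) := hy
  rw [Subgroup.coe_mul_of_right_le_normalizer_left K J hJK] at hset
  obtain ⟨k, hk, j, hj, rfl⟩ := hset
  have hk : k ∈ K := hk
  have hj : j ∈ J := hj
  have hpow : ∀ n : ℕ, ∃ k' ∈ K, (k * j) ^ n = k' * j ^ n := by
    intro n
    induction n with
    | zero => exact ⟨1, K.one_mem, by simp⟩
    | succ n ih =>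
      obtain ⟨k', hk', e⟩ := ih
      refine ⟨k' * (j ^ n * k * (j ^ n)⁻¹), K.mul_mem hk' ?_, ?_⟩
      · exact (Subgroup.mem_normalizer_iff.mp (hJK (J.pow_mem hj n)) k).mp hk
      · rw [pow_succ, e, pow_succ]; group
  obtain ⟨k', hk', e⟩ := hpow (orderOf (k * j))
  rw [pow_orderOf_eq_one] at e
  have hjn : j ^ orderOf (k * j) ∈ K := by
    have : j ^ orderOf (k * j) = k'⁻¹ := by
      rw [eq_inv_iff_mul_eq_one]
      have h2 : k' * j ^ orderOf (k * j) = 1 := e.symm
      have h3 : k'⁻¹ * (k' * j ^ orderOf (k * j)) * k' = 1 := by rw [h2]; group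
      rw [← h3]; group
    rw [this]; exact K.inv_mem hk'
  have hcop : (orderOf (k * j)).Coprime (orderOf j) := by
    obtain ⟨m, hm⟩ := hJ ⟨j, hj⟩
    have hdvd : orderOf j ∣ 2 ^ m := by
      apply orderOf_dvd_of_pow_eq_one
      have := congrArg Subtype.val hm
      simpa using this
    obtain ⟨i, _, hi⟩ := (Nat.dvd_prime_pow Nat.prime_two).mp hdvd
    rw [hi]
    exact Nat.Coprime.pow_right _ (Nat.coprime_two_right.mpr hodd)
  obtain ⟨m, hm⟩ := exists_pow_eq_self_of_coprime hcop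
  have hjK : j ∈ K := by rw [← hm]; exact K.pow_mem hjn m
  exact K.mul_mem hk hjK

/-- pure group theory: `K = ⁅K,J⁆`, `K` generated by odd-order elements, `J` a 2-group,
`Q` normalized by `K ⊔ J` and normalizing `J` ⟹ `Q` normalizes `K`. -/
theorem normalizes_of_comm [Finite G] (K J Q : Subgroup G)
    (hgen : Subgroup.closure {g : G | g ∈ K ∧ Odd (orderOf g)} = K)
    (hKJ : ⁅K, J⁆ = K) (hJ : IsPGroup 2 ↥J)
    (hQ1 : K ⊔ J ≤ Subgroup.normalizer (Q : Set G))
    (hQ2 : Q ≤ Subgroup.normalizer (J : Set G)) :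
    Q ≤ Subgroup.normalizer (K : Set G) := by
  classical
  set Y := K ⊔ J with hY
  have hKY : K ≤ Y := le_sup_left
  have hJY : J ≤ Y := le_sup_right
  -- N = elements of Y all of whose Q-conjugates lie in Y
  let N : Subgroup G :=
    { carrier := {g | g ∈ Y ∧ ∀ q ∈ Q, q * g * q⁻¹ ∈ Y}
      one_mem' := ⟨Y.one_mem, fun q _ => by simp⟩
      mul_mem' := by
        rintro a b ⟨ha, ha'⟩ ⟨hb, hb'⟩
        refine ⟨Y.mul_mem ha hb, fun q hq => ?_⟩
        have : q * (a * b) * q⁻¹ = (q * a * q⁻¹) * (q * b * q⁻¹) := by group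
        rw [this]; exact Y.mul_mem (ha' q hq) (hb' q hq)
      inv_mem' := by
        rintro a ⟨ha, ha'⟩
        refine ⟨Y.inv_mem ha, fun q hq => ?_⟩
        have : q * a⁻¹ * q⁻¹ = (q * a * q⁻¹)⁻¹ := by group
        rw [this]; exact Y.inv_mem (ha' q hq) }
  have hJN : J ≤ N := by
    intro j hj
    refine ⟨hJY hj, fun q hq => hJY ?_⟩
    exact (Subgroup.mem_normalizer_iff.mp (hQ2 hq) j).mp hj
  -- N is normalized by Y
  have hNnorm : ∀ y ∈ Y, ∀ g ∈ N, y * g * y⁻¹ ∈ N := by
    intro y hy g hg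
    refine ⟨Y.mul_mem (Y.mul_mem hy hg.1) (Y.inv_mem hy), fun q hq => ?_⟩
    have hq' : y⁻¹ * q * y ∈ Q := by
      have := (Subgroup.mem_normalizer_iff.mp (hQ1 (Y.inv_mem hy)) q).mp hq
      simpa using this
    have : q * (y * g * y⁻¹) * q⁻¹ = y * ((y⁻¹ * q * y) * g * (y⁻¹ * q * y)⁻¹) * y⁻¹ := by group
    rw [this]
    exact Y.mul_mem (Y.mul_mem hy (hg.2 _ hq')) (Y.inv_mem hy)
  have hKN : K ≤ N := by
    rw [← hKJ, Subgroup.commutator_le]
    intro k hk j hj
    have h1 : k * j * k⁻¹ ∈ N := hNnorm k (hKY hk) j (hJN hj)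
    rw [commutatorElement_def]
    exact N.mul_mem h1 (N.inv_mem (hJN hj))
  have hYN : Y ≤ N := sup_le hKN hJN
  -- so Q conjugates Y into Y
  have hQY : ∀ q ∈ Q, ∀ y ∈ Y, q * y * q⁻¹ ∈ Y := fun q hq y hy => (hYN hy).2 q hq
  -- K is normalized by J
  have hJK : J ≤ Subgroup.normalizer (K : Set G) := by
    have := le_normalizer_commutator_right K J
    rwa [hKJ] at this
  have key : ∀ q ∈ Q, ∀ x ∈ K, q * x * q⁻¹ ∈ K := by
    intro q hq x hx
    rw [← hgen] at hx
    induction hx using Subgroup.closure_induction with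
    | one => simp
    | mem x hx =>
      obtain ⟨hxK, hodd⟩ := hx
      apply mem_of_odd_order K J hJ hJK (hQY q hq x (hKY hxK))
      have : orderOf (q * x * q⁻¹) = orderOf x := by
        have := orderOf_injective (MulAut.conj q).toMonoidHom (MulAut.conj q).injective x
        simpa [MulAut.conj_apply] using this
      rw [this]; exact hodd
    | mul a b _ _ ha hb =>
      have e : q * (a * b) * q⁻¹ = (q * a * q⁻¹) * (q * b * q⁻¹) := by group
      rw [e]; exact Subgroup.mul_mem _ ha hb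
    | inv a _ ha =>
      have e : q * a⁻¹ * q⁻¹ = (q * a * q⁻¹)⁻¹ := by group
      rw [e]; exact Subgroup.inv_mem _ ha
  intro q hq
  rw [Subgroup.mem_normalizer_iff]
  intro x
  refine ⟨fun hx => key q hq x hx, fun hx => ?_⟩
  have := key q⁻¹ (Q.inv_mem hq) _ hx
  simpa [mul_assoc] using this

end Cfsg.Agent.Lib.Helper7.JComp
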