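import Mathlib
import Cfsg.Agent.Lib.Helper7.ThA8
import Cfsg.Agent.Lib.Helper7.ThA9
import Cfsg.Agent.Lib.Helper4.Offender

set_option autoImplicit false
set_option linter.style.haveILetI false
set_option linter.unusedVariables false
set_option linter.unusedSectionVars false

namespace Cfsg.Agent.Lib.Helper7.Jc

open Cfsg.Agent.Lib.Helper7.ThA

universe u

/-- an element with `z * z = 1` in a subgroup of odd order is trivial -/
theorem eq_one_of_sq_of_odd {X : Type*} [Group X] [Finite X] (Z : Subgroup X)
    (hodd : ¬ 2 ∣ Nat.card Z) {z : X} (hz : z ∈ Z) (h2 : z * z = 1) : z = 1 := by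
  have hcop : Nat.Coprime 2 (Nat.card Z) := (Nat.Prime.coprime_iff_not_dvd Nat.prime_two).mpr hodd
  have h1 : z ^ Nat.card Z = 1 := by
    have := pow_card_eq_one' (G := Z) (x := ⟨z, hz⟩)
    exact congrArg Subtype.val this
  have := mem_of_pow_mem_of_coprime (⊥ : Subgroup X) (x := z) hcop
    (by rw [pow_two, h2]; exact Subgroup.one_mem _) (by rw [h1]; exact Subgroup.one_mem _)
  exact Subgroup.mem_bot.mp this

/-- cardinality of the image of a subgroup containing the kernel, under the quotient map -/
theorem card_map_mk_mul {X : Type*} [Group X] [Finite X] (Z M : Subgroup X) [Z.Normal] (hZM : Z ≤ M) :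
    Nat.card ↥(M.map (QuotientGroup.mk' Z)) * Nat.card Z = Nat.card M := by
  have h1 : (M.map (QuotientGroup.mk' Z)).index = M.index :=
    Subgroup.index_map_eq M (QuotientGroup.mk'_surjective Z) (by rw [QuotientGroup.ker_mk']; exact hZM)
  have h2 := Subgroup.card_mul_index (M.map (QuotientGroup.mk' Z))
  have h3 := Subgroup.card_mul_index M
  have h4 : Nat.card X = Nat.card (X ⧸ Z) * Nat.card Z := Subgroup.card_eq_card_quotient_mul_card_subgroup Z
  rw [h1] at h2
  have hpos : 0 < M.index := Nat.pos_of_ne_zero Subgroup.index_ne_zero_of_finite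
  apply Nat.eq_of_mul_eq_mul_right hpos
  rw [h3, h4, ← h2]; ring

theorem eigen_nilpotent_aux : ∀ n : ℕ, ∀ (X : Type u) [Group X] [Finite X] (M A : Subgroup X) [M.Normal],
    Nat.card M = n → Group.IsNilpotent ↥M → ¬ 2 ∣ Nat.card M →
    (∀ a ∈ A, ∀ b ∈ A, a * b = b * a) → (∀ a ∈ A, a * a = 1) →
    ¬ A ≤ Subgroup.centralizer (M : Set X) →
    ∃ x ∈ M, ∃ q : ℕ, q.Prime ∧ q ≠ 2 ∧ x ^ q = 1 ∧ x ≠ 1 ∧ (∃ a ∈ A, a * x * a⁻¹ = x⁻¹) ∧
      ∀ b ∈ A, b * x * b⁻¹ = x ∨ b * x * b⁻¹ = x⁻¹ := by
  intro n
  induction n using Nat.strong_induction_on with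
  | _ n ih =>
    intro X _ _ M A hMn hcard hnil hodd hAab hA2 hnc
    obtain ⟨Z, hZdef⟩ : ∃ Z : Subgroup X, Z = M ⊓ Subgroup.centralizer (M : Set X) := ⟨_, rfl⟩
    have hZM : Z ≤ M := by rw [hZdef]; exact inf_le_left
    have hZC : Z ≤ Subgroup.centralizer (M : Set X) := by rw [hZdef]; exact inf_le_right
    haveI hZn : Z.Normal := by
      rw [hZdef]; infer_instance
    have hcomm : ∀ z ∈ Z, ∀ m ∈ M, m * z = z * m := fun z hz m hm =>
      Subgroup.mem_centralizer_iff.mp (hZC hz) m hm
    have hZab : ∀ x ∈ Z, ∀ y ∈ Z, x * y = y * x := fun x hx y hy => hcomm y hy x (hZM hx)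
    have hZodd : ¬ 2 ∣ Nat.card Z := fun h => hodd (h.trans (Subgroup.card_dvd_of_le hZM))
    by_cases hcZ : A ≤ Subgroup.centralizer (Z : Set X)
    · -- the quotient by the centre
      have hMne : M ≠ ⊥ := by
        rintro rfl
        apply hnc
        intro a _
        rw [Subgroup.mem_centralizer_iff]
        intro m hm
        rw [SetLike.mem_coe, Subgroup.mem_bot] at hm
        rw [hm, one_mul, mul_one]
      have hZne : Z ≠ ⊥ := by
        haveI : Nontrivial ↥M := (Subgroup.nontrivial_iff_ne_bot M).mpr hMne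
        haveI := hnil
        have h1 := Group.IsNilpotent.center_ne_bot (G := ↥M)
        obtain ⟨⟨z, hz⟩, hz1⟩ := (Subgroup.ne_bot_iff_exists_ne_one).mp h1
        intro hbot
        apply hz1
        have hzZ : (z : X) ∈ Z := by
          rw [hZdef, Subgroup.mem_inf, Subgroup.mem_centralizer_iff]
          refine ⟨z.2, fun m hm => ?_⟩
          have := Subgroup.mem_center_iff.mp hz ⟨m, hm⟩
          exact congrArg Subtype.val this
        rw [hbot, Subgroup.mem_bot] at hzZ
        exact Subtype.ext (Subtype.ext hzZ)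
      have hZcard : 2 ≤ Nat.card Z := by
        have h1 : Nat.card Z ≠ 1 := fun h => hZne (Subgroup.card_eq_one.mp h)
        have h2 : 0 < Nat.card Z := Nat.card_pos
        omega
      obtain ⟨π, hπdef⟩ : ∃ π : X →* X ⧸ Z, π = QuotientGroup.mk' Z := ⟨_, rfl⟩
      have hπs : Function.Surjective π := by rw [hπdef]; exact QuotientGroup.mk'_surjective Z
      have hπ1 : ∀ x, π x = 1 ↔ x ∈ Z := by
        intro x; rw [hπdef, QuotientGroup.mk'_apply, QuotientGroup.eq_one_iff]
      have hcardM' : Nat.card ↥(M.map π) * Nat.card Z = Nat.card M := by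
        rw [hπdef]; exact card_map_mk_mul Z M hZM
      haveI hM'n : (M.map π).Normal := Subgroup.Normal.map hMn π hπs
      have hlt : Nat.card ↥(M.map π) < n := by
        rw [← hcard, ← hcardM']
        have : 0 < Nat.card ↥(M.map π) := Nat.card_pos
        nlinarith
      have hodd' : ¬ 2 ∣ Nat.card ↥(M.map π) := fun h => hodd (by
        rw [← hcardM']; exact Dvd.dvd.mul_right h _)
      have hnil' : Group.IsNilpotent ↥(M.map π) := by
        haveI := hnil
        exact Group.nilpotent_of_surjective (π.subgroupMap M) (π.subgroupMap_surjective M)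
      have hA'ab : ∀ a ∈ A.map π, ∀ b ∈ A.map π, a * b = b * a := by
        rintro _ ⟨a, ha, rfl⟩ _ ⟨b, hb, rfl⟩
        rw [← map_mul, ← map_mul, hAab a ha b hb]
      have hA'2 : ∀ a ∈ A.map π, a * a = 1 := by
        rintro _ ⟨a, ha, rfl⟩
        rw [← map_mul, hA2 a ha, map_one]
      have hnc' : ¬ A.map π ≤ Subgroup.centralizer ((M.map π : Subgroup (X ⧸ Z)) : Set (X ⧸ Z)) := by
        intro hle
        apply hnc
        intro a ha
        rw [Subgroup.mem_centralizer_iff]
        intro m hm
        have h1 := Subgroup.mem_centralizer_iff.mp (hle (Subgroup.mem_map_of_mem π ha)) (π m)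
          (Subgroup.mem_map_of_mem π hm)
        obtain ⟨z, hzdef⟩ : ∃ z : X, z = a * m * a⁻¹ * m⁻¹ := ⟨_, rfl⟩
        have hz : z ∈ Z := by
          rw [← hπ1, hzdef, map_mul, map_mul, map_mul, map_inv, map_inv, ← h1]
          group
        have haz : z * a = a * z := Subgroup.mem_centralizer_iff.mp (hcZ ha) z hz
        have hmz : m * z = z * m := hcomm z hz m hm
        have hzz : z * z = 1 := by
          have e1 : a * m * a⁻¹ = z * m := by rw [hzdef]; group
          have e2 : a * (a * m * a⁻¹) * a⁻¹ = m := by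
            have : a * (a * m * a⁻¹) * a⁻¹ = (a * a) * m * (a * a)⁻¹ := by group
            rw [this, hA2 a ha]; group
          rw [e1] at e2
          have e3 : a * (z * m) * a⁻¹ = z * (a * m * a⁻¹) := by
            calc a * (z * m) * a⁻¹ = (a * z) * m * a⁻¹ := by group
              _ = (z * a) * m * a⁻¹ := by rw [haz]
              _ = z * (a * m * a⁻¹) := by group
          rw [e3, e1] at e2
          calc z * z = (z * (z * m)) * m⁻¹ := by group
            _ = m * m⁻¹ := by rw [e2]
            _ = 1 := mul_inv_cancel m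
        have hz1 : z = 1 := eq_one_of_sq_of_odd Z hZodd hz hzz
        rw [hz1] at hzdef
        have : a * m * a⁻¹ * m⁻¹ = 1 := hzdef.symm
        calc m * a = (a * m * a⁻¹ * m⁻¹)⁻¹ * (a * m) := by group
          _ = a * m := by rw [this]; group
      obtain ⟨ξ, hξM, q, hq, hq2, hξq, hξ1, ⟨α, hαA, hαξ⟩, hall⟩ :=
        ih _ hlt (X ⧸ Z) (M.map π) (A.map π) rfl hnil' hodd' hA'ab hA'2 hnc'
      obtain ⟨y, hyM, rfl⟩ := hξM
      obtain ⟨a₀, ha₀, rfl⟩ := hαA
      obtain ⟨D, hDdef⟩ : ∃ D : Subgroup X, D = Z ⊔ Subgroup.zpowers y := ⟨_, rfl⟩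
      have hZD : Z ≤ D := by rw [hDdef]; exact le_sup_left
      have hyD : y ∈ D := by rw [hDdef]; exact le_sup_right (α := Subgroup X) (Subgroup.mem_zpowers y)
      have hDM : D ≤ M := by
        rw [hDdef]; exact sup_le hZM (Subgroup.zpowers_le.mpr hyM)
      have hDcent : D ≤ Subgroup.centralizer (D : Set X) := by
        rw [hDdef, Cfsg.Agent.Lib.Helper4.Offender.centralizer_sup']
        apply sup_le
        · apply le_inf
          · intro z hz
            rw [Subgroup.mem_centralizer_iff]
            intro w hw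
            exact hZab w hw z hz
          · intro z hz
            rw [Subgroup.mem_centralizer_iff]
            intro w hw
            exact hcomm z hz w (Subgroup.zpowers_le.mpr hyM hw)
        · rw [Subgroup.zpowers_le]
          rw [Subgroup.mem_inf]
          constructor
          · rw [Subgroup.mem_centralizer_iff]
            intro z hz
            exact (hcomm z hz y hyM).symm
          · rw [Subgroup.mem_centralizer_iff]
            intro w hw
            obtain ⟨k, rfl⟩ := Subgroup.mem_zpowers_iff.mp hw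
            exact (Commute.zpow_self y k)
      have hDab : ∀ x ∈ D, ∀ w ∈ D, x * w = w * x := fun x hx w hw =>
        Subgroup.mem_centralizer_iff.mp (hDcent hw) x hx
      have hDodd : ¬ 2 ∣ Nat.card D := fun h => hodd (h.trans (Subgroup.card_dvd_of_le hDM))
      have hAD : ∀ b ∈ A, ∀ x ∈ D, b * x * b⁻¹ ∈ D := by
        intro b hb
        have hle : D ≤ D.comap (MulAut.conj b).toMonoidHom := by
          rw [hDdef]
          apply sup_le
          · intro z hz
            rw [Subgroup.mem_comap]
            simp only [MulEquiv.coe_toMonoidHom, MulAut.conj_apply]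
            rw [← hDdef]
            exact hZD (hZn.conj_mem z hz b)
          · rw [Subgroup.zpowers_le, Subgroup.mem_comap]
            simp only [MulEquiv.coe_toMonoidHom, MulAut.conj_apply]
            rw [← hDdef]
            rcases hall (π b) (Subgroup.mem_map_of_mem π hb) with h | h
            · have hz : (b * y * b⁻¹) * y⁻¹ ∈ Z := by
                rw [← hπ1, map_mul, map_mul, map_mul, map_inv, map_inv, h, mul_inv_cancel]
              have : b * y * b⁻¹ = ((b * y * b⁻¹) * y⁻¹) * y := by group
              rw [this]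
              exact D.mul_mem (hZD hz) hyD
            · have hz : (b * y * b⁻¹) * y ∈ Z := by
                rw [← hπ1, map_mul, map_mul, map_mul, map_inv, h, inv_mul_cancel]
              have : b * y * b⁻¹ = ((b * y * b⁻¹) * y) * y⁻¹ := by group
              rw [this]
              exact D.mul_mem (hZD hz) (D.inv_mem hyD)
        intro x hx
        have := hle hx
        rw [Subgroup.mem_comap] at this
        simpa only [MulEquiv.coe_toMonoidHom, MulAut.conj_apply] using this
      have hncD : ¬ A ≤ Subgroup.centralizer (D : Set X) := by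
        intro hle
        have h1 : y * a₀ = a₀ * y := Subgroup.mem_centralizer_iff.mp (hle ha₀) y hyD
        have h2 : π a₀ * π y * (π a₀)⁻¹ = π y := by
          rw [← map_mul, ← h1, map_mul]; group
        rw [h2] at hαξ
        have h3 : π y * π y = 1 := by
          nth_rewrite 1 [hαξ]; exact inv_mul_cancel _
        apply hξ1
        have hqodd : ¬ 2 ∣ q := by
          intro h
          exact hq2 ((Nat.prime_dvd_prime_iff_eq Nat.prime_two hq).mp h).symm
        have hcop2 : Nat.Coprime 2 q := (Nat.Prime.coprime_iff_not_dvd Nat.prime_two).mpr hqodd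
        have := mem_of_pow_mem_of_coprime (⊥ : Subgroup (X ⧸ Z)) (x := π y) hcop2
          (by rw [pow_two, h3]; exact Subgroup.one_mem _) (by rw [hξq]; exact Subgroup.one_mem _)
        exact Subgroup.mem_bot.mp this
      obtain ⟨x, hx, q', hq', hq2', hxq, hx1, ha, hall'⟩ :=
        exists_inverted_eigen D A hDab hDodd hAab hA2 hAD hncD
      exact ⟨x, hDM hx, q', hq', hq2', hxq, hx1, ha, hall'⟩
    · obtain ⟨x, hx, q, hq, hq2, hxq, hx1, ha, hall⟩ := exists_inverted_eigen Z A hZab hZodd hAab hA2
        (fun b _ x hx => hZn.conj_mem x hx b) hcZ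
      exact ⟨x, hZM hx, q, hq, hq2, hxq, hx1, ha, hall⟩

/-- an elementary abelian `2`-subgroup acting non-trivially on a normal nilpotent subgroup of odd
order inverts an element of odd prime order that all its elements centralise or invert -/
theorem eigen_nilpotent {X : Type u} [Group X] [Finite X] (M A : Subgroup X) [M.Normal]
    (hnil : Group.IsNilpotent ↥M) (hodd : ¬ 2 ∣ Nat.card M)
    (hAab : ∀ a ∈ A, ∀ b ∈ A, a * b = b * a) (hA2 : ∀ a ∈ A, a * a = 1)
    (hnc : ¬ A ≤ Subgroup.centralizer (M : Set X)) :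
    ∃ x ∈ M, ∃ q : ℕ, q.Prime ∧ q ≠ 2 ∧ x ^ q = 1 ∧ x ≠ 1 ∧ (∃ a ∈ A, a * x * a⁻¹ = x⁻¹) ∧
      ∀ b ∈ A, b * x * b⁻¹ = x ∨ b * x * b⁻¹ = x⁻¹ :=
  eigen_nilpotent_aux _ X M A rfl hnil hodd hAab hA2 hnc

end Cfsg.Agent.Lib.Helper7.Jc
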