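import Mathlib
import Cfsg.Agent.Lib.Helper7.JcA
import Cfsg.Agent.Lib.Helper7.Core
import Cfsg.Agent.Lib.Helper7.Thompson
import Cfsg.Agent.H1.Thompson
import Cfsg.Agent.H1.Cores

set_option autoImplicit false
set_option linter.style.haveILetI false
set_option linter.unusedVariables false
set_option linter.unusedSectionVars false

open scoped commutatorElement

namespace Cfsg.Agent.Lib.Helper7.Jc

open Cfsg Cfsg.Agent.Lib.Helper7 Cfsg.Agent.Lib.Helper4.Offender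
open Cfsg.Agent.Lib.Helper7.ThA

universe u

section defs
variable {G : Type u} [Group G]

/-- `Ω₁(Z(Q))` for a `2`-group: the central elements of `Q` with `x * x = 1` -/
def omZ (Q : Subgroup G) : Subgroup G where
  carrier := {x | x ∈ Q ∧ (∀ q ∈ Q, q * x = x * q) ∧ x * x = 1}
  one_mem' := ⟨Q.one_mem, fun q _ => by rw [mul_one, one_mul], mul_one 1⟩
  mul_mem' := by
    rintro x y ⟨hx, hxc, hx2⟩ ⟨hy, hyc, hy2⟩
    refine ⟨Q.mul_mem hx hy, fun q hq => ?_, ?_⟩
    · calc q * (x * y) = (q * x) * y := by group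
        _ = (x * q) * y := by rw [hxc q hq]
        _ = x * (q * y) := by group
        _ = x * (y * q) := by rw [hyc q hq]
        _ = x * y * q := by group
    · calc x * y * (x * y) = x * (y * x) * y := by group
        _ = x * (x * y) * y := by rw [hxc y hy]
        _ = (x * x) * (y * y) := by group
        _ = 1 := by rw [hx2, hy2, mul_one]
  inv_mem' := by
    rintro x ⟨hx, hxc, hx2⟩
    have hinv : x⁻¹ = x := inv_eq_of_mul_eq_one_left hx2
    rw [Set.mem_ofPred_eq, hinv]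
    exact ⟨hx, hxc, hx2⟩

theorem mem_omZ (Q : Subgroup G) (x : G) :
    x ∈ omZ Q ↔ x ∈ Q ∧ (∀ q ∈ Q, q * x = x * q) ∧ x * x = 1 := Iff.rfl

theorem omZ_le (Q : Subgroup G) : omZ Q ≤ Q := fun _ hx => hx.1

instance omZ_normal (Q : Subgroup G) [hQ : Q.Normal] : (omZ Q).Normal := by
  constructor
  intro x hx g
  obtain ⟨hxQ, hxc, hx2⟩ := hx
  refine ⟨hQ.conj_mem x hxQ g, fun q hq => ?_, ?_⟩
  · have h1 : g⁻¹ * q * g ∈ Q := by
      have := hQ.conj_mem q hq g⁻¹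
      rwa [inv_inv] at this
    have h2 := hxc _ h1
    calc q * (g * x * g⁻¹) = g * ((g⁻¹ * q * g) * x) * g⁻¹ := by group
      _ = g * (x * (g⁻¹ * q * g)) * g⁻¹ := by rw [h2]
      _ = g * x * g⁻¹ * q := by group
  · calc g * x * g⁻¹ * (g * x * g⁻¹) = g * (x * x) * g⁻¹ := by group
      _ = 1 := by rw [hx2]; group

/-- the kernel of the action on `Q / V` -/
def stab (Q V : Subgroup G) [hV : V.Normal] : Subgroup G where
  carrier := {g | ∀ q ∈ Q, g * q * g⁻¹ * q⁻¹ ∈ V}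
  one_mem' := fun q _ => by
    have : (1 : G) * q * 1⁻¹ * q⁻¹ = 1 := by group
    rw [this]; exact V.one_mem
  mul_mem' := by
    intro g h hg hh q hq
    have h1 := hh q hq
    have h2 := hg q hq
    have : g * h * q * (g * h)⁻¹ * q⁻¹ = (g * (h * q * h⁻¹ * q⁻¹) * g⁻¹) * (g * q * g⁻¹ * q⁻¹) := by group
    rw [this]
    exact V.mul_mem (hV.conj_mem _ h1 g) h2
  inv_mem' := by
    intro g hg q hq
    have h1 := hg q hq
    have : g⁻¹ * q * g⁻¹⁻¹ * q⁻¹ = g⁻¹ * (g * q * g⁻¹ * q⁻¹)⁻¹ * g⁻¹⁻¹ := by group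
    rw [this]
    exact hV.conj_mem _ (V.inv_mem h1) g⁻¹

theorem mem_stab (Q V : Subgroup G) [V.Normal] (g : G) :
    g ∈ stab Q V ↔ ∀ q ∈ Q, g * q * g⁻¹ * q⁻¹ ∈ V := Iff.rfl

instance stab_normal (Q V : Subgroup G) [hQ : Q.Normal] [hV : V.Normal] : (stab Q V).Normal := by
  constructor
  intro n hn g q hq
  have h1 : g⁻¹ * q * g ∈ Q := by
    have := hQ.conj_mem q hq g⁻¹
    rwa [inv_inv] at this
  have h2 := hn _ h1
  have : g * n * g⁻¹ * q * (g * n * g⁻¹)⁻¹ * q⁻¹ =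
      g * (n * (g⁻¹ * q * g) * n⁻¹ * (g⁻¹ * q * g)⁻¹) * g⁻¹ := by group
  rw [this]
  exact hV.conj_mem _ h2 g

/-- the elements stabilising `Q ≥ V ≥ 1` form a `2`-group when `C_G(Q) ≤ Q` -/
theorem stab_inf_centralizer_isPGroup [Finite G] (Q : Subgroup G) [hQ : Q.Normal] (hQ2 : IsPGroup 2 ↥Q)
    (hCQ : Subgroup.centralizer (Q : Set G) ≤ Q) :
    IsPGroup 2 ↥(stab Q (omZ Q) ⊓ Subgroup.centralizer ((omZ Q : Subgroup G) : Set G)) := by
  haveI : Fact (Nat.Prime 2) := ⟨Nat.prime_two⟩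
  apply isPGroup_of_coprime_trivial
  intro x hx hcop
  obtain ⟨hxN, hxC⟩ := Subgroup.mem_inf.mp hx
  have hxQc : x ∈ Subgroup.centralizer (Q : Set G) := by
    rw [Subgroup.mem_centralizer_iff]
    intro q hq
    have hV : ⁅q, x⁆ ∈ omZ Q := by
      have h1 := hxN q⁻¹ (Q.inv_mem hq)
      have : ⁅q, x⁆ = q * (x * q⁻¹ * x⁻¹ * q⁻¹⁻¹) * q⁻¹ := by
        rw [commutatorElement_def]; group
      rw [this]
      exact (omZ_normal Q).conj_mem _ h1 q
    have hcx : x * ⁅q, x⁆ = ⁅q, x⁆ * x := (Subgroup.mem_centralizer_iff.mp hxC _ hV).symm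
    have h2 : ⁅q, x⁆ ^ (2 ^ 1) = 1 := by
      rw [pow_one, pow_two]; exact hV.2.2
    exact commute_of_coprime_of_commute_commutator q x hcop hcx 1 h2
  obtain ⟨k, hk⟩ := pow_eq_one_of_mem_isPGroup hQ2 (hCQ hxQc)
  exact eq_one_of_coprime_of_pow_eq_one x hcop k hk

end defs

section best
variable {G : Type u} [Group G] [Finite G]

/-- a largest elementary abelian subgroup is a best offender on every elementary abelian subgroup -/
theorem best_of_isMaxEA {S A V : Subgroup G} (hA : IsMaxEA 2 S A) (hVS : V ≤ S)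
    (hVe : IsElementaryAbelian 2 V) :
    ∀ B' : Subgroup G, B' ≤ A → ff V B' ≤ ff V A := by
  intro B' hB'
  obtain ⟨hAS, hAe, hmax⟩ := hA
  obtain ⟨C, hCdef⟩ : ∃ C : Subgroup G, C = V ⊓ Subgroup.centralizer (B' : Set G) := ⟨_, rfl⟩
  have hCV : C ≤ V := by rw [hCdef]; exact inf_le_left
  have hB'e : IsElementaryAbelian 2 B' := Cfsg.Agent.H1.isElementaryAbelian_of_le hAe hB'
  have hCe : IsElementaryAbelian 2 C := Cfsg.Agent.H1.isElementaryAbelian_of_le hVe hCV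
  have hWe : IsElementaryAbelian 2 (B' ⊔ C) :=
    Cfsg.Agent.H1.isElementaryAbelian_sup hB'e hCe (by rw [hCdef]; exact inf_le_right)
  have hWS : B' ⊔ C ≤ S := sup_le (hB'.trans hAS) (hCV.trans hVS)
  have h1 := hmax _ hWS hWe
  have h2 := card_mul_card_le B' C
  have hAab := ((isElementaryAbelian_iff A).mp hAe).1
  have h3 : B' ⊓ C ≤ V ⊓ Subgroup.centralizer (A : Set G) := by
    intro z hz
    obtain ⟨hz1, hz2⟩ := Subgroup.mem_inf.mp hz
    rw [Subgroup.mem_inf, Subgroup.mem_centralizer_iff]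
    exact ⟨hCV hz2, fun a ha => hAab a ha z (hB' hz1)⟩
  have h4 := Subgroup.card_le_of_le h3
  unfold ff
  rw [← hCdef]
  calc Nat.card B' * Nat.card C ≤ Nat.card ↥(B' ⊔ C) * Nat.card ↥(B' ⊓ C) := h2
    _ ≤ Nat.card A * Nat.card ↥(V ⊓ Subgroup.centralizer (A : Set G)) := Nat.mul_le_mul h1 h4

end best

end Cfsg.Agent.Lib.Helper7.Jc
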