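import Mathlib
import Cfsg.Agent.Lib.Helper7.JcA
import Cfsg.Agent.Lib.Helper7.JcC
import Cfsg.Agent.H1.Cores

set_option autoImplicit false
set_option linter.style.haveILetI false
set_option linter.unusedVariables false
set_option linter.unusedSectionVars false

open scoped commutatorElement

namespace Cfsg.Agent.Lib.Helper7.Jc

open Cfsg Cfsg.Agent.Lib.Helper7
open Cfsg.Agent.Lib.Helper7.ThA

universe u

section ex
variable {G : Type u} [Group G] [Finite G]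

/-- an elementary abelian `2`-subgroup outside the normal `2`-subgroup `Q` inverts, modulo `Q`, an
element of odd prime order which all its elements centralise or invert modulo `Q` -/
theorem exists_inverted_mod (Q A : Subgroup G) [hQn : Q.Normal] (hQ2 : IsPGroup 2 ↥Q)
    (hFodd : ¬ 2 ∣ Nat.card ↥(Cfsg.fittingSubgroup (G ⧸ Q)))
    (hFcent : Subgroup.centralizer ((Cfsg.fittingSubgroup (G ⧸ Q) : Subgroup (G ⧸ Q)) : Set (G ⧸ Q)) ≤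
      Cfsg.fittingSubgroup (G ⧸ Q))
    (hAab : ∀ a ∈ A, ∀ b ∈ A, a * b = b * a) (hA2 : ∀ a ∈ A, a * a = 1) (hAQ : ¬ A ≤ Q) :
    ∃ q : ℕ, q.Prime ∧ q ≠ 2 ∧ ∃ x a h₃ : G, x ^ q = 1 ∧ x ∉ Q ∧ a ∈ A ∧ h₃ ∈ Q ∧
      (a * h₃) * x * (a * h₃)⁻¹ = x⁻¹ ∧
      ∀ b ∈ A, (b : G ⧸ Q) * (x : G ⧸ Q) * (b : G ⧸ Q)⁻¹ = (x : G ⧸ Q) ∨
       (b : G ⧸ Q) * (x : G ⧸ Q) * (b : G ⧸ Q)⁻¹ = (x : G ⧸ Q)⁻¹ := by
  classical
  obtain ⟨π, hπdef⟩ : ∃ π : G →* G ⧸ Q, π = QuotientGroup.mk' Q := ⟨_, rfl⟩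
  have hπ1 : ∀ x, π x = 1 ↔ x ∈ Q := by
    intro x; rw [hπdef, QuotientGroup.mk'_apply, QuotientGroup.eq_one_iff]
  have hπmk : ∀ x : G, (x : G ⧸ Q) = π x := by intro x; rw [hπdef]; rfl
  obtain ⟨F, hFdef⟩ : ∃ F : Subgroup (G ⧸ Q), F = Cfsg.fittingSubgroup (G ⧸ Q) := ⟨_, rfl⟩
  rw [← hFdef] at hFodd hFcent
  haveI hFn : F.Normal := by rw [hFdef]; infer_instance
  have hFnil : Group.IsNilpotent ↥F := by rw [hFdef]; exact Cfsg.Agent.H1.fittingSubgroup_nilpotent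
  have hA'ab : ∀ a ∈ A.map π, ∀ b ∈ A.map π, a * b = b * a := by
    rintro _ ⟨a, ha, rfl⟩ _ ⟨b, hb, rfl⟩
    rw [← map_mul, ← map_mul, hAab a ha b hb]
  have hA'2 : ∀ a ∈ A.map π, a * a = 1 := by
    rintro _ ⟨a, ha, rfl⟩
    rw [← map_mul, hA2 a ha, map_one]
  have hnc : ¬ A.map π ≤ Subgroup.centralizer (F : Set (G ⧸ Q)) := by
    intro hle
    apply hAQ
    intro a ha
    rw [← hπ1]
    have h1 : π a ∈ F := hFcent (hle (Subgroup.mem_map_of_mem π ha))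
    exact eq_one_of_sq_of_odd F hFodd h1 (hA'2 _ (Subgroup.mem_map_of_mem π ha))
  obtain ⟨ξ, hξF, q, hq, hq2, hξq, hξ1, ⟨α, hαA, hαξ⟩, hall⟩ :=
    eigen_nilpotent F (A.map π) hFnil hFodd hA'ab hA'2 hnc
  have hqodd : ¬ 2 ∣ q := by
    intro h
    exact hq2 ((Nat.prime_dvd_prime_iff_eq Nat.prime_two hq).mp h).symm
  have hcop2 : Nat.Coprime 2 q := (Nat.Prime.coprime_iff_not_dvd Nat.prime_two).mpr hqodd
  obtain ⟨k, hk⟩ := (IsPGroup.iff_card (p := 2)).mp hQ2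
  have hcopk : Nat.Coprime (2 ^ k) q := Nat.Coprime.pow_left k hcop2
  obtain ⟨x₀, rfl⟩ := QuotientGroup.mk'_surjective Q ξ
  rw [← hπdef] at hξF hξq hξ1 hαξ hall
  obtain ⟨a, ha, rfl⟩ := hαA
  obtain ⟨x, hxdef⟩ : ∃ x : G, x = x₀ ^ (2 ^ k) := ⟨_, rfl⟩
  have hx₀q : x₀ ^ q ∈ Q := by rw [← hπ1, map_pow, hξq]
  have hxq : x ^ q = 1 := by
    rw [hxdef, ← pow_mul, mul_comm, pow_mul, ← hk]
    have := pow_card_eq_one' (G := Q) (x := ⟨x₀ ^ q, hx₀q⟩)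
    exact congrArg Subtype.val this
  have hπx : π x = π x₀ ^ (2 ^ k) := by rw [hxdef, map_pow]
  have hxQ : x ∉ Q := by
    rw [← hπ1, hπx]
    intro h
    apply hξ1
    have := mem_of_pow_mem_of_coprime (⊥ : Subgroup (G ⧸ Q)) (x := π x₀) hcopk
      (by rw [h]; exact Subgroup.one_mem _) (by rw [hξq]; exact Subgroup.one_mem _)
    exact Subgroup.mem_bot.mp this
  have hconj : ∀ β : G ⧸ Q, β * π x * β⁻¹ = (β * π x₀ * β⁻¹) ^ (2 ^ k) := by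
    intro β
    rw [hπx, conj_pow]
  have hax : a * x * a⁻¹ * x ∈ Q := by
    have e : π (a * x * a⁻¹ * x) = (π a * π x * (π a)⁻¹) * π x := by
      rw [map_mul, map_mul, map_mul, map_inv]
    rw [← hπ1, e, hconj, hαξ, hπx, inv_pow, inv_mul_cancel]
  obtain ⟨h₃, hh₃, hinv⟩ := exists_inverting Q hQ2 hq hq2 hxq hxQ hax
  refine ⟨q, hq, hq2, x, a, h₃, hxq, hxQ, ha, hh₃, hinv, ?_⟩
  intro b hb
  rw [hπmk, hπmk, hconj]
  rcases hall (π b) (Subgroup.mem_map_of_mem π hb) with h | h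
  · left; rw [h, hπx]
  · right; rw [h, hπx, inv_pow]

end ex

end Cfsg.Agent.Lib.Helper7.Jc
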