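import Mathlib
import Cfsg.Agent.Lib.Helper7.JcB
import Cfsg.Agent.Lib.Helper7.JcD

set_option autoImplicit false
set_option linter.style.haveILetI false
set_option linter.unusedVariables false
set_option linter.unusedSectionVars false

open scoped commutatorElement

namespace Cfsg.Agent.Lib.Helper7.Jc

open Cfsg Cfsg.Agent.Lib.Helper7 Cfsg.Agent.Lib.Helper4.Offender
open Cfsg.Agent.Lib.Helper7.ThA

universe u

section core
variable {G : Type u} [Group G] [Finite G]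

theorem core_general (hS4 : ¬ Cfsg.Involves (Equiv.Perm (Fin 4)) G) (S : Sylow 2 G)
    (hcl : ∀ a ∈ (S : Subgroup G), ∀ b ∈ (S : Subgroup G), ∀ c ∈ (S : Subgroup G),
      ⁅a, b⁆ * c = c * ⁅a, b⁆)
    (Q : Subgroup G) [hQn : Q.Normal] (hQ2 : IsPGroup 2 ↥Q)
    (hCQ : Subgroup.centralizer (Q : Set G) ≤ Q)
    (hQmax : ∀ K : Subgroup G, K.Normal → IsPGroup 2 ↥K → K ≤ Q)
    (hFodd : ¬ 2 ∣ Nat.card ↥(Cfsg.fittingSubgroup (G ⧸ Q)))
    (hFcent : Subgroup.centralizer ((Cfsg.fittingSubgroup (G ⧸ Q) : Subgroup (G ⧸ Q)) : Set (G ⧸ Q)) ≤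
      Cfsg.fittingSubgroup (G ⧸ Q))
    (A : Subgroup G) (hA : IsMaxEA 2 (S : Subgroup G) A) : A ≤ Q := by
  classical
  haveI : Fact (Nat.Prime 2) := ⟨Nat.prime_two⟩
  by_contra hAQ
  apply hS4
  have hQS : Q ≤ (S : Subgroup G) := hQ2.le_sylow_of_normal S
  have hbest := best_of_isMaxEA (V := omZ Q) hA ((omZ_le Q).trans hQS)
  obtain ⟨hAS, hAe, hAmax⟩ := hA
  obtain ⟨hAab, hApow⟩ := (isElementaryAbelian_iff A).mp hAe
  have hA2 : ∀ a ∈ A, a * a = 1 := fun a ha => by rw [← pow_two]; exact hApow a ha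
  obtain ⟨N, hNdef⟩ : ∃ N : Subgroup G, N = stab Q (omZ Q) := ⟨_, rfl⟩
  haveI hNn : N.Normal := by rw [hNdef]; infer_instance
  have hNmem : ∀ g, g ∈ N ↔ ∀ q ∈ Q, g * q * g⁻¹ * q⁻¹ ∈ omZ Q := by
    intro g; rw [hNdef]; exact mem_stab Q (omZ Q) g
  have hK2 : IsPGroup 2 ↥(N ⊓ Subgroup.centralizer ((omZ Q : Subgroup G) : Set G)) := by
    rw [hNdef]; exact stab_inf_centralizer_isPGroup Q hQ2 hCQ
  haveI hVn0 : (omZ Q).Normal := inferInstance
  obtain ⟨V, hVdef⟩ : ∃ V : Subgroup G, V = omZ Q := ⟨_, rfl⟩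
  rw [← hVdef] at hNmem hK2 hbest hVn0
  haveI hVn : V.Normal := hVn0
  have hVQ : V ≤ Q := by rw [hVdef]; exact omZ_le Q
  have hVmem : ∀ x, x ∈ V ↔ x ∈ Q ∧ (∀ q ∈ Q, q * x = x * q) ∧ x * x = 1 := by
    intro x; rw [hVdef]; exact mem_omZ Q x
  have hVc : ∀ s ∈ V, ∀ t ∈ V, s * t = t * s := fun s hs t ht =>
    (((hVmem t).mp ht).2.1 s (hVQ hs))
  have hV2 : ∀ e ∈ V, e ^ 2 = 1 := fun e he => by rw [pow_two]; exact ((hVmem e).mp he).2.2
  have hVe : IsElementaryAbelian 2 V := (isElementaryAbelian_iff V).mpr ⟨hVc, hV2⟩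
  have hQcentV : ∀ h ∈ Q, ∀ e ∈ V, h * e = e * h := fun h hh e he => ((hVmem e).mp he).2.1 h hh
  have hQleCV : Q ≤ Subgroup.centralizer (V : Set G) := by
    intro h hh
    rw [Subgroup.mem_centralizer_iff]
    intro e he
    exact (hQcentV h hh e he).symm
  haveI hKn : (N ⊓ Subgroup.centralizer (V : Set G)).Normal := inferInstance
  have hKQ : N ⊓ Subgroup.centralizer (V : Set G) ≤ Q := hQmax _ hKn hK2
  -- `A ≤ N`
  have hAN : A ≤ N := by
    intro a ha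
    rw [hNmem]
    intro q hq
    have haS : a ∈ (S : Subgroup G) := hAS ha
    have hqS : q ∈ (S : Subgroup G) := hQS hq
    have hc : ∀ c ∈ (S : Subgroup G), (a * q * a⁻¹ * q⁻¹) * c = c * (a * q * a⁻¹ * q⁻¹) := by
      intro c hc
      have := hcl a haS q hqS c hc
      rwa [commutatorElement_def] at this
    rw [hVmem]
    refine ⟨Q.mul_mem (hQn.conj_mem q hq a) (Q.inv_mem hq), fun r hr => (hc r (hQS hr)).symm, ?_⟩
    obtain ⟨c, hcdef⟩ : ∃ c : G, c = a * q * a⁻¹ * q⁻¹ := ⟨_, rfl⟩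
    rw [← hcdef] at hc ⊢
    have hca := hc a haS
    have e1 : a * q * a⁻¹ = c * q := by rw [hcdef]; group
    have e2 : a * (a * q * a⁻¹) * a⁻¹ = q := by
      have : a * (a * q * a⁻¹) * a⁻¹ = (a * a) * q * (a * a)⁻¹ := by group
      rw [this, hA2 a ha]; group
    rw [e1] at e2
    have e3 : a * (c * q) * a⁻¹ = c * (a * q * a⁻¹) := by
      calc a * (c * q) * a⁻¹ = (a * c) * q * a⁻¹ := by group
        _ = (c * a) * q * a⁻¹ := by rw [hca]
        _ = c * (a * q * a⁻¹) := by group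
    rw [e3, e1] at e2
    calc c * c = (c * (c * q)) * q⁻¹ := by group
      _ = q * q⁻¹ := by rw [e2]
      _ = 1 := mul_inv_cancel q
  -- quadratic action
  have hquad : ⁅⁅V, A⁆, A⁆ = ⊥ := by
    rw [Subgroup.commutator_eq_bot_iff_le_centralizer, Subgroup.commutator_le]
    intro v hv a ha
    rw [Subgroup.mem_centralizer_iff]
    intro b hb
    exact (hcl v (hQS (hVQ hv)) a (hAS ha) b (hAS hb)).symm
  obtain ⟨q, hq, hq2, x, a, h₃, hxq, hxQ, ha, hh₃, hinv, hall⟩ :=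
    exists_inverted_mod Q A hQ2 hFodd hFcent hAab hA2 hAQ
  have hqodd : ¬ 2 ∣ q := by
    intro h
    exact hq2 ((Nat.prime_dvd_prime_iff_eq Nat.prime_two hq).mp h).symm
  have hcop2 : Nat.Coprime 2 q := (Nat.Prime.coprime_iff_not_dvd Nat.prime_two).mpr hqodd
  have hxE : x ∉ Subgroup.centralizer (V : Set G) := by
    intro hxC
    apply hxQ
    haveI hN1n : (N ⊔ Q).Normal := inferInstance
    have ht : a * h₃ ∈ N ⊔ Q := Subgroup.mul_mem_sup (hAN ha) hh₃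
    have h1 : (a * h₃) * (x * (a * h₃)⁻¹ * x⁻¹) ∈ N ⊔ Q :=
      (N ⊔ Q).mul_mem ht (hN1n.conj_mem _ ((N ⊔ Q).inv_mem ht) x)
    have h2 : (a * h₃) * (x * (a * h₃)⁻¹ * x⁻¹) = x⁻¹ * x⁻¹ := by
      calc (a * h₃) * (x * (a * h₃)⁻¹ * x⁻¹) = ((a * h₃) * x * (a * h₃)⁻¹) * x⁻¹ := by group
        _ = x⁻¹ * x⁻¹ := by rw [hinv]
    rw [h2] at h1
    have h3 : x ^ 2 ∈ N ⊔ Q := by
      have := (N ⊔ Q).inv_mem h1
      have e : (x⁻¹ * x⁻¹)⁻¹ = x ^ 2 := by group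
      rwa [e] at this
    have h4 : x ∈ N ⊔ Q := mem_of_pow_mem_of_coprime _ hcop2 h3 (by rw [hxq]; exact Subgroup.one_mem _)
    obtain ⟨n, hn, u, hu, rfl⟩ := Subgroup.mem_sup_of_normal_right.mp h4
    have hnC : n ∈ Subgroup.centralizer (V : Set G) := by
      have : n = (n * u) * u⁻¹ := by group
      rw [this]
      exact Subgroup.mul_mem _ hxC (Subgroup.inv_mem _ (hQleCV hu))
    exact Q.mul_mem (hKQ (Subgroup.mem_inf.mpr ⟨hn, hnC⟩)) hu
  exact s4_of_config' Q V A hVQ hVc hV2 hQcentV (fun b hb => by rw [hA2 b hb]; exact Q.one_mem)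
    hAab hquad (hbest hVe) hq hq2 hxq hxQ hxE ha hh₃ hinv hall

end core

end Cfsg.Agent.Lib.Helper7.Jc
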