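import Mathlib
import Cfsg.Agent.Lib.Helper7.JcE
import Cfsg.Agent.Lib.Helper7.ThA2
import Cfsg.Agent.S3215
import Cfsg.Agent.H1.ThompsonFact
import Cfsg.Agent.H2.PPrimeCore

set_option autoImplicit false
set_option linter.style.haveILetI false
set_option linter.unusedVariables false
set_option linter.unusedSectionVars false

open scoped commutatorElement

namespace Cfsg.Agent.Lib.Helper7.Jc

open Cfsg Cfsg.Agent.Lib.Helper7
open Cfsg.Agent.Lib.Helper7.ThA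

universe u

section fin
variable {G : Type u} [Group G] [Finite G]

theorem core_solvable (hsol : Group.IsSolvable G) (hO : Cfsg.pPrimeCore 2 G = ⊥)
    (hS4 : ¬ Cfsg.Involves (Equiv.Perm (Fin 4)) G) (S : Sylow 2 G)
    (hcl : (S : Subgroup G).lowerCentralSeries 2 = ⊥)
    (A : Subgroup G) (hA : IsMaxEA 2 (S : Subgroup G) A) : A ≤ Cfsg.pCore 2 G := by
  haveI : Fact (Nat.Prime 2) := ⟨Nat.prime_two⟩
  haveI hQn : (Cfsg.pCore 2 G).Normal := Cfsg.Agent.H1.pCore_normal 2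
  have hcl' : ∀ a ∈ (S : Subgroup G), ∀ b ∈ (S : Subgroup G), ∀ c ∈ (S : Subgroup G),
      ⁅a, b⁆ * c = c * ⁅a, b⁆ := by
    intro a ha b hb c hc
    have h1 : ⁅⁅a, b⁆, c⁆ ∈ (S : Subgroup G).lowerCentralSeries 2 := by
      rw [Subgroup.lowerCentralSeries_succ, Subgroup.lowerCentralSeries_succ,
        Subgroup.lowerCentralSeries_zero]
      exact Subgroup.commutator_mem_commutator (Subgroup.commutator_mem_commutator ha hb) hc
    rw [hcl, Subgroup.mem_bot, commutatorElement_eq_one_iff_mul_comm] at h1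
    exact h1
  haveI : Group.IsSolvable (G ⧸ Cfsg.pCore 2 G) := inferInstance
  refine core_general hS4 S hcl' (Cfsg.pCore 2 G) (Cfsg.Agent.H1.pCore_isPGroup 2)
    (Cfsg.Agent.S3215.centralizer_le hsol hO)
    (fun K hK hK2 => Cfsg.Agent.H1.le_pCore hK hK2) ?_
    (Cfsg.Agent.S3215.centralizer_fitting_le inferInstance) A hA
  have := Cfsg.Agent.S3215.odd_card_fitting (H := G)
  intro h2
  exact (Nat.not_even_iff_odd.mpr this) (even_iff_two_dvd.mpr h2)

/-- the elementary Thompson subgroup of a Sylow `2`-subgroup of class at most `2` in a solvable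
`S₄`-free group: `G = N_G(J(S)) O(G)` -/
theorem thompson_factorization (hsol : Group.IsSolvable G)
    (hS4 : ¬ Cfsg.Involves (Equiv.Perm (Fin 4)) G) (S : Sylow 2 G)
    (hcl : (S : Subgroup G).lowerCentralSeries 2 = ⊥) :
    Subgroup.normalizer ((Cfsg.thompsonSubgroupOf 2 (S : Subgroup G)) : Set G) ⊔ Cfsg.pPrimeCore 2 G = ⊤ := by
  haveI : Fact (Nat.Prime 2) := ⟨Nat.prime_two⟩
  haveI hOn : (Cfsg.pPrimeCore 2 G).Normal := Cfsg.Agent.H1.pPrimeCore_normal 2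
  obtain ⟨π, hπdef⟩ : ∃ π : G →* G ⧸ Cfsg.pPrimeCore 2 G, π = QuotientGroup.mk' _ := ⟨_, rfl⟩
  have hπs : Function.Surjective π := by rw [hπdef]; exact QuotientGroup.mk'_surjective _
  have hπ1 : ∀ x, π x = 1 ↔ x ∈ Cfsg.pPrimeCore 2 G := by
    intro x; rw [hπdef, QuotientGroup.mk'_apply, QuotientGroup.eq_one_iff]
  have hπker : π.ker = Cfsg.pPrimeCore 2 G := by rw [hπdef, QuotientGroup.ker_mk']
  have hinj : ∀ x ∈ (S : Subgroup G), π x = 1 → x = 1 := by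
    intro x hx h1
    rw [hπ1] at h1
    obtain ⟨k, hk⟩ := pow_eq_one_of_mem_isPGroup S.isPGroup' hx
    have hcop : (orderOf x).Coprime 2 :=
      Nat.Coprime.coprime_dvd_left (Subgroup.orderOf_dvd_natCard _ h1)
        (Cfsg.Agent.H1.pPrimeCore_coprime 2)
    exact eq_one_of_coprime_of_pow_eq_one x hcop k hk
  obtain ⟨S', hS'⟩ : ∃ S' : Sylow 2 (G ⧸ Cfsg.pPrimeCore 2 G),
      (S' : Subgroup (G ⧸ Cfsg.pPrimeCore 2 G)) = (S : Subgroup G).map π :=
    ⟨S.mapSurjective hπs, Sylow.coe_mapSurjective hπs S⟩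
  have hcl' : (S' : Subgroup (G ⧸ Cfsg.pPrimeCore 2 G)).lowerCentralSeries 2 = ⊥ := by
    rw [hS', ← Subgroup.map_lowerCentralSeries, hcl, Subgroup.map_bot]
  have hS4' : ¬ Cfsg.Involves (Equiv.Perm (Fin 4)) (G ⧸ Cfsg.pPrimeCore 2 G) :=
    fun h => hS4 (Cfsg.Agent.Lib.Helper7.ThA.involves_of_surjective π hπs h)
  haveI : Group.IsSolvable (G ⧸ Cfsg.pPrimeCore 2 G) := inferInstance
  have hO' : Cfsg.pPrimeCore 2 (G ⧸ Cfsg.pPrimeCore 2 G) = ⊥ :=
    Cfsg.Agent.H2.pPrimeCore_quotient_eq_bot 2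
  have hcore := core_solvable (G := G ⧸ Cfsg.pPrimeCore 2 G) inferInstance hO' hS4' S' hcl'
  obtain ⟨J, hJdef⟩ : ∃ J : Subgroup G, J = Cfsg.thompsonSubgroupOf 2 (S : Subgroup G) := ⟨_, rfl⟩
  rw [← hJdef]
  have hJS : J ≤ (S : Subgroup G) := by rw [hJdef]; exact thompsonSubgroupOf_le _
  have hJ' : Cfsg.thompsonSubgroupOf 2 (S' : Subgroup (G ⧸ Cfsg.pPrimeCore 2 G)) = J.map π := by
    rw [hS', hJdef]
    exact Cfsg.Agent.H1.thompsonSubgroupOf_map π (S : Subgroup G) hinj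
  have hQ'n : (Cfsg.pCore 2 (G ⧸ Cfsg.pPrimeCore 2 G)).Normal := Cfsg.Agent.H1.pCore_normal 2
  have h1 : Cfsg.thompsonSubgroupOf 2 (S' : Subgroup (G ⧸ Cfsg.pPrimeCore 2 G)) ≤
      Cfsg.pCore 2 (G ⧸ Cfsg.pPrimeCore 2 G) := thompsonSubgroupOf_le_of hcore
  have h2 : Cfsg.pCore 2 (G ⧸ Cfsg.pPrimeCore 2 G) ≤ (S' : Subgroup (G ⧸ Cfsg.pPrimeCore 2 G)) :=
    Cfsg.Agent.H1.pCore_le_sylow S'
  have h3 := Cfsg.Agent.H1.thompsonSubgroupOf_eq_of_le h1 h2
  have h4 := Cfsg.Agent.H1.normalizer_le_normalizer_thompsonSubgroupOf (p := 2)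
    (Cfsg.pCore 2 (G ⧸ Cfsg.pPrimeCore 2 G))
  rw [h3, Subgroup.normalizer_eq_top_iff.mpr hQ'n, hJ', top_le_iff,
    Subgroup.normalizer_eq_top_iff] at h4
  haveI hCn : ((J.map π).comap π).Normal := h4.comap π
  have hfr := Cfsg.Agent.H1.sylow_inf_normalizer_sup_eq_top S ((J.map π).comap π)
  have hSC : (S : Subgroup G) ⊓ (J.map π).comap π = J := by
    apply le_antisymm
    · intro x hx
      obtain ⟨hxS, hxC⟩ := Subgroup.mem_inf.mp hx
      rw [Subgroup.mem_comap] at hxC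
      obtain ⟨j, hj, hjx⟩ := hxC
      have h5 : j⁻¹ * x = 1 := by
        apply hinj _ ((S : Subgroup G).mul_mem ((S : Subgroup G).inv_mem (hJS hj)) hxS)
        rw [map_mul, map_inv, hjx, inv_mul_cancel]
      have : x = j := by
        calc x = j * (j⁻¹ * x) := by group
          _ = j := by rw [h5, mul_one]
      rw [this]; exact hj
    · exact le_inf hJS (Subgroup.le_comap_map π J)
  rw [hSC, Subgroup.comap_map_eq, hπker, ← sup_assoc, sup_eq_left.mpr Subgroup.le_normalizer] at hfr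
  exact hfr

end fin

end Cfsg.Agent.Lib.Helper7.Jc
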