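import Mathlib
import Cfsg.Prelude.Def_Characters
import Cfsg.Agent.Lib.helper3.NilpM3

set_option autoImplicit false
set_option linter.style.haveILetI false
set_option linter.unusedSectionVars false

/-!
# A nilpotent linear group of degree `n` has an abelian subgroup of index dividing `n!`

Every irreducible constituent of the faithful character is monomial; the kernel of the
permutation action on the union of the coset spaces is abelian.
-/

namespace Cfsg.Agent.Lib.Helper7.JordanP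

open Cfsg Cfsg.Agent.Lib.helper3.Irr Cfsg.Agent.Lib.helper3.IndFun

universe u

variable {P : Type u} [Group P] [Fintype P]

theorem indFun_lin_one (H : Subgroup P) (lam : H →* ℂˣ) :
    indFun H (fun h => ((lam h : ℂˣ) : ℂ)) 1 = (H.index : ℂ) := by
  rw [indFun_apply]
  have hx : ∀ x : P, extendByZero H (fun h => ((lam h : ℂˣ) : ℂ)) (x⁻¹ * 1 * x) = 1 := by
    intro x
    have h1 : x⁻¹ * 1 * x = 1 := by group
    rw [h1, extendByZero_mem H _ H.one_mem]
    have h2 : (⟨1, H.one_mem⟩ : H) = 1 := rfl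
    rw [h2, map_one]
    rfl
  rw [Finset.sum_congr rfl (fun x _ => hx x), Finset.sum_const, Finset.card_univ, nsmul_eq_mul,
    mul_one]
  have h2 : (Nat.card H : ℂ) * (H.index : ℂ) = (Fintype.card P : ℂ) := by
    rw [← Nat.cast_mul, Subgroup.card_mul_index, Nat.card_eq_fintype_card]
  have h3 : (Nat.card H : ℂ) ≠ 0 := card_ne_zero_complex H
  rw [← h2, ← mul_assoc, inv_mul_cancel₀ h3, one_mul]

/-- an induced linear character takes its degree at a commutator of two elements all of whose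
conjugates lie in the inducing subgroup -/
theorem indFun_lin_commutator (H : Subgroup P) (lam : H →* ℂˣ) (x y : P)
    (hx : ∀ g : P, g⁻¹ * x * g ∈ H) (hy : ∀ g : P, g⁻¹ * y * g ∈ H) :
    indFun H (fun h => ((lam h : ℂˣ) : ℂ)) (x * y * x⁻¹ * y⁻¹) =
      indFun H (fun h => ((lam h : ℂˣ) : ℂ)) 1 := by
  rw [indFun_apply, indFun_apply]
  congr 1
  apply Finset.sum_congr rfl
  intro g _
  have h1 : g⁻¹ * 1 * g = 1 := by group
  rw [h1, extendByZero_mem H _ H.one_mem]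
  have h2 : (⟨1, H.one_mem⟩ : H) = 1 := rfl
  rw [h2, map_one]
  have h3 : g⁻¹ * (x * y * x⁻¹ * y⁻¹) * g =
      (g⁻¹ * x * g) * (g⁻¹ * y * g) * (g⁻¹ * x * g)⁻¹ * (g⁻¹ * y * g)⁻¹ := by group
  have hmem : g⁻¹ * (x * y * x⁻¹ * y⁻¹) * g ∈ H := by
    rw [h3]
    exact H.mul_mem (H.mul_mem (H.mul_mem (hx g) (hy g)) (H.inv_mem (hx g))) (H.inv_mem (hy g))
  rw [extendByZero_mem H _ hmem]
  have h4 : (⟨g⁻¹ * (x * y * x⁻¹ * y⁻¹) * g, hmem⟩ : H) =
      (⟨_, hx g⟩ : H) * ⟨_, hy g⟩ * (⟨_, hx g⟩ : H)⁻¹ * (⟨_, hy g⟩ : H)⁻¹ := by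
    apply Subtype.ext
    exact h3
  rw [h4, map_mul, map_mul, map_mul, map_inv, map_inv]
  have h5 : lam ⟨_, hx g⟩ * lam ⟨_, hy g⟩ * (lam ⟨_, hx g⟩)⁻¹ * (lam ⟨_, hy g⟩)⁻¹ = 1 := by
    rw [mul_comm (lam ⟨_, hx g⟩) (lam ⟨_, hy g⟩), mul_assoc (lam ⟨_, hy g⟩), mul_inv_cancel,
      mul_one, mul_inv_cancel]
  rw [h5]

/-- **The `p`-group step of Jordan's bound.** A finite nilpotent group with a faithful character
of degree `n` has an abelian subgroup of index dividing `n!`. -/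
theorem exists_abelian_index_dvd_factorial [Group.IsNilpotent P] (χ : P → ℂ)
    (hχ : IsCharacter P χ) (hfaith : ∀ g : P, χ g = χ 1 → g = 1) (n : ℕ) (hn : χ 1 = n) :
    ∃ B : Subgroup P, (∀ x ∈ B, ∀ y ∈ B, x * y = y * x) ∧ B.index ∣ n.factorial := by
  classical
  obtain ⟨m, hm⟩ := exists_decomposition_of_isCharacter hχ
  have hmon : ∀ ψ : IrrCharacter P, ∃ (H : Subgroup P) (lam : H →* ℂˣ),
      (ψ : P → ℂ) = indFun H (fun h => ((lam h : ℂˣ) : ℂ)) :=
    fun ψ => nilpotent_monomial ψ.1 ψ.2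
  choose H lam hψ using hmon
  let I := {ψ : IrrCharacter P // m ψ ≠ 0}
  let Ω := Σ ψ : I, P ⧸ H ψ.1
  let φ : P →* Equiv.Perm Ω := MulAction.toPermHom P Ω
  -- elements of the kernel have all conjugates in every `H ψ`
  have hker : ∀ b ∈ φ.ker, ∀ ψ : I, ∀ g : P, g⁻¹ * b * g ∈ H ψ.1 := by
    intro b hb ψ g
    have h1 : φ b = 1 := hb
    have h2 : φ b ⟨ψ, (g : P ⧸ H ψ.1)⟩ = ⟨ψ, (g : P ⧸ H ψ.1)⟩ := by rw [h1]; rfl
    have h3 : φ b ⟨ψ, (g : P ⧸ H ψ.1)⟩ = ⟨ψ, ((b * g : P) : P ⧸ H ψ.1)⟩ := rfl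
    rw [h3] at h2
    have h4 : ((b * g : P) : P ⧸ H ψ.1) = (g : P ⧸ H ψ.1) := by
      have := (Sigma.mk.inj_iff.mp h2).2
      exact eq_of_heq this
    have h5 := QuotientGroup.eq.mp h4.symm
    rwa [← mul_assoc] at h5
  -- degrees
  have hdeg : ∀ ψ : IrrCharacter P, (ψ : P → ℂ) 1 = ((H ψ).index : ℂ) := by
    intro ψ
    rw [hψ ψ, indFun_lin_one]
  refine ⟨φ.ker, ?_, ?_⟩
  · intro x hx y hy
    have hc : χ (x * y * x⁻¹ * y⁻¹) = χ 1 := by
      rw [hm]
      simp only [Finset.sum_apply, Pi.smul_apply, smul_eq_mul]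
      apply Finset.sum_congr rfl
      intro ψ _
      by_cases h0 : m ψ = 0
      · rw [h0]; simp
      · congr 1
        rw [hψ ψ]
        exact indFun_lin_commutator (H ψ) (lam ψ) x y (fun g => hker x hx ⟨ψ, h0⟩ g)
          (fun g => hker y hy ⟨ψ, h0⟩ g)
    have h1 := hfaith _ hc
    calc x * y = (x * y * x⁻¹ * y⁻¹) * (y * x) := by group
      _ = y * x := by rw [h1, one_mul]
  · rw [Subgroup.index_ker]
    have h1 : Nat.card φ.range ∣ Nat.card (Equiv.Perm Ω) := Subgroup.card_subgroup_dvd_card _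
    refine h1.trans ?_
    rw [Nat.card_perm]
    apply Nat.factorial_dvd_factorial
    -- card Ω ≤ n
    have h2 : Nat.card Ω = ∑ ψ : I, (H ψ.1).index := by
      rw [Nat.card_sigma]
      rfl
    rw [h2]
    have h3 : (n : ℂ) = ∑ ψ : IrrCharacter P, ((m ψ * (H ψ).index : ℕ) : ℂ) := by
      rw [← hn, hm]
      simp only [Finset.sum_apply, Pi.smul_apply, smul_eq_mul]
      apply Finset.sum_congr rfl
      intro ψ _
      rw [hdeg ψ]
      push_cast
      rfl
    have h4 : n = ∑ ψ : IrrCharacter P, m ψ * (H ψ).index := by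
      have : (n : ℂ) = ((∑ ψ : IrrCharacter P, m ψ * (H ψ).index : ℕ) : ℂ) := by
        rw [h3]; push_cast; rfl
      exact_mod_cast this
    rw [h4]
    have h5 : ∑ ψ : I, (H ψ.1).index =
        ∑ ψ ∈ Finset.univ.filter (fun ψ : IrrCharacter P => m ψ ≠ 0), (H ψ).index := by
      rw [Finset.sum_subtype (p := fun ψ : IrrCharacter P => m ψ ≠ 0)
        (Finset.univ.filter (fun ψ : IrrCharacter P => m ψ ≠ 0)) (by simp)]
    rw [h5, Finset.sum_filter]
    apply Finset.sum_le_sum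
    intro ψ _
    by_cases h0 : m ψ = 0
    · simp [h0]
    · rw [if_pos h0]
      exact Nat.le_mul_of_pos_left _ (Nat.pos_of_ne_zero h0)

end Cfsg.Agent.Lib.Helper7.JordanP
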