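import Mathlib
import Cfsg.Prelude.Def_Characters
import Cfsg.Agent.Lib.Helper7.JordanP
import Cfsg.Agent.Lib.Helper7.Blich5

set_option autoImplicit false
set_option linter.style.haveILetI false
set_option linter.unusedSectionVars false

/-!
# Assembly of Jordan's bound from the Sylow step, the large-prime Hall subgroup and the
`12 ^ n` bound for abelian subgroups
-/

namespace Cfsg.Agent.Lib.Helper7.JordanQ

open Cfsg Subgroup Cfsg.Agent.Lib.helper3.Irr

universe u

variable {G : Type u} [Group G] [Finite G]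

/-- If `q` does not divide the index of `H`, the `q`-part of `|G : A|` is visible in
`|H : A ⊓ H|`. -/
theorem factorization_index_le_relIndex (A H : Subgroup G) (q : ℕ)
    (hqH : ¬ q ∣ H.index) :
    (A.index).factorization q ≤ (A.relIndex H).factorization q := by
  have e1 : Nat.card A * A.index = Nat.card G := Subgroup.card_mul_index A
  have e2 : Nat.card H * H.index = Nat.card G := Subgroup.card_mul_index H
  have e3 : Nat.card (A.subgroupOf H) * A.relIndex H = Nat.card H :=
    Subgroup.card_mul_index (A.subgroupOf H)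
  have hsub : Nat.card (A.subgroupOf H) ∣ Nat.card A := by
    have h1 : Nat.card (A.subgroupOf H) = Nat.card (A ⊓ H : Subgroup G) := by
      rw [← Subgroup.inf_subgroupOf_right A H]
      exact Nat.card_congr (Subgroup.subgroupOfEquivOfLe inf_le_right).toEquiv
    rw [h1]
    exact Subgroup.card_dvd_of_le inf_le_left
  have hA0 : Nat.card A ≠ 0 := Nat.card_pos.ne'
  have hS0 : Nat.card (A.subgroupOf H) ≠ 0 := Nat.card_pos.ne'
  have hN0 : A.index ≠ 0 := Subgroup.index_ne_zero_of_finite
  have hH0 : Nat.card H ≠ 0 := Nat.card_pos.ne'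
  have hHi0 : H.index ≠ 0 := Subgroup.index_ne_zero_of_finite
  have hR0 : A.relIndex H ≠ 0 := by
    intro h0
    rw [h0, mul_zero] at e3
    exact hH0 e3.symm
  have f1 : (Nat.card G).factorization q
      = (Nat.card A).factorization q + (A.index).factorization q := by
    rw [← e1, Nat.factorization_mul hA0 hN0]; rfl
  have f2 : (Nat.card G).factorization q = (Nat.card H).factorization q := by
    rw [← e2, Nat.factorization_mul hH0 hHi0]
    show (Nat.card H).factorization q + (H.index).factorization q = _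
    rw [Nat.factorization_eq_zero_of_not_dvd hqH, add_zero]
  have f3 : (Nat.card H).factorization q
      = (Nat.card (A.subgroupOf H)).factorization q + (A.relIndex H).factorization q := by
    rw [← e3, Nat.factorization_mul hS0 hR0]; rfl
  have f4 : (Nat.card (A.subgroupOf H)).factorization q ≤ (Nat.card A).factorization q :=
    (Nat.factorization_le_iff_dvd hS0 hA0).2 hsub q
  omega

/-- A product of the prime powers `p ^ v_p(m)` over a set of primes divides `m`. -/
theorem prod_primes_pow_dvd (S : Finset ℕ) (hS : ∀ p ∈ S, p.Prime) (m : ℕ) :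
    (∏ p ∈ S, p ^ m.factorization p) ∣ m := by
  classical
  induction S using Finset.induction_on with
  | empty => simp
  | insert a S ha ih =>
    rw [Finset.prod_insert ha]
    have hap : a.Prime := hS a (Finset.mem_insert_self a S)
    have hS' : ∀ p ∈ S, p.Prime := fun p hp => hS p (Finset.mem_insert_of_mem hp)
    refine Nat.Coprime.mul_dvd_of_dvd_of_dvd ?_ (Nat.ordProj_dvd m a) (ih hS')
    refine Nat.Coprime.prod_right fun p hp => ?_
    have hne : a ≠ p := fun h => ha (h ▸ hp)
    exact Nat.Coprime.pow _ _ ((Nat.coprime_primes hap (hS' p hp)).2 hne)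

/-- The purely numeric part of the assembly. -/
theorem jordan_numeric (N n R : ℕ) (hN : N ≠ 0) (hR0 : R ≠ 0) (hR : R ≤ 12 ^ n)
    (h1 : ∀ p : ℕ, p.Prime →
      p ^ N.factorization p ≤ p ^ (n.factorial).factorization p * 12 ^ n)
    (h2 : ∀ q : ℕ, q.Prime → n + 1 < q → N.factorization q ≤ R.factorization q) :
    N ≤ n.factorial * 12 ^ (n * (Nat.primeCounting (n + 1) + 1)) := by
  classical
  set f : ℕ →₀ ℕ := N.factorization.filter (fun p => p ≤ n + 1) with hf
  have hfle : f ≤ N.factorization := by
    intro p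
    rw [hf, Finsupp.filter_apply]
    split_ifs
    · exact le_rfl
    · exact Nat.zero_le _
  set T : ℕ := f.prod (· ^ ·) with hT
  have hTfac : T.factorization = f := Nat.factorization_prod_pow_eq_self_of_le_factorization hfle
  have hTdvd : T ∣ N := Nat.prod_pow_dvd_of_le_factorization hfle
  have hT0 : T ≠ 0 := fun h => hN (by rw [h] at hTdvd; exact Nat.eq_zero_of_zero_dvd hTdvd)
  have hdvd : N ∣ T * R := by
    refine (Nat.factorization_prime_le_iff_dvd hN (mul_ne_zero hT0 hR0)).1 fun q hq => ?_
    rw [Nat.factorization_mul hT0 hR0, hTfac]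
    show N.factorization q ≤ f q + R.factorization q
    by_cases hqn : q ≤ n + 1
    · rw [hf, Finsupp.filter_apply_pos (fun p => p ≤ n + 1) _ hqn]
      exact Nat.le_add_right _ _
    · exact le_trans (h2 q hq (by omega)) (Nat.le_add_left _ _)
  have hNle : N ≤ T * R := Nat.le_of_dvd (Nat.pos_of_ne_zero (mul_ne_zero hT0 hR0)) hdvd
  -- the support
  have hsupp : f.support = N.primeFactors.filter (fun p => p ≤ n + 1) := by
    rw [hf, Finsupp.support_filter, Nat.support_factorization]
  have hprime : ∀ p ∈ f.support, p.Prime := by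
    intro p hp
    rw [hsupp, Finset.mem_filter] at hp
    exact Nat.prime_of_mem_primeFactors hp.1
  have hfval : ∀ p ∈ f.support, f p = N.factorization p := by
    intro p hp
    rw [hsupp, Finset.mem_filter] at hp
    rw [hf, Finsupp.filter_apply_pos (fun p => p ≤ n + 1) _ hp.2]
  have hT1 : T ≤ ∏ p ∈ f.support, (p ^ (n.factorial).factorization p * 12 ^ n) := by
    rw [hT, Finsupp.prod]
    refine Finset.prod_le_prod (fun _ _ => Nat.zero_le _) fun p hp => ?_
    show p ^ f p ≤ _
    rw [hfval p hp]
    exact h1 p (hprime p hp)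
  have hT2 : ∏ p ∈ f.support, (p ^ (n.factorial).factorization p * 12 ^ n)
      = (∏ p ∈ f.support, p ^ (n.factorial).factorization p) * (12 ^ n) ^ f.support.card := by
    rw [Finset.prod_mul_distrib, Finset.prod_const]
  have hT3 : (∏ p ∈ f.support, p ^ (n.factorial).factorization p) ≤ n.factorial :=
    Nat.le_of_dvd (Nat.factorial_pos n) (prod_primes_pow_dvd _ hprime _)
  have hcard : f.support.card ≤ Nat.primeCounting (n + 1) := by
    rw [Nat.primeCounting_eq_primeCounting'_succ, ← Nat.primesBelow_card_eq_primeCounting']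
    refine Finset.card_le_card fun p hp => ?_
    have hpp := hprime p hp
    rw [hsupp, Finset.mem_filter] at hp
    rw [Nat.primesBelow, Finset.mem_filter, Finset.mem_range]
    exact ⟨by omega, hpp⟩
  calc N ≤ T * R := hNle
    _ ≤ (n.factorial * (12 ^ n) ^ f.support.card) * 12 ^ n := by
        refine Nat.mul_le_mul ?_ hR
        rw [hT2] at hT1
        exact le_trans hT1 (Nat.mul_le_mul_right _ hT3)
    _ = n.factorial * 12 ^ (n * (f.support.card + 1)) := by
        rw [mul_assoc, ← pow_mul, ← pow_add, mul_add, mul_one]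
    _ ≤ n.factorial * 12 ^ (n * (Nat.primeCounting (n + 1) + 1)) := by
        refine Nat.mul_le_mul_left _ (Nat.pow_le_pow_right (by norm_num) ?_)
        exact Nat.mul_le_mul_left _ (by omega)

/-- **The Sylow step.** -/
theorem sylow_step (χ : G → ℂ) (hχ : IsCharacter G χ) (hfaith : ∀ g : G, χ g = χ 1 → g = 1)
    (n : ℕ) (hd : χ 1 = n) (A : Subgroup G)
    (hA : ∀ H : Subgroup G, (∀ x ∈ H, ∀ y ∈ H, x * y = y * x) → (A.subgroupOf H).index ≤ 12 ^ n)
    (p : ℕ) (hp : p.Prime) :
    p ^ (A.index).factorization p ≤ p ^ (n.factorial).factorization p * 12 ^ n := by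
  classical
  haveI : Fact p.Prime := ⟨hp⟩
  obtain ⟨P⟩ : Nonempty (Sylow p G) := inferInstance
  haveI : Group.IsNilpotent P := P.isPGroup'.isNilpotent
  letI : Fintype P := Fintype.ofFinite P
  have hfaithP : ∀ g : P, (fun h : P => χ h) g = (fun h : P => χ h) 1 → g = 1 := by
    intro g hg
    apply Subtype.ext
    exact hfaith g hg
  obtain ⟨B₀, hB₀c, hB₀i⟩ :=
    Cfsg.Agent.Lib.Helper7.JordanP.exists_abelian_index_dvd_factorial (fun h : P => χ h)
      (isCharacter_restrict hχ P) hfaithP n hd
  set B : Subgroup G := B₀.map (P : Subgroup G).subtype with hB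
  have hBP : B ≤ P := Subgroup.map_subtype_le B₀
  have hBc : ∀ x ∈ B, ∀ y ∈ B, x * y = y * x := by
    intro x hx y hy
    rw [hB, Subgroup.mem_map] at hx hy
    obtain ⟨x₀, hx₀, rfl⟩ := hx
    obtain ⟨y₀, hy₀, rfl⟩ := hy
    rw [← map_mul, ← map_mul, hB₀c x₀ hx₀ y₀ hy₀]
  have hBrel : B.relIndex P = B₀.index := by
    unfold Subgroup.relIndex Subgroup.subgroupOf
    rw [hB, Subgroup.comap_map_eq_self_of_injective (Subgroup.subtype_injective _)]
  -- the `p`-part of the index is visible in `P`
  have hval := factorization_index_le_relIndex A (P : Subgroup G) p P.not_dvd_index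
  have hrelP0 : A.relIndex P ≠ 0 := Subgroup.index_ne_zero_of_finite
  have ha : p ^ (A.index).factorization p ≤ A.relIndex P :=
    le_trans (Nat.pow_le_pow_right hp.pos hval)
      (Nat.le_of_dvd (Nat.pos_of_ne_zero hrelP0) (Nat.ordProj_dvd _ p))
  -- split through `B`
  have hb : A.relIndex P ≤ A.relIndex B * B.relIndex P := by
    have e1 : (A ⊓ B).relIndex B * B.relIndex P = (A ⊓ B).relIndex P :=
      Subgroup.relIndex_mul_relIndex _ _ _ inf_le_right hBP
    have e2 : (A ⊓ (P : Subgroup G)).relIndex P ∣ (A ⊓ B).relIndex P :=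
      Subgroup.relIndex_dvd_of_le_left _ (inf_le_inf_left A hBP)
    rw [Subgroup.inf_relIndex_right] at e2 e1
    have h0 : (A ⊓ B).relIndex P ≠ 0 := Subgroup.index_ne_zero_of_finite
    rw [e1]
    exact Nat.le_of_dvd (Nat.pos_of_ne_zero h0) e2
  have hc : A.relIndex B ≤ 12 ^ n := hA B hBc
  have hdd : B.relIndex P ≤ p ^ (n.factorial).factorization p := by
    rw [hBrel]
    have h1 : B₀.index ∣ Nat.card P := Subgroup.index_dvd_card B₀
    rw [P.card_eq_multiplicity] at h1
    obtain ⟨k, -, hk⟩ := (Nat.dvd_prime_pow hp).1 h1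
    rw [hk] at hB₀i ⊢
    exact Nat.pow_le_pow_right hp.pos
      ((hp.pow_dvd_iff_le_factorization (Nat.factorial_ne_zero n)).1 hB₀i)
  calc p ^ (A.index).factorization p ≤ A.relIndex P := ha
    _ ≤ A.relIndex B * B.relIndex P := hb
    _ ≤ 12 ^ n * p ^ (n.factorial).factorization p := Nat.mul_le_mul hc hdd
    _ = _ := mul_comm _ _

/-- **Jordan's bound, assembled.** -/
theorem jordan_assemble (χ : G → ℂ) (hχ : IsCharacter G χ)
    (hfaith : ∀ g : G, χ g = χ 1 → g = 1) (n : ℕ) (hd : χ 1 = n) (A Q : Subgroup G)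
    (hA : ∀ H : Subgroup G, (∀ x ∈ H, ∀ y ∈ H, x * y = y * x) → (A.subgroupOf H).index ≤ 12 ^ n)
    (hQc : ∀ x ∈ Q, ∀ y ∈ Q, x * y = y * x)
    (hQ : ∀ q : ℕ, q.Prime → q ∣ Q.index → q ≤ n + 1) :
    A.index ≤ n.factorial * 12 ^ (n * (Nat.primeCounting (n + 1) + 1)) := by
  have hR0 : A.relIndex Q ≠ 0 := Subgroup.index_ne_zero_of_finite
  refine jordan_numeric A.index n (A.relIndex Q) Subgroup.index_ne_zero_of_finite hR0 (hA Q hQc)
    (fun p hp => sylow_step χ hχ hfaith n hd A hA p hp) fun q hq hqn => ?_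
  refine factorization_index_le_relIndex A Q q fun hdvd => ?_
  have := hQ q hq hdvd
  omega

end Cfsg.Agent.Lib.Helper7.JordanQ
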