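import Mathlib
import Cfsg.Prelude.Def_Characters
import Cfsg.Agent.Lib.helper3.Irr7

set_option autoImplicit false
set_option linter.style.haveILetI false
set_option linter.unusedSectionVars false

/-!
# The abelian point stabilizer criterion for `k(GV)`: the column identity

For `X = V ⋊ G`, `u ∈ V` with abelian stabilizer `H = C_G(u)`, and any function `δ` on `H`:
`∑_χ |∑_h χ(hu) conj δ(h)|² = |H| ∑_h |C_V(h)| |δ(h)|²`.
-/

namespace Cfsg.Agent.Lib.Helper7.KGV

open Cfsg Cfsg.Agent.Lib.helper3.Irr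
open scoped ComplexConjugate

variable {X : Type*} [Group X]

section conjugacy

variable [Finite X] (V G : Subgroup X) [V.Normal]

/-- If `x` conjugates `h u` to `h' u`, where `u` is a `p`-element commuting with the
`p'`-elements `h, h'`, then `x` centralizes `u` and conjugates `h` to `h'`. -/
theorem conj_parts {p n : ℕ} (hp : p.Prime) (hpn : ¬ p ∣ n) {u h h' x : X} (hu : u ^ p = 1)
    (hh : h ^ n = 1) (hh' : h' ^ n = 1) (hcu : h * u = u * h) (hcu' : h' * u = u * h')
    (hx : x * (h * u) * x⁻¹ = h' * u) : x * u * x⁻¹ = u ∧ x * h * x⁻¹ = h' := by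
  have h1 : (h * u) ^ n = u ^ n := by
    rw [(show Commute h u from hcu).mul_pow, hh, one_mul]
  have h2 : (h' * u) ^ n = u ^ n := by
    rw [(show Commute h' u from hcu').mul_pow, hh', one_mul]
  have h3 : x * u ^ n * x⁻¹ = u ^ n := by
    calc x * u ^ n * x⁻¹ = x * (h * u) ^ n * x⁻¹ := by rw [h1]
      _ = (x * (h * u) * x⁻¹) ^ n := (conj_pow).symm
      _ = u ^ n := by rw [hx, h2]
  have hcop : Nat.Coprime n p := ((Nat.Prime.coprime_iff_not_dvd hp).mpr hpn).symm
  obtain ⟨l, -, hl⟩ := Nat.exists_mul_mod_eq_one_of_coprime hcop hp.one_lt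
  have h4 : (u ^ n) ^ l = u := by
    rw [← pow_mul, ← Nat.div_add_mod (n * l) p, hl, pow_add, pow_mul, hu, one_pow, one_mul,
      pow_one]
  have h5 : x * u * x⁻¹ = u := by
    calc x * u * x⁻¹ = x * (u ^ n) ^ l * x⁻¹ := by rw [h4]
      _ = (x * u ^ n * x⁻¹) ^ l := (conj_pow).symm
      _ = u := by rw [h3, h4]
  refine ⟨h5, ?_⟩
  calc x * h * x⁻¹ = (x * (h * u) * x⁻¹) * (x * u * x⁻¹)⁻¹ := by group
    _ = h' := by rw [hx, h5]; group

variable {V G}

/-- The elements `h u` with `h ∈ H = C_G(u)` abelian are pairwise non-conjugate, and the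
centralizer of `h u` is `C_V(h) H`. -/
theorem conj_structure (hVab : ∀ a ∈ V, ∀ b ∈ V, a * b = b * a)
    (hGV : Subgroup.IsComplement' V G) {p : ℕ} (hp : p.Prime) (hpG : ¬ p ∣ Nat.card G)
    {u : X} (huV : u ∈ V) (hu : u ^ p = 1)
    (hab : ∀ a ∈ G ⊓ Subgroup.centralizer ({u} : Set X),
      ∀ b ∈ G ⊓ Subgroup.centralizer ({u} : Set X), a * b = b * a)
    {h h' : X} (hh : h ∈ G ⊓ Subgroup.centralizer ({u} : Set X))
    (hh' : h' ∈ G ⊓ Subgroup.centralizer ({u} : Set X)) {x : X}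
    (hx : x * (h * u) * x⁻¹ = h' * u) :
    h = h' ∧ ∃ a ∈ V, ∃ g ∈ G ⊓ Subgroup.centralizer ({u} : Set X),
      x = a * g ∧ a * h = h * a := by
  have hcomm : ∀ {y : X}, y ∈ Subgroup.centralizer ({u} : Set X) → y * u = u * y := by
    intro y hy
    exact (Subgroup.mem_centralizer_iff.mp hy u (Set.mem_singleton u)).symm
  have hpowG : ∀ {y : X}, y ∈ G → y ^ Nat.card G = 1 := by
    intro y hy
    have := pow_card_eq_one' (G := G) (x := ⟨y, hy⟩)
    exact congrArg Subtype.val this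
  obtain ⟨h5, h6⟩ := conj_parts hp hpG hu (hpowG hh.1) (hpowG hh'.1) (hcomm hh.2) (hcomm hh'.2) hx
  obtain ⟨⟨a, g⟩, hag⟩ := hGV.2 x
  have hag' : (a : X) * (g : X) = x := hag
  have hau : (a : X) * u = u * (a : X) := hVab _ a.2 _ huV
  have hxu : x * u = u * x := by
    calc x * u = (x * u * x⁻¹) * x := by group
      _ = u * x := by rw [h5]
  have hgu : (g : X) * u = u * (g : X) := by
    have hg : (g : X) = (a : X)⁻¹ * x := by rw [← hag']; group
    have hau' : (a : X)⁻¹ * u = u * (a : X)⁻¹ := by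
      calc (a : X)⁻¹ * u = (a : X)⁻¹ * (u * (a : X)) * (a : X)⁻¹ := by group
        _ = (a : X)⁻¹ * ((a : X) * u) * (a : X)⁻¹ := by rw [hau]
        _ = u * (a : X)⁻¹ := by group
    rw [hg, mul_assoc, hxu, ← mul_assoc, hau', mul_assoc]
  have hgH : (g : X) ∈ G ⊓ Subgroup.centralizer ({u} : Set X) := by
    refine Subgroup.mem_inf.mpr ⟨g.2, ?_⟩
    rw [Subgroup.mem_centralizer_iff]
    intro y hy
    rw [Set.mem_singleton_iff] at hy
    rw [hy]
    exact hgu.symm
  have hgh : (g : X) * h = h * (g : X) := hab _ hgH _ hh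
  have h7 : (a : X) * h * (a : X)⁻¹ = h' := by
    rw [← h6, ← hag']
    calc (a : X) * h * (a : X)⁻¹ = (a : X) * (h * (g : X)) * (g : X)⁻¹ * (a : X)⁻¹ := by group
      _ = (a : X) * ((g : X) * h) * (g : X)⁻¹ * (a : X)⁻¹ := by rw [hgh]
      _ = (a : X) * (g : X) * h * ((a : X) * (g : X))⁻¹ := by group
  have h8 : h⁻¹ * h' ∈ V := by
    rw [← h7]
    have h9 : h⁻¹ * (a : X) * h ∈ V := by
      have := Subgroup.Normal.conj_mem (inferInstance : V.Normal) _ a.2 h⁻¹
      simpa using this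
    have : h⁻¹ * ((a : X) * h * (a : X)⁻¹) = (h⁻¹ * (a : X) * h) * (a : X)⁻¹ := by group
    rw [this]
    exact V.mul_mem h9 (V.inv_mem a.2)
  have h9 : h⁻¹ * h' ∈ G := G.mul_mem (G.inv_mem hh.1) hh'.1
  have h10 : h⁻¹ * h' = 1 := by
    have hdisj := hGV.disjoint
    rw [Subgroup.disjoint_def] at hdisj
    exact hdisj h8 h9
  have h11 : h = h' := by
    calc h = h * (h⁻¹ * h') := by rw [h10, mul_one]
      _ = h' := by group
  refine ⟨h11, a, a.2, g, hgH, hag'.symm, ?_⟩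
  rw [← h11] at h7
  calc (a : X) * h = ((a : X) * h * (a : X)⁻¹) * (a : X) := by group
    _ = h * (a : X) := by rw [h7]

/-- The centralizer of `h u`. -/
theorem card_centralizer_mul (hVab : ∀ a ∈ V, ∀ b ∈ V, a * b = b * a)
    (hGV : Subgroup.IsComplement' V G) {p : ℕ} (hp : p.Prime) (hpG : ¬ p ∣ Nat.card G)
    {u : X} (huV : u ∈ V) (hu : u ^ p = 1)
    (hab : ∀ a ∈ G ⊓ Subgroup.centralizer ({u} : Set X),
      ∀ b ∈ G ⊓ Subgroup.centralizer ({u} : Set X), a * b = b * a)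
    {h : X} (hh : h ∈ G ⊓ Subgroup.centralizer ({u} : Set X)) :
    Nat.card (Subgroup.centralizer ({h * u} : Set X)) =
      Nat.card ↥(G ⊓ Subgroup.centralizer ({u} : Set X)) *
        Nat.card ↥(V ⊓ Subgroup.centralizer ({h} : Set X)) := by
  rw [mul_comm, ← Nat.card_prod]
  symm
  apply Nat.card_congr
  have hcomm : ∀ {y z : X}, y ∈ Subgroup.centralizer ({z} : Set X) → y * z = z * y := by
    intro y z hy
    exact (Subgroup.mem_centralizer_iff.mp hy z (Set.mem_singleton z)).symm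
  have hmem : ∀ {y z : X}, y * z = z * y → y ∈ Subgroup.centralizer ({z} : Set X) := by
    intro y z hy
    rw [Subgroup.mem_centralizer_iff]
    intro w hw
    rw [Set.mem_singleton_iff] at hw
    rw [hw]
    exact hy.symm
  refine Equiv.ofBijective
    (fun x : ↥(V ⊓ Subgroup.centralizer ({h} : Set X)) ×
        ↥(G ⊓ Subgroup.centralizer ({u} : Set X)) =>
      (⟨(x.1 : X) * (x.2 : X), ?_⟩ : Subgroup.centralizer ({h * u} : Set X))) ⟨?_, ?_⟩
  · apply hmem
    have h1 : (x.1 : X) * h = h * (x.1 : X) := hcomm x.1.2.2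
    have h2 : (x.1 : X) * u = u * (x.1 : X) := hVab _ x.1.2.1 _ huV
    have h3 : (x.2 : X) * u = u * (x.2 : X) := hcomm x.2.2.2
    have h4 : (x.2 : X) * h = h * (x.2 : X) := hab _ x.2.2 _ hh
    calc (x.1 : X) * (x.2 : X) * (h * u) = (x.1 : X) * ((x.2 : X) * h) * u := by group
      _ = (x.1 : X) * (h * (x.2 : X)) * u := by rw [h4]
      _ = ((x.1 : X) * h) * ((x.2 : X) * u) := by group
      _ = (h * (x.1 : X)) * (u * (x.2 : X)) := by rw [h1, h3]
      _ = h * ((x.1 : X) * u) * (x.2 : X) := by group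
      _ = h * (u * (x.1 : X)) * (x.2 : X) := by rw [h2]
      _ = h * u * ((x.1 : X) * (x.2 : X)) := by group
  · rintro ⟨a, g⟩ ⟨a', g'⟩ hag
    have h1 : (a : X) * (g : X) = (a' : X) * (g' : X) := congrArg Subtype.val hag
    have hinj := hGV.1
    have h2 := @hinj (⟨(a : X), a.2.1⟩, ⟨(g : X), g.2.1⟩) (⟨(a' : X), a'.2.1⟩, ⟨(g' : X), g'.2.1⟩) h1
    have h3 := Prod.mk.inj h2
    have h4 : (a : X) = (a' : X) := Subtype.mk.inj h3.1
    have h5 : (g : X) = (g' : X) := Subtype.mk.inj h3.2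
    exact Prod.ext (Subtype.ext h4) (Subtype.ext h5)
  · rintro ⟨c, hc⟩
    have hc' : c * (h * u) * c⁻¹ = h * u := by
      have := hcomm hc
      calc c * (h * u) * c⁻¹ = (h * u) * c * c⁻¹ := by rw [this]
        _ = h * u := by group
    obtain ⟨-, a, ha, g, hg, hcag, hah⟩ := conj_structure hVab hGV hp hpG huV hu hab hh hh hc'
    exact ⟨(⟨a, ha, hmem hah⟩, ⟨g, hg⟩), Subtype.ext hcag.symm⟩

end conjugacy

section identity

variable [Fintype X] {V G : Subgroup X} [V.Normal]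

/-- **The column identity.** -/
theorem sum_norm_sq_eq (hVab : ∀ a ∈ V, ∀ b ∈ V, a * b = b * a)
    (hGV : Subgroup.IsComplement' V G) {p : ℕ} (hp : p.Prime) (hpG : ¬ p ∣ Nat.card G)
    {u : X} (huV : u ∈ V) (hu : u ^ p = 1) (H : Subgroup X)
    (hH : H = G ⊓ Subgroup.centralizer ({u} : Set X))
    (hab : ∀ a ∈ H, ∀ b ∈ H, a * b = b * a)
    [Fintype H] (δ : H → ℂ) :
    ∑ χ : IrrCharacter X,
        ‖∑ h : H, (χ : X → ℂ) ((h : X) * u) * conj (δ h)‖ ^ 2
      = (Nat.card H : ℝ) *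
        ∑ h : H, (Nat.card ↥(V ⊓ Subgroup.centralizer ({(h : X)} : Set X)) : ℝ) * ‖δ h‖ ^ 2 := by
  classical
  have hab' : ∀ a ∈ G ⊓ Subgroup.centralizer ({u} : Set X),
      ∀ b ∈ G ⊓ Subgroup.centralizer ({u} : Set X), a * b = b * a := by
    rw [← hH]; exact hab
  have hmemH : ∀ h : H, (h : X) ∈ G ⊓ Subgroup.centralizer ({u} : Set X) := fun h => hH ▸ h.2
  have hcardH : Nat.card H = Nat.card ↥(G ⊓ Subgroup.centralizer ({u} : Set X)) := by rw [hH]
  have key : ∑ χ : IrrCharacter X,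
      (∑ h : H, (χ : X → ℂ) ((h : X) * u) * conj (δ h)) *
        conj (∑ h : H, (χ : X → ℂ) ((h : X) * u) * conj (δ h))
      = (Nat.card H : ℂ) * ∑ h : H,
          (Nat.card ↥(V ⊓ Subgroup.centralizer ({(h : X)} : Set X)) : ℂ) * (δ h * conj (δ h)) := by
    have h1 : ∀ χ : IrrCharacter X,
        (∑ h : H, (χ : X → ℂ) ((h : X) * u) * conj (δ h)) *
          conj (∑ h : H, (χ : X → ℂ) ((h : X) * u) * conj (δ h))
        = ∑ h : H, ∑ h' : H, (conj (δ h) * δ h') *
            ((χ : X → ℂ) ((h : X) * u) * conj ((χ : X → ℂ) ((h' : X) * u))) := by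
      intro χ
      rw [map_sum, Finset.sum_mul_sum]
      refine Finset.sum_congr rfl fun h _ => Finset.sum_congr rfl fun h' _ => ?_
      rw [map_mul, Complex.conj_conj]
      ring
    simp_rw [h1]
    rw [Finset.sum_comm]
    have h2 : ∀ h : H, ∑ χ : IrrCharacter X, ∑ h' : H, (conj (δ h) * δ h') *
          ((χ : X → ℂ) ((h : X) * u) * conj ((χ : X → ℂ) ((h' : X) * u)))
        = ∑ h' : H, (conj (δ h) * δ h') * ∑ χ : IrrCharacter X,
          ((χ : X → ℂ) ((h : X) * u) * conj ((χ : X → ℂ) ((h' : X) * u))) := by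
      intro h
      rw [Finset.sum_comm]
      refine Finset.sum_congr rfl fun h' _ => ?_
      rw [Finset.mul_sum]
    simp_rw [h2]
    rw [Finset.mul_sum]
    refine Finset.sum_congr rfl fun h _ => ?_
    rw [Finset.sum_eq_single h]
    · rw [(column_orthogonality ((h : X) * u) ((h : X) * u)).1 (IsConj.refl _),
        card_centralizer_mul hVab hGV hp hpG huV hu hab' (hmemH h), hcardH]
      push_cast
      ring
    · intro h' _ hne
      rw [(column_orthogonality ((h : X) * u) ((h' : X) * u)).2, mul_zero]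
      intro hconj
      rw [isConj_comm, isConj_iff] at hconj
      obtain ⟨x, hx⟩ := hconj
      have hx' : x⁻¹ * ((h : X) * u) * (x⁻¹)⁻¹ = (h' : X) * u := by
        rw [← hx]; group
      obtain ⟨heq, -⟩ := conj_structure hVab hGV hp hpG huV hu hab' (hmemH h) (hmemH h') hx'
      exact hne (Subtype.ext heq.symm)
    · intro hh
      exact absurd (Finset.mem_univ h) hh
  have hre : ∀ z : ℂ, z * conj z = ((‖z‖ ^ 2 : ℝ) : ℂ) := by
    intro z
    rw [Complex.mul_conj, Complex.normSq_eq_norm_sq]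
  simp_rw [hre] at key
  have key' : ((∑ χ : IrrCharacter X,
      ‖∑ h : H, (χ : X → ℂ) ((h : X) * u) * conj (δ h)‖ ^ 2 : ℝ) : ℂ)
      = (((Nat.card H : ℝ) * ∑ h : H,
          (Nat.card ↥(V ⊓ Subgroup.centralizer ({(h : X)} : Set X)) : ℝ) * ‖δ h‖ ^ 2 : ℝ) : ℂ) := by
    push_cast
    push_cast at key
    exact key
  exact_mod_cast key'

end identity

end Cfsg.Agent.Lib.Helper7.KGV
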