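import Mathlib

set_option autoImplicit false
set_option linter.style.haveILetI false
set_option linter.unusedSectionVars false

/-!
# Gauss sums for the abelian point stabilizer criterion of the `k(GV)` problem, part 1

The Gauss datum of an abelian group acting on a one-dimensional space over a finite field.
-/

namespace Cfsg.Agent.Lib.Helper7.KGauss

open scoped ComplexConjugate

universe u v

open Classical in
/-- The **Gauss datum** of a commutative group `H` acting on `W`: a finite index set `Ω`, a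
family `Ψ` of `p`-th roots of unity and a family `μ` of linear characters of `H`, such that the
class functions `δ_j = ∑ x, Ψ x ^ j • μ x` have absolute value squared `|W : C_W(h)|`. -/
def HasGaussDatum (p : ℕ) {H : Type v} {W : Type u} [CommGroup H] [AddCommGroup W]
    [Module (ZMod p) W] (ρ : Representation (ZMod p) H W) : Prop :=
  ∃ (Ω : Type u) (_ : Fintype Ω) (Ψ : Ω → ℂ) (μ : Ω → H →* ℂˣ),
    (∀ x, Ψ x ^ p = 1) ∧ ¬ p ∣ Fintype.card Ω ∧
    (∀ h : H, ∑ x, ((μ x h : ℂˣ) : ℂ) =
      if (∀ w : W, ρ h w = w) then (Fintype.card Ω : ℂ) else 0) ∧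
    ∀ j : ℕ, j.Coprime p → ∀ h : H,
      ‖∑ x, Ψ x ^ j * ((μ x h : ℂˣ) : ℂ)‖ ^ 2 * (Nat.card {w : W // ρ h w = w} : ℝ)
        = (Nat.card W : ℝ)

/-- The values of a character of a finite group are unitary. -/
theorem conj_unitHom {Ω : Type*} [Group Ω] [Finite Ω] (χ : Ω →* ℂˣ) (y : Ω) :
    conj ((χ y : ℂˣ) : ℂ) = ((χ y⁻¹ : ℂˣ) : ℂ) := by
  have h1 : ((χ y : ℂˣ) : ℂ) ^ orderOf y = 1 := by
    rw [← Units.val_pow_eq_pow_val, ← map_pow, pow_orderOf_eq_one, map_one, Units.val_one]
  have h2 : ‖((χ y : ℂˣ) : ℂ)‖ = 1 :=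
    Complex.norm_eq_one_of_pow_eq_one h1 (orderOf_pos y).ne'
  rw [map_inv, Units.val_inv_eq_inv_val, Complex.inv_eq_conj h2]

/-- The absolute value squared of a character sum in terms of the autocorrelation. -/
theorem sum_mul_conj_sum {Ω : Type*} [Group Ω] [Fintype Ω] (f : Ω → ℂ) (χ : Ω →* ℂˣ) :
    (∑ x, f x * ((χ x : ℂˣ) : ℂ)) * conj (∑ y, f y * ((χ y : ℂˣ) : ℂ))
      = ∑ t, ((χ t : ℂˣ) : ℂ) * ∑ y, f (t * y) * conj (f y) := by
  rw [map_sum, Finset.sum_mul_sum]
  have h1 : ∀ t : Ω, ((χ t : ℂˣ) : ℂ) * ∑ y, f (t * y) * conj (f y)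
      = ∑ y, ((χ t : ℂˣ) : ℂ) * (f (t * y) * conj (f y)) := fun t => Finset.mul_sum _ _ _
  simp_rw [h1]
  rw [Finset.sum_comm]
  rw [Finset.sum_comm (f := fun t y => ((χ t : ℂˣ) : ℂ) * (f (t * y) * conj (f y)))]
  refine Finset.sum_congr rfl fun y _ => ?_
  refine (Fintype.sum_equiv (Equiv.mulRight y) _ _ fun t => ?_).symm
  simp only [Equiv.coe_mulRight]
  rw [map_mul (starRingEnd ℂ), conj_unitHom, map_mul χ t y]
  have h2 : ((χ y : ℂˣ) : ℂ) * ((χ y⁻¹ : ℂˣ) : ℂ) = 1 := by
    rw [← Units.val_mul, ← map_mul, mul_inv_cancel, map_one, Units.val_one]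
  rw [Units.val_mul]
  calc ((χ t : ℂˣ) : ℂ) * (f (t * y) * conj (f y))
      = ((χ t : ℂˣ) : ℂ) * (f (t * y) * conj (f y)) * (((χ y : ℂˣ) : ℂ) * ((χ y⁻¹ : ℂˣ) : ℂ)) := by
        rw [h2, mul_one]
    _ = f (t * y) * (((χ t : ℂˣ) : ℂ) * ((χ y : ℂˣ) : ℂ)) * (conj (f y) * ((χ y⁻¹ : ℂˣ) : ℂ)) := by
        ring

section field

variable {p : ℕ} [Fact p.Prime] {H : Type v} [CommGroup H] {W : Type u} [AddCommGroup W]
  [Module (ZMod p) W] [Finite W]

/-- The Gauss datum of a group acting through the multiplicative group of a finite field on a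
one-dimensional space. -/
theorem hasGaussDatum_of_field (ρ : Representation (ZMod p) H W) [Nontrivial W]
    {F : Type u} [Field F] [Finite F] (ι : F →+* Module.End (ZMod p) W) (lam : H →* Fˣ)
    (hι : ∀ h, ι ((lam h : Fˣ) : F) = ρ h)
    (hbij : ∀ w₀ : W, w₀ ≠ 0 → Function.Bijective (fun a : F => ι a w₀)) :
    HasGaussDatum p ρ := by
  classical
  have hp : p.Prime := Fact.out
  letI : Fintype F := Fintype.ofFinite F
  letI : Fintype W := Fintype.ofFinite W
  obtain ⟨w₀, hw₀⟩ := exists_ne (0 : W)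
  set ev : F → W := fun a => ι a w₀ with hev
  have hev_bij : Function.Bijective ev := hbij w₀ hw₀
  have hev_add : ∀ a b, ev (a + b) = ev a + ev b := by
    intro a b
    simp only [hev, map_add, LinearMap.add_apply]
  have hev_zero : ev 0 = 0 := by simp only [hev, map_zero, LinearMap.zero_apply]
  have hev_sub : ∀ a b, ev (a - b) = ev a - ev b := by
    intro a b
    simp only [hev, map_sub, LinearMap.sub_apply]
  -- a nontrivial additive character of `W`
  have hw₀' : Multiplicative.ofAdd w₀ ≠ 1 := fun h => hw₀ (by simpa using h)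
  haveI : NeZero (Monoid.exponent (Multiplicative W)) :=
    ⟨Monoid.exponent_ne_zero_of_finite⟩
  obtain ⟨ψ₀, hψ₀⟩ := CommGroup.exists_apply_ne_one_of_hasEnoughRootsOfUnity
    (Multiplicative W) ℂ hw₀'
  set ψ : W → ℂ := fun w => ((ψ₀ (Multiplicative.ofAdd w) : ℂˣ) : ℂ) with hψ
  have hψ_add : ∀ a b, ψ (a + b) = ψ a * ψ b := by
    intro a b
    simp only [hψ, ofAdd_add, map_mul, Units.val_mul]
  have hψ_zero : ψ 0 = 1 := by simp only [hψ, ofAdd_zero, map_one, Units.val_one]
  have hψ_pow : ∀ w, ψ w ^ p = 1 := by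
    intro w
    have h1 : (Multiplicative.ofAdd w) ^ p = 1 := by
      rw [← ofAdd_nsmul, ZModModule.char_nsmul_eq_zero p w, ofAdd_zero]
    simp only [hψ]
    rw [← Units.val_pow_eq_pow_val, ← map_pow, h1, map_one, Units.val_one]
  have hψ_ne : ψ w₀ ≠ 1 := by
    intro h
    apply hψ₀
    exact Units.ext h
  have hψ_norm : ∀ w, ‖ψ w‖ = 1 := fun w =>
    Complex.norm_eq_one_of_pow_eq_one (hψ_pow w) hp.ne_zero
  have hψ_neg : ∀ w, ψ (-w) = conj (ψ w) := by
    intro w
    have h1 : ψ (-w) * ψ w = 1 := by rw [← hψ_add, neg_add_cancel, hψ_zero]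
    have h2 : ψ w ≠ 0 := fun h => by
      have := hψ_norm w
      rw [h, norm_zero] at this
      exact zero_ne_one this
    rw [← Complex.inv_eq_conj (hψ_norm w)]
    exact eq_inv_of_mul_eq_one_left h1
  -- the sum of a nontrivial additive character vanishes
  have hsumW : ∀ j : ℕ, j.Coprime p → ∑ w : W, ψ w ^ j = 0 := by
    intro j hj
    set φ : Multiplicative W →* ℂ := (Units.coeHom ℂ).comp (ψ₀ ^ j) with hφ
    have hφ1 : φ ≠ 1 := by
      intro h
      have h1 : φ (Multiplicative.ofAdd w₀) = 1 := by rw [h]; rfl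
      have h2 : ψ w₀ ^ j = 1 := by
        simpa [hφ, hψ] using h1
      have h3 := (pow_gcd_eq_one (a := ψ w₀) (m := j) (n := p)).2 ⟨h2, hψ_pow w₀⟩
      rw [Nat.Coprime.gcd_eq_one hj, pow_one] at h3
      exact hψ_ne h3
    have h4 := sum_hom_units_eq_zero φ hφ1
    rw [← h4]
    refine Fintype.sum_equiv Multiplicative.ofAdd _ _ fun w => ?_
    simp [hφ, hψ]
  -- the sum over the units of `F`
  have hsumU : ∀ j : ℕ, j.Coprime p → ∑ x : Fˣ, ψ (ev (x : F)) ^ j = -1 := by
    intro j hj
    have h1 : ∑ a : F, ψ (ev a) ^ j = 0 := by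
      rw [← hsumW j hj]
      exact Fintype.sum_equiv (Equiv.ofBijective ev hev_bij) _ _ fun a => rfl
    have h2 : ∑ a : F, ψ (ev a) ^ j = ψ (ev 0) ^ j + ∑ x : Fˣ, ψ (ev (x : F)) ^ j := by
      rw [← Finset.add_sum_erase Finset.univ _ (Finset.mem_univ (0 : F))]
      congr 1
      refine (Finset.sum_bij (fun (x : Fˣ) _ => (x : F)) ?_ ?_ ?_ ?_).symm
      · intro x _
        exact Finset.mem_erase.mpr ⟨x.ne_zero, Finset.mem_univ _⟩
      · intro x _ y _ hxy
        exact Units.ext hxy
      · intro a ha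
        exact ⟨Units.mk0 a (Finset.ne_of_mem_erase ha), Finset.mem_univ _, rfl⟩
      · intro x _
        rfl
    rw [h1, hev_zero, hψ_zero, one_pow] at h2
    linear_combination -h2
  -- the duality of the unit group
  haveI : NeZero (Monoid.exponent Fˣ) := ⟨Monoid.exponent_ne_zero_of_finite⟩
  obtain ⟨κ'⟩ := CommGroup.monoidHom_mulEquiv_of_hasEnoughRootsOfUnity Fˣ ℂ
  set κ : Fˣ ≃* (Fˣ →* ℂˣ) := κ'.symm with hκ
  -- the datum
  let μ : Fˣ → H →* ℂˣ := fun x =>
    { toFun := fun h => κ (lam h) x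
      map_one' := by rw [map_one, map_one]; rfl
      map_mul' := fun a b => by rw [map_mul, map_mul]; rfl }
  have hμ : ∀ x h, μ x h = κ (lam h) x := fun _ _ => rfl
  have hcardU : Fintype.card Fˣ = Fintype.card W - 1 := by
    rw [Fintype.card_units, Fintype.card_of_bijective hev_bij]
  have hpW : p ∣ Fintype.card W := by
    rw [Module.card_eq_pow_finrank (K := ZMod p) (V := W), ZMod.card]
    exact dvd_pow_self p (Module.finrank_pos (R := ZMod p) (M := W)).ne'
  have hWpos : 0 < Fintype.card W := Fintype.card_pos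
  -- triviality of the action
  have hι_inj : Function.Injective ι := ι.injective
  have htriv : ∀ h : H, (∀ w : W, ρ h w = w) ↔ lam h = 1 := by
    intro h
    constructor
    · intro hw
      have h1 : ι ((lam h : Fˣ) : F) = ι 1 := by
        rw [hι, map_one]
        ext w
        exact hw w
      exact Units.ext (hι_inj h1)
    · intro h1 w
      rw [← hι, h1, Units.val_one, map_one]
      rfl
  have hfix : ∀ h : H, lam h ≠ 1 → ∀ w : W, ρ h w = w → w = 0 := by
    intro h h1 w hw
    by_contra hw0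
    apply h1
    have h2 : (fun a : F => ι a w) ((lam h : Fˣ) : F) = (fun a : F => ι a w) 1 := by
      simp only [hι, map_one]
      exact hw
    exact Units.ext ((hbij w hw0).1 h2)
  refine ⟨Fˣ, inferInstance, fun x => ψ (ev (x : F)), μ, fun x => hψ_pow _, ?_, ?_, ?_⟩
  · rw [hcardU]
    intro hdvd
    have h1 : p ∣ Fintype.card W - (Fintype.card W - 1) := Nat.dvd_sub hpW hdvd
    have h2 : Fintype.card W - (Fintype.card W - 1) = 1 := by omega
    rw [h2] at h1
    exact hp.one_lt.ne' (Nat.dvd_one.mp h1)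
  · intro h
    simp only [hμ]
    by_cases h1 : lam h = 1
    · rw [if_pos ((htriv h).2 h1), h1, map_one]
      simp
    · rw [if_neg (fun hw => h1 ((htriv h).1 hw))]
      have h2 : κ (lam h) ≠ 1 := fun h2 => h1 (by simpa using h2)
      set φ : Fˣ →* ℂ := (Units.coeHom ℂ).comp (κ (lam h)) with hφ
      have hφ1 : φ ≠ 1 := by
        intro h3
        apply h2
        ext x
        have := DFunLike.congr_fun h3 x
        simpa [hφ] using this
      exact sum_hom_units_eq_zero φ hφ1
  · intro j hj h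
    simp only [hμ]
    by_cases h1 : lam h = 1
    · have h2 : ∀ w : W, ρ h w = w := (htriv h).2 h1
      have h3 : Nat.card {w : W // ρ h w = w} = Nat.card W := by
        apply Nat.card_congr
        exact ⟨fun w => w.1, fun w => ⟨w, h2 w⟩, fun w => rfl, fun w => rfl⟩
      rw [h3, h1, map_one]
      simp only [MonoidHom.one_apply, Units.val_one, mul_one]
      rw [hsumU j hj, norm_neg, norm_one, one_pow, one_mul]
    · have h3 : Nat.card {w : W // ρ h w = w} = 1 := by
        rw [Nat.card_eq_one_iff_unique]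
        refine ⟨⟨fun a b => Subtype.ext ?_⟩, ⟨⟨0, map_zero _⟩⟩⟩
        rw [hfix h h1 a.1 a.2, hfix h h1 b.1 b.2]
      rw [h3, Nat.cast_one, mul_one]
      set χ : Fˣ →* ℂˣ := κ (lam h) with hχ
      have hχ1 : χ ≠ 1 := fun h2 => h1 (by simpa [hχ] using h2)
      set f : Fˣ → ℂ := fun x => ψ (ev (x : F)) ^ j with hf
      have hkey := sum_mul_conj_sum f χ
      have hA1 : ∑ y : Fˣ, f (1 * y) * conj (f y) = (Fintype.card Fˣ : ℂ) := by
        have : ∀ y : Fˣ, f (1 * y) * conj (f y) = 1 := by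
          intro y
          rw [one_mul, Complex.mul_conj, Complex.normSq_eq_norm_sq]
          simp only [hf, norm_pow, hψ_norm, one_pow]
          norm_num
        simp_rw [this]
        simp
      have hAt : ∀ t : Fˣ, t ≠ 1 → ∑ y : Fˣ, f (t * y) * conj (f y) = -1 := by
        intro t ht
        have ht1 : (t : F) - 1 ≠ 0 := by
          intro h0
          apply ht
          exact Units.ext (sub_eq_zero.mp h0)
        set u : Fˣ := Units.mk0 ((t : F) - 1) ht1 with hu
        rw [← hsumU j hj]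
        refine Fintype.sum_equiv (Equiv.mulLeft u) _ _ fun y => ?_
        simp only [hf, Equiv.coe_mulLeft, map_pow, ← mul_pow]
        congr 1
        rw [← hψ_neg, ← hψ_add, ← sub_eq_add_neg, ← hev_sub]
        congr 2
        simp only [hu, Units.val_mul, Units.val_mk0]
        ring
      have hsumχ : ∑ t : Fˣ, ((χ t : ℂˣ) : ℂ) = 0 := by
        set φ : Fˣ →* ℂ := (Units.coeHom ℂ).comp χ with hφ
        have hφ1 : φ ≠ 1 := by
          intro h3
          apply hχ1
          ext x
          have := DFunLike.congr_fun h3 x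
          simpa [hφ] using this
        exact sum_hom_units_eq_zero φ hφ1
      have hrhs : ∑ t : Fˣ, ((χ t : ℂˣ) : ℂ) * ∑ y, f (t * y) * conj (f y)
          = (Fintype.card W : ℂ) := by
        have h5 : ∀ t : Fˣ, ((χ t : ℂˣ) : ℂ) * ∑ y, f (t * y) * conj (f y)
            = (if t = 1 then ((Fintype.card Fˣ : ℂ) + 1) else 0) - ((χ t : ℂˣ) : ℂ) := by
          intro t
          by_cases ht : t = 1
          · rw [if_pos ht, ht, hA1, map_one, Units.val_one]
            ring
          · rw [if_neg ht, hAt t ht]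
            ring
        simp_rw [h5]
        rw [Finset.sum_sub_distrib, hsumχ, sub_zero, Finset.sum_ite_eq' Finset.univ (1 : Fˣ)]
        simp only [Finset.mem_univ, if_true]
        rw [hcardU]
        have : ((Fintype.card W - 1 : ℕ) : ℂ) = (Fintype.card W : ℂ) - 1 := by
          rw [Nat.cast_sub hWpos, Nat.cast_one]
        rw [this]
        ring
      rw [hrhs] at hkey
      have hfin : (∑ x, f x * ((χ x : ℂˣ) : ℂ)) * conj (∑ y, f y * ((χ y : ℂˣ) : ℂ))
          = ((‖∑ x, f x * ((χ x : ℂˣ) : ℂ)‖ ^ 2 : ℝ) : ℂ) := by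
        rw [Complex.mul_conj, Complex.normSq_eq_norm_sq]
      rw [hfin] at hkey
      rw [Nat.card_eq_fintype_card]
      exact_mod_cast hkey

end field

end Cfsg.Agent.Lib.Helper7.KGauss
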