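import Mathlib
import Cfsg.Prelude.Def_Characters
import Cfsg.Agent.Lib.helper3.Irr10
import Cfsg.Agent.Lib.helper3.Lin
import Cfsg.Agent.Lib.helper3.AlgInt2
import Cfsg.Agent.Lib.Helper7.KGauss1

set_option autoImplicit false
set_option linter.style.haveILetI false
set_option linter.unusedSectionVars false

/-!
# The abelian point stabilizer criterion for `k(GV)`: expansion into roots of unity
-/

namespace Cfsg.Agent.Lib.Helper7.KGV

open Cfsg Cfsg.Agent.Lib.helper3.Irr Cfsg.Agent.Lib.helper3.Lin Cfsg.Agent.Lib.helper3.AlgInt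
open Cfsg.Agent.Lib.Helper7.KGauss
open scoped ComplexConjugate

/-- Orthogonality of linear characters. -/
theorem sum_hom_mul_conj {K : Type*} [Group K] [Fintype K] (α β : K →* ℂˣ) :
    ∑ k : K, ((α k : ℂˣ) : ℂ) * conj ((β k : ℂˣ) : ℂ)
      = if α = β then (Fintype.card K : ℂ) else 0 := by
  classical
  have h1 : ∀ k : K, ((α k : ℂˣ) : ℂ) * conj ((β k : ℂˣ) : ℂ) = (((α * β⁻¹) k : ℂˣ) : ℂ) := by
    intro k
    rw [conj_unitHom, MonoidHom.mul_apply, MonoidHom.inv_apply, Units.val_mul, map_inv]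
  simp_rw [h1]
  by_cases hab : α = β
  · rw [if_pos hab, hab]
    have : ∀ x : K, (((β * β⁻¹) x : ℂˣ) : ℂ) = 1 := by
      intro x
      rw [MonoidHom.mul_apply, MonoidHom.inv_apply, mul_inv_cancel, Units.val_one]
    simp_rw [this]
    simp
  · rw [if_neg hab]
    set φ : K →* ℂ := (Units.coeHom ℂ).comp (α * β⁻¹) with hφ
    have hφ1 : φ ≠ 1 := by
      intro h3
      apply hab
      have h4 : α * β⁻¹ = 1 := by
        ext x
        have := DFunLike.congr_fun h3 x
        simpa [hφ] using this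
      exact mul_inv_eq_one.mp h4
    exact sum_hom_units_eq_zero φ hφ1

/-- A sum of `p`-th roots of unity whose number is prime to `p` does not vanish. -/
theorem sum_roots_ne_zero {p : ℕ} (hp : p.Prime) {I : Type*} [Fintype I] (ε : I → ℂ)
    (hε : ∀ i, ε i ^ p = 1) (hI : ¬ p ∣ Fintype.card I) : ∑ i, ε i ≠ 0 := by
  intro h0
  haveI : NeZero p := ⟨hp.ne_zero⟩
  have hζ : IsPrimitiveRoot (Complex.exp (2 * Real.pi * Complex.I / ((p : ℕ) : ℂ))) p :=
    Complex.isPrimitiveRoot_exp _ hp.ne_zero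
  set ζ := Complex.exp (2 * Real.pi * Complex.I / ((p : ℕ) : ℂ)) with hζdef
  have hk : ∀ i, ∃ k : ℕ, ε i = ζ ^ k := by
    intro i
    obtain ⟨k, -, hk⟩ := hζ.eq_pow_of_pow_eq_one (hε i)
    exact ⟨k, hk.symm⟩
  choose k hk using hk
  set ω : ℂ := ∑ i, ∑ l ∈ Finset.range (k i), ζ ^ l with hω
  have hζint : IsIntegral ℤ ζ := hζ.isIntegral hp.pos
  have hωint : IsIntegral ℤ ω :=
    IsIntegral.sum _ fun i _ => IsIntegral.sum _ fun l _ => hζint.pow l
  have h1 : ((Fintype.card I : ℤ) : ℂ) = (1 - ζ) * ω := by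
    rw [hω, Finset.mul_sum]
    have h2 : ∀ i, (1 - ζ) * ∑ l ∈ Finset.range (k i), ζ ^ l = 1 - ε i := by
      intro i
      rw [mul_neg_geom_sum, hk i]
    simp_rw [h2]
    rw [Finset.sum_sub_distrib, h0, sub_zero]
    simp
  have hζ' : IsPrimitiveRoot ζ (p ^ (0 + 1)) := by simpa using hζ
  have hdvd := prime_dvd_of_eq_one_sub_mul_pow hp 0 hζ' (Fintype.card I : ℤ) ω hωint h1
  exact hI (by exact_mod_cast hdvd)

variable {X : Type*} [Group X] [Finite X]

open Classical in
/-- **Expansion into roots of unity.** -/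
theorem exists_roots_expansion {p : ℕ} (H : Subgroup X) [Fintype H]
    (hHab : ∀ a ∈ H, ∀ b ∈ H, a * b = b * a) (u : X) (hu : u ^ p = 1)
    (hHu : ∀ a ∈ H, a * u = u * a) (χ : X → ℂ) (hχ : IsCharacter X χ) (d : ℕ) (hd : χ 1 = d)
    {Ω : Type*} [Fintype Ω] (Ψ : Ω → ℂ) (μ : Ω → H →* ℂˣ) (hΨ : ∀ x, Ψ x ^ p = 1)
    (hsum : ∀ h : H, ∑ x, ((μ x h : ℂˣ) : ℂ) = if h = 1 then (Fintype.card Ω : ℂ) else 0) :
    ∃ (N : ℕ) (ε : Fin N → ℂ), (∀ i, ε i ^ p = 1) ∧
      N * Fintype.card H = d * Fintype.card Ω ∧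
      ∀ j : ℕ, ∑ h : H, χ ((h : X) * u ^ j) * conj (∑ x, Ψ x ^ j * ((μ x h : ℂˣ) : ℂ))
        = (Fintype.card H : ℂ) * ∑ i, ε i ^ j := by
  classical
  -- the abelian subgroup generated by `H` and `u`
  set S : Set X := (H : Set X) ∪ {u} with hS
  set A : Subgroup X := Subgroup.closure S with hA
  have hScomm : ∀ a ∈ S, ∀ b ∈ S, a * b = b * a := by
    rintro a (ha | ha) b (hb | hb)
    · exact hHab a ha b hb
    · rw [Set.mem_singleton_iff] at hb
      rw [hb]; exact hHu a ha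
    · rw [Set.mem_singleton_iff] at ha
      rw [ha]; exact (hHu b hb).symm
    · rw [Set.mem_singleton_iff] at ha hb
      rw [ha, hb]
  have hA1 : ∀ a ∈ A, ∀ s ∈ S, s * a = a * s := by
    intro a ha
    have : A ≤ Subgroup.centralizer S := by
      rw [hA, Subgroup.closure_le]
      intro b hb
      rw [SetLike.mem_coe, Subgroup.mem_centralizer_iff]
      intro s hs
      exact hScomm s hs b hb
    exact Subgroup.mem_centralizer_iff.mp (this ha)
  have hAcomm : ∀ a b : A, a * b = b * a := by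
    rintro ⟨a, ha⟩ ⟨b, hb⟩
    apply Subtype.ext
    show a * b = b * a
    have : A ≤ Subgroup.centralizer ({a} : Set X) := by
      rw [hA, Subgroup.closure_le]
      intro s hs
      rw [SetLike.mem_coe, Subgroup.mem_centralizer_iff]
      intro y hy
      rw [Set.mem_singleton_iff] at hy
      rw [hy]
      exact (hA1 a ha s hs).symm
    have h1 := Subgroup.mem_centralizer_iff.mp (this hb) a (Set.mem_singleton a)
    exact h1
  have hHA : H ≤ A := fun h hh => Subgroup.subset_closure (Or.inl hh)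
  have huA : u ∈ A := Subgroup.subset_closure (Or.inr rfl)
  set uA : A := ⟨u, huA⟩ with huAdef
  set incl : H →* A := Subgroup.inclusion hHA with hincl
  -- decomposition of the restriction
  have hres : IsCharacter A (fun a : A => χ a) := isCharacter_restrict hχ A
  obtain ⟨m, hm⟩ := exists_decomposition_of_isCharacter hres
  have hθ1 : ∀ θ : IrrCharacter A, (θ : A → ℂ) 1 = 1 := fun θ =>
    apply_one_eq_one_of_comm hAcomm θ.2
  have hθc : ∀ θ : IrrCharacter A, IsCharacter A (θ : A → ℂ) := fun θ =>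
    isCharacter_of_isIrrCharacter θ.2
  let θu : IrrCharacter A → A →* ℂˣ := fun θ => (toHom (hθc θ) (hθ1 θ)).toHomUnits
  have hθu : ∀ (θ : IrrCharacter A) (a : A), ((θu θ a : ℂˣ) : ℂ) = (θ : A → ℂ) a := fun θ a => rfl
  let θH : IrrCharacter A → H →* ℂˣ := fun θ => (θu θ).comp incl
  let c : IrrCharacter A → ℂ := fun θ => ((θu θ uA : ℂˣ) : ℂ)
  have hcp : ∀ θ, c θ ^ p = 1 := by
    intro θ
    show ((θu θ uA : ℂˣ) : ℂ) ^ p = 1
    rw [← Units.val_pow_eq_pow_val, ← map_pow]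
    have : uA ^ p = 1 := Subtype.ext (by simpa using hu)
    rw [this, map_one, Units.val_one]
  have hχeval : ∀ (h : H) (j : ℕ), χ ((h : X) * u ^ j)
      = ∑ θ : IrrCharacter A, (m θ : ℂ) * (((θH θ h : ℂˣ) : ℂ) * c θ ^ j) := by
    intro h j
    have h1 : χ ((h : X) * u ^ j) = (fun a : A => χ a) (incl h * uA ^ j) := rfl
    rw [h1, hm, Finset.sum_apply]
    refine Finset.sum_congr rfl fun θ _ => ?_
    rw [Pi.smul_apply, smul_eq_mul, ← hθu θ, map_mul, map_pow, Units.val_mul,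
      Units.val_pow_eq_pow_val]
    rfl
  -- the index type
  let n : IrrCharacter A → Ω → ℕ := fun θ x => if θH θ = μ x then m θ else 0
  let I := Σ (θ : IrrCharacter A), Σ (x : Ω), Fin (n θ x)
  let ε : I → ℂ := fun i => c i.1 * conj (Ψ i.2.1)
  have hεp : ∀ i, ε i ^ p = 1 := by
    intro i
    show (c i.1 * conj (Ψ i.2.1)) ^ p = 1
    rw [mul_pow, hcp, ← map_pow, hΨ, map_one, one_mul]
  have hεsum : ∀ j : ℕ, ∑ i : I, ε i ^ j
      = ∑ θ : IrrCharacter A, ∑ x : Ω, (n θ x : ℂ) * (c θ * conj (Ψ x)) ^ j := by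
    intro j
    rw [Fintype.sum_sigma]
    refine Finset.sum_congr rfl fun θ _ => ?_
    rw [Fintype.sum_sigma]
    refine Finset.sum_congr rfl fun x _ => ?_
    show ∑ _k : Fin (n θ x), (c θ * conj (Ψ x)) ^ j = _
    rw [Finset.sum_const, Finset.card_univ, Fintype.card_fin, nsmul_eq_mul]
  have hmain : ∀ j : ℕ,
      ∑ h : H, χ ((h : X) * u ^ j) * conj (∑ x, Ψ x ^ j * ((μ x h : ℂˣ) : ℂ))
        = (Fintype.card H : ℂ) * ∑ i : I, ε i ^ j := by
    intro j
    rw [hεsum j]
    have h1 : ∀ h : H, χ ((h : X) * u ^ j) * conj (∑ x, Ψ x ^ j * ((μ x h : ℂˣ) : ℂ))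
        = ∑ θ : IrrCharacter A, ∑ x : Ω, ((m θ : ℂ) * (c θ * conj (Ψ x)) ^ j) *
            (((θH θ h : ℂˣ) : ℂ) * conj ((μ x h : ℂˣ) : ℂ)) := by
      intro h
      rw [hχeval h j, map_sum, Finset.sum_mul_sum]
      refine Finset.sum_congr rfl fun θ _ => Finset.sum_congr rfl fun x _ => ?_
      rw [map_mul, map_pow, mul_pow]
      ring
    simp_rw [h1]
    rw [Finset.sum_comm, Finset.mul_sum]
    refine Finset.sum_congr rfl fun θ _ => ?_
    rw [Finset.sum_comm, Finset.mul_sum]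
    refine Finset.sum_congr rfl fun x _ => ?_
    rw [← Finset.mul_sum, sum_hom_mul_conj]
    show _ = (Fintype.card H : ℂ) * (((if θH θ = μ x then m θ else 0 : ℕ) : ℂ) * _)
    by_cases hθx : θH θ = μ x
    · rw [if_pos hθx, if_pos hθx]; ring
    · rw [if_neg hθx, if_neg hθx]; simp
  -- the cardinality
  have hcard : Fintype.card I * Fintype.card H = d * Fintype.card Ω := by
    have h0 := hmain 0
    simp only [pow_zero, one_mul, mul_one] at h0
    have h2 : ∑ h : H, χ (h : X) * conj (∑ x, ((μ x h : ℂˣ) : ℂ))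
        = (d : ℂ) * (Fintype.card Ω : ℂ) := by
      rw [Finset.sum_eq_single (1 : H)]
      · rw [hsum 1, if_pos rfl, Subgroup.coe_one, hd, map_natCast]
      · intro h _ hne
        rw [hsum h, if_neg hne, map_zero, mul_zero]
      · intro hh
        exact absurd (Finset.mem_univ _) hh
    rw [h2] at h0
    simp only [Finset.sum_const, Finset.card_univ, nsmul_eq_mul, mul_one] at h0
    have h3 : ((Fintype.card I * Fintype.card H : ℕ) : ℂ) = ((d * Fintype.card Ω : ℕ) : ℂ) := by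
      push_cast
      rw [h0]
      ring
    exact_mod_cast h3
  -- reindex by `Fin`
  set e := Fintype.equivFin I with he
  refine ⟨Fintype.card I, fun k => ε (e.symm k), fun k => hεp _, hcard, ?_⟩
  intro j
  rw [hmain j]
  congr 1
  exact Fintype.sum_equiv e _ _ fun i => by simp

end Cfsg.Agent.Lib.Helper7.KGV
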