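import Mathlib
import Cfsg.Agent.Lib.Helper7.KGauss1

set_option autoImplicit false
set_option linter.style.haveILetI false
set_option linter.unusedSectionVars false

/-!
# Gauss sums for the abelian point stabilizer criterion, part 2

The field generated by an irreducible commutative action, and the Gauss datum of a coprime
commutative action by induction (Maschke).
-/

namespace Cfsg.Agent.Lib.Helper7.KGauss

open scoped ComplexConjugate

universe u v

section fieldOfIrr

variable {p : ℕ} [Fact p.Prime] {H : Type v} [CommGroup H] {W : Type u} [AddCommGroup W]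
  [Module (ZMod p) W] [Finite W]

open scoped IsMulCommutative in
/-- An irreducible action of a commutative group on a finite elementary abelian group factors
through the multiplicative group of a finite field acting on a one-dimensional space. -/
theorem exists_field_of_irreducible (ρ : Representation (ZMod p) H W) [Nontrivial W]
    (hirr : ∀ S : Submodule (ZMod p) W, (∀ h w, w ∈ S → ρ h w ∈ S) → S = ⊥ ∨ S = ⊤) :
    ∃ (F : Type u) (_ : Field F) (_ : Finite F) (ι : F →+* Module.End (ZMod p) W)
      (lam : H →* Fˣ), (∀ h, ι ((lam h : Fˣ) : F) = ρ h) ∧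
      ∀ w₀ : W, w₀ ≠ 0 → Function.Bijective (fun a : F => ι a w₀) := by
  classical
  set E : Subalgebra (ZMod p) (Module.End (ZMod p) W) :=
    Algebra.adjoin (ZMod p) (Set.range ρ) with hE
  have hcomm : ∀ a ∈ Set.range ρ, ∀ b ∈ Set.range ρ, a * b = b * a := by
    rintro _ ⟨a, rfl⟩ _ ⟨b, rfl⟩
    rw [← map_mul, ← map_mul, mul_comm]
  haveI hEc : IsMulCommutative E := Algebra.isMulCommutative_adjoin (ZMod p) hcomm
  have hρE : ∀ h, ρ h ∈ E := fun h => Algebra.subset_adjoin ⟨h, rfl⟩
  have hEcomm : ∀ a ∈ E, ∀ b ∈ E, a * b = b * a := by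
    intro a ha b hb
    have := mul_comm (⟨a, ha⟩ : E) ⟨b, hb⟩
    exact congrArg Subtype.val this
  -- nonzero elements of `E` are injective
  have hinj : ∀ e ∈ E, e ≠ 0 → Function.Injective e := by
    intro e he he0
    have hker : LinearMap.ker e = ⊥ ∨ LinearMap.ker e = ⊤ := by
      apply hirr
      intro h w hw
      rw [LinearMap.mem_ker] at hw ⊢
      have h1 : e (ρ h w) = (e * ρ h) w := rfl
      rw [h1, hEcomm e he (ρ h) (hρE h)]
      show ρ h (e w) = 0
      rw [hw, map_zero]
    rcases hker with h | h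
    · exact LinearMap.ker_eq_bot.mp h
    · exfalso
      apply he0
      exact LinearMap.ker_eq_top.mp h
  have hsurj : ∀ e ∈ E, e ≠ 0 → Function.Surjective e := fun e he he0 =>
    Finite.surjective_of_injective (hinj e he he0)
  haveI : Nontrivial E := by
    refine ⟨⟨0, 1, ?_⟩⟩
    intro h
    have h1 : (0 : Module.End (ZMod p) W) = 1 := congrArg Subtype.val h
    obtain ⟨w, hw⟩ := exists_ne (0 : W)
    apply hw
    have := LinearMap.congr_fun h1 w
    simpa using this.symm
  haveI : NoZeroDivisors E := by
    refine ⟨?_⟩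
    intro a b hab
    by_cases hb : b = 0
    · exact Or.inr hb
    · left
      have hb' : (b : Module.End (ZMod p) W) ≠ 0 := fun h => hb (Subtype.ext h)
      have hs := hsurj b b.2 hb'
      apply Subtype.ext
      apply LinearMap.ext
      intro w
      obtain ⟨w', rfl⟩ := hs w
      have h1 : ((a * b : E) : Module.End (ZMod p) W) = 0 := by rw [hab]; rfl
      have := LinearMap.congr_fun h1 w'
      simpa using this
  haveI : IsDomain E := NoZeroDivisors.to_isDomain E
  haveI : Finite (Module.End (ZMod p) W) :=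
    Finite.of_injective (fun f : Module.End (ZMod p) W => (f : W → W)) DFunLike.coe_injective
  haveI : Finite E := Finite.of_injective (fun e : E => (e : Module.End (ZMod p) W))
    Subtype.val_injective
  letI : Fintype E := Fintype.ofFinite E
  letI : Field E := Fintype.fieldOfDomain E
  let f0 : H →* E :=
    { toFun := fun h => ⟨ρ h, hρE h⟩
      map_one' := Subtype.ext (map_one ρ)
      map_mul' := fun a b => Subtype.ext (map_mul ρ a b) }
  refine ⟨E, inferInstance, inferInstance, E.val.toRingHom, f0.toHomUnits, ?_, ?_⟩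
  · intro h
    rfl
  · intro w₀ hw₀
    constructor
    · intro a b hab
      by_contra hne
      have h1 : ((a - b : E) : Module.End (ZMod p) W) ≠ 0 := by
        intro h
        apply hne
        have : a - b = 0 := Subtype.ext h
        exact sub_eq_zero.mp this
      have h2 := hinj _ (a - b).2 h1
      apply hw₀
      apply h2
      have h3 : (a : Module.End (ZMod p) W) w₀ = (b : Module.End (ZMod p) W) w₀ := hab
      simp [h3]
    · -- the image is an invariant subspace
      let S : Submodule (ZMod p) W :=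
        { carrier := {w | ∃ e : E, (e : Module.End (ZMod p) W) w₀ = w}
          add_mem' := by
            rintro _ _ ⟨a, rfl⟩ ⟨b, rfl⟩
            exact ⟨a + b, rfl⟩
          zero_mem' := ⟨0, rfl⟩
          smul_mem' := by
            rintro c _ ⟨a, rfl⟩
            exact ⟨c • a, rfl⟩ }
      have hS : S = ⊥ ∨ S = ⊤ := by
        apply hirr
        rintro h _ ⟨a, rfl⟩
        exact ⟨⟨ρ h, hρE h⟩ * a, rfl⟩
      have hw₀S : w₀ ∈ S := ⟨1, rfl⟩
      rcases hS with h | h
      · exfalso
        rw [h, Submodule.mem_bot] at hw₀S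
        exact hw₀ hw₀S
      · intro w
        have : w ∈ S := by rw [h]; trivial
        obtain ⟨e, he⟩ := this
        exact ⟨e, he⟩

end fieldOfIrr

section induction

variable {p : ℕ} [Fact p.Prime] {H : Type v} [CommGroup H] [Finite H]

/-- The Gauss datum of the sum of two complementary invariant subspaces. -/
theorem hasGaussDatum_of_isCompl {W : Type u} [AddCommGroup W] [Module (ZMod p) W] [Finite W]
    (ρ : Representation (ZMod p) H W) (σ τ : Subrepresentation ρ)
    (hc : IsCompl σ.toSubmodule τ.toSubmodule)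
    (h1 : HasGaussDatum p σ.toRepresentation) (h2 : HasGaussDatum p τ.toRepresentation) :
    HasGaussDatum p ρ := by
  classical
  have hp : p.Prime := Fact.out
  obtain ⟨Ω₁, _, Ψ₁, μ₁, hΨ₁, hc₁, hs₁, hn₁⟩ := h1
  obtain ⟨Ω₂, _, Ψ₂, μ₂, hΨ₂, hc₂, hs₂, hn₂⟩ := h2
  set e := Submodule.prodEquivOfIsCompl σ.toSubmodule τ.toSubmodule hc with he
  have he_apply : ∀ x : σ.toSubmodule × τ.toSubmodule, e x = (x.1 : W) + (x.2 : W) :=
    fun x => Submodule.coe_prodEquivOfIsCompl' _ _ hc x
  have hρe : ∀ (h : H) (x : σ.toSubmodule × τ.toSubmodule),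
      ρ h (e x) = e (σ.toRepresentation h x.1, τ.toRepresentation h x.2) := by
    intro h x
    rw [he_apply, he_apply, map_add]
    rfl
  have hfixiff : ∀ (h : H) (x : σ.toSubmodule × τ.toSubmodule),
      ρ h (e x) = e x ↔ (σ.toRepresentation h x.1 = x.1 ∧ τ.toRepresentation h x.2 = x.2) := by
    intro h x
    rw [hρe]
    constructor
    · intro hx
      have := e.injective hx
      exact ⟨congrArg Prod.fst this, congrArg Prod.snd this⟩
    · rintro ⟨ha, hb⟩
      rw [ha, hb]
  have htriv : ∀ h : H, (∀ w : W, ρ h w = w) ↔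
      ((∀ a : σ.toSubmodule, σ.toRepresentation h a = a) ∧
        (∀ b : τ.toSubmodule, τ.toRepresentation h b = b)) := by
    intro h
    constructor
    · intro hw
      constructor
      · intro a
        exact ((hfixiff h (a, 0)).1 (hw _)).1
      · intro b
        exact ((hfixiff h (0, b)).1 (hw _)).2
    · rintro ⟨ha, hb⟩ w
      obtain ⟨x, rfl⟩ := e.surjective w
      exact (hfixiff h x).2 ⟨ha x.1, hb x.2⟩
  have hcardW : Nat.card W = Nat.card σ.toSubmodule * Nat.card τ.toSubmodule := by
    rw [← Nat.card_prod]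
    exact (Nat.card_congr e.toEquiv).symm
  have hcardfix : ∀ h : H, Nat.card {w : W // ρ h w = w} =
      Nat.card {a : σ.toSubmodule // σ.toRepresentation h a = a} *
        Nat.card {b : τ.toSubmodule // τ.toRepresentation h b = b} := by
    intro h
    rw [← Nat.card_prod]
    apply Nat.card_congr
    refine ⟨fun w => (⟨(e.symm w.1).1, ?_⟩, ⟨(e.symm w.1).2, ?_⟩),
      fun x => ⟨e (x.1.1, x.2.1), ?_⟩, ?_, ?_⟩
    · have := w.2
      rw [← e.apply_symm_apply w.1] at this
      exact ((hfixiff h _).1 this).1
    · have := w.2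
      rw [← e.apply_symm_apply w.1] at this
      exact ((hfixiff h _).1 this).2
    · exact (hfixiff h _).2 ⟨x.1.2, x.2.2⟩
    · intro w
      apply Subtype.ext
      simp
    · intro x
      apply Prod.ext <;> apply Subtype.ext <;> simp
  refine ⟨Ω₁ × Ω₂, inferInstance, fun x => Ψ₁ x.1 * Ψ₂ x.2, fun x => μ₁ x.1 * μ₂ x.2,
    ?_, ?_, ?_, ?_⟩
  · intro x
    rw [mul_pow, hΨ₁, hΨ₂, one_mul]
  · rw [Fintype.card_prod]
    intro hdvd
    rcases (Nat.Prime.dvd_mul hp).1 hdvd with h | h
    · exact hc₁ h
    · exact hc₂ h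
  · intro h
    have hsplit : ∑ x : Ω₁ × Ω₂, (((μ₁ x.1 * μ₂ x.2) h : ℂˣ) : ℂ)
        = (∑ x, ((μ₁ x h : ℂˣ) : ℂ)) * (∑ y, ((μ₂ y h : ℂˣ) : ℂ)) := by
      rw [Fintype.sum_prod_type, Finset.sum_mul_sum]
      rfl
    rw [hsplit, hs₁ h, hs₂ h, Fintype.card_prod]
    by_cases ha : ∀ a : σ.toSubmodule, σ.toRepresentation h a = a
    · by_cases hb : ∀ b : τ.toSubmodule, τ.toRepresentation h b = b
      · rw [if_pos ha, if_pos hb, if_pos ((htriv h).2 ⟨ha, hb⟩)]
        push_cast
        ring
      · rw [if_neg hb, mul_zero, if_neg (fun hw => hb ((htriv h).1 hw).2)]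
    · rw [if_neg ha, zero_mul, if_neg (fun hw => ha ((htriv h).1 hw).1)]
  · intro j hj h
    have hsplit : ∑ x : Ω₁ × Ω₂, (Ψ₁ x.1 * Ψ₂ x.2) ^ j * (((μ₁ x.1 * μ₂ x.2) h : ℂˣ) : ℂ)
        = (∑ x, Ψ₁ x ^ j * ((μ₁ x h : ℂˣ) : ℂ)) * (∑ y, Ψ₂ y ^ j * ((μ₂ y h : ℂˣ) : ℂ)) := by
      rw [Fintype.sum_prod_type, Finset.sum_mul_sum]
      refine Finset.sum_congr rfl fun x _ => Finset.sum_congr rfl fun y _ => ?_
      rw [mul_pow, MonoidHom.mul_apply, Units.val_mul]
      ring
    rw [hsplit, norm_mul, hcardfix h, hcardW]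
    push_cast
    rw [← hn₁ j hj h, ← hn₂ j hj h]
    ring

/-- **Gauss datum of a coprime commutative action.** -/
theorem hasGaussDatum (hcop : ¬ p ∣ Nat.card H) :
    ∀ (n : ℕ) (W : Type u) [AddCommGroup W] [Module (ZMod p) W] [Finite W]
      (ρ : Representation (ZMod p) H W), Nat.card W = n → HasGaussDatum p ρ := by
  classical
  haveI : NeZero (Nat.card H : ZMod p) := by
    refine ⟨?_⟩
    rw [Ne, ZMod.natCast_eq_zero_iff]
    exact hcop
  intro n
  induction n using Nat.strong_induction_on with
  | _ n ih =>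
    intro W _ _ _ ρ hn
    rcases subsingleton_or_nontrivial W with hW | hW
    · -- the trivial module
      refine ⟨PUnit, inferInstance, fun _ => 1, fun _ => 1, fun _ => one_pow _, ?_, ?_, ?_⟩
      · simp only [Fintype.card_punit, Nat.dvd_one]
        exact (Fact.out : p.Prime).one_lt.ne'
      · intro h
        rw [if_pos (fun w => Subsingleton.elim _ _)]
        simp
      · intro j _ h
        have h1 : Nat.card {w : W // ρ h w = w} = 1 := by
          rw [Nat.card_eq_one_iff_unique]
          exact ⟨⟨fun a b => Subtype.ext (Subsingleton.elim _ _)⟩, ⟨⟨0, map_zero _⟩⟩⟩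
        have h2 : Nat.card W = 1 := Nat.card_unique
        rw [h1, h2]
        simp
    · by_cases hex : ∃ S : Submodule (ZMod p) W, (∀ h w, w ∈ S → ρ h w ∈ S) ∧ S ≠ ⊥ ∧ S ≠ ⊤
      · obtain ⟨S, hS, hSbot, hStop⟩ := hex
        let σ : Subrepresentation ρ := ⟨S, fun g v hv => hS g v hv⟩
        obtain ⟨τ, hτ⟩ := exists_isCompl σ
        have hc : IsCompl σ.toSubmodule τ.toSubmodule := by
          constructor
          · rw [disjoint_iff]
            have := hτ.1.eq_bot
            exact congrArg Subrepresentation.toSubmodule this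
          · rw [codisjoint_iff]
            have := hτ.2.eq_top
            exact congrArg Subrepresentation.toSubmodule this
        have hτtop : τ.toSubmodule ≠ ⊤ := by
          intro h
          apply hSbot
          have := hc.1
          rw [h, disjoint_top] at this
          exact this
        have hlt : ∀ T : Submodule (ZMod p) W, T ≠ ⊤ → Nat.card T < Nat.card W := by
          intro T hT
          have hne : (T : Set W) ≠ Set.univ := fun h => hT (SetLike.coe_injective (by simpa using h))
          obtain ⟨w, hw⟩ := (Set.ne_univ_iff_exists_notMem _).1 hne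
          letI : Fintype W := Fintype.ofFinite W
          rw [Nat.card_eq_fintype_card, Nat.card_eq_fintype_card]
          exact Fintype.card_lt_of_injective_of_notMem (fun t : T => (t : W))
            Subtype.val_injective (b := w) (by simpa using hw)
        have h1 := ih _ (hn ▸ hlt S hStop) σ.toSubmodule σ.toRepresentation rfl
        have h2 := ih _ (hn ▸ hlt τ.toSubmodule hτtop) τ.toSubmodule τ.toRepresentation rfl
        exact hasGaussDatum_of_isCompl ρ σ τ hc h1 h2
      · have hirr : ∀ S : Submodule (ZMod p) W, (∀ h w, w ∈ S → ρ h w ∈ S) → S = ⊥ ∨ S = ⊤ := by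
          intro S hS
          by_contra hcon
          rw [not_or] at hcon
          exact hex ⟨S, hS, hcon.1, hcon.2⟩
        obtain ⟨F, _, _, ι, lam, hι, hbij⟩ := exists_field_of_irreducible ρ hirr
        exact hasGaussDatum_of_field ρ ι lam hι hbij

end induction

end Cfsg.Agent.Lib.Helper7.KGauss
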