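import Mathlib
import Cfsg.Prelude.Def_Characters
import Cfsg.Agent.Lib.helper3.Ito
import Cfsg.Agent.Lib.Helper4.Galois
import Cfsg.Agent.Lib.Helper7.KGauss2
import Cfsg.Agent.Lib.Helper7.KGV1
import Cfsg.Agent.Lib.Helper7.KGV2

set_option autoImplicit false
set_option linter.style.haveILetI false
set_option linter.unusedSectionVars false

/-!
# The abelian point stabilizer criterion for `k(GV)` (Knörr)
-/

namespace Cfsg.Agent.Lib.Helper7.KGV

open Cfsg Cfsg.Agent.Lib.helper3.Irr Cfsg.Agent.Lib.helper3.Lin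
open Cfsg.Agent.Lib.Helper7.KGauss Cfsg.Agent.Lib.Helper4.Galois
open scoped ComplexConjugate

/-- The representation on `Additive N` afforded by an action by automorphisms on a commutative
group of exponent `p`. -/
noncomputable def repOfMulAut {K N : Type*} [Group K] [CommGroup N] (p : ℕ)
    [Module (ZMod p) (Additive N)] (φ : K →* MulAut N) :
    Representation (ZMod p) K (Additive N) where
  toFun k := (MulEquiv.toAdditive (φ k)).toAddMonoidHom.toZModLinearMap p
  map_one' := by
    ext w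
    simp
  map_mul' a b := by
    ext w
    simp

theorem repOfMulAut_apply {K N : Type*} [Group K] [CommGroup N] (p : ℕ)
    [Module (ZMod p) (Additive N)] (φ : K →* MulAut N) (k : K) (w : Additive N) :
    repOfMulAut p φ k w = Additive.ofMul (φ k (Additive.toMul w)) := rfl

open Classical in
/-- The core of Knörr's criterion, with the Gauss datum given explicitly. -/
theorem knorr_core {X : Type*} [Group X] [Fintype X] (p : ℕ) [Fact p.Prime] (V : Subgroup X)
    [V.Normal] (hVab : ∀ a ∈ V, ∀ b ∈ V, a * b = b * a) (hVexp : ∀ v ∈ V, v ^ p = 1)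
    (hidx : ¬ p ∣ V.index) (G : Subgroup X) (hGV : Subgroup.IsComplement' V G) (v : X)
    (hv : v ∈ V) (H : Subgroup X) (hH : H = G ⊓ Subgroup.centralizer ({v} : Set X)) [Fintype H]
    (hab : ∀ a ∈ H, ∀ b ∈ H, a * b = b * a)
    {Ω : Type*} [Fintype Ω] (Ψ : Ω → ℂ) (μ : Ω → H →* ℂˣ) (hΨ : ∀ x, Ψ x ^ p = 1)
    (hΩ : ¬ p ∣ Fintype.card Ω)
    (hsum : ∀ h : H, ∑ x, ((μ x h : ℂˣ) : ℂ) = if h = 1 then (Fintype.card Ω : ℂ) else 0)
    (hnorm : ∀ j : ℕ, j.Coprime p → ∀ h : H,
      ‖∑ x, Ψ x ^ j * ((μ x h : ℂˣ) : ℂ)‖ ^ 2 *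
        (Nat.card ↥(V ⊓ Subgroup.centralizer ({(h : X)} : Set X)) : ℝ) = (Nat.card V : ℝ)) :
    Nat.card (ConjClasses X) ≤ Nat.card V := by
  classical
  have hp : p.Prime := Fact.out
  haveI : NeZero p := ⟨hp.ne_zero⟩
  have hidxG : V.index = Nat.card G := hGV.symm.index_eq_card
  have hpG : ¬ p ∣ Nat.card G := hidxG ▸ hidx
  have hvp : v ^ p = 1 := hVexp v hv
  have hHv : ∀ a ∈ H, a * v = v * a := by
    intro a ha
    rw [hH] at ha
    exact (Subgroup.mem_centralizer_iff.mp ha.2 v (Set.mem_singleton v)).symm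
  -- expansion data for every irreducible character
  have hχdata : ∀ χ : IrrCharacter X, ∃ (N : ℕ) (ε : Fin N → ℂ), (∀ i, ε i ^ p = 1) ∧ ¬ p ∣ N ∧
      ∀ j : ℕ, ∑ h : H, (χ : X → ℂ) ((h : X) * v ^ j) *
        conj (∑ x, Ψ x ^ j * ((μ x h : ℂˣ) : ℂ)) = (Fintype.card H : ℂ) * ∑ i, ε i ^ j := by
    intro χ
    obtain ⟨n, ρ', hirr, hchar⟩ := χ.2
    have hχc : IsCharacter X (χ : X → ℂ) := isCharacter_of_isIrrCharacter χ.2
    have hd : (χ : X → ℂ) 1 = n := by
      rw [← hchar, Representation.char_one, Module.finrank_fin_fun]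
    haveI := hirr
    have hito : Module.finrank ℂ (Fin n → ℂ) ∣ V.index := ito ρ' V hVab
    rw [Module.finrank_fin_fun] at hito
    have hpn : ¬ p ∣ n := fun h => hidx (h.trans hito)
    obtain ⟨N, ε, hε, hN, hexp⟩ :=
      exists_roots_expansion H hab v hvp hHv (χ : X → ℂ) hχc n hd Ψ μ hΨ hsum
    refine ⟨N, ε, hε, ?_, hexp⟩
    intro hpN
    have h1 : p ∣ n * Fintype.card Ω := hN ▸ Dvd.dvd.mul_right hpN _
    rcases hp.dvd_mul.mp h1 with h | h
    · exact hpn h
    · exact hΩ h
  choose N ε hε hN hexp using hχdata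
  have hcardH : (0 : ℝ) < Fintype.card H := by exact_mod_cast Fintype.card_pos
  -- the identity for each Galois conjugate
  have hj : ∀ j : (ZMod p)ˣ,
      ∑ χ : IrrCharacter X, ‖∑ i, ε χ i ^ (j : ZMod p).val‖ ^ 2 = (Nat.card V : ℝ) := by
    intro j
    set jv := (j : ZMod p).val with hjv
    have hjcop : jv.Coprime p := ZMod.val_coe_unit_coprime j
    have huV : v ^ jv ∈ V := V.pow_mem hv jv
    have hu : (v ^ jv) ^ p = 1 := by rw [← pow_mul, mul_comm, pow_mul, hvp, one_pow]
    have hcent : Subgroup.centralizer ({v ^ jv} : Set X) =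
        Subgroup.centralizer ({v} : Set X) := by
      obtain ⟨m, -, hm⟩ := Nat.exists_mul_mod_eq_one_of_coprime hjcop hp.one_lt
      have hvm : (v ^ jv) ^ m = v := by
        rw [← pow_mul, pow_eq_pow_mod (jv * m) hvp, hm, pow_one]
      ext x
      simp only [Subgroup.mem_centralizer_iff, Set.mem_singleton_iff, forall_eq]
      constructor
      · intro hx
        have h1 : Commute ((v ^ jv) ^ m) x := Commute.pow_left hx m
        rw [hvm] at h1
        exact h1
      · intro hx
        exact Commute.pow_left hx jv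
    have hH' : H = G ⊓ Subgroup.centralizer ({v ^ jv} : Set X) := by rw [hcent]; exact hH
    have key := sum_norm_sq_eq hVab hGV hp hpG huV hu H hH' hab
      (fun h => ∑ x, Ψ x ^ jv * ((μ x h : ℂˣ) : ℂ))
    have hR : ∑ h : H, (Nat.card ↥(V ⊓ Subgroup.centralizer ({(h : X)} : Set X)) : ℝ) *
        ‖∑ x, Ψ x ^ jv * ((μ x h : ℂˣ) : ℂ)‖ ^ 2 = (Fintype.card H : ℝ) * Nat.card V := by
      have h1 : ∀ h : H, (Nat.card ↥(V ⊓ Subgroup.centralizer ({(h : X)} : Set X)) : ℝ) *
          ‖∑ x, Ψ x ^ jv * ((μ x h : ℂˣ) : ℂ)‖ ^ 2 = (Nat.card V : ℝ) := by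
        intro h
        rw [mul_comm]
        exact hnorm jv hjcop h
      rw [Finset.sum_congr rfl (fun h _ => h1 h), Finset.sum_const, Finset.card_univ,
        nsmul_eq_mul]
    have hL : ∀ χ : IrrCharacter X,
        ‖∑ h : H, (χ : X → ℂ) ((h : X) * v ^ jv) *
          conj (∑ x, Ψ x ^ jv * ((μ x h : ℂˣ) : ℂ))‖ ^ 2 =
        (Fintype.card H : ℝ) ^ 2 * ‖∑ i, ε χ i ^ jv‖ ^ 2 := by
      intro χ
      rw [hexp χ jv, norm_mul, mul_pow]
      simp
    rw [Finset.sum_congr rfl (fun χ _ => hL χ), ← Finset.mul_sum, hR,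
      Nat.card_eq_fintype_card] at key
    have hne : ((Fintype.card H : ℝ)) ^ 2 ≠ 0 := pow_ne_zero 2 hcardH.ne'
    have h2 : (Fintype.card H : ℝ) ^ 2 * ∑ χ : IrrCharacter X, ‖∑ i, ε χ i ^ jv‖ ^ 2 =
        (Fintype.card H : ℝ) ^ 2 * (Nat.card V : ℝ) := by
      rw [key]; ring
    exact mul_left_cancel₀ hne h2
  have hχ : ∀ χ : IrrCharacter X, (Fintype.card (ZMod p)ˣ : ℝ) ≤
      ∑ j : (ZMod p)ˣ, ‖∑ i, ε χ i ^ (j : ZMod p).val‖ ^ 2 := by
    intro χ
    have h0 : ∑ i, ε χ i ≠ 0 := sum_roots_ne_zero hp (ε χ) (hε χ) (by simpa using hN χ)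
    have h1 := prod_norm_sum_pow_ge_one (ε χ) p (hε χ) h0
    apply card_le_sum_of_one_le_prod _ (fun j => sq_nonneg _)
    rw [Finset.prod_pow]
    exact one_le_pow₀ h1
  have hφpos : (0 : ℝ) < Fintype.card (ZMod p)ˣ := by exact_mod_cast Fintype.card_pos
  have hfinal : (Fintype.card (IrrCharacter X) : ℝ) * Fintype.card (ZMod p)ˣ ≤
      Nat.card V * Fintype.card (ZMod p)ˣ := by
    calc (Fintype.card (IrrCharacter X) : ℝ) * Fintype.card (ZMod p)ˣ
        = ∑ _χ : IrrCharacter X, (Fintype.card (ZMod p)ˣ : ℝ) := by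
          simp [Finset.sum_const, Finset.card_univ]
      _ ≤ ∑ χ : IrrCharacter X, ∑ j : (ZMod p)ˣ, ‖∑ i, ε χ i ^ (j : ZMod p).val‖ ^ 2 :=
          Finset.sum_le_sum (fun χ _ => hχ χ)
      _ = ∑ j : (ZMod p)ˣ, ∑ χ : IrrCharacter X, ‖∑ i, ε χ i ^ (j : ZMod p).val‖ ^ 2 :=
          Finset.sum_comm
      _ = ∑ _j : (ZMod p)ˣ, (Nat.card V : ℝ) := Finset.sum_congr rfl (fun j _ => hj j)
      _ = Nat.card V * Fintype.card (ZMod p)ˣ := by
          simp [Finset.sum_const, Finset.card_univ, mul_comm]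
  have hle : (Fintype.card (IrrCharacter X) : ℝ) ≤ Nat.card V := le_of_mul_le_mul_right hfinal hφpos
  rw [← card_irr_eq_card_conjClasses, Nat.card_eq_fintype_card]
  exact_mod_cast hle

/-- **Knörr's criterion**: an abelian point stabilizer gives `k(GV) ≤ |V|`. -/
theorem knorr_abelian {X : Type*} [Group X] [Finite X] (p : ℕ) [Fact p.Prime] (V : Subgroup X)
    [V.Normal] (hVexp : ∀ v ∈ V, v ^ p = 1) (hidx : ¬ p ∣ V.index)
    (hself : Subgroup.centralizer (V : Set X) = V) (G : Subgroup X)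
    (hGV : Subgroup.IsComplement' V G) (v : X) (hv : v ∈ V)
    (hab : ∀ a ∈ G ⊓ Subgroup.centralizer ({v} : Set X),
      ∀ b ∈ G ⊓ Subgroup.centralizer ({v} : Set X), a * b = b * a) :
    Nat.card (ConjClasses X) ≤ Nat.card V := by
  classical
  letI : Fintype X := Fintype.ofFinite X
  have hp : p.Prime := Fact.out
  haveI : NeZero p := ⟨hp.ne_zero⟩
  have hVab : ∀ a ∈ V, ∀ b ∈ V, a * b = b * a := by
    intro a ha b hb
    have ha' : a ∈ Subgroup.centralizer (V : Set X) := by rw [hself]; exact ha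
    exact (Subgroup.mem_centralizer_iff.mp ha' b hb).symm
  have hidxG : V.index = Nat.card G := hGV.symm.index_eq_card
  have hpG : ¬ p ∣ Nat.card G := hidxG ▸ hidx
  set H : Subgroup X := G ⊓ Subgroup.centralizer ({v} : Set X) with hH
  letI : Fintype H := Fintype.ofFinite H
  have hpH : ¬ p ∣ Nat.card H := fun h =>
    hpG (h.trans (Subgroup.card_dvd_of_le (inf_le_left : H ≤ G)))
  -- the module
  letI instV : CommGroup V :=
    { (inferInstance : Group V) with
      mul_comm := fun a b => Subtype.ext (hVab a a.2 b b.2) }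
  have hexpW : ∀ x : Additive V, p • x = 0 := by
    intro x
    have h1 : (Additive.toMul x) ^ p = 1 := Subtype.ext (by simpa using hVexp _ (Additive.toMul x).2)
    exact congrArg Additive.ofMul h1
  haveI instM : Module (ZMod p) (Additive V) := AddCommGroup.zmodModule hexpW
  letI instH : CommGroup H :=
    { (inferInstance : Group H) with
      mul_comm := fun a b => Subtype.ext (hab a a.2 b b.2) }
  let φ : H →* MulAut V := (MulAut.conjNormal (H := V)).comp H.subtype
  let ρ : Representation (ZMod p) H (Additive V) := repOfMulAut p φ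
  have hρ : ∀ (h : H) (w : Additive V), ρ h w = w ↔
      (h : X) * ((Additive.toMul w : V) : X) * (h : X)⁻¹ = ((Additive.toMul w : V) : X) := by
    intro h w
    constructor
    · intro hw
      have h1 := congrArg (fun z : Additive V => ((Additive.toMul z : V) : X)) hw
      exact h1
    · intro hw
      apply Additive.toMul.injective
      apply Subtype.ext
      exact hw
  obtain ⟨Ω, hΩfin, Ψ, μ, hΨ, hΩ, hsum, hnorm⟩ := hasGaussDatum hpH _ (Additive V) ρ rfl
  have hiff : ∀ h : H, (∀ w : Additive V, ρ h w = w) ↔ h = 1 := by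
    intro h
    constructor
    · intro hw
      have h1 : (h : X) ∈ Subgroup.centralizer (V : Set X) := by
        rw [Subgroup.mem_centralizer_iff]
        intro y hy
        have h2 := (hρ h (Additive.ofMul ⟨y, hy⟩)).mp (hw _)
        have h3 : (h : X) * y * (h : X)⁻¹ = y := h2
        rw [mul_inv_eq_iff_eq_mul] at h3
        exact h3.symm
      rw [hself] at h1
      have h4 : (h : X) ∈ G := (Subgroup.mem_inf.mp h.2).1
      have h5 : (h : X) ∈ V ⊓ G := ⟨h1, h4⟩
      rw [hGV.disjoint.eq_bot, Subgroup.mem_bot] at h5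
      exact Subtype.ext h5
    · rintro rfl w
      rw [map_one]
      rfl
  refine knorr_core p V hVab hVexp hidx G hGV v hv H hH hab Ψ μ hΨ hΩ ?_ ?_
  · intro h
    rw [hsum h]
    by_cases h1 : h = 1
    · rw [if_pos h1, if_pos ((hiff h).mpr h1)]
    · rw [if_neg h1, if_neg (fun hw => h1 ((hiff h).mp hw))]
  · intro j hj h
    have hb : Nat.card {w : Additive V // ρ h w = w} =
        Nat.card ↥(V ⊓ Subgroup.centralizer ({(h : X)} : Set X)) := by
      apply Nat.card_congr
      refine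
        { toFun := fun w => ⟨((Additive.toMul w.1 : V) : X), (Additive.toMul w.1 : V).2, ?_⟩
          invFun := fun y => ⟨Additive.ofMul ⟨y.1, y.2.1⟩, ?_⟩
          left_inv := fun w => rfl
          right_inv := fun y => rfl }
      · show ((Additive.toMul w.1 : V) : X) ∈ Subgroup.centralizer ({(h : X)} : Set X)
        rw [Subgroup.mem_centralizer_iff]
        intro z hz
        rw [Set.mem_singleton_iff] at hz
        rw [hz]
        have h3 := (hρ h w.1).mp w.2
        rw [mul_inv_eq_iff_eq_mul] at h3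
        exact h3
      · rw [hρ]
        have h3 := Subgroup.mem_centralizer_iff.mp y.2.2 (h : X) (Set.mem_singleton _)
        rw [mul_inv_eq_iff_eq_mul]
        exact h3
    have hc : Nat.card (Additive V) = Nat.card V := Nat.card_congr Additive.toMul
    rw [← hb, ← hc]
    exact hnorm j hj h

end Cfsg.Agent.Lib.Helper7.KGV
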