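import Mathlib
import Cfsg.Agent.Lib.Helper7.Kieler2

set_option autoImplicit false

namespace Cfsg.Agent.Lib.Helper7

open Cfsg
open scoped Pointwise commutatorElement

variable {G : Type*} [Group G] [Finite G] {p : ℕ} [Fact p.Prime]

/-- `Q` witnesses that `K` has characteristic `p`: a normal `p`-subgroup of `K` containing its centralizer in `K` -/
structure CharPWitness (p : ℕ) (K Q : Subgroup G) : Prop where
  le : Q ≤ K
  norm : K ≤ Subgroup.normalizer (Q : Set G)
  pgroup : IsPGroup p ↥Q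
  cent : K ⊓ Subgroup.centralizer (Q : Set G) ≤ Q

/-- normal subgroups of groups of characteristic `p` have characteristic `p` -/
theorem CharPWitness.normal_sub {K Q L : Subgroup G} (h : CharPWitness p K Q) (hLK : L ≤ K)
    (hLn : K ≤ Subgroup.normalizer (L : Set G)) :
    ∃ QL : Subgroup G, CharPWitness p L QL ∧ K ≤ Subgroup.normalizer (QL : Set G) ∧
      ∀ v ∈ Q ⊓ L, v ∈ Subgroup.centralizer (Q : Set G) →
        v ∈ QL ∧ v ∈ Subgroup.centralizer (QL : Set G) := by
  obtain ⟨hQK, hQn, hQp, hQc⟩ := h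
  obtain ⟨C, hC⟩ : ∃ C : Subgroup G, C = L ⊓ Subgroup.centralizer ((Q ⊓ L : Subgroup G) : Set G) :=
    ⟨_, rfl⟩
  have hQLn : K ≤ Subgroup.normalizer ((Q ⊓ L : Subgroup G) : Set G) := le_normalizer_inf' hQn hLn
  have hCn : K ≤ Subgroup.normalizer (C : Set G) := by
    rw [hC]
    exact le_normalizer_inf' hLn (le_normalizer_centralizer' hQLn)
  have hCL : C ≤ L := by rw [hC]; exact inf_le_left
  have hCp : IsPGroup p ↥C := by
    apply isPGroup_of_coprime_trivial
    intro x hx hcop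
    rw [hC] at hx
    have hxK : x ∈ K := hLK hx.1
    have hxQ : x ∈ Subgroup.centralizer (Q : Set G) := by
      apply Subgroup.mem_centralizer_iff.mpr
      intro r hr
      have hmem : ⁅r, x⁆ ∈ Q ⊓ L := by
        constructor
        · have h1 : x * r⁻¹ * x⁻¹ ∈ Q := conj_mem_of_le_normalizer hQn hxK (Q.inv_mem hr)
          have e : ⁅r, x⁆ = r * (x * r⁻¹ * x⁻¹) := by rw [commutatorElement_def]; group
          rw [e]; exact Q.mul_mem hr h1
        · have h1 : r * x * r⁻¹ ∈ L := conj_mem_of_le_normalizer hLn (hQK hr) hx.1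
          have e : ⁅r, x⁆ = (r * x * r⁻¹) * x⁻¹ := by rw [commutatorElement_def]
          rw [e]; exact L.mul_mem h1 (L.inv_mem hx.1)
      have hcx : x * ⁅r, x⁆ = ⁅r, x⁆ * x := (Subgroup.mem_centralizer_iff.mp hx.2 _ hmem).symm
      obtain ⟨k, hk⟩ := pow_eq_one_of_mem_isPGroup hQp hmem.1
      exact commute_of_coprime_of_commute_commutator r x hcop hcx k hk
    have hxQ' : x ∈ Q := hQc ⟨hxK, hxQ⟩
    obtain ⟨k, hk⟩ := pow_eq_one_of_mem_isPGroup hQp hxQ'
    exact eq_one_of_coprime_of_pow_eq_one x hcop k hk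
  refine ⟨(Q ⊓ L) ⊔ C, ⟨?_, ?_, ?_, ?_⟩, ?_, ?_⟩
  · exact sup_le inf_le_right hCL
  · exact le_normalizer_sup' (hLK.trans hQLn) (hLK.trans hCn)
  · exact IsPGroup.to_sup_of_normal_right' (hQp.to_inf_left) hCp
      (((inf_le_right : Q ⊓ L ≤ L).trans hLK).trans hCn)
  · intro x hx
    apply (le_sup_right : C ≤ (Q ⊓ L) ⊔ C)
    rw [hC]
    exact ⟨hx.1, Subgroup.centralizer_le (by exact_mod_cast (le_sup_left : Q ⊓ L ≤ (Q ⊓ L) ⊔ C)) hx.2⟩
  · exact le_normalizer_sup' hQLn hCn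
  · intro v hv hvc
    refine ⟨(le_sup_left : Q ⊓ L ≤ (Q ⊓ L) ⊔ C) hv, ?_⟩
    apply mem_centralizer_sup
    · exact Subgroup.centralizer_le (by exact_mod_cast (inf_le_left : Q ⊓ L ≤ Q)) hvc
    · apply Subgroup.mem_centralizer_iff.mpr
      intro c hc
      rw [hC] at hc
      exact (Subgroup.mem_centralizer_iff.mp hc.2 v hv).symm

end Cfsg.Agent.Lib.Helper7
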