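import Mathlib
import Cfsg.Prelude.Def_Transfer
import Cfsg.Agent.Lib.Helper7.Thompson
import Cfsg.Agent.Lib.Helper7.AmalgamVIter2
import Cfsg.Agent.Lib.Helper7.SylowJoin
import Cfsg.Agent.Lib.Helper7.GroupFusion2

set_option autoImplicit false

namespace Cfsg.Agent.Lib.Helper7

open Cfsg
open scoped Pointwise commutatorElement

variable {G : Type*} [Group G] [Finite G] {p : ℕ} [Fact p.Prime]

/-- the trace argument: `C_V(T) ≤ [V, R] C_V(R)` when `|R : T|` is prime to `p` -/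
theorem centralizer_le_commutator_sup_centralizer (V R T : Subgroup G)
    (hVc : ∀ a ∈ V, ∀ b ∈ V, a * b = b * a) (hVp : ∀ a ∈ V, a ^ p = 1)
    (hRV : R ≤ Subgroup.normalizer (V : Set G)) (hTR : T ≤ R) (hidx : ¬ p ∣ T.relIndex R) :
    V ⊓ Subgroup.centralizer (T : Set G) ≤ ⁅V, R⁆ ⊔ (V ⊓ Subgroup.centralizer (R : Set G)) := by
  have hp : p.Prime := Fact.out
  intro u hu
  have huV : u ∈ V := hu.1
  have huT : ∀ t ∈ T, t * u = u * t := fun t ht => Subgroup.mem_centralizer_iff.mp hu.2 t ht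
  letI : CommGroup ↥V :=
    { (inferInstance : Group ↥V) with mul_comm := fun a b => Subtype.ext (hVc a a.2 b b.2) }
  letI : Fintype (↥R ⧸ T.subgroupOf R) := Fintype.ofFinite _
  have hconj : ∀ g ∈ R, ∀ v ∈ V, g * v * g⁻¹ ∈ V := fun g hg v hv =>
    (Subgroup.mem_normalizer_iff.mp (hRV hg) v).mp hv
  let f : ↥R ⧸ T.subgroupOf R → ↥V := fun q =>
    ⟨((q.out : ↥R) : G) * u * ((q.out : ↥R) : G)⁻¹, hconj _ (q.out : ↥R).2 u huV⟩
  obtain ⟨tr, htr⟩ : ∃ tr : ↥V, tr = ∏ q, f q := ⟨_, rfl⟩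
  -- conjugation by `r ∈ R` as a hom on `V`
  have hfix : ∀ r : ↥R, (r : G) * (tr : G) * (r : G)⁻¹ = (tr : G) := by
    intro r
    let c : ↥V →* ↥V :=
      { toFun := fun v => ⟨(r : G) * (v : G) * (r : G)⁻¹, hconj _ r.2 _ v.2⟩
        map_one' := by apply Subtype.ext; simp
        map_mul' := fun a b => by apply Subtype.ext; simp [mul_assoc] }
    have h1 : c tr = ∏ q, c (f q) := by rw [htr, map_prod]
    have h2 : ∀ q, c (f q) = f (r • q) := by
      intro q
      have hmk : ((r • q).out : ↥R ⧸ T.subgroupOf R) = ((r * q.out : ↥R) : ↥R ⧸ T.subgroupOf R) := by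
        rw [QuotientGroup.out_eq']
        conv_lhs => rw [← QuotientGroup.out_eq' q]
        rfl
      have hmem : (r * q.out)⁻¹ * (r • q).out ∈ T.subgroupOf R := QuotientGroup.eq.mp hmk.symm
      have hmemT : (((r * q.out)⁻¹ * (r • q).out : ↥R) : G) ∈ T := Subgroup.mem_subgroupOf.mp hmem
      have hcomm := huT _ hmemT
      apply Subtype.ext
      show (r : G) * (((q.out : ↥R) : G) * u * ((q.out : ↥R) : G)⁻¹) * (r : G)⁻¹ =
        (((r • q).out : ↥R) : G) * u * (((r • q).out : ↥R) : G)⁻¹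
      have e : (((r • q).out : ↥R) : G) =
          ((r : G) * ((q.out : ↥R) : G)) * (((r * q.out)⁻¹ * (r • q).out : ↥R) : G) := by
        simp [mul_assoc]
      generalize (((r * q.out)⁻¹ * (r • q).out : ↥R) : G) = t at hcomm e
      rw [e]
      calc (r : G) * (((q.out : ↥R) : G) * u * ((q.out : ↥R) : G)⁻¹) * (r : G)⁻¹
          = (r : G) * ((q.out : ↥R) : G) * (u * t) * t⁻¹ * ((q.out : ↥R) : G)⁻¹ * (r : G)⁻¹ := by group
        _ = (r : G) * ((q.out : ↥R) : G) * (t * u) * t⁻¹ * ((q.out : ↥R) : G)⁻¹ * (r : G)⁻¹ := by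
            rw [hcomm]
        _ = _ := by group
    have h3 : ∏ q, c (f q) = ∏ q, f q := by
      simp_rw [h2]
      exact Fintype.prod_equiv (MulAction.toPerm r) _ _ (fun q => rfl)
    have h4 : c tr = tr := by rw [h1, h3, htr]
    exact congrArg Subtype.val h4
  have htrC : (tr : G) ∈ V ⊓ Subgroup.centralizer (R : Set G) := by
    refine ⟨tr.2, ?_⟩
    apply Subgroup.mem_centralizer_iff.mpr
    intro r hr
    have := hfix ⟨r, hr⟩
    calc r * (tr : G) = (r * (tr : G) * r⁻¹) * r := by group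
      _ = (tr : G) * r := by rw [this]
  -- the other expression for the trace
  have hcomm_mem : ∀ g ∈ R, g * u * g⁻¹ * u⁻¹ ∈ ⁅V, R⁆ := by
    intro g hg
    have h1 : ⁅u, g⁆ ∈ ⁅V, R⁆ := Subgroup.commutator_mem_commutator huV hg
    have h2 := Subgroup.inv_mem _ h1
    have e : (⁅u, g⁆)⁻¹ = g * u * g⁻¹ * u⁻¹ := by rw [commutatorElement_def]; group
    rwa [e] at h2
  have hcV : ⁅V, R⁆ ≤ V := commutator_le_left_of_le_normalizer V R hRV
  let a : ↥R ⧸ T.subgroupOf R → ↥V := fun q =>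
    ⟨((q.out : ↥R) : G) * u * ((q.out : ↥R) : G)⁻¹ * u⁻¹, hcV (hcomm_mem _ (q.out : ↥R).2)⟩
  have hfa : ∀ q, f q = a q * ⟨u, huV⟩ := by
    intro q
    apply Subtype.ext
    show ((q.out : ↥R) : G) * u * ((q.out : ↥R) : G)⁻¹ =
      ((q.out : ↥R) : G) * u * ((q.out : ↥R) : G)⁻¹ * u⁻¹ * u
    group
  have hprod : tr = (∏ q, a q) * (⟨u, huV⟩ : ↥V) ^ (Fintype.card (↥R ⧸ T.subgroupOf R)) := by
    rw [htr]
    simp_rw [hfa]
    rw [Finset.prod_mul_distrib, Finset.prod_const, Finset.card_univ]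
  have hamem : (∏ q, a q) ∈ (⁅V, R⁆).subgroupOf V := by
    apply Subgroup.prod_mem
    intro q _
    exact Subgroup.mem_subgroupOf.mpr (hcomm_mem _ (q.out : ↥R).2)
  obtain ⟨W, hW⟩ : ∃ W : Subgroup G, W = ⁅V, R⁆ ⊔ (V ⊓ Subgroup.centralizer (R : Set G)) := ⟨_, rfl⟩
  rw [← hW]
  have hm : Fintype.card (↥R ⧸ T.subgroupOf R) = T.relIndex R := by
    rw [Subgroup.relIndex, Subgroup.index, Nat.card_eq_fintype_card]
  have hpow : u ^ (T.relIndex R) ∈ W := by
    have h1 : ((⟨u, huV⟩ : ↥V) ^ (Fintype.card (↥R ⧸ T.subgroupOf R))) = (∏ q, a q)⁻¹ * tr := by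
      rw [hprod]; group
    have h2 := congrArg Subtype.val h1
    rw [hm] at h2
    have h3 : u ^ (T.relIndex R) = ((∏ q, a q : ↥V) : G)⁻¹ * (tr : G) := by
      simpa using h2
    rw [h3, hW]
    exact Subgroup.mul_mem_sup (Subgroup.inv_mem _ (Subgroup.mem_subgroupOf.mp hamem)) htrC
  have hcop : (T.relIndex R).Coprime p := ((Nat.Prime.coprime_iff_not_dvd hp).mpr hidx).symm
  obtain ⟨m', -, hm'⟩ := Nat.exists_mul_mod_eq_one_of_coprime hcop hp.one_lt
  have h5 := Subgroup.pow_mem _ hpow m'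
  rw [← pow_mul, pow_eq_pow_mod _ (hVp u huV), hm', pow_one] at h5
  exact h5

end Cfsg.Agent.Lib.Helper7

namespace Cfsg.Agent.Lib.Helper7

open Cfsg
open scoped Pointwise commutatorElement

/-- S2781 -/
theorem module_generated_by_sylow_fixed_points_splits {G : Type*} [Group G] [Finite G] {p : ℕ}
    [Fact p.Prime] (V H : Subgroup G) (hV : Cfsg.IsElementaryAbelian p V)
    (hHV : H ≤ Subgroup.normalizer (V : Set G))
    (R : Subgroup G) (hR : R = (Cfsg.pResidual p ↥H).map H.subtype) (S : Sylow p ↥R) (T : Subgroup G)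
    (hT : T = ((S : Subgroup ↥R).map R.subtype))
    (hgen : ∀ W : Subgroup G, H ≤ Subgroup.normalizer (W : Set G) →
      (V ⊓ Subgroup.centralizer ((T : Subgroup G) : Set G)) ≤ W → V ≤ W) :
    ⁅V, R⁆ ⊔ (V ⊓ Subgroup.centralizer ((R : Subgroup G) : Set G)) = V := by
  obtain ⟨hVc, hVp⟩ := (isElementaryAbelian_iff V).mp hV
  have hRH : R ≤ H := by rw [hR]; exact Subgroup.map_subtype_le _
  have hRV : R ≤ Subgroup.normalizer (V : Set G) := hRH.trans hHV
  have hTR : T ≤ R := by rw [hT]; exact Subgroup.map_subtype_le _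
  have hHR : H ≤ Subgroup.normalizer (R : Set G) := by
    rw [hR]
    haveI : (pResidual p ↥H).Normal := Cfsg.Agent.Lib.Lead.PResidual.normal p ↥H
    exact le_normalizer_map_subtype_of_normal _ _
  have hidx : ¬ p ∣ T.relIndex R := by
    have : T.subgroupOf R = (S : Subgroup ↥R) := by
      rw [hT]
      exact Subgroup.comap_map_eq_self_of_injective R.subtype_injective _
    rw [Subgroup.relIndex, this]
    exact S.not_dvd_index
  apply le_antisymm
  · exact sup_le (commutator_le_left_of_le_normalizer V R hRV) inf_le_left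
  · apply hgen
    · have hHC : H ≤ Subgroup.normalizer ((Subgroup.centralizer (R : Set G) : Subgroup G) : Set G) :=
        hHR.trans (normalizer_le_normalizer_centralizer R)
      refine le_trans ?_ (normalizer_inf_le_normalizer_sup _ _)
      refine le_inf ?_ ?_
      · exact (le_inf hHV hHR).trans (normalizer_inf_le_normalizer_commutator V R)
      · exact (le_inf hHV hHC).trans (normalizer_inf_le_normalizer_inf V _)
    · exact centralizer_le_commutator_sup_centralizer V R T hVc hVp hRV hTR hidx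

end Cfsg.Agent.Lib.Helper7
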