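import Mathlib
import Cfsg.Agent.Lib.Helper7.Kieler3
import Cfsg.Agent.Lib.Helper7.TraceSplit

set_option autoImplicit false

namespace Cfsg.Agent.Lib.Helper7

open Cfsg
open scoped Pointwise commutatorElement

variable {G : Type*} [Group G] [Finite G] {p : ℕ} [Fact p.Prime]

/-- Kieler's lemma for a normal subgroup (ambient version) -/
theorem kieler_normal {K Q L S : Subgroup G} (h : CharPWitness p K Q) (hLK : L ≤ K)
    (hLn : K ≤ Subgroup.normalizer (L : Set G)) (hS : IsSylowIn p S K) :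
    L ⊓ Subgroup.centralizer ((omZ p S : Subgroup G) : Set G) =
      L ⊓ Subgroup.centralizer ((omZ p (S ⊓ L) : Subgroup G) : Set G) := by
  obtain ⟨QL, hQL, hQLn, hQLv⟩ := h.normal_sub hLK hLn
  have hQS : Q ≤ S := hS.normal_le h.le h.norm h.pgroup
  have hSL : IsSylowIn p (S ⊓ L) L := hS.inf_normal L hLK hLn
  have hQLS : QL ≤ S := hS.normal_le (hQL.le.trans hLK) hQLn hQL.pgroup
  have hQLSL : QL ≤ S ⊓ L := le_inf hQLS hQL.le
  have hZV : omZ p S ≤ omZ p Q := by
    intro z hz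
    have hzQ : z ∈ Subgroup.centralizer (Q : Set G) :=
      Subgroup.centralizer_le (by exact_mod_cast hQS) hz.2.1
    exact ⟨h.cent ⟨hS.1 hz.1, hzQ⟩, hzQ, hz.2.2⟩
  have hZLW : omZ p (S ⊓ L) ≤ omZ p QL := by
    intro z hz
    have hzQ : z ∈ Subgroup.centralizer (QL : Set G) :=
      Subgroup.centralizer_le (by exact_mod_cast hQLSL) hz.2.1
    exact ⟨hQL.cent ⟨hz.1.2, hzQ⟩, hzQ, hz.2.2⟩
  have hV₀LW : ∀ v ∈ omZ p Q, v ∈ L → v ∈ omZ p QL := by
    intro v hv hvL
    obtain ⟨h1, h2⟩ := hQLv v ⟨hv.1, hvL⟩ hv.2.1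
    exact ⟨h1, h2, hv.2.2⟩
  have hKV₀ : K ≤ Subgroup.normalizer ((omZ p Q : Subgroup G) : Set G) := le_normalizer_omZ p h.norm
  have hKW : K ≤ Subgroup.normalizer ((omZ p QL : Subgroup G) : Set G) := le_normalizer_omZ p hQLn
  have hWSL : omZ p QL ≤ S ⊓ L := (omZ_le p QL).trans hQLSL
  have hSLS : Subgroup.centralizer (S : Set G) ≤ Subgroup.centralizer ((S ⊓ L : Subgroup G) : Set G) :=
    Subgroup.centralizer_le (by exact_mod_cast (inf_le_left : S ⊓ L ≤ S))
  apply le_antisymm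
  · -- (b)
    obtain ⟨E₂, hE₂⟩ : ∃ E₂ : Subgroup G,
      E₂ = L ⊓ Subgroup.centralizer ((omZ p S : Subgroup G) : Set G) := ⟨_, rfl⟩
    rw [← hE₂]
    have hE₂L : E₂ ≤ L := by rw [hE₂]; exact inf_le_left
    have hTR : S ⊓ L ≤ E₂ := by
      rw [hE₂]
      refine le_inf inf_le_right ?_
      intro s hs
      apply Subgroup.mem_centralizer_iff.mpr
      intro z hz
      exact (Subgroup.mem_centralizer_iff.mp hz.2.1 s hs.1).symm
    have hSnS : S ≤ Subgroup.normalizer (S : Set G) := Subgroup.le_normalizer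
    have hPR : S ≤ Subgroup.normalizer (E₂ : Set G) := by
      rw [hE₂]
      exact le_normalizer_inf' (hS.1.trans hLn)
        (le_normalizer_centralizer' (le_normalizer_omZ p hSnS))
    have key := centralizer_le_of_fixed_points (p := p) (omZ p QL) E₂ (S ⊓ L) S
      (omZ_comm p QL) (omZ_pow p QL) ((hE₂L.trans hLK).trans hKW) hTR
      (hSL.not_dvd_relIndex_of_le hTR hE₂L) hS.isPGroup (hWSL.trans inf_le_left)
      (hS.1.trans hKW) hPR (le_normalizer_inf' hSnS (hS.1.trans hLn))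
      (by
        rintro w ⟨⟨hwW, -⟩, hwS⟩
        have hwZ : w ∈ omZ p S := ⟨(hWSL hwW).1, hwS, hwW.2.2⟩
        apply Subgroup.mem_centralizer_iff.mpr
        intro e he
        rw [hE₂] at he
        exact (Subgroup.mem_centralizer_iff.mp he.2 w hwZ).symm)
    intro x hx
    refine ⟨hE₂L hx, ?_⟩
    apply Subgroup.mem_centralizer_iff.mpr
    intro z hz
    have hzc := key ⟨hZLW hz, hz.2.1⟩
    exact (Subgroup.mem_centralizer_iff.mp hzc x hx).symm
  · -- (a)
    obtain ⟨E₁, hE₁⟩ : ∃ E₁ : Subgroup G,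
      E₁ = L ⊓ Subgroup.centralizer ((omZ p (S ⊓ L) : Subgroup G) : Set G) := ⟨_, rfl⟩
    rw [← hE₁]
    have hE₁L : E₁ ≤ L := by rw [hE₁]; exact inf_le_left
    have hTR : S ⊓ L ≤ E₁ := by
      rw [hE₁]
      refine le_inf inf_le_right ?_
      intro s hs
      apply Subgroup.mem_centralizer_iff.mpr
      intro z hz
      exact (Subgroup.mem_centralizer_iff.mp hz.2.1 s hs).symm
    have hRV : E₁ ≤ Subgroup.normalizer ((omZ p Q : Subgroup G) : Set G) := (hE₁L.trans hLK).trans hKV₀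
    have key := centralizer_le_commutator_sup_centralizer (p := p) (omZ p Q) E₁ (S ⊓ L)
      (omZ_comm p Q) (omZ_pow p Q) hRV hTR (hSL.not_dvd_relIndex_of_le hTR hE₁L)
    have hAV : ⁅omZ p Q, E₁⁆ ≤ omZ p Q := commutator_le_left_of_le_normalizer _ _ hRV
    have hAL : ⁅omZ p Q, E₁⁆ ≤ L := by
      rw [Subgroup.commutator_le]
      intro v hv e he
      have hvK : v ∈ K := h.le hv.1
      have h1 : v * e * v⁻¹ ∈ L := conj_mem_of_le_normalizer hLn hvK (hE₁L he)
      have e' : ⁅v, e⁆ = (v * e * v⁻¹) * e⁻¹ := by rw [commutatorElement_def]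
      rw [e']; exact L.mul_mem h1 (L.inv_mem (hE₁L he))
    have hAB : ⁅omZ p Q, E₁⁆ ≤ Subgroup.normalizer
        ((omZ p Q ⊓ Subgroup.centralizer (E₁ : Set G) : Subgroup G) : Set G) := by
      apply le_normalizer_of_conj
      intro a ha b hb
      have hc : a * b = b * a := omZ_comm p Q a (hAV ha) b hb.1
      have e' : a * b * a⁻¹ = b := by rw [hc]; group
      rw [e']; exact hb
    intro x hx
    refine ⟨hE₁L hx, ?_⟩
    apply Subgroup.mem_centralizer_iff.mpr
    intro z hz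
    have hz1 : z ∈ ⁅omZ p Q, E₁⁆ ⊔ (omZ p Q ⊓ Subgroup.centralizer (E₁ : Set G)) :=
      key ⟨hZV hz, hSLS hz.2.1⟩
    have hz2 : z ∈ ((⁅omZ p Q, E₁⁆ ⊔ (omZ p Q ⊓ Subgroup.centralizer (E₁ : Set G)) : Subgroup G) : Set G) :=
      hz1
    rw [Subgroup.coe_mul_of_left_le_normalizer_right _ _ hAB] at hz2
    obtain ⟨a, ha, b, hb, hab⟩ := Set.mem_mul.mp hz2
    have haW : a ∈ omZ p QL := hV₀LW a (hAV ha) (hAL ha)
    have hbSL : b ∈ Subgroup.centralizer ((S ⊓ L : Subgroup G) : Set G) :=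
      Subgroup.centralizer_le (by exact_mod_cast hTR) hb.2
    have haSL : a ∈ Subgroup.centralizer ((S ⊓ L : Subgroup G) : Set G) := by
      have e' : a = z * b⁻¹ := by rw [← hab]; group
      rw [e']
      exact Subgroup.mul_mem _ (hSLS hz.2.1) (Subgroup.inv_mem _ hbSL)
    have haZL : a ∈ omZ p (S ⊓ L) := ⟨hWSL haW, haSL, haW.2.2⟩
    have hxc : x ∈ Subgroup.centralizer ((omZ p (S ⊓ L) : Subgroup G) : Set G) := by
      rw [hE₁] at hx; exact hx.2
    have h1 : a * x = x * a := Subgroup.mem_centralizer_iff.mp hxc a haZL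
    have h2 : x * b = b * x := Subgroup.mem_centralizer_iff.mp hb.2 x hx
    rw [← hab]
    calc a * b * x = a * (b * x) := by group
      _ = a * (x * b) := by rw [h2]
      _ = (a * x) * b := by group
      _ = (x * a) * b := by rw [h1]
      _ = x * (a * b) := by group

end Cfsg.Agent.Lib.Helper7
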