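import Mathlib
import Cfsg.Agent.Lib.Helper7.Kieler4

set_option autoImplicit false

namespace Cfsg.Agent.Lib.Helper7

open Cfsg
open scoped Pointwise commutatorElement

variable {G : Type*} [Group G] [Finite G] {p : ℕ} [Fact p.Prime]

theorem kieler_subnormal_aux (hH : Subgroup.centralizer (Cfsg.pCore p G : Set G) ≤ Cfsg.pCore p G)
    (T : Sylow p G) (L : Subgroup G) (hL : L.IsSubnormal) :
    (∃ Q, CharPWitness p L Q) ∧ IsSylowIn p ((T : Subgroup G) ⊓ L) L ∧
      L ⊓ Subgroup.centralizer ((omZ p (T : Subgroup G) : Subgroup G) : Set G) =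
        L ⊓ Subgroup.centralizer ((omZ p ((T : Subgroup G) ⊓ L) : Subgroup G) : Set G) := by
  induction hL with
  | top =>
    refine ⟨⟨Cfsg.pCore p G, le_top, ?_, pCore_isPGroup p G, ?_⟩, ?_, ?_⟩
    · haveI := pCore_normal p G
      rw [Subgroup.normalizer_eq_top]
    · exact inf_le_right.trans hH
    · rw [inf_top_eq]; exact IsSylowIn.of_sylow_top T
    · rw [inf_top_eq]
  | step L K h_le hSubn hN ih =>
    obtain ⟨⟨Q, hQ⟩, hTK, heq⟩ := ih
    have hLn : K ≤ Subgroup.normalizer (L : Set G) :=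
      (Subgroup.normal_subgroupOf_iff_le_normalizer h_le).mp hN
    have hTL : ((T : Subgroup G) ⊓ K) ⊓ L = (T : Subgroup G) ⊓ L := by
      rw [inf_assoc, inf_eq_right.mpr h_le]
    obtain ⟨QL, hQL, -, -⟩ := hQ.normal_sub h_le hLn
    refine ⟨⟨QL, hQL⟩, ?_, ?_⟩
    · have := hTK.inf_normal L h_le hLn
      rwa [hTL] at this
    · have h1 := kieler_normal hQ h_le hLn hTK
      rw [hTL] at h1
      rw [← h1]
      calc L ⊓ Subgroup.centralizer ((omZ p (T : Subgroup G) : Subgroup G) : Set G)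
          = L ⊓ (K ⊓ Subgroup.centralizer ((omZ p (T : Subgroup G) : Subgroup G) : Set G)) := by
            rw [← inf_assoc, inf_eq_left.mpr h_le]
        _ = L ⊓ (K ⊓ Subgroup.centralizer ((omZ p ((T : Subgroup G) ⊓ K) : Subgroup G) : Set G)) := by
            rw [heq]
        _ = _ := by rw [← inf_assoc, inf_eq_left.mpr h_le]

/-- Kieler's Lemma (S2805) -/
theorem kieler_lemma (hH : Subgroup.centralizer (Cfsg.pCore p G : Set G) ≤ Cfsg.pCore p G)
    (T : Sylow p G) (L : Subgroup G) (hL : L.IsSubnormal) :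
    L ⊓ Subgroup.centralizer ((Cfsg.omegaOne p ((T : Subgroup G) ⊓
        Subgroup.centralizer ((T : Subgroup G) : Set G))) : Set G) =
      L ⊓ Subgroup.centralizer ((Cfsg.omegaOne p (((T : Subgroup G) ⊓ L) ⊓
        Subgroup.centralizer ((((T : Subgroup G) ⊓ L) : Subgroup G) : Set G))) : Set G) := by
  rw [omegaOne_center_eq, omegaOne_center_eq]
  exact (kieler_subnormal_aux hH T L hL).2.2

end Cfsg.Agent.Lib.Helper7
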