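import Mathlib
import Cfsg.Prelude.Def_Local
import Cfsg.Agent.Lib.Helper7.SubnormalPRes
import Cfsg.Agent.Lib.Helper7.SylowJoin
import Cfsg.Agent.H2.HyperplaneGen
import Cfsg.Agent.H2.BenderLemma
import Cfsg.Agent.H1.CoprimeAction

/-!
# Generic lemmas for S3754 (helper7)
-/

set_option autoImplicit false

namespace Cfsg.Agent.Lib.Helper7.Ks

open Cfsg
open scoped commutatorElement

variable {G : Type*} [Group G] {p : ℕ}

/-- `(k a)^m = k' a^m` when `a` normalizes `K` -/
theorem mul_pow_of_normalizes (K : Subgroup G) {k a : G} (hk : k ∈ K)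
    (ha : a ∈ Subgroup.normalizer (K : Set G)) (m : ℕ) :
    ∃ k' ∈ K, (k * a) ^ m = k' * a ^ m := by
  induction m with
  | zero => exact ⟨1, K.one_mem, by simp⟩
  | succ m ih =>
    obtain ⟨k', hk', e⟩ := ih
    have ham : a ^ m ∈ Subgroup.normalizer (K : Set G) := Subgroup.pow_mem _ ha m
    refine ⟨k' * (a ^ m * k * (a ^ m)⁻¹), K.mul_mem hk' ((Subgroup.mem_normalizer_iff.mp ham k).mp hk), ?_⟩
    rw [pow_succ, e, pow_succ]
    group

/-- a `p'`-element of `N ⊔ U`, `U` a `p`-group normalizing `N`, lies in `N` -/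
theorem mem_of_coprime_of_mem_sup [Fact p.Prime] (N U : Subgroup G)
    (hUN : U ≤ Subgroup.normalizer (N : Set G)) (hU : IsPGroup p ↥U) {g : G} (hg : g ∈ N ⊔ U)
    (hc : (orderOf g).Coprime p) : g ∈ N := by
  obtain ⟨n, hn, u, hu, rfl⟩ := (Cfsg.Agent.H1.mem_sup_of_le_normalizer N U hUN).mp hg
  obtain ⟨n', hn', e⟩ := mul_pow_of_normalizes N hn (hUN hu) (orderOf (n * u))
  rw [pow_orderOf_eq_one] at e
  have hum : u ^ orderOf (n * u) ∈ N := by
    rw [eq_inv_of_mul_eq_one_right e.symm]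
    exact N.inv_mem hn'
  obtain ⟨k, hk⟩ := pow_eq_one_of_mem_isPGroup hU hu
  have hcop : (orderOf (n * u)).Coprime (orderOf u) :=
    Nat.Coprime.coprime_dvd_right (orderOf_dvd_of_pow_eq_one hk) (Nat.Coprime.pow_right k hc)
  obtain ⟨j, hj⟩ := exists_pow_eq_self_of_coprime hcop
  have huN : u ∈ N := by
    rw [← hj]
    exact N.pow_mem hum j
  exact N.mul_mem hn huN

/-- the `p'`-part of an element whose image is a `p'`-element has the same image -/
theorem exists_mem_pRes_map_eq [Finite G] [Fact p.Prime] {G' : Type*} [Group G'] (f : G →* G')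
    (L : Subgroup G) {n : G} (hn : n ∈ L) (hc : (orderOf (f n)).Coprime p) :
    ∃ y ∈ pRes p L, f y = f n := by
  obtain ⟨a, b, hab, ⟨k, hk⟩, hb⟩ := Cfsg.Agent.H2.BenderLemma.exists_pow_mul_pow p n
  refine ⟨n ^ b, mem_pRes (L.zpow_mem hn b) hb, ?_⟩
  have h1 : f (n ^ a) = 1 := by
    apply eq_one_of_coprime_of_pow_eq_one (p := p) _ _ k
    · rw [← map_pow, hk, map_one]
    · rw [map_zpow]
      exact Nat.Coprime.coprime_dvd_left (orderOf_dvd_of_pow_eq_one (by
        rw [← zpow_natCast, ← zpow_mul, mul_comm, zpow_mul, zpow_natCast, pow_orderOf_eq_one, one_zpow])) hc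
  conv_rhs => rw [hab, map_mul, h1, one_mul]

/-- a `p`-element commuting with its commutator with `k`, when that commutator is a `p'`-element,
commutes with `k` -/
theorem commutator_eq_one_of_commute {k a : G} (hap : a ^ p = 1)
    (hcomm : a * ⁅k, a⁆ = ⁅k, a⁆ * a) (hc : (orderOf ⁅k, a⁆).Coprime p) : ⁅k, a⁆ = 1 := by
  have h1 : ⁅k, a⁆ ^ p = 1 := by
    rw [← commutatorElement_pow_right k a hcomm, hap, commutatorElement_one_right]
  have := eq_one_of_coprime_of_pow_eq_one (p := p) ⁅k, a⁆ hc 1 (by rwa [pow_one])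
  exact this

end Cfsg.Agent.Lib.Helper7.Ks
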