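import Mathlib
import Cfsg.Agent.Lib.Helper7.KsA

set_option autoImplicit false

namespace Cfsg.Agent.Lib.Helper7.Ks

open Cfsg
open scoped commutatorElement

variable {Q : Type*} [Group Q] [Finite Q] {p : ℕ} [Fact p.Prime]

omit [Finite Q] [Fact p.Prime] in
theorem isPGroup_of_elemAb {Ab : Subgroup Q} (hAe : IsElementaryAbelian p Ab) : IsPGroup p ↥Ab := by
  intro g
  exact ⟨1, Subtype.ext (by simpa using hAe.2 g g.2)⟩

omit [Finite Q] [Fact p.Prime] in
theorem abelian_le_centralizer {Ab B : Subgroup Q} (hAe : IsElementaryAbelian p Ab) (hB : B ≤ Ab) :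
    Ab ≤ Subgroup.centralizer (B : Set Q) := by
  intro a ha
  rw [Subgroup.mem_centralizer_iff]
  intro b hb
  have := isMulCommutative_iff.1 hAe.1 ⟨b, hB hb⟩ ⟨a, ha⟩
  exact congrArg Subtype.val this

/-- the minimal configuration downstairs -/
theorem exists_min_config (Ab Kb : Subgroup Q) [hKn : Kb.Normal] (hAe : IsElementaryAbelian p Ab)
    (hK : (Nat.card Kb).Coprime p) (hnc : ¬ Ab ≤ Subgroup.centralizer (Kb : Set Q)) :
    ∃ (K2 : Subgroup Q) (a : Q), a ∈ Ab ∧ K2 ≤ Kb ∧ Ab ≤ Subgroup.normalizer (K2 : Set Q) ∧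
      (Ab ⊓ Subgroup.centralizer (K2 : Set Q)).relIndex Ab = p ∧
      (∃ k ∈ K2, k * a ≠ a * k) ∧
      ∀ K' : Subgroup Q, K' ≤ K2 → Ab ≤ Subgroup.normalizer (K' : Set Q) →
        (∃ k ∈ K', k * a ≠ a * k) → K' = K2 := by
  have hp : p.Prime := Fact.out
  obtain ⟨a, haA, haC⟩ := SetLike.not_le_iff_exists.mp hnc
  rw [Subgroup.mem_centralizer_iff] at haC
  push Not at haC
  obtain ⟨k0, hk0K, hk0⟩ := haC
  have hAK : Ab ≤ Subgroup.normalizer (Kb : Set Q) := by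
    rw [Subgroup.normalizer_eq_top]; exact le_top
  have hgen := Cfsg.Agent.H2.HyperGen.eq_hyperGen Ab Kb hAe
    ((Nat.Prime.coprime_iff_not_dvd hp).mp hK.symm) hAK
  have hex : ∃ B0 : {B : Subgroup Q // B ≤ Ab ∧ B.relIndex Ab ≤ p},
      ∃ k ∈ Kb ⊓ Subgroup.centralizer ((B0 : Subgroup Q) : Set Q), k * a ≠ a * k := by
    by_contra h
    push Not at h
    have hle : Kb ≤ Subgroup.centralizer ({a} : Set Q) := by
      rw [hgen]
      unfold Cfsg.Agent.H2.HyperGen.hyperGen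
      apply iSup_le
      intro B0 k hk
      rw [Subgroup.mem_centralizer_iff]
      intro h' hh'
      rw [Set.mem_singleton_iff] at hh'
      rw [hh']
      exact (h B0 k hk).symm
    have := Subgroup.mem_centralizer_iff.mp (hle hk0K) a rfl
    exact hk0 this.symm
  obtain ⟨⟨B0, hB0A, hB0i⟩, k1, hk1, hk1a⟩ := hex
  set K0 : Subgroup Q := Kb ⊓ Subgroup.centralizer (B0 : Set Q) with hK0
  have hAK0 : Ab ≤ Subgroup.normalizer (K0 : Set Q) :=
    Cfsg.Agent.H2.HyperGen.le_normalizer_inf _ _ _ hAK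
      ((abelian_le_centralizer hAe hB0A).trans Subgroup.le_normalizer)
  let F : Set (Subgroup Q) := {K' | K' ≤ K0 ∧ Ab ≤ Subgroup.normalizer (K' : Set Q) ∧
    ∃ k ∈ K', k * a ≠ a * k}
  have hfin : F.Finite := Set.toFinite _
  have hne : F.Nonempty := ⟨K0, le_rfl, hAK0, k1, hk1, hk1a⟩
  obtain ⟨K2, hK2⟩ := hfin.exists_minimal hne
  obtain ⟨hK2K0, hK2A, k2, hk2, hk2a⟩ := hK2.prop
  refine ⟨K2, a, haA, hK2K0.trans inf_le_left, hK2A, ?_, ⟨k2, hk2, hk2a⟩, ?_⟩
  · set C : Subgroup Q := Ab ⊓ Subgroup.centralizer (K2 : Set Q) with hC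
    have hB0C : B0 ≤ C := by
      refine le_inf hB0A ?_
      rw [Subgroup.le_centralizer_iff]
      exact hK2K0.trans inf_le_right
    have hCA : C ≤ Ab := inf_le_left
    have hne1 : C.relIndex Ab ≠ 1 := by
      intro h1
      rw [Subgroup.relIndex_eq_one] at h1
      have h2 : a ∈ Subgroup.centralizer (K2 : Set Q) := (h1 haA).2
      rw [Subgroup.mem_centralizer_iff] at h2
      exact hk2a (h2 k2 hk2)
    have hmul := Subgroup.relIndex_mul_relIndex B0 C Ab hB0C hCA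
    have hpos : B0.relIndex Ab ≠ 0 := by
      unfold Subgroup.relIndex; exact Subgroup.index_ne_zero_of_finite
    have hle : C.relIndex Ab ≤ p := by
      refine le_trans (Nat.le_of_dvd (Nat.pos_of_ne_zero hpos) ?_) hB0i
      exact Dvd.intro_left _ hmul
    obtain ⟨n, hn⟩ := (isPGroup_of_elemAb hAe).exists_card_eq
    have hdvd : C.relIndex Ab ∣ p ^ n := hn ▸ Subgroup.relIndex_dvd_card C Ab
    obtain ⟨j, hjn, hj⟩ := (Nat.dvd_prime_pow hp).mp hdvd
    rcases Nat.eq_zero_or_pos j with hj0 | hjpos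
    · rw [hj0, pow_zero] at hj; exact absurd hj hne1
    · refine le_antisymm hle ?_
      rw [hj]
      calc p = p ^ 1 := (pow_one p).symm
        _ ≤ p ^ j := Nat.pow_le_pow_right hp.pos hjpos
  · intro K' hK'K2 hK'A hK'w
    have hmem : K' ∈ F := ⟨hK'K2.trans hK2K0, hK'A, hK'w⟩
    exact le_antisymm hK'K2 (hK2.le_of_le hmem hK'K2)

/-- the minimal configuration -/
structure Cfg (p : ℕ) (Ab Kb K2 : Subgroup Q) (a : Q) : Prop where
  elem : IsElementaryAbelian p Ab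
  cop : (Nat.card Kb).Coprime p
  haA : a ∈ Ab
  hK2K : K2 ≤ Kb
  hK2A : Ab ≤ Subgroup.normalizer (K2 : Set Q)
  hidx : (Ab ⊓ Subgroup.centralizer (K2 : Set Q)).relIndex Ab = p
  hw : ∃ k ∈ K2, k * a ≠ a * k
  hmin : ∀ K' : Subgroup Q, K' ≤ K2 → Ab ≤ Subgroup.normalizer (K' : Set Q) →
    (∃ k ∈ K', k * a ≠ a * k) → K' = K2

namespace Cfg

variable {Ab Kb K2 : Subgroup Q} {a : Q} (h : Cfg p Ab Kb K2 a)

include h

omit [Finite Q] [Fact p.Prime] in
theorem coprime_of_mem {g : Q} (hg : g ∈ Kb) : (orderOf g).Coprime p := by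
  have h1 : orderOf g ∣ Nat.card ↥Kb := by
    have := orderOf_dvd_natCard (⟨g, hg⟩ : ↥Kb)
    rwa [← Subgroup.orderOf_coe] at this
  exact Nat.Coprime.coprime_dvd_left h1 h.cop

theorem eq_one_of_mem {U : Subgroup Q} (hU : IsPGroup p ↥U) {g : Q} (hgU : g ∈ U) (hgK : g ∈ Kb) :
    g = 1 := by
  obtain ⟨k, hk⟩ := pow_eq_one_of_mem_isPGroup hU hgU
  exact eq_one_of_coprime_of_pow_eq_one g (h.coprime_of_mem hgK) k hk

omit [Finite Q] [Fact p.Prime] in
theorem pow_p {b : Q} (hb : b ∈ Ab) : b ^ p = 1 := h.elem.2 b hb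

/-- a commutator with `a` from `K2` commuting with `a` is trivial -/
theorem comm_of_comm_commutator {k : Q} (hk : k ∈ K2) (hc : a * ⁅k, a⁆ = ⁅k, a⁆ * a) :
    k * a = a * k := by
  have hmem : ⁅k, a⁆ ∈ K2 := by
    have : ⁅k, a⁆ = k * (a * k⁻¹ * a⁻¹) := by rw [commutatorElement_def]; group
    rw [this]
    exact K2.mul_mem hk ((Subgroup.mem_normalizer_iff.mp (h.hK2A h.haA) _).mp (K2.inv_mem hk))
  have := commutator_eq_one_of_commute (h.pow_p h.haA) hc (h.coprime_of_mem (h.hK2K hmem))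
  exact commutatorElement_eq_one_iff_mul_comm.mp this

omit [Finite Q] [Fact p.Prime] in
theorem commutator_mem_K2 {k b : Q} (hk : k ∈ K2) (hb : b ∈ Ab) : ⁅k, b⁆ ∈ K2 := by
  have : ⁅k, b⁆ = k * (b * k⁻¹ * b⁻¹) := by rw [commutatorElement_def]; group
  rw [this]
  exact K2.mul_mem hk ((Subgroup.mem_normalizer_iff.mp (h.hK2A hb) _).mp (K2.inv_mem hk))

/-- `K2 = [K2, Ab]` -/
theorem K2_eq_commutator : ⁅K2, Ab⁆ = K2 := by
  obtain ⟨k2, hk2, hk2a⟩ := h.hw
  apply h.hmin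
  · rw [Subgroup.commutator_le]
    intro k hk b hb
    exact h.commutator_mem_K2 hk hb
  · exact Subgroup.normalizer_commutator_ge_right K2 Ab
  · refine ⟨⁅k2, a⁆, Subgroup.commutator_mem_commutator hk2 h.haA, ?_⟩
    intro hc
    exact hk2a (h.comm_of_comm_commutator hk2 hc.symm)

variable {x : Q} (hx : x ∈ K2) (hxa : x * a ≠ a * x)

include hx in
theorem Lb_le : Ab ⊔ Ab.map (MulAut.conj x).toMonoidHom ≤ K2 ⊔ Ab := by
  refine sup_le le_sup_right ?_
  rintro _ ⟨b, hb, rfl⟩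
  have e : (MulAut.conj x).toMonoidHom b = ⁅x, b⁆ * b := by
    simp only [MulEquiv.toMonoidHom_eq_coe, MonoidHom.coe_coe, MulAut.conj_apply, commutatorElement_def]
    group
  rw [e]
  exact Subgroup.mul_mem _ (Subgroup.mem_sup_left (h.commutator_mem_K2 hx hb)) (Subgroup.mem_sup_right hb)

include hx in
theorem Lb_le_normalizer : Ab ⊔ Ab.map (MulAut.conj x).toMonoidHom ≤ Subgroup.normalizer (K2 : Set Q) :=
  (h.Lb_le hx).trans (sup_le Subgroup.le_normalizer h.hK2A)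

include hx hxa in
theorem K2_le_Lb : K2 ≤ Ab ⊔ Ab.map (MulAut.conj x).toMonoidHom := by
  set Lb := Ab ⊔ Ab.map (MulAut.conj x).toMonoidHom with hLb
  have hK' : Lb ⊓ K2 = K2 := by
    apply h.hmin _ inf_le_right
    · exact Cfsg.Agent.H2.HyperGen.le_normalizer_inf _ _ _
        ((le_sup_left : Ab ≤ Lb).trans Subgroup.le_normalizer) h.hK2A
    · refine ⟨⁅x, a⁆, ⟨?_, h.commutator_mem_K2 hx h.haA⟩, ?_⟩
      · have e : ⁅x, a⁆ = (MulAut.conj x).toMonoidHom a * a⁻¹ := by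
          simp only [MulEquiv.toMonoidHom_eq_coe, MonoidHom.coe_coe, MulAut.conj_apply, commutatorElement_def]
        rw [e]
        exact Lb.mul_mem (Subgroup.mem_sup_right ⟨a, h.haA, rfl⟩)
          (Lb.inv_mem (Subgroup.mem_sup_left h.haA))
      · intro hc
        exact hxa (h.comm_of_comm_commutator hx hc.symm)
  rw [← hK']
  exact inf_le_left

omit [Finite Q] [Fact p.Prime] in
include hx in
/-- `B` centralizes `Lb` -/
theorem Lb_le_centralizer :
    Ab ⊔ Ab.map (MulAut.conj x).toMonoidHom ≤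
      Subgroup.centralizer ((Ab ⊓ Subgroup.centralizer (K2 : Set Q) : Subgroup Q) : Set Q) := by
  refine sup_le (abelian_le_centralizer h.elem inf_le_left) ?_
  rintro _ ⟨b', hb', rfl⟩
  rw [Subgroup.mem_centralizer_iff]
  intro b hb
  have h1 : b * b' = b' * b := by
    have := isMulCommutative_iff.1 h.elem.1 ⟨b, hb.1⟩ ⟨b', hb'⟩
    exact congrArg Subtype.val this
  have h2 : x * b = b * x := Subgroup.mem_centralizer_iff.mp hb.2 x hx
  simp only [MulEquiv.toMonoidHom_eq_coe, MonoidHom.coe_coe, MulAut.conj_apply]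
  calc b * (x * b' * x⁻¹) = (b * x) * b' * x⁻¹ := by group
    _ = x * (b * b') * x⁻¹ := by rw [← h2]; group
    _ = x * (b' * b) * x⁻¹ := by rw [h1]
    _ = x * b' * (b * x⁻¹) := by group
    _ = x * b' * (x⁻¹ * b) := by
        have : b * x⁻¹ = x⁻¹ * b := by
          rw [eq_inv_mul_iff_mul_eq, ← mul_assoc, h2, mul_inv_cancel_right]
        rw [this]
    _ = x * b' * x⁻¹ * b := by group

include hx in
/-- `p'`-elements of `Lb` lie in `K2` -/
theorem mem_K2_of_coprime {g : Q} (hg : g ∈ Ab ⊔ Ab.map (MulAut.conj x).toMonoidHom)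
    (hc : (orderOf g).Coprime p) : g ∈ K2 :=
  mem_of_coprime_of_mem_sup K2 Ab h.hK2A (isPGroup_of_elemAb h.elem) (h.Lb_le hx hg) hc

include hx hxa in
/-- a normal `p`-subgroup of `Lb` meets `Ab` inside `B` -/
theorem normal_pGroup_inf_le {Ub : Subgroup Q} (hUL : Ub ≤ Ab ⊔ Ab.map (MulAut.conj x).toMonoidHom)
    (hn : Ab ⊔ Ab.map (MulAut.conj x).toMonoidHom ≤ Subgroup.normalizer (Ub : Set Q))
    (hU : IsPGroup p ↥Ub) : Ub ⊓ Ab ≤ Ab ⊓ Subgroup.centralizer (K2 : Set Q) := by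
  intro u hu
  refine ⟨hu.2, ?_⟩
  show u ∈ Subgroup.centralizer (K2 : Set Q)
  rw [Subgroup.mem_centralizer_iff]
  intro k hk
  have hkL := h.K2_le_Lb hx hxa hk
  have h1 : ⁅u, k⁆ ∈ Ub := by
    have : ⁅u, k⁆ = u * (k * u⁻¹ * k⁻¹) := by rw [commutatorElement_def]; group
    rw [this]
    exact Ub.mul_mem hu.1 ((Subgroup.mem_normalizer_iff.mp (hn hkL) _).mp (Ub.inv_mem hu.1))
  have h2 : ⁅u, k⁆ ∈ K2 := by
    have : ⁅u, k⁆ = (u * k * u⁻¹) * k⁻¹ := by rw [commutatorElement_def]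
    rw [this]
    exact K2.mul_mem ((Subgroup.mem_normalizer_iff.mp (h.Lb_le_normalizer hx (hUL hu.1)) _).mp hk)
      (K2.inv_mem hk)
  have := h.eq_one_of_mem hU h1 (h.hK2K h2)
  exact (commutatorElement_eq_one_iff_mul_comm.mp this).symm

end Cfg

end Cfsg.Agent.Lib.Helper7.Ks
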