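import Mathlib
import Cfsg.Agent.Lib.Helper7.KsB

set_option autoImplicit false

namespace Cfsg.Agent.Lib.Helper7.Ks

open Cfsg
open scoped commutatorElement

variable {M : Type*} [Group M] [Finite M] {p : ℕ} [Fact p.Prime]

omit [Finite M] [Fact p.Prime] in
theorem map_conj_sup {M' : Type*} [Group M'] (f : M →* M') (A : Subgroup M) (x : M) :
    (A ⊔ A.map (MulAut.conj x).toMonoidHom).map f =
      A.map f ⊔ (A.map f).map (MulAut.conj (f x)).toMonoidHom := by
  rw [Subgroup.map_sup, Subgroup.map_map, Subgroup.map_map]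
  congr 2
  ext y
  simp [MulAut.conj_apply]

omit [Finite M] [Fact p.Prime] in
theorem conj_le_of_mem (A L : Subgroup M) (hAL : A ≤ L) {y : M} (hy : y ∈ L) :
    A ⊔ A.map (MulAut.conj y).toMonoidHom ≤ L := by
  refine sup_le hAL ?_
  rintro _ ⟨b, hb, rfl⟩
  simp only [MulEquiv.toMonoidHom_eq_coe, MonoidHom.coe_coe, MulAut.conj_apply]
  exact L.mul_mem (L.mul_mem hy (hAL hb)) (L.inv_mem hy)

theorem main_aux (P : Subgroup M) [hPn : P.Normal] (hP : IsPGroup p ↥P) (A : Subgroup M)
    (Kb K2 : Subgroup (M ⧸ P)) (a : M ⧸ P)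
    (h : Cfg p (A.map (QuotientGroup.mk' P)) Kb K2 a) :
    ∃ x : M, QuotientGroup.mk' P x ∈ K2 ∧
      x ∈ pRes p (A ⊔ A.map (MulAut.conj x).toMonoidHom) ∧
      pRes p (A ⊔ A.map (MulAut.conj x).toMonoidHom) ≤ Kb.comap (QuotientGroup.mk' P) ∧
      ⁅pRes p (A ⊔ A.map (MulAut.conj x).toMonoidHom), A⁆ =
        pRes p (A ⊔ A.map (MulAut.conj x).toMonoidHom) ∧
      (A ⊓ pCoreOf p (A ⊔ A.map (MulAut.conj x).toMonoidHom)).relIndex A = p ∧
      ⁅A ⊓ pCoreOf p (A ⊔ A.map (MulAut.conj x).toMonoidHom),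
        A ⊔ A.map (MulAut.conj x).toMonoidHom⁆ ≤ P := by
  set π := QuotientGroup.mk' P with hπ
  set Ab := A.map π with hAb
  have hker : π.ker = P := QuotientGroup.ker_mk' P
  -- step 1: minimal L
  let F : Set (Subgroup M) := {L | ∃ x : M, π x ∈ K2 ∧ π x * a ≠ a * π x ∧
    L = A ⊔ A.map (MulAut.conj x).toMonoidHom}
  have hfin : F.Finite := Set.toFinite _
  have hne : F.Nonempty := by
    obtain ⟨k, hk, hka⟩ := h.hw
    obtain ⟨x, rfl⟩ := QuotientGroup.mk'_surjective P k
    exact ⟨_, x, hk, hka, rfl⟩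
  obtain ⟨L0, hL0⟩ := hfin.exists_minimal hne
  obtain ⟨x0, hx0K, hx0a, hL0eq⟩ := hL0.prop
  -- step 2
  have hmapL0 : L0.map π = Ab ⊔ Ab.map (MulAut.conj (π x0)).toMonoidHom := by
    rw [hL0eq]; exact map_conj_sup π A x0
  have hx0L : π x0 ∈ L0.map π := by
    rw [hmapL0]; exact h.K2_le_Lb hx0K hx0a hx0K
  obtain ⟨n, hnL, hn⟩ := hx0L
  have hcn : (orderOf (π n)).Coprime p := by
    rw [hn]; exact h.coprime_of_mem (h.hK2K hx0K)
  obtain ⟨y, hyR, hy⟩ := exists_mem_pRes_map_eq π L0 hnL hcn
  rw [hn] at hy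
  have hAL0 : A ≤ L0 := by rw [hL0eq]; exact le_sup_left
  have hyL0 : y ∈ L0 := pRes_le L0 hyR
  have hLy_le : A ⊔ A.map (MulAut.conj y).toMonoidHom ≤ L0 := conj_le_of_mem A L0 hAL0 hyL0
  have hLy_mem : A ⊔ A.map (MulAut.conj y).toMonoidHom ∈ F :=
    ⟨y, by rw [hy]; exact hx0K, by rw [hy]; exact hx0a, rfl⟩
  have hLy_eq : A ⊔ A.map (MulAut.conj y).toMonoidHom = L0 :=
    le_antisymm hLy_le (hL0.le_of_le hLy_mem hLy_le)
  -- step 3
  have hyK : π y ∈ K2 := by rw [hy]; exact hx0K
  have hya : π y * a ≠ a * π y := by rw [hy]; exact hx0a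
  refine ⟨y, hyK, ?_⟩
  rw [hLy_eq]
  set L := L0 with hLdef
  set R := pRes p L with hR
  have hmapL : L.map π = Ab ⊔ Ab.map (MulAut.conj (π y)).toMonoidHom := by
    rw [← hLy_eq]; exact map_conj_sup π A y
  -- images of p'-elements of L lie in K2
  have hgen : ∀ g ∈ L, (orderOf g).Coprime p → π g ∈ K2 := by
    intro g hg hc
    apply h.mem_K2_of_coprime hyK
    · rw [← hmapL]; exact ⟨g, hg, rfl⟩
    · exact Nat.Coprime.coprime_dvd_left (orderOf_map_dvd π g) hc
  have hRmap : R.map π = K2 := by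
    apply le_antisymm
    · rw [Subgroup.map_le_iff_le_comap, hR]
      unfold pRes
      rw [Subgroup.closure_le]
      rintro g ⟨hg, hc⟩
      exact hgen g hg hc
    · intro k hk
      have hkL : k ∈ L.map π := by
        rw [hmapL]; exact h.K2_le_Lb hyK hya hk
      obtain ⟨n', hn'L, hn'⟩ := hkL
      have hc' : (orderOf (π n')).Coprime p := by
        rw [hn']; exact h.coprime_of_mem (h.hK2K hk)
      obtain ⟨y', hy'R, hy'⟩ := exists_mem_pRes_map_eq π L hn'L hc'
      exact ⟨y', hy'R, by rw [hy', hn']⟩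
  have hRL : R ≤ L := pRes_le L
  have hconjL : ∀ l ∈ L, ∀ b ∈ L, l * b * l⁻¹ ∈ L := fun l hl b hb =>
    L.mul_mem (L.mul_mem hl hb) (L.inv_mem hl)
  refine ⟨hyR, ?_, ?_, ?_, ?_⟩
  · -- (a2)
    rw [← Subgroup.map_le_iff_le_comap, hRmap]
    exact h.hK2K
  · -- (a3)
    apply le_antisymm
    · rw [Subgroup.commutator_le]
      intro r hr b hb
      have : ⁅r, b⁆ = r * (b * r⁻¹ * b⁻¹) := by rw [commutatorElement_def]; group
      rw [this]
      exact R.mul_mem hr (conj_mem_pRes (hconjL b (hAL0 hb)) (R.inv_mem hr))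
    · set T := ⁅R, A⁆ with hT
      have hTmap : T.map π = K2 := by
        rw [hT, Subgroup.map_commutator, hRmap]
        exact h.K2_eq_commutator
      have hTR : T ≤ R := by
        rw [hT, Subgroup.commutator_le]
        intro r hr b hb
        have : ⁅r, b⁆ = r * (b * r⁻¹ * b⁻¹) := by rw [commutatorElement_def]; group
        rw [this]
        exact R.mul_mem hr (conj_mem_pRes (hconjL b (hAL0 hb)) (R.inv_mem hr))
      have hLRA : L ≤ R ⊔ A := by
        rw [← hLy_eq]
        exact conj_le_of_mem A (R ⊔ A) le_sup_right (Subgroup.mem_sup_left hyR)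
      have hLT : L ≤ Subgroup.normalizer (T : Set M) :=
        hLRA.trans (sup_le (Subgroup.normalizer_commutator_ge_left R A)
          (Subgroup.normalizer_commutator_ge_right R A))
      conv_lhs => rw [hR]
      unfold pRes
      rw [Subgroup.closure_le]
      rintro g ⟨hg, hc⟩
      have hgK : π g ∈ T.map π := by rw [hTmap]; exact hgen g hg hc
      obtain ⟨t, ht, htg⟩ := hgK
      have hu : t⁻¹ * g ∈ L ⊓ P := by
        refine ⟨L.mul_mem (L.inv_mem (hRL (hTR ht))) hg, ?_⟩
        have : t⁻¹ * g ∈ π.ker := by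
          rw [MonoidHom.mem_ker, map_mul, map_inv, htg, inv_mul_cancel]
        rwa [hker] at this
      have hgsup : g ∈ T ⊔ (L ⊓ P) := by
        have : g = t * (t⁻¹ * g) := by group
        rw [this]
        exact Subgroup.mul_mem _ (Subgroup.mem_sup_left ht) (Subgroup.mem_sup_right hu)
      exact mem_of_coprime_of_mem_sup T (L ⊓ P) (inf_le_left.trans hLT) (hP.to_le inf_le_right) hgsup hc
  · -- (b)
    set B := Ab ⊓ Subgroup.centralizer (K2 : Set (M ⧸ P)) with hB
    have hcent : L.map π ≤ Subgroup.centralizer (B : Set (M ⧸ P)) := by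
      rw [hmapL]; exact h.Lb_le_centralizer hyK
    have heq : A ⊓ pCoreOf p L = A ⊓ B.comap π := by
      apply le_antisymm
      · intro b hb
        refine ⟨hb.1, ?_⟩
        show π b ∈ B
        have hUb : (pCoreOf p L).map π ⊓ Ab ≤ B := by
          apply h.normal_pGroup_inf_le hyK hya
          · rw [← hmapL]; exact Subgroup.map_mono (pCoreOf_le L)
          · rw [← hmapL]
            exact (Subgroup.map_mono (le_normalizer_pCoreOf L)).trans (Subgroup.le_normalizer_map π)
          · exact (pCoreOf_isPGroup L).map π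
        exact hUb ⟨⟨b, hb.2, rfl⟩, ⟨b, hb.1, rfl⟩⟩
      · have hU : L ⊓ B.comap π ≤ pCoreOf p L := by
          apply le_pCoreOf inf_le_left
          · apply Cfsg.Agent.H2.HyperGen.le_normalizer_inf _ _ _ Subgroup.le_normalizer
            intro l hl
            rw [Subgroup.mem_normalizer_iff]
            intro u
            have hc : ∀ b ∈ B, π l * b * (π l)⁻¹ = b := by
              intro b hb
              have := Subgroup.mem_centralizer_iff.mp (hcent ⟨l, hl, rfl⟩) b hb
              rw [← this, mul_inv_cancel_right]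
            constructor
            · intro hu
              show π (l * u * l⁻¹) ∈ B
              rw [map_mul, map_mul, map_inv, hc _ hu]
              exact hu
            · intro hu
              show π u ∈ B
              have hu' : π l * π u * (π l)⁻¹ ∈ B := by
                have : π (l * u * l⁻¹) ∈ B := hu
                rwa [map_mul, map_mul, map_inv] at this
              have e : π u = (π l)⁻¹ * (π l * π u * (π l)⁻¹) * π l := by group
              rw [e, ← hc _ hu']
              have : (π l)⁻¹ * (π l * (π l * π u * (π l)⁻¹) * (π l)⁻¹) * π l = π l * π u * (π l)⁻¹ := by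
                group
              rw [this]
              exact hu'
          · have h1 : IsPGroup p ↥(B.comap π) := by
              apply IsPGroup.comap_of_ker_isPGroup ((isPGroup_of_elemAb h.elem).to_le inf_le_left)
              rw [hker]; exact hP
            exact h1.to_le inf_le_right
        exact le_inf inf_le_left ((inf_le_inf_right _ hAL0).trans hU)
    rw [heq, Subgroup.inf_relIndex_left, Subgroup.relIndex_comap]
    exact h.hidx
  · -- (c)
    rw [Subgroup.commutator_le]
    intro b hb l hl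
    rw [← hker, MonoidHom.mem_ker, map_commutatorElement, commutatorElement_eq_one_iff_mul_comm]
    have hbB : π b ∈ Ab ⊓ Subgroup.centralizer (K2 : Set (M ⧸ P)) := by
      have hUb : (pCoreOf p L).map π ⊓ Ab ≤ Ab ⊓ Subgroup.centralizer (K2 : Set (M ⧸ P)) := by
        apply h.normal_pGroup_inf_le hyK hya
        · rw [← hmapL]; exact Subgroup.map_mono (pCoreOf_le L)
        · rw [← hmapL]
          exact (Subgroup.map_mono (le_normalizer_pCoreOf L)).trans (Subgroup.le_normalizer_map π)
        · exact (pCoreOf_isPGroup L).map π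
      exact hUb ⟨⟨b, hb.2, rfl⟩, ⟨b, hb.1, rfl⟩⟩
    have hcent : L.map π ≤ Subgroup.centralizer
        ((Ab ⊓ Subgroup.centralizer (K2 : Set (M ⧸ P)) : Subgroup (M ⧸ P)) : Set (M ⧸ P)) := by
      rw [hmapL]; exact h.Lb_le_centralizer hyK
    exact Subgroup.mem_centralizer_iff.mp (hcent ⟨l, hl, rfl⟩) _ hbB

end Cfsg.Agent.Lib.Helper7.Ks
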