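import Mathlib
import Cfsg.Agent.Lib.Helper6.M21F4
import Cfsg.Agent.S0243

/-!
# The special linear group of degree three over the field of four elements: vectors and matrices as numbers

The sixty-four vectors are numbered by their coordinates; a matrix is given by the numbers of its entries, and its
action on the vectors by a list of the numbers of the images.  A matrix is determined by the images of the three vectors
of the standard basis; it is a scalar matrix when it multiplies these three vectors by the same scalar.
-/

set_option autoImplicit false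
set_option maxRecDepth 100000

namespace Cfsg.Agent.Lib.Helper7.L34

open Matrix Cfsg.Agent.Lib.Helper6.M21

/-- the element of the field with a given number -/
def fd : ℕ → F4c
  | 0 => F4c.o
  | 1 => F4c.e
  | 2 => F4c.w
  | _ => F4c.v

/-- the number of an element of the field -/
def fc : F4c → ℕ
  | F4c.o => 0
  | F4c.e => 1
  | F4c.w => 2
  | F4c.v => 3

theorem fd_fc : ∀ a : F4c, fd (fc a) = a ∧ fc a < 4 := by decide

/-- the vector with a given number -/
def dec3 (p : ℕ) : Fin 3 → F4c := ![fd (p % 4), fd (p / 4 % 4), fd (p / 16 % 4)]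

/-- the matrix with given numbers of the entries -/
def mk3 (en : List ℕ) : Matrix (Fin 3) (Fin 3) F4c :=
  Matrix.of fun i j => fd (en.getD (3 * i.val + j.val) 0)

theorem dec3_pow : ∀ j : Fin 3, dec3 (4 ^ j.val) = Pi.single j 1 := by decide

/-- a matrix is determined by the images of the vectors of the standard basis -/
theorem mat_eq_of_basis3 {A B : Matrix (Fin 3) (Fin 3) F4c}
    (h : ∀ k, k < 3 → A *ᵥ dec3 (4 ^ k) = B *ᵥ dec3 (4 ^ k)) : A = B := by
  ext i j
  have h1 := h j.val j.2
  rw [dec3_pow, Matrix.mulVec_single_one, Matrix.mulVec_single_one] at h1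
  exact congrFun h1 i

/-- the checked action of the matrix with given entries on the numbered vectors -/
def actOK3 (en tab : List ℕ) : Prop :=
  ∀ p, p < 64 → mk3 en *ᵥ dec3 p = dec3 (tab.getD p 0) ∧ tab.getD p 0 < 64

instance (en tab : List ℕ) : Decidable (actOK3 en tab) := by
  unfold actOK3
  infer_instance

theorem scalar_tab : ∀ s, 1 ≤ s → s < 4 → ∀ k, k < 3 →
    (Matrix.scalar (Fin 3) (fd s)) *ᵥ dec3 (4 ^ k) = dec3 (s * 4 ^ k) ∧ fd s ^ 3 = 1 := by
  decide

/-- a matrix that multiplies the three vectors of the standard basis by the same nonzero scalar is a scalar matrix -/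
theorem scalar_of_basis3 {A : Matrix (Fin 3) (Fin 3) F4c} (s : ℕ) (h1 : 1 ≤ s) (h4 : s < 4)
    (h : ∀ k, k < 3 → A *ᵥ dec3 (4 ^ k) = dec3 (s * 4 ^ k)) : Matrix.scalar (Fin 3) (fd s) = A := by
  apply mat_eq_of_basis3
  intro k hk
  rw [(scalar_tab s h1 h4 k hk).1, h k hk]

/-- an element of the special linear group that multiplies the three vectors of the standard basis by the same nonzero
scalar is central -/
theorem mem_center_of_basis3 (A : Matrix.SpecialLinearGroup (Fin 3) F4c) (s : ℕ) (h1 : 1 ≤ s) (h4 : s < 4)
    (h : ∀ k, k < 3 → A.1 *ᵥ dec3 (4 ^ k) = dec3 (s * 4 ^ k)) :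
    A ∈ Subgroup.center (Matrix.SpecialLinearGroup (Fin 3) F4c) := by
  rw [Matrix.SpecialLinearGroup.mem_center_iff]
  refine ⟨fd s, ?_, scalar_of_basis3 s h1 h4 h⟩
  rw [Fintype.card_fin]
  exact (scalar_tab s h1 h4 0 (by norm_num)).2

/-- the order of the projective special linear group of degree three over a field of four elements -/
theorem card_psl34 {F : Type*} [Field F] [Fintype F] (hF : Fintype.card F = 4) :
    Nat.card (Matrix.ProjectiveSpecialLinearGroup (Fin 3) F) = 20160 := by
  have h := Cfsg.Agent.S0243.result hF 3 (by norm_num)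
  rw [Fin.prod_univ_three] at h
  norm_num at h
  omega

end Cfsg.Agent.Lib.Helper7.L34
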