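/-! # The multiplier of the projective special linear group of degree three over the field of four elements: the words of the certificate (generated) -/

set_option autoImplicit false

namespace Cfsg.Agent.Lib.Helper7.L34Mul

/-- the packed words -/
noncomputable def relP : Nat := 0x22030203020302030220201600000000000000000000000000000000000000000003333302203333302202201500000000000000000000000000000000000000000002220220220220222020201500000000000000000000000000000000000000000000302030203020302030201400000000000000000000000000000000000000000000302222203020220220201400000000000000000000000000000000000000000000302222203303020220201400000000000000000000000000000000000000000000303302222203020220201400000000000000000000000000000000000000000000302222203303303020201400000000000000000000000000000000000000000000303302222203303020201400000000000000000000000000000000000000000000303303302222203020201400000000000000000000000000000000000000000000030330302020303020201300000000000000000000000000000000000000000000022020333333022020201300000000000000000000000000000000000000000000022033333302022020201300000000000000000000000000000000000000000000033302020203302020201300000000000000000000000000000000000000000000033330202020302020201300000000000000000000000000000000000000000000003333302202202202201200000000000000000000000000000000000000000000003333330203333330201200000000000000000000000000000000000000000000003333330333333020201200000000000000000000000000000000000000000000000303303303020220201100000000000000000000000000000000000000000000000303303303303020201100000000000000000000000000000000000000000000000333330202022020201100000000000000000000000000000000000000000000000030303030202020201000000000000000000000000000000000000000000000000000220202022020200e00000000000000000000000000000000000000000000000000033333302020200d00000000000000000000000003020222030202220302022203020222030202222800000000000000000000000000000000000022202220222022202220222022201c00000000000000000000000000000000000000000000000000000000202020200800000000000000000000000000000000000000000000000000000000000000000200000000000000000000000000000000000000000000000002202202202202200f000000000000000000000000000000000000000000000000000000000222222207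

/-- the packed classes of the words -/
noncomputable def rhsP : Nat := 0xb0000b0000afff0b0010b0080a8000a8000a8000a8000a8000a8000a8000a8000a8010a7ff0a0000a0000a0010a0000a0000a0000a0000a0000a0030a0000a0000a0000a0000a0020a0020a0000a0000a0000a0020a0020a0000a0000a0000a0010a0040a0000a0000a0000a0010a0040a0000a0000a0000a0010a004098000980009800098020980309800098000980009802097ff09800098000980009802097ff098000980009800098020980009800098000980009802098000900009000090000900009000090000900009000090010900009000090000900009001090000880008800088000880208802088000880008800088010880408800088000880008802087ff08000080000800008000080040700007000070000700206fff068000680006800068010680014001140001400014000140000e0000e0010e0000e0000e0000400004000040000400104000010000100001000010000100107800078000780007800078000380003800038000380003800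

/-- the packed times and rows of the words -/
noncomputable def wtaP : Nat := 0x16000000060000000e000000000000200e0000000e0000000e0000000e0000000e0000000e0000200e0000100e0000000e0000000e0000000e000000060000100e0000000e0000000e0000000e0000000e0000000e0000000e0000000e000000000000000000000000000000000000000000000000

end Cfsg.Agent.Lib.Helper7.L34Mul
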