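import Cfsg.Agent.Lib.Helper7.L34MulT0
import Cfsg.Agent.Lib.Helper7.L34MulR
import Cfsg.Agent.Lib.Helper7.MGenC

/-! # The multiplier of the projective special linear group of degree three over the field of four elements: the certificate of the enumeration of the cosets (generated) -/

set_option autoImplicit false

namespace Cfsg.Agent.Lib.Helper7.L34Mul

open Cfsg.Agent.Lib.Helper7.MG Cfsg.Agent.Lib.Helper7.HSMult

/-- the part of the table that contains a row -/
noncomputable def rowSel (a : ℕ) : ℕ := (cond (Nat.beq (Nat.land a 1) 0) (cond (Nat.beq (Nat.land a 2) 0) (cond (Nat.beq (Nat.land a 4) 0) rl0 rl4) (cond (Nat.beq (Nat.land a 4) 0) rl2 rl6)) (cond (Nat.beq (Nat.land a 2) 0) (cond (Nat.beq (Nat.land a 4) 0) rl1 rl5) (cond (Nat.beq (Nat.land a 4) 0) rl3 rl7)))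

/-- a row of the table -/
noncomputable def rowOf (a : ℕ) : ℕ :=
  strictN a fun a' => Nat.shiftRight (rowSel a') (Nat.mul 640 (Nat.shiftRight a' 3))

/-- a word -/
noncomputable def wordOf (i : ℕ) : List ℕ :=
  strictN (Nat.land (Nat.shiftRight relP (Nat.mul 264 i)) 29642774844752946028434172162224104410437116074403984394101141506025761187823615) fun v =>
    unp (Nat.land v 255) (Nat.shiftRight v 8)

/-- the certificate -/
noncomputable def cert : VCert where
  n := 2880
  g := 4
  k := 5
  nW := 30
  B := 2048
  iv := fun x => Nat.xor x 1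
  sub := fun x => Nat.beq x 2 || Nat.beq x 3
  sl := fun a x => Nat.land (Nat.shiftRight (rowOf a) (Nat.mul 154 x)) 22835963083295358096932575511191922182123945983
  pr := fun a => Nat.land (Nat.shiftRight (rowOf a) 616) 16777215
  W := wordOf
  rhs := fun i => Nat.land (Nat.shiftRight rhsP (Nat.mul 100 i)) 1267650600228229401496703205375
  wT := fun i => Nat.land (Nat.shiftRight wtaP (Nat.mul 32 i)) 4095
  wA := fun i => Nat.land (Nat.shiftRight wtaP (Nat.add (Nat.mul 32 i) 12)) 1048575

/-- the check of the rows from `lo` to `lo + k` -/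
noncomputable def rowsOK (lo k : ℕ) : Bool := allN k fun i => allN 4 fun x => cert.slotOK (Nat.add lo i) x

/-- the check of the words -/
noncomputable def wordsOK : Bool := allN 30 fun i => cert.wordOK i

end Cfsg.Agent.Lib.Helper7.L34Mul
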