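import Cfsg.Agent.Lib.Helper7.L34MulK0

/-! # The multiplier of the projective special linear group of degree three over the field of four elements: all the rows and words of the certificate are checked, and the words that give the relations
between the classes are traced (generated) -/

set_option autoImplicit false
set_option maxRecDepth 100000

namespace Cfsg.Agent.Lib.Helper7.L34Mul

open Cfsg.Agent.Lib.Helper7.MG Cfsg.Agent.Lib.Helper7.HSMult

theorem rows_ok_all : ∀ k, k < 8 → rowsOK (360 * k) 360 = true
  | 0, _ => rows_ok_0
  | 1, _ => rows_ok_1
  | 2, _ => rows_ok_2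
  | 3, _ => rows_ok_3
  | 4, _ => rows_ok_4
  | 5, _ => rows_ok_5
  | 6, _ => rows_ok_6
  | 7, _ => rows_ok_7
  | k + 8, h => absurd h (by omega)

/-- **every entry of the table is justified** -/
theorem cert_all : ∀ a, a < cert.n → ∀ x, x < cert.g → cert.slotOK a x = true := by
  intro a ha x hx
  have ha' : a < 2880 := ha
  have hx' : x < 4 := hx
  have h1 := rows_ok_all (a / 360) (by omega)
  rw [rowsOK, allN_iff] at h1
  have h2 := h1 (a % 360) (Nat.mod_lt _ (by norm_num))
  rw [allN_iff] at h2
  have h3 := h2 x hx'
  have e : Nat.add (360 * (a / 360)) (a % 360) = a := Nat.div_add_mod a 360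
  rw [e] at h3
  exact h3

theorem words_ok : wordsOK = true := by decide +kernel

/-- **every word of the certificate is justified** -/
theorem cert_wall : ∀ i, i < cert.nW → cert.wordOK i = true := by
  intro i hi
  have h := words_ok
  rw [wordsOK, allN_iff] at h
  exact h i hi

theorem close_0 : cert.scan 4095 (cert.W 4) 2331 0 = some (2331, 69319872611049565713660436533) := by decide +kernel

theorem close_1 : cert.scan 4095 (cert.W 15) 2668 0 = some (2668, 47036930654396210835626170373) := by decide +kernel

theorem close_2 : cert.scan 4095 (cert.W 12) 859 0 = some (859, 44561048212334112940325113859) := by decide +kernel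

theorem close_3 : cert.scan 4095 (cert.W 3) 1998 0 = some (1998, 19807059518050028093634002954) := by decide +kernel

theorem close_4 : cert.scan 4095 (cert.W 24) 8 0 = some (8, 49517648795125075731637379079) := by decide +kernel

theorem close_5 : cert.scan 4095 (cert.W 22) 1824 0 = some (1824, 49517648797430924238439620520) := by decide +kernel

theorem close_6 : cert.scan 4095 (cert.W 0) 2660 0 = some (2660, 17336012781572221828646057940) := by decide +kernel

end Cfsg.Agent.Lib.Helper7.L34Mul
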