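import Cfsg.Agent.Lib.Helper7.L34MulG
import Cfsg.Agent.Lib.Helper7.L34MulD
import Cfsg.Agent.Lib.Helper7.MGenF
import Cfsg.Agent.S0102

/-!
# The multiplier of the projective special linear group of degree three over the field of four elements: the kernel of a stem extension is an image of the product of cyclic groups of orders three, four and four

Lifts of the two generators are chosen so that two of the given words are trivial; this is possible since the kernel
has order prime to five and seven, the Sylow subgroups for these primes being cyclic.  The checked table shows that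
the kernel is generated by the values of the other given words; the traced words give relations between them, which
make the kernel a group generated by three elements of orders dividing three, four and four.
-/

set_option autoImplicit false
set_option maxRecDepth 100000

namespace Cfsg.Agent.Lib.Helper7.L34Mul

open Cfsg Cfsg.Agent.Lib.Helper7.MG Cfsg.Agent.Lib.Helper7.HSMult
open scoped IsMulCommutative

/-! ### the data of the certificate -/

/-- the words that define the central elements -/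
def axI : ℕ → ℕ
  | 0 => 2
  | 1 => 3
  | 2 => 26
  | 3 => 4
  | 4 => 5
  | _ => 0

theorem axI_lt : ∀ j, axI j < 30
  | 0 => by decide
  | 1 => by decide
  | 2 => by decide
  | 3 => by decide
  | 4 => by decide
  | _ + 5 => by
    show (0 : ℕ) < 30
    decide

/-- the word of which a power is the second trivial word -/
def yW : List ℕ := [0, 2, 2]

theorem chk_wT : ∀ i, i < 30 → cert.wT i = 0 →
    i = 0 ∨ i = 1 ∨ ∃ j, j < 5 ∧ i = axI j := by decide +kernel

theorem chk_W2 : cert.W 0 = wpow 7 [2] := by decide +kernel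

theorem chk_W3 : cert.W 1 = wpow 5 yW := by decide +kernel

theorem chk_yW : expsum (wpow 5 yW) = 5 := by decide

theorem chk_len : ∀ i, i < 30 → (cert.W i).length ≤ 255 := by decide +kernel

theorem chk_ax : ∀ j, j < 5 → ∀ l, l < 5 →
    ((fld (cert.rhs (axI j)) l : ℤ) - ((cert.W (axI j)).length : ℤ) * (cert.B : ℤ)) = if l = j then 1 else 0 := by
  decide +kernel

theorem chk_ex : ∀ l, l < 5 →
    (((fld (cert.rhs 0) l : ℤ) - ((cert.W 0).length : ℤ) * (cert.B : ℤ)) = 0 ∧
     ((fld (cert.rhs 1) l : ℤ) - ((cert.W 1).length : ℤ) * (cert.B : ℤ)) = 0) := by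
  decide +kernel

/-- the relations between the central elements that the traced words give -/
def relL : List (List ℤ) := [[(-53), 9, 3, 0, 4],
    [(-5), (-4), (-4), (-2), 4],
    [(-3), (-11), (-3), 0, 4],
    [(-10), 0, 2, 0, 0],
    [(-5), 5, 0, 0, 0],
    [92, (-25), (-5), (-2), 0],
    [44, (-12), 12, 0, (-4)]]

/-- the exponents of the first generator of the kernel -/
def c1L : List ℤ := [0, 0, (-1), 0, 0]

/-- the exponents of the second generator of the kernel -/
def c2L : List ℤ := [0, 0, (-1), 0, 1]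

/-- the exponents of the third generator of the kernel -/
def c3L : List ℤ := [0, 0, 0, 1, 0]

/-- the exponents of the generators of the kernel -/
def cLL : List (List ℤ) := [c1L, c2L, c3L]

/-- the orders of the generators of the kernel -/
def nL : List ℤ := [3, 4, 4]

/-- the central elements as products of powers of the generators -/
def mLL : List (List ℤ) := [[1, 0, 2],
    [1, 0, 2],
    [2, 0, 0],
    [0, 0, 1],
    [2, 1, 0]]

/-- the combinations of the relations that express the central elements by the generators -/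
def lamL : List (List ℤ) := [[(-26), 1209, (-397), (-5772), (-3843), (-1174), 786],
    [(-5), 75, (-40), (-165), (-140), (-40), 30],
    [5, (-5), 5, 25, 35, 5, 5],
    [0, 0, 0, 0, 0, 0, 0],
    [5, (-5), 5, 25, 35, 5, 5]]

/-- the combinations of the relations that give the orders of the generators -/
def muL : List (List ℤ) := [[(-5), 5, (-5), (-25), (-35), (-5), (-5)],
    [10, (-45), 45, 155, 210, 45, (-25)],
    [14, (-91), 63, 28, 112, 21, (-14)]]

theorem chk_rel_0 : ∀ l, l < 5 → ((fld (cert.rhs 4) l : ℤ) - (fld 69319872611049565713660436533 l : ℤ)) = (relL.getD 0 []).getD l 0 := by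
  decide +kernel

theorem chk_rel_1 : ∀ l, l < 5 → ((fld (cert.rhs 15) l : ℤ) - (fld 47036930654396210835626170373 l : ℤ)) = (relL.getD 1 []).getD l 0 := by
  decide +kernel

theorem chk_rel_2 : ∀ l, l < 5 → ((fld (cert.rhs 12) l : ℤ) - (fld 44561048212334112940325113859 l : ℤ)) = (relL.getD 2 []).getD l 0 := by
  decide +kernel

theorem chk_rel_3 : ∀ l, l < 5 → ((fld (cert.rhs 3) l : ℤ) - (fld 19807059518050028093634002954 l : ℤ)) = (relL.getD 3 []).getD l 0 := by
  decide +kernel

theorem chk_rel_4 : ∀ l, l < 5 → ((fld (cert.rhs 24) l : ℤ) - (fld 49517648795125075731637379079 l : ℤ)) = (relL.getD 4 []).getD l 0 := by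
  decide +kernel

theorem chk_rel_5 : ∀ l, l < 5 → ((fld (cert.rhs 22) l : ℤ) - (fld 49517648797430924238439620520 l : ℤ)) = (relL.getD 5 []).getD l 0 := by
  decide +kernel

theorem chk_rel_6 : ∀ l, l < 5 → ((fld (cert.rhs 0) l : ℤ) - (fld 17336012781572221828646057940 l : ℤ)) = (relL.getD 6 []).getD l 0 := by
  decide +kernel

theorem chk_lam : ∀ j, j < 5 → ∀ l, l < 5 →
    ((35 : ℕ) : ℤ) * ((if l = j then 1 else 0) - dotL (mLL.getD j []) cLL l) = dotL (lamL.getD j []) relL l := by
  decide +kernel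

theorem chk_mu : ∀ t, t < cLL.length → ∀ l, l < 5 →
    ((35 : ℕ) : ℤ) * (nL.getD t 0 * (cLL.getD t []).getD l 0) = dotL (muL.getD t []) relL l := by
  decide +kernel

instance instFiniteG0 : Finite G0 := Nat.finite_of_card_ne_zero (by rw [G_card]; norm_num)

section upper

variable {Γ : Type*} [Group Γ] [Finite Γ] (σ : Γ →* G0) (hsurj : Function.Surjective σ)
  (hcen : σ.ker ≤ Subgroup.center Γ) (hder : σ.ker ≤ commutator Γ)

include hsurj hcen hder in
theorem not_dvd_card_ker : ¬ 5 ∣ Nat.card σ.ker ∧ ¬ 7 ∣ Nat.card σ.ker := by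
  have hperf := perfect_of_stem σ hsurj hcen hder G_perfect
  have : Fact (Nat.Prime 5) := ⟨by norm_num⟩
  have : Fact (Nat.Prime 7) := ⟨by norm_num⟩
  refine ⟨?_, ?_⟩
  · exact Cfsg.Agent.S0102.result G_perfect
      (fun P => isCyclic_sylow_of_card_eq 5 4032 (by rw [G_card]) (by norm_num) P) σ hsurj hcen hperf
  · exact Cfsg.Agent.S0102.result G_perfect
      (fun P => isCyclic_sylow_of_card_eq 7 2880 (by rw [G_card]) (by norm_num) P) σ hsurj hcen hperf

/-! ### the letters in the extension -/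

/-- the letters in the extension -/
def gU (a c : Γ) : ℕ → Γ
  | 0 => a
  | 1 => a⁻¹
  | 2 => c
  | 3 => c⁻¹
  | _ => 1

omit [Finite Γ] in
theorem map_gU (a c : Γ) (ha : σ a = lK 0) (hc : σ c = lK 2) : ∀ x, σ (gU a c x) = lK x
  | 0 => ha
  | 1 => by
    show σ a⁻¹ = lK 1
    rw [map_inv, ha]
    exact (lK_iv (x := 0) (by norm_num)).symm
  | 2 => hc
  | 3 => by
    show σ c⁻¹ = lK 3
    rw [map_inv, hc]
    exact (lK_iv (x := 2) (by norm_num)).symm
  | x + 4 => by
    show σ 1 = lK (x + 4)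
    rw [map_one, lK_of_ge (by omega)]

omit [Finite Γ] in
theorem map_wd_gU (a c : Γ) (ha : σ a = lK 0) (hc : σ c = lK 2) :
    ∀ w : List ℕ, σ (VCert.wd (gU a c) w) = VCert.wd lK w
  | [] => map_one σ
  | x :: w => by
    rw [VCert.wd_cons, VCert.wd_cons, map_mul, map_gU σ a c ha hc x, map_wd_gU a c ha hc w]

include hsurj hcen hder in
/-- **lifts of the generators for which the two words are trivial** -/
theorem exists_lifts : ∃ a c : Γ, σ a = lK 0 ∧ σ c = lK 2 ∧ c ^ 7 = 1 ∧
    VCert.wd (gU a c) (wpow 5 yW) = 1 := by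
  obtain ⟨hnd5, hnd7⟩ := not_dvd_card_ker σ hsurj hcen hder
  have cop5 : (Nat.card ↥σ.ker).Coprime 5 :=
    ((Nat.Prime.coprime_iff_not_dvd (by norm_num)).2 hnd5).symm
  have cop7 : (Nat.card ↥σ.ker).Coprime 7 :=
    ((Nat.Prime.coprime_iff_not_dvd (by norm_num)).2 hnd7).symm
  obtain ⟨a0, ha0⟩ := hsurj (lK 0)
  obtain ⟨c0, hc0⟩ := hsurj (lK 2)
  -- the order of `c`
  have hk1 : c0 ^ 7 ∈ σ.ker := by
    rw [MonoidHom.mem_ker, map_pow, hc0, lK_two_pow]
  obtain ⟨v, hv, hvh⟩ := exists_root σ.ker 7 cop7 _ hk1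
  set c := c0 * v⁻¹ with hc
  have hcc : Commute c0 v⁻¹ := by
    have := Subgroup.mem_center_iff.1 (Subgroup.inv_mem _ (hcen hv)) c0
    exact this
  have hch : c ^ 7 = 1 := by
    rw [hc, hcc.mul_pow, inv_pow, hvh, mul_inv_cancel]
  have hσc : σ c = lK 2 := by
    rw [hc, map_mul, map_inv, MonoidHom.mem_ker.1 hv, inv_one, mul_one, hc0]
  -- the second word
  have hk2 : VCert.wd (gU a0 c) (wpow 5 yW) ∈ σ.ker := by
    rw [MonoidHom.mem_ker, map_wd_gU σ a0 c ha0 hσc, ← chk_W3]
    exact wd_lK_W (by norm_num)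
  obtain ⟨w, hw, hwr⟩ := exists_root σ.ker 5 cop5 _ (Subgroup.inv_mem _ hk2)
  have hwc : ∀ x : Γ, w⁻¹ * x = x * w⁻¹ := fun x =>
    (Subgroup.mem_center_iff.1 (Subgroup.inv_mem _ (hcen hw)) x).symm
  refine ⟨a0 * w, c, ?_, hσc, hch, ?_⟩
  · rw [map_mul, MonoidHom.mem_ker.1 hw, mul_one, ha0]
  · rw [wd_central_mul (gU a0 c) (gU (a0 * w) c) w (hcen hw) rfl (by
        show (a0 * w)⁻¹ = a0⁻¹ * w⁻¹
        rw [mul_inv_rev, hwc]) (by
        intro x h0 h1
        match x, h0, h1 with
        | 0, h0, _ => exact absurd rfl h0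
        | 1, _, h1 => exact absurd rfl h1
        | 2, _, _ => rfl
        | 3, _, _ => rfl
        | _ + 4, _, _ => rfl), chk_yW]
    show _ * w ^ ((5 : ℕ) : ℤ) = 1
    rw [zpow_natCast, hwr, mul_inv_cancel]

variable (a c : Γ) (ha : σ a = lK 0) (hc : σ c = lK 2) (hch : c ^ 7 = 1)
  (hy : VCert.wd (gU a c) (wpow 5 yW) = 1)

include ha hc in
omit [Finite Γ] in
theorem wd_gU_mem_ker {i : ℕ} (hi : i < 30) : VCert.wd (gU a c) (cert.W i) ∈ σ.ker := by
  rw [MonoidHom.mem_ker, map_wd_gU σ a c ha hc, wd_lK_W hi]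

omit [Finite Γ] in
theorem gU_iv : ∀ x, x < 4 → gU a c (Nat.xor x 1) = (gU a c x)⁻¹
  | 0, _ => rfl
  | 1, _ => (inv_inv a).symm
  | 2, _ => rfl
  | 3, _ => (inv_inv c).symm
  | x + 4, h => absurd h (by omega)

/-- the central elements: the values of the given words -/
noncomputable def zU (j : ℕ) : Subgroup.center Γ :=
  ⟨VCert.wd (gU a c) (cert.W (axI j)), hcen (wd_gU_mem_ker σ a c ha hc (axI_lt j))⟩

include hch hy in
omit [Finite Γ] in
theorem hW0_U : ∀ i, i < cert.nW → cert.wT i = 0 →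
    VCert.wd (gU a c) (cert.W i) = (cert.ek (zU σ hcen a c ha hc) i : Γ) := by
  intro i hi hT
  rcases chk_wT i hi hT with rfl | rfl | ⟨j, hj, rfl⟩
  · rw [VCert.ek, cert.kap_one _ fun l hl => (chk_ex l hl).1, chk_W2, wd_wpow, VCert.wd_cons, VCert.wd_nil, mul_one]
    exact hch
  · rw [VCert.ek, cert.kap_one _ fun l hl => (chk_ex l hl).2, chk_W3]
    exact hy
  · rw [VCert.ek, cert.kap_unit _ hj (chk_ax j hj)]
    rfl

include hcen hder ha hc in
omit [Finite Γ] in
theorem hgen_U : ∀ y : Γ, ∃ u : List ℕ, (∀ x ∈ u, x < cert.g) ∧ y = (u.map (gU a c)).prod := by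
  apply exists_word_of_closure (gU a c) 4 (fun x => Nat.xor x 1)
  · intro x hx
    refine ⟨?_, gU_iv a c x hx⟩
    have : x = 0 ∨ x = 1 ∨ x = 2 ∨ x = 3 := by omega
    rcases this with rfl | rfl | rfl | rfl <;> decide
  · apply Cfsg.Agent.Lib.Helper7.M12Mult.closure_eq_top_of_stem (σ := σ) hcen hder
    intro g
    have hg : g ∈ Subgroup.closure (lK '' Set.Iio 4) := by rw [closure_lK]; exact Subgroup.mem_top g
    induction hg using Subgroup.closure_induction with
    | mem y hy =>
      obtain ⟨x, hx, rfl⟩ := hy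
      exact ⟨gU a c x, Subgroup.subset_closure ⟨x, hx, rfl⟩, map_gU σ a c ha hc x⟩
    | one => exact ⟨1, one_mem _, map_one σ⟩
    | mul p q _ _ ihp ihq =>
      obtain ⟨p', hp', rfl⟩ := ihp
      obtain ⟨q', hq', rfl⟩ := ihq
      exact ⟨p' * q', mul_mem hp' hq', map_mul σ p' q'⟩
    | inv p _ ihp =>
      obtain ⟨p', hp', rfl⟩ := ihp
      exact ⟨p'⁻¹, inv_mem hp', map_inv σ p'⟩

include hsurj hder hch hy in
/-- **the kernel is generated by the central elements** -/
theorem ker_eq_Zc_U : σ.ker = Zc (zU σ hcen a c ha hc) 5 := by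
  refine ker_eq_Zc σ cert (gU a c) (zU σ hcen a c ha hc) 2 7 hsurj (by rw [G_card]; rfl) (by decide) (by norm_num)
    ?_ hch ?_ ?_ (hgen_U σ hcen hder a c ha hc) (by decide) (by decide) (gU_iv a c) ?_
    (hW0_U σ hcen a c ha hc hch hy) cert_all cert_wall
  · intro i hi
    have : σ (gU a c 2) = lK 2 := hc
    rw [this] at hi
    exact dvd_of_lK_two_pow hi
  · intro x hx
    rcases eq_two_or_three hx with rfl | rfl
    · exact Subgroup.mem_zpowers _
    · exact Subgroup.inv_mem _ (Subgroup.mem_zpowers _)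
  · intro j _
    exact wd_gU_mem_ker σ a c ha hc (axI_lt j)
  · intro i hi
    exact wd_gU_mem_ker σ a c ha hc hi

include hch hy in
omit [Finite Γ] in
/-- the relations between the central elements -/
theorem rel_U : ∀ r ∈ relL, zprod (zU σ hcen a c ha hc) 5 (fun l => r.getD l 0) = 1 := by
  have hKn : ∀ u, u ∈ σ.ker → ∀ g : Γ, g * u * g⁻¹ ∈ σ.ker := fun u hu g =>
    (inferInstance : σ.ker.Normal).conj_mem u hu g
  have hHK : ∀ u, u ∈ Subgroup.zpowers (gU a c 2) → u ∈ σ.ker → u = 1 := by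
    apply zpowers_inf_ker σ (gU a c) 2 7 _ hch
    intro i hi
    have : σ (gU a c 2) = lK 2 := hc
    rw [this] at hi
    exact dvd_of_lK_two_pow hi
  have hsub : ∀ x, cert.sub x = true → gU a c x ∈ Subgroup.zpowers (gU a c 2) := by
    intro x hx
    rcases eq_two_or_three hx with rfl | rfl
    · exact Subgroup.mem_zpowers _
    · exact Subgroup.inv_mem _ (Subgroup.mem_zpowers _)
  have key : ∀ {i v row : ℕ}, i < 30 → cert.scan 4095 (cert.W i) row 0 = some (row, v) →
      cert.ek (zU σ hcen a c ha hc) i = cert.kap (zU σ hcen a c ha hc) v (cert.W i).length := by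
    intro i v row hi h
    exact cert.close_spec (γ := gU a c) (H := Subgroup.zpowers (gU a c 2)) σ.ker hKn
      (fun j _ => wd_gU_mem_ker σ a c ha hc (axI_lt j)) hHK (by decide) (by decide) (gU_iv a c) hsub
      (fun i hi => wd_gU_mem_ker σ a c ha hc hi) (hW0_U σ hcen a c ha hc hch hy) cert_all cert_wall hi
      (chk_len i hi) h
  intro r hr
  simp only [relL, List.mem_cons, List.not_mem_nil, or_false] at hr
  rcases hr with rfl | rfl | rfl | rfl | rfl | rfl | rfl
  · exact cert.rel_of_close _ (key (by norm_num) close_0) _ chk_rel_0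
  · exact cert.rel_of_close _ (key (by norm_num) close_1) _ chk_rel_1
  · exact cert.rel_of_close _ (key (by norm_num) close_2) _ chk_rel_2
  · exact cert.rel_of_close _ (key (by norm_num) close_3) _ chk_rel_3
  · exact cert.rel_of_close _ (key (by norm_num) close_4) _ chk_rel_4
  · exact cert.rel_of_close _ (key (by norm_num) close_5) _ chk_rel_5
  · exact cert.rel_of_close _ (key (by norm_num) close_6) _ chk_rel_6

include hsurj hcen hder ha hc hch hy in
/-- **the kernel is an image of the product of cyclic groups of orders three, four and four** -/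
theorem exists_surj_U :
    ∃ π : Multiplicative (ZMod 3 × ZMod 4 × ZMod 4) →* ↥σ.ker, Function.Surjective π := by
  obtain ⟨hnd5, hnd7⟩ := not_dvd_card_ker σ hsurj hcen hder
  have cop5 : (Nat.card ↥σ.ker).Coprime 5 :=
    ((Nat.Prime.coprime_iff_not_dvd (by norm_num)).2 hnd5).symm
  have cop7 : (Nat.card ↥σ.ker).Coprime 7 :=
    ((Nat.Prime.coprime_iff_not_dvd (by norm_num)).2 hnd7).symm
  have copq : (Nat.card ↥σ.ker).Coprime 35 := by
    have := Nat.Coprime.mul_right cop5 cop7
    norm_num at this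
    exact this
  have hK := ker_eq_Zc_U σ hsurj hcen hder a c ha hc hch hy
  set S : Subgroup (Subgroup.center Γ) := σ.ker.comap (Subgroup.center Γ).subtype with hS
  have hzS : ∀ j, j < 5 → zU σ hcen a c ha hc j ∈ S := fun j _ => wd_gU_mem_ker σ a c ha hc (axI_lt j)
  have hq : ∀ u, u ∈ S → u ^ 35 = 1 → u = 1 := by
    intro u hu huq
    have h1 : (⟨(u : Γ), hu⟩ : ↥σ.ker) ^ 35 = 1 := by
      apply Subtype.ext
      rw [Subgroup.coe_pow, Subgroup.coe_one]
      show (u : Γ) ^ 35 = 1
      rw [← Subgroup.coe_pow, huq, Subgroup.coe_one]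
    have h2 := eq_one_of_pow_of_coprime 35 copq _ h1
    apply Subtype.ext
    have h3 : ((⟨(u : Γ), hu⟩ : ↥σ.ker) : Γ) = ((1 : ↥σ.ker) : Γ) := congrArg Subtype.val h2
    exact h3
  obtain ⟨hz, hN⟩ := abelian_of_relations_q (zU σ hcen a c ha hc) 5 relL
    (rel_U σ hcen a c ha hc hch hy) S hzS 35 hq cLL mLL nL lamL muL chk_lam chk_mu
  set g1 := zprod (zU σ hcen a c ha hc) 5 (fun l => c1L.getD l 0) with hg1
  set g2 := zprod (zU σ hcen a c ha hc) 5 (fun l => c2L.getD l 0) with hg2
  set g3 := zprod (zU σ hcen a c ha hc) 5 (fun l => c3L.getD l 0) with hg3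
  have o1 : g1 ^ (3 : ℤ) = 1 := hN 0 (by decide)
  have o2 : g2 ^ (4 : ℤ) = 1 := hN 1 (by decide)
  have o3 : g3 ^ (4 : ℤ) = 1 := hN 2 (by decide)
  have hzc : ∀ j, j < 5 → zU σ hcen a c ha hc j ∈ Subgroup.closure ({g1, g2, g3} : Set (Subgroup.center Γ)) := by
    intro j hj
    rw [hz j hj]
    apply gprod_mem
    intro c' hc'
    simp only [cLL, List.mem_cons, List.not_mem_nil, or_false] at hc'
    rcases hc' with rfl | rfl | rfl
    · exact Subgroup.subset_closure (Set.mem_insert _ _)
    · exact Subgroup.subset_closure (Set.mem_insert_of_mem _ (Set.mem_insert _ _))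
    · exact Subgroup.subset_closure (Set.mem_insert_of_mem _ (Set.mem_insert_of_mem _ rfl))
  have hsub : Zc (zU σ hcen a c ha hc) 5 ≤
      (Subgroup.closure ({g1, g2, g3} : Set (Subgroup.center Γ))).map (Subgroup.center Γ).subtype := by
    rw [Zc, Subgroup.closure_le]
    rintro _ ⟨j, hj, rfl⟩
    exact ⟨zU σ hcen a c ha hc j, hzc j hj, rfl⟩
  have hle : ∀ y ∈ σ.ker, ∃ i j l : ℤ, y = (g1 : Γ) ^ i * (g2 : Γ) ^ j * (g3 : Γ) ^ l := by
    intro y hy
    rw [hK] at hy
    obtain ⟨y', hy', rfl⟩ := hsub hy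
    obtain ⟨i, j, l, rfl⟩ := mem_closure_triple g1 g2 g3 y' hy'
    exact ⟨i, j, l, by simp⟩
  have hgK : ∀ g : Subgroup.center Γ, g ∈ S → (g : Γ) ∈ σ.ker := fun g hg => hg
  have m1 : g1 ∈ S := zprod_mem _ 5 S hzS _
  have m2 : g2 ∈ S := zprod_mem _ 5 S hzS _
  have m3 : g3 ∈ S := zprod_mem _ 5 S hzS _
  have hpow : ∀ (g : Subgroup.center Γ) (hg : g ∈ S) (n : ℕ), g ^ (n : ℤ) = 1 →
      (⟨(g : Γ), hgK g hg⟩ : ↥σ.ker) ^ n = 1 := by
    intro g hg n h
    apply Subtype.ext
    rw [Subgroup.coe_pow, Subgroup.coe_one]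
    show (g : Γ) ^ n = 1
    rw [zpow_natCast] at h
    rw [← Subgroup.coe_pow, h, Subgroup.coe_one]
  apply exists_surj_prod3 (⟨(g1 : Γ), hgK g1 m1⟩ : ↥σ.ker) ⟨(g2 : Γ), hgK g2 m2⟩ ⟨(g3 : Γ), hgK g3 m3⟩ 3 4 4
    (hpow g1 m1 3 o1) (hpow g2 m2 4 o2) (hpow g3 m3 4 o3)
  · intro x y
    apply Subtype.ext
    rw [Subgroup.coe_mul, Subgroup.coe_mul]
    exact Subgroup.mem_center_iff.1 (hcen y.2) x.1
  · intro y
    obtain ⟨i, j, l, h⟩ := hle y.1 y.2
    refine ⟨i, j, l, ?_⟩
    apply Subtype.ext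
    rw [Subgroup.coe_mul, Subgroup.coe_mul, Subgroup.coe_zpow, Subgroup.coe_zpow, Subgroup.coe_zpow]
    exact h

end upper

/-- **the kernel of every finite stem extension of the projective special linear group is an image of the product of
cyclic groups of orders three, four and four** -/
theorem exists_surj_of_stem {Γ : Type*} [Group Γ] [Finite Γ] (σ : Γ →* G0) (hsurj : Function.Surjective σ)
    (hcen : σ.ker ≤ Subgroup.center Γ) (hder : σ.ker ≤ commutator Γ) :
    ∃ π : Multiplicative (ZMod 3 × ZMod 4 × ZMod 4) →* ↥σ.ker, Function.Surjective π := by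
  obtain ⟨a, c, ha, hc, hch, hy⟩ := exists_lifts σ hsurj hcen hder
  exact exists_surj_U σ hsurj hcen hder a c ha hc hch hy

end Cfsg.Agent.Lib.Helper7.L34Mul
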