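import Cfsg.Agent.Lib.Helper7.L34MulED
import Cfsg.Agent.Lib.Helper7.L34MulU

/-!
# The multiplier of the projective special linear group of degree three over the field of four elements: a stem extension with kernel of order forty-eight

Permutations of 511 points, paired with the letters in the projective group, generate a group that maps onto the
projective group.  The given words of the certificate are central in it, two of them are trivial, and forty-eight
products of powers of three of them are different elements of the kernel.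
-/

set_option autoImplicit false
set_option maxRecDepth 100000

namespace Cfsg.Agent.Lib.Helper7.L34Mul

open Cfsg Cfsg.Agent.Lib.Helper7.MG Cfsg.Agent.Lib.Helper7.HSMult
open scoped IsMulCommutative

/-! ### the letters on the 511 points -/

/-- the inverse of a letter -/
def ivx : ℕ → ℕ
  | 0 => 1
  | 1 => 0
  | 2 => 3
  | 3 => 2
  | x => x

theorem ivx_ivx : ∀ x, ivx (ivx x) = x
  | 0 => rfl
  | 1 => rfl
  | 2 => rfl
  | 3 => rfl
  | _ + 4 => rfl

theorem ivx_eq : ∀ x, x < 4 → ivx x = Nat.xor x 1 := by decide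

/-- the image of one of the 511 points under a letter -/
noncomputable def lk5 : ℕ → ℕ → ℕ
  | 0, p => Nat.land (Nat.shiftRight t5_0 (Nat.mul 16 p)) 65535
  | 1, p => Nat.land (Nat.shiftRight t5_1 (Nat.mul 16 p)) 65535
  | 2, p => Nat.land (Nat.shiftRight t5_2 (Nat.mul 16 p)) 65535
  | 3, p => Nat.land (Nat.shiftRight t5_3 (Nat.mul 16 p)) 65535
  | _, p => p

theorem lk5_ge {x : ℕ} (hx : 4 ≤ x) (p : ℕ) : lk5 x p = p := by
  obtain ⟨y, rfl⟩ : ∃ y, x = y + 4 := ⟨x - 4, by omega⟩
  rfl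

theorem ivx_ge {x : ℕ} (hx : 4 ≤ x) : ivx x = x := by
  obtain ⟨y, rfl⟩ : ∃ y, x = y + 4 := ⟨x - 4, by omega⟩
  rfl

theorem chk_inv5 : allN 4 (fun x => allN 511 fun p =>
    Nat.blt (lk5 x p) 511 && Nat.beq (lk5 (ivx x) (lk5 x p)) p) = true := by decide +kernel

theorem hh5 (x p : ℕ) (hp : p < 511) : lk5 x p < 511 ∧ lk5 (ivx x) (lk5 x p) = p := by
  rcases Nat.lt_or_ge x 4 with hx | hx
  · have h := chk_inv5
    rw [allN_iff] at h
    have h1 := h x hx
    rw [allN_iff] at h1
    have h2 := h1 p hp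
    rw [Bool.and_eq_true] at h2
    exact ⟨by simpa [Nat.blt] using h2.1, Nat.eq_of_beq_eq_true h2.2⟩
  · rw [ivx_ge hx, lk5_ge hx, lk5_ge hx]
    exact ⟨hp, rfl⟩

theorem hh5' (x p : ℕ) (hp : p < 511) : lk5 (ivx x) p < 511 ∧ lk5 x (lk5 (ivx x) p) = p := by
  have h := hh5 (ivx x) p hp
  rwa [ivx_ivx] at h

/-- the letters as permutations of the 511 points -/
noncomputable def pm5 (x : ℕ) : Equiv.Perm (Fin 511) := permOf 511 (lk5 x) (lk5 (ivx x)) (hh5 x) (hh5' x)

theorem pm5_val (x : ℕ) (p : Fin 511) : (pm5 x p).val = lk5 x p.val := rfl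

theorem pm5_ivx (x : ℕ) : pm5 (ivx x) = (pm5 x)⁻¹ := by
  apply Equiv.ext
  intro p
  apply Fin.ext
  rw [pm5, pm5, permOf_inv]
  rfl

theorem pm5_ge {x : ℕ} (hx : 4 ≤ x) : pm5 x = 1 := by
  apply Equiv.ext
  intro p
  apply Fin.ext
  rw [pm5_val, lk5_ge hx]
  rfl

/-- the image of one of the 511 points under a word -/
noncomputable def ev5 : List ℕ → ℕ → ℕ
  | [], p => p
  | x :: w, p => lk5 x (ev5 w p)

theorem wd_pm5_val : ∀ (w : List ℕ) (p : Fin 511), ((VCert.wd pm5 w) p).val = ev5 w p.val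
  | [], _ => rfl
  | x :: w, p => by
    rw [VCert.wd_cons, Equiv.Perm.mul_apply, pm5_val, wd_pm5_val w p]
    rfl

theorem wd_pm5_eq {w w' : List ℕ} (h : ∀ p, p < 511 → ev5 w p = ev5 w' p) : VCert.wd pm5 w = VCert.wd pm5 w' := by
  apply Equiv.ext
  intro p
  apply Fin.ext
  rw [wd_pm5_val, wd_pm5_val]
  exact h p.val p.2

/-! ### the extension -/

/-- the pairs -/
noncomputable def gX (x : ℕ) : Equiv.Perm (Fin 511) × G0 := (pm5 x, lK x)

theorem gX_ge {x : ℕ} (hx : 4 ≤ x) : gX x = 1 := by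
  rw [gX, pm5_ge hx, lK_of_ge hx]
  rfl

theorem wd_gX : ∀ w : List ℕ, VCert.wd gX w = (VCert.wd pm5 w, VCert.wd lK w)
  | [] => rfl
  | x :: w => by
    rw [VCert.wd_cons, VCert.wd_cons, VCert.wd_cons, wd_gX w]
    rfl

/-- the extension -/
noncomputable def GE : Subgroup (Equiv.Perm (Fin 511) × G0) :=
  Subgroup.closure (gX '' Set.Iio 4)

theorem gX_mem (x : ℕ) : gX x ∈ GE := by
  rcases Nat.lt_or_ge x 4 with h | h
  · exact Subgroup.subset_closure ⟨x, h, rfl⟩
  · rw [gX_ge h]; exact one_mem _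

/-- the letters of the extension -/
noncomputable def gE (x : ℕ) : ↥GE := ⟨gX x, gX_mem x⟩

theorem wd_gE_val : ∀ w : List ℕ, (VCert.wd gE w : ↥GE).1 = VCert.wd gX w
  | [] => rfl
  | x :: w => by
    rw [VCert.wd_cons, Subgroup.coe_mul, wd_gE_val w, VCert.wd_cons]
    rfl

/-- two words with the same values on all the points give the same element -/
theorem wd_gE_eq {w w' : List ℕ} (h5 : ∀ p, p < 511 → ev5 w p = ev5 w' p)
    (hK : VCert.wd lK w = VCert.wd lK w') :
    VCert.wd gE w = VCert.wd gE w' := by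
  apply Subtype.ext
  rw [wd_gE_val, wd_gE_val, wd_gX, wd_gX, wd_pm5_eq h5, hK]

theorem gE_ivx (x : ℕ) (hx : x < 4) : gE (ivx x) = (gE x)⁻¹ := by
  apply Subtype.ext
  rw [Subgroup.coe_inv]
  show gX (ivx x) = (gX x)⁻¹
  rw [gX, gX, pm5_ivx, ivx_eq x hx, lK_iv hx]
  rfl

theorem closure_gE : Subgroup.closure (gE '' Set.Iio 4) = ⊤ := by
  have h := Subgroup.closure_closure_coe_preimage (k := gX '' Set.Iio 4)
  have e : ((↑) ⁻¹' (gX '' Set.Iio 4) : Set ↥(Subgroup.closure (gX '' Set.Iio 4))) = gE '' Set.Iio 4 := by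
    ext z
    constructor
    · rintro ⟨x, hx, hz⟩
      exact ⟨x, hx, Subtype.ext hz⟩
    · rintro ⟨x, hx, rfl⟩
      exact ⟨x, hx, rfl⟩
  rw [e] at h
  exact h

/-- the projection onto the projective group -/
noncomputable def sigE : ↥GE →* G0 := (MonoidHom.snd _ _).comp GE.subtype

theorem sigE_gE (x : ℕ) : sigE (gE x) = lK x := rfl

theorem sigE_wd : ∀ w : List ℕ, sigE (VCert.wd gE w) = VCert.wd lK w
  | [] => map_one sigE
  | x :: w => by rw [VCert.wd_cons, VCert.wd_cons, map_mul, sigE_gE, sigE_wd w]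

theorem sigE_surj : Function.Surjective sigE := by
  rw [← MonoidHom.range_eq_top, eq_top_iff, ← closure_lK, Subgroup.closure_le]
  rintro _ ⟨x, _, rfl⟩
  exact ⟨gE x, sigE_gE x⟩

/-! ### the checks -/

theorem zA_eq : cert.W 26 = zA := by decide +kernel

theorem zB_eq : cert.W 5 = zB := by decide +kernel

theorem zC_eq : cert.W 4 = zC := by decide +kernel

/-- the products of powers of the words of the kernel -/
def kw (i : ℕ) : List ℕ := wpow (i % 3) zA ++ (wpow (i / 3 % 4) zB ++ wpow (i / 12) zC)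

theorem chk_cen5 : allN 5 (fun j => strictL (cert.W (axI j)) fun w => allN 4 fun x => allN 511 fun p =>
    Nat.beq (lk5 x (ev5 w p)) (ev5 w (lk5 x p))) = true := by
  decide +kernel

theorem chk_ex5 : (allN 511 fun p => Nat.beq (ev5 (wpow 7 [2]) p) p && Nat.beq (ev5 (wpow 5 yW) p) p) = true := by
  decide +kernel

theorem chk_ord5 : (allN 511 fun p => Nat.beq (ev5 (wpow 12 [0]) p) p) = true := by decide +kernel

theorem chk_sig : ∀ i, i < 48 →
    ev5 (kw i) 0 + 512 * ev5 (kw i) 63 + 262144 * ev5 (kw i) 287 = sigL.getD i 0 := by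
  decide +kernel

theorem chk_nodup : ∀ i, i < 48 → ∀ j, j < 48 → sigL.getD i 0 = sigL.getD j 0 → i = j := by decide +kernel

/-! ### the consequences of the checks -/

theorem ev5_lt : ∀ (w : List ℕ) (p : ℕ), p < 511 → ev5 w p < 511
  | [], _, hp => hp
  | x :: w, p, hp => (hh5 x (ev5 w p) (ev5_lt w p hp)).1

theorem ev5_append : ∀ (w w' : List ℕ) (p : ℕ), ev5 (w ++ w') p = ev5 w (ev5 w' p)
  | [], _, _ => rfl
  | x :: w, w', p => by
    show lk5 x (ev5 (w ++ w') p) = lk5 x (ev5 w (ev5 w' p))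
    rw [ev5_append w w' p]

/-- the given words commute with the letters on the 511 points -/
theorem cen5 {j x p : ℕ} (hj : j < 5) (hx : x < 4) (hp : p < 511) :
    ev5 (x :: cert.W (axI j)) p = ev5 (cert.W (axI j) ++ [x]) p := by
  have h := chk_cen5
  rw [allN_iff] at h
  have h1 := h j hj
  rw [strictL_eq, allN_iff] at h1
  have h2 := h1 x hx
  rw [allN_iff] at h2
  rw [ev5_append]
  exact Nat.eq_of_beq_eq_true (h2 p hp)

theorem ex5 {p : ℕ} (hp : p < 511) : ev5 (wpow 7 [2]) p = p ∧ ev5 (wpow 5 yW) p = p := by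
  have h := chk_ex5
  rw [allN_iff] at h
  have h1 := h p hp
  rw [Bool.and_eq_true] at h1
  exact ⟨Nat.eq_of_beq_eq_true h1.1, Nat.eq_of_beq_eq_true h1.2⟩

theorem ord5 {p : ℕ} (hp : p < 511) : ev5 (wpow 12 [0]) p = p := by
  have h := chk_ord5
  rw [allN_iff] at h
  exact Nat.eq_of_beq_eq_true (h p hp)

end Cfsg.Agent.Lib.Helper7.L34Mul
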