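import Cfsg.Agent.Lib.Helper7.L34MulE
import Cfsg.Agent.Lib.Helper8.SUTransport
import Cfsg.Prelude.Def_KGroupFacts

/-!
# The multiplier of the projective special linear group of degree three over the field of four elements is the product of cyclic groups of orders three, four and four

The group generated by the pairs is a stem extension of the projective group whose kernel has at least forty-eight
elements; together with the bound for the kernels of all stem extensions, applied also to this one, this gives the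
multiplier.  The statement is carried over to the projective special linear group over any field of four elements.
-/

set_option autoImplicit false
set_option maxRecDepth 100000

namespace Cfsg.Agent.Lib.Helper7.L34Mul

open Cfsg Cfsg.Agent.Lib.Helper7.MG Cfsg.Agent.Lib.Helper7.HSMult Cfsg.Agent.Lib.Helper7.L34
open Cfsg.Agent.Lib.Helper7.Sp6 Cfsg.Agent.Lib.Helper6.M21
open scoped IsMulCommutative

/-! ### the two trivial words -/

theorem gE_two_pow : gE 2 ^ 7 = 1 := by
  have h := wd_gE_eq (w := wpow 7 [2]) (w' := []) (fun p hp => (ex5 hp).1) (by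
      rw [← chk_W2]; exact wd_lK_W (by norm_num))
  rw [wd_wpow, VCert.wd_cons, VCert.wd_nil, mul_one] at h
  exact h

theorem gE_y_wd : VCert.wd gE (wpow 5 yW) = 1 :=
  wd_gE_eq (w := wpow 5 yW) (w' := []) (fun p hp => (ex5 hp).2) (by
      rw [← chk_W3]; exact wd_lK_W (by norm_num))

theorem gE_iv (x : ℕ) (hx : x < 4) : gE (Nat.xor x 1) = (gE x)⁻¹ := by
  rw [← ivx_eq x hx]
  exact gE_ivx x hx

/-! ### the central elements -/

theorem wd_gE_W_comm {j x : ℕ} (hj : j < 5) (hx : x < 4) :
    gE x * VCert.wd gE (cert.W (axI j)) = VCert.wd gE (cert.W (axI j)) * gE x := by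
  have h := wd_gE_eq (w := x :: cert.W (axI j)) (w' := cert.W (axI j) ++ [x]) (fun p hp => cen5 hj hx hp) (by
      rw [VCert.wd_cons, VCert.wd_append, wd_lK_W (axI_lt j), mul_one, one_mul, VCert.wd_cons, VCert.wd_nil,
        mul_one])
  rw [VCert.wd_cons, VCert.wd_append, VCert.wd_cons, VCert.wd_nil, mul_one] at h
  exact h

theorem wd_gE_ax_center (j : ℕ) : VCert.wd gE (cert.W (axI j)) ∈ Subgroup.center ↥GE := by
  rcases Nat.lt_or_ge j 5 with hj | hj
  · apply central_of_comm_gens (gE '' Set.Iio 4) closure_gE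
    rintro _ ⟨x, hx, rfl⟩
    exact wd_gE_W_comm hj hx
  · obtain ⟨y, rfl⟩ : ∃ y, j = y + 5 := ⟨j - 5, by omega⟩
    have e : axI (y + 5) = 0 := rfl
    rw [e, chk_W2, wd_wpow, VCert.wd_cons, VCert.wd_nil, mul_one, gE_two_pow]
    exact one_mem _

/-- the central elements of the table: the values of the given words -/
noncomputable def zE (j : ℕ) : Subgroup.center ↥GE := ⟨VCert.wd gE (cert.W (axI j)), wd_gE_ax_center j⟩

theorem wd_gE_mem_ker {i : ℕ} (hi : i < 30) : VCert.wd gE (cert.W i) ∈ sigE.ker := by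
  rw [MonoidHom.mem_ker, sigE_wd, wd_lK_W hi]

theorem zE_mem_ker (j : ℕ) : ((zE j : Subgroup.center ↥GE) : ↥GE) ∈ sigE.ker :=
  wd_gE_mem_ker (axI_lt j)

theorem hW0_E : ∀ i, i < cert.nW → cert.wT i = 0 →
    VCert.wd gE (cert.W i) = ((cert.ek zE i : Subgroup.center ↥GE) : ↥GE) := by
  intro i hi hT
  rcases chk_wT i hi hT with rfl | rfl | ⟨j, hj, rfl⟩
  · rw [VCert.ek, cert.kap_one _ fun l hl => (chk_ex l hl).1, chk_W2, wd_wpow, VCert.wd_cons, VCert.wd_nil, mul_one]
    exact gE_two_pow
  · rw [VCert.ek, cert.kap_one _ fun l hl => (chk_ex l hl).2, chk_W3]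
    exact gE_y_wd
  · rw [VCert.ek, cert.kap_unit _ hj (chk_ax j hj)]
    rfl

theorem hgen_E : ∀ y : ↥GE, ∃ u : List ℕ, (∀ x ∈ u, x < cert.g) ∧ y = (u.map gE).prod := by
  apply exists_word_of_closure gE 4 (fun x => Nat.xor x 1) _ closure_gE
  intro x hx
  refine ⟨?_, gE_iv x hx⟩
  have : x = 0 ∨ x = 1 ∨ x = 2 ∨ x = 3 := by omega
  rcases this with rfl | rfl | rfl | rfl <;> decide

instance instFiniteGE : Finite ↥GE := inferInstance

/-- **the kernel of the projection is generated by the central elements of the table** -/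
theorem ker_sigE : sigE.ker = Zc zE 5 := by
  refine ker_eq_Zc sigE cert gE zE 2 7 sigE_surj (by rw [G_card]; rfl) (by decide) (by norm_num)
    ?_ gE_two_pow ?_ (fun j _ => zE_mem_ker j) hgen_E (by decide) (by decide) gE_iv
    (fun i hi => wd_gE_mem_ker hi) hW0_E cert_all cert_wall
  · intro i hi
    rw [sigE_gE] at hi
    exact dvd_of_lK_two_pow hi
  · intro x hx
    rcases eq_two_or_three hx with rfl | rfl
    · exact Subgroup.mem_zpowers _
    · have : gE 3 = (gE 2)⁻¹ := gE_iv 2 (by norm_num)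
      rw [this]
      exact Subgroup.inv_mem _ (Subgroup.mem_zpowers _)

/-! ### the extension is perfect -/

theorem lK_zero_sq : lK 0 ^ 2 = 1 := by
  have h := wd_lS_eq (w := wpow 2 [0]) (w' := []) chk_tri.1
  rw [wd_wpow, VCert.wd_cons, VCert.wd_nil, mul_one] at h
  show (QuotientGroup.mk (lS 0) : G0) ^ 2 = 1
  rw [← QuotientGroup.mk_pow, h]
  rfl

theorem gE_zero_pow : gE 0 ^ 12 = 1 := by
  have h := wd_gE_eq (w := wpow 12 [0]) (w' := []) (fun p hp => ord5 hp) (by
      rw [wd_wpow, VCert.wd_cons, VCert.wd_nil, mul_one, show 12 = 2 * 6 from rfl, pow_mul,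
        lK_zero_sq, one_pow])
  rw [wd_wpow, VCert.wd_cons, VCert.wd_nil, mul_one] at h
  exact h

theorem closure_pairE : Subgroup.closure {gE 0, gE 2 * gE 2} = (⊤ : Subgroup ↥GE) := by
  have h2 : gE 2 ∈ Subgroup.closure {gE 0, gE 2 * gE 2} := by
    have e : gE 2 = (gE 2 * gE 2) ^ 4 := by
      rw [← pow_two, ← pow_mul]
      show gE 2 = gE 2 ^ (7 + 1)
      rw [pow_succ, gE_two_pow, one_mul]
    have hm : (gE 2 * gE 2) ^ 4 ∈ Subgroup.closure {gE 0, gE 2 * gE 2} :=
      pow_mem (Subgroup.subset_closure (by simp)) 4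
    rwa [← e] at hm
  rw [eq_top_iff, ← closure_gE, Subgroup.closure_le]
  rintro _ ⟨x, hx, rfl⟩
  have hx' : x < 4 := hx
  have : x = 0 ∨ x = 1 ∨ x = 2 ∨ x = 3 := by omega
  rcases this with rfl | rfl | rfl | rfl
  · exact Subgroup.subset_closure (by simp)
  · have : gE 1 = (gE 0)⁻¹ := gE_iv 0 (by norm_num)
    rw [SetLike.mem_coe, this]
    exact inv_mem (Subgroup.subset_closure (by simp))
  · exact h2
  · have : gE 3 = (gE 2)⁻¹ := gE_iv 2 (by norm_num)
    rw [SetLike.mem_coe, this]
    exact inv_mem h2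

theorem commutator_GE : commutator ↥GE = ⊤ := by
  have h7 : (gE 2 * gE 2) ^ 7 = 1 := by
    rw [← pow_two, ← pow_mul, mul_comm, pow_mul, gE_two_pow, one_pow]
  have h5 : (gE 0 * (gE 2 * gE 2)) ^ 5 = 1 := by
    have h := gE_y_wd
    rw [wd_wpow, yW, VCert.wd_cons, VCert.wd_cons, VCert.wd_cons, VCert.wd_nil, mul_one] at h
    exact h
  exact perfect_of_triangle closure_pairE gE_zero_pow h7 h5 (by norm_num) (by norm_num)

/-- **the group generated by the pairs is a stem extension of the projective group** -/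
theorem stem_GE : IsStemExtension sigE := by
  refine ⟨sigE_surj, ?_, ?_⟩
  · rw [ker_sigE]
    exact Zc_le_center zE 5
  · rw [commutator_GE]
    exact le_top

/-! ### the order of the kernel -/

theorem wd_lK_zA : VCert.wd lK zA = 1 := by
  rw [← zA_eq]
  exact wd_lK_W (by norm_num)

theorem wd_lK_zB : VCert.wd lK zB = 1 := by
  rw [← zB_eq]
  exact wd_lK_W (by norm_num)

theorem wd_lK_zC : VCert.wd lK zC = 1 := by
  rw [← zC_eq]
  exact wd_lK_W (by norm_num)

theorem wd_gE_kw_mem (i : ℕ) : VCert.wd gE (kw i) ∈ sigE.ker := by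
  rw [MonoidHom.mem_ker, sigE_wd, kw, VCert.wd_append, VCert.wd_append, wd_wpow, wd_wpow, wd_wpow, wd_lK_zA,
    wd_lK_zB, wd_lK_zC, one_pow, one_pow, one_pow, mul_one, mul_one]

theorem ev5_of_wd_gE_eq {w w' : List ℕ} (h : VCert.wd gE w = VCert.wd gE w') {p : ℕ} (hp : p < 511) :
    ev5 w p = ev5 w' p := by
  have h1 : (VCert.wd gE w : ↥GE).1 = (VCert.wd gE w' : ↥GE).1 := congrArg Subtype.val h
  rw [wd_gE_val, wd_gE_val, wd_gX, wd_gX] at h1
  have h2 : VCert.wd pm5 w = VCert.wd pm5 w' := congrArg Prod.fst h1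
  have h3 := wd_pm5_val w ⟨p, hp⟩
  rw [h2, wd_pm5_val] at h3
  exact h3.symm

theorem card_ker_ge : 48 ≤ Nat.card ↥sigE.ker := by
  have hinj : Function.Injective (fun i : Fin 48 => (⟨VCert.wd gE (kw i.val), wd_gE_kw_mem i.val⟩ : ↥sigE.ker)) := by
    intro i j h
    have h1 : VCert.wd gE (kw i.val) = VCert.wd gE (kw j.val) := congrArg Subtype.val h
    have e : sigL.getD i.val 0 = sigL.getD j.val 0 := by
      rw [← chk_sig i.val i.2, ← chk_sig j.val j.2, ev5_of_wd_gE_eq h1 (by norm_num),
        ev5_of_wd_gE_eq h1 (p := 63) (by norm_num), ev5_of_wd_gE_eq h1 (p := 287) (by norm_num)]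
    exact Fin.ext (chk_nodup i.val i.2 j.val j.2 e)
  have := Nat.card_le_card_of_injective _ hinj
  rwa [Nat.card_fin] at this

/-- **the kernel of the stem extension is the product of cyclic groups of orders three, four and four** -/
theorem ker_GE : Nonempty (↥sigE.ker ≃* Multiplicative (ZMod 3 × ZMod 4 × ZMod 4)) := by
  obtain ⟨hs, hc, hd⟩ := stem_GE
  obtain ⟨π, hπ⟩ := exists_surj_of_stem sigE hs hc hd
  exact nonempty_equiv_of_surj_of_card_le π hπ (by rw [card_prod_344]; exact card_ker_ge)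

/-! ### the projective special linear group over any field of four elements -/

/-- **the Schur multiplier of the projective special linear group of degree three over a field of four elements is the
product of cyclic groups of orders three, four and four** -/
theorem multiplier_psl {F : Type*} [Field F] [Fintype F] (hF : Fintype.card F = 4) :
    Cfsg.HasSchurMultiplier (Matrix.ProjectiveSpecialLinearGroup (Fin 3) F)
      (Multiplicative (ZMod 3 × ZMod 4 × ZMod 4)) := by
  let e0 : F ≃+* F4c := FiniteField.ringEquivOfCardEq (by rw [hF, F4c.card])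
  let e : Matrix.ProjectiveSpecialLinearGroup (Fin 3) F ≃* G0 :=
    QuotientGroup.congr _ _ (Cfsg.Agent.Lib.Helper8.SUTransport.slEquiv e0 3)
      (Cfsg.Agent.Lib.Helper8.SUTransport.map_center (Cfsg.Agent.Lib.Helper8.SUTransport.slEquiv e0 3))
  constructor
  · obtain ⟨iso⟩ := ker_GE
    obtain ⟨h1, ⟨iso'⟩⟩ := stem_comp_equiv (MulEquiv.ulift (α := ↥GE)) e.symm sigE stem_GE
    exact ⟨ULift ↥GE, inferInstance, inferInstance, _, h1, ⟨iso'.trans iso⟩⟩
  · intro Γ _ _ σ hσ
    have hk : (e.toMonoidHom.comp σ).ker = σ.ker := ker_comp_equiv e σ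
    have h := exists_surj_of_stem (e.toMonoidHom.comp σ) (e.surjective.comp hσ.1)
      (by rw [hk]; exact hσ.2.1) (by rw [hk]; exact hσ.2.2)
    rw [hk] at h
    exact h

end Cfsg.Agent.Lib.Helper7.L34Mul
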