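import Cfsg.Agent.Lib.Helper7.L34MulGD
import Cfsg.Agent.Lib.Helper7.L34MulC
import Cfsg.Agent.Lib.Helper7.L34Base
import Cfsg.Agent.Lib.Helper7.Sp6Base
import Cfsg.Agent.Lib.Helper7.MGenE

/-!
# The multiplier of the projective special linear group of degree three over the field of four elements: the letters in the group

A transvection and an element of order seven generate the special linear group, since all transvections and all
diagonal matrices with two entries inverse to each other are words in them; their images in the projective group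
satisfy all the words of the certificate.
-/

set_option autoImplicit false
set_option maxRecDepth 100000

namespace Cfsg.Agent.Lib.Helper7.L34Mul

open Matrix Cfsg Cfsg.Agent.Lib.Helper7.MG Cfsg.Agent.Lib.Helper7.HSMult Cfsg.Agent.Lib.Helper7.L34
open Cfsg.Agent.Lib.Helper7.Sp6 Cfsg.Agent.Lib.Helper6.M21

/-- the special linear group of degree three over the field of four elements -/
abbrev S0 : Type := Matrix.SpecialLinearGroup (Fin 3) F4c

/-- the projective special linear group of degree three over the field of four elements -/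
abbrev G0 : Type := Matrix.ProjectiveSpecialLinearGroup (Fin 3) F4c

/-- the entries of the letters -/
def letE : ℕ → List ℕ
  | 0 => eA
  | 1 => eA
  | 2 => eC
  | 3 => eCi
  | _ => eI

/-- the tables of the letters -/
def letT : ℕ → List ℕ
  | 0 => tA
  | 1 => tA
  | 2 => tC
  | 3 => tCi
  | _ => tI

theorem let_ok : ∀ x, actOK3 (letE x) (letT x)
  | 0 => by decide +kernel
  | 1 => by decide +kernel
  | 2 => by decide +kernel
  | 3 => by decide +kernel
  | _ + 4 => by
    show actOK3 eI tI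
    decide +kernel

theorem let_det : ∀ x, (mk3 (letE x)).det = 1
  | 0 => by rw [Matrix.det_fin_three]; decide
  | 1 => by rw [Matrix.det_fin_three]; decide
  | 2 => by rw [Matrix.det_fin_three]; decide
  | 3 => by rw [Matrix.det_fin_three]; decide
  | _ + 4 => by
    show (mk3 eI).det = 1
    rw [Matrix.det_fin_three]; decide

/-- the letters in the special linear group -/
def lS (x : ℕ) : S0 := ⟨mk3 (letE x), let_det x⟩

theorem lS_val (x : ℕ) : (lS x).1 = mk3 (letE x) := rfl

/-- the letters in the projective special linear group -/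
def lK (x : ℕ) : G0 := QuotientGroup.mk (lS x)

theorem wd_lK_mk : ∀ w : List ℕ, VCert.wd lK w = (QuotientGroup.mk (VCert.wd lS w) : G0)
  | [] => rfl
  | x :: w => by
    rw [VCert.wd_cons, VCert.wd_cons, wd_lK_mk w]
    rfl

/-- the number of the image of a vector under a word -/
def evS : List ℕ → ℕ → ℕ
  | [], p => p
  | x :: w, p => (letT x).getD (evS w p) 0

theorem wd_lS_mulVec : ∀ (w : List ℕ) (p : ℕ), p < 64 →
    (VCert.wd lS w : S0).1 *ᵥ dec3 p = dec3 (evS w p) ∧ evS w p < 64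
  | [], p, hp => by
    refine ⟨?_, hp⟩
    show (1 : Matrix (Fin 3) (Fin 3) F4c) *ᵥ dec3 p = dec3 p
    rw [Matrix.one_mulVec]
  | x :: w, p, hp => by
    obtain ⟨h1, h2⟩ := wd_lS_mulVec w p hp
    obtain ⟨h3, h4⟩ := let_ok x (evS w p) h2
    refine ⟨?_, h4⟩
    rw [VCert.wd_cons]
    show ((lS x).1 * (VCert.wd lS w : S0).1) *ᵥ dec3 p = dec3 ((letT x).getD (evS w p) 0)
    rw [← Matrix.mulVec_mulVec, h1, lS_val, h3]

theorem pow4_lt {k : ℕ} (hk : k < 3) : 4 ^ k < 64 := by
  have : k = 0 ∨ k = 1 ∨ k = 2 := by omega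
  rcases this with rfl | rfl | rfl <;> norm_num

theorem wd_lS_eq {w w' : List ℕ} (h : ∀ k, k < 3 → evS w (4 ^ k) = evS w' (4 ^ k)) :
    VCert.wd lS w = VCert.wd lS w' := by
  apply Subtype.ext
  apply mat_eq_of_basis3
  intro k hk
  rw [(wd_lS_mulVec w _ (pow4_lt hk)).1, (wd_lS_mulVec w' _ (pow4_lt hk)).1, h k hk]

/-- a word that multiplies the three vectors of the standard basis by the same nonzero scalar is trivial in the
projective group -/
theorem wd_lK_eq_one {w : List ℕ} (s : ℕ) (h1 : 1 ≤ s) (h4 : s < 4)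
    (h : ∀ k, k < 3 → evS w (4 ^ k) = s * 4 ^ k) : VCert.wd lK w = 1 := by
  rw [wd_lK_mk, QuotientGroup.eq_one_iff]
  apply mem_center_of_basis3 _ s h1 h4
  intro k hk
  rw [(wd_lS_mulVec w _ (pow4_lt hk)).1, h k hk]

/-- two words of which the second followed by the inverse of the first is as above are equal in the projective
group -/
theorem wd_lK_eq_one' {w : List ℕ}
    (h : (Nat.blt 0 (evS w 1) && Nat.blt (evS w 1) 4 && allN 3 fun k => Nat.beq (evS w (4 ^ k)) (evS w 1 * 4 ^ k)) = true) :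
    VCert.wd lK w = 1 := by
  rw [Bool.and_eq_true, Bool.and_eq_true] at h
  obtain ⟨⟨h1, h4⟩, h3⟩ := h
  rw [allN_iff] at h3
  exact wd_lK_eq_one (evS w 1) (by simpa [Nat.blt] using h1) (by simpa [Nat.blt] using h4)
    fun k hk => Nat.eq_of_beq_eq_true (h3 k hk)

/-! ### the checks -/

theorem chk_wordsK : allN 30 (fun i => strictL (cert.W i) fun w =>
    Nat.blt 0 (evS w 1) && Nat.blt (evS w 1) 4 && allN 3 fun k => Nat.beq (evS w (4 ^ k)) (evS w 1 * 4 ^ k)) = true := by
  decide +kernel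

theorem chk_invK : ∀ x < 4, ∀ k < 3, evS [x, Nat.xor x 1] (4 ^ k) = 4 ^ k := by decide +kernel

theorem chk_ordK : (∀ k < 3, evS (wpow 7 [2]) (4 ^ k) = 4 ^ k) ∧
    (evS [2] 1 ≠ 1 ∧ evS [2] 1 ≠ 2 ∧ evS [2] 1 ≠ 3) := by decide +kernel

theorem chk_tri : (∀ k < 3, evS (wpow 2 [0]) (4 ^ k) = 4 ^ k) ∧
    (Nat.blt 0 (evS (wpow 5 [0, 2, 2]) 1) && Nat.blt (evS (wpow 5 [0, 2, 2]) 1) 4 &&
      allN 3 fun k => Nat.beq (evS (wpow 5 [0, 2, 2]) (4 ^ k)) (evS (wpow 5 [0, 2, 2]) 1 * 4 ^ k)) = true := by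
  decide +kernel

theorem chk_tw : ∀ i j : Fin 3, i ≠ j → ∀ a : F4c, ∀ k, k < 3 →
    (Matrix.transvection i j a) *ᵥ dec3 (4 ^ k) = dec3 (evS (tw ((3 * i.val + j.val) * 4 + fc a)) (4 ^ k)) := by
  decide +kernel

theorem chk_dw : ∀ i j : Fin 3, i ≠ j → ∀ c : F4c, c ≠ 0 → ∀ k, k < 3 →
    (Matrix.diagonal (fun l => if l = i then c else if l = j then c⁻¹ else 1)) *ᵥ dec3 (4 ^ k) =
      dec3 (evS (dw ((3 * i.val + j.val) * 4 + fc c)) (4 ^ k)) := by
  decide +kernel

/-! ### the consequences -/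

/-- **all the words of the certificate are trivial in the projective group** -/
theorem wd_lK_W {i : ℕ} (hi : i < 30) : VCert.wd lK (cert.W i) = 1 := by
  have h := chk_wordsK
  rw [allN_iff] at h
  have h1 := h i hi
  rw [strictL_eq] at h1
  exact wd_lK_eq_one' h1

theorem lS_iv {x : ℕ} (hx : x < 4) : lS (Nat.xor x 1) = (lS x)⁻¹ := by
  have h := wd_lS_eq (w := [x, Nat.xor x 1]) (w' := []) (chk_invK x hx)
  rw [VCert.wd_cons, VCert.wd_cons, VCert.wd_nil, mul_one] at h
  exact eq_inv_of_mul_eq_one_right h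

theorem lK_iv {x : ℕ} (hx : x < 4) : lK (Nat.xor x 1) = (lK x)⁻¹ := by
  show (QuotientGroup.mk (lS (Nat.xor x 1)) : G0) = (QuotientGroup.mk (lS x) : G0)⁻¹
  rw [lS_iv hx]
  rfl

theorem lS_of_ge {x : ℕ} (hx : 4 ≤ x) : lS x = 1 := by
  obtain ⟨y, rfl⟩ : ∃ y, x = y + 4 := ⟨x - 4, by omega⟩
  have h : VCert.wd lS [y + 4] = VCert.wd lS [] := wd_lS_eq (w := [y + 4]) (w' := []) (by
    show ∀ k, k < 3 → tI.getD (4 ^ k) 0 = 4 ^ k
    decide)
  rw [VCert.wd_cons, VCert.wd_nil, mul_one] at h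
  exact h

theorem lK_of_ge {x : ℕ} (hx : 4 ≤ x) : lK x = 1 := by
  show (QuotientGroup.mk (lS x) : G0) = 1
  rw [lS_of_ge hx]
  rfl

theorem lS_two_pow : lS 2 ^ 7 = 1 := by
  have h := wd_lS_eq (w := wpow 7 [2]) (w' := []) chk_ordK.1
  rw [wd_wpow, VCert.wd_cons, VCert.wd_nil, mul_one] at h
  exact h

theorem lK_two_pow : lK 2 ^ 7 = 1 := by
  show (QuotientGroup.mk (lS 2) : G0) ^ 7 = 1
  rw [← QuotientGroup.mk_pow, lS_two_pow]
  rfl

theorem lK_two_ne : lK 2 ≠ 1 := by
  intro h
  have h0 : lS 2 ∈ Subgroup.center S0 := (QuotientGroup.eq_one_iff _).1 h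
  obtain ⟨r, _, hr⟩ := Matrix.SpecialLinearGroup.mem_center_iff.1 h0
  have h1 := (wd_lS_mulVec [2] 1 (by norm_num)).1
  rw [VCert.wd_cons, VCert.wd_nil, mul_one, ← hr] at h1
  have h2 : ∀ r : F4c, (Matrix.scalar (Fin 3) r) *ᵥ dec3 1 ≠ dec3 (evS [2] 1) := by decide
  exact h2 r h1

theorem orderOf_lK_two : orderOf (lK 2) = 7 :=
  have : Fact (Nat.Prime 7) := ⟨by norm_num⟩
  orderOf_eq_prime lK_two_pow lK_two_ne

theorem dvd_of_lK_two_pow {i : ℕ} (h : lK 2 ^ i = 1) : 7 ∣ i := by
  rw [← orderOf_lK_two]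
  exact orderOf_dvd_of_pow_eq_one h

/-! ### the letters generate the group -/

theorem lS_mem (x : ℕ) : lS x ∈ Subgroup.closure (lS '' Set.Iio 4) := by
  rcases Nat.lt_or_ge x 4 with h | h
  · exact Subgroup.subset_closure ⟨x, h, rfl⟩
  · rw [lS_of_ge h]; exact one_mem _

theorem wd_lS_mem : ∀ w : List ℕ, VCert.wd lS w ∈ Subgroup.closure (lS '' Set.Iio 4)
  | [] => one_mem _
  | x :: w => by
    rw [VCert.wd_cons]
    exact mul_mem (lS_mem x) (wd_lS_mem w)

/-- every transvection is a word in the letters -/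
theorem transvection_eq (i j : Fin 3) (hij : i ≠ j) (a : F4c) :
    Matrix.SpecialLinearGroup.transvection hij a = VCert.wd lS (tw ((3 * i.val + j.val) * 4 + fc a)) := by
  apply Subtype.ext
  apply mat_eq_of_basis3
  intro k hk
  rw [(wd_lS_mulVec _ _ (pow4_lt hk)).1, ← chk_tw i j hij a k hk]
  rfl

/-- every diagonal matrix with two entries inverse to each other is a word in the letters -/
theorem diag2n_eq (i j : Fin 3) (hij : i ≠ j) (c : F4c) (hc : c ≠ 0) :
    Matrix.SpecialLinearGroup.diag2n hij c hc = VCert.wd lS (dw ((3 * i.val + j.val) * 4 + fc c)) := by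
  apply Subtype.ext
  apply mat_eq_of_basis3
  intro k hk
  rw [(wd_lS_mulVec _ _ (pow4_lt hk)).1, ← chk_dw i j hij c hc k hk, Matrix.SpecialLinearGroup.diag2n_coe]

/-- **the letters generate the special linear group** -/
theorem closure_lS : Subgroup.closure (lS '' Set.Iio 4) = ⊤ := by
  rw [Subgroup.eq_top_iff']
  intro M
  refine Matrix.SpecialLinearGroup.diagonal_transvection_induction'
    (fun M => M ∈ Subgroup.closure (lS '' Set.Iio 4)) M ?_ ?_ ?_
  · intro i j hij c hc
    show Matrix.SpecialLinearGroup.diag2n hij c hc ∈ _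
    rw [diag2n_eq i j hij c hc]
    exact wd_lS_mem _
  · intro i j hij a
    show Matrix.SpecialLinearGroup.transvection hij a ∈ _
    rw [transvection_eq i j hij a]
    exact wd_lS_mem _
  · intro A B hA hB
    exact mul_mem hA hB

/-- **the letters generate the projective special linear group** -/
theorem closure_lK : Subgroup.closure (lK '' Set.Iio 4) = ⊤ := by
  have h : Subgroup.map (QuotientGroup.mk' (Subgroup.center S0)) (Subgroup.closure (lS '' Set.Iio 4)) =
      Subgroup.closure (lK '' Set.Iio 4) := by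
    rw [MonoidHom.map_closure, Set.image_image]
    rfl
  rw [← h, closure_lS, ← MonoidHom.range_eq_map, MonoidHom.range_eq_top]
  exact QuotientGroup.mk'_surjective _

theorem G_card : Nat.card G0 = 20160 := by
  exact card_psl34 F4c.card

theorem closure_pair : Subgroup.closure {lK 0, lK 2 * lK 2} = (⊤ : Subgroup G0) := by
  have h2 : lK 2 ∈ Subgroup.closure {lK 0, lK 2 * lK 2} := by
    have e : lK 2 = (lK 2 * lK 2) ^ 4 := by
      rw [← pow_two, ← pow_mul]
      show lK 2 = lK 2 ^ (7 + 1)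
      rw [pow_succ, lK_two_pow, one_mul]
    have hm : (lK 2 * lK 2) ^ 4 ∈ Subgroup.closure {lK 0, lK 2 * lK 2} :=
      pow_mem (Subgroup.subset_closure (by simp)) 4
    rwa [← e] at hm
  rw [eq_top_iff, ← closure_lK, Subgroup.closure_le]
  rintro _ ⟨x, hx, rfl⟩
  have hx' : x < 4 := hx
  have : x = 0 ∨ x = 1 ∨ x = 2 ∨ x = 3 := by omega
  rcases this with rfl | rfl | rfl | rfl
  · exact Subgroup.subset_closure (by simp)
  · have : lK 1 = (lK 0)⁻¹ := lK_iv (x := 0) (by norm_num)
    rw [SetLike.mem_coe, this]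
    exact inv_mem (Subgroup.subset_closure (by simp))
  · exact h2
  · have : lK 3 = (lK 2)⁻¹ := lK_iv (x := 2) (by norm_num)
    rw [SetLike.mem_coe, this]
    exact inv_mem h2

/-- the projective special linear group is perfect -/
theorem G_perfect : commutator G0 = ⊤ := by
  have h2 : lK 0 ^ 2 = 1 := by
    have h := wd_lS_eq (w := wpow 2 [0]) (w' := []) chk_tri.1
    rw [wd_wpow, VCert.wd_cons, VCert.wd_nil, mul_one] at h
    show (QuotientGroup.mk (lS 0) : G0) ^ 2 = 1
    rw [← QuotientGroup.mk_pow, h]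
    rfl
  have h7 : (lK 2 * lK 2) ^ 7 = 1 := by
    rw [← pow_two, ← pow_mul, mul_comm, pow_mul, lK_two_pow, one_pow]
  have h5 : (lK 0 * (lK 2 * lK 2)) ^ 5 = 1 := by
    have h := wd_lK_eq_one' chk_tri.2
    rw [wd_wpow, VCert.wd_cons, VCert.wd_cons, VCert.wd_cons, VCert.wd_nil, mul_one] at h
    exact h
  exact perfect_of_triangle closure_pair h2 h7 h5 (by norm_num) (by norm_num)

end Cfsg.Agent.Lib.Helper7.L34Mul
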