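import Mathlib

/-! # The multiplier of the projective special linear group of degree three over the field of four elements: the entries and the tables of the letters, and words for the transvections and the diagonal
matrices (generated) -/

set_option autoImplicit false

namespace Cfsg.Agent.Lib.Helper7.L34Mul

/-- the entries of the first generator, a transvection -/
def eA : List ℕ := [1, 0, 0, 2, 1, 0, 0, 0, 1]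

/-- the entries of the second generator, of order seven -/
def eC : List ℕ := [2, 2, 1, 3, 0, 1, 3, 3, 3]

/-- the entries of the inverse of the second generator -/
def eCi : List ℕ := [3, 2, 2, 1, 2, 1, 2, 0, 1]

/-- the entries of the identity -/
def eI : List ℕ := [1, 0, 0, 0, 1, 0, 0, 0, 1]

/-- the images of the numbered vectors under the first generator -/
def tA : List ℕ := [0, 9, 14, 7, 4, 13, 10, 3, 8, 1, 6, 15, 12, 5, 2, 11, 16, 25, 30, 23, 20, 29, 26, 19, 24, 17, 22, 31, 28, 21, 18, 27, 32, 41, 46, 39, 36, 45, 42, 35, 40, 33, 38, 47, 44, 37, 34, 43, 48, 57, 62, 55, 52, 61, 58, 51, 56, 49, 54, 63, 60, 53, 50, 59]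

/-- the images of the numbered vectors under the second generator -/
def tC : List ℕ := [0, 62, 23, 41, 50, 12, 37, 27, 19, 45, 4, 58, 33, 31, 54, 8, 53, 11, 34, 28, 7, 57, 16, 46, 38, 24, 49, 15, 20, 42, 3, 61, 26, 36, 13, 51, 40, 22, 63, 1, 9, 55, 30, 32, 59, 5, 44, 18, 47, 17, 56, 6, 29, 35, 10, 52, 60, 2, 43, 21, 14, 48, 25, 39]

/-- the images of the numbered vectors under the inverse of the second generator -/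
def tCi : List ℕ := [0, 39, 57, 30, 10, 45, 51, 20, 15, 40, 54, 17, 5, 34, 60, 27, 22, 49, 47, 8, 28, 59, 37, 2, 25, 62, 32, 7, 19, 52, 42, 13, 43, 12, 18, 53, 33, 6, 24, 63, 36, 3, 29, 58, 46, 9, 23, 48, 61, 26, 4, 35, 55, 16, 14, 41, 50, 21, 11, 44, 56, 31, 1, 38]

/-- the images of the numbered vectors under the identity -/
def tI : List ℕ := [0, 1, 2, 3, 4, 5, 6, 7, 8, 9, 10, 11, 12, 13, 14, 15, 16, 17, 18, 19, 20, 21, 22, 23, 24, 25, 26, 27, 28, 29, 30, 31, 32, 33, 34, 35, 36, 37, 38, 39, 40, 41, 42, 43, 44, 45, 46, 47, 48, 49, 50, 51, 52, 53, 54, 55, 56, 57, 58, 59, 60, 61, 62, 63]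

/-- words for the transvections -/
def tw : ℕ → List ℕ
  | 4 => []
  | 5 => [3, 0, 2, 0, 3, 3, 0, 2, 2, 0, 3, 3, 0, 2, 0, 2]
  | 6 => [2, 0, 3, 0, 3, 0, 3, 3, 0, 3, 3, 3]
  | 7 => [0, 2, 2, 0, 2, 2, 0, 3, 3, 0, 3, 3, 0]
  | 8 => []
  | 9 => [2, 2, 0, 3, 0, 2, 2, 0, 3, 0, 3, 3, 0, 2]
  | 10 => [0, 3, 3, 3, 0, 2, 2, 2, 0]
  | 11 => [0, 2, 2, 0, 3, 3, 0, 2, 2, 0, 3, 0, 2, 2, 0, 3, 3, 0, 2, 0]
  | 12 => []
  | 13 => [2, 0, 3, 0, 2, 2, 2, 0, 2, 2, 0, 2, 2, 2, 0, 3, 0, 2]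
  | 14 => [0]
  | 15 => [2, 0, 3, 0, 2, 0, 3, 0, 2, 2, 0, 3, 0, 2, 0, 3, 0, 2]
  | 20 => []
  | 21 => [2, 0, 2, 0, 3, 3, 0, 2, 0, 3, 3, 3, 0, 2]
  | 22 => [3, 0, 2, 0, 3, 3, 3, 0, 2, 2, 2, 0, 3, 0, 2]
  | 23 => [0, 3, 3, 3, 0, 2, 2, 2, 0, 3, 3, 3, 0, 2, 2, 2]
  | 24 => []
  | 25 => [3, 0, 3, 3, 0, 2, 2, 0, 3, 0, 2, 0, 3, 3, 0, 2, 2, 0, 2]
  | 26 => [0, 2, 0, 3, 0, 2, 2, 2, 0, 3, 3, 3, 0, 2, 0, 3]
  | 27 => [2, 2, 0, 3, 3, 0, 2, 2, 0, 3, 3]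
  | 28 => []
  | 29 => [3, 0, 2, 0, 3, 3, 0, 2, 2, 0, 3, 0, 2]
  | 30 => [0, 3, 0, 2, 2, 0, 3, 0, 2, 0, 3, 3, 0, 2, 0]
  | 31 => [0, 3, 3, 3, 0, 2, 0, 3, 3, 0, 3, 3, 3, 0, 3, 3, 0, 2]
  | _ => []

/-- words for the diagonal matrices -/
def dw : ℕ → List ℕ
  | 5 => []
  | 6 => [0, 2, 0, 2, 2, 0, 3, 3, 0, 2, 2, 2, 0, 2, 0, 3, 0]
  | 7 => [0, 2, 0, 3, 0, 3, 3, 3, 0, 2, 2, 0, 3, 3, 0, 3, 0]
  | 9 => []
  | 10 => [0, 2, 2, 0, 2, 0, 3, 3, 0, 2, 2, 0, 3, 0, 2, 0, 2]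
  | 11 => [3, 0, 3, 0, 2, 0, 3, 3, 0, 2, 2, 0, 3, 0, 3, 3, 0]
  | 13 => []
  | 14 => [0, 2, 0, 3, 0, 3, 3, 3, 0, 2, 2, 0, 3, 3, 0, 3, 0]
  | 15 => [0, 2, 0, 2, 2, 0, 3, 3, 0, 2, 2, 2, 0, 2, 0, 3, 0]
  | 21 => []
  | 22 => [0, 2, 0, 2, 2, 0, 3, 3, 0, 2, 2, 0, 3, 0, 3, 3, 0]
  | 23 => [0, 2, 0, 3, 0, 3, 3, 3, 0, 2, 2, 0, 3, 0, 2, 0, 2]
  | 25 => []
  | 26 => [3, 0, 3, 0, 2, 0, 3, 3, 0, 2, 2, 0, 3, 0, 3, 3, 0]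
  | 27 => [0, 2, 2, 0, 2, 0, 3, 3, 0, 2, 2, 0, 3, 0, 2, 0, 2]
  | 29 => []
  | 30 => [0, 2, 0, 3, 0, 3, 3, 3, 0, 2, 2, 0, 3, 0, 2, 0, 2]
  | 31 => [0, 2, 0, 2, 2, 0, 3, 3, 0, 2, 2, 0, 3, 0, 3, 3, 0]
  | _ => []

end Cfsg.Agent.Lib.Helper7.L34Mul
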