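import Cfsg.Agent.Lib.Helper7.L34MulC

/-! # The multiplier of the projective special linear group of degree three over the field of four elements: the check of the rows 0 to 2879 of the certificate (generated) -/

set_option autoImplicit false
set_option maxRecDepth 100000

namespace Cfsg.Agent.Lib.Helper7.L34Mul

theorem rows_ok_0 : rowsOK 0 360 = true := by decide +kernel

theorem rows_ok_1 : rowsOK 360 360 = true := by decide +kernel

theorem rows_ok_2 : rowsOK 720 360 = true := by decide +kernel

theorem rows_ok_3 : rowsOK 1080 360 = true := by decide +kernel

theorem rows_ok_4 : rowsOK 1440 360 = true := by decide +kernel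

theorem rows_ok_5 : rowsOK 1800 360 = true := by decide +kernel

theorem rows_ok_6 : rowsOK 2160 360 = true := by decide +kernel

theorem rows_ok_7 : rowsOK 2520 360 = true := by decide +kernel

end Cfsg.Agent.Lib.Helper7.L34Mul
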