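import Mathlib
import Cfsg.Prelude.Def_MonsterType
import Cfsg.Agent.S5422
import Cfsg.Agent.H2.NCA.A12
import Cfsg.Agent.Lib.Lead.Extraspecial2

set_option autoImplicit false

namespace Cfsg.Agent.Lib.Helper4.LES29

section
variable {H : Type*} [Group H]

theorem lq_mk_eq_one_iff (N : Subgroup H) [N.Normal] (t : H)
    (hN : ∀ n : H, n ∈ N ↔ n = 1 ∨ n = t) (x : H) :
    QuotientGroup.mk' N x = 1 ↔ x = 1 ∨ x = t := by
  rw [QuotientGroup.mk'_apply, QuotientGroup.eq_one_iff, hN]

theorem lq_mk_eq_iff (N : Subgroup H) [N.Normal] (t : H)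
    (hN : ∀ n : H, n ∈ N ↔ n = 1 ∨ n = t) (x y : H) :
    QuotientGroup.mk' N x = QuotientGroup.mk' N y ↔ y = x ∨ y = x * t := by
  rw [QuotientGroup.mk'_apply, QuotientGroup.mk'_apply, QuotientGroup.eq, hN]
  constructor
  · rintro (h | h)
    · left
      calc y = x * (x⁻¹ * y) := by group
        _ = x := by rw [h, mul_one]
    · right
      calc y = x * (x⁻¹ * y) := by group
        _ = x * t := by rw [h]
  · rintro (h | h)
    · left; rw [h]; group
    · right; rw [h]; group


/-- `t ≠ 1`: otherwise `P` would be extraspecial of order `2 ^ (2 * w + 2)`. -/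
theorem lq_t_ne_one [Finite H] (t : H)
    (P : Subgroup H) (z : H) (hzP : z ∈ P) (hz1 : z ≠ 1)
    (hzz : z * z = 1) (hPz : ∀ p ∈ P, p * z = z * p)
    (hcomm : ∀ a ∈ P, ∀ b ∈ P, a * b * a⁻¹ * b⁻¹ = 1 ∨ a * b * a⁻¹ * b⁻¹ = z)
    (hsq : ∀ a ∈ P, a * a = 1 ∨ a * a = z)
    (hZP : ∀ d ∈ P, (∀ x ∈ P, x * d = d * x) → d = 1 ∨ d = z ∨ d = t ∨ d = t * z)
    (w : ℕ) (hcard : Nat.card ↥P = 2 ^ (2 * w + 2)) : t ≠ 1 := by
  intro ht
  subst ht
  have hes : Cfsg.Agent.Lead.ES2.ES (⟨z, hzP⟩ : ↥P) := by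
    refine ⟨⟨?_, ?_, ?_, ?_, ?_⟩, ?_⟩
    · intro h; exact hz1 (congrArg Subtype.val h)
    · apply Subtype.ext; exact hzz
    · intro x; apply Subtype.ext; exact hPz x x.2
    · intro x y
      rcases hcomm x x.2 y y.2 with h | h
      · left; apply Subtype.ext; rw [commutatorElement_def]; exact h
      · right; apply Subtype.ext; rw [commutatorElement_def]; exact h
    · intro x
      rcases hsq x x.2 with h | h
      · left; apply Subtype.ext; exact h
      · right; apply Subtype.ext; exact h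
    · intro c hc
      have := hZP c c.2 (fun x hx => congrArg Subtype.val (hc ⟨x, hx⟩))
      rcases this with h | h | h | h
      · left; exact Subtype.ext h
      · right; exact Subtype.ext h
      · left; exact Subtype.ext h
      · right; apply Subtype.ext; rw [h, one_mul]
  obtain ⟨m, hm, -⟩ := Cfsg.Agent.Lead.ES2.T1 _ ↥P ⟨z, hzP⟩ hes hcard
  have := Nat.pow_right_injective (le_refl 2) hm
  omega

/-- (LQ-a) extraspecial structure of the image -/
theorem lq_extraspecial [Finite H] (N : Subgroup H) [N.Normal] (t : H)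
    (hN : ∀ n : H, n ∈ N ↔ n = 1 ∨ n = t) (htc : ∀ h : H, h * t = t * h) (htt : t * t = 1)
    (P : Subgroup H) (z : H) (hzP : z ∈ P) (htP : t ∈ P) (hz1 : z ≠ 1) (hzt : z ≠ t)
    (hzz : z * z = 1) (hPz : ∀ p ∈ P, p * z = z * p)
    (hcomm : ∀ a ∈ P, ∀ b ∈ P, a * b * a⁻¹ * b⁻¹ = 1 ∨ a * b * a⁻¹ * b⁻¹ = z)
    (hsq : ∀ a ∈ P, a * a = 1 ∨ a * a = z)
    (hZP : ∀ d ∈ P, (∀ x ∈ P, x * d = d * x) → d = 1 ∨ d = z ∨ d = t ∨ d = t * z)
    (hna : ∃ x₁ ∈ P, ∃ x₂ ∈ P, x₁ * x₂ * x₁⁻¹ * x₂⁻¹ = z)
    (w : ℕ) (hcard : Nat.card ↥P = 2 ^ (2 * w + 2)) :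
    Cfsg.IsExtraspecial 2 ↥(P.map (QuotientGroup.mk' N)) ∧
    (∀ x : ↥(P.map (QuotientGroup.mk' N)),
      x ∈ Subgroup.center ↥(P.map (QuotientGroup.mk' N)) ↔
        (x : H ⧸ N) = 1 ∨ (x : H ⧸ N) = QuotientGroup.mk' N z) ∧
    Nat.card ↥(P.map (QuotientGroup.mk' N)) = 2 ^ (2 * w + 1) := by
  set π := QuotientGroup.mk' N with hπ
  have hker := lq_mk_eq_one_iff N t hN
  have heq := lq_mk_eq_iff N t hN
  have hzs1 : π z ≠ 1 := by
    intro h
    rcases (hker z).1 h with h | h
    · exact hz1 h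
    · exact hzt h
  have hzsP : π z ∈ P.map π := ⟨z, hzP, rfl⟩
  have ht1 : t ≠ 1 := lq_t_ne_one t P z hzP hz1 hzz hPz hcomm hsq hZP w hcard
  have hP2 : IsPGroup 2 ↥P := IsPGroup.of_card hcard
  have hPs2 : IsPGroup 2 ↥(P.map π) := hP2.map π
  have key := Cfsg.Agent.H2.NCA.isExtraspecial_of (W := ↥(P.map π)) hPs2 ⟨π z, hzsP⟩
    (by intro h; exact hzs1 (congrArg Subtype.val h))
    (by
      apply Subtype.ext
      show π z * π z = 1
      rw [← map_mul, hzz, map_one])
    (by
      rintro ⟨_, p, hp, rfl⟩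
      apply Subtype.ext
      show π z * π p = π p * π z
      rw [← map_mul, ← map_mul, hPz p hp])
    (by
      rintro ⟨_, p, hp, rfl⟩
      rcases hsq p hp with h | h
      · left
        apply Subtype.ext
        show π p * π p = 1
        rw [← map_mul, h, map_one]
      · right
        apply Subtype.ext
        show π p * π p = π z
        rw [← map_mul, h])
    (by
      rintro ⟨_, a, ha, rfl⟩ ⟨_, b, hb, rfl⟩
      rcases hcomm a ha b hb with h | h
      · left
        apply Subtype.ext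
        show π a * π b = π b * π a
        rw [← map_mul, ← map_mul]
        congr 1
        calc a * b = (a * b * a⁻¹ * b⁻¹) * (b * a) := by group
          _ = b * a := by rw [h, one_mul]
      · right
        apply Subtype.ext
        show π a * π b = π z * (π b * π a)
        rw [← map_mul, ← map_mul, ← map_mul]
        congr 1
        calc a * b = (a * b * a⁻¹ * b⁻¹) * (b * a) := by group
          _ = z * (b * a) := by rw [h])
    (by
      rintro ⟨_, c, hc, rfl⟩ hcen
      have hc0 : ∀ x ∈ P, x * c = c * x := by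
        intro x hx
        have h1 := congrArg Subtype.val (hcen ⟨π x, x, hx, rfl⟩)
        have h2 : π (c * x) = π (x * c) := by rw [map_mul, map_mul]; exact h1
        rcases (heq _ _).1 h2 with h | h
        · exact h
        · exfalso
          -- x c = c x t ; commutator c x c⁻¹ x⁻¹ ∈ {1,z}
          rcases hcomm c hc x hx with h3 | h3
          · have : x * c = c * x := by
              calc x * c = (c * x * c⁻¹ * x⁻¹)⁻¹ * (c * x) := by group
                _ = c * x := by rw [h3, inv_one, one_mul]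
            rw [this] at h
            have : t = 1 := by
              calc t = (c * x)⁻¹ * (c * x * t) := by group
                _ = 1 := by rw [← h]; group
            exact ht1 this
          · have h4 : x * c = z⁻¹ * (c * x) := by
              calc x * c = (c * x * c⁻¹ * x⁻¹)⁻¹ * (c * x) := by group
                _ = z⁻¹ * (c * x) := by rw [h3]
            have hzinv : z⁻¹ = z := inv_eq_of_mul_eq_one_left hzz
            rw [hzinv] at h4
            have h5 : z * (c * x) = c * x * t := h4.symm.trans h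
            have h6 : z * (c * x) = t * (c * x) := by rw [h5, htc]
            exact hzt (mul_right_cancel h6)
      rcases hZP c hc hc0 with h | h | h | h
      · left; apply Subtype.ext; show π c = 1; rw [h, map_one]
      · right; apply Subtype.ext; show π c = π z; rw [h]
      · left; apply Subtype.ext; show π c = 1; rw [h]; exact (hker t).2 (Or.inr rfl)
      · right; apply Subtype.ext; show π c = π z
        rw [h, map_mul, (hker t).2 (Or.inr rfl), one_mul])
    (by
      obtain ⟨x₁, h1, x₂, h2, hx⟩ := hna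
      refine ⟨⟨π x₁, x₁, h1, rfl⟩, ⟨π x₂, x₂, h2, rfl⟩, ?_⟩
      intro h
      have h3 : π x₁ * π x₂ = π x₂ * π x₁ := congrArg Subtype.val h
      apply hzs1
      rw [← hx, map_mul, map_mul, map_mul, h3, map_inv, map_inv]
      group)
  refine ⟨key.1, ?_, ?_⟩
  · intro x
    rw [key.2 x]
    constructor
    · rintro (h | h)
      · left; exact congrArg Subtype.val h
      · right; exact congrArg Subtype.val h
    · rintro (h | h)
      · left; exact Subtype.ext h
      · right; exact Subtype.ext h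
  · -- cardinality
    set f : ↥P →* H ⧸ N := π.comp P.subtype with hf
    have hrange : f.range = P.map π := by
      rw [hf, MonoidHom.range_comp, Subgroup.range_subtype]
    have hkercard : Nat.card f.ker = 2 := by
      have hmem : ∀ x : ↥P, x ∈ f.ker ↔ x = 1 ∨ x = ⟨t, htP⟩ := by
        intro x
        rw [MonoidHom.mem_ker]
        show π (x : H) = 1 ↔ _
        rw [hker]
        constructor
        · rintro (h | h)
          · left; exact Subtype.ext h
          · right; exact Subtype.ext h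
        · rintro (h | h)
          · left; rw [h]; rfl
          · right; rw [h]
      rw [Nat.card_eq_two_iff]
      refine ⟨⟨1, one_mem _⟩, ⟨⟨t, htP⟩, (hmem _).2 (Or.inr rfl)⟩, ?_, ?_⟩
      · intro h
        have h1 := congrArg (fun x : ↥f.ker => ((x : ↥P) : H)) h
        exact ht1 h1.symm
      · ext x
        simp only [Set.mem_insert_iff, Set.mem_singleton_iff, Set.mem_univ, iff_true]
        rcases (hmem x.1).1 x.2 with h | h
        · left; exact Subtype.ext h
        · right; exact Subtype.ext h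
    have h1 := Subgroup.card_mul_index f.ker
    rw [Subgroup.index_ker, hkercard, hrange, hcard] at h1
    have : (2 : ℕ) ^ (2 * w + 2) = 2 * 2 ^ (2 * w + 1) := by ring
    rw [this] at h1
    exact Nat.eq_of_mul_eq_mul_left (by norm_num) h1


end

theorem large_quotient {H : Type*} [Group H] [Finite H] (N : Subgroup H) [N.Normal] (t : H)
    (hN : ∀ n : H, n ∈ N ↔ n = 1 ∨ n = t) (htc : ∀ h : H, h * t = t * h) (htt : t * t = 1)
    (P : Subgroup H) (z : H) (hzP : z ∈ P) (htP : t ∈ P) (hz1 : z ≠ 1) (hzt : z ≠ t)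
    (hzz : z * z = 1) (hPz : ∀ p ∈ P, p * z = z * p)
    (hcomm : ∀ a ∈ P, ∀ b ∈ P, a * b * a⁻¹ * b⁻¹ = 1 ∨ a * b * a⁻¹ * b⁻¹ = z)
    (hsq : ∀ a ∈ P, a * a = 1 ∨ a * a = z)
    (hZP : ∀ d ∈ P, (∀ x ∈ P, x * d = d * x) → d = 1 ∨ d = z ∨ d = t ∨ d = t * z)
    (hna : ∃ x₁ ∈ P, ∃ x₂ ∈ P, x₁ * x₂ * x₁⁻¹ * x₂⁻¹ = z)
    (w : ℕ) (hw : 2 ≤ w) (hcard : Nat.card ↥P = 2 ^ (2 * w + 2))
    (hcent : ∀ c : H, (∀ p ∈ P, c * p * c⁻¹ * p⁻¹ = 1 ∨ c * p * c⁻¹ * p⁻¹ = t) → c ∈ P)
    (hnorm : ∀ c : H, (c * z * c⁻¹ = z ∨ c * z * c⁻¹ = z * t) → ∀ p ∈ P, c * p * c⁻¹ ∈ P)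
    (h a : H) (ha : h * z * h⁻¹ = a) (haP : a ∈ P) (haz : a ≠ z) (hazt : a ≠ z * t) :
    Cfsg.IsLargeExtraspecial (P.map (QuotientGroup.mk' N)) := by
  obtain ⟨hES, hcen, hcardS⟩ := lq_extraspecial N t hN htc htt P z hzP htP hz1 hzt hzz hPz hcomm
    hsq hZP hna w hcard
  set π := QuotientGroup.mk' N with hπ
  have hker := lq_mk_eq_one_iff N t hN
  have heq := lq_mk_eq_iff N t hN
  have hsurj : Function.Surjective π := QuotientGroup.mk'_surjective N
  have hzsP : π z ∈ P.map π := ⟨z, hzP, rfl⟩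
  -- the image of the centre
  have hZ : ∀ y : H ⧸ N, y ∈ (Subgroup.center ↥(P.map π)).map (P.map π).subtype ↔
      y = 1 ∨ y = π z := by
    intro y
    constructor
    · rintro ⟨x, hx, rfl⟩
      exact (hcen x).1 hx
    · rintro (h | h)
      · rw [h]; exact one_mem _
      · exact ⟨⟨π z, hzsP⟩, (hcen _).2 (Or.inr rfl), h.symm⟩
  -- hL2
  have hL2 : Subgroup.centralizer ((P.map π : Subgroup (H ⧸ N)) : Set (H ⧸ N)) =
      (Subgroup.center ↥(P.map π)).map (P.map π).subtype := by
    apply le_antisymm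
    · intro g hg
      obtain ⟨c, rfl⟩ := hsurj g
      rw [Subgroup.mem_centralizer_iff] at hg
      have hcP : c ∈ P := by
        apply hcent
        intro p hp
        have h1 : π p * π c = π c * π p := hg (π p) ⟨p, hp, rfl⟩
        have h2 : π (c * p * c⁻¹ * p⁻¹) = 1 := by
          rw [map_mul, map_mul, map_mul, ← h1, map_inv, map_inv]; group
        exact (hker _).1 h2
      refine ⟨⟨π c, c, hcP, rfl⟩, ?_, rfl⟩
      rw [SetLike.mem_coe, Subgroup.mem_center_iff]
      intro y
      apply Subtype.ext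
      exact hg y y.2
    · rintro _ ⟨y, hy, rfl⟩
      rw [Subgroup.mem_centralizer_iff]
      intro x hx
      rw [SetLike.mem_coe, Subgroup.mem_center_iff] at hy
      exact congrArg Subtype.val (hy ⟨x, hx⟩)
  -- hL3
  have hL3 : Subgroup.centralizer
      (((Subgroup.center ↥(P.map π)).map (P.map π).subtype : Subgroup (H ⧸ N)) : Set (H ⧸ N)) ≤
      Subgroup.normalizer ((P.map π : Subgroup (H ⧸ N)) : Set (H ⧸ N)) := by
    have key : ∀ g ∈ Subgroup.centralizer
        (((Subgroup.center ↥(P.map π)).map (P.map π).subtype : Subgroup (H ⧸ N)) : Set (H ⧸ N)),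
        ∀ x ∈ P.map π, g * x * g⁻¹ ∈ P.map π := by
      intro g hg x hx
      obtain ⟨c, rfl⟩ := hsurj g
      obtain ⟨p, hp, rfl⟩ := hx
      rw [Subgroup.mem_centralizer_iff] at hg
      have h1 : π z * π c = π c * π z := hg (π z) ((hZ _).2 (Or.inr rfl))
      have h2 : π z = π (c * z * c⁻¹) := by
        rw [map_mul, map_mul, ← h1, map_inv]; group
      have h3 := (heq _ _).1 h2
      refine ⟨c * p * c⁻¹, hnorm c h3 p hp, ?_⟩
      rw [map_mul, map_mul, map_inv]
    intro g hg
    rw [Subgroup.mem_normalizer_iff]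
    intro x
    constructor
    · exact key g hg x
    · intro hx
      have := key g⁻¹ (inv_mem hg) _ hx
      simpa [mul_assoc] using this
  have hcS : Nat.card ↥(P.map π) = 2 ^ (2 * w + 1) := hcardS
  have haN : π a ≠ 1 := by
    intro h1
    rcases (hker a).1 h1 with h2 | h2
    · apply hz1
      calc z = h⁻¹ * (h * z * h⁻¹) * h := by group
        _ = 1 := by rw [ha, h2]; group
    · apply hzt
      calc z = h⁻¹ * (h * z * h⁻¹) * h := by group
        _ = h⁻¹ * (t * h) := by rw [ha, h2]; group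
        _ = t := by rw [← htc]; group
  have haZ : π a ≠ π z := by
    intro h1
    rcases (heq _ _).1 h1.symm with h2 | h2
    · exact haz h2
    · exact hazt h2
  have hconj : π h * π z * (π h)⁻¹ = π a := by
    rw [← map_inv, ← map_mul, ← map_mul, ha]
  refine (Cfsg.Agent.S5422.result (P.map π) hES hL2 hL3 w hw hcS (π h) ?_ ?_).2.2
  · intro hh
    rw [Subgroup.mem_normalizer_iff] at hh
    have h1 := (hh (π z)).1 ((hZ _).2 (Or.inr rfl))
    rw [hconj] at h1
    rcases (hZ _).1 h1 with h2 | h2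
    · exact haN h2
    · exact haZ h2
  · rintro _ ⟨y, hy, rfl⟩
    rcases (hZ y).1 hy with h1 | h1
    · rw [h1, map_one]; exact one_mem _
    · rw [h1]
      show π h * π z * (π h)⁻¹ ∈ P.map π
      rw [hconj]
      exact ⟨a, haP, rfl⟩

end Cfsg.Agent.Lib.Helper4.LES29
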