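import Mathlib
import Cfsg.Agent.S5421
import Cfsg.Agent.S5422
import Cfsg.Agent.H2.Layer

set_option autoImplicit false
open Cfsg

namespace Cfsg.Agent.Lib.Helper7.S5427Lib

section
variable {G : Type*} [Group G]

theorem mem_zpowers_of_orderOf_two {z x : G} (hz : orderOf z = 2) :
    x ∈ Subgroup.zpowers z ↔ x = 1 ∨ x = z := by
  have hz2 : z ^ 2 = 1 := by rw [← hz]; exact pow_orderOf_eq_one z
  constructor
  · intro hx
    rw [Subgroup.mem_zpowers_iff] at hx
    obtain ⟨k, rfl⟩ := hx
    rcases Int.even_or_odd' k with ⟨m, rfl | rfl⟩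
    · left
      rw [zpow_mul, zpow_ofNat, hz2, one_zpow]
    · right
      rw [zpow_add, zpow_mul, zpow_ofNat, hz2, one_zpow, one_mul, zpow_one]
  · rintro (rfl | rfl)
    · exact one_mem _
    · exact Subgroup.mem_zpowers _

end

section
variable {G : Type*} [Group G] [Finite G]

/-- `z ∈ Q` when `F*(C_G(z)) = Q`. -/
theorem z_mem_of_gfs (z : G) (Q : Subgroup G)
    (hF : (Cfsg.generalizedFittingSubgroup ↥(Subgroup.centralizer ({z} : Set G))).map
      (Subgroup.centralizer ({z} : Set G)).subtype = Q) : z ∈ Q := by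
  have hzH : z ∈ Subgroup.centralizer ({z} : Set G) := by
    rw [Subgroup.mem_centralizer_iff]; intro y hy; rw [Set.mem_singleton_iff.1 hy]
  have h1 : (⟨z, hzH⟩ : ↥(Subgroup.centralizer ({z} : Set G))) ∈
      Subgroup.centralizer (Cfsg.generalizedFittingSubgroup
        ↥(Subgroup.centralizer ({z} : Set G)) : Set ↥(Subgroup.centralizer ({z} : Set G))) := by
    rw [Subgroup.mem_centralizer_iff]
    intro y _
    apply Subtype.ext
    have := y.2
    rw [Subgroup.mem_centralizer_iff] at this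
    exact (this z rfl).symm
  have h2 := Cfsg.Agent.H2.centralizer_generalizedFittingSubgroup_le h1
  rw [← hF]
  exact ⟨⟨z, hzH⟩, h2, rfl⟩

/-- `C_G(Q) ≤ Q` when `F*(C_G(z)) = Q`. -/
theorem centralizer_le_of_gfs (z : G) (Q : Subgroup G)
    (hF : (Cfsg.generalizedFittingSubgroup ↥(Subgroup.centralizer ({z} : Set G))).map
      (Subgroup.centralizer ({z} : Set G)).subtype = Q) :
    Subgroup.centralizer (Q : Set G) ≤ Q := by
  intro g hg
  have hzQ := z_mem_of_gfs z Q hF
  have hgH : g ∈ Subgroup.centralizer ({z} : Set G) := by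
    rw [Subgroup.mem_centralizer_iff]; intro y hy; rw [Set.mem_singleton_iff.1 hy]
    rw [Subgroup.mem_centralizer_iff] at hg
    exact hg z hzQ
  have h1 : (⟨g, hgH⟩ : ↥(Subgroup.centralizer ({z} : Set G))) ∈
      Subgroup.centralizer (Cfsg.generalizedFittingSubgroup
        ↥(Subgroup.centralizer ({z} : Set G)) : Set ↥(Subgroup.centralizer ({z} : Set G))) := by
    rw [Subgroup.mem_centralizer_iff]
    intro y hy
    apply Subtype.ext
    rw [Subgroup.mem_centralizer_iff] at hg
    have hyQ : (y : G) ∈ Q := by rw [← hF]; exact ⟨y, hy, rfl⟩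
    exact hg y hyQ
  have h2 := Cfsg.Agent.H2.centralizer_generalizedFittingSubgroup_le h1
  rw [← hF]
  exact ⟨⟨g, hgH⟩, h2, rfl⟩

/-- `C_G(z) ≤ N_G(Q)` when `F*(C_G(z)) = Q`. -/
theorem centralizer_le_normalizer_of_gfs (z : G) (Q : Subgroup G)
    (hF : (Cfsg.generalizedFittingSubgroup ↥(Subgroup.centralizer ({z} : Set G))).map
      (Subgroup.centralizer ({z} : Set G)).subtype = Q) :
    Subgroup.centralizer ({z} : Set G) ≤ Subgroup.normalizer (Q : Set G) := by
  intro h hh
  have hQH : Q ≤ Subgroup.centralizer ({z} : Set G) := by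
    rw [← hF]; exact Subgroup.map_subtype_le _
  have key : ∀ c ∈ Subgroup.centralizer ({z} : Set G), ∀ x ∈ Q, c * x * c⁻¹ ∈ Q := by
    intro c hc x hx
    have hx' := hx
    rw [← hF] at hx' ⊢
    obtain ⟨y, hy, rfl⟩ := hx'
    have hn := Cfsg.Agent.H2.generalizedFittingSubgroup_normal
      (G := ↥(Subgroup.centralizer ({z} : Set G)))
    exact ⟨⟨c, hc⟩ * y * ⟨c, hc⟩⁻¹, hn.conj_mem y hy ⟨c, hc⟩, rfl⟩
  rw [Subgroup.mem_normalizer_iff]
  intro x
  constructor
  · exact key h hh x
  · intro hx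
    have := key h⁻¹ (inv_mem hh) _ hx
    simpa [mul_assoc] using this


/-- the three `large` axioms not involving odd-order subgroups, from `F*(C_G(z)) = Q`. -/
theorem large_axioms_of_gfs (z : G) (hz : orderOf z = 2) (Q : Subgroup G)
    (hF : (Cfsg.generalizedFittingSubgroup ↥(Subgroup.centralizer ({z} : Set G))).map
      (Subgroup.centralizer ({z} : Set G)).subtype = Q)
    (hQ : Cfsg.IsExtraspecial 2 ↥Q) :
    (Subgroup.center ↥Q).map Q.subtype = Subgroup.zpowers z ∧
    Subgroup.centralizer (Q : Set G) = (Subgroup.center ↥Q).map Q.subtype ∧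
    Subgroup.centralizer (((Subgroup.center ↥Q).map Q.subtype : Subgroup G) : Set G) ≤
      Subgroup.normalizer (Q : Set G) := by
  have hzQ := z_mem_of_gfs z Q hF
  have hQH : Q ≤ Subgroup.centralizer ({z} : Set G) := by
    rw [← hF]; exact Subgroup.map_subtype_le _
  have hzc : (⟨z, hzQ⟩ : ↥Q) ∈ Subgroup.center ↥Q := by
    rw [Subgroup.mem_center_iff]
    intro y
    apply Subtype.ext
    have := hQH y.2
    rw [Subgroup.mem_centralizer_iff] at this
    exact (this z rfl).symm
  have hZ : (Subgroup.center ↥Q).map Q.subtype = Subgroup.zpowers z := by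
    symm
    apply Subgroup.eq_of_le_of_card_ge
    · rw [Subgroup.zpowers_le]
      exact ⟨⟨z, hzQ⟩, hzc, rfl⟩
    · rw [Nat.card_zpowers, hz]
      rw [Subgroup.card_subtype, hQ.2]
  have hcent : Subgroup.centralizer (Q : Set G) = (Subgroup.center ↥Q).map Q.subtype := by
    apply le_antisymm
    · intro g hg
      have hgQ := centralizer_le_of_gfs z Q hF hg
      refine ⟨⟨g, hgQ⟩, ?_, rfl⟩
      rw [SetLike.mem_coe, Subgroup.mem_center_iff]
      intro y
      apply Subtype.ext
      rw [Subgroup.mem_centralizer_iff] at hg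
      exact hg y y.2
    · rintro _ ⟨y, hy, rfl⟩
      rw [Subgroup.mem_centralizer_iff]
      intro x hx
      rw [SetLike.mem_coe, Subgroup.mem_center_iff] at hy
      exact congrArg Subtype.val (hy ⟨x, hx⟩)
  refine ⟨hZ, hcent, ?_⟩
  rw [hZ]
  intro g hg
  apply centralizer_le_normalizer_of_gfs z Q hF
  rw [Subgroup.mem_centralizer_iff] at hg ⊢
  intro y hy
  rw [Set.mem_singleton_iff.1 hy]
  exact hg z (Subgroup.mem_zpowers z)


/-- every element of an abelian group generated by conjugates of an involution squares to 1 -/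
theorem sq_eq_one_of_mem_abelian_closure (z : G) (hz : orderOf z = 2) (K U : Subgroup G)
    (hU : U = Subgroup.closure {x : G | ∃ k ∈ K, x = k * z * k⁻¹})
    (hUab : IsMulCommutative ↥U) (u : G) (hu : u ∈ U) : u * u = 1 := by
  have hz2 : z * z = 1 := by
    have : z ^ 2 = 1 := by rw [← hz]; exact pow_orderOf_eq_one z
    rwa [pow_two] at this
  have hcomm : ∀ a ∈ U, ∀ b ∈ U, a * b = b * a := by
    intro a ha b hb
    have := hUab.is_comm.comm ⟨a, ha⟩ ⟨b, hb⟩
    exact congrArg Subtype.val this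
  subst hU
  induction hu using Subgroup.closure_induction with
  | mem x hx =>
    obtain ⟨k, _, rfl⟩ := hx
    calc k * z * k⁻¹ * (k * z * k⁻¹) = k * (z * z) * k⁻¹ := by group
      _ = 1 := by rw [hz2]; group
  | one => simp
  | mul x y hx hy ihx ihy =>
    calc x * y * (x * y) = x * (y * x) * y := by group
      _ = x * (x * y) * y := by rw [hcomm y hy x hx]
      _ = (x * x) * (y * y) := by group
      _ = 1 := by rw [ihx, ihy, one_mul]
  | inv x hx ihx =>
    calc x⁻¹ * x⁻¹ = (x * x)⁻¹ := by group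
      _ = 1 := by rw [ihx, inv_one]

/-- largeness of `Q` under the hypotheses of S5427 -/
theorem large_of_hyps (z : G) (hz : orderOf z = 2) (Q : Subgroup G)
    (hF : (Cfsg.generalizedFittingSubgroup ↥(Subgroup.centralizer ({z} : Set G))).map
      (Subgroup.centralizer ({z} : Set G)).subtype = Q)
    (hQ : Cfsg.IsExtraspecial 2 ↥Q) (w : ℕ) (hw : 2 ≤ w)
    (hcard : Nat.card ↥Q = 2 ^ (2 * w + 1)) (K U : Subgroup G)
    (hU : U = Subgroup.closure {x : G | ∃ k ∈ K, x = k * z * k⁻¹})
    (hUab : IsMulCommutative ↥U)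
    (h3 : (∃ k ∈ K, k * z * k⁻¹ ∈ Q ∧ k * z * k⁻¹ ≠ z) ∨ ∃ u ∈ U ⊓ Q, u ∉ Subgroup.zpowers z ∧
      (∃ hz' : z ∈ Subgroup.centralizer ({u} : Set G),
        (⟨z, hz'⟩ : ↥(Subgroup.centralizer ({u} : Set G))) ∈
          Cfsg.pCore 2 ↥(Subgroup.centralizer ({u} : Set G)))) :
    Cfsg.IsLargeExtraspecial Q := by
  obtain ⟨hZ, hL2, hL3⟩ := large_axioms_of_gfs z hz Q hF hQ
  have hz1 : z ≠ 1 := by
    intro h; rw [h, orderOf_one] at hz; omega
  rcases h3 with ⟨k, _, hkQ, hkz⟩ | ⟨u, hu, huz, hz', hzO⟩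
  · refine (Cfsg.Agent.S5422.result Q hQ hL2 hL3 w hw hcard k ?_ ?_).2.2
    · rw [hZ]
      intro hk
      rw [Subgroup.mem_normalizer_iff] at hk
      have h1 := (hk z).1 (Subgroup.mem_zpowers z)
      rcases (mem_zpowers_of_orderOf_two hz).1 h1 with h | h
      · apply hz1
        calc z = k⁻¹ * (k * z * k⁻¹) * k := by group
          _ = 1 := by rw [h]; group
      · exact hkz h
    · rw [hZ, MonoidHom.map_zpowers, Subgroup.zpowers_le]
      simpa [MulAut.conj_apply] using hkQ
  · have hu2 : orderOf u = 2 := by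
      have h1 := sq_eq_one_of_mem_abelian_closure z hz K U hU hUab u hu.1
      have hu1 : u ≠ 1 := by
        intro h; exact huz (h ▸ one_mem _)
      exact orderOf_eq_prime (by rw [pow_two]; exact h1) hu1
    refine Cfsg.Agent.S5421.result Q hQ hL2 hL3 u hu.2 (by rw [hZ]; exact huz) hu2 ?_
    rw [hZ, Subgroup.zpowers_le]
    exact ⟨⟨z, hz'⟩, hzO, rfl⟩

/-- `C_G(z) ≤ ⟨z^G⟩` under the generation hypothesis of S5427 -/
theorem centralizer_le_normalClosure_of_hyps (z : G) (K U : Subgroup G)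
    (hU : U = Subgroup.closure {x : G | ∃ k ∈ K, x = k * z * k⁻¹})
    (hgen : Subgroup.closure {x : G | ∃ c ∈ Subgroup.centralizer ({z} : Set G), ∃ u ∈ U,
      x = c * u * c⁻¹} = Subgroup.centralizer ({z} : Set G)) :
    Subgroup.centralizer ({z} : Set G) ≤ Subgroup.normalClosure ({z} : Set G) := by
  have hzM : z ∈ Subgroup.normalClosure ({z} : Set G) :=
    Subgroup.subset_normalClosure rfl
  have hn : (Subgroup.normalClosure ({z} : Set G)).Normal := Subgroup.normalClosure_normal
  have hUM : U ≤ Subgroup.normalClosure ({z} : Set G) := by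
    rw [hU, Subgroup.closure_le]
    rintro _ ⟨k, _, rfl⟩
    exact hn.conj_mem z hzM k
  rw [← hgen, Subgroup.closure_le]
  rintro _ ⟨c, _, u, hu, rfl⟩
  exact hn.conj_mem u (hUM hu) c

end

end Cfsg.Agent.Lib.Helper7.S5427Lib
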