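import Mathlib
import Cfsg.Prelude.Def_CaseTheorems
import Cfsg.Agent.Lib.Lead.LargeES
import Cfsg.Agent.Lib.Helper7.S5427Lib
import Cfsg.Agent.H2.SignTransfer

set_option autoImplicit false

namespace Cfsg.Agent.H1.LESA

open Cfsg.Agent.Lead.ES2 Cfsg.Agent.Lead.LargeES

/-- (P0) the elementwise description of `Q = F*(C_G(z))` extraspecial. -/
theorem les_of_fstar {G : Type*} [Group G] [Finite G] (z : G) (hz : orderOf z = 2) (Q : Subgroup G)
    (hQC : Q ≤ Subgroup.centralizer ({z} : Set G))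
    (hF : (Cfsg.generalizedFittingSubgroup ↥(Subgroup.centralizer ({z} : Set G))).map
      (Subgroup.centralizer ({z} : Set G)).subtype = Q)
    (hQ : Cfsg.IsExtraspecial 2 ↥Q) :
    ∃ z₀ : ↥Q, (z₀ : G) = z ∧ ES z₀ ∧ LES Q z := by
  have hzQ := Cfsg.Agent.Lib.Helper7.S5427Lib.z_mem_of_gfs z Q hF
  have hz1 : z ≠ 1 := by
    intro h; rw [h, orderOf_one] at hz; omega
  obtain ⟨z', hes', -⟩ := es_of_extraspecial hQ
  have hzc : ∀ x : ↥Q, x * ⟨z, hzQ⟩ = ⟨z, hzQ⟩ * x := by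
    intro x
    apply Subtype.ext
    have := hQC x.2
    rw [Subgroup.mem_centralizer_iff] at this
    exact (this z rfl).symm
  have hzz' : (⟨z, hzQ⟩ : ↥Q) = z' := by
    rcases hes'.cent ⟨z, hzQ⟩ hzc with h | h
    · exact absurd (congrArg Subtype.val h) hz1
    · exact h
  have hes : ES (⟨z, hzQ⟩ : ↥Q) := hzz' ▸ hes'
  refine ⟨⟨z, hzQ⟩, rfl, hes, ?_⟩
  have := LES.of_ES (Q := Q) (z₀ := ⟨z, hzQ⟩) hes ?_ ?_
  · exact this
  · intro c hc
    apply Cfsg.Agent.Lib.Helper7.S5427Lib.centralizer_le_of_gfs z Q hF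
    rw [Subgroup.mem_centralizer_iff]
    exact hc
  · intro c hc a ha
    have hcH : c ∈ Subgroup.centralizer ({z} : Set G) := by
      rw [Subgroup.mem_centralizer_iff]
      intro y hy
      rw [Set.mem_singleton_iff.1 hy]
      exact hc.symm
    have hn := Cfsg.Agent.Lib.Helper7.S5427Lib.centralizer_le_normalizer_of_gfs z Q hF hcH
    rw [Subgroup.mem_normalizer_iff] at hn
    exact (hn a).1 ha

/-- (P3) a group `D` of order `2·odd` containing the involution `z`, with `O(D) ≤ A`. -/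
theorem cent_mem {G : Type*} [Group G] [Finite G] (z : G) (hz : orderOf z = 2) (A D : Subgroup G)
    (hzD : z ∈ D) (hO : (Cfsg.oddCore ↥D).map D.subtype ≤ A) (h4 : ¬ 4 ∣ Nat.card ↥D) :
    ∀ d ∈ D, ∃ a ∈ A, d = a ∨ d = a * z := by
  have hz2 : z * z = 1 := by
    have : z ^ 2 = 1 := by rw [← hz]; exact pow_orderOf_eq_one z
    rwa [pow_two] at this
  have hz1 : z ≠ 1 := by
    intro h; rw [h, orderOf_one] at hz; omega
  -- |D| = 2 m, m odd
  have h2D : 2 ∣ Nat.card ↥D := by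
    have h1 : orderOf (⟨z, hzD⟩ : ↥D) = 2 := by
      rw [← hz]; exact Subgroup.orderOf_mk z hzD
    rw [← h1]; exact orderOf_dvd_natCard _
  obtain ⟨m, hm⟩ := h2D
  have hmodd : Odd m := by
    rcases Nat.even_or_odd m with ⟨k, hk⟩ | h
    · exfalso; apply h4; exact ⟨k, by rw [hm, hk]; ring⟩
    · exact h
  obtain ⟨N, hNn, hNi, hxN⟩ := Cfsg.Agent.H2.SignTransfer.exists_index_two (G := ↥D) ⊥ (⟨z, hzD⟩ : ↥D) 1 m
    (le_refl 1)
    (by apply Subtype.ext; simp [pow_two, hz2])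
    (by
      intro g hg
      rw [Subgroup.mem_bot] at hg
      simp only [Nat.sub_self, pow_zero, pow_one] at hg
      have : (⟨z, hzD⟩ : ↥D) = 1 := by
        calc (⟨z, hzD⟩ : ↥D) = g⁻¹ * (g * ⟨z, hzD⟩ * g⁻¹) * g := by group
          _ = 1 := by rw [hg]; group
      exact hz1 (congrArg Subtype.val this))
    (by rw [Subgroup.index_bot, hm]; ring)
    hmodd
  have hNcard : Nat.card ↥N = m := by
    have := Subgroup.card_mul_index N
    rw [hNi, hm] at this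
    omega
  have hNle : N ≤ Cfsg.oddCore ↥D := by
    apply le_sSup
    refine ⟨hNn, ?_⟩
    rw [hNcard]
    exact Nat.Coprime.symm (Nat.coprime_two_left.2 hmodd)
  have hNA : ∀ x : ↥D, x ∈ N → (x : G) ∈ A := by
    intro x hx
    exact hO ⟨x, hNle hx, rfl⟩
  intro d hd
  by_cases hdN : (⟨d, hd⟩ : ↥D) ∈ N
  · exact ⟨d, hNA _ hdN, Or.inl rfl⟩
  · have h1 : (⟨d, hd⟩ : ↥D) * ⟨z, hzD⟩ ∈ N := by
      rw [Subgroup.mul_mem_iff_of_index_two hNi]
      exact ⟨fun h => absurd h hdN, fun h => absurd h hxN⟩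
    refine ⟨d * z, hNA _ h1, Or.inr ?_⟩
    rw [mul_assoc, hz2, mul_one]

end Cfsg.Agent.H1.LESA
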