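import Mathlib
import Cfsg.Agent.H2.LESDefs
import Cfsg.Agent.S0542
import Cfsg.Agent.Lib.Helper7.Core
import Cfsg.Agent.H2.LESBasic
import Cfsg.Agent.Lib.Helper4.LESTwo

/-!
# S5426 (R4f-3): `C_K(z₁)` is a Sylow 2-subgroup of `K` with Frattini subgroup inside `⟨z₁⟩`
-/

set_option autoImplicit false
set_option linter.unusedSectionVars false
set_option linter.unusedVariables false
set_option linter.style.haveILetI false

namespace Cfsg.Agent.H2.LES

universe u
variable {G : Type u} [Group G] [Finite G] {Q : Subgroup G} {z : G} {K : Subgroup G} {u z₁ : G}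

/-- (R4f-3) -/
theorem Two.sylow_frattini (t : Two Q z K u z₁) (c : Ctx Q z) (hKs : K.IsSubnormal) :
    ∃ R : Sylow 2 ↥K, (R : Subgroup ↥K) = (Subgroup.centralizer ({z₁} : Set G)).subgroupOf K ∧
      (frattini ↥(R : Subgroup ↥K)).map ((K.subtype).comp (R : Subgroup ↥K).subtype) ≤
        Subgroup.zpowers z₁ := by
  haveI : Fact (Nat.Prime 2) := ⟨Nat.prime_two⟩
  have hmemD : ∀ d : K, d ∈ (Subgroup.centralizer ({z₁} : Set G)).subgroupOf K ↔
      (d : G) * z₁ = z₁ * d := by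
    intro d
    rw [Subgroup.mem_subgroupOf, Subgroup.mem_centralizer_singleton_iff]
  have hz₁sq := t.z₁_sq c
  -- `D` is a 2-group
  have hD2 : IsPGroup 2 ↥((Subgroup.centralizer ({z₁} : Set G)).subgroupOf K) := by
    intro d
    refine ⟨2, ?_⟩
    have hd := (hmemD d.1).mp d.2
    have h4 : ((d : K) : G) ^ 4 = 1 := by
      have e : ((d : K) : G) ^ 4 = (((d : K) : G) * ((d : K) : G)) * (((d : K) : G) * ((d : K) : G)) := by
        rw [show (4 : ℕ) = 2 + 2 from rfl, pow_add, pow_two]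
      rw [e]
      rcases t.sq c _ (d : K).2 hd with h | h
      · rw [h, one_mul]
      · rw [h, hz₁sq]
    apply Subtype.ext
    apply Subtype.ext
    show ((d : K) : G) ^ 2 ^ 2 = 1
    exact h4
  obtain ⟨T, hQT⟩ := c.pgrp.exists_le_sylow
  obtain ⟨R₀, hR₀⟩ := Cfsg.Agent.S0542.result 2 K hKs T
  have hR₀D : (R₀ : Subgroup K) ≤ (Subgroup.centralizer ({z₁} : Set G)).subgroupOf K := by
    intro x hx
    rw [hR₀, Subgroup.mem_subgroupOf] at hx
    rw [hmemD]
    exact t.comm_z₁ x x.2 (c.z_comm_of_le T T.isPGroup' hQT x hx).symm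
  obtain ⟨R, hDR⟩ := hD2.exists_le_sylow
  have hcard : Nat.card (R : Subgroup K) ≤ Nat.card (R₀ : Subgroup K) := by
    rw [Sylow.card_eq_multiplicity, Sylow.card_eq_multiplicity]
  have hR₀R : (R₀ : Subgroup K) = R := Subgroup.eq_of_le_of_card_ge (hR₀D.trans hDR) hcard
  have hRD : (R : Subgroup K) = (Subgroup.centralizer ({z₁} : Set G)).subgroupOf K :=
    le_antisymm (by rw [← hR₀R]; exact hR₀D) hDR
  refine ⟨R, hRD, ?_⟩
  rw [Subgroup.map_le_iff_le_comap]
  have hcomm : ∀ r : ↥(R : Subgroup K), ((r : K) : G) * z₁ = z₁ * ((r : K) : G) := by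
    intro r
    have : (r : K) ∈ (Subgroup.centralizer ({z₁} : Set G)).subgroupOf K := by rw [← hRD]; exact r.2
    exact (hmemD _).mp this
  have hmem : ∀ g : G, (g = 1 ∨ g = z₁) → g ∈ Subgroup.zpowers z₁ := by
    rintro g (rfl | rfl)
    · exact Subgroup.one_mem _
    · exact Subgroup.mem_zpowers _
  refine Cfsg.Agent.Lib.Helper7.frattini_le_of_elemAb_quotient 2 _ (fun x y => ?_) (fun x => ?_)
  · rw [Subgroup.mem_comap]
    exact hmem _ (t.commutator c _ _ (x : K).2 (y : K).2 (hcomm x) (hcomm y))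
  · rw [Subgroup.mem_comap]
    have e : ((K.subtype).comp (R : Subgroup ↥K).subtype) (x ^ 2) = ((x : K) : G) * ((x : K) : G) := by
      rw [pow_two]; rfl
    rw [e]
    exact hmem _ (t.sq c _ (x : K).2 (hcomm x))

end Cfsg.Agent.H2.LES
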