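import Mathlib
import Cfsg.Prelude.Def_LocalStructure
import Cfsg.Prelude.Def_Transfer
import Cfsg.Agent.Lib.Helper7.CoprimeGen5

set_option autoImplicit false
open Cfsg

namespace Cfsg.Agent.Lib.Helper7

open Cfsg.Agent.Lib.Lead.Conj
open scoped commutatorElement

variable {G : Type*} [Group G] [Finite G] {p : ℕ} [Fact p.Prime]

/-- a large `p`-subgroup kills the centralizer in an invariant `p'`-group of a conjugate of an
element of `Z(Q)` -/
theorem large_centralizer_inf_eq_bot (Q : Subgroup G) (hQp : IsPGroup p ↥Q) (hlarge : Cfsg.IsLarge Q)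
    (G₁ : Subgroup G) (hQG : Q ≤ G₁) (R : Subgroup G) (hR : (Nat.card ↥R).Coprime p)
    (hGR : G₁ ≤ Subgroup.normalizer (R : Set G)) (U : Subgroup G)
    (h : ∃ x ∈ U, x ≠ 1 ∧ ∃ g ∈ G₁, g * x * g⁻¹ ∈ Q ⊓ Subgroup.centralizer (Q : Set G)) :
    R ⊓ Subgroup.centralizer (U : Set G) = ⊥ := by
  obtain ⟨x, hxU, hx1, g, hg, hz⟩ := h
  obtain ⟨hzQ, hzC⟩ := Subgroup.mem_inf.mp hz
  have hQR : Q ⊓ R = ⊥ := by
    have hcop : (Nat.card Q).Coprime (Nat.card R) := by
      obtain ⟨n, hn⟩ := IsPGroup.iff_card.mp hQp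
      rw [hn]
      exact (Nat.Coprime.pow_right n hR).symm
    exact (Subgroup.disjoint_of_coprime_natCard hcop).eq_bot
  have hz1 : g * x * g⁻¹ ≠ 1 := by
    intro h1
    apply hx1
    have : x = g⁻¹ * (g * x * g⁻¹) * g := by group
    rw [this, h1]; group
  -- D = C_R(z) = 1
  have hD : R ⊓ Subgroup.centralizer ({g * x * g⁻¹} : Set G) = ⊥ := by
    have hDN : R ⊓ Subgroup.centralizer ({g * x * g⁻¹} : Set G)
        ≤ Subgroup.normalizer (Q : Set G) := by
      have hzp : Subgroup.zpowers (g * x * g⁻¹) ≤ Subgroup.centralizer (Q : Set G) :=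
        Subgroup.zpowers_le.mpr hzC
      have hzne : Subgroup.zpowers (g * x * g⁻¹) ≠ ⊥ := by
        rw [Ne, Subgroup.zpowers_eq_bot]; exact hz1
      refine le_trans ?_ (hlarge.2 _ hzp hzne)
      intro d hd
      have hdz : d * (g * x * g⁻¹) = (g * x * g⁻¹) * d :=
        Subgroup.mem_centralizer_singleton_iff.mp (Subgroup.mem_inf.mp hd).2
      apply Subgroup.centralizer_le_normalizer
      rw [Subgroup.mem_centralizer_iff]
      intro y hy
      obtain ⟨n, rfl⟩ := Subgroup.mem_zpowers_iff.mp hy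
      exact ((Commute.zpow_right (show Commute d (g * x * g⁻¹) from hdz) n).eq).symm
    have hQD : Q ≤ Subgroup.normalizer
        ((R ⊓ Subgroup.centralizer ({g * x * g⁻¹} : Set G) : Subgroup G) : Set G) := by
      intro q hq
      apply mem_normalizer_of_conj_mem
      intro d hd
      obtain ⟨hdR, hdz⟩ := Subgroup.mem_inf.mp hd
      refine Subgroup.mem_inf.mpr ⟨(Subgroup.mem_normalizer_iff.mp (hGR (hQG hq)) d).mp hdR, ?_⟩
      rw [Subgroup.mem_centralizer_singleton_iff] at hdz ⊢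
      have hqz : (g * x * g⁻¹) * q = q * (g * x * g⁻¹) :=
        (Subgroup.mem_centralizer_iff.mp hzC q hq).symm
      have hqz' : q⁻¹ * (g * x * g⁻¹) = (g * x * g⁻¹) * q⁻¹ := by
        rw [inv_mul_eq_iff_eq_mul, ← mul_assoc, ← hqz, mul_inv_cancel_right]
      calc q * d * q⁻¹ * (g * x * g⁻¹) = q * d * (q⁻¹ * (g * x * g⁻¹)) := by group
        _ = q * d * ((g * x * g⁻¹) * q⁻¹) := by rw [hqz']
        _ = q * (d * (g * x * g⁻¹)) * q⁻¹ := by group
        _ = q * ((g * x * g⁻¹) * d) * q⁻¹ := by rw [hdz]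
        _ = (q * (g * x * g⁻¹)) * d * q⁻¹ := by group
        _ = ((g * x * g⁻¹) * q) * d * q⁻¹ := by rw [hqz]
        _ = (g * x * g⁻¹) * (q * d * q⁻¹) := by group
    have hcomm : ⁅Q, R ⊓ Subgroup.centralizer ({g * x * g⁻¹} : Set G)⁆ = ⊥ := by
      rw [eq_bot_iff, ← hQR]
      apply le_inf
      · exact Subgroup.le_normalizer_iff_commutator_le_left.mp hDN
      · rw [Subgroup.commutator_comm]
        exact (Subgroup.le_normalizer_iff_commutator_le_left.mp hQD).trans inf_le_left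
    rw [Subgroup.commutator_eq_bot_iff_le_centralizer, Subgroup.le_centralizer_iff] at hcomm
    rw [eq_bot_iff, ← hQR]
    exact le_inf (hcomm.trans hlarge.1) inf_le_left
  rw [eq_bot_iff]
  intro r hr
  obtain ⟨hrR, hrU⟩ := Subgroup.mem_inf.mp hr
  have hrx : x * r = r * x := Subgroup.mem_centralizer_iff.mp hrU x hxU
  have h1 : g * r * g⁻¹ ∈ R ⊓ Subgroup.centralizer ({g * x * g⁻¹} : Set G) := by
    refine Subgroup.mem_inf.mpr ⟨(Subgroup.mem_normalizer_iff.mp (hGR hg) r).mp hrR, ?_⟩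
    rw [Subgroup.mem_centralizer_singleton_iff]
    calc g * r * g⁻¹ * (g * x * g⁻¹) = g * (r * x) * g⁻¹ := by group
      _ = g * (x * r) * g⁻¹ := by rw [hrx]
      _ = g * x * g⁻¹ * (g * r * g⁻¹) := by group
  rw [hD, Subgroup.mem_bot] at h1
  rw [Subgroup.mem_bot]
  have : r = g⁻¹ * (g * r * g⁻¹) * g := by group
  rw [this, h1]; group

omit [Finite G] in
/-- in an elementary abelian `p`-group a proper cocyclic subgroup is maximal -/
theorem isCoatom_of_mem_cocyclic {U B : Subgroup G} (hU : Cfsg.IsElementaryAbelian p U)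
    (hB : B ∈ cocyclic U) (hne : B ≠ U) : IsCoatom (B.subgroupOf U) := by
  obtain ⟨hUcomm, hUp⟩ := hU
  have hUc : ∀ x ∈ U, ∀ y ∈ U, x * y = y * x := fun x hx y hy =>
    congrArg Subtype.val (hUcomm.is_comm.comm ⟨x, hx⟩ ⟨y, hy⟩)
  obtain ⟨hBU, a, ha, hBa⟩ := hB
  constructor
  · intro htop
    exact hne (le_antisymm hBU (Subgroup.subgroupOf_eq_top.mp htop))
  · intro H' hlt
    rw [eq_top_iff]
    obtain ⟨h, hhH, hhB⟩ := SetLike.exists_of_lt hlt
    have hhB' : (h : G) ∉ B := fun hh => hhB (Subgroup.mem_subgroupOf.mpr hh)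
    -- h = b' * z
    have hzB : Subgroup.zpowers a ≤ Subgroup.normalizer (B : Set G) := by
      refine le_trans ?_ (Subgroup.centralizer_le_normalizer _)
      rw [Subgroup.zpowers_le, Subgroup.mem_centralizer_iff]
      intro b hb
      exact hUc b (hBU hb) a ha
    have hhU : (h : G) ∈ B ⊔ Subgroup.zpowers a := by rw [hBa]; exact h.2
    obtain ⟨b', hb', z, hz, hbz⟩ := (Cfsg.Agent.H1.mem_sup_of_le_normalizer B _ hzB).mp hhU
    have hzU : z ∈ U := (Subgroup.zpowers_le.mpr ha) hz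
    have hzB' : z ∉ B := by
      intro hzB'
      apply hhB'
      rw [hbz]; exact mul_mem hb' hzB'
    have hz1 : z ≠ 1 := fun h1 => hzB' (h1 ▸ one_mem B)
    have hzH : (⟨z, hzU⟩ : ↥U) ∈ H' := by
      have h1 : (⟨b', hBU hb'⟩ : ↥U) ∈ H' := hlt.le (Subgroup.mem_subgroupOf.mpr hb')
      have h2 : (⟨z, hzU⟩ : ↥U) = (⟨b', hBU hb'⟩ : ↥U)⁻¹ * h := by
        apply Subtype.ext
        push_cast
        rw [hbz]; group
      rw [h2]
      exact mul_mem (inv_mem h1) hhH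
    -- a ∈ zpowers z
    have ha1 : a ≠ 1 := by
      rintro rfl
      rw [Subgroup.zpowers_one_eq_bot, Subgroup.mem_bot] at hz
      exact hz1 hz
    have hoa : orderOf a = p := orderOf_eq_prime (hUp a ha) ha1
    have hcard : Nat.card (Subgroup.zpowers a) = p := by rw [Nat.card_zpowers, hoa]
    haveI : Fact (Nat.card (Subgroup.zpowers a)).Prime := ⟨hcard ▸ Fact.out⟩
    have hgen : Subgroup.zpowers (⟨z, hz⟩ : ↥(Subgroup.zpowers a)) = ⊤ :=
      zpowers_eq_top_of_prime_card (G := ↥(Subgroup.zpowers a)) hcard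
        (fun h1 => hz1 (congrArg Subtype.val h1))
    have haz : a ∈ Subgroup.zpowers z := by
      have h1 : (⟨a, Subgroup.mem_zpowers a⟩ : ↥(Subgroup.zpowers a)) ∈
          Subgroup.zpowers (⟨z, hz⟩ : ↥(Subgroup.zpowers a)) := by rw [hgen]; trivial
      obtain ⟨n, hn⟩ := Subgroup.mem_zpowers_iff.mp h1
      exact Subgroup.mem_zpowers_iff.mpr ⟨n, by simpa using congrArg Subtype.val hn⟩
    intro u _
    have huU : (u : G) ∈ B ⊔ Subgroup.zpowers a := by rw [hBa]; exact u.2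
    obtain ⟨b'', hb'', y, hy, hby⟩ := (Cfsg.Agent.H1.mem_sup_of_le_normalizer B _ hzB).mp huU
    have hyz : y ∈ Subgroup.zpowers z := (Subgroup.zpowers_le.mpr haz) hy
    obtain ⟨n, hn⟩ := Subgroup.mem_zpowers_iff.mp hyz
    have hu : u = (⟨b'', hBU hb''⟩ : ↥U) * (⟨z, hzU⟩ : ↥U) ^ n := by
      apply Subtype.ext
      push_cast
      rw [hby, hn]
    rw [hu]
    exact mul_mem (hlt.le (Subgroup.mem_subgroupOf.mpr hb'')) (zpow_mem hzH n)

theorem large_kills_invariant_p'_subgroups (Q : Subgroup G) (hQp : IsPGroup p ↥Q)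
    (hlarge : Cfsg.IsLarge Q) (G₁ : Subgroup G) (hQG : Q ≤ G₁) (R : Subgroup G)
    (hR : (Nat.card ↥R).Coprime p) (hGR : G₁ ≤ Subgroup.normalizer (R : Set G)) (U : Subgroup G)
    (hUG : U ≤ G₁) (hUp : IsPGroup p ↥U) :
    ((∃ x ∈ U, x ≠ 1 ∧ ∃ g ∈ G₁, g * x * g⁻¹ ∈ Q ⊓ Subgroup.centralizer (Q : Set G)) →
        R ⊓ Subgroup.centralizer (U : Set G) = ⊥) ∧
    (Cfsg.IsElementaryAbelian p U → p ^ 2 ≤ Nat.card ↥U →
      (∀ U₀ : Subgroup G, U₀ ≤ U → IsCoatom (U₀.subgroupOf U) →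
        ∃ x ∈ U₀, x ≠ 1 ∧ ∃ g ∈ G₁, g * x * g⁻¹ ∈ Q ⊓ Subgroup.centralizer (Q : Set G)) →
      R = ⊥) := by
  refine ⟨large_centralizer_inf_eq_bot Q hQp hlarge G₁ hQG R hR hGR U, ?_⟩
  intro hU hcard hmax
  have hp : p.Prime := Fact.out
  have hUc : ∀ x ∈ U, ∀ y ∈ U, x * y = y * x := fun x hx y hy =>
    congrArg Subtype.val (hU.1.is_comm.comm ⟨x, hx⟩ ⟨y, hy⟩)
  have hcop : (Nat.card U).Coprime (Nat.card R) := by
    obtain ⟨n, hn⟩ := IsPGroup.iff_card.mp hUp
    rw [hn]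
    exact (Nat.Coprime.pow_right n hR).symm
  have hgenR := hgen_eq hUc _ R rfl (hUG.trans hGR) hcop
  rw [eq_bot_iff, ← hgenR]
  unfold hgen
  apply iSup₂_le
  intro B hB
  -- a maximal subgroup inside B
  have hex : ∃ U₀ : Subgroup G, U₀ ≤ B ∧ U₀ ≤ U ∧ IsCoatom (U₀.subgroupOf U) := by
    by_cases hBU : B = U
    · haveI : Nontrivial ↥U := by
        rw [← Finite.one_lt_card_iff_nontrivial]
        have : 1 < p ^ 2 := Nat.one_lt_pow (by norm_num) hp.one_lt
        omega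
      rcases eq_top_or_exists_le_coatom (⊥ : Subgroup ↥U) with h | ⟨M, hM, -⟩
      · exact absurd h bot_ne_top
      · refine ⟨M.map U.subtype, ?_, Subgroup.map_subtype_le _, ?_⟩
        · rw [hBU]; exact Subgroup.map_subtype_le _
        · rw [Subgroup.subgroupOf, Subgroup.comap_map_eq_self_of_injective U.subtype_injective]
          exact hM
    · exact ⟨B, le_rfl, hB.1, isCoatom_of_mem_cocyclic hU hB hBU⟩
  obtain ⟨U₀, hU₀B, hU₀U, hco⟩ := hex
  have h1 := large_centralizer_inf_eq_bot Q hQp hlarge G₁ hQG R hR hGR U₀ (hmax U₀ hU₀U hco)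
  rw [← h1]
  exact inf_le_inf_left _ (Subgroup.centralizer_le (show (U₀ : Set G) ⊆ B from hU₀B))

end Cfsg.Agent.Lib.Helper7
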