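import Mathlib
import Cfsg.Prelude.Def_RootSubgroups

/-!
# Linear Baer–Suzuki (helper7), part A: commutator subspaces `[U, H]`, unipotent action on a subspace.
-/

set_option autoImplicit false

namespace Cfsg.Agent.Lib.Helper7.LinBS

open Cfsg

section grp
variable {G : Type*} [Group G]

lemma biSup_induction {ℰ : Set (Subgroup G)} {C : G → Prop} {x : G} (hx : x ∈ ⨆ A ∈ ℰ, A)
    (hmem : ∀ A ∈ ℰ, ∀ y ∈ A, C y) (h1 : C 1) (hmul : ∀ y z, C y → C z → C (y * z)) : C x := by
  rw [iSup_subtype'] at hx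
  exact Subgroup.iSup_induction (C := C) (fun A : ℰ => (A : Subgroup G)) hx
    (fun A y hy => hmem A.1 A.2 y hy) h1 hmul

lemma sup_induction' {H K : Subgroup G} {C : G → Prop} {x : G} (hx : x ∈ H ⊔ K)
    (hH : ∀ y ∈ H, C y) (hK : ∀ y ∈ K, C y) (h1 : C 1) (hmul : ∀ y z, C y → C z → C (y * z)) : C x := by
  rw [sup_eq_iSup] at hx
  refine Subgroup.iSup_induction (C := C) (fun b : Bool => bif b then H else K) hx ?_ h1 hmul
  intro b y hy
  cases b
  · exact hK y hy
  · exact hH y hy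

end grp

variable {k : Type*} [Field k] {M : Type*} [AddCommGroup M] [Module k M]

local notation "GLM" => LinearMap.GeneralLinearGroup k M

/-- `H` stabilizes the subspace `U`. -/
def Stab (H : Subgroup (LinearMap.GeneralLinearGroup k M)) (U : Submodule k M) : Prop :=
  ∀ h ∈ H, ∀ u ∈ U, (h : M →ₗ[k] M) u ∈ U

/-- `[U, H]`: the span of all `h u - u`. -/
def cm (H : Subgroup (LinearMap.GeneralLinearGroup k M)) (U : Submodule k M) : Submodule k M :=
  Submodule.span k {v | ∃ h ∈ H, ∃ u ∈ U, v = (h : M →ₗ[k] M) u - u}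

lemma sub_mem_cm {H : Subgroup (LinearMap.GeneralLinearGroup k M)} {U : Submodule k M}
    {h : LinearMap.GeneralLinearGroup k M} (hh : h ∈ H) {u : M} (hu : u ∈ U) :
    (h : M →ₗ[k] M) u - u ∈ cm H U :=
  Submodule.subset_span ⟨h, hh, u, hu, rfl⟩

lemma cm_le_iff {H : Subgroup (LinearMap.GeneralLinearGroup k M)} {U W : Submodule k M} :
    cm H U ≤ W ↔ ∀ h ∈ H, ∀ u ∈ U, (h : M →ₗ[k] M) u - u ∈ W := by
  constructor
  · intro hle h hh u hu; exact hle (sub_mem_cm hh hu)
  · intro hall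
    rw [cm, Submodule.span_le]
    rintro _ ⟨h, hh, u, hu, rfl⟩
    exact hall h hh u hu

lemma cm_mono {H H' : Subgroup (LinearMap.GeneralLinearGroup k M)} {U U' : Submodule k M}
    (hH : H ≤ H') (hU : U ≤ U') : cm H U ≤ cm H' U' := by
  rw [cm_le_iff]
  intro h hh u hu
  exact sub_mem_cm (hH hh) (hU hu)

lemma cm_le_self {H : Subgroup (LinearMap.GeneralLinearGroup k M)} {U : Submodule k M}
    (hs : Stab H U) : cm H U ≤ U := by
  rw [cm_le_iff]
  intro h hh u hu
  exact U.sub_mem (hs h hh u hu) hu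

lemma Stab.mono {H H' : Subgroup (LinearMap.GeneralLinearGroup k M)} {U : Submodule k M}
    (hs : Stab H U) (hH : H' ≤ H) : Stab H' U := fun h hh u hu => hs h (hH hh) u hu

lemma cm_bot_right (H : Subgroup (LinearMap.GeneralLinearGroup k M)) : cm H (⊥ : Submodule k M) = ⊥ := by
  rw [eq_bot_iff, cm_le_iff]
  intro h _ u hu
  rw [Submodule.mem_bot] at hu
  subst hu
  simp

lemma cm_sup_right_le (H : Subgroup (LinearMap.GeneralLinearGroup k M)) (V V' : Submodule k M) :
    cm H (V ⊔ V') ≤ cm H V ⊔ cm H V' := by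
  rw [cm_le_iff]
  intro h hh u hu
  obtain ⟨v, hv, v', hv', rfl⟩ := Submodule.mem_sup.mp hu
  have : (h : M →ₗ[k] M) (v + v') - (v + v') = ((h : M →ₗ[k] M) v - v) + ((h : M →ₗ[k] M) v' - v') := by
    rw [map_add]; abel
  rw [this]
  exact Submodule.add_mem _ (Submodule.mem_sup_left (sub_mem_cm hh hv)) (Submodule.mem_sup_right (sub_mem_cm hh hv'))

/-- if `g` maps `U` into `U`, `g⁻¹` maps `U` to `U`, `g` normalizes `H` (maps into) and `g W ⊆ W`, then ... general
conjugation lemma: `[U, g A g⁻¹] ≤ W` if `[U, A] ≤ W'` and `g W' ⊆ W`, `g⁻¹ U ⊆ U`. -/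
lemma cm_conj_le {A : Subgroup (LinearMap.GeneralLinearGroup k M)} {U W W' : Submodule k M}
    (g : LinearMap.GeneralLinearGroup k M) (hgU : ∀ u ∈ U, ((g⁻¹ : LinearMap.GeneralLinearGroup k M) : M →ₗ[k] M) u ∈ U)
    (hA : cm A U ≤ W') (hgW : ∀ w ∈ W', (g : M →ₗ[k] M) w ∈ W) :
    cm (conjBy A g) U ≤ W := by
  rw [cm_le_iff]
  rintro _ ⟨a, ha, rfl⟩ u hu
  have h1 : ((a : M →ₗ[k] M) (((g⁻¹ : LinearMap.GeneralLinearGroup k M) : M →ₗ[k] M) u)
      - ((g⁻¹ : LinearMap.GeneralLinearGroup k M) : M →ₗ[k] M) u) ∈ W' :=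
    hA (sub_mem_cm ha (hgU u hu))
  have h2 := hgW _ h1
  have e : (((MulAut.conj g).toMonoidHom a : LinearMap.GeneralLinearGroup k M) : M →ₗ[k] M) u - u
      = (g : M →ₗ[k] M) ((a : M →ₗ[k] M) (((g⁻¹ : LinearMap.GeneralLinearGroup k M) : M →ₗ[k] M) u)
      - ((g⁻¹ : LinearMap.GeneralLinearGroup k M) : M →ₗ[k] M) u) := by
    have e1 : ((MulAut.conj g).toMonoidHom a : LinearMap.GeneralLinearGroup k M) = g * a * g⁻¹ := rfl
    rw [e1, map_sub]
    have e2 : (g : M →ₗ[k] M) (((g⁻¹ : LinearMap.GeneralLinearGroup k M) : M →ₗ[k] M) u) = u := by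
      have : ((g * g⁻¹ : LinearMap.GeneralLinearGroup k M) : M →ₗ[k] M) u = u := by simp
      rwa [Units.val_mul] at this
    rw [e2]
    simp [Units.val_mul]
  rw [e]
  exact h2


lemma stab_biSup {ℰ : Set (Subgroup (LinearMap.GeneralLinearGroup k M))} {U : Submodule k M}
    (hs : ∀ A ∈ ℰ, Stab A U) : Stab (⨆ A ∈ ℰ, A) U := by
  intro x hx
  refine biSup_induction (C := fun x : LinearMap.GeneralLinearGroup k M => ∀ u ∈ U, (x : M →ₗ[k] M) u ∈ U) hx ?_ ?_ ?_
  · intro A hA y hy; exact hs A hA y hy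
  · intro u hu; simpa using hu
  · intro y z hy hz u hu
    rw [Units.val_mul]
    exact hy _ (hz u hu)

lemma stab_sup {H K : Subgroup (LinearMap.GeneralLinearGroup k M)} {U : Submodule k M}
    (hH : Stab H U) (hK : Stab K U) : Stab (H ⊔ K) U := by
  intro x hx
  refine sup_induction' (C := fun x : LinearMap.GeneralLinearGroup k M => ∀ u ∈ U, (x : M →ₗ[k] M) u ∈ U) hx ?_ ?_ ?_ ?_
  · intro y hy; exact hH y hy
  · intro y hy; exact hK y hy
  · intro u hu; simpa using hu
  · intro y z hy hz u hu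
    rw [Units.val_mul]
    exact hy _ (hz u hu)

lemma mul_sub_aux (y z : LinearMap.GeneralLinearGroup k M) (u : M) :
    ((y * z : LinearMap.GeneralLinearGroup k M) : M →ₗ[k] M) u - u =
      ((y : M →ₗ[k] M) ((z : M →ₗ[k] M) u) - (z : M →ₗ[k] M) u) + ((z : M →ₗ[k] M) u - u) := by
  rw [Units.val_mul]
  simp

lemma cm_biSup_le {ℰ : Set (Subgroup (LinearMap.GeneralLinearGroup k M))} {U W : Submodule k M}
    (hs : ∀ A ∈ ℰ, Stab A U) (hW : ∀ A ∈ ℰ, cm A U ≤ W) : cm (⨆ A ∈ ℰ, A) U ≤ W := by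
  rw [cm_le_iff]
  intro x hx
  have key : ∀ u ∈ U, (x : M →ₗ[k] M) u ∈ U ∧ (x : M →ₗ[k] M) u - u ∈ W := by
    refine biSup_induction (C := fun x : LinearMap.GeneralLinearGroup k M =>
      ∀ u ∈ U, (x : M →ₗ[k] M) u ∈ U ∧ (x : M →ₗ[k] M) u - u ∈ W) hx ?_ ?_ ?_
    · intro A hA y hy u hu; exact ⟨hs A hA y hy u hu, hW A hA (sub_mem_cm hy hu)⟩
    · intro u hu; simpa using hu
    · intro y z hy hz u hu
      refine ⟨?_, ?_⟩
      · rw [Units.val_mul]; exact (hy _ (hz u hu).1).1
      · rw [mul_sub_aux]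
        exact W.add_mem (hy _ (hz u hu).1).2 (hz u hu).2
  exact fun u hu => (key u hu).2

lemma cm_sup_left_le {H K : Subgroup (LinearMap.GeneralLinearGroup k M)} {U : Submodule k M}
    (hH : Stab H U) (hK : Stab K U) : cm (H ⊔ K) U ≤ cm H U ⊔ cm K U := by
  rw [cm_le_iff]
  intro x hx
  have key : ∀ u ∈ U, (x : M →ₗ[k] M) u ∈ U ∧ (x : M →ₗ[k] M) u - u ∈ cm H U ⊔ cm K U := by
    refine sup_induction' (C := fun x : LinearMap.GeneralLinearGroup k M =>
      ∀ u ∈ U, (x : M →ₗ[k] M) u ∈ U ∧ (x : M →ₗ[k] M) u - u ∈ cm H U ⊔ cm K U) hx ?_ ?_ ?_ ?_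
    · intro y hy u hu; exact ⟨hH y hy u hu, Submodule.mem_sup_left (sub_mem_cm hy hu)⟩
    · intro y hy u hu; exact ⟨hK y hy u hu, Submodule.mem_sup_right (sub_mem_cm hy hu)⟩
    · intro u hu; simpa using hu
    · intro y z hy hz u hu
      refine ⟨?_, ?_⟩
      · rw [Units.val_mul]; exact (hy _ (hz u hu).1).1
      · rw [mul_sub_aux]
        exact Submodule.add_mem _ (hy _ (hz u hu).1).2 (hz u hu).2
  exact fun u hu => (key u hu).2

lemma cm_biSup_eq {ℰ : Set (Subgroup (LinearMap.GeneralLinearGroup k M))} {U : Submodule k M}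
    (hs : ∀ A ∈ ℰ, Stab A U) : cm (⨆ A ∈ ℰ, A) U = ⨆ A ∈ ℰ, cm A U := by
  apply le_antisymm
  · apply cm_biSup_le hs
    intro A hA
    exact le_biSup (fun A => cm A U) hA
  · apply iSup₂_le
    intro A hA
    exact cm_mono (le_biSup (fun A => A) hA) le_rfl

/-- conjugation identity: `y (d u - u) = (y d y⁻¹)(y u) - y u`. -/
lemma conj_sub_aux (y d : LinearMap.GeneralLinearGroup k M) (u : M) :
    (y : M →ₗ[k] M) ((d : M →ₗ[k] M) u - u) =
      ((y * d * y⁻¹ : LinearMap.GeneralLinearGroup k M) : M →ₗ[k] M) ((y : M →ₗ[k] M) u) - (y : M →ₗ[k] M) u := by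
  have e2 : ((y⁻¹ : LinearMap.GeneralLinearGroup k M) : M →ₗ[k] M) ((y : M →ₗ[k] M) u) = u := by
    have : ((y⁻¹ * y : LinearMap.GeneralLinearGroup k M) : M →ₗ[k] M) u = u := by simp
    rwa [Units.val_mul] at this
  rw [Units.val_mul, Units.val_mul]
  simp only [Module.End.mul_apply, map_sub]
  rw [e2]

lemma stab_cm_of_normalizes {Y D : Subgroup (LinearMap.GeneralLinearGroup k M)} {U : Submodule k M}
    (hY : Stab Y U) (hn : ∀ y ∈ Y, ∀ d ∈ D, y * d * y⁻¹ ∈ D) : Stab Y (cm D U) := by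
  intro y hy v hv
  rw [cm] at hv
  refine Submodule.span_induction (p := fun v _ => (y : M →ₗ[k] M) v ∈ cm D U) ?_ ?_ ?_ ?_ hv
  · rintro _ ⟨d, hd, u, hu, rfl⟩
    rw [conj_sub_aux]
    exact sub_mem_cm (hn y hy d hd) (hY y hy u hu)
  · simp
  · intro a b _ _ ha hb; rw [map_add]; exact Submodule.add_mem _ ha hb
  · intro c a _ ha; rw [map_smul]; exact Submodule.smul_mem _ c ha

lemma stab_cm {H : Subgroup (LinearMap.GeneralLinearGroup k M)} {U : Submodule k M}
    (hH : Stab H U) : Stab H (cm H U) :=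
  stab_cm_of_normalizes hH (fun y hy d hd => H.mul_mem (H.mul_mem hy hd) (H.inv_mem hy))


/-- iterated commutator subspaces `[U, H; n]`. -/
def cmN (H : Subgroup (LinearMap.GeneralLinearGroup k M)) : ℕ → Submodule k M → Submodule k M
  | 0, U => U
  | n + 1, U => cm H (cmN H n U)

@[simp] lemma cmN_zero (H : Subgroup (LinearMap.GeneralLinearGroup k M)) (U : Submodule k M) : cmN H 0 U = U := rfl
lemma cmN_succ (H : Subgroup (LinearMap.GeneralLinearGroup k M)) (n : ℕ) (U : Submodule k M) :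
    cmN H (n + 1) U = cm H (cmN H n U) := rfl

lemma cmN_succ' (H : Subgroup (LinearMap.GeneralLinearGroup k M)) (n : ℕ) (U : Submodule k M) :
    cmN H (n + 1) U = cmN H n (cm H U) := by
  induction n with
  | zero => rfl
  | succ n ih => rw [cmN_succ, ih, cmN_succ]

lemma cmN_mono {H H' : Subgroup (LinearMap.GeneralLinearGroup k M)} {U U' : Submodule k M}
    (hH : H ≤ H') (hU : U ≤ U') (n : ℕ) : cmN H n U ≤ cmN H' n U' := by
  induction n with
  | zero => exact hU
  | succ n ih => exact cm_mono hH ih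

lemma stab_cmN {H : Subgroup (LinearMap.GeneralLinearGroup k M)} {U : Submodule k M}
    (hH : Stab H U) (n : ℕ) : Stab H (cmN H n U) := by
  induction n with
  | zero => exact hH
  | succ n ih => exact stab_cm ih

lemma cmN_succ_le {H : Subgroup (LinearMap.GeneralLinearGroup k M)} {U : Submodule k M}
    (hH : Stab H U) (n : ℕ) : cmN H (n + 1) U ≤ cmN H n U :=
  cm_le_self (stab_cmN hH n)

lemma cmN_le {H : Subgroup (LinearMap.GeneralLinearGroup k M)} {U : Submodule k M}
    (hH : Stab H U) (n : ℕ) : cmN H n U ≤ U := by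
  induction n with
  | zero => exact le_rfl
  | succ n ih => exact (cmN_succ_le hH n).trans ih

lemma cmN_antitone {H : Subgroup (LinearMap.GeneralLinearGroup k M)} {U : Submodule k M}
    (hH : Stab H U) {m n : ℕ} (hmn : m ≤ n) : cmN H n U ≤ cmN H m U := by
  induction n, hmn using Nat.le_induction with
  | base => exact le_rfl
  | succ n _ ih => exact (cmN_succ_le hH n).trans ih

lemma cmN_bot (H : Subgroup (LinearMap.GeneralLinearGroup k M)) (n : ℕ) : cmN H n (⊥ : Submodule k M) = ⊥ := by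
  induction n with
  | zero => rfl
  | succ n ih => rw [cmN_succ, ih, cm_bot_right]

/-- `H` acts unipotently on `U`. -/
def UnipOn (H : Subgroup (LinearMap.GeneralLinearGroup k M)) (U : Submodule k M) : Prop :=
  ∃ n, cmN H n U = ⊥

lemma UnipOn.mono {H H' : Subgroup (LinearMap.GeneralLinearGroup k M)} {U U' : Submodule k M}
    (h : UnipOn H U) (hH : H' ≤ H) (hU : U' ≤ U) : UnipOn H' U' := by
  obtain ⟨n, hn⟩ := h
  exact ⟨n, eq_bot_iff.mpr (hn ▸ cmN_mono hH hU n)⟩

lemma unipOn_of_cm {H : Subgroup (LinearMap.GeneralLinearGroup k M)} {U : Submodule k M}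
    (h : UnipOn H (cm H U)) : UnipOn H U := by
  obtain ⟨n, hn⟩ := h
  exact ⟨n + 1, by rw [cmN_succ', hn]⟩

lemma unipOn_bot (H : Subgroup (LinearMap.GeneralLinearGroup k M)) : UnipOn H (⊥ : Submodule k M) := ⟨0, rfl⟩

lemma UnipOn.cm_lt {H : Subgroup (LinearMap.GeneralLinearGroup k M)} {U : Submodule k M}
    (h : UnipOn H U) (hs : Stab H U) (hU : U ≠ ⊥) : cm H U < U := by
  refine lt_of_le_of_ne (cm_le_self hs) ?_
  intro heq
  obtain ⟨n, hn⟩ := h
  have : ∀ m, cmN H m U = U := by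
    intro m
    induction m with
    | zero => rfl
    | succ m ih => rw [cmN_succ', heq, ih]
  exact hU ((this n).symm.trans hn)

/-- Lemma T: `D` and `Y` unipotent on `U ≠ 0`, `Y` normalizes `D`: then `[U,D] + [U,Y] < U`. -/
lemma cm_sup_cm_lt {D Y : Subgroup (LinearMap.GeneralLinearGroup k M)} {U : Submodule k M}
    (hD : Stab D U) (hY : Stab Y U) (hn : ∀ y ∈ Y, ∀ d ∈ D, y * d * y⁻¹ ∈ D)
    (hDu : UnipOn D U) (hYu : UnipOn Y U) (hU : U ≠ ⊥) : cm D U ⊔ cm Y U < U := by
  have h1 : cm D U < U := hDu.cm_lt hD hU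
  have hle : cm D U ⊔ cm Y U ≤ U := sup_le h1.le (cm_le_self hY)
  refine lt_of_le_of_ne hle ?_
  intro heq
  have hYs : Stab Y (cm D U) := stab_cm_of_normalizes hY hn
  have key : ∀ m, U ≤ cm D U ⊔ cmN Y m U := by
    intro m
    induction m with
    | zero => exact le_sup_right
    | succ m ih =>
      calc U = cm D U ⊔ cm Y U := heq.symm
        _ ≤ cm D U ⊔ cm Y (cm D U ⊔ cmN Y m U) := sup_le_sup_left (cm_mono le_rfl ih) _
        _ ≤ cm D U ⊔ (cm Y (cm D U) ⊔ cm Y (cmN Y m U)) := sup_le_sup_left (cm_sup_right_le _ _ _) _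
        _ ≤ cm D U ⊔ (cm D U ⊔ cmN Y (m + 1) U) :=
            sup_le_sup_left (sup_le_sup_right (cm_le_self hYs) _) _
        _ = cm D U ⊔ cmN Y (m + 1) U := by rw [← sup_assoc, sup_idem]
  obtain ⟨n, hn0⟩ := hYu
  have := key n
  rw [hn0, sup_bot_eq] at this
  exact absurd (le_antisymm this h1.le) (ne_of_gt h1)

end Cfsg.Agent.Lib.Helper7.LinBS

namespace Cfsg.Agent.Lib.Helper7.LinBS
open Cfsg
variable {k : Type*} [Field k] {M : Type*} [AddCommGroup M] [Module k M]

/-- the product `(g₁ - 1) ⋯ (gₙ - 1)` -/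
def prodL (l : List (LinearMap.GeneralLinearGroup k M)) : M →ₗ[k] M :=
  (l.map fun a : LinearMap.GeneralLinearGroup k M => (Units.val a : M →ₗ[k] M) - 1).prod

lemma prodL_nil : prodL ([] : List (LinearMap.GeneralLinearGroup k M)) = 1 := rfl
lemma prodL_cons (g : LinearMap.GeneralLinearGroup k M) (l : List (LinearMap.GeneralLinearGroup k M)) :
    prodL (g :: l) = ((g : M →ₗ[k] M) - 1) * prodL l := by
  rw [prodL, List.map_cons, List.prod_cons]; rfl
lemma prodL_append_singleton (g : LinearMap.GeneralLinearGroup k M) (l : List (LinearMap.GeneralLinearGroup k M)) :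
    prodL (l ++ [g]) = prodL l * ((g : M →ₗ[k] M) - 1) := by
  rw [prodL, List.map_append, List.prod_append, List.map_singleton, List.prod_singleton]; rfl

lemma isUnipotentOn_iff (H : Subgroup (LinearMap.GeneralLinearGroup k M)) :
    IsUnipotentOn H ↔ ∃ n : ℕ, ∀ l : List (LinearMap.GeneralLinearGroup k M), (∀ g ∈ l, g ∈ H) → l.length = n →
      prodL l = 0 := by
  have bridge : ∀ l : List (LinearMap.GeneralLinearGroup k M),
      (List.map (fun g : M →ₗ[k] M => g - 1) (do let a ← l; pure (a : M →ₗ[k] M))).prod = prodL l := by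
    intro l
    have : (do let a ← l; pure (a : M →ₗ[k] M) : List (M →ₗ[k] M)) =
        l.map (fun a : LinearMap.GeneralLinearGroup k M => (Units.val a : M →ₗ[k] M)) := by
      induction l with
      | nil => rfl
      | cons g l ih =>
        show (g : M →ₗ[k] M) :: (do let a ← l; pure (a : M →ₗ[k] M) : List (M →ₗ[k] M)) = _
        rw [ih]; rfl
    rw [this, List.map_map]; rfl
  unfold IsUnipotentOn
  simp only [bridge]

lemma prod_mem_cmN {H : Subgroup (LinearMap.GeneralLinearGroup k M)} (V : Submodule k M) :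
    ∀ l : List (LinearMap.GeneralLinearGroup k M), (∀ g ∈ l, g ∈ H) → ∀ v ∈ V,
      prodL l v ∈ cmN H l.length V := by
  intro l
  induction l with
  | nil => intro _ v hv; simpa [prodL_nil] using hv
  | cons g l ih =>
    intro hl v hv
    rw [prodL_cons, List.length_cons, cmN_succ, Module.End.mul_apply]
    have h1 := ih (fun g' hg' => hl g' (List.mem_cons_of_mem _ hg')) v hv
    have := sub_mem_cm (hl g List.mem_cons_self) h1
    simpa using this

lemma isUnipotentOn_of_unipOn_top {H : Subgroup (LinearMap.GeneralLinearGroup k M)}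
    (h : UnipOn H (⊤ : Submodule k M)) : IsUnipotentOn H := by
  rw [isUnipotentOn_iff]
  obtain ⟨n, hn⟩ := h
  refine ⟨n, fun l hl hlen => ?_⟩
  ext v
  have := prod_mem_cmN (H := H) ⊤ l hl v Submodule.mem_top
  rw [hlen, hn, Submodule.mem_bot] at this
  simpa using this

lemma unipOn_top_of_isUnipotentOn {H : Subgroup (LinearMap.GeneralLinearGroup k M)}
    (h : IsUnipotentOn H) : UnipOn H (⊤ : Submodule k M) := by
  rw [isUnipotentOn_iff] at h
  obtain ⟨n, hn⟩ := h
  have key : ∀ j, ∀ v ∈ cmN H j (⊤ : Submodule k M), ∀ l : List (LinearMap.GeneralLinearGroup k M),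
      (∀ g ∈ l, g ∈ H) → l.length + j = n → prodL l v = 0 := by
    intro j
    induction j with
    | zero =>
      intro v _ l hl hlen
      rw [hn l hl (by omega)]; rfl
    | succ j ih =>
      intro v hv l hl hlen
      rw [cmN_succ, cm] at hv
      refine Submodule.span_induction
        (p := fun v _ => prodL l v = 0) ?_ ?_ ?_ ?_ hv
      · rintro _ ⟨g, hg, w, hw, rfl⟩
        have := ih w hw (l ++ [g]) (by
          intro g' hg'
          rcases List.mem_append.mp hg' with h1 | h1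
          · exact hl g' h1
          · rw [List.mem_singleton] at h1; subst h1; exact hg) (by rw [List.length_append]; simp; omega)
        rw [prodL_append_singleton, Module.End.mul_apply] at this
        simpa using this
      · simp
      · intro a b _ _ ha hb; rw [map_add, ha, hb, add_zero]
      · intro c a _ ha; rw [map_smul, ha, smul_zero]
  refine ⟨n, ?_⟩
  rw [eq_bot_iff]
  intro v hv
  have := key n v hv [] (by simp) (by simp)
  simpa [prodL_nil] using this

end Cfsg.Agent.Lib.Helper7.LinBS
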