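import Cfsg.Agent.Lib.Helper7.LinBSA

/-!
# Linear Baer–Suzuki (helper7), part B: the filtration of a unipotent group and the normalizing member.
-/

set_option autoImplicit false

namespace Cfsg.Agent.Lib.Helper7.LinBS

open Cfsg

variable {k : Type*} [Field k] {M : Type*} [AddCommGroup M] [Module k M]

lemma inv_apply_apply (x : LinearMap.GeneralLinearGroup k M) (u : M) :
    ((x⁻¹ : LinearMap.GeneralLinearGroup k M) : M →ₗ[k] M) ((x : M →ₗ[k] M) u) = u := by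
  have : ((x⁻¹ * x : LinearMap.GeneralLinearGroup k M) : M →ₗ[k] M) u = u := by simp
  rwa [Units.val_mul] at this

lemma apply_inv_apply (x : LinearMap.GeneralLinearGroup k M) (u : M) :
    (x : M →ₗ[k] M) (((x⁻¹ : LinearMap.GeneralLinearGroup k M) : M →ₗ[k] M) u) = u := by
  have : ((x * x⁻¹ : LinearMap.GeneralLinearGroup k M) : M →ₗ[k] M) u = u := by simp
  rwa [Units.val_mul] at this

/-- `X_m`: the elements of `X` shifting the filtration `U_i = [U, X; i]` by `m`. -/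
def filt (X : Subgroup (LinearMap.GeneralLinearGroup k M)) (U : Submodule k M) (hX : Stab X U) (m : ℕ) :
    Subgroup (LinearMap.GeneralLinearGroup k M) where
  carrier := {x | x ∈ X ∧ ∀ i, ∀ u ∈ cmN X i U, (x : M →ₗ[k] M) u - u ∈ cmN X (i + m) U}
  one_mem' := ⟨X.one_mem, fun i u _ => by simp⟩
  mul_mem' := by
    rintro x y ⟨hx, hx'⟩ ⟨hy, hy'⟩
    refine ⟨X.mul_mem hx hy, fun i u hu => ?_⟩
    rw [mul_sub_aux]
    exact Submodule.add_mem _ (hx' i _ (stab_cmN hX i y hy u hu)) (hy' i u hu)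
  inv_mem' := by
    rintro x ⟨hx, hx'⟩
    refine ⟨X.inv_mem hx, fun i u hu => ?_⟩
    have h1 : (x : M →ₗ[k] M) u - u ∈ cmN X (i + m) U := hx' i u hu
    have h2 := stab_cmN hX (i + m) x⁻¹ (X.inv_mem hx) _ h1
    rw [map_sub, inv_apply_apply] at h2
    have := Submodule.neg_mem _ h2
    rwa [neg_sub] at this

lemma mem_filt {X : Subgroup (LinearMap.GeneralLinearGroup k M)} {U : Submodule k M} {hX : Stab X U} {m : ℕ}
    {x : LinearMap.GeneralLinearGroup k M} :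
    x ∈ filt X U hX m ↔ x ∈ X ∧ ∀ i, ∀ u ∈ cmN X i U, (x : M →ₗ[k] M) u - u ∈ cmN X (i + m) U := Iff.rfl

lemma filt_le (X : Subgroup (LinearMap.GeneralLinearGroup k M)) (U : Submodule k M) (hX : Stab X U) (m : ℕ) :
    filt X U hX m ≤ X := fun _ hx => hx.1

lemma filt_one (X : Subgroup (LinearMap.GeneralLinearGroup k M)) (U : Submodule k M) (hX : Stab X U) :
    filt X U hX 1 = X := by
  apply le_antisymm (filt_le X U hX 1)
  intro x hx
  exact ⟨hx, fun i u hu => sub_mem_cm hx hu⟩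

lemma cm_filt_eq_bot {X : Subgroup (LinearMap.GeneralLinearGroup k M)} {U : Submodule k M} (hX : Stab X U) {n : ℕ}
    (hn : cmN X n U = ⊥) : cm (filt X U hX n) U = ⊥ := by
  rw [eq_bot_iff, cm_le_iff]
  intro x hx u hu
  have := hx.2 0 u hu
  rwa [zero_add, hn] at this

lemma filt_conj_mem {X : Subgroup (LinearMap.GeneralLinearGroup k M)} {U : Submodule k M} (hX : Stab X U) {m : ℕ}
    {x y : LinearMap.GeneralLinearGroup k M} (hx : x ∈ X) (hy : y ∈ filt X U hX m) :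
    x * y * x⁻¹ ∈ filt X U hX m := by
  refine ⟨X.mul_mem (X.mul_mem hx hy.1) (X.inv_mem hx), fun i u hu => ?_⟩
  have h1 := stab_cmN hX i x⁻¹ (X.inv_mem hx) u hu
  have h2 := hy.2 i _ h1
  have h3 := stab_cmN hX (i + m) x hx _ h2
  rw [conj_sub_aux, apply_inv_apply] at h3
  exact h3

lemma filt_comm_mem {X : Subgroup (LinearMap.GeneralLinearGroup k M)} {U : Submodule k M} (hX : Stab X U) {m : ℕ}
    {y d : LinearMap.GeneralLinearGroup k M} (hy : y ∈ filt X U hX m) (hd : d ∈ X) :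
    y * d * y⁻¹ * d⁻¹ ∈ filt X U hX (m + 1) := by
  have hyX := hy.1
  refine ⟨X.mul_mem (X.mul_mem (X.mul_mem hyX hd) (X.inv_mem hyX)) (X.inv_mem hd), fun i u hu => ?_⟩
  -- w = y⁻¹ d⁻¹ u
  set w : M := ((y⁻¹ : LinearMap.GeneralLinearGroup k M) : M →ₗ[k] M)
    (((d⁻¹ : LinearMap.GeneralLinearGroup k M) : M →ₗ[k] M) u) with hw
  have hwU : w ∈ cmN X i U :=
    stab_cmN hX i y⁻¹ (X.inv_mem hyX) _ (stab_cmN hX i d⁻¹ (X.inv_mem hd) u hu)
  -- (y d y⁻¹ d⁻¹) u - u = y d w - d y w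
  have e : ((y * d * y⁻¹ * d⁻¹ : LinearMap.GeneralLinearGroup k M) : M →ₗ[k] M) u - u
      = (y : M →ₗ[k] M) ((d : M →ₗ[k] M) w) - (d : M →ₗ[k] M) ((y : M →ₗ[k] M) w) := by
    have e1 : ((y * d * y⁻¹ * d⁻¹ : LinearMap.GeneralLinearGroup k M) : M →ₗ[k] M) u
        = (y : M →ₗ[k] M) ((d : M →ₗ[k] M) w) := by
      simp only [Units.val_mul, Module.End.mul_apply, hw]
    have e2 : (d : M →ₗ[k] M) ((y : M →ₗ[k] M) w) = u := by
      rw [hw, apply_inv_apply, apply_inv_apply]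
    rw [e1, e2]
  rw [e]
  -- y d w - d y w = (y-1)(d-1) w - (d-1)(y-1) w
  have hdw : (d : M →ₗ[k] M) w - w ∈ cmN X (i + 1) U := sub_mem_cm hd hwU
  have hyw : (y : M →ₗ[k] M) w - w ∈ cmN X (i + m) U := hy.2 i w hwU
  have h1 : (y : M →ₗ[k] M) ((d : M →ₗ[k] M) w - w) - ((d : M →ₗ[k] M) w - w) ∈ cmN X (i + 1 + m) U :=
    hy.2 (i + 1) _ hdw
  have h2 : (d : M →ₗ[k] M) ((y : M →ₗ[k] M) w - w) - ((y : M →ₗ[k] M) w - w) ∈ cmN X (i + m + 1) U :=
    sub_mem_cm hd hyw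
  have e3 : (y : M →ₗ[k] M) ((d : M →ₗ[k] M) w) - (d : M →ₗ[k] M) ((y : M →ₗ[k] M) w)
      = ((y : M →ₗ[k] M) ((d : M →ₗ[k] M) w - w) - ((d : M →ₗ[k] M) w - w))
        - ((d : M →ₗ[k] M) ((y : M →ₗ[k] M) w - w) - ((y : M →ₗ[k] M) w - w)) := by
    simp only [map_sub]; abel
  rw [e3]
  have hidx : i + 1 + m = i + (m + 1) := by omega
  have hidx2 : i + m + 1 = i + (m + 1) := by omega
  rw [hidx] at h1
  rw [hidx2] at h2
  exact Submodule.sub_mem _ h1 h2


lemma normalizes_step {X D : Subgroup (LinearMap.GeneralLinearGroup k M)} {U : Submodule k M} (hX : Stab X U)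
    (hDX : D ≤ X) {m : ℕ} {a z : LinearMap.GeneralLinearGroup k M}
    (ha : a ∈ D ⊔ filt X U hX m) (hz : z ∈ D ⊔ filt X U hX (m + 1)) :
    a * z * a⁻¹ ∈ D ⊔ filt X U hX (m + 1) := by
  set S := D ⊔ filt X U hX (m + 1) with hS
  revert hz
  revert z
  show ∀ z ∈ S, a * z * a⁻¹ ∈ S
  refine sup_induction' (C := fun a : LinearMap.GeneralLinearGroup k M => ∀ z ∈ S, a * z * a⁻¹ ∈ S) ha ?_ ?_ ?_ ?_
  · intro y hy z hz
    have hyS : y ∈ S := (le_sup_left : D ≤ S) hy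
    exact S.mul_mem (S.mul_mem hyS hz) (S.inv_mem hyS)
  · intro y hy z hz
    refine sup_induction' (C := fun z : LinearMap.GeneralLinearGroup k M => y * z * y⁻¹ ∈ S) hz ?_ ?_ ?_ ?_
    · intro d hd
      have h1 : y * d * y⁻¹ * d⁻¹ ∈ filt X U hX (m + 1) := filt_comm_mem hX hy (hDX hd)
      have : y * d * y⁻¹ = (y * d * y⁻¹ * d⁻¹) * d := by group
      rw [this]
      exact S.mul_mem ((le_sup_right : filt X U hX (m + 1) ≤ S) h1) ((le_sup_left : D ≤ S) hd)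
    · intro w hw
      exact (le_sup_right : filt X U hX (m + 1) ≤ S) (filt_conj_mem hX hy.1 hw)
    · simp
    · intro w w' hw hw'
      have : y * (w * w') * y⁻¹ = (y * w * y⁻¹) * (y * w' * y⁻¹) := by group
      rw [this]
      exact S.mul_mem hw hw'
  · intro z hz; simpa using hz
  · intro y y' hy hy' z hz
    have : y * y' * z * (y * y')⁻¹ = y * (y' * z * y'⁻¹) * y⁻¹ := by group
    rw [this]
    exact hy _ (hy' z hz)

lemma conjBy_le_of_normalizes {S C : Subgroup (LinearMap.GeneralLinearGroup k M)} {a : LinearMap.GeneralLinearGroup k M}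
    (hC : C ≤ S) (h : ∀ z ∈ S, a * z * a⁻¹ ∈ S) : conjBy C a ≤ S := by
  rintro _ ⟨c, hc, rfl⟩
  exact h c (hC hc)

/-- The crux: in a unipotent group generated by an invariant family `𝒳`, if some member has `[U,A] ≰ E`, then some
such member permutes the members with `[U,C] ≤ E`. -/
theorem crux {𝒳 : Set (Subgroup (LinearMap.GeneralLinearGroup k M))} {U E : Submodule k M}
    (hst : ∀ A ∈ 𝒳, Stab A U)
    (hinv : ∀ A ∈ 𝒳, ∀ x ∈ (⨆ B ∈ 𝒳, B), conjBy A x ∈ 𝒳)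
    (hunip : UnipOn (⨆ B ∈ 𝒳, B) U)
    (hex : ∃ A ∈ 𝒳, ¬ cm A U ≤ E) :
    ∃ A ∈ 𝒳, ¬ cm A U ≤ E ∧ ∀ a ∈ A, ∀ C ∈ 𝒳, cm C U ≤ E → cm (conjBy C a) U ≤ E := by
  by_contra hcon
  push Not at hcon
  set X := ⨆ B ∈ 𝒳, B with hXdef
  have hX : Stab X U := stab_biSup hst
  set 𝒟 : Set (Subgroup (LinearMap.GeneralLinearGroup k M)) := {C | C ∈ 𝒳 ∧ cm C U ≤ E} with h𝒟
  set D := ⨆ C ∈ 𝒟, C with hDdef
  have hDX : D ≤ X := by
    apply iSup₂_le
    intro C hC
    exact le_biSup (fun B => B) hC.1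
  have hDE : cm D U ≤ E := cm_biSup_le (fun C hC => hst C hC.1) (fun C hC => hC.2)
  obtain ⟨n, hn⟩ := hunip
  obtain ⟨A₀, hA₀, hA₀E⟩ := hex
  have hle : ∀ A ∈ 𝒳, A ≤ X := fun A hA => le_biSup (fun B => B) hA
  -- P(m)
  have hP : ∀ j, j + 1 ≤ n → ∀ A ∈ 𝒳, A ≤ D ⊔ filt X U hX (n - j) → cm A U ≤ E := by
    intro j
    induction j with
    | zero =>
      intro _ A hA hAle
      calc cm A U ≤ cm (D ⊔ filt X U hX n) U := cm_mono hAle le_rfl
        _ ≤ cm D U ⊔ cm (filt X U hX n) U := cm_sup_left_le (hX.mono hDX) (hX.mono (filt_le X U hX n))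
        _ = cm D U := by rw [cm_filt_eq_bot hX hn, sup_bot_eq]
        _ ≤ E := hDE
    | succ j ih =>
      intro hj A hA hAle
      by_contra hAE
      obtain ⟨a, ha, C, hC, hCE, hCa⟩ := hcon A hA hAE
      apply hCa
      have hm : n - j = (n - (j + 1)) + 1 := by omega
      apply ih (by omega) _ (hinv C hC a (hle A hA ha))
      rw [hm]
      apply conjBy_le_of_normalizes
      · exact le_trans (le_biSup (fun B => B) (show C ∈ 𝒟 from ⟨hC, hCE⟩)) le_sup_left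
      · intro z hz
        exact normalizes_step hX hDX (hAle ha) hz
  rcases Nat.eq_zero_or_pos n with h0 | hpos
  · subst h0
    apply hA₀E
    rw [cmN_zero] at hn
    rw [hn, cm_bot_right]
    exact bot_le
  · apply hA₀E
    apply hP (n - 1) (by omega) A₀ hA₀
    have : n - (n - 1) = 1 := by omega
    rw [this, filt_one]
    exact le_trans (hle A₀ hA₀) le_sup_right

end Cfsg.Agent.Lib.Helper7.LinBS
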