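import Cfsg.Agent.Lib.Helper7.LinBSB

/-!
# Linear Baer–Suzuki (helper7), part C: the main induction.
-/

set_option autoImplicit false

namespace Cfsg.Agent.Lib.Helper7.LinBS

open Cfsg

variable {k : Type*} [Field k] {M : Type*} [AddCommGroup M] [Module k M]

/-- members of `𝒲` with `[U,A] ≤ F` -/
def fam (𝒲 : Set (Subgroup (LinearMap.GeneralLinearGroup k M))) (U F : Submodule k M) :
    Set (Subgroup (LinearMap.GeneralLinearGroup k M)) := {A | A ∈ 𝒲 ∧ cm A U ≤ F}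

/-- `K(ℰ) = Σ_{A ∈ ℰ} [U, A]` -/
def KK (ℰ : Set (Subgroup (LinearMap.GeneralLinearGroup k M))) (U : Submodule k M) : Submodule k M :=
  ⨆ A ∈ ℰ, cm A U

lemma KK_mono {ℰ ℰ' : Set (Subgroup (LinearMap.GeneralLinearGroup k M))} (h : ℰ ⊆ ℰ') (U : Submodule k M) :
    KK ℰ U ≤ KK ℰ' U := biSup_mono h

lemma le_KK {ℰ : Set (Subgroup (LinearMap.GeneralLinearGroup k M))} {A : Subgroup (LinearMap.GeneralLinearGroup k M)}
    (hA : A ∈ ℰ) (U : Submodule k M) : cm A U ≤ KK ℰ U := le_biSup (fun A => cm A U) hA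

lemma KK_le {ℰ : Set (Subgroup (LinearMap.GeneralLinearGroup k M))} {U W : Submodule k M}
    (h : ∀ A ∈ ℰ, cm A U ≤ W) : KK ℰ U ≤ W := iSup₂_le h

lemma KK_fam_le (𝒲 : Set (Subgroup (LinearMap.GeneralLinearGroup k M))) (U F : Submodule k M) :
    KK (fam 𝒲 U F) U ≤ F := KK_le (fun _ hA => hA.2)

/-- the closed proper subspaces -/
def FF (𝒲 : Set (Subgroup (LinearMap.GeneralLinearGroup k M))) (U : Submodule k M) : Set (Submodule k M) :=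
  {F | F < U ∧ F ≤ KK (fam 𝒲 U F) U}

def IsMaxF (𝒲 : Set (Subgroup (LinearMap.GeneralLinearGroup k M))) (U F : Submodule k M) : Prop :=
  F ∈ FF 𝒲 U ∧ ∀ F' ∈ FF 𝒲 U, F ≤ F' → F' = F

lemma exists_isMaxF_ge [FiniteDimensional k M] {𝒲 : Set (Subgroup (LinearMap.GeneralLinearGroup k M))}
    {U F₀ : Submodule k M} (h : F₀ ∈ FF 𝒲 U) : ∃ F, IsMaxF 𝒲 U F ∧ F₀ ≤ F := by
  obtain ⟨F, hF, hmin⟩ := (wellFounded_gt : WellFounded ((· > ·) : Submodule k M → Submodule k M → Prop)).has_min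
    {F | F ∈ FF 𝒲 U ∧ F₀ ≤ F} ⟨F₀, h, le_rfl⟩
  refine ⟨F, ⟨hF.1, fun F' hF' hle => ?_⟩, hF.2⟩
  by_contra hne
  exact hmin F' ⟨hF', hF.2.trans hle⟩ (lt_of_le_of_ne hle (Ne.symm hne))

lemma IsMaxF.KK_eq {𝒲 : Set (Subgroup (LinearMap.GeneralLinearGroup k M))} {U F : Submodule k M}
    (h : IsMaxF 𝒲 U F) : KK (fam 𝒲 U F) U = F := le_antisymm (KK_fam_le 𝒲 U F) h.1.2

lemma fam_sub (𝒲 : Set (Subgroup (LinearMap.GeneralLinearGroup k M))) (U F : Submodule k M) : fam 𝒲 U F ⊆ 𝒲 :=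
  fun _ h => h.1

lemma biSup_le_biSup_of_subset {ℰ ℰ' : Set (Subgroup (LinearMap.GeneralLinearGroup k M))} (h : ℰ ⊆ ℰ') :
    (⨆ A ∈ ℰ, A) ≤ ⨆ A ∈ ℰ', A := biSup_mono h


/-- the statement proved by induction on the dimension of `U`. -/
def Goal (U : Submodule k M) : Prop :=
  ∀ 𝒲 : Set (Subgroup (LinearMap.GeneralLinearGroup k M)), (∀ A ∈ 𝒲, Stab A U) →
    (∀ A ∈ 𝒲, ∀ B ∈ 𝒲, UnipOn (A ⊔ B) U) → (∀ A ∈ 𝒲, ∀ g ∈ (⨆ B ∈ 𝒲, B), conjBy A g ∈ 𝒲) →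
    UnipOn (⨆ B ∈ 𝒲, B) U

section step

variable [FiniteDimensional k M] {𝒲 : Set (Subgroup (LinearMap.GeneralLinearGroup k M))} {U : Submodule k M}
  (hst : ∀ A ∈ 𝒲, Stab A U) (hpair : ∀ A ∈ 𝒲, ∀ B ∈ 𝒲, UnipOn (A ⊔ B) U)
  (hinv : ∀ A ∈ 𝒲, ∀ g ∈ (⨆ B ∈ 𝒲, B), conjBy A g ∈ 𝒲)
  (ih : ∀ U' : Submodule k M, U' < U → Goal U')

omit [FiniteDimensional k M] in
include hst hinv in
lemma fam_inv {F : Submodule k M} (hF : IsMaxF 𝒲 U F) :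
    ∀ A ∈ fam 𝒲 U F, ∀ x ∈ (⨆ B ∈ fam 𝒲 U F, B), conjBy A x ∈ fam 𝒲 U F := by
  intro A hA x hx
  have hXst : Stab (⨆ B ∈ fam 𝒲 U F, B) U := stab_biSup (fun B hB => hst B hB.1)
  have hcm : cm (⨆ B ∈ fam 𝒲 U F, B) U = F := by
    rw [cm_biSup_eq (fun B hB => hst B hB.1)]
    exact hF.KK_eq
  have hXF : Stab (⨆ B ∈ fam 𝒲 U F, B) F := by
    have := stab_cm hXst
    rwa [hcm] at this
  refine ⟨hinv A hA.1 x (biSup_le_biSup_of_subset (fam_sub 𝒲 U F) hx), ?_⟩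
  exact cm_conj_le x (fun u hu => hXst x⁻¹ (Subgroup.inv_mem _ hx) u hu) hA.2 (fun w hw => hXF x hx w hw)

omit [FiniteDimensional k M] in
include hst hpair hinv ih in
lemma unip_fam {F : Submodule k M} (hF : IsMaxF 𝒲 U F) : UnipOn (⨆ B ∈ fam 𝒲 U F, B) U := by
  have hXst : Stab (⨆ B ∈ fam 𝒲 U F, B) U := stab_biSup (fun B hB => hst B hB.1)
  have hcm : cm (⨆ B ∈ fam 𝒲 U F, B) U = F := by
    rw [cm_biSup_eq (fun B hB => hst B hB.1)]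
    exact hF.KK_eq
  have hXF : Stab (⨆ B ∈ fam 𝒲 U F, B) F := by
    have := stab_cm hXst
    rwa [hcm] at this
  apply unipOn_of_cm
  rw [hcm]
  apply ih F hF.1.1 (fam 𝒲 U F)
  · intro A hA
    exact hXF.mono (le_biSup (fun B => B) hA)
  · intro A hA B hB
    exact (hpair A hA.1 B hB.1).mono le_rfl hF.1.1.le
  · exact fam_inv hst hinv hF


omit [FiniteDimensional k M] in
include hst hpair hinv ih in
lemma exists_normalizing {FX FY : Submodule k M} (hX : IsMaxF 𝒲 U FX) (hY : IsMaxF 𝒲 U FY) (hXY : FX ≠ FY) :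
    ∃ A ∈ fam 𝒲 U FX, ¬ cm A U ≤ KK (fam 𝒲 U FX ∩ fam 𝒲 U FY) U ∧
      ∀ a ∈ A, ∀ C ∈ fam 𝒲 U FX ∩ fam 𝒲 U FY, conjBy C a ∈ fam 𝒲 U FX ∩ fam 𝒲 U FY := by
  set E := KK (fam 𝒲 U FX ∩ fam 𝒲 U FY) U with hE
  have hE_le_FY : E ≤ FY := KK_le (fun C hC => hC.2.2)
  have hex : ∃ A ∈ fam 𝒲 U FX, ¬ cm A U ≤ E := by
    by_contra hcon
    push Not at hcon
    apply hXY
    have : FX ≤ FY := by
      rw [← hX.KK_eq]
      exact KK_le (fun A hA => (hcon A hA).trans hE_le_FY)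
    exact (hX.2 FY hY.1 this).symm
  obtain ⟨A, hA, hAE, hperm⟩ := crux (fun A hA => hst A hA.1) (fam_inv hst hinv hX) (unip_fam hst hpair hinv ih hX) hex
  refine ⟨A, hA, hAE, fun a ha C hC => ?_⟩
  have h1 : conjBy C a ∈ fam 𝒲 U FX := fam_inv hst hinv hX C hC.1 a (le_biSup (fun B => B) hA ha)
  have h2 : cm (conjBy C a) U ≤ E := hperm a ha C hC.1 (le_KK hC U)
  exact ⟨h1, h1.1, h2.trans hE_le_FY⟩

include hst hpair hinv ih in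
lemma isMaxF_unique (hU : U ≠ ⊥) {F₁ F₂ : Submodule k M} (h1 : IsMaxF 𝒲 U F₁) (h2 : IsMaxF 𝒲 U F₂) : F₁ = F₂ := by
  by_contra hne
  obtain ⟨E, ⟨FX, FY, hX, hY, hXY, hEdef⟩, hEmax⟩ :=
    (wellFounded_gt : WellFounded ((· > ·) : Submodule k M → Submodule k M → Prop)).has_min
      {E | ∃ F₁ F₂, IsMaxF 𝒲 U F₁ ∧ IsMaxF 𝒲 U F₂ ∧ F₁ ≠ F₂ ∧ E = KK (fam 𝒲 U F₁ ∩ fam 𝒲 U F₂) U}
      ⟨_, F₁, F₂, h1, h2, hne, rfl⟩
  obtain ⟨A, hA, hAE, hAperm⟩ := exists_normalizing hst hpair hinv ih hX hY hXY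
  obtain ⟨B, hB, hBE, hBperm⟩ := exists_normalizing hst hpair hinv ih hY hX (Ne.symm hXY)
  rw [Set.inter_comm] at hBE hBperm
  rw [← hEdef] at hAE hBE
  set 𝒟 := fam 𝒲 U FX ∩ fam 𝒲 U FY with h𝒟
  set D := ⨆ C ∈ 𝒟, C with hD
  have h𝒟W : ∀ C ∈ 𝒟, C ∈ 𝒲 := fun C hC => hC.1.1
  -- A ⊔ B normalizes D
  have hnormA : ∀ (A' : Subgroup (LinearMap.GeneralLinearGroup k M)),
      (∀ a ∈ A', ∀ C ∈ 𝒟, conjBy C a ∈ 𝒟) → ∀ y ∈ A', ∀ d ∈ D, y * d * y⁻¹ ∈ D := by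
    intro A' hperm y hy d hd
    refine biSup_induction (C := fun d : LinearMap.GeneralLinearGroup k M => y * d * y⁻¹ ∈ D) hd ?_ ?_ ?_
    · intro C hC c hc
      have : conjBy C y ≤ D := le_biSup (fun B => B) (hperm y hy C hC)
      exact this ⟨c, hc, rfl⟩
    · simp
    · intro c c' hc hc'
      have : y * (c * c') * y⁻¹ = (y * c * y⁻¹) * (y * c' * y⁻¹) := by group
      rw [this]; exact D.mul_mem hc hc'
  have hnorm : ∀ y ∈ A ⊔ B, ∀ d ∈ D, y * d * y⁻¹ ∈ D := by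
    intro y hy
    refine sup_induction' (C := fun y : LinearMap.GeneralLinearGroup k M => ∀ d ∈ D, y * d * y⁻¹ ∈ D) hy ?_ ?_ ?_ ?_
    · exact hnormA A hAperm
    · exact hnormA B hBperm
    · intro d hd; simpa using hd
    · intro y y' hy hy' d hd
      have : y * y' * d * (y * y')⁻¹ = y * (y' * d * y'⁻¹) * y⁻¹ := by group
      rw [this]; exact hy _ (hy' d hd)
  have hDst : Stab D U := stab_biSup (fun C hC => hst C (h𝒟W C hC))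
  have hABst : Stab (A ⊔ B) U := stab_sup (hst A hA.1) (hst B hB.1)
  have hDunip : UnipOn D U :=
    (unip_fam hst hpair hinv ih hX).mono (biSup_le_biSup_of_subset Set.inter_subset_left) le_rfl
  have hF₀lt : cm D U ⊔ cm (A ⊔ B) U < U :=
    cm_sup_cm_lt hDst hABst hnorm hDunip (hpair A hA.1 B hB.1) hU
  set F₀ := cm D U ⊔ cm (A ⊔ B) U with hF₀
  have hDF₀ : ∀ C ∈ 𝒟, cm C U ≤ F₀ := fun C hC =>
    (cm_mono (le_biSup (fun B => B) hC) le_rfl).trans le_sup_left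
  have hAF₀ : cm A U ≤ F₀ := (cm_mono le_sup_left le_rfl).trans le_sup_right
  have hBF₀ : cm B U ≤ F₀ := (cm_mono le_sup_right le_rfl).trans le_sup_right
  have hF₀mem : F₀ ∈ FF 𝒲 U := by
    refine ⟨hF₀lt, sup_le ?_ ?_⟩
    · rw [hD, cm_biSup_eq (fun C hC => hst C (h𝒟W C hC))]
      exact KK_mono (show 𝒟 ⊆ fam 𝒲 U F₀ from fun C hC => ⟨h𝒟W C hC, hDF₀ C hC⟩) U
    · refine (cm_sup_left_le (hst A hA.1) (hst B hB.1)).trans (sup_le ?_ ?_)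
      · exact le_KK (show A ∈ fam 𝒲 U F₀ from ⟨hA.1, hAF₀⟩) U
      · exact le_KK (show B ∈ fam 𝒲 U F₀ from ⟨hB.1, hBF₀⟩) U
  obtain ⟨FZ, hZ, hF₀Z⟩ := exists_isMaxF_ge hF₀mem
  have hZX : FZ = FX := by
    by_contra hZX
    have hE'P : KK (fam 𝒲 U FZ ∩ fam 𝒲 U FX) U ∈
        {E | ∃ F₁ F₂, IsMaxF 𝒲 U F₁ ∧ IsMaxF 𝒲 U F₂ ∧ F₁ ≠ F₂ ∧ E = KK (fam 𝒲 U F₁ ∩ fam 𝒲 U F₂) U} :=
      ⟨FZ, FX, hZ, hX, hZX, rfl⟩
    apply hEmax _ hE'P
    have hle : E ≤ KK (fam 𝒲 U FZ ∩ fam 𝒲 U FX) U := by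
      rw [hEdef]
      exact KK_mono (show 𝒟 ⊆ fam 𝒲 U FZ ∩ fam 𝒲 U FX from
        fun C hC => ⟨⟨h𝒟W C hC, (hDF₀ C hC).trans hF₀Z⟩, hC.1⟩) U
    refine lt_of_le_of_ne hle ?_
    intro heq
    apply hAE
    rw [heq]
    exact le_KK (show A ∈ fam 𝒲 U FZ ∩ fam 𝒲 U FX from ⟨⟨hA.1, hAF₀.trans hF₀Z⟩, hA⟩) U
  have hZY : FZ = FY := by
    by_contra hZY
    have hE'P : KK (fam 𝒲 U FZ ∩ fam 𝒲 U FY) U ∈
        {E | ∃ F₁ F₂, IsMaxF 𝒲 U F₁ ∧ IsMaxF 𝒲 U F₂ ∧ F₁ ≠ F₂ ∧ E = KK (fam 𝒲 U F₁ ∩ fam 𝒲 U F₂) U} :=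
      ⟨FZ, FY, hZ, hY, hZY, rfl⟩
    apply hEmax _ hE'P
    have hle : E ≤ KK (fam 𝒲 U FZ ∩ fam 𝒲 U FY) U := by
      rw [hEdef]
      exact KK_mono (show 𝒟 ⊆ fam 𝒲 U FZ ∩ fam 𝒲 U FY from
        fun C hC => ⟨⟨h𝒟W C hC, (hDF₀ C hC).trans hF₀Z⟩, hC.2⟩) U
    refine lt_of_le_of_ne hle ?_
    intro heq
    apply hBE
    rw [heq]
    exact le_KK (show B ∈ fam 𝒲 U FZ ∩ fam 𝒲 U FY from ⟨⟨hB.1, hBF₀.trans hF₀Z⟩, hB⟩) U
  exact hXY (hZX.symm.trans hZY)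


include hst hpair hinv ih in
lemma cm_biSup_lt (hU : U ≠ ⊥) : cm (⨆ B ∈ 𝒲, B) U < U := by
  have hbot : (⊥ : Submodule k M) ∈ FF 𝒲 U := ⟨bot_lt_iff_ne_bot.mpr hU, bot_le⟩
  obtain ⟨F, hF, -⟩ := exists_isMaxF_ge hbot
  refine lt_of_le_of_lt ?_ hF.1.1
  apply cm_biSup_le hst
  intro A hA
  have hAu : UnipOn A U := by
    have := hpair A hA A hA
    rwa [sup_idem] at this
  have hlt : cm A U < U := hAu.cm_lt (hst A hA) hU
  have hmem : cm A U ∈ FF 𝒲 U := ⟨hlt, le_KK (show A ∈ fam 𝒲 U (cm A U) from ⟨hA, le_rfl⟩) U⟩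
  obtain ⟨F', hF', hle⟩ := exists_isMaxF_ge hmem
  rw [isMaxF_unique hst hpair hinv ih hU hF hF']
  exact hle

end step

theorem goal_all [FiniteDimensional k M] : ∀ (d : ℕ) (U : Submodule k M), Module.finrank k U = d → Goal U := by
  intro d
  induction d using Nat.strong_induction_on with
  | _ d ihd =>
    intro U hUd 𝒲 hst hpair hinv
    by_cases hU : U = ⊥
    · subst hU; exact unipOn_bot _
    have ih : ∀ U' : Submodule k M, U' < U → Goal U' := by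
      intro U' hlt
      exact ihd (Module.finrank k U') (by rw [← hUd]; exact Submodule.finrank_lt_finrank_of_lt hlt) U' rfl
    have hN : Stab (⨆ B ∈ 𝒲, B) U := stab_biSup hst
    have hlt := cm_biSup_lt hst hpair hinv ih hU
    apply unipOn_of_cm
    apply ih _ hlt 𝒲
    · intro A hA
      exact (stab_cm hN).mono (le_biSup (fun B => B) hA)
    · intro A hA B hB
      exact (hpair A hA B hB).mono le_rfl hlt.le
    · exact hinv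

/-- **Linear Baer–Suzuki**: a family of subgroups of `GL(M)`, invariant under the group it generates, any two of
which generate a unipotent group, generates a unipotent group. -/
theorem isUnipotentOn_biSup [FiniteDimensional k M] {W : Set (Subgroup (LinearMap.GeneralLinearGroup k M))}
    (hWW : ∀ A ∈ W, ∀ B ∈ W, IsUnipotentOn (A ⊔ B))
    (hinv : ∀ A ∈ W, ∀ g ∈ (⨆ B ∈ W, B), conjBy A g ∈ W) : IsUnipotentOn (⨆ A ∈ W, A) := by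
  apply isUnipotentOn_of_unipOn_top
  apply goal_all _ ⊤ rfl W
  · intro A _ h _ u _; exact Submodule.mem_top
  · intro A hA B hB; exact unipOn_top_of_isUnipotentOn (hWW A hA B hB)
  · exact hinv

end Cfsg.Agent.Lib.Helper7.LinBS
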