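import Mathlib
import Cfsg.Agent.Lib.Lead.Conj
import Cfsg.Agent.Lib.Helper7.SylowLib
import Cfsg.Agent.Lib.Helper7.SylowLift
import Cfsg.Agent.Lib.Helper7.Thompson

set_option autoImplicit false

namespace Cfsg.Agent.Lib.Helper7

open Cfsg Cfsg.Agent.Lib.Lead.Conj

variable {G : Type*} [Group G] [Finite G] {p : ℕ} [Fact p.Prime]

omit [Finite G] [Fact p.Prime] in
theorem IsSylowIn.map_conj_of_mem_normalizer {A K : Subgroup G} (hA : IsSylowIn p A K) {k : G}
    (hk : k ∈ Subgroup.normalizer (K : Set G)) : IsSylowIn p (A.map (MulAut.conj k).toMonoidHom) K := by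
  refine ⟨?_, ?_⟩
  · rintro _ ⟨a, ha, rfl⟩
    exact (Subgroup.mem_normalizer_iff.mp hk a).mp (hA.1 ha)
  · rw [card_map_conj]
    exact hA.2

theorem IsSylowIn.ne_bot' {A Y : Subgroup G} (hA : IsSylowIn p A Y) (hpY : p ∣ Nat.card Y) : A ≠ ⊥ := by
  have hp : p.Prime := Fact.out
  intro hb
  have h1 := hA.2
  rw [hb, Subgroup.card_bot] at h1
  have hpos : 0 < (Nat.card ↥Y).factorization p := hp.factorization_pos_of_dvd Nat.card_pos.ne' hpY
  have : 1 < p ^ (Nat.card ↥Y).factorization p := Nat.one_lt_pow hpos.ne' hp.one_lt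
  omega

/-- `p`-locally central elements: basic properties. -/
theorem pLocallyCentral_props (P : Sylow p G) (x : G) (hxP : x ∈ (P : Subgroup G))
    (hlc : ∀ R : Subgroup G, R ≤ (P : Subgroup G) → R ≠ ⊥ →
      Subgroup.normalizer (R : Set G) ≤ Subgroup.centralizer ({x} : Set G)) :
    (P : Subgroup G) ≤ Subgroup.centralizer ({x} : Set G) ∧
    (∀ g : G, g * x * g⁻¹ ∈ (P : Subgroup G) → g * x * g⁻¹ = x) ∧
    ∀ (N : Subgroup G) [N.Normal], ∀ R : Subgroup (G ⧸ N),
      R ≤ (P : Subgroup G).map (QuotientGroup.mk' N) → R ≠ ⊥ →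
        Subgroup.normalizer (R : Set (G ⧸ N)) ≤
          Subgroup.centralizer ({(QuotientGroup.mk x : G ⧸ N)} : Set (G ⧸ N)) := by
  have hPne : (P : Subgroup G) ≠ ⊥ ∨ x = 1 := by
    by_cases h : (P : Subgroup G) = ⊥
    · right
      rw [h] at hxP
      exact Subgroup.mem_bot.mp hxP
    · exact Or.inl h
  have h1 : (P : Subgroup G) ≤ Subgroup.centralizer ({x} : Set G) := by
    rcases hPne with hne | rfl
    · exact Subgroup.le_normalizer.trans (hlc _ le_rfl hne)
    · intro y _
      rw [Subgroup.mem_centralizer_singleton_iff]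
      simp
  refine ⟨h1, ?_, ?_⟩
  · intro g hg
    by_cases hx1 : x = 1
    · subst hx1; simp
    set y := g * x * g⁻¹ with hy
    have hyne : Subgroup.zpowers y ≠ ⊥ := by
      rw [Ne, Subgroup.zpowers_eq_bot]
      intro h
      apply hx1
      have : g * x * g⁻¹ = 1 := h
      have e : x = g⁻¹ * (g * x * g⁻¹) * g := by group
      rw [e, this]; group
    -- C(y) ≤ C(x)
    have hCy : Subgroup.centralizer ({y} : Set G) ≤ Subgroup.centralizer ({x} : Set G) := by
      refine le_trans ?_ (hlc (Subgroup.zpowers y) (Subgroup.zpowers_le.mpr hg) hyne)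
      intro c hc
      rw [Subgroup.mem_centralizer_singleton_iff] at hc
      apply mem_normalizer_of_conj_mem
      rintro _ ⟨k, rfl⟩
      refine ⟨k, ?_⟩
      have hcy : Commute c y := hc
      show y ^ k = c * y ^ k * c⁻¹
      rw [(hcy.zpow_right k).eq, mul_inv_cancel_right]
    -- C(y) = (C(x))^g has the same order
    have hCyeq : Subgroup.centralizer ({y} : Set G) =
        (Subgroup.centralizer ({x} : Set G)).map (MulAut.conj g).toMonoidHom := by
      ext c
      rw [mem_map_conj, Subgroup.mem_centralizer_singleton_iff, Subgroup.mem_centralizer_singleton_iff, hy]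
      constructor
      · intro h
        calc g⁻¹ * c * g * x = g⁻¹ * (c * (g * x * g⁻¹)) * g := by group
          _ = g⁻¹ * ((g * x * g⁻¹) * c) * g := by rw [h]
          _ = x * (g⁻¹ * c * g) := by group
      · intro h
        calc c * (g * x * g⁻¹) = g * ((g⁻¹ * c * g) * x) * g⁻¹ := by group
          _ = g * (x * (g⁻¹ * c * g)) * g⁻¹ := by rw [h]
          _ = g * x * g⁻¹ * c := by group
    have hCeq : Subgroup.centralizer ({y} : Set G) = Subgroup.centralizer ({x} : Set G) := by
      apply Subgroup.eq_of_le_of_card_ge hCy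
      rw [hCyeq, card_map_conj]
    -- P and P^g are Sylow in C(x)
    have hP1 : IsSylowIn p (P : Subgroup G) (Subgroup.centralizer ({x} : Set G)) :=
      IsSylowIn.of_sylow_le P h1
    have hPg_le : (P : Subgroup G).map (MulAut.conj g).toMonoidHom ≤ Subgroup.centralizer ({x} : Set G) := by
      rw [← hCeq, hCyeq]
      exact Subgroup.map_mono h1
    have hP2 : IsSylowIn p ((P : Subgroup G).map (MulAut.conj g).toMonoidHom)
        (Subgroup.centralizer ({x} : Set G)) := by
      refine ⟨hPg_le, ?_⟩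
      rw [card_map_conj]
      exact hP1.2
    obtain ⟨c, hc, hPc⟩ := hP1.conj hP2
    -- c⁻¹ g normalizes P
    have hnorm : c⁻¹ * g ∈ Subgroup.normalizer (((P : Subgroup G)) : Set G) := by
      apply mem_normalizer_of_conj_mem
      intro r hr
      have h2 : g * r * g⁻¹ ∈ (P : Subgroup G).map (MulAut.conj c).toMonoidHom := by
        rw [← hPc]; exact ⟨r, hr, rfl⟩
      rw [mem_map_conj] at h2
      have e : c⁻¹ * g * r * (c⁻¹ * g)⁻¹ = c⁻¹ * (g * r * g⁻¹) * c := by group
      rw [e]; exact h2
    have hne : (P : Subgroup G) ≠ ⊥ := by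
      rcases hPne with h | h
      · exact h
      · exact absurd h hx1
    have h3 := hlc _ le_rfl hne hnorm
    have hg' : g ∈ Subgroup.centralizer ({x} : Set G) := by
      have e : g = c * (c⁻¹ * g) := by group
      rw [e]
      exact Subgroup.mul_mem _ hc h3
    rw [Subgroup.mem_centralizer_singleton_iff] at hg'
    rw [hy, hg']; group
  · intro N _ R hRP hRne n hn
    rw [Subgroup.mem_centralizer_singleton_iff]
    obtain ⟨n, rfl⟩ := QuotientGroup.mk_surjective n
    set K : Subgroup G := R.comap (QuotientGroup.mk' N) with hK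
    have hNK : N ≤ K := by
      intro z hz
      show QuotientGroup.mk' N z ∈ R
      have : QuotientGroup.mk' N z = 1 := (QuotientGroup.eq_one_iff z).mpr hz
      rw [this]
      exact R.one_mem
    have hKle : K ≤ N ⊔ (P : Subgroup G) := by
      intro k hk
      have h1 : QuotientGroup.mk' N k ∈ (P : Subgroup G).map (QuotientGroup.mk' N) := hRP hk
      have : k ∈ ((P : Subgroup G).map (QuotientGroup.mk' N)).comap (QuotientGroup.mk' N) := h1
      rw [Subgroup.comap_map_eq, QuotientGroup.ker_mk', sup_comm] at this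
      exact this
    -- p ∣ |K|
    have hpK : p ∣ Nat.card ↥K := by
      have hRp : IsPGroup p ↥R := (P.isPGroup'.map _).to_le hRP
      have h2 : K.map (QuotientGroup.mk' N) = R :=
        Subgroup.map_comap_eq_self_of_surjective (QuotientGroup.mk'_surjective N) R
      have h3 := Subgroup.card_map_dvd (H := K) (QuotientGroup.mk' N)
      rw [h2] at h3
      have hnt : Nontrivial ↥R := (Subgroup.nontrivial_iff_ne_bot R).mpr hRne
      obtain ⟨k, hk⟩ := IsPGroup.iff_card.mp hRp
      have hk0 : k ≠ 0 := by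
        rintro rfl
        rw [pow_zero] at hk
        have := Finite.one_lt_card_iff_nontrivial.mpr hnt
        omega
      exact dvd_trans (hk ▸ dvd_pow_self p hk0) h3
    obtain ⟨A, hA, -⟩ := exists_isSylowIn_ge (p := p) (Q := ⊥) (H := K) IsPGroup.of_bot bot_le
    obtain ⟨m, hmN, hm⟩ := exists_conj_le_sylow_of_le_sup P N A hA.isPGroup (hA.1.trans hKle)
    have hmK : m⁻¹ ∈ Subgroup.normalizer (K : Set G) := Subgroup.le_normalizer (K.inv_mem (hNK hmN))
    have hA' := hA.map_conj_of_mem_normalizer hmK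
    set A' := A.map (MulAut.conj m⁻¹).toMonoidHom with hA'def
    have hA'P : A' ≤ (P : Subgroup G) := by
      rintro _ ⟨a, ha, rfl⟩
      have := hm a ha
      simpa [MulAut.conj_apply] using this
    have hA'ne : A' ≠ ⊥ := hA'.ne_bot' hpK
    have hnK : n ∈ Subgroup.normalizer (K : Set G) := by
      apply mem_normalizer_of_conj_mem
      intro k hk
      show QuotientGroup.mk' N (n * k * n⁻¹) ∈ R
      rw [map_mul, map_mul, map_inv]
      exact (Subgroup.mem_normalizer_iff.mp hn _).mp hk
    have hA'n := hA'.map_conj_of_mem_normalizer hnK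
    obtain ⟨k, hk, hconj⟩ := hA'.conj hA'n
    have hnorm : k⁻¹ * n ∈ Subgroup.normalizer ((A' : Subgroup G) : Set G) := by
      apply mem_normalizer_of_conj_mem
      intro r hr
      have h2 : n * r * n⁻¹ ∈ A'.map (MulAut.conj k).toMonoidHom := by
        rw [← hconj]; exact ⟨r, hr, rfl⟩
      rw [mem_map_conj] at h2
      have e : k⁻¹ * n * r * (k⁻¹ * n)⁻¹ = k⁻¹ * (n * r * n⁻¹) * k := by group
      rw [e]; exact h2
    have h3 := hlc A' hA'P hA'ne hnorm
    rw [Subgroup.mem_centralizer_singleton_iff] at h3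
    -- k̄ commutes with x̄
    obtain ⟨q, hq, hqk⟩ := hRP (show QuotientGroup.mk' N k ∈ R from hk)
    have hqx : q * x = x * q := Subgroup.mem_centralizer_singleton_iff.mp (h1 hq)
    have e : (QuotientGroup.mk n : G ⧸ N) = QuotientGroup.mk' N k * QuotientGroup.mk' N (k⁻¹ * n) := by
      rw [← map_mul]; congr 1; group
    rw [e, ← hqk]
    show (QuotientGroup.mk' N q * QuotientGroup.mk' N (k⁻¹ * n)) * QuotientGroup.mk' N x =
      QuotientGroup.mk' N x * (QuotientGroup.mk' N q * QuotientGroup.mk' N (k⁻¹ * n))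
    rw [← map_mul, ← map_mul, ← map_mul]
    congr 1
    calc q * (k⁻¹ * n) * x = q * ((k⁻¹ * n) * x) := by group
      _ = q * (x * (k⁻¹ * n)) := by rw [h3]
      _ = (q * x) * (k⁻¹ * n) := by group
      _ = (x * q) * (k⁻¹ * n) := by rw [hqx]
      _ = x * (q * (k⁻¹ * n)) := by group

end Cfsg.Agent.Lib.Helper7
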