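import Cfsg.Agent.Lib.Helper8.J2MultTC

/-!
# A static certificate for an enumeration of cosets, for letters that come in inverse pairs

The certificate of `Cfsg.Agent.Lib.Helper8.CosetCert` again, for generators that need not be involutions: a list
gives the inverse of every letter, and a list gives the letters that lie in the subgroup.
-/

set_option autoImplicit false

namespace Cfsg.Agent.Lib.Helper7.M12Mult

open Cfsg.Agent.Lib.Helper8.CosetCert (R index_le_of_closed)

/-- the data: the number of rows, of letters; the inverses of the letters; the letters in the subgroup; the table;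
the times of its entries; the reasons `(kind, row, word, place)`; the definitions of the rows `(row, letter)`;
the words -/
structure ICert where
  n : ℕ
  g : ℕ
  iv : List ℕ
  sub : List ℕ
  T : List (List ℕ)
  tm : List (List ℕ)
  rs : List (List (ℕ × ℕ × ℕ × ℕ))
  par : List (ℕ × ℕ)
  W : List (List ℕ)

namespace ICert

variable (C : ICert)

/-- the entry of the table -/
def Tg (a x : ℕ) : ℕ := (C.T.getD a []).getD x 0

/-- the time of an entry -/
def tg (a x : ℕ) : ℕ := (C.tm.getD a []).getD x 0

/-- the reason for an entry -/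
def rg (a x : ℕ) : ℕ × ℕ × ℕ × ℕ := (C.rs.getD a []).getD x (0, 0, 0, 0)

/-- the definition of a row -/
def pg (b : ℕ) : ℕ × ℕ := C.par.getD b (0, 0)

/-- the inverse of a letter -/
def ivg (x : ℕ) : ℕ := C.iv.getD x 0

/-- follow the letters of a word from a row, through entries found before the time `t` -/
def scan (t : ℕ) : List ℕ → ℕ → Option ℕ
  | [], cur => some cur
  | x :: w, cur =>
    if C.tg cur x < t ∧ cur < C.n ∧ x < C.g then scan t w (C.Tg cur x) else none

/-- the check of one entry -/
def slotOK (a x : ℕ) : Bool :=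
  decide (C.Tg a x < C.n) &&
  (match (C.rg a x).1 with
  | 0 => decide (C.pg (C.Tg a x) = (a, x) ∧ a < C.Tg a x)
  | 1 => decide (C.Tg (C.Tg a x) (C.ivg x) = a ∧ C.tg (C.Tg a x) (C.ivg x) < C.tg a x ∧ C.ivg x < C.g)
  | 2 => decide (a = 0 ∧ C.Tg a x = 0 ∧ x ∈ C.sub)
  | _ =>
    decide ((C.W.getD (C.rg a x).2.2.1 [])[(C.rg a x).2.2.2]? = some x) &&
    (C.scan (C.tg a x) ((C.W.getD (C.rg a x).2.2.1 []).take (C.rg a x).2.2.2) (C.rg a x).2.1 == some a) &&
    (C.scan (C.tg a x) ((((C.W.getD (C.rg a x).2.2.1 []).drop ((C.rg a x).2.2.2 + 1)).reverse).map C.ivg)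
      (C.rg a x).2.1 == some (C.Tg a x)))

/-- the check of the whole table: all the letters of the words are letters, and all the entries are justified -/
def allOK : Bool :=
  (C.W.all fun w => w.all fun x => decide (x < C.g)) &&
  (List.range C.n).all fun a => (List.range C.g).all fun x => C.slotOK a x

/-! ### soundness -/

section sound

variable {Γ : Type*} [Group Γ] (γ : ℕ → Γ) (H : Subgroup Γ)

/-- the element of the group that belongs to a row -/
noncomputable def τ (r : ℕ) : Γ :=
  if _h : (C.pg r).1 < r then τ (C.pg r).1 * γ (C.pg r).2 else 1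
termination_by r
decreasing_by assumption

theorem τ_zero : C.τ γ 0 = 1 := by
  rw [τ]
  simp

theorem τ_def {a x r : ℕ} (har : a < r) (hP : C.pg r = (a, x)) : C.τ γ r = C.τ γ a * γ x := by
  rw [τ, dif_pos (by rw [hP]; exact har), hP]

/-- all that the table says with entries found before the time `t` is true -/
def Good (t : ℕ) : Prop :=
  ∀ a x, a < C.n → x < C.g → C.tg a x < t → R H (C.τ γ a * γ x) (C.τ γ (C.Tg a x))

variable {γ H}

theorem scan_spec {t : ℕ} (hG : C.Good γ H t) : ∀ (w : List ℕ) (cur e : ℕ),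
    C.scan t w cur = some e → R H (C.τ γ cur * (w.map γ).prod) (C.τ γ e)
  | [], cur, e, h => by
    simp only [scan, Option.some.injEq] at h
    subst h
    simpa using R.refl (H := H) (C.τ γ cur)
  | x :: w, cur, e, h => by
    rw [scan] at h
    split_ifs at h with hc
    obtain ⟨h1, h2, h3⟩ := hc
    have ih := scan_spec hG w _ e h
    have h4 := hG cur x h2 h3 h1
    rw [List.map_cons, List.prod_cons, ← mul_assoc]
    exact (h4.mul_right _).trans ih

theorem prod_reverse_inv (hinv : ∀ x, x < C.g → γ (C.ivg x) = (γ x)⁻¹) : ∀ l : List ℕ,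
    (∀ x ∈ l, x < C.g) → (((l.reverse).map C.ivg).map γ).prod = ((l.map γ).prod)⁻¹
  | [], _ => by simp
  | x :: l, h => by
    have hx := hinv x (h x List.mem_cons_self)
    have ih := prod_reverse_inv hinv l fun y hy => h y (List.mem_cons_of_mem _ hy)
    simp only [List.reverse_cons, List.map_append, List.prod_append, ih,
      List.map_cons, List.map_nil, List.prod_cons, List.prod_nil, mul_one, mul_inv_rev, hx]

theorem good_succ (hinv : ∀ x, x < C.g → γ (C.ivg x) = (γ x)⁻¹) (hsub : ∀ x ∈ C.sub, γ x ∈ H)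
    (hW : ∀ w ∈ C.W, (w.map γ).prod = 1) (hlet : ∀ w ∈ C.W, ∀ x ∈ w, x < C.g)
    (hall : ∀ a, a < C.n → ∀ x, x < C.g → C.slotOK a x = true) {t : ℕ} (hG : C.Good γ H t) :
    C.Good γ H (t + 1) := by
  intro a x ha hx ht
  rcases Nat.lt_or_ge (C.tg a x) t with h | h
  · exact hG a x ha hx h
  have ht' : C.tg a x = t := by omega
  have hs := hall a ha x hx
  rw [slotOK, Bool.and_eq_true, decide_eq_true_eq] at hs
  obtain ⟨hb, hs⟩ := hs
  split at hs
  · -- the definition of a row
    rw [decide_eq_true_eq] at hs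
    rw [C.τ_def γ hs.2 hs.1]
    exact R.refl _
  · -- the entry in the other direction
    rw [decide_eq_true_eq] at hs
    obtain ⟨h1, h2, h2'⟩ := hs
    have h3 := hG (C.Tg a x) (C.ivg x) hb h2' (by rw [ht'] at h2; exact h2)
    rw [h1, hinv x hx] at h3
    have h4 := (h3.mul_right (γ x)).symm
    rw [mul_assoc, inv_mul_cancel, mul_one] at h4
    exact h4
  · -- a letter of the subgroup
    rw [decide_eq_true_eq] at hs
    obtain ⟨h1, h2, h3⟩ := hs
    rw [h2, h1, τ_zero, one_mul]
    show γ x * 1⁻¹ ∈ H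
    rw [inv_one, mul_one]
    exact hsub x h3
  · -- a word with a gap
    rw [Bool.and_eq_true, Bool.and_eq_true, decide_eq_true_eq, beq_iff_eq, beq_iff_eq] at hs
    obtain ⟨⟨h1, h2⟩, h3⟩ := hs
    set w := C.W.getD (C.rg a x).2.2.1 [] with hw
    set p := (C.rg a x).2.2.2 with hp
    set a0 := (C.rg a x).2.1 with ha0
    have hwW : w = [] ∨ w ∈ C.W := by
      by_cases hk : (C.rg a x).2.2.1 < C.W.length
      · right
        rw [hw, List.getD_eq_getElem _ _ hk]
        exact List.getElem_mem _
      · left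
        rw [hw, List.getD_eq_default _ _ (by omega)]
    have hwm : (w.map γ).prod = 1 := by
      rcases hwW with h | h
      · rw [h]; simp
      · exact hW w h
    have hwl : ∀ y ∈ w, y < C.g := by
      rcases hwW with h | h
      · rw [h]; intro y hy; exact absurd hy (List.not_mem_nil)
      · exact hlet w h
    rw [ht'] at h2 h3
    have hF := C.scan_spec hG _ _ _ h2
    have hB := C.scan_spec hG _ _ _ h3
    rw [prod_reverse_inv C hinv _ fun y hy => hwl y (List.mem_of_mem_drop hy)] at hB
    have hpl : p < w.length := by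
      by_contra hcon
      rw [List.getElem?_eq_none (by omega)] at h1
      exact absurd h1 (by simp)
    have hsplit : w = w.take p ++ x :: w.drop (p + 1) := by
      have hx' : w[p] = x := by
        rw [List.getElem?_eq_getElem hpl] at h1
        exact Option.some.inj h1
      rw [← hx', ← List.drop_eq_getElem_cons hpl, List.take_append_drop]
    have hprod : ((w.take p).map γ).prod * γ x = (((w.drop (p + 1)).map γ).prod)⁻¹ := by
      have h5 := hwm
      rw [hsplit, List.map_append, List.prod_append, List.map_cons, List.prod_cons, ← mul_assoc] at h5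
      exact eq_inv_of_mul_eq_one_left h5
    have h6 := hF.mul_right (γ x)
    rw [mul_assoc, hprod] at h6
    exact h6.symm.trans hB

theorem good_all (hinv : ∀ x, x < C.g → γ (C.ivg x) = (γ x)⁻¹) (hsub : ∀ x ∈ C.sub, γ x ∈ H)
    (hW : ∀ w ∈ C.W, (w.map γ).prod = 1) (hlet : ∀ w ∈ C.W, ∀ x ∈ w, x < C.g)
    (hall : ∀ a, a < C.n → ∀ x, x < C.g → C.slotOK a x = true) : ∀ t, C.Good γ H t
  | 0 => fun _ _ _ _ h0 => absurd h0 (Nat.not_lt_zero _)
  | t + 1 => C.good_succ hinv hsub hW hlet hall (good_all hinv hsub hW hlet hall t)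

/-- **the checked table bounds the index** -/
theorem index_le (hinv : ∀ x, x < C.g → γ (C.ivg x) = (γ x)⁻¹) (hsub : ∀ x ∈ C.sub, γ x ∈ H)
    (hW : ∀ w ∈ C.W, (w.map γ).prod = 1)
    (hgen : ∀ z : Γ, ∃ u : List ℕ, (∀ x ∈ u, x < C.g) ∧ z = (u.map γ).prod)
    (hn : 0 < C.n) (hOK : C.allOK = true) : H.index ≤ C.n ∧ H.index ≠ 0 := by
  rw [allOK, Bool.and_eq_true] at hOK
  obtain ⟨hO1, hO2⟩ := hOK
  have hlet : ∀ w ∈ C.W, ∀ x ∈ w, x < C.g := by
    intro w hw x hx
    rw [List.all_eq_true] at hO1
    have h1 := hO1 w hw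
    rw [List.all_eq_true] at h1
    exact of_decide_eq_true (h1 x hx)
  have hall : ∀ a, a < C.n → ∀ x, x < C.g → C.slotOK a x = true := by
    intro a ha x hx
    rw [List.all_eq_true] at hO2
    have h1 := hO2 a (List.mem_range.2 ha)
    rw [List.all_eq_true] at h1
    exact h1 x (List.mem_range.2 hx)
  refine index_le_of_closed (C.τ γ) (C.τ_zero γ) hn (fun a ha x hx => ?_) hgen
  have hs := hall a ha x hx
  rw [slotOK, Bool.and_eq_true, decide_eq_true_eq] at hs
  exact ⟨C.Tg a x, hs.1, C.good_all hinv hsub hW hlet hall (C.tg a x + 1) a x ha hx (Nat.lt_succ_self _)⟩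

end sound

end ICert

theorem prod_map_reverse_iv {Γ : Type*} [Group Γ] (γ : ℕ → Γ) (g : ℕ) (iv : ℕ → ℕ)
    (hinv : ∀ x, x < g → iv x < g ∧ γ (iv x) = (γ x)⁻¹) : ∀ u : List ℕ, (∀ x ∈ u, x < g) →
    (((u.reverse).map iv).map γ).prod = ((u.map γ).prod)⁻¹
  | [], _ => by simp
  | y :: u, hu => by
    have hy := (hinv y (hu y List.mem_cons_self)).2
    have ih := prod_map_reverse_iv γ g iv hinv u fun x hx => hu x (List.mem_cons_of_mem _ hx)
    simp only [List.reverse_cons, List.map_append, List.prod_append, ih,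
      List.map_cons, List.map_nil, List.prod_cons, List.prod_nil, mul_one, mul_inv_rev, hy]

/-- words for the elements of a group generated by a family closed under inverses -/
theorem exists_word_of_closure {Γ : Type*} [Group Γ] (γ : ℕ → Γ) (g : ℕ) (iv : ℕ → ℕ)
    (hinv : ∀ x, x < g → iv x < g ∧ γ (iv x) = (γ x)⁻¹)
    (h : Subgroup.closure (γ '' Set.Iio g) = ⊤) (z : Γ) :
    ∃ u : List ℕ, (∀ x ∈ u, x < g) ∧ z = (u.map γ).prod := by
  have hz : z ∈ Subgroup.closure (γ '' Set.Iio g) := by rw [h]; exact Subgroup.mem_top _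
  induction hz using Subgroup.closure_induction with
  | mem z hz =>
    obtain ⟨x, hx, rfl⟩ := hz
    exact ⟨[x], by simpa using hx, by simp⟩
  | one => exact ⟨[], by simp, by simp⟩
  | mul a b _ _ ha hb =>
    obtain ⟨u, hu, rfl⟩ := ha
    obtain ⟨v, hv, rfl⟩ := hb
    refine ⟨u ++ v, ?_, by rw [List.map_append, List.prod_append]⟩
    intro x hx
    rcases List.mem_append.1 hx with h | h
    · exact hu x h
    · exact hv x h
  | inv a _ ha =>
    obtain ⟨u, hu, rfl⟩ := ha
    refine ⟨(u.reverse).map iv, ?_, (prod_map_reverse_iv γ g iv hinv u hu).symm⟩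
    intro x hx
    obtain ⟨y, hy, rfl⟩ := List.mem_map.1 hx
    exact (hinv y (hu y (List.mem_reverse.1 hy))).1

end Cfsg.Agent.Lib.Helper7.M12Mult
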