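import Cfsg.Agent.Lib.Helper6.M12Out4
import Cfsg.Agent.Lib.Helper7.M12MultB

/-!
# Data for the stem extensions of the stabilizer of a dodecad: six letters, three point stabilizers, a table

The six letters are commutators of elements of the stabilizers of two of the three points `0`, `2`, `3`
of the reference dodecad; the words of the table are trivial in the group, and each is a word in letters that fix
one of the three points, but for the last, which is a commutator with a trivial word.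
-/

set_option autoImplicit false
set_option maxRecDepth 1000000

namespace Cfsg.Agent.Lib.Helper7.M12Mult

open Cfsg Cfsg.Agent.Lib.Helper6.Golay Cfsg.Agent.Lib.Helper6.Golay.M12Out

/-! ### the data -/

/-- the words of the first elements of the commutators, in `y, z, u, y⁻¹, z⁻¹` -/
def pwL : List (List ℕ) := [[1, 2, 3, 1, 2, 3],
  [0, 4, 4, 3, 2, 0, 1, 2],
  [0, 2, 4, 0, 2, 4],
  [2, 0, 2, 0, 0, 0],
  [0, 1, 3, 3, 2, 3, 2],
  [0, 0, 0, 2, 3, 4]]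

/-- the words of the second elements of the commutators -/
def qwL : List (List ℕ) := [[2, 3, 3, 2, 4, 3, 2, 0, 4],
  [0, 2, 0, 0, 0, 2, 0, 1],
  [3, 2, 0, 1, 1, 2, 0],
  [0, 2, 3, 1, 2, 0, 1],
  [2, 3, 2, 3, 2, 0, 0, 4],
  [3, 2, 4, 4, 3, 2, 0]]

/-- the nine letters (six commutators, and the inverses of the second, fourth and sixth) as lists -/
def letLL : List (List ℕ) := [[0, 20, 2, 11, 4, 21, 8, 13, 6, 10, 9, 3, 12, 7, 14, 15, 18, 22, 16, 19, 1, 5, 17, 23],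
  [0, 15, 11, 3, 13, 16, 6, 7, 10, 4, 2, 8, 23, 14, 9, 1, 18, 20, 19, 5, 17, 22, 12, 21],
  [10, 1, 2, 3, 7, 16, 8, 4, 6, 9, 0, 14, 12, 13, 11, 20, 5, 21, 22, 19, 15, 17, 18, 23],
  [0, 17, 2, 10, 4, 16, 3, 9, 13, 8, 14, 11, 22, 7, 6, 21, 23, 1, 5, 12, 19, 15, 20, 18],
  [0, 21, 6, 3, 13, 18, 2, 7, 8, 10, 9, 14, 12, 4, 11, 22, 20, 17, 5, 19, 16, 1, 15, 23],
  [6, 22, 2, 3, 8, 12, 9, 4, 14, 11, 10, 0, 16, 13, 7, 17, 18, 15, 5, 20, 21, 23, 1, 19],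
  [0, 15, 10, 3, 9, 19, 6, 7, 11, 14, 8, 2, 22, 4, 13, 1, 5, 20, 16, 18, 17, 23, 21, 12],
  [0, 17, 2, 6, 4, 18, 14, 13, 9, 7, 3, 11, 19, 8, 10, 21, 5, 1, 23, 20, 22, 15, 12, 16],
  [11, 22, 2, 3, 7, 18, 0, 14, 4, 6, 10, 9, 5, 13, 8, 17, 12, 15, 16, 23, 19, 20, 1, 21]]

/-- the two points fixed by the elements of the commutators -/
def fixL : List (ℕ × ℕ) := [(0, 2), (0, 3), (2, 3), (2, 0), (3, 0), (3, 2)]

/-- the words in letters that fix the point `0` -/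
def relA : List (List ℕ) := [[0, 4, 0, 4, 1, 3, 1, 3],
  [0, 4, 1, 3, 0, 7, 6, 4],
  [0, 4, 7, 6, 7, 1, 1, 1]]

/-- the words in letters that fix the point `2` -/
def relB : List (List ℕ) := [[2, 0, 5, 7, 0, 7, 8],
  [2, 0, 7, 8, 2, 8, 3],
  [2, 3, 0, 5, 5, 5, 3, 3]]

/-- the words in letters that fix the point `3` -/
def relC : List (List ℕ) := [[4, 2, 4, 2, 4, 2],
  [4, 5, 4, 5, 1, 8],
  [4, 5, 6, 6, 2, 6],
  [4, 1, 5, 2, 4, 8, 1],
  [4, 1, 2, 6, 2, 5, 1, 2]]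

/-- the trivial word in all the letters -/
def cenW : List ℕ := [0, 5, 4, 3, 2, 1]

/-- the letter of the commutator word -/
def cenL : ℕ := 4

/-- the inverses of the letters -/
def ivL : List ℕ := [0, 6, 2, 7, 4, 8, 1, 3, 5]

/-- the letters that fix the point `0` -/
def setA : List ℕ := [0, 1, 3, 4, 6, 7]

/-- the letters that fix the point `2` -/
def setB : List ℕ := [0, 2, 3, 5, 7, 8]

/-- the letters that fix the point `3` -/
def setC : List ℕ := [1, 2, 4, 5, 6, 8]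

/-- the generators `y, z, u` as words in the letters -/
def genW : List (List ℕ) := [[2, 5, 2, 8, 0, 4, 1],
  [2, 5, 4, 7, 8, 1, 0],
  [0, 1, 5, 7, 5, 2, 7, 8]]

/-- the table -/
def cert : ICert where
  n := 24
  g := 9
  iv := ivL
  sub := setA
  T := [[0, 0, 1, 0, 0, 2, 0, 0, 3],
    [4, 5, 0, 6, 4, 7, 8, 9, 7],
    [6, 8, 10, 11, 10, 12, 5, 11, 0],
    [13, 14, 13, 9, 8, 0, 14, 6, 12],
    [1, 9, 4, 15, 1, 14, 16, 5, 11],
    [14, 2, 14, 4, 5, 17, 1, 18, 10],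
    [2, 6, 6, 3, 6, 6, 6, 1, 6],
    [12, 13, 19, 20, 12, 1, 21, 10, 1],
    [8, 1, 8, 8, 3, 8, 2, 8, 8],
    [9, 18, 11, 1, 11, 13, 4, 3, 22],
    [10, 23, 2, 7, 2, 5, 12, 14, 15],
    [20, 21, 9, 2, 9, 4, 13, 2, 19],
    [7, 10, 12, 22, 7, 3, 17, 13, 2],
    [3, 11, 3, 12, 13, 16, 7, 23, 9],
    [5, 3, 5, 10, 21, 19, 3, 20, 4],
    [23, 22, 16, 18, 15, 10, 22, 4, 17],
    [16, 4, 15, 17, 23, 22, 18, 17, 13],
    [17, 12, 22, 16, 18, 15, 23, 16, 5],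
    [22, 16, 18, 5, 17, 23, 9, 15, 23],
    [19, 19, 7, 19, 19, 11, 19, 19, 14],
    [11, 20, 20, 14, 20, 20, 20, 7, 20],
    [21, 7, 21, 21, 14, 21, 11, 21, 21],
    [18, 15, 17, 23, 22, 9, 15, 12, 16],
    [15, 17, 23, 13, 16, 18, 10, 22, 18]]
  tm := [[1, 2, 7, 4, 6, 9, 3, 5, 11],
    [13, 15, 8, 19, 167, 21, 23, 32, 103],
    [88, 29, 34, 42, 37, 44, 17, 137, 10],
    [46, 56, 48, 89, 26, 12, 100, 125, 85],
    [14, 174, 177, 60, 168, 160, 62, 40, 163],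
    [151, 18, 58, 41, 55, 64, 16, 68, 39],
    [87, 121, 123, 124, 120, 92, 122, 20, 93],
    [129, 52, 70, 72, 95, 104, 74, 134, 22],
    [116, 24, 31, 118, 25, 27, 30, 119, 28],
    [130, 156, 132, 33, 147, 51, 173, 90, 76],
    [117, 78, 35, 133, 36, 38, 84, 108, 211],
    [138, 153, 131, 136, 148, 162, 150, 43, 142],
    [128, 83, 91, 195, 94, 86, 67, 126, 45],
    [47, 149, 49, 127, 54, 171, 53, 111, 50],
    [152, 101, 59, 107, 106, 96, 57, 114, 161],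
    [179, 204, 198, 193, 199, 210, 201, 61, 207],
    [216, 63, 197, 214, 188, 189, 175, 213, 172],
    [209, 66, 181, 212, 165, 208, 80, 215, 65],
    [205, 176, 184, 69, 166, 169, 155, 194, 182],
    [157, 98, 71, 144, 102, 143, 99, 145, 97],
    [139, 159, 146, 113, 164, 140, 158, 73, 141],
    [135, 75, 115, 191, 105, 110, 154, 192, 109],
    [206, 202, 180, 185, 200, 77, 203, 196, 190],
    [178, 81, 82, 112, 187, 183, 79, 186, 170]]
  rs := [[(2, 0, 0, 0), (2, 0, 0, 0), (0, 0, 0, 0), (2, 0, 0, 0), (2, 0, 0, 0), (0, 0, 0, 0), (1, 0, 0, 0), (1, 0, 0, 0), (0, 0, 0, 0)],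
    [(0, 0, 0, 0), (0, 0, 0, 0), (1, 0, 0, 0), (0, 0, 0, 0), (3, 1, 7, 0), (0, 0, 0, 0), (0, 0, 0, 0), (0, 0, 0, 0), (3, 7, 7, 5)],
    [(1, 0, 0, 0), (3, 8, 7, 4), (0, 0, 0, 0), (0, 0, 0, 0), (1, 0, 0, 0), (0, 0, 0, 0), (3, 0, 8, 2), (1, 0, 0, 0), (1, 0, 0, 0)],
    [(0, 0, 0, 0), (0, 0, 0, 0), (3, 3, 3, 0), (3, 1, 5, 6), (1, 0, 0, 0), (1, 0, 0, 0), (3, 12, 10, 3), (1, 0, 0, 0), (3, 10, 9, 5)],
    [(1, 0, 0, 0), (1, 0, 0, 0), (3, 4, 3, 0), (0, 0, 0, 0), (1, 0, 0, 0), (3, 11, 5, 3), (0, 0, 0, 0), (3, 0, 4, 2), (1, 0, 0, 0)],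
    [(3, 5, 1, 0), (1, 0, 0, 0), (3, 3, 8, 4), (1, 0, 0, 0), (3, 13, 11, 6), (0, 0, 0, 0), (1, 0, 0, 0), (0, 0, 0, 0), (1, 0, 0, 0)],
    [(3, 0, 5, 2), (3, 6, 7, 4), (3, 6, 8, 4), (3, 3, 0, 7), (3, 2, 2, 1), (3, 10, 3, 2), (1, 0, 0, 0), (1, 0, 0, 0), (1, 0, 0, 0)],
    [(1, 0, 0, 0), (3, 3, 10, 6), (0, 0, 0, 0), (0, 0, 0, 0), (1, 0, 0, 0), (1, 0, 0, 0), (0, 0, 0, 0), (1, 0, 0, 0), (1, 0, 0, 0)],
    [(3, 13, 0, 2), (1, 0, 0, 0), (3, 0, 10, 4), (3, 6, 0, 5), (3, 8, 8, 0), (3, 3, 7, 1), (1, 0, 0, 0), (1, 0, 0, 0), (1, 0, 0, 0)],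
    [(3, 12, 3, 4), (1, 0, 0, 0), (1, 0, 0, 0), (1, 0, 0, 0), (3, 19, 9, 4), (1, 0, 0, 0), (3, 4, 8, 5), (1, 0, 0, 0), (0, 0, 0, 0)],
    [(3, 8, 1, 4), (0, 0, 0, 0), (1, 0, 0, 0), (3, 7, 0, 7), (3, 0, 9, 4), (3, 10, 10, 5), (1, 0, 0, 0), (1, 0, 0, 0), (1, 0, 0, 0)],
    [(3, 1, 3, 4), (3, 7, 2, 6), (3, 11, 4, 0), (3, 2, 5, 7), (1, 0, 0, 0), (3, 19, 5, 3), (1, 0, 0, 0), (1, 0, 0, 0), (3, 19, 3, 6)],
    [(3, 3, 5, 2), (3, 2, 10, 6), (3, 5, 10, 4), (3, 23, 5, 6), (3, 5, 9, 4), (1, 0, 0, 0), (1, 0, 0, 0), (3, 6, 3, 3), (1, 0, 0, 0)],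
    [(1, 0, 0, 0), (3, 2, 0, 6), (1, 0, 0, 0), (1, 0, 0, 0), (3, 3, 6, 4), (3, 11, 7, 3), (1, 0, 0, 0), (3, 3, 2, 2), (3, 1, 4, 5)],
    [(1, 0, 0, 0), (1, 0, 0, 0), (1, 0, 0, 0), (3, 10, 4, 6), (1, 0, 0, 0), (3, 8, 9, 2), (1, 0, 0, 0), (1, 0, 0, 0), (1, 0, 0, 0)],
    [(1, 0, 0, 0), (1, 0, 0, 0), (1, 0, 0, 0), (3, 18, 5, 7), (3, 15, 6, 0), (3, 23, 3, 2), (3, 22, 8, 5), (1, 0, 0, 0), (3, 17, 3, 6)],
    [(3, 15, 0, 2), (1, 0, 0, 0), (3, 7, 11, 8), (3, 17, 4, 6), (1, 0, 0, 0), (3, 17, 9, 2), (3, 13, 8, 2), (1, 0, 0, 0), (1, 0, 0, 0)],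
    [(3, 22, 3, 1), (3, 2, 7, 4), (1, 0, 0, 0), (3, 16, 4, 6), (3, 14, 11, 2), (1, 0, 0, 0), (3, 5, 8, 2), (1, 0, 0, 0), (1, 0, 0, 0)],
    [(3, 2, 3, 4), (1, 0, 0, 0), (3, 13, 4, 4), (1, 0, 0, 0), (1, 0, 0, 0), (3, 5, 7, 3), (3, 14, 2, 3), (1, 0, 0, 0), (3, 5, 4, 3)],
    [(3, 19, 2, 0), (3, 7, 10, 6), (1, 0, 0, 0), (3, 19, 4, 6), (3, 7, 6, 4), (1, 0, 0, 0), (1, 0, 0, 0), (1, 0, 0, 0), (1, 0, 0, 0)],
    [(1, 0, 0, 0), (1, 0, 0, 0), (3, 20, 4, 0), (3, 14, 5, 7), (3, 20, 10, 0), (3, 9, 3, 2), (3, 21, 2, 3), (1, 0, 0, 0), (1, 0, 0, 0)],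
    [(3, 21, 1, 0), (1, 0, 0, 0), (3, 19, 10, 4), (3, 20, 0, 5), (3, 21, 8, 0), (1, 0, 0, 0), (1, 0, 0, 0), (1, 0, 0, 0), (3, 7, 9, 5)],
    [(1, 0, 0, 0), (1, 0, 0, 0), (3, 4, 4, 4), (3, 23, 4, 6), (3, 17, 6, 4), (1, 0, 0, 0), (3, 23, 8, 2), (1, 0, 0, 0), (1, 0, 0, 0)],
    [(3, 11, 3, 4), (1, 0, 0, 0), (3, 10, 8, 4), (1, 0, 0, 0), (3, 11, 9, 4), (1, 0, 0, 0), (1, 0, 0, 0), (1, 0, 0, 0), (1, 0, 0, 0)]]
  par := [(0, 0), (0, 2), (0, 5), (0, 8), (1, 0), (1, 1), (1, 3), (1, 5), (1, 6), (1, 7), (2, 2), (2, 3), (2, 5), (3, 0), (3, 1), (4, 3), (4, 6), (5, 5), (5, 7), (7, 2), (7, 3), (7, 6), (9, 8), (10, 1)]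
  W := relA ++ relB ++ relC ++ [cenW ++ cenL :: ((cenW.reverse).map fun x => ivL.getD x 0) ++ [ivL.getD cenL 0]]

/-! ### words in the generators of the group -/

/-- the lists of `y, z, u, y⁻¹, z⁻¹` -/
def bL : ℕ → List ℕ
  | 0 => yL
  | 1 => zL
  | 2 => uL
  | 3 => lpow yL 10
  | 4 => lpow zL 4
  | _ => idl

/-- the elements `y, z, u, y⁻¹, z⁻¹` -/
noncomputable def bP : ℕ → Equiv.Perm GolayPt
  | 0 => y
  | 1 => z
  | 2 => u
  | 3 => y ^ 10
  | 4 => z ^ 4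
  | _ => 1

/-- the inverse of a letter of a word in the generators -/
def bi : ℕ → ℕ
  | 0 => 3
  | 1 => 4
  | 3 => 0
  | 4 => 1
  | x => x

/-- the list of a word in the generators -/
def wL : List ℕ → List ℕ
  | [] => idl
  | x :: w => lmul (bL x) (wL w)

/-- the element of a word in the generators -/
noncomputable def wP (w : List ℕ) : Equiv.Perm GolayPt := (w.map bP).prod

/-- the inverse word -/
def binv (w : List ℕ) : List ℕ := (w.reverse).map bi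

theorem bP_isL (x : ℕ) : IsL (bP x) (bL x) := by
  unfold bP bL
  split
  · exact y_isL
  · exact z_isL
  · exact u_isL
  · exact y_isL.pow 10
  · exact z_isL.pow 4
  · exact IsL.one

theorem bP_mem (x : ℕ) : bP x ∈ G := by
  unfold bP
  split
  · exact y_mem
  · exact z_mem
  · exact u_mem
  · exact pow_mem y_mem 10
  · exact pow_mem z_mem 4
  · exact one_mem _

theorem bP_bi (x : ℕ) : bP (bi x) = (bP x)⁻¹ := by
  have hy : y ^ 10 = y⁻¹ := by
    have h : y ^ 10 * y = 1 := by rw [← pow_succ]; exact y_pow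
    exact eq_inv_of_mul_eq_one_left h
  have hz : z ^ 4 = z⁻¹ := by
    have h : z ^ 4 * z = 1 := by rw [← pow_succ]; exact z_pow
    exact eq_inv_of_mul_eq_one_left h
  have hu : u = u⁻¹ := eq_inv_of_mul_eq_one_left u_sq
  unfold bi
  split
  · show y ^ 10 = y⁻¹
    exact hy
  · show z ^ 4 = z⁻¹
    exact hz
  · show y = (y ^ 10)⁻¹
    rw [hy, inv_inv]
  · show z = (z ^ 4)⁻¹
    rw [hz, inv_inv]
  · rename_i h0 h1 h3 h4
    unfold bP
    split
    · exact absurd rfl h0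
    · exact absurd rfl h1
    · exact hu
    · exact absurd rfl h3
    · exact absurd rfl h4
    · exact inv_one.symm

theorem wP_isL : ∀ w : List ℕ, IsL (wP w) (wL w)
  | [] => IsL.one
  | x :: w => by
    rw [wP, List.map_cons, List.prod_cons, wL]
    exact (bP_isL x).mul (wP_isL w)

theorem wP_mem (w : List ℕ) : wP w ∈ G :=
  Subgroup.list_prod_mem _ fun p hp => by
    obtain ⟨x, _, rfl⟩ := List.mem_map.1 hp
    exact bP_mem x

theorem wP_append (a b : List ℕ) : wP (a ++ b) = wP a * wP b := by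
  rw [wP, wP, wP, List.map_append, List.prod_append]

theorem wP_binv : ∀ w : List ℕ, wP (binv w) = (wP w)⁻¹
  | [] => by simp [wP, binv]
  | x :: w => by
    have ih := wP_binv w
    rw [binv] at ih ⊢
    rw [List.reverse_cons, List.map_append, wP_append, ih, List.map_cons, List.map_nil]
    rw [wP, wP, wP, List.map_cons, List.map_nil, List.prod_cons, List.prod_nil, mul_one, List.map_cons,
      List.prod_cons, mul_inv_rev, bP_bi]

/-- the element of the group of a word in the generators -/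
noncomputable def wG (w : List ℕ) : ↥G := ⟨wP w, wP_mem w⟩

/-! ### the letters -/

/-- the word of a letter -/
def lwW (k : ℕ) : List ℕ :=
  pwL.getD k [] ++ qwL.getD k [] ++ binv (pwL.getD k []) ++ binv (qwL.getD k [])

/-- the first element of a commutator -/
noncomputable def PG (k : ℕ) : ↥G := wG (pwL.getD k [])

/-- the second element of a commutator -/
noncomputable def QG (k : ℕ) : ↥G := wG (qwL.getD k [])

open scoped commutatorElement

theorem comm_val (k : ℕ) : (⁅PG k, QG k⁆ : ↥G).1 = wP (lwW k) := by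
  rw [commutatorElement_def, lwW, wP_append, wP_append, wP_append, wP_binv, wP_binv]
  rfl

/-- the nine letters in the group -/
noncomputable def letG (x : ℕ) : ↥G :=
  if x < 6 then ⁅PG x, QG x⁆ else if x < 9 then (⁅PG (2 * x - 11), QG (2 * x - 11)⁆)⁻¹ else 1

theorem chk_let : ∀ k < 6, wL (lwW k) = letLL.getD k idl := by decide +kernel

theorem chk_inv : ∀ k < 9, lmul (letLL.getD k idl) (letLL.getD (ivL.getD k 0) idl) = idl ∧
    wf (letLL.getD k idl) = true := by decide +kernel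

theorem isL_inv {a : Equiv.Perm GolayPt} {la lb : List ℕ} (ha : IsL a la) (hb : wf lb = true)
    (h : lmul la lb = idl) : IsL a⁻¹ lb := by
  refine ⟨hb, ?_⟩
  have h1 : ⇑a ∘ lfun lb = id := by
    rw [ha.2, ← lfun_lmul la hb, h, lfun_idl]
  funext p
  have h2 := congrFun h1 p
  simp only [Function.comp_apply, id] at h2
  rw [Equiv.Perm.inv_eq_iff_eq]
  exact h2.symm

theorem letG_isL : ∀ x : ℕ, IsL (letG x).1 (letLL.getD x idl) := by
  intro x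
  unfold letG
  split_ifs with h1 h2
  · rw [comm_val, ← chk_let x h1]
    exact wP_isL _
  · have hk : 2 * x - 11 < 6 := by omega
    have hc : IsL (⁅PG (2 * x - 11), QG (2 * x - 11)⁆ : ↥G).1 (letLL.getD (2 * x - 11) idl) := by
      rw [comm_val, ← chk_let _ hk]
      exact wP_isL _
    have hx : x = 6 ∨ x = 7 ∨ x = 8 := by omega
    have e : ivL.getD x 0 = 2 * x - 11 := by
      rcases hx with rfl | rfl | rfl <;> rfl
    have hi := chk_inv x h2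
    rw [e] at hi
    have hj := chk_inv (2 * x - 11) (by omega)
    have e2 : ivL.getD (2 * x - 11) 0 = x := by
      rcases hx with rfl | rfl | rfl <;> rfl
    rw [e2] at hj
    exact isL_inv hc hi.2 hj.1
  · rw [List.getD_eq_default _ _ (by simp [letLL]; omega)]
    exact IsL.one

theorem letG_ivL : ∀ x < 9, letG (ivL.getD x 0) = (letG x)⁻¹ := by
  intro x hx
  apply Subtype.ext
  have h1 := letG_isL (ivL.getD x 0)
  have h2 := isL_inv (letG_isL x) (chk_inv (ivL.getD x 0) (by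
    have : ∀ k < 9, ivL.getD k 0 < 9 := by decide
    exact this x hx)).2 (chk_inv x hx).1
  exact h1.ext h2

/-- the list of a word in the letters -/
def evW : List ℕ → List ℕ
  | [] => idl
  | x :: w => lmul (letLL.getD x idl) (evW w)

theorem evW_isL : ∀ w : List ℕ, IsL ((w.map letG).prod : ↥G).1 (evW w)
  | [] => IsL.one
  | x :: w => by
    rw [List.map_cons, List.prod_cons, evW]
    exact (letG_isL x).mul (evW_isL w)

theorem prod_letG_eq_one {w : List ℕ} (h : evW w = idl) : (w.map letG).prod = 1 := by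
  apply Subtype.ext
  exact (evW_isL w).ext' IsL.one h

/-! ### the checks -/

theorem chk_relA : ∀ w ∈ relA, (∀ x ∈ w, x ∈ setA) ∧ evW w = idl := by decide +kernel
theorem chk_relB : ∀ w ∈ relB, (∀ x ∈ w, x ∈ setB) ∧ evW w = idl := by decide +kernel
theorem chk_relC : ∀ w ∈ relC, (∀ x ∈ w, x ∈ setC) ∧ evW w = idl := by decide +kernel
theorem chk_cen : evW cenW = idl ∧ cenL < 9 ∧ ∀ x ∈ cenW, x < 9 := by decide +kernel
theorem chk_cert : cert.allOK = true := by decide +kernel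

/-- the elements of the commutators fix their two points -/
theorem chk_fix : ∀ k < 6, (wL (pwL.getD k [])).getD (fixL.getD k (0, 0)).1 0 = (fixL.getD k (0, 0)).1 ∧
    (wL (pwL.getD k [])).getD (fixL.getD k (0, 0)).2 0 = (fixL.getD k (0, 0)).2 ∧
    (wL (qwL.getD k [])).getD (fixL.getD k (0, 0)).1 0 = (fixL.getD k (0, 0)).1 ∧
    (wL (qwL.getD k [])).getD (fixL.getD k (0, 0)).2 0 = (fixL.getD k (0, 0)).2 := by decide +kernel

/-- the generators are words in the letters -/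
theorem chk_gen : evW (genW.getD 0 []) = yL ∧ evW (genW.getD 1 []) = zL ∧ evW (genW.getD 2 []) = uL ∧
    ∀ w ∈ genW, ∀ x ∈ w, x < 9 := by decide +kernel

/-- elements that move the point `0` to the points `2` and `3` -/
theorem chk_move : (wL [1, 3]).getD 0 0 = 2 ∧ (wL [3, 2]).getD 0 0 = 3 := by decide +kernel

end Cfsg.Agent.Lib.Helper7.M12Mult
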