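import Cfsg.Agent.Lib.Helper7.M12MultA
import Cfsg.Agent.Lib.Helper7.M12MultC
import Cfsg.Agent.Lib.Helper6.GolaySimple11
import Cfsg.Agent.H9.M11Mult

/-!
# The kernel of a stem extension of the stabilizer of a dodecad has at most two elements

The stabilizers of the points `0`, `2`, `3` of the dodecad are perfect and have no proper stem extension, so that the
derived subgroups of their preimages are mapped isomorphically onto them.  Six commutators of elements fixing two of the
three points lie in two of these derived subgroups each; they generate the extension, and the checked table shows that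
the first derived subgroup has index at most `24`.
-/

set_option autoImplicit false

namespace Cfsg.Agent.Lib.Helper7.M12Mult

open Cfsg Cfsg.Agent.Lib.Helper6.Golay Cfsg.Agent.Lib.Helper6.Golay.M12Out
open Cfsg.Agent.Lib.Helper6.Golay.M11Out
open scoped commutatorElement

universe u

/-! ### the point stabilizers -/

/-- the stabilizer of a point -/
def St (i : ℕ) : Subgroup ↥G := MulAction.stabilizer ↥G (pt i)

theorem mem_St {i : ℕ} {g : ↥G} : g ∈ St i ↔ g.1 (pt i) = pt i := Iff.rfl

/-- the stabilizer of the point `0` is the reference subgroup -/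
def e0 : ↥(St 0) ≃* ↥G0 where
  toFun g := ⟨g.1.1, mem_G0.2 ⟨g.1.2, mem_St.1 g.2⟩⟩
  invFun g := ⟨⟨g.1, (mem_G0.1 g.2).1⟩, mem_St.2 (mem_G0.1 g.2).2⟩
  left_inv _ := rfl
  right_inv _ := rfl
  map_mul' _ _ := rfl

theorem perfect_of_simple {S : Type*} [Group S] [IsSimpleGroup S] (hnc : ¬ ∀ a b : S, a * b = b * a) :
    commutator S = ⊤ := by
  have hn : (commutator S).Normal := by
    rw [commutator_def]
    infer_instance
  rcases hn.eq_bot_or_eq_top with h | h
  · exfalso
    apply hnc
    intro a b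
    have h1 : ⁅a, b⁆ ∈ commutator S := by
      rw [commutator_def]
      exact Subgroup.commutator_mem_commutator (Subgroup.mem_top a) (Subgroup.mem_top b)
    rw [h, Subgroup.mem_bot, commutatorElement_eq_one_iff_mul_comm] at h1
    exact h1
  · exact h

theorem perfect_G0 : commutator ↥G0 = ⊤ := by
  have : IsSimpleGroup ↥G0 := isSimpleGroup_M11ref
  apply perfect_of_simple
  intro h
  have h1 := congrArg Subtype.val (h M11Out.sG M11Out.zG)
  have h2 : s2 * z2 = z2 * s2 := h1
  rw [sz2] at h2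
  have h3 : z2 ^ 2 = z2 := mul_right_cancel h2
  have h4 : z2 = 1 := by
    rw [pow_two] at h3
    exact mul_eq_left.1 h3
  exact Cfsg.Agent.H9.M11Mult.z2_ne h4

theorem MF_G0 : MF.{u} ↥G0 := fun _ _ _ τ hs hc hd => Cfsg.Agent.H9.M11Mult.ker_eq_bot τ hs hc hd

theorem perfect_of_equiv {A B : Type*} [Group A] [Group B] (e : A ≃* B) (h : commutator A = ⊤) :
    commutator B = ⊤ := by
  rw [Subgroup.eq_top_iff']
  intro b
  have h1 : e.symm b ∈ commutator A := by rw [h]; exact Subgroup.mem_top _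
  have h2 : ∀ a ∈ commutator A, e a ∈ commutator B := by
    intro a ha
    rw [commutator_eq_closure] at ha
    induction ha using Subgroup.closure_induction with
    | mem a ha =>
      obtain ⟨p, q, rfl⟩ := ha
      rw [map_commutatorElement, commutator_def]
      exact Subgroup.commutator_mem_commutator (Subgroup.mem_top _) (Subgroup.mem_top _)
    | one => rw [map_one]; exact one_mem _
    | mul x y _ _ hx hy => rw [map_mul]; exact mul_mem hx hy
    | inv x _ hx => rw [map_inv]; exact inv_mem hx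
  have := h2 _ h1
  rwa [MulEquiv.apply_symm_apply] at this

/-- a subgroup is perfect and has no proper stem extension -/
def Nice (Q : Subgroup ↥G) : Prop := commutator ↥Q = ⊤ ∧ MF.{u} ↥Q

theorem nice_St0 : Nice.{u} (St 0) :=
  ⟨perfect_of_equiv e0.symm perfect_G0, MF.of_equiv e0.symm MF_G0⟩

theorem nice_St_of_move {i : ℕ} (r : ↥G) (hr : r.1 (pt 0) = pt i) : Nice.{u} (St i) := by
  have e : St i = (St 0).map (MulAut.conj r).toMonoidHom := by
    rw [St, St, ← MulAction.stabilizer_smul_eq_stabilizer_map_conj]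
    congr 1
    exact hr.symm
  rw [e]
  have f := (St 0).equivMapOfInjective (MulAut.conj r).toMonoidHom (MulAut.conj r).injective
  exact ⟨perfect_of_equiv f (nice_St0.{u}).1, MF.of_equiv f (nice_St0.{u}).2⟩

theorem nice_St2 : Nice.{u} (St 2) :=
  nice_St_of_move (wG [1, 3]) (by
    show wP [1, 3] (pt 0) = pt 2
    rw [(wP_isL _).apply (by norm_num), chk_move.1])

theorem nice_St3 : Nice.{u} (St 3) :=
  nice_St_of_move (wG [3, 2]) (by
    show wP [3, 2] (pt 0) = pt 3
    rw [(wP_isL _).apply (by norm_num), chk_move.2])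

theorem card_St0 : Nat.card ↥(St 0) = 7920 := by
  rw [Nat.card_congr e0.toEquiv]
  exact G0_card

/-! ### the elements of the commutators fix their points -/

theorem PG_mem (k : ℕ) (hk : k < 6) :
    PG k ∈ St (fixL.getD k (0, 0)).1 ∧ PG k ∈ St (fixL.getD k (0, 0)).2 ∧
    QG k ∈ St (fixL.getD k (0, 0)).1 ∧ QG k ∈ St (fixL.getD k (0, 0)).2 := by
  have h := chk_fix k hk
  have hlt : (fixL.getD k (0, 0)).1 < 24 ∧ (fixL.getD k (0, 0)).2 < 24 := by
    have : ∀ k < 6, (fixL.getD k (0, 0)).1 < 24 ∧ (fixL.getD k (0, 0)).2 < 24 := by decide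
    exact this k hk
  refine ⟨?_, ?_, ?_, ?_⟩
  · show wP _ (pt _) = pt _
    rw [(wP_isL _).apply hlt.1, h.1]
  · show wP _ (pt _) = pt _
    rw [(wP_isL _).apply hlt.2, h.2.1]
  · show wP _ (pt _) = pt _
    rw [(wP_isL _).apply hlt.1, h.2.2.1]
  · show wP _ (pt _) = pt _
    rw [(wP_isL _).apply hlt.2, h.2.2.2]

/-- the commutator that belongs to a letter -/
def bs (x : ℕ) : ℕ := if x < 6 then x else 2 * x - 11

theorem chk_sets : (∀ x ∈ setA, x < 9 ∧ ((fixL.getD (bs x) (0, 0)).1 = 0 ∨ (fixL.getD (bs x) (0, 0)).2 = 0)) ∧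
    (∀ x ∈ setB, x < 9 ∧ ((fixL.getD (bs x) (0, 0)).1 = 2 ∨ (fixL.getD (bs x) (0, 0)).2 = 2)) ∧
    (∀ x ∈ setC, x < 9 ∧ ((fixL.getD (bs x) (0, 0)).1 = 3 ∨ (fixL.getD (bs x) (0, 0)).2 = 3)) := by
  decide

/-! ### the lifts -/

section lifts

variable {Γ : Type u} [Group Γ] (σ : Γ →* ↥G) (hsurj : Function.Surjective σ)

/-- a lift of an element -/
noncomputable def lft (g : ↥G) : Γ := Classical.choose (hsurj g)

theorem map_lft (g : ↥G) : σ (lft σ hsurj g) = g := Classical.choose_spec (hsurj g)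

/-- the commutator of the lifts -/
noncomputable def cm (k : ℕ) : Γ := ⁅lft σ hsurj (PG k), lft σ hsurj (QG k)⁆

/-- the lifts of the letters -/
noncomputable def gam (x : ℕ) : Γ :=
  if x < 6 then cm σ hsurj x else if x < 9 then (cm σ hsurj (2 * x - 11))⁻¹ else 1

theorem map_cm (k : ℕ) : σ (cm σ hsurj k) = ⁅PG k, QG k⁆ := by
  rw [cm, map_commutatorElement, map_lft, map_lft]

theorem map_gam (x : ℕ) : σ (gam σ hsurj x) = letG x := by
  unfold gam letG
  split_ifs
  · exact map_cm σ hsurj x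
  · rw [map_inv, map_cm]
  · exact map_one σ

theorem gam_eq (x : ℕ) (hx : x < 9) :
    gam σ hsurj x = cm σ hsurj (bs x) ∨ gam σ hsurj x = (cm σ hsurj (bs x))⁻¹ := by
  unfold gam bs
  split_ifs
  · exact Or.inl rfl
  · exact Or.inr rfl

theorem cm_mem (k : ℕ) (hk : k < 6) : cm σ hsurj k ∈ Mt σ (St (fixL.getD k (0, 0)).1) ∧
    cm σ hsurj k ∈ Mt σ (St (fixL.getD k (0, 0)).2) := by
  have h := PG_mem k hk
  constructor
  · exact commutator_mem_Mt σ (by rw [map_lft]; exact h.1) (by rw [map_lft]; exact h.2.2.1)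
  · exact commutator_mem_Mt σ (by rw [map_lft]; exact h.2.1) (by rw [map_lft]; exact h.2.2.2)

theorem gam_mem (x i : ℕ) (hx : x < 9)
    (hi : (fixL.getD (bs x) (0, 0)).1 = i ∨ (fixL.getD (bs x) (0, 0)).2 = i) :
    gam σ hsurj x ∈ Mt σ (St i) := by
  have hb : bs x < 6 := by unfold bs; split_ifs <;> omega
  have h := cm_mem σ hsurj (bs x) hb
  have hc : cm σ hsurj (bs x) ∈ Mt σ (St i) := by
    rcases hi with rfl | rfl
    · exact h.1
    · exact h.2
  rcases gam_eq σ hsurj x hx with e | e
  · rw [e]; exact hc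
  · rw [e]; exact inv_mem hc

theorem nice_pt : ∀ k < 6, Nice.{u} (St (fixL.getD k (0, 0)).1) := by
  intro k hk
  have hk' : k = 0 ∨ k = 1 ∨ k = 2 ∨ k = 3 ∨ k = 4 ∨ k = 5 := by omega
  rcases hk' with rfl | rfl | rfl | rfl | rfl | rfl
  · exact nice_St0
  · exact nice_St0
  · exact nice_St2
  · exact nice_St2
  · exact nice_St3
  · exact nice_St3

theorem chk_iv : ∀ x < 9, cert.ivg x < 9 ∧ bs (cert.ivg x) = bs x := by decide

variable [Finite Γ] (hcen : σ.ker ≤ Subgroup.center Γ)

include hcen in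
theorem gam_iv (x : ℕ) (hx : x < 9) : gam σ hsurj (cert.ivg x) = (gam σ hsurj x)⁻¹ := by
  have hb : bs x < 6 := by unfold bs; split_ifs <;> omega
  have hi := chk_iv x hx
  have hN := nice_pt.{u} (bs x) hb
  have h1 := gam_mem σ hsurj x _ hx (Or.inl rfl)
  have h2 := gam_mem σ hsurj (cert.ivg x) (fixL.getD (bs x) (0, 0)).1 hi.1 (Or.inl (by rw [hi.2]))
  have h3 : gam σ hsurj (cert.ivg x) * gam σ hsurj x = 1 := by
    apply eq_one_of_mem_Mt hsurj hcen _ hN.1 hN.2 (mul_mem h2 h1)
    rw [map_mul, map_gam, map_gam]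
    have := letG_ivL x hx
    rw [show ivL.getD x 0 = cert.ivg x from rfl] at this
    rw [this, inv_mul_cancel]
  exact eq_inv_of_mul_eq_one_left h3

include hcen in
/-- a word in letters that fix one of the three points, trivial in the group, is trivial -/
theorem prod_gam_eq_one {i : ℕ} (hN : Nice.{u} (St i)) {w : List ℕ}
    (hw : ∀ x ∈ w, x < 9 ∧ ((fixL.getD (bs x) (0, 0)).1 = i ∨ (fixL.getD (bs x) (0, 0)).2 = i))
    (h1 : evW w = idl) : (w.map (gam σ hsurj)).prod = 1 := by
  apply prod_eq_one_of_Mt hsurj hcen _ hN.1 hN.2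
  · intro z hz
    obtain ⟨x, hx, rfl⟩ := List.mem_map.1 hz
    exact gam_mem σ hsurj x i (hw x hx).1 (hw x hx).2
  · rw [List.map_map]
    have : (σ ∘ gam σ hsurj) = letG := funext fun x => map_gam σ hsurj x
    rw [this]
    exact prod_letG_eq_one h1

include hcen in
theorem words_ok : ∀ w ∈ cert.W, (w.map (gam σ hsurj)).prod = 1 := by
  intro w hw
  have hW : cert.W = relA ++ relB ++ relC ++
      [cenW ++ cenL :: ((cenW.reverse).map fun x => ivL.getD x 0) ++ [ivL.getD cenL 0]] := rfl
  rw [hW, List.mem_append, List.mem_append, List.mem_append, List.mem_singleton] at hw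
  rcases hw with ((hw | hw) | hw) | hw
  · have h := chk_relA w hw
    exact prod_gam_eq_one σ hsurj hcen nice_St0 (fun x hx => chk_sets.1 x (h.1 x hx)) h.2
  · have h := chk_relB w hw
    exact prod_gam_eq_one σ hsurj hcen nice_St2 (fun x hx => chk_sets.2.1 x (h.1 x hx)) h.2
  · have h := chk_relC w hw
    exact prod_gam_eq_one σ hsurj hcen nice_St3 (fun x hx => chk_sets.2.2 x (h.1 x hx)) h.2
  · -- the commutator with a trivial word
    rw [hw]
    have hc := chk_cen
    have e1 : ((cenW.reverse.map fun x => ivL.getD x 0).map (gam σ hsurj)).prod =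
        ((cenW.map (gam σ hsurj)).prod)⁻¹ :=
      prod_map_reverse_iv (gam σ hsurj) 9 (fun x => ivL.getD x 0)
        (fun x hx => ⟨(chk_iv x hx).1, gam_iv σ hsurj hcen x hx⟩) cenW hc.2.2
    have e2 : gam σ hsurj (ivL.getD cenL 0) = (gam σ hsurj cenL)⁻¹ := gam_iv σ hsurj hcen cenL hc.2.1
    simp only [List.map_append, List.map_cons, List.map_nil, List.prod_append, List.prod_cons, List.prod_nil,
      mul_one]
    rw [e1, e2]
    have h1 : σ ((cenW.map (gam σ hsurj)).prod) = 1 := by
      rw [map_list_prod, List.map_map]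
      have : (σ ∘ gam σ hsurj) = letG := funext fun x => map_gam σ hsurj x
      rw [this]
      exact prod_letG_eq_one hc.1
    have := comm_of_map_eq_one hcen h1 (gam σ hsurj cenL)
    rw [← this]
    group

/-- the letters generate the group -/
theorem closure_letG : Subgroup.closure (letG '' Set.Iio 9) = ⊤ := by
  have hy : M12Out.yG ∈ Subgroup.closure (letG '' Set.Iio 9) := by
    have e : M12Out.yG = ((genW.getD 0 []).map letG).prod :=
      Subtype.ext (y_isL.ext' (evW_isL _) chk_gen.1.symm)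
    rw [e]
    refine Subgroup.list_prod_mem _ fun z hz => ?_
    obtain ⟨x, hx, rfl⟩ := List.mem_map.1 hz
    exact Subgroup.subset_closure ⟨x, chk_gen.2.2.2 _ (by simp [genW]) x hx, rfl⟩
  have hz : M12Out.zG ∈ Subgroup.closure (letG '' Set.Iio 9) := by
    have e : M12Out.zG = ((genW.getD 1 []).map letG).prod :=
      Subtype.ext (z_isL.ext' (evW_isL _) chk_gen.2.1.symm)
    rw [e]
    refine Subgroup.list_prod_mem _ fun z hz => ?_
    obtain ⟨x, hx, rfl⟩ := List.mem_map.1 hz
    exact Subgroup.subset_closure ⟨x, chk_gen.2.2.2 _ (by simp [genW]) x hx, rfl⟩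
  have hu : M12Out.uG ∈ Subgroup.closure (letG '' Set.Iio 9) := by
    have e : M12Out.uG = ((genW.getD 2 []).map letG).prod :=
      Subtype.ext (u_isL.ext' (evW_isL _) chk_gen.2.2.1.symm)
    rw [e]
    refine Subgroup.list_prod_mem _ fun z hz => ?_
    obtain ⟨x, hx, rfl⟩ := List.mem_map.1 hz
    exact Subgroup.subset_closure ⟨x, chk_gen.2.2.2 _ (by simp [genW]) x hx, rfl⟩
  have hK : Subgroup.closure ({M12Out.yG, M12Out.zG, M12Out.uG} : Set ↥G) = ⊤ := by
    apply Subgroup.map_injective G.subtype_injective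
    rw [MonoidHom.map_closure, ← MonoidHom.range_eq_map, Subgroup.range_subtype]
    have : (G.subtype '' ({M12Out.yG, M12Out.zG, M12Out.uG} : Set ↥G)) = {y, z, u} := by
      rw [Set.image_insert_eq, Set.image_insert_eq, Set.image_singleton]
      rfl
    rw [this]
    exact K_eq
  rw [eq_top_iff, ← hK, Subgroup.closure_le]
  rintro g (rfl | rfl | rfl)
  · exact hy
  · exact hz
  · exact hu

variable (hder : σ.ker ≤ commutator Γ)

omit [Finite Γ] in
include hcen hder in
theorem closure_gam : Subgroup.closure (gam σ hsurj '' Set.Iio 9) = ⊤ := by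
  apply closure_eq_top_of_stem hcen hder
  have key : ∀ g ∈ Subgroup.closure (letG '' Set.Iio 9),
      ∃ x ∈ Subgroup.closure (gam σ hsurj '' Set.Iio 9), σ x = g := by
    intro g hg
    induction hg using Subgroup.closure_induction with
    | mem g hg =>
      obtain ⟨x, hx, rfl⟩ := hg
      exact ⟨gam σ hsurj x, Subgroup.subset_closure ⟨x, hx, rfl⟩, map_gam σ hsurj x⟩
    | one => exact ⟨1, one_mem _, map_one σ⟩
    | mul a b _ _ ha hb =>
      obtain ⟨x, hx, rfl⟩ := ha
      obtain ⟨y, hy, rfl⟩ := hb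
      exact ⟨x * y, mul_mem hx hy, map_mul σ x y⟩
    | inv a _ ha =>
      obtain ⟨x, hx, rfl⟩ := ha
      exact ⟨x⁻¹, inv_mem hx, map_inv σ x⟩
  intro g
  exact key g (by rw [closure_letG]; exact Subgroup.mem_top _)

include hsurj hcen hder in
/-- **the order of a stem extension** -/
theorem card_le : Nat.card Γ ≤ 24 * 7920 := by
  have hinv : ∀ x, x < cert.g → gam σ hsurj (cert.ivg x) = (gam σ hsurj x)⁻¹ :=
    fun x hx => gam_iv σ hsurj hcen x hx
  have hsub : ∀ x ∈ cert.sub, gam σ hsurj x ∈ Mt σ (St 0) := by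
    intro x hx
    have h := chk_sets.1 x hx
    exact gam_mem σ hsurj x 0 h.1 h.2
  have hgen : ∀ z : Γ, ∃ w : List ℕ, (∀ x ∈ w, x < cert.g) ∧ z = (w.map (gam σ hsurj)).prod :=
    exists_word_of_closure (gam σ hsurj) 9 cert.ivg
      (fun x hx => ⟨(chk_iv x hx).1, gam_iv σ hsurj hcen x hx⟩) (closure_gam σ hsurj hcen hder)
  have hidx := cert.index_le (γ := gam σ hsurj) (H := Mt σ (St 0)) hinv hsub (words_ok σ hsurj hcen) hgen
    (by decide) chk_cert
  have hN := nice_St0.{u}
  have hc := card_Mt_le hsurj hcen (St 0) hN.1 hN.2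
  rw [card_St0] at hc
  exact card_le_of_index_le _ hidx.1 hc

include hsurj hcen hder in
theorem card_ker_le : Nat.card σ.ker ≤ 2 := by
  have h1 := card_le σ hsurj hcen hder
  have h2 := Subgroup.card_mul_index σ.ker
  rw [Subgroup.index_ker, MonoidHom.range_eq_top.2 hsurj, Subgroup.card_top, G_card] at h2
  have : Nat.card σ.ker * 95040 ≤ 2 * 95040 := by
    rw [h2]
    exact h1
  exact Nat.le_of_mul_le_mul_right this (by norm_num)

end lifts

end Cfsg.Agent.Lib.Helper7.M12Mult
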