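import Cfsg.Agent.Lib.Helper7.M12MultD
import Cfsg.Agent.Lib.Helper6.PM11Simple

/-!
# A stem extension of the stabilizer of a dodecad with kernel of order two

Nine permutations of the twenty-four signed points of the dodecad, paired with the nine letters, generate a group
that maps onto the stabilizer of the dodecad.  The checked table (the first two letters satisfy the presentation of
the point stabilizer, a group of order `7920`) shows that the group has at most `24 * 7920` elements, so the kernel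
has at most two; the product of the six letters is a nontrivial element of the kernel, and a commutator.
-/

set_option autoImplicit false
set_option maxRecDepth 1000000

namespace Cfsg.Agent.Lib.Helper7.M12Mult

open Cfsg Cfsg.Agent.Lib.Helper6.Golay Cfsg.Agent.Lib.Helper6.Golay.M12Out
open Cfsg.Agent.Lib.Helper6.PGrp
open scoped commutatorElement

/-! ### the data -/

/-- the nine letters of the extension as lists -/
def sgLL : List (List ℕ) := [[0, 1, 21, 3, 18, 22, 16, 8, 7, 14, 17, 11, 12, 13, 9, 15, 6, 10, 4, 20, 19, 2, 5, 23],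
  [0, 21, 2, 10, 16, 17, 20, 15, 1, 6, 11, 19, 12, 9, 14, 22, 4, 5, 8, 3, 13, 18, 23, 7],
  [20, 1, 2, 5, 18, 3, 16, 7, 12, 23, 10, 21, 8, 13, 14, 17, 6, 15, 4, 19, 0, 11, 22, 9],
  [0, 1, 8, 15, 14, 19, 10, 18, 23, 21, 5, 4, 12, 13, 20, 3, 2, 7, 22, 6, 11, 9, 17, 16],
  [0, 16, 2, 22, 13, 5, 6, 8, 7, 23, 15, 21, 12, 4, 14, 10, 1, 17, 18, 20, 19, 11, 3, 9],
  [4, 1, 2, 18, 7, 15, 23, 9, 20, 0, 22, 17, 16, 13, 14, 6, 19, 3, 11, 21, 8, 12, 10, 5],
  [0, 8, 2, 19, 16, 17, 9, 23, 18, 13, 3, 10, 12, 20, 14, 7, 4, 5, 21, 11, 6, 1, 15, 22],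
  [0, 1, 16, 15, 11, 10, 19, 17, 2, 21, 6, 20, 12, 13, 4, 3, 23, 22, 7, 5, 14, 9, 18, 8],
  [9, 1, 2, 17, 0, 23, 15, 4, 20, 7, 22, 18, 21, 13, 14, 5, 12, 11, 3, 16, 8, 19, 10, 6]]

/-- the fourth and the fifth letter as words in the first two -/
def subW : List (List ℕ) := [[6, 0, 6, 0, 1],
  [6, 0, 1, 0, 6, 0, 1]]

/-- the words of the standard presentation of the point stabilizer -/
def atlasW : List (List ℕ) := [[0, 0],
  [1, 1, 1, 1],
  [0, 1, 0, 1, 0, 1, 0, 1, 0, 1, 0, 1, 0, 1, 0, 1, 0, 1, 0, 1, 0, 1],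
  [0, 1, 1, 0, 1, 1, 0, 1, 1, 0, 1, 1, 0, 1, 1, 0, 1, 1],
  [0, 1, 0, 1, 0, 6, 0, 1, 0, 1, 1, 0, 6, 0, 1, 0, 6, 0, 6]]

/-- the two words whose commutator is the central involution -/
def comP : List ℕ := [0, 3]
def comQ : List ℕ := [2, 1, 8, 1, 8, 1]

/-! ### the permutations of the signed points -/

theorem chk_sg : ∀ x < 9, wf (sgLL.getD x idl) = true ∧ (sgLL.getD x idl).Nodup := by decide +kernel

theorem sg_ok (x : ℕ) : wf (sgLL.getD x idl) = true ∧ (sgLL.getD x idl).Nodup := by
  rcases Nat.lt_or_ge x 9 with h | h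
  · exact chk_sg x h
  · rw [List.getD_eq_default _ _ (by simp [sgLL]; omega)]
    exact ⟨wf_idl, by decide⟩

theorem exists_perm_of_nodup {l : List ℕ} (h : wf l = true ∧ l.Nodup) :
    ∃ g : Equiv.Perm GolayPt, IsL g l := by
  have hinj := lfun_inj_of_nodup h.1 h.2
  exact ⟨Equiv.ofBijective (lfun l) (Finite.injective_iff_bijective.1 hinj), h.1, rfl⟩

/-- the permutations of the signed points -/
noncomputable def sgP (x : ℕ) : Equiv.Perm GolayPt := Classical.choose (exists_perm_of_nodup (sg_ok x))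

theorem sgP_isL (x : ℕ) : IsL (sgP x) (sgLL.getD x idl) := Classical.choose_spec (exists_perm_of_nodup (sg_ok x))

/-- the list of a word in the permutations of the signed points -/
def evS : List ℕ → List ℕ
  | [] => idl
  | x :: w => lmul (sgLL.getD x idl) (evS w)

theorem evS_isL : ∀ w : List ℕ, IsL (w.map sgP).prod (evS w)
  | [] => IsL.one
  | x :: w => by
    rw [List.map_cons, List.prod_cons, evS]
    exact (sgP_isL x).mul (evS_isL w)

/-- the letters of the extension -/
noncomputable def gX (x : ℕ) : Equiv.Perm GolayPt × ↥G := (sgP x, letG x)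

theorem gX_of_ge {x : ℕ} (h : 9 ≤ x) : gX x = 1 := by
  apply Prod.ext
  · have h1 := sgP_isL x
    rw [List.getD_eq_default _ _ (by simp [sgLL]; omega)] at h1
    exact h1.ext IsL.one
  · show letG x = 1
    unfold letG
    rw [if_neg (by omega), if_neg (by omega)]

/-- the extension -/
def GE : Subgroup (Equiv.Perm GolayPt × ↥G) := Subgroup.closure (gX '' Set.Iio 9)

theorem gX_mem (x : ℕ) : gX x ∈ GE := by
  rcases Nat.lt_or_ge x 9 with h | h
  · exact Subgroup.subset_closure ⟨x, h, rfl⟩
  · rw [gX_of_ge h]; exact one_mem _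

/-- the letters in the extension -/
noncomputable def gE (x : ℕ) : ↥GE := ⟨gX x, gX_mem x⟩

theorem prod_gE_val (w : List ℕ) : ((w.map gE).prod : ↥GE).1 = ((w.map sgP).prod, (w.map letG).prod) := by
  induction w with
  | nil => rfl
  | cons x w ih =>
    rw [List.map_cons, List.prod_cons, Subgroup.coe_mul, ih, List.map_cons, List.prod_cons, List.map_cons,
      List.prod_cons]
    rfl

/-- two words with the same lists give the same element -/
theorem prod_gE_eq {w w' : List ℕ} (h1 : evS w = evS w') (h2 : evW w = evW w') :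
    (w.map gE).prod = (w'.map gE).prod := by
  apply Subtype.ext
  rw [prod_gE_val, prod_gE_val]
  apply Prod.ext
  · exact (evS_isL w).ext' (evS_isL w') h1
  · exact Subtype.ext ((evW_isL w).ext' (evW_isL w') h2)

theorem prod_gE_eq_one {w : List ℕ} (h1 : evS w = idl) (h2 : evW w = idl) : (w.map gE).prod = 1 :=
  prod_gE_eq (w' := []) h1 h2

/-! ### the checks -/

theorem chk_words : ∀ w ∈ cert.W, evS w = idl ∧ evW w = idl := by decide +kernel

theorem chk_ivE : ∀ x < 9, evS [x, ivL.getD x 0] = idl ∧ evW [x, ivL.getD x 0] = idl := by decide +kernel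

theorem chk_atlas : ∀ w ∈ atlasW, evS w = idl ∧ evW w = idl := by decide +kernel

theorem chk_sub : evS (subW.getD 0 []) = evS [3] ∧ evW (subW.getD 0 []) = evW [3] ∧
    evS (subW.getD 1 []) = evS [4] ∧ evW (subW.getD 1 []) = evW [4] := by decide +kernel

theorem chk_com : evS (comP ++ comQ ++ ((comP.reverse).map fun x => ivL.getD x 0) ++
      ((comQ.reverse).map fun x => ivL.getD x 0)) = evS cenW ∧
    evW (comP ++ comQ ++ ((comP.reverse).map fun x => ivL.getD x 0) ++
      ((comQ.reverse).map fun x => ivL.getD x 0)) = evW cenW ∧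
    (∀ x ∈ comP, x < 9) ∧ (∀ x ∈ comQ, x < 9) ∧ evS cenW ≠ idl := by decide +kernel

/-! ### the properties of the extension -/

theorem gE_iv (x : ℕ) (hx : x < 9) : gE (ivL.getD x 0) = (gE x)⁻¹ := by
  have h := chk_ivE x hx
  have h1 : ([x, ivL.getD x 0].map gE).prod = 1 := prod_gE_eq_one h.1 h.2
  rw [List.map_cons, List.map_cons, List.map_nil, List.prod_cons, List.prod_cons, List.prod_nil, mul_one] at h1
  exact eq_inv_of_mul_eq_one_right h1

theorem gE_6 : gE 6 = (gE 1)⁻¹ := gE_iv 1 (by norm_num)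

theorem atlas_rel (k : ℕ) (hk : k < 5) : ((atlasW.getD k []).map gE).prod = 1 := by
  have hm : atlasW.getD k [] ∈ atlasW := by
    rw [List.getD_eq_getElem _ _ (by simpa [atlasW] using hk)]
    exact List.getElem_mem _
  have h := chk_atlas _ hm
  exact prod_gE_eq_one h.1 h.2

/-- the images of the two generators of the presentation -/
noncomputable def fM : PM11.Gen → ↥GE
  | PM11.Gen.a => gE 0
  | PM11.Gen.b => gE 1

set_option linter.unusedSimpArgs false in
theorem hrelsM : ∀ r ∈ Cfsg.Spor.coxRelators PM11.edges ∪ {r | r ∈ PM11.extra}, FreeGroup.lift fM r = 1 := by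
  intro r hr
  rcases hr with hr | hr
  · obtain ⟨x, hx, _⟩ := hr
    simp [Cfsg.Spor.coxNodes, PM11.edges] at hx
  · have h0 := atlas_rel 0 (by norm_num)
    have h1 := atlas_rel 1 (by norm_num)
    have h2 := atlas_rel 2 (by norm_num)
    have h3 := atlas_rel 3 (by norm_num)
    have h4 := atlas_rel 4 (by norm_num)
    simp only [atlasW, List.getD_cons_zero, List.getD_cons_succ, List.map_cons, List.map_nil, List.prod_cons,
      List.prod_nil, mul_one, gE_6] at h0 h1 h2 h3 h4
    simp only [PM11.extra, Set.mem_ofPred_eq, List.mem_cons, List.not_mem_nil, or_false] at hr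
    rcases hr with rfl | rfl | rfl | rfl | rfl
    · simp only [PM11.a, PM11.b, map_pow, map_mul, map_inv, FreeGroup.lift_apply_of, fM]
      rw [← h0]; simp only [pow_succ, pow_zero, one_mul, mul_assoc]
    · simp only [PM11.a, PM11.b, map_pow, map_mul, map_inv, FreeGroup.lift_apply_of, fM]
      rw [← h1]; simp only [pow_succ, pow_zero, one_mul, mul_assoc]
    · simp only [PM11.a, PM11.b, map_pow, map_mul, map_inv, FreeGroup.lift_apply_of, fM]
      rw [← h2]; simp only [pow_succ, pow_zero, one_mul, mul_assoc]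
    · simp only [PM11.a, PM11.b, map_pow, map_mul, map_inv, FreeGroup.lift_apply_of, fM]
      rw [← h3]; simp only [pow_succ, pow_zero, one_mul, mul_assoc]
    · simp only [PM11.a, PM11.b, map_pow, map_mul, map_inv, FreeGroup.lift_apply_of, fM]
      rw [← h4]; simp only [mul_assoc]

/-- the homomorphism from the presented group -/
noncomputable def phiM : PM11 →* ↥GE := PresentedGroup.toGroup hrelsM

/-- the subgroup generated by the first two letters -/
noncomputable def HE : Subgroup ↥GE := phiM.range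

theorem gE0_mem : gE 0 ∈ HE := ⟨PresentedGroup.of PM11.Gen.a, by
  show PresentedGroup.toGroup hrelsM (PresentedGroup.of PM11.Gen.a) = gE 0
  rw [PresentedGroup.toGroup.of]; rfl⟩

theorem gE1_mem : gE 1 ∈ HE := ⟨PresentedGroup.of PM11.Gen.b, by
  show PresentedGroup.toGroup hrelsM (PresentedGroup.of PM11.Gen.b) = gE 1
  rw [PresentedGroup.toGroup.of]; rfl⟩

theorem card_HE : Nat.card ↥HE ≤ 7920 := by
  have : Finite PM11 := Cfsg.Agent.Lib.Helper6.PM11Simple.ub.1
  have h := Nat.card_le_card_of_surjective phiM.rangeRestrict phiM.rangeRestrict_surjective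
  rw [Cfsg.Agent.Lib.Helper6.PM11Simple.main.2] at h
  exact h

theorem sub_mem : ∀ x ∈ cert.sub, gE x ∈ HE := by
  have h6 : gE 6 ∈ HE := by rw [gE_6]; exact inv_mem gE1_mem
  have hw : ∀ w : List ℕ, (∀ x ∈ w, x = 0 ∨ x = 1 ∨ x = 6) → (w.map gE).prod ∈ HE := by
    intro w hw
    refine Subgroup.list_prod_mem _ fun z hz => ?_
    obtain ⟨x, hx, rfl⟩ := List.mem_map.1 hz
    rcases hw x hx with rfl | rfl | rfl
    · exact gE0_mem
    · exact gE1_mem
    · exact h6
  have h3 : gE 3 ∈ HE := by
    have e : gE 3 = ((subW.getD 0 []).map gE).prod := by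
      have := prod_gE_eq (w := subW.getD 0 []) (w' := [3]) chk_sub.1 chk_sub.2.1
      rw [this]; simp
    rw [e]
    exact hw _ (by decide)
  have h4 : gE 4 ∈ HE := by
    have e : gE 4 = ((subW.getD 1 []).map gE).prod := by
      have := prod_gE_eq (w := subW.getD 1 []) (w' := [4]) chk_sub.2.2.1 chk_sub.2.2.2
      rw [this]; simp
    rw [e]
    exact hw _ (by decide)
  have h7 : gE 7 ∈ HE := by
    have := gE_iv 3 (by norm_num)
    rw [show ivL.getD 3 0 = 7 from rfl] at this
    rw [this]; exact inv_mem h3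
  intro x hx
  have hx' : x = 0 ∨ x = 1 ∨ x = 3 ∨ x = 4 ∨ x = 6 ∨ x = 7 := by
    have : cert.sub = [0, 1, 3, 4, 6, 7] := rfl
    rw [this] at hx
    simpa using hx
  rcases hx' with rfl | rfl | rfl | rfl | rfl | rfl
  · exact gE0_mem
  · exact gE1_mem
  · exact h3
  · exact h4
  · exact h6
  · exact h7

theorem closure_gE : Subgroup.closure (gE '' Set.Iio 9) = ⊤ := by
  have h := Subgroup.closure_closure_coe_preimage (k := gX '' Set.Iio 9)
  have e : ((↑) ⁻¹' (gX '' Set.Iio 9) : Set ↥(Subgroup.closure (gX '' Set.Iio 9))) = gE '' Set.Iio 9 := by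
    ext z
    constructor
    · rintro ⟨x, hx, hz⟩
      exact ⟨x, hx, Subtype.ext hz⟩
    · rintro ⟨x, hx, rfl⟩
      exact ⟨x, hx, rfl⟩
  rw [e] at h
  exact h

theorem card_GE : Nat.card ↥GE ≤ 24 * 7920 := by
  have hinv : ∀ x, x < cert.g → gE (cert.ivg x) = (gE x)⁻¹ := fun x hx => gE_iv x hx
  have hW : ∀ w ∈ cert.W, (w.map gE).prod = 1 := fun w hw =>
    prod_gE_eq_one (chk_words w hw).1 (chk_words w hw).2
  have hgen : ∀ z : ↥GE, ∃ w : List ℕ, (∀ x ∈ w, x < cert.g) ∧ z = (w.map gE).prod :=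
    exists_word_of_closure gE 9 cert.ivg (fun x hx => ⟨(chk_iv x hx).1, gE_iv x hx⟩) closure_gE
  have hidx := cert.index_le (γ := gE) (H := HE) hinv sub_mem hW hgen (by decide) chk_cert
  exact card_le_of_index_le _ hidx.1 card_HE

/-- the projection onto the stabilizer of the dodecad -/
noncomputable def sigE : ↥GE →* ↥G := (MonoidHom.snd _ _).comp GE.subtype

theorem sigE_gE (x : ℕ) : sigE (gE x) = letG x := rfl

theorem sigE_surjective : Function.Surjective sigE := by
  rw [← MonoidHom.range_eq_top, eq_top_iff, ← closure_letG, Subgroup.closure_le]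
  rintro _ ⟨x, _, rfl⟩
  exact ⟨gE x, rfl⟩

theorem card_ker_sigE_le : Nat.card sigE.ker ≤ 2 := by
  have h1 := card_GE
  have h2 := Subgroup.card_mul_index sigE.ker
  rw [Subgroup.index_ker, MonoidHom.range_eq_top.2 sigE_surjective, Subgroup.card_top, G_card] at h2
  have : Nat.card sigE.ker * 95040 ≤ 2 * 95040 := by
    rw [h2]
    exact h1
  exact Nat.le_of_mul_le_mul_right this (by norm_num)

/-- the central involution -/
noncomputable def zetaE : ↥GE := (cenW.map gE).prod

theorem zetaE_mem : zetaE ∈ sigE.ker := by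
  rw [MonoidHom.mem_ker, zetaE, map_list_prod, List.map_map]
  have : (sigE ∘ gE) = letG := rfl
  rw [this]
  exact prod_letG_eq_one chk_cen.1

theorem zetaE_ne : zetaE ≠ 1 := by
  intro h
  have h0 : ((cenW.map gE).prod : ↥GE).1 = 1 := by
    have := congrArg Subtype.val h
    exact this
  rw [prod_gE_val] at h0
  have h1 : (cenW.map sgP).prod = 1 := congrArg Prod.fst h0
  have h2 : IsL (cenW.map sgP).prod (evS cenW) := evS_isL cenW
  rw [h1] at h2
  have h3 := Cfsg.Agent.Lib.Helper6.Golay.M11Out.lfun_injective' h2.1 IsL.one.1 (h2.2.symm.trans IsL.one.2)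
  exact chk_com.2.2.2.2 h3

theorem card_ker_sigE : Nat.card sigE.ker = 2 := by
  have h1 := card_ker_sigE_le
  have : Nontrivial ↥sigE.ker := ⟨⟨⟨zetaE, zetaE_mem⟩, 1, fun h => zetaE_ne (congrArg Subtype.val h)⟩⟩
  have h2 := Finite.one_lt_card_iff_nontrivial.2 this
  omega

theorem ker_eq (k : ↥GE) (hk : k ∈ sigE.ker) : k = 1 ∨ k = zetaE := by
  by_contra hcon
  rw [not_or] at hcon
  obtain ⟨y, _, hy⟩ := (Nat.card_eq_two_iff' (1 : ↥sigE.ker)).1 card_ker_sigE
  have h1 := hy ⟨k, hk⟩ (fun h => hcon.1 (congrArg Subtype.val h))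
  have h2 := hy ⟨zetaE, zetaE_mem⟩ (fun h => zetaE_ne (congrArg Subtype.val h))
  exact hcon.2 (congrArg Subtype.val (h1.trans h2.symm))

theorem ker_le_center : sigE.ker ≤ Subgroup.center ↥GE := by
  intro k hk
  rw [Subgroup.mem_center_iff]
  intro g
  rcases ker_eq k hk with rfl | rfl
  · rw [mul_one, one_mul]
  · have hn : g * zetaE * g⁻¹ ∈ sigE.ker := (inferInstance : sigE.ker.Normal).conj_mem _ zetaE_mem g
    rcases ker_eq _ hn with h | h
    · exfalso
      apply zetaE_ne
      have : zetaE = g⁻¹ * (g * zetaE * g⁻¹) * g := by group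
      rw [this, h]; group
    · calc g * zetaE = (g * zetaE * g⁻¹) * g := by group
        _ = zetaE * g := by rw [h]

theorem zetaE_comm : zetaE ∈ commutator ↥GE := by
  have hc := chk_com
  have e : zetaE = ⁅(comP.map gE).prod, (comQ.map gE).prod⁆ := by
    rw [zetaE, ← prod_gE_eq hc.1 hc.2.1, commutatorElement_def]
    simp only [List.map_append, List.prod_append]
    rw [prod_map_reverse_iv gE 9 (fun x => ivL.getD x 0) (fun x hx => ⟨(chk_iv x hx).1, gE_iv x hx⟩) comP
      hc.2.2.1,
      prod_map_reverse_iv gE 9 (fun x => ivL.getD x 0) (fun x hx => ⟨(chk_iv x hx).1, gE_iv x hx⟩) comQ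
      hc.2.2.2.1]
  rw [e, commutator_def]
  exact Subgroup.commutator_mem_commutator (Subgroup.mem_top _) (Subgroup.mem_top _)

theorem ker_le_commutator : sigE.ker ≤ commutator ↥GE := by
  intro k hk
  rcases ker_eq k hk with rfl | rfl
  · exact one_mem _
  · exact zetaE_comm

/-- **a stem extension of the stabilizer of the dodecad with kernel of order two** -/
theorem stem_GE : Cfsg.IsStemExtension sigE ∧ Nonempty (sigE.ker ≃* Multiplicative (ZMod 2)) := by
  refine ⟨⟨sigE_surjective, ker_le_center, ker_le_commutator⟩, ?_⟩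
  have : Fact (Nat.Prime 2) := ⟨Nat.prime_two⟩
  refine ⟨mulEquivOfPrimeCardEq (p := 2) card_ker_sigE ?_⟩
  rw [Nat.card_eq_fintype_card]; rfl

end Cfsg.Agent.Lib.Helper7.M12Mult
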