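import Cfsg.Agent.Lib.Helper7.M22MulT0
import Cfsg.Agent.Lib.Helper7.M22MulT1
import Cfsg.Agent.Lib.Helper7.M22MulT2
import Cfsg.Agent.Lib.Helper7.M22MulT3
import Cfsg.Agent.Lib.Helper7.M22MulT4
import Cfsg.Agent.Lib.Helper7.M22MulT5
import Cfsg.Agent.Lib.Helper7.M22MulT6
import Cfsg.Agent.Lib.Helper7.M22MulT7
import Cfsg.Agent.Lib.Helper7.M22MulT8
import Cfsg.Agent.Lib.Helper7.M22MulT9
import Cfsg.Agent.Lib.Helper7.M22MulT10
import Cfsg.Agent.Lib.Helper7.M22MulT11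
import Cfsg.Agent.Lib.Helper7.M22MulT12
import Cfsg.Agent.Lib.Helper7.M22MulT13
import Cfsg.Agent.Lib.Helper7.M22MulT14
import Cfsg.Agent.Lib.Helper7.M22MulT15
import Cfsg.Agent.Lib.Helper7.M22MulR
import Cfsg.Agent.Lib.Helper7.MGenC

/-! # The multiplier of the Mathieu group of degree 22: the certificate of the enumeration of the cosets (generated) -/

set_option autoImplicit false

namespace Cfsg.Agent.Lib.Helper7.M22Mul

open Cfsg.Agent.Lib.Helper7.MG Cfsg.Agent.Lib.Helper7.HSMult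

/-- the part of the table that contains a row -/
noncomputable def rowSel (a : ℕ) : ℕ := (cond (Nat.beq (Nat.land a 1) 0) (cond (Nat.beq (Nat.land a 2) 0) (cond (Nat.beq (Nat.land a 4) 0) (cond (Nat.beq (Nat.land a 8) 0) (cond (Nat.beq (Nat.land a 16) 0) (cond (Nat.beq (Nat.land a 32) 0) (cond (Nat.beq (Nat.land a 64) 0) (cond (Nat.beq (Nat.land a 128) 0) rl0 rl128) (cond (Nat.beq (Nat.land a 128) 0) rl64 rl192)) (cond (Nat.beq (Nat.land a 64) 0) (cond (Nat.beq (Nat.land a 128) 0) rl32 rl160) (cond (Nat.beq (Nat.land a 128) 0) rl96 rl224))) (cond (Nat.beq (Nat.land a 32) 0) (cond (Nat.beq (Nat.land a 64) 0) (cond (Nat.beq (Nat.land a 128) 0) rl16 rl144) (cond (Nat.beq (Nat.land a 128) 0) rl80 rl208)) (cond (Nat.beq (Nat.land a 64) 0) (cond (Nat.beq (Nat.land a 128) 0) rl48 rl176) (cond (Nat.beq (Nat.land a 128) 0) rl112 rl240)))) (cond (Nat.beq (Nat.land a 16) 0) (cond (Nat.beq (Nat.land a 32) 0) (cond (Nat.beq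 (Nat.land a 64) 0) (cond (Nat.beq (Nat.land a 128) 0) rl8 rl136) (cond (Nat.beq (Nat.land a 128) 0) rl72 rl200)) (cond (Nat.beq (Nat.land a 64) 0) (cond (Nat.beq (Nat.land a 128) 0) rl40 rl168) (cond (Nat.beq (Nat.land a 128) 0) rl104 rl232))) (cond (Nat.beq (Nat.land a 32) 0) (cond (Nat.beq (Nat.land a 64) 0) (cond (Nat.beq (Nat.land a 128) 0) rl24 rl152) (cond (Nat.beq (Nat.land a 128) 0) rl88 rl216)) (cond (Nat.beq (Nat.land a 64) 0) (cond (Nat.beq (Nat.land a 128) 0) rl56 rl184) (cond (Nat.beq (Nat.land a 128) 0) rl120 rl248))))) (cond (Nat.beq (Nat.land a 8) 0) (cond (Nat.beq (Nat.land a 16) 0) (cond (Nat.beq (Nat.land a 32) 0) (cond (Nat.beq (Nat.land a 64) 0) (cond (Nat.beq (Nat.land a 128) 0) rl4 rl132) (cond (Nat.beq (Nat.land a 128) 0) rl68 rl196)) (cond (Nat.beq (Nat.land a 64) 0) (cond (Nat.beq (Nat.land a 128) 0) rl36 rl164) (cond (Nat.beq (Nat.land a 128) 0) rl100 rl228))) (cond (Nat.beq (Nat.land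 a 32) 0) (cond (Nat.beq (Nat.land a 64) 0) (cond (Nat.beq (Nat.land a 128) 0) rl20 rl148) (cond (Nat.beq (Nat.land a 128) 0) rl84 rl212)) (cond (Nat.beq (Nat.land a 64) 0) (cond (Nat.beq (Nat.land a 128) 0) rl52 rl180) (cond (Nat.beq (Nat.land a 128) 0) rl116 rl244)))) (cond (Nat.beq (Nat.land a 16) 0) (cond (Nat.beq (Nat.land a 32) 0) (cond (Nat.beq (Nat.land a 64) 0) (cond (Nat.beq (Nat.land a 128) 0) rl12 rl140) (cond (Nat.beq (Nat.land a 128) 0) rl76 rl204)) (cond (Nat.beq (Nat.land a 64) 0) (cond (Nat.beq (Nat.land a 128) 0) rl44 rl172) (cond (Nat.beq (Nat.land a 128) 0) rl108 rl236))) (cond (Nat.beq (Nat.land a 32) 0) (cond (Nat.beq (Nat.land a 64) 0) (cond (Nat.beq (Nat.land a 128) 0) rl28 rl156) (cond (Nat.beq (Nat.land a 128) 0) rl92 rl220)) (cond (Nat.beq (Nat.land a 64) 0) (cond (Nat.beq (Nat.land a 128) 0) rl60 rl188) (cond (Nat.beq (Nat.land a 128) 0) rl124 rl252)))))) (cond (Nat.beq (Nat.land a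 4) 0) (cond (Nat.beq (Nat.land a 8) 0) (cond (Nat.beq (Nat.land a 16) 0) (cond (Nat.beq (Nat.land a 32) 0) (cond (Nat.beq (Nat.land a 64) 0) (cond (Nat.beq (Nat.land a 128) 0) rl2 rl130) (cond (Nat.beq (Nat.land a 128) 0) rl66 rl194)) (cond (Nat.beq (Nat.land a 64) 0) (cond (Nat.beq (Nat.land a 128) 0) rl34 rl162) (cond (Nat.beq (Nat.land a 128) 0) rl98 rl226))) (cond (Nat.beq (Nat.land a 32) 0) (cond (Nat.beq (Nat.land a 64) 0) (cond (Nat.beq (Nat.land a 128) 0) rl18 rl146) (cond (Nat.beq (Nat.land a 128) 0) rl82 rl210)) (cond (Nat.beq (Nat.land a 64) 0) (cond (Nat.beq (Nat.land a 128) 0) rl50 rl178) (cond (Nat.beq (Nat.land a 128) 0) rl114 rl242)))) (cond (Nat.beq (Nat.land a 16) 0) (cond (Nat.beq (Nat.land a 32) 0) (cond (Nat.beq (Nat.land a 64) 0) (cond (Nat.beq (Nat.land a 128) 0) rl10 rl138) (cond (Nat.beq (Nat.land a 128) 0) rl74 rl202)) (cond (Nat.beq (Nat.land a 64) 0) (cond (Nat.beq (Nat.land a 128)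 0) rl42 rl170) (cond (Nat.beq (Nat.land a 128) 0) rl106 rl234))) (cond (Nat.beq (Nat.land a 32) 0) (cond (Nat.beq (Nat.land a 64) 0) (cond (Nat.beq (Nat.land a 128) 0) rl26 rl154) (cond (Nat.beq (Nat.land a 128) 0) rl90 rl218)) (cond (Nat.beq (Nat.land a 64) 0) (cond (Nat.beq (Nat.land a 128) 0) rl58 rl186) (cond (Nat.beq (Nat.land a 128) 0) rl122 rl250))))) (cond (Nat.beq (Nat.land a 8) 0) (cond (Nat.beq (Nat.land a 16) 0) (cond (Nat.beq (Nat.land a 32) 0) (cond (Nat.beq (Nat.land a 64) 0) (cond (Nat.beq (Nat.land a 128) 0) rl6 rl134) (cond (Nat.beq (Nat.land a 128) 0) rl70 rl198)) (cond (Nat.beq (Nat.land a 64) 0) (cond (Nat.beq (Nat.land a 128) 0) rl38 rl166) (cond (Nat.beq (Nat.land a 128) 0) rl102 rl230))) (cond (Nat.beq (Nat.land a 32) 0) (cond (Nat.beq (Nat.land a 64) 0) (cond (Nat.beq (Nat.land a 128) 0) rl22 rl150) (cond (Nat.beq (Nat.land a 128) 0) rl86 rl214)) (cond (Nat.beq (Nat.land a 64) 0) (cond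 (Nat.beq (Nat.land a 128) 0) rl54 rl182) (cond (Nat.beq (Nat.land a 128) 0) rl118 rl246)))) (cond (Nat.beq (Nat.land a 16) 0) (cond (Nat.beq (Nat.land a 32) 0) (cond (Nat.beq (Nat.land a 64) 0) (cond (Nat.beq (Nat.land a 128) 0) rl14 rl142) (cond (Nat.beq (Nat.land a 128) 0) rl78 rl206)) (cond (Nat.beq (Nat.land a 64) 0) (cond (Nat.beq (Nat.land a 128) 0) rl46 rl174) (cond (Nat.beq (Nat.land a 128) 0) rl110 rl238))) (cond (Nat.beq (Nat.land a 32) 0) (cond (Nat.beq (Nat.land a 64) 0) (cond (Nat.beq (Nat.land a 128) 0) rl30 rl158) (cond (Nat.beq (Nat.land a 128) 0) rl94 rl222)) (cond (Nat.beq (Nat.land a 64) 0) (cond (Nat.beq (Nat.land a 128) 0) rl62 rl190) (cond (Nat.beq (Nat.land a 128) 0) rl126 rl254))))))) (cond (Nat.beq (Nat.land a 2) 0) (cond (Nat.beq (Nat.land a 4) 0) (cond (Nat.beq (Nat.land a 8) 0) (cond (Nat.beq (Nat.land a 16) 0) (cond (Nat.beq (Nat.land a 32) 0) (cond (Nat.beq (Nat.land a 64) 0) (cond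 (Nat.beq (Nat.land a 128) 0) rl1 rl129) (cond (Nat.beq (Nat.land a 128) 0) rl65 rl193)) (cond (Nat.beq (Nat.land a 64) 0) (cond (Nat.beq (Nat.land a 128) 0) rl33 rl161) (cond (Nat.beq (Nat.land a 128) 0) rl97 rl225))) (cond (Nat.beq (Nat.land a 32) 0) (cond (Nat.beq (Nat.land a 64) 0) (cond (Nat.beq (Nat.land a 128) 0) rl17 rl145) (cond (Nat.beq (Nat.land a 128) 0) rl81 rl209)) (cond (Nat.beq (Nat.land a 64) 0) (cond (Nat.beq (Nat.land a 128) 0) rl49 rl177) (cond (Nat.beq (Nat.land a 128) 0) rl113 rl241)))) (cond (Nat.beq (Nat.land a 16) 0) (cond (Nat.beq (Nat.land a 32) 0) (cond (Nat.beq (Nat.land a 64) 0) (cond (Nat.beq (Nat.land a 128) 0) rl9 rl137) (cond (Nat.beq (Nat.land a 128) 0) rl73 rl201)) (cond (Nat.beq (Nat.land a 64) 0) (cond (Nat.beq (Nat.land a 128) 0) rl41 rl169) (cond (Nat.beq (Nat.land a 128) 0) rl105 rl233))) (cond (Nat.beq (Nat.land a 32) 0) (cond (Nat.beq (Nat.land a 64) 0) (cond (Nat.beq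 (Nat.land a 128) 0) rl25 rl153) (cond (Nat.beq (Nat.land a 128) 0) rl89 rl217)) (cond (Nat.beq (Nat.land a 64) 0) (cond (Nat.beq (Nat.land a 128) 0) rl57 rl185) (cond (Nat.beq (Nat.land a 128) 0) rl121 rl249))))) (cond (Nat.beq (Nat.land a 8) 0) (cond (Nat.beq (Nat.land a 16) 0) (cond (Nat.beq (Nat.land a 32) 0) (cond (Nat.beq (Nat.land a 64) 0) (cond (Nat.beq (Nat.land a 128) 0) rl5 rl133) (cond (Nat.beq (Nat.land a 128) 0) rl69 rl197)) (cond (Nat.beq (Nat.land a 64) 0) (cond (Nat.beq (Nat.land a 128) 0) rl37 rl165) (cond (Nat.beq (Nat.land a 128) 0) rl101 rl229))) (cond (Nat.beq (Nat.land a 32) 0) (cond (Nat.beq (Nat.land a 64) 0) (cond (Nat.beq (Nat.land a 128) 0) rl21 rl149) (cond (Nat.beq (Nat.land a 128) 0) rl85 rl213)) (cond (Nat.beq (Nat.land a 64) 0) (cond (Nat.beq (Nat.land a 128) 0) rl53 rl181) (cond (Nat.beq (Nat.land a 128) 0) rl117 rl245)))) (cond (Nat.beq (Nat.land a 16) 0) (cond (Nat.beq (Nat.land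 a 32) 0) (cond (Nat.beq (Nat.land a 64) 0) (cond (Nat.beq (Nat.land a 128) 0) rl13 rl141) (cond (Nat.beq (Nat.land a 128) 0) rl77 rl205)) (cond (Nat.beq (Nat.land a 64) 0) (cond (Nat.beq (Nat.land a 128) 0) rl45 rl173) (cond (Nat.beq (Nat.land a 128) 0) rl109 rl237))) (cond (Nat.beq (Nat.land a 32) 0) (cond (Nat.beq (Nat.land a 64) 0) (cond (Nat.beq (Nat.land a 128) 0) rl29 rl157) (cond (Nat.beq (Nat.land a 128) 0) rl93 rl221)) (cond (Nat.beq (Nat.land a 64) 0) (cond (Nat.beq (Nat.land a 128) 0) rl61 rl189) (cond (Nat.beq (Nat.land a 128) 0) rl125 rl253)))))) (cond (Nat.beq (Nat.land a 4) 0) (cond (Nat.beq (Nat.land a 8) 0) (cond (Nat.beq (Nat.land a 16) 0) (cond (Nat.beq (Nat.land a 32) 0) (cond (Nat.beq (Nat.land a 64) 0) (cond (Nat.beq (Nat.land a 128) 0) rl3 rl131) (cond (Nat.beq (Nat.land a 128) 0) rl67 rl195)) (cond (Nat.beq (Nat.land a 64) 0) (cond (Nat.beq (Nat.land a 128) 0) rl35 rl163) (cond (Nat.beq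 (Nat.land a 128) 0) rl99 rl227))) (cond (Nat.beq (Nat.land a 32) 0) (cond (Nat.beq (Nat.land a 64) 0) (cond (Nat.beq (Nat.land a 128) 0) rl19 rl147) (cond (Nat.beq (Nat.land a 128) 0) rl83 rl211)) (cond (Nat.beq (Nat.land a 64) 0) (cond (Nat.beq (Nat.land a 128) 0) rl51 rl179) (cond (Nat.beq (Nat.land a 128) 0) rl115 rl243)))) (cond (Nat.beq (Nat.land a 16) 0) (cond (Nat.beq (Nat.land a 32) 0) (cond (Nat.beq (Nat.land a 64) 0) (cond (Nat.beq (Nat.land a 128) 0) rl11 rl139) (cond (Nat.beq (Nat.land a 128) 0) rl75 rl203)) (cond (Nat.beq (Nat.land a 64) 0) (cond (Nat.beq (Nat.land a 128) 0) rl43 rl171) (cond (Nat.beq (Nat.land a 128) 0) rl107 rl235))) (cond (Nat.beq (Nat.land a 32) 0) (cond (Nat.beq (Nat.land a 64) 0) (cond (Nat.beq (Nat.land a 128) 0) rl27 rl155) (cond (Nat.beq (Nat.land a 128) 0) rl91 rl219)) (cond (Nat.beq (Nat.land a 64) 0) (cond (Nat.beq (Nat.land a 128) 0) rl59 rl187) (cond (Nat.beq (Nat.land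 a 128) 0) rl123 rl251))))) (cond (Nat.beq (Nat.land a 8) 0) (cond (Nat.beq (Nat.land a 16) 0) (cond (Nat.beq (Nat.land a 32) 0) (cond (Nat.beq (Nat.land a 64) 0) (cond (Nat.beq (Nat.land a 128) 0) rl7 rl135) (cond (Nat.beq (Nat.land a 128) 0) rl71 rl199)) (cond (Nat.beq (Nat.land a 64) 0) (cond (Nat.beq (Nat.land a 128) 0) rl39 rl167) (cond (Nat.beq (Nat.land a 128) 0) rl103 rl231))) (cond (Nat.beq (Nat.land a 32) 0) (cond (Nat.beq (Nat.land a 64) 0) (cond (Nat.beq (Nat.land a 128) 0) rl23 rl151) (cond (Nat.beq (Nat.land a 128) 0) rl87 rl215)) (cond (Nat.beq (Nat.land a 64) 0) (cond (Nat.beq (Nat.land a 128) 0) rl55 rl183) (cond (Nat.beq (Nat.land a 128) 0) rl119 rl247)))) (cond (Nat.beq (Nat.land a 16) 0) (cond (Nat.beq (Nat.land a 32) 0) (cond (Nat.beq (Nat.land a 64) 0) (cond (Nat.beq (Nat.land a 128) 0) rl15 rl143) (cond (Nat.beq (Nat.land a 128) 0) rl79 rl207)) (cond (Nat.beq (Nat.land a 64) 0) (cond (Nat.beq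 (Nat.land a 128) 0) rl47 rl175) (cond (Nat.beq (Nat.land a 128) 0) rl111 rl239))) (cond (Nat.beq (Nat.land a 32) 0) (cond (Nat.beq (Nat.land a 64) 0) (cond (Nat.beq (Nat.land a 128) 0) rl31 rl159) (cond (Nat.beq (Nat.land a 128) 0) rl95 rl223)) (cond (Nat.beq (Nat.land a 64) 0) (cond (Nat.beq (Nat.land a 128) 0) rl63 rl191) (cond (Nat.beq (Nat.land a 128) 0) rl127 rl255))))))))

/-- a row of the table -/
noncomputable def rowOf (a : ℕ) : ℕ :=
  strictN a fun a' => Nat.shiftRight (rowSel a') (Nat.mul 720 (Nat.shiftRight a' 8))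

/-- a word -/
noncomputable def wordOf (i : ℕ) : List ℕ :=
  strictN (Nat.land (Nat.shiftRight relP (Nat.mul 136 i)) 87112285931760246646623899502532662132735) fun v =>
    unp (Nat.land v 255) (Nat.shiftRight v 8)

/-- the certificate -/
noncomputable def cert : VCert where
  n := 40320
  g := 4
  k := 6
  nW := 145
  B := 2048
  iv := fun x => Nat.xor x 1
  sub := fun x => Nat.beq x 2 || Nat.beq x 3
  sl := fun a x => Nat.land (Nat.shiftRight (rowOf a) (Nat.mul 174 x)) 23945242826029513411849172299223580994042798784118783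
  pr := fun a => Nat.land (Nat.shiftRight (rowOf a) 696) 16777215
  W := wordOf
  rhs := fun i => Nat.land (Nat.shiftRight rhsP (Nat.mul 120 i)) 1329227995784915872903807060280344575
  wT := fun i => Nat.land (Nat.shiftRight wtaP (Nat.mul 32 i)) 4095
  wA := fun i => Nat.land (Nat.shiftRight wtaP (Nat.add (Nat.mul 32 i) 12)) 1048575

/-- the check of the rows from `lo` to `lo + k` -/
noncomputable def rowsOK (lo k : ℕ) : Bool := allN k fun i => allN 4 fun x => cert.slotOK (Nat.add lo i) x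

/-- the check of the words -/
noncomputable def wordsOK : Bool := allN 145 fun i => cert.wordOK i

end Cfsg.Agent.Lib.Helper7.M22Mul
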