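import Cfsg.Agent.Lib.Helper7.M22MulG
import Cfsg.Agent.Lib.Helper7.MGenD
import Cfsg.Agent.S0102

/-!
# The multiplier of the Mathieu group of degree 22: the kernel of a stem extension is an image of the cyclic group of
order twelve

Lifts of the two generators are chosen with the orders eleven and five of `c` and `c a⁻¹ c`; this is possible since the
kernel has order prime to five and eleven, the Sylow subgroups for these primes being cyclic.  The checked table shows
that the kernel is generated by the values of six words; the traced words give relations between them, which make the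
kernel cyclic of order dividing `660`, hence twelve.
-/

set_option autoImplicit false
set_option maxRecDepth 100000

namespace Cfsg.Agent.Lib.Helper7.M22Mul

open Cfsg Cfsg.Agent.Lib.Helper7.MG Cfsg.Agent.Lib.Helper7.HSMult
open Cfsg.Agent.Lib.Helper6.M22Aut Cfsg.Agent.Lib.Helper6.M22Out
open scoped IsMulCommutative

/-! ### the data of the certificate -/

/-- the repetition of a word -/
def wpow : ℕ → List ℕ → List ℕ
  | 0, _ => []
  | m + 1, w => w ++ wpow m w

theorem wd_wpow {Γ : Type*} [Group Γ] (γ : ℕ → Γ) (w : List ℕ) : ∀ m, VCert.wd γ (wpow m w) = VCert.wd γ w ^ m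
  | 0 => by rw [wpow, VCert.wd_nil, pow_zero]
  | m + 1 => by rw [wpow, VCert.wd_append, wd_wpow γ w m, pow_succ']

/-- the words that define the central elements -/
def axI : ℕ → ℕ
  | 0 => 0
  | 1 => 1
  | 2 => 4
  | 3 => 5
  | 4 => 114
  | 5 => 117
  | _ => 0

theorem axI_lt : ∀ j, axI j < 145
  | 0 => by decide
  | 1 => by decide
  | 2 => by decide
  | 3 => by decide
  | 4 => by decide
  | 5 => by decide
  | _ + 6 => by
    show (0 : ℕ) < 145
    decide

theorem chk_wT : ∀ i, i < 145 → cert.wT i = 0 →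
    i = 2 ∨ i = 3 ∨ ∃ j, j < 6 ∧ i = axI j := by decide +kernel

theorem chk_W2 : cert.W 2 = wpow 11 [2] := by decide +kernel

theorem chk_W3 : cert.W 3 = wpow 5 [2, 1, 2] := by decide +kernel

theorem chk_len : ∀ i, i < 145 → (cert.W i).length ≤ 255 := by decide +kernel

theorem chk_ax : ∀ j, j < 6 → ∀ l, l < 6 →
    ((fld (cert.rhs (axI j)) l : ℤ) - ((cert.W (axI j)).length : ℤ) * (cert.B : ℤ)) = if l = j then 1 else 0 := by
  decide +kernel

theorem chk_ex : ∀ l, l < 6 →
    (((fld (cert.rhs 2) l : ℤ) - ((cert.W 2).length : ℤ) * (cert.B : ℤ)) = 0 ∧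
     ((fld (cert.rhs 3) l : ℤ) - ((cert.W 3).length : ℤ) * (cert.B : ℤ)) = 0) := by
  decide +kernel

/-- the relations between the central elements that the traced words give -/
def relL : List (List ℤ) := [[(-63), (-60), 3, (-12), 2, 1],
    [(-64), (-33), 17, (-2), 1, 7],
    [(-116), 53, (-40), 34, 6, 11],
    [201, 180, 33, 8, (-3), 2],
    [(-23), (-43), 0, (-10), 6, (-9)],
    [(-59), (-55), (-58), 2, (-1), (-20)],
    [0, 0, (-2), 0, 0, 0],
    [5, 5, 2, 0, 0, 0]]

/-- the exponents of the generator of the kernel -/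
def cL : List ℤ := [0, 0, 0, 1, 0, (-117)]

/-- the central elements as powers of the generator -/
def mL : List ℤ := [152, 376, 330, 235, 482, 2]

/-- the combinations of the relations that express the central elements by the generator -/
def lamL : List (List ℤ) := [[(-433902213748), 178179564526, (-62205381295), (-317886987132), 13001901849, (-31184778250), 5608254819847, 7841250934526],
    [86569628771, (-35549343099), 12410853401, 63422950300, (-2594063627), 6221802187, (-1118926123865), (-1564440499187)],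
    [(-14125748), 5800825, (-2025107), (-10348724), 423028, (-1016973), 182606806, 255248005],
    [14616576, (-6002100), 2095470, 10708542, (-438165), 1049256, (-188900712), (-264160845)],
    [30108471, (-12363639), 4316428, 22058368, (-902568), 2161358, (-389113992), (-544140897)],
    [124928, (-51300), 17910, 91526, (-3745), 8968, (-1614536), (-2257785)]]

/-- the combination of the relations that gives the order of the generator -/
def muL : List ℤ := [(-41226310), 16929030, (-5910310), (-30203630), 1235850, (-2959460), 532798029, 745070094]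

theorem chk_rel_0 : ∀ l, l < 6 → ((fld (cert.rhs 34) l : ℤ) - (fld 46729448639679298235765527685402689 l : ℤ)) = (relL.getD 0 []).getD l 0 := by
  decide +kernel

theorem chk_rel_1 : ∀ l, l < 6 → ((fld (cert.rhs 16) l : ℤ) - (fld 44125691832136989579222802147346498 l : ℤ)) = (relL.getD 1 []).getD l 0 := by
  decide +kernel

theorem chk_rel_2 : ∀ l, l < 6 → ((fld (cert.rhs 30) l : ℤ) - (fld 44120621223691406058432175685011574 l : ℤ)) = (relL.getD 2 []).getD l 0 := by
  decide +kernel

theorem chk_rel_3 : ∀ l, l < 6 → ((fld (cert.rhs 115) l : ℤ) - (fld 62305086426022797469089407108693816 l : ℤ)) = (relL.getD 3 []).getD l 0 := by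
  decide +kernel

theorem chk_rel_4 : ∀ l, l < 6 → ((fld (cert.rhs 24) l : ℤ) - (fld 44145974235696021374964332089083931 l : ℤ)) = (relL.getD 4 []).getD l 0 := by
  decide +kernel

theorem chk_rel_5 : ∀ l, l < 6 → ((fld (cert.rhs 110) l : ℤ) - (fld 62332974736809973794322159678570557 l : ℤ)) = (relL.getD 5 []).getD l 0 := by
  decide +kernel

theorem chk_rel_6 : ∀ l, l < 6 → ((fld (cert.rhs 0) l : ℤ) - (fld 5192301810299707141040268516528129 l : ℤ)) = (relL.getD 6 []).getD l 0 := by
  decide +kernel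

theorem chk_rel_7 : ∀ l, l < 6 → ((fld (cert.rhs 68) l : ℤ) - (fld 59711470818446632121935600144136186 l : ℤ)) = (relL.getD 7 []).getD l 0 := by
  decide +kernel

theorem chk_lam : ∀ j, j < 6 → ∀ l, l < 6 →
    (if l = j then 1 else 0) - mL.getD j 0 * cL.getD l 0 = dotL (lamL.getD j []) relL l := by decide +kernel

theorem chk_mu : ∀ l, l < 6 → (660 : ℤ) * cL.getD l 0 = dotL muL relL l := by decide +kernel

/-! ### the Sylow subgroups for the primes five and eleven -/

theorem isCyclic_sylow_of_card {G : Type*} [Group G] [Finite G] (p m : ℕ) [hp : Fact p.Prime]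
    (hc : Nat.card G = p * m) (hm : ¬ p ∣ m) (P : Sylow p G) : IsCyclic ↥P := by
  have hm0 : m ≠ 0 := by
    rintro rfl
    exact hm (dvd_zero p)
  have h1 : Nat.card (P : Subgroup G) = p := by
    rw [Sylow.card_eq_multiplicity, hc, Nat.factorization_mul hp.1.ne_zero hm0, Finsupp.add_apply,
      Nat.Prime.factorization_self hp.1, Nat.factorization_eq_zero_of_not_dvd hm, pow_one]
  exact isCyclic_of_prime_card (α := (P : Subgroup G)) h1

section upper

variable {Γ : Type} [Group Γ] [Finite Γ] (σ : Γ →* ↥K22) (hsurj : Function.Surjective σ)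
  (hcen : σ.ker ≤ Subgroup.center Γ) (hder : σ.ker ≤ commutator Γ)

include hsurj hcen hder in
theorem not_dvd_card_ker : ¬ 5 ∣ Nat.card σ.ker ∧ ¬ 11 ∣ Nat.card σ.ker := by
  have hperf := perfect_of_stem σ hsurj hcen hder K22_perfect
  have : Fact (Nat.Prime 5) := ⟨by norm_num⟩
  have : Fact (Nat.Prime 11) := ⟨by norm_num⟩
  constructor
  · exact Cfsg.Agent.S0102.result K22_perfect
      (fun P => isCyclic_sylow_of_card 5 88704 (by rw [K22_card]) (by norm_num) P) σ hsurj hcen hperf
  · exact Cfsg.Agent.S0102.result K22_perfect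
      (fun P => isCyclic_sylow_of_card 11 40320 (by rw [K22_card]) (by norm_num) P) σ hsurj hcen hperf

include hsurj hcen hder in
/-- **lifts of the generators with the right orders** -/
theorem exists_lifts : ∃ a c : Γ, σ a = lK 0 ∧ σ c = lK 2 ∧ c ^ 11 = 1 ∧ (c * a⁻¹ * c) ^ 5 = 1 := by
  obtain ⟨h5, h11⟩ := not_dvd_card_ker σ hsurj hcen hder
  have c5 : (Nat.card ↥σ.ker).Coprime 5 :=
    ((Nat.Prime.coprime_iff_not_dvd (by norm_num)).2 h5).symm
  have c11 : (Nat.card ↥σ.ker).Coprime 11 :=
    ((Nat.Prime.coprime_iff_not_dvd (by norm_num)).2 h11).symm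
  obtain ⟨a0, ha0⟩ := hsurj (lK 0)
  obtain ⟨c0, hc0⟩ := hsurj (lK 2)
  -- the order of `c`
  have hk1 : c0 ^ 11 ∈ σ.ker := by
    rw [MonoidHom.mem_ker, map_pow, hc0, lK_two_pow]
  obtain ⟨v, hv, hv11⟩ := exists_root σ.ker 11 c11 _ hk1
  have hvc := Subgroup.mem_center_iff.1 (hcen hv)
  set c := c0 * v⁻¹ with hc
  have hcc : Commute c0 v⁻¹ := by
    have := Subgroup.mem_center_iff.1 (Subgroup.inv_mem _ (hcen hv)) c0
    exact this
  have hc11 : c ^ 11 = 1 := by
    rw [hc, hcc.mul_pow, inv_pow, hv11, mul_inv_cancel]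
  have hσc : σ c = lK 2 := by
    rw [hc, map_mul, map_inv, MonoidHom.mem_ker.1 hv, inv_one, mul_one, hc0]
  -- the order of `c a⁻¹ c`
  have hy : VCert.wd lK (cert.W 3) = 1 := wd_lK_W (by norm_num)
  rw [chk_W3, wd_wpow] at hy
  simp only [VCert.wd_cons, VCert.wd_nil, mul_one] at hy
  have hl1 : lK 1 = (lK 0)⁻¹ := lK_iv (x := 0) (by norm_num)
  have hk2 : (c * a0⁻¹ * c) ^ 5 ∈ σ.ker := by
    rw [MonoidHom.mem_ker, map_pow, map_mul, map_mul, map_inv, hσc, ha0, ← hl1, mul_assoc]
    exact hy
  obtain ⟨w, hw, hw5⟩ := exists_root σ.ker 5 c5 _ hk2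
  refine ⟨a0 * w, c, ?_, hσc, hc11, ?_⟩
  · rw [map_mul, MonoidHom.mem_ker.1 hw, mul_one, ha0]
  · have hwc : ∀ x : Γ, w⁻¹ * x = x * w⁻¹ := fun x =>
      (Subgroup.mem_center_iff.1 (Subgroup.inv_mem _ (hcen hw)) x).symm
    have e : c * (a0 * w)⁻¹ * c = (c * a0⁻¹ * c) * w⁻¹ := by
      rw [mul_inv_rev, mul_assoc c, mul_assoc w⁻¹, hwc (a0⁻¹ * c)]
      simp only [mul_assoc]
    have hcm : Commute (c * a0⁻¹ * c) w⁻¹ := (hwc _).symm
    rw [e, hcm.mul_pow, inv_pow, hw5, mul_inv_cancel]

/-! ### the letters in the extension -/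

variable (a c : Γ) (ha : σ a = lK 0) (hc : σ c = lK 2) (hc11 : c ^ 11 = 1) (hy5 : (c * a⁻¹ * c) ^ 5 = 1)

/-- the letters in the extension -/
def gU : ℕ → Γ
  | 0 => a
  | 1 => a⁻¹
  | 2 => c
  | 3 => c⁻¹
  | _ => 1

include ha hc in
theorem map_gU : ∀ x, σ (gU a c x) = lK x
  | 0 => ha
  | 1 => by
    show σ a⁻¹ = lK 1
    rw [map_inv, ha]
    exact (lK_iv (x := 0) (by norm_num)).symm
  | 2 => hc
  | 3 => by
    show σ c⁻¹ = lK 3
    rw [map_inv, hc]
    exact (lK_iv (x := 2) (by norm_num)).symm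
  | x + 4 => by
    show σ 1 = lK (x + 4)
    rw [map_one, lK_of_ge (by omega)]

include ha hc in
theorem map_wd_gU : ∀ w : List ℕ, σ (VCert.wd (gU a c) w) = VCert.wd lK w
  | [] => map_one σ
  | x :: w => by
    rw [VCert.wd_cons, VCert.wd_cons, map_mul, map_gU σ a c ha hc x, map_wd_gU w]

include ha hc in
theorem wd_gU_mem_ker {i : ℕ} (hi : i < 145) : VCert.wd (gU a c) (cert.W i) ∈ σ.ker := by
  rw [MonoidHom.mem_ker, map_wd_gU σ a c ha hc, wd_lK_W hi]

theorem gU_iv : ∀ x, x < 4 → gU a c (Nat.xor x 1) = (gU a c x)⁻¹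
  | 0, _ => rfl
  | 1, _ => (inv_inv a).symm
  | 2, _ => rfl
  | 3, _ => (inv_inv c).symm
  | x + 4, h => absurd h (by omega)

/-- the central elements: the values of six words -/
noncomputable def zU (j : ℕ) : Subgroup.center Γ :=
  ⟨VCert.wd (gU a c) (cert.W (axI j)), hcen (wd_gU_mem_ker σ a c ha hc (axI_lt j))⟩

include hc11 hy5 in
theorem hW0_U : ∀ i, i < cert.nW → cert.wT i = 0 →
    VCert.wd (gU a c) (cert.W i) = (cert.ek (zU σ hcen a c ha hc) i : Γ) := by
  intro i hi hT
  rcases chk_wT i hi hT with rfl | rfl | ⟨j, hj, rfl⟩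
  · rw [VCert.ek, cert.kap_one _ fun l hl => (chk_ex l hl).1, chk_W2, wd_wpow]
    simp only [VCert.wd_cons, VCert.wd_nil, mul_one]
    exact hc11
  · rw [VCert.ek, cert.kap_one _ fun l hl => (chk_ex l hl).2, chk_W3, wd_wpow]
    simp only [VCert.wd_cons, VCert.wd_nil, mul_one]
    show (c * (a⁻¹ * c)) ^ 5 = 1
    rw [← mul_assoc]
    exact hy5
  · rw [VCert.ek, cert.kap_unit _ hj (chk_ax j hj)]
    rfl

include hcen hder ha hc in
theorem hgen_U : ∀ y : Γ, ∃ u : List ℕ, (∀ x ∈ u, x < cert.g) ∧ y = (u.map (gU a c)).prod := by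
  apply exists_word_of_closure (gU a c) 4 (fun x => Nat.xor x 1)
  · intro x hx
    refine ⟨?_, gU_iv a c x hx⟩
    have : x = 0 ∨ x = 1 ∨ x = 2 ∨ x = 3 := by omega
    rcases this with rfl | rfl | rfl | rfl <;> decide
  · apply Cfsg.Agent.Lib.Helper7.M12Mult.closure_eq_top_of_stem (σ := σ) hcen hder
    intro g
    have hg : g ∈ Subgroup.closure (lK '' Set.Iio 4) := by rw [closure_lK]; exact Subgroup.mem_top g
    induction hg using Subgroup.closure_induction with
    | mem y hy =>
      obtain ⟨x, hx, rfl⟩ := hy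
      exact ⟨gU a c x, Subgroup.subset_closure ⟨x, hx, rfl⟩, map_gU σ a c ha hc x⟩
    | one => exact ⟨1, one_mem _, map_one σ⟩
    | mul p q _ _ ihp ihq =>
      obtain ⟨p', hp', rfl⟩ := ihp
      obtain ⟨q', hq', rfl⟩ := ihq
      exact ⟨p' * q', mul_mem hp' hq', map_mul σ p' q'⟩
    | inv p _ ihp =>
      obtain ⟨p', hp', rfl⟩ := ihp
      exact ⟨p'⁻¹, inv_mem hp', map_inv σ p'⟩

include hsurj hder hc11 hy5 in
/-- **the kernel is generated by the six central elements** -/
theorem ker_eq_Zc_U : σ.ker = Zc (zU σ hcen a c ha hc) 6 := by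
  refine ker_eq_Zc σ cert (gU a c) (zU σ hcen a c ha hc) 2 11 hsurj (by rw [K22_card]; rfl) (by decide) (by norm_num)
    ?_ hc11 ?_ ?_ (hgen_U σ hcen hder a c ha hc) (by decide) (by decide) (gU_iv a c) ?_
    (hW0_U σ hcen a c ha hc hc11 hy5) cert_all cert_wall
  · intro i hi
    rw [← map_pow] at hi
    have : σ (gU a c 2) = lK 2 := hc
    rw [map_pow, this] at hi
    exact dvd_of_lK_two_pow hi
  · intro x hx
    have hx' : x = 2 ∨ x = 3 := by
      have : (Nat.beq x 2 || Nat.beq x 3) = true := hx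
      rw [Bool.or_eq_true] at this
      rcases this with h | h
      · exact Or.inl (Nat.eq_of_beq_eq_true h)
      · exact Or.inr (Nat.eq_of_beq_eq_true h)
    rcases hx' with rfl | rfl
    · exact Subgroup.mem_zpowers _
    · exact Subgroup.inv_mem _ (Subgroup.mem_zpowers _)
  · intro j _
    exact wd_gU_mem_ker σ a c ha hc (axI_lt j)
  · intro i hi
    exact wd_gU_mem_ker σ a c ha hc hi

include hc11 hy5 in
/-- the relations between the central elements -/
theorem rel_U : ∀ r ∈ relL, zprod (zU σ hcen a c ha hc) 6 (fun l => r.getD l 0) = 1 := by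
  have hKn : ∀ u, u ∈ σ.ker → ∀ g : Γ, g * u * g⁻¹ ∈ σ.ker := fun u hu g =>
    (inferInstance : σ.ker.Normal).conj_mem u hu g
  have hHK : ∀ u, u ∈ Subgroup.zpowers (gU a c 2) → u ∈ σ.ker → u = 1 := by
    apply zpowers_inf_ker σ (gU a c) 2 11 _ hc11
    intro i hi
    have : σ (gU a c 2) = lK 2 := hc
    rw [this] at hi
    exact dvd_of_lK_two_pow hi
  have hsub : ∀ x, cert.sub x = true → gU a c x ∈ Subgroup.zpowers (gU a c 2) := by
    intro x hx
    have hx' : x = 2 ∨ x = 3 := by
      have : (Nat.beq x 2 || Nat.beq x 3) = true := hx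
      rw [Bool.or_eq_true] at this
      rcases this with h | h
      · exact Or.inl (Nat.eq_of_beq_eq_true h)
      · exact Or.inr (Nat.eq_of_beq_eq_true h)
    rcases hx' with rfl | rfl
    · exact Subgroup.mem_zpowers _
    · exact Subgroup.inv_mem _ (Subgroup.mem_zpowers _)
  have key : ∀ {i v row : ℕ}, i < 145 → cert.scan 4095 (cert.W i) row 0 = some (row, v) →
      cert.ek (zU σ hcen a c ha hc) i = cert.kap (zU σ hcen a c ha hc) v (cert.W i).length := by
    intro i v row hi h
    exact cert.close_spec (γ := gU a c) (H := Subgroup.zpowers (gU a c 2)) σ.ker hKn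
      (fun j _ => wd_gU_mem_ker σ a c ha hc (axI_lt j)) hHK (by decide) (by decide) (gU_iv a c) hsub
      (fun i hi => wd_gU_mem_ker σ a c ha hc hi) (hW0_U σ hcen a c ha hc hc11 hy5) cert_all cert_wall hi
      (chk_len i hi) h
  intro r hr
  simp only [relL, List.mem_cons, List.not_mem_nil, or_false] at hr
  rcases hr with rfl | rfl | rfl | rfl | rfl | rfl | rfl | rfl
  · exact cert.rel_of_close _ (key (by norm_num) close_0) _ chk_rel_0
  · exact cert.rel_of_close _ (key (by norm_num) close_1) _ chk_rel_1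
  · exact cert.rel_of_close _ (key (by norm_num) close_2) _ chk_rel_2
  · exact cert.rel_of_close _ (key (by norm_num) close_3) _ chk_rel_3
  · exact cert.rel_of_close _ (key (by norm_num) close_4) _ chk_rel_4
  · exact cert.rel_of_close _ (key (by norm_num) close_5) _ chk_rel_5
  · exact cert.rel_of_close _ (key (by norm_num) close_6) _ chk_rel_6
  · exact cert.rel_of_close _ (key (by norm_num) close_7) _ chk_rel_7

include hsurj hcen hder ha hc hc11 hy5 in
/-- **the kernel is an image of the cyclic group of order twelve** -/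
theorem exists_surj_U : ∃ π : Multiplicative (ZMod 12) →* ↥σ.ker, Function.Surjective π := by
  obtain ⟨h5, h11⟩ := not_dvd_card_ker σ hsurj hcen hder
  have hK := ker_eq_Zc_U σ hsurj hcen hder a c ha hc hc11 hy5
  obtain ⟨hz, hN⟩ := cyclic_of_relations (zU σ hcen a c ha hc) 6 relL
    (rel_U σ hcen a c ha hc hc11 hy5) cL mL 660 lamL muL chk_lam chk_mu
  set g := zprod (zU σ hcen a c ha hc) 6 (fun l => cL.getD l 0) with hg
  have hle : σ.ker ≤ Subgroup.zpowers (g : Γ) := by
    rw [hK]
    exact Zc_le_zpowers _ 6 g (fun j => mL.getD j 0) hz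
  have hgK : (g : Γ) ∈ σ.ker := by
    rw [hK]
    have : g ∈ (Zc (zU σ hcen a c ha hc) 6).comap (Subgroup.center Γ).subtype := by
      rw [hg, zprod]
      apply Subgroup.prod_mem
      intro j hj
      apply Subgroup.zpow_mem
      exact Subgroup.subset_closure ⟨j, Finset.mem_range.1 hj, rfl⟩
    exact this
  set g' : ↥σ.ker := ⟨(g : Γ), hgK⟩ with hg'
  have h660 : g' ^ 660 = 1 := by
    apply Subtype.ext
    rw [Subgroup.coe_pow, Subgroup.coe_one]
    have := congrArg (fun t : Subgroup.center Γ => (t : Γ)) hN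
    simpa using this
  have hord : orderOf g' ∣ 12 := by
    have h1 : orderOf g' ∣ 12 * 55 := orderOf_dvd_of_pow_eq_one h660
    have h2 : orderOf g' ∣ Nat.card ↥σ.ker := orderOf_dvd_natCard g'
    have c5 : (Nat.card ↥σ.ker).Coprime 5 :=
      ((Nat.Prime.coprime_iff_not_dvd (by norm_num)).2 h5).symm
    have c11 : (Nat.card ↥σ.ker).Coprime 11 :=
      ((Nat.Prime.coprime_iff_not_dvd (by norm_num)).2 h11).symm
    have c55 : (Nat.card ↥σ.ker).Coprime 55 := by
      have := Nat.Coprime.mul_right c5 c11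
      norm_num at this
      exact this
    exact (Nat.Coprime.coprime_dvd_left h2 c55).dvd_of_dvd_mul_right h1
  apply exists_surj_zmod g' 12 (orderOf_dvd_iff_pow_eq_one.1 hord)
  intro y
  obtain ⟨i, hi⟩ := Subgroup.mem_zpowers_iff.1 (hle y.2)
  refine Subgroup.mem_zpowers_iff.2 ⟨i, ?_⟩
  apply Subtype.ext
  rw [Subgroup.coe_zpow]
  exact hi

end upper

/-- **the kernel of every finite stem extension of the group of the reference system is an image of the cyclic group
of order twelve** -/
theorem exists_surj_of_stem {Γ : Type} [Group Γ] [Finite Γ] (σ : Γ →* ↥K22) (hsurj : Function.Surjective σ)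
    (hcen : σ.ker ≤ Subgroup.center Γ) (hder : σ.ker ≤ commutator Γ) :
    ∃ π : Multiplicative (ZMod 12) →* ↥σ.ker, Function.Surjective π := by
  obtain ⟨a, c, ha, hc, hc11, hy5⟩ := exists_lifts σ hsurj hcen hder
  exact exists_surj_U σ hsurj hcen hder a c ha hc hc11 hy5

end Cfsg.Agent.Lib.Helper7.M22Mul
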