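import Cfsg.Agent.Lib.Helper7.M22MulED
import Cfsg.Agent.Lib.Helper7.M22MulU

/-!
# The multiplier of the Mathieu group of degree 22: a stem extension with cyclic kernel of order twelve

Permutations of 4928 and of 693 points, paired with the letters on the 22 points, generate a group that maps onto the
group of the reference system.  One word gives a central element `ζ` of order twelve; the given words of the
certificate are powers of `ζ`, and the checked table shows that the kernel consists of the powers of `ζ`.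
-/

set_option autoImplicit false
set_option maxRecDepth 100000

namespace Cfsg.Agent.Lib.Helper7.M22Mul

open Cfsg Cfsg.Agent.Lib.Helper7.MG Cfsg.Agent.Lib.Helper7.HSMult
open Cfsg.Agent.Lib.Helper6.M22Aut Cfsg.Agent.Lib.Helper6.M22Out
open scoped IsMulCommutative

/-! ### the letters on the 4928 and on the 693 points -/

/-- the inverse of a letter -/
def ivx : ℕ → ℕ
  | 0 => 1
  | 1 => 0
  | 2 => 3
  | 3 => 2
  | x => x

theorem ivx_ivx : ∀ x, ivx (ivx x) = x
  | 0 => rfl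
  | 1 => rfl
  | 2 => rfl
  | 3 => rfl
  | _ + 4 => rfl

theorem ivx_eq : ∀ x, x < 4 → ivx x = Nat.xor x 1 := by decide

/-- the image of one of the 4928 points under a letter -/
noncomputable def lk4 : ℕ → ℕ → ℕ
  | 0, p => Nat.land (Nat.shiftRight t4_0 (Nat.mul 13 p)) 8191
  | 1, p => Nat.land (Nat.shiftRight t4_1 (Nat.mul 13 p)) 8191
  | 2, p => Nat.land (Nat.shiftRight t4_2 (Nat.mul 13 p)) 8191
  | 3, p => Nat.land (Nat.shiftRight t4_3 (Nat.mul 13 p)) 8191
  | _, p => p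

/-- the image of one of the 693 points under a letter -/
noncomputable def lk3 : ℕ → ℕ → ℕ
  | 0, p => Nat.land (Nat.shiftRight t3_0 (Nat.mul 10 p)) 1023
  | 1, p => Nat.land (Nat.shiftRight t3_1 (Nat.mul 10 p)) 1023
  | 2, p => Nat.land (Nat.shiftRight t3_2 (Nat.mul 10 p)) 1023
  | 3, p => Nat.land (Nat.shiftRight t3_3 (Nat.mul 10 p)) 1023
  | _, p => p

theorem lk4_ge {x : ℕ} (hx : 4 ≤ x) (p : ℕ) : lk4 x p = p := by
  obtain ⟨y, rfl⟩ : ∃ y, x = y + 4 := ⟨x - 4, by omega⟩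
  rfl

theorem lk3_ge {x : ℕ} (hx : 4 ≤ x) (p : ℕ) : lk3 x p = p := by
  obtain ⟨y, rfl⟩ : ∃ y, x = y + 4 := ⟨x - 4, by omega⟩
  rfl

theorem ivx_ge {x : ℕ} (hx : 4 ≤ x) : ivx x = x := by
  obtain ⟨y, rfl⟩ : ∃ y, x = y + 4 := ⟨x - 4, by omega⟩
  rfl

theorem chk_inv4 : allN 4 (fun x => allN 4928 fun p =>
    Nat.blt (lk4 x p) 4928 && Nat.beq (lk4 (ivx x) (lk4 x p)) p) = true := by decide +kernel

theorem chk_inv3 : allN 4 (fun x => allN 693 fun p =>
    Nat.blt (lk3 x p) 693 && Nat.beq (lk3 (ivx x) (lk3 x p)) p) = true := by decide +kernel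

theorem hh4 (x p : ℕ) (hp : p < 4928) : lk4 x p < 4928 ∧ lk4 (ivx x) (lk4 x p) = p := by
  rcases Nat.lt_or_ge x 4 with hx | hx
  · have h := chk_inv4
    rw [allN_iff] at h
    have h1 := h x hx
    rw [allN_iff] at h1
    have h2 := h1 p hp
    rw [Bool.and_eq_true] at h2
    exact ⟨by simpa [Nat.blt] using h2.1, Nat.eq_of_beq_eq_true h2.2⟩
  · rw [ivx_ge hx, lk4_ge hx, lk4_ge hx]
    exact ⟨hp, rfl⟩

theorem hh3 (x p : ℕ) (hp : p < 693) : lk3 x p < 693 ∧ lk3 (ivx x) (lk3 x p) = p := by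
  rcases Nat.lt_or_ge x 4 with hx | hx
  · have h := chk_inv3
    rw [allN_iff] at h
    have h1 := h x hx
    rw [allN_iff] at h1
    have h2 := h1 p hp
    rw [Bool.and_eq_true] at h2
    exact ⟨by simpa [Nat.blt] using h2.1, Nat.eq_of_beq_eq_true h2.2⟩
  · rw [ivx_ge hx, lk3_ge hx, lk3_ge hx]
    exact ⟨hp, rfl⟩

theorem hh4' (x p : ℕ) (hp : p < 4928) : lk4 (ivx x) p < 4928 ∧ lk4 x (lk4 (ivx x) p) = p := by
  have h := hh4 (ivx x) p hp
  rwa [ivx_ivx] at h

theorem hh3' (x p : ℕ) (hp : p < 693) : lk3 (ivx x) p < 693 ∧ lk3 x (lk3 (ivx x) p) = p := by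
  have h := hh3 (ivx x) p hp
  rwa [ivx_ivx] at h

/-- the letters as permutations of the 4928 points -/
noncomputable def pm4 (x : ℕ) : Equiv.Perm (Fin 4928) := permOf 4928 (lk4 x) (lk4 (ivx x)) (hh4 x) (hh4' x)

/-- the letters as permutations of the 693 points -/
noncomputable def pm3 (x : ℕ) : Equiv.Perm (Fin 693) := permOf 693 (lk3 x) (lk3 (ivx x)) (hh3 x) (hh3' x)

theorem pm4_val (x : ℕ) (p : Fin 4928) : (pm4 x p).val = lk4 x p.val := rfl

theorem pm3_val (x : ℕ) (p : Fin 693) : (pm3 x p).val = lk3 x p.val := rfl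

theorem pm4_ivx (x : ℕ) : pm4 (ivx x) = (pm4 x)⁻¹ := by
  apply Equiv.ext
  intro p
  apply Fin.ext
  rw [pm4, pm4, permOf_inv]
  rfl

theorem pm3_ivx (x : ℕ) : pm3 (ivx x) = (pm3 x)⁻¹ := by
  apply Equiv.ext
  intro p
  apply Fin.ext
  rw [pm3, pm3, permOf_inv]
  rfl

theorem pm4_ge {x : ℕ} (hx : 4 ≤ x) : pm4 x = 1 := by
  apply Equiv.ext
  intro p
  apply Fin.ext
  rw [pm4_val, lk4_ge hx]
  rfl

theorem pm3_ge {x : ℕ} (hx : 4 ≤ x) : pm3 x = 1 := by
  apply Equiv.ext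
  intro p
  apply Fin.ext
  rw [pm3_val, lk3_ge hx]
  rfl

/-- the image of one of the 4928 points under a word -/
noncomputable def ev4 : List ℕ → ℕ → ℕ
  | [], p => p
  | x :: w, p => lk4 x (ev4 w p)

/-- the image of one of the 693 points under a word -/
noncomputable def ev3 : List ℕ → ℕ → ℕ
  | [], p => p
  | x :: w, p => lk3 x (ev3 w p)

theorem wd_pm4_val : ∀ (w : List ℕ) (p : Fin 4928), ((VCert.wd pm4 w) p).val = ev4 w p.val
  | [], _ => rfl
  | x :: w, p => by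
    rw [VCert.wd_cons, Equiv.Perm.mul_apply, pm4_val, wd_pm4_val w p]
    rfl

theorem wd_pm3_val : ∀ (w : List ℕ) (p : Fin 693), ((VCert.wd pm3 w) p).val = ev3 w p.val
  | [], _ => rfl
  | x :: w, p => by
    rw [VCert.wd_cons, Equiv.Perm.mul_apply, pm3_val, wd_pm3_val w p]
    rfl

theorem wd_pm4_eq {w w' : List ℕ} (h : ∀ p, p < 4928 → ev4 w p = ev4 w' p) : VCert.wd pm4 w = VCert.wd pm4 w' := by
  apply Equiv.ext
  intro p
  apply Fin.ext
  rw [wd_pm4_val, wd_pm4_val]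
  exact h p.val p.2

theorem wd_pm3_eq {w w' : List ℕ} (h : ∀ p, p < 693 → ev3 w p = ev3 w' p) : VCert.wd pm3 w = VCert.wd pm3 w' := by
  apply Equiv.ext
  intro p
  apply Fin.ext
  rw [wd_pm3_val, wd_pm3_val]
  exact h p.val p.2

/-! ### the extension -/

/-- the triples -/
noncomputable def gX (x : ℕ) : Equiv.Perm (Fin 4928) × Equiv.Perm (Fin 693) × ↥K22 := (pm4 x, pm3 x, lK x)

theorem gX_ge {x : ℕ} (hx : 4 ≤ x) : gX x = 1 := by
  rw [gX, pm4_ge hx, pm3_ge hx, lK_of_ge hx]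
  rfl

theorem wd_gX : ∀ w : List ℕ, VCert.wd gX w = (VCert.wd pm4 w, VCert.wd pm3 w, VCert.wd lK w)
  | [] => rfl
  | x :: w => by
    rw [VCert.wd_cons, VCert.wd_cons, VCert.wd_cons, VCert.wd_cons, wd_gX w]
    rfl

/-- the extension -/
noncomputable def GE : Subgroup (Equiv.Perm (Fin 4928) × Equiv.Perm (Fin 693) × ↥K22) :=
  Subgroup.closure (gX '' Set.Iio 4)

theorem gX_mem (x : ℕ) : gX x ∈ GE := by
  rcases Nat.lt_or_ge x 4 with h | h
  · exact Subgroup.subset_closure ⟨x, h, rfl⟩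
  · rw [gX_ge h]; exact one_mem _

/-- the letters of the extension -/
noncomputable def gE (x : ℕ) : ↥GE := ⟨gX x, gX_mem x⟩

theorem wd_gE_val : ∀ w : List ℕ, (VCert.wd gE w : ↥GE).1 = VCert.wd gX w
  | [] => rfl
  | x :: w => by
    rw [VCert.wd_cons, Subgroup.coe_mul, wd_gE_val w, VCert.wd_cons]
    rfl

/-- two words with the same values on all the points give the same element -/
theorem wd_gE_eq {w w' : List ℕ} (h4 : ∀ p, p < 4928 → ev4 w p = ev4 w' p)
    (h3 : ∀ p, p < 693 → ev3 w p = ev3 w' p) (hK : VCert.wd lK w = VCert.wd lK w') :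
    VCert.wd gE w = VCert.wd gE w' := by
  apply Subtype.ext
  rw [wd_gE_val, wd_gE_val, wd_gX, wd_gX, wd_pm4_eq h4, wd_pm3_eq h3, hK]

theorem gE_ivx (x : ℕ) (hx : x < 4) : gE (ivx x) = (gE x)⁻¹ := by
  apply Subtype.ext
  rw [Subgroup.coe_inv]
  show gX (ivx x) = (gX x)⁻¹
  rw [gX, gX, pm4_ivx, pm3_ivx, ivx_eq x hx, lK_iv hx]
  rfl

theorem closure_gE : Subgroup.closure (gE '' Set.Iio 4) = ⊤ := by
  have h := Subgroup.closure_closure_coe_preimage (k := gX '' Set.Iio 4)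
  have e : ((↑) ⁻¹' (gX '' Set.Iio 4) : Set ↥(Subgroup.closure (gX '' Set.Iio 4))) = gE '' Set.Iio 4 := by
    ext z
    constructor
    · rintro ⟨x, hx, hz⟩
      exact ⟨x, hx, Subtype.ext hz⟩
    · rintro ⟨x, hx, rfl⟩
      exact ⟨x, hx, rfl⟩
  rw [e] at h
  exact h

/-- the projection onto the group of the reference system -/
noncomputable def sigE : ↥GE →* ↥K22 := ((MonoidHom.snd _ _).comp (MonoidHom.snd _ _)).comp GE.subtype

theorem sigE_gE (x : ℕ) : sigE (gE x) = lK x := rfl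

theorem sigE_wd : ∀ w : List ℕ, sigE (VCert.wd gE w) = VCert.wd lK w
  | [] => map_one sigE
  | x :: w => by rw [VCert.wd_cons, VCert.wd_cons, map_mul, sigE_gE, sigE_wd w]

theorem sigE_surj : Function.Surjective sigE := by
  rw [← MonoidHom.range_eq_top, eq_top_iff, ← closure_lK, Subgroup.closure_le]
  rintro _ ⟨x, _, rfl⟩
  exact ⟨gE x, sigE_gE x⟩

/-! ### the checks -/

/-- the word of the central element -/
def zW : List ℕ := [2, 2, 0, 3, 0, 2, 2, 0, 3, 0, 2, 2, 0, 3, 0, 2, 2, 0, 3, 0, 2, 2, 0, 3, 0]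

theorem zW_eq : cert.W 5 = zW := by decide +kernel

/-- the exponents of the given words -/
def mE : ℕ → ℕ
  | 0 => 8
  | 1 => 4
  | 2 => 6
  | 3 => 1
  | 4 => 2
  | 5 => 2
  | _ => 0

/-- the image of one of the 4928 points under the central element -/
noncomputable def lz4 (p : ℕ) : ℕ := Nat.land (Nat.shiftRight t4_z (Nat.mul 13 p)) 8191

/-- the image of one of the 693 points under the central element -/
noncomputable def lz3 (p : ℕ) : ℕ := Nat.land (Nat.shiftRight t3_z (Nat.mul 10 p)) 1023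

/-- the image of one of the 4928 points under a power of the central element -/
noncomputable def ez4 (m p : ℕ) : ℕ := Nat.rec p (fun _ ih => lz4 ih) m

/-- the image of one of the 693 points under a power of the central element -/
noncomputable def ez3 (m p : ℕ) : ℕ := Nat.rec p (fun _ ih => lz3 ih) m

theorem ez4_succ (m p : ℕ) : ez4 (m + 1) p = lz4 (ez4 m p) := rfl

theorem ez3_succ (m p : ℕ) : ez3 (m + 1) p = lz3 (ez3 m p) := rfl

theorem chk_z4 : (allN 4928 fun p => Nat.beq (lz4 p) (ev4 zW p)) = true := by decide +kernel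

theorem chk_z3 : (allN 693 fun p => Nat.beq (lz3 p) (ev3 zW p)) = true := by decide +kernel

theorem chk_cen4 : allN 4 (fun x => allN 4928 fun p => Nat.beq (lk4 x (lz4 p)) (lz4 (lk4 x p))) = true := by
  decide +kernel

theorem chk_cen3 : allN 4 (fun x => allN 693 fun p => Nat.beq (lk3 x (lz3 p)) (lz3 (lk3 x p))) = true := by
  decide +kernel

theorem chk_ax4 : allN 6 (fun j => strictL (cert.W (axI j)) fun w =>
    allN 4928 fun p => Nat.beq (ev4 w p) (ez4 (mE j) p)) = true := by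
  decide +kernel

theorem chk_ax3 : allN 6 (fun j => strictL (cert.W (axI j)) fun w =>
    allN 693 fun p => Nat.beq (ev3 w p) (ez3 (mE j) p)) = true := by
  decide +kernel

theorem chk_ex4 : (allN 4928 fun p => Nat.beq (ev4 (wpow 11 [2]) p) p && Nat.beq (ev4 (wpow 5 [2, 1, 2]) p) p) = true := by
  decide +kernel

theorem chk_ex3 : (allN 693 fun p => Nat.beq (ev3 (wpow 11 [2]) p) p && Nat.beq (ev3 (wpow 5 [2, 1, 2]) p) p) = true := by
  decide +kernel

theorem chk_ord4 : (allN 4928 fun p => Nat.beq (ez4 12 p) p) = true := by decide +kernel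

theorem chk_ord3 : (allN 693 fun p => Nat.beq (ez3 12 p) p) = true := by decide +kernel

theorem chk_ne : ez4 6 0 ≠ 0 ∧ ez3 4 0 ≠ 0 := by decide +kernel

/-! ### the consequences of the checks -/

theorem ev4_lt : ∀ (w : List ℕ) (p : ℕ), p < 4928 → ev4 w p < 4928
  | [], _, hp => hp
  | x :: w, p, hp => (hh4 x (ev4 w p) (ev4_lt w p hp)).1

theorem ev3_lt : ∀ (w : List ℕ) (p : ℕ), p < 693 → ev3 w p < 693
  | [], _, hp => hp
  | x :: w, p, hp => (hh3 x (ev3 w p) (ev3_lt w p hp)).1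

theorem ev4_append : ∀ (w w' : List ℕ) (p : ℕ), ev4 (w ++ w') p = ev4 w (ev4 w' p)
  | [], _, _ => rfl
  | x :: w, w', p => by
    show lk4 x (ev4 (w ++ w') p) = lk4 x (ev4 w (ev4 w' p))
    rw [ev4_append w w' p]

theorem ev3_append : ∀ (w w' : List ℕ) (p : ℕ), ev3 (w ++ w') p = ev3 w (ev3 w' p)
  | [], _, _ => rfl
  | x :: w, w', p => by
    show lk3 x (ev3 (w ++ w') p) = lk3 x (ev3 w (ev3 w' p))
    rw [ev3_append w w' p]

theorem lz4_eq {p : ℕ} (hp : p < 4928) : lz4 p = ev4 zW p := by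
  have h := chk_z4
  rw [allN_iff] at h
  exact Nat.eq_of_beq_eq_true (h p hp)

theorem lz3_eq {p : ℕ} (hp : p < 693) : lz3 p = ev3 zW p := by
  have h := chk_z3
  rw [allN_iff] at h
  exact Nat.eq_of_beq_eq_true (h p hp)

theorem ez4_eq : ∀ (m : ℕ) {p : ℕ}, p < 4928 → ez4 m p = ev4 (wpow m zW) p
  | 0, _, _ => rfl
  | m + 1, p, hp => by
    rw [ez4_succ, ez4_eq m hp, wpow, ev4_append, lz4_eq (ev4_lt _ p hp)]

theorem ez3_eq : ∀ (m : ℕ) {p : ℕ}, p < 693 → ez3 m p = ev3 (wpow m zW) p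
  | 0, _, _ => rfl
  | m + 1, p, hp => by
    rw [ez3_succ, ez3_eq m hp, wpow, ev3_append, lz3_eq (ev3_lt _ p hp)]

/-- the central element commutes with the letters on the 4928 points -/
theorem cen4 {x p : ℕ} (hx : x < 4) (hp : p < 4928) : ev4 (x :: zW) p = ev4 (zW ++ [x]) p := by
  have h := chk_cen4
  rw [allN_iff] at h
  have h1 := h x hx
  rw [allN_iff] at h1
  have h2 : lk4 x (lz4 p) = lz4 (lk4 x p) := Nat.eq_of_beq_eq_true (h1 p hp)
  rw [ev4_append]
  show lk4 x (ev4 zW p) = ev4 zW (lk4 x p)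
  rw [← lz4_eq hp, ← lz4_eq (hh4 x p hp).1, h2]

/-- the central element commutes with the letters on the 693 points -/
theorem cen3 {x p : ℕ} (hx : x < 4) (hp : p < 693) : ev3 (x :: zW) p = ev3 (zW ++ [x]) p := by
  have h := chk_cen3
  rw [allN_iff] at h
  have h1 := h x hx
  rw [allN_iff] at h1
  have h2 : lk3 x (lz3 p) = lz3 (lk3 x p) := Nat.eq_of_beq_eq_true (h1 p hp)
  rw [ev3_append]
  show lk3 x (ev3 zW p) = ev3 zW (lk3 x p)
  rw [← lz3_eq hp, ← lz3_eq (hh3 x p hp).1, h2]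

/-- the given words are powers of the central element on the 4928 points -/
theorem ax4 {j p : ℕ} (hj : j < 6) (hp : p < 4928) : ev4 (cert.W (axI j)) p = ev4 (wpow (mE j) zW) p := by
  have h := chk_ax4
  rw [allN_iff] at h
  have h1 := h j hj
  rw [strictL_eq, allN_iff] at h1
  rw [← ez4_eq _ hp]
  exact Nat.eq_of_beq_eq_true (h1 p hp)

/-- the given words are powers of the central element on the 693 points -/
theorem ax3 {j p : ℕ} (hj : j < 6) (hp : p < 693) : ev3 (cert.W (axI j)) p = ev3 (wpow (mE j) zW) p := by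
  have h := chk_ax3
  rw [allN_iff] at h
  have h1 := h j hj
  rw [strictL_eq, allN_iff] at h1
  rw [← ez3_eq _ hp]
  exact Nat.eq_of_beq_eq_true (h1 p hp)

theorem ord4 {p : ℕ} (hp : p < 4928) : ev4 (wpow 12 zW) p = p := by
  have h := chk_ord4
  rw [allN_iff] at h
  rw [← ez4_eq _ hp]
  exact Nat.eq_of_beq_eq_true (h p hp)

theorem ord3 {p : ℕ} (hp : p < 693) : ev3 (wpow 12 zW) p = p := by
  have h := chk_ord3
  rw [allN_iff] at h
  rw [← ez3_eq _ hp]
  exact Nat.eq_of_beq_eq_true (h p hp)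

theorem ne4 : ev4 (wpow 6 zW) 0 ≠ 0 := by
  rw [← ez4_eq 6 (by norm_num : 0 < 4928)]
  exact chk_ne.1

theorem ne3 : ev3 (wpow 4 zW) 0 ≠ 0 := by
  rw [← ez3_eq 4 (by norm_num : 0 < 693)]
  exact chk_ne.2

end Cfsg.Agent.Lib.Helper7.M22Mul
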