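import Cfsg.Agent.Lib.Helper6.M22OutData

/-! # The multiplier of the Mathieu group of degree 22: the letters on the 22 points and the words that show
that they generate the group (generated) -/

set_option autoImplicit false

namespace Cfsg.Agent.Lib.Helper7.M22Mul

/-- the first generator, an involution -/
def lA : List ℕ := [7, 6, 3, 2, 5, 4, 1, 0, 14, 15, 10, 11, 12, 13, 8, 9, 16, 17, 20, 21, 18, 19, 22]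

/-- the second generator, of order eleven -/
def lC : List ℕ := [18, 6, 1, 20, 17, 11, 16, 12, 14, 3, 8, 2, 21, 19, 7, 0, 15, 5, 4, 9, 10, 13, 22]

/-- the inverse of the second generator -/
def lCi : List ℕ := [15, 2, 11, 9, 18, 17, 1, 14, 10, 19, 20, 5, 7, 21, 8, 16, 6, 4, 0, 13, 3, 12, 22]

/-- words that move each point to the first point -/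
def wit1 : List (List ℕ) := [[],
  [2, 2, 2, 0],
  [3, 0, 2, 0],
  [3, 0, 2],
  [3, 3],
  [3, 3, 0],
  [2, 2, 2],
  [0],
  [0, 2, 0],
  [2, 0],
  [3, 0, 3],
  [3, 3, 0, 3],
  [0, 3],
  [2, 0, 2, 2],
  [0, 2],
  [2],
  [2, 2],
  [3, 3, 3],
  [3],
  [2, 0, 2],
  [3, 0],
  [0, 3, 3]]

/-- words that fix the first point and move each other point to the second point -/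
def wit2 : List (List ℕ) := [[],
  [3, 0, 2, 2, 0, 3],
  [2, 0, 3, 3, 0, 3, 3, 0, 2, 2, 2],
  [3, 3, 3, 3, 3, 0, 3, 0, 2, 0, 3],
  [3, 3, 3, 0, 3, 0, 2, 2],
  [2, 0, 3, 3, 3, 3, 3, 0, 2, 2, 0, 2],
  [3, 0, 3, 3, 3, 3, 0],
  [3, 3, 3, 3, 0, 2, 2],
  [0, 2, 0, 3, 3, 0],
  [0, 3, 3, 3, 0, 2, 2, 2, 0],
  [3, 3, 0, 2, 2, 2, 2],
  [2, 0, 2, 2, 2, 2, 2, 0],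
  [2, 0, 2, 2, 2, 2, 0, 2, 0],
  [3, 3, 0, 3, 3, 0, 2, 0, 3],
  [0, 3, 3, 3, 3, 0, 2, 2, 0],
  [2, 0, 3, 3, 0, 3, 3, 3, 0, 2, 2],
  [3, 0, 3, 0, 2, 2, 2, 0, 3],
  [0, 2, 2, 0, 3, 0],
  [2, 0, 3, 3, 3, 0, 3, 3, 3, 0],
  [2, 0, 3, 3, 0, 2],
  [3, 3, 3, 0, 2, 2, 2]]

/-- words that fix the first two points and move each other point to the third point -/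
def wit3 : List (List ℕ) := [[],
  [3, 3, 3, 0, 3, 3, 0, 2, 2, 2, 2, 2],
  [3, 3, 0, 3, 0, 2, 2, 2, 0, 3, 3, 0, 3, 0, 2],
  [2, 2, 0, 3, 3],
  [0, 2, 0, 3, 0, 2, 0, 3, 3, 0, 2, 2, 0, 2],
  [0, 3, 0, 2, 0],
  [0, 2, 0, 3, 0, 2, 2, 0, 2],
  [0, 3, 0, 2, 2, 2, 2, 0, 3, 3, 3, 0],
  [2, 2, 0, 3, 3, 0, 2, 2, 2, 0, 3, 3, 3, 0],
  [2, 2, 0, 2, 2, 0, 3, 3, 0, 3, 3, 0, 2],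
  [0, 3, 3, 0, 3, 0, 2, 0, 3, 3],
  [3, 0, 3, 3, 0, 2, 0, 3, 0],
  [2, 0, 3, 3, 3, 3, 0, 3, 3, 0, 2, 2, 2, 0, 3, 0],
  [2, 2, 0, 2, 0, 3, 3, 3, 0, 3, 3, 0, 2],
  [0, 3, 3, 0, 2, 2, 0, 2, 0, 3, 3, 0, 3],
  [3, 0, 3, 3, 3, 0, 3, 0, 2, 0, 3, 3, 3, 0],
  [0, 3, 0, 2, 2, 0, 3, 0, 2, 2, 0, 2],
  [3, 0, 2, 2, 2, 0, 3, 3, 3, 3, 3, 0, 2],
  [2, 2, 2, 2, 0, 3, 3, 0, 3, 3, 0, 2],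
  [0, 3, 3, 0, 2, 2, 0, 2, 0, 3, 0, 2, 2, 0]]

/-- words for the elements that fix the first three points -/
def wit4 : List (List ℕ) := [[],
  [2, 0, 3, 0, 2, 2, 2, 0, 3, 3, 3, 0, 2, 0, 3],
  [3, 3, 3, 3, 0, 3, 3, 3, 0, 2, 2, 2, 0, 2, 2, 2, 2],
  [2, 2, 2, 2, 0, 3, 3, 0, 2, 2, 2, 0, 3, 0, 2, 2, 0, 3, 3, 0, 3, 3],
  [0, 2, 2, 2, 0, 3, 3, 3, 0],
  [0, 3, 0, 2, 0, 3, 0, 2, 2, 2, 2, 0, 3, 3, 3, 3, 0, 2, 0, 3, 0, 2, 0],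
  [3, 3, 0, 3, 0, 2, 2, 0, 3, 3, 3, 0, 3, 0, 2],
  [2, 0, 3, 3, 0, 2, 2, 2, 2, 2, 0, 2, 0, 3, 3, 3, 3, 0, 2, 2, 0, 3],
  [2, 0, 2, 2, 2, 0, 2, 0, 3, 3, 0, 3, 0, 2, 2, 2, 0, 3, 3, 3, 0],
  [0, 3, 3, 3, 0, 3, 3, 3, 3, 0, 2, 0, 3, 3, 3, 3, 0, 2, 2, 0],
  [3, 0, 2, 2, 2, 2, 2, 0, 2, 0, 3, 3, 3, 3, 0, 2],
  [2, 2, 2, 2, 0, 2, 0, 3, 3, 3],
  [3, 0, 2, 2, 0, 2, 2, 2, 0, 2, 0, 3, 3, 0, 3, 3, 0, 2],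
  [0, 3, 0, 2, 0, 3, 3, 0, 2, 2, 0, 2, 0, 3, 0, 2, 2, 0, 3, 0, 2, 0],
  [2, 2, 2, 2, 0, 2, 0, 3, 3, 3, 0, 2, 2, 2, 0, 3, 3, 3, 0],
  [2, 0, 2, 2, 2, 0, 2, 0, 3, 3, 0, 3],
  [3, 0, 2, 2, 2, 2, 0, 3, 0, 2, 0, 3, 3, 0, 2, 2, 2, 2, 0, 3, 3, 0],
  [3, 0, 3, 3, 0, 2, 0, 3, 3, 3, 0, 3, 0, 2, 0, 3, 3, 0, 3, 0, 2, 0],
  [2, 2, 0, 2, 2, 0, 3, 0, 2, 2, 2, 2, 0, 2, 2, 0, 3, 0, 2, 2],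
  [2, 0, 2, 2, 0, 2, 2, 2, 0, 3, 3, 3, 3, 0, 3, 0, 2, 2, 2, 0, 3, 0, 2, 0],
  [2, 0, 2, 2, 0, 3, 3, 0, 2, 0, 3, 0, 2, 2, 0, 3, 0, 2, 2, 0],
  [2, 2, 2, 0, 2, 0, 3, 3, 3, 0, 3, 3, 3, 3, 0, 3, 0, 2, 2, 0],
  [3, 3, 0, 2, 2, 0, 3, 3, 3, 3, 0, 2, 0, 3, 0, 2],
  [2, 2, 2, 2, 2, 0, 2, 2, 2, 0, 3, 0, 2, 0, 3, 3, 0, 2, 0, 3, 3, 3, 0, 2],
  [2, 0, 2, 2, 2, 2, 0, 2, 2, 0, 3, 3, 0, 2, 0, 3, 3, 0, 2],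
  [3, 3, 0, 2, 2, 2, 0, 2, 0, 3, 3, 3, 0, 2, 2, 2, 0, 2, 0, 3],
  [3, 0, 3, 3, 3, 3, 3, 0, 3, 3, 0, 2, 2, 2, 2, 0, 3, 3, 0],
  [3, 3, 0, 2, 2, 2, 2, 2, 0, 3, 3, 3, 0, 3, 3, 3, 3, 0, 2, 0],
  [3, 3, 0, 2, 0, 3, 3, 3, 0, 2, 2, 2, 0, 3, 3, 0, 2, 0, 3, 3],
  [2, 0, 3, 0, 2, 2, 0, 2, 2, 2, 0, 2, 2, 0, 3, 3, 0, 2, 0, 3, 3],
  [2, 2, 0, 2, 2, 2, 0, 2, 0, 3, 3, 3, 3, 0, 3, 0, 2, 2],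
  [3, 3, 0, 3, 0, 2, 2, 2, 2, 0, 3, 0, 2, 0, 3, 3, 3, 3, 0, 2, 2, 2, 2, 2],
  [0, 2, 2, 0, 3, 3, 3, 3, 0, 2, 2, 0, 3, 0, 2, 0, 3, 3, 3, 3, 0, 2],
  [3, 3, 3, 3, 3, 0, 2, 2, 2, 2, 0, 3, 0, 2, 0, 3, 3, 3, 3, 3, 0, 3, 0, 2],
  [0, 2, 2, 0, 3, 3, 3, 3, 0, 2, 2, 0, 2, 2, 2, 2, 2, 0, 2],
  [0, 3, 3, 3, 0, 3, 0, 2, 2, 2, 0, 2, 2, 2, 2, 0, 2, 0, 3, 3],
  [0, 3, 3, 0, 3, 0, 2, 2, 2, 0, 2, 0, 3, 3, 3, 0, 2, 0, 3, 0, 2, 2, 0, 2],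
  [0, 3, 3, 0, 2, 0, 3, 3, 0, 2, 0, 3, 0, 2, 2, 0, 3, 3, 0, 3],
  [2, 2, 0, 3, 0, 2, 2, 0, 3, 3, 3, 0, 2, 2, 2, 0, 3, 0, 2, 2],
  [3, 0, 2, 2, 0, 3, 0, 2, 2, 0, 3, 3, 0, 3, 3, 3, 3, 0, 3],
  [2, 2, 0, 3, 0, 2, 2, 0, 3, 3, 0, 3, 3, 3, 0, 3, 3, 0, 2, 0, 3],
  [3, 0, 2, 0, 3, 0, 2, 2, 2, 2, 0, 3, 3, 0, 2, 2],
  [0, 3, 0, 2, 2, 2, 2, 0, 2, 2, 2, 0, 3, 3, 3, 3, 3, 0, 2, 2],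
  [3, 3, 0, 2, 0, 3, 3, 0, 3, 3, 3, 3, 0, 2, 0, 3, 3, 0, 3, 3],
  [2, 2, 0, 2, 0, 3, 3, 0, 2, 2, 2, 2, 0, 2, 0, 3, 3, 0, 2, 2],
  [2, 2, 2, 2, 0, 3, 3, 0, 2, 0, 3, 0, 2, 0, 3, 3, 3, 0, 2, 0, 3, 0, 2, 0],
  [2, 2, 0, 3, 0, 2, 2, 2, 2, 0, 3, 3, 3, 0, 2, 2, 2, 0, 2, 2, 0, 2],
  [3, 3, 3, 0, 3, 0, 2, 2, 2, 2, 0, 2, 0, 3, 3, 0, 3, 3]]

end Cfsg.Agent.Lib.Helper7.M22Mul
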