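import Cfsg.Agent.Lib.Helper6.M22Out
import Cfsg.Agent.Lib.Helper6.M22Aut2
import Cfsg.Agent.Lib.Helper7.M22MulGD
import Cfsg.Agent.Lib.Helper7.M22MulD

/-!
# The multiplier of the Mathieu group of degree 22: the letters on the 22 points

Two permutations of the 22 points, an involution and an element of order eleven, belong to the group of the reference
system, generate it, and satisfy all the words of the certificate.
-/

set_option autoImplicit false
set_option maxRecDepth 100000

namespace Cfsg.Agent.Lib.Helper7.M22Mul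

open Cfsg Cfsg.Agent.Lib.Helper7.MG Cfsg.Agent.Lib.Helper7.HSMult
open Cfsg.Agent.Lib.Helper6.M22Aut Cfsg.Agent.Lib.Helper6.M22Out
open MulAction

/-- the lists of the letters -/
def letL : ℕ → List ℕ
  | 0 => lA
  | 1 => lA
  | 2 => lC
  | 3 => lCi
  | _ => idl

theorem lA_chk : chkK lA = true := by decide +kernel
theorem lC_chk : chkK lC = true := by decide +kernel
theorem lCi_chk : chkK lCi = true := by decide +kernel
theorem idl_chk : chkK idl = true := mem_T48_chk (by decide +kernel)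

theorem letL_chk : ∀ x, chkK (letL x) = true
  | 0 => lA_chk
  | 1 => lA_chk
  | 2 => lC_chk
  | 3 => lCi_chk
  | _ + 4 => idl_chk

/-- the letters in the group of the reference system -/
noncomputable def lK (x : ℕ) : K22 := kL (letL x) (letL_chk x)

theorem lK_val (x : ℕ) (p : Fin 22) : ((lK x).1 p).val = (letL x).getD p.val 0 :=
  kperm_val (letL_chk x) p

/-- the image of a point under a word -/
def evK : List ℕ → ℕ → ℕ
  | [], p => p
  | x :: w, p => (letL x).getD (evK w p) 0

theorem wd_lK_val : ∀ (w : List ℕ) (p : Fin 22), ((VCert.wd lK w : K22).1 p).val = evK w p.val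
  | [], _ => rfl
  | x :: w, p => by
    rw [VCert.wd_cons, Subgroup.coe_mul, Equiv.Perm.mul_apply, lK_val, wd_lK_val w p]
    rfl

theorem wd_lK_eq {w w' : List ℕ} (h : ∀ p, p < 22 → evK w p = evK w' p) : VCert.wd lK w = VCert.wd lK w' := by
  apply Subtype.ext
  apply Equiv.ext
  intro p
  apply Fin.ext
  rw [wd_lK_val, wd_lK_val]
  exact h p.val p.2

theorem wd_lK_eq_one {w : List ℕ} (h : ∀ p, p < 22 → evK w p = p) : VCert.wd lK w = 1 :=
  wd_lK_eq (w' := []) h

/-! ### the checks -/

theorem chk_wordsK : allN 145 (fun i => strictL (cert.W i) fun w => allN 22 fun p => Nat.beq (evK w p) p) = true := by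
  decide +kernel

theorem chk_invK : ∀ x < 4, ∀ p < 22, evK [x, Nat.xor x 1] p = p := by decide +kernel

theorem chk_ordK : (∀ p < 22, evK [2, 2, 2, 2, 2, 2, 2, 2, 2, 2, 2] p = p) ∧ evK [2] 0 ≠ 0 := by decide +kernel

theorem chk_wit1 : ∀ p < 22, ∃ w ∈ wit1, evK w p = 0 := by decide +kernel

theorem chk_wit2 : ∀ p < 22, p ≠ 0 → ∃ w ∈ wit2, evK w 0 = 0 ∧ evK w p = 1 := by decide +kernel

theorem chk_wit3 : ∀ p < 22, p ≠ 0 → p ≠ 1 → ∃ w ∈ wit3, evK w 0 = 0 ∧ evK w 1 = 1 ∧ evK w p = 2 := by
  decide +kernel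

theorem chk_wit4 : ∀ l ∈ T48, ∃ w ∈ wit4, ∀ p < 22, evK w p = l.getD p 0 := by decide +kernel

/-! ### the consequences -/

/-- **all the words of the certificate are trivial on the 22 points** -/
theorem wd_lK_W {i : ℕ} (hi : i < 145) : VCert.wd lK (cert.W i) = 1 := by
  have h := chk_wordsK
  rw [allN_iff] at h
  have h1 := h i hi
  rw [strictL_eq, allN_iff] at h1
  exact wd_lK_eq_one fun p hp => Nat.eq_of_beq_eq_true (h1 p hp)

theorem lK_iv {x : ℕ} (hx : x < 4) : lK (Nat.xor x 1) = (lK x)⁻¹ := by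
  have h := wd_lK_eq_one (chk_invK x hx)
  rw [VCert.wd_cons, VCert.wd_cons, VCert.wd_nil, mul_one] at h
  exact eq_inv_of_mul_eq_one_right h

theorem lK_of_ge {x : ℕ} (hx : 4 ≤ x) : lK x = 1 := by
  obtain ⟨y, rfl⟩ : ∃ y, x = y + 4 := ⟨x - 4, by omega⟩
  apply Subtype.ext
  rw [Subgroup.coe_one]
  show kperm (letL (y + 4)) = 1
  exact kperm_idl

theorem lK_two_pow : lK 2 ^ 11 = 1 := by
  have h := wd_lK_eq_one chk_ordK.1
  simp only [VCert.wd_cons, VCert.wd_nil, mul_one] at h
  rw [← h]
  simp only [pow_succ, pow_zero, one_mul, mul_assoc]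

theorem lK_two_ne : lK 2 ≠ 1 := by
  intro h
  have h1 := lK_val 2 0
  rw [h] at h1
  exact chk_ordK.2 h1.symm

theorem orderOf_lK_two : orderOf (lK 2) = 11 :=
  have : Fact (Nat.Prime 11) := ⟨by norm_num⟩
  orderOf_eq_prime lK_two_pow lK_two_ne

theorem dvd_of_lK_two_pow {i : ℕ} (h : lK 2 ^ i = 1) : 11 ∣ i := by
  rw [← orderOf_lK_two]
  exact orderOf_dvd_of_pow_eq_one h

/-! ### the letters generate the group -/

theorem lK_mem (x : ℕ) : lK x ∈ Subgroup.closure (lK '' Set.Iio 4) := by
  rcases Nat.lt_or_ge x 4 with h | h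
  · exact Subgroup.subset_closure ⟨x, h, rfl⟩
  · rw [lK_of_ge h]; exact one_mem _

theorem wd_lK_mem : ∀ w : List ℕ, VCert.wd lK w ∈ Subgroup.closure (lK '' Set.Iio 4)
  | [] => one_mem _
  | x :: w => by
    rw [VCert.wd_cons]
    exact mul_mem (lK_mem x) (wd_lK_mem w)

theorem wd_mul_val (w : List ℕ) (g : K22) (p : Fin 22) :
    (((VCert.wd lK w * g : K22).1) p).val = evK w (g.1 p).val := by
  rw [Subgroup.coe_mul, Equiv.Perm.mul_apply, wd_lK_val]

/-- **the letters generate the group of the reference system** -/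
theorem closure_lK : Subgroup.closure (lK '' Set.Iio 4) = ⊤ := by
  rw [Subgroup.eq_top_iff']
  intro g
  set S := Subgroup.closure (lK '' Set.Iio 4) with hS
  -- the first point
  obtain ⟨w1, _, h1⟩ := chk_wit1 (g.1 0).val (g.1 0).2
  set g1 : K22 := VCert.wd lK w1 * g with hg1
  have e1 : (g1.1 0).val = 0 := by rw [hg1, wd_mul_val]; exact h1
  have e1' : g1.1 0 = 0 := Fin.ext e1
  -- the second point
  have hp1 : (g1.1 1).val ≠ 0 := by
    intro h
    have : g1.1 1 = g1.1 0 := Fin.ext (by rw [h, e1])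
    exact absurd (g1.1.injective this) (by decide)
  obtain ⟨w2, _, h2, h2'⟩ := chk_wit2 (g1.1 1).val (g1.1 1).2 hp1
  set g2 : K22 := VCert.wd lK w2 * g1 with hg2
  have e2 : (g2.1 0).val = 0 := by rw [hg2, wd_mul_val, e1]; exact h2
  have e2' : (g2.1 1).val = 1 := by rw [hg2, wd_mul_val]; exact h2'
  -- the third point
  have hp2 : (g2.1 2).val ≠ 0 := by
    intro h
    have : g2.1 2 = g2.1 0 := Fin.ext (by rw [h, e2])
    exact absurd (g2.1.injective this) (by decide)
  have hp2' : (g2.1 2).val ≠ 1 := by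
    intro h
    have : g2.1 2 = g2.1 1 := Fin.ext (by rw [h, e2'])
    exact absurd (g2.1.injective this) (by decide)
  obtain ⟨w3, _, h3, h3', h3''⟩ := chk_wit3 (g2.1 2).val (g2.1 2).2 hp2 hp2'
  set g3 : K22 := VCert.wd lK w3 * g2 with hg3
  have e3 : (g3.1 0).val = 0 := by rw [hg3, wd_mul_val, e2]; exact h3
  have e3' : (g3.1 1).val = 1 := by rw [hg3, wd_mul_val, e2']; exact h3'
  have e3'' : (g3.1 2).val = 2 := by rw [hg3, wd_mul_val]; exact h3''
  -- the stabiliser of three points
  have hst : g3 ∈ stabilizer K22 x0 := by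
    rw [mem_stabilizer_iff]
    ext i
    show (g3.1 (x0 i)).val = (x0 i).val
    fin_cases i
    · exact e3
    · exact e3'
    · exact e3''
  obtain ⟨l, hl, hgl⟩ := exists_list_of_stab g3 hst
  obtain ⟨w4, _, h4⟩ := chk_wit4 l hl
  have e4 : g3 = VCert.wd lK w4 := by
    apply Subtype.ext
    rw [hgl]
    apply Equiv.ext
    intro p
    apply Fin.ext
    rw [kperm_val (mem_T48_chk hl), wd_lK_val, h4 p.val p.2]
  have m3 : g3 ∈ S := by rw [e4]; exact wd_lK_mem w4
  have m2 : g2 ∈ S := by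
    have : g2 = (VCert.wd lK w3)⁻¹ * g3 := by rw [hg3, inv_mul_cancel_left]
    rw [this]
    exact mul_mem (inv_mem (wd_lK_mem w3)) m3
  have m1 : g1 ∈ S := by
    have : g1 = (VCert.wd lK w2)⁻¹ * g2 := by rw [hg2, inv_mul_cancel_left]
    rw [this]
    exact mul_mem (inv_mem (wd_lK_mem w2)) m2
  have : g = (VCert.wd lK w1)⁻¹ * g1 := by rw [hg1, inv_mul_cancel_left]
  rw [this]
  exact mul_mem (inv_mem (wd_lK_mem w1)) m1

/-- the group of the reference system is perfect -/
theorem K22_perfect : commutator ↥K22 = ⊤ := by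
  have hs := K22_simple
  have hn : (commutator ↥K22).Normal := inferInstance
  rcases hn.eq_bot_or_eq_top with h | h
  · exfalso
    rw [commutator_eq_bot_iff_center_eq_top] at h
    -- the group would be commutative, but two letters do not commute
    have h1 : lK 0 * lK 2 = lK 2 * lK 0 := by
      have := Subgroup.mem_center_iff.1 (h ▸ Subgroup.mem_top (lK 0)) (lK 2)
      exact this.symm
    have h2 : (((lK 0 * lK 2 : K22).1) 0).val = (((lK 2 * lK 0 : K22).1) 0).val := by rw [h1]
    rw [Subgroup.coe_mul, Subgroup.coe_mul, Equiv.Perm.mul_apply, Equiv.Perm.mul_apply, lK_val, lK_val, lK_val,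
      lK_val] at h2
    revert h2
    decide +kernel
  · exact h

end Cfsg.Agent.Lib.Helper7.M22Mul
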