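import Cfsg.Agent.Lib.Helper7.M22MulC

/-! # The multiplier of the Mathieu group of degree 22: the check of the rows 36288 to 38303 of the certificate (generated) -/

set_option autoImplicit false
set_option maxRecDepth 100000

namespace Cfsg.Agent.Lib.Helper7.M22Mul

theorem rows_ok_18 : rowsOK 36288 2016 = true := by decide +kernel

end Cfsg.Agent.Lib.Helper7.M22Mul
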