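import Cfsg.Agent.Lib.Helper7.MGenH

/-!
# A static certificate for an enumeration of cosets with formal central displacements: any number of central elements and up to a million words

A group is generated by letters `γ x`; some words in the letters are equal to given products of powers of central
elements `z 0, …, z (k - 1)`.  The displacements are packed into one number, twenty binary digits for each central
element, and are added as numbers.  Every entry `(a, x) ↦ b` of the table carries a displacement `d`, and says that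
`τ a * γ x` and `τ b * z ^ d` lie in the same right coset of `H`.  The entries are found one after the other, by
words traced with one gap through entries found before.  A word that lies in a central subgroup meeting `H`
trivially, once traced without gap from some row, has the value that the trace gives, and may be used from then on.

This is the certificate of `MGenA` with a wider field for the number of the word in a packed entry.
-/

set_option autoImplicit false

namespace Cfsg.Agent.Lib.Helper7.MG2

open Cfsg.Agent.Lib.Helper8.CosetCert (R index_le_of_closed)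
open Cfsg.Agent.Lib.Helper7.HSMult (strictN strictN_eq strictL strictL_eq)
open scoped IsMulCommutative

/-! ### packed vectors -/

/-- the width of a field -/
def SW : ℕ := 1048576

/-- the field `j` of a packed vector -/
def fld (v j : ℕ) : ℕ := Nat.mod (Nat.div v (SW ^ j)) SW

theorem fld_zero (v : ℕ) : fld v 0 = v % SW := by
  show (v / SW ^ 0) % SW = v % SW
  rw [pow_zero, Nat.div_one]

theorem fld_succ (v j : ℕ) : fld v (j + 1) = fld (v / SW) j := by
  show (v / SW ^ (j + 1)) % SW = ((v / SW) / SW ^ j) % SW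
  rw [pow_succ', Nat.div_div_eq_div_mul]

theorem fld_lt (v j : ℕ) : fld v j < SW := Nat.mod_lt _ (by norm_num [SW])

/-- without carries the fields of a sum are the sums of the fields -/
theorem fld_add : ∀ (j v w : ℕ), (∀ i, i ≤ j → fld v i + fld w i < SW) → fld (v + w) j = fld v j + fld w j
  | 0, v, w, h => by
    have h0 := h 0 le_rfl
    rw [fld_zero, fld_zero] at h0
    rw [fld_zero, fld_zero, fld_zero, Nat.add_mod, Nat.mod_eq_of_lt h0]
  | j + 1, v, w, h => by
    have h0 := h 0 (Nat.zero_le _)
    rw [fld_zero, fld_zero] at h0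
    have hd : (v + w) / SW = v / SW + w / SW := by
      rw [Nat.add_div (by norm_num [SW])]
      rw [if_neg (by omega)]
      rfl
    rw [fld_succ, fld_succ, fld_succ, hd]
    apply fld_add j
    intro i hi
    have := h (i + 1) (by omega)
    rwa [fld_succ, fld_succ] at this

/-- the fields below `k` are at most `m * 4095` -/
def Bdd (k v m : ℕ) : Prop := ∀ j, j < k → fld v j ≤ m * 4095

theorem Bdd.add {k v w m m' : ℕ} (hv : Bdd k v m) (hw : Bdd k w m') (hm : m + m' ≤ 255) :
    Bdd k (v + w) (m + m') ∧ ∀ j, j < k → fld (v + w) j = fld v j + fld w j := by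
  have key : ∀ j, j < k → fld (v + w) j = fld v j + fld w j := by
    intro j hj
    apply fld_add
    intro i hi
    have h1 := hv i (by omega)
    have h2 := hw i (by omega)
    have : (m + m') * 4095 < SW := by
      have : (m + m') * 4095 ≤ 255 * 4095 := Nat.mul_le_mul_right _ hm
      norm_num [SW] at this ⊢
      omega
    nlinarith
  refine ⟨fun j hj => ?_, key⟩
  rw [key j hj]
  have h1 := hv j hj
  have h2 := hw j hj
  nlinarith

theorem Bdd_zero (k : ℕ) : Bdd k 0 0 := by
  intro j _
  show (0 / SW ^ j) % SW ≤ 0 * 4095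
  simp

/-- the test that the fields below `k` are below `4096` and that there is nothing above them -/
def fldOK : ℕ → ℕ → Bool
  | 0, v => Nat.beq v 0
  | k + 1, v => Nat.blt (Nat.mod v SW) 4096 && fldOK k (Nat.div v SW)

theorem Bdd_of_fldOK : ∀ (k v : ℕ), fldOK k v = true → Bdd k v 1
  | 0, _, _ => fun j hj => absurd hj (Nat.not_lt_zero j)
  | k + 1, v, h => by
    rw [fldOK, Bool.and_eq_true] at h
    have h1' : Nat.mod v SW < 4096 := by simpa [Nat.blt] using h.1
    have h1 : v % SW < 4096 := h1'
    have ih := Bdd_of_fldOK k (v / SW) h.2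
    intro j hj
    cases j with
    | zero => rw [fld_zero]; omega
    | succ j => rw [fld_succ]; exact ih j (by omega)

/-! ### the fields of a packed entry -/

/-- the row of the entry -/
def fb (s : ℕ) : ℕ := Nat.land s 1048575
/-- the time of the entry -/
def ft (s : ℕ) : ℕ := Nat.land (Nat.shiftRight s 20) 4095
/-- the kind of the reason of the entry -/
def fk (s : ℕ) : ℕ := Nat.land (Nat.shiftRight s 32) 3
/-- the word of the reason of the entry -/
def fr (s : ℕ) : ℕ := Nat.land (Nat.shiftRight s 34) 1048575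
/-- the place in the word of the reason of the entry -/
def fp (s : ℕ) : ℕ := Nat.land (Nat.shiftRight s 54) 255
/-- the packed displacement of the entry -/
def fd (s : ℕ) : ℕ := Nat.shiftRight s 62

/-- the data: the number of rows, of letters, of central elements, of words; the offset of the displacements; the
inverses of the letters; the letters in the subgroup; the packed entries; the packed definitions of the rows; the
words, their packed classes, the times from which they may be used and the rows from which they are traced -/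
structure VCert where
  n : ℕ
  g : ℕ
  k : ℕ
  nW : ℕ
  B : ℕ
  iv : ℕ → ℕ
  sub : ℕ → Bool
  sl : ℕ → ℕ → ℕ
  pr : ℕ → ℕ
  W : ℕ → List ℕ
  rhs : ℕ → ℕ
  wT : ℕ → ℕ
  wA : ℕ → ℕ

namespace VCert

variable (C : VCert)

/-- follow the letters of a word from a row, through entries found before the time `t`, adding the displacements -/
def scan (t : ℕ) : List ℕ → ℕ → ℕ → Option (ℕ × ℕ)
  | [], cur, acc => some (cur, acc)
  | y :: w, cur, acc =>
    strictN (C.sl cur y) fun s =>
      cond (Nat.blt (ft s) t && Nat.blt cur C.n && Nat.blt y C.g)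
        (scan t w (fb s) (Nat.add acc (fd s))) none

/-- the packed offsets of one entry -/
def Bv : ℕ → ℕ → ℕ
  | 0, _ => 0
  | k + 1, B => Nat.add B (Nat.mul SW (Bv k B))

/-- the check of one entry -/
def slotOK (a x : ℕ) : Bool :=
  strictN (C.sl a x) fun s =>
    Nat.blt (fb s) C.n && fldOK C.k (fd s) &&
    (match fk s with
    | 0 => Nat.beq (C.pr (fb s)) (Nat.add a (Nat.mul 1048576 x)) && Nat.blt a (fb s) &&
        Nat.beq (fd s) (Bv C.k C.B)
    | 1 => strictN (C.sl (fb s) (C.iv x)) fun s' =>
        Nat.beq (fb s') a && Nat.blt (ft s') (ft s) && Nat.blt (C.iv x) C.g &&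
        Nat.beq (Nat.add (fd s) (fd s')) (Nat.mul 2 (Bv C.k C.B))
    | 2 => Nat.beq a 0 && Nat.beq (fb s) 0 && C.sub x && Nat.beq (fd s) (Bv C.k C.B)
    | _ => strictL (C.W (fr s)) fun w =>
      Nat.blt (fr s) C.nW && Nat.ble (C.wT (fr s)) (ft s) && Nat.ble w.length 255 &&
      (match w[fp s]? with
       | some y => Nat.beq y x
       | none => false) &&
      (match C.scan (ft s) (w.drop (fp s + 1)) (fb s) 0 with
       | none => false
       | some (m, u) =>
         match C.scan (ft s) (w.take (fp s)) m u with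
         | none => false
         | some (a', v) => Nat.beq a' a && Nat.beq (Nat.add v (fd s)) (C.rhs (fr s))))

/-- the check of one word: it is given, or it is traced without gap from a row -/
def wordOK (i : ℕ) : Bool :=
  Nat.beq (C.wT i) 0 ||
    strictL (C.W i) fun w =>
      Nat.ble w.length 255 && Nat.blt (C.wA i) C.n &&
      (match C.scan (C.wT i) w (C.wA i) 0 with
       | none => false
       | some (a', v) => Nat.beq a' (C.wA i) && Nat.beq v (C.rhs i))

/-! ### soundness -/

section sound

variable {Γ : Type*} [Group Γ] (γ : ℕ → Γ) (H : Subgroup Γ) (z : ℕ → Subgroup.center Γ)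

/-- the value of a word -/
def wd (w : List ℕ) : Γ := (w.map γ).prod

theorem wd_nil : wd γ [] = 1 := rfl

theorem wd_cons (x : ℕ) (w : List ℕ) : wd γ (x :: w) = γ x * wd γ w := by
  rw [wd, List.map_cons, List.prod_cons]; rfl

theorem wd_append (w w' : List ℕ) : wd γ (w ++ w') = wd γ w * wd γ w' := by
  rw [wd, List.map_append, List.prod_append]; rfl

/-- the product of powers of the central elements that belongs to a packed sum of `c` displacements -/
def kap (v c : ℕ) : Subgroup.center Γ :=
  ∏ j ∈ Finset.range C.k, z j ^ ((fld v j : ℤ) - (c : ℤ) * (C.B : ℤ))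

theorem kap_comm (v c : ℕ) (x : Γ) : (C.kap z v c : Γ) * x = x * (C.kap z v c : Γ) :=
  ((Subgroup.mem_center_iff.1 (C.kap z v c).2) x).symm

theorem kap_add {v w : ℕ} (c d : ℕ) (h : ∀ j, j < C.k → fld (v + w) j = fld v j + fld w j) :
    C.kap z (v + w) (c + d) = C.kap z v c * C.kap z w d := by
  unfold kap
  rw [← Finset.prod_mul_distrib]
  apply Finset.prod_congr rfl
  intro j hj
  rw [← zpow_add, h j (Finset.mem_range.1 hj)]
  congr 1
  push_cast
  ring

theorem kap_zero : C.kap z 0 0 = 1 := by
  unfold kap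
  apply Finset.prod_eq_one
  intro j _
  have : fld 0 j = 0 := by
    show (0 / SW ^ j) % SW = 0
    simp
  rw [this]
  simp

/-- the element of the group that belongs to a row -/
noncomputable def τ (r : ℕ) : Γ :=
  if _h : Nat.mod (C.pr r) 1048576 < r then τ (Nat.mod (C.pr r) 1048576) * γ (Nat.div (C.pr r) 1048576) else 1
termination_by r
decreasing_by assumption

theorem τ_zero : C.τ γ 0 = 1 := by
  rw [τ]
  simp

theorem τ_def {a x r : ℕ} (har : a < r) (ha : a < 1048576) (hP : C.pr r = a + 1048576 * x) :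
    C.τ γ r = C.τ γ a * γ x := by
  have h1 : Nat.mod (C.pr r) 1048576 = a := by
    rw [hP]
    show (a + 1048576 * x) % 1048576 = a
    rw [Nat.add_mul_mod_self_left, Nat.mod_eq_of_lt ha]
  have h2 : Nat.div (C.pr r) 1048576 = x := by
    rw [hP]
    show (a + 1048576 * x) / 1048576 = x
    rw [Nat.add_mul_div_left _ _ (by norm_num), Nat.div_eq_of_lt ha, zero_add]
  rw [τ, dif_pos (by rw [h1]; exact har), h1, h2]

/-- the displacement of an entry -/
def dk (s : ℕ) : Subgroup.center Γ := C.kap z (fd s) 1

/-- the class of a word -/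
def ek (i : ℕ) : Subgroup.center Γ := C.kap z (C.rhs i) (C.W i).length

/-- all that the table says with entries found before the time `t` is true -/
def Good (t : ℕ) : Prop :=
  ∀ a x, a < C.n → x < C.g → ft (C.sl a x) < t →
    Bdd C.k (fd (C.sl a x)) 1 ∧
    R H (C.τ γ a * γ x) (C.τ γ (fb (C.sl a x)) * (C.dk z (C.sl a x) : Γ))

/-- the words that may be used at the time `t` have their classes as values -/
def WGood (t : ℕ) : Prop := ∀ i, i < C.nW → C.wT i ≤ t → wd γ (C.W i) = (C.ek z i : Γ)

variable {γ H z}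

theorem scan_spec {t : ℕ} (hG : C.Good γ H z t) : ∀ (w : List ℕ) (cur acc m e acc' : ℕ),
    Bdd C.k acc m → m + w.length ≤ 255 → C.scan t w cur acc = some (e, acc') →
    Bdd C.k acc' (m + w.length) ∧
    R H (C.τ γ cur * wd γ w) (C.τ γ e * ((C.kap z acc' (m + w.length) * (C.kap z acc m)⁻¹ :
      Subgroup.center Γ) : Γ))
  | [], cur, acc, m, e, acc', hb, _, h => by
    simp only [scan, Option.some.injEq, Prod.mk.injEq] at h
    obtain ⟨rfl, rfl⟩ := h
    refine ⟨by simpa using hb, ?_⟩
    simp only [List.length_nil, Nat.add_zero, mul_inv_cancel, Subgroup.coe_one, mul_one, wd_nil]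
    exact R.refl _
  | y :: w, cur, acc, m, e, acc', hb, hm, h => by
    rw [scan, strictN_eq] at h
    cases hc : (Nat.blt (ft (C.sl cur y)) t && Nat.blt cur C.n && Nat.blt y C.g) with
    | false => rw [hc] at h; exact absurd h (by simp)
    | true =>
      rw [hc, cond_true] at h
      rw [Bool.and_eq_true, Bool.and_eq_true] at hc
      obtain ⟨⟨h1, h2⟩, h3⟩ := hc
      have h1' : ft (C.sl cur y) < t := by simpa [Nat.blt] using h1
      have h2' : cur < C.n := by simpa [Nat.blt] using h2
      have h3' : y < C.g := by simpa [Nat.blt] using h3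
      obtain ⟨hbs, h4⟩ := hG cur y h2' h3' h1'
      have hl : (y :: w).length = w.length + 1 := List.length_cons
      rw [hl] at hm
      obtain ⟨hb1, hf1⟩ := hb.add hbs (by omega : m + 1 ≤ 255)
      obtain ⟨hb2, ih⟩ := scan_spec hG w _ _ (m + 1) e acc' hb1 (by omega) h
      have e1 : m + 1 + w.length = m + (y :: w).length := by rw [hl]; omega
      rw [e1] at hb2 ih
      refine ⟨hb2, ?_⟩
      have hk : C.kap z (acc + fd (C.sl cur y)) (m + 1) = C.kap z acc m * C.dk z (C.sl cur y) :=
        C.kap_add z m 1 hf1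
      rw [wd_cons, ← mul_assoc]
      have h5 := h4.mul_right (wd γ w)
      rw [mul_assoc (C.τ γ (fb (C.sl cur y))), ← Subgroup.mem_center_iff.1 (C.dk z (C.sl cur y)).2,
        ← mul_assoc] at h5
      have h6 := ih.mul_right (C.dk z (C.sl cur y) : Γ)
      have h7 := h5.trans h6
      have e2 : (C.kap z acc' (m + (y :: w).length) * (C.kap z (acc + fd (C.sl cur y)) (m + 1))⁻¹ :
          Subgroup.center Γ) * C.dk z (C.sl cur y) =
          C.kap z acc' (m + (y :: w).length) * (C.kap z acc m)⁻¹ := by
        rw [hk, mul_inv, mul_assoc, mul_assoc, inv_mul_cancel, mul_one]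
      rw [mul_assoc (C.τ γ e), ← Subgroup.coe_mul, e2] at h7
      exact h7

/-! ### the offsets -/

theorem fld_Bv {B : ℕ} (hB : B < SW) : ∀ (k j : ℕ), j < k → fld (Bv k B) j = B
  | 0, j, h => absurd h (Nat.not_lt_zero j)
  | k + 1, 0, _ => by
    rw [fld_zero]
    show (B + SW * Bv k B) % SW = B
    rw [Nat.add_mul_mod_self_left, Nat.mod_eq_of_lt hB]
  | k + 1, j + 1, h => by
    rw [fld_succ]
    have : (Bv (k + 1) B) / SW = Bv k B := by
      show (B + SW * Bv k B) / SW = Bv k B
      rw [Nat.add_mul_div_left _ _ (by norm_num [SW]), Nat.div_eq_of_lt hB, zero_add]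
    rw [this]
    exact fld_Bv hB k j (by omega)

theorem kap_Bv (hB : C.B < 4096) : C.kap z (Bv C.k C.B) 1 = 1 := by
  unfold kap
  apply Finset.prod_eq_one
  intro j hj
  rw [fld_Bv (by norm_num [SW]; omega) C.k j (Finset.mem_range.1 hj)]
  simp

theorem kap_mem (Kc : Subgroup Γ) (hz : ∀ j, j < C.k → (z j : Γ) ∈ Kc) (v c : ℕ) : (C.kap z v c : Γ) ∈ Kc := by
  have h : C.kap z v c ∈ Kc.comap (Subgroup.center Γ).subtype := by
    unfold kap
    apply Subgroup.prod_mem
    intro j hj
    exact Subgroup.zpow_mem _ (hz j (Finset.mem_range.1 hj)) _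
  exact h

/-- **a word that lies in a normal subgroup meeting `H` trivially, traced without gap, has the value that the trace
gives** -/
theorem word_of_scan (Kc : Subgroup Γ) (hKn : ∀ u, u ∈ Kc → ∀ g : Γ, g * u * g⁻¹ ∈ Kc)
    (hz : ∀ j, j < C.k → (z j : Γ) ∈ Kc)
    (hHK : ∀ u, u ∈ H → u ∈ Kc → u = 1) {T : ℕ} (hG : C.Good γ H z T) {w : List ℕ} {a v : ℕ}
    (hw : wd γ w ∈ Kc) (hl : w.length ≤ 255) (h : C.scan T w a 0 = some (a, v)) :
    wd γ w = (C.kap z v w.length : Γ) := by
  obtain ⟨_, h1⟩ := C.scan_spec hG w a 0 0 a v (Bdd_zero _) (by omega) h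
  rw [kap_zero, inv_one, mul_one, Nat.zero_add] at h1
  have h2 : C.τ γ a * wd γ w * (C.τ γ a * (C.kap z v w.length : Γ))⁻¹ ∈ H := h1
  set u := wd γ w * (C.kap z v w.length : Γ)⁻¹ with hu
  have huK : u ∈ Kc := Kc.mul_mem hw (Kc.inv_mem (C.kap_mem Kc hz v _))
  have h3 : C.τ γ a * wd γ w * (C.τ γ a * (C.kap z v w.length : Γ))⁻¹ = C.τ γ a * u * (C.τ γ a)⁻¹ := by
    rw [mul_inv_rev, hu]
    simp only [mul_assoc]
  rw [h3] at h2
  have h4 := hHK _ h2 (hKn u huK (C.τ γ a))
  have h5 : u = 1 := by
    have : u = (C.τ γ a)⁻¹ * (C.τ γ a * u * (C.τ γ a)⁻¹) * C.τ γ a := by group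
    rw [this, h4]
    group
  rw [hu] at h5
  exact mul_inv_eq_one.1 h5

section main

variable (Kc : Subgroup Γ) (hKc : ∀ u, u ∈ Kc → ∀ g : Γ, g * u * g⁻¹ ∈ Kc) (hz : ∀ j, j < C.k → (z j : Γ) ∈ Kc)
  (hHK : ∀ u, u ∈ H → u ∈ Kc → u = 1)
  (hn : C.n ≤ 1048576) (hB : C.B < 4096) (hinv : ∀ x, x < C.g → γ (C.iv x) = (γ x)⁻¹)
  (hsub : ∀ x, C.sub x = true → γ x ∈ H)
  (hWK : ∀ i, i < C.nW → wd γ (C.W i) ∈ Kc)
  (hW0 : ∀ i, i < C.nW → C.wT i = 0 → wd γ (C.W i) = (C.ek z i : Γ))
  (hall : ∀ a, a < C.n → ∀ x, x < C.g → C.slotOK a x = true)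
  (hwall : ∀ i, i < C.nW → C.wordOK i = true)

include hn hB hinv hsub hall in
theorem good_succ {t : ℕ} (hG : C.Good γ H z t) (hWG : C.WGood γ z t) : C.Good γ H z (t + 1) := by
  intro a x ha hx ht
  rcases Nat.lt_or_ge (ft (C.sl a x)) t with h | h
  · exact hG a x ha hx h
  have ht' : ft (C.sl a x) = t := by omega
  have hs := hall a ha x hx
  rw [slotOK, strictN_eq, Bool.and_eq_true, Bool.and_eq_true] at hs
  obtain ⟨⟨hb, hf⟩, hs⟩ := hs
  have hb' : fb (C.sl a x) < C.n := by simpa [Nat.blt] using hb
  have hbd := Bdd_of_fldOK _ _ hf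
  refine ⟨hbd, ?_⟩
  set s := C.sl a x with hsdef
  split at hs
  · -- the definition of a row
    simp only [Bool.and_eq_true] at hs
    obtain ⟨⟨h1, h2⟩, h3⟩ := hs
    have h1' : C.pr (fb s) = a + 1048576 * x := Nat.eq_of_beq_eq_true h1
    have h2' : a < fb s := by simpa [Nat.blt] using h2
    have h3' : fd s = Bv C.k C.B := Nat.eq_of_beq_eq_true h3
    rw [C.τ_def γ h2' (lt_of_lt_of_le ha hn) h1', dk, h3', C.kap_Bv hB, Subgroup.coe_one, mul_one]
    exact R.refl _
  · -- the entry in the other direction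
    rw [strictN_eq] at hs
    simp only [Bool.and_eq_true] at hs
    obtain ⟨⟨⟨h1, h2⟩, h3⟩, h4⟩ := hs
    have h1' : fb (C.sl (fb s) (C.iv x)) = a := Nat.eq_of_beq_eq_true h1
    have h2' : ft (C.sl (fb s) (C.iv x)) < ft s := by simpa [Nat.blt] using h2
    have h3' : C.iv x < C.g := by simpa [Nat.blt] using h3
    have h4' : fd s + fd (C.sl (fb s) (C.iv x)) = 2 * Bv C.k C.B := Nat.eq_of_beq_eq_true h4
    obtain ⟨hbd', h7⟩ := hG (fb s) (C.iv x) hb' h3' (by rw [ht'] at h2'; exact h2')
    rw [h1', hinv x hx] at h7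
    have h8 := (h7.mul_right (γ x)).symm
    rw [inv_mul_cancel_right, mul_assoc, ← Subgroup.mem_center_iff.1 (C.dk z _).2, ← mul_assoc] at h8
    have h9 := h8.mul_right (C.dk z s : Γ)
    obtain ⟨_, hf2⟩ := hbd.add hbd' (by norm_num : 1 + 1 ≤ 255)
    have e1 : C.dk z (C.sl (fb s) (C.iv x)) * C.dk z s = 1 := by
      rw [mul_comm, dk, dk, ← C.kap_add z 1 1 hf2, h4', two_mul]
      have hBB : ∀ j, j < C.k → fld (Bv C.k C.B + Bv C.k C.B) j = fld (Bv C.k C.B) j + fld (Bv C.k C.B) j := by
        intro j hj
        apply fld_add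
        intro i hi
        rw [fld_Bv (by norm_num [SW]; omega) C.k i (by omega)]
        norm_num [SW]; omega
      rw [C.kap_add z 1 1 hBB, C.kap_Bv hB, mul_one]
    rw [mul_assoc (C.τ γ a * γ x), ← Subgroup.coe_mul, e1, Subgroup.coe_one, mul_one] at h9
    exact h9
  · -- a letter of the subgroup
    simp only [Bool.and_eq_true] at hs
    obtain ⟨⟨⟨h1, h2⟩, h3⟩, h4⟩ := hs
    have h1' : a = 0 := Nat.eq_of_beq_eq_true h1
    have h2' : fb s = 0 := Nat.eq_of_beq_eq_true h2
    have h4' : fd s = Bv C.k C.B := Nat.eq_of_beq_eq_true h4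
    rw [h2', h1', dk, h4', C.kap_Bv hB, Subgroup.coe_one, mul_one, τ_zero, one_mul]
    show γ x * 1⁻¹ ∈ H
    rw [inv_one, mul_one]
    exact hsub x h3
  · -- a word with a gap
    rw [strictL_eq] at hs
    simp only [Bool.and_eq_true] at hs
    obtain ⟨⟨⟨⟨hs1, hs2⟩, hs3⟩, hs0⟩, hs⟩ := hs
    have hi : fr s < C.nW := by simpa [Nat.blt] using hs1
    have hT : C.wT (fr s) ≤ ft s := by simpa [Nat.ble] using hs2
    set w := C.W (fr s) with hw
    set p := fp s with hp
    have hlen : w.length ≤ 255 := by simpa [Nat.ble] using hs3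
    have hx' : w[p]? = some x := by
      cases hq : w[p]? with
      | none => rw [hq] at hs0; exact absurd hs0 (by simp)
      | some y =>
        rw [hq] at hs0
        rw [Nat.eq_of_beq_eq_true hs0]
    cases hq1 : C.scan (ft s) (w.drop (p + 1)) (fb s) 0 with
    | none => rw [hq1] at hs; exact absurd hs (by simp)
    | some r1 =>
      obtain ⟨m, u⟩ := r1
      rw [hq1] at hs
      dsimp only at hs
      cases hq2 : C.scan (ft s) (w.take p) m u with
      | none => rw [hq2] at hs; exact absurd hs (by simp)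
      | some r2 =>
        obtain ⟨a', v⟩ := r2
        rw [hq2] at hs
        dsimp only at hs
        simp only [Bool.and_eq_true] at hs
        obtain ⟨h1, h2⟩ := hs
        have h1' : a' = a := Nat.eq_of_beq_eq_true h1
        subst h1'
        have h2' : v + fd s = C.rhs (fr s) := Nat.eq_of_beq_eq_true h2
        rw [ht'] at hq1 hq2 hT
        have hpl : p < w.length := by
          by_contra hcon
          rw [List.getElem?_eq_none (by omega)] at hx'
          exact absurd hx' (by simp)
        have hsplit : w = w.take p ++ x :: w.drop (p + 1) := by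
          have hx'' : w[p] = x := by
            rw [List.getElem?_eq_getElem hpl] at hx'
            exact Option.some.inj hx'
          rw [← hx'', ← List.drop_eq_getElem_cons hpl, List.take_append_drop]
        have hl1 : (w.take p).length = p := by rw [List.length_take]; omega
        have hl2 : (w.drop (p + 1)).length = w.length - (p + 1) := List.length_drop
        obtain ⟨hbF, hF⟩ := C.scan_spec hG _ _ 0 0 _ _ (Bdd_zero _) (by rw [hl2]; omega) hq1
        rw [kap_zero, inv_one, mul_one, Nat.zero_add] at hF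
        rw [Nat.zero_add] at hbF
        obtain ⟨hbB, hB'⟩ := C.scan_spec hG _ _ _ _ _ _ hbF (by rw [hl1, hl2]; omega) hq2
        have hcnt : (w.drop (p + 1)).length + (w.take p).length = w.length - 1 := by
          rw [hl1, hl2]; omega
        rw [hcnt] at hbB hB'
        set P := wd γ (w.take p) with hPdef
        set S := wd γ (w.drop (p + 1)) with hSdef
        have hprod : P * γ x * S = (C.ek z (fr s) : Γ) := by
          have h5 := hWG (fr s) hi hT
          rw [← hw, hsplit, wd_append, wd_cons, ← mul_assoc] at h5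
          exact h5
        -- the value of the class
        obtain ⟨_, hf3⟩ := hbB.add hbd (by omega : w.length - 1 + 1 ≤ 255)
        have hek : C.ek z (fr s) = C.kap z v (w.length - 1) * C.dk z s := by
          rw [ek, ← hw, ← h2', dk, ← C.kap_add z _ 1 hf3]
          congr 1
          omega
        -- the chain
        set X1 := C.kap z u (w.drop (p + 1)).length with hX1
        have e0 : C.τ γ m * (X1 : Γ) * P = C.τ γ m * P * (X1 : Γ) := by
          rw [mul_assoc, ← Subgroup.mem_center_iff.1 X1.2 P, ← mul_assoc]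
        have hA := (hF.mul_right P).trans (by
          rw [e0]
          exact hB'.mul_right (X1 : Γ))
        rw [mul_assoc (C.τ γ a'), ← Subgroup.coe_mul, inv_mul_cancel_right] at hA
        -- now `τ (fb s) * S * P ~ τ a' * kap v (|w| - 1)`
        have hE := (hA.mul_right ((S * P)⁻¹ * (C.dk z s : Γ))).symm
        have e3 : C.τ γ (fb s) * S * P * ((S * P)⁻¹ * (C.dk z s : Γ)) = C.τ γ (fb s) * (C.dk z s : Γ) := by
          rw [mul_assoc (C.τ γ (fb s)), mul_assoc, mul_inv_cancel_left]
        have e4 : C.τ γ a' * (C.kap z v (w.length - 1) : Γ) * ((S * P)⁻¹ * (C.dk z s : Γ)) = C.τ γ a' * γ x := by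
          have hc := Subgroup.mem_center_iff.1 (C.kap z v (w.length - 1)).2
          have hc2 := Subgroup.mem_center_iff.1 (C.dk z s).2
          have e5 : (C.kap z v (w.length - 1) : Γ) * (C.dk z s : Γ) = P * γ x * S := by
            rw [hprod, hek, Subgroup.coe_mul]
          have hc3 : ∀ y : Γ, y * (P * γ x * S) = (P * γ x * S) * y := by
            intro y
            rw [hprod]
            exact Subgroup.mem_center_iff.1 (C.ek z (fr s)).2 y
          have s1 : (C.kap z v (w.length - 1) : Γ) * ((S * P)⁻¹ * (C.dk z s : Γ)) =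
              (C.kap z v (w.length - 1) : Γ) * (C.dk z s : Γ) * (S * P)⁻¹ := by
            rw [hc2 ((S * P)⁻¹), mul_assoc]
          calc C.τ γ a' * (C.kap z v (w.length - 1) : Γ) * ((S * P)⁻¹ * (C.dk z s : Γ))
              = C.τ γ a' * ((C.kap z v (w.length - 1) : Γ) * (C.dk z s : Γ)) * (S * P)⁻¹ := by
                rw [mul_assoc (C.τ γ a'), s1, mul_assoc (C.τ γ a')]
            _ = C.τ γ a' * (P * γ x * S) * (S * P)⁻¹ := by rw [e5]
            _ = C.τ γ a' * (P⁻¹ * (P * γ x * S) * P) * (S * P)⁻¹ := by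
                congr 2
                rw [mul_assoc P⁻¹, ← hc3 P, ← mul_assoc, inv_mul_cancel, one_mul]
            _ = C.τ γ a' * γ x := by group
        rw [e3, e4] at hE
        exact hE

include Kc hKc hz hHK hn hB hinv hsub hWK hW0 hall hwall in
/-- **all entries of a checked table are true, and all its words have their classes as values** -/
theorem good_all : ∀ t, C.Good γ H z t ∧ C.WGood γ z t
  | 0 => ⟨fun _ _ _ _ h0 => absurd h0 (Nat.not_lt_zero _), fun i hi h0 => hW0 i hi (Nat.le_zero.1 h0)⟩
  | t + 1 => by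
    obtain ⟨hG, hWG⟩ := good_all t
    have hG1 := C.good_succ hn hB hinv hsub hall hG hWG
    refine ⟨hG1, ?_⟩
    intro i hi hT
    rcases Nat.lt_or_ge (C.wT i) (t + 1) with h | h
    · exact hWG i hi (by omega)
    have hT' : C.wT i = t + 1 := by omega
    have hs := hwall i hi
    rw [wordOK, Bool.or_eq_true] at hs
    rcases hs with hs | hs
    · have : C.wT i = 0 := Nat.eq_of_beq_eq_true hs
      omega
    rw [strictL_eq] at hs
    simp only [Bool.and_eq_true] at hs
    obtain ⟨⟨hs1, hs2⟩, hs⟩ := hs
    have hlen : (C.W i).length ≤ 255 := by simpa [Nat.ble] using hs1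
    cases hq : C.scan (C.wT i) (C.W i) (C.wA i) 0 with
    | none => rw [hq] at hs; exact absurd hs (by simp)
    | some r =>
      obtain ⟨a', v⟩ := r
      rw [hq] at hs
      dsimp only at hs
      rw [Bool.and_eq_true] at hs
      have h1 : a' = C.wA i := Nat.eq_of_beq_eq_true hs.1
      have h2 : v = C.rhs i := Nat.eq_of_beq_eq_true hs.2
      subst h1
      rw [hT'] at hq
      have := C.word_of_scan Kc hKc hz hHK hG1 (hWK i hi) hlen hq
      rw [this, h2, ek]

include Kc hKc hz hHK hn hB hinv hsub hWK hW0 hall hwall in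
/-- **a word traced without gap gives a relation between the central elements** -/
theorem close_spec {i a T v : ℕ} (hi : i < C.nW) (hl : (C.W i).length ≤ 255)
    (h : C.scan T (C.W i) a 0 = some (a, v)) : C.ek z i = C.kap z v (C.W i).length := by
  have hG := C.good_all Kc hKc hz hHK hn hB hinv hsub hWK hW0 hall hwall
  have h1 := C.word_of_scan Kc hKc hz hHK (hG T).1 (hWK i hi) hl h
  have h2 := (hG (C.wT i)).2 i hi le_rfl
  rw [h2] at h1
  exact Subtype.ext h1

include Kc hKc hz hHK hn hB hinv hsub hWK hW0 hall hwall in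
/-- **the checked table bounds the index** of the subgroup generated by `H` and the central elements -/
theorem index_le (H' : Subgroup Γ) (hH' : H ≤ H') (hzH' : ∀ j, j < C.k → (z j : Γ) ∈ H')
    (hgen : ∀ y : Γ, ∃ u : List ℕ, (∀ x ∈ u, x < C.g) ∧ y = (u.map γ).prod)
    (hn0 : 0 < C.n) : H'.index ≤ C.n ∧ H'.index ≠ 0 := by
  have hG := C.good_all Kc hKc hz hHK hn hB hinv hsub hWK hW0 hall hwall
  refine index_le_of_closed (C.τ γ) (C.τ_zero γ) hn0 (fun a ha x hx => ?_) hgen
  have hs := hall a ha x hx
  rw [slotOK, strictN_eq, Bool.and_eq_true, Bool.and_eq_true] at hs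
  have hb' : fb (C.sl a x) < C.n := by simpa [Nat.blt] using hs.1.1
  refine ⟨fb (C.sl a x), hb', ?_⟩
  obtain ⟨_, h1⟩ := (hG (ft (C.sl a x) + 1)).1 a x ha hx (Nat.lt_succ_self _)
  have h2 : C.τ γ a * γ x * (C.τ γ (fb (C.sl a x)) * (C.dk z (C.sl a x) : Γ))⁻¹ ∈ H' := hH' h1
  have h3 : (C.dk z (C.sl a x) : Γ) ∈ H' := C.kap_mem H' hzH' _ _
  have h4 := H'.mul_mem h2 (H'.mul_mem (H'.mul_mem (H'.mul_mem (H'.one_mem) h3) H'.one_mem) H'.one_mem)
  show C.τ γ a * γ x * (C.τ γ (fb (C.sl a x)))⁻¹ ∈ H'
  have hc := Subgroup.mem_center_iff.1 (C.dk z (C.sl a x)).2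
  have e : C.τ γ a * γ x * (C.τ γ (fb (C.sl a x)))⁻¹ =
      C.τ γ a * γ x * (C.τ γ (fb (C.sl a x)) * (C.dk z (C.sl a x) : Γ))⁻¹ * (C.dk z (C.sl a x) : Γ) := by
    rw [mul_inv_rev]
    simp only [mul_assoc]
    rw [hc, inv_mul_cancel_left]
  rw [e]
  exact H'.mul_mem h2 h3

end main

end sound

end VCert

end Cfsg.Agent.Lib.Helper7.MG2
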