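import Cfsg.Agent.Lib.Helper7.MG3A
import Cfsg.Agent.Lib.Helper7.MGenP

/-!
# The kernel of a central extension and a checked table with up to sixteen million rows and words

The statements of `MGenB`, `MGenD`, `MGenE`, `MGenG` and `MGenH` about a checked table, for the certificate of `MG3A`:
the kernel is generated by the central elements of the table; the classes of the given words; the passage from a traced
word to a relation between the central elements; repeated words; the effect of multiplying one generator by a central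
element.
-/

set_option autoImplicit false

namespace Cfsg.Agent.Lib.Helper7.MG3

open Cfsg.Agent.Lib.Helper8.CosetCert (R index_le_of_closed)
open Cfsg.Agent.Lib.Helper7.MG (Zc Zc_le_center zprod zprod_congr zprod_add zprod_smul zprod_zero dotL expsumL wpow)
open scoped Pointwise IsMulCommutative

namespace VCert

variable (C : VCert) {Γ : Type*} [Group Γ] (z : ℕ → Subgroup.center Γ)

/-- with trivial central elements all products of their powers are trivial -/
theorem kap_triv (hz : ∀ j, j < C.k → z j = 1) (v c : ℕ) : C.kap z v c = 1 := by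
  unfold VCert.kap
  apply Finset.prod_eq_one
  intro j hj
  rw [hz j (Finset.mem_range.1 hj), one_zpow]

/-! ### the classes of the given words -/

theorem kap_eq_zprod (v c : ℕ) : C.kap z v c = zprod z C.k (fun j => (fld v j : ℤ) - (c : ℤ) * (C.B : ℤ)) := rfl

theorem kap_unit {v c j : ℕ} (hj : j < C.k)
    (h : ∀ l, l < C.k → (fld v l : ℤ) - (c : ℤ) * (C.B : ℤ) = if l = j then 1 else 0) : C.kap z v c = z j := by
  unfold kap
  rw [Finset.prod_eq_single j]
  · rw [h j hj, if_pos rfl, zpow_one]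
  · intro b hb hbj
    rw [h b (Finset.mem_range.1 hb), if_neg hbj, zpow_zero]
  · intro hn
    exact absurd (Finset.mem_range.2 hj) hn

theorem kap_one {v c : ℕ} (h : ∀ l, l < C.k → (fld v l : ℤ) - (c : ℤ) * (C.B : ℤ) = 0) : C.kap z v c = 1 := by
  unfold kap
  apply Finset.prod_eq_one
  intro l hl
  rw [h l (Finset.mem_range.1 hl), zpow_zero]

/-- the value of a product of powers of one central element -/
theorem kap_pow (ζ : Subgroup.center Γ) (m : ℕ → ℤ) (hz : ∀ j, j < C.k → z j = ζ ^ m j) (v c : ℕ) :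
    C.kap z v c = ζ ^ (∑ j ∈ Finset.range C.k, m j * ((fld v j : ℤ) - (c : ℤ) * (C.B : ℤ))) := by
  unfold kap
  rw [← Cfsg.Agent.Lib.Helper7.MG.VCert.prod_zpow_sum]
  apply Finset.prod_congr rfl
  intro j hj
  rw [hz j (Finset.mem_range.1 hj), ← zpow_mul]

/-! ### from a traced word to a relation -/

/-- the relation that a traced word gives -/
theorem rel_of_close {i v : ℕ} (h : C.ek z i = C.kap z v (C.W i).length) (r : List ℤ)
    (hr : ∀ j, j < C.k → (fld (C.rhs i) j : ℤ) - (fld v j : ℤ) = r.getD j 0) :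
    zprod z C.k (fun l => r.getD l 0) = 1 := by
  rw [ek, kap_eq_zprod, kap_eq_zprod] at h
  refine Cfsg.Agent.Lib.Helper7.MG.VCert.rel_of_eq z C.k h r ?_
  intro j hj
  rw [← hr j hj]
  ring

end VCert

/-! ### repeated words, and one generator multiplied by a central element -/

theorem wd_eq {Γ : Type*} [Group Γ] (γ : ℕ → Γ) (w : List ℕ) :
    VCert.wd γ w = Cfsg.Agent.Lib.Helper7.MG.VCert.wd γ w := rfl

theorem wd_wpow {Γ : Type*} [Group Γ] (γ : ℕ → Γ) (w : List ℕ) (m : ℕ) :
    VCert.wd γ (wpow m w) = VCert.wd γ w ^ m := by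
  rw [wd_eq, wd_eq]
  exact Cfsg.Agent.Lib.Helper7.MG.wd_wpow γ w m

/-- multiplying a generator by a central element multiplies the value of a word by a power -/
theorem wd_central_mul_at {Γ : Type*} [Group Γ] (p q : ℕ) (hpq : q ≠ p) (γ γ' : ℕ → Γ) (w : Γ)
    (hw : w ∈ Subgroup.center Γ)
    (h0 : γ' p = γ p * w) (h1 : γ' q = γ q * w⁻¹) (hx : ∀ x, x ≠ p → x ≠ q → γ' x = γ x) (u : List ℕ) :
    VCert.wd γ' u = VCert.wd γ u * w ^ expsumL p q u := by
  rw [wd_eq, wd_eq]
  exact Cfsg.Agent.Lib.Helper7.MG.wd_central_mul_at p q hpq γ γ' w hw h0 h1 hx u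

/-! ### the kernel of a stem extension -/

section stem

variable {G : Type*} [Group G] [Finite G] {Γ : Type*} [Group Γ] [Finite Γ] (σ : Γ →* G)

variable (C : VCert) (γ : ℕ → Γ) (z : ℕ → Subgroup.center Γ) (H : Subgroup Γ) (h : ℕ)
  (hsurj : Function.Surjective σ)
  (hcard : Nat.card G = h * C.n) (hn0 : 0 < C.n) (hh : 0 < h)
  (hHK : ∀ u, u ∈ H → u ∈ σ.ker → u = 1) (hHc : Nat.card ↥H ≤ h)
  (hsubx : ∀ x, C.sub x = true → γ x ∈ H)
  (hzK : ∀ j, j < C.k → (z j : Γ) ∈ σ.ker)
  (hgen : ∀ y : Γ, ∃ u : List ℕ, (∀ x ∈ u, x < C.g) ∧ y = (u.map γ).prod)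
  (hn : C.n ≤ 16777216) (hB : C.B < 4096) (hinv : ∀ x, x < C.g → γ (C.iv x) = (γ x)⁻¹)
  (hWK : ∀ i, i < C.nW → VCert.wd γ (C.W i) ∈ σ.ker)
  (hW0 : ∀ i, i < C.nW → C.wT i = 0 → VCert.wd γ (C.W i) = (C.ek z i : Γ))
  (hall : ∀ a, a < C.n → ∀ x, x < C.g → C.slotOK a x = true)
  (hwall : ∀ i, i < C.nW → C.wordOK i = true)

include hHK hHc hsubx hzK hgen hn hB hinv hWK hW0 hall hwall hn0 in
omit [Finite G] [Finite Γ] in
/-- **the order of the group is at most the number of rows times the bound for the order of the subgroup of the table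
times the order of the subgroup generated by the central elements** -/
theorem card_le_Zc_of_sub : Nat.card Γ ≤ C.n * (h * Nat.card ↥(Zc z C.k)) := by
  have hnorm : (Zc z C.k).Normal := by
    constructor
    intro n hn' g
    have := Subgroup.mem_center_iff.1 (Zc_le_center z C.k hn') g
    rw [this, mul_inv_cancel_right]
    exact hn'
  have hKn : ∀ u, u ∈ σ.ker → ∀ g : Γ, g * u * g⁻¹ ∈ σ.ker := fun u hu g =>
    (inferInstance : σ.ker.Normal).conj_mem u hu g
  have hidx := C.index_le (γ := γ) (H := H) (z := z) σ.ker hKn hzK hHK hn hB hinv hsubx hWK hW0 hall hwall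
    (H ⊔ Zc z C.k) le_sup_left (fun j hj => (le_sup_right : Zc z C.k ≤ H ⊔ Zc z C.k)
      (Subgroup.subset_closure ⟨j, hj, rfl⟩)) hgen hn0
  have hc1 : Nat.card ↥(H ⊔ Zc z C.k) ≤ h * Nat.card ↥(Zc z C.k) := by
    have e : ((H ⊔ Zc z C.k : Subgroup Γ) : Set Γ) = (H : Set Γ) * (Zc z C.k : Set Γ) := Subgroup.mul_normal H _
    have h1 : Nat.card ↥(H ⊔ Zc z C.k) = Nat.card ((H : Set Γ) * (Zc z C.k : Set Γ) : Set Γ) := by
      rw [← e]; rfl
    rw [h1]
    refine le_trans Set.natCard_mul_le ?_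
    exact Nat.mul_le_mul_right _ hHc
  exact Cfsg.Agent.Lib.Helper7.M12Mult.card_le_of_index_le _ hidx.1 hc1

include hsurj hcard hn0 hh hHK hHc hsubx hzK hgen hn hB hinv hWK hW0 hall hwall in
omit [Finite G] in
/-- **the kernel is generated by the central elements of the table** -/
theorem ker_eq_Zc_of_sub : σ.ker = Zc z C.k := by
  have hZK : Zc z C.k ≤ σ.ker := by
    rw [Zc, Subgroup.closure_le]
    rintro _ ⟨j, hj, rfl⟩
    exact hzK j hj
  have hc2 : Nat.card Γ ≤ C.n * (h * Nat.card ↥(Zc z C.k)) :=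
    card_le_Zc_of_sub σ C γ z H h hn0 hHK hHc hsubx hzK hgen hn hB hinv hWK hW0 hall hwall
  have hc3 : Nat.card Γ = Nat.card σ.ker * (h * C.n) := by
    rw [← hcard, ← Subgroup.card_mul_index σ.ker, Subgroup.index_ker, MonoidHom.range_eq_top.2 hsurj,
      Subgroup.card_top]
  have hc4 : Nat.card σ.ker ≤ Nat.card ↥(Zc z C.k) := by
    have : Nat.card σ.ker * (h * C.n) ≤ Nat.card ↥(Zc z C.k) * (h * C.n) := by
      rw [← hc3]
      calc Nat.card Γ ≤ C.n * (h * Nat.card ↥(Zc z C.k)) := hc2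
        _ = Nat.card ↥(Zc z C.k) * (h * C.n) := by ring
    exact Nat.le_of_mul_le_mul_right this (Nat.mul_pos hh hn0)
  symm
  apply Subgroup.eq_of_le_of_card_ge hZK
  exact hc4

end stem

end Cfsg.Agent.Lib.Helper7.MG3
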