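import Cfsg.Agent.Lib.Helper7.MG3B

/-!
# The checks of a table with formal central displacements, written with the recursors

The checks `slotOK` and `wordOK` of `MG3A` follow the letters of words by functions that are defined by matching; the
kernel evaluates the recursors of the lists directly in fewer steps.  Here the same checks are written with the
recursors, and shown to be equal to the checks of `MG3A`.
-/

set_option autoImplicit false

namespace Cfsg.Agent.Lib.Helper7.MG3

open Cfsg.Agent.Lib.Helper7.HSMult (strictN strictN_eq strictL strictL_eq)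

/-- the length of a list, with the recursor -/
def lenR (w : List ℕ) : ℕ := List.rec (motive := fun _ => ℕ) 0 (fun _ _ ih => Nat.succ ih) w

theorem lenR_eq (w : List ℕ) : lenR w = w.length := by
  induction w with
  | nil => rfl
  | cons y w ih =>
    show Nat.succ (lenR w) = (y :: w).length
    rw [ih, List.length_cons]

/-- the entry of a list at a place, with the recursors -/
def getR (w : List ℕ) : ℕ → Option ℕ :=
  List.rec (motive := fun _ => ℕ → Option ℕ) (fun _ => none)
    (fun y _ ih k => Nat.rec (motive := fun _ => Option ℕ) (some y) (fun k' _ => ih k') k) w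

theorem getR_eq (w : List ℕ) (k : ℕ) : getR w k = w[k]? := by
  induction w generalizing k with
  | nil => simp [getR]
  | cons y w ih =>
    cases k with
    | zero => simp [getR]
    | succ k =>
      show getR w k = (y :: w)[k + 1]?
      rw [ih, List.getElem?_cons_succ]

namespace VCert

variable (C : VCert)

/-- one step of the following of a word -/
def stepR (n g t y cur acc : ℕ) (k : ℕ → ℕ → Option (ℕ × ℕ)) : Option (ℕ × ℕ) :=
  strictN (C.sl cur y) fun s =>
    Bool.rec (motive := fun _ => Option (ℕ × ℕ)) none
      (Bool.rec (motive := fun _ => Option (ℕ × ℕ)) none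
        (Bool.rec (motive := fun _ => Option (ℕ × ℕ)) none (k (fb s) (Nat.add acc (fd s))) (Nat.blt y g))
        (Nat.blt cur n))
      (Nat.blt (ft s) t)

theorem stepR_eq (t y cur acc : ℕ) (k : ℕ → ℕ → Option (ℕ × ℕ)) :
    C.stepR C.n C.g t y cur acc k =
      cond (Nat.blt (ft (C.sl cur y)) t && Nat.blt cur C.n && Nat.blt y C.g)
        (k (fb (C.sl cur y)) (Nat.add acc (fd (C.sl cur y)))) none := by
  rw [stepR, strictN_eq]
  cases Nat.blt (ft (C.sl cur y)) t <;> cases Nat.blt cur C.n <;> cases Nat.blt y C.g <;> rfl

/-- follow the letters of a word after the first `k` of them -/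
def scanDropR (n g t : ℕ) (w : List ℕ) : ℕ → ℕ → ℕ → Option (ℕ × ℕ) :=
  List.rec (motive := fun _ => ℕ → ℕ → ℕ → Option (ℕ × ℕ)) (fun _ cur acc => some (cur, acc))
    (fun y _ ih k cur acc =>
      Nat.rec (motive := fun _ => Option (ℕ × ℕ)) (C.stepR n g t y cur acc (ih 0))
        (fun k' _ => ih k' cur acc) k) w

theorem scanDropR_nil (n g t k cur acc : ℕ) : C.scanDropR n g t [] k cur acc = some (cur, acc) := rfl

theorem scanDropR_cons_zero (n g t y : ℕ) (w : List ℕ) (cur acc : ℕ) :
    C.scanDropR n g t (y :: w) 0 cur acc = C.stepR n g t y cur acc (C.scanDropR n g t w 0) := rfl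

theorem scanDropR_cons_succ (n g t y : ℕ) (w : List ℕ) (k cur acc : ℕ) :
    C.scanDropR n g t (y :: w) (k + 1) cur acc = C.scanDropR n g t w k cur acc := rfl

theorem scanDropR_zero_eq (t : ℕ) (w : List ℕ) (cur acc : ℕ) :
    C.scanDropR C.n C.g t w 0 cur acc = C.scan t w cur acc := by
  induction w generalizing cur acc with
  | nil => rfl
  | cons y w ih =>
    rw [scanDropR_cons_zero, stepR_eq, scan, strictN_eq, ih]

theorem scanDropR_eq (t : ℕ) (w : List ℕ) (k cur acc : ℕ) :
    C.scanDropR C.n C.g t w k cur acc = C.scan t (w.drop k) cur acc := by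
  induction w generalizing k with
  | nil => rw [scanDropR_nil, List.drop_nil, scan]
  | cons y w ih =>
    cases k with
    | zero => rw [List.drop_zero]; exact C.scanDropR_zero_eq t _ cur acc
    | succ k => rw [scanDropR_cons_succ, ih, List.drop_succ_cons]

/-- follow the first `k` letters of a word -/
def scanTakeR (n g t : ℕ) (w : List ℕ) : ℕ → ℕ → ℕ → Option (ℕ × ℕ) :=
  List.rec (motive := fun _ => ℕ → ℕ → ℕ → Option (ℕ × ℕ)) (fun _ cur acc => some (cur, acc))
    (fun y _ ih k cur acc =>
      Nat.rec (motive := fun _ => Option (ℕ × ℕ)) (some (cur, acc))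
        (fun k' _ => C.stepR n g t y cur acc (ih k')) k) w

theorem scanTakeR_eq (t : ℕ) (w : List ℕ) (k cur acc : ℕ) :
    C.scanTakeR C.n C.g t w k cur acc = C.scan t (w.take k) cur acc := by
  induction w generalizing k cur acc with
  | nil => rw [List.take_nil, scan]; rfl
  | cons y w ih =>
    cases k with
    | zero => rw [List.take_zero, scan]; rfl
    | succ k =>
      show C.stepR C.n C.g t y cur acc (C.scanTakeR C.n C.g t w k) = _
      rw [stepR_eq, List.take_succ_cons, scan, strictN_eq]
      congr 1
      exact ih k _ _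

/-- the check of one entry, with the recursors -/
def slotOKR (a x : ℕ) : Bool :=
  strictN (C.sl a x) fun s =>
    Nat.blt (fb s) C.n && fldOK C.k (fd s) &&
    (match fk s with
    | 0 => Nat.beq (C.pr (fb s)) (Nat.add a (Nat.mul 16777216 x)) && Nat.blt a (fb s) &&
        Nat.beq (fd s) (Bv C.k C.B)
    | 1 => strictN (C.sl (fb s) (C.iv x)) fun s' =>
        Nat.beq (fb s') a && Nat.blt (ft s') (ft s) && Nat.blt (C.iv x) C.g &&
        Nat.beq (Nat.add (fd s) (fd s')) (Nat.mul 2 (Bv C.k C.B))
    | 2 => Nat.beq a 0 && Nat.beq (fb s) 0 && C.sub x && Nat.beq (fd s) (Bv C.k C.B)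
    | _ => strictL (C.W (fr s)) fun w =>
      Nat.blt (fr s) C.nW && Nat.ble (C.wT (fr s)) (ft s) && Nat.ble (lenR w) 255 &&
      (match getR w (fp s) with
       | some y => Nat.beq y x
       | none => false) &&
      strictN C.n fun n => strictN C.g fun g =>
      (match C.scanDropR n g (ft s) w (fp s + 1) (fb s) 0 with
       | none => false
       | some (m, u) =>
         match C.scanTakeR n g (ft s) w (fp s) m u with
         | none => false
         | some (a', v) => Nat.beq a' a && Nat.beq (Nat.add v (fd s)) (C.rhs (fr s))))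

theorem slotOKR_eq (a x : ℕ) : C.slotOKR a x = C.slotOK a x := by
  unfold slotOKR slotOK
  simp only [strictN_eq, strictL_eq, lenR_eq, getR_eq, scanDropR_eq, scanTakeR_eq]
  rfl

/-- the check of one word, with the recursors -/
def wordOKR (i : ℕ) : Bool :=
  Nat.beq (C.wT i) 0 ||
    strictL (C.W i) fun w =>
      Nat.ble (lenR w) 255 && Nat.blt (C.wA i) C.n &&
      strictN C.n fun n => strictN C.g fun g =>
      (match C.scanDropR n g (C.wT i) w 0 (C.wA i) 0 with
       | none => false
       | some (a', v) => Nat.beq a' (C.wA i) && Nat.beq v (C.rhs i))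

theorem wordOKR_eq (i : ℕ) : C.wordOKR i = C.wordOK i := by
  unfold wordOKR wordOK
  simp only [strictN_eq, strictL_eq, lenR_eq, scanDropR_zero_eq]
  rfl

/-- follow a word from a row, with the recursors -/
def scanR (t : ℕ) (w : List ℕ) (a : ℕ) : Option (ℕ × ℕ) :=
  strictN C.n fun n => strictN C.g fun g => C.scanDropR n g t w 0 a 0

theorem scanR_eq (t : ℕ) (w : List ℕ) (a : ℕ) : C.scanR t w a = C.scan t w a 0 := by
  rw [scanR, strictN_eq, strictN_eq, scanDropR_zero_eq]

end VCert

end Cfsg.Agent.Lib.Helper7.MG3
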