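import Mathlib
import Cfsg.Prelude.Def_OddOrderLocal
import Cfsg.Prelude.Def_CaseTheorems
import Cfsg.Agent.S3761

set_option autoImplicit false

namespace Cfsg.Agent.Lib.Helper7.MetaSC

open Cfsg

theorem comm_of_isCyclic_subgroup {P : Type*} [Group P] (N : Subgroup P) (hN : IsCyclic N)
    {x y : P} (hx : x ∈ N) (hy : y ∈ N) : x * y = y * x := by
  haveI := hN
  have := (IsCyclic.commGroup (α := ↥N)).mul_comm ⟨x, hx⟩ ⟨y, hy⟩
  exact congrArg Subtype.val this

/-- In a cyclic group, the elements with `x ^ 4 = 1` lie in any subgroup of order `4`. -/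
theorem mem_of_pow_four_of_isCyclic {P : Type*} [Group P] [Finite P] (N C : Subgroup P)
    (hN : IsCyclic N) (hCN : C ≤ N) (hC4 : Nat.card C = 4) {x : P} (hx : x ∈ N) (hx4 : x ^ 4 = 1) :
    x ∈ C := by
  classical
  let E : Subgroup P :=
    { carrier := {y | y ∈ N ∧ y ^ 4 = 1}
      one_mem' := ⟨N.one_mem, one_pow _⟩
      mul_mem' := by
        rintro a b ⟨ha, ha4⟩ ⟨hb, hb4⟩
        refine ⟨N.mul_mem ha hb, ?_⟩
        have hc : Commute a b := comm_of_isCyclic_subgroup N hN ha hb
        rw [hc.mul_pow, ha4, hb4, one_mul]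
      inv_mem' := by
        rintro a ⟨ha, ha4⟩
        exact ⟨N.inv_mem ha, by rw [inv_pow, ha4, inv_one]⟩ }
  have hEN : E ≤ N := fun y hy => hy.1
  haveI := hN
  haveI : IsCyclic ↥E := Subgroup.isCyclic_of_le hEN
  haveI : Fintype ↥E := Fintype.ofFinite _
  have hle := IsCyclic.card_pow_eq_one_le (α := ↥E) (n := 4) (by norm_num)
  have hall : (Finset.univ.filter (fun a : ↥E => a ^ 4 = 1)) = Finset.univ := by
    apply Finset.filter_true_of_mem
    intro a _
    apply Subtype.ext
    have := a.2.2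
    simpa using this
  rw [hall, Finset.card_univ, ← Nat.card_eq_fintype_card] at hle
  have hCE : C ≤ E := by
    intro y hy
    refine ⟨hCN hy, ?_⟩
    have h1 : (⟨y, hy⟩ : C) ^ 4 = 1 := by
      rw [← hC4]; exact pow_card_eq_one'
    have := congrArg Subtype.val h1
    simpa using this
  have hEC : E = C := (Subgroup.eq_of_le_of_card_ge hCE (by rw [hC4]; exact hle)).symm
  rw [← hEC]
  exact ⟨hx, hx4⟩


/-- an element of order four in `⟨c⟩`, `c` of order four, is `c` or `c⁻¹` -/
theorem eq_or_eq_inv_of_orderOf_four {P : Type*} [Group P] {c x : P} (hc : orderOf c = 4)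
    (hx : x ∈ Subgroup.zpowers c) (hx4 : orderOf x = 4) : x = c ∨ x = c⁻¹ := by
  obtain ⟨k, rfl⟩ := Subgroup.mem_zpowers_iff.mp hx
  have hc4 : c ^ (4 : ℤ) = 1 := by
    have := pow_orderOf_eq_one c
    rw [hc] at this
    exact_mod_cast this
  have hc4' : c ^ 4 = 1 := by
    have := pow_orderOf_eq_one c
    rwa [hc] at this
  rw [zpow_eq_zpow_emod k hc4] at hx4 ⊢
  have h0 : 0 ≤ k % 4 := Int.emod_nonneg _ (by norm_num)
  have h1 : k % 4 < 4 := Int.emod_lt_of_pos _ (by norm_num)
  obtain ⟨j, hj⟩ : ∃ j : ℕ, k % 4 = j := ⟨(k % 4).toNat, (Int.toNat_of_nonneg h0).symm⟩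
  rw [hj] at hx4 ⊢ h1
  have hj4 : j < 4 := by exact_mod_cast h1
  rw [zpow_natCast] at hx4 ⊢
  interval_cases j
  · rw [pow_zero, orderOf_one] at hx4; omega
  · left; rw [pow_one]
  · exfalso
    have : (c ^ 2) ^ 2 = 1 := by rw [← pow_mul]; exact hc4'
    have := orderOf_dvd_of_pow_eq_one this
    rw [hx4] at this
    omega
  · right
    rw [eq_inv_iff_mul_eq_one, ← pow_succ]
    exact hc4'


/-- A nonabelian subgroup `B` of order `8` and a normal cyclic subgroup `N` with cyclic quotient:
there are `c ∈ B ∩ N` of order four and `b ∈ B ∖ N` with `b c b⁻¹ = c⁻¹` and `b² ∈ N`. -/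
theorem exists_inverting_pair {P : Type*} [Group P] [Finite P] (N : Subgroup P) [hNn : N.Normal]
    (hNc : IsCyclic N) (hQc : IsCyclic (P ⧸ N))
    (B : Subgroup P) (hB8 : Nat.card B = 8) (hBna : ∃ x ∈ B, ∃ y ∈ B, x * y ≠ y * x) :
    ∃ c b : P, c ∈ N ∧ orderOf c = 4 ∧ b ∉ N ∧ b * b ∈ N ∧ b * c * b⁻¹ = c⁻¹ := by
  classical
  obtain ⟨C, hCdef⟩ : ∃ C, C = B ⊓ N := ⟨_, rfl⟩
  have hCB : C ≤ B := hCdef ▸ inf_le_left
  have hCN : C ≤ N := hCdef ▸ inf_le_right
  have hCnormB : ∀ g ∈ B, ∀ z ∈ C, g * z * g⁻¹ ∈ C := by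
    intro g hg z hz
    rw [hCdef] at hz ⊢
    exact ⟨B.mul_mem (B.mul_mem hg hz.1) (B.inv_mem hg), hNn.conj_mem z hz.2 g⟩
  -- the map `B → P / N`
  obtain ⟨f, hf⟩ : ∃ f : ↥B →* P ⧸ N, f = (QuotientGroup.mk' N).comp B.subtype := ⟨_, rfl⟩
  have hker : ∀ z : ↥B, z ∈ f.ker → (z : P) ∈ C := by
    intro z hz
    rw [MonoidHom.mem_ker, hf] at hz
    have : (z : P) ∈ N := (QuotientGroup.eq_one_iff _).mp hz
    rw [hCdef]
    exact ⟨z.2, this⟩
  have hnotcomm : ¬ ∀ a b : ↥B, a * b = b * a := by
    intro h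
    obtain ⟨x, hx, y, hy, hxy⟩ := hBna
    exact hxy (congrArg Subtype.val (h ⟨x, hx⟩ ⟨y, hy⟩))
  -- the order of `C`
  have hdvd : Nat.card C ∣ 2 ^ 3 := by
    have := Subgroup.card_dvd_of_le hCB
    rwa [hB8] at this
  obtain ⟨j, hj3, hj⟩ := (Nat.dvd_prime_pow Nat.prime_two).mp hdvd
  have hj2 : j = 2 := by
    by_contra hne
    have hcases : j = 3 ∨ j ≤ 1 := by omega
    rcases hcases with h3 | h1
    · -- `C = B ≤ N`
      have hCeq : C = B := Subgroup.eq_of_le_of_card_ge hCB (by rw [hB8, hj, h3]; norm_num)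
      apply hnotcomm
      intro a b
      apply Subtype.ext
      exact comm_of_isCyclic_subgroup N hNc (hCN (hCeq ▸ a.2)) (hCN (hCeq ▸ b.2))
    · -- `C` is central in `B`
      apply hnotcomm
      haveI := hQc
      have hcm : IsMulCommutative ↥B := by
        apply MonoidHom.isMulCommutative_of_isCyclic_of_ker_le_center f
        intro z hz
        rw [Subgroup.mem_center_iff]
        intro g
        have hzC := hker z hz
        by_cases hz1 : (z : P) = 1
        · have : z = 1 := Subtype.ext hz1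
          rw [this, mul_one, one_mul]
        · have hc2 : Nat.card C = 2 := by
            interval_cases j
            · exfalso
              rw [pow_zero] at hj
              have := (Nat.card_eq_one_iff_unique.mp hj).1
              have h2 : (⟨(z : P), hzC⟩ : C) = 1 := Subsingleton.elim _ _
              exact hz1 (congrArg Subtype.val h2)
            · simpa using hj
          obtain ⟨y, -, hy⟩ := (Nat.card_eq_two_iff' (1 : C)).mp hc2
          have h1 := hy ⟨(z : P), hzC⟩ (fun h => hz1 (congrArg Subtype.val h))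
          have h2 := hy ⟨(g : P) * z * (g : P)⁻¹, hCnormB g g.2 z hzC⟩ (fun h => by
            have := congrArg Subtype.val h
            simp only [Subgroup.coe_one] at this
            apply hz1
            have e : (z : P) = (g : P)⁻¹ * ((g : P) * z * (g : P)⁻¹) * (g : P) := by group
            rw [e, this]; group)
          have h3 : (g : P) * z * (g : P)⁻¹ = z := by
            have := congrArg Subtype.val (h2.trans h1.symm)
            exact this
          apply Subtype.ext
          show (g : P) * z = z * g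
          nth_rewrite 2 [← h3]
          group
      exact isMulCommutative_iff.mp hcm
  rw [hj2] at hj
  have hC4 : Nat.card C = 4 := by rw [hj]; norm_num
  -- a generator of `C`
  haveI := hNc
  haveI hCc : IsCyclic ↥C := Subgroup.isCyclic_of_le hCN
  obtain ⟨⟨c, hcC⟩, hcgen⟩ := hCc.exists_generator
  have hc4 : orderOf c = 4 := by
    have := orderOf_eq_card_of_forall_mem_zpowers hcgen
    rw [hC4, Subgroup.orderOf_mk] at this
    exact this
  have hCz : ∀ z ∈ C, z ∈ Subgroup.zpowers c := by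
    intro z hz
    obtain ⟨k, hk⟩ := Subgroup.mem_zpowers_iff.mp (hcgen ⟨z, hz⟩)
    rw [Subgroup.mem_zpowers_iff]
    refine ⟨k, ?_⟩
    have := congrArg Subtype.val hk
    simpa using this
  -- an element of `B` outside `C`
  obtain ⟨b, hbB, hbC⟩ : ∃ b ∈ B, b ∉ C := by
    by_contra hcon
    push Not at hcon
    have : C = B := le_antisymm hCB hcon
    rw [this, hB8] at hC4
    omega
  have hbN : b ∉ N := fun h => hbC (hCdef ▸ ⟨hbB, h⟩)
  -- index two
  have hidx : (C.subgroupOf B).index = 2 := by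
    have h1 := Subgroup.card_mul_index (C.subgroupOf B)
    rw [hB8, Nat.card_congr (Subgroup.subgroupOfEquivOfLe hCB).toEquiv, hC4] at h1
    omega
  have hbb : b * b ∈ C := by
    have := Subgroup.mul_self_mem_of_index_two hidx ⟨b, hbB⟩
    exact Subgroup.mem_subgroupOf.mp this
  have hcoset : ∀ y ∈ B, y ∈ C ∨ b⁻¹ * y ∈ C := by
    intro y hy
    by_cases hyC : y ∈ C
    · exact Or.inl hyC
    · right
      have := (Subgroup.mul_mem_iff_of_index_two hidx (a := (⟨b, hbB⟩ : ↥B)⁻¹) (b := ⟨y, hy⟩)).mpr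
        ⟨fun h => absurd (by
            have := (C.subgroupOf B).inv_mem h
            rw [inv_inv] at this
            exact Subgroup.mem_subgroupOf.mp this) hbC,
         fun h => absurd (Subgroup.mem_subgroupOf.mp h) hyC⟩
      exact Subgroup.mem_subgroupOf.mp this
  -- `b` inverts `c`
  have hconjC : b * c * b⁻¹ ∈ Subgroup.zpowers c := hCz _ (hCnormB b hbB c hcC)
  have hconj4 : orderOf (b * c * b⁻¹) = 4 := by
    have : b * c * b⁻¹ = MulAut.conj b c := rfl
    rw [this, MulEquiv.orderOf_eq, hc4]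
  rcases eq_or_eq_inv_of_orderOf_four hc4 hconjC hconj4 with h | h
  · -- `b` commutes with `c`: then `B` is abelian
    exfalso
    have hbc : b * c = c * b := by
      have : b * c = (b * c * b⁻¹) * b := by group
      rw [this, h]
    obtain ⟨x, hx, y, hy, hxy⟩ := hBna
    have hclos : B ≤ Subgroup.closure ({b, c} : Set P) := by
      intro z hz
      rcases hcoset z hz with hzC | hzC
      · obtain ⟨k, rfl⟩ := Subgroup.mem_zpowers_iff.mp (hCz z hzC)
        exact Subgroup.zpow_mem _ (Subgroup.subset_closure (by simp)) k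
      · obtain ⟨k, hk⟩ := Subgroup.mem_zpowers_iff.mp (hCz _ hzC)
        have : z = b * c ^ k := by rw [hk]; group
        rw [this]
        exact Subgroup.mul_mem _ (Subgroup.subset_closure (by simp))
          (Subgroup.zpow_mem _ (Subgroup.subset_closure (by simp)) k)
    have hcomm : ∀ u ∈ ({b, c} : Set P), ∀ v ∈ ({b, c} : Set P), u * v = v * u := by
      intro u hu v hv
      simp only [Set.mem_insert_iff, Set.mem_singleton_iff] at hu hv
      rcases hu with rfl | rfl <;> rcases hv with rfl | rfl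
      · rfl
      · exact hbc
      · exact hbc.symm
      · rfl
    have hcm := Subgroup.isMulCommutative_closure hcomm
    have := (isMulCommutative_iff.mp hcm) (⟨x, hclos hx⟩ : Subgroup.closure ({b, c} : Set P))
      ⟨y, hclos hy⟩
    exact hxy (congrArg Subtype.val this)
  · exact ⟨c, b, hCN hcC, hc4, hbN, hCN hbb, h⟩


/-- **A metacyclic `2`-group with a nonabelian subgroup of order `8` is dihedral, quaternion or
semidihedral.** -/
theorem dqsd_of_nonabelian_eight {P : Type*} [Group P] [Finite P] (hP : IsPGroup 2 P)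
    (hm : IsMetacyclic P) (B : Subgroup P) (hB8 : Nat.card B = 8)
    (hBna : ∃ x ∈ B, ∃ y ∈ B, x * y ≠ y * x) :
    (∃ m : ℕ, Nonempty (P ≃* DihedralGroup m)) ∨ (∃ m : ℕ, Nonempty (P ≃* QuaternionGroup m)) ∨
      IsQuasiDihedral P := by
  classical
  obtain ⟨N, hNn, hNc, hQc⟩ := hm
  haveI := hNn
  obtain ⟨c, b, hcN, hc4, hbN, hbb, hbc⟩ := exists_inverting_pair N hNc hQc B hB8 hBna
  have hc4' : c ^ 4 = 1 := by
    have := pow_orderOf_eq_one c
    rwa [hc4] at this
  have hcne : c ≠ c⁻¹ := by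
    intro h
    have h2 : c ^ 2 = 1 := by
      rw [pow_two]
      nth_rewrite 2 [h]
      exact mul_inv_cancel c
    have := orderOf_dvd_of_pow_eq_one h2
    rw [hc4] at this
    omega
  -- the subgroup `C = ⟨c⟩`
  have hCN : Subgroup.zpowers c ≤ N := by rw [Subgroup.zpowers_le]; exact hcN
  have hC4 : Nat.card (Subgroup.zpowers c) = 4 := by rw [Nat.card_zpowers, hc4]
  -- every conjugate of `c` is `c` or `c⁻¹`
  have hconj : ∀ g : P, g * c * g⁻¹ = c ∨ g * c * g⁻¹ = c⁻¹ := by
    intro g
    have h1 : g * c * g⁻¹ ∈ N := hNn.conj_mem c hcN g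
    have h2 : (g * c * g⁻¹) ^ 4 = 1 := by rw [conj_pow, hc4', mul_one, mul_inv_cancel]
    have h3 := mem_of_pow_four_of_isCyclic N _ hNc hCN hC4 h1 h2
    have h4 : orderOf (g * c * g⁻¹) = 4 := by
      have : g * c * g⁻¹ = MulAut.conj g c := rfl
      rw [this, MulEquiv.orderOf_eq, hc4]
    exact eq_or_eq_inv_of_orderOf_four hc4 h3 h4
  -- the centralizer of `c`
  have hNcen : ∀ n ∈ N, n * c * n⁻¹ = c := by
    intro n hn
    rw [comm_of_isCyclic_subgroup N hNc hn hcN]; group
  have hsq_cen : ∀ g : P, (g * g) * c * (g * g)⁻¹ = c := by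
    intro g
    have e : (g * g) * c * (g * g)⁻¹ = g * (g * c * g⁻¹) * g⁻¹ := by group
    rw [e]
    rcases hconj g with h | h
    · rw [h, h]
    · rw [h]
      have : g * c⁻¹ * g⁻¹ = (g * c * g⁻¹)⁻¹ := by group
      rw [this, h, inv_inv]
  -- a generator of `P / N`
  obtain ⟨gbar, hgbar⟩ := hQc.exists_generator
  obtain ⟨g, rfl⟩ := QuotientGroup.mk_surjective gbar
  obtain ⟨k, hk⟩ := Subgroup.mem_zpowers_iff.mp (hgbar (QuotientGroup.mk b))
  -- `k` is odd
  have hkodd : ¬ 2 ∣ k := by
    rintro ⟨j, rfl⟩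
    have h1 : (g ^ (2 * j))⁻¹ * b ∈ N := by
      rw [← QuotientGroup.eq, QuotientGroup.mk_zpow]; exact hk
    have h2 : ∀ i : ℤ, (g * g) ^ i * c * ((g * g) ^ i)⁻¹ = c := by
      intro i
      have hmem : g * g ∈ Subgroup.centralizer ({c} : Set P) := by
        rw [Subgroup.mem_centralizer_singleton_iff]
        have := hsq_cen g
        have e : g * g * c = (g * g * c * (g * g)⁻¹) * (g * g) := by group
        rw [e, this]
      have := Subgroup.zpow_mem _ hmem i
      rw [Subgroup.mem_centralizer_singleton_iff] at this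
      rw [this]; group
    have h3 : g ^ (2 * j) = (g * g) ^ j := by
      rw [zpow_mul, zpow_two]
    have h4 : b = g ^ (2 * j) * ((g ^ (2 * j))⁻¹ * b) := by group
    have h5 : b * c * b⁻¹ = c := by
      rw [h4, h3]
      have e : (g * g) ^ j * (((g * g) ^ j)⁻¹ * b) * c * ((g * g) ^ j * (((g * g) ^ j)⁻¹ * b))⁻¹ =
          (g * g) ^ j * ((((g * g) ^ j)⁻¹ * b) * c * (((g * g) ^ j)⁻¹ * b)⁻¹) * ((g * g) ^ j)⁻¹ := by
        group
      rw [← h3] at e ⊢
      rw [e, hNcen _ h1, h3, h2]
    rw [hbc] at h5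
    exact hcne h5.symm
  -- `g² ∈ N`
  have hgg : g * g ∈ N := by
    have hb2 : (QuotientGroup.mk g : P ⧸ N) ^ (2 * k) = 1 := by
      rw [mul_comm, zpow_mul, hk, zpow_two, ← QuotientGroup.mk_mul]
      exact (QuotientGroup.eq_one_iff _).mpr hbb
    have hPQ : IsPGroup 2 (P ⧸ N) := hP.to_quotient N
    obtain ⟨m, hm⟩ := hPQ (QuotientGroup.mk g)
    -- order of `ḡ` divides `2k` and `2 ^ m`
    have h1 : (orderOf (QuotientGroup.mk g : P ⧸ N) : ℤ) ∣ 2 * k :=
      orderOf_dvd_iff_zpow_eq_one.mpr hb2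
    have h2 : orderOf (QuotientGroup.mk g : P ⧸ N) ∣ 2 ^ m := orderOf_dvd_of_pow_eq_one hm
    obtain ⟨i, -, hi⟩ := (Nat.dvd_prime_pow Nat.prime_two).mp h2
    have hi1 : i ≤ 1 := by
      by_contra hcon
      push Not at hcon
      have h4 : (4 : ℤ) ∣ 2 * k := by
        refine dvd_trans ?_ h1
        rw [hi]
        have : (2 : ℕ) ^ 2 ∣ 2 ^ i := pow_dvd_pow 2 hcon
        exact_mod_cast this
      apply hkodd
      obtain ⟨q, hq⟩ := h4
      exact ⟨q, by omega⟩
    have h3 : (QuotientGroup.mk g : P ⧸ N) ^ 2 = 1 := by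
      apply orderOf_dvd_iff_pow_eq_one.mp
      rw [hi]
      exact pow_dvd_pow 2 hi1 |>.trans (by norm_num)
    rw [pow_two, ← QuotientGroup.mk_mul] at h3
    exact (QuotientGroup.eq_one_iff _).mp h3
  -- hence `P = N ∪ bN`
  have hcoset : ∀ y : P, y ∈ N ∨ b⁻¹ * y ∈ N := by
    have hg2 : (QuotientGroup.mk g : P ⧸ N) ^ (2 : ℤ) = 1 := by
      rw [zpow_two, ← QuotientGroup.mk_mul]
      exact (QuotientGroup.eq_one_iff _).mpr hgg
    have hval : ∀ i : ℤ, (QuotientGroup.mk g : P ⧸ N) ^ i = 1 ∨
        (QuotientGroup.mk g : P ⧸ N) ^ i = QuotientGroup.mk g := by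
      intro i
      rw [zpow_eq_zpow_emod i hg2]
      rcases Int.emod_two_eq_zero_or_one i with h | h
      · left; rw [h, zpow_zero]
      · right; rw [h, zpow_one]
    have hbg : (QuotientGroup.mk b : P ⧸ N) = QuotientGroup.mk g := by
      rcases hval k with h | h
      · exfalso
        rw [hk] at h
        exact hbN ((QuotientGroup.eq_one_iff _).mp h)
      · rw [← hk]; exact h
    intro y
    obtain ⟨i, hi⟩ := Subgroup.mem_zpowers_iff.mp (hgbar (QuotientGroup.mk y))
    rcases hval i with h | h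
    · left
      rw [hi] at h
      exact (QuotientGroup.eq_one_iff _).mp h
    · right
      rw [hi, ← hbg] at h
      exact QuotientGroup.eq.mp h.symm
  -- `b` does not centralize `c`
  have hbnc : b * c ≠ c * b := by
    intro h
    have : b * c * b⁻¹ = c := by rw [h]; group
    rw [hbc] at this
    exact hcne this.symm
  -- `C_P(N) = N`
  have hcentN : Subgroup.centralizer (N : Set P) = N := by
    apply le_antisymm
    · intro y hy
      rcases hcoset y with h | h
      · exact h
      · exfalso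
        apply hbnc
        have hb : b = y * (b⁻¹ * y)⁻¹ := by group
        have hyc : c * y = y * c := (Subgroup.mem_centralizer_iff.mp hy) c hcN
        have hnc : (b⁻¹ * y)⁻¹ * c = c * (b⁻¹ * y)⁻¹ :=
          comm_of_isCyclic_subgroup N hNc (N.inv_mem h) hcN
        rw [hb, mul_assoc, hnc, ← mul_assoc, ← hyc, mul_assoc]
    · intro y hy
      rw [Subgroup.mem_centralizer_iff]
      intro z hz
      exact comm_of_isCyclic_subgroup N hNc hz hy
  have hna : ¬ IsMulCommutative P := by
    intro h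
    exact hbnc ((isMulCommutative_iff.mp h) b c)
  obtain ⟨n, hn⟩ := (hP.to_subgroup N).exists_card_eq
  rcases Cfsg.Agent.S3761.result hP hna N hNc n hn hcentN with h | h
  · exact h.2.2
  · exfalso
    obtain ⟨-, hE, hE4, -⟩ := h
    obtain ⟨M, hM⟩ : ∃ M, M = Subgroup.centralizer (Cfsg.powerClosure 2 1 N : Set P) := ⟨_, rfl⟩
    rw [← hM] at hE hE4
    have hNM : N ≤ M := by
      intro z hz
      rw [hM, Subgroup.mem_centralizer_iff]
      intro w hw
      have hwN : w ∈ N := by
        have hle : Cfsg.powerClosure 2 1 N ≤ N := by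
          unfold Cfsg.powerClosure
          rw [Subgroup.closure_le]
          rintro _ ⟨x, hx, rfl⟩
          exact N.pow_mem hx _
        exact hle hw
      exact comm_of_isCyclic_subgroup N hNc hwN hz
    have hEM : Cfsg.omegaOne 2 M ≤ M := by
      unfold Cfsg.omegaOne
      rw [Subgroup.closure_le]
      intro x hx
      exact hx.1
    -- an element of `E` outside `N`
    obtain ⟨e, heE, heN⟩ : ∃ e ∈ Cfsg.omegaOne 2 M, e ∉ N := by
      by_contra hcon
      push Not at hcon
      haveI := hNc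
      haveI : IsCyclic ↥(Cfsg.omegaOne 2 M) := Subgroup.isCyclic_of_le hcon
      haveI : Fintype ↥(Cfsg.omegaOne 2 M) := Fintype.ofFinite _
      have hle := IsCyclic.card_pow_eq_one_le (α := ↥(Cfsg.omegaOne 2 M)) (n := 2) (by norm_num)
      have hall : (Finset.univ.filter (fun a : ↥(Cfsg.omegaOne 2 M) => a ^ 2 = 1)) = Finset.univ := by
        apply Finset.filter_true_of_mem
        intro a _
        apply Subtype.ext
        have := hE.2 a a.2
        simpa using this
      rw [hall, Finset.card_univ, ← Nat.card_eq_fintype_card, hE4] at hle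
      omega
    have he2 : e ^ 2 = 1 := hE.2 e heE
    have heM : e ∈ M := hEM heE
    -- `e` inverts `c`
    have hec : e * c * e⁻¹ = c⁻¹ := by
      rcases hcoset e with h | h
      · exact absurd h heN
      · have he : e = b * (b⁻¹ * e) := by group
        rw [he]
        have e1 : b * (b⁻¹ * e) * c * (b * (b⁻¹ * e))⁻¹ =
            b * ((b⁻¹ * e) * c * (b⁻¹ * e)⁻¹) * b⁻¹ := by group
        rw [← he] at e1 ⊢
        rw [e1, hNcen _ h, hbc]
    -- `c e` is an involution in `M`
    have hce2 : (c * e) ^ 2 = 1 := by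
      have h1 : e * c = c⁻¹ * e := by
        have : e * c = (e * c * e⁻¹) * e := by group
        rw [this, hec]
      rw [pow_two]
      calc c * e * (c * e) = c * (e * c) * e := by group
        _ = c * (c⁻¹ * e) * e := by rw [h1]
        _ = e ^ 2 := by rw [pow_two]; group
        _ = 1 := he2
    have hceE : c * e ∈ Cfsg.omegaOne 2 M := by
      unfold Cfsg.omegaOne
      exact Subgroup.subset_closure ⟨M.mul_mem (hNM hcN) heM, hce2⟩
    have hcE : c ∈ Cfsg.omegaOne 2 M := by
      have := (Cfsg.omegaOne 2 M).mul_mem hceE ((Cfsg.omegaOne 2 M).inv_mem heE)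
      rwa [mul_inv_cancel_right] at this
    have hc2 := hE.2 c hcE
    have := orderOf_dvd_of_pow_eq_one hc2
    rw [hc4] at this
    omega

end Cfsg.Agent.Lib.Helper7.MetaSC
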