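import Mathlib
import Cfsg.Prelude.Def_OddOrderLocal
import Cfsg.Agent.H2.MetacyclicOdd

set_option autoImplicit false

namespace Cfsg.Agent.Lib.Helper7.MetaSC

open Cfsg

/-- **No homocyclic subgroup of index two.** A metacyclic `2`-group `T` with an abelian subgroup `Q` of index two
(`T = Q ∪ tQ`) cannot have an element `q ∈ Q` with `[t, q]` outside a set `Z` containing the squares and the
involutions of `Q`. -/
theorem false_of_index_two {T : Type*} [Group T] [Finite T] (hT : IsPGroup 2 T)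
    (hm : IsMetacyclic T) (Q : Subgroup T) (Z : Set T)
    (hQc : ∀ x ∈ Q, ∀ y ∈ Q, x * y = y * x) (t : T) (htQ : t ∉ Q)
    (hcoset : ∀ y : T, y ∈ Q ∨ t⁻¹ * y ∈ Q) (htnorm : ∀ u ∈ Q, t * u * t⁻¹ ∈ Q)
    (hZsq : ∀ y ∈ Q, y * y ∈ Z) (hZinv : ∀ y ∈ Q, y * y = 1 → y ∈ Z)
    (q : T) (hq : q ∈ Q) (hqZ : t * q * t⁻¹ * q⁻¹ ∉ Z) : False := by
  obtain ⟨a, g, hNn, hgen⟩ := Cfsg.Agent.H2.MetaOdd.exists_gens hm
  haveI := hNn
  -- commutators lie in `N = ⟨a⟩`
  have hcommN : ∀ x y : T, x * y * x⁻¹ * y⁻¹ ∈ Subgroup.zpowers a := by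
    intro x y
    have hpow : ∀ z : T, ∃ j : ℤ, (QuotientGroup.mk z : T ⧸ Subgroup.zpowers a) =
        (QuotientGroup.mk g) ^ j := by
      intro z
      obtain ⟨i, j, rfl⟩ := hgen z
      refine ⟨j, ?_⟩
      rw [QuotientGroup.mk_mul, QuotientGroup.mk_zpow, QuotientGroup.mk_zpow]
      have : (QuotientGroup.mk a : T ⧸ Subgroup.zpowers a) = 1 :=
        (QuotientGroup.eq_one_iff _).mpr (Subgroup.mem_zpowers a)
      rw [this, one_zpow, one_mul]
    obtain ⟨j, hj⟩ := hpow x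
    obtain ⟨l, hl⟩ := hpow y
    rw [← QuotientGroup.eq_one_iff, QuotientGroup.mk_mul, QuotientGroup.mk_mul, QuotientGroup.mk_mul,
      QuotientGroup.mk_inv, QuotientGroup.mk_inv, hj, hl]
    rw [← zpow_add, ← zpow_neg, ← zpow_add, ← zpow_neg, ← zpow_add]
    have : j + l + -j + -l = 0 := by ring
    rw [this, zpow_zero]
  obtain ⟨x, hxdef⟩ : ∃ x, x = t * q * t⁻¹ * q⁻¹ := ⟨_, rfl⟩
  have hxN : x ∈ Subgroup.zpowers a := hxdef ▸ hcommN t q
  have hxQ : x ∈ Q := hxdef ▸ Q.mul_mem (htnorm q hq) (Q.inv_mem hq)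
  rw [← hxdef] at hqZ
  -- conjugation by an element of `tQ` agrees with conjugation by `t` on `Q`
  have hconj : ∀ h : T, t⁻¹ * h ∈ Q → ∀ u ∈ Q, h * u * h⁻¹ = t * u * t⁻¹ := by
    intro h hh u hu
    have e : h * u * h⁻¹ = t * ((t⁻¹ * h) * u * (t⁻¹ * h)⁻¹) * t⁻¹ := by group
    rw [e, hQc _ hh u hu]
    group
  by_cases haQ : a ∈ Q
  · -- Case A
    have hNQ : Subgroup.zpowers a ≤ Q := by rw [Subgroup.zpowers_le]; exact haQ
    have hgQ : g ∉ Q := by
      intro hg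
      apply htQ
      obtain ⟨i, j, rfl⟩ := hgen t
      exact Q.mul_mem (Q.zpow_mem haQ i) (Q.zpow_mem hg j)
    have hg' : t⁻¹ * g ∈ Q := (hcoset g).resolve_left hgQ
    obtain ⟨i, j, hqij⟩ := hgen q
    have hx1 : x = g * q * g⁻¹ * q⁻¹ := by rw [hxdef, hconj g hg' q hq]
    obtain ⟨lam, hlam⟩ := Subgroup.mem_zpowers_iff.mp (hNn.conj_mem a (Subgroup.mem_zpowers a) g)
    have hx2 : x = a ^ ((lam - 1) * i) := by
      rw [hx1, hqij]
      have e : g * (a ^ i * g ^ j) * g⁻¹ * (a ^ i * g ^ j)⁻¹ = (g * a * g⁻¹) ^ i * (a ^ i)⁻¹ := by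
        rw [conj_zpow]
        have hc : g * g ^ j = g ^ j * g := by
          rw [← zpow_one_add, ← zpow_add_one, add_comm]
        calc g * (a ^ i * g ^ j) * g⁻¹ * (a ^ i * g ^ j)⁻¹
            = g * a ^ i * (g ^ j * g⁻¹ * (g ^ j)⁻¹) * (a ^ i)⁻¹ := by group
          _ = g * a ^ i * g⁻¹ * (a ^ i)⁻¹ := by
              have : g ^ j * g⁻¹ * (g ^ j)⁻¹ = g⁻¹ := by
                have h2 : g ^ j * g⁻¹ = g⁻¹ * g ^ j := by
                  rw [← zpow_neg_one, ← zpow_add, ← zpow_add, add_comm]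
                rw [h2]; group
              rw [this]
      rw [e, ← hlam, ← zpow_mul, ← zpow_neg, ← zpow_add]
      congr 1
      ring
    by_cases hodd : 2 ∣ lam - 1
    · obtain ⟨ν, hν⟩ := hodd
      apply hqZ
      have : x = a ^ (ν * i) * a ^ (ν * i) := by
        rw [hx2, ← zpow_add, hν]; congr 1; ring
      rw [this]
      exact hZsq _ (hNQ (Subgroup.zpow_mem_zpowers a _))
    · -- `lam` is even: then `a = 1`
      have hev : 2 ∣ lam := by omega
      obtain ⟨ν, hν⟩ := hev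
      obtain ⟨μ, hμ⟩ := Subgroup.mem_zpowers_iff.mp
        (hNn.conj_mem (a ^ ν) (Subgroup.zpow_mem_zpowers a ν) g⁻¹)
      have h1 : a = a ^ (2 * μ) := by
        have e : a = g⁻¹ * (g * a * g⁻¹) * g⁻¹⁻¹ := by group
        rw [← hlam, hν, mul_comm 2 ν, zpow_mul, zpow_two] at e
        have e2 : g⁻¹ * (a ^ ν * a ^ ν) * g⁻¹⁻¹ = (g⁻¹ * a ^ ν * g⁻¹⁻¹) * (g⁻¹ * a ^ ν * g⁻¹⁻¹) := by
          group
        rw [e2, ← hμ, ← zpow_add] at e
        rw [two_mul]
        exact e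
      have h2 : a ^ (2 * μ - 1) = 1 := by
        rw [zpow_sub, zpow_one, ← h1, mul_inv_cancel]
      obtain ⟨s, hs⟩ := hT a
      have h3 : (orderOf a : ℤ) ∣ 2 * μ - 1 := orderOf_dvd_iff_zpow_eq_one.mpr h2
      have h4 : orderOf a ∣ 2 ^ s := orderOf_dvd_of_pow_eq_one hs
      obtain ⟨r, -, hr⟩ := (Nat.dvd_prime_pow Nat.prime_two).mp h4
      have hr0 : r = 0 := by
        by_contra hne
        have : (2 : ℤ) ∣ 2 * μ - 1 := by
          refine dvd_trans ?_ h3
          rw [hr]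
          have : (2 : ℕ) ∣ 2 ^ r := dvd_pow_self 2 hne
          exact_mod_cast this
        omega
      rw [hr0, pow_zero, orderOf_eq_one_iff] at hr
      apply hqZ
      have : x = 1 * 1 := by rw [hx2, hr, one_zpow, one_mul]
      rw [this]
      exact hZsq 1 Q.one_mem
  · -- Case B
    have ha' : t⁻¹ * a ∈ Q := (hcoset a).resolve_left haQ
    have hxa : a * x * a⁻¹ = x := by
      obtain ⟨j, rfl⟩ := Subgroup.mem_zpowers_iff.mp hxN
      have : a * a ^ j = a ^ j * a := by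
        rw [← zpow_one_add, ← zpow_add_one, add_comm]
      rw [this]; group
    have hxt : t * x * t⁻¹ = x := by rw [← hconj a ha' x hxQ, hxa]
    have htt : t * t ∈ Q := by
      rcases hcoset (t * t) with h | h
      · exact h
      · rw [inv_mul_cancel_left] at h
        exact absurd h htQ
    have h1 : t * q * t⁻¹ = x * q := by rw [hxdef]; group
    have h2 : (t * t) * q * (t * t)⁻¹ = x * x * q := by
      have e : (t * t) * q * (t * t)⁻¹ = t * (t * q * t⁻¹) * t⁻¹ := by group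
      rw [e, h1]
      have e2 : t * (x * q) * t⁻¹ = (t * x * t⁻¹) * (t * q * t⁻¹) := by group
      rw [e2, hxt, h1, mul_assoc]
    have h3 : (t * t) * q * (t * t)⁻¹ = q := by
      rw [hQc _ htt q hq]; group
    have h4 : x * x = 1 := by
      rw [h3] at h2
      have := mul_right_cancel (a := x * x) (b := q) (c := 1) (by rw [one_mul]; exact h2.symm)
      exact this
    exact hqZ (hZinv x hxQ h4)

end Cfsg.Agent.Lib.Helper7.MetaSC
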