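import Mathlib
import Cfsg.Prelude.Def_FusionSystem
import Cfsg.Prelude.Def_OddOrderLocal
import Cfsg.Prelude.Def_CaseTheorems
import Cfsg.Agent.Lib.Helper7.MetaSCe
import Cfsg.Agent.Lib.Helper7.MetaSCf
import Cfsg.Agent.Lib.Helper7.MetaSCg
import Cfsg.Agent.H2.MetaTwoAut

set_option autoImplicit false

namespace Cfsg.Agent.Lib.Helper7.MetaSC

open Cfsg Cfsg.FusionSystem Cfsg.Agent.Lib.Helper7

variable {Ω : Type*} [Group Ω]

/-- the subgroup `Q ∪ tQ` for `t` normalizing `Q` with `t² ∈ Q` -/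
def cosetPair (Q : Subgroup Ω) (t : Ω) (hnorm : ∀ u ∈ Q, t⁻¹ * u * t ∈ Q) (htt : t * t ∈ Q) :
    Subgroup Ω where
  carrier := {y | y ∈ Q ∨ t⁻¹ * y ∈ Q}
  one_mem' := Or.inl Q.one_mem
  mul_mem' := by
    rintro a b (ha | ha) (hb | hb)
    · exact Or.inl (Q.mul_mem ha hb)
    · right
      have := Q.mul_mem (hnorm a ha) hb
      convert this using 1
      group
    · right
      have := Q.mul_mem ha hb
      convert this using 1
      group
    · left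
      have := Q.mul_mem (Q.mul_mem htt (hnorm _ ha)) hb
      convert this using 1
      group
  inv_mem' := by
    rintro a (ha | ha)
    · exact Or.inl (Q.inv_mem ha)
    · right
      have := Q.mul_mem (hnorm _ (Q.inv_mem ha)) (Q.inv_mem htt)
      convert this using 1
      group

theorem mem_cosetPair {Q : Subgroup Ω} {t : Ω} {hnorm : ∀ u ∈ Q, t⁻¹ * u * t ∈ Q}
    {htt : t * t ∈ Q} {y : Ω} : y ∈ cosetPair Q t hnorm htt ↔ y ∈ Q ∨ t⁻¹ * y ∈ Q := Iff.rfl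

theorem card_cosetPair (Q : Subgroup Ω) [Finite Q] (t : Ω) (hnorm : ∀ u ∈ Q, t⁻¹ * u * t ∈ Q)
    (htt : t * t ∈ Q) (ht : t ∉ Q) : Nat.card (cosetPair Q t hnorm htt) = 2 * Nat.card Q := by
  classical
  have h1 : ((cosetPair Q t hnorm htt : Subgroup Ω) : Set Ω) =
      (Q : Set Ω) ∪ (fun u => t * u) '' (Q : Set Ω) := by
    ext y
    constructor
    · rintro (h | h)
      · exact Or.inl h
      · exact Or.inr ⟨t⁻¹ * y, h, by simp⟩
    · rintro (h | ⟨u, hu, rfl⟩)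
      · exact Or.inl h
      · right
        show t⁻¹ * (t * u) ∈ Q
        rw [inv_mul_cancel_left]; exact hu
  have hdisj : Disjoint (Q : Set Ω) ((fun u => t * u) '' (Q : Set Ω)) := by
    rw [Set.disjoint_left]
    rintro y hy ⟨u, hu, rfl⟩
    apply ht
    have := Q.mul_mem hy (Q.inv_mem hu)
    rwa [mul_inv_cancel_right] at this
  have h2 : Nat.card (cosetPair Q t hnorm htt) =
      ((cosetPair Q t hnorm htt : Subgroup Ω) : Set Ω).ncard := (Nat.card_coe_set_eq _)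
  have hfin : (Q : Set Ω).Finite := Set.toFinite _
  rw [h2, h1, Set.ncard_union_eq hdisj hfin (hfin.image _),
    Set.ncard_image_of_injective _ (mul_right_injective t)]
  have h3 : (Q : Set Ω).ncard = Nat.card Q := (Nat.card_coe_set_eq _).symm
  rw [h3]; ring


theorem zmod_two_pow_double (n : ℕ) (hn : 2 ≤ n) (z : ZMod (2 ^ n)) (hz : z + z = 0) :
    ∃ w : ZMod (2 ^ n), z = w + w := by
  haveI : NeZero (2 ^ n) := ⟨by positivity⟩
  have h1 : ((z.val + z.val : ℕ) : ZMod (2 ^ n)) = 0 := by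
    rw [Nat.cast_add, ZMod.natCast_zmod_val]; exact hz
  have h2 : 2 ^ n ∣ z.val + z.val := (ZMod.natCast_eq_zero_iff _ _).mp h1
  obtain ⟨m, rfl⟩ : ∃ m, n = m + 2 := ⟨n - 2, by omega⟩
  have h3 : 2 ^ (m + 1) ∣ z.val := by
    obtain ⟨v, hv⟩ : ∃ v, v = z.val := ⟨_, rfl⟩
    rw [← hv] at h2 ⊢
    have : 2 * 2 ^ (m + 1) ∣ 2 * v := by
      have e : 2 * 2 ^ (m + 1) = 2 ^ (m + 2) := by ring
      rw [e, two_mul]; exact h2
    exact (Nat.mul_dvd_mul_iff_left (by norm_num)).mp this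
  obtain ⟨k, hk⟩ := h3
  refine ⟨((2 ^ m * k : ℕ) : ZMod (2 ^ (m + 2))), ?_⟩
  rw [← Nat.cast_add]
  have : 2 ^ m * k + 2 ^ m * k = z.val := by rw [hk]; ring
  rw [this, ZMod.natCast_zmod_val]

theorem homocyclic_involution_sq (n : ℕ) (hn : 2 ≤ n)
    (y : Multiplicative (ZMod (2 ^ n)) × Multiplicative (ZMod (2 ^ n))) (hy : y * y = 1) :
    ∃ u, y = u * u := by
  obtain ⟨y1, y2⟩ := y
  have h1 : y1 * y1 = 1 := congrArg Prod.fst hy
  have h2 : y2 * y2 = 1 := congrArg Prod.snd hy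
  obtain ⟨w1, hw1⟩ := zmod_two_pow_double n hn (Multiplicative.toAdd y1) h1
  obtain ⟨w2, hw2⟩ := zmod_two_pow_double n hn (Multiplicative.toAdd y2) h2
  refine ⟨(Multiplicative.ofAdd w1, Multiplicative.ofAdd w2), ?_⟩
  ext
  · exact hw1
  · exact hw2


theorem dqsd_of_nonabelian_eight_le {P : Subgroup Ω} [Finite ↥P] (hPp : IsPGroup 2 ↥P)
    (hm : IsMetacyclic ↥P) (B₀ : Subgroup Ω) (hB₀P : B₀ ≤ P) (hB8 : Nat.card ↥B₀ = 8)
    (hBna : ∃ x ∈ B₀, ∃ y ∈ B₀, x * y ≠ y * x) :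
    (∃ m : ℕ, Nonempty (↥P ≃* DihedralGroup m)) ∨
      (∃ m : ℕ, Nonempty (↥P ≃* QuaternionGroup m)) ∨ IsQuasiDihedral ↥P := by
  refine dqsd_of_nonabelian_eight hPp hm (B₀.subgroupOf P) ?_ ?_
  · rw [Nat.card_congr (Subgroup.subgroupOfEquivOfLe hB₀P).toEquiv, hB8]
  · obtain ⟨x, hx, y, hy, hxy⟩ := hBna
    refine ⟨⟨x, hB₀P hx⟩, Subgroup.mem_subgroupOf.mpr hx, ⟨y, hB₀P hy⟩,
      Subgroup.mem_subgroupOf.mpr hy, ?_⟩
    intro h; exact hxy (congrArg Subtype.val h)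

variable {S : Subgroup Ω}

/-- **Key step for `p = 2`.** A strongly closed metacyclic subgroup lies in every essential subgroup, unless it
is dihedral, quaternion or semidihedral. -/
theorem le_essential_or_dqsd_two [Finite S] (hS : IsPGroup 2 S)
    (F : FusionSystem S) (_hF : F.IsSaturated 2) (P : Subgroup Ω) (hP : F.StronglyClosed P)
    (hm : IsMetacyclic ↥P) (R : Subgroup Ω) (hR : F.IsEssential 2 R) :
    P ≤ R ∨ ((∃ m : ℕ, Nonempty (↥P ≃* DihedralGroup m)) ∨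
      (∃ m : ℕ, Nonempty (↥P ≃* QuaternionGroup m)) ∨ IsQuasiDihedral ↥P) := by
  by_cases hnot : P ≤ R
  · exact Or.inl hnot
  right
  have hcen : F.IsCentric R := hR.1
  have hfn : F.IsFullyNormalized R := hR.2.1
  have hrad : F.IsRadical 2 R := isRadical_of_isEssential 2 hS F R hR
  have hRS : R ≤ S := hcen.1
  have hPS : P ≤ S := hP.1
  have hcenR : centralizerIn S R ≤ R := hcen.2 R (isConj_refl F hRS)
  have hN : S ≤ Subgroup.normalizer (P : Set Ω) := le_normalizer_of_stronglyClosed F hP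
  haveI : Finite ↥R := finite_of_le hRS
  haveI : Finite ↥P := finite_of_le hPS
  have hRp : IsPGroup 2 ↥R := hS.to_le hRS
  have hPp : IsPGroup 2 ↥P := hS.to_le hPS
  obtain ⟨t, htP, htN, htR⟩ := exists_mem_normalizer_of_not_le hS hRS hPS hN hnot
  have htS : t ∈ S := hPS htP
  obtain ⟨G, hG⟩ : ∃ G, G = F.autGroup R := ⟨_, rfl⟩
  obtain ⟨Qr, hQr⟩ : ∃ Qr : Subgroup ↥R, Qr = P.subgroupOf R := ⟨_, rfl⟩
  have hinv : ∀ α ∈ G, ∀ x ∈ Qr, α x ∈ Qr := by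
    intro α hα x hx
    rw [hQr, Subgroup.mem_subgroupOf] at hx ⊢
    exact autGroup_apply_mem_of_stronglyClosed F hP hRS α (hG ▸ hα) x hx
  have hQm : IsMetacyclic ↥Qr := by rw [hQr]; exact isMetacyclic_subgroupOf hm
  have hUG : autInducedBy S R ≤ G := hG ▸ autInducedBy_le_autGroup F hRS
  have hradG : (pCore 2 G).map G.subtype = Inn ↥R := by rw [hG]; exact hrad.2
  have hcK : ∀ (u : Ω) (huP : u ∈ P) (huN : u ∈ Subgroup.normalizer (R : Set Ω)),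
      R.normalizerMonoidHom ⟨u, huN⟩ ∈ kSub G Qr := by
    intro u huP huN
    refine ⟨hUG ((mem_autInducedBy_iff S R _).mpr ⟨u, hPS huP, fun x => rfl⟩), fun x => ?_⟩
    rw [hQr, Subgroup.mem_subgroupOf]
    show (x : Ω)⁻¹ * (u * x * u⁻¹) ∈ P
    have h1 : (x : Ω)⁻¹ * u * (x : Ω)⁻¹⁻¹ ∈ P :=
      (Subgroup.mem_normalizer_iff.mp (hN (S.inv_mem (hRS x.2))) u).mp huP
    have := P.mul_mem h1 (P.inv_mem huP)
    convert this using 1
    group
  obtain ⟨τ, hτdef⟩ : ∃ τ, τ = R.normalizerMonoidHom ⟨t, htN⟩ := ⟨_, rfl⟩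
  have hτK : τ ∈ kSub G Qr := hτdef ▸ hcK t htP htN
  have hτU : τ ∈ autInducedBy S R :=
    hτdef ▸ (mem_autInducedBy_iff S R _).mpr ⟨t, htS, fun x => rfl⟩
  have hτp : ∃ k : ℕ, τ ^ 2 ^ k = 1 := by
    obtain ⟨k, hk⟩ := (isPGroup_autInducedBy S R hS) ⟨τ, hτU⟩
    exact ⟨k, congrArg Subtype.val hk⟩
  have hτ : τ ∉ (pCore 2 G).map G.subtype := by
    rw [hradG, hτdef]
    intro h
    exact htR (mem_of_normalizerMonoidHom_mem_inn hcenR hRS htS htN h)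
  obtain ⟨hcardV, e, -, he2⟩ := main_det hRp G Qr hinv hQm τ hτK hτp hτ
  have hQrp : IsPGroup 2 ↥Qr := hRp.to_subgroup Qr
  have hsurj : ∀ β : MulAut (↥Qr ⧸ frattini ↥Qr),
      ∃ α ∈ kSub G Qr, ∃ h : α ∈ G, thetaHom G Qr hinv ⟨α, h⟩ = β :=
    fun β => he2 β (Subsingleton.elim _ _)
  have hcard6 : Nat.card (MulAut (↥Qr ⧸ frattini ↥Qr)) = 6 := by
    rw [Nat.card_congr e.toEquiv, Matrix.card_GL_field, ZMod.card, Fin.prod_univ_two]
    norm_num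
  -- `Aut(Q)` is not a `2`-group
  have hA : ¬ IsPGroup 2 (MulAut ↥Qr) := by
    intro hA
    have hV2 : IsPGroup 2 (MulAut (↥Qr ⧸ frattini ↥Qr)) := by
      intro β
      obtain ⟨α, -, hαG, hαΘ⟩ := hsurj β
      obtain ⟨k, hk⟩ := hA (resHom G Qr hinv ⟨α, hαG⟩)
      refine ⟨k, ?_⟩
      rw [← hαΘ]
      show (frattiniAut ↥Qr (resHom G Qr hinv ⟨α, hαG⟩)) ^ 2 ^ k = 1
      rw [← map_pow, hk, map_one]
    obtain ⟨k, hk⟩ := hV2.exists_card_eq
    rw [hcard6] at hk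
    have h3 : 3 ∣ 2 ^ k := ⟨2, by omega⟩
    have := Nat.Prime.dvd_of_dvd_pow Nat.prime_three h3
    omega
  -- properties of `w = Θ τ`
  obtain ⟨w, hwdef⟩ : ∃ w, w = thetaHom G Qr hinv ⟨τ, hτK.1⟩ := ⟨_, rfl⟩
  have hw1 : w ≠ 1 := by
    intro h1
    apply hτ
    apply k1Sub_le_pCore hRp G Qr hinv
    rw [mem_k1Sub]
    exact ⟨hτK, hτK.1, hwdef ▸ h1⟩
  have hw2 : w ^ 2 = 1 := by
    obtain ⟨k, hk⟩ := hτp
    have hwk : w ^ 2 ^ k = 1 := by
      rw [hwdef, ← map_pow]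
      have : (⟨τ, hτK.1⟩ : G) ^ 2 ^ k = 1 := Subtype.ext hk
      rw [this, map_one]
    have hw6 : w ^ 6 = 1 := by rw [← hcard6]; exact pow_card_eq_one'
    have hg : w ^ Nat.gcd (2 ^ k) 6 = 1 := pow_gcd_eq_one.mpr ⟨hwk, hw6⟩
    have hd : Nat.gcd (2 ^ k) 6 ∣ 2 := by
      obtain ⟨j, -, hj⟩ := (Nat.dvd_prime_pow Nat.prime_two).mp (Nat.gcd_dvd_left (2 ^ k) 6)
      have h6 := Nat.gcd_dvd_right (2 ^ k) 6
      rw [hj] at h6 ⊢
      have hj1 : j ≤ 1 := by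
        by_contra hc
        push Not at hc
        have h4 : 2 ^ 2 ∣ 2 ^ j := pow_dvd_pow 2 hc
        have := h4.trans h6
        omega
      exact (pow_dvd_pow 2 hj1).trans (by norm_num)
    exact orderOf_dvd_iff_pow_eq_one.mp ((orderOf_dvd_of_pow_eq_one hg).trans hd)
  -- `t² ∈ R`
  have httR : t * t ∈ R := by
    have hττ : τ * τ ∈ k1Sub G Qr hinv := by
      rw [mem_k1Sub]
      refine ⟨(kSub G Qr).mul_mem hτK hτK, G.mul_mem hτK.1 hτK.1, ?_⟩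
      have : (⟨τ * τ, G.mul_mem hτK.1 hτK.1⟩ : G) = ⟨τ, hτK.1⟩ * ⟨τ, hτK.1⟩ := rfl
      rw [this, map_mul, ← hwdef, ← pow_two, hw2]
    have hinn : τ * τ ∈ Inn ↥R := by
      rw [← hradG]; exact k1Sub_le_pCore hRp G Qr hinv hττ
    have httN : t * t ∈ Subgroup.normalizer (R : Set Ω) := Subgroup.mul_mem _ htN htN
    have e : R.normalizerMonoidHom ⟨t * t, httN⟩ = τ * τ := by
      rw [hτdef, ← map_mul]; rfl
    exact mem_of_normalizerMonoidHom_mem_inn hcenR hRS (S.mul_mem htS htS) httN (e ▸ hinn)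
  -- the subgroup `J = Q₀ ∪ t Q₀`
  obtain ⟨Q₀, hQ₀⟩ : ∃ Q₀, Q₀ = P ⊓ R := ⟨_, rfl⟩
  have hQ₀P : Q₀ ≤ P := hQ₀ ▸ inf_le_left
  have hQ₀R : Q₀ ≤ R := hQ₀ ▸ inf_le_right
  have htQ₀ : t ∉ Q₀ := fun h => htR (hQ₀R h)
  have hnormQ : ∀ u ∈ Q₀, t⁻¹ * u * t ∈ Q₀ := by
    intro u hu
    rw [hQ₀] at hu ⊢
    refine ⟨P.mul_mem (P.mul_mem (P.inv_mem htP) hu.1) htP, ?_⟩
    have := (Subgroup.mem_normalizer_iff.mp (Subgroup.inv_mem _ htN) u).mp hu.2
    rwa [inv_inv] at this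
  have hnormQ' : ∀ u ∈ Q₀, t * u * t⁻¹ ∈ Q₀ := by
    intro u hu
    rw [hQ₀] at hu ⊢
    exact ⟨P.mul_mem (P.mul_mem htP hu.1) (P.inv_mem htP),
      (Subgroup.mem_normalizer_iff.mp htN u).mp hu.2⟩
  have httQ₀ : t * t ∈ Q₀ := hQ₀ ▸ ⟨P.mul_mem htP htP, httR⟩
  obtain ⟨J, hJ⟩ : ∃ J, J = cosetPair Q₀ t hnormQ httQ₀ := ⟨_, rfl⟩
  have hJP : J ≤ P := by
    rw [hJ]
    rintro y (hy | hy)
    · exact hQ₀P hy
    · have := P.mul_mem htP (hQ₀P hy)
      rwa [mul_inv_cancel_left] at this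
  have hQ₀J : Q₀ ≤ J := by rw [hJ]; exact fun y hy => Or.inl hy
  have htJ : t ∈ J := by
    rw [hJ]; right; rw [inv_mul_cancel]; exact Q₀.one_mem
  haveI : Finite ↥Q₀ := finite_of_le (hQ₀P.trans hPS)
  haveI : Finite ↥J := finite_of_le (hJP.trans hPS)
  -- conversion `Q₀ → Qr`
  have hmemQr : ∀ (x : Ω) (hx : x ∈ Q₀), (⟨x, hQ₀R hx⟩ : ↥R) ∈ Qr := by
    intro x hx
    rw [hQr, Subgroup.mem_subgroupOf]
    exact hQ₀P hx
  have hkey : ∀ z : ↥R, z ∈ Qr → (z : Ω) ∈ Q₀ := by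
    intro z hz
    rw [hQr, Subgroup.mem_subgroupOf] at hz
    rw [hQ₀]; exact ⟨hz, z.2⟩
  have hJmem : ∀ y ∈ J, y ∈ Q₀ ∨ t⁻¹ * y ∈ Q₀ := by
    intro y hy; rw [hJ] at hy; exact hy
  -- an element of `Q₀` moved nontrivially modulo squares
  obtain ⟨q₀, hq₀, hq₀sq⟩ : ∃ q₀ ∈ Q₀, ∀ u ∈ Q₀, t * q₀ * t⁻¹ * q₀⁻¹ ≠ u * u := by
    by_contra hcon
    push Not at hcon
    apply hw1
    ext v
    induction v using QuotientGroup.induction_on with | _ xq =>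
    rw [MulAut.one_apply, hwdef]
    show frattiniAut ↥Qr (resHom G Qr hinv ⟨τ, hτK.1⟩) (xq : ↥Qr ⧸ frattini ↥Qr) = _
    rw [frattiniAut_mk]
    symm
    rw [QuotientGroup.eq]
    have hxq₀ : ((xq : ↥R) : Ω) ∈ Q₀ := hkey _ xq.2
    obtain ⟨u, hu, huu⟩ := hcon _ hxq₀
    -- `(τ xq) xq⁻¹ = ũ²`
    have h1 : resHom G Qr hinv ⟨τ, hτK.1⟩ xq * xq⁻¹ =
        (⟨⟨u, hQ₀R hu⟩, hmemQr u hu⟩ : ↥Qr) ^ 2 := by
      apply Subtype.ext
      apply Subtype.ext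
      rw [pow_two]
      simp only [Subgroup.coe_mul, Subgroup.coe_inv, resHom_apply]
      rw [← huu, hτdef]
      rfl
    have h2 : resHom G Qr hinv ⟨τ, hτK.1⟩ xq * xq⁻¹ ∈ frattini ↥Qr := by
      rw [h1]; exact Cfsg.Agent.H1.pow_p_mem_frattini hQrp _
    have h3 := (inferInstance : (frattini ↥Qr).Normal).conj_mem _ h2 xq⁻¹
    convert h3 using 1
    group
  -- the isomorphism `Q₀ ≃* Qr`
  let φ : ↥Q₀ →* ↥Qr :=
    { toFun := fun x => ⟨⟨x.1, hQ₀R x.2⟩, hmemQr x.1 x.2⟩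
      map_one' := rfl
      map_mul' := fun _ _ => rfl }
  have hφinj : Function.Injective φ := by
    intro x y hxy
    apply Subtype.ext
    exact congrArg (fun z : ↥Qr => ((z : ↥R) : Ω)) hxy
  have hφsurj : Function.Surjective φ := by
    intro z
    exact ⟨⟨_, hkey _ z.2⟩, rfl⟩
  let φe : ↥Q₀ ≃* ↥Qr := MulEquiv.ofBijective φ ⟨hφinj, hφsurj⟩
  have hcardQ : Nat.card ↥Q₀ = Nat.card ↥Qr := Nat.card_congr φe.toEquiv
  have htq₀ : t * q₀ ≠ q₀ * t := by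
    intro h
    apply hq₀sq 1 Q₀.one_mem
    rw [h]; group
  rcases Cfsg.Agent.H2.MetaTwoAut.main hQrp hQm hA with ⟨⟨ψ⟩⟩ | ⟨n, ⟨ψ⟩⟩
  · -- `Q₈`
    refine dqsd_of_nonabelian_eight_le hPp hm Q₀ hQ₀P ?_ ?_
    · rw [hcardQ, Nat.card_congr ψ.toEquiv, Nat.card_eq_fintype_card, QuaternionGroup.card]
    · have hab : (QuaternionGroup.a 1 : QuaternionGroup 2) * QuaternionGroup.xa 0 ≠
          QuaternionGroup.xa 0 * QuaternionGroup.a 1 := by
        rw [QuaternionGroup.a_mul_xa, QuaternionGroup.xa_mul_a]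
        intro h
        have h' := QuaternionGroup.xa.inj h
        revert h'
        decide
      refine ⟨(φe.symm (ψ.symm (QuaternionGroup.a 1)) : Ω), (φe.symm (ψ.symm _)).2,
        (φe.symm (ψ.symm (QuaternionGroup.xa 0)) : Ω), (φe.symm (ψ.symm _)).2, ?_⟩
      intro h
      apply hab
      have h' : φe.symm (ψ.symm (QuaternionGroup.a 1)) * φe.symm (ψ.symm (QuaternionGroup.xa 0)) =
          φe.symm (ψ.symm (QuaternionGroup.xa 0)) * φe.symm (ψ.symm (QuaternionGroup.a 1)) :=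
        Subtype.ext h
      rw [← map_mul, ← map_mul, ← map_mul, ← map_mul] at h'
      exact ψ.symm.injective (φe.symm.injective h')
  · -- homocyclic
    let χ : ↥Q₀ ≃* Multiplicative (ZMod (2 ^ n)) × Multiplicative (ZMod (2 ^ n)) := φe.trans ψ
    have hQ₀c : ∀ x ∈ Q₀, ∀ y ∈ Q₀, x * y = y * x := by
      intro x hx y hy
      have : (⟨x, hx⟩ : ↥Q₀) * ⟨y, hy⟩ = ⟨y, hy⟩ * ⟨x, hx⟩ := by
        apply χ.injective
        rw [map_mul, map_mul, mul_comm]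
      exact congrArg Subtype.val this
    have hcard : Nat.card ↥Q₀ = 2 ^ n * 2 ^ n := by
      rw [Nat.card_congr χ.toEquiv, Nat.card_prod, Cfsg.Agent.H2.MetaTwoAut.card_mult_zmod]
    rcases Nat.lt_or_ge n 2 with hn2 | hn2
    · have hn1 : n = 1 := by
        rcases Nat.eq_zero_or_pos n with h0 | h0
        · exfalso
          subst h0
          have hsub : Nat.card ↥Q₀ = 1 := by rw [hcard]; norm_num
          have hbot : Q₀ = ⊥ := Subgroup.card_eq_one.mp hsub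
          rw [hbot, Subgroup.mem_bot] at hq₀
          apply htq₀
          rw [hq₀, mul_one, one_mul]
        · omega
      subst hn1
      refine dqsd_of_nonabelian_eight_le hPp hm J hJP ?_ ⟨t, htJ, q₀, hQ₀J hq₀, htq₀⟩
      rw [hJ, card_cosetPair Q₀ t hnormQ httQ₀ htQ₀, hcard]; norm_num
    · exfalso
      have hJp : IsPGroup 2 ↥J := hS.to_le (hJP.trans hPS)
      have hJm : IsMetacyclic ↥J := Cfsg.Agent.Lib.Helper4.MetaActAmb.isMetacyclic_of_le hm hJP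
      refine false_of_index_two hJp hJm (Q₀.subgroupOf J)
        {z : ↥J | ∃ u ∈ Q₀, (z : Ω) = u * u}
        ?_ ⟨t, htJ⟩ ?_ ?_ ?_ ?_ ?_ ⟨q₀, hQ₀J hq₀⟩ (Subgroup.mem_subgroupOf.mpr hq₀) ?_
      · intro x hx y hy
        exact Subtype.ext
          (hQ₀c _ (Subgroup.mem_subgroupOf.mp hx) _ (Subgroup.mem_subgroupOf.mp hy))
      · intro h; exact htQ₀ (Subgroup.mem_subgroupOf.mp h)
      · intro y
        rcases hJmem y y.2 with h | h
        · exact Or.inl (Subgroup.mem_subgroupOf.mpr h)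
        · exact Or.inr (Subgroup.mem_subgroupOf.mpr h)
      · intro u hu
        exact Subgroup.mem_subgroupOf.mpr (hnormQ' _ (Subgroup.mem_subgroupOf.mp hu))
      · intro y hy
        exact ⟨(y : Ω), Subgroup.mem_subgroupOf.mp hy, rfl⟩
      · intro y hy hyy
        have hy' : (y : Ω) ∈ Q₀ := Subgroup.mem_subgroupOf.mp hy
        have h1 : χ ⟨y, hy'⟩ * χ ⟨y, hy'⟩ = 1 := by
          rw [← map_mul]
          have : (⟨(y : Ω), hy'⟩ : ↥Q₀) * ⟨(y : Ω), hy'⟩ = 1 :=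
            Subtype.ext (congrArg (fun z : ↥J => (z : Ω)) hyy)
          rw [this, map_one]
        obtain ⟨u, hu⟩ := homocyclic_involution_sq n hn2 _ h1
        refine ⟨(χ.symm u : Ω), (χ.symm u).2, ?_⟩
        have : (⟨(y : Ω), hy'⟩ : ↥Q₀) = χ.symm u * χ.symm u := by
          apply χ.injective
          rw [map_mul, χ.apply_symm_apply, hu]
        exact congrArg Subtype.val this
      · rintro ⟨u, hu, huu⟩
        exact hq₀sq u hu huu

end Cfsg.Agent.Lib.Helper7.MetaSC
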