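import Mathlib
import Cfsg.Agent.Lib.Lead.Conj
import Cfsg.Agent.Lib.Helper7.Core
import Cfsg.Agent.H2.UniqueOrderP

set_option autoImplicit false

namespace Cfsg.Agent.Lib.Helper7

open Cfsg.Agent.Lib.Lead.Conj

section tri

variable {F : Type*} [Group F] [Finite F] (H : Subgroup F) (hH : H ≠ ⊥)
  (hmin : ∀ R : Subgroup F, R ≠ ⊥ → H ≤ Subgroup.normalizer (R : Set F) → H ≤ R)

include hmin in
omit [Finite F] in
theorem tri_le_normal (M : Subgroup F) (hM : M.Normal) (hM1 : M ≠ ⊥) :
    Subgroup.normalClosure (H : Set F) ≤ M := by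
  apply Subgroup.normalClosure_le_normal
  apply hmin M hM1
  rw [Subgroup.normalizer_eq_top_iff.mpr hM]; exact le_top

include hH in
omit [Finite F] in
theorem tri_normalClosure_ne_bot : Subgroup.normalClosure (H : Set F) ≠ ⊥ := by
  intro h
  apply hH
  rw [eq_bot_iff, ← h]
  exact Subgroup.le_normalClosure

include hH hmin in
theorem tri_simple : IsSimpleGroup ↥(Subgroup.normalClosure (H : Set F)) := by
  set N := Subgroup.normalClosure (H : Set F) with hN
  have hHN : H ≤ N := Subgroup.le_normalClosure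
  haveI : Nontrivial ↥N := (Subgroup.nontrivial_iff_ne_bot N).mpr (tri_normalClosure_ne_bot H hH)
  refine ⟨fun T hT => ?_⟩
  by_cases hTbot : T = ⊥
  · exact Or.inl hTbot
  right
  set T' : Subgroup F := T.map N.subtype with hT'
  have hT'N : T' ≤ N := Subgroup.map_subtype_le T
  have hT'ne : T' ≠ ⊥ := fun h => hTbot ((Subgroup.map_eq_bot_iff_of_injective _ N.subtype_injective).mp h)
  have hNT' : N ≤ Subgroup.normalizer (T' : Set F) := by
    intro n hn
    apply mem_normalizer_of_conj_mem
    rintro _ ⟨t, ht, rfl⟩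
    exact ⟨⟨n, hn⟩ * t * ⟨n, hn⟩⁻¹, hT.conj_mem t ht ⟨n, hn⟩, rfl⟩
  -- `H` lies in every conjugate of `T'`
  have hcore : H ≤ T'.normalCore := by
    intro h hh b
    -- `b h b⁻¹ ∈ T'` iff `h ∈ T'.map (conj b⁻¹)`
    have h1 : H ≤ T'.map (MulAut.conj b⁻¹).toMonoidHom := by
      apply hmin
      · intro hb
        apply hT'ne
        rw [Subgroup.map_eq_bot_iff_of_injective _ (MulAut.conj b⁻¹).injective] at hb
        exact hb
      · refine hHN.trans ?_
        intro n hn
        apply mem_normalizer_of_conj_mem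
        rintro _ ⟨t, ht, rfl⟩
        have hn' : b * n * b⁻¹ ∈ N := (Subgroup.normalClosure_normal).conj_mem n hn b
        have h2 := (Subgroup.mem_normalizer_iff.mp (hNT' hn') t).mp ht
        refine ⟨b * n * b⁻¹ * t * (b * n * b⁻¹)⁻¹, h2, ?_⟩
        simp only [MulEquiv.coe_toMonoidHom, MulAut.conj_apply]
        group
    have h3 := h1 hh
    rw [mem_map_conj] at h3
    simpa using h3
  have hcne : T'.normalCore ≠ ⊥ := by
    intro h
    apply hH
    rw [eq_bot_iff, ← h]; exact hcore
  have hle : N ≤ T' :=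
    (tri_le_normal H hmin _ (Subgroup.normalCore_normal T') hcne).trans (Subgroup.normalCore_le T')
  rw [eq_top_iff]
  intro x _
  obtain ⟨t, ht, htx⟩ := hle x.2
  have : t = x := Subtype.ext htx
  rw [← this]; exact ht

end tri

section aut

variable {F : Type*} [Group F] [Finite F]

theorem conjNormal_ker (N : Subgroup F) [N.Normal] :
    (MulAut.conjNormal (H := N)).ker = Subgroup.centralizer (N : Set F) := by
  ext g
  rw [MonoidHom.mem_ker, Subgroup.mem_centralizer_iff]
  constructor
  · intro h n hn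
    have h1 := congrArg (fun f : MulAut ↥N => ((f ⟨n, hn⟩ : ↥N) : F)) h
    simp only [MulAut.conjNormal_apply, MulAut.one_apply] at h1
    calc n * g = (g * n * g⁻¹) * g := by rw [h1]
      _ = g * n := by group
  · intro h
    ext n
    rw [MulAut.conjNormal_apply, MulAut.one_apply]
    have := h n n.2
    calc g * (n : F) * g⁻¹ = ((n : F) * g) * g⁻¹ := by rw [this]
      _ = n := by group

theorem prime_card_of_simple_of_le_centralizer (N : Subgroup F) (hs : IsSimpleGroup ↥N)
    (hNC : N ≤ Subgroup.centralizer (N : Set F)) : (Nat.card ↥N).Prime := by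
  letI : CommGroup ↥N :=
    { (inferInstance : Group ↥N) with
      mul_comm := fun a b => Subtype.ext
        ((Subgroup.mem_centralizer_iff.mp (hNC b.2) a a.2)) }
  exact IsSimpleGroup.prime_card

theorem isCyclic_mulAut_of_prime_card (N : Type*) [Group N] [Finite N] (hp : (Nat.card N).Prime) :
    IsCyclic (MulAut N) ∧ Nat.card (MulAut N) = Nat.card N - 1 := by
  haveI : Fact (Nat.card N).Prime := ⟨hp⟩
  haveI : IsCyclic N := isCyclic_of_prime_card rfl
  refine ⟨?_, ?_⟩
  · exact isCyclic_of_surjective (IsCyclic.mulAutMulEquiv N).symm (IsCyclic.mulAutMulEquiv N).symm.surjective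
  · rw [IsCyclic.card_mulAut, Nat.totient_prime hp]

end aut

section main

variable {F : Type*} [Group F] [Finite F] (H : Subgroup F) (hH : H ≠ ⊥)
  (hmin : ∀ R : Subgroup F, R ≠ ⊥ → H ≤ Subgroup.normalizer (R : Set F) → H ≤ R)

include hH hmin in
theorem tri_main : ∃ N : Subgroup F, N.Normal ∧ N ≠ ⊥ ∧ (∀ M : Subgroup F, M.Normal → M ≠ ⊥ → N ≤ M) ∧
    IsSimpleGroup ↥N ∧
      (Subgroup.centralizer (N : Set F) = ⊥ ∨
       (H = N ∧ (Nat.card N).Prime ∧ IsCyclic ↥(Subgroup.centralizer (N : Set F)) ∧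
          (∃ k : ℕ, 1 ≤ k ∧ Nat.card ↥(Subgroup.centralizer (N : Set F)) = Nat.card N ^ k) ∧
          (∃ g : F, Subgroup.centralizer (N : Set F) ⊔ Subgroup.zpowers g = ⊤) ∧
          (Subgroup.centralizer (N : Set F)).index ∣ Nat.card N - 1) ∨
       (H = N ∧ Nat.card N = 2 ∧ Subgroup.centralizer (N : Set F) = ⊤ ∧
          ∃ k : ℕ, 1 ≤ k ∧ Nonempty (F ≃* QuaternionGroup (2 ^ k)))) := by
  set N := Subgroup.normalClosure (H : Set F) with hN
  haveI hNn : N.Normal := Subgroup.normalClosure_normal
  have hHN : H ≤ N := Subgroup.le_normalClosure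
  have hNne : N ≠ ⊥ := tri_normalClosure_ne_bot H hH
  have hsimple : IsSimpleGroup ↥N := tri_simple H hH hmin
  refine ⟨N, hNn, hNne, tri_le_normal H hmin, hsimple, ?_⟩
  by_cases hC : Subgroup.centralizer (N : Set F) = ⊥
  · exact Or.inl hC
  right
  set C := Subgroup.centralizer (N : Set F) with hCdef
  haveI hCn : C.Normal := Subgroup.normal_centralizer
  have hNC : N ≤ C := tri_le_normal H hmin C hCn hC
  have hprime : (Nat.card ↥N).Prime := prime_card_of_simple_of_le_centralizer N hsimple hNC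
  haveI : Fact (Nat.card ↥N).Prime := ⟨hprime⟩
  -- `H = N`
  have hHeq : H = N := by
    rcases Subgroup.eq_bot_or_eq_top_of_prime_card (H.subgroupOf N) with h | h
    · exfalso
      apply hH
      rw [eq_bot_iff]
      intro x hx
      have : (⟨x, hHN hx⟩ : ↥N) ∈ H.subgroupOf N := Subgroup.mem_subgroupOf.mpr hx
      rw [h, Subgroup.mem_bot] at this
      exact congrArg Subtype.val this
    · rw [Subgroup.subgroupOf_eq_top] at h
      exact le_antisymm hHN h
  -- every nontrivial subgroup of `C` contains `N`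
  have hsub : ∀ R : Subgroup F, R ≤ C → R ≠ ⊥ → N ≤ R := by
    intro R hRC hR
    rw [← hHeq]
    apply hmin R hR
    rw [hHeq]
    intro n hn
    apply mem_normalizer_of_conj_mem
    intro r hr
    have := Subgroup.mem_centralizer_iff.mp (hRC hr) n hn
    have e : n * r * n⁻¹ = r := by rw [this]; group
    rw [e]; exact hr
  -- `C` is a `p`-group
  have hCp : IsPGroup (Nat.card ↥N) ↥C := by
    apply isPGroup_of_coprime_trivial
    intro c hc hcop
    by_contra hc1
    have h1 : N ≤ Subgroup.zpowers c :=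
      hsub _ ((Subgroup.zpowers_le).mpr hc) (by rwa [Ne, Subgroup.zpowers_eq_bot])
    have h2 : Nat.card ↥N ∣ orderOf c := by
      rw [← Nat.card_zpowers]; exact Subgroup.card_dvd_of_le h1
    have h3 := Nat.eq_one_of_dvd_coprimes hcop h2 dvd_rfl
    exact hprime.one_lt.ne' h3
  -- unique subgroup of order `p`
  have huniq : ∀ A B : Subgroup ↥C, Nat.card ↥A = Nat.card ↥N → Nat.card ↥B = Nat.card ↥N → A = B := by
    have key : ∀ A : Subgroup ↥C, Nat.card ↥A = Nat.card ↥N → A.map C.subtype = N := by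
      intro A hA
      have hAne : A.map C.subtype ≠ ⊥ := by
        intro h
        rw [Subgroup.map_eq_bot_iff_of_injective _ C.subtype_injective] at h
        rw [h, Subgroup.card_bot] at hA
        exact hprime.one_lt.ne hA
      have h1 := hsub _ (Subgroup.map_subtype_le A) hAne
      symm
      apply Subgroup.eq_of_le_of_card_ge h1
      rw [Subgroup.card_map_of_injective C.subtype_injective, hA]
    intro A B hA hB
    apply Subgroup.map_injective C.subtype_injective
    rw [key A hA, key B hB]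
  have hmain := Cfsg.Agent.H2.UOP.main (G := ↥C) (Nat.card ↥N) hCp huniq
  -- the action on `N`
  obtain ⟨hautcyc, hautcard⟩ := isCyclic_mulAut_of_prime_card ↥N hprime
  have hker : (MulAut.conjNormal (H := N)).ker = C := conjNormal_ker N
  have hindex : C.index ∣ Nat.card ↥N - 1 := by
    rw [← hker, Subgroup.index_ker, ← hautcard]
    exact Subgroup.card_subgroup_dvd_card _
  have hgen : ∃ g : F, C ⊔ Subgroup.zpowers g = ⊤ := by
    haveI := hautcyc
    obtain ⟨⟨a, ha⟩, hagen⟩ := IsCyclic.exists_generator (α := ↥(MulAut.conjNormal (H := N)).range)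
    obtain ⟨g, rfl⟩ := ha
    refine ⟨g, ?_⟩
    rw [eq_top_iff]
    intro f _
    have hf : (⟨MulAut.conjNormal f, f, rfl⟩ : ↥(MulAut.conjNormal (H := N)).range) ∈
        Subgroup.zpowers (⟨MulAut.conjNormal g, g, rfl⟩ : ↥(MulAut.conjNormal (H := N)).range) := hagen _
    obtain ⟨k, hk⟩ := hf
    have hk' : (MulAut.conjNormal (H := N)) g ^ k = MulAut.conjNormal f := by
      have := congrArg Subtype.val hk
      simpa using this
    have hmem : f * (g ^ k)⁻¹ ∈ C := by
      rw [← hker, MonoidHom.mem_ker, map_mul, map_inv, map_zpow, hk', mul_inv_cancel]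
    have e : f = (f * (g ^ k)⁻¹) * g ^ k := by group
    rw [e]
    exact Subgroup.mul_mem_sup hmem (Subgroup.zpow_mem_zpowers g k)
  have hcardC : ∃ k : ℕ, 1 ≤ k ∧ Nat.card ↥C = Nat.card ↥N ^ k := by
    obtain ⟨k, hk⟩ := hCp.exists_card_eq
    refine ⟨k, ?_, hk⟩
    by_contra hk0
    have : k = 0 := by omega
    rw [this, pow_zero] at hk
    exact hC (Subgroup.card_eq_one.mp hk)
  rcases hmain with hcyc | ⟨hp2, n, ⟨e⟩⟩
  · exact Or.inl ⟨hHeq, hprime, hcyc, hcardC, hgen, hindex⟩
  · rcases Nat.eq_zero_or_pos n with hn | hn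
    · left
      refine ⟨hHeq, hprime, ?_, hcardC, hgen, hindex⟩
      rw [hn, pow_zero] at e
      haveI := QuaternionGroup.quaternionGroup_one_isCyclic
      exact isCyclic_of_surjective e.symm e.symm.surjective
    · right
      have hCtop : C = ⊤ := by
        rw [hp2] at hindex
        exact Subgroup.index_eq_one.mp (Nat.dvd_one.mp hindex)
      refine ⟨hHeq, hp2, hCtop, n, hn, ⟨?_⟩⟩
      exact (Subgroup.topEquiv.symm.trans (MulEquiv.subgroupCongr hCtop.symm)).trans e

end main

end Cfsg.Agent.Lib.Helper7
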