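import Mathlib
import Cfsg.Prelude.Def_FusionSystem
import Cfsg.Agent.Lib.Helper7.Core

set_option autoImplicit false

namespace Cfsg.Agent.Lib.Helper7

open Cfsg

/-- A 1-cocycle `f : G → W` (`W` abelian, `f (g h) = f g * g • f h`) vanishing on a subgroup `T` whose index
is invertible on `W` is a coboundary. -/
theorem cocycle_coboundary {G W : Type*} [Group G] [Finite G] [CommGroup W] (φ : G →* MulAut W)
    (T : Subgroup G) (f : G → W) (hf : ∀ g h, f (g * h) = f g * φ g (f h))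
    (hT : ∀ t ∈ T, f t = 1) (n : ℕ) (hn : ∀ w : W, w ^ (T.index * n) = w) :
    ∃ u : W, ∀ g, f g = u * (φ g u)⁻¹ := by
  classical
  haveI : Fintype (G ⧸ T) := Fintype.ofFinite _
  have hf1 : f 1 = 1 := hT 1 T.one_mem
  have hconst : ∀ (x : G) (t : G), t ∈ T → f (x * t) = f x := by
    intro x t ht
    rw [hf, hT t ht, map_one, mul_one]
  have hout : ∀ (g : G) (c : G ⧸ T), f (g * c.out) = f ((g • c).out) := by
    intro g c
    have h1 : ((g • c).out : G ⧸ T) = ((g * c.out : G) : G ⧸ T) := by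
      rw [QuotientGroup.out_eq']
      conv_lhs => rw [← QuotientGroup.out_eq' c]
      rfl
    have h2 : ((g • c).out)⁻¹ * (g * c.out) ∈ T := QuotientGroup.eq.mp h1
    have h3 : g * c.out = (g • c).out * (((g • c).out)⁻¹ * (g * c.out)) := by group
    rw [h3, hconst _ _ h2]
  set w : W := ∏ c : G ⧸ T, f c.out with hw
  have hcard : Fintype.card (G ⧸ T) = T.index := by
    rw [Subgroup.index, Nat.card_eq_fintype_card]
  have key : ∀ g : G, φ g w = (f g)⁻¹ ^ T.index * w := by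
    intro g
    rw [hw, map_prod]
    have h1 : ∀ c : G ⧸ T, φ g (f c.out) = (f g)⁻¹ * f ((g • c).out) := by
      intro c
      rw [← hout, hf]
      simp
    simp_rw [h1]
    rw [Finset.prod_mul_distrib, Finset.prod_const, Finset.card_univ, hcard]
    congr 1
    exact Fintype.prod_equiv (MulAction.toPerm g) _ _ (fun c => rfl)
  refine ⟨w ^ n, fun g => ?_⟩
  have h2 : f g ^ T.index = w * (φ g w)⁻¹ := by
    rw [key g, inv_pow]
    simp
  calc f g = f g ^ (T.index * n) := (hn _).symm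
    _ = (f g ^ T.index) ^ n := pow_mul _ _ _
    _ = (w * (φ g w)⁻¹) ^ n := by rw [h2]
    _ = w ^ n * (φ g (w ^ n))⁻¹ := by rw [mul_pow, inv_pow, map_pow]

/-- An automorphism of a finite group `G` with `C_G(O_p(G)) ≤ O_p(G)` fixing a Sylow `p`-subgroup `T`
pointwise is conjugation by an element of `Z(T)`. -/
theorem aut_eq_conj_of_fix_sylow {G : Type*} [Group G] [Finite G] (p : ℕ) [Fact p.Prime]
    (T : Sylow p G)
    (hcen : Subgroup.centralizer ((pCore p G : Subgroup G) : Set G) ≤ pCore p G)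
    (ψ : G ≃* G) (hψ : ∀ t ∈ (T : Subgroup G), ψ t = t) :
    ∃ u ∈ (T : Subgroup G), ∀ g : G, ψ g = u * g * u⁻¹ := by
  have hp := (Fact.out : p.Prime)
  have hQT : pCore p G ≤ (T : Subgroup G) := pCore_le_sylow T
  haveI hQn : (pCore p G).Normal := pCore_normal p G
  -- Z = C_G(Q), a normal abelian p-subgroup
  have hZQ := hcen
  have hZp : IsPGroup p (Subgroup.centralizer ((pCore p G : Subgroup G) : Set G)) :=
    (pCore_isPGroup p G).to_le hZQ
  letI : CommGroup ↥(Subgroup.centralizer ((pCore p G : Subgroup G) : Set G)) :=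
    { (inferInstance : Group ↥(Subgroup.centralizer ((pCore p G : Subgroup G) : Set G))) with
      mul_comm := fun a b => Subtype.ext
        ((Subgroup.mem_centralizer_iff.mp a.2 b (hZQ b.2)).symm) }
  -- the cocycle
  have hfmem : ∀ g : G, ψ g * g⁻¹ ∈ Subgroup.centralizer ((pCore p G : Subgroup G) : Set G) := by
    intro g
    rw [Subgroup.mem_centralizer_iff]
    intro x hx
    have hx' : g⁻¹ * x * g ∈ pCore p G := by
      have := hQn.conj_mem x hx g⁻¹
      simpa using this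
    have h1 : ψ (g⁻¹ * x * g) = g⁻¹ * x * g := hψ _ (hQT hx')
    have h2 : ψ x = x := hψ _ (hQT hx)
    have h3 : ψ g * (g⁻¹ * x * g) * (ψ g)⁻¹ = x := by
      rw [← h1, ← map_mul, ← map_inv, ← map_mul]
      rw [show g * (g⁻¹ * x * g) * g⁻¹ = x by group, h2]
    calc x * (ψ g * g⁻¹) = (ψ g * (g⁻¹ * x * g) * (ψ g)⁻¹) * (ψ g * g⁻¹) := by rw [h3]
      _ = ψ g * g⁻¹ * x := by group
  obtain ⟨k, hk⟩ := IsPGroup.iff_card.mp hZp
  have hidx : Nat.Coprime (T : Subgroup G).index (p ^ k) := by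
    apply Nat.Coprime.pow_right
    rw [Nat.coprime_comm, Nat.Prime.coprime_iff_not_dvd hp]
    exact T.not_dvd_index
  obtain ⟨n, hn⟩ : ∃ n : ℕ, ∀ w : ↥(Subgroup.centralizer ((pCore p G : Subgroup G) : Set G)),
      w ^ ((T : Subgroup G).index * n) = w := by
    by_cases hk1 : p ^ k = 1
    · refine ⟨0, fun w => ?_⟩
      have : Subsingleton ↥(Subgroup.centralizer ((pCore p G : Subgroup G) : Set G)) := by
        rw [← Finite.card_le_one_iff_subsingleton, hk, hk1]
      exact Subsingleton.elim _ _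
    · have hgt : 1 < p ^ k := by
        have := pow_pos hp.pos k
        omega
      obtain ⟨m, -, hm⟩ := Nat.exists_mul_mod_eq_one_of_coprime hidx hgt
      refine ⟨m, fun w => ?_⟩
      have hw : w ^ (p ^ k) = 1 := by rw [← hk]; exact pow_card_eq_one'
      rw [← Nat.mod_add_div ((T : Subgroup G).index * m) (p ^ k), hm, pow_add, pow_one, pow_mul, hw,
        one_pow, mul_one]
  obtain ⟨u, hu⟩ := cocycle_coboundary
    (MulAut.conjNormal (H := Subgroup.centralizer ((pCore p G : Subgroup G) : Set G)))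
    (T : Subgroup G) (fun g => ⟨ψ g * g⁻¹, hfmem g⟩)
    (by
      intro g h
      apply Subtype.ext
      show ψ (g * h) * (g * h)⁻¹ = ψ g * g⁻¹ * (g * (ψ h * h⁻¹) * g⁻¹)
      rw [map_mul]
      group)
    (by
      intro t ht
      apply Subtype.ext
      show ψ t * t⁻¹ = 1
      rw [hψ t ht, mul_inv_cancel])
    n hn
  refine ⟨u, hQT (hZQ u.2), fun g => ?_⟩
  have := congrArg Subtype.val (hu g)
  have h2 : ψ g * g⁻¹ = u * (g * u * g⁻¹)⁻¹ := this
  calc ψ g = (ψ g * g⁻¹) * g := by group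
    _ = u * (g * u * g⁻¹)⁻¹ * g := by rw [h2]
    _ = u * g * (u : G)⁻¹ := by group

theorem model_aut_identity {Ω : Type*} [Group Ω] {S : Subgroup Ω} (p : ℕ) [Fact p.Prime]
    (F : FusionSystem S) {G : Type*} [Group G] (ι : S →* G) (hG : F.IsModel p G ι) (ψ : G ≃* G)
    (hψ : ∀ x : S, ψ (ι x) = ι x) :
    ∃ z : S, z ∈ Subgroup.center S ∧ ∀ g : G, ψ g = ι z * g * (ι z)⁻¹ := by
  obtain ⟨hfin, ⟨hinj, -⟩, ⟨T, hT⟩, hcen⟩ := hG
  haveI := hfin
  obtain ⟨u, huT, hu⟩ := aut_eq_conj_of_fix_sylow p T hcen ψ (by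
    intro t ht
    rw [hT] at ht
    obtain ⟨x, rfl⟩ := ht
    exact hψ x)
  rw [hT] at huT
  obtain ⟨z, rfl⟩ := huT
  refine ⟨z, ?_, hu⟩
  rw [Subgroup.mem_center_iff]
  intro s
  apply hinj
  rw [map_mul, map_mul]
  have h1 := hu (ι s)
  rw [hψ s] at h1
  calc ι s * ι z = (ι z * ι s * (ι z)⁻¹) * ι z := by rw [← h1]
    _ = ι z * ι s := by group

end Cfsg.Agent.Lib.Helper7
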