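import Mathlib

set_option autoImplicit false

/-!
# Semidirect products `V ⋊ K` of an additive group by a group acting through additive
endomorphisms: power lemmas (helper7, for S2515)
-/

namespace Cfsg.Agent.Lib.Helper7.Mu3

section generic

variable {K V : Type*} [Group K] [AddCommGroup V]

theorem end_mul_apply (f g : AddMonoid.End V) (x : V) : (f * g) x = f (g x) := rfl

theorem end_one_apply (x : V) : (1 : AddMonoid.End V) x = x := rfl

theorem act_inv_act (a : K →* AddMonoid.End V) (k : K) (x : V) : a k⁻¹ (a k x) = x := by
  rw [← end_mul_apply, ← map_mul, inv_mul_cancel, map_one, end_one_apply]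

theorem act_act_inv (a : K →* AddMonoid.End V) (k : K) (x : V) : a k (a k⁻¹ x) = x := by
  rw [← end_mul_apply, ← map_mul, mul_inv_cancel, map_one, end_one_apply]

/-- automorphisms of `Multiplicative V` from an action by additive endomorphisms -/
def autOfEnd (a : K →* AddMonoid.End V) : K →* MulAut (Multiplicative V) where
  toFun k :=
    { toFun := fun x => Multiplicative.ofAdd (a k (Multiplicative.toAdd x))
      invFun := fun x => Multiplicative.ofAdd (a k⁻¹ (Multiplicative.toAdd x))
      left_inv := fun x => by
        change Multiplicative.ofAdd (a k⁻¹ (a k (Multiplicative.toAdd x))) = x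
        rw [act_inv_act]
        rfl
      right_inv := fun x => by
        change Multiplicative.ofAdd (a k (a k⁻¹ (Multiplicative.toAdd x))) = x
        rw [act_act_inv]
        rfl
      map_mul' := fun x y => by
        change Multiplicative.ofAdd (a k (Multiplicative.toAdd x + Multiplicative.toAdd y)) =
          Multiplicative.ofAdd (a k (Multiplicative.toAdd x) + a k (Multiplicative.toAdd y))
        rw [map_add] }
  map_one' := by
    ext x
    change Multiplicative.ofAdd (a 1 (Multiplicative.toAdd x)) = x
    rw [map_one, end_one_apply]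
    rfl
  map_mul' := fun k l => by
    ext x
    change Multiplicative.ofAdd (a (k * l) (Multiplicative.toAdd x)) =
      Multiplicative.ofAdd (a k (a l (Multiplicative.toAdd x)))
    rw [map_mul, end_mul_apply]

theorem autOfEnd_apply (a : K →* AddMonoid.End V) (k : K) (x : Multiplicative V) :
    autOfEnd a k x = Multiplicative.ofAdd (a k (Multiplicative.toAdd x)) := rfl

/-- the semidirect product -/
abbrev SD (a : K →* AddMonoid.End V) := Multiplicative V ⋊[autOfEnd a] K

variable (a : K →* AddMonoid.End V)

/-- the kernel of the projection has exponent 3 when `V` has -/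
theorem pow_three_of_right_eq_one (h3 : ∀ x : V, (3 : ℕ) • x = 0) (h : SD a)
    (hr : h.right = 1) : h ^ 3 = 1 := by
  have e : h = SemidirectProduct.inl h.left := by
    ext
    · simp
    · simp [hr]
  rw [e, ← map_pow]
  have : h.left ^ 3 = 1 := by
    apply Multiplicative.toAdd.injective
    rw [toAdd_pow, h3, toAdd_one]
  rw [this, map_one]

theorem right_pow (h : SD a) (n : ℕ) : (h ^ n).right = h.right ^ n := by
  have := map_pow (SemidirectProduct.rightHom : SD a →* K) h n
  simpa [SemidirectProduct.rightHom] using this

theorem pow_mul_three (h3 : ∀ x : V, (3 : ℕ) • x = 0) (h : SD a) (M : ℕ)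
    (hM : h.right ^ M = 1) : h ^ (M * 3) = 1 := by
  rw [pow_mul]
  apply pow_three_of_right_eq_one a h3
  rw [right_pow, hM]

/-- an element whose right component acts without fixed points has the order of that
component -/
theorem pow_eq_one_of_fpf [Finite V] (v : Multiplicative V) (k : K) (M : ℕ) (hk : k ^ M = 1)
    (hfp : ∀ x : V, a k x = x → x = 0) : (⟨v, k⟩ : SD a) ^ M = 1 := by
  have hinj : Function.Injective (fun x : V => x - a k x) := by
    intro x y hxy
    have h1 : a k (x - y) = x - y := by
      rw [map_sub]
      have : x - a k x = y - a k y := hxy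
      have e : a k x - a k y = (x - y) - ((x - a k x) - (y - a k y)) := by abel
      rw [e, this, sub_self, sub_zero]
    exact sub_eq_zero.1 (hfp _ h1)
  obtain ⟨w, hw⟩ := (Finite.injective_iff_surjective.1 hinj) (Multiplicative.toAdd v)
  have hw' : w - a k w = Multiplicative.toAdd v := hw
  have e : (⟨v, k⟩ : SD a) = SemidirectProduct.inl (Multiplicative.ofAdd w) *
      SemidirectProduct.inr k * (SemidirectProduct.inl (Multiplicative.ofAdd w))⁻¹ := by
    ext
    · simp only [SemidirectProduct.mul_left, SemidirectProduct.left_inl,
        SemidirectProduct.right_inl, SemidirectProduct.left_inr, SemidirectProduct.mul_right,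
        SemidirectProduct.right_inr, SemidirectProduct.inv_left,
        map_one, mul_one, one_mul, inv_one, MulAut.one_apply]
      apply Multiplicative.toAdd.injective
      rw [toAdd_mul, autOfEnd_apply, toAdd_ofAdd, toAdd_inv, toAdd_ofAdd, toAdd_ofAdd, map_neg,
        ← hw']
      exact sub_eq_add_neg _ _
    · simp
  rw [e, conj_pow, ← map_pow, hk, map_one, mul_one, mul_inv_cancel]

/-- if the cube of the right component is a central involution acting as `-1`, the sixth power
is trivial -/
theorem pow_six_of_neg (v : Multiplicative V) (k z : K) (hz : ∀ x : V, a z x = -x)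
    (hz2 : z * z = 1) (hk : k ^ 3 = z) : (⟨v, k⟩ : SD a) ^ 6 = 1 := by
  have h6 : (⟨v, k⟩ : SD a) ^ 6 = ((⟨v, k⟩ : SD a) ^ 3) * ((⟨v, k⟩ : SD a) ^ 3) := by
    rw [← pow_add]
  rw [h6]
  have hr : ((⟨v, k⟩ : SD a) ^ 3).right = z := by
    rw [right_pow]
    exact hk
  ext
  · rw [SemidirectProduct.mul_left, hr, SemidirectProduct.one_left]
    apply Multiplicative.toAdd.injective
    rw [toAdd_mul, autOfEnd_apply, toAdd_ofAdd, hz, toAdd_one, add_neg_cancel]
  · rw [SemidirectProduct.mul_right, hr, hz2, SemidirectProduct.one_right]

/-- the left component of a cube -/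
theorem left_pow_three (v : Multiplicative V) (k : K) :
    Multiplicative.toAdd (((⟨v, k⟩ : SD a) ^ 3).left)
      = Multiplicative.toAdd v + a k (Multiplicative.toAdd v)
        + a k (a k (Multiplicative.toAdd v)) := by
  rw [pow_three, SemidirectProduct.mul_left, SemidirectProduct.mul_left, toAdd_mul,
    autOfEnd_apply, toAdd_ofAdd, toAdd_mul, autOfEnd_apply, toAdd_ofAdd, map_add, add_assoc]

theorem orderOf_inr (k : K) : orderOf (SemidirectProduct.inr k : SD a) = orderOf k :=
  orderOf_injective (SemidirectProduct.inr : K →* SD a) SemidirectProduct.inr_injective k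

end generic

end Cfsg.Agent.Lib.Helper7.Mu3
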