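import Mathlib
import Cfsg.Agent.H9.PSL2Spec
import Cfsg.Agent.Lib.Helper7.Mu3A

set_option autoImplicit false
set_option linter.unusedSectionVars false

/-!
# The module `M₂(F) = L(1) ⊗ L(1)^(3)` for `ℤˣ × PSL₂(F)` in characteristic 3
(helper7, for S2515)
-/

namespace Cfsg.Agent.Lib.Helper7.Mu3

open scoped Matrix


section concrete

variable {F : Type*} [Field F] [CharP F 3]

/-- Frobenius twist, transposed -/
noncomputable def tw (g : Matrix (Fin 2) (Fin 2) F) : Matrix (Fin 2) (Fin 2) F :=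
  ((frobenius F 3).mapMatrix g)ᵀ

theorem tw_apply (g : Matrix (Fin 2) (Fin 2) F) (i j : Fin 2) : tw g i j = (g j i) ^ 3 := by
  simp [tw, frobenius_def]

theorem tw_mul (g h : Matrix (Fin 2) (Fin 2) F) : tw (g * h) = tw h * tw g := by
  unfold tw
  rw [map_mul, Matrix.transpose_mul]

theorem tw_one : tw (1 : Matrix (Fin 2) (Fin 2) F) = 1 := by
  unfold tw
  rw [map_one, Matrix.transpose_one]

theorem tw_det (g : Matrix (Fin 2) (Fin 2) F) : (tw g).det = g.det ^ 3 := by
  unfold tw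
  rw [Matrix.det_transpose, ← RingHom.map_det, frobenius_def]

theorem tw_trace (g : Matrix (Fin 2) (Fin 2) F) : (tw g).trace = g.trace ^ 3 := by
  rw [Matrix.trace_fin_two, Matrix.trace_fin_two, tw_apply, tw_apply, ← frobenius_def,
    ← frobenius_def, ← frobenius_def, map_add]

theorem tw_smul (r : F) (g : Matrix (Fin 2) (Fin 2) F) : tw (r • g) = r ^ 3 • tw g := by
  ext i j
  simp [tw_apply, mul_pow]

/-- the action of `SL₂(F)` on `M₂(F)` -/
noncomputable def rhoFun (g : Matrix.SpecialLinearGroup (Fin 2) F) :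
    Matrix (Fin 2) (Fin 2) F →+ Matrix (Fin 2) (Fin 2) F :=
  { toFun := fun X => (g : Matrix (Fin 2) (Fin 2) F) * X * tw (g : Matrix (Fin 2) (Fin 2) F)
    map_zero' := by simp
    map_add' := fun X Y => by simp [mul_add, add_mul] }

theorem rhoFun_apply (g : Matrix.SpecialLinearGroup (Fin 2) F) (X : Matrix (Fin 2) (Fin 2) F) :
    rhoFun g X = (g : Matrix (Fin 2) (Fin 2) F) * X * tw (g : Matrix (Fin 2) (Fin 2) F) := rfl

noncomputable def rhoHom :
    Matrix.SpecialLinearGroup (Fin 2) F →* AddMonoid.End (Matrix (Fin 2) (Fin 2) F) where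
  toFun := fun g => (rhoFun g : AddMonoid.End (Matrix (Fin 2) (Fin 2) F))
  map_one' := DFunLike.ext _ _ fun X => by
    change rhoFun 1 X = X
    rw [rhoFun_apply, Matrix.SpecialLinearGroup.coe_one, tw_one, one_mul, mul_one]
  map_mul' g h := DFunLike.ext _ _ fun X => by
    change rhoFun (g * h) X = rhoFun g (rhoFun h X)
    rw [rhoFun_apply, rhoFun_apply, rhoFun_apply, Matrix.SpecialLinearGroup.coe_mul, tw_mul]
    simp only [mul_assoc]

theorem rhoHom_apply (g : Matrix.SpecialLinearGroup (Fin 2) F) (X : Matrix (Fin 2) (Fin 2) F) :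
    rhoHom g X = (g : Matrix (Fin 2) (Fin 2) F) * X * tw (g : Matrix (Fin 2) (Fin 2) F) := rfl

theorem rhoHom_center (A : Matrix.SpecialLinearGroup (Fin 2) F)
    (hA : A ∈ Subgroup.center (Matrix.SpecialLinearGroup (Fin 2) F)) : rhoHom A = 1 := by
  rw [Matrix.SpecialLinearGroup.mem_center_iff] at hA
  obtain ⟨r, hr, hA⟩ := hA
  rw [Fintype.card_fin] at hr
  have hs : (A : Matrix (Fin 2) (Fin 2) F) = r • (1 : Matrix (Fin 2) (Fin 2) F) := by
    rw [← hA]
    ext i j
    simp [Matrix.scalar_apply, Matrix.diagonal_apply, Matrix.one_apply]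
  apply DFunLike.ext
  intro X
  rw [rhoHom_apply, hs, tw_smul, tw_one, smul_mul_assoc, one_mul, mul_smul_comm, mul_one,
    smul_smul, end_one_apply]
  have : r ^ 3 * r = 1 := by
    have : r ^ 3 * r = (r ^ 2) ^ 2 := by ring
    rw [this, hr, one_pow]
  rw [this, one_smul]

/-- the action of `PSL₂(F)` -/
noncomputable def rhoBar :
    Matrix.ProjectiveSpecialLinearGroup (Fin 2) F →* AddMonoid.End (Matrix (Fin 2) (Fin 2) F) :=
  QuotientGroup.lift (Subgroup.center (Matrix.SpecialLinearGroup (Fin 2) F)) rhoHom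
    (fun A hA => MonoidHom.mem_ker.2 (rhoHom_center A hA))

theorem rhoBar_mk (g : Matrix.SpecialLinearGroup (Fin 2) F) (X : Matrix (Fin 2) (Fin 2) F) :
    rhoBar (QuotientGroup.mk g : Matrix.ProjectiveSpecialLinearGroup (Fin 2) F) X
      = (g : Matrix (Fin 2) (Fin 2) F) * X * tw (g : Matrix (Fin 2) (Fin 2) F) := rfl

/-- the sign action -/
noncomputable def sgnHom : ℤˣ →* AddMonoid.End (Matrix (Fin 2) (Fin 2) F) :=
  DistribMulAction.toAddMonoidEnd ℤˣ (Matrix (Fin 2) (Fin 2) F)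

theorem sgnHom_apply (ε : ℤˣ) (X : Matrix (Fin 2) (Fin 2) F) :
    sgnHom ε X = (((ε : ℤ) : F)) • X := by
  change ε • X = _
  rw [Units.smul_def, ← Int.cast_smul_eq_zsmul F]

/-- the action of `ℤˣ × PSL₂(F)` -/
noncomputable def actHom : ℤˣ × Matrix.ProjectiveSpecialLinearGroup (Fin 2) F →*
    AddMonoid.End (Matrix (Fin 2) (Fin 2) F) :=
  MonoidHom.noncommCoprod sgnHom rhoBar (fun ε g => by
    apply DFunLike.ext
    intro X
    change sgnHom ε (rhoBar g X) = rhoBar g (sgnHom ε X)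
    rw [sgnHom_apply, sgnHom_apply, Int.cast_smul_eq_zsmul, Int.cast_smul_eq_zsmul]
    exact (map_zsmul (rhoBar g) _ _).symm)

theorem actHom_mk (ε : ℤˣ) (g : Matrix.SpecialLinearGroup (Fin 2) F) (X : Matrix (Fin 2) (Fin 2) F) :
    actHom (ε, (QuotientGroup.mk g : Matrix.ProjectiveSpecialLinearGroup (Fin 2) F)) X
      = (((ε : ℤ) : F)) •
        ((g : Matrix (Fin 2) (Fin 2) F) * X * tw (g : Matrix (Fin 2) (Fin 2) F)) := by
  change sgnHom ε (rhoBar (QuotientGroup.mk g) X) = _
  rw [sgnHom_apply, rhoBar_mk]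

/-- `2 × 2` matrices of determinant one: the adjugate is the inverse and `A + adj A = tr A` -/
theorem adj_two (A : Matrix (Fin 2) (Fin 2) F) (hA : A.det = 1) :
    A * A.adjugate = 1 ∧ A.adjugate * A = 1 ∧ A + A.adjugate = A.trace • 1 := by
  refine ⟨by rw [Matrix.mul_adjugate, hA, one_smul], by rw [Matrix.adjugate_mul, hA, one_smul], ?_⟩
  rw [Matrix.adjugate_fin_two, Matrix.trace_fin_two]
  ext i j
  fin_cases i <;> fin_cases j <;> simp [add_comm]

/-- a non-zero fixed point forces `t³ = ε t` -/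
theorem trace_of_fixed (G : Matrix (Fin 2) (Fin 2) F) (hG : G.det = 1) (e : F) (he : e * e = 1)
    (X : Matrix (Fin 2) (Fin 2) F) (hX : X ≠ 0) (h : e • (G * X * tw G) = X) :
    G.trace ^ 3 = G.trace * e := by
  set P := tw G with hP
  have hPdet : P.det = 1 := by rw [hP, tw_det, hG, one_pow]
  obtain ⟨hPQ, hQP, hsum⟩ := adj_two P hPdet
  obtain ⟨hGQ, -, hGsum⟩ := adj_two G hG
  set Q := P.adjugate with hQ
  set t := G.trace with ht
  have htr : P.trace = t ^ 3 := by rw [hP, tw_trace]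
  have hCH : G * G = t • G - 1 := by
    have : G.adjugate = t • 1 - G := by rw [← hGsum]; abel
    rw [this, mul_sub, mul_smul_comm, mul_one] at hGQ
    rw [← hGQ]
    abel
  set Y := X * Q with hY
  have h1 : e • (G * X) = Y := by
    calc e • (G * X) = e • (G * X * (P * Q)) := by rw [hPQ, mul_one]
      _ = (e • (G * X * P)) * Q := by rw [smul_mul_assoc]; simp only [mul_assoc]
      _ = X * Q := by rw [h]
  have hGX : G * X = e • Y := by rw [← h1, smul_smul, he, one_smul]
  have hXY : X = Y * P := by rw [hY, mul_assoc, hQP, mul_one]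
  have hGY : G * Y = e • (Y * Q) := by
    rw [hY, ← mul_assoc, hGX, smul_mul_assoc]
  have key1 : G * (G * X) = Y * Q := by
    rw [hGX, mul_smul_comm, hGY, smul_smul, he, one_smul]
  have key2 : G * (G * X) = t • (e • Y) - Y * P := by
    rw [← mul_assoc, hCH, sub_mul, smul_mul_assoc, one_mul, hGX, ← hXY]
  have key3 : Y * (P + Q) = (t * e) • Y := by
    rw [mul_add, ← key1, key2, smul_smul]
    abel
  rw [hsum, htr, mul_smul_comm, mul_one] at key3
  have key4 : (t ^ 3 - t * e) • Y = 0 := by rw [sub_smul, key3, sub_self]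
  rcases smul_eq_zero.1 key4 with h0 | h0
  · exact sub_eq_zero.1 h0
  · exfalso
    apply hX
    rw [hXY, h0, zero_mul]

end concrete

end Cfsg.Agent.Lib.Helper7.Mu3
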