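import Mathlib
import Cfsg.Agent.H9.PSL2Spec
import Cfsg.Agent.Lib.Helper7.Mu3B

set_option autoImplicit false
set_option linter.unusedSectionVars false

/-!
# Element orders of `M₂(F) ⋊ (ℤˣ × PSL₂(F))`, `|F| = 3^α ≡ 3 (mod 8)` (helper7, for S2515)
-/

namespace Cfsg.Agent.Lib.Helper7.Mu3

open Cfsg.Agent.H9.PSL2Spec Polynomial

section orders

variable {F : Type*} [Field F] [CharP F 3]

/-- the group `M₂(F) ⋊ (ℤˣ × PSL₂(F))` -/
abbrev HH (F : Type*) [Field F] [CharP F 3] := SD (actHom (F := F))

theorem three_eq_zero : (3 : F) = 0 := by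
  have := CharP.cast_eq_zero F 3
  exact_mod_cast this

theorem two_ne_zero' : (2 : F) ≠ 0 := by
  intro h
  have h3 := three_eq_zero (F := F)
  have : (1 : F) = 0 := by linear_combination h3 - h
  exact one_ne_zero this

theorem three_smul_eq_zero (X : Matrix (Fin 2) (Fin 2) F) : (3 : ℕ) • X = 0 := by
  ext i j
  rw [Matrix.smul_apply, nsmul_eq_mul, Matrix.zero_apply]
  have : ((3 : ℕ) : F) = 0 := CharP.cast_eq_zero F 3
  rw [this, zero_mul]

theorem actHom_neg (X : Matrix (Fin 2) (Fin 2) F) :
    actHom (F := F) ((-1 : ℤˣ), (1 : Matrix.ProjectiveSpecialLinearGroup (Fin 2) F)) X = -X := by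
  have := actHom_mk (F := F) (-1 : ℤˣ) 1 X
  rw [QuotientGroup.mk_one] at this
  rw [this, Matrix.SpecialLinearGroup.coe_one, tw_one, one_mul, mul_one]
  simp

/-- the cube case -/
theorem pow_of_cube (v : Multiplicative (Matrix (Fin 2) (Fin 2) F)) (ε : ℤˣ)
    (gb : Matrix.ProjectiveSpecialLinearGroup (Fin 2) F) (h3 : gb ^ 3 = 1) :
    (⟨v, (ε, gb)⟩ : HH F) ^ 6 = 1 ∨ (⟨v, (ε, gb)⟩ : HH F) ^ 9 = 1 := by
  rcases Int.units_eq_one_or ε with rfl | rfl
  · right
    have := pow_mul_three (actHom (F := F)) three_smul_eq_zero (⟨v, (1, gb)⟩ : HH F) 3 (by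
      change ((1 : ℤˣ), gb) ^ 3 = 1
      rw [Prod.pow_mk, one_pow, h3]
      rfl)
    exact this
  · left
    apply pow_six_of_neg (actHom (F := F)) v _
      ((-1 : ℤˣ), (1 : Matrix.ProjectiveSpecialLinearGroup (Fin 2) F)) actHom_neg
    · rw [Prod.mk_mul_mk, mul_one]
      rfl
    · rw [Prod.pow_mk, h3]
      rfl

theorem nine_of_one (v : Multiplicative (Matrix (Fin 2) (Fin 2) F))
    (gb : Matrix.ProjectiveSpecialLinearGroup (Fin 2) F) (h3 : gb ^ 3 = 1) :
    (⟨v, (1, gb)⟩ : HH F) ^ 9 = 1 := by
  have := pow_mul_three (actHom (F := F)) three_smul_eq_zero (⟨v, (1, gb)⟩ : HH F) 3 (by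
    change ((1 : ℤˣ), gb) ^ 3 = 1
    rw [Prod.pow_mk, one_pow, h3]
    rfl)
  exact this

variable [Fintype F]

/-- `-1` is not a square when `q ≡ 3 (mod 4)` -/
theorem neg_one_not_sq (hq : Fintype.card F % 4 = 3) (x : F) : x ^ 2 ≠ -1 := by
  intro hx
  have hx0 : x ≠ 0 := by
    rintro rfl
    have : (0 : F) = -1 := by simpa using hx
    have h1 : (1 : F) = 0 := by linear_combination this
    exact one_ne_zero h1
  have h1 := FiniteField.pow_card_sub_one_eq_one x hx0
  obtain ⟨m, hm⟩ : ∃ m, Fintype.card F - 1 = 2 * (2 * m + 1) :=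
    ⟨Fintype.card F / 4, by omega⟩
  rw [hm, pow_mul, hx, pow_succ, pow_mul, neg_one_sq, one_pow, one_mul] at h1
  have h2 : (2 : F) = 0 := by linear_combination -h1
  exact two_ne_zero' h2

/-- the semisimple case -/
theorem pow_of_semisimple (hq : Fintype.card F % 4 = 3)
    (v : Multiplicative (Matrix (Fin 2) (Fin 2) F)) (ε : ℤˣ)
    (g : Matrix.SpecialLinearGroup (Fin 2) F) (M : ℕ)
    (hM : ((ε, (QuotientGroup.mk g : Matrix.ProjectiveSpecialLinearGroup (Fin 2) F)) :
      ℤˣ × Matrix.ProjectiveSpecialLinearGroup (Fin 2) F) ^ M = 1) :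
    (⟨v, (ε, QuotientGroup.mk g)⟩ : HH F) ^ M = 1 ∨
      (⟨v, (ε, QuotientGroup.mk g)⟩ : HH F) ^ 6 = 1 ∨
      (⟨v, (ε, QuotientGroup.mk g)⟩ : HH F) ^ 9 = 1 := by
  by_cases hfp : ∀ X : Matrix (Fin 2) (Fin 2) F,
      actHom (F := F) (ε, QuotientGroup.mk g) X = X → X = 0
  · left
    exact pow_eq_one_of_fpf (actHom (F := F)) v _ M hM hfp
  · right
    push Not at hfp
    obtain ⟨X0, hX, hX0⟩ := hfp
    rw [actHom_mk] at hX
    have he : (((ε : ℤ) : F)) * (((ε : ℤ) : F)) = 1 := by
      rcases Int.units_eq_one_or ε with rfl | rfl <;> simp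
    have htr := trace_of_fixed (g : Matrix (Fin 2) (Fin 2) F) g.2 _ he X0 hX0 hX
    set t := (g : Matrix (Fin 2) (Fin 2) F).trace with ht
    have hfac : t * (t ^ 2 - ((ε : ℤ) : F)) = 0 := by linear_combination htr
    rcases mul_eq_zero.1 hfac with h0 | h0
    · -- `t = 0`: an involution
      left
      have hdvd : fpoly t ∣ X ^ 2 - C (-1 : F) := by
        rw [h0]
        unfold fpoly
        simp
      have h2 : (QuotientGroup.mk g : Matrix.ProjectiveSpecialLinearGroup (Fin 2) F) ^ 2 = 1 :=
        mk_pow_eq_one g 2 (-1) (by ring) (pow_eq_of_dvd g 2 (-1) hdvd)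
      have := pow_mul_three (actHom (F := F)) three_smul_eq_zero
        (⟨v, (ε, QuotientGroup.mk g)⟩ : HH F) 2 (by
          change ((ε, (QuotientGroup.mk g : Matrix.ProjectiveSpecialLinearGroup (Fin 2) F)) :
            ℤˣ × Matrix.ProjectiveSpecialLinearGroup (Fin 2) F) ^ 2 = 1
          rw [Prod.pow_mk, h2]
          rcases Int.units_eq_one_or ε with rfl | rfl <;> rfl)
      exact this
    · have ht2 : t ^ 2 = ((ε : ℤ) : F) := sub_eq_zero.1 h0
      rcases Int.units_eq_one_or ε with rfl | rfl
      · -- `t² = 1`: cube is trivial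
        have ht1 : t = 1 ∨ t = -1 := by
          have : (t - 1) * (t + 1) = 0 := by
            have : t ^ 2 = 1 := by simpa using ht2
            linear_combination this
          rcases mul_eq_zero.1 this with h | h
          · left; exact sub_eq_zero.1 h
          · right; exact eq_neg_of_add_eq_zero_left h
        have h3F := three_eq_zero (F := F)
        have hcube : (QuotientGroup.mk g : Matrix.ProjectiveSpecialLinearGroup (Fin 2) F) ^ 3
            = 1 := by
          rcases ht1 with h | h
          · have hroot : (fpoly t).IsRoot (-1) := by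
              rw [h]
              unfold fpoly
              simp only [IsRoot.def, eval_add, eval_sub, eval_pow, eval_X, eval_mul, eval_C,
                eval_one]
              linear_combination h3F
            have := pow_char_of_root 3 g (by ring : (-1 : F) ^ 2 = 1) hroot
            exact mk_pow_eq_one g 3 _ (by ring) this
          · have hroot : (fpoly t).IsRoot 1 := by
              rw [h]
              unfold fpoly
              simp only [IsRoot.def, eval_add, eval_sub, eval_pow, eval_X, eval_mul, eval_C,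
                eval_one]
              linear_combination h3F
            have := pow_char_of_root 3 g (by ring : (1 : F) ^ 2 = 1) hroot
            exact mk_pow_eq_one g 3 _ (by ring) this
        right
        exact nine_of_one v _ hcube
      · exfalso
        apply neg_one_not_sq hq t
        rw [ht2]
        simp

end orders

end Cfsg.Agent.Lib.Helper7.Mu3
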