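import Mathlib
import Cfsg.Agent.H9.PSL2Spec
import Cfsg.Agent.Lib.Helper7.Mu3C

set_option autoImplicit false
set_option linter.unusedSectionVars false

/-!
# The spectrum of `M₂(F) ⋊ (ℤˣ × PSL₂(F))`, `|F| = 3^α ≡ 3 (mod 8)` (helper7, for S2515)
-/

namespace Cfsg.Agent.Lib.Helper7.Mu3

open Cfsg.Agent.H9.PSL2Spec Polynomial

section spectrum

variable {F : Type*} [Field F] [CharP F 3] [Fintype F]

theorem units_pow_even (ε : ℤˣ) (m : ℕ) : ε ^ (2 * m) = 1 := by
  rw [pow_mul]
  rcases Int.units_eq_one_or ε with rfl | rfl <;> simp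

theorem order_cases (hq8 : Fintype.card F % 8 = 3) (h : HH F) :
    h ^ 6 = 1 ∨ h ^ 9 = 1 ∨ h ^ (Fintype.card F - 1) = 1 ∨
      h ^ ((Fintype.card F + 1) / 2) = 1 := by
  obtain ⟨v, ⟨ε, gb⟩⟩ := h
  obtain ⟨g, rfl⟩ := QuotientGroup.mk_surjective gb
  set q := Fintype.card F with hq
  have hgcd : Nat.gcd 2 (q - 1) = 2 := Nat.gcd_eq_left (by omega)
  have hq4 : Fintype.card F % 4 = 3 := by omega
  rcases exists_pow_eq_one 3
    (QuotientGroup.mk g : Matrix.ProjectiveSpecialLinearGroup (Fin 2) F) with h3 | hm | hp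
  · rcases pow_of_cube v ε _ h3 with h | h
    · left; exact h
    · right; left; exact h
  · rw [← hq, hgcd] at hm
    have hM : ((ε, (QuotientGroup.mk g : Matrix.ProjectiveSpecialLinearGroup (Fin 2) F)) :
        ℤˣ × Matrix.ProjectiveSpecialLinearGroup (Fin 2) F) ^ (q - 1) = 1 := by
      rw [Prod.pow_mk]
      have e1 : ε ^ (q - 1) = 1 := by
        obtain ⟨m, hm'⟩ : ∃ m, q - 1 = 2 * m := ⟨(q - 1) / 2, by omega⟩
        rw [hm', units_pow_even]
      have e2 : (QuotientGroup.mk g : Matrix.ProjectiveSpecialLinearGroup (Fin 2) F) ^ (q - 1)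
          = 1 := by
        have : q - 1 = (q - 1) / 2 * 2 := by omega
        rw [this, pow_mul, hm, one_pow]
      rw [e1, e2]
      rfl
    rcases pow_of_semisimple hq4 v ε g _ hM with h | h | h
    · right; right; left; exact h
    · left; exact h
    · right; left; exact h
  · rw [← hq, hgcd] at hp
    have hM : ((ε, (QuotientGroup.mk g : Matrix.ProjectiveSpecialLinearGroup (Fin 2) F)) :
        ℤˣ × Matrix.ProjectiveSpecialLinearGroup (Fin 2) F) ^ ((q + 1) / 2) = 1 := by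
      rw [Prod.pow_mk]
      have e1 : ε ^ ((q + 1) / 2) = 1 := by
        obtain ⟨m, hm'⟩ : ∃ m, (q + 1) / 2 = 2 * m := ⟨(q + 1) / 4, by omega⟩
        rw [hm', units_pow_even]
      rw [e1, hp]
      rfl
    rcases pow_of_semisimple hq4 v ε g _ hM with h | h | h
    · right; right; right; exact h
    · left; exact h
    · right; left; exact h

theorem orderOf_neg_one_units : orderOf (-1 : ℤˣ) = 2 :=
  orderOf_eq_prime (by simp) (by decide)

theorem exists_order_six : ∃ h : HH F, orderOf h = 6 := by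
  obtain ⟨u, hu⟩ := exists_orderOf_eq_char (F := F) 3
  refine ⟨SemidirectProduct.inr ((-1 : ℤˣ), u), ?_⟩
  rw [orderOf_inr, Prod.orderOf_mk, hu, orderOf_neg_one_units]
  rfl

theorem exists_order_split (hq8 : Fintype.card F % 8 = 3) :
    ∃ h : HH F, orderOf h = Fintype.card F - 1 := by
  obtain ⟨u, hu⟩ := exists_orderOf_eq_split (F := F)
  have hgcd : Nat.gcd 2 (Fintype.card F - 1) = 2 := Nat.gcd_eq_left (by omega)
  rw [hgcd] at hu
  refine ⟨SemidirectProduct.inr ((-1 : ℤˣ), u), ?_⟩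
  rw [orderOf_inr, Prod.orderOf_mk, hu, orderOf_neg_one_units]
  have hc : Nat.Coprime 2 ((Fintype.card F - 1) / 2) := by
    rw [Nat.coprime_two_left, Nat.odd_iff]
    omega
  rw [hc.lcm_eq_mul]
  omega

theorem exists_order_nonsplit (hq8 : Fintype.card F % 8 = 3) :
    ∃ h : HH F, orderOf h = (Fintype.card F + 1) / 2 := by
  obtain ⟨u, hu⟩ := exists_orderOf_eq_nonsplit (F := F) 3
  have hgcd : Nat.gcd 2 (Fintype.card F - 1) = 2 := Nat.gcd_eq_left (by omega)
  rw [hgcd] at hu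
  refine ⟨SemidirectProduct.inr ((1 : ℤˣ), u), ?_⟩
  rw [orderOf_inr, Prod.orderOf_mk, hu, orderOf_one, Nat.lcm_one_left]

/-- the transvection as an element of `SL₂` -/
noncomputable def uSL : Matrix.SpecialLinearGroup (Fin 2) F := ⟨uMat, det_uMat⟩

theorem uSL_cube :
    (QuotientGroup.mk (uSL (F := F)) : Matrix.ProjectiveSpecialLinearGroup (Fin 2) F) ^ 3 = 1 := by
  have htr : ((uSL (F := F)) : Matrix (Fin 2) (Fin 2) F).trace = 2 := by
    change (uMat : Matrix (Fin 2) (Fin 2) F).trace = 2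
    simp [uMat, Matrix.trace_fin_two]
    norm_num
  have hroot : (fpoly ((uSL (F := F)) : Matrix (Fin 2) (Fin 2) F).trace).IsRoot 1 := by
    rw [htr]
    unfold fpoly
    simp
    norm_num
  have := pow_char_of_root 3 (uSL (F := F)) (one_pow 2) hroot
  exact mk_pow_eq_one _ 3 (1 ^ 3) (by simp) this

theorem tw_uMat : tw (uMat : Matrix (Fin 2) (Fin 2) F) = !![1, 0; 1, 1] := by
  ext i j
  fin_cases i <;> fin_cases j <;> simp [tw_apply, uMat]

theorem uMat_step1 : (uMat : Matrix (Fin 2) (Fin 2) F) * !![0, 0; 0, 1] * tw uMat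
    = !![1, 1; 1, 1] := by
  rw [tw_uMat]
  ext i j
  fin_cases i <;> fin_cases j <;> simp [uMat, Matrix.mul_apply, Fin.sum_univ_two]

theorem uMat_step2 : (uMat : Matrix (Fin 2) (Fin 2) F) * !![1, 1; 1, 1] * tw uMat
    = !![1, 2; 2, 1] := by
  rw [tw_uMat]
  have h3F := three_eq_zero (F := F)
  ext i j
  fin_cases i <;> fin_cases j <;> simp [uMat, Matrix.mul_apply, Fin.sum_univ_two]
  · linear_combination h3F
  · norm_num
  · norm_num

theorem exists_order_nine : ∃ h : HH F, orderOf h = 9 := by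
  set X0 : Matrix (Fin 2) (Fin 2) F := !![0, 0; 0, 1] with hX0
  set h0 : HH F := ⟨Multiplicative.ofAdd X0, ((1 : ℤˣ), QuotientGroup.mk uSL)⟩ with hh0
  refine ⟨h0, ?_⟩
  have h9 : h0 ^ 3 ^ (1 + 1) = 1 := nine_of_one _ _ uSL_cube
  have h3 : ¬ h0 ^ 3 ^ 1 = 1 := by
    intro hcon
    rw [pow_one] at hcon
    have e := left_pow_three (actHom (F := F)) (Multiplicative.ofAdd X0)
      ((1 : ℤˣ), QuotientGroup.mk uSL)
    rw [← hh0, hcon, SemidirectProduct.one_left, toAdd_one, toAdd_ofAdd, actHom_mk,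
      actHom_mk] at e
    have hu : ((uSL (F := F)) : Matrix (Fin 2) (Fin 2) F) = uMat := rfl
    rw [hu, hX0, uMat_step1] at e
    simp only [Units.val_one, Int.cast_one, one_smul] at e
    rw [uMat_step2] at e
    have e00 := congrFun (congrFun e 0) 0
    simp at e00
    exact two_ne_zero' (F := F) (by linear_combination -e00)
  exact orderOf_eq_prime_pow h3 h9

end spectrum

end Cfsg.Agent.Lib.Helper7.Mu3
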