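import Mathlib
import Cfsg.Agent.Lib.Helper7.Mu3D

set_option autoImplicit false
set_option linter.unusedSectionVars false

/-!
# Assembly for S2515 (helper7)
-/

namespace Cfsg.Agent.Lib.Helper7.Mu3

/-- the set of maximal element orders from a covering antichain -/
theorem spectrum_eq {H : Type*} [Group H] (S : Set ℕ)
    (h1 : ∀ h : H, ∃ y ∈ S, orderOf h ∣ y) (h2 : ∀ y ∈ S, ∃ h : H, orderOf h = y)
    (h3 : ∀ x ∈ S, ∀ y ∈ S, x ∣ y → x = y) :
    {n : ℕ | n ∈ Set.range (orderOf : H → ℕ) ∧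
      ∀ m ∈ Set.range (orderOf : H → ℕ), n ∣ m → m = n} = S := by
  ext n
  constructor
  · rintro ⟨⟨h, rfl⟩, hmax⟩
    obtain ⟨y, hyS, hy⟩ := h1 h
    obtain ⟨h', hh'⟩ := h2 y hyS
    have := hmax y ⟨h', hh'⟩ hy
    rw [← this]
    exact hyS
  · intro hn
    refine ⟨?_, ?_⟩
    · obtain ⟨h, hh⟩ := h2 n hn
      exact ⟨h, hh⟩
    · rintro m ⟨h, rfl⟩ hdvd
      obtain ⟨y, hyS, hy⟩ := h1 h
      have := h3 n hn y hyS (hdvd.trans hy)
      rw [← this] at hy
      exact Nat.dvd_antisymm hy hdvd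

theorem arith (α : ℕ) (hα : 3 ≤ α) (hodd : Odd α) :
    3 ^ α % 8 = 3 ∧ 3 ^ α % 3 = 0 ∧ 27 ≤ 3 ^ α := by
  obtain ⟨j, rfl⟩ := hodd
  refine ⟨?_, ?_, ?_⟩
  · rw [pow_succ, pow_mul, Nat.mul_mod, Nat.pow_mod]
    norm_num
  · rw [pow_succ, Nat.mul_mod_left]
  · calc 27 = 3 ^ 3 := by norm_num
      _ ≤ 3 ^ (2 * j + 1) := Nat.pow_le_pow_right (by norm_num) hα

theorem antichain (q : ℕ) (h8 : q % 8 = 3) (h3 : q % 3 = 0) (h27 : 27 ≤ q) :
    ∀ x ∈ ({6, 9, q - 1, (q + 1) / 2} : Set ℕ), ∀ y ∈ ({6, 9, q - 1, (q + 1) / 2} : Set ℕ),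
      x ∣ y → x = y := by
  intro x hx y hy hxy
  simp only [Set.mem_insert_iff, Set.mem_singleton_iff] at hx hy
  rcases hx with rfl | rfl | rfl | rfl <;> rcases hy with rfl | rfl | rfl | rfl
  · rfl
  · omega
  · omega
  · omega
  · omega
  · rfl
  · omega
  · omega
  · have := Nat.le_of_dvd (by norm_num) hxy
    omega
  · have := Nat.le_of_dvd (by norm_num) hxy
    omega
  · rfl
  · have := Nat.le_of_dvd (by omega) hxy
    omega
  · have := Nat.le_of_dvd (by norm_num) hxy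
    omega
  · have := Nat.le_of_dvd (by norm_num) hxy
    omega
  · exfalso
    obtain ⟨m, hm⟩ : ∃ m, (q + 1) / 2 = m := ⟨_, rfl⟩
    rw [hm] at hxy
    have hq : q - 1 = 2 * m - 2 := by omega
    have h2 : m ∣ 2 * m := Dvd.intro_left 2 rfl
    rw [hq] at hxy
    have h4 : m ∣ 2 * m - (2 * m - 2) := Nat.dvd_sub h2 hxy
    have h5 : 2 * m - (2 * m - 2) = 2 := by omega
    rw [h5] at h4
    have := Nat.le_of_dvd (by norm_num) h4
    omega
  · rfl

section final

variable {F : Type*} [Field F] [CharP F 3] [Fintype F]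

instance : Finite (HH F) :=
  Finite.of_equiv _ (SemidirectProduct.equivProd (φ := autOfEnd (actHom (F := F)))).symm

theorem exists_normal_three :
    ∃ P : Subgroup (HH F), P.Normal ∧ P ≠ ⊥ ∧ IsPGroup 3 ↥P := by
  refine ⟨(SemidirectProduct.rightHom : HH F →* _).ker, MonoidHom.normal_ker _, ?_, ?_⟩
  · intro hbot
    have hmem : (SemidirectProduct.inl (Multiplicative.ofAdd (1 : Matrix (Fin 2) (Fin 2) F)) :
        HH F) ∈ (SemidirectProduct.rightHom : HH F →* _).ker := by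
      rw [MonoidHom.mem_ker, SemidirectProduct.rightHom_inl]
    rw [hbot, Subgroup.mem_bot] at hmem
    have h1 := congrArg SemidirectProduct.left hmem
    rw [SemidirectProduct.left_inl, SemidirectProduct.one_left] at h1
    have h2 : (1 : Matrix (Fin 2) (Fin 2) F) = 0 := by
      have := congrArg Multiplicative.toAdd h1
      rwa [toAdd_ofAdd, toAdd_one] at this
    exact one_ne_zero h2
  · intro g
    refine ⟨1, ?_⟩
    rw [pow_one]
    apply Subtype.ext
    rw [Subgroup.coe_pow, Subgroup.coe_one]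
    apply pow_three_of_right_eq_one (actHom (F := F)) three_smul_eq_zero
    have := g.2
    rwa [MonoidHom.mem_ker] at this

theorem spectrum_HH (hq8 : Fintype.card F % 8 = 3) (hq3 : Fintype.card F % 3 = 0)
    (hq27 : 27 ≤ Fintype.card F) :
    {n : ℕ | n ∈ Set.range (orderOf : HH F → ℕ) ∧
      ∀ m ∈ Set.range (orderOf : HH F → ℕ), n ∣ m → m = n}
      = ({6, 9, Fintype.card F - 1, (Fintype.card F + 1) / 2} : Set ℕ) := by
  apply spectrum_eq
  · intro h
    rcases order_cases hq8 h with h' | h' | h' | h'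
    · exact ⟨6, by simp, orderOf_dvd_of_pow_eq_one h'⟩
    · exact ⟨9, by simp, orderOf_dvd_of_pow_eq_one h'⟩
    · exact ⟨_, by simp, orderOf_dvd_of_pow_eq_one h'⟩
    · exact ⟨_, by simp, orderOf_dvd_of_pow_eq_one h'⟩
  · intro y hy
    simp only [Set.mem_insert_iff, Set.mem_singleton_iff] at hy
    rcases hy with rfl | rfl | rfl | rfl
    · exact exists_order_six
    · exact exists_order_nine
    · exact exists_order_split hq8
    · exact exists_order_nonsplit hq8
  · exact antichain _ hq8 hq3 hq27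

end final

end Cfsg.Agent.Lib.Helper7.Mu3
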