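import Mathlib
import Cfsg.Agent.H2.ItoTwo

set_option autoImplicit false

/-!
# Normal subgroups with two `G`-class sizes: components

`N ⊴ G` such that every element of `N` has `G`-class size `1` or `m`.  If two noncentral elements
of `N` of coprime prime power orders commute, their common centralizer `C` is a *component*:
`C_G(w) = C` for every noncentral `w ∈ N ⊓ C`.
-/

namespace Cfsg.Agent.Lib.Helper7.NClass

open Cfsg.Agent.H2.ItoTwo

variable {G : Type*} [Group G]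

/-- class-size hypothesis on the subgroup `N` -/
def NTwo (N : Subgroup G) (m : ℕ) : Prop :=
  ∀ x ∈ N, (Cx x).index = 1 ∨ (Cx x).index = m

/-- `C` is a component for `N` -/
structure Comp (N C : Subgroup G) : Prop where
  cent : ∀ w ∈ N, w ∈ C → w ∉ Subgroup.center G → Cx w = C
  center_le : Subgroup.center G ≤ C

section basic

variable {N : Subgroup G} {m : ℕ}

theorem NTwo.index_eq (H : NTwo N m) {x : G} (hxN : x ∈ N) (hx : x ∉ Subgroup.center G) :
    (Cx x).index = m := by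
  rcases H x hxN with h1 | h1
  · exact absurd (Cx_eq_top_iff.mp (Subgroup.index_eq_one.mp h1)) hx
  · exact h1

variable [Finite G]

theorem NTwo.card_Cx_eq (H : NTwo N m) {x y : G} (hxN : x ∈ N) (hx : x ∉ Subgroup.center G)
    (hyN : y ∈ N) (hy : y ∉ Subgroup.center G) : Nat.card (Cx x) = Nat.card (Cx y) := by
  have h1 : Nat.card (Cx x) * m = Nat.card G := by
    rw [← H.index_eq hxN hx]; exact (Cx x).card_mul_index
  have h2 : Nat.card (Cx y) * m = Nat.card G := by
    rw [← H.index_eq hyN hy]; exact (Cx y).card_mul_index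
  have hm : 0 < m := by
    rw [← H.index_eq hxN hx]
    exact Nat.pos_of_ne_zero Subgroup.index_ne_zero_of_finite
  exact Nat.eq_of_mul_eq_mul_right hm (h1.trans h2.symm)

theorem NTwo.eq_of_le (H : NTwo N m) {x y : G} (hxN : x ∈ N) (hx : x ∉ Subgroup.center G)
    (hyN : y ∈ N) (hy : y ∉ Subgroup.center G) (hle : Cx x ≤ Cx y) : Cx x = Cx y :=
  Subgroup.eq_of_le_of_card_ge hle (le_of_eq (H.card_Cx_eq hyN hy hxN hx))

/-- the coprime step -/
theorem NTwo.coprime_le (H : NTwo N m) {y z : G} {Q k : ℕ} (hyN : y ∈ N) (hzN : z ∈ N)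
    (hy : y ∉ Subgroup.center G) (hyq : y ^ Q = 1) (hz : z ∈ Cx y) (hzm : z ^ k = 1)
    (hcop : Nat.Coprime k Q) : Cx y ≤ Cx z := by
  have hcomm : Commute y z := (mem_Cx.mp hz).symm
  have hyz : (y * z) ^ k = y ^ k := by rw [hcomm.mul_pow, hzm, mul_one]
  have hy1 : y = ((y * z) ^ k) ^ (Nat.gcdA k Q) := by
    have := pow_bezout y hcop
    rw [hyq, one_zpow, mul_one] at this
    rw [hyz]; exact this
  have hle : Cx (y * z) ≤ Cx y := by
    intro g hg
    have h1 := Cx_zpow_le _ (Nat.gcdA k Q) (Cx_pow_le _ k hg)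
    rwa [← hy1] at h1
  have hyznc : y * z ∉ Subgroup.center G := by
    intro hc
    have : Cx (y * z) = ⊤ := Cx_eq_top_iff.mpr hc
    rw [this, top_le_iff] at hle
    exact hy (Cx_eq_top_iff.mp hle)
  have heq := H.eq_of_le (N.mul_mem hyN hzN) hyznc hyN hy hle
  intro g hg
  have h1 : g ∈ Cx (y * z) := heq ▸ hg
  rw [mem_Cx] at h1 hg ⊢
  have : y * (g * z) = y * (z * g) := by
    calc y * (g * z) = (y * g) * z := by group
      _ = (g * y) * z := by rw [hg]
      _ = g * (y * z) := by group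
      _ = y * z * g := h1
      _ = y * (z * g) := by group
  exact mul_left_cancel this

/-- two commuting noncentral elements of coprime prime power orders give a component -/
theorem NTwo.comp_of_pair (H : NTwo N m) {x y : G} {r q a b : ℕ} (hr : r.Prime) (hq : q.Prime)
    (hrq : r ≠ q) (hxN : x ∈ N) (hyN : y ∈ N) (hx : x ∉ Subgroup.center G)
    (hy : y ∉ Subgroup.center G) (hxy : x * y = y * x) (hxr : x ^ (r ^ a) = 1)
    (hyq : y ^ (q ^ b) = 1) : Comp N (Cx x) ∧ Cx y = Cx x := by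
  have hcop : Nat.Coprime (r ^ a) (q ^ b) :=
    Nat.Coprime.pow _ _ ((Nat.coprime_primes hr hq).mpr hrq)
  have hyx : y ∈ Cx x := mem_Cx.mpr hxy.symm
  have hxy' : x ∈ Cx y := mem_Cx.mpr hxy
  have h1 : Cx x ≤ Cx y := H.coprime_le hxN hyN hx hxr hyx hyq hcop.symm
  have h2 : Cx y = Cx x := (H.eq_of_le hxN hx hyN hy h1).symm
  -- every element of `N ⊓ C` is centralized by `C`
  have key : ∀ w ∈ N, w ∈ Cx x → Cx x ≤ Cx w := by
    intro w hwN hw
    obtain ⟨A, n', hn', hcard⟩ :=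
      Nat.exists_eq_pow_mul_and_not_dvd (Nat.card_pos (α := G)).ne' r hr.ne_one
    have hcop' : Nat.Coprime (r ^ A) n' :=
      Nat.Coprime.pow_left _ ((Nat.Prime.coprime_iff_not_dvd hr).mpr hn')
    have hwcard : w ^ (r ^ A * n') = 1 := by rw [← hcard]; exact pow_card_eq_one'
    -- `w₁ = w ^ (r ^ A)` has order prime to `r`, `w₂ = w ^ n'` is an `r`-element
    have hw1 : (w ^ (r ^ A)) ^ n' = 1 := by rw [← pow_mul]; exact hwcard
    have hw2 : (w ^ n') ^ (r ^ A) = 1 := by rw [← pow_mul, mul_comm]; exact hwcard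
    have hw1C : w ^ (r ^ A) ∈ Cx x := (Cx x).pow_mem hw _
    have hw2C : w ^ n' ∈ Cx y := by rw [h2]; exact (Cx x).pow_mem hw _
    have hc1 : Nat.Coprime n' (r ^ a) :=
      (Nat.Coprime.pow_left a ((Nat.Prime.coprime_iff_not_dvd hr).mpr hn')).symm
    have hc2 : Nat.Coprime (r ^ A) (q ^ b) :=
      Nat.Coprime.pow _ _ ((Nat.coprime_primes hr hq).mpr hrq)
    have e1 : Cx x ≤ Cx (w ^ (r ^ A)) :=
      H.coprime_le hxN (N.pow_mem hwN _) hx hxr hw1C hw1 hc1
    have e2 : Cx x ≤ Cx (w ^ n') := by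
      have := H.coprime_le hyN (N.pow_mem hwN _) hy hyq hw2C hw2 hc2
      rwa [h2] at this
    intro g hg
    have g1 := Cx_zpow_le _ (Nat.gcdA (r ^ A) n') (e1 hg)
    have g2 := Cx_zpow_le _ (Nat.gcdB (r ^ A) n') (e2 hg)
    rw [mem_Cx] at g1 g2 ⊢
    rw [pow_bezout w hcop']
    calc g * ((w ^ r ^ A) ^ Nat.gcdA (r ^ A) n' * (w ^ n') ^ Nat.gcdB (r ^ A) n')
        = (g * (w ^ r ^ A) ^ Nat.gcdA (r ^ A) n') * (w ^ n') ^ Nat.gcdB (r ^ A) n' := by group
      _ = ((w ^ r ^ A) ^ Nat.gcdA (r ^ A) n' * g) * (w ^ n') ^ Nat.gcdB (r ^ A) n' := by rw [g1]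
      _ = (w ^ r ^ A) ^ Nat.gcdA (r ^ A) n' * (g * (w ^ n') ^ Nat.gcdB (r ^ A) n') := by group
      _ = (w ^ r ^ A) ^ Nat.gcdA (r ^ A) n' * ((w ^ n') ^ Nat.gcdB (r ^ A) n' * g) := by rw [g2]
      _ = (w ^ r ^ A) ^ Nat.gcdA (r ^ A) n' * (w ^ n') ^ Nat.gcdB (r ^ A) n' * g := by group
  refine ⟨⟨?_, center_le_Cx x⟩, h2⟩
  intro w hwN hw hwZ
  exact (H.eq_of_le hxN hx hwN hwZ (key w hwN hw)).symm

end basic

section comp

variable {N C : Subgroup G}

/-- elements of `N ⊓ C` commute -/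
theorem Comp.comm (hC : Comp N C) {w w' : G} (hwN : w ∈ N) (hw : w ∈ C) (hw' : w' ∈ C) :
    w * w' = w' * w := by
  by_cases hwZ : w ∈ Subgroup.center G
  · exact ((Subgroup.mem_center_iff.mp hwZ) w').symm
  · have h1 : w' ∈ Cx w := by rw [hC.cent w hwN hw hwZ]; exact hw'
    exact (mem_Cx.mp h1).symm

/-- the component is a TI-set modulo the centre: conjugating a noncentral element of `N ⊓ C`
into `C` normalizes `C` -/
theorem Comp.mem_normalizer [N.Normal] (hC : Comp N C) {w g : G} (hwN : w ∈ N) (hw : w ∈ C)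
    (hwZ : w ∉ Subgroup.center G) (hg : g * w * g⁻¹ ∈ C) :
    g ∈ Subgroup.normalizer (C : Set G) := by
  have hN' : g * w * g⁻¹ ∈ N := ‹N.Normal›.conj_mem w hwN g
  have hZ' : g * w * g⁻¹ ∉ Subgroup.center G := by
    intro hc
    apply hwZ
    have := (Subgroup.center G).normal_of_characteristic.conj_mem _ hc g⁻¹
    have e : g⁻¹ * (g * w * g⁻¹) * g⁻¹⁻¹ = w := by group
    rwa [e] at this
  have h1 : Cx (g * w * g⁻¹) = C := hC.cent _ hN' hg hZ'
  have h2 : Cx w = C := hC.cent w hwN hw hwZ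
  rw [Subgroup.mem_normalizer_iff]
  intro a
  have := Cx_conj w g a
  rw [h1, h2] at this
  exact this

/-- the normalizer of `C` stabilizes the noncentral elements of `N ⊓ C` with stabilizer `C` -/
theorem Comp.mem_of_fix (hC : Comp N C) {w g : G} (hwN : w ∈ N) (hw : w ∈ C)
    (hwZ : w ∉ Subgroup.center G) (hg : g * w * g⁻¹ = w) : g ∈ C := by
  rw [← hC.cent w hwN hw hwZ, mem_Cx]
  calc g * w = g * w * g⁻¹ * g := by group
    _ = w * g := by rw [hg]

theorem Comp.conj_mem_of_normalizer {g w : G} (hg : g ∈ Subgroup.normalizer (C : Set G))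
    (hw : w ∈ C) :
    g * w * g⁻¹ ∈ C := (Subgroup.mem_normalizer_iff.mp hg w).mp hw

end comp

end Cfsg.Agent.Lib.Helper7.NClass
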