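import Mathlib
import Cfsg.Agent.Lib.Helper7.NClassA
import Cfsg.Agent.Lib.Helper5.NClassArith

set_option autoImplicit false

/-!
# Normal subgroups with two `G`-class sizes: the covering lemma

Every noncentral element of `N` is conjugate into a component `C` that contains noncentral
elements of two coprime prime power orders.  The proof counts orbits of `N ⊓ C` on coset spaces
and of the normalizer of `C` on the torsion subgroups of `N ⊓ C`.
-/

namespace Cfsg.Agent.Lib.Helper7.NClass

open Cfsg.Agent.H2.ItoTwo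

variable {G : Type*} [Group G]

/-- all stabilizers equal to `K`: the index of `K` divides the cardinality -/
theorem index_dvd_card_of_stabilizer {H α : Type*} [Group H] [MulAction H α] [Finite α] (K : Subgroup H)
    (h : ∀ a : α, MulAction.stabilizer H a = K) : K.index ∣ Nat.card α := by
  classical
  have _ : Fintype (MulAction.orbitRel.Quotient H α) := Fintype.ofFinite _
  rw [Nat.card_congr (MulAction.selfEquivSigmaOrbits' H α), Nat.card_sigma]
  apply Finset.dvd_sum
  intro ω _
  induction ω using Quotient.inductionOn' with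
  | h a =>
    have h1 : MulAction.orbitRel.Quotient.orbit (Quotient.mk'' a : MulAction.orbitRel.Quotient H α)
        = MulAction.orbit H a := MulAction.orbitRel.Quotient.orbit_mk a
    rw [h1, ← h a, MulAction.index_stabilizer, Nat.card_coe_set_eq]

/-- points of `S` fixed, all other stabilizers equal to `K` -/
theorem card_eq_add_of_stabilizer {H α : Type*} [Group H] [MulAction H α] [Finite α] (K : Subgroup H) (S : Set α)
    (hS : ∀ a ∈ S, ∀ h : H, h • a = a) (hK : ∀ a ∉ S, MulAction.stabilizer H a = K) :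
    ∃ t : ℕ, Nat.card α = Nat.card S + K.index * t := by
  classical
  let T : SubMulAction H α :=
    { carrier := Sᶜ
      smul_mem' := by
        intro h a ha hc
        apply ha
        have h1 : h⁻¹ • (h • a) = h • a := hS _ hc h⁻¹
        rw [inv_smul_smul] at h1
        rw [h1]; exact hc }
  have hT : ∀ a : T, MulAction.stabilizer H a = K := by
    intro a
    rw [SubMulAction.stabilizer_of_subMul]
    exact hK a.1 a.2
  obtain ⟨t, ht⟩ := index_dvd_card_of_stabilizer K hT
  refine ⟨t, ?_⟩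
  have h1 : Nat.card α = Nat.card S + Nat.card (Sᶜ : Set α) := by
    rw [← Nat.card_sum]
    exact Nat.card_congr (Equiv.Set.sumCompl S).symm
  rw [h1]
  congr 1

theorem mem_stab_left (W H' : Subgroup G) (g : G) (w : W) :
    w ∈ MulAction.stabilizer W (g : G ⧸ H') ↔ g⁻¹ * (w : G) * g ∈ H' := by
  rw [MulAction.mem_stabilizer_iff]
  change ((w : G) • (g : G ⧸ H')) = g ↔ _
  rw [MulAction.Quotient.smul_mk, QuotientGroup.eq]
  constructor
  · intro h
    have := H'.inv_mem h
    convert this using 1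
    simp [mul_assoc]
  · intro h
    have := H'.inv_mem h
    convert this using 1
    simp [mul_assoc]


theorem conj_center {z : G} (hz : z ∈ Subgroup.center G) (g : G) : g⁻¹ * z * g = z := by
  have := Subgroup.mem_center_iff.mp hz g
  calc g⁻¹ * z * g = g⁻¹ * (z * g) := by group
    _ = g⁻¹ * (g * z) := by rw [this]
    _ = z := by group

/-- (3a): if no conjugate of `v₀` lies in `C`, then `|W : Z|` divides the class size of `v₀` -/
theorem dvd_of_not_conj [Finite G] {N C : Subgroup G} (hC : Comp N C) {v₀ : G}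
    (hv : ∀ g : G, g * v₀ * g⁻¹ ∉ C) :
    (Subgroup.center G).relIndex (N ⊓ C) ∣ (Cx v₀).index := by
  have h := index_dvd_card_of_stabilizer (H := ↥(N ⊓ C)) (α := G ⧸ Cx v₀) ((Subgroup.center G).subgroupOf (N ⊓ C)) ?_
  · exact h
  · intro p
    induction p using QuotientGroup.induction_on with
    | H g =>
      ext w
      rw [mem_stab_left, Subgroup.mem_subgroupOf]
      constructor
      · intro hw
        by_contra hwZ
        have h1 : Cx (w : G) = C := hC.cent _ w.2.1 w.2.2 hwZ
        apply hv g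
        rw [← h1, mem_Cx]
        have h2 := mem_Cx.mp hw
        calc g * v₀ * g⁻¹ * (w : G) = g * (v₀ * (g⁻¹ * (w : G) * g)) * g⁻¹ := by group
          _ = g * ((g⁻¹ * (w : G) * g) * v₀) * g⁻¹ := by rw [h2]
          _ = (w : G) * (g * v₀ * g⁻¹) := by group
      · intro hwZ
        rw [conj_center hwZ]
        exact center_le_Cx v₀ hwZ

/-- the number of cosets of `C` inside a subgroup `M ≥ C` -/
theorem card_cosets_in (C M : Subgroup G) :
    Nat.card {p : G ⧸ C | ∃ g ∈ M, (g : G ⧸ C) = p} = C.relIndex M := by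
  have h1 := MulAction.index_stabilizer (G := ↥M) (x := ((1 : G) : G ⧸ C))
  have h2 : MulAction.stabilizer ↥M ((1 : G) : G ⧸ C) = C.subgroupOf M := by
    ext g
    rw [mem_stab_left, Subgroup.mem_subgroupOf]
    simp
  have h3 : MulAction.orbit ↥M ((1 : G) : G ⧸ C) = {p : G ⧸ C | ∃ g ∈ M, (g : G ⧸ C) = p} := by
    ext p
    constructor
    · rintro ⟨g, rfl⟩
      refine ⟨g, g.2, ?_⟩
      change _ = ((g : G) • ((1 : G) : G ⧸ C))
      rw [MulAction.Quotient.smul_mk, smul_eq_mul, mul_one]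
    · rintro ⟨g, hg, rfl⟩
      refine ⟨⟨g, hg⟩, ?_⟩
      change ((g : G) • ((1 : G) : G ⧸ C)) = _
      rw [MulAction.Quotient.smul_mk, smul_eq_mul, mul_one]
  rw [h2, h3] at h1
  rw [Nat.card_coe_set_eq, ← h1]
  rfl

/-- (3b) -/
theorem index_eq_add [Finite G] {N C : Subgroup G} [N.Normal] (hC : Comp N C) :
    ∃ t : ℕ, C.index = C.relIndex (Subgroup.normalizer (C : Set G)) +
      (Subgroup.center G).relIndex (N ⊓ C) * t := by
  have hS : ∀ p ∈ {p : G ⧸ C | ∃ g ∈ Subgroup.normalizer (C : Set G), (g : G ⧸ C) = p},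
      ∀ w : ↥(N ⊓ C), w • p = p := by
    rintro p ⟨g, hg, rfl⟩ w
    have := (mem_stab_left (N ⊓ C) C g w).mpr
      ((Subgroup.mem_normalizer_iff''.mp hg (w : G)).mp w.2.2)
    exact MulAction.mem_stabilizer_iff.mp this
  have hK : ∀ p ∉ {p : G ⧸ C | ∃ g ∈ Subgroup.normalizer (C : Set G), (g : G ⧸ C) = p},
      MulAction.stabilizer ↥(N ⊓ C) p = (Subgroup.center G).subgroupOf (N ⊓ C) := by
    intro p hp
    induction p using QuotientGroup.induction_on with
    | H g =>
      have hg : g ∉ Subgroup.normalizer (C : Set G) := fun hc => hp ⟨g, hc, rfl⟩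
      ext w
      rw [mem_stab_left, Subgroup.mem_subgroupOf]
      constructor
      · intro hw
        by_contra hwZ
        apply hg
        have h1 : g⁻¹ ∈ Subgroup.normalizer (C : Set G) := by
          apply hC.mem_normalizer w.2.1 w.2.2 hwZ
          rwa [inv_inv]
        have := Subgroup.inv_mem _ h1
        rwa [inv_inv] at this
      · intro hwZ
        rw [conj_center hwZ]
        exact hC.center_le hwZ
  obtain ⟨t, ht⟩ := card_eq_add_of_stabilizer (H := ↥(N ⊓ C)) (α := G ⧸ C) ((Subgroup.center G).subgroupOf (N ⊓ C))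
    {p : G ⧸ C | ∃ g ∈ Subgroup.normalizer (C : Set G), (g : G ⧸ C) = p} hS hK
  refine ⟨t, ?_⟩
  rw [card_cosets_in] at ht
  exact ht

/-- the `Q`-torsion of the abelian group `N ⊓ C` -/
def tors {N C : Subgroup G} (hC : Comp N C) (Q : ℕ) : Subgroup G where
  carrier := {w | w ∈ N ∧ w ∈ C ∧ w ^ Q = 1}
  one_mem' := ⟨N.one_mem, C.one_mem, one_pow _⟩
  mul_mem' := by
    rintro a b ⟨haN, haC, ha⟩ ⟨hbN, hbC, hb⟩
    refine ⟨N.mul_mem haN hbN, C.mul_mem haC hbC, ?_⟩
    have : Commute a b := hC.comm haN haC hbC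
    rw [this.mul_pow, ha, hb, one_mul]
  inv_mem' := by
    rintro a ⟨haN, haC, ha⟩
    exact ⟨N.inv_mem haN, C.inv_mem haC, by rw [inv_pow, ha, inv_one]⟩

theorem mem_tors {N C : Subgroup G} (hC : Comp N C) (Q : ℕ) {w : G} :
    w ∈ tors hC Q ↔ w ∈ N ∧ w ∈ C ∧ w ^ Q = 1 := Iff.rfl

theorem tors_le {N C : Subgroup G} (hC : Comp N C) (Q : ℕ) : tors hC Q ≤ N ⊓ C :=
  fun _ hw => ⟨hw.1, hw.2.1⟩

theorem conj_mem_tors {N C : Subgroup G} [N.Normal] (hC : Comp N C) (Q : ℕ) {g w : G}
    (hg : g ∈ Subgroup.normalizer (C : Set G)) (hw : w ∈ tors hC Q) :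
    g * w * g⁻¹ ∈ tors hC Q := by
  refine ⟨‹N.Normal›.conj_mem w hw.1 g, Comp.conj_mem_of_normalizer hg hw.2.1, ?_⟩
  rw [conj_pow, hw.2.2, mul_one, mul_inv_cancel]

theorem conj_not_center {w : G} (hw : w ∉ Subgroup.center G) (g : G) :
    g * w * g⁻¹ ∉ Subgroup.center G := by
  intro hc
  apply hw
  have := (Subgroup.center G).normal_of_characteristic.conj_mem _ hc g⁻¹
  have e : g⁻¹ * (g * w * g⁻¹) * g⁻¹⁻¹ = w := by group
  rwa [e] at this

/-- the conjugation action of the normalizer of `C` on the noncentral `Q`-torsion of `N ⊓ C` -/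
@[reducible]
def torsAction {N C : Subgroup G} [N.Normal] (hC : Comp N C) (Q : ℕ) :
    MulAction ↥(Subgroup.normalizer (C : Set G))
      {w : ↥(tors hC Q) // (w : G) ∉ Subgroup.center G} where
  smul g w := ⟨⟨(g : G) * (w.1 : G) * (g : G)⁻¹, conj_mem_tors hC Q g.2 w.1.2⟩,
    conj_not_center w.2 _⟩
  one_smul w := by
    apply Subtype.ext; apply Subtype.ext
    change ((1 : ↥(Subgroup.normalizer (C : Set G))) : G) * (w.1 : G) *
      ((1 : ↥(Subgroup.normalizer (C : Set G))) : G)⁻¹ = (w.1 : G)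
    simp
  mul_smul g h w := by
    apply Subtype.ext; apply Subtype.ext
    change ((g * h : ↥(Subgroup.normalizer (C : Set G))) : G) * (w.1 : G) *
      ((g * h : ↥(Subgroup.normalizer (C : Set G))) : G)⁻¹ =
      (g : G) * ((h : G) * (w.1 : G) * (h : G)⁻¹) * (g : G)⁻¹
    simp [mul_assoc]

/-- (3c) -/
theorem relIndex_dvd_card_tors [Finite G] {N C : Subgroup G} [N.Normal] (hC : Comp N C) (Q : ℕ) :
    C.relIndex (Subgroup.normalizer (C : Set G)) ∣
      Nat.card {w : ↥(tors hC Q) // (w : G) ∉ Subgroup.center G} := by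
  let _ := torsAction hC Q
  apply index_dvd_card_of_stabilizer (H := ↥(Subgroup.normalizer (C : Set G))) (C.subgroupOf (Subgroup.normalizer (C : Set G)))
  intro w
  ext g
  rw [MulAction.mem_stabilizer_iff, Subgroup.mem_subgroupOf]
  have hwN : (w.1 : G) ∈ N := w.1.2.1
  have hwC : (w.1 : G) ∈ C := w.1.2.2.1
  constructor
  · intro h
    have h1 : (g : G) * (w.1 : G) * (g : G)⁻¹ = (w.1 : G) :=
      congrArg (fun v : {w : ↥(tors hC Q) // (w : G) ∉ Subgroup.center G} => (v.1 : G)) h
    exact hC.mem_of_fix hwN hwC w.2 h1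
  · intro h
    apply Subtype.ext; apply Subtype.ext
    change (g : G) * (w.1 : G) * (g : G)⁻¹ = (w.1 : G)
    have h2 : (g : G) ∈ Cx (w.1 : G) := by rw [hC.cent _ hwN hwC w.2]; exact h
    rw [mem_Cx.mp h2]; group

theorem card_tors_split [Finite G] {N C : Subgroup G} (hC : Comp N C) (Q : ℕ) :
    Nat.card {w : ↥(tors hC Q) // (w : G) ∉ Subgroup.center G} =
      Nat.card (tors hC Q) - Nat.card (Subgroup.center G ⊓ tors hC Q : Subgroup G) := by
  classical
  have h1 : Nat.card (tors hC Q) =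
      Nat.card {w : ↥(tors hC Q) // (w : G) ∈ Subgroup.center G} +
      Nat.card {w : ↥(tors hC Q) // ¬ (w : G) ∈ Subgroup.center G} := by
    rw [← Nat.card_sum]
    exact Nat.card_congr (Equiv.sumCompl (fun w : ↥(tors hC Q) => (w : G) ∈ Subgroup.center G)).symm
  have h2 : Nat.card {w : ↥(tors hC Q) // (w : G) ∈ Subgroup.center G} =
      Nat.card (Subgroup.center G ⊓ tors hC Q : Subgroup G) := by
    apply Nat.card_congr
    refine ⟨fun w => ⟨w.1.1, w.2, w.1.2⟩, fun w => ⟨⟨w.1, w.2.2⟩, w.2.1⟩, ?_, ?_⟩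
    · intro w; rfl
    · intro w; rfl
  omega


/-- for a normal subgroup `Z`, the relative index of `Z` is monotone for divisibility -/
theorem relIndex_dvd_relIndex_of_le (Z : Subgroup G) [Z.Normal] {K L : Subgroup G} (hKL : K ≤ L) :
    Z.relIndex K ∣ Z.relIndex L := by
  have h1 : Z.relIndex (K ⊔ Z) = Z.relIndex K := Subgroup.relIndex_sup_right K Z
  have h2 : Z.relIndex (L ⊔ Z) = Z.relIndex L := Subgroup.relIndex_sup_right L Z
  have h3 := Subgroup.relIndex_mul_relIndex (H := Z) (K := K ⊔ Z) (L := L ⊔ Z) le_sup_right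
    (sup_le_sup_right hKL Z)
  rw [h1, h2] at h3
  exact Dvd.intro _ h3

/-- **Covering**: every noncentral element of `N` is conjugate into the component `C`. -/
theorem cover [Finite G] (N C : Subgroup G) [N.Normal] (m : ℕ) (H : NTwo N m) (hC : Comp N C)
    {x y : G} {r q a b : ℕ} (hr : r.Prime) (hq : q.Prime) (hrq : r ≠ q) (hxN : x ∈ N)
    (hyN : y ∈ N) (hxC : x ∈ C) (hyC : y ∈ C) (hxZ : x ∉ Subgroup.center G)
    (hyZ : y ∉ Subgroup.center G) (hxr : x ^ (r ^ a) = 1) (hyq : y ^ (q ^ b) = 1) :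
    ∀ v ∈ N, v ∉ Subgroup.center G → ∃ g : G, g * v * g⁻¹ ∈ C := by
  intro v hvN hvZ
  by_contra hcon0
  have hcon : ∀ g : G, g * v * g⁻¹ ∉ C := fun g hg => hcon0 ⟨g, hg⟩
  -- (3a)
  have h3a := dvd_of_not_conj (N := N) hC hcon
  rw [H.index_eq hvN hvZ] at h3a
  -- (3b)
  obtain ⟨t, ht⟩ := index_eq_add (N := N) hC
  have hCm : C.index = m := by
    rw [← hC.cent x hxN hxC hxZ]; exact H.index_eq hxN hxZ
  rw [hCm] at ht
  have hωe : (Subgroup.center G).relIndex (N ⊓ C) ∣
      C.relIndex (Subgroup.normalizer (C : Set G)) := by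
    have h1 : (Subgroup.center G).relIndex (N ⊓ C) ∣
        C.relIndex (Subgroup.normalizer (C : Set G)) +
          (Subgroup.center G).relIndex (N ⊓ C) * t := ht ▸ h3a
    exact (Nat.dvd_add_left (Dvd.intro _ rfl)).mp h1
  -- (3c) and the squeeze
  have hWq : IsPGroup q (tors hC (q ^ b)) := by
    intro w
    refine ⟨b, ?_⟩
    apply Subtype.ext
    exact w.2.2.2
  have hWr : IsPGroup r (tors hC (r ^ a)) := by
    intro w
    refine ⟨a, ?_⟩
    apply Subtype.ext
    exact w.2.2.2
  have hq' : ¬ tors hC (q ^ b) ≤ Subgroup.center G := fun h => hyZ (h ⟨hyN, hyC, hyq⟩)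
  have hr' : ¬ tors hC (r ^ a) ≤ Subgroup.center G := fun h => hxZ (h ⟨hxN, hxC, hxr⟩)
  have he1 : (Subgroup.center G).relIndex (tors hC (q ^ b)) ∣
      C.relIndex (Subgroup.normalizer (C : Set G)) :=
    (relIndex_dvd_relIndex_of_le _ (tors_le hC _)).trans hωe
  have he2 : (Subgroup.center G).relIndex (tors hC (r ^ a)) ∣
      C.relIndex (Subgroup.normalizer (C : Set G)) :=
    (relIndex_dvd_relIndex_of_le _ (tors_le hC _)).trans hωe
  have he3 := relIndex_dvd_card_tors hC (q ^ b)
  rw [card_tors_split] at he3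
  have he4 := relIndex_dvd_card_tors hC (r ^ a)
  rw [card_tors_split] at he4
  exact Cfsg.Agent.Lib.Helper5.NClassArith.squeeze (Subgroup.center G) (tors hC (q ^ b))
    (tors hC (r ^ a)) q r hq hr hrq hWq hWr hq' hr' _ he1 he2 he3 he4

end Cfsg.Agent.Lib.Helper7.NClass
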