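import Mathlib
import Cfsg.Agent.Lib.Helper7.NClassB
import Cfsg.Agent.Lib.Lead.NClassC

set_option autoImplicit false

/-!
# Normal subgroups with two `G`-class sizes: Lemma K

If two noncentral elements of `N` of coprime prime power orders commute, then `N` is abelian.
-/

namespace Cfsg.Agent.Lib.Helper7.NClass

open Cfsg.Agent.H2.ItoTwo

variable {G : Type*} [Group G]

/-- **Lemma K.** -/
theorem lemmaK [Finite G] (N : Subgroup G) [N.Normal] (m : ℕ) (H : NTwo N m)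
    {x y : G} {r q a b : ℕ} (hr : r.Prime) (hq : q.Prime) (hrq : r ≠ q) (hxN : x ∈ N)
    (hyN : y ∈ N) (hxZ : x ∉ Subgroup.center G) (hyZ : y ∉ Subgroup.center G)
    (hxy : x * y = y * x) (hxr : x ^ (r ^ a) = 1) (hyq : y ^ (q ^ b) = 1) :
    ∀ s ∈ N, ∀ t ∈ N, s * t = t * s := by
  obtain ⟨hC, hCy⟩ := H.comp_of_pair hr hq hrq hxN hyN hxZ hyZ hxy hxr hyq
  have hxC : x ∈ Cx x := self_mem_Cx x
  have hyC : y ∈ Cx x := hCy ▸ self_mem_Cx y
  have hcov := cover N (Cx x) m H hC hr hq hrq hxN hyN hxC hyC hxZ hyZ hxr hyq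
  have hcop : (orderOf x).Coprime (orderOf y) := by
    have h1 : orderOf x ∣ r ^ a := orderOf_dvd_of_pow_eq_one hxr
    have h2 : orderOf y ∣ q ^ b := orderOf_dvd_of_pow_eq_one hyq
    have h3 : Nat.Coprime (r ^ a) (q ^ b) :=
      Nat.Coprime.pow _ _ ((Nat.coprime_primes hr hq).mpr hrq)
    exact Nat.Coprime.coprime_dvd_left h1 (Nat.Coprime.coprime_dvd_right h2 h3)
  refine Cfsg.Agent.Lib.Lead.NClassC.comm_of_cover N (N ⊓ Cx x) inf_le_left ?_ ?_ ?_ ?_ ?_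
    x y ⟨hxN, hxC⟩ ⟨hyN, hyC⟩ hxZ hyZ hcop
  · intro z hz
    exact ⟨hz.1, hC.center_le hz.2⟩
  · intro a' ha' b' hb'
    exact hC.comm ha'.1 ha'.2 hb'.2
  · intro w hw hwZ v hvN hvw
    have h1 : v ∈ Cx w := mem_Cx.mpr hvw
    rw [hC.cent w hw.1 hw.2 hwZ] at h1
    exact ⟨hvN, h1⟩
  · rintro g ⟨w, hw, hwZ, hgw⟩ w' hw'
    have hg := hC.mem_normalizer hw.1 hw.2 hwZ hgw.2
    exact ⟨‹N.Normal›.conj_mem w' hw'.1 g, Comp.conj_mem_of_normalizer hg hw'.2⟩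
  · intro v hvN hvZ
    obtain ⟨g, hg⟩ := hcov v hvN hvZ
    exact ⟨g, ‹N.Normal›.conj_mem v hvN g, hg⟩

end Cfsg.Agent.Lib.Helper7.NClass
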