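import Mathlib
import Cfsg.Agent.Lib.Helper7.Qd8

set_option autoImplicit false

namespace Cfsg.Agent.Lib.Helper7

open Cfsg Matrix
open scoped Pointwise

variable {K : Type*} [Field K]

theorem conj_mem_U_of_block10 (g : ↥(qdOver K))
    (hg : (blockHom g : Matrix (Fin 2) (Fin 2) K) 1 0 = 0) {h : ↥(qdOver K)}
    (hh : h ∈ (utHom (K := K)).range) : g * h * g⁻¹ ∈ (utHom (K := K)).range := by
  obtain ⟨a, ha⟩ := (mem_utHom_range_iff h).mp hh
  rw [mem_utHom_range_iff]
  have e : blockHom (g * h * g⁻¹) = blockHom g * uSL2 a * (blockHom g)⁻¹ := by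
    rw [map_mul, map_mul, map_inv, ha]
  rw [e]
  refine ⟨_, eq_uSL2_of_entries _ ?_ ?_ ?_⟩
  · rw [conj_uSL2_00, hg]; ring
  · rw [conj_uSL2_10, hg]; ring
  · rw [conj_uSL2_11, hg]; ring

theorem block10_inv (g : ↥(qdOver K)) :
    (blockHom g⁻¹ : Matrix (Fin 2) (Fin 2) K) 1 0 = - (blockHom g : Matrix (Fin 2) (Fin 2) K) 1 0 := by
  rw [map_inv]
  show (adjugate (blockHom g : Matrix (Fin 2) (Fin 2) K)) 1 0 = _
  rw [Matrix.adjugate_fin_two]
  simp

theorem mem_normalizer_U_of_block10 (g : ↥(qdOver K))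
    (hg : (blockHom g : Matrix (Fin 2) (Fin 2) K) 1 0 = 0) :
    g ∈ Subgroup.normalizer (((utHom (K := K)).range : Subgroup ↥(qdOver K)) : Set ↥(qdOver K)) := by
  rw [Subgroup.mem_normalizer_iff]
  intro h
  constructor
  · exact conj_mem_U_of_block10 g hg
  · intro hh
    have hg' : (blockHom g⁻¹ : Matrix (Fin 2) (Fin 2) K) 1 0 = 0 := by
      rw [block10_inv, hg, neg_zero]
    have := conj_mem_U_of_block10 g⁻¹ hg' hh
    have e : g⁻¹ * (g * h * g⁻¹) * g⁻¹⁻¹ = h := by group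
    rwa [e] at this

theorem block10_of_mem_normalizer (T : Subgroup ↥(utHom (K := K)).range) (hT : T ≠ ⊥)
    (hTc : T.Characteristic) {g : ↥(qdOver K)}
    (hg : g ∈ Subgroup.normalizer
      ((T.map (utHom (K := K)).range.subtype : Subgroup ↥(qdOver K)) : Set ↥(qdOver K))) :
    (blockHom g : Matrix (Fin 2) (Fin 2) K) 1 0 = 0 := by
  set e₀ : H3 K ≃* ↥(utHom (K := K)).range := MonoidHom.ofInjective utHom_injective with he₀
  have he₀c : ∀ x : H3 K, ((e₀ x : ↥(utHom (K := K)).range) : ↥(qdOver K)) = utHom x :=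
    fun x => rfl
  set TH : Subgroup (H3 K) := T.comap e₀.toMonoidHom with hTH
  have hTHc : TH.Characteristic := characteristic_comap_equiv e₀ T hTc
  have hmemT' : ∀ x : H3 K, x ∈ TH → utHom x ∈ T.map (utHom (K := K)).range.subtype := by
    intro x hx
    exact ⟨e₀ x, hx, rfl⟩
  have hback : ∀ z ∈ T.map (utHom (K := K)).range.subtype, ∃ y ∈ TH, utHom y = z := by
    rintro _ ⟨w, hw, rfl⟩
    refine ⟨e₀.symm w, ?_, ?_⟩
    · show e₀ (e₀.symm w) ∈ T
      rw [MulEquiv.apply_symm_apply]; exact hw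
    · rw [← he₀c, MulEquiv.apply_symm_apply]; rfl
  have hconj : ∀ z ∈ T.map (utHom (K := K)).range.subtype,
      g * z * g⁻¹ ∈ T.map (utHom (K := K)).range.subtype := fun z hz =>
    (Subgroup.mem_normalizer_iff.mp hg z).mp hz
  by_contra hc
  -- step 1
  have step1 : ∀ x ∈ TH, x.a = 0 := by
    intro x hx
    obtain ⟨y, hy, hyz⟩ := hback _ (hconj _ (hmemT' x hx))
    have hb := congrArg blockHom hyz
    rw [map_mul, map_mul, map_inv, blockHom_utHom, blockHom_utHom] at hb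
    have h10 : ((uSL2 y.a : SpecialLinearGroup (Fin 2) K) : Matrix (Fin 2) (Fin 2) K) 1 0 =
        ((blockHom g * uSL2 x.a * (blockHom g)⁻¹ : SpecialLinearGroup (Fin 2) K) :
          Matrix (Fin 2) (Fin 2) K) 1 0 := by rw [hb]
    rw [conj_uSL2_10] at h10
    have h0 : ((uSL2 y.a : SpecialLinearGroup (Fin 2) K) : Matrix (Fin 2) (Fin 2) K) 1 0 = 0 := by
      show (!![1, y.a; 0, 1] : Matrix (Fin 2) (Fin 2) K) 1 0 = 0
      simp
    rw [h0] at h10
    have h1 : x.a * (blockHom g : Matrix (Fin 2) (Fin 2) K) 1 0 ^ 2 = 0 := by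
      have := neg_eq_zero.mp h10.symm
      exact this
    rcases mul_eq_zero.mp h1 with h | h
    · exact h
    · exact absurd ((pow_eq_zero_iff (two_ne_zero)).mp h) hc
  have step2 : ∀ x ∈ TH, x.c = 0 := by
    intro x hx
    have := step1 _ (H3.theta_mem_of_characteristic TH hTHc hx)
    rwa [H3.theta_a] at this
  -- step 3
  obtain ⟨⟨w, hwT⟩, hw1⟩ := (Subgroup.ne_bot_iff_exists_ne_one).mp hT
  set x : H3 K := e₀.symm w with hx
  have hxT : x ∈ TH := by
    show e₀ (e₀.symm w) ∈ T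
    rw [MulEquiv.apply_symm_apply]; exact hwT
  have hxa := step1 x hxT
  have hxc := step2 x hxT
  have hxb : x.b ≠ 0 := by
    intro hb
    apply hw1
    have hx1 : x = 1 := by
      apply H3.ext
      · rw [hxa]; rfl
      · rw [hb]; rfl
      · rw [hxc]; rfl
    have : e₀ x = 1 := by rw [hx1, map_one]
    rw [hx, MulEquiv.apply_symm_apply] at this
    exact Subtype.ext this
  have hux : utHom x = aff 1 ![x.b, 0] := by
    rw [utHom_eq_aff, hxa, hxc, uSL2_zero]
  obtain ⟨y, hy, hyz⟩ := hback _ (hconj _ (hmemT' x hxT))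
  rw [hux, conj_transl, utHom_eq_aff] at hyz
  have h2 := (aff_injective hyz).2
  have h3 := congrFun h2 1
  have hyc := step2 y hy
  simp [Matrix.mulVec, dotProduct, Fin.sum_univ_two, hyc] at h3
  rcases h3 with h | h
  · exact hc h
  · exact hxb h

theorem normalizer_char_U (T : Subgroup ↥(utHom (K := K)).range) (hT : T ≠ ⊥)
    (hTc : T.Characteristic) :
    Subgroup.normalizer
      ((T.map (utHom (K := K)).range.subtype : Subgroup ↥(qdOver K)) : Set ↥(qdOver K)) =
    Subgroup.normalizer (((utHom (K := K)).range : Subgroup ↥(qdOver K)) : Set ↥(qdOver K)) :=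
  le_antisymm (fun g hg => mem_normalizer_U_of_block10 g (block10_of_mem_normalizer T hT hTc hg))
    (normalizer_le_normalizer_of_characteristic _ T hTc)

theorem normalizer_U_ne_top :
    Subgroup.normalizer (((utHom (K := K)).range : Subgroup ↥(qdOver K)) : Set ↥(qdOver K)) ≠ ⊤ := by
  intro h
  have hw : diagHom (wSL2 (K := K)) ∈
      Subgroup.normalizer (((utHom (K := K)).range : Subgroup ↥(qdOver K)) : Set ↥(qdOver K)) := by
    rw [h]; exact Subgroup.mem_top _
  have h1 := (Subgroup.mem_normalizer_iff.mp hw (utHom ⟨1, 0, 0⟩)).mp ⟨_, rfl⟩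
  obtain ⟨a, ha⟩ := (mem_utHom_range_iff _).mp h1
  rw [map_mul, map_mul, map_inv, blockHom_utHom, blockHom_diagHom] at ha
  have h10 : ((wSL2 * uSL2 (1 : K) * (wSL2)⁻¹ : SpecialLinearGroup (Fin 2) K) :
      Matrix (Fin 2) (Fin 2) K) 1 0 =
      ((uSL2 a : SpecialLinearGroup (Fin 2) K) : Matrix (Fin 2) (Fin 2) K) 1 0 := by rw [ha]
  rw [conj_uSL2_10] at h10
  have h0 : ((uSL2 a : SpecialLinearGroup (Fin 2) K) : Matrix (Fin 2) (Fin 2) K) 1 0 = 0 := by
    show (!![1, a; 0, 1] : Matrix (Fin 2) (Fin 2) K) 1 0 = 0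
    simp
  have hw10 : ((wSL2 (K := K) : SpecialLinearGroup (Fin 2) K) : Matrix (Fin 2) (Fin 2) K) 1 0 = -1 := by
    show (!![0, 1; -1, 0] : Matrix (Fin 2) (Fin 2) K) 1 0 = -1
    simp
  rw [h0, hw10] at h10
  simp at h10

section finite

variable [Fintype K] {p : ℕ} [Fact p.Prime] [CharP K p]

theorem qd_char_normalizer (S : Sylow p ↥(qdOver K)) (T : Subgroup ↥(S : Subgroup ↥(qdOver K)))
    (hT : T ≠ ⊥) (hTc : T.Characteristic) :
    Subgroup.normalizer
      ((T.map (S : Subgroup ↥(qdOver K)).subtype : Subgroup ↥(qdOver K)) : Set ↥(qdOver K)) =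
      Subgroup.normalizer ((S : Subgroup ↥(qdOver K)) : Set ↥(qdOver K)) ∧
    Subgroup.normalizer ((S : Subgroup ↥(qdOver K)) : Set ↥(qdOver K)) ≠ ⊤ := by
  obtain ⟨P₀, hP₀⟩ := exists_sylow_eq_utHom_range (K := K) (p := p)
  obtain ⟨g, hg⟩ := MulAction.exists_smul_eq ↥(qdOver K) P₀ S
  have hS : (S : Subgroup ↥(qdOver K)) =
      ((utHom (K := K)).range).map (MulAut.conj g).toMonoidHom := by
    rw [← hg, ← hP₀]
    ext z
    rw [Sylow.coe_subgroup_smul, Subgroup.mem_map]
    constructor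
    · intro hz
      rw [Subgroup.mem_pointwise_smul_iff_inv_smul_mem] at hz
      refine ⟨_, hz, ?_⟩
      show (MulAut.conj g) ((MulAut.conj g)⁻¹ z) = z
      rw [MulAut.apply_inv_self]
    · rintro ⟨y, hy, rfl⟩
      exact Subgroup.smul_mem_pointwise_smul _ _ _ hy
  refine ⟨char_normalizer_transport _ _ g hS (fun T hT hTc => normalizer_char_U T hT hTc) T hT hTc,
    ?_⟩
  rw [hS, ← Subgroup.map_equiv_normalizer_eq]
  intro h
  apply normalizer_U_ne_top (K := K)
  have := congrArg (Subgroup.comap (MulAut.conj g).toMonoidHom) h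
  rwa [Subgroup.comap_map_eq_self_of_injective (MulAut.conj g).injective, Subgroup.comap_top] at this

end finite

end Cfsg.Agent.Lib.Helper7
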