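import Mathlib
import Cfsg.Prelude.Def_LocalEven
import Cfsg.Agent.Lib.Helper7.Qd9
import Cfsg.Agent.S0263

set_option autoImplicit false

namespace Cfsg.Agent.Lib.Helper7

open Cfsg Matrix

section basic

variable {F : Type*} [Field F]

theorem uSL2_add (a b : F) : uSL2 (a + b) = uSL2 a * uSL2 b := by
  apply Subtype.ext
  show (!![1, a + b; 0, 1] : Matrix (Fin 2) (Fin 2) F) = !![1, a; 0, 1] * !![1, b; 0, 1]
  ext i j
  fin_cases i <;> fin_cases j <;> simp [Matrix.mul_apply, Fin.sum_univ_two, add_comm]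

theorem uSL2_injective : Function.Injective (uSL2 (K := F)) := by
  intro a b h
  have : ((uSL2 a : SpecialLinearGroup (Fin 2) F) : Matrix (Fin 2) (Fin 2) F) 0 1 =
      ((uSL2 b : SpecialLinearGroup (Fin 2) F) : Matrix (Fin 2) (Fin 2) F) 0 1 := by rw [h]
  exact this

theorem uSL2_mulVec (a : F) (v : Fin 2 → F) :
    ((uSL2 a : SpecialLinearGroup (Fin 2) F) : Matrix (Fin 2) (Fin 2) F).mulVec v =
      ![v 0 + a * v 1, v 1] := by
  show (!![1, a; 0, 1] : Matrix (Fin 2) (Fin 2) F).mulVec v = _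
  ext i
  fin_cases i <;> simp [Matrix.mulVec, dotProduct, Fin.sum_univ_two]

/-- the unipotent subgroup as a homomorphism from the additive group of the field -/
def uHom : Multiplicative F →* SpecialLinearGroup (Fin 2) F where
  toFun a := uSL2 (Multiplicative.toAdd a)
  map_one' := uSL2_zero
  map_mul' a b := uSL2_add _ _

theorem uHom_injective : Function.Injective (uHom (F := F)) := by
  intro a b h
  exact Multiplicative.toAdd.injective (uSL2_injective h)

theorem mem_range_uHom (A : SpecialLinearGroup (Fin 2) F) :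
    A ∈ (uHom (F := F)).range ↔ ∃ a, A = uSL2 a := by
  constructor
  · rintro ⟨a, rfl⟩; exact ⟨_, rfl⟩
  · rintro ⟨a, rfl⟩; exact ⟨Multiplicative.ofAdd a, rfl⟩

/-- multiplication by an element of `SL₂` as an additive automorphism of `F²` -/
def mulVecEquiv (B : SpecialLinearGroup (Fin 2) F) : (Fin 2 → F) ≃+ (Fin 2 → F) where
  toFun v := (B : Matrix (Fin 2) (Fin 2) F).mulVec v
  invFun v := ((B⁻¹ : SpecialLinearGroup (Fin 2) F) : Matrix (Fin 2) (Fin 2) F).mulVec v
  left_inv v := by
    show ((B⁻¹ : SpecialLinearGroup (Fin 2) F) : Matrix (Fin 2) (Fin 2) F).mulVec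
      ((B : Matrix (Fin 2) (Fin 2) F).mulVec v) = v
    rw [Matrix.mulVec_mulVec]
    have : ((B⁻¹ : SpecialLinearGroup (Fin 2) F) : Matrix (Fin 2) (Fin 2) F) *
        (B : Matrix (Fin 2) (Fin 2) F) = 1 := by
      have h := congrArg (fun M : SpecialLinearGroup (Fin 2) F => (M : Matrix (Fin 2) (Fin 2) F))
        (inv_mul_cancel B)
      exact h
    rw [this, Matrix.one_mulVec]
  right_inv v := by
    show (B : Matrix (Fin 2) (Fin 2) F).mulVec
      (((B⁻¹ : SpecialLinearGroup (Fin 2) F) : Matrix (Fin 2) (Fin 2) F).mulVec v) = v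
    rw [Matrix.mulVec_mulVec]
    have : (B : Matrix (Fin 2) (Fin 2) F) *
        ((B⁻¹ : SpecialLinearGroup (Fin 2) F) : Matrix (Fin 2) (Fin 2) F) = 1 := by
      have h := congrArg (fun M : SpecialLinearGroup (Fin 2) F => (M : Matrix (Fin 2) (Fin 2) F))
        (mul_inv_cancel B)
      exact h
    rw [this, Matrix.one_mulVec]
  map_add' v w := Matrix.mulVec_add _ v w

theorem mulVecEquiv_apply (B : SpecialLinearGroup (Fin 2) F) (v : Fin 2 → F) :
    mulVecEquiv B v = (B : Matrix (Fin 2) (Fin 2) F).mulVec v := rfl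

end basic

section finite

variable {F : Type*} [Field F] [Fintype F] {p : ℕ} [Fact p.Prime] [CharP F p]

theorem card_dvd_of_isPGroup_sl2 (P : Subgroup (SpecialLinearGroup (Fin 2) F)) (hP : IsPGroup p P) :
    Nat.card P ∣ Fintype.card F := by
  classical
  obtain ⟨Q, hQ⟩ := (hP.map (SpecialLinearGroup.toGL (n := Fin 2) (R := F))).exists_le_sylow
  have h1 : Nat.card Q = Fintype.card F ^ (2 * (2 - 1) / 2) :=
    Cfsg.Agent.S0263.result (F := F) rfl p 2 Q
  have h2 : Nat.card (P.map (SpecialLinearGroup.toGL (n := Fin 2) (R := F))) = Nat.card P :=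
    Subgroup.card_map_of_injective SpecialLinearGroup.toGL_injective
  have h3 := Subgroup.card_dvd_of_le hQ
  rw [h2, h1] at h3
  simpa using h3

theorem card_range_uHom : Nat.card (uHom (F := F)).range = Fintype.card F := by
  have h1 : Nat.card (uHom (F := F)).range = Nat.card (Multiplicative F) :=
    (Nat.card_congr (Equiv.ofInjective _ (uHom_injective (F := F)))).symm
  rw [h1, ← Nat.card_eq_fintype_card]
  exact Nat.card_congr Multiplicative.toAdd

theorem isPGroup_range_uHom : IsPGroup p (uHom (F := F)).range := by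
  obtain ⟨k, _, hk⟩ := FiniteField.card F p
  apply IsPGroup.of_card (n := k)
  rw [card_range_uHom, hk]

theorem exists_sylow_eq_range_uHom :
    ∃ P : Sylow p (SpecialLinearGroup (Fin 2) F),
      (P : Subgroup (SpecialLinearGroup (Fin 2) F)) = (uHom (F := F)).range := by
  classical
  obtain ⟨P, hP⟩ := (isPGroup_range_uHom (F := F) (p := p)).exists_le_sylow
  refine ⟨P, ?_⟩
  symm
  apply Subgroup.eq_of_le_of_card_ge hP
  rw [card_range_uHom]
  exact Nat.le_of_dvd Fintype.card_pos (card_dvd_of_isPGroup_sl2 _ P.2)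

theorem sylow_sl2_conj (P : Sylow p (SpecialLinearGroup (Fin 2) F)) :
    ∃ B : SpecialLinearGroup (Fin 2) F, ∀ A, A ∈ P ↔ ∃ a, B⁻¹ * A * B = uSL2 a := by
  classical
  obtain ⟨P₀, hP₀⟩ := exists_sylow_eq_range_uHom (F := F) (p := p)
  obtain ⟨B, hB⟩ := MulAction.exists_smul_eq (SpecialLinearGroup (Fin 2) F) P₀ P
  refine ⟨B, fun A => ?_⟩
  rw [← hB, ← mem_range_uHom, ← hP₀]
  show A ∈ ((B • P₀ : Sylow p _) : Subgroup _) ↔ _
  rw [Sylow.coe_subgroup_smul, Subgroup.mem_pointwise_smul_iff_inv_smul_mem]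
  have : (MulAut.conj B)⁻¹ • A = B⁻¹ * A * B := by
    show (MulAut.conj B)⁻¹ A = _
    rw [MulAut.conj_inv_apply]
  rw [this]

end finite

end Cfsg.Agent.Lib.Helper7
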