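import Mathlib
import Cfsg.Prelude.Def_LocalEven
import Cfsg.Agent.Lib.Helper7.NatSL1

set_option autoImplicit false

namespace Cfsg.Agent.Lib.Helper7

open Cfsg Matrix

variable {F : Type*} [Field F] [Fintype F] {p : ℕ} [Fact p.Prime] [CharP F p]

/-- normal form of a faithful natural `SL₂(F)`-module together with a Sylow `p`-subgroup: the Sylow
subgroup corresponds to the upper unitriangular matrices -/
theorem natural_normalize {G : Type*} [Group G] [Finite G] (V L : Subgroup G)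
    (hnat : IsNaturalSL2Module F V L) (hf : L ⊓ Subgroup.centralizer (V : Set G) = ⊥)
    (S : Sylow p ↥L) :
    ∃ (ρ : L →* SpecialLinearGroup (Fin 2) F) (ψ : Additive V ≃+ (Fin 2 → F)),
      Function.Bijective ρ ∧
      (∀ (l : L) (v : V), ∃ w : V, (w : G) = (l : G) * (v : G) * (l : G)⁻¹ ∧
        ψ (Additive.ofMul w) =
          ((ρ l : SpecialLinearGroup (Fin 2) F) : Matrix (Fin 2) (Fin 2) F).mulVec
            (ψ (Additive.ofMul v))) ∧
      (∀ l : L, l ∈ S ↔ ∃ a, ρ l = uSL2 a) := by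
  classical
  obtain ⟨-, ρ, ψ, hsurj, hker, hconj⟩ := hnat
  have hinj : Function.Injective ρ := by
    rw [← MonoidHom.ker_eq_bot_iff, hker, eq_bot_iff]
    intro x hx
    rw [Subgroup.mem_subgroupOf] at hx
    have : (x : G) ∈ L ⊓ Subgroup.centralizer (V : Set G) := ⟨x.2, hx⟩
    rw [hf, Subgroup.mem_bot] at this
    rw [Subgroup.mem_bot]
    exact Subtype.ext this
  obtain ⟨B, hB⟩ := sylow_sl2_conj (S.mapSurjective hsurj)
  refine ⟨(MulAut.conj B⁻¹).toMonoidHom.comp ρ, ψ.trans (mulVecEquiv B⁻¹), ?_, ?_, ?_⟩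
  · exact (MulAut.conj B⁻¹).bijective.comp ⟨hinj, hsurj⟩
  · intro l v
    obtain ⟨w, hw, hwψ⟩ := hconj l v
    refine ⟨w, hw, ?_⟩
    show mulVecEquiv B⁻¹ (ψ (Additive.ofMul w)) =
      ((B⁻¹ * ρ l * B⁻¹⁻¹ : SpecialLinearGroup (Fin 2) F) : Matrix (Fin 2) (Fin 2) F).mulVec
        (mulVecEquiv B⁻¹ (ψ (Additive.ofMul v)))
    rw [mulVecEquiv_apply, mulVecEquiv_apply, hwψ, Matrix.mulVec_mulVec, Matrix.mulVec_mulVec]
    congr 1
    show ((B⁻¹ * ρ l : SpecialLinearGroup (Fin 2) F) : Matrix (Fin 2) (Fin 2) F) =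
      ((B⁻¹ * ρ l * B⁻¹⁻¹ * B⁻¹ : SpecialLinearGroup (Fin 2) F) : Matrix (Fin 2) (Fin 2) F)
    congr 1
    exact (inv_mul_cancel_right (B⁻¹ * ρ l) B⁻¹).symm
  · intro l
    have h1 : l ∈ S ↔ ρ l ∈ S.mapSurjective hsurj := by
      constructor
      · intro hl
        exact ⟨l, hl, rfl⟩
      · rintro ⟨s, hs, hsl⟩
        have := hinj hsl
        rw [← this]; exact hs
    rw [h1, hB]
    show _ ↔ ∃ a, B⁻¹ * ρ l * B⁻¹⁻¹ = uSL2 a
    rw [inv_inv]

end Cfsg.Agent.Lib.Helper7
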