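import Mathlib
import Cfsg.Prelude.Def_LocalEven
import Cfsg.Agent.Lib.Helper7.NatSL2

set_option autoImplicit false

namespace Cfsg.Agent.Lib.Helper7

open Cfsg Matrix

/-- normalized data of a faithful natural `SL₂(F)`-module `V` for `L` with `T ≤ L` corresponding to
the upper unitriangular matrices -/
structure NatCtx (F : Type*) [Field F] {G : Type*} [Group G] (V L T : Subgroup G) where
  ρ : L →* SpecialLinearGroup (Fin 2) F
  ψ : Additive V ≃+ (Fin 2 → F)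
  bij : Function.Bijective ρ
  conj : ∀ (l : L) (v : V), ∃ w : V, (w : G) = (l : G) * (v : G) * (l : G)⁻¹ ∧
    ψ (Additive.ofMul w) =
      ((ρ l : SpecialLinearGroup (Fin 2) F) : Matrix (Fin 2) (Fin 2) F).mulVec (ψ (Additive.ofMul v))
  hT : ∀ l : L, (l : G) ∈ T ↔ ∃ a, ρ l = uSL2 a
  hTL : T ≤ L

namespace NatCtx

variable {F : Type*} [Field F] {G : Type*} [Group G] {V L T : Subgroup G} (C : NatCtx F V L T)

include C

/-- the vector of an element of `V` -/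
def vec (v : G) (hv : v ∈ V) : Fin 2 → F := C.ψ (Additive.ofMul ⟨v, hv⟩)

theorem vec_mul {v w : G} (hv : v ∈ V) (hw : w ∈ V) :
    C.vec (v * w) (V.mul_mem hv hw) = C.vec v hv + C.vec w hw := by
  unfold vec
  rw [← map_add]
  rfl

theorem vec_one : C.vec 1 V.one_mem = 0 := by
  unfold vec
  have : (Additive.ofMul (⟨1, V.one_mem⟩ : V)) = 0 := rfl
  rw [this, map_zero]

theorem vec_inv {v : G} (hv : v ∈ V) : C.vec v⁻¹ (V.inv_mem hv) = - C.vec v hv := by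
  have h := C.vec_mul hv (V.inv_mem hv)
  have h1 : C.vec (v * v⁻¹) (V.mul_mem hv (V.inv_mem hv)) = 0 := by
    have : C.vec (v * v⁻¹) (V.mul_mem hv (V.inv_mem hv)) = C.vec 1 V.one_mem := by
      congr 1
      exact mul_inv_cancel v
    rw [this, vec_one]
  rw [h1] at h
  exact eq_neg_of_add_eq_zero_right h.symm

theorem vec_injective {v w : G} (hv : v ∈ V) (hw : w ∈ V) (h : C.vec v hv = C.vec w hw) : v = w := by
  unfold vec at h
  have := C.ψ.injective h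
  exact congrArg (fun x : Additive V => ((Additive.toMul x : V) : G)) this

theorem vec_surjective (u : Fin 2 → F) : ∃ v, ∃ hv : v ∈ V, C.vec v hv = u := by
  obtain ⟨x, hx⟩ := C.ψ.surjective u
  exact ⟨(Additive.toMul x : V), (Additive.toMul x : V).2, hx⟩

theorem vec_eq_zero_iff {v : G} (hv : v ∈ V) : C.vec v hv = 0 ↔ v = 1 := by
  constructor
  · intro h
    rw [← C.vec_one] at h
    exact C.vec_injective hv V.one_mem h
  · intro h
    subst h
    exact C.vec_one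

theorem conj_mem {l v : G} (hl : l ∈ L) (hv : v ∈ V) : l * v * l⁻¹ ∈ V := by
  obtain ⟨w, hw, -⟩ := C.conj ⟨l, hl⟩ ⟨v, hv⟩
  rw [← hw]; exact w.2

theorem vec_conj {l v : G} (hl : l ∈ L) (hv : v ∈ V) :
    C.vec (l * v * l⁻¹) (C.conj_mem hl hv) =
      ((C.ρ ⟨l, hl⟩ : SpecialLinearGroup (Fin 2) F) : Matrix (Fin 2) (Fin 2) F).mulVec (C.vec v hv) := by
  obtain ⟨w, hw, hwψ⟩ := C.conj ⟨l, hl⟩ ⟨v, hv⟩
  unfold vec
  rw [← hwψ]
  congr 2
  exact Subtype.ext hw.symm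

/-- the field element attached to an element of `T` -/
theorem exists_alpha {t : G} (ht : t ∈ T) : ∃ a : F, C.ρ ⟨t, C.hTL ht⟩ = uSL2 a :=
  (C.hT ⟨t, C.hTL ht⟩).mp ht

theorem exists_of_alpha (a : F) : ∃ t, ∃ ht : t ∈ T, C.ρ ⟨t, C.hTL ht⟩ = uSL2 a := by
  obtain ⟨l, hl⟩ := C.bij.2 (uSL2 a)
  have : (l : G) ∈ T := (C.hT l).mpr ⟨a, hl⟩
  exact ⟨l, this, hl⟩

theorem eq_one_of_alpha_zero {t : G} (ht : t ∈ T) (h : C.ρ ⟨t, C.hTL ht⟩ = uSL2 0) : t = 1 := by
  rw [uSL2_zero, ← map_one C.ρ] at h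
  have := C.bij.1 h
  exact congrArg Subtype.val this

theorem vec_conj_T {t v : G} (ht : t ∈ T) (hv : v ∈ V) {a : F}
    (ha : C.ρ ⟨t, C.hTL ht⟩ = uSL2 a) :
    C.vec (t * v * t⁻¹) (C.conj_mem (C.hTL ht) hv) =
      ![C.vec v hv 0 + a * C.vec v hv 1, C.vec v hv 1] := by
  rw [C.vec_conj (C.hTL ht) hv, ha, uSL2_mulVec]

/-- the commutator `[v, t] = v t v⁻¹ t⁻¹` -/
theorem comm_mem {t v : G} (ht : t ∈ T) (hv : v ∈ V) : v * t * v⁻¹ * t⁻¹ ∈ V := by
  have : v * t * v⁻¹ * t⁻¹ = v * (t * v⁻¹ * t⁻¹) := by group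
  rw [this]
  exact V.mul_mem hv (C.conj_mem (C.hTL ht) (V.inv_mem hv))

theorem vec_comm {t v : G} (ht : t ∈ T) (hv : v ∈ V) {a : F}
    (ha : C.ρ ⟨t, C.hTL ht⟩ = uSL2 a) :
    C.vec (v * t * v⁻¹ * t⁻¹) (C.comm_mem ht hv) = ![- (a * C.vec v hv 1), 0] := by
  have e : v * t * v⁻¹ * t⁻¹ = v * (t * v⁻¹ * t⁻¹) := by group
  have h1 : C.vec (v * t * v⁻¹ * t⁻¹) (C.comm_mem ht hv) =
      C.vec (v * (t * v⁻¹ * t⁻¹)) (V.mul_mem hv (C.conj_mem (C.hTL ht) (V.inv_mem hv))) := by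
    congr 1
  rw [h1, C.vec_mul hv (C.conj_mem (C.hTL ht) (V.inv_mem hv)),
    C.vec_conj_T ht (V.inv_mem hv) ha, C.vec_inv hv]
  ext i
  fin_cases i
  · simp
  · simp

/-- `t` commutes with `v` iff ... -/
theorem commute_iff {t v : G} (ht : t ∈ T) (hv : v ∈ V) {a : F}
    (ha : C.ρ ⟨t, C.hTL ht⟩ = uSL2 a) : t * v = v * t ↔ a * C.vec v hv 1 = 0 := by
  have h1 : t * v = v * t ↔ t * v * t⁻¹ = v := by
    constructor
    · intro h; rw [h]; group
    · intro h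
      have := congrArg (fun z => z * t) h
      simpa [mul_assoc] using this
  rw [h1]
  constructor
  · intro h
    have h2 := C.vec_conj_T ht hv ha
    have h3 : C.vec (t * v * t⁻¹) (C.conj_mem (C.hTL ht) hv) = C.vec v hv := by
      congr 1
    rw [h3] at h2
    have := congrFun h2 0
    simpa using this
  · intro h
    apply C.vec_injective (C.conj_mem (C.hTL ht) hv) hv
    rw [C.vec_conj_T ht hv ha, h, add_zero]
    ext i
    fin_cases i <;> rfl

end NatCtx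

end Cfsg.Agent.Lib.Helper7
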