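import Mathlib
import Cfsg.Prelude.Def_LocalEven
import Cfsg.Agent.Lib.Helper7.NatSL3

set_option autoImplicit false

namespace Cfsg.Agent.Lib.Helper7

open Cfsg Matrix

namespace NatCtx

variable {F : Type*} [Field F] {G : Type*} [Group G] {V L T : Subgroup G} (C : NatCtx F V L T)

include C

/-- the fixed line -/
def W : Subgroup G where
  carrier := {v | ∃ hv : v ∈ V, C.vec v hv 1 = 0}
  one_mem' := ⟨V.one_mem, by rw [C.vec_one]; rfl⟩
  mul_mem' := by
    rintro v w ⟨hv, h1⟩ ⟨hw, h2⟩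
    exact ⟨V.mul_mem hv hw, by rw [C.vec_mul hv hw, Pi.add_apply, h1, h2, add_zero]⟩
  inv_mem' := by
    rintro v ⟨hv, h1⟩
    exact ⟨V.inv_mem hv, by rw [C.vec_inv hv, Pi.neg_apply, h1, neg_zero]⟩

theorem mem_W {v : G} : v ∈ C.W ↔ ∃ hv : v ∈ V, C.vec v hv 1 = 0 := Iff.rfl

theorem W_le_V : C.W ≤ V := fun _ h => h.1

theorem vec_eta {v : G} (hv : v ∈ V) : C.vec v hv = ![C.vec v hv 0, C.vec v hv 1] := by
  ext i
  fin_cases i <;> rfl

theorem exists_ne_one : ∃ s ∈ T, s ≠ 1 := by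
  obtain ⟨t, ht, hta⟩ := C.exists_of_alpha 1
  refine ⟨t, ht, ?_⟩
  rintro rfl
  have h1 : C.ρ ⟨1, C.hTL ht⟩ = 1 := map_one C.ρ
  rw [h1, ← uSL2_zero] at hta
  have := uSL2_injective hta
  exact zero_ne_one this

theorem alpha_ne_zero {s : G} (hs : s ∈ T) (hs1 : s ≠ 1) {a : F}
    (ha : C.ρ ⟨s, C.hTL hs⟩ = uSL2 a) : a ≠ 0 := by
  rintro rfl
  exact hs1 (C.eq_one_of_alpha_zero hs ha)

theorem inf_centralizer_T : V ⊓ Subgroup.centralizer (T : Set G) = C.W := by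
  ext v
  rw [Subgroup.mem_inf, Subgroup.mem_centralizer_iff, mem_W]
  constructor
  · rintro ⟨hv, hc⟩
    refine ⟨hv, ?_⟩
    obtain ⟨t, ht, hta⟩ := C.exists_of_alpha 1
    have := (C.commute_iff ht hv hta).mp (hc t ht)
    rwa [one_mul] at this
  · rintro ⟨hv, h0⟩
    refine ⟨hv, fun t ht => ?_⟩
    obtain ⟨a, ha⟩ := C.exists_alpha ht
    rw [C.commute_iff ht hv ha, h0, mul_zero]

theorem inf_centralizer_singleton {s : G} (hs : s ∈ T) (hs1 : s ≠ 1) :
    V ⊓ Subgroup.centralizer ({s} : Set G) = C.W := by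
  obtain ⟨a, ha⟩ := C.exists_alpha hs
  have ha0 := C.alpha_ne_zero hs hs1 ha
  ext v
  rw [Subgroup.mem_inf, Subgroup.mem_centralizer_iff, mem_W]
  constructor
  · rintro ⟨hv, hc⟩
    refine ⟨hv, ?_⟩
    have := (C.commute_iff hs hv ha).mp (hc s rfl)
    rcases mul_eq_zero.mp this with h | h
    · exact absurd h ha0
    · exact h
  · rintro ⟨hv, h0⟩
    refine ⟨hv, fun t ht => ?_⟩
    rw [Set.mem_singleton_iff] at ht
    subst ht
    rw [C.commute_iff hs hv ha, h0, mul_zero]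

theorem comm_mem_W {t v : G} (ht : t ∈ T) (hv : v ∈ V) : v * t * v⁻¹ * t⁻¹ ∈ C.W := by
  obtain ⟨a, ha⟩ := C.exists_alpha ht
  refine ⟨C.comm_mem ht hv, ?_⟩
  rw [C.vec_comm ht hv ha]
  rfl

theorem commutator_V_T_le : ⁅V, T⁆ ≤ C.W := by
  rw [Subgroup.commutator_le]
  intro v hv t ht
  rw [commutatorElement_def]
  exact C.comm_mem_W ht hv

/-- every element of `W` is a commutator `[v, s]` for a fixed nonidentity `s ∈ T` -/
theorem exists_comm_eq {s : G} (hs : s ∈ T) (hs1 : s ≠ 1) {w : G} (hw : w ∈ C.W) :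
    ∃ v ∈ V, w = v * s * v⁻¹ * s⁻¹ := by
  obtain ⟨a, ha⟩ := C.exists_alpha hs
  have ha0 := C.alpha_ne_zero hs hs1 ha
  obtain ⟨hwV, hw0⟩ := hw
  obtain ⟨v, hv, hvv⟩ := C.vec_surjective ![0, - (C.vec w hwV 0 / a)]
  refine ⟨v, hv, ?_⟩
  apply C.vec_injective hwV (C.comm_mem hs hv)
  rw [C.vec_comm hs hv ha, hvv, C.vec_eta hwV, hw0]
  ext i
  fin_cases i
  · simp
    field_simp
  · simp

/-- every element of `W` is a commutator `[v, t]`, `t ∈ T`, for a fixed `v ∈ V` outside `W` -/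
theorem exists_comm_eq' {v : G} (hv : v ∈ V) (hv0 : C.vec v hv 1 ≠ 0) {w : G} (hw : w ∈ C.W) :
    ∃ t ∈ T, w = v * t * v⁻¹ * t⁻¹ := by
  obtain ⟨hwV, hw0⟩ := hw
  obtain ⟨t, ht, hta⟩ := C.exists_of_alpha (- (C.vec w hwV 0 / C.vec v hv 1))
  refine ⟨t, ht, ?_⟩
  apply C.vec_injective hwV (C.comm_mem ht hv)
  rw [C.vec_comm ht hv hta, C.vec_eta hwV, hw0]
  ext i
  fin_cases i
  · simp
    field_simp
  · simp

theorem commutator_V_zpowers {s : G} (hs : s ∈ T) (hs1 : s ≠ 1) :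
    ⁅V, Subgroup.zpowers s⁆ = C.W := by
  apply le_antisymm
  · refine le_trans (Subgroup.commutator_mono le_rfl ?_) C.commutator_V_T_le
    rw [Subgroup.zpowers_le]; exact hs
  · intro w hw
    obtain ⟨v, hv, rfl⟩ := C.exists_comm_eq hs hs1 hw
    rw [← commutatorElement_def]
    exact Subgroup.commutator_mem_commutator hv (Subgroup.mem_zpowers s)

theorem commutator_V_T : ⁅V, T⁆ = C.W := by
  apply le_antisymm C.commutator_V_T_le
  obtain ⟨s, hs, hs1⟩ := C.exists_ne_one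
  rw [← C.commutator_V_zpowers hs hs1]
  apply Subgroup.commutator_mono le_rfl
  rw [Subgroup.zpowers_le]; exact hs

theorem closure_comm {v : G} (hv : v ∈ V) (hvT : v ∉ Subgroup.centralizer (T : Set G)) :
    Subgroup.closure {x : G | ∃ t ∈ T, x = v * t * v⁻¹ * t⁻¹} = C.W := by
  have hv0 : C.vec v hv 1 ≠ 0 := by
    intro h0
    apply hvT
    have : v ∈ C.W := ⟨hv, h0⟩
    rw [← C.inf_centralizer_T] at this
    exact this.2
  apply le_antisymm
  · rw [Subgroup.closure_le]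
    rintro _ ⟨t, ht, rfl⟩
    exact C.comm_mem_W ht hv
  · intro w hw
    obtain ⟨t, ht, rfl⟩ := C.exists_comm_eq' hv hv0 hw
    exact Subgroup.subset_closure ⟨t, ht, rfl⟩

theorem commutator_commutator : ⁅⁅V, T⁆, T⁆ = ⊥ := by
  rw [C.commutator_V_T, Subgroup.commutator_eq_bot_iff_le_centralizer, ← C.inf_centralizer_T]
  exact inf_le_right

theorem card_V [Finite F] : Nat.card V = Nat.card F ^ 2 := by
  have h1 : Nat.card V = Nat.card (Additive V) := Nat.card_congr Additive.ofMul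
  rw [h1, Nat.card_congr C.ψ.toEquiv, Nat.card_fun, Nat.card_fin]

theorem card_W [Finite F] : Nat.card C.W = Nat.card F := by
  refine Nat.card_congr (Equiv.ofBijective (fun w : C.W => C.vec w.1 w.2.1 0) ⟨?_, ?_⟩)
  · intro w w' h
    apply Subtype.ext
    apply C.vec_injective w.2.1 w'.2.1
    rw [C.vec_eta w.2.1, C.vec_eta w'.2.1, w.2.2, w'.2.2]
    have : C.vec w.1 w.2.1 0 = C.vec w'.1 w'.2.1 0 := h
    rw [this]
  · intro x
    obtain ⟨v, hv, hvv⟩ := C.vec_surjective ![x, 0]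
    refine ⟨⟨v, hv, by rw [hvv]; rfl⟩, ?_⟩
    show C.vec v hv 0 = x
    rw [hvv]; rfl

end NatCtx

end Cfsg.Agent.Lib.Helper7
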