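import Mathlib
import Cfsg.Prelude.Def_LocalEven
import Cfsg.Agent.Lib.Helper7.NatSL4

set_option autoImplicit false

namespace Cfsg.Agent.Lib.Helper7

open Cfsg Matrix

/-- the normalized context exists -/
theorem exists_natCtx {G : Type*} [Group G] [Finite G] {p : ℕ} [Fact p.Prime] {F : Type*} [Field F]
    [Fintype F] [CharP F p] (V L : Subgroup G) (hnat : IsNaturalSL2Module F V L)
    (hf : L ⊓ Subgroup.centralizer (V : Set G) = ⊥) (S : Sylow p ↥L) (T : Subgroup G)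
    (hT : T = ((S : Subgroup ↥L).map L.subtype)) : Nonempty (NatCtx F V L T) := by
  obtain ⟨ρ, ψ, hbij, hconj, hS⟩ := natural_normalize V L hnat hf S
  refine ⟨⟨ρ, ψ, hbij, hconj, fun l => ?_, ?_⟩⟩
  · rw [← hS l, hT]
    constructor
    · rintro ⟨s, hs, hsl⟩
      have : s = l := Subtype.ext hsl
      rw [← this]; exact hs
    · intro hl
      exact ⟨l, hl, rfl⟩
  · rw [hT]
    exact Subgroup.map_subtype_le _

theorem charP_of_card {p : ℕ} [Fact p.Prime] {F : Type*} [Field F] [Fintype F] (n : ℕ)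
    (hF : Fintype.card F = p ^ n) : CharP F p := by
  obtain ⟨q, hq⟩ := CharP.exists F
  haveI := hq
  have hqp : q.Prime := CharP.char_is_prime F q
  haveI : Fact q.Prime := ⟨hqp⟩
  obtain ⟨k, _, hk⟩ := FiniteField.card F q
  rw [hF] at hk
  have hn : n ≠ 0 := by
    rintro rfl
    rw [pow_zero] at hk
    have : 1 < q ^ (k : ℕ) := Nat.one_lt_pow k.ne_zero hqp.one_lt
    omega
  have h1 : q ∣ p ^ n := by rw [hk]; exact dvd_pow_self q k.ne_zero
  have h2 : q ∣ p := hqp.dvd_of_dvd_pow h1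
  have h3 : q = p := (Nat.prime_dvd_prime_iff_eq hqp (Fact.out : p.Prime)).mp h2
  rw [← h3]; exact hq

theorem natural_sl2_sylow_action {G : Type*} [Group G] [Finite G] {p : ℕ} [Fact p.Prime]
    {F : Type*} [Field F] [Fintype F] (n : ℕ) (hF : Fintype.card F = p ^ n) (V L : Subgroup G)
    (hnat : Cfsg.IsNaturalSL2Module F V L) (hf : L ⊓ Subgroup.centralizer (V : Set G) = ⊥)
    (S : Sylow p ↥L) (T : Subgroup G) (hT : T = ((S : Subgroup ↥L).map L.subtype)) :
    ⁅⁅V, T⁆, T⁆ = ⊥ ∧ Nat.card V = p ^ (2 * n) ∧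
    Nat.card ↥(V ⊓ Subgroup.centralizer ((T : Subgroup G) : Set G)) = p ^ n ∧
    ∀ s ∈ T, s ≠ 1 →
      (V ⊓ Subgroup.centralizer ({s} : Set G)) =
        (V ⊓ Subgroup.centralizer ((T : Subgroup G) : Set G)) ∧
      ⁅V, T⁆ = (V ⊓ Subgroup.centralizer ((T : Subgroup G) : Set G)) ∧
      ⁅V, Subgroup.zpowers s⁆ = (V ⊓ Subgroup.centralizer ((T : Subgroup G) : Set G)) ∧
      ∀ v ∈ V, v ∉ Subgroup.centralizer (T : Set G) →
        Subgroup.closure {x : G | ∃ t ∈ T, x = v * t * v⁻¹ * t⁻¹} =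
          (V ⊓ Subgroup.centralizer ((T : Subgroup G) : Set G)) := by
  haveI : CharP F p := charP_of_card n hF
  obtain ⟨C⟩ := exists_natCtx V L hnat hf S T hT
  have hcF : Nat.card F = p ^ n := by rw [Nat.card_eq_fintype_card, hF]
  refine ⟨C.commutator_commutator, ?_, ?_, ?_⟩
  · rw [C.card_V, hcF, ← pow_mul, mul_comm]
  · rw [C.inf_centralizer_T, C.card_W, hcF]
  · intro s hs hs1
    rw [C.inf_centralizer_T]
    exact ⟨C.inf_centralizer_singleton hs hs1, C.commutator_V_T, C.commutator_V_zpowers hs hs1,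
      fun v hv hvT => C.closure_comm hv hvT⟩

end Cfsg.Agent.Lib.Helper7
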