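import Mathlib
import Cfsg.Prelude.Def_LocalEven
import Cfsg.Prelude.Def_TwoFusion
import Cfsg.Agent.Lib.Helper7.NatSL5

set_option autoImplicit false

namespace Cfsg.Agent.Lib.Helper7

open Cfsg Matrix

section sl2

variable {F : Type*} [Field F]

theorem conj_uSL2_of_10 (A : SpecialLinearGroup (Fin 2) F)
    (hA : (A : Matrix (Fin 2) (Fin 2) F) 1 0 = 0) (a : F) : ∃ a', A * uSL2 a * A⁻¹ = uSL2 a' :=
  ⟨_, eq_uSL2_of_entries _ (by rw [conj_uSL2_00, hA]; ring) (by rw [conj_uSL2_10, hA]; ring)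
    (by rw [conj_uSL2_11, hA]; ring)⟩

theorem sl2_inv_10 (A : SpecialLinearGroup (Fin 2) F) :
    ((A⁻¹ : SpecialLinearGroup (Fin 2) F) : Matrix (Fin 2) (Fin 2) F) 1 0 =
      - (A : Matrix (Fin 2) (Fin 2) F) 1 0 := by
  show (adjugate (A : Matrix (Fin 2) (Fin 2) F)) 1 0 = _
  rw [Matrix.adjugate_fin_two]
  simp

theorem sl2_inv_mulVec (A : SpecialLinearGroup (Fin 2) F) (u : Fin 2 → F) :
    ((A⁻¹ : SpecialLinearGroup (Fin 2) F) : Matrix (Fin 2) (Fin 2) F).mulVec u =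
      ![(A : Matrix (Fin 2) (Fin 2) F) 1 1 * u 0 - (A : Matrix (Fin 2) (Fin 2) F) 0 1 * u 1,
        - (A : Matrix (Fin 2) (Fin 2) F) 1 0 * u 0 + (A : Matrix (Fin 2) (Fin 2) F) 0 0 * u 1] := by
  show (adjugate (A : Matrix (Fin 2) (Fin 2) F)).mulVec u = _
  rw [Matrix.adjugate_fin_two]
  ext i
  fin_cases i <;> simp [Matrix.mulVec, dotProduct, Fin.sum_univ_two] <;> ring

/-- diagonal element of `SL₂` -/
def dSL2 (c : F) (hc : c ≠ 0) : SpecialLinearGroup (Fin 2) F :=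
  ⟨!![c, 0; 0, c⁻¹], by simp [Matrix.det_fin_two, hc]⟩

theorem dSL2_10 (c : F) (hc : c ≠ 0) :
    ((dSL2 c hc : SpecialLinearGroup (Fin 2) F) : Matrix (Fin 2) (Fin 2) F) 1 0 = 0 := by
  show (!![c, 0; 0, c⁻¹] : Matrix (Fin 2) (Fin 2) F) 1 0 = 0
  simp

theorem dSL2_mulVec (c : F) (hc : c ≠ 0) (u : Fin 2 → F) :
    ((dSL2 c hc : SpecialLinearGroup (Fin 2) F) : Matrix (Fin 2) (Fin 2) F).mulVec u =
      ![c * u 0, c⁻¹ * u 1] := by
  show (!![c, 0; 0, c⁻¹] : Matrix (Fin 2) (Fin 2) F).mulVec u = _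
  ext i
  fin_cases i <;> simp [Matrix.mulVec, dotProduct, Fin.sum_univ_two]

/-- an element of `SL₂` with a nonzero fixed vector is unipotent: `(A - 1)² = 0` -/
theorem sq_sub_one_eq_zero_of_fixed (A : SpecialLinearGroup (Fin 2) F) (u : Fin 2 → F) (hu : u ≠ 0)
    (hAu : (A : Matrix (Fin 2) (Fin 2) F).mulVec u = u) :
    ((A : Matrix (Fin 2) (Fin 2) F) - 1) * ((A : Matrix (Fin 2) (Fin 2) F) - 1) = 0 := by
  have hdet := det_eq A
  have h0 : ((A : Matrix (Fin 2) (Fin 2) F) - 1).det = 0 := by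
    rw [← Matrix.exists_mulVec_eq_zero_iff]
    refine ⟨u, hu, ?_⟩
    rw [Matrix.sub_mulVec, hAu, Matrix.one_mulVec, sub_self]
  rw [Matrix.det_fin_two] at h0
  simp at h0
  have htr : (A : Matrix (Fin 2) (Fin 2) F) 0 0 + (A : Matrix (Fin 2) (Fin 2) F) 1 1 = 2 := by
    linear_combination hdet - h0
  ext i j
  fin_cases i <;> fin_cases j <;> simp [Matrix.mul_apply, Fin.sum_univ_two]
  · linear_combination ((A : Matrix (Fin 2) (Fin 2) F) 0 0) * htr - hdet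
  · linear_combination ((A : Matrix (Fin 2) (Fin 2) F) 0 1) * htr
  · linear_combination ((A : Matrix (Fin 2) (Fin 2) F) 1 0) * htr
  · linear_combination ((A : Matrix (Fin 2) (Fin 2) F) 1 1) * htr - hdet

theorem pow_eq_of_sq_zero (M : Matrix (Fin 2) (Fin 2) F) (h : (M - 1) * (M - 1) = 0) (k : ℕ) :
    M ^ k = 1 + (k : F) • (M - 1) := by
  induction k with
  | zero => simp
  | succ k ih =>
    rw [pow_succ, ih]
    obtain ⟨N, hN⟩ : ∃ N, N = M - 1 := ⟨_, rfl⟩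
    have e : M = 1 + N := by rw [hN]; abel
    rw [← hN] at h ⊢
    rw [e]
    simp only [add_mul, mul_add, one_mul, mul_one, smul_mul_assoc, h, smul_zero, add_zero]
    rw [Nat.cast_succ, add_smul, one_smul]
    abel

theorem pow_char_eq_one_of_fixed (p : ℕ) [CharP F p] (A : SpecialLinearGroup (Fin 2) F)
    (u : Fin 2 → F) (hu : u ≠ 0) (hAu : (A : Matrix (Fin 2) (Fin 2) F).mulVec u = u) :
    A ^ p = 1 := by
  apply Subtype.ext
  show (A : Matrix (Fin 2) (Fin 2) F) ^ p = 1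
  rw [pow_eq_of_sq_zero _ (sq_sub_one_eq_zero_of_fixed A u hu hAu), CharP.cast_eq_zero, zero_smul,
    add_zero]

end sl2

end Cfsg.Agent.Lib.Helper7
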