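import Mathlib
import Cfsg.Prelude.Def_LocalEven
import Cfsg.Prelude.Def_TwoFusion
import Cfsg.Agent.Lib.Helper7.NatSL6

set_option autoImplicit false

namespace Cfsg.Agent.Lib.Helper7

open Cfsg Matrix

namespace NatCtx

variable {F : Type*} [Field F] {G : Type*} [Group G] {V L T : Subgroup G} (C : NatCtx F V L T)

include C

theorem rho_conj {l t : G} (hl : l ∈ L) (ht : t ∈ L) :
    C.ρ ⟨l * t * l⁻¹, L.mul_mem (L.mul_mem hl ht) (L.inv_mem hl)⟩ =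
      C.ρ ⟨l, hl⟩ * C.ρ ⟨t, ht⟩ * (C.ρ ⟨l, hl⟩)⁻¹ := by
  rw [← map_inv, ← map_mul, ← map_mul]
  rfl

theorem rho_inv {l : G} (hl : l ∈ L) : C.ρ ⟨l⁻¹, L.inv_mem hl⟩ = (C.ρ ⟨l, hl⟩)⁻¹ := by
  rw [← map_inv]
  rfl

/-- elements of `L` with lower-left entry zero normalize `T` -/
theorem conj_mem_T {l t : G} (hl : l ∈ L)
    (h10 : ((C.ρ ⟨l, hl⟩ : SpecialLinearGroup (Fin 2) F) : Matrix (Fin 2) (Fin 2) F) 1 0 = 0)
    (ht : t ∈ T) : l * t * l⁻¹ ∈ T := by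
  obtain ⟨a, ha⟩ := C.exists_alpha ht
  have hmem : l * t * l⁻¹ ∈ L := L.mul_mem (L.mul_mem hl (C.hTL ht)) (L.inv_mem hl)
  have := (C.hT ⟨l * t * l⁻¹, hmem⟩).mpr
  apply this
  rw [C.rho_conj hl (C.hTL ht), ha]
  exact conj_uSL2_of_10 _ h10 a

theorem mem_normalizer_T {l : G} (hl : l ∈ L)
    (h10 : ((C.ρ ⟨l, hl⟩ : SpecialLinearGroup (Fin 2) F) : Matrix (Fin 2) (Fin 2) F) 1 0 = 0) :
    l ∈ Subgroup.normalizer (T : Set G) := by
  rw [Subgroup.mem_normalizer_iff]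
  intro t
  constructor
  · exact C.conj_mem_T hl h10
  · intro ht
    have h10' : ((C.ρ ⟨l⁻¹, L.inv_mem hl⟩ : SpecialLinearGroup (Fin 2) F) :
        Matrix (Fin 2) (Fin 2) F) 1 0 = 0 := by
      rw [C.rho_inv hl, sl2_inv_10, h10, neg_zero]
    have := C.conj_mem_T (L.inv_mem hl) h10' ht
    have e : l⁻¹ * (l * t * l⁻¹) * l⁻¹⁻¹ = t := by group
    rwa [e] at this

theorem V_comm {v w : G} (hv : v ∈ V) (hw : w ∈ V) : v * w = w * v := by
  apply C.vec_injective (V.mul_mem hv hw) (V.mul_mem hw hv)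
  rw [C.vec_mul hv hw, C.vec_mul hw hv, add_comm]

theorem mem_inf_centralizer_conj {g v : G} (hg : g ∈ L) :
    v ∈ V ⊓ Subgroup.centralizer ((T.map (MulAut.conj g).toMonoidHom : Subgroup G) : Set G) ↔
      ∃ hv : v ∈ V,
        - ((C.ρ ⟨g, hg⟩ : SpecialLinearGroup (Fin 2) F) : Matrix (Fin 2) (Fin 2) F) 1 0 * C.vec v hv 0 +
          ((C.ρ ⟨g, hg⟩ : SpecialLinearGroup (Fin 2) F) : Matrix (Fin 2) (Fin 2) F) 0 0 * C.vec v hv 1
          = 0 := by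
  have key : ∀ hv : v ∈ V,
      (v ∈ Subgroup.centralizer ((T.map (MulAut.conj g).toMonoidHom : Subgroup G) : Set G) ↔
        g⁻¹ * v * g⁻¹⁻¹ ∈ C.W) := by
    intro hv
    rw [← C.inf_centralizer_T, Subgroup.mem_inf, Subgroup.mem_centralizer_iff,
      Subgroup.mem_centralizer_iff]
    constructor
    · intro h
      refine ⟨C.conj_mem (L.inv_mem hg) hv, fun t ht => ?_⟩
      have h1 := h (g * t * g⁻¹) ⟨t, ht, rfl⟩
      have e1 : t * (g⁻¹ * v * g⁻¹⁻¹) = g⁻¹ * ((g * t * g⁻¹) * v) * g := by group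
      have e2 : (g⁻¹ * v * g⁻¹⁻¹) * t = g⁻¹ * (v * (g * t * g⁻¹)) * g := by group
      rw [e1, e2, h1]
    · rintro ⟨-, h⟩ _ ⟨t, ht, rfl⟩
      have h1 := h t ht
      show g * t * g⁻¹ * v = v * (g * t * g⁻¹)
      have e1 : g * t * g⁻¹ * v = g * (t * (g⁻¹ * v * g⁻¹⁻¹)) * g⁻¹ := by group
      have e2 : v * (g * t * g⁻¹) = g * ((g⁻¹ * v * g⁻¹⁻¹) * t) * g⁻¹ := by group
      rw [e1, e2, h1]
  rw [Subgroup.mem_inf]
  constructor
  · rintro ⟨hv, hc⟩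
    refine ⟨hv, ?_⟩
    obtain ⟨hV', h0⟩ := (key hv).mp hc
    have h2 := C.vec_conj (L.inv_mem hg) hv
    rw [C.rho_inv hg, sl2_inv_mulVec] at h2
    have h3 : C.vec (g⁻¹ * v * g⁻¹⁻¹) hV' = C.vec (g⁻¹ * v * g⁻¹⁻¹) (C.conj_mem (L.inv_mem hg) hv) := rfl
    rw [h3, h2] at h0
    simpa using h0
  · rintro ⟨hv, h0⟩
    refine ⟨hv, (key hv).mpr ⟨C.conj_mem (L.inv_mem hg) hv, ?_⟩⟩
    rw [C.vec_conj (L.inv_mem hg) hv, C.rho_inv hg, sl2_inv_mulVec]
    simpa using h0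

theorem isInternalDirectProduct_of_not_mem_normalizer {g : G} (hg : g ∈ L)
    (hgN : g ∉ Subgroup.normalizer (T : Set G)) :
    IsInternalDirectProduct (V ⊓ Subgroup.centralizer (T : Set G))
      (V ⊓ Subgroup.centralizer ((T.map (MulAut.conj g).toMonoidHom : Subgroup G) : Set G)) V := by
  have hc : ((C.ρ ⟨g, hg⟩ : SpecialLinearGroup (Fin 2) F) : Matrix (Fin 2) (Fin 2) F) 1 0 ≠ 0 :=
    fun h => hgN (C.mem_normalizer_T hg h)
  refine ⟨inf_le_left, inf_le_left, fun a ha b hb => C.V_comm ha.1 hb.1, ?_, ?_⟩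
  · rw [eq_bot_iff]
    rintro v ⟨h1, h2⟩
    rw [SetLike.mem_coe, C.inf_centralizer_T] at h1
    obtain ⟨hv, h10⟩ := h1
    obtain ⟨hv', h20⟩ := (C.mem_inf_centralizer_conj hg).mp h2
    have h10' : C.vec v hv' 1 = 0 := h10
    rw [h10', mul_zero, add_zero] at h20
    have h00 : C.vec v hv 0 = 0 := by
      rcases mul_eq_zero.mp h20 with h | h
      · exact absurd (neg_eq_zero.mp h) hc
      · exact h
    rw [Subgroup.mem_bot, ← C.vec_eq_zero_iff hv, C.vec_eta hv, h00, h10]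
    ext i
    fin_cases i <;> rfl
  · apply le_antisymm (sup_le inf_le_left inf_le_left)
    intro v hv
    set A := ((C.ρ ⟨g, hg⟩ : SpecialLinearGroup (Fin 2) F) : Matrix (Fin 2) (Fin 2) F) with hA
    obtain ⟨w₂, hw₂, hw₂v⟩ := C.vec_surjective ![A 0 0 * C.vec v hv 1 / A 1 0, C.vec v hv 1]
    have hw₂' : w₂ ∈ V ⊓ Subgroup.centralizer
        ((T.map (MulAut.conj g).toMonoidHom : Subgroup G) : Set G) := by
      rw [C.mem_inf_centralizer_conj hg]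
      refine ⟨hw₂, ?_⟩
      rw [hw₂v]
      simp only [Matrix.cons_val_zero, Matrix.cons_val_one]
      rw [← hA]
      field_simp
      ring
    have hw₁ : v * w₂⁻¹ ∈ V ⊓ Subgroup.centralizer (T : Set G) := by
      rw [C.inf_centralizer_T]
      refine ⟨V.mul_mem hv (V.inv_mem hw₂), ?_⟩
      rw [C.vec_mul hv (V.inv_mem hw₂), C.vec_inv hw₂, hw₂v]
      simp
    have : v = (v * w₂⁻¹) * w₂ := by group
    rw [this]
    exact Subgroup.mul_mem_sup hw₁ hw₂'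

theorem inf_centralizer_eq_bot_of_coprime (p : ℕ) [CharP F p] {x : G} (hx : x ∈ L) (hx1 : x ≠ 1)
    (hcop : (orderOf x).Coprime p) : V ⊓ Subgroup.centralizer ({x} : Set G) = ⊥ := by
  rw [eq_bot_iff]
  rintro v ⟨hv, hc⟩
  rw [Subgroup.mem_bot]
  by_contra hv1
  apply hx1
  have hu : C.vec v hv ≠ 0 := fun h => hv1 ((C.vec_eq_zero_iff hv).mp h)
  have hcomm : x * v = v * x := (Subgroup.mem_centralizer_iff.mp hc) x rfl
  have hfix : ((C.ρ ⟨x, hx⟩ : SpecialLinearGroup (Fin 2) F) : Matrix (Fin 2) (Fin 2) F).mulVec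
      (C.vec v hv) = C.vec v hv := by
    rw [← C.vec_conj hx hv]
    congr 1
    rw [hcomm]; group
  have hp := pow_char_eq_one_of_fixed p _ _ hu hfix
  rw [← map_pow, ← map_one C.ρ] at hp
  have h1 := C.bij.1 hp
  have h2 : x ^ p = 1 := by
    have := congrArg (fun z : L => (z : G)) h1
    simpa using this
  have h3 : orderOf x ∣ p := orderOf_dvd_of_pow_eq_one h2
  have h4 : orderOf x = 1 := Nat.Coprime.eq_one_of_dvd hcop h3
  exact orderOf_eq_one_iff.mp h4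

/-- diagonal elements -/
theorem exists_diag (c : F) (hc : c ≠ 0) :
    ∃ d, ∃ hd : d ∈ L, d ∈ L ⊓ Subgroup.normalizer (T : Set G) ∧ ∀ v, ∀ hv : v ∈ V,
      C.vec (d * v * d⁻¹) (C.conj_mem hd hv) = ![c * C.vec v hv 0, c⁻¹ * C.vec v hv 1] := by
  obtain ⟨l, hl⟩ := C.bij.2 (dSL2 c hc)
  have h10 : ((C.ρ ⟨(l : G), l.2⟩ : SpecialLinearGroup (Fin 2) F) : Matrix (Fin 2) (Fin 2) F) 1 0 = 0 := by
    show ((C.ρ l : SpecialLinearGroup (Fin 2) F) : Matrix (Fin 2) (Fin 2) F) 1 0 = 0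
    rw [hl]; exact dSL2_10 c hc
  refine ⟨l, l.2, ⟨l.2, C.mem_normalizer_T l.2 h10⟩, fun v hv => ?_⟩
  rw [C.vec_conj l.2 hv]
  show ((C.ρ l : SpecialLinearGroup (Fin 2) F) : Matrix (Fin 2) (Fin 2) F).mulVec _ = _
  rw [hl, dSL2_mulVec]

theorem irreducible_W (U : Subgroup G) (hUW : U ≤ V ⊓ Subgroup.centralizer (T : Set G))
    (hN : L ⊓ Subgroup.normalizer (T : Set G) ≤ Subgroup.normalizer (U : Set G)) :
    U = ⊥ ∨ U = V ⊓ Subgroup.centralizer (T : Set G) := by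
  by_cases hU : U = ⊥
  · exact Or.inl hU
  right
  apply le_antisymm hUW
  obtain ⟨⟨u, hu⟩, hu1⟩ := (Subgroup.ne_bot_iff_exists_ne_one).mp hU
  have hu1' : u ≠ 1 := fun h => hu1 (Subtype.ext h)
  have huW := hUW hu
  rw [C.inf_centralizer_T] at huW ⊢
  obtain ⟨huV, hu0⟩ := huW
  have hx : C.vec u huV 0 ≠ 0 := by
    intro h
    apply hu1'
    rw [← C.vec_eq_zero_iff huV, C.vec_eta huV, h, hu0]
    ext i
    fin_cases i <;> rfl
  rintro w ⟨hwV, hw0⟩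
  by_cases hx' : C.vec w hwV 0 = 0
  · have : w = 1 := by
      rw [← C.vec_eq_zero_iff hwV, C.vec_eta hwV, hx', hw0]
      ext i
      fin_cases i <;> rfl
    rw [this]; exact U.one_mem
  · obtain ⟨d, hd, hdN, hdv⟩ := C.exists_diag (C.vec w hwV 0 / C.vec u huV 0) (div_ne_zero hx' hx)
    have h1 : d * u * d⁻¹ ∈ U := (Subgroup.mem_normalizer_iff.mp (hN hdN) u).mp hu
    have h2 : w = d * u * d⁻¹ := by
      apply C.vec_injective hwV (C.conj_mem hd huV)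
      rw [hdv u huV, C.vec_eta hwV, hw0, hu0]
      ext i
      fin_cases i
      · simp
        field_simp
      · simp
    rw [h2]; exact h1

theorem irreducible_quotient (U : Subgroup G) (hWU : V ⊓ Subgroup.centralizer (T : Set G) ≤ U)
    (hUV : U ≤ V)
    (hN : L ⊓ Subgroup.normalizer (T : Set G) ≤ Subgroup.normalizer (U : Set G)) :
    U = V ⊓ Subgroup.centralizer (T : Set G) ∨ U = V := by
  by_cases hU : U ≤ V ⊓ Subgroup.centralizer (T : Set G)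
  · exact Or.inl (le_antisymm hU hWU)
  right
  apply le_antisymm hUV
  rw [SetLike.not_le_iff_exists] at hU
  obtain ⟨u, hu, huW⟩ := hU
  have huV := hUV hu
  rw [C.inf_centralizer_T] at huW hWU
  have hy : C.vec u huV 1 ≠ 0 := fun h => huW ⟨huV, h⟩
  intro v hv
  by_cases hy' : C.vec v hv 1 = 0
  · exact hWU ⟨hv, hy'⟩
  · obtain ⟨d, hd, hdN, hdv⟩ := C.exists_diag (C.vec u huV 1 / C.vec v hv 1) (div_ne_zero hy hy')
    have h1 : d * u * d⁻¹ ∈ U := (Subgroup.mem_normalizer_iff.mp (hN hdN) u).mp hu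
    obtain ⟨w, hw, hwv⟩ := C.vec_surjective
      ![C.vec v hv 0 - C.vec u huV 1 / C.vec v hv 1 * C.vec u huV 0, 0]
    have hwU : w ∈ U := hWU ⟨hw, by rw [hwv]; rfl⟩
    have h2 : v = w * (d * u * d⁻¹) := by
      apply C.vec_injective hv (V.mul_mem hw (C.conj_mem hd huV))
      rw [C.vec_mul hw (C.conj_mem hd huV), hdv u huV, hwv, C.vec_eta hv]
      ext i
      fin_cases i
      · simp
      · simp
        field_simp
    rw [h2]; exact U.mul_mem hwU h1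

end NatCtx

end Cfsg.Agent.Lib.Helper7
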