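import Mathlib
import Cfsg.Agent.Lib.Helper7.KWTI
import Cfsg.Agent.Lib.Lead.PGroup

set_option autoImplicit false
set_option linter.style.haveILetI false
set_option linter.unusedSectionVars false
set_option linter.unusedVariables false

namespace Cfsg.Agent.Lib.Helper7.NilProd

open Cfsg Cfsg.Agent.Lib.Helper7 Cfsg.Agent.Lib.Helper7.KW
open scoped Pointwise

universe u

/-- in a finite nilpotent group every proper subgroup lies in a proper normal subgroup. -/
theorem exists_normal_of_nilpotent {G : Type u} [Group G] [Finite G] (hG : Group.IsNilpotent G)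
    {X : Subgroup G} (hX : X ≠ ⊤) : ∃ N : Subgroup G, N.Normal ∧ N ≠ ⊤ ∧ X ≤ N := by
  obtain ⟨M, hM, hXM⟩ := (eq_top_or_exists_le_coatom X).resolve_left hX
  exact ⟨M, Subgroup.NormalizerCondition.normal_of_coatom M (Group.normalizerCondition_of_isNilpotent (G := G)) hM, hM.1, hXM⟩

/-- `|G|` divides `|A||B|` when `G = AB`. -/
theorem card_dvd_mul_of_fac {G : Type u} [Group G] [Finite G] {A B : Subgroup G} (h : Fac A B) :
    Nat.card G ∣ Nat.card A * Nat.card B := by
  have h1 : MulAction.orbit B ((1 : G) : G ⧸ A) = Set.univ := by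
    rw [Set.eq_univ_iff_forall]
    intro x
    induction x using QuotientGroup.induction_on with
    | H g =>
      obtain ⟨a, ha, b, hb, e⟩ := h g⁻¹
      refine ⟨⟨b⁻¹, B.inv_mem hb⟩, ?_⟩
      show ((b⁻¹ * 1 : G) : G ⧸ A) = (g : G ⧸ A)
      rw [QuotientGroup.eq]
      have : g = b⁻¹ * a⁻¹ := by
        have : g = (g⁻¹)⁻¹ := by simp
        rw [this, e]; group
      rw [this]
      have : (b⁻¹ * 1)⁻¹ * (b⁻¹ * a⁻¹) = a⁻¹ := by group
      rw [this]; exact A.inv_mem ha
  have h3 : Nat.card (G ⧸ A) ∣ Nat.card B := by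
    have e := MulAction.orbitEquivQuotientStabilizer B (((1 : G) : G ⧸ A))
    have : Nat.card (G ⧸ A) = (MulAction.stabilizer B (((1 : G) : G ⧸ A))).index := by
      rw [Subgroup.index, ← Nat.card_congr e, h1]
      exact (Nat.card_congr (Equiv.Set.univ _)).symm
    rw [this]; exact Subgroup.index_dvd_card _
  rw [← A.card_mul_index]
  exact Nat.mul_dvd_mul_left _ h3

/-- the induction hypothesis -/
def IHN (G : Type u) [Group G] [Finite G] : Prop :=
  ∀ (G' : Type u) [Group G'] [Finite G'], Nat.card G' < Nat.card G →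
    ∀ A B : Subgroup G', Group.IsNilpotent A → Group.IsNilpotent B → Fac A B → (A ≠ ⊤ ∨ B ≠ ⊤) →
      ∃ N : Subgroup G', N.Normal ∧ N ≠ ⊤ ∧ (A ≤ N ∨ B ≤ N)

theorem isNilpotent_map {G G' : Type u} [Group G] [Group G'] (f : G →* G') {A : Subgroup G}
    (hA : Group.IsNilpotent A) : Group.IsNilpotent (A.map f) :=
  Group.nilpotent_of_surjective (f.subgroupMap A) (f.subgroupMap_surjective A)

theorem of_quotient {G : Type u} [Group G] [Finite G] (ih : IHN G) {A B : Subgroup G}
    (hA : Group.IsNilpotent A) (hB : Group.IsNilpotent B) (hf : Fac A B) {N : Subgroup G}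
    [hNn : N.Normal] (hN : N ≠ ⊥) (h : A ⊔ N ≠ ⊤ ∨ B ⊔ N ≠ ⊤) :
    ∃ M : Subgroup G, M.Normal ∧ M ≠ ⊤ ∧ (A ≤ M ∨ B ≤ M) := by
  have hlt : Nat.card (G ⧸ N) < Nat.card G := by
    have h1 := N.card_mul_index
    rw [Subgroup.index] at h1
    have h2 : 1 < Nat.card N := by
      rcases Nat.lt_or_ge 1 (Nat.card N) with h | h
      · exact h
      · exfalso
        apply hN
        apply Subgroup.card_eq_one.mp
        have := Nat.card_pos (α := N)
        omega
    have h3 : 0 < Nat.card (G ⧸ N) := Nat.card_pos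
    nlinarith
  have hmap : ∀ X : Subgroup G, X ⊔ N ≠ ⊤ → X.map (QuotientGroup.mk' N) ≠ ⊤ := by
    intro X hX h'
    apply hX
    have := Subgroup.comap_map_eq (QuotientGroup.mk' N) X
    rw [h', Subgroup.comap_top, QuotientGroup.ker_mk'] at this
    exact this.symm
  have hf' : Fac (A.map (QuotientGroup.mk' N)) (B.map (QuotientGroup.mk' N)) := by
    intro x
    obtain ⟨g, rfl⟩ := QuotientGroup.mk'_surjective N x
    obtain ⟨a, ha, b, hb, e⟩ := hf g
    exact ⟨_, ⟨a, ha, rfl⟩, _, ⟨b, hb, rfl⟩, by rw [e, map_mul]⟩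
  have hp : A.map (QuotientGroup.mk' N) ≠ ⊤ ∨ B.map (QuotientGroup.mk' N) ≠ ⊤ := by
    rcases h with h | h
    · exact Or.inl (hmap A h)
    · exact Or.inr (hmap B h)
  obtain ⟨M', hM'n, hM't, hM'⟩ := ih (G ⧸ N) hlt _ _ (isNilpotent_map _ hA) (isNilpotent_map _ hB) hf' hp
  refine ⟨M'.comap (QuotientGroup.mk' N), hM'n.comap _, ?_, ?_⟩
  · intro h'
    apply hM't
    apply Subgroup.comap_injective (QuotientGroup.mk'_surjective N)
    rw [h', Subgroup.comap_top]
  · rcases hM' with h' | h'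
    · exact Or.inl (Subgroup.map_le_iff_le_comap.mp h')
    · exact Or.inr (Subgroup.map_le_iff_le_comap.mp h')

section core

variable {G : Type u} [Group G] [Finite G]

theorem eq_bot_of_normal_le {X : Subgroup G} (hX : X ≠ ⊤)
    (hI : ∀ N : Subgroup G, N.Normal → N ≠ ⊥ → X ⊔ N = ⊤) :
    ∀ N : Subgroup G, N.Normal → N ≤ X → N = ⊥ := by
  intro N hN hNX
  by_contra h
  apply hX
  rw [← hI N hN h]
  exact (sup_eq_left.mpr hNX).symm

theorem conj_mem_centralizer {P : Subgroup G} {g x : G}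
    (hg : g ∈ Subgroup.normalizer (P : Set G)) (hx : x ∈ Subgroup.centralizer (P : Set G)) :
    g * x * g⁻¹ ∈ Subgroup.centralizer (P : Set G) := by
  rw [Subgroup.mem_centralizer_iff] at hx ⊢
  intro h hh
  have h1 : g⁻¹ * h * g ∈ P := conj_mem_of_mem_normalizer' hg hh
  have h2 := hx _ h1
  calc h * (g * x * g⁻¹) = g * ((g⁻¹ * h * g) * x) * g⁻¹ := by group
    _ = g * (x * (g⁻¹ * h * g)) * g⁻¹ := by rw [h2]
    _ = g * x * g⁻¹ * h := by group

theorem inf_centralizer_eq_bot {X : Subgroup G}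
    (hI : ∀ N : Subgroup G, N.Normal → N ≠ ⊥ → X ⊔ N = ⊤)
    (hno : ∀ N : Subgroup G, N.Normal → N ≤ X → N = ⊥)
    {N' : Subgroup G} (hn : N'.Normal) (h1 : N' ≠ ⊥)
    (hab : ∀ x ∈ N', ∀ y ∈ N', x * y = y * x) :
    X ⊓ Subgroup.centralizer (N' : Set G) = ⊥ := by
  apply hno _ _ inf_le_left
  apply Subgroup.normalizer_eq_top_iff.mp
  rw [eq_top_iff, ← hI N' hn h1]
  apply sup_le
  · intro g hg
    apply Cfsg.Agent.Lib.Lead.Conj.mem_normalizer_of_conj_mem
    intro r hr
    obtain ⟨hr1, hr2⟩ := Subgroup.mem_inf.mp hr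
    refine Subgroup.mem_inf.mpr ⟨X.mul_mem (X.mul_mem hg hr1) (X.inv_mem hg), ?_⟩
    apply conj_mem_centralizer _ hr2
    rw [Subgroup.normalizer_eq_top_iff.mpr hn]
    trivial
  · intro n hn'
    apply Cfsg.Agent.Lib.Lead.Conj.mem_normalizer_of_conj_mem
    intro r hr
    obtain ⟨hr1, hr2⟩ := Subgroup.mem_inf.mp hr
    have : n * r * n⁻¹ = r := by
      rw [Subgroup.mem_centralizer_iff] at hr2
      rw [hr2 n hn']; group
    rw [this]; exact hr

theorem not_dvd_card {X : Subgroup G} (hX : Group.IsNilpotent X)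
    (hI : ∀ N : Subgroup G, N.Normal → N ≠ ⊥ → X ⊔ N = ⊤)
    (hno : ∀ N : Subgroup G, N.Normal → N ≤ X → N = ⊥)
    {p : ℕ} (hp : p.Prime) {N : Subgroup G} (hNn : N.Normal) (hN1 : N ≠ ⊥) (hNp : IsPGroup p N)
    (hNab : ∀ x ∈ N, ∀ y ∈ N, x * y = y * x) : ¬ p ∣ Nat.card X := by
  intro hpX
  haveI := Fact.mk hp
  have hP1 : syl X p ≠ ⊥ := syl_ne_bot hX hpX
  have hPn : syl X p ≤ Subgroup.normalizer (N : Set G) := by
    rw [Subgroup.normalizer_eq_top_iff.mpr hNn]; exact le_top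
  have hW : IsPGroup p (syl X p ⊔ N : Subgroup G) :=
    (syl_isPGroup hX).to_sup_of_normal_right' hNp hPn
  haveI : (N.subgroupOf (syl X p ⊔ N)).Normal := hNn.subgroupOf _
  have hne : N.subgroupOf (syl X p ⊔ N) ≠ ⊥ := by
    intro h
    apply hN1
    rw [Subgroup.subgroupOf_eq_bot] at h
    rw [disjoint_iff, inf_eq_left.mpr le_sup_right] at h
    exact h
  obtain ⟨z, hzN, hzZ, hz1⟩ :=
    Cfsg.Agent.Lib.Lead.PGroup.exists_mem_center_of_normal hW (N.subgroupOf (syl X p ⊔ N)) hne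
  -- `Z0 = N ⊓ C(P)`
  have hzZ0 : (z : G) ∈ N ⊓ Subgroup.centralizer (syl X p : Set G) := by
    refine Subgroup.mem_inf.mpr ⟨Subgroup.mem_subgroupOf.mp hzN, ?_⟩
    rw [Subgroup.mem_centralizer_iff]
    intro h hh
    rw [Subgroup.mem_center_iff] at hzZ
    have := hzZ ⟨h, le_sup_left (a := syl X p) hh⟩
    exact congrArg Subtype.val this
  have hZ01 : N ⊓ Subgroup.centralizer (syl X p : Set G) ≠ ⊥ := by
    intro h
    rw [h, Subgroup.mem_bot] at hzZ0
    apply hz1
    exact Subtype.ext hzZ0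
  have hZ0n : (N ⊓ Subgroup.centralizer (syl X p : Set G)).Normal := by
    apply Subgroup.normalizer_eq_top_iff.mp
    rw [eq_top_iff, ← hI N hNn hN1]
    apply sup_le
    · intro g hg
      apply Cfsg.Agent.Lib.Lead.Conj.mem_normalizer_of_conj_mem
      intro r hr
      obtain ⟨hr1, hr2⟩ := Subgroup.mem_inf.mp hr
      refine Subgroup.mem_inf.mpr ⟨hNn.conj_mem r hr1 g, ?_⟩
      apply conj_mem_centralizer _ hr2
      exact normalizer_le_normalizer_syl X p (Subgroup.le_normalizer hg)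
    · intro n hn'
      apply Cfsg.Agent.Lib.Lead.Conj.mem_normalizer_of_conj_mem
      intro r hr
      obtain ⟨hr1, hr2⟩ := Subgroup.mem_inf.mp hr
      have : n * r * n⁻¹ = r := by
        rw [hNab n hn' r hr1]; group
      rw [this]; exact hr
  have hZ0ab : ∀ x ∈ N ⊓ Subgroup.centralizer (syl X p : Set G),
      ∀ y ∈ N ⊓ Subgroup.centralizer (syl X p : Set G), x * y = y * x := fun x hx y hy =>
    hNab x (Subgroup.mem_inf.mp hx).1 y (Subgroup.mem_inf.mp hy).1
  have h5 := inf_centralizer_eq_bot hI hno hZ0n hZ01 hZ0ab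
  apply hP1
  rw [eq_bot_iff, ← h5]
  intro x hx
  refine Subgroup.mem_inf.mpr ⟨syl_le X p hx, ?_⟩
  rw [Subgroup.mem_centralizer_iff]
  intro h hh
  have := (Subgroup.mem_inf.mp hh).2
  rw [Subgroup.mem_centralizer_iff] at this
  exact (this x hx).symm

end core

theorem main_aux
    (hKW : ∀ (G : Type u) [Group G] [Finite G] (A B : Subgroup G), Group.IsNilpotent A →
      Group.IsNilpotent B → Fac A B → Group.IsSolvable G) (n : ℕ) :
    ∀ (G : Type u) [Group G] [Finite G], Nat.card G = n → ∀ A B : Subgroup G,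
      Group.IsNilpotent A → Group.IsNilpotent B → Fac A B → (A ≠ ⊤ ∨ B ≠ ⊤) →
      ∃ N : Subgroup G, N.Normal ∧ N ≠ ⊤ ∧ (A ≤ N ∨ B ≤ N) := by
  induction n using Nat.strong_induction_on with
  | _ n ihn =>
    intro G _ _ hn A B hA hB hf hproper
    have ih : IHN G := fun G' _ _ hlt A' B' hA' hB' hf' hp' =>
      ihn (Nat.card G') (hn ▸ hlt) G' rfl A' B' hA' hB' hf' hp'
    by_cases hAt : A = ⊤
    · have hG : Group.IsNilpotent G := by
        subst hAt; exact (Group.isNilpotent_congr Subgroup.topEquiv).mp hA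
      have hBt : B ≠ ⊤ := hproper.resolve_left (not_not.mpr hAt)
      obtain ⟨N, hN, hNt, hBN⟩ := exists_normal_of_nilpotent hG hBt
      exact ⟨N, hN, hNt, Or.inr hBN⟩
    by_cases hBt : B = ⊤
    · have hG : Group.IsNilpotent G := by
        subst hBt; exact (Group.isNilpotent_congr Subgroup.topEquiv).mp hB
      obtain ⟨N, hN, hNt, hAN⟩ := exists_normal_of_nilpotent hG hAt
      exact ⟨N, hN, hNt, Or.inl hAN⟩
    by_contra hcon
    have hI : ∀ N : Subgroup G, N.Normal → N ≠ ⊥ → A ⊔ N = ⊤ ∧ B ⊔ N = ⊤ := by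
      intro N hNn hN1
      by_contra h
      rw [not_and_or] at h
      haveI := hNn
      exact hcon (of_quotient ih hA hB hf hN1 h)
    have hIA : ∀ N : Subgroup G, N.Normal → N ≠ ⊥ → A ⊔ N = ⊤ := fun N hn h1 => (hI N hn h1).1
    have hIB : ∀ N : Subgroup G, N.Normal → N ≠ ⊥ → B ⊔ N = ⊤ := fun N hn h1 => (hI N hn h1).2
    have hsol : Group.IsSolvable G := hKW G A B hA hB hf
    have htop : (⊤ : Subgroup G) ≠ ⊥ := by
      intro h
      apply hAt
      exact le_antisymm le_top (h ▸ bot_le)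
    have hsolT : Group.IsSolvable (⊤ : Subgroup G) := inferInstance
    obtain ⟨p, N0, hp, hN01, -, hN0p, hN0n⟩ := exists_normal_pSubgroup hsolT htop
    haveI := Fact.mk hp
    -- `N = Z(N0)`
    have hNn : (N0 ⊓ Subgroup.centralizer (N0 : Set G)).Normal := by
      apply Subgroup.normalizer_eq_top_iff.mp
      rw [eq_top_iff]
      intro g hg
      exact mem_normalizer_ZR (hN0n hg)
    have hN1 : N0 ⊓ Subgroup.centralizer (N0 : Set G) ≠ ⊥ := by
      haveI : Nontrivial N0 := (Subgroup.nontrivial_iff_ne_bot N0).mpr hN01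
      haveI := hN0p.center_nontrivial
      obtain ⟨z, hz⟩ := exists_ne (1 : Subgroup.center N0)
      intro h
      have hz' : ((z : N0) : G) ∈ N0 ⊓ Subgroup.centralizer (N0 : Set G) := by
        refine Subgroup.mem_inf.mpr ⟨(z : N0).2, ?_⟩
        rw [Subgroup.mem_centralizer_iff]
        intro x hx
        have := Subgroup.mem_center_iff.mp z.2 ⟨x, hx⟩
        exact congrArg Subtype.val this
      rw [h, Subgroup.mem_bot] at hz'
      apply hz
      apply Subtype.ext
      apply Subtype.ext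
      exact hz'
    have hNp : IsPGroup p (N0 ⊓ Subgroup.centralizer (N0 : Set G) : Subgroup G) :=
      hN0p.to_le inf_le_left
    have hNab : ∀ x ∈ N0 ⊓ Subgroup.centralizer (N0 : Set G),
        ∀ y ∈ N0 ⊓ Subgroup.centralizer (N0 : Set G), x * y = y * x := by
      intro x hx y hy
      have h1 := (Subgroup.mem_inf.mp hy).2
      rw [Subgroup.mem_centralizer_iff] at h1
      exact h1 x (Subgroup.mem_inf.mp hx).1
    have hpA := not_dvd_card hA hIA (eq_bot_of_normal_le hAt hIA) hp hNn hN1 hNp hNab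
    have hpB := not_dvd_card hB hIB (eq_bot_of_normal_le hBt hIB) hp hNn hN1 hNp hNab
    have hd := card_dvd_mul_of_fac hf
    have hpN : p ∣ Nat.card (N0 ⊓ Subgroup.centralizer (N0 : Set G) : Subgroup G) := by
      obtain ⟨k, hk⟩ := IsPGroup.iff_card.mp hNp
      rw [hk]
      apply dvd_pow_self
      intro hk0
      apply hN1
      apply Subgroup.card_eq_one.mp
      rw [hk, hk0, pow_zero]
    have hpG : p ∣ Nat.card A * Nat.card B :=
      (hpN.trans (Subgroup.card_subgroup_dvd_card _)).trans hd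
    rcases (Nat.Prime.dvd_mul hp).mp hpG with h | h
    · exact hpA h
    · exact hpB h

/-- S0565 modulo the Kegel–Wielandt theorem. -/
theorem main
    (hKW : ∀ (G : Type u) [Group G] [Finite G] (A B : Subgroup G), Group.IsNilpotent A →
      Group.IsNilpotent B → Fac A B → Group.IsSolvable G)
    {G : Type u} [Group G] [Finite G] (A B : Subgroup G)
    (hA : Group.IsNilpotent A) (hB : Group.IsNilpotent B)
    (hAB : ∀ g : G, ∃ a ∈ A, ∃ b ∈ B, g = a * b) (hproper : A ≠ ⊤ ∨ B ≠ ⊤) :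
    ∃ N : Subgroup G, N.Normal ∧ N ≠ ⊤ ∧ (A ≤ N ∨ B ≤ N) :=
  main_aux hKW _ G rfl A B hA hB hAB hproper

end Cfsg.Agent.Lib.Helper7.NilProd
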