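import Mathlib
import Cfsg.Agent.Lib.Helper5.Ord2.Kit3
import Cfsg.Agent.Lib.Lead.O5040D

/-!
# No simple group of order 4200 = 2³·3·5²·7   (helper7, for S0983)

`n₇ ∈ {8, 15, 50, 120}`: `8` index, `120` Burnside, `15` parity of an involution of `C(P₇)`.
`n₇ = 50`: `|N(P₇)| = 84`, `|C(P₇)| ∈ {14, 28, 42}`.  An involution centralizing a Sylow
`7`-subgroup fixes exactly `22` Sylow `7`-subgroups (`≡ 1 mod 7`, `≡ 2 mod 4`, `< 50`) and
centralizes each of them (it cannot invert one: `21·7 > 49`).  Counting pairs (involution, Sylow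
`7`-subgroup centralized by it) gives `22 ∣ 50 t`, where `t` is the (odd) number of involutions
of `C(P₇)`; but `7 t ≤ |C(P₇)| ≤ 42`.  (The double count is the lead's `n7_ne_36` for `5040`.)
-/

set_option autoImplicit false
set_option maxRecDepth 100000

namespace Cfsg.Agent.Lib.Helper7.O4200

open MulAction Subgroup
open Cfsg.Agent.Lib.Helper5.O5040 Cfsg.Agent.Lib.Helper5.OrdKit Cfsg.Agent.Lib.Lead.O5040

theorem arith7 (k : ℕ) (h1 : k ∣ 600) (h2 : k % 7 = 1) (h3 : k ≠ 1) :
    k = 8 ∨ k = 15 ∨ k = 50 ∨ k = 120 := by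
  have hle : k ≤ 600 := Nat.le_of_dvd (by norm_num) h1
  obtain ⟨j, rfl⟩ : ∃ j, k = 7 * j + 1 := ⟨k / 7, by omega⟩
  have hj : j ≤ 85 := by omega
  interval_cases j <;> first | omega | (exfalso; revert h1; decide)

section general
variable {G : Type*} [Group G] [Finite G]

/-- If `x` has order `q` (odd) and commutes with all the involutions of a subgroup `C` containing
`x`, then `q` times the number of these involutions is at most `|C|`. -/
theorem mul_card_invol_le [Fintype G] [DecidableEq G] (C : Subgroup G) [DecidablePred (· ∈ C)]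
    (x : G) (q : ℕ) (hq : Odd q) (hxq : orderOf x = q) (hxC : x ∈ C)
    (hcomm : ∀ c ∈ C, c * x = x * c) :
    q * (Finset.univ.filter (fun g : G => g * g = 1 ∧ g ≠ 1 ∧ g ∈ C)).card ≤ Nat.card C := by
  classical
  set S := Finset.univ.filter (fun g : G => g * g = 1 ∧ g ≠ 1 ∧ g ∈ C) with hS
  have hcard : Nat.card C = (Finset.univ.filter (fun g : G => g ∈ C)).card := by
    rw [Nat.card_eq_fintype_card, Fintype.card_subtype]
  rw [hcard, mul_comm, ← Finset.card_range q, ← Finset.card_product]
  have hx1 : x ^ q = 1 := by rw [← hxq]; exact pow_orderOf_eq_one x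
  obtain ⟨m, hm⟩ := hq
  have hpow : ∀ c ∈ S, ∀ i : ℕ, (c * x ^ i) ^ q = c := by
    intro c hc i
    simp only [hS, Finset.mem_filter, Finset.mem_univ, true_and] at hc
    have hcx : Commute c (x ^ i) := (show Commute c x from hcomm c hc.2.2).pow_right i
    rw [hcx.mul_pow, ← pow_mul, mul_comm i q, pow_mul, hx1, one_pow, mul_one, hm, pow_succ,
      pow_mul, pow_two, hc.1, one_pow, one_mul]
  apply Finset.card_le_card_of_injOn (fun a => a.1 * x ^ a.2)
  · rintro ⟨c, i⟩ ha
    simp only [Finset.coe_product, Set.mem_prod, Finset.mem_coe, Finset.mem_range] at ha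
    have hc := ha.1
    simp only [hS, Finset.mem_filter, Finset.mem_univ, true_and] at hc
    simp only [Finset.coe_filter, Finset.mem_univ, true_and, Set.mem_setOf_eq]
    exact C.mul_mem hc.2.2 (C.pow_mem hxC i)
  · rintro ⟨c, i⟩ ha ⟨c', j⟩ hb heq
    simp only [Finset.coe_product, Set.mem_prod, Finset.mem_coe, Finset.mem_range] at ha hb
    simp only at heq
    have h1 : c = c' := by
      rw [← hpow c ha.1 i, ← hpow c' hb.1 j, heq]
    subst h1
    have h2 : x ^ i = x ^ j := mul_left_cancel heq
    have h3 : i = j := by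
      apply pow_injOn_Iio_orderOf (x := x)
      · rw [hxq]; exact ha.2
      · rw [hxq]; exact hb.2
      · exact h2
    rw [h3]

end general

section main
variable {G : Type*} [Group G] [Finite G] [IsSimpleGroup G]

/-- an involution centralizing a Sylow `7`-subgroup has exactly 22 fixed points on the 50 Sylow
`7`-subgroups -/
theorem card_fix_22 (hn : Nat.card G = 4200) [Fact (Nat.Prime 7)]
    (h50 : Nat.card (Sylow 7 G) = 50) (P : Sylow 7 G) (k : G) (hk : k * k = 1) (hk1 : k ≠ 1)
    (hc : ∀ y ∈ P, k * y = y * k) : Nat.card (fixedBy (Sylow 7 G) k) = 22 := by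
  have hP : Nat.card (P : Subgroup G) = 7 :=
    card_sylow_prime 600 (by rw [hn]) (by norm_num) P
  obtain ⟨x, hxP, hx1, hx7⟩ := exists_gen P hP
  have h1 := card_fixedBy_gen P hP x hxP hx1
  have h2 := card_fixedBy_modEq_one (X := Sylow 7 G) 7 x k hx7 (hc x hxP) h1
  have h3 := card_mod_four_eq (X := Sylow 7 G) (by rw [hn]; norm_num) k hk
  rw [h50] at h3
  have h4 : Nat.card (fixedBy (Sylow 7 G) k) ≤ 50 := by
    rw [← h50]
    exact Nat.card_le_card_of_injective (fun a : fixedBy (Sylow 7 G) k => (a : Sylow 7 G))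
      Subtype.val_injective
  unfold Nat.ModEq at h2
  have h5 : Nat.card (fixedBy (Sylow 7 G) k) ≠ 50 := by
    intro h
    apply hk1
    apply eq_one_of_forall_smul_sylow (p := 7) (by rw [h50]; norm_num) k
    intro Q
    have huniv : fixedBy (Sylow 7 G) k = Set.univ := by
      apply Set.eq_of_subset_of_ncard_le (Set.subset_univ _)
      rw [Set.ncard_univ, h50, ← h, Nat.card_coe_set_eq]
    have : Q ∈ fixedBy (Sylow 7 G) k := by rw [huniv]; trivial
    exact this
  omega

open Classical in
/-- the Sylow `7`-subgroups centralized by an involution `g` which centralizes at least one of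
them: exactly 22 -/
theorem card_cent_filter_22 (hn : Nat.card G = 4200) [Fact (Nat.Prime 7)]
    (h50 : Nat.card (Sylow 7 G) = 50) [Fintype (Sylow 7 G)]
    (g : G) (hg : g * g = 1) (hg1 : g ≠ 1) (Q0 : Sylow 7 G) (h0 : ∀ y ∈ Q0, g * y = y * g) :
    (Finset.univ.filter (fun Q : Sylow 7 G => ∀ y ∈ Q, g * y = y * g)).card = 22 := by
  have h8 := card_fix_22 hn h50 Q0 g hg hg1 h0
  have h8' := h8
  rw [card_fixedBy_eq_filter] at h8
  rw [← h8]
  congr 1
  ext Q
  simp only [Finset.mem_filter, Finset.mem_univ, true_and]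
  constructor
  · intro h
    apply Sylow.smul_eq_iff_mem_normalizer.2
    apply Subgroup.centralizer_le_normalizer
    rw [Subgroup.mem_centralizer_iff]
    intro y hy
    exact (h y hy).symm
  · intro hgQ
    by_contra hne
    push Not at hne
    obtain ⟨y0, hy0, hne0⟩ := hne
    have hQ : Nat.card (Q : Subgroup G) = 7 :=
      card_sylow_prime 600 (by rw [hn]) (by norm_num) Q
    have hinv := inverts Q hQ g hg hgQ y0 hy0 hne0
    have hle := card_fixedBy_le_of_inverts Q hQ (by norm_num) g hgQ hinv
    rw [h8', h50] at hle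
    omega

/-- a simple group of order `4200` does not have `50` Sylow `7`-subgroups -/
theorem n7_ne_50 (hn : Nat.card G = 4200) : Nat.card (Sylow 7 G) ≠ 50 := by
  intro h50
  classical
  have h7 : Fact (Nat.Prime 7) := ⟨by norm_num⟩
  have : Fintype G := Fintype.ofFinite G
  have : Fintype (Sylow 7 G) := Fintype.ofFinite _
  obtain ⟨P⟩ : Nonempty (Sylow 7 G) := inferInstance
  have hP : Nat.card (P : Subgroup G) = 7 :=
    card_sylow_prime 600 (by rw [hn]) (by norm_num) P
  -- the order of the centralizer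
  obtain ⟨d, hd6, hNd⟩ := card_normalizer_eq_mul P hP
  have hN := Cfsg.Agent.Lib.Helper4.Sylow.card_sylow_mul_card_normalizer P
  rw [h50, hn] at hN
  have hN' : Nat.card (Subgroup.normalizer ((P : Subgroup G) : Set G)) = 84 := by omega
  rw [hN'] at hNd
  have hd : d = 1 ∨ d = 2 ∨ d = 3 ∨ d = 6 := by
    have hle : d ≤ 6 := Nat.le_of_dvd (by norm_num) hd6
    interval_cases d <;> simp_all
  have hd1 : d ≠ 1 := by
    rintro rfl
    rw [mul_one] at hNd
    exact burnside P hP (by rw [hn]; norm_num) (hN'.trans hNd)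
  have hCeven : Even (Nat.card (Subgroup.centralizer ((P : Subgroup G) : Set G))) := by
    rw [Nat.even_iff]
    rcases hd with rfl | rfl | rfl | rfl <;> omega
  have hC42 : Nat.card (Subgroup.centralizer ((P : Subgroup G) : Set G)) ≤ 42 := by
    rcases hd with rfl | rfl | rfl | rfl <;> omega
  let T : Finset G := Finset.univ.filter (fun g => g * g = 1 ∧ g ≠ 1)
  let r : G → Sylow 7 G → Prop := fun g Q => ∀ y ∈ Q, g * y = y * g
  have hdc := Finset.sum_card_bipartiteAbove_eq_sum_card_bipartiteBelow (s := T)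
    (t := (Finset.univ : Finset (Sylow 7 G))) r
  -- the left side is divisible by `22`
  have hL : 22 ∣ ∑ a ∈ T, ((Finset.univ : Finset (Sylow 7 G)).bipartiteAbove r a).card := by
    apply Finset.dvd_sum
    intro g hgT
    simp only [T, Finset.mem_filter, Finset.mem_univ, true_and] at hgT
    by_cases hemp : ((Finset.univ : Finset (Sylow 7 G)).bipartiteAbove r g) = ∅
    · rw [hemp, Finset.card_empty]; exact dvd_zero 22
    · obtain ⟨Q0, hQ0⟩ := Finset.nonempty_iff_ne_empty.2 hemp
      rw [Finset.mem_bipartiteAbove] at hQ0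
      have h8 : ((Finset.univ : Finset (Sylow 7 G)).bipartiteAbove r g).card = 22 := by
        have := card_cent_filter_22 hn h50 g hgT.1 hgT.2 Q0 hQ0.2
        rw [← this]
        unfold Finset.bipartiteAbove
        congr 1
        ext Q
        simp only [Finset.mem_filter, Finset.mem_univ, true_and, r]
      rw [h8]
  -- the right side is `50 * t`
  have hR : ∀ Q ∈ (Finset.univ : Finset (Sylow 7 G)), (T.bipartiteBelow r Q).card =
      (T.bipartiteBelow r P).card := by
    intro Q _
    obtain ⟨h, rfl⟩ := MulAction.exists_smul_eq G P Q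
    have := card_invol_cent_smul P h
    unfold Finset.bipartiteBelow
    simp only [T, r, Finset.filter_filter]
    exact this
  rw [Finset.sum_congr rfl hR, Finset.sum_const, Finset.card_univ, ← Nat.card_eq_fintype_card,
    h50, smul_eq_mul] at hdc
  have hset : (T.bipartiteBelow r P) = Finset.univ.filter (fun g : G => g * g = 1 ∧ g ≠ 1 ∧
      g ∈ Subgroup.centralizer ((P : Subgroup G) : Set G)) := by
    unfold Finset.bipartiteBelow
    simp only [T, r, Finset.filter_filter]
    ext g
    simp only [Finset.mem_filter, Finset.mem_univ, true_and, Subgroup.mem_centralizer_iff,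
      SetLike.mem_coe]
    constructor
    · rintro ⟨⟨h1, h2⟩, h3⟩
      exact ⟨h1, h2, fun y hy => (h3 y hy).symm⟩
    · rintro ⟨h1, h2, h3⟩
      exact ⟨⟨h1, h2⟩, fun y hy => (h3 y hy).symm⟩
  have hodd : Odd (T.bipartiteBelow r P).card := by
    rw [hset]
    exact odd_card_invol (Subgroup.centralizer ((P : Subgroup G) : Set G)) hCeven
  -- `7 t ≤ |C(P)| ≤ 42`
  obtain ⟨x, hxP, hx1, hx7⟩ := exists_gen P hP
  have hox : orderOf x = 7 := by
    have h1 : orderOf x ∣ 7 := orderOf_dvd_of_pow_eq_one hx7
    rcases (Nat.dvd_prime (by norm_num : Nat.Prime 7)).1 h1 with h | h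
    · exact absurd (orderOf_eq_one_iff.1 h) hx1
    · exact h
  have hbound := mul_card_invol_le (Subgroup.centralizer ((P : Subgroup G) : Set G)) x 7
    (by decide) hox (le_centralizer P hP hxP)
    (fun c hc => ((Subgroup.mem_centralizer_iff.1 hc) x hxP).symm)
  rw [← hset] at hbound
  rw [hdc] at hL
  obtain ⟨m, hm⟩ := hodd
  rw [hm] at hL hbound
  omega

theorem no_simple_4200 (hn : Nat.card G = 4200) : False := by
  have hp7 : Fact (Nat.Prime 7) := ⟨by norm_num⟩
  have h2G : 2 < Nat.card G := by rw [hn]; norm_num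
  have hlt7 : 7 < Nat.card G := by rw [hn]; norm_num
  obtain ⟨P⟩ : Nonempty (Sylow 7 G) := inferInstance
  have hn7 : Nat.card G = 7 * 600 := by rw [hn]
  have hP := card_sylow_prime 600 hn7 (by norm_num) P
  obtain ⟨k, hk1, hk2, hk3, hk4, hk5⟩ := sylow_count 600 hn7 (by norm_num) (by norm_num) P
  obtain ⟨d, hd, hNC⟩ := card_normalizer_eq_mul P hP
  have hdle : d ≤ 6 := Nat.le_of_dvd (by norm_num) hd
  have hNtop := normalizer_ne_top P hP hlt7
  rw [hn] at hk4
  rcases arith7 k hk1 hk2 hk3 with rfl | rfl | rfl | rfl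
  · have := index_bound h2G _ hNtop 8 hk5
    rw [hn] at this
    revert this
    decide
  · -- `|N| = 280`
    have hN : Nat.card (Subgroup.normalizer ((P : Subgroup G) : Set G)) = 280 := by omega
    rw [hN] at hNC
    have h2C : 2 ∣ Nat.card (Subgroup.centralizer ((P : Subgroup G) : Set G)) := by
      interval_cases d <;> first | omega | (exfalso; revert hd; decide)
    obtain ⟨f, hf1, hf2, hf3⟩ := k3_two P hP hlt7 h2G h2C
    rw [hk5] at hf2 hf3
    omega
  · apply n7_ne_50 hn
    rw [P.card_eq_index_normalizer]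
    exact hk5
  · -- `|N| = 35`
    have hN : Nat.card (Subgroup.normalizer ((P : Subgroup G) : Set G)) = 35 := by omega
    rw [hN] at hNC
    have hd1 : d = 1 := by
      interval_cases d <;> first | omega | (exfalso; revert hd; decide)
    rw [hd1, mul_one] at hNC
    exact burnside P hP hlt7 (hN.trans hNC)

end main

end Cfsg.Agent.Lib.Helper7.O4200
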