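import Mathlib
import Cfsg.Agent.Lib.Helper5.Ord2.Kit3
import Cfsg.Agent.Lib.Lead.Simple168A

/-!
# No simple group of order 4620 = 2²·3·5·7·11   (helper7, for S0983)

Fixed-point congruences (`k3`), Burnside and the cross-prime step force `n₁₁ = 210`, `n₇ = 330`,
`n₅ = 231`; then there are `2100 + 1980 + 924 > 4620` elements of order `11`, `7`, `5`.
-/

set_option autoImplicit false
set_option maxRecDepth 100000

namespace Cfsg.Agent.Lib.Helper7.O4620

open MulAction Subgroup
open Cfsg.Agent.Lib.Helper5.O5040 Cfsg.Agent.Lib.Helper5.OrdKit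

theorem arith11 (k : ℕ) (h1 : k ∣ 420) (h2 : k % 11 = 1) (h3 : k ≠ 1) : k = 12 ∨ k = 210 := by
  have hle : k ≤ 420 := Nat.le_of_dvd (by norm_num) h1
  obtain ⟨j, rfl⟩ : ∃ j, k = 11 * j + 1 := ⟨k / 11, by omega⟩
  have hj : j ≤ 38 := by omega
  interval_cases j <;> first | omega | (exfalso; revert h1; decide)

theorem arith7 (k : ℕ) (h1 : k ∣ 660) (h2 : k % 7 = 1) (h3 : k ≠ 1) :
    k = 15 ∨ k = 22 ∨ k = 330 := by
  have hle : k ≤ 660 := Nat.le_of_dvd (by norm_num) h1
  obtain ⟨j, rfl⟩ : ∃ j, k = 7 * j + 1 := ⟨k / 7, by omega⟩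
  have hj : j ≤ 94 := by omega
  interval_cases j <;> first | omega | (exfalso; revert h1; decide)

theorem arith5 (k : ℕ) (h1 : k ∣ 924) (h2 : k % 5 = 1) (h3 : k ≠ 1) :
    k = 6 ∨ k = 11 ∨ k = 21 ∨ k = 66 ∨ k = 231 := by
  have hle : k ≤ 924 := Nat.le_of_dvd (by norm_num) h1
  obtain ⟨j, rfl⟩ : ∃ j, k = 5 * j + 1 := ⟨k / 5, by omega⟩
  have hj : j ≤ 184 := by omega
  interval_cases j <;> first | omega | (exfalso; revert h1; decide)

variable {G : Type*} [Group G] [Finite G] [IsSimpleGroup G]

/-- `n₁₁ = 210` and `C(P₁₁) = P₁₁`. -/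
theorem sylow11 (hn : Nat.card G = 4620) [Fact (Nat.Prime 11)] (P : Sylow 11 G) :
    Nat.card (Sylow 11 G) = 210 ∧
      Nat.card (Subgroup.centralizer ((P : Subgroup G) : Set G)) = 11 := by
  have hp7 : Fact (Nat.Prime 7) := ⟨by norm_num⟩
  have hlt : 11 < Nat.card G := by rw [hn]; norm_num
  have hn11 : Nat.card G = 11 * 420 := by rw [hn]
  have hP := card_sylow_prime 420 hn11 (by norm_num) P
  obtain ⟨k, hk1, hk2, hk3, hk4, hk5⟩ := sylow_count 420 hn11 (by norm_num) (by norm_num) P
  obtain ⟨d, hd, hNC⟩ := card_normalizer_eq_mul P hP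
  have hdle : d ≤ 10 := Nat.le_of_dvd (by norm_num) hd
  rw [hn] at hk4
  rcases arith11 k hk1 hk2 hk3 with rfl | rfl
  · exfalso
    have hN : Nat.card (Subgroup.normalizer ((P : Subgroup G) : Set G)) = 385 := by omega
    rw [hN] at hNC
    have h7C : 7 ∣ Nat.card (Subgroup.centralizer ((P : Subgroup G) : Set G)) := by
      interval_cases d <;> first | omega | (exfalso; revert hd; decide)
    obtain ⟨f, hf1, hf2, hf3⟩ := k3 P hP hlt 7 h7C
    rw [hk5] at hf2 hf3
    omega
  · have hN : Nat.card (Subgroup.normalizer ((P : Subgroup G) : Set G)) = 22 := by omega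
    rw [hN] at hNC
    refine ⟨by rw [P.card_eq_index_normalizer]; exact hk5, ?_⟩
    interval_cases d
    · omega
    · exfalso
      rw [mul_one] at hNC
      exact burnside P hP hlt (hN.trans hNC)
    · omega
    all_goals first | omega | (exfalso; revert hd; decide)

/-- `n₇ = 330` and `C(P₇) = P₇`. -/
theorem sylow7 (hn : Nat.card G = 4620) [Fact (Nat.Prime 7)] (P : Sylow 7 G) :
    Nat.card (Sylow 7 G) = 330 ∧
      Nat.card (Subgroup.centralizer ((P : Subgroup G) : Set G)) = 7 := by
  have hp11 : Fact (Nat.Prime 11) := ⟨by norm_num⟩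
  have hp5 : Fact (Nat.Prime 5) := ⟨by norm_num⟩
  have hlt : 7 < Nat.card G := by rw [hn]; norm_num
  have hn7 : Nat.card G = 7 * 660 := by rw [hn]
  have hn11 : Nat.card G = 11 * 420 := by rw [hn]
  have hP := card_sylow_prime 660 hn7 (by norm_num) P
  obtain ⟨k, hk1, hk2, hk3, hk4, hk5⟩ := sylow_count 660 hn7 (by norm_num) (by norm_num) P
  obtain ⟨d, hd, hNC⟩ := card_normalizer_eq_mul P hP
  have hdle : d ≤ 6 := Nat.le_of_dvd (by norm_num) hd
  rw [hn] at hk4
  rcases arith7 k hk1 hk2 hk3 with rfl | rfl | rfl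
  · exfalso
    have hN : Nat.card (Subgroup.normalizer ((P : Subgroup G) : Set G)) = 308 := by omega
    rw [hN] at hNC
    have h11C : 11 ∣ Nat.card (Subgroup.centralizer ((P : Subgroup G) : Set G)) := by
      interval_cases d <;> first | omega | (exfalso; revert hd; decide)
    obtain ⟨Q, hQc, h7CQ⟩ := exists_sylow_dvd_centralizer P hP 420 hn11 (by norm_num) h11C
    rw [(sylow11 hn Q).2] at h7CQ
    revert h7CQ
    decide
  · exfalso
    have hN : Nat.card (Subgroup.normalizer ((P : Subgroup G) : Set G)) = 210 := by omega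
    rw [hN] at hNC
    have h5C : 5 ∣ Nat.card (Subgroup.centralizer ((P : Subgroup G) : Set G)) := by
      interval_cases d <;> first | omega | (exfalso; revert hd; decide)
    obtain ⟨f, hf1, hf2, hf3⟩ := k3 P hP hlt 5 h5C
    rw [hk5] at hf2 hf3
    omega
  · have hN : Nat.card (Subgroup.normalizer ((P : Subgroup G) : Set G)) = 14 := by omega
    rw [hN] at hNC
    refine ⟨by rw [P.card_eq_index_normalizer]; exact hk5, ?_⟩
    interval_cases d
    · omega
    · exfalso
      rw [mul_one] at hNC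
      exact burnside P hP hlt (hN.trans hNC)
    · omega
    all_goals first | omega | (exfalso; revert hd; decide)

/-- `n₅ = 231`. -/
theorem sylow5 (hn : Nat.card G = 4620) [Fact (Nat.Prime 5)] (P : Sylow 5 G) :
    Nat.card (Sylow 5 G) = 231 := by
  have hp11 : Fact (Nat.Prime 11) := ⟨by norm_num⟩
  have hp7 : Fact (Nat.Prime 7) := ⟨by norm_num⟩
  have hlt : 5 < Nat.card G := by rw [hn]; norm_num
  have h2G : 2 < Nat.card G := by rw [hn]; norm_num
  have hn5 : Nat.card G = 5 * 924 := by rw [hn]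
  have hn7 : Nat.card G = 7 * 660 := by rw [hn]
  have hn11 : Nat.card G = 11 * 420 := by rw [hn]
  have hP := card_sylow_prime 924 hn5 (by norm_num) P
  obtain ⟨k, hk1, hk2, hk3, hk4, hk5⟩ := sylow_count 924 hn5 (by norm_num) (by norm_num) P
  obtain ⟨d, hd, hNC⟩ := card_normalizer_eq_mul P hP
  have hdle : d ≤ 4 := Nat.le_of_dvd (by norm_num) hd
  have hNtop := normalizer_ne_top P hP hlt
  rw [hn] at hk4
  rcases arith5 k hk1 hk2 hk3 with rfl | rfl | rfl | rfl | rfl
  · exfalso
    have := index_bound h2G _ hNtop 6 hk5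
    rw [hn] at this
    revert this
    decide
  · exfalso
    have hN : Nat.card (Subgroup.normalizer ((P : Subgroup G) : Set G)) = 420 := by omega
    rw [hN] at hNC
    have h7C : 7 ∣ Nat.card (Subgroup.centralizer ((P : Subgroup G) : Set G)) := by
      interval_cases d <;> first | omega | (exfalso; revert hd; decide)
    obtain ⟨Q, hQc, h5CQ⟩ := exists_sylow_dvd_centralizer P hP 660 hn7 (by norm_num) h7C
    rw [(sylow7 hn Q).2] at h5CQ
    revert h5CQ
    decide
  · exfalso
    have hN : Nat.card (Subgroup.normalizer ((P : Subgroup G) : Set G)) = 220 := by omega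
    rw [hN] at hNC
    have h11C : 11 ∣ Nat.card (Subgroup.centralizer ((P : Subgroup G) : Set G)) := by
      interval_cases d <;> first | omega | (exfalso; revert hd; decide)
    obtain ⟨Q, hQc, h5CQ⟩ := exists_sylow_dvd_centralizer P hP 420 hn11 (by norm_num) h11C
    rw [(sylow11 hn Q).2] at h5CQ
    revert h5CQ
    decide
  · exfalso
    have hN : Nat.card (Subgroup.normalizer ((P : Subgroup G) : Set G)) = 70 := by omega
    rw [hN] at hNC
    have h7C : 7 ∣ Nat.card (Subgroup.centralizer ((P : Subgroup G) : Set G)) := by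
      interval_cases d <;> first | omega | (exfalso; revert hd; decide)
    obtain ⟨Q, hQc, h5CQ⟩ := exists_sylow_dvd_centralizer P hP 660 hn7 (by norm_num) h7C
    rw [(sylow7 hn Q).2] at h5CQ
    revert h5CQ
    decide
  · rw [P.card_eq_index_normalizer]; exact hk5

theorem no_simple_4620 (hn : Nat.card G = 4620) : False := by
  have hp11 : Fact (Nat.Prime 11) := ⟨by norm_num⟩
  have hp7 : Fact (Nat.Prime 7) := ⟨by norm_num⟩
  have hp5 : Fact (Nat.Prime 5) := ⟨by norm_num⟩
  obtain ⟨P11⟩ : Nonempty (Sylow 11 G) := inferInstance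
  obtain ⟨P7⟩ : Nonempty (Sylow 7 G) := inferInstance
  obtain ⟨P5⟩ : Nonempty (Sylow 5 G) := inferInstance
  have h11 := Cfsg.Agent.Lead.Simple168.card_orderOf_eq_prime (G := G) (p := 11)
    (fun P => card_sylow_prime 420 (by rw [hn]) (by norm_num) P)
  have h7 := Cfsg.Agent.Lead.Simple168.card_orderOf_eq_prime (G := G) (p := 7)
    (fun P => card_sylow_prime 660 (by rw [hn]) (by norm_num) P)
  have h5 := Cfsg.Agent.Lead.Simple168.card_orderOf_eq_prime (G := G) (p := 5)
    (fun P => card_sylow_prime 924 (by rw [hn]) (by norm_num) P)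
  rw [(sylow11 hn P11).1] at h11
  rw [(sylow7 hn P7).1] at h7
  rw [sylow5 hn P5] at h5
  have hinj : Function.Injective
      (Sum.elim (fun a : {g : G // orderOf g = 11} => (a : G))
        (Sum.elim (fun a : {g : G // orderOf g = 7} => (a : G))
          (fun a : {g : G // orderOf g = 5} => (a : G)))) := by
    rintro (a | a | a) (b | b | b) h <;> simp only [Sum.elim_inl, Sum.elim_inr] at h
    · rw [Subtype.ext h]
    · exfalso; have := a.2; rw [h, b.2] at this; norm_num at this
    · exfalso; have := a.2; rw [h, b.2] at this; norm_num at this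
    · exfalso; have := a.2; rw [h, b.2] at this; norm_num at this
    · rw [Subtype.ext h]
    · exfalso; have := a.2; rw [h, b.2] at this; norm_num at this
    · exfalso; have := a.2; rw [h, b.2] at this; norm_num at this
    · exfalso; have := a.2; rw [h, b.2] at this; norm_num at this
    · rw [Subtype.ext h]
  have hle := Nat.card_le_card_of_injective _ hinj
  rw [Nat.card_sum, Nat.card_sum, h11, h7, h5, hn] at hle
  norm_num at hle

end Cfsg.Agent.Lib.Helper7.O4620
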