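import Mathlib
import Cfsg.Agent.Lib.Helper5.Ord2.Kit3
import Cfsg.Agent.Lib.Helper7.Ord2B

/-!
# No simple group of order 5148 = 2²·3²·11·13   (helper7, for S0983)

`n₁₁ = 78`, `|N(P₁₁)| = 66`, `|C(P₁₁)| = 33`: commuting `c` (order 3), `x` (order 11).
`H = C(c)` contains `P₁₁` and a Sylow `3`-subgroup, so `99 ∣ |H|`; Sylow counting in `H`
(`|H| = n·|N_H(P₁₁)|`, `n ≡ 1 mod 11`, `33 ∣ |N_H(P₁₁)| ∣ 66`) gives `|H| = 396`, index 13.
On the 13 cosets `x` fixes exactly 2, `c` fixes both of them, so `|Fix c| ≡ 2 mod 11` and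
`≡ 1 mod 3`, hence `|Fix c| = 13` and `c = 1`.
-/

set_option autoImplicit false
set_option maxRecDepth 100000

namespace Cfsg.Agent.Lib.Helper7.O5148

open MulAction Subgroup
open Cfsg.Agent.Lib.Helper5.O5040 Cfsg.Agent.Lib.Helper5.OrdKit

section general

/-- If `c` commutes with `x` and `x ^ p = 1`, then the number of fixed points of `c` is congruent
mod `p` to the number of common fixed points of `c` and `x`. -/
theorem card_fixedBy_modEq_inter {G X : Type*} [Group G] [MulAction G X] [Finite X] (p : ℕ)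
    [hp : Fact p.Prime] (x c : G) (hx : x ^ p = 1) (hcomm : c * x = x * c) :
    Nat.card (fixedBy X c) ≡ Nat.card ↥(fixedBy X c ∩ fixedBy X x) [MOD p] := by
  classical
  have hcommZ : ∀ g ∈ Subgroup.zpowers x, c * g = g * c := by
    intro g hg
    obtain ⟨k, rfl⟩ := Subgroup.mem_zpowers_iff.1 hg
    exact ((Commute.zpow_right (show Commute c x from hcomm) k)).eq
  let S : SubMulAction (Subgroup.zpowers x) X :=
    { carrier := fixedBy X c
      smul_mem' := by
        rintro ⟨g, hg⟩ a ha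
        rw [mem_fixedBy] at ha ⊢
        show c • (g • a) = g • a
        rw [smul_smul, hcommZ g hg, ← smul_smul, ha] }
  have hSmem : ∀ a : X, a ∈ S ↔ c • a = a := fun a => Iff.rfl
  have hPG : IsPGroup p (Subgroup.zpowers x) := by
    rintro ⟨g, hg⟩
    refine ⟨1, ?_⟩
    obtain ⟨k, rfl⟩ := Subgroup.mem_zpowers_iff.1 hg
    apply Subtype.ext
    simp only [pow_one, Subgroup.coe_pow, Subgroup.coe_one]
    rw [← zpow_natCast, ← zpow_mul, mul_comm, zpow_mul, zpow_natCast, hx, one_zpow]
  have hfinS : Finite S := Finite.of_injective (fun s : S => (s : X)) Subtype.val_injective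
  have h := hPG.card_modEq_card_fixedPoints S
  have hcardS : Nat.card S = Nat.card (fixedBy X c) := by
    apply Nat.card_congr
    exact Equiv.subtypeEquivRight (fun a => by rw [hSmem, mem_fixedBy])
  have hfix : Nat.card (fixedPoints (Subgroup.zpowers x) S) =
      Nat.card ↥(fixedBy X c ∩ fixedBy X x) := by
    apply Nat.card_congr
    refine ⟨fun a => ⟨((a : S) : X), ?_, ?_⟩, fun b => ⟨⟨(b : X), ?_⟩, ?_⟩, ?_, ?_⟩
    · exact (hSmem _).1 (a : S).2
    · have h3 := a.2 ⟨x, Subgroup.mem_zpowers x⟩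
      exact congrArg Subtype.val h3
    · exact (hSmem _).2 b.2.1
    · rintro ⟨g, hg⟩
      apply Subtype.ext
      show g • (b : X) = (b : X)
      have hle : Subgroup.zpowers x ≤ stabilizer G (b : X) :=
        Subgroup.zpowers_le.2 (mem_stabilizer_iff.2 b.2.2)
      exact mem_stabilizer_iff.1 (hle hg)
    · intro a; rfl
    · intro b; rfl
  rw [hfix, hcardS] at h
  exact h

/-- Sylow counting inside a subgroup `H` whose order is divisible by `p`, when the Sylow
`p`-subgroups of `G` have order `p` and normalizers of order `w`. -/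
theorem sylow_count_in_subgroup {G : Type*} [Group G] [Finite G] (p m w : ℕ) [hp : Fact p.Prime]
    (hn : Nat.card G = p * m) (hpm : ¬ p ∣ m)
    (hw : ∀ P : Sylow p G, Nat.card (Subgroup.normalizer ((P : Subgroup G) : Set G)) = w)
    (H : Subgroup G) (hpH : p ∣ Nat.card H) :
    ∃ (n : ℕ) (K : Subgroup G), K ≤ H ∧ Nat.card H = n * Nat.card K ∧ n % p = 1 ∧
      Nat.card K ∣ w ∧ p ∣ Nat.card K ∧ ∀ z ∈ H, (∀ h ∈ H, h * z = z * h) → z ∈ K := by
  obtain ⟨Q⟩ : Nonempty (Sylow p H) := inferInstance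
  have hQne : (Q : Subgroup H) ≠ ⊥ := Q.ne_bot_of_dvd_card hpH
  -- the image of `Q` in `G` is a Sylow subgroup of `G`
  have hQG : IsPGroup p ((Q : Subgroup H).map H.subtype) := Q.2.map H.subtype
  obtain ⟨P, hP⟩ := hQG.exists_le_sylow
  have hPc := card_sylow_prime m hn hpm P
  have hQc : Nat.card ((Q : Subgroup H).map H.subtype) = Nat.card (Q : Subgroup H) :=
    Subgroup.card_map_of_injective H.subtype_injective
  have hQ1 : Nat.card (Q : Subgroup H) ≠ 1 := by
    intro h
    exact hQne (Subgroup.card_eq_one.1 h)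
  have hQp : Nat.card (Q : Subgroup H) = p := by
    have h1 := Subgroup.card_dvd_of_le hP
    rw [hQc, hPc] at h1
    rcases (Nat.dvd_prime hp.out).1 h1 with h | h
    · exact absurd h hQ1
    · exact h
  have hQP : (Q : Subgroup H).map H.subtype = (P : Subgroup G) :=
    Subgroup.eq_of_le_of_card_ge hP (by rw [hQc, hQp, hPc])
  set K := (Subgroup.normalizer ((Q : Subgroup H) : Set H)).map H.subtype with hK
  have hKc : Nat.card K = Nat.card (Subgroup.normalizer ((Q : Subgroup H) : Set H)) :=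
    Subgroup.card_map_of_injective H.subtype_injective
  refine ⟨Nat.card (Sylow p H), K, Subgroup.map_subtype_le _, ?_, ?_, ?_, ?_, ?_⟩
  · rw [hKc]
    exact (Cfsg.Agent.Lib.Helper4.Sylow.card_sylow_mul_card_normalizer Q).symm
  · have h1 := card_sylow_modEq_one p H
    unfold Nat.ModEq at h1
    rw [h1, Nat.mod_eq_of_lt hp.out.one_lt]
  · have h1 : K ≤ Subgroup.normalizer ((P : Subgroup G) : Set G) := by
      have := Subgroup.le_normalizer_map (H := (Q : Subgroup H)) H.subtype
      rw [hQP] at this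
      exact this
    have := Subgroup.card_dvd_of_le h1
    rwa [hw P] at this
  · rw [hKc]
    have := Subgroup.card_dvd_of_le (Subgroup.le_normalizer (H := (Q : Subgroup H)))
    rwa [hQp] at this
  · intro z hz hcent
    refine ⟨⟨z, hz⟩, ?_, rfl⟩
    rw [SetLike.mem_coe, Subgroup.mem_normalizer_iff]
    intro h
    have h1 : (⟨z, hz⟩ : H) * h * (⟨z, hz⟩ : H)⁻¹ = h := by
      apply Subtype.ext
      have := hcent (h : G) h.2
      simp only [Subgroup.coe_mul, Subgroup.coe_inv]
      rw [← this]; group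
    rw [h1]

end general

theorem arithH (h n k : ℕ) (h1 : h = n * k) (hk : k = 33 ∨ k = 66) (hn : n % 11 = 1)
    (h99 : 99 ∣ h) (hdvd : h ∣ 5148) : h = 396 ∨ h = 2574 ∨ h = 5148 := by
  have hle : h ≤ 5148 := Nat.le_of_dvd (by norm_num) hdvd
  obtain ⟨j, rfl⟩ := h99
  have hj : j ≤ 52 := by omega
  rcases hk with rfl | rfl <;> interval_cases j <;>
    first | omega | (exfalso; revert hdvd; decide)

section main
variable {G : Type*} [Group G] [Finite G] [IsSimpleGroup G]

/-- A simple group of order `5148` containing commuting elements of orders `3` and `11` has no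
subgroup of index `13`. -/
theorem no_index_13 (hn : Nat.card G = 5148) (c x : G) (hc3 : c ^ 3 = 1) (hc1 : c ≠ 1)
    (hx11 : x ^ 11 = 1) (hx1 : x ≠ 1) (hcomm : c * x = x * c) (H : Subgroup G)
    (hH : H.index = 13) : False := by
  have hp11 : Fact (Nat.Prime 11) := ⟨by norm_num⟩
  have hp3 : Fact (Nat.Prime 3) := ⟨by norm_num⟩
  have hHtop : H ≠ ⊤ := by
    intro h; rw [h, Subgroup.index_top] at hH; norm_num at hH
  have hX : Nat.card (G ⧸ H) = 13 := hH
  -- `x` fixes exactly two points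
  have hb1 := card_fixedBy_modEq_card (X := G ⧸ H) 11 x hx11
  have hb2 := card_fixedBy_le (X := G ⧸ H) x
  have hb3 : Nat.card (fixedBy (G ⧸ H) x) ≠ Nat.card (G ⧸ H) :=
    fun h => hx1 (eq_one_of_card_fixedBy_eq H hHtop x h)
  rw [hX] at hb1 hb2 hb3
  unfold Nat.ModEq at hb1
  have hb : Nat.card (fixedBy (G ⧸ H) x) = 2 := by omega
  -- `c` fixes both
  have he1 := card_fixedBy_modEq_inter (X := G ⧸ H) 3 c x hc3 hcomm.symm
  have he2 : Nat.card ↥(fixedBy (G ⧸ H) x ∩ fixedBy (G ⧸ H) c) ≤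
      Nat.card (fixedBy (G ⧸ H) x) :=
    Nat.card_le_card_of_injective
      (fun a : ↥(fixedBy (G ⧸ H) x ∩ fixedBy (G ⧸ H) c) => (⟨a.1, a.2.1⟩ : fixedBy (G ⧸ H) x))
      (fun a b h => Subtype.ext (congrArg (fun t : fixedBy (G ⧸ H) x => (t : G ⧸ H)) h))
  rw [hb] at he1 he2
  unfold Nat.ModEq at he1
  have he : Nat.card ↥(fixedBy (G ⧸ H) x ∩ fixedBy (G ⧸ H) c) = 2 := by omega
  -- the fixed points of `c`
  have ha1 := card_fixedBy_modEq_inter (X := G ⧸ H) 11 x c hx11 hcomm
  rw [Set.inter_comm, he] at ha1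
  have ha2 := card_fixedBy_modEq_card (X := G ⧸ H) 3 c hc3
  have ha3 := card_fixedBy_le (X := G ⧸ H) c
  have ha4 : Nat.card (fixedBy (G ⧸ H) c) ≠ Nat.card (G ⧸ H) :=
    fun h => hc1 (eq_one_of_card_fixedBy_eq H hHtop c h)
  rw [hX] at ha2 ha3 ha4
  unfold Nat.ModEq at ha1 ha2
  omega

theorem no_simple_5148 (hn : Nat.card G = 5148) : False := by
  classical
  have hp11 : Fact (Nat.Prime 11) := ⟨by norm_num⟩
  have hp3 : Fact (Nat.Prime 3) := ⟨by norm_num⟩
  have hnp : ¬ (Nat.card G).Prime := by rw [hn]; norm_num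
  have h2G : 2 < Nat.card G := by rw [hn]; norm_num
  have hlt11 : 11 < Nat.card G := by rw [hn]; norm_num
  have hn' : Nat.card G = 11 ^ 1 * 468 := by rw [hn]; norm_num
  have hn11 : Nat.card G = 11 * 468 := by rw [hn]
  have hcnt : Nat.card (Sylow 11 G) = 78 :=
    Cfsg.Agent.Lib.Helper7.Ord2.card_sylow_eq_of_killed 11 1 468 78 (by norm_num) hn'
      (by norm_num) one_pos (by norm_num) (by decide)
  have hw : ∀ P : Sylow 11 G,
      Nat.card (Subgroup.normalizer ((P : Subgroup G) : Set G)) = 66 := by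
    intro P
    have hN := Cfsg.Agent.Lib.Helper4.Sylow.card_sylow_mul_card_normalizer P
    rw [hcnt, hn] at hN
    omega
  obtain ⟨P⟩ : Nonempty (Sylow 11 G) := inferInstance
  have hP := card_sylow_prime 468 hn11 (by norm_num) P
  obtain ⟨d, hd, hNC⟩ := card_normalizer_eq_mul P hP
  rw [hw P] at hNC
  have hdle : d ≤ 10 := Nat.le_of_dvd (by norm_num) hd
  have hC33 : Nat.card (Subgroup.centralizer ((P : Subgroup G) : Set G)) = 33 := by
    interval_cases d
    · omega
    · exfalso
      rw [mul_one] at hNC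
      exact burnside P hP hlt11 ((hw P).trans hNC)
    · omega
    all_goals first | omega | (exfalso; revert hd; decide)
  obtain ⟨c, hcC, hc3⟩ := exists_orderOf_of_dvd
    (Subgroup.centralizer ((P : Subgroup G) : Set G)) 3 (by rw [hC33]; norm_num)
  obtain ⟨x, hxP, hx1, hx11⟩ := exists_gen P hP
  have hcomm : c * x = x * c := ((Subgroup.mem_centralizer_iff.1 hcC) x hxP).symm
  have hc3' : c ^ 3 = 1 := by rw [← hc3]; exact pow_orderOf_eq_one c
  have hc1 : c ≠ 1 := by
    intro h; rw [h, orderOf_one] at hc3; norm_num at hc3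
  set H := Subgroup.centralizer ({c} : Set G) with hHdef
  have hmemH : ∀ g : G, g ∈ H ↔ c * g = g * c := by
    intro g
    rw [hHdef, Subgroup.mem_centralizer_iff]
    simp only [Set.mem_singleton_iff, forall_eq]
  have hPH : (P : Subgroup G) ≤ H := by
    intro y hy
    rw [hmemH]
    exact ((Subgroup.mem_centralizer_iff.1 hcC) y hy).symm
  -- a Sylow `3`-subgroup containing `c`
  obtain ⟨Q, hcQ⟩ : ∃ Q : Sylow 3 G, c ∈ (Q : Subgroup G) := by
    have hPG3 : IsPGroup 3 (Subgroup.zpowers c) := by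
      apply IsPGroup.of_card (n := 1)
      rw [Nat.card_zpowers, hc3]; norm_num
    obtain ⟨Q, hQ⟩ := hPG3.exists_le_sylow
    exact ⟨Q, hQ (Subgroup.mem_zpowers c)⟩
  have hQ9 : Nat.card (Q : Subgroup G) = 9 := by
    have := Cfsg.Agent.Lib.Helper4.Sylow.card_sylow_of_card_eq (p := 3) (a := 2) (m := 572)
      (by rw [hn]; norm_num) (by norm_num) Q
    simpa using this
  have hQcomm := IsPGroup.commutative_of_card_eq_prime_sq (p := 3) (G := (Q : Subgroup G))
    (by rw [hQ9]; norm_num)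
  have hQH : (Q : Subgroup G) ≤ H := by
    intro y hy
    rw [hmemH]
    exact congrArg Subtype.val (hQcomm ⟨c, hcQ⟩ ⟨y, hy⟩)
  have h99 : 99 ∣ Nat.card H := by
    have h1 : 11 ∣ Nat.card H := hP ▸ Subgroup.card_dvd_of_le hPH
    have h2 : 9 ∣ Nat.card H := hQ9 ▸ Subgroup.card_dvd_of_le hQH
    exact Nat.Coprime.mul_dvd_of_dvd_of_dvd (by norm_num : Nat.Coprime 9 11) h2 h1
  have hHdvd : Nat.card H ∣ 5148 := hn ▸ Subgroup.card_subgroup_dvd_card H
  obtain ⟨n, K, hKH, hHK, hn1, hK66, h11K, hzK⟩ :=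
    sylow_count_in_subgroup 11 468 66 hn11 (by norm_num) hw H
      (Dvd.dvd.trans (by norm_num) h99)
  have hcH : c ∈ H := (hmemH c).2 rfl
  have hcK : c ∈ K := hzK c hcH (fun h hh => ((hmemH h).1 hh).symm)
  have h3K : 3 ∣ Nat.card K := by
    have := orderOf_dvd_card_of_mem K c hcK
    rwa [hc3] at this
  have hK : Nat.card K = 33 ∨ Nat.card K = 66 := by
    have h33 : 33 ∣ Nat.card K :=
      Nat.Coprime.mul_dvd_of_dvd_of_dvd (by norm_num : Nat.Coprime 3 11) h3K h11K
    have hle : Nat.card K ≤ 66 := Nat.le_of_dvd (by norm_num) hK66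
    obtain ⟨j, hj⟩ := h33
    have hj2 : j ≤ 2 := by omega
    interval_cases j
    · rw [hj] at hK66; simp at hK66
    · left; omega
    · right; omega
  have hHtop : H ≠ ⊤ := by
    intro h
    apply hc1
    apply eq_one_of_central hnp
    intro g
    have : g ∈ H := by rw [h]; trivial
    exact ((hmemH g).1 this).symm
  rcases arithH _ n _ hHK hK hn1 h99 hHdvd with h | h | h
  · have hidx : H.index = 13 := index_eq_of_card H 396 13 h (by rw [hn]) (by norm_num)
    exact no_index_13 hn c x hc3' hc1 hx11 hx1 hcomm H hidx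
  · have hidx : H.index = 2 := index_eq_of_card H 2574 2 h (by rw [hn]) (by norm_num)
    have := index_bound h2G H hHtop 2 hidx
    rw [hn] at this
    revert this
    decide
  · exact hHtop ((Subgroup.card_eq_iff_eq_top H).1 (by rw [h, hn]))

end main

end Cfsg.Agent.Lib.Helper7.O5148
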