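import Mathlib
import Cfsg.Agent.Lib.Helper7.Ord2B

/-! The "dihedral" elimination with the perfect-square test (helper7, for S4274): if a Sylow
subgroup of prime order `p ≥ 5` of a simple group has a normalizer of order `2p`, then there are
divisors `d > 1` and `D = d ± 1` of the order with `d ≡ ±1 (mod p)` such that `p |G| d D` is a
perfect square (`|s^G|² (d - Y(s))² = p |G| d D` for an involution `s`). -/

set_option autoImplicit false

namespace Cfsg.Agent.Lib.Helper7.Ord2

open Cfsg.Agent.Lib.Helper7.Ord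

section
variable {G : Type*} [Group G] [Finite G] [IsSimpleGroup G]

/-- The dihedral elimination with the square test, given the number of Sylow subgroups. -/
theorem dihedral_sq_of_count (p m d₀ : ℕ) (hp : p.Prime) (h5 : 5 ≤ p)
    (hn : Nat.card G = p ^ 1 * m)
    (hpm : ¬ p ∣ m) (hd₀ : m = d₀ * 2) (hd₀pos : 0 < d₀)
    (hcnt : Nat.card (Sylow p G) = d₀)
    (harith : ∀ d D : ℕ, d ∣ p * m → D ∣ p * m → 1 < d →
      ((d % p = 1 ∧ D = d + 1) ∨ (d % p = p - 1 ∧ D + 1 = d)) →
        ¬ IsSquare (p * (p * m) * d * D)) : False := by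
  classical
  have : Fact p.Prime := ⟨hp⟩
  let _ : Fintype G := Fintype.ofFinite G
  rw [pow_one] at hn
  obtain ⟨P⟩ : Nonempty (Sylow p G) := inferInstance
  have hP : Nat.card (P : Subgroup G) = p := by
    simpa using Cfsg.Agent.Lib.Helper4.Sylow.card_sylow_of_card_eq (a := 1)
      (by rw [pow_one]; exact hn) hpm P
  have hN := Cfsg.Agent.Lib.Helper4.Sylow.card_sylow_mul_card_normalizer P
  rw [hcnt, hn, hd₀] at hN
  have hN' : Nat.card (Subgroup.normalizer ((P : Subgroup G) : Set G)) = p * 2 := by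
    have h1 : d₀ * Nat.card (Subgroup.normalizer ((P : Subgroup G) : Set G)) = d₀ * (p * 2) := by
      rw [hN]; ring
    exact Nat.eq_of_mul_eq_mul_left hd₀pos h1
  have hm2 : 2 ≤ m := by omega
  have hGne : Nat.card G ≠ p := by
    rw [hn]
    intro h1
    have : p * m = p * 1 := by rw [mul_one]; exact h1
    have := Nat.eq_of_mul_eq_mul_left hp.pos this
    omega
  have hC := Cfsg.Agent.Lib.Helper7.BrP.self_centralizing_of_simple P hP 2 Nat.prime_two hN' hGne
  obtain ⟨t, Y, d, D, δ, ht2, ht1, -, hδ, -, hd, hD, hd1, hcong, hDd, hall⟩ :=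
    Cfsg.Agent.Lib.Helper7.BrD.dihedral_simple (P : Subgroup G) hp hP hC hN' h5
  obtain ⟨-, A, -, -, heq⟩ := hall t ht2 ht1
  rw [hn] at hd hD heq
  have hsq : IsSquare (p * (p * m) * d * D) := by
    rw [← Int.isSquare_natCast_iff]
    refine ⟨((Cfsg.Agent.Lib.Helper7.BrD.cls t).card : ℤ) * ((d : ℤ) - A), ?_⟩
    push_cast
    push_cast at heq
    rw [← heq]
    ring
  refine harith d D hd hD hd1 ?_ hsq
  obtain ⟨c, hc⟩ := hcong
  rcases hδ with rfl | rfl
  · left
    have hD' : D = d + 1 := by omega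
    refine ⟨?_, hD'⟩
    have h1 : (d : ℤ) = 1 + p * c := by linarith
    have h2 : ((d : ℤ)) % (p : ℤ) = 1 := by
      rw [h1, Int.add_mul_emod_self_left]
      exact Int.emod_eq_of_lt (by norm_num) (by exact_mod_cast (by omega : 1 < p))
    exact_mod_cast h2
  · right
    have hD' : D + 1 = d := by omega
    refine ⟨?_, hD'⟩
    have h1 : (d : ℤ) = (p - 1 : ℤ) + p * (c - 1) := by linarith
    have h2 : ((d : ℤ)) % (p : ℤ) = (p : ℤ) - 1 := by
      rw [h1, Int.add_mul_emod_self_left]
      exact Int.emod_eq_of_lt (by have : (5 : ℤ) ≤ p := by exact_mod_cast h5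
                                  linarith) (by linarith)
    have h3 : ((d % p : ℕ) : ℤ) = ((p - 1 : ℕ) : ℤ) := by
      rw [Nat.cast_sub (by omega)]
      push_cast
      exact h2
    exact_mod_cast h3

end

end Cfsg.Agent.Lib.Helper7.Ord2
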