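import Mathlib
import Cfsg.Agent.Lib.Helper5.Ord2.Kit4
import Cfsg.Agent.Lib.Helper7.Ord2Sq

/-!
# No simple group of order 58520

(author: helper7; the route is helper8's.)  `58520 = 2^3 * 5 * 7 * 11 * 19`.
`n_7 ∈ {8, 22, 190, 4180}`: `8` by the index bound; `22`: `19 ∣ |C(P_7)|`, fixed points;
`190`: `11 ∣ |C(P_7)|`, so some Sylow `11`-subgroup has `7 ∣ |N|`, forcing `n_11 = 760`,
`|N(P_11)| = 77 = |C(P_11)|` (Burnside); so `n_7 = 4180`, `|N(P_7)| = 14`, and the dihedral
elimination applies: the only admissible pair is `(d, D) = (20, 19)` and `7 · 58520 · 20 · 19` is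
not a perfect square.
-/

set_option autoImplicit false
set_option linter.style.haveILetI false
set_option linter.unusedTactic false
set_option linter.unreachableTactic false

namespace Cfsg.Agent.Lib.Helper7.O58520

open MulAction Cfsg.Agent.Lib.Helper5.OrdKit Cfsg.Agent.Lib.Helper5.O5040

variable {G : Type*} [Group G] [Finite G] [IsSimpleGroup G]

/-- a Sylow `11`-subgroup whose centralizer has order divisible by `7` does not exist -/
theorem no_seven_dvd_centralizer11 (hn : Nat.card G = 58520) [h11 : Fact (Nat.Prime 11)]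
    (Q : Sylow 11 G) (h7 : 7 ∣ Nat.card (Subgroup.centralizer ((Q : Subgroup G) : Set G))) :
    False := by
  have hn' : Nat.card G = 11 * 5320 := by rw [hn]
  have hQ : Nat.card (Q : Subgroup G) = 11 := card_sylow_prime 5320 hn' (by norm_num) Q
  have hlt : 11 < Nat.card G := by rw [hn]; norm_num
  obtain ⟨k, hk1, hk2, hk3, hk4, hk5⟩ := sylow_count 5320 hn' (by norm_num) (by norm_num) Q
  obtain ⟨d, hd, hNC⟩ := card_normalizer_eq_mul Q hQ
  have hd' : d ∣ 10 := hd
  have hdle : d ≤ 10 := Nat.le_of_dvd (by norm_num) hd'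
  have h7N : 7 ∣ Nat.card (Subgroup.normalizer ((Q : Subgroup G) : Set G)) := by
    rw [hNC]; exact Dvd.dvd.mul_right h7 d
  have hk : k = 56 ∨ k = 133 ∨ k = 760 := by
    have hkle : k ≤ 5320 := Nat.le_of_dvd (by norm_num) hk1
    obtain ⟨j, rfl⟩ : ∃ j, k = 11 * j + 1 := ⟨k / 11, by omega⟩
    have hj : j ≤ 483 := by omega
    interval_cases j <;> first | omega | (exfalso; revert hk1; decide)
  rcases hk with rfl | rfl | rfl
  · have hN : Nat.card (Subgroup.normalizer ((Q : Subgroup G) : Set G)) = 1045 := by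
      rw [hn] at hk4; omega
    rw [hN] at h7N
    revert h7N; decide
  · have hN : Nat.card (Subgroup.normalizer ((Q : Subgroup G) : Set G)) = 440 := by
      rw [hn] at hk4; omega
    rw [hN] at h7N
    revert h7N; decide
  · have hN : Nat.card (Subgroup.normalizer ((Q : Subgroup G) : Set G)) = 77 := by
      rw [hn] at hk4; omega
    rw [hN] at hNC
    have hd1 : d = 1 := by
      interval_cases d <;> first | omega | (exfalso; revert hd'; decide)
    subst hd1
    exact burnside Q hQ hlt (by omega)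

theorem card_sylow7 (hn : Nat.card G = 58520) [h7 : Fact (Nat.Prime 7)] :
    Nat.card (Sylow 7 G) = 4180 := by
  haveI h19 : Fact (Nat.Prime 19) := ⟨by norm_num⟩
  haveI h11 : Fact (Nat.Prime 11) := ⟨by norm_num⟩
  obtain ⟨P⟩ : Nonempty (Sylow 7 G) := inferInstance
  have hn' : Nat.card G = 7 * 8360 := by rw [hn]
  have hP : Nat.card (P : Subgroup G) = 7 := card_sylow_prime 8360 hn' (by norm_num) P
  have hlt : 7 < Nat.card G := by rw [hn]; norm_num
  have h2G : 2 < Nat.card G := by rw [hn]; norm_num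
  obtain ⟨k, hk1, hk2, hk3, hk4, hk5⟩ := sylow_count 8360 hn' (by norm_num) (by norm_num) P
  obtain ⟨d, hd, hNC⟩ := card_normalizer_eq_mul P hP
  have hd' : d ∣ 6 := hd
  have hdle : d ≤ 6 := Nat.le_of_dvd (by norm_num) hd'
  have hNtop := normalizer_ne_top P hP hlt
  have hk : k = 8 ∨ k = 22 ∨ k = 190 ∨ k = 4180 := by
    have hkle : k ≤ 8360 := Nat.le_of_dvd (by norm_num) hk1
    obtain ⟨j, rfl⟩ : ∃ j, k = 7 * j + 1 := ⟨k / 7, by omega⟩
    have hj : j ≤ 1194 := by omega
    interval_cases j <;> first | omega | (exfalso; revert hk1; decide)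
  rcases hk with rfl | rfl | rfl | rfl
  · exfalso
    have := index_bound h2G _ hNtop 8 hk5
    rw [hn] at this
    revert this; decide
  · exfalso
    have hN : Nat.card (Subgroup.normalizer ((P : Subgroup G) : Set G)) = 2660 := by
      rw [hn] at hk4; omega
    rw [hN] at hNC
    have h19C : 19 ∣ Nat.card (Subgroup.centralizer ((P : Subgroup G) : Set G)) := by
      interval_cases d <;> first | omega | (exfalso; revert hd'; decide)
    obtain ⟨f, hf1, hf2, hf3⟩ := k3 P hP hlt 19 h19C
    rw [hk5] at hf2 hf3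
    omega
  · exfalso
    have hN : Nat.card (Subgroup.normalizer ((P : Subgroup G) : Set G)) = 308 := by
      rw [hn] at hk4; omega
    rw [hN] at hNC
    have h11C : 11 ∣ Nat.card (Subgroup.centralizer ((P : Subgroup G) : Set G)) := by
      interval_cases d <;> first | omega | (exfalso; revert hd'; decide)
    obtain ⟨Q, -, hQ7⟩ := exists_sylow_dvd_centralizer P hP 5320 (by rw [hn]) (by norm_num) h11C
    exact no_seven_dvd_centralizer11 hn Q hQ7
  · exact P.card_eq_index_normalizer.trans hk5

set_option maxRecDepth 100000 in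
theorem no_simple_58520 (hn : Nat.card G = 58520) : False := by
  haveI h7 : Fact (Nat.Prime 7) := ⟨by norm_num⟩
  refine Cfsg.Agent.Lib.Helper7.Ord2.dihedral_sq_of_count (G := G) 7 8360 4180 (by norm_num)
    (by norm_num) (by rw [hn]; norm_num) (by norm_num) (by norm_num) (by norm_num)
    (card_sylow7 hn) ?_
  intro d D hd hD hd1 hcase
  have h : d ∈ Nat.divisors 58520 := Nat.mem_divisors.mpr ⟨hd, by norm_num⟩
  simp only [Nat.divisors_ofNat] at h
  obtain ⟨c, hc⟩ := hD
  have key : d = 20 ∧ D = 19 := by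
    rcases hcase with ⟨h1, rfl⟩ | ⟨h1, h2⟩
    · exfalso
      fin_cases h <;> omega
    · obtain rfl : D = d - 1 := by omega
      fin_cases h <;> omega
  obtain ⟨rfl, rfl⟩ := key
  norm_num

end Cfsg.Agent.Lib.Helper7.O58520
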