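import Cfsg.Agent.Lib.Helper7.O73A1U
import Cfsg.Agent.Lib.Helper7.MGenH

/-!
# The multiplier of the orthogonal group of dimension seven over the field of three elements, the first chain, the table of the subgroup generated by the first six letters: the kernel of every finite stem extension of the group is an image of the cyclic group of order three

In a finite stem extension the derived subgroup of the preimage of `L` is a copy of `L`, since `L` is perfect and has
no proper stem extensions; the first four letters are lifted into this copy, so that all the words in these letters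
that are trivial in the group are trivial in the extension.  The lift of the fifth letter is chosen so that one more
given word is trivial; this is possible since the kernel has order prime to seven, the Sylow subgroups for this
prime being cyclic.  The checked table over the copy of `L` shows that the kernel is generated by the values of the
other given words; the traced words give relations between them, which make their seventh powers trivial, so that
they are trivial.
-/

set_option autoImplicit false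
set_option maxRecDepth 100000

namespace Cfsg.Agent.Lib.Helper7.O73A2

open Cfsg Cfsg.Agent.Lib.Helper7.MG Cfsg.Agent.Lib.Helper7.HSMult Cfsg.Agent.Lib.Helper7.O73AV2
open Cfsg.Agent.Lib.Helper7.M12Mult
open scoped IsMulCommutative

/-! ### the data of the certificate -/

/-- the words that define the central elements -/
def axI : ℕ → ℕ
  | 0 => 3
  | 1 => 4
  | 2 => 101
  | 3 => 6
  | 4 => 41
  | 5 => 53
  | _ => 0

theorem axI_lt : ∀ j, axI j < 118
  | 0 => by decide
  | 1 => by decide
  | 2 => by decide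
  | 3 => by decide
  | 4 => by decide
  | 5 => by decide
  | _ + 6 => by
    show (0 : ℕ) < 118
    decide

/-- the word of which a power is the trivial word that is not a word in the first four letters -/
def yW : List ℕ := [4, 0, 2]

theorem chk_wT : ∀ i, i < 118 → cert.wT i = 0 →
    (((cert.W i).all fun x => Nat.blt x 4) = true ∧
      ∀ l, l < 6 → ((fld (cert.rhs i) l : ℤ) - ((cert.W i).length : ℤ) * (cert.B : ℤ)) = 0) ∨
    i = 2 ∨ ∃ j, j < 6 ∧ i = axI j := by decide +kernel

theorem chk_W3 : cert.W 2 = wpow 7 yW := by decide +kernel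

theorem chk_yW : expsumL 4 5 (wpow 7 yW) = 7 := by decide

theorem chk_len : ∀ i, i < 118 → (cert.W i).length ≤ 255 := by decide +kernel

theorem chk_ax : ∀ j, j < 6 → ∀ l, l < 6 →
    ((fld (cert.rhs (axI j)) l : ℤ) - ((cert.W (axI j)).length : ℤ) * (cert.B : ℤ)) = if l = j then 1 else 0 := by
  decide +kernel

theorem chk_ex : ∀ l, l < 6 →
    ((fld (cert.rhs 2) l : ℤ) - ((cert.W 2).length : ℤ) * (cert.B : ℤ)) = 0 := by
  decide +kernel

/-- the relations between the central elements that the traced words give -/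
def relL : List (List ℤ) := [[7, (-5), (-3), 0, 0, 5],
    [3, 24, (-7), (-1), 0, (-25)],
    [(-4), 2, (-1), 0, (-3), 3],
    [5, (-7), 19, 3, (-15), (-9)],
    [6, (-3), 6, (-3), 9, (-6)],
    [3, (-6), 2, 0, 0, 4],
    [(-15), (-11), 4, 5, (-7), 13]]

/-- the generator of the kernel as a product of powers of the central elements -/
def cL : List ℤ := [1, 0, 0, 0, 0, 0]

/-- the central elements as powers of the generator -/
def mL : List ℤ := [1, 2, 0, 0, 2, 0]

/-- the combinations of the relations that express the central elements by the generator -/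
def lamL : List (List ℤ) := [[0, 0, 0, 0, 0, 0, 0],
    [(-10110633435), 4247823174, (-149284520), (-2049269327), (-3465210385), 29490478458, 0],
    [(-83558264), 35105682, (-1233752), (-16935969), (-28637868), 243720934, (-3)],
    [(-608277), 255548, (-8999), (-123286), (-208481), 1774175, (-6)],
    [(-10189403850), 4280917324, (-150447571), (-2065234875), (-3492207313), 29720234321, 2],
    [232, (-102), (-2), 48, 77, (-691), (-3)]]

/-- the combination of the relations that gives the cube of the generator -/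
def muL : List ℤ := [15284092210, (-6421370292), 225671148, 3097849564, 5238306318, (-44580311933), (-6)]

theorem chk_rel_0 : ∀ l, l < 6 → ((fld (cert.rhs 34) l : ℤ) - (fld 41532076229396515981300370970279930 l : ℤ)) = (relL.getD 0 []).getD l 0 := by
  decide +kernel

theorem chk_rel_1 : ∀ l, l < 6 → ((fld (cert.rhs 16) l : ℤ) - (fld 38970151890452825757547649836283902 l : ℤ)) = (relL.getD 1 []).getD l 0 := by
  decide +kernel

theorem chk_rel_2 : ∀ l, l < 6 → ((fld (cert.rhs 30) l : ℤ) - (fld 41533343883623521669542456656429064 l : ℤ)) = (relL.getD 2 []).getD l 0 := by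
  decide +kernel

theorem chk_rel_3 : ∀ l, l < 6 → ((fld (cert.rhs 105) l : ℤ) - (fld 155780463182527152131189588213489659 l : ℤ)) = (relL.getD 3 []).getD l 0 := by
  decide +kernel

theorem chk_rel_4 : ∀ l, l < 6 → ((fld (cert.rhs 95) l : ℤ) - (fld 54526774900867965439534964080158714 l : ℤ)) = (relL.getD 4 []).getD l 0 := by
  decide +kernel

theorem chk_rel_5 : ∀ l, l < 6 → ((fld (cert.rhs 24) l : ℤ) - (fld 41533343879996744210696370116395005 l : ℤ)) = (relL.getD 5 []).getD l 0 := by
  decide +kernel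

theorem chk_rel_6 : ∀ l, l < 6 → ((fld (cert.rhs 2) l : ℤ) - (fld 54502689558806432971370755691423759 l : ℤ)) = (relL.getD 6 []).getD l 0 := by
  decide +kernel

theorem chk_lam : ∀ j, j < 6 → ∀ l, l < 6 →
    ((7 : ℕ) : ℤ) * ((if l = j then 1 else 0) - mL.getD j 0 * cL.getD l 0) = dotL (lamL.getD j []) relL l := by
  decide +kernel

theorem chk_mu : ∀ l, l < 6 → ((7 : ℕ) : ℤ) * ((3 : ℤ) * cL.getD l 0) = dotL muL relL l := by decide +kernel

section upper

universe u

variable {Γ : Type u} [Group Γ] [Finite Γ] (σ : Γ →* G) (hsurj : Function.Surjective σ)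
  (hcen : σ.ker ≤ Subgroup.center Γ) (hder : σ.ker ≤ commutator Γ)

include hsurj hcen hder in
theorem not_dvd_card_ker : ¬ 7 ∣ Nat.card σ.ker := by
  have hperf := perfect_of_stem σ hsurj hcen hder G_perfect
  have : Fact (Nat.Prime 7) := ⟨by norm_num⟩
  exact Cfsg.Agent.S0102.result G_perfect
    (fun P => isCyclic_sylow_of_card_eq 7 606528 (by rw [card_G]) (by norm_num) P) σ hsurj hcen hperf

/-! ### the letters in the extension -/

/-- the letters in the extension -/
def gU (a c t : Γ) : ℕ → Γ
  | 0 => a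
  | 1 => a⁻¹
  | 2 => c
  | 3 => c⁻¹
  | 4 => t
  | 5 => t⁻¹
  | _ => 1

omit [Finite Γ] in
theorem map_gU (a c t : Γ) (ha : σ a = lK 0) (hc : σ c = lK 2) (ht : σ t = lK 4) : ∀ x, σ (gU a c t x) = lK x
  | 0 => ha
  | 1 => by
    show σ a⁻¹ = lK 1
    rw [map_inv, ha]
    exact (lK_iv (x := 0) (by norm_num)).symm
  | 2 => hc
  | 3 => by
    show σ c⁻¹ = lK 3
    rw [map_inv, hc]
    exact (lK_iv (x := 2) (by norm_num)).symm
  | 4 => ht
  | 5 => by
    show σ t⁻¹ = lK 5
    rw [map_inv, ht]
    exact (lK_iv (x := 4) (by norm_num)).symm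
  | x + 6 => by
    show σ 1 = lK (x + 6)
    rw [map_one, lK_of_ge (by omega)]

omit [Finite Γ] in
theorem map_wd_gU (a c t : Γ) (ha : σ a = lK 0) (hc : σ c = lK 2) (ht : σ t = lK 4) :
    ∀ w : List ℕ, σ (VCert.wd (gU a c t) w) = VCert.wd lK w
  | [] => map_one σ
  | x :: w => by
    rw [VCert.wd_cons, VCert.wd_cons, map_mul, map_gU σ a c t ha hc ht x, map_wd_gU a c t ha hc ht w]

include hsurj hcen hder in
/-- **lifts of the generators: the first two in the copy of `L`, the third such that the given word is trivial** -/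
theorem exists_lifts : ∃ a c t : Γ, a ∈ Mt σ L ∧ c ∈ Mt σ L ∧ σ a = lK 0 ∧ σ c = lK 2 ∧ σ t = lK 4 ∧
    VCert.wd (gU a c t) (wpow 7 yW) = 1 := by
  have hnd := not_dvd_card_ker σ hsurj hcen hder
  have cop : (Nat.card ↥σ.ker).Coprime 7 :=
    ((Nat.Prime.coprime_iff_not_dvd (by norm_num)).2 hnd).symm
  obtain ⟨a, haM, ha⟩ := exists_mem_Mt (σ := σ) hsurj L L_perfect (lK 0) (lK_mem_L (by norm_num))
  obtain ⟨c, hcM, hc⟩ := exists_mem_Mt (σ := σ) hsurj L L_perfect (lK 2) (lK_mem_L (by norm_num))
  obtain ⟨t0, ht0⟩ := hsurj (lK 4)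
  have hk2 : VCert.wd (gU a c t0) (wpow 7 yW) ∈ σ.ker := by
    rw [MonoidHom.mem_ker, map_wd_gU σ a c t0 ha hc ht0, ← chk_W3]
    exact wd_lK_W (by norm_num)
  obtain ⟨w, hw, hwr⟩ := exists_root σ.ker 7 cop _ (Subgroup.inv_mem _ hk2)
  have hwc : ∀ x : Γ, w⁻¹ * x = x * w⁻¹ := fun x =>
    (Subgroup.mem_center_iff.1 (Subgroup.inv_mem _ (hcen hw)) x).symm
  refine ⟨a, c, t0 * w, haM, hcM, ha, hc, ?_, ?_⟩
  · rw [map_mul, MonoidHom.mem_ker.1 hw, mul_one, ht0]
  · rw [wd_central_mul_at 4 5 (by norm_num) (gU a c t0) (gU a c (t0 * w)) w (hcen hw) rfl (by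
        show (t0 * w)⁻¹ = t0⁻¹ * w⁻¹
        rw [mul_inv_rev, hwc]) (by
        intro x h0 h1
        match x, h0, h1 with
        | 0, _, _ => rfl
        | 1, _, _ => rfl
        | 2, _, _ => rfl
        | 3, _, _ => rfl
        | 4, h0, _ => exact absurd rfl h0
        | 5, _, h1 => exact absurd rfl h1
        | _ + 6, _, _ => rfl), chk_yW]
    show _ * w ^ ((7 : ℕ) : ℤ) = 1
    rw [zpow_natCast, hwr, mul_inv_cancel]

variable (a c t : Γ) (haM : a ∈ Mt σ L) (hcM : c ∈ Mt σ L) (ha : σ a = lK 0) (hc : σ c = lK 2) (ht : σ t = lK 4)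
  (hy : VCert.wd (gU a c t) (wpow 7 yW) = 1)

include ha hc ht in
omit [Finite Γ] in
theorem wd_gU_mem_ker {i : ℕ} (hi : i < 118) : VCert.wd (gU a c t) (cert.W i) ∈ σ.ker := by
  rw [MonoidHom.mem_ker, map_wd_gU σ a c t ha hc ht, wd_lK_W hi]

omit [Finite Γ] in
theorem gU_iv : ∀ x, x < 6 → gU a c t (Nat.xor x 1) = (gU a c t x)⁻¹
  | 0, _ => rfl
  | 1, _ => (inv_inv a).symm
  | 2, _ => rfl
  | 3, _ => (inv_inv c).symm
  | 4, _ => rfl
  | 5, _ => (inv_inv t).symm
  | x + 6, h => absurd h (by omega)

include haM hcM in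
omit [Finite Γ] in
theorem gU_mem_Mt : ∀ x, x < 4 → gU a c t x ∈ Mt σ L
  | 0, _ => haM
  | 1, _ => Subgroup.inv_mem _ haM
  | 2, _ => hcM
  | 3, _ => Subgroup.inv_mem _ hcM
  | x + 4, h => absurd h (by omega)

/-- the central elements: the values of the given words -/
noncomputable def zU (j : ℕ) : Subgroup.center Γ :=
  ⟨VCert.wd (gU a c t) (cert.W (axI j)), hcen (wd_gU_mem_ker σ a c t ha hc ht (axI_lt j))⟩

include hsurj haM hcM hy in
theorem hW0_U : ∀ i, i < cert.nW → cert.wT i = 0 →
    VCert.wd (gU a c t) (cert.W i) = (cert.ek (zU σ hcen a c t ha hc ht) i : Γ) := by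
  intro i hi hT
  rcases chk_wT i hi hT with ⟨h4, h0⟩ | rfl | ⟨j, hj, rfl⟩
  · rw [VCert.ek, cert.kap_one _ h0]
    have hl : ∀ x ∈ (cert.W i).map (gU a c t), x ∈ Mt σ L := by
      intro x hx
      obtain ⟨y, hy', rfl⟩ := List.mem_map.1 hx
      exact gU_mem_Mt σ a c t haM hcM y (by simpa [Nat.blt] using List.all_eq_true.1 h4 y hy')
    have h1 : (((cert.W i).map (gU a c t)).map σ).prod = 1 := by
      rw [← map_list_prod]
      have := map_wd_gU σ a c t ha hc ht (cert.W i)
      rw [VCert.wd] at this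
      rw [this]
      exact wd_lK_W hi
    exact prod_eq_one_of_Mt hsurj hcen L L_perfect O73A1.MF_L _ hl h1
  · rw [VCert.ek, cert.kap_one _ chk_ex, chk_W3]
    exact hy
  · rw [VCert.ek, cert.kap_unit _ hj (chk_ax j hj)]
    rfl

include hcen hder ha hc ht in
omit [Finite Γ] in
theorem hgen_U : ∀ y : Γ, ∃ u : List ℕ, (∀ x ∈ u, x < cert.g) ∧ y = (u.map (gU a c t)).prod := by
  apply MG.exists_word_of_closure (gU a c t) 6 (fun x => Nat.xor x 1)
  · intro x hx
    refine ⟨?_, gU_iv a c t x hx⟩
    have : x = 0 ∨ x = 1 ∨ x = 2 ∨ x = 3 ∨ x = 4 ∨ x = 5 := by omega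
    rcases this with rfl | rfl | rfl | rfl | rfl | rfl <;> decide
  · apply Cfsg.Agent.Lib.Helper7.M12Mult.closure_eq_top_of_stem (σ := σ) hcen hder
    intro g
    have hg : g ∈ Subgroup.closure (lK '' Set.Iio 6) := by rw [closure_lK]; exact Subgroup.mem_top g
    induction hg using Subgroup.closure_induction with
    | mem y hy =>
      obtain ⟨x, hx, rfl⟩ := hy
      exact ⟨gU a c t x, Subgroup.subset_closure ⟨x, hx, rfl⟩, map_gU σ a c t ha hc ht x⟩
    | one => exact ⟨1, one_mem _, map_one σ⟩
    | mul p q _ _ ihp ihq =>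
      obtain ⟨p', hp', rfl⟩ := ihp
      obtain ⟨q', hq', rfl⟩ := ihq
      exact ⟨p' * q', mul_mem hp' hq', map_mul σ p' q'⟩
    | inv p _ ihp =>
      obtain ⟨p', hp', rfl⟩ := ihp
      exact ⟨p'⁻¹, inv_mem hp', map_inv σ p'⟩

include hsurj hcen in
theorem hHK_U : ∀ u, u ∈ Mt σ L → u ∈ σ.ker → u = 1 := fun _ hu hk =>
  eq_one_of_mem_Mt hsurj hcen L L_perfect O73A1.MF_L hu (MonoidHom.mem_ker.1 hk)

include haM hcM in
omit [Finite Γ] in
theorem hsub_U : ∀ x, cert.sub x = true → gU a c t x ∈ Mt σ L := fun x hx =>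
  gU_mem_Mt σ a c t haM hcM x (lt_four_of_sub hx)

include hsurj hder haM hcM hy in
/-- **the kernel is generated by the central elements** -/
theorem ker_eq_Zc_U : σ.ker = Zc (zU σ hcen a c t ha hc ht) 6 := by
  refine ker_eq_Zc_of_sub σ cert (gU a c t) (zU σ hcen a c t ha hc ht) (Mt σ L) 6048 hsurj
    (by rw [card_G]; rfl) (by decide) (by norm_num) (hHK_U σ hsurj hcen) ?_
    (hsub_U σ a c t haM hcM) ?_ (hgen_U σ hcen hder a c t ha hc ht) (by decide) (by decide) (gU_iv a c t) ?_
    (hW0_U σ hsurj hcen a c t haM hcM ha hc ht hy) cert_all cert_wall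
  · rw [← card_L]
    exact card_Mt_le hsurj hcen L L_perfect O73A1.MF_L
  · intro j _
    exact wd_gU_mem_ker σ a c t ha hc ht (axI_lt j)
  · intro i hi
    exact wd_gU_mem_ker σ a c t ha hc ht hi

include hsurj haM hcM hy in
/-- the relations between the central elements -/
theorem rel_U : ∀ r ∈ relL, zprod (zU σ hcen a c t ha hc ht) 6 (fun l => r.getD l 0) = 1 := by
  have hKn : ∀ u, u ∈ σ.ker → ∀ g : Γ, g * u * g⁻¹ ∈ σ.ker := fun u hu g =>
    (inferInstance : σ.ker.Normal).conj_mem u hu g
  have key : ∀ {i v row : ℕ}, i < 118 → cert.scan 4095 (cert.W i) row 0 = some (row, v) →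
      cert.ek (zU σ hcen a c t ha hc ht) i = cert.kap (zU σ hcen a c t ha hc ht) v (cert.W i).length := by
    intro i v row hi h
    exact cert.close_spec (γ := gU a c t) (H := Mt σ L) σ.ker hKn
      (fun j _ => wd_gU_mem_ker σ a c t ha hc ht (axI_lt j)) (hHK_U σ hsurj hcen) (by decide) (by decide)
      (gU_iv a c t) (hsub_U σ a c t haM hcM)
      (fun i hi => wd_gU_mem_ker σ a c t ha hc ht hi) (hW0_U σ hsurj hcen a c t haM hcM ha hc ht hy)
      cert_all cert_wall hi (chk_len i hi) h
  intro r hr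
  simp only [relL, List.mem_cons, List.not_mem_nil, or_false] at hr
  rcases hr with rfl | rfl | rfl | rfl | rfl | rfl | rfl
  · exact cert.rel_of_close _ (key (by norm_num) close_0) _ chk_rel_0
  · exact cert.rel_of_close _ (key (by norm_num) close_1) _ chk_rel_1
  · exact cert.rel_of_close _ (key (by norm_num) close_2) _ chk_rel_2
  · exact cert.rel_of_close _ (key (by norm_num) close_3) _ chk_rel_3
  · exact cert.rel_of_close _ (key (by norm_num) close_4) _ chk_rel_4
  · exact cert.rel_of_close _ (key (by norm_num) close_5) _ chk_rel_5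
  · exact cert.rel_of_close _ (key (by norm_num) close_6) _ chk_rel_6

include hsurj hcen hder haM hcM ha hc ht hy in
/-- **the kernel is an image of the cyclic group of order three** -/
theorem exists_surj_U : ∃ π : Multiplicative (ZMod 3) →* ↥σ.ker, Function.Surjective π := by
  have hnd := not_dvd_card_ker σ hsurj hcen hder
  have copq : (Nat.card ↥σ.ker).Coprime 7 :=
    ((Nat.Prime.coprime_iff_not_dvd (by norm_num)).2 hnd).symm
  have hK := ker_eq_Zc_U σ hsurj hcen hder a c t haM hcM ha hc ht hy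
  set S : Subgroup (Subgroup.center Γ) := σ.ker.comap (Subgroup.center Γ).subtype with hS
  have hzS : ∀ j, j < 6 → zU σ hcen a c t ha hc ht j ∈ S :=
    fun j _ => wd_gU_mem_ker σ a c t ha hc ht (axI_lt j)
  have hq : ∀ u, u ∈ S → u ^ 7 = 1 → u = 1 := by
    intro u hu huq
    have h1 : (⟨(u : Γ), hu⟩ : ↥σ.ker) ^ 7 = 1 := by
      apply Subtype.ext
      rw [Subgroup.coe_pow, Subgroup.coe_one]
      show (u : Γ) ^ 7 = 1
      rw [← Subgroup.coe_pow, huq, Subgroup.coe_one]
    have h2 := eq_one_of_pow_of_coprime 7 copq _ h1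
    apply Subtype.ext
    have h3 : ((⟨(u : Γ), hu⟩ : ↥σ.ker) : Γ) = ((1 : ↥σ.ker) : Γ) := congrArg Subtype.val h2
    exact h3
  obtain ⟨hz, hN⟩ := cyclic_of_relations_q (zU σ hcen a c t ha hc ht) 6 relL
    (rel_U σ hsurj hcen a c t haM hcM ha hc ht hy) S hzS 7 hq cL mL 3 lamL muL chk_lam chk_mu
  set g := zprod (zU σ hcen a c t ha hc ht) 6 (fun l => cL.getD l 0) with hg
  have hle : σ.ker ≤ Subgroup.zpowers (g : Γ) := by
    rw [hK]
    exact Zc_le_zpowers _ 6 g (fun j => mL.getD j 0) hz
  have hgK : (g : Γ) ∈ σ.ker := by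
    have : g ∈ S := zprod_mem _ 6 S hzS _
    exact this
  set g' : ↥σ.ker := ⟨(g : Γ), hgK⟩ with hg'
  have h6 : g' ^ 3 = 1 := by
    apply Subtype.ext
    rw [Subgroup.coe_pow, Subgroup.coe_one]
    have := congrArg (fun t : Subgroup.center Γ => (t : Γ)) hN
    simpa using this
  apply exists_surj_zmod g' 3 h6
  intro y
  obtain ⟨i, hi⟩ := Subgroup.mem_zpowers_iff.1 (hle y.2)
  refine Subgroup.mem_zpowers_iff.2 ⟨i, ?_⟩
  apply Subtype.ext
  rw [Subgroup.coe_zpow]
  exact hi

end upper

/-- **the kernel of every finite stem extension of the presented group is an image of the cyclic group of order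
three** -/
theorem exists_surj_of_stem {Γ : Type*} [Group Γ] [Finite Γ] (σ : Γ →* G) (hsurj : Function.Surjective σ)
    (hcen : σ.ker ≤ Subgroup.center Γ) (hder : σ.ker ≤ commutator Γ) :
    ∃ π : Multiplicative (ZMod 3) →* ↥σ.ker, Function.Surjective π := by
  obtain ⟨a, c, t, haM, hcM, ha, hc, ht, hy⟩ := exists_lifts σ hsurj hcen hder
  exact exists_surj_U σ hsurj hcen hder a c t haM hcM ha hc ht hy

end Cfsg.Agent.Lib.Helper7.O73A2
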