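import Cfsg.Agent.Lib.Helper7.O73A3C

/-! # The multiplier of the orthogonal group of dimension seven over the field of three elements, the first chain, the table of the group: the check of the rows 540 to 1079 of the certificate (generated) -/

set_option autoImplicit false
set_option maxRecDepth 100000

namespace Cfsg.Agent.Lib.Helper7.O73A3

theorem rows_ok_4 : rowsOK 540 135 = true := by decide +kernel

theorem rows_ok_5 : rowsOK 675 135 = true := by decide +kernel

theorem rows_ok_6 : rowsOK 810 135 = true := by decide +kernel

theorem rows_ok_7 : rowsOK 945 135 = true := by decide +kernel

end Cfsg.Agent.Lib.Helper7.O73A3
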