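import Cfsg.Agent.Lib.Helper7.O73A3K0
import Cfsg.Agent.Lib.Helper7.O73A3K1

/-! # The multiplier of the orthogonal group of dimension seven over the field of three elements, the first chain, the table of the group: all the rows and words of the certificate are checked, and the words that give the relations
between the classes are traced (generated) -/

set_option autoImplicit false
set_option maxRecDepth 100000

namespace Cfsg.Agent.Lib.Helper7.O73A3

open Cfsg.Agent.Lib.Helper7.MG Cfsg.Agent.Lib.Helper7.HSMult

theorem rows_ok_all : ∀ k, k < 8 → rowsOK (135 * k) 135 = true
  | 0, _ => rows_ok_0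
  | 1, _ => rows_ok_1
  | 2, _ => rows_ok_2
  | 3, _ => rows_ok_3
  | 4, _ => rows_ok_4
  | 5, _ => rows_ok_5
  | 6, _ => rows_ok_6
  | 7, _ => rows_ok_7
  | k + 8, h => absurd h (by omega)

/-- **every entry of the table is justified** -/
theorem cert_all : ∀ a, a < cert.n → ∀ x, x < cert.g → cert.slotOK a x = true := by
  intro a ha x hx
  have ha' : a < 1080 := ha
  have hx' : x < 8 := hx
  have h1 := rows_ok_all (a / 135) (by omega)
  rw [rowsOK, allN_iff] at h1
  have h2 := h1 (a % 135) (Nat.mod_lt _ (by norm_num))
  rw [allN_iff] at h2
  have h3 := h2 x hx'
  have e : Nat.add (135 * (a / 135)) (a % 135) = a := Nat.div_add_mod a 135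
  rw [e] at h3
  exact h3

theorem words_ok : wordsOK = true := by decide +kernel

/-- **every word of the certificate is justified** -/
theorem cert_wall : ∀ i, i < cert.nW → cert.wordOK i = true := by
  intro i hi
  have h := words_ok
  rw [wordsOK, allN_iff] at h
  exact h i hi

theorem close_0 : cert.scan 4095 (cert.W 34) 129 0 = some (129, 39937885170409174886807341457821862456218120187) := by decide +kernel

theorem close_1 : cert.scan 4095 (cert.W 65) 241 0 = some (241, 45658031729112362346427937901505154281128362014) := by decide +kernel

theorem close_2 : cert.scan 4095 (cert.W 126) 920 0 = some (920, 45699845679528683996058276760795277882169524229) := by decide +kernel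

theorem close_3 : cert.scan 4095 (cert.W 120) 777 0 = some (777, 45816924541310304659996564658367475398971785294) := by decide +kernel

theorem close_4 : cert.scan 4095 (cert.W 188) 429 0 = some (429, 148422751218444843442549168892398646258993045494) := by decide +kernel

theorem close_5 : cert.scan 4095 (cert.W 24) 999 0 = some (999, 37125200955995275663752088657728903619324962835) := by decide +kernel

theorem close_6 : cert.scan 4095 (cert.W 7) 798 0 = some (798, 34195437827959903238227184454364657360377503756) := by decide +kernel

theorem close_7 : cert.scan 4095 (cert.W 110) 4 0 = some (4, 45666394528500222393263895095761028396971229189) := by decide +kernel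

theorem close_8 : cert.scan 4095 (cert.W 171) 912 0 = some (912, 136949007009825340254510384619634627839586828225) := by decide +kernel

theorem close_9 : cert.scan 4095 (cert.W 2) 605 0 = some (605, 59931916098614418041482048389721490942839531536) := by decide +kernel

end Cfsg.Agent.Lib.Helper7.O73A3
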