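import Cfsg.Agent.Lib.Helper7.O73A3C

/-! # The multiplier of the orthogonal group of dimension seven over the field of three elements, the first chain, the table of the group: the check of the rows 0 to 539 of the certificate (generated) -/

set_option autoImplicit false
set_option maxRecDepth 100000

namespace Cfsg.Agent.Lib.Helper7.O73A3

theorem rows_ok_0 : rowsOK 0 135 = true := by decide +kernel

theorem rows_ok_1 : rowsOK 135 135 = true := by decide +kernel

theorem rows_ok_2 : rowsOK 270 135 = true := by decide +kernel

theorem rows_ok_3 : rowsOK 405 135 = true := by decide +kernel

end Cfsg.Agent.Lib.Helper7.O73A3
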