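import Cfsg.Agent.Lib.Helper7.O73AMEK0

/-! # The multiplier of the orthogonal group of dimension seven over the field of three elements, the first chain: the checks of the words on
the 2160 points put together (generated) -/

set_option autoImplicit false
set_option maxRecDepth 100000

namespace Cfsg.Agent.Lib.Helper7.O73AM

open Cfsg.Agent.Lib.Helper7.MG Cfsg.Agent.Lib.Helper7.HSMult

/-- the given words of the table of the group -/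
def ax3W : ℕ → List ℕ
  | 0 => cw_ax3_0
  | 1 => cw_ax3_1
  | 2 => cw_ax3_2
  | 3 => cw_ax3_3
  | 4 => cw_ax3_4
  | 5 => cw_ax3_5
  | 6 => cw_ax3_6
  | 7 => cw_ax3_7
  | _ => []

/-- the powers of the given words of the table of the group -/
def p3W : ℕ → List ℕ
  | 0 => cw_p3_0
  | 1 => cw_p3_1
  | 2 => cw_p3_2
  | 3 => cw_p3_3
  | 4 => cw_p3_4
  | 5 => cw_p3_5
  | 6 => cw_p3_6
  | 7 => cw_p3_7
  | _ => []

/-- the given words of the table of the subgroup generated by the first six letters -/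
def ax2W : ℕ → List ℕ
  | 0 => cw_ax2_0
  | 1 => cw_ax2_1
  | 2 => cw_ax2_2
  | 3 => cw_ax2_3
  | 4 => cw_ax2_4
  | 5 => cw_ax2_5
  | _ => []

/-- the given words of the table of the subgroup generated by the first four letters -/
def ax1W : ℕ → List ℕ
  | 0 => cw_ax1_0
  | 1 => cw_ax1_1
  | 2 => cw_ax1_2
  | 3 => cw_ax1_3
  | 4 => cw_ax1_4
  | _ => []

theorem ev5_ax3 : ∀ j, j < 8 → ∀ p, p < 2160 → ev5 (ax3W j) p = sh (chiL.getD j 0) p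
  | 0, _, _, hp => shOK_spec shk_ax3_0 hp
  | 1, _, _, hp => shOK_spec shk_ax3_1 hp
  | 2, _, _, hp => shOK_spec shk_ax3_2 hp
  | 3, _, _, hp => shOK_spec shk_ax3_3 hp
  | 4, _, _, hp => shOK_spec shk_ax3_4 hp
  | 5, _, _, hp => shOK_spec shk_ax3_5 hp
  | 6, _, _, hp => shOK_spec shk_ax3_6 hp
  | 7, _, _, hp => shOK_spec shk_ax3_7 hp
  | j + 8, h, _, _ => absurd h (by omega)

theorem ev5_p3 : ∀ j, j < 8 → ∀ p, p < 2160 → ev5 (p3W j) p = p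
  | 0, _, _, hp => fxOK_spec fxk_p3_0 hp
  | 1, _, _, hp => fxOK_spec fxk_p3_1 hp
  | 2, _, _, hp => fxOK_spec fxk_p3_2 hp
  | 3, _, _, hp => fxOK_spec fxk_p3_3 hp
  | 4, _, _, hp => fxOK_spec fxk_p3_4 hp
  | 5, _, _, hp => fxOK_spec fxk_p3_5 hp
  | 6, _, _, hp => fxOK_spec fxk_p3_6 hp
  | 7, _, _, hp => fxOK_spec fxk_p3_7 hp
  | j + 8, h, _, _ => absurd h (by omega)

theorem ev5_ax2 : ∀ j, j < 6 → ∀ p, p < 2160 → ev5 (ax2W j) p = p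
  | 0, _, _, hp => fxOK_spec fxk_ax2_0 hp
  | 1, _, _, hp => fxOK_spec fxk_ax2_1 hp
  | 2, _, _, hp => fxOK_spec fxk_ax2_2 hp
  | 3, _, _, hp => fxOK_spec fxk_ax2_3 hp
  | 4, _, _, hp => fxOK_spec fxk_ax2_4 hp
  | 5, _, _, hp => fxOK_spec fxk_ax2_5 hp
  | j + 6, h, _, _ => absurd h (by omega)

theorem ev5_ax1 : ∀ j, j < 5 → ∀ p, p < 2160 → ev5 (ax1W j) p = p
  | 0, _, _, hp => fxOK_spec fxk_ax1_0 hp
  | 1, _, _, hp => fxOK_spec fxk_ax1_1 hp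
  | 2, _, _, hp => fxOK_spec fxk_ax1_2 hp
  | 3, _, _, hp => fxOK_spec fxk_ax1_3 hp
  | 4, _, _, hp => fxOK_spec fxk_ax1_4 hp
  | j + 5, h, _, _ => absurd h (by omega)

theorem lk5_sh : ∀ j, j < 8 → ∀ x, x < 8 → ∀ p, p < 2160 →
    lk5 x (sh (chiL.getD j 0) p) = sh (chiL.getD j 0) (lk5 x p)
  | 0, _, 0, _, _, hp => cenOK_spec cnk_0_1_0 hp
  | 0, _, 1, _, _, hp => cenOK_spec cnk_1_1_0 hp
  | 0, _, 2, _, _, hp => cenOK_spec cnk_2_1_0 hp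
  | 0, _, 3, _, _, hp => cenOK_spec cnk_3_1_0 hp
  | 0, _, 4, _, _, hp => cenOK_spec cnk_4_1_0 hp
  | 0, _, 5, _, _, hp => cenOK_spec cnk_5_1_0 hp
  | 0, _, 6, _, _, hp => cenOK_spec cnk_6_1_0 hp
  | 0, _, 7, _, _, hp => cenOK_spec cnk_7_1_0 hp
  | 1, _, 0, _, _, hp => cenOK_spec cnk_0_1_0 hp
  | 1, _, 1, _, _, hp => cenOK_spec cnk_1_1_0 hp
  | 1, _, 2, _, _, hp => cenOK_spec cnk_2_1_0 hp
  | 1, _, 3, _, _, hp => cenOK_spec cnk_3_1_0 hp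
  | 1, _, 4, _, _, hp => cenOK_spec cnk_4_1_0 hp
  | 1, _, 5, _, _, hp => cenOK_spec cnk_5_1_0 hp
  | 1, _, 6, _, _, hp => cenOK_spec cnk_6_1_0 hp
  | 1, _, 7, _, _, hp => cenOK_spec cnk_7_1_0 hp
  | 2, _, 0, _, _, hp => cenOK_spec cnk_0_0_0 hp
  | 2, _, 1, _, _, hp => cenOK_spec cnk_1_0_0 hp
  | 2, _, 2, _, _, hp => cenOK_spec cnk_2_0_0 hp
  | 2, _, 3, _, _, hp => cenOK_spec cnk_3_0_0 hp
  | 2, _, 4, _, _, hp => cenOK_spec cnk_4_0_0 hp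
  | 2, _, 5, _, _, hp => cenOK_spec cnk_5_0_0 hp
  | 2, _, 6, _, _, hp => cenOK_spec cnk_6_0_0 hp
  | 2, _, 7, _, _, hp => cenOK_spec cnk_7_0_0 hp
  | 3, _, 0, _, _, hp => cenOK_spec cnk_0_1_0 hp
  | 3, _, 1, _, _, hp => cenOK_spec cnk_1_1_0 hp
  | 3, _, 2, _, _, hp => cenOK_spec cnk_2_1_0 hp
  | 3, _, 3, _, _, hp => cenOK_spec cnk_3_1_0 hp
  | 3, _, 4, _, _, hp => cenOK_spec cnk_4_1_0 hp
  | 3, _, 5, _, _, hp => cenOK_spec cnk_5_1_0 hp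
  | 3, _, 6, _, _, hp => cenOK_spec cnk_6_1_0 hp
  | 3, _, 7, _, _, hp => cenOK_spec cnk_7_1_0 hp
  | 4, _, 0, _, _, hp => cenOK_spec cnk_0_1_0 hp
  | 4, _, 1, _, _, hp => cenOK_spec cnk_1_1_0 hp
  | 4, _, 2, _, _, hp => cenOK_spec cnk_2_1_0 hp
  | 4, _, 3, _, _, hp => cenOK_spec cnk_3_1_0 hp
  | 4, _, 4, _, _, hp => cenOK_spec cnk_4_1_0 hp
  | 4, _, 5, _, _, hp => cenOK_spec cnk_5_1_0 hp
  | 4, _, 6, _, _, hp => cenOK_spec cnk_6_1_0 hp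
  | 4, _, 7, _, _, hp => cenOK_spec cnk_7_1_0 hp
  | 5, _, 0, _, _, hp => cenOK_spec cnk_0_1_0 hp
  | 5, _, 1, _, _, hp => cenOK_spec cnk_1_1_0 hp
  | 5, _, 2, _, _, hp => cenOK_spec cnk_2_1_0 hp
  | 5, _, 3, _, _, hp => cenOK_spec cnk_3_1_0 hp
  | 5, _, 4, _, _, hp => cenOK_spec cnk_4_1_0 hp
  | 5, _, 5, _, _, hp => cenOK_spec cnk_5_1_0 hp
  | 5, _, 6, _, _, hp => cenOK_spec cnk_6_1_0 hp
  | 5, _, 7, _, _, hp => cenOK_spec cnk_7_1_0 hp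
  | 6, _, 0, _, _, hp => cenOK_spec cnk_0_0_0 hp
  | 6, _, 1, _, _, hp => cenOK_spec cnk_1_0_0 hp
  | 6, _, 2, _, _, hp => cenOK_spec cnk_2_0_0 hp
  | 6, _, 3, _, _, hp => cenOK_spec cnk_3_0_0 hp
  | 6, _, 4, _, _, hp => cenOK_spec cnk_4_0_0 hp
  | 6, _, 5, _, _, hp => cenOK_spec cnk_5_0_0 hp
  | 6, _, 6, _, _, hp => cenOK_spec cnk_6_0_0 hp
  | 6, _, 7, _, _, hp => cenOK_spec cnk_7_0_0 hp
  | 7, _, 0, _, _, hp => cenOK_spec cnk_0_1_0 hp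
  | 7, _, 1, _, _, hp => cenOK_spec cnk_1_1_0 hp
  | 7, _, 2, _, _, hp => cenOK_spec cnk_2_1_0 hp
  | 7, _, 3, _, _, hp => cenOK_spec cnk_3_1_0 hp
  | 7, _, 4, _, _, hp => cenOK_spec cnk_4_1_0 hp
  | 7, _, 5, _, _, hp => cenOK_spec cnk_5_1_0 hp
  | 7, _, 6, _, _, hp => cenOK_spec cnk_6_1_0 hp
  | 7, _, 7, _, _, hp => cenOK_spec cnk_7_1_0 hp
  | _, _, x + 8, h, _, _ => absurd h (by omega)
  | j + 8, h, _, _, _, _ => absurd h (by omega)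

end Cfsg.Agent.Lib.Helper7.O73AM
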