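import Cfsg.Agent.Lib.Helper7.O73AME
import Cfsg.Agent.Lib.Helper7.O73AMEW

/-! # The multiplier of the orthogonal group of dimension seven over the field of three elements, the first chain: checks of words on the 2160
points, file 0 (generated) -/

set_option autoImplicit false
set_option maxRecDepth 100000

namespace Cfsg.Agent.Lib.Helper7.O73AM

theorem shk_ax3_0_0 : shOK cw_ax3_0 1 (1080 * 0) 1080 = true := by decide +kernel

theorem shk_ax3_0_1 : shOK cw_ax3_0 1 (1080 * 1) 1080 = true := by decide +kernel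

theorem shk_ax3_0 : ∀ r, r < 2 → shOK cw_ax3_0 1 (1080 * r) 1080 = true
  | 0, _ => shk_ax3_0_0
  | 1, _ => shk_ax3_0_1
  | r + 2, h => absurd h (by omega)

theorem shk_ax3_1_0 : shOK cw_ax3_1 1 (1080 * 0) 1080 = true := by decide +kernel

theorem shk_ax3_1_1 : shOK cw_ax3_1 1 (1080 * 1) 1080 = true := by decide +kernel

theorem shk_ax3_1 : ∀ r, r < 2 → shOK cw_ax3_1 1 (1080 * r) 1080 = true
  | 0, _ => shk_ax3_1_0
  | 1, _ => shk_ax3_1_1
  | r + 2, h => absurd h (by omega)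

theorem shk_ax3_2_0 : shOK cw_ax3_2 0 (1080 * 0) 1080 = true := by decide +kernel

theorem shk_ax3_2_1 : shOK cw_ax3_2 0 (1080 * 1) 1080 = true := by decide +kernel

theorem shk_ax3_2 : ∀ r, r < 2 → shOK cw_ax3_2 0 (1080 * r) 1080 = true
  | 0, _ => shk_ax3_2_0
  | 1, _ => shk_ax3_2_1
  | r + 2, h => absurd h (by omega)

theorem shk_ax3_3_0 : shOK cw_ax3_3 1 (1080 * 0) 1080 = true := by decide +kernel

theorem shk_ax3_3_1 : shOK cw_ax3_3 1 (1080 * 1) 1080 = true := by decide +kernel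

theorem shk_ax3_3 : ∀ r, r < 2 → shOK cw_ax3_3 1 (1080 * r) 1080 = true
  | 0, _ => shk_ax3_3_0
  | 1, _ => shk_ax3_3_1
  | r + 2, h => absurd h (by omega)

theorem shk_ax3_4_0 : shOK cw_ax3_4 1 (1080 * 0) 1080 = true := by decide +kernel

theorem shk_ax3_4_1 : shOK cw_ax3_4 1 (1080 * 1) 1080 = true := by decide +kernel

theorem shk_ax3_4 : ∀ r, r < 2 → shOK cw_ax3_4 1 (1080 * r) 1080 = true
  | 0, _ => shk_ax3_4_0
  | 1, _ => shk_ax3_4_1
  | r + 2, h => absurd h (by omega)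

theorem shk_ax3_5_0 : shOK cw_ax3_5 1 (1080 * 0) 1080 = true := by decide +kernel

theorem shk_ax3_5_1 : shOK cw_ax3_5 1 (1080 * 1) 1080 = true := by decide +kernel

theorem shk_ax3_5 : ∀ r, r < 2 → shOK cw_ax3_5 1 (1080 * r) 1080 = true
  | 0, _ => shk_ax3_5_0
  | 1, _ => shk_ax3_5_1
  | r + 2, h => absurd h (by omega)

theorem shk_ax3_6_0 : shOK cw_ax3_6 0 (1080 * 0) 1080 = true := by decide +kernel

theorem shk_ax3_6_1 : shOK cw_ax3_6 0 (1080 * 1) 1080 = true := by decide +kernel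

theorem shk_ax3_6 : ∀ r, r < 2 → shOK cw_ax3_6 0 (1080 * r) 1080 = true
  | 0, _ => shk_ax3_6_0
  | 1, _ => shk_ax3_6_1
  | r + 2, h => absurd h (by omega)

theorem shk_ax3_7_0 : shOK cw_ax3_7 1 (1080 * 0) 1080 = true := by decide +kernel

theorem shk_ax3_7_1 : shOK cw_ax3_7 1 (1080 * 1) 1080 = true := by decide +kernel

theorem shk_ax3_7 : ∀ r, r < 2 → shOK cw_ax3_7 1 (1080 * r) 1080 = true
  | 0, _ => shk_ax3_7_0
  | 1, _ => shk_ax3_7_1
  | r + 2, h => absurd h (by omega)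

theorem fxk_p3_0_0 : fxOK cw_p3_0 (1080 * 0) 1080 = true := by decide +kernel

theorem fxk_p3_0_1 : fxOK cw_p3_0 (1080 * 1) 1080 = true := by decide +kernel

theorem fxk_p3_0 : ∀ r, r < 2 → fxOK cw_p3_0 (1080 * r) 1080 = true
  | 0, _ => fxk_p3_0_0
  | 1, _ => fxk_p3_0_1
  | r + 2, h => absurd h (by omega)

theorem fxk_p3_1_0 : fxOK cw_p3_1 (1080 * 0) 1080 = true := by decide +kernel

theorem fxk_p3_1_1 : fxOK cw_p3_1 (1080 * 1) 1080 = true := by decide +kernel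

theorem fxk_p3_1 : ∀ r, r < 2 → fxOK cw_p3_1 (1080 * r) 1080 = true
  | 0, _ => fxk_p3_1_0
  | 1, _ => fxk_p3_1_1
  | r + 2, h => absurd h (by omega)

theorem fxk_p3_2_0 : fxOK cw_p3_2 (1080 * 0) 1080 = true := by decide +kernel

theorem fxk_p3_2_1 : fxOK cw_p3_2 (1080 * 1) 1080 = true := by decide +kernel

theorem fxk_p3_2 : ∀ r, r < 2 → fxOK cw_p3_2 (1080 * r) 1080 = true
  | 0, _ => fxk_p3_2_0
  | 1, _ => fxk_p3_2_1
  | r + 2, h => absurd h (by omega)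

theorem fxk_p3_3_0 : fxOK cw_p3_3 (1080 * 0) 1080 = true := by decide +kernel

theorem fxk_p3_3_1 : fxOK cw_p3_3 (1080 * 1) 1080 = true := by decide +kernel

theorem fxk_p3_3 : ∀ r, r < 2 → fxOK cw_p3_3 (1080 * r) 1080 = true
  | 0, _ => fxk_p3_3_0
  | 1, _ => fxk_p3_3_1
  | r + 2, h => absurd h (by omega)

theorem fxk_p3_4_0 : fxOK cw_p3_4 (1080 * 0) 1080 = true := by decide +kernel

theorem fxk_p3_4_1 : fxOK cw_p3_4 (1080 * 1) 1080 = true := by decide +kernel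

theorem fxk_p3_4 : ∀ r, r < 2 → fxOK cw_p3_4 (1080 * r) 1080 = true
  | 0, _ => fxk_p3_4_0
  | 1, _ => fxk_p3_4_1
  | r + 2, h => absurd h (by omega)

theorem fxk_p3_5_0 : fxOK cw_p3_5 (1080 * 0) 1080 = true := by decide +kernel

theorem fxk_p3_5_1 : fxOK cw_p3_5 (1080 * 1) 1080 = true := by decide +kernel

theorem fxk_p3_5 : ∀ r, r < 2 → fxOK cw_p3_5 (1080 * r) 1080 = true
  | 0, _ => fxk_p3_5_0
  | 1, _ => fxk_p3_5_1
  | r + 2, h => absurd h (by omega)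

theorem fxk_p3_6_0 : fxOK cw_p3_6 (1080 * 0) 1080 = true := by decide +kernel

theorem fxk_p3_6_1 : fxOK cw_p3_6 (1080 * 1) 1080 = true := by decide +kernel

theorem fxk_p3_6 : ∀ r, r < 2 → fxOK cw_p3_6 (1080 * r) 1080 = true
  | 0, _ => fxk_p3_6_0
  | 1, _ => fxk_p3_6_1
  | r + 2, h => absurd h (by omega)

theorem fxk_p3_7_0 : fxOK cw_p3_7 (1080 * 0) 1080 = true := by decide +kernel

theorem fxk_p3_7_1 : fxOK cw_p3_7 (1080 * 1) 1080 = true := by decide +kernel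

theorem fxk_p3_7 : ∀ r, r < 2 → fxOK cw_p3_7 (1080 * r) 1080 = true
  | 0, _ => fxk_p3_7_0
  | 1, _ => fxk_p3_7_1
  | r + 2, h => absurd h (by omega)

theorem fxk_ex3_0 : fxOK cw_ex3 (1080 * 0) 1080 = true := by decide +kernel

theorem fxk_ex3_1 : fxOK cw_ex3 (1080 * 1) 1080 = true := by decide +kernel

theorem fxk_ex3 : ∀ r, r < 2 → fxOK cw_ex3 (1080 * r) 1080 = true
  | 0, _ => fxk_ex3_0
  | 1, _ => fxk_ex3_1
  | r + 2, h => absurd h (by omega)

theorem fxk_sN_0 : fxOK cw_sN (1080 * 0) 1080 = true := by decide +kernel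

theorem fxk_sN_1 : fxOK cw_sN (1080 * 1) 1080 = true := by decide +kernel

theorem fxk_sN : ∀ r, r < 2 → fxOK cw_sN (1080 * r) 1080 = true
  | 0, _ => fxk_sN_0
  | 1, _ => fxk_sN_1
  | r + 2, h => absurd h (by omega)

theorem fxk_ax2_0_0 : fxOK cw_ax2_0 (1080 * 0) 1080 = true := by decide +kernel

theorem fxk_ax2_0_1 : fxOK cw_ax2_0 (1080 * 1) 1080 = true := by decide +kernel

theorem fxk_ax2_0 : ∀ r, r < 2 → fxOK cw_ax2_0 (1080 * r) 1080 = true
  | 0, _ => fxk_ax2_0_0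
  | 1, _ => fxk_ax2_0_1
  | r + 2, h => absurd h (by omega)

theorem fxk_ax2_1_0 : fxOK cw_ax2_1 (1080 * 0) 1080 = true := by decide +kernel

theorem fxk_ax2_1_1 : fxOK cw_ax2_1 (1080 * 1) 1080 = true := by decide +kernel

theorem fxk_ax2_1 : ∀ r, r < 2 → fxOK cw_ax2_1 (1080 * r) 1080 = true
  | 0, _ => fxk_ax2_1_0
  | 1, _ => fxk_ax2_1_1
  | r + 2, h => absurd h (by omega)

theorem fxk_ax2_2_0 : fxOK cw_ax2_2 (1080 * 0) 1080 = true := by decide +kernel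

theorem fxk_ax2_2_1 : fxOK cw_ax2_2 (1080 * 1) 1080 = true := by decide +kernel

theorem fxk_ax2_2 : ∀ r, r < 2 → fxOK cw_ax2_2 (1080 * r) 1080 = true
  | 0, _ => fxk_ax2_2_0
  | 1, _ => fxk_ax2_2_1
  | r + 2, h => absurd h (by omega)

theorem fxk_ax2_3_0 : fxOK cw_ax2_3 (1080 * 0) 1080 = true := by decide +kernel

theorem fxk_ax2_3_1 : fxOK cw_ax2_3 (1080 * 1) 1080 = true := by decide +kernel

theorem fxk_ax2_3 : ∀ r, r < 2 → fxOK cw_ax2_3 (1080 * r) 1080 = true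
  | 0, _ => fxk_ax2_3_0
  | 1, _ => fxk_ax2_3_1
  | r + 2, h => absurd h (by omega)

theorem fxk_ax2_4_0 : fxOK cw_ax2_4 (1080 * 0) 1080 = true := by decide +kernel

theorem fxk_ax2_4_1 : fxOK cw_ax2_4 (1080 * 1) 1080 = true := by decide +kernel

theorem fxk_ax2_4 : ∀ r, r < 2 → fxOK cw_ax2_4 (1080 * r) 1080 = true
  | 0, _ => fxk_ax2_4_0
  | 1, _ => fxk_ax2_4_1
  | r + 2, h => absurd h (by omega)

theorem fxk_ax2_5_0 : fxOK cw_ax2_5 (1080 * 0) 1080 = true := by decide +kernel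

theorem fxk_ax2_5_1 : fxOK cw_ax2_5 (1080 * 1) 1080 = true := by decide +kernel

theorem fxk_ax2_5 : ∀ r, r < 2 → fxOK cw_ax2_5 (1080 * r) 1080 = true
  | 0, _ => fxk_ax2_5_0
  | 1, _ => fxk_ax2_5_1
  | r + 2, h => absurd h (by omega)

theorem fxk_ex2_0 : fxOK cw_ex2 (1080 * 0) 1080 = true := by decide +kernel

theorem fxk_ex2_1 : fxOK cw_ex2 (1080 * 1) 1080 = true := by decide +kernel

theorem fxk_ex2 : ∀ r, r < 2 → fxOK cw_ex2 (1080 * r) 1080 = true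
  | 0, _ => fxk_ex2_0
  | 1, _ => fxk_ex2_1
  | r + 2, h => absurd h (by omega)

theorem fxk_l1a_0 : fxOK cw_l1a (1080 * 0) 1080 = true := by decide +kernel

theorem fxk_l1a_1 : fxOK cw_l1a (1080 * 1) 1080 = true := by decide +kernel

theorem fxk_l1a : ∀ r, r < 2 → fxOK cw_l1a (1080 * r) 1080 = true
  | 0, _ => fxk_l1a_0
  | 1, _ => fxk_l1a_1
  | r + 2, h => absurd h (by omega)

theorem fxk_l1b_0 : fxOK cw_l1b (1080 * 0) 1080 = true := by decide +kernel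

theorem fxk_l1b_1 : fxOK cw_l1b (1080 * 1) 1080 = true := by decide +kernel

theorem fxk_l1b : ∀ r, r < 2 → fxOK cw_l1b (1080 * r) 1080 = true
  | 0, _ => fxk_l1b_0
  | 1, _ => fxk_l1b_1
  | r + 2, h => absurd h (by omega)

theorem fxk_ax1_0_0 : fxOK cw_ax1_0 (1080 * 0) 1080 = true := by decide +kernel

theorem fxk_ax1_0_1 : fxOK cw_ax1_0 (1080 * 1) 1080 = true := by decide +kernel

theorem fxk_ax1_0 : ∀ r, r < 2 → fxOK cw_ax1_0 (1080 * r) 1080 = true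
  | 0, _ => fxk_ax1_0_0
  | 1, _ => fxk_ax1_0_1
  | r + 2, h => absurd h (by omega)

theorem fxk_ax1_1_0 : fxOK cw_ax1_1 (1080 * 0) 1080 = true := by decide +kernel

theorem fxk_ax1_1_1 : fxOK cw_ax1_1 (1080 * 1) 1080 = true := by decide +kernel

theorem fxk_ax1_1 : ∀ r, r < 2 → fxOK cw_ax1_1 (1080 * r) 1080 = true
  | 0, _ => fxk_ax1_1_0
  | 1, _ => fxk_ax1_1_1
  | r + 2, h => absurd h (by omega)

theorem fxk_ax1_2_0 : fxOK cw_ax1_2 (1080 * 0) 1080 = true := by decide +kernel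

theorem fxk_ax1_2_1 : fxOK cw_ax1_2 (1080 * 1) 1080 = true := by decide +kernel

theorem fxk_ax1_2 : ∀ r, r < 2 → fxOK cw_ax1_2 (1080 * r) 1080 = true
  | 0, _ => fxk_ax1_2_0
  | 1, _ => fxk_ax1_2_1
  | r + 2, h => absurd h (by omega)

theorem fxk_ax1_3_0 : fxOK cw_ax1_3 (1080 * 0) 1080 = true := by decide +kernel

theorem fxk_ax1_3_1 : fxOK cw_ax1_3 (1080 * 1) 1080 = true := by decide +kernel

theorem fxk_ax1_3 : ∀ r, r < 2 → fxOK cw_ax1_3 (1080 * r) 1080 = true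
  | 0, _ => fxk_ax1_3_0
  | 1, _ => fxk_ax1_3_1
  | r + 2, h => absurd h (by omega)

theorem fxk_ax1_4_0 : fxOK cw_ax1_4 (1080 * 0) 1080 = true := by decide +kernel

theorem fxk_ax1_4_1 : fxOK cw_ax1_4 (1080 * 1) 1080 = true := by decide +kernel

theorem fxk_ax1_4 : ∀ r, r < 2 → fxOK cw_ax1_4 (1080 * r) 1080 = true
  | 0, _ => fxk_ax1_4_0
  | 1, _ => fxk_ax1_4_1
  | r + 2, h => absurd h (by omega)

theorem cnk_0_0_0 : cenOK 0 0 0 2160 = true := by decide +kernel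

theorem cnk_1_0_0 : cenOK 1 0 0 2160 = true := by decide +kernel

theorem cnk_2_0_0 : cenOK 2 0 0 2160 = true := by decide +kernel

theorem cnk_3_0_0 : cenOK 3 0 0 2160 = true := by decide +kernel

theorem cnk_4_0_0 : cenOK 4 0 0 2160 = true := by decide +kernel

theorem cnk_5_0_0 : cenOK 5 0 0 2160 = true := by decide +kernel

theorem cnk_6_0_0 : cenOK 6 0 0 2160 = true := by decide +kernel

theorem cnk_7_0_0 : cenOK 7 0 0 2160 = true := by decide +kernel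

theorem cnk_0_1_0 : cenOK 0 1 0 2160 = true := by decide +kernel

theorem cnk_1_1_0 : cenOK 1 1 0 2160 = true := by decide +kernel

theorem cnk_2_1_0 : cenOK 2 1 0 2160 = true := by decide +kernel

theorem cnk_3_1_0 : cenOK 3 1 0 2160 = true := by decide +kernel

theorem cnk_4_1_0 : cenOK 4 1 0 2160 = true := by decide +kernel

theorem cnk_5_1_0 : cenOK 5 1 0 2160 = true := by decide +kernel

theorem cnk_6_1_0 : cenOK 6 1 0 2160 = true := by decide +kernel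

theorem cnk_7_1_0 : cenOK 7 1 0 2160 = true := by decide +kernel

end Cfsg.Agent.Lib.Helper7.O73AM
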