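import Cfsg.Agent.Lib.Helper7.O73AMEA

/-!
# The multiplier of the orthogonal group of dimension seven over the field of three elements, the first chain: a stem extension of the group with kernel of order two

The group generated by the pairs is a stem extension of the group whose kernel has at least two elements and
exponent two; together with the bound for the kernels of the stem extensions of the group whose kernels have order
prime to 3, applied to this one, this shows that its kernel is cyclic of order two.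
-/

set_option autoImplicit false
set_option maxRecDepth 100000

namespace Cfsg.Agent.Lib.Helper7.O73AM

open Cfsg Cfsg.Agent.Lib.Helper7.MG Cfsg.Agent.Lib.Helper7.HSMult Cfsg.Agent.Lib.Helper7.O73AV3
open scoped IsMulCommutative commutatorElement

/-! ### the kernel of the projection -/

theorem wd_gE_mem_ker {i : ℕ} (hi : i < 197) : VCert.wd gE (O73A3.cert.W i) ∈ sigE.ker := by
  rw [MonoidHom.mem_ker, sigE_wd, wd_lK_W hi]

theorem wd_gE_mem_HE : ∀ w : List ℕ, (∀ x ∈ w, x < 6) → VCert.wd gE w ∈ HE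
  | [], _ => Subgroup.one_mem _
  | x :: w, h => by
    rw [VCert.wd_cons]
    exact Subgroup.mul_mem _ (gE_mem_HE (h x List.mem_cons_self))
      (wd_gE_mem_HE w fun y hy => h y (List.mem_cons_of_mem _ hy))

theorem hW0_E : ∀ i, i < O73A3.cert.nW → O73A3.cert.wT i = 0 →
    VCert.wd gE (O73A3.cert.W i) = ((O73A3.cert.ek zE i : Subgroup.center ↥GE) : ↥GE) := by
  intro i hi hT
  rcases O73A3.chk_wT i hi hT with ⟨h4, h0⟩ | rfl | ⟨j, hj, rfl⟩
  · rw [VCert.ek, O73A3.cert.kap_one _ h0]
    apply hHK_E _ (wd_gE_mem_HE _ fun x hx => by simpa [Nat.blt] using List.all_eq_true.1 h4 x hx)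
    exact wd_gE_mem_ker hi
  · rw [VCert.ek, O73A3.cert.kap_one _ O73A3.chk_ex, O73A3.chk_W3]
    exact wd_gE_ex3
  · rw [VCert.ek, O73A3.cert.kap_unit _ hj (O73A3.chk_ax j hj)]
    exact wd_gE_ax3 j hj

theorem hgen_E : ∀ y : ↥GE, ∃ u : List ℕ, (∀ x ∈ u, x < O73A3.cert.g) ∧ y = (u.map gE).prod := by
  apply MG.exists_word_of_closure gE 8 (fun x => Nat.xor x 1) _ closure_gE
  intro x hx
  refine ⟨?_, gE_iv x hx⟩
  have : x = 0 ∨ x = 1 ∨ x = 2 ∨ x = 3 ∨ x = 4 ∨ x = 5 ∨ x = 6 ∨ x = 7 := by omega
  rcases this with rfl | rfl | rfl | rfl | rfl | rfl | rfl | rfl <;> decide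

/-- **the kernel of the projection is generated by the central elements of the table** -/
theorem ker_sigE : sigE.ker = Zc zE 8 := by
  refine ker_eq_Zc_of_sub sigE O73A3.cert gE zE HE 4245696 sigE_surj (by rw [O73B.card_G]; rfl) (by decide)
    (by norm_num)
    hHK_E card_HE_le ?_ (fun j _ => zE_mem_ker j) hgen_E (by decide) (by decide) (fun x hx => gE_iv x hx)
    (fun i hi => wd_gE_mem_ker hi) hW0_E O73A3.cert_all O73A3.cert_wall
  intro x hx
  exact gE_mem_HE (lt_six_of_sub hx)

/-! ### the extension is perfect -/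

theorem HE_perfect : commutator ↥HE = ⊤ := by
  have e := MulEquiv.ofBijective sigH ⟨sigH_injective, sigH_surj⟩
  have hs : Function.Surjective e.symm.toMonoidHom := e.symm.surjective
  have h1 : (commutator ↥L).map e.symm.toMonoidHom = commutator ↥HE := by
    rw [commutator_def, Subgroup.map_commutator, ← MonoidHom.range_eq_map, MonoidHom.range_eq_top.2 hs,
      commutator_def]
  have h2 : commutator ↥L = ⊤ := O73AV2.G_perfect
  rw [← h1, h2, ← MonoidHom.range_eq_map, MonoidHom.range_eq_top.2 hs]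

theorem HE_le_commutator : HE ≤ commutator ↥GE := by
  have h1 : (commutator ↥HE).map HE.subtype ≤ commutator ↥GE := by
    rw [commutator_def, Subgroup.map_commutator, commutator_def]
    exact Subgroup.commutator_mono le_top le_top
  rw [HE_perfect, ← MonoidHom.range_eq_map, Subgroup.range_subtype] at h1
  exact h1

theorem chk_s2 : matOK [6, 6] = true := by decide +kernel

theorem lK_six_sq : lK 6 ^ 2 = 1 := by
  have h := wd_lK_eq_one chk_s2
  rw [VCert.wd_cons, VCert.wd_cons, VCert.wd_nil, mul_one] at h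
  rw [pow_two, h]

theorem gE_six_pow : gE 6 ^ 4 = 1 := by
  have h := wd_gE_eq (w := wpow 4 [6]) (w' := []) (fun p hp => by
      rw [ev5_sN hp, ev5_nil]) (by
      rw [wd_wpow, VCert.wd_cons, VCert.wd_nil, mul_one, show 4 = 2 * 2 from rfl, pow_mul, lK_six_sq, one_pow])
  rw [wd_wpow, VCert.wd_cons, VCert.wd_nil, mul_one] at h
  exact h

theorem commutator_GE : commutator ↥GE = ⊤ := by
  set K := commutator ↥GE with hK
  set π := QuotientGroup.mk' K with hπ
  have hH : ∀ x, x < 6 → π (gE x) = 1 := fun x hx =>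
    (QuotientGroup.eq_one_iff _).2 (HE_le_commutator (gE_mem_HE hx))
  have e7 : π (gE 6) ^ 7 = 1 := by
    have := congrArg π wd_gE_ex3
    rw [wd_wpow] at this
    simp only [O73A3.yW, VCert.wd_cons, VCert.wd_nil, mul_one, map_pow, map_mul, hH 0 (by norm_num), hH 2 (by norm_num), map_one] at this
    exact this
  have e4 : π (gE 6) ^ 4 = 1 := by rw [← map_pow, gE_six_pow, map_one]
  have et : π (gE 6) = 1 := by
    have : π (gE 6) = (π (gE 6) ^ 4) ^ 2 * (π (gE 6) ^ 7)⁻¹ := by
      rw [← pow_mul]; group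
    rw [this, e7, e4, one_pow, inv_one, mul_one]
  have ht : gE 6 ∈ K := (QuotientGroup.eq_one_iff _).1 et
  rw [eq_top_iff, ← closure_gE, Subgroup.closure_le]
  rintro _ ⟨x, hx, rfl⟩
  have hx' : x < 8 := hx
  rcases Nat.lt_or_ge x 6 with h6 | h6
  · exact HE_le_commutator (gE_mem_HE h6)
  · have : x = 6 ∨ x = 7 := by omega
    rcases this with rfl | rfl
    · exact ht
    · have : gE 7 = (gE 6)⁻¹ := gE_iv 6 (by norm_num)
      rw [SetLike.mem_coe, this]
      exact inv_mem ht

/-- **the group generated by the pairs is a stem extension of the group** -/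
theorem stem_GE : IsStemExtension sigE := by
  refine ⟨sigE_surj, ?_, ?_⟩
  · rw [ker_sigE]
    exact Zc_le_center zE 8
  · rw [commutator_GE]
    exact le_top

/-! ### the order of the kernel -/

theorem pow_eq_one_of_mem_ker (x : ↥GE) (hx : x ∈ sigE.ker) : x ^ 2 = 1 := by
  rw [ker_sigE, Zc] at hx
  induction hx using Subgroup.closure_induction with
  | mem y hy =>
    obtain ⟨j, _, rfl⟩ := hy
    exact zE_pow j
  | one => exact one_pow _
  | mul a b ha _ iha ihb =>
    have hc : a ∈ Subgroup.center ↥GE := Zc_le_center zE 8 ha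
    have hab : Commute a b := (Subgroup.mem_center_iff.1 hc b).symm
    rw [hab.mul_pow, iha, ihb, one_mul]
  | inv a _ iha => rw [inv_pow, iha, inv_one]

theorem coprime_card_ker : (Nat.card ↥sigE.ker).Coprime 3 := by
  have : Fact (Nat.Prime 2) := ⟨Nat.prime_two⟩
  have hp : IsPGroup 2 ↥sigE.ker := by
    intro g
    refine ⟨1, ?_⟩
    apply Subtype.ext
    rw [pow_one, Subgroup.coe_pow, Subgroup.coe_one]
    exact pow_eq_one_of_mem_ker g.1 g.2
  obtain ⟨n, hn⟩ := IsPGroup.iff_card.1 hp
  rw [hn]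
  exact Nat.Coprime.pow_left n (by norm_num)

/-- the words of the kernel -/
def kw (i : ℕ) : List ℕ := wpow i (ax3W 0)

theorem wd_gE_kw_mem (i : ℕ) : VCert.wd gE (kw i) ∈ sigE.ker := by
  rw [MonoidHom.mem_ker, sigE_wd, kw, wd_wpow, wd_lK_ax3, one_pow]

theorem chk_sig : ∀ i, i < 2 → ev5 (kw i) 0 = sigL.getD i 0 := by
  decide +kernel

theorem chk_nodup : ∀ i, i < 2 → ∀ j, j < 2 → sigL.getD i 0 = sigL.getD j 0 → i = j := by decide +kernel

theorem card_ker_ge : 2 ≤ Nat.card ↥sigE.ker := by
  have hinj : Function.Injective (fun i : Fin 2 => (⟨VCert.wd gE (kw i.val), wd_gE_kw_mem i.val⟩ : ↥sigE.ker)) := by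
    intro i j h
    have h1 : VCert.wd gE (kw i.val) = VCert.wd gE (kw j.val) := congrArg Subtype.val h
    have e : sigL.getD i.val 0 = sigL.getD j.val 0 := by
      rw [← chk_sig i.val i.2, ← chk_sig j.val j.2, ev5_of_wd_gE_eq h1 (p := 0) (by norm_num)]
    exact Fin.ext (chk_nodup i.val i.2 j.val j.2 e)
  have := Nat.card_le_card_of_injective _ hinj
  rwa [Nat.card_fin] at this

theorem card_zmodN : Nat.card (Multiplicative (ZMod 2)) = 2 := by
  show Nat.card (ZMod 2) = 2
  rw [Nat.card_eq_fintype_card, ZMod.card]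

/-- **the kernel of the stem extension is cyclic of order two** -/
theorem ker_GE : Nonempty (↥sigE.ker ≃* Multiplicative (ZMod 2)) := by
  obtain ⟨hs, hc, hd⟩ := stem_GE
  obtain ⟨π, hπ⟩ := O73A3.exists_surj_of_stem sigE hs hc hd coprime_card_ker
  exact nonempty_equiv_of_surj_of_card_le π hπ (by rw [card_zmodN]; exact card_ker_ge)

end Cfsg.Agent.Lib.Helper7.O73AM
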