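import Cfsg.Agent.Lib.Helper7.O73BaseD
import Cfsg.Agent.Lib.Helper7.O73Iso7
import Cfsg.Agent.Lib.Helper7.MGenG
import Cfsg.Agent.Lib.Helper7.MGenE

/-!
# The orthogonal group of dimension seven over the field of three elements: the presented group and the matrices

The presented group on eight generators is mapped injectively to the isometry group; so a word in the generators is
trivial as soon as the product of the matrices of its letters is the unit matrix.
-/

set_option autoImplicit false
set_option maxRecDepth 100000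

namespace Cfsg.Agent.Lib.Helper7.O73B

open Cfsg Cfsg.Spor Cfsg.Agent.Lib.Helper7.MG Cfsg.Agent.Lib.Helper7.HSMult
open Cfsg.Agent.Lib.Helper6 Cfsg.Agent.Lib.Helper6.ChevMatL Cfsg.Agent.Lib.Helper6.EquivMatL
open Cfsg.Agent.Lib.Helper6.Fi22Sub Cfsg.Agent.Lib.Helper6.O73Mat Cfsg.Agent.Lib.Helper7.O73I

/-- the group -/
abbrev G : Type := Q8

/-- the generators -/
noncomputable def gQ (x : ℕ) : G := PresentedGroup.of (Fi22Q8oTC.gen x)

theorem φ_gQ {x : ℕ} (hx : x < 8) : φ (gQ x) = gO x := by
  rw [gQ, φ_of, fgen_gen hx]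

theorem φ_injective : Function.Injective φ := by
  intro x y h
  apply ψ_injective
  show QuotientGroup.mk' _ (φΩ x) = QuotientGroup.mk' _ (φΩ y)
  congr 1
  exact Subtype.ext h

theorem φ_prod_gQ : ∀ w : List ℕ, (∀ x ∈ w, x < 8) → φ (w.map gQ).prod = (w.map gO).prod
  | [], _ => map_one φ
  | x :: w, h => by
    rw [List.map_cons, List.prod_cons, map_mul, φ_gQ (h x List.mem_cons_self),
      φ_prod_gQ w fun y hy => h y (List.mem_cons_of_mem _ hy), List.map_cons, List.prod_cons]

/-- the matrix of a word in the generators -/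
theorem prod_gQ_val {w : List ℕ} (hw : ∀ x ∈ w, x < 8) :
    (((φ (w.map gQ).prod : ↥(Cfsg.isometryGroup F Q)) : GL I F) : M) = rowM num (prodT 7 (w.map genLt)) := by
  rw [φ_prod_gQ w hw]
  exact prod_gO_val hw

/-- two words in the generators with the same matrices are equal -/
theorem prod_gQ_eq {w w' : List ℕ} (hw : ∀ x ∈ w, x < 8) (hw' : ∀ x ∈ w', x < 8)
    (h : prodT 7 (w.map genLt) = prodT 7 (w'.map genLt)) : (w.map gQ).prod = (w'.map gQ).prod := by
  apply φ_injective
  apply Subtype.ext
  apply Units.ext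
  rw [prod_gQ_val hw, prod_gQ_val hw', h]

theorem rowM_transp (Y : List (List F)) : rowM num (transp 7 Y) = colM num Y := by
  ext i j
  rw [rowM_apply, colM_apply]
  exact entry_transp Y (num i).2 _

instance instFiniteG : Finite G :=
  Nat.finite_of_card_ne_zero (by rw [Fi22Q8Simple.main.2]; norm_num)

theorem card_G : Nat.card G = 4585351680 := Fi22Q8Simple.main.2

theorem G_perfect : commutator G = ⊤ := comm_top

theorem closure_gQ : Subgroup.closure (gQ '' Set.Iio 8) = ⊤ := by
  have h := PresentedGroup.closure_range_of (coxRelators Q8.edges ∪ {r | r ∈ Q8.extra})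
  rw [eq_top_iff, ← h, Subgroup.closure_le]
  rintro _ ⟨a, rfl⟩
  apply Subgroup.subset_closure
  refine ⟨Fi22Q8oTC.code a, ?_, ?_⟩
  · cases a <;> decide
  · cases a <;> rfl

end Cfsg.Agent.Lib.Helper7.O73B
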