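import Cfsg.Agent.Lib.Helper7.O73Base

/-!
# The orthogonal group of dimension seven over the field of three elements: the letters of the alphabet B

The eight letters are words in the generators; a word in the letters is trivial as soon as the product of the
matrices of its letters is the unit matrix.  The letters generate the group.  The first six letters generate the
subgroup `L`.
-/

set_option autoImplicit false
set_option maxRecDepth 100000

namespace Cfsg.Agent.Lib.Helper7.O73CV3

open Cfsg Cfsg.Spor Cfsg.Agent.Lib.Helper7.MG Cfsg.Agent.Lib.Helper7.HSMult Cfsg.Agent.Lib.Helper7.O73B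
open Cfsg.Agent.Lib.Helper6 Cfsg.Agent.Lib.Helper6.ChevMatL Cfsg.Agent.Lib.Helper6.EquivMatL
open Cfsg.Agent.Lib.Helper6.Fi22Sub Cfsg.Agent.Lib.Helper6.O73Mat Cfsg.Agent.Lib.Helper7.O73I
open Cfsg.Agent.Lib.Helper7.G23B Cfsg.Agent.Lib.Helper7.G23B.F3c

/-- the group -/
abbrev G : Type := O73B.G

/-- the words of the letters -/
abbrev letW : ℕ → List ℕ := letWB

/-- the matrices of the letters over the model of the field -/
abbrev letT3 : ℕ → List (List F3c) := letT3B

/-- the matrices of the letters -/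
def letT (x : ℕ) : List (List F) := mapM (letT3 x)

/-- the letters -/
noncomputable def lK (x : ℕ) : G := ((letW x).map gQ).prod

theorem chk_letW_lt : ∀ x, x < 8 → ∀ y ∈ letW x, y < 8 := by decide

theorem letW_ge {x : ℕ} (hx : 8 ≤ x) : letW x = [] := by
  obtain ⟨y, rfl⟩ : ∃ y, x = y + 8 := ⟨x - 8, by omega⟩
  rfl

theorem letW_lt (x : ℕ) : ∀ y ∈ letW x, y < 8 := by
  rcases Nat.lt_or_ge x 8 with h | h
  · exact chk_letW_lt x h
  · rw [letW_ge h]
    intro y hy
    cases hy

theorem lK_of_ge {x : ℕ} (hx : 8 ≤ x) : lK x = 1 := by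
  rw [lK, letW_ge hx]
  rfl

/-! ### the matrices -/

/-- the matrix of an element of the group -/
noncomputable def mtx (g : G) : M := (((φ g : ↥(Cfsg.isometryGroup F Q)) : GL I F) : M)

theorem mtx_mul (a b : G) : mtx (a * b) = mtx a * mtx b := by
  rw [mtx, map_mul, Subgroup.coe_mul, Units.val_mul]
  rfl

theorem mtx_one : mtx 1 = 1 := by
  rw [mtx, map_one]
  rfl

theorem eq_of_mtx_eq {a b : G} (h : mtx a = mtx b) : a = b := by
  apply φ_injective
  apply Subtype.ext
  apply Units.ext
  exact h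

theorem chk_let : ∀ x, x < 8 → prodT 7 ((letW x).map genLt) = transp 7 (letT x) := by decide +kernel

theorem chk_letcols : ∀ x, x < 8 → colsOK 7 (letT x) := by decide +kernel

theorem letT_ge {x : ℕ} (hx : 8 ≤ x) : letT x = idL 7 := by
  obtain ⟨y, rfl⟩ : ∃ y, x = y + 8 := ⟨x - 8, by omega⟩
  exact idL_map7.symm

theorem letcols (x : ℕ) : colsOK 7 (letT x) := by
  rcases Nat.lt_or_ge x 8 with h | h
  · exact chk_letcols x h
  · rw [letT_ge h]
    decide

theorem chk_id : transp 7 (idL 7 : List (List F)) = idL 7 := by decide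

theorem mtx_lK (x : ℕ) : mtx (lK x) = colM num (letT x) := by
  rcases Nat.lt_or_ge x 8 with h | h
  · rw [mtx, lK, prod_gQ_val (letW_lt x), chk_let x h, rowM_transp]
  · rw [lK_of_ge h, mtx_one, letT_ge h, ← rowM_transp, chk_id]
    exact rowM_one num

theorem mtx_wd : ∀ w : List ℕ, mtx (VCert.wd lK w) = (w.map fun x => colM num (letT x)).prod
  | [] => mtx_one
  | x :: w => by
    rw [VCert.wd_cons, mtx_mul, mtx_lK, mtx_wd w, List.map_cons, List.prod_cons]

theorem mtx_wd_eq (w : List ℕ) : mtx (VCert.wd lK w) = rowM num (prodT 7 (w.map letT)) := by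
  rw [mtx_wd, rowM_prodT num (w.map letT) (by
    intro Y hY
    obtain ⟨x, _, rfl⟩ := List.mem_map.1 hY
    exact letcols x), List.map_map]
  rfl

/-- the check that the product of the matrices of the letters of a word is the unit matrix -/
def matOK (w : List ℕ) : Bool := decide (prodT3 7 (w.map letT3) = idL3 7)

theorem prodT_letT (w : List ℕ) : prodT 7 (w.map letT) = mapM (prodT3 7 (w.map letT3)) := by
  rw [← prodT_map7, List.map_map]
  rfl

/-- **a word in the letters is trivial as soon as the product of the matrices is the unit matrix** -/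
theorem wd_lK_eq_one {w : List ℕ} (h : matOK w = true) : VCert.wd lK w = 1 := by
  apply eq_of_mtx_eq
  rw [mtx_wd_eq, prodT_letT, of_decide_eq_true h, ← idL_map7, mtx_one]
  exact (rowM_one num).symm

/-- two words in the letters are equal as soon as the products of the matrices agree -/
theorem wd_lK_eq {w w' : List ℕ} (h : prodT3 7 (w.map letT3) = prodT3 7 (w'.map letT3)) :
    VCert.wd lK w = VCert.wd lK w' := by
  apply eq_of_mtx_eq
  rw [mtx_wd_eq, mtx_wd_eq, prodT_letT, prodT_letT, h]

theorem chk_iv8 : ∀ x, x < 8 → matOK [x, Nat.xor x 1] = true := by decide +kernel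

theorem lK_iv {x : ℕ} (hx : x < 8) : lK (Nat.xor x 1) = (lK x)⁻¹ := by
  have h := wd_lK_eq_one (chk_iv8 x hx)
  rw [VCert.wd_cons, VCert.wd_cons, VCert.wd_nil, mul_one] at h
  exact (eq_inv_of_mul_eq_one_right h)

/-! ### the letters generate the group -/

/-- the generators as words in the letters -/
abbrev genAsW : ℕ → List ℕ := genAsWB

theorem chk_genAs : ∀ k, k < 8 → prodT 7 ((genAsW k).map letT) = transp 7 (genLt k) := by decide +kernel

theorem mtx_gQ {k : ℕ} (hk : k < 8) : mtx (gQ k) = colM num (genLt k) := by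
  have h := prod_gQ_val (w := [k]) (by
    intro x hx
    rw [List.mem_singleton] at hx
    omega)
  rw [List.map_cons, List.map_nil, List.prod_cons, List.prod_nil, mul_one] at h
  rw [mtx, h, ← rowM_transp]
  congr 1
  have : ∀ k, k < 8 → prodT 7 ([k].map genLt) = transp 7 (genLt k) := by decide +kernel
  exact this k hk

theorem wd_lK_genAs {k : ℕ} (hk : k < 8) : VCert.wd lK (genAsW k) = gQ k := by
  apply eq_of_mtx_eq
  rw [mtx_wd_eq, chk_genAs k hk, rowM_transp, mtx_gQ hk]

theorem wd_lK_mem_closure (n : ℕ) : ∀ w : List ℕ, (∀ x ∈ w, x < n) →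
    VCert.wd lK w ∈ Subgroup.closure (lK '' Set.Iio n)
  | [], _ => Subgroup.one_mem _
  | x :: w, h => by
    rw [VCert.wd_cons]
    exact Subgroup.mul_mem _ (Subgroup.subset_closure ⟨x, h x List.mem_cons_self, rfl⟩)
      (wd_lK_mem_closure n w fun y hy => h y (List.mem_cons_of_mem _ hy))

theorem chk_genAs_lt : ∀ k, k < 8 → ∀ x ∈ genAsW k, x < 8 := by decide

theorem closure_lK : Subgroup.closure (lK '' Set.Iio 8) = ⊤ := by
  rw [eq_top_iff, ← closure_gQ, Subgroup.closure_le]
  rintro _ ⟨k, hk, rfl⟩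
  rw [SetLike.mem_coe, ← wd_lK_genAs hk]
  exact wd_lK_mem_closure 8 _ (chk_genAs_lt k hk)

/-! ### the subgroup generated by the first six letters -/

/-- the subgroup generated by the first six letters -/
noncomputable def L : Subgroup G := Subgroup.closure (lK '' Set.Iio 6)

theorem lK_mem_L {x : ℕ} (hx : x < 6) : lK x ∈ L := Subgroup.subset_closure ⟨x, hx, rfl⟩

/-- the first six letters in the subgroup -/
noncomputable def lK1 (x : ℕ) : ↥L := if h : x < 6 then ⟨lK x, lK_mem_L h⟩ else 1

theorem lK1_val {x : ℕ} (hx : x < 6) : (lK1 x : G) = lK x := by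
  rw [lK1, dif_pos hx]

theorem lK1_of_ge {x : ℕ} (hx : 6 ≤ x) : lK1 x = 1 := by
  rw [lK1, dif_neg (by omega)]

theorem wd_lK1_val : ∀ w : List ℕ, (∀ x ∈ w, x < 6) → ((VCert.wd lK1 w : ↥L) : G) = VCert.wd lK w
  | [], _ => rfl
  | x :: w, h => by
    rw [VCert.wd_cons, VCert.wd_cons, Subgroup.coe_mul, lK1_val (h x List.mem_cons_self),
      wd_lK1_val w fun y hy => h y (List.mem_cons_of_mem _ hy)]

theorem lK1_iv {x : ℕ} (hx : x < 6) : lK1 (Nat.xor x 1) = (lK1 x)⁻¹ := by
  have hx' : Nat.xor x 1 < 6 := by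
    have : x = 0 ∨ x = 1 ∨ x = 2 ∨ x = 3 ∨ x = 4 ∨ x = 5 := by omega
    rcases this with rfl | rfl | rfl | rfl | rfl | rfl <;> decide
  apply Subtype.ext
  rw [Subgroup.coe_inv, lK1_val hx', lK1_val hx, lK_iv (by omega)]

theorem closure_lK1 : Subgroup.closure (lK1 '' Set.Iio 6) = ⊤ := by
  have h := Subgroup.closure_closure_coe_preimage (k := lK '' Set.Iio 6)
  have e : ((↑) ⁻¹' (lK '' Set.Iio 6) : Set ↥(Subgroup.closure (lK '' Set.Iio 6))) = lK1 '' Set.Iio 6 := by
    ext z
    constructor
    · rintro ⟨x, hx, hz⟩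
      exact ⟨x, hx, Subtype.ext (by rw [lK1_val hx]; exact hz)⟩
    · rintro ⟨x, hx, rfl⟩
      exact ⟨x, hx, (lK1_val hx).symm⟩
  rw [e] at h
  exact h

/-- the check of a word in the first six letters -/
def matOK6 (w : List ℕ) : Bool := (w.all fun x => Nat.blt x 6) && matOK w

theorem wd_lK1_eq_one {w : List ℕ} (h : matOK6 w = true) : VCert.wd lK1 w = 1 := by
  rw [matOK6, Bool.and_eq_true] at h
  have hw : ∀ x ∈ w, x < 6 := fun x hx => by simpa [Nat.blt] using List.all_eq_true.1 h.1 x hx
  apply Subtype.ext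
  rw [wd_lK1_val w hw, wd_lK_eq_one h.2]
  rfl

end Cfsg.Agent.Lib.Helper7.O73CV3
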