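import Cfsg.Agent.Lib.Helper7.G23F3

/-!
# List matrices over the model of the field with three elements and over the integers modulo three

The products of list matrices over the model with the elements `0`, `1`, `-1` are carried over to the integers modulo
three; the kernel evaluates the former much faster.
-/

set_option autoImplicit false

namespace Cfsg.Agent.Lib.Helper7.O73B

open Cfsg.Agent.Lib.Helper6.ChevMatL Cfsg.Agent.Lib.Helper7.G23B Cfsg.Agent.Lib.Helper7.G23B.F3c

/-- the element of the integers modulo three -/
def cv : F3c → ZMod 3
  | o => 0
  | e => 1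
  | m => 2

theorem cv_add (a b : F3c) : cv (F3c.add a b) = cv a + cv b := by
  cases a <;> cases b <;> decide

theorem cv_mul (a b : F3c) : cv (F3c.mul a b) = cv a * cv b := by
  cases a <;> cases b <;> decide

/-- the matrix over the integers modulo three -/
def mapM (X : List (List F3c)) : List (List (ZMod 3)) := X.map (List.map cv)

theorem dot_map : ∀ r c : List F3c, dot (r.map cv) (c.map cv) = cv (dot3 r c)
  | [], c => by
    rw [dot3_nil]
    simp [dot]
    rfl
  | a :: as, [] => by
    rw [dot3_cons_nil]
    simp [dot]
    rfl
  | a :: as, b :: bs => by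
    rw [dot3_cons_cons, List.map_cons, List.map_cons, dot, dot_map as bs, cv_add, cv_mul]

theorem mulT_map (X Yt : List (List F3c)) : mulT (mapM X) (mapM Yt) = mapM (mulT3 X Yt) := by
  unfold mulT mulT3 mapM
  rw [List.map_map, List.map_map]
  apply List.map_congr_left
  intro r _
  show List.map (fun col => dot (List.map cv r) col) (List.map (List.map cv) Yt) =
    List.map cv (List.map (fun col => dot3 r col) Yt)
  rw [List.map_map, List.map_map]
  apply List.map_congr_left
  intro c _
  exact dot_map r c

theorem foldl_map (Ms : List (List (List F3c))) :
    ∀ A : List (List F3c), (Ms.map mapM).foldl mulT (mapM A) = mapM (Ms.foldl mulT3 A) := by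
  induction Ms with
  | nil => intro A; rfl
  | cons Y Ms ih =>
    intro A
    rw [List.map_cons, List.foldl_cons, List.foldl_cons, mulT_map, ih]

theorem idL_map7 : (idL 7 : List (List (ZMod 3))) = mapM (idL3 7) := by decide

theorem prodT_map7 (Ms : List (List (List F3c))) : prodT 7 (Ms.map mapM) = mapM (prodT3 7 Ms) := by
  unfold prodT prodT3
  rw [idL_map7, foldl_map]

end Cfsg.Agent.Lib.Helper7.O73B
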