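import Cfsg.Agent.Lib.Helper6.O73Mat
import Cfsg.Agent.Lib.Helper7.O73F3

/-! # The orthogonal group of dimension seven over the field of three elements: the letters of the two alphabets
(generated)

The alphabet `A` has the letters `u, u, v, v⁻¹, t₁, t₁, t₂, t₂`, the first six of which generate a subgroup of type G2
over the field of three elements; the alphabet `B` has the letters `u, u, v, v⁻¹, s₁, s₁, s₂, s₂`, the first six of
which generate a symplectic group of dimension six over the field of two elements.  The first four letters generate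
a unitary group of dimension three over the field of nine elements. -/

set_option autoImplicit false

namespace Cfsg.Agent.Lib.Helper7.O73B

open Cfsg.Agent.Lib.Helper6.ChevMatL Cfsg.Agent.Lib.Helper6.O73Mat Cfsg.Agent.Lib.Helper7.G23B Cfsg.Agent.Lib.Helper7.G23B.F3c

/-- the words of the letters of the alphabet A in the generators -/
def letWA : ℕ → List ℕ
  | 0 => [1, 3, 2, 1, 4, 3, 2, 1, 6, 2, 1, 3, 2, 4, 3, 6]
  | 1 => [1, 3, 2, 1, 4, 3, 2, 1, 6, 2, 1, 3, 2, 4, 3, 6]
  | 2 => [2, 3, 4, 5, 7, 6]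
  | 3 => [6, 7, 5, 4, 3, 2]
  | 4 => [0, 1, 0, 2, 1, 0, 3, 6, 7, 6, 2, 1, 0]
  | 5 => [0, 1, 0, 2, 1, 0, 3, 6, 7, 6, 2, 1, 0]
  | 6 => [7]
  | 7 => [7]
  | _ => []

/-- the matrix of the letter 0 of the alphabet A, by its columns -/
def lcA0 : List (List F3c) :=
  [[m, o, o, o, e, e, o],
   [m, e, o, e, m, o, o],
   [m, m, m, e, o, e, o],
   [o, e, m, o, o, o, e],
   [o, e, m, e, e, m, e],
   [o, m, e, m, o, m, m],
   [o, e, m, e, e, e, o]]

/-- the matrix of the letter 1 of the alphabet A, by its columns -/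
def lcA1 : List (List F3c) :=
  [[m, o, o, o, e, e, o],
   [m, e, o, e, m, o, o],
   [m, m, m, e, o, e, o],
   [o, e, m, o, o, o, e],
   [o, e, m, e, e, m, e],
   [o, m, e, m, o, m, m],
   [o, e, m, e, e, e, o]]

/-- the matrix of the letter 2 of the alphabet A, by its columns -/
def lcA2 : List (List F3c) :=
  [[o, o, o, e, e, e, e],
   [m, o, o, m, e, o, e],
   [o, m, m, o, e, m, m],
   [m, o, o, m, m, m, e],
   [o, o, e, o, m, o, m],
   [m, o, o, m, e, m, e],
   [m, e, o, e, e, m, e]]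

/-- the matrix of the letter 3 of the alphabet A, by its columns -/
def lcA3 : List (List F3c) :=
  [[o, o, e, e, e, o, e],
   [m, m, e, e, e, e, m],
   [m, o, m, m, o, m, m],
   [m, m, e, e, e, m, e],
   [o, o, o, e, o, m, o],
   [o, e, o, o, o, m, o],
   [m, o, m, e, m, o, m]]

/-- the matrix of the letter 4 of the alphabet A, by its columns -/
def lcA4 : List (List F3c) :=
  [[o, m, o, o, m, m, o],
   [e, e, e, o, e, e, e],
   [e, e, e, e, e, o, e],
   [o, o, m, m, e, e, m],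
   [e, e, e, e, e, e, o],
   [o, e, e, m, e, e, m],
   [o, e, m, m, o, e, m]]

/-- the matrix of the letter 5 of the alphabet A, by its columns -/
def lcA5 : List (List F3c) :=
  [[o, m, o, o, m, m, o],
   [e, e, e, o, e, e, e],
   [e, e, e, e, e, o, e],
   [o, o, m, m, e, e, m],
   [e, e, e, e, e, e, o],
   [o, e, e, m, e, e, m],
   [o, e, m, m, o, e, m]]

/-- the matrix of the letter 6 of the alphabet A, by its columns -/
def lcA6 : List (List F3c) :=
  [[o, e, m, e, m, e, o],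
   [e, o, m, e, m, e, o],
   [m, m, o, m, e, m, o],
   [o, o, o, m, o, o, o],
   [m, m, e, m, o, m, o],
   [e, e, m, e, m, o, o],
   [m, m, e, m, e, m, m]]

/-- the matrix of the letter 7 of the alphabet A, by its columns -/
def lcA7 : List (List F3c) :=
  [[o, e, m, e, m, e, o],
   [e, o, m, e, m, e, o],
   [m, m, o, m, e, m, o],
   [o, o, o, m, o, o, o],
   [m, m, e, m, o, m, o],
   [e, e, m, e, m, o, o],
   [m, m, e, m, e, m, m]]

/-- the matrices of the letters of the alphabet A, by their columns -/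
def letT3A : ℕ → List (List F3c)
  | 0 => lcA0
  | 1 => lcA1
  | 2 => lcA2
  | 3 => lcA3
  | 4 => lcA4
  | 5 => lcA5
  | 6 => lcA6
  | 7 => lcA7
  | _ => idL3 7

/-- the generators as words in the letters of the alphabet A -/
def genAsWA : ℕ → List ℕ
  | 0 => [0, 3, 0, 2, 2, 2, 0, 4, 0, 3, 3, 3, 4, 2, 6, 3, 4, 0, 2, 0, 6]
  | 1 => [3, 0, 2, 6, 3, 0, 2]
  | 2 => [0, 3, 4, 3, 6, 2, 4, 2, 0]
  | 3 => [2, 2, 6, 3, 3]
  | 4 => [2, 2, 2, 6, 3, 3, 3]
  | 5 => [0, 2, 0, 6, 0, 3, 0]
  | 6 => [3, 3, 3, 0, 2, 0, 2, 2, 2, 0, 3, 4, 3, 0, 4, 0, 4, 0, 6, 0, 6, 4, 2]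
  | 7 => [6]
  | _ => []

/-- the words of the letters of the alphabet B in the generators -/
def letWB : ℕ → List ℕ
  | 0 => [1, 3, 2, 1, 4, 3, 2, 1, 6, 2, 1, 3, 2, 4, 3, 6]
  | 1 => [1, 3, 2, 1, 4, 3, 2, 1, 6, 2, 1, 3, 2, 4, 3, 6]
  | 2 => [2, 3, 4, 5, 7, 6]
  | 3 => [6, 7, 5, 4, 3, 2]
  | 4 => [7]
  | 5 => [7]
  | 6 => [0]
  | 7 => [0]
  | _ => []

/-- the matrix of the letter 0 of the alphabet B, by its columns -/
def lcB0 : List (List F3c) :=
  [[m, o, o, o, e, e, o],
   [m, e, o, e, m, o, o],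
   [m, m, m, e, o, e, o],
   [o, e, m, o, o, o, e],
   [o, e, m, e, e, m, e],
   [o, m, e, m, o, m, m],
   [o, e, m, e, e, e, o]]

/-- the matrix of the letter 1 of the alphabet B, by its columns -/
def lcB1 : List (List F3c) :=
  [[m, o, o, o, e, e, o],
   [m, e, o, e, m, o, o],
   [m, m, m, e, o, e, o],
   [o, e, m, o, o, o, e],
   [o, e, m, e, e, m, e],
   [o, m, e, m, o, m, m],
   [o, e, m, e, e, e, o]]

/-- the matrix of the letter 2 of the alphabet B, by its columns -/
def lcB2 : List (List F3c) :=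
  [[o, o, o, e, e, e, e],
   [m, o, o, m, e, o, e],
   [o, m, m, o, e, m, m],
   [m, o, o, m, m, m, e],
   [o, o, e, o, m, o, m],
   [m, o, o, m, e, m, e],
   [m, e, o, e, e, m, e]]

/-- the matrix of the letter 3 of the alphabet B, by its columns -/
def lcB3 : List (List F3c) :=
  [[o, o, e, e, e, o, e],
   [m, m, e, e, e, e, m],
   [m, o, m, m, o, m, m],
   [m, m, e, e, e, m, e],
   [o, o, o, e, o, m, o],
   [o, e, o, o, o, m, o],
   [m, o, m, e, m, o, m]]

/-- the matrix of the letter 4 of the alphabet B, by its columns -/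
def lcB4 : List (List F3c) :=
  [[o, e, m, e, m, e, o],
   [e, o, m, e, m, e, o],
   [m, m, o, m, e, m, o],
   [o, o, o, m, o, o, o],
   [m, m, e, m, o, m, o],
   [e, e, m, e, m, o, o],
   [m, m, e, m, e, m, m]]

/-- the matrix of the letter 5 of the alphabet B, by its columns -/
def lcB5 : List (List F3c) :=
  [[o, e, m, e, m, e, o],
   [e, o, m, e, m, e, o],
   [m, m, o, m, e, m, o],
   [o, o, o, m, o, o, o],
   [m, m, e, m, o, m, o],
   [e, e, m, e, m, o, o],
   [m, m, e, m, e, m, m]]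

/-- the matrix of the letter 6 of the alphabet B, by its columns -/
def lcB6 : List (List F3c) :=
  [[m, o, o, o, o, o, o],
   [o, e, e, o, m, e, o],
   [o, e, e, o, e, m, o],
   [o, o, o, m, o, o, o],
   [o, m, e, o, e, e, o],
   [o, e, m, o, e, e, o],
   [o, o, o, o, o, o, m]]

/-- the matrix of the letter 7 of the alphabet B, by its columns -/
def lcB7 : List (List F3c) :=
  [[m, o, o, o, o, o, o],
   [o, e, e, o, m, e, o],
   [o, e, e, o, e, m, o],
   [o, o, o, m, o, o, o],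
   [o, m, e, o, e, e, o],
   [o, e, m, o, e, e, o],
   [o, o, o, o, o, o, m]]

/-- the matrices of the letters of the alphabet B, by their columns -/
def letT3B : ℕ → List (List F3c)
  | 0 => lcB0
  | 1 => lcB1
  | 2 => lcB2
  | 3 => lcB3
  | 4 => lcB4
  | 5 => lcB5
  | 6 => lcB6
  | 7 => lcB7
  | _ => idL3 7

/-- the generators as words in the letters of the alphabet B -/
def genAsWB : ℕ → List ℕ
  | 0 => [6]
  | 1 => [3, 0, 2, 4, 3, 0, 2]
  | 2 => [0, 2, 2, 2, 0, 4, 0, 3, 3, 3, 0]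
  | 3 => [2, 2, 4, 3, 3]
  | 4 => [2, 2, 2, 4, 3, 3, 3]
  | 5 => [0, 2, 0, 4, 0, 3, 0]
  | 6 => [4, 3, 4, 2, 4]
  | 7 => [4]
  | _ => []

end Cfsg.Agent.Lib.Helper7.O73B
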