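import Cfsg.Agent.Lib.Helper7.O73C2K0

/-! # The multiplier of the orthogonal group of dimension seven over the field of three elements, the second chain, the table of the subgroup generated by the first six letters: all the rows and words of the certificate are checked, and the words that give the relations
between the classes are traced (generated) -/

set_option autoImplicit false
set_option maxRecDepth 100000

namespace Cfsg.Agent.Lib.Helper7.O73C2

open Cfsg.Agent.Lib.Helper7.MG Cfsg.Agent.Lib.Helper7.HSMult

theorem rows_ok_all : ∀ k, k < 4 → rowsOK (60 * k) 60 = true
  | 0, _ => rows_ok_0
  | 1, _ => rows_ok_1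
  | 2, _ => rows_ok_2
  | 3, _ => rows_ok_3
  | k + 4, h => absurd h (by omega)

/-- **every entry of the table is justified** -/
theorem cert_all : ∀ a, a < cert.n → ∀ x, x < cert.g → cert.slotOK a x = true := by
  intro a ha x hx
  have ha' : a < 240 := ha
  have hx' : x < 6 := hx
  have h1 := rows_ok_all (a / 60) (by omega)
  rw [rowsOK, allN_iff] at h1
  have h2 := h1 (a % 60) (Nat.mod_lt _ (by norm_num))
  rw [allN_iff] at h2
  have h3 := h2 x hx'
  have e : Nat.add (60 * (a / 60)) (a % 60) = a := Nat.div_add_mod a 60
  rw [e] at h3
  exact h3

theorem words_ok : wordsOK = true := by decide +kernel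

/-- **every word of the certificate is justified** -/
theorem cert_wall : ∀ i, i < cert.nW → cert.wordOK i = true := by
  intro i hi
  have h := words_ok
  rw [wordsOK, allN_iff] at h
  exact h i hi

theorem close_0 : cert.scan 4095 (cert.W 33) 145 0 = some (145, 41538414482397657128306754969436156) := by decide +kernel

theorem close_1 : cert.scan 4095 (cert.W 16) 65 0 = some (65, 36347380310608928090974422680236037) := by decide +kernel

theorem close_2 : cert.scan 4095 (cert.W 30) 126 0 = some (126, 41534611540268387067461034408181765) := by decide +kernel

theorem close_3 : cert.scan 4095 (cert.W 113) 120 0 = some (120, 46723110401185255394927344225390584) := by decide +kernel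

theorem close_4 : cert.scan 4095 (cert.W 95) 201 0 = some (201, 46729448646932834706712527499202561) := by decide +kernel

theorem close_5 : cert.scan 4095 (cert.W 51) 24 0 = some (24, 44120621247869969720462467656615926) := by decide +kernel

theorem close_6 : cert.scan 4095 (cert.W 122) 7 0 = some (7, 46729448637261433914408514692878336) := by decide +kernel

theorem close_7 : cert.scan 4095 (cert.W 112) 68 0 = some (68, 46725645697550012034033036219682812) := by decide +kernel

theorem close_8 : cert.scan 4095 (cert.W 2) 74 0 = some (74, 54520436664791789225905598922532846) := by decide +kernel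

end Cfsg.Agent.Lib.Helper7.O73C2
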