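import Cfsg.Agent.Lib.Helper7.O73C2C

/-! # The multiplier of the orthogonal group of dimension seven over the field of three elements, the second chain, the table of the subgroup generated by the first six letters: the check of the rows 0 to 239 of the certificate (generated) -/

set_option autoImplicit false
set_option maxRecDepth 100000

namespace Cfsg.Agent.Lib.Helper7.O73C2

theorem rows_ok_0 : rowsOK 0 60 = true := by decide +kernel

theorem rows_ok_1 : rowsOK 60 60 = true := by decide +kernel

theorem rows_ok_2 : rowsOK 120 60 = true := by decide +kernel

theorem rows_ok_3 : rowsOK 180 60 = true := by decide +kernel

end Cfsg.Agent.Lib.Helper7.O73C2
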