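import Cfsg.Agent.Lib.Helper7.O73C1U
import Cfsg.Agent.Lib.Helper7.MGenH

/-!
# The multiplier of the orthogonal group of dimension seven over the field of three elements, the second chain, the table of the subgroup generated by the first six letters: the kernel of every finite stem extension of the group is an image of the cyclic group of order two

In a finite stem extension the derived subgroup of the preimage of `L` is a copy of `L`, since `L` is perfect and has
no proper stem extensions; the first four letters are lifted into this copy, so that all the words in these letters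
that are trivial in the group are trivial in the extension.  The lift of the fifth letter is chosen so that one more
given word is trivial; this is possible since the kernel has order prime to seven, the Sylow subgroups for this
prime being cyclic.  The checked table over the copy of `L` shows that the kernel is generated by the values of the
other given words; the traced words give relations between them, which make their seventh powers trivial, so that
they are trivial.
-/

set_option autoImplicit false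
set_option maxRecDepth 100000

namespace Cfsg.Agent.Lib.Helper7.O73C2

open Cfsg Cfsg.Agent.Lib.Helper7.MG Cfsg.Agent.Lib.Helper7.HSMult Cfsg.Agent.Lib.Helper7.O73CV2
open Cfsg.Agent.Lib.Helper7.M12Mult
open scoped IsMulCommutative

/-! ### the data of the certificate -/

/-- the words that define the central elements -/
def axI : ℕ → ℕ
  | 0 => 3
  | 1 => 13
  | 2 => 43
  | 3 => 36
  | 4 => 107
  | 5 => 5
  | _ => 0

theorem axI_lt : ∀ j, axI j < 132
  | 0 => by decide
  | 1 => by decide
  | 2 => by decide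
  | 3 => by decide
  | 4 => by decide
  | 5 => by decide
  | _ + 6 => by
    show (0 : ℕ) < 132
    decide

/-- the word of which a power is the trivial word that is not a word in the first four letters -/
def yW : List ℕ := [4, 0, 2]

theorem chk_wT : ∀ i, i < 132 → cert.wT i = 0 →
    (((cert.W i).all fun x => Nat.blt x 4) = true ∧
      ∀ l, l < 6 → ((fld (cert.rhs i) l : ℤ) - ((cert.W i).length : ℤ) * (cert.B : ℤ)) = 0) ∨
    i = 2 ∨ ∃ j, j < 6 ∧ i = axI j := by decide +kernel

theorem chk_W3 : cert.W 2 = wpow 7 yW := by decide +kernel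

theorem chk_yW : expsumL 4 5 (wpow 7 yW) = 7 := by decide

theorem chk_len : ∀ i, i < 132 → (cert.W i).length ≤ 255 := by decide +kernel

theorem chk_ax : ∀ j, j < 6 → ∀ l, l < 6 →
    ((fld (cert.rhs (axI j)) l : ℤ) - ((cert.W (axI j)).length : ℤ) * (cert.B : ℤ)) = if l = j then 1 else 0 := by
  decide +kernel

theorem chk_ex : ∀ l, l < 6 →
    ((fld (cert.rhs 2) l : ℤ) - ((cert.W 2).length : ℤ) * (cert.B : ℤ)) = 0 := by
  decide +kernel

/-- the relations between the central elements that the traced words give -/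
def relL : List (List ℤ) := [[4, 0, (-2), 0, 0, 0],
    [(-2), 0, (-2), (-7), 10, (-1)],
    [(-4), 4, 6, (-9), (-6), 3],
    [6, 4, (-2), (-2), (-12), 7],
    [(-6), 2, 0, 5, (-2), 1],
    [12, (-4), 0, (-9), (-14), 11],
    [(-2), 2, (-3), (-2), 4, 1],
    [1, 5, (-1), (-6), (-4), 4],
    [18, (-2), (-2), (-6), (-5), (-1)]]

/-- the generator of the kernel as a product of powers of the central elements -/
def cL : List ℤ := [1, 0, 0, 0, 0, 0]

/-- the central elements as powers of the generator -/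
def mL : List ℤ := [1, 1, 0, 0, 0, 0]

/-- the combinations of the relations that express the central elements by the generator -/
def lamL : List (List ℤ) := [[0, 0, 0, 0, 0, 0, 0, 0, 0],
    [3579191, (-6160210), (-151837), (-7538531), 0, 1772477, 4522231, 5761385, 0],
    [2350554, (-4045555), (-99716), (-4950737), 0, 1164029, 2969845, 3783646, (-4)],
    [53387, (-91873), (-2265), (-112431), 0, 26435, 67440, 85928, (-2)],
    [(-31), 73, 1, 85, 0, (-20), (-60), (-62), (-3)],
    [178, (-283), (-8), (-351), 0, 83, 200, 272, (-4)]]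

/-- the combination of the relations that gives the cube of the generator -/
def muL : List ℤ := [(-5075305), 8735227, 215305, 10689692, 0, (-2513386), (-6412570), (-8169680), (-4)]

theorem chk_rel_0 : ∀ l, l < 6 → ((fld (cert.rhs 33) l : ℤ) - (fld 41538414482397657128306754969436156 l : ℤ)) = (relL.getD 0 []).getD l 0 := by
  decide +kernel

theorem chk_rel_1 : ∀ l, l < 6 → ((fld (cert.rhs 16) l : ℤ) - (fld 36347380310608928090974422680236037 l : ℤ)) = (relL.getD 1 []).getD l 0 := by
  decide +kernel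

theorem chk_rel_2 : ∀ l, l < 6 → ((fld (cert.rhs 30) l : ℤ) - (fld 41534611540268387067461034408181765 l : ℤ)) = (relL.getD 2 []).getD l 0 := by
  decide +kernel

theorem chk_rel_3 : ∀ l, l < 6 → ((fld (cert.rhs 113) l : ℤ) - (fld 46723110401185255394927344225390584 l : ℤ)) = (relL.getD 3 []).getD l 0 := by
  decide +kernel

theorem chk_rel_4 : ∀ l, l < 6 → ((fld (cert.rhs 95) l : ℤ) - (fld 46729448646932834706712527499202561 l : ℤ)) = (relL.getD 4 []).getD l 0 := by
  decide +kernel

theorem chk_rel_5 : ∀ l, l < 6 → ((fld (cert.rhs 51) l : ℤ) - (fld 44120621247869969720462467656615926 l : ℤ)) = (relL.getD 5 []).getD l 0 := by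
  decide +kernel

theorem chk_rel_6 : ∀ l, l < 6 → ((fld (cert.rhs 122) l : ℤ) - (fld 46729448637261433914408514692878336 l : ℤ)) = (relL.getD 6 []).getD l 0 := by
  decide +kernel

theorem chk_rel_7 : ∀ l, l < 6 → ((fld (cert.rhs 112) l : ℤ) - (fld 46725645697550012034033036219682812 l : ℤ)) = (relL.getD 7 []).getD l 0 := by
  decide +kernel

theorem chk_rel_8 : ∀ l, l < 6 → ((fld (cert.rhs 2) l : ℤ) - (fld 54520436664791789225905598922532846 l : ℤ)) = (relL.getD 8 []).getD l 0 := by
  decide +kernel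

theorem chk_lam : ∀ j, j < 6 → ∀ l, l < 6 →
    ((7 : ℕ) : ℤ) * ((if l = j then 1 else 0) - mL.getD j 0 * cL.getD l 0) = dotL (lamL.getD j []) relL l := by
  decide +kernel

theorem chk_mu : ∀ l, l < 6 → ((7 : ℕ) : ℤ) * ((2 : ℤ) * cL.getD l 0) = dotL muL relL l := by decide +kernel

section upper

universe u

variable {Γ : Type u} [Group Γ] [Finite Γ] (σ : Γ →* G) (hsurj : Function.Surjective σ)
  (hcen : σ.ker ≤ Subgroup.center Γ) (hder : σ.ker ≤ commutator Γ)

include hsurj hcen hder in
theorem not_dvd_card_ker : ¬ 7 ∣ Nat.card σ.ker := by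
  have hperf := perfect_of_stem σ hsurj hcen hder G_perfect
  have : Fact (Nat.Prime 7) := ⟨by norm_num⟩
  exact Cfsg.Agent.S0102.result G_perfect
    (fun P => isCyclic_sylow_of_card_eq 7 207360 (by rw [card_G]) (by norm_num) P) σ hsurj hcen hperf

/-! ### the letters in the extension -/

/-- the letters in the extension -/
def gU (a c t : Γ) : ℕ → Γ
  | 0 => a
  | 1 => a⁻¹
  | 2 => c
  | 3 => c⁻¹
  | 4 => t
  | 5 => t⁻¹
  | _ => 1

omit [Finite Γ] in
theorem map_gU (a c t : Γ) (ha : σ a = lK 0) (hc : σ c = lK 2) (ht : σ t = lK 4) : ∀ x, σ (gU a c t x) = lK x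
  | 0 => ha
  | 1 => by
    show σ a⁻¹ = lK 1
    rw [map_inv, ha]
    exact (lK_iv (x := 0) (by norm_num)).symm
  | 2 => hc
  | 3 => by
    show σ c⁻¹ = lK 3
    rw [map_inv, hc]
    exact (lK_iv (x := 2) (by norm_num)).symm
  | 4 => ht
  | 5 => by
    show σ t⁻¹ = lK 5
    rw [map_inv, ht]
    exact (lK_iv (x := 4) (by norm_num)).symm
  | x + 6 => by
    show σ 1 = lK (x + 6)
    rw [map_one, lK_of_ge (by omega)]

omit [Finite Γ] in
theorem map_wd_gU (a c t : Γ) (ha : σ a = lK 0) (hc : σ c = lK 2) (ht : σ t = lK 4) :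
    ∀ w : List ℕ, σ (VCert.wd (gU a c t) w) = VCert.wd lK w
  | [] => map_one σ
  | x :: w => by
    rw [VCert.wd_cons, VCert.wd_cons, map_mul, map_gU σ a c t ha hc ht x, map_wd_gU a c t ha hc ht w]

include hsurj hcen hder in
/-- **lifts of the generators: the first two in the copy of `L`, the third such that the given word is trivial** -/
theorem exists_lifts : ∃ a c t : Γ, a ∈ Mt σ L ∧ c ∈ Mt σ L ∧ σ a = lK 0 ∧ σ c = lK 2 ∧ σ t = lK 4 ∧
    VCert.wd (gU a c t) (wpow 7 yW) = 1 := by
  have hnd := not_dvd_card_ker σ hsurj hcen hder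
  have cop : (Nat.card ↥σ.ker).Coprime 7 :=
    ((Nat.Prime.coprime_iff_not_dvd (by norm_num)).2 hnd).symm
  obtain ⟨a, haM, ha⟩ := exists_mem_Mt (σ := σ) hsurj L L_perfect (lK 0) (lK_mem_L (by norm_num))
  obtain ⟨c, hcM, hc⟩ := exists_mem_Mt (σ := σ) hsurj L L_perfect (lK 2) (lK_mem_L (by norm_num))
  obtain ⟨t0, ht0⟩ := hsurj (lK 4)
  have hk2 : VCert.wd (gU a c t0) (wpow 7 yW) ∈ σ.ker := by
    rw [MonoidHom.mem_ker, map_wd_gU σ a c t0 ha hc ht0, ← chk_W3]
    exact wd_lK_W (by norm_num)
  obtain ⟨w, hw, hwr⟩ := exists_root σ.ker 7 cop _ (Subgroup.inv_mem _ hk2)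
  have hwc : ∀ x : Γ, w⁻¹ * x = x * w⁻¹ := fun x =>
    (Subgroup.mem_center_iff.1 (Subgroup.inv_mem _ (hcen hw)) x).symm
  refine ⟨a, c, t0 * w, haM, hcM, ha, hc, ?_, ?_⟩
  · rw [map_mul, MonoidHom.mem_ker.1 hw, mul_one, ht0]
  · rw [wd_central_mul_at 4 5 (by norm_num) (gU a c t0) (gU a c (t0 * w)) w (hcen hw) rfl (by
        show (t0 * w)⁻¹ = t0⁻¹ * w⁻¹
        rw [mul_inv_rev, hwc]) (by
        intro x h0 h1
        match x, h0, h1 with
        | 0, _, _ => rfl
        | 1, _, _ => rfl
        | 2, _, _ => rfl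
        | 3, _, _ => rfl
        | 4, h0, _ => exact absurd rfl h0
        | 5, _, h1 => exact absurd rfl h1
        | _ + 6, _, _ => rfl), chk_yW]
    show _ * w ^ ((7 : ℕ) : ℤ) = 1
    rw [zpow_natCast, hwr, mul_inv_cancel]

variable (a c t : Γ) (haM : a ∈ Mt σ L) (hcM : c ∈ Mt σ L) (ha : σ a = lK 0) (hc : σ c = lK 2) (ht : σ t = lK 4)
  (hy : VCert.wd (gU a c t) (wpow 7 yW) = 1)

include ha hc ht in
omit [Finite Γ] in
theorem wd_gU_mem_ker {i : ℕ} (hi : i < 132) : VCert.wd (gU a c t) (cert.W i) ∈ σ.ker := by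
  rw [MonoidHom.mem_ker, map_wd_gU σ a c t ha hc ht, wd_lK_W hi]

omit [Finite Γ] in
theorem gU_iv : ∀ x, x < 6 → gU a c t (Nat.xor x 1) = (gU a c t x)⁻¹
  | 0, _ => rfl
  | 1, _ => (inv_inv a).symm
  | 2, _ => rfl
  | 3, _ => (inv_inv c).symm
  | 4, _ => rfl
  | 5, _ => (inv_inv t).symm
  | x + 6, h => absurd h (by omega)

include haM hcM in
omit [Finite Γ] in
theorem gU_mem_Mt : ∀ x, x < 4 → gU a c t x ∈ Mt σ L
  | 0, _ => haM
  | 1, _ => Subgroup.inv_mem _ haM
  | 2, _ => hcM
  | 3, _ => Subgroup.inv_mem _ hcM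
  | x + 4, h => absurd h (by omega)

/-- the central elements: the values of the given words -/
noncomputable def zU (j : ℕ) : Subgroup.center Γ :=
  ⟨VCert.wd (gU a c t) (cert.W (axI j)), hcen (wd_gU_mem_ker σ a c t ha hc ht (axI_lt j))⟩

include hsurj haM hcM hy in
theorem hW0_U : ∀ i, i < cert.nW → cert.wT i = 0 →
    VCert.wd (gU a c t) (cert.W i) = (cert.ek (zU σ hcen a c t ha hc ht) i : Γ) := by
  intro i hi hT
  rcases chk_wT i hi hT with ⟨h4, h0⟩ | rfl | ⟨j, hj, rfl⟩
  · rw [VCert.ek, cert.kap_one _ h0]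
    have hl : ∀ x ∈ (cert.W i).map (gU a c t), x ∈ Mt σ L := by
      intro x hx
      obtain ⟨y, hy', rfl⟩ := List.mem_map.1 hx
      exact gU_mem_Mt σ a c t haM hcM y (by simpa [Nat.blt] using List.all_eq_true.1 h4 y hy')
    have h1 : (((cert.W i).map (gU a c t)).map σ).prod = 1 := by
      rw [← map_list_prod]
      have := map_wd_gU σ a c t ha hc ht (cert.W i)
      rw [VCert.wd] at this
      rw [this]
      exact wd_lK_W hi
    exact prod_eq_one_of_Mt hsurj hcen L L_perfect O73C1.MF_L _ hl h1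
  · rw [VCert.ek, cert.kap_one _ chk_ex, chk_W3]
    exact hy
  · rw [VCert.ek, cert.kap_unit _ hj (chk_ax j hj)]
    rfl

include hcen hder ha hc ht in
omit [Finite Γ] in
theorem hgen_U : ∀ y : Γ, ∃ u : List ℕ, (∀ x ∈ u, x < cert.g) ∧ y = (u.map (gU a c t)).prod := by
  apply MG.exists_word_of_closure (gU a c t) 6 (fun x => Nat.xor x 1)
  · intro x hx
    refine ⟨?_, gU_iv a c t x hx⟩
    have : x = 0 ∨ x = 1 ∨ x = 2 ∨ x = 3 ∨ x = 4 ∨ x = 5 := by omega
    rcases this with rfl | rfl | rfl | rfl | rfl | rfl <;> decide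
  · apply Cfsg.Agent.Lib.Helper7.M12Mult.closure_eq_top_of_stem (σ := σ) hcen hder
    intro g
    have hg : g ∈ Subgroup.closure (lK '' Set.Iio 6) := by rw [closure_lK]; exact Subgroup.mem_top g
    induction hg using Subgroup.closure_induction with
    | mem y hy =>
      obtain ⟨x, hx, rfl⟩ := hy
      exact ⟨gU a c t x, Subgroup.subset_closure ⟨x, hx, rfl⟩, map_gU σ a c t ha hc ht x⟩
    | one => exact ⟨1, one_mem _, map_one σ⟩
    | mul p q _ _ ihp ihq =>
      obtain ⟨p', hp', rfl⟩ := ihp
      obtain ⟨q', hq', rfl⟩ := ihq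
      exact ⟨p' * q', mul_mem hp' hq', map_mul σ p' q'⟩
    | inv p _ ihp =>
      obtain ⟨p', hp', rfl⟩ := ihp
      exact ⟨p'⁻¹, inv_mem hp', map_inv σ p'⟩

include hsurj hcen in
theorem hHK_U : ∀ u, u ∈ Mt σ L → u ∈ σ.ker → u = 1 := fun _ hu hk =>
  eq_one_of_mem_Mt hsurj hcen L L_perfect O73C1.MF_L hu (MonoidHom.mem_ker.1 hk)

include haM hcM in
omit [Finite Γ] in
theorem hsub_U : ∀ x, cert.sub x = true → gU a c t x ∈ Mt σ L := fun x hx =>
  gU_mem_Mt σ a c t haM hcM x (lt_four_of_sub hx)

include hsurj hder haM hcM hy in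
/-- **the kernel is generated by the central elements** -/
theorem ker_eq_Zc_U : σ.ker = Zc (zU σ hcen a c t ha hc ht) 6 := by
  refine ker_eq_Zc_of_sub σ cert (gU a c t) (zU σ hcen a c t ha hc ht) (Mt σ L) 6048 hsurj
    (by rw [card_G]; rfl) (by decide) (by norm_num) (hHK_U σ hsurj hcen) ?_
    (hsub_U σ a c t haM hcM) ?_ (hgen_U σ hcen hder a c t ha hc ht) (by decide) (by decide) (gU_iv a c t) ?_
    (hW0_U σ hsurj hcen a c t haM hcM ha hc ht hy) cert_all cert_wall
  · rw [← card_L]
    exact card_Mt_le hsurj hcen L L_perfect O73C1.MF_L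
  · intro j _
    exact wd_gU_mem_ker σ a c t ha hc ht (axI_lt j)
  · intro i hi
    exact wd_gU_mem_ker σ a c t ha hc ht hi

include hsurj haM hcM hy in
/-- the relations between the central elements -/
theorem rel_U : ∀ r ∈ relL, zprod (zU σ hcen a c t ha hc ht) 6 (fun l => r.getD l 0) = 1 := by
  have hKn : ∀ u, u ∈ σ.ker → ∀ g : Γ, g * u * g⁻¹ ∈ σ.ker := fun u hu g =>
    (inferInstance : σ.ker.Normal).conj_mem u hu g
  have key : ∀ {i v row : ℕ}, i < 132 → cert.scan 4095 (cert.W i) row 0 = some (row, v) →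
      cert.ek (zU σ hcen a c t ha hc ht) i = cert.kap (zU σ hcen a c t ha hc ht) v (cert.W i).length := by
    intro i v row hi h
    exact cert.close_spec (γ := gU a c t) (H := Mt σ L) σ.ker hKn
      (fun j _ => wd_gU_mem_ker σ a c t ha hc ht (axI_lt j)) (hHK_U σ hsurj hcen) (by decide) (by decide)
      (gU_iv a c t) (hsub_U σ a c t haM hcM)
      (fun i hi => wd_gU_mem_ker σ a c t ha hc ht hi) (hW0_U σ hsurj hcen a c t haM hcM ha hc ht hy)
      cert_all cert_wall hi (chk_len i hi) h
  intro r hr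
  simp only [relL, List.mem_cons, List.not_mem_nil, or_false] at hr
  rcases hr with rfl | rfl | rfl | rfl | rfl | rfl | rfl | rfl | rfl
  · exact cert.rel_of_close _ (key (by norm_num) close_0) _ chk_rel_0
  · exact cert.rel_of_close _ (key (by norm_num) close_1) _ chk_rel_1
  · exact cert.rel_of_close _ (key (by norm_num) close_2) _ chk_rel_2
  · exact cert.rel_of_close _ (key (by norm_num) close_3) _ chk_rel_3
  · exact cert.rel_of_close _ (key (by norm_num) close_4) _ chk_rel_4
  · exact cert.rel_of_close _ (key (by norm_num) close_5) _ chk_rel_5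
  · exact cert.rel_of_close _ (key (by norm_num) close_6) _ chk_rel_6
  · exact cert.rel_of_close _ (key (by norm_num) close_7) _ chk_rel_7
  · exact cert.rel_of_close _ (key (by norm_num) close_8) _ chk_rel_8

include hsurj hcen hder haM hcM ha hc ht hy in
/-- **the kernel is an image of the cyclic group of order two** -/
theorem exists_surj_U : ∃ π : Multiplicative (ZMod 2) →* ↥σ.ker, Function.Surjective π := by
  have hnd := not_dvd_card_ker σ hsurj hcen hder
  have copq : (Nat.card ↥σ.ker).Coprime 7 :=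
    ((Nat.Prime.coprime_iff_not_dvd (by norm_num)).2 hnd).symm
  have hK := ker_eq_Zc_U σ hsurj hcen hder a c t haM hcM ha hc ht hy
  set S : Subgroup (Subgroup.center Γ) := σ.ker.comap (Subgroup.center Γ).subtype with hS
  have hzS : ∀ j, j < 6 → zU σ hcen a c t ha hc ht j ∈ S :=
    fun j _ => wd_gU_mem_ker σ a c t ha hc ht (axI_lt j)
  have hq : ∀ u, u ∈ S → u ^ 7 = 1 → u = 1 := by
    intro u hu huq
    have h1 : (⟨(u : Γ), hu⟩ : ↥σ.ker) ^ 7 = 1 := by
      apply Subtype.ext
      rw [Subgroup.coe_pow, Subgroup.coe_one]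
      show (u : Γ) ^ 7 = 1
      rw [← Subgroup.coe_pow, huq, Subgroup.coe_one]
    have h2 := eq_one_of_pow_of_coprime 7 copq _ h1
    apply Subtype.ext
    have h3 : ((⟨(u : Γ), hu⟩ : ↥σ.ker) : Γ) = ((1 : ↥σ.ker) : Γ) := congrArg Subtype.val h2
    exact h3
  obtain ⟨hz, hN⟩ := cyclic_of_relations_q (zU σ hcen a c t ha hc ht) 6 relL
    (rel_U σ hsurj hcen a c t haM hcM ha hc ht hy) S hzS 7 hq cL mL 2 lamL muL chk_lam chk_mu
  set g := zprod (zU σ hcen a c t ha hc ht) 6 (fun l => cL.getD l 0) with hg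
  have hle : σ.ker ≤ Subgroup.zpowers (g : Γ) := by
    rw [hK]
    exact Zc_le_zpowers _ 6 g (fun j => mL.getD j 0) hz
  have hgK : (g : Γ) ∈ σ.ker := by
    have : g ∈ S := zprod_mem _ 6 S hzS _
    exact this
  set g' : ↥σ.ker := ⟨(g : Γ), hgK⟩ with hg'
  have h6 : g' ^ 2 = 1 := by
    apply Subtype.ext
    rw [Subgroup.coe_pow, Subgroup.coe_one]
    have := congrArg (fun t : Subgroup.center Γ => (t : Γ)) hN
    simpa using this
  apply exists_surj_zmod g' 2 h6
  intro y
  obtain ⟨i, hi⟩ := Subgroup.mem_zpowers_iff.1 (hle y.2)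
  refine Subgroup.mem_zpowers_iff.2 ⟨i, ?_⟩
  apply Subtype.ext
  rw [Subgroup.coe_zpow]
  exact hi

end upper

/-- **the kernel of every finite stem extension of the presented group is an image of the cyclic group of order
two** -/
theorem exists_surj_of_stem {Γ : Type*} [Group Γ] [Finite Γ] (σ : Γ →* G) (hsurj : Function.Surjective σ)
    (hcen : σ.ker ≤ Subgroup.center Γ) (hder : σ.ker ≤ commutator Γ) :
    ∃ π : Multiplicative (ZMod 2) →* ↥σ.ker, Function.Surjective π := by
  obtain ⟨a, c, t, haM, hcM, ha, hc, ht, hy⟩ := exists_lifts σ hsurj hcen hder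
  exact exists_surj_U σ hsurj hcen hder a c t haM hcM ha hc ht hy

end Cfsg.Agent.Lib.Helper7.O73C2
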