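import Cfsg.Agent.Lib.Helper7.O73C3C

/-! # The multiplier of the orthogonal group of dimension seven over the field of three elements, the second chain, the table of the group: the check of the rows 1053 to 2105 of the certificate (generated) -/

set_option autoImplicit false
set_option maxRecDepth 100000

namespace Cfsg.Agent.Lib.Helper7.O73C3

theorem rows_ok_9 : rowsOK 1053 117 = true := by decide +kernel

theorem rows_ok_10 : rowsOK 1170 117 = true := by decide +kernel

theorem rows_ok_11 : rowsOK 1287 117 = true := by decide +kernel

theorem rows_ok_12 : rowsOK 1404 117 = true := by decide +kernel

theorem rows_ok_13 : rowsOK 1521 117 = true := by decide +kernel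

theorem rows_ok_14 : rowsOK 1638 117 = true := by decide +kernel

theorem rows_ok_15 : rowsOK 1755 117 = true := by decide +kernel

theorem rows_ok_16 : rowsOK 1872 117 = true := by decide +kernel

theorem rows_ok_17 : rowsOK 1989 117 = true := by decide +kernel

end Cfsg.Agent.Lib.Helper7.O73C3
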