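import Cfsg.Agent.Lib.Helper7.O73C3C

/-! # The multiplier of the orthogonal group of dimension seven over the field of three elements, the second chain, the table of the group: the check of the rows 2106 to 3158 of the certificate (generated) -/

set_option autoImplicit false
set_option maxRecDepth 100000

namespace Cfsg.Agent.Lib.Helper7.O73C3

theorem rows_ok_18 : rowsOK 2106 117 = true := by decide +kernel

theorem rows_ok_19 : rowsOK 2223 117 = true := by decide +kernel

theorem rows_ok_20 : rowsOK 2340 117 = true := by decide +kernel

theorem rows_ok_21 : rowsOK 2457 117 = true := by decide +kernel

theorem rows_ok_22 : rowsOK 2574 117 = true := by decide +kernel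

theorem rows_ok_23 : rowsOK 2691 117 = true := by decide +kernel

theorem rows_ok_24 : rowsOK 2808 117 = true := by decide +kernel

theorem rows_ok_25 : rowsOK 2925 117 = true := by decide +kernel

theorem rows_ok_26 : rowsOK 3042 117 = true := by decide +kernel

end Cfsg.Agent.Lib.Helper7.O73C3
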