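import Cfsg.Agent.Lib.Helper7.O73C3K0
import Cfsg.Agent.Lib.Helper7.O73C3K1
import Cfsg.Agent.Lib.Helper7.O73C3K2

/-! # The multiplier of the orthogonal group of dimension seven over the field of three elements, the second chain, the table of the group: all the rows and words of the certificate are checked, and the words that give the relations
between the classes are traced (generated) -/

set_option autoImplicit false
set_option maxRecDepth 100000

namespace Cfsg.Agent.Lib.Helper7.O73C3

open Cfsg.Agent.Lib.Helper7.MG Cfsg.Agent.Lib.Helper7.HSMult

theorem rows_ok_all : ∀ k, k < 27 → rowsOK (117 * k) 117 = true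
  | 0, _ => rows_ok_0
  | 1, _ => rows_ok_1
  | 2, _ => rows_ok_2
  | 3, _ => rows_ok_3
  | 4, _ => rows_ok_4
  | 5, _ => rows_ok_5
  | 6, _ => rows_ok_6
  | 7, _ => rows_ok_7
  | 8, _ => rows_ok_8
  | 9, _ => rows_ok_9
  | 10, _ => rows_ok_10
  | 11, _ => rows_ok_11
  | 12, _ => rows_ok_12
  | 13, _ => rows_ok_13
  | 14, _ => rows_ok_14
  | 15, _ => rows_ok_15
  | 16, _ => rows_ok_16
  | 17, _ => rows_ok_17
  | 18, _ => rows_ok_18
  | 19, _ => rows_ok_19
  | 20, _ => rows_ok_20
  | 21, _ => rows_ok_21
  | 22, _ => rows_ok_22
  | 23, _ => rows_ok_23
  | 24, _ => rows_ok_24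
  | 25, _ => rows_ok_25
  | 26, _ => rows_ok_26
  | k + 27, h => absurd h (by omega)

/-- **every entry of the table is justified** -/
theorem cert_all : ∀ a, a < cert.n → ∀ x, x < cert.g → cert.slotOK a x = true := by
  intro a ha x hx
  have ha' : a < 3159 := ha
  have hx' : x < 8 := hx
  have h1 := rows_ok_all (a / 117) (by omega)
  rw [rowsOK, allN_iff] at h1
  have h2 := h1 (a % 117) (Nat.mod_lt _ (by norm_num))
  rw [allN_iff] at h2
  have h3 := h2 x hx'
  have e : Nat.add (117 * (a / 117)) (a % 117) = a := Nat.div_add_mod a 117
  rw [e] at h3
  exact h3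

theorem words_ok : wordsOK = true := by decide +kernel

/-- **every word of the certificate is justified** -/
theorem cert_wall : ∀ i, i < cert.nW → cert.wordOK i = true := by
  intro i hi
  have h := words_ok
  rw [wordsOK, allN_iff] at h
  exact h i hi

theorem close_0 : cert.scan 4095 (cert.W 275) 2331 0 = some (2331, 38111661437454823369462282482145432727555) := by decide +kernel

theorem close_1 : cert.scan 4095 (cert.W 129) 1044 0 = some (1044, 32667138378220951872875169312608354328582) := by decide +kernel

theorem close_2 : cert.scan 4095 (cert.W 241) 2029 0 = some (2029, 35389399912274658677339583647125807851518) := by decide +kernel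

theorem close_3 : cert.scan 4095 (cert.W 920) 1934 0 = some (1934, 43556184481476917886458439044659678314485) := by decide +kernel

theorem close_4 : cert.scan 4095 (cert.W 1334) 1554 0 = some (1554, 43552196824110201565106929389189726240765) := by decide +kernel

theorem close_5 : cert.scan 4095 (cert.W 999) 116 0 = some (116, 43556184504294604512045564284202314137602) := by decide +kernel

theorem close_6 : cert.scan 4095 (cert.W 798) 1772 0 = some (1772, 40829935281182930887647575692601759660039) := by decide +kernel

theorem close_7 : cert.scan 4095 (cert.W 1244) 3122 0 = some (3122, 43552196831716112420019694265401347178520) := by decide +kernel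

theorem close_8 : cert.scan 4095 (cert.W 4) 2850 0 = some (2850, 10889046123538339349455740023408315867145) := by decide +kernel

theorem close_9 : cert.scan 4095 (cert.W 454) 3128 0 = some (3128, 38106344517865795820638098757707479674877) := by decide +kernel

end Cfsg.Agent.Lib.Helper7.O73C3
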