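import Cfsg.Agent.Lib.Helper7.O73C2U
import Cfsg.Agent.Lib.Helper7.O73C3D
import Cfsg.Agent.Lib.Helper7.MGenH
import Cfsg.Agent.Lib.Helper7.MGenP

/-!
# The multiplier of the orthogonal group of dimension seven over the field of three elements, the second chain, the table of the group: the kernel of every finite stem extension of the group whose order is prime to two is an image of the cyclic group of order three

In a finite stem extension whose kernel has order prime to two, the derived subgroup of the preimage of `L` is a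
copy of `L`, since `L` is perfect and the kernels of its stem extensions are images of the cyclic group of order
two; the first six letters are lifted into this copy, so that all the words in these letters that are trivial in
the group are trivial in the extension.  The lift of the seventh letter is chosen so that one more given word is
trivial; this is possible since the kernel has order prime to seven, the Sylow subgroups for this prime being cyclic.
The checked table over the copy of `L` shows that the kernel is generated by the values of the other given words; the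
traced words give relations between them, which make their seventh powers trivial, so that they are trivial.
-/

set_option autoImplicit false
set_option maxRecDepth 100000

namespace Cfsg.Agent.Lib.Helper7.O73C3

open Cfsg Cfsg.Agent.Lib.Helper7.MG Cfsg.Agent.Lib.Helper7.HSMult Cfsg.Agent.Lib.Helper7.O73CV3
open Cfsg.Agent.Lib.Helper7.M12Mult
open scoped IsMulCommutative

/-! ### the data of the certificate -/

/-- the words that define the central elements -/
def axI : ℕ → ℕ
  | 0 => 3
  | 1 => 5
  | 2 => 10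
  | 3 => 126
  | 4 => 4
  | 5 => 1139
  | 6 => 1417
  | _ => 0

theorem axI_lt : ∀ j, axI j < 1420
  | 0 => by decide
  | 1 => by decide
  | 2 => by decide
  | 3 => by decide
  | 4 => by decide
  | 5 => by decide
  | 6 => by decide
  | _ + 7 => by
    show (0 : ℕ) < 1420
    decide

/-- the word of which a power is the trivial word that is not a word in the first six letters -/
def yW : List ℕ := [6, 0, 2, 4, 0]

theorem chk_wT : ∀ i, i < 1420 → cert.wT i = 0 →
    (((cert.W i).all fun x => Nat.blt x 6) = true ∧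
      ∀ l, l < 7 → ((fld (cert.rhs i) l : ℤ) - ((cert.W i).length : ℤ) * (cert.B : ℤ)) = 0) ∨
    i = 2 ∨ ∃ j, j < 7 ∧ i = axI j := by decide +kernel

theorem chk_W3 : cert.W 2 = wpow 7 yW := by decide +kernel

theorem chk_yW : expsumL 6 7 (wpow 7 yW) = 7 := by decide

theorem chk_len : ∀ i, i < 1420 → (cert.W i).length ≤ 255 := by decide +kernel

theorem chk_ax : ∀ j, j < 7 → ∀ l, l < 7 →
    ((fld (cert.rhs (axI j)) l : ℤ) - ((cert.W (axI j)).length : ℤ) * (cert.B : ℤ)) = if l = j then 1 else 0 := by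
  decide +kernel

theorem chk_ex : ∀ l, l < 7 →
    ((fld (cert.rhs 2) l : ℤ) - ((cert.W 2).length : ℤ) * (cert.B : ℤ)) = 0 := by
  decide +kernel

/-- the relations between the central elements that the traced words give -/
def relL : List (List ℤ) := [[(-4), 0, (-2), (-2), 5, 3, 0],
    [(-6), 4, 0, 0, 2, 0, 0],
    [5, (-7), 2, (-2), 5, (-2), 0],
    [10, (-4), (-8), (-6), (-17), 18, 0],
    [2, 16, (-7), 2, (-1), (-3), 3],
    [0, 3, 0, (-2), 0, 0, 0],
    [(-7), 3, (-3), (-4), 4, 6, 3],
    [(-24), 31, (-1), 12, (-5), (-9), 3],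
    [(-9), 0, (-1), (-2), 10, 2, 0],
    [2, 3, (-3), (-3), (-9), 9, 4]]

/-- the generator of the kernel as a product of powers of the central elements -/
def cL : List ℤ := [1, 0, 0, 0, 0, 0, 0]

/-- the central elements as powers of the generator -/
def mL : List ℤ := [1, 1, 2, 0, 1, 2, 1]

/-- the combinations of the relations that express the central elements by the generator -/
def lamL : List (List ℤ) := [[0, 0, 0, 0, 0, 0, 0, 0, 0, 0],
    [167388822937, (-580650876141), (-230792428454), (-69121555034), (-56522109021), 224135786406, 38916739617, 17605369404, 17909112382, 0],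
    [343543010811, (-1191707706161), (-473670370292), (-141862680624), (-116004014903), 460008509177, 79871365749, 36132649154, 36756040699, 0],
    [(-17460052), 60566716, 24073572, 7209954, 5895727, (-23379228), (-4059345), (-1836386), (-1868061), 3],
    [171895227777, (-596283030504), (-237005771128), (-70982430239), (-58043784729), 230169920435, 39964447467, 18079337262, 18391257542, 0],
    [343790857410, (-1192567454995), (-474012096327), (-141965026420), (-116087705153), 460340378960, 79928988363, 36158716790, 36782558078, 0],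
    [171895429219, (-596283729265), (-237006048868), (-70982513422), (-58043852749), 230170190160, 39964494306, 18079358448, 18391279085, (-2)]]

/-- the combination of the relations that gives the power of the generator -/
def muL : List ℤ := [(-515686287510), 1788851187291, 711018146401, 212947540203, 174131558198, (-690510570291), (-119893482876), (-54238075330), (-55173837248), 6]

theorem chk_rel_0 : ∀ l, l < 7 → ((fld (cert.rhs 275) l : ℤ) - (fld 38111661437454823369462282482145432727555 l : ℤ)) = (relL.getD 0 []).getD l 0 := by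
  decide +kernel

theorem chk_rel_1 : ∀ l, l < 7 → ((fld (cert.rhs 129) l : ℤ) - (fld 32667138378220951872875169312608354328582 l : ℤ)) = (relL.getD 1 []).getD l 0 := by
  decide +kernel

theorem chk_rel_2 : ∀ l, l < 7 → ((fld (cert.rhs 241) l : ℤ) - (fld 35389399912274658677339583647125807851518 l : ℤ)) = (relL.getD 2 []).getD l 0 := by
  decide +kernel

theorem chk_rel_3 : ∀ l, l < 7 → ((fld (cert.rhs 920) l : ℤ) - (fld 43556184481476917886458439044659678314485 l : ℤ)) = (relL.getD 3 []).getD l 0 := by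
  decide +kernel

theorem chk_rel_4 : ∀ l, l < 7 → ((fld (cert.rhs 1334) l : ℤ) - (fld 43552196824110201565106929389189726240765 l : ℤ)) = (relL.getD 4 []).getD l 0 := by
  decide +kernel

theorem chk_rel_5 : ∀ l, l < 7 → ((fld (cert.rhs 999) l : ℤ) - (fld 43556184504294604512045564284202314137602 l : ℤ)) = (relL.getD 5 []).getD l 0 := by
  decide +kernel

theorem chk_rel_6 : ∀ l, l < 7 → ((fld (cert.rhs 798) l : ℤ) - (fld 40829935281182930887647575692601759660039 l : ℤ)) = (relL.getD 6 []).getD l 0 := by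
  decide +kernel

theorem chk_rel_7 : ∀ l, l < 7 → ((fld (cert.rhs 1244) l : ℤ) - (fld 43552196831716112420019694265401347178520 l : ℤ)) = (relL.getD 7 []).getD l 0 := by
  decide +kernel

theorem chk_rel_8 : ∀ l, l < 7 → ((fld (cert.rhs 4) l : ℤ) - (fld 10889046123538339349455740023408315867145 l : ℤ)) = (relL.getD 8 []).getD l 0 := by
  decide +kernel

theorem chk_rel_9 : ∀ l, l < 7 → ((fld (cert.rhs 454) l : ℤ) - (fld 38106344517865795820638098757707479674877 l : ℤ)) = (relL.getD 9 []).getD l 0 := by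
  decide +kernel

theorem chk_lam : ∀ j, j < 7 → ∀ l, l < 7 →
    ((7 : ℕ) : ℤ) * ((if l = j then 1 else 0) - mL.getD j 0 * cL.getD l 0) = dotL (lamL.getD j []) relL l := by
  decide +kernel

theorem chk_mu : ∀ l, l < 7 → ((7 : ℕ) : ℤ) * ((3 : ℤ) * cL.getD l 0) = dotL muL relL l := by decide +kernel

section upper

universe u

variable {Γ : Type u} [Group Γ] [Finite Γ] (σ : Γ →* G) (hsurj : Function.Surjective σ)
  (hcen : σ.ker ≤ Subgroup.center Γ) (hder : σ.ker ≤ commutator Γ) (hcop : (Nat.card ↥σ.ker).Coprime 2)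

theorem L_perfect : commutator ↥L = ⊤ := O73CV2.G_perfect

theorem card_L : Nat.card ↥L = 1451520 := O73CV2.card_G

theorem MFN_L : MFN.{u} 2 ↥L := fun _ _ _ τ hs hc hd => O73C2.exists_surj_of_stem τ hs hc hd

include hsurj hcen hder in
theorem not_dvd_card_ker : ¬ 7 ∣ Nat.card σ.ker := by
  have hperf := perfect_of_stem σ hsurj hcen hder O73B.G_perfect
  have : Fact (Nat.Prime 7) := ⟨by norm_num⟩
  exact Cfsg.Agent.S0102.result O73B.G_perfect
    (fun P => isCyclic_sylow_of_card_eq 7 655050240 (by rw [O73B.card_G]) (by norm_num) P) σ hsurj hcen hperf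

include hsurj hcen hcop in
theorem hk_U : (resMt (σ := σ) L).ker = ⊥ :=
  resMt_ker_eq_bot_cop hsurj hcen L L_perfect 2 MFN_L hcop

/-! ### the letters in the extension -/

/-- the letters in the extension -/
def gU (a c t s : Γ) : ℕ → Γ
  | 0 => a
  | 1 => a⁻¹
  | 2 => c
  | 3 => c⁻¹
  | 4 => t
  | 5 => t⁻¹
  | 6 => s
  | 7 => s⁻¹
  | _ => 1

omit [Finite Γ] in
theorem map_gU (a c t s : Γ) (ha : σ a = lK 0) (hc : σ c = lK 2) (ht : σ t = lK 4) (hs : σ s = lK 6) :
    ∀ x, σ (gU a c t s x) = lK x
  | 0 => ha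
  | 1 => by
    show σ a⁻¹ = lK 1
    rw [map_inv, ha]
    exact (lK_iv (x := 0) (by norm_num)).symm
  | 2 => hc
  | 3 => by
    show σ c⁻¹ = lK 3
    rw [map_inv, hc]
    exact (lK_iv (x := 2) (by norm_num)).symm
  | 4 => ht
  | 5 => by
    show σ t⁻¹ = lK 5
    rw [map_inv, ht]
    exact (lK_iv (x := 4) (by norm_num)).symm
  | 6 => hs
  | 7 => by
    show σ s⁻¹ = lK 7
    rw [map_inv, hs]
    exact (lK_iv (x := 6) (by norm_num)).symm
  | x + 8 => by
    show σ 1 = lK (x + 8)
    rw [map_one, lK_of_ge (by omega)]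

omit [Finite Γ] in
theorem map_wd_gU (a c t s : Γ) (ha : σ a = lK 0) (hc : σ c = lK 2) (ht : σ t = lK 4) (hs : σ s = lK 6) :
    ∀ w : List ℕ, σ (VCert.wd (gU a c t s) w) = VCert.wd lK w
  | [] => map_one σ
  | x :: w => by
    rw [VCert.wd_cons, VCert.wd_cons, map_mul, map_gU σ a c t s ha hc ht hs x, map_wd_gU a c t s ha hc ht hs w]

include hsurj hcen hder in
/-- **lifts of the generators: the first three in the copy of `L`, the fourth such that the given word is trivial** -/
theorem exists_lifts : ∃ a c t s : Γ, a ∈ Mt σ L ∧ c ∈ Mt σ L ∧ t ∈ Mt σ L ∧ σ a = lK 0 ∧ σ c = lK 2 ∧ σ t = lK 4 ∧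
    σ s = lK 6 ∧ VCert.wd (gU a c t s) (wpow 7 yW) = 1 := by
  have hnd := not_dvd_card_ker σ hsurj hcen hder
  have cop : (Nat.card ↥σ.ker).Coprime 7 :=
    ((Nat.Prime.coprime_iff_not_dvd (by norm_num)).2 hnd).symm
  obtain ⟨a, haM, ha⟩ := exists_mem_Mt (σ := σ) hsurj L L_perfect (lK 0) (lK_mem_L (by norm_num))
  obtain ⟨c, hcM, hc⟩ := exists_mem_Mt (σ := σ) hsurj L L_perfect (lK 2) (lK_mem_L (by norm_num))
  obtain ⟨t, htM, ht⟩ := exists_mem_Mt (σ := σ) hsurj L L_perfect (lK 4) (lK_mem_L (by norm_num))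
  obtain ⟨s0, hs0⟩ := hsurj (lK 6)
  have hk2 : VCert.wd (gU a c t s0) (wpow 7 yW) ∈ σ.ker := by
    rw [MonoidHom.mem_ker, map_wd_gU σ a c t s0 ha hc ht hs0, ← chk_W3]
    exact wd_lK_W (by norm_num)
  obtain ⟨w, hw, hwr⟩ := exists_root σ.ker 7 cop _ (Subgroup.inv_mem _ hk2)
  have hwc : ∀ x : Γ, w⁻¹ * x = x * w⁻¹ := fun x =>
    (Subgroup.mem_center_iff.1 (Subgroup.inv_mem _ (hcen hw)) x).symm
  refine ⟨a, c, t, s0 * w, haM, hcM, htM, ha, hc, ht, ?_, ?_⟩
  · rw [map_mul, MonoidHom.mem_ker.1 hw, mul_one, hs0]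
  · rw [wd_central_mul_at 6 7 (by norm_num) (gU a c t s0) (gU a c t (s0 * w)) w (hcen hw) rfl (by
        show (s0 * w)⁻¹ = s0⁻¹ * w⁻¹
        rw [mul_inv_rev, hwc]) (by
        intro x h0 h1
        match x, h0, h1 with
        | 0, _, _ => rfl
        | 1, _, _ => rfl
        | 2, _, _ => rfl
        | 3, _, _ => rfl
        | 4, _, _ => rfl
        | 5, _, _ => rfl
        | 6, h0, _ => exact absurd rfl h0
        | 7, _, h1 => exact absurd rfl h1
        | _ + 8, _, _ => rfl), chk_yW]
    show _ * w ^ ((7 : ℕ) : ℤ) = 1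
    rw [zpow_natCast, hwr, mul_inv_cancel]

variable (a c t s : Γ) (haM : a ∈ Mt σ L) (hcM : c ∈ Mt σ L) (htM : t ∈ Mt σ L) (ha : σ a = lK 0) (hc : σ c = lK 2)
  (ht : σ t = lK 4) (hs : σ s = lK 6) (hy : VCert.wd (gU a c t s) (wpow 7 yW) = 1)

include ha hc ht hs in
omit [Finite Γ] in
theorem wd_gU_mem_ker {i : ℕ} (hi : i < 1420) : VCert.wd (gU a c t s) (cert.W i) ∈ σ.ker := by
  rw [MonoidHom.mem_ker, map_wd_gU σ a c t s ha hc ht hs, wd_lK_W hi]

omit [Finite Γ] in
theorem gU_iv : ∀ x, x < 8 → gU a c t s (Nat.xor x 1) = (gU a c t s x)⁻¹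
  | 0, _ => rfl
  | 1, _ => (inv_inv a).symm
  | 2, _ => rfl
  | 3, _ => (inv_inv c).symm
  | 4, _ => rfl
  | 5, _ => (inv_inv t).symm
  | 6, _ => rfl
  | 7, _ => (inv_inv s).symm
  | x + 8, h => absurd h (by omega)

include haM hcM htM in
omit [Finite Γ] in
theorem gU_mem_Mt : ∀ x, x < 6 → gU a c t s x ∈ Mt σ L
  | 0, _ => haM
  | 1, _ => Subgroup.inv_mem _ haM
  | 2, _ => hcM
  | 3, _ => Subgroup.inv_mem _ hcM
  | 4, _ => htM
  | 5, _ => Subgroup.inv_mem _ htM
  | x + 6, h => absurd h (by omega)

/-- the central elements: the values of the given words -/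
noncomputable def zU (j : ℕ) : Subgroup.center Γ :=
  ⟨VCert.wd (gU a c t s) (cert.W (axI j)), hcen (wd_gU_mem_ker σ a c t s ha hc ht hs (axI_lt j))⟩

include hsurj hcop haM hcM htM hy in
theorem hW0_U : ∀ i, i < cert.nW → cert.wT i = 0 →
    VCert.wd (gU a c t s) (cert.W i) = (cert.ek (zU σ hcen a c t s ha hc ht hs) i : Γ) := by
  intro i hi hT
  rcases chk_wT i hi hT with ⟨h4, h0⟩ | rfl | ⟨j, hj, rfl⟩
  · rw [VCert.ek, cert.kap_one _ h0]
    have hl : ∀ x ∈ (cert.W i).map (gU a c t s), x ∈ Mt σ L := by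
      intro x hx
      obtain ⟨y, hy', rfl⟩ := List.mem_map.1 hx
      exact gU_mem_Mt σ a c t s haM hcM htM y (by simpa [Nat.blt] using List.all_eq_true.1 h4 y hy')
    have h1 : (((cert.W i).map (gU a c t s)).map σ).prod = 1 := by
      rw [← map_list_prod]
      have := map_wd_gU σ a c t s ha hc ht hs (cert.W i)
      rw [VCert.wd] at this
      rw [this]
      exact wd_lK_W hi
    exact prod_eq_one_of_Mt_of_ker L (hk_U σ hsurj hcen hcop) _ hl h1
  · rw [VCert.ek, cert.kap_one _ chk_ex, chk_W3]
    exact hy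
  · rw [VCert.ek, cert.kap_unit _ hj (chk_ax j hj)]
    rfl

include hcen hder ha hc ht hs in
omit [Finite Γ] in
theorem hgen_U : ∀ y : Γ, ∃ u : List ℕ, (∀ x ∈ u, x < cert.g) ∧ y = (u.map (gU a c t s)).prod := by
  apply MG.exists_word_of_closure (gU a c t s) 8 (fun x => Nat.xor x 1)
  · intro x hx
    refine ⟨?_, gU_iv a c t s x hx⟩
    have : x = 0 ∨ x = 1 ∨ x = 2 ∨ x = 3 ∨ x = 4 ∨ x = 5 ∨ x = 6 ∨ x = 7 := by omega
    rcases this with rfl | rfl | rfl | rfl | rfl | rfl | rfl | rfl <;> decide
  · apply Cfsg.Agent.Lib.Helper7.M12Mult.closure_eq_top_of_stem (σ := σ) hcen hder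
    intro g
    have hg : g ∈ Subgroup.closure (lK '' Set.Iio 8) := by rw [closure_lK]; exact Subgroup.mem_top g
    induction hg using Subgroup.closure_induction with
    | mem y hy =>
      obtain ⟨x, hx, rfl⟩ := hy
      exact ⟨gU a c t s x, Subgroup.subset_closure ⟨x, hx, rfl⟩, map_gU σ a c t s ha hc ht hs x⟩
    | one => exact ⟨1, one_mem _, map_one σ⟩
    | mul p q _ _ ihp ihq =>
      obtain ⟨p', hp', rfl⟩ := ihp
      obtain ⟨q', hq', rfl⟩ := ihq
      exact ⟨p' * q', mul_mem hp' hq', map_mul σ p' q'⟩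
    | inv p _ ihp =>
      obtain ⟨p', hp', rfl⟩ := ihp
      exact ⟨p'⁻¹, inv_mem hp', map_inv σ p'⟩

include hsurj hcen hcop in
theorem hHK_U : ∀ u, u ∈ Mt σ L → u ∈ σ.ker → u = 1 := fun _ hu hk =>
  eq_one_of_mem_Mt_of_ker L (hk_U σ hsurj hcen hcop) hu (MonoidHom.mem_ker.1 hk)

include haM hcM htM in
omit [Finite Γ] in
theorem hsub_U : ∀ x, cert.sub x = true → gU a c t s x ∈ Mt σ L := fun x hx =>
  gU_mem_Mt σ a c t s haM hcM htM x (lt_six_of_sub hx)

include hsurj hder hcop haM hcM htM hy in
/-- **the kernel is generated by the central elements** -/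
theorem ker_eq_Zc_U : σ.ker = Zc (zU σ hcen a c t s ha hc ht hs) 7 := by
  refine ker_eq_Zc_of_sub σ cert (gU a c t s) (zU σ hcen a c t s ha hc ht hs) (Mt σ L) 1451520 hsurj
    (by rw [O73B.card_G]; rfl) (by decide) (by norm_num) (hHK_U σ hsurj hcen hcop) ?_
    (hsub_U σ a c t s haM hcM htM) ?_ (hgen_U σ hcen hder a c t s ha hc ht hs) (by decide) (by decide)
    (gU_iv a c t s) ?_
    (hW0_U σ hsurj hcen hcop a c t s haM hcM htM ha hc ht hs hy) cert_all cert_wall
  · rw [← card_L]
    exact card_Mt_le_of_ker L (hk_U σ hsurj hcen hcop)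
  · intro j _
    exact wd_gU_mem_ker σ a c t s ha hc ht hs (axI_lt j)
  · intro i hi
    exact wd_gU_mem_ker σ a c t s ha hc ht hs hi

include hsurj hcop haM hcM htM hy in
/-- the relations between the central elements -/
theorem rel_U : ∀ r ∈ relL, zprod (zU σ hcen a c t s ha hc ht hs) 7 (fun l => r.getD l 0) = 1 := by
  have hKn : ∀ u, u ∈ σ.ker → ∀ g : Γ, g * u * g⁻¹ ∈ σ.ker := fun u hu g =>
    (inferInstance : σ.ker.Normal).conj_mem u hu g
  have key : ∀ {i v row : ℕ}, i < 1420 → cert.scan 4095 (cert.W i) row 0 = some (row, v) →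
      cert.ek (zU σ hcen a c t s ha hc ht hs) i = cert.kap (zU σ hcen a c t s ha hc ht hs) v (cert.W i).length := by
    intro i v row hi h
    exact cert.close_spec (γ := gU a c t s) (H := Mt σ L) σ.ker hKn
      (fun j _ => wd_gU_mem_ker σ a c t s ha hc ht hs (axI_lt j)) (hHK_U σ hsurj hcen hcop) (by decide) (by decide)
      (gU_iv a c t s) (hsub_U σ a c t s haM hcM htM)
      (fun i hi => wd_gU_mem_ker σ a c t s ha hc ht hs hi)
      (hW0_U σ hsurj hcen hcop a c t s haM hcM htM ha hc ht hs hy)
      cert_all cert_wall hi (chk_len i hi) h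
  intro r hr
  simp only [relL, List.mem_cons, List.not_mem_nil, or_false] at hr
  rcases hr with rfl | rfl | rfl | rfl | rfl | rfl | rfl | rfl | rfl | rfl
  · exact cert.rel_of_close _ (key (by norm_num) close_0) _ chk_rel_0
  · exact cert.rel_of_close _ (key (by norm_num) close_1) _ chk_rel_1
  · exact cert.rel_of_close _ (key (by norm_num) close_2) _ chk_rel_2
  · exact cert.rel_of_close _ (key (by norm_num) close_3) _ chk_rel_3
  · exact cert.rel_of_close _ (key (by norm_num) close_4) _ chk_rel_4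
  · exact cert.rel_of_close _ (key (by norm_num) close_5) _ chk_rel_5
  · exact cert.rel_of_close _ (key (by norm_num) close_6) _ chk_rel_6
  · exact cert.rel_of_close _ (key (by norm_num) close_7) _ chk_rel_7
  · exact cert.rel_of_close _ (key (by norm_num) close_8) _ chk_rel_8
  · exact cert.rel_of_close _ (key (by norm_num) close_9) _ chk_rel_9

include hsurj hcen hder hcop haM hcM htM ha hc ht hs hy in
/-- **the kernel is an image of the cyclic group of order three** -/
theorem exists_surj_U : ∃ π : Multiplicative (ZMod 3) →* ↥σ.ker, Function.Surjective π := by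
  have hnd := not_dvd_card_ker σ hsurj hcen hder
  have copq : (Nat.card ↥σ.ker).Coprime 7 :=
    ((Nat.Prime.coprime_iff_not_dvd (by norm_num)).2 hnd).symm
  have hK := ker_eq_Zc_U σ hsurj hcen hder hcop a c t s haM hcM htM ha hc ht hs hy
  set S : Subgroup (Subgroup.center Γ) := σ.ker.comap (Subgroup.center Γ).subtype with hS
  have hzS : ∀ j, j < 7 → zU σ hcen a c t s ha hc ht hs j ∈ S :=
    fun j _ => wd_gU_mem_ker σ a c t s ha hc ht hs (axI_lt j)
  have hq : ∀ u, u ∈ S → u ^ 7 = 1 → u = 1 := by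
    intro u hu huq
    have h1 : (⟨(u : Γ), hu⟩ : ↥σ.ker) ^ 7 = 1 := by
      apply Subtype.ext
      rw [Subgroup.coe_pow, Subgroup.coe_one]
      show (u : Γ) ^ 7 = 1
      rw [← Subgroup.coe_pow, huq, Subgroup.coe_one]
    have h2 := eq_one_of_pow_of_coprime 7 copq _ h1
    apply Subtype.ext
    have h3 : ((⟨(u : Γ), hu⟩ : ↥σ.ker) : Γ) = ((1 : ↥σ.ker) : Γ) := congrArg Subtype.val h2
    exact h3
  obtain ⟨hz, hN⟩ := cyclic_of_relations_q (zU σ hcen a c t s ha hc ht hs) 7 relL
    (rel_U σ hsurj hcen hcop a c t s haM hcM htM ha hc ht hs hy) S hzS 7 hq cL mL 3 lamL muL chk_lam chk_mu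
  set g := zprod (zU σ hcen a c t s ha hc ht hs) 7 (fun l => cL.getD l 0) with hg
  have hle : σ.ker ≤ Subgroup.zpowers (g : Γ) := by
    rw [hK]
    exact Zc_le_zpowers _ 7 g (fun j => mL.getD j 0) hz
  have hgK : (g : Γ) ∈ σ.ker := by
    have : g ∈ S := zprod_mem _ 7 S hzS _
    exact this
  set g' : ↥σ.ker := ⟨(g : Γ), hgK⟩ with hg'
  have h6 : g' ^ 3 = 1 := by
    apply Subtype.ext
    rw [Subgroup.coe_pow, Subgroup.coe_one]
    have := congrArg (fun t : Subgroup.center Γ => (t : Γ)) hN
    simpa using this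
  apply exists_surj_zmod g' 3 h6
  intro y
  obtain ⟨i, hi⟩ := Subgroup.mem_zpowers_iff.1 (hle y.2)
  refine Subgroup.mem_zpowers_iff.2 ⟨i, ?_⟩
  apply Subtype.ext
  rw [Subgroup.coe_zpow]
  exact hi

end upper

/-- **the kernel of every finite stem extension of the group whose order is prime to two is an image of the cyclic
group of order three** -/
theorem exists_surj_of_stem {Γ : Type*} [Group Γ] [Finite Γ] (σ : Γ →* G) (hsurj : Function.Surjective σ)
    (hcen : σ.ker ≤ Subgroup.center Γ) (hder : σ.ker ≤ commutator Γ) (hcop : (Nat.card ↥σ.ker).Coprime 2) :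
    ∃ π : Multiplicative (ZMod 3) →* ↥σ.ker, Function.Surjective π := by
  obtain ⟨a, c, t, s, haM, hcM, htM, ha, hc, ht, hs, hy⟩ := exists_lifts σ hsurj hcen hder
  exact exists_surj_U σ hsurj hcen hder hcop a c t s haM hcM htM ha hc ht hs hy

end Cfsg.Agent.Lib.Helper7.O73C3
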