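import Cfsg.Agent.Lib.Helper7.O73CMED
import Cfsg.Agent.Lib.Helper7.O73C3U

/-!
# The multiplier of the orthogonal group of dimension seven over the field of three elements, the second chain: a stem extension with kernel of order three

Permutations of 9477 points, paired with the letters in the group, generate a group that maps onto the group.  The
points are the cosets of `L` taken three times; the kernel of order three acts by shifting the copies of each coset
cyclically.  The given words of the table over `L` act as shifts, which commute with the letters.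
-/

set_option autoImplicit false
set_option maxRecDepth 100000

namespace Cfsg.Agent.Lib.Helper7.O73CM

open Cfsg Cfsg.Agent.Lib.Helper7.MG Cfsg.Agent.Lib.Helper7.HSMult Cfsg.Agent.Lib.Helper7.O73CV3
open scoped IsMulCommutative

/-! ### the letters on the 9477 points -/

/-- the inverse of a letter -/
def ivx (x : ℕ) : ℕ := Nat.xor x 1

theorem ivx_ivx (x : ℕ) : ivx (ivx x) = x := by
  show (x ^^^ 1) ^^^ 1 = x
  rw [Nat.xor_assoc, Nat.xor_self, Nat.xor_zero]

theorem ivx_lt : ∀ x, x < 8 → ivx x < 8 := by decide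

/-- an entry of a part of a table -/
def ent5 (t i : ℕ) : ℕ := Nat.land (Nat.shiftRight t (Nat.mul 16 i)) 65535

/-- the part of the table of a letter that contains the points from `512 c` on -/
noncomputable def sel5 (x c : ℕ) : ℕ :=
  cond (Nat.ble 8 x) 0 (cond (Nat.ble 4 x) (cond (Nat.ble 6 x) (cond (Nat.ble 7 x) (n5_7_0_19 c) (n5_6_0_19 c)) (cond (Nat.ble 5 x) (n5_5_0_19 c) (n5_4_0_19 c))) (cond (Nat.ble 2 x) (cond (Nat.ble 3 x) (n5_3_0_19 c) (n5_2_0_19 c)) (cond (Nat.ble 1 x) (n5_1_0_19 c) (n5_0_0_19 c))))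

/-- the image of one of the 9477 points under a letter -/
noncomputable def lk5 (x p : ℕ) : ℕ :=
  cond (Nat.ble 8 x) p (strictN p fun q => ent5 (sel5 x (Nat.shiftRight q 9)) (Nat.land q 511))

theorem lk5_ge {x : ℕ} (hx : 8 ≤ x) (p : ℕ) : lk5 x p = p := by
  have h : Nat.ble 8 x = true := Nat.ble_eq_true_of_le hx
  rw [lk5, h]
  rfl

/-- the check that a letter and its inverse are inverse permutations of the 9477 points -/
noncomputable def inv5OK (x : ℕ) : Bool := allN 9477 fun p =>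
  Nat.blt (lk5 x p) 9477 && Nat.beq (lk5 (ivx x) (lk5 x p)) p

theorem chk_inv5_0 : inv5OK 0 = true := by decide +kernel

theorem chk_inv5_1 : inv5OK 1 = true := by decide +kernel

theorem chk_inv5_2 : inv5OK 2 = true := by decide +kernel

theorem chk_inv5_3 : inv5OK 3 = true := by decide +kernel

theorem chk_inv5_4 : inv5OK 4 = true := by decide +kernel

theorem chk_inv5_5 : inv5OK 5 = true := by decide +kernel

theorem chk_inv5_6 : inv5OK 6 = true := by decide +kernel

theorem chk_inv5_7 : inv5OK 7 = true := by decide +kernel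

theorem chk_inv5 : ∀ x, x < 8 → inv5OK x = true
  | 0, _ => chk_inv5_0
  | 1, _ => chk_inv5_1
  | 2, _ => chk_inv5_2
  | 3, _ => chk_inv5_3
  | 4, _ => chk_inv5_4
  | 5, _ => chk_inv5_5
  | 6, _ => chk_inv5_6
  | 7, _ => chk_inv5_7
  | x + 8, h => absurd h (by omega)

theorem ivx_ge {x : ℕ} (hx : 8 ≤ x) : 8 ≤ ivx x := by
  by_contra h
  have h1 := ivx_lt (ivx x) (by omega)
  rw [ivx_ivx] at h1
  omega

theorem hh5 (x p : ℕ) (hp : p < 9477) : lk5 x p < 9477 ∧ lk5 (ivx x) (lk5 x p) = p := by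
  rcases Nat.lt_or_ge x 8 with hx | hx
  · have h1 := chk_inv5 x hx
    rw [inv5OK, allN_iff] at h1
    have h2 := h1 p hp
    rw [Bool.and_eq_true] at h2
    exact ⟨by simpa [Nat.blt] using h2.1, Nat.eq_of_beq_eq_true h2.2⟩
  · rw [lk5_ge (ivx_ge hx), lk5_ge hx]
    exact ⟨hp, rfl⟩

theorem hh5' (x p : ℕ) (hp : p < 9477) : lk5 (ivx x) p < 9477 ∧ lk5 x (lk5 (ivx x) p) = p := by
  have h := hh5 (ivx x) p hp
  rwa [ivx_ivx] at h

/-- the letters as permutations of the 9477 points -/
noncomputable def pm5 (x : ℕ) : Equiv.Perm (Fin 9477) := permOf 9477 (lk5 x) (lk5 (ivx x)) (hh5 x) (hh5' x)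

theorem pm5_val (x : ℕ) (p : Fin 9477) : (pm5 x p).val = lk5 x p.val := rfl

theorem pm5_ivx (x : ℕ) : pm5 (ivx x) = (pm5 x)⁻¹ := by
  apply Equiv.ext
  intro p
  apply Fin.ext
  rw [pm5, pm5, permOf_inv]
  rfl

theorem pm5_ge {x : ℕ} (hx : 8 ≤ x) : pm5 x = 1 := by
  apply Equiv.ext
  intro p
  apply Fin.ext
  rw [pm5_val, lk5_ge hx]
  rfl

/-- the image of one of the 9477 points under a word -/
noncomputable def ev5 (w : List ℕ) (p : ℕ) : ℕ := List.rec p (fun x _ ih => lk5 x ih) w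

theorem ev5_nil (p : ℕ) : ev5 [] p = p := rfl

theorem ev5_cons (x : ℕ) (w : List ℕ) (p : ℕ) : ev5 (x :: w) p = lk5 x (ev5 w p) := rfl

theorem wd_pm5_val : ∀ (w : List ℕ) (p : Fin 9477), ((VCert.wd pm5 w) p).val = ev5 w p.val
  | [], _ => rfl
  | x :: w, p => by
    rw [VCert.wd_cons, Equiv.Perm.mul_apply, pm5_val, wd_pm5_val w p]
    rfl

theorem wd_pm5_eq {w w' : List ℕ} (h : ∀ p, p < 9477 → ev5 w p = ev5 w' p) : VCert.wd pm5 w = VCert.wd pm5 w' := by
  apply Equiv.ext
  intro p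
  apply Fin.ext
  rw [wd_pm5_val, wd_pm5_val]
  exact h p.val p.2

theorem ev5_append : ∀ (w w' : List ℕ) (p : ℕ), ev5 (w ++ w') p = ev5 w (ev5 w' p)
  | [], _, _ => rfl
  | x :: w, w', p => by
    show ev5 (x :: (w ++ w')) p = ev5 (x :: w) (ev5 w' p)
    rw [ev5_cons, ev5_cons, ev5_append w w' p]

/-! ### the extension -/

/-- the pairs -/
noncomputable def gX (x : ℕ) : Equiv.Perm (Fin 9477) × G := (pm5 x, lK x)

theorem gX_ge {x : ℕ} (hx : 8 ≤ x) : gX x = 1 := by
  rw [gX, pm5_ge hx, lK_of_ge hx]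
  rfl

theorem wd_gX : ∀ w : List ℕ, VCert.wd gX w = (VCert.wd pm5 w, VCert.wd lK w)
  | [] => rfl
  | x :: w => by
    rw [VCert.wd_cons, VCert.wd_cons, VCert.wd_cons, wd_gX w]
    rfl

/-- the extension -/
noncomputable def GE : Subgroup (Equiv.Perm (Fin 9477) × G) :=
  Subgroup.closure (gX '' Set.Iio 8)

theorem gX_mem (x : ℕ) : gX x ∈ GE := by
  rcases Nat.lt_or_ge x 8 with h | h
  · exact Subgroup.subset_closure ⟨x, h, rfl⟩
  · rw [gX_ge h]; exact one_mem _

/-- the letters of the extension -/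
noncomputable def gE (x : ℕ) : ↥GE := ⟨gX x, gX_mem x⟩

theorem wd_gE_val : ∀ w : List ℕ, (VCert.wd gE w : ↥GE).1 = VCert.wd gX w
  | [] => rfl
  | x :: w => by
    rw [VCert.wd_cons, Subgroup.coe_mul, wd_gE_val w, VCert.wd_cons]
    rfl

/-- two words with the same values on all the points give the same element -/
theorem wd_gE_eq {w w' : List ℕ} (h5 : ∀ p, p < 9477 → ev5 w p = ev5 w' p)
    (hK : VCert.wd lK w = VCert.wd lK w') :
    VCert.wd gE w = VCert.wd gE w' := by
  apply Subtype.ext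
  rw [wd_gE_val, wd_gE_val, wd_gX, wd_gX, wd_pm5_eq h5, hK]

theorem gE_iv (x : ℕ) (hx : x < 8) : gE (Nat.xor x 1) = (gE x)⁻¹ := by
  apply Subtype.ext
  rw [Subgroup.coe_inv]
  show gX (ivx x) = (gX x)⁻¹
  rw [gX, gX, pm5_ivx, ivx, lK_iv hx]
  rfl

theorem closure_gE : Subgroup.closure (gE '' Set.Iio 8) = ⊤ := by
  have h := Subgroup.closure_closure_coe_preimage (k := gX '' Set.Iio 8)
  have e : ((↑) ⁻¹' (gX '' Set.Iio 8) : Set ↥(Subgroup.closure (gX '' Set.Iio 8))) = gE '' Set.Iio 8 := by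
    ext z
    constructor
    · rintro ⟨x, hx, hz⟩
      exact ⟨x, hx, Subtype.ext hz⟩
    · rintro ⟨x, hx, rfl⟩
      exact ⟨x, hx, rfl⟩
  rw [e] at h
  exact h

/-- the projection onto the group -/
noncomputable def sigE : ↥GE →* G := (MonoidHom.snd _ _).comp GE.subtype

theorem sigE_gE (x : ℕ) : sigE (gE x) = lK x := rfl

theorem sigE_wd : ∀ w : List ℕ, sigE (VCert.wd gE w) = VCert.wd lK w
  | [] => map_one sigE
  | x :: w => by rw [VCert.wd_cons, VCert.wd_cons, map_mul, sigE_gE, sigE_wd w]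

theorem sigE_surj : Function.Surjective sigE := by
  rw [← MonoidHom.range_eq_top, eq_top_iff, ← closure_lK, Subgroup.closure_le]
  rintro _ ⟨x, _, rfl⟩
  exact ⟨gE x, sigE_gE x⟩

theorem ev5_of_wd_gE_eq {w w' : List ℕ} (h : VCert.wd gE w = VCert.wd gE w') {p : ℕ} (hp : p < 9477) :
    ev5 w p = ev5 w' p := by
  have h1 : (VCert.wd gE w : ↥GE).1 = (VCert.wd gE w' : ↥GE).1 := congrArg Subtype.val h
  rw [wd_gE_val, wd_gE_val, wd_gX, wd_gX] at h1
  have h2 : VCert.wd pm5 w = VCert.wd pm5 w' := congrArg Prod.fst h1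
  have h3 := wd_pm5_val w ⟨p, hp⟩
  rw [h2, wd_pm5_val] at h3
  exact h3.symm

/-! ### the checks -/

/-- the shift of a point by the element of the kernel with the number `e`: the points are shifted in their blocks of
three by `e` -/
def sh (e p : ℕ) : ℕ :=
  strictN p fun q =>
    Nat.add (Nat.mul 3 (Nat.div q 3)) (Nat.mod (Nat.add (Nat.mod q 3) (Nat.mod e 3)) 3)

/-- the check that a word shifts the points from `lo` to `lo + k` -/
noncomputable def shOK (w : List ℕ) (e lo k : ℕ) : Bool :=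
  allN k fun i => Nat.beq (ev5 w (Nat.add lo i)) (sh e (Nat.add lo i))

/-- the check that a word fixes the points from `lo` to `lo + k` -/
noncomputable def fxOK (w : List ℕ) (lo k : ℕ) : Bool :=
  allN k fun i => Nat.beq (ev5 w (Nat.add lo i)) (Nat.add lo i)

/-- the check that a letter commutes with a shift on the points from `lo` to `lo + k` -/
noncomputable def cenOK (x e lo k : ℕ) : Bool :=
  allN k fun i => Nat.beq (lk5 x (sh e (Nat.add lo i))) (sh e (lk5 x (Nat.add lo i)))

theorem shOK_spec {w : List ℕ} {e : ℕ} (h : ∀ r, r < 9 → shOK w e (1053 * r) 1053 = true)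
    {p : ℕ} (hp : p < 9477) : ev5 w p = sh e p := by
  have h1 := h (p / 1053) (by omega)
  rw [shOK, allN_iff] at h1
  have := Nat.eq_of_beq_eq_true (h1 (p % 1053) (Nat.mod_lt _ (by norm_num)))
  have e1 : Nat.add (1053 * (p / 1053)) (p % 1053) = p := Nat.div_add_mod p 1053
  rwa [e1] at this

theorem fxOK_spec {w : List ℕ} (h : ∀ r, r < 9 → fxOK w (1053 * r) 1053 = true)
    {p : ℕ} (hp : p < 9477) : ev5 w p = p := by
  have h1 := h (p / 1053) (by omega)
  rw [fxOK, allN_iff] at h1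
  have := Nat.eq_of_beq_eq_true (h1 (p % 1053) (Nat.mod_lt _ (by norm_num)))
  have e1 : Nat.add (1053 * (p / 1053)) (p % 1053) = p := Nat.div_add_mod p 1053
  rwa [e1] at this

theorem cenOK_spec {x e : ℕ} (h0 : cenOK x e 0 9477 = true) {p : ℕ}
    (hp : p < 9477) : lk5 x (sh e p) = sh e (lk5 x p) := by
  rw [cenOK, allN_iff] at h0
  have := Nat.eq_of_beq_eq_true (h0 p hp)
  have e1 : Nat.add 0 p = p := Nat.zero_add p
  rwa [e1] at this

end Cfsg.Agent.Lib.Helper7.O73CM
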