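import Cfsg.Agent.Lib.Helper7.O73CMEB

/-!
# The multiplier of the orthogonal group of dimension seven over the field of three elements, the second chain: the subgroups generated by the first four and by the first six pairs

The checks of the words on the 9477 points are put together: the given words of the table of the group act as shifts,
which commute with the letters, so their values are central in the group generated by the pairs; the words that are
trivial in the two smaller tables are trivial.  So the subgroup generated by the first four pairs maps isomorphically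
onto the subgroup of the group generated by the first four letters, and then the subgroup generated by the first six
pairs maps isomorphically onto `L`.
-/

set_option autoImplicit false
set_option maxRecDepth 100000

namespace Cfsg.Agent.Lib.Helper7.O73CM

open Cfsg Cfsg.Agent.Lib.Helper7.MG Cfsg.Agent.Lib.Helper7.HSMult Cfsg.Agent.Lib.Helper7.O73CV3
open scoped IsMulCommutative

/-! ### the words on the 9477 points -/

theorem chk_ax3W : ∀ j, j < 7 → O73C3.cert.W (O73C3.axI j) = ax3W j := by decide +kernel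

theorem chk_ax2W : ∀ j, j < 6 → O73C2.cert.W (O73C2.axI j) = ax2W j := by decide +kernel

theorem chk_ax1W : ∀ j, j < 5 → O73C1.cert.W (O73C1.axI j) = ax1W j := by decide +kernel

theorem chk_p3W : ∀ j, j < 7 → p3W j = wpow 3 (ax3W j) := by decide

theorem chk_ex3W : cw_ex3 = wpow 7 O73C3.yW := by decide

theorem chk_ex2W : cw_ex2 = wpow 7 O73C2.yW := by decide

theorem chk_l1aW : cw_l1a = wpow 7 [2] := by decide

theorem chk_l1bW : cw_l1b = wpow 7 O73C1.yW := by decide

theorem chk_sNW : cw_sN = wpow 6 [6] := by decide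

theorem ev5_ex3 {p : ℕ} (hp : p < 9477) : ev5 (wpow 7 O73C3.yW) p = p := by
  rw [← chk_ex3W]
  exact fxOK_spec fxk_ex3 hp

theorem ev5_ex2 {p : ℕ} (hp : p < 9477) : ev5 (wpow 7 O73C2.yW) p = p := by
  rw [← chk_ex2W]
  exact fxOK_spec fxk_ex2 hp

theorem ev5_l1a {p : ℕ} (hp : p < 9477) : ev5 (wpow 7 [2]) p = p := by
  rw [← chk_l1aW]
  exact fxOK_spec fxk_l1a hp

theorem ev5_l1b {p : ℕ} (hp : p < 9477) : ev5 (wpow 7 O73C1.yW) p = p := by
  rw [← chk_l1bW]
  exact fxOK_spec fxk_l1b hp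

theorem ev5_sN {p : ℕ} (hp : p < 9477) : ev5 (wpow 6 [6]) p = p := by
  rw [← chk_sNW]
  exact fxOK_spec fxk_sN hp

/-! ### the central elements -/

theorem ax3W_ge {j : ℕ} (hj : 7 ≤ j) : ax3W j = [] := by
  obtain ⟨y, rfl⟩ : ∃ y, j = y + 7 := ⟨j - 7, by omega⟩
  rfl

theorem wd_lK_ax3 (j : ℕ) : VCert.wd lK (ax3W j) = 1 := by
  rcases Nat.lt_or_ge j 7 with hj | hj
  · rw [← chk_ax3W j hj]
    exact wd_lK_W (O73C3.axI_lt j)
  · rw [ax3W_ge hj]
    rfl

theorem ax3_comm {j x : ℕ} (hj : j < 7) (hx : x < 8) :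
    gE x * VCert.wd gE (ax3W j) = VCert.wd gE (ax3W j) * gE x := by
  have h := wd_gE_eq (w := x :: ax3W j) (w' := ax3W j ++ [x]) (fun p hp => by
      rw [ev5_cons, ev5_append, ev5_ax3 j hj p hp, ev5_cons, ev5_nil, ev5_ax3 j hj _ (hh5 x p hp).1]
      exact lk5_sh j hj x hx p hp) (by
      rw [VCert.wd_cons, VCert.wd_append, wd_lK_ax3 j, mul_one, one_mul, VCert.wd_cons, VCert.wd_nil, mul_one])
  rw [VCert.wd_cons, VCert.wd_append, VCert.wd_cons, VCert.wd_nil, mul_one] at h
  exact h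

theorem ax3_center (j : ℕ) : VCert.wd gE (ax3W j) ∈ Subgroup.center ↥GE := by
  rcases Nat.lt_or_ge j 7 with hj | hj
  · apply central_of_comm_gens (gE '' Set.Iio 8) closure_gE
    rintro _ ⟨x, hx, rfl⟩
    exact ax3_comm hj hx
  · rw [ax3W_ge hj]
    exact Subgroup.one_mem _

/-- the central elements of the table of the group: the values of the given words -/
noncomputable def zE (j : ℕ) : Subgroup.center ↥GE := ⟨VCert.wd gE (ax3W j), ax3_center j⟩

theorem zE_val (j : ℕ) : ((zE j : Subgroup.center ↥GE) : ↥GE) = VCert.wd gE (ax3W j) := rfl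

theorem wd_gE_ax3 : ∀ j, j < 7 →
    VCert.wd gE (O73C3.cert.W (O73C3.axI j)) = ((zE j : Subgroup.center ↥GE) : ↥GE) := by
  intro j hj
  rw [chk_ax3W j hj]
  rfl

theorem zE_mem_ker (j : ℕ) : ((zE j : Subgroup.center ↥GE) : ↥GE) ∈ sigE.ker := by
  rw [zE_val, MonoidHom.mem_ker, sigE_wd, wd_lK_ax3]

theorem wd_gE_ex3 : VCert.wd gE (wpow 7 O73C3.yW) = 1 := by
  refine wd_gE_eq (w' := []) (fun p hp => by rw [ev5_ex3 hp, ev5_nil]) ?_
  rw [← O73C3.chk_W3]
  exact wd_lK_W (by norm_num)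

/-- the powers of the central elements are trivial -/
theorem zE_pow (j : ℕ) : ((zE j : Subgroup.center ↥GE) : ↥GE) ^ 3 = 1 := by
  rcases Nat.lt_or_ge j 7 with hj | hj
  · rw [zE_val, ← wd_wpow, ← chk_p3W j hj]
    refine wd_gE_eq (w' := []) (fun p hp => by rw [ev5_p3 j hj p hp, ev5_nil]) ?_
    rw [chk_p3W j hj, wd_wpow, wd_lK_ax3, one_pow]
    rfl
  · rw [zE_val, ax3W_ge hj]
    exact one_pow _

/-! ### the subgroup generated by the first six pairs -/

/-- the subgroup generated by the first six pairs -/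
noncomputable def HE : Subgroup ↥GE := Subgroup.closure (gE '' Set.Iio 6)

theorem gE_mem_HE {x : ℕ} (hx : x < 6) : gE x ∈ HE := Subgroup.subset_closure ⟨x, hx, rfl⟩

theorem sigE_mem_L (h : ↥GE) (hh : h ∈ HE) : sigE h ∈ L := by
  induction hh using Subgroup.closure_induction with
  | mem y hy =>
    obtain ⟨x, hx, rfl⟩ := hy
    rw [sigE_gE]
    exact lK_mem_L hx
  | one => rw [map_one]; exact Subgroup.one_mem _
  | mul a b _ _ iha ihb => rw [map_mul]; exact Subgroup.mul_mem _ iha ihb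
  | inv a _ iha => rw [map_inv]; exact Subgroup.inv_mem _ iha

/-- the projection of the subgroup onto `L` -/
noncomputable def sigH : ↥HE →* ↥L :=
  (sigE.comp HE.subtype).codRestrict L fun h => sigE_mem_L h.1 h.2

theorem sigH_val (h : ↥HE) : ((sigH h : ↥L) : G) = sigE h.1 := rfl

/-- the first six letters in the subgroup -/
noncomputable def gH (x : ℕ) : ↥HE := if h : x < 6 then ⟨gE x, gE_mem_HE h⟩ else 1

theorem gH_val {x : ℕ} (hx : x < 6) : (gH x : ↥GE) = gE x := by
  rw [gH, dif_pos hx]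

theorem gH_of_ge {x : ℕ} (hx : 6 ≤ x) : gH x = 1 := by
  rw [gH, dif_neg (by omega)]

theorem sigH_gH (x : ℕ) : sigH (gH x) = lK1 x := by
  rcases Nat.lt_or_ge x 6 with hx | hx
  · apply Subtype.ext
    rw [sigH_val, gH_val hx, sigE_gE, lK1_val hx]
  · rw [gH_of_ge hx, lK1_of_ge hx, map_one]

theorem sigH_wd : ∀ w : List ℕ, sigH (VCert.wd gH w) = VCert.wd lK1 w
  | [] => map_one sigH
  | x :: w => by rw [VCert.wd_cons, VCert.wd_cons, map_mul, sigH_gH, sigH_wd w]

theorem wd_gH_val : ∀ w : List ℕ, (∀ x ∈ w, x < 6) → ((VCert.wd gH w : ↥HE) : ↥GE) = VCert.wd gE w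
  | [], _ => rfl
  | x :: w, h => by
    rw [VCert.wd_cons, VCert.wd_cons, Subgroup.coe_mul, gH_val (h x List.mem_cons_self),
      wd_gH_val w fun y hy => h y (List.mem_cons_of_mem _ hy)]

theorem xor_lt_six {x : ℕ} (hx : x < 6) : Nat.xor x 1 < 6 := by
  have : x = 0 ∨ x = 1 ∨ x = 2 ∨ x = 3 ∨ x = 4 ∨ x = 5 := by omega
  rcases this with rfl | rfl | rfl | rfl | rfl | rfl <;> decide

theorem xor_lt_four {x : ℕ} (hx : x < 4) : Nat.xor x 1 < 4 := by
  have : x = 0 ∨ x = 1 ∨ x = 2 ∨ x = 3 := by omega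
  rcases this with rfl | rfl | rfl | rfl <;> decide

theorem gH_iv {x : ℕ} (hx : x < 6) : gH (Nat.xor x 1) = (gH x)⁻¹ := by
  apply Subtype.ext
  rw [Subgroup.coe_inv, gH_val (xor_lt_six hx), gH_val hx, gE_iv x (by omega)]

theorem closure_gH : Subgroup.closure (gH '' Set.Iio 6) = ⊤ := by
  have h := Subgroup.closure_closure_coe_preimage (k := gE '' Set.Iio 6)
  have e : ((↑) ⁻¹' (gE '' Set.Iio 6) : Set ↥(Subgroup.closure (gE '' Set.Iio 6))) = gH '' Set.Iio 6 := by
    ext z
    constructor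
    · rintro ⟨x, hx, hz⟩
      exact ⟨x, hx, Subtype.ext (by rw [gH_val hx]; exact hz)⟩
    · rintro ⟨x, hx, rfl⟩
      exact ⟨x, hx, (gH_val hx).symm⟩
  rw [e] at h
  exact h

theorem sigH_surj : Function.Surjective sigH := by
  rw [← MonoidHom.range_eq_top, eq_top_iff, ← closure_lK1, Subgroup.closure_le]
  rintro _ ⟨x, _, rfl⟩
  exact ⟨gH x, sigH_gH x⟩

theorem hgen_H : ∀ y : ↥HE, ∃ u : List ℕ, (∀ x ∈ u, x < O73C2.cert.g) ∧ y = (u.map gH).prod := by
  apply MG.exists_word_of_closure gH 6 (fun x => Nat.xor x 1) _ closure_gH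
  intro x hx
  refine ⟨?_, gH_iv hx⟩
  have : x = 0 ∨ x = 1 ∨ x = 2 ∨ x = 3 ∨ x = 4 ∨ x = 5 := by omega
  rcases this with rfl | rfl | rfl | rfl | rfl | rfl <;> decide

/-! ### the subgroup generated by the first four pairs -/

/-- the subgroup generated by the first four pairs -/
noncomputable def HE1 : Subgroup ↥HE := Subgroup.closure (gH '' Set.Iio 4)

theorem gH_mem_HE1 {x : ℕ} (hx : x < 4) : gH x ∈ HE1 := Subgroup.subset_closure ⟨x, hx, rfl⟩

theorem sigH_mem_L1 (h : ↥HE) (hh : h ∈ HE1) : sigH h ∈ O73CV2.L := by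
  induction hh using Subgroup.closure_induction with
  | mem y hy =>
    obtain ⟨x, hx, rfl⟩ := hy
    rw [sigH_gH]
    exact O73CV2.lK_mem_L hx
  | one => rw [map_one]; exact Subgroup.one_mem _
  | mul a b _ _ iha ihb => rw [map_mul]; exact Subgroup.mul_mem _ iha ihb
  | inv a _ iha => rw [map_inv]; exact Subgroup.inv_mem _ iha

/-- the projection of the smaller subgroup -/
noncomputable def sigH1 : ↥HE1 →* ↥O73CV2.L :=
  (sigH.comp HE1.subtype).codRestrict O73CV2.L fun h => sigH_mem_L1 h.1 h.2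

theorem sigH1_val (h : ↥HE1) : ((sigH1 h : ↥O73CV2.L) : O73CV2.G) = sigH h.1 := rfl

/-- the first four letters in the smaller subgroup -/
noncomputable def gH1 (x : ℕ) : ↥HE1 := if h : x < 4 then ⟨gH x, gH_mem_HE1 h⟩ else 1

theorem gH1_val {x : ℕ} (hx : x < 4) : (gH1 x : ↥HE) = gH x := by
  rw [gH1, dif_pos hx]

theorem gH1_of_ge {x : ℕ} (hx : 4 ≤ x) : gH1 x = 1 := by
  rw [gH1, dif_neg (by omega)]

theorem sigH1_gH1 (x : ℕ) : sigH1 (gH1 x) = O73CV2.lK1 x := by
  rcases Nat.lt_or_ge x 4 with hx | hx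
  · apply Subtype.ext
    rw [sigH1_val, gH1_val hx, sigH_gH, O73CV2.lK1_val hx]
    rfl
  · rw [gH1_of_ge hx, O73CV2.lK1_of_ge hx, map_one]

theorem sigH1_wd : ∀ w : List ℕ, sigH1 (VCert.wd gH1 w) = VCert.wd O73CV2.lK1 w
  | [] => map_one sigH1
  | x :: w => by rw [VCert.wd_cons, VCert.wd_cons, map_mul, sigH1_gH1, sigH1_wd w]

theorem wd_gH1_val : ∀ w : List ℕ, (∀ x ∈ w, x < 4) → ((VCert.wd gH1 w : ↥HE1) : ↥HE) = VCert.wd gH w
  | [], _ => rfl
  | x :: w, h => by
    rw [VCert.wd_cons, VCert.wd_cons, Subgroup.coe_mul, gH1_val (h x List.mem_cons_self),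
      wd_gH1_val w fun y hy => h y (List.mem_cons_of_mem _ hy)]

theorem gH1_iv {x : ℕ} (hx : x < 4) : gH1 (Nat.xor x 1) = (gH1 x)⁻¹ := by
  apply Subtype.ext
  rw [Subgroup.coe_inv, gH1_val (xor_lt_four hx), gH1_val hx, gH_iv (by omega)]

theorem closure_gH1 : Subgroup.closure (gH1 '' Set.Iio 4) = ⊤ := by
  have h := Subgroup.closure_closure_coe_preimage (k := gH '' Set.Iio 4)
  have e : ((↑) ⁻¹' (gH '' Set.Iio 4) : Set ↥(Subgroup.closure (gH '' Set.Iio 4))) = gH1 '' Set.Iio 4 := by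
    ext z
    constructor
    · rintro ⟨x, hx, hz⟩
      exact ⟨x, hx, Subtype.ext (by rw [gH1_val hx]; exact hz)⟩
    · rintro ⟨x, hx, rfl⟩
      exact ⟨x, hx, (gH1_val hx).symm⟩
  rw [e] at h
  exact h

theorem sigH1_surj : Function.Surjective sigH1 := by
  rw [← MonoidHom.range_eq_top, eq_top_iff, ← O73CV2.closure_lK1, Subgroup.closure_le]
  rintro _ ⟨x, _, rfl⟩
  exact ⟨gH1 x, sigH1_gH1 x⟩

theorem hgen_H1 : ∀ y : ↥HE1, ∃ u : List ℕ, (∀ x ∈ u, x < O73C1.cert.g) ∧ y = (u.map gH1).prod := by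
  apply MG.exists_word_of_closure gH1 4 (fun x => Nat.xor x 1) _ closure_gH1
  intro x hx
  refine ⟨?_, gH1_iv hx⟩
  have : x = 0 ∨ x = 1 ∨ x = 2 ∨ x = 3 := by omega
  rcases this with rfl | rfl | rfl | rfl <;> decide

/-- a word in the first six letters that is trivial in the group and on the 9477 points is trivial -/
theorem wd_gH_eq_one {w : List ℕ} (hw : ∀ x ∈ w, x < 6) (h5 : ∀ p, p < 9477 → ev5 w p = p)
    (hK : VCert.wd lK1 w = 1) : VCert.wd gH w = 1 := by
  apply Subtype.ext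
  rw [wd_gH_val w hw]
  refine wd_gE_eq (w' := []) (fun p hp => by rw [h5 p hp, ev5_nil]) ?_
  have := congrArg Subtype.val hK
  rw [wd_lK1_val w hw] at this
  rw [this]
  rfl

/-- a word in the first four letters that is trivial in the group and on the 9477 points is trivial -/
theorem wd_gH1_eq_one {w : List ℕ} (hw : ∀ x ∈ w, x < 4) (h5 : ∀ p, p < 9477 → ev5 w p = p)
    (hK : VCert.wd O73CV2.lK1 w = 1) : VCert.wd gH1 w = 1 := by
  apply Subtype.ext
  rw [wd_gH1_val w hw]
  refine wd_gH_eq_one (fun x hx => by have := hw x hx; omega) h5 ?_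
  have := congrArg Subtype.val hK
  rw [O73CV2.wd_lK1_val w hw] at this
  exact this

theorem chk_lt1 : ∀ i, i < 65 → ∀ x ∈ O73C1.cert.W i, x < 4 := by decide +kernel

theorem gH1_two_pow : gH1 2 ^ 7 = 1 := by
  have h := wd_gH1_eq_one (w := wpow 7 [2]) (by decide) (fun p hp => ev5_l1a hp) (by
      rw [← O73C1.chk_W2]; exact O73CV2.wd_lK1_W (by norm_num))
  rw [wd_wpow, VCert.wd_cons, VCert.wd_nil, mul_one] at h
  exact h

theorem hW0_H1 : ∀ i, i < O73C1.cert.nW → O73C1.cert.wT i = 0 →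
    VCert.wd gH1 (O73C1.cert.W i) = (O73C1.cert.ek (fun _ => (1 : Subgroup.center ↥HE1)) i : ↥HE1) := by
  intro i hi hT
  rw [VCert.ek, O73C1.cert.kap_triv _ (fun _ _ => rfl)]
  show _ = (1 : ↥HE1)
  rcases O73C1.chk_wT i hi hT with rfl | rfl | ⟨j, hj, rfl⟩
  · rw [O73C1.chk_W2]
    exact wd_gH1_eq_one (by decide) (fun p hp => ev5_l1a hp) (by
      rw [← O73C1.chk_W2]; exact O73CV2.wd_lK1_W (by norm_num))
  · rw [O73C1.chk_W3]
    exact wd_gH1_eq_one (by decide) (fun p hp => ev5_l1b hp) (by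
      rw [← O73C1.chk_W3]; exact O73CV2.wd_lK1_W (by norm_num))
  · refine wd_gH1_eq_one (chk_lt1 _ (O73C1.axI_lt j)) (fun p hp => ?_) (O73CV2.wd_lK1_W (O73C1.axI_lt j))
    rw [chk_ax1W j hj]
    exact ev5_ax1 j hj p hp

instance instFiniteGE : Finite ↥GE := inferInstance

instance instFiniteHE : Finite ↥HE := inferInstance

instance instFiniteHE1 : Finite ↥HE1 := inferInstance

/-- **the subgroup generated by the first four pairs maps injectively to the group** -/
theorem sigH1_ker : sigH1.ker = ⊥ := by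
  have h := ker_eq_Zc sigH1 O73C1.cert gH1 (fun _ => 1) 2 7 sigH1_surj (by rw [O73CV2.card_L]; rfl) (by decide)
    (by norm_num)
    (fun i hi => by rw [sigH1_gH1] at hi; exact O73CV2.dvd_of_lK1_two_pow hi) gH1_two_pow
    (by
      intro x hx
      rcases eq_two_or_three hx with rfl | rfl
      · exact Subgroup.mem_zpowers _
      · have : gH1 3 = (gH1 2)⁻¹ := gH1_iv (x := 2) (by norm_num)
        rw [this]
        exact Subgroup.inv_mem _ (Subgroup.mem_zpowers _))
    (fun j _ => Subgroup.one_mem _) hgen_H1 (by decide) (by decide)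
    (fun x hx => gH1_iv hx)
    (fun i hi => by rw [MonoidHom.mem_ker, sigH1_wd]; exact O73CV2.wd_lK1_W hi)
    hW0_H1 O73C1.cert_all O73C1.cert_wall
  rw [h]
  exact Zc_eq_bot_of_triv _ _ (fun _ _ => rfl)

theorem sigH1_injective : Function.Injective sigH1 := (MonoidHom.ker_eq_bot_iff sigH1).1 sigH1_ker

/-- an element of the smaller subgroup that lies in the kernel of the projection is trivial -/
theorem hHK_H : ∀ u, u ∈ HE1 → u ∈ sigH.ker → u = 1 := by
  intro u hu hk
  have h1 : sigH1 ⟨u, hu⟩ = 1 := by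
    apply Subtype.ext
    rw [sigH1_val]
    exact MonoidHom.mem_ker.1 hk
  have h2 : (⟨u, hu⟩ : ↥HE1) = 1 := sigH1_injective (by rw [h1, map_one])
  exact congrArg Subtype.val h2

theorem card_HE1_le : Nat.card ↥HE1 ≤ 6048 := by
  rw [← O73CV2.card_L]
  exact Nat.card_le_card_of_injective sigH1 sigH1_injective

/-! ### the subgroup generated by the first six pairs maps injectively -/

theorem wd_gH_mem_HE1 : ∀ w : List ℕ, (∀ x ∈ w, x < 4) → VCert.wd gH w ∈ HE1
  | [], _ => Subgroup.one_mem _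
  | x :: w, h => by
    rw [VCert.wd_cons]
    exact Subgroup.mul_mem _ (gH_mem_HE1 (h x List.mem_cons_self))
      (wd_gH_mem_HE1 w fun y hy => h y (List.mem_cons_of_mem _ hy))

theorem wd_lK1_W2 {i : ℕ} (hi : i < 132) : VCert.wd lK1 (O73C2.cert.W i) = 1 := O73CV2.wd_lK_W hi

theorem wd_gH_mem_ker {i : ℕ} (hi : i < 132) : VCert.wd gH (O73C2.cert.W i) ∈ sigH.ker := by
  rw [MonoidHom.mem_ker, sigH_wd]
  exact wd_lK1_W2 hi

theorem chk_lt2 : ∀ i, i < 132 → ∀ x ∈ O73C2.cert.W i, x < 6 := by decide +kernel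

theorem hW0_H : ∀ i, i < O73C2.cert.nW → O73C2.cert.wT i = 0 →
    VCert.wd gH (O73C2.cert.W i) = (O73C2.cert.ek (fun _ => (1 : Subgroup.center ↥HE)) i : ↥HE) := by
  intro i hi hT
  rw [VCert.ek, O73C2.cert.kap_triv _ (fun _ _ => rfl)]
  show _ = (1 : ↥HE)
  rcases O73C2.chk_wT i hi hT with ⟨h4, _⟩ | rfl | ⟨j, hj, rfl⟩
  · exact hHK_H _ (wd_gH_mem_HE1 _ fun x hx => by simpa [Nat.blt] using List.all_eq_true.1 h4 x hx)
      (wd_gH_mem_ker hi)
  · rw [O73C2.chk_W3]
    exact wd_gH_eq_one (by decide) (fun p hp => ev5_ex2 hp) (by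
      rw [← O73C2.chk_W3]; exact wd_lK1_W2 (by norm_num))
  · refine wd_gH_eq_one (chk_lt2 _ (O73C2.axI_lt j)) (fun p hp => ?_) (wd_lK1_W2 (O73C2.axI_lt j))
    rw [chk_ax2W j hj]
    exact ev5_ax2 j hj p hp

theorem card_L2 : Nat.card ↥L = 1451520 := O73CV2.card_G

/-- **the subgroup generated by the first six pairs maps injectively to `L`** -/
theorem sigH_ker : sigH.ker = ⊥ := by
  have h := ker_eq_Zc_of_sub sigH O73C2.cert gH (fun _ => 1) HE1 6048 sigH_surj (by rw [card_L2]; rfl) (by decide)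
    (by norm_num) hHK_H card_HE1_le (fun x hx => gH_mem_HE1 (O73CV2.lt_four_of_sub hx))
    (fun j _ => Subgroup.one_mem _) hgen_H (by decide) (by decide)
    (fun x hx => gH_iv hx) (fun i hi => wd_gH_mem_ker hi) hW0_H O73C2.cert_all O73C2.cert_wall
  rw [h]
  exact Zc_eq_bot_of_triv _ _ (fun _ _ => rfl)

theorem sigH_injective : Function.Injective sigH := (MonoidHom.ker_eq_bot_iff sigH).1 sigH_ker

/-- an element of the subgroup that lies in the kernel of the projection is trivial -/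
theorem hHK_E : ∀ u, u ∈ HE → u ∈ sigE.ker → u = 1 := by
  intro u hu hk
  have h1 : sigH ⟨u, hu⟩ = 1 := by
    apply Subtype.ext
    rw [sigH_val]
    exact MonoidHom.mem_ker.1 hk
  have h2 : (⟨u, hu⟩ : ↥HE) = 1 := sigH_injective (by rw [h1, map_one])
  exact congrArg Subtype.val h2

theorem card_HE_le : Nat.card ↥HE ≤ 1451520 := by
  rw [← card_L2]
  exact Nat.card_le_card_of_injective sigH sigH_injective

end Cfsg.Agent.Lib.Helper7.O73CM
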