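import Cfsg.Agent.Lib.Helper7.O73CME
import Cfsg.Agent.Lib.Helper7.O73CMEW

/-! # The multiplier of the orthogonal group of dimension seven over the field of three elements, the second chain: checks of words on the 9477
points, file 1 (generated) -/

set_option autoImplicit false
set_option maxRecDepth 100000

namespace Cfsg.Agent.Lib.Helper7.O73CM

theorem fxk_ex3_0 : fxOK cw_ex3 (1053 * 0) 1053 = true := by decide +kernel

theorem fxk_ex3_1 : fxOK cw_ex3 (1053 * 1) 1053 = true := by decide +kernel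

theorem fxk_ex3_2 : fxOK cw_ex3 (1053 * 2) 1053 = true := by decide +kernel

theorem fxk_ex3_3 : fxOK cw_ex3 (1053 * 3) 1053 = true := by decide +kernel

theorem fxk_ex3_4 : fxOK cw_ex3 (1053 * 4) 1053 = true := by decide +kernel

theorem fxk_ex3_5 : fxOK cw_ex3 (1053 * 5) 1053 = true := by decide +kernel

theorem fxk_ex3_6 : fxOK cw_ex3 (1053 * 6) 1053 = true := by decide +kernel

theorem fxk_ex3_7 : fxOK cw_ex3 (1053 * 7) 1053 = true := by decide +kernel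

theorem fxk_ex3_8 : fxOK cw_ex3 (1053 * 8) 1053 = true := by decide +kernel

theorem fxk_ex3 : ∀ r, r < 9 → fxOK cw_ex3 (1053 * r) 1053 = true
  | 0, _ => fxk_ex3_0
  | 1, _ => fxk_ex3_1
  | 2, _ => fxk_ex3_2
  | 3, _ => fxk_ex3_3
  | 4, _ => fxk_ex3_4
  | 5, _ => fxk_ex3_5
  | 6, _ => fxk_ex3_6
  | 7, _ => fxk_ex3_7
  | 8, _ => fxk_ex3_8
  | r + 9, h => absurd h (by omega)

theorem fxk_sN_0 : fxOK cw_sN (1053 * 0) 1053 = true := by decide +kernel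

theorem fxk_sN_1 : fxOK cw_sN (1053 * 1) 1053 = true := by decide +kernel

theorem fxk_sN_2 : fxOK cw_sN (1053 * 2) 1053 = true := by decide +kernel

theorem fxk_sN_3 : fxOK cw_sN (1053 * 3) 1053 = true := by decide +kernel

theorem fxk_sN_4 : fxOK cw_sN (1053 * 4) 1053 = true := by decide +kernel

theorem fxk_sN_5 : fxOK cw_sN (1053 * 5) 1053 = true := by decide +kernel

theorem fxk_sN_6 : fxOK cw_sN (1053 * 6) 1053 = true := by decide +kernel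

theorem fxk_sN_7 : fxOK cw_sN (1053 * 7) 1053 = true := by decide +kernel

theorem fxk_sN_8 : fxOK cw_sN (1053 * 8) 1053 = true := by decide +kernel

theorem fxk_sN : ∀ r, r < 9 → fxOK cw_sN (1053 * r) 1053 = true
  | 0, _ => fxk_sN_0
  | 1, _ => fxk_sN_1
  | 2, _ => fxk_sN_2
  | 3, _ => fxk_sN_3
  | 4, _ => fxk_sN_4
  | 5, _ => fxk_sN_5
  | 6, _ => fxk_sN_6
  | 7, _ => fxk_sN_7
  | 8, _ => fxk_sN_8
  | r + 9, h => absurd h (by omega)

theorem fxk_ax2_0_0 : fxOK cw_ax2_0 (1053 * 0) 1053 = true := by decide +kernel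

theorem fxk_ax2_0_1 : fxOK cw_ax2_0 (1053 * 1) 1053 = true := by decide +kernel

theorem fxk_ax2_0_2 : fxOK cw_ax2_0 (1053 * 2) 1053 = true := by decide +kernel

theorem fxk_ax2_0_3 : fxOK cw_ax2_0 (1053 * 3) 1053 = true := by decide +kernel

theorem fxk_ax2_0_4 : fxOK cw_ax2_0 (1053 * 4) 1053 = true := by decide +kernel

theorem fxk_ax2_0_5 : fxOK cw_ax2_0 (1053 * 5) 1053 = true := by decide +kernel

theorem fxk_ax2_0_6 : fxOK cw_ax2_0 (1053 * 6) 1053 = true := by decide +kernel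

theorem fxk_ax2_0_7 : fxOK cw_ax2_0 (1053 * 7) 1053 = true := by decide +kernel

theorem fxk_ax2_0_8 : fxOK cw_ax2_0 (1053 * 8) 1053 = true := by decide +kernel

theorem fxk_ax2_0 : ∀ r, r < 9 → fxOK cw_ax2_0 (1053 * r) 1053 = true
  | 0, _ => fxk_ax2_0_0
  | 1, _ => fxk_ax2_0_1
  | 2, _ => fxk_ax2_0_2
  | 3, _ => fxk_ax2_0_3
  | 4, _ => fxk_ax2_0_4
  | 5, _ => fxk_ax2_0_5
  | 6, _ => fxk_ax2_0_6
  | 7, _ => fxk_ax2_0_7
  | 8, _ => fxk_ax2_0_8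
  | r + 9, h => absurd h (by omega)

theorem fxk_ax2_1_0 : fxOK cw_ax2_1 (1053 * 0) 1053 = true := by decide +kernel

theorem fxk_ax2_1_1 : fxOK cw_ax2_1 (1053 * 1) 1053 = true := by decide +kernel

theorem fxk_ax2_1_2 : fxOK cw_ax2_1 (1053 * 2) 1053 = true := by decide +kernel

theorem fxk_ax2_1_3 : fxOK cw_ax2_1 (1053 * 3) 1053 = true := by decide +kernel

theorem fxk_ax2_1_4 : fxOK cw_ax2_1 (1053 * 4) 1053 = true := by decide +kernel

theorem fxk_ax2_1_5 : fxOK cw_ax2_1 (1053 * 5) 1053 = true := by decide +kernel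

theorem fxk_ax2_1_6 : fxOK cw_ax2_1 (1053 * 6) 1053 = true := by decide +kernel

theorem fxk_ax2_1_7 : fxOK cw_ax2_1 (1053 * 7) 1053 = true := by decide +kernel

theorem fxk_ax2_1_8 : fxOK cw_ax2_1 (1053 * 8) 1053 = true := by decide +kernel

theorem fxk_ax2_1 : ∀ r, r < 9 → fxOK cw_ax2_1 (1053 * r) 1053 = true
  | 0, _ => fxk_ax2_1_0
  | 1, _ => fxk_ax2_1_1
  | 2, _ => fxk_ax2_1_2
  | 3, _ => fxk_ax2_1_3
  | 4, _ => fxk_ax2_1_4
  | 5, _ => fxk_ax2_1_5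
  | 6, _ => fxk_ax2_1_6
  | 7, _ => fxk_ax2_1_7
  | 8, _ => fxk_ax2_1_8
  | r + 9, h => absurd h (by omega)

theorem fxk_ax2_2_0 : fxOK cw_ax2_2 (1053 * 0) 1053 = true := by decide +kernel

theorem fxk_ax2_2_1 : fxOK cw_ax2_2 (1053 * 1) 1053 = true := by decide +kernel

theorem fxk_ax2_2_2 : fxOK cw_ax2_2 (1053 * 2) 1053 = true := by decide +kernel

theorem fxk_ax2_2_3 : fxOK cw_ax2_2 (1053 * 3) 1053 = true := by decide +kernel

theorem fxk_ax2_2_4 : fxOK cw_ax2_2 (1053 * 4) 1053 = true := by decide +kernel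

theorem fxk_ax2_2_5 : fxOK cw_ax2_2 (1053 * 5) 1053 = true := by decide +kernel

theorem fxk_ax2_2_6 : fxOK cw_ax2_2 (1053 * 6) 1053 = true := by decide +kernel

theorem fxk_ax2_2_7 : fxOK cw_ax2_2 (1053 * 7) 1053 = true := by decide +kernel

theorem fxk_ax2_2_8 : fxOK cw_ax2_2 (1053 * 8) 1053 = true := by decide +kernel

theorem fxk_ax2_2 : ∀ r, r < 9 → fxOK cw_ax2_2 (1053 * r) 1053 = true
  | 0, _ => fxk_ax2_2_0
  | 1, _ => fxk_ax2_2_1
  | 2, _ => fxk_ax2_2_2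
  | 3, _ => fxk_ax2_2_3
  | 4, _ => fxk_ax2_2_4
  | 5, _ => fxk_ax2_2_5
  | 6, _ => fxk_ax2_2_6
  | 7, _ => fxk_ax2_2_7
  | 8, _ => fxk_ax2_2_8
  | r + 9, h => absurd h (by omega)

theorem fxk_ax2_3_0 : fxOK cw_ax2_3 (1053 * 0) 1053 = true := by decide +kernel

theorem fxk_ax2_3_1 : fxOK cw_ax2_3 (1053 * 1) 1053 = true := by decide +kernel

theorem fxk_ax2_3_2 : fxOK cw_ax2_3 (1053 * 2) 1053 = true := by decide +kernel

theorem fxk_ax2_3_3 : fxOK cw_ax2_3 (1053 * 3) 1053 = true := by decide +kernel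

theorem fxk_ax2_3_4 : fxOK cw_ax2_3 (1053 * 4) 1053 = true := by decide +kernel

theorem fxk_ax2_3_5 : fxOK cw_ax2_3 (1053 * 5) 1053 = true := by decide +kernel

theorem fxk_ax2_3_6 : fxOK cw_ax2_3 (1053 * 6) 1053 = true := by decide +kernel

theorem fxk_ax2_3_7 : fxOK cw_ax2_3 (1053 * 7) 1053 = true := by decide +kernel

theorem fxk_ax2_3_8 : fxOK cw_ax2_3 (1053 * 8) 1053 = true := by decide +kernel

theorem fxk_ax2_3 : ∀ r, r < 9 → fxOK cw_ax2_3 (1053 * r) 1053 = true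
  | 0, _ => fxk_ax2_3_0
  | 1, _ => fxk_ax2_3_1
  | 2, _ => fxk_ax2_3_2
  | 3, _ => fxk_ax2_3_3
  | 4, _ => fxk_ax2_3_4
  | 5, _ => fxk_ax2_3_5
  | 6, _ => fxk_ax2_3_6
  | 7, _ => fxk_ax2_3_7
  | 8, _ => fxk_ax2_3_8
  | r + 9, h => absurd h (by omega)

theorem fxk_ax2_4_0 : fxOK cw_ax2_4 (1053 * 0) 1053 = true := by decide +kernel

theorem fxk_ax2_4_1 : fxOK cw_ax2_4 (1053 * 1) 1053 = true := by decide +kernel

theorem fxk_ax2_4_2 : fxOK cw_ax2_4 (1053 * 2) 1053 = true := by decide +kernel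

theorem fxk_ax2_4_3 : fxOK cw_ax2_4 (1053 * 3) 1053 = true := by decide +kernel

theorem fxk_ax2_4_4 : fxOK cw_ax2_4 (1053 * 4) 1053 = true := by decide +kernel

theorem fxk_ax2_4_5 : fxOK cw_ax2_4 (1053 * 5) 1053 = true := by decide +kernel

theorem fxk_ax2_4_6 : fxOK cw_ax2_4 (1053 * 6) 1053 = true := by decide +kernel

theorem fxk_ax2_4_7 : fxOK cw_ax2_4 (1053 * 7) 1053 = true := by decide +kernel

theorem fxk_ax2_4_8 : fxOK cw_ax2_4 (1053 * 8) 1053 = true := by decide +kernel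

theorem fxk_ax2_4 : ∀ r, r < 9 → fxOK cw_ax2_4 (1053 * r) 1053 = true
  | 0, _ => fxk_ax2_4_0
  | 1, _ => fxk_ax2_4_1
  | 2, _ => fxk_ax2_4_2
  | 3, _ => fxk_ax2_4_3
  | 4, _ => fxk_ax2_4_4
  | 5, _ => fxk_ax2_4_5
  | 6, _ => fxk_ax2_4_6
  | 7, _ => fxk_ax2_4_7
  | 8, _ => fxk_ax2_4_8
  | r + 9, h => absurd h (by omega)

theorem fxk_ax2_5_0 : fxOK cw_ax2_5 (1053 * 0) 1053 = true := by decide +kernel

theorem fxk_ax2_5_1 : fxOK cw_ax2_5 (1053 * 1) 1053 = true := by decide +kernel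

theorem fxk_ax2_5_2 : fxOK cw_ax2_5 (1053 * 2) 1053 = true := by decide +kernel

theorem fxk_ax2_5_3 : fxOK cw_ax2_5 (1053 * 3) 1053 = true := by decide +kernel

theorem fxk_ax2_5_4 : fxOK cw_ax2_5 (1053 * 4) 1053 = true := by decide +kernel

theorem fxk_ax2_5_5 : fxOK cw_ax2_5 (1053 * 5) 1053 = true := by decide +kernel

theorem fxk_ax2_5_6 : fxOK cw_ax2_5 (1053 * 6) 1053 = true := by decide +kernel

theorem fxk_ax2_5_7 : fxOK cw_ax2_5 (1053 * 7) 1053 = true := by decide +kernel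

theorem fxk_ax2_5_8 : fxOK cw_ax2_5 (1053 * 8) 1053 = true := by decide +kernel

theorem fxk_ax2_5 : ∀ r, r < 9 → fxOK cw_ax2_5 (1053 * r) 1053 = true
  | 0, _ => fxk_ax2_5_0
  | 1, _ => fxk_ax2_5_1
  | 2, _ => fxk_ax2_5_2
  | 3, _ => fxk_ax2_5_3
  | 4, _ => fxk_ax2_5_4
  | 5, _ => fxk_ax2_5_5
  | 6, _ => fxk_ax2_5_6
  | 7, _ => fxk_ax2_5_7
  | 8, _ => fxk_ax2_5_8
  | r + 9, h => absurd h (by omega)

theorem fxk_ex2_0 : fxOK cw_ex2 (1053 * 0) 1053 = true := by decide +kernel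

theorem fxk_ex2_1 : fxOK cw_ex2 (1053 * 1) 1053 = true := by decide +kernel

theorem fxk_ex2_2 : fxOK cw_ex2 (1053 * 2) 1053 = true := by decide +kernel

theorem fxk_ex2_3 : fxOK cw_ex2 (1053 * 3) 1053 = true := by decide +kernel

theorem fxk_ex2_4 : fxOK cw_ex2 (1053 * 4) 1053 = true := by decide +kernel

theorem fxk_ex2_5 : fxOK cw_ex2 (1053 * 5) 1053 = true := by decide +kernel

theorem fxk_ex2_6 : fxOK cw_ex2 (1053 * 6) 1053 = true := by decide +kernel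

theorem fxk_ex2_7 : fxOK cw_ex2 (1053 * 7) 1053 = true := by decide +kernel

theorem fxk_ex2_8 : fxOK cw_ex2 (1053 * 8) 1053 = true := by decide +kernel

theorem fxk_ex2 : ∀ r, r < 9 → fxOK cw_ex2 (1053 * r) 1053 = true
  | 0, _ => fxk_ex2_0
  | 1, _ => fxk_ex2_1
  | 2, _ => fxk_ex2_2
  | 3, _ => fxk_ex2_3
  | 4, _ => fxk_ex2_4
  | 5, _ => fxk_ex2_5
  | 6, _ => fxk_ex2_6
  | 7, _ => fxk_ex2_7
  | 8, _ => fxk_ex2_8
  | r + 9, h => absurd h (by omega)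

theorem fxk_l1a_0 : fxOK cw_l1a (1053 * 0) 1053 = true := by decide +kernel

theorem fxk_l1a_1 : fxOK cw_l1a (1053 * 1) 1053 = true := by decide +kernel

theorem fxk_l1a_2 : fxOK cw_l1a (1053 * 2) 1053 = true := by decide +kernel

theorem fxk_l1a_3 : fxOK cw_l1a (1053 * 3) 1053 = true := by decide +kernel

theorem fxk_l1a_4 : fxOK cw_l1a (1053 * 4) 1053 = true := by decide +kernel

theorem fxk_l1a_5 : fxOK cw_l1a (1053 * 5) 1053 = true := by decide +kernel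

theorem fxk_l1a_6 : fxOK cw_l1a (1053 * 6) 1053 = true := by decide +kernel

theorem fxk_l1a_7 : fxOK cw_l1a (1053 * 7) 1053 = true := by decide +kernel

theorem fxk_l1a_8 : fxOK cw_l1a (1053 * 8) 1053 = true := by decide +kernel

theorem fxk_l1a : ∀ r, r < 9 → fxOK cw_l1a (1053 * r) 1053 = true
  | 0, _ => fxk_l1a_0
  | 1, _ => fxk_l1a_1
  | 2, _ => fxk_l1a_2
  | 3, _ => fxk_l1a_3
  | 4, _ => fxk_l1a_4
  | 5, _ => fxk_l1a_5
  | 6, _ => fxk_l1a_6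
  | 7, _ => fxk_l1a_7
  | 8, _ => fxk_l1a_8
  | r + 9, h => absurd h (by omega)

theorem fxk_l1b_0 : fxOK cw_l1b (1053 * 0) 1053 = true := by decide +kernel

theorem fxk_l1b_1 : fxOK cw_l1b (1053 * 1) 1053 = true := by decide +kernel

theorem fxk_l1b_2 : fxOK cw_l1b (1053 * 2) 1053 = true := by decide +kernel

theorem fxk_l1b_3 : fxOK cw_l1b (1053 * 3) 1053 = true := by decide +kernel

theorem fxk_l1b_4 : fxOK cw_l1b (1053 * 4) 1053 = true := by decide +kernel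

theorem fxk_l1b_5 : fxOK cw_l1b (1053 * 5) 1053 = true := by decide +kernel

theorem fxk_l1b_6 : fxOK cw_l1b (1053 * 6) 1053 = true := by decide +kernel

theorem fxk_l1b_7 : fxOK cw_l1b (1053 * 7) 1053 = true := by decide +kernel

theorem fxk_l1b_8 : fxOK cw_l1b (1053 * 8) 1053 = true := by decide +kernel

theorem fxk_l1b : ∀ r, r < 9 → fxOK cw_l1b (1053 * r) 1053 = true
  | 0, _ => fxk_l1b_0
  | 1, _ => fxk_l1b_1
  | 2, _ => fxk_l1b_2
  | 3, _ => fxk_l1b_3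
  | 4, _ => fxk_l1b_4
  | 5, _ => fxk_l1b_5
  | 6, _ => fxk_l1b_6
  | 7, _ => fxk_l1b_7
  | 8, _ => fxk_l1b_8
  | r + 9, h => absurd h (by omega)

theorem fxk_ax1_0_0 : fxOK cw_ax1_0 (1053 * 0) 1053 = true := by decide +kernel

theorem fxk_ax1_0_1 : fxOK cw_ax1_0 (1053 * 1) 1053 = true := by decide +kernel

theorem fxk_ax1_0_2 : fxOK cw_ax1_0 (1053 * 2) 1053 = true := by decide +kernel

theorem fxk_ax1_0_3 : fxOK cw_ax1_0 (1053 * 3) 1053 = true := by decide +kernel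

theorem fxk_ax1_0_4 : fxOK cw_ax1_0 (1053 * 4) 1053 = true := by decide +kernel

theorem fxk_ax1_0_5 : fxOK cw_ax1_0 (1053 * 5) 1053 = true := by decide +kernel

theorem fxk_ax1_0_6 : fxOK cw_ax1_0 (1053 * 6) 1053 = true := by decide +kernel

theorem fxk_ax1_0_7 : fxOK cw_ax1_0 (1053 * 7) 1053 = true := by decide +kernel

theorem fxk_ax1_0_8 : fxOK cw_ax1_0 (1053 * 8) 1053 = true := by decide +kernel

theorem fxk_ax1_0 : ∀ r, r < 9 → fxOK cw_ax1_0 (1053 * r) 1053 = true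
  | 0, _ => fxk_ax1_0_0
  | 1, _ => fxk_ax1_0_1
  | 2, _ => fxk_ax1_0_2
  | 3, _ => fxk_ax1_0_3
  | 4, _ => fxk_ax1_0_4
  | 5, _ => fxk_ax1_0_5
  | 6, _ => fxk_ax1_0_6
  | 7, _ => fxk_ax1_0_7
  | 8, _ => fxk_ax1_0_8
  | r + 9, h => absurd h (by omega)

theorem fxk_ax1_1_0 : fxOK cw_ax1_1 (1053 * 0) 1053 = true := by decide +kernel

theorem fxk_ax1_1_1 : fxOK cw_ax1_1 (1053 * 1) 1053 = true := by decide +kernel

theorem fxk_ax1_1_2 : fxOK cw_ax1_1 (1053 * 2) 1053 = true := by decide +kernel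

theorem fxk_ax1_1_3 : fxOK cw_ax1_1 (1053 * 3) 1053 = true := by decide +kernel

theorem fxk_ax1_1_4 : fxOK cw_ax1_1 (1053 * 4) 1053 = true := by decide +kernel

theorem fxk_ax1_1_5 : fxOK cw_ax1_1 (1053 * 5) 1053 = true := by decide +kernel

theorem fxk_ax1_1_6 : fxOK cw_ax1_1 (1053 * 6) 1053 = true := by decide +kernel

theorem fxk_ax1_1_7 : fxOK cw_ax1_1 (1053 * 7) 1053 = true := by decide +kernel

theorem fxk_ax1_1_8 : fxOK cw_ax1_1 (1053 * 8) 1053 = true := by decide +kernel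

theorem fxk_ax1_1 : ∀ r, r < 9 → fxOK cw_ax1_1 (1053 * r) 1053 = true
  | 0, _ => fxk_ax1_1_0
  | 1, _ => fxk_ax1_1_1
  | 2, _ => fxk_ax1_1_2
  | 3, _ => fxk_ax1_1_3
  | 4, _ => fxk_ax1_1_4
  | 5, _ => fxk_ax1_1_5
  | 6, _ => fxk_ax1_1_6
  | 7, _ => fxk_ax1_1_7
  | 8, _ => fxk_ax1_1_8
  | r + 9, h => absurd h (by omega)

theorem fxk_ax1_2_0 : fxOK cw_ax1_2 (1053 * 0) 1053 = true := by decide +kernel

theorem fxk_ax1_2_1 : fxOK cw_ax1_2 (1053 * 1) 1053 = true := by decide +kernel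

theorem fxk_ax1_2_2 : fxOK cw_ax1_2 (1053 * 2) 1053 = true := by decide +kernel

theorem fxk_ax1_2_3 : fxOK cw_ax1_2 (1053 * 3) 1053 = true := by decide +kernel

theorem fxk_ax1_2_4 : fxOK cw_ax1_2 (1053 * 4) 1053 = true := by decide +kernel

theorem fxk_ax1_2_5 : fxOK cw_ax1_2 (1053 * 5) 1053 = true := by decide +kernel

theorem fxk_ax1_2_6 : fxOK cw_ax1_2 (1053 * 6) 1053 = true := by decide +kernel

theorem fxk_ax1_2_7 : fxOK cw_ax1_2 (1053 * 7) 1053 = true := by decide +kernel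

theorem fxk_ax1_2_8 : fxOK cw_ax1_2 (1053 * 8) 1053 = true := by decide +kernel

theorem fxk_ax1_2 : ∀ r, r < 9 → fxOK cw_ax1_2 (1053 * r) 1053 = true
  | 0, _ => fxk_ax1_2_0
  | 1, _ => fxk_ax1_2_1
  | 2, _ => fxk_ax1_2_2
  | 3, _ => fxk_ax1_2_3
  | 4, _ => fxk_ax1_2_4
  | 5, _ => fxk_ax1_2_5
  | 6, _ => fxk_ax1_2_6
  | 7, _ => fxk_ax1_2_7
  | 8, _ => fxk_ax1_2_8
  | r + 9, h => absurd h (by omega)

theorem fxk_ax1_3_0 : fxOK cw_ax1_3 (1053 * 0) 1053 = true := by decide +kernel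

theorem fxk_ax1_3_1 : fxOK cw_ax1_3 (1053 * 1) 1053 = true := by decide +kernel

theorem fxk_ax1_3_2 : fxOK cw_ax1_3 (1053 * 2) 1053 = true := by decide +kernel

theorem fxk_ax1_3_3 : fxOK cw_ax1_3 (1053 * 3) 1053 = true := by decide +kernel

theorem fxk_ax1_3_4 : fxOK cw_ax1_3 (1053 * 4) 1053 = true := by decide +kernel

theorem fxk_ax1_3_5 : fxOK cw_ax1_3 (1053 * 5) 1053 = true := by decide +kernel

theorem fxk_ax1_3_6 : fxOK cw_ax1_3 (1053 * 6) 1053 = true := by decide +kernel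

theorem fxk_ax1_3_7 : fxOK cw_ax1_3 (1053 * 7) 1053 = true := by decide +kernel

theorem fxk_ax1_3_8 : fxOK cw_ax1_3 (1053 * 8) 1053 = true := by decide +kernel

theorem fxk_ax1_3 : ∀ r, r < 9 → fxOK cw_ax1_3 (1053 * r) 1053 = true
  | 0, _ => fxk_ax1_3_0
  | 1, _ => fxk_ax1_3_1
  | 2, _ => fxk_ax1_3_2
  | 3, _ => fxk_ax1_3_3
  | 4, _ => fxk_ax1_3_4
  | 5, _ => fxk_ax1_3_5
  | 6, _ => fxk_ax1_3_6
  | 7, _ => fxk_ax1_3_7
  | 8, _ => fxk_ax1_3_8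
  | r + 9, h => absurd h (by omega)

theorem fxk_ax1_4_0 : fxOK cw_ax1_4 (1053 * 0) 1053 = true := by decide +kernel

theorem fxk_ax1_4_1 : fxOK cw_ax1_4 (1053 * 1) 1053 = true := by decide +kernel

theorem fxk_ax1_4_2 : fxOK cw_ax1_4 (1053 * 2) 1053 = true := by decide +kernel

theorem fxk_ax1_4_3 : fxOK cw_ax1_4 (1053 * 3) 1053 = true := by decide +kernel

theorem fxk_ax1_4_4 : fxOK cw_ax1_4 (1053 * 4) 1053 = true := by decide +kernel

theorem fxk_ax1_4_5 : fxOK cw_ax1_4 (1053 * 5) 1053 = true := by decide +kernel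

theorem fxk_ax1_4_6 : fxOK cw_ax1_4 (1053 * 6) 1053 = true := by decide +kernel

theorem fxk_ax1_4_7 : fxOK cw_ax1_4 (1053 * 7) 1053 = true := by decide +kernel

theorem fxk_ax1_4_8 : fxOK cw_ax1_4 (1053 * 8) 1053 = true := by decide +kernel

theorem fxk_ax1_4 : ∀ r, r < 9 → fxOK cw_ax1_4 (1053 * r) 1053 = true
  | 0, _ => fxk_ax1_4_0
  | 1, _ => fxk_ax1_4_1
  | 2, _ => fxk_ax1_4_2
  | 3, _ => fxk_ax1_4_3
  | 4, _ => fxk_ax1_4_4
  | 5, _ => fxk_ax1_4_5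
  | 6, _ => fxk_ax1_4_6
  | 7, _ => fxk_ax1_4_7
  | 8, _ => fxk_ax1_4_8
  | r + 9, h => absurd h (by omega)

end Cfsg.Agent.Lib.Helper7.O73CM
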