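import Cfsg.Agent.Lib.Helper7.O73CME
import Cfsg.Agent.Lib.Helper7.O73CMEW

/-! # The multiplier of the orthogonal group of dimension seven over the field of three elements, the second chain: checks of words on the 9477
points, file 0 (generated) -/

set_option autoImplicit false
set_option maxRecDepth 100000

namespace Cfsg.Agent.Lib.Helper7.O73CM

theorem shk_ax3_0_0 : shOK cw_ax3_0 2 (1053 * 0) 1053 = true := by decide +kernel

theorem shk_ax3_0_1 : shOK cw_ax3_0 2 (1053 * 1) 1053 = true := by decide +kernel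

theorem shk_ax3_0_2 : shOK cw_ax3_0 2 (1053 * 2) 1053 = true := by decide +kernel

theorem shk_ax3_0_3 : shOK cw_ax3_0 2 (1053 * 3) 1053 = true := by decide +kernel

theorem shk_ax3_0_4 : shOK cw_ax3_0 2 (1053 * 4) 1053 = true := by decide +kernel

theorem shk_ax3_0_5 : shOK cw_ax3_0 2 (1053 * 5) 1053 = true := by decide +kernel

theorem shk_ax3_0_6 : shOK cw_ax3_0 2 (1053 * 6) 1053 = true := by decide +kernel

theorem shk_ax3_0_7 : shOK cw_ax3_0 2 (1053 * 7) 1053 = true := by decide +kernel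

theorem shk_ax3_0_8 : shOK cw_ax3_0 2 (1053 * 8) 1053 = true := by decide +kernel

theorem shk_ax3_0 : ∀ r, r < 9 → shOK cw_ax3_0 2 (1053 * r) 1053 = true
  | 0, _ => shk_ax3_0_0
  | 1, _ => shk_ax3_0_1
  | 2, _ => shk_ax3_0_2
  | 3, _ => shk_ax3_0_3
  | 4, _ => shk_ax3_0_4
  | 5, _ => shk_ax3_0_5
  | 6, _ => shk_ax3_0_6
  | 7, _ => shk_ax3_0_7
  | 8, _ => shk_ax3_0_8
  | r + 9, h => absurd h (by omega)

theorem shk_ax3_1_0 : shOK cw_ax3_1 2 (1053 * 0) 1053 = true := by decide +kernel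

theorem shk_ax3_1_1 : shOK cw_ax3_1 2 (1053 * 1) 1053 = true := by decide +kernel

theorem shk_ax3_1_2 : shOK cw_ax3_1 2 (1053 * 2) 1053 = true := by decide +kernel

theorem shk_ax3_1_3 : shOK cw_ax3_1 2 (1053 * 3) 1053 = true := by decide +kernel

theorem shk_ax3_1_4 : shOK cw_ax3_1 2 (1053 * 4) 1053 = true := by decide +kernel

theorem shk_ax3_1_5 : shOK cw_ax3_1 2 (1053 * 5) 1053 = true := by decide +kernel

theorem shk_ax3_1_6 : shOK cw_ax3_1 2 (1053 * 6) 1053 = true := by decide +kernel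

theorem shk_ax3_1_7 : shOK cw_ax3_1 2 (1053 * 7) 1053 = true := by decide +kernel

theorem shk_ax3_1_8 : shOK cw_ax3_1 2 (1053 * 8) 1053 = true := by decide +kernel

theorem shk_ax3_1 : ∀ r, r < 9 → shOK cw_ax3_1 2 (1053 * r) 1053 = true
  | 0, _ => shk_ax3_1_0
  | 1, _ => shk_ax3_1_1
  | 2, _ => shk_ax3_1_2
  | 3, _ => shk_ax3_1_3
  | 4, _ => shk_ax3_1_4
  | 5, _ => shk_ax3_1_5
  | 6, _ => shk_ax3_1_6
  | 7, _ => shk_ax3_1_7
  | 8, _ => shk_ax3_1_8
  | r + 9, h => absurd h (by omega)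

theorem shk_ax3_2_0 : shOK cw_ax3_2 1 (1053 * 0) 1053 = true := by decide +kernel

theorem shk_ax3_2_1 : shOK cw_ax3_2 1 (1053 * 1) 1053 = true := by decide +kernel

theorem shk_ax3_2_2 : shOK cw_ax3_2 1 (1053 * 2) 1053 = true := by decide +kernel

theorem shk_ax3_2_3 : shOK cw_ax3_2 1 (1053 * 3) 1053 = true := by decide +kernel

theorem shk_ax3_2_4 : shOK cw_ax3_2 1 (1053 * 4) 1053 = true := by decide +kernel

theorem shk_ax3_2_5 : shOK cw_ax3_2 1 (1053 * 5) 1053 = true := by decide +kernel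

theorem shk_ax3_2_6 : shOK cw_ax3_2 1 (1053 * 6) 1053 = true := by decide +kernel

theorem shk_ax3_2_7 : shOK cw_ax3_2 1 (1053 * 7) 1053 = true := by decide +kernel

theorem shk_ax3_2_8 : shOK cw_ax3_2 1 (1053 * 8) 1053 = true := by decide +kernel

theorem shk_ax3_2 : ∀ r, r < 9 → shOK cw_ax3_2 1 (1053 * r) 1053 = true
  | 0, _ => shk_ax3_2_0
  | 1, _ => shk_ax3_2_1
  | 2, _ => shk_ax3_2_2
  | 3, _ => shk_ax3_2_3
  | 4, _ => shk_ax3_2_4
  | 5, _ => shk_ax3_2_5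
  | 6, _ => shk_ax3_2_6
  | 7, _ => shk_ax3_2_7
  | 8, _ => shk_ax3_2_8
  | r + 9, h => absurd h (by omega)

theorem shk_ax3_3_0 : shOK cw_ax3_3 0 (1053 * 0) 1053 = true := by decide +kernel

theorem shk_ax3_3_1 : shOK cw_ax3_3 0 (1053 * 1) 1053 = true := by decide +kernel

theorem shk_ax3_3_2 : shOK cw_ax3_3 0 (1053 * 2) 1053 = true := by decide +kernel

theorem shk_ax3_3_3 : shOK cw_ax3_3 0 (1053 * 3) 1053 = true := by decide +kernel

theorem shk_ax3_3_4 : shOK cw_ax3_3 0 (1053 * 4) 1053 = true := by decide +kernel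

theorem shk_ax3_3_5 : shOK cw_ax3_3 0 (1053 * 5) 1053 = true := by decide +kernel

theorem shk_ax3_3_6 : shOK cw_ax3_3 0 (1053 * 6) 1053 = true := by decide +kernel

theorem shk_ax3_3_7 : shOK cw_ax3_3 0 (1053 * 7) 1053 = true := by decide +kernel

theorem shk_ax3_3_8 : shOK cw_ax3_3 0 (1053 * 8) 1053 = true := by decide +kernel

theorem shk_ax3_3 : ∀ r, r < 9 → shOK cw_ax3_3 0 (1053 * r) 1053 = true
  | 0, _ => shk_ax3_3_0
  | 1, _ => shk_ax3_3_1
  | 2, _ => shk_ax3_3_2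
  | 3, _ => shk_ax3_3_3
  | 4, _ => shk_ax3_3_4
  | 5, _ => shk_ax3_3_5
  | 6, _ => shk_ax3_3_6
  | 7, _ => shk_ax3_3_7
  | 8, _ => shk_ax3_3_8
  | r + 9, h => absurd h (by omega)

theorem shk_ax3_4_0 : shOK cw_ax3_4 2 (1053 * 0) 1053 = true := by decide +kernel

theorem shk_ax3_4_1 : shOK cw_ax3_4 2 (1053 * 1) 1053 = true := by decide +kernel

theorem shk_ax3_4_2 : shOK cw_ax3_4 2 (1053 * 2) 1053 = true := by decide +kernel

theorem shk_ax3_4_3 : shOK cw_ax3_4 2 (1053 * 3) 1053 = true := by decide +kernel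

theorem shk_ax3_4_4 : shOK cw_ax3_4 2 (1053 * 4) 1053 = true := by decide +kernel

theorem shk_ax3_4_5 : shOK cw_ax3_4 2 (1053 * 5) 1053 = true := by decide +kernel

theorem shk_ax3_4_6 : shOK cw_ax3_4 2 (1053 * 6) 1053 = true := by decide +kernel

theorem shk_ax3_4_7 : shOK cw_ax3_4 2 (1053 * 7) 1053 = true := by decide +kernel

theorem shk_ax3_4_8 : shOK cw_ax3_4 2 (1053 * 8) 1053 = true := by decide +kernel

theorem shk_ax3_4 : ∀ r, r < 9 → shOK cw_ax3_4 2 (1053 * r) 1053 = true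
  | 0, _ => shk_ax3_4_0
  | 1, _ => shk_ax3_4_1
  | 2, _ => shk_ax3_4_2
  | 3, _ => shk_ax3_4_3
  | 4, _ => shk_ax3_4_4
  | 5, _ => shk_ax3_4_5
  | 6, _ => shk_ax3_4_6
  | 7, _ => shk_ax3_4_7
  | 8, _ => shk_ax3_4_8
  | r + 9, h => absurd h (by omega)

theorem shk_ax3_5_0 : shOK cw_ax3_5 1 (1053 * 0) 1053 = true := by decide +kernel

theorem shk_ax3_5_1 : shOK cw_ax3_5 1 (1053 * 1) 1053 = true := by decide +kernel

theorem shk_ax3_5_2 : shOK cw_ax3_5 1 (1053 * 2) 1053 = true := by decide +kernel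

theorem shk_ax3_5_3 : shOK cw_ax3_5 1 (1053 * 3) 1053 = true := by decide +kernel

theorem shk_ax3_5_4 : shOK cw_ax3_5 1 (1053 * 4) 1053 = true := by decide +kernel

theorem shk_ax3_5_5 : shOK cw_ax3_5 1 (1053 * 5) 1053 = true := by decide +kernel

theorem shk_ax3_5_6 : shOK cw_ax3_5 1 (1053 * 6) 1053 = true := by decide +kernel

theorem shk_ax3_5_7 : shOK cw_ax3_5 1 (1053 * 7) 1053 = true := by decide +kernel

theorem shk_ax3_5_8 : shOK cw_ax3_5 1 (1053 * 8) 1053 = true := by decide +kernel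

theorem shk_ax3_5 : ∀ r, r < 9 → shOK cw_ax3_5 1 (1053 * r) 1053 = true
  | 0, _ => shk_ax3_5_0
  | 1, _ => shk_ax3_5_1
  | 2, _ => shk_ax3_5_2
  | 3, _ => shk_ax3_5_3
  | 4, _ => shk_ax3_5_4
  | 5, _ => shk_ax3_5_5
  | 6, _ => shk_ax3_5_6
  | 7, _ => shk_ax3_5_7
  | 8, _ => shk_ax3_5_8
  | r + 9, h => absurd h (by omega)

theorem shk_ax3_6_0 : shOK cw_ax3_6 2 (1053 * 0) 1053 = true := by decide +kernel

theorem shk_ax3_6_1 : shOK cw_ax3_6 2 (1053 * 1) 1053 = true := by decide +kernel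

theorem shk_ax3_6_2 : shOK cw_ax3_6 2 (1053 * 2) 1053 = true := by decide +kernel

theorem shk_ax3_6_3 : shOK cw_ax3_6 2 (1053 * 3) 1053 = true := by decide +kernel

theorem shk_ax3_6_4 : shOK cw_ax3_6 2 (1053 * 4) 1053 = true := by decide +kernel

theorem shk_ax3_6_5 : shOK cw_ax3_6 2 (1053 * 5) 1053 = true := by decide +kernel

theorem shk_ax3_6_6 : shOK cw_ax3_6 2 (1053 * 6) 1053 = true := by decide +kernel

theorem shk_ax3_6_7 : shOK cw_ax3_6 2 (1053 * 7) 1053 = true := by decide +kernel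

theorem shk_ax3_6_8 : shOK cw_ax3_6 2 (1053 * 8) 1053 = true := by decide +kernel

theorem shk_ax3_6 : ∀ r, r < 9 → shOK cw_ax3_6 2 (1053 * r) 1053 = true
  | 0, _ => shk_ax3_6_0
  | 1, _ => shk_ax3_6_1
  | 2, _ => shk_ax3_6_2
  | 3, _ => shk_ax3_6_3
  | 4, _ => shk_ax3_6_4
  | 5, _ => shk_ax3_6_5
  | 6, _ => shk_ax3_6_6
  | 7, _ => shk_ax3_6_7
  | 8, _ => shk_ax3_6_8
  | r + 9, h => absurd h (by omega)

theorem fxk_p3_0_0 : fxOK cw_p3_0 (1053 * 0) 1053 = true := by decide +kernel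

theorem fxk_p3_0_1 : fxOK cw_p3_0 (1053 * 1) 1053 = true := by decide +kernel

theorem fxk_p3_0_2 : fxOK cw_p3_0 (1053 * 2) 1053 = true := by decide +kernel

theorem fxk_p3_0_3 : fxOK cw_p3_0 (1053 * 3) 1053 = true := by decide +kernel

theorem fxk_p3_0_4 : fxOK cw_p3_0 (1053 * 4) 1053 = true := by decide +kernel

theorem fxk_p3_0_5 : fxOK cw_p3_0 (1053 * 5) 1053 = true := by decide +kernel

theorem fxk_p3_0_6 : fxOK cw_p3_0 (1053 * 6) 1053 = true := by decide +kernel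

theorem fxk_p3_0_7 : fxOK cw_p3_0 (1053 * 7) 1053 = true := by decide +kernel

theorem fxk_p3_0_8 : fxOK cw_p3_0 (1053 * 8) 1053 = true := by decide +kernel

theorem fxk_p3_0 : ∀ r, r < 9 → fxOK cw_p3_0 (1053 * r) 1053 = true
  | 0, _ => fxk_p3_0_0
  | 1, _ => fxk_p3_0_1
  | 2, _ => fxk_p3_0_2
  | 3, _ => fxk_p3_0_3
  | 4, _ => fxk_p3_0_4
  | 5, _ => fxk_p3_0_5
  | 6, _ => fxk_p3_0_6
  | 7, _ => fxk_p3_0_7
  | 8, _ => fxk_p3_0_8
  | r + 9, h => absurd h (by omega)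

theorem fxk_p3_1_0 : fxOK cw_p3_1 (1053 * 0) 1053 = true := by decide +kernel

theorem fxk_p3_1_1 : fxOK cw_p3_1 (1053 * 1) 1053 = true := by decide +kernel

theorem fxk_p3_1_2 : fxOK cw_p3_1 (1053 * 2) 1053 = true := by decide +kernel

theorem fxk_p3_1_3 : fxOK cw_p3_1 (1053 * 3) 1053 = true := by decide +kernel

theorem fxk_p3_1_4 : fxOK cw_p3_1 (1053 * 4) 1053 = true := by decide +kernel

theorem fxk_p3_1_5 : fxOK cw_p3_1 (1053 * 5) 1053 = true := by decide +kernel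

theorem fxk_p3_1_6 : fxOK cw_p3_1 (1053 * 6) 1053 = true := by decide +kernel

theorem fxk_p3_1_7 : fxOK cw_p3_1 (1053 * 7) 1053 = true := by decide +kernel

theorem fxk_p3_1_8 : fxOK cw_p3_1 (1053 * 8) 1053 = true := by decide +kernel

theorem fxk_p3_1 : ∀ r, r < 9 → fxOK cw_p3_1 (1053 * r) 1053 = true
  | 0, _ => fxk_p3_1_0
  | 1, _ => fxk_p3_1_1
  | 2, _ => fxk_p3_1_2
  | 3, _ => fxk_p3_1_3
  | 4, _ => fxk_p3_1_4
  | 5, _ => fxk_p3_1_5
  | 6, _ => fxk_p3_1_6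
  | 7, _ => fxk_p3_1_7
  | 8, _ => fxk_p3_1_8
  | r + 9, h => absurd h (by omega)

theorem fxk_p3_2_0 : fxOK cw_p3_2 (1053 * 0) 1053 = true := by decide +kernel

theorem fxk_p3_2_1 : fxOK cw_p3_2 (1053 * 1) 1053 = true := by decide +kernel

theorem fxk_p3_2_2 : fxOK cw_p3_2 (1053 * 2) 1053 = true := by decide +kernel

theorem fxk_p3_2_3 : fxOK cw_p3_2 (1053 * 3) 1053 = true := by decide +kernel

theorem fxk_p3_2_4 : fxOK cw_p3_2 (1053 * 4) 1053 = true := by decide +kernel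

theorem fxk_p3_2_5 : fxOK cw_p3_2 (1053 * 5) 1053 = true := by decide +kernel

theorem fxk_p3_2_6 : fxOK cw_p3_2 (1053 * 6) 1053 = true := by decide +kernel

theorem fxk_p3_2_7 : fxOK cw_p3_2 (1053 * 7) 1053 = true := by decide +kernel

theorem fxk_p3_2_8 : fxOK cw_p3_2 (1053 * 8) 1053 = true := by decide +kernel

theorem fxk_p3_2 : ∀ r, r < 9 → fxOK cw_p3_2 (1053 * r) 1053 = true
  | 0, _ => fxk_p3_2_0
  | 1, _ => fxk_p3_2_1
  | 2, _ => fxk_p3_2_2
  | 3, _ => fxk_p3_2_3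
  | 4, _ => fxk_p3_2_4
  | 5, _ => fxk_p3_2_5
  | 6, _ => fxk_p3_2_6
  | 7, _ => fxk_p3_2_7
  | 8, _ => fxk_p3_2_8
  | r + 9, h => absurd h (by omega)

theorem fxk_p3_3_0 : fxOK cw_p3_3 (1053 * 0) 1053 = true := by decide +kernel

theorem fxk_p3_3_1 : fxOK cw_p3_3 (1053 * 1) 1053 = true := by decide +kernel

theorem fxk_p3_3_2 : fxOK cw_p3_3 (1053 * 2) 1053 = true := by decide +kernel

theorem fxk_p3_3_3 : fxOK cw_p3_3 (1053 * 3) 1053 = true := by decide +kernel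

theorem fxk_p3_3_4 : fxOK cw_p3_3 (1053 * 4) 1053 = true := by decide +kernel

theorem fxk_p3_3_5 : fxOK cw_p3_3 (1053 * 5) 1053 = true := by decide +kernel

theorem fxk_p3_3_6 : fxOK cw_p3_3 (1053 * 6) 1053 = true := by decide +kernel

theorem fxk_p3_3_7 : fxOK cw_p3_3 (1053 * 7) 1053 = true := by decide +kernel

theorem fxk_p3_3_8 : fxOK cw_p3_3 (1053 * 8) 1053 = true := by decide +kernel

theorem fxk_p3_3 : ∀ r, r < 9 → fxOK cw_p3_3 (1053 * r) 1053 = true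
  | 0, _ => fxk_p3_3_0
  | 1, _ => fxk_p3_3_1
  | 2, _ => fxk_p3_3_2
  | 3, _ => fxk_p3_3_3
  | 4, _ => fxk_p3_3_4
  | 5, _ => fxk_p3_3_5
  | 6, _ => fxk_p3_3_6
  | 7, _ => fxk_p3_3_7
  | 8, _ => fxk_p3_3_8
  | r + 9, h => absurd h (by omega)

theorem fxk_p3_4_0 : fxOK cw_p3_4 (1053 * 0) 1053 = true := by decide +kernel

theorem fxk_p3_4_1 : fxOK cw_p3_4 (1053 * 1) 1053 = true := by decide +kernel

theorem fxk_p3_4_2 : fxOK cw_p3_4 (1053 * 2) 1053 = true := by decide +kernel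

theorem fxk_p3_4_3 : fxOK cw_p3_4 (1053 * 3) 1053 = true := by decide +kernel

theorem fxk_p3_4_4 : fxOK cw_p3_4 (1053 * 4) 1053 = true := by decide +kernel

theorem fxk_p3_4_5 : fxOK cw_p3_4 (1053 * 5) 1053 = true := by decide +kernel

theorem fxk_p3_4_6 : fxOK cw_p3_4 (1053 * 6) 1053 = true := by decide +kernel

theorem fxk_p3_4_7 : fxOK cw_p3_4 (1053 * 7) 1053 = true := by decide +kernel

theorem fxk_p3_4_8 : fxOK cw_p3_4 (1053 * 8) 1053 = true := by decide +kernel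

theorem fxk_p3_4 : ∀ r, r < 9 → fxOK cw_p3_4 (1053 * r) 1053 = true
  | 0, _ => fxk_p3_4_0
  | 1, _ => fxk_p3_4_1
  | 2, _ => fxk_p3_4_2
  | 3, _ => fxk_p3_4_3
  | 4, _ => fxk_p3_4_4
  | 5, _ => fxk_p3_4_5
  | 6, _ => fxk_p3_4_6
  | 7, _ => fxk_p3_4_7
  | 8, _ => fxk_p3_4_8
  | r + 9, h => absurd h (by omega)

theorem fxk_p3_5_0 : fxOK cw_p3_5 (1053 * 0) 1053 = true := by decide +kernel

theorem fxk_p3_5_1 : fxOK cw_p3_5 (1053 * 1) 1053 = true := by decide +kernel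

theorem fxk_p3_5_2 : fxOK cw_p3_5 (1053 * 2) 1053 = true := by decide +kernel

theorem fxk_p3_5_3 : fxOK cw_p3_5 (1053 * 3) 1053 = true := by decide +kernel

theorem fxk_p3_5_4 : fxOK cw_p3_5 (1053 * 4) 1053 = true := by decide +kernel

theorem fxk_p3_5_5 : fxOK cw_p3_5 (1053 * 5) 1053 = true := by decide +kernel

theorem fxk_p3_5_6 : fxOK cw_p3_5 (1053 * 6) 1053 = true := by decide +kernel

theorem fxk_p3_5_7 : fxOK cw_p3_5 (1053 * 7) 1053 = true := by decide +kernel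

theorem fxk_p3_5_8 : fxOK cw_p3_5 (1053 * 8) 1053 = true := by decide +kernel

theorem fxk_p3_5 : ∀ r, r < 9 → fxOK cw_p3_5 (1053 * r) 1053 = true
  | 0, _ => fxk_p3_5_0
  | 1, _ => fxk_p3_5_1
  | 2, _ => fxk_p3_5_2
  | 3, _ => fxk_p3_5_3
  | 4, _ => fxk_p3_5_4
  | 5, _ => fxk_p3_5_5
  | 6, _ => fxk_p3_5_6
  | 7, _ => fxk_p3_5_7
  | 8, _ => fxk_p3_5_8
  | r + 9, h => absurd h (by omega)

theorem fxk_p3_6_0 : fxOK cw_p3_6 (1053 * 0) 1053 = true := by decide +kernel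

theorem fxk_p3_6_1 : fxOK cw_p3_6 (1053 * 1) 1053 = true := by decide +kernel

theorem fxk_p3_6_2 : fxOK cw_p3_6 (1053 * 2) 1053 = true := by decide +kernel

theorem fxk_p3_6_3 : fxOK cw_p3_6 (1053 * 3) 1053 = true := by decide +kernel

theorem fxk_p3_6_4 : fxOK cw_p3_6 (1053 * 4) 1053 = true := by decide +kernel

theorem fxk_p3_6_5 : fxOK cw_p3_6 (1053 * 5) 1053 = true := by decide +kernel

theorem fxk_p3_6_6 : fxOK cw_p3_6 (1053 * 6) 1053 = true := by decide +kernel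

theorem fxk_p3_6_7 : fxOK cw_p3_6 (1053 * 7) 1053 = true := by decide +kernel

theorem fxk_p3_6_8 : fxOK cw_p3_6 (1053 * 8) 1053 = true := by decide +kernel

theorem fxk_p3_6 : ∀ r, r < 9 → fxOK cw_p3_6 (1053 * r) 1053 = true
  | 0, _ => fxk_p3_6_0
  | 1, _ => fxk_p3_6_1
  | 2, _ => fxk_p3_6_2
  | 3, _ => fxk_p3_6_3
  | 4, _ => fxk_p3_6_4
  | 5, _ => fxk_p3_6_5
  | 6, _ => fxk_p3_6_6
  | 7, _ => fxk_p3_6_7
  | 8, _ => fxk_p3_6_8
  | r + 9, h => absurd h (by omega)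

theorem cnk_0_0_0 : cenOK 0 0 0 9477 = true := by decide +kernel

theorem cnk_1_0_0 : cenOK 1 0 0 9477 = true := by decide +kernel

theorem cnk_2_0_0 : cenOK 2 0 0 9477 = true := by decide +kernel

theorem cnk_3_0_0 : cenOK 3 0 0 9477 = true := by decide +kernel

theorem cnk_4_0_0 : cenOK 4 0 0 9477 = true := by decide +kernel

theorem cnk_5_0_0 : cenOK 5 0 0 9477 = true := by decide +kernel

theorem cnk_6_0_0 : cenOK 6 0 0 9477 = true := by decide +kernel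

theorem cnk_7_0_0 : cenOK 7 0 0 9477 = true := by decide +kernel

theorem cnk_0_1_0 : cenOK 0 1 0 9477 = true := by decide +kernel

theorem cnk_1_1_0 : cenOK 1 1 0 9477 = true := by decide +kernel

theorem cnk_2_1_0 : cenOK 2 1 0 9477 = true := by decide +kernel

theorem cnk_3_1_0 : cenOK 3 1 0 9477 = true := by decide +kernel

theorem cnk_4_1_0 : cenOK 4 1 0 9477 = true := by decide +kernel

theorem cnk_5_1_0 : cenOK 5 1 0 9477 = true := by decide +kernel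

theorem cnk_6_1_0 : cenOK 6 1 0 9477 = true := by decide +kernel

theorem cnk_7_1_0 : cenOK 7 1 0 9477 = true := by decide +kernel

theorem cnk_0_2_0 : cenOK 0 2 0 9477 = true := by decide +kernel

theorem cnk_1_2_0 : cenOK 1 2 0 9477 = true := by decide +kernel

theorem cnk_2_2_0 : cenOK 2 2 0 9477 = true := by decide +kernel

theorem cnk_3_2_0 : cenOK 3 2 0 9477 = true := by decide +kernel

theorem cnk_4_2_0 : cenOK 4 2 0 9477 = true := by decide +kernel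

theorem cnk_5_2_0 : cenOK 5 2 0 9477 = true := by decide +kernel

theorem cnk_6_2_0 : cenOK 6 2 0 9477 = true := by decide +kernel

theorem cnk_7_2_0 : cenOK 7 2 0 9477 = true := by decide +kernel

end Cfsg.Agent.Lib.Helper7.O73CM
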