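import Cfsg.Agent.Lib.Helper7.O73BaseA
import Cfsg.Agent.Lib.Helper7.O73A2D
import Cfsg.Agent.Lib.Helper7.O73A1D

/-! # The orthogonal group of dimension seven over the field of three elements, the chain A: the words of the certificates of the subgroups generated by the first six and by the first four letters
are trivial (generated) -/

set_option autoImplicit false
set_option maxRecDepth 100000

namespace Cfsg.Agent.Lib.Helper7.O73AV3

open Cfsg Cfsg.Agent.Lib.Helper7.MG Cfsg.Agent.Lib.Helper7.HSMult

/-- the check of a word in the first four letters -/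
def matOK4 (w : List ℕ) : Bool := (w.all fun x => Nat.blt x 4) && matOK w

theorem chk_triv2_0 : (allN 20 fun i => strictL (O73A2.cert.W (Nat.add 0 i)) fun w => matOK6 w) = true := by
  decide +kernel

theorem chk_triv2_1 : (allN 20 fun i => strictL (O73A2.cert.W (Nat.add 20 i)) fun w => matOK6 w) = true := by
  decide +kernel

theorem chk_triv2_2 : (allN 20 fun i => strictL (O73A2.cert.W (Nat.add 40 i)) fun w => matOK6 w) = true := by
  decide +kernel

theorem chk_triv2_3 : (allN 20 fun i => strictL (O73A2.cert.W (Nat.add 60 i)) fun w => matOK6 w) = true := by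
  decide +kernel

theorem chk_triv2_4 : (allN 20 fun i => strictL (O73A2.cert.W (Nat.add 80 i)) fun w => matOK6 w) = true := by
  decide +kernel

theorem chk_triv2_5 : (allN 20 fun i => strictL (O73A2.cert.W (Nat.add 100 i)) fun w => matOK6 w) = true := by
  decide +kernel

theorem chk_triv2_all : ∀ k, k < 6 →
    (allN 20 fun i => strictL (O73A2.cert.W (Nat.add (20 * k) i)) fun w => matOK6 w) = true
  | 0, _ => chk_triv2_0
  | 1, _ => chk_triv2_1
  | 2, _ => chk_triv2_2
  | 3, _ => chk_triv2_3
  | 4, _ => chk_triv2_4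
  | 5, _ => chk_triv2_5
  | k + 6, h => absurd h (by omega)

theorem chk_triv2 {i : ℕ} (hi : i < 118) : matOK6 (O73A2.cert.W i) = true := by
  have h := chk_triv2_all (i / 20) (by omega)
  rw [allN_iff] at h
  have h1 := h (i % 20) (Nat.mod_lt _ (by norm_num))
  rw [strictL_eq] at h1
  have e : Nat.add (20 * (i / 20)) (i % 20) = i := Nat.div_add_mod i 20
  rw [e] at h1
  exact h1

theorem chk_triv1_0 : (allN 13 fun i => strictL (O73A1.cert.W (Nat.add 0 i)) fun w => matOK4 w) = true := by
  decide +kernel

theorem chk_triv1_1 : (allN 13 fun i => strictL (O73A1.cert.W (Nat.add 13 i)) fun w => matOK4 w) = true := by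
  decide +kernel

theorem chk_triv1_2 : (allN 13 fun i => strictL (O73A1.cert.W (Nat.add 26 i)) fun w => matOK4 w) = true := by
  decide +kernel

theorem chk_triv1_3 : (allN 13 fun i => strictL (O73A1.cert.W (Nat.add 39 i)) fun w => matOK4 w) = true := by
  decide +kernel

theorem chk_triv1_4 : (allN 13 fun i => strictL (O73A1.cert.W (Nat.add 52 i)) fun w => matOK4 w) = true := by
  decide +kernel

theorem chk_triv1_all : ∀ k, k < 5 →
    (allN 13 fun i => strictL (O73A1.cert.W (Nat.add (13 * k) i)) fun w => matOK4 w) = true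
  | 0, _ => chk_triv1_0
  | 1, _ => chk_triv1_1
  | 2, _ => chk_triv1_2
  | 3, _ => chk_triv1_3
  | 4, _ => chk_triv1_4
  | k + 5, h => absurd h (by omega)

theorem chk_triv1 {i : ℕ} (hi : i < 65) : matOK4 (O73A1.cert.W i) = true := by
  have h := chk_triv1_all (i / 13) (by omega)
  rw [allN_iff] at h
  have h1 := h (i % 13) (Nat.mod_lt _ (by norm_num))
  rw [strictL_eq] at h1
  have e : Nat.add (13 * (i / 13)) (i % 13) = i := Nat.div_add_mod i 13
  rw [e] at h1
  exact h1

theorem chk_v7 : matOK4 (wpow 7 [2]) = true := by decide +kernel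

theorem chk_u2 : matOK4 (wpow 2 [0]) = true := by decide +kernel

theorem chk_uv7 : matOK4 (wpow 7 [0, 2]) = true := by decide +kernel

theorem chk_uvv6 : matOK4 (wpow 6 [0, 2, 2]) = true := by decide +kernel

theorem chk_t2 : matOK6 (wpow 2 [4]) = true := by decide +kernel

theorem chk_y7 : matOK6 (wpow 7 [4, 0, 2]) = true := by decide +kernel

theorem chk_v_move : ∃ a b : Fin 3, a ≠ b ∧
    Cfsg.Agent.Lib.Helper6.EquivMatL.colM Cfsg.Agent.Lib.Helper6.O73Mat.num (letT 2) (Sum.inr (Sum.inl a)) (Sum.inr (Sum.inl b)) ≠ 0 := by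
  decide +kernel

end Cfsg.Agent.Lib.Helper7.O73AV3
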