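import Cfsg.Agent.Lib.Helper7.O73GrpA3w0

/-!
# The orthogonal group of dimension seven over the field of three elements, the chain A: the words of the certificate of the table of the group, the index of the subgroup `L`

All the words of the certificate are trivial in the group, so the subgroup `L` generated by the first six letters has
index at most 1080.
-/

set_option autoImplicit false
set_option maxRecDepth 100000

namespace Cfsg.Agent.Lib.Helper7.O73AV3

open Cfsg Cfsg.Agent.Lib.Helper7.MG Cfsg.Agent.Lib.Helper7.HSMult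

theorem chk_triv3_all : ∀ k, k < 10 →
    (allN 20 fun i => strictL (O73A3.cert.W (Nat.add (20 * k) i)) fun w => matOK w) = true
  | 0, _ => chk_triv3_0
  | 1, _ => chk_triv3_1
  | 2, _ => chk_triv3_2
  | 3, _ => chk_triv3_3
  | 4, _ => chk_triv3_4
  | 5, _ => chk_triv3_5
  | 6, _ => chk_triv3_6
  | 7, _ => chk_triv3_7
  | 8, _ => chk_triv3_8
  | 9, _ => chk_triv3_9
  | k + 10, h => absurd h (by omega)

theorem chk_triv3 {i : ℕ} (hi : i < 197) : matOK (O73A3.cert.W i) = true := by
  have h := chk_triv3_all (i / 20) (by omega)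
  rw [allN_iff] at h
  have h1 := h (i % 20) (Nat.mod_lt _ (by norm_num))
  rw [strictL_eq] at h1
  have e : Nat.add (20 * (i / 20)) (i % 20) = i := Nat.div_add_mod i 20
  rw [e] at h1
  exact h1

theorem wd_lK_W {i : ℕ} (hi : i < 197) : VCert.wd lK (O73A3.cert.W i) = 1 :=
  wd_lK_eq_one (chk_triv3 hi)

/-- the letters of the subgroup of the table -/
theorem lt_six_of_sub {x : ℕ}
    (hx : (Nat.beq x 0 || Nat.beq x 1 || Nat.beq x 2 || Nat.beq x 3 || Nat.beq x 4 || Nat.beq x 5) = true) : x < 6 := by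
  rw [Bool.or_eq_true, Bool.or_eq_true, Bool.or_eq_true, Bool.or_eq_true, Bool.or_eq_true] at hx
  rcases hx with ((((h | h) | h) | h) | h) | h
  · rw [Nat.eq_of_beq_eq_true h]; norm_num
  · rw [Nat.eq_of_beq_eq_true h]; norm_num
  · rw [Nat.eq_of_beq_eq_true h]; norm_num
  · rw [Nat.eq_of_beq_eq_true h]; norm_num
  · rw [Nat.eq_of_beq_eq_true h]; norm_num
  · rw [Nat.eq_of_beq_eq_true h]; norm_num

theorem hgen_G : ∀ y : G, ∃ u : List ℕ, (∀ x ∈ u, x < O73A3.cert.g) ∧ y = (u.map lK).prod := by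
  apply MG.exists_word_of_closure lK 8 (fun x => Nat.xor x 1) _ closure_lK
  intro x hx
  refine ⟨?_, lK_iv hx⟩
  have : x = 0 ∨ x = 1 ∨ x = 2 ∨ x = 3 ∨ x = 4 ∨ x = 5 ∨ x = 6 ∨ x = 7 := by omega
  rcases this with rfl | rfl | rfl | rfl | rfl | rfl | rfl | rfl <;> decide

theorem index_L_le : L.index ≤ 1080 ∧ L.index ≠ 0 := by
  refine O73A3.cert.index_le (γ := lK) (H := L) (z := fun _ => 1) ⊥ ?_ ?_ ?_ (by decide) (by decide)
    (fun x hx => lK_iv hx) ?_ ?_ ?_ O73A3.cert_all O73A3.cert_wall L le_rfl ?_ hgen_G (by decide)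
  · intro u hu g
    rw [Subgroup.mem_bot] at hu
    rw [hu, mul_one, mul_inv_cancel]
    exact Subgroup.one_mem _
  · intro j _
    exact Subgroup.one_mem _
  · intro u _ hu
    exact Subgroup.mem_bot.1 hu
  · intro x hx
    exact lK_mem_L (lt_six_of_sub hx)
  · intro i hi
    rw [Subgroup.mem_bot]
    exact wd_lK_W hi
  · intro i hi _
    rw [wd_lK_W hi, VCert.ek, O73A3.cert.kap_triv _ (fun _ _ => rfl)]
    rfl
  · intro j _
    exact Subgroup.one_mem _

end Cfsg.Agent.Lib.Helper7.O73AV3
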