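import Cfsg.Agent.Lib.Helper7.O73GrpC3
import Cfsg.Agent.Lib.Helper7.O73GrpC2w
import Cfsg.Agent.Lib.Helper7.MGenP

/-!
# The orthogonal group of dimension seven over the field of three elements, the chain C: the subgroup generated by the first six letters

The subgroup `L` of the group generated by the first six letters is taken as the group here; it is the symplectic group of dimension six over the field of two elements.  Its subgroup generated by the first four letters is again called `L`.  All the words of the two certificates are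
trivial.  The table of the cosets of the smaller subgroup shows that it has index at most 240, the table of the cosets
in it of the subgroup generated by `v` shows that it has at most 6048 elements; together with the index of the larger
subgroup in the whole group this gives the orders.  Both subgroups are perfect.
-/

set_option autoImplicit false
set_option maxRecDepth 100000

namespace Cfsg.Agent.Lib.Helper7.O73CV2

open Cfsg Cfsg.Agent.Lib.Helper7.MG Cfsg.Agent.Lib.Helper7.HSMult
open Cfsg.Agent.Lib.Helper6.EquivMatL Cfsg.Agent.Lib.Helper6.O73Mat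
open scoped IsMulCommutative commutatorElement

/-- the group: the subgroup generated by the first six letters -/
abbrev G : Type := ↥O73CV3.L

/-- the letters -/
noncomputable def lK (x : ℕ) : G := O73CV3.lK1 x

theorem lK_of_ge {x : ℕ} (hx : 6 ≤ x) : lK x = 1 := O73CV3.lK1_of_ge hx

theorem lK_iv {x : ℕ} (hx : x < 6) : lK (Nat.xor x 1) = (lK x)⁻¹ := O73CV3.lK1_iv hx

theorem closure_lK : Subgroup.closure (lK '' Set.Iio 6) = ⊤ := O73CV3.closure_lK1

/-- **a word in the six letters is trivial as soon as the product of the matrices is the unit matrix** -/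
theorem wd_lK_eq_one {w : List ℕ} (h : O73CV3.matOK6 w = true) : VCert.wd lK w = 1 := O73CV3.wd_lK1_eq_one h

instance instFiniteG : Finite G := inferInstance

/-! ### the subgroup generated by the first four letters -/

/-- the subgroup generated by the first four letters -/
noncomputable def L : Subgroup G := Subgroup.closure (lK '' Set.Iio 4)

theorem lK_mem_L {x : ℕ} (hx : x < 4) : lK x ∈ L := Subgroup.subset_closure ⟨x, hx, rfl⟩

/-- the first four letters in the subgroup -/
noncomputable def lK1 (x : ℕ) : ↥L := if h : x < 4 then ⟨lK x, lK_mem_L h⟩ else 1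

theorem lK1_val {x : ℕ} (hx : x < 4) : (lK1 x : G) = lK x := by
  rw [lK1, dif_pos hx]

theorem lK1_of_ge {x : ℕ} (hx : 4 ≤ x) : lK1 x = 1 := by
  rw [lK1, dif_neg (by omega)]

theorem wd_lK1_val : ∀ w : List ℕ, (∀ x ∈ w, x < 4) → ((VCert.wd lK1 w : ↥L) : G) = VCert.wd lK w
  | [], _ => rfl
  | x :: w, h => by
    rw [VCert.wd_cons, VCert.wd_cons, Subgroup.coe_mul, lK1_val (h x List.mem_cons_self),
      wd_lK1_val w fun y hy => h y (List.mem_cons_of_mem _ hy)]

theorem lK1_iv {x : ℕ} (hx : x < 4) : lK1 (Nat.xor x 1) = (lK1 x)⁻¹ := by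
  have hx' : Nat.xor x 1 < 4 := by
    have : x = 0 ∨ x = 1 ∨ x = 2 ∨ x = 3 := by omega
    rcases this with rfl | rfl | rfl | rfl <;> decide
  apply Subtype.ext
  rw [Subgroup.coe_inv, lK1_val hx', lK1_val hx, lK_iv (by omega)]

theorem closure_lK1 : Subgroup.closure (lK1 '' Set.Iio 4) = ⊤ := by
  have h := Subgroup.closure_closure_coe_preimage (k := lK '' Set.Iio 4)
  have e : ((↑) ⁻¹' (lK '' Set.Iio 4) : Set ↥(Subgroup.closure (lK '' Set.Iio 4))) = lK1 '' Set.Iio 4 := by
    ext z
    constructor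
    · rintro ⟨x, hx, hz⟩
      exact ⟨x, hx, Subtype.ext (by rw [lK1_val hx]; exact hz)⟩
    · rintro ⟨x, hx, rfl⟩
      exact ⟨x, hx, (lK1_val hx).symm⟩
  rw [e] at h
  exact h

theorem matOK6_of_matOK4 {w : List ℕ} (h : O73CV3.matOK4 w = true) : O73CV3.matOK6 w = true := by
  rw [O73CV3.matOK4, Bool.and_eq_true] at h
  rw [O73CV3.matOK6, Bool.and_eq_true]
  refine ⟨?_, h.2⟩
  rw [List.all_eq_true]
  intro x hx
  have := List.all_eq_true.1 h.1 x hx
  have h4 : x < 4 := by simpa [Nat.blt] using this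
  have h6 : x < 6 := by omega
  simpa [Nat.blt] using h6

theorem wd_lK1_eq_one {w : List ℕ} (h : O73CV3.matOK4 w = true) : VCert.wd lK1 w = 1 := by
  have hw : ∀ x ∈ w, x < 4 := by
    rw [O73CV3.matOK4, Bool.and_eq_true] at h
    exact fun x hx => by simpa [Nat.blt] using List.all_eq_true.1 h.1 x hx
  apply Subtype.ext
  rw [wd_lK1_val w hw, wd_lK_eq_one (matOK6_of_matOK4 h)]
  rfl

/-! ### the words of the certificates -/

theorem wd_lK1_W {i : ℕ} (hi : i < 65) : VCert.wd lK1 (O73C1.cert.W i) = 1 :=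
  wd_lK1_eq_one (O73CV3.chk_triv1 hi)

theorem wd_lK_W {i : ℕ} (hi : i < 132) : VCert.wd lK (O73C2.cert.W i) = 1 :=
  wd_lK_eq_one (O73CV3.chk_triv2 hi)

/-! ### the order of `v` -/

theorem lK1_two_pow : lK1 2 ^ 7 = 1 := by
  have h := wd_lK1_eq_one O73CV3.chk_v7
  rw [wd_wpow, VCert.wd_cons, VCert.wd_nil, mul_one] at h
  exact h

theorem lK_two_ne : lK 2 ≠ 1 := by
  intro h
  have h0 : O73CV3.lK 2 = 1 := by
    have := congrArg Subtype.val h
    rw [lK, O73CV3.lK1_val (by norm_num)] at this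
    exact this
  have h1 := O73CV3.mtx_lK 2
  rw [h0, O73CV3.mtx_one] at h1
  obtain ⟨a, b, hab, hne⟩ := O73CV3.chk_v_move
  apply hne
  rw [← h1]
  exact Matrix.one_apply_ne (fun h => hab (Sum.inl_injective (Sum.inr_injective h)))

theorem lK1_two_ne : lK1 2 ≠ 1 := by
  intro h
  have h1 : lK 2 = 1 := by
    have := congrArg Subtype.val h
    rw [lK1_val (by norm_num)] at this
    exact this
  exact lK_two_ne h1

theorem dvd_of_lK1_two_pow {i : ℕ} (h : lK1 2 ^ i = 1) : 7 ∣ i := by
  have h1 : orderOf (lK1 2) ∣ 7 := orderOf_dvd_of_pow_eq_one lK1_two_pow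
  have h2 : orderOf (lK1 2) = 1 ∨ orderOf (lK1 2) = 7 := (Nat.dvd_prime (by norm_num)).1 h1
  rcases h2 with h2 | h2
  · exact absurd (orderOf_eq_one_iff.1 h2) lK1_two_ne
  · rw [← h2]
    exact orderOf_dvd_of_pow_eq_one h

/-! ### the orders -/

/-- the letters of the subgroup of the second table -/
theorem lt_four_of_sub {x : ℕ} (hx : (Nat.beq x 0 || Nat.beq x 1 || Nat.beq x 2 || Nat.beq x 3) = true) : x < 4 := by
  rw [Bool.or_eq_true, Bool.or_eq_true, Bool.or_eq_true] at hx
  rcases hx with ((h | h) | h) | h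
  · rw [Nat.eq_of_beq_eq_true h]; norm_num
  · rw [Nat.eq_of_beq_eq_true h]; norm_num
  · rw [Nat.eq_of_beq_eq_true h]; norm_num
  · rw [Nat.eq_of_beq_eq_true h]; norm_num

instance instFiniteL : Finite ↥L := inferInstance

theorem hgen_L : ∀ y : ↥L, ∃ u : List ℕ, (∀ x ∈ u, x < O73C1.cert.g) ∧ y = (u.map lK1).prod := by
  apply MG.exists_word_of_closure lK1 4 (fun x => Nat.xor x 1) _ closure_lK1
  intro x hx
  refine ⟨?_, lK1_iv hx⟩
  have : x = 0 ∨ x = 1 ∨ x = 2 ∨ x = 3 := by omega
  rcases this with rfl | rfl | rfl | rfl <;> decide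

theorem hgen_G : ∀ y : G, ∃ u : List ℕ, (∀ x ∈ u, x < O73C2.cert.g) ∧ y = (u.map lK).prod := by
  apply MG.exists_word_of_closure lK 6 (fun x => Nat.xor x 1) _ closure_lK
  intro x hx
  refine ⟨?_, lK_iv hx⟩
  have : x = 0 ∨ x = 1 ∨ x = 2 ∨ x = 3 ∨ x = 4 ∨ x = 5 := by omega
  rcases this with rfl | rfl | rfl | rfl | rfl | rfl <;> decide

theorem card_L_le : Nat.card ↥L ≤ 6048 := by
  have h := card_le_Zc (MonoidHom.id ↥L) O73C1.cert lK1 (fun _ => 1) 2 7 (by decide) (by norm_num)
    (fun i hi => dvd_of_lK1_two_pow hi) lK1_two_pow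
    (by
      intro x hx
      rcases eq_two_or_three hx with rfl | rfl
      · exact Subgroup.mem_zpowers _
      · have : lK1 3 = (lK1 2)⁻¹ := lK1_iv (x := 2) (by norm_num)
        rw [this]
        exact Subgroup.inv_mem _ (Subgroup.mem_zpowers _))
    (fun j _ => Subgroup.one_mem _) hgen_L (by decide) (by decide)
    (fun x hx => lK1_iv hx)
    (fun i hi => by rw [MonoidHom.mem_ker]; exact wd_lK1_W hi)
    (fun i hi _ => by rw [wd_lK1_W hi, VCert.ek, O73C1.cert.kap_triv _ (fun _ _ => rfl)]; rfl)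
    O73C1.cert_all O73C1.cert_wall
  rw [Zc_eq_bot_of_triv _ _ (fun _ _ => rfl), Subgroup.card_bot] at h
  exact h

theorem index_L_le : L.index ≤ 240 ∧ L.index ≠ 0 := by
  refine O73C2.cert.index_le (γ := lK) (H := L) (z := fun _ => 1) ⊥ ?_ ?_ ?_ (by decide) (by decide)
    (fun x hx => lK_iv hx) ?_ ?_ ?_ O73C2.cert_all O73C2.cert_wall L le_rfl ?_ hgen_G (by decide)
  · intro u hu g
    rw [Subgroup.mem_bot] at hu
    rw [hu, mul_one, mul_inv_cancel]
    exact Subgroup.one_mem _
  · intro j _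
    exact Subgroup.one_mem _
  · intro u _ hu
    exact Subgroup.mem_bot.1 hu
  · intro x hx
    exact lK_mem_L (lt_four_of_sub hx)
  · intro i hi
    rw [Subgroup.mem_bot]
    exact wd_lK_W hi
  · intro i hi _
    rw [wd_lK_W hi, VCert.ek, O73C2.cert.kap_triv _ (fun _ _ => rfl)]
    rfl
  · intro j _
    exact Subgroup.one_mem _

theorem card_G_le : Nat.card G ≤ 1451520 := by
  have h1 := Subgroup.card_mul_index L
  obtain ⟨h2, _⟩ := index_L_le
  have h3 := card_L_le
  have : Nat.card ↥L * L.index ≤ 6048 * 240 := Nat.mul_le_mul h3 h2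
  omega

theorem card_G : Nat.card G = 1451520 := by
  apply le_antisymm card_G_le
  have h1 : Nat.card G * O73CV3.L.index = 4585351680 := by
    rw [← O73B.card_G]
    exact Subgroup.card_mul_index O73CV3.L
  obtain ⟨h2, _⟩ := O73CV3.index_L_le
  by_contra hlt
  have h3 : Nat.card G ≤ 1451519 := by omega
  have : Nat.card G * O73CV3.L.index ≤ 1451519 * 3159 := Nat.mul_le_mul h3 h2
  omega

theorem card_L : Nat.card ↥L = 6048 := by
  apply le_antisymm card_L_le
  have h1 := Subgroup.card_mul_index L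
  rw [card_G] at h1
  obtain ⟨h2, _⟩ := index_L_le
  by_contra hlt
  have h3 : Nat.card ↥L ≤ 6047 := by omega
  have : Nat.card ↥L * L.index ≤ 6047 * 240 := Nat.mul_le_mul h3 h2
  omega

/-! ### the subgroups are perfect -/

theorem closure_pair_L : Subgroup.closure {lK1 0, lK1 2} = (⊤ : Subgroup ↥L) := by
  rw [eq_top_iff, ← closure_lK1, Subgroup.closure_le]
  rintro _ ⟨x, hx, rfl⟩
  have hx' : x < 4 := hx
  have : x = 0 ∨ x = 1 ∨ x = 2 ∨ x = 3 := by omega
  rcases this with rfl | rfl | rfl | rfl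
  · exact Subgroup.subset_closure (by simp)
  · have : lK1 1 = (lK1 0)⁻¹ := lK1_iv (x := 0) (by norm_num)
    rw [SetLike.mem_coe, this]
    exact inv_mem (Subgroup.subset_closure (by simp))
  · exact Subgroup.subset_closure (by simp)
  · have : lK1 3 = (lK1 2)⁻¹ := lK1_iv (x := 2) (by norm_num)
    rw [SetLike.mem_coe, this]
    exact inv_mem (Subgroup.subset_closure (by simp))

theorem L_perfect : commutator ↥L = ⊤ := by
  have h2 : lK1 0 ^ 2 = 1 := by
    have h := wd_lK1_eq_one O73CV3.chk_u2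
    rw [wd_wpow, VCert.wd_cons, VCert.wd_nil, mul_one] at h
    exact h
  have h3 : (lK1 0 * lK1 2) ^ 7 = 1 := by
    have h := wd_lK1_eq_one O73CV3.chk_uv7
    rw [wd_wpow, VCert.wd_cons, VCert.wd_cons, VCert.wd_nil, mul_one] at h
    exact h
  have h4 : (lK1 0 * lK1 2 * lK1 2) ^ 6 = 1 := by
    have h := wd_lK1_eq_one O73CV3.chk_uvv6
    rw [wd_wpow, VCert.wd_cons, VCert.wd_cons, VCert.wd_cons, VCert.wd_nil, mul_one, ← mul_assoc] at h
    exact h
  exact M12Mult.perfect_of_pair closure_pair_L h2 lK1_two_pow h3 h4 (by norm_num) (by norm_num)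

theorem L_le_commutator : L ≤ commutator G := by
  have h1 : (commutator ↥L).map L.subtype ≤ commutator G := by
    rw [commutator_def, Subgroup.map_commutator, commutator_def]
    exact Subgroup.commutator_mono le_top le_top
  rw [L_perfect, ← MonoidHom.range_eq_map, Subgroup.range_subtype] at h1
  exact h1

theorem G_perfect : commutator G = ⊤ := by
  set K := commutator G with hK
  set π := QuotientGroup.mk' K with hπ
  have hu : lK 0 ∈ K := L_le_commutator (lK_mem_L (by norm_num))
  have hv : lK 2 ∈ K := L_le_commutator (lK_mem_L (by norm_num))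
  have e0 : π (lK 0) = 1 := (QuotientGroup.eq_one_iff _).2 hu
  have e2 : π (lK 2) = 1 := (QuotientGroup.eq_one_iff _).2 hv
  have h7 : (lK 4 * lK 0 * lK 2) ^ 7 = 1 := by
    have h := wd_lK_eq_one O73CV3.chk_y7
    rw [wd_wpow, VCert.wd_cons, VCert.wd_cons, VCert.wd_cons, VCert.wd_nil, mul_one, ← mul_assoc] at h
    exact h
  have h2 : lK 4 ^ 2 = 1 := by
    have h := wd_lK_eq_one O73CV3.chk_t2
    rw [wd_wpow, VCert.wd_cons, VCert.wd_nil, mul_one] at h
    exact h
  have e7 : π (lK 4) ^ 7 = 1 := by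
    have := congrArg π h7
    rw [map_pow, map_mul, map_mul, e0, e2, mul_one, mul_one, map_one] at this
    exact this
  have e22 : π (lK 4) ^ 2 = 1 := by rw [← map_pow, h2, map_one]
  have et : π (lK 4) = 1 := by
    have : π (lK 4) = π (lK 4) ^ 7 * ((π (lK 4) ^ 2) ^ 3)⁻¹ := by
      rw [← pow_mul]; group
    rw [this, e7, e22, one_pow, inv_one, mul_one]
  have ht : lK 4 ∈ K := (QuotientGroup.eq_one_iff _).1 et
  rw [eq_top_iff, ← closure_lK, Subgroup.closure_le]
  rintro _ ⟨x, hx, rfl⟩
  have hx' : x < 6 := hx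
  have : x = 0 ∨ x = 1 ∨ x = 2 ∨ x = 3 ∨ x = 4 ∨ x = 5 := by omega
  rcases this with rfl | rfl | rfl | rfl | rfl | rfl
  · exact hu
  · exact L_le_commutator (lK_mem_L (by norm_num))
  · exact hv
  · exact L_le_commutator (lK_mem_L (by norm_num))
  · exact ht
  · have : lK 5 = (lK 4)⁻¹ := lK_iv (x := 4) (by norm_num)
    rw [SetLike.mem_coe, this]
    exact inv_mem ht

end Cfsg.Agent.Lib.Helper7.O73CV2
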