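import Cfsg.Agent.Lib.Helper7.O73BaseC
import Cfsg.Agent.Lib.Helper7.O73C3D

/-! # The orthogonal group of dimension seven over the field of three elements, the chain C: the words of the certificate of the table of the group are trivial, part 1 (generated) -/

set_option autoImplicit false
set_option maxRecDepth 100000

namespace Cfsg.Agent.Lib.Helper7.O73CV3

open Cfsg Cfsg.Agent.Lib.Helper7.MG Cfsg.Agent.Lib.Helper7.HSMult

theorem chk_triv3_12 : (allN 40 fun i => strictL (O73C3.cert.W (Nat.add 480 i)) fun w => matOK w) = true := by
  decide +kernel

theorem chk_triv3_13 : (allN 40 fun i => strictL (O73C3.cert.W (Nat.add 520 i)) fun w => matOK w) = true := by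
  decide +kernel

theorem chk_triv3_14 : (allN 40 fun i => strictL (O73C3.cert.W (Nat.add 560 i)) fun w => matOK w) = true := by
  decide +kernel

theorem chk_triv3_15 : (allN 40 fun i => strictL (O73C3.cert.W (Nat.add 600 i)) fun w => matOK w) = true := by
  decide +kernel

theorem chk_triv3_16 : (allN 40 fun i => strictL (O73C3.cert.W (Nat.add 640 i)) fun w => matOK w) = true := by
  decide +kernel

theorem chk_triv3_17 : (allN 40 fun i => strictL (O73C3.cert.W (Nat.add 680 i)) fun w => matOK w) = true := by
  decide +kernel

theorem chk_triv3_18 : (allN 40 fun i => strictL (O73C3.cert.W (Nat.add 720 i)) fun w => matOK w) = true := by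
  decide +kernel

theorem chk_triv3_19 : (allN 40 fun i => strictL (O73C3.cert.W (Nat.add 760 i)) fun w => matOK w) = true := by
  decide +kernel

theorem chk_triv3_20 : (allN 40 fun i => strictL (O73C3.cert.W (Nat.add 800 i)) fun w => matOK w) = true := by
  decide +kernel

theorem chk_triv3_21 : (allN 40 fun i => strictL (O73C3.cert.W (Nat.add 840 i)) fun w => matOK w) = true := by
  decide +kernel

theorem chk_triv3_22 : (allN 40 fun i => strictL (O73C3.cert.W (Nat.add 880 i)) fun w => matOK w) = true := by
  decide +kernel

theorem chk_triv3_23 : (allN 40 fun i => strictL (O73C3.cert.W (Nat.add 920 i)) fun w => matOK w) = true := by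
  decide +kernel

end Cfsg.Agent.Lib.Helper7.O73CV3
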