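import Cfsg.Agent.Lib.Helper7.O73BaseC
import Cfsg.Agent.Lib.Helper7.O73C3D

/-! # The orthogonal group of dimension seven over the field of three elements, the chain C: the words of the certificate of the table of the group are trivial, part 2 (generated) -/

set_option autoImplicit false
set_option maxRecDepth 100000

namespace Cfsg.Agent.Lib.Helper7.O73CV3

open Cfsg Cfsg.Agent.Lib.Helper7.MG Cfsg.Agent.Lib.Helper7.HSMult

theorem chk_triv3_24 : (allN 40 fun i => strictL (O73C3.cert.W (Nat.add 960 i)) fun w => matOK w) = true := by
  decide +kernel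

theorem chk_triv3_25 : (allN 40 fun i => strictL (O73C3.cert.W (Nat.add 1000 i)) fun w => matOK w) = true := by
  decide +kernel

theorem chk_triv3_26 : (allN 40 fun i => strictL (O73C3.cert.W (Nat.add 1040 i)) fun w => matOK w) = true := by
  decide +kernel

theorem chk_triv3_27 : (allN 40 fun i => strictL (O73C3.cert.W (Nat.add 1080 i)) fun w => matOK w) = true := by
  decide +kernel

theorem chk_triv3_28 : (allN 40 fun i => strictL (O73C3.cert.W (Nat.add 1120 i)) fun w => matOK w) = true := by
  decide +kernel

theorem chk_triv3_29 : (allN 40 fun i => strictL (O73C3.cert.W (Nat.add 1160 i)) fun w => matOK w) = true := by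
  decide +kernel

theorem chk_triv3_30 : (allN 40 fun i => strictL (O73C3.cert.W (Nat.add 1200 i)) fun w => matOK w) = true := by
  decide +kernel

theorem chk_triv3_31 : (allN 40 fun i => strictL (O73C3.cert.W (Nat.add 1240 i)) fun w => matOK w) = true := by
  decide +kernel

theorem chk_triv3_32 : (allN 40 fun i => strictL (O73C3.cert.W (Nat.add 1280 i)) fun w => matOK w) = true := by
  decide +kernel

theorem chk_triv3_33 : (allN 40 fun i => strictL (O73C3.cert.W (Nat.add 1320 i)) fun w => matOK w) = true := by
  decide +kernel

theorem chk_triv3_34 : (allN 40 fun i => strictL (O73C3.cert.W (Nat.add 1360 i)) fun w => matOK w) = true := by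
  decide +kernel

theorem chk_triv3_35 : (allN 40 fun i => strictL (O73C3.cert.W (Nat.add 1400 i)) fun w => matOK w) = true := by
  decide +kernel

end Cfsg.Agent.Lib.Helper7.O73CV3
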