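import Cfsg.Agent.Lib.Helper7.O73GrpC3w0
import Cfsg.Agent.Lib.Helper7.O73GrpC3w1
import Cfsg.Agent.Lib.Helper7.O73GrpC3w2

/-!
# The orthogonal group of dimension seven over the field of three elements, the chain C: the words of the certificate of the table of the group, the index of the subgroup `L`

All the words of the certificate are trivial in the group, so the subgroup `L` generated by the first six letters has
index at most 3159.
-/

set_option autoImplicit false
set_option maxRecDepth 100000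

namespace Cfsg.Agent.Lib.Helper7.O73CV3

open Cfsg Cfsg.Agent.Lib.Helper7.MG Cfsg.Agent.Lib.Helper7.HSMult

theorem chk_triv3_all : ∀ k, k < 36 →
    (allN 40 fun i => strictL (O73C3.cert.W (Nat.add (40 * k) i)) fun w => matOK w) = true
  | 0, _ => chk_triv3_0
  | 1, _ => chk_triv3_1
  | 2, _ => chk_triv3_2
  | 3, _ => chk_triv3_3
  | 4, _ => chk_triv3_4
  | 5, _ => chk_triv3_5
  | 6, _ => chk_triv3_6
  | 7, _ => chk_triv3_7
  | 8, _ => chk_triv3_8
  | 9, _ => chk_triv3_9
  | 10, _ => chk_triv3_10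
  | 11, _ => chk_triv3_11
  | 12, _ => chk_triv3_12
  | 13, _ => chk_triv3_13
  | 14, _ => chk_triv3_14
  | 15, _ => chk_triv3_15
  | 16, _ => chk_triv3_16
  | 17, _ => chk_triv3_17
  | 18, _ => chk_triv3_18
  | 19, _ => chk_triv3_19
  | 20, _ => chk_triv3_20
  | 21, _ => chk_triv3_21
  | 22, _ => chk_triv3_22
  | 23, _ => chk_triv3_23
  | 24, _ => chk_triv3_24
  | 25, _ => chk_triv3_25
  | 26, _ => chk_triv3_26
  | 27, _ => chk_triv3_27
  | 28, _ => chk_triv3_28
  | 29, _ => chk_triv3_29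
  | 30, _ => chk_triv3_30
  | 31, _ => chk_triv3_31
  | 32, _ => chk_triv3_32
  | 33, _ => chk_triv3_33
  | 34, _ => chk_triv3_34
  | 35, _ => chk_triv3_35
  | k + 36, h => absurd h (by omega)

theorem chk_triv3 {i : ℕ} (hi : i < 1420) : matOK (O73C3.cert.W i) = true := by
  have h := chk_triv3_all (i / 40) (by omega)
  rw [allN_iff] at h
  have h1 := h (i % 40) (Nat.mod_lt _ (by norm_num))
  rw [strictL_eq] at h1
  have e : Nat.add (40 * (i / 40)) (i % 40) = i := Nat.div_add_mod i 40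
  rw [e] at h1
  exact h1

theorem wd_lK_W {i : ℕ} (hi : i < 1420) : VCert.wd lK (O73C3.cert.W i) = 1 :=
  wd_lK_eq_one (chk_triv3 hi)

/-- the letters of the subgroup of the table -/
theorem lt_six_of_sub {x : ℕ}
    (hx : (Nat.beq x 0 || Nat.beq x 1 || Nat.beq x 2 || Nat.beq x 3 || Nat.beq x 4 || Nat.beq x 5) = true) : x < 6 := by
  rw [Bool.or_eq_true, Bool.or_eq_true, Bool.or_eq_true, Bool.or_eq_true, Bool.or_eq_true] at hx
  rcases hx with ((((h | h) | h) | h) | h) | h
  · rw [Nat.eq_of_beq_eq_true h]; norm_num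
  · rw [Nat.eq_of_beq_eq_true h]; norm_num
  · rw [Nat.eq_of_beq_eq_true h]; norm_num
  · rw [Nat.eq_of_beq_eq_true h]; norm_num
  · rw [Nat.eq_of_beq_eq_true h]; norm_num
  · rw [Nat.eq_of_beq_eq_true h]; norm_num

theorem hgen_G : ∀ y : G, ∃ u : List ℕ, (∀ x ∈ u, x < O73C3.cert.g) ∧ y = (u.map lK).prod := by
  apply MG.exists_word_of_closure lK 8 (fun x => Nat.xor x 1) _ closure_lK
  intro x hx
  refine ⟨?_, lK_iv hx⟩
  have : x = 0 ∨ x = 1 ∨ x = 2 ∨ x = 3 ∨ x = 4 ∨ x = 5 ∨ x = 6 ∨ x = 7 := by omega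
  rcases this with rfl | rfl | rfl | rfl | rfl | rfl | rfl | rfl <;> decide

theorem index_L_le : L.index ≤ 3159 ∧ L.index ≠ 0 := by
  refine O73C3.cert.index_le (γ := lK) (H := L) (z := fun _ => 1) ⊥ ?_ ?_ ?_ (by decide) (by decide)
    (fun x hx => lK_iv hx) ?_ ?_ ?_ O73C3.cert_all O73C3.cert_wall L le_rfl ?_ hgen_G (by decide)
  · intro u hu g
    rw [Subgroup.mem_bot] at hu
    rw [hu, mul_one, mul_inv_cancel]
    exact Subgroup.one_mem _
  · intro j _
    exact Subgroup.one_mem _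
  · intro u _ hu
    exact Subgroup.mem_bot.1 hu
  · intro x hx
    exact lK_mem_L (lt_six_of_sub hx)
  · intro i hi
    rw [Subgroup.mem_bot]
    exact wd_lK_W hi
  · intro i hi _
    rw [wd_lK_W hi, VCert.ek, O73C3.cert.kap_triv _ (fun _ _ => rfl)]
    rfl
  · intro j _
    exact Subgroup.one_mem _

end Cfsg.Agent.Lib.Helper7.O73CV3
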