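import Cfsg.Agent.Lib.Helper7.O73AMF
import Cfsg.Agent.Lib.Helper7.O73CMF
import Cfsg.Agent.Lib.Lead.POmegaTr
import Cfsg.Agent.Lib.Lead.StemQ.Mul

/-!
# The multiplier of the orthogonal group of dimension seven over the field of three elements is cyclic of order six

The two chains give a stem extension with kernel of order two and one with kernel of order three, and bounds for the
kernels of the stem extensions of order prime to three and of order prime to two.  They are put together, and the
statement is carried over from the presented group to the orthogonal group over any field of three elements.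
-/

set_option autoImplicit false
set_option maxRecDepth 100000

namespace Cfsg.Agent.Lib.Helper7.O73MZ

open Cfsg Cfsg.Agent.Lib.Helper7.MG Cfsg.Agent.Lib.Helper7.HSMult
open Cfsg.Agent.Lib.Lead.StemQ

universe u

/-- the kernel does not change when an isomorphism is applied after the homomorphism -/
theorem ker_comp_equiv {Γ : Type*} {G : Type*} {G' : Type*} [Group Γ] [Group G] [Group G'] (e : G' ≃* G)
    (σ : Γ →* G') : (e.toMonoidHom.comp σ).ker = σ.ker := by
  ext x
  rw [MonoidHom.mem_ker, MonoidHom.mem_ker]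
  show e (σ x) = 1 ↔ σ x = 1
  exact MulEquiv.map_eq_one_iff e

theorem stem_comp_equiv_left {Γ : Type*} {G : Type*} {G' : Type*} [Group Γ] [Group G] [Group G'] (e : G' ≃* G)
    (σ : Γ →* G') (h : IsStemExtension σ) : IsStemExtension (e.toMonoidHom.comp σ) := by
  obtain ⟨hs, hc, hd⟩ := h
  refine ⟨e.surjective.comp hs, ?_, ?_⟩
  · rw [ker_comp_equiv]
    exact hc
  · rw [ker_comp_equiv]
    exact hd

/-- the orthogonal group over a field of three elements is isomorphic to the presented group -/
theorem equivG {F : Type u} [Field F] [Fintype F] (hF : Fintype.card F = 3) :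
    Nonempty (Cfsg.POmega F (Cfsg.quadFormOdd 3 F) ≃* O73B.G) := by
  obtain ⟨e0⟩ : Nonempty (F ≃+* ZMod 3) := ⟨FiniteField.ringEquivOfCardEq (by rw [hF, ZMod.card])⟩
  exact ⟨(Cfsg.Agent.Lib.Lead.POmegaTr.pomegaOddEquiv e0 3).trans
    (MulEquiv.ofBijective O73I.ψ O73I.ψ_bijective).symm⟩

/-- **the kernel of every finite stem extension of the orthogonal group is an image of the cyclic group of order
six** -/
theorem bound {F : Type u} [Field F] [Fintype F] (hF : Fintype.card F = 3) :
    ∀ (Γ : Type u) [Group Γ] [Finite Γ] (σ : Γ →* Cfsg.POmega F (Cfsg.quadFormOdd 3 F)), IsStemExtension σ →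
      ∃ π : Multiplicative (ZMod (2 * 3)) →* σ.ker, Function.Surjective π := by
  obtain ⟨e⟩ := equivG hF
  have : Finite (Cfsg.POmega F (Cfsg.quadFormOdd 3 F)) := Finite.of_equiv _ e.symm.toEquiv
  refine stem_bound_mul 2 3 (by norm_num) (by norm_num) (by norm_num) ?_ ?_
  · intro Γ _ _ σ hσ hc
    have h1 := stem_comp_equiv_left e σ hσ
    have h2 := O73A3.exists_surj_of_stem (e.toMonoidHom.comp σ) h1.1 h1.2.1 h1.2.2 (by
      rw [ker_comp_equiv]
      exact hc)
    rwa [ker_comp_equiv] at h2
  · intro Γ _ _ σ hσ hc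
    have h1 := stem_comp_equiv_left e σ hσ
    have h2 := O73C3.exists_surj_of_stem (e.toMonoidHom.comp σ) h1.1 h1.2.1 h1.2.2 (by
      rw [ker_comp_equiv]
      exact hc)
    rwa [ker_comp_equiv] at h2

/-- **a stem extension of the orthogonal group whose kernel is cyclic of order six** -/
theorem exists_cover {F : Type u} [Field F] [Fintype F] (hF : Fintype.card F = 3) :
    ∃ (Γ : Type u) (_ : Group Γ) (_ : Finite Γ) (σ : Γ →* Cfsg.POmega F (Cfsg.quadFormOdd 3 F)),
      IsStemExtension σ ∧ Nonempty (σ.ker ≃* Multiplicative (ZMod (2 * 3))) := by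
  obtain ⟨e⟩ := equivG hF
  refine stem_exists_mul 2 3 (by norm_num) (by norm_num) (by norm_num) ?_ ?_
  · obtain ⟨iso⟩ := O73AM.ker_GE
    obtain ⟨h1, ⟨iso'⟩⟩ := stem_comp_equiv (MulEquiv.ulift (α := ↥O73AM.GE)) e.symm O73AM.sigE O73AM.stem_GE
    exact ⟨ULift ↥O73AM.GE, inferInstance, inferInstance, _, h1, ⟨iso'.trans iso⟩⟩
  · obtain ⟨iso⟩ := O73CM.ker_GE
    obtain ⟨h1, ⟨iso'⟩⟩ := stem_comp_equiv (MulEquiv.ulift (α := ↥O73CM.GE)) e.symm O73CM.sigE O73CM.stem_GE
    exact ⟨ULift ↥O73CM.GE, inferInstance, inferInstance, _, h1, ⟨iso'.trans iso⟩⟩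

/-- **the Schur multiplier of the orthogonal group of dimension seven over a field of three elements is cyclic of
order six** -/
theorem multiplier_o73 {F : Type u} [Field F] [Fintype F] (hF : Fintype.card F = 3) :
    Cfsg.HasCyclicSchurMultiplier (Cfsg.POmega F (Cfsg.quadFormOdd 3 F)) 6 :=
  ⟨exists_cover hF, bound hF⟩

end Cfsg.Agent.Lib.Helper7.O73MZ
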