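import Mathlib
import Cfsg.Agent.Lib.Helper5.Ord2.Kit4
import Cfsg.Agent.Lib.Helper5.Ord2.Count

/-!
# No simple group of order 7980

(author: helper7, following helper5's counting method of `O35112`.)
`7980 = 2^2 * 3 * 5 * 7 * 19`.  `n_19 = 210` with `C(P_19) = P_19` gives `3780` elements of order
divisible by `19`; `n_5 = 266` with `|C(P_5)| = 15` gives `3192` elements of order divisible by `5`;
`n_7 ∈ {57, 190}` gives at least `1140` elements of order divisible by `7`.  These sets are pairwise
disjoint and `3780 + 3192 + 1140 = 8112 > 7980`.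
-/

set_option autoImplicit false
set_option linter.style.haveILetI false
set_option linter.unusedTactic false
set_option linter.unreachableTactic false

namespace Cfsg.Agent.Lib.Helper7.O7980

open MulAction Cfsg.Agent.Lib.Helper5.OrdKit Cfsg.Agent.Lib.Helper5.O5040
  Cfsg.Agent.Lib.Helper5.OrdCount

variable {G : Type*} [Group G] [Finite G] [IsSimpleGroup G]

theorem data19 (hn : Nat.card G = 7980) [h19 : Fact (Nat.Prime 19)] (P : Sylow 19 G) :
    Nat.card (P : Subgroup G) = 19 ∧ Nat.card (Sylow 19 G) = 210 ∧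
      Nat.card (Subgroup.centralizer ((P : Subgroup G) : Set G)) = 19 := by
  haveI h7 : Fact (Nat.Prime 7) := ⟨by norm_num⟩
  have hn' : Nat.card G = 19 * 420 := by rw [hn]
  have hP : Nat.card (P : Subgroup G) = 19 := card_sylow_prime 420 hn' (by norm_num) P
  have hlt : 19 < Nat.card G := by rw [hn]; norm_num
  obtain ⟨k, hk1, hk2, hk3, hk4, hk5⟩ := sylow_count 420 hn' (by norm_num) (by norm_num) P
  obtain ⟨d, hd, hNC⟩ := card_normalizer_eq_mul P hP
  have hd' : d ∣ 18 := hd
  have hdle : d ≤ 18 := Nat.le_of_dvd (by norm_num) hd'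
  have hk : k = 20 ∨ k = 210 := by
    have hkle : k ≤ 420 := Nat.le_of_dvd (by norm_num) hk1
    obtain ⟨j, rfl⟩ : ∃ j, k = 19 * j + 1 := ⟨k / 19, by omega⟩
    have hj : j ≤ 22 := by omega
    interval_cases j <;> first | omega | (exfalso; revert hk1; decide)
  rcases hk with rfl | rfl
  · exfalso
    have hN : Nat.card (Subgroup.normalizer ((P : Subgroup G) : Set G)) = 399 := by
      rw [hn] at hk4; omega
    rw [hN] at hNC
    have h7C : 7 ∣ Nat.card (Subgroup.centralizer ((P : Subgroup G) : Set G)) := by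
      interval_cases d <;> first | omega | (exfalso; revert hd'; decide)
    obtain ⟨f, hf1, hf2, hf3⟩ := k3 P hP hlt 7 h7C
    rw [hk5] at hf2 hf3
    omega
  · have hN : Nat.card (Subgroup.normalizer ((P : Subgroup G) : Set G)) = 38 := by
      rw [hn] at hk4; omega
    rw [hN] at hNC
    refine ⟨hP, P.card_eq_index_normalizer.trans hk5, ?_⟩
    have hd2 : d = 1 ∨ d = 2 := by
      interval_cases d <;> first | omega | (exfalso; revert hd'; decide)
    rcases hd2 with rfl | rfl
    · exfalso
      exact burnside P hP hlt (by omega)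
    · omega

theorem data5 (hn : Nat.card G = 7980) [h5 : Fact (Nat.Prime 5)] (P : Sylow 5 G) :
    Nat.card (P : Subgroup G) = 5 ∧ Nat.card (Sylow 5 G) = 266 ∧
      Nat.card (Subgroup.centralizer ((P : Subgroup G) : Set G)) = 15 := by
  haveI h19 : Fact (Nat.Prime 19) := ⟨by norm_num⟩
  have hn' : Nat.card G = 5 * 1596 := by rw [hn]
  have hP : Nat.card (P : Subgroup G) = 5 := card_sylow_prime 1596 hn' (by norm_num) P
  have hlt : 5 < Nat.card G := by rw [hn]; norm_num
  have h2G : 2 < Nat.card G := by rw [hn]; norm_num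
  obtain ⟨k, hk1, hk2, hk3, hk4, hk5⟩ := sylow_count 1596 hn' (by norm_num) (by norm_num) P
  obtain ⟨d, hd, hNC⟩ := card_normalizer_eq_mul P hP
  have hd' : d ∣ 4 := hd
  have hdle : d ≤ 4 := Nat.le_of_dvd (by norm_num) hd'
  have hNtop := normalizer_ne_top P hP hlt
  have hk : k = 6 ∨ k = 21 ∨ k = 76 ∨ k = 266 ∨ k = 1596 := by
    have hkle : k ≤ 1596 := Nat.le_of_dvd (by norm_num) hk1
    obtain ⟨j, rfl⟩ : ∃ j, k = 5 * j + 1 := ⟨k / 5, by omega⟩
    have hj : j ≤ 319 := by omega
    interval_cases j <;> first | omega | (exfalso; revert hk1; decide)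
  rcases hk with rfl | rfl | rfl | rfl | rfl
  · exfalso
    have := index_bound h2G _ hNtop 6 hk5
    rw [hn] at this
    revert this; decide
  · exfalso
    have hN : Nat.card (Subgroup.normalizer ((P : Subgroup G) : Set G)) = 380 := by
      rw [hn] at hk4; omega
    rw [hN] at hNC
    have h19C : 19 ∣ Nat.card (Subgroup.centralizer ((P : Subgroup G) : Set G)) := by
      interval_cases d <;> first | omega | (exfalso; revert hd'; decide)
    obtain ⟨f, hf1, hf2, hf3⟩ := k3 P hP hlt 19 h19C
    rw [hk5] at hf2 hf3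
    omega
  · exfalso
    have hN : Nat.card (Subgroup.normalizer ((P : Subgroup G) : Set G)) = 105 := by
      rw [hn] at hk4; omega
    rw [hN] at hNC
    have hd1 : d = 1 := by
      interval_cases d <;> first | omega | (exfalso; revert hd'; decide)
    subst hd1
    exact burnside P hP hlt (by omega)
  · have hN : Nat.card (Subgroup.normalizer ((P : Subgroup G) : Set G)) = 30 := by
      rw [hn] at hk4; omega
    rw [hN] at hNC
    refine ⟨hP, P.card_eq_index_normalizer.trans hk5, ?_⟩
    have hd2 : d = 1 ∨ d = 2 := by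
      interval_cases d <;> first | omega | (exfalso; revert hd'; decide)
    rcases hd2 with rfl | rfl
    · exfalso
      exact burnside P hP hlt (by omega)
    · omega
  · exfalso
    have hN : Nat.card (Subgroup.normalizer ((P : Subgroup G) : Set G)) = 5 := by
      rw [hn] at hk4; omega
    rw [hN] at hNC
    have hd1 : d = 1 := by
      interval_cases d <;> first | omega | (exfalso; revert hd'; decide)
    subst hd1
    exact burnside P hP hlt (by omega)

theorem data7 (hn : Nat.card G = 7980) [h7 : Fact (Nat.Prime 7)] (P : Sylow 7 G) :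
    Nat.card (P : Subgroup G) = 7 ∧
      ((Nat.card (Sylow 7 G) = 57 ∧
          70 ≤ Nat.card (Subgroup.centralizer ((P : Subgroup G) : Set G))) ∨
        (Nat.card (Sylow 7 G) = 190 ∧
          7 ≤ Nat.card (Subgroup.centralizer ((P : Subgroup G) : Set G)))) := by
  have hn' : Nat.card G = 7 * 1140 := by rw [hn]
  have hP : Nat.card (P : Subgroup G) = 7 := card_sylow_prime 1140 hn' (by norm_num) P
  have hlt : 7 < Nat.card G := by rw [hn]; norm_num
  have h2G : 2 < Nat.card G := by rw [hn]; norm_num
  obtain ⟨k, hk1, hk2, hk3, hk4, hk5⟩ := sylow_count 1140 hn' (by norm_num) (by norm_num) P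
  obtain ⟨d, hd, hNC⟩ := card_normalizer_eq_mul P hP
  have hd' : d ∣ 6 := hd
  have hdle : d ≤ 6 := Nat.le_of_dvd (by norm_num) hd'
  have hNtop := normalizer_ne_top P hP hlt
  have hk : k = 15 ∨ k = 57 ∨ k = 190 := by
    have hkle : k ≤ 1140 := Nat.le_of_dvd (by norm_num) hk1
    obtain ⟨j, rfl⟩ : ∃ j, k = 7 * j + 1 := ⟨k / 7, by omega⟩
    have hj : j ≤ 162 := by omega
    interval_cases j <;> first | omega | (exfalso; revert hk1; decide)
  refine ⟨hP, ?_⟩
  rcases hk with rfl | rfl | rfl
  · exfalso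
    have := index_bound h2G _ hNtop 15 hk5
    rw [hn] at this
    revert this; decide
  · left
    have hN : Nat.card (Subgroup.normalizer ((P : Subgroup G) : Set G)) = 140 := by
      rw [hn] at hk4; omega
    rw [hN] at hNC
    refine ⟨P.card_eq_index_normalizer.trans hk5, ?_⟩
    interval_cases d <;> first | omega | (exfalso; revert hd'; decide)
  · right
    have hN : Nat.card (Subgroup.normalizer ((P : Subgroup G) : Set G)) = 42 := by
      rw [hn] at hk4; omega
    rw [hN] at hNC
    refine ⟨P.card_eq_index_normalizer.trans hk5, ?_⟩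
    interval_cases d <;> first | omega | (exfalso; revert hd'; decide)

theorem no_simple_7980 (hn : Nat.card G = 7980) : False := by
  haveI h19 : Fact (Nat.Prime 19) := ⟨by norm_num⟩
  haveI h5 : Fact (Nat.Prime 5) := ⟨by norm_num⟩
  haveI h7 : Fact (Nat.Prime 7) := ⟨by norm_num⟩
  obtain ⟨P19⟩ : Nonempty (Sylow 19 G) := inferInstance
  obtain ⟨P5⟩ : Nonempty (Sylow 5 G) := inferInstance
  obtain ⟨P7⟩ : Nonempty (Sylow 7 G) := inferInstance
  have hT19 := card_dvd_orderOf_ge (G := G) 19 (fun Q => (data19 hn Q).1) 1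
    (fun Q => by rw [(data19 hn Q).2.2])
  rw [(data19 hn P19).2.1] at hT19
  have hT5 := card_dvd_orderOf_ge (G := G) 5 (fun Q => (data5 hn Q).1) 3
    (fun Q => by rw [(data5 hn Q).2.2])
  rw [(data5 hn P5).2.1] at hT5
  have hT7 : 1140 ≤ Nat.card {g : G // 7 ∣ orderOf g} := by
    rcases (data7 hn P7).2 with ⟨hn7, -⟩ | ⟨hn7, -⟩
    · have := card_dvd_orderOf_ge (G := G) 7 (fun Q => (data7 hn Q).1) 10
        (fun Q => by
          rcases (data7 hn Q).2 with ⟨-, hc⟩ | ⟨h, -⟩
          · omega
          · omega)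
      rw [hn7] at this
      omega
    · have := card_dvd_orderOf_ge (G := G) 7 (fun Q => (data7 hn Q).1) 1
        (fun Q => by
          rcases (data7 hn Q).2 with ⟨h, -⟩ | ⟨-, hc⟩
          · omega
          · omega)
      rw [hn7] at this
      omega
  -- disjointness
  have h19_5 : ∀ g : G, 19 ∣ orderOf g → 5 ∣ orderOf g → False :=
    not_dvd_of_not_dvd_centralizer 19 5 (fun Q => (data19 hn Q).1)
      (fun Q => by rw [(data19 hn Q).2.2]; norm_num)
  have h19_7 : ∀ g : G, 19 ∣ orderOf g → 7 ∣ orderOf g → False :=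
    not_dvd_of_not_dvd_centralizer 19 7 (fun Q => (data19 hn Q).1)
      (fun Q => by rw [(data19 hn Q).2.2]; norm_num)
  have h5_7 : ∀ g : G, 5 ∣ orderOf g → 7 ∣ orderOf g → False :=
    not_dvd_of_not_dvd_centralizer 5 7 (fun Q => (data5 hn Q).1)
      (fun Q => by rw [(data5 hn Q).2.2]; norm_num)
  have hsum := card_three_le (G := G) 19 5 7 h19_5 h19_7 h5_7
  rw [hn] at hsum
  omega

end Cfsg.Agent.Lib.Helper7.O7980
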