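import Cfsg.Agent.Lib.Lead.O8P2.Model
import Cfsg.Agent.Lib.Helper7.O82BaseD
import Cfsg.Agent.Lib.Helper7.MGenG
import Cfsg.Agent.Lib.Helper7.MGenE

/-!
# The orthogonal group of dimension eight of plus type over the field of two elements, and six letters in it

The group is the group generated by the root elements of type D4 over the field of two elements, matrices with eight
rows, which permute the 256 vectors faithfully.  The six letters are `u`, `v`, `t` and their inverses, given as words
in the root elements; a word in the letters is trivial as soon as it fixes all the 256 numbers of the vectors.  Five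
root elements that generate the group are words in the letters, so the letters generate the group; `u` and `v`
generate a subgroup `L`.
-/

set_option autoImplicit false
set_option maxRecDepth 100000

namespace Cfsg.Agent.Lib.Helper7.O82B

open Cfsg Cfsg.Agent.Lib.Helper7.MG Cfsg.Agent.Lib.Helper7.HSMult Cfsg.Agent.Lib.Lead.O8P2

/-- the group -/
abbrev G : Type := G0

theorem chk_letW_lt : ∀ x, x < 6 → ∀ r ∈ letW x, r < 24 := by decide

theorem letW_ge {x : ℕ} (hx : 6 ≤ x) : letW x = [] := by
  obtain ⟨y, rfl⟩ : ∃ y, x = y + 6 := ⟨x - 6, by omega⟩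
  rfl

theorem letW_lt (x : ℕ) : ∀ r ∈ letW x, r < 24 := by
  rcases Nat.lt_or_ge x 6 with h | h
  · exact chk_letW_lt x h
  · rw [letW_ge h]
    intro r hr
    exact absurd hr List.not_mem_nil

/-- the six letters -/
noncomputable def lK (x : ℕ) : G := prodG (letW x)

theorem lK_of_ge {x : ℕ} (hx : 6 ≤ x) : lK x = 1 := by
  rw [lK, letW_ge hx]
  rfl

/-! ### the letters on the 256 numbers -/

/-- an entry of a packed table -/
def ent8 (t i : ℕ) : ℕ := Nat.land (Nat.shiftRight t (Nat.mul 8 i)) 255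

/-- the image of a number under a letter -/
def lk8 (x c : ℕ) : ℕ := cond (Nat.ble 6 x) c (ent8 (letT x) c)

theorem lk8_ge {x : ℕ} (hx : 6 ≤ x) (c : ℕ) : lk8 x c = c := by
  have h : Nat.ble 6 x = true := Nat.ble_eq_true_of_le hx
  rw [lk8, h]
  rfl

theorem chk_letT : ∀ x, x < 6 → ∀ c, c < 256 → actW (letW x) c = lk8 x c := by decide +kernel

theorem chk_lk8_lt : ∀ x, x < 6 → ∀ c, c < 256 → lk8 x c < 256 := by decide +kernel

theorem lk8_lt (x : ℕ) {c : ℕ} (hc : c < 256) : lk8 x c < 256 := by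
  rcases Nat.lt_or_ge x 6 with h | h
  · exact chk_lk8_lt x h c hc
  · rw [lk8_ge h]
    exact hc

/-- the image of a number under a word -/
def ev8 (w : List ℕ) (c : ℕ) : ℕ := List.rec c (fun x _ ih => lk8 x ih) w

theorem ev8_nil (c : ℕ) : ev8 [] c = c := rfl

theorem ev8_cons (x : ℕ) (w : List ℕ) (c : ℕ) : ev8 (x :: w) c = lk8 x (ev8 w c) := rfl

theorem ev8_lt : ∀ (w : List ℕ) {c : ℕ}, c < 256 → ev8 w c < 256
  | [], _, hc => hc
  | x :: w, _, hc => by
    rw [ev8_cons]
    exact lk8_lt x (ev8_lt w hc)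

theorem actW_append (a b : List ℕ) (c : ℕ) : actW (a ++ b) c = actW a (actW b c) := by
  unfold actW
  rw [List.foldr_append]

theorem actW_flat : ∀ (w : List ℕ) {c : ℕ}, c < 256 → actW (w.flatMap letW) c = ev8 w c
  | [], _, _ => rfl
  | x :: w, c, hc => by
    rw [List.flatMap_cons, actW_append, actW_flat w hc, ev8_cons]
    rcases Nat.lt_or_ge x 6 with hx | hx
    · exact chk_letT x hx _ (ev8_lt w hc)
    · rw [letW_ge hx, lk8_ge hx]
      rfl

theorem flat_lt (w : List ℕ) : ∀ r ∈ w.flatMap letW, r < 24 := by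
  intro r hr
  obtain ⟨x, _, hx⟩ := List.mem_flatMap.1 hr
  exact letW_lt x r hx

theorem prodG_append (a b : List ℕ) : prodG (a ++ b) = prodG a * prodG b := by
  unfold prodG
  rw [List.map_append, List.prod_append]

theorem wd_lK_eq_prodG : ∀ w : List ℕ, VCert.wd lK w = prodG (w.flatMap letW)
  | [] => rfl
  | x :: w => by
    rw [VCert.wd_cons, List.flatMap_cons, prodG_append, wd_lK_eq_prodG w]
    rfl

theorem rho0_wd (w : List ℕ) (c : Fin 256) : (rho0 (VCert.wd lK w) c).val = ev8 w c.val := by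
  rw [wd_lK_eq_prodG, rho0_prodG _ (flat_lt w) c, actW_flat w c.2]

/-- the check that a word fixes all the 256 numbers -/
def matOK (w : List ℕ) : Bool := allN 256 fun c => Nat.beq (ev8 w c) c

/-- **a word in the six letters is trivial as soon as it fixes all the numbers** -/
theorem wd_lK_eq_one {w : List ℕ} (h : matOK w = true) : VCert.wd lK w = 1 := by
  apply rho0_injective
  rw [map_one]
  apply Equiv.ext
  intro c
  apply Fin.ext
  rw [rho0_wd]
  rw [matOK, allN_iff] at h
  exact Nat.eq_of_beq_eq_true (h c.val c.2)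

/-- two words in the six letters are equal as soon as they agree on all the numbers -/
theorem wd_lK_eq {w w' : List ℕ} (h : ∀ c, c < 256 → ev8 w c = ev8 w' c) :
    VCert.wd lK w = VCert.wd lK w' := by
  apply rho0_injective
  apply Equiv.ext
  intro c
  apply Fin.ext
  rw [rho0_wd, rho0_wd, h c.val c.2]

theorem chk_iv6 : ∀ x, x < 6 → matOK [x, Nat.xor x 1] = true := by decide +kernel

theorem lK_iv {x : ℕ} (hx : x < 6) : lK (Nat.xor x 1) = (lK x)⁻¹ := by
  have h := wd_lK_eq_one (chk_iv6 x hx)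
  rw [VCert.wd_cons, VCert.wd_cons, VCert.wd_nil, mul_one] at h
  exact (eq_inv_of_mul_eq_one_right h)

/-! ### the order of the group -/

theorem card_G : Nat.card G = 174182400 := card_G0

instance instFiniteG : Finite G := finite_G0

theorem G_perfect : commutator G = ⊤ := commutator_G0

/-! ### the six letters generate the group -/

theorem chk_genAs : ∀ r ∈ letters, ∀ c, c < 256 → ev8 (genAsW r) c = actN r c := by decide +kernel

theorem wd_lK_genAs {r : ℕ} (hr : r ∈ letters) : VCert.wd lK (genAsW r) = gen r := by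
  apply rho0_injective
  apply Equiv.ext
  intro c
  apply Fin.ext
  rw [rho0_wd, rho0_gen_actN (letters_lt r hr), chk_genAs r hr c.val c.2]

theorem closure_lK : Subgroup.closure (lK '' Set.Iio 6) = ⊤ := by
  set C := Subgroup.closure (lK '' Set.Iio 6) with hC
  have hm : ∀ x, x < 6 → lK x ∈ C := fun x hx => Subgroup.subset_closure ⟨x, hx, rfl⟩
  have hw : ∀ w : List ℕ, VCert.wd lK w ∈ C := by
    intro w
    induction w with
    | nil => exact C.one_mem
    | cons x w ih =>
      rw [VCert.wd_cons]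
      refine C.mul_mem ?_ ih
      rcases Nat.lt_or_ge x 6 with h | h
      · exact hm x h
      · rw [lK_of_ge h]; exact C.one_mem
  rw [eq_top_iff, ← closure_gens, Subgroup.closure_le]
  intro g hg
  have hg' : g ∈ gens := hg
  obtain ⟨r, hr, rfl⟩ := List.mem_map.1 hg'
  rw [SetLike.mem_coe, ← wd_lK_genAs hr]
  exact hw _

/-! ### the subgroup generated by the first two letters and their inverses -/

/-- the subgroup `L` generated by `u` and `v` -/
noncomputable def L : Subgroup G := Subgroup.closure (lK '' Set.Iio 4)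

theorem lK_mem_L {x : ℕ} (hx : x < 4) : lK x ∈ L := Subgroup.subset_closure ⟨x, hx, rfl⟩

/-- the first four letters in `L` -/
noncomputable def lK1 (x : ℕ) : ↥L := if h : x < 4 then ⟨lK x, lK_mem_L h⟩ else 1

theorem lK1_val {x : ℕ} (hx : x < 4) : (lK1 x : G) = lK x := by
  rw [lK1, dif_pos hx]

theorem lK1_of_ge {x : ℕ} (hx : 4 ≤ x) : lK1 x = 1 := by
  rw [lK1, dif_neg (by omega)]

theorem wd_lK1_val : ∀ w : List ℕ, (∀ x ∈ w, x < 4) → ((VCert.wd lK1 w : ↥L) : G) = VCert.wd lK w
  | [], _ => rfl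
  | x :: w, h => by
    rw [VCert.wd_cons, VCert.wd_cons, Subgroup.coe_mul, lK1_val (h x List.mem_cons_self),
      wd_lK1_val w fun y hy => h y (List.mem_cons_of_mem _ hy)]

theorem lK1_iv {x : ℕ} (hx : x < 4) : lK1 (Nat.xor x 1) = (lK1 x)⁻¹ := by
  have hx' : Nat.xor x 1 < 4 := by
    have : x = 0 ∨ x = 1 ∨ x = 2 ∨ x = 3 := by omega
    rcases this with rfl | rfl | rfl | rfl <;> decide
  apply Subtype.ext
  rw [Subgroup.coe_inv, lK1_val hx', lK1_val hx, lK_iv (by omega)]

theorem closure_lK1 : Subgroup.closure (lK1 '' Set.Iio 4) = ⊤ := by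
  have h := Subgroup.closure_closure_coe_preimage (k := lK '' Set.Iio 4)
  have e : ((↑) ⁻¹' (lK '' Set.Iio 4) : Set ↥(Subgroup.closure (lK '' Set.Iio 4))) = lK1 '' Set.Iio 4 := by
    ext z
    constructor
    · rintro ⟨x, hx, hz⟩
      exact ⟨x, hx, Subtype.ext (by rw [lK1_val hx]; exact hz)⟩
    · rintro ⟨x, hx, rfl⟩
      exact ⟨x, hx, (lK1_val hx).symm⟩
  rw [e] at h
  exact h

/-- the check for words in the first four letters -/
def matOK4 (w : List ℕ) : Bool := (w.all fun x => Nat.blt x 4) && matOK w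

theorem wd_lK1_eq_one {w : List ℕ} (h : matOK4 w = true) : VCert.wd lK1 w = 1 := by
  rw [matOK4, Bool.and_eq_true] at h
  have hw : ∀ x ∈ w, x < 4 := fun x hx => by simpa [Nat.blt] using List.all_eq_true.1 h.1 x hx
  apply Subtype.ext
  rw [wd_lK1_val w hw, wd_lK_eq_one h.2]
  rfl

/-! ### the order of `v` -/

theorem chk_v7 : matOK4 (wpow 7 [2]) = true := by decide +kernel

theorem lK1_two_pow : lK1 2 ^ 7 = 1 := by
  have h := wd_lK1_eq_one chk_v7
  rw [wd_wpow, VCert.wd_cons, VCert.wd_nil, mul_one] at h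
  exact h

theorem chk_v_move : ∃ c, c < 256 ∧ ev8 [2] c ≠ c := by decide +kernel

theorem lK_two_ne : lK 2 ≠ 1 := by
  intro h
  obtain ⟨c, hc, hne⟩ := chk_v_move
  apply hne
  have h1 := rho0_wd [2] ⟨c, hc⟩
  rw [VCert.wd_cons, VCert.wd_nil, mul_one, h, map_one] at h1
  exact h1.symm

theorem lK1_two_ne : lK1 2 ≠ 1 := by
  intro h
  have h1 : lK 2 = 1 := by
    have := congrArg Subtype.val h
    rw [lK1_val (by norm_num)] at this
    exact this
  exact lK_two_ne h1

theorem dvd_of_lK1_two_pow {i : ℕ} (h : lK1 2 ^ i = 1) : 7 ∣ i := by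
  have h1 : orderOf (lK1 2) ∣ 7 := orderOf_dvd_of_pow_eq_one lK1_two_pow
  have h2 : orderOf (lK1 2) = 1 ∨ orderOf (lK1 2) = 7 := (Nat.dvd_prime (by norm_num)).1 h1
  rcases h2 with h2 | h2
  · exact absurd (orderOf_eq_one_iff.1 h2) lK1_two_ne
  · rw [← h2]
    exact orderOf_dvd_of_pow_eq_one h

end Cfsg.Agent.Lib.Helper7.O82B
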