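import Cfsg.Agent.Lib.Helper7.O82Base
import Cfsg.Agent.Lib.Helper7.O73A1D

/-! # The orthogonal group of dimension eight of plus type over the field of two elements: the words of the certificate of the subgroup generated by the first four letters are trivial (generated) -/

set_option autoImplicit false
set_option maxRecDepth 100000

namespace Cfsg.Agent.Lib.Helper7.O82B

open Cfsg Cfsg.Agent.Lib.Helper7.MG Cfsg.Agent.Lib.Helper7.HSMult

theorem chk_triv1_0 : (allN 13 fun i => strictL (O73A1.cert.W (Nat.add 0 i)) fun w => matOK4 w) = true := by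
  decide +kernel

theorem chk_triv1_1 : (allN 13 fun i => strictL (O73A1.cert.W (Nat.add 13 i)) fun w => matOK4 w) = true := by
  decide +kernel

theorem chk_triv1_2 : (allN 13 fun i => strictL (O73A1.cert.W (Nat.add 26 i)) fun w => matOK4 w) = true := by
  decide +kernel

theorem chk_triv1_3 : (allN 13 fun i => strictL (O73A1.cert.W (Nat.add 39 i)) fun w => matOK4 w) = true := by
  decide +kernel

theorem chk_triv1_4 : (allN 13 fun i => strictL (O73A1.cert.W (Nat.add 52 i)) fun w => matOK4 w) = true := by
  decide +kernel

theorem chk_triv1_all : ∀ k, k < 5 →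
    (allN 13 fun i => strictL (O73A1.cert.W (Nat.add (13 * k) i)) fun w => matOK4 w) = true
  | 0, _ => chk_triv1_0
  | 1, _ => chk_triv1_1
  | 2, _ => chk_triv1_2
  | 3, _ => chk_triv1_3
  | 4, _ => chk_triv1_4
  | k + 5, h => absurd h (by omega)

theorem chk_triv1 {i : ℕ} (hi : i < 65) : matOK4 (O73A1.cert.W i) = true := by
  have h := chk_triv1_all (i / 13) (by omega)
  rw [allN_iff] at h
  have h1 := h (i % 13) (Nat.mod_lt _ (by norm_num))
  rw [strictL_eq] at h1
  have e : Nat.add (13 * (i / 13)) (i % 13) = i := Nat.div_add_mod i 13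
  rw [e] at h1
  exact h1

end Cfsg.Agent.Lib.Helper7.O82B
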