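import Cfsg.Agent.Lib.Helper7.O82TC

/-! # The multiplier of the orthogonal group of dimension eight of plus type over the field of two elements, the table of the group: the check of the rows 900 to 1799 of the certificate (generated) -/

set_option autoImplicit false
set_option maxRecDepth 100000

namespace Cfsg.Agent.Lib.Helper7.O82T

theorem rows_ok_9 : rowsOK 900 100 = true := by decide +kernel

theorem rows_ok_10 : rowsOK 1000 100 = true := by decide +kernel

theorem rows_ok_11 : rowsOK 1100 100 = true := by decide +kernel

theorem rows_ok_12 : rowsOK 1200 100 = true := by decide +kernel

theorem rows_ok_13 : rowsOK 1300 100 = true := by decide +kernel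

theorem rows_ok_14 : rowsOK 1400 100 = true := by decide +kernel

theorem rows_ok_15 : rowsOK 1500 100 = true := by decide +kernel

theorem rows_ok_16 : rowsOK 1600 100 = true := by decide +kernel

theorem rows_ok_17 : rowsOK 1700 100 = true := by decide +kernel

end Cfsg.Agent.Lib.Helper7.O82T
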