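import Cfsg.Agent.Lib.Helper7.O82TC
import Cfsg.Agent.Lib.Helper7.O82TK2

/-! # The multiplier of the orthogonal group of dimension eight of plus type over the field of two elements, the table of the group: the check of the rows 9000 to 9899 of the certificate (generated) -/

set_option autoImplicit false
set_option maxRecDepth 100000

namespace Cfsg.Agent.Lib.Helper7.O82T

theorem rows_ok_90 : rowsOK 9000 100 = true := by decide +kernel

theorem rows_ok_91 : rowsOK 9100 100 = true := by decide +kernel

theorem rows_ok_92 : rowsOK 9200 100 = true := by decide +kernel

theorem rows_ok_93 : rowsOK 9300 100 = true := by decide +kernel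

theorem rows_ok_94 : rowsOK 9400 100 = true := by decide +kernel

theorem rows_ok_95 : rowsOK 9500 100 = true := by decide +kernel

theorem rows_ok_96 : rowsOK 9600 100 = true := by decide +kernel

theorem rows_ok_97 : rowsOK 9700 100 = true := by decide +kernel

theorem rows_ok_98 : rowsOK 9800 100 = true := by decide +kernel

end Cfsg.Agent.Lib.Helper7.O82T
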