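import Cfsg.Agent.Lib.Helper7.O82TC

/-! # The multiplier of the orthogonal group of dimension eight of plus type over the field of two elements, the table of the group: the check of the rows 2700 to 3599 of the certificate (generated) -/

set_option autoImplicit false
set_option maxRecDepth 100000

namespace Cfsg.Agent.Lib.Helper7.O82T

theorem rows_ok_27 : rowsOK 2700 100 = true := by decide +kernel

theorem rows_ok_28 : rowsOK 2800 100 = true := by decide +kernel

theorem rows_ok_29 : rowsOK 2900 100 = true := by decide +kernel

theorem rows_ok_30 : rowsOK 3000 100 = true := by decide +kernel

theorem rows_ok_31 : rowsOK 3100 100 = true := by decide +kernel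

theorem rows_ok_32 : rowsOK 3200 100 = true := by decide +kernel

theorem rows_ok_33 : rowsOK 3300 100 = true := by decide +kernel

theorem rows_ok_34 : rowsOK 3400 100 = true := by decide +kernel

theorem rows_ok_35 : rowsOK 3500 100 = true := by decide +kernel

end Cfsg.Agent.Lib.Helper7.O82T
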