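import Cfsg.Agent.Lib.Helper7.O82TC
import Cfsg.Agent.Lib.Helper7.O82TK3

/-! # The multiplier of the orthogonal group of dimension eight of plus type over the field of two elements, the table of the group: the check of the rows 9900 to 10799 of the certificate (generated) -/

set_option autoImplicit false
set_option maxRecDepth 100000

namespace Cfsg.Agent.Lib.Helper7.O82T

theorem rows_ok_99 : rowsOK 9900 100 = true := by decide +kernel

theorem rows_ok_100 : rowsOK 10000 100 = true := by decide +kernel

theorem rows_ok_101 : rowsOK 10100 100 = true := by decide +kernel

theorem rows_ok_102 : rowsOK 10200 100 = true := by decide +kernel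

theorem rows_ok_103 : rowsOK 10300 100 = true := by decide +kernel

theorem rows_ok_104 : rowsOK 10400 100 = true := by decide +kernel

theorem rows_ok_105 : rowsOK 10500 100 = true := by decide +kernel

theorem rows_ok_106 : rowsOK 10600 100 = true := by decide +kernel

theorem rows_ok_107 : rowsOK 10700 100 = true := by decide +kernel

end Cfsg.Agent.Lib.Helper7.O82T
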