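import Cfsg.Agent.Lib.Helper7.O82TC

/-! # The multiplier of the orthogonal group of dimension eight of plus type over the field of two elements, the table of the group: the check of the rows 3600 to 4499 of the certificate (generated) -/

set_option autoImplicit false
set_option maxRecDepth 100000

namespace Cfsg.Agent.Lib.Helper7.O82T

theorem rows_ok_36 : rowsOK 3600 100 = true := by decide +kernel

theorem rows_ok_37 : rowsOK 3700 100 = true := by decide +kernel

theorem rows_ok_38 : rowsOK 3800 100 = true := by decide +kernel

theorem rows_ok_39 : rowsOK 3900 100 = true := by decide +kernel

theorem rows_ok_40 : rowsOK 4000 100 = true := by decide +kernel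

theorem rows_ok_41 : rowsOK 4100 100 = true := by decide +kernel

theorem rows_ok_42 : rowsOK 4200 100 = true := by decide +kernel

theorem rows_ok_43 : rowsOK 4300 100 = true := by decide +kernel

theorem rows_ok_44 : rowsOK 4400 100 = true := by decide +kernel

end Cfsg.Agent.Lib.Helper7.O82T
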