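import Cfsg.Agent.Lib.Helper7.O82TC
import Cfsg.Agent.Lib.Helper7.O82TK4

/-! # The multiplier of the orthogonal group of dimension eight of plus type over the field of two elements, the table of the group: the check of the rows 10800 to 11699 of the certificate (generated) -/

set_option autoImplicit false
set_option maxRecDepth 100000

namespace Cfsg.Agent.Lib.Helper7.O82T

theorem rows_ok_108 : rowsOK 10800 100 = true := by decide +kernel

theorem rows_ok_109 : rowsOK 10900 100 = true := by decide +kernel

theorem rows_ok_110 : rowsOK 11000 100 = true := by decide +kernel

theorem rows_ok_111 : rowsOK 11100 100 = true := by decide +kernel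

theorem rows_ok_112 : rowsOK 11200 100 = true := by decide +kernel

theorem rows_ok_113 : rowsOK 11300 100 = true := by decide +kernel

theorem rows_ok_114 : rowsOK 11400 100 = true := by decide +kernel

theorem rows_ok_115 : rowsOK 11500 100 = true := by decide +kernel

theorem rows_ok_116 : rowsOK 11600 100 = true := by decide +kernel

end Cfsg.Agent.Lib.Helper7.O82T
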