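import Cfsg.Agent.Lib.Helper7.O82TC

/-! # The multiplier of the orthogonal group of dimension eight of plus type over the field of two elements, the table of the group: the check of the rows 5400 to 6299 of the certificate (generated) -/

set_option autoImplicit false
set_option maxRecDepth 100000

namespace Cfsg.Agent.Lib.Helper7.O82T

theorem rows_ok_54 : rowsOK 5400 100 = true := by decide +kernel

theorem rows_ok_55 : rowsOK 5500 100 = true := by decide +kernel

theorem rows_ok_56 : rowsOK 5600 100 = true := by decide +kernel

theorem rows_ok_57 : rowsOK 5700 100 = true := by decide +kernel

theorem rows_ok_58 : rowsOK 5800 100 = true := by decide +kernel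

theorem rows_ok_59 : rowsOK 5900 100 = true := by decide +kernel

theorem rows_ok_60 : rowsOK 6000 100 = true := by decide +kernel

theorem rows_ok_61 : rowsOK 6100 100 = true := by decide +kernel

theorem rows_ok_62 : rowsOK 6200 100 = true := by decide +kernel

end Cfsg.Agent.Lib.Helper7.O82T
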