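import Cfsg.Agent.Lib.Helper7.O82TC
import Cfsg.Agent.Lib.Helper7.O82TK6

/-! # The multiplier of the orthogonal group of dimension eight of plus type over the field of two elements, the table of the group: the check of the rows 12600 to 13499 of the certificate (generated) -/

set_option autoImplicit false
set_option maxRecDepth 100000

namespace Cfsg.Agent.Lib.Helper7.O82T

theorem rows_ok_126 : rowsOK 12600 100 = true := by decide +kernel

theorem rows_ok_127 : rowsOK 12700 100 = true := by decide +kernel

theorem rows_ok_128 : rowsOK 12800 100 = true := by decide +kernel

theorem rows_ok_129 : rowsOK 12900 100 = true := by decide +kernel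

theorem rows_ok_130 : rowsOK 13000 100 = true := by decide +kernel

theorem rows_ok_131 : rowsOK 13100 100 = true := by decide +kernel

theorem rows_ok_132 : rowsOK 13200 100 = true := by decide +kernel

theorem rows_ok_133 : rowsOK 13300 100 = true := by decide +kernel

theorem rows_ok_134 : rowsOK 13400 100 = true := by decide +kernel

end Cfsg.Agent.Lib.Helper7.O82T
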