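import Cfsg.Agent.Lib.Helper7.O82TC

/-! # The multiplier of the orthogonal group of dimension eight of plus type over the field of two elements, the table of the group: the check of the rows 6300 to 7199 of the certificate (generated) -/

set_option autoImplicit false
set_option maxRecDepth 100000

namespace Cfsg.Agent.Lib.Helper7.O82T

theorem rows_ok_63 : rowsOK 6300 100 = true := by decide +kernel

theorem rows_ok_64 : rowsOK 6400 100 = true := by decide +kernel

theorem rows_ok_65 : rowsOK 6500 100 = true := by decide +kernel

theorem rows_ok_66 : rowsOK 6600 100 = true := by decide +kernel

theorem rows_ok_67 : rowsOK 6700 100 = true := by decide +kernel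

theorem rows_ok_68 : rowsOK 6800 100 = true := by decide +kernel

theorem rows_ok_69 : rowsOK 6900 100 = true := by decide +kernel

theorem rows_ok_70 : rowsOK 7000 100 = true := by decide +kernel

theorem rows_ok_71 : rowsOK 7100 100 = true := by decide +kernel

end Cfsg.Agent.Lib.Helper7.O82T
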