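import Cfsg.Agent.Lib.Helper7.O82TC
import Cfsg.Agent.Lib.Helper7.O82TK7

/-! # The multiplier of the orthogonal group of dimension eight of plus type over the field of two elements, the table of the group: the check of the rows 13500 to 14399 of the certificate (generated) -/

set_option autoImplicit false
set_option maxRecDepth 100000

namespace Cfsg.Agent.Lib.Helper7.O82T

theorem rows_ok_135 : rowsOK 13500 100 = true := by decide +kernel

theorem rows_ok_136 : rowsOK 13600 100 = true := by decide +kernel

theorem rows_ok_137 : rowsOK 13700 100 = true := by decide +kernel

theorem rows_ok_138 : rowsOK 13800 100 = true := by decide +kernel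

theorem rows_ok_139 : rowsOK 13900 100 = true := by decide +kernel

theorem rows_ok_140 : rowsOK 14000 100 = true := by decide +kernel

theorem rows_ok_141 : rowsOK 14100 100 = true := by decide +kernel

theorem rows_ok_142 : rowsOK 14200 100 = true := by decide +kernel

theorem rows_ok_143 : rowsOK 14300 100 = true := by decide +kernel

end Cfsg.Agent.Lib.Helper7.O82T
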