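import Cfsg.Agent.Lib.Helper7.O82TC
import Cfsg.Agent.Lib.Helper7.O82TK0

/-! # The multiplier of the orthogonal group of dimension eight of plus type over the field of two elements, the table of the group: the check of the rows 7200 to 8099 of the certificate (generated) -/

set_option autoImplicit false
set_option maxRecDepth 100000

namespace Cfsg.Agent.Lib.Helper7.O82T

theorem rows_ok_72 : rowsOK 7200 100 = true := by decide +kernel

theorem rows_ok_73 : rowsOK 7300 100 = true := by decide +kernel

theorem rows_ok_74 : rowsOK 7400 100 = true := by decide +kernel

theorem rows_ok_75 : rowsOK 7500 100 = true := by decide +kernel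

theorem rows_ok_76 : rowsOK 7600 100 = true := by decide +kernel

theorem rows_ok_77 : rowsOK 7700 100 = true := by decide +kernel

theorem rows_ok_78 : rowsOK 7800 100 = true := by decide +kernel

theorem rows_ok_79 : rowsOK 7900 100 = true := by decide +kernel

theorem rows_ok_80 : rowsOK 8000 100 = true := by decide +kernel

end Cfsg.Agent.Lib.Helper7.O82T
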