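import Cfsg.Agent.Lib.Helper7.O82TC
import Cfsg.Agent.Lib.Helper7.O82TK8

/-! # The multiplier of the orthogonal group of dimension eight of plus type over the field of two elements, the table of the group: the check of the rows 14400 to 15299 of the certificate (generated) -/

set_option autoImplicit false
set_option maxRecDepth 100000

namespace Cfsg.Agent.Lib.Helper7.O82T

theorem rows_ok_144 : rowsOK 14400 100 = true := by decide +kernel

theorem rows_ok_145 : rowsOK 14500 100 = true := by decide +kernel

theorem rows_ok_146 : rowsOK 14600 100 = true := by decide +kernel

theorem rows_ok_147 : rowsOK 14700 100 = true := by decide +kernel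

theorem rows_ok_148 : rowsOK 14800 100 = true := by decide +kernel

theorem rows_ok_149 : rowsOK 14900 100 = true := by decide +kernel

theorem rows_ok_150 : rowsOK 15000 100 = true := by decide +kernel

theorem rows_ok_151 : rowsOK 15100 100 = true := by decide +kernel

theorem rows_ok_152 : rowsOK 15200 100 = true := by decide +kernel

end Cfsg.Agent.Lib.Helper7.O82T
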