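import Cfsg.Agent.Lib.Helper7.O82TC
import Cfsg.Agent.Lib.Helper7.O82TK1

/-! # The multiplier of the orthogonal group of dimension eight of plus type over the field of two elements, the table of the group: the check of the rows 8100 to 8999 of the certificate (generated) -/

set_option autoImplicit false
set_option maxRecDepth 100000

namespace Cfsg.Agent.Lib.Helper7.O82T

theorem rows_ok_81 : rowsOK 8100 100 = true := by decide +kernel

theorem rows_ok_82 : rowsOK 8200 100 = true := by decide +kernel

theorem rows_ok_83 : rowsOK 8300 100 = true := by decide +kernel

theorem rows_ok_84 : rowsOK 8400 100 = true := by decide +kernel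

theorem rows_ok_85 : rowsOK 8500 100 = true := by decide +kernel

theorem rows_ok_86 : rowsOK 8600 100 = true := by decide +kernel

theorem rows_ok_87 : rowsOK 8700 100 = true := by decide +kernel

theorem rows_ok_88 : rowsOK 8800 100 = true := by decide +kernel

theorem rows_ok_89 : rowsOK 8900 100 = true := by decide +kernel

end Cfsg.Agent.Lib.Helper7.O82T
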