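import Cfsg.Agent.Lib.Helper7.O82TC
import Cfsg.Agent.Lib.Helper7.O82TK9

/-! # The multiplier of the orthogonal group of dimension eight of plus type over the field of two elements, the table of the group: the check of the rows 15300 to 16199 of the certificate (generated) -/

set_option autoImplicit false
set_option maxRecDepth 100000

namespace Cfsg.Agent.Lib.Helper7.O82T

theorem rows_ok_153 : rowsOK 15300 100 = true := by decide +kernel

theorem rows_ok_154 : rowsOK 15400 100 = true := by decide +kernel

theorem rows_ok_155 : rowsOK 15500 100 = true := by decide +kernel

theorem rows_ok_156 : rowsOK 15600 100 = true := by decide +kernel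

theorem rows_ok_157 : rowsOK 15700 100 = true := by decide +kernel

theorem rows_ok_158 : rowsOK 15800 100 = true := by decide +kernel

theorem rows_ok_159 : rowsOK 15900 100 = true := by decide +kernel

theorem rows_ok_160 : rowsOK 16000 100 = true := by decide +kernel

theorem rows_ok_161 : rowsOK 16100 100 = true := by decide +kernel

end Cfsg.Agent.Lib.Helper7.O82T
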