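import Cfsg.Agent.Lib.Helper7.O82TC
import Cfsg.Agent.Lib.Helper7.O82TK10

/-! # The multiplier of the orthogonal group of dimension eight of plus type over the field of two elements, the table of the group: the check of the rows 16200 to 17099 of the certificate (generated) -/

set_option autoImplicit false
set_option maxRecDepth 100000

namespace Cfsg.Agent.Lib.Helper7.O82T

theorem rows_ok_162 : rowsOK 16200 100 = true := by decide +kernel

theorem rows_ok_163 : rowsOK 16300 100 = true := by decide +kernel

theorem rows_ok_164 : rowsOK 16400 100 = true := by decide +kernel

theorem rows_ok_165 : rowsOK 16500 100 = true := by decide +kernel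

theorem rows_ok_166 : rowsOK 16600 100 = true := by decide +kernel

theorem rows_ok_167 : rowsOK 16700 100 = true := by decide +kernel

theorem rows_ok_168 : rowsOK 16800 100 = true := by decide +kernel

theorem rows_ok_169 : rowsOK 16900 100 = true := by decide +kernel

theorem rows_ok_170 : rowsOK 17000 100 = true := by decide +kernel

end Cfsg.Agent.Lib.Helper7.O82T
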