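import Cfsg.Agent.Lib.Helper7.O82TC
import Cfsg.Agent.Lib.Helper7.O82TK11

/-! # The multiplier of the orthogonal group of dimension eight of plus type over the field of two elements, the table of the group: the check of the rows 17100 to 17999 of the certificate (generated) -/

set_option autoImplicit false
set_option maxRecDepth 100000

namespace Cfsg.Agent.Lib.Helper7.O82T

theorem rows_ok_171 : rowsOK 17100 100 = true := by decide +kernel

theorem rows_ok_172 : rowsOK 17200 100 = true := by decide +kernel

theorem rows_ok_173 : rowsOK 17300 100 = true := by decide +kernel

theorem rows_ok_174 : rowsOK 17400 100 = true := by decide +kernel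

theorem rows_ok_175 : rowsOK 17500 100 = true := by decide +kernel

theorem rows_ok_176 : rowsOK 17600 100 = true := by decide +kernel

theorem rows_ok_177 : rowsOK 17700 100 = true := by decide +kernel

theorem rows_ok_178 : rowsOK 17800 100 = true := by decide +kernel

theorem rows_ok_179 : rowsOK 17900 100 = true := by decide +kernel

end Cfsg.Agent.Lib.Helper7.O82T
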