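import Cfsg.Agent.Lib.Helper7.O82TC
import Cfsg.Agent.Lib.Helper7.O82TK12

/-! # The multiplier of the orthogonal group of dimension eight of plus type over the field of two elements, the table of the group: the check of the rows 18000 to 18899 of the certificate (generated) -/

set_option autoImplicit false
set_option maxRecDepth 100000

namespace Cfsg.Agent.Lib.Helper7.O82T

theorem rows_ok_180 : rowsOK 18000 100 = true := by decide +kernel

theorem rows_ok_181 : rowsOK 18100 100 = true := by decide +kernel

theorem rows_ok_182 : rowsOK 18200 100 = true := by decide +kernel

theorem rows_ok_183 : rowsOK 18300 100 = true := by decide +kernel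

theorem rows_ok_184 : rowsOK 18400 100 = true := by decide +kernel

theorem rows_ok_185 : rowsOK 18500 100 = true := by decide +kernel

theorem rows_ok_186 : rowsOK 18600 100 = true := by decide +kernel

theorem rows_ok_187 : rowsOK 18700 100 = true := by decide +kernel

theorem rows_ok_188 : rowsOK 18800 100 = true := by decide +kernel

end Cfsg.Agent.Lib.Helper7.O82T
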