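import Cfsg.Agent.Lib.Helper7.O82TC

/-! # The multiplier of the orthogonal group of dimension eight of plus type over the field of two elements, the table of the group: the check of the rows 4500 to 5399 of the certificate (generated) -/

set_option autoImplicit false
set_option maxRecDepth 100000

namespace Cfsg.Agent.Lib.Helper7.O82T

theorem rows_ok_45 : rowsOK 4500 100 = true := by decide +kernel

theorem rows_ok_46 : rowsOK 4600 100 = true := by decide +kernel

theorem rows_ok_47 : rowsOK 4700 100 = true := by decide +kernel

theorem rows_ok_48 : rowsOK 4800 100 = true := by decide +kernel

theorem rows_ok_49 : rowsOK 4900 100 = true := by decide +kernel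

theorem rows_ok_50 : rowsOK 5000 100 = true := by decide +kernel

theorem rows_ok_51 : rowsOK 5100 100 = true := by decide +kernel

theorem rows_ok_52 : rowsOK 5200 100 = true := by decide +kernel

theorem rows_ok_53 : rowsOK 5300 100 = true := by decide +kernel

end Cfsg.Agent.Lib.Helper7.O82T
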