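import Cfsg.Agent.Lib.Helper7.O82TC
import Cfsg.Agent.Lib.Helper7.O82TK5

/-! # The multiplier of the orthogonal group of dimension eight of plus type over the field of two elements, the table of the group: the check of the rows 11700 to 12599 of the certificate (generated) -/

set_option autoImplicit false
set_option maxRecDepth 100000

namespace Cfsg.Agent.Lib.Helper7.O82T

theorem rows_ok_117 : rowsOK 11700 100 = true := by decide +kernel

theorem rows_ok_118 : rowsOK 11800 100 = true := by decide +kernel

theorem rows_ok_119 : rowsOK 11900 100 = true := by decide +kernel

theorem rows_ok_120 : rowsOK 12000 100 = true := by decide +kernel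

theorem rows_ok_121 : rowsOK 12100 100 = true := by decide +kernel

theorem rows_ok_122 : rowsOK 12200 100 = true := by decide +kernel

theorem rows_ok_123 : rowsOK 12300 100 = true := by decide +kernel

theorem rows_ok_124 : rowsOK 12400 100 = true := by decide +kernel

theorem rows_ok_125 : rowsOK 12500 100 = true := by decide +kernel

end Cfsg.Agent.Lib.Helper7.O82T
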