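import Cfsg.Agent.Lib.Helper7.O82TC
import Cfsg.Agent.Lib.Helper7.O82TK13

/-! # The multiplier of the orthogonal group of dimension eight of plus type over the field of two elements, the table of the group: the check of the rows 18900 to 19799 of the certificate (generated) -/

set_option autoImplicit false
set_option maxRecDepth 100000

namespace Cfsg.Agent.Lib.Helper7.O82T

theorem rows_ok_189 : rowsOK 18900 100 = true := by decide +kernel

theorem rows_ok_190 : rowsOK 19000 100 = true := by decide +kernel

theorem rows_ok_191 : rowsOK 19100 100 = true := by decide +kernel

theorem rows_ok_192 : rowsOK 19200 100 = true := by decide +kernel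

theorem rows_ok_193 : rowsOK 19300 100 = true := by decide +kernel

theorem rows_ok_194 : rowsOK 19400 100 = true := by decide +kernel

theorem rows_ok_195 : rowsOK 19500 100 = true := by decide +kernel

theorem rows_ok_196 : rowsOK 19600 100 = true := by decide +kernel

theorem rows_ok_197 : rowsOK 19700 100 = true := by decide +kernel

end Cfsg.Agent.Lib.Helper7.O82T
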