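import Cfsg.Agent.Lib.Helper7.O82TC
import Cfsg.Agent.Lib.Helper7.O82TK14

/-! # The multiplier of the orthogonal group of dimension eight of plus type over the field of two elements, the table of the group: the check of the rows 19800 to 20699 of the certificate (generated) -/

set_option autoImplicit false
set_option maxRecDepth 100000

namespace Cfsg.Agent.Lib.Helper7.O82T

theorem rows_ok_198 : rowsOK 19800 100 = true := by decide +kernel

theorem rows_ok_199 : rowsOK 19900 100 = true := by decide +kernel

theorem rows_ok_200 : rowsOK 20000 100 = true := by decide +kernel

theorem rows_ok_201 : rowsOK 20100 100 = true := by decide +kernel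

theorem rows_ok_202 : rowsOK 20200 100 = true := by decide +kernel

theorem rows_ok_203 : rowsOK 20300 100 = true := by decide +kernel

theorem rows_ok_204 : rowsOK 20400 100 = true := by decide +kernel

theorem rows_ok_205 : rowsOK 20500 100 = true := by decide +kernel

theorem rows_ok_206 : rowsOK 20600 100 = true := by decide +kernel

end Cfsg.Agent.Lib.Helper7.O82T
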