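import Cfsg.Agent.Lib.Helper7.O82TC
import Cfsg.Agent.Lib.Helper7.O82TK15

/-! # The multiplier of the orthogonal group of dimension eight of plus type over the field of two elements, the table of the group: the check of the rows 20700 to 21599 of the certificate (generated) -/

set_option autoImplicit false
set_option maxRecDepth 100000

namespace Cfsg.Agent.Lib.Helper7.O82T

theorem rows_ok_207 : rowsOK 20700 100 = true := by decide +kernel

theorem rows_ok_208 : rowsOK 20800 100 = true := by decide +kernel

theorem rows_ok_209 : rowsOK 20900 100 = true := by decide +kernel

theorem rows_ok_210 : rowsOK 21000 100 = true := by decide +kernel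

theorem rows_ok_211 : rowsOK 21100 100 = true := by decide +kernel

theorem rows_ok_212 : rowsOK 21200 100 = true := by decide +kernel

theorem rows_ok_213 : rowsOK 21300 100 = true := by decide +kernel

theorem rows_ok_214 : rowsOK 21400 100 = true := by decide +kernel

theorem rows_ok_215 : rowsOK 21500 100 = true := by decide +kernel

end Cfsg.Agent.Lib.Helper7.O82T
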