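import Cfsg.Agent.Lib.Helper7.O82TC
import Cfsg.Agent.Lib.Helper7.O82TK16

/-! # The multiplier of the orthogonal group of dimension eight of plus type over the field of two elements, the table of the group: the check of the rows 21600 to 22499 of the certificate (generated) -/

set_option autoImplicit false
set_option maxRecDepth 100000

namespace Cfsg.Agent.Lib.Helper7.O82T

theorem rows_ok_216 : rowsOK 21600 100 = true := by decide +kernel

theorem rows_ok_217 : rowsOK 21700 100 = true := by decide +kernel

theorem rows_ok_218 : rowsOK 21800 100 = true := by decide +kernel

theorem rows_ok_219 : rowsOK 21900 100 = true := by decide +kernel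

theorem rows_ok_220 : rowsOK 22000 100 = true := by decide +kernel

theorem rows_ok_221 : rowsOK 22100 100 = true := by decide +kernel

theorem rows_ok_222 : rowsOK 22200 100 = true := by decide +kernel

theorem rows_ok_223 : rowsOK 22300 100 = true := by decide +kernel

theorem rows_ok_224 : rowsOK 22400 100 = true := by decide +kernel

end Cfsg.Agent.Lib.Helper7.O82T
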