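import Cfsg.Agent.Lib.Helper7.O82TC
import Cfsg.Agent.Lib.Helper7.O82TK17

/-! # The multiplier of the orthogonal group of dimension eight of plus type over the field of two elements, the table of the group: the check of the rows 22500 to 23399 of the certificate (generated) -/

set_option autoImplicit false
set_option maxRecDepth 100000

namespace Cfsg.Agent.Lib.Helper7.O82T

theorem rows_ok_225 : rowsOK 22500 100 = true := by decide +kernel

theorem rows_ok_226 : rowsOK 22600 100 = true := by decide +kernel

theorem rows_ok_227 : rowsOK 22700 100 = true := by decide +kernel

theorem rows_ok_228 : rowsOK 22800 100 = true := by decide +kernel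

theorem rows_ok_229 : rowsOK 22900 100 = true := by decide +kernel

theorem rows_ok_230 : rowsOK 23000 100 = true := by decide +kernel

theorem rows_ok_231 : rowsOK 23100 100 = true := by decide +kernel

theorem rows_ok_232 : rowsOK 23200 100 = true := by decide +kernel

theorem rows_ok_233 : rowsOK 23300 100 = true := by decide +kernel

end Cfsg.Agent.Lib.Helper7.O82T
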