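import Cfsg.Agent.Lib.Helper7.O82TC
import Cfsg.Agent.Lib.Helper7.O82TK18

/-! # The multiplier of the orthogonal group of dimension eight of plus type over the field of two elements, the table of the group: the check of the rows 23400 to 24299 of the certificate (generated) -/

set_option autoImplicit false
set_option maxRecDepth 100000

namespace Cfsg.Agent.Lib.Helper7.O82T

theorem rows_ok_234 : rowsOK 23400 100 = true := by decide +kernel

theorem rows_ok_235 : rowsOK 23500 100 = true := by decide +kernel

theorem rows_ok_236 : rowsOK 23600 100 = true := by decide +kernel

theorem rows_ok_237 : rowsOK 23700 100 = true := by decide +kernel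

theorem rows_ok_238 : rowsOK 23800 100 = true := by decide +kernel

theorem rows_ok_239 : rowsOK 23900 100 = true := by decide +kernel

theorem rows_ok_240 : rowsOK 24000 100 = true := by decide +kernel

theorem rows_ok_241 : rowsOK 24100 100 = true := by decide +kernel

theorem rows_ok_242 : rowsOK 24200 100 = true := by decide +kernel

end Cfsg.Agent.Lib.Helper7.O82T
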