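import Cfsg.Agent.Lib.Helper7.O82TC
import Cfsg.Agent.Lib.Helper7.O82TK20

/-! # The multiplier of the orthogonal group of dimension eight of plus type over the field of two elements, the table of the group: the check of the rows 25200 to 26099 of the certificate (generated) -/

set_option autoImplicit false
set_option maxRecDepth 100000

namespace Cfsg.Agent.Lib.Helper7.O82T

theorem rows_ok_252 : rowsOK 25200 100 = true := by decide +kernel

theorem rows_ok_253 : rowsOK 25300 100 = true := by decide +kernel

theorem rows_ok_254 : rowsOK 25400 100 = true := by decide +kernel

theorem rows_ok_255 : rowsOK 25500 100 = true := by decide +kernel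

theorem rows_ok_256 : rowsOK 25600 100 = true := by decide +kernel

theorem rows_ok_257 : rowsOK 25700 100 = true := by decide +kernel

theorem rows_ok_258 : rowsOK 25800 100 = true := by decide +kernel

theorem rows_ok_259 : rowsOK 25900 100 = true := by decide +kernel

theorem rows_ok_260 : rowsOK 26000 100 = true := by decide +kernel

end Cfsg.Agent.Lib.Helper7.O82T
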