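import Cfsg.Agent.Lib.Helper7.O82TC
import Cfsg.Agent.Lib.Helper7.O82TK21

/-! # The multiplier of the orthogonal group of dimension eight of plus type over the field of two elements, the table of the group: the check of the rows 26100 to 26999 of the certificate (generated) -/

set_option autoImplicit false
set_option maxRecDepth 100000

namespace Cfsg.Agent.Lib.Helper7.O82T

theorem rows_ok_261 : rowsOK 26100 100 = true := by decide +kernel

theorem rows_ok_262 : rowsOK 26200 100 = true := by decide +kernel

theorem rows_ok_263 : rowsOK 26300 100 = true := by decide +kernel

theorem rows_ok_264 : rowsOK 26400 100 = true := by decide +kernel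

theorem rows_ok_265 : rowsOK 26500 100 = true := by decide +kernel

theorem rows_ok_266 : rowsOK 26600 100 = true := by decide +kernel

theorem rows_ok_267 : rowsOK 26700 100 = true := by decide +kernel

theorem rows_ok_268 : rowsOK 26800 100 = true := by decide +kernel

theorem rows_ok_269 : rowsOK 26900 100 = true := by decide +kernel

end Cfsg.Agent.Lib.Helper7.O82T
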