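import Cfsg.Agent.Lib.Helper7.O82TC
import Cfsg.Agent.Lib.Helper7.O82TK22

/-! # The multiplier of the orthogonal group of dimension eight of plus type over the field of two elements, the table of the group: the check of the rows 27000 to 27899 of the certificate (generated) -/

set_option autoImplicit false
set_option maxRecDepth 100000

namespace Cfsg.Agent.Lib.Helper7.O82T

theorem rows_ok_270 : rowsOK 27000 100 = true := by decide +kernel

theorem rows_ok_271 : rowsOK 27100 100 = true := by decide +kernel

theorem rows_ok_272 : rowsOK 27200 100 = true := by decide +kernel

theorem rows_ok_273 : rowsOK 27300 100 = true := by decide +kernel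

theorem rows_ok_274 : rowsOK 27400 100 = true := by decide +kernel

theorem rows_ok_275 : rowsOK 27500 100 = true := by decide +kernel

theorem rows_ok_276 : rowsOK 27600 100 = true := by decide +kernel

theorem rows_ok_277 : rowsOK 27700 100 = true := by decide +kernel

theorem rows_ok_278 : rowsOK 27800 100 = true := by decide +kernel

end Cfsg.Agent.Lib.Helper7.O82T
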