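import Cfsg.Agent.Lib.Helper7.O82TC
import Cfsg.Agent.Lib.Helper7.O82TK23

/-! # The multiplier of the orthogonal group of dimension eight of plus type over the field of two elements, the table of the group: the check of the rows 27900 to 28799 of the certificate (generated) -/

set_option autoImplicit false
set_option maxRecDepth 100000

namespace Cfsg.Agent.Lib.Helper7.O82T

theorem rows_ok_279 : rowsOK 27900 100 = true := by decide +kernel

theorem rows_ok_280 : rowsOK 28000 100 = true := by decide +kernel

theorem rows_ok_281 : rowsOK 28100 100 = true := by decide +kernel

theorem rows_ok_282 : rowsOK 28200 100 = true := by decide +kernel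

theorem rows_ok_283 : rowsOK 28300 100 = true := by decide +kernel

theorem rows_ok_284 : rowsOK 28400 100 = true := by decide +kernel

theorem rows_ok_285 : rowsOK 28500 100 = true := by decide +kernel

theorem rows_ok_286 : rowsOK 28600 100 = true := by decide +kernel

theorem rows_ok_287 : rowsOK 28700 100 = true := by decide +kernel

end Cfsg.Agent.Lib.Helper7.O82T
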