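import Cfsg.Agent.Lib.Helper7.O82Base
import Cfsg.Agent.Lib.Helper7.O82TD

/-! # The orthogonal group of dimension eight of plus type over the field of two elements: the words of the certificate of the table of the group are trivial, part 1 (generated) -/

set_option autoImplicit false
set_option maxRecDepth 100000

namespace Cfsg.Agent.Lib.Helper7.O82B

open Cfsg Cfsg.Agent.Lib.Helper7.MG Cfsg.Agent.Lib.Helper7.HSMult

theorem chk_triv2_12 : (allN 20 fun i => strictL (O82T.cert.W (Nat.add 240 i)) fun w => matOK w) = true := by
  decide +kernel

theorem chk_triv2_13 : (allN 20 fun i => strictL (O82T.cert.W (Nat.add 260 i)) fun w => matOK w) = true := by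
  decide +kernel

theorem chk_triv2_14 : (allN 20 fun i => strictL (O82T.cert.W (Nat.add 280 i)) fun w => matOK w) = true := by
  decide +kernel

theorem chk_triv2_15 : (allN 20 fun i => strictL (O82T.cert.W (Nat.add 300 i)) fun w => matOK w) = true := by
  decide +kernel

theorem chk_triv2_16 : (allN 20 fun i => strictL (O82T.cert.W (Nat.add 320 i)) fun w => matOK w) = true := by
  decide +kernel

theorem chk_triv2_17 : (allN 20 fun i => strictL (O82T.cert.W (Nat.add 340 i)) fun w => matOK w) = true := by
  decide +kernel

theorem chk_triv2_18 : (allN 20 fun i => strictL (O82T.cert.W (Nat.add 360 i)) fun w => matOK w) = true := by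
  decide +kernel

theorem chk_triv2_19 : (allN 20 fun i => strictL (O82T.cert.W (Nat.add 380 i)) fun w => matOK w) = true := by
  decide +kernel

theorem chk_triv2_20 : (allN 20 fun i => strictL (O82T.cert.W (Nat.add 400 i)) fun w => matOK w) = true := by
  decide +kernel

theorem chk_triv2_21 : (allN 20 fun i => strictL (O82T.cert.W (Nat.add 420 i)) fun w => matOK w) = true := by
  decide +kernel

theorem chk_triv2_22 : (allN 20 fun i => strictL (O82T.cert.W (Nat.add 440 i)) fun w => matOK w) = true := by
  decide +kernel

theorem chk_triv2_23 : (allN 20 fun i => strictL (O82T.cert.W (Nat.add 460 i)) fun w => matOK w) = true := by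
  decide +kernel

end Cfsg.Agent.Lib.Helper7.O82B
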