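import Cfsg.Agent.Lib.Helper7.O82Base
import Cfsg.Agent.Lib.Helper7.O82TD

/-! # The orthogonal group of dimension eight of plus type over the field of two elements: the words of the certificate of the table of the group are trivial, part 3 (generated) -/

set_option autoImplicit false
set_option maxRecDepth 100000

namespace Cfsg.Agent.Lib.Helper7.O82B

open Cfsg Cfsg.Agent.Lib.Helper7.MG Cfsg.Agent.Lib.Helper7.HSMult

theorem chk_triv2_36 : (allN 20 fun i => strictL (O82T.cert.W (Nat.add 720 i)) fun w => matOK w) = true := by
  decide +kernel

theorem chk_triv2_37 : (allN 20 fun i => strictL (O82T.cert.W (Nat.add 740 i)) fun w => matOK w) = true := by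
  decide +kernel

theorem chk_triv2_38 : (allN 20 fun i => strictL (O82T.cert.W (Nat.add 760 i)) fun w => matOK w) = true := by
  decide +kernel

theorem chk_triv2_39 : (allN 20 fun i => strictL (O82T.cert.W (Nat.add 780 i)) fun w => matOK w) = true := by
  decide +kernel

theorem chk_triv2_40 : (allN 20 fun i => strictL (O82T.cert.W (Nat.add 800 i)) fun w => matOK w) = true := by
  decide +kernel

theorem chk_triv2_41 : (allN 20 fun i => strictL (O82T.cert.W (Nat.add 820 i)) fun w => matOK w) = true := by
  decide +kernel

theorem chk_triv2_42 : (allN 20 fun i => strictL (O82T.cert.W (Nat.add 840 i)) fun w => matOK w) = true := by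
  decide +kernel

theorem chk_triv2_43 : (allN 20 fun i => strictL (O82T.cert.W (Nat.add 860 i)) fun w => matOK w) = true := by
  decide +kernel

theorem chk_triv2_44 : (allN 20 fun i => strictL (O82T.cert.W (Nat.add 880 i)) fun w => matOK w) = true := by
  decide +kernel

theorem chk_triv2_45 : (allN 20 fun i => strictL (O82T.cert.W (Nat.add 900 i)) fun w => matOK w) = true := by
  decide +kernel

theorem chk_triv2_46 : (allN 20 fun i => strictL (O82T.cert.W (Nat.add 920 i)) fun w => matOK w) = true := by
  decide +kernel

theorem chk_triv2_47 : (allN 20 fun i => strictL (O82T.cert.W (Nat.add 940 i)) fun w => matOK w) = true := by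
  decide +kernel

end Cfsg.Agent.Lib.Helper7.O82B
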