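import Cfsg.Agent.Lib.Helper7.O82Base
import Cfsg.Agent.Lib.Helper7.O82TD

/-! # The orthogonal group of dimension eight of plus type over the field of two elements: the words of the certificate of the table of the group are trivial, part 6 (generated) -/

set_option autoImplicit false
set_option maxRecDepth 100000

namespace Cfsg.Agent.Lib.Helper7.O82B

open Cfsg Cfsg.Agent.Lib.Helper7.MG Cfsg.Agent.Lib.Helper7.HSMult

theorem chk_triv2_72 : (allN 20 fun i => strictL (O82T.cert.W (Nat.add 1440 i)) fun w => matOK w) = true := by
  decide +kernel

theorem chk_triv2_73 : (allN 20 fun i => strictL (O82T.cert.W (Nat.add 1460 i)) fun w => matOK w) = true := by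
  decide +kernel

theorem chk_triv2_74 : (allN 20 fun i => strictL (O82T.cert.W (Nat.add 1480 i)) fun w => matOK w) = true := by
  decide +kernel

theorem chk_triv2_75 : (allN 20 fun i => strictL (O82T.cert.W (Nat.add 1500 i)) fun w => matOK w) = true := by
  decide +kernel

theorem chk_triv2_76 : (allN 20 fun i => strictL (O82T.cert.W (Nat.add 1520 i)) fun w => matOK w) = true := by
  decide +kernel

theorem chk_triv2_77 : (allN 20 fun i => strictL (O82T.cert.W (Nat.add 1540 i)) fun w => matOK w) = true := by
  decide +kernel

theorem chk_triv2_78 : (allN 20 fun i => strictL (O82T.cert.W (Nat.add 1560 i)) fun w => matOK w) = true := by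
  decide +kernel

theorem chk_triv2_79 : (allN 20 fun i => strictL (O82T.cert.W (Nat.add 1580 i)) fun w => matOK w) = true := by
  decide +kernel

theorem chk_triv2_80 : (allN 20 fun i => strictL (O82T.cert.W (Nat.add 1600 i)) fun w => matOK w) = true := by
  decide +kernel

theorem chk_triv2_81 : (allN 20 fun i => strictL (O82T.cert.W (Nat.add 1620 i)) fun w => matOK w) = true := by
  decide +kernel

theorem chk_triv2_82 : (allN 20 fun i => strictL (O82T.cert.W (Nat.add 1640 i)) fun w => matOK w) = true := by
  decide +kernel

theorem chk_triv2_83 : (allN 20 fun i => strictL (O82T.cert.W (Nat.add 1660 i)) fun w => matOK w) = true := by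
  decide +kernel

end Cfsg.Agent.Lib.Helper7.O82B
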