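import Cfsg.Agent.Lib.Helper7.O82Base
import Cfsg.Agent.Lib.Helper7.O82TD

/-! # The orthogonal group of dimension eight of plus type over the field of two elements: the words of the certificate of the table of the group are trivial, part 7 (generated) -/

set_option autoImplicit false
set_option maxRecDepth 100000

namespace Cfsg.Agent.Lib.Helper7.O82B

open Cfsg Cfsg.Agent.Lib.Helper7.MG Cfsg.Agent.Lib.Helper7.HSMult

theorem chk_triv2_84 : (allN 20 fun i => strictL (O82T.cert.W (Nat.add 1680 i)) fun w => matOK w) = true := by
  decide +kernel

theorem chk_triv2_85 : (allN 20 fun i => strictL (O82T.cert.W (Nat.add 1700 i)) fun w => matOK w) = true := by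
  decide +kernel

theorem chk_triv2_86 : (allN 20 fun i => strictL (O82T.cert.W (Nat.add 1720 i)) fun w => matOK w) = true := by
  decide +kernel

theorem chk_triv2_87 : (allN 20 fun i => strictL (O82T.cert.W (Nat.add 1740 i)) fun w => matOK w) = true := by
  decide +kernel

theorem chk_triv2_88 : (allN 20 fun i => strictL (O82T.cert.W (Nat.add 1760 i)) fun w => matOK w) = true := by
  decide +kernel

theorem chk_triv2_89 : (allN 20 fun i => strictL (O82T.cert.W (Nat.add 1780 i)) fun w => matOK w) = true := by
  decide +kernel

theorem chk_triv2_90 : (allN 20 fun i => strictL (O82T.cert.W (Nat.add 1800 i)) fun w => matOK w) = true := by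
  decide +kernel

theorem chk_triv2_91 : (allN 20 fun i => strictL (O82T.cert.W (Nat.add 1820 i)) fun w => matOK w) = true := by
  decide +kernel

theorem chk_triv2_92 : (allN 20 fun i => strictL (O82T.cert.W (Nat.add 1840 i)) fun w => matOK w) = true := by
  decide +kernel

theorem chk_triv2_93 : (allN 20 fun i => strictL (O82T.cert.W (Nat.add 1860 i)) fun w => matOK w) = true := by
  decide +kernel

theorem chk_triv2_94 : (allN 20 fun i => strictL (O82T.cert.W (Nat.add 1880 i)) fun w => matOK w) = true := by
  decide +kernel

theorem chk_triv2_95 : (allN 20 fun i => strictL (O82T.cert.W (Nat.add 1900 i)) fun w => matOK w) = true := by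
  decide +kernel

end Cfsg.Agent.Lib.Helper7.O82B
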