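import Cfsg.Agent.Lib.Helper7.O82Base
import Cfsg.Agent.Lib.Helper7.O82TD

/-! # The orthogonal group of dimension eight of plus type over the field of two elements: the words of the certificate of the table of the group are trivial, part 8 (generated) -/

set_option autoImplicit false
set_option maxRecDepth 100000

namespace Cfsg.Agent.Lib.Helper7.O82B

open Cfsg Cfsg.Agent.Lib.Helper7.MG Cfsg.Agent.Lib.Helper7.HSMult

theorem chk_triv2_96 : (allN 20 fun i => strictL (O82T.cert.W (Nat.add 1920 i)) fun w => matOK w) = true := by
  decide +kernel

theorem chk_triv2_97 : (allN 20 fun i => strictL (O82T.cert.W (Nat.add 1940 i)) fun w => matOK w) = true := by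
  decide +kernel

theorem chk_triv2_98 : (allN 20 fun i => strictL (O82T.cert.W (Nat.add 1960 i)) fun w => matOK w) = true := by
  decide +kernel

theorem chk_triv2_99 : (allN 20 fun i => strictL (O82T.cert.W (Nat.add 1980 i)) fun w => matOK w) = true := by
  decide +kernel

theorem chk_triv2_100 : (allN 20 fun i => strictL (O82T.cert.W (Nat.add 2000 i)) fun w => matOK w) = true := by
  decide +kernel

theorem chk_triv2_101 : (allN 20 fun i => strictL (O82T.cert.W (Nat.add 2020 i)) fun w => matOK w) = true := by
  decide +kernel

theorem chk_triv2_102 : (allN 20 fun i => strictL (O82T.cert.W (Nat.add 2040 i)) fun w => matOK w) = true := by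
  decide +kernel

theorem chk_triv2_103 : (allN 20 fun i => strictL (O82T.cert.W (Nat.add 2060 i)) fun w => matOK w) = true := by
  decide +kernel

theorem chk_triv2_104 : (allN 20 fun i => strictL (O82T.cert.W (Nat.add 2080 i)) fun w => matOK w) = true := by
  decide +kernel

theorem chk_triv2_105 : (allN 20 fun i => strictL (O82T.cert.W (Nat.add 2100 i)) fun w => matOK w) = true := by
  decide +kernel

theorem chk_triv2_106 : (allN 20 fun i => strictL (O82T.cert.W (Nat.add 2120 i)) fun w => matOK w) = true := by
  decide +kernel

theorem chk_triv2_107 : (allN 20 fun i => strictL (O82T.cert.W (Nat.add 2140 i)) fun w => matOK w) = true := by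
  decide +kernel

end Cfsg.Agent.Lib.Helper7.O82B
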