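import Cfsg.Agent.Lib.Helper7.O82Grpw0
import Cfsg.Agent.Lib.Helper7.O82Grpw1
import Cfsg.Agent.Lib.Helper7.O82Grpw2
import Cfsg.Agent.Lib.Helper7.O82Grpw3
import Cfsg.Agent.Lib.Helper7.O82Grpw4
import Cfsg.Agent.Lib.Helper7.O82Grpw5
import Cfsg.Agent.Lib.Helper7.O82Grpw6
import Cfsg.Agent.Lib.Helper7.O82Grpw7
import Cfsg.Agent.Lib.Helper7.O82Grpw8
import Cfsg.Agent.Lib.Helper7.O82Grpw9
import Cfsg.Agent.Lib.Helper7.O82Grp1
import Cfsg.Agent.Lib.Helper7.MGenP

/-!
# The orthogonal group of dimension eight of plus type over the field of two elements and its subgroup `L`: the words of the two certificates, the order of `L`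

All the words of the two certificates are trivial in the group.  The table of the cosets of `L` shows that `L` has
index at most 28800, the table of the cosets in `L` of the subgroup generated by `v` shows that `L` has at most 6048
elements; so `L` has 6048 elements.  The group `L` is perfect.
-/

set_option autoImplicit false
set_option maxRecDepth 100000

namespace Cfsg.Agent.Lib.Helper7.O82B

open Cfsg Cfsg.Agent.Lib.Helper7.MG Cfsg.Agent.Lib.Helper7.HSMult
open scoped IsMulCommutative commutatorElement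

theorem chk_triv2_all : ∀ k, k < 111 →
    (allN 20 fun i => strictL (O82T.cert.W (Nat.add (20 * k) i)) fun w => matOK w) = true
  | 0, _ => chk_triv2_0
  | 1, _ => chk_triv2_1
  | 2, _ => chk_triv2_2
  | 3, _ => chk_triv2_3
  | 4, _ => chk_triv2_4
  | 5, _ => chk_triv2_5
  | 6, _ => chk_triv2_6
  | 7, _ => chk_triv2_7
  | 8, _ => chk_triv2_8
  | 9, _ => chk_triv2_9
  | 10, _ => chk_triv2_10
  | 11, _ => chk_triv2_11
  | 12, _ => chk_triv2_12
  | 13, _ => chk_triv2_13
  | 14, _ => chk_triv2_14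
  | 15, _ => chk_triv2_15
  | 16, _ => chk_triv2_16
  | 17, _ => chk_triv2_17
  | 18, _ => chk_triv2_18
  | 19, _ => chk_triv2_19
  | 20, _ => chk_triv2_20
  | 21, _ => chk_triv2_21
  | 22, _ => chk_triv2_22
  | 23, _ => chk_triv2_23
  | 24, _ => chk_triv2_24
  | 25, _ => chk_triv2_25
  | 26, _ => chk_triv2_26
  | 27, _ => chk_triv2_27
  | 28, _ => chk_triv2_28
  | 29, _ => chk_triv2_29
  | 30, _ => chk_triv2_30
  | 31, _ => chk_triv2_31
  | 32, _ => chk_triv2_32
  | 33, _ => chk_triv2_33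
  | 34, _ => chk_triv2_34
  | 35, _ => chk_triv2_35
  | 36, _ => chk_triv2_36
  | 37, _ => chk_triv2_37
  | 38, _ => chk_triv2_38
  | 39, _ => chk_triv2_39
  | 40, _ => chk_triv2_40
  | 41, _ => chk_triv2_41
  | 42, _ => chk_triv2_42
  | 43, _ => chk_triv2_43
  | 44, _ => chk_triv2_44
  | 45, _ => chk_triv2_45
  | 46, _ => chk_triv2_46
  | 47, _ => chk_triv2_47
  | 48, _ => chk_triv2_48
  | 49, _ => chk_triv2_49
  | 50, _ => chk_triv2_50
  | 51, _ => chk_triv2_51
  | 52, _ => chk_triv2_52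
  | 53, _ => chk_triv2_53
  | 54, _ => chk_triv2_54
  | 55, _ => chk_triv2_55
  | 56, _ => chk_triv2_56
  | 57, _ => chk_triv2_57
  | 58, _ => chk_triv2_58
  | 59, _ => chk_triv2_59
  | 60, _ => chk_triv2_60
  | 61, _ => chk_triv2_61
  | 62, _ => chk_triv2_62
  | 63, _ => chk_triv2_63
  | 64, _ => chk_triv2_64
  | 65, _ => chk_triv2_65
  | 66, _ => chk_triv2_66
  | 67, _ => chk_triv2_67
  | 68, _ => chk_triv2_68
  | 69, _ => chk_triv2_69
  | 70, _ => chk_triv2_70
  | 71, _ => chk_triv2_71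
  | 72, _ => chk_triv2_72
  | 73, _ => chk_triv2_73
  | 74, _ => chk_triv2_74
  | 75, _ => chk_triv2_75
  | 76, _ => chk_triv2_76
  | 77, _ => chk_triv2_77
  | 78, _ => chk_triv2_78
  | 79, _ => chk_triv2_79
  | 80, _ => chk_triv2_80
  | 81, _ => chk_triv2_81
  | 82, _ => chk_triv2_82
  | 83, _ => chk_triv2_83
  | 84, _ => chk_triv2_84
  | 85, _ => chk_triv2_85
  | 86, _ => chk_triv2_86
  | 87, _ => chk_triv2_87
  | 88, _ => chk_triv2_88
  | 89, _ => chk_triv2_89
  | 90, _ => chk_triv2_90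
  | 91, _ => chk_triv2_91
  | 92, _ => chk_triv2_92
  | 93, _ => chk_triv2_93
  | 94, _ => chk_triv2_94
  | 95, _ => chk_triv2_95
  | 96, _ => chk_triv2_96
  | 97, _ => chk_triv2_97
  | 98, _ => chk_triv2_98
  | 99, _ => chk_triv2_99
  | 100, _ => chk_triv2_100
  | 101, _ => chk_triv2_101
  | 102, _ => chk_triv2_102
  | 103, _ => chk_triv2_103
  | 104, _ => chk_triv2_104
  | 105, _ => chk_triv2_105
  | 106, _ => chk_triv2_106
  | 107, _ => chk_triv2_107
  | 108, _ => chk_triv2_108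
  | 109, _ => chk_triv2_109
  | 110, _ => chk_triv2_110
  | k + 111, h => absurd h (by omega)

theorem chk_triv2 {i : ℕ} (hi : i < 2217) : matOK (O82T.cert.W i) = true := by
  have h := chk_triv2_all (i / 20) (by omega)
  rw [allN_iff] at h
  have h1 := h (i % 20) (Nat.mod_lt _ (by norm_num))
  rw [strictL_eq] at h1
  have e : Nat.add (20 * (i / 20)) (i % 20) = i := Nat.div_add_mod i 20
  rw [e] at h1
  exact h1

/-! ### the words of the certificates -/

theorem wd_lK1_W {i : ℕ} (hi : i < 65) : VCert.wd lK1 (O73A1.cert.W i) = 1 :=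
  wd_lK1_eq_one (chk_triv1 hi)

theorem wd_lK_W {i : ℕ} (hi : i < 2217) : VCert.wd lK (O82T.cert.W i) = 1 :=
  wd_lK_eq_one (chk_triv2 hi)

/-! ### the order of `L` -/

/-- the letters of the subgroup of the second table -/
theorem lt_four_of_sub {x : ℕ} (hx : (Nat.beq x 0 || Nat.beq x 1 || Nat.beq x 2 || Nat.beq x 3) = true) : x < 4 := by
  rw [Bool.or_eq_true, Bool.or_eq_true, Bool.or_eq_true] at hx
  rcases hx with ((h | h) | h) | h
  · rw [Nat.eq_of_beq_eq_true h]; norm_num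
  · rw [Nat.eq_of_beq_eq_true h]; norm_num
  · rw [Nat.eq_of_beq_eq_true h]; norm_num
  · rw [Nat.eq_of_beq_eq_true h]; norm_num

instance instFiniteL : Finite ↥L := inferInstance

theorem hgen_L : ∀ y : ↥L, ∃ u : List ℕ, (∀ x ∈ u, x < O73A1.cert.g) ∧ y = (u.map lK1).prod := by
  apply MG.exists_word_of_closure lK1 4 (fun x => Nat.xor x 1) _ closure_lK1
  intro x hx
  refine ⟨?_, lK1_iv hx⟩
  have : x = 0 ∨ x = 1 ∨ x = 2 ∨ x = 3 := by omega
  rcases this with rfl | rfl | rfl | rfl <;> decide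

theorem hgen_G : ∀ y : G, ∃ u : List ℕ, (∀ x ∈ u, x < O82T.cert.g) ∧ y = (u.map lK).prod := by
  apply MG.exists_word_of_closure lK 6 (fun x => Nat.xor x 1) _ closure_lK
  intro x hx
  refine ⟨?_, lK_iv hx⟩
  have : x = 0 ∨ x = 1 ∨ x = 2 ∨ x = 3 ∨ x = 4 ∨ x = 5 := by omega
  rcases this with rfl | rfl | rfl | rfl | rfl | rfl <;> decide

theorem card_L_le : Nat.card ↥L ≤ 6048 := by
  have h := card_le_Zc (MonoidHom.id ↥L) O73A1.cert lK1 (fun _ => 1) 2 7 (by decide) (by norm_num)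
    (fun i hi => dvd_of_lK1_two_pow hi) lK1_two_pow
    (by
      intro x hx
      rcases eq_two_or_three hx with rfl | rfl
      · exact Subgroup.mem_zpowers _
      · have : lK1 3 = (lK1 2)⁻¹ := lK1_iv (x := 2) (by norm_num)
        rw [this]
        exact Subgroup.inv_mem _ (Subgroup.mem_zpowers _))
    (fun j _ => Subgroup.one_mem _) hgen_L (by decide) (by decide)
    (fun x hx => lK1_iv hx)
    (fun i hi => by rw [MonoidHom.mem_ker]; exact wd_lK1_W hi)
    (fun i hi _ => by rw [wd_lK1_W hi, VCert.ek, O73A1.cert.kap_triv _ (fun _ _ => rfl)]; rfl)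
    O73A1.cert_all O73A1.cert_wall
  rw [Zc_eq_bot_of_triv _ _ (fun _ _ => rfl), Subgroup.card_bot] at h
  exact h

theorem index_L_le : L.index ≤ 28800 ∧ L.index ≠ 0 := by
  refine O82T.cert.index_le (γ := lK) (H := L) (z := fun _ => 1) ⊥ ?_ ?_ ?_ (by decide) (by decide)
    (fun x hx => lK_iv hx) ?_ ?_ ?_ O82T.cert_all O82T.cert_wall L le_rfl ?_ hgen_G (by decide)
  · intro u hu g
    rw [Subgroup.mem_bot] at hu
    rw [hu, mul_one, mul_inv_cancel]
    exact Subgroup.one_mem _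
  · intro j _
    exact Subgroup.one_mem _
  · intro u _ hu
    exact Subgroup.mem_bot.1 hu
  · intro x hx
    exact lK_mem_L (lt_four_of_sub hx)
  · intro i hi
    rw [Subgroup.mem_bot]
    exact wd_lK_W hi
  · intro i hi _
    rw [wd_lK_W hi, VCert.ek, O82T.cert.kap_triv _ (fun _ _ => rfl)]
    rfl
  · intro j _
    exact Subgroup.one_mem _

theorem card_L : Nat.card ↥L = 6048 := by
  apply le_antisymm card_L_le
  have h1 := Subgroup.card_mul_index L
  rw [card_G] at h1
  obtain ⟨h2, _⟩ := index_L_le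
  by_contra hlt
  have h3 : Nat.card ↥L ≤ 6047 := by omega
  have : Nat.card ↥L * L.index ≤ 6047 * 28800 := Nat.mul_le_mul h3 h2
  omega

/-! ### `L` is perfect -/

theorem chk_u2 : matOK4 (wpow 2 [0]) = true := by decide +kernel

theorem chk_uv7 : matOK4 (wpow 7 [0, 2]) = true := by decide +kernel

theorem chk_uvv6 : matOK4 (wpow 6 [0, 2, 2]) = true := by decide +kernel

theorem closure_pair_L : Subgroup.closure {lK1 0, lK1 2} = (⊤ : Subgroup ↥L) := by
  rw [eq_top_iff, ← closure_lK1, Subgroup.closure_le]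
  rintro _ ⟨x, hx, rfl⟩
  have hx' : x < 4 := hx
  have : x = 0 ∨ x = 1 ∨ x = 2 ∨ x = 3 := by omega
  rcases this with rfl | rfl | rfl | rfl
  · exact Subgroup.subset_closure (by simp)
  · have : lK1 1 = (lK1 0)⁻¹ := lK1_iv (x := 0) (by norm_num)
    rw [SetLike.mem_coe, this]
    exact inv_mem (Subgroup.subset_closure (by simp))
  · exact Subgroup.subset_closure (by simp)
  · have : lK1 3 = (lK1 2)⁻¹ := lK1_iv (x := 2) (by norm_num)
    rw [SetLike.mem_coe, this]
    exact inv_mem (Subgroup.subset_closure (by simp))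

theorem L_perfect : commutator ↥L = ⊤ := by
  have h2 : lK1 0 ^ 2 = 1 := by
    have h := wd_lK1_eq_one chk_u2
    rw [wd_wpow, VCert.wd_cons, VCert.wd_nil, mul_one] at h
    exact h
  have h3 : (lK1 0 * lK1 2) ^ 7 = 1 := by
    have h := wd_lK1_eq_one chk_uv7
    rw [wd_wpow, VCert.wd_cons, VCert.wd_cons, VCert.wd_nil, mul_one] at h
    exact h
  have h4 : (lK1 0 * lK1 2 * lK1 2) ^ 6 = 1 := by
    have h := wd_lK1_eq_one chk_uvv6
    rw [wd_wpow, VCert.wd_cons, VCert.wd_cons, VCert.wd_cons, VCert.wd_nil, mul_one, ← mul_assoc] at h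
    exact h
  exact M12Mult.perfect_of_pair closure_pair_L h2 lK1_two_pow h3 h4 (by norm_num) (by norm_num)

end Cfsg.Agent.Lib.Helper7.O82B
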