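import Cfsg.Agent.Lib.Helper7.O82Base
import Cfsg.Agent.Lib.Helper7.O82TD

/-! # The orthogonal group of dimension eight of plus type over the field of two elements: the words of the certificate of the table of the group are trivial, part 0 (generated) -/

set_option autoImplicit false
set_option maxRecDepth 100000

namespace Cfsg.Agent.Lib.Helper7.O82B

open Cfsg Cfsg.Agent.Lib.Helper7.MG Cfsg.Agent.Lib.Helper7.HSMult

theorem chk_triv2_0 : (allN 20 fun i => strictL (O82T.cert.W (Nat.add 0 i)) fun w => matOK w) = true := by
  decide +kernel

theorem chk_triv2_1 : (allN 20 fun i => strictL (O82T.cert.W (Nat.add 20 i)) fun w => matOK w) = true := by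
  decide +kernel

theorem chk_triv2_2 : (allN 20 fun i => strictL (O82T.cert.W (Nat.add 40 i)) fun w => matOK w) = true := by
  decide +kernel

theorem chk_triv2_3 : (allN 20 fun i => strictL (O82T.cert.W (Nat.add 60 i)) fun w => matOK w) = true := by
  decide +kernel

theorem chk_triv2_4 : (allN 20 fun i => strictL (O82T.cert.W (Nat.add 80 i)) fun w => matOK w) = true := by
  decide +kernel

theorem chk_triv2_5 : (allN 20 fun i => strictL (O82T.cert.W (Nat.add 100 i)) fun w => matOK w) = true := by
  decide +kernel

theorem chk_triv2_6 : (allN 20 fun i => strictL (O82T.cert.W (Nat.add 120 i)) fun w => matOK w) = true := by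
  decide +kernel

theorem chk_triv2_7 : (allN 20 fun i => strictL (O82T.cert.W (Nat.add 140 i)) fun w => matOK w) = true := by
  decide +kernel

theorem chk_triv2_8 : (allN 20 fun i => strictL (O82T.cert.W (Nat.add 160 i)) fun w => matOK w) = true := by
  decide +kernel

theorem chk_triv2_9 : (allN 20 fun i => strictL (O82T.cert.W (Nat.add 180 i)) fun w => matOK w) = true := by
  decide +kernel

theorem chk_triv2_10 : (allN 20 fun i => strictL (O82T.cert.W (Nat.add 200 i)) fun w => matOK w) = true := by
  decide +kernel

theorem chk_triv2_11 : (allN 20 fun i => strictL (O82T.cert.W (Nat.add 220 i)) fun w => matOK w) = true := by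
  decide +kernel

end Cfsg.Agent.Lib.Helper7.O82B
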