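import Cfsg.Agent.Lib.Helper7.O82L1U
import Cfsg.Agent.Lib.Helper7.MGenF
import Cfsg.Agent.Lib.Helper7.MGenH

/-!
# The multiplier of the orthogonal group of dimension eight of plus type over the field of two elements, the table of the group: the kernel of every finite stem extension of the group is an image of the product of two cyclic groups
of order two

In a finite stem extension the derived subgroup of the preimage of `L` is a copy of `L`, since `L` is perfect and has
no proper stem extensions; the first four letters are lifted into this copy, so that all the words in these letters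
that are trivial in the group are trivial in the extension.  The lift of the fifth letter is chosen so that one more
given word is trivial; this is possible since the kernel has order prime to seven, the Sylow subgroups for this
prime being cyclic.  The checked table over the copy of `L` shows that the kernel is generated by the values of the
other given words; the traced words give relations between them, which make the kernel a group generated by two
elements of orders dividing two.
-/

set_option autoImplicit false
set_option maxRecDepth 100000

namespace Cfsg.Agent.Lib.Helper7.O82T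

open Cfsg Cfsg.Agent.Lib.Helper7.MG Cfsg.Agent.Lib.Helper7.HSMult Cfsg.Agent.Lib.Helper7.O82B
open Cfsg.Agent.Lib.Helper7.M12Mult
open scoped IsMulCommutative

/-! ### the data of the certificate -/

/-- the words that define the central elements -/
def axI : ℕ → ℕ
  | 0 => 2203
  | 1 => 3
  | 2 => 4
  | 3 => 6
  | 4 => 13
  | 5 => 14
  | 6 => 9
  | 7 => 751
  | 8 => 451
  | 9 => 1939
  | 10 => 7
  | 11 => 166
  | _ => 0

theorem axI_lt : ∀ j, axI j < 2217
  | 0 => by decide
  | 1 => by decide
  | 2 => by decide
  | 3 => by decide
  | 4 => by decide
  | 5 => by decide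
  | 6 => by decide
  | 7 => by decide
  | 8 => by decide
  | 9 => by decide
  | 10 => by decide
  | 11 => by decide
  | _ + 12 => by
    show (0 : ℕ) < 2217
    decide

/-- the word of which a power is the trivial word that is not a word in the first four letters -/
def yW : List ℕ := [4, 2]

theorem chk_wT : ∀ i, i < 2217 → cert.wT i = 0 →
    (((cert.W i).all fun x => Nat.blt x 4) = true ∧
      ∀ l, l < 12 → ((fld (cert.rhs i) l : ℤ) - ((cert.W i).length : ℤ) * (cert.B : ℤ)) = 0) ∨
    i = 2 ∨ ∃ j, j < 12 ∧ i = axI j := by decide +kernel

theorem chk_W3 : cert.W 2 = wpow 7 yW := by decide +kernel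

theorem chk_yW : expsumL 4 5 (wpow 7 yW) = 7 := by decide

theorem chk_len : ∀ i, i < 2217 → (cert.W i).length ≤ 255 := by decide +kernel

theorem chk_ax : ∀ j, j < 12 → ∀ l, l < 12 →
    ((fld (cert.rhs (axI j)) l : ℤ) - ((cert.W (axI j)).length : ℤ) * (cert.B : ℤ)) = if l = j then 1 else 0 := by
  decide +kernel

theorem chk_ex : ∀ l, l < 12 →
    ((fld (cert.rhs 2) l : ℤ) - ((cert.W 2).length : ℤ) * (cert.B : ℤ)) = 0 := by
  decide +kernel

/-- the relations between the central elements that the traced words give -/
def relL : List (List ℤ) := [[(-16), 5, (-5), 2, 5, 9, 1, 2, 0, 1, 3, (-6)],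
    [(-14), 4, (-9), 2, (-3), (-4), 3, (-4), 6, (-4), 10, 5],
    [7, 17, 9, (-15), 2, 11, 14, (-3), (-11), 5, (-23), 5],
    [4, 0, 7, (-11), 5, 13, 2, (-5), 1, 1, 8, (-7)],
    [(-13), 8, (-5), (-10), (-11), (-6), 1, (-4), 6, 10, (-2), (-5)],
    [0, (-1), (-1), (-1), (-5), (-4), (-1), 0, (-3), 1, (-1), 6],
    [(-3), (-1), (-5), 4, 0, 1, 3, (-1), 0, 0, 3, (-2)],
    [2, (-13), (-11), (-2), (-14), (-6), 3, (-1), (-10), (-1), 0, 14],
    [9, (-4), 19, 2, 7, (-9), 8, (-8), (-6), 17, 2, (-5)],
    [6, 1, (-11), 7, 7, 2, 0, (-2), (-6), 4, 0, 9],
    [8, (-5), 0, (-5), (-7), 4, 6, (-1), 1, 6, (-3), 1],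
    [8, 3, (-3), (-1), 0, (-5), (-2), 1, 0, 4, (-5), 3],
    [2, 2, 4, (-4), 9, 0, (-2), (-8), (-2), 2, 7, (-2)],
    [2, (-8), 2, 2, 0, 4, (-8), 0, 0, (-8), 2, 0],
    [(-7), (-4), (-2), (-9), 3, (-4), 4, 3, 0, (-1), 3, 6]]

/-- the exponents of the first generator of the kernel -/
def c1L : List ℤ := [0, 0, 0, 0, 0, 0, 0, 0, 1, 0, 0, 0]

/-- the exponents of the second generator of the kernel -/
def c2L : List ℤ := [0, 0, 0, 1, 0, 0, 0, 0, 0, 0, 0, 0]

/-- the exponents of the generators of the kernel -/
def cLL : List (List ℤ) := [c1L, c2L]

/-- the orders of the generators of the kernel -/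
def nL : List ℤ := [2, 2]

/-- the central elements as products of powers of the generators -/
def mLL : List (List ℤ) := [[0, 0],
    [0, 0],
    [0, 0],
    [0, 1],
    [0, 1],
    [1, 1],
    [0, 1],
    [1, 1],
    [1, 0],
    [1, 0],
    [0, 1],
    [0, 0]]

/-- the combinations of the relations that express the central elements by the generators -/
def lamL : List (List ℤ) := [[(-26307038152942794853942902230091313808607732503740), (-28131982980620988971904314474793743253535518071148), (-7212150173337333685832685953699675177682685507798), (-18810547598854916613949835669340836902938598142033), 8050643416469848606287962950883283792453069890482, 11555246845098297290825559430428855163035147679051, (-9874571701836764720870310531717693171074225644332), (-12184897600339006407855382026618776420175146961521), (-19557140189541567979979678971784218427209398190177), 17744598317159724025180596871439419571098891460296, 13148880663848997414524164050090068229523275500482, (-73809275846610070949290592563224607720470205578380), 25621217144592072542953699652476446681954297908787, (-36603943019949369583340709452278966368969421746363),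 1833343006000408635805195133377483754681904731246],
    [72125763070791853823595121671325403402933870401613, 77129197417644025619652741791091722445903863792466, 19773485392345835718639691695931266227161022034169, 51572704287696273183861717370244213059236772462348, (-22072374558014623888170481665026163520189071977254), (-31680913348310342526559382415066804151091599249421), 27073021860218575918260695879001112889918879534192, 33407220997457700785342144063648289467634121540870, 53619630284960256850697010372858197206081232068251, (-48650201005872891747374243316702140335309737837947), (-36050164442430812181784760670811265469597443759744), 202362208591840557740011486651768365659772972917027, (-70245453958466246203872993463818225401269272912122), 100356691861881240698813669062628585818910269431028, (-5026459554645339728127766546796147376427621052234)],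
    [(-73100823355696349973979733085217872354788985649512), (-78171898583033268904277516155626187947385752259724), (-20040800973898738775554803763265540817486188470200), (-52269910023831084981583918028077755836234254821574), 22370768570205976736240010562232921262175306307219, 32109204143169852551078826667551434243192800283080, (-27439019075143577899175161923363616606783257263158), (-33858849556197203463187553699448877236406016910497), (-54344508189278740767586432605265351236474510706904), 49307897740490282982778648990196037707031011945647, 36537522663897246198731707689944134054236896415718, (-205097921107904990533973452391917971318520515420694), 71195094550590879213755678089839038955115399937293, (-101713402978585469640279308473635129328402460690248), 5094411710390339648826382894236155009287874455899],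
    [0, 0, 0, 0, 0, 0, 0, 0, 0, 0, 0, 0, 0, 0, 0],
    [(-970863735891563994731608368829299258886094185417), (-1038213497688957422988637563534706920446626254170), (-266165085570988361994531727770812159667910027806), (-694205041624857719042848400426307697890208676586), 297109758164486049143095501673556806863934877041, 426447479794542888828426921280515841900367818441, (-364422004371554125367986255773888639999459304688), (-449684800582461271499043143546875691286134568381), (-721758111931327039267253532568244391319441963838), 654866082374450530151281417364606280076014258559, 485260686888415943722826867579856529907450820695, (-2723938319292506204238818311968802841072087414677), 945553446589922533373779232157309980744456323681, (-1350871985744037209235909567521368420466116372919), 67659697364186859044198505479885136744245718045],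
    [(-971564387442888727015601570046473424298706465401), (-1038962754119978645876983916269041034733592667840), (-266357171208982180430700622916892416310972187074), (-694706034525684568526246569490020300763274421134), 297324175909506153383083336566483128894468925501, 426755237801388394230394240477992982011214880034, (-364684999922073190130889432136395488879613943839), (-450009328465713514914695334303442940358078173007), (-722278989292496059093542346861121814558194253666), 655338685191471245246688707095207748841756224581, 485610889126377840713290368774169308386523165497, (-2725904127200010891140804248665383269708310853583), 946235832247890575749119816675276501927482806314, (-1351846881105211143394972988556395384059846135949), 67708525917739583559591042928434539328864022378],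
    [(-971563651515036047486666004057928694841507792003), (-1038961967140094928730432455031493227887354182819), (-266356969452244709294760810790927787037069440010), (-694705508308866785000141515550739569584081372970), 297323950696288012804001855218971367628607118222, 426754914548426640958139584275460843363572035770, (-364684723685261337183329655697322493908093744534), (-450008987598548081685268342684135089867035569889), (-722278442190078045842914829019141968664212551871), 655338188794117035786097272515304155107927773672, 485610521292209059408995114241591820508099667860, (-2725902062417895708381643535271590144411708083504), 946235115505579767705904465776960998348324004096, (-1351845857125961572807708762244562550765367754074), 67708474630773191260257296321391222816612580941],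
    [(-971563651422625536623298891436651450469513807646), (-1038961967041273810833208272510631475450276536897), (-266356969426910101952547710804225274978507683413), (-694705508242789703151403818292220285379563901345), 297323950668007973577633853139411199575671812381, 426754914507835744411756840858113246059540510171, (-364684723650574261799983740100367596658480265890), (-450008987555745368376427681373361418624897504931), (-722278442121378357742912756714568764469522757561), 655338188731784386020637367962182227182488852766, 485610521246020097642814267766503974294253768992, (-2725902062158620876764864693915157398677952253947), 946235115415578386649323687883516865111601492834, (-1351845856997380428308600105167696630259200340404), 67708474624333083377822535666175387599234000035],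
    [0, 0, 0, 0, 0, 0, 0, 0, 0, 0, 0, 0, 0, 0, 0],
    [14385881048116811471493017691, 15383843610748277226273217816, 3943930665686883743275280623, 10286460172134398835887469061, (-4402456782736845138441654051), (-6318932812914016666537727508), 5399863453949238799206360259, 6663254390055778124419378715, 10694730846262800209473307975, (-9703550781854854320702754040), (-7190404029761708722107942699), 40362258054436124332024104829, (-14010843030188922556231553065), 20016695422556805543412838138, (-1002555067255584242791456834)],
    [(-971563651422627916335675155198670602137691188808), (-1038961967041276355628547018635254718496348534613), (-266356969426910754357540138421753657191936081975), (-694705508242791404737597788449115942267026331243), 297323950668008701832014436708515070179417982136, 426754914507836789689593448517801482545208687551, (-364684723650575155045371250067162498542521848640), (-450008987555746470611937983003252466991496331820), (-722278442121380126865239747802381276871994066021), 655338188731785991181962701367646752911689813330, 485610521246021287079415524851097009166546341257, (-2725902062158627553489404875407101433770016256071),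 946235115415580704322912765284180386075198184285, (-1351845856997383739470264075423128271225634397461), 67708474624333249220477111652337261649425751736],
    [2108273, 2254526, 577989, 1507496, (-645187), (-926049), 791357, 976510, 1567329, (-1422070), (-1053764), 5915150, (-2053310), 2933477, (-146926)]]

/-- the combinations of the relations that give the powers of the generators -/
def muL : List (List ℤ) := [[(-28771761284824014644955971714), (-30767686353798672302363440794), (-7887861108923489613684435489), (-20572919764079611404489273148), 8804913317161075868249043527, 12637865269420053770411479826, (-10799726603328943387968139657), (-13326508404282740721892309458), (-21389461089308645003141231642), 19407101016398472529413538291, 14380807653961679669575089897, (-80724513832312065215206425656), 28021685270121578080491519360, (-40033389716108099508240839936), 2005110077963862714168375639],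
    [1943127302845255832671350310397341182644330766645, 2077923934082552711257094037270509413861078365709, 532713938853821508715080276843507308453657150061, 1389411016485582809475195576898231869067015910731, (-594647901336017403664028873417030133739167028881), (-853509829015673579379186897035602955589076348768), 729369447301150310090742500134324988965643524718, 900017975111492941223875966006504923963919161903, 1444556884242760253730479495604762537663063082879, (-1310676377463571982363925402735293491232823297859), (-971221042492042574158831049702194007521380827588), 5451804124317255106978809750814202806850104367276, (-1892470230831161408645825530568360751083263414703), 2703691713994767478940528150846256512353552129659, (-135416949248666498440954223304674521791378980231)]]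

theorem chk_rel_0 : ∀ l, l < 12 → ((fld (cert.rhs 549) l : ℤ) - (fld 69027639263330067624456764219567144958488273464176593219927326478868495 l : ℤ)) = (relL.getD 0 []).getD l 0 := by
  decide +kernel

theorem chk_rel_1 : ∀ l, l < 12 → ((fld (cert.rhs 257) l : ℤ) - (fld 62107351359932772732273306467462982310106204221177195014201542180900869 l : ℤ)) = (relL.getD 1 []).getD l 0 := by
  decide +kernel

theorem chk_rel_2 : ∀ l, l < 12 → ((fld (cert.rhs 481) l : ℤ) - (fld 65558227877369249490375277082999412870986251405956852689500543564945397 l : ℤ)) = (relL.getD 2 []).getD l 0 := by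
  decide +kernel

theorem chk_rel_3 : ∀ l, l < 12 → ((fld (cert.rhs 1840) l : ℤ) - (fld 75931077182384082542387135892382665608615789415997298188375269943848956 l : ℤ)) = (relL.getD 3 []).getD l 0 := by
  decide +kernel

theorem chk_rel_4 : ∀ l, l < 12 → ((fld (cert.rhs 1553) l : ℤ) - (fld 75927707206726993406794520243878192197481308138912126761055016487792654 l : ℤ)) = (relL.getD 4 []).getD l 0 := by
  decide +kernel

theorem chk_rel_5 : ∀ l, l < 12 → ((fld (cert.rhs 858) l : ℤ) - (fld 69007419309757456821651109568119317121892373653462816072979165030162431 l : ℤ)) = (relL.getD 5 []).getD l 0 := by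
  decide +kernel

theorem chk_rel_6 : ∀ l, l < 12 → ((fld (cert.rhs 1997) l : ℤ) - (fld 75922652205478351676984265914286820646586723510418716650976170856198146 l : ℤ)) = (relL.getD 6 []).getD l 0 := by
  decide +kernel

theorem chk_rel_7 : ∀ l, l < 12 → ((fld (cert.rhs 1595) l : ℤ) - (fld 75895692265238954746735715883629816772816941997657052243687046363787262 l : ℤ)) = (relL.getD 7 []).getD l 0 := by
  decide +kernel

theorem chk_rel_8 : ∀ l, l < 12 → ((fld (cert.rhs 8) l : ℤ) - (fld 41418942554616941558145182938063597860154007916399538951954767794954231 l : ℤ)) = (relL.getD 8 []).getD l 0 := by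
  decide +kernel

theorem chk_rel_9 : ∀ l, l < 12 → ((fld (cert.rhs 1823) l : ℤ) - (fld 75904117248572431659187998991244694237347249749800535646576179393114107 l : ℤ)) = (relL.getD 9 []).getD l 0 := by
  decide +kernel

theorem chk_rel_10 : ∀ l, l < 12 → ((fld (cert.rhs 936) l : ℤ) - (fld 69015844296304809822621373226818106808053044574213157015362668501966843 l : ℤ)) = (relL.getD 10 []).getD l 0 := by
  decide +kernel

theorem chk_rel_11 : ∀ l, l < 12 → ((fld (cert.rhs 417) l : ℤ) - (fld 65561597841777760056167249842433026056963142655442147349798593326258167 l : ℤ)) = (relL.getD 11 []).getD l 0 := by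
  decide +kernel

theorem chk_rel_12 : ∀ l, l < 12 → ((fld (cert.rhs 124) l : ℤ) - (fld 62117461346360697204270714523629153060004499233913143966304620561600511 l : ℤ)) = (relL.getD 12 []).getD l 0 := by
  decide +kernel

theorem chk_rel_13 : ∀ l, l < 12 → ((fld (cert.rhs 2211) l : ℤ) - (fld 96624541000197118691175132473923545711889457519082969735797984301473790 l : ℤ)) = (relL.getD 13 []).getD l 0 := by
  decide +kernel

theorem chk_rel_14 : ∀ l, l < 12 → ((fld (cert.rhs 1560) l : ℤ) - (fld 75907487235478080974595306580007839408733680393619704460601225136615430 l : ℤ)) = (relL.getD 14 []).getD l 0 := by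
  decide +kernel

theorem chk_lam : ∀ j, j < 12 → ∀ l, l < 12 →
    ((7 : ℕ) : ℤ) * ((if l = j then 1 else 0) - dotL (mLL.getD j []) cLL l) = dotL (lamL.getD j []) relL l := by
  decide +kernel

theorem chk_mu : ∀ t, t < cLL.length → ∀ l, l < 12 →
    ((7 : ℕ) : ℤ) * (nL.getD t 0 * (cLL.getD t []).getD l 0) = dotL (muL.getD t []) relL l := by
  decide +kernel

section upper

universe u

variable {Γ : Type u} [Group Γ] [Finite Γ] (σ : Γ →* G) (hsurj : Function.Surjective σ)
  (hcen : σ.ker ≤ Subgroup.center Γ) (hder : σ.ker ≤ commutator Γ)

include hsurj hcen hder in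
theorem not_dvd_card_ker : ¬ 7 ∣ Nat.card σ.ker := by
  have hperf := perfect_of_stem σ hsurj hcen hder G_perfect
  have : Fact (Nat.Prime 7) := ⟨by norm_num⟩
  exact Cfsg.Agent.S0102.result G_perfect
    (fun P => isCyclic_sylow_of_card_eq 7 24883200 (by rw [card_G]) (by norm_num) P) σ hsurj hcen hperf

/-! ### the letters in the extension -/

/-- the letters in the extension -/
def gU (a c t : Γ) : ℕ → Γ
  | 0 => a
  | 1 => a⁻¹
  | 2 => c
  | 3 => c⁻¹
  | 4 => t
  | 5 => t⁻¹
  | _ => 1

omit [Finite Γ] in
theorem map_gU (a c t : Γ) (ha : σ a = lK 0) (hc : σ c = lK 2) (ht : σ t = lK 4) : ∀ x, σ (gU a c t x) = lK x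
  | 0 => ha
  | 1 => by
    show σ a⁻¹ = lK 1
    rw [map_inv, ha]
    exact (lK_iv (x := 0) (by norm_num)).symm
  | 2 => hc
  | 3 => by
    show σ c⁻¹ = lK 3
    rw [map_inv, hc]
    exact (lK_iv (x := 2) (by norm_num)).symm
  | 4 => ht
  | 5 => by
    show σ t⁻¹ = lK 5
    rw [map_inv, ht]
    exact (lK_iv (x := 4) (by norm_num)).symm
  | x + 6 => by
    show σ 1 = lK (x + 6)
    rw [map_one, lK_of_ge (by omega)]

omit [Finite Γ] in
theorem map_wd_gU (a c t : Γ) (ha : σ a = lK 0) (hc : σ c = lK 2) (ht : σ t = lK 4) :
    ∀ w : List ℕ, σ (VCert.wd (gU a c t) w) = VCert.wd lK w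
  | [] => map_one σ
  | x :: w => by
    rw [VCert.wd_cons, VCert.wd_cons, map_mul, map_gU σ a c t ha hc ht x, map_wd_gU a c t ha hc ht w]

include hsurj hcen hder in
/-- **lifts of the generators: the first two in the copy of `L`, the third such that the given word is trivial** -/
theorem exists_lifts : ∃ a c t : Γ, a ∈ Mt σ L ∧ c ∈ Mt σ L ∧ σ a = lK 0 ∧ σ c = lK 2 ∧ σ t = lK 4 ∧
    VCert.wd (gU a c t) (wpow 7 yW) = 1 := by
  have hnd := not_dvd_card_ker σ hsurj hcen hder
  have cop : (Nat.card ↥σ.ker).Coprime 7 :=
    ((Nat.Prime.coprime_iff_not_dvd (by norm_num)).2 hnd).symm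
  obtain ⟨a, haM, ha⟩ := exists_mem_Mt (σ := σ) hsurj L L_perfect (lK 0) (lK_mem_L (by norm_num))
  obtain ⟨c, hcM, hc⟩ := exists_mem_Mt (σ := σ) hsurj L L_perfect (lK 2) (lK_mem_L (by norm_num))
  obtain ⟨t0, ht0⟩ := hsurj (lK 4)
  have hk2 : VCert.wd (gU a c t0) (wpow 7 yW) ∈ σ.ker := by
    rw [MonoidHom.mem_ker, map_wd_gU σ a c t0 ha hc ht0, ← chk_W3]
    exact wd_lK_W (by norm_num)
  obtain ⟨w, hw, hwr⟩ := exists_root σ.ker 7 cop _ (Subgroup.inv_mem _ hk2)
  have hwc : ∀ x : Γ, w⁻¹ * x = x * w⁻¹ := fun x =>
    (Subgroup.mem_center_iff.1 (Subgroup.inv_mem _ (hcen hw)) x).symm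
  refine ⟨a, c, t0 * w, haM, hcM, ha, hc, ?_, ?_⟩
  · rw [map_mul, MonoidHom.mem_ker.1 hw, mul_one, ht0]
  · rw [wd_central_mul_at 4 5 (by norm_num) (gU a c t0) (gU a c (t0 * w)) w (hcen hw) rfl (by
        show (t0 * w)⁻¹ = t0⁻¹ * w⁻¹
        rw [mul_inv_rev, hwc]) (by
        intro x h0 h1
        match x, h0, h1 with
        | 0, _, _ => rfl
        | 1, _, _ => rfl
        | 2, _, _ => rfl
        | 3, _, _ => rfl
        | 4, h0, _ => exact absurd rfl h0
        | 5, _, h1 => exact absurd rfl h1
        | _ + 6, _, _ => rfl), chk_yW]
    show _ * w ^ ((7 : ℕ) : ℤ) = 1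
    rw [zpow_natCast, hwr, mul_inv_cancel]

variable (a c t : Γ) (haM : a ∈ Mt σ L) (hcM : c ∈ Mt σ L) (ha : σ a = lK 0) (hc : σ c = lK 2) (ht : σ t = lK 4)
  (hy : VCert.wd (gU a c t) (wpow 7 yW) = 1)

include ha hc ht in
omit [Finite Γ] in
theorem wd_gU_mem_ker {i : ℕ} (hi : i < 2217) : VCert.wd (gU a c t) (cert.W i) ∈ σ.ker := by
  rw [MonoidHom.mem_ker, map_wd_gU σ a c t ha hc ht, wd_lK_W hi]

omit [Finite Γ] in
theorem gU_iv : ∀ x, x < 6 → gU a c t (Nat.xor x 1) = (gU a c t x)⁻¹
  | 0, _ => rfl
  | 1, _ => (inv_inv a).symm
  | 2, _ => rfl
  | 3, _ => (inv_inv c).symm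
  | 4, _ => rfl
  | 5, _ => (inv_inv t).symm
  | x + 6, h => absurd h (by omega)

include haM hcM in
omit [Finite Γ] in
theorem gU_mem_Mt : ∀ x, x < 4 → gU a c t x ∈ Mt σ L
  | 0, _ => haM
  | 1, _ => Subgroup.inv_mem _ haM
  | 2, _ => hcM
  | 3, _ => Subgroup.inv_mem _ hcM
  | x + 4, h => absurd h (by omega)

/-- the central elements: the values of the given words -/
noncomputable def zU (j : ℕ) : Subgroup.center Γ :=
  ⟨VCert.wd (gU a c t) (cert.W (axI j)), hcen (wd_gU_mem_ker σ a c t ha hc ht (axI_lt j))⟩

include hsurj haM hcM hy in
theorem hW0_U : ∀ i, i < cert.nW → cert.wT i = 0 →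
    VCert.wd (gU a c t) (cert.W i) = (cert.ek (zU σ hcen a c t ha hc ht) i : Γ) := by
  intro i hi hT
  rcases chk_wT i hi hT with ⟨h4, h0⟩ | rfl | ⟨j, hj, rfl⟩
  · rw [VCert.ek, cert.kap_one _ h0]
    have hl : ∀ x ∈ (cert.W i).map (gU a c t), x ∈ Mt σ L := by
      intro x hx
      obtain ⟨y, hy', rfl⟩ := List.mem_map.1 hx
      exact gU_mem_Mt σ a c t haM hcM y (by simpa [Nat.blt] using List.all_eq_true.1 h4 y hy')
    have h1 : (((cert.W i).map (gU a c t)).map σ).prod = 1 := by
      rw [← map_list_prod]
      have := map_wd_gU σ a c t ha hc ht (cert.W i)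
      rw [VCert.wd] at this
      rw [this]
      exact wd_lK_W hi
    exact prod_eq_one_of_Mt hsurj hcen L L_perfect O82L1.MF_L _ hl h1
  · rw [VCert.ek, cert.kap_one _ chk_ex, chk_W3]
    exact hy
  · rw [VCert.ek, cert.kap_unit _ hj (chk_ax j hj)]
    rfl

include hcen hder ha hc ht in
omit [Finite Γ] in
theorem hgen_U : ∀ y : Γ, ∃ u : List ℕ, (∀ x ∈ u, x < cert.g) ∧ y = (u.map (gU a c t)).prod := by
  apply MG.exists_word_of_closure (gU a c t) 6 (fun x => Nat.xor x 1)
  · intro x hx
    refine ⟨?_, gU_iv a c t x hx⟩
    have : x = 0 ∨ x = 1 ∨ x = 2 ∨ x = 3 ∨ x = 4 ∨ x = 5 := by omega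
    rcases this with rfl | rfl | rfl | rfl | rfl | rfl <;> decide
  · apply Cfsg.Agent.Lib.Helper7.M12Mult.closure_eq_top_of_stem (σ := σ) hcen hder
    intro g
    have hg : g ∈ Subgroup.closure (lK '' Set.Iio 6) := by rw [closure_lK]; exact Subgroup.mem_top g
    induction hg using Subgroup.closure_induction with
    | mem y hy =>
      obtain ⟨x, hx, rfl⟩ := hy
      exact ⟨gU a c t x, Subgroup.subset_closure ⟨x, hx, rfl⟩, map_gU σ a c t ha hc ht x⟩
    | one => exact ⟨1, one_mem _, map_one σ⟩
    | mul p q _ _ ihp ihq =>
      obtain ⟨p', hp', rfl⟩ := ihp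
      obtain ⟨q', hq', rfl⟩ := ihq
      exact ⟨p' * q', mul_mem hp' hq', map_mul σ p' q'⟩
    | inv p _ ihp =>
      obtain ⟨p', hp', rfl⟩ := ihp
      exact ⟨p'⁻¹, inv_mem hp', map_inv σ p'⟩

include hsurj hcen in
theorem hHK_U : ∀ u, u ∈ Mt σ L → u ∈ σ.ker → u = 1 := fun _ hu hk =>
  eq_one_of_mem_Mt hsurj hcen L L_perfect O82L1.MF_L hu (MonoidHom.mem_ker.1 hk)

include haM hcM in
omit [Finite Γ] in
theorem hsub_U : ∀ x, cert.sub x = true → gU a c t x ∈ Mt σ L := fun x hx =>
  gU_mem_Mt σ a c t haM hcM x (lt_four_of_sub hx)

include hsurj hder haM hcM hy in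
/-- **the kernel is generated by the central elements** -/
theorem ker_eq_Zc_U : σ.ker = Zc (zU σ hcen a c t ha hc ht) 12 := by
  refine ker_eq_Zc_of_sub σ cert (gU a c t) (zU σ hcen a c t ha hc ht) (Mt σ L) 6048 hsurj
    (by rw [card_G]; rfl) (by decide) (by norm_num) (hHK_U σ hsurj hcen) ?_
    (hsub_U σ a c t haM hcM) ?_ (hgen_U σ hcen hder a c t ha hc ht) (by decide) (by decide) (gU_iv a c t) ?_
    (hW0_U σ hsurj hcen a c t haM hcM ha hc ht hy) cert_all cert_wall
  · rw [← card_L]
    exact card_Mt_le hsurj hcen L L_perfect O82L1.MF_L
  · intro j _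
    exact wd_gU_mem_ker σ a c t ha hc ht (axI_lt j)
  · intro i hi
    exact wd_gU_mem_ker σ a c t ha hc ht hi

include hsurj haM hcM hy in
/-- the relations between the central elements -/
theorem rel_U : ∀ r ∈ relL, zprod (zU σ hcen a c t ha hc ht) 12 (fun l => r.getD l 0) = 1 := by
  have hKn : ∀ u, u ∈ σ.ker → ∀ g : Γ, g * u * g⁻¹ ∈ σ.ker := fun u hu g =>
    (inferInstance : σ.ker.Normal).conj_mem u hu g
  have key : ∀ {i v row : ℕ}, i < 2217 → cert.scan 4095 (cert.W i) row 0 = some (row, v) →
      cert.ek (zU σ hcen a c t ha hc ht) i = cert.kap (zU σ hcen a c t ha hc ht) v (cert.W i).length := by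
    intro i v row hi h
    exact cert.close_spec (γ := gU a c t) (H := Mt σ L) σ.ker hKn
      (fun j _ => wd_gU_mem_ker σ a c t ha hc ht (axI_lt j)) (hHK_U σ hsurj hcen) (by decide) (by decide)
      (gU_iv a c t) (hsub_U σ a c t haM hcM)
      (fun i hi => wd_gU_mem_ker σ a c t ha hc ht hi) (hW0_U σ hsurj hcen a c t haM hcM ha hc ht hy)
      cert_all cert_wall hi (chk_len i hi) h
  intro r hr
  simp only [relL, List.mem_cons, List.not_mem_nil, or_false] at hr
  rcases hr with rfl | rfl | rfl | rfl | rfl | rfl | rfl | rfl | rfl | rfl | rfl | rfl | rfl | rfl | rfl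
  · exact cert.rel_of_close _ (key (by norm_num) close_0) _ chk_rel_0
  · exact cert.rel_of_close _ (key (by norm_num) close_1) _ chk_rel_1
  · exact cert.rel_of_close _ (key (by norm_num) close_2) _ chk_rel_2
  · exact cert.rel_of_close _ (key (by norm_num) close_3) _ chk_rel_3
  · exact cert.rel_of_close _ (key (by norm_num) close_4) _ chk_rel_4
  · exact cert.rel_of_close _ (key (by norm_num) close_5) _ chk_rel_5
  · exact cert.rel_of_close _ (key (by norm_num) close_6) _ chk_rel_6
  · exact cert.rel_of_close _ (key (by norm_num) close_7) _ chk_rel_7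
  · exact cert.rel_of_close _ (key (by norm_num) close_8) _ chk_rel_8
  · exact cert.rel_of_close _ (key (by norm_num) close_9) _ chk_rel_9
  · exact cert.rel_of_close _ (key (by norm_num) close_10) _ chk_rel_10
  · exact cert.rel_of_close _ (key (by norm_num) close_11) _ chk_rel_11
  · exact cert.rel_of_close _ (key (by norm_num) close_12) _ chk_rel_12
  · exact cert.rel_of_close _ (key (by norm_num) close_13) _ chk_rel_13
  · exact cert.rel_of_close _ (key (by norm_num) close_14) _ chk_rel_14

include hsurj hcen hder haM hcM ha hc ht hy in
/-- **the kernel is an image of the product of two cyclic groups of order two** -/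
theorem exists_surj_U :
    ∃ π : Multiplicative (ZMod 2 × ZMod 2) →* ↥σ.ker, Function.Surjective π := by
  have hnd := not_dvd_card_ker σ hsurj hcen hder
  have copq : (Nat.card ↥σ.ker).Coprime 7 :=
    ((Nat.Prime.coprime_iff_not_dvd (by norm_num)).2 hnd).symm
  have hK := ker_eq_Zc_U σ hsurj hcen hder a c t haM hcM ha hc ht hy
  set S : Subgroup (Subgroup.center Γ) := σ.ker.comap (Subgroup.center Γ).subtype with hS
  have hzS : ∀ j, j < 12 → zU σ hcen a c t ha hc ht j ∈ S :=
    fun j _ => wd_gU_mem_ker σ a c t ha hc ht (axI_lt j)
  have hq : ∀ u, u ∈ S → u ^ 7 = 1 → u = 1 := by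
    intro u hu huq
    have h1 : (⟨(u : Γ), hu⟩ : ↥σ.ker) ^ 7 = 1 := by
      apply Subtype.ext
      rw [Subgroup.coe_pow, Subgroup.coe_one]
      show (u : Γ) ^ 7 = 1
      rw [← Subgroup.coe_pow, huq, Subgroup.coe_one]
    have h2 := eq_one_of_pow_of_coprime 7 copq _ h1
    apply Subtype.ext
    have h3 : ((⟨(u : Γ), hu⟩ : ↥σ.ker) : Γ) = ((1 : ↥σ.ker) : Γ) := congrArg Subtype.val h2
    exact h3
  obtain ⟨hz, hN⟩ := abelian_of_relations_q (zU σ hcen a c t ha hc ht) 12 relL
    (rel_U σ hsurj hcen a c t haM hcM ha hc ht hy) S hzS 7 hq cLL mLL nL lamL muL chk_lam chk_mu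
  set g1 := zprod (zU σ hcen a c t ha hc ht) 12 (fun l => c1L.getD l 0) with hg1
  set g2 := zprod (zU σ hcen a c t ha hc ht) 12 (fun l => c2L.getD l 0) with hg2
  have o1 : g1 ^ (2 : ℤ) = 1 := hN 0 (by decide)
  have o2 : g2 ^ (2 : ℤ) = 1 := hN 1 (by decide)
  have hzc : ∀ j, j < 12 →
      zU σ hcen a c t ha hc ht j ∈ Subgroup.closure ({g1, g2} : Set (Subgroup.center Γ)) := by
    intro j hj
    rw [hz j hj]
    apply gprod_mem
    intro c' hc'
    simp only [cLL, List.mem_cons, List.not_mem_nil, or_false] at hc'
    rcases hc' with rfl | rfl
    · exact Subgroup.subset_closure (Set.mem_insert _ _)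
    · exact Subgroup.subset_closure (Set.mem_insert_of_mem _ rfl)
  have hsub : Zc (zU σ hcen a c t ha hc ht) 12 ≤
      (Subgroup.closure ({g1, g2} : Set (Subgroup.center Γ))).map (Subgroup.center Γ).subtype := by
    rw [Zc, Subgroup.closure_le]
    rintro _ ⟨j, hj, rfl⟩
    exact ⟨zU σ hcen a c t ha hc ht j, hzc j hj, rfl⟩
  have hle : ∀ y ∈ σ.ker, ∃ i j : ℤ, y = (g1 : Γ) ^ i * (g2 : Γ) ^ j := by
    intro y hy
    rw [hK] at hy
    obtain ⟨y', hy', rfl⟩ := hsub hy
    obtain ⟨i, j, rfl⟩ := mem_closure_two g1 g2 y' hy'
    exact ⟨i, j, by simp⟩
  have hgK : ∀ g : Subgroup.center Γ, g ∈ S → (g : Γ) ∈ σ.ker := fun g hg => hg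
  have m1 : g1 ∈ S := zprod_mem _ 12 S hzS _
  have m2 : g2 ∈ S := zprod_mem _ 12 S hzS _
  have hpow : ∀ (g : Subgroup.center Γ) (hg : g ∈ S) (n : ℕ), g ^ (n : ℤ) = 1 →
      (⟨(g : Γ), hgK g hg⟩ : ↥σ.ker) ^ n = 1 := by
    intro g hg n h
    apply Subtype.ext
    rw [Subgroup.coe_pow, Subgroup.coe_one]
    show (g : Γ) ^ n = 1
    rw [zpow_natCast] at h
    rw [← Subgroup.coe_pow, h, Subgroup.coe_one]
  apply exists_surj_prod2 (⟨(g1 : Γ), hgK g1 m1⟩ : ↥σ.ker) ⟨(g2 : Γ), hgK g2 m2⟩ 2 2
    (hpow g1 m1 2 o1) (hpow g2 m2 2 o2)
  · intro x y
    apply Subtype.ext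
    rw [Subgroup.coe_mul, Subgroup.coe_mul]
    exact Subgroup.mem_center_iff.1 (hcen y.2) x.1
  · intro y
    obtain ⟨i, j, h⟩ := hle y.1 y.2
    refine ⟨i, j, ?_⟩
    apply Subtype.ext
    rw [Subgroup.coe_mul, Subgroup.coe_zpow, Subgroup.coe_zpow]
    exact h

end upper

/-- **the kernel of every finite stem extension of the group is an image of the product of two cyclic groups of
order two** -/
theorem exists_surj_of_stem {Γ : Type*} [Group Γ] [Finite Γ] (σ : Γ →* G) (hsurj : Function.Surjective σ)
    (hcen : σ.ker ≤ Subgroup.center Γ) (hder : σ.ker ≤ commutator Γ) :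
    ∃ π : Multiplicative (ZMod 2 × ZMod 2) →* ↥σ.ker, Function.Surjective π := by
  obtain ⟨a, c, t, haM, hcM, ha, hc, ht, hy⟩ := exists_lifts σ hsurj hcen hder
  exact exists_surj_U σ hsurj hcen hder a c t haM hcM ha hc ht hy

end Cfsg.Agent.Lib.Helper7.O82T
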