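import Cfsg.Agent.Lib.Helper7.O82MEB

/-!
# The multiplier of the orthogonal group of dimension eight of plus type over the field of two elements: the subgroup generated by the first four pairs

The checks of the words on the 480 points are put together: the given words of the table of the group act as
elements of the kernel, which commute with the letters, so their values are central in the group generated by the
pairs; the words that are trivial in the smaller table are trivial.  So the subgroup generated by the first four pairs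
maps isomorphically onto `L`.
-/

set_option autoImplicit false
set_option maxRecDepth 100000

namespace Cfsg.Agent.Lib.Helper7.O82M

open Cfsg Cfsg.Agent.Lib.Helper7.MG Cfsg.Agent.Lib.Helper7.HSMult Cfsg.Agent.Lib.Helper7.O82B
open scoped IsMulCommutative

/-! ### the words on the 480 points -/

theorem chk_ax2W : ∀ j, j < 12 → O82T.cert.W (O82T.axI j) = ax2W j := by decide +kernel

theorem chk_ax1W : ∀ j, j < 5 → O73A1.cert.W (O82L1.axI j) = ax1W j := by decide +kernel

theorem chk_p2W : ∀ j, j < 12 → p2W j = wpow 2 (ax2W j) := by decide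

theorem chk_ex2W : cw_ex2 = wpow 7 O82T.yW := by decide

theorem chk_l1aW : cw_l1a = wpow 7 [2] := by decide

theorem chk_l1bW : cw_l1b = wpow 7 O82L1.yW := by decide

theorem chk_tNW : cw_tN = wpow 2 [4] := by decide

theorem ev5_ex2 {p : ℕ} (hp : p < 480) : ev5 (wpow 7 O82T.yW) p = p := by
  rw [← chk_ex2W]
  exact fxOK_spec fxk_ex2 hp

theorem ev5_l1a {p : ℕ} (hp : p < 480) : ev5 (wpow 7 [2]) p = p := by
  rw [← chk_l1aW]
  exact fxOK_spec fxk_l1a hp

theorem ev5_l1b {p : ℕ} (hp : p < 480) : ev5 (wpow 7 O82L1.yW) p = p := by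
  rw [← chk_l1bW]
  exact fxOK_spec fxk_l1b hp

theorem ev5_tN {p : ℕ} (hp : p < 480) : ev5 (wpow 2 [4]) p = p := by
  rw [← chk_tNW]
  exact fxOK_spec fxk_tN hp

/-! ### the central elements -/

theorem ax2W_ge {j : ℕ} (hj : 12 ≤ j) : ax2W j = [] := by
  obtain ⟨y, rfl⟩ : ∃ y, j = y + 12 := ⟨j - 12, by omega⟩
  rfl

theorem wd_lK_ax2 (j : ℕ) : VCert.wd lK (ax2W j) = 1 := by
  rcases Nat.lt_or_ge j 12 with hj | hj
  · rw [← chk_ax2W j hj]
    exact wd_lK_W (O82T.axI_lt j)
  · rw [ax2W_ge hj]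
    rfl

theorem ax2_comm {j x : ℕ} (hj : j < 12) (hx : x < 6) :
    gE x * VCert.wd gE (ax2W j) = VCert.wd gE (ax2W j) * gE x := by
  have h := wd_gE_eq (w := x :: ax2W j) (w' := ax2W j ++ [x]) (fun p hp => by
      rw [ev5_cons, ev5_append, ev5_ax2 j hj p hp, ev5_cons, ev5_nil, ev5_ax2 j hj _ (hh5 x p hp).1]
      exact lk5_sh j hj x hx p hp) (by
      rw [VCert.wd_cons, VCert.wd_append, wd_lK_ax2 j, mul_one, one_mul, VCert.wd_cons, VCert.wd_nil, mul_one])
  rw [VCert.wd_cons, VCert.wd_append, VCert.wd_cons, VCert.wd_nil, mul_one] at h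
  exact h

theorem ax2_center (j : ℕ) : VCert.wd gE (ax2W j) ∈ Subgroup.center ↥GE := by
  rcases Nat.lt_or_ge j 12 with hj | hj
  · apply central_of_comm_gens (gE '' Set.Iio 6) closure_gE
    rintro _ ⟨x, hx, rfl⟩
    exact ax2_comm hj hx
  · rw [ax2W_ge hj]
    exact Subgroup.one_mem _

/-- the central elements of the table of the group: the values of the given words -/
noncomputable def zE (j : ℕ) : Subgroup.center ↥GE := ⟨VCert.wd gE (ax2W j), ax2_center j⟩

theorem zE_val (j : ℕ) : ((zE j : Subgroup.center ↥GE) : ↥GE) = VCert.wd gE (ax2W j) := rfl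

theorem wd_gE_ax2 : ∀ j, j < 12 →
    VCert.wd gE (O82T.cert.W (O82T.axI j)) = ((zE j : Subgroup.center ↥GE) : ↥GE) := by
  intro j hj
  rw [chk_ax2W j hj]
  rfl

theorem zE_mem_ker (j : ℕ) : ((zE j : Subgroup.center ↥GE) : ↥GE) ∈ sigE.ker := by
  rw [zE_val, MonoidHom.mem_ker, sigE_wd, wd_lK_ax2]

theorem wd_gE_ex2 : VCert.wd gE (wpow 7 O82T.yW) = 1 := by
  refine wd_gE_eq (w' := []) (fun p hp => by rw [ev5_ex2 hp, ev5_nil]) ?_
  rw [← O82T.chk_W3]
  exact wd_lK_W (by norm_num)

/-- the squares of the central elements are trivial -/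
theorem zE_pow (j : ℕ) : ((zE j : Subgroup.center ↥GE) : ↥GE) ^ 2 = 1 := by
  rcases Nat.lt_or_ge j 12 with hj | hj
  · rw [zE_val, ← wd_wpow, ← chk_p2W j hj]
    refine wd_gE_eq (w' := []) (fun p hp => by rw [ev5_p2 j hj p hp, ev5_nil]) ?_
    rw [chk_p2W j hj, wd_wpow, wd_lK_ax2, one_pow]
    rfl
  · rw [zE_val, ax2W_ge hj]
    exact one_pow _

/-! ### the subgroup generated by the first four pairs -/

/-- the subgroup generated by the first four pairs -/
noncomputable def HE : Subgroup ↥GE := Subgroup.closure (gE '' Set.Iio 4)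

theorem gE_mem_HE {x : ℕ} (hx : x < 4) : gE x ∈ HE := Subgroup.subset_closure ⟨x, hx, rfl⟩

theorem sigE_mem_L (h : ↥GE) (hh : h ∈ HE) : sigE h ∈ L := by
  induction hh using Subgroup.closure_induction with
  | mem y hy =>
    obtain ⟨x, hx, rfl⟩ := hy
    rw [sigE_gE]
    exact lK_mem_L hx
  | one => rw [map_one]; exact Subgroup.one_mem _
  | mul a b _ _ iha ihb => rw [map_mul]; exact Subgroup.mul_mem _ iha ihb
  | inv a _ iha => rw [map_inv]; exact Subgroup.inv_mem _ iha

/-- the projection of the subgroup onto `L` -/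
noncomputable def sigH : ↥HE →* ↥L :=
  (sigE.comp HE.subtype).codRestrict L fun h => sigE_mem_L h.1 h.2

theorem sigH_val (h : ↥HE) : ((sigH h : ↥L) : G) = sigE h.1 := rfl

/-- the first four letters in the subgroup -/
noncomputable def gH (x : ℕ) : ↥HE := if h : x < 4 then ⟨gE x, gE_mem_HE h⟩ else 1

theorem gH_val {x : ℕ} (hx : x < 4) : (gH x : ↥GE) = gE x := by
  rw [gH, dif_pos hx]

theorem gH_of_ge {x : ℕ} (hx : 4 ≤ x) : gH x = 1 := by
  rw [gH, dif_neg (by omega)]

theorem sigH_gH (x : ℕ) : sigH (gH x) = lK1 x := by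
  rcases Nat.lt_or_ge x 4 with hx | hx
  · apply Subtype.ext
    rw [sigH_val, gH_val hx, sigE_gE, lK1_val hx]
  · rw [gH_of_ge hx, lK1_of_ge hx, map_one]

theorem sigH_wd : ∀ w : List ℕ, sigH (VCert.wd gH w) = VCert.wd lK1 w
  | [] => map_one sigH
  | x :: w => by rw [VCert.wd_cons, VCert.wd_cons, map_mul, sigH_gH, sigH_wd w]

theorem wd_gH_val : ∀ w : List ℕ, (∀ x ∈ w, x < 4) → ((VCert.wd gH w : ↥HE) : ↥GE) = VCert.wd gE w
  | [], _ => rfl
  | x :: w, h => by
    rw [VCert.wd_cons, VCert.wd_cons, Subgroup.coe_mul, gH_val (h x List.mem_cons_self),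
      wd_gH_val w fun y hy => h y (List.mem_cons_of_mem _ hy)]

theorem xor_lt_four {x : ℕ} (hx : x < 4) : Nat.xor x 1 < 4 := by
  have : x = 0 ∨ x = 1 ∨ x = 2 ∨ x = 3 := by omega
  rcases this with rfl | rfl | rfl | rfl <;> decide

theorem gH_iv {x : ℕ} (hx : x < 4) : gH (Nat.xor x 1) = (gH x)⁻¹ := by
  apply Subtype.ext
  rw [Subgroup.coe_inv, gH_val (xor_lt_four hx), gH_val hx, gE_iv x (by omega)]

theorem closure_gH : Subgroup.closure (gH '' Set.Iio 4) = ⊤ := by
  have h := Subgroup.closure_closure_coe_preimage (k := gE '' Set.Iio 4)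
  have e : ((↑) ⁻¹' (gE '' Set.Iio 4) : Set ↥(Subgroup.closure (gE '' Set.Iio 4))) = gH '' Set.Iio 4 := by
    ext z
    constructor
    · rintro ⟨x, hx, hz⟩
      exact ⟨x, hx, Subtype.ext (by rw [gH_val hx]; exact hz)⟩
    · rintro ⟨x, hx, rfl⟩
      exact ⟨x, hx, (gH_val hx).symm⟩
  rw [e] at h
  exact h

theorem sigH_surj : Function.Surjective sigH := by
  rw [← MonoidHom.range_eq_top, eq_top_iff, ← closure_lK1, Subgroup.closure_le]
  rintro _ ⟨x, _, rfl⟩
  exact ⟨gH x, sigH_gH x⟩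

theorem hgen_H : ∀ y : ↥HE, ∃ u : List ℕ, (∀ x ∈ u, x < O73A1.cert.g) ∧ y = (u.map gH).prod := by
  apply MG.exists_word_of_closure gH 4 (fun x => Nat.xor x 1) _ closure_gH
  intro x hx
  refine ⟨?_, gH_iv hx⟩
  have : x = 0 ∨ x = 1 ∨ x = 2 ∨ x = 3 := by omega
  rcases this with rfl | rfl | rfl | rfl <;> decide

/-- a word in the first four letters that is trivial in the group and on the 480 points is trivial -/
theorem wd_gH_eq_one {w : List ℕ} (hw : ∀ x ∈ w, x < 4) (h5 : ∀ p, p < 480 → ev5 w p = p)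
    (hK : VCert.wd lK1 w = 1) : VCert.wd gH w = 1 := by
  apply Subtype.ext
  rw [wd_gH_val w hw]
  refine wd_gE_eq (w' := []) (fun p hp => by rw [h5 p hp, ev5_nil]) ?_
  have := congrArg Subtype.val hK
  rw [wd_lK1_val w hw] at this
  rw [this]
  rfl

theorem chk_lt1 : ∀ i, i < 65 → ∀ x ∈ O73A1.cert.W i, x < 4 := by decide +kernel

theorem gH_two_pow : gH 2 ^ 7 = 1 := by
  have h := wd_gH_eq_one (w := wpow 7 [2]) (by decide) (fun p hp => ev5_l1a hp) (by
      rw [← O82L1.chk_W2]; exact wd_lK1_W (by norm_num))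
  rw [wd_wpow, VCert.wd_cons, VCert.wd_nil, mul_one] at h
  exact h

theorem hW0_H : ∀ i, i < O73A1.cert.nW → O73A1.cert.wT i = 0 →
    VCert.wd gH (O73A1.cert.W i) = (O73A1.cert.ek (fun _ => (1 : Subgroup.center ↥HE)) i : ↥HE) := by
  intro i hi hT
  rw [VCert.ek, O73A1.cert.kap_triv _ (fun _ _ => rfl)]
  show _ = (1 : ↥HE)
  rcases O82L1.chk_wT i hi hT with rfl | rfl | ⟨j, hj, rfl⟩
  · rw [O82L1.chk_W2]
    exact wd_gH_eq_one (by decide) (fun p hp => ev5_l1a hp) (by
      rw [← O82L1.chk_W2]; exact wd_lK1_W (by norm_num))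
  · rw [O82L1.chk_W3]
    exact wd_gH_eq_one (by decide) (fun p hp => ev5_l1b hp) (by
      rw [← O82L1.chk_W3]; exact wd_lK1_W (by norm_num))
  · refine wd_gH_eq_one (chk_lt1 _ (O82L1.axI_lt j)) (fun p hp => ?_) (wd_lK1_W (O82L1.axI_lt j))
    rw [chk_ax1W j hj]
    exact ev5_ax1 j hj p hp

instance instFiniteGE : Finite ↥GE := inferInstance

instance instFiniteHE : Finite ↥HE := inferInstance

/-- **the subgroup generated by the first four pairs maps injectively to the group** -/
theorem sigH_ker : sigH.ker = ⊥ := by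
  have h := ker_eq_Zc sigH O73A1.cert gH (fun _ => 1) 2 7 sigH_surj (by rw [card_L]; rfl) (by decide)
    (by norm_num)
    (fun i hi => by rw [sigH_gH] at hi; exact dvd_of_lK1_two_pow hi) gH_two_pow
    (by
      intro x hx
      rcases eq_two_or_three hx with rfl | rfl
      · exact Subgroup.mem_zpowers _
      · have : gH 3 = (gH 2)⁻¹ := gH_iv (x := 2) (by norm_num)
        rw [this]
        exact Subgroup.inv_mem _ (Subgroup.mem_zpowers _))
    (fun j _ => Subgroup.one_mem _) hgen_H (by decide) (by decide)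
    (fun x hx => gH_iv hx)
    (fun i hi => by rw [MonoidHom.mem_ker, sigH_wd]; exact wd_lK1_W hi)
    hW0_H O73A1.cert_all O73A1.cert_wall
  rw [h]
  exact Zc_eq_bot_of_triv _ _ (fun _ _ => rfl)

theorem sigH_injective : Function.Injective sigH := (MonoidHom.ker_eq_bot_iff sigH).1 sigH_ker

/-- an element of the subgroup that lies in the kernel of the projection is trivial -/
theorem hHK_E : ∀ u, u ∈ HE → u ∈ sigE.ker → u = 1 := by
  intro u hu hk
  have h1 : sigH ⟨u, hu⟩ = 1 := by
    apply Subtype.ext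
    rw [sigH_val]
    exact MonoidHom.mem_ker.1 hk
  have h2 : (⟨u, hu⟩ : ↥HE) = 1 := sigH_injective (by rw [h1, map_one])
  exact congrArg Subtype.val h2

theorem card_HE_le : Nat.card ↥HE ≤ 6048 := by
  rw [← card_L]
  exact Nat.card_le_card_of_injective sigH sigH_injective

end Cfsg.Agent.Lib.Helper7.O82M
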