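import Cfsg.Agent.Lib.Helper7.O82MEK0

/-! # The multiplier of the orthogonal group of dimension eight of plus type over the field of two elements: the checks of the words on
the 480 points put together (generated) -/

set_option autoImplicit false
set_option maxRecDepth 100000

namespace Cfsg.Agent.Lib.Helper7.O82M

open Cfsg.Agent.Lib.Helper7.MG Cfsg.Agent.Lib.Helper7.HSMult

/-- the given words of the table of the group -/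
def ax2W : ℕ → List ℕ
  | 0 => cw_ax2_0
  | 1 => cw_ax2_1
  | 2 => cw_ax2_2
  | 3 => cw_ax2_3
  | 4 => cw_ax2_4
  | 5 => cw_ax2_5
  | 6 => cw_ax2_6
  | 7 => cw_ax2_7
  | 8 => cw_ax2_8
  | 9 => cw_ax2_9
  | 10 => cw_ax2_10
  | 11 => cw_ax2_11
  | _ => []

/-- the squares of the given words of the table of the group -/
def p2W : ℕ → List ℕ
  | 0 => cw_p2_0
  | 1 => cw_p2_1
  | 2 => cw_p2_2
  | 3 => cw_p2_3
  | 4 => cw_p2_4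
  | 5 => cw_p2_5
  | 6 => cw_p2_6
  | 7 => cw_p2_7
  | 8 => cw_p2_8
  | 9 => cw_p2_9
  | 10 => cw_p2_10
  | 11 => cw_p2_11
  | _ => []

/-- the given words of the table of the subgroup generated by the first four letters -/
def ax1W : ℕ → List ℕ
  | 0 => cw_ax1_0
  | 1 => cw_ax1_1
  | 2 => cw_ax1_2
  | 3 => cw_ax1_3
  | 4 => cw_ax1_4
  | _ => []

theorem ev5_ax2 : ∀ j, j < 12 → ∀ p, p < 480 → ev5 (ax2W j) p = sh (chiL.getD j 0) p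
  | 0, _, _, hp => shOK_spec shk_ax2_0 hp
  | 1, _, _, hp => shOK_spec shk_ax2_1 hp
  | 2, _, _, hp => shOK_spec shk_ax2_2 hp
  | 3, _, _, hp => shOK_spec shk_ax2_3 hp
  | 4, _, _, hp => shOK_spec shk_ax2_4 hp
  | 5, _, _, hp => shOK_spec shk_ax2_5 hp
  | 6, _, _, hp => shOK_spec shk_ax2_6 hp
  | 7, _, _, hp => shOK_spec shk_ax2_7 hp
  | 8, _, _, hp => shOK_spec shk_ax2_8 hp
  | 9, _, _, hp => shOK_spec shk_ax2_9 hp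
  | 10, _, _, hp => shOK_spec shk_ax2_10 hp
  | 11, _, _, hp => shOK_spec shk_ax2_11 hp
  | j + 12, h, _, _ => absurd h (by omega)

theorem ev5_p2 : ∀ j, j < 12 → ∀ p, p < 480 → ev5 (p2W j) p = p
  | 0, _, _, hp => fxOK_spec fxk_p2_0 hp
  | 1, _, _, hp => fxOK_spec fxk_p2_1 hp
  | 2, _, _, hp => fxOK_spec fxk_p2_2 hp
  | 3, _, _, hp => fxOK_spec fxk_p2_3 hp
  | 4, _, _, hp => fxOK_spec fxk_p2_4 hp
  | 5, _, _, hp => fxOK_spec fxk_p2_5 hp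
  | 6, _, _, hp => fxOK_spec fxk_p2_6 hp
  | 7, _, _, hp => fxOK_spec fxk_p2_7 hp
  | 8, _, _, hp => fxOK_spec fxk_p2_8 hp
  | 9, _, _, hp => fxOK_spec fxk_p2_9 hp
  | 10, _, _, hp => fxOK_spec fxk_p2_10 hp
  | 11, _, _, hp => fxOK_spec fxk_p2_11 hp
  | j + 12, h, _, _ => absurd h (by omega)

theorem ev5_ax1 : ∀ j, j < 5 → ∀ p, p < 480 → ev5 (ax1W j) p = p
  | 0, _, _, hp => fxOK_spec fxk_ax1_0 hp
  | 1, _, _, hp => fxOK_spec fxk_ax1_1 hp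
  | 2, _, _, hp => fxOK_spec fxk_ax1_2 hp
  | 3, _, _, hp => fxOK_spec fxk_ax1_3 hp
  | 4, _, _, hp => fxOK_spec fxk_ax1_4 hp
  | j + 5, h, _, _ => absurd h (by omega)

theorem lk5_sh : ∀ j, j < 12 → ∀ x, x < 6 → ∀ p, p < 480 →
    lk5 x (sh (chiL.getD j 0) p) = sh (chiL.getD j 0) (lk5 x p)
  | 0, _, 0, _, _, hp => cenOK_spec cnk_0_0_0 hp
  | 0, _, 1, _, _, hp => cenOK_spec cnk_1_0_0 hp
  | 0, _, 2, _, _, hp => cenOK_spec cnk_2_0_0 hp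
  | 0, _, 3, _, _, hp => cenOK_spec cnk_3_0_0 hp
  | 0, _, 4, _, _, hp => cenOK_spec cnk_4_0_0 hp
  | 0, _, 5, _, _, hp => cenOK_spec cnk_5_0_0 hp
  | 1, _, 0, _, _, hp => cenOK_spec cnk_0_0_0 hp
  | 1, _, 1, _, _, hp => cenOK_spec cnk_1_0_0 hp
  | 1, _, 2, _, _, hp => cenOK_spec cnk_2_0_0 hp
  | 1, _, 3, _, _, hp => cenOK_spec cnk_3_0_0 hp
  | 1, _, 4, _, _, hp => cenOK_spec cnk_4_0_0 hp
  | 1, _, 5, _, _, hp => cenOK_spec cnk_5_0_0 hp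
  | 2, _, 0, _, _, hp => cenOK_spec cnk_0_0_0 hp
  | 2, _, 1, _, _, hp => cenOK_spec cnk_1_0_0 hp
  | 2, _, 2, _, _, hp => cenOK_spec cnk_2_0_0 hp
  | 2, _, 3, _, _, hp => cenOK_spec cnk_3_0_0 hp
  | 2, _, 4, _, _, hp => cenOK_spec cnk_4_0_0 hp
  | 2, _, 5, _, _, hp => cenOK_spec cnk_5_0_0 hp
  | 3, _, 0, _, _, hp => cenOK_spec cnk_0_2_0 hp
  | 3, _, 1, _, _, hp => cenOK_spec cnk_1_2_0 hp
  | 3, _, 2, _, _, hp => cenOK_spec cnk_2_2_0 hp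
  | 3, _, 3, _, _, hp => cenOK_spec cnk_3_2_0 hp
  | 3, _, 4, _, _, hp => cenOK_spec cnk_4_2_0 hp
  | 3, _, 5, _, _, hp => cenOK_spec cnk_5_2_0 hp
  | 4, _, 0, _, _, hp => cenOK_spec cnk_0_2_0 hp
  | 4, _, 1, _, _, hp => cenOK_spec cnk_1_2_0 hp
  | 4, _, 2, _, _, hp => cenOK_spec cnk_2_2_0 hp
  | 4, _, 3, _, _, hp => cenOK_spec cnk_3_2_0 hp
  | 4, _, 4, _, _, hp => cenOK_spec cnk_4_2_0 hp
  | 4, _, 5, _, _, hp => cenOK_spec cnk_5_2_0 hp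
  | 5, _, 0, _, _, hp => cenOK_spec cnk_0_1_0 hp
  | 5, _, 1, _, _, hp => cenOK_spec cnk_1_1_0 hp
  | 5, _, 2, _, _, hp => cenOK_spec cnk_2_1_0 hp
  | 5, _, 3, _, _, hp => cenOK_spec cnk_3_1_0 hp
  | 5, _, 4, _, _, hp => cenOK_spec cnk_4_1_0 hp
  | 5, _, 5, _, _, hp => cenOK_spec cnk_5_1_0 hp
  | 6, _, 0, _, _, hp => cenOK_spec cnk_0_2_0 hp
  | 6, _, 1, _, _, hp => cenOK_spec cnk_1_2_0 hp
  | 6, _, 2, _, _, hp => cenOK_spec cnk_2_2_0 hp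
  | 6, _, 3, _, _, hp => cenOK_spec cnk_3_2_0 hp
  | 6, _, 4, _, _, hp => cenOK_spec cnk_4_2_0 hp
  | 6, _, 5, _, _, hp => cenOK_spec cnk_5_2_0 hp
  | 7, _, 0, _, _, hp => cenOK_spec cnk_0_1_0 hp
  | 7, _, 1, _, _, hp => cenOK_spec cnk_1_1_0 hp
  | 7, _, 2, _, _, hp => cenOK_spec cnk_2_1_0 hp
  | 7, _, 3, _, _, hp => cenOK_spec cnk_3_1_0 hp
  | 7, _, 4, _, _, hp => cenOK_spec cnk_4_1_0 hp
  | 7, _, 5, _, _, hp => cenOK_spec cnk_5_1_0 hp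
  | 8, _, 0, _, _, hp => cenOK_spec cnk_0_3_0 hp
  | 8, _, 1, _, _, hp => cenOK_spec cnk_1_3_0 hp
  | 8, _, 2, _, _, hp => cenOK_spec cnk_2_3_0 hp
  | 8, _, 3, _, _, hp => cenOK_spec cnk_3_3_0 hp
  | 8, _, 4, _, _, hp => cenOK_spec cnk_4_3_0 hp
  | 8, _, 5, _, _, hp => cenOK_spec cnk_5_3_0 hp
  | 9, _, 0, _, _, hp => cenOK_spec cnk_0_3_0 hp
  | 9, _, 1, _, _, hp => cenOK_spec cnk_1_3_0 hp
  | 9, _, 2, _, _, hp => cenOK_spec cnk_2_3_0 hp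
  | 9, _, 3, _, _, hp => cenOK_spec cnk_3_3_0 hp
  | 9, _, 4, _, _, hp => cenOK_spec cnk_4_3_0 hp
  | 9, _, 5, _, _, hp => cenOK_spec cnk_5_3_0 hp
  | 10, _, 0, _, _, hp => cenOK_spec cnk_0_2_0 hp
  | 10, _, 1, _, _, hp => cenOK_spec cnk_1_2_0 hp
  | 10, _, 2, _, _, hp => cenOK_spec cnk_2_2_0 hp
  | 10, _, 3, _, _, hp => cenOK_spec cnk_3_2_0 hp
  | 10, _, 4, _, _, hp => cenOK_spec cnk_4_2_0 hp
  | 10, _, 5, _, _, hp => cenOK_spec cnk_5_2_0 hp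
  | 11, _, 0, _, _, hp => cenOK_spec cnk_0_0_0 hp
  | 11, _, 1, _, _, hp => cenOK_spec cnk_1_0_0 hp
  | 11, _, 2, _, _, hp => cenOK_spec cnk_2_0_0 hp
  | 11, _, 3, _, _, hp => cenOK_spec cnk_3_0_0 hp
  | 11, _, 4, _, _, hp => cenOK_spec cnk_4_0_0 hp
  | 11, _, 5, _, _, hp => cenOK_spec cnk_5_0_0 hp
  | _, _, x + 6, h, _, _ => absurd h (by omega)
  | j + 12, h, _, _, _, _ => absurd h (by omega)

end Cfsg.Agent.Lib.Helper7.O82M
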