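/-! # The multiplier of the orthogonal group of dimension eight of plus type over the field of two elements: the words to be checked on the 480
points (generated) -/

set_option autoImplicit false

namespace Cfsg.Agent.Lib.Helper7.O82M

/-- a word to be checked on the 480 points -/
def cw_ax2_0 : List Nat := [4, 4]

/-- a word to be checked on the 480 points -/
def cw_ax2_1 : List Nat := [0, 4, 0, 4, 0, 4, 0, 4]

/-- a word to be checked on the 480 points -/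
def cw_ax2_2 : List Nat := [2, 4, 3, 4, 2, 4, 3, 4]

/-- a word to be checked on the 480 points -/
def cw_ax2_3 : List Nat := [0, 3, 4, 2, 4, 0, 4, 3, 4, 2]

/-- a word to be checked on the 480 points -/
def cw_ax2_4 : List Nat := [2, 2, 4, 3, 3, 4, 2, 2, 4, 3, 3, 4]

/-- a word to be checked on the 480 points -/
def cw_ax2_5 : List Nat := [0, 2, 4, 3, 0, 4, 0, 2, 4, 3, 4, 0, 4]

/-- a word to be checked on the 480 points -/
def cw_ax2_6 : List Nat := [0, 2, 4, 3, 0, 2, 4, 3, 0, 2, 4, 3]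

/-- a word to be checked on the 480 points -/
def cw_ax2_7 : List Nat := [0, 2, 2, 4, 3, 3, 4, 0, 3, 4, 2, 0, 4, 2, 2, 4, 3, 3, 0, 4]

/-- a word to be checked on the 480 points -/
def cw_ax2_8 : List Nat := [0, 3, 3, 4, 2, 2, 4, 0, 4, 0, 3, 3, 4, 2, 4, 2, 4, 0, 4]

/-- a word to be checked on the 480 points -/
def cw_ax2_9 : List Nat := [0, 2, 2, 2, 4, 3, 4, 3, 3, 0, 4, 0, 2, 2, 2, 4, 3, 4, 3, 3, 0, 4]

/-- a word to be checked on the 480 points -/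
def cw_ax2_10 : List Nat := [0, 2, 4, 0, 4, 3, 0, 2, 4, 0, 4, 3]

/-- a word to be checked on the 480 points -/
def cw_ax2_11 : List Nat := [0, 2, 0, 4, 2, 0, 3, 3, 0, 4, 0, 2, 2, 0, 3, 4, 0, 3]

/-- a word to be checked on the 480 points -/
def cw_p2_0 : List Nat := [4, 4, 4, 4]

/-- a word to be checked on the 480 points -/
def cw_p2_1 : List Nat := [0, 4, 0, 4, 0, 4, 0, 4, 0, 4, 0, 4, 0, 4, 0, 4]

/-- a word to be checked on the 480 points -/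
def cw_p2_2 : List Nat := [2, 4, 3, 4, 2, 4, 3, 4, 2, 4, 3, 4, 2, 4, 3, 4]

/-- a word to be checked on the 480 points -/
def cw_p2_3 : List Nat := [0, 3, 4, 2, 4, 0, 4, 3, 4, 2, 0, 3, 4, 2, 4, 0, 4, 3, 4, 2]

/-- a word to be checked on the 480 points -/
def cw_p2_4 : List Nat := [2, 2, 4, 3, 3, 4, 2, 2, 4, 3, 3, 4, 2, 2, 4, 3, 3, 4, 2, 2, 4, 3, 3, 4]

/-- a word to be checked on the 480 points -/
def cw_p2_5 : List Nat := [0, 2, 4, 3, 0, 4, 0, 2, 4, 3, 4, 0, 4, 0, 2, 4, 3, 0, 4, 0, 2, 4, 3, 4, 0, 4]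

/-- a word to be checked on the 480 points -/
def cw_p2_6 : List Nat := [0, 2, 4, 3, 0, 2, 4, 3, 0, 2, 4, 3, 0, 2, 4, 3, 0, 2, 4, 3, 0, 2, 4, 3]

/-- a word to be checked on the 480 points -/
def cw_p2_7 : List Nat := [0, 2, 2, 4, 3, 3, 4, 0, 3, 4, 2, 0, 4, 2, 2, 4, 3, 3, 0, 4, 0, 2, 2, 4, 3, 3, 4, 0, 3, 4, 2, 0, 4, 2, 2, 4, 3, 3, 0, 4]

/-- a word to be checked on the 480 points -/
def cw_p2_8 : List Nat := [0, 3, 3, 4, 2, 2, 4, 0, 4, 0, 3, 3, 4, 2, 4, 2, 4, 0, 4, 0, 3, 3, 4, 2, 2, 4, 0, 4, 0, 3, 3, 4, 2, 4, 2, 4, 0, 4]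

/-- a word to be checked on the 480 points -/
def cw_p2_9 : List Nat := [0, 2, 2, 2, 4, 3, 4, 3, 3, 0, 4, 0, 2, 2, 2, 4, 3, 4, 3, 3, 0, 4, 0, 2, 2, 2, 4, 3, 4, 3, 3, 0, 4, 0, 2, 2, 2, 4, 3, 4, 3, 3, 0, 4]

/-- a word to be checked on the 480 points -/
def cw_p2_10 : List Nat := [0, 2, 4, 0, 4, 3, 0, 2, 4, 0, 4, 3, 0, 2, 4, 0, 4, 3, 0, 2, 4, 0, 4, 3]

/-- a word to be checked on the 480 points -/
def cw_p2_11 : List Nat := [0, 2, 0, 4, 2, 0, 3, 3, 0, 4, 0, 2, 2, 0, 3, 4, 0, 3, 0, 2, 0, 4, 2, 0, 3, 3, 0, 4, 0, 2, 2, 0, 3, 4, 0, 3]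

/-- a word to be checked on the 480 points -/
def cw_ex2 : List Nat := [4, 2, 4, 2, 4, 2, 4, 2, 4, 2, 4, 2, 4, 2]

/-- a word to be checked on the 480 points -/
def cw_tN : List Nat := [4, 4]

/-- a word to be checked on the 480 points -/
def cw_l1a : List Nat := [2, 2, 2, 2, 2, 2, 2]

/-- a word to be checked on the 480 points -/
def cw_l1b : List Nat := [0, 2, 0, 2, 0, 2, 0, 2, 0, 2, 0, 2, 0, 2]

/-- a word to be checked on the 480 points -/
def cw_ax1_0 : List Nat := [0, 0]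

/-- a word to be checked on the 480 points -/
def cw_ax1_1 : List Nat := [0, 2, 2, 0, 2, 2, 0, 2, 2, 0, 2, 2, 0, 2, 2, 0, 2, 2]

/-- a word to be checked on the 480 points -/
def cw_ax1_2 : List Nat := [0, 2, 0, 2, 2, 2, 2, 0, 2, 0, 3, 0, 3, 3, 3, 3, 0, 3]

/-- a word to be checked on the 480 points -/
def cw_ax1_3 : List Nat := [0, 2, 0, 2, 0, 3, 0, 2, 0, 3, 3, 0, 2, 0, 3]

/-- a word to be checked on the 480 points -/
def cw_ax1_4 : List Nat := [0, 2, 2, 0, 3, 3, 0, 2, 2, 0, 3, 3, 0, 2, 2, 0, 3, 3]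

end Cfsg.Agent.Lib.Helper7.O82M
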