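import Cfsg.Agent.Lib.Helper7.O82ME
import Cfsg.Agent.Lib.Helper7.O82MEW

/-! # The multiplier of the orthogonal group of dimension eight of plus type over the field of two elements: checks of words on the 480
points, file 0 (generated) -/

set_option autoImplicit false
set_option maxRecDepth 100000

namespace Cfsg.Agent.Lib.Helper7.O82M

theorem shk_ax2_0_0 : shOK cw_ax2_0 0 (480 * 0) 480 = true := by decide +kernel

theorem shk_ax2_0 : ∀ r, r < 1 → shOK cw_ax2_0 0 (480 * r) 480 = true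
  | 0, _ => shk_ax2_0_0
  | r + 1, h => absurd h (by omega)

theorem shk_ax2_1_0 : shOK cw_ax2_1 0 (480 * 0) 480 = true := by decide +kernel

theorem shk_ax2_1 : ∀ r, r < 1 → shOK cw_ax2_1 0 (480 * r) 480 = true
  | 0, _ => shk_ax2_1_0
  | r + 1, h => absurd h (by omega)

theorem shk_ax2_2_0 : shOK cw_ax2_2 0 (480 * 0) 480 = true := by decide +kernel

theorem shk_ax2_2 : ∀ r, r < 1 → shOK cw_ax2_2 0 (480 * r) 480 = true
  | 0, _ => shk_ax2_2_0
  | r + 1, h => absurd h (by omega)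

theorem shk_ax2_3_0 : shOK cw_ax2_3 2 (480 * 0) 480 = true := by decide +kernel

theorem shk_ax2_3 : ∀ r, r < 1 → shOK cw_ax2_3 2 (480 * r) 480 = true
  | 0, _ => shk_ax2_3_0
  | r + 1, h => absurd h (by omega)

theorem shk_ax2_4_0 : shOK cw_ax2_4 2 (480 * 0) 480 = true := by decide +kernel

theorem shk_ax2_4 : ∀ r, r < 1 → shOK cw_ax2_4 2 (480 * r) 480 = true
  | 0, _ => shk_ax2_4_0
  | r + 1, h => absurd h (by omega)

theorem shk_ax2_5_0 : shOK cw_ax2_5 1 (480 * 0) 480 = true := by decide +kernel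

theorem shk_ax2_5 : ∀ r, r < 1 → shOK cw_ax2_5 1 (480 * r) 480 = true
  | 0, _ => shk_ax2_5_0
  | r + 1, h => absurd h (by omega)

theorem shk_ax2_6_0 : shOK cw_ax2_6 2 (480 * 0) 480 = true := by decide +kernel

theorem shk_ax2_6 : ∀ r, r < 1 → shOK cw_ax2_6 2 (480 * r) 480 = true
  | 0, _ => shk_ax2_6_0
  | r + 1, h => absurd h (by omega)

theorem shk_ax2_7_0 : shOK cw_ax2_7 1 (480 * 0) 480 = true := by decide +kernel

theorem shk_ax2_7 : ∀ r, r < 1 → shOK cw_ax2_7 1 (480 * r) 480 = true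
  | 0, _ => shk_ax2_7_0
  | r + 1, h => absurd h (by omega)

theorem shk_ax2_8_0 : shOK cw_ax2_8 3 (480 * 0) 480 = true := by decide +kernel

theorem shk_ax2_8 : ∀ r, r < 1 → shOK cw_ax2_8 3 (480 * r) 480 = true
  | 0, _ => shk_ax2_8_0
  | r + 1, h => absurd h (by omega)

theorem shk_ax2_9_0 : shOK cw_ax2_9 3 (480 * 0) 480 = true := by decide +kernel

theorem shk_ax2_9 : ∀ r, r < 1 → shOK cw_ax2_9 3 (480 * r) 480 = true
  | 0, _ => shk_ax2_9_0
  | r + 1, h => absurd h (by omega)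

theorem shk_ax2_10_0 : shOK cw_ax2_10 2 (480 * 0) 480 = true := by decide +kernel

theorem shk_ax2_10 : ∀ r, r < 1 → shOK cw_ax2_10 2 (480 * r) 480 = true
  | 0, _ => shk_ax2_10_0
  | r + 1, h => absurd h (by omega)

theorem shk_ax2_11_0 : shOK cw_ax2_11 0 (480 * 0) 480 = true := by decide +kernel

theorem shk_ax2_11 : ∀ r, r < 1 → shOK cw_ax2_11 0 (480 * r) 480 = true
  | 0, _ => shk_ax2_11_0
  | r + 1, h => absurd h (by omega)

theorem fxk_p2_0_0 : fxOK cw_p2_0 (480 * 0) 480 = true := by decide +kernel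

theorem fxk_p2_0 : ∀ r, r < 1 → fxOK cw_p2_0 (480 * r) 480 = true
  | 0, _ => fxk_p2_0_0
  | r + 1, h => absurd h (by omega)

theorem fxk_p2_1_0 : fxOK cw_p2_1 (480 * 0) 480 = true := by decide +kernel

theorem fxk_p2_1 : ∀ r, r < 1 → fxOK cw_p2_1 (480 * r) 480 = true
  | 0, _ => fxk_p2_1_0
  | r + 1, h => absurd h (by omega)

theorem fxk_p2_2_0 : fxOK cw_p2_2 (480 * 0) 480 = true := by decide +kernel

theorem fxk_p2_2 : ∀ r, r < 1 → fxOK cw_p2_2 (480 * r) 480 = true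
  | 0, _ => fxk_p2_2_0
  | r + 1, h => absurd h (by omega)

theorem fxk_p2_3_0 : fxOK cw_p2_3 (480 * 0) 480 = true := by decide +kernel

theorem fxk_p2_3 : ∀ r, r < 1 → fxOK cw_p2_3 (480 * r) 480 = true
  | 0, _ => fxk_p2_3_0
  | r + 1, h => absurd h (by omega)

theorem fxk_p2_4_0 : fxOK cw_p2_4 (480 * 0) 480 = true := by decide +kernel

theorem fxk_p2_4 : ∀ r, r < 1 → fxOK cw_p2_4 (480 * r) 480 = true
  | 0, _ => fxk_p2_4_0
  | r + 1, h => absurd h (by omega)

theorem fxk_p2_5_0 : fxOK cw_p2_5 (480 * 0) 480 = true := by decide +kernel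

theorem fxk_p2_5 : ∀ r, r < 1 → fxOK cw_p2_5 (480 * r) 480 = true
  | 0, _ => fxk_p2_5_0
  | r + 1, h => absurd h (by omega)

theorem fxk_p2_6_0 : fxOK cw_p2_6 (480 * 0) 480 = true := by decide +kernel

theorem fxk_p2_6 : ∀ r, r < 1 → fxOK cw_p2_6 (480 * r) 480 = true
  | 0, _ => fxk_p2_6_0
  | r + 1, h => absurd h (by omega)

theorem fxk_p2_7_0 : fxOK cw_p2_7 (480 * 0) 480 = true := by decide +kernel

theorem fxk_p2_7 : ∀ r, r < 1 → fxOK cw_p2_7 (480 * r) 480 = true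
  | 0, _ => fxk_p2_7_0
  | r + 1, h => absurd h (by omega)

theorem fxk_p2_8_0 : fxOK cw_p2_8 (480 * 0) 480 = true := by decide +kernel

theorem fxk_p2_8 : ∀ r, r < 1 → fxOK cw_p2_8 (480 * r) 480 = true
  | 0, _ => fxk_p2_8_0
  | r + 1, h => absurd h (by omega)

theorem fxk_p2_9_0 : fxOK cw_p2_9 (480 * 0) 480 = true := by decide +kernel

theorem fxk_p2_9 : ∀ r, r < 1 → fxOK cw_p2_9 (480 * r) 480 = true
  | 0, _ => fxk_p2_9_0
  | r + 1, h => absurd h (by omega)

theorem fxk_p2_10_0 : fxOK cw_p2_10 (480 * 0) 480 = true := by decide +kernel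

theorem fxk_p2_10 : ∀ r, r < 1 → fxOK cw_p2_10 (480 * r) 480 = true
  | 0, _ => fxk_p2_10_0
  | r + 1, h => absurd h (by omega)

theorem fxk_p2_11_0 : fxOK cw_p2_11 (480 * 0) 480 = true := by decide +kernel

theorem fxk_p2_11 : ∀ r, r < 1 → fxOK cw_p2_11 (480 * r) 480 = true
  | 0, _ => fxk_p2_11_0
  | r + 1, h => absurd h (by omega)

theorem fxk_ex2_0 : fxOK cw_ex2 (480 * 0) 480 = true := by decide +kernel

theorem fxk_ex2 : ∀ r, r < 1 → fxOK cw_ex2 (480 * r) 480 = true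
  | 0, _ => fxk_ex2_0
  | r + 1, h => absurd h (by omega)

theorem fxk_tN_0 : fxOK cw_tN (480 * 0) 480 = true := by decide +kernel

theorem fxk_tN : ∀ r, r < 1 → fxOK cw_tN (480 * r) 480 = true
  | 0, _ => fxk_tN_0
  | r + 1, h => absurd h (by omega)

theorem fxk_l1a_0 : fxOK cw_l1a (480 * 0) 480 = true := by decide +kernel

theorem fxk_l1a : ∀ r, r < 1 → fxOK cw_l1a (480 * r) 480 = true
  | 0, _ => fxk_l1a_0
  | r + 1, h => absurd h (by omega)

theorem fxk_l1b_0 : fxOK cw_l1b (480 * 0) 480 = true := by decide +kernel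

theorem fxk_l1b : ∀ r, r < 1 → fxOK cw_l1b (480 * r) 480 = true
  | 0, _ => fxk_l1b_0
  | r + 1, h => absurd h (by omega)

theorem fxk_ax1_0_0 : fxOK cw_ax1_0 (480 * 0) 480 = true := by decide +kernel

theorem fxk_ax1_0 : ∀ r, r < 1 → fxOK cw_ax1_0 (480 * r) 480 = true
  | 0, _ => fxk_ax1_0_0
  | r + 1, h => absurd h (by omega)

theorem fxk_ax1_1_0 : fxOK cw_ax1_1 (480 * 0) 480 = true := by decide +kernel

theorem fxk_ax1_1 : ∀ r, r < 1 → fxOK cw_ax1_1 (480 * r) 480 = true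
  | 0, _ => fxk_ax1_1_0
  | r + 1, h => absurd h (by omega)

theorem fxk_ax1_2_0 : fxOK cw_ax1_2 (480 * 0) 480 = true := by decide +kernel

theorem fxk_ax1_2 : ∀ r, r < 1 → fxOK cw_ax1_2 (480 * r) 480 = true
  | 0, _ => fxk_ax1_2_0
  | r + 1, h => absurd h (by omega)

theorem fxk_ax1_3_0 : fxOK cw_ax1_3 (480 * 0) 480 = true := by decide +kernel

theorem fxk_ax1_3 : ∀ r, r < 1 → fxOK cw_ax1_3 (480 * r) 480 = true
  | 0, _ => fxk_ax1_3_0
  | r + 1, h => absurd h (by omega)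

theorem fxk_ax1_4_0 : fxOK cw_ax1_4 (480 * 0) 480 = true := by decide +kernel

theorem fxk_ax1_4 : ∀ r, r < 1 → fxOK cw_ax1_4 (480 * r) 480 = true
  | 0, _ => fxk_ax1_4_0
  | r + 1, h => absurd h (by omega)

theorem cnk_0_0_0 : cenOK 0 0 0 480 = true := by decide +kernel

theorem cnk_1_0_0 : cenOK 1 0 0 480 = true := by decide +kernel

theorem cnk_2_0_0 : cenOK 2 0 0 480 = true := by decide +kernel

theorem cnk_3_0_0 : cenOK 3 0 0 480 = true := by decide +kernel

theorem cnk_4_0_0 : cenOK 4 0 0 480 = true := by decide +kernel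

theorem cnk_5_0_0 : cenOK 5 0 0 480 = true := by decide +kernel

theorem cnk_0_1_0 : cenOK 0 1 0 480 = true := by decide +kernel

theorem cnk_1_1_0 : cenOK 1 1 0 480 = true := by decide +kernel

theorem cnk_2_1_0 : cenOK 2 1 0 480 = true := by decide +kernel

theorem cnk_3_1_0 : cenOK 3 1 0 480 = true := by decide +kernel

theorem cnk_4_1_0 : cenOK 4 1 0 480 = true := by decide +kernel

theorem cnk_5_1_0 : cenOK 5 1 0 480 = true := by decide +kernel

theorem cnk_0_2_0 : cenOK 0 2 0 480 = true := by decide +kernel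

theorem cnk_1_2_0 : cenOK 1 2 0 480 = true := by decide +kernel

theorem cnk_2_2_0 : cenOK 2 2 0 480 = true := by decide +kernel

theorem cnk_3_2_0 : cenOK 3 2 0 480 = true := by decide +kernel

theorem cnk_4_2_0 : cenOK 4 2 0 480 = true := by decide +kernel

theorem cnk_5_2_0 : cenOK 5 2 0 480 = true := by decide +kernel

theorem cnk_0_3_0 : cenOK 0 3 0 480 = true := by decide +kernel

theorem cnk_1_3_0 : cenOK 1 3 0 480 = true := by decide +kernel

theorem cnk_2_3_0 : cenOK 2 3 0 480 = true := by decide +kernel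

theorem cnk_3_3_0 : cenOK 3 3 0 480 = true := by decide +kernel

theorem cnk_4_3_0 : cenOK 4 3 0 480 = true := by decide +kernel

theorem cnk_5_3_0 : cenOK 5 3 0 480 = true := by decide +kernel

end Cfsg.Agent.Lib.Helper7.O82M
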