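import Cfsg.Agent.Lib.Helper7.O82MEA

/-!
# The multiplier of the orthogonal group of dimension eight of plus type over the field of two elements: a stem extension of the group with kernel the product of two cyclic groups of order two

The group generated by the pairs is a stem extension of the group whose kernel has at least four elements; together
with the bound for the kernels of the stem extensions of the group, applied to this one, this shows that its kernel is
the product of two cyclic groups of order two.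
-/

set_option autoImplicit false
set_option maxRecDepth 100000

namespace Cfsg.Agent.Lib.Helper7.O82M

open Cfsg Cfsg.Agent.Lib.Helper7.MG Cfsg.Agent.Lib.Helper7.HSMult Cfsg.Agent.Lib.Helper7.O82B
open scoped IsMulCommutative commutatorElement

/-! ### the kernel of the projection -/

theorem wd_gE_mem_ker {i : ℕ} (hi : i < 2217) : VCert.wd gE (O82T.cert.W i) ∈ sigE.ker := by
  rw [MonoidHom.mem_ker, sigE_wd, wd_lK_W hi]

theorem wd_gE_mem_HE : ∀ w : List ℕ, (∀ x ∈ w, x < 4) → VCert.wd gE w ∈ HE
  | [], _ => Subgroup.one_mem _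
  | x :: w, h => by
    rw [VCert.wd_cons]
    exact Subgroup.mul_mem _ (gE_mem_HE (h x List.mem_cons_self))
      (wd_gE_mem_HE w fun y hy => h y (List.mem_cons_of_mem _ hy))

theorem hW0_E : ∀ i, i < O82T.cert.nW → O82T.cert.wT i = 0 →
    VCert.wd gE (O82T.cert.W i) = ((O82T.cert.ek zE i : Subgroup.center ↥GE) : ↥GE) := by
  intro i hi hT
  rcases O82T.chk_wT i hi hT with ⟨h4, h0⟩ | rfl | ⟨j, hj, rfl⟩
  · rw [VCert.ek, O82T.cert.kap_one _ h0]
    apply hHK_E _ (wd_gE_mem_HE _ fun x hx => by simpa [Nat.blt] using List.all_eq_true.1 h4 x hx)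
    exact wd_gE_mem_ker hi
  · rw [VCert.ek, O82T.cert.kap_one _ O82T.chk_ex, O82T.chk_W3]
    exact wd_gE_ex2
  · rw [VCert.ek, O82T.cert.kap_unit _ hj (O82T.chk_ax j hj)]
    exact wd_gE_ax2 j hj

theorem hgen_E : ∀ y : ↥GE, ∃ u : List ℕ, (∀ x ∈ u, x < O82T.cert.g) ∧ y = (u.map gE).prod := by
  apply MG.exists_word_of_closure gE 6 (fun x => Nat.xor x 1) _ closure_gE
  intro x hx
  refine ⟨?_, gE_iv x hx⟩
  have : x = 0 ∨ x = 1 ∨ x = 2 ∨ x = 3 ∨ x = 4 ∨ x = 5 := by omega
  rcases this with rfl | rfl | rfl | rfl | rfl | rfl <;> decide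

/-- **the kernel of the projection is generated by the central elements of the table** -/
theorem ker_sigE : sigE.ker = Zc zE 12 := by
  refine ker_eq_Zc_of_sub sigE O82T.cert gE zE HE 6048 sigE_surj (by rw [card_G]; rfl) (by decide)
    (by norm_num)
    hHK_E card_HE_le ?_ (fun j _ => zE_mem_ker j) hgen_E (by decide) (by decide) (fun x hx => gE_iv x hx)
    (fun i hi => wd_gE_mem_ker hi) hW0_E O82T.cert_all O82T.cert_wall
  intro x hx
  exact gE_mem_HE (lt_four_of_sub hx)

/-! ### the extension is perfect -/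

theorem HE_perfect : commutator ↥HE = ⊤ := by
  have e := MulEquiv.ofBijective sigH ⟨sigH_injective, sigH_surj⟩
  have hs : Function.Surjective e.symm.toMonoidHom := e.symm.surjective
  have h1 : (commutator ↥L).map e.symm.toMonoidHom = commutator ↥HE := by
    rw [commutator_def, Subgroup.map_commutator, ← MonoidHom.range_eq_map, MonoidHom.range_eq_top.2 hs,
      commutator_def]
  have h2 : commutator ↥L = ⊤ := L_perfect
  rw [← h1, h2, ← MonoidHom.range_eq_map, MonoidHom.range_eq_top.2 hs]

theorem HE_le_commutator : HE ≤ commutator ↥GE := by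
  have h1 : (commutator ↥HE).map HE.subtype ≤ commutator ↥GE := by
    rw [commutator_def, Subgroup.map_commutator, commutator_def]
    exact Subgroup.commutator_mono le_top le_top
  rw [HE_perfect, ← MonoidHom.range_eq_map, Subgroup.range_subtype] at h1
  exact h1

theorem chk_t2 : matOK [4, 4] = true := by decide +kernel

theorem lK_four_sq : lK 4 ^ 2 = 1 := by
  have h := wd_lK_eq_one chk_t2
  rw [VCert.wd_cons, VCert.wd_cons, VCert.wd_nil, mul_one] at h
  rw [pow_two, h]

theorem gE_four_pow : gE 4 ^ 2 = 1 := by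
  have h := wd_gE_eq (w := wpow 2 [4]) (w' := []) (fun p hp => by
      rw [ev5_tN hp, ev5_nil]) (by
      rw [wd_wpow, VCert.wd_cons, VCert.wd_nil, mul_one, lK_four_sq])
  rw [wd_wpow, VCert.wd_cons, VCert.wd_nil, mul_one] at h
  exact h

theorem commutator_GE : commutator ↥GE = ⊤ := by
  set K := commutator ↥GE with hK
  set π := QuotientGroup.mk' K with hπ
  have hH : ∀ x, x < 4 → π (gE x) = 1 := fun x hx =>
    (QuotientGroup.eq_one_iff _).2 (HE_le_commutator (gE_mem_HE hx))
  have e7 : π (gE 4) ^ 7 = 1 := by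
    have := congrArg π wd_gE_ex2
    rw [wd_wpow] at this
    simp only [O82T.yW, VCert.wd_cons, VCert.wd_nil, mul_one, map_pow, map_mul, hH 2 (by norm_num), map_one] at this
    exact this
  have e2 : π (gE 4) ^ 2 = 1 := by rw [← map_pow, gE_four_pow, map_one]
  have et : π (gE 4) = 1 := by
    have : π (gE 4) = (π (gE 4) ^ 2) ^ 4 * (π (gE 4) ^ 7)⁻¹ := by
      rw [← pow_mul]; group
    rw [this, e7, e2, one_pow, inv_one, mul_one]
  have ht : gE 4 ∈ K := (QuotientGroup.eq_one_iff _).1 et
  rw [eq_top_iff, ← closure_gE, Subgroup.closure_le]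
  rintro _ ⟨x, hx, rfl⟩
  have hx' : x < 6 := hx
  rcases Nat.lt_or_ge x 4 with h4 | h4
  · exact HE_le_commutator (gE_mem_HE h4)
  · have : x = 4 ∨ x = 5 := by omega
    rcases this with rfl | rfl
    · exact ht
    · have : gE 5 = (gE 4)⁻¹ := gE_iv 4 (by norm_num)
      rw [SetLike.mem_coe, this]
      exact inv_mem ht

/-- **the group generated by the pairs is a stem extension of the group** -/
theorem stem_GE : IsStemExtension sigE := by
  refine ⟨sigE_surj, ?_, ?_⟩
  · rw [ker_sigE]
    exact Zc_le_center zE 12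
  · rw [commutator_GE]
    exact le_top

/-! ### the order of the kernel -/

/-- the words of the kernel -/
def kw : ℕ → List ℕ
  | 1 => ax2W 5
  | 2 => ax2W 3
  | 3 => ax2W 8
  | _ => []

theorem wd_gE_kw_mem : ∀ i, VCert.wd gE (kw i) ∈ sigE.ker
  | 0 => Subgroup.one_mem _
  | 1 => by rw [MonoidHom.mem_ker, sigE_wd]; exact wd_lK_ax2 5
  | 2 => by rw [MonoidHom.mem_ker, sigE_wd]; exact wd_lK_ax2 3
  | 3 => by rw [MonoidHom.mem_ker, sigE_wd]; exact wd_lK_ax2 8
  | _ + 4 => Subgroup.one_mem _

theorem chk_sig : ∀ i, i < 4 → ev5 (kw i) 0 = sigL.getD i 0 ∧ ev5 (kw i) 240 = sigM.getD i 0 := by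
  decide +kernel

theorem chk_nodup : ∀ i, i < 4 → ∀ j, j < 4 → sigL.getD i 0 = sigL.getD j 0 → sigM.getD i 0 = sigM.getD j 0 →
    i = j := by decide +kernel

theorem card_ker_ge : 4 ≤ Nat.card ↥sigE.ker := by
  have hinj : Function.Injective (fun i : Fin 4 => (⟨VCert.wd gE (kw i.val), wd_gE_kw_mem i.val⟩ : ↥sigE.ker)) := by
    intro i j h
    have h1 : VCert.wd gE (kw i.val) = VCert.wd gE (kw j.val) := congrArg Subtype.val h
    have e : sigL.getD i.val 0 = sigL.getD j.val 0 := by
      rw [← (chk_sig i.val i.2).1, ← (chk_sig j.val j.2).1, ev5_of_wd_gE_eq h1 (p := 0) (by norm_num)]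
    have e' : sigM.getD i.val 0 = sigM.getD j.val 0 := by
      rw [← (chk_sig i.val i.2).2, ← (chk_sig j.val j.2).2, ev5_of_wd_gE_eq h1 (p := 240) (by norm_num)]
    exact Fin.ext (chk_nodup i.val i.2 j.val j.2 e e')
  have := Nat.card_le_card_of_injective _ hinj
  rwa [Nat.card_fin] at this

/-- **the kernel of the stem extension is the product of two cyclic groups of order two** -/
theorem ker_GE : Nonempty (↥sigE.ker ≃* Multiplicative (ZMod 2 × ZMod 2)) := by
  obtain ⟨hs, hc, hd⟩ := stem_GE
  obtain ⟨π, hπ⟩ := O82T.exists_surj_of_stem sigE hs hc hd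
  exact nonempty_equiv_of_surj_of_card_le π hπ (by rw [card_prod_22]; exact card_ker_ge)

end Cfsg.Agent.Lib.Helper7.O82M
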