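import Cfsg.Agent.Lib.Helper7.O82MF

/-!
# The multiplier of the orthogonal group of dimension eight of plus type over the field of two elements is the product of two cyclic groups of order two

The stem extension with kernel of order four and the bound for the kernels of the stem extensions are carried over
from the concrete group to the orthogonal group over any field of two elements.
-/

set_option autoImplicit false
set_option maxRecDepth 100000

namespace Cfsg.Agent.Lib.Helper7.O82MZ

open Cfsg Cfsg.Agent.Lib.Helper7.MG Cfsg.Agent.Lib.Helper7.HSMult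

universe u

theorem stem_comp_equiv_left {Γ : Type*} {G : Type*} {G' : Type*} [Group Γ] [Group G] [Group G'] (e : G' ≃* G)
    (σ : Γ →* G') (h : IsStemExtension σ) : IsStemExtension (e.toMonoidHom.comp σ) := by
  obtain ⟨hs, hc, hd⟩ := h
  refine ⟨e.surjective.comp hs, ?_, ?_⟩
  · rw [ker_comp_equiv]
    exact hc
  · rw [ker_comp_equiv]
    exact hd

/-- the orthogonal group over a field of two elements is isomorphic to the concrete group -/
theorem equivG {F : Type u} [Field F] [Fintype F] (hF : Fintype.card F = 2) :
    Nonempty (Cfsg.POmega F (Cfsg.quadFormPlus 4 F) ≃* O82B.G) :=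
  Cfsg.Agent.Lib.Lead.O8P2.exists_iso F hF

/-- **the kernel of every finite stem extension of the orthogonal group is an image of the product of two cyclic
groups of order two** -/
theorem bound {F : Type u} [Field F] [Fintype F] (hF : Fintype.card F = 2) :
    ∀ (Γ : Type u) [Group Γ] [Finite Γ] (σ : Γ →* Cfsg.POmega F (Cfsg.quadFormPlus 4 F)), IsStemExtension σ →
      ∃ π : Multiplicative (ZMod 2 × ZMod 2) →* σ.ker, Function.Surjective π := by
  obtain ⟨e⟩ := equivG hF
  intro Γ _ _ σ hσ
  have h1 := stem_comp_equiv_left e σ hσ
  have h2 := O82T.exists_surj_of_stem (e.toMonoidHom.comp σ) h1.1 h1.2.1 h1.2.2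
  rwa [ker_comp_equiv] at h2

/-- **a stem extension of the orthogonal group whose kernel is the product of two cyclic groups of order two** -/
theorem exists_cover {F : Type u} [Field F] [Fintype F] (hF : Fintype.card F = 2) :
    ∃ (Γ : Type u) (_ : Group Γ) (_ : Finite Γ) (σ : Γ →* Cfsg.POmega F (Cfsg.quadFormPlus 4 F)),
      IsStemExtension σ ∧ Nonempty (σ.ker ≃* Multiplicative (ZMod 2 × ZMod 2)) := by
  obtain ⟨e⟩ := equivG hF
  obtain ⟨iso⟩ := O82M.ker_GE
  obtain ⟨h1, ⟨iso'⟩⟩ := stem_comp_equiv (MulEquiv.ulift (α := ↥O82M.GE)) e.symm O82M.sigE O82M.stem_GE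
  exact ⟨ULift ↥O82M.GE, inferInstance, inferInstance, _, h1, ⟨iso'.trans iso⟩⟩

/-- **the Schur multiplier of the orthogonal group of dimension eight of plus type over a field of two elements is
the product of two cyclic groups of order two** -/
theorem multiplier_o82 {F : Type u} [Field F] [Fintype F] (hF : Fintype.card F = 2) :
    Cfsg.HasSchurMultiplier (Cfsg.POmega F (Cfsg.quadFormPlus 4 F)) (Multiplicative (ZMod 2 × ZMod 2)) :=
  ⟨exists_cover hF, bound hF⟩

end Cfsg.Agent.Lib.Helper7.O82MZ
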