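import Cfsg.Agent.Lib.Helper7.O82TC
import Cfsg.Agent.Lib.Helper7.O82TK19

/-! # The multiplier of the orthogonal group of dimension eight of plus type over the field of two elements, the table of the group: the check of the rows 24300 to 25199 of the certificate (generated) -/

set_option autoImplicit false
set_option maxRecDepth 100000

namespace Cfsg.Agent.Lib.Helper7.O82T

theorem rows_ok_243 : rowsOK 24300 100 = true := by decide +kernel

theorem rows_ok_244 : rowsOK 24400 100 = true := by decide +kernel

theorem rows_ok_245 : rowsOK 24500 100 = true := by decide +kernel

theorem rows_ok_246 : rowsOK 24600 100 = true := by decide +kernel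

theorem rows_ok_247 : rowsOK 24700 100 = true := by decide +kernel

theorem rows_ok_248 : rowsOK 24800 100 = true := by decide +kernel

theorem rows_ok_249 : rowsOK 24900 100 = true := by decide +kernel

theorem rows_ok_250 : rowsOK 25000 100 = true := by decide +kernel

theorem rows_ok_251 : rowsOK 25100 100 = true := by decide +kernel

end Cfsg.Agent.Lib.Helper7.O82T
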