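import Cfsg.Agent.Lib.Helper7.MGenP
import Cfsg.Prelude.Def_KGroupFacts

/-!
# Sections of a subgroup in a central extension, and the reduction of a bound for the stem kernels to the
extensions over which a given subgroup splits

Let `σ : E → G` be a central extension and `H ≤ G` a subgroup with a subgroup `Q` of index two.  If `σ` maps a
subgroup `K` of `E` isomorphically onto `Q` and an element of `H` outside `Q` has a lift of square one that
normalises `K`, then `H` has a section in `E`.  The second part divides the kernel of a stem extension by its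
three-part and proves: if `H` has a section in every central extension whose kernel has order prime to three, and
in every central extension whose kernel is a three-group, then a bound "the kernel is an image of the cyclic group
of order three" that holds for the stem extensions over which `H` splits holds for all stem extensions.
-/

set_option autoImplicit false

namespace Cfsg.Agent.Lib.Helper7.ONSplit

open Cfsg.Agent.Lib.Helper7.M12Mult
open scoped commutatorElement

universe u v

section sect

variable {E : Type u} {G : Type v} [Group E] [Group G] (σ : E →* G)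

/-- the union of `K` and the coset `K c`, for an element `c` of square one normalising `K` -/
def joinSub (K : Subgroup E) (c : E) (hc2 : c * c = 1) (hn : ∀ k ∈ K, c * k * c⁻¹ ∈ K) : Subgroup E where
  carrier := {x | x ∈ K ∨ x * c ∈ K}
  one_mem' := Or.inl K.one_mem
  mul_mem' := by
    have hci : c⁻¹ = c := inv_eq_of_mul_eq_one_left hc2
    have hn' : ∀ k ∈ K, c * k * c ∈ K := fun k hk => by have := hn k hk; rwa [hci] at this
    intro x y hx hy
    rcases hx with hx | hx <;> rcases hy with hy | hy
    · exact Or.inl (K.mul_mem hx hy)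
    · right
      show x * y * c ∈ K
      rw [mul_assoc]
      exact K.mul_mem hx hy
    · right
      show x * y * c ∈ K
      have e : x * y * c = (x * c) * (c * y * c) := by
        have : (x * c) * (c * y * c) = x * (c * c) * y * c := by group
        rw [this, hc2, mul_one]
      rw [e]
      exact K.mul_mem hx (hn' y hy)
    · left
      show x * y ∈ K
      have e : x * y = (x * c) * (c * (y * c) * c) := by
        have : (x * c) * (c * (y * c) * c) = x * (c * c) * y * (c * c) := by group
        rw [this, hc2, mul_one, mul_one]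
      rw [e]
      exact K.mul_mem hx (hn' _ hy)
  inv_mem' := by
    have hci : c⁻¹ = c := inv_eq_of_mul_eq_one_left hc2
    have hn' : ∀ k ∈ K, c * k * c ∈ K := fun k hk => by have := hn k hk; rwa [hci] at this
    intro x hx
    rcases hx with hx | hx
    · exact Or.inl (K.inv_mem hx)
    · right
      show x⁻¹ * c ∈ K
      have h1 : c * (x * c) * c = c * x := by
        have : c * (x * c) * c = c * x * (c * c) := by group
        rw [this, hc2, mul_one]
      have h2 := K.inv_mem (hn' _ hx)
      rw [h1, mul_inv_rev, hci] at h2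
      exact h2

theorem mem_joinSub {K : Subgroup E} {c : E} {hc2 : c * c = 1} {hn : ∀ k ∈ K, c * k * c⁻¹ ∈ K} {x : E} :
    x ∈ joinSub K c hc2 hn ↔ x ∈ K ∨ x * c ∈ K := Iff.rfl

/-- **a section of `H` from an isomorphic lift of a subgroup of index two and a lift of square one** -/
theorem exists_section {H Q : Subgroup G} (K : Subgroup E)
    (hKQ : ∀ k ∈ K, σ k ∈ Q) (hQH : Q ≤ H)
    (hsurj : ∀ q ∈ Q, ∃ k ∈ K, σ k = q)
    (hinj : ∀ k ∈ K, σ k = 1 → k = 1)
    (c : E) (hc2 : c * c = 1) (hcH : σ c ∈ H) (hcQ : σ c ∉ Q)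
    (hn : ∀ k ∈ K, c * k * c⁻¹ ∈ K)
    (hidx : ∀ h ∈ H, h ∈ Q ∨ h * σ c ∈ Q) :
    ∃ s : ↥H →* E, ∀ h : ↥H, σ (s h) = (h : G) := by
  have hσc2 : σ c * σ c = 1 := by rw [← map_mul, hc2, map_one]
  set L := joinSub K c hc2 hn with hL
  have hLH : ∀ x ∈ L, σ x ∈ H := by
    intro x hx
    rcases hx with hx | hx
    · exact hQH (hKQ x hx)
    · have h1 : σ x = σ (x * c) * (σ c)⁻¹ := by rw [map_mul, mul_inv_cancel_right]
      rw [h1]
      exact H.mul_mem (hQH (hKQ _ hx)) (H.inv_mem hcH)
  let f : ↥L →* ↥H := (σ.comp L.subtype).codRestrict H (fun x => hLH x.1 x.2)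
  have hf : ∀ x : ↥L, ((f x : ↥H) : G) = σ x.1 := fun _ => rfl
  have hinjf : Function.Injective f := by
    rw [injective_iff_map_eq_one]
    intro x hx
    have h1 : σ x.1 = 1 := by rw [← hf, hx]; rfl
    rcases x.2 with h | h
    · exact Subtype.ext (hinj _ h h1)
    · exfalso
      apply hcQ
      have h2 := hKQ _ h
      rwa [map_mul, h1, one_mul] at h2
  have hsurjf : Function.Surjective f := by
    intro h
    rcases hidx h.1 h.2 with hq | hq
    · obtain ⟨k, hk, e⟩ := hsurj _ hq
      exact ⟨⟨k, Or.inl hk⟩, Subtype.ext e⟩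
    · obtain ⟨k, hk, e⟩ := hsurj _ hq
      refine ⟨⟨k * c, Or.inr ?_⟩, Subtype.ext ?_⟩
      · rw [mul_assoc, hc2, mul_one]; exact hk
      · show σ (k * c) = h.1
        rw [map_mul, e, mul_assoc, hσc2, mul_one]
  let e := MulEquiv.ofBijective f ⟨hinjf, hsurjf⟩
  refine ⟨L.subtype.comp e.symm.toMonoidHom, fun h => ?_⟩
  show σ (e.symm h).1 = h.1
  rw [← hf]
  show ((e (e.symm h) : ↥H) : G) = h.1
  rw [e.apply_symm_apply]

/-- conjugation by an element whose image normalises `Q` preserves the derived subgroup of the preimage of `Q` -/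
theorem conj_mem_Mt (Q : Subgroup G) (x : E) (hx : ∀ q ∈ Q, σ x * q * (σ x)⁻¹ ∈ Q) {k : E}
    (hk : k ∈ Mt σ Q) : x * k * x⁻¹ ∈ Mt σ Q := by
  have h1 : (Mt σ Q).map (MulAut.conj x).toMonoidHom ≤ Mt σ Q := by
    unfold Mt
    rw [Subgroup.map_commutator]
    apply Subgroup.commutator_mono
    · rintro _ ⟨y, hy, rfl⟩
      show σ (x * y * x⁻¹) ∈ Q
      rw [map_mul, map_mul, map_inv]
      exact hx _ hy
    · rintro _ ⟨y, hy, rfl⟩
      show σ (x * y * x⁻¹) ∈ Q
      rw [map_mul, map_mul, map_inv]
      exact hx _ hy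
  exact h1 ⟨k, hk, rfl⟩

/-- an element of square one that is conjugate to the image of an element of `K` has a lift of square one -/
theorem exists_lift_sq_one (hsurj : Function.Surjective σ) (K : Subgroup E)
    (hinj : ∀ k ∈ K, σ k = 1 → k = 1) (c p : G) (hc2 : c * c = 1) (k : E) (hk : k ∈ K)
    (hkσ : σ k = p * c * p⁻¹) : ∃ c' : E, σ c' = c ∧ c' * c' = 1 := by
  obtain ⟨p', hp'⟩ := hsurj p
  have hkk : k * k = 1 := by
    apply hinj _ (K.mul_mem hk hk)
    rw [map_mul, hkσ]
    have : p * c * p⁻¹ * (p * c * p⁻¹) = p * (c * c) * p⁻¹ := by group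
    rw [this, hc2, mul_one, mul_inv_cancel]
  refine ⟨p'⁻¹ * k * p', ?_, ?_⟩
  · rw [map_mul, map_mul, map_inv, hp', hkσ]
    group
  · have : p'⁻¹ * k * p' * (p'⁻¹ * k * p') = p'⁻¹ * (k * k) * p' := by group
    rw [this, hkk, mul_one, inv_mul_cancel]

end sect

/-- transport of the bound on the stem kernels along an isomorphism -/
theorem MFN.of_equiv {N : ℕ} {Q : Type v} {Q' : Type v} [Group Q] [Group Q'] (e : Q ≃* Q')
    (h : MFN.{u} N Q) : MFN.{u} N Q' := by
  intro Γ' _ _ τ hs hc hd
  have hk : (e.symm.toMonoidHom.comp τ).ker = τ.ker := by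
    ext x
    simp only [MonoidHom.mem_ker, MonoidHom.coe_comp, Function.comp_apply, MulEquiv.coe_toMonoidHom]
    exact e.symm.map_eq_one_iff
  obtain ⟨π, hπ⟩ := h Γ' (e.symm.toMonoidHom.comp τ) (e.symm.surjective.comp hs) (by rw [hk]; exact hc)
    (by rw [hk]; exact hd)
  refine ⟨(MulEquiv.subgroupCongr hk).toMonoidHom.comp π, ?_⟩
  exact (MulEquiv.subgroupCongr hk).surjective.comp hπ

/-- the bound on the stem kernels from the statement on the Schur multiplier -/
theorem MFN.of_multiplier {N : ℕ} {Q : Type u} [Group Q] (h : Cfsg.HasCyclicSchurMultiplier Q N) :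
    MFN.{u} N Q := by
  intro Γ' _ _ τ hs hc hd
  exact h.2 Γ' τ ⟨hs, hc, hd⟩

end Cfsg.Agent.Lib.Helper7.ONSplit
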