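import Cfsg.Agent.Lib.Helper7.ONSplitA

/-!
# Central extensions whose kernel has odd order: lifts of square one and exact Coxeter relations
-/

set_option autoImplicit false

namespace Cfsg.Agent.Lib.Helper7.ONSplit

universe u v

section odd

variable {E : Type u} {G : Type v} [Group E] [Group G] (σ : E →* G)
  (h3 : ∀ z ∈ σ.ker, ∃ n : ℕ, Odd n ∧ z ^ n = 1)

include h3 in
/-- an element of the kernel of square one is trivial -/
theorem eq_one_of_sq {z : E} (hz : z ∈ σ.ker) (h2 : z * z = 1) : z = 1 := by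
  obtain ⟨n, hn, en⟩ := h3 z hz
  have d1 : orderOf z ∣ 2 := orderOf_dvd_of_pow_eq_one (by rw [pow_two]; exact h2)
  have d2 : orderOf z ∣ n := orderOf_dvd_of_pow_eq_one en
  have hc : Nat.Coprime 2 n := Nat.coprime_two_left.2 hn
  have d3 : orderOf z ∣ 1 := by
    have := Nat.dvd_gcd d1 d2
    rwa [hc] at this
  exact orderOf_eq_one_iff.1 (Nat.dvd_one.1 d3)

include h3 in
/-- an element of square one has a lift of square one -/
theorem exists_lift_sq_one_odd (hsurj : Function.Surjective σ) (hcen : σ.ker ≤ Subgroup.center E)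
    (y : G) (hy : y * y = 1) : ∃ x : E, σ x = y ∧ x * x = 1 := by
  obtain ⟨x0, hx0⟩ := hsurj y
  have hz : x0 * x0 ∈ σ.ker := by rw [MonoidHom.mem_ker, map_mul, hx0, hy]
  obtain ⟨n, hodd, ek⟩ := h3 _ hz
  obtain ⟨m, hm⟩ := hodd
  have hzm : (x0 * x0) ^ m ∈ σ.ker := σ.ker.pow_mem hz m
  have hzmc := Subgroup.mem_center_iff.1 (hcen hzm)
  refine ⟨x0 * (x0 * x0) ^ m, ?_, ?_⟩
  · rw [map_mul, hx0, MonoidHom.mem_ker.1 hzm, mul_one]
  · have e1 : x0 * (x0 * x0) ^ m * (x0 * (x0 * x0) ^ m) = (x0 * x0) * ((x0 * x0) ^ m * (x0 * x0) ^ m) := by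
      rw [mul_assoc x0 ((x0 * x0) ^ m), ← mul_assoc ((x0 * x0) ^ m) x0, ← hzmc x0]
      group
    rw [e1, ← pow_add, ← pow_succ', ← two_mul, ← hm, ek]

include h3 in
/-- the Coxeter relations are exact on lifts of square one -/
theorem cox_exact (hcen : σ.ker ≤ Subgroup.center E) (a b : E) (ha : a * a = 1) (hb : b * b = 1) (m : ℕ)
    (hm : (a * b) ^ m ∈ σ.ker) : (a * b) ^ m = 1 := by
  apply eq_one_of_sq σ h3 hm
  have hai : a⁻¹ = a := inv_eq_of_mul_eq_one_left ha
  have hbi : b⁻¹ = b := inv_eq_of_mul_eq_one_left hb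
  have hc := Subgroup.mem_center_iff.1 (hcen hm) a
  -- conjugation by `a` inverts
  have e1 : a * (a * b) ^ m * a⁻¹ = ((a * b) ^ m)⁻¹ := by
    rw [← conj_pow, ← inv_pow]
    congr 1
    rw [mul_inv_rev, hai, hbi, ← mul_assoc, ha, one_mul]
  have e2 : a * (a * b) ^ m * a⁻¹ = (a * b) ^ m := by
    rw [hc, mul_inv_cancel_right]
  rw [e2] at e1
  calc (a * b) ^ m * (a * b) ^ m = (a * b) ^ m * ((a * b) ^ m)⁻¹ := by rw [← e1]
    _ = 1 := mul_inv_cancel _

include h3 in
/-- a relation `u = v` between elements of square one, that holds modulo the kernel, is exact -/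
theorem eq_of_sq_one (hcen : σ.ker ≤ Subgroup.center E) (u v : E) (hu : u * u = 1) (hv : v * v = 1)
    (huv : u * v⁻¹ ∈ σ.ker) : u * v⁻¹ = 1 := by
  apply eq_one_of_sq σ h3 huv
  have hc := Subgroup.mem_center_iff.1 (hcen huv)
  have hvi : v⁻¹ = v := inv_eq_of_mul_eq_one_left hv
  calc u * v⁻¹ * (u * v⁻¹) = u * ((u * v⁻¹) * v⁻¹) := by rw [mul_assoc u v⁻¹, hc v⁻¹]
    _ = u * u * (v⁻¹ * v⁻¹) := by group
    _ = 1 := by rw [hu, hvi, hv, one_mul]

end odd

/-- the elements of a finite kernel of odd order have odd order -/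
theorem odd_pow_of_odd_card {E : Type u} {G : Type v} [Group E] [Group G] [Finite E] (σ : E →* G)
    (h : Odd (Nat.card ↥σ.ker)) : ∀ z ∈ σ.ker, ∃ n : ℕ, Odd n ∧ z ^ n = 1 := by
  intro z hz
  refine ⟨Nat.card ↥σ.ker, h, ?_⟩
  have h1 : (⟨z, hz⟩ : ↥σ.ker) ^ Nat.card ↥σ.ker = 1 := pow_card_eq_one'
  have := congrArg Subtype.val h1
  simpa using this

/-- a surjective image of a perfect group is perfect -/
theorem commutator_eq_top_of_surjective {A B : Type*} [Group A] [Group B] (f : A →* B)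
    (hf : Function.Surjective f) (hA : commutator A = ⊤) : commutator B = ⊤ := by
  have h1 : (commutator A).map f = commutator B := by
    rw [commutator_def, commutator_def, Subgroup.map_commutator, Subgroup.map_top_of_surjective f hf]
  rw [← h1, hA, Subgroup.map_top_of_surjective f hf]

end Cfsg.Agent.Lib.Helper7.ONSplit
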