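import Mathlib
import Cfsg.Agent.Lib.Helper5.SLn

/-!
# The Steinberg group of `SL_n` (helper7), part A: generators, relations, the map to `SL_n`

`St K n` is the group presented by symbols `x_ij(t)` with Steinberg's relations; `X i j t` are
its generators (with junk value `1` for `i = j`), `toSL` the homomorphism to `SL_n(K)`.
-/

set_option autoImplicit false

namespace Cfsg.Agent.Lib.Helper7.StSL

open Matrix

/-- index type of the generators -/
abbrev Idx (n : ℕ) := {ij : Fin n × Fin n // ij.1 ≠ ij.2}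

/-- Steinberg's relators -/
def rels (K : Type*) [Field K] (n : ℕ) : Set (FreeGroup (Idx n × K)) :=
  {g : FreeGroup ({ij : Fin n × Fin n // ij.1 ≠ ij.2} × K) | ∃ (a : {ij : Fin n × Fin n // ij.1 ≠ ij.2}) (t u : K),
      g = FreeGroup.of (a, t) * FreeGroup.of (a, u) * (FreeGroup.of (a, t + u))⁻¹} ∪
    {g | ∃ (a b : {ij : Fin n × Fin n // ij.1 ≠ ij.2}) (t u : K), a.1.1 ≠ b.1.2 ∧ a.1.2 ≠ b.1.1 ∧
      g = FreeGroup.of (a, t) * FreeGroup.of (b, u) * (FreeGroup.of (a, t))⁻¹ * (FreeGroup.of (b, u))⁻¹} ∪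
    {g | ∃ (a b : {ij : Fin n × Fin n // ij.1 ≠ ij.2}) (h : a.1.1 ≠ b.1.2) (t u : K), a.1.2 = b.1.1 ∧
      g = FreeGroup.of (a, t) * FreeGroup.of (b, u) * (FreeGroup.of (a, t))⁻¹ * (FreeGroup.of (b, u))⁻¹ *
        (FreeGroup.of (⟨(a.1.1, b.1.2), h⟩, t * u))⁻¹}

/-- the Steinberg group -/
abbrev St (K : Type*) [Field K] (n : ℕ) := PresentedGroup (rels K n)

variable {K : Type*} [Field K] {n : ℕ}

/-- the generators `x_ij(t)` -/
noncomputable def X (i j : Fin n) (t : K) : St K n :=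
  if h : i ≠ j then PresentedGroup.of (⟨(i, j), h⟩, t) else 1

theorem X_of {i j : Fin n} (h : i ≠ j) (t : K) :
    X i j t = (PresentedGroup.of (⟨(i, j), h⟩, t) : St K n) := dif_pos h

theorem X_add {i j : Fin n} (h : i ≠ j) (t u : K) : X i j t * X i j u = X i j (t + u) := by
  rw [X_of h, X_of h, X_of h]
  have : (FreeGroup.of ((⟨(i, j), h⟩ : Idx n), t) * FreeGroup.of (⟨(i, j), h⟩, u) *
      (FreeGroup.of (⟨(i, j), h⟩, t + u))⁻¹) ∈ rels K n :=
    Or.inl (Or.inl ⟨⟨(i, j), h⟩, t, u, rfl⟩)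
  have h1 := PresentedGroup.one_of_mem this
  rw [map_mul, map_mul, map_inv, mul_inv_eq_one] at h1
  exact h1

theorem X_zero (i j : Fin n) : X i j (0 : K) = 1 := by
  by_cases h : i ≠ j
  · have := X_add h (0 : K) 0
    rw [add_zero] at this
    exact mul_eq_left.1 this
  · exact dif_neg h

theorem X_inv {i j : Fin n} (h : i ≠ j) (t : K) : (X i j t)⁻¹ = X i j (-t) := by
  rw [inv_eq_iff_mul_eq_one, X_add h, add_neg_cancel, X_zero]

/-- (R2): commuting generators -/
theorem X_comm {i j k l : Fin n} (hij : i ≠ j) (hkl : k ≠ l) (hil : i ≠ l) (hjk : j ≠ k)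
    (t u : K) : X i j t * X k l u = X k l u * X i j t := by
  rw [X_of hij, X_of hkl]
  have : (FreeGroup.of ((⟨(i, j), hij⟩ : Idx n), t) * FreeGroup.of ((⟨(k, l), hkl⟩ : Idx n), u) *
      (FreeGroup.of ((⟨(i, j), hij⟩ : Idx n), t))⁻¹ *
      (FreeGroup.of ((⟨(k, l), hkl⟩ : Idx n), u))⁻¹) ∈ rels K n :=
    Or.inl (Or.inr ⟨⟨(i, j), hij⟩, ⟨(k, l), hkl⟩, t, u, hil, hjk, rfl⟩)
  have h1 := PresentedGroup.one_of_mem this
  rw [map_mul, map_mul, map_mul, map_inv, map_inv, mul_inv_eq_one, mul_inv_eq_iff_eq_mul] at h1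
  exact h1

/-- (R3): the commutator formula -/
theorem X_comm3 {i j l : Fin n} (hij : i ≠ j) (hjl : j ≠ l) (hil : i ≠ l) (t u : K) :
    X i j t * X j l u * (X i j t)⁻¹ * (X j l u)⁻¹ = X i l (t * u) := by
  rw [X_of hij, X_of hjl, X_of hil]
  have : (FreeGroup.of ((⟨(i, j), hij⟩ : Idx n), t) * FreeGroup.of ((⟨(j, l), hjl⟩ : Idx n), u) *
      (FreeGroup.of ((⟨(i, j), hij⟩ : Idx n), t))⁻¹ *
      (FreeGroup.of ((⟨(j, l), hjl⟩ : Idx n), u))⁻¹ *
      (FreeGroup.of ((⟨(i, l), hil⟩ : Idx n), t * u))⁻¹) ∈ rels K n :=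
    Or.inr ⟨⟨(i, j), hij⟩, ⟨(j, l), hjl⟩, hil, t, u, rfl, rfl⟩
  have h1 := PresentedGroup.one_of_mem this
  rw [map_mul, map_mul, map_mul, map_mul, map_inv, map_inv, map_inv, mul_inv_eq_one] at h1
  exact h1

/-- conjugation, the commuting case -/
theorem conj_same {i j k l : Fin n} (hij : i ≠ j) (hkl : k ≠ l) (hil : i ≠ l) (hjk : j ≠ k)
    (t u : K) : X i j t * X k l u * (X i j t)⁻¹ = X k l u := by
  rw [X_comm hij hkl hil hjk, mul_inv_cancel_right]

/-- conjugation, `x_ij(t) x_jl(u) x_ij(t)⁻¹ = x_il(tu) x_jl(u)` -/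
theorem conj_right {i j l : Fin n} (hij : i ≠ j) (hjl : j ≠ l) (hil : i ≠ l) (t u : K) :
    X i j t * X j l u * (X i j t)⁻¹ = X i l (t * u) * X j l u := by
  rw [← X_comm3 hij hjl hil, inv_mul_cancel_right]

/-- conjugation, `x_jl(u) x_ij(t) x_jl(u)⁻¹ = x_ij(t) x_il(-tu)` -/
theorem conj_left {i j l : Fin n} (hij : i ≠ j) (hjl : j ≠ l) (hil : i ≠ l) (t u : K) :
    X j l u * X i j t * (X j l u)⁻¹ = X i j t * X i l (-(t * u)) := by
  have h := X_comm3 hij hjl hil (-t) u
  rw [← X_inv hij, inv_inv] at h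
  -- h : (X i j t)⁻¹ * X j l u * X i j t * (X j l u)⁻¹ = X i l (-t * u)
  have h2 : X j l u * X i j t * (X j l u)⁻¹ = X i j t * ((X i j t)⁻¹ * X j l u * X i j t * (X j l u)⁻¹) := by
    simp only [mul_assoc, mul_inv_cancel_left]
  rw [h2, h, neg_mul]

section toSL

/-- the images of the generators -/
noncomputable def genSL (p : Idx n × K) : SpecialLinearGroup (Fin n) K :=
  SpecialLinearGroup.transvection p.1.2 p.2

theorem single_mul_single_ne' {i j k l : Fin n} (hjk : j ≠ k) (a b : K) :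
    Matrix.single i j a * Matrix.single k l b = 0 :=
  Matrix.single_mul_single_of_ne (c := a) i j k hjk b

theorem genSL_rels : ∀ r ∈ rels K n, FreeGroup.lift genSL r = 1 := by
  intro r hr
  rcases hr with (⟨a, t, u, rfl⟩ | ⟨a, b, t, u, h1, h2, rfl⟩) | ⟨a, b, h, t, u, h2, rfl⟩
  · simp only [map_mul, map_inv, FreeGroup.lift_apply_of, genSL]
    rw [mul_inv_eq_one, ← SpecialLinearGroup.transvection_add]
  · simp only [map_mul, map_inv, FreeGroup.lift_apply_of, genSL]
    rw [mul_inv_eq_one, mul_inv_eq_iff_eq_mul]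
    apply SpecialLinearGroup.coeMonoidHom_injective
    simp only [map_mul, SpecialLinearGroup.coeMonoidHom_apply, SpecialLinearGroup.transvection_coe]
    simp only [add_mul, mul_add, one_mul, mul_one, single_mul_single_ne' h2,
      single_mul_single_ne' h1.symm]
    abel
  · simp only [map_mul, map_inv, FreeGroup.lift_apply_of, genSL]
    rw [mul_inv_eq_one, mul_inv_eq_iff_eq_mul, mul_inv_eq_iff_eq_mul]
    apply SpecialLinearGroup.coeMonoidHom_injective
    simp only [map_mul, SpecialLinearGroup.coeMonoidHom_apply, SpecialLinearGroup.transvection_coe]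
    have e1 : Matrix.single a.1.1 a.1.2 t * Matrix.single b.1.1 b.1.2 u
        = Matrix.single a.1.1 b.1.2 (t * u) := by
      rw [h2]
      exact Matrix.single_mul_single_same _ _ _ _ _
    have e2 : Matrix.single b.1.1 b.1.2 u * Matrix.single a.1.1 a.1.2 t = 0 :=
      single_mul_single_ne' h.symm _ _
    have e3 : Matrix.single a.1.1 b.1.2 (t * u) * Matrix.single b.1.1 b.1.2 u = 0 :=
      single_mul_single_ne' (Ne.symm b.2) _ _
    have e4 : Matrix.single a.1.1 b.1.2 (t * u) * Matrix.single a.1.1 a.1.2 t = 0 :=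
      single_mul_single_ne' h.symm _ _
    simp only [add_mul, mul_add, one_mul, mul_one, e1, e2, e3, e4, add_zero]
    abel

/-- the homomorphism to `SL_n` -/
noncomputable def toSL : St K n →* SpecialLinearGroup (Fin n) K :=
  PresentedGroup.toGroup genSL_rels

theorem toSL_X {i j : Fin n} (h : i ≠ j) (t : K) :
    toSL (X i j t) = SpecialLinearGroup.transvection h t := by
  rw [X_of h]
  exact PresentedGroup.toGroup.of genSL_rels

theorem toSL_surjective (hn : 2 ≤ n) : Function.Surjective (toSL : St K n → _) := by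
  have hnt : Nontrivial (Fin n) := by
    obtain ⟨m, rfl⟩ : ∃ m, n = m + 2 := ⟨n - 2, by omega⟩
    infer_instance
  intro A
  change A ∈ (toSL : St K n →* _).range
  refine Matrix.SpecialLinearGroup.diagonal_transvection_induction'
    (fun A => A ∈ (toSL : St K n →* _).range) A ?_ (fun i j hij y => ⟨X i j y, toSL_X hij y⟩)
    (fun _ _ ↦ mul_mem)
  intro i j hij y hy
  rw [Cfsg.Agent.Lib.Helper5.SLn.diag2n_decompose hij y hy]
  have ht : ∀ (a b : Fin n) (hab : a ≠ b) (c : K),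
      SpecialLinearGroup.transvection hab c ∈ (toSL : St K n →* _).range :=
    fun a b hab c => ⟨X a b c, toSL_X hab c⟩
  exact mul_mem (mul_mem (mul_mem (mul_mem (mul_mem (ht _ _ _ _) (ht _ _ _ _)) (ht _ _ _ _))
    (ht _ _ _ _)) (ht _ _ _ _)) (ht _ _ _ _)

end toSL

end Cfsg.Agent.Lib.Helper7.StSL
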