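import Mathlib
import Cfsg.Agent.Lib.Helper7.StSLA
import Cfsg.Agent.Lib.Helper5.St.RankOneFin

/-!
# The Steinberg group of `SL_n` (helper7), part B: the elements `w_ij(t)` and rank one data
-/

set_option autoImplicit false

namespace Cfsg.Agent.Lib.Helper7.StSL

open Cfsg.Agent.Lib.Helper5.St

variable {K : Type*} [Field K] {n : ℕ}

theorem conj3 {G : Type*} [Group G] (a b x : G) :
    (a * b * a) * x * (a * b * a)⁻¹ = a * (b * (a * x * a⁻¹) * b⁻¹) * a⁻¹ := by group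

theorem conj_mul2 {G : Type*} [Group G] (g a b : G) :
    g * (a * b) * g⁻¹ = (g * a * g⁻¹) * (g * b * g⁻¹) := by group

theorem conj_comm4 {G : Type*} [Group G] (g a b : G) :
    g * (a * b * a⁻¹ * b⁻¹) * g⁻¹
      = (g * a * g⁻¹) * (g * b * g⁻¹) * (g * a * g⁻¹)⁻¹ * (g * b * g⁻¹)⁻¹ := by group

/-- `w_ij(t)` -/
noncomputable def w (i j : Fin n) (t : K) : St K n := X i j t * X j i (-t⁻¹) * X i j t

theorem sandwich {G : Type*} [Group G] (p q p' : G) (hc : p * q = q * p) (hp : p * p' = 1) :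
    p * q * p' = q := by rw [hc, mul_assoc, hp, mul_one]

theorem X_neg_mul {i j : Fin n} (h : i ≠ j) (u : K) : X i j (-u) * X i j u = 1 := by
  rw [X_add h, neg_add_cancel, X_zero]

theorem X_mul_neg {i j : Fin n} (h : i ≠ j) (u : K) : X i j u * X i j (-u) = 1 := by
  rw [X_add h, add_neg_cancel, X_zero]

/-- (W1) -/
theorem w_conj_ik {i j k : Fin n} (hij : i ≠ j) (hik : i ≠ k) (hjk : j ≠ k) (t : K) (ht : t ≠ 0)
    (u : K) : w i j t * X i k u * (w i j t)⁻¹ = X j k (-t⁻¹ * u) := by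
  have s1 : X i j t * X i k u * (X i j t)⁻¹ = X i k u := conj_same hij hik hik hij.symm t u
  have s2 : X j i (-t⁻¹) * X i k u * (X j i (-t⁻¹))⁻¹ = X j k (-t⁻¹ * u) * X i k u :=
    conj_right hij.symm hik hjk _ _
  have s3 : X i j t * (X j k (-t⁻¹ * u) * X i k u) * (X i j t)⁻¹ = X j k (-t⁻¹ * u) := by
    rw [conj_mul2, conj_right hij hjk hik, s1]
    have e : t * (-t⁻¹ * u) = -u := by field_simp
    rw [e]
    exact sandwich _ _ _ (X_comm hik hjk hik hjk.symm _ _) (X_neg_mul hik u)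
  unfold w
  rw [conj3, s1, s2, s3]

/-- (W2) -/
theorem w_conj_jk {i j k : Fin n} (hij : i ≠ j) (hik : i ≠ k) (hjk : j ≠ k) (t : K) (ht : t ≠ 0)
    (u : K) : w i j t * X j k u * (w i j t)⁻¹ = X i k (t * u) := by
  have s1 : X i j t * X j k u * (X i j t)⁻¹ = X i k (t * u) * X j k u := conj_right hij hjk hik t u
  have s2 : X j i (-t⁻¹) * (X i k (t * u) * X j k u) * (X j i (-t⁻¹))⁻¹ = X i k (t * u) := by
    rw [conj_mul2, conj_right hij.symm hik hjk, conj_same hij.symm hjk hjk hij]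
    have e : -t⁻¹ * (t * u) = -u := by field_simp
    rw [e]
    exact sandwich _ _ _ (X_comm hjk hik hjk hik.symm _ _) (X_neg_mul hjk u)
  have s3 : X i j t * X i k (t * u) * (X i j t)⁻¹ = X i k (t * u) :=
    conj_same hij hik hik hij.symm _ _
  unfold w
  rw [conj3, s1, s2, s3]

/-- (W3) -/
theorem w_conj_ki {i j k : Fin n} (hij : i ≠ j) (hik : i ≠ k) (hjk : j ≠ k) (t : K) (ht : t ≠ 0)
    (u : K) : w i j t * X k i u * (w i j t)⁻¹ = X k j (-(t * u)) := by
  have s1 : X i j t * X k i u * (X i j t)⁻¹ = X k i u * X k j (-(u * t)) :=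
    conj_left hik.symm hij hjk.symm u t
  have s2 : X j i (-t⁻¹) * (X k i u * X k j (-(u * t))) * (X j i (-t⁻¹))⁻¹ = X k j (-(u * t)) := by
    rw [conj_mul2, conj_same hij.symm hik.symm hij.symm hik,
      conj_left hjk.symm hij.symm hik.symm]
    have e : -(-(u * t) * -t⁻¹) = -u := by field_simp
    rw [e, ← mul_assoc]
    exact sandwich _ _ _ (X_comm hik.symm hjk.symm hjk.symm hik _ _) (X_mul_neg hik.symm u)
  have s3 : X i j t * X k j (-(u * t)) * (X i j t)⁻¹ = X k j (-(u * t)) :=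
    conj_same hij hjk.symm hij hjk _ _
  unfold w
  rw [conj3, s1, s2, s3, mul_comm u t]

/-- (W4) -/
theorem w_conj_kj {i j k : Fin n} (hij : i ≠ j) (hik : i ≠ k) (hjk : j ≠ k) (t : K) (ht : t ≠ 0)
    (u : K) : w i j t * X k j u * (w i j t)⁻¹ = X k i (t⁻¹ * u) := by
  have s1 : X i j t * X k j u * (X i j t)⁻¹ = X k j u := conj_same hij hjk.symm hij hjk t u
  have e2 : -(u * -t⁻¹) = t⁻¹ * u := by ring
  have s2 : X j i (-t⁻¹) * X k j u * (X j i (-t⁻¹))⁻¹ = X k j u * X k i (t⁻¹ * u) := by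
    rw [conj_left hjk.symm hij.symm hik.symm, e2]
  have s3 : X i j t * (X k j u * X k i (t⁻¹ * u)) * (X i j t)⁻¹ = X k i (t⁻¹ * u) := by
    rw [conj_mul2, s1, conj_left hik.symm hij hjk.symm]
    have e : -(t⁻¹ * u * t) = -u := by field_simp
    rw [e, ← mul_assoc]
    exact sandwich _ _ _ (X_comm hjk.symm hik.symm hik.symm hjk _ _) (X_mul_neg hjk.symm u)
  unfold w
  rw [conj3, s1, s2, s3]

/-- (W5) -/
theorem w_conj_disj {i j k l : Fin n} (hij : i ≠ j) (hkl : k ≠ l) (hik : i ≠ k) (hil : i ≠ l)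
    (hjk : j ≠ k) (hjl : j ≠ l) (t u : K) : w i j t * X k l u * (w i j t)⁻¹ = X k l u := by
  unfold w
  rw [conj3, conj_same hij hkl hil hjk, conj_same hij.symm hkl hjl hik, conj_same hij hkl hil hjk]

/-- (W6) -/
theorem w_conj_ij {i j k : Fin n} (hij : i ≠ j) (hik : i ≠ k) (hjk : j ≠ k) (t : K) (ht : t ≠ 0)
    (u : K) : w i j t * X i j u * (w i j t)⁻¹ = X j i (-(t ^ 2)⁻¹ * u) := by
  have h1 := X_comm3 hik hjk.symm hij u (1 : K)
  rw [mul_one] at h1
  rw [← h1, conj_comm4, w_conj_ik hij hik hjk t ht, w_conj_kj hij hik hjk t ht,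
    X_comm3 hjk hik.symm hij.symm]
  congr 1
  field_simp

/-- (W7) -/
theorem w_conj_ji {i j k : Fin n} (hij : i ≠ j) (hik : i ≠ k) (hjk : j ≠ k) (t : K) (ht : t ≠ 0)
    (u : K) : w i j t * X j i u * (w i j t)⁻¹ = X i j (-(t ^ 2) * u) := by
  have h1 := X_comm3 hjk hik.symm hij.symm u (1 : K)
  rw [mul_one] at h1
  rw [← h1, conj_comm4, w_conj_jk hij hik hjk t ht, w_conj_ki hij hik hjk t ht,
    X_comm3 hik hjk.symm hij]
  congr 1
  ring

/-- the rank one data of the pair `(i, j)` (a third index `k` is needed for the relations) -/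
noncomputable def r1 {i j k : Fin n} (hij : i ≠ j) (hik : i ≠ k) (hjk : j ≠ k) :
    R1Data K (St K n) where
  x := X i j
  y := X j i
  x_add := X_add hij
  y_add := X_add hij.symm
  wx := fun t ht u => w_conj_ij hij hik hjk t ht u
  wy := fun t ht u => w_conj_ji hij hik hjk t ht u

theorem r1_x {i j k : Fin n} (hij : i ≠ j) (hik : i ≠ k) (hjk : j ≠ k) (t : K) :
    (r1 hij hik hjk).x t = X i j t := rfl

theorem r1_y {i j k : Fin n} (hij : i ≠ j) (hik : i ≠ k) (hjk : j ≠ k) (t : K) :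
    (r1 hij hik hjk).y t = X j i t := rfl

theorem r1_w {i j k : Fin n} (hij : i ≠ j) (hik : i ≠ k) (hjk : j ≠ k) (t : K) :
    (r1 hij hik hjk).w t = w i j t := rfl

/-- `h_ij(t)` -/
noncomputable def h (i j : Fin n) (t : K) : St K n := w i j t * w i j (-1)

theorem r1_h {i j k : Fin n} (hij : i ≠ j) (hik : i ≠ k) (hjk : j ≠ k) (t : K) :
    (r1 hij hik hjk).h t = h i j t := rfl

end Cfsg.Agent.Lib.Helper7.StSL
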