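import Mathlib
import Cfsg.Agent.Lib.Helper7.StSLB

/-!
# The Steinberg group of `SL_n` (helper7), part C: the elements `h_ij(t)`; they are multiplicative
over a finite field
-/

set_option autoImplicit false

namespace Cfsg.Agent.Lib.Helper7.StSL

open Cfsg.Agent.Lib.Helper5.St

variable {K : Type*} [Field K] {n : ℕ}

theorem exists_third (hn : 3 ≤ n) (i j : Fin n) : ∃ m : Fin n, i ≠ m ∧ j ≠ m := by
  by_contra hcon
  push Not at hcon
  have h1 : (Finset.univ : Finset (Fin n)) ⊆ {i, j} := by
    intro m _
    by_cases hm : i = m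
    · simp [hm]
    · have := hcon m hm
      simp [this]
  have h2 := Finset.card_le_card h1
  rw [Finset.card_univ, Fintype.card_fin] at h2
  have h3 : ({i, j} : Finset (Fin n)).card ≤ 2 := Finset.card_le_two
  omega

theorem conj2 {G : Type*} [Group G] (a b x : G) :
    (a * b) * x * (a * b)⁻¹ = a * (b * x * b⁻¹) * a⁻¹ := by group

/-- the scalar by which `h_ij(c)` acts on `x_kl` -/
noncomputable def chi (i j k l : Fin n) (c : K) : K :=
  (if k = i then c else 1) * (if k = j then c⁻¹ else 1) * (if l = i then c⁻¹ else 1) *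
    (if l = j then c else 1)

theorem chi_mul (i j k l : Fin n) (t u : K) :
    chi i j k l (t * u) = chi i j k l t * chi i j k l u := by
  unfold chi
  split_ifs <;> simp only [mul_inv, mul_one, one_mul] <;> ring

theorem chi_ne_zero (i j k l : Fin n) (c : K) (hc : c ≠ 0) : chi i j k l c ≠ 0 := by
  unfold chi
  have := inv_ne_zero hc
  split_ifs <;> simp [hc]

theorem chi_one (i j k l : Fin n) : chi i j k l (1 : K) = 1 := by
  unfold chi
  split_ifs <;> simp

theorem h_conj (hn : 3 ≤ n) {i j k l : Fin n} (hij : i ≠ j) (hkl : k ≠ l) (c : K) (hc : c ≠ 0)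
    (u : K) : h i j c * X k l u * (h i j c)⁻¹ = X k l (chi i j k l c * u) := by
  have hm1 : (-1 : K) ≠ 0 := neg_ne_zero.2 one_ne_zero
  by_cases hki : k = i
  · subst hki
    by_cases hlj : l = j
    · subst hlj
      obtain ⟨m, hkm, hlm⟩ := exists_third hn k l
      have := (r1 hkl hkm hlm).h_conj_x c hc u
      simp only [r1_h, r1_x] at this
      have hchi : chi k l k l c = c ^ 2 := by
        unfold chi
        simp [hkl, hkl.symm]
        ring
      rw [this, hchi]
    · -- `k = i`, `l ∉ {i, j}`
      have hjl : j ≠ l := fun h => hlj h.symm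
      have hchi : chi k j k l c = c := by
        unfold chi
        simp [hkl.symm, hlj, hij]
      unfold h
      rw [conj2, w_conj_ik hij hkl hjl (-1) hm1, w_conj_jk hij hkl hjl c hc, hchi]
      congr 1
      field_simp
  · by_cases hkj : k = j
    · subst hkj
      by_cases hli : l = i
      · subst hli
        obtain ⟨m, hlm, hkm⟩ := exists_third hn l k
        have := (r1 hij hlm hkm).h_conj_y c hc u
        simp only [r1_h, r1_y] at this
        have hchi : chi l k k l c = (c ^ 2)⁻¹ := by
          unfold chi
          simp [hkl, hkl.symm]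
          field_simp
        rw [this, hchi]
      · -- `k = j`, `l ∉ {i, j}`
        have hil : i ≠ l := fun h => hli h.symm
        have hchi : chi i k k l c = c⁻¹ := by
          unfold chi
          simp [hki, hli, hkl.symm]
        unfold h
        rw [conj2, w_conj_jk hij hil hkl (-1) hm1, w_conj_ik hij hil hkl c hc, hchi]
        congr 1
        ring
    · -- `k ∉ {i, j}`
      have hik : i ≠ k := fun h => hki h.symm
      have hjk : j ≠ k := fun h => hkj h.symm
      by_cases hli : l = i
      · subst hli
        have hchi : chi l j k l c = c⁻¹ := by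
          unfold chi
          simp [hki, hkj, hij]
        unfold h
        rw [conj2, w_conj_ki hij hik hjk (-1) hm1, w_conj_kj hij hik hjk c hc, hchi]
        congr 1
        ring
      · by_cases hlj : l = j
        · subst hlj
          have hchi : chi i l k l c = c := by
            unfold chi
            simp [hki, hkj, hli]
          unfold h
          rw [conj2, w_conj_kj hij hik hjk (-1) hm1, w_conj_ki hij hik hjk c hc, hchi]
          congr 1
          field_simp
        · have hil : i ≠ l := fun h => hli h.symm
          have hjl : j ≠ l := fun h => hlj h.symm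
          have hchi : chi i j k l c = 1 := by
            unfold chi
            simp [hki, hkj, hli, hlj]
          unfold h
          rw [conj2, w_conj_disj hij hkl hik hil hjk hjl, w_conj_disj hij hkl hik hil hjk hjl,
            hchi, one_mul]

theorem h_inv_conj (hn : 3 ≤ n) {i j k l : Fin n} (hij : i ≠ j) (hkl : k ≠ l) (c : K) (hc : c ≠ 0)
    (u : K) : (h i j c)⁻¹ * X k l u * h i j c = X k l ((chi i j k l c)⁻¹ * u) := by
  have := h_conj hn hij hkl c hc ((chi i j k l c)⁻¹ * u)
  rw [← mul_assoc, mul_inv_cancel₀ (chi_ne_zero i j k l c hc), one_mul] at this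
  rw [← this]
  group

/-- the defect of multiplicativity of `h_ij` is central -/
theorem h_defect_central (hn : 3 ≤ n) {i j : Fin n} (hij : i ≠ j) (t u : K) (ht : t ≠ 0)
    (hu : u ≠ 0) : h i j t * h i j u * (h i j (t * u))⁻¹ ∈ Subgroup.center (St K n) := by
  set z := h i j t * h i j u * (h i j (t * u))⁻¹ with hz
  have hgen : ∀ p : Idx n × K, (PresentedGroup.of p : St K n) ∈ Subgroup.centralizer {z} := by
    rintro ⟨⟨⟨k, l⟩, hkl⟩, v⟩
    rw [Subgroup.mem_centralizer_iff]
    intro y hy
    rw [Set.mem_singleton_iff] at hy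
    subst hy
    have hkl' : k ≠ l := hkl
    rw [← X_of hkl' v]
    have key : z * X k l v * z⁻¹ = X k l v := by
      have e : z * X k l v * z⁻¹ = h i j t * (h i j u * ((h i j (t * u))⁻¹ * X k l v * h i j (t * u)) *
          (h i j u)⁻¹) * (h i j t)⁻¹ := by
        rw [hz]
        group
      rw [e, h_inv_conj hn hij hkl' (t * u) (mul_ne_zero ht hu), h_conj hn hij hkl' u hu,
        h_conj hn hij hkl' t ht, chi_mul]
      congr 1
      have h1 := chi_ne_zero i j k l t ht
      have h2 := chi_ne_zero i j k l u hu
      field_simp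
    calc z * X k l v = z * X k l v * z⁻¹ * z := by group
      _ = X k l v * z := by rw [key]
  rw [Subgroup.mem_center_iff]
  intro g
  have hg : g ∈ Subgroup.centralizer {z} := PresentedGroup.generated_by _ _ hgen g
  rw [Subgroup.mem_centralizer_iff] at hg
  exact (hg z rfl).symm

/-- over a finite field `h_ij` is multiplicative -/
theorem h_mul [Fintype K] (hn : 3 ≤ n) {i j : Fin n} (hij : i ≠ j) (t u : K) (ht : t ≠ 0)
    (hu : u ≠ 0) : h i j t * h i j u = h i j (t * u) := by
  obtain ⟨m, him, hjm⟩ := exists_third hn i j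
  have := (r1 hij him hjm).h_mul (fun a b ha hb => h_defect_central hn hij a b ha hb) t u ht hu
  simpa only [r1_h] using this

theorem h_one (hn : 3 ≤ n) {i j : Fin n} (hij : i ≠ j) : h i j (1 : K) = 1 := by
  obtain ⟨m, him, hjm⟩ := exists_third hn i j
  exact (r1 hij him hjm).h_one

theorem h_inv [Fintype K] (hn : 3 ≤ n) {i j : Fin n} (hij : i ≠ j) (t : K) (ht : t ≠ 0) :
    (h i j t)⁻¹ = h i j t⁻¹ := by
  rw [inv_eq_iff_mul_eq_one, h_mul hn hij t t⁻¹ ht (inv_ne_zero ht), mul_inv_cancel₀ ht,
    h_one hn hij]

end Cfsg.Agent.Lib.Helper7.StSL
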