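import Mathlib
import Cfsg.Agent.Lib.Helper7.StSLC

/-!
# The Steinberg group of `SL_n` (helper7), part D: subgroups generated by root subgroups
-/

set_option autoImplicit false

namespace Cfsg.Agent.Lib.Helper7.StSL

open Cfsg.Agent.Lib.Helper5.St

variable {K : Type*} [Field K] {n : ℕ}

/-- the subgroup generated by the root subgroups `x_kl` with `R k l` -/
def XR (K : Type*) [Field K] {n : ℕ} (R : Fin n → Fin n → Prop) : Subgroup (St K n) :=
  Subgroup.closure {g | ∃ (k l : Fin n) (t : K), R k l ∧ k ≠ l ∧ g = X k l t}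

theorem X_mem_XR {R : Fin n → Fin n → Prop} {k l : Fin n} (h : R k l) (hkl : k ≠ l) (t : K) :
    X k l t ∈ XR K R := Subgroup.subset_closure ⟨k, l, t, h, hkl, rfl⟩

theorem XR_mono {R R' : Fin n → Fin n → Prop} (h : ∀ k l, R k l → R' k l) : XR K R ≤ XR K R' := by
  apply Subgroup.closure_mono
  rintro g ⟨k, l, t, hR, hkl, rfl⟩
  exact ⟨k, l, t, h k l hR, hkl, rfl⟩

theorem XR_le {R : Fin n → Fin n → Prop} {H : Subgroup (St K n)}
    (h : ∀ k l (t : K), R k l → k ≠ l → X k l t ∈ H) : XR K R ≤ H := by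
  rw [XR, Subgroup.closure_le]
  rintro g ⟨k, l, t, hR, hkl, rfl⟩
  exact h k l t hR hkl

/-- induction, multiplying generators on the left -/
theorem XR_induction_left {R : Fin n → Fin n → Prop} {p : St K n → Prop} (one : p 1)
    (mul : ∀ (k l : Fin n) (t : K), R k l → k ≠ l → ∀ y, y ∈ XR K R → p y → p (X k l t * y))
    {x : St K n} (hx : x ∈ XR K R) : p x := by
  unfold XR at hx
  induction hx using Subgroup.closure_induction_left with
  | one => exact one
  | mul_left g hg y hy ih =>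
    obtain ⟨k, l, t, hR, hkl, rfl⟩ := hg
    exact mul k l t hR hkl y hy ih
  | inv_mul_cancel g hg y hy ih =>
    obtain ⟨k, l, t, hR, hkl, rfl⟩ := hg
    rw [X_inv hkl]
    exact mul k l (-t) hR hkl y hy ih

/-- induction, multiplying generators on the right -/
theorem XR_induction_right {R : Fin n → Fin n → Prop} {p : St K n → Prop} (one : p 1)
    (mul : ∀ (k l : Fin n) (t : K), R k l → k ≠ l → ∀ y, y ∈ XR K R → p y → p (y * X k l t))
    {x : St K n} (hx : x ∈ XR K R) : p x := by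
  unfold XR at hx
  induction hx using Subgroup.closure_induction_right with
  | one => exact one
  | mul_right y hy g hg ih =>
    obtain ⟨k, l, t, hR, hkl, rfl⟩ := hg
    exact mul k l t hR hkl y hy ih
  | mul_inv_cancel y hy g hg ih =>
    obtain ⟨k, l, t, hR, hkl, rfl⟩ := hg
    rw [X_inv hkl]
    exact mul k l (-t) hR hkl y hy ih

/-- if conjugation by `g` maps the generators into `H`, it maps `XR R` into `H` -/
theorem conj_mem_of_gens {R : Fin n → Fin n → Prop} {H : Subgroup (St K n)} (g : St K n)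
    (h : ∀ (k l : Fin n) (t : K), R k l → k ≠ l → g * X k l t * g⁻¹ ∈ H) {x : St K n}
    (hx : x ∈ XR K R) : g * x * g⁻¹ ∈ H := by
  refine XR_induction_left (p := fun x => g * x * g⁻¹ ∈ H) (by simp) ?_ hx
  intro k l t hR hkl y _ ih
  have : g * (X k l t * y) * g⁻¹ = (g * X k l t * g⁻¹) * (g * y * g⁻¹) := by group
  rw [this]
  exact mul_mem (h k l t hR hkl) ih

/-- `XR R` normalizes `XR R'` if the generators do -/
theorem XR_normalizes {R R' : Fin n → Fin n → Prop}
    (h : ∀ (i j : Fin n) (c : K), R i j → i ≠ j → ∀ (k l : Fin n) (t : K), R' k l → k ≠ l →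
      X i j c * X k l t * (X i j c)⁻¹ ∈ XR K R')
    {g x : St K n} (hg : g ∈ XR K R) (hx : x ∈ XR K R') : g * x * g⁻¹ ∈ XR K R' := by
  revert x
  refine XR_induction_left (p := fun g => ∀ {x : St K n}, x ∈ XR K R' → g * x * g⁻¹ ∈ XR K R')
    (fun hx => by simpa using hx) ?_ hg
  intro i j c hR hij y _ ih x hx
  have : X i j c * y * x * (X i j c * y)⁻¹ = X i j c * (y * x * y⁻¹) * (X i j c)⁻¹ := by group
  rw [this]
  exact conj_mem_of_gens _ (fun k l t hR' hkl => h i j c hR hij k l t hR' hkl) (ih hx)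

/-- the inverse conjugation -/
theorem XR_normalizes' {R R' : Fin n → Fin n → Prop}
    (h : ∀ (i j : Fin n) (c : K), R i j → i ≠ j → ∀ (k l : Fin n) (t : K), R' k l → k ≠ l →
      X i j c * X k l t * (X i j c)⁻¹ ∈ XR K R')
    {g x : St K n} (hg : g ∈ XR K R) (hx : x ∈ XR K R') : g⁻¹ * x * g ∈ XR K R' := by
  have := XR_normalizes h (inv_mem hg) hx
  rwa [inv_inv] at this

section torus

variable [Fintype K]

/-- the torus `{h_ba(c)}` -/
noncomputable def DD (hn : 3 ≤ n) {a b : Fin n} (hab : b ≠ a) : Subgroup (St K n) where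
  carrier := {g | ∃ c : K, c ≠ 0 ∧ g = h b a c}
  one_mem' := ⟨1, one_ne_zero, (h_one hn hab).symm⟩
  mul_mem' := by
    rintro _ _ ⟨c, hc, rfl⟩ ⟨c', hc', rfl⟩
    exact ⟨c * c', mul_ne_zero hc hc', h_mul hn hab c c' hc hc'⟩
  inv_mem' := by
    rintro _ ⟨c, hc, rfl⟩
    exact ⟨c⁻¹, inv_ne_zero hc, h_inv hn hab c hc⟩

theorem mem_DD (hn : 3 ≤ n) {a b : Fin n} (hab : b ≠ a) {g : St K n} :
    g ∈ DD (K := K) hn hab ↔ ∃ c : K, c ≠ 0 ∧ g = h b a c := Iff.rfl

/-- the torus normalizes every `XR R` -/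
theorem DD_normalizes (hn : 3 ≤ n) {a b : Fin n} (hab : b ≠ a) (R : Fin n → Fin n → Prop)
    {d x : St K n} (hd : d ∈ DD (K := K) hn hab) (hx : x ∈ XR K R) : d * x * d⁻¹ ∈ XR K R := by
  obtain ⟨c, hc, rfl⟩ := hd
  refine conj_mem_of_gens _ (fun k l t hR hkl => ?_) hx
  rw [h_conj hn hab hkl c hc]
  exact X_mem_XR hR hkl _

theorem DD_normalizes' (hn : 3 ≤ n) {a b : Fin n} (hab : b ≠ a) (R : Fin n → Fin n → Prop)
    {d x : St K n} (hd : d ∈ DD (K := K) hn hab) (hx : x ∈ XR K R) : d⁻¹ * x * d ∈ XR K R := by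
  have := DD_normalizes hn hab R (inv_mem hd) hx
  rwa [inv_inv] at this

end torus

end Cfsg.Agent.Lib.Helper7.StSL
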