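import Mathlib
import Cfsg.Agent.Lib.Helper7.StSLD

/-!
# The Steinberg group of `SL_n` (helper7), part E: the two double cosets of a maximal parabolic

For a set `J` of indices and `a ≠ b` in `J`, every element of `G_J = ⟨x_kl : k, l ∈ J⟩` lies in
`D P ∪ D P w P`, where `P = ⟨x_kl : k, l ∈ J, l ≠ a⟩`, `D = {h_ba(c)}` and `w = w_ba(1)`.
-/

set_option autoImplicit false

namespace Cfsg.Agent.Lib.Helper7.StSL

open Cfsg.Agent.Lib.Helper5.St

variable {K : Type*} [Field K] {n : ℕ}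

/-- all root subgroups with indices in `J` -/
def RG (J : Finset (Fin n)) : Fin n → Fin n → Prop := fun k l => k ∈ J ∧ l ∈ J

/-- the parabolic: column index different from `a` -/
def RP (J : Finset (Fin n)) (a : Fin n) : Fin n → Fin n → Prop := fun k l => k ∈ J ∧ l ∈ J ∧ l ≠ a

/-- row `a`, columns in `M` -/
def RA (M : Finset (Fin n)) (a : Fin n) : Fin n → Fin n → Prop := fun k l => k = a ∧ l ∈ M

/-- column `a`, rows in `M` -/
def RY (M : Finset (Fin n)) (a : Fin n) : Fin n → Fin n → Prop := fun k l => l = a ∧ k ∈ M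

theorem XR_empty_RY (a : Fin n) : XR K (RY (∅ : Finset (Fin n)) a) = ⊥ := by
  rw [eq_bot_iff]
  apply XR_le
  intro k l t h _
  exact absurd h.2 (Finset.notMem_empty k)

theorem XR_empty_RA (a : Fin n) : XR K (RA (∅ : Finset (Fin n)) a) = ⊥ := by
  rw [eq_bot_iff]
  apply XR_le
  intro k l t h _
  exact absurd h.2 (Finset.notMem_empty l)

/-- splitting off one row index from a column group -/
theorem RY_decomp {M : Finset (Fin n)} {a m : Fin n} (hma : m ≠ a) {y : St K n}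
    (hy : y ∈ XR K (RY (insert m M) a)) :
    ∃ (t : K), ∃ y' ∈ XR K (RY M a), y = X m a t * y' := by
  refine XR_induction_left (p := fun y => ∃ (t : K), ∃ y' ∈ XR K (RY M a), y = X m a t * y')
    ⟨0, 1, one_mem _, by rw [X_zero, one_mul]⟩ ?_ hy
  rintro k l s ⟨rfl, hk⟩ hkl y _ ⟨t, y', hy', rfl⟩
  rcases Finset.mem_insert.1 hk with rfl | hkM
  · exact ⟨s + t, y', hy', by rw [← mul_assoc, X_add hkl]⟩
  · refine ⟨t, X k l s * y', mul_mem (X_mem_XR ⟨rfl, hkM⟩ hkl s) hy', ?_⟩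
    rw [← mul_assoc, ← mul_assoc, X_comm hkl hma hkl hma.symm]

/-- splitting off one column index from a row group -/
theorem RA_decomp {M : Finset (Fin n)} {a m : Fin n} (hma : m ≠ a) {y : St K n}
    (hy : y ∈ XR K (RA (insert m M) a)) :
    ∃ (t : K), ∃ y' ∈ XR K (RA M a), y = X a m t * y' := by
  refine XR_induction_left (p := fun y => ∃ (t : K), ∃ y' ∈ XR K (RA M a), y = X a m t * y')
    ⟨0, 1, one_mem _, by rw [X_zero, one_mul]⟩ ?_ hy
  rintro k l s ⟨rfl, hl⟩ hkl y _ ⟨t, y', hy', rfl⟩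
  rcases Finset.mem_insert.1 hl with rfl | hlM
  · exact ⟨s + t, y', hy', by rw [← mul_assoc, X_add hkl]⟩
  · refine ⟨t, X k l s * y', mul_mem (X_mem_XR ⟨rfl, hlM⟩ hkl s) hy', ?_⟩
    rw [← mul_assoc, ← mul_assoc, X_comm hkl hma.symm hma.symm hkl.symm]

section parabolic

variable [Fintype K]

/-- membership in `D P ∪ D P w P` -/
def InS (hn : 3 ≤ n) (J : Finset (Fin n)) {a b : Fin n} (hab : b ≠ a) (g : St K n) : Prop :=
  ∃ d ∈ DD (K := K) hn hab, ∃ p ∈ XR K (RP J a),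
    g = d * p ∨ ∃ p' ∈ XR K (RP J a), g = d * p * w b a 1 * p'

theorem InS.one (hn : 3 ≤ n) (J : Finset (Fin n)) {a b : Fin n} (hab : b ≠ a) :
    InS hn J hab (1 : St K n) :=
  ⟨1, one_mem _, 1, one_mem _, Or.inl (by rw [one_mul])⟩

theorem InS.mul_P {hn : 3 ≤ n} {J : Finset (Fin n)} {a b : Fin n} {hab : b ≠ a} {g p : St K n}
    (hg : InS hn J hab g) (hp : p ∈ XR K (RP J a)) : InS hn J hab (g * p) := by
  obtain ⟨d, hd, p₁, hp₁, rfl | ⟨p', hp', rfl⟩⟩ := hg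
  · exact ⟨d, hd, p₁ * p, mul_mem hp₁ hp, Or.inl (by rw [mul_assoc])⟩
  · exact ⟨d, hd, p₁, hp₁, Or.inr ⟨p' * p, mul_mem hp' hp, by simp only [mul_assoc]⟩⟩

theorem InS.D_mul {hn : 3 ≤ n} {J : Finset (Fin n)} {a b : Fin n} {hab : b ≠ a} {g d : St K n}
    (hd : d ∈ DD (K := K) hn hab) (hg : InS hn J hab g) : InS hn J hab (d * g) := by
  obtain ⟨d₁, hd₁, p₁, hp₁, rfl | ⟨p', hp', rfl⟩⟩ := hg
  · exact ⟨d * d₁, mul_mem hd hd₁, p₁, hp₁, Or.inl (by rw [mul_assoc])⟩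
  · exact ⟨d * d₁, mul_mem hd hd₁, p₁, hp₁, Or.inr ⟨p', hp', by simp only [mul_assoc]⟩⟩

theorem InS.P_mul {hn : 3 ≤ n} {J : Finset (Fin n)} {a b : Fin n} {hab : b ≠ a} {g p : St K n}
    (hp : p ∈ XR K (RP J a)) (hg : InS hn J hab g) : InS hn J hab (p * g) := by
  obtain ⟨d, hd, p₁, hp₁, rfl | ⟨p', hp', rfl⟩⟩ := hg
  · refine ⟨d, hd, (d⁻¹ * p * d) * p₁, mul_mem (DD_normalizes' hn hab _ hd hp) hp₁, Or.inl ?_⟩
    group
  · refine ⟨d, hd, (d⁻¹ * p * d) * p₁, mul_mem (DD_normalizes' hn hab _ hd hp) hp₁,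
      Or.inr ⟨p', hp', ?_⟩⟩
    group

omit [Fintype K] in
theorem w_inv' (hn : 3 ≤ n) {a b : Fin n} (hab : b ≠ a) (t : K) :
    (w b a t)⁻¹ = w b a (-t) := by
  obtain ⟨m, hbm, ham⟩ := exists_third hn b a
  exact (r1 hab hbm ham).w_inv t

omit [Fintype K] in
theorem w_eq_h_mul (hn : 3 ≤ n) {a b : Fin n} (hab : b ≠ a) (t : K) :
    w b a t = h b a t * w b a 1 := by
  unfold h
  rw [← w_inv' hn hab 1, inv_mul_cancel_right]

omit [Fintype K] in
theorem X_eq_ywy (hn : 3 ≤ n) {a b : Fin n} (hab : b ≠ a) (t : K) (ht : t ≠ 0) :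
    X b a t = X a b t⁻¹ * w b a t * X a b t⁻¹ := by
  obtain ⟨m, hbm, ham⟩ := exists_third hn b a
  exact (r1 hab hbm ham).x_eq t ht

omit [Fintype K] in
theorem Y_eq_xwx (hn : 3 ≤ n) {a b : Fin n} (hab : b ≠ a) (u : K) :
    X a b u = X b a u⁻¹ * w b a (-u⁻¹) * X b a u⁻¹ := by
  obtain ⟨m, hbm, ham⟩ := exists_third hn b a
  exact (r1 hab hbm ham).y_eq u

omit [Fintype K] in
theorem w_mul_w' (hn : 3 ≤ n) {a b : Fin n} (hab : b ≠ a) (s s' : K) :
    w b a s * w b a s' = h b a s * (h b a (-s'))⁻¹ := by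
  obtain ⟨m, hbm, ham⟩ := exists_third hn b a
  exact (r1 hab hbm ham).w_mul_w s s'

omit [Fintype K] in
/-- `w⁻¹ x_ba(s) w = x_ab(-s)` -/
theorem wE_conj_Xba (hn : 3 ≤ n) {a b : Fin n} (hab : b ≠ a) (s : K) :
    (w b a (1 : K))⁻¹ * X b a s * w b a 1 = X a b (-s) := by
  obtain ⟨m, hbm, ham⟩ := exists_third hn b a
  have := w_conj_ij hab hbm ham (-1 : K) (neg_ne_zero.2 one_ne_zero) s
  rw [← w_inv' hn hab, inv_inv] at this
  rw [this]
  congr 1
  norm_num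

omit [Fintype K] in
theorem Xab_mem_P {J : Finset (Fin n)} {a b : Fin n} (hab : b ≠ a) (ha : a ∈ J) (hb : b ∈ J)
    (t : K) : X a b t ∈ XR K (RP J a) :=
  X_mem_XR ⟨ha, hb, hab⟩ hab.symm t

/-- (L5) -/
theorem InS.Xba (hn : 3 ≤ n) {J : Finset (Fin n)} {a b : Fin n} (hab : b ≠ a) (ha : a ∈ J)
    (hb : b ∈ J) (t : K) : InS hn J hab (X b a t) := by
  by_cases ht : t = 0
  · rw [ht, X_zero]
    exact InS.one hn J hab
  · have hd : h b a t ∈ DD (K := K) hn hab := ⟨t, ht, rfl⟩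
    have hp := Xab_mem_P (K := K) hab ha hb t⁻¹
    refine ⟨h b a t, hd, (h b a t)⁻¹ * X a b t⁻¹ * h b a t, DD_normalizes' hn hab _ hd hp,
      Or.inr ⟨X a b t⁻¹, hp, ?_⟩⟩
    rw [X_eq_ywy hn hab t ht, w_eq_h_mul hn hab t]
    group

end parabolic

end Cfsg.Agent.Lib.Helper7.StSL
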