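import Mathlib
import Cfsg.Agent.Lib.Helper7.StSLE

/-!
# The Steinberg group of `SL_n` (helper7), part F: `G_J = D P ∪ D P w P`
-/

set_option autoImplicit false

namespace Cfsg.Agent.Lib.Helper7.StSL

open Cfsg.Agent.Lib.Helper5.St

variable {K : Type*} [Field K] {n : ℕ}

theorem L_le_P (J : Finset (Fin n)) (a : Fin n) : XR K (RG (J.erase a)) ≤ XR K (RP J a) :=
  XR_mono fun _ _ h => ⟨Finset.mem_of_mem_erase h.1, Finset.mem_of_mem_erase h.2,
    Finset.ne_of_mem_erase h.2⟩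

theorem A_le_P (J : Finset (Fin n)) (a : Fin n) (ha : a ∈ J) :
    XR K (RA (J.erase a) a) ≤ XR K (RP J a) :=
  XR_mono fun _ _ h => ⟨h.1 ▸ ha, Finset.mem_of_mem_erase h.2, Finset.ne_of_mem_erase h.2⟩

theorem w_mem_RG {M : Finset (Fin n)} {i j : Fin n} (hi : i ∈ M) (hj : j ∈ M) (hij : i ≠ j)
    (t : K) : w i j t ∈ XR K (RG M) := by
  unfold w
  exact mul_mem (mul_mem (X_mem_XR ⟨hi, hj⟩ hij _) (X_mem_XR ⟨hj, hi⟩ hij.symm _))
    (X_mem_XR ⟨hi, hj⟩ hij _)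

/-- `L` normalizes the column group `Y` -/
theorem L_normalizes_Y (J : Finset (Fin n)) (a : Fin n) {l y : St K n}
    (hl : l ∈ XR K (RG (J.erase a))) (hy : y ∈ XR K (RY (J.erase a) a)) :
    l⁻¹ * y * l ∈ XR K (RY (J.erase a) a) := by
  refine XR_normalizes' ?_ hl hy
  rintro i j c ⟨hi, hj⟩ hij k l t ⟨rfl, hk⟩ hkl
  have hia : i ≠ l := Finset.ne_of_mem_erase hi
  by_cases hjk : j = k
  · subst hjk
    rw [conj_right hij hkl hia]
    exact mul_mem (X_mem_XR ⟨rfl, hi⟩ hia _) (X_mem_XR ⟨rfl, hk⟩ hkl _)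
  · rw [conj_same hij hkl hia hjk]
    exact X_mem_XR ⟨rfl, hk⟩ hkl _

/-- `L` normalizes the row group `A` -/
theorem L_normalizes_A (J : Finset (Fin n)) (a : Fin n) {l y : St K n}
    (hl : l ∈ XR K (RG (J.erase a))) (hy : y ∈ XR K (RA (J.erase a) a)) :
    l⁻¹ * y * l ∈ XR K (RA (J.erase a) a) := by
  refine XR_normalizes' ?_ hl hy
  rintro i j c ⟨hi, hj⟩ hij k l t ⟨rfl, hl⟩ hkl
  have hja : j ≠ k := Finset.ne_of_mem_erase hj
  by_cases hil : i = l
  · subst hil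
    rw [conj_left hkl hij hja.symm]
    exact mul_mem (X_mem_XR ⟨rfl, hl⟩ hkl _) (X_mem_XR ⟨rfl, hj⟩ hja.symm _)
  · rw [conj_same hij hkl hil hja]
    exact X_mem_XR ⟨rfl, hl⟩ hkl _

section parabolic

variable [Fintype K]

/-- (L6) -/
theorem InS.Xma (hn : 3 ≤ n) {J : Finset (Fin n)} {a b : Fin n} (hab : b ≠ a) (ha : a ∈ J)
    (hb : b ∈ J) {m : Fin n} (hm : m ∈ J.erase a) (t : K) : InS hn J hab (X m a t) := by
  by_cases hmb : m = b
  · subst hmb
    exact InS.Xba hn hab ha hb t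
  · have hma : m ≠ a := Finset.ne_of_mem_erase hm
    have hb' : b ∈ J.erase a := Finset.mem_erase.2 ⟨hab, hb⟩
    have e := w_conj_jk hmb hma hab (1 : K) one_ne_zero t
    rw [one_mul] at e
    have hw : w m b (1 : K) ∈ XR K (RP J a) := L_le_P J a (w_mem_RG hm hb' hmb 1)
    rw [← e]
    exact InS.mul_P (InS.P_mul hw (InS.Xba hn hab ha hb t)) (inv_mem hw)

omit [Fintype K] in
/-- elements of the column group `C_m` commute with `x_ka`, `k ≠ m` -/
theorem commute_colm {J : Finset (Fin n)} {a m k : Fin n} (hka : k ≠ a) (hkm : k ≠ m)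
    {l : St K n} (hl : l ∈ XR K (RY (J.erase a) m)) (s : K) : l * X k a s = X k a s * l := by
  refine XR_induction_left (p := fun l => l * X k a s = X k a s * l) (by simp) ?_ hl
  rintro i j c ⟨rfl, hi⟩ hij y _ ih
  rw [mul_assoc, ih, ← mul_assoc, ← mul_assoc,
    X_comm hij hka (Finset.ne_of_mem_erase hi) hkm.symm]

omit [Fintype K] in
/-- (L7) -/
theorem col_conj {J : Finset (Fin n)} {a m : Fin n} (hm : m ∈ J.erase a) {M : Finset (Fin n)}
    (hM : M ⊆ J.erase a) (hmM : m ∉ M) (t : K) (ht : t ≠ 0) {y : St K n}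
    (hy : y ∈ XR K (RY M a)) :
    ∃ l ∈ XR K (RY (J.erase a) m), X m a t * y = l * X m a t * l⁻¹ := by
  have hma : m ≠ a := Finset.ne_of_mem_erase hm
  refine XR_induction_right
    (p := fun y => ∃ l ∈ XR K (RY (J.erase a) m), X m a t * y = l * X m a t * l⁻¹)
    ⟨1, one_mem _, by simp⟩ ?_ hy
  rintro k j s ⟨rfl, hk⟩ hkj y _ ⟨l, hl, e⟩
  have hkm : k ≠ m := fun h => hmM (h ▸ hk)
  have hk' : k ∈ J.erase j := hM hk
  refine ⟨l * X k m (s / t), mul_mem hl (X_mem_XR ⟨rfl, hk'⟩ hkm _), ?_⟩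
  have e1 : X k m (s / t) * X m j t * (X k m (s / t))⁻¹ = X k j s * X m j t := by
    rw [conj_right hkm hma hkj, div_mul_cancel₀ s ht]
  have e2 : X m j t * X k j s = X k j s * X m j t := X_comm hma hkj hma hkj.symm t s
  have e3 := commute_colm hkj hkm (inv_mem hl) s
  calc X m j t * (y * X k j s) = (X m j t * y) * X k j s := by rw [mul_assoc]
    _ = l * X m j t * l⁻¹ * X k j s := by rw [e]
    _ = l * (X m j t * X k j s) * l⁻¹ := by
        rw [mul_assoc (l * X m j t), e3]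
        simp only [mul_assoc]
    _ = l * (X k m (s / t) * X m j t * (X k m (s / t))⁻¹) * l⁻¹ := by rw [e2, e1]
    _ = l * X k m (s / t) * X m j t * (l * X k m (s / t))⁻¹ := by group

/-- (L8): the column group lies in `D P ∪ D P w P` -/
theorem InS.col (hn : 3 ≤ n) {J : Finset (Fin n)} {a b : Fin n} (hab : b ≠ a) (ha : a ∈ J)
    (hb : b ∈ J) : ∀ (M : Finset (Fin n)), M ⊆ J.erase a → ∀ y ∈ XR K (RY M a),
      InS hn J hab y := by
  intro M
  induction M using Finset.induction_on with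
  | empty =>
    intro _ y hy
    rw [XR_empty_RY, Subgroup.mem_bot] at hy
    rw [hy]
    exact InS.one hn J hab
  | insert m M hmM ih =>
    intro hM y hy
    have hm : m ∈ J.erase a := hM (Finset.mem_insert_self m M)
    have hM' : M ⊆ J.erase a := fun x hx => hM (Finset.mem_insert_of_mem hx)
    obtain ⟨t, y', hy', rfl⟩ := RY_decomp (Finset.ne_of_mem_erase hm) hy
    by_cases ht : t = 0
    · rw [ht, X_zero, one_mul]
      exact ih hM' y' hy'
    · obtain ⟨l, hl, e⟩ := col_conj hm hM' hmM t ht hy'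
      rw [e]
      have hlP : l ∈ XR K (RP J a) :=
        L_le_P J a (XR_mono (fun k j h => ⟨h.2, h.1 ▸ hm⟩) hl)
      exact InS.mul_P (InS.P_mul hlP (InS.Xma hn hab ha hb hm t)) (inv_mem hlP)

omit [Fintype K] in
/-- `w⁻¹` conjugates the column group without row `b` into `P` -/
theorem wE_conj_Y' (hn : 3 ≤ n) {J : Finset (Fin n)} {a b : Fin n} (hab : b ≠ a) (hb : b ∈ J)
    {y : St K n} (hy : y ∈ XR K (RY ((J.erase a).erase b) a)) :
    (w b a (1 : K))⁻¹ * y * w b a 1 ∈ XR K (RP J a) := by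
  have := conj_mem_of_gens (H := XR K (RP J a)) (w b a (1 : K))⁻¹ ?_ hy
  · rwa [inv_inv] at this
  · rintro k l t ⟨rfl, hk⟩ hkl
    have hkb : k ≠ b := Finset.ne_of_mem_erase hk
    have hkJ : k ∈ J := Finset.mem_of_mem_erase (Finset.mem_of_mem_erase hk)
    rw [w_inv' hn hab, w_conj_kj hab hkb.symm hkl.symm (-1 : K) (neg_ne_zero.2 one_ne_zero)]
    exact X_mem_XR ⟨hkJ, hb, hab⟩ hkb _

omit [Fintype K] in
/-- `w⁻¹` conjugates the row group without column `b` into `P` -/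
theorem wE_conj_A' (hn : 3 ≤ n) {J : Finset (Fin n)} {a b : Fin n} (hab : b ≠ a) (hb : b ∈ J)
    {y : St K n} (hy : y ∈ XR K (RA ((J.erase a).erase b) a)) :
    (w b a (1 : K))⁻¹ * y * w b a 1 ∈ XR K (RP J a) := by
  have := conj_mem_of_gens (H := XR K (RP J a)) (w b a (1 : K))⁻¹ ?_ hy
  · rwa [inv_inv] at this
  · rintro k l t ⟨rfl, hl⟩ hkl
    have hlb : l ≠ b := Finset.ne_of_mem_erase hl
    have hlJ : l ∈ J := Finset.mem_of_mem_erase (Finset.mem_of_mem_erase hl)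
    rw [w_inv' hn hab, w_conj_jk hab hlb.symm hkl (-1 : K) (neg_ne_zero.2 one_ne_zero)]
    exact X_mem_XR ⟨hb, hlJ, hkl.symm⟩ hlb.symm _

/-- (L9) -/
theorem InS.col_mul (hn : 3 ≤ n) {J : Finset (Fin n)} {a b : Fin n} (hab : b ≠ a) (ha : a ∈ J)
    (hb : b ∈ J) {y : St K n} (hy : y ∈ XR K (RY (J.erase a) a)) (u : K) :
    InS hn J hab (y * X a b u * w b a 1) := by
  have hb' : b ∈ J.erase a := Finset.mem_erase.2 ⟨hab, hb⟩
  by_cases hu : u = 0
  · rw [hu, X_zero, mul_one]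
    have hy2 : y ∈ XR K (RY (insert b ((J.erase a).erase b)) a) := by
      rwa [Finset.insert_erase hb']
    obtain ⟨s, y', hy', rfl⟩ := RY_decomp hab hy2
    have e : X b a s * y' * w b a 1 = 1 * 1 * w b a 1 *
        (((w b a (1 : K))⁻¹ * X b a s * w b a 1) * ((w b a (1 : K))⁻¹ * y' * w b a 1)) := by
      group
    rw [e, wE_conj_Xba hn hab]
    exact ⟨1, one_mem _, 1, one_mem _, Or.inr ⟨_, mul_mem (Xab_mem_P hab ha hb _)
      (wE_conj_Y' hn hab hb hy'), rfl⟩⟩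
  · have hd : h b a (-u⁻¹) * (h b a (-(1 : K)))⁻¹ ∈ DD (K := K) hn hab :=
      mul_mem ⟨-u⁻¹, neg_ne_zero.2 (inv_ne_zero hu), rfl⟩
        (inv_mem ⟨-1, neg_ne_zero.2 one_ne_zero, rfl⟩)
    set d := h b a (-u⁻¹) * (h b a (-(1 : K)))⁻¹ with hd_def
    have e : y * X a b u * w b a 1 = d * (d⁻¹ * (y * X b a u⁻¹) * d) *
        ((w b a (1 : K))⁻¹ * X b a u⁻¹ * w b a 1) := by
      rw [hd_def, ← w_mul_w' hn hab, Y_eq_xwx hn hab u]
      group
    rw [e, wE_conj_Xba hn hab]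
    have hy1 : y * X b a u⁻¹ ∈ XR K (RY (J.erase a) a) :=
      mul_mem hy (X_mem_XR ⟨rfl, hb'⟩ hab _)
    exact InS.mul_P (InS.D_mul hd (InS.col hn hab ha hb _ (Finset.Subset.refl _) _
      (DD_normalizes' hn hab _ hd hy1))) (Xab_mem_P hab ha hb _)

omit [Fintype K] in
/-- (L10): `P = L A` -/
theorem P_decomp {J : Finset (Fin n)} {a : Fin n} {p : St K n} (hp : p ∈ XR K (RP J a)) :
    ∃ l ∈ XR K (RG (J.erase a)), ∃ x ∈ XR K (RA (J.erase a) a), p = l * x := by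
  refine XR_induction_left
    (p := fun p => ∃ l ∈ XR K (RG (J.erase a)), ∃ x ∈ XR K (RA (J.erase a) a), p = l * x)
    ⟨1, one_mem _, 1, one_mem _, by rw [one_mul]⟩ ?_ hp
  rintro k l t ⟨hk, hl, hla⟩ hkl y _ ⟨l₀, hl₀, x₀, hx₀, rfl⟩
  have hl' : l ∈ J.erase a := Finset.mem_erase.2 ⟨hla, hl⟩
  by_cases hka : k = a
  · subst hka
    refine ⟨l₀, hl₀, (l₀⁻¹ * X k l t * l₀) * x₀,
      mul_mem (L_normalizes_A J k hl₀ (X_mem_XR ⟨rfl, hl'⟩ hkl t)) hx₀, ?_⟩
    group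
  · exact ⟨X k l t * l₀, mul_mem (X_mem_XR ⟨Finset.mem_erase.2 ⟨hka, hk⟩, hl'⟩ hkl t) hl₀, x₀, hx₀,
      by rw [mul_assoc]⟩

/-- (L12): `G_J ⊆ D P ∪ D P w P` -/
theorem InS.all (hn : 3 ≤ n) {J : Finset (Fin n)} {a b : Fin n} (hab : b ≠ a) (ha : a ∈ J)
    (hb : b ∈ J) {g : St K n} (hg : g ∈ XR K (RG J)) : InS hn J hab g := by
  have hb' : b ∈ J.erase a := Finset.mem_erase.2 ⟨hab, hb⟩
  refine XR_induction_left (p := fun g => InS hn J hab g) (InS.one hn J hab) ?_ hg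
  rintro k l t ⟨hk, hl⟩ hkl g _ hg
  by_cases hla : l = a
  · subst hla
    have hk' : k ∈ J.erase l := Finset.mem_erase.2 ⟨hkl, hk⟩
    have hxY : X k l t ∈ XR K (RY (J.erase l) l) := X_mem_XR ⟨rfl, hk'⟩ hkl t
    obtain ⟨d, hd, p, hp, rfl | ⟨p', hp', rfl⟩⟩ := hg
    · have e : X k l t * (d * p) = d * (d⁻¹ * X k l t * d) * p := by group
      rw [e]
      exact InS.mul_P (InS.D_mul hd (InS.col hn hab ha hb _ (Finset.Subset.refl _) _
        (DD_normalizes' hn hab _ hd hxY))) hp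
    · obtain ⟨l₀, hl₀, x, hx, rfl⟩ := P_decomp hp
      have hx2 : x ∈ XR K (RA (insert b ((J.erase l).erase b)) l) := by
        rwa [Finset.insert_erase hb']
      obtain ⟨u, x', hx', rfl⟩ := RA_decomp hab hx2
      have hy2 : l₀⁻¹ * (d⁻¹ * X k l t * d) * l₀ ∈ XR K (RY (J.erase l) l) :=
        L_normalizes_Y J l hl₀ (DD_normalizes' hn hab _ hd hxY)
      have e : X k l t * (d * (l₀ * (X l b u * x')) * w b l 1 * p')
          = d * (l₀ * ((l₀⁻¹ * (d⁻¹ * X k l t * d) * l₀) * X l b u * w b l 1) *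
              (((w b l (1 : K))⁻¹ * x' * w b l 1) * p')) := by group
      rw [e]
      exact InS.D_mul hd (InS.mul_P (InS.P_mul (L_le_P J l hl₀)
        (InS.col_mul hn hab ha hb hy2 u)) (mul_mem (wE_conj_A' hn hab hb hx') hp'))
  · exact InS.P_mul (X_mem_XR ⟨hk, hl, hla⟩ hkl t) hg

end parabolic

end Cfsg.Agent.Lib.Helper7.StSL
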