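import Mathlib
import Cfsg.Agent.Lib.Helper7.StSLF

/-!
# The Steinberg group of `SL_n` (helper7), part G: the kernel of `St → SL_n` is trivial
-/

set_option autoImplicit false

namespace Cfsg.Agent.Lib.Helper7.StSL

open Cfsg.Agent.Lib.Helper5.St Matrix

variable {K : Type*} [Field K] {n : ℕ}

/-- the action on column vectors -/
noncomputable def act (g : St K n) (v : Fin n → K) : Fin n → K :=
  (toSL g : Matrix (Fin n) (Fin n) K) *ᵥ v

/-- the action on row vectors -/
noncomputable def ract (v : Fin n → K) (g : St K n) : Fin n → K :=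
  v ᵥ* (toSL g : Matrix (Fin n) (Fin n) K)

theorem toSL_mul_coe (g g' : St K n) : (toSL (g * g') : Matrix (Fin n) (Fin n) K)
    = (toSL g : Matrix (Fin n) (Fin n) K) * (toSL g' : Matrix (Fin n) (Fin n) K) := by
  rw [map_mul]
  rfl

theorem toSL_one_coe : (toSL (1 : St K n) : Matrix (Fin n) (Fin n) K) = 1 := by
  rw [map_one]
  rfl

theorem act_mul (g g' : St K n) (v : Fin n → K) : act (g * g') v = act g (act g' v) := by
  unfold act
  rw [toSL_mul_coe, Matrix.mulVec_mulVec]

theorem act_one (v : Fin n → K) : act (1 : St K n) v = v := by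
  unfold act
  rw [toSL_one_coe, Matrix.one_mulVec]

theorem act_smul (g : St K n) (c : K) (v : Fin n → K) : act g (c • v) = c • act g v := by
  unfold act
  rw [Matrix.mulVec_smul]

theorem ract_mul (v : Fin n → K) (g g' : St K n) : ract v (g * g') = ract (ract v g) g' := by
  unfold ract
  rw [toSL_mul_coe, Matrix.vecMul_vecMul]

theorem ract_one (v : Fin n → K) : ract v (1 : St K n) = v := by
  unfold ract
  rw [toSL_one_coe, Matrix.vecMul_one]

theorem act_X {k l : Fin n} (hkl : k ≠ l) (t : K) (v : Fin n → K) :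
    act (X k l t) v = v + (t * v l) • Pi.single k (1 : K) := by
  unfold act
  rw [toSL_X hkl, SpecialLinearGroup.transvection_coe, Matrix.add_mulVec, Matrix.one_mulVec,
    Matrix.single_mulVec_eq]

theorem vecMul_single_eq (i j : Fin n) (b : K) (v : Fin n → K) :
    v ᵥ* Matrix.single i j b = (v i * b) • Pi.single j (1 : K) := by
  ext k
  simp [Matrix.vecMul, dotProduct, Matrix.single, Pi.single_apply]
  by_cases hk : j = k
  · simp [hk]
  · simp [hk, Ne.symm hk]

theorem ract_X {k l : Fin n} (hkl : k ≠ l) (t : K) (v : Fin n → K) :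
    ract v (X k l t) = v + (v k * t) • Pi.single l (1 : K) := by
  unfold ract
  rw [toSL_X hkl, SpecialLinearGroup.transvection_coe, Matrix.vecMul_add, Matrix.vecMul_one,
    vecMul_single_eq]

/-- (K1) `P` fixes `e_a` -/
theorem act_P {J : Finset (Fin n)} {a : Fin n} {p : St K n} (hp : p ∈ XR K (RP J a)) :
    act p (Pi.single a (1 : K)) = Pi.single a 1 := by
  refine XR_induction_left (p := fun p => act p (Pi.single a (1 : K)) = Pi.single a 1)
    (act_one _) ?_ hp
  rintro k l t ⟨_, _, hla⟩ hkl y _ ih
  rw [act_mul, ih, act_X hkl, Pi.single_eq_of_ne hla, mul_zero, zero_smul, add_zero]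

/-- (K3) -/
theorem act_w_a {a b : Fin n} (hab : b ≠ a) (t : K) (ht : t ≠ 0) :
    act (w b a t) (Pi.single a (1 : K)) = t • Pi.single b (1 : K) := by
  unfold w
  rw [act_mul, act_mul, act_X hab, act_X hab.symm, act_X hab]
  ext k
  simp only [Pi.add_apply, Pi.smul_apply, Pi.single_apply, smul_eq_mul]
  by_cases hkb : k = b
  · subst hkb
    simp [hab, hab.symm]
    right
    rw [inv_mul_cancel₀ ht]
    ring
  · by_cases hka : k = a
    · subst hka
      simp [hab, hab.symm]
      field_simp
      ring
    · simp [hkb, hka, hab, hab.symm]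

theorem act_w_b {a b : Fin n} (hab : b ≠ a) (t : K) (ht : t ≠ 0) :
    act (w b a t) (Pi.single b (1 : K)) = (-t⁻¹) • Pi.single a (1 : K) := by
  unfold w
  rw [act_mul, act_mul, act_X hab, act_X hab.symm, act_X hab]
  ext k
  simp only [Pi.add_apply, Pi.smul_apply, Pi.single_apply, smul_eq_mul]
  by_cases hkb : k = b
  · subst hkb
    simp [hab, hab.symm]
    field_simp
    ring
  · by_cases hka : k = a
    · subst hka
      simp [hab.symm]
    · simp [hkb, hka, hab.symm]

/-- (K2) -/
theorem act_h {a b : Fin n} (hab : b ≠ a) (c : K) (hc : c ≠ 0) :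
    act (h b a c) (Pi.single a (1 : K)) = c⁻¹ • Pi.single a (1 : K) := by
  unfold h
  rw [act_mul, act_w_a hab (-1) (neg_ne_zero.2 one_ne_zero), act_smul, act_w_b hab c hc, smul_smul]
  congr 1
  ring

/-- (K4) `L` fixes the row vector `e_a` -/
theorem ract_L {J : Finset (Fin n)} {a : Fin n} {l : St K n} (hl : l ∈ XR K (RG (J.erase a))) :
    ract (Pi.single a (1 : K)) l = Pi.single a 1 := by
  refine XR_induction_right (p := fun l => ract (Pi.single a (1 : K)) l = Pi.single a 1)
    (ract_one _) ?_ hl
  rintro k j t ⟨hk, _⟩ hkj y _ ih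
  rw [ract_mul, ih, ract_X hkj, Pi.single_eq_of_ne (Finset.ne_of_mem_erase hk), zero_mul,
    zero_smul, add_zero]

/-- (K6) the row group `A` fixes the row vectors `e_m`, `m ≠ a` -/
theorem ract_A_other {M : Finset (Fin n)} {a m : Fin n} (hma : m ≠ a) {x : St K n}
    (hx : x ∈ XR K (RA M a)) : ract (Pi.single m (1 : K)) x = Pi.single m 1 := by
  refine XR_induction_right (p := fun x => ract (Pi.single m (1 : K)) x = Pi.single m 1)
    (ract_one _) ?_ hx
  rintro k j t ⟨rfl, _⟩ hkj y _ ih
  rw [ract_mul, ih, ract_X hkj, Pi.single_eq_of_ne hma.symm, zero_mul, zero_smul, add_zero]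

theorem ract_add (v v' : Fin n → K) (g : St K n) : ract (v + v') g = ract v g + ract v' g := by
  unfold ract
  rw [Matrix.add_vecMul]

theorem ract_smul (c : K) (v : Fin n → K) (g : St K n) : ract (c • v) g = c • ract v g := by
  unfold ract
  rw [Matrix.smul_vecMul]

/-- (K5) `toSL` is injective on the row group -/
theorem row_inj {a : Fin n} : ∀ (M : Finset (Fin n)), a ∉ M → ∀ x ∈ XR K (RA M a),
    (∀ j, j ∉ M → j ≠ a → ract (Pi.single a (1 : K)) x j = 0) ∧
    (ract (Pi.single a (1 : K)) x = Pi.single a 1 → x = 1) := by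
  intro M
  induction M using Finset.induction_on with
  | empty =>
    intro _ x hx
    rw [XR_empty_RA, Subgroup.mem_bot] at hx
    subst hx
    refine ⟨fun j _ hja => ?_, fun _ => rfl⟩
    rw [ract_one, Pi.single_eq_of_ne hja]
  | insert m M hmM ih =>
    intro haM x hx
    have hma : m ≠ a := fun h => haM (h ▸ Finset.mem_insert_self m M)
    have haM' : a ∉ M := fun h => haM (Finset.mem_insert_of_mem h)
    obtain ⟨t, x', hx', rfl⟩ := RA_decomp hma hx
    obtain ⟨ih1, ih2⟩ := ih haM' x' hx'
    have e : ract (Pi.single a (1 : K)) (X a m t * x')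
        = ract (Pi.single a (1 : K)) x' + t • Pi.single m (1 : K) := by
      rw [ract_mul, ract_X hma.symm, Pi.single_eq_same, one_mul, ract_add, ract_smul,
        ract_A_other hma hx']
    refine ⟨fun j hj hja => ?_, fun h1 => ?_⟩
    · have hjm : j ≠ m := fun h => hj (h ▸ Finset.mem_insert_self m M)
      have hjM : j ∉ M := fun h => hj (Finset.mem_insert_of_mem h)
      rw [e, Pi.add_apply, ih1 j hjM hja, Pi.smul_apply, Pi.single_eq_of_ne hjm, smul_zero,
        add_zero]
    · rw [e] at h1
      have h2 := congrFun h1 m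
      rw [Pi.add_apply, ih1 m hmM hma, Pi.smul_apply, Pi.single_eq_same, smul_eq_mul, mul_one,
        zero_add, Pi.single_eq_of_ne hma] at h2
      rw [h2, zero_smul, add_zero] at h1
      rw [h2, X_zero, one_mul]
      exact ih2 h1

section main

variable [Fintype K]

/-- the kernel of `St → SL_n` meets every `G_J` trivially -/
theorem ker_GJ (hn : 3 ≤ n) : ∀ (k : ℕ) (J : Finset (Fin n)), J.card = k →
    ∀ g ∈ XR K (RG J), toSL g = 1 → g = 1 := by
  intro k
  induction k with
  | zero =>
    intro J hJ g hg _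
    rw [Finset.card_eq_zero] at hJ
    subst hJ
    have : XR K (RG (∅ : Finset (Fin n))) = ⊥ := by
      rw [eq_bot_iff]
      apply XR_le
      intro k l t h _
      exact absurd h.1 (Finset.notMem_empty k)
    rw [this, Subgroup.mem_bot] at hg
    exact hg
  | succ k ih =>
    intro J hJ g hg hg1
    by_cases h2 : ∃ a ∈ J, ∃ b ∈ J, b ≠ a
    · obtain ⟨a, ha, b, hb, hab⟩ := h2
      have hJ' : (J.erase a).card = k := by rw [Finset.card_erase_of_mem ha, hJ]; rfl
      obtain ⟨d, ⟨c, hc, rfl⟩, p, hp, rfl | ⟨p', hp', rfl⟩⟩ := InS.all hn hab ha hb hg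
      · -- `g = d p`
        have h3 : act (h b a c * p) (Pi.single a (1 : K)) = Pi.single a 1 := by
          unfold act
          rw [hg1]
          exact Matrix.one_mulVec _
        rw [act_mul, act_P hp, act_h hab c hc] at h3
        have h4 := congrFun h3 a
        rw [Pi.smul_apply, Pi.single_eq_same, smul_eq_mul, mul_one] at h4
        have hc1 : c = 1 := by rw [← inv_inv c, h4, inv_one]
        subst hc1
        rw [h_one hn hab, one_mul] at hg1 ⊢
        obtain ⟨l, hl, x, hx, rfl⟩ := P_decomp hp
        have h5 : ract (Pi.single a (1 : K)) (l * x) = Pi.single a 1 := by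
          unfold ract
          rw [hg1]
          exact Matrix.vecMul_one _
        rw [ract_mul, ract_L hl] at h5
        have hx1 : x = 1 := (row_inj (J.erase a) (Finset.notMem_erase a J) x hx).2 h5
        subst hx1
        rw [mul_one] at hg1 ⊢
        exact ih (J.erase a) hJ' l hl hg1
      · -- `g = d p w p'` is impossible
        exfalso
        have e : w b a (1 : K) * p' = p⁻¹ * (h b a c)⁻¹ * (h b a c * p * w b a 1 * p') := by group
        have h3 : act (w b a (1 : K) * p') (Pi.single a (1 : K))
            = act (p⁻¹ * (h b a c)⁻¹) (Pi.single a (1 : K)) := by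
          rw [e, act_mul (p⁻¹ * (h b a c)⁻¹)]
          congr 1
          unfold act
          rw [hg1]
          exact Matrix.one_mulVec _
        rw [act_mul, act_P hp', act_w_a hab 1 one_ne_zero, act_mul, h_inv hn hab c hc,
          act_h hab c⁻¹ (inv_ne_zero hc), act_smul, act_P (inv_mem hp)] at h3
        have h4 := congrFun h3 b
        simp [Pi.single_eq_of_ne hab] at h4
    · -- no two distinct indices: `G_J` is trivial
      have : XR K (RG J) = ⊥ := by
        rw [eq_bot_iff]
        apply XR_le
        intro k l t h hkl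
        exact absurd ⟨l, h.2, k, h.1, hkl⟩ h2
      rw [this, Subgroup.mem_bot] at hg
      exact hg

/-- `St → SL_n` is injective over a finite field, `n ≥ 3` -/
theorem toSL_injective (hn : 3 ≤ n) : Function.Injective (toSL : St K n → _) := by
  rw [injective_iff_map_eq_one]
  intro g hg
  refine ker_GJ hn _ Finset.univ rfl g ?_ hg
  have : XR K (RG (Finset.univ : Finset (Fin n))) = ⊤ := by
    rw [eq_top_iff]
    intro x _
    refine PresentedGroup.generated_by _ _ ?_ x
    rintro ⟨⟨⟨k, l⟩, hkl⟩, t⟩
    have hkl' : k ≠ l := hkl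
    rw [← X_of hkl' t]
    exact X_mem_XR ⟨Finset.mem_univ _, Finset.mem_univ _⟩ hkl' t
  rw [this]
  exact Subgroup.mem_top _

end main

end Cfsg.Agent.Lib.Helper7.StSL
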