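import Cfsg.Agent.Lib.Helper7.ONSplitC
import Cfsg.Agent.Lib.Helper6.ONL37C
import Cfsg.Agent.Lib.Helper6.ON460Sub
import Cfsg.Agent.Lib.Lead.SLMult.Main

/-!
# The subgroup `⟨a, …, f⟩ = PSL(3,7) : 2` of the presented O'Nan group splits in the central extensions whose
kernel has odd order or order prime to three

* odd kernel: the lifts of square one of the six generators satisfy the relators of the sub-presentation `Q6`, which
  is isomorphic to the subgroup;
* kernel of order prime to three: the subgroup `Q` of index two is isomorphic to `PSL(3,7)`, whose stem kernels are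
  images of the cyclic group of order three, so the derived subgroup of the preimage of `Q` maps isomorphically onto
  `Q`; the generator `c` is conjugate in the O'Nan group to `f c ∈ Q` (by the involution `g⁻¹ d c d g`), so it has a
  lift of square one.
-/

set_option autoImplicit false

namespace Cfsg.Agent.Lib.Helper7.ONSplit

open Cfsg Cfsg.Spor Cfsg.Agent.Lib.Helper6 Cfsg.Agent.Lib.Helper6.ONL37 Cfsg.Agent.Lib.Helper6.ONSub
open Cfsg.Agent.Lib.Helper7.M12Mult

noncomputable section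

/-- the generators of the presented group -/
abbrev og (x : ON.Gen) : ON := PresentedGroup.of x

theorem og_mul_self {x : ON.Gen} (hx : x ∈ coxNodes ON.edges) : og x * og x = 1 := by
  have hm : (FreeGroup.of x * FreeGroup.of x) ^ coxLabel ON.edges x x ∈
      coxRelators ON.edges ∪ {r | r ∈ ON.extra} :=
    Or.inl ⟨x, hx, x, hx, rfl⟩
  have h1 := PresentedGroup.one_of_mem hm
  have e : coxLabel ON.edges x x = 1 := by simp [coxLabel]
  rw [e, pow_one, map_mul] at h1
  exact h1

/-- the images in the subgroup of the generators of the sub-presentation -/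
def hg (x : Q6.Gen) : ↥ONL37.H := π (PresentedGroup.of x)

theorem hg_val (x : Q6.Gen) : ((hg x : ↥ONL37.H) : ON) = og (Q6.ι x) := by
  show subQ6.hom (PresentedGroup.of x) = _
  exact subQ6.hom_of x

theorem hg_mul_self (x : Q6.Gen) : ((hg x : ↥ONL37.H) : ON) * ((hg x : ↥ONL37.H) : ON) = 1 := by
  rw [hg_val]
  apply og_mul_self
  cases x <;> decide

theorem χ_π (q : Q6) : χ (π q) = SemidirectProduct.rightHom (ψ q) := by
  have h1 : (MulEquiv.ofBijective π π_bijective).symm (π q) = q :=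
    (MulEquiv.ofBijective π π_bijective).symm_apply_apply q
  show SemidirectProduct.rightHom (ONL37.e (π q)) = _
  congr 1
  show (MulEquiv.ofBijective ψ ψ_bijective) ((MulEquiv.ofBijective π π_bijective).symm (π q)) = ψ q
  rw [h1]
  rfl

theorem χ_hg (x : Q6.Gen) : χ (hg x) = -1 := by
  unfold hg
  rw [χ_π, ψ_of]
  rfl

theorem neg_one_mul_neg_one_units : (-1 : ℤˣ) * -1 = 1 := by decide

theorem neg_one_ne_one_units : (-1 : ℤˣ) ≠ 1 := by decide

/-- the subgroup of index two of `⟨a, …, f⟩`, as a subgroup of the O'Nan group -/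
def Q : Subgroup ON := (χ.ker).map ONL37.H.subtype

theorem mem_Q {y : ON} : y ∈ Q ↔ ∃ h : ↥ONL37.H, χ h = 1 ∧ (h : ON) = y := by
  constructor
  · rintro ⟨h, hh, rfl⟩
    exact ⟨h, MonoidHom.mem_ker.1 hh, rfl⟩
  · rintro ⟨h, hh, rfl⟩
    exact ⟨h, MonoidHom.mem_ker.2 hh, rfl⟩

theorem Q_le_H : Q ≤ ONL37.H := by
  rintro _ ⟨h, -, rfl⟩
  exact h.2

/-- `Q` is `PSL(3,7)` -/
def eQ : ↥Q ≃* P :=
  ((χ.ker).equivMapOfInjective ONL37.H.subtype ONL37.H.subtype_injective).symm.trans kerEquiv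

theorem Q_perfect : commutator ↥Q = ⊤ := by
  have h1 : commutator S = ⊤ :=
    Cfsg.Agent.SLMult.sl_perfect (F := ZMod 7) 3 (by norm_num) (fun h => absurd h (by norm_num))
  have h2 : commutator P = ⊤ :=
    commutator_eq_top_of_surjective (QuotientGroup.mk' (Subgroup.center S))
      (QuotientGroup.mk'_surjective _) h1
  exact commutator_eq_top_of_surjective eQ.symm.toMonoidHom eQ.symm.surjective h2

theorem Q_MFN : MFN.{0} 3 ↥Q := by
  have hm : Cfsg.HasCyclicSchurMultiplier P 3 := by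
    have h := Cfsg.Agent.SLMult.multiplier_psl (F := ZMod 7) 3 (by norm_num)
      (fun h => absurd h (by norm_num)) (by
        rw [ZMod.card]
        simp)
    have e : Nat.gcd 3 (Fintype.card (ZMod 7) - 1) = 3 := by
      rw [ZMod.card]
      norm_num
    rwa [e] at h
  exact MFN.of_equiv eQ.symm (MFN.of_multiplier hm)

/-! ### the conjugacy -/

theorem rel_word : SimpG.wordG ONTC.data [7, 3, 2, 3, 6, 2, 7, 3, 2, 3, 6, 2, 5] = 1 :=
  ON460Sub.wp _ (by decide +kernel)

/-- the conjugating involution `g⁻¹ d c d g` -/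
def pel : ON := (og .g)⁻¹ * og .d * og .c * og .d * og .g

theorem γ_eq : ONTC.data.γ 2 = og .c ∧ ONTC.data.γ 3 = og .d ∧ ONTC.data.γ 5 = og .f ∧
    ONTC.data.γ 6 = og .g ∧ ONTC.data.γ 7 = (og .g)⁻¹ :=
  ⟨rfl, rfl, rfl, rfl, rfl⟩

theorem rel_conj : pel * og .c * pel⁻¹ = og .f * og .c := by
  have hw := rel_word
  obtain ⟨e2, e3, e5, e6, e7⟩ := γ_eq
  simp only [SimpG.wordG, List.map_cons, List.map_nil, List.prod_cons, List.prod_nil, mul_one, e2, e3, e5, e6,
    e7] at hw
  have hc : og .c * og .c = 1 := og_mul_self (by decide)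
  have hd : og .d * og .d = 1 := og_mul_self (by decide)
  have hf : og .f * og .f = 1 := og_mul_self (by decide)
  have hci : (og .c)⁻¹ = og .c := inv_eq_of_mul_eq_one_left hc
  have hdi : (og .d)⁻¹ = og .d := inv_eq_of_mul_eq_one_left hd
  have hfi : (og .f)⁻¹ = og .f := inv_eq_of_mul_eq_one_left hf
  have hp : pel⁻¹ = pel := by
    unfold pel
    simp only [mul_inv_rev, inv_inv, hci, hdi, mul_assoc]
  have h1 : pel * og .c * pel * (og .c * og .f) = 1 := by
    unfold pel
    simp only [mul_assoc]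
    exact hw
  rw [hp, eq_inv_of_mul_eq_one_left h1, mul_inv_rev, hci, hfi]

/-! ### kernels of order prime to three -/

theorem section_of_coprime (E : Type) [Group E] [Finite E] (σ : E →* ON) (hs : Function.Surjective σ)
    (hcen : σ.ker ≤ Subgroup.center E) (hcop : (Nat.card ↥σ.ker).Coprime 3) :
    ∃ s : ↥ONL37.H →* E, ∀ h : ↥ONL37.H, σ (s h) = (h : ON) := by
  have : NeZero 3 := ⟨by norm_num⟩
  have hk := resMt_ker_eq_bot_cop hs hcen Q Q_perfect 3 Q_MFN hcop
  have hinj : ∀ k ∈ Mt σ Q, σ k = 1 → k = 1 := fun k hk' h1 => eq_one_of_mem_Mt_of_ker Q hk hk' h1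
  have hfc : og .f * og .c ∈ Q :=
    mem_Q.2 ⟨hg .f * hg .c, by rw [map_mul, χ_hg, χ_hg]; exact neg_one_mul_neg_one_units, by
      rw [Subgroup.coe_mul, hg_val, hg_val]
      rfl⟩
  obtain ⟨k, hkK, hkσ⟩ := exists_mem_Mt hs Q Q_perfect _ hfc
  have hc2 : og .c * og .c = 1 := og_mul_self (by decide)
  obtain ⟨c', hc', hc'2⟩ := exists_lift_sq_one σ hs (Mt σ Q) hinj (og .c) pel hc2 k hkK
    (by rw [hkσ, rel_conj])
  have hcv : ((hg .c : ↥ONL37.H) : ON) = og .c := hg_val .c
  refine exists_section σ (H := ONL37.H) (Q := Q) (Mt σ Q) (fun k hk' => Mt_le σ Q hk') Q_le_H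
    (fun q hq => exists_mem_Mt hs Q Q_perfect q hq) hinj c' hc'2 ?_ ?_ ?_ ?_
  · rw [hc', ← hcv]
    exact (hg .c).2
  · rw [hc']
    intro hq
    obtain ⟨h, hh, e⟩ := mem_Q.1 hq
    have e' : h = hg .c := Subtype.ext (e.trans hcv.symm)
    rw [e', χ_hg] at hh
    exact neg_one_ne_one_units hh
  · intro k hk'
    apply conj_mem_Mt σ Q c' ?_ hk'
    rw [hc']
    intro q hq
    obtain ⟨h, hh, rfl⟩ := mem_Q.1 hq
    refine mem_Q.2 ⟨hg .c * h * (hg .c)⁻¹, ?_, ?_⟩
    · rw [map_mul, map_mul, map_inv, hh, mul_one, mul_inv_cancel]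
    · rw [Subgroup.coe_mul, Subgroup.coe_mul, Subgroup.coe_inv, hcv]
  · intro h hh
    rw [hc']
    rcases Int.units_eq_one_or (χ ⟨h, hh⟩) with h1 | h1
    · left
      exact mem_Q.2 ⟨⟨h, hh⟩, h1, rfl⟩
    · right
      refine mem_Q.2 ⟨⟨h, hh⟩ * hg .c, ?_, ?_⟩
      · rw [map_mul, h1, χ_hg]
        exact neg_one_mul_neg_one_units
      · rw [Subgroup.coe_mul, hcv]

/-! ### kernels of odd order -/

theorem section_of_odd_ker (E : Type) [Group E] [Finite E] (σ : E →* ON) (hs : Function.Surjective σ)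
    (hcen : σ.ker ≤ Subgroup.center E) (hodd : Odd (Nat.card ↥σ.ker)) :
    ∃ s : ↥ONL37.H →* E, ∀ h : ↥ONL37.H, σ (s h) = (h : ON) := by
  have h3 := odd_pow_of_odd_card σ hodd
  choose xh hxσ hx2 using fun x : Q6.Gen =>
    exists_lift_sq_one_odd σ h3 hs hcen ((hg x : ↥ONL37.H) : ON) (hg_mul_self x)
  have hcomp : ∀ r : FreeGroup Q6.Gen, σ (FreeGroup.lift xh r) =
      ((π (PresentedGroup.mk (coxRelators Q6.edges ∪ {r | r ∈ Q6.extra}) r) : ↥ONL37.H) : ON) := by
    intro r
    have h : σ.comp (FreeGroup.lift xh) = ONL37.H.subtype.comp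
        (π.comp (PresentedGroup.mk (coxRelators Q6.edges ∪ {r | r ∈ Q6.extra}))) := by
      apply FreeGroup.ext_hom
      intro x
      show σ (FreeGroup.lift xh (FreeGroup.of x)) = _
      rw [FreeGroup.lift_apply_of, hxσ]
      rfl
    exact DFunLike.congr_fun h r
  have hker : ∀ r ∈ coxRelators Q6.edges ∪ {r | r ∈ Q6.extra}, FreeGroup.lift xh r ∈ σ.ker := by
    intro r hr
    rw [MonoidHom.mem_ker, hcomp, PresentedGroup.one_of_mem hr, map_one]
    rfl
  have hcox : ∀ (x y : Q6.Gen) (m : ℕ), (FreeGroup.of x * FreeGroup.of y) ^ m ∈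
      coxRelators Q6.edges ∪ {r | r ∈ Q6.extra} → (xh x * xh y) ^ m = 1 := by
    intro x y m hr
    apply cox_exact σ h3 hcen _ _ (hx2 x) (hx2 y) m
    have h := hker _ hr
    rwa [map_pow, map_mul, FreeGroup.lift_apply_of, FreeGroup.lift_apply_of] at h
  have hrel : ∀ r ∈ coxRelators Q6.edges ∪ {r | r ∈ Q6.extra}, FreeGroup.lift xh r = 1 := by
    rintro r (⟨x, hx, y, hy, rfl⟩ | hr)
    · rw [map_pow, map_mul, FreeGroup.lift_apply_of, FreeGroup.lift_apply_of]
      exact hcox x y _ (Or.inl ⟨x, hx, y, hy, rfl⟩)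
    · have hr' : r = (Q6.a * Q6.f) * ((Q6.c * Q6.d) ^ 4)⁻¹ := by
        simpa [Q6.extra] using hr
      have hk := hker r (Or.inr hr)
      rw [hr'] at hk ⊢
      simp only [map_mul, map_inv, map_pow, FreeGroup.lift_apply_of] at hk ⊢
      apply eq_of_sq_one σ h3 hcen _ _ ?_ ?_ hk
      · have h := hcox .a .f 2 (Or.inl ⟨.a, by decide, .f, by decide, rfl⟩)
        rwa [pow_two] at h
      · have h := hcox .c .d 8 (Or.inl ⟨.c, by decide, .d, by decide, rfl⟩)
        rw [← pow_two, ← pow_mul]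
        exact h
  let ψE : Q6 →* E := PresentedGroup.toGroup hrel
  have hψ : ∀ q : Q6, σ (ψE q) = ((π q : ↥ONL37.H) : ON) := by
    intro q
    obtain ⟨r, rfl⟩ := QuotientGroup.mk_surjective q
    exact hcomp r
  refine ⟨ψE.comp (MulEquiv.ofBijective π π_bijective).symm.toMonoidHom, fun h => ?_⟩
  show σ (ψE ((MulEquiv.ofBijective π π_bijective).symm h)) = h
  rw [hψ]
  congr 1
  exact (MulEquiv.ofBijective π π_bijective).apply_symm_apply h

/-! ### the statements for the Schur multiplier -/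

/-- **`⟨a, …, f⟩` splits in the stem extensions of the O'Nan group with kernel of odd order** -/
theorem section_of_odd : ∀ (E : Type) [Group E] [Finite E] (σ : E →* Cfsg.Spor.ON),
    Cfsg.IsStemExtension σ → Odd (Nat.card ↥σ.ker) →
    ∃ s : ↥ONL37.H →* E, ∀ h : ↥ONL37.H, σ (s h) = (h : Cfsg.Spor.ON) :=
  fun E _ _ σ hσ hodd => section_of_odd_ker E σ hσ.1 hσ.2.1 hodd

/-- **`⟨a, …, f⟩` splits in the stem extensions of the O'Nan group with kernel of order two** -/
theorem section_of_card_two : ∀ (E : Type) [Group E] [Finite E] (σ : E →* Cfsg.Spor.ON),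
    Cfsg.IsStemExtension σ → Nat.card ↥σ.ker = 2 →
    ∃ s : ↥ONL37.H →* E, ∀ h : ↥ONL37.H, σ (s h) = (h : Cfsg.Spor.ON) :=
  fun E _ _ σ hσ h2 => section_of_coprime E σ hσ.1 hσ.2.1 (by rw [h2]; norm_num)

end

end Cfsg.Agent.Lib.Helper7.ONSplit
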