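import Cfsg.Agent.Lib.Helper7.ONSplitD
import Cfsg.Agent.Lib.Lead.ON3.StemGlue

/-!
# The upper bound for the Schur multiplier of the O'Nan group from the two table certificates
-/

set_option autoImplicit false

namespace Cfsg.Agent.Lib.Helper7.ONSplit

open Cfsg Cfsg.Spor Cfsg.Agent.Lib.Helper6

/-- **the kernels of the finite stem extensions of the O'Nan group are images of the cyclic group of order three**,
given the bound for the extensions over which `⟨a, …, f⟩` splits: odd kernels are images of the cyclic group of order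
three, and no kernel has order two -/
theorem on_upper_of
    (hodd : ∀ (E : Type) [Group E] [Finite E] (σ : E →* Cfsg.Spor.ON), Cfsg.IsStemExtension σ →
      ∀ s : ↥ONL37.H →* E, (∀ h : ↥ONL37.H, σ (s h) = (h : Cfsg.Spor.ON)) → Odd (Nat.card ↥σ.ker) →
      ∃ p : Multiplicative (ZMod 3) →* ↥σ.ker, Function.Surjective p)
    (htwo : ∀ (E : Type) [Group E] [Finite E] (σ : E →* Cfsg.Spor.ON), Cfsg.IsStemExtension σ →
      ∀ s : ↥ONL37.H →* E, (∀ h : ↥ONL37.H, σ (s h) = (h : Cfsg.Spor.ON)) → Nat.card ↥σ.ker ≠ 2) :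
    ∀ (E : Type) [Group E] [Finite E] (σ : E →* Cfsg.Spor.ON), Cfsg.IsStemExtension σ →
      ∃ p : Multiplicative (ZMod 3) →* ↥σ.ker, Function.Surjective p :=
  Cfsg.Agent.Lib.Lead.ON3.upper_of_odd_of_no_two
    (fun E _ _ s hs ho => by
      obtain ⟨sec, hsec⟩ := section_of_odd E s hs ho
      exact hodd E s hs sec hsec ho)
    (fun E _ _ s hs h2 => by
      obtain ⟨sec, hsec⟩ := section_of_card_two E s hs h2
      exact htwo E s hs sec hsec h2)

end Cfsg.Agent.Lib.Helper7.ONSplit
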