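import Mathlib
import Cfsg.Prelude.Def_LocalEven

set_option autoImplicit false

namespace Cfsg.Agent.Lib.Helper7

open Cfsg Equiv
open scoped Pointwise

/-- If `Sym(n)` with `n` odd is a minimal parabolic group for the prime 2 then `n - 1` is a power
of 2. -/
theorem odd_symmetric_minimal_parabolic (n : ℕ) (hn : Odd n)
    (h : Cfsg.IsPMinimal 2 (Equiv.Perm (Fin n))) : ∃ m : ℕ, n = 2 ^ m + 1 := by
  obtain ⟨T⟩ : Nonempty (Sylow 2 (Equiv.Perm (Fin n))) := inferInstance
  obtain ⟨hTn, M, ⟨hMc, hTM⟩, hMuniq⟩ := h T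
  obtain ⟨T', hT'⟩ : ∃ T' : Subgroup (Equiv.Perm (Fin n)), T' = (T : Subgroup (Equiv.Perm (Fin n))) :=
    ⟨_, rfl⟩
  have hT'p : IsPGroup 2 ↥T' := by rw [hT']; exact T.isPGroup'
  rw [← hT'] at hTn hTM hMuniq
  -- a fixed point
  have hodd : ¬ 2 ∣ Nat.card (Fin n) := by
    rw [Nat.card_fin]
    exact hn.not_two_dvd_nat
  obtain ⟨x₀, hx₀⟩ := hT'p.nonempty_fixed_point_of_prime_not_dvd_card (Fin n) hodd
  have hfix : ∀ t ∈ T', t x₀ = x₀ := fun t ht => hx₀ ⟨t, ht⟩
  -- n ≠ 1
  by_cases hn1 : n = 1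
  · exfalso
    subst hn1
    apply hTn
    refine ⟨fun a ha g => ?_⟩
    rwa [Subsingleton.elim (g * a * g⁻¹) a]
  have hn3 : 3 ≤ n := by
    obtain ⟨k, hk⟩ := hn
    omega
  -- a second point
  obtain ⟨y, hy⟩ : ∃ y : Fin n, y ≠ x₀ := by
    haveI : Nontrivial (Fin n) := Fin.nontrivial_iff_two_le.mpr (by omega)
    exact exists_ne x₀
  by_cases hcase : ∀ z : Fin n, z ≠ x₀ → z ∈ MulAction.orbit ↥T' y
  · -- transitive on the complement of x₀
    have horb : MulAction.orbit ↥T' y = {x₀}ᶜ := by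
      ext z
      constructor
      · rintro ⟨t, rfl⟩
        show t • y ≠ x₀
        intro hty
        apply hy
        have h1 : (t : Equiv.Perm (Fin n)) y = x₀ := hty
        have h2 : (t : Equiv.Perm (Fin n)) x₀ = x₀ := hfix t t.2
        exact (t : Equiv.Perm (Fin n)).injective (h1.trans h2.symm)
      · intro hz
        exact hcase z hz
    have hcard : (MulAction.orbit ↥T' y).ncard = n - 1 := by
      rw [horb, Set.ncard_compl, Set.ncard_singleton, Nat.card_fin]
    have hdvd : (MulAction.orbit ↥T' y).ncard ∣ Nat.card ↥T' := by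
      rw [← MulAction.index_stabilizer]
      exact Subgroup.index_dvd_card _
    obtain ⟨k, hk⟩ := IsPGroup.iff_card.mp hT'p
    rw [hk, hcard] at hdvd
    obtain ⟨m, -, hm⟩ := (Nat.dvd_prime_pow Nat.prime_two).mp hdvd
    exact ⟨m, by omega⟩
  · exfalso
    push Not at hcase
    obtain ⟨z, hz, hzO⟩ := hcase
    have hx₀O : x₀ ∉ MulAction.orbit ↥T' y := by
      rintro ⟨t, ht⟩
      apply hy
      have h1 : (t : Equiv.Perm (Fin n)) y = x₀ := ht
      have h2 : (t : Equiv.Perm (Fin n)) x₀ = x₀ := hfix t t.2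
      exact (t : Equiv.Perm (Fin n)).injective (h1.trans h2.symm)
    have hyO : y ∈ MulAction.orbit ↥T' y := MulAction.mem_orbit_self y
    -- the two overgroups
    obtain ⟨A, hA⟩ : ∃ A : Subgroup (Equiv.Perm (Fin n)),
        A = MulAction.stabilizer (Equiv.Perm (Fin n)) x₀ := ⟨_, rfl⟩
    obtain ⟨O', hO'⟩ : ∃ O' : Set (Fin n), O' = insert x₀ (MulAction.orbit ↥T' y) := ⟨_, rfl⟩
    obtain ⟨B, hB⟩ : ∃ B : Subgroup (Equiv.Perm (Fin n)),
        B = MulAction.stabilizer (Equiv.Perm (Fin n)) O' := ⟨_, rfl⟩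
    have hTA : T' ≤ A := by
      intro t ht
      rw [hA, MulAction.mem_stabilizer_iff]
      exact hfix t ht
    have hTB : T' ≤ B := by
      intro t ht
      rw [hB, MulAction.mem_stabilizer_iff, hO']
      have himg : ∀ s ∈ T', ∀ w ∈ insert x₀ (MulAction.orbit ↥T' y),
          s w ∈ insert x₀ (MulAction.orbit ↥T' y) := by
        intro s hs w hw
        rcases hw with rfl | hw
        · left; exact hfix s hs
        · right
          obtain ⟨u, rfl⟩ := hw
          exact ⟨⟨s, hs⟩ * u, by show (⟨s, hs⟩ * u : ↥T') • y = s (u • y); rw [mul_smul]; rfl⟩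
      ext w
      constructor
      · rintro ⟨v, hv, rfl⟩
        exact himg t ht v hv
      · intro hw
        refine ⟨t⁻¹ w, himg t⁻¹ (T'.inv_mem ht) w hw, ?_⟩
        show t (t⁻¹ w) = w
        simp
    have hswapA : swap x₀ y ∉ A := by
      rw [hA, MulAction.mem_stabilizer_iff]
      show swap x₀ y x₀ ≠ x₀
      rw [swap_apply_left]
      exact hy
    have hswapB : swap x₀ y ∈ B := by
      rw [hB, MulAction.mem_stabilizer_iff, hO']
      have himg : ∀ w ∈ insert x₀ (MulAction.orbit ↥T' y),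
          swap x₀ y w ∈ insert x₀ (MulAction.orbit ↥T' y) := by
        intro w hw
        by_cases h1 : w = x₀
        · rw [h1, swap_apply_left]; right; exact hyO
        · by_cases h2 : w = y
          · rw [h2, swap_apply_right]; left; rfl
          · rw [swap_apply_of_ne_of_ne h1 h2]; exact hw
      ext w
      constructor
      · rintro ⟨v, hv, rfl⟩
        exact himg v hv
      · intro hw
        refine ⟨swap x₀ y w, himg w hw, ?_⟩
        show swap x₀ y (swap x₀ y w) = w
        simp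
    have hswapB' : swap x₀ z ∉ B := by
      rw [hB, MulAction.mem_stabilizer_iff, hO']
      intro heq
      have h1 : swap x₀ z • x₀ ∈ swap x₀ z • insert x₀ (MulAction.orbit ↥T' y) :=
        Set.smul_mem_smul_set (Set.mem_insert _ _)
      rw [heq] at h1
      have h2 : swap x₀ z • x₀ = z := swap_apply_left x₀ z
      rw [h2] at h1
      rcases h1 with h1 | h1
      · exact hz h1
      · exact hzO h1
    have hAtop : A ≠ ⊤ := fun h => hswapA (h ▸ Subgroup.mem_top _)
    have hBtop : B ≠ ⊤ := fun h => hswapB' (h ▸ Subgroup.mem_top _)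
    obtain ⟨A', hA'c, hAA'⟩ := (eq_top_or_exists_le_coatom A).resolve_left hAtop
    obtain ⟨B', hB'c, hBB'⟩ := (eq_top_or_exists_le_coatom B).resolve_left hBtop
    have hA'M := hMuniq A' ⟨hA'c, hTA.trans hAA'⟩
    have hB'M := hMuniq B' ⟨hB'c, hTB.trans hBB'⟩
    rw [hA'M] at hAA'
    rw [hB'M] at hBB'
    -- M contains every swap
    apply hMc.1
    rw [eq_top_iff, ← Equiv.Perm.closure_isSwap, Subgroup.closure_le]
    rintro σ ⟨u, v, huv, rfl⟩
    have hAmem : ∀ a b : Fin n, a ≠ x₀ → b ≠ x₀ → swap a b ∈ M := by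
      intro a b ha hb
      apply hAA'
      rw [hA, MulAction.mem_stabilizer_iff]
      show swap a b x₀ = x₀
      exact swap_apply_of_ne_of_ne ha.symm hb.symm
    have hx₀mem : ∀ b : Fin n, b ≠ x₀ → swap x₀ b ∈ M := by
      intro b hb
      by_cases hby : b = y
      · rw [hby]; exact hBB' hswapB
      · have h1 : swap y b ∈ M := hAmem y b hy hb
        have h2 : swap x₀ y ∈ M := hBB' hswapB
        have h3 := swap_mul_swap_mul_swap (x := x₀) (y := y) (z := b) hy.symm hb.symm
        have h4 : swap y b * swap x₀ y * swap y b ∈ M := M.mul_mem (M.mul_mem h1 h2) h1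
        rw [h3, swap_comm] at h4
        exact h4
    show swap u v ∈ M
    by_cases hu : u = x₀
    · rw [hu]
      exact hx₀mem v (fun hv => huv (hu.trans hv.symm))
    · by_cases hv : v = x₀
      · rw [hv, swap_comm]
        exact hx₀mem u hu
      · exact hAmem u v hu hv

end Cfsg.Agent.Lib.Helper7
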