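import Mathlib

set_option autoImplicit false

namespace Cfsg.Agent.Lib.Helper7

/-- The fixed points of a subgroup in a representation, as a submodule. -/
def fixedSubmodule {k G V : Type*} [CommSemiring k] [Group G] [AddCommMonoid V] [Module k V]
    (ρ : Representation k G V) (B : Subgroup G) : Submodule k V where
  carrier := {v | ∀ b ∈ B, ρ b v = v}
  add_mem' := by
    intro v w hv hw b hb
    rw [map_add, hv b hb, hw b hb]
  zero_mem' := by
    intro b _
    rw [map_zero]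
  smul_mem' := by
    intro c v hv b hb
    rw [map_smul, hv b hb]

theorem mem_fixedSubmodule {k G V : Type*} [CommSemiring k] [Group G] [AddCommMonoid V] [Module k V]
    (ρ : Representation k G V) (B : Subgroup G) (v : V) :
    v ∈ fixedSubmodule ρ B ↔ ∀ b ∈ B, ρ b v = v := Iff.rfl

theorem best_offender_invariant {G V : Type*} [Group G] [Finite G] [AddCommGroup V] [Finite V] (p : ℕ)
    [Fact p.Prime] [Module (ZMod p) V]
    (ρ : Representation (ZMod p) G V) (W : Submodule (ZMod p) V)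
    (A : Subgroup G)
    (hP : ∀ B : Subgroup G, B ≤ A →
      Nat.card ↥B * Nat.card {v : V // ∀ b ∈ B, ρ b v = v} ≤ Nat.card ↥A * Nat.card {v : V // ∀ a ∈ A, ρ a v = v})
    (B : Subgroup G) (hBA : B ≤ A) :
    Nat.card ↥B * Nat.card {w : W // ∀ b ∈ B, ρ b w = w} ≤ Nat.card ↥A * Nat.card {w : W // ∀ a ∈ A, ρ a w = w} := by
  have hp : p.Prime := Fact.out
  set CA := fixedSubmodule ρ A with hCA
  set CB := fixedSubmodule ρ B with hCB
  have hle : CA ≤ CB := fun v hv b hb => hv b (hBA hb)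
  have e1 : ∀ K : Subgroup G, Nat.card {v : V // ∀ b ∈ K, ρ b v = v} = Nat.card ↥(fixedSubmodule ρ K) :=
    fun K => rfl
  have e2 : ∀ K : Subgroup G, Nat.card {w : W // ∀ b ∈ K, ρ b w = w} = Nat.card ↥(W ⊓ fixedSubmodule ρ K) := by
    intro K
    apply Nat.card_congr
    exact (Equiv.subtypeSubtypeEquivSubtypeInter (fun v : V => v ∈ W) (fun v : V => ∀ b ∈ K, ρ b v = v))
  rw [e2 A, e2 B]
  have h1 := hP B hBA
  rw [e1 A, e1 B] at h1
  -- dimension count
  have hinf : (W ⊓ CB) ⊓ CA = W ⊓ CA := by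
    rw [inf_assoc, inf_eq_right.mpr hle]
  have hsup : (W ⊓ CB) ⊔ CA ≤ CB := sup_le inf_le_right hle
  have hdim := Submodule.finrank_sup_add_finrank_inf_eq (W ⊓ CB) CA
  rw [hinf] at hdim
  have hmono : Module.finrank (ZMod p) ↥((W ⊓ CB) ⊔ CA) ≤ Module.finrank (ZMod p) ↥CB :=
    Submodule.finrank_mono hsup
  have hcard : ∀ U : Submodule (ZMod p) V, Nat.card ↥U = p ^ Module.finrank (ZMod p) ↥U := by
    intro U
    rw [Module.natCard_eq_pow_finrank (K := ZMod p), Nat.card_zmod]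
  have h2 : Nat.card ↥(W ⊓ CB) * Nat.card ↥CA ≤ Nat.card ↥CB * Nat.card ↥(W ⊓ CA) := by
    rw [hcard, hcard, hcard, hcard, ← pow_add, ← pow_add]
    apply Nat.pow_le_pow_right hp.pos
    omega
  have hpos : 0 < Nat.card ↥CA := Nat.card_pos
  have h3 : Nat.card ↥B * Nat.card ↥(W ⊓ CB) * Nat.card ↥CA ≤ Nat.card ↥A * Nat.card ↥(W ⊓ CA) * Nat.card ↥CA := by
    calc Nat.card ↥B * Nat.card ↥(W ⊓ CB) * Nat.card ↥CA
        = Nat.card ↥B * (Nat.card ↥(W ⊓ CB) * Nat.card ↥CA) := by ring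
      _ ≤ Nat.card ↥B * (Nat.card ↥CB * Nat.card ↥(W ⊓ CA)) := Nat.mul_le_mul_left _ h2
      _ = (Nat.card ↥B * Nat.card ↥CB) * Nat.card ↥(W ⊓ CA) := by ring
      _ ≤ (Nat.card ↥A * Nat.card ↥CA) * Nat.card ↥(W ⊓ CA) := Nat.mul_le_mul_right _ h1
      _ = Nat.card ↥A * Nat.card ↥(W ⊓ CA) * Nat.card ↥CA := by ring
  exact Nat.le_of_mul_le_mul_right h3 hpos

end Cfsg.Agent.Lib.Helper7
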