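import Mathlib
import Cfsg.Prelude.Def_KGroupFacts
import Cfsg.Agent.Lib.Helper7.ExspC

set_option autoImplicit false

namespace Cfsg.Agent.Lib.Helper7.Olv

open Cfsg Cfsg.Agent.Lib.Helper7.Trv Cfsg.Agent.Lib.Helper7.Exsp

variable {P : Type*} [Group P]

theorem inn_normal : (Inn P).Normal := by
  refine ⟨fun n hn g => ?_⟩
  obtain ⟨y, rfl⟩ := hn
  refine ⟨g y, ?_⟩
  ext z
  simp [MulAut.conj_apply]

/-- a maximal `p`-subgroup of `G` preserving `W` contains the stabilizer of `P ≥ W ≥ 1` -/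
theorem chainStab_le_of_max' [Finite P] {p : ℕ} [Fact p.Prime] (hP : IsPGroup p P)
    {G T : Subgroup (MulAut P)} (hTG : T ≤ G) (hTp : IsPGroup p T)
    (hmax : ∀ Q : Subgroup (MulAut P), Q ≤ G → IsPGroup p Q → T ≤ Q → Q ≤ T) (W : Subgroup P)
    (hTW : ∀ t ∈ T, ∀ x ∈ W, t x ∈ W) : G ⊓ chainStab W W le_rfl ≤ T := by
  obtain ⟨K, hKdef⟩ : ∃ K, K = G ⊓ chainStab W W le_rfl := ⟨_, rfl⟩
  rw [← hKdef]
  have hKp : IsPGroup p K := hKdef ▸ (isPGroup_chainStab hP W W le_rfl).to_le inf_le_right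
  have hnorm : T ≤ Subgroup.normalizer (K : Set (MulAut P)) := by
    intro t ht
    have key : ∀ s ∈ T, ∀ k ∈ K, s * k * s⁻¹ ∈ K := by
      intro s hs k hk
      rw [hKdef] at hk ⊢
      obtain ⟨hkG, hk1, -, hk3⟩ := hk
      have hsinv : ∀ x ∈ W, s⁻¹ x ∈ W := hTW s⁻¹ (T.inv_mem hs)
      refine ⟨G.mul_mem (G.mul_mem (hTG hs) hkG) (G.inv_mem (hTG hs)), ?_, ?_, ?_⟩
      · intro x
        show x⁻¹ * s (k (s⁻¹ x)) ∈ W
        have h1 := hk1 (s⁻¹ x)
        have h2 := hTW s hs _ h1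
        rw [map_mul, map_inv, MulAut.apply_inv_self] at h2
        exact h2
      · intro x hx
        show x⁻¹ * s (k (s⁻¹ x)) ∈ W
        rw [hk3 _ (hsinv x hx), MulAut.apply_inv_self, inv_mul_cancel]
        exact W.one_mem
      · intro x hx
        show s (k (s⁻¹ x)) = x
        rw [hk3 _ (hsinv x hx), MulAut.apply_inv_self]
    rw [Subgroup.mem_normalizer_iff]
    intro k
    constructor
    · exact key t ht k
    · intro hk
      have := key t⁻¹ (T.inv_mem ht) _ hk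
      have e : t⁻¹ * (t * k * t⁻¹) * t⁻¹⁻¹ = k := by group
      rwa [e] at this
  have hsup : IsPGroup p (T ⊔ K : Subgroup (MulAut P)) := hTp.to_sup_of_normal_right' hKp hnorm
  have hle : T ⊔ K ≤ G := sup_le hTG (hKdef ▸ inf_le_left)
  exact le_sup_right.trans (hmax _ hle hsup le_sup_left)

/-- the hypotheses of the common-axis transvection lemma -/
structure AHyp (p : ℕ) (G T U : Subgroup (MulAut P)) (P₀ : Subgroup P) (g : MulAut P) : Prop where
  hP : IsPGroup p P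
  hTG : T ≤ G
  hIT : Inn P ≤ T
  hUT : U ≤ T
  hTUI : T ≤ U ⊔ Inn P
  hTp : IsPGroup p T
  hmax : ∀ Q : Subgroup (MulAut P), Q ≤ G → IsPGroup p Q → T ≤ Q → Q ≤ T
  hg : g ∈ G
  hgT : ∀ t ∈ T, g * t * g⁻¹ ∈ T → t ∈ Inn P
  hne : ∃ t ∈ T, t ∉ Inn P
  hP₀c : ∀ a ∈ P₀, ∀ b ∈ P₀, a * b = b * a
  hP₀i : P₀.index = p
  hU1 : ∀ u ∈ U, ∀ a ∈ P₀, u a = a
  hU2 : ∀ u ∈ U, ∀ y, y⁻¹ * u y ∈ P₀

namespace AHyp

variable {p : ℕ} {G T U : Subgroup (MulAut P)} {P₀ : Subgroup P} {g : MulAut P}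

theorem conj_max [Finite P] (h : AHyp p G T U P₀ g) :
    ∀ Q : Subgroup (MulAut P), Q ≤ G → IsPGroup p Q → T.map (MulAut.conj g).toMonoidHom ≤ Q →
      Q ≤ T.map (MulAut.conj g).toMonoidHom := by
  intro Q hQG hQp hTQ
  have h1 : Q.map (MulAut.conj g⁻¹).toMonoidHom ≤ G := by
    rintro _ ⟨q, hq, rfl⟩
    show g⁻¹ * q * g⁻¹⁻¹ ∈ G
    exact G.mul_mem (G.mul_mem (G.inv_mem h.hg) (hQG hq)) (G.inv_mem (G.inv_mem h.hg))
  have h2 : IsPGroup p (Q.map (MulAut.conj g⁻¹).toMonoidHom) := hQp.map _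
  have h3 : T ≤ Q.map (MulAut.conj g⁻¹).toMonoidHom := by
    intro t ht
    refine ⟨g * t * g⁻¹, hTQ ⟨t, ht, rfl⟩, ?_⟩
    show g⁻¹ * (g * t * g⁻¹) * g⁻¹⁻¹ = t
    group
  have h4 := h.hmax _ h1 h2 h3
  intro q hq
  refine ⟨g⁻¹ * q * g, h4 ⟨q, hq, ?_⟩, ?_⟩
  · show g⁻¹ * q * g⁻¹⁻¹ = g⁻¹ * q * g
    rw [inv_inv]
  · show g * (g⁻¹ * q * g) * g⁻¹ = q
    group

/-- the elements of `U` stabilize the chain `P ≥ P₀ ≥ 1` -/
theorem U_le_chainStab (h : AHyp p G T U P₀ g) : U ≤ chainStab P₀ P₀ le_rfl := by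
  intro u hu
  refine ⟨h.hU2 u hu, fun x hx => ?_, h.hU1 u hu⟩
  rw [h.hU1 u hu x hx, inv_mul_cancel]
  exact P₀.one_mem

theorem conj_mem_chainStab (h : AHyp p G T U P₀ g) {u : MulAut P} (hu : u ∈ U) :
    g * u * g⁻¹ ∈ chainStab (P₀.map g.toMonoidHom) (P₀.map g.toMonoidHom) le_rfl := by
  have key : ∀ y, y⁻¹ * (g * u * g⁻¹) y ∈ P₀.map g.toMonoidHom := by
    intro y
    refine ⟨(g⁻¹ y)⁻¹ * u (g⁻¹ y), h.hU2 u hu _, ?_⟩
    show g ((g⁻¹ y)⁻¹ * u (g⁻¹ y)) = y⁻¹ * g (u (g⁻¹ y))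
    rw [map_mul, map_inv, MulAut.apply_inv_self]
  have hfix : ∀ y ∈ P₀.map g.toMonoidHom, (g * u * g⁻¹) y = y := by
    rintro _ ⟨a, ha, rfl⟩
    show g (u (g⁻¹ (g a))) = g a
    rw [MulAut.inv_apply_self, h.hU1 u hu a ha]
  refine ⟨key, fun y hy => ?_, hfix⟩
  rw [hfix y hy, inv_mul_cancel]
  exact Subgroup.one_mem _

/-- `g` moves the axis -/
theorem map_ne [Finite P] [Fact p.Prime] (h : AHyp p G T U P₀ g) :
    P₀.map g.toMonoidHom ≠ P₀ := by
  intro heq
  have hI : (Inn P).Normal := inn_normal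
  obtain ⟨K, hKdef⟩ : ∃ K, K = G ⊓ chainStab P₀ P₀ le_rfl := ⟨_, rfl⟩
  have hKp : IsPGroup p K := hKdef ▸ (isPGroup_chainStab h.hP P₀ P₀ le_rfl).to_le inf_le_right
  have hIp : IsPGroup p (Inn P) := h.hTp.to_le h.hIT
  have hQp : IsPGroup p (K ⊔ Inn P : Subgroup (MulAut P)) := hKp.to_sup_of_normal_right hIp
  have hQG : K ⊔ Inn P ≤ G := sup_le (hKdef ▸ inf_le_left) (h.hIT.trans h.hTG)
  have hUK : U ≤ K := by
    rw [hKdef]
    exact le_inf (h.hUT.trans h.hTG) h.U_le_chainStab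
  have hTQ : T ≤ K ⊔ Inn P := h.hTUI.trans (sup_le_sup_right hUK _)
  have hQT := h.hmax _ hQG hQp hTQ
  obtain ⟨t, ht, htI⟩ := h.hne
  apply htI
  apply h.hgT t ht
  -- g t g⁻¹ ∈ K ⊔ Inn P
  have ht' := h.hTUI ht
  rw [Subgroup.mem_sup_of_normal_right] at ht'
  obtain ⟨u, hu, i, hi, rfl⟩ := ht'
  apply hQT
  have e : g * (u * i) * g⁻¹ = (g * u * g⁻¹) * (g * i * g⁻¹) := by group
  rw [e]
  apply Subgroup.mul_mem
  · apply Subgroup.mem_sup_left
    rw [hKdef]
    refine ⟨G.mul_mem (G.mul_mem h.hg (h.hTG (h.hUT hu))) (G.inv_mem h.hg), ?_⟩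
    have := h.conj_mem_chainStab hu
    simp only [heq] at this
    exact this
  · exact Subgroup.mem_sup_right (hI.conj_mem i hi g)

theorem index_map (h : AHyp p G T U P₀ g) : (P₀.map g.toMonoidHom).index = p := by
  have := Subgroup.index_map_equiv P₀ (g : P ≃* P)
  rw [← h.hP₀i, ← this]
  rfl

/-- `P` is generated by the two axes -/
theorem sup_map [Finite P] [Fact p.Prime] (h : AHyp p G T U P₀ g) :
    P₀ ⊔ P₀.map g.toMonoidHom = ⊤ := by
  have hidx : P₀.relIndex ⊤ = p := by rw [Subgroup.relIndex_top_right]; exact h.hP₀i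
  have : Finite (⊤ : Subgroup P) := inferInstance
  apply sup_of_relIndex_prime le_top hidx le_top
  intro hle
  apply h.map_ne
  apply Subgroup.eq_of_le_of_card_ge hle
  have h1 := Subgroup.card_mul_index P₀
  have h2 := Subgroup.card_mul_index (P₀.map g.toMonoidHom)
  rw [h.hP₀i] at h1
  rw [h.index_map] at h2
  have hp : p.Prime := Fact.out
  have : Nat.card P₀ * p = Nat.card (P₀.map g.toMonoidHom) * p := h1.trans h2.symm
  exact (Nat.eq_of_mul_eq_mul_right hp.pos this).le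

/-- the intersection of the axes is central -/
theorem inf_central [Finite P] [Fact p.Prime] (h : AHyp p G T U P₀ g) {d : P}
    (hd : d ∈ P₀ ⊓ P₀.map g.toMonoidHom) (y : P) : y * d = d * y := by
  have hle : (⊤ : Subgroup P) ≤ Subgroup.centralizer {d} := by
    rw [← h.sup_map]
    apply sup_le
    · intro a ha
      rw [Subgroup.mem_centralizer_singleton_iff]
      exact h.hP₀c a ha d hd.1
    · rintro _ ⟨a, ha, rfl⟩
      obtain ⟨b, hb, hbd⟩ := hd.2
      rw [Subgroup.mem_centralizer_singleton_iff, ← hbd]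
      show g a * g b = g b * g a
      rw [← map_mul, ← map_mul, h.hP₀c a ha b hb]
  have := hle (Subgroup.mem_top y)
  rw [Subgroup.mem_centralizer_singleton_iff] at this
  exact this

/-- the intersection of the axes has index `p` in `P₀` -/
theorem relIndex_inf [Finite P] [Fact p.Prime] (h : AHyp p G T U P₀ g) :
    (P₀ ⊓ P₀.map g.toMonoidHom).relIndex P₀ = p := by
  have hp : p.Prime := Fact.out
  rw [Subgroup.inf_relIndex_left]
  have h1 : (P₀.map g.toMonoidHom).relIndex P₀ ≤ p := by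
    have := Subgroup.relIndex_le_of_le_right (H := P₀.map g.toMonoidHom) (le_top : P₀ ≤ ⊤)
      (by rw [Subgroup.relIndex_top_right, h.index_map]; exact hp.ne_zero)
    rwa [Subgroup.relIndex_top_right, h.index_map] at this
  have h2 : (P₀.map g.toMonoidHom).relIndex P₀ ≠ 1 := by
    intro h1
    have hle := Subgroup.relIndex_eq_one.mp h1
    apply h.map_ne
    symm
    apply Subgroup.eq_of_le_of_card_ge hle
    have e1 := Subgroup.card_mul_index P₀
    have e2 := Subgroup.card_mul_index (P₀.map g.toMonoidHom)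
    rw [h.hP₀i] at e1
    rw [h.index_map] at e2
    have : Nat.card (P₀.map g.toMonoidHom) * p = Nat.card P₀ * p := e2.trans e1.symm
    exact (Nat.eq_of_mul_eq_mul_right hp.pos this).le
  have hP₀p : IsPGroup p P₀ := h.hP.to_subgroup P₀
  obtain ⟨n, hn⟩ := hP₀p.index ((P₀.map g.toMonoidHom).subgroupOf P₀)
  have hn' : (P₀.map g.toMonoidHom).relIndex P₀ = p ^ n := hn
  rw [hn'] at h1 h2 ⊢
  have hn0 : n ≠ 0 := by rintro rfl; exact h2 (pow_zero p)
  have hn1 : n ≤ 1 := by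
    have : p ^ n ≤ p ^ 1 := by rwa [pow_one]
    exact (Nat.pow_le_pow_iff_right hp.one_lt).mp this
  have : n = 1 := by omega
  rw [this, pow_one]


/-- decomposition of `P` along the axis -/
theorem exists_decomp [Finite P] [Fact p.Prime] (h : AHyp p G T U P₀ g) {x : P} (hx : x ∉ P₀)
    (y : P) : ∃ a ∈ P₀, ∃ k : ℤ, y = a * x ^ k := by
  have hidx : P₀.relIndex ⊤ = p := by rw [Subgroup.relIndex_top_right]; exact h.hP₀i
  have : Finite (⊤ : Subgroup P) := inferInstance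
  have hsup := sup_zpowers_of_relIndex_prime le_top hidx (Subgroup.mem_top x) hx
  have hn : P₀.Normal := by
    apply Subgroup.normal_of_index_eq_minFac_card
    obtain ⟨n, hn⟩ := IsPGroup.iff_card.mp h.hP
    have hp : p.Prime := Fact.out
    have hn0 : n ≠ 0 := by
      rintro rfl
      rw [pow_zero] at hn
      have : Subsingleton P := (Nat.card_eq_one_iff_unique.mp hn).1
      exact hx (by rw [Subsingleton.elim x 1]; exact P₀.one_mem)
    rw [h.hP₀i, hn, hp.pow_minFac hn0]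
  have hy : y ∈ P₀ ⊔ Subgroup.zpowers x := by rw [hsup]; exact Subgroup.mem_top y
  rw [Subgroup.mem_sup_of_normal_left] at hy
  obtain ⟨a, ha, b, hb, rfl⟩ := hy
  obtain ⟨k, rfl⟩ := Subgroup.mem_zpowers_iff.mp hb
  exact ⟨a, ha, k, rfl⟩

/-- the commutator-with-`x` homomorphism on `U` -/
noncomputable def fx (h : AHyp p G T U P₀ g) (x : P) : U →* P₀ where
  toFun u := ⟨x⁻¹ * (u : MulAut P) x, h.hU2 u u.2 x⟩
  map_one' := by
    apply Subtype.ext
    simp
  map_mul' u v := by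
    apply Subtype.ext
    show x⁻¹ * ((u : MulAut P) * (v : MulAut P)) x = (x⁻¹ * (u : MulAut P) x) * (x⁻¹ * (v : MulAut P) x)
    have hv := h.hU2 v v.2 x
    have e : (v : MulAut P) x = x * (x⁻¹ * (v : MulAut P) x) := by simp
    rw [MulAut.mul_apply]
    conv_lhs => rw [e, map_mul, h.hU1 u u.2 _ hv]
    group

theorem fx_apply (h : AHyp p G T U P₀ g) (x : P) (u : U) :
    ((h.fx x u : P₀) : P) = x⁻¹ * (u : MulAut P) x := rfl

/-- `T` fixes the intersection of the axes pointwise -/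
theorem T_fix_inf [Finite P] [Fact p.Prime] (h : AHyp p G T U P₀ g) {t : MulAut P} (ht : t ∈ T)
    {d : P} (hd : d ∈ P₀ ⊓ P₀.map g.toMonoidHom) : t d = d := by
  have hI : (Inn P).Normal := inn_normal
  have ht' := h.hTUI ht
  rw [Subgroup.mem_sup_of_normal_right] at ht'
  obtain ⟨u, hu, i, hi, rfl⟩ := ht'
  obtain ⟨y, rfl⟩ := hi
  show u (MulAut.conj y d) = d
  rw [MulAut.conj_apply, h.inf_central hd y, mul_inv_cancel_right, h.hU1 u hu d hd.1]

theorem conjT_fix_inf [Finite P] [Fact p.Prime] (h : AHyp p G T U P₀ g) {t : MulAut P} (ht : t ∈ T)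
    {d : P} (hd : d ∈ P₀ ⊓ P₀.map g.toMonoidHom) : (g * t * g⁻¹) d = d := by
  have hI : (Inn P).Normal := inn_normal
  have ht' := h.hTUI ht
  rw [Subgroup.mem_sup_of_normal_right] at ht'
  obtain ⟨u, hu, i, hi, rfl⟩ := ht'
  have e : g * (u * i) * g⁻¹ = (g * u * g⁻¹) * (g * i * g⁻¹) := by group
  rw [e]
  obtain ⟨y, hy⟩ := hI.conj_mem i hi g
  rw [← hy]
  show (g * u * g⁻¹) (MulAut.conj y d) = d
  rw [MulAut.conj_apply, h.inf_central hd y, mul_inv_cancel_right]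
  exact (h.conj_mem_chainStab hu).2.2 d hd.2

/-- the stabilizer of `P ≥ D ≥ 1` consists of inner automorphisms -/
theorem chainStab_inf_le_inn [Finite P] [Fact p.Prime] (h : AHyp p G T U P₀ g) :
    G ⊓ chainStab (P₀ ⊓ P₀.map g.toMonoidHom) (P₀ ⊓ P₀.map g.toMonoidHom) le_rfl ≤ Inn P := by
  have hI : (Inn P).Normal := inn_normal
  have hT'G : T.map (MulAut.conj g).toMonoidHom ≤ G := by
    rintro _ ⟨s, hs, rfl⟩
    exact G.mul_mem (G.mul_mem h.hg (h.hTG hs)) (G.inv_mem h.hg)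
  have hK1 := chainStab_le_of_max' h.hP h.hTG h.hTp h.hmax (P₀ ⊓ P₀.map g.toMonoidHom)
    (fun t ht x hx => by rw [h.T_fix_inf ht hx]; exact hx)
  have hK2 := chainStab_le_of_max' h.hP hT'G (h.hTp.map _) h.conj_max (P₀ ⊓ P₀.map g.toMonoidHom)
    (by
      rintro _ ⟨t, ht, rfl⟩ x hx
      show (g * t * g⁻¹) x ∈ _
      rw [h.conjT_fix_inf ht hx]; exact hx)
  intro k hk
  obtain ⟨t, ht, htk⟩ := hK2 hk
  have htk' : g * t * g⁻¹ = k := htk
  have htI : t ∈ Inn P := h.hgT t ht (htk' ▸ hK1 hk)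
  rw [← htk']
  exact hI.conj_mem t htI g

/-- the index of `Inn(P)` in `T` is at most `p` -/
theorem relIndex_inn_le [Finite P] [Fact p.Prime] (h : AHyp p G T U P₀ g) :
    (Inn P).relIndex T ≤ p := by
  have hp : p.Prime := Fact.out
  have hI : (Inn P).Normal := inn_normal
  have hfin : Finite (MulAut P) := inferInstance
  have hne0 : ∀ H K : Subgroup (MulAut P), H.relIndex K ≠ 0 := fun H K =>
    Subgroup.index_ne_zero_of_finite
  obtain ⟨x, hx⟩ : ∃ x : P, x ∉ P₀ := by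
    by_contra hcon
    push Not at hcon
    have : P₀ = ⊤ := eq_top_iff.mpr fun y _ => hcon y
    have h1 := h.hP₀i
    rw [this, Subgroup.index_top] at h1
    exact hp.one_lt.ne h1
  obtain ⟨D, hDdef⟩ : ∃ D, D = P₀ ⊓ P₀.map g.toMonoidHom := ⟨_, rfl⟩
  obtain ⟨U₀, hU₀def⟩ : ∃ U₀ : Subgroup U, U₀ = (D.subgroupOf P₀).comap (h.fx x) := ⟨_, rfl⟩
  have hU₀idx : U₀.index ≤ p := by
    rw [hU₀def, Subgroup.index_comap]
    have h1 := Subgroup.relIndex_le_of_le_right (H := D.subgroupOf P₀)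
      (le_top : (h.fx x).range ≤ ⊤) (by
        rw [Subgroup.relIndex_top_right]
        exact Subgroup.index_ne_zero_of_finite)
    rw [Subgroup.relIndex_top_right] at h1
    have h2 : (D.subgroupOf P₀).index = p := by
      have := h.relIndex_inf
      rw [← hDdef] at this
      exact this
    rw [h2] at h1
    exact h1
  have hU₀le : U₀.map U.subtype ≤ Inn P ⊓ U := by
    rintro _ ⟨u, hu, rfl⟩
    refine ⟨?_, u.2⟩
    apply h.chainStab_inf_le_inn
    have hu : h.fx x u ∈ D.subgroupOf P₀ := by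
      rw [hU₀def] at hu
      exact hu
    rw [Subgroup.mem_subgroupOf, fx_apply] at hu
    have hdc : ∀ y, y * (x⁻¹ * (u : MulAut P) x) = (x⁻¹ * (u : MulAut P) x) * y := fun y =>
      h.inf_central (hDdef ▸ hu) y
    refine ⟨h.hTG (h.hUT u.2), ?_, ?_, ?_⟩
    · intro y
      obtain ⟨a, ha, k, rfl⟩ := h.exists_decomp hx y
      have e1 : (u : MulAut P) x = x * (x⁻¹ * (u : MulAut P) x) := by simp
      have hcomm : Commute x (x⁻¹ * (u : MulAut P) x) := hdc x
      have e2 : (u : MulAut P) (a * x ^ k) = a * x ^ k * (x⁻¹ * (u : MulAut P) x) ^ k := by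
        rw [map_mul, map_zpow, h.hU1 u u.2 a ha]
        conv_lhs => rw [e1, hcomm.mul_zpow]
        group
      show (a * x ^ k)⁻¹ * (u : MulAut P) (a * x ^ k) ∈ _
      rw [e2, ← mul_assoc, inv_mul_cancel, one_mul]
      rw [← hDdef]
      exact Subgroup.zpow_mem _ hu k
    · intro y hy
      show y⁻¹ * (u : MulAut P) y ∈ _
      rw [h.hU1 u u.2 y hy.1, inv_mul_cancel]
      exact Subgroup.one_mem _
    · intro y hy
      exact h.hU1 u u.2 y hy.1
  calc (Inn P).relIndex T ≤ (Inn P).relIndex (U ⊔ Inn P) :=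
        Subgroup.relIndex_le_of_le_right h.hTUI (hne0 _ _)
    _ = (Inn P).relIndex U := Subgroup.relIndex_sup_right U (Inn P)
    _ = (Inn P ⊓ U).relIndex U := (Subgroup.inf_relIndex_right (Inn P) U).symm
    _ ≤ (U₀.map U.subtype).relIndex U := Subgroup.relIndex_le_of_le_left hU₀le (hne0 _ _)
    _ = U₀.index := by
        show ((U₀.map U.subtype).subgroupOf U).index = U₀.index
        congr 1
        exact Subgroup.comap_map_eq_self_of_injective U.subtype_injective U₀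
    _ ≤ p := hU₀idx

end AHyp

end Cfsg.Agent.Lib.Helper7.Olv
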