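import Mathlib
import Cfsg.Prelude.Def_FusionSystem
import Cfsg.Agent.Lib.Helper7.OlvA

set_option autoImplicit false

namespace Cfsg.Agent.Lib.Helper7.Olv

open Cfsg Cfsg.FusionSystem Cfsg.Agent.Lib.Helper7 Cfsg.Agent.Lib.Helper7.Trv
  Cfsg.Agent.Lib.Helper7.Exsp

variable {Ω : Type*} [Group Ω] {p : ℕ} {S A : Subgroup Ω}

/-- `S` is nonabelian with a unique abelian subgroup `A` of index `p` -/
structure UA (p : ℕ) (S A : Subgroup Ω) : Prop where
  hS : IsPGroup p S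
  hAS : A ≤ S
  hAc : ∀ a ∈ A, ∀ b ∈ A, a * b = b * a
  hAi : A.relIndex S = p
  hna : ∃ a ∈ S, ∃ b ∈ S, a * b ≠ b * a
  huniq : ∀ B : Subgroup Ω, B ≤ S → (∀ a ∈ B, ∀ b ∈ B, a * b = b * a) → B.relIndex S = p → B = A

theorem isMulCommutative_iff (B : Subgroup Ω) :
    IsMulCommutative ↥B ↔ ∀ a ∈ B, ∀ b ∈ B, a * b = b * a := by
  constructor
  · intro h a ha b hb
    exact congrArg Subtype.val (h.is_comm.comm (⟨a, ha⟩ : B) ⟨b, hb⟩)
  · intro h
    exact ⟨⟨fun a b => Subtype.ext (h a a.2 b b.2)⟩⟩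

theorem UA.of_hyps (hS : IsPGroup p S) (hna : ¬ IsMulCommutative ↥S)
    (hA : A ≤ S ∧ IsMulCommutative ↥A ∧ (A.subgroupOf S).index = p)
    (huniq : ∀ B : Subgroup Ω, B ≤ S → IsMulCommutative ↥B → (B.subgroupOf S).index = p → B = A) :
    UA p S A := by
  refine ⟨hS, hA.1, (isMulCommutative_iff A).mp hA.2.1, hA.2.2, ?_, ?_⟩
  · by_contra hcon
    push Not at hcon
    exact hna ((isMulCommutative_iff S).mpr hcon)
  · intro B hBS hBc hBi
    exact huniq B hBS ((isMulCommutative_iff B).mpr hBc) hBi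

namespace UA

theorem ne_bot (h : UA p S A) : S ≠ ⊥ := by
  intro hS
  obtain ⟨a, ha, b, hb, hab⟩ := h.hna
  rw [hS, Subgroup.mem_bot] at ha hb
  rw [ha, hb] at hab
  exact hab rfl

theorem normal_subgroupOf [Fact p.Prime] [Finite S] (h : UA p S A) : (A.subgroupOf S).Normal := by
  have hp : p.Prime := Fact.out
  apply Subgroup.normal_of_index_eq_minFac_card
  obtain ⟨n, hn⟩ := IsPGroup.iff_card.mp h.hS
  have hn0 : n ≠ 0 := by
    rintro rfl
    rw [pow_zero] at hn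
    have : Subsingleton S := (Nat.card_eq_one_iff_unique.mp hn).1
    apply h.ne_bot
    rw [eq_bot_iff]
    intro x hx
    have := Subsingleton.elim (⟨x, hx⟩ : S) 1
    exact Subgroup.mem_bot.mpr (congrArg Subtype.val this)
  have : (A.subgroupOf S).index = p := h.hAi
  rw [this, hn, hp.pow_minFac hn0]

theorem conj_mem [Fact p.Prime] [Finite S] (h : UA p S A) {s a : Ω} (hs : s ∈ S) (ha : a ∈ A) :
    s * a * s⁻¹ ∈ A := by
  have := h.normal_subgroupOf.conj_mem ⟨a, h.hAS ha⟩ (Subgroup.mem_subgroupOf.mpr ha) ⟨s, hs⟩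
  exact Subgroup.mem_subgroupOf.mp this

theorem conj_mem' [Fact p.Prime] [Finite S] (h : UA p S A) {s a : Ω} (hs : s ∈ S) (ha : a ∈ A) :
    s⁻¹ * a * s ∈ A := by
  have := h.conj_mem (S.inv_mem hs) ha
  rwa [inv_inv] at this

theorem le_normalizer [Fact p.Prime] [Finite S] (h : UA p S A) :
    S ≤ Subgroup.normalizer (A : Set Ω) := by
  intro s hs
  rw [Subgroup.mem_normalizer_iff]
  intro x
  constructor
  · exact h.conj_mem hs
  · intro hx
    have := h.conj_mem' hs hx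
    have e : s⁻¹ * (s * x * s⁻¹) * s = x := by group
    rwa [e] at this

theorem sup_zpowers [Fact p.Prime] [Finite S] (h : UA p S A) {x : Ω} (hxS : x ∈ S) (hxA : x ∉ A) :
    A ⊔ Subgroup.zpowers x = S :=
  sup_zpowers_of_relIndex_prime h.hAS h.hAi hxS hxA

theorem exists_decomp [Fact p.Prime] [Finite S] (h : UA p S A) {x : Ω} (hxS : x ∈ S) (hxA : x ∉ A)
    {s : Ω} (hs : s ∈ S) : ∃ a ∈ A, ∃ k : ℤ, s = a * x ^ k := by
  have hs' : s ∈ ((A ⊔ Subgroup.zpowers x : Subgroup Ω) : Set Ω) := by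
    rw [h.sup_zpowers hxS hxA]; exact hs
  rw [Subgroup.coe_mul_of_right_le_normalizer_left A (Subgroup.zpowers x)
    (by rw [Subgroup.zpowers_le]; exact h.le_normalizer hxS)] at hs'
  obtain ⟨a, ha, b, hb, rfl⟩ := hs'
  obtain ⟨k, rfl⟩ := Subgroup.mem_zpowers_iff.mp hb
  exact ⟨a, ha, k, rfl⟩

/-- an element of `A` commuting with an element outside `A` is central -/
theorem mem_Zc_of_comm [Fact p.Prime] [Finite S] (h : UA p S A) {x a : Ω} (hxS : x ∈ S)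
    (hxA : x ∉ A) (ha : a ∈ A) (hxa : x * a = a * x) : a ∈ Zc S := by
  refine mem_Zc.mpr ⟨h.hAS ha, ?_⟩
  have hle : S ≤ Subgroup.centralizer {a} := by
    rw [← h.sup_zpowers hxS hxA]
    apply sup_le
    · intro z hz
      rw [Subgroup.mem_centralizer_singleton_iff]
      exact h.hAc z hz a ha
    · rw [Subgroup.zpowers_le, Subgroup.mem_centralizer_singleton_iff]
      exact hxa
  intro s hs
  have := hle hs
  rw [Subgroup.mem_centralizer_singleton_iff] at this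
  exact this

/-- the centre lies in `A` -/
theorem Zc_le [Fact p.Prime] [Finite S] (h : UA p S A) : Zc S ≤ A := by
  intro z hz
  by_contra hzA
  obtain ⟨hzS, hzc⟩ := mem_Zc.mp hz
  obtain ⟨a, ha, b, hb, hab⟩ := h.hna
  apply hab
  obtain ⟨a₁, ha₁, k, rfl⟩ := h.exists_decomp hzS hzA ha
  obtain ⟨a₂, ha₂, l, rfl⟩ := h.exists_decomp hzS hzA hb
  have hzk : z ^ k ∈ Zc S := Subgroup.zpow_mem _ hz k
  have hzl : z ^ l ∈ Zc S := Subgroup.zpow_mem _ hz l
  have e1 := (mem_Zc.mp hzk).2 a₂ (h.hAS ha₂)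
  have e2 := (mem_Zc.mp hzl).2 a₁ (h.hAS ha₁)
  have e3 := (mem_Zc.mp hzk).2 (z ^ l) (Trv.Zc_le S hzl)
  have e4 := h.hAc a₁ ha₁ a₂ ha₂
  calc a₁ * z ^ k * (a₂ * z ^ l) = a₁ * (z ^ k * a₂) * z ^ l := by group
    _ = a₁ * (a₂ * z ^ k) * z ^ l := by rw [← e1]
    _ = (a₁ * a₂) * (z ^ k * z ^ l) := by group
    _ = (a₂ * a₁) * (z ^ l * z ^ k) := by rw [e4, ← e3]
    _ = a₂ * (a₁ * z ^ l) * z ^ k := by group
    _ = a₂ * (z ^ l * a₁) * z ^ k := by rw [e2]
    _ = a₂ * z ^ l * (a₁ * z ^ k) := by group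

theorem pow_mem [Fact p.Prime] [Finite S] (h : UA p S A) {x : Ω} (hxS : x ∈ S) : x ^ p ∈ A := by
  have hn := h.normal_subgroupOf
  have h1 := Subgroup.pow_index_mem (A.subgroupOf S) (⟨x, hxS⟩ : ↥S)
  have h2 : (A.subgroupOf S).index = p := h.hAi
  rw [h2, Subgroup.mem_subgroupOf] at h1
  exact h1

end UA

/-- the second centre, as a subgroup of the ambient group -/
def Z2 (S : Subgroup Ω) : Subgroup Ω := (Subgroup.upperCentralSeries ↥S 2).map S.subtype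

theorem mem_Z2 {z : Ω} :
    z ∈ Z2 S ↔ z ∈ S ∧ ∀ s ∈ S, z * s * z⁻¹ * s⁻¹ ∈ Zc S := by
  unfold Z2
  constructor
  · rintro ⟨w, hw, rfl⟩
    refine ⟨w.2, fun s hs => ?_⟩
    have h1 := Subgroup.mem_upperCentralSeries_succ_iff.mp hw ⟨s, hs⟩
    rw [Subgroup.upperCentralSeries_one, ← Zc_subgroupOf, Subgroup.mem_subgroupOf,
      commutatorElement_def] at h1
    exact h1
  · rintro ⟨hzS, hz⟩
    refine ⟨⟨z, hzS⟩, ?_, rfl⟩
    show (⟨z, hzS⟩ : S) ∈ Subgroup.upperCentralSeries (↥S) (1 + 1)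
    rw [Subgroup.mem_upperCentralSeries_succ_iff]
    intro y
    rw [Subgroup.upperCentralSeries_one, ← Zc_subgroupOf, Subgroup.mem_subgroupOf,
      commutatorElement_def]
    exact hz y y.2

theorem Z2_le (S : Subgroup Ω) : Z2 S ≤ S := fun _ hz => (mem_Z2.mp hz).1

theorem Zc_le_Z2 (S : Subgroup Ω) : Zc S ≤ Z2 S := by
  intro z hz
  refine mem_Z2.mpr ⟨Trv.Zc_le S hz, fun s hs => ?_⟩
  have := (mem_Zc.mp hz).2 s hs
  have e : z * s * z⁻¹ * s⁻¹ = 1 := by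
    rw [← this]; group
  rw [e]
  exact Subgroup.one_mem _

end Cfsg.Agent.Lib.Helper7.Olv
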