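import Mathlib
import Cfsg.Prelude.Def_FusionSystem
import Cfsg.Agent.Lib.Helper7.OlvB

set_option autoImplicit false

namespace Cfsg.Agent.Lib.Helper7.Olv

open Cfsg Cfsg.FusionSystem Cfsg.Agent.Lib.Helper7 Cfsg.Agent.Lib.Helper7.Trv
  Cfsg.Agent.Lib.Helper7.Exsp

section abstract

variable {P : Type*} [Group P] {p : ℕ} {G T U : Subgroup (MulAut P)} {P₀ : Subgroup P}
  {g : MulAut P}

theorem normal_of_index_prime [Finite P] [Fact p.Prime] (hP : IsPGroup p P) {H : Subgroup P}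
    (hH : H.index = p) : H.Normal := by
  have hp : p.Prime := Fact.out
  apply Subgroup.normal_of_index_eq_minFac_card
  obtain ⟨n, hn⟩ := IsPGroup.iff_card.mp hP
  have hn0 : n ≠ 0 := by
    rintro rfl
    rw [pow_zero] at hn
    have : Subsingleton P := (Nat.card_eq_one_iff_unique.mp hn).1
    have : H = ⊤ := eq_top_iff.mpr fun y _ => by rw [Subsingleton.elim y 1]; exact H.one_mem
    rw [this, Subgroup.index_top] at hH
    exact hp.one_lt.ne hH
  rw [hH, hn, hp.pow_minFac hn0]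

/-- commutators with elements of the axis lie in the intersection of the axes -/
theorem AHyp.comm_mem_inf [Finite P] [Fact p.Prime] (h : AHyp p G T U P₀ g) {a : P} (ha : a ∈ P₀)
    (y : P) : a * y * a⁻¹ * y⁻¹ ∈ P₀ ⊓ P₀.map g.toMonoidHom := by
  have hn₀ : P₀.Normal := normal_of_index_prime h.hP h.hP₀i
  have hn₁ : (P₀.map g.toMonoidHom).Normal := normal_of_index_prime h.hP h.index_map
  have hy : y ∈ P₀ ⊔ P₀.map g.toMonoidHom := by rw [h.sup_map]; exact Subgroup.mem_top y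
  rw [Subgroup.mem_sup_of_normal_left] at hy
  obtain ⟨b₀, hb₀, b₁, hb₁, rfl⟩ := hy
  have hc : a * b₁ * a⁻¹ * b₁⁻¹ ∈ P₀ ⊓ P₀.map g.toMonoidHom := by
    constructor
    · have : a * b₁ * a⁻¹ * b₁⁻¹ = a * (b₁ * a⁻¹ * b₁⁻¹) := by group
      rw [this]
      exact P₀.mul_mem ha (hn₀.conj_mem _ (P₀.inv_mem ha) b₁)
    · exact Subgroup.mul_mem _ (hn₁.conj_mem _ hb₁ a) (Subgroup.inv_mem _ hb₁)
  have e : a * (b₀ * b₁) * a⁻¹ * (b₀ * b₁)⁻¹ = b₀ * (a * b₁ * a⁻¹ * b₁⁻¹) * b₀⁻¹ := by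
    have := h.hP₀c a ha b₀ hb₀
    calc a * (b₀ * b₁) * a⁻¹ * (b₀ * b₁)⁻¹ = (a * b₀) * b₁ * a⁻¹ * b₁⁻¹ * b₀⁻¹ := by group
      _ = (b₀ * a) * b₁ * a⁻¹ * b₁⁻¹ * b₀⁻¹ := by rw [this]
      _ = b₀ * (a * b₁ * a⁻¹ * b₁⁻¹) * b₀⁻¹ := by group
  rw [e, h.inf_central hc b₀, mul_inv_cancel_right]
  exact hc

end abstract

variable {Ω : Type*} [Group Ω] {p : ℕ} {S A P : Subgroup Ω}

/-- the basic facts on an essential subgroup other than `A` -/
structure EssData (S A P : Subgroup Ω) (x : Ω) : Prop where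
  hPS : P ≤ S
  hcen : centralizerIn S P ≤ P
  hZP : Zc S ≤ P
  hxP : x ∈ P
  hxA : x ∉ A
  hPne : P ≠ S

theorem essData_of_essential [Fact p.Prime] [Finite S] (h : UA p S A) (F : FusionSystem S)
    (hF : F.IsSaturated p) (hE : F.IsEssential p P) (hPA : P ≠ A) : ∃ x, EssData S A P x := by
  have hPS : P ≤ S := hE.1.1
  have hcen : centralizerIn S P ≤ P := hE.1.2 P (isConj_refl F hPS)
  have hZP : Zc S ≤ P := by
    intro z hz
    apply hcen
    refine Subgroup.mem_inf.mpr ⟨(mem_Zc.mp hz).1, Subgroup.mem_centralizer_iff.mpr ?_⟩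
    intro g hg
    exact (mem_Zc.mp hz).2 g (hPS hg)
  have hPne : P ≠ S := fun h' => not_isEssential_top p h.hS F hF (h' ▸ hE)
  have hPnA : ¬ P ≤ A := by
    intro hle
    apply hPA
    apply le_antisymm hle
    intro a ha
    apply hcen
    refine Subgroup.mem_inf.mpr ⟨h.hAS ha, Subgroup.mem_centralizer_iff.mpr ?_⟩
    intro z hz
    exact h.hAc z (hle hz) a ha
  obtain ⟨x, hxP, hxA⟩ : ∃ x ∈ P, x ∉ A := by
    by_contra hcon
    push Not at hcon
    exact hPnA hcon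
  exact ⟨x, hPS, hcen, hZP, hxP, hxA, hPne⟩

namespace EssData

variable {x : Ω}

theorem relIndex_eq [Fact p.Prime] [Finite S] (h : UA p S A) (hD : EssData S A P x) :
    A.relIndex P = p := by
  have hp : p.Prime := Fact.out
  have : Finite P := finite_of_le hD.hPS
  have h1 : A.relIndex P ≤ p := by
    have := Subgroup.relIndex_le_of_le_right (H := A) hD.hPS (by rw [h.hAi]; exact hp.ne_zero)
    rwa [h.hAi] at this
  have h2 : A.relIndex P ≠ 1 := by
    intro h1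
    exact hD.hxA (Subgroup.relIndex_eq_one.mp h1 hD.hxP)
  obtain ⟨n, hn⟩ := (h.hS.to_le hD.hPS).index (A.subgroupOf P)
  have hn' : A.relIndex P = p ^ n := hn
  rw [hn'] at h1 h2 ⊢
  have hn0 : n ≠ 0 := by rintro rfl; exact h2 (pow_zero p)
  have hn1 : n ≤ 1 := by
    have : p ^ n ≤ p ^ 1 := by rwa [pow_one]
    exact (Nat.pow_le_pow_iff_right hp.one_lt).mp this
  have : n = 1 := by omega
  rw [this, pow_one]

/-- decomposition of `P` along `P ∩ A` -/
theorem exists_decomp [Fact p.Prime] [Finite S] (h : UA p S A) (hD : EssData S A P x) {y : Ω}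
    (hy : y ∈ P) : ∃ a ∈ P ⊓ A, ∃ k : ℤ, y = a * x ^ k := by
  obtain ⟨a, ha, k, rfl⟩ := h.exists_decomp (hD.hPS hD.hxP) hD.hxA (hD.hPS hy)
  refine ⟨a, ⟨?_, ha⟩, k, rfl⟩
  have : a = a * x ^ k * (x ^ k)⁻¹ := by group
  rw [this]
  exact P.mul_mem hy (P.inv_mem (P.zpow_mem hD.hxP k))

theorem eq_sup [Fact p.Prime] [Finite S] (h : UA p S A) (hD : EssData S A P x) :
    P = (P ⊓ A) ⊔ Subgroup.zpowers x := by
  apply le_antisymm
  · intro y hy
    obtain ⟨a, ha, k, rfl⟩ := hD.exists_decomp h hy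
    exact Subgroup.mul_mem _ (Subgroup.mem_sup_left ha)
      (Subgroup.mem_sup_right (Subgroup.zpow_mem _ (Subgroup.mem_zpowers x) k))
  · exact sup_le inf_le_left (by rw [Subgroup.zpowers_le]; exact hD.hxP)

/-- the abstract hypotheses hold -/
theorem exists_ahyp [Fact p.Prime] [Finite S] (h : UA p S A) (F : FusionSystem S)
    (hF : F.IsSaturated p) (hE : F.IsEssential p P) (hD : EssData S A P x) :
    ∃ g, AHyp p (F.autGroup P) (autInducedBy S P) (autInducedBy A P) (A.subgroupOf P) g := by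
  have hp : p.Prime := Fact.out
  have hPS := hD.hPS
  have : Finite P := finite_of_le hPS
  obtain ⟨R₀, hcR, hFAR, hRecR⟩ := hF P hPS
  obtain ⟨-, R, hR⟩ :=
    (isFullyAutomized_isReceptive_of_isFullyNormalized p h.hS F hE.2.1 hFAR hRecR hcR).1
  obtain ⟨hIn, E, hSE⟩ := hE.2.2
  have hX := closure_ne_top_of_stronglyPEmbedded_quot ((Inn P).subgroupOf (F.autGroup P)) R E hSE
    {α | ∃ t ∈ (R : Subgroup (F.autGroup P)), t ∉ (Inn P).subgroupOf (F.autGroup P) ∧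
      α * t * α⁻¹ ∈ (R : Subgroup (F.autGroup P))} (fun α hα => hα)
  obtain ⟨g, hg⟩ : ∃ g : F.autGroup P, g ∉ Subgroup.closure
      {α | ∃ t ∈ (R : Subgroup (F.autGroup P)), t ∉ (Inn P).subgroupOf (F.autGroup P) ∧
        α * t * α⁻¹ ∈ (R : Subgroup (F.autGroup P))} := by
    by_contra hcon
    push Not at hcon
    exact hX (eq_top_iff.mpr fun x _ => hcon x)
  have hgX : ∀ t ∈ (R : Subgroup (F.autGroup P)), g * t * g⁻¹ ∈ (R : Subgroup (F.autGroup P)) →
      t ∈ (Inn P).subgroupOf (F.autGroup P) := by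
    intro t ht htg
    by_contra htI
    exact hg (Subgroup.subset_closure ⟨t, ht, htI, htg⟩)
  have hTG : autInducedBy S P ≤ F.autGroup P := autInducedBy_le_autGroup F hPS
  have hInnS : Inn P ≤ autInducedBy S P := by
    rintro _ ⟨x, rfl⟩
    exact (mem_autInducedBy_iff S P _).mpr ⟨x, hPS x.2, fun z => rfl⟩
  have hPp : IsPGroup p P := h.hS.to_le hPS
  have hTp : IsPGroup p (autInducedBy S P) := by
    have h1 : IsPGroup p (R : Subgroup (F.autGroup P)) := R.isPGroup'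
    rw [hR] at h1
    exact h1.of_equiv (Subgroup.subgroupOfEquivOfLe hTG)
  have hUT : autInducedBy A P ≤ autInducedBy S P := by
    intro u hu
    obtain ⟨b, hb, hub⟩ := (mem_autInducedBy_iff A P u).mp hu
    exact (mem_autInducedBy_iff S P u).mpr ⟨b, h.hAS hb, hub⟩
  refine ⟨(g : MulAut P), hPp, hTG, hInnS, hUT, ?_, hTp, ?_, g.2, ?_, ?_, ?_, ?_, ?_, ?_⟩
  · -- T ≤ U ⊔ Inn P
    intro t ht
    obtain ⟨s, hs, hst⟩ := (mem_autInducedBy_iff S P t).mp ht
    obtain ⟨a, ha, k, rfl⟩ := h.exists_decomp (hPS hD.hxP) hD.hxA hs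
    have hxk : x ^ k ∈ P := P.zpow_mem hD.hxP k
    have e : t = (t * (MulAut.conj (⟨x ^ k, hxk⟩ : P))⁻¹) * MulAut.conj (⟨x ^ k, hxk⟩ : P) := by
      group
    rw [e]
    apply Subgroup.mul_mem
    · apply Subgroup.mem_sup_left
      rw [mem_autInducedBy_iff]
      refine ⟨a, ha, fun z => ?_⟩
      rw [MulAut.mul_apply, hst]
      have : (((MulAut.conj (⟨x ^ k, hxk⟩ : P))⁻¹ z : P) : Ω) = (x ^ k)⁻¹ * z * x ^ k := by
        rw [← map_inv, MulAut.conj_apply]
        simp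
      rw [this]
      group
    · exact Subgroup.mem_sup_right ⟨_, rfl⟩
  · -- maximality
    intro Q hQG hQp hTQ
    have h1 : (R : Subgroup (F.autGroup P)) ≤ Q.subgroupOf (F.autGroup P) := by
      rw [hR]
      intro x hx
      exact Subgroup.mem_subgroupOf.mpr (hTQ (Subgroup.mem_subgroupOf.mp hx))
    have h2 : IsPGroup p (Q.subgroupOf (F.autGroup P)) := hQp.comap_subtype
    have h3 := R.is_maximal' h2 h1
    intro q hq
    have : (⟨q, hQG hq⟩ : F.autGroup P) ∈ Q.subgroupOf (F.autGroup P) :=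
      Subgroup.mem_subgroupOf.mpr hq
    rw [h3, hR] at this
    exact Subgroup.mem_subgroupOf.mp this
  · intro t ht htg
    have h1 : (⟨t, hTG ht⟩ : F.autGroup P) ∈ (R : Subgroup (F.autGroup P)) := by
      rw [hR]; exact Subgroup.mem_subgroupOf.mpr ht
    have h2 : g * ⟨t, hTG ht⟩ * g⁻¹ ∈ (R : Subgroup (F.autGroup P)) := by
      rw [hR]; exact Subgroup.mem_subgroupOf.mpr htg
    exact Subgroup.mem_subgroupOf.mp (hgX _ h1 h2)
  · -- T ≠ Inn P
    obtain ⟨n, hnN, hnP⟩ := lt_normalizerIn_of_ne h.hS hPS hD.hPne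
    have hnS : n ∈ S := (Subgroup.mem_inf.mp hnN).1
    have hnNP : n ∈ Subgroup.normalizer (P : Set Ω) := (Subgroup.mem_inf.mp hnN).2
    refine ⟨uAut P n hnNP, uAut_mem_autInducedBy hnS _, ?_⟩
    rintro ⟨y, hy⟩
    apply hnP
    have hc : (y : Ω)⁻¹ * n ∈ centralizerIn S P := by
      refine Subgroup.mem_inf.mpr ⟨S.mul_mem (S.inv_mem (hPS y.2)) hnS,
        Subgroup.mem_centralizer_iff.mpr ?_⟩
      intro z hz
      have h1 := congrArg (fun f : MulAut P => ((f ⟨z, hz⟩ : P) : Ω)) hy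
      simp only [uAut_apply] at h1
      have h2 : (y : Ω) * z * (y : Ω)⁻¹ = n * z * n⁻¹ := h1
      calc z * ((y : Ω)⁻¹ * n) = (y : Ω)⁻¹ * ((y : Ω) * z * (y : Ω)⁻¹) * n := by group
        _ = (y : Ω)⁻¹ * (n * z * n⁻¹) * n := by rw [h2]
        _ = (y : Ω)⁻¹ * n * z := by group
    have h3 := P.mul_mem y.2 (hD.hcen hc)
    rwa [mul_inv_cancel_left] at h3
  · intro a ha b hb
    exact Subtype.ext (h.hAc a (Subgroup.mem_subgroupOf.mp ha) b (Subgroup.mem_subgroupOf.mp hb))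
  · exact hD.relIndex_eq h
  · intro u hu a ha
    obtain ⟨b, hb, hub⟩ := (mem_autInducedBy_iff A P u).mp hu
    apply Subtype.ext
    rw [hub, h.hAc b hb a (Subgroup.mem_subgroupOf.mp ha)]
    group
  · intro u hu y
    obtain ⟨b, hb, hub⟩ := (mem_autInducedBy_iff A P u).mp hu
    rw [Subgroup.mem_subgroupOf]
    show ((y⁻¹ * u y : P) : Ω) ∈ A
    rw [Subgroup.coe_mul, hub, Subgroup.coe_inv]
    have h1 := h.conj_mem' (hPS y.2) hb
    have e : (y : Ω)⁻¹ * ((b : Ω) * y * b⁻¹) = ((y : Ω)⁻¹ * b * y) * b⁻¹ := by group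
    rw [e]
    exact A.mul_mem h1 (A.inv_mem hb)

end EssData

end Cfsg.Agent.Lib.Helper7.Olv
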