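import Mathlib
import Cfsg.Prelude.Def_FusionSystem
import Cfsg.Agent.Lib.Helper7.OlvC

set_option autoImplicit false

namespace Cfsg.Agent.Lib.Helper7.Olv

open Cfsg Cfsg.FusionSystem Cfsg.Agent.Lib.Helper7 Cfsg.Agent.Lib.Helper7.Trv
  Cfsg.Agent.Lib.Helper7.Exsp

variable {Ω : Type*} [Group Ω] {p : ℕ} {S A P : Subgroup Ω} {x : Ω}

namespace EssData

/-- an element of `S` normalizing `P` and inducing an inner automorphism lies in `P` -/
theorem mem_of_inner (hD : EssData S A P x) {n : Ω} (hnS : n ∈ S)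
    (hnN : n ∈ Subgroup.normalizer (P : Set Ω)) (hinn : uAut P n hnN ∈ Inn P) : n ∈ P := by
  obtain ⟨y, hy⟩ := hinn
  have hc : (y : Ω)⁻¹ * n ∈ centralizerIn S P := by
    refine Subgroup.mem_inf.mpr ⟨S.mul_mem (S.inv_mem (hD.hPS y.2)) hnS,
      Subgroup.mem_centralizer_iff.mpr ?_⟩
    intro z hz
    have h1 := congrArg (fun f : MulAut P => ((f ⟨z, hz⟩ : P) : Ω)) hy
    simp only [uAut_apply] at h1
    have h2 : (y : Ω) * z * (y : Ω)⁻¹ = n * z * n⁻¹ := h1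
    calc z * ((y : Ω)⁻¹ * n) = (y : Ω)⁻¹ * ((y : Ω) * z * (y : Ω)⁻¹) * n := by group
      _ = (y : Ω)⁻¹ * (n * z * n⁻¹) * n := by rw [h2]
      _ = (y : Ω)⁻¹ * n * z := by group
  have h3 := P.mul_mem y.2 (hD.hcen hc)
  rwa [mul_inv_cancel_left] at h3

/-- `P` has index `p` in its normalizer -/
theorem index_normalizer [Fact p.Prime] [Finite S] (h : UA p S A) (F : FusionSystem S)
    (hF : F.IsSaturated p) (hE : F.IsEssential p P) (hD : EssData S A P x) :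
    (P.subgroupOf (S ⊓ Subgroup.normalizer (P : Set Ω))).index = p := by
  have hp : p.Prime := Fact.out
  have hPS := hD.hPS
  have : Finite P := finite_of_le hPS
  obtain ⟨g, hA⟩ := hD.exists_ahyp h F hF hE
  obtain ⟨N, hNdef⟩ : ∃ N, N = S ⊓ Subgroup.normalizer (P : Set Ω) := ⟨_, rfl⟩
  rw [← hNdef]
  have hNS : N ≤ S := hNdef ▸ inf_le_left
  have hNn : N ≤ Subgroup.normalizer (P : Set Ω) := hNdef ▸ inf_le_right
  have : Finite N := finite_of_le hNS
  obtain ⟨ψ, hψdef⟩ : ∃ ψ : N →* MulAut P,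
      ψ = P.normalizerMonoidHom.comp (Subgroup.inclusion hNn) := ⟨_, rfl⟩
  have hψu : ∀ n : N, ψ n = uAut P n (hNn n.2) := fun n => by rw [hψdef]; rfl
  have hrange : ψ.range ≤ autInducedBy S P := by
    rintro _ ⟨n, rfl⟩
    rw [hψu]
    exact uAut_mem_autInducedBy (hNS n.2) _
  have hcomap : (Inn P).comap ψ = P.subgroupOf N := by
    ext n
    rw [Subgroup.mem_comap, Subgroup.mem_subgroupOf, hψu]
    constructor
    · intro hn
      exact hD.mem_of_inner (hNS n.2) (hNn n.2) hn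
    · intro hn
      refine ⟨⟨n, hn⟩, ?_⟩
      ext z
      rw [uAut_apply, MulAut.conj_apply]
      simp
  have hfin : Finite (MulAut P) := inferInstance
  have hle : (P.subgroupOf N).index ≤ p := by
    rw [← hcomap, Subgroup.index_comap]
    exact (Subgroup.relIndex_le_of_le_right hrange Subgroup.index_ne_zero_of_finite).trans
      hA.relIndex_inn_le
  have hne1 : (P.subgroupOf N).index ≠ 1 := by
    intro h1
    obtain ⟨n, hnN, hnP⟩ := lt_normalizerIn_of_ne h.hS hPS hD.hPne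
    have h2 : P.subgroupOf N = ⊤ := Subgroup.index_eq_one.mp h1
    have h3 : N ≤ P := Subgroup.subgroupOf_eq_top.mp h2
    apply hnP
    apply h3
    rw [hNdef]
    exact hnN
  obtain ⟨k, hk⟩ := (h.hS.to_le hNS).index (P.subgroupOf N)
  rw [hk] at hle hne1 ⊢
  have hk0 : k ≠ 0 := by rintro rfl; exact hne1 (pow_zero p)
  have hk1 : k ≤ 1 := by
    have : p ^ k ≤ p ^ 1 := by rwa [pow_one]
    exact (Nat.pow_le_pow_iff_right hp.one_lt).mp this
  have : k = 1 := by omega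
  rw [this, pow_one]

/-- the structure of `P`: it is `Z(S)⟨x⟩` or `Z₂(S)⟨x⟩` -/
theorem eq_sup_center [Fact p.Prime] [Finite S] (h : UA p S A) (F : FusionSystem S)
    (hF : F.IsSaturated p) (hE : F.IsEssential p P) (hD : EssData S A P x) :
    (P = Zc S ⊔ Subgroup.zpowers x) ∨ (Z2 S ≤ A ∧ P = Z2 S ⊔ Subgroup.zpowers x) := by
  have hp : p.Prime := Fact.out
  have hPS := hD.hPS
  have hxS : x ∈ S := hPS hD.hxP
  have : Finite P := finite_of_le hPS
  by_cases hab : ∀ a ∈ P, ∀ b ∈ P, a * b = b * a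
  · left
    have hinf : P ⊓ A = Zc S := by
      apply le_antisymm
      · rintro a ⟨haP, haA⟩
        exact h.mem_Zc_of_comm hxS hD.hxA haA (hab x hD.hxP a haP)
      · exact le_inf hD.hZP h.Zc_le
    rw [← hinf]
    exact hD.eq_sup h
  · right
    obtain ⟨g, hA⟩ := hD.exists_ahyp h F hF hE
    obtain ⟨D, hDdef⟩ : ∃ D : Subgroup P,
        D = A.subgroupOf P ⊓ (A.subgroupOf P).map g.toMonoidHom := ⟨_, rfl⟩
    have hDcen : ∀ d ∈ D, ∀ y : P, y * d = d * y := fun d hd y => hA.inf_central (hDdef ▸ hd) y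
    -- (1) D ≤ Z(S)
    have hDZ : ∀ d ∈ D, (d : Ω) ∈ Zc S := by
      intro d hd
      have hdA : (d : Ω) ∈ A := by
        rw [hDdef] at hd
        exact Subgroup.mem_subgroupOf.mp hd.1
      apply h.mem_Zc_of_comm hxS hD.hxA hdA
      exact congrArg Subtype.val (hDcen d hd ⟨x, hD.hxP⟩)
    have hxP₀ : (⟨x, hD.hxP⟩ : P) ∉ A.subgroupOf P := fun hx =>
      hD.hxA (Subgroup.mem_subgroupOf.mp hx)
    -- (2) Z(S) ≤ D
    have hZD : ∀ z (hz : z ∈ Zc S), (⟨z, hD.hZP hz⟩ : P) ∈ D := by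
      intro z hz
      by_contra hzD
      apply hab
      have hzP₀ : (⟨z, hD.hZP hz⟩ : P) ∈ A.subgroupOf P := Subgroup.mem_subgroupOf.mpr (h.Zc_le hz)
      have hDle : D ≤ A.subgroupOf P := hDdef ▸ inf_le_left
      have : Finite (A.subgroupOf P) := inferInstance
      have hsup := sup_zpowers_of_relIndex_prime hDle (hDdef ▸ hA.relIndex_inf) hzP₀ hzD
      have hcen : ∀ a ∈ A.subgroupOf P, ∀ y : P, y * a = a * y := by
        intro a ha y
        have hle : D ⊔ Subgroup.zpowers (⟨z, hD.hZP hz⟩ : P) ≤ Subgroup.centralizer {y} := by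
          apply sup_le
          · intro d hd
            rw [Subgroup.mem_centralizer_singleton_iff]
            exact (hDcen d hd y).symm
          · rw [Subgroup.zpowers_le, Subgroup.mem_centralizer_singleton_iff]
            exact Subtype.ext ((mem_Zc.mp hz).2 y (hPS y.2)).symm
        have := hle (hsup.ge ha)
        rw [Subgroup.mem_centralizer_singleton_iff] at this
        exact this.symm
      intro a ha b hb
      obtain ⟨a₁, ha₁, k, hak⟩ := hA.exists_decomp hxP₀ ⟨a, ha⟩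
      obtain ⟨a₂, ha₂, l, hbl⟩ := hA.exists_decomp hxP₀ ⟨b, hb⟩
      have e : (⟨a, ha⟩ : P) * ⟨b, hb⟩ = ⟨b, hb⟩ * ⟨a, ha⟩ := by
        rw [hak, hbl]
        have c1 := hcen a₁ ha₁
        have c2 := hcen a₂ ha₂
        have c3 : (⟨x, hD.hxP⟩ : P) ^ k * ⟨x, hD.hxP⟩ ^ l = ⟨x, hD.hxP⟩ ^ l * ⟨x, hD.hxP⟩ ^ k := by
          rw [← zpow_add, ← zpow_add, add_comm]
        calc a₁ * ⟨x, hD.hxP⟩ ^ k * (a₂ * ⟨x, hD.hxP⟩ ^ l)
            = a₁ * (⟨x, hD.hxP⟩ ^ k * a₂) * ⟨x, hD.hxP⟩ ^ l := by group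
          _ = a₁ * (a₂ * ⟨x, hD.hxP⟩ ^ k) * ⟨x, hD.hxP⟩ ^ l := by rw [c2]
          _ = (a₁ * a₂) * (⟨x, hD.hxP⟩ ^ k * ⟨x, hD.hxP⟩ ^ l) := by group
          _ = (a₂ * a₁) * (⟨x, hD.hxP⟩ ^ l * ⟨x, hD.hxP⟩ ^ k) := by rw [c3, c2 a₁]
          _ = a₂ * (a₁ * ⟨x, hD.hxP⟩ ^ l) * ⟨x, hD.hxP⟩ ^ k := by group
          _ = a₂ * (⟨x, hD.hxP⟩ ^ l * a₁) * ⟨x, hD.hxP⟩ ^ k := by rw [c1]
          _ = a₂ * ⟨x, hD.hxP⟩ ^ l * (a₁ * ⟨x, hD.hxP⟩ ^ k) := by group
      exact congrArg Subtype.val e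
    -- (3) P ∩ A ≤ Z₂(S)
    have hPAZ2 : P ⊓ A ≤ Z2 S := by
      rintro a ⟨haP, haA⟩
      refine mem_Z2.mpr ⟨hPS haP, fun s hs => ?_⟩
      obtain ⟨a', ha', k, rfl⟩ := h.exists_decomp hxS hD.hxA hs
      have hxk : x ^ k ∈ P := P.zpow_mem hD.hxP k
      have hc := hA.comm_mem_inf (a := ⟨a, haP⟩) (Subgroup.mem_subgroupOf.mpr haA) ⟨x ^ k, hxk⟩
      have hcZ := hDZ _ (hDdef ▸ hc)
      have hcZ' : a * x ^ k * a⁻¹ * (x ^ k)⁻¹ ∈ Zc S := hcZ
      have e : a * (a' * x ^ k) * a⁻¹ * (a' * x ^ k)⁻¹ =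
          a' * (a * x ^ k * a⁻¹ * (x ^ k)⁻¹) * a'⁻¹ := by
        have := h.hAc a haA a' ha'
        calc a * (a' * x ^ k) * a⁻¹ * (a' * x ^ k)⁻¹
            = (a * a') * x ^ k * a⁻¹ * (x ^ k)⁻¹ * a'⁻¹ := by group
          _ = (a' * a) * x ^ k * a⁻¹ * (x ^ k)⁻¹ * a'⁻¹ := by rw [this]
          _ = a' * (a * x ^ k * a⁻¹ * (x ^ k)⁻¹) * a'⁻¹ := by group
      rw [e, (mem_Zc.mp hcZ').2 a' (h.hAS ha'), mul_inv_cancel_right]
      exact hcZ'
    -- (4) Z₂(S) ≤ P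
    have hZ2P : Z2 S ≤ P := by
      intro z hz
      obtain ⟨hzS, hzc⟩ := mem_Z2.mp hz
      have hconj : ∀ w ∈ Z2 S, ∀ y ∈ P, w * y * w⁻¹ ∈ P := by
        intro w hw y hy
        have h1 := (mem_Z2.mp hw).2 y (hPS hy)
        have e : w * y * w⁻¹ = (w * y * w⁻¹ * y⁻¹) * y := by group
        rw [e]
        exact P.mul_mem (hD.hZP h1) hy
      have hzN : z ∈ Subgroup.normalizer (P : Set Ω) := by
        rw [Subgroup.mem_normalizer_iff]
        intro y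
        constructor
        · exact hconj z hz y
        · intro hy
          have := hconj z⁻¹ (Subgroup.inv_mem _ hz) _ hy
          have e : z⁻¹ * (z * y * z⁻¹) * z⁻¹⁻¹ = y := by group
          rwa [e] at this
      apply hD.mem_of_inner hzS hzN
      apply hA.chainStab_inf_le_inn
      refine ⟨autInducedBy_le_autGroup F hPS (uAut_mem_autInducedBy hzS hzN), ?_⟩
      rw [← hDdef]
      have hfixD : ∀ y ∈ D, uAut P z hzN y = y := by
        intro y hy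
        apply Subtype.ext
        rw [uAut_apply, (mem_Zc.mp (hDZ y hy)).2 z hzS]
        group
      refine ⟨fun y => ?_, fun y hy => ?_, hfixD⟩
      · have h1 := hzc y (hPS y.2)
        have h2 : (y : Ω)⁻¹ * (z * y * z⁻¹) ∈ Zc S := by
          have e : (y : Ω)⁻¹ * (z * y * z⁻¹) = (y : Ω)⁻¹ * (z * y * z⁻¹ * (y : Ω)⁻¹) * y := by group
          rw [e, (mem_Zc.mp h1).2 _ (S.inv_mem (hPS y.2)), inv_mul_cancel_right]
          exact h1
        have e2 : y⁻¹ * uAut P z hzN y = ⟨(y : Ω)⁻¹ * (z * y * z⁻¹), hD.hZP h2⟩ :=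
          Subtype.ext (by rw [Subgroup.coe_mul, Subgroup.coe_inv, uAut_apply])
        rw [e2]
        exact hZD _ h2
      · rw [hfixD y hy, inv_mul_cancel]
        exact D.one_mem
    -- (5) Z₂(S) ≤ A
    have hZ2A : Z2 S ≤ A := by
      intro z hz
      by_contra hzA
      apply hD.hPne
      apply le_antisymm hPS
      refine le_trans ?_ hZ2P
      have hzS := Z2_le S hz
      refine (h.sup_zpowers hzS hzA).ge.trans (sup_le ?_ ?_)
      · intro a ha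
        refine mem_Z2.mpr ⟨h.hAS ha, fun s hs => ?_⟩
        obtain ⟨a', ha', k, rfl⟩ := h.exists_decomp hzS hzA hs
        have hzk : z ^ k ∈ Z2 S := Subgroup.zpow_mem _ hz k
        have h1 := (mem_Z2.mp hzk).2 a (h.hAS ha)
        have h2 : a * z ^ k * a⁻¹ * (z ^ k)⁻¹ ∈ Zc S := by
          have e : a * z ^ k * a⁻¹ * (z ^ k)⁻¹ = (z ^ k * a * (z ^ k)⁻¹ * a⁻¹)⁻¹ := by group
          rw [e]
          exact Subgroup.inv_mem _ h1
        have e : a * (a' * z ^ k) * a⁻¹ * (a' * z ^ k)⁻¹ =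
            a' * (a * z ^ k * a⁻¹ * (z ^ k)⁻¹) * a'⁻¹ := by
          have := h.hAc a ha a' ha'
          calc a * (a' * z ^ k) * a⁻¹ * (a' * z ^ k)⁻¹
              = (a * a') * z ^ k * a⁻¹ * (z ^ k)⁻¹ * a'⁻¹ := by group
            _ = (a' * a) * z ^ k * a⁻¹ * (z ^ k)⁻¹ * a'⁻¹ := by rw [this]
            _ = a' * (a * z ^ k * a⁻¹ * (z ^ k)⁻¹) * a'⁻¹ := by group
        rw [e, (mem_Zc.mp h2).2 a' (h.hAS ha'), mul_inv_cancel_right]
        exact h2
      · rw [Subgroup.zpowers_le]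
        exact hz
    refine ⟨hZ2A, ?_⟩
    have hinf : P ⊓ A = Z2 S := le_antisymm hPAZ2 (le_inf hZ2P hZ2A)
    rw [← hinf]
    exact hD.eq_sup h

end EssData

end Cfsg.Agent.Lib.Helper7.Olv
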