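import Mathlib
import Cfsg.Prelude.Def_FusionSystem
import Cfsg.Agent.Lib.Helper7.OlvD

set_option autoImplicit false

namespace Cfsg.Agent.Lib.Helper7.Olv

open Cfsg Cfsg.FusionSystem Cfsg.Agent.Lib.Helper7 Cfsg.Agent.Lib.Helper7.Trv
  Cfsg.Agent.Lib.Helper7.Exsp
open scoped commutatorElement

variable {Ω : Type*} [Group Ω] {p : ℕ} {S A : Subgroup Ω} {x : Ω}

namespace UA

theorem commA (h : UA p S A) (a b : A) : a * b = b * a := Subtype.ext (h.hAc a a.2 b b.2)

/-- the commutator homomorphism `a ↦ a⁻¹ · xax⁻¹` of `A` -/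
noncomputable def theta [Fact p.Prime] [Finite S] (h : UA p S A) (hxS : x ∈ S) : A →* A :=
  commHom h.commA (uAut A x (h.le_normalizer hxS))

theorem theta_apply [Fact p.Prime] [Finite S] (h : UA p S A) (hxS : x ∈ S) (a : A) :
    ((h.theta hxS a : A) : Ω) = (a : Ω)⁻¹ * (x * a * x⁻¹) := by
  unfold theta
  rw [commHom_apply, Subgroup.coe_mul, Subgroup.coe_inv, uAut_apply]

theorem theta_ker [Fact p.Prime] [Finite S] (h : UA p S A) (hxS : x ∈ S) (hxA : x ∉ A) :
    (h.theta hxS).ker = (Zc S).subgroupOf A := by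
  ext a
  rw [MonoidHom.mem_ker, Subgroup.mem_subgroupOf]
  constructor
  · intro ha
    have h1 := congrArg Subtype.val ha
    rw [theta_apply, Subgroup.coe_one, inv_mul_eq_one] at h1
    apply h.mem_Zc_of_comm hxS hxA a.2
    calc x * a = x * a * x⁻¹ * x := by group
      _ = a * x := by rw [← h1]
  · intro ha
    apply Subtype.ext
    rw [theta_apply, (mem_Zc.mp ha).2 x hxS]
    simp

/-- the image of `theta`, in the ambient group -/
noncomputable def Rc [Fact p.Prime] [Finite S] (h : UA p S A) (hxS : x ∈ S) : Subgroup Ω :=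
  (h.theta hxS).range.map A.subtype

theorem mem_Rc [Fact p.Prime] [Finite S] (h : UA p S A) (hxS : x ∈ S) {r : Ω} :
    r ∈ h.Rc hxS ↔ ∃ a ∈ A, r = a⁻¹ * (x * a * x⁻¹) := by
  unfold Rc
  constructor
  · rintro ⟨_, ⟨a, rfl⟩, rfl⟩
    exact ⟨a, a.2, h.theta_apply hxS a⟩
  · rintro ⟨a, ha, rfl⟩
    exact ⟨h.theta hxS ⟨a, ha⟩, ⟨_, rfl⟩, h.theta_apply hxS ⟨a, ha⟩⟩

theorem Rc_le [Fact p.Prime] [Finite S] (h : UA p S A) (hxS : x ∈ S) : h.Rc hxS ≤ A := by
  rintro _ ⟨a, -, rfl⟩
  exact a.2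

/-- `theta a` is central iff `a` lies in the second centre -/
theorem theta_mem_Zc_iff [Fact p.Prime] [Finite S] (h : UA p S A) (hxS : x ∈ S) (hxA : x ∉ A)
    (a : A) : ((h.theta hxS a : A) : Ω) ∈ Zc S ↔ (a : Ω) ∈ Z2 S := by
  rw [theta_apply]
  constructor
  · intro hc
    refine mem_Z2.mpr ⟨h.hAS a.2, ?_⟩
    have hle : S ≤ commLeft (Zc S) le_rfl (a : Ω) := by
      refine (h.sup_zpowers hxS hxA).ge.trans (sup_le ?_ ?_)
      · intro b hb
        refine ⟨h.hAS hb, ?_⟩
        rw [h.hAc b hb a a.2]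
        simp
      · rw [Subgroup.zpowers_le]
        refine ⟨hxS, ?_⟩
        have e : x * a * x⁻¹ * (a : Ω)⁻¹ = a * ((a : Ω)⁻¹ * (x * a * x⁻¹)) * (a : Ω)⁻¹ := by group
        rw [e, (mem_Zc.mp hc).2 a (h.hAS a.2), mul_inv_cancel_right]
        exact hc
    intro s hs
    exact ((commLeft_symm (L := Zc S) (hL := le_rfl) hs (h.hAS a.2)).mp (hle hs)).2
  · intro ha
    have h1 := (mem_Z2.mp (Subgroup.inv_mem _ ha)).2 x hxS
    rw [inv_inv] at h1
    have e : (a : Ω)⁻¹ * (x * a * x⁻¹) = (a : Ω)⁻¹ * x * a * x⁻¹ := by group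
    rw [e]
    exact h1

/-- `x` normalizes the image of `theta` -/
theorem conj_mem_Rc [Fact p.Prime] [Finite S] (h : UA p S A) (hxS : x ∈ S) {r : Ω}
    (hr : r ∈ h.Rc hxS) : x * r * x⁻¹ ∈ h.Rc hxS ∧ x⁻¹ * r * x ∈ h.Rc hxS := by
  obtain ⟨a, ha, rfl⟩ := (h.mem_Rc hxS).mp hr
  constructor
  · refine (h.mem_Rc hxS).mpr ⟨x * a * x⁻¹, h.conj_mem hxS ha, ?_⟩
    group
  · refine (h.mem_Rc hxS).mpr ⟨x⁻¹ * a * x, h.conj_mem' hxS ha, ?_⟩
    group

/-- the commutator subgroup of `S` is the image of `theta` -/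
theorem commutator_map_eq [Fact p.Prime] [Finite S] (h : UA p S A) (hxS : x ∈ S) (hxA : x ∉ A) :
    (commutator ↥S).map S.subtype = h.Rc hxS := by
  apply le_antisymm
  · -- via the commutative quotient
    have hRS : h.Rc hxS ≤ S := (h.Rc_le hxS).trans h.hAS
    have hnorm : S ≤ Subgroup.normalizer (h.Rc hxS : Set Ω) := by
      refine (h.sup_zpowers hxS hxA).ge.trans (sup_le ?_ ?_)
      · intro b hb
        rw [Subgroup.mem_normalizer_iff]
        intro r
        constructor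
        · intro hr
          have : b * r * b⁻¹ = r := by
            rw [h.hAc b hb r (h.Rc_le hxS hr)]; group
          rw [this]; exact hr
        · intro hr
          have hrA : r ∈ A := by
            have := h.Rc_le hxS hr
            have h2 := A.mul_mem (A.mul_mem (A.inv_mem hb) this) hb
            have e : b⁻¹ * (b * r * b⁻¹) * b = r := by group
            rwa [e] at h2
          have : b * r * b⁻¹ = r := by
            rw [h.hAc b hb r hrA]; group
          rwa [this] at hr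
      · rw [Subgroup.zpowers_le, Subgroup.mem_normalizer_iff]
        intro r
        constructor
        · intro hr; exact (h.conj_mem_Rc hxS hr).1
        · intro hr
          have := (h.conj_mem_Rc hxS hr).2
          have e : x⁻¹ * (x * r * x⁻¹) * x = r := by group
          rwa [e] at this
    have hN : ((h.Rc hxS).subgroupOf S).Normal := by
      refine ⟨fun n hn s => ?_⟩
      rw [Subgroup.mem_subgroupOf] at hn ⊢
      exact (Subgroup.mem_normalizer_iff.mp (hnorm s.2) n).mp hn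
    have hcommQ : IsMulCommutative (↥S ⧸ (h.Rc hxS).subgroupOf S) := by
      refine ⟨⟨fun u v => ?_⟩⟩
      obtain ⟨s, rfl⟩ := QuotientGroup.mk'_surjective _ u
      obtain ⟨t, rfl⟩ := QuotientGroup.mk'_surjective _ v
      obtain ⟨a, ha, k, hs⟩ := h.exists_decomp hxS hxA s.2
      obtain ⟨b, hb, l, ht⟩ := h.exists_decomp hxS hxA t.2
      have hs' : s = ⟨a, h.hAS ha⟩ * ⟨x, hxS⟩ ^ k := Subtype.ext (by simpa using hs)
      have ht' : t = ⟨b, h.hAS hb⟩ * ⟨x, hxS⟩ ^ l := Subtype.ext (by simpa using ht)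
      rw [hs', ht']
      simp only [QuotientGroup.mk'_apply, QuotientGroup.mk_mul, QuotientGroup.mk_zpow]
      have c1 : Commute (QuotientGroup.mk (s := (h.Rc hxS).subgroupOf S) (⟨a, h.hAS ha⟩ : S))
          (QuotientGroup.mk (⟨b, h.hAS hb⟩ : S)) := by
        show _ * _ = _ * _
        rw [← QuotientGroup.mk_mul, ← QuotientGroup.mk_mul]
        congr 1
        exact Subtype.ext (h.hAc a ha b hb)
      have cx : ∀ c (hc : c ∈ A), Commute
          (QuotientGroup.mk (s := (h.Rc hxS).subgroupOf S) (⟨c, h.hAS hc⟩ : S))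
          (QuotientGroup.mk (⟨x, hxS⟩ : S)) := by
        intro c hc
        show _ * _ = _ * _
        rw [← QuotientGroup.mk_mul, ← QuotientGroup.mk_mul, QuotientGroup.eq]
        rw [Subgroup.mem_subgroupOf]
        simp only [Subgroup.coe_mul, Subgroup.coe_inv, mul_inv_rev]
        refine (h.mem_Rc hxS).mpr ⟨x⁻¹ * c * x, h.conj_mem' hxS hc, ?_⟩
        group
      have c2 := (cx b hb).zpow_right k
      have c3 := (cx a ha).zpow_right l
      have c4 : Commute ((QuotientGroup.mk (s := (h.Rc hxS).subgroupOf S) (⟨x, hxS⟩ : S)) ^ k)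
          ((QuotientGroup.mk (⟨x, hxS⟩ : S)) ^ l) := (Commute.refl _).zpow_zpow k l
      exact (c1.mul_right c3).mul_left (c2.symm.mul_right c4)
    have hle := Subgroup.Normal.quotient_commutative_iff_commutator_le.mp hcommQ
    rintro _ ⟨c, hc, rfl⟩
    exact Subgroup.mem_subgroupOf.mp (hle hc)
  · intro r hr
    obtain ⟨a, ha, rfl⟩ := (h.mem_Rc hxS).mp hr
    refine ⟨⁅(⟨a, h.hAS ha⟩ : S)⁻¹, ⟨x, hxS⟩⁆, ?_, ?_⟩
    · exact Subgroup.commutator_mem_commutator (Subgroup.mem_top _) (Subgroup.mem_top _)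
    · rw [commutatorElement_def]
      simp only [Subgroup.coe_subtype, Subgroup.coe_mul, Subgroup.coe_inv, inv_inv]
      group

end UA

end Cfsg.Agent.Lib.Helper7.Olv
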