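import Mathlib
import Cfsg.Prelude.Def_FusionSystem
import Cfsg.Agent.Lib.Helper7.OlvE

set_option autoImplicit false

namespace Cfsg.Agent.Lib.Helper7.Olv

open Cfsg Cfsg.FusionSystem Cfsg.Agent.Lib.Helper7 Cfsg.Agent.Lib.Helper7.Trv
  Cfsg.Agent.Lib.Helper7.Exsp
open scoped commutatorElement

variable {Ω : Type*} [Group Ω] {p : ℕ} {S A : Subgroup Ω} {x : Ω}

namespace UA

/-- the preimage under theta of the centre is the second centre -/
theorem comap_theta_Zc [Fact p.Prime] [Finite S] (h : UA p S A) (hxS : x ∈ S) (hxA : x ∉ A) :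
    ((Zc S).subgroupOf A).comap (h.theta hxS) = (Z2 S).subgroupOf A := by
  ext a
  rw [Subgroup.mem_comap, Subgroup.mem_subgroupOf, Subgroup.mem_subgroupOf]
  exact h.theta_mem_Zc_iff hxS hxA a

/-- the central part of the image of theta -/
theorem ker_inf_range [Fact p.Prime] [Finite S] (h : UA p S A) (hxS : x ∈ S) (hxA : x ∉ A) :
    (h.theta hxS).ker ⊓ (h.theta hxS).range = ((Z2 S).subgroupOf A).map (h.theta hxS) := by
  rw [h.theta_ker hxS hxA]
  ext r
  constructor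
  · rintro ⟨hr1, a, rfl⟩
    refine ⟨a, ?_, rfl⟩
    exact Subgroup.mem_subgroupOf.mpr
      ((h.theta_mem_Zc_iff hxS hxA a).mp (Subgroup.mem_subgroupOf.mp hr1))
  · rintro ⟨a, ha, rfl⟩
    refine ⟨?_, a, rfl⟩
    exact Subgroup.mem_subgroupOf.mpr
      ((h.theta_mem_Zc_iff hxS hxA a).mpr (Subgroup.mem_subgroupOf.mp ha))

theorem card_ker_inf_range [Fact p.Prime] [Finite S] (h : UA p S A) (hxS : x ∈ S) (hxA : x ∉ A)
    (hZ2A : Z2 S ≤ A) (hidx : (Zc S).relIndex (Z2 S) = p) :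
    Nat.card ↥((h.theta hxS).ker ⊓ (h.theta hxS).range) = p := by
  rw [h.ker_inf_range hxS hxA, ← Subgroup.relIndex_ker, h.theta_ker hxS hxA,
    Subgroup.relIndex_subgroupOf hZ2A, hidx]

theorem Zc_inf_Rc [Fact p.Prime] [Finite S] (h : UA p S A) (hxS : x ∈ S) (hxA : x ∉ A) :
    Zc S ⊓ h.Rc hxS = ((h.theta hxS).ker ⊓ (h.theta hxS).range).map A.subtype := by
  rw [h.theta_ker hxS hxA]
  ext r
  constructor
  · rintro ⟨hr1, r', hr', rfl⟩
    exact ⟨r', ⟨Subgroup.mem_subgroupOf.mpr hr1, hr'⟩, rfl⟩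
  · rintro ⟨r', ⟨h1, h2⟩, rfl⟩
    exact ⟨Subgroup.mem_subgroupOf.mp h1, ⟨r', h2, rfl⟩⟩

/-- (ii): the centre meets the commutator subgroup in a group of order `p` -/
theorem card_Zc_inf_commutator [Fact p.Prime] [Finite S] (h : UA p S A) (hxS : x ∈ S)
    (hxA : x ∉ A) (hZ2A : Z2 S ≤ A) (hidx : (Zc S).relIndex (Z2 S) = p) :
    Nat.card ↥(Zc S ⊓ (commutator ↥S).map S.subtype) = p := by
  rw [h.commutator_map_eq hxS hxA, h.Zc_inf_Rc hxS hxA, Subgroup.card_subtype,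
    h.card_ker_inf_range hxS hxA hZ2A hidx]

/-- (iii): the product of centre and commutator subgroup has index `p` in `A` -/
theorem index_Zc_sup_commutator [Fact p.Prime] [Finite S] (h : UA p S A) (hxS : x ∈ S)
    (hxA : x ∉ A) (hZ2A : Z2 S ≤ A) (hidx : (Zc S).relIndex (Z2 S) = p) :
    ((Zc S ⊔ (commutator ↥S).map S.subtype).subgroupOf A).index = p := by
  have hp : p.Prime := Fact.out
  have : Finite A := finite_of_le h.hAS
  rw [h.commutator_map_eq hxS hxA, Subgroup.subgroupOf_sup h.Zc_le (h.Rc_le hxS)]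
  have e1 : (h.Rc hxS).subgroupOf A = (h.theta hxS).range := by
    unfold Rc
    exact Subgroup.comap_map_eq_self_of_injective A.subtype_injective _
  rw [e1, ← h.theta_ker hxS hxA]
  obtain ⟨θ, hθ⟩ : ∃ θ : A →* A, θ = h.theta hxS := ⟨_, rfl⟩
  rw [← hθ]
  have hc := h.card_ker_inf_range hxS hxA hZ2A hidx
  rw [← hθ] at hc
  have h1 : θ.ker.relIndex (θ.ker ⊔ θ.range) * (θ.ker ⊔ θ.range).index = θ.ker.index :=
    Subgroup.relIndex_mul_index le_sup_left
  rw [Subgroup.relIndex_sup_left, Subgroup.index_ker, ← Subgroup.inf_relIndex_right] at h1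
  have h2 : Nat.card ↥((θ.ker ⊓ θ.range).subgroupOf θ.range) *
      ((θ.ker ⊓ θ.range).subgroupOf θ.range).index = Nat.card θ.range :=
    Subgroup.card_mul_index _
  have h3 : Nat.card ↥((θ.ker ⊓ θ.range).subgroupOf θ.range) = Nat.card ↥(θ.ker ⊓ θ.range) :=
    Nat.card_congr (Subgroup.subgroupOfEquivOfLe inf_le_right).toEquiv
  rw [h3, hc] at h2
  have h4 : (θ.ker ⊓ θ.range).relIndex θ.range = ((θ.ker ⊓ θ.range).subgroupOf θ.range).index :=
    rfl
  rw [h4, ← h2] at h1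
  have hne : ((θ.ker ⊓ θ.range).subgroupOf θ.range).index ≠ 0 := Subgroup.index_ne_zero_of_finite
  have h5 : ((θ.ker ⊓ θ.range).subgroupOf θ.range).index * (θ.ker ⊔ θ.range).index =
      ((θ.ker ⊓ θ.range).subgroupOf θ.range).index * p := by
    rw [h1, mul_comm]
  exact Nat.eq_of_mul_eq_mul_left (Nat.pos_of_ne_zero hne) h5

/-- the iterated kernels of theta -/
noncomputable def Kc [Fact p.Prime] [Finite S] (h : UA p S A) (hxS : x ∈ S) : ℕ → Subgroup A
  | 0 => ⊥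
  | n + 1 => (Kc h hxS n).comap (h.theta hxS)

theorem Kc_zero [Fact p.Prime] [Finite S] (h : UA p S A) (hxS : x ∈ S) : h.Kc hxS 0 = ⊥ := rfl

theorem Kc_succ [Fact p.Prime] [Finite S] (h : UA p S A) (hxS : x ∈ S) (n : ℕ) :
    h.Kc hxS (n + 1) = (h.Kc hxS n).comap (h.theta hxS) := rfl

theorem Kc_one [Fact p.Prime] [Finite S] (h : UA p S A) (hxS : x ∈ S) :
    h.Kc hxS 1 = (h.theta hxS).ker := by
  rw [Kc_succ, Kc_zero]
  rfl

theorem Kc_mono [Fact p.Prime] [Finite S] (h : UA p S A) (hxS : x ∈ S) (n : ℕ) :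
    h.Kc hxS n ≤ h.Kc hxS (n + 1) := by
  induction n with
  | zero => rw [Kc_zero]; exact bot_le
  | succ n ih =>
    rw [Kc_succ, Kc_succ h hxS (n + 1)]
    exact Subgroup.comap_mono ih

theorem relIndex_Kc_le [Fact p.Prime] [Finite S] (h : UA p S A) (hxS : x ∈ S) (hxA : x ∉ A)
    (hZ2A : Z2 S ≤ A) (hidx : (Zc S).relIndex (Z2 S) = p) (n : ℕ) :
    (h.Kc hxS (n + 1)).relIndex (h.Kc hxS (n + 2)) ≤ p := by
  have : Finite A := finite_of_le h.hAS
  induction n with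
  | zero =>
    have e2 : h.Kc hxS 2 = (Z2 S).subgroupOf A := by
      rw [Kc_succ, Kc_one, h.theta_ker hxS hxA, h.comap_theta_Zc hxS hxA]
    rw [e2, Kc_one, h.theta_ker hxS hxA, Subgroup.relIndex_subgroupOf hZ2A, hidx]
  | succ n ih =>
    rw [Kc_succ h hxS (n + 1), Subgroup.relIndex_comap]
    refine le_trans (Subgroup.relIndex_le_of_le_right ?_ Subgroup.index_ne_zero_of_finite) ih
    rw [Kc_succ h hxS (n + 2)]
    exact Subgroup.map_comap_le _ _

theorem relIndex_Kc_one_le [Fact p.Prime] [Finite S] (h : UA p S A) (hxS : x ∈ S) (hxA : x ∉ A)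
    (hZ2A : Z2 S ≤ A) (hidx : (Zc S).relIndex (Z2 S) = p) (n : ℕ) :
    (h.Kc hxS 1).relIndex (h.Kc hxS (n + 1)) ≤ p ^ n := by
  induction n with
  | zero => rw [Subgroup.relIndex_self, pow_zero]
  | succ n ih =>
    have hle : ∀ m, h.Kc hxS 1 ≤ h.Kc hxS (m + 1) := by
      intro m
      induction m with
      | zero => exact le_rfl
      | succ m ihm => exact ihm.trans (h.Kc_mono hxS (m + 1))
    rw [← Subgroup.relIndex_mul_relIndex _ _ _ (hle n) (h.Kc_mono hxS (n + 1)), pow_succ]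
    exact Nat.mul_le_mul ih (h.relIndex_Kc_le hxS hxA hZ2A hidx n)

theorem mem_Kc_succ_iff [Fact p.Prime] [Finite S] (h : UA p S A) (hxS : x ∈ S) (n : ℕ) (a : A) :
    a ∈ h.Kc hxS (n + 1) ↔ (h.theta hxS)^[n] a ∈ h.Kc hxS 1 := by
  induction n generalizing a with
  | zero => rfl
  | succ n ih =>
    rw [Kc_succ, Subgroup.mem_comap, ih, Function.iterate_succ_apply]

theorem iterate_theta_mem [Fact p.Prime] [Finite S] (h : UA p S A) (hxS : x ∈ S) (n : ℕ) (a : A) :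
    (((h.theta hxS)^[n] a : A) : Ω) ∈ Subgroup.lowerCentralSeries S n := by
  induction n with
  | zero => exact h.hAS a.2
  | succ n ih =>
    rw [Function.iterate_succ_apply', theta_apply, Subgroup.lowerCentralSeries_succ]
    obtain ⟨b, hb⟩ : ∃ b : A, b = (h.theta hxS)^[n] a := ⟨_, rfl⟩
    rw [← hb] at ih ⊢
    have e : (b : Ω)⁻¹ * (x * b * x⁻¹) = ⁅(b : Ω)⁻¹, x⁆ := by
      rw [commutatorElement_def]; group
    rw [e]
    exact Subgroup.commutator_mem_commutator (Subgroup.inv_mem _ ih) hxS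

/-- (v): `S/Z(S)` has maximal class -/
theorem not_lowerCentralSeries_le [Fact p.Prime] [Finite S] (h : UA p S A) (hxS : x ∈ S)
    (hxA : x ∉ A) (hZ2A : Z2 S ≤ A) (hidx : (Zc S).relIndex (Z2 S) = p) (m : ℕ)
    (hm : ((Zc S).subgroupOf S).index = p ^ m) (hm3 : 3 ≤ m) :
    ¬ Subgroup.lowerCentralSeries S (m - 2) ≤ Zc S := by
  have hp : p.Prime := Fact.out
  have : Finite A := finite_of_le h.hAS
  intro hle
  have h1 : (Zc S).relIndex A * A.relIndex S = (Zc S).relIndex S :=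
    Subgroup.relIndex_mul_relIndex _ _ _ h.Zc_le h.hAS
  have hm' : (Zc S).relIndex S = p ^ m := hm
  rw [h.hAi, hm'] at h1
  obtain ⟨k, rfl⟩ : ∃ k, m = k + 3 := ⟨m - 3, by omega⟩
  have h2 : (Zc S).relIndex A = p ^ (k + 2) := by
    have : (Zc S).relIndex A * p = p ^ (k + 2) * p := by rw [h1]; ring
    exact Nat.eq_of_mul_eq_mul_right hp.pos this
  have h3 : h.Kc hxS (k + 2) ≠ ⊤ := by
    intro htop
    have h4 := h.relIndex_Kc_one_le hxS hxA hZ2A hidx (k + 1)
    rw [htop, Subgroup.relIndex_top_right, Kc_one, h.theta_ker hxS hxA] at h4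
    have h5 : ((Zc S).subgroupOf A).index = p ^ (k + 2) := h2
    rw [h5] at h4
    have := (Nat.pow_le_pow_iff_right hp.one_lt).mp h4
    omega
  obtain ⟨a, ha⟩ : ∃ a : A, a ∉ h.Kc hxS (k + 2) := by
    by_contra hcon
    push Not at hcon
    exact h3 (eq_top_iff.mpr fun a _ => hcon a)
  rw [h.mem_Kc_succ_iff hxS (k + 1) a, Kc_one, h.theta_ker hxS hxA, Subgroup.mem_subgroupOf] at ha
  apply ha
  apply hle
  exact h.iterate_theta_mem hxS (k + 1) a

end UA

end Cfsg.Agent.Lib.Helper7.Olv
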