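import Mathlib
import Cfsg.Prelude.Def_FusionSystem
import Cfsg.Agent.Lib.Helper7.OlvF

set_option autoImplicit false

namespace Cfsg.Agent.Lib.Helper7.Olv

open Cfsg Cfsg.FusionSystem Cfsg.Agent.Lib.Helper7 Cfsg.Agent.Lib.Helper7.Trv
  Cfsg.Agent.Lib.Helper7.Exsp

variable {Ω : Type*} [Group Ω] {p : ℕ} {S A P : Subgroup Ω} {x : Ω}

namespace UA

/-- if the second centre is not inside `A` then `A` is inside the second centre -/
theorem le_Z2_of_not_le [Fact p.Prime] [Finite S] (h : UA p S A) {z : Ω} (hz : z ∈ Z2 S)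
    (hzA : z ∉ A) : A ≤ Z2 S := by
  have hzS := Z2_le S hz
  intro a ha
  refine mem_Z2.mpr ⟨h.hAS ha, fun s hs => ?_⟩
  obtain ⟨a', ha', k, rfl⟩ := h.exists_decomp hzS hzA hs
  have hzk : z ^ k ∈ Z2 S := Subgroup.zpow_mem _ hz k
  have h1 := (mem_Z2.mp hzk).2 a (h.hAS ha)
  have h2 : a * z ^ k * a⁻¹ * (z ^ k)⁻¹ ∈ Zc S := by
    have e : a * z ^ k * a⁻¹ * (z ^ k)⁻¹ = (z ^ k * a * (z ^ k)⁻¹ * a⁻¹)⁻¹ := by group
    rw [e]
    exact Subgroup.inv_mem _ h1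
  have e : a * (a' * z ^ k) * a⁻¹ * (a' * z ^ k)⁻¹ =
      a' * (a * z ^ k * a⁻¹ * (z ^ k)⁻¹) * a'⁻¹ := by
    have := h.hAc a ha a' ha'
    calc a * (a' * z ^ k) * a⁻¹ * (a' * z ^ k)⁻¹
        = (a * a') * z ^ k * a⁻¹ * (z ^ k)⁻¹ * a'⁻¹ := by group
      _ = (a' * a) * z ^ k * a⁻¹ * (z ^ k)⁻¹ * a'⁻¹ := by rw [this]
      _ = a' * (a * z ^ k * a⁻¹ * (z ^ k)⁻¹) * a'⁻¹ := by group
  rw [e, (mem_Zc.mp h2).2 a' (h.hAS ha'), mul_inv_cancel_right]
  exact h2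

end UA

namespace EssData

/-- the second centre in the case of an abelian essential subgroup -/
theorem ab_facts [Fact p.Prime] [Finite S] (h : UA p S A) (F : FusionSystem S)
    (hF : F.IsSaturated p) (hE : F.IsEssential p P) (hD : EssData S A P x)
    (hab : ∀ a ∈ P, ∀ b ∈ P, a * b = b * a) (hPA : P ≠ A) :
    Z2 S ≤ A ∧ (Zc S).relIndex (Z2 S) = p := by
  have hp : p.Prime := Fact.out
  have hPS := hD.hPS
  have hxS : x ∈ S := hPS hD.hxP
  have hxA := hD.hxA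
  have : Finite P := finite_of_le hPS
  have hinf : P ⊓ A = Zc S := by
    apply le_antisymm
    · rintro a ⟨haP, haA⟩
      exact h.mem_Zc_of_comm hxS hD.hxA haA (hab x hD.hxP a haP)
    · exact le_inf hD.hZP h.Zc_le
  obtain ⟨g, hA⟩ := hD.exists_ahyp h F hF hE
  have hInn : Inn P = ⊥ := by
    rw [eq_bot_iff]
    rintro _ ⟨y, rfl⟩
    rw [Subgroup.mem_bot]
    ext z
    rw [MulAut.conj_apply, MulAut.one_apply]
    simp only [Subgroup.coe_mul, Subgroup.coe_inv]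
    rw [hab y y.2 z z.2]
    group
  have hT : Nat.card (autInducedBy S P) ≤ p := by
    have := hA.relIndex_inn_le
    rwa [hInn, Subgroup.relIndex_bot_left] at this
  obtain ⟨M, hMdef⟩ : ∃ M, M = Z2 S ⊓ A := ⟨_, rfl⟩
  have hMS : M ≤ S := hMdef ▸ inf_le_right.trans h.hAS
  have hMA : M ≤ A := hMdef ▸ inf_le_right
  have hMZ2 : M ≤ Z2 S := hMdef ▸ inf_le_left
  have : Finite M := finite_of_le hMS
  have hconj : ∀ w ∈ Z2 S, ∀ y ∈ P, w * y * w⁻¹ ∈ P := by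
    intro w hw y hy
    have h1 := (mem_Z2.mp hw).2 y (hPS hy)
    have e : w * y * w⁻¹ = (w * y * w⁻¹ * y⁻¹) * y := by group
    rw [e]
    exact P.mul_mem (hD.hZP h1) hy
  have hMN : M ≤ Subgroup.normalizer (P : Set Ω) := by
    intro z hzM
    have hz := hMZ2 hzM
    rw [Subgroup.mem_normalizer_iff]
    intro y
    constructor
    · exact hconj z hz y
    · intro hy
      have := hconj z⁻¹ (Subgroup.inv_mem _ hz) _ hy
      have e : z⁻¹ * (z * y * z⁻¹) * z⁻¹⁻¹ = y := by group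
      rwa [e] at this
  obtain ⟨ψ, hψdef⟩ : ∃ ψ : M →* MulAut P,
      ψ = P.normalizerMonoidHom.comp (Subgroup.inclusion hMN) := ⟨_, rfl⟩
  have hψu : ∀ n : M, ψ n = uAut P n (hMN n.2) := fun n => by rw [hψdef]; rfl
  have hrange : ψ.range ≤ autInducedBy S P := by
    rintro _ ⟨n, rfl⟩
    rw [hψu]
    exact uAut_mem_autInducedBy (hMS n.2) _
  have hker : ψ.ker = (Zc S).subgroupOf M := by
    ext m
    rw [MonoidHom.mem_ker, Subgroup.mem_subgroupOf, hψu]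
    constructor
    · intro hm
      apply h.mem_Zc_of_comm hxS hxA (hMA m.2)
      have h1 := congrArg (fun f : MulAut P => ((f ⟨x, hD.hxP⟩ : P) : Ω)) hm
      simp only [uAut_apply, MulAut.one_apply] at h1
      calc x * (m : Ω) = ((m : Ω) * x * (m : Ω)⁻¹) * m := by rw [h1]
        _ = (m : Ω) * x := by group
    · intro hm
      ext y
      rw [uAut_apply, MulAut.one_apply, ← (mem_Zc.mp hm).2 y (hPS y.2)]
      group
  have hle : (Zc S).relIndex M ≤ p := by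
    have h1 : ((Zc S).subgroupOf M).index = Nat.card ψ.range := by
      rw [← hker, Subgroup.index_ker]
    show ((Zc S).subgroupOf M).index ≤ p
    rw [h1]
    exact (Subgroup.card_le_of_le hrange).trans hT
  have hne1 : (Zc S).relIndex M ≠ 1 := by
    intro h1
    have hMZ : M ≤ Zc S := Subgroup.relIndex_eq_one.mp h1
    obtain ⟨n, hnN, hnP⟩ := lt_normalizerIn_of_ne h.hS hPS hD.hPne
    have hnS : n ∈ S := (Subgroup.mem_inf.mp hnN).1
    have hnNP : n ∈ Subgroup.normalizer (P : Set Ω) := (Subgroup.mem_inf.mp hnN).2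
    obtain ⟨a, ha, k, hnak⟩ := h.exists_decomp hxS hxA hnS
    have hxk : x ^ k ∈ P := P.zpow_mem hD.hxP k
    have haN : a ∈ Subgroup.normalizer (P : Set Ω) := by
      have : a = n * (x ^ k)⁻¹ := by rw [hnak]; group
      rw [this]
      exact Subgroup.mul_mem _ hnNP (Subgroup.le_normalizer (P.inv_mem hxk))
    have haP : a ∉ P := by
      intro haP
      apply hnP
      rw [hnak]
      exact P.mul_mem haP hxk
    apply haP
    apply hD.hZP
    apply hMZ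
    rw [hMdef]
    refine Subgroup.mem_inf.mpr ⟨?_, ha⟩
    have h2 : ((h.theta hxS ⟨a⁻¹, A.inv_mem ha⟩ : A) : Ω) ∈ Zc S := by
      rw [← hinf]
      refine Subgroup.mem_inf.mpr ⟨?_, (h.theta hxS ⟨a⁻¹, A.inv_mem ha⟩).2⟩
      rw [UA.theta_apply]
      simp only [inv_inv]
      have h3 : a * x * a⁻¹ ∈ P := (Subgroup.mem_normalizer_iff.mp haN x).mp hD.hxP
      have e : a * (x * a⁻¹ * x⁻¹) = (a * x * a⁻¹) * x⁻¹ := by group
      rw [e]
      exact P.mul_mem h3 (P.inv_mem hD.hxP)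
    have h4 := (h.theta_mem_Zc_iff hxS hxA _).mp h2
    have h5 := Subgroup.inv_mem _ h4
    simpa using h5
  have hidxM : (Zc S).relIndex M = p := by
    obtain ⟨k, hk⟩ := (h.hS.to_le hMS).index ((Zc S).subgroupOf M)
    have hk' : (Zc S).relIndex M = p ^ k := hk
    rw [hk'] at hle hne1 ⊢
    have hk0 : k ≠ 0 := by rintro rfl; exact hne1 (pow_zero p)
    have hk1 : k ≤ 1 := by
      have : p ^ k ≤ p ^ 1 := by rwa [pow_one]
      exact (Nat.pow_le_pow_iff_right hp.one_lt).mp this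
    have : k = 1 := by omega
    rw [this, pow_one]
  have hZ2A : Z2 S ≤ A := by
    intro z hz
    by_contra hzA
    have hAZ2 := h.le_Z2_of_not_le hz hzA
    have hMA' : M = A := by rw [hMdef]; exact inf_eq_right.mpr hAZ2
    rw [hMA'] at hidxM
    apply hPA
    apply h.huniq P hPS hab
    have h1 : (Zc S).relIndex A * A.relIndex S = (Zc S).relIndex S :=
      Subgroup.relIndex_mul_relIndex _ _ _ h.Zc_le h.hAS
    have h2 : (Zc S).relIndex P * P.relIndex S = (Zc S).relIndex S :=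
      Subgroup.relIndex_mul_relIndex _ _ _ hD.hZP hPS
    have h3 : (Zc S).relIndex P = p := by
      rw [← hinf, Subgroup.inf_relIndex_left]
      exact hD.relIndex_eq h
    rw [hidxM, h.hAi] at h1
    rw [h3, ← h1] at h2
    exact Nat.eq_of_mul_eq_mul_left hp.pos h2
  refine ⟨hZ2A, ?_⟩
  have : M = Z2 S := by rw [hMdef]; exact inf_eq_left.mpr hZ2A
  rw [this] at hidxM
  exact hidxM

/-- the second centre in the case of a nonabelian essential subgroup -/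
theorem nonab_facts [Fact p.Prime] [Finite S] (h : UA p S A) (F : FusionSystem S)
    (hF : F.IsSaturated p) (hE : F.IsEssential p P) (hD : EssData S A P x)
    (hab : ¬ ∀ a ∈ P, ∀ b ∈ P, a * b = b * a) :
    Z2 S ≤ A ∧ (Zc S).relIndex (Z2 S) = p := by
  have hp : p.Prime := Fact.out
  have hPS := hD.hPS
  have hxS : x ∈ S := hPS hD.hxP
  have : Finite P := finite_of_le hPS
  obtain ⟨g, hA⟩ := hD.exists_ahyp h F hF hE
  obtain ⟨D, hDdef⟩ : ∃ D : Subgroup P,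
      D = A.subgroupOf P ⊓ (A.subgroupOf P).map g.toMonoidHom := ⟨_, rfl⟩
  have hDcen : ∀ d ∈ D, ∀ y : P, y * d = d * y := fun d hd y => hA.inf_central (hDdef ▸ hd) y
  -- (1) D ≤ Z(S)
  have hDZ : ∀ d ∈ D, (d : Ω) ∈ Zc S := by
    intro d hd
    have hdA : (d : Ω) ∈ A := by
      rw [hDdef] at hd
      exact Subgroup.mem_subgroupOf.mp hd.1
    apply h.mem_Zc_of_comm hxS hD.hxA hdA
    exact congrArg Subtype.val (hDcen d hd ⟨x, hD.hxP⟩)
  have hxP₀ : (⟨x, hD.hxP⟩ : P) ∉ A.subgroupOf P := fun hx =>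
    hD.hxA (Subgroup.mem_subgroupOf.mp hx)
  -- (2) Z(S) ≤ D
  have hZD : ∀ z (hz : z ∈ Zc S), (⟨z, hD.hZP hz⟩ : P) ∈ D := by
    intro z hz
    by_contra hzD
    apply hab
    have hzP₀ : (⟨z, hD.hZP hz⟩ : P) ∈ A.subgroupOf P := Subgroup.mem_subgroupOf.mpr (h.Zc_le hz)
    have hDle : D ≤ A.subgroupOf P := hDdef ▸ inf_le_left
    have : Finite (A.subgroupOf P) := inferInstance
    have hsup := sup_zpowers_of_relIndex_prime hDle (hDdef ▸ hA.relIndex_inf) hzP₀ hzD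
    have hcen : ∀ a ∈ A.subgroupOf P, ∀ y : P, y * a = a * y := by
      intro a ha y
      have hle : D ⊔ Subgroup.zpowers (⟨z, hD.hZP hz⟩ : P) ≤ Subgroup.centralizer {y} := by
        apply sup_le
        · intro d hd
          rw [Subgroup.mem_centralizer_singleton_iff]
          exact (hDcen d hd y).symm
        · rw [Subgroup.zpowers_le, Subgroup.mem_centralizer_singleton_iff]
          exact Subtype.ext ((mem_Zc.mp hz).2 y (hPS y.2)).symm
      have := hle (hsup.ge ha)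
      rw [Subgroup.mem_centralizer_singleton_iff] at this
      exact this.symm
    intro a ha b hb
    obtain ⟨a₁, ha₁, k, hak⟩ := hA.exists_decomp hxP₀ ⟨a, ha⟩
    obtain ⟨a₂, ha₂, l, hbl⟩ := hA.exists_decomp hxP₀ ⟨b, hb⟩
    have e : (⟨a, ha⟩ : P) * ⟨b, hb⟩ = ⟨b, hb⟩ * ⟨a, ha⟩ := by
      rw [hak, hbl]
      have c1 := hcen a₁ ha₁
      have c2 := hcen a₂ ha₂
      have c3 : (⟨x, hD.hxP⟩ : P) ^ k * ⟨x, hD.hxP⟩ ^ l = ⟨x, hD.hxP⟩ ^ l * ⟨x, hD.hxP⟩ ^ k := by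
        rw [← zpow_add, ← zpow_add, add_comm]
      calc a₁ * ⟨x, hD.hxP⟩ ^ k * (a₂ * ⟨x, hD.hxP⟩ ^ l)
          = a₁ * (⟨x, hD.hxP⟩ ^ k * a₂) * ⟨x, hD.hxP⟩ ^ l := by group
        _ = a₁ * (a₂ * ⟨x, hD.hxP⟩ ^ k) * ⟨x, hD.hxP⟩ ^ l := by rw [c2]
        _ = (a₁ * a₂) * (⟨x, hD.hxP⟩ ^ k * ⟨x, hD.hxP⟩ ^ l) := by group
        _ = (a₂ * a₁) * (⟨x, hD.hxP⟩ ^ l * ⟨x, hD.hxP⟩ ^ k) := by rw [c3, c2 a₁]
        _ = a₂ * (a₁ * ⟨x, hD.hxP⟩ ^ l) * ⟨x, hD.hxP⟩ ^ k := by group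
        _ = a₂ * (⟨x, hD.hxP⟩ ^ l * a₁) * ⟨x, hD.hxP⟩ ^ k := by rw [c1]
        _ = a₂ * ⟨x, hD.hxP⟩ ^ l * (a₁ * ⟨x, hD.hxP⟩ ^ k) := by group
    exact congrArg Subtype.val e
  -- (3) P ∩ A ≤ Z₂(S)
  have hPAZ2 : P ⊓ A ≤ Z2 S := by
    rintro a ⟨haP, haA⟩
    refine mem_Z2.mpr ⟨hPS haP, fun s hs => ?_⟩
    obtain ⟨a', ha', k, rfl⟩ := h.exists_decomp hxS hD.hxA hs
    have hxk : x ^ k ∈ P := P.zpow_mem hD.hxP k
    have hc := hA.comm_mem_inf (a := ⟨a, haP⟩) (Subgroup.mem_subgroupOf.mpr haA) ⟨x ^ k, hxk⟩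
    have hcZ := hDZ _ (hDdef ▸ hc)
    have hcZ' : a * x ^ k * a⁻¹ * (x ^ k)⁻¹ ∈ Zc S := hcZ
    have e : a * (a' * x ^ k) * a⁻¹ * (a' * x ^ k)⁻¹ =
        a' * (a * x ^ k * a⁻¹ * (x ^ k)⁻¹) * a'⁻¹ := by
      have := h.hAc a haA a' ha'
      calc a * (a' * x ^ k) * a⁻¹ * (a' * x ^ k)⁻¹
          = (a * a') * x ^ k * a⁻¹ * (x ^ k)⁻¹ * a'⁻¹ := by group
        _ = (a' * a) * x ^ k * a⁻¹ * (x ^ k)⁻¹ * a'⁻¹ := by rw [this]
        _ = a' * (a * x ^ k * a⁻¹ * (x ^ k)⁻¹) * a'⁻¹ := by group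
    rw [e, (mem_Zc.mp hcZ').2 a' (h.hAS ha'), mul_inv_cancel_right]
    exact hcZ'
  -- (4) Z₂(S) ≤ P
  have hZ2P : Z2 S ≤ P := by
    intro z hz
    obtain ⟨hzS, hzc⟩ := mem_Z2.mp hz
    have hconj : ∀ w ∈ Z2 S, ∀ y ∈ P, w * y * w⁻¹ ∈ P := by
      intro w hw y hy
      have h1 := (mem_Z2.mp hw).2 y (hPS hy)
      have e : w * y * w⁻¹ = (w * y * w⁻¹ * y⁻¹) * y := by group
      rw [e]
      exact P.mul_mem (hD.hZP h1) hy
    have hzN : z ∈ Subgroup.normalizer (P : Set Ω) := by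
      rw [Subgroup.mem_normalizer_iff]
      intro y
      constructor
      · exact hconj z hz y
      · intro hy
        have := hconj z⁻¹ (Subgroup.inv_mem _ hz) _ hy
        have e : z⁻¹ * (z * y * z⁻¹) * z⁻¹⁻¹ = y := by group
        rwa [e] at this
    apply hD.mem_of_inner hzS hzN
    apply hA.chainStab_inf_le_inn
    refine ⟨autInducedBy_le_autGroup F hPS (uAut_mem_autInducedBy hzS hzN), ?_⟩
    rw [← hDdef]
    have hfixD : ∀ y ∈ D, uAut P z hzN y = y := by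
      intro y hy
      apply Subtype.ext
      rw [uAut_apply, (mem_Zc.mp (hDZ y hy)).2 z hzS]
      group
    refine ⟨fun y => ?_, fun y hy => ?_, hfixD⟩
    · have h1 := hzc y (hPS y.2)
      have h2 : (y : Ω)⁻¹ * (z * y * z⁻¹) ∈ Zc S := by
        have e : (y : Ω)⁻¹ * (z * y * z⁻¹) = (y : Ω)⁻¹ * (z * y * z⁻¹ * (y : Ω)⁻¹) * y := by group
        rw [e, (mem_Zc.mp h1).2 _ (S.inv_mem (hPS y.2)), inv_mul_cancel_right]
        exact h1
      have e2 : y⁻¹ * uAut P z hzN y = ⟨(y : Ω)⁻¹ * (z * y * z⁻¹), hD.hZP h2⟩ :=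
        Subtype.ext (by rw [Subgroup.coe_mul, Subgroup.coe_inv, uAut_apply])
      rw [e2]
      exact hZD _ h2
    · rw [hfixD y hy, inv_mul_cancel]
      exact D.one_mem
  -- (5) Z₂(S) ≤ A
  have hZ2A : Z2 S ≤ A := by
    intro z hz
    by_contra hzA
    apply hD.hPne
    apply le_antisymm hPS
    refine le_trans ?_ hZ2P
    have hzS := Z2_le S hz
    refine (h.sup_zpowers hzS hzA).ge.trans (sup_le ?_ ?_)
    · intro a ha
      refine mem_Z2.mpr ⟨h.hAS ha, fun s hs => ?_⟩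
      obtain ⟨a', ha', k, rfl⟩ := h.exists_decomp hzS hzA hs
      have hzk : z ^ k ∈ Z2 S := Subgroup.zpow_mem _ hz k
      have h1 := (mem_Z2.mp hzk).2 a (h.hAS ha)
      have h2 : a * z ^ k * a⁻¹ * (z ^ k)⁻¹ ∈ Zc S := by
        have e : a * z ^ k * a⁻¹ * (z ^ k)⁻¹ = (z ^ k * a * (z ^ k)⁻¹ * a⁻¹)⁻¹ := by group
        rw [e]
        exact Subgroup.inv_mem _ h1
      have e : a * (a' * z ^ k) * a⁻¹ * (a' * z ^ k)⁻¹ =
          a' * (a * z ^ k * a⁻¹ * (z ^ k)⁻¹) * a'⁻¹ := by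
        have := h.hAc a ha a' ha'
        calc a * (a' * z ^ k) * a⁻¹ * (a' * z ^ k)⁻¹
            = (a * a') * z ^ k * a⁻¹ * (z ^ k)⁻¹ * a'⁻¹ := by group
          _ = (a' * a) * z ^ k * a⁻¹ * (z ^ k)⁻¹ * a'⁻¹ := by rw [this]
          _ = a' * (a * z ^ k * a⁻¹ * (z ^ k)⁻¹) * a'⁻¹ := by group
      rw [e, (mem_Zc.mp h2).2 a' (h.hAS ha'), mul_inv_cancel_right]
      exact h2
    · rw [Subgroup.zpowers_le]
      exact hz
  have hinf : P ⊓ A = Z2 S := le_antisymm hPAZ2 (le_inf hZ2P hZ2A)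
  have hDeq : D = (Zc S).subgroupOf P := by
    ext d
    rw [Subgroup.mem_subgroupOf]
    exact ⟨fun hd => hDZ d hd, fun hd => hZD _ hd⟩
  have hP₀ : A.subgroupOf P = (Z2 S).subgroupOf P := by
    rw [← hinf, Subgroup.inf_subgroupOf_left]
  have h1 := hA.relIndex_inf
  rw [← hDdef, hDeq, hP₀, Subgroup.relIndex_subgroupOf hZ2P] at h1
  exact ⟨hZ2A, h1⟩

/-- the second centre lies in `A` and the centre has index `p` in it -/
theorem Z2_facts [Fact p.Prime] [Finite S] (h : UA p S A) (F : FusionSystem S)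
    (hF : F.IsSaturated p) (hE : F.IsEssential p P) (hD : EssData S A P x) (hPA : P ≠ A) :
    Z2 S ≤ A ∧ (Zc S).relIndex (Z2 S) = p := by
  by_cases hab : ∀ a ∈ P, ∀ b ∈ P, a * b = b * a
  · exact hD.ab_facts h F hF hE hab hPA
  · exact hD.nonab_facts h F hF hE hab

end EssData

end Cfsg.Agent.Lib.Helper7.Olv
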