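import Mathlib
import Cfsg.Prelude.Def_FusionSystem
import Cfsg.Agent.Lib.Helper7.FusionGenFamily
import Cfsg.Agent.Lib.Helper7.ExtSystem
import Cfsg.Agent.Lib.Helper7.Alperin3
import Cfsg.Agent.Lib.Helper7.OlvG

set_option autoImplicit false

namespace Cfsg.Agent.Lib.Helper7.Olv

open Cfsg Cfsg.FusionSystem Cfsg.Agent.Lib.Helper7 Cfsg.Agent.Lib.Helper7.Trv
  Cfsg.Agent.Lib.Helper7.Exsp

variable {Ω : Type*} [Group Ω] {S : Subgroup Ω}

/-- the image of a subgroup of the source under a map of the system is conjugate to it -/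
theorem isConj_map_of_le (F : FusionSystem S) {P Q' : Subgroup Ω} (h : Q' ≤ P) {φ : P →* Ω}
    (hφ : φ ∈ F.Hom P) : F.IsConj Q' ((Q'.subgroupOf P).map φ) := by
  refine ⟨φ.comp (Subgroup.inclusion h), fs_restrict_mem F h hφ, ?_⟩
  ext y
  constructor
  · rintro ⟨x, rfl⟩
    exact ⟨Subgroup.inclusion h x, Subgroup.mem_subgroupOf.mpr x.2, rfl⟩
  · rintro ⟨x, hx, rfl⟩
    exact ⟨⟨x, Subgroup.mem_subgroupOf.mp hx⟩, rfl⟩

/-- the preimage of a subgroup of the range is conjugate to it -/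
theorem isConj_comap_of_le (F : FusionSystem S) {P Q' : Subgroup Ω} {φ : P →* Ω}
    (hφ : φ ∈ F.Hom P) (h : Q' ≤ φ.range) :
    F.IsConj ((Q'.comap φ).map P.subtype) Q' := by
  have hle : (Q'.comap φ).map P.subtype ≤ P := by
    rintro _ ⟨x, -, rfl⟩
    exact x.2
  refine ⟨φ.comp (Subgroup.inclusion hle), fs_restrict_mem F hle hφ, ?_⟩
  ext y
  constructor
  · rintro ⟨⟨_, x, hx, rfl⟩, rfl⟩
    exact hx
  · intro hy
    obtain ⟨x, rfl⟩ := h hy
    exact ⟨⟨x, x, hy, rfl⟩, rfl⟩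

/-- if no essential subgroup contains a conjugate of `Q`, every map of the system with source `Q`
is the restriction of an element of `Aut_F(S)` -/
theorem exists_aut_of_no_essential [Finite S] (p : ℕ) [Fact p.Prime] (hS : IsPGroup p S)
    (F : FusionSystem S) (hF : F.IsSaturated p) {Q : Subgroup Ω} (hQS : Q ≤ S)
    (hQ : ∀ R, F.IsEssential p R → ∀ Q', F.IsConj Q Q' → ¬ Q' ≤ R)
    {φ : Q →* Ω} (hφ : φ ∈ F.Hom Q) :
    ∃ α ∈ F.autGroup S, ∀ y : Q, φ y = α ⟨y, hQS y.2⟩ := by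
  obtain ⟨E₀, hE₀⟩ : ∃ E₀, E₀ = extSystem F S ⊤ le_rfl Subgroup.le_normalizer le_top := ⟨_, rfl⟩
  obtain ⟨M, hM⟩ : ∃ M, M = mixSystem F E₀ (fun P => ¬ ∃ Q', F.IsConj Q Q' ∧ Q' ≤ P)
      (by
        intro P' φ' hφ' hC
        rintro ⟨Q', hQQ', hle⟩
        apply hC
        refine ⟨(Q'.comap φ').map P'.subtype,
          isConj_trans F hQQ' (isConj_symm F (isConj_comap_of_le F hφ' hle)), ?_⟩
        rintro _ ⟨x, -, rfl⟩
        exact x.2)
      (by
        intro P' Q₁ φ' ψ hφ' hφQ hψ hnC hCQ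
        exfalso
        push Not at hnC
        obtain ⟨Q', hQQ', hle⟩ := hnC
        apply hCQ
        refine ⟨(Q'.subgroupOf P').map φ', isConj_trans F hQQ' (isConj_map_of_le F hle hφ'), ?_⟩
        rintro _ ⟨x, -, rfl⟩
        exact hφQ x) := ⟨_, rfl⟩
  have hle : F ≤ M := by
    apply alperin_goldschmidt p hS F hF M
    intro P hP
    apply autGroup_le_of_hom_subset
    intro α hα
    rw [hM]
    refine ⟨hα, ?_⟩
    rcases hP with rfl | hess
    · right
      rw [hE₀]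
      refine ⟨hα, (P.subtype.comp α.toMonoidHom).comp
        (Subgroup.inclusion (sup_le le_rfl le_rfl : P ⊔ P ≤ P)),
        fs_restrict_mem F _ hα, fun x => rfl, α, Subgroup.mem_top _, fun x => rfl⟩
    · left
      rintro ⟨Q', hQQ', hle⟩
      exact hQ P hess Q' hQQ' hle
  have hφM := hle Q hφ
  rw [hM] at hφM
  obtain ⟨-, hφM⟩ := hφM
  rcases hφM with hC | hφE
  · exact absurd ⟨Q, isConj_refl F hQS, le_rfl⟩ hC
  · rw [hE₀] at hφE
    obtain ⟨-, ψ, hψ, hext, k, -, hk⟩ := hφE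
    refine ⟨k, ?_, fun y => ?_⟩
    · rw [mem_autGroup_iff F le_rfl]
      have := fs_restrict_mem F (le_sup_right : S ≤ Q ⊔ S) hψ
      convert this using 1
      ext x
      exact (hk x).symm
    · rw [← hext, ← hk]
      rfl

end Cfsg.Agent.Lib.Helper7.Olv
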