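import Mathlib
import Cfsg.Prelude.Def_FusionSystem
import Cfsg.Agent.Lib.Helper7.OlvH

set_option autoImplicit false

namespace Cfsg.Agent.Lib.Helper7.Olv

open Cfsg Cfsg.FusionSystem Cfsg.Agent.Lib.Helper7 Cfsg.Agent.Lib.Helper7.Trv
  Cfsg.Agent.Lib.Helper7.Exsp

variable {Ω : Type*} [Group Ω] {p : ℕ} {S A : Subgroup Ω}

/-- decomposition along a subgroup of prime relative index normalized by an outside element -/
theorem exists_decomp_of_relIndex_prime [Fact p.Prime] {P X : Subgroup Ω} [Finite X] (hPX : P ≤ X)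
    (hidx : P.relIndex X = p) {y : Ω} (hyX : y ∈ X) (hyP : y ∉ P)
    (hn : y ∈ Subgroup.normalizer (P : Set Ω)) {s : Ω} (hs : s ∈ X) :
    ∃ a ∈ P, ∃ k : ℤ, s = a * y ^ k := by
  have hs' : s ∈ ((P ⊔ Subgroup.zpowers y : Subgroup Ω) : Set Ω) := by
    rw [sup_zpowers_of_relIndex_prime hPX hidx hyX hyP]; exact hs
  rw [Subgroup.coe_mul_of_right_le_normalizer_left P (Subgroup.zpowers y)
    (by rw [Subgroup.zpowers_le]; exact hn)] at hs'
  obtain ⟨a, ha, b, hb, rfl⟩ := hs'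
  obtain ⟨k, rfl⟩ := Subgroup.mem_zpowers_iff.mp hb
  exact ⟨a, ha, k, rfl⟩

/-- cardinality from the relative index -/
theorem card_eq_relIndex_mul {H K : Subgroup Ω} (hHK : H ≤ K) :
    Nat.card K = H.relIndex K * Nat.card H := by
  have h1 := Subgroup.card_mul_index (H.subgroupOf K)
  have h2 : Nat.card ↥(H.subgroupOf K) = Nat.card H :=
    Nat.card_congr (Subgroup.subgroupOfEquivOfLe hHK).toEquiv
  rw [h2] at h1
  rw [← h1, mul_comm]
  rfl

/-- `Z(S)` is normalized by `S` -/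
theorem Zc_conj_mem {z s : Ω} (hz : z ∈ Zc S) (hs : s ∈ S) : s * z * s⁻¹ ∈ Zc S := by
  have := (mem_Zc.mp hz).2 s hs
  rw [this, mul_inv_cancel_right]
  exact hz

theorem le_normalizer_Zc : S ≤ Subgroup.normalizer (Zc S : Set Ω) := by
  intro s hs
  rw [Subgroup.mem_normalizer_iff]
  intro z
  constructor
  · intro hz; exact Zc_conj_mem hz hs
  · intro hz
    have := Zc_conj_mem hz (S.inv_mem hs)
    have e : s⁻¹ * (s * z * s⁻¹) * s⁻¹⁻¹ = z := by group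
    rwa [e] at this

namespace UA

/-- the centre of a subgroup containing an element outside `A` and a noncentral element of `A` -/
theorem center_le_Zc [Fact p.Prime] [Finite S] (h : UA p S A) {X : Subgroup Ω} (hXS : X ≤ S)
    {x : Ω} (hxX : x ∈ X) (hxA : x ∉ A) {a₀ : Ω} (ha₀X : a₀ ∈ X) (ha₀A : a₀ ∈ A)
    (ha₀Z : a₀ ∉ Zc S) {c : Ω} (hcX : c ∈ X) (hc : ∀ y ∈ X, c * y = y * c) : c ∈ Zc S := by
  have hcA : c ∈ A := by
    by_contra hcA
    exact ha₀Z (h.mem_Zc_of_comm (hXS hcX) hcA ha₀A (hc a₀ ha₀X))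
  exact h.mem_Zc_of_comm (hXS hxX) hxA hcA (hc x hxX).symm

end UA

/-- the standing hypotheses: the second centre lies in `A` and has index `p` over the centre -/
structure UB (p : ℕ) (S A : Subgroup Ω) : Prop where
  hUA : UA p S A
  hZ2A : Z2 S ≤ A
  hidx : (Zc S).relIndex (Z2 S) = p

namespace UB

theorem exists_not_mem_Zc [Fact p.Prime] (hB : UB p S A) : ∃ a₀ ∈ Z2 S, a₀ ∉ Zc S := by
  have hp : p.Prime := Fact.out
  by_contra hcon
  push Not at hcon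
  have := Subgroup.relIndex_eq_one.mpr hcon
  rw [hB.hidx] at this
  exact hp.one_lt.ne' this

theorem card_Z2 (hB : UB p S A) : Nat.card (Z2 S) = p * Nat.card (Zc S) := by
  rw [card_eq_relIndex_mul (Zc_le_Z2 S), hB.hidx]

end UB

theorem Z2_conj_mem {z s : Ω} (hz : z ∈ Z2 S) (hs : s ∈ S) : s * z * s⁻¹ ∈ Z2 S := by
  obtain ⟨hzS, hzc⟩ := mem_Z2.mp hz
  refine mem_Z2.mpr ⟨S.mul_mem (S.mul_mem hs hzS) (S.inv_mem hs), fun t ht => ?_⟩
  have h1 := hzc (s⁻¹ * t * s) (S.mul_mem (S.mul_mem (S.inv_mem hs) ht) hs)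
  have h2 := Zc_conj_mem h1 hs
  have e : s * (z * (s⁻¹ * t * s) * z⁻¹ * (s⁻¹ * t * s)⁻¹) * s⁻¹ =
      s * z * s⁻¹ * t * (s * z * s⁻¹)⁻¹ * t⁻¹ := by group
  rwa [e] at h2

theorem normalizerIn_Z2 : normalizerIn S (Z2 S) = S := by
  unfold normalizerIn
  rw [inf_eq_left]
  intro s hs
  rw [Subgroup.mem_normalizer_iff]
  intro z
  constructor
  · intro hz; exact Z2_conj_mem hz hs
  · intro hz
    have := Z2_conj_mem hz (S.inv_mem hs)
    have e : s⁻¹ * (s * z * s⁻¹) * s⁻¹⁻¹ = z := by group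
    rwa [e] at this

/-- the second centre normalizes every subgroup containing the centre -/
theorem Z2_le_normalizer {P : Subgroup Ω} (hPS : P ≤ S) (hZP : Zc S ≤ P) :
    Z2 S ≤ Subgroup.normalizer (P : Set Ω) := by
  have hconj : ∀ w ∈ Z2 S, ∀ y ∈ P, w * y * w⁻¹ ∈ P := by
    intro w hw y hy
    have h1 := (mem_Z2.mp hw).2 y (hPS hy)
    have e : w * y * w⁻¹ = (w * y * w⁻¹ * y⁻¹) * y := by group
    rw [e]
    exact P.mul_mem (hZP h1) hy
  intro z hz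
  rw [Subgroup.mem_normalizer_iff]
  intro y
  constructor
  · exact hconj z hz y
  · intro hy
    have := hconj z⁻¹ (Subgroup.inv_mem _ hz) _ hy
    have e : z⁻¹ * (z * y * z⁻¹) * z⁻¹⁻¹ = y := by group
    rwa [e] at this

namespace UA

theorem relIndex_of_not_le [Fact p.Prime] [Finite S] (h : UA p S A) {X : Subgroup Ω} (hXS : X ≤ S)
    {x : Ω} (hxX : x ∈ X) (hxA : x ∉ A) : A.relIndex X = p := by
  have hp : p.Prime := Fact.out
  have : Finite X := finite_of_le hXS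
  have h1 : A.relIndex X ≤ p := by
    have := Subgroup.relIndex_le_of_le_right (H := A) hXS (by rw [h.hAi]; exact hp.ne_zero)
    rwa [h.hAi] at this
  have h2 : A.relIndex X ≠ 1 := by
    intro h1
    exact hxA (Subgroup.relIndex_eq_one.mp h1 hxX)
  obtain ⟨n, hn⟩ := (h.hS.to_le hXS).index (A.subgroupOf X)
  have hn' : A.relIndex X = p ^ n := hn
  rw [hn'] at h1 h2 ⊢
  have hn0 : n ≠ 0 := by rintro rfl; exact h2 (pow_zero p)
  have hn1 : n ≤ 1 := by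
    have : p ^ n ≤ p ^ 1 := by rwa [pow_one]
    exact (Nat.pow_le_pow_iff_right hp.one_lt).mp this
  have : n = 1 := by omega
  rw [this, pow_one]

theorem card_of_not_le [Fact p.Prime] [Finite S] (h : UA p S A) {X : Subgroup Ω} (hXS : X ≤ S)
    {x : Ω} (hxX : x ∈ X) (hxA : x ∉ A) : Nat.card X = p * Nat.card ↥(X ⊓ A) := by
  rw [card_eq_relIndex_mul (inf_le_left : X ⊓ A ≤ X), Subgroup.inf_relIndex_left,
    h.relIndex_of_not_le hXS hxX hxA]

end UA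

namespace EssData

variable {P : Subgroup Ω} {x : Ω}

/-- the intersection with `A` in the case of a nonabelian essential subgroup -/
theorem nonab_inf [Fact p.Prime] [Finite S] (h : UA p S A) (F : FusionSystem S)
    (hF : F.IsSaturated p) (hE : F.IsEssential p P) (hD : EssData S A P x)
    (hab : ¬ ∀ a ∈ P, ∀ b ∈ P, a * b = b * a) :
    P ⊓ A = Z2 S := by
  have hp : p.Prime := Fact.out
  have hPS := hD.hPS
  have hxS : x ∈ S := hPS hD.hxP
  have : Finite P := finite_of_le hPS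
  obtain ⟨g, hA⟩ := hD.exists_ahyp h F hF hE
  obtain ⟨D, hDdef⟩ : ∃ D : Subgroup P,
      D = A.subgroupOf P ⊓ (A.subgroupOf P).map g.toMonoidHom := ⟨_, rfl⟩
  have hDcen : ∀ d ∈ D, ∀ y : P, y * d = d * y := fun d hd y => hA.inf_central (hDdef ▸ hd) y
  -- (1) D ≤ Z(S)
  have hDZ : ∀ d ∈ D, (d : Ω) ∈ Zc S := by
    intro d hd
    have hdA : (d : Ω) ∈ A := by
      rw [hDdef] at hd
      exact Subgroup.mem_subgroupOf.mp hd.1
    apply h.mem_Zc_of_comm hxS hD.hxA hdA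
    exact congrArg Subtype.val (hDcen d hd ⟨x, hD.hxP⟩)
  have hxP₀ : (⟨x, hD.hxP⟩ : P) ∉ A.subgroupOf P := fun hx =>
    hD.hxA (Subgroup.mem_subgroupOf.mp hx)
  -- (2) Z(S) ≤ D
  have hZD : ∀ z (hz : z ∈ Zc S), (⟨z, hD.hZP hz⟩ : P) ∈ D := by
    intro z hz
    by_contra hzD
    apply hab
    have hzP₀ : (⟨z, hD.hZP hz⟩ : P) ∈ A.subgroupOf P := Subgroup.mem_subgroupOf.mpr (h.Zc_le hz)
    have hDle : D ≤ A.subgroupOf P := hDdef ▸ inf_le_left
    have : Finite (A.subgroupOf P) := inferInstance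
    have hsup := sup_zpowers_of_relIndex_prime hDle (hDdef ▸ hA.relIndex_inf) hzP₀ hzD
    have hcen : ∀ a ∈ A.subgroupOf P, ∀ y : P, y * a = a * y := by
      intro a ha y
      have hle : D ⊔ Subgroup.zpowers (⟨z, hD.hZP hz⟩ : P) ≤ Subgroup.centralizer {y} := by
        apply sup_le
        · intro d hd
          rw [Subgroup.mem_centralizer_singleton_iff]
          exact (hDcen d hd y).symm
        · rw [Subgroup.zpowers_le, Subgroup.mem_centralizer_singleton_iff]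
          exact Subtype.ext ((mem_Zc.mp hz).2 y (hPS y.2)).symm
      have := hle (hsup.ge ha)
      rw [Subgroup.mem_centralizer_singleton_iff] at this
      exact this.symm
    intro a ha b hb
    obtain ⟨a₁, ha₁, k, hak⟩ := hA.exists_decomp hxP₀ ⟨a, ha⟩
    obtain ⟨a₂, ha₂, l, hbl⟩ := hA.exists_decomp hxP₀ ⟨b, hb⟩
    have e : (⟨a, ha⟩ : P) * ⟨b, hb⟩ = ⟨b, hb⟩ * ⟨a, ha⟩ := by
      rw [hak, hbl]
      have c1 := hcen a₁ ha₁
      have c2 := hcen a₂ ha₂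
      have c3 : (⟨x, hD.hxP⟩ : P) ^ k * ⟨x, hD.hxP⟩ ^ l = ⟨x, hD.hxP⟩ ^ l * ⟨x, hD.hxP⟩ ^ k := by
        rw [← zpow_add, ← zpow_add, add_comm]
      calc a₁ * ⟨x, hD.hxP⟩ ^ k * (a₂ * ⟨x, hD.hxP⟩ ^ l)
          = a₁ * (⟨x, hD.hxP⟩ ^ k * a₂) * ⟨x, hD.hxP⟩ ^ l := by group
        _ = a₁ * (a₂ * ⟨x, hD.hxP⟩ ^ k) * ⟨x, hD.hxP⟩ ^ l := by rw [c2]
        _ = (a₁ * a₂) * (⟨x, hD.hxP⟩ ^ k * ⟨x, hD.hxP⟩ ^ l) := by group
        _ = (a₂ * a₁) * (⟨x, hD.hxP⟩ ^ l * ⟨x, hD.hxP⟩ ^ k) := by rw [c3, c2 a₁]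
        _ = a₂ * (a₁ * ⟨x, hD.hxP⟩ ^ l) * ⟨x, hD.hxP⟩ ^ k := by group
        _ = a₂ * (⟨x, hD.hxP⟩ ^ l * a₁) * ⟨x, hD.hxP⟩ ^ k := by rw [c1]
        _ = a₂ * ⟨x, hD.hxP⟩ ^ l * (a₁ * ⟨x, hD.hxP⟩ ^ k) := by group
    exact congrArg Subtype.val e
  -- (3) P ∩ A ≤ Z₂(S)
  have hPAZ2 : P ⊓ A ≤ Z2 S := by
    rintro a ⟨haP, haA⟩
    refine mem_Z2.mpr ⟨hPS haP, fun s hs => ?_⟩
    obtain ⟨a', ha', k, rfl⟩ := h.exists_decomp hxS hD.hxA hs
    have hxk : x ^ k ∈ P := P.zpow_mem hD.hxP k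
    have hc := hA.comm_mem_inf (a := ⟨a, haP⟩) (Subgroup.mem_subgroupOf.mpr haA) ⟨x ^ k, hxk⟩
    have hcZ := hDZ _ (hDdef ▸ hc)
    have hcZ' : a * x ^ k * a⁻¹ * (x ^ k)⁻¹ ∈ Zc S := hcZ
    have e : a * (a' * x ^ k) * a⁻¹ * (a' * x ^ k)⁻¹ =
        a' * (a * x ^ k * a⁻¹ * (x ^ k)⁻¹) * a'⁻¹ := by
      have := h.hAc a haA a' ha'
      calc a * (a' * x ^ k) * a⁻¹ * (a' * x ^ k)⁻¹
          = (a * a') * x ^ k * a⁻¹ * (x ^ k)⁻¹ * a'⁻¹ := by group
        _ = (a' * a) * x ^ k * a⁻¹ * (x ^ k)⁻¹ * a'⁻¹ := by rw [this]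
        _ = a' * (a * x ^ k * a⁻¹ * (x ^ k)⁻¹) * a'⁻¹ := by group
    rw [e, (mem_Zc.mp hcZ').2 a' (h.hAS ha'), mul_inv_cancel_right]
    exact hcZ'
  -- (4) Z₂(S) ≤ P
  have hZ2P : Z2 S ≤ P := by
    intro z hz
    obtain ⟨hzS, hzc⟩ := mem_Z2.mp hz
    have hconj : ∀ w ∈ Z2 S, ∀ y ∈ P, w * y * w⁻¹ ∈ P := by
      intro w hw y hy
      have h1 := (mem_Z2.mp hw).2 y (hPS hy)
      have e : w * y * w⁻¹ = (w * y * w⁻¹ * y⁻¹) * y := by group
      rw [e]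
      exact P.mul_mem (hD.hZP h1) hy
    have hzN : z ∈ Subgroup.normalizer (P : Set Ω) := by
      rw [Subgroup.mem_normalizer_iff]
      intro y
      constructor
      · exact hconj z hz y
      · intro hy
        have := hconj z⁻¹ (Subgroup.inv_mem _ hz) _ hy
        have e : z⁻¹ * (z * y * z⁻¹) * z⁻¹⁻¹ = y := by group
        rwa [e] at this
    apply hD.mem_of_inner hzS hzN
    apply hA.chainStab_inf_le_inn
    refine ⟨autInducedBy_le_autGroup F hPS (uAut_mem_autInducedBy hzS hzN), ?_⟩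
    rw [← hDdef]
    have hfixD : ∀ y ∈ D, uAut P z hzN y = y := by
      intro y hy
      apply Subtype.ext
      rw [uAut_apply, (mem_Zc.mp (hDZ y hy)).2 z hzS]
      group
    refine ⟨fun y => ?_, fun y hy => ?_, hfixD⟩
    · have h1 := hzc y (hPS y.2)
      have h2 : (y : Ω)⁻¹ * (z * y * z⁻¹) ∈ Zc S := by
        have e : (y : Ω)⁻¹ * (z * y * z⁻¹) = (y : Ω)⁻¹ * (z * y * z⁻¹ * (y : Ω)⁻¹) * y := by group
        rw [e, (mem_Zc.mp h1).2 _ (S.inv_mem (hPS y.2)), inv_mul_cancel_right]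
        exact h1
      have e2 : y⁻¹ * uAut P z hzN y = ⟨(y : Ω)⁻¹ * (z * y * z⁻¹), hD.hZP h2⟩ :=
        Subtype.ext (by rw [Subgroup.coe_mul, Subgroup.coe_inv, uAut_apply])
      rw [e2]
      exact hZD _ h2
    · rw [hfixD y hy, inv_mul_cancel]
      exact D.one_mem
  -- (5) Z₂(S) ≤ A
  have hZ2A : Z2 S ≤ A := by
    intro z hz
    by_contra hzA
    apply hD.hPne
    apply le_antisymm hPS
    refine le_trans ?_ hZ2P
    have hzS := Z2_le S hz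
    refine (h.sup_zpowers hzS hzA).ge.trans (sup_le ?_ ?_)
    · intro a ha
      refine mem_Z2.mpr ⟨h.hAS ha, fun s hs => ?_⟩
      obtain ⟨a', ha', k, rfl⟩ := h.exists_decomp hzS hzA hs
      have hzk : z ^ k ∈ Z2 S := Subgroup.zpow_mem _ hz k
      have h1 := (mem_Z2.mp hzk).2 a (h.hAS ha)
      have h2 : a * z ^ k * a⁻¹ * (z ^ k)⁻¹ ∈ Zc S := by
        have e : a * z ^ k * a⁻¹ * (z ^ k)⁻¹ = (z ^ k * a * (z ^ k)⁻¹ * a⁻¹)⁻¹ := by group
        rw [e]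
        exact Subgroup.inv_mem _ h1
      have e : a * (a' * z ^ k) * a⁻¹ * (a' * z ^ k)⁻¹ =
          a' * (a * z ^ k * a⁻¹ * (z ^ k)⁻¹) * a'⁻¹ := by
        have := h.hAc a ha a' ha'
        calc a * (a' * z ^ k) * a⁻¹ * (a' * z ^ k)⁻¹
            = (a * a') * z ^ k * a⁻¹ * (z ^ k)⁻¹ * a'⁻¹ := by group
          _ = (a' * a) * z ^ k * a⁻¹ * (z ^ k)⁻¹ * a'⁻¹ := by rw [this]
          _ = a' * (a * z ^ k * a⁻¹ * (z ^ k)⁻¹) * a'⁻¹ := by group
      rw [e, (mem_Zc.mp h2).2 a' (h.hAS ha'), mul_inv_cancel_right]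
      exact h2
    · rw [Subgroup.zpowers_le]
      exact hz
  exact le_antisymm hPAZ2 (le_inf hZ2P hZ2A)

/-- the two types of essential subgroups other than `A` -/
theorem inf_eq [Fact p.Prime] [Finite S] (h : UA p S A) (F : FusionSystem S)
    (hF : F.IsSaturated p) (hE : F.IsEssential p P) (hD : EssData S A P x) :
    (P ⊓ A = Zc S ∧ ∀ a ∈ P, ∀ b ∈ P, a * b = b * a) ∨
      (P ⊓ A = Z2 S ∧ ¬ ∀ a ∈ P, ∀ b ∈ P, a * b = b * a) := by
  by_cases hab : ∀ a ∈ P, ∀ b ∈ P, a * b = b * a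
  · left
    refine ⟨?_, hab⟩
    apply le_antisymm
    · rintro a ⟨haP, haA⟩
      exact h.mem_Zc_of_comm (hD.hPS hD.hxP) hD.hxA haA (hab x hD.hxP a haP)
    · exact le_inf hD.hZP h.Zc_le
  · right
    exact ⟨hD.nonab_inf h F hF hE hab, hab⟩

end EssData

end Cfsg.Agent.Lib.Helper7.Olv
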