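import Mathlib
import Cfsg.Prelude.Def_FusionSystem
import Cfsg.Agent.Lib.Helper7.OlvI

set_option autoImplicit false

namespace Cfsg.Agent.Lib.Helper7.Olv

open Cfsg Cfsg.FusionSystem Cfsg.Agent.Lib.Helper7 Cfsg.Agent.Lib.Helper7.Trv
  Cfsg.Agent.Lib.Helper7.Exsp

variable {Ω : Type*} [Group Ω] {p : ℕ} {S A : Subgroup Ω}

/-- conjugation fixes the centre -/
theorem map_conj_Zc {s : Ω} (hs : s ∈ S) : (Zc S).map (MulAut.conj s).toMonoidHom = Zc S := by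
  apply le_antisymm
  · rintro _ ⟨z, hz, rfl⟩
    exact Zc_conj_mem hz hs
  · intro z hz
    refine ⟨s⁻¹ * z * s, ?_, ?_⟩
    · have := Zc_conj_mem hz (S.inv_mem hs)
      rwa [inv_inv] at this
    · show s * (s⁻¹ * z * s) * s⁻¹ = z
      group

/-- an isomorphism of the system onto a subgroup with centre `Z(S)` maps `Z(S)` onto itself -/
theorem map_Zc_of_iso [Finite S] (F : FusionSystem S) {N R : Subgroup Ω} {φ : N →* Ω}
    (hφ : φ ∈ F.Hom N) (hr : φ.range = R) (hZN : Zc S ≤ N)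
    (hcR : ∀ c ∈ R, (∀ y ∈ R, c * y = y * c) → c ∈ Zc S) :
    ((Zc S).subgroupOf N).map φ = Zc S := by
  have hNS : N ≤ S := (F.le_of_mem hφ).1
  have : Finite (Zc S) := finite_of_le (Trv.Zc_le S)
  apply Subgroup.eq_of_le_of_card_ge
  · rintro _ ⟨z, hz, rfl⟩
    have hz : (z : Ω) ∈ Zc S := Subgroup.mem_subgroupOf.mp hz
    apply hcR
    · rw [← hr]; exact ⟨z, rfl⟩
    · intro y hy
      rw [← hr] at hy
      obtain ⟨n, rfl⟩ := hy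
      rw [← map_mul, ← map_mul]
      congr 1
      apply Subtype.ext
      simp only [Subgroup.coe_mul]
      exact ((mem_Zc.mp hz).2 n (hNS n.2)).symm
  · rw [Subgroup.card_map_of_injective (F.injective_of_mem hφ)]
    exact (Nat.card_congr (Subgroup.subgroupOfEquivOfLe hZN).toEquiv).ge

/-- automorphisms of a subgroup with centre `Z(S)` preserve `Z(S)` -/
theorem aut_mem_Zc {R : Subgroup Ω} (hRS : R ≤ S)
    (hcR : ∀ c ∈ R, (∀ y ∈ R, c * y = y * c) → c ∈ Zc S) (β : MulAut R) {z : R}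
    (hz : (z : Ω) ∈ Zc S) : ((β z : R) : Ω) ∈ Zc S := by
  apply hcR _ (β z).2
  intro y hy
  have h1 : z * (β⁻¹ ⟨y, hy⟩) = (β⁻¹ ⟨y, hy⟩) * z :=
    Subtype.ext ((mem_Zc.mp hz).2 _ (hRS (β⁻¹ ⟨y, hy⟩).2)).symm
  have h2 := congrArg β h1
  rw [map_mul, map_mul, MulAut.apply_inv_self] at h2
  exact congrArg Subtype.val h2

namespace UB

/-- transitivity of the normalizer on the points outside `A` -/
theorem exists_conj_point [Fact p.Prime] [Finite S] (hB : UB p S A) {R : Subgroup Ω} (hRS : R ≤ S)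
    (hRA : R ⊓ A = Z2 S) {b : Ω} (hbS : b ∈ S) (hbA : b ∈ A)
    (hbN : b ∈ Subgroup.normalizer (R : Set Ω)) (hbR : b ∉ R) {Y₀ Y₁ : Subgroup Ω}
    (hY₀R : Y₀ ≤ R) (hZY₀ : Zc S ≤ Y₀) (hi₀ : (Zc S).relIndex Y₀ = p)
    (hY₁R : Y₁ ≤ R) (hZY₁ : Zc S ≤ Y₁) (hi₁ : (Zc S).relIndex Y₁ = p)
    {y₀ : Ω} (hy₀ : y₀ ∈ Y₀) (hy₀A : y₀ ∉ A) {y₁ : Ω} (hy₁ : y₁ ∈ Y₁) (hy₁A : y₁ ∉ A) :
    ∃ n : ℕ, Y₀.map (MulAut.conj (b ^ n)).toMonoidHom = Y₁ := by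
  have hp : p.Prime := Fact.out
  have h := hB.hUA
  have hy₀S : y₀ ∈ S := hRS (hY₀R hy₀)
  have hy₁S : y₁ ∈ S := hRS (hY₁R hy₁)
  have : Finite Y₁ := finite_of_le (hY₁R.trans hRS)
  have : Finite (Z2 S) := finite_of_le (Z2_le S)
  obtain ⟨c, hcdef⟩ : ∃ c, c = b * y₀ * b⁻¹ * y₀⁻¹ := ⟨_, rfl⟩
  have hcR : c ∈ R := by
    rw [hcdef]
    exact R.mul_mem ((Subgroup.mem_normalizer_iff.mp hbN y₀).mp (hY₀R hy₀)) (R.inv_mem (hY₀R hy₀))
  have hcA : c ∈ A := by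
    have e : c = b * (y₀ * b⁻¹ * y₀⁻¹) := by rw [hcdef]; group
    rw [e]
    exact A.mul_mem hbA (h.conj_mem hy₀S (A.inv_mem hbA))
  have hcZ2 : c ∈ Z2 S := hRA ▸ Subgroup.mem_inf.mpr ⟨hcR, hcA⟩
  have hcS : c ∈ S := Z2_le S hcZ2
  have hcZ : c ∉ Zc S := by
    intro hcZ
    have h1 : ((h.theta hy₀S ⟨b⁻¹, A.inv_mem hbA⟩ : A) : Ω) ∈ Zc S := by
      rw [UA.theta_apply]
      simp only [inv_inv]
      have e : b * (y₀ * b⁻¹ * y₀⁻¹) = c := by rw [hcdef]; group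
      rw [e]
      exact hcZ
    have h2 := (h.theta_mem_Zc_iff hy₀S hy₀A _).mp h1
    have h3 : b ∈ Z2 S := by
      have := Subgroup.inv_mem _ h2
      simpa using this
    rw [← hRA] at h3
    exact hbR h3.1
  -- decompose y₀ along y₁
  obtain ⟨a₁, ha₁, k, hy₀eq⟩ := h.exists_decomp hy₁S hy₁A hy₀S
  have hy₁k : y₁ ^ k ∈ Y₁ := Y₁.zpow_mem hy₁ k
  have ha₁R : a₁ ∈ R := by
    have e : a₁ = y₀ * (y₁ ^ k)⁻¹ := by rw [hy₀eq]; group
    rw [e]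
    exact R.mul_mem (hY₀R hy₀) (R.inv_mem (hY₁R hy₁k))
  have ha₁Z2 : a₁ ∈ Z2 S := hRA ▸ Subgroup.mem_inf.mpr ⟨ha₁R, ha₁⟩
  obtain ⟨ζ, hζ, i, ha₁inv⟩ := exists_decomp_of_relIndex_prime (Zc_le_Z2 S) hB.hidx hcZ2 hcZ
    (le_normalizer_Zc hcS) (Subgroup.inv_mem _ ha₁Z2)
  -- natural exponent
  obtain ⟨n, hn⟩ : ∃ n : ℕ, c ^ i = c ^ n := by
    have hord : 0 < orderOf c := by
      have h1 : orderOf (⟨c, hcS⟩ : S) = orderOf c := Subgroup.orderOf_mk c hcS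
      rw [← h1]
      exact orderOf_pos _
    refine ⟨(i % (orderOf c : ℤ)).toNat, ?_⟩
    rw [← zpow_natCast, Int.toNat_of_nonneg (Int.emod_nonneg _ (by exact_mod_cast hord.ne')),
      zpow_mod_orderOf]
  have hbc : ∀ m : ℕ, b * c ^ m = c ^ m * b := fun m => h.hAc b hbA _ (A.pow_mem hcA m)
  have hconj : ∀ m : ℕ, b ^ m * y₀ * (b ^ m)⁻¹ = c ^ m * y₀ := by
    intro m
    induction m with
    | zero => simp
    | succ m ih =>
      have e : b ^ (m + 1) * y₀ * (b ^ (m + 1))⁻¹ = b * (b ^ m * y₀ * (b ^ m)⁻¹) * b⁻¹ := by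
        rw [pow_succ']; group
      rw [e, ih]
      have hby : b * y₀ * b⁻¹ = c * y₀ := by rw [hcdef]; group
      calc b * (c ^ m * y₀) * b⁻¹ = (b * c ^ m) * y₀ * b⁻¹ := by group
        _ = (c ^ m * b) * y₀ * b⁻¹ := by rw [hbc m]
        _ = c ^ m * (b * y₀ * b⁻¹) := by group
        _ = c ^ m * (c * y₀) := by rw [hby]
        _ = c ^ (m + 1) * y₀ := by rw [pow_succ]; group
  obtain ⟨w, hwdef⟩ : ∃ w, w = c ^ n * y₀ := ⟨_, rfl⟩
  have hwY₁ : w ∈ Y₁ := by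
    have e : w = ζ⁻¹ * y₁ ^ k := by
      rw [hwdef, ← hn]
      have e1 : y₁ ^ k = a₁⁻¹ * y₀ := by rw [hy₀eq]; group
      rw [e1, ha₁inv]
      group
    rw [e]
    exact Y₁.mul_mem (Y₁.inv_mem (hZY₁ hζ)) hy₁k
  have hwA : w ∉ A := by
    intro hwA
    apply hy₀A
    have e : y₀ = (c ^ n)⁻¹ * w := by rw [hwdef]; group
    rw [e]
    exact A.mul_mem (A.inv_mem (A.pow_mem hcA n)) hwA
  have hwZ : w ∉ Zc S := fun hw => hwA (h.Zc_le hw)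
  have hbnS : b ^ n ∈ S := S.pow_mem hbS n
  have hbnN : b ^ n ∈ Subgroup.normalizer (R : Set Ω) := Subgroup.pow_mem _ hbN n
  refine ⟨n, ?_⟩
  have hY₀' : Y₀.map (MulAut.conj (b ^ n)).toMonoidHom ≤ R := by
    rintro _ ⟨y, hy, rfl⟩
    exact (Subgroup.mem_normalizer_iff.mp hbnN y).mp (hY₀R hy)
  have : Finite ↥(Y₀.map (MulAut.conj (b ^ n)).toMonoidHom) := finite_of_le (hY₀'.trans hRS)
  have hZle : Zc S ≤ Y₀.map (MulAut.conj (b ^ n)).toMonoidHom := by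
    rw [← map_conj_Zc hbnS]
    exact Subgroup.map_mono hZY₀
  have hi₀' : (Zc S).relIndex (Y₀.map (MulAut.conj (b ^ n)).toMonoidHom) = p := by
    have := Subgroup.relIndex_map_map_of_injective (f := (MulAut.conj (b ^ n)).toMonoidHom)
      (Zc S) Y₀ (MulAut.conj (b ^ n)).injective
    rw [map_conj_Zc hbnS] at this
    rw [this, hi₀]
  have hwY₀' : w ∈ Y₀.map (MulAut.conj (b ^ n)).toMonoidHom := by
    refine ⟨y₀, hy₀, ?_⟩
    show b ^ n * y₀ * (b ^ n)⁻¹ = w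
    rw [hconj n, hwdef]
  exact (sup_zpowers_of_relIndex_prime hZle hi₀' hwY₀' hwZ).symm.trans
    (sup_zpowers_of_relIndex_prime hZY₁ hi₁ hwY₁ hwZ)

end UB

end Cfsg.Agent.Lib.Helper7.Olv
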