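import Mathlib
import Cfsg.Prelude.Def_FusionSystem
import Cfsg.Agent.Lib.Helper7.OlvJ

set_option autoImplicit false

namespace Cfsg.Agent.Lib.Helper7.Olv

open Cfsg Cfsg.FusionSystem Cfsg.Agent.Lib.Helper7 Cfsg.Agent.Lib.Helper7.Trv
  Cfsg.Agent.Lib.Helper7.Exsp

variable {Ω : Type*} [Group Ω] {p : ℕ} {S A : Subgroup Ω}

namespace UB

/-- the normalizer of an abelian essential subgroup is not conjugate into an essential subgroup -/
theorem no_conj_normalizer [Fact p.Prime] [Finite S] (hB : UB p S A) (F : FusionSystem S)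
    (hF : F.IsSaturated p) (hAe : ¬ F.IsEssential p A) {P : Subgroup Ω} {x : Ω}
    (hE : F.IsEssential p P) (hD : EssData S A P x) (hinfP : P ⊓ A = Zc S) :
    ∀ R, F.IsEssential p R → ∀ Q', F.IsConj (normalizerIn S P) Q' → ¬ Q' ≤ R := by
  have hp : p.Prime := Fact.out
  have h := hB.hUA
  intro R hER Q' hNQ' hQ'R
  have hRA : R ≠ A := fun e => hAe (e ▸ hER)
  obtain ⟨x', hD'⟩ := essData_of_essential h F hF hER hRA
  have hPS := hD.hPS
  have hRS := hD'.hPS
  have : Finite R := finite_of_le hRS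
  obtain ⟨N, hNdef⟩ : ∃ N, N = normalizerIn S P := ⟨_, rfl⟩
  rw [← hNdef] at hNQ'
  have hNS : N ≤ S := hNdef ▸ inf_le_left
  have hPN : P ≤ N := hNdef ▸ le_inf hPS Subgroup.le_normalizer
  have hcardP : Nat.card P = p * Nat.card (Zc S) := by
    rw [h.card_of_not_le hPS hD.hxP hD.hxA, hinfP]
  have hcardN : Nat.card N = p * Nat.card P := by
    have h1 := hD.index_normalizer h F hF hE
    have h2 : P.relIndex N = p := by rw [hNdef]; exact h1
    rw [card_eq_relIndex_mul hPN, h2]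
  have hcardQ' : Nat.card Q' = Nat.card N := (card_eq_of_isConj F hNQ').symm
  have hcardR := h.card_of_not_le hRS hD'.hxP hD'.hxA
  have hle : Nat.card Q' ≤ Nat.card R := Subgroup.card_le_of_le hQ'R
  have : Finite (Zc S) := finite_of_le (Trv.Zc_le S)
  have hz0 : 0 < Nat.card (Zc S) := Nat.card_pos
  rcases hD'.inf_eq h F hF hER with ⟨hinfR, -⟩ | ⟨hinfR, -⟩
  · rw [hinfR] at hcardR
    rw [hcardQ', hcardN, hcardP, hcardR] at hle
    have h1 : 1 < p := hp.one_lt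
    nlinarith
  rw [hinfR, hB.card_Z2] at hcardR
  have hQR : Q' = R :=
    Subgroup.eq_of_le_of_card_ge hQ'R (by rw [hcardQ', hcardN, hcardP, hcardR])
  rw [hQR] at hNQ'
  obtain ⟨φ, hφ, hr⟩ := hNQ'
  obtain ⟨a₀, ha₀Z2, ha₀Z⟩ := hB.exists_not_mem_Zc
  have ha₀A := hB.hZ2A ha₀Z2
  have hZ2N : Z2 S ≤ N := by
    rw [hNdef]; exact le_inf (Z2_le S) (Z2_le_normalizer hPS hD.hZP)
  have hZ2R : Z2 S ≤ R := hinfR ▸ inf_le_left
  have hcR : ∀ c ∈ R, (∀ y ∈ R, c * y = y * c) → c ∈ Zc S := fun c hc hcc =>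
    h.center_le_Zc hRS hD'.hxP hD'.hxA (hZ2R ha₀Z2) ha₀A ha₀Z hc hcc
  have hZN : Zc S ≤ N := hD.hZP.trans hPN
  have hmapZ := map_Zc_of_iso F hφ hr hZN hcR
  obtain ⟨Y₀, hY₀def⟩ : ∃ Y₀, Y₀ = (P.subgroupOf N).map φ := ⟨_, rfl⟩
  have hPY₀ : F.IsConj P Y₀ := hY₀def ▸ isConj_map_of_le F hPN hφ
  have hY₀R : Y₀ ≤ R := by
    rw [hY₀def, ← hr]
    rintro _ ⟨y, -, rfl⟩
    exact ⟨y, rfl⟩
  have hZY₀ : Zc S ≤ Y₀ := by
    rw [← hmapZ, hY₀def]
    apply Subgroup.map_mono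
    intro z hz
    rw [Subgroup.mem_subgroupOf] at hz ⊢
    exact hD.hZP hz
  have hcardY₀ : Nat.card Y₀ = p * Nat.card (Zc S) := by
    rw [← card_eq_of_isConj F hPY₀, hcardP]
  have hi₀ : (Zc S).relIndex Y₀ = p := by
    have := card_eq_relIndex_mul hZY₀
    rw [hcardY₀] at this
    exact (Nat.eq_of_mul_eq_mul_right hz0 this).symm
  have key : F.IsConj P (Z2 S) := by
    by_cases hY₀A : Y₀ ≤ A
    · have : Y₀ = Z2 S := by
        have : Finite (Z2 S) := finite_of_le (Z2_le S)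
        apply Subgroup.eq_of_le_of_card_ge
        · rw [← hinfR]; exact le_inf hY₀R hY₀A
        · rw [hcardY₀, hB.card_Z2]
      rw [← this]
      exact hPY₀
    · obtain ⟨y₀, hy₀, hy₀A⟩ : ∃ y₀ ∈ Y₀, y₀ ∉ A := by
        by_contra hcon
        push Not at hcon
        exact hY₀A hcon
      obtain ⟨g, hA⟩ := hD'.exists_ahyp h F hF hER
      have hP₀ : A.subgroupOf R = (Z2 S).subgroupOf R := by
        rw [← hinfR, Subgroup.inf_subgroupOf_left]
      obtain ⟨Y₁, hY₁def⟩ :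
          ∃ Y₁, Y₁ = ((A.subgroupOf R).map g.toMonoidHom).map R.subtype := ⟨_, rfl⟩
      have hgF : R.subtype.comp g.toMonoidHom ∈ F.Hom R := (mem_autGroup_iff F hRS g).mp hA.hg
      have hZ2Y₁ : F.IsConj (Z2 S) Y₁ := by
        have := isConj_map_of_le F hZ2R hgF
        rw [← hP₀] at this
        convert this using 1
        rw [hY₁def, Subgroup.map_map]
      have hY₁R : Y₁ ≤ R := by rw [hY₁def]; exact Subgroup.map_subtype_le _
      have hZY₁ : Zc S ≤ Y₁ := by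
        intro z hz
        have hzR : z ∈ R := hD'.hZP hz
        have h1 := aut_mem_Zc hRS hcR g⁻¹ (z := ⟨z, hzR⟩) hz
        rw [hY₁def]
        refine ⟨g (g⁻¹ ⟨z, hzR⟩), ⟨g⁻¹ ⟨z, hzR⟩, ?_, rfl⟩, ?_⟩
        · exact Subgroup.mem_subgroupOf.mpr (h.Zc_le h1)
        · simp
      have hcardY₁ : Nat.card Y₁ = p * Nat.card (Zc S) := by
        rw [← card_eq_of_isConj F hZ2Y₁, hB.card_Z2]
      have hi₁ : (Zc S).relIndex Y₁ = p := by
        have := card_eq_relIndex_mul hZY₁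
        rw [hcardY₁] at this
        exact (Nat.eq_of_mul_eq_mul_right hz0 this).symm
      obtain ⟨y₁, hy₁, hy₁A⟩ : ∃ y₁ ∈ Y₁, y₁ ∉ A := by
        by_contra hcon
        push Not at hcon
        apply hA.map_ne
        have : Finite ↥(A.subgroupOf R) := inferInstance
        apply Subgroup.eq_of_le_of_card_ge
        · rintro _ ⟨a, ha, rfl⟩
          rw [Subgroup.mem_subgroupOf]
          apply hcon
          rw [hY₁def]
          exact ⟨g a, ⟨a, ha, rfl⟩, rfl⟩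
        · rw [Subgroup.card_map_of_injective g.injective]
      obtain ⟨n, hnN, hnR⟩ := lt_normalizerIn_of_ne h.hS hRS hD'.hPne
      have hnS : n ∈ S := (Subgroup.mem_inf.mp hnN).1
      have hnNR : n ∈ Subgroup.normalizer (R : Set Ω) := (Subgroup.mem_inf.mp hnN).2
      have hy₀S := hRS (hY₀R hy₀)
      obtain ⟨b, hbA, k, hnb⟩ := h.exists_decomp hy₀S hy₀A hnS
      have hy₀k : y₀ ^ k ∈ R := R.zpow_mem (hY₀R hy₀) k
      have hbe : b = n * (y₀ ^ k)⁻¹ := by rw [hnb]; group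
      have hbS : b ∈ S := h.hAS hbA
      have hbN : b ∈ Subgroup.normalizer (R : Set Ω) := by
        rw [hbe]
        exact Subgroup.mul_mem _ hnNR (Subgroup.le_normalizer (R.inv_mem hy₀k))
      have hbR : b ∉ R := by
        intro hbR
        apply hnR
        rw [hnb]
        exact R.mul_mem hbR hy₀k
      obtain ⟨m, hm⟩ := hB.exists_conj_point hRS hinfR hbS hbA hbN hbR hY₀R hZY₀ hi₀ hY₁R hZY₁ hi₁
        hy₀ hy₀A hy₁ hy₁A
      have hY₀Y₁ : F.IsConj Y₀ Y₁ := by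
        refine ⟨conjHom Y₀ (b ^ m), F.conj_mem (hY₀R.trans hRS) (S.pow_mem hbS m), ?_⟩
        rw [← hm]
        unfold conjHom
        rw [MonoidHom.range_comp, Subgroup.range_subtype]
      exact isConj_trans F hPY₀ (isConj_trans F hY₀Y₁ (isConj_symm F hZ2Y₁))
  have h1 := hE.2.1.2 (Z2 S) key
  rw [normalizerIn_Z2, ← hNdef] at h1
  apply hD'.hPne
  apply Subgroup.eq_of_le_of_card_ge hRS
  rw [hcardR, ← hcardP, ← hcardN]
  exact h1

end UB

end Cfsg.Agent.Lib.Helper7.Olv
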