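import Mathlib
import Cfsg.Prelude.Def_FusionSystem
import Cfsg.Agent.Lib.Helper7.OlvK
import Cfsg.Agent.Lib.Helper7.TrvK

set_option autoImplicit false

namespace Cfsg.Agent.Lib.Helper7.Olv

open Cfsg Cfsg.FusionSystem Cfsg.Agent.Lib.Helper7 Cfsg.Agent.Lib.Helper7.Trv
  Cfsg.Agent.Lib.Helper7.Exsp

variable {Ω : Type*} [Group Ω] {p : ℕ} {S A : Subgroup Ω}

/-- an `F`-automorphism of `S` that stabilizes a chain `1 ≤ L ≤ Z(S)` is trivial on `Z(S)` -/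
theorem fix_center_of_stab' [Fact p.Prime] [Finite S] (hS : IsPGroup p S) (F : FusionSystem S)
    (hF : F.IsSaturated p) (LL : Subgroup S) (hLp : ∀ a ∈ LL, a ^ p = 1) {σ : MulAut S} (hσ : σ ∈ F.autGroup S)
    (h1 : ∀ a ∈ LL, σ a = a) (h2 : ∀ z ∈ ZS S, z⁻¹ * σ z ∈ LL) :
    ∀ z ∈ ZS S, σ z = z := by
  have hp : p.Prime := Fact.out
  intro z hz
  have hpow : ∀ k : ℕ, (σ ^ k) z = z * (z⁻¹ * σ z) ^ k := by
    intro k
    induction k with
    | zero => simp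
    | succ k ih =>
      rw [pow_succ', MulAut.mul_apply, ih, map_mul, map_pow, h1 _ (h2 z hz), pow_succ']
      have : σ z = z * (z⁻¹ * σ z) := by simp
      rw [← mul_assoc, ← this]
  have hσp : (σ ^ p) z = z := by
    rw [hpow, hLp _ (h2 z hz), mul_one]
  obtain ⟨-, R, hR⟩ := isFullyAutomized_top_of_isSaturated p hS F hF
  have hRn : (R : Subgroup (F.autGroup S)).Normal := by
    rw [hR]
    refine ⟨fun n hn g => ?_⟩
    rw [Subgroup.mem_subgroupOf] at hn ⊢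
    obtain ⟨s, hs, hsn⟩ := (mem_autInducedBy_iff S S _).mp hn
    rw [mem_autInducedBy_iff]
    refine ⟨((g : MulAut S) ⟨s, hs⟩ : S), ((g : MulAut S) ⟨s, hs⟩).2, fun x => ?_⟩
    show ((((g : MulAut S) * n * (g : MulAut S)⁻¹) x : S) : Ω) = _
    simp only [MulAut.mul_apply]
    have e : (n : MulAut S) ((g : MulAut S)⁻¹ x) =
        (⟨s, hs⟩ : S) * ((g : MulAut S)⁻¹ x) * (⟨s, hs⟩ : S)⁻¹ := Subtype.ext (hsn _)
    rw [e, map_mul, map_mul, map_inv, MulAut.apply_inv_self]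
    rfl
  obtain ⟨m, hmdef⟩ : ∃ m : ℕ, m = (R : Subgroup (F.autGroup S)).index := ⟨_, rfl⟩
  have hm := Subgroup.pow_index_mem (R : Subgroup (F.autGroup S)) (⟨σ, hσ⟩ : F.autGroup S)
  rw [← hmdef] at hm
  have hcop : Nat.Coprime p m := by
    rw [hmdef]
    exact (Nat.Prime.coprime_iff_not_dvd hp).mpr R.not_dvd_index
  rw [hR, Subgroup.mem_subgroupOf] at hm
  obtain ⟨s, hs, hsσ⟩ := (mem_autInducedBy_iff S S _).mp hm
  have hσm : (σ ^ m) z = z := by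
    apply Subtype.ext
    have := hsσ z
    simp only [Subgroup.coe_pow] at this
    rw [this]
    have hc := congrArg Subtype.val ((mem_ZS.mp hz) ⟨s, hs⟩)
    simp only [Subgroup.coe_mul] at hc
    rw [hc]
    group
  -- Bezout
  have hA : σ ^ p ∈ MulAction.stabilizer (MulAut S) z := by
    rw [MulAction.mem_stabilizer_iff]; exact hσp
  have hB : σ ^ m ∈ MulAction.stabilizer (MulAut S) z := by
    rw [MulAction.mem_stabilizer_iff]; exact hσm
  have hbez := Nat.gcd_eq_gcd_ab p m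
  rw [Nat.Coprime.gcd_eq_one hcop] at hbez
  have h3 : σ = (σ ^ p) ^ (p.gcdA m) * (σ ^ m) ^ (p.gcdB m) := by
    rw [← zpow_natCast, ← zpow_natCast, ← zpow_mul, ← zpow_mul, ← zpow_add]
    have : (p : ℤ) * p.gcdA m + (m : ℤ) * p.gcdB m = 1 := by
      push_cast at hbez
      linarith
    rw [this, zpow_one]
  have h4 : σ ∈ MulAction.stabilizer (MulAut S) z := by
    rw [h3]
    exact Subgroup.mul_mem _ (Subgroup.zpow_mem _ hA _) (Subgroup.zpow_mem _ hB _)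
  exact MulAction.mem_stabilizer_iff.mp h4


/-- `τ` inverts `L` and acts trivially on `Z(S)/L` -/
def Rinv' (LL : Subgroup S) (τ : MulAut S) : Prop :=
  (∀ a ∈ LL, τ a = a⁻¹) ∧ ∀ z ∈ ZS S, z⁻¹ * τ z ∈ LL

theorem Rinv'.conj {LL : Subgroup S} (hchar : ∀ α : MulAut S, ∀ a ∈ LL, α a ∈ LL) {τ : MulAut S}
    (hτ : Rinv' LL τ) (α : MulAut S) : Rinv' LL (α * τ * α⁻¹) := by
  refine ⟨fun a ha => ?_, fun z hz => ?_⟩
  · show α (τ (α⁻¹ a)) = a⁻¹
    rw [hτ.1 _ (hchar α⁻¹ a ha), map_inv, MulAut.apply_inv_self]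
  · show z⁻¹ * α (τ (α⁻¹ z)) ∈ LL
    have := hchar α _ (hτ.2 _ (map_mem_ZS α⁻¹ hz))
    rw [map_mul, map_inv, MulAut.apply_inv_self] at this
    exact this

/-- two inverting automorphisms agree on `Z(S)` -/
theorem Rinv'.agree [Fact p.Prime] [Finite S] (hS : IsPGroup p S) (F : FusionSystem S)
    (hF : F.IsSaturated p) {LL : Subgroup S} (hLp : ∀ a ∈ LL, a ^ p = 1) {τ₁ τ₂ : MulAut S}
    (h₁ : τ₁ ∈ F.autGroup S) (h₂ : τ₂ ∈ F.autGroup S) (hR₁ : Rinv' LL τ₁) (hR₂ : Rinv' LL τ₂) :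
    ∀ z ∈ ZS S, τ₁ z = τ₂ z := by
  have key : ∀ {τ τ' : MulAut S}, τ ∈ F.autGroup S → τ' ∈ F.autGroup S → Rinv' LL τ →
      Rinv' LL τ' → ∀ z ∈ ZS S, τ (τ' z) = z := by
    intro τ τ' hτ hτ' hR hR'
    have := fix_center_of_stab' hS F hF LL hLp (Subgroup.mul_mem _ hτ hτ')
      (fun a ha => by
        show τ (τ' a) = a
        rw [hR'.1 a ha, map_inv, hR.1 a ha, inv_inv])
      (fun z hz => by
        show z⁻¹ * τ (τ' z) ∈ LL
        have hl := hR'.2 z hz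
        have e : τ' z = z * (z⁻¹ * τ' z) := by simp
        rw [e, map_mul, hR.1 _ hl]
        have := Subgroup.mul_mem _ (hR.2 z hz) (Subgroup.inv_mem _ hl)
        rw [← mul_assoc]
        exact this)
    exact this
  intro z hz
  have hw : τ₂ z ∈ ZS S := map_mem_ZS τ₂ hz
  have e1 : τ₁ (τ₂ (τ₂ z)) = τ₂ z := key h₁ h₂ hR₁ hR₂ _ hw
  have e2 : τ₂ (τ₂ z) = z := key h₂ h₂ hR₂ hR₂ z hz
  rw [e2] at e1
  exact e1

/-- the central part of the commutator subgroup -/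
def L0 (S : Subgroup Ω) : Subgroup Ω := Zc S ⊓ (commutator ↥S).map S.subtype

/-- the same inside `S` -/
def LS0 (S : Subgroup Ω) : Subgroup S := (L0 S).subgroupOf S

theorem mem_LS0 {a : S} : a ∈ LS0 S ↔ a ∈ ZS S ∧ a ∈ commutator ↥S := by
  unfold LS0 L0 ZS
  rw [Subgroup.mem_subgroupOf, Subgroup.mem_inf, Subgroup.mem_subgroupOf]
  constructor
  · rintro ⟨h1, c, hc, hca⟩
    refine ⟨h1, ?_⟩
    have : c = a := Subtype.ext hca
    rw [← this]
    exact hc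
  · rintro ⟨h1, h2⟩
    exact ⟨h1, a, h2, rfl⟩

theorem map_mem_LS0 (α : MulAut S) {a : S} (ha : a ∈ LS0 S) : α a ∈ LS0 S := by
  rw [mem_LS0] at ha ⊢
  refine ⟨map_mem_ZS α ha.1, ?_⟩
  have hchar : (commutator ↥S).Characteristic := inferInstance
  have := (Subgroup.characteristic_iff_map_eq.mp hchar) α
  rw [← this]
  exact ⟨a, ha.2, rfl⟩

end Cfsg.Agent.Lib.Helper7.Olv
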