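import Mathlib
import Cfsg.Prelude.Def_FusionSystem
import Cfsg.Agent.Lib.Helper7.OlvL

set_option autoImplicit false

namespace Cfsg.Agent.Lib.Helper7.Olv

open Cfsg Cfsg.FusionSystem Cfsg.Agent.Lib.Helper7 Cfsg.Agent.Lib.Helper7.Trv
  Cfsg.Agent.Lib.Helper7.Exsp
open scoped commutatorElement

variable {Ω : Type*} [Group Ω] {p : ℕ} {S A : Subgroup Ω}

/-- the data attached to an abelian essential subgroup -/
structure HD (p : ℕ) (S A : Subgroup Ω) (F : FusionSystem S) (P : Subgroup Ω) (x a₀ : Ω) :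
    Prop where
  hB : UB p S A
  hF : F.IsSaturated p
  hAe : ¬ F.IsEssential p A
  hE : F.IsEssential p P
  hD : EssData S A P x
  hinf : P ⊓ A = Zc S
  hab : ∀ a ∈ P, ∀ b ∈ P, a * b = b * a
  ha₀ : a₀ ∈ Z2 S
  ha₀Z : a₀ ∉ Zc S
  hL0 : Nat.card (L0 S) = p

namespace HD

variable {F : FusionSystem S} {P : Subgroup Ω} {x a₀ : Ω}

theorem hc (H : HD p S A F P x a₀) (a b : P) : a * b = b * a := Subtype.ext (H.hab a a.2 b b.2)

theorem hn (H : HD p S A F P x a₀) : a₀ ∈ Subgroup.normalizer (P : Set Ω) :=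
  Z2_le_normalizer H.hD.hPS H.hD.hZP H.ha₀

/-- conjugation by `a₀` on `P` -/
noncomputable def u (H : HD p S A F P x a₀) : MulAut P := uAut P a₀ H.hn

theorem u_apply (H : HD p S A F P x a₀) (y : P) : ((H.u y : P) : Ω) = a₀ * y * a₀⁻¹ := rfl

theorem fixSub_u [Fact p.Prime] [Finite S] (H : HD p S A F P x a₀) :
    fixSub H.u = (Zc S).subgroupOf P := by
  have h := H.hB.hUA
  ext y
  rw [mem_fixSub, Subgroup.mem_subgroupOf]
  constructor
  · intro hy
    have hy' : a₀ * y * a₀⁻¹ = y := congrArg Subtype.val hy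
    have hcomm : (y : Ω) * a₀ = a₀ * y := by
      calc (y : Ω) * a₀ = (a₀ * y * a₀⁻¹) * a₀ := by rw [hy']
        _ = a₀ * y := by group
    have hyA : (y : Ω) ∈ A := by
      by_contra hyA
      exact H.ha₀Z (h.mem_Zc_of_comm (H.hD.hPS y.2) hyA (H.hB.hZ2A H.ha₀) hcomm)
    rw [← H.hinf]
    exact ⟨y.2, hyA⟩
  · intro hy
    apply Subtype.ext
    rw [u_apply, (mem_Zc.mp hy).2 a₀ (Z2_le S H.ha₀)]
    group

theorem comm_mem_L0 (H : HD p S A F P x a₀) (y : P) : ((y⁻¹ * H.u y : P) : Ω) ∈ L0 S := by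
  have hyS : (y : Ω) ∈ S := H.hD.hPS y.2
  have ha₀S : a₀ ∈ S := Z2_le S H.ha₀
  have hc := (mem_Z2.mp H.ha₀).2 y hyS
  have e : ((y⁻¹ * H.u y : P) : Ω) = a₀ * y * a₀⁻¹ * (y : Ω)⁻¹ := by
    rw [Subgroup.coe_mul, Subgroup.coe_inv, u_apply]
    have h1 := (mem_Zc.mp hc).2 y hyS
    calc (y : Ω)⁻¹ * (a₀ * y * a₀⁻¹) = (y : Ω)⁻¹ * ((a₀ * y * a₀⁻¹ * (y : Ω)⁻¹) * y) := by group
      _ = (y : Ω)⁻¹ * (y * (a₀ * y * a₀⁻¹ * (y : Ω)⁻¹)) := by rw [h1]
      _ = a₀ * y * a₀⁻¹ * (y : Ω)⁻¹ := by group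
  rw [e]
  refine ⟨hc, ⁅(⟨a₀, ha₀S⟩ : S), ⟨y, hyS⟩⁆, ?_, ?_⟩
  · exact Subgroup.commutator_mem_commutator (Subgroup.mem_top _) (Subgroup.mem_top _)
  · rw [commutatorElement_def]
    rfl

theorem commSub_le [Fact p.Prime] [Finite S] (H : HD p S A F P x a₀) :
    commSub H.hc H.u ≤ (L0 S).subgroupOf P := by
  rintro _ ⟨y, rfl⟩
  rw [Subgroup.mem_subgroupOf, commHom_apply]
  exact H.comm_mem_L0 y

theorem u_ne_one [Fact p.Prime] [Finite S] (H : HD p S A F P x a₀) : H.u ≠ 1 := by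
  have h := H.hB.hUA
  intro h1
  apply H.ha₀Z
  apply h.mem_Zc_of_comm (H.hD.hPS H.hD.hxP) H.hD.hxA (H.hB.hZ2A H.ha₀)
  have := congrArg (fun f : MulAut P => ((f ⟨x, H.hD.hxP⟩ : P) : Ω)) h1
  simp only [MulAut.one_apply] at this
  have h2 : a₀ * x * a₀⁻¹ = x := this
  calc x * a₀ = (a₀ * x * a₀⁻¹) * a₀ := by rw [h2]
    _ = a₀ * x := by group

theorem card_commSub [Fact p.Prime] [Finite S] (H : HD p S A F P x a₀) :
    Nat.card (commSub H.hc H.u) = p := by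
  have h := H.hB.hUA
  rw [← index_fixSub, H.fixSub_u]
  show (Zc S).relIndex P = p
  rw [← H.hinf, Subgroup.inf_relIndex_left]
  exact H.hD.relIndex_eq h

theorem commSub_eq [Fact p.Prime] [Finite S] (H : HD p S A F P x a₀) :
    commSub H.hc H.u = (L0 S).subgroupOf P := by
  have : Finite P := finite_of_le H.hD.hPS
  apply Subgroup.eq_of_le_of_card_ge H.commSub_le
  rw [H.card_commSub]
  have hle : L0 S ≤ P := (inf_le_left : L0 S ≤ Zc S).trans H.hD.hZP
  rw [Nat.card_congr (Subgroup.subgroupOfEquivOfLe hle).toEquiv, H.hL0]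

theorem commSub_le_fixSub [Fact p.Prime] [Finite S] (H : HD p S A F P x a₀) :
    commSub H.hc H.u ≤ fixSub H.u := by
  rw [H.fixSub_u]
  intro y hy
  have := H.commSub_le hy
  rw [Subgroup.mem_subgroupOf] at this ⊢
  exact this.1

theorem u_pow_apply [Fact p.Prime] [Finite S] (H : HD p S A F P x a₀) (y : P) (k : ℕ) :
    (H.u ^ k) y = y * (y⁻¹ * H.u y) ^ k := by
  have hfix : H.u (y⁻¹ * H.u y) = y⁻¹ * H.u y :=
    H.commSub_le_fixSub (comm_mem_commSub H.hc H.u y)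
  induction k with
  | zero => simp
  | succ k ih =>
    rw [pow_succ', MulAut.mul_apply, ih, map_mul, map_pow, hfix, pow_succ']
    have : H.u y = y * (y⁻¹ * H.u y) := by simp
    rw [← mul_assoc, ← this]

theorem u_pow [Fact p.Prime] [Finite S] (H : HD p S A F P x a₀) : H.u ^ p = 1 := by
  ext y
  rw [H.u_pow_apply, MulAut.one_apply]
  have h2 : y⁻¹ * H.u y ∈ commSub H.hc H.u := comm_mem_commSub H.hc H.u y
  have h3 := pow_eq_one_of_card_prime H.card_commSub h2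
  rw [h3, mul_one]

theorem u_mem [Fact p.Prime] [Finite S] (H : HD p S A F P x a₀) : H.u ∈ autInducedBy S P :=
  uAut_mem_autInducedBy (Z2_le S H.ha₀) _

theorem inn_eq_bot (H : HD p S A F P x a₀) : Inn P = ⊥ := by
  rw [eq_bot_iff]
  rintro _ ⟨y, rfl⟩
  rw [Subgroup.mem_bot]
  ext z
  rw [MulAut.conj_apply, MulAut.one_apply]
  simp only [Subgroup.coe_mul, Subgroup.coe_inv]
  rw [H.hab y y.2 z z.2]
  group

/-- `Aut_S(P)` is generated by `u` -/
theorem autInducedBy_eq [Fact p.Prime] [Finite S] (H : HD p S A F P x a₀) :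
    autInducedBy S P = Subgroup.zpowers H.u := by
  have h := H.hB.hUA
  have : Finite P := finite_of_le H.hD.hPS
  obtain ⟨g, hA⟩ := H.hD.exists_ahyp h F H.hF H.hE
  have hT : Nat.card (autInducedBy S P) ≤ p := by
    have := hA.relIndex_inn_le
    rwa [H.inn_eq_bot, Subgroup.relIndex_bot_left] at this
  symm
  apply Subgroup.eq_of_le_of_card_ge
  · rw [Subgroup.zpowers_le]; exact H.u_mem
  · rw [Nat.card_zpowers, orderOf_eq_prime H.u_pow H.u_ne_one]
    exact hT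

theorem isFullyAutomized_isReceptive [Fact p.Prime] [Finite S] (H : HD p S A F P x a₀) :
    F.IsFullyAutomized p P ∧ F.IsReceptive P := by
  obtain ⟨R₀, hcR, hFAR, hRecR⟩ := H.hF P H.hD.hPS
  exact isFullyAutomized_isReceptive_of_isFullyNormalized p H.hB.hUA.hS F H.hE.2.1 hFAR hRecR hcR

/-- the abstract hypothesis holds -/
theorem hyp [Fact p.Prime] [Finite S] (H : HD p S A F P x a₀) :
    Hyp p H.hc (F.autGroup P) H.u := by
  have : Finite P := finite_of_le H.hD.hPS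
  refine ⟨H.hB.hUA.hS.to_le H.hD.hPS, autInducedBy_le_autGroup F H.hD.hPS H.u_mem, H.u_ne_one,
    H.u_pow, ?_, H.card_commSub, H.commSub_le_fixSub⟩
  intro Q hQ hQp
  obtain ⟨a, -, ha⟩ := exists_conj_le_autInducedBy p F H.isFullyAutomized_isReceptive.1 Q hQp hQ
  rw [H.autInducedBy_eq] at ha
  have hle : Q.map (MulAut.conj a).toMonoidHom ≤ Subgroup.zpowers H.u := by
    rintro _ ⟨β, hβ, rfl⟩
    exact ha β hβ
  have h1 := Subgroup.card_le_of_le hle
  rw [Subgroup.card_map_of_injective (MulAut.conj a).injective, Nat.card_zpowers,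
    orderOf_eq_prime H.u_pow H.u_ne_one] at h1
  exact h1

/-- `Aut_S(P)` is not normal in `Aut_F(P)` -/
theorem exists_not_normalizing [Fact p.Prime] [Finite S] (H : HD p S A F P x a₀) :
    ∃ g ∈ F.autGroup P, g * H.u * g⁻¹ ∉ Subgroup.zpowers H.u := by
  have h := H.hB.hUA
  have : Finite P := finite_of_le H.hD.hPS
  obtain ⟨g, hA⟩ := H.hD.exists_ahyp h F H.hF H.hE
  refine ⟨g, hA.hg, fun hmem => ?_⟩
  rw [← H.autInducedBy_eq] at hmem
  have := hA.hgT H.u H.u_mem hmem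
  rw [H.inn_eq_bot, Subgroup.mem_bot] at this
  exact H.u_ne_one this

/-- the extension to `S` of the inverting element attached to a non-normalizing `k` -/
theorem exists_invertor [Fact p.Prime] [Finite S] (H : HD p S A F P x a₀) (hp2 : p ≠ 2)
    {k : MulAut P} (hk : k ∈ F.autGroup P) (hne : k * H.u * k⁻¹ ∉ Subgroup.zpowers H.u) :
    ∃ τ ∈ F.autGroup S, Rinv' (LS0 S) τ ∧ ∀ y : P, y ∈ fixSub H.u →
      (((τ ⟨y, H.hD.hPS y.2⟩ : S) : Ω) = y ↔ y ∈ fixSub (k * H.u * k⁻¹)) := by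
  have h := H.hB.hUA
  have hPS := H.hD.hPS
  have : Finite P := finite_of_le hPS
  have hpair := Pair.of_conj H.hyp hk hne
  obtain ⟨t, htG, htu, htC, htL⟩ := hpair.exists_inverting
  have hnorm : ∀ β ∈ autInducedBy S P, t * β * t⁻¹ ∈ autInducedBy S P := by
    intro β hβ
    rw [H.autInducedBy_eq] at hβ ⊢
    apply conj_zpow_mem _ hβ
    rw [htu, mul_inv_cancel_right]
    exact Subgroup.mem_zpowers _
  have hRec := H.isFullyAutomized_isReceptive.2
  obtain ⟨β₂, hβ₂, hβ₂ext⟩ := exists_extension_to_normalizer F hRec t htG hnorm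
  have hNS : normalizerIn S P ≤ S := inf_le_left
  have hφ₂ : (normalizerIn S P).subtype.comp β₂.toMonoidHom ∈ F.Hom (normalizerIn S P) :=
    (mem_autGroup_iff F hNS β₂).mp hβ₂
  obtain ⟨τ, hτ, hτext⟩ := exists_aut_of_no_essential p h.hS F H.hF hNS
    (H.hB.no_conj_normalizer F H.hF H.hAe H.hE H.hD H.hinf) hφ₂
  have hτP : ∀ y : P, ((τ ⟨y, hPS y.2⟩ : S) : Ω) = (t y : Ω) := by
    intro y
    have h1 := hτext (Subgroup.inclusion (le_inf hRec.1 Subgroup.le_normalizer) y)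
    have h2 := congrArg Subtype.val (hβ₂ext y)
    exact h1.symm.trans h2
  have hfixeq : fixSub H.u = (Zc S).subgroupOf P := H.fixSub_u
  have hcommeq : commSub H.hc H.u = (L0 S).subgroupOf P := H.commSub_eq
  have hLp : ∀ a ∈ commSub H.hc H.u, a ^ p = 1 := fun a ha =>
    pow_eq_one_of_card_prime H.card_commSub ha
  have htZ : ∀ y : P, y ∈ fixSub H.u → ∃ c ∈ fixSub H.u ⊓ fixSub (k * H.u * k⁻¹),
      ∃ a ∈ commSub H.hc H.u, y = c * a ∧ t y = c * a⁻¹ := by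
    intro y hy
    obtain ⟨c, hcC, a, ha, rfl⟩ := hpair.exists_mul_of_mem hy
    exact ⟨c, hcC, a, ha, rfl, by rw [map_mul, htC c hcC, htL a ha]⟩
  have hL0Z : L0 S ≤ Zc S := inf_le_left
  refine ⟨τ, hτ, ⟨fun a ha => ?_, fun z hz => ?_⟩, fun y hy => ?_⟩
  · have haL : (a : Ω) ∈ L0 S := Subgroup.mem_subgroupOf.mp ha
    have haP : (a : Ω) ∈ P := H.hD.hZP (hL0Z haL)
    have h1 : (⟨(a : Ω), haP⟩ : P) ∈ commSub H.hc H.u := by
      rw [hcommeq, Subgroup.mem_subgroupOf]; exact haL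
    apply Subtype.ext
    have := hτP ⟨(a : Ω), haP⟩
    rw [htL _ h1] at this
    exact this
  · have hzZ : (z : Ω) ∈ Zc S := Subgroup.mem_subgroupOf.mp hz
    have hzP : (z : Ω) ∈ P := H.hD.hZP hzZ
    have h1 : (⟨(z : Ω), hzP⟩ : P) ∈ fixSub H.u := by
      rw [hfixeq, Subgroup.mem_subgroupOf]; exact hzZ
    obtain ⟨c, hcC, a, ha, hx, htx⟩ := htZ _ h1
    have h2 := hτP ⟨(z : Ω), hzP⟩
    rw [htx] at h2
    unfold LS0
    rw [Subgroup.mem_subgroupOf]
    show (z : Ω)⁻¹ * ((τ z : S) : Ω) ∈ L0 S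
    have hz' : (z : Ω) = (c : Ω) * (a : Ω) := congrArg Subtype.val hx
    have e1 : ((τ z : S) : Ω) = (c : Ω) * (a : Ω)⁻¹ := h2
    rw [e1, hz']
    have e2 : ((c : Ω) * (a : Ω))⁻¹ * ((c : Ω) * (a : Ω)⁻¹) = (a : Ω)⁻¹ * (a : Ω)⁻¹ := by group
    rw [e2]
    have haL : (a : Ω) ∈ L0 S := by
      rw [hcommeq, Subgroup.mem_subgroupOf] at ha; exact ha
    exact Subgroup.mul_mem _ (Subgroup.inv_mem _ haL) (Subgroup.inv_mem _ haL)
  · obtain ⟨c, hcC, a, ha, hxe, htx⟩ := htZ y hy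
    have h2 := hτP y
    rw [htx] at h2
    rw [h2]
    constructor
    · intro he
      have he' : c * a⁻¹ = c * a := by
        apply Subtype.ext
        rw [hxe] at he
        exact he
      have h3 : a⁻¹ = a := mul_left_cancel he'
      have h4 : a * a = 1 := by
        nth_rewrite 1 [← h3]
        exact inv_mul_cancel a
      have h5 : a = 1 := eq_one_of_sq_of_pow hp2 h4 (hLp a ha)
      rw [hxe, h5, mul_one]
      exact hcC.2
    · intro hx'
      have h3 := htC y ⟨hy, hx'⟩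
      rw [htx] at h3
      exact congrArg Subtype.val h3

end HD

end Cfsg.Agent.Lib.Helper7.Olv
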