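import Mathlib
import Cfsg.Prelude.Def_FusionSystem
import Cfsg.Agent.Lib.Helper7.OlvM

set_option autoImplicit false

namespace Cfsg.Agent.Lib.Helper7.Olv

open Cfsg Cfsg.FusionSystem Cfsg.Agent.Lib.Helper7 Cfsg.Agent.Lib.Helper7.Trv
  Cfsg.Agent.Lib.Helper7.Exsp

variable {Ω : Type*} [Group Ω] {p : ℕ} {S A : Subgroup Ω}

/-- the automorphisms in `G` fixing `Z(S)` pointwise -/
def fixZc {R : Subgroup Ω} (_hRS : R ≤ S)
    (_hcR : ∀ c ∈ R, (∀ y ∈ R, c * y = y * c) → c ∈ Zc S) (G : Subgroup (MulAut R)) :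
    Subgroup G where
  carrier := {γ | ∀ z : R, (z : Ω) ∈ Zc S → (γ : MulAut R) z = z}
  one_mem' := fun z _ => rfl
  mul_mem' := by
    intro a b ha hb z hz
    show (a : MulAut R) ((b : MulAut R) z) = z
    rw [hb z hz, ha z hz]
  inv_mem' := by
    intro a ha z hz
    show (a : MulAut R)⁻¹ z = z
    rw [inv_apply_eq]
    exact (ha z hz).symm

theorem fixZc_normal {R : Subgroup Ω} (hRS : R ≤ S)
    (hcR : ∀ c ∈ R, (∀ y ∈ R, c * y = y * c) → c ∈ Zc S) (G : Subgroup (MulAut R)) :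
    (fixZc hRS hcR G).Normal := by
  refine ⟨fun n hn g z hz => ?_⟩
  show (g : MulAut R) ((n : MulAut R) ((g : MulAut R)⁻¹ z)) = z
  have h1 := aut_mem_Zc hRS hcR (g : MulAut R)⁻¹ hz
  rw [hn _ h1, MulAut.apply_inv_self]

namespace UB

/-- essential subgroups have order at most `p² |Z(S)|` -/
theorem card_essential_le [Fact p.Prime] [Finite S] (hB : UB p S A) (F : FusionSystem S)
    (hF : F.IsSaturated p) (hAe : ¬ F.IsEssential p A) {R : Subgroup Ω}
    (hER : F.IsEssential p R) : Nat.card R ≤ p * (p * Nat.card (Zc S)) := by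
  have hp : p.Prime := Fact.out
  have h := hB.hUA
  have hRA : R ≠ A := fun e => hAe (e ▸ hER)
  obtain ⟨x', hD'⟩ := essData_of_essential h F hF hER hRA
  have hcardR := h.card_of_not_le hD'.hPS hD'.hxP hD'.hxA
  rcases hD'.inf_eq h F hF hER with ⟨hinfR, -⟩ | ⟨hinfR, -⟩
  · rw [hinfR] at hcardR
    rw [hcardR]
    exact Nat.mul_le_mul_left p (Nat.le_mul_of_pos_left _ hp.pos)
  · rw [hinfR, hB.card_Z2] at hcardR
    rw [hcardR]

/-- automorphisms of a nonabelian essential subgroup act on invariant central subgroups like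
automorphisms of `S` -/
theorem nonab_invariant [Fact p.Prime] [Finite S] (hB : UB p S A) (F : FusionSystem S)
    (hF : F.IsSaturated p) (hAe : ¬ F.IsEssential p A) {R : Subgroup Ω} {x' : Ω}
    (hER : F.IsEssential p R) (hD' : EssData S A R x') (hinfR : R ⊓ A = Z2 S)
    (D : Subgroup Ω) (hDZ : D ≤ Zc S)
    (hDinv : ∀ α ∈ F.autGroup S, ∀ d : S, (d : Ω) ∈ D → ((α d : S) : Ω) ∈ D) :
    ∀ β ∈ F.autGroup R, ∀ d : R, (d : Ω) ∈ D → ((β d : R) : Ω) ∈ D := by
  have hp : p.Prime := Fact.out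
  have h := hB.hUA
  have hRS := hD'.hPS
  have : Finite R := finite_of_le hRS
  obtain ⟨a₀, ha₀Z2, ha₀Z⟩ := hB.exists_not_mem_Zc
  have ha₀A := hB.hZ2A ha₀Z2
  have hZ2R : Z2 S ≤ R := hinfR ▸ inf_le_left
  have hcR : ∀ c ∈ R, (∀ y ∈ R, c * y = y * c) → c ∈ Zc S := fun c hc hcc =>
    h.center_le_Zc hRS hD'.hxP hD'.hxA (hZ2R ha₀Z2) ha₀A ha₀Z hc hcc
  obtain ⟨R₀, hcR₀, hFAR, hRecR⟩ := hF R hRS
  obtain ⟨⟨-, Rs, hRs⟩, hRec⟩ :=
    isFullyAutomized_isReceptive_of_isFullyNormalized p h.hS F hER.2.1 hFAR hRecR hcR₀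
  have hTG : autInducedBy S R ≤ F.autGroup R := autInducedBy_le_autGroup F hRS
  have hCn : (fixZc hRS hcR (F.autGroup R)).Normal := fixZc_normal hRS hcR _
  have hRsC : (Rs : Subgroup (F.autGroup R)) ≤ fixZc hRS hcR (F.autGroup R) := by
    intro t ht z hz
    rw [hRs, Subgroup.mem_subgroupOf] at ht
    obtain ⟨s, hs, hst⟩ := (mem_autInducedBy_iff S R _).mp ht
    apply Subtype.ext
    rw [hst, (mem_Zc.mp hz).2 s hs]
    group
  have hfin : Finite (MulAut R) := inferInstance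
  have hfr := Sylow.normalizer_sup_eq_top' Rs hRsC
  intro β hβ d hd
  have hmem : (⟨β, hβ⟩ : F.autGroup R) ∈
      Subgroup.normalizer ((Rs : Subgroup (F.autGroup R)) : Set (F.autGroup R)) ⊔
        fixZc hRS hcR (F.autGroup R) := by
    have := Subgroup.mem_top (⟨β, hβ⟩ : F.autGroup R)
    rw [← hfr] at this
    exact this
  rw [Subgroup.mem_sup_of_normal_right] at hmem
  obtain ⟨n, hn, k, hk, hnk⟩ := hmem
  -- n normalizes Aut_S(R)
  have hnorm : ∀ t ∈ autInducedBy S R, (n : MulAut R) * t * (n : MulAut R)⁻¹ ∈ autInducedBy S R := by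
    intro t ht
    have h1 : (⟨t, hTG ht⟩ : F.autGroup R) ∈ (Rs : Subgroup (F.autGroup R)) := by
      rw [hRs, Subgroup.mem_subgroupOf]; exact ht
    have h2 := (Subgroup.mem_normalizer_iff.mp hn _).mp h1
    rw [hRs, Subgroup.mem_subgroupOf] at h2
    exact h2
  obtain ⟨β₂, hβ₂, hβ₂ext⟩ := exists_extension_to_normalizer F hRec (n : MulAut R) n.2 hnorm
  have hNS : normalizerIn S R ≤ S := inf_le_left
  have hφ₂ : (normalizerIn S R).subtype.comp β₂.toMonoidHom ∈ F.Hom (normalizerIn S R) :=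
    (mem_autGroup_iff F hNS β₂).mp hβ₂
  have hcardN : Nat.card (normalizerIn S R) = p * Nat.card R := by
    have h1 := hD'.index_normalizer h F hF hER
    have h2 : R.relIndex (normalizerIn S R) = p := h1
    have h3 : R ≤ normalizerIn S R := le_inf hRS Subgroup.le_normalizer
    rw [card_eq_relIndex_mul h3, h2]
  have hcardR : Nat.card R = p * (p * Nat.card (Zc S)) := by
    rw [h.card_of_not_le hRS hD'.hxP hD'.hxA, hinfR, hB.card_Z2]
  have : Finite (Zc S) := finite_of_le (Trv.Zc_le S)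
  have hz0 : 0 < Nat.card (Zc S) := Nat.card_pos
  obtain ⟨α, hα, hαext⟩ := exists_aut_of_no_essential p h.hS F hF hNS
    (by
      intro R' hER' Q' hQ' hle
      have hR'S : R' ≤ S := hER'.1.1
      have : Finite R' := finite_of_le hR'S
      have h1 := Subgroup.card_le_of_le hle
      rw [← card_eq_of_isConj F hQ', hcardN, hcardR] at h1
      have h2 := hB.card_essential_le F hF hAe hER'
      have h3 : 1 < p := hp.one_lt
      have h4 : 0 < p * (p * Nat.card (Zc S)) := by positivity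
      nlinarith) hφ₂
  have hαR : ∀ y : R, ((α ⟨y, hRS y.2⟩ : S) : Ω) = ((n : MulAut R) y : Ω) := by
    intro y
    have h1 := hαext (Subgroup.inclusion (le_inf hRec.1 Subgroup.le_normalizer) y)
    have h2 := congrArg Subtype.val (hβ₂ext y)
    exact h1.symm.trans h2
  have hβe : β = (n : MulAut R) * (k : MulAut R) := by
    have := congrArg Subtype.val hnk
    exact this.symm
  rw [hβe, MulAut.mul_apply, hk d (hDZ hd), ← hαR]
  exact hDinv α hα ⟨d, hRS d.2⟩ hd

end UB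

end Cfsg.Agent.Lib.Helper7.Olv
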