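import Mathlib
import Cfsg.Prelude.Def_FusionSystem
import Cfsg.Agent.Lib.Helper7.OlvN

set_option autoImplicit false

namespace Cfsg.Agent.Lib.Helper7.Olv

open Cfsg Cfsg.FusionSystem Cfsg.Agent.Lib.Helper7 Cfsg.Agent.Lib.Helper7.Trv
  Cfsg.Agent.Lib.Helper7.Exsp

variable {Ω : Type*} [Group Ω] {p : ℕ} {S A : Subgroup Ω}

namespace UA

/-- the global hypotheses follow from the existence of an essential subgroup other than `A` -/
theorem exists_ub [Fact p.Prime] [Finite S] (h : UA p S A) (F : FusionSystem S)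
    (hF : F.IsSaturated p) (hcore : F.core = ⊥) (hAe : ¬ F.IsEssential p A) :
    UB p S A ∧ Nat.card (L0 S) = p := by
  by_cases hE : ∃ P, F.IsEssential p P
  swap
  · exfalso
    have := isNormal_top_of_no_essential h.hS F hF hE
    have h1 : S ≤ F.core := le_sSup this
    rw [hcore] at h1
    exact h.ne_bot (eq_bot_iff.mpr h1)
  obtain ⟨P, hEP⟩ := hE
  have hPA : P ≠ A := fun e => hAe (e ▸ hEP)
  obtain ⟨x, hD⟩ := essData_of_essential h F hF hEP hPA
  obtain ⟨hZ2A, hidx⟩ := hD.Z2_facts h F hF hEP hPA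
  exact ⟨⟨h, hZ2A, hidx⟩, h.card_Zc_inf_commutator (hD.hPS hD.hxP) hD.hxA hZ2A hidx⟩

end UA

namespace UA

/-- maximal class when the centre has order `p` -/
theorem lowerCentralSeries_ne_bot [Fact p.Prime] [Finite S] (h : UA p S A) {x : Ω} (hxS : x ∈ S)
    (hxA : x ∉ A) (hZ2A : Z2 S ≤ A) (hidx : (Zc S).relIndex (Z2 S) = p)
    (hZ : Nat.card (Zc S) = p) (n : ℕ) (hn : Nat.card S = p ^ n) (hn3 : 3 ≤ n) :
    Subgroup.lowerCentralSeries S (n - 2) ≠ ⊥ := by
  have hp : p.Prime := Fact.out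
  have : Finite A := finite_of_le h.hAS
  obtain ⟨k, rfl⟩ : ∃ k, n = k + 3 := ⟨n - 3, by omega⟩
  have hcardA : Nat.card A = p ^ (k + 2) := by
    have h1 := card_eq_relIndex_mul h.hAS
    rw [h.hAi, hn, pow_succ'] at h1
    exact (Nat.eq_of_mul_eq_mul_left hp.pos h1).symm
  have hK1 : Nat.card (h.Kc hxS 1) = p := by
    rw [Kc_one, h.theta_ker hxS hxA,
      Nat.card_congr (Subgroup.subgroupOfEquivOfLe h.Zc_le).toEquiv, hZ]
  have hle : ∀ m, h.Kc hxS 1 ≤ h.Kc hxS (m + 1) := by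
    intro m
    induction m with
    | zero => exact le_rfl
    | succ m ihm => exact ihm.trans (h.Kc_mono hxS (m + 1))
  have hKk : Nat.card (h.Kc hxS (k + 1)) ≤ p ^ (k + 1) := by
    rw [card_eq_relIndex_mul (hle k), hK1, pow_succ]
    exact Nat.mul_le_mul_right p (h.relIndex_Kc_one_le hxS hxA hZ2A hidx k)
  have hne : h.Kc hxS (k + 1) ≠ ⊤ := by
    intro htop
    rw [htop, Subgroup.card_top, hcardA] at hKk
    have := (Nat.pow_le_pow_iff_right hp.one_lt).mp hKk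
    omega
  obtain ⟨a, ha⟩ : ∃ a : A, a ∉ h.Kc hxS (k + 1) := by
    by_contra hcon
    push Not at hcon
    exact hne (eq_top_iff.mpr fun a _ => hcon a)
  rw [h.mem_Kc_succ_iff hxS k a, Kc_one, MonoidHom.mem_ker] at ha
  intro hbot
  apply ha
  have h1 := h.iterate_theta_mem hxS (k + 1) a
  have e : k + 3 - 2 = k + 1 := by omega
  rw [e] at hbot
  rw [hbot, Subgroup.mem_bot, Function.iterate_succ_apply'] at h1
  exact Subtype.ext h1

end UA

namespace UB

theorem Zc_ne_bot [Fact p.Prime] (hL0 : Nat.card (L0 S) = p) : Zc S ≠ ⊥ := by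
  have hp : p.Prime := Fact.out
  intro hZ
  have h1 : L0 S ≤ Zc S := inf_le_left
  rw [hZ, le_bot_iff] at h1
  rw [h1, Subgroup.card_bot] at hL0
  exact hp.one_lt.ne hL0

/-- some abelian subgroup `Z(S)⟨x⟩` is essential -/
theorem exists_abelian_essential [Fact p.Prime] [Finite S] (hB : UB p S A) (F : FusionSystem S)
    (hF : F.IsSaturated p) (hcore : F.core = ⊥) (hAe : ¬ F.IsEssential p A)
    (hL0 : Nat.card (L0 S) = p) :
    ∃ P x, F.IsEssential p P ∧ EssData S A P x ∧ P ⊓ A = Zc S ∧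
      ∀ a ∈ P, ∀ b ∈ P, a * b = b * a := by
  have h := hB.hUA
  by_contra hcon
  push Not at hcon
  have hnormal : F.IsNormal (Zc S) := by
    apply isNormal_of_essential_invariant p h.hS F hF
    intro P hP
    rcases hP with rfl | hess
    · refine ⟨Trv.Zc_le P, ?_⟩
      apply map_eq_of_forall_mem
      intro α _ z hz
      exact map_mem_ZS α hz
    · have hPA : P ≠ A := fun e => hAe (e ▸ hess)
      obtain ⟨x, hD⟩ := essData_of_essential h F hF hess hPA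
      rcases hD.inf_eq h F hF hess with ⟨hinf, hab⟩ | ⟨hinf, -⟩
      · obtain ⟨a, ha, b, hb, hne⟩ := hcon P x hess hD hinf
        exact absurd (hab a ha b hb) hne
      · obtain ⟨a₀, ha₀Z2, ha₀Z⟩ := hB.exists_not_mem_Zc
        have hZ2P : Z2 S ≤ P := hinf ▸ inf_le_left
        have hcP : ∀ c ∈ P, (∀ y ∈ P, c * y = y * c) → c ∈ Zc S := fun c hc hcc =>
          h.center_le_Zc hD.hPS hD.hxP hD.hxA (hZ2P ha₀Z2) (hB.hZ2A ha₀Z2) ha₀Z hc hcc
        refine ⟨hD.hZP, ?_⟩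
        apply map_eq_of_forall_mem
        intro α _ z hz
        rw [Subgroup.mem_subgroupOf] at hz ⊢
        exact aut_mem_Zc hD.hPS hcP α hz
  have h1 : Zc S ≤ F.core := le_sSup hnormal
  rw [hcore] at h1
  exact Zc_ne_bot hL0 (eq_bot_iff.mpr h1)

/-- the centre lies in the commutator subgroup -/
theorem Zc_le_L0 [Fact p.Prime] [Finite S] (hB : UB p S A) (F : FusionSystem S)
    (hF : F.IsSaturated p) (hcore : F.core = ⊥) (hAe : ¬ F.IsEssential p A) (hp2 : p ≠ 2)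
    (hL0 : Nat.card (L0 S) = p) : Zc S ≤ L0 S := by
  have h := hB.hUA
  obtain ⟨P₀, x₀, hE₀, hD₀, hinf₀, hab₀⟩ := hB.exists_abelian_essential F hF hcore hAe hL0
  obtain ⟨a₀, ha₀Z2, ha₀Z⟩ := hB.exists_not_mem_Zc
  have H₀ : HD p S A F P₀ x₀ a₀ := ⟨hB, hF, hAe, hE₀, hD₀, hinf₀, hab₀, ha₀Z2, ha₀Z, hL0⟩
  obtain ⟨g₀, hg₀, hne₀⟩ := H₀.exists_not_normalizing
  obtain ⟨τ₀, hτ₀, hR₀, hiff₀⟩ := H₀.exists_invertor hp2 hg₀ hne₀
  have hLp : ∀ a ∈ LS0 S, a ^ p = 1 := by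
    intro a ha
    have h1 : (a : Ω) ^ p = 1 := pow_eq_one_of_card_prime hL0 (Subgroup.mem_subgroupOf.mp ha)
    exact Subtype.ext h1
  have hchar : ∀ α : MulAut S, ∀ a ∈ LS0 S, α a ∈ LS0 S := fun α a ha => map_mem_LS0 α ha
  have hA : ∀ (P : Subgroup Ω) (x : Ω) (H : HD p S A F P x a₀) (k : MulAut P),
      k ∈ F.autGroup P → k * H.u * k⁻¹ ∉ Subgroup.zpowers H.u →
      ∀ y : P, (y : Ω) ∈ fixZ S τ₀ ↔ y ∈ fixSub H.u ⊓ fixSub (k * H.u * k⁻¹) := by
    intro P x H k hk hne y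
    obtain ⟨τ, hτ, hR, hiff⟩ := H.exists_invertor hp2 hk hne
    have hag := Rinv'.agree h.hS F hF hLp hτ hτ₀ hR hR₀
    have hfixeq := H.fixSub_u
    rw [mem_fixZ]
    constructor
    · rintro ⟨hyS, hyZ, hyfix⟩
      have hyu : y ∈ fixSub H.u := by
        rw [hfixeq, Subgroup.mem_subgroupOf]
        exact Subgroup.mem_subgroupOf.mp hyZ
      refine ⟨hyu, (hiff y hyu).mp ?_⟩
      have := hag ⟨y, hyS⟩ hyZ
      rw [this, hyfix]
    · rintro ⟨hyu, hyk⟩
      have hyZc : (y : Ω) ∈ Zc S := by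
        have h1 : y ∈ (Zc S).subgroupOf P := hfixeq ▸ hyu
        exact Subgroup.mem_subgroupOf.mp h1
      have hyZ : (⟨(y : Ω), H.hD.hPS y.2⟩ : S) ∈ ZS S := Subgroup.mem_subgroupOf.mpr hyZc
      refine ⟨H.hD.hPS y.2, hyZ, ?_⟩
      have := hag _ hyZ
      rw [← this]
      exact Subtype.ext ((hiff y hyu).mpr hyk)
  have hSinv : ∀ α ∈ F.autGroup S, ∀ d : S, (d : Ω) ∈ fixZ S τ₀ →
      ((α d : S) : Ω) ∈ fixZ S τ₀ := by
    intro α hα d hd
    obtain ⟨hdS, hdZ, hdfix⟩ := mem_fixZ.mp hd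
    rw [mem_fixZ]
    have hαdZ : α d ∈ ZS S := map_mem_ZS α hdZ
    refine ⟨(α d).2, hαdZ, ?_⟩
    have hconj : α * τ₀ * α⁻¹ ∈ F.autGroup S :=
      Subgroup.mul_mem _ (Subgroup.mul_mem _ hα hτ₀) (Subgroup.inv_mem _ hα)
    have hag := Rinv'.agree h.hS F hF hLp hconj hτ₀ (hR₀.conj hchar α) hR₀ (α d) hαdZ
    rw [← hag]
    show α (τ₀ (α⁻¹ (α d))) = α d
    rw [MulAut.inv_apply_self]
    have : τ₀ d = d := hdfix
    rw [this]
  have hnormal : F.IsNormal (fixZ S τ₀) := by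
    apply isNormal_of_essential_invariant p h.hS F hF
    intro P hP
    rcases hP with rfl | hess
    · refine ⟨(fixZ_le_Zc τ₀).trans (Trv.Zc_le P), ?_⟩
      apply map_eq_of_forall_mem
      intro α hα y hy
      rw [Subgroup.mem_subgroupOf] at hy ⊢
      exact hSinv α hα y hy
    · have hPA : P ≠ A := fun e => hAe (e ▸ hess)
      obtain ⟨x, hD⟩ := essData_of_essential h F hF hess hPA
      rcases hD.inf_eq h F hF hess with ⟨hinf, hab⟩ | ⟨hinf, -⟩
      · have H : HD p S A F P x a₀ := ⟨hB, hF, hAe, hess, hD, hinf, hab, ha₀Z2, ha₀Z, hL0⟩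
        have : Finite P := finite_of_le hD.hPS
        obtain ⟨g₁, hg₁, hne₁⟩ := H.exists_not_normalizing
        have hA' := hA P x H
        have hBB : ∀ k ∈ F.autGroup P, ∀ y : P, (y : Ω) ∈ fixZ S τ₀ →
            y ∈ fixSub (k * H.u * k⁻¹) := by
          intro k hk y hy
          by_cases hn : k * H.u * k⁻¹ ∈ Subgroup.zpowers H.u
          · obtain ⟨j, hj⟩ := Subgroup.mem_zpowers_iff.mp hn
            have hyu : y ∈ fixSub H.u := ((hA' g₁ hg₁ hne₁ y).mp hy).1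
            rw [← hj]
            have hyu' : H.u y = y := hyu
            show (H.u ^ j) y = y
            have : H.u ∈ MulAction.stabilizer (MulAut P) y :=
              MulAction.mem_stabilizer_iff.mpr hyu'
            exact MulAction.mem_stabilizer_iff.mp (Subgroup.zpow_mem _ this j)
          · exact ((hA' k hk hn y).mp hy).2
        refine ⟨(fixZ_le_Zc τ₀).trans hD.hZP, ?_⟩
        apply map_eq_of_forall_mem
        intro α hα y hy
        rw [Subgroup.mem_subgroupOf] at hy ⊢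
        rw [hA' g₁ hg₁ hne₁ (α y)]
        constructor
        · have h1 := hBB α⁻¹ (Subgroup.inv_mem _ hα) y hy
          exact mem_fixSub_conj_inv h1
        · have h1 := hBB (α⁻¹ * g₁) (Subgroup.mul_mem _ (Subgroup.inv_mem _ hα) hg₁) y hy
          have e : α⁻¹ * g₁ * H.u * (α⁻¹ * g₁)⁻¹ = α⁻¹ * (g₁ * H.u * g₁⁻¹) * α⁻¹⁻¹ := by group
          rw [e] at h1
          exact mem_fixSub_conj_inv h1
      · refine ⟨(fixZ_le_Zc τ₀).trans hD.hZP, ?_⟩
        apply map_eq_of_forall_mem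
        intro α hα y hy
        rw [Subgroup.mem_subgroupOf] at hy ⊢
        exact hB.nonab_invariant F hF hAe hess hD hinf (fixZ S τ₀) (fixZ_le_Zc τ₀) hSinv α hα y hy
  have hX : fixZ S τ₀ = ⊥ := by
    have h1 : fixZ S τ₀ ≤ F.core := le_sSup hnormal
    rw [hcore] at h1
    exact eq_bot_iff.mpr h1
  intro z hz
  have hzP : z ∈ P₀ := hD₀.hZP hz
  have : Finite P₀ := finite_of_le hD₀.hPS
  have hpair := Pair.of_conj H₀.hyp hg₀ hne₀
  have hzu : (⟨z, hzP⟩ : P₀) ∈ fixSub H₀.u := by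
    rw [H₀.fixSub_u, Subgroup.mem_subgroupOf]; exact hz
  obtain ⟨c, hcC, a, ha, hzca⟩ := hpair.exists_mul_of_mem hzu
  have hcX : (c : Ω) ∈ fixZ S τ₀ := by
    rw [hA P₀ x₀ H₀ g₀ hg₀ hne₀ c]; exact hcC
  rw [hX, Subgroup.mem_bot] at hcX
  have hc1 : c = 1 := Subtype.ext hcX
  rw [hc1, one_mul] at hzca
  have haL : (a : Ω) ∈ L0 S := by
    rw [H₀.commSub_eq, Subgroup.mem_subgroupOf] at ha; exact ha
  have : z = (a : Ω) := congrArg Subtype.val hzca
  rw [this]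
  exact haL

end UB

end Cfsg.Agent.Lib.Helper7.Olv
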