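import Mathlib
import Cfsg.Agent.Lib.Helper7.OrdZ
import Cfsg.Agent.S0992

/-! Extra order-killing lemmas for the range 3641..6232 (helper7, for S0983). -/

set_option autoImplicit false

namespace Cfsg.Agent.Lib.Helper7.Ord2

section
variable {G : Type*} [Group G] [Finite G] [IsSimpleGroup G]

/-- In a non-abelian simple group of even order not divisible by `8`, the order is divisible
by `3` (the Sylow `2`-subgroup is a four-group whose normalizer induces an automorphism of
order three, `S0992`). -/
theorem three_dvd_of_not_eight (hG : ¬ IsMulCommutative G) (h2 : 2 ∣ Nat.card G)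
    (h8 : ¬ 8 ∣ Nat.card G) : 3 ∣ Nat.card G := by
  haveI : Fact (Nat.Prime 2) := ⟨Nat.prime_two⟩
  obtain ⟨T⟩ : Nonempty (Sylow 2 G) := inferInstance
  have h := (Cfsg.Agent.S0992.result hG (even_iff_two_dvd.mpr h2) h8 T).2
  have h1 : (Subgroup.centralizer ((T : Subgroup G) : Set G)).relIndex
      (Subgroup.normalizer ((T : Subgroup G) : Set G)) ∣
      Nat.card (Subgroup.normalizer ((T : Subgroup G) : Set G)) := by
    rw [Subgroup.relIndex]
    have := Subgroup.index_dvd_card ((Subgroup.centralizer ((T : Subgroup G) : Set G)).subgroupOf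
      (Subgroup.normalizer ((T : Subgroup G) : Set G)))
    simpa using this
  rw [h] at h1
  exact h1.trans (Subgroup.card_subgroup_dvd_card _)

/-- The 23 orders in `(3640, 6232]` that need an individual argument. -/
def Hard : Finset ℕ :=
  {3696, 3744, 3780, 3960, 4032, 4200, 4212, 4320, 4620, 4680, 4760, 4960, 5040, 5104, 5148,
    5400, 5460, 5472, 5600, 5724, 5760, 5880, 5940}

end

end Cfsg.Agent.Lib.Helper7.Ord2
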