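import Mathlib
import Cfsg.Agent.Lib.Helper7.Ord2A

/-! Dispatch over the orders 3641..3940 (generated by a script; helper7, for S0983).
Every order is either one of the four real ones, a prime power or `p^a q^b` (Burnside),
or is killed by Sylow counting (`kb`, `ks`, parity, intersection), or is one of the 23 orders
of `Ord2.Hard`, which are handled separately. -/

set_option autoImplicit false
set_option maxRecDepth 100000
set_option maxHeartbeats 4000000

namespace Cfsg.Agent.Lib.Helper7.Ord2

open Cfsg.Agent.Lib.Helper7.Ord

section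
variable {G : Type*} [Group G] [Finite G] [IsSimpleGroup G]

theorem orders2_1 (hG : ¬ IsMulCommutative G) (hhard : Nat.card G ∈ Hard → False)
    (hlo : 3641 ≤ Nat.card G) (hhi : Nat.card G ≤ 3940) :
    Nat.card G = 4080 ∨ Nat.card G = 5616 ∨ Nat.card G = 6048 ∨ Nat.card G = 6072 := by
  obtain ⟨n, hn⟩ : ∃ n, Nat.card G = n := ⟨_, rfl⟩
  rw [hn] at hlo hhi ⊢
  interval_cases n
  · exact (two_prime_kill hG 11 331 1 1 (by norm_num) (by norm_num) (by rw [hn] <;> decide) (by rw [hn] <;> decide)).elim
  · exact (kb 607 1 6 (by norm_num) (by rw [hn] <;> decide) (by norm_num) (by norm_num) (by norm_num) (by decide)).elim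
  · exact (two_prime_kill hG 3643 3643 0 1 (by norm_num) (by norm_num) (by rw [hn] <;> decide) (by rw [hn] <;> decide)).elim
  · exact (two_prime_kill hG 2 911 2 1 (by norm_num) (by norm_num) (by rw [hn] <;> decide) (by rw [hn] <;> decide)).elim
  · exact (two_prime_kill hG 3 5 6 1 (by norm_num) (by norm_num) (by rw [hn] <;> decide) (by rw [hn] <;> decide)).elim
  · exact (two_prime_kill hG 2 1823 1 1 (by norm_num) (by norm_num) (by rw [hn] <;> decide) (by rw [hn] <;> decide)).elim
  · exact (two_prime_kill hG 7 521 1 1 (by norm_num) (by norm_num) (by rw [hn] <;> decide) (by rw [hn] <;> decide)).elim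
  · exact (ks 2 19 6 1 3 1216 (by norm_num) (by norm_num) (by norm_num) (by norm_num) (by norm_num) (by norm_num) (by norm_num) (by rw [hn] <;> decide) (by norm_num) (by decide)).elim
  · exact (two_prime_kill hG 41 89 1 1 (by norm_num) (by norm_num) (by rw [hn] <;> decide) (by rw [hn] <;> decide)).elim
  · exact (kb 73 1 50 (by norm_num) (by rw [hn] <;> decide) (by norm_num) (by norm_num) (by norm_num) (by decide)).elim
  · exact (two_prime_kill hG 3 1217 1 1 (by norm_num) (by norm_num) (by rw [hn] <;> decide) (by rw [hn] <;> decide)).elim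
  · exact (kb 83 1 44 (by norm_num) (by rw [hn] <;> decide) (by norm_num) (by norm_num) (by norm_num) (by decide)).elim
  · exact (two_prime_kill hG 13 281 1 1 (by norm_num) (by norm_num) (by rw [hn] <;> decide) (by rw [hn] <;> decide)).elim
  · exact (kb 29 1 126 (by norm_num) (by rw [hn] <;> decide) (by norm_num) (by norm_num) (by norm_num) (by decide)).elim
  · exact (kb 43 1 85 (by norm_num) (by rw [hn] <;> decide) (by norm_num) (by norm_num) (by norm_num) (by decide)).elim
  · exact (two_prime_kill hG 2 457 3 1 (by norm_num) (by norm_num) (by rw [hn] <;> decide) (by rw [hn] <;> decide)).elim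
  · exact (kb 53 1 69 (by norm_num) (by rw [hn] <;> decide) (by norm_num) (by norm_num) (by norm_num) (by decide)).elim
  · exact (kb 59 1 62 (by norm_num) (by rw [hn] <;> decide) (by norm_num) (by norm_num) (by norm_num) (by decide)).elim
  · exact (two_prime_kill hG 3659 3659 0 1 (by norm_num) (by norm_num) (by rw [hn] <;> decide) (by rw [hn] <;> decide)).elim
  · exact (kb 61 1 60 (by norm_num) (by rw [hn] <;> decide) (by norm_num) (by norm_num) (by norm_num) (by decide)).elim
  · exact (two_prime_kill hG 7 523 1 1 (by norm_num) (by norm_num) (by rw [hn] <;> decide) (by rw [hn] <;> decide)).elim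
  · exact (two_prime_kill hG 2 1831 1 1 (by norm_num) (by norm_num) (by rw [hn] <;> decide) (by rw [hn] <;> decide)).elim
  · exact (kb 37 1 99 (by norm_num) (by rw [hn] <;> decide) (by norm_num) (by norm_num) (by norm_num) (by decide)).elim
  · exact (two_prime_kill hG 2 229 4 1 (by norm_num) (by norm_num) (by rw [hn] <;> decide) (by rw [hn] <;> decide)).elim
  · exact (two_prime_kill hG 5 733 1 1 (by norm_num) (by norm_num) (by rw [hn] <;> decide) (by rw [hn] <;> decide)).elim
  · exact (kb 47 1 78 (by norm_num) (by rw [hn] <;> decide) (by norm_num) (by norm_num) (by norm_num) (by decide)).elim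
  · exact (two_prime_kill hG 19 193 1 1 (by norm_num) (by norm_num) (by rw [hn] <;> decide) (by rw [hn] <;> decide)).elim
  · exact (kb 131 1 28 (by norm_num) (by rw [hn] <;> decide) (by norm_num) (by norm_num) (by norm_num) (by decide)).elim
  · exact (two_prime_kill hG 3 1223 1 1 (by norm_num) (by norm_num) (by rw [hn] <;> decide) (by rw [hn] <;> decide)).elim
  · exact (kb 367 1 10 (by norm_num) (by rw [hn] <;> decide) (by norm_num) (by norm_num) (by norm_num) (by decide)).elim
  · exact (two_prime_kill hG 3671 3671 0 1 (by norm_num) (by norm_num) (by rw [hn] <;> decide) (by rw [hn] <;> decide)).elim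
  · exact (kb 17 1 216 (by norm_num) (by rw [hn] <;> decide) (by norm_num) (by norm_num) (by norm_num) (by decide)).elim
  · exact (two_prime_kill hG 3673 3673 0 1 (by norm_num) (by norm_num) (by rw [hn] <;> decide) (by rw [hn] <;> decide)).elim
  · exact (kb 167 1 22 (by norm_num) (by rw [hn] <;> decide) (by norm_num) (by norm_num) (by norm_num) (by decide)).elim
  · exact (kb 3 1 1225 (by norm_num) (by rw [hn] <;> decide) (by norm_num) (by norm_num) (by norm_num) (by decide)).elim
  · exact (two_prime_kill hG 2 919 2 1 (by norm_num) (by norm_num) (by rw [hn] <;> decide) (by rw [hn] <;> decide)).elim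
  · exact (two_prime_kill hG 3677 3677 0 1 (by norm_num) (by norm_num) (by rw [hn] <;> decide) (by rw [hn] <;> decide)).elim
  · exact (kb 613 1 6 (by norm_num) (by rw [hn] <;> decide) (by norm_num) (by norm_num) (by norm_num) (by decide)).elim
  · exact (two_prime_kill hG 13 283 1 1 (by norm_num) (by norm_num) (by rw [hn] <;> decide) (by rw [hn] <;> decide)).elim
  · exact (kb 23 1 160 (by norm_num) (by rw [hn] <;> decide) (by norm_num) (by norm_num) (by norm_num) (by decide)).elim
  · exact (two_prime_kill hG 3 409 2 1 (by norm_num) (by norm_num) (by rw [hn] <;> decide) (by rw [hn] <;> decide)).elim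
  · exact (kb 263 1 14 (by norm_num) (by rw [hn] <;> decide) (by norm_num) (by norm_num) (by norm_num) (by decide)).elim
  · exact (two_prime_kill hG 29 127 1 1 (by norm_num) (by norm_num) (by rw [hn] <;> decide) (by rw [hn] <;> decide)).elim
  · exact (kb 307 1 12 (by norm_num) (by rw [hn] <;> decide) (by norm_num) (by norm_num) (by norm_num) (by decide)).elim
  · exact (kb 67 1 55 (by norm_num) (by rw [hn] <;> decide) (by norm_num) (by norm_num) (by norm_num) (by decide)).elim
  · exact (kb 97 1 38 (by norm_num) (by rw [hn] <;> decide) (by norm_num) (by norm_num) (by norm_num) (by decide)).elim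
  · exact (two_prime_kill hG 3 1229 1 1 (by norm_num) (by norm_num) (by rw [hn] <;> decide) (by rw [hn] <;> decide)).elim
  · exact (two_prime_kill hG 2 461 3 1 (by norm_num) (by norm_num) (by rw [hn] <;> decide) (by rw [hn] <;> decide)).elim
  · exact (kb 31 1 119 (by norm_num) (by rw [hn] <;> decide) (by norm_num) (by norm_num) (by norm_num) (by decide)).elim
  · exact (kb 41 1 90 (by norm_num) (by rw [hn] <;> decide) (by norm_num) (by norm_num) (by norm_num) (by decide)).elim
  · exact (two_prime_kill hG 3691 3691 0 1 (by norm_num) (by norm_num) (by rw [hn] <;> decide) (by rw [hn] <;> decide)).elim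
  · exact (kb 71 1 52 (by norm_num) (by rw [hn] <;> decide) (by norm_num) (by norm_num) (by norm_num) (by decide)).elim
  · exact (two_prime_kill hG 3 1231 1 1 (by norm_num) (by norm_num) (by rw [hn] <;> decide) (by rw [hn] <;> decide)).elim
  · exact (two_prime_kill hG 2 1847 1 1 (by norm_num) (by norm_num) (by rw [hn] <;> decide) (by rw [hn] <;> decide)).elim
  · exact (two_prime_kill hG 5 739 1 1 (by norm_num) (by norm_num) (by rw [hn] <;> decide) (by rw [hn] <;> decide)).elim
  · exact (hhard (by rw [hn]; decide)).elim
  · exact (two_prime_kill hG 3697 3697 0 1 (by norm_num) (by norm_num) (by rw [hn] <;> decide) (by rw [hn] <;> decide)).elim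
  · exact (two_prime_kill hG 2 43 1 2 (by norm_num) (by norm_num) (by rw [hn] <;> decide) (by rw [hn] <;> decide)).elim
  · exact (two_prime_kill hG 3 137 3 1 (by norm_num) (by norm_num) (by rw [hn] <;> decide) (by rw [hn] <;> decide)).elim
  · exact (kb 37 1 100 (by norm_num) (by rw [hn] <;> decide) (by norm_num) (by norm_num) (by norm_num) (by decide)).elim
  · exact (two_prime_kill hG 3701 3701 0 1 (by norm_num) (by norm_num) (by rw [hn] <;> decide) (by rw [hn] <;> decide)).elim
  · exact (kb 617 1 6 (by norm_num) (by rw [hn] <;> decide) (by norm_num) (by norm_num) (by norm_num) (by decide)).elim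
  · exact (two_prime_kill hG 7 23 1 2 (by norm_num) (by norm_num) (by rw [hn] <;> decide) (by rw [hn] <;> decide)).elim
  · exact (two_prime_kill hG 2 463 3 1 (by norm_num) (by norm_num) (by rw [hn] <;> decide) (by rw [hn] <;> decide)).elim
  · exact (kb 19 1 195 (by norm_num) (by rw [hn] <;> decide) (by norm_num) (by norm_num) (by norm_num) (by decide)).elim
  · exact (kb 109 1 34 (by norm_num) (by rw [hn] <;> decide) (by norm_num) (by norm_num) (by norm_num) (by decide)).elim
  · exact (two_prime_kill hG 11 337 1 1 (by norm_num) (by norm_num) (by rw [hn] <;> decide) (by rw [hn] <;> decide)).elim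
  · exact (kb 103 1 36 (by norm_num) (by rw [hn] <;> decide) (by norm_num) (by norm_num) (by norm_num) (by decide)).elim
  · exact (two_prime_kill hG 3709 3709 0 1 (by norm_num) (by norm_num) (by rw [hn] <;> decide) (by rw [hn] <;> decide)).elim
  · exact (kb 53 1 70 (by norm_num) (by rw [hn] <;> decide) (by norm_num) (by norm_num) (by norm_num) (by decide)).elim
  · exact (two_prime_kill hG 3 1237 1 1 (by norm_num) (by norm_num) (by rw [hn] <;> decide) (by rw [hn] <;> decide)).elim
  · exact (two_prime_kill hG 2 29 7 1 (by norm_num) (by norm_num) (by rw [hn] <;> decide) (by rw [hn] <;> decide)).elim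
  · exact (two_prime_kill hG 47 79 1 1 (by norm_num) (by norm_num) (by rw [hn] <;> decide) (by rw [hn] <;> decide)).elim
  · exact (kb 619 1 6 (by norm_num) (by rw [hn] <;> decide) (by norm_num) (by norm_num) (by norm_num) (by decide)).elim
  · exact (two_prime_kill hG 5 743 1 1 (by norm_num) (by norm_num) (by rw [hn] <;> decide) (by rw [hn] <;> decide)).elim
  · exact (two_prime_kill hG 2 929 2 1 (by norm_num) (by norm_num) (by rw [hn] <;> decide) (by rw [hn] <;> decide)).elim
  · exact (kb 59 1 63 (by norm_num) (by rw [hn] <;> decide) (by norm_num) (by norm_num) (by norm_num) (by decide)).elim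
  · exact (kb 13 2 22 (by norm_num) (by rw [hn] <;> decide) (by norm_num) (by norm_num) (by norm_num) (by decide)).elim
  · exact (two_prime_kill hG 3719 3719 0 1 (by norm_num) (by norm_num) (by rw [hn] <;> decide) (by rw [hn] <;> decide)).elim
  · exact (kb 31 1 120 (by norm_num) (by rw [hn] <;> decide) (by norm_num) (by norm_num) (by norm_num) (by decide)).elim
  · exact (two_prime_kill hG 61 61 0 2 (by norm_num) (by norm_num) (by rw [hn] <;> decide) (by rw [hn] <;> decide)).elim
  · exact (two_prime_kill hG 2 1861 1 1 (by norm_num) (by norm_num) (by rw [hn] <;> decide) (by rw [hn] <;> decide)).elim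
  · exact (kb 73 1 51 (by norm_num) (by rw [hn] <;> decide) (by norm_num) (by norm_num) (by norm_num) (by decide)).elim
  · exact (kb 7 2 76 (by norm_num) (by rw [hn] <;> decide) (by norm_num) (by norm_num) (by norm_num) (by decide)).elim
  · exact (two_prime_kill hG 5 149 2 1 (by norm_num) (by norm_num) (by rw [hn] <;> decide) (by rw [hn] <;> decide)).elim
  · exact (kb 23 1 162 (by norm_num) (by rw [hn] <;> decide) (by norm_num) (by norm_num) (by norm_num) (by decide)).elim
  · exact (two_prime_kill hG 3727 3727 0 1 (by norm_num) (by norm_num) (by rw [hn] <;> decide) (by rw [hn] <;> decide)).elim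
  · exact (two_prime_kill hG 2 233 4 1 (by norm_num) (by norm_num) (by rw [hn] <;> decide) (by rw [hn] <;> decide)).elim
  · exact (kb 113 1 33 (by norm_num) (by rw [hn] <;> decide) (by norm_num) (by norm_num) (by norm_num) (by decide)).elim
  · exact (kb 373 1 10 (by norm_num) (by rw [hn] <;> decide) (by norm_num) (by norm_num) (by norm_num) (by decide)).elim
  · exact (kb 41 1 91 (by norm_num) (by rw [hn] <;> decide) (by norm_num) (by norm_num) (by norm_num) (by decide)).elim
  · exact (kb 311 1 12 (by norm_num) (by rw [hn] <;> decide) (by norm_num) (by norm_num) (by norm_num) (by decide)).elim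
  · exact (two_prime_kill hG 3733 3733 0 1 (by norm_num) (by norm_num) (by rw [hn] <;> decide) (by rw [hn] <;> decide)).elim
  · exact (two_prime_kill hG 2 1867 1 1 (by norm_num) (by norm_num) (by rw [hn] <;> decide) (by rw [hn] <;> decide)).elim
  · exact (kb 83 1 45 (by norm_num) (by rw [hn] <;> decide) (by norm_num) (by norm_num) (by norm_num) (by decide)).elim
  · exact (two_prime_kill hG 2 467 3 1 (by norm_num) (by norm_num) (by rw [hn] <;> decide) (by rw [hn] <;> decide)).elim
  · exact (two_prime_kill hG 37 101 1 1 (by norm_num) (by norm_num) (by rw [hn] <;> decide) (by rw [hn] <;> decide)).elim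
  · exact (kb 89 1 42 (by norm_num) (by rw [hn] <;> decide) (by norm_num) (by norm_num) (by norm_num) (by decide)).elim
  · exact (two_prime_kill hG 3739 3739 0 1 (by norm_num) (by norm_num) (by rw [hn] <;> decide) (by rw [hn] <;> decide)).elim
  · exact (kb 17 1 220 (by norm_num) (by rw [hn] <;> decide) (by norm_num) (by norm_num) (by norm_num) (by decide)).elim
  · exact (kb 43 1 87 (by norm_num) (by rw [hn] <;> decide) (by norm_num) (by norm_num) (by norm_num) (by decide)).elim
  · exact (two_prime_kill hG 2 1871 1 1 (by norm_num) (by norm_num) (by rw [hn] <;> decide) (by rw [hn] <;> decide)).elim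
  · exact (two_prime_kill hG 19 197 1 1 (by norm_num) (by norm_num) (by rw [hn] <;> decide) (by rw [hn] <;> decide)).elim
  · exact (hhard (by rw [hn]; decide)).elim
  · exact (kb 107 1 35 (by norm_num) (by rw [hn] <;> decide) (by norm_num) (by norm_num) (by norm_num) (by decide)).elim
  · exact (two_prime_kill hG 2 1873 1 1 (by norm_num) (by norm_num) (by rw [hn] <;> decide) (by rw [hn] <;> decide)).elim
  · exact (two_prime_kill hG 3 1249 1 1 (by norm_num) (by norm_num) (by rw [hn] <;> decide) (by rw [hn] <;> decide)).elim
  · exact (two_prime_kill hG 2 937 2 1 (by norm_num) (by norm_num) (by rw [hn] <;> decide) (by rw [hn] <;> decide)).elim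
  · exact (two_prime_kill hG 23 163 1 1 (by norm_num) (by norm_num) (by rw [hn] <;> decide) (by rw [hn] <;> decide)).elim
  · exact (kb 5 4 6 (by norm_num) (by rw [hn] <;> decide) (by norm_num) (by norm_num) (by norm_num) (by decide)).elim
  · exact (two_prime_kill hG 11 31 2 1 (by norm_num) (by norm_num) (by rw [hn] <;> decide) (by rw [hn] <;> decide)).elim
  · exact (kb 67 1 56 (by norm_num) (by rw [hn] <;> decide) (by norm_num) (by norm_num) (by norm_num) (by decide)).elim
  · exact (two_prime_kill hG 3 139 3 1 (by norm_num) (by norm_num) (by rw [hn] <;> decide) (by rw [hn] <;> decide)).elim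
  · exact (two_prime_kill hG 2 1877 1 1 (by norm_num) (by norm_num) (by rw [hn] <;> decide) (by rw [hn] <;> decide)).elim
  · exact (two_prime_kill hG 5 751 1 1 (by norm_num) (by norm_num) (by rw [hn] <;> decide) (by rw [hn] <;> decide)).elim
  · exact (kb 313 1 12 (by norm_num) (by rw [hn] <;> decide) (by norm_num) (by norm_num) (by norm_num) (by decide)).elim
  · exact (two_prime_kill hG 13 17 1 2 (by norm_num) (by norm_num) (by rw [hn] <;> decide) (by rw [hn] <;> decide)).elim
  · exact (two_prime_kill hG 2 1879 1 1 (by norm_num) (by norm_num) (by rw [hn] <;> decide) (by rw [hn] <;> decide)).elim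
  · exact (kb 179 1 21 (by norm_num) (by rw [hn] <;> decide) (by norm_num) (by norm_num) (by norm_num) (by decide)).elim
  · exact (kb 47 1 80 (by norm_num) (by rw [hn] <;> decide) (by norm_num) (by norm_num) (by norm_num) (by decide)).elim
  · exact (two_prime_kill hG 3761 3761 0 1 (by norm_num) (by norm_num) (by rw [hn] <;> decide) (by rw [hn] <;> decide)).elim
  · exact (kb 19 1 198 (by norm_num) (by rw [hn] <;> decide) (by norm_num) (by norm_num) (by norm_num) (by decide)).elim
  · exact (two_prime_kill hG 53 71 1 1 (by norm_num) (by norm_num) (by rw [hn] <;> decide) (by rw [hn] <;> decide)).elim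
  · exact (two_prime_kill hG 2 941 2 1 (by norm_num) (by norm_num) (by rw [hn] <;> decide) (by rw [hn] <;> decide)).elim
  · exact (kb 251 1 15 (by norm_num) (by rw [hn] <;> decide) (by norm_num) (by norm_num) (by norm_num) (by decide)).elim
  · exact (kb 269 1 14 (by norm_num) (by rw [hn] <;> decide) (by norm_num) (by norm_num) (by norm_num) (by decide)).elim
  · exact (two_prime_kill hG 3767 3767 0 1 (by norm_num) (by norm_num) (by rw [hn] <;> decide) (by rw [hn] <;> decide)).elim
  · exact (kb 157 1 24 (by norm_num) (by rw [hn] <;> decide) (by norm_num) (by norm_num) (by norm_num) (by decide)).elim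
  · exact (two_prime_kill hG 3769 3769 0 1 (by norm_num) (by norm_num) (by rw [hn] <;> decide) (by rw [hn] <;> decide)).elim
  · exact (kb 29 1 130 (by norm_num) (by rw [hn] <;> decide) (by norm_num) (by norm_num) (by norm_num) (by decide)).elim
  · exact (two_prime_kill hG 3 419 2 1 (by norm_num) (by norm_num) (by rw [hn] <;> decide) (by rw [hn] <;> decide)).elim
  · exact (kb 41 1 92 (by norm_num) (by rw [hn] <;> decide) (by norm_num) (by norm_num) (by norm_num) (by decide)).elim
  · exact (two_prime_kill hG 7 11 3 1 (by norm_num) (by norm_num) (by rw [hn] <;> decide) (by rw [hn] <;> decide)).elim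
  · exact (kb 37 1 102 (by norm_num) (by rw [hn] <;> decide) (by norm_num) (by norm_num) (by norm_num) (by decide)).elim
  · exact (two_prime_kill hG 5 151 2 1 (by norm_num) (by norm_num) (by rw [hn] <;> decide) (by rw [hn] <;> decide)).elim
  · exact (two_prime_kill hG 2 59 6 1 (by norm_num) (by norm_num) (by rw [hn] <;> decide) (by rw [hn] <;> decide)).elim
  · exact (two_prime_kill hG 3 1259 1 1 (by norm_num) (by norm_num) (by rw [hn] <;> decide) (by rw [hn] <;> decide)).elim
  · exact (two_prime_kill hG 2 1889 1 1 (by norm_num) (by norm_num) (by rw [hn] <;> decide) (by rw [hn] <;> decide)).elim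
  · exact (two_prime_kill hG 3779 3779 0 1 (by norm_num) (by norm_num) (by rw [hn] <;> decide) (by rw [hn] <;> decide)).elim
  · exact (hhard (by rw [hn]; decide)).elim
  · exact (two_prime_kill hG 19 199 1 1 (by norm_num) (by norm_num) (by rw [hn] <;> decide) (by rw [hn] <;> decide)).elim
  · exact (kb 61 1 62 (by norm_num) (by rw [hn] <;> decide) (by norm_num) (by norm_num) (by norm_num) (by decide)).elim
  · exact (kb 97 1 39 (by norm_num) (by rw [hn] <;> decide) (by norm_num) (by norm_num) (by norm_num) (by decide)).elim
  · exact (kb 43 1 88 (by norm_num) (by rw [hn] <;> decide) (by norm_num) (by norm_num) (by norm_num) (by decide)).elim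
  · exact (two_prime_kill hG 5 757 1 1 (by norm_num) (by norm_num) (by rw [hn] <;> decide) (by rw [hn] <;> decide)).elim
  · exact (kb 631 1 6 (by norm_num) (by rw [hn] <;> decide) (by norm_num) (by norm_num) (by norm_num) (by decide)).elim
  · exact (two_prime_kill hG 7 541 1 1 (by norm_num) (by norm_num) (by rw [hn] <;> decide) (by rw [hn] <;> decide)).elim
  · exact (two_prime_kill hG 2 947 2 1 (by norm_num) (by norm_num) (by rw [hn] <;> decide) (by rw [hn] <;> decide)).elim
  · exact (two_prime_kill hG 3 421 2 1 (by norm_num) (by norm_num) (by rw [hn] <;> decide) (by rw [hn] <;> decide)).elim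
  · exact (kb 379 1 10 (by norm_num) (by rw [hn] <;> decide) (by norm_num) (by norm_num) (by norm_num) (by decide)).elim
  · exact (two_prime_kill hG 17 223 1 1 (by norm_num) (by norm_num) (by rw [hn] <;> decide) (by rw [hn] <;> decide)).elim
  · exact (kb 79 1 48 (by norm_num) (by rw [hn] <;> decide) (by norm_num) (by norm_num) (by norm_num) (by decide)).elim
  · exact (two_prime_kill hG 3793 3793 0 1 (by norm_num) (by norm_num) (by rw [hn] <;> decide) (by rw [hn] <;> decide)).elim
  · exact (kb 271 1 14 (by norm_num) (by rw [hn] <;> decide) (by norm_num) (by norm_num) (by norm_num) (by decide)).elim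
  · exact (kb 23 1 165 (by norm_num) (by rw [hn] <;> decide) (by norm_num) (by norm_num) (by norm_num) (by decide)).elim
  · exact (kb 73 1 52 (by norm_num) (by rw [hn] <;> decide) (by norm_num) (by norm_num) (by norm_num) (by decide)).elim
  · exact (two_prime_kill hG 3797 3797 0 1 (by norm_num) (by norm_num) (by rw [hn] <;> decide) (by rw [hn] <;> decide)).elim
  · exact (kb 211 1 18 (by norm_num) (by rw [hn] <;> decide) (by norm_num) (by norm_num) (by norm_num) (by decide)).elim
  · exact (two_prime_kill hG 29 131 1 1 (by norm_num) (by norm_num) (by rw [hn] <;> decide) (by rw [hn] <;> decide)).elim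
  · exact (kb 19 1 200 (by norm_num) (by rw [hn] <;> decide) (by norm_num) (by norm_num) (by norm_num) (by decide)).elim
  · exact (kb 181 1 21 (by norm_num) (by rw [hn] <;> decide) (by norm_num) (by norm_num) (by norm_num) (by decide)).elim
  · exact (two_prime_kill hG 2 1901 1 1 (by norm_num) (by norm_num) (by rw [hn] <;> decide) (by rw [hn] <;> decide)).elim
  · exact (two_prime_kill hG 3803 3803 0 1 (by norm_num) (by norm_num) (by rw [hn] <;> decide) (by rw [hn] <;> decide)).elim
  · exact (kb 317 1 12 (by norm_num) (by rw [hn] <;> decide) (by norm_num) (by norm_num) (by norm_num) (by decide)).elim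
  · exact (two_prime_kill hG 5 761 1 1 (by norm_num) (by norm_num) (by rw [hn] <;> decide) (by rw [hn] <;> decide)).elim
  · exact (kb 173 1 22 (by norm_num) (by rw [hn] <;> decide) (by norm_num) (by norm_num) (by norm_num) (by decide)).elim
  · exact (two_prime_kill hG 3 47 4 1 (by norm_num) (by norm_num) (by rw [hn] <;> decide) (by rw [hn] <;> decide)).elim
  · exact (kb 17 1 224 (by norm_num) (by rw [hn] <;> decide) (by norm_num) (by norm_num) (by norm_num) (by decide)).elim
  · exact (two_prime_kill hG 13 293 1 1 (by norm_num) (by norm_num) (by rw [hn] <;> decide) (by rw [hn] <;> decide)).elim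
  · exact (kb 127 1 30 (by norm_num) (by rw [hn] <;> decide) (by norm_num) (by norm_num) (by norm_num) (by decide)).elim
  · exact (two_prime_kill hG 37 103 1 1 (by norm_num) (by norm_num) (by rw [hn] <;> decide) (by rw [hn] <;> decide)).elim
  · exact (two_prime_kill hG 2 953 2 1 (by norm_num) (by norm_num) (by rw [hn] <;> decide) (by rw [hn] <;> decide)).elim
  · exact (kb 41 1 93 (by norm_num) (by rw [hn] <;> decide) (by norm_num) (by norm_num) (by norm_num) (by decide)).elim
  · exact (two_prime_kill hG 2 1907 1 1 (by norm_num) (by norm_num) (by rw [hn] <;> decide) (by rw [hn] <;> decide)).elim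
  · exact (kb 109 1 35 (by norm_num) (by rw [hn] <;> decide) (by norm_num) (by norm_num) (by norm_num) (by decide)).elim
  · exact (kb 53 1 72 (by norm_num) (by rw [hn] <;> decide) (by norm_num) (by norm_num) (by norm_num) (by decide)).elim
  · exact (two_prime_kill hG 11 347 1 1 (by norm_num) (by norm_num) (by rw [hn] <;> decide) (by rw [hn] <;> decide)).elim
  · exact (kb 83 1 46 (by norm_num) (by rw [hn] <;> decide) (by norm_num) (by norm_num) (by norm_num) (by decide)).elim
  · exact (kb 67 1 57 (by norm_num) (by rw [hn] <;> decide) (by norm_num) (by norm_num) (by norm_num) (by decide)).elim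
  · exact (kb 191 1 20 (by norm_num) (by rw [hn] <;> decide) (by norm_num) (by norm_num) (by norm_num) (by decide)).elim
  · exact (two_prime_kill hG 3821 3821 0 1 (by norm_num) (by norm_num) (by rw [hn] <;> decide) (by rw [hn] <;> decide)).elim
  · exact (kb 13 1 294 (by norm_num) (by rw [hn] <;> decide) (by norm_num) (by norm_num) (by norm_num) (by decide)).elim
  · exact (two_prime_kill hG 3823 3823 0 1 (by norm_num) (by norm_num) (by rw [hn] <;> decide) (by rw [hn] <;> decide)).elim
  · exact (two_prime_kill hG 2 239 4 1 (by norm_num) (by norm_num) (by rw [hn] <;> decide) (by rw [hn] <;> decide)).elim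
  · exact (kb 17 1 225 (by norm_num) (by rw [hn] <;> decide) (by norm_num) (by norm_num) (by norm_num) (by decide)).elim
  · exact (two_prime_kill hG 2 1913 1 1 (by norm_num) (by norm_num) (by rw [hn] <;> decide) (by rw [hn] <;> decide)).elim
  · exact (two_prime_kill hG 43 89 1 1 (by norm_num) (by norm_num) (by rw [hn] <;> decide) (by rw [hn] <;> decide)).elim
  · exact (kb 29 1 132 (by norm_num) (by rw [hn] <;> decide) (by norm_num) (by norm_num) (by norm_num) (by decide)).elim
  · exact (two_prime_kill hG 7 547 1 1 (by norm_num) (by norm_num) (by rw [hn] <;> decide) (by rw [hn] <;> decide)).elim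
  · exact (kb 383 1 10 (by norm_num) (by rw [hn] <;> decide) (by norm_num) (by norm_num) (by norm_num) (by decide)).elim
  · exact (two_prime_kill hG 3 1277 1 1 (by norm_num) (by norm_num) (by rw [hn] <;> decide) (by rw [hn] <;> decide)).elim
  · exact (two_prime_kill hG 2 479 3 1 (by norm_num) (by norm_num) (by rw [hn] <;> decide) (by rw [hn] <;> decide)).elim
  · exact (two_prime_kill hG 3833 3833 0 1 (by norm_num) (by norm_num) (by rw [hn] <;> decide) (by rw [hn] <;> decide)).elim
  · exact (kb 71 1 54 (by norm_num) (by rw [hn] <;> decide) (by norm_num) (by norm_num) (by norm_num) (by decide)).elim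
  · exact (kb 59 1 65 (by norm_num) (by rw [hn] <;> decide) (by norm_num) (by norm_num) (by norm_num) (by decide)).elim
  · exact (kb 137 1 28 (by norm_num) (by rw [hn] <;> decide) (by norm_num) (by norm_num) (by norm_num) (by decide)).elim
  · exact (two_prime_kill hG 3 1279 1 1 (by norm_num) (by norm_num) (by rw [hn] <;> decide) (by rw [hn] <;> decide)).elim
  · exact (kb 101 1 38 (by norm_num) (by rw [hn] <;> decide) (by norm_num) (by norm_num) (by norm_num) (by decide)).elim
  · exact (two_prime_kill hG 11 349 1 1 (by norm_num) (by norm_num) (by rw [hn] <;> decide) (by rw [hn] <;> decide)).elim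
  · exact (ks 2 3 8 1 5 768 (by norm_num) (by norm_num) (by norm_num) (by norm_num) (by norm_num) (by norm_num) (by norm_num) (by rw [hn] <;> decide) (by norm_num) (by decide)).elim
  · exact (two_prime_kill hG 23 167 1 1 (by norm_num) (by norm_num) (by rw [hn] <;> decide) (by rw [hn] <;> decide)).elim
  · exact (kb 113 1 34 (by norm_num) (by rw [hn] <;> decide) (by norm_num) (by norm_num) (by norm_num) (by decide)).elim
  · exact (kb 61 1 63 (by norm_num) (by rw [hn] <;> decide) (by norm_num) (by norm_num) (by norm_num) (by decide)).elim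
  · exact (two_prime_kill hG 2 31 2 2 (by norm_num) (by norm_num) (by rw [hn] <;> decide) (by rw [hn] <;> decide)).elim
  · exact (two_prime_kill hG 5 769 1 1 (by norm_num) (by norm_num) (by rw [hn] <;> decide) (by rw [hn] <;> decide)).elim
  · exact (kb 641 1 6 (by norm_num) (by rw [hn] <;> decide) (by norm_num) (by norm_num) (by norm_num) (by decide)).elim
  · exact (two_prime_kill hG 3847 3847 0 1 (by norm_num) (by norm_num) (by rw [hn] <;> decide) (by rw [hn] <;> decide)).elim
  · exact (kb 37 1 104 (by norm_num) (by rw [hn] <;> decide) (by norm_num) (by norm_num) (by norm_num) (by decide)).elim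
  · exact (two_prime_kill hG 3 1283 1 1 (by norm_num) (by norm_num) (by rw [hn] <;> decide) (by rw [hn] <;> decide)).elim
  · exact (kb 11 1 350 (by norm_num) (by rw [hn] <;> decide) (by norm_num) (by norm_num) (by norm_num) (by decide)).elim
  · exact (two_prime_kill hG 3851 3851 0 1 (by norm_num) (by norm_num) (by rw [hn] <;> decide) (by rw [hn] <;> decide)).elim
  · exact (kb 107 1 36 (by norm_num) (by rw [hn] <;> decide) (by norm_num) (by norm_num) (by norm_num) (by decide)).elim
  · exact (two_prime_kill hG 3853 3853 0 1 (by norm_num) (by norm_num) (by rw [hn] <;> decide) (by rw [hn] <;> decide)).elim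
  · exact (kb 47 1 82 (by norm_num) (by rw [hn] <;> decide) (by norm_num) (by norm_num) (by norm_num) (by decide)).elim
  · exact (kb 257 1 15 (by norm_num) (by rw [hn] <;> decide) (by norm_num) (by norm_num) (by norm_num) (by decide)).elim
  · exact (two_prime_kill hG 2 241 4 1 (by norm_num) (by norm_num) (by rw [hn] <;> decide) (by rw [hn] <;> decide)).elim
  · exact (kb 29 1 133 (by norm_num) (by rw [hn] <;> decide) (by norm_num) (by norm_num) (by norm_num) (by decide)).elim
  · exact (kb 643 1 6 (by norm_num) (by rw [hn] <;> decide) (by norm_num) (by norm_num) (by norm_num) (by decide)).elim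
  · exact (two_prime_kill hG 17 227 1 1 (by norm_num) (by norm_num) (by rw [hn] <;> decide) (by rw [hn] <;> decide)).elim
  · exact (kb 193 1 20 (by norm_num) (by rw [hn] <;> decide) (by norm_num) (by norm_num) (by norm_num) (by decide)).elim
  · exact (kb 13 1 297 (by norm_num) (by rw [hn] <;> decide) (by norm_num) (by norm_num) (by norm_num) (by decide)).elim
  · exact (two_prime_kill hG 2 1931 1 1 (by norm_num) (by norm_num) (by rw [hn] <;> decide) (by rw [hn] <;> decide)).elim
  · exact (two_prime_kill hG 3863 3863 0 1 (by norm_num) (by norm_num) (by rw [hn] <;> decide) (by rw [hn] <;> decide)).elim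
  · exact (kb 23 1 168 (by norm_num) (by rw [hn] <;> decide) (by norm_num) (by norm_num) (by norm_num) (by decide)).elim
  · exact (two_prime_kill hG 5 773 1 1 (by norm_num) (by norm_num) (by rw [hn] <;> decide) (by rw [hn] <;> decide)).elim
  · exact (two_prime_kill hG 2 1933 1 1 (by norm_num) (by norm_num) (by rw [hn] <;> decide) (by rw [hn] <;> decide)).elim
  · exact (two_prime_kill hG 3 1289 1 1 (by norm_num) (by norm_num) (by rw [hn] <;> decide) (by rw [hn] <;> decide)).elim
  · exact (two_prime_kill hG 2 967 2 1 (by norm_num) (by norm_num) (by rw [hn] <;> decide) (by rw [hn] <;> decide)).elim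
  · exact (two_prime_kill hG 53 73 1 1 (by norm_num) (by norm_num) (by rw [hn] <;> decide) (by rw [hn] <;> decide)).elim
  · exact (kb 43 1 90 (by norm_num) (by rw [hn] <;> decide) (by norm_num) (by norm_num) (by norm_num) (by decide)).elim
  · exact (two_prime_kill hG 7 79 2 1 (by norm_num) (by norm_num) (by rw [hn] <;> decide) (by rw [hn] <;> decide)).elim
  · exact (two_prime_kill hG 2 11 5 2 (by norm_num) (by norm_num) (by rw [hn] <;> decide) (by rw [hn] <;> decide)).elim
  · exact (two_prime_kill hG 3 1291 1 1 (by norm_num) (by norm_num) (by rw [hn] <;> decide) (by rw [hn] <;> decide)).elim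
  · exact (kb 149 1 26 (by norm_num) (by rw [hn] <;> decide) (by norm_num) (by norm_num) (by norm_num) (by decide)).elim
  · exact (two_prime_kill hG 5 31 3 1 (by norm_num) (by norm_num) (by rw [hn] <;> decide) (by rw [hn] <;> decide)).elim
  · exact (kb 19 1 204 (by norm_num) (by rw [hn] <;> decide) (by norm_num) (by norm_num) (by norm_num) (by decide)).elim
  · exact (two_prime_kill hG 3877 3877 0 1 (by norm_num) (by norm_num) (by rw [hn] <;> decide) (by rw [hn] <;> decide)).elim
  · exact (kb 277 1 14 (by norm_num) (by rw [hn] <;> decide) (by norm_num) (by norm_num) (by norm_num) (by decide)).elim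
  · exact (two_prime_kill hG 3 431 2 1 (by norm_num) (by norm_num) (by rw [hn] <;> decide) (by rw [hn] <;> decide)).elim
  · exact (kb 97 1 40 (by norm_num) (by rw [hn] <;> decide) (by norm_num) (by norm_num) (by norm_num) (by decide)).elim
  · exact (two_prime_kill hG 3881 3881 0 1 (by norm_num) (by norm_num) (by rw [hn] <;> decide) (by rw [hn] <;> decide)).elim
  · exact (kb 647 1 6 (by norm_num) (by rw [hn] <;> decide) (by norm_num) (by norm_num) (by norm_num) (by decide)).elim
  · exact (two_prime_kill hG 11 353 1 1 (by norm_num) (by norm_num) (by rw [hn] <;> decide) (by rw [hn] <;> decide)).elim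
  · exact (two_prime_kill hG 2 971 2 1 (by norm_num) (by norm_num) (by rw [hn] <;> decide) (by rw [hn] <;> decide)).elim
  · exact (kb 37 1 105 (by norm_num) (by rw [hn] <;> decide) (by norm_num) (by norm_num) (by norm_num) (by decide)).elim
  · exact (kb 67 1 58 (by norm_num) (by rw [hn] <;> decide) (by norm_num) (by norm_num) (by norm_num) (by decide)).elim
  · exact (two_prime_kill hG 13 23 2 1 (by norm_num) (by norm_num) (by rw [hn] <;> decide) (by rw [hn] <;> decide)).elim
  · exact (two_prime_kill hG 2 3 4 5 (by norm_num) (by norm_num) (by rw [hn] <;> decide) (by rw [hn] <;> decide)).elim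
  · exact (two_prime_kill hG 3889 3889 0 1 (by norm_num) (by norm_num) (by rw [hn] <;> decide) (by rw [hn] <;> decide)).elim
  · exact (kb 389 1 10 (by norm_num) (by rw [hn] <;> decide) (by norm_num) (by norm_num) (by norm_num) (by decide)).elim
  · exact (two_prime_kill hG 3 1297 1 1 (by norm_num) (by norm_num) (by rw [hn] <;> decide) (by rw [hn] <;> decide)).elim
  · exact (kb 139 1 28 (by norm_num) (by rw [hn] <;> decide) (by norm_num) (by norm_num) (by norm_num) (by decide)).elim
  · exact (two_prime_kill hG 17 229 1 1 (by norm_num) (by norm_num) (by rw [hn] <;> decide) (by rw [hn] <;> decide)).elim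
  · exact (kb 59 1 66 (by norm_num) (by rw [hn] <;> decide) (by norm_num) (by norm_num) (by norm_num) (by decide)).elim
  · exact (kb 41 1 95 (by norm_num) (by rw [hn] <;> decide) (by norm_num) (by norm_num) (by norm_num) (by decide)).elim
  · exact (two_prime_kill hG 2 487 3 1 (by norm_num) (by norm_num) (by rw [hn] <;> decide) (by rw [hn] <;> decide)).elim
  · exact (two_prime_kill hG 3 433 2 1 (by norm_num) (by norm_num) (by rw [hn] <;> decide) (by rw [hn] <;> decide)).elim
  · exact (two_prime_kill hG 2 1949 1 1 (by norm_num) (by norm_num) (by rw [hn] <;> decide) (by rw [hn] <;> decide)).elim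
  · exact (two_prime_kill hG 7 557 1 1 (by norm_num) (by norm_num) (by rw [hn] <;> decide) (by rw [hn] <;> decide)).elim
  · exact (kb 13 1 300 (by norm_num) (by rw [hn] <;> decide) (by norm_num) (by norm_num) (by norm_num) (by decide)).elim
  · exact (two_prime_kill hG 47 83 1 1 (by norm_num) (by norm_num) (by rw [hn] <;> decide) (by rw [hn] <;> decide)).elim
  · exact (two_prime_kill hG 2 1951 1 1 (by norm_num) (by norm_num) (by rw [hn] <;> decide) (by rw [hn] <;> decide)).elim
  · exact (two_prime_kill hG 3 1301 1 1 (by norm_num) (by norm_num) (by rw [hn] <;> decide) (by rw [hn] <;> decide)).elim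
  · exact (two_prime_kill hG 2 61 6 1 (by norm_num) (by norm_num) (by rw [hn] <;> decide) (by rw [hn] <;> decide)).elim
  · exact (kb 71 1 55 (by norm_num) (by rw [hn] <;> decide) (by norm_num) (by norm_num) (by norm_num) (by decide)).elim
  · exact (kb 7 1 558 (by norm_num) (by rw [hn] <;> decide) (by norm_num) (by norm_num) (by norm_num) (by decide)).elim
  · exact (two_prime_kill hG 3907 3907 0 1 (by norm_num) (by norm_num) (by rw [hn] <;> decide) (by rw [hn] <;> decide)).elim
  · exact (two_prime_kill hG 2 977 2 1 (by norm_num) (by norm_num) (by rw [hn] <;> decide) (by rw [hn] <;> decide)).elim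
  · exact (two_prime_kill hG 3 1303 1 1 (by norm_num) (by norm_num) (by rw [hn] <;> decide) (by rw [hn] <;> decide)).elim
  · exact (kb 23 1 170 (by norm_num) (by rw [hn] <;> decide) (by norm_num) (by norm_num) (by norm_num) (by decide)).elim
  · exact (two_prime_kill hG 3911 3911 0 1 (by norm_num) (by norm_num) (by rw [hn] <;> decide) (by rw [hn] <;> decide)).elim
  · exact (kb 163 1 24 (by norm_num) (by rw [hn] <;> decide) (by norm_num) (by norm_num) (by norm_num) (by decide)).elim
  · exact (kb 43 1 91 (by norm_num) (by rw [hn] <;> decide) (by norm_num) (by norm_num) (by norm_num) (by decide)).elim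
  · exact (kb 103 1 38 (by norm_num) (by rw [hn] <;> decide) (by norm_num) (by norm_num) (by norm_num) (by decide)).elim
  · exact (kb 29 1 135 (by norm_num) (by rw [hn] <;> decide) (by norm_num) (by norm_num) (by norm_num) (by decide)).elim
  · exact (kb 89 1 44 (by norm_num) (by rw [hn] <;> decide) (by norm_num) (by norm_num) (by norm_num) (by decide)).elim
  · exact (two_prime_kill hG 3917 3917 0 1 (by norm_num) (by norm_num) (by rw [hn] <;> decide) (by rw [hn] <;> decide)).elim
  · exact (kb 653 1 6 (by norm_num) (by rw [hn] <;> decide) (by norm_num) (by norm_num) (by norm_num) (by decide)).elim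
  · exact (two_prime_kill hG 3919 3919 0 1 (by norm_num) (by norm_num) (by rw [hn] <;> decide) (by rw [hn] <;> decide)).elim
  · exact (kb 7 2 80 (by norm_num) (by rw [hn] <;> decide) (by norm_num) (by norm_num) (by norm_num) (by decide)).elim
  · exact (two_prime_kill hG 3 1307 1 1 (by norm_num) (by norm_num) (by rw [hn] <;> decide) (by rw [hn] <;> decide)).elim
  · exact (kb 53 1 74 (by norm_num) (by rw [hn] <;> decide) (by norm_num) (by norm_num) (by norm_num) (by decide)).elim
  · exact (two_prime_kill hG 3923 3923 0 1 (by norm_num) (by norm_num) (by rw [hn] <;> decide) (by rw [hn] <;> decide)).elim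
  · exact (kb 109 1 36 (by norm_num) (by rw [hn] <;> decide) (by norm_num) (by norm_num) (by norm_num) (by decide)).elim
  · exact (two_prime_kill hG 5 157 2 1 (by norm_num) (by norm_num) (by rw [hn] <;> decide) (by rw [hn] <;> decide)).elim
  · exact (kb 151 1 26 (by norm_num) (by rw [hn] <;> decide) (by norm_num) (by norm_num) (by norm_num) (by decide)).elim
  · exact (kb 17 1 231 (by norm_num) (by rw [hn] <;> decide) (by norm_num) (by norm_num) (by norm_num) (by decide)).elim
  · exact (two_prime_kill hG 2 491 3 1 (by norm_num) (by norm_num) (by rw [hn] <;> decide) (by rw [hn] <;> decide)).elim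
  · exact (two_prime_kill hG 3929 3929 0 1 (by norm_num) (by norm_num) (by rw [hn] <;> decide) (by rw [hn] <;> decide)).elim
  · exact (kb 131 1 30 (by norm_num) (by rw [hn] <;> decide) (by norm_num) (by norm_num) (by norm_num) (by decide)).elim
  · exact (two_prime_kill hG 3931 3931 0 1 (by norm_num) (by norm_num) (by rw [hn] <;> decide) (by rw [hn] <;> decide)).elim
  · exact (two_prime_kill hG 2 983 2 1 (by norm_num) (by norm_num) (by rw [hn] <;> decide) (by rw [hn] <;> decide)).elim
  · exact (kb 23 1 171 (by norm_num) (by rw [hn] <;> decide) (by norm_num) (by norm_num) (by norm_num) (by decide)).elim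
  · exact (kb 281 1 14 (by norm_num) (by rw [hn] <;> decide) (by norm_num) (by norm_num) (by norm_num) (by decide)).elim
  · exact (two_prime_kill hG 5 787 1 1 (by norm_num) (by norm_num) (by rw [hn] <;> decide) (by rw [hn] <;> decide)).elim
  · exact (kb 41 1 96 (by norm_num) (by rw [hn] <;> decide) (by norm_num) (by norm_num) (by norm_num) (by decide)).elim
  · exact (two_prime_kill hG 31 127 1 1 (by norm_num) (by norm_num) (by rw [hn] <;> decide) (by rw [hn] <;> decide)).elim
  · exact (kb 179 1 22 (by norm_num) (by rw [hn] <;> decide) (by norm_num) (by norm_num) (by norm_num) (by decide)).elim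
  · exact (kb 101 1 39 (by norm_num) (by rw [hn] <;> decide) (by norm_num) (by norm_num) (by norm_num) (by decide)).elim
  · exact (kb 197 1 20 (by norm_num) (by rw [hn] <;> decide) (by norm_num) (by norm_num) (by norm_num) (by decide)).elim

end

end Cfsg.Agent.Lib.Helper7.Ord2

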