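import Mathlib
import Cfsg.Agent.Lib.Helper7.Ord2A

/-! Dispatch over the orders 3941..4240 (generated by a script; helper7, for S0983).
Every order is either one of the four real ones, a prime power or `p^a q^b` (Burnside),
or is killed by Sylow counting (`kb`, `ks`, parity, intersection), or is one of the 23 orders
of `Ord2.Hard`, which are handled separately. -/

set_option autoImplicit false
set_option maxRecDepth 100000
set_option maxHeartbeats 4000000

namespace Cfsg.Agent.Lib.Helper7.Ord2

open Cfsg.Agent.Lib.Helper7.Ord

section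
variable {G : Type*} [Group G] [Finite G] [IsSimpleGroup G]

theorem orders2_2 (hG : ¬ IsMulCommutative G) (hhard : Nat.card G ∈ Hard → False)
    (hlo : 3941 ≤ Nat.card G) (hhi : Nat.card G ≤ 4240) :
    Nat.card G = 4080 ∨ Nat.card G = 5616 ∨ Nat.card G = 6048 ∨ Nat.card G = 6072 := by
  obtain ⟨n, hn⟩ : ∃ n, Nat.card G = n := ⟨_, rfl⟩
  rw [hn] at hlo hhi ⊢
  interval_cases n
  · exact (two_prime_kill hG 7 563 1 1 (by norm_num) (by norm_num) (by rw [hn] <;> decide) (by rw [hn] <;> decide)).elim
  · exact (kb 73 1 54 (by norm_num) (by rw [hn] <;> decide) (by norm_num) (by norm_num) (by norm_num) (by decide)).elim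
  · exact (two_prime_kill hG 3943 3943 0 1 (by norm_num) (by norm_num) (by rw [hn] <;> decide) (by rw [hn] <;> decide)).elim
  · exact (kb 29 1 136 (by norm_num) (by rw [hn] <;> decide) (by norm_num) (by norm_num) (by norm_num) (by decide)).elim
  · exact (kb 263 1 15 (by norm_num) (by rw [hn] <;> decide) (by norm_num) (by norm_num) (by norm_num) (by decide)).elim
  · exact (two_prime_kill hG 2 1973 1 1 (by norm_num) (by norm_num) (by rw [hn] <;> decide) (by rw [hn] <;> decide)).elim
  · exact (two_prime_kill hG 3947 3947 0 1 (by norm_num) (by norm_num) (by rw [hn] <;> decide) (by rw [hn] <;> decide)).elim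
  · exact (kb 47 1 84 (by norm_num) (by rw [hn] <;> decide) (by norm_num) (by norm_num) (by norm_num) (by decide)).elim
  · exact (two_prime_kill hG 11 359 1 1 (by norm_num) (by norm_num) (by rw [hn] <;> decide) (by rw [hn] <;> decide)).elim
  · exact (kb 79 1 50 (by norm_num) (by rw [hn] <;> decide) (by norm_num) (by norm_num) (by norm_num) (by decide)).elim
  · exact (two_prime_kill hG 3 439 2 1 (by norm_num) (by norm_num) (by rw [hn] <;> decide) (by rw [hn] <;> decide)).elim
  · exact (kb 19 1 208 (by norm_num) (by rw [hn] <;> decide) (by norm_num) (by norm_num) (by norm_num) (by decide)).elim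
  · exact (two_prime_kill hG 59 67 1 1 (by norm_num) (by norm_num) (by rw [hn] <;> decide) (by rw [hn] <;> decide)).elim
  · exact (kb 659 1 6 (by norm_num) (by rw [hn] <;> decide) (by norm_num) (by norm_num) (by norm_num) (by decide)).elim
  · exact (kb 113 1 35 (by norm_num) (by rw [hn] <;> decide) (by norm_num) (by norm_num) (by norm_num) (by decide)).elim
  · exact (kb 43 1 92 (by norm_num) (by rw [hn] <;> decide) (by norm_num) (by norm_num) (by norm_num) (by decide)).elim
  · exact (two_prime_kill hG 3 1319 1 1 (by norm_num) (by norm_num) (by rw [hn] <;> decide) (by rw [hn] <;> decide)).elim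
  · exact (two_prime_kill hG 2 1979 1 1 (by norm_num) (by norm_num) (by rw [hn] <;> decide) (by rw [hn] <;> decide)).elim
  · exact (two_prime_kill hG 37 107 1 1 (by norm_num) (by norm_num) (by rw [hn] <;> decide) (by rw [hn] <;> decide)).elim
  · exact (hhard (by rw [hn]; decide)).elim
  · exact (two_prime_kill hG 17 233 1 1 (by norm_num) (by norm_num) (by rw [hn] <;> decide) (by rw [hn] <;> decide)).elim
  · exact (kb 283 1 14 (by norm_num) (by rw [hn] <;> decide) (by norm_num) (by norm_num) (by norm_num) (by decide)).elim
  · exact (two_prime_kill hG 3 1321 1 1 (by norm_num) (by norm_num) (by rw [hn] <;> decide) (by rw [hn] <;> decide)).elim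
  · exact (two_prime_kill hG 2 991 2 1 (by norm_num) (by norm_num) (by rw [hn] <;> decide) (by rw [hn] <;> decide)).elim
  · exact (kb 61 1 65 (by norm_num) (by rw [hn] <;> decide) (by norm_num) (by norm_num) (by norm_num) (by decide)).elim
  · exact (kb 661 1 6 (by norm_num) (by rw [hn] <;> decide) (by norm_num) (by norm_num) (by norm_num) (by decide)).elim
  · exact (two_prime_kill hG 3967 3967 0 1 (by norm_num) (by norm_num) (by rw [hn] <;> decide) (by rw [hn] <;> decide)).elim
  · exact (two_prime_kill hG 2 31 7 1 (by norm_num) (by norm_num) (by rw [hn] <;> decide) (by rw [hn] <;> decide)).elim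
  · exact (two_prime_kill hG 3 7 4 2 (by norm_num) (by norm_num) (by rw [hn] <;> decide) (by rw [hn] <;> decide)).elim
  · exact (kb 397 1 10 (by norm_num) (by rw [hn] <;> decide) (by norm_num) (by norm_num) (by norm_num) (by decide)).elim
  · exact (two_prime_kill hG 11 19 1 2 (by norm_num) (by norm_num) (by rw [hn] <;> decide) (by rw [hn] <;> decide)).elim
  · exact (kb 331 1 12 (by norm_num) (by rw [hn] <;> decide) (by norm_num) (by norm_num) (by norm_num) (by decide)).elim
  · exact (two_prime_kill hG 29 137 1 1 (by norm_num) (by norm_num) (by rw [hn] <;> decide) (by rw [hn] <;> decide)).elim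
  · exact (two_prime_kill hG 2 1987 1 1 (by norm_num) (by norm_num) (by rw [hn] <;> decide) (by rw [hn] <;> decide)).elim
  · exact (kb 53 1 75 (by norm_num) (by rw [hn] <;> decide) (by norm_num) (by norm_num) (by norm_num) (by decide)).elim
  · exact (kb 71 1 56 (by norm_num) (by rw [hn] <;> decide) (by norm_num) (by norm_num) (by norm_num) (by decide)).elim
  · exact (two_prime_kill hG 41 97 1 1 (by norm_num) (by norm_num) (by rw [hn] <;> decide) (by rw [hn] <;> decide)).elim
  · exact (kb 17 1 234 (by norm_num) (by rw [hn] <;> decide) (by norm_num) (by norm_num) (by norm_num) (by decide)).elim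
  · exact (two_prime_kill hG 23 173 1 1 (by norm_num) (by norm_num) (by rw [hn] <;> decide) (by rw [hn] <;> decide)).elim
  · exact (kb 199 1 20 (by norm_num) (by rw [hn] <;> decide) (by norm_num) (by norm_num) (by norm_num) (by decide)).elim
  · exact (two_prime_kill hG 3 1327 1 1 (by norm_num) (by norm_num) (by rw [hn] <;> decide) (by rw [hn] <;> decide)).elim
  · exact (kb 181 1 22 (by norm_num) (by rw [hn] <;> decide) (by norm_num) (by norm_num) (by norm_num) (by decide)).elim
  · exact (two_prime_kill hG 7 569 1 1 (by norm_num) (by norm_num) (by rw [hn] <;> decide) (by rw [hn] <;> decide)).elim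
  · exact (kb 83 1 48 (by norm_num) (by rw [hn] <;> decide) (by norm_num) (by norm_num) (by norm_num) (by decide)).elim
  · exact (two_prime_kill hG 5 797 1 1 (by norm_num) (by norm_num) (by rw [hn] <;> decide) (by rw [hn] <;> decide)).elim
  · exact (two_prime_kill hG 2 1993 1 1 (by norm_num) (by norm_num) (by rw [hn] <;> decide) (by rw [hn] <;> decide)).elim
  · exact (two_prime_kill hG 3 443 2 1 (by norm_num) (by norm_num) (by rw [hn] <;> decide) (by rw [hn] <;> decide)).elim
  · exact (two_prime_kill hG 2 997 2 1 (by norm_num) (by norm_num) (by rw [hn] <;> decide) (by rw [hn] <;> decide)).elim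
  · exact (two_prime_kill hG 3989 3989 0 1 (by norm_num) (by norm_num) (by rw [hn] <;> decide) (by rw [hn] <;> decide)).elim
  · exact (kb 19 1 210 (by norm_num) (by rw [hn] <;> decide) (by norm_num) (by norm_num) (by norm_num) (by decide)).elim
  · exact (two_prime_kill hG 13 307 1 1 (by norm_num) (by norm_num) (by rw [hn] <;> decide) (by rw [hn] <;> decide)).elim
  · exact (two_prime_kill hG 2 499 3 1 (by norm_num) (by norm_num) (by rw [hn] <;> decide) (by rw [hn] <;> decide)).elim
  · exact (two_prime_kill hG 3 11 1 3 (by norm_num) (by norm_num) (by rw [hn] <;> decide) (by rw [hn] <;> decide)).elim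
  · exact (two_prime_kill hG 2 1997 1 1 (by norm_num) (by norm_num) (by rw [hn] <;> decide) (by rw [hn] <;> decide)).elim
  · exact (kb 47 1 85 (by norm_num) (by rw [hn] <;> decide) (by norm_num) (by norm_num) (by norm_num) (by decide)).elim
  · exact (kb 37 1 108 (by norm_num) (by rw [hn] <;> decide) (by norm_num) (by norm_num) (by norm_num) (by decide)).elim
  · exact (two_prime_kill hG 7 571 1 1 (by norm_num) (by norm_num) (by rw [hn] <;> decide) (by rw [hn] <;> decide)).elim
  · exact (two_prime_kill hG 2 1999 1 1 (by norm_num) (by norm_num) (by rw [hn] <;> decide) (by rw [hn] <;> decide)).elim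
  · exact (kb 43 1 93 (by norm_num) (by rw [hn] <;> decide) (by norm_num) (by norm_num) (by norm_num) (by decide)).elim
  · exact (two_prime_kill hG 2 5 5 3 (by norm_num) (by norm_num) (by rw [hn] <;> decide) (by rw [hn] <;> decide)).elim
  · exact (two_prime_kill hG 4001 4001 0 1 (by norm_num) (by norm_num) (by rw [hn] <;> decide) (by rw [hn] <;> decide)).elim
  · exact (kb 29 1 138 (by norm_num) (by rw [hn] <;> decide) (by norm_num) (by norm_num) (by norm_num) (by decide)).elim
  · exact (two_prime_kill hG 4003 4003 0 1 (by norm_num) (by norm_num) (by rw [hn] <;> decide) (by rw [hn] <;> decide)).elim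
  · exact (kb 13 1 308 (by norm_num) (by rw [hn] <;> decide) (by norm_num) (by norm_num) (by norm_num) (by decide)).elim
  · exact (kb 89 1 45 (by norm_num) (by rw [hn] <;> decide) (by norm_num) (by norm_num) (by norm_num) (by decide)).elim
  · exact (two_prime_kill hG 2 2003 1 1 (by norm_num) (by norm_num) (by rw [hn] <;> decide) (by rw [hn] <;> decide)).elim
  · exact (two_prime_kill hG 4007 4007 0 1 (by norm_num) (by norm_num) (by rw [hn] <;> decide) (by rw [hn] <;> decide)).elim
  · exact (kb 167 1 24 (by norm_num) (by rw [hn] <;> decide) (by norm_num) (by norm_num) (by norm_num) (by decide)).elim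
  · exact (two_prime_kill hG 19 211 1 1 (by norm_num) (by norm_num) (by rw [hn] <;> decide) (by rw [hn] <;> decide)).elim
  · exact (kb 401 1 10 (by norm_num) (by rw [hn] <;> decide) (by norm_num) (by norm_num) (by norm_num) (by decide)).elim
  · exact (kb 191 1 21 (by norm_num) (by rw [hn] <;> decide) (by norm_num) (by norm_num) (by norm_num) (by decide)).elim
  · exact (kb 59 1 68 (by norm_num) (by rw [hn] <;> decide) (by norm_num) (by norm_num) (by norm_num) (by decide)).elim
  · exact (two_prime_kill hG 4013 4013 0 1 (by norm_num) (by norm_num) (by rw [hn] <;> decide) (by rw [hn] <;> decide)).elim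
  · exact (kb 223 1 18 (by norm_num) (by rw [hn] <;> decide) (by norm_num) (by norm_num) (by norm_num) (by decide)).elim
  · exact (kb 73 1 55 (by norm_num) (by rw [hn] <;> decide) (by norm_num) (by norm_num) (by norm_num) (by decide)).elim
  · exact (two_prime_kill hG 2 251 4 1 (by norm_num) (by norm_num) (by rw [hn] <;> decide) (by rw [hn] <;> decide)).elim
  · exact (kb 103 1 39 (by norm_num) (by rw [hn] <;> decide) (by norm_num) (by norm_num) (by norm_num) (by decide)).elim
  · exact (kb 7 2 82 (by norm_num) (by rw [hn] <;> decide) (by norm_num) (by norm_num) (by norm_num) (by decide)).elim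
  · exact (two_prime_kill hG 4019 4019 0 1 (by norm_num) (by norm_num) (by rw [hn] <;> decide) (by rw [hn] <;> decide)).elim
  · exact (kb 67 1 60 (by norm_num) (by rw [hn] <;> decide) (by norm_num) (by norm_num) (by norm_num) (by decide)).elim
  · exact (two_prime_kill hG 4021 4021 0 1 (by norm_num) (by norm_num) (by rw [hn] <;> decide) (by rw [hn] <;> decide)).elim
  · exact (two_prime_kill hG 2 2011 1 1 (by norm_num) (by norm_num) (by rw [hn] <;> decide) (by rw [hn] <;> decide)).elim
  · exact (two_prime_kill hG 3 149 3 1 (by norm_num) (by norm_num) (by rw [hn] <;> decide) (by rw [hn] <;> decide)).elim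
  · exact (two_prime_kill hG 2 503 3 1 (by norm_num) (by norm_num) (by rw [hn] <;> decide) (by rw [hn] <;> decide)).elim
  · exact (kb 23 1 175 (by norm_num) (by rw [hn] <;> decide) (by norm_num) (by norm_num) (by norm_num) (by decide)).elim
  · exact (kb 61 1 66 (by norm_num) (by rw [hn] <;> decide) (by norm_num) (by norm_num) (by norm_num) (by decide)).elim
  · exact (two_prime_kill hG 4027 4027 0 1 (by norm_num) (by norm_num) (by rw [hn] <;> decide) (by rw [hn] <;> decide)).elim
  · exact (kb 53 1 76 (by norm_num) (by rw [hn] <;> decide) (by norm_num) (by norm_num) (by norm_num) (by decide)).elim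
  · exact (kb 79 1 51 (by norm_num) (by rw [hn] <;> decide) (by norm_num) (by norm_num) (by norm_num) (by decide)).elim
  · exact (kb 31 1 130 (by norm_num) (by rw [hn] <;> decide) (by norm_num) (by norm_num) (by norm_num) (by decide)).elim
  · exact (two_prime_kill hG 29 139 1 1 (by norm_num) (by norm_num) (by rw [hn] <;> decide) (by rw [hn] <;> decide)).elim
  · exact (hhard (by rw [hn]; decide)).elim
  · exact (two_prime_kill hG 37 109 1 1 (by norm_num) (by norm_num) (by rw [hn] <;> decide) (by rw [hn] <;> decide)).elim
  · exact (two_prime_kill hG 2 2017 1 1 (by norm_num) (by norm_num) (by rw [hn] <;> decide) (by rw [hn] <;> decide)).elim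
  · exact (kb 269 1 15 (by norm_num) (by rw [hn] <;> decide) (by norm_num) (by norm_num) (by norm_num) (by decide)).elim
  · exact (two_prime_kill hG 2 1009 2 1 (by norm_num) (by norm_num) (by rw [hn] <;> decide) (by rw [hn] <;> decide)).elim
  · exact (two_prime_kill hG 11 367 1 1 (by norm_num) (by norm_num) (by rw [hn] <;> decide) (by rw [hn] <;> decide)).elim
  · exact (kb 673 1 6 (by norm_num) (by rw [hn] <;> decide) (by norm_num) (by norm_num) (by norm_num) (by decide)).elim
  · exact (two_prime_kill hG 7 577 1 1 (by norm_num) (by norm_num) (by rw [hn] <;> decide) (by rw [hn] <;> decide)).elim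
  · exact (kb 101 1 40 (by norm_num) (by rw [hn] <;> decide) (by norm_num) (by norm_num) (by norm_num) (by decide)).elim
  · exact (two_prime_kill hG 3 449 2 1 (by norm_num) (by norm_num) (by rw [hn] <;> decide) (by rw [hn] <;> decide)).elim
  · exact (kb 47 1 86 (by norm_num) (by rw [hn] <;> decide) (by norm_num) (by norm_num) (by norm_num) (by decide)).elim
  · exact (two_prime_kill hG 13 311 1 1 (by norm_num) (by norm_num) (by rw [hn] <;> decide) (by rw [hn] <;> decide)).elim
  · exact (kb 337 1 12 (by norm_num) (by rw [hn] <;> decide) (by norm_num) (by norm_num) (by norm_num) (by decide)).elim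
  · exact (two_prime_kill hG 5 809 1 1 (by norm_num) (by norm_num) (by rw [hn] <;> decide) (by rw [hn] <;> decide)).elim
  · exact (kb 17 2 14 (by norm_num) (by rw [hn] <;> decide) (by norm_num) (by norm_num) (by norm_num) (by decide)).elim
  · exact (kb 71 1 57 (by norm_num) (by rw [hn] <;> decide) (by norm_num) (by norm_num) (by norm_num) (by decide)).elim
  · exact (kb 23 1 176 (by norm_num) (by rw [hn] <;> decide) (by norm_num) (by norm_num) (by norm_num) (by decide)).elim
  · exact (two_prime_kill hG 4049 4049 0 1 (by norm_num) (by norm_num) (by rw [hn] <;> decide) (by rw [hn] <;> decide)).elim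
  · exact (kb 2 1 2025 (by norm_num) (by rw [hn] <;> decide) (by norm_num) (by norm_num) (by norm_num) (by decide)).elim
  · exact (two_prime_kill hG 4051 4051 0 1 (by norm_num) (by norm_num) (by rw [hn] <;> decide) (by rw [hn] <;> decide)).elim
  · exact (two_prime_kill hG 2 1013 2 1 (by norm_num) (by norm_num) (by rw [hn] <;> decide) (by rw [hn] <;> decide)).elim
  · exact (kb 193 1 21 (by norm_num) (by rw [hn] <;> decide) (by norm_num) (by norm_num) (by norm_num) (by decide)).elim
  · exact (two_prime_kill hG 2 2027 1 1 (by norm_num) (by norm_num) (by rw [hn] <;> decide) (by rw [hn] <;> decide)).elim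
  · exact (two_prime_kill hG 5 811 1 1 (by norm_num) (by norm_num) (by rw [hn] <;> decide) (by rw [hn] <;> decide)).elim
  · exact (kb 13 2 24 (by norm_num) (by rw [hn] <;> decide) (by norm_num) (by norm_num) (by norm_num) (by decide)).elim
  · exact (two_prime_kill hG 4057 4057 0 1 (by norm_num) (by norm_num) (by rw [hn] <;> decide) (by rw [hn] <;> decide)).elim
  · exact (two_prime_kill hG 2 2029 1 1 (by norm_num) (by norm_num) (by rw [hn] <;> decide) (by rw [hn] <;> decide)).elim
  · exact (kb 41 1 99 (by norm_num) (by rw [hn] <;> decide) (by norm_num) (by norm_num) (by norm_num) (by decide)).elim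
  · exact (kb 29 1 140 (by norm_num) (by rw [hn] <;> decide) (by norm_num) (by norm_num) (by norm_num) (by decide)).elim
  · exact (two_prime_kill hG 31 131 1 1 (by norm_num) (by norm_num) (by rw [hn] <;> decide) (by rw [hn] <;> decide)).elim
  · exact (kb 677 1 6 (by norm_num) (by rw [hn] <;> decide) (by norm_num) (by norm_num) (by norm_num) (by decide)).elim
  · exact (two_prime_kill hG 17 239 1 1 (by norm_num) (by norm_num) (by rw [hn] <;> decide) (by rw [hn] <;> decide)).elim
  · exact (two_prime_kill hG 2 127 5 1 (by norm_num) (by norm_num) (by rw [hn] <;> decide) (by rw [hn] <;> decide)).elim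
  · exact (kb 271 1 15 (by norm_num) (by rw [hn] <;> decide) (by norm_num) (by norm_num) (by norm_num) (by decide)).elim
  · exact (kb 107 1 38 (by norm_num) (by rw [hn] <;> decide) (by norm_num) (by norm_num) (by norm_num) (by decide)).elim
  · exact (two_prime_kill hG 7 83 2 1 (by norm_num) (by norm_num) (by rw [hn] <;> decide) (by rw [hn] <;> decide)).elim
  · exact (kb 113 1 36 (by norm_num) (by rw [hn] <;> decide) (by norm_num) (by norm_num) (by norm_num) (by decide)).elim
  · exact (two_prime_kill hG 13 313 1 1 (by norm_num) (by norm_num) (by rw [hn] <;> decide) (by rw [hn] <;> decide)).elim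
  · exact (kb 37 1 110 (by norm_num) (by rw [hn] <;> decide) (by norm_num) (by norm_num) (by norm_num) (by decide)).elim
  · exact (kb 59 1 69 (by norm_num) (by rw [hn] <;> decide) (by norm_num) (by norm_num) (by norm_num) (by decide)).elim
  · exact (two_prime_kill hG 2 509 3 1 (by norm_num) (by norm_num) (by rw [hn] <;> decide) (by rw [hn] <;> decide)).elim
  · exact (two_prime_kill hG 4073 4073 0 1 (by norm_num) (by norm_num) (by rw [hn] <;> decide) (by rw [hn] <;> decide)).elim
  · exact (kb 97 1 42 (by norm_num) (by rw [hn] <;> decide) (by norm_num) (by norm_num) (by norm_num) (by decide)).elim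
  · exact (two_prime_kill hG 5 163 2 1 (by norm_num) (by norm_num) (by rw [hn] <;> decide) (by rw [hn] <;> decide)).elim
  · exact (two_prime_kill hG 2 1019 2 1 (by norm_num) (by norm_num) (by rw [hn] <;> decide) (by rw [hn] <;> decide)).elim
  · exact (two_prime_kill hG 3 151 3 1 (by norm_num) (by norm_num) (by rw [hn] <;> decide) (by rw [hn] <;> decide)).elim
  · exact (two_prime_kill hG 2 2039 1 1 (by norm_num) (by norm_num) (by rw [hn] <;> decide) (by rw [hn] <;> decide)).elim
  · exact (two_prime_kill hG 4079 4079 0 1 (by norm_num) (by norm_num) (by rw [hn] <;> decide) (by rw [hn] <;> decide)).elim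
  · decide
  · exact (kb 53 1 77 (by norm_num) (by rw [hn] <;> decide) (by norm_num) (by norm_num) (by norm_num) (by decide)).elim
  · exact (kb 157 1 26 (by norm_num) (by rw [hn] <;> decide) (by norm_num) (by norm_num) (by norm_num) (by decide)).elim
  · exact (two_prime_kill hG 3 1361 1 1 (by norm_num) (by norm_num) (by rw [hn] <;> decide) (by rw [hn] <;> decide)).elim
  · exact (two_prime_kill hG 2 1021 2 1 (by norm_num) (by norm_num) (by rw [hn] <;> decide) (by rw [hn] <;> decide)).elim
  · exact (kb 43 1 95 (by norm_num) (by rw [hn] <;> decide) (by norm_num) (by norm_num) (by norm_num) (by decide)).elim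
  · exact (kb 227 1 18 (by norm_num) (by rw [hn] <;> decide) (by norm_num) (by norm_num) (by norm_num) (by decide)).elim
  · exact (two_prime_kill hG 61 67 1 1 (by norm_num) (by norm_num) (by rw [hn] <;> decide) (by rw [hn] <;> decide)).elim
  · exact (kb 73 1 56 (by norm_num) (by rw [hn] <;> decide) (by norm_num) (by norm_num) (by norm_num) (by decide)).elim
  · exact (kb 47 1 87 (by norm_num) (by rw [hn] <;> decide) (by norm_num) (by norm_num) (by norm_num) (by decide)).elim
  · exact (kb 409 1 10 (by norm_num) (by rw [hn] <;> decide) (by norm_num) (by norm_num) (by norm_num) (by decide)).elim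
  · exact (two_prime_kill hG 4091 4091 0 1 (by norm_num) (by norm_num) (by rw [hn] <;> decide) (by rw [hn] <;> decide)).elim
  · exact (kb 31 1 132 (by norm_num) (by rw [hn] <;> decide) (by norm_num) (by norm_num) (by norm_num) (by decide)).elim
  · exact (two_prime_kill hG 4093 4093 0 1 (by norm_num) (by norm_num) (by rw [hn] <;> decide) (by rw [hn] <;> decide)).elim
  · exact (kb 89 1 46 (by norm_num) (by rw [hn] <;> decide) (by norm_num) (by norm_num) (by norm_num) (by decide)).elim
  · exact (kb 5 1 819 (by norm_num) (by rw [hn] <;> decide) (by norm_num) (by norm_num) (by norm_num) (by decide)).elim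
  · exact (two_prime_kill hG 2 2 0 12 (by norm_num) (by norm_num) (by rw [hn] <;> decide) (by rw [hn] <;> decide)).elim
  · exact (two_prime_kill hG 17 241 1 1 (by norm_num) (by norm_num) (by rw [hn] <;> decide) (by rw [hn] <;> decide)).elim
  · exact (kb 683 1 6 (by norm_num) (by rw [hn] <;> decide) (by norm_num) (by norm_num) (by norm_num) (by decide)).elim
  · exact (two_prime_kill hG 4099 4099 0 1 (by norm_num) (by norm_num) (by rw [hn] <;> decide) (by rw [hn] <;> decide)).elim
  · exact (kb 41 1 100 (by norm_num) (by rw [hn] <;> decide) (by norm_num) (by norm_num) (by norm_num) (by decide)).elim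
  · exact (two_prime_kill hG 3 1367 1 1 (by norm_num) (by norm_num) (by rw [hn] <;> decide) (by rw [hn] <;> decide)).elim
  · exact (kb 293 1 14 (by norm_num) (by rw [hn] <;> decide) (by norm_num) (by norm_num) (by norm_num) (by decide)).elim
  · exact (two_prime_kill hG 11 373 1 1 (by norm_num) (by norm_num) (by rw [hn] <;> decide) (by rw [hn] <;> decide)).elim
  · exact (kb 19 1 216 (by norm_num) (by rw [hn] <;> decide) (by norm_num) (by norm_num) (by norm_num) (by decide)).elim
  · exact (two_prime_kill hG 5 821 1 1 (by norm_num) (by norm_num) (by rw [hn] <;> decide) (by rw [hn] <;> decide)).elim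
  · exact (two_prime_kill hG 2 2053 1 1 (by norm_num) (by norm_num) (by rw [hn] <;> decide) (by rw [hn] <;> decide)).elim
  · exact (two_prime_kill hG 3 37 1 2 (by norm_num) (by norm_num) (by rw [hn] <;> decide) (by rw [hn] <;> decide)).elim
  · exact (kb 79 1 52 (by norm_num) (by rw [hn] <;> decide) (by norm_num) (by norm_num) (by norm_num) (by decide)).elim
  · exact (two_prime_kill hG 7 587 1 1 (by norm_num) (by norm_num) (by rw [hn] <;> decide) (by rw [hn] <;> decide)).elim
  · exact (kb 137 1 30 (by norm_num) (by rw [hn] <;> decide) (by norm_num) (by norm_num) (by norm_num) (by decide)).elim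
  · exact (two_prime_kill hG 4111 4111 0 1 (by norm_num) (by norm_num) (by rw [hn] <;> decide) (by rw [hn] <;> decide)).elim
  · exact (two_prime_kill hG 2 257 4 1 (by norm_num) (by norm_num) (by rw [hn] <;> decide) (by rw [hn] <;> decide)).elim
  · exact (two_prime_kill hG 3 457 2 1 (by norm_num) (by norm_num) (by rw [hn] <;> decide) (by rw [hn] <;> decide)).elim
  · exact (kb 17 1 242 (by norm_num) (by rw [hn] <;> decide) (by norm_num) (by norm_num) (by norm_num) (by decide)).elim
  · exact (two_prime_kill hG 5 823 1 1 (by norm_num) (by norm_num) (by rw [hn] <;> decide) (by rw [hn] <;> decide)).elim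
  · exact (kb 7 3 12 (by norm_num) (by rw [hn] <;> decide) (by norm_num) (by norm_num) (by norm_num) (by decide)).elim
  · exact (two_prime_kill hG 23 179 1 1 (by norm_num) (by norm_num) (by rw [hn] <;> decide) (by rw [hn] <;> decide)).elim
  · exact (kb 71 1 58 (by norm_num) (by rw [hn] <;> decide) (by norm_num) (by norm_num) (by norm_num) (by decide)).elim
  · exact (two_prime_kill hG 3 1373 1 1 (by norm_num) (by norm_num) (by rw [hn] <;> decide) (by rw [hn] <;> decide)).elim
  · exact (kb 103 1 40 (by norm_num) (by rw [hn] <;> decide) (by norm_num) (by norm_num) (by norm_num) (by decide)).elim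
  · exact (two_prime_kill hG 13 317 1 1 (by norm_num) (by norm_num) (by rw [hn] <;> decide) (by rw [hn] <;> decide)).elim
  · exact (kb 229 1 18 (by norm_num) (by rw [hn] <;> decide) (by norm_num) (by norm_num) (by norm_num) (by decide)).elim
  · exact (kb 31 1 133 (by norm_num) (by rw [hn] <;> decide) (by norm_num) (by norm_num) (by norm_num) (by decide)).elim
  · exact (two_prime_kill hG 2 1031 2 1 (by norm_num) (by norm_num) (by rw [hn] <;> decide) (by rw [hn] <;> decide)).elim
  · exact (kb 5 3 33 (by norm_num) (by rw [hn] <;> decide) (by norm_num) (by norm_num) (by norm_num) (by decide)).elim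
  · exact (two_prime_kill hG 2 2063 1 1 (by norm_num) (by norm_num) (by rw [hn] <;> decide) (by rw [hn] <;> decide)).elim
  · exact (two_prime_kill hG 4127 4127 0 1 (by norm_num) (by norm_num) (by rw [hn] <;> decide) (by rw [hn] <;> decide)).elim
  · exact (kb 43 1 96 (by norm_num) (by rw [hn] <;> decide) (by norm_num) (by norm_num) (by norm_num) (by decide)).elim
  · exact (two_prime_kill hG 4129 4129 0 1 (by norm_num) (by norm_num) (by rw [hn] <;> decide) (by rw [hn] <;> decide)).elim
  · exact (kb 59 1 70 (by norm_num) (by rw [hn] <;> decide) (by norm_num) (by norm_num) (by norm_num) (by decide)).elim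
  · exact (two_prime_kill hG 3 17 5 1 (by norm_num) (by norm_num) (by rw [hn] <;> decide) (by rw [hn] <;> decide)).elim
  · exact (two_prime_kill hG 2 1033 2 1 (by norm_num) (by norm_num) (by rw [hn] <;> decide) (by rw [hn] <;> decide)).elim
  · exact (two_prime_kill hG 4133 4133 0 1 (by norm_num) (by norm_num) (by rw [hn] <;> decide) (by rw [hn] <;> decide)).elim
  · exact (kb 53 1 78 (by norm_num) (by rw [hn] <;> decide) (by norm_num) (by norm_num) (by norm_num) (by decide)).elim
  · exact (two_prime_kill hG 5 827 1 1 (by norm_num) (by norm_num) (by rw [hn] <;> decide) (by rw [hn] <;> decide)).elim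
  · exact (kb 47 1 88 (by norm_num) (by rw [hn] <;> decide) (by norm_num) (by norm_num) (by norm_num) (by decide)).elim
  · exact (kb 197 1 21 (by norm_num) (by rw [hn] <;> decide) (by norm_num) (by norm_num) (by norm_num) (by decide)).elim
  · exact (two_prime_kill hG 2 2069 1 1 (by norm_num) (by norm_num) (by rw [hn] <;> decide) (by rw [hn] <;> decide)).elim
  · exact (two_prime_kill hG 4139 4139 0 1 (by norm_num) (by norm_num) (by rw [hn] <;> decide) (by rw [hn] <;> decide)).elim
  · exact (kb 23 1 180 (by norm_num) (by rw [hn] <;> decide) (by norm_num) (by norm_num) (by norm_num) (by decide)).elim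
  · exact (two_prime_kill hG 41 101 1 1 (by norm_num) (by norm_num) (by rw [hn] <;> decide) (by rw [hn] <;> decide)).elim
  · exact (kb 109 1 38 (by norm_num) (by rw [hn] <;> decide) (by norm_num) (by norm_num) (by norm_num) (by decide)).elim
  · exact (two_prime_kill hG 3 1381 1 1 (by norm_num) (by norm_num) (by rw [hn] <;> decide) (by rw [hn] <;> decide)).elim
  · exact (kb 37 1 112 (by norm_num) (by rw [hn] <;> decide) (by norm_num) (by norm_num) (by norm_num) (by decide)).elim
  · exact (two_prime_kill hG 5 829 1 1 (by norm_num) (by norm_num) (by rw [hn] <;> decide) (by rw [hn] <;> decide)).elim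
  · exact (kb 691 1 6 (by norm_num) (by rw [hn] <;> decide) (by norm_num) (by norm_num) (by norm_num) (by decide)).elim
  · exact (kb 29 1 143 (by norm_num) (by rw [hn] <;> decide) (by norm_num) (by norm_num) (by norm_num) (by decide)).elim
  · exact (kb 61 1 68 (by norm_num) (by rw [hn] <;> decide) (by norm_num) (by norm_num) (by norm_num) (by decide)).elim
  · exact (two_prime_kill hG 3 461 2 1 (by norm_num) (by norm_num) (by rw [hn] <;> decide) (by rw [hn] <;> decide)).elim
  · exact (kb 83 1 50 (by norm_num) (by rw [hn] <;> decide) (by norm_num) (by norm_num) (by norm_num) (by decide)).elim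
  · exact (two_prime_kill hG 7 593 1 1 (by norm_num) (by norm_num) (by rw [hn] <;> decide) (by rw [hn] <;> decide)).elim
  · exact (kb 173 1 24 (by norm_num) (by rw [hn] <;> decide) (by norm_num) (by norm_num) (by norm_num) (by decide)).elim
  · exact (two_prime_kill hG 4153 4153 0 1 (by norm_num) (by norm_num) (by rw [hn] <;> decide) (by rw [hn] <;> decide)).elim
  · exact (kb 67 1 62 (by norm_num) (by rw [hn] <;> decide) (by norm_num) (by norm_num) (by norm_num) (by decide)).elim
  · exact (kb 277 1 15 (by norm_num) (by rw [hn] <;> decide) (by norm_num) (by norm_num) (by norm_num) (by decide)).elim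
  · exact (two_prime_kill hG 2 1039 2 1 (by norm_num) (by norm_num) (by rw [hn] <;> decide) (by rw [hn] <;> decide)).elim
  · exact (two_prime_kill hG 4157 4157 0 1 (by norm_num) (by norm_num) (by rw [hn] <;> decide) (by rw [hn] <;> decide)).elim
  · exact (kb 11 1 378 (by norm_num) (by rw [hn] <;> decide) (by norm_num) (by norm_num) (by norm_num) (by decide)).elim
  · exact (two_prime_kill hG 4159 4159 0 1 (by norm_num) (by norm_num) (by rw [hn] <;> decide) (by rw [hn] <;> decide)).elim
  · exact (ks 2 5 6 1 13 320 (by norm_num) (by norm_num) (by norm_num) (by norm_num) (by norm_num) (by norm_num) (by norm_num) (by rw [hn] <;> decide) (by norm_num) (by decide)).elim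
  · exact (kb 73 1 57 (by norm_num) (by rw [hn] <;> decide) (by norm_num) (by norm_num) (by norm_num) (by decide)).elim
  · exact (two_prime_kill hG 2 2081 1 1 (by norm_num) (by norm_num) (by rw [hn] <;> decide) (by rw [hn] <;> decide)).elim
  · exact (two_prime_kill hG 23 181 1 1 (by norm_num) (by norm_num) (by rw [hn] <;> decide) (by rw [hn] <;> decide)).elim
  · exact (kb 347 1 12 (by norm_num) (by rw [hn] <;> decide) (by norm_num) (by norm_num) (by norm_num) (by decide)).elim
  · exact (kb 17 1 245 (by norm_num) (by rw [hn] <;> decide) (by norm_num) (by norm_num) (by norm_num) (by decide)).elim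
  · exact (two_prime_kill hG 2 2083 1 1 (by norm_num) (by norm_num) (by rw [hn] <;> decide) (by rw [hn] <;> decide)).elim
  · exact (two_prime_kill hG 3 463 2 1 (by norm_num) (by norm_num) (by rw [hn] <;> decide) (by rw [hn] <;> decide)).elim
  · exact (two_prime_kill hG 2 521 3 1 (by norm_num) (by norm_num) (by rw [hn] <;> decide) (by rw [hn] <;> decide)).elim
  · exact (two_prime_kill hG 11 379 1 1 (by norm_num) (by norm_num) (by rw [hn] <;> decide) (by rw [hn] <;> decide)).elim
  · exact (kb 139 1 30 (by norm_num) (by rw [hn] <;> decide) (by norm_num) (by norm_num) (by norm_num) (by decide)).elim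
  · exact (two_prime_kill hG 43 97 1 1 (by norm_num) (by norm_num) (by rw [hn] <;> decide) (by rw [hn] <;> decide)).elim
  · exact (kb 149 1 28 (by norm_num) (by rw [hn] <;> decide) (by norm_num) (by norm_num) (by norm_num) (by decide)).elim
  · exact (kb 107 1 39 (by norm_num) (by rw [hn] <;> decide) (by norm_num) (by norm_num) (by norm_num) (by decide)).elim
  · exact (two_prime_kill hG 2 2087 1 1 (by norm_num) (by norm_num) (by rw [hn] <;> decide) (by rw [hn] <;> decide)).elim
  · exact (two_prime_kill hG 5 167 2 1 (by norm_num) (by norm_num) (by rw [hn] <;> decide) (by rw [hn] <;> decide)).elim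
  · exact (kb 29 1 144 (by norm_num) (by rw [hn] <;> decide) (by norm_num) (by norm_num) (by norm_num) (by decide)).elim
  · exact (two_prime_kill hG 4177 4177 0 1 (by norm_num) (by norm_num) (by rw [hn] <;> decide) (by rw [hn] <;> decide)).elim
  · exact (two_prime_kill hG 2 2089 1 1 (by norm_num) (by norm_num) (by rw [hn] <;> decide) (by rw [hn] <;> decide)).elim
  · exact (kb 199 1 21 (by norm_num) (by rw [hn] <;> decide) (by norm_num) (by norm_num) (by norm_num) (by decide)).elim
  · exact (kb 19 1 220 (by norm_num) (by rw [hn] <;> decide) (by norm_num) (by norm_num) (by norm_num) (by decide)).elim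
  · exact (two_prime_kill hG 37 113 1 1 (by norm_num) (by norm_num) (by rw [hn] <;> decide) (by rw [hn] <;> decide)).elim
  · exact (kb 41 1 102 (by norm_num) (by rw [hn] <;> decide) (by norm_num) (by norm_num) (by norm_num) (by decide)).elim
  · exact (two_prime_kill hG 47 89 1 1 (by norm_num) (by norm_num) (by rw [hn] <;> decide) (by rw [hn] <;> decide)).elim
  · exact (two_prime_kill hG 2 523 3 1 (by norm_num) (by norm_num) (by rw [hn] <;> decide) (by rw [hn] <;> decide)).elim
  · exact (kb 31 1 135 (by norm_num) (by rw [hn] <;> decide) (by norm_num) (by norm_num) (by norm_num) (by decide)).elim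
  · exact (kb 23 1 182 (by norm_num) (by rw [hn] <;> decide) (by norm_num) (by norm_num) (by norm_num) (by decide)).elim
  · exact (two_prime_kill hG 53 79 1 1 (by norm_num) (by norm_num) (by rw [hn] <;> decide) (by rw [hn] <;> decide)).elim
  · exact (kb 349 1 12 (by norm_num) (by rw [hn] <;> decide) (by norm_num) (by norm_num) (by norm_num) (by decide)).elim
  · exact (two_prime_kill hG 59 71 1 1 (by norm_num) (by norm_num) (by rw [hn] <;> decide) (by rw [hn] <;> decide)).elim
  · exact (kb 419 1 10 (by norm_num) (by rw [hn] <;> decide) (by norm_num) (by norm_num) (by norm_num) (by decide)).elim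
  · exact (kb 127 1 33 (by norm_num) (by rw [hn] <;> decide) (by norm_num) (by norm_num) (by norm_num) (by decide)).elim
  · exact (two_prime_kill hG 2 131 5 1 (by norm_num) (by norm_num) (by rw [hn] <;> decide) (by rw [hn] <;> decide)).elim
  · exact (two_prime_kill hG 7 599 1 1 (by norm_num) (by norm_num) (by rw [hn] <;> decide) (by rw [hn] <;> decide)).elim
  · exact (kb 233 1 18 (by norm_num) (by rw [hn] <;> decide) (by norm_num) (by norm_num) (by norm_num) (by decide)).elim
  · exact (two_prime_kill hG 5 839 1 1 (by norm_num) (by norm_num) (by rw [hn] <;> decide) (by rw [hn] <;> decide)).elim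
  · exact (two_prime_kill hG 2 1049 2 1 (by norm_num) (by norm_num) (by rw [hn] <;> decide) (by rw [hn] <;> decide)).elim
  · exact (two_prime_kill hG 3 1399 1 1 (by norm_num) (by norm_num) (by rw [hn] <;> decide) (by rw [hn] <;> decide)).elim
  · exact (two_prime_kill hG 2 2099 1 1 (by norm_num) (by norm_num) (by rw [hn] <;> decide) (by rw [hn] <;> decide)).elim
  · exact (kb 19 1 221 (by norm_num) (by rw [hn] <;> decide) (by norm_num) (by norm_num) (by norm_num) (by decide)).elim
  · exact (hhard (by rw [hn]; decide)).elim
  · exact (two_prime_kill hG 4201 4201 0 1 (by norm_num) (by norm_num) (by rw [hn] <;> decide) (by rw [hn] <;> decide)).elim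
  · exact (kb 191 1 22 (by norm_num) (by rw [hn] <;> decide) (by norm_num) (by norm_num) (by norm_num) (by decide)).elim
  · exact (two_prime_kill hG 3 467 2 1 (by norm_num) (by norm_num) (by rw [hn] <;> decide) (by rw [hn] <;> decide)).elim
  · exact (two_prime_kill hG 2 1051 2 1 (by norm_num) (by norm_num) (by rw [hn] <;> decide) (by rw [hn] <;> decide)).elim
  · exact (two_prime_kill hG 5 29 1 2 (by norm_num) (by norm_num) (by rw [hn] <;> decide) (by rw [hn] <;> decide)).elim
  · exact (kb 701 1 6 (by norm_num) (by rw [hn] <;> decide) (by norm_num) (by norm_num) (by norm_num) (by decide)).elim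
  · exact (two_prime_kill hG 7 601 1 1 (by norm_num) (by norm_num) (by rw [hn] <;> decide) (by rw [hn] <;> decide)).elim
  · exact (two_prime_kill hG 2 263 4 1 (by norm_num) (by norm_num) (by rw [hn] <;> decide) (by rw [hn] <;> decide)).elim
  · exact (kb 61 1 69 (by norm_num) (by rw [hn] <;> decide) (by norm_num) (by norm_num) (by norm_num) (by decide)).elim
  · exact (kb 421 1 10 (by norm_num) (by rw [hn] <;> decide) (by norm_num) (by norm_num) (by norm_num) (by decide)).elim
  · exact (two_prime_kill hG 4211 4211 0 1 (by norm_num) (by norm_num) (by rw [hn] <;> decide) (by rw [hn] <;> decide)).elim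
  · exact (hhard (by rw [hn]; decide)).elim
  · exact (two_prime_kill hG 11 383 1 1 (by norm_num) (by norm_num) (by rw [hn] <;> decide) (by rw [hn] <;> decide)).elim
  · exact (kb 43 1 98 (by norm_num) (by rw [hn] <;> decide) (by norm_num) (by norm_num) (by norm_num) (by decide)).elim
  · exact (kb 281 1 15 (by norm_num) (by rw [hn] <;> decide) (by norm_num) (by norm_num) (by norm_num) (by decide)).elim
  · exact (kb 31 1 136 (by norm_num) (by rw [hn] <;> decide) (by norm_num) (by norm_num) (by norm_num) (by decide)).elim
  · exact (two_prime_kill hG 4217 4217 0 1 (by norm_num) (by norm_num) (by rw [hn] <;> decide) (by rw [hn] <;> decide)).elim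
  · exact (kb 19 1 222 (by norm_num) (by rw [hn] <;> decide) (by norm_num) (by norm_num) (by norm_num) (by decide)).elim
  · exact (two_prime_kill hG 4219 4219 0 1 (by norm_num) (by norm_num) (by rw [hn] <;> decide) (by rw [hn] <;> decide)).elim
  · exact (kb 211 1 20 (by norm_num) (by rw [hn] <;> decide) (by norm_num) (by norm_num) (by norm_num) (by decide)).elim
  · exact (kb 67 1 63 (by norm_num) (by rw [hn] <;> decide) (by norm_num) (by norm_num) (by norm_num) (by decide)).elim
  · exact (two_prime_kill hG 2 2111 1 1 (by norm_num) (by norm_num) (by rw [hn] <;> decide) (by rw [hn] <;> decide)).elim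
  · exact (two_prime_kill hG 41 103 1 1 (by norm_num) (by norm_num) (by rw [hn] <;> decide) (by rw [hn] <;> decide)).elim
  · exact (kb 11 1 384 (by norm_num) (by rw [hn] <;> decide) (by norm_num) (by norm_num) (by norm_num) (by decide)).elim
  · exact (two_prime_kill hG 5 13 2 2 (by norm_num) (by norm_num) (by rw [hn] <;> decide) (by rw [hn] <;> decide)).elim
  · exact (two_prime_kill hG 2 2113 1 1 (by norm_num) (by norm_num) (by rw [hn] <;> decide) (by rw [hn] <;> decide)).elim
  · exact (two_prime_kill hG 3 1409 1 1 (by norm_num) (by norm_num) (by rw [hn] <;> decide) (by rw [hn] <;> decide)).elim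
  · exact (kb 151 1 28 (by norm_num) (by rw [hn] <;> decide) (by norm_num) (by norm_num) (by norm_num) (by decide)).elim
  · exact (two_prime_kill hG 4229 4229 0 1 (by norm_num) (by norm_num) (by rw [hn] <;> decide) (by rw [hn] <;> decide)).elim
  · exact (kb 47 1 90 (by norm_num) (by rw [hn] <;> decide) (by norm_num) (by norm_num) (by norm_num) (by decide)).elim
  · exact (two_prime_kill hG 4231 4231 0 1 (by norm_num) (by norm_num) (by rw [hn] <;> decide) (by rw [hn] <;> decide)).elim
  · exact (two_prime_kill hG 2 23 3 2 (by norm_num) (by norm_num) (by rw [hn] <;> decide) (by rw [hn] <;> decide)).elim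
  · exact (kb 83 1 51 (by norm_num) (by rw [hn] <;> decide) (by norm_num) (by norm_num) (by norm_num) (by decide)).elim
  · exact (kb 73 1 58 (by norm_num) (by rw [hn] <;> decide) (by norm_num) (by norm_num) (by norm_num) (by decide)).elim
  · exact (kb 11 2 35 (by norm_num) (by rw [hn] <;> decide) (by norm_num) (by norm_num) (by norm_num) (by decide)).elim
  · exact (kb 353 1 12 (by norm_num) (by rw [hn] <;> decide) (by norm_num) (by norm_num) (by norm_num) (by decide)).elim
  · exact (two_prime_kill hG 19 223 1 1 (by norm_num) (by norm_num) (by rw [hn] <;> decide) (by rw [hn] <;> decide)).elim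
  · exact (kb 163 1 26 (by norm_num) (by rw [hn] <;> decide) (by norm_num) (by norm_num) (by norm_num) (by decide)).elim
  · exact (two_prime_kill hG 3 157 3 1 (by norm_num) (by norm_num) (by rw [hn] <;> decide) (by rw [hn] <;> decide)).elim
  · exact (kb 53 1 80 (by norm_num) (by rw [hn] <;> decide) (by norm_num) (by norm_num) (by norm_num) (by decide)).elim

end

end Cfsg.Agent.Lib.Helper7.Ord2

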