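import Mathlib
import Cfsg.Agent.Lib.Helper7.OrdA

/-! Parity elimination: an involution centralizing a Sylow `p`-subgroup of order `p` acts on the
set of Sylow `p`-subgroups as an even permutation (helper7, for S0496). -/

set_option autoImplicit false

namespace Cfsg.Agent.Lib.Helper7.Ord

open Cfsg.Agent.Lib.Helper4.Sylow Cfsg.Agent.Lib.Helper4.Simple Cfsg.Agent.Lib.Helper4.AltEmbed

/-- fixed points of an even involution -/
theorem invol_fix {α : Type*} [Fintype α] [DecidableEq α] (σ : Equiv.Perm α)
    (h2 : orderOf σ = 2) (hs : Equiv.Perm.sign σ = 1) :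
    ∃ j, 0 < j ∧ Fintype.card (Function.fixedPoints σ) + 4 * j = Fintype.card α := by
  obtain ⟨n, hn⟩ := Equiv.Perm.cycleType_prime_order (σ := σ) (by rw [h2]; exact Nat.prime_two)
  rw [h2] at hn
  have hsum : σ.cycleType.sum = 2 * (n + 1) := by
    rw [hn, Multiset.sum_replicate, smul_eq_mul, mul_comm]
  have hcard : Multiset.card σ.cycleType = n + 1 := by rw [hn, Multiset.card_replicate]
  rw [Equiv.Perm.sign_of_cycleType, hsum, hcard] at hs
  have hev : Even (2 * (n + 1) + (n + 1)) := by
    rwa [neg_one_pow_eq_one_iff_even (by decide)] at hs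
  have hev' : Even (n + 1) := by
    rcases hev with ⟨k, hk⟩
    exact ⟨k - (n + 1), by omega⟩
  obtain ⟨j, hj⟩ := hev'
  have hle := Equiv.Perm.sum_cycleType_le σ
  have hfix := Equiv.Perm.card_fixedPoints σ
  refine ⟨j, by omega, ?_⟩
  rw [hfix, hsum]
  rw [hsum] at hle
  omega

section
variable {G : Type*} [Group G] [Finite G] [IsSimpleGroup G]

/-- a simple group of order `> 2` acts by even permutations -/
theorem sign_toPerm_eq_one (hG : 2 < Nat.card G) {Ω : Type*} [MulAction G Ω] [Fintype Ω]
    [DecidableEq Ω] (g : G) : Equiv.Perm.sign (MulAction.toPermHom G Ω g) = 1 := by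
  let ψ : G →* ℤˣ := Equiv.Perm.sign.comp (MulAction.toPermHom G Ω)
  have hψ : ψ.ker = ⊤ := by
    rcases ψ.normal_ker.eq_bot_or_eq_top with h | h
    · exfalso
      have hinj' : Function.Injective ψ := (MonoidHom.ker_eq_bot_iff ψ).mp h
      have := Nat.card_le_card_of_injective ψ hinj'
      have h2 : Nat.card ℤˣ = 2 := by simp
      omega
    · exact h
  have : g ∈ ψ.ker := by rw [hψ]; trivial
  exact this

/-- a nontrivial action of a simple group is faithful -/
theorem toPermHom_injective_of_nontrivial {Ω : Type*} [MulAction G Ω]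
    (hnt : ∃ (g : G) (ω : Ω), g • ω ≠ ω) : Function.Injective (MulAction.toPermHom G Ω) := by
  rw [← MonoidHom.ker_eq_bot_iff]
  rcases (MulAction.toPermHom G Ω).normal_ker.eq_bot_or_eq_top with h | h
  · exact h
  · exfalso
    obtain ⟨g, ω, hg⟩ := hnt
    apply hg
    have : g ∈ (MulAction.toPermHom G Ω).ker := by rw [h]; trivial
    rw [MonoidHom.mem_ker] at this
    have h2 := congrArg (fun σ : Equiv.Perm Ω => σ ω) this
    exact h2

end

end Cfsg.Agent.Lib.Helper7.Ord
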