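import Mathlib
import Cfsg.Agent.Lib.Helper7.OrdB

/-! Parity elimination, main lemma (helper7, for S0496). -/

set_option autoImplicit false

namespace Cfsg.Agent.Lib.Helper7.Ord

open Cfsg.Agent.Lib.Helper4.Sylow Cfsg.Agent.Lib.Helper4.Simple Cfsg.Agent.Lib.Helper4.AltEmbed

section
variable {G : Type*} [Group G] [Finite G] [IsSimpleGroup G]

/-- the number of Sylow subgroups fixed by an element commuting with a Sylow `p`-subgroup `P` is
`≡ 1 mod p` -/
theorem card_fixed_modEq (p : ℕ) [hp : Fact p.Prime] (P : Sylow p G) (s : G)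
    (hs : s ∈ Subgroup.centralizer ((P : Subgroup G) : Set G)) :
    Nat.card {R : Sylow p G // s • R = R} ≡ 1 [MOD p] := by
  classical
  -- the sub-action of `P`
  let S : SubMulAction ↥(P : Subgroup G) (Sylow p G) :=
    { carrier := {R | s • R = R}
      smul_mem' := by
        intro u R hR
        have hR' : s • R = R := hR
        show s • (u • R) = u • R
        have hcomm : s * (u : G) = (u : G) * s :=
          ((Subgroup.mem_centralizer_iff.1 hs) (u : G) u.2).symm
        calc s • (u • R) = (s * (u : G)) • R := by rw [mul_smul]; rfl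
          _ = ((u : G) * s) • R := by rw [hcomm]
          _ = u • R := by rw [mul_smul, hR']; rfl }
  have h1 := P.isPGroup'.card_modEq_card_fixedPoints (α := S)
  have h2 : Nat.card (MulAction.fixedPoints ↥(P : Subgroup G) S) = 1 := by
    rw [Nat.card_eq_one_iff_unique]
    have hPmem : P ∈ S := by
      show s • P = P
      rw [Sylow.smul_eq_iff_mem_normalizer]
      exact Subgroup.centralizer_le_normalizer _ hs
    have hfix : ∀ x : S, x ∈ MulAction.fixedPoints ↥(P : Subgroup G) S → x.1 = P := by
      intro x hx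
      have hx' : x.1 ∈ MulAction.fixedPoints ↥(P : Subgroup G) (Sylow p G) := by
        intro u
        have := hx u
        exact congrArg Subtype.val this
      rw [P.isPGroup'.sylow_mem_fixedPoints_iff] at hx'
      exact Sylow.ext (P.is_maximal' x.1.isPGroup' hx')
    refine ⟨⟨?_⟩, ⟨⟨⟨P, hPmem⟩, ?_⟩⟩⟩
    · intro a b
      apply Subtype.ext
      apply Subtype.ext
      rw [hfix a.1 a.2, hfix b.1 b.2]
    · intro u
      apply Subtype.ext
      show (u : G) • P = P
      rw [Sylow.smul_eq_iff_mem_normalizer]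
      exact Subgroup.le_normalizer u.2
  rw [h2] at h1
  exact h1

/-- **Parity elimination.** -/
theorem parity_kill (p m d : ℕ) [hp : Fact p.Prime] (hn : Nat.card G = p ^ 1 * m)
    (hpm : ¬ p ∣ m) (hm : m ≠ 1) (hd : Nat.card (Sylow p G) = d)
    (hev : Even ((p ^ 1 * m / d) / Nat.gcd (p ^ 1 * m / d) (p - 1)))
    (hf : ∀ f, 1 ≤ f → f < d → f % p = 1 → f % 4 ≠ d % 4) : False := by
  classical
  have hG2 : 2 < Nat.card G := two_lt_card_of p 1 m hn hpm one_pos hm
  obtain ⟨hd1, hd2, hd3⟩ := sylow_data (G := G) p 1 m hn hpm one_pos hm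
  rw [hd] at hd1 hd2 hd3
  have hdpos : 0 < d := Nat.pos_of_mem_divisors hd1
  obtain ⟨P⟩ : Nonempty (Sylow p G) := inferInstance
  have hPc : Nat.card (P : Subgroup G) = p := by
    have := card_sylow_of_card_eq hn hpm P
    rwa [pow_one] at this
  haveI hcyc : IsCyclic (P : Subgroup G) := isCyclic_of_prime_card hPc
  have hNcard : Nat.card (Subgroup.normalizer ((P : Subgroup G) : Set G)) = p ^ 1 * m / d := by
    have h1 := card_sylow_mul_card_normalizer P
    rw [hn, hd] at h1
    rw [← h1, Nat.mul_div_cancel_left _ hdpos]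
  -- the centralizer has even order
  have hri := relIndex_centralizer_normalizer_dvd (P : Subgroup G)
  rw [hcyc.card_mulAut, hPc, Nat.totient_prime hp.out] at hri
  have hmul := card_mul_relIndex_eq
    (Subgroup.centralizer_le_normalizer ((P : Subgroup G) : Set G))
  rw [hNcard] at hmul
  have hCeven : 2 ∣ Nat.card (Subgroup.centralizer ((P : Subgroup G) : Set G)) := by
    set ri := (Subgroup.centralizer ((P : Subgroup G) : Set G)).relIndex
      (Subgroup.normalizer ((P : Subgroup G) : Set G)) with hri_def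
    set Nn := p ^ 1 * m / d with hNn
    set c := Nat.card (Subgroup.centralizer ((P : Subgroup G) : Set G)) with hc
    have hriN : ri ∣ Nn := ⟨c, by rw [← hmul, mul_comm]⟩
    have hrig : ri ∣ Nat.gcd Nn (p - 1) := Nat.dvd_gcd hriN hri
    obtain ⟨t, ht⟩ := hrig
    obtain ⟨u, hu⟩ := Nat.gcd_dvd_left Nn (p - 1)
    have hNpos : 0 < Nn := by
      rw [← hNcard]; exact Nat.card_pos
    have hgpos : 0 < Nat.gcd Nn (p - 1) := Nat.gcd_pos_of_pos_left _ hNpos
    have hripos : 0 < ri := by
      rcases Nat.eq_zero_or_pos ri with h0 | h0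
      · rw [h0, zero_mul] at ht; omega
      · exact h0
    have hu' : Nn / Nat.gcd Nn (p - 1) = u := Nat.div_eq_of_eq_mul_right hgpos hu
    rw [hu'] at hev
    have hc' : c = t * u := by
      have : c * ri = ri * (t * u) := by
        rw [hmul, hu, ht]; ring
      rw [mul_comm] at this
      exact Nat.eq_of_mul_eq_mul_left hripos this
    rw [hc']
    exact Dvd.dvd.mul_left (even_iff_two_dvd.1 hev) t
  obtain ⟨s', hs'⟩ := exists_prime_orderOf_dvd_card' (G := ↥(Subgroup.centralizer ((P : Subgroup G) : Set G))) 2 hCeven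
  obtain ⟨s, hs⟩ : ∃ s : G, s = (s' : G) := ⟨_, rfl⟩
  have hsC : s ∈ Subgroup.centralizer ((P : Subgroup G) : Set G) := hs ▸ s'.2
  have hso : orderOf s = 2 := by rw [hs, Subgroup.orderOf_coe, hs']
  -- the action
  haveI : Fintype (Sylow p G) := Fintype.ofFinite _
  have hinj : Function.Injective (MulAction.toPermHom G (Sylow p G)) := by
    apply toPermHom_injective_of_nontrivial
    by_contra hcon
    push Not at hcon
    apply hd3
    have hN' : Subgroup.normalizer ((P : Subgroup G) : Set G) = ⊤ := by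
      rw [eq_top_iff]
      intro g _
      exact (Sylow.smul_eq_iff_mem_normalizer (g := g) (P := P)).1 (hcon g P)
    have hidx1 : (Subgroup.normalizer ((P : Subgroup G) : Set G)).index = 1 := by
      rw [hN', Subgroup.index_top]
    rw [← hd, P.card_eq_index_normalizer]
    exact hidx1
  obtain ⟨σ, hσ⟩ : ∃ σ : Equiv.Perm (Sylow p G), σ = MulAction.toPermHom G (Sylow p G) s := ⟨_, rfl⟩
  have hσo : orderOf σ = 2 := by rw [hσ, orderOf_injective _ hinj, hso]
  have hσs : Equiv.Perm.sign σ = 1 := by rw [hσ]; exact sign_toPerm_eq_one hG2 s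
  obtain ⟨j, hj0, hj⟩ := invol_fix σ hσo hσs
  rw [← Nat.card_eq_fintype_card, ← Nat.card_eq_fintype_card, hd] at hj
  have hfixeq : Nat.card (Function.fixedPoints σ) = Nat.card {R : Sylow p G // s • R = R} := by
    apply Nat.card_congr
    apply Equiv.subtypeEquivRight
    intro R
    rw [hσ]
    exact Iff.rfl
  have hmod := card_fixed_modEq p P s hsC
  rw [← hfixeq] at hmod
  have h1p : 1 % p = 1 := Nat.mod_eq_of_lt hp.out.one_lt
  have hfp : Nat.card (Function.fixedPoints σ) % p = 1 := by
    have := hmod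
    unfold Nat.ModEq at this
    rw [this, h1p]
  have hfpos : 1 ≤ Nat.card (Function.fixedPoints σ) := by
    rcases Nat.eq_zero_or_pos (Nat.card (Function.fixedPoints σ)) with h0 | h0
    · rw [h0, Nat.zero_mod] at hfp; omega
    · exact h0
  exact hf _ hfpos (by omega) hfp (by omega)

end

/-- `Killed`, or the parity test. -/
def KilledP (n p m d : ℕ) : Prop :=
  Killed n p 1 m d ∨ (((n / d) / Nat.gcd (n / d) (p - 1)) % 2 = 0 ∧
    ∀ f ∈ Finset.range d, 1 ≤ f → f % p = 1 → f % 4 ≠ d % 4)

instance (n p m d : ℕ) : Decidable (KilledP n p m d) := by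
  unfold KilledP; infer_instance

section
variable {G : Type*} [Group G] [Finite G] [IsSimpleGroup G]

/-- Elimination of an order by Sylow counting for `p` (with `|P| = p`), allowing the parity test. -/
theorem sylow_kill_parity (p m : ℕ) (hp : p.Prime) (hn : Nat.card G = p ^ 1 * m)
    (hpm : ¬ p ∣ m) (hm : m ≠ 1)
    (h : ∀ d ∈ m.divisors, d % p = 1 → d ≠ 1 → KilledP (p ^ 1 * m) p m d) : False := by
  haveI : Fact p.Prime := ⟨hp⟩
  obtain ⟨hd1, hd2, hd3⟩ := sylow_data (G := G) p 1 m hn hpm one_pos hm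
  rcases h _ hd1 hd2 hd3 with hk | ⟨hev, hf⟩
  · exact false_of_killed p 1 m hn hpm one_pos hm hk
  · exact parity_kill p m _ hn hpm hm rfl (Nat.even_iff.2 hev)
      (fun f h1 h2 h3 => hf f (Finset.mem_range.2 h2) h1 h3)

end

end Cfsg.Agent.Lib.Helper7.Ord
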