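import Mathlib
import Cfsg.Agent.Lib.Helper7.OrdC

/-! Elimination by a large Sylow intersection (helper7, for S0496). -/

set_option autoImplicit false

namespace Cfsg.Agent.Lib.Helper7.Ord

open Cfsg.Agent.Lib.Helper4.Sylow Cfsg.Agent.Lib.Helper4.Simple Cfsg.Agent.Lib.Helper4.AltEmbed

section
variable {G : Type*} [Group G] [Finite G] [IsSimpleGroup G]

/-- a subgroup of index `p` in a Sylow `p`-subgroup `P` obtained as `P ⊓ R` is normalized by `P` -/
theorem le_normalizer_inf_of_index (p a : ℕ) [hp : Fact p.Prime] (ha : a ≠ 0) (P R : Subgroup G)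
    (hPc : Nat.card P = p ^ a) (hidx : (R.subgroupOf P).index = p) :
    P ≤ Subgroup.normalizer ((P ⊓ R : Subgroup G) : Set G) := by
  have hnorm : (R.subgroupOf P).Normal := by
    apply Subgroup.normal_of_index_eq_minFac_card
    rw [hidx, hPc, Nat.Prime.pow_minFac hp.out ha]
  have key : ∀ u ∈ P, ∀ x ∈ P ⊓ R, u * x * u⁻¹ ∈ P ⊓ R := by
    intro u hu x hx
    refine Subgroup.mem_inf.2 ⟨P.mul_mem (P.mul_mem hu hx.1) (P.inv_mem hu), ?_⟩
    have h1 : (⟨x, hx.1⟩ : P) ∈ R.subgroupOf P := Subgroup.mem_subgroupOf.2 hx.2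
    have h2 := hnorm.conj_mem _ h1 ⟨u, hu⟩
    exact Subgroup.mem_subgroupOf.1 h2
  intro u hu
  rw [Subgroup.mem_normalizer_iff]
  intro x
  constructor
  · intro hx
    exact key u hu x hx
  · intro hx
    have := key u⁻¹ (P.inv_mem hu) _ hx
    have e : u⁻¹ * (u * x * u⁻¹) * u⁻¹⁻¹ = x := by group
    rwa [e] at this

/-- **Intersection elimination.** -/
theorem inter_kill (p a m : ℕ) [hp : Fact p.Prime] (hn : Nat.card G = p ^ a * m)
    (hpm : ¬ p ∣ m) (ha : 2 ≤ a) (hm : m ≠ 1)
    (hmod : Nat.card (Sylow p G) % p ^ 2 ≠ 1)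
    (hj : ∀ j ∈ m.divisors, j ≠ m → (∃ e ∈ j.divisors, e % p = 1 ∧ e ≠ 1) →
      ¬ (2 * (p ^ a * m) ∣ (m / j).factorial)) : False := by
  classical
  have ha0 : 0 < a := by omega
  have hG2 : 2 < Nat.card G := two_lt_card_of p a m hn hpm ha0 hm
  have hm0 : m ≠ 0 := by rintro rfl; exact hpm (dvd_zero p)
  have hp2 : 1 < p ^ 2 := Nat.one_lt_pow (by norm_num) hp.out.one_lt
  have hnm : ¬ Nat.card (Sylow p G) ≡ 1 [MOD p ^ 2] := by
    intro h
    unfold Nat.ModEq at h
    rw [Nat.mod_eq_of_lt hp2] at h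
    exact hmod h
  obtain ⟨P, R, hPR, hidx⟩ := exists_sylow_index_le p 2 hnm
  have hPc : Nat.card (P : Subgroup G) = p ^ a := card_sylow_of_card_eq hn hpm P
  have hRc : Nat.card (R : Subgroup G) = p ^ a := card_sylow_of_card_eq hn hpm R
  -- the index is exactly `p`
  have hidxp : ((R : Subgroup G).subgroupOf (P : Subgroup G)).index = p := by
    have hdvd : ((R : Subgroup G).subgroupOf (P : Subgroup G)).index ∣ p ^ a := by
      rw [← hPc]; exact Subgroup.index_dvd_card _
    obtain ⟨k, hk, hik⟩ := (Nat.dvd_prime_pow hp.out).1 hdvd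
    have hk0 : k ≠ 0 := by
      rintro rfl
      rw [pow_zero] at hik
      have htop := Subgroup.index_eq_one.1 hik
      rw [Subgroup.subgroupOf_eq_top] at htop
      exact hPR (Sylow.ext (P.is_maximal' R.isPGroup' htop).symm)
    have hk1 : k ≤ 1 := by
      by_contra hgt
      push Not at hgt
      have : p ^ 2 ≤ p ^ k := Nat.pow_le_pow_right hp.out.pos hgt
      rw [hik] at hidx
      have h3 : p ^ (2 - 1) = p := by norm_num
      rw [h3] at hidx
      have : p < p ^ 2 := by
        have := hp.out.one_lt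
        nlinarith
      omega
    have : k = 1 := by omega
    rw [hik, this, pow_one]
  have hinfc : Nat.card ((P : Subgroup G) ⊓ (R : Subgroup G) : Subgroup G) * p = p ^ a := by
    have h1 := ((R : Subgroup G).subgroupOf (P : Subgroup G)).card_mul_index
    rw [hidxp, hPc, card_subgroupOf_eq_card_inf, inf_comm] at h1
    exact h1
  have hidxp' : ((P : Subgroup G).subgroupOf (R : Subgroup G)).index = p := by
    have h1 := ((P : Subgroup G).subgroupOf (R : Subgroup G)).card_mul_index
    rw [hRc, card_subgroupOf_eq_card_inf, ← hinfc] at h1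
    exact Nat.eq_of_mul_eq_mul_left Nat.card_pos h1
  obtain ⟨D, hD⟩ : ∃ D : Subgroup G, D = (P : Subgroup G) ⊓ (R : Subgroup G) := ⟨_, rfl⟩
  have hPH : (P : Subgroup G) ≤ Subgroup.normalizer (D : Set G) := by
    rw [hD]
    exact le_normalizer_inf_of_index p a ha0.ne' _ _ hPc hidxp
  have hRH : (R : Subgroup G) ≤ Subgroup.normalizer (D : Set G) := by
    rw [hD, inf_comm]
    exact le_normalizer_inf_of_index p a ha0.ne' _ _ hRc hidxp'
  have hDc : Nat.card D * p = p ^ a := by rw [hD]; exact hinfc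
  -- `N(D) ≠ ⊤`
  have hHtop : Subgroup.normalizer (D : Set G) ≠ ⊤ := by
    intro htop
    have hDn : D.Normal := Subgroup.normalizer_eq_top_iff.1 htop
    rcases hDn.eq_bot_or_eq_top with h | h
    · rw [h, Subgroup.card_bot, one_mul] at hDc
      have : p ^ 1 < p ^ a := Nat.pow_lt_pow_right hp.out.one_lt (by omega)
      rw [pow_one] at this
      omega
    · rw [h, Subgroup.card_top, hn] at hDc
      have h1 : p ^ a * (m * p) = p ^ a * 1 := by rw [mul_one, ← mul_assoc]; exact hDc
      have h2 := Nat.eq_of_mul_eq_mul_left (pow_pos hp.out.pos a) h1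
      have := hp.out.one_lt
      have hmpos : 0 < m := Nat.pos_of_ne_zero hm0
      nlinarith
  -- the order of `N(D)`
  obtain ⟨j, hjc⟩ : p ^ a ∣ Nat.card (Subgroup.normalizer (D : Set G)) := by
    rw [← hPc]; exact Subgroup.card_dvd_of_le hPH
  have hjm : j ∣ m := by
    have h1 : Nat.card (Subgroup.normalizer (D : Set G)) ∣ Nat.card G :=
      Subgroup.card_subgroup_dvd_card _
    rw [hjc, hn] at h1
    exact Nat.dvd_of_mul_dvd_mul_left (pow_pos hp.out.pos a) h1
  have hpj : ¬ p ∣ j := fun h => hpm (h.trans hjm)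
  have hjpos : 0 < j := Nat.pos_of_dvd_of_pos hjm (Nat.pos_of_ne_zero hm0)
  have hidxH : (Subgroup.normalizer (D : Set G)).index = m / j := by
    have h1 := (Subgroup.normalizer (D : Set G)).card_mul_index
    rw [hjc, hn, mul_assoc] at h1
    have h2 := Nat.eq_of_mul_eq_mul_left (pow_pos hp.out.pos a) h1
    rw [← h2, Nat.mul_div_cancel_left _ hjpos]
  have hjne : j ≠ m := by
    intro h
    apply hHtop
    rw [← Subgroup.index_eq_one, hidxH, h, Nat.div_self (Nat.pos_of_ne_zero hm0)]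
  -- Sylow subgroups of `N(D)`
  have he1 := card_sylow_dvd_of_card_eq (G := ↥(Subgroup.normalizer (D : Set G))) hjc hpj
  have he2 : Nat.card (Sylow p ↥(Subgroup.normalizer (D : Set G))) % p = 1 := by
    have h1 := card_sylow_modEq_one p ↥(Subgroup.normalizer (D : Set G))
    unfold Nat.ModEq at h1
    rw [h1, Nat.mod_eq_of_lt hp.out.one_lt]
  have he3 : Nat.card (Sylow p ↥(Subgroup.normalizer (D : Set G))) ≠ 1 := by
    intro h1
    haveI : Subsingleton (Sylow p ↥(Subgroup.normalizer (D : Set G))) :=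
      (Nat.card_eq_one_iff_unique.1 h1).1
    have h2 : P.subtype hPH = R.subtype hRH := Subsingleton.elim _ _
    apply hPR
    apply Sylow.ext
    have h3 : ((P.subtype hPH : Sylow p ↥(Subgroup.normalizer (D : Set G))) :
        Subgroup ↥(Subgroup.normalizer (D : Set G))) = (R.subtype hRH : Sylow p _) := by rw [h2]
    rw [Sylow.coe_subtype, Sylow.coe_subtype] at h3
    have h4 := congrArg (Subgroup.map (Subgroup.normalizer (D : Set G)).subtype) h3
    rw [Subgroup.subgroupOf_map_subtype, Subgroup.subgroupOf_map_subtype,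
      inf_eq_left.2 hPH, inf_eq_left.2 hRH] at h4
    exact h4
  apply hj j (Nat.mem_divisors.2 ⟨hjm, hm0⟩) hjne
    ⟨_, Nat.mem_divisors.2 ⟨he1, hjpos.ne'⟩, he2, he3⟩
  have := two_mul_card_dvd_factorial_of_simple hG2 _ hHtop
  rwa [hidxH, hn] at this

end

/-- `Killed`, or the intersection test. -/
def KilledI (n p a m d : ℕ) : Prop :=
  Killed n p a m d ∨ (2 ≤ a ∧ d % p ^ 2 ≠ 1 ∧
    ∀ j ∈ m.divisors, j ≠ m → (∃ e ∈ j.divisors, e % p = 1 ∧ e ≠ 1) →
      ¬ (2 * n ∣ (m / j).factorial))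

instance (n p a m d : ℕ) : Decidable (KilledI n p a m d) := by
  unfold KilledI; infer_instance

section
variable {G : Type*} [Group G] [Finite G] [IsSimpleGroup G]

/-- Elimination of an order by Sylow counting for `p`, allowing the intersection test. -/
theorem sylow_kill_inter (p a m : ℕ) (hp : p.Prime) (hn : Nat.card G = p ^ a * m)
    (hpm : ¬ p ∣ m) (ha : 0 < a) (hm : m ≠ 1)
    (h : ∀ d ∈ m.divisors, d % p = 1 → d ≠ 1 → KilledI (p ^ a * m) p a m d) : False := by
  haveI : Fact p.Prime := ⟨hp⟩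
  obtain ⟨hd1, hd2, hd3⟩ := sylow_data (G := G) p a m hn hpm ha hm
  rcases h _ hd1 hd2 hd3 with hk | ⟨ha2, hmod, hj⟩
  · exact false_of_killed p a m hn hpm ha hm hk
  · exact inter_kill p a m hn hpm ha2 hm hmod hj

end

end Cfsg.Agent.Lib.Helper7.Ord
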