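import Mathlib
import Cfsg.Agent.Lib.Helper7.Ord2A
import Cfsg.Agent.Lib.Helper7.OrdD

/-! Dispatch over the orders 4241..4540 (generated by a script; helper7, for S0983).
Every order is either one of the four real ones, a prime power or `p^a q^b` (Burnside),
or is killed by Sylow counting (`kb`, `ks`, parity, intersection), or is one of the 23 orders
of `Ord2.Hard`, which are handled separately. -/

set_option autoImplicit false
set_option maxRecDepth 100000
set_option maxHeartbeats 4000000

namespace Cfsg.Agent.Lib.Helper7.Ord2

open Cfsg.Agent.Lib.Helper7.Ord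

section
variable {G : Type*} [Group G] [Finite G] [IsSimpleGroup G]

theorem orders2_3 (hG : ¬ IsMulCommutative G) (hhard : Nat.card G ∈ Hard → False)
    (hlo : 4241 ≤ Nat.card G) (hhi : Nat.card G ≤ 4540) :
    Nat.card G = 4080 ∨ Nat.card G = 5616 ∨ Nat.card G = 6048 ∨ Nat.card G = 6072 := by
  obtain ⟨n, hn⟩ : ∃ n, Nat.card G = n := ⟨_, rfl⟩
  rw [hn] at hlo hhi ⊢
  interval_cases n
  · exact (two_prime_kill hG 4241 4241 0 1 (by norm_num) (by norm_num) (by rw [hn] <;> decide) (by rw [hn] <;> decide)).elim
  · exact (kb 101 1 42 (by norm_num) (by rw [hn] <;> decide) (by norm_num) (by norm_num) (by norm_num) (by decide)).elim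
  · exact (two_prime_kill hG 4243 4243 0 1 (by norm_num) (by norm_num) (by rw [hn] <;> decide) (by rw [hn] <;> decide)).elim
  · exact (two_prime_kill hG 2 1061 2 1 (by norm_num) (by norm_num) (by rw [hn] <;> decide) (by rw [hn] <;> decide)).elim
  · exact (kb 283 1 15 (by norm_num) (by rw [hn] <;> decide) (by norm_num) (by norm_num) (by norm_num) (by decide)).elim
  · exact (kb 193 1 22 (by norm_num) (by rw [hn] <;> decide) (by norm_num) (by norm_num) (by norm_num) (by decide)).elim
  · exact (two_prime_kill hG 31 137 1 1 (by norm_num) (by norm_num) (by rw [hn] <;> decide) (by rw [hn] <;> decide)).elim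
  · exact (kb 59 1 72 (by norm_num) (by rw [hn] <;> decide) (by norm_num) (by norm_num) (by norm_num) (by decide)).elim
  · exact (two_prime_kill hG 7 607 1 1 (by norm_num) (by norm_num) (by rw [hn] <;> decide) (by rw [hn] <;> decide)).elim
  · exact (kb 5 3 34 (by norm_num) (by rw [hn] <;> decide) (by norm_num) (by norm_num) (by norm_num) (by decide)).elim
  · exact (kb 109 1 39 (by norm_num) (by rw [hn] <;> decide) (by norm_num) (by norm_num) (by norm_num) (by decide)).elim
  · exact (two_prime_kill hG 2 1063 2 1 (by norm_num) (by norm_num) (by rw [hn] <;> decide) (by rw [hn] <;> decide)).elim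
  · exact (two_prime_kill hG 4253 4253 0 1 (by norm_num) (by norm_num) (by rw [hn] <;> decide) (by rw [hn] <;> decide)).elim
  · exact (kb 709 1 6 (by norm_num) (by rw [hn] <;> decide) (by norm_num) (by norm_num) (by norm_num) (by decide)).elim
  · exact (kb 37 1 115 (by norm_num) (by rw [hn] <;> decide) (by norm_num) (by norm_num) (by norm_num) (by decide)).elim
  · exact (kb 19 1 224 (by norm_num) (by rw [hn] <;> decide) (by norm_num) (by norm_num) (by norm_num) (by decide)).elim
  · exact (kb 43 1 99 (by norm_num) (by rw [hn] <;> decide) (by norm_num) (by norm_num) (by norm_num) (by decide)).elim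
  · exact (two_prime_kill hG 2 2129 1 1 (by norm_num) (by norm_num) (by rw [hn] <;> decide) (by rw [hn] <;> decide)).elim
  · exact (two_prime_kill hG 4259 4259 0 1 (by norm_num) (by norm_num) (by rw [hn] <;> decide) (by rw [hn] <;> decide)).elim
  · exact (kb 71 1 60 (by norm_num) (by rw [hn] <;> decide) (by norm_num) (by norm_num) (by norm_num) (by decide)).elim
  · exact (two_prime_kill hG 4261 4261 0 1 (by norm_num) (by norm_num) (by rw [hn] <;> decide) (by rw [hn] <;> decide)).elim
  · exact (two_prime_kill hG 2 2131 1 1 (by norm_num) (by norm_num) (by rw [hn] <;> decide) (by rw [hn] <;> decide)).elim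
  · exact (kb 29 1 147 (by norm_num) (by rw [hn] <;> decide) (by norm_num) (by norm_num) (by norm_num) (by decide)).elim
  · exact (kb 41 1 104 (by norm_num) (by rw [hn] <;> decide) (by norm_num) (by norm_num) (by norm_num) (by decide)).elim
  · exact (two_prime_kill hG 5 853 1 1 (by norm_num) (by norm_num) (by rw [hn] <;> decide) (by rw [hn] <;> decide)).elim
  · exact (kb 79 1 54 (by norm_num) (by rw [hn] <;> decide) (by norm_num) (by norm_num) (by norm_num) (by decide)).elim
  · exact (two_prime_kill hG 17 251 1 1 (by norm_num) (by norm_num) (by rw [hn] <;> decide) (by rw [hn] <;> decide)).elim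
  · exact (kb 97 1 44 (by norm_num) (by rw [hn] <;> decide) (by norm_num) (by norm_num) (by norm_num) (by decide)).elim
  · exact (two_prime_kill hG 3 1423 1 1 (by norm_num) (by norm_num) (by rw [hn] <;> decide) (by rw [hn] <;> decide)).elim
  · exact (kb 61 1 70 (by norm_num) (by rw [hn] <;> decide) (by norm_num) (by norm_num) (by norm_num) (by decide)).elim
  · exact (two_prime_kill hG 4271 4271 0 1 (by norm_num) (by norm_num) (by rw [hn] <;> decide) (by rw [hn] <;> decide)).elim
  · exact (kb 89 1 48 (by norm_num) (by rw [hn] <;> decide) (by norm_num) (by norm_num) (by norm_num) (by decide)).elim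
  · exact (two_prime_kill hG 4273 4273 0 1 (by norm_num) (by norm_num) (by rw [hn] <;> decide) (by rw [hn] <;> decide)).elim
  · exact (two_prime_kill hG 2 2137 1 1 (by norm_num) (by norm_num) (by rw [hn] <;> decide) (by rw [hn] <;> decide)).elim
  · exact (kb 19 1 225 (by norm_num) (by rw [hn] <;> decide) (by norm_num) (by norm_num) (by norm_num) (by decide)).elim
  · exact (two_prime_kill hG 2 1069 2 1 (by norm_num) (by norm_num) (by rw [hn] <;> decide) (by rw [hn] <;> decide)).elim
  · exact (kb 47 1 91 (by norm_num) (by rw [hn] <;> decide) (by norm_num) (by norm_num) (by norm_num) (by decide)).elim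
  · exact (kb 31 1 138 (by norm_num) (by rw [hn] <;> decide) (by norm_num) (by norm_num) (by norm_num) (by decide)).elim
  · exact (two_prime_kill hG 11 389 1 1 (by norm_num) (by norm_num) (by rw [hn] <;> decide) (by rw [hn] <;> decide)).elim
  · exact (kb 107 1 40 (by norm_num) (by rw [hn] <;> decide) (by norm_num) (by norm_num) (by norm_num) (by decide)).elim
  · exact (two_prime_kill hG 3 1427 1 1 (by norm_num) (by norm_num) (by rw [hn] <;> decide) (by rw [hn] <;> decide)).elim
  · exact (two_prime_kill hG 2 2141 1 1 (by norm_num) (by norm_num) (by rw [hn] <;> decide) (by rw [hn] <;> decide)).elim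
  · exact (two_prime_kill hG 4283 4283 0 1 (by norm_num) (by norm_num) (by rw [hn] <;> decide) (by rw [hn] <;> decide)).elim
  · exact (kb 17 1 252 (by norm_num) (by rw [hn] <;> decide) (by norm_num) (by norm_num) (by norm_num) (by decide)).elim
  · exact (two_prime_kill hG 5 857 1 1 (by norm_num) (by norm_num) (by rw [hn] <;> decide) (by rw [hn] <;> decide)).elim
  · exact (two_prime_kill hG 2 2143 1 1 (by norm_num) (by norm_num) (by rw [hn] <;> decide) (by rw [hn] <;> decide)).elim
  · exact (two_prime_kill hG 3 1429 1 1 (by norm_num) (by norm_num) (by rw [hn] <;> decide) (by rw [hn] <;> decide)).elim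
  · exact (two_prime_kill hG 2 67 6 1 (by norm_num) (by norm_num) (by rw [hn] <;> decide) (by rw [hn] <;> decide)).elim
  · exact (two_prime_kill hG 4289 4289 0 1 (by norm_num) (by norm_num) (by rw [hn] <;> decide) (by rw [hn] <;> decide)).elim
  · exact (kb 13 1 330 (by norm_num) (by rw [hn] <;> decide) (by norm_num) (by norm_num) (by norm_num) (by decide)).elim
  · exact (two_prime_kill hG 7 613 1 1 (by norm_num) (by norm_num) (by rw [hn] <;> decide) (by rw [hn] <;> decide)).elim
  · exact (kb 37 1 116 (by norm_num) (by rw [hn] <;> decide) (by norm_num) (by norm_num) (by norm_num) (by decide)).elim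
  · exact (two_prime_kill hG 3 53 4 1 (by norm_num) (by norm_num) (by rw [hn] <;> decide) (by rw [hn] <;> decide)).elim
  · exact (kb 113 1 38 (by norm_num) (by rw [hn] <;> decide) (by norm_num) (by norm_num) (by norm_num) (by decide)).elim
  · exact (two_prime_kill hG 5 859 1 1 (by norm_num) (by norm_num) (by rw [hn] <;> decide) (by rw [hn] <;> decide)).elim
  · exact (kb 179 1 24 (by norm_num) (by rw [hn] <;> decide) (by norm_num) (by norm_num) (by norm_num) (by decide)).elim
  · exact (two_prime_kill hG 4297 4297 0 1 (by norm_num) (by norm_num) (by rw [hn] <;> decide) (by rw [hn] <;> decide)).elim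
  · exact (kb 307 1 14 (by norm_num) (by rw [hn] <;> decide) (by norm_num) (by norm_num) (by norm_num) (by decide)).elim
  · exact (two_prime_kill hG 3 1433 1 1 (by norm_num) (by norm_num) (by rw [hn] <;> decide) (by rw [hn] <;> decide)).elim
  · exact (kb 43 1 100 (by norm_num) (by rw [hn] <;> decide) (by norm_num) (by norm_num) (by norm_num) (by decide)).elim
  · exact (kb 23 1 187 (by norm_num) (by rw [hn] <;> decide) (by norm_num) (by norm_num) (by norm_num) (by decide)).elim
  · exact (kb 239 1 18 (by norm_num) (by rw [hn] <;> decide) (by norm_num) (by norm_num) (by norm_num) (by decide)).elim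
  · exact (two_prime_kill hG 13 331 1 1 (by norm_num) (by norm_num) (by rw [hn] <;> decide) (by rw [hn] <;> decide)).elim
  · exact (two_prime_kill hG 2 269 4 1 (by norm_num) (by norm_num) (by rw [hn] <;> decide) (by rw [hn] <;> decide)).elim
  · exact (kb 41 1 105 (by norm_num) (by rw [hn] <;> decide) (by norm_num) (by norm_num) (by norm_num) (by decide)).elim
  · exact (two_prime_kill hG 2 2153 1 1 (by norm_num) (by norm_num) (by rw [hn] <;> decide) (by rw [hn] <;> decide)).elim
  · exact (two_prime_kill hG 59 73 1 1 (by norm_num) (by norm_num) (by rw [hn] <;> decide) (by rw [hn] <;> decide)).elim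
  · exact (kb 359 1 12 (by norm_num) (by rw [hn] <;> decide) (by norm_num) (by norm_num) (by norm_num) (by decide)).elim
  · exact (two_prime_kill hG 31 139 1 1 (by norm_num) (by norm_num) (by rw [hn] <;> decide) (by rw [hn] <;> decide)).elim
  · exact (kb 431 1 10 (by norm_num) (by rw [hn] <;> decide) (by norm_num) (by norm_num) (by norm_num) (by decide)).elim
  · exact (two_prime_kill hG 3 479 2 1 (by norm_num) (by norm_num) (by rw [hn] <;> decide) (by rw [hn] <;> decide)).elim
  · exact (kb 11 1 392 (by norm_num) (by rw [hn] <;> decide) (by norm_num) (by norm_num) (by norm_num) (by decide)).elim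
  · exact (two_prime_kill hG 19 227 1 1 (by norm_num) (by norm_num) (by rw [hn] <;> decide) (by rw [hn] <;> decide)).elim
  · exact (kb 719 1 6 (by norm_num) (by rw [hn] <;> decide) (by norm_num) (by norm_num) (by norm_num) (by decide)).elim
  · exact (two_prime_kill hG 5 863 1 1 (by norm_num) (by norm_num) (by rw [hn] <;> decide) (by rw [hn] <;> decide)).elim
  · exact (kb 83 1 52 (by norm_num) (by rw [hn] <;> decide) (by norm_num) (by norm_num) (by norm_num) (by decide)).elim
  · exact (two_prime_kill hG 3 1439 1 1 (by norm_num) (by norm_num) (by rw [hn] <;> decide) (by rw [hn] <;> decide)).elim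
  · exact (kb 127 1 34 (by norm_num) (by rw [hn] <;> decide) (by norm_num) (by norm_num) (by norm_num) (by decide)).elim
  · exact (two_prime_kill hG 7 617 1 1 (by norm_num) (by norm_num) (by rw [hn] <;> decide) (by rw [hn] <;> decide)).elim
  · exact (hhard (by rw [hn]; decide)).elim
  · exact (two_prime_kill hG 29 149 1 1 (by norm_num) (by norm_num) (by rw [hn] <;> decide) (by rw [hn] <;> decide)).elim
  · exact (two_prime_kill hG 2 2161 1 1 (by norm_num) (by norm_num) (by rw [hn] <;> decide) (by rw [hn] <;> decide)).elim
  · exact (kb 131 1 33 (by norm_num) (by rw [hn] <;> decide) (by norm_num) (by norm_num) (by norm_num) (by decide)).elim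
  · exact (kb 47 1 92 (by norm_num) (by rw [hn] <;> decide) (by norm_num) (by norm_num) (by norm_num) (by decide)).elim
  · exact (two_prime_kill hG 5 173 2 1 (by norm_num) (by norm_num) (by rw [hn] <;> decide) (by rw [hn] <;> decide)).elim
  · exact (kb 103 1 42 (by norm_num) (by rw [hn] <;> decide) (by norm_num) (by norm_num) (by norm_num) (by decide)).elim
  · exact (two_prime_kill hG 4327 4327 0 1 (by norm_num) (by norm_num) (by rw [hn] <;> decide) (by rw [hn] <;> decide)).elim
  · exact (two_prime_kill hG 2 541 3 1 (by norm_num) (by norm_num) (by rw [hn] <;> decide) (by rw [hn] <;> decide)).elim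
  · exact (kb 37 1 117 (by norm_num) (by rw [hn] <;> decide) (by norm_num) (by norm_num) (by norm_num) (by decide)).elim
  · exact (kb 433 1 10 (by norm_num) (by rw [hn] <;> decide) (by norm_num) (by norm_num) (by norm_num) (by decide)).elim
  · exact (two_prime_kill hG 61 71 1 1 (by norm_num) (by norm_num) (by rw [hn] <;> decide) (by rw [hn] <;> decide)).elim
  · exact (kb 19 2 12 (by norm_num) (by rw [hn] <;> decide) (by norm_num) (by norm_num) (by norm_num) (by decide)).elim
  · exact (two_prime_kill hG 7 619 1 1 (by norm_num) (by norm_num) (by rw [hn] <;> decide) (by rw [hn] <;> decide)).elim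
  · exact (kb 197 1 22 (by norm_num) (by rw [hn] <;> decide) (by norm_num) (by norm_num) (by norm_num) (by decide)).elim
  · exact (kb 17 2 15 (by norm_num) (by rw [hn] <;> decide) (by norm_num) (by norm_num) (by norm_num) (by decide)).elim
  · exact (two_prime_kill hG 2 271 4 1 (by norm_num) (by norm_num) (by rw [hn] <;> decide) (by rw [hn] <;> decide)).elim
  · exact (two_prime_kill hG 4337 4337 0 1 (by norm_num) (by norm_num) (by rw [hn] <;> decide) (by rw [hn] <;> decide)).elim
  · exact (kb 241 1 18 (by norm_num) (by rw [hn] <;> decide) (by norm_num) (by norm_num) (by norm_num) (by decide)).elim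
  · exact (two_prime_kill hG 4339 4339 0 1 (by norm_num) (by norm_num) (by rw [hn] <;> decide) (by rw [hn] <;> decide)).elim
  · exact (kb 31 1 140 (by norm_num) (by rw [hn] <;> decide) (by norm_num) (by norm_num) (by norm_num) (by decide)).elim
  · exact (two_prime_kill hG 3 1447 1 1 (by norm_num) (by norm_num) (by rw [hn] <;> decide) (by rw [hn] <;> decide)).elim
  · exact (kb 167 1 26 (by norm_num) (by rw [hn] <;> decide) (by norm_num) (by norm_num) (by norm_num) (by decide)).elim
  · exact (two_prime_kill hG 43 101 1 1 (by norm_num) (by norm_num) (by rw [hn] <;> decide) (by rw [hn] <;> decide)).elim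
  · exact (kb 181 1 24 (by norm_num) (by rw [hn] <;> decide) (by norm_num) (by norm_num) (by norm_num) (by decide)).elim
  · exact (kb 79 1 55 (by norm_num) (by rw [hn] <;> decide) (by norm_num) (by norm_num) (by norm_num) (by decide)).elim
  · exact (kb 53 1 82 (by norm_num) (by rw [hn] <;> decide) (by norm_num) (by norm_num) (by norm_num) (by decide)).elim
  · exact (kb 3 3 161 (by norm_num) (by rw [hn] <;> decide) (by norm_num) (by norm_num) (by norm_num) (by decide)).elim
  · exact (two_prime_kill hG 2 1087 2 1 (by norm_num) (by norm_num) (by rw [hn] <;> decide) (by rw [hn] <;> decide)).elim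
  · exact (two_prime_kill hG 4349 4349 0 1 (by norm_num) (by norm_num) (by rw [hn] <;> decide) (by rw [hn] <;> decide)).elim
  · exact (kb 29 1 150 (by norm_num) (by rw [hn] <;> decide) (by norm_num) (by norm_num) (by norm_num) (by decide)).elim
  · exact (two_prime_kill hG 19 229 1 1 (by norm_num) (by norm_num) (by rw [hn] <;> decide) (by rw [hn] <;> decide)).elim
  · exact (two_prime_kill hG 2 17 8 1 (by norm_num) (by norm_num) (by rw [hn] <;> decide) (by rw [hn] <;> decide)).elim
  · exact (two_prime_kill hG 3 1451 1 1 (by norm_num) (by norm_num) (by rw [hn] <;> decide) (by rw [hn] <;> decide)).elim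
  · exact (kb 311 1 14 (by norm_num) (by rw [hn] <;> decide) (by norm_num) (by norm_num) (by norm_num) (by decide)).elim
  · exact (kb 67 1 65 (by norm_num) (by rw [hn] <;> decide) (by norm_num) (by norm_num) (by norm_num) (by decide)).elim
  · exact (kb 11 2 36 (by norm_num) (by rw [hn] <;> decide) (by norm_num) (by norm_num) (by norm_num) (by decide)).elim
  · exact (two_prime_kill hG 4357 4357 0 1 (by norm_num) (by norm_num) (by rw [hn] <;> decide) (by rw [hn] <;> decide)).elim
  · exact (two_prime_kill hG 2 2179 1 1 (by norm_num) (by norm_num) (by rw [hn] <;> decide) (by rw [hn] <;> decide)).elim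
  · exact (two_prime_kill hG 3 1453 1 1 (by norm_num) (by norm_num) (by rw [hn] <;> decide) (by rw [hn] <;> decide)).elim
  · exact (kb 109 1 40 (by norm_num) (by rw [hn] <;> decide) (by norm_num) (by norm_num) (by norm_num) (by decide)).elim
  · exact (two_prime_kill hG 7 89 2 1 (by norm_num) (by norm_num) (by rw [hn] <;> decide) (by rw [hn] <;> decide)).elim
  · exact (kb 727 1 6 (by norm_num) (by rw [hn] <;> decide) (by norm_num) (by norm_num) (by norm_num) (by decide)).elim
  · exact (two_prime_kill hG 4363 4363 0 1 (by norm_num) (by norm_num) (by rw [hn] <;> decide) (by rw [hn] <;> decide)).elim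
  · exact (two_prime_kill hG 2 1091 2 1 (by norm_num) (by norm_num) (by rw [hn] <;> decide) (by rw [hn] <;> decide)).elim
  · exact (kb 97 1 45 (by norm_num) (by rw [hn] <;> decide) (by norm_num) (by norm_num) (by norm_num) (by decide)).elim
  · exact (kb 59 1 74 (by norm_num) (by rw [hn] <;> decide) (by norm_num) (by norm_num) (by norm_num) (by decide)).elim
  · exact (two_prime_kill hG 11 397 1 1 (by norm_num) (by norm_num) (by rw [hn] <;> decide) (by rw [hn] <;> decide)).elim
  · exact (kb 13 1 336 (by norm_num) (by rw [hn] <;> decide) (by norm_num) (by norm_num) (by norm_num) (by decide)).elim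
  · exact (two_prime_kill hG 17 257 1 1 (by norm_num) (by norm_num) (by rw [hn] <;> decide) (by rw [hn] <;> decide)).elim
  · exact (kb 23 1 190 (by norm_num) (by rw [hn] <;> decide) (by norm_num) (by norm_num) (by norm_num) (by decide)).elim
  · exact (kb 47 1 93 (by norm_num) (by rw [hn] <;> decide) (by norm_num) (by norm_num) (by norm_num) (by decide)).elim
  · exact (two_prime_kill hG 2 1093 2 1 (by norm_num) (by norm_num) (by rw [hn] <;> decide) (by rw [hn] <;> decide)).elim
  · exact (two_prime_kill hG 4373 4373 0 1 (by norm_num) (by norm_num) (by rw [hn] <;> decide) (by rw [hn] <;> decide)).elim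
  · exact (two_prime_kill hG 2 3 1 7 (by norm_num) (by norm_num) (by rw [hn] <;> decide) (by rw [hn] <;> decide)).elim
  · exact (two_prime_kill hG 5 7 4 1 (by norm_num) (by norm_num) (by rw [hn] <;> decide) (by rw [hn] <;> decide)).elim
  · exact (two_prime_kill hG 2 547 3 1 (by norm_num) (by norm_num) (by rw [hn] <;> decide) (by rw [hn] <;> decide)).elim
  · exact (two_prime_kill hG 3 1459 1 1 (by norm_num) (by norm_num) (by rw [hn] <;> decide) (by rw [hn] <;> decide)).elim
  · exact (kb 199 1 22 (by norm_num) (by rw [hn] <;> decide) (by norm_num) (by norm_num) (by norm_num) (by decide)).elim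
  · exact (two_prime_kill hG 29 151 1 1 (by norm_num) (by norm_num) (by rw [hn] <;> decide) (by rw [hn] <;> decide)).elim
  · exact (kb 73 1 60 (by norm_num) (by rw [hn] <;> decide) (by norm_num) (by norm_num) (by norm_num) (by decide)).elim
  · exact (two_prime_kill hG 13 337 1 1 (by norm_num) (by norm_num) (by rw [hn] <;> decide) (by rw [hn] <;> decide)).elim
  · exact (kb 313 1 14 (by norm_num) (by rw [hn] <;> decide) (by norm_num) (by norm_num) (by norm_num) (by decide)).elim
  · exact (two_prime_kill hG 3 487 2 1 (by norm_num) (by norm_num) (by rw [hn] <;> decide) (by rw [hn] <;> decide)).elim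
  · exact (two_prime_kill hG 2 137 5 1 (by norm_num) (by norm_num) (by rw [hn] <;> decide) (by rw [hn] <;> decide)).elim
  · exact (two_prime_kill hG 5 877 1 1 (by norm_num) (by norm_num) (by rw [hn] <;> decide) (by rw [hn] <;> decide)).elim
  · exact (kb 43 1 102 (by norm_num) (by rw [hn] <;> decide) (by norm_num) (by norm_num) (by norm_num) (by decide)).elim
  · exact (two_prime_kill hG 41 107 1 1 (by norm_num) (by norm_num) (by rw [hn] <;> decide) (by rw [hn] <;> decide)).elim
  · exact (two_prime_kill hG 2 1097 2 1 (by norm_num) (by norm_num) (by rw [hn] <;> decide) (by rw [hn] <;> decide)).elim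
  · exact (kb 11 1 399 (by norm_num) (by rw [hn] <;> decide) (by norm_num) (by norm_num) (by norm_num) (by decide)).elim
  · exact (kb 439 1 10 (by norm_num) (by rw [hn] <;> decide) (by norm_num) (by norm_num) (by norm_num) (by decide)).elim
  · exact (two_prime_kill hG 4391 4391 0 1 (by norm_num) (by norm_num) (by rw [hn] <;> decide) (by rw [hn] <;> decide)).elim
  · exact (kb 61 1 72 (by norm_num) (by rw [hn] <;> decide) (by norm_num) (by norm_num) (by norm_num) (by decide)).elim
  · exact (two_prime_kill hG 23 191 1 1 (by norm_num) (by norm_num) (by rw [hn] <;> decide) (by rw [hn] <;> decide)).elim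
  · exact (two_prime_kill hG 2 13 1 3 (by norm_num) (by norm_num) (by rw [hn] <;> decide) (by rw [hn] <;> decide)).elim
  · exact (kb 293 1 15 (by norm_num) (by rw [hn] <;> decide) (by norm_num) (by norm_num) (by norm_num) (by decide)).elim
  · exact (kb 157 1 28 (by norm_num) (by rw [hn] <;> decide) (by norm_num) (by norm_num) (by norm_num) (by decide)).elim
  · exact (two_prime_kill hG 4397 4397 0 1 (by norm_num) (by norm_num) (by rw [hn] <;> decide) (by rw [hn] <;> decide)).elim
  · exact (kb 733 1 6 (by norm_num) (by rw [hn] <;> decide) (by norm_num) (by norm_num) (by norm_num) (by decide)).elim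
  · exact (two_prime_kill hG 53 83 1 1 (by norm_num) (by norm_num) (by rw [hn] <;> decide) (by rw [hn] <;> decide)).elim
  · exact (ks 2 5 4 2 11 400 (by norm_num) (by norm_num) (by norm_num) (by norm_num) (by norm_num) (by norm_num) (by norm_num) (by rw [hn] <;> decide) (by norm_num) (by decide)).elim
  · exact (two_prime_kill hG 3 163 3 1 (by norm_num) (by norm_num) (by rw [hn] <;> decide) (by rw [hn] <;> decide)).elim
  · exact (kb 71 1 62 (by norm_num) (by rw [hn] <;> decide) (by norm_num) (by norm_num) (by norm_num) (by decide)).elim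
  · exact (kb 37 1 119 (by norm_num) (by rw [hn] <;> decide) (by norm_num) (by norm_num) (by norm_num) (by decide)).elim
  · exact (kb 367 1 12 (by norm_num) (by rw [hn] <;> decide) (by norm_num) (by norm_num) (by norm_num) (by decide)).elim
  · exact (two_prime_kill hG 5 881 1 1 (by norm_num) (by norm_num) (by rw [hn] <;> decide) (by rw [hn] <;> decide)).elim
  · exact (two_prime_kill hG 2 2203 1 1 (by norm_num) (by norm_num) (by rw [hn] <;> decide) (by rw [hn] <;> decide)).elim
  · exact (kb 113 1 39 (by norm_num) (by rw [hn] <;> decide) (by norm_num) (by norm_num) (by norm_num) (by decide)).elim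
  · exact (kb 29 1 152 (by norm_num) (by rw [hn] <;> decide) (by norm_num) (by norm_num) (by norm_num) (by decide)).elim
  · exact (two_prime_kill hG 4409 4409 0 1 (by norm_num) (by norm_num) (by rw [hn] <;> decide) (by rw [hn] <;> decide)).elim
  · exact (kb 2 1 2205 (by norm_num) (by rw [hn] <;> decide) (by norm_num) (by norm_num) (by norm_num) (by decide)).elim
  · exact (two_prime_kill hG 11 401 1 1 (by norm_num) (by norm_num) (by rw [hn] <;> decide) (by rw [hn] <;> decide)).elim
  · exact (two_prime_kill hG 2 1103 2 1 (by norm_num) (by norm_num) (by rw [hn] <;> decide) (by rw [hn] <;> decide)).elim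
  · exact (two_prime_kill hG 3 1471 1 1 (by norm_num) (by norm_num) (by rw [hn] <;> decide) (by rw [hn] <;> decide)).elim
  · exact (two_prime_kill hG 2 2207 1 1 (by norm_num) (by norm_num) (by rw [hn] <;> decide) (by rw [hn] <;> decide)).elim
  · exact (two_prime_kill hG 5 883 1 1 (by norm_num) (by norm_num) (by rw [hn] <;> decide) (by rw [hn] <;> decide)).elim
  · exact (kb 23 1 192 (by norm_num) (by rw [hn] <;> decide) (by norm_num) (by norm_num) (by norm_num) (by decide)).elim
  · exact (two_prime_kill hG 7 631 1 1 (by norm_num) (by norm_num) (by rw [hn] <;> decide) (by rw [hn] <;> decide)).elim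
  · exact (two_prime_kill hG 2 47 1 2 (by norm_num) (by norm_num) (by rw [hn] <;> decide) (by rw [hn] <;> decide)).elim
  · exact (two_prime_kill hG 3 491 2 1 (by norm_num) (by norm_num) (by rw [hn] <;> decide) (by rw [hn] <;> decide)).elim
  · exact (kb 17 1 260 (by norm_num) (by rw [hn] <;> decide) (by norm_num) (by norm_num) (by norm_num) (by decide)).elim
  · exact (two_prime_kill hG 4421 4421 0 1 (by norm_num) (by norm_num) (by rw [hn] <;> decide) (by rw [hn] <;> decide)).elim
  · exact (kb 67 1 66 (by norm_num) (by rw [hn] <;> decide) (by norm_num) (by norm_num) (by norm_num) (by decide)).elim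
  · exact (two_prime_kill hG 4423 4423 0 1 (by norm_num) (by norm_num) (by rw [hn] <;> decide) (by rw [hn] <;> decide)).elim
  · exact (kb 79 1 56 (by norm_num) (by rw [hn] <;> decide) (by norm_num) (by norm_num) (by norm_num) (by decide)).elim
  · exact (kb 59 1 75 (by norm_num) (by rw [hn] <;> decide) (by norm_num) (by norm_num) (by norm_num) (by decide)).elim
  · exact (two_prime_kill hG 2 2213 1 1 (by norm_num) (by norm_num) (by rw [hn] <;> decide) (by rw [hn] <;> decide)).elim
  · exact (two_prime_kill hG 19 233 1 1 (by norm_num) (by norm_num) (by rw [hn] <;> decide) (by rw [hn] <;> decide)).elim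
  · exact (kb 41 1 108 (by norm_num) (by rw [hn] <;> decide) (by norm_num) (by norm_num) (by norm_num) (by decide)).elim
  · exact (two_prime_kill hG 43 103 1 1 (by norm_num) (by norm_num) (by rw [hn] <;> decide) (by rw [hn] <;> decide)).elim
  · exact (kb 443 1 10 (by norm_num) (by rw [hn] <;> decide) (by norm_num) (by norm_num) (by norm_num) (by decide)).elim
  · exact (kb 211 1 21 (by norm_num) (by rw [hn] <;> decide) (by norm_num) (by norm_num) (by norm_num) (by decide)).elim
  · exact (two_prime_kill hG 2 277 4 1 (by norm_num) (by norm_num) (by rw [hn] <;> decide) (by rw [hn] <;> decide)).elim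
  · exact (kb 31 1 143 (by norm_num) (by rw [hn] <;> decide) (by norm_num) (by norm_num) (by norm_num) (by decide)).elim
  · exact (kb 739 1 6 (by norm_num) (by rw [hn] <;> decide) (by norm_num) (by norm_num) (by norm_num) (by decide)).elim
  · exact (two_prime_kill hG 5 887 1 1 (by norm_num) (by norm_num) (by rw [hn] <;> decide) (by rw [hn] <;> decide)).elim
  · exact (two_prime_kill hG 2 1109 2 1 (by norm_num) (by norm_num) (by rw [hn] <;> decide) (by rw [hn] <;> decide)).elim
  · exact (kb 29 1 153 (by norm_num) (by rw [hn] <;> decide) (by norm_num) (by norm_num) (by norm_num) (by decide)).elim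
  · exact (kb 317 1 14 (by norm_num) (by rw [hn] <;> decide) (by norm_num) (by norm_num) (by norm_num) (by decide)).elim
  · exact (two_prime_kill hG 23 193 1 1 (by norm_num) (by norm_num) (by rw [hn] <;> decide) (by rw [hn] <;> decide)).elim
  · exact (kb 37 1 120 (by norm_num) (by rw [hn] <;> decide) (by norm_num) (by norm_num) (by norm_num) (by decide)).elim
  · exact (two_prime_kill hG 4441 4441 0 1 (by norm_num) (by norm_num) (by rw [hn] <;> decide) (by rw [hn] <;> decide)).elim
  · exact (two_prime_kill hG 2 2221 1 1 (by norm_num) (by norm_num) (by rw [hn] <;> decide) (by rw [hn] <;> decide)).elim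
  · exact (two_prime_kill hG 3 1481 1 1 (by norm_num) (by norm_num) (by rw [hn] <;> decide) (by rw [hn] <;> decide)).elim
  · exact (kb 101 1 44 (by norm_num) (by rw [hn] <;> decide) (by norm_num) (by norm_num) (by norm_num) (by decide)).elim
  · exact (kb 127 1 35 (by norm_num) (by rw [hn] <;> decide) (by norm_num) (by norm_num) (by norm_num) (by decide)).elim
  · exact (kb 13 1 342 (by norm_num) (by rw [hn] <;> decide) (by norm_num) (by norm_num) (by norm_num) (by decide)).elim
  · exact (two_prime_kill hG 4447 4447 0 1 (by norm_num) (by norm_num) (by rw [hn] <;> decide) (by rw [hn] <;> decide)).elim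
  · exact (two_prime_kill hG 2 139 5 1 (by norm_num) (by norm_num) (by rw [hn] <;> decide) (by rw [hn] <;> decide)).elim
  · exact (two_prime_kill hG 3 1483 1 1 (by norm_num) (by norm_num) (by rw [hn] <;> decide) (by rw [hn] <;> decide)).elim
  · exact (kb 89 1 50 (by norm_num) (by rw [hn] <;> decide) (by norm_num) (by norm_num) (by norm_num) (by decide)).elim
  · exact (two_prime_kill hG 4451 4451 0 1 (by norm_num) (by norm_num) (by rw [hn] <;> decide) (by rw [hn] <;> decide)).elim
  · exact (kb 53 1 84 (by norm_num) (by rw [hn] <;> decide) (by norm_num) (by norm_num) (by norm_num) (by decide)).elim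
  · exact (two_prime_kill hG 61 73 1 1 (by norm_num) (by norm_num) (by rw [hn] <;> decide) (by rw [hn] <;> decide)).elim
  · exact (kb 131 1 34 (by norm_num) (by rw [hn] <;> decide) (by norm_num) (by norm_num) (by norm_num) (by decide)).elim
  · exact (kb 11 1 405 (by norm_num) (by rw [hn] <;> decide) (by norm_num) (by norm_num) (by norm_num) (by decide)).elim
  · exact (two_prime_kill hG 2 557 3 1 (by norm_num) (by norm_num) (by rw [hn] <;> decide) (by rw [hn] <;> decide)).elim
  · exact (two_prime_kill hG 4457 4457 0 1 (by norm_num) (by norm_num) (by rw [hn] <;> decide) (by rw [hn] <;> decide)).elim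
  · exact (kb 743 1 6 (by norm_num) (by rw [hn] <;> decide) (by norm_num) (by norm_num) (by norm_num) (by decide)).elim
  · exact (two_prime_kill hG 7 13 3 1 (by norm_num) (by norm_num) (by rw [hn] <;> decide) (by rw [hn] <;> decide)).elim
  · exact (kb 223 1 20 (by norm_num) (by rw [hn] <;> decide) (by norm_num) (by norm_num) (by norm_num) (by decide)).elim
  · exact (two_prime_kill hG 3 1487 1 1 (by norm_num) (by norm_num) (by rw [hn] <;> decide) (by rw [hn] <;> decide)).elim
  · exact (kb 97 1 46 (by norm_num) (by rw [hn] <;> decide) (by norm_num) (by norm_num) (by norm_num) (by decide)).elim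
  · exact (two_prime_kill hG 4463 4463 0 1 (by norm_num) (by norm_num) (by rw [hn] <;> decide) (by rw [hn] <;> decide)).elim
  · exact (kb 31 1 144 (by norm_num) (by rw [hn] <;> decide) (by norm_num) (by norm_num) (by norm_num) (by decide)).elim
  · exact (kb 47 1 95 (by norm_num) (by rw [hn] <;> decide) (by norm_num) (by norm_num) (by norm_num) (by decide)).elim
  · exact (kb 29 1 154 (by norm_num) (by rw [hn] <;> decide) (by norm_num) (by norm_num) (by norm_num) (by decide)).elim
  · exact (two_prime_kill hG 3 1489 1 1 (by norm_num) (by norm_num) (by rw [hn] <;> decide) (by rw [hn] <;> decide)).elim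
  · exact (two_prime_kill hG 2 1117 2 1 (by norm_num) (by norm_num) (by rw [hn] <;> decide) (by rw [hn] <;> decide)).elim
  · exact (two_prime_kill hG 41 109 1 1 (by norm_num) (by norm_num) (by rw [hn] <;> decide) (by rw [hn] <;> decide)).elim
  · exact (kb 149 1 30 (by norm_num) (by rw [hn] <;> decide) (by norm_num) (by norm_num) (by norm_num) (by decide)).elim
  · exact (two_prime_kill hG 17 263 1 1 (by norm_num) (by norm_num) (by rw [hn] <;> decide) (by rw [hn] <;> decide)).elim
  · exact (kb 43 1 104 (by norm_num) (by rw [hn] <;> decide) (by norm_num) (by norm_num) (by norm_num) (by decide)).elim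
  · exact (kb 71 1 63 (by norm_num) (by rw [hn] <;> decide) (by norm_num) (by norm_num) (by norm_num) (by decide)).elim
  · exact (two_prime_kill hG 2 2237 1 1 (by norm_num) (by norm_num) (by rw [hn] <;> decide) (by rw [hn] <;> decide)).elim
  · exact (two_prime_kill hG 5 179 2 1 (by norm_num) (by norm_num) (by rw [hn] <;> decide) (by rw [hn] <;> decide)).elim
  · exact (kb 373 1 12 (by norm_num) (by rw [hn] <;> decide) (by norm_num) (by norm_num) (by norm_num) (by decide)).elim
  · exact (two_prime_kill hG 11 37 2 1 (by norm_num) (by norm_num) (by rw [hn] <;> decide) (by rw [hn] <;> decide)).elim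
  · exact (two_prime_kill hG 2 2239 1 1 (by norm_num) (by norm_num) (by rw [hn] <;> decide) (by rw [hn] <;> decide)).elim
  · exact (two_prime_kill hG 3 1493 1 1 (by norm_num) (by norm_num) (by rw [hn] <;> decide) (by rw [hn] <;> decide)).elim
  · exact (ks 2 5 7 1 7 640 (by norm_num) (by norm_num) (by norm_num) (by norm_num) (by norm_num) (by norm_num) (by norm_num) (by rw [hn] <;> decide) (by norm_num) (by decide)).elim
  · exact (two_prime_kill hG 4481 4481 0 1 (by norm_num) (by norm_num) (by rw [hn] <;> decide) (by rw [hn] <;> decide)).elim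
  · exact (kb 83 1 54 (by norm_num) (by rw [hn] <;> decide) (by norm_num) (by norm_num) (by norm_num) (by decide)).elim
  · exact (two_prime_kill hG 4483 4483 0 1 (by norm_num) (by norm_num) (by rw [hn] <;> decide) (by rw [hn] <;> decide)).elim
  · exact (kb 59 1 76 (by norm_num) (by rw [hn] <;> decide) (by norm_num) (by norm_num) (by norm_num) (by decide)).elim
  · exact (kb 23 1 195 (by norm_num) (by rw [hn] <;> decide) (by norm_num) (by norm_num) (by norm_num) (by decide)).elim
  · exact (two_prime_kill hG 2 2243 1 1 (by norm_num) (by norm_num) (by rw [hn] <;> decide) (by rw [hn] <;> decide)).elim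
  · exact (two_prime_kill hG 7 641 1 1 (by norm_num) (by norm_num) (by rw [hn] <;> decide) (by rw [hn] <;> decide)).elim
  · exact (kb 17 1 264 (by norm_num) (by rw [hn] <;> decide) (by norm_num) (by norm_num) (by norm_num) (by decide)).elim
  · exact (two_prime_kill hG 67 67 0 2 (by norm_num) (by norm_num) (by rw [hn] <;> decide) (by rw [hn] <;> decide)).elim
  · exact (kb 449 1 10 (by norm_num) (by rw [hn] <;> decide) (by norm_num) (by norm_num) (by norm_num) (by decide)).elim
  · exact (two_prime_kill hG 3 499 2 1 (by norm_num) (by norm_num) (by rw [hn] <;> decide) (by rw [hn] <;> decide)).elim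
  · exact (two_prime_kill hG 2 1123 2 1 (by norm_num) (by norm_num) (by rw [hn] <;> decide) (by rw [hn] <;> decide)).elim
  · exact (two_prime_kill hG 4493 4493 0 1 (by norm_num) (by norm_num) (by rw [hn] <;> decide) (by rw [hn] <;> decide)).elim
  · exact (kb 107 1 42 (by norm_num) (by rw [hn] <;> decide) (by norm_num) (by norm_num) (by norm_num) (by decide)).elim
  · exact (kb 31 1 145 (by norm_num) (by rw [hn] <;> decide) (by norm_num) (by norm_num) (by norm_num) (by decide)).elim
  · exact (two_prime_kill hG 2 281 4 1 (by norm_num) (by norm_num) (by rw [hn] <;> decide) (by rw [hn] <;> decide)).elim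
  · exact (two_prime_kill hG 3 1499 1 1 (by norm_num) (by norm_num) (by rw [hn] <;> decide) (by rw [hn] <;> decide)).elim
  · exact (kb 173 1 26 (by norm_num) (by rw [hn] <;> decide) (by norm_num) (by norm_num) (by norm_num) (by decide)).elim
  · exact (two_prime_kill hG 11 409 1 1 (by norm_num) (by norm_num) (by rw [hn] <;> decide) (by rw [hn] <;> decide)).elim
  · exact (sylow_kill_inter 5 3 36 (by norm_num) (by rw [hn] <;> decide) (by norm_num) (by norm_num) (by norm_num) (by decide)).elim
  · exact (two_prime_kill hG 7 643 1 1 (by norm_num) (by norm_num) (by rw [hn] <;> decide) (by rw [hn] <;> decide)).elim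
  · exact (two_prime_kill hG 2 2251 1 1 (by norm_num) (by norm_num) (by rw [hn] <;> decide) (by rw [hn] <;> decide)).elim
  · exact (kb 79 1 57 (by norm_num) (by rw [hn] <;> decide) (by norm_num) (by norm_num) (by norm_num) (by decide)).elim
  · exact (two_prime_kill hG 2 563 3 1 (by norm_num) (by norm_num) (by rw [hn] <;> decide) (by rw [hn] <;> decide)).elim
  · exact (kb 53 1 85 (by norm_num) (by rw [hn] <;> decide) (by norm_num) (by norm_num) (by norm_num) (by decide)).elim
  · exact (kb 751 1 6 (by norm_num) (by rw [hn] <;> decide) (by norm_num) (by norm_num) (by norm_num) (by decide)).elim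
  · exact (two_prime_kill hG 4507 4507 0 1 (by norm_num) (by norm_num) (by rw [hn] <;> decide) (by rw [hn] <;> decide)).elim
  · exact (kb 23 1 196 (by norm_num) (by rw [hn] <;> decide) (by norm_num) (by norm_num) (by norm_num) (by decide)).elim
  · exact (two_prime_kill hG 3 167 3 1 (by norm_num) (by norm_num) (by rw [hn] <;> decide) (by rw [hn] <;> decide)).elim
  · exact (kb 41 1 110 (by norm_num) (by rw [hn] <;> decide) (by norm_num) (by norm_num) (by norm_num) (by decide)).elim
  · exact (two_prime_kill hG 13 347 1 1 (by norm_num) (by norm_num) (by rw [hn] <;> decide) (by rw [hn] <;> decide)).elim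
  · exact (kb 47 1 96 (by norm_num) (by rw [hn] <;> decide) (by norm_num) (by norm_num) (by norm_num) (by decide)).elim
  · exact (two_prime_kill hG 4513 4513 0 1 (by norm_num) (by norm_num) (by rw [hn] <;> decide) (by rw [hn] <;> decide)).elim
  · exact (kb 61 1 74 (by norm_num) (by rw [hn] <;> decide) (by norm_num) (by norm_num) (by norm_num) (by decide)).elim
  · exact (kb 43 1 105 (by norm_num) (by rw [hn] <;> decide) (by norm_num) (by norm_num) (by norm_num) (by decide)).elim
  · exact (two_prime_kill hG 2 1129 2 1 (by norm_num) (by norm_num) (by rw [hn] <;> decide) (by rw [hn] <;> decide)).elim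
  · exact (two_prime_kill hG 4517 4517 0 1 (by norm_num) (by norm_num) (by rw [hn] <;> decide) (by rw [hn] <;> decide)).elim
  · exact (kb 251 1 18 (by norm_num) (by rw [hn] <;> decide) (by norm_num) (by norm_num) (by norm_num) (by decide)).elim
  · exact (two_prime_kill hG 4519 4519 0 1 (by norm_num) (by norm_num) (by rw [hn] <;> decide) (by rw [hn] <;> decide)).elim
  · exact (kb 113 1 40 (by norm_num) (by rw [hn] <;> decide) (by norm_num) (by norm_num) (by norm_num) (by decide)).elim
  · exact (kb 137 1 33 (by norm_num) (by rw [hn] <;> decide) (by norm_num) (by norm_num) (by norm_num) (by decide)).elim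
  · exact (kb 19 1 238 (by norm_num) (by rw [hn] <;> decide) (by norm_num) (by norm_num) (by norm_num) (by decide)).elim
  · exact (two_prime_kill hG 4523 4523 0 1 (by norm_num) (by norm_num) (by rw [hn] <;> decide) (by rw [hn] <;> decide)).elim
  · exact (kb 29 1 156 (by norm_num) (by rw [hn] <;> decide) (by norm_num) (by norm_num) (by norm_num) (by decide)).elim
  · exact (two_prime_kill hG 5 181 2 1 (by norm_num) (by norm_num) (by rw [hn] <;> decide) (by rw [hn] <;> decide)).elim
  · exact (kb 73 1 62 (by norm_num) (by rw [hn] <;> decide) (by norm_num) (by norm_num) (by norm_num) (by decide)).elim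
  · exact (two_prime_kill hG 3 503 2 1 (by norm_num) (by norm_num) (by rw [hn] <;> decide) (by rw [hn] <;> decide)).elim
  · exact (two_prime_kill hG 2 283 4 1 (by norm_num) (by norm_num) (by rw [hn] <;> decide) (by rw [hn] <;> decide)).elim
  · exact (two_prime_kill hG 7 647 1 1 (by norm_num) (by norm_num) (by rw [hn] <;> decide) (by rw [hn] <;> decide)).elim
  · exact (kb 151 1 30 (by norm_num) (by rw [hn] <;> decide) (by norm_num) (by norm_num) (by norm_num) (by decide)).elim
  · exact (two_prime_kill hG 23 197 1 1 (by norm_num) (by norm_num) (by rw [hn] <;> decide) (by rw [hn] <;> decide)).elim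
  · exact (kb 103 1 44 (by norm_num) (by rw [hn] <;> decide) (by norm_num) (by norm_num) (by norm_num) (by decide)).elim
  · exact (two_prime_kill hG 3 1511 1 1 (by norm_num) (by norm_num) (by rw [hn] <;> decide) (by rw [hn] <;> decide)).elim
  · exact (two_prime_kill hG 2 2267 1 1 (by norm_num) (by norm_num) (by rw [hn] <;> decide) (by rw [hn] <;> decide)).elim
  · exact (two_prime_kill hG 5 907 1 1 (by norm_num) (by norm_num) (by rw [hn] <;> decide) (by rw [hn] <;> decide)).elim
  · exact (ks 2 3 3 4 7 648 (by norm_num) (by norm_num) (by norm_num) (by norm_num) (by norm_num) (by norm_num) (by norm_num) (by rw [hn] <;> decide) (by norm_num) (by decide)).elim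
  · exact (two_prime_kill hG 13 349 1 1 (by norm_num) (by norm_num) (by rw [hn] <;> decide) (by rw [hn] <;> decide)).elim
  · exact (two_prime_kill hG 2 2269 1 1 (by norm_num) (by norm_num) (by rw [hn] <;> decide) (by rw [hn] <;> decide)).elim
  · exact (kb 89 1 51 (by norm_num) (by rw [hn] <;> decide) (by norm_num) (by norm_num) (by norm_num) (by decide)).elim
  · exact (kb 227 1 20 (by norm_num) (by rw [hn] <;> decide) (by norm_num) (by norm_num) (by norm_num) (by decide)).elim

end

end Cfsg.Agent.Lib.Helper7.Ord2

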