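import Mathlib
import Cfsg.Agent.Lib.Helper7.Ord2A
import Cfsg.Agent.Lib.Helper7.OrdD

/-! Dispatch over the orders 4541..4840 (generated by a script; helper7, for S0983).
Every order is either one of the four real ones, a prime power or `p^a q^b` (Burnside),
or is killed by Sylow counting (`kb`, `ks`, parity, intersection), or is one of the 23 orders
of `Ord2.Hard`, which are handled separately. -/

set_option autoImplicit false
set_option maxRecDepth 100000
set_option maxHeartbeats 4000000

namespace Cfsg.Agent.Lib.Helper7.Ord2

open Cfsg.Agent.Lib.Helper7.Ord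

section
variable {G : Type*} [Group G] [Finite G] [IsSimpleGroup G]

theorem orders2_4 (hG : ¬ IsMulCommutative G) (hhard : Nat.card G ∈ Hard → False)
    (hlo : 4541 ≤ Nat.card G) (hhi : Nat.card G ≤ 4840) :
    Nat.card G = 4080 ∨ Nat.card G = 5616 ∨ Nat.card G = 6048 ∨ Nat.card G = 6072 := by
  obtain ⟨n, hn⟩ : ∃ n, Nat.card G = n := ⟨_, rfl⟩
  rw [hn] at hlo hhi ⊢
  interval_cases n
  · exact (two_prime_kill hG 19 239 1 1 (by norm_num) (by norm_num) (by rw [hn] <;> decide) (by rw [hn] <;> decide)).elim
  · exact (kb 757 1 6 (by norm_num) (by rw [hn] <;> decide) (by norm_num) (by norm_num) (by norm_num) (by decide)).elim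
  · exact (kb 59 1 77 (by norm_num) (by rw [hn] <;> decide) (by norm_num) (by norm_num) (by norm_num) (by decide)).elim
  · exact (two_prime_kill hG 2 71 6 1 (by norm_num) (by norm_num) (by rw [hn] <;> decide) (by rw [hn] <;> decide)).elim
  · exact (kb 101 1 45 (by norm_num) (by rw [hn] <;> decide) (by norm_num) (by norm_num) (by norm_num) (by decide)).elim
  · exact (two_prime_kill hG 2 2273 1 1 (by norm_num) (by norm_num) (by rw [hn] <;> decide) (by rw [hn] <;> decide)).elim
  · exact (two_prime_kill hG 4547 4547 0 1 (by norm_num) (by norm_num) (by rw [hn] <;> decide) (by rw [hn] <;> decide)).elim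
  · exact (kb 379 1 12 (by norm_num) (by rw [hn] <;> decide) (by norm_num) (by norm_num) (by norm_num) (by decide)).elim
  · exact (two_prime_kill hG 4549 4549 0 1 (by norm_num) (by norm_num) (by rw [hn] <;> decide) (by rw [hn] <;> decide)).elim
  · exact (kb 13 1 350 (by norm_num) (by rw [hn] <;> decide) (by norm_num) (by norm_num) (by norm_num) (by decide)).elim
  · exact (kb 41 1 111 (by norm_num) (by rw [hn] <;> decide) (by norm_num) (by norm_num) (by norm_num) (by decide)).elim
  · exact (two_prime_kill hG 2 569 3 1 (by norm_num) (by norm_num) (by rw [hn] <;> decide) (by rw [hn] <;> decide)).elim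
  · exact (two_prime_kill hG 29 157 1 1 (by norm_num) (by norm_num) (by rw [hn] <;> decide) (by rw [hn] <;> decide)).elim
  · exact (kb 23 1 198 (by norm_num) (by rw [hn] <;> decide) (by norm_num) (by norm_num) (by norm_num) (by decide)).elim
  · exact (two_prime_kill hG 5 911 1 1 (by norm_num) (by norm_num) (by rw [hn] <;> decide) (by rw [hn] <;> decide)).elim
  · exact (kb 67 1 68 (by norm_num) (by rw [hn] <;> decide) (by norm_num) (by norm_num) (by norm_num) (by decide)).elim
  · exact (kb 7 2 93 (by norm_num) (by rw [hn] <;> decide) (by norm_num) (by norm_num) (by norm_num) (by decide)).elim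
  · exact (kb 53 1 86 (by norm_num) (by rw [hn] <;> decide) (by norm_num) (by norm_num) (by norm_num) (by decide)).elim
  · exact (two_prime_kill hG 47 97 1 1 (by norm_num) (by norm_num) (by rw [hn] <;> decide) (by rw [hn] <;> decide)).elim
  · exact (kb 19 1 240 (by norm_num) (by rw [hn] <;> decide) (by norm_num) (by norm_num) (by norm_num) (by decide)).elim
  · exact (two_prime_kill hG 4561 4561 0 1 (by norm_num) (by norm_num) (by rw [hn] <;> decide) (by rw [hn] <;> decide)).elim
  · exact (two_prime_kill hG 2 2281 1 1 (by norm_num) (by norm_num) (by rw [hn] <;> decide) (by rw [hn] <;> decide)).elim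
  · exact (two_prime_kill hG 3 13 3 2 (by norm_num) (by norm_num) (by rw [hn] <;> decide) (by rw [hn] <;> decide)).elim
  · exact (kb 163 1 28 (by norm_num) (by rw [hn] <;> decide) (by norm_num) (by norm_num) (by norm_num) (by decide)).elim
  · exact (kb 83 1 55 (by norm_num) (by rw [hn] <;> decide) (by norm_num) (by norm_num) (by norm_num) (by decide)).elim
  · exact (kb 761 1 6 (by norm_num) (by rw [hn] <;> decide) (by norm_num) (by norm_num) (by norm_num) (by decide)).elim
  · exact (two_prime_kill hG 4567 4567 0 1 (by norm_num) (by norm_num) (by rw [hn] <;> decide) (by rw [hn] <;> decide)).elim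
  · exact (two_prime_kill hG 2 571 3 1 (by norm_num) (by norm_num) (by rw [hn] <;> decide) (by rw [hn] <;> decide)).elim
  · exact (two_prime_kill hG 3 1523 1 1 (by norm_num) (by norm_num) (by rw [hn] <;> decide) (by rw [hn] <;> decide)).elim
  · exact (kb 457 1 10 (by norm_num) (by rw [hn] <;> decide) (by norm_num) (by norm_num) (by norm_num) (by decide)).elim
  · exact (two_prime_kill hG 7 653 1 1 (by norm_num) (by norm_num) (by rw [hn] <;> decide) (by rw [hn] <;> decide)).elim
  · exact (kb 127 1 36 (by norm_num) (by rw [hn] <;> decide) (by norm_num) (by norm_num) (by norm_num) (by decide)).elim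
  · exact (two_prime_kill hG 17 269 1 1 (by norm_num) (by norm_num) (by rw [hn] <;> decide) (by rw [hn] <;> decide)).elim
  · exact (two_prime_kill hG 2 2287 1 1 (by norm_num) (by norm_num) (by rw [hn] <;> decide) (by rw [hn] <;> decide)).elim
  · exact (kb 61 1 75 (by norm_num) (by rw [hn] <;> decide) (by norm_num) (by norm_num) (by norm_num) (by decide)).elim
  · exact (kb 13 1 352 (by norm_num) (by rw [hn] <;> decide) (by norm_num) (by norm_num) (by norm_num) (by decide)).elim
  · exact (two_prime_kill hG 23 199 1 1 (by norm_num) (by norm_num) (by rw [hn] <;> decide) (by rw [hn] <;> decide)).elim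
  · exact (kb 109 1 42 (by norm_num) (by rw [hn] <;> decide) (by norm_num) (by norm_num) (by norm_num) (by decide)).elim
  · exact (two_prime_kill hG 19 241 1 1 (by norm_num) (by norm_num) (by rw [hn] <;> decide) (by rw [hn] <;> decide)).elim
  · exact (kb 229 1 20 (by norm_num) (by rw [hn] <;> decide) (by norm_num) (by norm_num) (by norm_num) (by decide)).elim
  · exact (two_prime_kill hG 3 509 2 1 (by norm_num) (by norm_num) (by rw [hn] <;> decide) (by rw [hn] <;> decide)).elim
  · exact (kb 79 1 58 (by norm_num) (by rw [hn] <;> decide) (by norm_num) (by norm_num) (by norm_num) (by decide)).elim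
  · exact (two_prime_kill hG 4583 4583 0 1 (by norm_num) (by norm_num) (by rw [hn] <;> decide) (by rw [hn] <;> decide)).elim
  · exact (kb 191 1 24 (by norm_num) (by rw [hn] <;> decide) (by norm_num) (by norm_num) (by norm_num) (by decide)).elim
  · exact (kb 131 1 35 (by norm_num) (by rw [hn] <;> decide) (by norm_num) (by norm_num) (by norm_num) (by decide)).elim
  · exact (two_prime_kill hG 2 2293 1 1 (by norm_num) (by norm_num) (by rw [hn] <;> decide) (by rw [hn] <;> decide)).elim
  · exact (kb 139 1 33 (by norm_num) (by rw [hn] <;> decide) (by norm_num) (by norm_num) (by norm_num) (by decide)).elim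
  · exact (kb 37 1 124 (by norm_num) (by rw [hn] <;> decide) (by norm_num) (by norm_num) (by norm_num) (by decide)).elim
  · exact (two_prime_kill hG 13 353 1 1 (by norm_num) (by norm_num) (by rw [hn] <;> decide) (by rw [hn] <;> decide)).elim
  · exact (kb 17 1 270 (by norm_num) (by rw [hn] <;> decide) (by norm_num) (by norm_num) (by norm_num) (by decide)).elim
  · exact (two_prime_kill hG 4591 4591 0 1 (by norm_num) (by norm_num) (by rw [hn] <;> decide) (by rw [hn] <;> decide)).elim
  · exact (kb 41 1 112 (by norm_num) (by rw [hn] <;> decide) (by norm_num) (by norm_num) (by norm_num) (by decide)).elim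
  · exact (two_prime_kill hG 3 1531 1 1 (by norm_num) (by norm_num) (by rw [hn] <;> decide) (by rw [hn] <;> decide)).elim
  · exact (two_prime_kill hG 2 2297 1 1 (by norm_num) (by norm_num) (by rw [hn] <;> decide) (by rw [hn] <;> decide)).elim
  · exact (two_prime_kill hG 5 919 1 1 (by norm_num) (by norm_num) (by rw [hn] <;> decide) (by rw [hn] <;> decide)).elim
  · exact (kb 383 1 12 (by norm_num) (by rw [hn] <;> decide) (by norm_num) (by norm_num) (by norm_num) (by decide)).elim
  · exact (two_prime_kill hG 4597 4597 0 1 (by norm_num) (by norm_num) (by rw [hn] <;> decide) (by rw [hn] <;> decide)).elim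
  · exact (kb 11 2 38 (by norm_num) (by rw [hn] <;> decide) (by norm_num) (by norm_num) (by norm_num) (by decide)).elim
  · exact (kb 73 1 63 (by norm_num) (by rw [hn] <;> decide) (by norm_num) (by norm_num) (by norm_num) (by decide)).elim
  · exact (kb 23 1 200 (by norm_num) (by rw [hn] <;> decide) (by norm_num) (by norm_num) (by norm_num) (by decide)).elim
  · exact (two_prime_kill hG 43 107 1 1 (by norm_num) (by norm_num) (by rw [hn] <;> decide) (by rw [hn] <;> decide)).elim
  · exact (kb 59 1 78 (by norm_num) (by rw [hn] <;> decide) (by norm_num) (by norm_num) (by norm_num) (by decide)).elim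
  · exact (two_prime_kill hG 4603 4603 0 1 (by norm_num) (by norm_num) (by rw [hn] <;> decide) (by rw [hn] <;> decide)).elim
  · exact (two_prime_kill hG 2 1151 2 1 (by norm_num) (by norm_num) (by rw [hn] <;> decide) (by rw [hn] <;> decide)).elim
  · exact (kb 307 1 15 (by norm_num) (by rw [hn] <;> decide) (by norm_num) (by norm_num) (by norm_num) (by decide)).elim
  · exact (kb 7 2 94 (by norm_num) (by rw [hn] <;> decide) (by norm_num) (by norm_num) (by norm_num) (by decide)).elim
  · exact (two_prime_kill hG 17 271 1 1 (by norm_num) (by norm_num) (by rw [hn] <;> decide) (by rw [hn] <;> decide)).elim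
  · exact (two_prime_kill hG 2 3 9 2 (by norm_num) (by norm_num) (by rw [hn] <;> decide) (by rw [hn] <;> decide)).elim
  · exact (two_prime_kill hG 11 419 1 1 (by norm_num) (by norm_num) (by rw [hn] <;> decide) (by rw [hn] <;> decide)).elim
  · exact (kb 461 1 10 (by norm_num) (by rw [hn] <;> decide) (by norm_num) (by norm_num) (by norm_num) (by decide)).elim
  · exact (kb 53 1 87 (by norm_num) (by rw [hn] <;> decide) (by norm_num) (by norm_num) (by norm_num) (by decide)).elim
  · exact (two_prime_kill hG 2 1153 2 1 (by norm_num) (by norm_num) (by rw [hn] <;> decide) (by rw [hn] <;> decide)).elim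
  · exact (two_prime_kill hG 7 659 1 1 (by norm_num) (by norm_num) (by rw [hn] <;> decide) (by rw [hn] <;> decide)).elim
  · exact (kb 769 1 6 (by norm_num) (by rw [hn] <;> decide) (by norm_num) (by norm_num) (by norm_num) (by decide)).elim
  · exact (kb 71 1 65 (by norm_num) (by rw [hn] <;> decide) (by norm_num) (by norm_num) (by norm_num) (by decide)).elim
  · exact (two_prime_kill hG 2 577 3 1 (by norm_num) (by norm_num) (by rw [hn] <;> decide) (by rw [hn] <;> decide)).elim
  · exact (two_prime_kill hG 3 19 5 1 (by norm_num) (by norm_num) (by rw [hn] <;> decide) (by rw [hn] <;> decide)).elim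
  · exact (two_prime_kill hG 2 2309 1 1 (by norm_num) (by norm_num) (by rw [hn] <;> decide) (by rw [hn] <;> decide)).elim
  · exact (two_prime_kill hG 31 149 1 1 (by norm_num) (by norm_num) (by rw [hn] <;> decide) (by rw [hn] <;> decide)).elim
  · exact (hhard (by rw [hn]; decide)).elim
  · exact (two_prime_kill hG 4621 4621 0 1 (by norm_num) (by norm_num) (by rw [hn] <;> decide) (by rw [hn] <;> decide)).elim
  · exact (two_prime_kill hG 2 2311 1 1 (by norm_num) (by norm_num) (by rw [hn] <;> decide) (by rw [hn] <;> decide)).elim
  · exact (kb 67 1 69 (by norm_num) (by rw [hn] <;> decide) (by norm_num) (by norm_num) (by norm_num) (by decide)).elim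
  · exact (two_prime_kill hG 2 17 4 2 (by norm_num) (by norm_num) (by rw [hn] <;> decide) (by rw [hn] <;> decide)).elim
  · exact (two_prime_kill hG 5 37 3 1 (by norm_num) (by norm_num) (by rw [hn] <;> decide) (by rw [hn] <;> decide)).elim
  · exact (kb 257 1 18 (by norm_num) (by rw [hn] <;> decide) (by norm_num) (by norm_num) (by norm_num) (by decide)).elim
  · exact (two_prime_kill hG 7 661 1 1 (by norm_num) (by norm_num) (by rw [hn] <;> decide) (by rw [hn] <;> decide)).elim
  · exact (kb 89 1 52 (by norm_num) (by rw [hn] <;> decide) (by norm_num) (by norm_num) (by norm_num) (by decide)).elim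
  · exact (two_prime_kill hG 3 1543 1 1 (by norm_num) (by norm_num) (by rw [hn] <;> decide) (by rw [hn] <;> decide)).elim
  · exact (kb 463 1 10 (by norm_num) (by rw [hn] <;> decide) (by norm_num) (by norm_num) (by norm_num) (by decide)).elim
  · exact (two_prime_kill hG 11 421 1 1 (by norm_num) (by norm_num) (by rw [hn] <;> decide) (by rw [hn] <;> decide)).elim
  · exact (kb 193 1 24 (by norm_num) (by rw [hn] <;> decide) (by norm_num) (by norm_num) (by norm_num) (by decide)).elim
  · exact (two_prime_kill hG 41 113 1 1 (by norm_num) (by norm_num) (by rw [hn] <;> decide) (by rw [hn] <;> decide)).elim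
  · exact (kb 331 1 14 (by norm_num) (by rw [hn] <;> decide) (by norm_num) (by norm_num) (by norm_num) (by decide)).elim
  · exact (kb 103 1 45 (by norm_num) (by rw [hn] <;> decide) (by norm_num) (by norm_num) (by norm_num) (by decide)).elim
  · exact (kb 61 1 76 (by norm_num) (by rw [hn] <;> decide) (by norm_num) (by norm_num) (by norm_num) (by decide)).elim
  · exact (two_prime_kill hG 4637 4637 0 1 (by norm_num) (by norm_num) (by rw [hn] <;> decide) (by rw [hn] <;> decide)).elim
  · exact (kb 773 1 6 (by norm_num) (by rw [hn] <;> decide) (by norm_num) (by norm_num) (by norm_num) (by decide)).elim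
  · exact (two_prime_kill hG 4639 4639 0 1 (by norm_num) (by norm_num) (by rw [hn] <;> decide) (by rw [hn] <;> decide)).elim
  · exact (kb 29 1 160 (by norm_num) (by rw [hn] <;> decide) (by norm_num) (by norm_num) (by norm_num) (by decide)).elim
  · exact (kb 17 1 273 (by norm_num) (by rw [hn] <;> decide) (by norm_num) (by norm_num) (by norm_num) (by decide)).elim
  · exact (kb 211 1 22 (by norm_num) (by rw [hn] <;> decide) (by norm_num) (by norm_num) (by norm_num) (by decide)).elim
  · exact (two_prime_kill hG 4643 4643 0 1 (by norm_num) (by norm_num) (by rw [hn] <;> decide) (by rw [hn] <;> decide)).elim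
  · exact (kb 43 1 108 (by norm_num) (by rw [hn] <;> decide) (by norm_num) (by norm_num) (by norm_num) (by decide)).elim
  · exact (two_prime_kill hG 5 929 1 1 (by norm_num) (by norm_num) (by rw [hn] <;> decide) (by rw [hn] <;> decide)).elim
  · exact (kb 101 1 46 (by norm_num) (by rw [hn] <;> decide) (by norm_num) (by norm_num) (by norm_num) (by decide)).elim
  · exact (two_prime_kill hG 3 1549 1 1 (by norm_num) (by norm_num) (by rw [hn] <;> decide) (by rw [hn] <;> decide)).elim
  · exact (kb 83 1 56 (by norm_num) (by rw [hn] <;> decide) (by norm_num) (by norm_num) (by norm_num) (by decide)).elim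
  · exact (two_prime_kill hG 4649 4649 0 1 (by norm_num) (by norm_num) (by rw [hn] <;> decide) (by rw [hn] <;> decide)).elim
  · exact (kb 31 1 150 (by norm_num) (by rw [hn] <;> decide) (by norm_num) (by norm_num) (by norm_num) (by decide)).elim
  · exact (two_prime_kill hG 4651 4651 0 1 (by norm_num) (by norm_num) (by rw [hn] <;> decide) (by rw [hn] <;> decide)).elim
  · exact (two_prime_kill hG 2 1163 2 1 (by norm_num) (by norm_num) (by rw [hn] <;> decide) (by rw [hn] <;> decide)).elim
  · exact (kb 47 1 99 (by norm_num) (by rw [hn] <;> decide) (by norm_num) (by norm_num) (by norm_num) (by decide)).elim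
  · exact (kb 179 1 26 (by norm_num) (by rw [hn] <;> decide) (by norm_num) (by norm_num) (by norm_num) (by decide)).elim
  · exact (kb 7 2 95 (by norm_num) (by rw [hn] <;> decide) (by norm_num) (by norm_num) (by norm_num) (by decide)).elim
  · exact (kb 97 1 48 (by norm_num) (by rw [hn] <;> decide) (by norm_num) (by norm_num) (by norm_num) (by decide)).elim
  · exact (two_prime_kill hG 4657 4657 0 1 (by norm_num) (by norm_num) (by rw [hn] <;> decide) (by rw [hn] <;> decide)).elim
  · exact (kb 137 1 34 (by norm_num) (by rw [hn] <;> decide) (by norm_num) (by norm_num) (by norm_num) (by decide)).elim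
  · exact (two_prime_kill hG 3 1553 1 1 (by norm_num) (by norm_num) (by rw [hn] <;> decide) (by rw [hn] <;> decide)).elim
  · exact (kb 233 1 20 (by norm_num) (by rw [hn] <;> decide) (by norm_num) (by norm_num) (by norm_num) (by decide)).elim
  · exact (two_prime_kill hG 59 79 1 1 (by norm_num) (by norm_num) (by rw [hn] <;> decide) (by rw [hn] <;> decide)).elim
  · exact (kb 37 1 126 (by norm_num) (by rw [hn] <;> decide) (by norm_num) (by norm_num) (by norm_num) (by decide)).elim
  · exact (two_prime_kill hG 4663 4663 0 1 (by norm_num) (by norm_num) (by rw [hn] <;> decide) (by rw [hn] <;> decide)).elim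
  · exact (kb 53 1 88 (by norm_num) (by rw [hn] <;> decide) (by norm_num) (by norm_num) (by norm_num) (by decide)).elim
  · exact (kb 311 1 15 (by norm_num) (by rw [hn] <;> decide) (by norm_num) (by norm_num) (by norm_num) (by decide)).elim
  · exact (two_prime_kill hG 2 2333 1 1 (by norm_num) (by norm_num) (by rw [hn] <;> decide) (by rw [hn] <;> decide)).elim
  · exact (two_prime_kill hG 13 359 1 1 (by norm_num) (by norm_num) (by rw [hn] <;> decide) (by rw [hn] <;> decide)).elim
  · exact (kb 389 1 12 (by norm_num) (by rw [hn] <;> decide) (by norm_num) (by norm_num) (by norm_num) (by decide)).elim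
  · exact (kb 29 1 161 (by norm_num) (by rw [hn] <;> decide) (by norm_num) (by norm_num) (by norm_num) (by decide)).elim
  · exact (kb 467 1 10 (by norm_num) (by rw [hn] <;> decide) (by norm_num) (by norm_num) (by norm_num) (by decide)).elim
  · exact (two_prime_kill hG 3 173 3 1 (by norm_num) (by norm_num) (by rw [hn] <;> decide) (by rw [hn] <;> decide)).elim
  · exact (two_prime_kill hG 2 73 6 1 (by norm_num) (by norm_num) (by rw [hn] <;> decide) (by rw [hn] <;> decide)).elim
  · exact (two_prime_kill hG 4673 4673 0 1 (by norm_num) (by norm_num) (by rw [hn] <;> decide) (by rw [hn] <;> decide)).elim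
  · exact (kb 41 1 114 (by norm_num) (by rw [hn] <;> decide) (by norm_num) (by norm_num) (by norm_num) (by decide)).elim
  · exact (kb 5 2 187 (by norm_num) (by rw [hn] <;> decide) (by norm_num) (by norm_num) (by norm_num) (by decide)).elim
  · exact (kb 167 1 28 (by norm_num) (by rw [hn] <;> decide) (by norm_num) (by norm_num) (by norm_num) (by decide)).elim
  · exact (two_prime_kill hG 3 1559 1 1 (by norm_num) (by norm_num) (by rw [hn] <;> decide) (by rw [hn] <;> decide)).elim
  · exact (two_prime_kill hG 2 2339 1 1 (by norm_num) (by norm_num) (by rw [hn] <;> decide) (by rw [hn] <;> decide)).elim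
  · exact (two_prime_kill hG 4679 4679 0 1 (by norm_num) (by norm_num) (by rw [hn] <;> decide) (by rw [hn] <;> decide)).elim
  · exact (hhard (by rw [hn]; decide)).elim
  · exact (two_prime_kill hG 31 151 1 1 (by norm_num) (by norm_num) (by rw [hn] <;> decide) (by rw [hn] <;> decide)).elim
  · exact (two_prime_kill hG 2 2341 1 1 (by norm_num) (by norm_num) (by rw [hn] <;> decide) (by rw [hn] <;> decide)).elim
  · exact (kb 223 1 21 (by norm_num) (by rw [hn] <;> decide) (by norm_num) (by norm_num) (by norm_num) (by decide)).elim
  · exact (two_prime_kill hG 2 1171 2 1 (by norm_num) (by norm_num) (by rw [hn] <;> decide) (by rw [hn] <;> decide)).elim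
  · exact (two_prime_kill hG 5 937 1 1 (by norm_num) (by norm_num) (by rw [hn] <;> decide) (by rw [hn] <;> decide)).elim
  · exact (kb 71 1 66 (by norm_num) (by rw [hn] <;> decide) (by norm_num) (by norm_num) (by norm_num) (by decide)).elim
  · exact (two_prime_kill hG 43 109 1 1 (by norm_num) (by norm_num) (by rw [hn] <;> decide) (by rw [hn] <;> decide)).elim
  · exact (two_prime_kill hG 2 293 4 1 (by norm_num) (by norm_num) (by rw [hn] <;> decide) (by rw [hn] <;> decide)).elim
  · exact (two_prime_kill hG 3 521 2 1 (by norm_num) (by norm_num) (by rw [hn] <;> decide) (by rw [hn] <;> decide)).elim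
  · exact (kb 67 1 70 (by norm_num) (by rw [hn] <;> decide) (by norm_num) (by norm_num) (by norm_num) (by decide)).elim
  · exact (two_prime_kill hG 4691 4691 0 1 (by norm_num) (by norm_num) (by rw [hn] <;> decide) (by rw [hn] <;> decide)).elim
  · exact (kb 23 1 204 (by norm_num) (by rw [hn] <;> decide) (by norm_num) (by norm_num) (by norm_num) (by decide)).elim
  · exact (two_prime_kill hG 13 19 1 2 (by norm_num) (by norm_num) (by rw [hn] <;> decide) (by rw [hn] <;> decide)).elim
  · exact (two_prime_kill hG 2 2347 1 1 (by norm_num) (by norm_num) (by rw [hn] <;> decide) (by rw [hn] <;> decide)).elim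
  · exact (kb 313 1 15 (by norm_num) (by rw [hn] <;> decide) (by norm_num) (by norm_num) (by norm_num) (by decide)).elim
  · exact (two_prime_kill hG 2 587 3 1 (by norm_num) (by norm_num) (by rw [hn] <;> decide) (by rw [hn] <;> decide)).elim
  · exact (kb 61 1 77 (by norm_num) (by rw [hn] <;> decide) (by norm_num) (by norm_num) (by norm_num) (by decide)).elim
  · exact (kb 29 1 162 (by norm_num) (by rw [hn] <;> decide) (by norm_num) (by norm_num) (by norm_num) (by decide)).elim
  · exact (two_prime_kill hG 37 127 1 1 (by norm_num) (by norm_num) (by rw [hn] <;> decide) (by rw [hn] <;> decide)).elim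
  · exact (kb 47 1 100 (by norm_num) (by rw [hn] <;> decide) (by norm_num) (by norm_num) (by norm_num) (by decide)).elim
  · exact (two_prime_kill hG 3 1567 1 1 (by norm_num) (by norm_num) (by rw [hn] <;> decide) (by rw [hn] <;> decide)).elim
  · exact (two_prime_kill hG 2 2351 1 1 (by norm_num) (by norm_num) (by rw [hn] <;> decide) (by rw [hn] <;> decide)).elim
  · exact (two_prime_kill hG 4703 4703 0 1 (by norm_num) (by norm_num) (by rw [hn] <;> decide) (by rw [hn] <;> decide)).elim
  · exact (kb 7 2 96 (by norm_num) (by rw [hn] <;> decide) (by norm_num) (by norm_num) (by norm_num) (by decide)).elim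
  · exact (two_prime_kill hG 5 941 1 1 (by norm_num) (by norm_num) (by rw [hn] <;> decide) (by rw [hn] <;> decide)).elim
  · exact (kb 181 1 26 (by norm_num) (by rw [hn] <;> decide) (by norm_num) (by norm_num) (by norm_num) (by decide)).elim
  · exact (two_prime_kill hG 3 523 2 1 (by norm_num) (by norm_num) (by rw [hn] <;> decide) (by rw [hn] <;> decide)).elim
  · exact (kb 107 1 44 (by norm_num) (by rw [hn] <;> decide) (by norm_num) (by norm_num) (by norm_num) (by decide)).elim
  · exact (two_prime_kill hG 17 277 1 1 (by norm_num) (by norm_num) (by rw [hn] <;> decide) (by rw [hn] <;> decide)).elim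
  · exact (kb 157 1 30 (by norm_num) (by rw [hn] <;> decide) (by norm_num) (by norm_num) (by norm_num) (by decide)).elim
  · exact (two_prime_kill hG 7 673 1 1 (by norm_num) (by norm_num) (by rw [hn] <;> decide) (by rw [hn] <;> decide)).elim
  · exact (kb 31 1 152 (by norm_num) (by rw [hn] <;> decide) (by norm_num) (by norm_num) (by norm_num) (by decide)).elim
  · exact (two_prime_kill hG 3 1571 1 1 (by norm_num) (by norm_num) (by rw [hn] <;> decide) (by rw [hn] <;> decide)).elim
  · exact (two_prime_kill hG 2 2357 1 1 (by norm_num) (by norm_num) (by rw [hn] <;> decide) (by rw [hn] <;> decide)).elim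
  · exact (kb 41 1 115 (by norm_num) (by rw [hn] <;> decide) (by norm_num) (by norm_num) (by norm_num) (by decide)).elim
  · exact (kb 131 1 36 (by norm_num) (by rw [hn] <;> decide) (by norm_num) (by norm_num) (by norm_num) (by decide)).elim
  · exact (two_prime_kill hG 53 89 1 1 (by norm_num) (by norm_num) (by rw [hn] <;> decide) (by rw [hn] <;> decide)).elim
  · exact (kb 337 1 14 (by norm_num) (by rw [hn] <;> decide) (by norm_num) (by norm_num) (by norm_num) (by decide)).elim
  · exact (kb 11 2 39 (by norm_num) (by rw [hn] <;> decide) (by norm_num) (by norm_num) (by norm_num) (by decide)).elim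
  · exact (kb 59 1 80 (by norm_num) (by rw [hn] <;> decide) (by norm_num) (by norm_num) (by norm_num) (by decide)).elim
  · exact (two_prime_kill hG 4721 4721 0 1 (by norm_num) (by norm_num) (by rw [hn] <;> decide) (by rw [hn] <;> decide)).elim
  · exact (kb 787 1 6 (by norm_num) (by rw [hn] <;> decide) (by norm_num) (by norm_num) (by norm_num) (by decide)).elim
  · exact (two_prime_kill hG 4723 4723 0 1 (by norm_num) (by norm_num) (by rw [hn] <;> decide) (by rw [hn] <;> decide)).elim
  · exact (two_prime_kill hG 2 1181 2 1 (by norm_num) (by norm_num) (by rw [hn] <;> decide) (by rw [hn] <;> decide)).elim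
  · exact (sylow_kill_inter 5 2 189 (by norm_num) (by rw [hn] <;> decide) (by norm_num) (by norm_num) (by norm_num) (by decide)).elim
  · exact (kb 139 1 34 (by norm_num) (by rw [hn] <;> decide) (by norm_num) (by norm_num) (by norm_num) (by decide)).elim
  · exact (two_prime_kill hG 29 163 1 1 (by norm_num) (by norm_num) (by rw [hn] <;> decide) (by rw [hn] <;> decide)).elim
  · exact (kb 197 1 24 (by norm_num) (by rw [hn] <;> decide) (by norm_num) (by norm_num) (by norm_num) (by decide)).elim
  · exact (two_prime_kill hG 4729 4729 0 1 (by norm_num) (by norm_num) (by rw [hn] <;> decide) (by rw [hn] <;> decide)).elim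
  · exact (kb 43 1 110 (by norm_num) (by rw [hn] <;> decide) (by norm_num) (by norm_num) (by norm_num) (by decide)).elim
  · exact (kb 83 1 57 (by norm_num) (by rw [hn] <;> decide) (by norm_num) (by norm_num) (by norm_num) (by decide)).elim
  · exact (kb 13 2 28 (by norm_num) (by rw [hn] <;> decide) (by norm_num) (by norm_num) (by norm_num) (by decide)).elim
  · exact (two_prime_kill hG 4733 4733 0 1 (by norm_num) (by norm_num) (by rw [hn] <;> decide) (by rw [hn] <;> decide)).elim
  · exact (kb 263 1 18 (by norm_num) (by rw [hn] <;> decide) (by norm_num) (by norm_num) (by norm_num) (by decide)).elim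
  · exact (two_prime_kill hG 5 947 1 1 (by norm_num) (by norm_num) (by rw [hn] <;> decide) (by rw [hn] <;> decide)).elim
  · exact (two_prime_kill hG 2 37 7 1 (by norm_num) (by norm_num) (by rw [hn] <;> decide) (by rw [hn] <;> decide)).elim
  · exact (two_prime_kill hG 3 1579 1 1 (by norm_num) (by norm_num) (by rw [hn] <;> decide) (by rw [hn] <;> decide)).elim
  · exact (kb 103 1 46 (by norm_num) (by rw [hn] <;> decide) (by norm_num) (by norm_num) (by norm_num) (by decide)).elim
  · exact (two_prime_kill hG 7 677 1 1 (by norm_num) (by norm_num) (by rw [hn] <;> decide) (by rw [hn] <;> decide)).elim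
  · exact (kb 79 1 60 (by norm_num) (by rw [hn] <;> decide) (by norm_num) (by norm_num) (by norm_num) (by decide)).elim
  · exact (two_prime_kill hG 11 431 1 1 (by norm_num) (by norm_num) (by rw [hn] <;> decide) (by rw [hn] <;> decide)).elim
  · exact (two_prime_kill hG 2 2371 1 1 (by norm_num) (by norm_num) (by rw [hn] <;> decide) (by rw [hn] <;> decide)).elim
  · exact (kb 31 1 153 (by norm_num) (by rw [hn] <;> decide) (by norm_num) (by norm_num) (by norm_num) (by decide)).elim
  · exact (two_prime_kill hG 2 593 3 1 (by norm_num) (by norm_num) (by rw [hn] <;> decide) (by rw [hn] <;> decide)).elim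
  · exact (kb 73 1 65 (by norm_num) (by rw [hn] <;> decide) (by norm_num) (by norm_num) (by norm_num) (by decide)).elim
  · exact (kb 113 1 42 (by norm_num) (by rw [hn] <;> decide) (by norm_num) (by norm_num) (by norm_num) (by decide)).elim
  · exact (two_prime_kill hG 47 101 1 1 (by norm_num) (by norm_num) (by rw [hn] <;> decide) (by rw [hn] <;> decide)).elim
  · exact (two_prime_kill hG 2 1187 2 1 (by norm_num) (by norm_num) (by rw [hn] <;> decide) (by rw [hn] <;> decide)).elim
  · exact (two_prime_kill hG 3 1583 1 1 (by norm_num) (by norm_num) (by rw [hn] <;> decide) (by rw [hn] <;> decide)).elim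
  · exact (kb 5 3 38 (by norm_num) (by rw [hn] <;> decide) (by norm_num) (by norm_num) (by norm_num) (by decide)).elim
  · exact (two_prime_kill hG 4751 4751 0 1 (by norm_num) (by norm_num) (by rw [hn] <;> decide) (by rw [hn] <;> decide)).elim
  · exact (kb 11 1 432 (by norm_num) (by rw [hn] <;> decide) (by norm_num) (by norm_num) (by norm_num) (by decide)).elim
  · exact (two_prime_kill hG 7 97 2 1 (by norm_num) (by norm_num) (by rw [hn] <;> decide) (by rw [hn] <;> decide)).elim
  · exact (two_prime_kill hG 2 2377 1 1 (by norm_num) (by norm_num) (by rw [hn] <;> decide) (by rw [hn] <;> decide)).elim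
  · exact (kb 317 1 15 (by norm_num) (by rw [hn] <;> decide) (by norm_num) (by norm_num) (by norm_num) (by decide)).elim
  · exact (kb 41 1 116 (by norm_num) (by rw [hn] <;> decide) (by norm_num) (by norm_num) (by norm_num) (by decide)).elim
  · exact (two_prime_kill hG 67 71 1 1 (by norm_num) (by norm_num) (by rw [hn] <;> decide) (by rw [hn] <;> decide)).elim
  · exact (kb 61 1 78 (by norm_num) (by rw [hn] <;> decide) (by norm_num) (by norm_num) (by norm_num) (by decide)).elim
  · exact (two_prime_kill hG 4759 4759 0 1 (by norm_num) (by norm_num) (by rw [hn] <;> decide) (by rw [hn] <;> decide)).elim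
  · exact (hhard (by rw [hn]; decide)).elim
  · exact (two_prime_kill hG 3 23 2 2 (by norm_num) (by norm_num) (by rw [hn] <;> decide) (by rw [hn] <;> decide)).elim
  · exact (two_prime_kill hG 2 2381 1 1 (by norm_num) (by norm_num) (by rw [hn] <;> decide) (by rw [hn] <;> decide)).elim
  · exact (two_prime_kill hG 11 433 1 1 (by norm_num) (by norm_num) (by rw [hn] <;> decide) (by rw [hn] <;> decide)).elim
  · exact (kb 397 1 12 (by norm_num) (by rw [hn] <;> decide) (by norm_num) (by norm_num) (by norm_num) (by decide)).elim
  · exact (two_prime_kill hG 5 953 1 1 (by norm_num) (by norm_num) (by rw [hn] <;> decide) (by rw [hn] <;> decide)).elim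
  · exact (two_prime_kill hG 2 2383 1 1 (by norm_num) (by norm_num) (by rw [hn] <;> decide) (by rw [hn] <;> decide)).elim
  · exact (kb 227 1 21 (by norm_num) (by rw [hn] <;> decide) (by norm_num) (by norm_num) (by norm_num) (by decide)).elim
  · exact (two_prime_kill hG 2 149 5 1 (by norm_num) (by norm_num) (by rw [hn] <;> decide) (by rw [hn] <;> decide)).elim
  · exact (two_prime_kill hG 19 251 1 1 (by norm_num) (by norm_num) (by rw [hn] <;> decide) (by rw [hn] <;> decide)).elim
  · exact (kb 53 1 90 (by norm_num) (by rw [hn] <;> decide) (by norm_num) (by norm_num) (by norm_num) (by decide)).elim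
  · exact (two_prime_kill hG 13 367 1 1 (by norm_num) (by norm_num) (by rw [hn] <;> decide) (by rw [hn] <;> decide)).elim
  · exact (two_prime_kill hG 2 1193 2 1 (by norm_num) (by norm_num) (by rw [hn] <;> decide) (by rw [hn] <;> decide)).elim
  · exact (kb 43 1 111 (by norm_num) (by rw [hn] <;> decide) (by norm_num) (by norm_num) (by norm_num) (by decide)).elim
  · exact (kb 31 1 154 (by norm_num) (by rw [hn] <;> decide) (by norm_num) (by norm_num) (by norm_num) (by decide)).elim
  · exact (two_prime_kill hG 5 191 2 1 (by norm_num) (by norm_num) (by rw [hn] <;> decide) (by rw [hn] <;> decide)).elim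
  · exact (kb 199 1 24 (by norm_num) (by rw [hn] <;> decide) (by norm_num) (by norm_num) (by norm_num) (by decide)).elim
  · exact (two_prime_kill hG 17 281 1 1 (by norm_num) (by norm_num) (by rw [hn] <;> decide) (by rw [hn] <;> decide)).elim
  · exact (two_prime_kill hG 2 2389 1 1 (by norm_num) (by norm_num) (by rw [hn] <;> decide) (by rw [hn] <;> decide)).elim
  · exact (two_prime_kill hG 3 59 4 1 (by norm_num) (by norm_num) (by rw [hn] <;> decide) (by rw [hn] <;> decide)).elim
  · exact (kb 239 1 20 (by norm_num) (by rw [hn] <;> decide) (by norm_num) (by norm_num) (by norm_num) (by decide)).elim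
  · exact (two_prime_kill hG 7 683 1 1 (by norm_num) (by norm_num) (by rw [hn] <;> decide) (by rw [hn] <;> decide)).elim
  · exact (kb 797 1 6 (by norm_num) (by rw [hn] <;> decide) (by norm_num) (by norm_num) (by norm_num) (by decide)).elim
  · exact (two_prime_kill hG 4783 4783 0 1 (by norm_num) (by norm_num) (by rw [hn] <;> decide) (by rw [hn] <;> decide)).elim
  · exact (kb 23 1 208 (by norm_num) (by rw [hn] <;> decide) (by norm_num) (by norm_num) (by norm_num) (by decide)).elim
  · exact (kb 29 1 165 (by norm_num) (by rw [hn] <;> decide) (by norm_num) (by norm_num) (by norm_num) (by decide)).elim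
  · exact (two_prime_kill hG 2 2393 1 1 (by norm_num) (by norm_num) (by rw [hn] <;> decide) (by rw [hn] <;> decide)).elim
  · exact (two_prime_kill hG 4787 4787 0 1 (by norm_num) (by norm_num) (by rw [hn] <;> decide) (by rw [hn] <;> decide)).elim
  · exact (kb 19 1 252 (by norm_num) (by rw [hn] <;> decide) (by norm_num) (by norm_num) (by norm_num) (by decide)).elim
  · exact (two_prime_kill hG 4789 4789 0 1 (by norm_num) (by norm_num) (by rw [hn] <;> decide) (by rw [hn] <;> decide)).elim
  · exact (kb 479 1 10 (by norm_num) (by rw [hn] <;> decide) (by norm_num) (by norm_num) (by norm_num) (by decide)).elim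
  · exact (two_prime_kill hG 3 1597 1 1 (by norm_num) (by norm_num) (by rw [hn] <;> decide) (by rw [hn] <;> decide)).elim
  · exact (two_prime_kill hG 2 599 3 1 (by norm_num) (by norm_num) (by rw [hn] <;> decide) (by rw [hn] <;> decide)).elim
  · exact (two_prime_kill hG 4793 4793 0 1 (by norm_num) (by norm_num) (by rw [hn] <;> decide) (by rw [hn] <;> decide)).elim
  · exact (kb 47 1 102 (by norm_num) (by rw [hn] <;> decide) (by norm_num) (by norm_num) (by norm_num) (by decide)).elim
  · exact (kb 137 1 35 (by norm_num) (by rw [hn] <;> decide) (by norm_num) (by norm_num) (by norm_num) (by decide)).elim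
  · exact (kb 109 1 44 (by norm_num) (by rw [hn] <;> decide) (by norm_num) (by norm_num) (by norm_num) (by decide)).elim
  · exact (kb 41 1 117 (by norm_num) (by rw [hn] <;> decide) (by norm_num) (by norm_num) (by norm_num) (by decide)).elim
  · exact (two_prime_kill hG 2 2399 1 1 (by norm_num) (by norm_num) (by rw [hn] <;> decide) (by rw [hn] <;> decide)).elim
  · exact (two_prime_kill hG 4799 4799 0 1 (by norm_num) (by norm_num) (by rw [hn] <;> decide) (by rw [hn] <;> decide)).elim
  · exact (ks 2 5 6 2 3 1600 (by norm_num) (by norm_num) (by norm_num) (by norm_num) (by norm_num) (by norm_num) (by norm_num) (by rw [hn] <;> decide) (by norm_num) (by decide)).elim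
  · exact (two_prime_kill hG 4801 4801 0 1 (by norm_num) (by norm_num) (by rw [hn] <;> decide) (by rw [hn] <;> decide)).elim
  · exact (two_prime_kill hG 2 7 1 4 (by norm_num) (by norm_num) (by rw [hn] <;> decide) (by rw [hn] <;> decide)).elim
  · exact (two_prime_kill hG 3 1601 1 1 (by norm_num) (by norm_num) (by rw [hn] <;> decide) (by rw [hn] <;> decide)).elim
  · exact (two_prime_kill hG 2 1201 2 1 (by norm_num) (by norm_num) (by rw [hn] <;> decide) (by rw [hn] <;> decide)).elim
  · exact (two_prime_kill hG 5 31 1 2 (by norm_num) (by norm_num) (by rw [hn] <;> decide) (by rw [hn] <;> decide)).elim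
  · exact (kb 89 1 54 (by norm_num) (by rw [hn] <;> decide) (by norm_num) (by norm_num) (by norm_num) (by decide)).elim
  · exact (kb 23 1 209 (by norm_num) (by rw [hn] <;> decide) (by norm_num) (by norm_num) (by norm_num) (by decide)).elim
  · exact (two_prime_kill hG 2 601 3 1 (by norm_num) (by norm_num) (by rw [hn] <;> decide) (by rw [hn] <;> decide)).elim
  · exact (kb 229 1 21 (by norm_num) (by rw [hn] <;> decide) (by norm_num) (by norm_num) (by norm_num) (by decide)).elim
  · exact (kb 37 1 130 (by norm_num) (by rw [hn] <;> decide) (by norm_num) (by norm_num) (by norm_num) (by decide)).elim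
  · exact (two_prime_kill hG 17 283 1 1 (by norm_num) (by norm_num) (by rw [hn] <;> decide) (by rw [hn] <;> decide)).elim
  · exact (kb 401 1 12 (by norm_num) (by rw [hn] <;> decide) (by norm_num) (by norm_num) (by norm_num) (by decide)).elim
  · exact (two_prime_kill hG 4813 4813 0 1 (by norm_num) (by norm_num) (by rw [hn] <;> decide) (by rw [hn] <;> decide)).elim
  · exact (kb 83 1 58 (by norm_num) (by rw [hn] <;> decide) (by norm_num) (by norm_num) (by norm_num) (by decide)).elim
  · exact (kb 107 1 45 (by norm_num) (by rw [hn] <;> decide) (by norm_num) (by norm_num) (by norm_num) (by decide)).elim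
  · exact (kb 43 1 112 (by norm_num) (by rw [hn] <;> decide) (by norm_num) (by norm_num) (by norm_num) (by decide)).elim
  · exact (two_prime_kill hG 4817 4817 0 1 (by norm_num) (by norm_num) (by rw [hn] <;> decide) (by rw [hn] <;> decide)).elim
  · exact (kb 73 1 66 (by norm_num) (by rw [hn] <;> decide) (by norm_num) (by norm_num) (by norm_num) (by decide)).elim
  · exact (two_prime_kill hG 61 79 1 1 (by norm_num) (by norm_num) (by rw [hn] <;> decide) (by rw [hn] <;> decide)).elim
  · exact (kb 241 1 20 (by norm_num) (by rw [hn] <;> decide) (by norm_num) (by norm_num) (by norm_num) (by decide)).elim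
  · exact (two_prime_kill hG 3 1607 1 1 (by norm_num) (by norm_num) (by rw [hn] <;> decide) (by rw [hn] <;> decide)).elim
  · exact (two_prime_kill hG 2 2411 1 1 (by norm_num) (by norm_num) (by rw [hn] <;> decide) (by rw [hn] <;> decide)).elim
  · exact (kb 53 1 91 (by norm_num) (by rw [hn] <;> decide) (by norm_num) (by norm_num) (by norm_num) (by decide)).elim
  · exact (kb 67 1 72 (by norm_num) (by rw [hn] <;> decide) (by norm_num) (by norm_num) (by norm_num) (by decide)).elim
  · exact (two_prime_kill hG 5 193 2 1 (by norm_num) (by norm_num) (by rw [hn] <;> decide) (by rw [hn] <;> decide)).elim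
  · exact (kb 127 1 38 (by norm_num) (by rw [hn] <;> decide) (by norm_num) (by norm_num) (by norm_num) (by decide)).elim
  · exact (two_prime_kill hG 3 1609 1 1 (by norm_num) (by norm_num) (by rw [hn] <;> decide) (by rw [hn] <;> decide)).elim
  · exact (kb 71 1 68 (by norm_num) (by rw [hn] <;> decide) (by norm_num) (by norm_num) (by norm_num) (by decide)).elim
  · exact (two_prime_kill hG 11 439 1 1 (by norm_num) (by norm_num) (by rw [hn] <;> decide) (by rw [hn] <;> decide)).elim
  · exact (kb 23 1 210 (by norm_num) (by rw [hn] <;> decide) (by norm_num) (by norm_num) (by norm_num) (by decide)).elim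
  · exact (two_prime_kill hG 4831 4831 0 1 (by norm_num) (by norm_num) (by rw [hn] <;> decide) (by rw [hn] <;> decide)).elim
  · exact (two_prime_kill hG 2 151 5 1 (by norm_num) (by norm_num) (by rw [hn] <;> decide) (by rw [hn] <;> decide)).elim
  · exact (two_prime_kill hG 3 179 3 1 (by norm_num) (by norm_num) (by rw [hn] <;> decide) (by rw [hn] <;> decide)).elim
  · exact (two_prime_kill hG 2 2417 1 1 (by norm_num) (by norm_num) (by rw [hn] <;> decide) (by rw [hn] <;> decide)).elim
  · exact (two_prime_kill hG 5 967 1 1 (by norm_num) (by norm_num) (by rw [hn] <;> decide) (by rw [hn] <;> decide)).elim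
  · exact (kb 31 1 156 (by norm_num) (by rw [hn] <;> decide) (by norm_num) (by norm_num) (by norm_num) (by decide)).elim
  · exact (two_prime_kill hG 7 691 1 1 (by norm_num) (by norm_num) (by rw [hn] <;> decide) (by rw [hn] <;> decide)).elim
  · exact (kb 59 1 82 (by norm_num) (by rw [hn] <;> decide) (by norm_num) (by norm_num) (by norm_num) (by decide)).elim
  · exact (two_prime_kill hG 3 1613 1 1 (by norm_num) (by norm_num) (by rw [hn] <;> decide) (by rw [hn] <;> decide)).elim
  · exact (kb 11 2 40 (by norm_num) (by rw [hn] <;> decide) (by norm_num) (by norm_num) (by norm_num) (by decide)).elim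

end

end Cfsg.Agent.Lib.Helper7.Ord2

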