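import Mathlib
import Cfsg.Agent.Lib.Helper7.Ord2A
import Cfsg.Agent.Lib.Helper7.OrdD

/-! Dispatch over the orders 4841..5140 (generated by a script; helper7, for S0983).
Every order is either one of the four real ones, a prime power or `p^a q^b` (Burnside),
or is killed by Sylow counting (`kb`, `ks`, parity, intersection), or is one of the 23 orders
of `Ord2.Hard`, which are handled separately. -/

set_option autoImplicit false
set_option maxRecDepth 100000
set_option maxHeartbeats 4000000

namespace Cfsg.Agent.Lib.Helper7.Ord2

open Cfsg.Agent.Lib.Helper7.Ord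

section
variable {G : Type*} [Group G] [Finite G] [IsSimpleGroup G]

theorem orders2_5 (hG : ¬ IsMulCommutative G) (hhard : Nat.card G ∈ Hard → False)
    (hlo : 4841 ≤ Nat.card G) (hhi : Nat.card G ≤ 5140) :
    Nat.card G = 4080 ∨ Nat.card G = 5616 ∨ Nat.card G = 6048 ∨ Nat.card G = 6072 := by
  obtain ⟨n, hn⟩ : ∃ n, Nat.card G = n := ⟨_, rfl⟩
  rw [hn] at hlo hhi ⊢
  interval_cases n
  · exact (two_prime_kill hG 47 103 1 1 (by norm_num) (by norm_num) (by rw [hn] <;> decide) (by rw [hn] <;> decide)).elim
  · exact (kb 269 1 18 (by norm_num) (by rw [hn] <;> decide) (by norm_num) (by norm_num) (by norm_num) (by decide)).elim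
  · exact (two_prime_kill hG 29 167 1 1 (by norm_num) (by norm_num) (by rw [hn] <;> decide) (by rw [hn] <;> decide)).elim
  · exact (kb 173 1 28 (by norm_num) (by rw [hn] <;> decide) (by norm_num) (by norm_num) (by norm_num) (by decide)).elim
  · exact (kb 19 1 255 (by norm_num) (by rw [hn] <;> decide) (by norm_num) (by norm_num) (by norm_num) (by decide)).elim
  · exact (two_prime_kill hG 2 2423 1 1 (by norm_num) (by norm_num) (by rw [hn] <;> decide) (by rw [hn] <;> decide)).elim
  · exact (two_prime_kill hG 37 131 1 1 (by norm_num) (by norm_num) (by rw [hn] <;> decide) (by rw [hn] <;> decide)).elim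
  · exact (kb 101 1 48 (by norm_num) (by rw [hn] <;> decide) (by norm_num) (by norm_num) (by norm_num) (by decide)).elim
  · exact (two_prime_kill hG 13 373 1 1 (by norm_num) (by norm_num) (by rw [hn] <;> decide) (by rw [hn] <;> decide)).elim
  · exact (kb 97 1 50 (by norm_num) (by rw [hn] <;> decide) (by norm_num) (by norm_num) (by norm_num) (by decide)).elim
  · exact (kb 11 1 441 (by norm_num) (by rw [hn] <;> decide) (by norm_num) (by norm_num) (by norm_num) (by decide)).elim
  · exact (two_prime_kill hG 2 1213 2 1 (by norm_num) (by norm_num) (by rw [hn] <;> decide) (by rw [hn] <;> decide)).elim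
  · exact (two_prime_kill hG 23 211 1 1 (by norm_num) (by norm_num) (by rw [hn] <;> decide) (by rw [hn] <;> decide)).elim
  · exact (kb 809 1 6 (by norm_num) (by rw [hn] <;> decide) (by norm_num) (by norm_num) (by norm_num) (by decide)).elim
  · exact (two_prime_kill hG 5 971 1 1 (by norm_num) (by norm_num) (by rw [hn] <;> decide) (by rw [hn] <;> decide)).elim
  · exact (two_prime_kill hG 2 607 3 1 (by norm_num) (by norm_num) (by rw [hn] <;> decide) (by rw [hn] <;> decide)).elim
  · exact (two_prime_kill hG 3 1619 1 1 (by norm_num) (by norm_num) (by rw [hn] <;> decide) (by rw [hn] <;> decide)).elim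
  · exact (kb 347 1 14 (by norm_num) (by rw [hn] <;> decide) (by norm_num) (by norm_num) (by norm_num) (by decide)).elim
  · exact (two_prime_kill hG 43 113 1 1 (by norm_num) (by norm_num) (by rw [hn] <;> decide) (by rw [hn] <;> decide)).elim
  · exact (kb 3 5 20 (by norm_num) (by rw [hn] <;> decide) (by norm_num) (by norm_num) (by norm_num) (by decide)).elim
  · exact (two_prime_kill hG 4861 4861 0 1 (by norm_num) (by norm_num) (by rw [hn] <;> decide) (by rw [hn] <;> decide)).elim
  · exact (kb 17 1 286 (by norm_num) (by rw [hn] <;> decide) (by norm_num) (by norm_num) (by norm_num) (by decide)).elim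
  · exact (two_prime_kill hG 3 1621 1 1 (by norm_num) (by norm_num) (by rw [hn] <;> decide) (by rw [hn] <;> decide)).elim
  · exact (two_prime_kill hG 2 19 8 1 (by norm_num) (by norm_num) (by rw [hn] <;> decide) (by rw [hn] <;> decide)).elim
  · exact (kb 139 1 35 (by norm_num) (by rw [hn] <;> decide) (by norm_num) (by norm_num) (by norm_num) (by decide)).elim
  · exact (kb 811 1 6 (by norm_num) (by rw [hn] <;> decide) (by norm_num) (by norm_num) (by norm_num) (by decide)).elim
  · exact (two_prime_kill hG 31 157 1 1 (by norm_num) (by norm_num) (by rw [hn] <;> decide) (by rw [hn] <;> decide)).elim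
  · exact (two_prime_kill hG 2 1217 2 1 (by norm_num) (by norm_num) (by rw [hn] <;> decide) (by rw [hn] <;> decide)).elim
  · exact (two_prime_kill hG 3 541 2 1 (by norm_num) (by norm_num) (by rw [hn] <;> decide) (by rw [hn] <;> decide)).elim
  · exact (kb 487 1 10 (by norm_num) (by rw [hn] <;> decide) (by norm_num) (by norm_num) (by norm_num) (by decide)).elim
  · exact (two_prime_kill hG 4871 4871 0 1 (by norm_num) (by norm_num) (by rw [hn] <;> decide) (by rw [hn] <;> decide)).elim
  · exact (kb 29 1 168 (by norm_num) (by rw [hn] <;> decide) (by norm_num) (by norm_num) (by norm_num) (by decide)).elim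
  · exact (two_prime_kill hG 11 443 1 1 (by norm_num) (by norm_num) (by rw [hn] <;> decide) (by rw [hn] <;> decide)).elim
  · exact (two_prime_kill hG 2 2437 1 1 (by norm_num) (by norm_num) (by rw [hn] <;> decide) (by rw [hn] <;> decide)).elim
  · exact (kb 5 3 39 (by norm_num) (by rw [hn] <;> decide) (by norm_num) (by norm_num) (by norm_num) (by decide)).elim
  · exact (kb 53 1 92 (by norm_num) (by rw [hn] <;> decide) (by norm_num) (by norm_num) (by norm_num) (by decide)).elim
  · exact (two_prime_kill hG 4877 4877 0 1 (by norm_num) (by norm_num) (by rw [hn] <;> decide) (by rw [hn] <;> decide)).elim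
  · exact (kb 271 1 18 (by norm_num) (by rw [hn] <;> decide) (by norm_num) (by norm_num) (by norm_num) (by decide)).elim
  · exact (kb 41 1 119 (by norm_num) (by rw [hn] <;> decide) (by norm_num) (by norm_num) (by norm_num) (by decide)).elim
  · exact (kb 61 1 80 (by norm_num) (by rw [hn] <;> decide) (by norm_num) (by norm_num) (by norm_num) (by decide)).elim
  · exact (two_prime_kill hG 3 1627 1 1 (by norm_num) (by norm_num) (by rw [hn] <;> decide) (by rw [hn] <;> decide)).elim
  · exact (two_prime_kill hG 2 2441 1 1 (by norm_num) (by norm_num) (by rw [hn] <;> decide) (by rw [hn] <;> decide)).elim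
  · exact (two_prime_kill hG 19 257 1 1 (by norm_num) (by norm_num) (by rw [hn] <;> decide) (by rw [hn] <;> decide)).elim
  · exact (kb 37 1 132 (by norm_num) (by rw [hn] <;> decide) (by norm_num) (by norm_num) (by norm_num) (by decide)).elim
  · exact (two_prime_kill hG 5 977 1 1 (by norm_num) (by norm_num) (by rw [hn] <;> decide) (by rw [hn] <;> decide)).elim
  · exact (kb 349 1 14 (by norm_num) (by rw [hn] <;> decide) (by norm_num) (by norm_num) (by norm_num) (by decide)).elim
  · exact (two_prime_kill hG 3 181 3 1 (by norm_num) (by norm_num) (by rw [hn] <;> decide) (by rw [hn] <;> decide)).elim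
  · exact (kb 47 1 104 (by norm_num) (by rw [hn] <;> decide) (by norm_num) (by norm_num) (by norm_num) (by decide)).elim
  · exact (two_prime_kill hG 4889 4889 0 1 (by norm_num) (by norm_num) (by rw [hn] <;> decide) (by rw [hn] <;> decide)).elim
  · exact (kb 163 1 30 (by norm_num) (by rw [hn] <;> decide) (by norm_num) (by norm_num) (by norm_num) (by decide)).elim
  · exact (two_prime_kill hG 67 73 1 1 (by norm_num) (by norm_num) (by rw [hn] <;> decide) (by rw [hn] <;> decide)).elim
  · exact (two_prime_kill hG 2 1223 2 1 (by norm_num) (by norm_num) (by rw [hn] <;> decide) (by rw [hn] <;> decide)).elim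
  · exact (kb 233 1 21 (by norm_num) (by rw [hn] <;> decide) (by norm_num) (by norm_num) (by norm_num) (by decide)).elim
  · exact (two_prime_kill hG 2 2447 1 1 (by norm_num) (by norm_num) (by rw [hn] <;> decide) (by rw [hn] <;> decide)).elim
  · exact (kb 89 1 55 (by norm_num) (by rw [hn] <;> decide) (by norm_num) (by norm_num) (by norm_num) (by decide)).elim
  · exact (kb 17 1 288 (by norm_num) (by rw [hn] <;> decide) (by norm_num) (by norm_num) (by norm_num) (by decide)).elim
  · exact (two_prime_kill hG 59 83 1 1 (by norm_num) (by norm_num) (by rw [hn] <;> decide) (by rw [hn] <;> decide)).elim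
  · exact (kb 79 1 62 (by norm_num) (by rw [hn] <;> decide) (by norm_num) (by norm_num) (by norm_num) (by decide)).elim
  · exact (kb 71 1 69 (by norm_num) (by rw [hn] <;> decide) (by norm_num) (by norm_num) (by norm_num) (by decide)).elim
  · exact (sylow_kill_inter 5 2 196 (by norm_num) (by rw [hn] <;> decide) (by norm_num) (by norm_num) (by norm_num) (by decide)).elim
  · exact (two_prime_kill hG 13 29 2 1 (by norm_num) (by norm_num) (by rw [hn] <;> decide) (by rw [hn] <;> decide)).elim
  · exact (kb 43 1 114 (by norm_num) (by rw [hn] <;> decide) (by norm_num) (by norm_num) (by norm_num) (by decide)).elim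
  · exact (two_prime_kill hG 4903 4903 0 1 (by norm_num) (by norm_num) (by rw [hn] <;> decide) (by rw [hn] <;> decide)).elim
  · exact (two_prime_kill hG 2 613 3 1 (by norm_num) (by norm_num) (by rw [hn] <;> decide) (by rw [hn] <;> decide)).elim
  · exact (kb 109 1 45 (by norm_num) (by rw [hn] <;> decide) (by norm_num) (by norm_num) (by norm_num) (by decide)).elim
  · exact (kb 223 1 22 (by norm_num) (by rw [hn] <;> decide) (by norm_num) (by norm_num) (by norm_num) (by decide)).elim
  · exact (two_prime_kill hG 7 701 1 1 (by norm_num) (by norm_num) (by rw [hn] <;> decide) (by rw [hn] <;> decide)).elim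
  · exact (kb 409 1 12 (by norm_num) (by rw [hn] <;> decide) (by norm_num) (by norm_num) (by norm_num) (by decide)).elim
  · exact (two_prime_kill hG 4909 4909 0 1 (by norm_num) (by norm_num) (by rw [hn] <;> decide) (by rw [hn] <;> decide)).elim
  · exact (kb 491 1 10 (by norm_num) (by rw [hn] <;> decide) (by norm_num) (by norm_num) (by norm_num) (by decide)).elim
  · exact (two_prime_kill hG 3 1637 1 1 (by norm_num) (by norm_num) (by rw [hn] <;> decide) (by rw [hn] <;> decide)).elim
  · exact (two_prime_kill hG 2 307 4 1 (by norm_num) (by norm_num) (by rw [hn] <;> decide) (by rw [hn] <;> decide)).elim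
  · exact (two_prime_kill hG 17 17 0 3 (by norm_num) (by norm_num) (by rw [hn] <;> decide) (by rw [hn] <;> decide)).elim
  · exact (kb 2 1 2457 (by norm_num) (by rw [hn] <;> decide) (by norm_num) (by norm_num) (by norm_num) (by decide)).elim
  · exact (two_prime_kill hG 5 983 1 1 (by norm_num) (by norm_num) (by rw [hn] <;> decide) (by rw [hn] <;> decide)).elim
  · exact (two_prime_kill hG 2 1229 2 1 (by norm_num) (by norm_num) (by rw [hn] <;> decide) (by rw [hn] <;> decide)).elim
  · exact (kb 149 1 33 (by norm_num) (by rw [hn] <;> decide) (by norm_num) (by norm_num) (by norm_num) (by decide)).elim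
  · exact (two_prime_kill hG 2 2459 1 1 (by norm_num) (by norm_num) (by rw [hn] <;> decide) (by rw [hn] <;> decide)).elim
  · exact (two_prime_kill hG 4919 4919 0 1 (by norm_num) (by norm_num) (by rw [hn] <;> decide) (by rw [hn] <;> decide)).elim
  · exact (kb 41 1 120 (by norm_num) (by rw [hn] <;> decide) (by norm_num) (by norm_num) (by norm_num) (by decide)).elim
  · exact (kb 37 1 133 (by norm_num) (by rw [hn] <;> decide) (by norm_num) (by norm_num) (by norm_num) (by decide)).elim
  · exact (kb 107 1 46 (by norm_num) (by rw [hn] <;> decide) (by norm_num) (by norm_num) (by norm_num) (by decide)).elim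
  · exact (two_prime_kill hG 3 547 2 1 (by norm_num) (by norm_num) (by rw [hn] <;> decide) (by rw [hn] <;> decide)).elim
  · exact (two_prime_kill hG 2 1231 2 1 (by norm_num) (by norm_num) (by rw [hn] <;> decide) (by rw [hn] <;> decide)).elim
  · exact (two_prime_kill hG 5 197 2 1 (by norm_num) (by norm_num) (by rw [hn] <;> decide) (by rw [hn] <;> decide)).elim
  · exact (kb 821 1 6 (by norm_num) (by rw [hn] <;> decide) (by norm_num) (by norm_num) (by norm_num) (by decide)).elim
  · exact (two_prime_kill hG 13 379 1 1 (by norm_num) (by norm_num) (by rw [hn] <;> decide) (by rw [hn] <;> decide)).elim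
  · exact (ks 2 7 6 1 11 448 (by norm_num) (by norm_num) (by norm_num) (by norm_num) (by norm_num) (by norm_num) (by norm_num) (by rw [hn] <;> decide) (by norm_num) (by decide)).elim
  · exact (kb 53 1 93 (by norm_num) (by rw [hn] <;> decide) (by norm_num) (by norm_num) (by norm_num) (by decide)).elim
  · exact (kb 29 1 170 (by norm_num) (by rw [hn] <;> decide) (by norm_num) (by norm_num) (by norm_num) (by decide)).elim
  · exact (two_prime_kill hG 4931 4931 0 1 (by norm_num) (by norm_num) (by rw [hn] <;> decide) (by rw [hn] <;> decide)).elim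
  · exact (kb 137 1 36 (by norm_num) (by rw [hn] <;> decide) (by norm_num) (by norm_num) (by norm_num) (by decide)).elim
  · exact (two_prime_kill hG 4933 4933 0 1 (by norm_num) (by norm_num) (by rw [hn] <;> decide) (by rw [hn] <;> decide)).elim
  · exact (two_prime_kill hG 2 2467 1 1 (by norm_num) (by norm_num) (by rw [hn] <;> decide) (by rw [hn] <;> decide)).elim
  · exact (kb 47 1 105 (by norm_num) (by rw [hn] <;> decide) (by norm_num) (by norm_num) (by norm_num) (by decide)).elim
  · exact (two_prime_kill hG 2 617 3 1 (by norm_num) (by norm_num) (by rw [hn] <;> decide) (by rw [hn] <;> decide)).elim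
  · exact (two_prime_kill hG 4937 4937 0 1 (by norm_num) (by norm_num) (by rw [hn] <;> decide) (by rw [hn] <;> decide)).elim
  · exact (kb 823 1 6 (by norm_num) (by rw [hn] <;> decide) (by norm_num) (by norm_num) (by norm_num) (by decide)).elim
  · exact (two_prime_kill hG 11 449 1 1 (by norm_num) (by norm_num) (by rw [hn] <;> decide) (by rw [hn] <;> decide)).elim
  · exact (kb 19 1 260 (by norm_num) (by rw [hn] <;> decide) (by norm_num) (by norm_num) (by norm_num) (by decide)).elim
  · exact (two_prime_kill hG 3 61 4 1 (by norm_num) (by norm_num) (by rw [hn] <;> decide) (by rw [hn] <;> decide)).elim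
  · exact (kb 353 1 14 (by norm_num) (by rw [hn] <;> decide) (by norm_num) (by norm_num) (by norm_num) (by decide)).elim
  · exact (two_prime_kill hG 4943 4943 0 1 (by norm_num) (by norm_num) (by rw [hn] <;> decide) (by rw [hn] <;> decide)).elim
  · exact (kb 103 1 48 (by norm_num) (by rw [hn] <;> decide) (by norm_num) (by norm_num) (by norm_num) (by decide)).elim
  · exact (kb 43 1 115 (by norm_num) (by rw [hn] <;> decide) (by norm_num) (by norm_num) (by norm_num) (by decide)).elim
  · exact (two_prime_kill hG 2 2473 1 1 (by norm_num) (by norm_num) (by rw [hn] <;> decide) (by rw [hn] <;> decide)).elim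
  · exact (kb 97 1 51 (by norm_num) (by rw [hn] <;> decide) (by norm_num) (by norm_num) (by norm_num) (by decide)).elim
  · exact (two_prime_kill hG 2 1237 2 1 (by norm_num) (by norm_num) (by rw [hn] <;> decide) (by rw [hn] <;> decide)).elim
  · exact (two_prime_kill hG 7 101 2 1 (by norm_num) (by norm_num) (by rw [hn] <;> decide) (by rw [hn] <;> decide)).elim
  · exact (kb 2 1 2475 (by norm_num) (by rw [hn] <;> decide) (by norm_num) (by norm_num) (by norm_num) (by decide)).elim
  · exact (two_prime_kill hG 4951 4951 0 1 (by norm_num) (by norm_num) (by rw [hn] <;> decide) (by rw [hn] <;> decide)).elim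
  · exact (two_prime_kill hG 2 619 3 1 (by norm_num) (by norm_num) (by rw [hn] <;> decide) (by rw [hn] <;> decide)).elim
  · exact (kb 127 1 39 (by norm_num) (by rw [hn] <;> decide) (by norm_num) (by norm_num) (by norm_num) (by decide)).elim
  · exact (two_prime_kill hG 2 2477 1 1 (by norm_num) (by norm_num) (by rw [hn] <;> decide) (by rw [hn] <;> decide)).elim
  · exact (two_prime_kill hG 5 991 1 1 (by norm_num) (by norm_num) (by rw [hn] <;> decide) (by rw [hn] <;> decide)).elim
  · exact (kb 59 1 84 (by norm_num) (by rw [hn] <;> decide) (by norm_num) (by norm_num) (by norm_num) (by decide)).elim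
  · exact (two_prime_kill hG 4957 4957 0 1 (by norm_num) (by norm_num) (by rw [hn] <;> decide) (by rw [hn] <;> decide)).elim
  · exact (kb 67 1 74 (by norm_num) (by rw [hn] <;> decide) (by norm_num) (by norm_num) (by norm_num) (by decide)).elim
  · exact (kb 29 1 171 (by norm_num) (by rw [hn] <;> decide) (by norm_num) (by norm_num) (by norm_num) (by decide)).elim
  · exact (hhard (by rw [hn]; decide)).elim
  · exact (two_prime_kill hG 11 41 2 1 (by norm_num) (by norm_num) (by rw [hn] <;> decide) (by rw [hn] <;> decide)).elim
  · exact (kb 827 1 6 (by norm_num) (by rw [hn] <;> decide) (by norm_num) (by norm_num) (by norm_num) (by decide)).elim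
  · exact (two_prime_kill hG 7 709 1 1 (by norm_num) (by norm_num) (by rw [hn] <;> decide) (by rw [hn] <;> decide)).elim
  · exact (kb 73 1 68 (by norm_num) (by rw [hn] <;> decide) (by norm_num) (by norm_num) (by norm_num) (by decide)).elim
  · exact (kb 331 1 15 (by norm_num) (by rw [hn] <;> decide) (by norm_num) (by norm_num) (by norm_num) (by decide)).elim
  · exact (kb 191 1 26 (by norm_num) (by rw [hn] <;> decide) (by norm_num) (by norm_num) (by norm_num) (by decide)).elim
  · exact (two_prime_kill hG 4967 4967 0 1 (by norm_num) (by norm_num) (by rw [hn] <;> decide) (by rw [hn] <;> decide)).elim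
  · exact (kb 23 1 216 (by norm_num) (by rw [hn] <;> decide) (by norm_num) (by norm_num) (by norm_num) (by decide)).elim
  · exact (two_prime_kill hG 4969 4969 0 1 (by norm_num) (by norm_num) (by rw [hn] <;> decide) (by rw [hn] <;> decide)).elim
  · exact (kb 71 1 70 (by norm_num) (by rw [hn] <;> decide) (by norm_num) (by norm_num) (by norm_num) (by decide)).elim
  · exact (two_prime_kill hG 3 1657 1 1 (by norm_num) (by norm_num) (by rw [hn] <;> decide) (by rw [hn] <;> decide)).elim
  · exact (kb 113 1 44 (by norm_num) (by rw [hn] <;> decide) (by norm_num) (by norm_num) (by norm_num) (by decide)).elim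
  · exact (two_prime_kill hG 4973 4973 0 1 (by norm_num) (by norm_num) (by rw [hn] <;> decide) (by rw [hn] <;> decide)).elim
  · exact (kb 829 1 6 (by norm_num) (by rw [hn] <;> decide) (by norm_num) (by norm_num) (by norm_num) (by decide)).elim
  · exact (two_prime_kill hG 5 199 2 1 (by norm_num) (by norm_num) (by rw [hn] <;> decide) (by rw [hn] <;> decide)).elim
  · exact (two_prime_kill hG 2 311 4 1 (by norm_num) (by norm_num) (by rw [hn] <;> decide) (by rw [hn] <;> decide)).elim
  · exact (kb 79 1 63 (by norm_num) (by rw [hn] <;> decide) (by norm_num) (by norm_num) (by norm_num) (by decide)).elim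
  · exact (kb 131 1 38 (by norm_num) (by rw [hn] <;> decide) (by norm_num) (by norm_num) (by norm_num) (by decide)).elim
  · exact (two_prime_kill hG 13 383 1 1 (by norm_num) (by norm_num) (by rw [hn] <;> decide) (by rw [hn] <;> decide)).elim
  · exact (kb 83 1 60 (by norm_num) (by rw [hn] <;> decide) (by norm_num) (by norm_num) (by norm_num) (by decide)).elim
  · exact (two_prime_kill hG 17 293 1 1 (by norm_num) (by norm_num) (by rw [hn] <;> decide) (by rw [hn] <;> decide)).elim
  · exact (kb 53 1 94 (by norm_num) (by rw [hn] <;> decide) (by norm_num) (by norm_num) (by norm_num) (by decide)).elim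
  · exact (kb 151 1 33 (by norm_num) (by rw [hn] <;> decide) (by norm_num) (by norm_num) (by norm_num) (by decide)).elim
  · exact (kb 89 1 56 (by norm_num) (by rw [hn] <;> decide) (by norm_num) (by norm_num) (by norm_num) (by decide)).elim
  · exact (two_prime_kill hG 5 997 1 1 (by norm_num) (by norm_num) (by rw [hn] <;> decide) (by rw [hn] <;> decide)).elim
  · exact (kb 277 1 18 (by norm_num) (by rw [hn] <;> decide) (by norm_num) (by norm_num) (by norm_num) (by decide)).elim
  · exact (two_prime_kill hG 4987 4987 0 1 (by norm_num) (by norm_num) (by rw [hn] <;> decide) (by rw [hn] <;> decide)).elim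
  · exact (kb 43 1 116 (by norm_num) (by rw [hn] <;> decide) (by norm_num) (by norm_num) (by norm_num) (by decide)).elim
  · exact (two_prime_kill hG 3 1663 1 1 (by norm_num) (by norm_num) (by rw [hn] <;> decide) (by rw [hn] <;> decide)).elim
  · exact (kb 499 1 10 (by norm_num) (by rw [hn] <;> decide) (by norm_num) (by norm_num) (by norm_num) (by decide)).elim
  · exact (kb 31 1 161 (by norm_num) (by rw [hn] <;> decide) (by norm_num) (by norm_num) (by norm_num) (by decide)).elim
  · exact (kb 13 1 384 (by norm_num) (by rw [hn] <;> decide) (by norm_num) (by norm_num) (by norm_num) (by decide)).elim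
  · exact (two_prime_kill hG 4993 4993 0 1 (by norm_num) (by norm_num) (by rw [hn] <;> decide) (by rw [hn] <;> decide)).elim
  · exact (kb 227 1 22 (by norm_num) (by rw [hn] <;> decide) (by norm_num) (by norm_num) (by norm_num) (by decide)).elim
  · exact (kb 37 1 135 (by norm_num) (by rw [hn] <;> decide) (by norm_num) (by norm_num) (by norm_num) (by decide)).elim
  · exact (two_prime_kill hG 2 1249 2 1 (by norm_num) (by norm_num) (by rw [hn] <;> decide) (by rw [hn] <;> decide)).elim
  · exact (two_prime_kill hG 19 263 1 1 (by norm_num) (by norm_num) (by rw [hn] <;> decide) (by rw [hn] <;> decide)).elim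
  · exact (kb 7 2 102 (by norm_num) (by rw [hn] <;> decide) (by norm_num) (by norm_num) (by norm_num) (by decide)).elim
  · exact (two_prime_kill hG 4999 4999 0 1 (by norm_num) (by norm_num) (by rw [hn] <;> decide) (by rw [hn] <;> decide)).elim
  · exact (two_prime_kill hG 2 5 3 4 (by norm_num) (by norm_num) (by rw [hn] <;> decide) (by rw [hn] <;> decide)).elim
  · exact (two_prime_kill hG 3 1667 1 1 (by norm_num) (by norm_num) (by rw [hn] <;> decide) (by rw [hn] <;> decide)).elim
  · exact (kb 61 1 82 (by norm_num) (by rw [hn] <;> decide) (by norm_num) (by norm_num) (by norm_num) (by decide)).elim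
  · exact (two_prime_kill hG 5003 5003 0 1 (by norm_num) (by norm_num) (by rw [hn] <;> decide) (by rw [hn] <;> decide)).elim
  · exact (kb 139 1 36 (by norm_num) (by rw [hn] <;> decide) (by norm_num) (by norm_num) (by norm_num) (by decide)).elim
  · exact (kb 13 1 385 (by norm_num) (by rw [hn] <;> decide) (by norm_num) (by norm_num) (by norm_num) (by decide)).elim
  · exact (two_prime_kill hG 2 2503 1 1 (by norm_num) (by norm_num) (by rw [hn] <;> decide) (by rw [hn] <;> decide)).elim
  · exact (two_prime_kill hG 3 1669 1 1 (by norm_num) (by norm_num) (by rw [hn] <;> decide) (by rw [hn] <;> decide)).elim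
  · exact (two_prime_kill hG 2 313 4 1 (by norm_num) (by norm_num) (by rw [hn] <;> decide) (by rw [hn] <;> decide)).elim
  · exact (two_prime_kill hG 5009 5009 0 1 (by norm_num) (by norm_num) (by rw [hn] <;> decide) (by rw [hn] <;> decide)).elim
  · exact (kb 167 1 30 (by norm_num) (by rw [hn] <;> decide) (by norm_num) (by norm_num) (by norm_num) (by decide)).elim
  · exact (two_prime_kill hG 5011 5011 0 1 (by norm_num) (by norm_num) (by rw [hn] <;> decide) (by rw [hn] <;> decide)).elim
  · exact (kb 179 1 28 (by norm_num) (by rw [hn] <;> decide) (by norm_num) (by norm_num) (by norm_num) (by decide)).elim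
  · exact (two_prime_kill hG 3 557 2 1 (by norm_num) (by norm_num) (by rw [hn] <;> decide) (by rw [hn] <;> decide)).elim
  · exact (kb 109 1 46 (by norm_num) (by rw [hn] <;> decide) (by norm_num) (by norm_num) (by norm_num) (by decide)).elim
  · exact (kb 59 1 85 (by norm_num) (by rw [hn] <;> decide) (by norm_num) (by norm_num) (by norm_num) (by decide)).elim
  · exact (kb 19 1 264 (by norm_num) (by rw [hn] <;> decide) (by norm_num) (by norm_num) (by norm_num) (by decide)).elim
  · exact (two_prime_kill hG 29 173 1 1 (by norm_num) (by norm_num) (by rw [hn] <;> decide) (by rw [hn] <;> decide)).elim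
  · exact (kb 193 1 26 (by norm_num) (by rw [hn] <;> decide) (by norm_num) (by norm_num) (by norm_num) (by decide)).elim
  · exact (kb 239 1 21 (by norm_num) (by rw [hn] <;> decide) (by norm_num) (by norm_num) (by norm_num) (by decide)).elim
  · exact (kb 251 1 20 (by norm_num) (by rw [hn] <;> decide) (by norm_num) (by norm_num) (by norm_num) (by decide)).elim
  · exact (two_prime_kill hG 5021 5021 0 1 (by norm_num) (by norm_num) (by rw [hn] <;> decide) (by rw [hn] <;> decide)).elim
  · exact (kb 31 1 162 (by norm_num) (by rw [hn] <;> decide) (by norm_num) (by norm_num) (by norm_num) (by decide)).elim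
  · exact (two_prime_kill hG 5023 5023 0 1 (by norm_num) (by norm_num) (by rw [hn] <;> decide) (by rw [hn] <;> decide)).elim
  · exact (two_prime_kill hG 2 157 5 1 (by norm_num) (by norm_num) (by rw [hn] <;> decide) (by rw [hn] <;> decide)).elim
  · exact (kb 67 1 75 (by norm_num) (by rw [hn] <;> decide) (by norm_num) (by norm_num) (by norm_num) (by decide)).elim
  · exact (kb 359 1 14 (by norm_num) (by rw [hn] <;> decide) (by norm_num) (by norm_num) (by norm_num) (by decide)).elim
  · exact (two_prime_kill hG 11 457 1 1 (by norm_num) (by norm_num) (by rw [hn] <;> decide) (by rw [hn] <;> decide)).elim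
  · exact (kb 419 1 12 (by norm_num) (by rw [hn] <;> decide) (by norm_num) (by norm_num) (by norm_num) (by decide)).elim
  · exact (two_prime_kill hG 47 107 1 1 (by norm_num) (by norm_num) (by rw [hn] <;> decide) (by rw [hn] <;> decide)).elim
  · exact (kb 503 1 10 (by norm_num) (by rw [hn] <;> decide) (by norm_num) (by norm_num) (by norm_num) (by decide)).elim
  · exact (kb 43 1 117 (by norm_num) (by rw [hn] <;> decide) (by norm_num) (by norm_num) (by norm_num) (by decide)).elim
  · exact (kb 37 1 136 (by norm_num) (by rw [hn] <;> decide) (by norm_num) (by norm_num) (by norm_num) (by decide)).elim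
  · exact (two_prime_kill hG 7 719 1 1 (by norm_num) (by norm_num) (by rw [hn] <;> decide) (by rw [hn] <;> decide)).elim
  · exact (kb 839 1 6 (by norm_num) (by rw [hn] <;> decide) (by norm_num) (by norm_num) (by norm_num) (by decide)).elim
  · exact (kb 53 1 95 (by norm_num) (by rw [hn] <;> decide) (by norm_num) (by norm_num) (by norm_num) (by decide)).elim
  · exact (two_prime_kill hG 2 1259 2 1 (by norm_num) (by norm_num) (by rw [hn] <;> decide) (by rw [hn] <;> decide)).elim
  · exact (kb 73 1 69 (by norm_num) (by rw [hn] <;> decide) (by norm_num) (by norm_num) (by norm_num) (by decide)).elim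
  · exact (kb 229 1 22 (by norm_num) (by rw [hn] <;> decide) (by norm_num) (by norm_num) (by norm_num) (by decide)).elim
  · exact (two_prime_kill hG 5039 5039 0 1 (by norm_num) (by norm_num) (by rw [hn] <;> decide) (by rw [hn] <;> decide)).elim
  · exact (hhard (by rw [hn]; decide)).elim
  · exact (two_prime_kill hG 71 71 0 2 (by norm_num) (by norm_num) (by rw [hn] <;> decide) (by rw [hn] <;> decide)).elim
  · exact (two_prime_kill hG 2 2521 1 1 (by norm_num) (by norm_num) (by rw [hn] <;> decide) (by rw [hn] <;> decide)).elim
  · exact (two_prime_kill hG 3 41 1 2 (by norm_num) (by norm_num) (by rw [hn] <;> decide) (by rw [hn] <;> decide)).elim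
  · exact (kb 97 1 52 (by norm_num) (by rw [hn] <;> decide) (by norm_num) (by norm_num) (by norm_num) (by decide)).elim
  · exact (two_prime_kill hG 5 1009 1 1 (by norm_num) (by norm_num) (by rw [hn] <;> decide) (by rw [hn] <;> decide)).elim
  · exact (kb 29 2 6 (by norm_num) (by rw [hn] <;> decide) (by norm_num) (by norm_num) (by norm_num) (by decide)).elim
  · exact (two_prime_kill hG 7 103 2 1 (by norm_num) (by norm_num) (by rw [hn] <;> decide) (by rw [hn] <;> decide)).elim
  · exact (two_prime_kill hG 2 631 3 1 (by norm_num) (by norm_num) (by rw [hn] <;> decide) (by rw [hn] <;> decide)).elim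
  · exact (kb 17 1 297 (by norm_num) (by rw [hn] <;> decide) (by norm_num) (by norm_num) (by norm_num) (by decide)).elim
  · exact (kb 101 1 50 (by norm_num) (by rw [hn] <;> decide) (by norm_num) (by norm_num) (by norm_num) (by decide)).elim
  · exact (two_prime_kill hG 5051 5051 0 1 (by norm_num) (by norm_num) (by rw [hn] <;> decide) (by rw [hn] <;> decide)).elim
  · exact (kb 421 1 12 (by norm_num) (by rw [hn] <;> decide) (by norm_num) (by norm_num) (by norm_num) (by decide)).elim
  · exact (two_prime_kill hG 31 163 1 1 (by norm_num) (by norm_num) (by rw [hn] <;> decide) (by rw [hn] <;> decide)).elim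
  · exact (kb 19 2 14 (by norm_num) (by rw [hn] <;> decide) (by norm_num) (by norm_num) (by norm_num) (by decide)).elim
  · exact (kb 337 1 15 (by norm_num) (by rw [hn] <;> decide) (by norm_num) (by norm_num) (by norm_num) (by decide)).elim
  · exact (two_prime_kill hG 2 79 6 1 (by norm_num) (by norm_num) (by rw [hn] <;> decide) (by rw [hn] <;> decide)).elim
  · exact (two_prime_kill hG 13 389 1 1 (by norm_num) (by norm_num) (by rw [hn] <;> decide) (by rw [hn] <;> decide)).elim
  · exact (kb 281 1 18 (by norm_num) (by rw [hn] <;> decide) (by norm_num) (by norm_num) (by norm_num) (by decide)).elim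
  · exact (two_prime_kill hG 5059 5059 0 1 (by norm_num) (by norm_num) (by rw [hn] <;> decide) (by rw [hn] <;> decide)).elim
  · exact (kb 23 1 220 (by norm_num) (by rw [hn] <;> decide) (by norm_num) (by norm_num) (by norm_num) (by decide)).elim
  · exact (kb 241 1 21 (by norm_num) (by rw [hn] <;> decide) (by norm_num) (by norm_num) (by norm_num) (by decide)).elim
  · exact (two_prime_kill hG 2 2531 1 1 (by norm_num) (by norm_num) (by rw [hn] <;> decide) (by rw [hn] <;> decide)).elim
  · exact (two_prime_kill hG 61 83 1 1 (by norm_num) (by norm_num) (by rw [hn] <;> decide) (by rw [hn] <;> decide)).elim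
  · exact (kb 211 1 24 (by norm_num) (by rw [hn] <;> decide) (by norm_num) (by norm_num) (by norm_num) (by decide)).elim
  · exact (two_prime_kill hG 5 1013 1 1 (by norm_num) (by norm_num) (by rw [hn] <;> decide) (by rw [hn] <;> decide)).elim
  · exact (kb 149 1 34 (by norm_num) (by rw [hn] <;> decide) (by norm_num) (by norm_num) (by norm_num) (by decide)).elim
  · exact (two_prime_kill hG 3 563 2 1 (by norm_num) (by norm_num) (by rw [hn] <;> decide) (by rw [hn] <;> decide)).elim
  · exact (kb 181 1 28 (by norm_num) (by rw [hn] <;> decide) (by norm_num) (by norm_num) (by norm_num) (by decide)).elim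
  · exact (two_prime_kill hG 37 137 1 1 (by norm_num) (by norm_num) (by rw [hn] <;> decide) (by rw [hn] <;> decide)).elim
  · exact (kb 13 2 30 (by norm_num) (by rw [hn] <;> decide) (by norm_num) (by norm_num) (by norm_num) (by decide)).elim
  · exact (two_prime_kill hG 11 461 1 1 (by norm_num) (by norm_num) (by rw [hn] <;> decide) (by rw [hn] <;> decide)).elim
  · exact (two_prime_kill hG 2 317 4 1 (by norm_num) (by norm_num) (by rw [hn] <;> decide) (by rw [hn] <;> decide)).elim
  · exact (kb 89 1 57 (by norm_num) (by rw [hn] <;> decide) (by norm_num) (by norm_num) (by norm_num) (by decide)).elim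
  · exact (kb 59 1 86 (by norm_num) (by rw [hn] <;> decide) (by norm_num) (by norm_num) (by norm_num) (by decide)).elim
  · exact (kb 29 1 175 (by norm_num) (by rw [hn] <;> decide) (by norm_num) (by norm_num) (by norm_num) (by decide)).elim
  · exact (kb 47 1 108 (by norm_num) (by rw [hn] <;> decide) (by norm_num) (by norm_num) (by norm_num) (by decide)).elim
  · exact (two_prime_kill hG 5077 5077 0 1 (by norm_num) (by norm_num) (by rw [hn] <;> decide) (by rw [hn] <;> decide)).elim
  · exact (two_prime_kill hG 2 2539 1 1 (by norm_num) (by norm_num) (by rw [hn] <;> decide) (by rw [hn] <;> decide)).elim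
  · exact (two_prime_kill hG 3 1693 1 1 (by norm_num) (by norm_num) (by rw [hn] <;> decide) (by rw [hn] <;> decide)).elim
  · exact (kb 127 1 40 (by norm_num) (by rw [hn] <;> decide) (by norm_num) (by norm_num) (by norm_num) (by decide)).elim
  · exact (two_prime_kill hG 5081 5081 0 1 (by norm_num) (by norm_num) (by rw [hn] <;> decide) (by rw [hn] <;> decide)).elim
  · exact (kb 11 2 42 (by norm_num) (by rw [hn] <;> decide) (by norm_num) (by norm_num) (by norm_num) (by decide)).elim
  · exact (kb 23 1 221 (by norm_num) (by rw [hn] <;> decide) (by norm_num) (by norm_num) (by norm_num) (by decide)).elim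
  · exact (kb 41 1 124 (by norm_num) (by rw [hn] <;> decide) (by norm_num) (by norm_num) (by norm_num) (by decide)).elim
  · exact (kb 113 1 45 (by norm_num) (by rw [hn] <;> decide) (by norm_num) (by norm_num) (by norm_num) (by decide)).elim
  · exact (two_prime_kill hG 2 2543 1 1 (by norm_num) (by norm_num) (by rw [hn] <;> decide) (by rw [hn] <;> decide)).elim
  · exact (two_prime_kill hG 5087 5087 0 1 (by norm_num) (by norm_num) (by rw [hn] <;> decide) (by rw [hn] <;> decide)).elim
  · exact (kb 53 1 96 (by norm_num) (by rw [hn] <;> decide) (by norm_num) (by norm_num) (by norm_num) (by decide)).elim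
  · exact (two_prime_kill hG 7 727 1 1 (by norm_num) (by norm_num) (by rw [hn] <;> decide) (by rw [hn] <;> decide)).elim
  · exact (kb 509 1 10 (by norm_num) (by rw [hn] <;> decide) (by norm_num) (by norm_num) (by norm_num) (by decide)).elim
  · exact (two_prime_kill hG 3 1697 1 1 (by norm_num) (by norm_num) (by rw [hn] <;> decide) (by rw [hn] <;> decide)).elim
  · exact (kb 67 1 76 (by norm_num) (by rw [hn] <;> decide) (by norm_num) (by norm_num) (by norm_num) (by decide)).elim
  · exact (two_prime_kill hG 11 463 1 1 (by norm_num) (by norm_num) (by rw [hn] <;> decide) (by rw [hn] <;> decide)).elim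
  · exact (kb 283 1 18 (by norm_num) (by rw [hn] <;> decide) (by norm_num) (by norm_num) (by norm_num) (by decide)).elim
  · exact (two_prime_kill hG 5 1019 1 1 (by norm_num) (by norm_num) (by rw [hn] <;> decide) (by rw [hn] <;> decide)).elim
  · exact (kb 7 2 104 (by norm_num) (by rw [hn] <;> decide) (by norm_num) (by norm_num) (by norm_num) (by decide)).elim
  · exact (two_prime_kill hG 3 1699 1 1 (by norm_num) (by norm_num) (by rw [hn] <;> decide) (by rw [hn] <;> decide)).elim
  · exact (two_prime_kill hG 2 2549 1 1 (by norm_num) (by norm_num) (by rw [hn] <;> decide) (by rw [hn] <;> decide)).elim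
  · exact (two_prime_kill hG 5099 5099 0 1 (by norm_num) (by norm_num) (by rw [hn] <;> decide) (by rw [hn] <;> decide)).elim
  · exact (kb 17 1 300 (by norm_num) (by rw [hn] <;> decide) (by norm_num) (by norm_num) (by norm_num) (by decide)).elim
  · exact (two_prime_kill hG 5101 5101 0 1 (by norm_num) (by norm_num) (by rw [hn] <;> decide) (by rw [hn] <;> decide)).elim
  · exact (two_prime_kill hG 2 2551 1 1 (by norm_num) (by norm_num) (by rw [hn] <;> decide) (by rw [hn] <;> decide)).elim
  · exact (two_prime_kill hG 3 7 6 1 (by norm_num) (by norm_num) (by rw [hn] <;> decide) (by rw [hn] <;> decide)).elim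
  · exact (hhard (by rw [hn]; decide)).elim
  · exact (two_prime_kill hG 5 1021 1 1 (by norm_num) (by norm_num) (by rw [hn] <;> decide) (by rw [hn] <;> decide)).elim
  · exact (kb 37 1 138 (by norm_num) (by rw [hn] <;> decide) (by norm_num) (by norm_num) (by norm_num) (by decide)).elim
  · exact (two_prime_kill hG 5107 5107 0 1 (by norm_num) (by norm_num) (by rw [hn] <;> decide) (by rw [hn] <;> decide)).elim
  · exact (two_prime_kill hG 2 1277 2 1 (by norm_num) (by norm_num) (by rw [hn] <;> decide) (by rw [hn] <;> decide)).elim
  · exact (kb 131 1 39 (by norm_num) (by rw [hn] <;> decide) (by norm_num) (by norm_num) (by norm_num) (by decide)).elim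
  · exact (kb 73 1 70 (by norm_num) (by rw [hn] <;> decide) (by norm_num) (by norm_num) (by norm_num) (by decide)).elim
  · exact (two_prime_kill hG 19 269 1 1 (by norm_num) (by norm_num) (by rw [hn] <;> decide) (by rw [hn] <;> decide)).elim
  · exact (kb 71 1 72 (by norm_num) (by rw [hn] <;> decide) (by norm_num) (by norm_num) (by norm_num) (by decide)).elim
  · exact (two_prime_kill hG 5113 5113 0 1 (by norm_num) (by norm_num) (by rw [hn] <;> decide) (by rw [hn] <;> decide)).elim
  · exact (two_prime_kill hG 2 2557 1 1 (by norm_num) (by norm_num) (by rw [hn] <;> decide) (by rw [hn] <;> decide)).elim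
  · exact (kb 31 1 165 (by norm_num) (by rw [hn] <;> decide) (by norm_num) (by norm_num) (by norm_num) (by decide)).elim
  · exact (two_prime_kill hG 2 1279 2 1 (by norm_num) (by norm_num) (by rw [hn] <;> decide) (by rw [hn] <;> decide)).elim
  · exact (kb 43 1 119 (by norm_num) (by rw [hn] <;> decide) (by norm_num) (by norm_num) (by norm_num) (by decide)).elim
  · exact (kb 853 1 6 (by norm_num) (by rw [hn] <;> decide) (by norm_num) (by norm_num) (by norm_num) (by decide)).elim
  · exact (two_prime_kill hG 5119 5119 0 1 (by norm_num) (by norm_num) (by rw [hn] <;> decide) (by rw [hn] <;> decide)).elim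
  · exact (two_prime_kill hG 2 5 10 1 (by norm_num) (by norm_num) (by rw [hn] <;> decide) (by rw [hn] <;> decide)).elim
  · exact (two_prime_kill hG 3 569 2 1 (by norm_num) (by norm_num) (by rw [hn] <;> decide) (by rw [hn] <;> decide)).elim
  · exact (kb 197 1 26 (by norm_num) (by rw [hn] <;> decide) (by norm_num) (by norm_num) (by norm_num) (by decide)).elim
  · exact (two_prime_kill hG 47 109 1 1 (by norm_num) (by norm_num) (by rw [hn] <;> decide) (by rw [hn] <;> decide)).elim
  · exact (kb 61 1 84 (by norm_num) (by rw [hn] <;> decide) (by norm_num) (by norm_num) (by norm_num) (by decide)).elim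
  · exact (two_prime_kill hG 5 41 3 1 (by norm_num) (by norm_num) (by rw [hn] <;> decide) (by rw [hn] <;> decide)).elim
  · exact (kb 233 1 22 (by norm_num) (by rw [hn] <;> decide) (by norm_num) (by norm_num) (by norm_num) (by decide)).elim
  · exact (two_prime_kill hG 3 1709 1 1 (by norm_num) (by norm_num) (by rw [hn] <;> decide) (by rw [hn] <;> decide)).elim
  · exact (two_prime_kill hG 2 641 3 1 (by norm_num) (by norm_num) (by rw [hn] <;> decide) (by rw [hn] <;> decide)).elim
  · exact (two_prime_kill hG 23 223 1 1 (by norm_num) (by norm_num) (by rw [hn] <;> decide) (by rw [hn] <;> decide)).elim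
  · exact (kb 19 1 270 (by norm_num) (by rw [hn] <;> decide) (by norm_num) (by norm_num) (by norm_num) (by decide)).elim
  · exact (two_prime_kill hG 7 733 1 1 (by norm_num) (by norm_num) (by rw [hn] <;> decide) (by rw [hn] <;> decide)).elim
  · exact (two_prime_kill hG 2 1283 2 1 (by norm_num) (by norm_num) (by rw [hn] <;> decide) (by rw [hn] <;> decide)).elim
  · exact (kb 59 1 87 (by norm_num) (by rw [hn] <;> decide) (by norm_num) (by norm_num) (by norm_num) (by decide)).elim
  · exact (kb 151 1 34 (by norm_num) (by rw [hn] <;> decide) (by norm_num) (by norm_num) (by norm_num) (by decide)).elim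
  · exact (kb 79 1 65 (by norm_num) (by rw [hn] <;> decide) (by norm_num) (by norm_num) (by norm_num) (by decide)).elim
  · exact (kb 107 1 48 (by norm_num) (by rw [hn] <;> decide) (by norm_num) (by norm_num) (by norm_num) (by decide)).elim
  · exact (two_prime_kill hG 11 467 1 1 (by norm_num) (by norm_num) (by rw [hn] <;> decide) (by rw [hn] <;> decide)).elim
  · exact (kb 367 1 14 (by norm_num) (by rw [hn] <;> decide) (by norm_num) (by norm_num) (by norm_num) (by decide)).elim
  · exact (two_prime_kill hG 3 571 2 1 (by norm_num) (by norm_num) (by rw [hn] <;> decide) (by rw [hn] <;> decide)).elim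
  · exact (kb 257 1 20 (by norm_num) (by rw [hn] <;> decide) (by norm_num) (by norm_num) (by norm_num) (by decide)).elim

end

end Cfsg.Agent.Lib.Helper7.Ord2

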