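import Mathlib
import Cfsg.Agent.Lib.Helper7.Ord2T1
import Cfsg.Agent.Lib.Helper7.Ord2T2
import Cfsg.Agent.Lib.Helper7.Ord2T3
import Cfsg.Agent.Lib.Helper7.Ord2T4
import Cfsg.Agent.Lib.Helper7.Ord2T5
import Cfsg.Agent.Lib.Helper7.Ord2T6
import Cfsg.Agent.Lib.Helper7.Ord2T7
import Cfsg.Agent.Lib.Helper7.Ord2T8
import Cfsg.Agent.Lib.Helper7.Ord2T9

/-! The orders of the non-abelian simple groups in `(3640, 6232]`, modulo the 23 orders of
`Ord2.Hard` (taken as one hypothesis here; helper7, for S0983). -/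

set_option autoImplicit false

namespace Cfsg.Agent.Lib.Helper7.Ord2

section
variable {G : Type*} [Group G] [Finite G] [IsSimpleGroup G]

theorem orders_all2 (hG : ¬ IsMulCommutative G) (hhard : Nat.card G ∈ Hard → False)
    (h1 : 3640 < Nat.card G) (h2 : Nat.card G ≤ 6232) :
    Nat.card G = 4080 ∨ Nat.card G = 5616 ∨ Nat.card G = 6048 ∨ Nat.card G = 6072 := by
  by_cases c1 : Nat.card G ≤ 3940
  · exact orders2_1 hG hhard (by omega) c1
  by_cases c2 : Nat.card G ≤ 4240
  · exact orders2_2 hG hhard (by omega) c2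
  by_cases c3 : Nat.card G ≤ 4540
  · exact orders2_3 hG hhard (by omega) c3
  by_cases c4 : Nat.card G ≤ 4840
  · exact orders2_4 hG hhard (by omega) c4
  by_cases c5 : Nat.card G ≤ 5140
  · exact orders2_5 hG hhard (by omega) c5
  by_cases c6 : Nat.card G ≤ 5440
  · exact orders2_6 hG hhard (by omega) c6
  by_cases c7 : Nat.card G ≤ 5740
  · exact orders2_7 hG hhard (by omega) c7
  by_cases c8 : Nat.card G ≤ 6040
  · exact orders2_8 hG hhard (by omega) c8
  · exact orders2_9 hG hhard (by omega) h2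

/-- The same with one hypothesis per hard order. -/
theorem orders_all2' (hG : ¬ IsMulCommutative G)
    (h : ∀ n ∈ Hard, Nat.card G ≠ n)
    (h1 : 3640 < Nat.card G) (h2 : Nat.card G ≤ 6232) :
    Nat.card G = 4080 ∨ Nat.card G = 5616 ∨ Nat.card G = 6048 ∨ Nat.card G = 6072 :=
  orders_all2 hG (fun hm => h _ hm rfl) h1 h2

end

end Cfsg.Agent.Lib.Helper7.Ord2
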