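import Mathlib
import Cfsg.Agent.Lib.Helper7.Ord2B

/-! The orders 4760, 5104, 5600 and 5724 are not orders of simple groups: a Sylow subgroup of
prime order has a dihedral normalizer, and no character degree fits (helper7, for S0983). -/

set_option autoImplicit false
set_option maxRecDepth 100000

namespace Cfsg.Agent.Lib.Helper7.Ord2

open Cfsg.Agent.Lib.Helper7.Ord

theorem arith_4760 : ∀ d ∈ Finset.range (5 * 952 + 1), d ∣ 5 * 952 → 1 < d →
    ¬ (d % 5 = 1 ∧ (d + 1) ∣ 5 * 952) ∧ ¬ (d % 5 = 5 - 1 ∧ (d - 1) ∣ 5 * 952) := by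
  decide +kernel

theorem arith_5104 : ∀ d ∈ Finset.range (29 * 176 + 1), d ∣ 29 * 176 → 1 < d →
    ¬ (d % 29 = 1 ∧ (d + 1) ∣ 29 * 176) ∧ ¬ (d % 29 = 29 - 1 ∧ (d - 1) ∣ 29 * 176) := by
  decide +kernel

theorem arith_5600 : ∀ d ∈ Finset.range (7 * 800 + 1), d ∣ 7 * 800 → 1 < d →
    ¬ (d % 7 = 1 ∧ (d + 1) ∣ 7 * 800) ∧ ¬ (d % 7 = 7 - 1 ∧ (d - 1) ∣ 7 * 800) := by
  decide +kernel

theorem arith_5724 : ∀ d ∈ Finset.range (53 * 108 + 1), d ∣ 53 * 108 → 1 < d →
    ¬ (d % 53 = 1 ∧ (d + 1) ∣ 53 * 108) ∧ ¬ (d % 53 = 53 - 1 ∧ (d - 1) ∣ 53 * 108) := by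
  decide +kernel

section
variable {G : Type*} [Group G] [Finite G] [IsSimpleGroup G]

/-- `4760 = 2³·5·7·17`: `n₅ = 476`, `|N(P₅)| = 10`. -/
theorem no_simple_4760 (hn : Nat.card G = 4760) : False :=
  dihedral_kill 5 952 476 (by norm_num) (by norm_num) (by rw [hn]; norm_num) (by norm_num) (by norm_num)
    (by norm_num) (by norm_num) (by decide) arith_4760

/-- `5104 = 2⁴·11·29`: `n₂₉ = 88`, `|N(P₂₉)| = 58`. -/
theorem no_simple_5104 (hn : Nat.card G = 5104) : False :=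
  dihedral_kill 29 176 88 (by norm_num) (by norm_num) (by rw [hn]; norm_num) (by norm_num) (by norm_num)
    (by norm_num) (by norm_num) (by decide) arith_5104

/-- `5600 = 2⁵·5²·7`: `n₇ = 400`, `|N(P₇)| = 14`. -/
theorem no_simple_5600 (hn : Nat.card G = 5600) : False :=
  dihedral_kill' 2 5 5 2 7 800 400 (by norm_num) (by norm_num) (by norm_num) (by norm_num)
    (by norm_num) (by norm_num) (by norm_num) (by norm_num) (by rw [hn]; norm_num) (by norm_num)
    (by norm_num) (by norm_num) (by norm_num) (by decide) arith_5600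

/-- `5724 = 2²·3³·53`: `n₅₃ = 54`, `|N(P₅₃)| = 106`. -/
theorem no_simple_5724 (hn : Nat.card G = 5724) : False :=
  dihedral_kill 53 108 54 (by norm_num) (by norm_num) (by rw [hn]; norm_num) (by norm_num) (by norm_num)
    (by norm_num) (by norm_num) (by decide) arith_5724

end

end Cfsg.Agent.Lib.Helper7.Ord2
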