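import Mathlib
import Cfsg.Agent.Lib.Helper7.Ord2All
import Cfsg.Agent.Lib.Helper7.Ord2C
import Cfsg.Agent.Lib.Helper7.O4200
import Cfsg.Agent.Lib.Helper7.O5940
import Cfsg.Agent.Lib.Helper5.O3696
import Cfsg.Agent.Lib.Helper5.O3780
import Cfsg.Agent.Lib.Helper5.O3960
import Cfsg.Agent.Lib.Helper5.O4212
import Cfsg.Agent.Lib.Helper5.O5460
import Cfsg.Agent.Lib.Helper8.O4960A
import Cfsg.Agent.Lib.Lead.O5880B
import Cfsg.Agent.S0975
import Cfsg.Agent.S0976
import Cfsg.Agent.S0977
import Cfsg.Agent.S0978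
import Cfsg.Agent.S0979
import Cfsg.Agent.S0980

/-! The orders of the non-abelian simple groups in `(3640, 6232]`, modulo the four orders
4620, 4680, 5148, 5400 (helper7, assembly for S0983). -/

set_option autoImplicit false

namespace Cfsg.Agent.Lib.Helper7.Ord2

section
variable {G : Type*} [Group G] [Finite G] [IsSimpleGroup G]

theorem orders_fin (hG : ¬ IsMulCommutative G) (h4620 : Nat.card G = 4620 → False)
    (h4680 : Nat.card G = 4680 → False) (h5148 : Nat.card G = 5148 → False)
    (h5400 : Nat.card G = 5400 → False)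
    (h1 : 3640 < Nat.card G) (h2 : Nat.card G ≤ 6232) :
    Nat.card G = 4080 ∨ Nat.card G = 5616 ∨ Nat.card G = 6048 ∨ Nat.card G = 6072 := by
  apply orders_all2 hG _ h1 h2
  intro hmem
  simp only [Hard, Finset.mem_insert, Finset.mem_singleton] at hmem
  rcases hmem with h | h | h | h | h | h | h | h | h | h | h | h | h | h | h | h | h | h | h | h |
    h | h | h
  · exact Cfsg.Agent.Lib.Helper5.O3696.no_simple_3696 h
  · exact Cfsg.Agent.S0975.result h
  · exact Cfsg.Agent.Lib.Helper5.O3780.no_simple_3780 h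
  · exact Cfsg.Agent.Lib.Helper5.O3960.no_simple_3960 h
  · exact Cfsg.Agent.S0976.result h
  · exact Cfsg.Agent.Lib.Helper7.O4200.no_simple_4200 h
  · exact Cfsg.Agent.Lib.Helper5.O4212.no_simple_4212 h
  · exact Cfsg.Agent.S0977.result h
  · exact h4620 h
  · exact h4680 h
  · exact no_simple_4760 h
  · exact Cfsg.Agent.Lib.Helper8.O4960.no_simple_4960 h
  · exact Cfsg.Agent.S0978.result h
  · exact no_simple_5104 h
  · exact h5148 h
  · exact h5400 h
  · exact Cfsg.Agent.Lib.Helper5.O5460.no_simple_5460 h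
  · exact Cfsg.Agent.S0979.result h
  · exact no_simple_5600 h
  · exact no_simple_5724 h
  · exact Cfsg.Agent.S0980.result h
  · exact Cfsg.Agent.Lib.Lead.O5880.no_simple_5880 h
  · exact Cfsg.Agent.Lib.Helper7.O5940.no_simple_5940 h

end

end Cfsg.Agent.Lib.Helper7.Ord2
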