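import Mathlib
import Cfsg.Agent.Lib.Helper4.Sylow
import Cfsg.Agent.Lib.Helper4.Simple
import Cfsg.Agent.Lib.Lead.Par
import Cfsg.Agent.S0904
import Cfsg.Agent.Lib.Helper7.OrdB

/-! Order 720, steps (0), (1), (2) of lead's proof (helper7, for S0496).

(0) every proper subgroup has index at least 8; a subgroup of order 72 is self-normalising;
(1) there are `x` of order 5 and `y` of order 4 such that `y ^ 2` inverts `x`;
(2) for every subgroup `M` of order 72 there is `y' ∈ M` of order 4 with exactly two fixed points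
    on `G ⧸ M`, which are also the only fixed points of `y' ^ 2`. -/

set_option autoImplicit false

namespace Cfsg.Agent.Lib.Helper7.Ord720

open Cfsg.Agent.Lib.Helper4.Sylow Cfsg.Agent.Lib.Helper4.Simple
open Cfsg.Agent.Lib.Lead

section
variable {G : Type*} [Group G] [Finite G] [IsSimpleGroup G]

/-- (0a) no proper subgroup of index at most 7. -/
theorem index_ge_eight (hn : Nat.card G = 720) (H : Subgroup G) (hH : H ≠ ⊤) : 8 ≤ H.index := by
  by_contra h
  push Not at h
  have h1 := two_mul_card_dvd_factorial_of_simple (by rw [hn]; norm_num) H hH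
  rw [hn] at h1
  have h2 : (H.index).factorial ∣ (7).factorial := Nat.factorial_dvd_factorial (by omega)
  have h3 : 2 * 720 ∣ Nat.factorial 7 := h1.trans h2
  revert h3
  decide

/-- every proper subgroup has order at most 90. -/
theorem card_le_ninety (hn : Nat.card G = 720) (H : Subgroup G) (hH : H ≠ ⊤) : Nat.card H ≤ 90 := by
  have h1 := index_ge_eight hn H hH
  have h2 := H.card_mul_index
  rw [hn] at h2
  nlinarith

/-- (0b) a subgroup of order 72 is self-normalising. -/
theorem normalizer_eq_self_of_card_72 (hn : Nat.card G = 720) (M : Subgroup G)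
    (hM : Nat.card M = 72) : Subgroup.normalizer (M : Set G) = M := by
  have hle : M ≤ Subgroup.normalizer (M : Set G) := Subgroup.le_normalizer
  by_cases htop : Subgroup.normalizer (M : Set G) = ⊤
  · exfalso
    have hnorm : M.Normal := Subgroup.normalizer_eq_top_iff.1 htop
    rcases hnorm.eq_bot_or_eq_top with h | h
    · rw [h, Subgroup.card_bot] at hM; omega
    · rw [h, Subgroup.card_top, hn] at hM; omega
  · have h90 := card_le_ninety hn _ htop
    have hdvd : Nat.card M ∣ Nat.card (Subgroup.normalizer (M : Set G)) :=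
      Subgroup.card_dvd_of_le hle
    rw [hM] at hdvd
    obtain ⟨k, hk⟩ := hdvd
    have hpos : 0 < Nat.card (Subgroup.normalizer (M : Set G)) := Nat.card_pos
    have hk1 : k = 1 := by
      rcases k with _ | _ | k
      · omega
      · rfl
      · omega
    symm
    apply Subgroup.eq_of_le_of_card_ge hle
    rw [hk, hk1, hM]

/-- (1a) a Sylow 5-subgroup `P` has order 5, is self-centralising and `|N(P)| = 20`. -/
theorem sylow5_facts (hn : Nat.card G = 720) [hp : Fact (Nat.Prime 5)] (P : Sylow 5 G) :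
    Nat.card (P : Subgroup G) = 5 ∧
      Subgroup.centralizer ((P : Subgroup G) : Set G) = (P : Subgroup G) ∧
      Nat.card (Subgroup.normalizer ((P : Subgroup G) : Set G)) = 20 := by
  classical
  have hn' : Nat.card G = 5 ^ 1 * 144 := by rw [hn] <;> norm_num
  have h144 : ¬ 5 ∣ 144 := by decide
  have hPc : Nat.card (P : Subgroup G) = 5 := by
    have := card_sylow_of_card_eq hn' h144 P
    rwa [pow_one] at this
  have hC : Subgroup.centralizer ((P : Subgroup G) : Set G) = (P : Subgroup G) :=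
    Cfsg.Agent.S0904.result 2 3 5 4 2 (by norm_num) (by norm_num) (by norm_num) (by norm_num)
      (by norm_num) (by rw [hn] <;> norm_num) P
  refine ⟨hPc, hC, ?_⟩
  haveI hcyc : IsCyclic (P : Subgroup G) := isCyclic_of_prime_card hPc
  have h1 := relIndex_centralizer_normalizer_dvd (P : Subgroup G)
  rw [hcyc.card_mulAut, hPc, Nat.totient_prime hp.out, hC] at h1
  have h2 : Nat.card (P : Subgroup G) *
      (P : Subgroup G).relIndex (Subgroup.normalizer ((P : Subgroup G) : Set G)) =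
      Nat.card (Subgroup.normalizer ((P : Subgroup G) : Set G)) := by
    have h1 := ((P : Subgroup G).subgroupOf (Subgroup.normalizer ((P : Subgroup G) : Set G))).card_mul_index
    rw [← Subgroup.relIndex] at h1
    rw [← h1]
    congr 1
    exact (Nat.card_congr (Subgroup.subgroupOfEquivOfLe
      (Subgroup.le_normalizer (H := (P : Subgroup G)))).toEquiv).symm
  rw [hPc] at h2
  have h3 := card_sylow_mul_card_normalizer P
  rw [hn] at h3
  have h4 : Nat.card (Sylow 5 G) ≡ 1 [MOD 5] := card_sylow_modEq_one 5 G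
  unfold Nat.ModEq at h4
  set k := (P : Subgroup G).relIndex (Subgroup.normalizer ((P : Subgroup G) : Set G)) with hk
  have hk4 : k ≤ 4 := Nat.le_of_dvd (by norm_num) h1
  rw [← h2] at h3 ⊢
  interval_cases k
  · simp at h1
  · have : Nat.card (Sylow 5 G) = 144 := by omega
    rw [this] at h4; norm_num at h4
  · have : Nat.card (Sylow 5 G) = 72 := by omega
    rw [this] at h4; norm_num at h4
  · norm_num at h1
  · rfl

omit [Finite G] [IsSimpleGroup G] in
/-- in a subgroup of prime order every element is a power of any nontrivial one. -/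
theorem exists_pow_eq_of_prime_card {p : ℕ} [Fact p.Prime] (P : Subgroup G)
    (hP : Nat.card P = p) {z w : G} (hz : z ∈ P) (hz1 : z ≠ 1) (hw : w ∈ P) :
    ∃ n : ℕ, z ^ n = w := by
  have h1 : (⟨z, hz⟩ : P) ≠ 1 := fun h => hz1 (congrArg Subtype.val h)
  have h2 : (⟨w, hw⟩ : P) ∈ Submonoid.powers (⟨z, hz⟩ : P) := mem_powers_of_prime_card hP h1
  obtain ⟨n, hn⟩ := h2
  exact ⟨n, by simpa using congrArg Subtype.val hn⟩

/-- (1b) an involution normalising a Sylow 5-subgroup inverts it. -/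
theorem invol_inverts (hn : Nat.card G = 720) [Fact (Nat.Prime 5)] (P : Sylow 5 G) (t : G)
    (htN : t ∈ Subgroup.normalizer ((P : Subgroup G) : Set G)) (ht2 : t ^ 2 = 1) (ht1 : t ≠ 1)
    (x : G) (hx : x ∈ (P : Subgroup G)) : t * x * t⁻¹ = x⁻¹ := by
  obtain ⟨hPc, hC, -⟩ := sylow5_facts hn P
  have hcommP : ∀ a ∈ (P : Subgroup G), ∀ b ∈ (P : Subgroup G), a * b = b * a := by
    intro a ha b hb
    have : b ∈ Subgroup.centralizer ((P : Subgroup G) : Set G) := by rw [hC]; exact hb
    exact Subgroup.mem_centralizer_iff.1 this a ha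
  have htx : t * x * t⁻¹ ∈ (P : Subgroup G) := (Subgroup.mem_normalizer_iff.1 htN x).1 hx
  have htinv : t⁻¹ = t := by
    rw [inv_eq_iff_mul_eq_one, ← pow_two, ht2]
  by_contra hne
  have hz1 : x * (t * x * t⁻¹) ≠ 1 := fun h => hne (eq_inv_of_mul_eq_one_right h)
  have hzP : x * (t * x * t⁻¹) ∈ (P : Subgroup G) := mul_mem hx htx
  have htz : t * (x * (t * x * t⁻¹)) = (x * (t * x * t⁻¹)) * t := by
    have e1 : t * (x * (t * x * t⁻¹)) = x * t * x := by
      rw [hcommP x hx _ htx, htinv]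
      have : t * (t * x * t * x) = (t * t) * x * t * x := by group
      rw [this, ← pow_two, ht2, one_mul]
    have e2 : (x * (t * x * t⁻¹)) * t = x * t * x := by
      rw [htinv]
      have : x * (t * x * t) * t = x * t * x * (t * t) := by group
      rw [this, ← pow_two, ht2, mul_one]
    rw [e1, e2]
  have htC : t ∈ Subgroup.centralizer ((P : Subgroup G) : Set G) := by
    rw [Subgroup.mem_centralizer_iff]
    intro w hw
    obtain ⟨n, rfl⟩ := exists_pow_eq_of_prime_card (P : Subgroup G) hPc hzP hz1 hw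
    exact ((Commute.pow_right (show Commute t _ from htz) n).eq).symm
  rw [hC] at htC
  have h5 : t ^ 5 = 1 := by
    have := pow_card_eq_one' (G := (P : Subgroup G)) (x := ⟨t, htC⟩)
    rw [hPc] at this
    simpa using congrArg Subtype.val this
  apply ht1
  have : t = t ^ 5 * ((t ^ 2) ^ 2)⁻¹ := by group
  rw [this, h5, ht2]
  simp

/-- (1c) the normaliser of a Sylow 5-subgroup contains an element of order 4. -/
theorem exists_order_four (hn : Nat.card G = 720) [Fact (Nat.Prime 5)] (P : Sylow 5 G) :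
    ∃ y ∈ Subgroup.normalizer ((P : Subgroup G) : Set G), orderOf y = 4 := by
  obtain ⟨hPc, hC, hN⟩ := sylow5_facts hn P
  haveI : Fact (Nat.Prime 2) := ⟨by norm_num⟩
  obtain ⟨K, hK⟩ := Sylow.exists_subgroup_card_pow_prime (G := ↥(Subgroup.normalizer
    ((P : Subgroup G) : Set G))) 2 (n := 2) (by rw [hN]; norm_num)
  by_contra hcon
  push Not at hcon
  -- every element of `K` squares to one
  have hsq : ∀ k ∈ K, k ^ 2 = 1 := by
    intro k hk
    have h4 : k ^ 4 = 1 := by
      have := pow_card_eq_one' (G := K) (x := ⟨k, hk⟩)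
      rw [hK] at this
      simpa using congrArg Subtype.val this
    have hd : orderOf k ∣ 4 := orderOf_dvd_of_pow_eq_one h4
    have hne : orderOf k ≠ 4 := by
      rw [← Subgroup.orderOf_coe]
      exact hcon _ k.2
    have hle : orderOf k ≤ 4 := Nat.le_of_dvd (by norm_num) hd
    have hpos : 0 < orderOf k := orderOf_pos k
    have hd2 : orderOf k ∣ 2 := by
      interval_cases h : orderOf k
      · norm_num
      · norm_num
      · norm_num at hd
      · exact absurd rfl hne
    exact orderOf_dvd_iff_pow_eq_one.1 hd2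
  -- two distinct involutions
  have hKbot : K ≠ ⊥ := by
    intro h
    rw [h, Subgroup.card_bot] at hK
    norm_num at hK
  obtain ⟨⟨t₁, ht₁K⟩, ht₁'⟩ := (Subgroup.ne_bot_iff_exists_ne_one).1 hKbot
  have ht₁ : t₁ ≠ 1 := fun h => ht₁' (Subtype.ext h)
  obtain ⟨t₂, ht₂K, ht₂⟩ : ∃ t₂ ∈ K, t₂ ∉ Subgroup.zpowers t₁ := by
    by_contra hcon2
    push Not at hcon2
    have hle : K ≤ Subgroup.zpowers t₁ := fun k hk => hcon2 k hk
    have h1 := Subgroup.card_le_of_le hle
    rw [hK, Nat.card_zpowers] at h1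
    have h2 : orderOf t₁ ≤ 2 :=
      Nat.le_of_dvd (by norm_num) (orderOf_dvd_of_pow_eq_one (hsq t₁ ht₁K))
    omega
  have ht₂1 : t₂ ≠ 1 := fun h => ht₂ (h ▸ one_mem _)
  have hinv : ∀ t ∈ K, t ≠ 1 → ∀ x ∈ (P : Subgroup G), (t : G) * x * (t : G)⁻¹ = x⁻¹ := by
    intro t ht ht1 x hx
    refine invol_inverts hn P (t : G) t.2 ?_ ?_ x hx
    · have := congrArg Subtype.val (hsq t ht)
      simpa using this
    · intro h
      exact ht1 (Subtype.ext h)
  -- the product centralises `P`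
  have hprod : ((t₁ * t₂ : _) : G) ∈ Subgroup.centralizer ((P : Subgroup G) : Set G) := by
    rw [Subgroup.mem_centralizer_iff]
    intro x hx
    have h1 := hinv t₁ ht₁K ht₁ x⁻¹ (inv_mem hx)
    have h2 := hinv t₂ ht₂K ht₂1 x hx
    rw [inv_inv] at h1
    have h3 : ((t₁ * t₂ : _) : G) * x * ((t₁ * t₂ : _) : G)⁻¹ = x := by
      have : ((t₁ * t₂ : _) : G) * x * ((t₁ * t₂ : _) : G)⁻¹ =
          (t₁ : G) * ((t₂ : G) * x * (t₂ : G)⁻¹) * (t₁ : G)⁻¹ := by
        rw [Subgroup.coe_mul]; group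
      rw [this, h2, h1]
    calc x * ((t₁ * t₂ : _) : G) = (((t₁ * t₂ : _) : G) * x * ((t₁ * t₂ : _) : G)⁻¹) *
          ((t₁ * t₂ : _) : G) := by rw [h3]
      _ = ((t₁ * t₂ : _) : G) * x := by group
  rw [hC] at hprod
  have h5 : ((t₁ * t₂ : _) : G) ^ 5 = 1 := by
    have := pow_card_eq_one' (G := (P : Subgroup G)) (x := ⟨_, hprod⟩)
    rw [hPc] at this
    simpa using congrArg Subtype.val this
  have h2 : ((t₁ * t₂ : _) : G) ^ 2 = 1 := by
    have := congrArg Subtype.val (hsq _ (mul_mem ht₁K ht₂K))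
    simpa using this
  have h1 : ((t₁ * t₂ : _) : G) = 1 := by
    have : ((t₁ * t₂ : _) : G) = ((t₁ * t₂ : _) : G) ^ 5 * ((((t₁ * t₂ : _) : G) ^ 2) ^ 2)⁻¹ := by
      group
    rw [this, h5, h2]
    simp
  have h12 : t₁ * t₂ = 1 := Subtype.ext h1
  apply ht₂
  have : t₂ = t₁⁻¹ := (eq_inv_of_mul_eq_one_right h12)
  rw [this]
  exact inv_mem (Subgroup.mem_zpowers t₁)

/-- (1) there are `x` of order 5 and `y` of order 4 such that `y ^ 2` inverts `x`. -/
theorem exists_xy (hn : Nat.card G = 720) :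
    ∃ x y : G, orderOf x = 5 ∧ orderOf y = 4 ∧ y ^ 2 * x * (y ^ 2)⁻¹ = x⁻¹ := by
  haveI : Fact (Nat.Prime 5) := ⟨by norm_num⟩
  obtain ⟨P⟩ : Nonempty (Sylow 5 G) := inferInstance
  obtain ⟨hPc, hC, hN⟩ := sylow5_facts hn P
  obtain ⟨y, hyN, hy⟩ := exists_order_four hn P
  have hPbot : (P : Subgroup G) ≠ ⊥ := by
    intro h
    rw [h, Subgroup.card_bot] at hPc
    norm_num at hPc
  obtain ⟨⟨x, hxP⟩, hx'⟩ := (Subgroup.ne_bot_iff_exists_ne_one).1 hPbot
  have hx1 : x ≠ 1 := fun h => hx' (Subtype.ext h)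
  have hx5 : x ^ 5 = 1 := by
    have := pow_card_eq_one' (G := (P : Subgroup G)) (x := ⟨x, hxP⟩)
    rw [hPc] at this
    simpa using congrArg Subtype.val this
  refine ⟨x, y, orderOf_eq_prime hx5 hx1, hy, ?_⟩
  refine invol_inverts hn P (y ^ 2) (pow_mem hyN 2) ?_ ?_ x hxP
  · rw [← pow_mul]
    have : y ^ orderOf y = 1 := pow_orderOf_eq_one y
    rwa [hy] at this
  · exact pow_ne_one_of_lt_orderOf (by norm_num) (by rw [hy]; norm_num)

omit [Finite G] [IsSimpleGroup G] in
/-- fixed points on the coset space, in terms of conjugates. -/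
theorem smul_mk_eq_iff (M : Subgroup G) (a g : G) :
    a • (g : G ⧸ M) = (g : G ⧸ M) ↔ g⁻¹ * a * g ∈ M := by
  rw [MulAction.Quotient.smul_coe, eq_comm, QuotientGroup.eq, smul_eq_mul, mul_assoc]

/-- elements of order 5 act semiregularly on the cosets of a subgroup of order 72. -/
theorem semireg_five (M : Subgroup G) (hM : Nat.card M = 72) (x : G) (hx : orderOf x = 5)
    (ω : G ⧸ M) (k : ℕ) (hk : x ^ k • ω = ω) : 5 ∣ k := by
  induction ω using QuotientGroup.induction_on with
  | H g =>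
    rw [smul_mk_eq_iff] at hk
    have h72 : (g⁻¹ * x ^ k * g) ^ 72 = 1 := by
      have := pow_card_eq_one' (G := M) (x := ⟨_, hk⟩)
      rw [hM] at this
      simpa using congrArg Subtype.val this
    have h5 : (g⁻¹ * x ^ k * g) ^ 5 = 1 := by
      have e : g⁻¹ * x ^ k * g = g⁻¹ * x ^ k * g⁻¹⁻¹ := by rw [inv_inv]
      rw [e, conj_pow, ← pow_mul, mul_comm, pow_mul, ← hx, pow_orderOf_eq_one, one_pow]
      simp
    have h1 : g⁻¹ * x ^ k * g = 1 := by
      have : g⁻¹ * x ^ k * g = ((g⁻¹ * x ^ k * g) ^ 5) ^ 29 * (((g⁻¹ * x ^ k * g) ^ 72) ^ 2)⁻¹ := by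
        group
      rw [this, h5, h72]
      simp
    have h2 : x ^ k = 1 := by
      have : x ^ k = g * (g⁻¹ * x ^ k * g) * g⁻¹ := by group
      rw [this, h1]
      simp
    rw [← hx]
    exact orderOf_dvd_of_pow_eq_one h2

/-- if `u` inverts `x` (of order 5) then `u` fixes at most one point in each `⟨x⟩`-orbit. -/
theorem fixed_orbit (M : Subgroup G) (hM : Nat.card M = 72) (x u : G) (hx : orderOf x = 5)
    (hinv : u * x * u⁻¹ = x⁻¹) (ω : G ⧸ M) (hω : u • ω = ω) (k : ℕ)
    (hk : u • (x ^ k • ω) = x ^ k • ω) : 5 ∣ k := by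
  have h1 : u * x ^ k = (x ^ k)⁻¹ * u := by
    have : u * x ^ k * u⁻¹ = (x ^ k)⁻¹ := by rw [← conj_pow, hinv, inv_pow]
    rw [← this]
    group
  rw [smul_smul, h1, ← smul_smul, hω] at hk
  have h2 : x ^ (2 * k) • ω = ω := by
    rw [two_mul, pow_add, ← smul_smul, ← hk, smul_smul, mul_inv_cancel, one_smul]
  have h3 := semireg_five M hM x hx ω (2 * k) h2
  exact Nat.Coprime.dvd_of_dvd_mul_left (by norm_num) h3

theorem card_quotient (hn : Nat.card G = 720) (M : Subgroup G) (hM : Nat.card M = 72) :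
    Nat.card (G ⧸ M) = 10 := by
  rw [← Subgroup.index_eq_card]
  have := M.card_mul_index
  rw [hn, hM] at this
  omega

/-- hence `u` has at most two fixed points. -/
theorem card_fixed_le_two (hn : Nat.card G = 720) (M : Subgroup G) (hM : Nat.card M = 72)
    (x u : G) (hx : orderOf x = 5) (hinv : u * x * u⁻¹ = x⁻¹) :
    Nat.card (MulAction.fixedBy (G ⧸ M) u) ≤ 2 := by
  classical
  let f : MulAction.fixedBy (G ⧸ M) u × Fin 5 → G ⧸ M := fun p => x ^ (p.2 : ℕ) • (p.1 : G ⧸ M)
  have hx5 : x ^ 5 = 1 := by rw [← hx, pow_orderOf_eq_one]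
  have hf : Function.Injective f := by
    rintro ⟨⟨ω, hω⟩, k⟩ ⟨⟨ω', hω'⟩, l⟩ h
    have h' : x ^ (k : ℕ) • ω = x ^ (l : ℕ) • ω' := h
    have hk5 : (k : ℕ) < 5 := k.2
    have hl5 : (l : ℕ) < 5 := l.2
    have h1 : ω = x ^ (5 - (k : ℕ) + l) • ω' := by
      rw [pow_add, ← smul_smul, ← h', smul_smul, ← pow_add, Nat.sub_add_cancel (by omega), hx5,
        one_smul]
    have h2 : 5 ∣ 5 - (k : ℕ) + l :=
      fixed_orbit M hM x u hx hinv ω' hω' _ (by rw [← h1]; exact hω)
    have h3 : x ^ (5 - (k : ℕ) + l) = 1 := by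
      obtain ⟨c, hc⟩ := h2
      rw [hc, pow_mul, hx5, one_pow]
    rw [h3, one_smul] at h1
    subst h1
    have hkl : (k : ℕ) = l := by omega
    have hkl' : k = l := Fin.ext hkl
    subst hkl'
    rfl
  have h1 := Nat.card_le_card_of_injective f hf
  rw [Nat.card_prod, Nat.card_eq_fintype_card (α := Fin 5), Fintype.card_fin,
    card_quotient hn M hM] at h1
  omega

/-- (2), in terms of the action on `G ⧸ M`: `y` has exactly two fixed points, and they are the
only fixed points of `y ^ 2`. -/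
theorem step2_fix (hn : Nat.card G = 720) (M : Subgroup G) (hM : Nat.card M = 72) (x y : G)
    (hx : orderOf x = 5) (hy : orderOf y = 4) (hinv : y ^ 2 * x * (y ^ 2)⁻¹ = x⁻¹) :
    ∃ a b : G ⧸ M, a ≠ b ∧ y • a = a ∧ y • b = b ∧
      ∀ c : G ⧸ M, y ^ 2 • c = c → c = a ∨ c = b := by
  classical
  haveI : Fintype (G ⧸ M) := Fintype.ofFinite _
  have hΩ : Fintype.card (G ⧸ M) = 10 := by
    rw [Fintype.card_eq_nat_card, card_quotient hn M hM]
  have hG2 : 2 < Nat.card G := by rw [hn]; norm_num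
  have hy4 : y ^ 4 = 1 := by rw [← hy, pow_orderOf_eq_one]
  have hu2 : (y ^ 2) ^ 2 = 1 := by rw [← pow_mul]; exact hy4
  have hle := card_fixed_le_two hn M hM x (y ^ 2) hx hinv
  -- `y ^ 2` has exactly 2 fixed points
  have hF2 : Nat.card (MulAction.fixedBy (G ⧸ M) (y ^ 2)) = 2 := by
    have hσ2 : (MulAction.toPerm (y ^ 2) : Equiv.Perm (G ⧸ M)) ^ 2 = 1 := by
      rw [Par.toPerm_pow, hu2]
      exact map_one (MulAction.toPermHom G (G ⧸ M))
    have hσ1 : (MulAction.toPerm (y ^ 2) : Equiv.Perm (G ⧸ M)) ≠ 1 := by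
      intro h
      have hall : ∀ ω : G ⧸ M, y ^ 2 • ω = ω := fun ω => by
        have := congrArg (fun τ : Equiv.Perm (G ⧸ M) => τ ω) h
        simpa using this
      have := fixed_orbit M hM x (y ^ 2) hx hinv ((1 : G) : G ⧸ M) (hall _) 1 (hall _)
      norm_num at this
    have hord : orderOf (MulAction.toPerm (y ^ 2) : Equiv.Perm (G ⧸ M)) = 2 :=
      orderOf_eq_prime hσ2 hσ1
    obtain ⟨j, hj, hcard⟩ := Ord.invol_fix _ hord (Par.sign_toPerm_eq_one hG2 (y ^ 2))
    rw [Par.card_fixedPoints_eq, Par.card_fixedBy_eq, hΩ] at hcard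
    omega
  -- fixed points of `y` are fixed by `y ^ 2`
  have hsub : ∀ ω : G ⧸ M, y • ω = ω → y ^ 2 • ω = ω := by
    intro ω h
    rw [pow_two, ← smul_smul, h, h]
  -- `y` has a fixed point
  have hyfix : ∃ a : G ⧸ M, y • a = a := by
    by_contra hcon
    push Not at hcon
    have h0 : Nat.card (MulAction.fixedBy (G ⧸ M) y) = 0 := by
      rw [Nat.card_eq_zero]
      left
      exact ⟨fun ⟨a, ha⟩ => hcon a ha⟩
    have := Par.order_four_parity (Ω := G ⧸ M) y hy4 (Par.sign_toPerm_eq_one hG2 y)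
    rw [hF2, h0, hΩ] at this
    revert this
    decide
  obtain ⟨a, ha⟩ := hyfix
  have haF : y ^ 2 • a = a := hsub a ha
  obtain ⟨⟨b, hb⟩, hba, huniq⟩ :=
    (Nat.card_eq_two_iff' (⟨a, haF⟩ : MulAction.fixedBy (G ⧸ M) (y ^ 2))).1 hF2
  have hbF : y ^ 2 • b = b := hb
  have hba' : b ≠ a := fun h => hba (Subtype.ext h)
  have hyb : y • b = b := by
    have h1 : y ^ 2 • (y • b) = y • b := by
      rw [smul_smul, ← pow_succ, pow_succ', ← smul_smul, hbF]
    have h2 : y • b ≠ a := by
      intro h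
      apply hba'
      have : y • b = y • a := by rw [h, ha]
      exact MulAction.injective y this
    have := huniq ⟨y • b, h1⟩ (fun h => h2 (congrArg Subtype.val h))
    exact congrArg Subtype.val this
  refine ⟨a, b, hba'.symm, ha, hyb, ?_⟩
  intro c hc
  by_cases hca : c = a
  · left; exact hca
  · right
    have := huniq ⟨c, hc⟩ (fun h => hca (congrArg Subtype.val h))
    exact congrArg Subtype.val this

/-- (2): for every subgroup `M` of order 72 there is `y ∈ M` of order 4 such that the fixed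
points of `y` and of `y ^ 2` on `G ⧸ M` are exactly the two points `M` and `g M`. -/
theorem step2 (hn : Nat.card G = 720) (M : Subgroup G) (hM : Nat.card M = 72) :
    ∃ y ∈ M, orderOf y = 4 ∧ ∃ g : G, g ∉ M ∧ g⁻¹ * y * g ∈ M ∧
      ∀ h : G, h⁻¹ * y ^ 2 * h ∈ M → h ∈ M ∨ g⁻¹ * h ∈ M := by
  obtain ⟨x, y, hx, hy, hinv⟩ := exists_xy hn
  obtain ⟨a, b, hab, ha, hb, hall⟩ := step2_fix hn M hM x y hx hy hinv
  obtain ⟨g₁, rfl⟩ := QuotientGroup.mk_surjective a
  obtain ⟨g₂, rfl⟩ := QuotientGroup.mk_surjective b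
  rw [smul_mk_eq_iff] at ha hb
  refine ⟨g₁⁻¹ * y * g₁, ha, ?_, g₁⁻¹ * g₂, ?_, ?_, ?_⟩
  · have hsc : SemiconjBy g₁⁻¹ y (g₁⁻¹ * y * g₁) := by
      unfold SemiconjBy
      group
    rw [← SemiconjBy.orderOf_eq g₁⁻¹ hsc, hy]
  · intro h
    apply hab
    exact QuotientGroup.eq.2 h
  · have : (g₁⁻¹ * g₂)⁻¹ * (g₁⁻¹ * y * g₁) * (g₁⁻¹ * g₂) = g₂⁻¹ * y * g₂ := by group
    rw [this]
    exact hb
  · intro h hh
    have e : h⁻¹ * (g₁⁻¹ * y * g₁) ^ 2 * h = (g₁ * h)⁻¹ * y ^ 2 * (g₁ * h) := by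
      rw [pow_two, pow_two]
      group
    rw [e, ← smul_mk_eq_iff] at hh
    rcases hall _ hh with h1 | h1
    · left
      have := QuotientGroup.eq.1 h1.symm
      simpa using this
    · right
      have := QuotientGroup.eq.1 h1.symm
      have e2 : (g₁⁻¹ * g₂)⁻¹ * h = g₂⁻¹ * (g₁ * h) := by group
      rw [e2]
      exact this

end

end Cfsg.Agent.Lib.Helper7.Ord720
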