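import Mathlib
import Cfsg.Agent.Lib.Helper4.Sylow
import Cfsg.Agent.Lib.Helper4.Simple

/-! Order 720, step (B): if the Sylow 3-subgroups are TI then `n₃ = 10` and the normaliser
`M` of a Sylow 3-subgroup `P` has order 72 with `P` semiregular off the point `M`
(helper7, for S0496). -/

set_option autoImplicit false

namespace Cfsg.Agent.Lib.Helper7.Ord720

open Cfsg.Agent.Lib.Helper4.Sylow Cfsg.Agent.Lib.Helper4.Simple

section
variable {G : Type*} [Group G] [Finite G] [IsSimpleGroup G]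

theorem card_sylow3_of_TI (hn : Nat.card G = 720) [Fact (Nat.Prime 3)]
    (hTI : ∀ P Q : Sylow 3 G, P ≠ Q → (P : Subgroup G) ⊓ Q = ⊥) :
    Nat.card (Sylow 3 G) = 10 := by
  have hn' : Nat.card G = 3 ^ 2 * 80 := by rw [hn] <;> norm_num
  have h80 : ¬ 3 ∣ 80 := by decide
  have hdvd : Nat.card (Sylow 3 G) ∣ 80 := card_sylow_dvd_of_card_eq hn' h80
  obtain ⟨P⟩ : Nonempty (Sylow 3 G) := inferInstance
  have hPc : Nat.card P = 9 := by rw [card_sylow_of_card_eq hn' h80 P]; norm_num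
  -- `n₃ ≡ 1 mod 9`
  have hmod : Nat.card (Sylow 3 G) ≡ 1 [MOD 3 ^ 2] := by
    by_contra hcon
    obtain ⟨P₁, R, hne, hidx⟩ := exists_sylow_index_le 3 2 hcon
    have hbot : ((R : Subgroup G).subgroupOf (P₁ : Subgroup G)) = ⊥ := by
      rw [Subgroup.subgroupOf_eq_bot, disjoint_iff, inf_comm]
      exact hTI P₁ R hne
    rw [hbot, Subgroup.index_bot, card_sylow_of_card_eq hn' h80 P₁] at hidx
    norm_num at hidx
  -- `n₃ ≠ 1`
  have hne1 : Nat.card (Sylow 3 G) ≠ 1 :=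
    card_sylow_ne_one_of_simple P (by rw [hPc]; norm_num) (by rw [hPc, hn]; norm_num)
  have hpos : 0 < Nat.card (Sylow 3 G) := Nat.card_pos
  have hle : Nat.card (Sylow 3 G) ≤ 80 := Nat.le_of_dvd (by norm_num) hdvd
  unfold Nat.ModEq at hmod
  generalize Nat.card (Sylow 3 G) = k at *
  interval_cases k <;> simp_all (config := {decide := true})

/-- Step (B): from TI to the configuration `(M, P)`. -/
theorem exists_config_of_TI (hn : Nat.card G = 720)
    (hTI : ∀ P Q : Sylow 3 G, P ≠ Q → (P : Subgroup G) ⊓ Q = ⊥) :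
    ∃ M P : Subgroup G, Nat.card M = 72 ∧ Nat.card P = 9 ∧ P ≤ M ∧
      M ≤ Subgroup.normalizer (P : Set G) ∧
      ∀ g : G, g ∉ M → ∀ p ∈ P, g⁻¹ * p * g ∈ M → p = 1 := by
  haveI : Fact (Nat.Prime 3) := ⟨by norm_num⟩
  obtain ⟨P⟩ : Nonempty (Sylow 3 G) := inferInstance
  have hn' : Nat.card G = 3 ^ 2 * 80 := by rw [hn] <;> norm_num
  have h80 : ¬ 3 ∣ 80 := by decide
  have hPc : Nat.card P = 9 := by rw [card_sylow_of_card_eq hn' h80 P]; norm_num
  have h10 := card_sylow3_of_TI hn hTI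
  have hM : Nat.card (Subgroup.normalizer ((P : Subgroup G) : Set G)) = 72 := by
    have := card_sylow_mul_card_normalizer P
    rw [h10, hn] at this
    omega
  refine ⟨Subgroup.normalizer ((P : Subgroup G) : Set G), P, hM, hPc, Subgroup.le_normalizer,
    le_rfl, ?_⟩
  intro g hg p hp hgp
  have hne : g • P ≠ P := by
    rw [Ne, Sylow.smul_eq_iff_mem_normalizer]
    exact hg
  -- `g⁻¹ p g ∈ P`
  have h1 : g⁻¹ * p * g ∈ (P : Subgroup G) := by
    have hpg : IsPGroup 3 (Subgroup.zpowers (g⁻¹ * p * g)) := by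
      obtain ⟨k, hk⟩ := (IsPGroup.iff_orderOf.1 P.isPGroup') ⟨p, hp⟩
      rw [Subgroup.orderOf_mk] at hk
      apply IsPGroup.of_card (n := k)
      rw [Nat.card_zpowers]
      have hsc : SemiconjBy g⁻¹ p (g⁻¹ * p * g) := by
        unfold SemiconjBy
        group
      rw [← SemiconjBy.orderOf_eq g⁻¹ hsc, hk]
    have h2 := hpg.inf_normalizer_sylow P
    have h3 : g⁻¹ * p * g ∈ Subgroup.zpowers (g⁻¹ * p * g) ⊓
        Subgroup.normalizer ((P : Subgroup G) : Set G) :=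
      ⟨Subgroup.mem_zpowers _, hgp⟩
    exact (h2.le h3).2
  have h2 : p ∈ ((g • P : Sylow 3 G) : Subgroup G) := by
    rw [Sylow.coe_subgroup_smul, Subgroup.mem_pointwise_smul_iff_inv_smul_mem]
    simpa [MulAut.smul_def, mul_assoc] using h1
  have h3 := hTI (g • P) P hne
  have h4 : p ∈ ((g • P : Sylow 3 G) : Subgroup G) ⊓ P := ⟨h2, hp⟩
  rw [h3] at h4
  simpa using h4

end

end Cfsg.Agent.Lib.Helper7.Ord720
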