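import Mathlib
import Cfsg.Agent.Lib.Helper7.Ord720B
import Cfsg.Agent.Lib.Lead.Ord720E

/-! Order 720: from "Sylow 3-subgroups are TI" to a contradiction (steps (B)–(E) assembled;
helper7, for S0496). -/

set_option autoImplicit false

namespace Cfsg.Agent.Lib.Helper7.Ord720

section
variable {G : Type*} [Group G] [Finite G] [IsSimpleGroup G]

theorem false_of_TI (hn : Nat.card G = 720)
    (hTI : ∀ P Q : Sylow 3 G, P ≠ Q → (P : Subgroup G) ⊓ Q = ⊥) : False := by
  obtain ⟨M, P, hM, hP, hPM, hnorm, hsemi⟩ := exists_config_of_TI hn hTI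
  exact Cfsg.Agent.Lib.Lead.Ord720E.final_720 hn M P hM hP hPM hnorm hsemi

end

end Cfsg.Agent.Lib.Helper7.Ord720
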