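import Mathlib
import Cfsg.Agent.Lib.Helper7.Ord720Z
import Cfsg.Agent.Lib.Helper8.Ord720T

/-! No simple group of order 720 (assembly of the steps by lead, helper5, helper7, helper8;
for S0496). -/

set_option autoImplicit false

namespace Cfsg.Agent.Lib.Helper7.Ord720

section
variable {G : Type*} [Group G] [Finite G] [IsSimpleGroup G]

theorem no_simple_720 (hn : Nat.card G = 720) : False :=
  false_of_TI hn (fun P Q hPQ => Cfsg.Agent.Lib.Helper8.Ord720.sylow3_TI hn P Q hPQ)

end

end Cfsg.Agent.Lib.Helper7.Ord720
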