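import Mathlib
import Cfsg.Agent.Lib.Helper4.Sylow
import Cfsg.Agent.Lib.Helper7.BrP6

/-! No simple group of order 612 (helper7, for S0496). -/

set_option autoImplicit false

namespace Cfsg.Agent.Lib.Helper7.Ord

set_option maxRecDepth 100000 in
theorem arith_612 : ∀ d ∈ Finset.range 613, d ∣ 612 → 1 < d →
    ¬(d % 17 = 1 ∧ (d + 1) ∣ 612) ∧ ¬(d % 17 = 16 ∧ (d - 1) ∣ 612) := by
  decide +kernel

/-- No finite simple group has order 612 = 2^2 * 3^2 * 17. -/
theorem no_simple_612 {G : Type*} [Group G] [Finite G] [IsSimpleGroup G]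
    (hG : Nat.card G = 612) : False := by
  classical
  let _ : Fintype G := Fintype.ofFinite G
  have : Fact (Nat.Prime 17) := ⟨by norm_num⟩
  have hG' : Nat.card G = 17 ^ 1 * 36 := by rw [hG]; norm_num
  have hm : ¬ 17 ∣ 36 := by norm_num
  obtain ⟨P⟩ : Nonempty (Sylow 17 G) := inferInstance
  have hP : Nat.card (P : Subgroup G) = 17 := by
    simpa using Cfsg.Agent.Lib.Helper4.Sylow.card_sylow_of_card_eq hG' hm P
  have hdvd : Nat.card (Sylow 17 G) ∣ 36 :=
    Cfsg.Agent.Lib.Helper4.Sylow.card_sylow_dvd_of_card_eq hG' hm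
  have hmod : Nat.card (Sylow 17 G) ≡ 1 [MOD 17] := card_sylow_modEq_one 17 G
  have hne : Nat.card (Sylow 17 G) ≠ 1 :=
    Cfsg.Agent.Lib.Helper4.Sylow.card_sylow_ne_one_of_simple P (by rw [hP]; norm_num)
      (by rw [hP, hG]; norm_num)
  have hn : Nat.card (Sylow 17 G) = 18 := by
    have hle := Nat.le_of_dvd (by norm_num) hdvd
    unfold Nat.ModEq at hmod
    generalize Nat.card (Sylow 17 G) = n at *
    interval_cases n <;> omega
  have hN := Cfsg.Agent.Lib.Helper4.Sylow.card_sylow_mul_card_normalizer P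
  rw [hn, hG] at hN
  have hN' : Nat.card (Subgroup.normalizer ((P : Subgroup G) : Set G)) = 17 * 2 := by omega
  have hC := Cfsg.Agent.Lib.Helper7.BrP.self_centralizing_of_simple P hP 2 Nat.prime_two hN'
    (by rw [hG]; norm_num)
  have hperf := Cfsg.Agent.Lib.Helper7.BrP.linear_eq_triv_of_simple (G := G)
    (by rw [hG]; norm_num)
  obtain ⟨d, D, m, ε, hm, hε, hd, hD, hd1, hcong, heq⟩ :=
    Cfsg.Agent.Lib.Helper7.BrP.cor_two (P : Subgroup G) hperf (by norm_num) hP hC hN' (by norm_num)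
  rw [hG] at hd hD
  have hdle := Nat.le_of_dvd (by norm_num) hd
  have key := arith_612 d (Finset.mem_range.mpr (by omega)) hd hd1
  obtain ⟨c, hc⟩ := hcong
  rcases hm with rfl | rfl <;> rcases hε with rfl | rfl
  · apply key.1
    refine ⟨by omega, ?_⟩
    have : d + 1 = D := by omega
    rw [this]; exact hD
  · omega
  · omega
  · apply key.2
    refine ⟨by omega, ?_⟩
    have : d - 1 = D := by omega
    rw [this]; exact hD

end Cfsg.Agent.Lib.Helper7.Ord
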