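import Mathlib
import Cfsg.Agent.Lib.Helper7.OrdT1
import Cfsg.Agent.Lib.Helper7.OrdT2
import Cfsg.Agent.Lib.Helper7.OrdT3
import Cfsg.Agent.Lib.Helper7.OrdT4
import Cfsg.Agent.Lib.Helper7.OrdT5
import Cfsg.Agent.Lib.Helper7.OrdT6
import Cfsg.Agent.Lib.Helper7.OrdT7

/-! The orders of the non-abelian simple groups of order at most 1092, modulo the two
orders 720 and 756 (taken as hypotheses here; helper7, for S0496). -/

set_option autoImplicit false

namespace Cfsg.Agent.Lib.Helper7.Ord

section
variable {G : Type*} [Group G] [Finite G] [IsSimpleGroup G]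

theorem orders_all (hG : ¬ IsMulCommutative G) (h720 : Nat.card G = 720 → False)
    (h756 : Nat.card G = 756 → False) (h : Nat.card G ≤ 1092) :
    Nat.card G = 60 ∨ Nat.card G = 168 ∨ Nat.card G = 360 ∨ Nat.card G = 504 ∨
      Nat.card G = 660 ∨ Nat.card G = 1092 := by
  have h1 : 1 ≤ Nat.card G := Nat.card_pos
  by_cases c1 : Nat.card G ≤ 200
  · exact orders_1 hG h1 c1
  by_cases c2 : Nat.card G ≤ 400
  · exact orders_2 hG (by omega) c2
  by_cases c3 : Nat.card G ≤ 600
  · exact orders_3 hG (by omega) c3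
  by_cases c4 : Nat.card G ≤ 700
  · exact orders_4 hG (by omega) c4
  by_cases c5 : Nat.card G ≤ 800
  · exact orders_5 hG h720 h756 (by omega) c5
  by_cases c6 : Nat.card G ≤ 950
  · exact orders_6 hG (by omega) c6
  · exact orders_7 hG (by omega) h

end

end Cfsg.Agent.Lib.Helper7.Ord
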