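import Mathlib
import Cfsg.Prelude.Def_FusionSystem
import Cfsg.Agent.Lib.Helper7.FusionCentricSub
import Cfsg.Agent.Lib.Helper7.FusionNormalizer

set_option autoImplicit false

namespace Cfsg.Agent.Lib.Helper7

open Cfsg Cfsg.FusionSystem

variable {Ω : Type*} [Group Ω] {S : Subgroup Ω}

theorem eq_of_agree_on_order_p_centralizers [Finite S] (p : ℕ) [Fact p.Prime] (hS : IsPGroup p S)
    (F : FusionSystem S) (F' : FusionSystem S) (hF' : F'.IsSaturated p)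
    (hle : F' ≤ F)
    (hZ : ∀ Z : Subgroup Ω, Z ≤ S → Nat.card Z = p → F'.IsFullyCentralized Z →
      F.Hom Z = F'.Hom Z ∧ ∀ (C C' : FusionSystem (centralizerIn S Z)),
        F.IsCentralizerSystem Z C → F'.IsCentralizerSystem Z C' →
        ∀ P : Subgroup Ω, C.Hom P = C'.Hom P) (P : Subgroup Ω) : F.Hom P = F'.Hom P := by
  have hp : p.Prime := Fact.out
  apply Set.Subset.antisymm _ (hle P)
  intro φ hφ
  have hPS : P ≤ S := (F.le_of_mem hφ).1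
  haveI : Finite P := finite_of_le hPS
  by_cases hPbot : P = ⊥
  · subst hPbot
    have e : φ = (⊥ : Subgroup Ω).subtype := by
      ext x
      have : x = 1 := Subsingleton.elim _ _
      rw [this, map_one, map_one]
    rw [e]
    exact fs_subtype_mem F' bot_le
  -- a central element of order p
  haveI : Nontrivial P := (Subgroup.nontrivial_iff_ne_bot P).mpr hPbot
  have hPp : IsPGroup p P := hS.to_le hPS
  haveI : Nontrivial (Subgroup.center P) := hPp.center_nontrivial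
  have hcp : IsPGroup p (Subgroup.center P) := hPp.to_subgroup _
  obtain ⟨n, hn⟩ := IsPGroup.iff_card.mp hcp
  have hn0 : n ≠ 0 := by
    rintro rfl
    rw [pow_zero] at hn
    have := (Nat.card_eq_one_iff_unique.mp hn).1
    exact not_subsingleton _ this
  have hdvd : p ∣ Nat.card (Subgroup.center P) := by rw [hn]; exact dvd_pow_self p hn0
  obtain ⟨z0, hz0⟩ := exists_prime_orderOf_dvd_card' p hdvd
  set z : Ω := ((z0 : P) : Ω) with hz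
  have hzP : z ∈ P := (z0 : P).2
  have hzord : orderOf z = p := by
    rw [hz, Subgroup.orderOf_coe, Subgroup.orderOf_coe]; exact hz0
  have hzc : ∀ x ∈ P, x * z = z * x := by
    intro x hx
    have := (Subgroup.mem_center_iff.mp z0.2) ⟨x, hx⟩
    exact congrArg Subtype.val this
  set Z : Subgroup Ω := Subgroup.zpowers z with hZdef
  have hZP : Z ≤ P := by rw [hZdef, Subgroup.zpowers_le]; exact hzP
  have hZS : Z ≤ S := hZP.trans hPS
  have hZcard : Nat.card Z = p := by rw [hZdef, Nat.card_zpowers, hzord]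
  have hZc : ∀ x ∈ P, ∀ y ∈ Z, y * x = x * y := by
    intro x hx y hy
    obtain ⟨k, rfl⟩ := Subgroup.mem_zpowers_iff.mp hy
    exact ((Commute.zpow_right (hzc x hx) k).eq).symm
  have hPC : P ≤ centralizerIn S Z := by
    intro x hx
    refine ⟨hPS hx, ?_⟩
    show x ∈ Subgroup.centralizer (Z : Set Ω)
    rw [Subgroup.mem_centralizer_iff]
    exact fun y hy => hZc x hx y hy
  have hrecAll := ((isSaturated_iff_sylow_extension p hS F').mp hF').2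
  -- Step 1
  obtain ⟨Z', ⟨ψ₀, hψ₀, hψ₀r⟩, hZ'fc⟩ := exists_isFullyCentralized_conj F' hZS
  have hrec : F'.IsReceptive Z' := hrecAll Z' hZ'fc
  have hZ'S : Z' ≤ S := hZ'fc.1
  have hZ'card : Nat.card Z' = p := by
    rw [← card_eq_of_isConj F' ⟨ψ₀, hψ₀, hψ₀r⟩]; exact hZcard
  obtain ⟨hHomEq, hCentEq⟩ := hZ Z' hZ'S hZ'card hZ'fc
  obtain ⟨ψ, hψ, hψe⟩ := hrec.2 Z ψ₀ hψ₀ hψ₀r
  have hPext : P ≤ extender S Z ψ₀ := hPC.trans (centralizerIn_le_extender S Z ψ₀)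
  have hψP : ψ.comp (Subgroup.inclusion hPext) ∈ F'.Hom P := fs_restrict_mem F' hPext hψ
  set ψP : P →* Ω := ψ.comp (Subgroup.inclusion hPext) with hψPdef
  set P₁ : Subgroup Ω := ψP.range with hP₁
  obtain ⟨ιP, hιP, hιPe⟩ := F'.inv_mem hψP
  have hιPval : ∀ y : P₁, ιP y ∈ P := by
    rintro ⟨_, x, rfl⟩
    rw [hιPe]; exact x.2
  have hφ₁ : φ.comp (ιP.codRestrict P hιPval) ∈ F.Hom P₁ := F.comp_mem (hle _ hιP) hφ hιPval
  set φ₁ : P₁ →* Ω := φ.comp (ιP.codRestrict P hιPval) with hφ₁def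
  have hψPval : ∀ x : P, ψP x ∈ P₁ := fun x => ⟨x, rfl⟩
  -- reduce to φ₁ ∈ F'
  suffices hgoal : φ₁ ∈ F'.Hom P₁ by
    have := F'.comp_mem hψP hgoal hψPval
    convert this using 1
    ext x
    show φ x = φ ⟨ιP ⟨ψP x, _⟩, _⟩
    congr 1
    exact Subtype.ext (hιPe x).symm
  have hP₁S : P₁ ≤ S := (F.le_of_mem hφ₁).1
  -- Z' ≤ P₁
  have hZ'P₁ : Z' ≤ P₁ := by
    rw [← hψ₀r]
    rintro _ ⟨y, rfl⟩
    refine ⟨⟨y, hZP y.2⟩, ?_⟩
    exact hψe y y.2 (hPext (hZP y.2))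
  -- Z' central in P₁
  have hZ'c : ∀ x ∈ P₁, ∀ y ∈ Z', y * x = x * y := by
    rintro _ ⟨x, rfl⟩ y hy
    rw [← hψ₀r] at hy
    obtain ⟨y0, rfl⟩ := hy
    have e : ψ₀ y0 = ψP ⟨y0, hZP y0.2⟩ := (hψe y0 y0.2 (hPext (hZP y0.2))).symm
    rw [e, ← map_mul, ← map_mul]
    congr 1
    exact Subtype.ext (hZc x x.2 y0 y0.2)
  -- restriction of φ₁ to Z' is in F'
  have hφ₁Z : φ₁.comp (Subgroup.inclusion hZ'P₁) ∈ F'.Hom Z' := by
    rw [← hHomEq]; exact fs_restrict_mem F hZ'P₁ hφ₁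
  set φ₁Z : Z' →* Ω := φ₁.comp (Subgroup.inclusion hZ'P₁) with hφ₁Zdef
  set Y : Subgroup Ω := φ₁Z.range with hY
  obtain ⟨κ, hκ, hκe⟩ := F'.inv_mem hφ₁Z
  have hκr : κ.range = Z' := by
    apply le_antisymm
    · rintro _ ⟨⟨_, y, rfl⟩, rfl⟩
      rw [hκe]; exact y.2
    · intro y hy
      exact ⟨⟨φ₁Z ⟨y, hy⟩, ⟨_, rfl⟩⟩, hκe ⟨y, hy⟩⟩
  obtain ⟨χ, hχ, hχe⟩ := hrec.2 Y κ hκ hκr
  have hφ₁S : ∀ x : P₁, φ₁ x ∈ S := (F.le_of_mem hφ₁).2
  have hφ₁N : ∀ x : P₁, φ₁ x ∈ extender S Y κ := by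
    intro x
    apply centralizerIn_le_extender S Y κ
    refine ⟨hφ₁S x, ?_⟩
    show _ ∈ Subgroup.centralizer (Y : Set Ω)
    rw [Subgroup.mem_centralizer_iff]
    rintro _ ⟨y, rfl⟩
    show φ₁ (Subgroup.inclusion hZ'P₁ y) * φ₁ x = φ₁ x * φ₁ (Subgroup.inclusion hZ'P₁ y)
    rw [← map_mul, ← map_mul]
    congr 1
    exact Subtype.ext (hZ'c x x.2 y y.2)
  have hρF : χ.comp (φ₁.codRestrict _ hφ₁N) ∈ F.Hom P₁ := F.comp_mem hφ₁ (hle _ hχ) hφ₁N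
  set ρ : P₁ →* Ω := χ.comp (φ₁.codRestrict _ hφ₁N) with hρdef
  have hρfix : ∀ (y : Ω) (hy : y ∈ Z'), ρ ⟨y, hZ'P₁ hy⟩ = y := by
    intro y hy
    have hmemY : φ₁ ⟨y, hZ'P₁ hy⟩ ∈ Y := ⟨⟨y, hy⟩, rfl⟩
    have h1 := hχe (φ₁ ⟨y, hZ'P₁ hy⟩) hmemY (hφ₁N _)
    show χ ⟨φ₁ ⟨y, hZ'P₁ hy⟩, _⟩ = y
    rw [h1]
    exact hκe ⟨y, hy⟩
  apply fs_left_cancel F' hχ φ₁ hφ₁N
  show ρ ∈ F'.Hom P₁
  -- ρ is in the centralizer system
  have hρS : ∀ x : P₁, ρ x ∈ S := (F.le_of_mem hρF).2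
  have hρcent : ρ ∈ F.centralizerHom Z' P₁ := by
    refine ⟨hρF, ?_, ?_, ?_⟩
    · intro x hx
      refine ⟨hP₁S hx, ?_⟩
      show x ∈ Subgroup.centralizer (Z' : Set Ω)
      rw [Subgroup.mem_centralizer_iff]
      exact fun y hy => hZ'c x hx y hy
    · intro x
      refine ⟨hρS x, ?_⟩
      show _ ∈ Subgroup.centralizer (Z' : Set Ω)
      rw [Subgroup.mem_centralizer_iff]
      intro y hy
      have e := hρfix y hy
      calc y * ρ x = ρ ⟨y, hZ'P₁ hy⟩ * ρ x := by rw [e]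
        _ = ρ (⟨y, hZ'P₁ hy⟩ * x) := (map_mul _ _ _).symm
        _ = ρ (x * ⟨y, hZ'P₁ hy⟩) := by
            congr 1
            exact Subtype.ext (hZ'c x x.2 y hy)
        _ = ρ x * ρ ⟨y, hZ'P₁ hy⟩ := map_mul _ _ _
        _ = ρ x * y := by rw [e]
    · have hsup : P₁ ⊔ Z' ≤ P₁ := sup_le le_rfl hZ'P₁
      refine ⟨ρ.comp (Subgroup.inclusion hsup), fs_restrict_mem F hsup hρF, fun x => rfl, fun x => ?_⟩
      exact hρfix x x.2
  obtain ⟨C, hC⟩ := exists_centralizerSystem F Z' hZ'S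
  obtain ⟨C', hC'⟩ := exists_centralizerSystem F' Z' hZ'S
  have h1 : ρ ∈ C.Hom P₁ := by rw [hC P₁]; exact hρcent
  rw [hCentEq C C' hC hC' P₁, hC' P₁] at h1
  exact h1.1

end Cfsg.Agent.Lib.Helper7
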