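import Mathlib
import Cfsg.Prelude.Def_FusionSystem
import Cfsg.Agent.Lib.Helper7.StrongInv
import Cfsg.Agent.Lib.Helper7.Alperin5
import Cfsg.Agent.Lib.Helper7.FusionSat4
import Cfsg.Agent.Lib.Helper7.FusionCentric

set_option autoImplicit false

namespace Cfsg.Agent.Lib.Helper7

open Cfsg Cfsg.FusionSystem

variable {Ω : Type*} [Group Ω] {S : Subgroup Ω}

/-- The image of `P ∩ S` under an automorphism of `S`. -/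
def imgS (α : MulAut S) (P : Subgroup Ω) : Subgroup Ω :=
  (P.subgroupOf S).map (S.subtype.comp α.toMonoidHom)

theorem imgS_le (α : MulAut S) (P : Subgroup Ω) : imgS α P ≤ S := by
  rintro _ ⟨y, -, rfl⟩
  exact (α y).2

theorem mem_imgS_iff (α : MulAut S) (P : Subgroup Ω) (y : Ω) :
    y ∈ imgS α P ↔ ∃ s : S, (s : Ω) ∈ P ∧ ((α s : S) : Ω) = y := by
  constructor
  · rintro ⟨s, hs, rfl⟩
    exact ⟨s, Subgroup.mem_subgroupOf.mp hs, rfl⟩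
  · rintro ⟨s, hs, rfl⟩
    exact ⟨s, Subgroup.mem_subgroupOf.mpr hs, rfl⟩

theorem apply_mem_imgS (α : MulAut S) {P : Subgroup Ω} (s : S) (hs : (s : Ω) ∈ P) :
    ((α s : S) : Ω) ∈ imgS α P := (mem_imgS_iff α P _).mpr ⟨s, hs, rfl⟩

theorem imgS_mul (α β : MulAut S) (P : Subgroup Ω) : imgS (β * α) P = imgS β (imgS α P) := by
  ext y
  rw [mem_imgS_iff, mem_imgS_iff]
  constructor
  · rintro ⟨s, hs, rfl⟩
    exact ⟨α s, apply_mem_imgS α s hs, rfl⟩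
  · rintro ⟨t, ht, rfl⟩
    obtain ⟨s, hs, hst⟩ := (mem_imgS_iff α P _).mp ht
    refine ⟨s, hs, ?_⟩
    have : α s = t := Subtype.ext hst
    rw [← this]
    rfl

/-- Transport of a map along an equality of sources, keeping the values. -/
theorem exists_hom_of_eq (E : FusionSystem S) {P P' : Subgroup Ω} (h : P = P') {χ : P →* Ω}
    (hχ : χ ∈ E.Hom P) :
    ∃ χ' ∈ E.Hom P', ∀ (x : Ω) (hx : x ∈ P) (hx' : x ∈ P'), χ' ⟨x, hx'⟩ = χ ⟨x, hx⟩ := by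
  subst h
  exact ⟨χ, hχ, fun x hx hx' => rfl⟩

/-- Invariance of one map under `Aut_F(S)`. -/
def InvAt (F E : FusionSystem S) (P : Subgroup Ω) (φ : P →* Ω) : Prop :=
  ∀ α ∈ F.autGroup S, ∃ χ ∈ E.Hom (imgS α P),
    ∀ (x : P) (hx : (x : Ω) ∈ S) (hφx : φ x ∈ S) (hαx : ((α ⟨x, hx⟩ : S) : Ω) ∈ imgS α P),
      χ ⟨_, hαx⟩ = ((α ⟨φ x, hφx⟩ : S) : Ω)

/-- The largest `Aut_F(S)`-invariant subsystem of `E`. -/
def hatSys (F E : FusionSystem S) : FusionSystem S where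
  Hom P := {φ | φ ∈ E.Hom P ∧ InvAt F E P φ}
  le_of_mem h := E.le_of_mem h.1
  injective_of_mem h := E.injective_of_mem h.1
  conj_mem := by
    intro P g hP hg
    refine ⟨E.conj_mem hP hg, fun α hα => ?_⟩
    refine ⟨conjHom (imgS α P) ((α ⟨g, hg⟩ : S) : Ω), E.conj_mem (imgS_le α P) (α ⟨g, hg⟩).2, ?_⟩
    intro x hx hφx hαx
    show ((α ⟨g, hg⟩ : S) : Ω) * ((α ⟨x, hx⟩ : S) : Ω) * ((α ⟨g, hg⟩ : S) : Ω)⁻¹ = _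
    have e1 : (⟨conjHom P g x, hφx⟩ : S) = ⟨g, hg⟩ * ⟨x, hx⟩ * ⟨g, hg⟩⁻¹ := Subtype.ext rfl
    rw [e1, map_mul, map_mul, map_inv]
    rfl
  comp_mem := by
    intro P Q φ ψ hφ hψ h
    refine ⟨E.comp_mem hφ.1 hψ.1 h, fun α hα => ?_⟩
    obtain ⟨χ₁, hχ₁, hχ₁e⟩ := hφ.2 α hα
    obtain ⟨χ₂, hχ₂, hχ₂e⟩ := hψ.2 α hα
    have hPS := (E.le_of_mem hφ.1).1
    have hQS := (E.le_of_mem hψ.1).1
    have hmap : ∀ z : ↥(imgS α P), χ₁ z ∈ imgS α Q := by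
      rintro ⟨z, hz⟩
      obtain ⟨s, hs, rfl⟩ := (mem_imgS_iff α P _).mp hz
      have := hχ₁e ⟨s, hs⟩ s.2 ((E.le_of_mem hφ.1).2 _) hz
      rw [this]
      exact apply_mem_imgS α _ (h ⟨s, hs⟩)
    refine ⟨χ₂.comp (χ₁.codRestrict _ hmap), E.comp_mem hχ₁ hχ₂ hmap, ?_⟩
    intro x hx hφx hαx
    show χ₂ ⟨χ₁ ⟨_, hαx⟩, _⟩ = _
    have h1 := hχ₁e x hx ((E.le_of_mem hφ.1).2 x) hαx
    have h2 := hχ₂e ⟨φ x, h x⟩ ((E.le_of_mem hφ.1).2 x) hφx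
      (apply_mem_imgS α _ (h x))
    refine Eq.trans ?_ h2
    congr 1
    exact Subtype.ext h1
  inv_mem := by
    intro P φ hφ
    obtain ⟨ψ, hψ, hψe⟩ := E.inv_mem hφ.1
    refine ⟨ψ, ⟨hψ, fun α hα => ?_⟩, hψe⟩
    obtain ⟨χ, hχ, hχe⟩ := hφ.2 α hα
    have hPS := (E.le_of_mem hφ.1).1
    have hφS := (E.le_of_mem hφ.1).2
    obtain ⟨ψ', hψ', hψ'e⟩ := E.inv_mem hχ
    have hr : χ.range = imgS α φ.range := by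
      ext y
      constructor
      · rintro ⟨⟨z, hz⟩, rfl⟩
        obtain ⟨s, hs, rfl⟩ := (mem_imgS_iff α P _).mp hz
        rw [hχe ⟨s, hs⟩ s.2 (hφS _) hz]
        exact apply_mem_imgS α _ ⟨⟨s, hs⟩, rfl⟩
      · intro hy
        obtain ⟨s, ⟨x, hx⟩, rfl⟩ := (mem_imgS_iff α _ _).mp hy
        refine ⟨⟨_, apply_mem_imgS α ⟨x, hPS x.2⟩ x.2⟩, ?_⟩
        rw [hχe x (hPS x.2) (hφS x) _]
        congr 2
        exact Subtype.ext hx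
    obtain ⟨ψ'', hψ'', hψ''e⟩ := exists_hom_of_eq E hr hψ'
    refine ⟨ψ'', hψ'', ?_⟩
    rintro ⟨_, ⟨x, rfl⟩⟩ hx hφx hαx
    have h1 := hχe x (hPS x.2) (hφS x) (apply_mem_imgS α ⟨x, hPS x.2⟩ x.2)
    have hmem : ((α ⟨φ x, hφS x⟩ : S) : Ω) ∈ χ.range := ⟨_, h1⟩
    have h2 := hψ''e _ hmem hαx
    rw [h2]
    have h3 := hψ'e ⟨_, apply_mem_imgS α ⟨x, hPS x.2⟩ x.2⟩
    have e1 : (⟨((α ⟨φ x, hφS x⟩ : S) : Ω), hmem⟩ : ↥χ.range) =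
        ⟨χ ⟨_, apply_mem_imgS α ⟨x, hPS x.2⟩ x.2⟩, ⟨_, rfl⟩⟩ := Subtype.ext h1.symm
    rw [e1, h3]
    have e2 : (⟨ψ ⟨φ x, ⟨x, rfl⟩⟩, hφx⟩ : S) = ⟨x, hPS x.2⟩ := Subtype.ext (hψe x)
    rw [e2]

theorem hatSys_le (F E : FusionSystem S) (P : Subgroup Ω) : (hatSys F E).Hom P ⊆ E.Hom P :=
  fun _ h => h.1

theorem autInv_hatSys' (F E : FusionSystem S) (P : Subgroup Ω) (hPS : P ≤ S) (φ : P →* Ω)
    (hφ : φ ∈ (hatSys F E).Hom P) (α : MulAut S) (hα : α ∈ F.autGroup S) :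
    ∃ χ ∈ (hatSys F E).Hom (imgS α P),
      ∀ (x : P) (hφx : φ x ∈ S) (hαx : ((α ⟨x, hPS x.2⟩ : S) : Ω) ∈ imgS α P),
        χ ⟨(α ⟨x, hPS x.2⟩ : S), hαx⟩ = ((α ⟨φ x, hφx⟩ : S) : Ω) := by
  obtain ⟨χ, hχ, hχe⟩ := hφ.2 α hα
  have hφS := (E.le_of_mem hφ.1).2
  refine ⟨χ, ⟨hχ, fun β hβ => ?_⟩, fun x hφx hαx => hχe x (hPS x.2) hφx hαx⟩
  obtain ⟨χ'', hχ'', hχ''e⟩ := hφ.2 (β * α) (Subgroup.mul_mem _ hβ hα)
  obtain ⟨χ', hχ', hχ'e⟩ := exists_hom_of_eq E (imgS_mul α β P) hχ''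
  refine ⟨χ', hχ', ?_⟩
  rintro ⟨z, hz⟩ hzS hχz hβz
  obtain ⟨s, hs, rfl⟩ := (mem_imgS_iff α P _).mp hz
  have h1 := hχe ⟨s, hs⟩ s.2 (hφS _) hz
  have e0 : (⟨((α s : S) : Ω), hzS⟩ : S) = α s := Subtype.ext rfl
  have hmem : (((β * α) s : S) : Ω) ∈ imgS (β * α) P := apply_mem_imgS (β * α) s hs
  have hmem' : (((β * α) s : S) : Ω) ∈ imgS β (imgS α P) := by rw [← imgS_mul]; exact hmem
  have h2 := hχ''e ⟨s, hs⟩ s.2 (hφS _) hmem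
  have h3 := hχ'e _ hmem hmem'
  show χ' ⟨((β ⟨((α s : S) : Ω), hzS⟩ : S) : Ω), hβz⟩ =
    ((β ⟨χ ⟨((α s : S) : Ω), hz⟩, hχz⟩ : S) : Ω)
  have e1 : (⟨((β ⟨((α s : S) : Ω), hzS⟩ : S) : Ω), hβz⟩ : ↥(imgS β (imgS α P))) =
      ⟨(((β * α) s : S) : Ω), hmem'⟩ := by
    apply Subtype.ext
    show ((β ⟨((α s : S) : Ω), hzS⟩ : S) : Ω) = ((β (α s) : S) : Ω)
    rw [e0]
  rw [e1, h3, h2]
  show ((β (α ⟨φ ⟨s, hs⟩, _⟩) : S) : Ω) = _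
  congr 2
  exact Subtype.ext h1.symm

theorem autInv_hatSys (F E : FusionSystem S) : AutInv F (hatSys F E) :=
  fun P hPS φ hφ α hα => autInv_hatSys' F E P hPS φ hφ α hα

end Cfsg.Agent.Lib.Helper7
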