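import Mathlib
import Cfsg.Prelude.Def_FusionSystem
import Cfsg.Agent.Lib.Helper7.P5114a

set_option autoImplicit false

namespace Cfsg.Agent.Lib.Helper7

open Cfsg Cfsg.FusionSystem

variable {Ω : Type*} [Group Ω] {S : Subgroup Ω}

/-- `Aut_E(P)` contains the `p`-elements of `Aut_F(P)` for every `F`-centric `P`. -/
def PElts (F E : FusionSystem S) (p : ℕ) : Prop :=
  ∀ P : Subgroup Ω, F.IsCentric P → ∀ θ ∈ F.autGroup P, (∃ k : ℕ, orderOf θ = p ^ k) →
    θ ∈ E.autGroup P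

theorem pElts_of_closure (F E : FusionSystem S) (p : ℕ)
    (h : ∀ P : Subgroup Ω, F.IsCentric P →
      (Subgroup.closure {α : ↥(F.autGroup P) | ∃ k : ℕ, orderOf α = p ^ k}).map
        (F.autGroup P).subtype ≤ E.autGroup P) : PElts F E p := by
  intro P hP θ hθ ⟨k, hk⟩
  apply h P hP
  refine ⟨⟨θ, hθ⟩, Subgroup.subset_closure ⟨k, ?_⟩, rfl⟩
  rw [← hk]
  exact Subgroup.orderOf_mk θ hθ

theorem restrict_aut_mem (F : FusionSystem S) {P : Subgroup Ω} (hPS : P ≤ S) {α : MulAut S}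
    (hα : α ∈ F.autGroup S) :
    (S.subtype.comp α.toMonoidHom).comp (Subgroup.inclusion hPS) ∈ F.Hom P :=
  fs_restrict_mem F hPS ((mem_autGroup_iff F le_rfl α).mp hα)

theorem restrict_aut_range {P : Subgroup Ω} (hPS : P ≤ S) (α : MulAut S) :
    ((S.subtype.comp α.toMonoidHom).comp (Subgroup.inclusion hPS)).range = imgS α P := by
  ext y
  rw [mem_imgS_iff]
  constructor
  · rintro ⟨x, rfl⟩
    exact ⟨⟨x, hPS x.2⟩, x.2, rfl⟩
  · rintro ⟨s, hs, rfl⟩
    exact ⟨⟨s, hs⟩, rfl⟩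

theorem pElts_hatSys (F E : FusionSystem S) (p : ℕ) (h : PElts F E p) :
    PElts F (hatSys F E) p := by
  intro P hP θ hθ hk
  have hPS := hP.1
  rw [mem_autGroup_iff (hatSys F E) hPS]
  refine ⟨(mem_autGroup_iff E hPS θ).mp (h P hP θ hθ hk), fun α hα => ?_⟩
  have hψ := restrict_aut_mem F hPS hα
  have hr := restrict_aut_range hPS α
  set ψ : P →* Ω := (S.subtype.comp α.toMonoidHom).comp (Subgroup.inclusion hPS) with hψdef
  set e := isoOfRange ψ (F.injective_of_mem hψ) hr with he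
  have hθ' : MulAut.congr e θ ∈ F.autGroup (imgS α P) := autGroup_congr F hψ hr hθ
  have hord : ∃ k : ℕ, orderOf (MulAut.congr e θ) = p ^ k := by
    obtain ⟨k, hk⟩ := hk
    exact ⟨k, by rw [MulEquiv.orderOf_eq]; exact hk⟩
  have hcen : F.IsCentric (imgS α P) := isCentric_of_isConj F hP ⟨ψ, hψ, hr⟩
  have hE := (mem_autGroup_iff E (imgS_le α P) _).mp (h _ hcen _ hθ' hord)
  refine ⟨_, hE, ?_⟩
  intro x hx hφx hαx
  show ((MulAut.congr e θ ⟨_, hαx⟩ : ↥(imgS α P)) : Ω) = _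
  have e1 : e.symm ⟨_, hαx⟩ = x := by
    rw [MulEquiv.symm_apply_eq]
    exact Subtype.ext rfl
  show ((e (θ (e.symm ⟨_, hαx⟩)) : ↥(imgS α P)) : Ω) = _
  rw [e1]
  rfl

end Cfsg.Agent.Lib.Helper7
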