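import Mathlib
import Cfsg.Prelude.Def_FusionSystem
import Cfsg.Agent.Lib.Helper7.P5114b

set_option autoImplicit false

namespace Cfsg.Agent.Lib.Helper7

open Cfsg Cfsg.FusionSystem
open scoped Pointwise

/-- The subgroup generated by the `p`-elements. -/
def pEltClosure (p : ℕ) (A : Type*) [Group A] : Subgroup A :=
  Subgroup.closure {b : A | ∃ k : ℕ, orderOf b = p ^ k}

theorem pEltClosure_normal (p : ℕ) (A : Type*) [Group A] : (pEltClosure p A).Normal := by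
  refine ⟨fun n hn g => ?_⟩
  have : (pEltClosure p A).map (MulAut.conj g).toMonoidHom ≤ pEltClosure p A := by
    unfold pEltClosure
    rw [MonoidHom.map_closure, Subgroup.closure_le]
    rintro _ ⟨x, ⟨k, hk⟩, rfl⟩
    apply Subgroup.subset_closure
    refine ⟨k, ?_⟩
    show orderOf ((MulAut.conj g) x) = p ^ k
    rw [MulEquiv.orderOf_eq]
    exact hk
  exact this ⟨n, hn, by simp [MulAut.conj_apply]⟩

/-- Frattini argument for the subgroup generated by the `p`-elements. -/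
theorem frattini_pEltClosure {A : Type*} [Group A] [Finite A] (p : ℕ) [Fact p.Prime]
    (R : Sylow p A) (a : A) :
    ∃ ν κ : A, a = ν * κ ∧ ν ∈ Subgroup.normalizer ((R : Subgroup A) : Set A) ∧
      κ ∈ pEltClosure p A := by
  haveI := pEltClosure_normal p A
  have hRK : (R : Subgroup A) ≤ pEltClosure p A := by
    intro x hx
    apply Subgroup.subset_closure
    obtain ⟨k, hk⟩ := R.isPGroup' ⟨x, hx⟩
    have hk' : x ^ p ^ k = 1 := by
      have := congrArg Subtype.val hk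
      simpa using this
    obtain ⟨j, -, hj⟩ := (Nat.dvd_prime_pow (Fact.out : p.Prime)).mp (orderOf_dvd_of_pow_eq_one hk')
    exact ⟨j, hj⟩
  have h := Sylow.normalizer_sup_eq_top' R hRK
  have ha : a ∈ Subgroup.normalizer ((R : Subgroup A) : Set A) ⊔ pEltClosure p A := by
    have h1 := Subgroup.mem_top a
    rw [← h] at h1
    exact h1
  rw [← SetLike.mem_coe, Subgroup.mul_normal] at ha
  obtain ⟨ν, hν, κ, hκ, rfl⟩ := ha
  exact ⟨ν, κ, rfl, hν, hκ⟩

variable {Ω : Type*} [Group Ω] {S : Subgroup Ω}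

theorem fratDec_postcomp (F E' : FusionSystem S) {P : Subgroup Ω} {ξ φ : P →* Ω}
    (hξ : FratDec F E' P ξ) {β : MulAut S} (hβ : β ∈ F.autGroup S) (hξS : ∀ x, ξ x ∈ S)
    (hφ : ∀ x, φ x = ((β ⟨ξ x, hξS x⟩ : S) : Ω)) : FratDec F E' P φ := by
  obtain ⟨α, hα, φ₀, hφ₀, hξe⟩ := hξ
  refine ⟨β * α, Subgroup.mul_mem _ hβ hα, φ₀, hφ₀, fun x hx => ?_⟩
  rw [hφ x]
  show _ = ((β (α ⟨φ₀ x, hx⟩) : S) : Ω)
  congr 2
  exact Subtype.ext (hξe x hx)

/-- The system of Frattini-decomposed maps. -/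
def fratSys (F E' : FusionSystem S) (hAI : AutInv F E') : FusionSystem S where
  Hom P := {φ | φ ∈ F.Hom P ∧ FratDec F E' P φ}
  le_of_mem h := F.le_of_mem h.1
  injective_of_mem h := F.injective_of_mem h.1
  conj_mem := fun hP hg =>
    ⟨F.conj_mem hP hg, 1, Subgroup.one_mem _, _, E'.conj_mem hP hg, fun x hx => rfl⟩
  comp_mem := by
    intro P Q φ ψ hφ hψ h
    refine ⟨F.comp_mem hφ.1 hψ.1 h, ?_⟩
    obtain ⟨α, hα, φ₀, hφ₀, hφe⟩ := hφ.2
    obtain ⟨β, hβ, ψ₀, hψ₀, hψe⟩ := hψ.2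
    have hmem : ∀ x : P, ((α ⟨φ₀ x, (E'.le_of_mem hφ₀).2 x⟩ : S) : Ω) ∈ Q := by
      intro x
      rw [← hφe x]
      exact h x
    have hξ : FratDec F E' P (ψ₀.comp (φ.codRestrict Q h)) := by
      apply fratDec_of_comp_E F E' hAI hφ₀ hα hψ₀ _ hmem
      intro x
      show ψ₀ ⟨φ x, h x⟩ = _
      congr 1
      exact Subtype.ext (hφe x _)
    apply fratDec_postcomp F E' hξ hβ (fun x => (E'.le_of_mem hψ₀).2 _)
    intro x
    exact hψe ⟨φ x, h x⟩ _
  inv_mem := by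
    intro P φ hφ
    obtain ⟨ψ, hψ, hψe⟩ := F.inv_mem hφ.1
    refine ⟨ψ, ⟨hψ, ?_⟩, hψe⟩
    have hφR : ∀ y : ↥φ.range, ψ y ∈ P := by
      rintro ⟨_, x, rfl⟩
      rw [hψe]
      exact x.2
    have hrS : φ.range ≤ S := by
      rintro _ ⟨x, rfl⟩
      exact (F.le_of_mem hφ.1).2 x
    apply fratDec_cancel F E' hAI hφR hφ.2 φ.range.subtype
    · rintro ⟨_, x, rfl⟩
      show φ x = φ ⟨ψ ⟨φ x, _⟩, _⟩
      congr 1
      exact Subtype.ext (hψe x).symm
    · exact ⟨1, Subgroup.one_mem _, _, fs_subtype_mem E' hrS, fun x hx => rfl⟩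

theorem hom_subset_fratSys (F E' : FusionSystem S) (hsub : E'.IsSubsystemOf F) (hAI : AutInv F E')
    (P : Subgroup Ω) : E'.Hom P ⊆ (fratSys F E' hAI).Hom P :=
  fun φ hφ => ⟨hsub P hφ, 1, Subgroup.one_mem _, φ, hφ, fun x hx => rfl⟩

end Cfsg.Agent.Lib.Helper7
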