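import Mathlib
import Cfsg.Prelude.Def_FusionSystem
import Cfsg.Agent.Lib.Helper7.P5114c

set_option autoImplicit false

namespace Cfsg.Agent.Lib.Helper7

open Cfsg Cfsg.FusionSystem

variable {Ω : Type*} [Group Ω] {S : Subgroup Ω}

theorem le_fratSys [Finite S] (p : ℕ) [Fact p.Prime] (hS : IsPGroup p S) (F : FusionSystem S)
    (hF : F.IsSaturated p) (E' : FusionSystem S) (hsub : E'.IsSubsystemOf F) (hAI : AutInv F E')
    (hH : PElts F E' p) : F ≤ fratSys F E' hAI := by
  apply alperin_goldschmidt_strong p hS F hF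
  intro P hP ih
  by_cases hPS : P = S
  · rw [hPS]
    intro θ hθ
    rw [mem_autGroup_iff _ le_rfl]
    exact ⟨(mem_autGroup_iff F le_rfl θ).mp hθ, θ, hθ, S.subtype, fs_subtype_mem E' le_rfl,
      fun x hx => rfl⟩
  · rcases hP with hP | hP
    · exact absurd hP hPS
    obtain ⟨hcen, hFN, -⟩ := hP
    obtain ⟨R, hcR, hFA_R, hRec_R⟩ := hF P hcen.1
    obtain ⟨hFA, hRec⟩ :=
      isFullyAutomized_isReceptive_of_isFullyNormalized p hS F hFN hFA_R hRec_R hcR
    obtain ⟨hPS', Syl, hSyl⟩ := hFA
    haveI : Finite ↥P := finite_of_le hPS'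
    haveI : Finite (MulAut ↥P) := inferInstance
    intro θ hθ
    obtain ⟨ν, κ, hθe, hν, hκ⟩ := frattini_pEltClosure p Syl ⟨θ, hθ⟩
    have hθe' : θ = (ν : MulAut P) * (κ : MulAut P) := congrArg Subtype.val hθe
    rw [hθe']
    apply Subgroup.mul_mem
    · have hnorm : ∀ β ∈ autInducedBy S P,
          (ν : MulAut P) * β * (ν : MulAut P)⁻¹ ∈ autInducedBy S P := by
        intro β hβ
        have hβA : β ∈ F.autGroup P := autInducedBy_le_autGroup F hPS' hβ
        have h1 : (⟨β, hβA⟩ : F.autGroup P) ∈ (Syl : Subgroup _) := by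
          rw [hSyl]; exact Subgroup.mem_subgroupOf.mpr hβ
        have h2 := (Subgroup.mem_normalizer_iff.mp hν ⟨β, hβA⟩).mp h1
        rw [hSyl] at h2
        exact Subgroup.mem_subgroupOf.mp h2
      obtain ⟨β', hβ', hβ'e⟩ := exists_extension_to_normalizer F hRec ν ν.2 hnorm
      have hN := (mem_autGroup_iff F (normalizerIn_le S P) β').mp hβ'
      have hcard : Nat.card P < Nat.card (normalizerIn S P) :=
        card_lt_card_normalizerIn hS hPS' hPS
      have hD := ih _ _ hN hcard
      rw [mem_autGroup_iff _ hPS']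
      apply fs_mem_of_agree _ (le_normalizerIn hPS') hD
      intro x
      have := hβ'e x
      exact (congrArg Subtype.val this).symm
    · have hκE : (κ : MulAut P) ∈ E'.autGroup P := by
        have hle : pEltClosure p (F.autGroup P) ≤
            (E'.autGroup P).comap (F.autGroup P).subtype := by
          unfold pEltClosure
          rw [Subgroup.closure_le]
          rintro b ⟨k, hk⟩
          show (b : MulAut P) ∈ E'.autGroup P
          exact hH P hcen b b.2 ⟨k, by rw [← hk]; exact Subgroup.orderOf_coe b⟩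
        exact hle hκ
      rw [mem_autGroup_iff _ hPS']
      exact hom_subset_fratSys F E' hsub hAI P ((mem_autGroup_iff E' hPS' _).mp hκE)

/-- Every map of `F` is an element of `Aut_F(S)` composed with a map of `E`. -/
theorem fratDec_of_pElts [Finite S] (p : ℕ) [Fact p.Prime] (hS : IsPGroup p S) (F : FusionSystem S)
    (hF : F.IsSaturated p) (E : FusionSystem S) (hsub : E.IsSubsystemOf F)
    (hH : PElts F E p) (P : Subgroup Ω) (φ : P →* Ω) (hφ : φ ∈ F.Hom P) : FratDec F E P φ := by
  have hsub' : (hatSys F E).IsSubsystemOf F := fun Q ψ hψ => hsub Q (hatSys_le F E Q hψ)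
  have h1 := le_fratSys p hS F hF (hatSys F E) hsub' (autInv_hatSys F E) (pElts_hatSys F E p hH)
  obtain ⟨-, α, hα, φ₀, hφ₀, he⟩ := h1 P hφ
  exact ⟨α, hα, φ₀, hatSys_le F E P hφ₀, he⟩

end Cfsg.Agent.Lib.Helper7
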