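import Mathlib
import Cfsg.Prelude.Def_FusionSystem
import Cfsg.Agent.Lib.Helper7.P5114d

set_option autoImplicit false

namespace Cfsg.Agent.Lib.Helper7

open Cfsg Cfsg.FusionSystem

variable {Ω : Type*} [Group Ω] {S : Subgroup Ω}

/-- `Aut_E(P)` contains the `p`-elements of `Aut_F(P)` for every `P ≤ S`. -/
theorem pElts_all [Finite S] (p : ℕ) [Fact p.Prime] (hS : IsPGroup p S) (F : FusionSystem S)
    (hF : F.IsSaturated p) (E : FusionSystem S) (hsub : E.IsSubsystemOf F)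
    (hH : PElts F E p) (P : Subgroup Ω) (hPS : P ≤ S) (θ : MulAut P) (hθ : θ ∈ F.autGroup P)
    (k : ℕ) (hk : orderOf θ = p ^ k) : θ ∈ E.autGroup P := by
  obtain ⟨N', hc, hFN⟩ := exists_isFullyNormalized_conj F hPS
  obtain ⟨R, hcR, hFA_R, hRec_R⟩ := hF N' hFN.1
  obtain ⟨hFA, -⟩ :=
    isFullyAutomized_isReceptive_of_isFullyNormalized p hS F hFN hFA_R hRec_R hcR
  obtain ⟨θ', hθ', hr, s, hsS, hs⟩ := exists_hom_conj_of_pElt p F hFA hc θ hθ k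
    (by rw [← hk]; exact pow_orderOf_eq_one θ)
  obtain ⟨α, hα, θ₀, hθ₀, hθe⟩ := fratDec_of_pElts p hS F hF E hsub hH P θ' hθ'
  have hθ₀S := (E.le_of_mem hθ₀).2
  obtain ⟨s', hs'⟩ : ∃ s' : S, s' = α⁻¹ ⟨s, hsS⟩ := ⟨_, rfl⟩
  have key : ∀ n : P, θ₀ (θ n) = (s' : Ω) * θ₀ n * (s' : Ω)⁻¹ := by
    intro n
    have h1 := hs n
    rw [hθe (θ n) (hθ₀S _), hθe n (hθ₀S _)] at h1
    have h2 : α ⟨θ₀ (θ n), hθ₀S _⟩ = ⟨s, hsS⟩ * α ⟨θ₀ n, hθ₀S _⟩ * ⟨s, hsS⟩⁻¹ := Subtype.ext h1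
    have h3 := congrArg (fun z => (α⁻¹ : MulAut S) z) h2
    rw [MulAut.inv_apply_self, map_mul, map_mul, map_inv, MulAut.inv_apply_self, ← hs'] at h3
    exact congrArg Subtype.val h3
  have hR₀S : θ₀.range ≤ S := by
    rintro _ ⟨x, rfl⟩
    exact hθ₀S x
  have hconj : conjHom θ₀.range (s' : Ω) ∈ E.Hom θ₀.range := E.conj_mem hR₀S s'.2
  obtain ⟨ψ, hψ, hψe⟩ := E.inv_mem hθ₀
  have hξ₁ : θ₀.comp θ.toMonoidHom ∈ E.Hom P :=
    fs_comp_mem_of_agree E hθ₀ hconj (fun x => ⟨x, rfl⟩) _ (fun x => key x)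
  rw [mem_autGroup_iff E hPS]
  exact fs_comp_mem_of_agree E hξ₁ hψ (fun x => ⟨θ x, rfl⟩) _ (fun x => (hψe (θ x)).symm)

/-- Centric subgroups of `E` and `F` coincide. -/
theorem isCentric_iff_of_pElts [Finite S] (p : ℕ) [Fact p.Prime] (hS : IsPGroup p S)
    (F : FusionSystem S) (hF : F.IsSaturated p) (E : FusionSystem S) (hsub : E.IsSubsystemOf F)
    (hH : PElts F E p) (P : Subgroup Ω) : E.IsCentric P ↔ F.IsCentric P := by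
  constructor
  · intro hP
    refine ⟨hP.1, ?_⟩
    rintro Q ⟨φ, hφ, rfl⟩
    obtain ⟨α, hα, φ₀, hφ₀, he⟩ := fratDec_of_pElts p hS F hF E hsub hH P φ hφ
    have hφ₀S := (E.le_of_mem hφ₀).2
    have h0 := hP.2 φ₀.range ⟨φ₀, hφ₀, rfl⟩
    intro c hc
    obtain ⟨c', hc'⟩ : ∃ c' : S, c' = α⁻¹ ⟨c, hc.1⟩ := ⟨_, rfl⟩
    have hc'C : (c' : Ω) ∈ centralizerIn S φ₀.range := by
      refine ⟨c'.2, ?_⟩
      show (c' : Ω) ∈ Subgroup.centralizer _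
      rw [Subgroup.mem_centralizer_iff]
      rintro _ ⟨x, rfl⟩
      have h1 := (Subgroup.mem_centralizer_iff.mp hc.2) (φ x) ⟨x, rfl⟩
      rw [he x (hφ₀S x)] at h1
      have h2 : α ⟨φ₀ x, hφ₀S x⟩ * ⟨c, hc.1⟩ = ⟨c, hc.1⟩ * α ⟨φ₀ x, hφ₀S x⟩ := Subtype.ext h1
      have h3 := congrArg (fun z => (α⁻¹ : MulAut S) z) h2
      rw [map_mul, map_mul, MulAut.inv_apply_self, ← hc'] at h3
      exact congrArg Subtype.val h3
    obtain ⟨x₁, hx₁⟩ := h0 hc'C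
    refine ⟨x₁, ?_⟩
    rw [he x₁ (hφ₀S x₁)]
    have h4 : (⟨φ₀ x₁, hφ₀S x₁⟩ : S) = c' := Subtype.ext hx₁
    rw [h4, hc', MulAut.apply_inv_self]
  · intro hP
    exact ⟨hP.1, fun Q ⟨φ, hφ, hr⟩ => hP.2 Q ⟨φ, hsub P hφ, hr⟩⟩

/-- The whole statement. -/
theorem primeToPIndex_of_centrics [Finite S] (p : ℕ) [Fact p.Prime] (hS : IsPGroup p S)
    (F : FusionSystem S) (hF : F.IsSaturated p) (E : FusionSystem S) (hEF : E.IsSubsystemOf F)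
    (h : ∀ P : Subgroup Ω, F.IsCentric P →
      (Subgroup.closure {α : ↥(F.autGroup P) | ∃ k : ℕ, orderOf α = p ^ k}).map
        (F.autGroup P).subtype ≤ E.autGroup P) :
    E.HasPrimeToPIndexIn F p ∧
      (∀ (P : Subgroup Ω) (φ : P →* Ω), φ ∈ F.Hom P → ∃ α ∈ F.autGroup S, ∃ φ₀ ∈ E.Hom P,
        ∀ (x : P) (hx : φ₀ x ∈ S), φ x = ((α ⟨φ₀ x, hx⟩ : S) : Ω)) ∧
      ∀ P : Subgroup Ω, E.IsCentric P ↔ F.IsCentric P := by
  have hH := pElts_of_closure F E p h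
  refine ⟨⟨hEF, fun P hPS => ?_⟩, fun P φ hφ => fratDec_of_pElts p hS F hF E hEF hH P φ hφ,
    fun P => isCentric_iff_of_pElts p hS F hF E hEF hH P⟩
  rw [Subgroup.map_le_iff_le_comap, Subgroup.closure_le]
  rintro b ⟨k, hk⟩
  show (b : MulAut P) ∈ E.autGroup P
  exact pElts_all p hS F hF E hEF hH P hPS b b.2 k (by rw [← hk]; exact Subgroup.orderOf_coe b)

end Cfsg.Agent.Lib.Helper7
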