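import Mathlib
import Cfsg.Prelude.Def_LocalStructure
import Cfsg.Prelude.Def_CaseTheorems
import Cfsg.Agent.Lib.Helper7.WCFact
import Cfsg.Agent.Lib.Helper7.Large3
import Cfsg.Agent.Lib.Helper7.PIrreducible3
import Cfsg.Agent.H2.QuasisimplePRes
import Cfsg.Agent.H2.PComponent2
import Cfsg.Agent.Lib.Lead.Quasisimple

set_option autoImplicit false

namespace Cfsg.Agent.Lib.Helper7.QSection

open Cfsg Cfsg.Agent.Lib.Helper7 Cfsg.Agent.Lib.Lead.Conj Cfsg.Agent.Lib.Helper7.LargeComm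
  Cfsg.Agent.Lib.Helper7.AsymH
open scoped Pointwise commutatorElement

variable {G : Type*} [Group G] {p : ℕ}

section bar

variable (E C : Subgroup G) [hn : (C.subgroupOf E).Normal]

/-- image of `X ∩ E` in `E / C_E` -/
def bar (X : Subgroup G) : Subgroup (↥E ⧸ C.subgroupOf E) :=
  (X.subgroupOf E).map (QuotientGroup.mk' (C.subgroupOf E))

variable {E C}

theorem bar_commutator {X Z : Subgroup G} (hX : X ≤ E) (hZ : Z ≤ E) :
    bar E C ⁅X, Z⁆ = ⁅bar E C X, bar E C Z⁆ := by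
  unfold bar
  rw [← Subgroup.map_commutator]
  congr 1
  apply Subgroup.map_injective E.subtype_injective
  rw [Subgroup.map_commutator, Subgroup.map_subgroupOf_eq_of_le hX,
    Subgroup.map_subgroupOf_eq_of_le hZ, Subgroup.map_subgroupOf_eq_of_le]
  exact (Subgroup.commutator_mono hX hZ).trans (Subgroup.commutator_le_self E)

theorem le_sup_of_bar_le {X Z : Subgroup G} (hX : X ≤ E) (hZ : Z ≤ E)
    (h : bar E C X ≤ bar E C Z) : X ≤ Z ⊔ (E ⊓ C) := by
  unfold bar at h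
  rw [Subgroup.map_le_map_iff, QuotientGroup.ker_mk'] at h
  have h2 := Subgroup.map_mono (f := E.subtype) h
  rw [Subgroup.map_sup, Subgroup.map_subgroupOf_eq_of_le hX, Subgroup.map_subgroupOf_eq_of_le hZ,
    Subgroup.subgroupOf_map_subtype, inf_comm] at h2
  exact h2

theorem bar_le_of_le_sup {X Z : Subgroup G} (hZ : Z ≤ E)
    (h : X ≤ Z ⊔ (E ⊓ C)) : bar E C X ≤ bar E C Z := by
  unfold bar
  rw [Subgroup.map_le_map_iff, QuotientGroup.ker_mk']
  intro x hx
  have hx' : (x : G) ∈ Z ⊔ (E ⊓ C) := h (Subgroup.mem_subgroupOf.mp hx)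
  have e : (Z ⊔ (E ⊓ C)).subgroupOf E = Z.subgroupOf E ⊔ (E ⊓ C).subgroupOf E :=
    Subgroup.subgroupOf_sup hZ inf_le_left
  have e2 : (E ⊓ C).subgroupOf E = C.subgroupOf E := by
    rw [inf_comm]; exact Subgroup.inf_subgroupOf_right C E
  rw [← e2, ← e]
  exact Subgroup.mem_subgroupOf.mpr hx'

theorem bar_eq_bot_iff {X : Subgroup G} (hX : X ≤ E) : bar E C X = ⊥ ↔ X ≤ C := by
  unfold bar
  rw [Subgroup.map_eq_bot_iff, QuotientGroup.ker_mk']
  constructor
  · intro h x hx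
    exact Subgroup.mem_subgroupOf.mp (h (Subgroup.mem_subgroupOf.mpr hx : (⟨x, hX hx⟩ : ↥E) ∈ _))
  · intro h x hx
    exact Subgroup.mem_subgroupOf.mpr (h (Subgroup.mem_subgroupOf.mp hx))

theorem bar_isPGroup {X : Subgroup G} (hX : IsPGroup p ↥X) : IsPGroup p ↥(bar E C X) :=
  (hX.comap_subtype (K := E)).map _

theorem bar_normal {X : Subgroup G} (hX : X ≤ E) (hEX : E ≤ Subgroup.normalizer (X : Set G)) :
    (bar E C X).Normal := by
  have : (X.subgroupOf E).Normal := (Subgroup.normal_subgroupOf_iff_le_normalizer hX).mpr hEX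
  exact Subgroup.Normal.map this _ (QuotientGroup.mk'_surjective _)

theorem bar_pRes [Finite G] [Fact p.Prime] :
    bar E C ((pResidual p ↥E).map E.subtype) = pResidual p (↥E ⧸ C.subgroupOf E) := by
  unfold bar
  have e : ((pResidual p ↥E).map E.subtype).subgroupOf E = pResidual p ↥E :=
    Subgroup.comap_map_eq_self_of_injective E.subtype_injective _
  rw [e]
  exact pResidual_map_of_surjective _ (QuotientGroup.mk'_surjective _)

theorem bar_mono {X Z : Subgroup G} (h : X ≤ Z) : bar E C X ≤ bar E C Z :=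
  Subgroup.map_mono (Subgroup.subgroupOf_mono _ h)

end bar

section qs

variable {Eb : Type*} [Group Eb] [Finite Eb] [Fact p.Prime]

theorem comm_pRes_eq (hO : pCore p Eb = ⊥) (hq : IsQuasisimple ↥(pResidual p Eb))
    (Y : Subgroup Eb) (hY : IsPGroup p ↥Y) (hY1 : Y ≠ ⊥) :
    ⁅pResidual p Eb, Y⁆ = pResidual p Eb := by
  have hp : p.Prime := Fact.out
  have hdvd : p ∣ Nat.card Eb := by
    obtain ⟨k, hk⟩ := IsPGroup.iff_card.mp hY
    have hk0 : k ≠ 0 := by
      intro h0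
      rw [h0, pow_zero] at hk
      exact hY1 (Subgroup.card_eq_one.mp hk)
    have h1 : p ∣ Nat.card ↥Y := by rw [hk]; exact dvd_pow_self p hk0
    exact h1.trans (Subgroup.card_subgroup_dvd_card Y)
  exact ((Cfsg.Agent.H2.QsPRes.main hdvd hO hq).2.1 Y hY hY1).1

end qs

section main

variable [Finite G] [Fact p.Prime]

/-- Hypotheses of the quasisimple section lemma. -/
structure QCtx (p : ℕ) (Q U E : Subgroup G) : Prop where
  hQp : IsPGroup p ↥Q
  hQ1 : Q ≠ ⊥
  hQ : IsLarge Q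
  hUp : IsPGroup p ↥U
  hU1 : U ≠ ⊥
  hQE : Q ≤ E
  hEU : E ≤ Subgroup.normalizer (U : Set G)
  hQn : ¬ E ≤ Subgroup.normalizer (Q : Set G)

variable {Q U E : Subgroup G}

theorem QCtx.hwc (h : QCtx p Q U E) : IsWeaklyClosedSubgroup p Q :=
  isLarge_isWeaklyClosedSubgroup h.hQp h.hQ1 h.hQ

omit [Finite G] [Fact p.Prime] in
theorem QCtx.le_normalizer_C (h : QCtx p Q U E) :
    E ≤ Subgroup.normalizer ((Subgroup.centralizer (U : Set G) : Subgroup G) : Set G) :=
  h.hEU.trans (normalizer_le_normalizer_centralizer'' _)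

omit [Finite G] [Fact p.Prime] in
theorem QCtx.le_normalizer_CE (h : QCtx p Q U E) :
    E ≤ Subgroup.normalizer ((E ⊓ Subgroup.centralizer (U : Set G) : Subgroup G) : Set G) := by
  intro x hx
  exact WCFact.mem_normalizer_inf_of_mem (Subgroup.le_normalizer hx) (h.le_normalizer_C hx)

/-- `[W, C] ≤ O_p(W)` for `W` the weak closure of `Q` in `E`. -/
theorem QCtx.comm_W_C (h : QCtx p Q U E) :
    ⁅nc E Q, Subgroup.centralizer (U : Set G)⁆ ≤ pCoreOf p (nc E Q) := by
  have := (large_weakClosure_centralizer Q h.hQp h.hQ1 h.hQ E h.hQE U h.hUp h.hU1 h.hEU).2.1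
  rwa [WCFact.weakClosure_eq_nc h.hQp h.hwc h.hQE] at this

/-- `Q` does not centralize `U`. -/
theorem QCtx.not_le (h : QCtx p Q U E) : ¬ Q ≤ Subgroup.centralizer (U : Set G) := by
  intro hQC
  apply h.hQn
  obtain ⟨W, hWdef⟩ : ∃ W, W = nc E Q := ⟨_, rfl⟩
  have hQW : Q ≤ W := hWdef ▸ le_nc E Q
  have hWC : W ≤ Subgroup.centralizer (U : Set G) := by
    rw [hWdef]
    exact (nc_le_of_le (le_inf h.hQE hQC) h.le_normalizer_CE).trans inf_le_right
  have hWW : ⁅W, W⁆ ≤ pCoreOf p W := by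
    have := h.comm_W_C
    rw [← hWdef] at this
    exact (Subgroup.commutator_mono le_rfl hWC).trans this
  have hBp : IsPGroup p ↥(pCoreOf p W ⊔ Q) :=
    IsPGroup.to_sup_of_normal_left' (pCoreOf_isPGroup W) h.hQp (hQW.trans (le_normalizer_pCoreOf W))
  have hWn : W ≤ Subgroup.normalizer ((pCoreOf p W ⊔ Q : Subgroup G) : Set G) :=
    WCFact.le_normalizer_sup_of_commutator_le (le_normalizer_pCoreOf W)
      ((Subgroup.commutator_mono le_rfl hQW).trans hWW)
  have hWB : W ≤ pCoreOf p W ⊔ Q := by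
    have h1 : nc W Q = W := by rw [hWdef]; exact WCFact.nc_nc h.hQp h.hwc h.hQE
    exact h1.ge.trans (nc_le_of_le le_sup_right hWn)
  have hWp : IsPGroup p ↥W := hBp.to_le hWB
  intro e he
  apply mem_normalizer_of_cj_eq
  apply IsWeaklyClosedSubgroup.eq_of_le h.hwc hWp hQW
  rw [hWdef]
  exact WCFact.cj_le_nc he

variable [hn : ((Subgroup.centralizer (U : Set G)).subgroupOf E).Normal]

/-- pull-back of `K̄ = [K̄, Ȳ]` -/
theorem QCtx.le_comm_sup (_h : QCtx p Q U E)
    (hred : pCore p (↥E ⧸ (Subgroup.centralizer (U : Set G)).subgroupOf E) = ⊥)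
    (hqs : IsQuasisimple ↥(pResidual p (↥E ⧸ (Subgroup.centralizer (U : Set G)).subgroupOf E)))
    {X Y : Subgroup G} (hXE : X ≤ E)
    (hX : bar E (Subgroup.centralizer (U : Set G)) X =
      pResidual p (↥E ⧸ (Subgroup.centralizer (U : Set G)).subgroupOf E))
    (hYE : Y ≤ E) (hYp : IsPGroup p ↥Y) (hYC : ¬ Y ≤ Subgroup.centralizer (U : Set G)) :
    X ≤ ⁅X, Y⁆ ⊔ (E ⊓ Subgroup.centralizer (U : Set G)) := by
  have h1 : bar E (Subgroup.centralizer (U : Set G)) Y ≠ ⊥ := by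
    rw [Ne, bar_eq_bot_iff hYE]; exact hYC
  have h2 := comm_pRes_eq hred hqs _ (bar_isPGroup hYp) h1
  apply le_sup_of_bar_le hXE ((Subgroup.commutator_mono hXE hYE).trans (Subgroup.commutator_le_self E))
  rw [bar_commutator hXE hYE, hX, h2]

omit [Finite G] [Fact p.Prime] in
/-- pull-back of `K̄ = [K̄, K̄]` -/
theorem QCtx.le_comm_self_sup (_h : QCtx p Q U E)
    (hqs : IsQuasisimple ↥(pResidual p (↥E ⧸ (Subgroup.centralizer (U : Set G)).subgroupOf E)))
    {X : Subgroup G} (hXE : X ≤ E)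
    (hX : bar E (Subgroup.centralizer (U : Set G)) X =
      pResidual p (↥E ⧸ (Subgroup.centralizer (U : Set G)).subgroupOf E)) :
    X ≤ ⁅X, X⁆ ⊔ (E ⊓ Subgroup.centralizer (U : Set G)) := by
  apply le_sup_of_bar_le hXE ((Subgroup.commutator_mono hXE hXE).trans (Subgroup.commutator_le_self E))
  rw [bar_commutator hXE hXE, hX, Cfsg.Agent.H2.quasisimple_commutator_eq hqs]

/-- `O^p(E) C_E(U) = E_∘ C_E(U)` -/
theorem QCtx.pRes_sup_eq (h : QCtx p Q U E)
    (hred : pCore p (↥E ⧸ (Subgroup.centralizer (U : Set G)).subgroupOf E) = ⊥)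
    (hqs : IsQuasisimple ↥(pResidual p (↥E ⧸ (Subgroup.centralizer (U : Set G)).subgroupOf E))) :
    (pResidual p ↥E).map E.subtype ⊔ (E ⊓ Subgroup.centralizer (U : Set G)) =
      (pResidual p ↥(nc E Q)).map (nc E Q).subtype ⊔ (E ⊓ Subgroup.centralizer (U : Set G)) := by
  obtain ⟨K, hKdef⟩ : ∃ K, K = (pResidual p ↥E).map E.subtype := ⟨_, rfl⟩
  obtain ⟨W, hWdef⟩ : ∃ W, W = nc E Q := ⟨_, rfl⟩
  obtain ⟨Er, hErdef⟩ : ∃ Er, Er = (pResidual p ↥W).map W.subtype := ⟨_, rfl⟩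
  obtain ⟨CE, hCEdef⟩ : ∃ CE, CE = E ⊓ Subgroup.centralizer (U : Set G) := ⟨_, rfl⟩
  rw [← hWdef, ← hKdef, ← hErdef, ← hCEdef]
  have hKE : K ≤ E := hKdef ▸ AsymH.pRes_le E
  have hWE : W ≤ E := hWdef ▸ nc_le h.hQE
  have hErK : Er ≤ K := by rw [hErdef, hKdef]; exact AsymH.pRes_mono hWE
  have hEW : E ≤ Subgroup.normalizer (W : Set G) := hWdef ▸ le_normalizer_nc E Q
  have hEEr : E ≤ Subgroup.normalizer (Er : Set G) :=
    hErdef ▸ le_normalizer_pRes_of_le_normalizer hEW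
  have hECE : E ≤ Subgroup.normalizer (CE : Set G) := hCEdef ▸ h.le_normalizer_CE
  have hWsup : W = Er ⊔ Q := by
    rw [hErdef, hWdef]; exact WCFact.nc_eq_pRes_sup h.hQp h.hwc h.hQE
  apply le_antisymm _ (sup_le (hErK.trans le_sup_left) le_sup_right)
  apply sup_le _ le_sup_right
  have hbarK : bar E (Subgroup.centralizer (U : Set G)) K =
      pResidual p (↥E ⧸ (Subgroup.centralizer (U : Set G)).subgroupOf E) := hKdef ▸ bar_pRes
  have h1 := h.le_comm_sup hred hqs hKE hbarK h.hQE h.hQp h.not_le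
  have h2 : ⁅K, Q⁆ ≤ W := by
    rw [Subgroup.commutator_le]
    intro k hk q hq
    have e : ⁅k, q⁆ = (k * q * k⁻¹) * q⁻¹ := by simp only [commutatorElement_def]
    rw [e, hWdef]
    exact Subgroup.mul_mem _ (WCFact.cj_le_nc (hKE hk) ⟨q, hq, rfl⟩)
      (Subgroup.inv_mem _ (le_nc E Q hq))
  have h3 : K ≤ W ⊔ CE := by
    rw [← hCEdef] at h1
    exact h1.trans (sup_le (h2.trans le_sup_left) le_sup_right)
  have h4 : (pResidual p ↥K).map K.subtype = K := by rw [hKdef]; exact WCFact.pRes_pRes E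
  have h5 : (pResidual p ↥(W ⊔ CE)).map (W ⊔ CE).subtype ≤ Er ⊔ CE := by
    apply pRes_le_of_sup_eq (R := Q) _ h.hQp
    · rw [hWsup]
      exact sup_le (sup_le (le_sup_left.trans le_sup_right) le_sup_left)
        (le_sup_right.trans le_sup_right)
    · exact le_normalizer_sup' (h.hQE.trans hEEr) (h.hQE.trans hECE)
  rw [← h4]
  exact (AsymH.pRes_mono h3).trans h5

omit [Finite G] [Fact p.Prime] hn in
/-- a form of Dedekind's law -/
theorem dedekind {D X CE : Subgroup G} (hD : D ≤ X)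
    (hn : D ≤ Subgroup.normalizer (CE : Set G)) (h : X ≤ D ⊔ CE) : X ≤ (X ⊓ CE) ⊔ D := by
  intro x hx
  have hx' : x ∈ CE ⊔ D := by rw [sup_comm]; exact h hx
  obtain ⟨c, hc, d, hd, rfl⟩ := WCFact.exists_mul_of_mem_sup_normalizer hn hx'
  have hcX : c ∈ X := by
    have e : c = c * d * d⁻¹ := by group
    rw [e]
    exact X.mul_mem hx (X.inv_mem (hD hd))
  exact Subgroup.mul_mem _ ((le_sup_left : X ⊓ CE ≤ _) ⟨hcX, hc⟩) ((le_sup_right : D ≤ _) hd)

omit hn in
theorem main (Q : Subgroup G) (hQp : IsPGroup p ↥Q) (hQ1 : Q ≠ ⊥)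
    (hQ : Cfsg.IsLarge Q) (U : Subgroup G) (hU : Cfsg.IsElementaryAbelian p U) (hU1 : U ≠ ⊥)
    (E : Subgroup G) (hQE : Q ≤ E) (hEU : E ≤ Subgroup.normalizer ((U : Subgroup G) : Set G))
    (hQn : ¬ E ≤ Subgroup.normalizer ((Q : Subgroup G) : Set G))
    [hn : ((Subgroup.centralizer ((U : Subgroup G) : Set G)).subgroupOf E).Normal]
    (hred : Cfsg.pCore p (↥E ⧸ (Subgroup.centralizer ((U : Subgroup G) : Set G)).subgroupOf E) = ⊥)
    (hqs : Cfsg.IsQuasisimple ↥(((Cfsg.pResidual p ↥E) ⊔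
      (Subgroup.centralizer ((U : Subgroup G) : Set G)).subgroupOf E).map
        (QuotientGroup.mk' ((Subgroup.centralizer ((U : Subgroup G) : Set G)).subgroupOf E))))
    (Er : Subgroup G)
    (hEr : Er = ((Cfsg.pResidual p ↥(Cfsg.weakClosure Q E)).map ((Cfsg.weakClosure Q E)).subtype))
    [hn2 : ((Subgroup.centralizer ((U : Subgroup G) : Set G)).subgroupOf Er).Normal] :
    ((Cfsg.pResidual p ↥E).map (E).subtype) ⊔ (E ⊓ Subgroup.centralizer ((U : Subgroup G) : Set G)) =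
      Er ⊔ (E ⊓ Subgroup.centralizer ((U : Subgroup G) : Set G)) ∧
    ⁅Er, Er⁆ = Er ∧ ((Cfsg.pResidual p ↥Er).map (Er).subtype) = Er ∧
    Cfsg.IsQuasisimple (↥Er ⧸ (Subgroup.centralizer ((U : Subgroup G) : Set G)).subgroupOf Er) ∧
    Cfsg.IsQuasisimple (↥Er ⧸ Cfsg.pCore p ↥Er) ∧
    ∀ Y : Subgroup G, Y ≤ E → IsPGroup p ↥Y →
      ¬ Y ≤ Subgroup.centralizer ((U : Subgroup G) : Set G) → ⁅Er, Y⁆ = Er := by
  have hUp : IsPGroup p ↥U := by
    intro x
    refine ⟨1, ?_⟩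
    apply Subtype.ext
    rw [pow_one, Subgroup.coe_pow, Subgroup.coe_one]
    exact hU.2 x x.2
  have h : QCtx p Q U E := ⟨hQp, hQ1, hQ, hUp, hU1, hQE, hEU, hQn⟩
  have hwc := h.hwc
  obtain ⟨C, hCdef⟩ : ∃ C, C = Subgroup.centralizer ((U : Subgroup G) : Set G) := ⟨_, rfl⟩
  -- the quasisimple hypothesis in terms of `O^p(Ē)`
  have hKbar : ((Cfsg.pResidual p ↥E) ⊔
      (Subgroup.centralizer ((U : Subgroup G) : Set G)).subgroupOf E).map
        (QuotientGroup.mk' ((Subgroup.centralizer ((U : Subgroup G) : Set G)).subgroupOf E)) =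
      pResidual p (↥E ⧸ (Subgroup.centralizer ((U : Subgroup G) : Set G)).subgroupOf E) := by
    rw [Subgroup.map_sup, pResidual_map_of_surjective _ (QuotientGroup.mk'_surjective _),
      QuotientGroup.map_mk'_self, sup_bot_eq]
  rw [hKbar] at hqs
  have hErdef : Er = (pResidual p ↥(nc E Q)).map (nc E Q).subtype := by
    rw [hEr, WCFact.weakClosure_eq_nc hQp hwc hQE]
  have h1 := h.pRes_sup_eq hred hqs
  rw [← hErdef] at h1
  obtain ⟨W, hWdef⟩ : ∃ W, W = nc E Q := ⟨_, rfl⟩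
  rw [← hWdef] at hErdef
  have hQW : Q ≤ W := hWdef ▸ le_nc E Q
  have hWE : W ≤ E := hWdef ▸ nc_le hQE
  have hErW : Er ≤ W := hErdef ▸ AsymH.pRes_le W
  have hErE : Er ≤ E := hErW.trans hWE
  have hEW : E ≤ Subgroup.normalizer (W : Set G) := hWdef ▸ le_normalizer_nc E Q
  have hEEr : E ≤ Subgroup.normalizer (Er : Set G) :=
    hErdef ▸ le_normalizer_pRes_of_le_normalizer hEW
  have hErQ : ⁅Er, Q⁆ = Er := by
    rw [hErdef, hWdef]; exact WCFact.pRes_nc_commutator hQp hwc hQE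
  have hpp : (pResidual p ↥Er).map Er.subtype = Er := by
    rw [hErdef]; exact WCFact.pRes_pRes W
  have hECE := h.le_normalizer_CE
  have hbarEr : bar E (Subgroup.centralizer (U : Set G)) Er =
      pResidual p (↥E ⧸ (Subgroup.centralizer ((U : Subgroup G) : Set G)).subgroupOf E) := by
    rw [← bar_pRes]
    apply le_antisymm
    · exact bar_le_of_le_sup (AsymH.pRes_le E) (le_sup_left.trans h1.ge)
    · exact bar_le_of_le_sup hErE (le_sup_left.trans h1.le)
  have hcomm : ⁅W, Subgroup.centralizer (U : Set G)⁆ ≤ pCoreOf p W := hWdef ▸ h.comm_W_C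
  have hOW : pCoreOf p W ⊓ Er ≤ pCoreOf p Er := by
    apply le_pCoreOf inf_le_right _ ((pCoreOf_isPGroup W).to_le inf_le_left)
    intro x hx
    exact WCFact.mem_normalizer_inf_of_mem (le_normalizer_pCoreOf W (hErW hx))
      (Subgroup.le_normalizer hx)
  have hN₀W : ∀ X : Subgroup G, X ≤ W →
      ⁅Er ⊓ (E ⊓ Subgroup.centralizer (U : Set G)), X⁆ ≤ pCoreOf p W := by
    intro X hX
    rw [Subgroup.commutator_comm]
    exact (Subgroup.commutator_mono hX (inf_le_right.trans inf_le_right)).trans hcomm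
  have hN₀Er : ⁅Er ⊓ (E ⊓ Subgroup.centralizer (U : Set G)), Er⁆ ≤ pCoreOf p Er :=
    (le_inf (hN₀W Er hErW) ((Subgroup.commutator_mono inf_le_left le_rfl).trans
      (Subgroup.commutator_le_self Er))).trans hOW
  have hN₀Q : ⁅Er ⊓ (E ⊓ Subgroup.centralizer (U : Set G)), Q⁆ ≤ pCoreOf p Er :=
    (le_inf (hN₀W Q hQW) ((Subgroup.commutator_mono inf_le_left le_rfl).trans hErQ.le)).trans hOW
  -- normal subgroups `D` of `Er` with `Er ≤ D (Er ∩ C_E)` contain `[Er, X]`-type elements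
  have hkey : ∀ D X : Subgroup G, D ≤ Er → Er ⊔ X ≤ Subgroup.normalizer (D : Set G) →
      Er ≤ D ⊔ (E ⊓ Subgroup.centralizer (U : Set G)) →
      ⁅Er ⊓ (E ⊓ Subgroup.centralizer (U : Set G)), X⁆ ≤ pCoreOf p Er →
      ⁅Er, X⁆ ≤ pCoreOf p Er ⊔ D := by
    intro D X hDEr hnD hsup hcx
    have hd := dedekind hDEr ((hDEr.trans hErE).trans hECE) hsup
    rw [Subgroup.commutator_le]
    intro a ha x hx
    have hDn : D ≤ Subgroup.normalizer
        ((Er ⊓ (E ⊓ Subgroup.centralizer (U : Set G)) : Subgroup G) : Set G) := by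
      intro d hd'
      exact WCFact.mem_normalizer_inf_of_mem (Subgroup.le_normalizer (hDEr hd'))
        (hECE (hErE (hDEr hd')))
    obtain ⟨c, hc, d, hd', rfl⟩ := WCFact.exists_mul_of_mem_sup_normalizer hDn (hd ha)
    rw [comm_mul_left]
    apply Subgroup.mul_mem
    · apply (le_sup_right : D ≤ pCoreOf p Er ⊔ D)
      have h2 : ⁅d, x⁆ ∈ D := by
        have h3 : x * d⁻¹ * x⁻¹ ∈ D :=
          conj_mem_of_le_normalizer hnD ((le_sup_right : X ≤ Er ⊔ X) hx) (D.inv_mem hd')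
        have e : ⁅d, x⁆ = d * (x * d⁻¹ * x⁻¹) := by simp only [commutatorElement_def]; group
        rw [e]
        exact D.mul_mem hd' h3
      exact conj_mem_of_le_normalizer hnD ((le_sup_left : Er ≤ Er ⊔ X) hc.1) h2
    · exact (le_sup_left : pCoreOf p Er ≤ pCoreOf p Er ⊔ D)
        (hcx (Subgroup.commutator_mem_commutator hc hx))
  have hOn : ∀ D : Subgroup G, Er ≤ Subgroup.normalizer (D : Set G) →
      pCoreOf p Er ≤ Subgroup.normalizer (D : Set G) := fun D hD => (pCoreOf_le Er).trans hD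
  -- (2) `Er` is perfect
  have hperf : ⁅Er, Er⁆ = Er := by
    apply le_antisymm (Subgroup.commutator_le_self Er)
    have hnD : E ≤ Subgroup.normalizer ((⁅Er, Er⁆ : Subgroup G) : Set G) :=
      AsymH.le_normalizer_commutator hEEr hEEr
    have h2 := h.le_comm_self_sup hqs hErE hbarEr
    have h3 := hkey ⁅Er, Er⁆ Q (Subgroup.commutator_le_self Er)
      (sup_le (hErE.trans hnD) (hQE.trans hnD)) h2 hN₀Q
    rw [hErQ] at h3
    have h4 := pRes_le_of_sup_eq (hOn _ (hErE.trans hnD)) (pCoreOf_isPGroup Er) h3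
    rwa [hpp] at h4
  -- (4)
  have hq4 : Cfsg.IsQuasisimple
      (↥Er ⧸ (Subgroup.centralizer ((U : Subgroup G) : Set G)).subgroupOf Er) := by
    let f : ↥Er →* ↥E ⧸ (Subgroup.centralizer ((U : Subgroup G) : Set G)).subgroupOf E :=
      (QuotientGroup.mk' ((Subgroup.centralizer ((U : Subgroup G) : Set G)).subgroupOf E)).comp
        (Subgroup.inclusion hErE)
    have hker : f.ker = (Subgroup.centralizer ((U : Subgroup G) : Set G)).subgroupOf Er := by
      ext x
      rw [MonoidHom.mem_ker, MonoidHom.comp_apply, QuotientGroup.mk'_apply,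
        QuotientGroup.eq_one_iff, Subgroup.mem_subgroupOf, Subgroup.mem_subgroupOf]
      rfl
    have hrange : f.range =
        pResidual p (↥E ⧸ (Subgroup.centralizer ((U : Subgroup G) : Set G)).subgroupOf E) := by
      rw [MonoidHom.range_comp, Subgroup.inclusion_range]
      exact hbarEr
    have e1 : ↥Er ⧸ (Subgroup.centralizer ((U : Subgroup G) : Set G)).subgroupOf Er ≃* ↥Er ⧸ f.ker :=
      QuotientGroup.quotientMulEquivOfEq hker.symm
    have e2 : ↥Er ⧸ f.ker ≃* ↥f.range := QuotientGroup.quotientKerEquivRange f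
    have e3 : ↥f.range ≃*
        ↥(pResidual p (↥E ⧸ (Subgroup.centralizer ((U : Subgroup G) : Set G)).subgroupOf E)) :=
      MulEquiv.subgroupCongr hrange
    exact Cfsg.Agent.Lib.Lead.Quasisimple.of_mulEquiv ((e1.trans e2).trans e3).symm hqs
  -- (5)
  have hq5 : Cfsg.IsQuasisimple (↥Er ⧸ Cfsg.pCore p ↥Er) := by
    have hperf' : Group.IsPerfect ↥Er := Subgroup.isPerfect_iff.2 hperf
    have hperfK : Group.IsPerfect (↥Er ⧸ pCore p ↥Er) :=
      Group.IsPerfect.ofSurjective (f := QuotientGroup.mk' (pCore p ↥Er))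
        (QuotientGroup.mk'_surjective _)
    have hOC' : pCoreOf p Er ≤ Subgroup.centralizer ((U : Subgroup G) : Set G) := by
      have hOE : pCoreOf p Er ≤ E := (pCoreOf_le Er).trans hErE
      rw [← bar_eq_bot_iff (E := E) hOE, eq_bot_iff, ← hred]
      have hnorm := bar_normal (C := Subgroup.centralizer ((U : Subgroup G) : Set G)) hOE
        (le_normalizer_pCoreOf_of_le_normalizer hEEr)
      exact le_pCore hnorm (bar_isPGroup (pCoreOf_isPGroup Er))
    have hOC : pCore p ↥Er ≤ (Subgroup.centralizer ((U : Subgroup G) : Set G)).subgroupOf Er := by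
      intro x hx
      rw [Subgroup.mem_subgroupOf]
      exact hOC' ⟨x, hx, rfl⟩
    have hO'c : ((Subgroup.centralizer ((U : Subgroup G) : Set G)).subgroupOf Er).map
        (QuotientGroup.mk' (pCore p ↥Er)) ≤ Subgroup.center (↥Er ⧸ pCore p ↥Er) := by
      rintro _ ⟨n, hn', rfl⟩
      rw [Subgroup.mem_center_iff]
      intro k
      obtain ⟨x, rfl⟩ := QuotientGroup.mk'_surjective _ k
      rw [← map_mul, ← map_mul, QuotientGroup.mk'_apply, QuotientGroup.mk'_apply, QuotientGroup.eq]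
      have hmem : ((x * n)⁻¹ * (n * x) : ↥Er) ∈ pCore p ↥Er := by
        have h2 : ⁅(n : G)⁻¹, (x : G)⁻¹⁆ ∈ pCoreOf p Er := by
          apply hN₀Er
          apply Subgroup.commutator_mem_commutator
          · exact Subgroup.inv_mem _ ⟨n.2, hErE n.2, Subgroup.mem_subgroupOf.mp hn'⟩
          · exact Subgroup.inv_mem _ x.2
        obtain ⟨y, hy, hye⟩ := h2
        have : y = (x * n)⁻¹ * (n * x) := by
          apply Subtype.ext
          have hye' : (y : G) = ⁅(n : G)⁻¹, (x : G)⁻¹⁆ := hye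
          rw [hye']
          simp only [commutatorElement_def, Subgroup.coe_mul, Subgroup.coe_inv]
          group
        rwa [this] at hy
      exact hmem
    have e := QuotientGroup.quotientQuotientEquivQuotient (pCore p ↥Er)
      ((Subgroup.centralizer ((U : Subgroup G) : Set G)).subgroupOf Er) hOC
    exact Cfsg.Agent.H2.isQuasisimple_of_quotient_central hperfK _ hO'c
      (Cfsg.Agent.Lib.Lead.Quasisimple.of_mulEquiv e.symm hq4)
  refine ⟨h1, hperf, hpp, hq4, hq5, ?_⟩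
  · intro Y hYE hYp hYC
    have hD₂Er : ⁅Er, Y⁆ ≤ Er := by
      rw [Subgroup.commutator_le]
      intro e he y hy
      have h3 : y * e⁻¹ * y⁻¹ ∈ Er := conj_mem_of_le_normalizer hEEr (hYE hy) (Er.inv_mem he)
      have e' : ⁅e, y⁆ = e * (y * e⁻¹ * y⁻¹) := by simp only [commutatorElement_def]; group
      rw [e']
      exact Er.mul_mem he h3
    apply le_antisymm hD₂Er
    have hnD : Er ≤ Subgroup.normalizer ((⁅Er, Y⁆ : Subgroup G) : Set G) :=
      le_normalizer_commutator_self Er Y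
    have h2 := h.le_comm_sup hred hqs hErE hbarEr hYE hYp hYC
    have h3 := hkey ⁅Er, Y⁆ Er hD₂Er (sup_le hnD hnD) h2 hN₀Er
    rw [hperf] at h3
    have h4 := pRes_le_of_sup_eq (hOn _ hnD) (pCoreOf_isPGroup Er) h3
    rwa [hpp] at h4

end main

end Cfsg.Agent.Lib.Helper7.QSection
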