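import Mathlib
import Cfsg.Prelude.Def_LocalStructure
import Cfsg.Agent.Lib.Helper7.WCFact
import Cfsg.Agent.Lib.Helper7.Large3
import Cfsg.Agent.Lib.Helper7.PIrreducible
import Cfsg.Agent.Lib.Helper7.PIrreducible3
import Cfsg.Agent.Lib.Helper7.PReduced8
import Cfsg.Agent.Lib.Helper7.QSection
import Cfsg.Agent.Lib.Helper7.CharP2
import Cfsg.Agent.Lib.Helper7.StrEmb6
import Cfsg.Agent.Lib.Helper7.KNormalizer
import Cfsg.Agent.Lib.Helper7.KNormalizerSat
import Cfsg.Agent.Lib.Helper7.LocallyCentral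
import Cfsg.Agent.H1.PResidual
import Cfsg.Agent.H1.Cores

set_option autoImplicit false

namespace Cfsg.Agent.Lib.Helper7.PMinFam

open Cfsg Cfsg.Agent.Lib.Helper7 Cfsg.Agent.Lib.Lead.Conj Cfsg.Agent.Lib.Helper7.LargeComm
open scoped Pointwise commutatorElement

variable {G : Type*} [Group G] {p : ℕ}

/-- the hypotheses of the transitive-family lemma -/
structure Fam (p : ℕ) (𝒦 : Set (Subgroup G)) : Prop where
  ne : 𝒦.Nonempty
  inv : ∀ h : G, ∀ E ∈ 𝒦, cj h E ∈ 𝒦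
  tr : ∀ E ∈ 𝒦, ∀ K ∈ 𝒦, ∃ h : G, K = cj h E
  res : pResidual p G ≤ sSup 𝒦
  norm : ∀ E ∈ 𝒦, sSup 𝒦 ⊔ pCore p G ≤
    Subgroup.normalizer ((E ⊔ pCore p G : Subgroup G) : Set G)

variable {𝒦 : Set (Subgroup G)}

theorem Fam.cj_R_le (h : Fam p 𝒦) (g : G) : cj g (sSup 𝒦) ≤ sSup 𝒦 := by
  unfold cj
  rw [Subgroup.map_le_iff_le_comap]
  apply sSup_le
  intro E hE
  rw [← Subgroup.map_le_iff_le_comap]
  exact le_sSup (h.inv g E hE)

theorem Fam.R_normal (h : Fam p 𝒦) : (sSup 𝒦).Normal := by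
  constructor
  intro x hx g
  exact h.cj_R_le g ⟨x, hx, rfl⟩

theorem Fam.RQ_normal (h : Fam p 𝒦) : (sSup 𝒦 ⊔ pCore p G).Normal := by
  have := h.R_normal
  have : (pCore p G).Normal := Cfsg.Agent.H1.pCore_normal p
  infer_instance

/-- modular law with a normal subgroup -/
theorem modular_normal {A B N : Subgroup G} [hN : N.Normal] (hNA : N ≤ A) :
    A ⊓ (B ⊔ N) = (A ⊓ B) ⊔ N := by
  apply le_antisymm
  · rintro x ⟨hxA, hxBN⟩
    have hx' : x ∈ N ⊔ B := by rw [sup_comm]; exact hxBN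
    have hBn : B ≤ Subgroup.normalizer (N : Set G) := by
      rw [Subgroup.normalizer_eq_top_iff.mpr hN]; exact le_top
    obtain ⟨n, hn, b, hb, rfl⟩ := WCFact.exists_mul_of_mem_sup_normalizer hBn hx'
    have hbA : b ∈ A := by
      have e : b = n⁻¹ * (n * b) := by group
      rw [e]; exact A.mul_mem (A.inv_mem (hNA hn)) hxA
    exact Subgroup.mul_mem _ (Subgroup.mem_sup_right hn) (Subgroup.mem_sup_left ⟨hbA, hb⟩)
  · exact sup_le (inf_le_inf_left _ le_sup_left) (le_inf hNA le_sup_right)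

theorem cj_sup_normal (g : G) (E N : Subgroup G) [hN : N.Normal] : cj g (E ⊔ N) = cj g E ⊔ N := by
  unfold cj
  rw [Subgroup.map_sup]
  congr 1
  apply le_antisymm
  · rintro _ ⟨x, hx, rfl⟩
    exact hN.conj_mem x hx g
  · intro x hx
    refine ⟨g⁻¹ * x * g, ?_, ?_⟩
    · have := hN.conj_mem x hx g⁻¹
      simpa using this
    · show g * (g⁻¹ * x * g) * g⁻¹ = x
      group

/-- join of all proper overgroups of `T ⊓ A` in `A` -/
def Mt (T A : Subgroup G) : Subgroup G :=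
  sSup {L : Subgroup G | T ⊓ A ≤ L ∧ L ≤ A ∧ L ≠ A}

theorem Mt_le (T A : Subgroup G) : Mt T A ≤ A := sSup_le (fun _ hL => hL.2.1)

theorem le_Mt {T A L : Subgroup G} (h1 : T ⊓ A ≤ L) (h2 : L ≤ A) (h3 : L ≠ A) : L ≤ Mt T A :=
  le_sSup ⟨h1, h2, h3⟩

theorem cj_inf (g : G) (A B : Subgroup G) : cj g (A ⊓ B) = cj g A ⊓ cj g B :=
  Subgroup.map_inf _ _ _ (MulAut.conj g).injective

theorem cj_Mt_le (g : G) (T A : Subgroup G) : cj g (Mt T A) ≤ Mt (cj g T) (cj g A) := by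
  unfold Mt cj
  rw [Subgroup.map_le_iff_le_comap]
  apply sSup_le
  rintro L ⟨h1, h2, h3⟩
  rw [← Subgroup.map_le_iff_le_comap]
  apply le_sSup
  refine ⟨?_, Subgroup.map_mono h2, ?_⟩
  · have := cj_inf g T A
    unfold cj at this
    rw [← this]
    exact Subgroup.map_mono h1
  · intro hc
    exact h3 (Subgroup.map_injective (MulAut.conj g).injective hc)

theorem cj_Mt (g : G) (T A : Subgroup G) : cj g (Mt T A) = Mt (cj g T) (cj g A) := by
  apply le_antisymm (cj_Mt_le g T A)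
  have h := cj_Mt_le g⁻¹ (cj g T) (cj g A)
  rw [cj_inv_cj, cj_inv_cj] at h
  have h2 := cj_mono g h
  rwa [cj_cj_inv] at h2


section part1

variable [Finite G] [Fact p.Prime]

theorem Fam.top_le (h : Fam p 𝒦) (T : Sylow p G) : (⊤ : Subgroup G) ≤ sSup 𝒦 ⊔ (T : Subgroup G) := by
  rw [← Cfsg.Agent.H1.pResidual_sup_sylow T]
  exact sup_le_sup_right h.res _

theorem Fam.sylow_inf_sup (h : Fam p 𝒦) (T : Sylow p G) {E : Subgroup G} (hE : E ∈ 𝒦) :
    IsSylowIn p ((T : Subgroup G) ⊓ (E ⊔ pCore p G)) (E ⊔ pCore p G) := by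
  have hRQ := h.RQ_normal
  have hT0 : IsSylowIn p (T : Subgroup G) ⊤ := IsSylowIn.of_sylow_top T
  have h1 : IsSylowIn p ((T : Subgroup G) ⊓ (sSup 𝒦 ⊔ pCore p G)) (sSup 𝒦 ⊔ pCore p G) :=
    hT0.inf_normal _ le_top (by rw [Subgroup.normalizer_eq_top_iff.mpr hRQ])
  have hle : E ⊔ pCore p G ≤ sSup 𝒦 ⊔ pCore p G := sup_le_sup_right (le_sSup hE) _
  have h2 := h1.inf_normal (E ⊔ pCore p G) hle (h.norm E hE)
  rwa [inf_assoc, inf_eq_right.mpr hle] at h2

theorem Fam.sylow_inf (h : Fam p 𝒦) (T : Sylow p G) {E : Subgroup G} (hE : E ∈ 𝒦) :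
    IsSylowIn p ((T : Subgroup G) ⊓ E) E := by
  have hQn : (pCore p G).Normal := Cfsg.Agent.H1.pCore_normal p
  have hQp : IsPGroup p ↥(pCore p G) := Cfsg.Agent.H1.pCore_isPGroup p
  have hQT : pCore p G ≤ (T : Subgroup G) := Cfsg.Agent.H1.pCore_le_sylow T
  have hS := h.sylow_inf_sup T hE
  obtain ⟨P, hP, -⟩ := exists_isSylowIn_ge (p := p) (Q := ⊥) (H := E) IsPGroup.of_bot bot_le
  have hPQ : IsPGroup p ↥(P ⊔ pCore p G) := IsPGroup.to_sup_of_normal_right hP.isPGroup hQp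
  have hPQle : P ⊔ pCore p G ≤ E ⊔ pCore p G := sup_le_sup_right hP.1 _
  obtain ⟨a, ha, hconj⟩ := hS.exists_conj_le hPQ hPQle
  have ha' : a ∈ pCore p G ⊔ E := by rw [sup_comm]; exact ha
  have hEn : E ≤ Subgroup.normalizer ((pCore p G : Subgroup G) : Set G) := by
    rw [Subgroup.normalizer_eq_top_iff.mpr hQn]; exact le_top
  obtain ⟨q, hq, e, he, rfl⟩ := WCFact.exists_mul_of_mem_sup_normalizer hEn ha'
  have hcP : cj e P ≤ (T : Subgroup G) ⊓ E := by
    rintro _ ⟨x, hx, rfl⟩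
    have h1 := hconj x (Subgroup.mem_sup_left hx)
    refine ⟨?_, E.mul_mem (E.mul_mem he (hP.1 hx)) (E.inv_mem he)⟩
    have hqT : q ∈ (T : Subgroup G) := hQT hq
    have e1 : (MulAut.conj e).toMonoidHom x = q⁻¹ * (q * e * x * (q * e)⁻¹) * q := by
      show e * x * e⁻¹ = _
      group
    rw [e1]
    exact Subgroup.mul_mem _ (Subgroup.mul_mem _ (Subgroup.inv_mem _ hqT) h1.1) hqT
  have hcS : IsSylowIn p (cj e P) E :=
    hP.map_conj_of_mem_normalizer (Subgroup.le_normalizer he)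
  have hTp : IsPGroup p ↥((T : Subgroup G) ⊓ E) := T.isPGroup'.to_le inf_le_left
  have := hcS.eq_of_le hcP inf_le_right hTp
  rw [this]; exact hcS

/-- ambient form of the hypothesis "`E` is minimal over its Sylow subgroup `T ⊓ E`" -/
structure EMin (T E M : Subgroup G) : Prop where
  nc_eq : nc E (T ⊓ E) = E
  le : M ≤ E
  ne : M ≠ E
  TM : T ⊓ E ≤ M
  max : ∀ L : Subgroup G, T ⊓ E ≤ L → L ≤ E → L ≠ E → L ≤ M

theorem eMin_of_isMinimalOver {T E : Subgroup G} (hS : IsSylowIn p (T ⊓ E) E)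
    (hmin : ∀ R : Sylow p ↥E, IsMinimalOver (R : Subgroup ↥E)) : ∃ M, EMin T E M := by
  obtain ⟨R, hR⟩ := hS.exists_sylow
  have hm := hmin R
  obtain ⟨hnc, M, ⟨hM, hRM⟩, huniq⟩ := id hm
  refine ⟨M.map E.subtype, ?_, Subgroup.map_subtype_le _, ?_, ?_, ?_⟩
  · rw [← AsymH.map_normalClosure_eq_nc inf_le_right, ← hR, hnc, ← MonoidHom.range_eq_map,
      Subgroup.range_subtype]
  · intro hc
    apply hM.1
    apply Subgroup.map_injective E.subtype_injective
    rw [hc, ← MonoidHom.range_eq_map, Subgroup.range_subtype]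
  · have := Subgroup.map_mono (f := E.subtype) hRM
    rwa [hR, Subgroup.map_subgroupOf_eq_of_le inf_le_right] at this
  · intro L h1 h2 h3
    rcases IsMinimalOver.sup_eq_top_or_le hm (L.subgroupOf E)
      (by rw [hR]; exact Subgroup.subgroupOf_mono _ h1) with h | h
    · exfalso
      apply h3
      apply le_antisymm h2
      rw [← Subgroup.subgroupOf_eq_top]; exact h
    · have := Subgroup.map_mono (f := E.subtype) (h M hM hRM)
      rwa [Subgroup.map_subgroupOf_eq_of_le h2] at this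

end part1


section part1b

variable [Finite G] [Fact p.Prime]

omit [Finite G] [Fact p.Prime] in
/-- transfer of `EMin` from `E` to `E ⊔ Q` -/
theorem EMin.sup {T E M N : Subgroup G} [hN : N.Normal] (hNT : N ≤ T) (h : EMin T E M) :
    EMin T (E ⊔ N) (M ⊔ N) := by
  have hTE : T ⊓ (E ⊔ N) = (T ⊓ E) ⊔ N := modular_normal hNT
  refine ⟨?_, sup_le_sup_right h.le _, ?_, ?_, ?_⟩
  · apply le_antisymm (nc_le inf_le_right)
    apply sup_le
    · refine h.nc_eq.ge.trans ?_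
      unfold nc
      apply Subgroup.closure_mono
      rintro _ ⟨l, hl, y, hy, rfl⟩
      exact ⟨l, Subgroup.mem_sup_left hl, y, ⟨hy.1, Subgroup.mem_sup_left hy.2⟩, rfl⟩
    · exact (le_inf hNT le_sup_right).trans (le_nc _ _)
  · intro hc
    apply h.ne
    apply le_antisymm h.le
    have h1 : E ≤ E ⊓ (M ⊔ N) := le_inf le_rfl (by rw [hc]; exact le_sup_left)
    -- E ⊓ (M ⊔ N) ≤ M
    intro x hx
    obtain ⟨hxE, hxMN⟩ := h1 hx
    have hx' : x ∈ N ⊔ M := by rw [sup_comm]; exact hxMN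
    have hMn : M ≤ Subgroup.normalizer (N : Set G) := by
      rw [Subgroup.normalizer_eq_top_iff.mpr hN]; exact le_top
    obtain ⟨n, hn, m, hm, rfl⟩ := WCFact.exists_mul_of_mem_sup_normalizer hMn hx'
    have hnE : n ∈ E := by
      have e : n = n * m * m⁻¹ := by group
      rw [e]; exact E.mul_mem hxE (E.inv_mem (h.le hm))
    exact M.mul_mem (h.TM ⟨hNT hn, hnE⟩) hm
  · rw [hTE]; exact sup_le_sup_right h.TM _
  · intro L h1 h2 h3
    have hNL : N ≤ L := (le_inf hNT le_sup_right).trans h1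
    have hL : L = (L ⊓ E) ⊔ N := by
      rw [← modular_normal hNL, inf_eq_left.mpr h2]
    rw [hL]
    apply sup_le_sup_right
    apply h.max
    · exact le_inf ((inf_le_inf_left _ le_sup_left).trans h1) inf_le_right
    · exact inf_le_right
    · intro hc
      apply h3
      apply le_antisymm h2
      exact sup_le (by rw [← hc]; exact inf_le_left) hNL

omit [Finite G] [Fact p.Prime] in
theorem EMin.mt_le {T A M : Subgroup G} (h : EMin T A M) : Mt T A ≤ M :=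
  sSup_le (fun L hL => h.max L hL.1 hL.2.1 hL.2.2)

omit [Finite G] [Fact p.Prime] in
theorem EMin.Mt_ne {T A M : Subgroup G} (h : EMin T A M) : Mt T A ≠ A := by
  intro hc
  apply h.ne
  apply le_antisymm h.le
  rw [← hc]; exact h.mt_le

omit [Finite G] [Fact p.Prime] in
theorem EMin.inf_le_Mt {T A M : Subgroup G} (h : EMin T A M) : T ⊓ A ≤ Mt T A := by
  apply le_Mt le_rfl inf_le_right
  intro hc
  apply h.ne
  apply le_antisymm h.le
  rw [← hc]; exact h.TM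

omit [Finite G] [Fact p.Prime] in
/-- `A` does not normalize `Mt T A` -/
theorem EMin.not_le_normalizer {T A M : Subgroup G} (h : EMin T A M) :
    ¬ A ≤ Subgroup.normalizer ((Mt T A : Subgroup G) : Set G) := by
  intro hc
  apply h.Mt_ne
  apply le_antisymm (PMinFam.Mt_le T A)
  exact h.nc_eq.ge.trans (AsymH.nc_le_of_le h.inf_le_Mt hc)

end part1b


section part1c

variable [Finite G] [Fact p.Prime]

/-- a proper subgroup containing `T` contains no member of the family -/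
theorem Fam.not_le_of_coatom (h : Fam p 𝒦) (T : Sylow p G) {M₀ : Subgroup G} (hM₀ : M₀ ≠ ⊤)
    (hT : (T : Subgroup G) ≤ M₀) {E : Subgroup G} (hE : E ∈ 𝒦) : ¬ E ≤ M₀ := by
  intro hEM
  have hQn : (pCore p G).Normal := Cfsg.Agent.H1.pCore_normal p
  have hQT : pCore p G ≤ (T : Subgroup G) := Cfsg.Agent.H1.pCore_le_sylow T
  have hRQn := h.RQ_normal
  apply hM₀
  rw [eq_top_iff]
  refine (h.top_le T).trans (sup_le ?_ hT)
  apply sSup_le
  intro K hK
  obtain ⟨g, rfl⟩ := h.tr E hE K hK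
  -- g = t * a with t ∈ T, a ∈ RQ
  have hg : g ∈ (T : Subgroup G) ⊔ (sSup 𝒦 ⊔ pCore p G) := by
    have : (⊤ : Subgroup G) ≤ (T : Subgroup G) ⊔ (sSup 𝒦 ⊔ pCore p G) := by
      refine (h.top_le T).trans ?_
      rw [sup_comm]
      exact sup_le_sup_left le_sup_left _
    exact this (Subgroup.mem_top g)
  have hg' : g ∈ (sSup 𝒦 ⊔ pCore p G) ⊔ (T : Subgroup G) := by rw [sup_comm]; exact hg
  have hTN : (T : Subgroup G) ≤ Subgroup.normalizer ((sSup 𝒦 ⊔ pCore p G : Subgroup G) : Set G) := by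
    rw [Subgroup.normalizer_eq_top_iff.mpr hRQn]; exact le_top
  obtain ⟨a, ha, t, ht, rfl⟩ := WCFact.exists_mul_of_mem_sup_normalizer hTN hg'
  have hE' : cj t E ∈ 𝒦 := h.inv t E hE
  have hE'M : cj t E ≤ M₀ := by
    rintro _ ⟨x, hx, rfl⟩
    exact M₀.mul_mem (M₀.mul_mem (hT ht) (hEM hx)) (M₀.inv_mem (hT ht))
  rw [← cj_mul]
  calc cj a (cj t E) ≤ cj a (cj t E ⊔ pCore p G) := cj_mono a le_sup_left
    _ = cj t E ⊔ pCore p G := cj_eq_of_mem_normalizer (h.norm _ hE' ha)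
    _ ≤ M₀ := sup_le hE'M (hQT.trans hT)

end part1c


section part1d

variable [Finite G] [Fact p.Prime]

theorem Fam.inf_le_normalizer_Mt (h : Fam p 𝒦) (T : Sylow p G) {M₀ : Subgroup G} (hM₀ : M₀ ≠ ⊤)
    (hT : (T : Subgroup G) ≤ M₀) {E M : Subgroup G} (hE : E ∈ 𝒦)
    (hmin : EMin (T : Subgroup G) (E ⊔ pCore p G) M) :
    M₀ ⊓ (sSup 𝒦 ⊔ pCore p G) ≤
      Subgroup.normalizer ((Mt (T : Subgroup G) (E ⊔ pCore p G) : Subgroup G) : Set G) := by
  have hQT : pCore p G ≤ (T : Subgroup G) := Cfsg.Agent.H1.pCore_le_sylow T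
  have hle : E ⊔ pCore p G ≤ sSup 𝒦 ⊔ pCore p G := sup_le_sup_right (le_sSup hE) _
  have hS := h.sylow_inf_sup T hE
  -- X = M₀ ⊓ Ẽ
  have hXne : M₀ ⊓ (E ⊔ pCore p G) ≠ E ⊔ pCore p G := by
    intro hc
    exact h.not_le_of_coatom T hM₀ hT hE (le_sup_left.trans (inf_eq_right.mp hc))
  have hTX : (T : Subgroup G) ⊓ (E ⊔ pCore p G) ≤ M₀ ⊓ (E ⊔ pCore p G) := inf_le_inf_right _ hT
  have hXMt : M₀ ⊓ (E ⊔ pCore p G) ≤ Mt (T : Subgroup G) (E ⊔ pCore p G) :=
    le_Mt hTX inf_le_right hXne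
  have hSX : IsSylowIn p ((T : Subgroup G) ⊓ (E ⊔ pCore p G)) (M₀ ⊓ (E ⊔ pCore p G)) :=
    hS.of_le_mid hTX inf_le_right
  have hXle : M₀ ⊓ (E ⊔ pCore p G) ≤ M₀ ⊓ (sSup 𝒦 ⊔ pCore p G) := inf_le_inf_left _ hle
  have hn : M₀ ⊓ (sSup 𝒦 ⊔ pCore p G) ≤
      Subgroup.normalizer ((M₀ ⊓ (E ⊔ pCore p G) : Subgroup G) : Set G) :=
    le_normalizer_inf' (inf_le_left.trans Subgroup.le_normalizer) (inf_le_right.trans (h.norm E hE))
  refine (hSX.frattini hXle hn).trans (sup_le ?_ (hXMt.trans Subgroup.le_normalizer))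
  rintro y ⟨⟨-, hyRQ⟩, hyN⟩
  apply mem_normalizer_of_cj_le
  have hyE : cj y (E ⊔ pCore p G) = E ⊔ pCore p G := cj_eq_of_mem_normalizer (h.norm E hE hyRQ)
  have hyT : cj y ((T : Subgroup G) ⊓ (E ⊔ pCore p G)) = (T : Subgroup G) ⊓ (E ⊔ pCore p G) :=
    cj_eq_of_mem_normalizer hyN
  have hyE' : cj y⁻¹ (E ⊔ pCore p G) = E ⊔ pCore p G := by
    conv_lhs => rw [← hyE]
    exact cj_inv_cj y _
  apply le_Mt
  · exact hyT.ge.trans (cj_mono y hmin.inf_le_Mt)
  · exact (cj_mono y (Mt_le _ _)).trans hyE.le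
  · intro hc
    apply hmin.Mt_ne
    have := congrArg (cj y⁻¹) hc
    rw [cj_inv_cj, hyE'] at this
    exact this

end part1d


section part1e

variable [Finite G] [Fact p.Prime]

omit [Finite G] [Fact p.Prime] in
theorem Fam.cj_sup (_h : Fam p 𝒦) (x : G) (E : Subgroup G) :
    cj x (E ⊔ pCore p G) = cj x E ⊔ pCore p G := by
  have hQn : (pCore p G).Normal := Cfsg.Agent.H1.pCore_normal p
  exact cj_sup_normal x E (pCore p G)

/-- elements acting equivariantly on the subgroups `Mt T (E ⊔ Q)` -/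
def Fam.stab (h : Fam p 𝒦) (T : Subgroup G) : Subgroup G where
  carrier := {x | ∀ E ∈ 𝒦, cj x (Mt T (E ⊔ pCore p G)) = Mt T (cj x (E ⊔ pCore p G))}
  one_mem' := by
    intro E _
    rw [cj_one, cj_one]
  mul_mem' := by
    intro x y hx hy E hE
    rw [← cj_mul, ← cj_mul, hy E hE, h.cj_sup y E, hx _ (h.inv y E hE)]
  inv_mem' := by
    intro x hx E hE
    have h1 := hx _ (h.inv x⁻¹ E hE)
    rw [← h.cj_sup x⁻¹ E, cj_cj_inv] at h1
    rw [← h1, cj_inv_cj]

theorem Fam.part1 (h : Fam p 𝒦) (T : Sylow p G)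
    (hmin : ∀ E ∈ 𝒦, ∃ M, EMin (T : Subgroup G) E M) : IsMinimalOver (T : Subgroup G) := by
  have hQn : (pCore p G).Normal := Cfsg.Agent.H1.pCore_normal p
  have hQT : pCore p G ≤ (T : Subgroup G) := Cfsg.Agent.H1.pCore_le_sylow T
  have hRQn := h.RQ_normal
  obtain ⟨E₀, hE₀⟩ := h.ne
  obtain ⟨N₀, hN₀⟩ := hmin E₀ hE₀
  -- T ≠ ⊤
  have hTtop : (T : Subgroup G) ≠ ⊤ := by
    intro hc
    apply hN₀.ne
    apply le_antisymm hN₀.le
    refine le_trans ?_ hN₀.TM
    rw [hc]; exact le_inf le_top le_rfl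
  refine ⟨?_, ?_⟩
  · -- normal closure
    rw [eq_top_iff]
    refine (h.top_le T).trans (sup_le ?_ Subgroup.le_normalClosure)
    apply sSup_le
    intro E hE
    obtain ⟨M, hM⟩ := hmin E hE
    refine hM.nc_eq.ge.trans ?_
    apply AsymH.nc_le_of_le (inf_le_left.trans Subgroup.le_normalClosure)
    rw [Subgroup.normalizer_eq_top_iff.mpr Subgroup.normalClosure_normal]
    exact le_top
  · rcases eq_top_or_exists_le_coatom (T : Subgroup G) with hc | ⟨M₁, hM₁, hTM₁⟩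
    · exact absurd hc hTtop
    refine ⟨M₁, ⟨hM₁, hTM₁⟩, ?_⟩
    rintro M₂ ⟨hM₂, hTM₂⟩
    by_contra hne
    -- every coatom over T lies in the stabilizer
    have key : ∀ M₀ : Subgroup G, IsCoatom M₀ → (T : Subgroup G) ≤ M₀ → M₀ ≤ h.stab (T : Subgroup G) := by
      intro M₀ hM₀ hTM₀
      have hTN : (T : Subgroup G) ≤ Subgroup.normalizer ((sSup 𝒦 ⊔ pCore p G : Subgroup G) : Set G) := by
        rw [Subgroup.normalizer_eq_top_iff.mpr hRQn]; exact le_top
      have hM₀le : M₀ ≤ (T : Subgroup G) ⊔ (sSup 𝒦 ⊔ pCore p G) := by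
        refine le_top.trans ((h.top_le T).trans ?_)
        rw [sup_comm]
        exact sup_le_sup_left le_sup_left _
      refine (QSection.dedekind hTM₀ hTN hM₀le).trans (sup_le ?_ ?_)
      · intro y hy E hE
        obtain ⟨M, hM⟩ := hmin E hE
        have hM' := hM.sup (N := pCore p G) hQT
        have hyN := h.inf_le_normalizer_Mt T hM₀.1 hTM₀ hE hM' hy
        rw [cj_eq_of_mem_normalizer hyN, cj_eq_of_mem_normalizer (h.norm E hE hy.2)]
      · intro t ht E hE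
        rw [cj_Mt, cj_eq_of_mem_normalizer (Subgroup.le_normalizer ht)]
    have htop : M₁ ⊔ M₂ = ⊤ := by
      by_contra hc
      have h1 : M₁ ⊔ M₂ = M₁ := by
        by_contra hc'
        exact hc (hM₁.2 _ (lt_of_le_of_ne le_sup_left (Ne.symm hc')))
      have h2 : M₂ ≤ M₁ := by rw [← h1]; exact le_sup_right
      have h3 : M₂ = M₁ := by
        by_contra hc'
        exact hM₁.1 (hM₂.2 _ (lt_of_le_of_ne h2 hc'))
      exact hne h3
    have hstab : h.stab (T : Subgroup G) = ⊤ := by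
      rw [eq_top_iff, ← htop]
      exact sup_le (key M₁ hM₁ hTM₁) (key M₂ hM₂ hTM₂)
    have hN₀' := hN₀.sup (N := pCore p G) hQT
    apply hN₀'.not_le_normalizer
    intro x hx
    have hxs : x ∈ h.stab (T : Subgroup G) := by rw [hstab]; trivial
    have h1 := hxs E₀ hE₀
    have hxn : cj x (E₀ ⊔ pCore p G) = E₀ ⊔ pCore p G :=
      cj_eq_of_mem_normalizer (Subgroup.le_normalizer hx)
    rw [hxn] at h1
    exact mem_normalizer_of_cj_eq h1

end part1e

end Cfsg.Agent.Lib.Helper7.PMinFam
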