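import Mathlib
import Cfsg.Prelude.Def_LocalStructure
import Cfsg.Agent.Lib.Helper7.PMinFamA
import Cfsg.Agent.Lib.Helper7.Large2

set_option autoImplicit false

namespace Cfsg.Agent.Lib.Helper7.PMinFam

open Cfsg Cfsg.Agent.Lib.Helper7 Cfsg.Agent.Lib.Lead.Conj Cfsg.Agent.Lib.Helper7.LargeComm
open scoped Pointwise commutatorElement

variable {G : Type*} [Group G] {p : ℕ}

section cmod

variable (Q : Subgroup G) [hQ : Q.Normal]

/-- the centralizer of `B` modulo `Q` -/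
def cmod (B : Subgroup G) : Subgroup G :=
  (Subgroup.centralizer ((B.map (QuotientGroup.mk' Q) : Subgroup (G ⧸ Q)) : Set (G ⧸ Q))).comap
    (QuotientGroup.mk' Q)

variable {Q}

theorem comm_le_iff {A B : Subgroup G} : ⁅A, B⁆ ≤ Q ↔ A ≤ cmod Q B := by
  unfold cmod
  rw [← Subgroup.map_le_iff_le_comap, ← Subgroup.commutator_eq_bot_iff_le_centralizer,
    ← Subgroup.map_commutator, Subgroup.map_eq_bot_iff, QuotientGroup.ker_mk']

theorem le_cmod_self (B : Subgroup G) : Q ≤ cmod Q B := by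
  rw [← comm_le_iff]
  exact Subgroup.commutator_le_left Q B

omit hQ in
theorem comm_le_symm {A B : Subgroup G} (h : ⁅A, B⁆ ≤ Q) : ⁅B, A⁆ ≤ Q := by
  rwa [Subgroup.commutator_comm]

/-- Lemma Z: if `A` is generated by `p`-elements, `[A,B] ≤ Z`, `Z` centralizes `A` modulo `Q`
and every element of `Z` that is a `p`-element modulo `Q` lies in `Q`, then `[A,B] ≤ Q`. -/
theorem comm_le_of_central_mod {A B Z : Subgroup G}
    (hA : A ≤ Subgroup.closure {x : G | x ∈ A ∧ ∃ k : ℕ, x ^ p ^ k = 1})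
    (hAB : ⁅A, B⁆ ≤ Z) (hZA : ⁅Z, A⁆ ≤ Q)
    (hZp : ∀ z ∈ Z, (∃ k : ℕ, z ^ p ^ k ∈ Q) → z ∈ Q) : ⁅A, B⁆ ≤ Q := by
  rw [Subgroup.commutator_le]
  intro a ha b hb
  set π := QuotientGroup.mk' Q with hπ
  have key : A ≤ (Subgroup.centralizer ({π b} : Set (G ⧸ Q))).comap π := by
    refine hA.trans ?_
    rw [Subgroup.closure_le]
    rintro x ⟨hxA, k, hk⟩
    show π x ∈ Subgroup.centralizer ({π b} : Set (G ⧸ Q))
    rw [Subgroup.mem_centralizer_singleton_iff]
    have hzZ : ⁅x, b⁆ ∈ Z := hAB (Subgroup.commutator_mem_commutator hxA hb)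
    have hzx : ⁅⁅x, b⁆, x⁆ ∈ Q := hZA (Subgroup.commutator_mem_commutator hzZ hxA)
    have hcomm : Commute (π x)⁻¹ (π ⁅x, b⁆) := by
      have h1 : π ⁅⁅x, b⁆, x⁆ = 1 := (QuotientGroup.eq_one_iff _).mpr hzx
      rw [map_commutatorElement, commutatorElement_eq_one_iff_commute] at h1
      exact h1.symm.inv_left
    have e1 : b * x⁻¹ * b⁻¹ = x⁻¹ * ⁅x, b⁆ := by
      rw [commutatorElement_def]; group
    have h2 : (π x)⁻¹ * π ⁅x, b⁆ = π (b * x⁻¹ * b⁻¹) := by
      rw [e1, map_mul, map_inv]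
    have h3 : ((π x)⁻¹ * π ⁅x, b⁆) ^ p ^ k = 1 := by
      rw [h2, ← map_pow, conj_pow, inv_pow, hk]
      simp
    rw [hcomm.mul_pow, inv_pow, ← map_pow, hk, map_one, inv_one, one_mul, ← map_pow] at h3
    have h4 : ⁅x, b⁆ ^ p ^ k ∈ Q := (QuotientGroup.eq_one_iff _).mp h3
    have h5 : ⁅x, b⁆ ∈ Q := hZp _ hzZ ⟨k, h4⟩
    have h6 : π ⁅x, b⁆ = 1 := (QuotientGroup.eq_one_iff _).mpr h5
    rw [map_commutatorElement, commutatorElement_eq_one_iff_commute] at h6
    exact h6.eq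
  have h1 := key ha
  have h2 : π a * π b = π b * π a :=
    Subgroup.mem_centralizer_singleton_iff.mp (show π a ∈ _ from h1)
  have h3 : π ⁅a, b⁆ = 1 := by
    rw [map_commutatorElement, commutatorElement_eq_one_iff_commute]
    exact h2
  exact (QuotientGroup.eq_one_iff _).mp h3

end cmod


section np

variable [Finite G] [Fact p.Prime]

/-- Lemma NP: if `Z/Q` is abelian and `Z ⊴ K ⊴ G` then every element of `Z` which is a `p`-element
modulo `Q = O_p(G)` lies in `Q`. -/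
theorem pElement_mem_pCore {Z K : Subgroup G} [hK : K.Normal] (hQZ : pCore p G ≤ Z) (hZK : Z ≤ K)
    (hKZ : K ≤ Subgroup.normalizer (Z : Set G)) (hZZ : ⁅Z, Z⁆ ≤ pCore p G) :
    ∀ z ∈ Z, (∃ k : ℕ, z ^ p ^ k ∈ pCore p G) → z ∈ pCore p G := by
  rintro z hzZ ⟨k, hk⟩
  have hQn : (pCore p G).Normal := Cfsg.Agent.H1.pCore_normal p
  have hQp : IsPGroup p ↥(pCore p G) := Cfsg.Agent.H1.pCore_isPGroup p
  -- z is a p-element
  obtain ⟨m, hm⟩ := hQp ⟨z ^ p ^ k, hk⟩
  have hm' : (z ^ p ^ k) ^ p ^ m = 1 := by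
    have := congrArg Subtype.val hm
    simpa using this
  have hzp : IsPGroup p ↥(Subgroup.zpowers z) := by
    rintro ⟨g, hg⟩
    obtain ⟨i, rfl⟩ := Subgroup.mem_zpowers_iff.mp hg
    refine ⟨k + m, ?_⟩
    apply Subtype.ext
    show (z ^ i) ^ p ^ (k + m) = 1
    rw [← zpow_natCast, ← zpow_mul, mul_comm, zpow_mul, zpow_natCast, pow_add, pow_mul, hm', one_zpow]
  have hP : IsPGroup p ↥(Subgroup.zpowers z ⊔ pCore p G) := IsPGroup.to_sup_of_normal_right hzp hQp
  have hPZ : Subgroup.zpowers z ⊔ pCore p G ≤ Z := sup_le (Subgroup.zpowers_le.mpr hzZ) hQZ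
  obtain ⟨S, hS, hPS⟩ := exists_isSylowIn_ge hP hPZ
  have hQS : pCore p G ≤ S := le_sup_right.trans hPS
  have hZS : Z ≤ Subgroup.normalizer (S : Set G) := by
    apply le_normalizer_of_conj
    intro y hy s hs
    have h1 : ⁅y, s⁆ ∈ pCore p G := hZZ (Subgroup.commutator_mem_commutator hy (hS.1 hs))
    have e : y * s * y⁻¹ = ⁅y, s⁆ * s := by rw [commutatorElement_def]; group
    rw [e]
    exact S.mul_mem (hQS h1) hs
  have hKS : K ≤ Subgroup.normalizer (S : Set G) := by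
    intro k hk
    have h1 : IsSylowIn p (cj k S) Z := hS.map_conj_of_mem_normalizer (hKZ hk)
    obtain ⟨y, hy, hconj⟩ := hS.conj h1
    apply mem_normalizer_of_cj_eq
    show cj k S = S
    rw [hconj]
    exact cj_eq_of_mem_normalizer (hZS hy)
  have hSQ : S ≤ pCore p G := le_pCore_of_normal_in_normal (hS.1.trans hZK) hKS hS.isPGroup
  exact hSQ (hPS (Subgroup.mem_sup_left (Subgroup.mem_zpowers z)))

end np


section sirr

variable [Finite G] [Fact p.Prime]

/-- ambient form of strong `p`-irreducibility of `E` -/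
structure SIrr (p : ℕ) (E : Subgroup G) : Prop where
  not_closed : ¬ IsPClosed p ↥E
  dich : ∀ X : Subgroup G, X ≤ E → E ≤ Subgroup.normalizer (X : Set G) →
    ⁅X, E⁆ ≤ pCoreOf p E ∨ (pResidual p ↥E).map E.subtype ≤ X

omit [Finite G] [Fact p.Prime] in
theorem sIrr_of_isStronglyPIrreducible {E : Subgroup G} (h : IsStronglyPIrreducible p ↥E) :
    SIrr p E := by
  refine ⟨h.1, ?_⟩
  intro X hXE hn
  have hXn : (X.subgroupOf E).Normal := (Subgroup.normal_subgroupOf_iff_le_normalizer hXE).mpr hn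
  by_cases hc : ⁅X.subgroupOf E, (⊤ : Subgroup ↥E)⁆ ≤ pCore p ↥E
  · left
    have := Subgroup.map_mono (f := E.subtype) hc
    rw [Subgroup.map_commutator, Subgroup.map_subgroupOf_eq_of_le hXE, ← MonoidHom.range_eq_map,
      Subgroup.range_subtype] at this
    exact this
  · right
    have := Subgroup.map_mono (f := E.subtype) (h.2 _ hXn hc)
    rwa [Subgroup.map_subgroupOf_eq_of_le hXE] at this

/-- a Sylow subgroup of `E` normalized by `E` makes `E` `p`-closed -/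
theorem isPClosed_of_sylow_normal {E P : Subgroup G} (hP : IsSylowIn p P E)
    (hn : E ≤ Subgroup.normalizer (P : Set G)) : IsPClosed p ↥E := by
  obtain ⟨R, hR⟩ := hP.exists_sylow
  rw [isPClosed_iff_normal R, hR]
  exact (Subgroup.normal_subgroupOf_iff_le_normalizer hP.1).mpr hn

/-- `E` is generated by its `p`-elements -/
theorem SIrr.le_closure {E : Subgroup G} (h : SIrr p E) :
    E ≤ Subgroup.closure {x : G | x ∈ E ∧ ∃ k : ℕ, x ^ p ^ k = 1} := by
  obtain ⟨W, hW⟩ : ∃ W, W = Subgroup.closure {x : G | x ∈ E ∧ ∃ k : ℕ, x ^ p ^ k = 1} := ⟨_, rfl⟩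
  rw [← hW]
  have hWE : W ≤ E := by
    rw [hW, Subgroup.closure_le]
    exact fun x hx => hx.1
  have hEW : E ≤ Subgroup.normalizer (W : Set G) := by
    apply le_normalizer_of_conj
    intro e he w hw
    rw [hW] at hw ⊢
    induction hw using Subgroup.closure_induction with
    | mem x hx =>
      obtain ⟨hxE, k, hk⟩ := hx
      apply Subgroup.subset_closure
      refine ⟨E.mul_mem (E.mul_mem he hxE) (E.inv_mem he), k, ?_⟩
      rw [conj_pow, hk]; group
    | one => simp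
    | mul x y _ _ hx hy =>
      have e1 : e * (x * y) * e⁻¹ = (e * x * e⁻¹) * (e * y * e⁻¹) := by group
      rw [e1]; exact Subgroup.mul_mem _ hx hy
    | inv x _ hx =>
      have e1 : e * x⁻¹ * e⁻¹ = (e * x * e⁻¹)⁻¹ := by group
      rw [e1]; exact Subgroup.inv_mem _ hx
  obtain ⟨P, hP, -⟩ := exists_isSylowIn_ge (p := p) (Q := ⊥) (H := E) IsPGroup.of_bot bot_le
  have hPW : P ≤ W := by
    intro x hx
    rw [hW]
    apply Subgroup.subset_closure
    obtain ⟨k, hk⟩ := hP.isPGroup ⟨x, hx⟩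
    refine ⟨hP.1 hx, k, ?_⟩
    have := congrArg Subtype.val hk
    simpa using this
  rcases h.dich W hWE hEW with hc | hc
  · exfalso
    apply h.not_closed
    apply isPClosed_of_sylow_normal hP
    apply le_normalizer_of_conj
    intro e he x hx
    have h1 : ⁅x, e⁆ ∈ pCoreOf p E := hc (Subgroup.commutator_mem_commutator (hPW hx) he)
    have h2 : pCoreOf p E ≤ P :=
      hP.normal_le (pCoreOf_le E) (le_normalizer_pCoreOf E) (pCoreOf_isPGroup E)
    have e1 : e * x * e⁻¹ = (⁅x, e⁆)⁻¹ * x := by rw [commutatorElement_def]; group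
    rw [e1]
    exact P.mul_mem (P.inv_mem (h2 h1)) hx
  · have h1 : E ≤ (pResidual p ↥E).map E.subtype ⊔ P :=
      AsymY.le_sup_sylow (AsymH.pRes_le E) (AsymH.le_normalizer_pRes E) hP
        (fun x hx => AsymH.exists_pow_mem_pRes hx)
    exact h1.trans (sup_le hc hPW)

end sirr


section fam2

variable [Finite G] [Fact p.Prime] {𝒦 : Set (Subgroup G)}

omit [Finite G] in
theorem Fam.pCoreOf_le_pCore (h : Fam p 𝒦) {E : Subgroup G} (hE : E ∈ 𝒦) : pCoreOf p E ≤ pCore p G := by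
  have hQn : (pCore p G).Normal := Cfsg.Agent.H1.pCore_normal p
  have hQp : IsPGroup p ↥(pCore p G) := Cfsg.Agent.H1.pCore_isPGroup p
  have hRQn := h.RQ_normal
  have hP₁ : IsPGroup p ↥(pCoreOf p E ⊔ pCore p G) :=
    IsPGroup.to_sup_of_normal_right (pCoreOf_isPGroup E) hQp
  have hle : E ⊔ pCore p G ≤ sSup 𝒦 ⊔ pCore p G := sup_le_sup_right (le_sSup hE) _
  have hEQn : ∀ X : Subgroup G, X ≤ Subgroup.normalizer ((pCore p G : Subgroup G) : Set G) := by
    intro X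
    rw [Subgroup.normalizer_eq_top_iff.mpr hQn]; exact le_top
  have hn : E ⊔ pCore p G ≤ Subgroup.normalizer ((pCoreOf p E ⊔ pCore p G : Subgroup G) : Set G) := by
    apply sup_le
    · exact le_normalizer_sup' (le_normalizer_pCoreOf E) (hEQn E)
    · exact le_sup_right.trans Subgroup.le_normalizer
  have h1 : pCoreOf p E ⊔ pCore p G ≤ pCoreOf p (sSup 𝒦 ⊔ pCore p G) :=
    le_pCoreOf_of_normal_in_normal (sup_le_sup_right (pCoreOf_le E) _) hle (h.norm E hE) hn hP₁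
  have h2 : pCoreOf p (sSup 𝒦 ⊔ pCore p G) ≤ pCore p G :=
    le_pCore_of_normal_in_normal (pCoreOf_le _) (le_normalizer_pCoreOf _) (pCoreOf_isPGroup _)
  exact le_sup_left.trans (h1.trans h2)

omit [Finite G] [Fact p.Prime] in
theorem cj_pRes (g : G) (E : Subgroup G) :
    cj g ((pResidual p ↥E).map E.subtype) = (pResidual p ↥(cj g E)).map (cj g E).subtype := by
  rw [AsymH.pRes_eq_closure, AsymH.pRes_eq_closure]
  unfold cj
  rw [MonoidHom.map_closure]
  congr 1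
  ext x
  constructor
  · rintro ⟨y, ⟨hy, hc⟩, rfl⟩
    refine ⟨⟨y, hy, rfl⟩, ?_⟩
    show (orderOf (g * y * g⁻¹)).Coprime p
    rwa [orderOf_conj]
  · rintro ⟨⟨y, hy, rfl⟩, hc⟩
    refine ⟨y, ⟨hy, ?_⟩, rfl⟩
    have : orderOf ((MulAut.conj g).toMonoidHom y) = orderOf y := orderOf_conj g y
    rwa [this] at hc

/-- `O^p(G)` is generated by the `O^p(E)`, `E ∈ 𝒦` -/
theorem Fam.pResidual_le (h : Fam p 𝒦) :
    pResidual p G ≤ ⨆ E ∈ 𝒦, (pResidual p ↥E).map E.subtype := by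
  obtain ⟨W, hW⟩ : ∃ W, W = ⨆ E ∈ 𝒦, (pResidual p ↥E).map E.subtype := ⟨_, rfl⟩
  rw [← hW]
  have hWn : W.Normal := by
    constructor
    intro x hx g
    have h1 : cj g W ≤ W := by
      rw [hW]
      unfold cj
      rw [Subgroup.map_iSup]
      apply iSup_le
      intro E
      rw [Subgroup.map_iSup]
      apply iSup_le
      intro hE
      have := cj_pRes (p := p) g E
      unfold cj at this
      rw [this]
      exact le_iSup₂_of_le _ (h.inv g E hE) le_rfl
    exact h1 ⟨x, hx, rfl⟩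
  let T : Sylow p G := default
  apply pResidual_le_of_sup_eq_top T.isPGroup' W
  rw [eq_top_iff]
  refine (h.top_le T).trans (sup_le ?_ le_sup_left)
  apply sSup_le
  intro E hE
  have hS := h.sylow_inf T hE
  have h1 : E ≤ (pResidual p ↥E).map E.subtype ⊔ ((T : Subgroup G) ⊓ E) :=
    AsymY.le_sup_sylow (AsymH.pRes_le E) (AsymH.le_normalizer_pRes E) hS
      (fun x hx => AsymH.exists_pow_mem_pRes hx)
  refine h1.trans ?_
  rw [sup_comm]
  apply sup_le_sup inf_le_left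
  rw [hW]
  exact le_iSup₂_of_le E hE le_rfl

theorem Fam.not_isPClosed (h : Fam p 𝒦) (hirr : ∀ E ∈ 𝒦, SIrr p E) : ¬ IsPClosed p G := by
  intro hc
  obtain ⟨E, hE⟩ := h.ne
  let T : Sylow p G := default
  have hTn : (T : Subgroup G).Normal := hc T
  apply (hirr E hE).not_closed
  apply isPClosed_of_sylow_normal (h.sylow_inf T hE)
  apply le_normalizer_inf' _ Subgroup.le_normalizer
  rw [Subgroup.normalizer_eq_top_iff.mpr hTn]; exact le_top

end fam2


section zq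

variable {Q : Subgroup G} [hQ : Q.Normal]

theorem sup_comm_le {X E : Subgroup G} (h : ⁅X, E⁆ ≤ Q) : ⁅X ⊔ Q, E⁆ ≤ Q := by
  rw [comm_le_iff] at h ⊢
  exact sup_le h (le_cmod_self E)

theorem sup_comm_self_le {X E : Subgroup G} (hXE : X ≤ E) (h : ⁅X, E⁆ ≤ Q) : ⁅X ⊔ Q, X ⊔ Q⁆ ≤ Q := by
  have h1 : ⁅X ⊔ Q, X⁆ ≤ Q := (Subgroup.commutator_mono le_rfl hXE).trans (sup_comm_le h)
  have h2 : X ≤ cmod Q (X ⊔ Q) := comm_le_iff.mp (comm_le_symm h1)
  rw [comm_le_iff]
  exact sup_le h2 (le_cmod_self _)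

end zq

section main2

variable [Finite G] [Fact p.Prime] {𝒦 : Set (Subgroup G)}

omit [Finite G] [Fact p.Prime] in
theorem Fam.comm_mem (h : Fam p 𝒦) {E : Subgroup G} (hE : E ∈ 𝒦) {e n : G}
    (he : e ∈ E ⊔ pCore p G) (hn : n ∈ sSup 𝒦 ⊔ pCore p G) : ⁅e, n⁆ ∈ E ⊔ pCore p G := by
  have h1 : n * e⁻¹ * n⁻¹ ∈ E ⊔ pCore p G :=
    conj_mem_of_le_normalizer (h.norm E hE) hn (Subgroup.inv_mem _ he)
  have e1 : ⁅e, n⁆ = e * (n * e⁻¹ * n⁻¹) := by rw [commutatorElement_def]; group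
  rw [e1]
  exact Subgroup.mul_mem _ he h1

theorem Fam.isPIrreducible (h : Fam p 𝒦) (hirr : ∀ E ∈ 𝒦, SIrr p E) : IsPIrreducible p G := by
  refine ⟨h.not_isPClosed hirr, ?_⟩
  intro N hN hNc
  have hQn : (pCore p G).Normal := Cfsg.Agent.H1.pCore_normal p
  have hQp : IsPGroup p ↥(pCore p G) := Cfsg.Agent.H1.pCore_isPGroup p
  have hRn := h.R_normal
  have hRQn := h.RQ_normal
  obtain ⟨N', hN'⟩ : ∃ N', N' = N ⊔ pCore p G := ⟨_, rfl⟩
  have hN'n : N'.Normal := by rw [hN']; infer_instance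
  have hQN' : pCore p G ≤ N' := by rw [hN']; exact le_sup_right
  have hnormal : ∀ (A X : Subgroup G), A.Normal → X ≤ Subgroup.normalizer (A : Set G) := by
    intro A X hA
    rw [Subgroup.normalizer_eq_top_iff.mpr hA]; exact le_top
  by_cases hA : ∃ E ∈ 𝒦, (pResidual p ↥E).map E.subtype ≤ N'
  · obtain ⟨E, hE, hEN⟩ := hA
    have hall : ∀ K ∈ 𝒦, (pResidual p ↥K).map K.subtype ≤ N' := by
      intro K hK
      obtain ⟨g, rfl⟩ := h.tr E hE K hK
      rw [← cj_pRes]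
      refine (cj_mono g hEN).trans ?_
      exact (cj_eq_of_mem_normalizer (hnormal N' ⊤ hN'n (Subgroup.mem_top g))).le
    have h1 : pResidual p G ≤ N' := h.pResidual_le.trans (iSup₂_le hall)
    rw [hN'] at h1
    exact pResidual_le_of_le_sup N (pCore p G) hQp h1
  · push Not at hA
    exfalso
    apply hNc
    obtain ⟨N₁, hN₁⟩ : ∃ N₁, N₁ = N' ⊓ (sSup 𝒦 ⊔ pCore p G) := ⟨_, rfl⟩
    -- step 1-2: every E centralizes N₁ mod Q
    have hEN₁ : ∀ E ∈ 𝒦, ⁅E, N₁⁆ ≤ pCore p G := by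
      intro E hE
      have hEn : E ≤ Subgroup.normalizer ((N' ⊓ E : Subgroup G) : Set G) :=
        le_normalizer_inf' (hnormal N' E hN'n) Subgroup.le_normalizer
      have hB : ⁅N' ⊓ E, E⁆ ≤ pCore p G := by
        rcases (hirr E hE).dich (N' ⊓ E) inf_le_right hEn with hc | hc
        · exact hc.trans (h.pCoreOf_le_pCore hE)
        · exact absurd (hc.trans inf_le_left) (hA E hE)
      have hmod : N' ⊓ (E ⊔ pCore p G) = (N' ⊓ E) ⊔ pCore p G := modular_normal hQN'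
      have hZ1 : ⁅(N' ⊓ E) ⊔ pCore p G, E⁆ ≤ pCore p G := sup_comm_le hB
      have hZ2 : ⁅(N' ⊓ E) ⊔ pCore p G, (N' ⊓ E) ⊔ pCore p G⁆ ≤ pCore p G :=
        sup_comm_self_le inf_le_right hB
      have hAB : ⁅E, N₁⁆ ≤ (N' ⊓ E) ⊔ pCore p G := by
        rw [← hmod, Subgroup.commutator_le]
        intro e he n hn
        rw [hN₁] at hn
        refine ⟨?_, h.comm_mem hE (Subgroup.mem_sup_left he) hn.2⟩
        have e1 : ⁅e, n⁆ = (e * n * e⁻¹) * n⁻¹ := by rw [commutatorElement_def]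
        rw [e1]
        exact N'.mul_mem (hN'n.conj_mem n hn.1 e) (N'.inv_mem hn.1)
      have hle : E ⊔ pCore p G ≤ sSup 𝒦 ⊔ pCore p G := sup_le_sup_right (le_sSup hE) _
      have hZp := pElement_mem_pCore (p := p) (Z := (N' ⊓ E) ⊔ pCore p G) (K := sSup 𝒦 ⊔ pCore p G)
        le_sup_right (by rw [← hmod]; exact inf_le_right.trans hle)
        (by rw [← hmod]; exact le_normalizer_inf' (hnormal N' _ hN'n) (h.norm E hE)) hZ2
      exact comm_le_of_central_mod (hirr E hE).le_closure hAB hZ1 hZp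
    have hRN₁ : ⁅sSup 𝒦, N₁⁆ ≤ pCore p G := by
      rw [comm_le_iff]
      apply sSup_le
      intro E hE
      exact comm_le_iff.mp (hEN₁ E hE)
    -- step 3
    have hRcl : sSup 𝒦 ≤ Subgroup.closure {x : G | x ∈ sSup 𝒦 ∧ ∃ k : ℕ, x ^ p ^ k = 1} := by
      apply sSup_le
      intro E hE
      refine (hirr E hE).le_closure.trans (Subgroup.closure_mono ?_)
      rintro x ⟨hx, hk⟩
      exact ⟨le_sSup hE hx, hk⟩
    have hN₁n : N₁.Normal := by rw [hN₁]; infer_instance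
    have hQN₁ : pCore p G ≤ N₁ := by rw [hN₁]; exact le_inf hQN' le_sup_right
    have hAB' : ⁅sSup 𝒦, N'⁆ ≤ N₁ := by
      rw [hN₁]
      exact le_inf (Subgroup.commutator_le_right _ _)
        ((Subgroup.commutator_le_left _ _).trans le_sup_left)
    have hZZ' : ⁅N₁, N₁⁆ ≤ pCore p G := by
      have h1 : sSup 𝒦 ⊔ pCore p G ≤ cmod (pCore p G) N₁ :=
        sup_le (comm_le_iff.mp hRN₁) (le_cmod_self _)
      rw [comm_le_iff]
      refine le_trans ?_ h1
      rw [hN₁]; exact inf_le_right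
    have hZp' := pElement_mem_pCore (p := p) (Z := N₁) (K := sSup 𝒦 ⊔ pCore p G) hQN₁
      (by rw [hN₁]; exact inf_le_right) (hnormal N₁ _ hN₁n) hZZ'
    have hRN' : ⁅sSup 𝒦, N'⁆ ≤ pCore p G :=
      comm_le_of_central_mod hRcl hAB' (comm_le_symm hRN₁) hZp'
    -- step 4: N is p-closed
    obtain ⟨P, hP, -⟩ := exists_isSylowIn_ge (p := p) (Q := ⊥) (H := N) IsPGroup.of_bot bot_le
    apply isPClosed_of_sylow_normal hP
    have hresN : (pResidual p ↥N).map N.subtype ≤ sSup 𝒦 := by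
      refine le_trans ?_ h.res
      rw [AsymH.pRes_eq_closure]
      unfold pResidual
      apply Subgroup.closure_mono
      rintro x ⟨-, hc⟩
      exact hc
    have hQNP : pCore p G ⊓ N ≤ P :=
      hP.normal_le inf_le_right (le_normalizer_inf' (hnormal _ N hQn) Subgroup.le_normalizer)
        (hQp.to_le inf_le_left)
    have h1 : N ≤ (pResidual p ↥N).map N.subtype ⊔ P :=
      AsymY.le_sup_sylow (AsymH.pRes_le N) (AsymH.le_normalizer_pRes N) hP
        (fun x hx => AsymH.exists_pow_mem_pRes hx)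
    refine h1.trans (sup_le ?_ Subgroup.le_normalizer)
    apply le_normalizer_of_conj
    intro r hr x hx
    have hrN : r ∈ N := AsymH.pRes_le N hr
    have hxN : x ∈ N := hP.1 hx
    have h2 : ⁅r, x⁆ ∈ pCore p G := by
      apply hRN'
      apply Subgroup.commutator_mem_commutator (hresN hr)
      rw [hN']; exact Subgroup.mem_sup_left hxN
    have h3 : ⁅r, x⁆ ∈ N := by
      rw [commutatorElement_def]
      exact N.mul_mem (N.mul_mem (N.mul_mem hrN hxN) (N.inv_mem hrN)) (N.inv_mem hxN)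
    have e1 : r * x * r⁻¹ = ⁅r, x⁆ * x := by rw [commutatorElement_def]; group
    rw [e1]
    exact P.mul_mem (hQNP ⟨h2, h3⟩) hx

end main2


section dich

variable [Finite G] [Fact p.Prime] {𝒦 : Set (Subgroup G)}

theorem Fam.pRes_sup_le (h : Fam p 𝒦) {E K : Subgroup G} (hE : E ∈ 𝒦) (hK : K ∈ 𝒦)
    (hle : (pResidual p ↥E).map E.subtype ≤ K ⊔ pCore p G) :
    (pResidual p ↥(E ⊔ pCore p G)).map (E ⊔ pCore p G).subtype ≤
      (pResidual p ↥(K ⊔ pCore p G)).map (K ⊔ pCore p G).subtype := by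
  have hQp : IsPGroup p ↥(pCore p G) := Cfsg.Agent.H1.pCore_isPGroup p
  have hQn : (pCore p G).Normal := Cfsg.Agent.H1.pCore_normal p
  have hn : sSup 𝒦 ⊔ pCore p G ≤ Subgroup.normalizer
      (((pResidual p ↥(K ⊔ pCore p G)).map (K ⊔ pCore p G).subtype : Subgroup G) : Set G) :=
    AsymH.le_normalizer_pRes_of_le_normalizer (h.norm K hK)
  have h1 : (pResidual p ↥E).map E.subtype ≤
      (pResidual p ↥(K ⊔ pCore p G)).map (K ⊔ pCore p G).subtype := by
    rw [← WCFact.pRes_pRes (p := p) E]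
    exact AsymH.pRes_mono hle
  obtain ⟨P, hP, -⟩ := exists_isSylowIn_ge (p := p) (Q := ⊥) (H := E) IsPGroup.of_bot bot_le
  have h2 : E ≤ (pResidual p ↥E).map E.subtype ⊔ P :=
    AsymY.le_sup_sylow (AsymH.pRes_le E) (AsymH.le_normalizer_pRes E) hP
      (fun x hx => AsymH.exists_pow_mem_pRes hx)
  have hPQ : IsPGroup p ↥(P ⊔ pCore p G) := IsPGroup.to_sup_of_normal_right hP.isPGroup hQp
  have hPQle : P ⊔ pCore p G ≤ sSup 𝒦 ⊔ pCore p G :=
    sup_le_sup_right (hP.1.trans (le_sSup hE)) _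
  apply AsymH.pRes_le_of_sup_eq (hPQle.trans hn) hPQ
  apply sup_le
  · refine h2.trans (sup_le (h1.trans le_sup_right) (le_sup_left.trans le_sup_left))
  · exact le_sup_right.trans le_sup_left

omit [Fact p.Prime] in
theorem Fam.pRes_sup_eq_of_le (h : Fam p 𝒦) {E K : Subgroup G} (hE : E ∈ 𝒦) (hK : K ∈ 𝒦)
    (hle : (pResidual p ↥(E ⊔ pCore p G)).map (E ⊔ pCore p G).subtype ≤
      (pResidual p ↥(K ⊔ pCore p G)).map (K ⊔ pCore p G).subtype) :
    (pResidual p ↥(E ⊔ pCore p G)).map (E ⊔ pCore p G).subtype =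
      (pResidual p ↥(K ⊔ pCore p G)).map (K ⊔ pCore p G).subtype := by
  apply Subgroup.eq_of_le_of_card_ge hle
  obtain ⟨g, rfl⟩ := h.tr E hE K hK
  rw [← h.cj_sup g E, ← cj_pRes, card_cj]

theorem Fam.dichotomy (h : Fam p 𝒦) (hirr : ∀ E ∈ 𝒦, SIrr p E) {E K : Subgroup G}
    (hE : E ∈ 𝒦) (hK : K ∈ 𝒦) :
    (pResidual p ↥(E ⊔ pCore p G)).map (E ⊔ pCore p G).subtype =
      (pResidual p ↥(K ⊔ pCore p G)).map (K ⊔ pCore p G).subtype ∨ ⁅E, K⁆ ≤ pCore p G := by
  have hQn : (pCore p G).Normal := Cfsg.Agent.H1.pCore_normal p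
  have hRQn := h.RQ_normal
  obtain ⟨D, hD⟩ : ∃ D, D = (E ⊔ pCore p G) ⊓ (K ⊔ pCore p G) := ⟨_, rfl⟩
  have hEle : E ⊔ pCore p G ≤ sSup 𝒦 ⊔ pCore p G := sup_le_sup_right (le_sSup hE) _
  have hKle : K ⊔ pCore p G ≤ sSup 𝒦 ⊔ pCore p G := sup_le_sup_right (le_sSup hK) _
  have hDn : sSup 𝒦 ⊔ pCore p G ≤ Subgroup.normalizer (D : Set G) := by
    rw [hD]; exact le_normalizer_inf' (h.norm E hE) (h.norm K hK)
  have hQD : pCore p G ≤ D := by rw [hD]; exact le_inf le_sup_right le_sup_right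
  have hEn : E ≤ Subgroup.normalizer ((D ⊓ E : Subgroup G) : Set G) :=
    le_normalizer_inf' ((le_sup_left.trans hEle).trans hDn) Subgroup.le_normalizer
  have hKn : K ≤ Subgroup.normalizer ((D ⊓ K : Subgroup G) : Set G) :=
    le_normalizer_inf' ((le_sup_left.trans hKle).trans hDn) Subgroup.le_normalizer
  rcases (hirr E hE).dich (D ⊓ E) inf_le_right hEn with hcE | hcE
  swap
  · left
    apply h.pRes_sup_eq_of_le hE hK
    apply h.pRes_sup_le hE hK
    refine hcE.trans (inf_le_left.trans ?_)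
    rw [hD]; exact inf_le_right
  rcases (hirr K hK).dich (D ⊓ K) inf_le_right hKn with hcK | hcK
  swap
  · left
    symm
    apply h.pRes_sup_eq_of_le hK hE
    apply h.pRes_sup_le hK hE
    refine hcK.trans (inf_le_left.trans ?_)
    rw [hD]; exact inf_le_left
  right
  have hB : ⁅D ⊓ E, E⁆ ≤ pCore p G := hcE.trans (h.pCoreOf_le_pCore hE)
  have hmod : D = (D ⊓ E) ⊔ pCore p G := by
    rw [← modular_normal hQD, inf_eq_left.mpr]
    rw [hD]; exact inf_le_left
  have hZ1 : ⁅D, E⁆ ≤ pCore p G := by rw [hmod]; exact sup_comm_le hB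
  have hZ2 : ⁅D, D⁆ ≤ pCore p G := by rw [hmod]; exact sup_comm_self_le inf_le_right hB
  have hAB : ⁅E, K⁆ ≤ D := by
    rw [Subgroup.commutator_le]
    intro e he k hk
    rw [hD]
    refine ⟨h.comm_mem hE (Subgroup.mem_sup_left he) (hKle (Subgroup.mem_sup_left hk)), ?_⟩
    have h1 := h.comm_mem hK (Subgroup.mem_sup_left hk) (hEle (Subgroup.mem_sup_left he))
    have e1 : ⁅e, k⁆ = (⁅k, e⁆)⁻¹ := (commutatorElement_inv k e).symm
    rw [e1]
    exact Subgroup.inv_mem _ h1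
  have hZp := pElement_mem_pCore (p := p) (Z := D) (K := sSup 𝒦 ⊔ pCore p G) hQD
    (by rw [hD]; exact inf_le_left.trans hEle) hDn hZ2
  exact comm_le_of_central_mod (hirr E hE).le_closure hAB hZ1 hZp

end dich

end Cfsg.Agent.Lib.Helper7.PMinFam
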